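import Mathlib
import Groth.Prelude.Def_EGA4b
import Groth.Agent.Lib.FFTransfer_helper3
import Groth.Agent.Lib.ComplTensor_helper3
import Groth.Agent.Lib.CompleteFinite_helper3
import Groth.Agent.Lib.RegHomBC_helper3
import Groth.Agent.Lib.Serre2_helper5

/-!
# Transfer steps for "complete local rings are G-rings" (helper3)

* `isRegularRing_tensor_cpl_of_flat_complete` (E2): `A₁ → Y` a flat local homomorphism to a
  complete Noetherian local ring with `K ⊗ Y` regular ⇒ `K ⊗ Â₁` regular.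
* `exists_ringEquiv_tensor_cpl_of_surjective` (E1): for a surjection `A → C` of local rings,
  `K ⊗[A] Â ≅ K ⊗[C] Ĉ`.
* `isRegularRing_tensor_cpl_of_finite_complete` (E3core).
-/

set_option autoImplicit false

namespace Groth.Agent.Lib.GRingCoreH3

universe u

open TensorProduct IsLocalRing

section Transfer

variable (A₁ Y : Type u) [CommRing A₁] [CommRing Y] [IsNoetherianRing A₁] [IsNoetherianRing Y]
  [IsLocalRing A₁] [IsLocalRing Y] [Algebra A₁ Y] [IsLocalHom (algebraMap A₁ Y)]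
  [Module.Flat A₁ Y] [IsAdicComplete (maximalIdeal Y) Y]

theorem isRegularRing_tensor_cpl_of_flat_complete (K : Type u) [Field K] [Algebra A₁ K]
    (h : IsRegularRing (K ⊗[A₁] Y)) : IsRegularRing (K ⊗[A₁] EGA4.Cpl A₁) := by
  letI := FFTransferH3.algCpl A₁ Y
  haveI := FFTransferH3.tower A₁ Y
  haveI := FFTransferH3.tower' A₁ Y
  haveI := FFTransferH3.faithfullyFlat_cpl A₁ Y
  let e₀ : Y ≃ₐ[A₁] EGA4.Cpl Y :=
    (AdicCompletion.ofAlgEquiv (maximalIdeal Y)).restrictScalars A₁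
  let e₁ : K ⊗[A₁] Y ≃ₐ[A₁] K ⊗[A₁] EGA4.Cpl Y :=
    Algebra.TensorProduct.congr AlgEquiv.refl e₀
  haveI := h
  have h1 : IsRegularRing (K ⊗[A₁] EGA4.Cpl Y) :=
    IsRegularRing.of_ringEquiv (R := K ⊗[A₁] Y) e₁.toRingEquiv
  exact FFTransferH3.descent_tensor A₁ (EGA4.Cpl A₁) (EGA4.Cpl Y)
    (fun (R : Type u) [CommRing R] => IsRegularRing R)
    (fun R R' _ _ e hR => by
      haveI := hR
      exact IsRegularRing.of_ringEquiv e)
    (fun R R' _ _ _ _ hR' => by
      haveI := hR'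
      exact Groth.Agent.Serre.regularRing_of_faithfullyFlat R R')
    K h1

end Transfer

section Quotient

variable (A C : Type u) [CommRing A] [CommRing C] [IsLocalRing A] [IsNoetherianRing A]
  [IsLocalRing C] [Algebra A C]

theorem exists_ringEquiv_tensor_cpl_of_surjective
    (hsurj : Function.Surjective (algebraMap A C))
    (K : Type u) [CommRing K] [Algebra A K] [Algebra C K] [IsScalarTower A C K] :
    Nonempty (K ⊗[A] EGA4.Cpl A ≃+* K ⊗[C] EGA4.Cpl C) := by
  haveI : Module.Finite A C :=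
    Module.Finite.of_surjective (Algebra.linearMap A C) hsurj
  have hmax : (maximalIdeal A).map (algebraMap A C) = maximalIdeal C :=
    IsLocalRing.map_maximalIdeal_of_surjective (algebraMap A C) hsurj
  obtain ⟨e, he⟩ := ComplTensorH3.exists_ringEquiv A C (maximalIdeal C) 1 hmax.le
    (by rw [pow_one, hmax])
  let e' : EGA4.Cpl C ≃ₐ[C] C ⊗[A] EGA4.Cpl A :=
    AlgEquiv.ofRingEquiv (f := e) (fun c => he c)
  let e₁ : K ⊗[C] EGA4.Cpl C ≃ₐ[K] K ⊗[C] (C ⊗[A] EGA4.Cpl A) :=
    Algebra.TensorProduct.congr AlgEquiv.refl e'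
  let e₂ : K ⊗[C] (C ⊗[A] EGA4.Cpl A) ≃ₐ[K] K ⊗[A] EGA4.Cpl A :=
    Algebra.TensorProduct.cancelBaseChange A C K K (EGA4.Cpl A)
  exact ⟨(e₁.trans e₂).symm.toRingEquiv⟩

end Quotient

section Core

variable (B A₁ : Type u) [CommRing B] [CommRing A₁] [Algebra B A₁] (M : Submonoid B)
  [IsLocalization M A₁] [IsLocalRing A₁] [IsNoetherianRing A₁]
  (Dh Ch : Type u) [CommRing Dh] [IsLocalRing Dh] [IsNoetherianRing Dh]
  [IsAdicComplete (maximalIdeal Dh) Dh]
  [CommRing Ch] [Algebra Dh Ch] [Module.Finite Dh Ch] [Algebra B Ch] [Module.Flat B Ch]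

include M Dh in
theorem isRegularRing_tensor_cpl_of_finite_complete
    (𝔫 : Ideal Ch) [h𝔫 : 𝔫.IsMaximal]
    (hcomap : 𝔫.comap (algebraMap B Ch) = (maximalIdeal A₁).comap (algebraMap B A₁))
    (K : Type u) [Field K] [Algebra B K] [Algebra A₁ K] [IsScalarTower B A₁ K]
    (hreg : IsRegularRing (K ⊗[B] Ch)) : IsRegularRing (K ⊗[A₁] EGA4.Cpl A₁) := by
  obtain ⟨hYn, hYc⟩ := CompleteFiniteH3.isAdicComplete_localization Dh Ch ⟨𝔫, h𝔫⟩
  -- abbreviations
  obtain ⟨Y, _, _, _, _, _, hYN, hYC⟩ : ∃ (Y : Type u) (_ : CommRing Y) (_ : Algebra Ch Y)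
      (_ : IsLocalization.AtPrime Y 𝔫) (_ : IsLocalRing Y) (_ : True),
      IsNoetherianRing Y ∧ IsAdicComplete (maximalIdeal Y) Y :=
    ⟨Localization.AtPrime 𝔫, inferInstance, inferInstance, inferInstance, inferInstance,
      trivial, hYn, hYc⟩
  haveI := hYN
  haveI := hYC
  letI algBY : Algebra B Y := ((algebraMap Ch Y).comp (algebraMap B Ch)).toAlgebra
  haveI towBChY : IsScalarTower B Ch Y := IsScalarTower.of_algebraMap_eq (fun _ => rfl)
  -- elements of `M` become units in `Y`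
  have hM : ∀ m : M, IsUnit (algebraMap B Y m) := by
    intro m
    have h1 : (m : B) ∉ 𝔫.comap (algebraMap B Ch) := by
      rw [hcomap, Ideal.mem_comap]
      intro hm
      exact (IsLocalRing.mem_maximalIdeal _).mp hm (IsLocalization.map_units A₁ m)
    rw [IsScalarTower.algebraMap_apply B Ch Y]
    exact IsLocalization.map_units Y (⟨algebraMap B Ch m, h1⟩ : 𝔫.primeCompl)
  letI algA₁Y : Algebra A₁ Y := (IsLocalization.lift (M := M) (g := algebraMap B Y) hM).toAlgebra
  haveI towBA₁Y : IsScalarTower B A₁ Y := IsScalarTower.of_algebraMap_eq (fun b =>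
    (IsLocalization.lift_eq (M := M) hM b).symm)
  -- flatness
  haveI : Module.Flat Ch Y := IsLocalization.flat Y 𝔫.primeCompl
  haveI : Module.Flat B Y := Module.Flat.trans B Ch Y
  haveI : Module.Flat A₁ Y := (Module.flat_iff_of_isLocalization A₁ M Y).mpr inferInstance
  -- local homomorphism
  haveI : IsLocalHom (algebraMap A₁ Y) := by
    apply ((IsLocalRing.local_hom_TFAE (algebraMap A₁ Y)).out 0 2).mpr
    rw [Ideal.map_le_iff_le_comap]
    intro x hx
    obtain ⟨b, m, rfl⟩ := IsLocalization.exists_mk'_eq M x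
    have hb : b ∈ (maximalIdeal A₁).comap (algebraMap B A₁) := by
      rw [Ideal.mem_comap, ← IsLocalization.mk'_spec A₁ b m]
      exact Ideal.mul_mem_right _ _ hx
    rw [← hcomap, Ideal.mem_comap] at hb
    rw [Ideal.mem_comap]
    have h2 : algebraMap A₁ Y (IsLocalization.mk' A₁ b m) * algebraMap B Y m =
        algebraMap B Y b := by
      rw [IsScalarTower.algebraMap_apply B A₁ Y, IsScalarTower.algebraMap_apply B A₁ Y b,
        ← map_mul, IsLocalization.mk'_spec]
    have h3 : algebraMap B Y b ∈ maximalIdeal Y := by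
      rw [IsScalarTower.algebraMap_apply B Ch Y, ← IsLocalization.AtPrime.map_eq_maximalIdeal 𝔫 Y]
      exact Ideal.mem_map_of_mem _ hb
    rw [← h2] at h3
    rcases (Ideal.IsPrime.mem_or_mem (maximalIdeal.isMaximal Y).isPrime h3) with h4 | h4
    · exact h4
    · exact absurd (hM m) ((IsLocalRing.mem_maximalIdeal _).mp h4)
  -- regularity of `K ⊗[A₁] Y`
  haveI := hreg
  haveI h5 : IsRegularRing (K ⊗[B] Y) :=
    RegHomBCH3.isRegularRing_tensor_localization B K Ch 𝔫.primeCompl Y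
  let e : K ⊗[A₁] Y ≃ₐ[A₁] K ⊗[B] Y := IsLocalization.algebraTensorEquiv M A₁ K Y
  have h6 : IsRegularRing (K ⊗[A₁] Y) :=
    IsRegularRing.of_ringEquiv (R := K ⊗[B] Y) e.symm.toRingEquiv
  exact isRegularRing_tensor_cpl_of_flat_complete A₁ Y K h6

end Core

end Groth.Agent.Lib.GRingCoreH3
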