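import Mathlib
import Groth.Prelude.Def_EGA4b
import Groth.Agent.Lib.GRingCore_helper3
import Groth.Agent.Lib.GeomNormal_helper3
import Groth.Agent.Lib.QENagata_helper3

/-!
# Formal fibres of a quotient of a local ring (helper3)

For a prime `p̄` of `A ⧸ I` with contraction `p` in `A`, and a `κ(p̄)`-algebra `k'`:
`k' ⊗[κ(p)] (κ(p) ⊗[A] Â) ≃+* k' ⊗[κ(p̄)] (κ(p̄) ⊗[A/I] (A/I)^)`.
-/

set_option autoImplicit false

namespace Groth.Agent.Lib.QuotFormalFibreH3

universe u

open TensorProduct IsLocalRing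

variable (A : Type u) [CommRing A] [IsNoetherianRing A] [IsLocalRing A] (I : Ideal A)
  [Nontrivial (A ⧸ I)]

theorem exists_ringEquiv (pb : Ideal (A ⧸ I)) [pb.IsPrime] (k' : Type u) [CommRing k']
    [Algebra pb.ResidueField k'] :
    ∃ (_ : Algebra (pb.comap (Ideal.Quotient.mk I)).ResidueField k'),
      (Module.Finite pb.ResidueField k' →
        Module.Finite (pb.comap (Ideal.Quotient.mk I)).ResidueField k') ∧
      Nonempty (k' ⊗[(pb.comap (Ideal.Quotient.mk I)).ResidueField]
          EGA4.formalFibre A (pb.comap (Ideal.Quotient.mk I)) ≃+*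
        k' ⊗[pb.ResidueField] EGA4.formalFibre (A ⧸ I) pb) := by
  let σ : (pb.comap (Ideal.Quotient.mk I)).ResidueField →+* pb.ResidueField :=
    Ideal.ResidueField.map (pb.comap (Ideal.Quotient.mk I)) pb (Ideal.Quotient.mk I) rfl
  have hσ : Function.Bijective σ :=
    RingHom.SurjectiveOnStalks.residueFieldMap_bijective
      (RingHom.surjectiveOnStalks_of_surjective Ideal.Quotient.mk_surjective) _ _ rfl
  letI algκκ : Algebra (pb.comap (Ideal.Quotient.mk I)).ResidueField pb.ResidueField :=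
    σ.toAlgebra
  letI algκk : Algebra (pb.comap (Ideal.Quotient.mk I)).ResidueField k' :=
    Algebra.compHom k' σ
  haveI towκκk : IsScalarTower (pb.comap (Ideal.Quotient.mk I)).ResidueField pb.ResidueField k' :=
    IsScalarTower.of_algebraMap_eq (fun _ => rfl)
  letI algQk : Algebra (A ⧸ I) k' := Algebra.compHom k' (algebraMap (A ⧸ I) pb.ResidueField)
  haveI towQκk : IsScalarTower (A ⧸ I) pb.ResidueField k' :=
    IsScalarTower.of_algebraMap_eq (fun _ => rfl)
  letI algAk : Algebra A k' := Algebra.compHom k' (algebraMap A (A ⧸ I))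
  haveI towAQk : IsScalarTower A (A ⧸ I) k' := IsScalarTower.of_algebraMap_eq (fun _ => rfl)
  haveI towAκk : IsScalarTower A (pb.comap (Ideal.Quotient.mk I)).ResidueField k' :=
    IsScalarTower.of_algebraMap_eq (fun a => by
      show algebraMap pb.ResidueField k' (algebraMap (A ⧸ I) pb.ResidueField
          (algebraMap A (A ⧸ I) a)) =
        algebraMap pb.ResidueField k' (σ (algebraMap A _ a))
      rw [Ideal.ResidueField.map_algebraMap]
      rfl)
  refine ⟨algκk, ?_, ?_⟩
  · intro hfin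
    haveI := hfin
    haveI : Module.Finite (pb.comap (Ideal.Quotient.mk I)).ResidueField pb.ResidueField :=
      Module.Finite.of_surjective (Algebra.linearMap _ _) hσ.2
    exact Module.Finite.trans pb.ResidueField k'
  · obtain ⟨e⟩ := GRingCoreH3.exists_ringEquiv_tensor_cpl_of_surjective A (A ⧸ I)
      Ideal.Quotient.mk_surjective k'
    let e₁ : k' ⊗[(pb.comap (Ideal.Quotient.mk I)).ResidueField]
        EGA4.formalFibre A (pb.comap (Ideal.Quotient.mk I)) ≃ₐ[k'] k' ⊗[A] EGA4.Cpl A :=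
      Algebra.TensorProduct.cancelBaseChange A (pb.comap (Ideal.Quotient.mk I)).ResidueField
        k' k' (EGA4.Cpl A)
    let e₂ : k' ⊗[pb.ResidueField] EGA4.formalFibre (A ⧸ I) pb ≃ₐ[k']
        k' ⊗[A ⧸ I] EGA4.Cpl (A ⧸ I) :=
      Algebra.TensorProduct.cancelBaseChange (A ⧸ I) pb.ResidueField k' k' (EGA4.Cpl (A ⧸ I))
    exact ⟨(e₁.toRingEquiv.trans e).trans e₂.symm.toRingEquiv⟩

/-- S4738 -/
theorem hasGeomReducedFormalFibres_quotient (hA : EGA4.HasGeomReducedFormalFibres A) :
    EGA4.HasGeomReducedFormalFibres (A ⧸ I) := by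
  intro pb hpb
  apply Groth.Agent.Lib.QENagataH3.isGeometricallyReduced_of_forall_finite
  intro k' _ _ hfin
  obtain ⟨alg, hfin', ⟨e⟩⟩ := exists_ringEquiv A I pb k'
  letI := alg
  haveI := hfin' hfin
  haveI : Algebra.IsAlgebraic (pb.comap (Ideal.Quotient.mk I)).ResidueField k' :=
    Algebra.IsAlgebraic.of_finite _ _
  haveI := hA (pb.comap (Ideal.Quotient.mk I))
  have h1 : IsReduced (k' ⊗[(pb.comap (Ideal.Quotient.mk I)).ResidueField]
      EGA4.formalFibre A (pb.comap (Ideal.Quotient.mk I))) := inferInstance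
  exact Groth.Agent.Lib.FFTransferH3.isReduced_of_ringEquiv
    (R := k' ⊗[(pb.comap (Ideal.Quotient.mk I)).ResidueField]
      EGA4.formalFibre A (pb.comap (Ideal.Quotient.mk I))) e h1

/-- S4754 -/
theorem hasGeomNormalFormalFibres_quotient (hA : EGA4.HasGeomNormalFormalFibres A) :
    EGA4.HasGeomNormalFormalFibres (A ⧸ I) := by
  intro pb hpb k' _ _ hfin
  obtain ⟨alg, hfin', ⟨e⟩⟩ := exists_ringEquiv A I pb k'
  letI := alg
  exact Groth.Agent.Lib.GeomNormalH3.isNormalRing_of_ringEquiv e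
    (hA (pb.comap (Ideal.Quotient.mk I)) k' (hfin' hfin))

end Groth.Agent.Lib.QuotFormalFibreH3
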