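import Mathlib
import Groth.Prelude.Def_CAlg
import Groth.Prelude.Def_EGA4b
import Groth.Agent.Lib.SerreNormal_helper5
import Groth.Agent.Lib.QuotFormalFibre_helper3

/-!
# Cohen–Macaulay rings and ring isomorphisms; CM formal fibres of a quotient (helper3)
-/

set_option autoImplicit false

namespace Groth.Agent.Lib.CMEquivH3

universe u

open IsLocalRing TensorProduct

theorem isCohenMacaulayLocalRing_of_ringEquiv {R R' : Type u} [CommRing R] [CommRing R']
    (e : R ≃+* R') (h : LocCoh.IsCohenMacaulayLocalRing R) :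
    LocCoh.IsCohenMacaulayLocalRing R' := by
  haveI := h
  haveI : IsNoetherianRing R := h.toIsNoetherian
  haveI : IsLocalRing R := h.toIsLocalRing
  haveI : IsNoetherianRing R' := isNoetherianRing_of_ringEquiv R e
  haveI : IsLocalRing R' := e.isLocalRing
  refine { supportDim_eq_depth := ?_ }
  have h1 := h.supportDim_eq_depth
  rw [Module.supportDim_self_eq_ringKrullDim] at h1 ⊢
  rw [← ringKrullDim_eq_of_ringEquiv e, h1,
    Groth.Agent.SerreLib.depth_eq_of_ringEquiv R R' e]

theorem isCohenMacaulayRing_of_ringEquiv {R R' : Type u} [CommRing R] [CommRing R']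
    (e : R ≃+* R') (h : LocCoh.IsCohenMacaulayRing R) : LocCoh.IsCohenMacaulayRing R' := by
  haveI : IsNoetherianRing R := h.toIsNoetherian
  haveI : IsNoetherianRing R' := isNoetherianRing_of_ringEquiv R e
  refine { isCohenMacaulayLocalRing_localization := fun p' hp' => ?_ }
  have e' : Localization.AtPrime (p'.comap e) ≃+* Localization.AtPrime p' :=
    IsLocalization.ringEquivOfRingEquiv
      (Localization.AtPrime (p'.comap e)) (Localization.AtPrime p') e
      (e.map_primeCompl_comap_eq p')
  exact isCohenMacaulayLocalRing_of_ringEquiv e'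
    (h.isCohenMacaulayLocalRing_localization (p'.comap e))

section Quot

variable (A : Type u) [CommRing A] [IsNoetherianRing A] [IsLocalRing A] (I : Ideal A)
  [Nontrivial (A ⧸ I)]

theorem nonempty_ringEquiv_formalFibre (pb : Ideal (A ⧸ I)) [pb.IsPrime] :
    Nonempty (EGA4.formalFibre A (pb.comap (Ideal.Quotient.mk I)) ≃+*
      EGA4.formalFibre (A ⧸ I) pb) := by
  let σ : (pb.comap (Ideal.Quotient.mk I)).ResidueField →+* pb.ResidueField :=
    Ideal.ResidueField.map (pb.comap (Ideal.Quotient.mk I)) pb (Ideal.Quotient.mk I) rfl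
  have hσ : Function.Bijective σ :=
    RingHom.SurjectiveOnStalks.residueFieldMap_bijective
      (RingHom.surjectiveOnStalks_of_surjective Ideal.Quotient.mk_surjective) _ _ rfl
  letI algκκ : Algebra (pb.comap (Ideal.Quotient.mk I)).ResidueField pb.ResidueField :=
    σ.toAlgebra
  haveI towAQk : IsScalarTower A (A ⧸ I) pb.ResidueField := inferInstance
  haveI towAκk : IsScalarTower A (pb.comap (Ideal.Quotient.mk I)).ResidueField pb.ResidueField :=
    IsScalarTower.of_algebraMap_eq (fun a => by
      rw [IsScalarTower.algebraMap_apply A (A ⧸ I) pb.ResidueField]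
      show algebraMap (A ⧸ I) pb.ResidueField (algebraMap A (A ⧸ I) a) =
        σ (algebraMap A _ a)
      rw [Ideal.ResidueField.map_algebraMap]
      rfl)
  obtain ⟨e⟩ := GRingCoreH3.exists_ringEquiv_tensor_cpl_of_surjective A (A ⧸ I)
    Ideal.Quotient.mk_surjective pb.ResidueField
  let τ : (pb.comap (Ideal.Quotient.mk I)).ResidueField ≃ₐ[A] pb.ResidueField :=
    AlgEquiv.ofBijective (IsScalarTower.toAlgHom A _ _) hσ
  let e₀ : EGA4.formalFibre A (pb.comap (Ideal.Quotient.mk I)) ≃ₐ[A]
      pb.ResidueField ⊗[A] EGA4.Cpl A :=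
    Algebra.TensorProduct.congr τ AlgEquiv.refl
  exact ⟨e₀.toRingEquiv.trans e⟩

/-- S4755 -/
theorem hasCMFormalFibres_quotient (hA : EGA4.HasCMFormalFibres A) :
    EGA4.HasCMFormalFibres (A ⧸ I) := by
  intro pb hpb
  obtain ⟨e⟩ := nonempty_ringEquiv_formalFibre A I pb
  exact isCohenMacaulayRing_of_ringEquiv e (hA (pb.comap (Ideal.Quotient.mk I)))

end Quot

end Groth.Agent.Lib.CMEquivH3
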