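import Mathlib

set_option autoImplicit false
universe u

open CategoryTheory AlgebraicGeometry Limits

namespace QFH8

section

variable {X S X' S' : Scheme.{u}} {f : X ⟶ S} {g : S' ⟶ S} {g' : X' ⟶ X} {f' : X' ⟶ S'}

/-- `X.fromSpecStalk x` is locally quasi-finite. -/
theorem locallyQuasiFinite_fromSpecStalk (X : Scheme.{u}) (x : X) :
    LocallyQuasiFinite (X.fromSpecStalk x) := by
  have h := Scheme.Hom.quasiFiniteAt_iff (f := 𝟙 X) (x := x)
  rw [Category.comp_id] at h
  rw [← h]
  exact Scheme.Hom.quasiFiniteAt (𝟙 X) x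

/-- Quasi-finiteness at a point is stable under base change. -/
theorem quasiFiniteAt_of_isPullback (hsq : IsPullback g' f' f g) (x' : X')
    (hx : f.QuasiFiniteAt (g' x')) : f'.QuasiFiniteAt x' := by
  rw [Scheme.Hom.quasiFiniteAt_iff] at hx ⊢
  -- W = Spec O_{X,x} ×_X X'
  let a : Spec (X'.presheaf.stalk x') ⟶ pullback (X.fromSpecStalk (g' x')) g' :=
    pullback.lift (Spec.map (g'.stalkMap x')) (X'.fromSpecStalk x')
      (Scheme.SpecMap_stalkMap_fromSpecStalk g')
  have ha : a ≫ pullback.snd (X.fromSpecStalk (g' x')) g' = X'.fromSpecStalk x' :=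
    pullback.lift_snd _ _ _
  haveI := locallyQuasiFinite_fromSpecStalk X' x'
  haveI : LocallyQuasiFinite (a ≫ pullback.snd (X.fromSpecStalk (g' x')) g') := by
    rw [ha]; infer_instance
  haveI : LocallyQuasiFinite a := LocallyQuasiFinite.of_comp a (pullback.snd _ _)
  have sq1 : IsPullback (pullback.snd (X.fromSpecStalk (g' x')) g')
      (pullback.fst (X.fromSpecStalk (g' x')) g') g' (X.fromSpecStalk (g' x')) :=
    (IsPullback.of_hasPullback _ _).flip
  have sq2 := sq1.paste_horiz hsq.flip
  haveI : LocallyQuasiFinite (pullback.snd (X.fromSpecStalk (g' x')) g' ≫ f') :=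
    MorphismProperty.of_isPullback (P := @LocallyQuasiFinite) sq2.flip hx
  rw [← ha, Category.assoc]
  infer_instance

/-- `QuasiFiniteAt` in terms of the fibre over an arbitrary name `y` of `f x`. -/
theorem quasiFiniteAt_iff_isOpen_singleton (f : X ⟶ S) [LocallyOfFiniteType f] (y : S) (x : X)
    (h : f x = y) :
    f.QuasiFiniteAt x ↔ IsOpen ({(f.fiberHomeo y).symm ⟨x, h⟩} : Set (f.fiber y)) := by
  subst h
  exact Scheme.Hom.quasiFiniteAt_iff_isOpen_singleton_asFiber

theorem quasiFiniteAt_of_isPullback' [LocallyOfFiniteType f] (hsq : IsPullback g' f' f g) (x' : X')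
    (hx : f'.QuasiFiniteAt x') : f.QuasiFiniteAt (g' x') := by
  haveI : LocallyOfFiniteType f' := MorphismProperty.of_isPullback hsq inferInstance
  rw [Scheme.Hom.quasiFiniteAt_iff_isOpen_singleton_asFiber] at hx
  have hfg : f (g' x') = g (f' x') := by
    have := congrArg (fun q => q.base x') hsq.w
    simpa using this
  rw [quasiFiniteAt_iff_isOpen_singleton f (g (f' x')) (g' x') hfg]
  have sq := isPullback_fiberToSpecResidueField_of_isPullback hsq (f' x')
  obtain ⟨π, hπ⟩ : ∃ π : f'.fiber (f' x') ⟶ f.fiber (g (f' x')),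
      π = pullback.map f' (S'.fromSpecResidueField (f' x')) f
      (S.fromSpecResidueField (g (f' x'))) g' (Spec.map (g.residueFieldMap (f' x'))) g hsq.w.symm
      (by simp) := ⟨_, rfl⟩
  rw [← hπ] at sq
  haveI : UniversallyOpen π :=
    MorphismProperty.of_isPullback (P := @UniversallyOpen) sq.flip inferInstance
  have hπι : π ≫ f.fiberι (g (f' x')) = f'.fiberι (f' x') ≫ g' := by
    rw [hπ]
    exact pullback.lift_fst _ _ _
  have himg : π '' {f'.asFiber x'} = {(f.fiberHomeo (g (f' x'))).symm ⟨g' x', hfg⟩} := by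
    rw [Set.image_singleton]
    congr 1
    apply (f.fiberHomeo (g (f' x'))).injective
    rw [Homeomorph.apply_symm_apply]
    apply Subtype.ext
    rw [Scheme.Hom.fiberHomeo_apply]
    have := congrArg (fun q => q.base (f'.asFiber x')) hπι
    simp only [Scheme.Hom.comp_base, TopCat.hom_comp, ContinuousMap.comp_apply] at this
    rw [this]
    congr 1
    exact f'.fiberι_asFiber x'
  rw [← himg]
  exact π.isOpenMap _ hx

theorem setOf_quasiFiniteAt_baseChange [LocallyOfFiniteType f] (hsq : IsPullback g' f' f g) :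
    {x' : X' | f'.QuasiFiniteAt x'} = g' ⁻¹' {x : X | f.QuasiFiniteAt x} := by
  ext x'
  exact ⟨quasiFiniteAt_of_isPullback' hsq x', quasiFiniteAt_of_isPullback hsq x'⟩

end

end QFH8
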