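import Mathlib
import Groth.Agent.Lib.QF1_helper8

set_option autoImplicit false
universe u

open CategoryTheory AlgebraicGeometry Limits TopologicalSpace

namespace QFH8

/-- In a Noetherian quasi-sober space, a closed point without proper generizations is open. -/
theorem isOpen_singleton_of_noetherianSpace {T : Type*} [TopologicalSpace T] [NoetherianSpace T]
    [QuasiSober T] (z : T) (hcl : IsClosed ({z} : Set T)) (hgen : ∀ w : T, w ⤳ z → w = z) :
    IsOpen ({z} : Set T) := by
  have key : ∀ Z ∈ irreducibleComponents T, z ∈ Z → Z = {z} := by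
    intro Z hZ hz
    obtain ⟨η, hη⟩ := QuasiSober.sober hZ.1 (isClosed_of_mem_irreducibleComponents Z hZ)
    have h1 : η ⤳ z := by
      rw [specializes_iff_mem_closure, hη.def]
      exact hz
    have h2 := hgen η h1
    rw [← hη.def, h2, hcl.closure_eq]
  have hfin : ({Z ∈ irreducibleComponents T | Z ≠ {z}}).Finite :=
    (NoetherianSpace.finite_irreducibleComponents (α := T)).subset (fun Z hZ => hZ.1)
  have hC : IsClosed (⋃₀ {Z ∈ irreducibleComponents T | Z ≠ {z}}) :=
    by
      rw [Set.sUnion_eq_biUnion]
      exact hfin.isClosed_biUnion fun Z hZ => isClosed_of_mem_irreducibleComponents Z hZ.1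
  have heq : ({z} : Set T) = (⋃₀ {Z ∈ irreducibleComponents T | Z ≠ {z}})ᶜ := by
    ext w
    simp only [Set.mem_singleton_iff, Set.mem_compl_iff, Set.mem_sUnion, Set.mem_ofPred_eq,
      not_exists, not_and]
    constructor
    · rintro rfl Z ⟨hZ, hne⟩ hwZ
      exact hne (key Z hZ hwZ)
    · intro h
      by_contra hw
      refine h (irreducibleComponent w) ⟨irreducibleComponent_mem_irreducibleComponents w, ?_⟩
        mem_irreducibleComponent
      intro h2
      have : w ∈ ({z} : Set T) := h2 ▸ mem_irreducibleComponent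
      exact hw this
  rw [heq]
  exact hC.isOpen_compl

/-- Local version: it suffices that `z` has an open neighbourhood which is Noetherian and
quasi-sober. -/
theorem isOpen_singleton_of_locally {T : Type*} [TopologicalSpace T] (U : Opens T)
    [NoetherianSpace U] [QuasiSober U] (z : T) (hzU : z ∈ U) (hcl : IsClosed ({z} : Set T))
    (hgen : ∀ w : T, w ⤳ z → w = z) : IsOpen ({z} : Set T) := by
  have h1 : IsOpen ({⟨z, hzU⟩} : Set U) := by
    apply isOpen_singleton_of_noetherianSpace
    · have : ({⟨z, hzU⟩} : Set U) = Subtype.val ⁻¹' ({z} : Set T) := by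
        ext w
        simp [Subtype.ext_iff]
      rw [this]
      exact hcl.preimage continuous_subtype_val
    · intro w hw
      apply Subtype.ext
      apply hgen
      exact hw.map continuous_subtype_val
  have h2 := U.isOpen.isOpenMap_subtype_val _ h1
  simpa using h2

section

variable {X S : Scheme.{u}} (f : X ⟶ S) [LocallyOfFiniteType f]

instance isLocallyNoetherian_fiber (y : S) : IsLocallyNoetherian (f.fiber y) :=
  inferInstanceAs (IsLocallyNoetherian (pullback f (S.fromSpecResidueField y)))

theorem isOpen_singleton_fiber_of_closed_of_gen (y : S) (z : f.fiber y)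
    (hcl : IsClosed ({z} : Set (f.fiber y)))
    (hgen : ∀ w : f.fiber y, w ⤳ z → w = z) : IsOpen ({z} : Set (f.fiber y)) := by
  obtain ⟨U, hU, hzU, -⟩ := exists_isAffineOpen_mem_and_subset (X := f.fiber y) (x := z)
    (U := ⊤) trivial
  haveI : IsNoetherianRing Γ(f.fiber y, U) := IsLocallyNoetherian.component_noetherian ⟨U, hU⟩
  have h1 : NoetherianSpace U := noetherianSpace_of_isAffineOpen U hU
  have h2 : QuasiSober U.toScheme := inferInstance
  exact @isOpen_singleton_of_locally (f.fiber y) _ U h1 h2 z hzU hcl hgen

theorem quasiFiniteAt_iff_closed_and_gen (x : X) :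
    f.QuasiFiniteAt x ↔
      (IsClosed ({f.asFiber x} : Set ↑(f.fiber (f.base x))) ∧
        ∀ x' : ↑(f.fiber (f.base x)), x' ⤳ f.asFiber x → x' = f.asFiber x) := by
  constructor
  · intro hx
    have h := hx.isClopen_singleton_asFiber
    refine ⟨h.1, fun x' hx' => ?_⟩
    exact hx'.mem_open h.2 rfl
  · rintro ⟨hcl, hgen⟩
    rw [Scheme.Hom.quasiFiniteAt_iff_isOpen_singleton_asFiber]
    exact isOpen_singleton_fiber_of_closed_of_gen f _ _ hcl hgen

end

end QFH8
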