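import Mathlib
import Groth.Agent.Lib.FibSk3_helper5
import Groth.Agent.Lib.FibStalkIso_helper5
import Groth.Agent.Lib.GenFlatSch_helper8
import Groth.Agent.Lib.FibInjF_helper6
import Groth.Agent.Lib.CMMor5_helper8
import Groth.Agent.Lib.CMEquiv_helper3
import Groth.Agent.Lib.QF2_helper8

/-!
# Fibrewise (S_k), part 4: from rings to schemes (helper5)

* `nonempty_fib_ringEquiv`: for affine opens `U ⊆ f⁻¹ V`, the local ring of the fibre of `f` at
  `y ∈ U` is `B_q / pB_q` with `B = Γ(X,U)`, `A = Γ(Y,V)`.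
* `isOpen_fibre_hasSk`: EGA IV 12.1.6 for `(S_k)`: the fibrewise `(S_k)` locus of a flat morphism
  locally of finite presentation is open.

APPEND-ONLY once landed.
-/

set_option autoImplicit false

namespace Groth.Agent.Lib.FibSkH5

open AlgebraicGeometry CategoryTheory TopologicalSpace

universe u

variable {X Y : Scheme.{u}} (f : X ⟶ Y) {V : Y.Opens} (hV : IsAffineOpen V) {U : X.Opens}
  (hU : IsAffineOpen U) (e : U ≤ f ⁻¹ᵁ V)

include hV hU in
theorem primeIdealOf_comap {y : X} (hyU : y ∈ U) :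
    (hU.primeIdealOf ⟨y, hyU⟩).asIdeal.comap (f.appLE V U e).hom =
      (hV.primeIdealOf ⟨f y, e hyU⟩).asIdeal := by
  ext a
  rw [Ideal.mem_comap, Groth.Agent.Lib.FibInjH6.mem_primeIdealOf_iff hU hyU,
    Groth.Agent.Lib.FibInjH6.mem_primeIdealOf_iff hV (e hyU),
    ← GenFlatSchH8.stalkMap_germ_appLE f e hyU a]
  rw [IsLocalRing.mem_maximalIdeal, IsLocalRing.mem_maximalIdeal, mem_nonunits_iff,
    mem_nonunits_iff, isUnit_map_iff (f.stalkMap y).hom]

include hV hU in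
/-- the ring-level fibre ring at the prime of `y` is the local ring of the fibre at `y` -/
theorem nonempty_fib_ringEquiv {y : X} (hyU : y ∈ U) :
    letI : Algebra Γ(Y, V) Γ(X, U) := (f.appLE V U e).hom.toAlgebra
    Nonempty (Fib Γ(Y, V) (hU.primeIdealOf ⟨y, hyU⟩).asIdeal ≃+*
      (f.fiber (f y)).presheaf.stalk (f.asFiber y)) := by
  letI algAB : Algebra Γ(Y, V) Γ(X, U) := (f.appLE V U e).hom.toAlgebra
  set q : Ideal Γ(X, U) := (hU.primeIdealOf ⟨y, hyU⟩).asIdeal with hq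
  letI aX : Algebra Γ(X, U) (X.presheaf.stalk y) :=
    TopCat.Presheaf.algebra_section_stalk X.presheaf (⟨y, hyU⟩ : U)
  letI aY : Algebra Γ(Y, V) (Y.presheaf.stalk (f y)) :=
    TopCat.Presheaf.algebra_section_stalk Y.presheaf (⟨f y, e hyU⟩ : V)
  haveI : IsLocalization.AtPrime (X.presheaf.stalk y) q := hU.isLocalization_stalk ⟨y, hyU⟩
  haveI : IsLocalization.AtPrime (Y.presheaf.stalk (f y))
      (hV.primeIdealOf ⟨f y, e hyU⟩).asIdeal := hV.isLocalization_stalk ⟨f y, e hyU⟩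
  let e₁ : Localization.AtPrime q ≃ₐ[Γ(X, U)] X.presheaf.stalk y :=
    IsLocalization.algEquiv q.primeCompl _ _
  have hcomap : q.comap (algebraMap Γ(Y, V) Γ(X, U)) =
      (hV.primeIdealOf ⟨f y, e hyU⟩).asIdeal := primeIdealOf_comap f hV hU e hyU
  have hmax : IsLocalRing.maximalIdeal (Y.presheaf.stalk (f y)) =
      Ideal.map (algebraMap Γ(Y, V) (Y.presheaf.stalk (f y)))
        (hV.primeIdealOf ⟨f y, e hyU⟩).asIdeal :=
    (IsLocalization.AtPrime.map_eq_maximalIdeal _ _).symm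
  have hmaps : ((e₁ : Localization.AtPrime q ≃+* X.presheaf.stalk y) :
      Localization.AtPrime q →+* X.presheaf.stalk y).comp
        (algebraMap Γ(Y, V) (Localization.AtPrime q)) =
      (f.stalkMap y).hom.comp (algebraMap Γ(Y, V) (Y.presheaf.stalk (f y))) := by
    ext a
    simp only [RingHom.comp_apply, RingHom.coe_coe]
    rw [IsScalarTower.algebraMap_apply Γ(Y, V) Γ(X, U) (Localization.AtPrime q)]
    show e₁ (algebraMap Γ(X, U) (Localization.AtPrime q) (algebraMap Γ(Y, V) Γ(X, U) a)) = _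
    rw [e₁.commutes]
    exact (GenFlatSchH8.stalkMap_germ_appLE f e hyU a).symm
  have hIJ : Groth.Agent.FibStalkDimH8.fibIdeal f y =
      (fibJ Γ(Y, V) q).map
        ((e₁ : Localization.AtPrime q ≃+* X.presheaf.stalk y) :
          Localization.AtPrime q →+* X.presheaf.stalk y) := by
    show (IsLocalRing.maximalIdeal (Y.presheaf.stalk (f y))).map (f.stalkMap y).hom = _
    rw [hmax, Ideal.map_map, Ideal.map_map, hmaps, hcomap]
  exact ⟨(Ideal.quotientEquiv _ _ (e₁ : Localization.AtPrime q ≃+* X.presheaf.stalk y) hIJ).trans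
    (Groth.Agent.FibStalkIso.fibStalkEquiv f y)⟩

/-- **EGA IV 12.1.6 (for `(S_k)`)**: for `f` flat and locally of finite presentation the set of
points at which the fibre satisfies `(S_k)` is open. -/
theorem isOpen_fibre_hasSk (f : X ⟶ Y) [Flat f] [LocallyOfFinitePresentation f] (k : ℕ) :
    IsOpen {x : X | LocCoh.HasSk k ((f.fiber (f.base x)).presheaf.stalk (f.asFiber x))
      ((f.fiber (f.base x)).presheaf.stalk (f.asFiber x))} := by
  classical
  rw [isOpen_iff_forall_mem_open]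
  intro x hx
  obtain ⟨V, hV, hyV, -⟩ := Opens.isBasis_iff_nbhd.mp Y.isBasis_affineOpens
    (show f.base x ∈ (⊤ : Y.Opens) from trivial)
  obtain ⟨U, hU, hxU, e⟩ := Opens.isBasis_iff_nbhd.mp X.isBasis_affineOpens
    (show x ∈ f ⁻¹ᵁ V from hyV)
  letI algAB : Algebra Γ(Y, V) Γ(X, U) := (f.appLE V U e).hom.toAlgebra
  haveI : Algebra.FinitePresentation Γ(Y, V) Γ(X, U) :=
    HasRingHomProperty.appLE (P := @LocallyOfFinitePresentation) f inferInstance ⟨V, hV⟩ ⟨U, hU⟩ e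
  haveI : Module.Flat Γ(Y, V) Γ(X, U) :=
    HasRingHomProperty.appLE (P := @Flat) f inferInstance ⟨V, hV⟩ ⟨U, hU⟩ e
  -- the comparison isomorphisms
  have key : ∀ (y : X) (hyU : y ∈ U),
      Nonempty (Fib Γ(Y, V) (hU.primeIdealOf ⟨y, hyU⟩).asIdeal ≃+*
        (f.fiber (f y)).presheaf.stalk (f.asFiber y)) :=
    fun y hyU => nonempty_fib_ringEquiv f hV hU e hyU
  have hmemU : ∀ 𝔭 : PrimeSpectrum Γ(X, U), (hU.fromSpec 𝔭 : X) ∈ U := by
    intro 𝔭
    have : (hU.fromSpec 𝔭 : X) ∈ hU.fromSpec.opensRange := ⟨𝔭, rfl⟩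
    rwa [hU.opensRange_fromSpec] at this
  have hprime : ∀ 𝔭 : PrimeSpectrum Γ(X, U),
      hU.primeIdealOf ⟨hU.fromSpec 𝔭, hmemU 𝔭⟩ = 𝔭 := by
    intro 𝔭
    apply hU.fromSpec.isOpenEmbedding.injective
    rw [hU.fromSpec_primeIdealOf]
  have key' : ∀ 𝔭 : PrimeSpectrum Γ(X, U),
      Nonempty (Fib Γ(Y, V) 𝔭.asIdeal ≃+*
        (f.fiber (f (hU.fromSpec 𝔭))).presheaf.stalk (f.asFiber (hU.fromSpec 𝔭))) := by
    intro 𝔭
    have := key (hU.fromSpec 𝔭) (hmemU 𝔭)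
    rwa [hprime] at this
  have hN : ∀ (q : Ideal Γ(X, U)) [q.IsPrime], IsNoetherianRing (Fib Γ(Y, V) q) := by
    intro q _
    obtain ⟨σ⟩ := key' ⟨q, inferInstance⟩
    exact isNoetherianRing_of_ringEquiv _ σ.symm
  have hCMiff : ∀ 𝔭 : PrimeSpectrum Γ(X, U),
      FibCM Γ(Y, V) 𝔭 ↔ MoreMor.IsCMAt f (hU.fromSpec 𝔭) := by
    intro 𝔭
    obtain ⟨σ⟩ := key' 𝔭
    haveI := hN 𝔭.asIdeal
    constructor
    · intro h
      have h1 : LocCoh.IsCohenMacaulayLocalRing (Fib Γ(Y, V) 𝔭.asIdeal) :=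
        { supportDim_eq_depth := h }
      exact ⟨Flat.stalkMap f _,
        Groth.Agent.Lib.CMEquivH3.isCohenMacaulayLocalRing_of_ringEquiv σ h1⟩
    · rintro ⟨-, h⟩
      have h1 := Groth.Agent.Lib.CMEquivH3.isCohenMacaulayLocalRing_of_ringEquiv σ.symm h
      exact h1.supportDim_eq_depth
  have hCM : IsOpen {q : PrimeSpectrum Γ(X, U) | FibCM Γ(Y, V) q} := by
    have hset : {q : PrimeSpectrum Γ(X, U) | FibCM Γ(Y, V) q} =
        (fun 𝔭 : PrimeSpectrum Γ(X, U) => (hU.fromSpec 𝔭 : X)) ⁻¹'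
          {y : X | MoreMor.IsCMAt f y} := by
      ext 𝔭
      exact hCMiff 𝔭
    rw [hset]
    exact (Groth.Agent.Lib.CMMorH8.isOpen_isCMAt f).preimage
      hU.fromSpec.base.hom.continuous
  have hSkiff : ∀ 𝔭 : PrimeSpectrum Γ(X, U),
      LocCoh.HasSk k (Fib Γ(Y, V) 𝔭.asIdeal) (Fib Γ(Y, V) 𝔭.asIdeal) ↔
        LocCoh.HasSk k ((f.fiber (f (hU.fromSpec 𝔭))).presheaf.stalk (f.asFiber (hU.fromSpec 𝔭)))
          ((f.fiber (f (hU.fromSpec 𝔭))).presheaf.stalk (f.asFiber (hU.fromSpec 𝔭))) := by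
    intro 𝔭
    obtain ⟨σ⟩ := key' 𝔭
    constructor
    · exact Groth.Agent.Lib.SemiSk_helper6.hasSk_of_semilinear σ σ.toAddEquiv
        (fun r m => map_mul σ r m) k
    · exact Groth.Agent.Lib.SemiSk_helper6.hasSk_of_semilinear σ.symm σ.symm.toAddEquiv
        (fun r m => map_mul σ.symm r m) k
  have hopen := isOpen_hasSk_fib (A := Γ(Y, V)) (B := Γ(X, U)) hN hCM k
  refine ⟨(fun 𝔭 : PrimeSpectrum Γ(X, U) => (hU.fromSpec 𝔭 : X)) ''
    {q : PrimeSpectrum Γ(X, U) |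
      LocCoh.HasSk k (Fib Γ(Y, V) q.asIdeal) (Fib Γ(Y, V) q.asIdeal)}, ?_,
    hU.fromSpec.isOpenEmbedding.isOpenMap _ hopen, ?_⟩
  · rintro _ ⟨𝔭, h𝔭, rfl⟩
    exact (hSkiff 𝔭).mp h𝔭
  · refine ⟨hU.primeIdealOf ⟨x, hxU⟩, ?_, hU.fromSpec_primeIdealOf ⟨x, hxU⟩⟩
    rw [Set.mem_ofPred_eq, hSkiff]
    have hxx : (hU.fromSpec (hU.primeIdealOf ⟨x, hxU⟩) : X) = x :=
      hU.fromSpec_primeIdealOf ⟨x, hxU⟩
    rw [hxx]
    exact hx

end Groth.Agent.Lib.FibSkH5
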