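import Mathlib
import Groth.Agent.Lib.FibProjDim3_helper5
import Groth.Agent.Lib.FibSk4_helper5
import Groth.Agent.Lib.PB10_helper8
import Groth.Agent.Lib.StalkLoc_helper8
import Groth.Agent.Lib.SemiSk_helper6
import Groth.Agent.Lib.FlatSec_helper8
import Groth.Agent.Lib.QCohFP2_helper9
import Groth.Prelude.Def_CohB1
import Groth.Prelude.Def_FlatMod2

/-!
# Codepth of fibre modules, part 4: from rings to schemes (helper5)

* `exists_semilinear_fibMod`: the ring-level fibre module `M_q / p M_q` is the stalk of the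
  restriction of `F` to the fibre, semilinearly over `B_q / p B_q ≅ O_{X_y, x}`.
* `isOpen_fibCodepthLE`: **EGA IV 12.1.1 (v)**.

APPEND-ONLY once landed.
-/

set_option autoImplicit false

namespace Groth.Agent.Lib.FibPdH5

open AlgebraicGeometry CategoryTheory TopologicalSpace TensorProduct
open Groth.Agent.Lib.FibSkH5

universe u

/-- two base changes of `M` along isomorphic `B`-algebras are semilinearly isomorphic -/
theorem exists_semilinear_of_baseChange {B R₁ R₂ M N₁ N₂ : Type u} [CommRing B] [CommRing R₁]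
    [CommRing R₂] [Algebra B R₁] [Algebra B R₂] [AddCommGroup M] [Module B M]
    [AddCommGroup N₁] [Module R₁ N₁] [AddCommGroup N₂] [Module R₂ N₂]
    (σ : R₁ ≃+* R₂) (hσ : ∀ b : B, σ (algebraMap B R₁ b) = algebraMap B R₂ b)
    (e₁ : R₁ ⊗[B] M ≃ₗ[R₁] N₁) (e₂ : R₂ ⊗[B] M ≃ₗ[R₂] N₂) :
    ∃ ε : N₁ ≃+ N₂, ∀ (r : R₁) (n : N₁), ε (r • n) = σ r • ε n := by
  let σL : R₁ ≃ₗ[B] R₂ :=
    { σ with
      map_smul' := fun b r => by
        show σ (b • r) = b • σ r
        rw [Algebra.smul_def, Algebra.smul_def, map_mul, hσ] }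
  let τ : R₁ ⊗[B] M ≃ₗ[B] R₂ ⊗[B] M := LinearEquiv.rTensor M σL
  have hτ : ∀ (r : R₁) (w : R₁ ⊗[B] M), τ (r • w) = σ r • τ w := by
    intro r w
    induction w using TensorProduct.induction_on with
    | zero => simp
    | tmul a m =>
      show τ (r • (a ⊗ₜ[B] m)) = σ r • τ (a ⊗ₜ[B] m)
      rw [TensorProduct.smul_tmul', smul_eq_mul]
      show (σL (r * a)) ⊗ₜ[B] m = σ r • ((σL a) ⊗ₜ[B] m)
      rw [TensorProduct.smul_tmul', smul_eq_mul]
      show (σ (r * a)) ⊗ₜ[B] m = (σ r * σ a) ⊗ₜ[B] m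
      rw [map_mul]
    | add x y hx hy => rw [smul_add, map_add, hx, hy, map_add, smul_add]
  refine ⟨e₁.symm.toAddEquiv.trans (τ.toAddEquiv.trans e₂.toAddEquiv), fun r n => ?_⟩
  show e₂ (τ (e₁.symm (r • n))) = σ r • e₂ (τ (e₁.symm n))
  rw [map_smul, hτ, map_smul]

section RingEquiv

variable {X Y : Scheme.{u}} (f : X ⟶ Y) {V : Y.Opens} (hV : IsAffineOpen V) {U : X.Opens}
  (hU : IsAffineOpen U) (e : U ≤ f ⁻¹ᵁ V)

include hV hU in
/-- the ring-level fibre ring at the prime of `y` is the local ring of the fibre at `y`,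
compatibly with the maps from `Γ(X, U)` -/
theorem exists_fib_ringEquiv {y : X} (hyU : y ∈ U) :
    letI : Algebra Γ(Y, V) Γ(X, U) := (f.appLE V U e).hom.toAlgebra
    ∃ σ : Fib Γ(Y, V) (hU.primeIdealOf ⟨y, hyU⟩).asIdeal ≃+*
        (f.fiber (f y)).presheaf.stalk (f.asFiber y),
      ∀ b : Γ(X, U), σ (algebraMap Γ(X, U) _ b) =
        (FibRedH8.toFib f y).hom ((X.presheaf.germ U y hyU).hom b) := by
  letI algAB : Algebra Γ(Y, V) Γ(X, U) := (f.appLE V U e).hom.toAlgebra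
  set q : Ideal Γ(X, U) := (hU.primeIdealOf ⟨y, hyU⟩).asIdeal with hq
  letI aX : Algebra Γ(X, U) (X.presheaf.stalk y) :=
    TopCat.Presheaf.algebra_section_stalk X.presheaf (⟨y, hyU⟩ : U)
  letI aY : Algebra Γ(Y, V) (Y.presheaf.stalk (f y)) :=
    TopCat.Presheaf.algebra_section_stalk Y.presheaf (⟨f y, e hyU⟩ : V)
  haveI : IsLocalization.AtPrime (X.presheaf.stalk y) q := hU.isLocalization_stalk ⟨y, hyU⟩
  haveI : IsLocalization.AtPrime (Y.presheaf.stalk (f y))
      (hV.primeIdealOf ⟨f y, e hyU⟩).asIdeal := hV.isLocalization_stalk ⟨f y, e hyU⟩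
  let e₁ : Localization.AtPrime q ≃ₐ[Γ(X, U)] X.presheaf.stalk y :=
    IsLocalization.algEquiv q.primeCompl _ _
  have hcomap : q.comap (algebraMap Γ(Y, V) Γ(X, U)) =
      (hV.primeIdealOf ⟨f y, e hyU⟩).asIdeal := primeIdealOf_comap f hV hU e hyU
  have hmax : IsLocalRing.maximalIdeal (Y.presheaf.stalk (f y)) =
      Ideal.map (algebraMap Γ(Y, V) (Y.presheaf.stalk (f y)))
        (hV.primeIdealOf ⟨f y, e hyU⟩).asIdeal :=
    (IsLocalization.AtPrime.map_eq_maximalIdeal _ _).symm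
  have hmaps : ((e₁ : Localization.AtPrime q ≃+* X.presheaf.stalk y) :
      Localization.AtPrime q →+* X.presheaf.stalk y).comp
        (algebraMap Γ(Y, V) (Localization.AtPrime q)) =
      (f.stalkMap y).hom.comp (algebraMap Γ(Y, V) (Y.presheaf.stalk (f y))) := by
    ext a
    simp only [RingHom.comp_apply, RingHom.coe_coe]
    rw [IsScalarTower.algebraMap_apply Γ(Y, V) Γ(X, U) (Localization.AtPrime q)]
    show e₁ (algebraMap Γ(X, U) (Localization.AtPrime q) (algebraMap Γ(Y, V) Γ(X, U) a)) = _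
    rw [e₁.commutes]
    exact (GenFlatSchH8.stalkMap_germ_appLE f e hyU a).symm
  have hIJ : Groth.Agent.FibStalkDimH8.fibIdeal f y =
      (fibJ Γ(Y, V) q).map
        ((e₁ : Localization.AtPrime q ≃+* X.presheaf.stalk y) :
          Localization.AtPrime q →+* X.presheaf.stalk y) := by
    show (IsLocalRing.maximalIdeal (Y.presheaf.stalk (f y))).map (f.stalkMap y).hom = _
    rw [hmax, Ideal.map_map, Ideal.map_map, hmaps, hcomap]
  refine ⟨(Ideal.quotientEquiv _ _ (e₁ : Localization.AtPrime q ≃+* X.presheaf.stalk y) hIJ).trans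
    (Groth.Agent.FibStalkIso.fibStalkEquiv f y), fun b => ?_⟩
  rw [IsScalarTower.algebraMap_apply Γ(X, U) (Localization.AtPrime q) (Fib Γ(Y, V) q),
    Ideal.Quotient.algebraMap_eq, RingEquiv.trans_apply, Ideal.quotientEquiv_mk]
  show Groth.Agent.FibStalkIso.fibStalkEquiv f y
    (Ideal.Quotient.mk _ (e₁ (algebraMap Γ(X, U) (Localization.AtPrime q) b))) = _
  rw [e₁.commutes]
  rfl

end RingEquiv

section BaseChange

variable {X Y : Scheme.{u}} (f : X ⟶ Y) {U : X.Opens} (hU : IsAffineOpen U)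
  (F : X.Modules) [F.IsQuasicoherent]

/-- the ring map `Γ(X, U) → O_{X_y, x}` -/
noncomputable def secToFib {y : X} (hyU : y ∈ U) :
    Γ(X, U) →+* (f.fiber (f y)).presheaf.stalk (f.asFiber y) :=
  (FibRedH8.toFib f y).hom.comp (X.presheaf.germ U y hyU).hom

include hU in
/-- the stalk of the restriction of `F` to the fibre is the base change of `Γ(F, U)` -/
theorem exists_baseChange_equiv {y : X} (hyU : y ∈ U) :
    letI : Algebra Γ(X, U) ((f.fiber (f y)).presheaf.stalk (f.asFiber y)) :=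
      (secToFib f hyU).toAlgebra
    Nonempty (((f.fiber (f y)).presheaf.stalk (f.asFiber y)) ⊗[Γ(X, U)] Γ(F, U) ≃ₗ[
        (f.fiber (f y)).presheaf.stalk (f.asFiber y)]
      (((Scheme.Modules.pullback (f.fiberι (f y))).obj F).presheaf.stalk (f.asFiber y))) := by
  set ι := f.fiberι (f y) with hι
  set z := f.asFiber y with hz
  have hx' : ι z = y := f.fiberι_asFiber y
  have hx'U : ι z ∈ U := by rw [hx']; exact hyU
  -- the algebra structures
  letI aBS : Algebra Γ(X, U) (X.presheaf.stalk (ι z)) :=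
    TopCat.Presheaf.algebra_section_stalk X.presheaf (⟨ι z, hx'U⟩ : U)
  letI aST : Algebra (X.presheaf.stalk (ι z)) ((f.fiber (f y)).presheaf.stalk z) :=
    (ι.stalkMap z).hom.toAlgebra
  letI aBT : Algebra Γ(X, U) ((f.fiber (f y)).presheaf.stalk z) := (secToFib f hyU).toAlgebra
  have hcomp : ∀ b : Γ(X, U), algebraMap Γ(X, U) ((f.fiber (f y)).presheaf.stalk z) b =
      algebraMap (X.presheaf.stalk (ι z)) ((f.fiber (f y)).presheaf.stalk z)
        (algebraMap Γ(X, U) (X.presheaf.stalk (ι z)) b) := by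
    intro b
    show (FibRedH8.toFib f y).hom ((X.presheaf.germ U y hyU).hom b) =
      (ι.stalkMap z).hom ((X.presheaf.germ U (ι z) hx'U).hom b)
    unfold FibRedH8.toFib
    rw [CommRingCat.hom_comp, RingHom.comp_apply]
    congr 1
    exact TopCat.Presheaf.germ_stalkSpecializes_apply (F := X.presheaf) _ _ _
  haveI : IsScalarTower Γ(X, U) (X.presheaf.stalk (ι z)) ((f.fiber (f y)).presheaf.stalk z) :=
    IsScalarTower.of_algebraMap_eq hcomp
  -- the module structures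
  letI mSN : Module (X.presheaf.stalk (ι z))
      (((Scheme.Modules.pullback ι).obj F).presheaf.stalk z) :=
    Module.compHom _ (ι.stalkMap z).hom
  haveI : IsScalarTower (X.presheaf.stalk (ι z)) ((f.fiber (f y)).presheaf.stalk z)
      (((Scheme.Modules.pullback ι).obj F).presheaf.stalk z) :=
    IsScalarTower.of_algebraMap_smul fun _ _ => rfl
  letI mBN : Module Γ(X, U) (((Scheme.Modules.pullback ι).obj F).presheaf.stalk z) :=
    Module.compHom _ (algebraMap Γ(X, U) ((f.fiber (f y)).presheaf.stalk z))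
  haveI : IsScalarTower Γ(X, U) ((f.fiber (f y)).presheaf.stalk z)
      (((Scheme.Modules.pullback ι).obj F).presheaf.stalk z) :=
    IsScalarTower.of_algebraMap_smul fun _ _ => rfl
  haveI : IsScalarTower Γ(X, U) (X.presheaf.stalk (ι z))
      (((Scheme.Modules.pullback ι).obj F).presheaf.stalk z) :=
    IsScalarTower.of_algebraMap_smul fun b n => by
      show (ι.stalkMap z).hom (algebraMap Γ(X, U) (X.presheaf.stalk (ι z)) b) • n =
        algebraMap Γ(X, U) ((f.fiber (f y)).presheaf.stalk z) b • n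
      rw [hcomp]
      rfl
  letI mBF : Module Γ(X, U) (F.presheaf.stalk (ι z)) := StalkLocH8.modSec F hx'U
  haveI : IsScalarTower Γ(X, U) (X.presheaf.stalk (ι z)) (F.presheaf.stalk (ι z)) :=
    IsScalarTower.of_algebraMap_smul fun _ _ => rfl
  haveI : IsLocalization.AtPrime (X.presheaf.stalk (ι z))
      (hU.primeIdealOf ⟨ι z, hx'U⟩).asIdeal := hU.isLocalization_stalk ⟨ι z, hx'U⟩
  haveI := StalkLocH8.isLocalizedModule_germLin F hU hx'U
  have h1 : IsBaseChange (X.presheaf.stalk (ι z)) (StalkLocH8.germLin F hx'U) :=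
    IsLocalizedModule.isBaseChange (hU.primeIdealOf ⟨ι z, hx'U⟩).asIdeal.primeCompl
      (X.presheaf.stalk (ι z)) (StalkLocH8.germLin F hx'U)
  have h2 : IsBaseChange ((f.fiber (f y)).presheaf.stalk z) (PBH8.cStalkLin ι F z) :=
    PBH8.isBaseChange_cStalk ι F z
  exact ⟨(IsBaseChange.comp h1 h2).equiv⟩

end BaseChange

section Bridge

variable {X Y : Scheme.{u}} (f : X ⟶ Y) {V : Y.Opens} (hV : IsAffineOpen V) {U : X.Opens}
  (hU : IsAffineOpen U) (e : U ≤ f ⁻¹ᵁ V) (F : X.Modules) [F.IsQuasicoherent]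

include hV hU in
/-- the ring-level fibre module at the prime of `y` is the stalk at `y` of the restriction of `F`
to the fibre through `y`, semilinearly -/
theorem exists_semilinear_fibMod {y : X} (hyU : y ∈ U) :
    letI : Algebra Γ(Y, V) Γ(X, U) := (f.appLE V U e).hom.toAlgebra
    ∃ (σ : Fib Γ(Y, V) (hU.primeIdealOf ⟨y, hyU⟩).asIdeal ≃+*
        (f.fiber (f y)).presheaf.stalk (f.asFiber y))
      (ε : FibModQ Γ(Y, V) (hU.primeIdealOf ⟨y, hyU⟩).asIdeal Γ(F, U) ≃+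
        (((Scheme.Modules.pullback (f.fiberι (f y))).obj F).presheaf.stalk (f.asFiber y))),
      ∀ (r : Fib Γ(Y, V) (hU.primeIdealOf ⟨y, hyU⟩).asIdeal)
        (n : FibModQ Γ(Y, V) (hU.primeIdealOf ⟨y, hyU⟩).asIdeal Γ(F, U)),
        ε (r • n) = σ r • ε n := by
  letI algAB : Algebra Γ(Y, V) Γ(X, U) := (f.appLE V U e).hom.toAlgebra
  obtain ⟨σ, hσ⟩ := exists_fib_ringEquiv f hV hU e hyU
  letI aBT : Algebra Γ(X, U) ((f.fiber (f y)).presheaf.stalk (f.asFiber y)) :=
    (secToFib f hyU).toAlgebra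
  obtain ⟨e₂⟩ := exists_baseChange_equiv f hU F hyU
  obtain ⟨ε, hε⟩ := exists_semilinear_of_baseChange (B := Γ(X, U)) σ hσ
    (fibMEquiv' Γ(Y, V) (hU.primeIdealOf ⟨y, hyU⟩).asIdeal Γ(F, U)) e₂
  exact ⟨σ, ε, hε⟩

include hV hU in
/-- the codepth condition on the stalk of the fibre of `F`, in ring terms -/
theorem codepthLE_iff_stalk {y : X} (hyU : y ∈ U) (n : ℕ) :
    letI : Algebra Γ(Y, V) Γ(X, U) := (f.appLE V U e).hom.toAlgebra
    CodepthLE Γ(Y, V) Γ(F, U) n (hU.primeIdealOf ⟨y, hyU⟩) ↔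
      Module.supportDim ((f.fiber (f y)).presheaf.stalk (f.asFiber y))
          (((Scheme.Modules.pullback (f.fiberι (f y))).obj F).presheaf.stalk (f.asFiber y)) ≤
        ((LocCoh.depth ((f.fiber (f y)).presheaf.stalk (f.asFiber y))
          (((Scheme.Modules.pullback (f.fiberι (f y))).obj F).presheaf.stalk (f.asFiber y)) :
            ℕ∞) : WithBot ℕ∞) + n := by
  letI algAB : Algebra Γ(Y, V) Γ(X, U) := (f.appLE V U e).hom.toAlgebra
  obtain ⟨σ, ε, hε⟩ := exists_semilinear_fibMod f hV hU e F hyU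
  have hε' := Groth.Agent.Lib.SemiSk_helper6.symm_semilinear σ ε hε
  have hs : Module.supportDim (Fib Γ(Y, V) (hU.primeIdealOf ⟨y, hyU⟩).asIdeal)
      (FibModQ Γ(Y, V) (hU.primeIdealOf ⟨y, hyU⟩).asIdeal Γ(F, U)) =
      Module.supportDim ((f.fiber (f y)).presheaf.stalk (f.asFiber y))
        (((Scheme.Modules.pullback (f.fiberι (f y))).obj F).presheaf.stalk (f.asFiber y)) :=
    le_antisymm (Groth.Agent.Lib.SemiSk_helper6.supportDim_le σ.symm ε.symm hε')
      (Groth.Agent.Lib.SemiSk_helper6.supportDim_le σ ε hε)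
  have hd : LocCoh.depth (Fib Γ(Y, V) (hU.primeIdealOf ⟨y, hyU⟩).asIdeal)
      (FibModQ Γ(Y, V) (hU.primeIdealOf ⟨y, hyU⟩).asIdeal Γ(F, U)) =
      LocCoh.depth ((f.fiber (f y)).presheaf.stalk (f.asFiber y))
        (((Scheme.Modules.pullback (f.fiberι (f y))).obj F).presheaf.stalk (f.asFiber y)) :=
    le_antisymm (Groth.Agent.Lib.SemiSk_helper6.depth_le σ ε hε)
      (Groth.Agent.Lib.SemiSk_helper6.depth_le σ.symm ε.symm hε')
  unfold CodepthLE
  show Module.supportDim (Fib Γ(Y, V) (hU.primeIdealOf ⟨y, hyU⟩).asIdeal)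
      (FibModQ Γ(Y, V) (hU.primeIdealOf ⟨y, hyU⟩).asIdeal Γ(F, U)) ≤
      ((LocCoh.depth (Fib Γ(Y, V) (hU.primeIdealOf ⟨y, hyU⟩).asIdeal)
        (FibModQ Γ(Y, V) (hU.primeIdealOf ⟨y, hyU⟩).asIdeal Γ(F, U)) : ℕ∞) : WithBot ℕ∞) + n ↔ _
  rw [hs, hd]

end Bridge

section Main

variable {X Y : Scheme.{u}} (f : X ⟶ Y)

/-- the codepth condition on the stalk at `x` of the restriction of `F` to the fibre through `x` -/
def FibCodepthLE (F : X.Modules) (k : ℕ) (x : X) : Prop :=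
  Module.supportDim ((f.fiber (f.base x)).presheaf.stalk (f.asFiber x))
      (((Scheme.Modules.pullback (f.fiberι (f.base x))).obj F).presheaf.stalk (f.asFiber x)) ≤
    ((LocCoh.depth ((f.fiber (f.base x)).presheaf.stalk (f.asFiber x))
      (((Scheme.Modules.pullback (f.fiberι (f.base x))).obj F).presheaf.stalk (f.asFiber x)) :
        ℕ∞) : WithBot ℕ∞) + k

/-- **EGA IV 12.1.1 (v)**: for `f` locally of finite presentation and `F` a finitely presented
`O_X`-module flat over `Y`, the codepth of the fibre stalks of `F` is upper semicontinuous. -/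
theorem isOpen_fibCodepthLE [LocallyOfFinitePresentation f] (F : X.Modules)
    (hF : CohB1.IsFP F) (hflat : FlatMod.IsFlatOver f F) (k : ℕ) :
    IsOpen {x : X | FibCodepthLE f F k x} := by
  classical
  haveI : SheafOfModules.IsFinitePresentation (R := X.ringCatSheaf) F := hF
  haveI : F.IsQuasicoherent := inferInstance
  rw [isOpen_iff_forall_mem_open]
  intro x hx
  obtain ⟨V, hV, hyV, -⟩ := Opens.isBasis_iff_nbhd.mp Y.isBasis_affineOpens
    (show f.base x ∈ (⊤ : Y.Opens) from trivial)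
  obtain ⟨U, hU, hxU, e⟩ := Opens.isBasis_iff_nbhd.mp X.isBasis_affineOpens
    (show x ∈ f ⁻¹ᵁ V from hyV)
  letI algAB : Algebra Γ(Y, V) Γ(X, U) := (f.appLE V U e).hom.toAlgebra
  haveI : Algebra.FinitePresentation Γ(Y, V) Γ(X, U) :=
    HasRingHomProperty.appLE (P := @LocallyOfFinitePresentation) f inferInstance ⟨V, hV⟩ ⟨U, hU⟩ e
  letI mAM : Module Γ(Y, V) Γ(F, U) := Module.compHom Γ(F, U) (f.appLE V U e).hom
  haveI : IsScalarTower Γ(Y, V) Γ(X, U) Γ(F, U) :=
    IsScalarTower.of_algebraMap_smul (fun _ _ => rfl)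
  haveI : Module.FinitePresentation Γ(X, U) Γ(F, U) :=
    QCohFP2.finitePresentation_of_isFinitePresentation F hU
  haveI : Module.Flat Γ(Y, V) Γ(F, U) :=
    FlatSecH8.flat_sections_of_flat_stalks f F hU e (fun x' hx'U =>
      (FlatSecH8.isFlatOverAt_iff_flat_stalk f F hV e hx'U).mp (hflat x'))
  have hopen := isOpen_codepthLE (A := Γ(Y, V)) (B := Γ(X, U)) Γ(F, U) k
  have hmemU : ∀ 𝔭 : PrimeSpectrum Γ(X, U), (hU.fromSpec 𝔭 : X) ∈ U := by
    intro 𝔭
    have : (hU.fromSpec 𝔭 : X) ∈ hU.fromSpec.opensRange := ⟨𝔭, rfl⟩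
    rwa [hU.opensRange_fromSpec] at this
  have hprime : ∀ 𝔭 : PrimeSpectrum Γ(X, U),
      hU.primeIdealOf ⟨hU.fromSpec 𝔭, hmemU 𝔭⟩ = 𝔭 := by
    intro 𝔭
    apply hU.fromSpec.isOpenEmbedding.injective
    rw [hU.fromSpec_primeIdealOf]
  have hiff : ∀ 𝔭 : PrimeSpectrum Γ(X, U),
      CodepthLE Γ(Y, V) Γ(F, U) k 𝔭 ↔ FibCodepthLE f F k (hU.fromSpec 𝔭) := by
    intro 𝔭
    have := codepthLE_iff_stalk f hV hU e F (hmemU 𝔭) k
    rwa [hprime] at this
  refine ⟨(fun 𝔭 : PrimeSpectrum Γ(X, U) => (hU.fromSpec 𝔭 : X)) ''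
    {q : PrimeSpectrum Γ(X, U) | CodepthLE Γ(Y, V) Γ(F, U) k q}, ?_,
    hU.fromSpec.isOpenEmbedding.isOpenMap _ hopen, ?_⟩
  · rintro _ ⟨𝔭, h𝔭, rfl⟩
    exact (hiff 𝔭).mp h𝔭
  · refine ⟨hU.primeIdealOf ⟨x, hxU⟩, ?_, hU.fromSpec_primeIdealOf ⟨x, hxU⟩⟩
    rw [Set.mem_ofPred_eq, hiff]
    have hxx : (hU.fromSpec (hU.primeIdealOf ⟨x, hxU⟩) : X) = x :=
      hU.fromSpec_primeIdealOf ⟨x, hxU⟩
    rw [hxx]
    exact hx

end Main

end Groth.Agent.Lib.FibPdH5
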