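/-
helper5: ring-level ingredients for the depth of fibre modules along a closed subset
(EGA IV 12.3.x style): localization of fibre rings, grade of an ideal on fibre modules is lower
semicontinuous, grade = inf of depths over primes of the fibre. APPEND-ONLY once landed.
-/
import Mathlib
import Groth.Agent.Lib.FibProjDim4_helper5

set_option autoImplicit false

namespace Groth.Agent.Lib.FibPdH5

open TensorProduct Pointwise
open Groth.Agent.Lib.FibSkH5

universe u

/-- a localization at a prime, up to a ring isomorphism, compatibly with the maps from `R` -/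
theorem exists_ringEquiv_of_isLocalization {R X Y : Type u} [CommRing R] [CommRing X]
    [Algebra R X] (P : Ideal R) [P.IsPrime] [IsLocalization.AtPrime X P] [CommRing Y]
    (e₃ : X ≃+* Y) :
    ∃ σ : Localization.AtPrime P ≃+* Y,
      ∀ r : R, σ (algebraMap R (Localization.AtPrime P) r) = e₃ (algebraMap R X r) := by
  let e₂ : Localization.AtPrime P ≃ₐ[R] X :=
    IsLocalization.algEquiv P.primeCompl (Localization.AtPrime P) X
  refine ⟨e₂.toRingEquiv.trans e₃, fun r => ?_⟩
  show e₃ (e₂ (algebraMap R (Localization.AtPrime P) r)) = _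
  rw [e₂.commutes]

section KeyMod

variable (A : Type u) {B : Type u} [CommRing A] [CommRing B] [Algebra A B]
variable (q : Ideal B) [q.IsPrime] (P : Ideal (Fib A q)) [P.IsPrime]

set_option maxHeartbeats 1000000 in
/-- `(B_q/pB_q)_P ≅ B_{q'}/pB_{q'}` for `q' = P ∩ B`, as `B`-algebras -/
theorem exists_fib_loc_ringEquiv :
    ∃ σ : Localization.AtPrime P ≃+* Fib A (below A q P),
      ∀ b : B, σ (algebraMap (Fib A q) (Localization.AtPrime P) (algebraMap B (Fib A q) b)) =
        algebraMap B (Fib A (below A q P)) b := by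
  classical
  let S₀ := Localization.AtPrime q
  let J : Ideal S₀ := fibJ A q
  let P' : Ideal S₀ := P.comap (Ideal.Quotient.mk J)
  haveI : P'.IsPrime := Ideal.comap_isPrime _ _
  let T₁ := Localization.AtPrime P'
  haveI h1 : IsLocalization.AtPrime T₁ (below A q P) := by
    exact IsLocalization.isLocalization_atPrime_localization_atPrime q.primeCompl P'
  let e₁ : T₁ ≃ₐ[B] Localization.AtPrime (below A q P) :=
    IsLocalization.algEquiv (below A q P).primeCompl _ _
  have h2 : IsLocalization (Algebra.algebraMapSubmonoid (S₀ ⧸ J) P'.primeCompl)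
      (T₁ ⧸ J.map (algebraMap S₀ T₁)) := inferInstance
  have hsub : Algebra.algebraMapSubmonoid (S₀ ⧸ J) P'.primeCompl = P.primeCompl := by
    ext y
    constructor
    · rintro ⟨x, hx, rfl⟩
      exact hx
    · intro hy
      obtain ⟨x, rfl⟩ := Ideal.Quotient.mk_surjective y
      exact ⟨x, hy, rfl⟩
  haveI h3 : IsLocalization P.primeCompl (T₁ ⧸ J.map (algebraMap S₀ T₁)) := hsub ▸ h2
  have hmaps : ((e₁ : T₁ ≃+* Localization.AtPrime (below A q P)) : T₁ →+* _).comp
      ((algebraMap S₀ T₁).comp (algebraMap A S₀)) =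
        algebraMap A (Localization.AtPrime (below A q P)) := by
    ext a
    simp only [RingHom.comp_apply, RingHom.coe_coe]
    rw [← IsScalarTower.algebraMap_apply A S₀ T₁, IsScalarTower.algebraMap_apply A B T₁]
    show e₁ (algebraMap B T₁ (algebraMap A B a)) = _
    rw [e₁.commutes, ← IsScalarTower.algebraMap_apply]
  have hIJ : fibJ A (below A q P) =
      (J.map (algebraMap S₀ T₁)).map
        ((e₁ : T₁ ≃+* Localization.AtPrime (below A q P)) : T₁ →+* _) := by
    show ((below A q P).comap (algebraMap A B)).map _ = _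
    rw [comap_below, Ideal.map_map, Ideal.map_map, ← hmaps]
    rfl
  let e₃ : (T₁ ⧸ J.map (algebraMap S₀ T₁)) ≃+* Fib A (below A q P) :=
    Ideal.quotientEquiv _ _ (e₁ : T₁ ≃+* Localization.AtPrime (below A q P)) hIJ
  obtain ⟨σ, hσ⟩ := exists_ringEquiv_of_isLocalization (R := Fib A q)
    (X := T₁ ⧸ J.map (algebraMap S₀ T₁)) (Y := Fib A (below A q P)) P e₃
  refine ⟨σ, fun b => ?_⟩
  rw [hσ]
  have hb : algebraMap (Fib A q) (T₁ ⧸ J.map (algebraMap S₀ T₁)) (algebraMap B (Fib A q) b) =
      Ideal.Quotient.mk _ (algebraMap B T₁ b) := by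
    rw [IsScalarTower.algebraMap_apply B S₀ (Fib A q), Ideal.Quotient.algebraMap_eq,
      IsScalarTower.algebraMap_apply B S₀ T₁]
    rfl
  rw [hb]
  show Ideal.Quotient.mk _ (e₁ (algebraMap B T₁ b)) = _
  rw [e₁.commutes, IsScalarTower.algebraMap_apply B (Localization.AtPrime (below A q P))
    (Fib A (below A q P))]
  rfl

end KeyMod

section KeyMod2

variable (A : Type u) {B : Type u} [CommRing A] [CommRing B] [Algebra A B]
variable (q : Ideal B) [q.IsPrime] (P : Ideal (Fib A q)) [P.IsPrime]
  (M : Type u) [AddCommGroup M] [Module B M]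

/-- `(M_q/pM_q)_P ≅ M_{q'}/pM_{q'}` for `q' = P ∩ B`, semilinearly -/
theorem exists_semilinear_fibModQ_loc :
    ∃ (σ : Localization.AtPrime P ≃+* Fib A (below A q P))
      (ε : LocalizedModule P.primeCompl (FibModQ A q M) ≃+ FibModQ A (below A q P) M),
      ∀ (r : Localization.AtPrime P) (x : LocalizedModule P.primeCompl (FibModQ A q M)),
        ε (r • x) = σ r • ε x := by
  obtain ⟨σ, hσ⟩ := exists_fib_loc_ringEquiv A q P
  have hσ' : ∀ b : B, σ (algebraMap B (Localization.AtPrime P) b) =
      algebraMap B (Fib A (below A q P)) b := by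
    intro b
    rw [IsScalarTower.algebraMap_apply B (Fib A q) (Localization.AtPrime P)]
    exact hσ b
  let e₁ : Localization.AtPrime P ⊗[B] M ≃ₗ[Localization.AtPrime P]
      LocalizedModule P.primeCompl (FibModQ A q M) :=
    (AlgebraTensorModule.cancelBaseChange B (Fib A q) (Localization.AtPrime P)
      (Localization.AtPrime P) M).symm ≪≫ₗ
    (AlgebraTensorModule.congr (LinearEquiv.refl (Localization.AtPrime P) (Localization.AtPrime P))
      (fibMEquiv' A q M)) ≪≫ₗ
    (IsLocalizedModule.isBaseChange P.primeCompl (Localization.AtPrime P)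
      (LocalizedModule.mkLinearMap P.primeCompl (FibModQ A q M))).equiv
  obtain ⟨ε, hε⟩ := exists_semilinear_of_baseChange (B := B) (R₁ := Localization.AtPrime P)
    (R₂ := Fib A (below A q P)) (M := M)
    (N₁ := LocalizedModule P.primeCompl (FibModQ A q M)) (N₂ := FibModQ A (below A q P) M) σ hσ' e₁
    (fibMEquiv' A (below A q P) M)
  exact ⟨σ, ε, hε⟩

theorem depth_fibModQ_loc :
    LocCoh.depth (Localization.AtPrime P) (LocalizedModule P.primeCompl (FibModQ A q M)) =
      LocCoh.depth (Fib A (below A q P)) (FibModQ A (below A q P) M) := by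
  obtain ⟨σ, ε, h⟩ := exists_semilinear_fibModQ_loc A q P M
  have hs := Groth.Agent.Lib.SemiSk_helper6.symm_semilinear (R := Localization.AtPrime P)
    (R' := Fib A (below A q P)) (M := LocalizedModule P.primeCompl (FibModQ A q M))
    (M' := FibModQ A (below A q P) M) σ ε h
  exact le_antisymm (Groth.Agent.Lib.SemiSk_helper6.depth_le σ ε h)
    (Groth.Agent.Lib.SemiSk_helper6.depth_le σ.symm ε.symm hs)

end KeyMod2

section GradeMod

variable {A B : Type u} [CommRing A] [CommRing B] [Algebra A B]

/-- the fibre local rings of a finite type algebra are Noetherian -/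
theorem isNoetherianRing_fib [Algebra.FiniteType A B] (q : Ideal B) [q.IsPrime] :
    IsNoetherianRing (Fib A q) := by
  obtain ⟨q', hq', ⟨σ⟩⟩ := Groth.Agent.FlatCM.exists_fibre_equiv A B q
  set p := q.comap (algebraMap A B) with hp
  haveI : p.IsPrime := Ideal.comap_isPrime _ _
  haveI : Algebra.FiniteType p.ResidueField (p.Fiber B) := inferInstance
  haveI : IsNoetherianRing (p.Fiber B) := Algebra.FiniteType.isNoetherianRing p.ResidueField _
  haveI : IsNoetherianRing (Localization.AtPrime q') :=
    IsLocalization.isNoetherianRing q'.primeCompl _ inferInstance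
  exact isNoetherianRing_of_ringEquiv _ σ

variable [Algebra.FinitePresentation A B]

open RingTheory.Sequence in
/-- **Lower semicontinuity of the grade of `I` on the fibre modules.** -/
theorem exists_nearby_le_idealDepth_mod (M : Type u) [AddCommGroup M] [Module B M] [Module A M]
    [IsScalarTower A B M] [Module.FinitePresentation B M]
    (I : Ideal B) (q : Ideal B) [q.IsPrime] (hIq : I ≤ q)
    (hflat : Module.Flat A (LocalizedModule q.primeCompl M)) (γ : ℕ)
    (hγ : (γ : ℕ∞) ≤ LocCoh.idealDepth (I.map (algebraMap B (Fib A q))) (FibModQ A q M)) :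
    ∃ s : B, s ∉ q ∧ ∀ (q' : Ideal B) [q'.IsPrime], s ∉ q' → I ≤ q' →
      (γ : ℕ∞) ≤ LocCoh.idealDepth (I.map (algebraMap B (Fib A q'))) (FibModQ A q' M) := by
  classical
  rw [Groth.Agent.DepthLib.le_idealDepth_iff] at hγ
  have hmapm : I.map (algebraMap B (Fib A q)) ≤ IsLocalRing.maximalIdeal (Fib A q) := by
    rw [Ideal.map_le_iff_le_comap]
    intro b hb
    exact algebraMap_mem_maximalIdeal_fib A q (hIq hb)
  rcases hγ with htop | ⟨rs, hw, hmem, hlen⟩
  · -- the fibre module vanishes at `q`, hence nearby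
    have hsub : ¬ Module.annihilator B M ≤ q := by
      intro hle
      haveI := nontrivial_fibModQ A q M hle
      exact Submodule.top_ne_ideal_smul_of_le_jacobson_annihilator (R := Fib A q)
        (M := FibModQ A q M) (hmapm.trans (IsLocalRing.maximalIdeal_le_jacobson _)) htop.symm
    obtain ⟨s, hsI, hsq⟩ := SetLike.not_le_iff_exists.mp hsub
    refine ⟨s, hsq, fun q' _ hq' _ => ?_⟩
    haveI := subsingleton_fibModQ A q' M (fun h => hq' (h hsI))
    rw [Groth.Agent.DepthLib.le_idealDepth_iff]
    left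
    exact Subsingleton.elim _ _
  obtain ⟨bs, hbsI, hlen', hwbs⟩ := exists_lift_isWeaklyRegular I rs (FibModQ A q M)
    (fun r hr => exists_unit_mul_of_mem_map A q I (hmem r hr)) hw
  have hwB : IsWeaklyRegular (FibModQ A q M) bs :=
    (isWeaklyRegular_map_algebraMap_iff (Fib A q) (FibModQ A q M) bs).mp hwbs
  have hwT : IsWeaklyRegular (Fib A q ⊗[B] M) bs :=
    (((fibMEquiv A q M).restrictScalars B).isWeaklyRegular_congr bs).mpr hwB
  obtain ⟨s, hs, hnear⟩ := exists_nearby_wreg bs M q hflat hwT
  refine ⟨s, hs, fun q' _ hq' hIq' => ?_⟩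
  obtain ⟨-, hw'⟩ := hnear q' hq'
  have hw'' : IsWeaklyRegular (FibModQ A q' M) bs :=
    (((fibMEquiv A q' M).restrictScalars B).isWeaklyRegular_congr bs).mp hw'
  rw [Groth.Agent.DepthLib.le_idealDepth_iff]
  right
  refine ⟨bs.map (algebraMap B (Fib A q')),
    (isWeaklyRegular_map_algebraMap_iff (Fib A q') (FibModQ A q' M) bs).mpr hw'', ?_,
    by rw [List.length_map, hlen', hlen]⟩
  intro r hr
  obtain ⟨b, hb, rfl⟩ := List.mem_map.mp hr
  exact Ideal.mem_map_of_mem _ (hbsI b hb)

end GradeMod

section PrimeFib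

variable (A : Type u) {B : Type u} [CommRing A] [CommRing B] [Algebra A B]

/-- a prime `q₁ ⊆ q` of `B` in the same fibre over `A` gives a prime of `Fib A q` -/
theorem exists_prime_fib_of_le (q q₁ : Ideal B) [q.IsPrime] [hq₁ : q₁.IsPrime] (hle : q₁ ≤ q)
    (hc : q₁.comap (algebraMap A B) = q.comap (algebraMap A B)) :
    ∃ (P : Ideal (Fib A q)) (_ : P.IsPrime), below A q P = q₁ := by
  have hdisj : Disjoint (q.primeCompl : Set B) (q₁ : Set B) := by
    rw [Set.disjoint_left]
    intro b hb hb₁
    exact hb (hle hb₁)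
  set 𝔮 : Ideal (Localization.AtPrime q) := q₁.map (algebraMap B (Localization.AtPrime q)) with h𝔮
  haveI h𝔮p : 𝔮.IsPrime :=
    IsLocalization.isPrime_of_isPrime_disjoint q.primeCompl (Localization.AtPrime q) q₁ hq₁ hdisj
  have h𝔮c : 𝔮.comap (algebraMap B (Localization.AtPrime q)) = q₁ :=
    IsLocalization.comap_map_of_isPrime_disjoint q.primeCompl (Localization.AtPrime q) hq₁ hdisj
  have hJ : fibJ A q ≤ 𝔮 := by
    rw [Ideal.map_le_iff_le_comap]
    intro a ha
    rw [← hc] at ha
    rw [Ideal.mem_comap, IsScalarTower.algebraMap_apply A B (Localization.AtPrime q)]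
    exact Ideal.mem_map_of_mem _ ha
  have hker : RingHom.ker (Ideal.Quotient.mk (fibJ A q)) ≤ 𝔮 := by
    rw [Ideal.mk_ker]
    exact hJ
  refine ⟨𝔮.map (Ideal.Quotient.mk (fibJ A q)),
    Ideal.map_isPrime_of_surjective Ideal.Quotient.mk_surjective hker, ?_⟩
  show (𝔮.map (Ideal.Quotient.mk (fibJ A q))).comap (algebraMap B (Fib A q)) = q₁
  have h1 : (𝔮.map (Ideal.Quotient.mk (fibJ A q))).comap (Ideal.Quotient.mk (fibJ A q)) = 𝔮 := by
    rw [Ideal.comap_map_of_surjective _ Ideal.Quotient.mk_surjective]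
    apply le_antisymm
    · refine sup_le le_rfl ?_
      intro x hx
      apply hker
      exact hx
    · exact le_sup_left
  have h2 : algebraMap B (Fib A q) =
      (Ideal.Quotient.mk (fibJ A q)).comp (algebraMap B (Localization.AtPrime q)) := rfl
  rw [h2, ← Ideal.comap_comap, h1, h𝔮c]

end PrimeFib

section AlongRing

variable {A B : Type u} [CommRing A] [CommRing B] [Algebra A B] [Algebra.FiniteType A B]
  (M : Type u) [AddCommGroup M] [Module B M] [Module.Finite B M] (I : Ideal B)
  (q : Ideal B) [q.IsPrime] (n : ℕ)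

/-- the grade of `I` on the fibre module at `q` is the infimum of the depths of the fibre modules
at the primes `q₁ ⊆ q` of the fibre through `q` containing `I` (first half) -/
theorem le_idealDepth_fibModQ_of_forall
    (h : ∀ (q₁ : Ideal B) [q₁.IsPrime], I ≤ q₁ → q₁ ≤ q →
      q₁.comap (algebraMap A B) = q.comap (algebraMap A B) →
      (n : ℕ∞) ≤ LocCoh.depth (Fib A q₁) (FibModQ A q₁ M)) :
    (n : ℕ∞) ≤ LocCoh.idealDepth (I.map (algebraMap B (Fib A q))) (FibModQ A q M) := by
  haveI := isNoetherianRing_fib (A := A) q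
  apply Groth.Agent.DepthLib.le_idealDepth_of_forall_localization
  intro P _ hIP
  rw [depth_fibModQ_loc]
  exact h (below A q P) (Ideal.map_le_iff_le_comap.mp hIP) (below_le A q P) (comap_below A q P)

/-- second half -/
theorem le_depth_of_le_idealDepth_fibModQ
    (h : (n : ℕ∞) ≤ LocCoh.idealDepth (I.map (algebraMap B (Fib A q))) (FibModQ A q M))
    (q₁ : Ideal B) [hq₁ : q₁.IsPrime] (hI : I ≤ q₁) (hle : q₁ ≤ q)
    (hc : q₁.comap (algebraMap A B) = q.comap (algebraMap A B)) :
    (n : ℕ∞) ≤ LocCoh.depth (Fib A q₁) (FibModQ A q₁ M) := by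
  obtain ⟨P, hP, hPq⟩ := exists_prime_fib_of_le A q q₁ hle hc
  have h1 := Groth.Agent.DepthLib.idealDepth_le_depth_localization
    (I.map (algebraMap B (Fib A q))) (FibModQ A q M) P
    (Ideal.map_le_iff_le_comap.mpr (by rw [show P.comap (algebraMap B (Fib A q)) = q₁ from hPq]; exact hI))
  rw [depth_fibModQ_loc] at h1
  have tr : ∀ (r r' : Ideal B) [r.IsPrime] [r'.IsPrime], r = r' →
      LocCoh.depth (Fib A r) (FibModQ A r M) = LocCoh.depth (Fib A r') (FibModQ A r' M) := by
    intro r r' _ _ e
    subst e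
    rfl
  rw [tr _ _ hPq] at h1
  exact h.trans h1

end AlongRing

end Groth.Agent.Lib.FibPdH5
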