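/-
helper5: scheme-level openness of the locus where the depth of the fibre modules along a closed
subset is at least n (f l.f.p., F finitely presented and f-flat). APPEND-ONLY once landed.
-/
import Mathlib
import Groth.Agent.Lib.FibDepthAlong_helper5
import Groth.Prelude.Def_CInt

set_option autoImplicit false

namespace Groth.Agent.Lib.FibPdH5

open TensorProduct Pointwise
open Groth.Agent.Lib.FibSkH5
open AlgebraicGeometry CategoryTheory TopologicalSpace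

universe u

section Bridge2

variable {X Y : Scheme.{u}} (f : X ⟶ Y) {V : Y.Opens} (hV : IsAffineOpen V) {U : X.Opens}
  (hU : IsAffineOpen U) (e : U ≤ f ⁻¹ᵁ V) (F : X.Modules) [F.IsQuasicoherent]

include hV hU in
/-- the depth of the fibre module at `y`, in ring terms -/
theorem fiberDepth_eq {y : X} (hyU : y ∈ U) :
    letI : Algebra Γ(Y, V) Γ(X, U) := (f.appLE V U e).hom.toAlgebra
    CInt.fiberDepth f F y = LocCoh.depth (Fib Γ(Y, V) (hU.primeIdealOf ⟨y, hyU⟩).asIdeal)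
      (FibModQ Γ(Y, V) (hU.primeIdealOf ⟨y, hyU⟩).asIdeal Γ(F, U)) := by
  letI algAB : Algebra Γ(Y, V) Γ(X, U) := (f.appLE V U e).hom.toAlgebra
  obtain ⟨σ, ε, hε⟩ := exists_semilinear_fibMod f hV hU e F hyU
  have hε' := Groth.Agent.Lib.SemiSk_helper6.symm_semilinear σ ε hε
  exact le_antisymm (Groth.Agent.Lib.SemiSk_helper6.depth_le σ.symm ε.symm hε')
    (Groth.Agent.Lib.SemiSk_helper6.depth_le σ ε hε)

end Bridge2

section Closed

variable {X : Scheme.{u}} {U : X.Opens} (hU : IsAffineOpen U) (Z : Closeds X)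

/-- the ideal of the closed subset `Z ∩ U` of the affine open `U` -/
noncomputable def closedIdeal : Ideal Γ(X, U) :=
  PrimeSpectrum.vanishingIdeal {𝔭 : PrimeSpectrum Γ(X, U) | (hU.fromSpec 𝔭 : X) ∈ Z}

theorem fromSpec_mem_iff (𝔭 : PrimeSpectrum Γ(X, U)) :
    (hU.fromSpec 𝔭 : X) ∈ Z ↔ closedIdeal hU Z ≤ 𝔭.asIdeal := by
  have hcl : IsClosed {𝔭 : PrimeSpectrum Γ(X, U) | (hU.fromSpec 𝔭 : X) ∈ Z} :=
    Z.isClosed.preimage hU.fromSpec.continuous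
  have h1 : PrimeSpectrum.zeroLocus (closedIdeal hU Z : Set Γ(X, U)) =
      {𝔭 : PrimeSpectrum Γ(X, U) | (hU.fromSpec 𝔭 : X) ∈ Z} := by
    unfold closedIdeal
    rw [PrimeSpectrum.zeroLocus_vanishingIdeal_eq_closure, hcl.closure_eq]
  constructor
  · intro h
    have : 𝔭 ∈ PrimeSpectrum.zeroLocus (closedIdeal hU Z : Set Γ(X, U)) := by
      rw [h1]; exact h
    exact (PrimeSpectrum.mem_zeroLocus _ _).mp this
  · intro h
    have : 𝔭 ∈ PrimeSpectrum.zeroLocus (closedIdeal hU Z : Set Γ(X, U)) :=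
      (PrimeSpectrum.mem_zeroLocus _ _).mpr h
    rw [h1] at this
    exact this

end Closed

section Main

variable {X Y : Scheme.{u}} (f : X ⟶ Y)

set_option maxHeartbeats 1000000 in
/-- local form of EGA IV 12.3.4-style openness: the depth of the fibre modules along a closed
subset is lower semicontinuous on the closed subset -/
theorem exists_nhds_fiberDepthAlong [LocallyOfFinitePresentation f] (Z : Closeds X)
    (F : X.Modules) (hF : CohB1.IsFP F) (hflat : FlatMod.IsFlatOver f F) (n : ℕ) (y : X)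
    (hyZ : y ∈ Z) (hy : (n : ℕ∞) ≤ CInt.fiberDepthAlong f F (Z : Set X) y) :
    ∃ W : X.Opens, y ∈ W ∧ ∀ y' : X, y' ∈ W → y' ∈ Z →
      (n : ℕ∞) ≤ CInt.fiberDepthAlong f F (Z : Set X) y' := by
  classical
  haveI : SheafOfModules.IsFinitePresentation (R := X.ringCatSheaf) F := hF
  haveI : F.IsQuasicoherent := inferInstance
  obtain ⟨V, hV, hyV, -⟩ := Opens.isBasis_iff_nbhd.mp Y.isBasis_affineOpens
    (show f.base y ∈ (⊤ : Y.Opens) from trivial)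
  obtain ⟨U, hU, hyU, e⟩ := Opens.isBasis_iff_nbhd.mp X.isBasis_affineOpens
    (show y ∈ f ⁻¹ᵁ V from hyV)
  letI algAB : Algebra Γ(Y, V) Γ(X, U) := (f.appLE V U e).hom.toAlgebra
  haveI : Algebra.FinitePresentation Γ(Y, V) Γ(X, U) :=
    HasRingHomProperty.appLE (P := @LocallyOfFinitePresentation) f inferInstance ⟨V, hV⟩ ⟨U, hU⟩ e
  letI mAM : Module Γ(Y, V) Γ(F, U) := Module.compHom Γ(F, U) (f.appLE V U e).hom
  haveI : IsScalarTower Γ(Y, V) Γ(X, U) Γ(F, U) :=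
    IsScalarTower.of_algebraMap_smul (fun _ _ => rfl)
  haveI : Module.FinitePresentation Γ(X, U) Γ(F, U) :=
    QCohFP2.finitePresentation_of_isFinitePresentation F hU
  haveI : Module.Flat Γ(Y, V) Γ(F, U) :=
    FlatSecH8.flat_sections_of_flat_stalks f F hU e (fun x' hx'U =>
      (FlatSecH8.isFlatOverAt_iff_flat_stalk f F hV e hx'U).mp (hflat x'))
  have hmemU : ∀ 𝔭 : PrimeSpectrum Γ(X, U), (hU.fromSpec 𝔭 : X) ∈ U := by
    intro 𝔭
    have : (hU.fromSpec 𝔭 : X) ∈ hU.fromSpec.opensRange := ⟨𝔭, rfl⟩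
    rwa [hU.opensRange_fromSpec] at this
  have hprime : ∀ 𝔭 : PrimeSpectrum Γ(X, U),
      hU.primeIdealOf ⟨hU.fromSpec 𝔭, hmemU 𝔭⟩ = 𝔭 := by
    intro 𝔭
    apply hU.fromSpec.isOpenEmbedding.injective
    rw [hU.fromSpec_primeIdealOf]
  have hdepth : ∀ 𝔭 : PrimeSpectrum Γ(X, U), CInt.fiberDepth f F (hU.fromSpec 𝔭) =
      LocCoh.depth (Fib Γ(Y, V) 𝔭.asIdeal) (FibModQ Γ(Y, V) 𝔭.asIdeal Γ(F, U)) := by
    intro 𝔭
    have := fiberDepth_eq f hV hU e F (hmemU 𝔭)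
    rwa [hprime] at this
  have hcomap : ∀ 𝔭 : PrimeSpectrum Γ(X, U),
      𝔭.asIdeal.comap (algebraMap Γ(Y, V) Γ(X, U)) =
        (hV.primeIdealOf ⟨f.base (hU.fromSpec 𝔭), e (hmemU 𝔭)⟩).asIdeal := by
    intro 𝔭
    have := primeIdealOf_comap f hV hU e (hmemU 𝔭)
    rwa [hprime] at this
  have hfib : ∀ 𝔭₁ 𝔭₂ : PrimeSpectrum Γ(X, U),
      f.base (hU.fromSpec 𝔭₁) = f.base (hU.fromSpec 𝔭₂) ↔
        𝔭₁.asIdeal.comap (algebraMap Γ(Y, V) Γ(X, U)) =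
          𝔭₂.asIdeal.comap (algebraMap Γ(Y, V) Γ(X, U)) := by
    intro 𝔭₁ 𝔭₂
    rw [hcomap, hcomap]
    constructor
    · intro h
      have : (⟨f.base (hU.fromSpec 𝔭₁), e (hmemU 𝔭₁)⟩ : V) =
          ⟨f.base (hU.fromSpec 𝔭₂), e (hmemU 𝔭₂)⟩ := Subtype.ext h
      rw [this]
    · intro h
      have h' := Groth.Agent.Lib.AffStalk_helper3.primeIdealOf_injective hV (PrimeSpectrum.ext h)
      exact congrArg Subtype.val h'
  have hspec : ∀ 𝔭₁ 𝔭₂ : PrimeSpectrum Γ(X, U),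
      (hU.fromSpec 𝔭₁ : X) ⤳ hU.fromSpec 𝔭₂ ↔ 𝔭₁.asIdeal ≤ 𝔭₂.asIdeal := by
    intro 𝔭₁ 𝔭₂
    rw [hU.fromSpec.isOpenEmbedding.isInducing.specializes_iff]
    exact (PrimeSpectrum.le_iff_specializes 𝔭₁ 𝔭₂).symm
  set 𝔮 : PrimeSpectrum Γ(X, U) := hU.primeIdealOf ⟨y, hyU⟩ with h𝔮
  have h𝔮y : (hU.fromSpec 𝔮 : X) = y := hU.fromSpec_primeIdealOf ⟨y, hyU⟩
  set I : Ideal Γ(X, U) := closedIdeal hU Z with hI
  have hIq : I ≤ 𝔮.asIdeal := (fromSpec_mem_iff hU Z 𝔮).mp (by rw [h𝔮y]; exact hyZ)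
  -- Step 1: the grade of `I` on the fibre module at `y` is at least `n`
  have h1 : (n : ℕ∞) ≤ LocCoh.idealDepth
      (I.map (algebraMap Γ(X, U) (Fib Γ(Y, V) 𝔮.asIdeal))) (FibModQ Γ(Y, V) 𝔮.asIdeal Γ(F, U)) := by
    apply le_idealDepth_fibModQ_of_forall
    intro q₁ hq₁ hIq₁ hle hc
    have hz : (hU.fromSpec (⟨q₁, hq₁⟩ : PrimeSpectrum Γ(X, U)) : X) ∈ Z :=
      (fromSpec_mem_iff hU Z ⟨q₁, hq₁⟩).mpr hIq₁
    have hzy : (hU.fromSpec (⟨q₁, hq₁⟩ : PrimeSpectrum Γ(X, U)) : X) ⤳ y := by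
      rw [← h𝔮y]
      exact (hspec _ _).mpr hle
    have hfz : f.base (hU.fromSpec (⟨q₁, hq₁⟩ : PrimeSpectrum Γ(X, U))) = f.base y := by
      rw [← h𝔮y]
      exact (hfib _ _).mpr hc
    have h2 := iInf_le (fun z : {z : X // z ∈ (Z : Set X) ∧ z ⤳ y ∧ f.base z = f.base y} =>
      CInt.fiberDepth f F z.1) ⟨_, hz, hzy, hfz⟩
    have h3 := hy.trans h2
    rw [hdepth] at h3
    exact h3
  -- Step 2: spread out
  obtain ⟨s, hs, hnear⟩ := exists_nearby_le_idealDepth_mod (A := Γ(Y, V)) Γ(F, U) I 𝔮.asIdeal hIq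
    (flat_localizedModule_of_flat _ _) n h1
  refine ⟨⟨(fun 𝔭 : PrimeSpectrum Γ(X, U) => (hU.fromSpec 𝔭 : X)) ''
    (PrimeSpectrum.basicOpen s : Set (PrimeSpectrum Γ(X, U))),
    hU.fromSpec.isOpenEmbedding.isOpenMap _ (PrimeSpectrum.basicOpen s).isOpen⟩,
    ⟨𝔮, hs, h𝔮y⟩, ?_⟩
  -- Step 3
  rintro _ ⟨𝔭', hs', rfl⟩ hy'Z
  have hI' : I ≤ 𝔭'.asIdeal := (fromSpec_mem_iff hU Z 𝔭').mp hy'Z
  have h3 := hnear 𝔭'.asIdeal hs' hI'
  unfold CInt.fiberDepthAlong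
  apply le_iInf
  rintro ⟨z, hzZ, hzy', hfz⟩
  have hzU : z ∈ U := hzy'.mem_open U.isOpen (hmemU 𝔭')
  have hzz : (hU.fromSpec (hU.primeIdealOf ⟨z, hzU⟩) : X) = z := hU.fromSpec_primeIdealOf ⟨z, hzU⟩
  show (n : ℕ∞) ≤ CInt.fiberDepth f F z
  rw [← hzz, hdepth]
  apply le_depth_of_le_idealDepth_fibModQ Γ(F, U) I 𝔭'.asIdeal n h3
  · exact (fromSpec_mem_iff hU Z _).mp (by rw [hzz]; exact hzZ)
  · exact (hspec _ _).mp (by rw [hzz]; exact hzy')
  · exact (hfib _ _).mp (by rw [hzz]; exact hfz)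

/-- **Openness of the locus where the depth of the fibre modules along a closed subset is `≥ n`.** -/
theorem exists_opens_fiberDepthAlong [LocallyOfFinitePresentation f] (Z : Closeds X)
    (F : X.Modules) (hF : CohB1.IsFP F) (hflat : FlatMod.IsFlatOver f F) (n : ℕ) :
    ∃ U : X.Opens, ∀ y : X, y ∈ Z →
      (y ∈ U ↔ (n : ℕ∞) ≤ CInt.fiberDepthAlong f F (Z : Set X) y) := by
  refine ⟨sSup {W : X.Opens | ∀ y' : X, y' ∈ W → y' ∈ Z →
    (n : ℕ∞) ≤ CInt.fiberDepthAlong f F (Z : Set X) y'}, fun y hyZ => ⟨?_, ?_⟩⟩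
  · intro hyU
    obtain ⟨W, hW, hyW⟩ := Opens.mem_sSup.mp hyU
    exact hW y hyW hyZ
  · intro hy
    obtain ⟨W, hyW, hW⟩ := exists_nhds_fiberDepthAlong f Z F hF hflat n y hyZ hy
    exact Opens.mem_sSup.mpr ⟨W, hW, hyW⟩

end Main

end Groth.Agent.Lib.FibPdH5
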