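import Mathlib
import Groth.Agent.Lib.FibMapFlat_helper5
import Groth.Agent.Lib.AlgSpNoethDesc_helper7

/-!
# Locally Noetherian fibres under fppf base change / fppf covers of the source (helper5):
S1405, S1406.  APPEND-ONLY once landed.
-/

set_option autoImplicit false
universe u

namespace Groth.Agent.FibNoeth

open AlgebraicGeometry CategoryTheory Limits TensorProduct

/-- Affine case: `P = Spec A ×_{Spec k} Spec K` with `K/k` essentially of finite type and `A`
Noetherian has Noetherian global sections. -/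
theorem noeth_of_isPullback_Spec {k K A : CommRingCat.{u}} (φ : k ⟶ K) (ψ : k ⟶ A)
    (hφ : φ.hom.EssFiniteType) [IsNoetherianRing A] {P : Scheme.{u}} (a : P ⟶ Spec A)
    (b : P ⟶ Spec K) (sq : IsPullback a b (Spec.map ψ) (Spec.map φ)) :
    IsNoetherianRing Γ(P, ⊤) := by
  letI : Algebra k A := ψ.hom.toAlgebra
  letI : Algebra k K := φ.hom.toAlgebra
  haveI : Algebra.EssFiniteType k K := hφ
  have e1 : P ≅ pullback (Spec.map ψ) (Spec.map φ) := sq.isoPullback
  have e2 : pullback (Spec.map ψ) (Spec.map φ) ≅ Spec (.of (A ⊗[k] K)) := pullbackSpecIso k A K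
  have e : P ≅ Spec (.of (A ⊗[k] K)) := e1 ≪≫ e2
  haveI : IsNoetherianRing (A ⊗[k] K) := Algebra.EssFiniteType.isNoetherianRing A (A ⊗[k] K)
  have e3 : CommRingCat.of (A ⊗[k] K) ≅ Γ(P, ⊤) :=
    (Scheme.ΓSpecIso _).symm ≪≫ Scheme.Γ.mapIso e.op
  exact isNoetherianRing_of_ringEquiv (A ⊗[k] K) e3.commRingCatIsoToRingEquiv

theorem noeth_of_isPullback_affine {k K : CommRingCat.{u}} (φ : k ⟶ K)
    (hφ : φ.hom.EssFiniteType) {P Z : Scheme.{u}} [IsAffine Z] [IsNoetherianRing Γ(Z, ⊤)]
    (a : P ⟶ Z) (b : P ⟶ Spec K) (c : Z ⟶ Spec k) (sq : IsPullback a b c (Spec.map φ)) :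
    IsNoetherianRing Γ(P, ⊤) := by
  have hc : Spec.map (Spec.preimage (Z.isoSpec.inv ≫ c)) = Z.isoSpec.inv ≫ c :=
    Spec.map_preimage _
  refine noeth_of_isPullback_Spec φ (Spec.preimage (Z.isoSpec.inv ≫ c)) hφ
    (a ≫ Z.isoSpec.hom) b ?_
  rw [hc]
  exact IsPullback.of_iso sq (Iso.refl _) Z.isoSpec (Iso.refl _) (Iso.refl _)
    (by simp) (by simp) (by simp) (by simp)

/-- A base change of `Spec K ⟶ Spec k` with `K/k` essentially of finite type preserves
"locally Noetherian". -/
theorem isLocallyNoetherian_of_isPullback_essFiniteType {k K : CommRingCat.{u}} (φ : k ⟶ K)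
    (hφ : φ.hom.EssFiniteType) {W' W : Scheme.{u}} (h : W' ⟶ W) (p : W' ⟶ Spec K)
    (q : W ⟶ Spec k) (sq : IsPullback h p q (Spec.map φ)) [IsLocallyNoetherian W] :
    IsLocallyNoetherian W' := by
  haveI : IsAffineHom h :=
    MorphismProperty.of_isPullback (P := @IsAffineHom) sq.flip inferInstance
  haveI : ∀ i, IsAffine ((W.affineCover.pullback₁ h).X i) := fun i =>
    inferInstanceAs (IsAffine (pullback h (W.affineCover.f i)))
  rw [isLocallyNoetherian_iff_of_affine_openCover (W.affineCover.pullback₁ h)]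
  intro i
  haveI : IsNoetherianRing Γ(W.affineCover.X i, ⊤) :=
    (isLocallyNoetherian_iff_of_affine_openCover W.affineCover).mp inferInstance i
  have s1 : IsPullback (pullback.fst h (W.affineCover.f i)) (pullback.snd h (W.affineCover.f i))
      h (W.affineCover.f i) := IsPullback.of_hasPullback _ _
  have s2 := s1.paste_horiz sq.flip
  exact noeth_of_isPullback_affine φ hφ (pullback.snd h (W.affineCover.f i))
    (pullback.fst h (W.affineCover.f i) ≫ p) (W.affineCover.f i ≫ q) s2.flip

theorem essFiniteType_residueFieldMap {Y' Y : Scheme.{u}} (g : Y' ⟶ Y) [LocallyOfFiniteType g]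
    (y' : Y') : (g.residueFieldMap y').hom.EssFiniteType :=
  RingHom.EssFiniteType.residueFieldMap (LocallyOfFiniteType.stalkMap g y')

section comp

variable {X X' Y : Scheme.{u}} (f : X ⟶ Y) (a : X' ⟶ X)

/-- the map on fibres `(a ≫ f)⁻¹(y) ⟶ f⁻¹(y)` induced by `a` -/
noncomputable def fibComp (y : Y) : (a ≫ f).fiber y ⟶ f.fiber y :=
  pullback.lift ((a ≫ f).fiberι y ≫ a) ((a ≫ f).fiberToSpecResidueField y)
    (by rw [Category.assoc]; exact (a ≫ f).fiber_fac y)

theorem fibComp_fiberι (y : Y) : fibComp f a y ≫ f.fiberι y = (a ≫ f).fiberι y ≫ a :=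
  pullback.lift_fst _ _ _

theorem fibComp_toSpec (y : Y) :
    fibComp f a y ≫ f.fiberToSpecResidueField y = (a ≫ f).fiberToSpecResidueField y :=
  pullback.lift_snd _ _ _

theorem isPullback_fibComp (y : Y) :
    IsPullback (fibComp f a y) ((a ≫ f).fiberι y) (f.fiberι y) a := by
  have t : IsPullback (f.fiberToSpecResidueField y) (f.fiberι y)
      (Y.fromSpecResidueField y) f :=
    (IsPullback.of_hasPullback f (Y.fromSpecResidueField y)).flip
  have s0 : IsPullback ((a ≫ f).fiberToSpecResidueField y) ((a ≫ f).fiberι y)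
      (Y.fromSpecResidueField y) (a ≫ f) :=
    (IsPullback.of_hasPullback (a ≫ f) (Y.fromSpecResidueField y)).flip
  have s : IsPullback (fibComp f a y ≫ f.fiberToSpecResidueField y) ((a ≫ f).fiberι y)
      (Y.fromSpecResidueField y) (a ≫ f) := by
    rw [fibComp_toSpec]; exact s0
  exact IsPullback.of_right s (fibComp_fiberι f a y) t

theorem main1406 [Flat a] [LocallyOfFinitePresentation a] [Surjective a] :
    (∀ y : Y, IsLocallyNoetherian (f.fiber y)) ↔
      ∀ y : Y, IsLocallyNoetherian ((a ≫ f).fiber y) := by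
  have hsq := fun y => (isPullback_fibComp f a y).flip
  constructor
  · intro h y
    haveI := h y
    haveI : LocallyOfFiniteType (fibComp f a y) :=
      MorphismProperty.of_isPullback (P := @LocallyOfFiniteType) (hsq y) inferInstance
    exact LocallyOfFiniteType.isLocallyNoetherian (fibComp f a y)
  · intro h y
    haveI := h y
    haveI : Flat (fibComp f a y) :=
      MorphismProperty.of_isPullback (P := @Flat) (hsq y) inferInstance
    haveI : LocallyOfFinitePresentation (fibComp f a y) :=
      MorphismProperty.of_isPullback (P := @LocallyOfFinitePresentation) (hsq y) inferInstance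
    haveI : Surjective (fibComp f a y) :=
      MorphismProperty.of_isPullback (P := @Surjective) (hsq y) inferInstance
    exact Groth.Agent.Lib.AlgSpNoethDesc_helper7.isLocallyNoetherian_of_flat_of_surjective
      (fibComp f a y) (fibComp f a y).isOpenMap

end comp

open Groth.Agent.FibMapFlat in
theorem main1405 {X Y X' Y' : Scheme.{u}} (f : X ⟶ Y) (f' : X' ⟶ Y') (g' : X' ⟶ X)
    (g : Y' ⟶ Y) [Flat g] [LocallyOfFinitePresentation g] [Surjective g]
    (hc : IsPullback g' f' f g) :
    (∀ y : Y, IsLocallyNoetherian (f.fiber y)) ↔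
      ∀ y' : Y', IsLocallyNoetherian (f'.fiber y') := by
  constructor
  · intro h y'
    haveI := h (g y')
    exact isLocallyNoetherian_of_isPullback_essFiniteType (g.residueFieldMap y')
      (essFiniteType_residueFieldMap g y') (fibMap hc y') (f'.fiberToSpecResidueField y')
      (f.fiberToSpecResidueField (g y')) (isPullback_fibMap hc y')
  · intro h y
    obtain ⟨y', rfl⟩ := g.surjective y
    haveI := h y'
    haveI : Flat (fibMap hc y') := flat_fibMap hc y'
    haveI : Subsingleton (Spec (Y.residueField (g y'))) :=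
      inferInstanceAs (Subsingleton (PrimeSpectrum (Y.residueField (g y'))))
    haveI : UniversallyOpen (Spec.map (g.residueFieldMap y')) := inferInstance
    haveI : UniversallyOpen (fibMap hc y') :=
      MorphismProperty.of_isPullback (P := @UniversallyOpen) (isPullback_fibMap hc y').flip
        inferInstance
    haveI : Surjective (Spec.map (g.residueFieldMap y')) :=
      ⟨fun x => ⟨IsLocalRing.closedPoint _, Subsingleton.elim (α := PrimeSpectrum _) _ _⟩⟩
    haveI : Surjective (fibMap hc y') :=
      MorphismProperty.of_isPullback (P := @Surjective) (isPullback_fibMap hc y').flip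
        inferInstance
    exact Groth.Agent.Lib.AlgSpNoethDesc_helper7.isLocallyNoetherian_of_flat_of_surjective
      (fibMap hc y') (fibMap hc y').isOpenMap

end Groth.Agent.FibNoeth
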