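import Mathlib
import Groth.Agent.Lib.FlatCM4_helper9
import Groth.Agent.Lib.CMEquiv_helper3

/-!
# `K ⊗_k L` is Cohen–Macaulay for a finitely generated field extension (helper9)

* `isCMRing_of_isLocalization`: localizations of CM rings are CM.
* `isCMRing_of_finite_flat`: finite flat algebras over CM rings are CM.
* `isCMRing_field`: fields are CM.
* `isCMRing_tensor_field`: `L ⊗_k K` CM if `L/k` is a finitely generated field extension.
APPEND-ONLY once landed.
-/

set_option autoImplicit false
universe u

namespace Groth.Agent.TensorCM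

open IsLocalRing TensorProduct Groth.Agent.FlatCM Groth.Agent.Lib.CMEquivH3

/-- localizations of CM rings are CM -/
theorem isCMRing_of_isLocalization {R : Type u} [CommRing R] (M : Submonoid R) (S : Type u)
    [CommRing S] [Algebra R S] [IsLocalization M S] [h : LocCoh.IsCohenMacaulayRing R] :
    LocCoh.IsCohenMacaulayRing S := by
  haveI : IsNoetherianRing S := IsLocalization.isNoetherianRing M S inferInstance
  refine ⟨fun q hq => ?_⟩
  haveI : IsLocalization.AtPrime (Localization.AtPrime q) (q.comap (algebraMap R S)) :=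
    IsLocalization.isLocalization_isLocalization_atPrime_isLocalization M _ q
  have e : Localization.AtPrime (q.comap (algebraMap R S)) ≃ₐ[R] Localization.AtPrime q :=
    IsLocalization.algEquiv (q.comap (algebraMap R S)).primeCompl _ _
  exact isCohenMacaulayLocalRing_of_ringEquiv e.toRingEquiv
    (h.isCohenMacaulayLocalRing_localization _)

/-- finite flat algebras over CM rings are CM -/
theorem isCMRing_of_finite_flat (A B : Type u) [CommRing A] [CommRing B] [Algebra A B]
    [Module.Finite A B] [Module.Flat A B] [hA : LocCoh.IsCohenMacaulayRing A] :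
    LocCoh.IsCohenMacaulayRing B := by
  haveI : IsNoetherianRing B := IsNoetherianRing.of_finite A B
  apply isCMRing_of_flat A B
  intro p hp
  haveI : Module.Finite p.ResidueField (p.Fiber B) := inferInstance
  haveI : IsArtinianRing (p.Fiber B) := IsArtinianRing.of_finite p.ResidueField _
  haveI : IsNoetherianRing (p.Fiber B) := inferInstance
  refine ⟨fun q hq => ?_⟩
  haveI : IsNoetherianRing (Localization.AtPrime q) :=
    IsLocalization.isNoetherianRing q.primeCompl _ inferInstance
  apply isCMLocalRing_of_dim_zero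
  haveI : IsArtinianRing (Localization.AtPrime q) := inferInstance
  exact ringKrullDimZero_iff_ringKrullDim_eq_zero.1 inferInstance

/-- fields are CM -/
theorem isCMRing_field (K : Type u) [Field K] : LocCoh.IsCohenMacaulayRing K := by
  refine ⟨fun q hq => ?_⟩
  haveI : IsNoetherianRing (Localization.AtPrime q) :=
    IsLocalization.isNoetherianRing q.primeCompl _ inferInstance
  apply isCMLocalRing_of_dim_zero
  haveI : IsArtinianRing (Localization.AtPrime q) := inferInstance
  exact ringKrullDimZero_iff_ringKrullDim_eq_zero.1 inferInstance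

section Main

/-- core step: `P ⊆ Q = Frac P ⊆ L` with `L/Q` finite and `P ⊗_k K` CM implies `L ⊗_k K` CM. -/
theorem isCMRing_tensor_core (k K L P Q : Type u) [Field k] [Field K] [Field L] [Algebra k K]
    [Algebra k L] [CommRing P] [Algebra k P] [Algebra P L] [IsScalarTower k P L]
    [Field Q] [Algebra P Q] [IsFractionRing P Q] [Algebra Q L] [IsScalarTower P Q L]
    [Module.Finite Q L] [hS₀ : LocCoh.IsCohenMacaulayRing (P ⊗[k] K)] :
    LocCoh.IsCohenMacaulayRing (L ⊗[k] K) := by
  let S₀ := P ⊗[k] K
  let A' := Q ⊗[P] S₀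
  haveI hA' : LocCoh.IsCohenMacaulayRing A' := by
    letI : Algebra S₀ A' := Algebra.TensorProduct.rightAlgebra
    haveI : IsLocalization (Algebra.algebraMapSubmonoid S₀ (nonZeroDivisors P)) A' :=
      IsLocalization.tensorRight (R := P) (S := S₀) Q (nonZeroDivisors P)
    exact isCMRing_of_isLocalization (Algebra.algebraMapSubmonoid S₀ (nonZeroDivisors P)) A'
  let B' := A' ⊗[Q] L
  haveI : LocCoh.IsCohenMacaulayRing B' := isCMRing_of_finite_flat A' B'
  let e1 : A' ⊗[Q] L ≃ₐ[Q] L ⊗[Q] A' := Algebra.TensorProduct.comm Q A' L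
  let e2 : L ⊗[Q] (Q ⊗[P] S₀) ≃ₐ[L] L ⊗[P] S₀ := Algebra.TensorProduct.cancelBaseChange P Q L L S₀
  let e3 : L ⊗[P] (P ⊗[k] K) ≃ₐ[L] L ⊗[k] K := Algebra.TensorProduct.cancelBaseChange k P L L K
  exact isCohenMacaulayRing_of_ringEquiv (R := B') (R' := L ⊗[k] K)
    (e1.toRingEquiv.trans (e2.toRingEquiv.trans e3.toRingEquiv)) inferInstance

variable (k K L : Type u) [Field k] [Field K] [Field L] [Algebra k K] [Algebra k L]

/-- `L ⊗_k K` is Cohen–Macaulay for a finitely generated field extension `L/k`. -/
theorem isCMRing_tensor_field [Algebra.EssFiniteType k L] :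
    LocCoh.IsCohenMacaulayRing (L ⊗[k] K) := by
  obtain ⟨s, hs⟩ := exists_finset_isTranscendenceBasis k L
  let P := MvPolynomial s k
  let φ : P →ₐ[k] L := MvPolynomial.aeval ((↑) : s → L)
  have hφ : Function.Injective φ := hs.1
  letI algPL : Algebra P L := φ.toRingHom.toAlgebra
  haveI : IsScalarTower k P L := IsScalarTower.of_algebraMap_eq (fun x => (φ.commutes x).symm)
  have hinj : Function.Injective (algebraMap P L) := hφ
  let Q := FractionRing P
  letI algQL : Algebra Q L := (IsFractionRing.lift hinj).toAlgebra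
  haveI : IsScalarTower P Q L :=
    IsScalarTower.of_algebraMap_eq (fun x => (IsFractionRing.lift_algebraMap hinj x).symm)
  haveI : IsScalarTower k Q L := IsScalarTower.of_algebraMap_eq (fun x => by
    rw [IsScalarTower.algebraMap_apply k P Q, ← IsScalarTower.algebraMap_apply P Q L,
      ← IsScalarTower.algebraMap_apply k P L])
  haveI : Algebra.IsAlgebraic (Algebra.adjoin k (Set.range ((↑) : s → L))) L := hs.isAlgebraic
  haveI : Algebra.IsAlgebraic P L := by
    let f : P →+* Algebra.adjoin k (Set.range ((↑) : s → L)) :=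
      (hs.1.aevalEquiv : P ≃ₐ[k] _).toAlgHom.toRingHom
    refine Algebra.IsAlgebraic.of_ringHom_of_comp_eq f (RingHom.id L)
      hs.1.aevalEquiv.surjective Function.injective_id ?_
    refine RingHom.ext fun x => ?_
    rfl
  haveI : Algebra.IsAlgebraic Q L := (IsFractionRing.comap_isAlgebraic_iff (A := P)).1 inferInstance
  haveI : Algebra.EssFiniteType Q L := Algebra.EssFiniteType.of_comp k Q L
  haveI : Module.Finite Q L := Algebra.finite_of_essFiniteType_of_isAlgebraic
  haveI : LocCoh.IsCohenMacaulayRing K := isCMRing_field K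
  haveI : LocCoh.IsCohenMacaulayRing (MvPolynomial (Fin s.card) K) := isCMRing_mvPolynomial K _
  haveI hS₀ : LocCoh.IsCohenMacaulayRing (P ⊗[k] K) := by
    let e : P ⊗[k] K ≃+* MvPolynomial (Fin s.card) K :=
      (Algebra.TensorProduct.comm k P K).toRingEquiv.trans
        ((MvPolynomial.algebraTensorAlgEquiv k K).toRingEquiv.trans
          (MvPolynomial.renameEquiv K s.equivFin).toRingEquiv)
    exact isCohenMacaulayRing_of_ringEquiv e.symm inferInstance
  exact isCMRing_tensor_core k K L P Q

end Main

end Groth.Agent.TensorCM
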