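import Mathlib
import Groth.Prelude.Def_MoreMor
import Groth.Agent.Lib.FibNoeth_helper5
import Groth.Agent.Lib.FibStalkIso_helper5
import Groth.Agent.Lib.TensorFieldCM_helper9
import Groth.Agent.Lib.FlatPtBC_helper4
import Groth.Agent.Lib.CMPtDescent_helper5

/-!
# CM at a point ascends along base change by a morphism locally of finite type (helper5):
S1345, S1407.  APPEND-ONLY once landed.
-/

set_option autoImplicit false
universe u

namespace Groth.Agent.CMAscent

open AlgebraicGeometry CategoryTheory Limits TensorProduct IsLocalRing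

/-- global sections of `Spec A ×_{Spec k} Spec K` -/
theorem gamma_equiv_of_isPullback_Spec (k K A : Type u) [CommRing k] [CommRing K] [CommRing A]
    [Algebra k K] [Algebra k A] {P : Scheme.{u}} (a : P ⟶ Spec (.of A)) (b : P ⟶ Spec (.of K))
    (sq : IsPullback a b (Spec.map (CommRingCat.ofHom (algebraMap k A)))
      (Spec.map (CommRingCat.ofHom (algebraMap k K)))) :
    Nonempty ((A ⊗[k] K) ≃+* Γ(P, ⊤)) := by
  have e : P ≅ Spec (.of (A ⊗[k] K)) := sq.isoPullback ≪≫ pullbackSpecIso k A K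
  have e3 : CommRingCat.of (A ⊗[k] K) ≅ Γ(P, ⊤) :=
    (Scheme.ΓSpecIso _).symm ≪≫ Scheme.Γ.mapIso e.op
  exact ⟨e3.commRingCatIsoToRingEquiv⟩

/-- stalks of an affine scheme with CM coordinate ring are CM -/
theorem isCM_stalk_of_isAffine {T : Scheme.{u}} [IsAffine T]
    [hT : LocCoh.IsCohenMacaulayRing Γ(T, ⊤)] (t : T) :
    LocCoh.IsCohenMacaulayLocalRing (T.presheaf.stalk t) := by
  have hU : IsAffineOpen (⊤ : T.Opens) := isAffineOpen_top T
  letI := TopCat.Presheaf.algebra_section_stalk T.presheaf (⟨t, trivial⟩ : (⊤ : T.Opens))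
  haveI := hU.isLocalization_stalk ⟨t, trivial⟩
  haveI : LocCoh.IsCohenMacaulayLocalRing
      (Localization.AtPrime (hU.primeIdealOf ⟨t, trivial⟩).asIdeal) :=
    hT.isCohenMacaulayLocalRing_localization _
  exact Groth.Agent.FlatCM.isCMLocalRing_of_ringEquiv
    (IsLocalization.algEquiv (hU.primeIdealOf ⟨t, trivial⟩).asIdeal.primeCompl
      (Localization.AtPrime (hU.primeIdealOf ⟨t, trivial⟩).asIdeal)
      (T.presheaf.stalk t)).toRingEquiv

open Groth.Agent.FibMapFlat Groth.Agent.FibNoeth in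
/-- all local rings of all fibres of the induced map on fibres of a cartesian square along a
morphism locally of finite type are CM -/
theorem isCM_stalk_fiber_fibMap {P X Y Z : Scheme.{u}} {fst : P ⟶ X} {snd : P ⟶ Y}
    {f : X ⟶ Z} {g : Y ⟶ Z} [LocallyOfFiniteType g] (h : IsPullback fst snd f g) (y : Y)
    (z : f.fiber (g y)) (t : (fibMap h y).fiber z) :
    LocCoh.IsCohenMacaulayLocalRing (((fibMap h y).fiber z).presheaf.stalk t) := by
  have sqφ := isPullback_fibMap h y
  haveI : IsAffineHom (fibMap h y) :=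
    MorphismProperty.of_isPullback (P := @IsAffineHom) sqφ.flip inferInstance
  have sqT : IsPullback ((fibMap h y).fiberι z) ((fibMap h y).fiberToSpecResidueField z)
      (fibMap h y) ((f.fiber (g y)).fromSpecResidueField z) := IsPullback.of_hasPullback _ _
  have s2 := sqT.paste_horiz sqφ.flip
  have hcψ : Spec.map (Spec.preimage ((f.fiber (g y)).fromSpecResidueField z ≫
      f.fiberToSpecResidueField (g y))) = (f.fiber (g y)).fromSpecResidueField z ≫
      f.fiberToSpecResidueField (g y) := Spec.map_preimage _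
  rw [← hcψ] at s2
  letI : Algebra (Z.residueField (g y)) (Y.residueField y) :=
    (g.residueFieldMap y).hom.toAlgebra
  letI : Algebra (Z.residueField (g y)) ((f.fiber (g y)).residueField z) :=
    (Spec.preimage ((f.fiber (g y)).fromSpecResidueField z ≫
      f.fiberToSpecResidueField (g y))).hom.toAlgebra
  haveI : Algebra.EssFiniteType (Z.residueField (g y)) (Y.residueField y) :=
    essFiniteType_residueFieldMap g y
  obtain ⟨eΓ⟩ := gamma_equiv_of_isPullback_Spec (Z.residueField (g y))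
    ((f.fiber (g y)).residueField z) (Y.residueField y) _ _ s2
  have hCM : LocCoh.IsCohenMacaulayRing
      (Y.residueField y ⊗[Z.residueField (g y)] (f.fiber (g y)).residueField z) :=
    Groth.Agent.TensorCM.isCMRing_tensor_field _ _ _
  haveI : LocCoh.IsCohenMacaulayRing Γ((fibMap h y).fiber z, ⊤) :=
    Groth.Agent.Lib.CMEquivH3.isCohenMacaulayRing_of_ringEquiv eΓ hCM
  exact isCM_stalk_of_isAffine t

open Groth.Agent.FibMapFlat Groth.Agent.FibNoeth Groth.Agent.FibStalkIso
  Groth.Agent.FibStalkDimH8 FibRedH8 in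
theorem main1345 {X Y X' Y' : Scheme.{u}} (f : X ⟶ Y)
    (hN : ∀ y : Y, IsLocallyNoetherian (f.fiber y))
    (f' : X' ⟶ Y') (g' : X' ⟶ X) (g : Y' ⟶ Y) [LocallyOfFiniteType g]
    (hc : IsPullback g' f' f g) (x' : X')
    (h : MoreMor.IsCMAt f (g' x')) : MoreMor.IsCMAt f' x' := by
  refine ⟨Groth.Agent.Lib.FlatPtBCH4.flat_baseChange_of_flat hc x' h.1, ?_⟩
  obtain ⟨-, hCM⟩ := h
  haveI hflφ : Flat (fibMap hc (f' x')) := flat_fibMap hc (f' x')
  have hpt : (f.fiberι (g (f' x'))) (fibMap hc (f' x') (f'.asFiber x')) = g' x' := by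
    rw [fiberι_fibMap_apply, Scheme.Hom.fiberι_asFiber]
  obtain ⟨e⟩ := fiberStalk_transport_equiv f (g (f' x')) (fibMap hc (f' x') (f'.asFiber x'))
    (g' x') hpt
  have hB : LocCoh.IsCohenMacaulayLocalRing
      ((f.fiber (g (f' x'))).presheaf.stalk (fibMap hc (f' x') (f'.asFiber x'))) :=
    @Groth.Agent.FlatCM.isCMLocalRing_of_ringEquiv _ _ _ _ e hCM
  letI : Algebra ((f.fiber (g (f' x'))).presheaf.stalk (fibMap hc (f' x') (f'.asFiber x')))
      ((f'.fiber (f' x')).presheaf.stalk (f'.asFiber x')) :=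
    ((fibMap hc (f' x')).stalkMap (f'.asFiber x')).hom.toAlgebra
  haveI : IsLocalHom (algebraMap
      ((f.fiber (g (f' x'))).presheaf.stalk (fibMap hc (f' x') (f'.asFiber x')))
      ((f'.fiber (f' x')).presheaf.stalk (f'.asFiber x'))) :=
    inferInstanceAs (IsLocalHom ((fibMap hc (f' x')).stalkMap (f'.asFiber x')).hom)
  haveI : Module.Flat
      ((f.fiber (g (f' x'))).presheaf.stalk (fibMap hc (f' x') (f'.asFiber x')))
      ((f'.fiber (f' x')).presheaf.stalk (f'.asFiber x')) :=
    Flat.stalkMap (fibMap hc (f' x')) (f'.asFiber x')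
  haveI : IsNoetherianRing
      ((f.fiber (g (f' x'))).presheaf.stalk (fibMap hc (f' x') (f'.asFiber x'))) :=
    hB.toIsNoetherian
  haveI : IsLocallyNoetherian (f'.fiber (f' x')) := by
    haveI := hN (g (f' x'))
    exact isLocallyNoetherian_of_isPullback_essFiniteType (g.residueFieldMap (f' x'))
      (essFiniteType_residueFieldMap g (f' x')) (fibMap hc (f' x'))
      (f'.fiberToSpecResidueField (f' x')) (f.fiberToSpecResidueField (g (f' x')))
      (isPullback_fibMap hc (f' x'))
  haveI : IsNoetherianRing ((f'.fiber (f' x')).presheaf.stalk (f'.asFiber x')) :=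
    inferInstance
  have hF : LocCoh.IsCohenMacaulayLocalRing
      (EGA4.FibRing ((f.fiber (g (f' x'))).presheaf.stalk (fibMap hc (f' x') (f'.asFiber x')))
        ((f'.fiber (f' x')).presheaf.stalk (f'.asFiber x'))) := by
    haveI := isCM_stalk_fiber_fibMap hc (f' x') (fibMap hc (f' x') (f'.asFiber x'))
      ((fibMap hc (f' x')).asFiber (f'.asFiber x'))
    have : LocCoh.IsCohenMacaulayLocalRing
        ((f'.fiber (f' x')).presheaf.stalk (f'.asFiber x') ⧸
          fibIdeal (fibMap hc (f' x')) (f'.asFiber x')) :=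
      Groth.Agent.FlatCM.isCMLocalRing_of_ringEquiv
        (fibStalkEquiv (fibMap hc (f' x')) (f'.asFiber x')).symm
    exact this
  exact (Groth.Agent.FlatCM.isCM_local_iff
    ((f.fiber (g (f' x'))).presheaf.stalk (fibMap hc (f' x') (f'.asFiber x')))
    ((f'.fiber (f' x')).presheaf.stalk (f'.asFiber x'))).2 ⟨hB, hF⟩

theorem main1407 {X Y X' Y' : Scheme.{u}} (f : X ⟶ Y) (f' : X' ⟶ Y') (g' : X' ⟶ X)
    (g : Y' ⟶ Y) [Flat g] [LocallyOfFinitePresentation g] [Surjective g]
    (hc : IsPullback g' f' f g) :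
    ((∀ y : Y, IsLocallyNoetherian (f.fiber y)) ∧ ∀ x : X, MoreMor.IsCMAt f x) ↔
      (∀ y' : Y', IsLocallyNoetherian (f'.fiber y')) ∧ ∀ x' : X', MoreMor.IsCMAt f' x' := by
  have hNiff := Groth.Agent.FibNoeth.main1405 f f' g' g hc
  constructor
  · rintro ⟨hN, hCM⟩
    exact ⟨hNiff.1 hN, fun x' => main1345 f hN f' g' g hc x' (hCM (g' x'))⟩
  · rintro ⟨hN', hCM'⟩
    have hN := hNiff.2 hN'
    refine ⟨hN, fun x => ?_⟩
    haveI : Surjective g' := MorphismProperty.of_isPullback (P := @Surjective) hc.flip inferInstance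
    obtain ⟨x', rfl⟩ := g'.surjective x
    exact Groth.Agent.CMPtDescent.main1347 f hN f' g' g hc x' (Flat.stalkMap g (f' x')) (hCM' x')

end Groth.Agent.CMAscent
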