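import Mathlib
import Groth.Prelude.Def_MoreMor
import Groth.Agent.Lib.CMAscent_helper5

/-!
# The CM locus of a flat lfp morphism commutes with arbitrary base change (helper5): S1342.
APPEND-ONLY once landed.
-/

set_option autoImplicit false
universe u

namespace Groth.Agent.CMLocusBC

open AlgebraicGeometry CategoryTheory Limits TensorProduct IsLocalRing

/-- the residue field of a point of a scheme locally of finite type over `Spec k` is essentially
of finite type over `k` -/
theorem essFiniteType_preimage {W : Scheme.{u}} {k : CommRingCat.{u}} (p : W ⟶ Spec k)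
    [LocallyOfFiniteType p] (z : W) :
    (Spec.preimage (W.fromSpecResidueField z ≫ p)).hom.EssFiniteType := by
  have h1 : W.fromSpecResidueField z ≫ p =
      Spec.map (p.residueFieldMap z) ≫ (Spec k).fromSpecResidueField (p z) :=
    (Scheme.Hom.SpecMap_residueFieldMap_fromSpecResidueField p z).symm
  have h2 := Scheme.Spec.map_residueFieldIso_inv_eq_fromSpecResidueField k (p z)
  have h3 : Spec.preimage (W.fromSpecResidueField z ≫ p) =
      CommRingCat.ofHom (algebraMap k (p z).asIdeal.ResidueField) ≫
        (Scheme.Spec.residueFieldIso k (p z)).inv ≫ p.residueFieldMap z := by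
    apply Spec.map_injective
    rw [Spec.map_preimage, h1, ← h2]
    simp only [Spec.map_comp, Category.assoc]
  rw [h3, CommRingCat.hom_comp, CommRingCat.hom_comp]
  have hA : (CommRingCat.ofHom (algebraMap k (p z).asIdeal.ResidueField)).hom.EssFiniteType :=
    RingHom.essFiniteType_algebraMap.mpr inferInstance
  have hB : ((Scheme.Spec.residueFieldIso k (p z)).inv).hom.EssFiniteType :=
    (RingHom.FiniteType.of_surjective _
      (ConcreteCategory.bijective_of_isIso (Scheme.Spec.residueFieldIso k (p z)).inv).2).essFiniteType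
  exact hA.comp (hB.comp (Groth.Agent.FibNoeth.essFiniteType_residueFieldMap p z))

open Groth.Agent.FibMapFlat Groth.Agent.FibNoeth Groth.Agent.CMAscent in
/-- variant of `isCM_stalk_fiber_fibMap` with `f` (instead of `g`) locally of finite type -/
theorem isCM_stalk_fiber_fibMap' {P X Y Z : Scheme.{u}} {fst : P ⟶ X} {snd : P ⟶ Y}
    {f : X ⟶ Z} {g : Y ⟶ Z} [LocallyOfFiniteType f] (h : IsPullback fst snd f g) (y : Y)
    (z : f.fiber (g y)) (t : (fibMap h y).fiber z) :
    LocCoh.IsCohenMacaulayLocalRing (((fibMap h y).fiber z).presheaf.stalk t) := by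
  have sqφ := isPullback_fibMap h y
  haveI : IsAffineHom (fibMap h y) :=
    MorphismProperty.of_isPullback (P := @IsAffineHom) sqφ.flip inferInstance
  have sqT : IsPullback ((fibMap h y).fiberι z) ((fibMap h y).fiberToSpecResidueField z)
      (fibMap h y) ((f.fiber (g y)).fromSpecResidueField z) := IsPullback.of_hasPullback _ _
  have s2 := sqT.paste_horiz sqφ.flip
  have hcψ : Spec.map (Spec.preimage ((f.fiber (g y)).fromSpecResidueField z ≫
      f.fiberToSpecResidueField (g y))) = (f.fiber (g y)).fromSpecResidueField z ≫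
      f.fiberToSpecResidueField (g y) := Spec.map_preimage _
  rw [← hcψ] at s2
  haveI : LocallyOfFiniteType (f.fiberToSpecResidueField (g y)) :=
    MorphismProperty.pullback_snd _ _ inferInstance
  letI : Algebra (Z.residueField (g y)) (Y.residueField y) :=
    (g.residueFieldMap y).hom.toAlgebra
  letI : Algebra (Z.residueField (g y)) ((f.fiber (g y)).residueField z) :=
    (Spec.preimage ((f.fiber (g y)).fromSpecResidueField z ≫
      f.fiberToSpecResidueField (g y))).hom.toAlgebra
  haveI : Algebra.EssFiniteType (Z.residueField (g y)) ((f.fiber (g y)).residueField z) :=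
    essFiniteType_preimage (f.fiberToSpecResidueField (g y)) z
  obtain ⟨eΓ⟩ := gamma_equiv_of_isPullback_Spec (Z.residueField (g y))
    ((f.fiber (g y)).residueField z) (Y.residueField y) _ _ s2
  have hCM0 : LocCoh.IsCohenMacaulayRing
      ((f.fiber (g y)).residueField z ⊗[Z.residueField (g y)] Y.residueField y) :=
    Groth.Agent.TensorCM.isCMRing_tensor_field _ _ _
  have hCM : LocCoh.IsCohenMacaulayRing
      (Y.residueField y ⊗[Z.residueField (g y)] (f.fiber (g y)).residueField z) :=
    Groth.Agent.Lib.CMEquivH3.isCohenMacaulayRing_of_ringEquiv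
      (Algebra.TensorProduct.comm (Z.residueField (g y)) ((f.fiber (g y)).residueField z)
        (Y.residueField y)).toRingEquiv hCM0
  haveI : LocCoh.IsCohenMacaulayRing Γ((fibMap h y).fiber z, ⊤) :=
    Groth.Agent.Lib.CMEquivH3.isCohenMacaulayRing_of_ringEquiv eΓ hCM
  exact isCM_stalk_of_isAffine t

theorem isLocallyNoetherian_fiber {X S : Scheme.{u}} (f : X ⟶ S) [LocallyOfFiniteType f]
    (y : S) : IsLocallyNoetherian (f.fiber y) := by
  haveI : LocallyOfFiniteType (f.fiberToSpecResidueField y) :=
    MorphismProperty.pullback_snd _ _ inferInstance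
  exact LocallyOfFiniteType.isLocallyNoetherian (f.fiberToSpecResidueField y)

open Groth.Agent.FibMapFlat Groth.Agent.FibNoeth Groth.Agent.FibStalkIso
  Groth.Agent.FibStalkDimH8 FibRedH8 in
/-- CM at a point ascends along an arbitrary base change when `f` is locally of finite type -/
theorem cm_ascent' {X Y X' Y' : Scheme.{u}} (f : X ⟶ Y) [LocallyOfFiniteType f]
    (f' : X' ⟶ Y') (g' : X' ⟶ X) (g : Y' ⟶ Y) (hc : IsPullback g' f' f g) (x' : X')
    (h : MoreMor.IsCMAt f (g' x')) : MoreMor.IsCMAt f' x' := by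
  refine ⟨Groth.Agent.Lib.FlatPtBCH4.flat_baseChange_of_flat hc x' h.1, ?_⟩
  obtain ⟨-, hCM⟩ := h
  haveI hflφ : Flat (fibMap hc (f' x')) := flat_fibMap hc (f' x')
  have hpt : (f.fiberι (g (f' x'))) (fibMap hc (f' x') (f'.asFiber x')) = g' x' := by
    rw [fiberι_fibMap_apply, Scheme.Hom.fiberι_asFiber]
  obtain ⟨e⟩ := fiberStalk_transport_equiv f (g (f' x')) (fibMap hc (f' x') (f'.asFiber x'))
    (g' x') hpt
  have hB : LocCoh.IsCohenMacaulayLocalRing
      ((f.fiber (g (f' x'))).presheaf.stalk (fibMap hc (f' x') (f'.asFiber x'))) :=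
    @Groth.Agent.FlatCM.isCMLocalRing_of_ringEquiv _ _ _ _ e hCM
  letI : Algebra ((f.fiber (g (f' x'))).presheaf.stalk (fibMap hc (f' x') (f'.asFiber x')))
      ((f'.fiber (f' x')).presheaf.stalk (f'.asFiber x')) :=
    ((fibMap hc (f' x')).stalkMap (f'.asFiber x')).hom.toAlgebra
  haveI : IsLocalHom (algebraMap
      ((f.fiber (g (f' x'))).presheaf.stalk (fibMap hc (f' x') (f'.asFiber x')))
      ((f'.fiber (f' x')).presheaf.stalk (f'.asFiber x'))) :=
    inferInstanceAs (IsLocalHom ((fibMap hc (f' x')).stalkMap (f'.asFiber x')).hom)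
  haveI : Module.Flat
      ((f.fiber (g (f' x'))).presheaf.stalk (fibMap hc (f' x') (f'.asFiber x')))
      ((f'.fiber (f' x')).presheaf.stalk (f'.asFiber x')) :=
    Flat.stalkMap (fibMap hc (f' x')) (f'.asFiber x')
  haveI : IsNoetherianRing
      ((f.fiber (g (f' x'))).presheaf.stalk (fibMap hc (f' x') (f'.asFiber x'))) :=
    hB.toIsNoetherian
  haveI : LocallyOfFiniteType f' :=
    MorphismProperty.of_isPullback (P := @LocallyOfFiniteType) hc inferInstance
  haveI : IsLocallyNoetherian (f'.fiber (f' x')) := isLocallyNoetherian_fiber f' (f' x')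
  haveI : IsNoetherianRing ((f'.fiber (f' x')).presheaf.stalk (f'.asFiber x')) :=
    inferInstance
  have hF : LocCoh.IsCohenMacaulayLocalRing
      (EGA4.FibRing ((f.fiber (g (f' x'))).presheaf.stalk (fibMap hc (f' x') (f'.asFiber x')))
        ((f'.fiber (f' x')).presheaf.stalk (f'.asFiber x'))) := by
    haveI := isCM_stalk_fiber_fibMap' hc (f' x') (fibMap hc (f' x') (f'.asFiber x'))
      ((fibMap hc (f' x')).asFiber (f'.asFiber x'))
    have : LocCoh.IsCohenMacaulayLocalRing
        ((f'.fiber (f' x')).presheaf.stalk (f'.asFiber x') ⧸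
          fibIdeal (fibMap hc (f' x')) (f'.asFiber x')) :=
      Groth.Agent.FlatCM.isCMLocalRing_of_ringEquiv
        (fibStalkEquiv (fibMap hc (f' x')) (f'.asFiber x')).symm
    exact this
  exact (Groth.Agent.FlatCM.isCM_local_iff
    ((f.fiber (g (f' x'))).presheaf.stalk (fibMap hc (f' x') (f'.asFiber x')))
    ((f'.fiber (f' x')).presheaf.stalk (f'.asFiber x'))).2 ⟨hB, hF⟩

theorem main1342 {X S X' S' : Scheme.{u}} (f : X ⟶ S) [Flat f] [LocallyOfFinitePresentation f]
    (f' : X' ⟶ S') (g' : X' ⟶ X) (g : S' ⟶ S) (hc : IsPullback g' f' f g) :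
    {x' : ↑X' | MoreMor.IsCMAt f' x'} = g' ⁻¹' {x : ↑X | MoreMor.IsCMAt f x} := by
  ext x'
  simp only [Set.mem_ofPred_eq, Set.mem_preimage]
  constructor
  · intro h
    exact Groth.Agent.FibMapFlat.main1346 f (isLocallyNoetherian_fiber f) f' g' g hc x'
      (Flat.stalkMap f (g' x')) h
  · intro h
    exact cm_ascent' f f' g' g hc x' h

end Groth.Agent.CMLocusBC
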