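import Mathlib
import Groth.Agent.Lib.FibSk4_helper5

/-!
# Fibrewise (S_k), part 5: the proper case (EGA IV 12.2.4 (iv) for (S_k)) (helper5)

APPEND-ONLY once landed.
-/

set_option autoImplicit false

namespace Groth.Agent.Lib.FibSkH5

open AlgebraicGeometry CategoryTheory TopologicalSpace

universe u

variable {X Y : Scheme.{u}} (f : X ⟶ Y)

/-- transport of a fibrewise property between `(y, x')` and `(f x, asFiber x)` -/
theorem fiber_point_transport (Q : ∀ (y : Y), f.fiber y → Prop) (y : Y) (x' : f.fiber y) :
    Q y x' ↔ Q (f (f.fiberι y x')) (f.asFiber (f.fiberι y x')) := by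
  have hy : f (f.fiberι y x') = y := by
    have := (f.fiberHomeo y x').2
    simpa using this
  have key : ∀ (y₀ : Y) (h : y₀ = y) (z : f.fiber y₀), f.fiberι y₀ z = f.fiberι y x' →
      (Q y x' ↔ Q y₀ z) := by
    intro y₀ h z hz
    subst h
    have : z = x' := (f.fiberι y₀).isEmbedding.injective hz
    rw [this]
  exact key _ hy _ (f.fiberι_asFiber _)

theorem isOpen_proper_hasSk [IsProper f] [Flat f] [LocallyOfFinitePresentation f] (k : ℕ) :
    IsOpen {y : Y | ∀ x : ↥(f.fiber y), LocCoh.HasSk k ((f.fiber y).presheaf.stalk x)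
      ((f.fiber y).presheaf.stalk x)} := by
  have hE := isOpen_fibre_hasSk f k
  set E : Set X := {x : X | LocCoh.HasSk k ((f.fiber (f.base x)).presheaf.stalk (f.asFiber x))
      ((f.fiber (f.base x)).presheaf.stalk (f.asFiber x))} with hEdef
  have hcl : IsClosed (f '' Eᶜ) := f.isClosedMap _ hE.isClosed_compl
  have hset : {y : Y | ∀ x : ↥(f.fiber y), LocCoh.HasSk k ((f.fiber y).presheaf.stalk x)
      ((f.fiber y).presheaf.stalk x)} = (f '' Eᶜ)ᶜ := by
    ext y
    simp only [Set.mem_ofPred_eq, Set.mem_compl_iff, Set.mem_image, not_exists, not_and]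
    constructor
    · intro h x hx hxy
      apply hx
      subst hxy
      exact h (f.asFiber x)
    · intro h x'
      rw [fiber_point_transport f (fun y x => LocCoh.HasSk k ((f.fiber y).presheaf.stalk x)
        ((f.fiber y).presheaf.stalk x)) y x']
      by_contra hcon
      have hy : f (f.fiberι y x') = y := by
        have := (f.fiberHomeo y x').2
        simpa using this
      exact h (f.fiberι y x') hcon hy
  rw [hset]
  exact hcl.isOpen_compl

end Groth.Agent.Lib.FibSkH5
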