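import Mathlib
import Groth.Agent.Lib.FibProjDim4_helper5
import Groth.Agent.Lib.FibSk5_helper5
import Groth.Agent.Lib.FreeLocBC_helper6
import Groth.Agent.Lib.CMLocusBC_helper5

/-!
# Codepth of fibre modules, part 5: the Cohen–Macaulay locus and the proper case (helper5)

* `isOpen_fibCM`: EGA IV 12.1.1 (vi) for modules.
* `isOpen_proper_codepth`, `isOpen_proper_fibCM`: EGA IV 12.2.1 (v), (vii).

APPEND-ONLY once landed.
-/

set_option autoImplicit false

namespace Groth.Agent.Lib.FibPdH5

open AlgebraicGeometry CategoryTheory TopologicalSpace TensorProduct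
open Groth.Agent.Lib.FibSkH5

universe u

section CM

variable {X Y : Scheme.{u}} (f : X ⟶ Y) [LocallyOfFinitePresentation f]

/-- over a Noetherian local ring, a finite module is zero or Cohen–Macaulay iff its codepth is
`≤ 0` -/
theorem subsingleton_or_isCM_iff (R : Type u) [CommRing R] [IsLocalRing R] [IsNoetherianRing R]
    (N : Type u) [AddCommGroup N] [Module R N] [Module.Finite R N] :
    (Subsingleton N ∨ LocCoh.IsCohenMacaulayModule R N) ↔
      Module.supportDim R N ≤ ((LocCoh.depth R N : ℕ∞) : WithBot ℕ∞) + (0 : ℕ) := by
  rw [Nat.cast_zero, add_zero]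
  constructor
  · rintro (h | h)
    · rw [Module.supportDim_eq_bot_of_subsingleton]
      exact bot_le
    · exact le_of_eq h
  · intro h
    by_cases hs : Subsingleton N
    · exact Or.inl hs
    · right
      haveI : Nontrivial N := not_subsingleton_iff_nontrivial.mp hs
      exact le_antisymm h (Groth.Agent.DepthLib.depth_le_supportDim R N)

theorem finite_fibre_stalk (F : X.Modules) (hF : CohB1.IsFP F) (y : Y) (z : f.fiber y) :
    Module.Finite ((f.fiber y).presheaf.stalk z)
      (((Scheme.Modules.pullback (f.fiberι y)).obj F).presheaf.stalk z) := by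
  haveI : SheafOfModules.IsFinitePresentation (R := X.ringCatSheaf) F := hF
  haveI : F.IsQuasicoherent := inferInstance
  have h1 : CohB1.IsFP ((Scheme.Modules.pullback (f.fiberι y)).obj F) :=
    FpqcH8.isFP_pullback (f.fiberι y) F
  haveI : SheafOfModules.IsFinitePresentation (R := (f.fiber y).ringCatSheaf)
      ((Scheme.Modules.pullback (f.fiberι y)).obj F) := h1
  haveI : ((Scheme.Modules.pullback (f.fiberι y)).obj F).IsQuasicoherent := inferInstance
  haveI := Groth.Agent.Lib.FreeLocBCH6.finitePresentation_stalk
    ((Scheme.Modules.pullback (f.fiberι y)).obj F) h1 z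
  infer_instance

theorem isNoetherianRing_fibre_stalk (y : Y) (z : f.fiber y) :
    IsNoetherianRing ((f.fiber y).presheaf.stalk z) := by
  haveI : IsLocallyNoetherian (f.fiber y) := Groth.Agent.CMLocusBC.isLocallyNoetherian_fiber f y
  infer_instance

/-- **EGA IV 12.1.1 (vi)** for modules: the fibrewise Cohen–Macaulay locus of a finitely presented
module flat over the base is open. -/
theorem isOpen_fibCM (F : X.Modules) (hF : CohB1.IsFP F) (hflat : FlatMod.IsFlatOver f F) :
    IsOpen {x : X |
      Subsingleton (((Scheme.Modules.pullback (f.fiberι (f.base x))).obj F).presheaf.stalk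
        (f.asFiber x)) ∨
      LocCoh.IsCohenMacaulayModule ((f.fiber (f.base x)).presheaf.stalk (f.asFiber x))
        (((Scheme.Modules.pullback (f.fiberι (f.base x))).obj F).presheaf.stalk
          (f.asFiber x))} := by
  have hset : {x : X |
      Subsingleton (((Scheme.Modules.pullback (f.fiberι (f.base x))).obj F).presheaf.stalk
        (f.asFiber x)) ∨
      LocCoh.IsCohenMacaulayModule ((f.fiber (f.base x)).presheaf.stalk (f.asFiber x))
        (((Scheme.Modules.pullback (f.fiberι (f.base x))).obj F).presheaf.stalk
          (f.asFiber x))} = {x : X | FibCodepthLE f F 0 x} := by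
    ext x
    haveI := isNoetherianRing_fibre_stalk f (f.base x) (f.asFiber x)
    haveI := finite_fibre_stalk f F hF (f.base x) (f.asFiber x)
    exact subsingleton_or_isCM_iff _ _
  rw [hset]
  exact isOpen_fibCodepthLE f F hF hflat 0

end CM

section Proper

variable {X Y : Scheme.{u}} (f : X ⟶ Y)

/-- for a closed map, openness of a fibrewise condition on `X` gives openness on `Y` of the
condition "at all points of the fibre" -/
theorem isOpen_forall_fiber (hcl : IsClosedMap f.base) (Q : ∀ y : Y, f.fiber y → Prop)
    (h : IsOpen {x : X | Q (f.base x) (f.asFiber x)}) :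
    IsOpen {y : Y | ∀ z : f.fiber y, Q y z} := by
  set E : Set X := {x : X | Q (f.base x) (f.asFiber x)} with hEdef
  have hcl' : IsClosed (f.base '' Eᶜ) := hcl _ h.isClosed_compl
  have hset : {y : Y | ∀ z : f.fiber y, Q y z} = (f.base '' Eᶜ)ᶜ := by
    ext y
    simp only [Set.mem_ofPred_eq, Set.mem_compl_iff, Set.mem_image, not_exists, not_and]
    constructor
    · intro h x hx hxy
      apply hx
      subst hxy
      exact h (f.asFiber x)
    · intro h z
      rw [fiber_point_transport f Q y z]
      by_contra hcon
      have hy : f (f.fiberι y z) = y := by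
        have := (f.fiberHomeo y z).2
        simpa using this
      exact h (f.fiberι y z) hcon hy
  rw [hset]
  exact hcl'.isOpen_compl

variable [IsProper f] [LocallyOfFinitePresentation f]

/-- **EGA IV 12.2.1 (v)**: for `f` proper of finite presentation and `F` finitely presented and
flat over `Y`, the set of `y` such that `F_y` has codepth `≤ k` at every point is open. -/
theorem isOpen_proper_codepth (F : X.Modules) (hF : CohB1.IsFP F)
    (hflat : FlatMod.IsFlatOver f F) (k : ℕ) :
    IsOpen {y : Y | ∀ x : ↥(f.fiber y),
      Module.supportDim ((f.fiber y).presheaf.stalk x)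
        (((Scheme.Modules.pullback (f.fiberι y)).obj F).presheaf.stalk x) ≤
      ((LocCoh.depth ((f.fiber y).presheaf.stalk x)
        (((Scheme.Modules.pullback (f.fiberι y)).obj F).presheaf.stalk x) : ℕ∞) :
          WithBot ℕ∞) + k} :=
  isOpen_forall_fiber f f.isClosedMap
    (fun y x => Module.supportDim ((f.fiber y).presheaf.stalk x)
        (((Scheme.Modules.pullback (f.fiberι y)).obj F).presheaf.stalk x) ≤
      ((LocCoh.depth ((f.fiber y).presheaf.stalk x)
        (((Scheme.Modules.pullback (f.fiberι y)).obj F).presheaf.stalk x) : ℕ∞) :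
          WithBot ℕ∞) + k)
    (isOpen_fibCodepthLE f F hF hflat k)

/-- **EGA IV 12.2.1 (vii)**: for `f` proper of finite presentation and `F` finitely presented and
flat over `Y`, the set of `y` such that `F_y` is Cohen–Macaulay is open. -/
theorem isOpen_proper_fibCM (F : X.Modules) (hF : CohB1.IsFP F)
    (hflat : FlatMod.IsFlatOver f F) :
    IsOpen {y : Y | ∀ x : ↥(f.fiber y),
      Subsingleton (((Scheme.Modules.pullback (f.fiberι y)).obj F).presheaf.stalk x) ∨
      LocCoh.IsCohenMacaulayModule ((f.fiber y).presheaf.stalk x)
        (((Scheme.Modules.pullback (f.fiberι y)).obj F).presheaf.stalk x)} :=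
  isOpen_forall_fiber f f.isClosedMap
    (fun y x => Subsingleton (((Scheme.Modules.pullback (f.fiberι y)).obj F).presheaf.stalk x) ∨
      LocCoh.IsCohenMacaulayModule ((f.fiber y).presheaf.stalk x)
        (((Scheme.Modules.pullback (f.fiberι y)).obj F).presheaf.stalk x))
    (isOpen_fibCM f F hF hflat)

end Proper

end Groth.Agent.Lib.FibPdH5
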