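import Mathlib

/-! Lifting standard étale pairs along a "fraction-surjective" ring map (helper8).
APPEND-ONLY once landed. -/

set_option autoImplicit false
universe u

namespace Groth.Agent.Lib.EtNbhdH8

open Polynomial CategoryTheory Limits TensorProduct

/-- `φ : B → C` is fraction-surjective: every element of `C` is `φ b / φ a` with `φ a` a unit. -/
def FracSurj {B C : Type*} [CommRing B] [CommRing C] (φ : B →+* C) : Prop :=
  ∀ c : C, ∃ a b : B, IsUnit (φ a) ∧ c * φ a = φ b

theorem FracSurj.finset {B C : Type*} [CommRing B] [CommRing C] {φ : B →+* C} (h : FracSurj φ)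
    (T : Finset C) : ∃ a : B, IsUnit (φ a) ∧ ∀ c ∈ T, ∃ b : B, c * φ a = φ b := by
  classical
  induction T using Finset.induction_on with
  | empty => exact ⟨1, by simp, by simp⟩
  | insert c T _ ih =>
    obtain ⟨a₁, ha₁, h₁⟩ := ih
    obtain ⟨a₂, b₂, ha₂, h₂⟩ := h c
    refine ⟨a₁ * a₂, by rw [map_mul]; exact ha₁.mul ha₂, ?_⟩
    intro c' hc'
    rcases Finset.mem_insert.mp hc' with rfl | hc'
    · exact ⟨b₂ * a₁, by rw [map_mul, map_mul, ← h₂]; ring⟩
    · obtain ⟨b, hb⟩ := h₁ c' hc'
      exact ⟨b * a₂, by rw [map_mul, map_mul, ← hb]; ring⟩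

/-- The pair `(f, g f')`, which is standard étale for any monic `f` and any `g`. -/
noncomputable def mkPair {R : Type*} [CommRing R] (f : R[X]) (hf : f.Monic) (g : R[X]) :
    StandardEtalePair R :=
  ⟨f, hf, g * derivative f, ⟨g, 0, 1, by ring⟩⟩

/-- Two standard étale pairs `(f, g)` and `(f, g f')` have isomorphic rings. -/
noncomputable def pairEquiv {R : Type*} [CommRing R] (P₁ P₂ : StandardEtalePair R)
    (hf : P₂.f = P₁.f) (hg : P₂.g = P₁.g * derivative P₁.f) : P₁.Ring ≃ₐ[R] P₂.Ring := by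
  have h₁ : P₁.HasMap P₂.X := by
    refine ⟨by rw [← hf]; exact P₂.hasMap_X.1, ?_⟩
    have := P₂.hasMap_X.2
    rw [hg, map_mul] at this
    exact isUnit_of_mul_isUnit_left this
  have h₂ : P₂.HasMap P₁.X := by
    refine ⟨by rw [hf]; exact P₁.hasMap_X.1, ?_⟩
    rw [hg, map_mul]
    exact P₁.hasMap_X.2.mul P₁.hasMap_X.isUnit_derivative_f
  exact AlgEquiv.ofAlgHom (P₁.lift P₂.X h₁) (P₂.lift P₁.X h₂)
    (P₂.hom_ext (by simp)) (P₁.hom_ext (by simp))

theorem exists_lift_pair {B C : Type*} [CommRing B] [CommRing C] {φ : B →+* C} (h : FracSurj φ)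
    (Q : StandardEtalePair C) :
    ∃ (a : B) (ha : IsUnit (φ a)) (P : StandardEtalePair (Localization.Away a)),
      (P.map (IsLocalization.Away.lift a ha)).f = Q.f ∧
      (P.map (IsLocalization.Away.lift a ha)).g = Q.g * derivative Q.f := by
  classical
  obtain ⟨a, ha, hT⟩ := h.finset (Q.f.coeffs ∪ Q.g.coeffs)
  refine ⟨a, ha, ?_⟩
  set ψ : Localization.Away a →+* C := IsLocalization.Away.lift a ha with hψ
  have hr : ∀ c ∈ Q.f.coeffs ∪ Q.g.coeffs, c ∈ Set.range ψ := by
    intro c hc
    obtain ⟨b, hb⟩ := hT c hc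
    refine ⟨IsLocalization.mk' _ b (⟨a, Submonoid.mem_powers a⟩ : Submonoid.powers a), ?_⟩
    rw [hψ, IsLocalization.Away.lift, IsLocalization.lift_mk'_spec]
    simpa [mul_comm] using hb.symm
  have hl : ∀ q : C[X], q.coeffs ⊆ Q.f.coeffs ∪ Q.g.coeffs → q ∈ lifts ψ := by
    intro q hq
    rw [lifts_iff_coeff_lifts]
    intro n
    by_cases hn : q.coeff n = 0
    · exact ⟨0, by rw [map_zero, hn]⟩
    · exact hr _ (hq (coeff_mem_coeffs hn))
  obtain ⟨f, hf, -, hfm⟩ := lifts_and_natDegree_eq_and_monic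
    (hl Q.f Finset.subset_union_left) Q.monic_f
  obtain ⟨g, hg⟩ := (mem_lifts _).mp (hl Q.g Finset.subset_union_right)
  refine ⟨mkPair f hfm g, ?_, ?_⟩
  · simp [mkPair, hf]
  · simp only [mkPair, StandardEtalePair.map_g, Polynomial.map_mul, hg]
    rw [← derivative_map, hf]

/-- Base change of a standard étale pair is a pushout of commutative rings. -/
theorem exists_isPushout_map {R R' : Type u} [CommRing R] [CommRing R'] (ψ : R →+* R')
    (P : StandardEtalePair R) :
    ∃ e : P.Ring →+* (P.map ψ).Ring,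
      IsPushout (CommRingCat.ofHom (algebraMap R P.Ring)) (CommRingCat.ofHom ψ)
        (CommRingCat.ofHom e) (CommRingCat.ofHom (algebraMap R' (P.map ψ).Ring)) := by
  letI := ψ.toAlgebra
  let P' : StandardEtalePresentation R P.Ring :=
    ⟨P, P.X, P.hasMap_X, by rw [StandardEtalePair.lift_X_left]; exact Function.bijective_id⟩
  let Q := P'.baseChange (T := R')
  let eq : R' ⊗[R] P.Ring ≃ₐ[R'] (P.map ψ).Ring := Q.equivRing
  have h0 := CommRingCat.isPushout_tensorProduct R R' P.Ring
  refine ⟨eq.toRingEquiv.toRingHom.comp Algebra.TensorProduct.includeRight.toRingHom, ?_⟩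
  refine (h0.of_iso (Iso.refl _) (Iso.refl _) (Iso.refl _) eq.toRingEquiv.toCommRingCatIso
    ?_ ?_ ?_ ?_).flip
  · simp
  · simp
  · ext x
    simp only [Iso.refl_hom, Category.id_comp, CommRingCat.hom_comp, CommRingCat.hom_ofHom,
      RingHom.coe_comp, Function.comp_apply]
    have : (x ⊗ₜ[R] (1 : P.Ring) : R' ⊗[R] P.Ring) = algebraMap R' _ x := by
      rw [Algebra.TensorProduct.algebraMap_apply]; rfl
    exact (congrArg eq this).trans (eq.commutes x)
  · rw [Iso.refl_hom, Category.id_comp]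
    rfl

end Groth.Agent.Lib.EtNbhdH8

namespace Groth.Agent.Lib.EtNbhdH8

open Polynomial CategoryTheory Limits TensorProduct

theorem isPushout_away {B C : Type u} [CommRing B] [CommRing C] (φ : B →+* C) (a : B)
    (ha : IsUnit (φ a)) :
    IsPushout (CommRingCat.ofHom (algebraMap B (Localization.Away a))) (CommRingCat.ofHom φ)
      (CommRingCat.ofHom (IsLocalization.Away.lift a ha)) (𝟙 (CommRingCat.of C)) := by
  haveI : IsLocalization ((Submonoid.powers a).map φ) C := by
    apply IsLocalization.self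
    rintro _ ⟨_, ⟨n, rfl⟩, rfl⟩
    rw [map_pow]
    exact ha.pow n
  have h := CommRingCat.isPushout_of_isLocalization φ (IsLocalization.Away.lift a ha)
    (Rₘ := Localization.Away a) (Sₘ := C)
    (by ext x; simp [IsLocalization.Away.lift]) (Submonoid.powers a)
  exact h.flip

theorem exists_isPushout_away {B C : Type u} [CommRing B] [CommRing C] (φ : B →+* C) (a : B)
    (ha : IsUnit (φ a)) (P : StandardEtalePair (Localization.Away a)) :
    ∃ e : P.Ring →+* (P.map (IsLocalization.Away.lift a ha)).Ring,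
      IsPushout
        (CommRingCat.ofHom ((algebraMap (Localization.Away a) P.Ring).comp
          (algebraMap B (Localization.Away a))))
        (CommRingCat.ofHom φ) (CommRingCat.ofHom e)
        (CommRingCat.ofHom (algebraMap C (P.map (IsLocalization.Away.lift a ha)).Ring)) := by
  obtain ⟨e, he⟩ := exists_isPushout_map (IsLocalization.Away.lift a ha) P
  refine ⟨e, ?_⟩
  have := (isPushout_away φ a ha).paste_horiz he
  rwa [Category.id_comp] at this

end Groth.Agent.Lib.EtNbhdH8
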