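import Mathlib
import Groth.Agent.Lib.EtNbhdA_helper8

/-! Étale neighbourhoods lift along fraction-surjective affine maps: geometric core (helper8).
APPEND-ONLY once landed. -/

set_option autoImplicit false
universe u

namespace Groth.Agent.Lib.EtNbhdH8

open AlgebraicGeometry CategoryTheory Limits

theorem FracSurj.of_isPushout {A B K C : CommRingCat.{u}} {α : A ⟶ B} {κ : A ⟶ K} {φ : B ⟶ C}
    {κ' : K ⟶ C} (H : IsPushout α κ φ κ') (hκ : FracSurj κ.hom) : FracSurj φ.hom := by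
  have hcl := CommRingCat.closure_range_union_range_eq_top_of_isPushout H
  intro c
  have hc : c ∈ Subring.closure (Set.range φ ∪ Set.range κ') := by rw [hcl]; trivial
  induction hc using Subring.closure_induction with
  | mem x hx =>
    rcases hx with ⟨b, rfl⟩ | ⟨k, rfl⟩
    · exact ⟨1, b, by simp, by simp⟩
    · obtain ⟨a₂, a₁, hu, he⟩ := hκ k
      have hw : ∀ t, φ.hom (α.hom t) = κ'.hom (κ.hom t) := fun t =>
        congrArg (fun ψ : A ⟶ C => ψ.hom t) H.w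
      refine ⟨α.hom a₂, α.hom a₁, ?_, ?_⟩
      · rw [hw]; exact hu.map κ'.hom
      · rw [hw, hw, ← he, map_mul]
  | zero => exact ⟨1, 0, by simp, by simp⟩
  | one => exact ⟨1, 1, by simp, by simp⟩
  | add x y _ _ hx hy =>
    obtain ⟨a₁, b₁, hu₁, h₁⟩ := hx
    obtain ⟨a₂, b₂, hu₂, h₂⟩ := hy
    refine ⟨a₁ * a₂, b₁ * a₂ + b₂ * a₁, by rw [map_mul]; exact hu₁.mul hu₂, ?_⟩
    simp only [map_mul, map_add, ← h₁, ← h₂]; ring
  | neg x _ hx =>
    obtain ⟨a₁, b₁, hu₁, h₁⟩ := hx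
    exact ⟨a₁, -b₁, hu₁, by rw [map_neg, ← h₁]; ring⟩
  | mul x y _ _ hx hy =>
    obtain ⟨a₁, b₁, hu₁, h₁⟩ := hx
    obtain ⟨a₂, b₂, hu₂, h₂⟩ := hy
    refine ⟨a₁ * a₂, b₁ * b₂, by rw [map_mul]; exact hu₁.mul hu₂, ?_⟩
    simp only [map_mul, ← h₁, ← h₂]; ring

theorem exists_etale_lift {F X V : Scheme.{u}} (ι : F ⟶ X) {X₀ : X.Opens}
    (hX₀ : IsAffineOpen X₀) (hF₀ : IsAffineOpen (ι ⁻¹ᵁ X₀)) (hφ : FracSurj (ι.app X₀).hom)
    (g : V ⟶ F) [Etale g] (v : V) (hv : g v ∈ ι ⁻¹ᵁ X₀) :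
    ∃ (U U' : Scheme.{u}) (p : U ⟶ X) (a : U' ⟶ U) (m : U' ⟶ V) (u' : U'),
      Etale p ∧ IsPullback a (m ≫ g) p ι ∧ IsOpenImmersion m ∧ m u' = v := by
  obtain ⟨_, ⟨V₁, hV₁, rfl⟩, hvV₁, hle⟩ := V.isBasis_affineOpens.exists_subset_of_mem_open
    (show v ∈ (g ⁻¹ᵁ (ι ⁻¹ᵁ X₀) : Set V) from hv) (g ⁻¹ᵁ (ι ⁻¹ᵁ X₀)).isOpen
  have hle' : V₁ ≤ g ⁻¹ᵁ (ι ⁻¹ᵁ X₀) := hle
  have hρ : RingHom.Etale (g.appLE (ι ⁻¹ᵁ X₀) V₁ hle').hom :=
    HasRingHomProperty.appLE (P := @Etale) g inferInstance ⟨_, hF₀⟩ ⟨_, hV₁⟩ hle'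
  algebraize [(g.appLE (ι ⁻¹ᵁ X₀) V₁ hle').hom]
  let y := hV₁.primeIdealOf ⟨v, hvV₁⟩
  obtain ⟨h, hhq, hstd⟩ := Algebra.IsEtaleAt.exists_isStandardEtale
    (R := Γ(F, ι ⁻¹ᵁ X₀)) (S := Γ(V, V₁)) y.asIdeal
  obtain ⟨Pres⟩ := hstd.nonempty_standardEtalePresentation
  obtain ⟨a, ha, P, hPf, hPg⟩ := exists_lift_pair hφ Pres.P
  let eqv := pairEquiv Pres.P (P.map (IsLocalization.Away.lift a ha)) hPf hPg
  obtain ⟨e, hpush⟩ := exists_isPushout_away (ι.app X₀).hom a ha P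
  -- the rings
  let ψ : Localization.Away a →+* Γ(F, ι ⁻¹ᵁ X₀) := IsLocalization.Away.lift a ha
  let βE : Γ(X, X₀) ⟶ CommRingCat.of P.Ring :=
    CommRingCat.ofHom ((algebraMap (Localization.Away a) P.Ring).comp
      (algebraMap Γ(X, X₀) (Localization.Away a)))
  let βC : Γ(F, ι ⁻¹ᵁ X₀) ⟶ CommRingCat.of (P.map ψ).Ring :=
    CommRingCat.ofHom (algebraMap Γ(F, ι ⁻¹ᵁ X₀) (P.map ψ).Ring)
  let θ : Γ(V, V₁) ⟶ CommRingCat.of (P.map ψ).Ring :=
    CommRingCat.ofHom (algebraMap Γ(V, V₁) (Localization.Away h)) ≫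
      Pres.equivRing.toRingEquiv.toCommRingCatIso.hom ≫ eqv.toRingEquiv.toCommRingCatIso.hom
  have hθ : g.appLE (ι ⁻¹ᵁ X₀) V₁ hle' ≫ θ = βC := by
    ext x
    simp only [θ, βC, CommRingCat.hom_comp, CommRingCat.hom_ofHom, RingHom.coe_comp,
      Function.comp_apply]
    change eqv (Pres.equivRing (algebraMap Γ(V, V₁) (Localization.Away h)
      (algebraMap Γ(F, ι ⁻¹ᵁ X₀) Γ(V, V₁) x))) = _
    rw [← IsScalarTower.algebraMap_apply, AlgEquiv.commutes, AlgEquiv.commutes]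
  have hE : Etale (Spec.map βE) := by
    rw [HasRingHomProperty.Spec_iff (P := @Etale)]
    simp only [βE, CommRingCat.hom_ofHom]
    exact RingHom.Etale.stableUnderComposition _ _
      (RingHom.etale_algebraMap.mpr inferInstance) (RingHom.etale_algebraMap.mpr inferInstance)
  refine ⟨Spec (.of P.Ring), Spec (.of (P.map ψ).Ring), Spec.map βE ≫ hX₀.fromSpec,
    Spec.map (CommRingCat.ofHom e), Spec.map θ ≫ hV₁.fromSpec, ?_⟩
  have hmg : (Spec.map θ ≫ hV₁.fromSpec) ≫ g = Spec.map βC ≫ hF₀.fromSpec := by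
    rw [Category.assoc, ← IsAffineOpen.SpecMap_appLE_fromSpec g hF₀ hV₁ hle', ← Category.assoc,
      ← Spec.map_comp, hθ]
  -- the point
  have hy : y ∈ (Spec.map (CommRingCat.ofHom
      (algebraMap Γ(V, V₁) (Localization.Away h)))).opensRange := by
    rw [Scheme.Hom.opensRange_localizationAway]
    exact hhq
  obtain ⟨y₁, hy₁⟩ := hy
  obtain ⟨u', hu'⟩ := (Spec.map (Pres.equivRing.toRingEquiv.toCommRingCatIso.hom ≫
    eqv.toRingEquiv.toCommRingCatIso.hom)).surjective y₁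
  have hθu : Spec.map θ u' = y := by
    have : Spec.map θ = Spec.map (Pres.equivRing.toRingEquiv.toCommRingCatIso.hom ≫
        eqv.toRingEquiv.toCommRingCatIso.hom) ≫ Spec.map (CommRingCat.ofHom
          (algebraMap Γ(V, V₁) (Localization.Away h))) := by
      rw [← Spec.map_comp]
    rw [this, Scheme.Hom.comp_apply, hu', hy₁]
  refine ⟨u', ?_, ?_, ?_, ?_⟩
  · infer_instance
  · rw [hmg]
    have h1 := (isPullback_SpecMap_of_isPushout _ _ _ _ hpush).flip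
    have h2 : IsPullback hF₀.fromSpec (Spec.map (ι.app X₀)) ι hX₀.fromSpec := by
      refine (IsOpenImmersion.isPullback _ _ _ _ ?_ ?_).flip
      · have := IsAffineOpen.SpecMap_appLE_fromSpec ι hX₀ hF₀ le_rfl
        rw [Scheme.Hom.appLE_eq_app] at this
        exact this.symm
      · rw [IsAffineOpen.opensRange_fromSpec, IsAffineOpen.opensRange_fromSpec]
    exact (h1.paste_horiz h2).flip
  · have : Spec.map θ = Spec.map (Pres.equivRing.toRingEquiv.toCommRingCatIso.hom ≫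
        eqv.toRingEquiv.toCommRingCatIso.hom) ≫ Spec.map (CommRingCat.ofHom
          (algebraMap Γ(V, V₁) (Localization.Away h))) := by
      rw [← Spec.map_comp]
    rw [this]
    infer_instance
  · rw [Scheme.Hom.comp_apply, hθu]
    exact hV₁.fromSpec_primeIdealOf ⟨v, hvV₁⟩

end Groth.Agent.Lib.EtNbhdH8
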