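import Mathlib
import Groth.Agent.Lib.EtNbhdB_helper8

/-! The inclusion of a fibre is locally fraction-surjective on affine opens (helper8).
APPEND-ONLY once landed. -/

set_option autoImplicit false
universe u

namespace Groth.Agent.Lib.EtNbhdH8

open AlgebraicGeometry CategoryTheory Limits

theorem fromSpecResidueField_appLE {S : Scheme.{u}} (s : S) {W : S.Opens} (hW : IsAffineOpen W)
    (hs : s ∈ W) (hle : ⊤ ≤ (S.fromSpecResidueField s) ⁻¹ᵁ W) :
    (S.fromSpecResidueField s).appLE W ⊤ hle =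
      S.evaluation W s hs ≫ (Scheme.ΓSpecIso (S.residueField s)).inv := by
  apply Spec.map_injective
  rw [← cancel_mono hW.fromSpec, IsAffineOpen.SpecMap_appLE_fromSpec _ hW (isAffineOpen_top _) hle,
    IsAffineOpen.fromSpec_top, Scheme.isoSpec_Spec_inv, Spec.map_comp, Category.assoc]
  congr 1
  rw [Scheme.fromSpecResidueField, ← hW.fromSpecStalk_eq_fromSpecStalk hs,
    IsAffineOpen.fromSpecStalk, ← Category.assoc, ← Spec.map_comp]
  rfl

theorem fracSurj_evaluation {S : Scheme.{u}} (s : S) {W : S.Opens} (hW : IsAffineOpen W)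
    (hs : s ∈ W) : FracSurj (S.evaluation W s hs).hom := by
  intro k
  obtain ⟨t, rfl⟩ := IsLocalRing.residue_surjective (R := S.presheaf.stalk s) k
  letI := S.presheaf.algebra_section_stalk (U := W) ⟨s, hs⟩
  haveI := hW.isLocalization_stalk ⟨s, hs⟩
  obtain ⟨⟨a₁, a₂⟩, h⟩ := IsLocalization.surj (hW.primeIdealOf ⟨s, hs⟩).asIdeal.primeCompl t
  have hu : IsUnit (algebraMap Γ(S, W) (S.presheaf.stalk s) a₂) :=
    IsLocalization.map_units _ a₂
  refine ⟨a₂, a₁, ?_, ?_⟩
  · exact hu.map (IsLocalRing.residue _)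
  · exact (map_mul (IsLocalRing.residue _) _ _).symm.trans (congrArg (IsLocalRing.residue _) h)

theorem fracSurj_fromSpecResidueField {S : Scheme.{u}} (s : S) {W : S.Opens} (hW : IsAffineOpen W)
    (hs : s ∈ W) (hle : ⊤ ≤ (S.fromSpecResidueField s) ⁻¹ᵁ W) :
    FracSurj ((S.fromSpecResidueField s).appLE W ⊤ hle).hom := by
  rw [fromSpecResidueField_appLE s hW hs hle]
  intro k
  obtain ⟨a, b, hu, h⟩ := fracSurj_evaluation s hW hs ((Scheme.ΓSpecIso (S.residueField s)).hom k)
  refine ⟨a, b, ?_, ?_⟩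
  · simp only [CommRingCat.hom_comp, RingHom.coe_comp, Function.comp_apply]
    exact hu.map (Scheme.ΓSpecIso (S.residueField s)).inv.hom
  · simp only [CommRingCat.hom_comp, RingHom.coe_comp, Function.comp_apply]
    rw [← h, map_mul]
    congr 1
    exact (congrArg (fun ψ : (Spec (S.residueField s)).presheaf.obj _ ⟶ _ => ψ.hom k)
      (Scheme.ΓSpecIso (S.residueField s)).hom_inv_id).symm

theorem fiber_affine_fracSurj {X S : Scheme.{u}} (f : X ⟶ S) (s : S) {W : S.Opens}
    (hW : IsAffineOpen W) (hs : s ∈ W) {X₀ : X.Opens} (hX₀ : IsAffineOpen X₀)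
    (hle : X₀ ≤ f ⁻¹ᵁ W) :
    IsAffineOpen ((f.fiberι s) ⁻¹ᵁ X₀) ∧ FracSurj ((f.fiberι s).app X₀).hom := by
  have H : IsPullback (f.fiberι s) (f.fiberToSpecResidueField s) f (S.fromSpecResidueField s) :=
    IsPullback.of_hasPullback f (S.fromSpecResidueField s)
  have hUST : (⊤ : (Spec (S.residueField s)).Opens) ≤ (S.fromSpecResidueField s) ⁻¹ᵁ W := by
    intro z _
    change S.fromSpecResidueField s z ∈ W
    rw [Scheme.fromSpecResidueField_apply]
    exact hs
  have hUY : (f.fiberι s) ⁻¹ᵁ X₀ =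
      (f.fiberι s) ⁻¹ᵁ X₀ ⊓ (f.fiberToSpecResidueField s) ⁻¹ᵁ ⊤ := by simp
  have hUT : IsAffineOpen (⊤ : (Spec (S.residueField s)).Opens) := isAffineOpen_top _
  have hAff : IsAffineOpen ((f.fiberι s) ⁻¹ᵁ X₀) := by
    have : IsAffine W := hW
    have : IsAffine (⊤ : (Spec (S.residueField s)).Opens) := hUT
    have : IsAffine X₀ := hX₀
    exact .of_isIso (Scheme.Hom.isPullback_resLE H hUST hle hUY).isoPullback.hom
  refine ⟨hAff, ?_⟩
  have hiso := isIso_pushoutSection_of_isAffineOpen H hUST hle hUY hW hUT hX₀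
  have hpo := (isIso_pushoutSection_iff H hUST hle hUY).mp hiso
  have := FracSurj.of_isPushout hpo (fracSurj_fromSpecResidueField s hW hs hUST)
  rwa [Scheme.Hom.appLE_eq_app] at this

end Groth.Agent.Lib.EtNbhdH8
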