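/-
helper5: rectified depth of fibre modules, ring level (EGA IV 12.1.1 (iii)-style).
* `fibCoheight A q`: coheight of `q` among the primes of `B` in the same fibre over `A`.
* `dim_fib_add_fibCoheight_mvPolynomial`: dim (fibre local ring at Q) + fibCoheight Q = N for A[T_1..T_N].
* `fibCoheight_under`: invariance along a surjection P → B.
* `rect_formula`: depth + fibCoheight + pd = N over the polynomial algebra.
* `isOpen_rectDepth`: lower semicontinuity of `rectDepth` on Spec B (B f.p. over A, M f.p. and A-flat).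
APPEND-ONLY once landed.
-/
import Mathlib
import Groth.Agent.Lib.FibProjDim3_helper5
import Groth.Agent.Lib.DimFT_helper8
import Groth.Agent.Lib.DimFT3_helper8

set_option autoImplicit false
set_option backward.isDefEq.respectTransparency false

namespace Groth.Agent.Lib.FibRectH5

open TensorProduct Pointwise CategoryTheory
open Groth.Agent.Lib.FibSkH5 Groth.Agent.Lib.FibPdH5

universe u

section Defs

variable (A : Type u) {B : Type u} [CommRing A] [CommRing B] [Algebra A B]

/-- a prime `q` of `B` as a point of the poset of primes of its fibre -/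
def fibPoint (q : Ideal B) [q.IsPrime] : (q.comap (algebraMap A B)).primesOver B :=
  ⟨q, inferInstance, ⟨rfl⟩⟩

/-- the coheight of `q` in the poset of primes of `B` in the same fibre over `A`
(= the dimension of the closure of `q` in its fibre) -/
noncomputable def fibCoheight (q : Ideal B) [q.IsPrime] : ℕ∞ := Order.coheight (fibPoint A q)

end Defs

section Poly

variable (A : Type u) [CommRing A] (N : ℕ)

set_option maxHeartbeats 1000000 in
/-- the dimension formula in the fibres of a polynomial algebra -/
theorem dim_fib_add_fibCoheight_mvPolynomial (Q : Ideal (MvPolynomial (Fin N) A)) [Q.IsPrime] :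
    ringKrullDim (Fib A Q) + ((fibCoheight A Q : ℕ∞) : WithBot ℕ∞) = (N : WithBot ℕ∞) := by
  set p := Q.comap (algebraMap A (MvPolynomial (Fin N) A)) with hp
  haveI : p.IsPrime := Ideal.comap_isPrime _ _
  let e : p.Fiber (MvPolynomial (Fin N) A) ≃ₐ[p.ResidueField]
      MvPolynomial (Fin N) p.ResidueField := MvPolynomial.scalarRTensorAlgEquiv
  haveI : IsDomain (p.Fiber (MvPolynomial (Fin N) A)) := e.toRingEquiv.toMulEquiv.isDomain _
  haveI : Algebra.FiniteType p.ResidueField (p.Fiber (MvPolynomial (Fin N) A)) := inferInstance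
  have htr : Algebra.trdeg p.ResidueField (p.Fiber (MvPolynomial (Fin N) A)) = N := by
    rw [e.trdeg_eq, MvPolynomial.trdeg_of_isDomain]
    simp
  set 𝔔 : PrimeSpectrum (p.Fiber (MvPolynomial (Fin N) A)) :=
    PrimeSpectrum.primesOverOrderIsoFiber A (MvPolynomial (Fin N) A) p (fibPoint A Q) with h𝔔
  have hco : Order.coheight 𝔔 = fibCoheight A Q := Order.coheight_orderIso _ _
  obtain ⟨r, hr, hsum⟩ := Groth.Agent.DimFT3H8.height_add_trdeg_quotient N p.ResidueField
    (p.Fiber (MvPolynomial (Fin N) A)) htr 𝔔.asIdeal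
  haveI : Algebra.FiniteType p.ResidueField (p.Fiber (MvPolynomial (Fin N) A) ⧸ 𝔔.asIdeal) :=
    Algebra.FiniteType.of_surjective (Ideal.Quotient.mkₐ p.ResidueField 𝔔.asIdeal)
      (Ideal.Quotient.mkₐ_surjective p.ResidueField 𝔔.asIdeal)
  obtain ⟨n, -, h2, h3, -⟩ := Groth.Agent.DimFTH8.exists_dim_eq p.ResidueField
    (p.Fiber (MvPolynomial (Fin N) A) ⧸ 𝔔.asIdeal)
  have hnr : n = r := by
    rw [hr] at h2
    exact_mod_cast h2.symm
  have h4 := Groth.Agent.DimFT3H8.ringKrullDim_quotient_eq_coheight 𝔔.asIdeal
  rw [h3] at h4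
  have h5 : Order.coheight 𝔔 = (n : ℕ∞) := by
    have : (⟨𝔔.asIdeal, 𝔔.isPrime⟩ : PrimeSpectrum _) = 𝔔 := rfl
    rw [this] at h4
    exact_mod_cast h4.symm
  -- the fibre local ring is the localization at `𝔔`
  have hq : 𝔔.asIdeal.comap (Algebra.TensorProduct.includeRight :
      MvPolynomial (Fin N) A →ₐ[A] p.Fiber (MvPolynomial (Fin N) A)) = Q := by
    have := (PrimeSpectrum.primesOverOrderIsoFiber A (MvPolynomial (Fin N) A) p).symm_apply_apply
      (fibPoint A Q)
    rw [← PrimeSpectrum.coe_primesOverOrderIsoFiber_symm_apply]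
    exact congrArg Subtype.val this
  have key := Groth.Agent.FlatCM.fibre_equiv_of_prime A (MvPolynomial (Fin N) A) p 𝔔.asIdeal
  have tr : ∀ (r : Ideal (MvPolynomial (Fin N) A)) [r.IsPrime], r = Q →
      Nonempty (Localization.AtPrime 𝔔.asIdeal ≃+* EGA4.FibLocRing A (MvPolynomial (Fin N) A) r) →
      Nonempty (Localization.AtPrime 𝔔.asIdeal ≃+* EGA4.FibLocRing A (MvPolynomial (Fin N) A) Q) := by
    intro r _ e h
    subst e
    exact h
  obtain ⟨σ⟩ := tr _ hq key
  have hdim : ringKrullDim (Fib A Q) = (𝔔.asIdeal.height : WithBot ℕ∞) := by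
    rw [← IsLocalization.AtPrime.ringKrullDim_eq_height 𝔔.asIdeal (Localization.AtPrime 𝔔.asIdeal)]
    exact (ringKrullDim_eq_of_ringEquiv σ).symm
  rw [hdim, ← hco, h5, hnr, ← WithBot.coe_add, hsum]
  rfl

end Poly

section Surj

variable (A : Type u) {P B : Type u} [CommRing A] [CommRing P] [CommRing B] [Algebra A P]
  [Algebra A B] [Algebra P B] [IsScalarTower A P B]
  (hsurj : Function.Surjective (algebraMap P B)) (q : Ideal B) [q.IsPrime]

theorem comap_under_eq (r : Ideal B) :
    (r.comap (algebraMap P B)).comap (algebraMap A P) = r.comap (algebraMap A B) := by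
  rw [Ideal.comap_comap, ← IsScalarTower.algebraMap_eq]

include hsurj in
/-- the coheight in the fibre is the same computed in `P` for a surjection `P → B` -/
theorem fibCoheight_under : fibCoheight A (under (P := P) q) = fibCoheight A q := by
  classical
  let f : (q.comap (algebraMap A B)).primesOver B →
      ((under (P := P) q).comap (algebraMap A P)).primesOver P := fun r =>
    ⟨r.1.comap (algebraMap P B), (haveI := r.2.1; Ideal.comap_isPrime (algebraMap P B) r.1), ⟨by
      show (under (P := P) q).comap (algebraMap A P) = (r.1.comap (algebraMap P B)).comap _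
      rw [comap_under_eq, comap_under_eq]
      exact r.2.2.over⟩⟩
  have hinj : ∀ r₁ r₂ : Ideal B, r₁.comap (algebraMap P B) ≤ r₂.comap (algebraMap P B) →
      r₁ ≤ r₂ := by
    intro r₁ r₂ h
    rw [← Ideal.map_comap_of_surjective _ hsurj r₁, ← Ideal.map_comap_of_surjective _ hsurj r₂]
    exact Ideal.map_mono h
  have hf : StrictMono f := by
    intro r₁ r₂ h
    rw [lt_iff_le_not_ge] at h ⊢
    refine ⟨Ideal.comap_mono h.1, fun hle => h.2 (hinj _ _ hle)⟩
  have hfq : f (fibPoint A q) = fibPoint A (under (P := P) q) := rfl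
  unfold fibCoheight
  rw [← hfq]
  symm
  apply Order.coheight_eq_of_strictMono f hf
  intro a b hab
  have hle : a.1.comap (algebraMap P B) ≤ b.1 := hab.le
  have hker : RingHom.ker (algebraMap P B) ≤ b.1 := by
    refine le_trans ?_ hle
    intro x hx
    rw [Ideal.mem_comap, (RingHom.mem_ker).mp hx]
    exact zero_mem _
  haveI := b.2.1
  have hcm : (b.1.map (algebraMap P B)).comap (algebraMap P B) = b.1 := by
    rw [Ideal.comap_map_of_surjective _ hsurj]
    apply le_antisymm
    · exact sup_le le_rfl hker
    · exact le_sup_left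
  let a' : (q.comap (algebraMap A B)).primesOver B :=
    ⟨b.1.map (algebraMap P B), Ideal.map_isPrime_of_surjective hsurj hker, ⟨by
      show q.comap (algebraMap A B) = (b.1.map (algebraMap P B)).comap (algebraMap A B)
      rw [← comap_under_eq (P := P) A (b.1.map (algebraMap P B)), hcm,
        ← comap_under_eq (P := P) A q]
      exact b.2.2.over⟩⟩
  have hfa' : f a' = b := Subtype.ext hcm
  refine ⟨a', ?_, hfa'⟩
  rw [← hfa'] at hab
  rw [lt_iff_le_not_ge] at hab ⊢
  exact ⟨hinj _ _ hab.1, fun hle => hab.2 (Ideal.comap_mono hle)⟩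

end Surj

section Regular

variable (A : Type u) [CommRing A] (N : ℕ)

/-- over a polynomial algebra `A[T_1..T_N]`: for the fibre module at `Q`,
`depth + (dimension of the closure of Q in its fibre) + pd = N` -/
theorem rect_formula (Q : Ideal (MvPolynomial (Fin N) A)) [Q.IsPrime] (M : Type u)
    [AddCommGroup M] [Module (MvPolynomial (Fin N) A) M]
    [Module.Finite (MvPolynomial (Fin N) A) M] [Nontrivial (FibModQ A Q M)] (e : ℕ)
    (he : projectiveDimension (ModuleCat.of (Fib A Q) (FibModQ A Q M)) = e) :
    LocCoh.depth (Fib A Q) (FibModQ A Q M) + fibCoheight A Q + e = N := by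
  haveI := isRegularLocalRing_fib_mvPolynomial A N Q
  obtain ⟨d, hd⟩ := Groth.Agent.GlDim.exists_dim (Fib A Q)
  have hCM : LocCoh.IsCohenMacaulayModule (Fib A Q) (Fib A Q) :=
    Groth.Agent.RegQuot.isCM_of_regular (Fib A Q)
  have hdep : LocCoh.depth (Fib A Q) (Fib A Q) = (d : ℕ∞) := by
    have h := hCM
    unfold LocCoh.IsCohenMacaulayModule at h
    rw [Module.supportDim_self_eq_ringKrullDim, hd] at h
    have h' : ((d : ℕ∞) : WithBot ℕ∞) = ((LocCoh.depth (Fib A Q) (Fib A Q) : ℕ∞) : WithBot ℕ∞) := by
      rw [← h]; rfl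
    exact (WithBot.coe_injective h').symm
  have hAB := Groth.Agent.AB.auslander_buchsbaum (R := Fib A Q) (FibModQ A Q M) e he
  rw [hdep] at hAB
  have h1 := dim_fib_add_fibCoheight_mvPolynomial A N Q
  rw [hd] at h1
  have h1' : (d : ℕ∞) + fibCoheight A Q = (N : ℕ∞) := by
    apply WithBot.coe_injective
    rw [WithBot.coe_add]
    exact h1
  rw [hAB] at h1'
  rw [← h1']
  ring

set_option maxHeartbeats 1000000 in
/-- ring-level lower semicontinuity of the rectified depth of fibre modules, polynomial case -/
theorem isOpen_rectDepth_mvPolynomial (M : Type u) [AddCommGroup M]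
    [Module (MvPolynomial (Fin N) A) M] [Module A M] [IsScalarTower A (MvPolynomial (Fin N) A) M]
    [Module.FinitePresentation (MvPolynomial (Fin N) A) M] [Module.Flat A M] (n : ℕ) :
    IsOpen {Q : PrimeSpectrum (MvPolynomial (Fin N) A) |
      (n : ℕ∞) ≤ LocCoh.depth (Fib A Q.asIdeal) (FibModQ A Q.asIdeal M) +
        fibCoheight A Q.asIdeal} := by
  classical
  rw [isOpen_iff_forall_mem_open]
  intro q hq
  set I : Ideal (MvPolynomial (Fin N) A) := Module.annihilator (MvPolynomial (Fin N) A) M with hI
  have htriv : ∀ q' : PrimeSpectrum (MvPolynomial (Fin N) A), ¬ I ≤ q'.asIdeal →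
      (n : ℕ∞) ≤ LocCoh.depth (Fib A q'.asIdeal) (FibModQ A q'.asIdeal M) +
        fibCoheight A q'.asIdeal := by
    intro q' h
    haveI := subsingleton_fibModQ A q'.asIdeal M h
    haveI := isRegularLocalRing_fib_mvPolynomial A N q'.asIdeal
    have : LocCoh.depth (Fib A q'.asIdeal) (FibModQ A q'.asIdeal M) = ⊤ :=
      Groth.Agent.DepthLib.idealDepth_of_subsingleton _ _
    rw [this, top_add]
    exact le_top
  by_cases hIq : I ≤ q.asIdeal
  swap
  · obtain ⟨s, hsI, hsq⟩ := SetLike.not_le_iff_exists.mp hIq
    refine ⟨PrimeSpectrum.basicOpen s, ?_, (PrimeSpectrum.basicOpen s).isOpen, hsq⟩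
    intro q' hq'
    exact htriv q' (fun h => hq' (h hsI))
  haveI := isRegularLocalRing_fib_mvPolynomial A N q.asIdeal
  haveI := nontrivial_fibModQ A q.asIdeal M hIq
  obtain ⟨e, he⟩ := exists_pd_eq (Fib A q.asIdeal) (FibModQ A q.asIdeal M)
  have hform := rect_formula A N q.asIdeal M e he
  have hopen1 := isOpen_fibModQ_hasPDLE (A := A) (B := MvPolynomial (Fin N) A) e M
  refine ⟨{q' : PrimeSpectrum (MvPolynomial (Fin N) A) | HasProjectiveDimensionLE
      (ModuleCat.of (Fib A q'.asIdeal) (FibModQ A q'.asIdeal M)) e}, ?_, hopen1, ?_⟩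
  · intro q' hpd
    by_cases hIq' : I ≤ q'.asIdeal
    swap
    · exact htriv q' hIq'
    haveI := isRegularLocalRing_fib_mvPolynomial A N q'.asIdeal
    haveI := nontrivial_fibModQ A q'.asIdeal M hIq'
    obtain ⟨e', he'⟩ := exists_pd_eq (Fib A q'.asIdeal) (FibModQ A q'.asIdeal M)
    have hform' := rect_formula A N q'.asIdeal M e' he'
    have h1 : e' ≤ e := by
      have := (projectiveDimension_le_iff _ e).mpr hpd
      rw [he'] at this
      exact_mod_cast this
    show (n : ℕ∞) ≤ _
    have hq' : (n : ℕ∞) ≤ LocCoh.depth (Fib A q.asIdeal) (FibModQ A q.asIdeal M) +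
        fibCoheight A q.asIdeal := hq
    -- arithmetic in `ℕ∞`
    set x := LocCoh.depth (Fib A q.asIdeal) (FibModQ A q.asIdeal M) + fibCoheight A q.asIdeal
    set x' := LocCoh.depth (Fib A q'.asIdeal) (FibModQ A q'.asIdeal M) + fibCoheight A q'.asIdeal
    have hx : x ≠ ⊤ := by
      intro h
      rw [h, top_add] at hform
      exact ENat.top_ne_natCast N hform
    have hx' : x' ≠ ⊤ := by
      intro h
      rw [h, top_add] at hform'
      exact ENat.top_ne_natCast N hform'
    obtain ⟨a, ha⟩ := ENat.ne_top_iff_exists.mp hx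
    obtain ⟨a', ha'⟩ := ENat.ne_top_iff_exists.mp hx'
    rw [← ha] at hform hq'
    rw [← ha'] at hform' ⊢
    have e1 : a + e = N := by exact_mod_cast hform
    have e2 : a' + e' = N := by exact_mod_cast hform'
    have e3 : n ≤ a := by exact_mod_cast hq'
    have : n ≤ a' := by omega
    exact_mod_cast this
  · show HasProjectiveDimensionLE _ e
    rw [← projectiveDimension_le_iff, he]

end Regular

section General

variable {A B : Type u} [CommRing A] [CommRing B] [Algebra A B] [Algebra.FinitePresentation A B]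

/-- the rectified depth of the fibre module at `q` -/
noncomputable def rectDepth (A : Type u) {B : Type u} [CommRing A] [CommRing B] [Algebra A B]
    (M : Type u) [AddCommGroup M] [Module B M] (q : PrimeSpectrum B) : ℕ∞ :=
  LocCoh.depth (Fib A q.asIdeal) (FibModQ A q.asIdeal M) + fibCoheight A q.asIdeal

set_option maxHeartbeats 1000000 in
/-- **Ring-level lower semicontinuity of the rectified depth of the fibre modules**: for a finitely
presented `A`-algebra `B` and a finitely presented `B`-module `M` flat over `A`, the set of primes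
`q` of `B` with `depth (M_q / p M_q) + dim (closure of q in its fibre) ≥ n` is open. -/
theorem isOpen_rectDepth (M : Type u) [AddCommGroup M] [Module B M] [Module A M]
    [IsScalarTower A B M] [Module.FinitePresentation B M] [Module.Flat A M] (n : ℕ) :
    IsOpen {q : PrimeSpectrum B | (n : ℕ∞) ≤ rectDepth A M q} := by
  classical
  obtain ⟨N, f, hf, hker⟩ := Algebra.FinitePresentation.out (R := A) (A := B)
  letI algPB : Algebra (MvPolynomial (Fin N) A) B := f.toRingHom.toAlgebra
  haveI : IsScalarTower A (MvPolynomial (Fin N) A) B :=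
    IsScalarTower.of_algebraMap_eq fun a => (f.commutes a).symm
  letI modPM : Module (MvPolynomial (Fin N) A) M := Module.compHom M f.toRingHom
  haveI : IsScalarTower (MvPolynomial (Fin N) A) B M :=
    IsScalarTower.of_algebraMap_smul fun _ _ => rfl
  haveI : IsScalarTower A (MvPolynomial (Fin N) A) M :=
    IsScalarTower.of_algebraMap_smul fun a m => by
      show f (algebraMap A (MvPolynomial (Fin N) A) a) • m = a • m
      rw [f.commutes, algebraMap_smul]
  have hsurj : Function.Surjective (algebraMap (MvPolynomial (Fin N) A) B) := hf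
  haveI : Module.FinitePresentation (MvPolynomial (Fin N) A) B := by
    refine Module.finitePresentation_of_surjective
      (Algebra.linearMap (MvPolynomial (Fin N) A) B) hsurj ?_
    have : LinearMap.ker (Algebra.linearMap (MvPolynomial (Fin N) A) B) =
        (RingHom.ker f.toRingHom : Ideal (MvPolynomial (Fin N) A)) := by
      ext x
      rfl
    rw [this]
    exact hker
  haveI : Module.FinitePresentation (MvPolynomial (Fin N) A) M :=
    Module.FinitePresentation.trans (MvPolynomial (Fin N) A) M B
  have hopen := isOpen_rectDepth_mvPolynomial A N M n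
  have hset : {q : PrimeSpectrum B | (n : ℕ∞) ≤ rectDepth A M q} =
      PrimeSpectrum.comap (algebraMap (MvPolynomial (Fin N) A) B) ⁻¹'
        {Q : PrimeSpectrum (MvPolynomial (Fin N) A) |
          (n : ℕ∞) ≤ LocCoh.depth (Fib A Q.asIdeal) (FibModQ A Q.asIdeal M) +
            fibCoheight A Q.asIdeal} := by
    ext q
    haveI := isRegularLocalRing_fib_mvPolynomial A N (under (P := MvPolynomial (Fin N) A) q.asIdeal)
    have h1 := Groth.Agent.Lib.SurjSemiH5.depth_eq
      (fibMap (P := MvPolynomial (Fin N) A) A q.asIdeal)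
      (fibMap_surjective A hsurj q.asIdeal) (fibModEquiv A hsurj q.asIdeal M).toAddEquiv
      (fun r x => fibModEquiv_smul A hsurj q.asIdeal M r x)
    have h2 := fibCoheight_under A hsurj q.asIdeal
    show (n : ℕ∞) ≤ LocCoh.depth (Fib A q.asIdeal) (FibModQ A q.asIdeal M) +
        fibCoheight A q.asIdeal ↔
      (n : ℕ∞) ≤ LocCoh.depth (Fib A (under (P := MvPolynomial (Fin N) A) q.asIdeal))
        (FibModQ A (under (P := MvPolynomial (Fin N) A) q.asIdeal) M) +
        fibCoheight A (under (P := MvPolynomial (Fin N) A) q.asIdeal)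
    rw [h1, h2]
  rw [hset]
  exact hopen.preimage (PrimeSpectrum.continuous_comap _)

end General

end Groth.Agent.Lib.FibRectH5
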