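/-
helper5: rectified depth of fibre modules, scheme level.
* `height_eq_coheight`: in a scheme l.f.t. over a field, dim cl{t} = coheight of the prime of t in any affine chart.
* `coheight_primeIdealOf_fiber`, `dim_closure_asFiber`: the dimension of the closure of x in its fibre is
  `fibCoheight` of its prime in an affine chart.
* `isOpen_fibRectGE`: x ↦ prof (F_{f x})_x + dim cl{x} is lower semicontinuous (f l.f.p., F f.p. f-flat).
* `isOpen_proper_fibRectGE`: proper version on the base.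
APPEND-ONLY once landed.
-/
import Mathlib
import Groth.Agent.Lib.FibRect1_helper5
import Groth.Agent.Lib.HtTrdeg_helper8
import Groth.Agent.Lib.ClosHt_helper8
import Groth.Agent.Lib.EtNbhdC_helper8
import Groth.Agent.Lib.FibProjDim4_helper5
import Groth.Agent.Lib.FibDepthAlong2_helper5
import Groth.Agent.Lib.FibProjDim5_helper5

set_option autoImplicit false

namespace Groth.Agent.Lib.FibRectH5

open AlgebraicGeometry CategoryTheory TopologicalSpace TensorProduct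
open Groth.Agent.Lib.FibSkH5 Groth.Agent.Lib.FibPdH5

universe u

section Field

/-- in a scheme locally of finite type over a field, the dimension of the closure of a point is
the coheight of its prime in any affine chart -/
theorem height_eq_coheight (k : Type u) [Field k] (T : Scheme.{u})
    [T.Over (Spec (CommRingCat.of k))] [LocallyOfFiniteType (T ↘ (Spec (CommRingCat.of k)))]
    {W : T.Opens} (hW : IsAffineOpen W) (t : T) (ht : t ∈ W) :
    Order.height t = Order.coheight (hW.primeIdealOf ⟨t, ht⟩) := by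
  letI := Curv2.resAlgebra k T t
  obtain ⟨n, hn, hcn⟩ := Groth.Agent.HtTrdegH8.exists_trdeg_eq k T hW t ht
  obtain ⟨n', hn', hh⟩ := Groth.Agent.HtTrdegH8.height_eq_trdeg k T t
  have : (n : Cardinal) = n' := by rw [← hn, ← hn']
  have hnn : n = n' := by exact_mod_cast this
  rw [hh, hcn, hnn]

end Field

section Fiber

variable {X Y : Scheme.{u}} (f : X ⟶ Y)

@[instance_reducible] noncomputable def fiberOver (s : Y) : (f.fiber s).Over (Spec (CommRingCat.of (Y.residueField s))) :=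
  f.fiberOverSpecResidueField s

end Fiber

section OrdBridge

variable {X Y : Scheme.{u}} (f : X ⟶ Y) {V : Y.Opens}
  (hV : IsAffineOpen V) {U : X.Opens} (hU : IsAffineOpen U) (e : U ≤ f ⁻¹ᵁ V)

theorem fromSpec_comap_appLE {T : Scheme.{u}} (ι : T ⟶ X) {W : T.Opens} (hW : IsAffineOpen W)
    (hWU : W ≤ ι ⁻¹ᵁ U) (𝔯 : PrimeSpectrum Γ(T, W)) :
    (hU.fromSpec (PrimeSpectrum.comap (ι.appLE U W hWU).hom 𝔯) : X) = ι (hW.fromSpec 𝔯) := by
  have h := IsAffineOpen.SpecMap_appLE_fromSpec ι hU hW hWU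
  have h2 := congrArg (fun g : Spec Γ(T, W) ⟶ X => g.base 𝔯) h
  exact h2

theorem fromSpec_specializes_iff (𝔭₁ 𝔭₂ : PrimeSpectrum Γ(X, U)) :
    (hU.fromSpec 𝔭₁ : X) ⤳ hU.fromSpec 𝔭₂ ↔ 𝔭₁ ≤ 𝔭₂ := by
  rw [hU.fromSpec.isOpenEmbedding.isInducing.specializes_iff]
  exact (PrimeSpectrum.le_iff_specializes 𝔭₁ 𝔭₂).symm

include hV in
theorem comap_eq_primeIdealOf (𝔭 : PrimeSpectrum Γ(X, U)) :
    𝔭.asIdeal.comap (f.appLE V U e).hom =
      (hV.primeIdealOf ⟨f.base (hU.fromSpec 𝔭),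
        e (Groth.Agent.SchFTH8.fromSpec_mem hU 𝔭)⟩).asIdeal := by
  have := primeIdealOf_comap f hV hU e (Groth.Agent.SchFTH8.fromSpec_mem hU 𝔭)
  rwa [Groth.Agent.SchFTH8.primeIdealOf_fromSpec] at this

set_option maxHeartbeats 1000000 in
include hV in
/-- the primes of the affine chart `ι⁻¹U` of the fibre over `s` are the primes of `Γ(X, U)` over
the prime of `s`, compatibly with the orders -/
theorem coheight_primeIdealOf_fiber (s : Y) (hsV : s ∈ V)
    (hW' : IsAffineOpen ((f.fiberι s) ⁻¹ᵁ U)) (t : f.fiber s) (htW : t ∈ (f.fiberι s) ⁻¹ᵁ U) :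
    letI : Algebra Γ(Y, V) Γ(X, U) := (f.appLE V U e).hom.toAlgebra
    Order.coheight (hW'.primeIdealOf ⟨t, htW⟩) =
      fibCoheight Γ(Y, V) (hU.primeIdealOf ⟨f.fiberι s t, htW⟩).asIdeal := by
  letI algAB : Algebra Γ(Y, V) Γ(X, U) := (f.appLE V U e).hom.toAlgebra
  classical
  have hfι : ∀ z : f.fiber s, f.base (f.fiberι s z) = s := by
    intro z
    have : f.fiberι s z ∈ Set.range (f.fiberι s) := ⟨z, rfl⟩
    rw [f.range_fiberι s] at this
    exact this
  set q : Ideal Γ(X, U) := (hU.primeIdealOf ⟨f.fiberι s t, htW⟩).asIdeal with hq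
  set p : Ideal Γ(Y, V) := q.comap (algebraMap Γ(Y, V) Γ(X, U)) with hp
  have hps : p = (hV.primeIdealOf ⟨s, hsV⟩).asIdeal := by
    have h1 := primeIdealOf_comap f hV hU e (show f.fiberι s t ∈ U from htW)
    have h2 : (⟨f.base (f.fiberι s t), e htW⟩ : V) = ⟨s, hsV⟩ := Subtype.ext (hfι t)
    rw [h2] at h1
    exact h1
  -- the map on primes
  have hover : ∀ 𝔯 : PrimeSpectrum Γ(f.fiber s, (f.fiberι s) ⁻¹ᵁ U),
      p = (PrimeSpectrum.comap ((f.fiberι s).appLE U _ le_rfl).hom 𝔯).asIdeal.comap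
        (algebraMap Γ(Y, V) Γ(X, U)) := by
    intro 𝔯
    have h1 := comap_eq_primeIdealOf f hV hU e
      (PrimeSpectrum.comap ((f.fiberι s).appLE U _ le_rfl).hom 𝔯)
    have h3 : f.base (hU.fromSpec (PrimeSpectrum.comap ((f.fiberι s).appLE U _ le_rfl).hom 𝔯)) = s := by
      rw [fromSpec_comap_appLE hU (f.fiberι s) hW' le_rfl 𝔯]
      exact hfι _
    have h2 : (⟨f.base (hU.fromSpec (PrimeSpectrum.comap ((f.fiberι s).appLE U _ le_rfl).hom 𝔯)),
        e (Groth.Agent.SchFTH8.fromSpec_mem hU _)⟩ : V) = ⟨s, hsV⟩ := Subtype.ext h3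
    rw [h2] at h1
    rw [hps]
    exact h1.symm
  let g : PrimeSpectrum Γ(f.fiber s, (f.fiberι s) ⁻¹ᵁ U) → p.primesOver Γ(X, U) := fun 𝔯 =>
    ⟨(PrimeSpectrum.comap ((f.fiberι s).appLE U _ le_rfl).hom 𝔯).asIdeal,
      (PrimeSpectrum.comap ((f.fiberι s).appLE U _ le_rfl).hom 𝔯).isPrime, ⟨hover 𝔯⟩⟩
  -- order reflection
  have hrefl : ∀ 𝔯₁ 𝔯₂ : PrimeSpectrum Γ(f.fiber s, (f.fiberι s) ⁻¹ᵁ U),
      g 𝔯₁ ≤ g 𝔯₂ ↔ 𝔯₁ ≤ 𝔯₂ := by
    intro 𝔯₁ 𝔯₂
    have h1 : g 𝔯₁ ≤ g 𝔯₂ ↔ PrimeSpectrum.comap ((f.fiberι s).appLE U _ le_rfl).hom 𝔯₁ ≤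
        PrimeSpectrum.comap ((f.fiberι s).appLE U _ le_rfl).hom 𝔯₂ := Iff.rfl
    rw [h1, ← fromSpec_specializes_iff hU, fromSpec_comap_appLE hU (f.fiberι s) hW' le_rfl,
      fromSpec_comap_appLE hU (f.fiberι s) hW' le_rfl,
      (f.fiberι s).isEmbedding.isInducing.specializes_iff, fromSpec_specializes_iff hW']
  have hg : StrictMono g := by
    intro 𝔯₁ 𝔯₂ h
    rw [lt_iff_le_not_ge] at h ⊢
    exact ⟨(hrefl _ _).mpr h.1, fun h' => h.2 ((hrefl _ _).mp h')⟩
  -- surjectivity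
  have hsurj : ∀ b : p.primesOver Γ(X, U), ∃ 𝔯, g 𝔯 = b := by
    intro b
    haveI := b.2.1
    set 𝔭 : PrimeSpectrum Γ(X, U) := ⟨b.1, b.2.1⟩ with h𝔭
    have h1 := comap_eq_primeIdealOf f hV hU e 𝔭
    have h2 : 𝔭.asIdeal.comap (f.appLE V U e).hom = p := b.2.2.over.symm
    rw [h2, hps] at h1
    have h3 := Groth.Agent.Lib.AffStalk_helper3.primeIdealOf_injective hV (PrimeSpectrum.ext h1)
    have h4 : f.base (hU.fromSpec 𝔭) = s := (congrArg Subtype.val h3).symm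
    have h5 : (hU.fromSpec 𝔭 : X) ∈ Set.range (f.fiberι s) := by
      rw [f.range_fiberι s]
      exact h4
    obtain ⟨z, hz⟩ := h5
    have hzW : z ∈ (f.fiberι s) ⁻¹ᵁ U := by
      show f.fiberι s z ∈ U
      rw [hz]
      exact Groth.Agent.SchFTH8.fromSpec_mem hU 𝔭
    refine ⟨hW'.primeIdealOf ⟨z, hzW⟩, ?_⟩
    apply Subtype.ext
    show (PrimeSpectrum.comap ((f.fiberι s).appLE U _ le_rfl).hom
      (hW'.primeIdealOf ⟨z, hzW⟩)).asIdeal = 𝔭.asIdeal
    congr 1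
    apply hU.fromSpec.isOpenEmbedding.injective
    rw [fromSpec_comap_appLE hU (f.fiberι s) hW' le_rfl, hW'.fromSpec_primeIdealOf]
    exact hz
  -- the image of the point
  have hgt : g (hW'.primeIdealOf ⟨t, htW⟩) = fibPoint Γ(Y, V) q := by
    apply Subtype.ext
    show (PrimeSpectrum.comap ((f.fiberι s).appLE U _ le_rfl).hom
      (hW'.primeIdealOf ⟨t, htW⟩)).asIdeal = (hU.primeIdealOf ⟨f.fiberι s t, htW⟩).asIdeal
    congr 1
    apply hU.fromSpec.isOpenEmbedding.injective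
    rw [fromSpec_comap_appLE hU (f.fiberι s) hW' le_rfl, hW'.fromSpec_primeIdealOf,
      hU.fromSpec_primeIdealOf]
  unfold fibCoheight
  rw [← hgt]
  apply Order.coheight_eq_of_strictMono g hg
  intro a b hab
  obtain ⟨a', ha'⟩ := hsurj b
  refine ⟨a', ?_, ha'⟩
  rw [← ha'] at hab
  rw [lt_iff_le_not_ge] at hab ⊢
  exact ⟨(hrefl _ _).mp hab.1, fun h' => hab.2 ((hrefl _ _).mpr h')⟩

end OrdBridge

section Bridge

variable {X Y : Scheme.{u}} (f : X ⟶ Y) [LocallyOfFiniteType f] {V : Y.Opens}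
  (hV : IsAffineOpen V) {U : X.Opens} (hU : IsAffineOpen U) (e : U ≤ f ⁻¹ᵁ V)

set_option maxHeartbeats 1000000 in
include hV in
/-- the dimension of the closure of `x` in its fibre, in ring terms -/
theorem dim_closure_asFiber {x : X} (hxU : x ∈ U) :
    letI : Algebra Γ(Y, V) Γ(X, U) := (f.appLE V U e).hom.toAlgebra
    topologicalKrullDim ↥(closure ({f.asFiber x} : Set ↥(f.fiber (f.base x)))) =
      ((fibCoheight Γ(Y, V) (hU.primeIdealOf ⟨x, hxU⟩).asIdeal : ℕ∞) : WithBot ℕ∞) := by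
  letI algAB : Algebra Γ(Y, V) Γ(X, U) := (f.appLE V U e).hom.toAlgebra
  have hιt : f.fiberι (f.base x) (f.asFiber x) = x := f.fiberι_asFiber x
  have hsV : f.base x ∈ V := e hxU
  have hW' : IsAffineOpen ((f.fiberι (f.base x)) ⁻¹ᵁ U) :=
    (Groth.Agent.Lib.EtNbhdH8.fiber_affine_fracSurj f (f.base x) hV hsV hU e).1
  have htW : f.asFiber x ∈ (f.fiberι (f.base x)) ⁻¹ᵁ U := by
    show f.fiberι (f.base x) (f.asFiber x) ∈ U
    rw [hιt]; exact hxU
  letI := fiberOver f (f.base x)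
  haveI : LocallyOfFiniteType
      ((f.fiber (f.base x)) ↘ Spec (CommRingCat.of (Y.residueField (f.base x)))) := by
    show LocallyOfFiniteType (f.fiberToSpecResidueField (f.base x))
    exact MorphismProperty.pullback_snd _ _ inferInstance
  rw [Groth.Agent.ClosHtH8.topologicalKrullDim_closure_singleton (f.fiber (f.base x)) (f.asFiber x),
    height_eq_coheight (Y.residueField (f.base x)) (f.fiber (f.base x)) hW' (f.asFiber x) htW]
  congr 1
  rw [coheight_primeIdealOf_fiber f hV hU e (f.base x) hsV hW' (f.asFiber x) htW]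
  have h2 : (⟨f.fiberι (f.base x) (f.asFiber x), htW⟩ : U) = ⟨x, hxU⟩ := Subtype.ext hιt
  rw [h2]

end Bridge

section Main

variable {X Y : Scheme.{u}} (f : X ⟶ Y)

/-- the rectified depth condition at a point of the fibre -/
def FibRectGE (F : X.Modules) (n : ℕ) (y : Y) (x : f.fiber y) : Prop :=
  (n : WithBot ℕ∞) ≤
    ((LocCoh.depth ((f.fiber y).presheaf.stalk x)
      (((Scheme.Modules.pullback (f.fiberι y)).obj F).presheaf.stalk x) : ℕ∞) : WithBot ℕ∞) +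
      topologicalKrullDim ↥(closure ({x} : Set ↥(f.fiber y)))

set_option maxHeartbeats 1000000 in
/-- **EGA IV 12.1.1 (rectified depth)**: for `f` locally of finite presentation and `F` finitely
presented and `f`-flat, `x ↦ prof (F_{f x})_x + dim cl{x}` is lower semicontinuous on `X`. -/
theorem isOpen_fibRectGE [LocallyOfFinitePresentation f] (F : X.Modules)
    (hF : CohB1.IsFP F) (hflat : FlatMod.IsFlatOver f F) (n : ℕ) :
    IsOpen {x : X | FibRectGE f F n (f.base x) (f.asFiber x)} := by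
  classical
  haveI : SheafOfModules.IsFinitePresentation (R := X.ringCatSheaf) F := hF
  haveI : F.IsQuasicoherent := inferInstance
  rw [isOpen_iff_forall_mem_open]
  intro x hx
  obtain ⟨V, hV, hyV, -⟩ := Opens.isBasis_iff_nbhd.mp Y.isBasis_affineOpens
    (show f.base x ∈ (⊤ : Y.Opens) from trivial)
  obtain ⟨U, hU, hxU, e⟩ := Opens.isBasis_iff_nbhd.mp X.isBasis_affineOpens
    (show x ∈ f ⁻¹ᵁ V from hyV)
  letI algAB : Algebra Γ(Y, V) Γ(X, U) := (f.appLE V U e).hom.toAlgebra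
  haveI : Algebra.FinitePresentation Γ(Y, V) Γ(X, U) :=
    HasRingHomProperty.appLE (P := @LocallyOfFinitePresentation) f inferInstance ⟨V, hV⟩ ⟨U, hU⟩ e
  letI mAM : Module Γ(Y, V) Γ(F, U) := Module.compHom Γ(F, U) (f.appLE V U e).hom
  haveI : IsScalarTower Γ(Y, V) Γ(X, U) Γ(F, U) :=
    IsScalarTower.of_algebraMap_smul (fun _ _ => rfl)
  haveI : Module.FinitePresentation Γ(X, U) Γ(F, U) :=
    QCohFP2.finitePresentation_of_isFinitePresentation F hU
  haveI : Module.Flat Γ(Y, V) Γ(F, U) :=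
    FlatSecH8.flat_sections_of_flat_stalks f F hU e (fun x' hx'U =>
      (FlatSecH8.isFlatOverAt_iff_flat_stalk f F hV e hx'U).mp (hflat x'))
  have hopen := isOpen_rectDepth (A := Γ(Y, V)) (B := Γ(X, U)) Γ(F, U) n
  have hmemU : ∀ 𝔭 : PrimeSpectrum Γ(X, U), (hU.fromSpec 𝔭 : X) ∈ U :=
    fun 𝔭 => Groth.Agent.SchFTH8.fromSpec_mem hU 𝔭
  have hprime : ∀ 𝔭 : PrimeSpectrum Γ(X, U),
      hU.primeIdealOf ⟨hU.fromSpec 𝔭, hmemU 𝔭⟩ = 𝔭 :=
    fun 𝔭 => Groth.Agent.SchFTH8.primeIdealOf_fromSpec hU 𝔭 (hmemU 𝔭)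
  have hiff : ∀ 𝔭 : PrimeSpectrum Γ(X, U),
      (n : ℕ∞) ≤ rectDepth Γ(Y, V) Γ(F, U) 𝔭 ↔
        FibRectGE f F n (f.base (hU.fromSpec 𝔭)) (f.asFiber (hU.fromSpec 𝔭)) := by
    intro 𝔭
    have h1 := fiberDepth_eq f hV hU e F (hmemU 𝔭)
    have h2 := dim_closure_asFiber f hV hU e (hmemU 𝔭)
    rw [hprime] at h1 h2
    unfold FibRectGE rectDepth
    rw [h2]
    have h1' : LocCoh.depth ((f.fiber (f.base (hU.fromSpec 𝔭))).presheaf.stalk
        (f.asFiber (hU.fromSpec 𝔭)))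
        (((Scheme.Modules.pullback (f.fiberι (f.base (hU.fromSpec 𝔭)))).obj F).presheaf.stalk
          (f.asFiber (hU.fromSpec 𝔭))) =
        LocCoh.depth (Fib Γ(Y, V) 𝔭.asIdeal) (FibModQ Γ(Y, V) 𝔭.asIdeal Γ(F, U)) := h1
    rw [h1', ← WithBot.coe_add]
    constructor
    · intro h
      exact_mod_cast h
    · intro h
      exact_mod_cast h
  refine ⟨(fun 𝔭 : PrimeSpectrum Γ(X, U) => (hU.fromSpec 𝔭 : X)) ''
    {q : PrimeSpectrum Γ(X, U) | (n : ℕ∞) ≤ rectDepth Γ(Y, V) Γ(F, U) q}, ?_,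
    hU.fromSpec.isOpenEmbedding.isOpenMap _ hopen, ?_⟩
  · rintro _ ⟨𝔭, h𝔭, rfl⟩
    exact (hiff 𝔭).mp h𝔭
  · refine ⟨hU.primeIdealOf ⟨x, hxU⟩, ?_, hU.fromSpec_primeIdealOf ⟨x, hxU⟩⟩
    rw [Set.mem_ofPred_eq, hiff]
    have hxx : (hU.fromSpec (hU.primeIdealOf ⟨x, hxU⟩) : X) = x :=
      hU.fromSpec_primeIdealOf ⟨x, hxU⟩
    rw [hxx]
    exact hx

/-- proper version: the infimum over the fibre is lower semicontinuous on the base -/
theorem isOpen_proper_fibRectGE [IsProper f] [LocallyOfFinitePresentation f] (F : X.Modules)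
    (hF : CohB1.IsFP F) (hflat : FlatMod.IsFlatOver f F) (n : ℕ) :
    IsOpen {y : Y | ∀ x : ↥(f.fiber y), FibRectGE f F n y x} :=
  isOpen_forall_fiber f f.isClosedMap (fun y x => FibRectGE f F n y x)
    (isOpen_fibRectGE f F hF hflat n)

end Main

end Groth.Agent.Lib.FibRectH5
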