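/-
helper5: associated points of fibre modules, scheme level (EGA IV 12.1.1 (ii), 12.2.1 (ii)).
* `forall_generization_iff`: conditions on the generizations of x in the fibre scheme vs in X.
* `asFiber_mem_ass_iff`: associated points of the restriction of F to the fibre, in ring terms.
* `base_fromSpec_eq_iff`; `FibAssQ`; `isOpen_fibAssDimIn` (+ `'` = S4982 form); `isOpen_proper_fibAssDimIn` (S4964 form).
APPEND-ONLY once landed.
-/
import Mathlib
import Groth.Agent.Lib.FibAssDim1_helper5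
import Groth.Agent.Lib.FibRect2_helper5
import Groth.Agent.Lib.FibSk5_helper5
import Groth.Agent.Lib.FibProjDim5_helper5
import Groth.Agent.Lib.FibDepthAlong2_helper5
import Groth.Prelude.Def_FDesc

set_option autoImplicit false

namespace Groth.Agent.Lib.FibAssH5

open AlgebraicGeometry CategoryTheory TopologicalSpace TensorProduct
open Groth.Agent.Lib.FibSkH5 Groth.Agent.Lib.FibPdH5 Groth.Agent.Lib.FibRectH5

universe u

section GenZ

variable {X Y : Scheme.{u}} (f : X ⟶ Y)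

/-- a condition on all generizations of `x` in its fibre, in terms of points of the fibre scheme
or of points of `X` -/
theorem forall_generization_iff (Q : ∀ (y : Y), f.fiber y → Prop) (x : X) :
    (∀ z : f.fiber (f.base x), f.asFiber x ∈ closure ({z} : Set ↥(f.fiber (f.base x))) →
        Q (f.base x) z) ↔
      ∀ x' : X, x' ⤳ x → f.base x' = f.base x → Q (f.base x') (f.asFiber x') := by
  have hιt : f.fiberι (f.base x) (f.asFiber x) = x := f.fiberι_asFiber x
  have hcl : ∀ z : f.fiber (f.base x),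
      f.asFiber x ∈ closure ({z} : Set ↥(f.fiber (f.base x))) ↔ f.fiberι (f.base x) z ⤳ x := by
    intro z
    rw [← specializes_iff_mem_closure,
      ← (f.fiberι (f.base x)).isEmbedding.isInducing.specializes_iff, hιt]
  constructor
  · intro h x' hsp hy
    have hx' : x' ∈ Set.range (f.fiberι (f.base x)) := by
      rw [f.range_fiberι (f.base x)]
      exact hy
    obtain ⟨z, rfl⟩ := hx'
    have := h z ((hcl z).mpr hsp)
    rwa [fiber_point_transport f Q (f.base x) z] at this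
  · intro h z hz
    rw [fiber_point_transport f Q (f.base x) z]
    have hy : f.base (f.fiberι (f.base x) z) = f.base x := by
      have : f.fiberι (f.base x) z ∈ Set.range (f.fiberι (f.base x)) := ⟨z, rfl⟩
      rw [f.range_fiberι (f.base x)] at this
      exact this
    exact h _ ((hcl z).mp hz) hy

end GenZ

section AssBridge

variable {X Y : Scheme.{u}} (f : X ⟶ Y) [LocallyOfFinitePresentation f] {V : Y.Opens}
  (hV : IsAffineOpen V) {U : X.Opens} (hU : IsAffineOpen U) (e : U ≤ f ⁻¹ᵁ V) (F : X.Modules)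

set_option maxHeartbeats 1000000 in
include hV in
/-- associated points of the fibre module, in ring terms -/
theorem asFiber_mem_ass_iff (hF : CohB1.IsFP F) {x : X} (hxU : x ∈ U) :
    letI : Algebra Γ(Y, V) Γ(X, U) := (f.appLE V U e).hom.toAlgebra
    f.asFiber x ∈ AssSch.Ass ((Scheme.Modules.pullback (f.fiberι (f.base x))).obj F) ↔
      AssFib Γ(Y, V) Γ(F, U) (hU.primeIdealOf ⟨x, hxU⟩) := by
  letI algAB : Algebra Γ(Y, V) Γ(X, U) := (f.appLE V U e).hom.toAlgebra
  haveI : SheafOfModules.IsFinitePresentation (R := X.ringCatSheaf) F := hF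
  haveI : F.IsQuasicoherent := inferInstance
  haveI : Algebra.FiniteType Γ(Y, V) Γ(X, U) :=
    HasRingHomProperty.appLE (P := @LocallyOfFiniteType) f inferInstance ⟨V, hV⟩ ⟨U, hU⟩ e
  haveI : Module.FinitePresentation Γ(X, U) Γ(F, U) :=
    QCohFP2.finitePresentation_of_isFinitePresentation F hU
  haveI := isNoetherianRing_fibre_stalk f (f.base x) (f.asFiber x)
  haveI := finite_fibre_stalk f F hF (f.base x) (f.asFiber x)
  haveI := isNoetherianRing_fib (A := Γ(Y, V)) (hU.primeIdealOf ⟨x, hxU⟩).asIdeal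
  obtain ⟨σ, ε, hε⟩ := exists_semilinear_fibMod f hV hU e F hxU
  have hd := fiberDepth_eq f hV hU e F hxU
  have hnt : Nontrivial (FibModQ Γ(Y, V) (hU.primeIdealOf ⟨x, hxU⟩).asIdeal Γ(F, U)) ↔
      Nontrivial (((Scheme.Modules.pullback (f.fiberι (f.base x))).obj F).presheaf.stalk
        (f.asFiber x)) := ε.toEquiv.nontrivial_congr
  show IsAssociatedPrime (IsLocalRing.maximalIdeal
      ((f.fiber (f.base x)).presheaf.stalk (f.asFiber x)))
      (((Scheme.Modules.pullback (f.fiberι (f.base x))).obj F).presheaf.stalk (f.asFiber x)) ↔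
    IsAssociatedPrime (IsLocalRing.maximalIdeal (Fib Γ(Y, V) (hU.primeIdealOf ⟨x, hxU⟩).asIdeal))
      (FibModQ Γ(Y, V) (hU.primeIdealOf ⟨x, hxU⟩).asIdeal Γ(F, U))
  rw [isAssociatedPrime_maximalIdeal_iff, isAssociatedPrime_maximalIdeal_iff, hnt]
  have hd' : LocCoh.depth ((f.fiber (f.base x)).presheaf.stalk (f.asFiber x))
      (((Scheme.Modules.pullback (f.fiberι (f.base x))).obj F).presheaf.stalk (f.asFiber x)) =
      LocCoh.depth (Fib Γ(Y, V) (hU.primeIdealOf ⟨x, hxU⟩).asIdeal)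
        (FibModQ Γ(Y, V) (hU.primeIdealOf ⟨x, hxU⟩).asIdeal Γ(F, U)) := hd
  rw [hd']

end AssBridge

section FibEq

variable {X Y : Scheme.{u}} (f : X ⟶ Y) {V : Y.Opens}
  (hV : IsAffineOpen V) {U : X.Opens} (hU : IsAffineOpen U) (e : U ≤ f ⁻¹ᵁ V)

include hV in
/-- two points of an affine chart lie in the same fibre iff their primes have the same
contraction -/
theorem base_fromSpec_eq_iff (𝔭₁ 𝔭₂ : PrimeSpectrum Γ(X, U)) :
    f.base (hU.fromSpec 𝔭₁) = f.base (hU.fromSpec 𝔭₂) ↔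
      𝔭₁.asIdeal.comap (f.appLE V U e).hom = 𝔭₂.asIdeal.comap (f.appLE V U e).hom := by
  rw [comap_eq_primeIdealOf f hV hU e, comap_eq_primeIdealOf f hV hU e]
  constructor
  · intro h
    have : (⟨f.base (hU.fromSpec 𝔭₁), e (Groth.Agent.SchFTH8.fromSpec_mem hU 𝔭₁)⟩ : V) =
        ⟨f.base (hU.fromSpec 𝔭₂), e (Groth.Agent.SchFTH8.fromSpec_mem hU 𝔭₂)⟩ := Subtype.ext h
    rw [this]
  · intro h
    have h' := Groth.Agent.Lib.AffStalk_helper3.primeIdealOf_injective hV (PrimeSpectrum.ext h)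
    exact congrArg Subtype.val h'

end FibEq

section Main

variable {X Y : Scheme.{u}} (f : X ⟶ Y)

/-- if `z` is an associated point of `F_y`, the dimension of its closure in the fibre is in `Φ` -/
def FibAssQ (F : X.Modules) (Φ : Set ℕ) (y : Y) (z : f.fiber y) : Prop :=
  z ∈ AssSch.Ass ((Scheme.Modules.pullback (f.fiberι y)).obj F) →
    ∃ n ∈ Φ, topologicalKrullDim ↥(closure ({z} : Set ↥(f.fiber y))) = (n : WithBot ℕ∞)

set_option maxHeartbeats 1000000 in
/-- **EGA IV 12.1.1 (ii)**: the set of `x` such that the associated prime cycles of `F_{f x}`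
through `x` have dimensions in `Φ` is open. -/
theorem isOpen_fibAssDimIn [LocallyOfFinitePresentation f] (F : X.Modules)
    (hF : CohB1.IsFP F) (hflat : FlatMod.IsFlatOver f F) (Φ : Set ℕ) :
    IsOpen {x : X | ∀ z : f.fiber (f.base x),
      f.asFiber x ∈ closure ({z} : Set ↥(f.fiber (f.base x))) → FibAssQ f F Φ (f.base x) z} := by
  classical
  haveI : SheafOfModules.IsFinitePresentation (R := X.ringCatSheaf) F := hF
  haveI : F.IsQuasicoherent := inferInstance
  have hset : {x : X | ∀ z : f.fiber (f.base x),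
      f.asFiber x ∈ closure ({z} : Set ↥(f.fiber (f.base x))) → FibAssQ f F Φ (f.base x) z} =
      {x : X | ∀ x' : X, x' ⤳ x → f.base x' = f.base x →
        FibAssQ f F Φ (f.base x') (f.asFiber x')} := by
    ext x
    exact forall_generization_iff f (FibAssQ f F Φ) x
  rw [hset, isOpen_iff_forall_mem_open]
  intro x hx
  obtain ⟨V, hV, hyV, -⟩ := Opens.isBasis_iff_nbhd.mp Y.isBasis_affineOpens
    (show f.base x ∈ (⊤ : Y.Opens) from trivial)
  obtain ⟨U, hU, hxU, e⟩ := Opens.isBasis_iff_nbhd.mp X.isBasis_affineOpens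
    (show x ∈ f ⁻¹ᵁ V from hyV)
  letI algAB : Algebra Γ(Y, V) Γ(X, U) := (f.appLE V U e).hom.toAlgebra
  haveI : Algebra.FinitePresentation Γ(Y, V) Γ(X, U) :=
    HasRingHomProperty.appLE (P := @LocallyOfFinitePresentation) f inferInstance ⟨V, hV⟩ ⟨U, hU⟩ e
  letI mAM : Module Γ(Y, V) Γ(F, U) := Module.compHom Γ(F, U) (f.appLE V U e).hom
  haveI : IsScalarTower Γ(Y, V) Γ(X, U) Γ(F, U) :=
    IsScalarTower.of_algebraMap_smul (fun _ _ => rfl)
  haveI : Module.FinitePresentation Γ(X, U) Γ(F, U) :=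
    QCohFP2.finitePresentation_of_isFinitePresentation F hU
  haveI : Module.Flat Γ(Y, V) Γ(F, U) :=
    FlatSecH8.flat_sections_of_flat_stalks f F hU e (fun x' hx'U =>
      (FlatSecH8.isFlatOverAt_iff_flat_stalk f F hV e hx'U).mp (hflat x'))
  have hopen := isOpen_assDimIn (A := Γ(Y, V)) (B := Γ(X, U)) Γ(F, U) Φ
  have hmemU : ∀ 𝔭 : PrimeSpectrum Γ(X, U), (hU.fromSpec 𝔭 : X) ∈ U :=
    fun 𝔭 => Groth.Agent.SchFTH8.fromSpec_mem hU 𝔭
  have hprime : ∀ 𝔭 : PrimeSpectrum Γ(X, U),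
      hU.primeIdealOf ⟨hU.fromSpec 𝔭, hmemU 𝔭⟩ = 𝔭 :=
    fun 𝔭 => Groth.Agent.SchFTH8.primeIdealOf_fromSpec hU 𝔭 (hmemU 𝔭)
  -- the pointwise dictionary
  have hQ : ∀ 𝔯 : PrimeSpectrum Γ(X, U),
      FibAssQ f F Φ (f.base (hU.fromSpec 𝔯)) (f.asFiber (hU.fromSpec 𝔯)) ↔
        (AssFib Γ(Y, V) Γ(F, U) 𝔯 → ∃ n ∈ Φ, fibCoheight Γ(Y, V) 𝔯.asIdeal = (n : ℕ∞)) := by
    intro 𝔯
    have h1 := asFiber_mem_ass_iff f hV hU e F hF (hmemU 𝔯)
    have h2 := dim_closure_asFiber f hV hU e (hmemU 𝔯)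
    rw [hprime] at h1 h2
    unfold FibAssQ
    rw [h1, h2]
    constructor
    · intro h hass
      obtain ⟨n, hn, hcn⟩ := h hass
      exact ⟨n, hn, by exact_mod_cast hcn⟩
    · intro h hass
      obtain ⟨n, hn, hcn⟩ := h hass
      exact ⟨n, hn, by rw [hcn]; rfl⟩
  have hiff : ∀ 𝔭 : PrimeSpectrum Γ(X, U), AssDimIn Γ(Y, V) Γ(F, U) Φ 𝔭 ↔
      ∀ x' : X, x' ⤳ hU.fromSpec 𝔭 → f.base x' = f.base (hU.fromSpec 𝔭) →
        FibAssQ f F Φ (f.base x') (f.asFiber x') := by
    intro 𝔭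
    constructor
    · intro h x' hsp hy
      have hx'U : x' ∈ U := hsp.mem_open U.isOpen (hmemU 𝔭)
      have hxx : (hU.fromSpec (hU.primeIdealOf ⟨x', hx'U⟩) : X) = x' :=
        hU.fromSpec_primeIdealOf ⟨x', hx'U⟩
      rw [← hxx]
      rw [hQ]
      intro hass
      apply h (hU.primeIdealOf ⟨x', hx'U⟩) _ _ hass
      · rw [← fromSpec_specializes_iff hU, hxx]
        exact hsp
      · have := (base_fromSpec_eq_iff f hV hU e (hU.primeIdealOf ⟨x', hx'U⟩) 𝔭).mp
          (by rw [hxx]; exact hy)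
        exact this
    · intro h 𝔯 hle hc hass
      have h1 := h (hU.fromSpec 𝔯) ((fromSpec_specializes_iff hU 𝔯 𝔭).mpr hle)
        ((base_fromSpec_eq_iff f hV hU e 𝔯 𝔭).mpr hc)
      exact (hQ 𝔯).mp h1 hass
  refine ⟨(fun 𝔭 : PrimeSpectrum Γ(X, U) => (hU.fromSpec 𝔭 : X)) ''
    {q : PrimeSpectrum Γ(X, U) | AssDimIn Γ(Y, V) Γ(F, U) Φ q}, ?_,
    hU.fromSpec.isOpenEmbedding.isOpenMap _ hopen, ?_⟩
  · rintro _ ⟨𝔭, h𝔭, rfl⟩
    exact (hiff 𝔭).mp h𝔭
  · refine ⟨hU.primeIdealOf ⟨x, hxU⟩, ?_, hU.fromSpec_primeIdealOf ⟨x, hxU⟩⟩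
    rw [Set.mem_ofPred_eq, hiff]
    have hxx : (hU.fromSpec (hU.primeIdealOf ⟨x, hxU⟩) : X) = x :=
      hU.fromSpec_primeIdealOf ⟨x, hxU⟩
    rw [hxx]
    exact hx

end Main

section Statements

variable {X Y : Scheme.{u}} (f : X ⟶ Y) [LocallyOfFinitePresentation f]

/-- S4982 form -/
theorem isOpen_fibAssDimIn' (F : X.Modules) (hF : CohB1.IsFP F)
    (hflat : FlatMod.IsFlatOver f F) (Φ : Finset ℕ) :
    IsOpen {x : X | ∀ z ∈ AssSch.Ass ((Scheme.Modules.pullback (f.fiberι (f.base x))).obj F),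
      f.asFiber x ∈ closure {z} →
      ∃ n ∈ Φ, topologicalKrullDim ↥(closure ({z} : Set ↥(f.fiber (f.base x)))) =
        (n : WithBot ℕ∞)} := by
  have h := isOpen_fibAssDimIn f F hF hflat (Φ : Set ℕ)
  convert h using 1
  ext x
  constructor
  · intro hx z hz hass
    obtain ⟨n, hn, hd⟩ := hx z hass hz
    exact ⟨n, Finset.mem_coe.mpr hn, hd⟩
  · intro hx z hass hz
    obtain ⟨n, hn, hd⟩ := hx z hz hass
    exact ⟨n, Finset.mem_coe.mp hn, hd⟩

/-- S4964 form: proper case -/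
theorem isOpen_proper_fibAssDimIn [IsProper f] (F : X.Modules) (hF : CohB1.IsFP F)
    (hflat : FlatMod.IsFlatOver f F) (Φ : Finset ℕ) :
    IsOpen {y : Y | ∀ z ∈ AssSch.Ass ((Scheme.Modules.pullback (f.fiberι y)).obj F), ∃ n ∈ Φ,
      topologicalKrullDim ↥(closure ({z} : Set ↥(f.fiber y))) = (n : WithBot ℕ∞)} := by
  have h := isOpen_forall_fiber f f.isClosedMap
    (fun y z => ∀ z' : f.fiber y, z ∈ closure ({z'} : Set ↥(f.fiber y)) →
      FibAssQ f F (Φ : Set ℕ) y z') (isOpen_fibAssDimIn f F hF hflat (Φ : Set ℕ))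
  convert h using 1
  ext y
  constructor
  · intro hy z z' _ hass
    obtain ⟨n, hn, hd⟩ := hy z' hass
    exact ⟨n, Finset.mem_coe.mpr hn, hd⟩
  · intro hy z hass
    obtain ⟨n, hn, hd⟩ := hy z z (subset_closure rfl) hass
    exact ⟨n, Finset.mem_coe.mp hn, hd⟩

end Statements

end Groth.Agent.Lib.FibAssH5
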