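/-
helper5: geometric reducedness in flat families (EGA IV 12.1.1 (vii), 12.1.6, 12.2.4 (v)):
* `isOpen_depthAlongRing`: for `f` flat l.f.p. and `Z` closed, the set of `x` such that the local rings of the
  fibre at all generizations `z ∈ Z` of `x` in its fibre have depth `≥ n` is open;
* `geomReducedAt_fibre_iff`: fibrewise form of the pointwise criterion;
* `isOpen_geomReducedAt`, `isOpen_proper_geomReduced`.
APPEND-ONLY once landed.
-/
import Mathlib
import Groth.Agent.Lib.FibGRed2_helper5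
import Groth.Agent.Lib.FibAssDim2_helper5
import Groth.Agent.Lib.FibSk4_helper5
import Groth.Agent.Lib.SmoothFib_helper4
import Groth.Agent.Lib.FibProjDim5_helper5

set_option autoImplicit false
set_option linter.unusedSectionVars false
universe u

open scoped TensorProduct
open CategoryTheory CategoryTheory.Limits AlgebraicGeometry TopologicalSpace
open Groth.Agent.Lib.FibSkH5 Groth.Agent.Lib.FibPdH5 Groth.Agent.Lib.FibAssH5

namespace Groth.Agent.Lib.FibGRedH5

variable {X Y : Scheme.{u}} (f : X ⟶ Y)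

set_option maxHeartbeats 1000000 in
/-- depth of the fibre local rings along a closed subset is lower semicontinuous (flat l.f.p. case) -/
theorem isOpen_depthAlongRing [Flat f] [LocallyOfFinitePresentation f] (Z : Set X) (hZ : IsClosed Z)
    (n : ℕ) :
    IsOpen {x : X | ∀ z : X, z ⤳ x → f.base z = f.base x → z ∈ Z →
      (n : ℕ∞) ≤ LocCoh.depth ((f.fiber (f.base z)).presheaf.stalk (f.asFiber z))
        ((f.fiber (f.base z)).presheaf.stalk (f.asFiber z))} := by
  classical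
  rw [isOpen_iff_forall_mem_open]
  intro x hx
  obtain ⟨V, hV, hyV, -⟩ := Opens.isBasis_iff_nbhd.mp Y.isBasis_affineOpens
    (show f.base x ∈ (⊤ : Y.Opens) from trivial)
  obtain ⟨U, hU, hxU, e⟩ := Opens.isBasis_iff_nbhd.mp X.isBasis_affineOpens
    (show x ∈ f ⁻¹ᵁ V from hyV)
  letI algAB : Algebra Γ(Y, V) Γ(X, U) := (f.appLE V U e).hom.toAlgebra
  haveI : Algebra.FinitePresentation Γ(Y, V) Γ(X, U) :=
    HasRingHomProperty.appLE (P := @LocallyOfFinitePresentation) f inferInstance ⟨V, hV⟩ ⟨U, hU⟩ e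
  haveI : Module.Flat Γ(Y, V) Γ(X, U) :=
    HasRingHomProperty.appLE (P := @Flat) f inferInstance ⟨V, hV⟩ ⟨U, hU⟩ e
  have hmemU : ∀ 𝔭 : PrimeSpectrum Γ(X, U), (hU.fromSpec 𝔭 : X) ∈ U := by
    intro 𝔭
    have : (hU.fromSpec 𝔭 : X) ∈ hU.fromSpec.opensRange := ⟨𝔭, rfl⟩
    rwa [hU.opensRange_fromSpec] at this
  have hprime : ∀ 𝔭 : PrimeSpectrum Γ(X, U),
      hU.primeIdealOf ⟨hU.fromSpec 𝔭, hmemU 𝔭⟩ = 𝔭 := by
    intro 𝔭
    apply hU.fromSpec.isOpenEmbedding.injective
    rw [hU.fromSpec_primeIdealOf]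
  have key' : ∀ 𝔭 : PrimeSpectrum Γ(X, U),
      Nonempty (Fib Γ(Y, V) 𝔭.asIdeal ≃+*
        (f.fiber (f (hU.fromSpec 𝔭))).presheaf.stalk (f.asFiber (hU.fromSpec 𝔭))) := by
    intro 𝔭
    have := nonempty_fib_ringEquiv f hV hU e (hmemU 𝔭)
    rwa [hprime] at this
  have hdepth : ∀ 𝔭 : PrimeSpectrum Γ(X, U),
      LocCoh.depth ((f.fiber (f (hU.fromSpec 𝔭))).presheaf.stalk (f.asFiber (hU.fromSpec 𝔭)))
        ((f.fiber (f (hU.fromSpec 𝔭))).presheaf.stalk (f.asFiber (hU.fromSpec 𝔭))) =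
      LocCoh.depth (Fib Γ(Y, V) 𝔭.asIdeal) (FibModQ Γ(Y, V) 𝔭.asIdeal Γ(X, U)) := by
    intro 𝔭
    obtain ⟨σ⟩ := key' 𝔭
    haveI := isNoetherianRing_fib (A := Γ(Y, V)) 𝔭.asIdeal
    haveI : IsNoetherianRing ((f.fiber (f (hU.fromSpec 𝔭))).presheaf.stalk
        (f.asFiber (hU.fromSpec 𝔭))) := isNoetherianRing_of_ringEquiv _ σ
    rw [depth_fibModQ_self]
    exact (Groth.Agent.SerreLib.depth_eq_of_ringEquiv _ _ σ).symm
  have hcomap : ∀ 𝔭 : PrimeSpectrum Γ(X, U),
      𝔭.asIdeal.comap (algebraMap Γ(Y, V) Γ(X, U)) =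
        (hV.primeIdealOf ⟨f.base (hU.fromSpec 𝔭), e (hmemU 𝔭)⟩).asIdeal := by
    intro 𝔭
    have := primeIdealOf_comap f hV hU e (hmemU 𝔭)
    rwa [hprime] at this
  have hfib : ∀ 𝔭₁ 𝔭₂ : PrimeSpectrum Γ(X, U),
      f.base (hU.fromSpec 𝔭₁) = f.base (hU.fromSpec 𝔭₂) ↔
        𝔭₁.asIdeal.comap (algebraMap Γ(Y, V) Γ(X, U)) =
          𝔭₂.asIdeal.comap (algebraMap Γ(Y, V) Γ(X, U)) := by
    intro 𝔭₁ 𝔭₂
    rw [hcomap, hcomap]
    constructor
    · intro h
      have : (⟨f.base (hU.fromSpec 𝔭₁), e (hmemU 𝔭₁)⟩ : V) =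
          ⟨f.base (hU.fromSpec 𝔭₂), e (hmemU 𝔭₂)⟩ := Subtype.ext h
      rw [this]
    · intro h
      have h' := Groth.Agent.Lib.AffStalk_helper3.primeIdealOf_injective hV (PrimeSpectrum.ext h)
      exact congrArg Subtype.val h'
  have hspec : ∀ 𝔭₁ 𝔭₂ : PrimeSpectrum Γ(X, U),
      (hU.fromSpec 𝔭₁ : X) ⤳ hU.fromSpec 𝔭₂ ↔ 𝔭₁ ≤ 𝔭₂ := by
    intro 𝔭₁ 𝔭₂
    rw [hU.fromSpec.isOpenEmbedding.isInducing.specializes_iff]
    exact (PrimeSpectrum.le_iff_specializes 𝔭₁ 𝔭₂).symm
  set ZU : Set (PrimeSpectrum Γ(X, U)) := {𝔭 | (hU.fromSpec 𝔭 : X) ∈ Z} with hZU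
  have hZUcl : IsClosed ZU := hZ.preimage hU.fromSpec.continuous
  have hdict : ∀ 𝔭 : PrimeSpectrum Γ(X, U),
      AlongGE Γ(Y, V) Γ(X, U) ZU n 𝔭 ↔
        ∀ z : X, z ⤳ hU.fromSpec 𝔭 → f.base z = f.base (hU.fromSpec 𝔭) → z ∈ Z →
          (n : ℕ∞) ≤ LocCoh.depth ((f.fiber (f.base z)).presheaf.stalk (f.asFiber z))
            ((f.fiber (f.base z)).presheaf.stalk (f.asFiber z)) := by
    intro 𝔭
    constructor
    · intro h z hz hfz hzZ
      have hzU : z ∈ U := hz.mem_open U.isOpen (hmemU 𝔭)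
      obtain ⟨𝔯, rfl⟩ : ∃ 𝔯 : PrimeSpectrum Γ(X, U), (hU.fromSpec 𝔯 : X) = z :=
        ⟨hU.primeIdealOf ⟨z, hzU⟩, hU.fromSpec_primeIdealOf ⟨z, hzU⟩⟩
      have := h 𝔯 ((hspec _ _).mp hz) ((hfib _ _).mp hfz) hzZ
      rw [← hdepth] at this
      exact this
    · intro h 𝔯 hle hc h𝔯Z
      have := h (hU.fromSpec 𝔯) ((hspec _ _).mpr hle) ((hfib _ _).mpr hc) h𝔯Z
      rw [← hdepth]
      exact this
  have hopen : IsOpen {q : PrimeSpectrum Γ(X, U) | AlongGE Γ(Y, V) Γ(X, U) ZU n q} :=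
    isOpen_alongGE (A := Γ(Y, V)) Γ(X, U) ZU hZUcl n
  refine ⟨(fun 𝔭 : PrimeSpectrum Γ(X, U) => (hU.fromSpec 𝔭 : X)) ''
    {q : PrimeSpectrum Γ(X, U) | AlongGE Γ(Y, V) Γ(X, U) ZU n q}, ?_,
    hU.fromSpec.isOpenEmbedding.isOpenMap _ hopen, ?_⟩
  · rintro _ ⟨𝔭, h𝔭, rfl⟩
    exact (hdict 𝔭).mp h𝔭
  · refine ⟨hU.primeIdealOf ⟨x, hxU⟩, ?_, hU.fromSpec_primeIdealOf ⟨x, hxU⟩⟩
    rw [Set.mem_ofPred_eq, hdict, hU.fromSpec_primeIdealOf ⟨x, hxU⟩]
    exact hx

/-- the fibrewise form of the pointwise criterion for geometric reducedness -/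
theorem geomReducedAt_fibre_iff [LocallyOfFinitePresentation f] (x : X)
    (hfl : ∀ z : X, z ⤳ x → (f.stalkMap z).hom.Flat) :
    FBase.IsGeomReducedAt (f.fiberToSpecResidueField (f.base x)) (f.asFiber x) ↔
      (LocCoh.HasSk 1 ((f.fiber (f.base x)).presheaf.stalk (f.asFiber x))
          ((f.fiber (f.base x)).presheaf.stalk (f.asFiber x)) ∧
        ∀ z : X, z ⤳ x → f.base z = f.base x → z ∈ ((f.smoothLocus : Set X))ᶜ →
          ((1 : ℕ) : ℕ∞) ≤ LocCoh.depth ((f.fiber (f.base z)).presheaf.stalk (f.asFiber z))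
            ((f.fiber (f.base z)).presheaf.stalk (f.asFiber z))) := by
  letI : (f.fiber (f.base x)).Over (Spec (CommRingCat.of (Y.residueField (f.base x)))) :=
    ⟨f.fiberToSpecResidueField (f.base x)⟩
  haveI hlfp : ∀ y : Y, LocallyOfFinitePresentation (f.fiberToSpecResidueField y) := fun y =>
    MorphismProperty.pullback_snd (P := @LocallyOfFinitePresentation) _ _ inferInstance
  haveI : LocallyOfFinitePresentation
      ((f.fiber (f.base x)) ↘ Spec (CommRingCat.of (Y.residueField (f.base x)))) := hlfp _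
  have hcrit := geomReducedAt_iff (Y.residueField (f.base x)) (f.fiber (f.base x)) (f.asFiber x)
  have h0 : FBase.IsGeomReducedAt (f.fiberToSpecResidueField (f.base x)) (f.asFiber x) ↔
      Curv2.IsGeomReducedAt (Y.residueField (f.base x)) (f.fiber (f.base x)) (f.asFiber x) :=
    Iff.rfl
  rw [h0, hcrit]
  apply and_congr Iff.rfl
  have hgen := forall_generization_iff f
    (fun y z' => ¬ 1 ≤ LocCoh.depth ((f.fiber y).presheaf.stalk z') ((f.fiber y).presheaf.stalk z') →
      z' ∈ (f.fiberToSpecResidueField y).smoothLocus) x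
  have hL : (∀ z : ↥(f.fiber (f.base x)), z ⤳ f.asFiber x →
      ¬ 1 ≤ LocCoh.depth ((f.fiber (f.base x)).presheaf.stalk z)
        ((f.fiber (f.base x)).presheaf.stalk z) →
      z ∈ ((f.fiber (f.base x)) ↘
        Spec (CommRingCat.of (Y.residueField (f.base x)))).smoothLocus) ↔
      (∀ z : ↥(f.fiber (f.base x)), f.asFiber x ∈ closure ({z} : Set ↥(f.fiber (f.base x))) →
        ¬ 1 ≤ LocCoh.depth ((f.fiber (f.base x)).presheaf.stalk z)
          ((f.fiber (f.base x)).presheaf.stalk z) →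
        z ∈ (f.fiberToSpecResidueField (f.base x)).smoothLocus) := by
    constructor
    · intro h z hz
      exact h z (specializes_iff_mem_closure.mpr hz)
    · intro h z hz
      exact h z (specializes_iff_mem_closure.mp hz)
  rw [hL, hgen]
  constructor
  · intro h z hz hfz hzZ
    by_contra hd
    apply hzZ
    have hd' : ¬ 1 ≤ LocCoh.depth ((f.fiber (f.base z)).presheaf.stalk (f.asFiber z))
        ((f.fiber (f.base z)).presheaf.stalk (f.asFiber z)) := by
      intro h1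
      apply hd
      exact_mod_cast h1
    have hsm := h z hz hfz hd'
    exact (Groth.Agent.Lib.UnramLocH4.main2156 f z).mpr ⟨hfl z hz, hsm⟩
  · intro h z hz hfz hd
    by_contra hsm
    apply hd
    have hzZ : z ∈ ((f.smoothLocus : Set X))ᶜ := by
      intro hz'
      exact hsm ((Groth.Agent.Lib.UnramLocH4.main2156 f z).mp hz').2
    have := h z hz hfz hzZ
    exact_mod_cast this

/-- **EGA IV 12.1.1 (vii)-type**: for `f` flat and locally of finite presentation the set of points at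
which the fibre is geometrically reduced is open. -/
theorem isOpen_geomReducedAt [Flat f] [LocallyOfFinitePresentation f] :
    IsOpen {x : X | FBase.IsGeomReducedAt (f.fiberToSpecResidueField (f.base x)) (f.asFiber x)} := by
  have hset : {x : X | FBase.IsGeomReducedAt (f.fiberToSpecResidueField (f.base x)) (f.asFiber x)} =
      {x : X | LocCoh.HasSk 1 ((f.fiber (f.base x)).presheaf.stalk (f.asFiber x))
        ((f.fiber (f.base x)).presheaf.stalk (f.asFiber x))} ∩
      {x : X | ∀ z : X, z ⤳ x → f.base z = f.base x → z ∈ ((f.smoothLocus : Set X))ᶜ →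
        ((1 : ℕ) : ℕ∞) ≤ LocCoh.depth ((f.fiber (f.base z)).presheaf.stalk (f.asFiber z))
          ((f.fiber (f.base z)).presheaf.stalk (f.asFiber z))} := by
    ext x
    exact geomReducedAt_fibre_iff f x (fun z _ => Flat.stalkMap f z)
  rw [hset]
  exact (isOpen_fibre_hasSk f 1).inter
    (isOpen_depthAlongRing f _ f.smoothLocus.isOpen.isClosed_compl 1)

/-- geometric reducedness of a fibre is tested pointwise -/
theorem geometricallyReduced_fibre_iff (y : Y) :
    GeometricallyReduced (f.fiberToSpecResidueField y) ↔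
      ∀ z : f.fiber y, FBase.IsGeomReducedAt (f.fiberToSpecResidueField y) z := by
  letI : (f.fiber y).Over (Spec (CommRingCat.of (Y.residueField y))) :=
    ⟨f.fiberToSpecResidueField y⟩
  constructor
  · intro h z
    haveI : GeometricallyReduced ((f.fiber y) ↘ Spec (CommRingCat.of (Y.residueField y))) := h
    exact Groth.Agent.Lib.StalkDict5H4.forall_pts_of_geomRed (Y.residueField y) (f.fiber y) z
  · intro h
    exact Groth.Agent.Lib.StalkDict5H4.geomRed_of_forall_pts (Y.residueField y) (f.fiber y) h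

/-- **EGA IV 12.2.4 (v)-type**: for `f` proper, flat, of finite presentation the set of points of the
base with geometrically reduced fibre is open. -/
theorem isOpen_proper_geomReduced [IsProper f] [Flat f] [LocallyOfFinitePresentation f] :
    IsOpen {y : Y | GeometricallyReduced (f.fiberToSpecResidueField y)} := by
  have hset : {y : Y | GeometricallyReduced (f.fiberToSpecResidueField y)} =
      {y : Y | ∀ z : f.fiber y, FBase.IsGeomReducedAt (f.fiberToSpecResidueField y) z} := by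
    ext y
    exact geometricallyReduced_fibre_iff f y
  rw [hset]
  exact isOpen_forall_fiber f f.isClosedMap
    (fun y z => FBase.IsGeomReducedAt (f.fiberToSpecResidueField y) z) (isOpen_geomReducedAt f)

end Groth.Agent.Lib.FibGRedH5
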