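import Groth.Agent.Lib.AlgSpGRFib3_helper7
import Groth.Agent.Lib.FibGRed3_helper5

/-!
# The locus of geometrically reduced fibres of a proper flat finitely presented morphism of
algebraic spaces is open (helper7)
APPEND-ONLY once landed.
-/

set_option backward.isDefEq.respectTransparency false
set_option backward.isDefEq.respectTransparency.types false
set_option linter.style.haveILetI false
set_option linter.unusedSectionVars false
set_option linter.unusedVariables false
set_option autoImplicit false
set_option maxHeartbeats 1600000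
universe u
open CategoryTheory CategoryTheory.Limits AlgebraicGeometry Opposite

namespace Groth.Agent.Lib.AlgSpGRFibH7

open AlgSp Groth.Agent.Lib.AlgSpPoints_helper7 Groth.Agent.Lib.AlgSpPullback_helper7
  Groth.Agent.Lib.AlgSpReduced_helper7 Groth.Agent.Lib.AlgSpLocP_helper7
  Groth.Agent.Lib.AlgSpQC_helper7 Groth.Agent.Lib.GeomFibreBC Groth.Agent.Lib.GeomRedFibreTFAEH7

variable {S : Scheme.{u}}

theorem fiberι_base {U V : Scheme.{u}} (p : U ⟶ V) (v : V) (z : p.fiber v) :
    p (p.fiberι v z) = v := by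
  have := (p.fiberHomeo v z).2
  simpa using this

/-- the image in the base of a closed saturated subset of a chart of a space universally closed
over the base is closed -/
theorem isClosed_image_of_saturated {P : Sp S} {U V : Over S} (e : (yon S).obj U ⟶ P)
    (hee : RepWith @Etale e) (hes : RepWith @Surjective e) (snd : P ⟶ (yon S).obj V) (p : U ⟶ V)
    (hp : e ≫ snd = (yon S).map p) (hcl : IsClosedMap (Points.map snd)) (C : Set U.left)
    (hC : IsClosed C)
    (hsat : ∀ u₁ u₂ : U.left, Points.ofPt e u₁ = Points.ofPt e u₂ → u₁ ∈ C → u₂ ∈ C) :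
    IsClosed (p.left '' C) := by
  have hpre : Points.ofPt e ⁻¹' (Points.ofPt e '' C) = C := by
    ext u
    constructor
    · rintro ⟨u', hu', h⟩
      exact hsat u' u h hu'
    · intro hu
      exact ⟨u, hu, rfl⟩
  have hA : IsClosed (Points.ofPt e '' C) := by
    rw [← (isQuotientMap_ofPt e hee hes).isClosed_preimage, hpre]
    exact hC
  have hB : IsClosed (Points.map snd '' (Points.ofPt e '' C)) := hcl _ hA
  have hkey : ∀ u : U.left, Points.map snd (Points.ofPt e u) = Points.ofScheme V (p.left u) := by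
    intro u
    rw [Points.map_ofPt, hp, ofPt_yon_map]
  have hset : p.left '' C = (Points.ofScheme V) ⁻¹' (Points.map snd '' (Points.ofPt e '' C)) := by
    ext v
    constructor
    · rintro ⟨u, hu, rfl⟩
      exact ⟨Points.ofPt e u, ⟨u, hu, rfl⟩, hkey u⟩
    · rintro ⟨_, ⟨u, hu, rfl⟩, h⟩
      refine ⟨u, hu, ofScheme_injective V ?_⟩
      rw [← hkey u]
      exact h
  rw [hset]
  exact hB.preimage (Points.continuous_ofPt _)

theorem main10682 {X Y : AlgSp.Space S} (f : X ⟶ Y)
    (hf1 : AlgSp.LocP @Flat f.hom) (hf2 : AlgSp.IsProperMor f.hom)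
    (hf3 : AlgSp.IsFinitePresentationMor f.hom) :
    IsOpen (GRset f) := by
  obtain ⟨V, q, hqe, hqs⟩ := Y.property.atlas
  rw [isOpen_iff_of_atlas q hqe hqs]
  have sq := IsPullback.of_hasPullback f.hom q
  have hP : IsAlgSpace (pullback f.hom q) :=
    isAlgSpace_of_isPullback Y.property.diag X.property (IsAlgSpace.yon_obj V) sq
  obtain ⟨U, e, hee, hes⟩ := hP.atlas
  obtain ⟨p, hp⟩ := (yon S).map_surjective (e ≫ pullback.snd f.hom q)
  have hfe : RepWith @Etale (pullback.fst f.hom q) := repWith_fst_of_isPullback _ sq hqe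
  have hcomm : (e ≫ pullback.fst f.hom q) ≫ f.hom = (yon S).map p ≫ q := by
    rw [Category.assoc, sq.w, ← Category.assoc, hp]
  haveI hfl : Flat p.left := hf1 _ q p (repWith_comp _ hee hfe) hqe hcomm
  haveI hlfp : LocallyOfFinitePresentation p.left :=
    hf3.1 _ q p (repWith_comp _ hee hfe) hqe hcomm
  have hopen : IsOpen (grLocus p.left) := Groth.Agent.Lib.FibGRedH5.isOpen_geomReducedAt p.left
  have hcl : IsClosedMap (Points.map (pullback.snd f.hom q)) :=
    hf2.2.2 (IsAlgSpace.yon_obj V) q _ _ sq
  have hsat : ∀ u₁ u₂ : U.left, Points.ofPt e u₁ = Points.ofPt e u₂ →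
      u₁ ∈ (grLocus p.left)ᶜ → u₂ ∈ (grLocus p.left)ᶜ := by
    intro u₁ u₂ h h1 h2
    apply h1
    obtain ⟨R, r1, r2, sqR, hr1, hr2⟩ : ∃ (R : Over S) (r1 : R ⟶ U) (r2 : R ⟶ U),
        IsPullback ((yon S).map r1) ((yon S).map r2) e e ∧ Etale r1.left ∧ Etale r2.left :=
      ⟨_, hee.rep.fst' e, hee.rep.snd e, hee.rep.isPullback' e,
        hee.property e _ _ (hee.rep.isPullback' e).flip, hee.property_snd e⟩
    obtain ⟨x, hx1, hx2⟩ := exists_ofPt_eq_of_isPullback sqR u₁ u₂ h
    have hrp : r1 ≫ p = r2 ≫ p := by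
      apply (yon S).map_injective
      rw [Functor.map_comp, Functor.map_comp, hp, ← Category.assoc, ← Category.assoc, sqR.w]
    have hrp' : r1.left ≫ p.left = r2.left ≫ p.left := by
      rw [← Over.comp_left, ← Over.comp_left, hrp]
    haveI := hr1
    haveI := hr2
    have e1 := mem_grLocus_etale_iff p.left r1.left (r1.left ≫ p.left) rfl x
    have e2 := mem_grLocus_etale_iff p.left r2.left (r1.left ≫ p.left) hrp'.symm x
    rw [hx1] at e1
    rw [hx2] at e2
    exact e1.1 (e2.2 h2)
  have hclosed := isClosed_image_of_saturated e hee hes _ p hp.symm hcl _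
    hopen.isClosed_compl hsat
  have hset : Points.ofPt q ⁻¹' GRset f = (p.left '' (grLocus p.left)ᶜ)ᶜ := by
    ext v
    rw [Set.mem_preimage, mem_GRset_iff f q sq e hee hes p hp.symm v,
      Groth.Agent.Lib.FibGRedH5.geometricallyReduced_fibre_iff]
    constructor
    · rintro h ⟨u, hu, rfl⟩
      apply hu
      exact h (p.left.asFiber u)
    · intro h z
      by_contra hcon
      apply h
      refine ⟨p.left.fiberι v z, ?_, fiberι_base p.left v z⟩
      intro hmem
      exact hcon ((mem_grLocus_iff p.left v z).1 hmem)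
  rw [hset]
  exact hclosed.isOpen_compl

end Groth.Agent.Lib.AlgSpGRFibH7
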