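import Mathlib
import Groth.Prelude.Def_Curv2
import Groth.Prelude.Def_FDesc
import Groth.Agent.Lib.GeomConnFin_helper4

set_option autoImplicit false
set_option linter.style.haveILetI false
set_option linter.unusedSectionVars false

universe u

open scoped TensorProduct
open CategoryTheory CategoryTheory.Limits AlgebraicGeometry

namespace Groth.Agent.Lib.GalActH4

open Groth.Agent.Lib.GeomConnFinH4

local notation:max "sm[" k ", " K "]" => Spec.map (CommRingCat.ofHom (algebraMap k K))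

section Algebra

variable {k : Type u} [Field k] (A : Type u) [CommRing A] [Algebra k A]
  (K : Type u) [Field K] [Algebra k K]

/-- `id ⊗ σ` on `A ⊗[k] K`. -/
noncomputable abbrev tmap (σ : K ≃ₐ[k] K) : A ⊗[k] K →ₐ[A] A ⊗[k] K :=
  Algebra.TensorProduct.map (AlgHom.id A A) (σ : K →ₐ[k] K)

theorem tmap_tmul (σ : K ≃ₐ[k] K) (a : A) (y : K) :
    tmap A K σ (a ⊗ₜ[k] y) = a ⊗ₜ[k] σ y :=
  Algebra.TensorProduct.map_tmul _ _ _ _

/-- The action of `Gal(K/k)` on `A ⊗[k] K` through the second factor. -/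
noncomputable def tAct : MulSemiringAction (K ≃ₐ[k] K) (A ⊗[k] K) where
  smul σ b := tmap A K σ b
  one_smul b := by
    change tmap A K 1 b = b
    induction b using TensorProduct.induction_on with
    | zero => exact map_zero (tmap A K 1)
    | tmul a y => exact tmap_tmul A K 1 a y
    | add x y hx hy => rw [map_add, hx, hy]
  mul_smul σ τ b := by
    change tmap A K (σ * τ) b = tmap A K σ (tmap A K τ b)
    induction b using TensorProduct.induction_on with
    | zero =>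
      rw [map_zero (tmap A K (σ * τ)), map_zero (tmap A K τ), map_zero (tmap A K σ)]
    | tmul a y =>
      rw [tmap_tmul, tmap_tmul, tmap_tmul]
      rfl
    | add x y hx hy => rw [map_add, map_add, map_add, hx, hy]
  smul_zero σ := map_zero (tmap A K σ)
  smul_add σ x y := map_add (tmap A K σ) x y
  smul_one σ := map_one (tmap A K σ)
  smul_mul σ x y := map_mul (tmap A K σ) x y

theorem tAct_smulComm :
    letI := tAct (k := k) A K
    SMulCommClass (K ≃ₐ[k] K) A (A ⊗[k] K) := by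
  letI := tAct (k := k) A K
  exact ⟨fun σ a b => map_smul (tmap A K σ) a b⟩

theorem tAct_stabilizer_isOpen [Algebra.IsIntegral k K] (b : A ⊗[k] K) :
    letI := tAct (k := k) A K
    IsOpen (MulAction.stabilizer (K ≃ₐ[k] K) b : Set (K ≃ₐ[k] K)) := by
  letI := tAct (k := k) A K
  induction b using TensorProduct.induction_on with
  | zero =>
    have h : MulAction.stabilizer (K ≃ₐ[k] K) (0 : A ⊗[k] K) = ⊤ := by
      ext σ
      rw [MulAction.mem_stabilizer_iff]
      exact ⟨fun _ => Subgroup.mem_top σ, fun _ => smul_zero σ⟩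
    rw [h, Subgroup.coe_top]
    exact isOpen_univ
  | tmul a y =>
    refine Subgroup.isOpen_mono (H₁ := MulAction.stabilizer (K ≃ₐ[k] K) y) ?_
      (stabilizer_isOpen_of_isIntegral y)
    intro σ hσ
    rw [MulAction.mem_stabilizer_iff] at hσ ⊢
    change tmap A K σ (a ⊗ₜ[k] y) = a ⊗ₜ[k] y
    rw [tmap_tmul]
    exact congrArg (fun t => a ⊗ₜ[k] t) hσ
  | add x y hx hy =>
    refine Subgroup.isOpen_mono
      (H₁ := MulAction.stabilizer (K ≃ₐ[k] K) x ⊓ MulAction.stabilizer (K ≃ₐ[k] K) y) ?_ ?_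
    · rintro σ ⟨h1, h2⟩
      have h1' : σ • x = x := h1
      have h2' : σ • y = y := h2
      rw [MulAction.mem_stabilizer_iff, smul_add, h1', h2']
    · rw [Subgroup.coe_inf]
      exact hx.inter hy

theorem tAct_isInvariant [IsGalois k K] :
    letI := tAct (k := k) A K
    Algebra.IsInvariant A (A ⊗[k] K) (K ≃ₐ[k] K) := by
  letI := tAct (k := k) A K
  refine ⟨fun b hb => ?_⟩
  have hb' : ∀ σ : K ≃ₐ[k] K, tmap A K σ b = b := hb
  have hΦ : ∀ (σ : K ≃ₐ[k] K) (b : A ⊗[k] K) (i : Module.Free.ChooseBasisIndex k A),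
      TensorProduct.equivFinsuppOfBasisLeft (N := K) (Module.Free.chooseBasis k A)
        (tmap A K σ b) i =
      σ (TensorProduct.equivFinsuppOfBasisLeft (N := K) (Module.Free.chooseBasis k A) b i) := by
    intro σ b i
    induction b using TensorProduct.induction_on with
    | zero =>
      rw [map_zero (tmap A K σ), map_zero (TensorProduct.equivFinsuppOfBasisLeft (N := K)
        (Module.Free.chooseBasis k A)), Finsupp.zero_apply, map_zero σ]
    | tmul a y =>
      rw [tmap_tmul, TensorProduct.equivFinsuppOfBasisLeft_apply_tmul_apply,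
        TensorProduct.equivFinsuppOfBasisLeft_apply_tmul_apply, map_smul]
    | add x y hx hy => rw [map_add, map_add, map_add, Finsupp.add_apply, Finsupp.add_apply,
        hx, hy, map_add]
  have hfix : ∀ i : Module.Free.ChooseBasisIndex k A, ∃ c : k, algebraMap k K c =
      TensorProduct.equivFinsuppOfBasisLeft (N := K) (Module.Free.chooseBasis k A) b i := by
    intro i
    exact (InfiniteGalois.mem_range_algebraMap_iff_fixed _).mpr (fun σ => by
      rw [← hΦ σ b i, hb' σ])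
  choose c hc using hfix
  have hc0 : ∀ i, c i ≠ 0 → i ∈
      (TensorProduct.equivFinsuppOfBasisLeft (N := K) (Module.Free.chooseBasis k A) b).support := by
    intro i hi
    rw [Finsupp.mem_support_iff, ← hc i]
    exact fun h => hi ((map_eq_zero (algebraMap k K)).mp h)
  refine ⟨(Module.Free.chooseBasis k A).repr.symm (Finsupp.onFinset _ c hc0), ?_⟩
  apply (TensorProduct.equivFinsuppOfBasisLeft (N := K) (Module.Free.chooseBasis k A)).injective
  ext j
  rw [Algebra.TensorProduct.algebraMap_apply, Algebra.algebraMap_self, RingHom.id_apply,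
    TensorProduct.equivFinsuppOfBasisLeft_apply_tmul_apply, LinearEquiv.apply_symm_apply,
    Finsupp.onFinset_apply, ← hc j, Algebra.smul_def, mul_one]

theorem exists_comap_eq [IsGalois k K] (P Q : PrimeSpectrum (A ⊗[k] K))
    (h : PrimeSpectrum.comap (algebraMap A (A ⊗[k] K)) P =
      PrimeSpectrum.comap (algebraMap A (A ⊗[k] K)) Q) :
    ∃ σ : K ≃ₐ[k] K, PrimeSpectrum.comap (tmap A K σ).toRingHom P = Q := by
  letI := tAct (k := k) A K
  haveI := tAct_smulComm (k := k) A K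
  haveI := tAct_isInvariant (k := k) A K
  letI : TopologicalSpace (A ⊗[k] K) := ⊥
  haveI : DiscreteTopology (A ⊗[k] K) := ⟨rfl⟩
  haveI : ContinuousSMul (K ≃ₐ[k] K) (A ⊗[k] K) :=
    continuousSMul_iff_stabilizer_isOpen.mpr (tAct_stabilizer_isOpen (k := k) A K)
  have hPQ : P.asIdeal.under A = Q.asIdeal.under A := congrArg PrimeSpectrum.asIdeal h
  obtain ⟨g, hg⟩ := Algebra.IsInvariant.exists_smul_of_under_eq_of_profinite (A := A)
    (G := K ≃ₐ[k] K) P.asIdeal Q.asIdeal hPQ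
  refine ⟨g⁻¹, ?_⟩
  apply PrimeSpectrum.ext
  ext x
  rw [PrimeSpectrum.comap_asIdeal, Ideal.mem_comap, hg,
    Ideal.mem_pointwise_smul_iff_inv_smul_mem]
  rfl

end Algebra

section Act

variable {k : Type u} [Field k] {X : Scheme.{u}} (f : X ⟶ Spec (CommRingCat.of k))
  (K : Type u) [Field K] [Algebra k K]

/-- `Spec σ`. -/
noncomputable def sσ (σ : K ≃ₐ[k] K) : Spec (CommRingCat.of K) ⟶ Spec (CommRingCat.of K) :=
  Spec.map (CommRingCat.ofHom (σ : K →ₐ[k] K).toRingHom)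

theorem sσ_comp (σ : K ≃ₐ[k] K) : sσ K σ ≫ sm[k, K] = sm[k, K] := by
  rw [sσ, ← Spec.map_comp, ← CommRingCat.ofHom_comp, AlgHom.toRingHom_eq_coe,
    AlgHom.comp_algebraMap]

theorem sσ_one : sσ K (1 : K ≃ₐ[k] K) = 𝟙 _ := by
  rw [sσ]
  exact Spec.map_id _

theorem sσ_mul (σ τ : K ≃ₐ[k] K) : sσ K σ ≫ sσ K τ = sσ K (σ * τ) := by
  rw [sσ, sσ, sσ, ← Spec.map_comp, ← CommRingCat.ofHom_comp]
  rfl

/-- The Galois action on a base change (for a general structure morphism). -/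
noncomputable def gAct (σ : K ≃ₐ[k] K) : pullback f sm[k, K] ⟶ pullback f sm[k, K] :=
  pullback.lift (pullback.fst f sm[k, K]) (pullback.snd f sm[k, K] ≫ sσ K σ)
    (by rw [Category.assoc, sσ_comp]; exact pullback.condition)

@[reassoc]
theorem gAct_fst (σ : K ≃ₐ[k] K) :
    gAct f K σ ≫ pullback.fst f sm[k, K] = pullback.fst f sm[k, K] :=
  pullback.lift_fst _ _ _

@[reassoc]
theorem gAct_snd (σ : K ≃ₐ[k] K) :
    gAct f K σ ≫ pullback.snd f sm[k, K] = pullback.snd f sm[k, K] ≫ sσ K σ :=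
  pullback.lift_snd _ _ _

theorem gAct_one : gAct f K (1 : K ≃ₐ[k] K) = 𝟙 _ := by
  apply pullback.hom_ext
  · rw [gAct_fst, Category.id_comp]
  · rw [gAct_snd, sσ_one, Category.comp_id, Category.id_comp]

theorem gAct_mul (σ τ : K ≃ₐ[k] K) : gAct f K σ ≫ gAct f K τ = gAct f K (σ * τ) := by
  apply pullback.hom_ext
  · rw [Category.assoc, gAct_fst, gAct_fst, gAct_fst]
  · rw [Category.assoc, gAct_snd, gAct_snd_assoc, gAct_snd, sσ_mul]

/-- The Galois action as an automorphism. -/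
noncomputable def gActIso (σ : K ≃ₐ[k] K) : pullback f sm[k, K] ≅ pullback f sm[k, K] where
  hom := gAct f K σ
  inv := gAct f K σ⁻¹
  hom_inv_id := by rw [gAct_mul, mul_inv_cancel, gAct_one]
  inv_hom_id := by rw [gAct_mul, inv_mul_cancel, gAct_one]

theorem gAct_fst_apply (σ : K ≃ₐ[k] K) (z : ↥(pullback f sm[k, K])) :
    (pullback.fst f sm[k, K]) ((gAct f K σ) z) = (pullback.fst f sm[k, K]) z := by
  rw [← Scheme.Hom.comp_apply, gAct_fst]

theorem gAct_inv_apply (σ : K ≃ₐ[k] K) (z : ↥(pullback f sm[k, K])) :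
    (gAct f K σ) ((gAct f K σ⁻¹) z) = z := by
  rw [← Scheme.Hom.comp_apply, gAct_mul, inv_mul_cancel, gAct_one]
  rfl

theorem gAct_inv_apply' (σ : K ≃ₐ[k] K) (z : ↥(pullback f sm[k, K])) :
    (gAct f K σ⁻¹) ((gAct f K σ) z) = z := by
  rw [← Scheme.Hom.comp_apply, gAct_mul, mul_inv_cancel, gAct_one]
  rfl

theorem galAct_eq (k : Type u) [Field k] (X : Scheme.{u}) [X.Over (Spec (CommRingCat.of k))]
    (K : Type u) [Field K] [Algebra k K] (σ : K ≃ₐ[k] K) :
    Curv2.galAct k X K σ = gAct (X ↘ Spec (CommRingCat.of k)) K σ := by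
  apply pullback.hom_ext
  · rw [gAct_fst]
    exact (pullback.lift_fst _ _ _).trans (Category.comp_id _)
  · rw [gAct_snd]
    exact pullback.lift_snd _ _ _

end Act

section Affine

variable {k : Type u} [Field k] (A : Type u) [CommRing A] [Algebra k A]
  (K : Type u) [Field K] [Algebra k K]

theorem gAct_affine (σ : K ≃ₐ[k] K) :
    (pullbackSpecIso k A K).inv ≫ gAct sm[k, A] K σ =
      Spec.map (CommRingCat.ofHom (tmap A K σ).toRingHom) ≫ (pullbackSpecIso k A K).inv := by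
  have h1 : (tmap A K σ).toRingHom.comp
      (Algebra.TensorProduct.includeLeftRingHom : A →+* A ⊗[k] K) =
      Algebra.TensorProduct.includeLeftRingHom := by
    ext a
    change tmap A K σ (a ⊗ₜ[k] (1 : K)) = a ⊗ₜ[k] (1 : K)
    rw [tmap_tmul, map_one]
  have h2 : (tmap A K σ).toRingHom.comp
      (Algebra.TensorProduct.includeRight : K →ₐ[k] A ⊗[k] K).toRingHom =
      (Algebra.TensorProduct.includeRight : K →ₐ[k] A ⊗[k] K).toRingHom.comp
        (σ : K →ₐ[k] K).toRingHom := by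
    ext y
    change tmap A K σ ((1 : A) ⊗ₜ[k] y) = (1 : A) ⊗ₜ[k] σ y
    rw [tmap_tmul]
  refine pullback.hom_ext (f := sm[k, A]) (g := sm[k, K]) ?_ ?_
  · rw [Category.assoc, Category.assoc, gAct_fst, pullbackSpecIso_inv_fst,
      ← Spec.map_comp, ← CommRingCat.ofHom_comp, h1]
  · rw [Category.assoc, Category.assoc, gAct_snd, pullbackSpecIso_inv_snd,
      pullbackSpecIso_inv_snd_assoc, sσ, ← Spec.map_comp, ← Spec.map_comp,
      ← CommRingCat.ofHom_comp, ← CommRingCat.ofHom_comp]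
    exact congrArg (fun r => Spec.map (CommRingCat.ofHom r)) h2.symm

theorem gAct_affine' (σ : K ≃ₐ[k] K) :
    gAct sm[k, A] K σ ≫ (pullbackSpecIso k A K).hom =
      (pullbackSpecIso k A K).hom ≫ Spec.map (CommRingCat.ofHom (tmap A K σ).toRingHom) := by
  have h := gAct_affine A K σ
  rw [Iso.inv_comp_eq] at h
  rw [h]
  simp

end Affine

section Core

variable {k : Type u} [Field k] {X W : Scheme.{u}} (f : X ⟶ Spec (CommRingCat.of k))
  (c : W ⟶ X) (g : W ⟶ Spec (CommRingCat.of k)) (hg : g = c ≫ f)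
  (K : Type u) [Field K] [Algebra k K]

theorem Gm_gAct (σ : K ≃ₐ[k] K) :
    Gm f c g hg K ≫ gAct f K σ = gAct g K σ ≫ Gm f c g hg K := by
  refine pullback.hom_ext (f := f) (g := sm[k, K]) ?_ ?_
  · rw [Category.assoc, Category.assoc, gAct_fst, Gm_fst, gAct_fst_assoc]
  · rw [Category.assoc, Category.assoc, gAct_snd, Gm_snd_assoc, Gm_snd, gAct_snd]

end Core

theorem exists_gAct_eq {k : Type u} [Field k] {X : Scheme.{u}}
    (f : X ⟶ Spec (CommRingCat.of k)) (K : Type u) [Field K] [Algebra k K] [IsGalois k K]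
    (z₁ z₂ : ↥(pullback f sm[k, K]))
    (h : (pullback.fst f sm[k, K]) z₁ = (pullback.fst f sm[k, K]) z₂) :
    ∃ σ : K ≃ₐ[k] K, (gAct f K σ) z₁ = z₂ := by
  obtain ⟨i, w, hw⟩ := X.affineCover.exists_eq ((pullback.fst f sm[k, K]) z₁)
  let c' : Spec Γ(X.affineCover.X i, ⊤) ⟶ X := (X.affineCover.X i).isoSpec.inv ≫ X.affineCover.f i
  let φ : CommRingCat.of k ⟶ Γ(X.affineCover.X i, ⊤) := Spec.preimage (c' ≫ f)
  letI : Algebra k Γ(X.affineCover.X i, ⊤) := φ.hom.toAlgebra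
  have hg : sm[k, Γ(X.affineCover.X i, ⊤)] = c' ≫ f := Spec.map_preimage (c' ≫ f)
  have hw' : (pullback.fst f sm[k, K]) z₁ = c' ((X.affineCover.X i).isoSpec.hom w) := by
    show _ = ((X.affineCover.X i).isoSpec.inv ≫ X.affineCover.f i) _
    rw [Scheme.Hom.comp_apply, ← Scheme.Hom.comp_apply _ (X.affineCover.X i).isoSpec.inv,
      Iso.hom_inv_id]
    exact hw.symm
  obtain ⟨a₁, ha₁⟩ := mem_range_Gm f c' sm[k, Γ(X.affineCover.X i, ⊤)] hg K z₁ _ hw'
  obtain ⟨a₂, ha₂⟩ := mem_range_Gm f c' sm[k, Γ(X.affineCover.X i, ⊤)] hg K z₂ _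
    (h.symm.trans hw')
  have e1 : c' ((pullback.fst sm[k, Γ(X.affineCover.X i, ⊤)] sm[k, K]) a₁) =
      (pullback.fst f sm[k, K]) z₁ := by
    rw [← ha₁]
    exact (congrArg (fun (ψ : pullback sm[k, Γ(X.affineCover.X i, ⊤)] sm[k, K] ⟶ X) => ψ a₁)
      (Gm_fst f c' sm[k, Γ(X.affineCover.X i, ⊤)] hg K)).symm
  have e2 : c' ((pullback.fst sm[k, Γ(X.affineCover.X i, ⊤)] sm[k, K]) a₂) =
      (pullback.fst f sm[k, K]) z₂ := by
    rw [← ha₂]
    exact (congrArg (fun (ψ : pullback sm[k, Γ(X.affineCover.X i, ⊤)] sm[k, K] ⟶ X) => ψ a₂)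
      (Gm_fst f c' sm[k, Γ(X.affineCover.X i, ⊤)] hg K)).symm
  have hπ : (pullback.fst sm[k, Γ(X.affineCover.X i, ⊤)] sm[k, K]) a₁ =
      (pullback.fst sm[k, Γ(X.affineCover.X i, ⊤)] sm[k, K]) a₂ :=
    c'.isOpenEmbedding.injective (e1.trans (h.trans e2.symm))
  have hfst : ∀ a : ↥(pullback sm[k, Γ(X.affineCover.X i, ⊤)] sm[k, K]),
      PrimeSpectrum.comap (algebraMap ↑Γ(X.affineCover.X i, ⊤) (↑Γ(X.affineCover.X i, ⊤) ⊗[k] K))
        ((pullbackSpecIso k ↑Γ(X.affineCover.X i, ⊤) K).hom a) =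
      (pullback.fst sm[k, Γ(X.affineCover.X i, ⊤)] sm[k, K]) a := fun a =>
    congrArg (fun (ψ : pullback sm[k, Γ(X.affineCover.X i, ⊤)] sm[k, K] ⟶
      Spec (CommRingCat.of ↑Γ(X.affineCover.X i, ⊤))) => ψ a)
      (pullbackSpecIso_hom_fst' k ↑Γ(X.affineCover.X i, ⊤) K)
  obtain ⟨σ, hσ⟩ := exists_comap_eq (↑Γ(X.affineCover.X i, ⊤)) K
    ((pullbackSpecIso k ↑Γ(X.affineCover.X i, ⊤) K).hom a₁)
    ((pullbackSpecIso k ↑Γ(X.affineCover.X i, ⊤) K).hom a₂) (by rw [hfst, hfst, hπ])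
  refine ⟨σ, ?_⟩
  have hinv : ∀ z, (pullbackSpecIso k ↑Γ(X.affineCover.X i, ⊤) K).inv
      ((pullbackSpecIso k ↑Γ(X.affineCover.X i, ⊤) K).hom z) = z := fun z => by
    rw [← Scheme.Hom.comp_apply, Iso.hom_inv_id]; rfl
  have htr : (pullbackSpecIso k ↑Γ(X.affineCover.X i, ⊤) K).hom
      ((gAct sm[k, Γ(X.affineCover.X i, ⊤)] K σ) a₁) =
      PrimeSpectrum.comap (tmap (↑Γ(X.affineCover.X i, ⊤)) K σ).toRingHom
        ((pullbackSpecIso k ↑Γ(X.affineCover.X i, ⊤) K).hom a₁) :=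
    congrArg (fun (ψ : pullback sm[k, Γ(X.affineCover.X i, ⊤)] sm[k, K] ⟶
      Spec (CommRingCat.of (↑Γ(X.affineCover.X i, ⊤) ⊗[k] K))) => ψ a₁)
      (gAct_affine' (↑Γ(X.affineCover.X i, ⊤)) K σ)
  have hU : (gAct sm[k, Γ(X.affineCover.X i, ⊤)] K σ) a₁ = a₂ := by
    rw [← hinv ((gAct sm[k, Γ(X.affineCover.X i, ⊤)] K σ) a₁), htr, hσ, hinv]
  rw [← ha₁, ← ha₂, ← hU]
  exact congrArg (fun (ψ : pullback sm[k, Γ(X.affineCover.X i, ⊤)] sm[k, K] ⟶
    pullback f sm[k, K]) => ψ a₁) (Gm_gAct f c' sm[k, Γ(X.affineCover.X i, ⊤)] hg K σ)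

end Groth.Agent.Lib.GalActH4
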