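import Groth.Agent.Lib.AlgSpBCTop2_helper7
import Groth.Agent.Lib.GalAct_helper4

/-!
# Galois descent of closed subsets of `|X_K|` for an algebraic space over a field (helper7)
-/

set_option autoImplicit false
set_option linter.style.haveILetI false
universe u
open CategoryTheory CategoryTheory.Limits AlgebraicGeometry Opposite

namespace Groth.Agent.Lib.AlgSpGaloisH7

open AlgSp Groth.Agent.Lib.AlgSpPoints_helper7 Groth.Agent.Lib.AlgSpProdChartH7
  Groth.Agent.Lib.GeomRedBC2H7 Groth.Agent.Lib.GeomIrrSchH4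
  Groth.Agent.Lib.AlgSpBCTopH7 Groth.Agent.Lib.AlgSpBCTop2H7 Groth.Agent.Lib.GalActH4

variable {S : Scheme.{u}}

/-- `|X ⨯ h_Y| ⟶ |X|` is open and surjective when `Y ⟶ S` is universally open and surjective. -/
theorem fst_open_surj {X : Sp S} (hX : IsAlgSpace X) (Y : Over S) [UniversallyOpen Y.hom]
    [Surjective Y.hom] :
    IsOpenMap (Points.map (prod.fst : X ⨯ (yon S).obj Y ⟶ X)) ∧
      Function.Surjective (Points.map (prod.fst : X ⨯ (yon S).obj Y ⟶ X)) := by
  obtain ⟨U, a, hae, has⟩ := hX.atlas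
  have sq := isPullback_left_prod U Y
  haveI : UniversallyOpen (prod.fst : U ⨯ Y ⟶ U).left :=
    MorphismProperty.of_isPullback (P := @UniversallyOpen) sq.flip inferInstance
  haveI : Surjective (prod.fst : U ⨯ Y ⟶ U).left :=
    MorphismProperty.of_isPullback (P := @Surjective) sq.flip inferInstance
  refine ⟨isOpenMap_of_square (Points.ofPt (bcChart a Y))
    (fun w => (prod.fst : U ⨯ Y ⟶ U).left w) (Points.ofPt a) _ (ofPt_bcChart_fst a Y)
    (Points.continuous_ofPt _) (ofPt_surjective _ (repWith_bcChart @Surjective has Y))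
    (isOpenMap_ofPt_of_etale a hae) (prod.fst : U ⨯ Y ⟶ U).left.isOpenMap, ?_⟩
  intro x
  obtain ⟨u, rfl⟩ := ofPt_surjective a has x
  obtain ⟨w, rfl⟩ := (prod.fst : U ⨯ Y ⟶ U).left.surjective u
  exact ⟨Points.ofPt (bcChart a Y) w, ofPt_bcChart_fst a Y w⟩

variable (k : Type u) [Field k]

theorem main10470 (X : AlgSp.Space (Spec (CommRingCat.of k))) (K : Type u) [Field K]
    [Algebra k K] [IsGalois k K]
    (T : Set (Points (X.obj ⨯ (yon (Spec (CommRingCat.of k))).obj (SK k K)))) (hT : IsClosed T)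
    (hσ : ∀ (σ : K ≃ₐ[k] K) (g : SK k K ⟶ SK k K),
      g.left = Spec.map (CommRingCat.ofHom (σ : K ≃ₐ[k] K).toRingHom) →
        Points.map (prod.map (𝟙 X.obj) ((yon (Spec (CommRingCat.of k))).map g)) '' T = T) :
    ∃ T₀ : Set (Points X.obj), IsClosed T₀ ∧
      Points.map (prod.fst : (X.obj ⨯ (yon (Spec (CommRingCat.of k))).obj (SK k K)) ⟶ X.obj) ⁻¹'
        T₀ = T := by
  haveI : UniversallyOpen (SK k K).hom := universallyOpen_specMap (k := k) K
  haveI : Surjective (SK k K).hom := surjective_specMap K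
  obtain ⟨ho, hs⟩ := fst_open_surj X.property (SK k K)
  have key : Points.map (prod.fst : (X.obj ⨯ (yon (Spec (CommRingCat.of k))).obj (SK k K)) ⟶
      X.obj) ⁻¹' (Points.map (prod.fst : (X.obj ⨯ (yon (Spec (CommRingCat.of k))).obj (SK k K)) ⟶
      X.obj) '' T) = T := by
    apply Set.Subset.antisymm
    · rintro x' ⟨t, ht, htx⟩
      obtain ⟨U, a, hae, has⟩ := X.property.atlas
      obtain ⟨u, hu⟩ := ofPt_surjective a has (Points.map prod.fst t)
      obtain ⟨wt, hwt1, hwt2⟩ :=
        exists_pt_of_isPullback (isPullback_bcChart a (SK k K)) u t hu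
      obtain ⟨wx, hwx1, hwx2⟩ :=
        exists_pt_of_isPullback (isPullback_bcChart a (SK k K)) u x' (hu.trans htx)
      have hfst : (Over.prodLeftIsoPullback U (SK k K)).hom ≫
          pullback.fst U.hom (Spec.map (CommRingCat.ofHom (algebraMap k K))) =
          (prod.fst : U ⨯ SK k K ⟶ U).left := Over.prodLeftIsoPullback_hom_fst U (SK k K)
      have hsnd : (Over.prodLeftIsoPullback U (SK k K)).hom ≫
          pullback.snd U.hom (Spec.map (CommRingCat.ofHom (algebraMap k K))) =
          (prod.snd : U ⨯ SK k K ⟶ SK k K).left := Over.prodLeftIsoPullback_hom_snd U (SK k K)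
      have h12 : (pullback.fst U.hom (Spec.map (CommRingCat.ofHom (algebraMap k K))))
          ((Over.prodLeftIsoPullback U (SK k K)).hom wt) =
          (pullback.fst U.hom (Spec.map (CommRingCat.ofHom (algebraMap k K))))
          ((Over.prodLeftIsoPullback U (SK k K)).hom wx) := by
        rw [← Scheme.Hom.comp_apply, ← Scheme.Hom.comp_apply, hfst, hwt1, hwx1]
      obtain ⟨σ, hσ1⟩ := exists_gAct_eq U.hom K _ _ h12
      obtain ⟨g, hg⟩ : ∃ g : SK k K ⟶ SK k K, g.left = sσ K σ :=
        ⟨Over.homMk (sσ K σ) (sσ_comp K σ), rfl⟩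
      have hcomm : (prod.map (𝟙 U) g).left ≫ (Over.prodLeftIsoPullback U (SK k K)).hom =
          (Over.prodLeftIsoPullback U (SK k K)).hom ≫ gAct U.hom K σ := by
        refine pullback.hom_ext (f := U.hom)
          (g := Spec.map (CommRingCat.ofHom (algebraMap k K))) ?_ ?_
        · rw [Category.assoc, Category.assoc, gAct_fst, hfst, ← Over.comp_left, prod.map_fst,
            Category.comp_id]
        · rw [Category.assoc, Category.assoc, gAct_snd, ← Category.assoc _ _ (sσ K σ), hsnd,
            ← Over.comp_left, prod.map_snd, Over.comp_left, hg]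
      have h3 : (Over.prodLeftIsoPullback U (SK k K)).hom ((prod.map (𝟙 U) g).left wt) =
          (Over.prodLeftIsoPullback U (SK k K)).hom wx := by
        rw [← Scheme.Hom.comp_apply, hcomm, Scheme.Hom.comp_apply, hσ1]
      have hw : (prod.map (𝟙 U) g).left wt = wx := by
        have h4 := congrArg (fun z => (Over.prodLeftIsoPullback U (SK k K)).inv z) h3
        simp only [Scheme.hom_inv_apply] at h4
        exact h4
      have hg' : g.left = Spec.map (CommRingCat.ofHom (σ : K ≃ₐ[k] K).toRingHom) := hg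
      rw [← hσ σ g hg']
      refine ⟨t, ht, ?_⟩
      rw [← hwt2, ofPt_bcChart_map, hw, hwx2]
    · intro t ht
      exact ⟨t, ht, rfl⟩
  refine ⟨Points.map prod.fst '' T, ?_, key⟩
  rw [← isOpen_compl_iff]
  have e : (Points.map (prod.fst : (X.obj ⨯ (yon (Spec (CommRingCat.of k))).obj (SK k K)) ⟶
      X.obj) '' T)ᶜ = Points.map prod.fst '' Tᶜ := by
    ext y
    constructor
    · intro hy
      obtain ⟨x, rfl⟩ := hs y
      exact ⟨x, fun hx => hy ⟨x, hx, rfl⟩, rfl⟩
    · rintro ⟨x, hx, rfl⟩ hy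
      have hx' : x ∈ Points.map (prod.fst : (X.obj ⨯ (yon (Spec (CommRingCat.of k))).obj
          (SK k K)) ⟶ X.obj) ⁻¹' (Points.map prod.fst '' T) := hy
      rw [key] at hx'
      exact hx hx'
  rw [e]
  exact ho _ hT.isOpen_compl

end Groth.Agent.Lib.AlgSpGaloisH7
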