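import Mathlib
import Groth.Agent.Lib.AlgSpCodim0_helper6
import Groth.Agent.Lib.EtNbhdFin4_helper4
import Groth.Agent.Lib.AlgSpPropFin_helper6

/-!
# Generic finiteness at points of codimension zero, scheme level (helper6)
-/

set_option autoImplicit false
universe u
open CategoryTheory CategoryTheory.Limits AlgebraicGeometry Opposite TopologicalSpace

namespace Groth.Agent.Lib.AlgSpGenFinH6

open Groth.Agent.Lib.AlgSpCodim0_helper6 Groth.Agent.Lib.AlgSpPropFinH6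

/-- A point of `Spec A` without nontrivial generizations which is not in the image of `Spec B` is
not in the closure of the image. -/
theorem not_mem_closure_range_comap {A B : Type*} [CommRing A] [CommRing B] (φ : A →+* B)
    (p : PrimeSpectrum A) (hp : ∀ p' : PrimeSpectrum A, p' ⤳ p → p' = p)
    (hnot : p ∉ Set.range (PrimeSpectrum.comap φ)) :
    p ∉ closure (Set.range (PrimeSpectrum.comap φ)) := by
  intro hmem
  rw [PrimeSpectrum.closure_range_comap, PrimeSpectrum.mem_zeroLocus] at hmem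
  have hmin : p.asIdeal ∈ (RingHom.ker φ).minimalPrimes := by
    refine ⟨⟨p.isPrime, hmem⟩, fun q hq hqp => ?_⟩
    have h1 : (⟨q, hq.1⟩ : PrimeSpectrum A) = p :=
      hp _ ((PrimeSpectrum.le_iff_specializes ⟨q, hq.1⟩ p).1 hqp)
    rw [← h1]
  rw [RingHom.ker_eq_comap_bot] at hmin
  obtain ⟨q, hq, -, hqp⟩ := Ideal.exists_comap_eq_of_mem_minimalPrimes φ _ hmin
  exact hnot ⟨⟨q, hq⟩, PrimeSpectrum.ext hqp⟩

theorem not_mem_closure_range_specMap {A B : CommRingCat.{u}} (φ : A ⟶ B) (p : ↥(Spec A))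
    (hp : ∀ p' : ↥(Spec A), p' ⤳ p → p' = p) (hnot : p ∉ Set.range (Spec.map φ)) :
    p ∉ closure (Set.range (Spec.map φ)) :=
  not_mem_closure_range_comap φ.hom p hp hnot

/-- A quasi-compact morphism missing a point `t` without nontrivial generizations misses an open
neighbourhood of `t`. -/
theorem exists_open_disjoint {W T : Scheme.{u}} (h : W ⟶ T) [QuasiCompact h] (t : T)
    (ht : ∀ t' : T, t' ⤳ t → t' = t) (hnot : t ∉ Set.range h) :
    ∃ O : T.Opens, t ∈ O ∧ ∀ w : W, h w ∉ O := by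
  obtain ⟨T₁, hT₁, htT₁, -⟩ := exists_isAffineOpen_mem_and_subset (x := t) (U := ⊤) trivial
  have hK : IsCompact ((h ⁻¹ᵁ T₁ : W.Opens) : Set W) := h.isCompact_preimage hT₁.isCompact
  obtain ⟨R, f, hf⟩ := isCompact_iff_exists.mp hK
  have hfmem : ∀ z, h (f z) ∈ T₁ := by
    intro z
    have h1 : f z ∈ ((h ⁻¹ᵁ T₁ : W.Opens) : Set W) := by rw [← hf]; exact ⟨z, rfl⟩
    exact h1
  have hrange : Set.range (f ≫ h) ⊆ Set.range T₁.ι := by
    rw [Scheme.Opens.range_ι]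
    rintro _ ⟨z, rfl⟩
    rw [Scheme.Hom.comp_apply]
    exact hfmem z
  obtain ⟨k, hk⟩ : ∃ k : Spec R ⟶ ↑T₁, k ≫ T₁.ι = f ≫ h :=
    ⟨IsOpenImmersion.lift T₁.ι (f ≫ h) hrange, IsOpenImmersion.lift_fac _ _ _⟩
  obtain ⟨e, -⟩ : ∃ e : (↑T₁ : Scheme.{u}) ≅ Spec Γ(T, T₁), e = hT₁.isoSpec := ⟨_, rfl⟩
  obtain ⟨φ, hφ⟩ : ∃ φ : Γ(T, T₁) ⟶ R, Spec.map φ = k ≫ e.hom :=
    ⟨Spec.preimage (k ≫ e.hom), Spec.map_preimage _⟩
  obtain ⟨ge, hge⟩ : ∃ ge : Spec Γ(T, T₁) ⟶ T, ge = e.inv ≫ T₁.ι := ⟨_, rfl⟩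
  haveI : IsOpenImmersion ge := by rw [hge]; infer_instance
  haveI : Etale ge := inferInstance
  obtain ⟨p, hp⟩ : ∃ p : ↥(Spec Γ(T, T₁)), p = e.hom ⟨t, htT₁⟩ := ⟨_, rfl⟩
  have hgp : ge p = t := by
    rw [hp, hge, ← Scheme.Hom.comp_apply, Iso.hom_inv_id_assoc]
    rfl
  have hgφ : Spec.map φ ≫ ge = f ≫ h := by
    rw [hφ, hge, Category.assoc, Iso.hom_inv_id_assoc, hk]
  have hpno : ∀ p' : ↥(Spec Γ(T, T₁)), p' ⤳ p → p' = p :=
    no_gen_of_etale ge p (by rw [hgp]; exact ht)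
  have hpnot : p ∉ Set.range (Spec.map φ) := by
    rintro ⟨z, hz⟩
    apply hnot
    refine ⟨f z, ?_⟩
    rw [← Scheme.Hom.comp_apply, ← hgφ, Scheme.Hom.comp_apply, hz, hgp]
  have hcl := not_mem_closure_range_specMap φ p hpno hpnot
  have hCo : IsOpen (closure (Set.range (Spec.map φ)))ᶜ := isClosed_closure.isOpen_compl
  refine ⟨⟨ge '' (closure (Set.range (Spec.map φ)))ᶜ, ge.isOpenEmbedding.isOpenMap _ hCo⟩,
    ⟨p, hcl, hgp⟩, ?_⟩
  rintro w ⟨z, hzC, hzw⟩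
  apply hzC
  apply subset_closure
  have hwT₁ : h w ∈ T₁ := by
    rw [← hzw, hge, Scheme.Hom.comp_apply]
    exact (e.inv z).2
  have hwK : w ∈ ((h ⁻¹ᵁ T₁ : W.Opens) : Set W) := hwT₁
  rw [← hf] at hwK
  obtain ⟨z', rfl⟩ := hwK
  refine ⟨z', ?_⟩
  apply ge.isOpenEmbedding.injective
  rw [hzw, ← Scheme.Hom.comp_apply, hgφ, Scheme.Hom.comp_apply]

/-- Factoring the first projection of a pullback square through a monomorphism. -/
theorem isPullback_of_mono_factor {C : Type*} [Category C] {P X X' Y Z : C} {fst : P ⟶ X}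
    {snd : P ⟶ Z} {f : X ⟶ Y} {g : Z ⟶ Y} (h : IsPullback fst snd f g) (i : X' ⟶ X) [Mono i]
    (l : P ⟶ X') (hl : l ≫ i = fst) : IsPullback l snd (i ≫ f) g := by
  refine ⟨⟨by rw [← Category.assoc, hl, h.w]⟩, ⟨PullbackCone.IsLimit.mk _
    (fun s => h.lift (s.fst ≫ i) s.snd (by rw [Category.assoc]; exact s.condition)) ?_ ?_ ?_⟩⟩
  · intro s
    rw [← cancel_mono i, Category.assoc, hl, h.lift_fst]
  · intro s
    exact h.lift_snd _ _ _
  · intro s m hm1 hm2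
    apply h.hom_ext
    · rw [h.lift_fst, ← hl, ← Category.assoc, hm1]
    · rw [h.lift_snd, hm2]

theorem isFinite_snd_of_factor {R T T' T'' : Scheme.{u}} (g : R ⟶ T) (e : T' ⟶ T) (k : T'' ⟶ T')
    (e' : T'' ⟶ T) (he' : k ≫ e = e') [IsFinite (pullback.snd g e)] :
    IsFinite (pullback.snd g e') := by
  subst he'
  have sqL : IsPullback (pullback.lift (pullback.fst g (k ≫ e)) (pullback.snd g (k ≫ e) ≫ k)
      (by rw [Category.assoc]; exact pullback.condition)) (pullback.snd g (k ≫ e))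
      (pullback.snd g e) k := by
    refine IsPullback.of_right ?_ (pullback.lift_snd _ _ _) (IsPullback.of_hasPullback g e)
    rw [pullback.lift_fst]
    exact IsPullback.of_hasPullback g (k ≫ e)
  exact MorphismProperty.of_isPullback (P := @IsFinite) sqL inferInstance

/-- Étale-local generic finiteness for schemes at a point without nontrivial generizations. -/
theorem gf_sch {R T : Scheme.{u}} (g : R ⟶ T) [LocallyOfFiniteType g] [IsSeparated g]
    [QuasiCompact g] (t : T) (ht : ∀ t' : T, t' ⤳ t → t' = t)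
    (hq : ∀ r, g r = t → ∃ W : R.Opens, r ∈ W ∧ LocallyQuasiFinite (W.ι ≫ g) ∧
      LocallyOfFiniteType (W.ι ≫ g)) :
    ∃ (T' : Scheme.{u}) (e : T' ⟶ T) (t' : T'), IsAffine T' ∧ Etale e ∧ e t' = t ∧
      IsFinite (pullback.snd g e) := by
  have hfin : (g ⁻¹' {t}).Finite := finite_fibre_of_near g t hq
  obtain ⟨T₀, e₀, t₀, he₀, he₀t, -, V, W, hVW, hfinV, hall⟩ :=
    Groth.Agent.Lib.EtNbhdFinH4.main5985 g t hfin
  haveI := he₀
  have hWV : (W : Set ↥(pullback g e₀)) = (V : Set ↥(pullback g e₀))ᶜ := by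
    have h1 : Disjoint (V : Set ↥(pullback g e₀)) (W : Set ↥(pullback g e₀)) := by
      rw [Set.disjoint_iff_inter_eq_empty, ← TopologicalSpace.Opens.coe_inf,
        hVW.inf_eq_bot]
      rfl
    have h2 : (V : Set ↥(pullback g e₀)) ∪ (W : Set ↥(pullback g e₀)) = Set.univ := by
      rw [← TopologicalSpace.Opens.coe_sup, hVW.sup_eq_top]
      rfl
    ext x
    constructor
    · intro hx hxV
      exact Set.disjoint_left.1 h1 hxV hx
    · intro hx
      have : x ∈ (V : Set ↥(pullback g e₀)) ∪ (W : Set ↥(pullback g e₀)) := by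
        rw [h2]; trivial
      exact this.resolve_left hx
  have hWc : IsClosed (W : Set ↥(pullback g e₀)) := by
    rw [hWV]
    exact V.2.isClosed_compl
  haveI : QuasiCompact W.ι := by
    refine ⟨fun U _ hUc => ?_⟩
    have hce : Topology.IsClosedEmbedding W.ι :=
      ⟨W.ι.isOpenEmbedding.isEmbedding, by rw [Scheme.Opens.range_ι]; exact hWc⟩
    exact hce.isCompact_preimage hUc
  haveI : QuasiCompact (W.ι ≫ pullback.snd g e₀) := inferInstance
  have ht₀ : ∀ t' : T₀, t' ⤳ t₀ → t' = t₀ := no_gen_of_etale e₀ t₀ (by rw [he₀t]; exact ht)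
  have hnot : t₀ ∉ Set.range (W.ι ≫ pullback.snd g e₀) := by
    rintro ⟨w, hw⟩
    rw [Scheme.Hom.comp_apply] at hw
    have h2 : W.ι w ∈ (V : Set ↥(pullback g e₀)) := hall _ hw
    have h3 : W.ι w ∈ (W : Set ↥(pullback g e₀)) := w.2
    rw [hWV] at h3
    exact h3 h2
  obtain ⟨O, htO, hO⟩ := exists_open_disjoint (W.ι ≫ pullback.snd g e₀) t₀ ht₀ hnot
  obtain ⟨T', hT', htT', hT'O⟩ := exists_isAffineOpen_mem_and_subset htO
  obtain ⟨e, he⟩ : ∃ e : (↑T' : Scheme.{u}) ⟶ T, e = T'.ι ≫ e₀ := ⟨_, rfl⟩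
  haveI : Etale e := by rw [he]; infer_instance
  refine ⟨T', e, ⟨t₀, htT'⟩, hT', inferInstance, ?_, ?_⟩
  · rw [he, Scheme.Hom.comp_apply]
    exact he₀t
  · obtain ⟨pQ, hpQ1, hpQ2⟩ : ∃ pQ : pullback g e ⟶ pullback g e₀,
        pQ ≫ pullback.fst g e₀ = pullback.fst g e ∧
        pQ ≫ pullback.snd g e₀ = pullback.snd g e ≫ T'.ι :=
      ⟨pullback.lift (pullback.fst g e) (pullback.snd g e ≫ T'.ι)
        (by rw [Category.assoc, ← he]; exact pullback.condition),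
        pullback.lift_fst _ _ _, pullback.lift_snd _ _ _⟩
    have sqL : IsPullback pQ (pullback.snd g e) (pullback.snd g e₀) T'.ι := by
      refine IsPullback.of_right ?_ hpQ2 (IsPullback.of_hasPullback g e₀)
      rw [hpQ1, ← he]
      exact IsPullback.of_hasPullback g e
    haveI : IsOpenImmersion pQ :=
      MorphismProperty.of_isPullback (P := @IsOpenImmersion) sqL.flip inferInstance
    have hrange : Set.range pQ ⊆ Set.range V.ι := by
      rw [Scheme.Opens.range_ι]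
      rintro _ ⟨z, rfl⟩
      by_contra hzV
      have hzW : pQ z ∈ (W : Set ↥(pullback g e₀)) := by rw [hWV]; exact hzV
      apply hO ⟨pQ z, hzW⟩
      apply hT'O
      rw [Scheme.Hom.comp_apply]
      have h1 : pullback.snd g e₀ (pQ z) = T'.ι (pullback.snd g e z) := by
        rw [← Scheme.Hom.comp_apply, hpQ2, Scheme.Hom.comp_apply]
      have h2 : W.ι ⟨pQ z, hzW⟩ = pQ z := rfl
      rw [h2, h1]
      exact (pullback.snd g e z).2
    have sqV := isPullback_of_mono_factor sqL V.ι (IsOpenImmersion.lift V.ι pQ hrange)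
      (IsOpenImmersion.lift_fac _ _ _)
    exact MorphismProperty.of_isPullback (P := @IsFinite) sqV hfinV

/-- Two morphisms at once. -/
theorem gf_sch2 {R₁ R₂ T : Scheme.{u}} (g₁ : R₁ ⟶ T) (g₂ : R₂ ⟶ T)
    [LocallyOfFiniteType g₁] [IsSeparated g₁] [QuasiCompact g₁]
    [LocallyOfFiniteType g₂] [IsSeparated g₂] [QuasiCompact g₂]
    (t : T) (ht : ∀ t' : T, t' ⤳ t → t' = t)
    (hq₁ : ∀ r, g₁ r = t → ∃ W : R₁.Opens, r ∈ W ∧ LocallyQuasiFinite (W.ι ≫ g₁) ∧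
      LocallyOfFiniteType (W.ι ≫ g₁))
    (hq₂ : ∀ r, g₂ r = t → ∃ W : R₂.Opens, r ∈ W ∧ LocallyQuasiFinite (W.ι ≫ g₂) ∧
      LocallyOfFiniteType (W.ι ≫ g₂)) :
    ∃ (T' : Scheme.{u}) (e : T' ⟶ T) (t' : T'), IsAffine T' ∧ Etale e ∧ e t' = t ∧
      IsFinite (pullback.snd g₁ e) ∧ IsFinite (pullback.snd g₂ e) := by
  obtain ⟨T₁, e₁, t₁, -, he₁, het₁, hf₁⟩ := gf_sch g₁ t ht hq₁
  obtain ⟨T₂, e₂, t₂, -, he₂, het₂, hf₂⟩ := gf_sch g₂ t ht hq₂
  haveI := he₁
  haveI := he₂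
  haveI := hf₁
  haveI := hf₂
  obtain ⟨z, hz1, hz2⟩ := Scheme.Pullback.exists_preimage_pullback t₁ t₂ (het₁.trans het₂.symm)
  obtain ⟨T', hT', hzT', -⟩ := exists_isAffineOpen_mem_and_subset (x := z) (U := ⊤) trivial
  obtain ⟨e, he⟩ : ∃ e : (↑T' : Scheme.{u}) ⟶ T, e = T'.ι ≫ pullback.fst e₁ e₂ ≫ e₁ := ⟨_, rfl⟩
  haveI : Etale e := by rw [he]; infer_instance
  refine ⟨T', e, ⟨z, hzT'⟩, hT', inferInstance, ?_,
    isFinite_snd_of_factor g₁ e₁ (T'.ι ≫ pullback.fst e₁ e₂) e (by rw [he, Category.assoc]),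
    isFinite_snd_of_factor g₂ e₂ (T'.ι ≫ pullback.snd e₁ e₂) e
      (by rw [he, Category.assoc, pullback.condition])⟩
  rw [he, Scheme.Hom.comp_apply, Scheme.Hom.comp_apply]
  have h2 : T'.ι ⟨z, hzT'⟩ = z := rfl
  rw [h2, hz1, het₁]

end Groth.Agent.Lib.AlgSpGenFinH6
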