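import Mathlib
import Groth.Agent.Lib.AlgSpGenFin_helper6
import Groth.Agent.Lib.AlgSpDescent2_helper7
import Groth.Agent.Lib.AlgSpQfLocus_helper7

/-!
# Generic finiteness at points of codimension zero for algebraic spaces (helper6)
-/

set_option autoImplicit false
universe u
open CategoryTheory CategoryTheory.Limits AlgebraicGeometry Opposite TopologicalSpace

namespace Groth.Agent.Lib.AlgSpGenFin2H6

open AlgSp Groth.Agent.Lib.AlgSpPoints_helper7 Groth.Agent.Lib.AlgSpOpenSub_helper7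
  Groth.Agent.Lib.AlgSpPullback_helper7 Groth.Agent.Lib.AlgSpIso_helper7
  Groth.Agent.Lib.AlgSpBasic_helper7 Groth.Agent.Lib.AlgSpDescent_helper7
  Groth.Agent.Lib.AlgSpSmST_helper7 Groth.Agent.Lib.AlgSpSep_helper7
  Groth.Agent.Lib.AlgSpUnram_helper7 Groth.Agent.Lib.AlgSpQC2_helper7
  Groth.Agent.Lib.AlgSpFinDescH6 Groth.Agent.Lib.AlgSpProper_helper7
  Groth.Agent.Lib.ElemDistSq_helper7 Groth.Agent.Lib.AlgSpEtSplitH6
  Groth.Agent.Lib.AlgSpEtSplit2H6 Groth.Agent.Lib.AlgSpOpen_helper7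
  Groth.Agent.Lib.AlgSpQC_helper7 Groth.Agent.Lib.AlgSpQfFinH7
  Groth.Agent.Lib.AlgSpPropFinH6 Groth.Agent.Lib.AlgSpGenFinH6
  Groth.Agent.Lib.AlgSpCodim0_helper6 Groth.Agent.Lib.AlgSpDescent2_helper7
  Groth.Agent.Lib.AlgSpEtale_helper7

variable {S : Scheme.{u}}

/-- The relation chart of an étale chart `a : W ⟶ P` of a space over a scheme `Z`. -/
theorem exists_rel_chart {P : Sp S} {Z W : Over S} (q : P ⟶ (yon S).obj Z)
    (Q : MorphismProperty Scheme.{u}) (hq : RepWith Q (pullback.diagonal q))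
    (a : (yon S).obj W ⟶ P) (hae : RepWith @Etale a) (has : RepWith @Surjective a)
    (i : W ⟶ Z) (hi : (yon S).map i = a ≫ q) :
    ∃ (W2 E : Over S) (a' b' : W2 ⟶ W) (r : (yon S).obj W2 ⟶ pullback q q) (ρ : E ⟶ W2)
      (fstE : (yon S).obj E ⟶ P),
      r ≫ pullback.fst q q = (yon S).map a' ≫ a ∧
      IsPullback a'.left b'.left i.left i.left ∧ RepWith @Etale r ∧ RepWith @Surjective r ∧
      IsPullback fstE ((yon S).map ρ) (pullback.diagonal q) r ∧ Q ρ.left ∧
      Etale (ρ ≫ a').left ∧ Mono ρ.left := by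
  have hZ := IsAlgSpace.yon_obj Z
  obtain ⟨W2, a', b', r, hr1, hr2, sqW, hrQ⟩ :=
    exists_chart_of_isPullback hZ.diag (IsPullback.of_hasPullback q q) a a
  rw [← hi] at sqW
  have sqW' : IsPullback a'.left b'.left i.left i.left := isPullback_left_of_isPullback_yon sqW
  obtain ⟨E, ρ, fstE, sqE, hρ⟩ : ∃ (E : Over S) (ρ : E ⟶ W2) (fstE : (yon S).obj E ⟶ P),
      IsPullback fstE ((yon S).map ρ) (pullback.diagonal q) r ∧ Q ρ.left :=
    ⟨_, hq.rep.snd r, hq.rep.fst r, hq.rep.isPullback r, hq.property_snd r⟩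
  obtain ⟨s, hs⟩ : ∃ s : E ⟶ W, s = ρ ≫ a' := ⟨_, rfl⟩
  obtain ⟨t, ht⟩ : ∃ t : E ⟶ W, t = ρ ≫ b' := ⟨_, rfl⟩
  have hfst1 : (yon S).map s ≫ a = fstE := by
    rw [hs, Functor.map_comp, Category.assoc, ← hr1, ← Category.assoc, ← sqE.w, Category.assoc,
      pullback.diagonal_fst, Category.comp_id]
  have hfst2 : (yon S).map t ≫ a = fstE := by
    rw [ht, Functor.map_comp, Category.assoc, ← hr2, ← Category.assoc, ← sqE.w, Category.assoc,
      pullback.diagonal_snd, Category.comp_id]
  have kp : IsPullback ((yon S).map s) ((yon S).map t) a a := by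
    refine isPullback_of_forall_yon (hfst1.trans hfst2.symm) ?_
    intro T x y hxy
    have hβw : x ≫ (yon S).map i = y ≫ (yon S).map i := by
      rw [hi, ← Category.assoc, hxy, Category.assoc]
    obtain ⟨β, hβ1, hβ2⟩ : ∃ β : (yon S).obj T ⟶ (yon S).obj W2,
        β ≫ (yon S).map a' = x ∧ β ≫ (yon S).map b' = y :=
      ⟨sqW.lift x y hβw, sqW.lift_fst _ _ _, sqW.lift_snd _ _ _⟩
    have hc : (x ≫ a) ≫ pullback.diagonal q = β ≫ r := by
      apply pullback.hom_ext
      · rw [Category.assoc, pullback.diagonal_fst, Category.comp_id, Category.assoc, hr1,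
          ← Category.assoc, hβ1]
      · rw [Category.assoc, pullback.diagonal_snd, Category.comp_id, Category.assoc, hr2,
          ← Category.assoc, hβ2, hxy]
    refine ⟨sqE.lift (x ≫ a) β hc, ⟨?_, ?_⟩, ?_⟩
    · rw [hs, Functor.map_comp, ← Category.assoc, sqE.lift_snd, hβ1]
    · rw [ht, Functor.map_comp, ← Category.assoc, sqE.lift_snd, hβ2]
    · rintro l ⟨hl1, hl2⟩
      apply sqE.hom_ext
      · rw [sqE.lift_fst, ← hfst1, ← Category.assoc, hl1]
      · rw [sqE.lift_snd]
        apply sqW.hom_ext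
        · rw [Category.assoc, ← Functor.map_comp, ← hs, hl1, hβ1]
        · rw [Category.assoc, ← Functor.map_comp, ← ht, hl2, hβ2]
  have hse : Etale s.left := hae.property _ _ _ kp.flip
  haveI : Mono ((yon S).map ρ) := sqE.mono_snd_of_mono
  haveI : Mono ρ := Functor.mono_of_mono_map (yon S) inferInstance
  refine ⟨W2, E, a', b', r, ρ, fstE, hr1, sqW', hrQ @Etale hae hae, hrQ @Surjective has has,
    sqE, hρ, ?_, inferInstance⟩
  rw [← hs]
  exact hse

/-- From an étale chart over which the base change is finite to an open neighbourhood. -/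
theorem exists_finite_nhd_of_chart {X Y : Space S} (f : X ⟶ Y) (y : Points Y.obj)
    (T : Over S) (a : (yon S).obj T ⟶ Y.obj) (t : ↥T.left) (hae : RepWith @Etale a)
    (hat : Points.ofPt a t = y)
    (hfin : ∀ (P : Space S) (prX : P.obj ⟶ X.obj) (prU : P.obj ⟶ (yon S).obj T),
        IsPullback prX prU f.hom a → IsFiniteMor prU) :
    ∃ (V : Space S) (j : V ⟶ Y), RepWith @IsOpenImmersion j.hom ∧
      y ∈ Set.range (Points.map j.hom) ∧
        ∀ (P : Space S) (fst : P ⟶ X) (snd : P ⟶ V), IsPullback fst.hom snd.hom f.hom j.hom →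
          IsFiniteMor snd.hom := by
  let Wset : Set (Points Y.obj) := Set.range (Points.ofPt a)
  have hWo : IsOpen Wset := (isOpenMap_ofPt_of_etale a hae).isOpen_range
  let V : Space S := ⟨openSub Y.obj Wset, isAlgSpace_openSub Y.property hWo⟩
  let j : V ⟶ Y := ObjectProperty.homMk (openSubι Y.obj Wset)
  have hj : RepWith @IsOpenImmersion j.hom := repWith_isOpenImmersion_openSubι hWo
  have hrange : Set.range (Points.map j.hom) = Wset := range_map_openSubι Y.property hWo
  obtain ⟨a', ha', ha'e, ha's⟩ := exists_factor_chart a hae j.hom hj (by rw [hrange])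
  have ha's' : RepWith @Surjective a' := ha's (by rw [hrange])
  refine ⟨V, j, hj, ?_, ?_⟩
  · rw [hrange]
    exact ⟨t, hat⟩
  · intro P fst snd sq
    have hcov : IsFpqcCover (fun _ : PUnit.{u+1} => (yon S).obj T) (fun _ => a') := by
      apply Groth.Agent.Lib.AlgSpFpqc3_helper7.isFpqcCover_of_isFppfCover V.property _ _
        (fun _ => IsAlgSpace.yon_obj T)
      refine ⟨fun _ => ⟨?_, ?_⟩, fun x => ⟨PUnit.unit, ?_⟩⟩
      · exact Groth.Agent.Lib.AlgSpLocP_helper7.locP_of_repWith @Flat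
          (fun _ _ g hg => by haveI : Etale g := hg; exact (inferInstance : Flat g)) a'
          (repWith_mono (fun _ _ g hg => by
            haveI : Etale g := hg; exact (inferInstance : Flat g)) ha'e)
      · exact Groth.Agent.Lib.AlgSpLocP_helper7.locP_of_repWith @LocallyOfFinitePresentation
          (fun _ _ g hg => by
            haveI : Etale g := hg; exact (inferInstance : LocallyOfFinitePresentation g)) a'
          (repWith_mono (fun _ _ g hg => by
            haveI : Etale g := hg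
            exact (inferInstance : LocallyOfFinitePresentation g)) ha'e)
      · obtain ⟨u, hu⟩ := ofPt_surjective a' ha's' x
        exact ⟨Points.ofScheme T u, by rw [← Points.ofPt_eq_map_ofScheme]; exact hu⟩
    have sqQ := IsPullback.of_hasPullback snd.hom a'
    have hQ : IsAlgSpace (pullback snd.hom a') :=
      isAlgSpace_of_isPullback V.property.diag P.property (IsAlgSpace.yon_obj T) sqQ
    have key := Groth.Agent.Lib.AffDescH7.isLocalOnBase_fpqc_isFiniteMor (S := S)
      (fun _ : PUnit.{u+1} => (yon S).obj T) (fun _ => a')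
      V.property (fun _ => IsAlgSpace.yon_obj T) hcov snd.hom P.property
      (fun _ => pullback snd.hom a') (fun _ => pullback.snd snd.hom a')
      (fun _ => pullback.fst snd.hom a') (fun _ => hQ) (fun _ => sqQ)
    rw [key]
    intro _
    refine hfin ⟨pullback snd.hom a', hQ⟩ (pullback.fst snd.hom a' ≫ fst.hom)
      (pullback.snd snd.hom a') ?_
    have h2 := sqQ.paste_horiz sq
    rw [ha'] at h2
    exact h2

open Groth.Agent.Lib.AlgSpQfLocusH7 Groth.Agent.Lib.UnramLocH7 in
/-- A quasi-separated morphism of finite type, quasi-finite at all points over a point `y` of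
codimension zero, becomes finite after base change to an étale neighbourhood of `y`. -/
theorem exists_finite_chart_codimZero {X Y : Space S} (f : X ⟶ Y) (y : Points Y.obj)
    (hqs : IsQuasiSeparatedMor f.hom) (hft : IsFiniteTypeMor f.hom)
    (hy : HasAt (fun U u => ringKrullDim ↥(U.presheaf.stalk u) = 0) Y.obj y)
    (hq : ∀ x : Points X.obj, Points.map f.hom x = y → HasAtMor QQ f.hom x) :
    ∃ (T : Over S) (a : (yon S).obj T ⟶ Y.obj) (t : ↥T.left), RepWith @Etale a ∧
      Points.ofPt a t = y ∧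
      ∀ (P : Space S) (prX : P.obj ⟶ X.obj) (prU : P.obj ⟶ (yon S).obj T),
        IsPullback prX prU f.hom a → IsFiniteMor prU := by
  classical
  obtain ⟨hf1, hfqc⟩ := hft
  -- an affine chart through a point without generizations
  obtain ⟨Uy, ay, uy, haye, huy, hdim⟩ := hy
  rw [ringKrullDim_stalk_eq_zero_iff] at hdim
  obtain ⟨U₀, hU₀, huU₀, -⟩ := exists_isAffineOpen_mem_and_subset (x := uy) (U := ⊤) trivial
  let V₁ : Over S := Over.mk (U₀.ι ≫ Uy.hom)
  let ι₁ : V₁ ⟶ Uy := Over.homMk U₀.ι rfl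
  haveI hV₁ : IsAffine V₁.left := hU₀
  have hι₁e : Etale ι₁.left := (inferInstance : Etale U₀.ι)
  let b₁ : (yon S).obj V₁ ⟶ Y.obj := (yon S).map ι₁ ≫ ay
  have hb₁ : RepWith @Etale b₁ := repWith_comp _ ((repWith_yon_map_iff @Etale ι₁).2 hι₁e) haye
  let y₁ : ↥V₁.left := (⟨uy, huU₀⟩ : U₀)
  have hy₁ : Points.ofPt b₁ y₁ = y := by
    show Points.ofPt ((yon S).map ι₁ ≫ ay) y₁ = y
    rw [ofPt_comp]
    exact huy
  have hy₁no : ∀ v : ↥V₁.left, v ⤳ y₁ → v = y₁ :=
    no_gen_of_etale U₀.ι (⟨uy, huU₀⟩ : U₀) hdim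
  -- base change to the chart
  have sq₁ := IsPullback.of_hasPullback f.hom b₁
  have hP₁ : IsAlgSpace (pullback f.hom b₁) :=
    isAlgSpace_of_isPullback Y.property.diag X.property (IsAlgSpace.yon_obj V₁) sq₁
  let P₁ : Space S := ⟨pullback f.hom b₁, hP₁⟩
  let q₁ : P₁.obj ⟶ (yon S).obj V₁ := pullback.snd f.hom b₁
  have hP₁qc : IsQuasiCompactSp P₁.obj :=
    hfqc (IsAlgSpace.yon_obj V₁) (isQuasiCompactSp_yon V₁) b₁ _ _ sq₁
  obtain ⟨U', c, hU'aff, hce, hcs⟩ := Groth.Agent.Lib.MonicGsectH6.exists_affine_atlas hP₁qc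
  haveI := hU'aff
  obtain ⟨h', hh'⟩ := (yon S).map_surjective (c ≫ q₁)
  have hcq : c ≫ q₁ = (yon S).map h' := hh'.symm
  let a₀ : (yon S).obj U' ⟶ X.obj := c ≫ pullback.fst f.hom b₁
  have ha₀e : RepWith @Etale a₀ := repWith_comp _ hce (repWith_fst_of_isPullback _ sq₁ hb₁)
  have comm₀ : a₀ ≫ f.hom = (yon S).map h' ≫ b₁ := by
    show (c ≫ pullback.fst f.hom b₁) ≫ f.hom = _
    rw [Category.assoc, pullback.condition, ← Category.assoc]
    show (c ≫ q₁) ≫ b₁ = _
    rw [hcq]
  haveI hlft : LocallyOfFiniteType h'.left := hf1 a₀ b₁ h' ha₀e hb₁ comm₀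
  have hq₁ : ∀ z : ↥U'.left, h'.left z = y₁ → ∃ W : U'.left.Opens, z ∈ W ∧
      LocallyQuasiFinite (W.ι ≫ h'.left) ∧ LocallyOfFiniteType (W.ι ≫ h'.left) := by
    intro z hz
    have hx : Points.map f.hom (Points.ofPt a₀ z) = y := by
      rw [Points.map_ofPt, comm₀, ofPt_comp, hz, hy₁]
    exact (hasAtMor_iff f a₀ b₁ h' z ha₀e hb₁ comm₀).1 (hq _ hx)
  -- the relation chart
  have hqs₁ : RepWith @QuasiCompact (pullback.diagonal q₁) :=
    isQuasiSeparatedMor_of_isPullback sq₁ hqs
  obtain ⟨W2, E, a', b', r, ρE, fstE, hr1, sqW', hre, hrs, sqE, hρqc, hse, hρmono⟩ :=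
    exists_rel_chart q₁ @QuasiCompact hqs₁ c hce hcs h' hcq.symm
  haveI := hρqc
  haveI := hse
  haveI := hρmono
  haveI hh'aff : IsAffineHom h'.left := inferInstance
  haveI ha'aff : IsAffineHom a'.left :=
    MorphismProperty.of_isPullback (P := @IsAffineHom) sqW'.flip hh'aff
  obtain ⟨w, hw⟩ : ∃ w : W2 ⟶ V₁, w = a' ≫ h' := ⟨_, rfl⟩
  have hwl : w.left = a'.left ≫ h'.left := by rw [hw]; rfl
  haveI hwaff : IsAffineHom w.left := by rw [hwl]; infer_instance
  have hρw : ρE.left ≫ w.left = (ρE ≫ a').left ≫ h'.left := by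
    rw [hwl, Over.comp_left, Category.assoc]
  haveI : LocallyOfFiniteType (ρE.left ≫ w.left) := by rw [hρw]; infer_instance
  haveI : IsSeparated (ρE.left ≫ w.left) := inferInstance
  haveI : QuasiCompact (ρE.left ≫ w.left) := inferInstance
  have hq₂ : ∀ z : ↥E.left, (ρE.left ≫ w.left) z = y₁ → ∃ W : E.left.Opens, z ∈ W ∧
      LocallyQuasiFinite (W.ι ≫ ρE.left ≫ w.left) ∧
      LocallyOfFiniteType (W.ι ≫ ρE.left ≫ w.left) := by
    intro z hz
    have hz' : h'.left ((ρE ≫ a').left z) = y₁ := by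
      rw [← Scheme.Hom.comp_apply, ← hρw]
      exact hz
    obtain ⟨W₀, hzW₀, h1, h2⟩ := hq₁ _ hz'
    haveI := h1
    haveI := h2
    refine ⟨(ρE ≫ a').left ⁻¹ᵁ W₀, hzW₀, ?_⟩
    have e1 : ((ρE ≫ a').left ⁻¹ᵁ W₀).ι ≫ ρE.left ≫ w.left =
        ((ρE ≫ a').left ∣_ W₀) ≫ W₀.ι ≫ h'.left := by
      rw [hρw, ← Category.assoc, ← morphismRestrict_ι, Category.assoc]
    rw [e1]
    haveI : Etale ((ρE ≫ a').left ∣_ W₀) := inferInstance
    haveI : LocallyQuasiFinite ((ρE ≫ a').left ∣_ W₀) := locallyQuasiFinite_of_unramified _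
    exact ⟨inferInstance, inferInstance⟩
  obtain ⟨T₀, e, t, hT₀aff, hee, het, hF1, hF2⟩ :=
    gf_sch2 h'.left (ρE.left ≫ w.left) y₁ hy₁no hq₁ hq₂
  haveI := hT₀aff
  haveI := hee
  -- the étale neighbourhood as an object over `S`
  let T' : Over S := Over.mk (e ≫ V₁.hom)
  let gT : T' ⟶ V₁ := Over.homMk e rfl
  let Q' : Over S := Over.mk (pullback.fst h'.left e ≫ U'.hom)
  let qU : Q' ⟶ U' := Over.homMk (pullback.fst h'.left e) rfl
  let qT : Q' ⟶ T' := Over.homMk (pullback.snd h'.left e) (by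
    show pullback.snd h'.left e ≫ e ≫ V₁.hom = pullback.fst h'.left e ≫ U'.hom
    rw [← pullback.condition_assoc, Over.w h'])
  have hqq : qU ≫ h' = qT ≫ gT := Over.OverMorphism.ext pullback.condition
  let a : (yon S).obj T' ⟶ Y.obj := (yon S).map gT ≫ b₁
  have hae : RepWith @Etale a := repWith_comp _ ((repWith_yon_map_iff @Etale gT).2 hee) hb₁
  have sqP := IsPullback.of_hasPullback f.hom a
  have hP : IsAlgSpace (pullback f.hom a) :=
    isAlgSpace_of_isPullback Y.property.diag X.property (IsAlgSpace.yon_obj T') sqP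
  let P : Space S := ⟨pullback f.hom a, hP⟩
  let prX : P.obj ⟶ X.obj := pullback.fst f.hom a
  let prU' : P.obj ⟶ (yon S).obj T' := pullback.snd f.hom a
  let ρ : P.obj ⟶ P₁.obj := pullback.lift prX (prU' ≫ (yon S).map gT)
    (by rw [Category.assoc]; exact sqP.w)
  have hρ1 : ρ ≫ pullback.fst f.hom b₁ = prX := pullback.lift_fst _ _ _
  have hρ2 : ρ ≫ q₁ = prU' ≫ (yon S).map gT := pullback.lift_snd _ _ _
  have sqρ : IsPullback ρ prU' q₁ ((yon S).map gT) := by
    refine IsPullback.of_right ?_ hρ2 sq₁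
    rw [hρ1]
    exact sqP
  have sqL : IsPullback qU.left qT.left h'.left gT.left := IsPullback.of_hasPullback h'.left e
  have sqO : IsPullback qU qT h' gT :=
    IsPullback.of_map (Over.forget S) (Over.OverMorphism.ext sqL.w) sqL
  have sqQ : IsPullback ((yon S).map qU) ((yon S).map qT) ((yon S).map h')
      ((yon S).map gT) := sqO.map (yon S)
  have wc : ((yon S).map qU ≫ c) ≫ q₁ = (yon S).map qT ≫ (yon S).map gT := by
    rw [Category.assoc, hcq, ← Functor.map_comp, ← Functor.map_comp, hqq]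
  let c' : (yon S).obj Q' ⟶ P.obj := sqρ.lift ((yon S).map qU ≫ c) ((yon S).map qT) wc
  have hc'1 : c' ≫ ρ = (yon S).map qU ≫ c := sqρ.lift_fst _ _ _
  have hc'2 : c' ≫ prU' = (yon S).map qT := sqρ.lift_snd _ _ _
  have sqc : IsPullback c' ((yon S).map qU) ρ c := by
    refine IsPullback.of_right ?_ hc'1 sqρ.flip
    rw [hc'2, hcq]
    exact sqQ.flip
  have hc'e : RepWith @Etale c' :=
    MorphismProperty.of_isPullback (P := RepWith @Etale) sqc.flip hce
  have hc's : RepWith @Surjective c' :=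
    MorphismProperty.of_isPullback (P := RepWith @Surjective) sqc.flip hcs
  -- separatedness over `T'`
  let W2' : Over S := Over.mk (pullback.fst w.left e ≫ W2.hom)
  let pW : W2' ⟶ W2 := Over.homMk (pullback.fst w.left e) rfl
  let pT : W2' ⟶ T' := Over.homMk (pullback.snd w.left e) (by
    show pullback.snd w.left e ≫ e ≫ V₁.hom = pullback.fst w.left e ≫ W2.hom
    rw [← pullback.condition_assoc, Over.w w])
  have hpWT : pW ≫ w = pT ≫ gT := Over.OverMorphism.ext pullback.condition
  have sqW2L : IsPullback pW.left pT.left w.left gT.left := IsPullback.of_hasPullback w.left e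
  have sqW2O : IsPullback pW pT w gT :=
    IsPullback.of_map (Over.forget S) (Over.OverMorphism.ext sqW2L.w) sqW2L
  have sqW2 : IsPullback ((yon S).map pW) ((yon S).map pT) ((yon S).map w)
      ((yon S).map gT) := sqW2O.map (yon S)
  have sqΔ := isPullback_diagonal_of_isPullback sqρ
  have sqB := isPullback_map_base sqρ
  have hrw : r ≫ pullback.fst q₁ q₁ ≫ q₁ = (yon S).map w := by
    rw [← Category.assoc, hr1, Category.assoc, hcq, ← Functor.map_comp, hw]
  let r' : (yon S).obj W2' ⟶ pullback prU' prU' :=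
    sqB.lift ((yon S).map pW ≫ r) ((yon S).map pT)
      (by rw [Category.assoc, hrw, ← Functor.map_comp, ← Functor.map_comp, hpWT])
  have hr'1 : r' ≫ pullback.map prU' prU' q₁ q₁ ρ ρ ((yon S).map gT) sqρ.w.symm sqρ.w.symm =
      (yon S).map pW ≫ r := sqB.lift_fst _ _ _
  have hr'2 : r' ≫ pullback.fst prU' prU' ≫ prU' = (yon S).map pT := sqB.lift_snd _ _ _
  have sqr' : IsPullback r' ((yon S).map pW)
      (pullback.map prU' prU' q₁ q₁ ρ ρ ((yon S).map gT) sqρ.w.symm sqρ.w.symm) r := by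
    refine IsPullback.of_right ?_ hr'1 sqB.flip
    rw [hr'2, hrw]
    exact sqW2.flip
  have hr'e : RepWith @Etale r' :=
    MorphismProperty.of_isPullback (P := RepWith @Etale) sqr'.flip hre
  have hr's : RepWith @Surjective r' :=
    MorphismProperty.of_isPullback (P := RepWith @Surjective) sqr'.flip hrs
  let E' : Over S := Over.mk (pullback.fst ρE.left pW.left ≫ E.hom)
  let pE : E' ⟶ E := Over.homMk (pullback.fst ρE.left pW.left) rfl
  let ρE' : E' ⟶ W2' := Over.homMk (pullback.snd ρE.left pW.left) (by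
    show pullback.snd ρE.left pW.left ≫ pW.left ≫ W2.hom =
      pullback.fst ρE.left pW.left ≫ E.hom
    rw [← pullback.condition_assoc, Over.w ρE])
  have hpEρ : pE ≫ ρE = ρE' ≫ pW := Over.OverMorphism.ext pullback.condition
  have sqE'L : IsPullback pE.left ρE'.left ρE.left pW.left :=
    IsPullback.of_hasPullback ρE.left pW.left
  have sqE'O : IsPullback pE ρE' ρE pW :=
    IsPullback.of_map (Over.forget S) (Over.OverMorphism.ext sqE'L.w) sqE'L
  have sqE'Y : IsPullback ((yon S).map pE) ((yon S).map ρE') ((yon S).map ρE)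
      ((yon S).map pW) := sqE'O.map (yon S)
  have wE : ((yon S).map ρE' ≫ r') ≫
      pullback.map prU' prU' q₁ q₁ ρ ρ ((yon S).map gT) sqρ.w.symm sqρ.w.symm =
      ((yon S).map pE ≫ fstE) ≫ pullback.diagonal q₁ := by
    rw [Category.assoc, hr'1, Category.assoc, sqE.w, ← Category.assoc, ← Category.assoc,
      sqE'Y.w]
  let fstE' : (yon S).obj E' ⟶ P.obj :=
    sqΔ.lift ((yon S).map ρE' ≫ r') ((yon S).map pE ≫ fstE) wE
  have hfstE'1 : fstE' ≫ pullback.diagonal prU' = (yon S).map ρE' ≫ r' := sqΔ.lift_fst _ _ _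
  have hfstE'2 : fstE' ≫ ρ = (yon S).map pE ≫ fstE := sqΔ.lift_snd _ _ _
  have sqE'' : IsPullback fstE' ((yon S).map ρE') (pullback.diagonal prU') r' := by
    refine IsPullback.of_right ?_ hfstE'1 sqΔ.flip
    rw [hfstE'2, hr'1]
    exact sqE'Y.paste_horiz sqE
  have hci : IsClosedImmersion ρE'.left := by
    have sq1 : IsPullback (pullback.fst ρE.left pW.left)
        (pullback.snd ρE.left pW.left ≫ pullback.snd w.left e) (ρE.left ≫ w.left) e :=
      (IsPullback.of_hasPullback ρE.left pW.left).paste_vert (IsPullback.of_hasPullback w.left e)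
    haveI := hF2
    haveI : IsFinite (pullback.snd ρE.left pW.left ≫ pullback.snd w.left e) := by
      rw [← sq1.isoPullback_hom_snd]
      infer_instance
    haveI : IsSeparated (pullback.snd w.left e) := inferInstance
    haveI : IsFinite (pullback.snd ρE.left pW.left) :=
      IsFinite.of_comp (pullback.snd ρE.left pW.left) (pullback.snd w.left e)
    haveI : Mono (pullback.snd ρE.left pW.left) := inferInstance
    show IsClosedImmersion (pullback.snd ρE.left pW.left)
    exact (IsClosedImmersion.iff_isFinite_and_mono _).2 ⟨inferInstance, inferInstance⟩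
  have hrep : Representable (pullback.diagonal prU') :=
    (isQuasiSeparatedMor_of_isPullback sqP hqs).rep
  have hsep : IsSeparatedMor prU' :=
    repWith_of_chart @IsClosedImmersion descendsEtale_isClosedImmersion (pullback.diagonal prU')
      hrep r' hr'e hr's fstE' ρE' sqE'' hci
  -- finiteness over `T'`
  have hfinP : IsFiniteMor prU' := by
    let Qs : Space S := (ofScheme S).obj Q'
    let p : Qs ⟶ P := ObjectProperty.homMk c'
    let prU : P ⟶ (ofScheme S).obj T' := ObjectProperty.homMk prU'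
    have hfq : IsFinite qT.left := hF1
    have h1 : IsFiniteMor (p ≫ prU).hom := by
      show IsFiniteMor (c' ≫ prU')
      rw [hc'2]
      exact isFiniteMor_of_repWith _ ((repWith_yon_map_iff @IsFinite qT).2 hfq)
    exact isFiniteMor_of_etale_surjective_precomp p prU (isEtaleMor_of_repWith' c' hc'e)
      (isSurjectiveMor_of_repWith c' hc's) hsep h1
  refine ⟨T', a, t, hae, ?_, ?_⟩
  · show Points.ofPt ((yon S).map gT ≫ b₁) t = y
    rw [ofPt_comp]
    show Points.ofPt b₁ (e t) = y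
    rw [het, hy₁]
  · intro P'' prX'' prU'' sq''
    have e1 : prU'' = (sq''.isoPullback).hom ≫ pullback.snd f.hom a := by
      rw [IsPullback.isoPullback_hom_snd]
    rw [e1]
    exact Groth.Agent.Lib.OfPshWith.isFiniteMor_comp _ _ (isFiniteMor_of_isIso _) hfinP

end Groth.Agent.Lib.AlgSpGenFin2H6
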