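import Groth.Agent.Lib.AlgSpUnramLocus_helper7
import Groth.Agent.Lib.AlgSpOpenSub_helper7

/-!
# The open subspace of the base over which a morphism is unramified (helper7)
-/

set_option autoImplicit false
universe u
open CategoryTheory CategoryTheory.Limits AlgebraicGeometry Opposite MorphismProperty
open AlgSp Groth.Agent.Lib.AlgSpQC2_helper7 Groth.Agent.Lib.AlgSpPoints_helper7
  Groth.Agent.Lib.AlgSpQC_helper7 Groth.Agent.Lib.AlgSpDiag_helper7 Groth.Agent.Lib.AlgSpTop_helper7
  Groth.Agent.Lib.AlgSpPullback_helper7 Groth.Agent.Lib.AlgSpSep_helper7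
  Groth.Agent.Lib.AlgSpLocP_helper7 Groth.Agent.Lib.AlgSpUniv_helper7
  Groth.Agent.Lib.AlgSpLocP4_helper7 Groth.Agent.Lib.AlgSpLocP7_helper7
  Groth.Agent.Lib.AlgSpOpenSub_helper7
  Groth.Agent.Lib.UnramLocH7 Groth.Agent.Lib.AlgSpUnramLocusH7

namespace Groth.Agent.Lib.AlgSpWhereUnramH7

variable {S : Scheme.{u}}

/-- A morphism whose points land in `W` factors through the open subspace on `W`. -/
theorem exists_lift_openSub_of_range {X Z' : Sp S} {W : Set (Points X)} (g : Z' ⟶ X)
    (hg : Set.range (Points.map g) ⊆ W) : ∃ k : Z' ⟶ openSub X W, k ≫ openSubι X W = g := by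
  have h : Subfunctor.range g.hom ≤ openSubfunctor X W := by
    rintro T _ ⟨z, rfl⟩ t
    have e : yE (T := T.unop).symm (g.hom.app T z) = yE.symm z ≫ g := by
      apply yE.injective
      rw [Equiv.apply_symm_apply, yE_comp, Equiv.apply_symm_apply]
    show Points.ofPt (yE (T := T.unop).symm (g.hom.app T z)) t ∈ W
    rw [e, ← Points.map_ofPt]
    exact hg ⟨_, rfl⟩
  refine ⟨ObjectProperty.homMk (Subfunctor.lift g.hom h), ?_⟩
  apply (sheafToPresheaf (J S) (Type (u + 1))).map_injective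
  exact Subfunctor.lift_ι g.hom h

/-- Unramified near every point implies unramified. -/
theorem locP_of_forall_hasAtMor {X Y : AlgSp.Space S} (f : X ⟶ Y)
    (h : ∀ x, HasAtMor QU f.hom x) : LocP PU f.hom := by
  intro U V a b k hae hbe comm
  have hn : ∀ u : ↥U.left, Near PU k.left u :=
    fun u => (hasAtMor_iff f a b k u hae hbe comm).mp (h _)
  choose O hO hPO using hn
  have hsup : iSup O = ⊤ :=
    top_le_iff.mp fun u _ => TopologicalSpace.Opens.mem_iSup.mpr ⟨u, hO u⟩
  exact ⟨IsZariskiLocalAtSource.of_iSup_eq_top (P := @LocallyOfFiniteType) O hsup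
      (fun u => (hPO u).1),
    IsZariskiLocalAtSource.of_iSup_eq_top (P := @FormallyUnramified) O hsup (fun u => (hPO u).2)⟩

/-- Unramified implies unramified near every point. -/
theorem hasAtMor_of_locP {X Y : AlgSp.Space S} (f : X ⟶ Y) (h : LocP PU f.hom)
    (x : Points X.obj) : HasAtMor QU f.hom x := by
  obtain ⟨U, V, a, b, k, u, hae, hbe, comm, hu⟩ := ResTrdegH8.exists_chart_diagram f x
  have hk : PU k.left := h a b k hae hbe comm
  have hk' : PU ((⊤ : U.left.Opens).ι ≫ k.left) :=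
    etLocal_unramified.precomp _ _ inferInstance hk
  exact ⟨U, V, a, b, k, u, hae, hbe, comm, hu, ⊤, trivial, hk'⟩

theorem where_unramified {X Y Z : AlgSp.Space S}
    (f : X ⟶ Y) (p : X ⟶ Z) (q : Y ⟶ Z) (hc : f ≫ q = p)
    (hp1 : AlgSp.LocP @LocallyOfFiniteType p.hom) (hp2 : AlgSp.IsClosedMor p.hom) :
    ∃ (W : AlgSp.Space S) (w : W ⟶ Z), AlgSp.RepWith @IsOpenImmersion w.hom ∧
      ∀ (Z' : AlgSp.Space S) (g : Z' ⟶ Z),
        (∃ k : Z' ⟶ W, k ≫ w = g) ↔
          ∀ (Y' : AlgSp.Space S) (gY : Y' ⟶ Y) (q' : Y' ⟶ Z'),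
            IsPullback gY.hom q'.hom q.hom g.hom →
            ∀ (X' : AlgSp.Space S) (gX : X' ⟶ X) (f' : X' ⟶ Y'),
              IsPullback gX.hom f'.hom f.hom gY.hom →
                AlgSp.LocP (@LocallyOfFiniteType ⊓ @FormallyUnramified) f'.hom := by
  have hcomm : f.hom ≫ q.hom = p.hom := by rw [← hc]; rfl
  have hf : LocP @LocallyOfFiniteType f.hom :=
    locP_lft_of_comp Z.property f.hom q.hom (by rw [hcomm]; exact hp1)
  have hTc : IsClosed {x : Points X.obj | ¬ HasAtMor QU f.hom x} := by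
    have := (isOpen_unramLocus f).isClosed_compl
    rwa [Set.compl_setOf] at this
  obtain ⟨W0, hW0def⟩ : ∃ W0 : Set (Points Z.obj),
      W0 = (Points.map p.hom '' {x : Points X.obj | ¬ HasAtMor QU f.hom x})ᶜ := ⟨_, rfl⟩
  have hW0 : IsOpen W0 := by
    rw [hW0def]; exact (hp2 _ hTc).isOpen_compl
  refine ⟨⟨openSub Z.obj W0, isAlgSpace_openSub Z.property hW0⟩,
    ObjectProperty.homMk (openSubι Z.obj W0), repWith_isOpenImmersion_openSubι hW0, ?_⟩
  intro Z' g
  have hfac : (∃ k : Z' ⟶ (⟨openSub Z.obj W0, isAlgSpace_openSub Z.property hW0⟩ : AlgSp.Space S),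
      k ≫ ObjectProperty.homMk (openSubι Z.obj W0) = g) ↔
      Set.range (Points.map g.hom) ⊆ W0 := by
    constructor
    · rintro ⟨k, rfl⟩ _ ⟨z, rfl⟩
      have hz : Points.map (k.hom ≫ openSubι Z.obj W0) z ∈
          Set.range (Points.map (openSubι Z.obj W0)) :=
        ⟨Points.map k.hom z, (Points.map_comp k.hom (openSubι Z.obj W0) z).symm⟩
      exact (range_map_openSubι Z.property hW0).subset hz
    · intro hr
      obtain ⟨k, hk⟩ := exists_lift_openSub_of_range g.hom hr
      exact ⟨ObjectProperty.homMk k, ObjectProperty.hom_ext _ hk⟩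
  rw [hfac]
  constructor
  · intro hr Y' gY q' sq1 X' gX f' sq2
    apply locP_of_forall_hasAtMor
    intro x'
    rw [unramLocus_baseChange f hf gY gX f' sq2 x']
    by_contra hcon
    have hmem : Points.map p.hom (Points.map gX.hom x') ∈ W0 := by
      have e0 : gX.hom ≫ p.hom = (f'.hom ≫ q'.hom) ≫ g.hom := by
        rw [← hcomm, ← Category.assoc, sq2.w, Category.assoc, sq1.w, Category.assoc]
      rw [← Points.map_comp, e0, Points.map_comp]
      exact hr ⟨_, rfl⟩
    rw [hW0def] at hmem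
    exact hmem ⟨_, hcon, rfl⟩
  · intro hall
    rintro _ ⟨z', rfl⟩
    rw [hW0def]
    intro hmem
    obtain ⟨x, hxT, hxz⟩ := hmem
    have sq1 := IsPullback.of_hasPullback q.hom g.hom
    have hY' : IsAlgSpace (pullback q.hom g.hom) :=
      isAlgSpace_of_isPullback Z.property.diag Y.property Z'.property sq1
    have sq2 := IsPullback.of_hasPullback f.hom (pullback.fst q.hom g.hom)
    have hX' : IsAlgSpace (pullback f.hom (pullback.fst q.hom g.hom)) :=
      isAlgSpace_of_isPullback Y.property.diag X.property hY' sq2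
    have hloc := hall ⟨_, hY'⟩ (ObjectProperty.homMk (pullback.fst q.hom g.hom))
      (ObjectProperty.homMk (pullback.snd q.hom g.hom)) sq1 ⟨_, hX'⟩
      (ObjectProperty.homMk (pullback.fst f.hom (pullback.fst q.hom g.hom)))
      (ObjectProperty.homMk (pullback.snd f.hom (pullback.fst q.hom g.hom))) sq2
    have sq3 : IsPullback (pullback.fst f.hom (pullback.fst q.hom g.hom))
        (pullback.snd f.hom (pullback.fst q.hom g.hom) ≫ pullback.snd q.hom g.hom)
        (f.hom ≫ q.hom) g.hom := sq2.paste_vert sq1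
    obtain ⟨x', hx'1, hx'2⟩ := exists_of_isPullback sq3 x z' (by rw [hcomm]; exact hxz)
    have h1 := hasAtMor_of_locP (X := ⟨_, hX'⟩) (Y := ⟨_, hY'⟩)
      (ObjectProperty.homMk (pullback.snd f.hom (pullback.fst q.hom g.hom))) hloc x'
    have key := unramLocus_baseChange (X' := ⟨_, hX'⟩) (Y' := ⟨_, hY'⟩) f hf
      (ObjectProperty.homMk (pullback.fst q.hom g.hom))
      (ObjectProperty.homMk (pullback.fst f.hom (pullback.fst q.hom g.hom)))
      (ObjectProperty.homMk (pullback.snd f.hom (pullback.fst q.hom g.hom))) sq2 x'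
    have h2 : HasAtMor QU f.hom x := by
      rw [← hx'1]; exact key.mp h1
    exact hxT h2

end Groth.Agent.Lib.AlgSpWhereUnramH7
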