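import Groth.Agent.Lib.AlgSpQfLocus_helper7
import Groth.Agent.Lib.AlgSpWhereUnram_helper7

/-!
# Quasi-finite locus: descent along arbitrary base change, openness, local characterisation (helper7)
-/

set_option autoImplicit false
universe u
open CategoryTheory CategoryTheory.Limits AlgebraicGeometry Opposite MorphismProperty
open AlgSp Groth.Agent.Lib.AlgSpPoints_helper7 Groth.Agent.Lib.AlgSpPullback_helper7
  Groth.Agent.Lib.AlgSpLocP4_helper7 Groth.Agent.Lib.AlgSpLocP7_helper7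
  Groth.Agent.Lib.UnramLocH7 Groth.Agent.Lib.AlgSpQfLocusH7

namespace Groth.Agent.Lib.AlgSpQfLocus2H7

theorem quasiFiniteAt_of_exists {U V : Scheme.{u}} (h : U ⟶ V) [LocallyOfFiniteType h] (u : U)
    (v : V) (hv : h u = v)
    (H : ∃ z : h.fiber v, h.fiberι v z = u ∧ IsOpen ({z} : Set (h.fiber v))) :
    h.QuasiFiniteAt u := by
  subst hv
  obtain ⟨z, hz, hzo⟩ := H
  have : z = h.asFiber u :=
    (h.fiberι _).isEmbedding.injective (by rw [hz, h.fiberι_asFiber])
  subst this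
  exact Scheme.Hom.quasiFiniteAt_iff_isOpen_singleton_asFiber.mpr hzo

theorem isOpenMap_of_isPullback_universallyOpen {A B C D : Scheme.{u}} {M : A ⟶ B} {a : A ⟶ C}
    {b : B ⟶ D} {c : C ⟶ D} (sq : IsPullback M a b c) [UniversallyOpen c] : IsOpenMap M := by
  haveI : UniversallyOpen M := MorphismProperty.of_isPullback sq.flip (inferInstance :
    UniversallyOpen c)
  exact Scheme.Hom.isOpenMap M

theorem exists_fiber_map {P X Y Z : Scheme.{u}} {fst : P ⟶ X} {snd : P ⟶ Y} {f : X ⟶ Z}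
    {g : Y ⟶ Z} (h : IsPullback fst snd f g) (y : Y) :
    ∃ M : snd.fiber y ⟶ f.fiber (g y), IsOpenMap M ∧
      M ≫ f.fiberι (g y) = snd.fiberι y ≫ fst := by
  have sqF := isPullback_fiberToSpecResidueField_of_isPullback h y
  refine ⟨pullback.map snd (Y.fromSpecResidueField y) f (Z.fromSpecResidueField (g y)) fst
    (Spec.map (g.residueFieldMap y)) g h.w.symm (by simp), ?_, ?_⟩
  · exact isOpenMap_of_isPullback_universallyOpen sqF
  · exact pullback.lift_fst _ _ _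

theorem quasiFiniteAt_of_isPullback {W U V V'' : Scheme.{u}} {aW : W ⟶ U} {κ : W ⟶ V''}
    {h : U ⟶ V} {φ : V'' ⟶ V} (sq : IsPullback aW κ h φ) [LocallyOfFiniteType h] (w : W)
    (hq : κ.QuasiFiniteAt w) : h.QuasiFiniteAt (aW w) := by
  haveI : LocallyOfFiniteType κ := MorphismProperty.of_isPullback sq inferInstance
  have hz := Scheme.Hom.quasiFiniteAt_iff_isOpen_singleton_asFiber.mp hq
  obtain ⟨M, hMo, hMι⟩ := exists_fiber_map sq (κ w)
  have hv : h (aW w) = φ (κ w) := by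
    rw [← Scheme.Hom.comp_apply, sq.w, Scheme.Hom.comp_apply]
  refine quasiFiniteAt_of_exists h (aW w) (φ (κ w)) hv ⟨M (κ.asFiber w), ?_, ?_⟩
  · rw [← Scheme.Hom.comp_apply, hMι, Scheme.Hom.comp_apply, Scheme.Hom.fiberι_asFiber]
  · rw [← Set.image_singleton]
    exact hMo _ hz

theorem near_pq_iff {U V : Scheme.{u}} (h : U ⟶ V) [LocallyOfFiniteType h] (u : U) :
    Near PQ h u ↔ h.QuasiFiniteAt u := by
  rw [← LqfLocusH8.fibreDimAt_eq_zero_iff_quasiFiniteAt, ← LqfLocusH8.exists_opens_lqf_iff]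
  exact Iff.rfl

theorem near_pq_of_near_isPullback {W U V V'' : Scheme.{u}} {aW : W ⟶ U} {κ : W ⟶ V''}
    {h : U ⟶ V} {φ : V'' ⟶ V} (sq : IsPullback aW κ h φ) [LocallyOfFiniteType h] (w : W)
    (hn : Near PQ κ w) : Near PQ h (aW w) := by
  haveI : LocallyOfFiniteType κ := MorphismProperty.of_isPullback sq inferInstance
  rw [near_pq_iff] at hn ⊢
  exact quasiFiniteAt_of_isPullback sq w hn

variable {S : Scheme.{u}}

theorem qfLocus_baseChange_iff {X Y Y' X' : AlgSp.Space S} (f : X ⟶ Y)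
    (hf : LocP @LocallyOfFiniteType f.hom) (g : Y' ⟶ Y) (g' : X' ⟶ X) (f' : X' ⟶ Y')
    (sq : IsPullback g'.hom f'.hom f.hom g.hom) (x' : Points X'.obj) :
    HasAtMor QQ f'.hom x' ↔ HasAtMor QQ f.hom (Points.map g'.hom x') := by
  obtain ⟨U, V, a, b, h, u, hae, hbe, comm, hu⟩ :=
    ResTrdegH8.exists_chart_diagram f (Points.map g'.hom x')
  obtain ⟨W, V'', r, b'', κ, aW, φ, w, hre, hb''e, comm'', hw, haw, sqL, -, -⟩ :=
    BCChartH8.exists_bc_chart f g g' f' sq x' a b h u hae hbe comm hu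
  haveI : LocallyOfFiniteType h.left := hf a b h hae hbe comm
  rw [← hu, ← hw, hasAtMor_iff f a b h u hae hbe comm, hasAtMor_iff f' r b'' κ w hre hb''e comm'',
    ← haw]
  exact ⟨near_pq_of_near_isPullback sqL w, near_baseChange sqL w⟩

theorem isOpen_qfLocus {X Y : AlgSp.Space S} (f : X ⟶ Y) :
    IsOpen {x : Points X.obj | HasAtMor QQ f.hom x} := by
  rw [isOpen_iff_forall_mem_open]
  rintro x ⟨U, V, a, b, h, u, hae, hbe, comm, hu, O, hO, hP⟩
  refine ⟨Points.ofPt a '' (O : Set ↥U.left), ?_, isOpenMap_ofPt_of_etale a hae _ O.2,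
    ⟨u, hO, hu⟩⟩
  rintro _ ⟨u', hu', rfl⟩
  exact ⟨U, V, a, b, h, u', hae, hbe, comm, rfl, O, hu', hP⟩

theorem locP_of_forall_hasAtMor {X Y : AlgSp.Space S} (f : X ⟶ Y)
    (h : ∀ x, HasAtMor QQ f.hom x) : LocP PQ f.hom := by
  intro U V a b k hae hbe comm
  have hn : ∀ u : ↥U.left, Near PQ k.left u :=
    fun u => (hasAtMor_iff f a b k u hae hbe comm).mp (h _)
  choose O hO hPO using hn
  have hsup : iSup O = ⊤ :=
    top_le_iff.mp fun u _ => TopologicalSpace.Opens.mem_iSup.mpr ⟨u, hO u⟩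
  exact ⟨IsZariskiLocalAtSource.of_iSup_eq_top (P := @LocallyQuasiFinite) O hsup
      (fun u => (hPO u).1),
    IsZariskiLocalAtSource.of_iSup_eq_top (P := @LocallyOfFiniteType) O hsup (fun u => (hPO u).2)⟩

theorem hasAtMor_of_locP {X Y : AlgSp.Space S} (f : X ⟶ Y) (h : LocP PQ f.hom)
    (x : Points X.obj) : HasAtMor QQ f.hom x := by
  obtain ⟨U, V, a, b, k, u, hae, hbe, comm, hu⟩ := ResTrdegH8.exists_chart_diagram f x
  have hk : PQ k.left := h a b k hae hbe comm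
  have hk' : PQ ((⊤ : U.left.Opens).ι ≫ k.left) :=
    etLocal_locallyQuasiFinite.precomp _ _ inferInstance hk
  exact ⟨U, V, a, b, k, u, hae, hbe, comm, hu, ⊤, trivial, hk'⟩

end Groth.Agent.Lib.AlgSpQfLocus2H7
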