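import Mathlib
import Groth.Prelude.Def_AlgSpCov
import Groth.Agent.Lib.AlgSpOpenSub_helper7
import Groth.Agent.Lib.AlgSpDescent2_helper7

/-!
# Zariski locally quasi-compact étale atlases (helper7)
-/

set_option autoImplicit false
universe u
open CategoryTheory CategoryTheory.Limits AlgebraicGeometry Opposite
open AlgSp Groth.Agent.Lib.AlgSpPoints_helper7 Groth.Agent.Lib.AlgSpPullback_helper7
  Groth.Agent.Lib.AlgSpOpenSub_helper7 Groth.Agent.Lib.AlgSpDescent_helper7
  Groth.Agent.Lib.AlgSpDescent2_helper7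

namespace Groth.Agent.Lib.ZarQcAtlas_helper7

theorem isPullback_comp_mono_iff {C : Type*} [Category C] {P A B X Y : C} (fst : P ⟶ A)
    (snd : P ⟶ B) (f : A ⟶ X) (g : B ⟶ X) (m : X ⟶ Y) [Mono m] :
    IsPullback fst snd (f ≫ m) (g ≫ m) ↔ IsPullback fst snd f g := by
  constructor
  · intro sq
    have w : fst ≫ f = snd ≫ g := by
      rw [← cancel_mono m, Category.assoc, Category.assoc, sq.w]
    refine ⟨⟨w⟩, ⟨PullbackCone.IsLimit.mk w
      (fun s => sq.lift s.fst s.snd (by rw [← Category.assoc, s.condition, Category.assoc]))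
      (fun s => sq.lift_fst _ _ _) (fun s => sq.lift_snd _ _ _)
      (fun s l h1 h2 => sq.hom_ext (by rw [h1, sq.lift_fst]) (by rw [h2, sq.lift_snd]))⟩⟩
  · intro sq
    have w : fst ≫ f ≫ m = snd ≫ g ≫ m := by
      rw [← Category.assoc, sq.w, Category.assoc]
    refine ⟨⟨w⟩, ⟨PullbackCone.IsLimit.mk w
      (fun s => sq.lift s.fst s.snd (by
        rw [← cancel_mono m, Category.assoc, Category.assoc]
        exact s.condition))
      (fun s => sq.lift_fst _ _ _) (fun s => sq.lift_snd _ _ _)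
      (fun s l h1 h2 => sq.hom_ext (by rw [h1, sq.lift_fst]) (by rw [h2, sq.lift_snd]))⟩⟩

variable {S : Scheme.{u}}

theorem main (X : AlgSp.Space S) :
    (∃ (ι : Type u) (Xi : ι → AlgSp.Space S) (j : ∀ i, Xi i ⟶ X) (U : ι → Over S)
        (a : ∀ i, (AlgSp.yon S).obj (U i) ⟶ (Xi i).obj),
        AlgSp.IsZarCover (fun i => (Xi i).obj) (fun i => (j i).hom) ∧
          ∀ i, AlgSp.RepWith @Etale (a i) ∧ AlgSp.RepWith @Surjective (a i) ∧
            AlgSp.RepWith @QuasiCompact (a i)) ↔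
      ∃ (ι : Type u) (U : ι → Over S) (φ : ∀ i, (AlgSp.yon S).obj (U i) ⟶ X.obj),
        (∀ i, AlgSp.RepWith @Etale (φ i)) ∧
          (∀ x : AlgSp.Points X.obj, ∃ (i : ι) (v : ↥(U i).left),
            AlgSp.Points.ofPt (φ i) v = x) ∧
          ∀ (i : ι) (R : Over S) (s t : R ⟶ U i),
            IsPullback ((AlgSp.yon S).map t) ((AlgSp.yon S).map s) (φ i) (φ i) →
            QuasiCompact s.left ∧ QuasiCompact t.left := by
  constructor
  · rintro ⟨ι, Xi, j, U, a, ⟨hjo, hjs⟩, ha⟩
    refine ⟨ι, U, fun i => a i ≫ (j i).hom, fun i => ?_, fun x => ?_, fun i R s t sq => ?_⟩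
    · exact repWith_comp @Etale (ha i).1 (repWith_etale_of_openImmersion (hjo i))
    · obtain ⟨i, x', rfl⟩ := hjs x
      obtain ⟨v, rfl⟩ := ofPt_surjective (a i) (ha i).2.1 x'
      exact ⟨i, v, (Points.map_ofPt (a i) (j i).hom v).symm⟩
    · haveI : Mono (j i).hom := mono_of_openImmersion _ (hjo i)
      have sq' : IsPullback ((yon S).map t) ((yon S).map s) (a i) (a i) :=
        (isPullback_comp_mono_iff _ _ _ _ (j i).hom).1 sq
      exact ⟨(ha i).2.2.property (a i) _ s sq', (ha i).2.2.property (a i) _ t sq'.flip⟩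
  · rintro ⟨ι, U, φ, hφ, hsurj, hqc⟩
    have hopen : ∀ i, IsOpen (Set.range (Points.ofPt (φ i))) :=
      fun i => (isOpenMap_ofPt_of_etale (φ i) (hφ i)).isOpen_range
    choose Xi j hjo hjr using fun i => exists_openSubspace X _ (hopen i)
    have hfac := fun i => exists_factor_chart (φ i) (hφ i) (j i).hom (hjo i) (hjr i).ge
    choose a haj hae has using hfac
    refine ⟨ι, Xi, j, U, a, ⟨hjo, fun x => ?_⟩, fun i => ⟨hae i, has i (hjr i).le, ?_⟩⟩
    · obtain ⟨i, v, rfl⟩ := hsurj x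
      refine ⟨i, ?_⟩
      rw [hjr i]
      exact ⟨v, rfl⟩
    · haveI : Mono (j i).hom := mono_of_openImmersion _ (hjo i)
      have sq := (hae i).rep.isPullback' (a i)
      have sq' : IsPullback ((yon S).map ((hae i).rep.fst' (a i)))
          ((yon S).map ((hae i).rep.snd (a i))) (φ i) (φ i) := by
        rw [← haj i]
        exact (isPullback_comp_mono_iff _ _ _ _ (j i).hom).2 sq
      exact repWith_of_chart @QuasiCompact descendsEtale_quasiCompact (a i) (hae i).rep (a i)
        (hae i) (has i (hjr i).le) _ _ sq (hqc i _ _ _ sq').1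

end Groth.Agent.Lib.ZarQcAtlas_helper7
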