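import Mathlib
import Groth.Prelude.Def_AlgSpCov
import Groth.Agent.Lib.AlgSpOpenSub_helper7
import Groth.Agent.Lib.AlgSpDescent2_helper7
import Groth.Agent.Lib.AlgSpChart_helper7
import Groth.Agent.Lib.ZarQcAtlas_helper7

/-!
# Zariski locally quasi-separated algebraic spaces (helper7)
-/

set_option autoImplicit false
universe u
open CategoryTheory CategoryTheory.Limits AlgebraicGeometry Opposite TopologicalSpace
open AlgSp Groth.Agent.Lib.AlgSpPoints_helper7 Groth.Agent.Lib.AlgSpPullback_helper7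
  Groth.Agent.Lib.AlgSpOpenSub_helper7 Groth.Agent.Lib.AlgSpDescent_helper7
  Groth.Agent.Lib.AlgSpDescent2_helper7 Groth.Agent.Lib.AlgSpChart_helper7
  Groth.Agent.Lib.ZarQcAtlas_helper7

namespace Groth.Agent.Lib.ZarQSep_helper7

variable {S : Scheme.{u}}

/-- A fibre product of affine schemes over `S` both mapping into an affine open of `S` is
affine. -/
theorem isAffine_of_isPullback_of_range_subset {A B W : Scheme.{u}} [IsAffine A] [IsAffine B]
    (f : A ⟶ S) (g : B ⟶ S) (V : S.Opens) (hV : IsAffineOpen V)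
    (hf : Set.range f ⊆ (V : Set S)) (hg : Set.range g ⊆ (V : Set S))
    {pa : W ⟶ A} {pb : W ⟶ B} (sq : IsPullback pa pb f g) : IsAffine W := by
  haveI : IsAffine V.toScheme := hV
  have hf' : Set.range f ⊆ Set.range V.ι := by rw [Scheme.Opens.range_ι]; exact hf
  have hg' : Set.range g ⊆ Set.range V.ι := by rw [Scheme.Opens.range_ι]; exact hg
  obtain ⟨f', ef⟩ : ∃ f' : A ⟶ V.toScheme, f' ≫ V.ι = f :=
    ⟨IsOpenImmersion.lift V.ι f hf', IsOpenImmersion.lift_fac _ _ _⟩
  obtain ⟨g', eg⟩ : ∃ g' : B ⟶ V.toScheme, g' ≫ V.ι = g :=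
    ⟨IsOpenImmersion.lift V.ι g hg', IsOpenImmersion.lift_fac _ _ _⟩
  have sq' : IsPullback pa pb f' g' :=
    (isPullback_comp_mono_iff pa pb f' g' V.ι).1 (by rw [ef, eg]; exact sq)
  exact IsAffine.of_isIso sq'.isoPullback.hom

theorem range_subset_of_le {U : Over S} (O : U.left.Opens) (V : S.Opens)
    (hOV : O ≤ U.hom ⁻¹ᵁ V) : Set.range (O.ι ≫ U.hom) ⊆ (V : Set S) := by
  rintro _ ⟨x, rfl⟩
  rw [Scheme.Hom.comp_apply, Scheme.Opens.ι_apply]
  exact hOV x.2

/-- The open subspace which is the image of an étale chart, with the factored chart. -/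
theorem exists_sub_chart (Y : Space S) {U : Over S} (a : (yon S).obj U ⟶ Y.obj)
    (ha : RepWith @Etale a) :
    ∃ (Y' : Space S) (j' : Y' ⟶ Y) (a' : (yon S).obj U ⟶ Y'.obj),
      RepWith @IsOpenImmersion j'.hom ∧
      Set.range (Points.map j'.hom) = Set.range (Points.ofPt a) ∧
      a' ≫ j'.hom = a ∧ RepWith @Etale a' ∧ RepWith @Surjective a' := by
  obtain ⟨Y', j', hj, hr⟩ := exists_openSubspace Y _ (isOpenMap_ofPt_of_etale a ha).isOpen_range
  obtain ⟨a', h1, h2, h3⟩ := exists_factor_chart a ha j'.hom hj hr.ge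
  exact ⟨Y', j', a', hj, hr, h1, h2, h3 hr.le⟩

/-- A surjective étale chart from an affine scheme lying over an affine open of the base, to an
open subspace of a quasi-separated space, is quasi-compact. -/
theorem repWith_quasiCompact_of_quasiSeparated {Y Y' : Sp S} (hY : IsQuasiSeparatedSp Y)
    (j' : Y' ⟶ Y) [Mono j'] {U : Over S} [IsAffine U.left] (V : S.Opens) (hV : IsAffineOpen V)
    (hUV : Set.range U.hom ⊆ (V : Set S))
    (a' : (yon S).obj U ⟶ Y') (hae : RepWith @Etale a') (has : RepWith @Surjective a') :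
    RepWith @QuasiCompact a' := by
  have hY' : RepWith @QuasiCompact (Limits.diag Y) := hY
  have sq := hae.rep.isPullback' a'
  have sq' : IsPullback ((yon S).map (hae.rep.fst' a')) ((yon S).map (hae.rep.snd a'))
      (a' ≫ j') (a' ≫ j') := (isPullback_comp_mono_iff _ _ _ _ j').2 sq
  obtain ⟨W, pU, pV, r, ρ, sqW, -, -, -, -, sqD, -⟩ :=
    exists_fibreProduct_chart (a' ≫ j') (a' ≫ j') _ _ sq'
  haveI : IsAffine W.left :=
    isAffine_of_isPullback_of_range_subset U.hom U.hom V hV hUV hUV sqW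
  have hρ : QuasiCompact ρ.left := hY'.property r _ ρ sqD
  have hc : CompactSpace ↥(hae.rep.pullback a').left :=
    (HasAffineProperty.iff_of_isAffine (P := @QuasiCompact)).1 hρ
  have hs : QuasiCompact (hae.rep.snd a').left :=
    (HasAffineProperty.iff_of_isAffine (P := @QuasiCompact)).2 hc
  exact repWith_of_chart @QuasiCompact descendsEtale_quasiCompact a' hae.rep a' hae has _ _ sq hs

/-- An algebraic space with a surjective étale chart from an affine scheme lying over an affine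
open of the base, quasi-compact over an ambient space in which it is a subobject, is
quasi-separated. -/
theorem quasiSeparated_of_quasiCompact_chart {Y Y' : Sp S} (hY' : IsAlgSpace Y')
    (j' : Y' ⟶ Y) [Mono j'] {U : Over S} [IsAffine U.left] (V : S.Opens) (hV : IsAffineOpen V)
    (hUV : Set.range U.hom ⊆ (V : Set S))
    (a' : (yon S).obj U ⟶ Y') (hae : RepWith @Etale a') (has : RepWith @Surjective a')
    (hqc : RepWith @QuasiCompact (a' ≫ j')) : IsQuasiSeparatedSp Y' := by
  have sq := hae.rep.isPullback' a'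
  have sq' : IsPullback ((yon S).map (hae.rep.fst' a')) ((yon S).map (hae.rep.snd a'))
      (a' ≫ j') (a' ≫ j') := (isPullback_comp_mono_iff _ _ _ _ j').2 sq
  obtain ⟨W, pU, pV, r, ρ, sqW, -, -, -, -, sqD, hr⟩ :=
    exists_fibreProduct_chart a' a' _ _ sq
  haveI : IsAffine W.left :=
    isAffine_of_isPullback_of_range_subset U.hom U.hom V hV hUV hUV sqW
  have hs : QuasiCompact (hae.rep.snd a').left := hqc.property (a' ≫ j') _ _ sq'
  have hc : CompactSpace ↥(hae.rep.pullback a').left :=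
    (HasAffineProperty.iff_of_isAffine (P := @QuasiCompact)).1 hs
  have hρ : QuasiCompact ρ.left :=
    (HasAffineProperty.iff_of_isAffine (P := @QuasiCompact)).2 hc
  exact repWith_of_chart @QuasiCompact descendsEtale_quasiCompact (Limits.diag Y') hY'.diag r
    (hr _ hae hae) (hr _ has has) _ ρ sqD hρ

/-- Index type of the refined covering: affine opens of the charts lying over affine opens of
the base. -/
abbrev Idx {ι : Type u} (U : ι → Over S) : Type u :=
  Σ i : ι, {O : (U i).left.Opens //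
    IsAffineOpen O ∧ ∃ V : S.Opens, IsAffineOpen V ∧ O ≤ (U i).hom ⁻¹ᵁ V}

theorem exists_refinement (X : Space S) {ι : Type u} (Xi : ι → Space S) (j : ∀ i, Xi i ⟶ X)
    (hcov : IsZarCover (fun i => (Xi i).obj) (fun i => (j i).hom))
    (U : ι → Over S) (p : ∀ i, (yon S).obj (U i) ⟶ (Xi i).obj)
    (hpe : ∀ i, RepWith @Etale (p i)) (hps : ∀ i, RepWith @Surjective (p i)) :
    ∃ (Y' : Idx U → Space S) (j' : ∀ k : Idx U, Y' k ⟶ Xi k.1)
      (a' : ∀ k : Idx U, (yon S).obj (Over.mk (k.2.1.ι ≫ (U k.1).hom)) ⟶ (Y' k).obj),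
      IsZarCover (fun k => (Y' k).obj) (fun k => (j' k ≫ j k.1).hom) ∧
      ∀ k, RepWith @IsOpenImmersion (j' k).hom ∧
        a' k ≫ (j' k).hom = (yon S).map (Over.homMk k.2.1.ι rfl :
          Over.mk (k.2.1.ι ≫ (U k.1).hom) ⟶ U k.1) ≫ p k.1 ∧
        RepWith @Etale (a' k) ∧ RepWith @Surjective (a' k) := by
  have key : ∀ k : Idx U, ∃ (Y' : Space S) (j' : Y' ⟶ Xi k.1)
      (a' : (yon S).obj (Over.mk (k.2.1.ι ≫ (U k.1).hom)) ⟶ Y'.obj),
      RepWith @IsOpenImmersion j'.hom ∧
      Set.range (Points.map j'.hom) = Set.range (Points.ofPt ((yon S).map (Over.homMk k.2.1.ι rfl :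
          Over.mk (k.2.1.ι ≫ (U k.1).hom) ⟶ U k.1) ≫ p k.1)) ∧
      a' ≫ j'.hom = (yon S).map (Over.homMk k.2.1.ι rfl :
          Over.mk (k.2.1.ι ≫ (U k.1).hom) ⟶ U k.1) ≫ p k.1 ∧
      RepWith @Etale a' ∧ RepWith @Surjective a' :=
    fun k => exists_sub_chart (Xi k.1) _ (repWith_etale_restrict (p k.1) (hpe k.1) k.2.1)
  choose Y' j' a' hj'o hj'r haj hae has using key
  refine ⟨Y', j', a', ⟨fun k => ?_, fun x => ?_⟩, fun k => ⟨hj'o k, haj k, hae k, has k⟩⟩
  · show RepWith @IsOpenImmersion ((j' k).hom ≫ (j k.1).hom)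
    exact repWith_comp @IsOpenImmersion (hj'o k) (hcov.1 k.1)
  · obtain ⟨i, x', rfl⟩ := hcov.2 x
    obtain ⟨u, rfl⟩ := ofPt_surjective (p i) (hps i) x'
    obtain ⟨V, hVaff, huV, -⟩ := Opens.isBasis_iff_nbhd.1 S.isBasis_affineOpens
      (show (U i).hom u ∈ (⊤ : S.Opens) from trivial)
    have huV' : u ∈ (U i).hom ⁻¹ᵁ V := huV
    obtain ⟨O, hOaff, huO, hOV⟩ :=
      (Opens.isBasis_iff_nbhd.1 (U i).left.isBasis_affineOpens) huV'
    let k : Idx U := ⟨i, O, hOaff, V, hVaff, hOV⟩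
    have h1 : Points.ofPt (p i) u ∈ Set.range (Points.map (j' k).hom) := by
      rw [hj'r k]
      refine ⟨(⟨u, huO⟩ : O), ?_⟩
      rw [ofPt_comp]
      rfl
    obtain ⟨y', hy'⟩ := h1
    refine ⟨k, y', ?_⟩
    show Points.map ((j' k).hom ≫ (j i).hom) y' = _
    rw [Points.map_comp, hy']

theorem main (X : AlgSp.Space S) :
    (∃ (ι : Type u) (Xi : ι → AlgSp.Space S) (j : ∀ i, Xi i ⟶ X),
        AlgSp.IsZarCover (fun i => (Xi i).obj) (fun i => (j i).hom) ∧
          ∀ i, AlgSp.IsQuasiSeparatedSp (Xi i).obj) ↔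
      (∃ (ι : Type u) (Xi : ι → AlgSp.Space S) (j : ∀ i, Xi i ⟶ X),
        AlgSp.IsZarCover (fun i => (Xi i).obj) (fun i => (j i).hom) ∧
          ∀ i, ∃ (U : Over S) (p : (AlgSp.yon S).obj U ⟶ (Xi i).obj), IsAffine U.left ∧
            AlgSp.RepWith @QuasiCompact p ∧ AlgSp.RepWith @Etale p ∧
              AlgSp.RepWith @Surjective p) := by
  constructor
  · rintro ⟨ι, Xi, j, hcov, hqs⟩
    choose U p hpe hps using fun i => (Xi i).property.atlas
    obtain ⟨Y', j', a', hcov', h'⟩ := exists_refinement X Xi j hcov U p hpe hps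
    refine ⟨Idx U, Y', fun k => j' k ≫ j k.1, hcov', fun k => ?_⟩
    obtain ⟨hjo, haj, hae, has⟩ := h' k
    obtain ⟨hOaff, V, hV, hOV⟩ := k.2.2
    haveI : Mono (j' k).hom := mono_of_openImmersion _ hjo
    haveI : IsAffine (Over.mk (k.2.1.ι ≫ (U k.1).hom)).left := hOaff
    exact ⟨_, a' k, hOaff, repWith_quasiCompact_of_quasiSeparated (hqs k.1) (j' k).hom V hV
      (range_subset_of_le _ V hOV) (a' k) hae has, hae, has⟩
  · rintro ⟨ι, Xi, j, hcov, hch⟩
    choose U p hUaff hpqc hpe hps using hch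
    obtain ⟨Y', j', a', hcov', h'⟩ := exists_refinement X Xi j hcov U p hpe hps
    refine ⟨Idx U, Y', fun k => j' k ≫ j k.1, hcov', fun k => ?_⟩
    obtain ⟨hjo, haj, hae, has⟩ := h' k
    obtain ⟨hOaff, V, hV, hOV⟩ := k.2.2
    haveI : Mono (j' k).hom := mono_of_openImmersion _ hjo
    haveI : IsAffine (Over.mk (k.2.1.ι ≫ (U k.1).hom)).left := hOaff
    haveI : IsAffine (U k.1).left := hUaff k.1
    refine quasiSeparated_of_quasiCompact_chart (Y' k).property (j' k).hom V hV
      (range_subset_of_le _ V hOV) (a' k) hae has ?_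
    rw [haj]
    haveI hO : IsAffine k.2.1.toScheme := hOaff
    have hq : QuasiCompact k.2.1.ι :=
      (HasAffineProperty.iff_of_isAffine (P := @QuasiCompact)).2
        (inferInstance : CompactSpace k.2.1.toScheme)
    exact repWith_comp @QuasiCompact ((repWith_yon_map_iff @QuasiCompact _).2 hq) (hpqc k.1)

end Groth.Agent.Lib.ZarQSep_helper7
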