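import Mathlib
import Groth.Agent.Lib.AlgSpGenFin2_helper6
import Groth.Agent.Lib.AlgSpQfLocus2_helper7
import Groth.Agent.Lib.ZarQSep_helper7
import Groth.Agent.Lib.AlgSpEmbed_helper6
import Groth.Agent.Lib.AlgSpFEtDense_helper6
import Groth.Agent.Lib.AlgSpChart_helper7

/-!
# Finite fibres over a point of codimension zero (helper6)
-/

set_option autoImplicit false
universe u
open CategoryTheory CategoryTheory.Limits AlgebraicGeometry Opposite TopologicalSpace

namespace Groth.Agent.Lib.AlgSpGenFin3H6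

open AlgSp Groth.Agent.Lib.AlgSpPoints_helper7 Groth.Agent.Lib.AlgSpOpenSub_helper7
  Groth.Agent.Lib.AlgSpPullback_helper7 Groth.Agent.Lib.AlgSpIso_helper7
  Groth.Agent.Lib.AlgSpBasic_helper7 Groth.Agent.Lib.AlgSpDescent_helper7
  Groth.Agent.Lib.AlgSpSmST_helper7 Groth.Agent.Lib.AlgSpSep_helper7
  Groth.Agent.Lib.AlgSpUnram_helper7 Groth.Agent.Lib.AlgSpQC2_helper7
  Groth.Agent.Lib.AlgSpFinDescH6 Groth.Agent.Lib.AlgSpProper_helper7
  Groth.Agent.Lib.ElemDistSq_helper7 Groth.Agent.Lib.AlgSpEtSplitH6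
  Groth.Agent.Lib.AlgSpEtSplit2H6 Groth.Agent.Lib.AlgSpOpen_helper7
  Groth.Agent.Lib.AlgSpQC_helper7 Groth.Agent.Lib.AlgSpQfFinH7
  Groth.Agent.Lib.AlgSpPropFinH6 Groth.Agent.Lib.AlgSpGenFinH6 Groth.Agent.Lib.AlgSpGenFin2H6
  Groth.Agent.Lib.AlgSpCodim0_helper6 Groth.Agent.Lib.AlgSpDescent2_helper7
  Groth.Agent.Lib.AlgSpEtale_helper7 Groth.Agent.Lib.AlgSpQfLocusH7
  Groth.Agent.Lib.AlgSpQfLocus2H7 Groth.Agent.Lib.AlgSpChart_helper7 Groth.Agent.Lib.UnramLocH7

variable {S : Scheme.{u}}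

/-- Fibres of an étale chart from an affine scheme to a quasi-separated algebraic space are
finite. -/
theorem finite_fibre_ofPt_of_qs [QuasiSeparatedSpace ↥S] {X : Sp S} (hX : IsAlgSpace X)
    (hqs : IsQuasiSeparatedSp X) {V : Over S} [IsAffine V.left]
    (b : (yon S).obj V ⟶ X) (hb : RepWith @Etale b) (x : Points X) :
    (Points.ofPt b ⁻¹' {x}).Finite := by
  obtain ⟨R, t, s, kp⟩ :=
    Groth.Agent.Lib.AlgSpFEtDenseH6.exists_isPullback_yon (hX.representable_from_yon b) b
  obtain ⟨W, pU, pV, r, ρ, sqW, -, -, -, -, sqD, -⟩ := exists_fibreProduct_chart b b t s kp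
  have hqs' : RepWith @QuasiCompact (Limits.diag X) := hqs
  haveI hρ : QuasiCompact ρ.left := hqs'.property r _ ρ sqD
  haveI : QuasiCompact V.hom := inferInstance
  haveI : QuasiCompact pV.left := MorphismProperty.of_isPullback (P := @QuasiCompact) sqW
    (inferInstance : QuasiCompact V.hom)
  haveI : CompactSpace ↥W.left := QuasiCompact.compactSpace_of_compactSpace pV.left
  haveI : CompactSpace ↥R.left := QuasiCompact.compactSpace_of_compactSpace ρ.left
  haveI hse : Etale s.left := hb.property b ((yon S).map t) s kp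
  haveI : LocallyQuasiFinite s.left := locallyQuasiFinite_of_unramified s.left
  haveI : QuasiCompact s.left := inferInstance
  rcases Set.eq_empty_or_nonempty (Points.ofPt b ⁻¹' {x}) with h0 | ⟨v₀, hv₀⟩
  · rw [h0]; exact Set.finite_empty
  have hfin : (s.left ⁻¹' {v₀}).Finite :=
    (s.left.isCompact_preimage_singleton v₀).finite (s.left.isDiscrete_preimage_singleton v₀)
  refine (hfin.image t.left).subset ?_
  intro v hv
  have hv' : Points.ofPt b v = Points.ofPt b v₀ := by
    have h1 : Points.ofPt b v = x := hv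
    have h2 : Points.ofPt b v₀ = x := hv₀
    rw [h1, h2]
  obtain ⟨z, hz1, hz2⟩ := exists_ofPt_eq_of_isPullback kp v v₀ hv'
  exact ⟨z, hz2, hz1⟩

/-- A quasi-separated morphism to a quasi-separated space has quasi-separated source. -/
theorem isQuasiSeparatedSp_of_mor {X Y : Sp S} (f : X ⟶ Y) (hf : IsQuasiSeparatedMor f)
    (hY : IsQuasiSeparatedSp Y) : IsQuasiSeparatedSp X := by
  have h1 := isQuasiSeparatedMor_comp f (terminal.from Y) hf
    (isQuasiSeparatedMor_terminal_from hY)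
  rw [terminal.comp_from] at h1
  exact (repWith_diag_iff_diagonal_terminal_from @QuasiCompact X).2 h1

/-- Finite fibre over `y` ⇒ quasi-finite at every point of the fibre. -/
theorem hasAtMor_of_finite_fibre [QuasiSeparatedSpace ↥S] {X Y : Space S} (f : X ⟶ Y)
    (hlft : LocP @LocallyOfFiniteType f.hom) (hXqs : IsQuasiSeparatedSp X.obj)
    (y : Points Y.obj) (hfib : (Points.map f.hom ⁻¹' {y}).Finite) (x : Points X.obj)
    (hx : Points.map f.hom x = y) : HasAtMor QQ f.hom x := by
  obtain ⟨U, V, a, b, h, u, hae, hbe, comm, hu⟩ := ResTrdegH8.exists_chart_diagram f x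
  obtain ⟨U₀, hU₀, huU₀, -⟩ := exists_isAffineOpen_mem_and_subset (x := u) (U := ⊤) trivial
  let U₁ : Over S := Over.mk (U₀.ι ≫ U.hom)
  let ι₁ : U₁ ⟶ U := Over.homMk U₀.ι rfl
  haveI hU₁ : IsAffine U₁.left := hU₀
  have hι₁e : Etale ι₁.left := (inferInstance : Etale U₀.ι)
  let a₁ : (yon S).obj U₁ ⟶ X.obj := (yon S).map ι₁ ≫ a
  have ha₁e : RepWith @Etale a₁ := repWith_comp _ ((repWith_yon_map_iff @Etale ι₁).2 hι₁e) hae
  let h₁ : U₁ ⟶ V := ι₁ ≫ h
  have comm₁ : a₁ ≫ f.hom = (yon S).map h₁ ≫ b := by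
    show ((yon S).map ι₁ ≫ a) ≫ f.hom = (yon S).map (ι₁ ≫ h) ≫ b
    rw [Category.assoc, comm, Functor.map_comp, Category.assoc]
  haveI : LocallyOfFiniteType h₁.left := hlft a₁ b h₁ ha₁e hbe comm₁
  let u₁ : ↥U₁.left := (⟨u, huU₀⟩ : U₀)
  have hpt : Points.ofPt a₁ u₁ = x := by
    show Points.ofPt ((yon S).map ι₁ ≫ a) u₁ = x
    rw [ofPt_comp]
    exact hu
  refine ⟨U₁, V, a₁, b, h₁, u₁, ha₁e, hbe, comm₁, hpt, ?_⟩
  show Near PQ h₁.left u₁
  rw [near_pq_iff]
  apply Groth.Agent.Lib.EtNbhdFinH4.quasiFiniteAt_of_finite_fiber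
  have hsub : h₁.left ⁻¹' {h₁.left u₁} ⊆
      ⋃ x' ∈ (Points.map f.hom ⁻¹' {y}), Points.ofPt a₁ ⁻¹' {x'} := by
    intro z hz
    have hz' : h₁.left z = h₁.left u₁ := hz
    have h1 : Points.map f.hom (Points.ofPt a₁ z) = y := by
      rw [Points.map_ofPt, comm₁, ofPt_comp, hz', ← ofPt_comp, ← comm₁, ← Points.map_ofPt, hpt, hx]
    exact Set.mem_biUnion (x := Points.ofPt a₁ z) h1 rfl
  exact (hfib.biUnion (fun x' _ => finite_fibre_ofPt_of_qs X.property hXqs a₁ ha₁e x')).subset hsub

/-- A finite morphism of algebraic spaces has finite fibres on points. -/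
theorem finite_fibre_of_isFiniteMor {X Y : Space S} (f : X ⟶ Y) (hf : IsFiniteMor f.hom)
    (y : Points Y.obj) : (Points.map f.hom ⁻¹' {y}).Finite := by
  obtain ⟨V, b, v, hV, hb, hv⟩ := exists_affine_chart Y.property y
  haveI := hV
  obtain ⟨W, i, fst, sq, hW, hi⟩ := hf hV b
  haveI := hi
  have hfin : (i.left ⁻¹' {v}).Finite :=
    (i.left.isCompact_preimage_singleton v).finite (i.left.isDiscrete_preimage_singleton v)
  refine (hfin.image (Points.ofPt fst)).subset ?_
  intro x hx
  have hx' : Points.map f.hom x = Points.ofPt b v := by rw [hv]; exact hx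
  rw [Points.ofPt_eq_map_ofScheme] at hx'
  obtain ⟨z, hz1, hz2⟩ := exists_of_isPullback sq x (Points.ofScheme V v) hx'
  obtain ⟨w, rfl⟩ := (Points.schemeEquiv W).surjective z
  refine ⟨w, ?_, ?_⟩
  · apply (Points.schemeEquiv V).injective
    change Points.ofScheme V _ = Points.ofScheme V _
    rw [← hz2]
    change _ = Points.map _ (Points.ofScheme W w)
    rw [← Points.ofPt_eq_map_ofScheme, ofPt_yon_map]
  · rw [Points.ofPt_eq_map_ofScheme]
    exact hz1

/-- Forward direction: a finite fibre over a point of codimension zero spreads out to a finite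
morphism between open neighbourhoods. -/
theorem exists_finite_open_of_finite_fibre [QuasiSeparatedSpace ↥S] {X Y : Space S} (f : X ⟶ Y)
    (hqs : IsQuasiSeparatedMor f.hom) (hft : LocP @LocallyOfFiniteType f.hom)
    (hY : IsQuasiSeparatedSp Y.obj) (y : Points Y.obj)
    (hy : HasAt (fun U u => ringKrullDim ↥(U.presheaf.stalk u) = 0) Y.obj y)
    (hfib : (Points.map f.hom ⁻¹' {y}).Finite) :
    ∃ (X' Y' : Space S) (i : X' ⟶ X) (j : Y' ⟶ Y) (f' : X' ⟶ Y'),
      RepWith @IsOpenImmersion i.hom ∧ RepWith @IsOpenImmersion j.hom ∧ f' ≫ j = i ≫ f ∧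
        y ∈ Set.range (Points.map j.hom) ∧
          Points.map f.hom ⁻¹' {y} ⊆ Set.range (Points.map i.hom) ∧ IsFiniteMor f'.hom := by
  classical
  -- a quasi-compact open containing the fibre
  have hch : ∀ x : Points X.obj, ∃ (V : Over S) (b : (yon S).obj V ⟶ X.obj) (v : ↥V.left),
      IsAffine V.left ∧ RepWith @Etale b ∧ Points.ofPt b v = x :=
    fun x => exists_affine_chart X.property x
  choose U a u hU hae hau using hch
  let Wset : Set (Points X.obj) := ⋃ x ∈ (Points.map f.hom ⁻¹' {y}), Set.range (Points.ofPt (a x))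
  have hWo : IsOpen Wset :=
    isOpen_biUnion (fun x _ => (isOpenMap_ofPt_of_etale (a x) (hae x)).isOpen_range)
  have hWc : IsCompact Wset := by
    refine hfib.isCompact_biUnion (fun x _ => ?_)
    haveI := hU x
    exact isCompact_range (Points.continuous_ofPt (a x))
  let X₁ : Space S := ⟨openSub X.obj Wset, isAlgSpace_openSub X.property hWo⟩
  let i₁ : X₁ ⟶ X := ObjectProperty.homMk (openSubι X.obj Wset)
  have hi₁ : RepWith @IsOpenImmersion i₁.hom := repWith_isOpenImmersion_openSubι hWo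
  have hrange₁ : Set.range (Points.map i₁.hom) = Wset := range_map_openSubι X.property hWo
  haveI : Mono i₁.hom := mono_of_openImmersion _ hi₁
  have hinj : Function.Injective (Points.map i₁.hom) := map_injective_of_mono i₁.hom
  have hemb : Topology.IsEmbedding (Points.map i₁.hom) :=
    (Groth.Agent.Lib.AlgSpEmbed_helper6.isEmbedding_map_of_immersion X.property i₁.hom
      (repWith_mono (fun _ _ g hg => by
        haveI : IsOpenImmersion g := hg
        exact (inferInstance : IsImmersion g)) hi₁)).1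
  have hX₁qc : IsQuasiCompactSp X₁.obj := by
    rw [isQuasiCompactSp_iff_compactSpace X₁.property]
    refine isCompact_univ_iff.1 (hemb.isCompact_iff.2 ?_)
    rw [Set.image_univ, hrange₁]
    exact hWc
  -- the restricted morphism
  let f₁ : X₁ ⟶ Y := i₁ ≫ f
  have hi₁qs : IsQuasiSeparatedMor i₁.hom :=
    (isQuasiSeparatedMor_iff_of_representable i₁.hom hi₁.rep).2
      (repWith_mono (fun _ _ g hg => by
        haveI : IsOpenImmersion g := hg
        exact (inferInstance : QuasiSeparated g)) hi₁)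
  have hqs₁ : IsQuasiSeparatedMor f₁.hom := isQuasiSeparatedMor_comp i₁.hom f.hom hi₁qs hqs
  have hi₁lft : LocP @LocallyOfFiniteType i₁.hom :=
    Groth.Agent.Lib.AlgSpLocP_helper7.locP_of_repWith @LocallyOfFiniteType
      (fun _ _ g hg => by
        haveI : Etale g := hg
        exact (inferInstance : LocallyOfFiniteType g)) i₁.hom
      (repWith_mono (fun _ _ g hg => by
        haveI : IsOpenImmersion g := hg
        exact (inferInstance : LocallyOfFiniteType g)) hi₁)
  have hlft₁ : LocP @LocallyOfFiniteType f₁.hom :=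
    Groth.Agent.Lib.AlgSpLocP4_helper7.locP_comp
      Groth.Agent.Lib.AlgSpLocP4_helper7.etLocal_locallyOfFiniteType X₁.property X.property
      Y.property i₁.hom f.hom hi₁lft hft
  have hqc₁ : IsQuasiCompactMor f₁.hom :=
    isQuasiCompactMor_of_isQuasiCompactSp_of_isQuasiSeparatedSp X₁.property f₁.hom hX₁qc hY
  have hX₁qs : IsQuasiSeparatedSp X₁.obj := isQuasiSeparatedSp_of_mor f₁.hom hqs₁ hY
  have hfib₁ : (Points.map f₁.hom ⁻¹' {y}).Finite := by
    have : Points.map f₁.hom ⁻¹' {y} ⊆ Points.map i₁.hom ⁻¹' (Points.map f.hom ⁻¹' {y}) := by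
      intro x' hx'
      have h1 : Points.map f₁.hom x' = y := hx'
      show Points.map f.hom (Points.map i₁.hom x') = y
      rw [← Points.map_comp]
      exact h1
    exact (hfib.preimage hinj.injOn).subset this
  have hq₁ : ∀ x : Points X₁.obj, Points.map f₁.hom x = y → HasAtMor QQ f₁.hom x :=
    fun x hx => hasAtMor_of_finite_fibre f₁ hlft₁ hX₁qs y hfib₁ x hx
  obtain ⟨T, aT, t, haTe, hat, hfin⟩ :=
    exists_finite_chart_codimZero f₁ y hqs₁ ⟨hlft₁, hqc₁⟩ hy hq₁
  obtain ⟨V, j, hj, hyV, hV⟩ := exists_finite_nhd_of_chart f₁ y T aT t haTe hat hfin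
  have sq := IsPullback.of_hasPullback f₁.hom j.hom
  have hP : IsAlgSpace (pullback f₁.hom j.hom) :=
    isAlgSpace_of_isPullback Y.property.diag X₁.property V.property sq
  let P : Space S := ⟨pullback f₁.hom j.hom, hP⟩
  let fst : P ⟶ X₁ := ObjectProperty.homMk (pullback.fst f₁.hom j.hom)
  let snd : P ⟶ V := ObjectProperty.homMk (pullback.snd f₁.hom j.hom)
  have hfst : RepWith @IsOpenImmersion fst.hom :=
    MorphismProperty.of_isPullback (P := RepWith @IsOpenImmersion) sq.flip hj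
  refine ⟨P, V, fst ≫ i₁, j, snd, repWith_comp _ hfst hi₁, hj, ?_, hyV, ?_, hV P fst snd sq⟩
  · apply ObjectProperty.hom_ext
    show pullback.snd f₁.hom j.hom ≫ j.hom = (pullback.fst f₁.hom j.hom ≫ i₁.hom) ≫ f.hom
    rw [Category.assoc, ← pullback.condition]
    rfl
  · intro x hx
    have hxW : x ∈ Wset := by
      refine Set.mem_biUnion hx ?_
      exact ⟨u x, hau x⟩
    rw [← hrange₁] at hxW
    obtain ⟨x', rfl⟩ := hxW
    obtain ⟨v, hv⟩ := hyV
    have h1 : Points.map f₁.hom x' = Points.map j.hom v := by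
      rw [hv]
      show Points.map (i₁.hom ≫ f.hom) x' = y
      rw [Points.map_comp]
      exact hx
    obtain ⟨w, hw1, -⟩ := exists_of_isPullback sq x' v h1
    refine ⟨w, ?_⟩
    show Points.map (pullback.fst f₁.hom j.hom ≫ i₁.hom) w = _
    rw [Points.map_comp]
    exact congrArg _ hw1

end Groth.Agent.Lib.AlgSpGenFin3H6
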