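import Groth.Agent.Lib.SchImKT3_helper7
import Groth.Agent.Lib.AlgSpUCQC_lead
import Groth.Agent.Lib.AlgSpClosedTfae_helper7

/-!
# The scheme theoretic image of a proper space under a universally closed morphism (helper7)
-/

set_option autoImplicit false
universe u
open CategoryTheory CategoryTheory.Limits AlgebraicGeometry Opposite

namespace Groth.Agent.Lib.SchImUCH7

open AlgSp Groth.Agent.Lib.AlgSpPoints_helper7 Groth.Agent.Lib.AlgSpPullback_helper7
  Groth.Agent.Lib.AlgSpQC_helper7 Groth.Agent.Lib.AlgSpQC2_helper7 Groth.Agent.Lib.SchImageH7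
  Groth.Agent.Lib.SchImKTH7 Groth.Agent.Lib.AlgSpProper_helper7 Groth.Agent.Lib.AlgSpLocP4_helper7
  Groth.Agent.Lib.AlgSpLocP_helper7 Groth.Agent.Lib.AlgSpEmbed_helper6
  Groth.Agent.Lib.AlgSpTop_helper7

variable {S : Scheme.{u}}

theorem schImage_proper' {X Y Z B : Sp S} (hX : IsAlgSpace X) (hY : IsAlgSpace Y)
    (hB : IsAlgSpace B) (h : X ⟶ Y) (g : Y ⟶ B) (hf : IsProperMor (h ≫ g))
    (hhuc : IsUnivClosedMor h) (hg' : LocP @LocallyOfFiniteType g) (i : Z ⟶ Y)
    (hZ : IsSchImage h i) (h' : X ⟶ Z) (fac : h' ≫ i = h) :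
    IsProperMor (i ≫ g) ∧ IsSurjectiveMor h' := by
  obtain ⟨hfs, ⟨hflft, hfqc⟩, hfuc⟩ := hf
  have hhqc : IsQuasiCompactMor h :=
    Groth.Agent.Lib.AlgSpUCQC.isQuasiCompactMor_of_isUnivClosedMor hX hY h hhuc
  have hhc : IsClosedMap (Points.map h) := hhuc hY (𝟙 Y) (𝟙 X) h IsPullback.of_id_fst
  haveI : Mono i := mono_of_closedImmersion i hZ.1
  have hZa : IsAlgSpace Z := isAlgSpace_of_representable_mono i hZ.1.rep hY
  have hemb := (isEmbedding_map_of_immersion hY i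
    (repWith_mono (fun _ _ k (hk : IsClosedImmersion k) => (inferInstance : IsImmersion k))
      hZ.1)).1
  have hsurj : IsSurjectiveMor h' := by
    intro z
    have h1 := range_subset_closure hX hY h hhqc i hZ ⟨z, rfl⟩
    rw [hhc.isClosed_range.closure_eq] at h1
    obtain ⟨x, hx⟩ := h1
    refine ⟨x, hemb.injective ?_⟩
    rw [← hx, ← Points.map_comp, fac]
  have hfqc' : IsQuasiCompactMor (h' ≫ i ≫ g) := by rw [← Category.assoc, fac]; exact hfqc
  have hfuc' : IsUnivClosedMor (h' ≫ i ≫ g) := by rw [← Category.assoc, fac]; exact hfuc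
  have hh'uc : IsUnivClosedMor h' :=
    isUnivClosedMor_of_comp_of_isSeparatedMor hX hZa hY.diag h' i (isSeparatedMor_of_mono i)
      (by rw [fac]; exact hhuc)
  have hsep : IsSeparatedMor (i ≫ g) :=
    Groth.Agent.Lib.AlgSpUCQC.isSeparatedMor_of_surjective_univClosed hX hZa hB h' (h ≫ g)
      (i ≫ g) (by rw [← Category.assoc, fac]) hsurj hh'uc hfs
  refine ⟨⟨hsep, ⟨?_, ?_⟩, ?_⟩, hsurj⟩
  · exact locP_comp etLocal_locallyOfFiniteType hZa hY hB i g
      (locP_of_repWith @LocallyOfFiniteType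
        (fun _ _ k (hk : Etale k) => (inferInstance : LocallyOfFiniteType k)) i
        (repWith_mono (fun _ _ k (hk : IsClosedImmersion k) =>
          (inferInstance : LocallyOfFiniteType k)) hZ.1)) hg'
  · exact isQuasiCompactMor_of_comp_surjective hZa hB.diag h' (i ≫ g) hsurj hfqc'
  · exact isUnivClosedMor_of_comp_isSurjectiveMor h' (i ≫ g) hsurj hfuc'

theorem exists_closedSubspace_image_isProperMor_of_isUnivClosedMor
    {X Y B Z : AlgSp.Space S}
    (a : X ⟶ B) (b : Y ⟶ B) (f : X ⟶ Y) (hcomm : f ≫ b = a)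
    (ha : AlgSp.LocP @LocallyOfFiniteType a.hom) (hb : AlgSp.LocP @LocallyOfFiniteType b.hom)
    (hfc : AlgSp.IsUnivClosedMor f.hom)
    (i : Z ⟶ X) (hi : AlgSp.RepWith @IsClosedImmersion i.hom) (hZ : AlgSp.IsProperMor (i ≫ a).hom) :
    IsClosed (AlgSp.Points.map f.hom '' Set.range (AlgSp.Points.map i.hom)) ∧
      ∃ (Z' : AlgSp.Space S) (i' : Z' ⟶ Y), AlgSp.RepWith @IsClosedImmersion i'.hom ∧
        Set.range (AlgSp.Points.map i'.hom) = AlgSp.Points.map f.hom '' Set.range (AlgSp.Points.map i.hom) ∧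
        AlgSp.IsProperMor (i' ≫ b).hom := by
  have hprop : AlgSp.IsProperMor ((i ≫ f).hom ≫ b.hom) := by
    have e : (i ≫ f).hom ≫ b.hom = (i ≫ a).hom := by rw [← hcomm]; rfl
    rw [e]; exact hZ
  have hiuc : IsUnivClosedMor i.hom :=
    (Groth.Agent.Lib.AlgSpUnramLocal.closedImmersion_props Z.property X.property i.hom hi).1
  have hhuc : AlgSp.IsUnivClosedMor (i ≫ f).hom :=
    univSp_comp IsClosedMor X.property Y.property.diag i.hom f.hom hiuc hfc
  obtain ⟨h', fac⟩ := Groth.Agent.Lib.SchImageH7.exists_fac_img (i ≫ f).hom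
  obtain ⟨hp, hs⟩ := schImage_proper' Z.property Y.property B.property
    (i ≫ f).hom b.hom hprop hhuc hb _ (Groth.Agent.Lib.SchImageH7.isSchImage_imgι _) h' fac
  have hrange : Set.range (AlgSp.Points.map (Groth.Agent.Lib.SchImageH7.imgι (i ≫ f).hom)) =
      AlgSp.Points.map f.hom '' Set.range (AlgSp.Points.map i.hom) := by
    ext y
    constructor
    · rintro ⟨z', rfl⟩
      obtain ⟨z, rfl⟩ := hs z'
      refine ⟨AlgSp.Points.map i.hom z, ⟨z, rfl⟩, ?_⟩
      rw [← AlgSp.Points.map_comp, ← AlgSp.Points.map_comp, fac]; rfl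
    · rintro ⟨_, ⟨z, rfl⟩, rfl⟩
      refine ⟨AlgSp.Points.map h' z, ?_⟩
      rw [← AlgSp.Points.map_comp, ← AlgSp.Points.map_comp, fac]; rfl
  have hZ'cl := Groth.Agent.Lib.SchImageH7.repWith_isClosedImmersion_imgι (i ≫ f).hom
  refine ⟨?_, ⟨_, Groth.Agent.Lib.SchImageH7.isAlgSpace_img Y.property (i ≫ f).hom⟩,
    ObjectProperty.homMk (Groth.Agent.Lib.SchImageH7.imgι (i ≫ f).hom), hZ'cl, hrange, hp⟩
  have hhc : IsClosedMap (AlgSp.Points.map (i ≫ f).hom) :=
    hhuc Y.property (𝟙 _) (𝟙 _) (i ≫ f).hom IsPullback.of_id_fst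
  have e2 : AlgSp.Points.map f.hom ∘ AlgSp.Points.map i.hom = AlgSp.Points.map (i ≫ f).hom :=
    funext (fun z => (AlgSp.Points.map_comp _ _ z).symm)
  rw [← Set.range_comp, e2]
  exact hhc.isClosed_range

end Groth.Agent.Lib.SchImUCH7
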