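import Mathlib
import Groth.Agent.Lib.AlgSpGenFin3_helper6
import Groth.Agent.Lib.AlgSpFinTfae_helper6
import Groth.Agent.Lib.SchImUC_helper7
import Groth.Agent.Lib.ClosedOrbit_lead

/-!
# Finite field fibres, and proper families with a collapsed fibre (helper6)
-/

set_option autoImplicit false
universe u
open CategoryTheory CategoryTheory.Limits AlgebraicGeometry Opposite TopologicalSpace

namespace Groth.Agent.Lib.AlgSpGenFin4H6

open AlgSp Groth.Agent.Lib.AlgSpPoints_helper7 Groth.Agent.Lib.AlgSpOpenSub_helper7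
  Groth.Agent.Lib.AlgSpPullback_helper7 Groth.Agent.Lib.AlgSpIso_helper7
  Groth.Agent.Lib.AlgSpBasic_helper7 Groth.Agent.Lib.AlgSpDescent_helper7
  Groth.Agent.Lib.AlgSpSmST_helper7 Groth.Agent.Lib.AlgSpSep_helper7
  Groth.Agent.Lib.AlgSpUnram_helper7 Groth.Agent.Lib.AlgSpQC2_helper7
  Groth.Agent.Lib.AlgSpFinDescH6 Groth.Agent.Lib.AlgSpProper_helper7
  Groth.Agent.Lib.ElemDistSq_helper7 Groth.Agent.Lib.AlgSpEtSplitH6
  Groth.Agent.Lib.AlgSpEtSplit2H6 Groth.Agent.Lib.AlgSpOpen_helper7
  Groth.Agent.Lib.AlgSpQC_helper7 Groth.Agent.Lib.AlgSpQfFinH7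
  Groth.Agent.Lib.AlgSpPropFinH6 Groth.Agent.Lib.AlgSpGenFinH6 Groth.Agent.Lib.AlgSpGenFin2H6
  Groth.Agent.Lib.AlgSpGenFin3H6 Groth.Agent.Lib.AlgSpFinTfaeH6
  Groth.Agent.Lib.AlgSpCodim0_helper6 Groth.Agent.Lib.AlgSpDescent2_helper7
  Groth.Agent.Lib.AlgSpEtale_helper7 Groth.Agent.Lib.AlgSpQfLocusH7
  Groth.Agent.Lib.AlgSpQfLocus2H7 Groth.Agent.Lib.AlgSpChart_helper7 Groth.Agent.Lib.UnramLocH7
  Groth.Agent.Lib.AlgSpLocP_helper7 Groth.Agent.Lib.AlgSpLocP4_helper7
  Groth.Agent.Lib.SchImageH7 Groth.Agent.Lib.SchImUCH7 Groth.Agent.Lib.AlgSpFEtDenseH6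

variable {S : Scheme.{u}}

/-- Fibres of an affine étale chart of a space quasi-separated over an affine scheme are
finite. -/
theorem finite_fibre_ofPt_of_qsMor {W : Sp S} {T : Over S} [IsAffine T.left]
    (q : W ⟶ (yon S).obj T) (hq : IsQuasiSeparatedMor q) {Ω : Over S} [IsAffine Ω.left]
    (c : (yon S).obj Ω ⟶ W) (hce : RepWith @Etale c) (w : Points W) :
    (Points.ofPt c ⁻¹' {w}).Finite := by
  obtain ⟨i, hi⟩ := (yon S).map_surjective (c ≫ q)
  have hZ := IsAlgSpace.yon_obj T
  obtain ⟨W2, a', b', r, hr1, hr2, sqW, -⟩ :=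
    exists_chart_of_isPullback hZ.diag (IsPullback.of_hasPullback q q) c c
  rw [← hi] at sqW
  have sqW' : IsPullback a'.left b'.left i.left i.left := isPullback_left_of_isPullback_yon sqW
  have hq' : RepWith @QuasiCompact (pullback.diagonal q) := hq
  obtain ⟨E, ρ, fstE, sqE, hρ⟩ : ∃ (E : Over S) (ρ : E ⟶ W2) (fstE : (yon S).obj E ⟶ W),
      IsPullback fstE ((yon S).map ρ) (pullback.diagonal q) r ∧ QuasiCompact ρ.left :=
    ⟨_, hq'.rep.snd r, hq'.rep.fst r, hq'.rep.isPullback r, hq'.property_snd r⟩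
  obtain ⟨s, hs⟩ : ∃ s : E ⟶ Ω, s = ρ ≫ a' := ⟨_, rfl⟩
  obtain ⟨t, ht⟩ : ∃ t : E ⟶ Ω, t = ρ ≫ b' := ⟨_, rfl⟩
  have hfst1 : (yon S).map s ≫ c = fstE := by
    rw [hs, Functor.map_comp, Category.assoc, ← hr1, ← Category.assoc, ← sqE.w, Category.assoc,
      pullback.diagonal_fst, Category.comp_id]
  have hfst2 : (yon S).map t ≫ c = fstE := by
    rw [ht, Functor.map_comp, Category.assoc, ← hr2, ← Category.assoc, ← sqE.w, Category.assoc,
      pullback.diagonal_snd, Category.comp_id]
  have kp : IsPullback ((yon S).map s) ((yon S).map t) c c := by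
    refine isPullback_of_forall_yon (hfst1.trans hfst2.symm) ?_
    intro T' x y hxy
    have hβw : x ≫ (yon S).map i = y ≫ (yon S).map i := by
      rw [hi, ← Category.assoc, hxy, Category.assoc]
    obtain ⟨β, hβ1, hβ2⟩ : ∃ β : (yon S).obj T' ⟶ (yon S).obj W2,
        β ≫ (yon S).map a' = x ∧ β ≫ (yon S).map b' = y :=
      ⟨sqW.lift x y hβw, sqW.lift_fst _ _ _, sqW.lift_snd _ _ _⟩
    have hc : (x ≫ c) ≫ pullback.diagonal q = β ≫ r := by
      apply pullback.hom_ext
      · rw [Category.assoc, pullback.diagonal_fst, Category.comp_id, Category.assoc, hr1,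
          ← Category.assoc, hβ1]
      · rw [Category.assoc, pullback.diagonal_snd, Category.comp_id, Category.assoc, hr2,
          ← Category.assoc, hβ2, hxy]
    refine ⟨sqE.lift (x ≫ c) β hc, ⟨?_, ?_⟩, ?_⟩
    · rw [hs, Functor.map_comp, ← Category.assoc, sqE.lift_snd, hβ1]
    · rw [ht, Functor.map_comp, ← Category.assoc, sqE.lift_snd, hβ2]
    · rintro l ⟨hl1, hl2⟩
      apply sqE.hom_ext
      · rw [sqE.lift_fst, ← hfst1, ← Category.assoc, hl1]
      · rw [sqE.lift_snd]
        apply sqW.hom_ext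
        · rw [Category.assoc, ← Functor.map_comp, ← hs, hl1, hβ1]
        · rw [Category.assoc, ← Functor.map_comp, ← ht, hl2, hβ2]
  haveI := hρ
  haveI : IsAffineHom i.left := inferInstance
  haveI : IsAffineHom a'.left :=
    MorphismProperty.of_isPullback (P := @IsAffineHom) sqW'.flip inferInstance
  haveI : IsAffine W2.left := isAffine_of_isAffineHom a'.left
  haveI : CompactSpace ↥E.left := QuasiCompact.compactSpace_of_compactSpace ρ.left
  haveI hte : Etale t.left := hce.property c ((yon S).map s) t kp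
  haveI : LocallyQuasiFinite t.left := locallyQuasiFinite_of_unramified t.left
  haveI : QuasiCompact t.left := inferInstance
  rcases Set.eq_empty_or_nonempty (Points.ofPt c ⁻¹' {w}) with h0 | ⟨v₀, hv₀⟩
  · rw [h0]; exact Set.finite_empty
  have hfin : (t.left ⁻¹' {v₀}).Finite :=
    (t.left.isCompact_preimage_singleton v₀).finite (t.left.isDiscrete_preimage_singleton v₀)
  refine (hfin.image s.left).subset ?_
  intro v hv
  have hv' : Points.ofPt c v = Points.ofPt c v₀ := by
    have h1 : Points.ofPt c v = w := hv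
    have h2 : Points.ofPt c v₀ = w := hv₀
    rw [h1, h2]
  obtain ⟨z, hz1, hz2⟩ := exists_ofPt_eq_of_isPullback kp v v₀ hv'
  exact ⟨z, hz2, hz1⟩

/-- A space quasi-separated and locally of finite type over a one-point affine scheme, with
finitely many points, has discrete space of points. -/
theorem discreteTopology_of_finite {W : Sp S} (hW : IsAlgSpace W) {T : Over S} [IsAffine T.left]
    [Subsingleton ↥T.left] (q : W ⟶ (yon S).obj T) (hq : IsQuasiSeparatedMor q)
    (hlft : LocP @LocallyOfFiniteType q) [Finite (Points W)] : DiscreteTopology (Points W) := by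
  rw [discreteTopology_iff_isOpen_singleton]
  intro w
  obtain ⟨Ω, c, ω, hΩ, hce, hω⟩ := exists_affine_chart hW w
  haveI := hΩ
  obtain ⟨m, hm⟩ := (yon S).map_surjective (c ≫ q)
  have comm : c ≫ q = (yon S).map m ≫ 𝟙 _ := by rw [Category.comp_id, hm]
  haveI : LocallyOfFiniteType m.left := hlft c (𝟙 _) m hce (repWith_id _ _) comm
  haveI : Finite ↥Ω.left := by
    have h1 : (Set.univ : Set ↥Ω.left) = ⋃ w' : Points W, Points.ofPt c ⁻¹' {w'} := by
      ext z
      simp
    rw [← Set.finite_univ_iff, h1]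
    exact Set.finite_iUnion (fun w' => finite_fibre_ofPt_of_qsMor q hq c hce w')
  haveI : LocallyQuasiFinite m.left :=
    LocallyQuasiFinite.of_finite_preimage_singleton _ (fun _ => Set.toFinite _)
  haveI : DiscreteTopology ↥Ω.left := by
    have hd := m.left.isDiscrete_preimage_singleton (m.left ω)
    have huniv : m.left ⁻¹' {m.left ω} = Set.univ := by
      ext y
      simp only [Set.mem_preimage, Set.mem_singleton_iff, Set.mem_univ, iff_true]
      exact Subsingleton.elim _ _
    rw [huniv] at hd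
    exact isDiscrete_univ_iff.1 hd
  have h2 : IsOpen (Points.ofPt c '' {ω}) := isOpenMap_ofPt_of_etale c hce _ (isOpen_discrete _)
  rwa [Set.image_singleton, hω] at h2

/-- If the fibre of `q` over a field point `k` has finitely many points, `q` is quasi-finite at
every point in the class of `k`. -/
theorem hasAtMor_of_finite_field_fibre {Z B : Space S} (q : Z ⟶ B)
    (hlft : LocP @LocallyOfFiniteType q.hom) (hqs : IsQuasiSeparatedMor q.hom)
    (k : FieldPt B.obj) (Zk : Sp S) (gZ : Zk ⟶ Z.obj) (sZ : Zk ⟶ (yon S).obj k.pt)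
    (sq : IsPullback gZ sZ q.hom k.toHom) [Finite (Points Zk)]
    (z : Points Z.obj) (hz : Points.map q.hom z = Points.mk k) : HasAtMor QQ q.hom z := by
  have hZk : IsAlgSpace Zk :=
    isAlgSpace_of_isPullback B.property.diag Z.property (IsAlgSpace.yon_obj k.pt) sq
  have hsZqs : IsQuasiSeparatedMor sZ := isQuasiSeparatedMor_of_isPullback sq hqs
  have hsZlft : LocP @LocallyOfFiniteType sZ :=
    locP_baseChange etLocal_locallyOfFiniteType Z.property B.property (IsAlgSpace.yon_obj k.pt)
      q.hom k.toHom gZ sZ sq hlft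
  haveI : IsAffine k.pt.left := (inferInstance : IsAffine (Spec (CommRingCat.of k.K)))
  haveI : Subsingleton ↥k.pt.left :=
    (inferInstance : Subsingleton (PrimeSpectrum k.K))
  haveI : DiscreteTopology (Points Zk) := discreteTopology_of_finite hZk sZ hsZqs hsZlft
  obtain ⟨U, V, a, b, h, u, hae, hbe, comm, hu⟩ := ResTrdegH8.exists_chart_diagram q z
  haveI : LocallyOfFiniteType h.left := hlft a b h hae hbe comm
  obtain ⟨V', τ, π, sqV'⟩ := exists_isPullback_yon (B.property.representable_from_yon b) k.toHom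
  have hπe : Etale π.left := hbe.property k.toHom ((yon S).map τ) π sqV'
  have hπE : RepWith @Etale ((yon S).map π) := (repWith_yon_map_iff @Etale π).2 hπe
  have hbv : Points.ofPt b (h.left u) =
      Points.ofPt k.toHom (IsLocalRing.closedPoint k.K) := by
    rw [Points.ofPt_toHom, ← hz, ← hu, Points.map_ofPt, comm, ofPt_comp]
  obtain ⟨v', hv'1, -⟩ := exists_ofPt_eq_of_isPullback sqV' (h.left u) _ hbv
  have sqX := IsPullback.of_hasPullback q.hom ((yon S).map τ ≫ b)
  obtain ⟨at', r, hat1, hat2, sqA⟩ := fibre_chart_sq q.hom a b h comm τ _ _ sqX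
  have sqP := IsPullback.of_hasPullback q.hom b
  have haVe : RepWith @Etale (pullback.lift a ((yon S).map h) comm) :=
    repWith_etale_of_comp _ (pullback.fst q.hom b) (by rw [pullback.lift_fst]; exact hae)
      (repWith_fst_of_isPullback _ sqP hbe)
  have hate : RepWith @Etale at' := repWith_fst_of_isPullback _ sqA haVe
  have wm : pullback.fst q.hom ((yon S).map τ ≫ b) ≫ q.hom =
      (pullback.snd q.hom ((yon S).map τ ≫ b) ≫ (yon S).map π) ≫ k.toHom := by
    rw [Category.assoc, ← sqV'.w]
    exact sqX.w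
  obtain ⟨m, hm1, hm2⟩ : ∃ m : pullback q.hom ((yon S).map τ ≫ b) ⟶ Zk,
      m ≫ gZ = pullback.fst q.hom ((yon S).map τ ≫ b) ∧
      m ≫ sZ = pullback.snd q.hom ((yon S).map τ ≫ b) ≫ (yon S).map π :=
    ⟨sq.lift _ _ wm, sq.lift_fst _ _ _, sq.lift_snd _ _ _⟩
  have sqm : IsPullback m (pullback.snd q.hom ((yon S).map τ ≫ b)) sZ ((yon S).map π) := by
    refine IsPullback.of_right ?_ hm2 sq
    rw [hm1, ← sqV'.w]
    exact sqX
  have hme : RepWith @Etale m :=
    MorphismProperty.of_isPullback (P := RepWith @Etale) sqm.flip hπE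
  have hce : RepWith @Etale (at' ≫ m) := repWith_comp _ hate hme
  have sqS : IsPullback (pullback.fst h τ).left (pullback.snd h τ).left h.left τ.left :=
    (IsPullback.of_hasPullback h τ).map (Over.forget S)
  haveI : LocallyOfFiniteType (pullback.snd h τ).left :=
    MorphismProperty.of_isPullback (P := @LocallyOfFiniteType) sqS inferInstance
  haveI : IsLocallyNoetherian k.pt.left :=
    (inferInstance : IsLocallyNoetherian (Spec (CommRingCat.of k.K)))
  haveI := hπe
  haveI : LocallyOfFiniteType π.left := inferInstance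
  haveI : IsLocallyNoetherian V'.left := LocallyOfFiniteType.isLocallyNoetherian π.left
  haveI : IsLocallyNoetherian (pullback h τ).left :=
    LocallyOfFiniteType.isLocallyNoetherian (pullback.snd h τ).left
  haveI : DiscreteTopology ↥(pullback h τ).left := discreteTopology_chart (at' ≫ m) hce
  haveI : LocallyQuasiFinite (pullback.snd h τ).left :=
    locallyQuasiFinite_iff_isDiscrete_preimage_singleton.2
      (fun x => isDiscrete_iff_discreteTopology.2 inferInstance)
  obtain ⟨u'', hu''1, -⟩ :=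
    Groth.Agent.Lib.ClosedOrbit.exists_of_isPullback sqS u v' hv'1.symm
  have hn : Near PQ (pullback.snd h τ).left u'' := ⟨⊤, trivial, inferInstance, inferInstance⟩
  have hnear := near_pq_of_near_isPullback sqS u'' hn
  rw [hu''1] at hnear
  exact ⟨U, V, a, b, h, u, hae, hbe, comm, hu, hnear⟩

/-- A proper family over `B` one of whose fibres is collapsed by `h` to a finite set factors,
near that fibre, through a closed subspace finite over the base. -/
theorem proper_family_collapsed {X Y B : Space S} (h : X ⟶ Y) (f : X ⟶ B) (g : Y ⟶ B)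
    (hc : h ≫ g = f) (b : Points B.obj) (k : FieldPt B.obj) (hk : Points.mk k = b)
    (hf : IsProperMor f.hom) (hg1 : IsSeparatedMor g.hom)
    (hg2 : LocP @LocallyOfFiniteType g.hom)
    (h3 : (∀ (Yk : Sp S) (gY : Yk ⟶ Y.obj) (sY : Yk ⟶ (yon S).obj k.pt),
            IsPullback gY sY g.hom k.toHom →
            ∀ (Xk : Sp S) (gX : Xk ⟶ X.obj) (hk' : Xk ⟶ Yk), IsPullback gX hk' h.hom gY →
              (Set.range (Points.map hk')).Finite) ∨
          ((Points.map h.hom '' (Points.map f.hom ⁻¹' {b})).Finite ∧ IsDecent B.obj)) :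
    ∃ (B' : Space S) (j : B' ⟶ B), RepWith @IsOpenImmersion j.hom ∧
      b ∈ Set.range (Points.map j.hom) ∧
        ∀ (YB : Space S) (gY : YB ⟶ Y) (sY : YB ⟶ B'), IsPullback gY.hom sY.hom g.hom j.hom →
          ∀ (XB : Space S) (gX : XB ⟶ X) (hB : XB ⟶ YB),
            IsPullback gX.hom hB.hom h.hom gY.hom →
            ∃ (Z : Space S) (i : Z ⟶ YB) (e : XB ⟶ Z), RepWith @IsClosedImmersion i.hom ∧
              IsFiniteMor (i ≫ sY).hom ∧ e ≫ i = hB := by
  have hcomp : h.hom ≫ g.hom = f.hom := congrArg (fun m => m.hom) hc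
  have hfp : IsProperMor (h.hom ≫ g.hom) := by rw [hcomp]; exact hf
  have hhuc : IsUnivClosedMor h.hom :=
    isUnivClosedMor_of_comp_of_isSeparatedMor X.property Y.property B.property.diag h.hom g.hom
      hg1 hfp.2.2
  obtain ⟨h', fac⟩ := exists_fac_img h.hom
  have hZi := isSchImage_imgι h.hom
  obtain ⟨hZp, hsurj⟩ := schImage_proper' X.property Y.property B.property h.hom g.hom hfp hhuc
    hg2 _ hZi h' fac
  have hicl := repWith_isClosedImmersion_imgι h.hom
  let Z : Space S := ⟨img h.hom, isAlgSpace_img Y.property h.hom⟩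
  let i : Z ⟶ Y := ObjectProperty.homMk (imgι h.hom)
  let qZ : Z ⟶ B := i ≫ g
  haveI : Mono i.hom := Groth.Agent.Lib.SchImageH7.mono_of_closedImmersion _ hicl
  have hiinj : Function.Injective (Points.map i.hom) := map_injective_of_mono i.hom
  have hfac : h' ≫ i.hom = h.hom := fac
  obtain ⟨k', hk', Zk, gZ, sZ, sqZ, hfinZ⟩ : ∃ (k' : FieldPt B.obj), Points.mk k' = b ∧
      ∃ (Zk : Sp S) (gZ : Zk ⟶ Z.obj) (sZ : Zk ⟶ (yon S).obj k'.pt),
        IsPullback gZ sZ qZ.hom k'.toHom ∧ Finite (Points Zk) := by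
    rcases h3 with h3a | ⟨h3b, hBdec⟩
    · have sqY := IsPullback.of_hasPullback g.hom k.toHom
      have sqX := IsPullback.of_hasPullback h.hom (pullback.fst g.hom k.toHom)
      have hfinR := h3a _ _ _ sqY _ _ _ sqX
      have sqZY := IsPullback.of_hasPullback i.hom (pullback.fst g.hom k.toHom)
      have sqZ : IsPullback (pullback.fst i.hom (pullback.fst g.hom k.toHom))
          (pullback.snd i.hom (pullback.fst g.hom k.toHom) ≫ pullback.snd g.hom k.toHom)
          (i.hom ≫ g.hom) k.toHom := sqZY.paste_vert sqY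
      refine ⟨k, hk, _, _, _, sqZ, ?_⟩
      haveI : Mono (pullback.snd i.hom (pullback.fst g.hom k.toHom)) := sqZY.mono_snd_of_mono
      have hinj := map_injective_of_mono (pullback.snd i.hom (pullback.fst g.hom k.toHom))
      rw [← Set.finite_univ_iff]
      refine (hfinR.preimage hinj.injOn).subset ?_
      intro zk _
      obtain ⟨x, hx⟩ := hsurj (Points.map (pullback.fst i.hom (pullback.fst g.hom k.toHom)) zk)
      have e1 : Points.map h.hom x = Points.map (pullback.fst g.hom k.toHom)
          (Points.map (pullback.snd i.hom (pullback.fst g.hom k.toHom)) zk) := by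
        rw [← hfac, Points.map_comp, hx, ← Points.map_comp, ← Points.map_comp, sqZY.w]
      obtain ⟨xk, -, hxk⟩ := exists_of_isPullback sqX x _ e1
      exact ⟨xk, hxk⟩
    · obtain ⟨k', hk'b, hk'm, -⟩ := hBdec b
      have sqZ := IsPullback.of_hasPullback qZ.hom k'.toHom
      refine ⟨k', hk'b, _, _, _, sqZ, ?_⟩
      haveI := hk'm
      haveI : Mono (pullback.fst qZ.hom k'.toHom) := sqZ.mono_fst_of_mono
      have hinj := map_injective_of_mono (pullback.fst qZ.hom k'.toHom)
      have hinj2 : Function.Injective (fun zk =>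
          Points.map i.hom (Points.map (pullback.fst qZ.hom k'.toHom) zk)) := hiinj.comp hinj
      rw [← Set.finite_univ_iff]
      refine (h3b.preimage hinj2.injOn).subset ?_
      intro zk _
      show Points.map i.hom (Points.map (pullback.fst qZ.hom k'.toHom) zk) ∈
        Points.map h.hom '' (Points.map f.hom ⁻¹' {b})
      obtain ⟨x, hx⟩ := hsurj (Points.map (pullback.fst qZ.hom k'.toHom) zk)
      have hhx : Points.map h.hom x =
          Points.map i.hom (Points.map (pullback.fst qZ.hom k'.toHom) zk) := by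
        rw [← hfac, Points.map_comp, hx]
      refine ⟨x, ?_, hhx⟩
      show Points.map f.hom x = b
      obtain ⟨s, hs⟩ := (Points.schemeEquiv k'.pt).surjective
        (Points.map (pullback.snd qZ.hom k'.toHom) zk)
      have hs' : Points.ofScheme k'.pt s = Points.map (pullback.snd qZ.hom k'.toHom) zk := hs
      have e2 : Points.map qZ.hom (Points.map (pullback.fst qZ.hom k'.toHom) zk) = b := by
        rw [← Points.map_comp, sqZ.w, Points.map_comp, ← hs', ← Points.ofPt_eq_map_ofScheme,
          Points.ofPt_toHom, hk'b]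
      rw [← hcomp, Points.map_comp, hhx, ← Points.map_comp]
      exact e2
  haveI := hfinZ
  have hqZlft : LocP @LocallyOfFiniteType qZ.hom := hZp.2.1.1
  have hqZqs : IsQuasiSeparatedMor qZ.hom :=
    repWith_mono (fun _ _ g hg => by
      haveI : IsClosedImmersion g := hg
      exact (inferInstance : QuasiCompact g)) hZp.1
  have hq : ∀ z : Points Z.obj, Points.map qZ.hom z = b → HasAtMor QQ qZ.hom z :=
    fun z hz => hasAtMor_of_finite_field_fibre qZ hqZlft hqZqs k' Zk gZ sZ sqZ z
      (by rw [hz, hk'])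
  obtain ⟨B', j, hj, hbB', hfinB'⟩ := exists_finite_nhd qZ b hZp hq
  refine ⟨B', j, hj, hbB', ?_⟩
  intro YB gY sY sqYB XB gX hB sqXB
  have sqZB := IsPullback.of_hasPullback i.hom gY.hom
  have hZB : IsAlgSpace (pullback i.hom gY.hom) :=
    isAlgSpace_of_isPullback Y.property.diag Z.property YB.property sqZB
  let ZB : Space S := ⟨pullback i.hom gY.hom, hZB⟩
  let iB : ZB ⟶ YB := ObjectProperty.homMk (pullback.snd i.hom gY.hom)
  let pZ : ZB ⟶ Z := ObjectProperty.homMk (pullback.fst i.hom gY.hom)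
  have hiB : RepWith @IsClosedImmersion iB.hom :=
    MorphismProperty.of_isPullback (P := RepWith @IsClosedImmersion) sqZB hicl
  have wE : (gX.hom ≫ h') ≫ i.hom = hB.hom ≫ gY.hom := by
    rw [Category.assoc, hfac]
    exact sqXB.w
  let e : XB ⟶ ZB := ObjectProperty.homMk (sqZB.lift (gX.hom ≫ h') hB.hom wE)
  refine ⟨ZB, iB, e, hiB, ?_, ?_⟩
  · have sqbig : IsPullback (pullback.fst i.hom gY.hom) (pullback.snd i.hom gY.hom ≫ sY.hom)
        (i.hom ≫ g.hom) j.hom := sqZB.paste_vert sqYB
    exact hfinB' ZB pZ (iB ≫ sY) sqbig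
  · apply ObjectProperty.hom_ext
    exact sqZB.lift_snd _ _ _

end Groth.Agent.Lib.AlgSpGenFin4H6
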