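import Groth.Agent.Lib.FibCatPaste_lead

/-!
# `𝒳 ×_𝒵 𝒴 ⟶ 𝒳 ×_𝒯 𝒴` is a base change of the diagonal of `𝒵 ⟶ 𝒯` (lead)
-/

set_option autoImplicit false

universe v₆ u₆ v₅ u₅ v₄ u₄ v₃ u₃ v₂ u₂ v u

open CategoryTheory CategoryTheory.Limits FibCat

namespace Groth.Agent.Lib.FibCatRelDiag

open Groth.Agent.Lib.FibCat_helper6 Groth.Agent.Lib.FibCat3_helper6
  Groth.Agent.Lib.FibCat14_helper6 Groth.Agent.Lib.LiftSqBC Groth.Agent.Lib.FibCatPaste

variable {C : Type u} [Category.{v} C]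

theorem iso_sq_aux {E : Type*} [Category E] {A B A' B' : E} (φ : A ≅ B) (φ' : A' ≅ B')
    (a : A ⟶ A') (b : B ⟶ B') (h : b ≫ φ'.inv = φ.inv ≫ a) : a ≫ φ'.hom = φ.hom ≫ b := by
  have := congrArg (fun m => φ.hom ≫ m ≫ φ'.hom) h
  simpa using this.symm

theorem theta_aux {E : Type*} [Category E] {A B X : E} {a : A ⟶ X} {θ : A ⟶ B} {b : B ⟶ X}
    {b' : X ⟶ B} (h : a ≫ 𝟙 X = θ ≫ b) (hb : b ≫ b' = 𝟙 B) : a ≫ b' = θ := by
  rw [Category.comp_id] at h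
  rw [h, Category.assoc, hb, Category.comp_id]

variable {𝒳 : BasedCategory.{v₂, u₂} C} {𝒴 : BasedCategory.{v₃, u₃} C}
  {𝒵 : BasedCategory.{v₄, u₄} C} {𝒯 : BasedCategory.{v₅, u₅} C}
  (f : 𝒳 ⥤ᵇ 𝒵) (g : 𝒴 ⥤ᵇ 𝒵) (t : 𝒵 ⥤ᵇ 𝒯)
  (e : BasedFunctor.comp (fpFst f g) (BasedFunctor.comp f t) ≅
    BasedFunctor.comp (fpSnd f g) (BasedFunctor.comp g t))
  (he : ∀ x, e.hom.toNatTrans.app x = t.map x.obj.iso.hom)

local notation "ft" => BasedFunctor.comp f t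
local notation "gt" => BasedFunctor.comp g t

/-- `(x, y, θ) ↦ (f x, g y, θ)`. -/
def Psi : fp ft gt ⥤ᵇ fp t t :=
  fpLift (BasedFunctor.comp (fpFst ft gt) f) (BasedFunctor.comp (fpSnd ft gt) g) (fpIso ft gt)

/-- The morphism `𝒳 ×_𝒵 𝒴 ⟶ 𝒳 ×_𝒯 𝒴`. -/
abbrev relI : fp f g ⥤ᵇ fp ft gt := fpLift (fpFst f g) (fpSnd f g) e

include he in
theorem sq_hw (x : (fp f g).obj) :
    t.toFunctor.map (𝟙 (f.obj x.obj.fst)) ≫ 𝟙 (t.obj (f.obj x.obj.fst)) =
      e.hom.toNatTrans.app x ≫ t.toFunctor.map x.obj.iso.inv := by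
  rw [he x]
  show t.toFunctor.map (𝟙 (f.obj x.obj.fst)) ≫ 𝟙 (t.obj (f.obj x.obj.fst)) =
    t.toFunctor.map x.obj.iso.hom ≫ t.toFunctor.map x.obj.iso.inv
  rw [← t.toFunctor.map_comp, Iso.hom_inv_id, t.toFunctor.map_id, Category.comp_id]

/-- The 2-isomorphism of the square. -/
def sqIso : BasedFunctor.comp (relI f g t e) (Psi f g t) ≅
    BasedFunctor.comp (BasedFunctor.comp (fpFst f g) f) (diag t) :=
  isoMk2 t t (H := BasedFunctor.comp (relI f g t e) (Psi f g t))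
    (K := BasedFunctor.comp (BasedFunctor.comp (fpFst f g) f) (diag t))
    (Iso.refl (BasedFunctor.comp (fpFst f g) f)) (fpIso f g).symm (fun x => sq_hw f g t e he x)

/-- The comparison functor of the square. -/
def relBC : fp f g ⥤ᵇ fp (Psi f g t) (diag t) :=
  fpLift (relI f g t e) (BasedFunctor.comp (fpFst f g) f) (sqIso f g t e he)

instance relBC_faithful : (relBC f g t e he).toFunctor.Faithful where
  map_injective := by
    intro w w' m m' h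
    apply fp_hom_ext
    · exact congrArg (fun n => n.hom.fst.hom.fst) h
    · exact congrArg (fun n => n.hom.fst.hom.snd) h

instance relBC_full : (relBC f g t e he).toFunctor.Full where
  map_surjective := by
    intro w w' n
    have h1 : f.toFunctor.map n.hom.fst.hom.fst ≫ 𝟙 _ = 𝟙 _ ≫ n.hom.snd :=
      congrArg (fun m => m.hom.fst) n.hom.w
    have h2 : g.toFunctor.map n.hom.fst.hom.snd ≫ w'.obj.iso.inv =
        w.obj.iso.inv ≫ n.hom.snd :=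
      congrArg (fun m => m.hom.snd) n.hom.w
    have h1' : f.toFunctor.map n.hom.fst.hom.fst = n.hom.snd :=
      (Category.comp_id _).symm.trans (h1.trans (Category.id_comp _))
    have h3 : f.toFunctor.map n.hom.fst.hom.fst ≫ w'.obj.iso.hom =
        w.obj.iso.hom ≫ g.toFunctor.map n.hom.fst.hom.snd := by
      apply iso_sq_aux
      rw [h1']
      exact h2
    refine ⟨fpHomMk n.hom.fst.hom.fst n.hom.fst.hom.snd h3, ?_⟩
    apply fp_hom_ext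
    · apply fp_hom_ext
      · rfl
      · rfl
    · exact h1'

include he in
theorem relBC_essSurj (V : (fp (Psi f g t) (diag t)).obj) :
    ∃ (w : (fp f g).obj) (φ : (relBC f g t e he).obj w ≅ V),
      (fp (Psi f g t) (diag t)).p.IsHomLift (𝟙 ((fp (Psi f g t) (diag t)).p.obj V)) φ.hom := by
  let W : (fp ft gt).obj := V.obj.fst
  let κ₁ : f.obj W.obj.fst ≅ V.obj.snd := (fpFst t t).toFunctor.mapIso V.obj.iso
  let κ₂ : g.obj W.obj.snd ≅ V.obj.snd := (fpSnd t t).toFunctor.mapIso V.obj.iso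
  have hV : (fp t t).p.IsHomLift (𝟙 (𝒳.p.obj W.obj.fst)) V.obj.iso.hom := V.property
  have hκ₁ : 𝒵.p.IsHomLift (𝟙 (𝒳.p.obj W.obj.fst)) κ₁.hom :=
    BasedFunctor.preserves_isHomLift (fpFst t t) _ _
  have hκ₂ : 𝒵.p.IsHomLift (𝟙 (𝒳.p.obj W.obj.fst)) κ₂.hom :=
    BasedFunctor.preserves_isHomLift (fpSnd t t) _ _
  have hκ₂i : 𝒵.p.IsHomLift (𝟙 (𝒳.p.obj W.obj.fst)) κ₂.inv := inferInstance
  have hφ : 𝒵.p.IsHomLift (𝟙 (𝒳.p.obj W.obj.fst)) (κ₁.hom ≫ κ₂.inv) :=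
    isHomLift_comp_of_id _ _ hκ₁ hκ₂i
  have hκ : t.toFunctor.map κ₁.hom ≫ 𝟙 _ = W.obj.iso.hom ≫ t.toFunctor.map κ₂.hom :=
    V.obj.iso.hom.hom.w
  let w : (fp f g).obj := fpObjMk (F := f) (G := g) W.obj.fst W.obj.snd (κ₁ ≪≫ κ₂.symm) hφ
  have hκ₂' : t.toFunctor.map κ₂.hom ≫ t.toFunctor.map κ₂.inv = 𝟙 _ := by
    rw [← t.toFunctor.map_comp, κ₂.hom_inv_id, t.toFunctor.map_id]
  have hθ : t.toFunctor.map (κ₁.hom ≫ κ₂.inv) = W.obj.iso.hom :=
    (t.toFunctor.map_comp _ _).trans (theta_aux hκ hκ₂')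
  let a : (relI f g t e).obj w ≅ W :=
    fpIsoMk (F := ft) (G := gt) (X := (relI f g t e).obj w) (Y := W) (Iso.refl _) (Iso.refl _) (by
      show t.toFunctor.map (f.toFunctor.map (𝟙 W.obj.fst)) ≫ W.obj.iso.hom =
        e.hom.toNatTrans.app w ≫ t.toFunctor.map (g.toFunctor.map (𝟙 W.obj.snd))
      rw [he w]
      show t.toFunctor.map (f.toFunctor.map (𝟙 W.obj.fst)) ≫ W.obj.iso.hom =
        t.toFunctor.map (κ₁.hom ≫ κ₂.inv) ≫ t.toFunctor.map (g.toFunctor.map (𝟙 W.obj.snd))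
      rw [hθ, f.toFunctor.map_id, g.toFunctor.map_id, t.toFunctor.map_id, t.toFunctor.map_id,
        Category.id_comp, Category.comp_id])
  refine ⟨w, fpIsoMk (F := Psi f g t) (G := diag t) (X := (relBC f g t e he).obj w) (Y := V)
    a κ₁ ?_, ?_⟩
  · apply fp_hom_ext
    · show f.toFunctor.map (𝟙 W.obj.fst) ≫ κ₁.hom = 𝟙 _ ≫ κ₁.hom
      rw [f.toFunctor.map_id]
    · show g.toFunctor.map (𝟙 W.obj.snd) ≫ κ₂.hom = (κ₂.hom ≫ κ₁.inv) ≫ κ₁.hom
      rw [g.toFunctor.map_id, Category.id_comp, Category.assoc, κ₁.inv_hom_id, Category.comp_id]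
  · apply fpIsoMk_isHomLift
    apply fpIsoMk_isHomLift
    exact (inferInstance : 𝒳.p.IsHomLift (𝟙 (𝒳.p.obj W.obj.fst)) (𝟙 W.obj.fst))

include he in
theorem relBC_isEquivOver : IsEquivOver (relBC f g t e he) :=
  isEquivOver_of_fullyFaithful (relBC f g t e he) (relBC_essSurj f g t e he)

end Groth.Agent.Lib.FibCatRelDiag
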