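import Groth.Agent.Lib.FibCat2_helper6

/-!
# The 2-Yoneda lemma for fibred categories (helper6)

`evalAtId 𝒳 U : (overCat U ⥤ᵇ 𝒳) ⥤ 𝒳_U` restricted to cartesian functors is fully faithful and
essentially surjective.
-/

set_option autoImplicit false

universe v₂ u₂ v u

open CategoryTheory CategoryTheory.Limits FibCat

namespace Groth.Agent.Lib.FibCatYoneda_helper6

open Groth.Agent.Lib.FibCat_helper6

variable {C : Type u} [Category.{v} C] {𝒳 : BasedCategory.{v₂, u₂} C} (U : C)

/-- The structure morphism of an object of the slice, with its plain type. -/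
def ohom (A : Over U) : A.left ⟶ U := A.hom

@[simp] theorem ohom_eq (A : Over U) : ohom U A = A.hom := rfl

@[reassoc (attr := simp)]
theorem left_comp_ohom {A B : Over U} (h : A ⟶ B) : h.left ≫ ohom U B = ohom U A := Over.w h

/-- The canonical morphism from an object of the slice to the terminal object `𝟙_U`. -/
def toId (A : Over U) : A ⟶ Over.mk (𝟙 U) := Over.homMk A.hom

@[simp] theorem toId_left (A : Over U) : (toId U A).left = A.hom := rfl

theorem comp_toId {A B : Over U} (h : A ⟶ B) : h ≫ toId U B = toId U A := by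
  ext
  simp

theorem toId_mk_id : toId U (Over.mk (𝟙 U)) = 𝟙 _ := by
  ext
  simp

theorem over_hom_isHomLift {A B : Over U} (h : A ⟶ B) : (overCat U).p.IsHomLift h.left h :=
  IsHomLift.map (Over.forget U) h

theorem over_hom_isStronglyCartesian {A B : Over U} (h : A ⟶ B) :
    (overCat U).p.IsStronglyCartesian h.left h :=
  (isFibGrpd_over_forget U).isStronglyCartesian h

variable {U}

theorem map_comp_toId (G : overCat U ⥤ᵇ 𝒳) {A B : Over U} (h : A ⟶ B) :
    G.map h ≫ G.map (toId U B) = G.map (toId U A) :=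
  (G.map_comp h (toId U B)).symm.trans (congrArg G.map (comp_toId U h))

theorem map_toId_mk_id (G : overCat U ⥤ᵇ 𝒳) :
    G.map (toId U (Over.mk (𝟙 U))) = 𝟙 (G.obj (Over.mk (𝟙 U))) :=
  (congrArg G.map (toId_mk_id U)).trans (G.map_id _)

theorem map_isHomLift (H : overCat U ⥤ᵇ 𝒳) {A B : Over U} (h : A ⟶ B) :
    𝒳.p.IsHomLift h.left (H.map h) := by
  have := over_hom_isHomLift U h
  infer_instance

theorem map_toId_isStronglyCartesian (H : overCat U ⥤ᵇ 𝒳)
    (hH : PreservesStronglyCartesian H) (A : Over U) :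
    𝒳.p.IsStronglyCartesian (ohom U A) (H.map (toId U A)) :=
  hH (ohom U A) (toId U A) (over_hom_isStronglyCartesian U (toId U A))

theorem map_toId_isHomLift (H : overCat U ⥤ᵇ 𝒳) (A : Over U) :
    𝒳.p.IsHomLift (ohom U A) (H.map (toId U A)) :=
  map_isHomLift H (toId U A)

theorem app_isHomLift {G H : overCat U ⥤ᵇ 𝒳} (α : G ⟶ H) (A : Over U) :
    𝒳.p.IsHomLift (𝟙 A.left) (α.toNatTrans.app A) :=
  α.isHomLift' A

theorem app_naturality {G H : overCat U ⥤ᵇ 𝒳} (α : G ⟶ H) {A B : Over U} (h : A ⟶ B) :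
    G.map h ≫ α.toNatTrans.app B = α.toNatTrans.app A ≫ H.map h :=
  α.toNatTrans.naturality h

/-- A 2-morphism between functors `C/U ⟶ 𝒳` with cartesian target is determined by its value at
`𝟙_U`. -/
theorem basedNatTrans_ext_of_app_id {G H : overCat U ⥤ᵇ 𝒳} (hH : PreservesStronglyCartesian H)
    (α β : G ⟶ H)
    (h : α.toNatTrans.app (Over.mk (𝟙 U)) = β.toNatTrans.app (Over.mk (𝟙 U))) : α = β := by
  apply BasedNatTrans.ext
  ext A
  have hsc := map_toId_isStronglyCartesian H hH A
  have l1 := app_isHomLift α A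
  have l2 := app_isHomLift β A
  apply Functor.IsStronglyCartesian.ext 𝒳.p (ohom U A) (H.map (toId U A)) (𝟙 A.left)
  rw [← app_naturality α (toId U A), ← app_naturality β (toId U A), h]

section full

variable {G H : overCat U ⥤ᵇ 𝒳} (hH : PreservesStronglyCartesian H)
  (τ : G.obj (Over.mk (𝟙 U)) ⟶ H.obj (Over.mk (𝟙 U))) (hτ : 𝒳.p.IsHomLift (𝟙 U) τ)

include hτ in
theorem liftApp_aux (A : Over U) : 𝒳.p.IsHomLift (ohom U A) (G.map (toId U A) ≫ τ) := by
  have := map_toId_isHomLift G A
  infer_instance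

/-- The component at `A` of the 2-morphism with prescribed value at `𝟙_U`. -/
noncomputable def liftApp (A : Over U) : G.obj A ⟶ H.obj A :=
  haveI := map_toId_isStronglyCartesian H hH A
  haveI := liftApp_aux τ hτ A
  Functor.IsStronglyCartesian.map 𝒳.p (ohom U A) (H.map (toId U A)) (g := 𝟙 A.left)
    (f' := ohom U A) (Category.id_comp _).symm (G.map (toId U A) ≫ τ)

theorem liftApp_isHomLift (A : Over U) : 𝒳.p.IsHomLift (𝟙 A.left) (liftApp hH τ hτ A) := by
  have := map_toId_isStronglyCartesian H hH A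
  have := liftApp_aux τ hτ A
  dsimp only [liftApp]
  infer_instance

theorem liftApp_fac (A : Over U) :
    liftApp hH τ hτ A ≫ H.map (toId U A) = G.map (toId U A) ≫ τ := by
  have := map_toId_isStronglyCartesian H hH A
  have := liftApp_aux τ hτ A
  dsimp only [liftApp]
  exact Functor.IsStronglyCartesian.fac _ _ _ _ _

theorem liftApp_naturality {A B : Over U} (h : A ⟶ B) :
    G.map h ≫ liftApp hH τ hτ B = liftApp hH τ hτ A ≫ H.map h := by
  have hsc := map_toId_isStronglyCartesian H hH B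
  have := liftApp_isHomLift hH τ hτ A
  have := liftApp_isHomLift hH τ hτ B
  have := map_isHomLift G h
  have := map_isHomLift H h
  have l1 : 𝒳.p.IsHomLift h.left (G.map h ≫ liftApp hH τ hτ B) := inferInstance
  have l2 : 𝒳.p.IsHomLift h.left (liftApp hH τ hτ A ≫ H.map h) := inferInstance
  apply Functor.IsStronglyCartesian.ext 𝒳.p (ohom U B) (H.map (toId U B)) h.left
  rw [Category.assoc, liftApp_fac, ← Category.assoc, map_comp_toId, Category.assoc,
    map_comp_toId, liftApp_fac]

/-- The 2-morphism with prescribed value at `𝟙_U`. -/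
noncomputable def liftNatTrans : G ⟶ H where
  toNatTrans :=
    { app := fun A => liftApp hH τ hτ A
      naturality := fun _ _ h => liftApp_naturality hH τ hτ h }
  isHomLift' := fun A => liftApp_isHomLift hH τ hτ A

theorem liftNatTrans_app_id :
    (liftNatTrans hH τ hτ).toNatTrans.app (Over.mk (𝟙 U)) = τ := by
  have := liftApp_fac hH τ hτ (Over.mk (𝟙 U))
  rw [map_toId_mk_id, map_toId_mk_id, Category.comp_id, Category.id_comp] at this
  exact this

end full

section essSurj

variable [𝒳.p.IsFibered] {x : 𝒳.obj} (hx : 𝒳.p.obj x = U)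

open Functor.IsPreFibered

/-- The morphism between chosen pullbacks induced by a morphism of the base. -/
noncomputable def pbMap {R R' : C} (f : R ⟶ U) (f' : R' ⟶ U) (g : R' ⟶ R) (w : g ≫ f = f') :
    pullbackObj hx f' ⟶ pullbackObj hx f :=
  Functor.IsStronglyCartesian.map 𝒳.p f (pullbackMap hx f) (g := g) (f' := f') w.symm
    (pullbackMap hx f')

theorem pbMap_isHomLift {R R' : C} (f : R ⟶ U) (f' : R' ⟶ U) (g : R' ⟶ R) (w : g ≫ f = f') :
    𝒳.p.IsHomLift g (pbMap hx f f' g w) := by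
  dsimp only [pbMap]; infer_instance

@[reassoc]
theorem pbMap_fac {R R' : C} (f : R ⟶ U) (f' : R' ⟶ U) (g : R' ⟶ R) (w : g ≫ f = f') :
    pbMap hx f f' g w ≫ pullbackMap hx f = pullbackMap hx f' :=
  Functor.IsStronglyCartesian.fac _ _ _ _ _

theorem pbMap_uniq {R R' : C} (f : R ⟶ U) (f' : R' ⟶ U) (g : R' ⟶ R) (w : g ≫ f = f')
    (ψ : pullbackObj hx f' ⟶ pullbackObj hx f) (hψ : 𝒳.p.IsHomLift g ψ)
    (e : ψ ≫ pullbackMap hx f = pullbackMap hx f') : ψ = pbMap hx f f' g w :=
  Functor.IsStronglyCartesian.map_uniq 𝒳.p f (pullbackMap hx f) w.symm (pullbackMap hx f') ψ e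

theorem pbMap_id {R : C} (f : R ⟶ U) : pbMap hx f f (𝟙 R) (Category.id_comp f) = 𝟙 _ := by
  symm
  have : 𝒳.p.IsHomLift (𝟙 R) (𝟙 (pullbackObj hx f)) := IsHomLift.id (pullbackObj_proj hx f)
  exact pbMap_uniq hx f f (𝟙 R) _ _ this (Category.id_comp _)

theorem pbMap_comp {R R' R'' : C} (f : R ⟶ U) (f' : R' ⟶ U) (f'' : R'' ⟶ U) (g : R' ⟶ R)
    (g' : R'' ⟶ R') (w : g ≫ f = f') (w' : g' ≫ f' = f'') :
    pbMap hx f' f'' g' w' ≫ pbMap hx f f' g w =
      pbMap hx f f'' (g' ≫ g) (by rw [Category.assoc, w, w']) := by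
  have := pbMap_isHomLift hx f f' g w
  have := pbMap_isHomLift hx f' f'' g' w'
  apply pbMap_uniq
  · infer_instance
  · rw [Category.assoc, pbMap_fac, pbMap_fac]

theorem pbMap_isStronglyCartesian {R R' : C} (f : R ⟶ U) (f' : R' ⟶ U) (g : R' ⟶ R)
    (w : g ≫ f = f') : 𝒳.p.IsStronglyCartesian g (pbMap hx f f' g w) := by
  have l : 𝒳.p.IsHomLift g (pbMap hx f f' g w) := pbMap_isHomLift hx f f' g w
  have h1 : 𝒳.p.IsStronglyCartesian f (pullbackMap hx f) := inferInstance
  have h2 : 𝒳.p.IsStronglyCartesian (g ≫ f) (pbMap hx f f' g w ≫ pullbackMap hx f) := by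
    rw [pbMap_fac, w]
    infer_instance
  exact Functor.IsStronglyCartesian.of_comp 𝒳.p (g := f) (ψ := pullbackMap hx f)

/-- The functor `C/U ⟶ 𝒳` associated with an object `x` over `U` by choosing pullbacks. -/
noncomputable def yonedaFunctor : overCat U ⥤ᵇ 𝒳 where
  toFunctor :=
    { obj := fun A => pullbackObj hx (ohom U A)
      map := fun {A B} h => pbMap hx (ohom U B) (ohom U A) h.left (left_comp_ohom U h)
      map_id := fun A => pbMap_id hx (ohom U A)
      map_comp := fun {A B D} h k => (pbMap_comp hx (ohom U D) (ohom U B) (ohom U A) k.left h.left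
        (left_comp_ohom U k) (left_comp_ohom U h)).symm }
  w := by
    refine Functor.ext (fun A => pullbackObj_proj hx (ohom U A)) ?_
    intro A B h
    have := pbMap_isHomLift hx (ohom U B) (ohom U A) h.left (left_comp_ohom U h)
    exact IsHomLift.fac' 𝒳.p h.left (pbMap hx (ohom U B) (ohom U A) h.left (left_comp_ohom U h))

theorem yonedaFunctor_map {A B : Over U} (h : A ⟶ B) :
    (yonedaFunctor hx).map h = pbMap hx (ohom U B) (ohom U A) h.left (left_comp_ohom U h) := rfl

theorem yonedaFunctor_preserves : PreservesStronglyCartesian (yonedaFunctor hx) := by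
  intro R S f A B h hh
  have key : 𝒳.p.IsStronglyCartesian h.left ((yonedaFunctor hx).map h) :=
    pbMap_isStronglyCartesian hx (ohom U B) (ohom U A) h.left (left_comp_ohom U h)
  have hl : (Over.forget U).IsHomLift f h := hh.toIsHomLift
  have hR : A.left = R := IsHomLift.domain_eq (Over.forget U) f h
  have hS : B.left = S := IsHomLift.codomain_eq (Over.forget U) f h
  subst hR hS
  have : f = h.left := by
    have := IsHomLift.fac (Over.forget U) f h
    simpa using this
  rw [this]
  exact key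

theorem pullbackMap_id_isHomLift :
    𝒳.p.IsHomLift (𝟙 U) (pullbackMap hx (ohom U (Over.mk (𝟙 U)))) :=
  (inferInstance : 𝒳.p.IsHomLift (ohom U (Over.mk (𝟙 U))) (pullbackMap hx (ohom U (Over.mk (𝟙 U)))))

theorem pullbackMap_id_isIso : IsIso (pullbackMap hx (ohom U (Over.mk (𝟙 U)))) := by
  have h : 𝒳.p.IsStronglyCartesian (𝟙 U) (pullbackMap hx (ohom U (Over.mk (𝟙 U)))) :=
    (inferInstance : 𝒳.p.IsStronglyCartesian (ohom U (Over.mk (𝟙 U)))
      (pullbackMap hx (ohom U (Over.mk (𝟙 U)))))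
  exact Functor.IsStronglyCartesian.isIso_of_base_isIso 𝒳.p (𝟙 U) _

/-- The inverse of the chosen pullback along `𝟙_U`. -/
noncomputable def pullbackMapIdInv : x ⟶ pullbackObj hx (ohom U (Over.mk (𝟙 U))) :=
  haveI := pullbackMap_id_isIso hx
  inv (pullbackMap hx (ohom U (Over.mk (𝟙 U))))

theorem pullbackMapIdInv_isHomLift : 𝒳.p.IsHomLift (𝟙 U) (pullbackMapIdInv hx) := by
  have := pullbackMap_id_isIso hx
  have := pullbackMap_id_isHomLift hx
  dsimp only [pullbackMapIdInv]
  infer_instance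

theorem pullbackMap_comp_idInv :
    pullbackMap hx (ohom U (Over.mk (𝟙 U))) ≫ pullbackMapIdInv hx = 𝟙 _ := by
  have := pullbackMap_id_isIso hx
  dsimp only [pullbackMapIdInv]
  exact IsIso.hom_inv_id _

theorem idInv_comp_pullbackMap :
    pullbackMapIdInv hx ≫ pullbackMap hx (ohom U (Over.mk (𝟙 U))) = 𝟙 _ := by
  have := pullbackMap_id_isIso hx
  dsimp only [pullbackMapIdInv]
  exact IsIso.inv_hom_id _

/-- The value of `yonedaFunctor` at `𝟙_U` is isomorphic to `x` in the fibre. -/
noncomputable def yonedaFunctorIso :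
    (evalAtId 𝒳 U).obj (yonedaFunctor hx) ≅ (⟨x, hx⟩ : 𝒳.p.Fiber U) where
  hom := ⟨pullbackMap hx (ohom U (Over.mk (𝟙 U))), pullbackMap_id_isHomLift hx⟩
  inv := ⟨pullbackMapIdInv hx, pullbackMapIdInv_isHomLift hx⟩
  hom_inv_id := by
    apply Functor.Fiber.hom_ext
    exact pullbackMap_comp_idInv hx
  inv_hom_id := by
    apply Functor.Fiber.hom_ext
    exact idInv_comp_pullbackMap hx

end essSurj

end Groth.Agent.Lib.FibCatYoneda_helper6
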