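import Groth.Agent.Lib.AlgStPoints_lead
import Groth.Agent.Lib.FibCatYoneda_helper6
import Groth.Agent.Lib.FibCatRelDiag_lead

/-!
# Morphisms representable by algebraic spaces are faithful, monomorphisms are fully faithful (lead)
-/

set_option autoImplicit false
set_option backward.isDefEq.respectTransparency false
set_option backward.isDefEq.respectTransparency.types false

universe w'' v'' w' v' w v u v₄ u₄ v₃ u₃ v₂ u₂ v₁ u₁

open CategoryTheory CategoryTheory.Limits AlgebraicGeometry FibCat Opposite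

namespace Groth.Agent.Lib.AlgStMono

open Groth.Agent.Lib.FibCat_helper6 Groth.Agent.Lib.FibCat3_helper6
  Groth.Agent.Lib.FibCat14_helper6 Groth.Agent.Lib.FibCatPaste Groth.Agent.Lib.FibCat12_helper6
  Groth.Agent.Lib.AlgStPoints Groth.Agent.Lib.FibCatYoneda_helper6 Groth.Agent.Lib.FibCatRelDiag

section aux

theorem sq_of_id {E : Type*} [Category E] {A B : E} (a : A ⟶ A) (t : A ⟶ B) (b : B ⟶ B)
    (ha : a = 𝟙 A) (hb : b = 𝟙 B) : a ≫ t = t ≫ b := by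
  subst ha hb; simp

theorem cancel_aux {E : Type*} [Category E] {A B D : E} (a : A ⟶ A) (t : A ≅ B) (b c : B ⟶ D)
    (ha : a = 𝟙 A) (h : a ≫ (t.hom ≫ b) = t.hom ≫ c) : c = b := by
  subst ha
  rw [Category.id_comp] at h
  exact ((cancel_epi t.hom).1 h).symm

theorem over_end_id {C : Type*} [Category C] {U : C} (κ : Over.mk (𝟙 U) ⟶ Over.mk (𝟙 U)) :
    κ = 𝟙 _ := by
  ext
  have := Over.w κ
  simpa using this

theorem eltHom_eq_id {C : Type u₁} [Category.{v₁} C] {P : Cᵒᵖ ⥤ Type w} {a : Stk.EltObj P}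
    (φ : a ⟶ a) {R : C} (h : (Stk.EltObj.forget P).IsHomLift (𝟙 R) φ) : φ = 𝟙 a := by
  apply Stk.EltObj.hom_ext
  have := IsHomLift.fac' (Stk.EltObj.forget P) (𝟙 R) φ
  simpa using this

end aux

section sheaves

variable {S : Scheme.{u}}

/-- Yoneda for fppf sheaves over `S`, with universes pinned. -/
noncomputable abbrev yE {X : AlgSp.Sp S} {T : Over S} :
    ((AlgSp.yon S).obj T ⟶ X) ≃ X.obj.obj (op T) :=
  GrothendieckTopology.uliftYonedaEquiv.{u + 1} (AlgSp.J S)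

theorem yE_comp {X Y : AlgSp.Sp S} {T : Over S} (a : (AlgSp.yon S).obj T ⟶ X) (b : X ⟶ Y) :
    yE (a ≫ b) = b.hom.app _ (yE a) := rfl

theorem app_injective_of_mono {F G : AlgSp.Sp S} (f : F ⟶ G) [Mono f] (T : Over S)
    (s s' : F.obj.obj (op T)) (h : f.hom.app (op T) s = f.hom.app (op T) s') : s = s' := by
  have e : yE.symm s ≫ f = yE.symm s' ≫ f := by
    apply yE.injective
    rw [yE_comp, yE_comp, Equiv.apply_symm_apply, Equiv.apply_symm_apply]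
    exact h
  have e' := (cancel_mono f).1 e
  simpa using congrArg yE e'

/-- If `F ⟶ h_U` is a monomorphism, any object of `ofSp F` maps to any object whose image is a
terminal object of `(Sch/U)`. -/
theorem exists_hom_of_mono {F : AlgSp.Sp S} {U : Over S} (Φ : AlgSt.ofSp F ⥤ᵇ overCat U)
    [Mono (AlgSt.spMapOfOver Φ)] (a₁ a₂ : (AlgSt.ofSp F).obj) (h₂ : IsIso (Φ.obj a₂).hom) :
    Nonempty (a₁ ⟶ a₂) := by
  haveI : IsIso (AlgSt.secHom Φ a₂) := by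
    unfold AlgSt.secHom
    infer_instance
  have hg : (AlgSt.secHom Φ a₁ ≫ inv (AlgSt.secHom Φ a₂)) ≫ AlgSt.secHom Φ a₂ =
      AlgSt.secHom Φ a₁ := by
    rw [Category.assoc, IsIso.inv_hom_id, Category.comp_id]
  have key : F.obj.map (AlgSt.secHom Φ a₁ ≫ inv (AlgSt.secHom Φ a₂)).op a₂.sec = a₁.sec := by
    apply app_injective_of_mono (AlgSt.spMapOfOver Φ) a₁.base
    have := AlgSt.secHom_comp Φ
      (⟨AlgSt.secHom Φ a₁ ≫ inv (AlgSt.secHom Φ a₂), rfl⟩ :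
        (⟨a₁.base, F.obj.map (AlgSt.secHom Φ a₁ ≫ inv (AlgSt.secHom Φ a₂)).op a₂.sec⟩ :
          (AlgSt.ofSp F).obj) ⟶ a₂)
    exact congrArg ULift.up (this.symm.trans hg)
  exact ⟨⟨AlgSt.secHom Φ a₁ ≫ inv (AlgSt.secHom Φ a₂), key⟩⟩

end sheaves

section faithful

variable {S : Scheme.{u}} {𝒳 : BasedCategory.{v, w} (Over S)}
  {𝒴 : BasedCategory.{v', w'} (Over S)}

/-- An automorphism killed by a morphism representable by algebraic spaces is trivial. -/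
theorem aut_eq_id (h𝒴 : IsFibGrpd 𝒴.p) (f : 𝒳 ⥤ᵇ 𝒴) (hf : AlgSt.RepByAlgSp1 f) {x : 𝒳.obj}
    (χ : x ⟶ x) (hχ : f.map χ = 𝟙 (f.obj x)) : χ = 𝟙 x := by
  haveI : 𝒴.p.IsFibered := isFibered_of_isFibGrpd h𝒴
  have hy : 𝒴.p.obj (f.obj x) = 𝒳.p.obj x := f.w_obj x
  haveI := pullbackMap_id_isIso hy
  have hθ := pullbackMap_id_isHomLift hy
  let A : (fp (yonedaFunctor hy) f).obj :=
    fpObjMk (F := yonedaFunctor hy) (G := f) (Over.mk (𝟙 (𝒳.p.obj x))) x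
      (asIso (Functor.IsPreFibered.pullbackMap hy (ohom (𝒳.p.obj x) (Over.mk (𝟙 (𝒳.p.obj x))))))
      hθ
  let m : A ⟶ A := fpHomMk (𝟙 _) χ
    (sq_of_id _ _ _ ((yonedaFunctor hy).toFunctor.map_id _) hχ)
  obtain ⟨F, e, he⟩ := hf _ (yonedaFunctor hy)
  obtain ⟨G, ⟨e₁⟩, ⟨e₂⟩⟩ := he
  have hG : IsEquivOver G := isEquivOver_inverse e₁ e₂
  haveI := faithful_of_isEquivOver hG
  have hm : (fp (yonedaFunctor hy) f).p.IsHomLift (𝟙 (𝒳.p.obj x)) m :=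
    fp_isHomLift_of_fst m _
      (IsHomLift.id (p := (overCat (𝒳.p.obj x)).p) (a := Over.mk (𝟙 (𝒳.p.obj x))) rfl)
  have hGm : (AlgSt.ofSp F.obj).p.IsHomLift (𝟙 (𝒳.p.obj x)) (G.map m) := by
    haveI := hm
    exact BasedFunctor.preserves_isHomLift G (𝟙 (𝒳.p.obj x)) m
  have h1 : G.map m = 𝟙 _ := eltHom_eq_id _ hGm
  have h2 : m = 𝟙 A := G.toFunctor.map_injective (h1.trans (G.toFunctor.map_id A).symm)
  exact congrArg (fun n => n.hom.snd) h2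

theorem faithful_of_repByAlgSp1 (h𝒳 : IsFibGrpd 𝒳.p) (h𝒴 : IsFibGrpd 𝒴.p) (f : 𝒳 ⥤ᵇ 𝒴)
    (hf : AlgSt.RepByAlgSp1 f) : f.toFunctor.Faithful where
  map_injective := by
    intro x₁ x₂ α α' h
    have hα : 𝒳.p.IsHomLift (𝒳.p.map α) α := inferInstance
    have hα' : 𝒳.p.IsHomLift (𝒳.p.map α) α' := by
      rw [← BasedFunctor.isHomLift_iff f]
      have : 𝒴.p.IsHomLift (𝒳.p.map α) (f.map α) := inferInstance
      exact h ▸ this
    obtain ⟨χ, hχ, e⟩ := exists_hom_of_lifts h𝒳 (𝒳.p.map α) α' α hα' hα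
    have hfχ : f.map χ = 𝟙 _ := by
      have hc : 𝒴.p.IsHomLift (𝒳.p.map α) (f.map α) := inferInstance
      haveI := isStronglyCartesian_of_isFibGrpd h𝒴 (𝒳.p.map α) (f.map α)
      have h1 : 𝒴.p.IsHomLift (𝟙 (𝒳.p.obj x₁)) (f.map χ) := inferInstance
      have h2 : 𝒴.p.IsHomLift (𝟙 (𝒳.p.obj x₁)) (𝟙 (f.obj x₁)) := IsHomLift.id (f.w_obj x₁)
      apply Functor.IsStronglyCartesian.ext 𝒴.p (𝒳.p.map α) (f.map α) (𝟙 (𝒳.p.obj x₁))
      rw [← f.map_comp, e, Category.id_comp]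
      exact h.symm
    rw [← e, aut_eq_id h𝒴 f hf χ hfχ, Category.id_comp]

theorem repByAlgSp1_of_isMono {f : 𝒳 ⥤ᵇ 𝒴} (hf : AlgSt.IsMono f) : AlgSt.RepByAlgSp1 f := by
  intro U y
  obtain ⟨F, e, he, -⟩ := hf U y
  exact ⟨F, e, he⟩

/-- The fibrewise form of fullness of a monomorphism. -/
theorem exists_preimage_of_mono (h𝒴 : IsFibGrpd 𝒴.p) (j : 𝒳 ⥤ᵇ 𝒴) (hj : AlgSt.IsMono j)
    {x₁ x₂ : 𝒳.obj} (β : j.obj x₁ ⟶ j.obj x₂) (hβ : 𝒴.p.IsHomLift (𝟙 (𝒳.p.obj x₁)) β) :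
    ∃ α : x₁ ⟶ x₂, j.map α = β := by
  haveI : 𝒴.p.IsFibered := isFibered_of_isFibGrpd h𝒴
  have hy : 𝒴.p.obj (j.obj x₁) = 𝒳.p.obj x₁ := j.w_obj x₁
  haveI := pullbackMap_id_isIso hy
  have hθ := pullbackMap_id_isHomLift hy
  haveI : IsIso β := isIso_of_isFibGrpd_id h𝒴 (R := 𝒳.p.obj x₁) β
  let θ : (yonedaFunctor hy).obj (Over.mk (𝟙 (𝒳.p.obj x₁))) ≅ j.obj x₁ :=
    asIso (Functor.IsPreFibered.pullbackMap hy (ohom (𝒳.p.obj x₁) (Over.mk (𝟙 (𝒳.p.obj x₁)))))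
  let A₁ : (fp (yonedaFunctor hy) j).obj :=
    fpObjMk (F := yonedaFunctor hy) (G := j) (Over.mk (𝟙 (𝒳.p.obj x₁))) x₁ θ hθ
  let A₂ : (fp (yonedaFunctor hy) j).obj :=
    fpObjMk (F := yonedaFunctor hy) (G := j) (Over.mk (𝟙 (𝒳.p.obj x₁))) x₂ (θ ≪≫ asIso β)
      (isHomLift_comp_of_id θ.hom β hθ hβ)
  obtain ⟨F, e, he, hmono⟩ := hj _ (yonedaFunctor hy)
  haveI : Mono (AlgSt.spMapOfOver (BasedFunctor.comp e (fpFst (yonedaFunctor hy) j))) := hmono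
  obtain ⟨a₁, φ₁, -⟩ := essSurjOver_of_isEquivOver he A₁
  obtain ⟨a₂, φ₂, -⟩ := essSurjOver_of_isEquivOver he A₂
  let κ₂ : (BasedFunctor.comp e (fpFst (yonedaFunctor hy) j)).obj a₂ ≅
      Over.mk (𝟙 (𝒳.p.obj x₁)) := (fpFst (yonedaFunctor hy) j).toFunctor.mapIso φ₂
  have hiso : IsIso ((BasedFunctor.comp e (fpFst (yonedaFunctor hy) j)).obj a₂).hom := by
    have h1 : κ₂.hom.left =
        ((BasedFunctor.comp e (fpFst (yonedaFunctor hy) j)).obj a₂).hom := by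
      have := Over.w κ₂.hom
      simpa using this
    have h2 : IsIso κ₂.hom.left :=
      (inferInstance : IsIso ((Over.forget (𝒳.p.obj x₁)).map κ₂.hom))
    rw [← h1]
    exact h2
  obtain ⟨ψ⟩ := exists_hom_of_mono (BasedFunctor.comp e (fpFst (yonedaFunctor hy) j)) a₁ a₂ hiso
  let n : A₁ ⟶ A₂ := φ₁.inv ≫ e.map ψ ≫ φ₂.hom
  have h1 : n.hom.fst = 𝟙 (Over.mk (𝟙 (𝒳.p.obj x₁))) := over_end_id _
  have hw : (yonedaFunctor hy).map n.hom.fst ≫ (θ.hom ≫ β) = θ.hom ≫ j.map n.hom.snd := n.hom.w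
  refine ⟨n.hom.snd, ?_⟩
  exact cancel_aux ((yonedaFunctor hy).map n.hom.fst) θ β (j.map n.hom.snd)
    ((congrArg (yonedaFunctor hy).toFunctor.map h1).trans
      ((yonedaFunctor hy).toFunctor.map_id _)) hw

theorem full_of_isMono (h𝒳 : IsFibGrpd 𝒳.p) (h𝒴 : IsFibGrpd 𝒴.p) (j : 𝒳 ⥤ᵇ 𝒴)
    (hj : AlgSt.IsMono j) : j.toFunctor.Full where
  map_surjective := by
    intro x₁ x₂ β
    have hb : 𝒴.p.IsHomLift (baseHom β (j.w_obj x₁) (j.w_obj x₂)) β :=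
      baseHom_isHomLift β _ _
    obtain ⟨x₂', ψ, hψ⟩ := exists_lift_of_isFibGrpd h𝒳 (x := x₂) rfl
      (baseHom β (j.w_obj x₁) (j.w_obj x₂))
    have hjψ : 𝒴.p.IsHomLift (baseHom β (j.w_obj x₁) (j.w_obj x₂)) (j.map ψ) := inferInstance
    obtain ⟨β', hβ', eβ'⟩ := exists_hom_of_lifts h𝒴 _ β (j.map ψ) hb hjψ
    obtain ⟨α', hα'⟩ := exists_preimage_of_mono h𝒴 j hj β' hβ'
    refine ⟨α' ≫ ψ, ?_⟩
    rw [j.toFunctor.map_comp]
    exact (congrArg (· ≫ j.map ψ) hα').trans eβ'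

/-- A full functor between categories fibred in groupoids is injective on points. -/
theorem map_injective_of_full (h𝒳 : IsFibGrpd 𝒳.p) (h𝒴 : IsFibGrpd 𝒴.p) (f : 𝒳 ⥤ᵇ 𝒴)
    [f.toFunctor.Full] : Function.Injective (AlgSt.Points.map f) := by
  intro a b hab
  obtain ⟨p, rfl⟩ := AlgSt.Points.mk_surjective a
  obtain ⟨q, rfl⟩ := AlgSt.Points.mk_surjective b
  obtain ⟨r, u, v, -⟩ := (mk_eq_mk_iff h𝒴).1 hab
  have hp : 𝒴.p.obj (f.obj p.obj) = Over.mk p.str := (p.map f).lies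
  have hq : 𝒴.p.obj (f.obj q.obj) = Over.mk q.str := (q.map f).lies
  have hu : 𝒴.p.IsHomLift (baseHom u r.lies hp) u := baseHom_isHomLift u r.lies hp
  have hv : 𝒴.p.IsHomLift (baseHom v r.lies hq) v := baseHom_isHomLift v r.lies hq
  obtain ⟨p', φ, hφ⟩ := exists_lift_of_isFibGrpd h𝒳 p.lies (baseHom u r.lies hp)
  obtain ⟨q', ψ, hψ⟩ := exists_lift_of_isFibGrpd h𝒳 q.lies (baseHom v r.lies hq)
  have hfφ : 𝒴.p.IsHomLift (baseHom u r.lies hp) (f.map φ) := inferInstance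
  have hfψ : 𝒴.p.IsHomLift (baseHom v r.lies hq) (f.map ψ) := inferInstance
  obtain ⟨χ₁, -, -⟩ := exists_hom_of_lifts h𝒴 _ (f.map φ) u hfφ hu
  obtain ⟨χ₂, -, -⟩ := exists_hom_of_lifts h𝒴 _ v (f.map ψ) hv hfψ
  obtain ⟨α, -⟩ := f.toFunctor.map_surjective (χ₁ ≫ χ₂)
  exact AlgSt.Points.sound
    ⟨⟨r.K, r.str, p', IsHomLift.domain_eq 𝒳.p (baseHom u r.lies hp) φ⟩, φ, α ≫ ψ, trivial⟩

end faithful

section sq

variable {C : Type u₁} [Category.{v₁} C] {𝒳 : BasedCategory.{v₂, u₂} C}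
  {𝒳' : BasedCategory.{v₃, u₃} C} {𝒴 : BasedCategory.{v₄, u₄} C}
  (i : 𝒳 ⥤ᵇ 𝒳') (g : 𝒳' ⥤ᵇ 𝒴)

local notation "ig" => BasedFunctor.comp i g

/-- The comparison functor of the square of diagonals. -/
def monoSq : 𝒳 ⥤ᵇ fp (Psi i i g) (FibCat.diag g) :=
  fpLift (F := Psi i i g) (G := FibCat.diag g) (FibCat.diag ig) i (Iso.refl _)

instance monoSq_faithful : (monoSq i g).toFunctor.Faithful where
  map_injective := by
    intro x x' m m' h
    exact congrArg (fun n => n.hom.fst.hom.fst) h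

instance monoSq_full [i.toFunctor.Faithful] : (monoSq i g).toFunctor.Full where
  map_surjective := by
    intro x x' n
    have h1 : i.toFunctor.map n.hom.fst.hom.fst ≫ 𝟙 _ = 𝟙 _ ≫ n.hom.snd :=
      congrArg (fun m => m.hom.fst) n.hom.w
    have h2 : i.toFunctor.map n.hom.fst.hom.snd ≫ 𝟙 _ = 𝟙 _ ≫ n.hom.snd :=
      congrArg (fun m => m.hom.snd) n.hom.w
    have h1' : i.toFunctor.map n.hom.fst.hom.fst = n.hom.snd :=
      (Category.comp_id _).symm.trans (h1.trans (Category.id_comp _))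
    have h2' : i.toFunctor.map n.hom.fst.hom.snd = n.hom.snd :=
      (Category.comp_id _).symm.trans (h2.trans (Category.id_comp _))
    have h3 : n.hom.fst.hom.snd = n.hom.fst.hom.fst :=
      i.toFunctor.map_injective (h2'.trans h1'.symm)
    refine ⟨n.hom.fst.hom.fst, ?_⟩
    apply fp_hom_ext
    · apply fp_hom_ext
      · rfl
      · exact h3.symm
    · exact h1'

theorem monoSq_essSurj [i.toFunctor.Full] [i.toFunctor.Faithful]
    (V : (fp (Psi i i g) (FibCat.diag g)).obj) :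
    ∃ (x : 𝒳.obj) (φ : (monoSq i g).obj x ≅ V),
      (fp (Psi i i g) (FibCat.diag g)).p.IsHomLift
        (𝟙 ((fp (Psi i i g) (FibCat.diag g)).p.obj V)) φ.hom := by
  let W : (fp ig ig).obj := V.obj.fst
  let κ₁ : i.obj W.obj.fst ≅ V.obj.snd := (fpFst g g).toFunctor.mapIso V.obj.iso
  let κ₂ : i.obj W.obj.snd ≅ V.obj.snd := (fpSnd g g).toFunctor.mapIso V.obj.iso
  have hκ : g.toFunctor.map κ₁.hom ≫ 𝟙 _ = W.obj.iso.hom ≫ g.toFunctor.map κ₂.hom :=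
    V.obj.iso.hom.hom.w
  obtain ⟨α, hα⟩ := i.toFunctor.map_surjective (κ₁.hom ≫ κ₂.inv)
  haveI : IsIso (i.toFunctor.map α) := by rw [hα]; infer_instance
  haveI : IsIso α := isIso_of_fully_faithful i.toFunctor α
  have hκ₂' : g.toFunctor.map κ₂.hom ≫ g.toFunctor.map κ₂.inv = 𝟙 _ := by
    rw [← g.toFunctor.map_comp, κ₂.hom_inv_id, g.toFunctor.map_id]
  have hθ : g.toFunctor.map (i.toFunctor.map α) = W.obj.iso.hom := by
    rw [hα]
    exact (g.toFunctor.map_comp _ _).trans (theta_aux hκ hκ₂')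
  let a : (FibCat.diag ig).obj W.obj.fst ≅ W :=
    fpIsoMk (F := ig) (G := ig) (X := (FibCat.diag ig).obj W.obj.fst) (Y := W) (Iso.refl _)
      (asIso α) (by
      show g.toFunctor.map (i.toFunctor.map (𝟙 W.obj.fst)) ≫ W.obj.iso.hom =
        𝟙 _ ≫ g.toFunctor.map (i.toFunctor.map α)
      rw [hθ, i.toFunctor.map_id, g.toFunctor.map_id])
  refine ⟨W.obj.fst, fpIsoMk (F := Psi i i g) (G := FibCat.diag g)
    (X := (monoSq i g).obj W.obj.fst) (Y := V) a κ₁ ?_, ?_⟩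
  · apply fp_hom_ext
    · show i.toFunctor.map (𝟙 W.obj.fst) ≫ κ₁.hom = 𝟙 _ ≫ κ₁.hom
      rw [i.toFunctor.map_id]
    · show i.toFunctor.map α ≫ κ₂.hom = 𝟙 _ ≫ κ₁.hom
      rw [hα, Category.assoc, κ₂.inv_hom_id, Category.comp_id, Category.id_comp]
  · apply fpIsoMk_isHomLift
    apply fpIsoMk_isHomLift
    exact (inferInstance : 𝒳.p.IsHomLift (𝟙 (𝒳.p.obj W.obj.fst)) (𝟙 W.obj.fst))

theorem monoSq_isEquivOver [i.toFunctor.Full] [i.toFunctor.Faithful] :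
    IsEquivOver (monoSq i g) :=
  isEquivOver_of_fullyFaithful (monoSq i g) (monoSq_essSurj i g)

end sq

end Groth.Agent.Lib.AlgStMono
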