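import Groth.Agent.Lib.AlgStOpenSub3_lead
import Groth.Agent.Lib.AlgStMono_lead
import Groth.Agent.Lib.AlgSpTop_helper7
import Groth.Agent.Lib.AlgSpUniv_helper7

/-! # The essential image of an immersion is a locally closed substack (lead) -/

set_option autoImplicit false

universe w v₁ v₂ v₃ v₄ v₅ v₆ u₁ u₂ u₃ u₄ u₅ u₆ u

open CategoryTheory CategoryTheory.Limits AlgebraicGeometry Opposite FibCat Stk

namespace Groth.Agent.Lib.AlgStLocQ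

open AlgSt Groth.Agent.Lib.FibCat_helper6 Groth.Agent.Lib.FibCat3_helper6
  Groth.Agent.Lib.FibCat14_helper6 Groth.Agent.Lib.FibCat12_helper6
  Groth.Agent.Lib.FibCatPaste Groth.Agent.Lib.FibCatSwap
  Groth.Agent.Lib.FibCatIsoFun
  Groth.Agent.Lib.OfPshCalc Groth.Agent.Lib.AlgStBC
  Groth.Agent.Lib.AlgStEquiv Groth.Agent.Lib.AlgStEquivP Groth.Agent.Lib.AlgStEquivInv
  Groth.Agent.Lib.OfPshAlgSt Groth.Agent.Lib.LiftSqBC Groth.Agent.Lib.LiftSqComp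
  Groth.Agent.Lib.OfPshWith Groth.Agent.Lib.FibCatDiagSec Groth.Agent.Lib.AlgStDiagRep
  Groth.Agent.Lib.FibCatDiagBC Groth.Agent.Lib.FibCatMagic Groth.Agent.Lib.FibCatProd
  Groth.Agent.Lib.AlgStDiag Groth.Agent.Lib.AlgStLocal
  Groth.Agent.Lib.AlgSpQC_helper7 Groth.Agent.Lib.AlgSpDiag_helper7
  Groth.Agent.Lib.AlgSpPullback_helper7 Groth.Agent.Lib.AlgSpRepBySp_helper7
  Groth.Agent.Lib.AlgSpPoints_helper7 Groth.Agent.Lib.AlgSpLocP_helper7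
  Groth.Agent.Lib.AlgSpBasic_helper7 Groth.Agent.Lib.AlgSpSep_helper7
  Groth.Agent.Lib.AlgSpLocP4_helper7 Groth.Agent.Lib.AlgSpLocP5_helper7
  Groth.Agent.Lib.AlgSpLocP7_helper7 Groth.Agent.Lib.AlgSpQC2_helper7
  Groth.Agent.Lib.AlgSpLocP8_helper7 Groth.Agent.Lib.AlgSpLocP10_helper7
  Groth.Agent.Lib.AlgSpFpqc3_helper7 Groth.Agent.Lib.AlgSpLocP6_helper7
  Groth.Agent.Lib.AlgSpFpqc2_helper7 Groth.Agent.Lib.AlgSpFpqc_helper7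
  Groth.Agent.Lib.AlgSpProper_helper7 Groth.Agent.Lib.AlgSpAffineMorH7
  Groth.Agent.Lib.AlgStAtlas Groth.Agent.Lib.AlgStPoints Groth.Agent.Lib.AlgStPtsCmp
  Groth.Agent.Lib.FibCatYoneda_helper6



variable {S : Scheme.{u}}

section essImage

variable {𝒵 𝒳 : AlgSt.Cat S}

/-- The essential image of a functor. -/
def EssIm (i : 𝒵 ⥤ᵇ 𝒳) (x : 𝒳.obj) : Prop := ∃ z : 𝒵.obj, Nonempty (i.obj z ≅ x)

theorem essIm_obj (i : 𝒵 ⥤ᵇ 𝒳) (z : 𝒵.obj) : EssIm i (i.obj z) := ⟨z, ⟨Iso.refl _⟩⟩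

theorem essIm_closed (i : 𝒵 ⥤ᵇ 𝒳) : ObjectProperty.IsClosedUnderIsomorphisms (EssIm i) :=
  ⟨fun e h => by
    obtain ⟨z, ⟨θ⟩⟩ := h
    exact ⟨z, ⟨θ ≪≫ e⟩⟩⟩

/-- An object mapping to an image is isomorphic, over the identity, to an image. -/
theorem exists_iso_of_hom (h𝒵 : IsFibGrpd 𝒵.p) (h𝒳 : IsFibGrpd 𝒳.p) (i : 𝒵 ⥤ᵇ 𝒳)
    {z : 𝒵.obj} {b : 𝒳.obj} (φ : b ⟶ i.obj z) :
    ∃ (z' : 𝒵.obj) (χ : i.obj z' ≅ b), 𝒳.p.IsHomLift (𝟙 (𝒳.p.obj b)) χ.hom := by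
  let γ : 𝒳.p.obj b ⟶ 𝒵.p.obj z := baseHom φ rfl (i.w_obj z)
  have hφ : 𝒳.p.IsHomLift γ φ := baseHom_isHomLift φ rfl (i.w_obj z)
  obtain ⟨z', ψ, hψ⟩ := h𝒵.exists_lift (x := z) γ
  have hm : 𝒳.p.IsHomLift γ (i.map ψ) := (BasedFunctor.isHomLift_iff i γ ψ).2 hψ
  obtain ⟨χ, hχ, -⟩ := exists_hom_of_lifts h𝒳 γ φ (i.map ψ) hφ hm
  haveI : IsIso χ := isIso_of_isFibGrpd_id h𝒳 (R := 𝒳.p.obj b) χ
  refine ⟨z', (asIso χ).symm, ?_⟩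
  show 𝒳.p.IsHomLift (𝟙 (𝒳.p.obj b)) (inv χ)
  infer_instance

/-- The essential image is stable under pullback. -/
theorem essIm_of_hom (h𝒵 : IsFibGrpd 𝒵.p) (h𝒳 : IsFibGrpd 𝒳.p) (i : 𝒵 ⥤ᵇ 𝒳) {a b : 𝒳.obj}
    (φ : b ⟶ a) (ha : EssIm i a) : EssIm i b := by
  obtain ⟨z, ⟨θ⟩⟩ := ha
  obtain ⟨z', χ, -⟩ := exists_iso_of_hom h𝒵 h𝒳 i (φ ≫ θ.inv)
  exact ⟨z', ⟨χ⟩⟩

instance corestr_faithful (i : 𝒵 ⥤ᵇ 𝒳) [i.toFunctor.Faithful] :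
    (liftSub (EssIm i) i (essIm_obj i)).toFunctor.Faithful where
  map_injective := by
    intro z₁ z₂ m m' h
    exact i.toFunctor.map_injective (congrArg (fun n => n.hom) h)

instance corestr_full (i : 𝒵 ⥤ᵇ 𝒳) [i.toFunctor.Full] :
    (liftSub (EssIm i) i (essIm_obj i)).toFunctor.Full where
  map_surjective := by
    intro z₁ z₂ n
    have n' : i.obj z₁ ⟶ i.obj z₂ := n.hom
    obtain ⟨m, hm⟩ := i.toFunctor.map_surjective n.hom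
    exact ⟨m, ObjectProperty.hom_ext _ hm⟩

/-- A fully faithful functor is an equivalence onto its essential image. -/
theorem corestr_isEquivOver (h𝒵 : IsFibGrpd 𝒵.p) (h𝒳 : IsFibGrpd 𝒳.p) (i : 𝒵 ⥤ᵇ 𝒳)
    [i.toFunctor.Full] [i.toFunctor.Faithful] :
    IsEquivOver (liftSub (EssIm i) i (essIm_obj i)) := by
  apply isEquivOver_of_fullyFaithful
  intro y
  obtain ⟨z, ⟨θ⟩⟩ := y.property
  obtain ⟨z', φ, hφ⟩ := exists_iso_of_hom h𝒵 h𝒳 i θ.inv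
  refine ⟨z', ObjectProperty.isoMk (P := EssIm i) φ, ?_⟩
  exact (fullSub_isHomLift_iff (EssIm i) _ _).2 hφ

/-- The inclusion of the essential image of a fully faithful functor inherits its properties. -/
theorem repWith_subIncl_essIm (h𝒵 : IsFibGrpd 𝒵.p) (h𝒳 : IsFibGrpd 𝒳.p) (i : 𝒵 ⥤ᵇ 𝒳)
    [i.toFunctor.Full] [i.toFunctor.Faithful] (P : MorphismProperty (AlgSp.Sp S))
    (hi : AlgSt.RepByAlgSpWith P i) :
    AlgSt.RepByAlgSpWith P (AlgSt.subIncl 𝒳 (EssIm i)) := by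
  obtain ⟨k, ⟨η⟩, ⟨ε⟩⟩ := corestr_isEquivOver h𝒵 h𝒳 i
  have hk : IsEquivOver k := isEquivOver_inverse η ε
  have h1 : AlgSt.RepByAlgSpWith P (BasedFunctor.comp k i) := repWith_precomp_equiv P k hk i hi
  have iso : BasedFunctor.comp k i ≅ AlgSt.subIncl 𝒳 (EssIm i) :=
    whiskerRightIso ε (AlgSt.subIncl 𝒳 (EssIm i))
  exact repWith_of_iso P iso h1

/-- S12878. -/
theorem exists_unique_locClosed_image (h𝒵 : AlgSt.IsAlgStack Scheme.fppfPrecoverage 𝒵)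
    (h𝒳 : AlgSt.IsAlgStack Scheme.fppfPrecoverage 𝒳) (i : 𝒵 ⥤ᵇ 𝒳) (hi : AlgSt.IsImm i) :
    ∃ Q : 𝒳.obj → Prop,
      (AlgSt.IsLocClosedSubstack 𝒳 Q Scheme.fppfPrecoverage ∧
        (∃ i' : 𝒵 ⥤ᵇ AlgSt.fullSub 𝒳 Q, FibCat.IsEquivOver i' ∧
          Nonempty (BasedFunctor.comp i' (AlgSt.subIncl 𝒳 Q) ≅ i)) ∧
        (AlgSt.IsClosedImm i → AlgSt.IsClosedSubstack 𝒳 Q Scheme.fppfPrecoverage) ∧
        (AlgSt.IsOpenImm i → AlgSt.IsOpenSubstack 𝒳 Q Scheme.fppfPrecoverage)) ∧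
      ∀ Q' : 𝒳.obj → Prop, AlgSt.IsLocClosedSubstack 𝒳 Q' Scheme.fppfPrecoverage →
        (∃ i' : 𝒵 ⥤ᵇ AlgSt.fullSub 𝒳 Q', FibCat.IsEquivOver i' ∧
          Nonempty (BasedFunctor.comp i' (AlgSt.subIncl 𝒳 Q') ≅ i)) → Q' = Q := by
  have h𝒵g : IsFibGrpd 𝒵.p := h𝒵.isStack.1
  have h𝒳g : IsFibGrpd 𝒳.p := h𝒳.isStack.1
  have hmono : AlgSt.IsMono i :=
    repWith_mono' (fun X U a _ (ha : AlgSp.RepWith @IsImmersion a) =>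
      mono_of_repWith_le_mono (fun _ _ g (hg : IsImmersion g) => (inferInstance : Mono g)) a ha)
      i hi
  haveI : i.toFunctor.Full := Groth.Agent.Lib.AlgStMono.full_of_isMono h𝒵g h𝒳g i hmono
  haveI : i.toFunctor.Faithful :=
    Groth.Agent.Lib.AlgStMono.faithful_of_repByAlgSp1 h𝒵g h𝒳g i
      (Groth.Agent.Lib.AlgStMono.repByAlgSp1_of_isMono hmono)
  have he := corestr_isEquivOver h𝒵g h𝒳g i
  have halg : AlgSt.IsAlgStack Scheme.fppfPrecoverage (AlgSt.fullSub 𝒳 (EssIm i)) :=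
    isAlgStack_of_equiv _ _ he h𝒵
  refine ⟨EssIm i, ⟨⟨essIm_closed i, halg, repWith_subIncl_essIm h𝒵g h𝒳g i _ hi⟩,
    ⟨liftSub (EssIm i) i (essIm_obj i), he, ⟨Iso.refl _⟩⟩,
    fun hc => ⟨essIm_closed i, halg, repWith_subIncl_essIm h𝒵g h𝒳g i _ hc⟩,
    fun ho => ⟨essIm_closed i, halg, repWith_subIncl_essIm h𝒵g h𝒳g i _ ho⟩⟩, ?_⟩
  rintro Q' ⟨hcl, -, -⟩ ⟨i'', he'', ⟨ι⟩⟩
  funext x
  apply propext
  constructor
  · intro hx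
    obtain ⟨z, φ, -⟩ := essSurjOver_of_isEquivOver he'' (⟨x, hx⟩ : (AlgSt.fullSub 𝒳 Q').obj)
    exact ⟨z, ⟨(((BasedNatTrans.forgetful _ _).mapIso ι).app z).symm ≪≫
      (AlgSt.subIncl 𝒳 Q').toFunctor.mapIso φ⟩⟩
  · rintro ⟨z, ⟨θ⟩⟩
    exact hcl.of_iso (((BasedNatTrans.forgetful _ _).mapIso ι).app z ≪≫ θ) (i''.obj z).property

end essImage

end Groth.Agent.Lib.AlgStLocQ
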