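import Groth.Agent.Lib.OfPshWith2_lead
import Mathlib.CategoryTheory.Sites.ConcreteSheafification
import Mathlib.CategoryTheory.Limits.FunctorCategory.EpiMono

/-!
# Composition of monomorphisms of algebraic stacks (lead)
-/

set_option autoImplicit false

universe u

open CategoryTheory CategoryTheory.Limits AlgebraicGeometry Opposite FibCat Stk

namespace Groth.Agent.Lib.OfPshWith

variable {S : Scheme.{u}}

theorem schemeTestable_mono :
    SchemeTestable (MorphismProperty.monomorphisms (AlgSp.Sp S)) := by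
  intro V Z₀ a hV hZ₀ ha
  show Mono a
  have hinj : ∀ T : Over S, Function.Injective (a.hom.app (op T)) := by
    intro T x y hxy
    let ζ : Z₀.obj.obj (op T) := a.hom.app (op T) x
    let ξ : (AlgSp.pyon S).obj T ⟶ Z₀.obj := uliftYonedaEquiv.symm ζ
    have sq : IsPullback (pullback.fst a.hom ξ) (pullback.snd a.hom ξ) a.hom ξ :=
      IsPullback.of_hasPullback a.hom ξ
    obtain ⟨hs, hA, hq⟩ := ha ξ _ _ sq
    have hq' : Mono (ObjectProperty.homMk (pullback.snd a.hom ξ) :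
        (⟨pullback a.hom ξ, hs⟩ : AlgSp.Sp S) ⟶ (AlgSp.yon S).obj T) := hq
    have hm : Mono (pullback.snd a.hom ξ) :=
      (Sheaf.Hom.mono_iff_presheaf_mono (AlgSp.J S) (Type (u + 1)) _).1 hq'
    have hm' : Mono ((pullback.snd a.hom ξ).app (op T)) :=
      (NatTrans.mono_iff_mono_app (pullback.snd a.hom ξ)).1 hm (op T)
    have hinj' : Function.Injective ((pullback.snd a.hom ξ).app (op T)) :=
      (mono_iff_injective _).1 hm'
    have hξ : ξ.app (op T) ⟨𝟙 T⟩ = ζ := by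
      show Z₀.obj.map (𝟙 T).op ζ = ζ
      rw [op_id, FunctorToTypes.map_id_apply]
    obtain ⟨s₁, h11, h12⟩ := Types.exists_of_isPullback (sq.app (op T)) x ⟨𝟙 T⟩ hξ.symm
    obtain ⟨s₂, h21, h22⟩ := Types.exists_of_isPullback (sq.app (op T)) y ⟨𝟙 T⟩
      (hxy.symm.trans hξ.symm)
    have h12' : s₁ = s₂ := hinj' (h12.trans h22.symm)
    rw [← h11, ← h21, h12']
  have hmono : Mono a.hom := by
    rw [NatTrans.mono_iff_mono_app]
    intro T
    exact (mono_iff_injective _).2 (hinj T.unop)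
  exact (Sheaf.Hom.mono_iff_presheaf_mono (AlgSp.J S) (Type (u + 1)) a).2 hmono

theorem repWith_mono_comp {𝒳 𝒴 𝒵 : AlgSt.Cat S} (h𝒳 : IsFibGrpd 𝒳.p) (h𝒴 : IsFibGrpd 𝒴.p)
    (f : 𝒳 ⥤ᵇ 𝒴) (g : 𝒴 ⥤ᵇ 𝒵) (hf : AlgSt.IsMono f) (hg : AlgSt.IsMono g) :
    AlgSt.IsMono (BasedFunctor.comp f g) :=
  repWith_comp' h𝒳 h𝒴 _ (isoInv_of_respectsIso _) schemeTestable_mono
    (fun _ _ _ _ _ _ a b (ha : Mono a) (hb : Mono b) => (mono_comp a b : Mono (a ≫ b)))
    f g hf hg

end Groth.Agent.Lib.OfPshWith
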