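import Groth.Agent.Lib.AlgStImmNoeth_lead
import Groth.Agent.Lib.AlgStEssIm_lead
import Groth.Agent.Lib.OfPshWith4_lead
import Groth.Agent.Lib.AlgSpOpenSub_helper7
import Groth.Agent.Lib.AlgSpFieldFlat_helper7

/-! # Quasi-compactness of monomorphisms by the dense-lift criterion (lead) -/

set_option autoImplicit false
set_option linter.style.haveILetI false
set_option backward.isDefEq.respectTransparency false
set_option backward.isDefEq.respectTransparency.types false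

universe w v₁ v₂ v₃ v₄ v₅ v₆ u₁ u₂ u₃ u₄ u₅ u₆ u

open CategoryTheory CategoryTheory.Limits AlgebraicGeometry Opposite FibCat Stk

namespace Groth.Agent.Lib.AlgStLocQ

open AlgSt Groth.Agent.Lib.FibCat_helper6 Groth.Agent.Lib.FibCat3_helper6
  Groth.Agent.Lib.FibCat14_helper6 Groth.Agent.Lib.FibCat12_helper6
  Groth.Agent.Lib.FibCatPaste Groth.Agent.Lib.FibCatSwap
  Groth.Agent.Lib.FibCatIsoFun
  Groth.Agent.Lib.OfPshCalc Groth.Agent.Lib.AlgStBC
  Groth.Agent.Lib.AlgStEquiv Groth.Agent.Lib.AlgStEquivP Groth.Agent.Lib.AlgStEquivInv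
  Groth.Agent.Lib.OfPshAlgSt Groth.Agent.Lib.LiftSqBC Groth.Agent.Lib.LiftSqComp
  Groth.Agent.Lib.OfPshWith Groth.Agent.Lib.FibCatDiagSec Groth.Agent.Lib.AlgStDiagRep
  Groth.Agent.Lib.FibCatDiagBC Groth.Agent.Lib.FibCatMagic Groth.Agent.Lib.FibCatProd
  Groth.Agent.Lib.AlgStDiag Groth.Agent.Lib.AlgStLocal
  Groth.Agent.Lib.AlgSpQC_helper7 Groth.Agent.Lib.AlgSpDiag_helper7
  Groth.Agent.Lib.AlgSpPullback_helper7 Groth.Agent.Lib.AlgSpRepBySp_helper7
  Groth.Agent.Lib.AlgSpPoints_helper7 Groth.Agent.Lib.AlgSpLocP_helper7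
  Groth.Agent.Lib.AlgSpBasic_helper7 Groth.Agent.Lib.AlgSpSep_helper7
  Groth.Agent.Lib.AlgSpLocP4_helper7 Groth.Agent.Lib.AlgSpLocP5_helper7
  Groth.Agent.Lib.AlgSpLocP7_helper7 Groth.Agent.Lib.AlgSpQC2_helper7
  Groth.Agent.Lib.AlgSpLocP8_helper7 Groth.Agent.Lib.AlgSpLocP10_helper7
  Groth.Agent.Lib.AlgSpFpqc3_helper7 Groth.Agent.Lib.AlgSpLocP6_helper7
  Groth.Agent.Lib.AlgSpFpqc2_helper7 Groth.Agent.Lib.AlgSpFpqc_helper7
  Groth.Agent.Lib.AlgSpProper_helper7 Groth.Agent.Lib.AlgSpAffineMorH7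
  Groth.Agent.Lib.AlgStAtlas Groth.Agent.Lib.AlgStPoints Groth.Agent.Lib.AlgStPtsCmp
  Groth.Agent.Lib.FibCatYoneda_helper6 Groth.Agent.Lib.AlgSpFieldFlat_helper7

variable {S : Scheme.{u}}

section sp

/-- The dense-lift hypothesis for a morphism from a sheaf to a scheme. -/
def DenseLift {X : AlgSp.Sp S} {V : Over S} (c : X ⟶ (AlgSp.yon S).obj V) : Prop :=
  ∀ (A : Type u) [CommRing A] [IsDomain A] (sA : Spec (CommRingCat.of A) ⟶ S)
    (t : Over.mk sA ⟶ V) (D : Set ↥(Spec (CommRingCat.of A))), Dense D →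
    (∀ p ∈ D, ∃ σ : (AlgSp.yon S).obj
        (Over.mk ((Spec (CommRingCat.of A)).fromSpecResidueField p ≫ sA)) ⟶ X,
      σ ≫ c = (AlgSp.yon S).map
        ((Over.homMk ((Spec (CommRingCat.of A)).fromSpecResidueField p) rfl :
          Over.mk ((Spec (CommRingCat.of A)).fromSpecResidueField p ≫ sA) ⟶ Over.mk sA) ≫ t)) →
    ∃ U : (Spec (CommRingCat.of A)).Opens, (U : Set ↥(Spec (CommRingCat.of A))).Nonempty ∧
      ∃ σ : (AlgSp.yon S).obj (Over.mk (U.ι ≫ sA)) ⟶ X,
        σ ≫ c = (AlgSp.yon S).map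
          ((Over.homMk U.ι rfl : Over.mk (U.ι ≫ sA) ⟶ Over.mk sA) ≫ t)

theorem denseLift_of_isPullback {X X' : AlgSp.Sp S} {V V' : Over S}
    {c : X ⟶ (AlgSp.yon S).obj V} {g : V' ⟶ V} {fst : X' ⟶ X}
    {c' : X' ⟶ (AlgSp.yon S).obj V'} (sq : IsPullback fst c' c ((AlgSp.yon S).map g))
    (hc : DenseLift c) : DenseLift c' := by
  intro A _ _ sA t D hD hσ
  obtain ⟨U, hU, σ, hσU⟩ := hc A sA (t ≫ g) D hD (fun p hp => by
    obtain ⟨σ, hσp⟩ := hσ p hp
    refine ⟨σ ≫ fst, ?_⟩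
    rw [Category.assoc, sq.w, ← Category.assoc, hσp, ← Functor.map_comp, Category.assoc])
  refine ⟨U, hU, sq.lift σ ((AlgSp.yon S).map
    ((Over.homMk U.ι rfl : Over.mk (U.ι ≫ sA) ⟶ Over.mk sA) ≫ t)) ?_, sq.lift_snd _ _ _⟩
  rw [hσU, ← Functor.map_comp, Category.assoc]

theorem isQuasiCompactMor_of_isQuasiCompactSp_affine {X : AlgSp.Sp S}
    (hX : AlgSp.IsAlgSpace X) {V : Over S} [IsAffine V.left]
    (c : X ⟶ (AlgSp.yon S).obj V) (hq : AlgSp.IsQuasiCompactSp X) :
    AlgSp.IsQuasiCompactMor c := by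
  apply isQuasiCompactMor_of_forall_affine hX (AlgSp.IsAlgSpace.yon_obj V).diag
  intro Z hZ g P fst snd sq
  haveI : IsAffine Z.left := hZ
  obtain ⟨φ, rfl⟩ := (AlgSp.yon S).map_surjective g
  have hφ : QuasiCompact φ.left := (quasiCompact_iff_compactSpace φ.left).2 inferInstance
  have hg : AlgSp.RepWith @QuasiCompact ((AlgSp.yon S).map φ) :=
    (AlgSp.repWith_yon_map_iff @QuasiCompact φ).2 hφ
  exact isQuasiCompactSp_of_repWith_quasiCompact fst (repWith_fst_of_isPullback _ sq hg) hq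

/-- A monomorphism from an algebraic space hitting a field valued point has a section over it. -/
theorem exists_section_of_point {X : AlgSp.Sp S} (hX : AlgSp.IsAlgSpace X) {V : Over S}
    (c : X ⟶ (AlgSp.yon S).obj V) [Mono c] (K : Type u) [Field K]
    (sK : Spec (CommRingCat.of K) ⟶ S) (j : Over.mk sK ⟶ V) (x : AlgSp.Points X)
    (hx : AlgSp.Points.map c x =
      AlgSp.Points.ofScheme V (j.left (IsLocalRing.closedPoint K))) :
    ∃ σ : (AlgSp.yon S).obj (Over.mk sK) ⟶ X, σ ≫ c = (AlgSp.yon S).map j := by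
  have sq := IsPullback.of_hasPullback c ((AlgSp.yon S).map j)
  have hP : AlgSp.IsAlgSpace (pullback c ((AlgSp.yon S).map j)) :=
    isAlgSpace_of_isPullback (AlgSp.IsAlgSpace.yon_obj V).diag hX (AlgSp.IsAlgSpace.yon_obj _) sq
  obtain ⟨z, hz1, hz2⟩ := exists_of_isPullback sq x
    (AlgSp.Points.ofScheme (Over.mk sK) (IsLocalRing.closedPoint K)) (by
      rw [hx, ← AlgSp.Points.ofPt_eq_map_ofScheme, ofPt_yon_map])
  haveI hsub := subsingleton_points_field sK
  have hinj : Function.Injective (AlgSp.Points.map (pullback.snd c ((AlgSp.yon S).map j))) :=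
    Groth.Agent.Lib.AlgSpOpenSub_helper7.map_injective_of_mono _
  haveI : Subsingleton (AlgSp.Points (pullback c ((AlgSp.yon S).map j))) := hinj.subsingleton
  haveI : CompactSpace (AlgSp.Points (pullback c ((AlgSp.yon S).map j))) := inferInstance
  have hqcsp : AlgSp.IsQuasiCompactSp (pullback c ((AlgSp.yon S).map j)) :=
    isQuasiCompactSp_of_compactSpace hP
  haveI : IsAffine (Over.mk sK).left := (inferInstance : IsAffine (Spec (CommRingCat.of K)))
  have hqc : AlgSp.IsQuasiCompactMor (pullback.snd c ((AlgSp.yon S).map j)) :=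
    isQuasiCompactMor_of_isQuasiCompactSp_affine hP _ hqcsp
  have hflat : AlgSp.LocP @Flat (pullback.snd c ((AlgSp.yon S).map j)) :=
    locP_flat_to_field sK _
  have hs : AlgSp.IsSurjectiveMor (pullback.snd c ((AlgSp.yon S).map j)) := by
    intro y
    exact ⟨z, Subsingleton.elim _ _⟩
  haveI : IsIso (pullback.snd c ((AlgSp.yon S).map j)) :=
    isIso_of_mono_of_flat_of_qc_of_surjective hP (AlgSp.IsAlgSpace.yon_obj _) _ hqc hflat hs
  refine ⟨inv (pullback.snd c ((AlgSp.yon S).map j)) ≫ pullback.fst c ((AlgSp.yon S).map j), ?_⟩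
  rw [Category.assoc, pullback.condition, IsIso.inv_hom_id_assoc]

/-- The map from the points of a sheaf over a scheme to the scheme. -/
noncomputable def toBase {X : AlgSp.Sp S} {V : Over S} (c : X ⟶ (AlgSp.yon S).obj V)
    (x : AlgSp.Points X) : ↥V.left :=
  AlgSp.Points.toScheme V (AlgSp.Points.map c x)

theorem ofScheme_toBase {X : AlgSp.Sp S} {V : Over S} (c : X ⟶ (AlgSp.yon S).obj V)
    (x : AlgSp.Points X) : AlgSp.Points.ofScheme V (toBase c x) = AlgSp.Points.map c x :=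
  AlgSp.Points.ofScheme_toScheme V _

theorem continuous_toBase {X : AlgSp.Sp S} {V : Over S} (c : X ⟶ (AlgSp.yon S).obj V) :
    Continuous (toBase c) :=
  (AlgSp.Points.schemeHomeo V).symm.continuous.comp (AlgSp.Points.continuous_map c)

theorem toBase_injective {X : AlgSp.Sp S} {V : Over S} (c : X ⟶ (AlgSp.yon S).obj V) [Mono c] :
    Function.Injective (toBase c) := by
  intro x y h
  apply Groth.Agent.Lib.AlgSpOpenSub_helper7.map_injective_of_mono c
  rw [← ofScheme_toBase c x, ← ofScheme_toBase c y, h]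

theorem toBase_ofPt {X : AlgSp.Sp S} {V T : Over S} (c : X ⟶ (AlgSp.yon S).obj V)
    (σ : (AlgSp.yon S).obj T ⟶ X) (φ : T ⟶ V) (h : σ ≫ c = (AlgSp.yon S).map φ) (t : ↥T.left) :
    toBase c (AlgSp.Points.ofPt σ t) = φ.left t := by
  unfold toBase
  rw [AlgSp.Points.map_ofPt, h, AlgSp.Points.toScheme_ofPt]

set_option maxHeartbeats 1600000 in
theorem compactSpace_of_denseLift (R : CommRingCat.{u}) [IsNoetherianRing R] (sR : Spec R ⟶ S)
    {X : AlgSp.Sp S} (hX : AlgSp.IsAlgSpace X)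
    (c : X ⟶ (AlgSp.yon S).obj (Over.mk sR)) [Mono c]
    (hc : DenseLift c) : CompactSpace (AlgSp.Points X) := by
  classical
  have hρc : Continuous (toBase c) := continuous_toBase c
  have hρi : Function.Injective (toBase c) := toBase_injective c
  haveI : TopologicalSpace.NoetherianSpace ↥(Spec R) := inferInstance
  have key : ∀ Z : TopologicalSpace.Closeds ↥(Spec R),
      IsCompact (toBase c ⁻¹' (Z : Set ↥(Spec R))) := by
    intro Z
    induction Z using WellFoundedLT.induction with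
    | ind Z IH =>
    by_cases hirr : IsIrreducible (Z : Set ↥(Spec R))
    swap
    · by_cases hne : (Z : Set ↥(Spec R)).Nonempty
      · have hpre : ¬ IsPreirreducible (Z : Set ↥(Spec R)) := fun h => hirr ⟨hne, h⟩
        simp only [isPreirreducible_iff_isClosed_union_isClosed, not_forall, not_or] at hpre
        obtain ⟨z₁, z₂, hz₁, hz₂, h, hz₁', hz₂'⟩ := hpre
        lift z₁ to TopologicalSpace.Closeds ↥(Spec R) using hz₁
        lift z₂ to TopologicalSpace.Closeds ↥(Spec R) using hz₂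
        have h1 := IH (Z ⊓ z₁) (inf_lt_left.2 hz₁')
        have h2 := IH (Z ⊓ z₂) (inf_lt_left.2 hz₂')
        have hun : toBase c ⁻¹' (Z : Set ↥(Spec R)) =
            toBase c ⁻¹' ((Z ⊓ z₁ : TopologicalSpace.Closeds ↥(Spec R)) : Set ↥(Spec R)) ∪
              toBase c ⁻¹' ((Z ⊓ z₂ : TopologicalSpace.Closeds ↥(Spec R)) : Set ↥(Spec R)) := by
          ext x
          constructor
          · intro hx
            rcases h hx with h' | h'
            · exact Or.inl (Set.mem_inter hx h')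
            · exact Or.inr (Set.mem_inter hx h')
          · rintro (hx | hx)
            · exact hx.1
            · exact hx.1
        rw [hun]
        exact h1.union h2
      · rw [Set.not_nonempty_iff_eq_empty] at hne
        rw [hne, Set.preimage_empty]
        exact isCompact_empty
    · obtain ⟨D, hD⟩ : ∃ D : Set ↥(Spec R), D = (Z : Set ↥(Spec R)) ∩ Set.range (toBase c) :=
        ⟨_, rfl⟩
      have hDZ : D ⊆ (Z : Set ↥(Spec R)) := by rw [hD]; exact Set.inter_subset_left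
      by_cases hcl : closure D = (Z : Set ↥(Spec R))
      swap
      · have hsub : closure D ⊆ (Z : Set ↥(Spec R)) := closure_minimal hDZ Z.isClosed
        obtain ⟨Z', hZ'⟩ : ∃ Z' : TopologicalSpace.Closeds ↥(Spec R),
            (Z' : Set ↥(Spec R)) = closure D := ⟨⟨_, isClosed_closure⟩, rfl⟩
        have hlt : Z' < Z := by
          refine lt_of_le_of_ne (SetLike.coe_subset_coe.1 (by rw [hZ']; exact hsub)) (fun h => ?_)
          apply hcl
          rw [← hZ', h]
        have hpre : toBase c ⁻¹' (Z : Set ↥(Spec R)) = toBase c ⁻¹' (Z' : Set ↥(Spec R)) := by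
          ext x
          constructor
          · intro hx
            show toBase c x ∈ (Z' : Set ↥(Spec R))
            rw [hZ']
            apply subset_closure
            rw [hD]
            exact ⟨hx, x, rfl⟩
          · intro hx
            have hx' : toBase c x ∈ (Z' : Set ↥(Spec R)) := hx
            rw [hZ'] at hx'
            exact hsub hx'
        rw [hpre]
        exact IH Z' hlt
      · obtain ⟨𝔭, h𝔭⟩ : ∃ 𝔭 : Ideal R, 𝔭 = PrimeSpectrum.vanishingIdeal
            (show Set (PrimeSpectrum R) from (Z : Set ↥(Spec R))) := ⟨_, rfl⟩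
        haveI h𝔭prime : 𝔭.IsPrime := by
          rw [h𝔭]
          exact PrimeSpectrum.isIrreducible_iff_vanishingIdeal_isPrime.1 hirr
        have hzl : PrimeSpectrum.zeroLocus (𝔭 : Set R) = (Z : Set ↥(Spec R)) := by
          rw [h𝔭, PrimeSpectrum.zeroLocus_vanishingIdeal_eq_closure]
          exact Z.isClosed.closure_eq
        have hφ : Function.Surjective (Ideal.Quotient.mk 𝔭) := Ideal.Quotient.mk_surjective
        obtain ⟨t₀, ht₀⟩ : ∃ t₀ : Spec (CommRingCat.of (R ⧸ 𝔭)) ⟶ Spec R,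
            t₀ = Spec.map (CommRingCat.ofHom (Ideal.Quotient.mk 𝔭)) := ⟨_, rfl⟩
        haveI : IsClosedImmersion t₀ := by
          rw [ht₀]
          exact IsClosedImmersion.spec_of_surjective _ hφ
        have hrange : Set.range t₀ = (Z : Set ↥(Spec R)) := by
          have h1 := _root_.range_comap_of_surjective _ (Ideal.Quotient.mk 𝔭) hφ
          rw [Ideal.mk_ker, hzl] at h1
          rw [ht₀]
          exact h1
        have hemb : Topology.IsEmbedding t₀ := t₀.isEmbedding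
        have hD' : Dense (t₀ ⁻¹' D) := by
          intro p
          rw [hemb.isInducing.closure_eq_preimage_closure_image]
          have h2 : t₀ '' (t₀ ⁻¹' D) = D := by
            rw [Set.image_preimage_eq_inter_range, hrange]
            exact Set.inter_eq_left.2 hDZ
          rw [h2, hcl]
          show t₀ p ∈ (Z : Set ↥(Spec R))
          rw [← hrange]
          exact ⟨p, rfl⟩
        obtain ⟨U, hU, σ, hσ⟩ := hc (R ⧸ 𝔭) (t₀ ≫ sR)
          (Over.homMk t₀ rfl : Over.mk (t₀ ≫ sR) ⟶ Over.mk sR) (t₀ ⁻¹' D) hD' (fun p hp => by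
          have hp' : t₀ p ∈ D := hp
          rw [hD] at hp'
          obtain ⟨x, hx⟩ := hp'.2
          refine exists_section_of_point hX c
            (↥((Spec (CommRingCat.of (R ⧸ 𝔭))).residueField p)) _ _ x ?_
          rw [← ofScheme_toBase c x, hx]
          congr 1
          show t₀ p = (((Spec (CommRingCat.of (R ⧸ 𝔭))).fromSpecResidueField p) ≫ t₀)
            (IsLocalRing.closedPoint _)
          rw [Scheme.Hom.comp_apply, Scheme.fromSpecResidueField_apply])
        obtain ⟨O, hO, hOU⟩ := hemb.isInducing.isOpen_iff.1 U.isOpen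
        obtain ⟨Z', hZ'⟩ : ∃ Z' : TopologicalSpace.Closeds ↥(Spec R),
            (Z' : Set ↥(Spec R)) = (Z : Set ↥(Spec R)) ∩ Oᶜ :=
          ⟨⟨_, Z.isClosed.inter hO.isClosed_compl⟩, rfl⟩
        have hlt : Z' < Z := by
          refine lt_of_le_of_ne
            (SetLike.coe_subset_coe.1 (by rw [hZ']; exact Set.inter_subset_left)) (fun h => ?_)
          obtain ⟨u, hu⟩ := hU
          have h1 : t₀ u ∈ (Z : Set ↥(Spec R)) := by rw [← hrange]; exact ⟨u, rfl⟩
          have h2 : t₀ u ∈ O := by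
            have h2' : u ∈ t₀ ⁻¹' O := by rw [hOU]; exact hu
            exact h2'
          have h3 : t₀ u ∈ (Z' : Set ↥(Spec R)) := by rw [h]; exact h1
          rw [hZ'] at h3
          exact h3.2 h2
        have hK : IsCompact (Set.range (AlgSp.Points.map σ)) := by
          haveI : CompactSpace ↥U := isCompact_iff_compactSpace.1
            (TopologicalSpace.NoetherianSpace.isCompact
              (U : Set ↥(Spec (CommRingCat.of (R ⧸ 𝔭)))))
          haveI : CompactSpace ↥(Over.mk (U.ι ≫ t₀ ≫ sR)).left :=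
            (inferInstance : CompactSpace ↥U)
          haveI : CompactSpace (AlgSp.Points ((AlgSp.yon S).obj (Over.mk (U.ι ≫ t₀ ≫ sR)))) :=
            (AlgSp.Points.schemeHomeo (Over.mk (U.ι ≫ t₀ ≫ sR))).compactSpace
          exact isCompact_range (AlgSp.Points.continuous_map σ)
        have hsub : toBase c ⁻¹' (Z : Set ↥(Spec R)) ⊆
            toBase c ⁻¹' (Z' : Set ↥(Spec R)) ∪ Set.range (AlgSp.Points.map σ) := by
          intro x hx
          by_cases hxO : toBase c x ∈ O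
          · right
            have hx' : toBase c x ∈ Set.range t₀ := by rw [hrange]; exact hx
            obtain ⟨a, ha⟩ := hx'
            have haU : a ∈ U := by
              have h4 : a ∈ t₀ ⁻¹' O := by
                show t₀ a ∈ O
                rw [ha]
                exact hxO
              rw [hOU] at h4
              exact h4
            refine ⟨AlgSp.Points.ofScheme (Over.mk (U.ι ≫ t₀ ≫ sR)) (⟨a, haU⟩ : ↥U), ?_⟩
            rw [← AlgSp.Points.ofPt_eq_map_ofScheme]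
            apply hρi
            rw [toBase_ofPt c σ _ hσ, ← ha]
            rfl
          · left
            show toBase c x ∈ (Z' : Set ↥(Spec R))
            rw [hZ']
            exact ⟨hx, hxO⟩
        exact ((IH Z' hlt).union hK).of_isClosed_subset (Z.isClosed.preimage hρc) hsub
  have h := key ⊤
  rw [TopologicalSpace.Closeds.coe_top, Set.preimage_univ] at h
  exact isCompact_univ_iff.1 h

theorem isQuasiCompactMor_of_denseLift {X : AlgSp.Sp S} (hX : AlgSp.IsAlgSpace X) {V : Over S}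
    [IsLocallyNoetherian V.left] (c : X ⟶ (AlgSp.yon S).obj V) [Mono c] (hc : DenseLift c) :
    AlgSp.IsQuasiCompactMor c := by
  have hW : ∀ v : ↥V.left, ∃ W : V.left.Opens, IsAffineOpen W ∧ v ∈ W := fun v => by
    obtain ⟨_, ⟨W, hW, rfl⟩, hv, -⟩ :=
      V.left.isBasis_affineOpens.exists_subset_of_mem_open (Set.mem_univ v) isOpen_univ
    exact ⟨W, hW, hv⟩
  choose W hWa hWv using hW
  have hYV := AlgSp.IsAlgSpace.yon_obj V
  have hcov : AlgSp.IsFppfCover
      (fun v : ↥V.left => (AlgSp.yon S).obj (Over.mk ((hWa v).fromSpec ≫ V.hom)))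
      (fun v => (AlgSp.yon S).map
        (Over.homMk (hWa v).fromSpec rfl : Over.mk ((hWa v).fromSpec ≫ V.hom) ⟶ V)) := by
    refine ⟨fun v => ⟨?_, ?_⟩, fun x => ?_⟩
    · exact locP_yon_map_of @Flat (fun _ _ g (hg : Etale g) => (inferInstance : Flat g)) _
        (inferInstance : Flat (hWa v).fromSpec)
    · exact locP_yon_map_of @LocallyOfFinitePresentation
        (fun _ _ g (hg : Etale g) => (inferInstance : LocallyOfFinitePresentation g)) _
        (inferInstance : LocallyOfFinitePresentation (hWa v).fromSpec)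
    · obtain ⟨x₀, rfl⟩ := ofScheme_surjective V x
      have hx₀ : x₀ ∈ Set.range (hWa x₀).fromSpec := by
        rw [(hWa x₀).range_fromSpec]
        exact hWv x₀
      obtain ⟨w, hw⟩ := hx₀
      refine ⟨x₀, AlgSp.Points.ofScheme (Over.mk ((hWa x₀).fromSpec ≫ V.hom)) w, ?_⟩
      rw [← AlgSp.Points.ofPt_eq_map_ofScheme, ofPt_yon_map]
      exact congrArg _ hw
  have hfpqc := isFpqcCover_of_isFppfCover hYV _ _ (fun v => AlgSp.IsAlgSpace.yon_obj _) hcov
  refine (isLocalOnBase_fpqc_isQuasiCompactMor _ _ hYV (fun v => AlgSp.IsAlgSpace.yon_obj _) hfpqc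
    c hX (fun v => pullback c ((AlgSp.yon S).map
      (Over.homMk (hWa v).fromSpec rfl : Over.mk ((hWa v).fromSpec ≫ V.hom) ⟶ V)))
    (fun v => pullback.snd c _) (fun v => pullback.fst c _)
    (fun v => isAlgSpace_of_isPullback hYV.diag hX (AlgSp.IsAlgSpace.yon_obj _)
      (IsPullback.of_hasPullback _ _))
    (fun v => IsPullback.of_hasPullback _ _)).2 fun v => ?_
  haveI : IsNoetherianRing Γ(V.left, W v) :=
    IsLocallyNoetherian.component_noetherian ⟨W v, hWa v⟩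
  have sq := IsPullback.of_hasPullback c ((AlgSp.yon S).map
    (Over.homMk (hWa v).fromSpec rfl : Over.mk ((hWa v).fromSpec ≫ V.hom) ⟶ V))
  have hP := isAlgSpace_of_isPullback hYV.diag hX (AlgSp.IsAlgSpace.yon_obj _) sq
  have hDL : DenseLift (pullback.snd c ((AlgSp.yon S).map
      (Over.homMk (hWa v).fromSpec rfl : Over.mk ((hWa v).fromSpec ≫ V.hom) ⟶ V))) :=
    denseLift_of_isPullback sq hc
  haveI := compactSpace_of_denseLift Γ(V.left, W v) ((hWa v).fromSpec ≫ V.hom) hP _ hDL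
  haveI : IsAffine (Over.mk ((hWa v).fromSpec ≫ V.hom)).left :=
    (inferInstance : IsAffine (Spec Γ(V.left, W v)))
  exact isQuasiCompactMor_of_isQuasiCompactSp_affine hP _ (isQuasiCompactSp_of_compactSpace hP)

end sp

section stk

variable {𝒳 𝒴 : AlgSt.Cat S}

theorem yE_yon_map {T V : Over S} (φ : T ⟶ V) :
    Groth.Agent.Lib.AlgStMono.yE ((AlgSp.yon S).map φ) = ULift.up φ := by
  apply ULift.ext
  exact Category.id_comp φ

theorem essIm_of_lift (f : 𝒴 ⥤ᵇ 𝒳) {T : Over S} (a : FibCat.overCat T ⥤ᵇ 𝒳)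
    (yT : FibCat.overCat T ⥤ᵇ 𝒴) (ι : BasedFunctor.comp yT f ≅ a) :
    EssIm f (a.obj (Over.mk (𝟙 T))) :=
  ⟨yT.obj (Over.mk (𝟙 T)), ⟨((BasedNatTrans.forgetful _ _).mapIso ι).app (Over.mk (𝟙 T))⟩⟩

theorem exists_lift_of_essIm (h𝒴 : IsFibGrpd 𝒴.p) (h𝒳 : IsFibGrpd 𝒳.p) (f : 𝒴 ⥤ᵇ 𝒳)
    {T : Over S} (a : FibCat.overCat T ⥤ᵇ 𝒳) (h : EssIm f (a.obj (Over.mk (𝟙 T)))) :
    ∃ yT : FibCat.overCat T ⥤ᵇ 𝒴, Nonempty (BasedFunctor.comp yT f ≅ a) := by
  haveI : 𝒴.p.IsFibered := isFibered_of_isFibGrpd h𝒴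
  obtain ⟨y₀, ⟨θ⟩⟩ := h
  obtain ⟨y', χ, hχ⟩ := exists_iso_of_hom h𝒴 h𝒳 f θ.inv
  have hbase : 𝒳.p.obj (a.obj (Over.mk (𝟙 T))) = T := a.w_obj (Over.mk (𝟙 T))
  have hχ' : 𝒳.p.IsHomLift (𝟙 T) χ.hom := isHomLift_id_of_eq hbase χ.hom hχ
  have hx : 𝒴.p.obj y' = T := by
    haveI := hχ'
    exact (f.w_obj y').symm.trans (IsHomLift.domain_eq 𝒳.p (𝟙 T) χ.hom)
  have hpm : 𝒴.p.IsHomLift (𝟙 T)
      (Functor.IsPreFibered.pullbackMap hx (ohom T (Over.mk (𝟙 T)))) :=
    pullbackMap_id_isHomLift hx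
  let τ : (BasedFunctor.comp (yonedaFunctor hx) f).obj (Over.mk (𝟙 T)) ⟶
      a.obj (Over.mk (𝟙 T)) :=
    f.map (Functor.IsPreFibered.pullbackMap hx (ohom T (Over.mk (𝟙 T)))) ≫ χ.hom
  have hτ : 𝒳.p.IsHomLift (𝟙 T) τ := by
    haveI := hpm
    haveI := hχ'
    haveI : 𝒳.p.IsHomLift (𝟙 T)
        (f.map (Functor.IsPreFibered.pullbackMap hx (ohom T (Over.mk (𝟙 T))))) := inferInstance
    exact (inferInstance : 𝒳.p.IsHomLift (𝟙 T)
      (f.map (Functor.IsPreFibered.pullbackMap hx (ohom T (Over.mk (𝟙 T)))) ≫ χ.hom))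
  have hH : PreservesStronglyCartesian a := fun R S' g A B φ hφ => by
    haveI : (FibCat.overCat T).p.IsHomLift g φ := hφ.toIsHomLift
    haveI : 𝒳.p.IsHomLift g (a.map φ) := inferInstance
    exact isStronglyCartesian_of_isFibGrpd h𝒳 g (a.map φ)
  let γ : BasedFunctor.comp (yonedaFunctor hx) f ⟶ a :=
    liftNatTrans (G := BasedFunctor.comp (yonedaFunctor hx) f) (H := a) hH τ hτ
  haveI : IsIso γ := isIso_basedNatTrans h𝒳 γ
  exact ⟨yonedaFunctor hx, ⟨asIso γ⟩⟩

variable {Z X : AlgSp.Space S}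

theorem essIm_of_section (f : 𝒴 ⥤ᵇ 𝒳) (z : AlgSt.ofSp Z.obj ⥤ᵇ 𝒳) (c : X ⟶ Z)
    (e : AlgSt.ofSp X.obj ⥤ᵇ FibCat.fp z f)
    (i : BasedFunctor.comp e (FibCat.fpFst z f) ≅ AlgSt.ofSpMap c.hom)
    (a : (AlgSt.ofSp X.obj).obj) : EssIm f (z.obj ((AlgSt.ofSpMap c.hom).obj a)) :=
  ⟨(e.obj a).obj.snd, ⟨(e.obj a).obj.iso.symm ≪≫
    z.toFunctor.mapIso (((BasedNatTrans.forgetful _ _).mapIso i).app a)⟩⟩

theorem exists_section_of_essIm (h𝒴 : IsFibGrpd 𝒴.p) (h𝒳 : IsFibGrpd 𝒳.p) (f : 𝒴 ⥤ᵇ 𝒳)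
    (z : AlgSt.ofSp Z.obj ⥤ᵇ 𝒳) (c : X ⟶ Z)
    (e : AlgSt.ofSp X.obj ⥤ᵇ FibCat.fp z f) (he : IsEquivOver e)
    (i : BasedFunctor.comp e (FibCat.fpFst z f) ≅ AlgSt.ofSpMap c.hom)
    (b : (AlgSt.ofSp Z.obj).obj) (h : EssIm f (z.obj b)) :
    ∃ s : X.obj.obj.obj (op b.base), c.hom.hom.app (op b.base) s = b.sec := by
  obtain ⟨y₀, ⟨θ⟩⟩ := h
  obtain ⟨y', χ, hχ⟩ := exists_iso_of_hom h𝒴 h𝒳 f θ.inv
  have hb : 𝒳.p.obj (z.obj b) = (AlgSt.ofSp Z.obj).p.obj b := z.w_obj b
  have hχ' : 𝒳.p.IsHomLift (𝟙 ((AlgSt.ofSp Z.obj).p.obj b)) χ.symm.hom := by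
    haveI := isHomLift_id_of_eq hb χ.hom hχ
    show 𝒳.p.IsHomLift (𝟙 ((AlgSt.ofSp Z.obj).p.obj b)) χ.inv
    infer_instance
  obtain ⟨a, φ, -⟩ := essSurjOver_of_isEquivOver he
    (fpObjMk (F := z) (G := f) b y' χ.symm hχ')
  let m : (AlgSt.ofSpMap c.hom).obj a ≅ b :=
    (((BasedNatTrans.forgetful _ _).mapIso i).app a).symm ≪≫
      (FibCat.fpFst z f).toFunctor.mapIso φ
  refine ⟨X.obj.obj.map m.inv.hom.op a.sec, ?_⟩
  exact (NatTrans.naturality_apply c.hom.hom m.inv.hom.op a.sec).trans m.inv.map_sec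

/-- S15357. -/
theorem repWith_qc_of_denseLift (h𝒳 : AlgSt.IsAlgStack Scheme.fppfPrecoverage 𝒳)
    (h𝒴 : AlgSt.IsAlgStack Scheme.fppfPrecoverage 𝒴)
    (hnoeth : AlgSt.SmoothLocally (fun X => IsLocallyNoetherian X) 𝒳) (f : 𝒴 ⥤ᵇ 𝒳)
    (ha : AlgSt.IsMono f)
    (hc : ∀ (A : Type u) [CommRing A] [IsDomain A] (sA : Spec (CommRingCat.of A) ⟶ S)
      (a : FibCat.overCat (Over.mk sA) ⥤ᵇ 𝒳) (D : Set ↥(Spec (CommRingCat.of A))), Dense D →
      (∀ p ∈ D, ∃ yp : FibCat.overCat (Over.mk ((Spec (CommRingCat.of A)).fromSpecResidueField p ≫ sA)) ⥤ᵇ 𝒴,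
          Nonempty (BasedFunctor.comp yp f ≅ BasedFunctor.comp (AlgSt.overMap (Over.homMk ((Spec (CommRingCat.of A)).fromSpecResidueField p) rfl : Over.mk (((Spec (CommRingCat.of A)).fromSpecResidueField p) ≫ sA) ⟶ Over.mk sA)) a)) →
      ∃ U : (Spec (CommRingCat.of A)).Opens, (U : Set ↥(Spec (CommRingCat.of A))).Nonempty ∧
        ∃ yU : FibCat.overCat (Over.mk (U.ι ≫ sA)) ⥤ᵇ 𝒴,
          Nonempty (BasedFunctor.comp yU f ≅ BasedFunctor.comp (AlgSt.overMap (Over.homMk (U.ι) rfl : Over.mk ((U.ι) ≫ sA) ⟶ Over.mk sA)) a)) :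
    AlgSt.RepByAlgSpWith AlgSp.IsQuasiCompactMor f := by
  have h𝒳g : IsFibGrpd 𝒳.p := h𝒳.isStack.1
  have h𝒴g : IsFibGrpd 𝒴.p := h𝒴.isStack.1
  obtain ⟨V, y, hy, hy'⟩ := h𝒳.atlas
  let Vs : AlgSp.Space S := (AlgSp.ofScheme S).obj V
  let ys : AlgSt.ofSp Vs.obj ⥤ᵇ 𝒳 := BasedFunctor.comp (AlgSt.toOverCat V) y
  have hys : AlgSt.RepByAlgSpWith (AlgSp.LocP @Smooth) ys := repWith_toOverCat_comp _ y hy
  have hys' : AlgSt.RepByAlgSpWith AlgSp.IsSurjectiveMor ys := repWith_toOverCat_comp _ y hy'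
  have hf1 : AlgSt.RepByAlgSp1 f := Groth.Agent.Lib.AlgStMono.repByAlgSp1_of_isMono ha
  obtain ⟨X, c, e, he, ⟨i⟩, hcm⟩ :=
    exists_space_of_repWith' h𝒴g h𝒳g (MorphismProperty.monomorphisms (AlgSp.Sp S))
      (isoInv_of_respectsIso _) schemeTestable_mono f ha Vs ys
  haveI : Mono c.hom := hcm
  haveI hV : IsLocallyNoetherian V.left := hnoeth V y hy
  have hDL : DenseLift c.hom := by
    intro A _ _ sA t D hD hσ
    obtain ⟨U, hU, yU, ⟨ιU⟩⟩ := hc A sA (BasedFunctor.comp (AlgSt.overMap t) y) D hD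
      (fun p hp => by
        obtain ⟨σ, hσp⟩ := hσ p hp
        have hs : c.hom.hom.app
            (op (Over.mk ((Spec (CommRingCat.of A)).fromSpecResidueField p ≫ sA)))
            (Groth.Agent.Lib.AlgStMono.yE σ) =
            ULift.up ((Over.homMk ((Spec (CommRingCat.of A)).fromSpecResidueField p) rfl :
              Over.mk ((Spec (CommRingCat.of A)).fromSpecResidueField p ≫ sA) ⟶ Over.mk sA) ≫
                t) := by
          have h0 := congrArg Groth.Agent.Lib.AlgStMono.yE hσp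
          rw [Groth.Agent.Lib.AlgStMono.yE_comp, yE_yon_map] at h0
          exact h0
        have h1 : EssIm f (y.obj (Over.mk (c.hom.hom.app
            (op (Over.mk ((Spec (CommRingCat.of A)).fromSpecResidueField p ≫ sA)))
            (Groth.Agent.Lib.AlgStMono.yE σ)).down)) :=
          essIm_of_section f ys c e i
            ⟨Over.mk ((Spec (CommRingCat.of A)).fromSpecResidueField p ≫ sA),
              Groth.Agent.Lib.AlgStMono.yE σ⟩
        rw [hs] at h1
        have e3 : y.obj ((Over.map t).obj ((Over.map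
            (Over.homMk ((Spec (CommRingCat.of A)).fromSpecResidueField p) rfl :
              Over.mk ((Spec (CommRingCat.of A)).fromSpecResidueField p ≫ sA) ⟶
                Over.mk sA)).obj (Over.mk (𝟙 _)))) ≅
            y.obj (Over.mk ((Over.homMk ((Spec (CommRingCat.of A)).fromSpecResidueField p) rfl :
              Over.mk ((Spec (CommRingCat.of A)).fromSpecResidueField p ≫ sA) ⟶ Over.mk sA) ≫
                t)) :=
          y.toFunctor.mapIso (Over.isoMk (Iso.refl _) (by simp))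
        exact exists_lift_of_essIm h𝒴g h𝒳g f _ ((essIm_closed f).of_iso e3.symm h1))
    have h4 : EssIm f ((BasedFunctor.comp (AlgSt.overMap
        (Over.homMk U.ι rfl : Over.mk (U.ι ≫ sA) ⟶ Over.mk sA))
        (BasedFunctor.comp (AlgSt.overMap t) y)).obj (Over.mk (𝟙 _))) :=
      essIm_of_lift f _ yU ιU
    have e5 : y.obj ((Over.map t).obj ((Over.map
        (Over.homMk U.ι rfl : Over.mk (U.ι ≫ sA) ⟶ Over.mk sA)).obj (Over.mk (𝟙 _)))) ≅
        y.obj (Over.mk ((Over.homMk U.ι rfl : Over.mk (U.ι ≫ sA) ⟶ Over.mk sA) ≫ t)) :=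
      y.toFunctor.mapIso (Over.isoMk (Iso.refl _) (by simp))
    have h5 : EssIm f (ys.obj (⟨Over.mk (U.ι ≫ sA),
        ULift.up ((Over.homMk U.ι rfl : Over.mk (U.ι ≫ sA) ⟶ Over.mk sA) ≫ t)⟩ :
          (AlgSt.ofSp Vs.obj).obj)) :=
      (essIm_closed f).of_iso e5 h4
    obtain ⟨s, hs⟩ := exists_section_of_essIm h𝒴g h𝒳g f ys c e he i
      (⟨Over.mk (U.ι ≫ sA),
        ULift.up ((Over.homMk U.ι rfl : Over.mk (U.ι ≫ sA) ⟶ Over.mk sA) ≫ t)⟩ :
          (AlgSt.ofSp Vs.obj).obj) h5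
    refine ⟨U, hU, Groth.Agent.Lib.AlgStMono.yE.symm s, ?_⟩
    apply Groth.Agent.Lib.AlgStMono.yE.injective
    rw [Groth.Agent.Lib.AlgStMono.yE_comp, Equiv.apply_symm_apply, yE_yon_map]
    exact hs
  have qc : AlgSp.IsQuasiCompactMor c.hom := isQuasiCompactMor_of_denseLift X.property c.hom hDL
  exact (repWith_iff_exists_of_cover h𝒴g h𝒳g AlgSp.IsQuasiCompactMor
    (fun _ _ _ _ _ _ _ _ _ _ _ _ sq ha => isQuasiCompactMor_of_isPullback sq ha)
    (isLocalOnBase_fppf_of_fpqc' isLocalOnBase_fpqc_isQuasiCompactMor) f hf1 Vs ys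
    (repWith_flat_of_smooth ys hys) (repWith_lfp_of_smooth ys hys) hys').2
    ⟨X, c, e, he, ⟨i⟩, qc⟩

end stk

end Groth.Agent.Lib.AlgStLocQ
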