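import Mathlib
import Groth.Agent.Lib.AlgSpGenFin4_helper6
import Groth.Agent.Lib.AlgStDenseLift_lead
import Groth.Agent.Lib.AlgSpUniv_helper7
import Groth.Agent.Lib.AlgSpGlue2_helper7

/-!
# Generic finiteness for separated morphisms over an affine base (helper6)
-/

set_option autoImplicit false
universe u
open CategoryTheory CategoryTheory.Limits AlgebraicGeometry Opposite TopologicalSpace

namespace Groth.Agent.Lib.AlgSpGenFin5H6

open AlgSp Groth.Agent.Lib.AlgSpPoints_helper7 Groth.Agent.Lib.AlgSpOpenSub_helper7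
  Groth.Agent.Lib.AlgSpPullback_helper7 Groth.Agent.Lib.AlgSpIso_helper7
  Groth.Agent.Lib.AlgSpBasic_helper7 Groth.Agent.Lib.AlgSpDescent_helper7
  Groth.Agent.Lib.AlgSpSmST_helper7 Groth.Agent.Lib.AlgSpSep_helper7
  Groth.Agent.Lib.AlgSpUnram_helper7 Groth.Agent.Lib.AlgSpQC2_helper7
  Groth.Agent.Lib.AlgSpFinDescH6 Groth.Agent.Lib.AlgSpProper_helper7
  Groth.Agent.Lib.ElemDistSq_helper7 Groth.Agent.Lib.AlgSpEtSplitH6
  Groth.Agent.Lib.AlgSpEtSplit2H6 Groth.Agent.Lib.AlgSpOpen_helper7
  Groth.Agent.Lib.AlgSpQC_helper7 Groth.Agent.Lib.AlgSpQfFinH7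
  Groth.Agent.Lib.AlgSpPropFinH6 Groth.Agent.Lib.AlgSpGenFinH6 Groth.Agent.Lib.AlgSpGenFin2H6
  Groth.Agent.Lib.AlgSpGenFin3H6 Groth.Agent.Lib.AlgSpFinTfaeH6
  Groth.Agent.Lib.AlgSpCodim0_helper6 Groth.Agent.Lib.AlgSpDescent2_helper7
  Groth.Agent.Lib.AlgSpEtale_helper7 Groth.Agent.Lib.AlgSpQfLocusH7
  Groth.Agent.Lib.AlgSpQfLocus2H7 Groth.Agent.Lib.AlgSpChart_helper7 Groth.Agent.Lib.UnramLocH7
  Groth.Agent.Lib.AlgSpLocP_helper7 Groth.Agent.Lib.AlgSpLocP4_helper7
  Groth.Agent.Lib.AlgSpFEtDenseH6 Groth.Agent.Lib.AlgSpUniv_helper7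

variable {S : Scheme.{u}}

/-- A finite morphism is universally closed. -/
theorem isUnivClosedMor_of_isFiniteMor {F G : Sp S} (f : F ⟶ G) (hf : IsFiniteMor f) :
    IsUnivClosedMor f := by
  have h1 : RepWith @IsFinite f :=
    Groth.Agent.Lib.AlgSpGlue2H7.repWith_of_affine_local @IsFinite f
      (fun Z hZ g => by
        obtain ⟨W, i, fst, sq, -, hi⟩ := hf hZ g
        exact ⟨W, i, fst, sq, hi⟩)
  exact (repWith_universallyClosed_iff f h1.rep).1
    (repWith_mono (fun _ _ g hg => by
      haveI : IsFinite g := hg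
      exact (inferInstance : UniversallyClosed g)) h1)

/-- The point of `h_T` defined by the identity chart. -/
theorem ofPt_id (T : Over S) (t : ↥T.left) :
    Points.ofPt (𝟙 ((yon S).obj T)) t = Points.ofScheme T t := by
  rw [← (yon S).map_id, ofPt_yon_map]
  try rfl

/-- Generic finiteness over an affine base for a separated morphism locally of finite type:
if the fibre over a point `t` without generizations is finite, the morphism is quasi-finite
at the points of that fibre, and every maximal point of every étale chart of the source lies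
over `t`, then the morphism becomes finite after base change to an étale neighbourhood
of `t`. -/
theorem exists_finite_chart_of_sep {P : Space S} {T : Over S} [IsAffine T.left]
    (q : P.obj ⟶ (yon S).obj T) (hlft : LocP @LocallyOfFiniteType q) (hsep : IsSeparatedMor q)
    (t : ↥T.left) (ht : ∀ v : ↥T.left, v ⤳ t → v = t)
    (hfib : (Points.map q ⁻¹' {Points.ofScheme T t}).Finite)
    (hq : ∀ x : Points P.obj, Points.map q x = Points.ofScheme T t → HasAtMor QQ q x)
    (hD : ∀ (U : Over S) (b : (yon S).obj U ⟶ P.obj) (h : U ⟶ T), RepWith @Etale b →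
        b ≫ q = (yon S).map h → ∀ u : ↥U.left, (∀ u' : ↥U.left, u' ⤳ u → u' = u) →
          h.left u = t) :
    ∃ (T' : Over S) (g : T' ⟶ T) (t' : ↥T'.left), Etale g.left ∧ g.left t' = t ∧
      ∀ (P' : Space S) (prP : P'.obj ⟶ P.obj) (prT : P'.obj ⟶ (yon S).obj T'),
        IsPullback prP prT q ((yon S).map g) → IsFiniteMor prT := by
  classical
  let TT : Space S := ⟨(yon S).obj T, IsAlgSpace.yon_obj T⟩
  let qq : P ⟶ TT := ObjectProperty.homMk q
  let y : Points TT.obj := Points.ofScheme T t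
  -- a quasi-compact open containing the fibre
  have hch : ∀ x : Points P.obj, ∃ (V : Over S) (b : (yon S).obj V ⟶ P.obj) (v : ↥V.left),
      IsAffine V.left ∧ RepWith @Etale b ∧ Points.ofPt b v = x :=
    fun x => exists_affine_chart P.property x
  choose U a u hU hae hau using hch
  let Wset : Set (Points P.obj) := ⋃ x ∈ (Points.map q ⁻¹' {y}), Set.range (Points.ofPt (a x))
  have hWo : IsOpen Wset :=
    isOpen_biUnion (fun x _ => (isOpenMap_ofPt_of_etale (a x) (hae x)).isOpen_range)
  have hWc : IsCompact Wset := by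
    refine hfib.isCompact_biUnion (fun x _ => ?_)
    haveI := hU x
    exact isCompact_range (Points.continuous_ofPt (a x))
  let X₁ : Space S := ⟨openSub P.obj Wset, isAlgSpace_openSub P.property hWo⟩
  let i₁ : X₁ ⟶ P := ObjectProperty.homMk (openSubι P.obj Wset)
  have hi₁ : RepWith @IsOpenImmersion i₁.hom := repWith_isOpenImmersion_openSubι hWo
  have hrange₁ : Set.range (Points.map i₁.hom) = Wset := range_map_openSubι P.property hWo
  haveI : Mono i₁.hom := mono_of_openImmersion _ hi₁
  have hinj : Function.Injective (Points.map i₁.hom) := map_injective_of_mono i₁.hom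
  have hemb : Topology.IsEmbedding (Points.map i₁.hom) :=
    (Groth.Agent.Lib.AlgSpEmbed_helper6.isEmbedding_map_of_immersion P.property i₁.hom
      (repWith_mono (fun _ _ g hg => by
        haveI : IsOpenImmersion g := hg
        exact (inferInstance : IsImmersion g)) hi₁)).1
  have hX₁qc : IsQuasiCompactSp X₁.obj := by
    rw [isQuasiCompactSp_iff_compactSpace X₁.property]
    refine isCompact_univ_iff.1 (hemb.isCompact_iff.2 ?_)
    rw [Set.image_univ, hrange₁]
    exact hWc
  have hi₁e : RepWith @Etale i₁.hom :=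
    repWith_mono (fun _ _ g hg => by
      haveI : IsOpenImmersion g := hg
      exact (inferInstance : Etale g)) hi₁
  -- the restricted morphism
  let f₁ : X₁ ⟶ TT := i₁ ≫ qq
  have hi₁qs : IsQuasiSeparatedMor i₁.hom :=
    (isQuasiSeparatedMor_iff_of_representable i₁.hom hi₁.rep).2
      (repWith_mono (fun _ _ g hg => by
        haveI : IsOpenImmersion g := hg
        exact (inferInstance : QuasiSeparated g)) hi₁)
  have hqqs : IsQuasiSeparatedMor q :=
    repWith_mono (fun _ _ g hg => by
      haveI : IsClosedImmersion g := hg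
      exact (inferInstance : QuasiCompact g)) hsep
  have hqs₁ : IsQuasiSeparatedMor f₁.hom := isQuasiSeparatedMor_comp i₁.hom q hi₁qs hqqs
  have hi₁lft : LocP @LocallyOfFiniteType i₁.hom :=
    Groth.Agent.Lib.AlgSpLocP_helper7.locP_of_repWith @LocallyOfFiniteType
      (fun _ _ g hg => by
        haveI : Etale g := hg
        exact (inferInstance : LocallyOfFiniteType g)) i₁.hom
      (repWith_mono (fun _ _ g hg => by
        haveI : IsOpenImmersion g := hg
        exact (inferInstance : LocallyOfFiniteType g)) hi₁)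
  have hlft₁ : LocP @LocallyOfFiniteType f₁.hom :=
    Groth.Agent.Lib.AlgSpLocP4_helper7.locP_comp
      Groth.Agent.Lib.AlgSpLocP4_helper7.etLocal_locallyOfFiniteType X₁.property P.property
      TT.property i₁.hom q hi₁lft hlft
  have hqc₁ : IsQuasiCompactMor f₁.hom :=
    Groth.Agent.Lib.AlgStLocQ.isQuasiCompactMor_of_isQuasiCompactSp_affine X₁.property f₁.hom hX₁qc
  have hy : HasAt (fun U u => ringKrullDim ↥(U.presheaf.stalk u) = 0) TT.obj y :=
    ⟨T, 𝟙 _, t, repWith_id _ _, ofPt_id T t, (ringKrullDim_stalk_eq_zero_iff t).2 ht⟩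
  have hq₁ : ∀ x : Points X₁.obj, Points.map f₁.hom x = y → HasAtMor QQ f₁.hom x := by
    intro x hx
    obtain ⟨U₂, b, hbe, hbs⟩ := X₁.property.atlas
    obtain ⟨u₂, rfl⟩ := ofPt_surjective b hbs x
    obtain ⟨h, hh⟩ := (yon S).map_surjective ((b ≫ i₁.hom) ≫ q)
    have hbe' : RepWith @Etale (b ≫ i₁.hom) := repWith_comp _ hbe hi₁e
    have comm : (b ≫ i₁.hom) ≫ qq.hom = (yon S).map h ≫ 𝟙 _ := by
      rw [Category.comp_id, hh]
      rfl
    have comm₁ : b ≫ f₁.hom = (yon S).map h ≫ 𝟙 _ := by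
      rw [Category.comp_id, hh]
      show b ≫ i₁.hom ≫ q = _
      rw [Category.assoc]
    have hx' : Points.map q (Points.ofPt (b ≫ i₁.hom) u₂) = y := by
      rw [← hx, Points.map_ofPt, Points.map_ofPt]
      show Points.ofPt ((b ≫ i₁.hom) ≫ q) u₂ = Points.ofPt (b ≫ i₁.hom ≫ q) u₂
      rw [Category.assoc]
    have h1 := (hasAtMor_iff qq (b ≫ i₁.hom) (𝟙 _) h u₂ hbe' (repWith_id _ _) comm).1
      (hq _ hx')
    exact (hasAtMor_iff f₁ b (𝟙 _) h u₂ hbe (repWith_id _ _) comm₁).2 h1
  obtain ⟨T₁, aT, t₁, haTe, hat, hfin⟩ :=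
    exists_finite_chart_codimZero f₁ y hqs₁ ⟨hlft₁, hqc₁⟩ hy hq₁
  obtain ⟨g, hg⟩ := (yon S).map_surjective aT
  have hge : Etale g.left := by
    rw [← hg] at haTe
    exact (repWith_yon_map_iff @Etale g).1 haTe
  have hgt : g.left t₁ = t := by
    rw [← hg, ofPt_yon_map] at hat
    exact ofScheme_injective T hat
  refine ⟨T₁, g, t₁, hge, hgt, ?_⟩
  intro P' prP prT sq
  have hge' : RepWith @Etale ((yon S).map g) := (repWith_yon_map_iff @Etale g).2 hge
  have sqX := IsPullback.of_hasPullback i₁.hom prP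
  have hX₁' : IsAlgSpace (pullback i₁.hom prP) :=
    isAlgSpace_of_isPullback P.property.diag X₁.property P'.property sqX
  let X₁' : Space S := ⟨pullback i₁.hom prP, hX₁'⟩
  let i' : X₁'.obj ⟶ P'.obj := pullback.snd i₁.hom prP
  have hi' : RepWith @IsOpenImmersion i' :=
    MorphismProperty.of_isPullback (P := RepWith @IsOpenImmersion) sqX hi₁
  have sqB : IsPullback (pullback.fst i₁.hom prP) (i' ≫ prT) (i₁.hom ≫ q) ((yon S).map g) :=
    sqX.paste_vert sq
  have hfinX : IsFiniteMor (i' ≫ prT) := by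
    refine hfin X₁' (pullback.fst i₁.hom prP) (i' ≫ prT) ?_
    rw [← hg]
    exact sqB
  have h2 : IsUnivClosedMor (i' ≫ prT) := isUnivClosedMor_of_isFiniteMor _ hfinX
  have hsepT : IsSeparatedMor prT := isSeparatedMor_of_isPullback sq hsep
  have h3 : IsUnivClosedMor i' :=
    isUnivClosedMor_of_comp_of_isSeparatedMor X₁'.property P'.property
      (IsAlgSpace.yon_obj T₁).diag i' prT hsepT h2
  have hcl : IsClosedMap (Points.map i') := isClosedMap_of_isUnivClosedMor P'.property i' h3
  have hprPe : RepWith @Etale prP := repWith_fst_of_isPullback _ sq hge'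
  have hsurj : IsSurjectiveMor i' := by
    intro p
    by_contra hp
    obtain ⟨U₂, b, hbe, hbs⟩ := P'.property.atlas
    obtain ⟨u₂, rfl⟩ := ofPt_surjective b hbs p
    obtain ⟨u', hu's, hu'max⟩ := exists_maximal_generalization u₂
    have hu'W : Points.ofPt b u' ∉ Set.range (Points.map i') := by
      intro hmem
      apply hp
      have hcl' : IsClosed (Points.ofPt b ⁻¹' Set.range (Points.map i')) :=
        hcl.isClosed_range.preimage (Points.continuous_ofPt b)
      exact hu's.mem_closed hcl' hmem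
    obtain ⟨h, hh⟩ := (yon S).map_surjective ((b ≫ prP) ≫ q)
    have hbe' : RepWith @Etale (b ≫ prP) := repWith_comp _ hbe hprPe
    have htt : h.left u' = t := hD U₂ (b ≫ prP) h hbe' hh.symm u' hu'max
    have hfibre : Points.map q (Points.map prP (Points.ofPt b u')) = y := by
      rw [Points.map_ofPt, Points.map_ofPt, ← hh, ofPt_yon_map, htt]
    have hmemW : Points.map prP (Points.ofPt b u') ∈ Wset :=
      Set.mem_biUnion (show Points.map prP (Points.ofPt b u') ∈ Points.map q ⁻¹' {y} from hfibre)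
        ⟨u _, hau _⟩
    rw [← hrange₁] at hmemW
    obtain ⟨x₁, hx₁⟩ := hmemW
    obtain ⟨w, -, hw2⟩ := exists_of_isPullback sqX x₁ (Points.ofPt b u') hx₁
    exact hu'W ⟨w, hw2⟩
  haveI : IsIso i' := isIso_of_openImmersion_of_surjective i' hi' hsurj
  have e1 : prT = inv i' ≫ (i' ≫ prT) := by rw [IsIso.inv_hom_id_assoc]
  rw [e1]
  exact Groth.Agent.Lib.OfPshWith.isFiniteMor_comp _ _ (isFiniteMor_of_isIso _) hfinX

end Groth.Agent.Lib.AlgSpGenFin5H6
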