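import Mathlib
import Groth.Agent.Lib.AlgSpGenFin5_helper6
import Groth.Agent.Lib.AlgSpDiag_helper7

/-!
# Generic finiteness for quasi-compact morphisms with a finite atlas (helper6)
-/

set_option autoImplicit false
universe u
open CategoryTheory CategoryTheory.Limits AlgebraicGeometry Opposite TopologicalSpace

namespace Groth.Agent.Lib.AlgSpGenFin6H6

open AlgSp Groth.Agent.Lib.AlgSpPoints_helper7 Groth.Agent.Lib.AlgSpOpenSub_helper7
  Groth.Agent.Lib.AlgSpPullback_helper7 Groth.Agent.Lib.AlgSpIso_helper7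
  Groth.Agent.Lib.AlgSpBasic_helper7 Groth.Agent.Lib.AlgSpDescent_helper7
  Groth.Agent.Lib.AlgSpSmST_helper7 Groth.Agent.Lib.AlgSpSep_helper7
  Groth.Agent.Lib.AlgSpUnram_helper7 Groth.Agent.Lib.AlgSpQC2_helper7
  Groth.Agent.Lib.AlgSpFinDescH6 Groth.Agent.Lib.AlgSpProper_helper7
  Groth.Agent.Lib.ElemDistSq_helper7 Groth.Agent.Lib.AlgSpEtSplitH6
  Groth.Agent.Lib.AlgSpEtSplit2H6 Groth.Agent.Lib.AlgSpOpen_helper7
  Groth.Agent.Lib.AlgSpQC_helper7 Groth.Agent.Lib.AlgSpQfFinH7
  Groth.Agent.Lib.AlgSpPropFinH6 Groth.Agent.Lib.AlgSpGenFinH6 Groth.Agent.Lib.AlgSpGenFin2H6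
  Groth.Agent.Lib.AlgSpGenFin3H6 Groth.Agent.Lib.AlgSpFinTfaeH6
  Groth.Agent.Lib.AlgSpCodim0_helper6 Groth.Agent.Lib.AlgSpDescent2_helper7
  Groth.Agent.Lib.AlgSpEtale_helper7 Groth.Agent.Lib.AlgSpQfLocusH7
  Groth.Agent.Lib.AlgSpQfLocus2H7 Groth.Agent.Lib.AlgSpChart_helper7 Groth.Agent.Lib.UnramLocH7
  Groth.Agent.Lib.AlgSpLocP_helper7 Groth.Agent.Lib.AlgSpLocP4_helper7
  Groth.Agent.Lib.AlgSpFEtDenseH6 Groth.Agent.Lib.AlgSpUniv_helper7
  Groth.Agent.Lib.AlgSpGenFin5H6

variable {S : Scheme.{u}}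

theorem isFinite_of_isFiniteMor_yon_map {U V : Over S} (φ : U ⟶ V)
    (h : IsFiniteMor ((yon S).map φ)) : IsFinite φ.left := by
  have h1 : RepWith @IsFinite ((yon S).map φ) :=
    Groth.Agent.Lib.AlgSpGlue2H7.repWith_of_affine_local @IsFinite _
      (fun Z hZ g => by
        obtain ⟨W, i, fst, sq, -, hi⟩ := h hZ g
        exact ⟨W, i, fst, sq, hi⟩)
  exact (repWith_yon_map_iff @IsFinite φ).1 h1

/-- If an étale atlas and its relation chart become finite over `T'`, the space becomes finite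
over `T'`. -/
theorem isFiniteMor_of_finite_atlas_rel {P₁ : Space S} {V₁ U' : Over S} [IsAffine V₁.left]
    [IsAffine U'.left] (q₁ : P₁.obj ⟶ (yon S).obj V₁)
    (c : (yon S).obj U' ⟶ P₁.obj) (hce : RepWith @Etale c) (hcs : RepWith @Surjective c)
    (h' : U' ⟶ V₁) (hcq : c ≫ q₁ = (yon S).map h')
    {W2 E : Over S} (a' b' : W2 ⟶ U') (r : (yon S).obj W2 ⟶ pullback q₁ q₁) (ρE : E ⟶ W2)
    (fstE : (yon S).obj E ⟶ P₁.obj)
    (hr1 : r ≫ pullback.fst q₁ q₁ = (yon S).map a' ≫ c)
    (sqW' : IsPullback a'.left b'.left h'.left h'.left)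
    (hre : RepWith @Etale r) (hrs : RepWith @Surjective r)
    (sqE : IsPullback fstE ((yon S).map ρE) (pullback.diagonal q₁) r) (hρmono : Mono ρE.left)
    (w : W2 ⟶ V₁) (hw : w = a' ≫ h')
    {T' : Over S} (gT : T' ⟶ V₁)
    (hF1 : IsFinite (pullback.snd h'.left gT.left))
    (hF2 : IsFinite (pullback.snd (ρE.left ≫ w.left) gT.left))
    (P : Space S) (ρ : P.obj ⟶ P₁.obj) (prU' : P.obj ⟶ (yon S).obj T')
    (sqρ : IsPullback ρ prU' q₁ ((yon S).map gT)) : IsFiniteMor prU' := by
  classical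
  haveI := hρmono
  haveI hh'aff : IsAffineHom h'.left := inferInstance
  haveI ha'aff : IsAffineHom a'.left :=
    MorphismProperty.of_isPullback (P := @IsAffineHom) sqW'.flip hh'aff
  have hwl : w.left = a'.left ≫ h'.left := by rw [hw]; rfl
  haveI hwaff : IsAffineHom w.left := by rw [hwl]; infer_instance
  let Q' : Over S := Over.mk (pullback.fst h'.left gT.left ≫ U'.hom)
  let qU : Q' ⟶ U' := Over.homMk (pullback.fst h'.left gT.left) rfl
  let qT : Q' ⟶ T' := Over.homMk (pullback.snd h'.left gT.left) (by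
    show pullback.snd h'.left gT.left ≫ T'.hom = pullback.fst h'.left gT.left ≫ U'.hom
    rw [← Over.w gT, ← pullback.condition_assoc, Over.w h'])
  have hqq : qU ≫ h' = qT ≫ gT := Over.OverMorphism.ext pullback.condition
  have sqL : IsPullback qU.left qT.left h'.left gT.left :=
    IsPullback.of_hasPullback h'.left gT.left
  have sqO : IsPullback qU qT h' gT :=
    IsPullback.of_map (Over.forget S) (Over.OverMorphism.ext sqL.w) sqL
  have sqQ : IsPullback ((yon S).map qU) ((yon S).map qT) ((yon S).map h')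
      ((yon S).map gT) := sqO.map (yon S)
  have wc : ((yon S).map qU ≫ c) ≫ q₁ = (yon S).map qT ≫ (yon S).map gT := by
    rw [Category.assoc, hcq, ← Functor.map_comp, ← Functor.map_comp, hqq]
  let c' : (yon S).obj Q' ⟶ P.obj := sqρ.lift ((yon S).map qU ≫ c) ((yon S).map qT) wc
  have hc'1 : c' ≫ ρ = (yon S).map qU ≫ c := sqρ.lift_fst _ _ _
  have hc'2 : c' ≫ prU' = (yon S).map qT := sqρ.lift_snd _ _ _
  have sqc : IsPullback c' ((yon S).map qU) ρ c := by
    refine IsPullback.of_right ?_ hc'1 sqρ.flip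
    rw [hc'2, hcq]
    exact sqQ.flip
  have hc'e : RepWith @Etale c' :=
    MorphismProperty.of_isPullback (P := RepWith @Etale) sqc.flip hce
  have hc's : RepWith @Surjective c' :=
    MorphismProperty.of_isPullback (P := RepWith @Surjective) sqc.flip hcs
  -- separatedness over `T'`
  let W2' : Over S := Over.mk (pullback.fst w.left gT.left ≫ W2.hom)
  let pW : W2' ⟶ W2 := Over.homMk (pullback.fst w.left gT.left) rfl
  let pT : W2' ⟶ T' := Over.homMk (pullback.snd w.left gT.left) (by
    show pullback.snd w.left gT.left ≫ T'.hom = pullback.fst w.left gT.left ≫ W2.hom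
    rw [← Over.w gT, ← pullback.condition_assoc, Over.w w])
  have hpWT : pW ≫ w = pT ≫ gT := Over.OverMorphism.ext pullback.condition
  have sqW2L : IsPullback pW.left pT.left w.left gT.left :=
    IsPullback.of_hasPullback w.left gT.left
  have sqW2O : IsPullback pW pT w gT :=
    IsPullback.of_map (Over.forget S) (Over.OverMorphism.ext sqW2L.w) sqW2L
  have sqW2 : IsPullback ((yon S).map pW) ((yon S).map pT) ((yon S).map w)
      ((yon S).map gT) := sqW2O.map (yon S)
  have sqΔ := isPullback_diagonal_of_isPullback sqρ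
  have sqB := isPullback_map_base sqρ
  have hrw : r ≫ pullback.fst q₁ q₁ ≫ q₁ = (yon S).map w := by
    rw [← Category.assoc, hr1, Category.assoc, hcq, ← Functor.map_comp, hw]
  let r' : (yon S).obj W2' ⟶ pullback prU' prU' :=
    sqB.lift ((yon S).map pW ≫ r) ((yon S).map pT)
      (by rw [Category.assoc, hrw, ← Functor.map_comp, ← Functor.map_comp, hpWT])
  have hr'1 : r' ≫ pullback.map prU' prU' q₁ q₁ ρ ρ ((yon S).map gT) sqρ.w.symm sqρ.w.symm =
      (yon S).map pW ≫ r := sqB.lift_fst _ _ _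
  have hr'2 : r' ≫ pullback.fst prU' prU' ≫ prU' = (yon S).map pT := sqB.lift_snd _ _ _
  have sqr' : IsPullback r' ((yon S).map pW)
      (pullback.map prU' prU' q₁ q₁ ρ ρ ((yon S).map gT) sqρ.w.symm sqρ.w.symm) r := by
    refine IsPullback.of_right ?_ hr'1 sqB.flip
    rw [hr'2, hrw]
    exact sqW2.flip
  have hr'e : RepWith @Etale r' :=
    MorphismProperty.of_isPullback (P := RepWith @Etale) sqr'.flip hre
  have hr's : RepWith @Surjective r' :=
    MorphismProperty.of_isPullback (P := RepWith @Surjective) sqr'.flip hrs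
  let E' : Over S := Over.mk (pullback.fst ρE.left pW.left ≫ E.hom)
  let pE : E' ⟶ E := Over.homMk (pullback.fst ρE.left pW.left) rfl
  let ρE' : E' ⟶ W2' := Over.homMk (pullback.snd ρE.left pW.left) (by
    show pullback.snd ρE.left pW.left ≫ pW.left ≫ W2.hom =
      pullback.fst ρE.left pW.left ≫ E.hom
    rw [← pullback.condition_assoc, Over.w ρE])
  have hpEρ : pE ≫ ρE = ρE' ≫ pW := Over.OverMorphism.ext pullback.condition
  have sqE'L : IsPullback pE.left ρE'.left ρE.left pW.left :=
    IsPullback.of_hasPullback ρE.left pW.left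
  have sqE'O : IsPullback pE ρE' ρE pW :=
    IsPullback.of_map (Over.forget S) (Over.OverMorphism.ext sqE'L.w) sqE'L
  have sqE'Y : IsPullback ((yon S).map pE) ((yon S).map ρE') ((yon S).map ρE)
      ((yon S).map pW) := sqE'O.map (yon S)
  have wE : ((yon S).map ρE' ≫ r') ≫
      pullback.map prU' prU' q₁ q₁ ρ ρ ((yon S).map gT) sqρ.w.symm sqρ.w.symm =
      ((yon S).map pE ≫ fstE) ≫ pullback.diagonal q₁ := by
    rw [Category.assoc, hr'1, Category.assoc, sqE.w, ← Category.assoc, ← Category.assoc,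
      sqE'Y.w]
  let fstE' : (yon S).obj E' ⟶ P.obj :=
    sqΔ.lift ((yon S).map ρE' ≫ r') ((yon S).map pE ≫ fstE) wE
  have hfstE'1 : fstE' ≫ pullback.diagonal prU' = (yon S).map ρE' ≫ r' := sqΔ.lift_fst _ _ _
  have hfstE'2 : fstE' ≫ ρ = (yon S).map pE ≫ fstE := sqΔ.lift_snd _ _ _
  have sqE'' : IsPullback fstE' ((yon S).map ρE') (pullback.diagonal prU') r' := by
    refine IsPullback.of_right ?_ hfstE'1 sqΔ.flip
    rw [hfstE'2, hr'1]
    exact sqE'Y.paste_horiz sqE
  have hci : IsClosedImmersion ρE'.left := by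
    have sq1 : IsPullback (pullback.fst ρE.left pW.left)
        (pullback.snd ρE.left pW.left ≫ pullback.snd w.left gT.left) (ρE.left ≫ w.left)
        gT.left :=
      (IsPullback.of_hasPullback ρE.left pW.left).paste_vert
        (IsPullback.of_hasPullback w.left gT.left)
    haveI := hF2
    haveI : IsFinite (pullback.snd ρE.left pW.left ≫ pullback.snd w.left gT.left) := by
      rw [← sq1.isoPullback_hom_snd]
      infer_instance
    haveI : IsSeparated (pullback.snd w.left gT.left) := inferInstance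
    haveI : IsFinite (pullback.snd ρE.left pW.left) :=
      IsFinite.of_comp (pullback.snd ρE.left pW.left) (pullback.snd w.left gT.left)
    haveI : Mono (pullback.snd ρE.left pW.left) := inferInstance
    show IsClosedImmersion (pullback.snd ρE.left pW.left)
    exact (IsClosedImmersion.iff_isFinite_and_mono _).2 ⟨inferInstance, inferInstance⟩
  have hrep : Representable (pullback.diagonal prU') :=
    (Groth.Agent.Lib.AlgSpDiag_helper7.diagonal_properties P.property prU').1.rep
  have hsep : IsSeparatedMor prU' :=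
    repWith_of_chart @IsClosedImmersion descendsEtale_isClosedImmersion (pullback.diagonal prU')
      hrep r' hr'e hr's fstE' ρE' sqE'' hci
  -- finiteness over `T'`
  let Qs : Space S := (ofScheme S).obj Q'
  let p : Qs ⟶ P := ObjectProperty.homMk c'
  let prU : P ⟶ (ofScheme S).obj T' := ObjectProperty.homMk prU'
  have hfq : IsFinite qT.left := hF1
  have h1 : IsFiniteMor (p ≫ prU).hom := by
    show IsFiniteMor (c' ≫ prU')
    rw [hc'2]
    exact isFiniteMor_of_repWith _ ((repWith_yon_map_iff @IsFinite qT).2 hfq)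
  exact isFiniteMor_of_etale_surjective_precomp p prU (isEtaleMor_of_repWith' c' hc'e)
    (isSurjectiveMor_of_repWith c' hc's) hsep h1

/-- Generic finiteness for a space over an affine scheme with an affine étale atlas which is
finite over the base. -/
theorem exists_finite_chart_of_finite_atlas {P : Space S} {T U' : Over S} [IsAffine T.left]
    [IsAffine U'.left] (q : P.obj ⟶ (yon S).obj T)
    (c : (yon S).obj U' ⟶ P.obj) (hce : RepWith @Etale c) (hcs : RepWith @Surjective c)
    (h' : U' ⟶ T) (hcq : c ≫ q = (yon S).map h') (hfin : IsFinite h'.left)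
    (t : ↥T.left) (ht : ∀ v : ↥T.left, v ⤳ t → v = t)
    (hD : ∀ (U : Over S) (b : (yon S).obj U ⟶ P.obj) (h : U ⟶ T), RepWith @Etale b →
        b ≫ q = (yon S).map h → ∀ u : ↥U.left, (∀ u' : ↥U.left, u' ⤳ u → u' = u) →
          h.left u = t) :
    ∃ (T' : Over S) (g : T' ⟶ T) (t' : ↥T'.left), Etale g.left ∧ g.left t' = t ∧
      ∀ (P' : Space S) (prP : P'.obj ⟶ P.obj) (prT : P'.obj ⟶ (yon S).obj T'),
        IsPullback prP prT q ((yon S).map g) → IsFiniteMor prT := by
  classical
  haveI := hfin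
  obtain ⟨W2, E, a', b', r, ρE, fstE, hr1, sqW', hre, hrs, sqE, hρlft, hse, hρmono⟩ :=
    exists_rel_chart q @LocallyOfFiniteType
      (Groth.Agent.Lib.AlgSpDiag_helper7.diagonal_properties P.property q).1 c hce hcs h'
      hcq.symm
  haveI := hρlft
  haveI := hse
  haveI := hρmono
  obtain ⟨w, hw⟩ : ∃ w : W2 ⟶ T, w = a' ≫ h' := ⟨_, rfl⟩
  have hwl : w.left = a'.left ≫ h'.left := by rw [hw]; rfl
  haveI ha'fin : IsFinite a'.left :=
    MorphismProperty.of_isPullback (P := @IsFinite) sqW'.flip hfin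
  haveI hwfin : IsFinite w.left := by rw [hwl]; infer_instance
  obtain ⟨g₂, hg₂⟩ : ∃ g₂ : E ⟶ T, g₂ = ρE ≫ w := ⟨_, rfl⟩
  have hg₂l : g₂.left = ρE.left ≫ w.left := by rw [hg₂]; rfl
  have hg₂l' : g₂.left = (ρE ≫ a').left ≫ h'.left := by
    rw [hg₂l, hwl, Over.comp_left, Category.assoc]
  haveI hg₂lft : LocallyOfFiniteType g₂.left := by rw [hg₂l]; infer_instance
  haveI hg₂sep : IsSeparated g₂.left := by rw [hg₂l]; infer_instance
  haveI hg₂lqf : LocallyQuasiFinite g₂.left := by
    rw [hg₂l']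
    haveI : LocallyQuasiFinite (ρE ≫ a').left := locallyQuasiFinite_of_unramified _
    infer_instance
  -- the separated case for `E ⟶ T`
  let PE : Space S := ⟨(yon S).obj E, IsAlgSpace.yon_obj E⟩
  have hEl : LocP @LocallyOfFiniteType ((yon S).map g₂) :=
    Groth.Agent.Lib.AlgSpLocP_helper7.locP_of_repWith @LocallyOfFiniteType
      (fun _ _ g hg => by
        haveI : Etale g := hg
        exact (inferInstance : LocallyOfFiniteType g)) _
      ((repWith_yon_map_iff @LocallyOfFiniteType g₂).2 hg₂lft)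
  have hEs : IsSeparatedMor ((yon S).map g₂) := (isSeparatedMor_yon_map_iff g₂).2 hg₂sep
  have hEfib : (Points.map ((yon S).map g₂) ⁻¹' {Points.ofScheme T t}).Finite := by
    have h1 : (g₂.left ⁻¹' {t}).Finite := by
      have h2 : (w.left ⁻¹' {t}).Finite :=
        (w.left.isCompact_preimage_singleton t).finite (w.left.isDiscrete_preimage_singleton t)
      have h3 : g₂.left ⁻¹' {t} ⊆ ρE.left ⁻¹' (w.left ⁻¹' {t}) := by
        intro z hz
        show w.left (ρE.left z) = t
        rw [← Scheme.Hom.comp_apply, ← hg₂l]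
        exact hz
      exact (h2.preimage (ρE.left.injective.injOn)).subset h3
    refine (h1.image (Points.ofScheme E)).subset ?_
    intro x hx
    obtain ⟨z, rfl⟩ := ofScheme_surjective E x
    refine ⟨z, ?_, rfl⟩
    have hx' : Points.map ((yon S).map g₂) (Points.ofScheme E z) = Points.ofScheme T t := hx
    rw [← ofPt_id, Points.map_ofPt, Category.id_comp, ofPt_yon_map] at hx'
    exact ofScheme_injective T hx'
  have hEq : ∀ x : Points PE.obj, Points.map ((yon S).map g₂) x = Points.ofScheme T t →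
      HasAtMor QQ ((yon S).map g₂) x := by
    intro x _
    obtain ⟨z, rfl⟩ := ofScheme_surjective E x
    refine ⟨E, T, 𝟙 _, 𝟙 _, g₂, z, repWith_id _ _, repWith_id _ _,
      by rw [Category.id_comp, Category.comp_id], ofPt_id E z, ⊤, trivial, ?_, ?_⟩
    · infer_instance
    · infer_instance
  have hED : ∀ (U : Over S) (b : (yon S).obj U ⟶ PE.obj) (h : U ⟶ T), RepWith @Etale b →
      b ≫ (yon S).map g₂ = (yon S).map h → ∀ u : ↥U.left,
        (∀ u' : ↥U.left, u' ⤳ u → u' = u) → h.left u = t := by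
    intro U b h hbe hbh u hu
    have hρa : RepWith @Etale ((yon S).map (ρE ≫ a')) := (repWith_yon_map_iff @Etale _).2 hse
    refine hD U (b ≫ (yon S).map (ρE ≫ a') ≫ c) h
      (repWith_comp _ hbe (repWith_comp _ hρa hce)) ?_ u hu
    rw [Category.assoc, Category.assoc, hcq, ← Functor.map_comp, ← hbh, hg₂, hw,
      Category.assoc]
  obtain ⟨T₁, g, t₁, hge, hgt, hfinE⟩ :=
    exists_finite_chart_of_sep (P := PE) ((yon S).map g₂) hEl hEs t ht hEfib hEq hED
  refine ⟨T₁, g, t₁, hge, hgt, ?_⟩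
  intro P' prP prT sq
  have hF1 : IsFinite (pullback.snd h'.left g.left) := inferInstance
  let E' : Over S := Over.mk (pullback.fst g₂.left g.left ≫ E.hom)
  let pE : E' ⟶ E := Over.homMk (pullback.fst g₂.left g.left) rfl
  let pT : E' ⟶ T₁ := Over.homMk (pullback.snd g₂.left g.left) (by
    show pullback.snd g₂.left g.left ≫ T₁.hom = pullback.fst g₂.left g.left ≫ E.hom
    rw [← Over.w g, ← pullback.condition_assoc, Over.w g₂])
  have sqL : IsPullback pE.left pT.left g₂.left g.left :=
    IsPullback.of_hasPullback g₂.left g.left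
  have sqO : IsPullback pE pT g₂ g :=
    IsPullback.of_map (Over.forget S) (Over.OverMorphism.ext sqL.w) sqL
  have sqY : IsPullback ((yon S).map pE) ((yon S).map pT) ((yon S).map g₂) ((yon S).map g) :=
    sqO.map (yon S)
  have hfE' : IsFiniteMor ((yon S).map pT) :=
    hfinE ⟨(yon S).obj E', IsAlgSpace.yon_obj E'⟩ ((yon S).map pE) ((yon S).map pT) sqY
  have hF2₀ : IsFinite (pullback.snd g₂.left g.left) := isFinite_of_isFiniteMor_yon_map pT hfE'
  have hF2 : IsFinite (pullback.snd (ρE.left ≫ w.left) g.left) := by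
    subst hg₂
    exact hF2₀
  exact isFiniteMor_of_finite_atlas_rel q c hce hcs h' hcq a' b' r ρE fstE hr1 sqW' hre hrs sqE
    hρmono w hw g hF1 hF2 P' prP prT sq

end Groth.Agent.Lib.AlgSpGenFin6H6
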