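import Groth.Agent.Lib.AlgSpGeneriz_helper6

/-!
# The space of points of a decent algebraic space is Kolmogorov (helper6)
-/

set_option autoImplicit false
universe u
open CategoryTheory CategoryTheory.Limits AlgebraicGeometry Opposite

namespace Groth.Agent.Lib.AlgSpT0_helper6

open AlgSp Groth.Agent.Lib.AlgSpPoints_helper7 Groth.Agent.Lib.AlgSpQC_helper7
  Groth.Agent.Lib.AlgSpPullback_helper7 Groth.Agent.Lib.AlgSpBasic_helper7
  Groth.Agent.Lib.AlgSpEtale_helper7 Groth.Agent.Lib.AlgSpGeneriz_helper6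
  Groth.Agent.Lib.AlgSpFibre_helper6

variable {S : Scheme.{u}}

theorem t0Space_points_of_isDecent {X : Sp S} (hX : IsAlgSpace X) (hd : IsDecent X) :
    T0Space (Points X) := by
  rw [t0Space_iff_inseparable]
  intro x1 x2 h12
  obtain ⟨U, a, hae, has⟩ := hX.atlas
  obtain ⟨u2, hu2⟩ := ofPt_surjective a has x2
  obtain ⟨p1, hp1, -, hq1⟩ := hd x1
  obtain ⟨p2, hp2, -, hq2⟩ := hd x2
  obtain ⟨u1, h1, hu1⟩ := exists_specializes_lift x2 x1 h12.specializes p1 hp1 hq1 a hae u2 hu2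
  obtain ⟨u2', h2, hu2'⟩ := exists_specializes_lift x1 x2 h12.specializes' p2 hp2 hq2 a hae u1 hu1
  have he : u2 = u2' :=
    eq_of_specializes_of_isDecent hd a hae u2 u2' (hu2.trans hu2'.symm) (h2.trans h1)
  have : u1 = u2 := (h1.antisymm (he ▸ h2)).eq
  rw [← hu1, ← hu2, this]

end Groth.Agent.Lib.AlgSpT0_helper6
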