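import Mathlib

/-!
# Generic finiteness at a minimal prime (helper5): algebra input for S2080, S2081.
APPEND-ONLY once landed.
-/

set_option autoImplicit false
universe u

namespace Groth.Agent.GenFinAlg

open Polynomial TensorProduct

/-- If all generators become integral in the localization, the localized map is finite. -/
lemma away_finite_of_gens {R S : Type u} [CommRing R] [CommRing S] (φ : R →+* S)
    (hft : φ.FiniteType) (a : R) (gens : Set S)
    (hgens : letI := φ.toAlgebra; Algebra.adjoin R gens = ⊤)
    (R' S' : Type u) [CommRing R'] [CommRing S'] [Algebra R R'] [Algebra S S']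
    [IsLocalization.Away a R'] [IsLocalization.Away (φ a) S']
    (hint : ∀ x ∈ gens, (IsLocalization.Away.map R' S' φ a).IsIntegralElem (algebraMap S S' x)) :
    (IsLocalization.Away.map R' S' φ a).Finite := by
  letI := φ.toAlgebra
  set ψ : R' →+* S' := IsLocalization.Away.map R' S' φ a with hψ
  have hcomp : ψ.comp (algebraMap R R') = (algebraMap S S').comp φ := IsLocalization.map_comp _
  have hcomp' : ∀ r, ψ (algebraMap R R' r) = algebraMap S S' (φ r) := fun r => congr($hcomp r)
  have hu : ψ (algebraMap R R' a) * ψ (IsLocalization.Away.invSelf a) = 1 := by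
    rw [← map_mul, IsLocalization.Away.mul_invSelf, map_one]
  apply RingHom.IsIntegral.to_finite
  · have key : ∀ y : S, ψ.IsIntegralElem (algebraMap S S' y) := by
      intro y
      have hy : y ∈ Algebra.adjoin R gens := by rw [hgens]; trivial
      induction hy using Algebra.adjoin_induction with
      | mem z hz => exact hint z hz
      | algebraMap r =>
        have h5 : algebraMap S S' (algebraMap R S r) = ψ (algebraMap R R' r) := (hcomp' r).symm
        rw [h5]
        exact ψ.isIntegralElem_map
      | add x y _ _ hx hy =>
        rw [map_add]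
        exact RingHom.IsIntegralElem.add ψ hx hy
      | mul x y _ _ hx hy =>
        rw [map_mul]
        exact RingHom.IsIntegralElem.mul ψ hx hy
    intro x
    obtain ⟨n, y, hxy⟩ := IsLocalization.Away.surj (φ a) x
    have hx : x = algebraMap S S' y * ψ (IsLocalization.Away.invSelf a ^ n) := by
      rw [← hxy, map_pow, mul_assoc, ← mul_pow, ← hcomp' a, hu, one_pow, mul_one]
    rw [hx]
    exact RingHom.IsIntegralElem.mul ψ (key y) ψ.isIntegralElem_map
  · have h1 : ((algebraMap S S').comp φ).FiniteType := by
      refine RingHom.FiniteType.comp ?_ hft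
      haveI : Algebra.FinitePresentation S S' := IsLocalization.Away.finitePresentation (φ a)
      exact RingHom.finiteType_algebraMap.mpr inferInstance
    rw [← hcomp] at h1
    exact h1.of_comp_finiteType

/-- The maximal ideal of the localization at a minimal prime consists of nilpotent elements. -/
lemma maximalIdeal_le_nilradical {R : Type u} [CommRing R] (p : Ideal R) [p.IsPrime]
    (hp : p ∈ minimalPrimes R) :
    IsLocalRing.maximalIdeal (Localization.AtPrime p) ≤ nilradical (Localization.AtPrime p) := by
  have h := IsLocalization.AtPrime.radical_map_of_mem_minimalPrimes (Localization.AtPrime p) p ⊥ hp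
  rw [Ideal.map_bot, Localization.AtPrime.map_eq_maximalIdeal] at h
  rw [← h, nilradical, Ideal.zero_eq_bot]

attribute [local instance] Algebra.TensorProduct.rightAlgebra in
/-- Key step: over a minimal prime with finite fibre, every element of a finite type algebra is
integral up to denominators outside the prime. -/
lemma exists_integral_data {R S : Type u} [CommRing R] [CommRing S] [Algebra R S]
    [Algebra.FiniteType R S] (p : Ideal R) [p.IsPrime] (hp : p ∈ minimalPrimes R)
    (hfin : (PrimeSpectrum.comap (algebraMap R S) ⁻¹' {⟨p, inferInstance⟩}).Finite) (x : S) :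
    ∃ (m t : R) (Q : R[X]), m ∉ p ∧ t ∉ p ∧ Q.Monic ∧
      algebraMap R S t * aeval (m • x) Q = 0 := by
  haveI hJ : IsJacobsonRing (p.Fiber S) := isJacobsonRing_of_finiteType (A := p.ResidueField)
  haveI hF : Finite (PrimeSpectrum (p.Fiber S)) :=
    (PrimeSpectrum.preimageEquivFiber R S ⟨p, inferInstance⟩).finite_iff.mp hfin.to_subtype
  haveI hMF : Module.Finite p.ResidueField (p.Fiber S) := by
    rw [Module.finite_iff_isArtinianRing, isArtinianRing_iff_isNoetherianRing_krullDimLE_zero]
    exact ⟨Algebra.FiniteType.isNoetherianRing p.ResidueField _,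
      (PrimeSpectrum.discreteTopology_iff_finite_and_krullDimLE_zero.mp inferInstance).right⟩
  let y : p.Fiber S := (1 : p.ResidueField) ⊗ₜ[R] x
  have hy : IsIntegral p.ResidueField y := Algebra.IsIntegral.isIntegral y
  haveI : Algebra.IsIntegral (Localization.AtPrime p) p.ResidueField :=
    Algebra.isIntegral_of_surjective IsLocalRing.residue_surjective
  have hy' : IsIntegral (Localization.AtPrime p) y := isIntegral_trans y hy
  obtain ⟨m, hm⟩ := IsIntegral.exists_multiple_integral_of_isLocalization p.primeCompl y hy'
  obtain ⟨Q₀, hQ₀, hQ₀y⟩ := hm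
  have hmy : m • y = Algebra.TensorProduct.includeRight ((m : R) • x) := by
    rw [Submonoid.smul_def, Algebra.TensorProduct.includeRight_apply, TensorProduct.tmul_smul]
  rw [hmy, ← Polynomial.aeval_def, Polynomial.aeval_algHom_apply] at hQ₀y
  set s : S := aeval ((m : R) • x) Q₀ with hs
  -- transport to the quotient of the localization
  let e := Ideal.Fiber.algEquivQuotient (S := S) p
  have he : e (algebraMap S (p.Fiber S) s) = 0 := by
    have h1 : algebraMap S (p.Fiber S) s = Algebra.TensorProduct.includeRight s := rfl
    rw [h1, hQ₀y, map_zero]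
  rw [e.commutes] at he
  have hmem : algebraMap S (Localization (Algebra.algebraMapSubmonoid S p.primeCompl)) s ∈
      Ideal.map (algebraMap (Localization p.primeCompl)
        (Localization (Algebra.algebraMapSubmonoid S p.primeCompl)))
        (IsLocalRing.maximalIdeal (Localization p.primeCompl)) :=
    Ideal.Quotient.eq_zero_iff_mem.mp he
  have hle : Ideal.map (algebraMap (Localization p.primeCompl)
        (Localization (Algebra.algebraMapSubmonoid S p.primeCompl)))
        (IsLocalRing.maximalIdeal (Localization p.primeCompl)) ≤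
      nilradical (Localization (Algebra.algebraMapSubmonoid S p.primeCompl)) := by
    rw [Ideal.map_le_iff_le_comap]
    intro r hr
    have hr' : IsNilpotent r := mem_nilradical.mp (maximalIdeal_le_nilradical p hp hr)
    exact mem_nilradical.mpr (hr'.map _)
  obtain ⟨N, hN⟩ := mem_nilradical.mp (hle hmem)
  rw [← map_pow] at hN
  obtain ⟨c, hc⟩ := (IsLocalization.map_eq_zero_iff
    (Algebra.algebraMapSubmonoid S p.primeCompl) _ (s ^ N)).mp hN
  obtain ⟨t, ht, htc⟩ := Submonoid.mem_map.mp c.2
  refine ⟨m, t, Q₀ ^ N, m.2, ht, hQ₀.pow N, ?_⟩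
  rw [map_pow, ← hs, htc]
  exact hc

/-- Generic finiteness at a minimal prime (Stacks 02ML): if `R → S` is of finite type, `p` is a
minimal prime of `R` with finitely many primes of `S` above it, then `R_a → S_a` is finite for some
`a ∉ p`. -/
lemma exists_away_finite_of_minimal {R S : Type u} [CommRing R] [CommRing S] (φ : R →+* S)
    (hft : φ.FiniteType) (p : Ideal R) (hp : p ∈ minimalPrimes R)
    (hfin : {q : PrimeSpectrum S | q.asIdeal.comap φ = p}.Finite) :
    ∃ a : R, a ∉ p ∧ ∀ (R' S' : Type u) [CommRing R'] [CommRing S'] [Algebra R R'] [Algebra S S']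
      [IsLocalization.Away a R'] [IsLocalization.Away (φ a) S'],
      (IsLocalization.Away.map R' S' φ a).Finite := by
  classical
  letI := φ.toAlgebra
  haveI hpp : p.IsPrime := hp.isPrime
  haveI : Algebra.FiniteType R S := hft
  have hfin' : (PrimeSpectrum.comap (algebraMap R S) ⁻¹' {⟨p, inferInstance⟩}).Finite := by
    refine hfin.subset ?_
    intro q hq
    have h1 : PrimeSpectrum.comap (algebraMap R S) q = ⟨p, inferInstance⟩ := hq
    exact congrArg PrimeSpectrum.asIdeal h1
  obtain ⟨gens, hgens⟩ := (inferInstance : Algebra.FiniteType R S).out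
  choose m t Q hm ht hQ hzero using exists_integral_data (S := S) p hp hfin'
  refine ⟨∏ x ∈ gens, (m x * t x), ?_, ?_⟩
  · intro hmem
    obtain ⟨x, _, hx⟩ := (Ideal.IsPrime.prod_mem_iff).mp hmem
    rcases hpp.mem_or_mem hx with h | h
    · exact hm x h
    · exact ht x h
  · intro R' S' _ _ _ _ _ _
    refine away_finite_of_gens φ hft _ (gens : Set S) hgens R' S' ?_
    intro x hx
    set a := ∏ x ∈ gens, (m x * t x) with ha
    set ψ : R' →+* S' := IsLocalization.Away.map R' S' φ a with hψ
    have hcomp : ψ.comp (algebraMap R R') = (algebraMap S S').comp φ := IsLocalization.map_comp _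
    have hcomp' : ∀ r, ψ (algebraMap R R' r) = algebraMap S S' (φ r) := fun r => congr($hcomp r)
    have hdvd : m x * t x ∣ a := Finset.dvd_prod_of_mem _ hx
    have hua : IsUnit (algebraMap R R' a) := IsLocalization.Away.algebraMap_isUnit a
    have hmt : IsUnit (algebraMap R R' (m x * t x)) := isUnit_of_dvd_unit (map_dvd _ hdvd) hua
    rw [map_mul] at hmt
    have hum : IsUnit (algebraMap R R' (m x)) := isUnit_of_mul_isUnit_left hmt
    have hut : IsUnit (algebraMap R R' (t x)) := isUnit_of_mul_isUnit_right hmt
    have h1 : ψ.IsIntegralElem (algebraMap S S' (m x • x)) := by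
      refine ⟨(Q x).map (algebraMap R R'), (hQ x).map _, ?_⟩
      rw [Polynomial.eval₂_map, hcomp, ← Polynomial.hom_eval₂]
      have h2 : algebraMap S S' (φ (t x)) *
          algebraMap S S' (Polynomial.eval₂ φ (m x • x) (Q x)) = 0 := by
        rw [← map_mul]
        have h3 := hzero x
        rw [Polynomial.aeval_def] at h3
        exact (congrArg (algebraMap S S') h3).trans (map_zero _)
      have hut' : IsUnit (algebraMap S S' (φ (t x))) := by
        rw [← hcomp']
        exact hut.map ψ
      exact (hut'.mul_right_eq_zero).mp h2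
    have h3 : algebraMap S S' x = ψ (↑hum.unit⁻¹) * algebraMap S S' (m x • x) := by
      have h4 : m x • x = φ (m x) * x := Algebra.smul_def _ _
      rw [h4, map_mul, ← hcomp', ← mul_assoc, ← map_mul, IsUnit.val_inv_mul, map_one, one_mul]
    rw [h3]
    exact RingHom.IsIntegralElem.mul ψ ψ.isIntegralElem_map h1

/-- An element of a minimal prime is killed, up to a power, by an element outside the prime. -/
lemma exists_mul_pow_eq_zero {R : Type u} [CommRing R] (p : Ideal R) (hp : p ∈ minimalPrimes R)
    (g : R) (hg : g ∈ p) : ∃ t, t ∉ p ∧ ∃ n : ℕ, t * g ^ n = 0 := by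
  haveI := hp.isPrime
  have h1 : algebraMap R (Localization.AtPrime p) g ∈
      IsLocalRing.maximalIdeal (Localization.AtPrime p) := by
    rw [← Localization.AtPrime.map_eq_maximalIdeal]
    exact Ideal.mem_map_of_mem _ hg
  obtain ⟨n, hn⟩ := mem_nilradical.mp (maximalIdeal_le_nilradical p hp h1)
  rw [← map_pow] at hn
  obtain ⟨c, hc⟩ := (IsLocalization.map_eq_zero_iff p.primeCompl _ (g ^ n)).mp hn
  exact ⟨c, c.2, n, hc⟩

end Groth.Agent.GenFinAlg
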