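import Mathlib

/-!
# Dominant morphisms of integral schemes: six equivalent conditions (helper5): S9346.
APPEND-ONLY once landed.
-/

set_option autoImplicit false
universe u

namespace Groth.Agent.DomTFAE

open AlgebraicGeometry CategoryTheory TopologicalSpace

variable {X Y : Scheme.{u}} [IsIntegral X] [IsIntegral Y] (f : X ⟶ Y)

lemma dominant_iff_generic :
    IsDominant f ↔ f.base (genericPoint X) = genericPoint Y := by
  constructor
  · intro h
    have h1 := (genericPoint_spec X).image f.continuous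
    rw [Set.image_univ, h.denseRange.closure_range] at h1
    exact h1.eq (genericPoint_spec Y)
  · intro h
    rw [isDominant_iff]
    have hsub : (Set.univ : Set Y) ⊆ closure (Set.range f) := by
      have hd := (genericPoint_spec Y).def
      rw [← hd]
      exact closure_mono (by
        rw [Set.singleton_subset_iff]
        exact ⟨genericPoint X, h⟩)
    exact fun y => hsub trivial

lemma stalkSpecializes_injective {x y : Y} (h : x ⤳ y) :
    Function.Injective (Y.presheaf.stalkSpecializes h) := by
  have hgen : genericPoint Y ⤳ x := (genericPoint_spec Y).specializes trivial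
  have hinj : Function.Injective (Y.presheaf.stalkSpecializes (hgen.trans h)) :=
    IsFractionRing.injective (Y.presheaf.stalk y) Y.functionField
  intro a b hab
  apply hinj
  have e : ∀ c, Y.presheaf.stalkSpecializes (hgen.trans h) c =
      Y.presheaf.stalkSpecializes hgen (Y.presheaf.stalkSpecializes h c) := by
    intro c
    rw [← TopCat.Presheaf.stalkSpecializes_comp Y.presheaf hgen h]
    rfl
  rw [e, e, hab]

lemma stalkMap_injective_of_generic (h2 : f.base (genericPoint X) = genericPoint Y) (x : X) :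
    Function.Injective (f.stalkMap x) := by
  have hx : genericPoint X ⤳ x := (genericPoint_spec X).specializes trivial
  have hfield : IsField (Y.presheaf.stalk (f.base (genericPoint X))) := by
    rw [h2]
    exact Field.toIsField Y.functionField
  have h1 : Function.Injective (f.stalkMap (genericPoint X)) := by
    rw [injective_iff_map_eq_zero]
    intro a ha
    by_contra hne
    obtain ⟨b, hb⟩ := hfield.mul_inv_cancel hne
    have h3 : (f.stalkMap (genericPoint X)) (a * b) = 1 := by rw [hb, map_one]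
    rw [map_mul, ha, zero_mul] at h3
    exact zero_ne_one h3
  have h0 : Function.Injective
      (Y.presheaf.stalkSpecializes (f.base.hom.map_specializes hx)) :=
    stalkSpecializes_injective _
  intro a b hab
  apply h0
  apply h1
  have e1 := Scheme.Hom.stalkSpecializes_stalkMap_apply f (genericPoint X) x hx a
  have e2 := Scheme.Hom.stalkSpecializes_stalkMap_apply f (genericPoint X) x hx b
  rw [e1, e2, hab]

lemma appLE_injective_of_stalkMap {x : X} (hx : Function.Injective (f.stalkMap x))
    (U : X.Opens) (V : Y.Opens) (hUV : U ≤ f ⁻¹ᵁ V) (hxU : x ∈ U) :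
    Function.Injective (f.appLE V U hUV) := by
  rw [injective_iff_map_eq_zero]
  intro s hs
  have hfx : f x ∈ V := hUV hxU
  apply germ_injective_of_isIntegral Y (f x) hfx
  apply hx
  rw [map_zero, map_zero, Scheme.Hom.germ_stalkMap_apply]
  have e : X.presheaf.germ U x hxU (f.appLE V U hUV s) =
      X.presheaf.germ (f ⁻¹ᵁ V) x hfx (f.app V s) := by
    rw [Scheme.Hom.appLE, CommRingCat.comp_apply, TopCat.Presheaf.germ_res_apply]
  rw [← e, hs, map_zero]

lemma generic_of_appLE_injective (U : X.Opens) (V : Y.Opens) (hUV : U ≤ f ⁻¹ᵁ V)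
    (hV : IsAffineOpen V) (hne : (U : Set X).Nonempty)
    (hinj : Function.Injective (f.appLE V U hUV)) :
    f.base (genericPoint X) = genericPoint Y := by
  have hξU : genericPoint X ∈ U :=
    ((genericPoint_spec X).mem_open_set_iff U.isOpen).mpr (by simpa using hne)
  have hfξV : f.base (genericPoint X) ∈ V := hUV hξU
  by_contra hne'
  have hηZ : genericPoint Y ∉ closure ({f.base (genericPoint X)} : Set Y) := by
    intro hmem
    have h1 : f.base (genericPoint X) ⤳ genericPoint Y := specializes_iff_mem_closure.mpr hmem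
    have h2 : genericPoint Y ⤳ f.base (genericPoint X) :=
      (genericPoint_spec Y).specializes trivial
    exact hne' (h1.antisymm h2).eq
  let W : Y.Opens :=
    ⟨(closure ({f.base (genericPoint X)} : Set Y))ᶜ, isClosed_closure.isOpen_compl⟩
  have hηV : genericPoint Y ∈ V :=
    ((genericPoint_spec Y).mem_open_set_iff V.isOpen).mpr
      ⟨f.base (genericPoint X), trivial, hfξV⟩
  obtain ⟨s, hsW, hηs⟩ := hV.exists_basicOpen_le (V := W) ⟨genericPoint Y, hηZ⟩ hηV
  have hs0 : f.appLE V U hUV s = 0 := by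
    rw [← AlgebraicGeometry.basicOpen_eq_bot_iff, Scheme.basicOpen_appLE]
    by_contra hnb
    have hne2 : ((U ⊓ f ⁻¹ᵁ Y.basicOpen s : X.Opens) : Set X).Nonempty := by
      by_contra hcon
      exact hnb ((Opens.not_nonempty_iff_eq_bot _).mp hcon)
    have hξ2 : genericPoint X ∈ (U ⊓ f ⁻¹ᵁ Y.basicOpen s : X.Opens) :=
      ((genericPoint_spec X).mem_open_set_iff (U ⊓ f ⁻¹ᵁ Y.basicOpen s).isOpen).mpr
        (by simpa using hne2)
    have hW : f.base (genericPoint X) ∈ W := hsW hξ2.2
    exact hW (subset_closure rfl)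
  have hs : s = 0 := hinj (by rw [hs0, map_zero])
  rw [hs, Scheme.basicOpen_zero] at hηs
  exact hηs

lemma exists_affine_pair (x : X) : ∃ (U : X.Opens) (V : Y.Opens) (_ : U ≤ f ⁻¹ᵁ V),
    IsAffineOpen U ∧ IsAffineOpen V ∧ x ∈ U := by
  obtain ⟨_, ⟨V, hV, rfl⟩, hxV, -⟩ :=
    Y.isBasis_affineOpens.exists_subset_of_mem_open (Set.mem_univ (f x)) isOpen_univ
  obtain ⟨_, ⟨U, hU, rfl⟩, hxU, hUV⟩ :=
    X.isBasis_affineOpens.exists_subset_of_mem_open
      (show x ∈ ((f ⁻¹ᵁ V : X.Opens) : Set X) from hxV) (f ⁻¹ᵁ V).isOpen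
  exact ⟨U, V, hUV, hU, hV, hxU⟩

theorem main9346 :
    [IsDominant f,
      f.base (genericPoint ↑X) = genericPoint ↑Y,
      ∃ (U : X.Opens) (V : Y.Opens) (hUV : U ≤ f ⁻¹ᵁ V), IsAffineOpen U ∧ IsAffineOpen V ∧
        (U : Set ↑X).Nonempty ∧ Function.Injective (f.appLE V U hUV),
      ∀ (U : X.Opens) (V : Y.Opens) (hUV : U ≤ f ⁻¹ᵁ V), IsAffineOpen U → IsAffineOpen V →
        (U : Set ↑X).Nonempty → Function.Injective (f.appLE V U hUV),
      ∃ x : ↑X, Function.Injective (f.stalkMap x),
      ∀ x : ↑X, Function.Injective (f.stalkMap x)].TFAE := by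
  tfae_have 1 ↔ 2 := dominant_iff_generic f
  tfae_have 2 → 6 := fun h x => stalkMap_injective_of_generic f h x
  tfae_have 6 → 5 := fun h => ⟨genericPoint X, h _⟩
  tfae_have 6 → 4 := by
    intro h U V hUV _ _ hne
    obtain ⟨x, hx⟩ := hne
    exact appLE_injective_of_stalkMap f (h x) U V hUV hx
  tfae_have 4 → 3 := by
    intro h
    obtain ⟨U, V, hUV, hU, hV, hx⟩ := exists_affine_pair f (genericPoint X)
    exact ⟨U, V, hUV, hU, hV, ⟨_, hx⟩, h U V hUV hU hV ⟨_, hx⟩⟩
  tfae_have 3 → 2 := by
    rintro ⟨U, V, hUV, hU, hV, hne, hinj⟩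
    exact generic_of_appLE_injective f U V hUV hV hne hinj
  tfae_have 5 → 3 := by
    rintro ⟨x, hx⟩
    obtain ⟨U, V, hUV, hU, hV, hxU⟩ := exists_affine_pair f x
    exact ⟨U, V, hUV, hU, hV, ⟨x, hxU⟩, appLE_injective_of_stalkMap f hx U V hUV hxU⟩
  tfae_finish

end Groth.Agent.DomTFAE
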