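import Mathlib
import Groth.Agent.Lib.DomTFAE_helper5

/-!
# Generically finite morphisms of integral schemes (helper5): S9702.
APPEND-ONLY once landed.
-/

set_option autoImplicit false
universe u

namespace Groth.Agent.GenFin

open AlgebraicGeometry CategoryTheory TopologicalSpace Polynomial

section Algebra

/-- Generic finiteness: a finite type algebraic algebra over a domain becomes finite after
inverting one nonzero element of the base. -/
lemma exists_away_finite {R S : Type u} [CommRing R] [IsDomain R] [CommRing S] (φ : R →+* S)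
    (hft : φ.FiniteType)
    (halg : letI := φ.toAlgebra; Algebra.IsAlgebraic R S) :
    ∃ a : R, a ≠ 0 ∧ ∀ (R' S' : Type u) [CommRing R'] [CommRing S'] [Algebra R R'] [Algebra S S']
      [IsLocalization.Away a R'] [IsLocalization.Away (φ a) S'],
      (IsLocalization.Away.map R' S' φ a).Finite := by
  letI := φ.toAlgebra
  haveI : Algebra.IsAlgebraic R S := halg
  obtain ⟨s, hs⟩ := (show Algebra.FiniteType R S from hft).out
  obtain ⟨a, ha0, hint⟩ := Algebra.IsAlgebraic.exists_integral_multiples R s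
  refine ⟨a, ha0, ?_⟩
  intro R' S' _ _ _ _ _ _
  set ψ : R' →+* S' := IsLocalization.Away.map R' S' φ a with hψ
  have hcomp : ψ.comp (algebraMap R R') = (algebraMap S S').comp φ := IsLocalization.map_comp _
  have hcomp' : ∀ r, ψ (algebraMap R R' r) = algebraMap S S' (φ r) := fun r => congr($hcomp r)
  have hu : ψ (algebraMap R R' a) * ψ (IsLocalization.Away.invSelf a) = 1 := by
    rw [← map_mul, IsLocalization.Away.mul_invSelf, map_one]
  apply RingHom.IsIntegral.to_finite
  · have key : ∀ y : S, ψ.IsIntegralElem (algebraMap S S' y) := by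
      intro y
      have hy : y ∈ Algebra.adjoin R (s : Set S) := by rw [hs]; trivial
      induction hy using Algebra.adjoin_induction with
      | mem z hz =>
        have h1 : φ.IsIntegralElem (a • z) := hint z hz
        have h2 : ((algebraMap S S').comp φ).IsIntegralElem (algebraMap S S' (a • z)) := h1.map _
        rw [← hcomp] at h2
        have h3 : ψ.IsIntegralElem (algebraMap S S' (a • z)) := h2.of_comp
        have h4 : algebraMap S S' z =
            ψ (IsLocalization.Away.invSelf a) * algebraMap S S' (a • z) := by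
          have h5 : algebraMap S S' (algebraMap R S a) = ψ (algebraMap R R' a) := (hcomp' a).symm
          rw [Algebra.smul_def, map_mul, ← mul_assoc, h5, mul_comm (ψ _), hu, one_mul]
        rw [h4]
        exact RingHom.IsIntegralElem.mul ψ ψ.isIntegralElem_map h3
      | algebraMap r =>
        have h5 : algebraMap S S' (algebraMap R S r) = ψ (algebraMap R R' r) := (hcomp' r).symm
        rw [h5]
        exact ψ.isIntegralElem_map
      | add x y _ _ hx hy =>
        rw [map_add]
        exact RingHom.IsIntegralElem.add ψ hx hy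
      | mul x y _ _ hx hy =>
        rw [map_mul]
        exact RingHom.IsIntegralElem.mul ψ hx hy
    intro x
    obtain ⟨n, y, hxy⟩ := IsLocalization.Away.surj (φ a) x
    have hx : x = algebraMap S S' y * ψ (IsLocalization.Away.invSelf a ^ n) := by
      rw [← hxy, map_pow, mul_assoc, ← mul_pow, ← hcomp' a, hu, one_pow, mul_one]
    rw [hx]
    exact RingHom.IsIntegralElem.mul ψ (key y) ψ.isIntegralElem_map
  · have h1 : ((algebraMap S S').comp φ).FiniteType := by
      refine RingHom.FiniteType.comp ?_ hft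
      haveI : Algebra.FinitePresentation S S' := IsLocalization.Away.finitePresentation (φ a)
      exact RingHom.finiteType_algebraMap.mpr inferInstance
    rw [← hcomp] at h1
    exact h1.of_comp_finiteType

/-- If `K = Frac A`, `B ⊆ L`, and `L` is integral over `K`, then `B` is algebraic over `A`. -/
lemma algebraic_of_fraction {A B K L : Type u} [CommRing A] [IsDomain A] [CommRing B] [CommRing K]
    [Nontrivial K] [CommRing L] (φ : A →+* B) (a : A →+* K) (b : B →+* L) (σ : K →+* L)
    (hcomm : σ.comp a = b.comp φ) (hb : Function.Injective b)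
    (hfrac : letI := a.toAlgebra; IsFractionRing A K) (hσ : σ.IsIntegral) :
    letI := φ.toAlgebra; Algebra.IsAlgebraic A B := by
  letI := φ.toAlgebra
  letI := a.toAlgebra
  letI := σ.toAlgebra
  letI := b.toAlgebra
  letI : Algebra A L := (σ.comp a).toAlgebra
  haveI : IsScalarTower A K L := IsScalarTower.of_algebraMap_eq (fun _ => rfl)
  haveI : IsScalarTower A B L := IsScalarTower.of_algebraMap_eq (fun x => congr($hcomm x))
  haveI : IsFractionRing A K := hfrac
  refine ⟨fun x => ?_⟩
  have h1 : IsAlgebraic K (algebraMap B L x) := IsIntegral.isAlgebraic (hσ (b x))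
  obtain ⟨p, hp0, hp⟩ := h1
  have h2 : IsAlgebraic A (algebraMap B L x) :=
    ⟨IsLocalization.integerNormalization (nonZeroDivisors A) p,
      mt (IsLocalization.integerNormalization_eq_zero_iff le_rfl p).mp hp0,
      IsLocalization.integerNormalization_aeval_eq_zero _ p hp⟩
  exact (isAlgebraic_algebraMap_iff hb).mp h2

end Algebra

variable {X Y : Scheme.{u}} [IsIntegral X] [IsIntegral Y] (f : X ⟶ Y)

lemma isFractionRing_germ (y : Y) (hy : y = genericPoint Y) (V : Y.Opens) (hV : IsAffineOpen V)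
    (hyV : y ∈ V) :
    letI := (Y.presheaf.germ V y hyV).hom.toAlgebra
    IsFractionRing Γ(Y, V) (Y.presheaf.stalk y) := by
  subst hy
  haveI : Nonempty V := ⟨⟨_, hyV⟩⟩
  exact functionField_isFractionRing_of_isAffineOpen Y V hV

lemma isField_stalk (y : Y) (hy : y = genericPoint Y) : IsField (Y.presheaf.stalk y) := by
  subst hy
  exact Field.toIsField Y.functionField

lemma generic_mem_basicOpen {V : Y.Opens} (a : Γ(Y, V)) (ha : a ≠ 0) :
    genericPoint Y ∈ Y.basicOpen a := by
  have hne : Y.basicOpen a ≠ ⊥ := fun h => ha ((basicOpen_eq_bot_iff a).mp h)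
  have h1 : ((Y.basicOpen a : Y.Opens) : Set Y).Nonempty := by
    by_contra hcon
    exact hne ((Opens.not_nonempty_iff_eq_bot _).mp hcon)
  exact ((genericPoint_spec Y).mem_open_set_iff (Y.basicOpen a).isOpen).mpr (by simpa using h1)

lemma generic_mem_of_nonempty (U : X.Opens) (hne : Nonempty ↥U) : genericPoint X ∈ U := by
  obtain ⟨x⟩ := hne
  exact ((genericPoint_spec X).mem_open_set_iff U.isOpen).mpr ⟨x.1, trivial, x.2⟩

/-- `A ↔` the stalk map at the generic point is finite. -/
lemma residue_finite_iff :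
    (f.residueFieldMap (genericPoint X)).hom.Finite ↔
      (f.stalkMap (genericPoint X)).hom.Finite := by
  have hsq : (f.residueFieldMap (genericPoint X)).hom.comp
      (Y.residue (f.base (genericPoint X))).hom =
      (X.residue (genericPoint X)).hom.comp (f.stalkMap (genericPoint X)).hom := by
    rw [← CommRingCat.hom_comp, ← CommRingCat.hom_comp, Scheme.residue_residueFieldMap]
  have hrY : (Y.residue (f.base (genericPoint X))).hom.Finite :=
    RingHom.Finite.of_surjective _ (Y.residue_surjective _)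
  have hrX : (X.residue (genericPoint X)).hom.Finite :=
    RingHom.Finite.of_surjective _ (X.residue_surjective _)
  constructor
  · intro h
    have h1 : ((X.residue (genericPoint X)).hom.comp (f.stalkMap (genericPoint X)).hom).Finite := by
      rw [← hsq]
      exact h.comp hrY
    have hinj : Function.Injective (X.residue (genericPoint X)).hom :=
      (X.residue (genericPoint X)).hom.injective
    let ι := RingEquiv.ofBijective (X.residue (genericPoint X)).hom
      ⟨hinj, X.residue_surjective (genericPoint X)⟩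
    have h2 : (ι.symm.toRingHom.comp
        ((X.residue (genericPoint X)).hom.comp (f.stalkMap (genericPoint X)).hom)).Finite :=
      (RingHom.Finite.of_surjective _ ι.symm.surjective).comp h1
    have h3 : ι.symm.toRingHom.comp
        ((X.residue (genericPoint X)).hom.comp (f.stalkMap (genericPoint X)).hom) =
        (f.stalkMap (genericPoint X)).hom := by
      ext x
      exact ι.symm_apply_apply _
    rw [h3] at h2
    exact h2
  · intro h
    have h1 : ((f.residueFieldMap (genericPoint X)).hom.comp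
        (Y.residue (f.base (genericPoint X))).hom).Finite := by
      rw [hsq]
      exact hrX.comp h
    exact h1.of_comp_finite

lemma stalk_finite_iff_quasiFiniteAt (hη : f.base (genericPoint X) = genericPoint Y) :
    (f.stalkMap (genericPoint X)).hom.Finite ↔ f.QuasiFiniteAt (genericPoint X) := by
  have hK : IsField (Y.presheaf.stalk (f.base (genericPoint X))) := isField_stalk _ hη
  haveI : IsArtinianRing (Y.presheaf.stalk (f.base (genericPoint X))) := by
    letI := hK.toField
    exact inferInstance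
  letI := (f.stalkMap (genericPoint X)).hom.toAlgebra
  exact Algebra.QuasiFinite.iff_of_isArtinianRing.symm

lemma quasiFiniteAt_iff_fiber [LocallyOfFiniteType f]
    (hη : f.base (genericPoint X) = genericPoint Y) :
    f.QuasiFiniteAt (genericPoint X) ↔
      ∀ x : X, f.base x = genericPoint Y → x = genericPoint X := by
  constructor
  · intro h x hx
    have hcl : IsClosed {f.asFiber (genericPoint X)} :=
      (Scheme.Hom.QuasiFiniteAt.isClopen_singleton_asFiber f h).1
    have hx' : f.base x = f.base (genericPoint X) := hx.trans hη.symm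
    let x' : f.fiber (f.base (genericPoint X)) :=
      (f.fiberHomeo (f.base (genericPoint X))).symm ⟨x, hx'⟩
    have hx'1 : f.fiberι (f.base (genericPoint X)) x' = x := f.fiberι_fiberHomeo_symm _ _
    have hsp : genericPoint X ⤳ x := (genericPoint_spec X).specializes trivial
    have hsp' : f.asFiber (genericPoint X) ⤳ x' := by
      rw [← (f.fiberι (f.base (genericPoint X))).isEmbedding.toIsInducing.specializes_iff,
        f.fiberι_asFiber, hx'1]
      exact hsp
    have hmem : x' ∈ ({f.asFiber (genericPoint X)} : Set _) := hsp'.mem_closed hcl rfl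
    rw [Set.mem_singleton_iff] at hmem
    rw [← hx'1, hmem, f.fiberι_asFiber]
  · intro h
    rw [Scheme.Hom.quasiFiniteAt_iff_isOpen_singleton_asFiber]
    haveI : Subsingleton (f.fiber (f.base (genericPoint X))) := by
      refine ⟨fun a b => (f.fiberι (f.base (genericPoint X))).isEmbedding.injective ?_⟩
      have ha : f.fiberι (f.base (genericPoint X)) a ∈ f ⁻¹' {f.base (genericPoint X)} := by
        rw [← f.range_fiberι]
        exact ⟨a, rfl⟩
      have hb : f.fiberι (f.base (genericPoint X)) b ∈ f ⁻¹' {f.base (genericPoint X)} := by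
        rw [← f.range_fiberι]
        exact ⟨b, rfl⟩
      have ha' : f.base (f.fiberι (f.base (genericPoint X)) a) = f.base (genericPoint X) := ha
      have hb' : f.base (f.fiberι (f.base (genericPoint X)) b) = f.base (genericPoint X) := hb
      rw [h _ (ha'.trans hη), h _ (hb'.trans hη)]
    exact isOpen_discrete _

lemma isFinite_resLE_iff {U : X.Opens} {V : Y.Opens} (e : U ≤ f ⁻¹ᵁ V) (hU : IsAffineOpen U)
    (hV : IsAffineOpen V) :
    IsFinite (f.resLE V U e) ↔ (f.appLE V U e).hom.Finite := by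
  haveI : IsAffine V.toScheme := hV
  haveI : IsAffine U.toScheme := hU
  rw [HasAffineProperty.iff_of_isAffine (P := @IsFinite), and_iff_right (by infer_instance)]
  exact RingHom.finite_respectsIso.arrow_mk_iso_iff (arrowResLEAppIso f V U e)

lemma finite_appLE_basicOpen {U : X.Opens} {V : Y.Opens} (e : U ≤ f ⁻¹ᵁ V) (hU : IsAffineOpen U)
    (hV : IsAffineOpen V) (h : (f.appLE V U e).hom.Finite) (a : Γ(Y, V))
    (e' : X.basicOpen (f.appLE V U e a) ≤ f ⁻¹ᵁ Y.basicOpen a) :
    (f.appLE (Y.basicOpen a) (X.basicOpen (f.appLE V U e a)) e').hom.Finite := by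
  rw [IsAffineOpen.appLE_eq_away_map f hV hU e a]
  letI := hV.isLocalization_basicOpen a
  letI := hU.isLocalization_basicOpen (f.appLE V U e a)
  exact RingHom.finite_localizationPreserves.away _ a _ _ h

lemma basicOpen_appLE_le {U : X.Opens} {V : Y.Opens} (e : U ≤ f ⁻¹ᵁ V) (a : Γ(Y, V)) :
    X.basicOpen (f.appLE V U e a) ≤ f ⁻¹ᵁ Y.basicOpen a := by
  rw [Scheme.basicOpen_appLE]
  exact inf_le_right

lemma exists_basicOpen_finite [LocallyOfFiniteType f] {U : X.Opens} {V : Y.Opens}
    (e : U ≤ f ⁻¹ᵁ V) (hU : IsAffineOpen U) (hV : IsAffineOpen V) [Nonempty V]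
    (halg : letI := (f.appLE V U e).hom.toAlgebra; Algebra.IsAlgebraic Γ(Y, V) Γ(X, U)) :
    ∃ a : Γ(Y, V), a ≠ 0 ∧
      (f.appLE (Y.basicOpen a) (X.basicOpen (f.appLE V U e a))
        (basicOpen_appLE_le f e a)).hom.Finite := by
  obtain ⟨a, ha0, h⟩ := exists_away_finite (f.appLE V U e).hom (f.finiteType_appLE hV hU e) halg
  refine ⟨a, ha0, ?_⟩
  rw [IsAffineOpen.appLE_eq_away_map f hV hU e a]
  letI := hV.isLocalization_basicOpen a
  letI := hU.isLocalization_basicOpen (f.appLE V U e a)
  exact h _ _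

lemma algebraic_appLE (hη : f.base (genericPoint X) = genericPoint Y)
    (hσ : (f.stalkMap (genericPoint X)).hom.Finite)
    {U : X.Opens} {V : Y.Opens} (e : U ≤ f ⁻¹ᵁ V) (hV : IsAffineOpen V)
    (hξU : genericPoint X ∈ U) :
    letI := (f.appLE V U e).hom.toAlgebra; Algebra.IsAlgebraic Γ(Y, V) Γ(X, U) := by
  have hfV : f.base (genericPoint X) ∈ V := e hξU
  haveI : Nonempty V := ⟨⟨_, hfV⟩⟩
  refine algebraic_of_fraction (f.appLE V U e).hom (Y.presheaf.germ V _ hfV).hom
    (X.presheaf.germ U _ hξU).hom (f.stalkMap (genericPoint X)).hom ?_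
    (germ_injective_of_isIntegral X _ hξU) (isFractionRing_germ _ hη V hV hfV) hσ.to_isIntegral
  ext s
  have e1 : X.presheaf.germ U (genericPoint X) hξU (f.appLE V U e s) =
      X.presheaf.germ (f ⁻¹ᵁ V) (genericPoint X) hfV (f.app V s) := by
    rw [Scheme.Hom.appLE, CommRingCat.comp_apply, TopCat.Presheaf.germ_res_apply]
  exact (Scheme.Hom.germ_stalkMap_apply f V _ hfV s).trans e1.symm

section Main

variable [IsDominant f] [LocallyOfFiniteType f]

/-- Condition B. -/
def PB : Prop := ∃ (U : X.Opens) (V : Y.Opens) (hUV : U ≤ f ⁻¹ᵁ V), IsAffineOpen U ∧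
  IsAffineOpen V ∧ Nonempty ↥U ∧ IsFinite (f.resLE V U hUV)

/-- Condition D. -/
def PD : Prop := ∃ V : Y.Opens, IsAffineOpen V ∧ Nonempty ↥V ∧ IsFinite (f ∣_ V)

lemma hη : f.base (genericPoint X) = genericPoint Y :=
  (Groth.Agent.DomTFAE.dominant_iff_generic f).mp inferInstance

lemma A_imp_B (hA : (f.residueFieldMap (genericPoint X)).hom.Finite) : PB f := by
  have hσ := (residue_finite_iff f).mp hA
  obtain ⟨U, V, e, hU, hV, hξU⟩ := Groth.Agent.DomTFAE.exists_affine_pair f (genericPoint X)
  have halg := algebraic_appLE f (hη f) hσ e hV hξU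
  haveI : Nonempty V := ⟨⟨_, e hξU⟩⟩
  obtain ⟨a, ha0, hfin⟩ := exists_basicOpen_finite f e hU hV halg
  refine ⟨X.basicOpen (f.appLE V U e a), Y.basicOpen a, basicOpen_appLE_le f e a,
    hU.basicOpen _, hV.basicOpen _, ?_, ?_⟩
  · refine ⟨⟨genericPoint X, ?_⟩⟩
    rw [Scheme.basicOpen_appLE]
    refine ⟨hξU, ?_⟩
    show f.base (genericPoint X) ∈ Y.basicOpen a
    rw [hη f]
    exact generic_mem_basicOpen a ha0
  · exact (isFinite_resLE_iff f _ (hU.basicOpen _) (hV.basicOpen _)).mpr hfin

lemma B_imp_σ (hB : PB f) : (f.stalkMap (genericPoint X)).hom.Finite := by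
  obtain ⟨U, V, e, hU, hV, hne, hfin⟩ := hB
  have hξU : genericPoint X ∈ U := generic_mem_of_nonempty U hne
  rw [stalk_finite_iff_quasiFiniteAt f (hη f)]
  have h1 : (f.resLE V U e).QuasiFiniteAt ⟨genericPoint X, hξU⟩ :=
    (f.resLE V U e).quasiFiniteAt _
  exact (RingHom.QuasiFinite.respectsIso.arrow_mk_iso_iff
    (f.resLEStalkMap e ⟨genericPoint X, hξU⟩)).mp h1

lemma A_iff_B : (f.residueFieldMap (genericPoint X)).hom.Finite ↔ PB f :=
  ⟨A_imp_B f, fun h => (residue_finite_iff f).mpr (B_imp_σ f h)⟩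

lemma A_iff_C : (f.residueFieldMap (genericPoint X)).hom.Finite ↔
    ∀ x : X, f.base x = genericPoint Y → x = genericPoint X := by
  rw [residue_finite_iff f, stalk_finite_iff_quasiFiniteAt f (hη f),
    quasiFiniteAt_iff_fiber f (hη f)]

lemma D_imp_B (hD : PD f) : PB f := by
  obtain ⟨V, hV, hne, hfin⟩ := hD
  haveI : IsAffine V.toScheme := hV
  have haff : IsAffineOpen (f ⁻¹ᵁ V) := isAffine_of_isAffineHom (f ∣_ V)
  refine ⟨f ⁻¹ᵁ V, V, le_rfl, haff, hV, ?_, ?_⟩
  · refine ⟨⟨genericPoint X, ?_⟩⟩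
    show f.base (genericPoint X) ∈ V
    rw [hη f]
    exact generic_mem_of_nonempty V hne
  · rw [Scheme.Hom.resLE_eq_morphismRestrict]
    exact hfin

lemma B_imp_D_sep [IsSeparated f] (hB : PB f) : PD f := by
  obtain ⟨U, V, e, hU, hV, hne, hfin⟩ := hB
  have hξU : genericPoint X ∈ U := generic_mem_of_nonempty U hne
  haveI : IsFinite (X.homOfLE e ≫ f ∣_ V) := hfin
  haveI : IsFinite (X.homOfLE e) := IsFinite.of_comp _ (f ∣_ V)
  haveI : Nonempty (f ⁻¹ᵁ V).toScheme := ⟨⟨genericPoint X, e hξU⟩⟩
  haveI : PreconnectedSpace (f ⁻¹ᵁ V).toScheme := inferInstance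
  have hclopen : IsClopen (Set.range (X.homOfLE e)) :=
    ⟨(X.homOfLE e).isClosedMap.isClosed_range, (X.homOfLE e).isOpenEmbedding.isOpen_range⟩
  have huniv : Set.range (X.homOfLE e) = Set.univ :=
    hclopen.eq_univ ⟨X.homOfLE e ⟨genericPoint X, hξU⟩, ⟨_, rfl⟩⟩
  have hUV : U = f ⁻¹ᵁ V := by
    refine le_antisymm e (fun x hx => ?_)
    have hmem : (⟨x, hx⟩ : ↥(f ⁻¹ᵁ V)) ∈ Set.range (X.homOfLE e) := by
      rw [huniv]
      trivial
    obtain ⟨u, hu⟩ := hmem
    have h1 : (X.homOfLE e u).1 = x := congrArg Subtype.val hu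
    rw [Scheme.homOfLE_apply] at h1
    rw [← h1]
    exact u.2
  subst hUV
  rw [Scheme.Hom.resLE_eq_morphismRestrict] at hfin
  refine ⟨V, hV, ⟨⟨f.base (genericPoint X), hξU⟩⟩, hfin⟩

lemma B_imp_D_qc [QuasiCompact f] (hB : PB f) : PD f := by
  have hσ := B_imp_σ f hB
  obtain ⟨U, V, e, hU, hV, hne, hfin⟩ := hB
  have hξU : genericPoint X ∈ U := generic_mem_of_nonempty U hne
  haveI : Nonempty V := ⟨⟨_, e hξU⟩⟩
  have hcpt : IsCompact (f ⁻¹' (V : Set Y)) :=
    QuasiCompact.isCompact_preimage (V : Set Y) V.isOpen hV.isCompact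
  have key : ∃ a : Γ(Y, V), a ≠ 0 ∧
      (f ⁻¹' (V : Set Y)) ∩ f ⁻¹' ((Y.basicOpen a : Y.Opens) : Set Y) ⊆ (U : Set X) := by
    refine hcpt.induction_on
      (p := fun S => ∃ a : Γ(Y, V), a ≠ 0 ∧
        S ∩ f ⁻¹' ((Y.basicOpen a : Y.Opens) : Set Y) ⊆ (U : Set X)) ?_ ?_ ?_ ?_
    · exact ⟨1, one_ne_zero, by simp⟩
    · rintro S T hST ⟨a, ha, h⟩
      exact ⟨a, ha, (Set.inter_subset_inter_left _ hST).trans h⟩
    · rintro S T ⟨a, ha, h1⟩ ⟨b, hb, h2⟩
      refine ⟨a * b, mul_ne_zero ha hb, ?_⟩
      rintro x ⟨hx1, hx2⟩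
      have hx3 : f.base x ∈ Y.basicOpen (a * b) := hx2
      rw [Scheme.basicOpen_mul] at hx3
      rcases hx1 with hx1 | hx1
      · exact h1 ⟨hx1, hx3.1⟩
      · exact h2 ⟨hx1, hx3.2⟩
    · intro x hx
      obtain ⟨_, ⟨W, hW, rfl⟩, hxW, hWV⟩ :=
        X.isBasis_affineOpens.exists_subset_of_mem_open
          (show x ∈ ((f ⁻¹ᵁ V : X.Opens) : Set X) from hx) (f ⁻¹ᵁ V).isOpen
      refine ⟨W, mem_nhdsWithin_of_mem_nhds (W.isOpen.mem_nhds hxW), ?_⟩
      have hξW : genericPoint X ∈ W := generic_mem_of_nonempty W ⟨⟨x, hxW⟩⟩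
      haveI : Nonempty W := ⟨⟨x, hxW⟩⟩
      have halg := algebraic_appLE f (hη f) hσ (U := W) (V := V) hWV hV hξW
      obtain ⟨b, hbU, hξb⟩ := hW.exists_basicOpen_le (V := U) ⟨genericPoint X, hξU⟩ hξW
      have hb0 : b ≠ 0 := by
        rintro rfl
        rw [Scheme.basicOpen_zero] at hξb
        exact hξb
      letI := (f.appLE V W hWV).hom.toAlgebra
      obtain ⟨a, ha0, c, hc⟩ :=
        (halg.isAlgebraic b).exists_nonzero_dvd (mem_nonZeroDivisors_of_ne_zero hb0)
      refine ⟨a, ha0, ?_⟩
      rintro z ⟨hzW, hza⟩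
      have hz1 : z ∈ X.basicOpen (f.appLE V W hWV a) := by
        rw [Scheme.basicOpen_appLE]
        exact ⟨hzW, hza⟩
      have hc' : (f.appLE V W hWV a) = b * c := hc
      rw [hc', Scheme.basicOpen_mul] at hz1
      exact hbU hz1.1
  obtain ⟨a, ha0, hsub⟩ := key
  have heq : f ⁻¹ᵁ (Y.basicOpen a) = X.basicOpen (f.appLE V U e a) := by
    rw [Scheme.basicOpen_appLE]
    refine le_antisymm (fun z hz => ⟨hsub ⟨Y.basicOpen_le a hz, hz⟩, hz⟩) inf_le_right
  refine ⟨Y.basicOpen a, hV.basicOpen a, ⟨⟨genericPoint Y, generic_mem_basicOpen a ha0⟩⟩, ?_⟩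
  rw [← Scheme.Hom.resLE_eq_morphismRestrict]
  refine (Scheme.Hom.resLE_congr f le_rfl rfl heq @IsFinite).mpr ?_
  rw [isFinite_resLE_iff f _ (hU.basicOpen _) (hV.basicOpen _)]
  exact finite_appLE_basicOpen f e hU hV ((isFinite_resLE_iff f e hU hV).mp hfin) a _

theorem main :
    ((f.residueFieldMap (genericPoint X)).hom.Finite ↔ PB f) ∧
    ((f.residueFieldMap (genericPoint X)).hom.Finite ↔
      ∀ x : X, f.base x = genericPoint Y → x = genericPoint X) ∧
    (IsSeparated f ∨ QuasiCompact f →
      ((f.residueFieldMap (genericPoint X)).hom.Finite ↔ PD f)) := by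
  refine ⟨A_iff_B f, A_iff_C f, fun h => ⟨fun hA => ?_, fun hD => (A_iff_B f).mpr (D_imp_B f hD)⟩⟩
  rcases h with h | h
  · exact B_imp_D_sep f ((A_iff_B f).mp hA)
  · exact B_imp_D_qc f ((A_iff_B f).mp hA)

end Main

end Groth.Agent.GenFin
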