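import Mathlib
import Groth.Agent.Lib.GenFin_helper5
import Groth.Agent.Lib.GenFinAlg_helper5

/-!
# Generic finiteness at maximal points of general schemes (helper5): S2080, S2081.
APPEND-ONLY once landed.
-/

set_option autoImplicit false
universe u

namespace Groth.Agent.GenFinMax

open AlgebraicGeometry CategoryTheory TopologicalSpace

/-- A maximal point: a point without proper generizations. -/
def IsMaxPt {T : Type*} [TopologicalSpace T] (η : T) : Prop := ∀ y : T, y ⤳ η → y = η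

lemma isMaxPt_of_mem_irreducibleComponents {T : Type*} [TopologicalSpace T] [T0Space T] {η : T}
    (h : closure {η} ∈ irreducibleComponents T) : IsMaxPt η := by
  intro y hy
  have h1 : closure {η} ⊆ closure {y} := specializes_iff_closure_subset.mp hy
  have h2 : closure {y} ⊆ closure {η} :=
    Maximal.le_of_ge h isIrreducible_singleton.closure h1
  exact (hy.antisymm (specializes_iff_closure_subset.mpr h2)).eq

variable {X Y : Scheme.{u}} (f : X ⟶ Y)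

lemma mem_basicOpen_iff_notMem_primeIdealOf {W : X.Opens} (hW : IsAffineOpen W) {ξ : X}
    (hξW : ξ ∈ W) (g : Γ(X, W)) :
    ξ ∈ X.basicOpen g ↔ g ∉ (hW.primeIdealOf ⟨ξ, hξW⟩).asIdeal := by
  have h1 := hW.fromSpec_preimage_basicOpen g
  have h2 : hW.fromSpec (hW.primeIdealOf ⟨ξ, hξW⟩) ∈ X.basicOpen g ↔
      hW.primeIdealOf ⟨ξ, hξW⟩ ∈ PrimeSpectrum.basicOpen g := by
    rw [← h1]; rfl
  rw [hW.fromSpec_primeIdealOf] at h2
  exact h2.trans (PrimeSpectrum.mem_basicOpen _ _)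

lemma primeIdealOf_mem_minimalPrimes {V : Y.Opens} (hV : IsAffineOpen V) {η : Y} (hηV : η ∈ V)
    (hmax : IsMaxPt η) : (hV.primeIdealOf ⟨η, hηV⟩).asIdeal ∈ minimalPrimes Γ(Y, V) := by
  refine ⟨⟨(hV.primeIdealOf ⟨η, hηV⟩).isPrime, bot_le⟩, ?_⟩
  rintro q ⟨hq, -⟩ hqp
  let Q : PrimeSpectrum Γ(Y, V) := ⟨q, hq⟩
  have h1 : Q ⤳ hV.primeIdealOf ⟨η, hηV⟩ :=
    (PrimeSpectrum.le_iff_specializes Q _).mp (show Q ≤ _ from hqp)
  have h2 : hV.fromSpec Q ⤳ hV.fromSpec (hV.primeIdealOf ⟨η, hηV⟩) :=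
    h1.map hV.fromSpec.continuous
  rw [hV.fromSpec_primeIdealOf] at h2
  have h3 : hV.fromSpec Q = hV.fromSpec (hV.primeIdealOf ⟨η, hηV⟩) := by
    rw [hV.fromSpec_primeIdealOf]
    exact hmax _ h2
  have h4 : Q = hV.primeIdealOf ⟨η, hηV⟩ := hV.fromSpec.isOpenEmbedding.injective h3
  exact le_of_eq (congrArg PrimeSpectrum.asIdeal h4).symm

lemma map_fromSpec {U : X.Opens} {V : Y.Opens} (e : U ≤ f ⁻¹ᵁ V) (hU : IsAffineOpen U)
    (hV : IsAffineOpen V) (q : PrimeSpectrum Γ(X, U)) :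
    f.base (hU.fromSpec q) = hV.fromSpec (Spec.map (f.appLE V U e) q) := by
  have h := IsAffineOpen.SpecMap_appLE_fromSpec f hV hU e
  have h' := congr($h q)
  rw [Scheme.Hom.comp_apply, Scheme.Hom.comp_apply] at h'
  exact h'.symm

lemma map_fromSpec_eq {U : X.Opens} {V : Y.Opens} (e : U ≤ f ⁻¹ᵁ V) (hU : IsAffineOpen U)
    (hV : IsAffineOpen V) {η : Y} (hηV : η ∈ V) (q : PrimeSpectrum Γ(X, U))
    (hq : q.asIdeal.comap (f.appLE V U e).hom = (hV.primeIdealOf ⟨η, hηV⟩).asIdeal) :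
    f.base (hU.fromSpec q) = η := by
  have h2 : Spec.map (f.appLE V U e) q = hV.primeIdealOf ⟨η, hηV⟩ := PrimeSpectrum.ext hq
  rw [map_fromSpec f e hU hV, h2, hV.fromSpec_primeIdealOf]

lemma finite_fiber_appLE {U : X.Opens} {V : Y.Opens} (e : U ≤ f ⁻¹ᵁ V) (hU : IsAffineOpen U)
    (hV : IsAffineOpen V) {η : Y} (hηV : η ∈ V) (hfin : (f.base ⁻¹' {η}).Finite) :
    {q : PrimeSpectrum Γ(X, U) | q.asIdeal.comap (f.appLE V U e).hom =
      (hV.primeIdealOf ⟨η, hηV⟩).asIdeal}.Finite := by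
  refine Set.Finite.of_finite_image (f := fun q => hU.fromSpec q) (hfin.subset ?_)
    (hU.fromSpec.isOpenEmbedding.injective.injOn)
  rintro _ ⟨q, hq, rfl⟩
  exact map_fromSpec_eq f e hU hV hηV q hq

/-- A quasi-compact open of an affine open not containing a maximal point `ξ` is disjoint from
a basic open neighbourhood of `ξ`. -/
lemma exists_basicOpen_disjoint {W : X.Opens} (hW : IsAffineOpen W) {ξ : X} (hξW : ξ ∈ W)
    (hmax : IsMaxPt ξ) {K : Set X} (hKo : IsOpen K) (hKc : IsCompact K) (hKW : K ⊆ W)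
    (hξK : ξ ∉ K) :
    ∃ s : Γ(X, W), ξ ∈ X.basicOpen s ∧ Disjoint ((X.basicOpen s : X.Opens) : Set X) K := by
  have hp := primeIdealOf_mem_minimalPrimes hW hξW hmax
  have hmem := mem_basicOpen_iff_notMem_primeIdealOf hW hξW
  refine hKc.induction_on (p := fun S => ∃ s : Γ(X, W), ξ ∈ X.basicOpen s ∧
      Disjoint ((X.basicOpen s : X.Opens) : Set X) S) ?_ ?_ ?_ ?_
  · refine ⟨1, ?_, Set.disjoint_empty _⟩
    rw [Scheme.basicOpen_of_isUnit _ isUnit_one]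
    exact hξW
  · rintro S T hST ⟨s, hs, hd⟩
    exact ⟨s, hs, hd.mono_right hST⟩
  · rintro S T ⟨s, hs, hd⟩ ⟨s', hs', hd'⟩
    refine ⟨s * s', ?_, ?_⟩
    · rw [Scheme.basicOpen_mul]
      exact ⟨hs, hs'⟩
    · rw [Scheme.basicOpen_mul, Set.disjoint_union_right]
      exact ⟨hd.mono_left (fun z hz => hz.1), hd'.mono_left (fun z hz => hz.2)⟩
  · intro x hx
    obtain ⟨g, hgK, hxg⟩ := hW.exists_basicOpen_le (V := ⟨K, hKo⟩) ⟨x, hx⟩ (hKW hx)
    refine ⟨X.basicOpen g, mem_nhdsWithin_of_mem_nhds ((X.basicOpen g).isOpen.mem_nhds hxg), ?_⟩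
    have hgp : g ∈ (hW.primeIdealOf ⟨ξ, hξW⟩).asIdeal := by
      by_contra h
      exact hξK (hgK ((hmem g).mpr h))
    obtain ⟨t, htp, n, htn⟩ := GenFinAlg.exists_mul_pow_eq_zero _ hp g hgp
    refine ⟨t, (hmem t).mpr htp, ?_⟩
    have hnil : IsNilpotent (t * g) := by
      refine ⟨n + 1, ?_⟩
      have h1 : (t * g) ^ (n + 1) = t ^ n * g * (t * g ^ n) := by ring
      rw [h1, htn, mul_zero]
    have h2 : X.basicOpen (t * g) = ⊥ := X.basicOpen_eq_bot_of_isNilpotent W _ hnil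
    rw [Scheme.basicOpen_mul] at h2
    rw [Set.disjoint_iff_inter_eq_empty]
    exact congrArg (fun O : X.Opens => (O : Set X)) h2

/-- If a quasi-compact morphism has the fibre over a maximal point `η` contained in an open `U`,
then the preimage of a basic open neighbourhood of `η` is contained in `U`. -/
lemma exists_basicOpen_preimage_le [QuasiCompact f] {V : Y.Opens} (hV : IsAffineOpen V) {η : Y}
    (hηV : η ∈ V) (hmax : IsMaxPt η) (U : X.Opens) (hU : f.base ⁻¹' {η} ⊆ (U : Set X)) :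
    ∃ b : Γ(Y, V), η ∈ Y.basicOpen b ∧ f ⁻¹ᵁ (Y.basicOpen b) ≤ U := by
  have hp := primeIdealOf_mem_minimalPrimes hV hηV hmax
  have hmemV := mem_basicOpen_iff_notMem_primeIdealOf hV hηV
  have hcpt : IsCompact (f ⁻¹' (V : Set Y)) :=
    QuasiCompact.isCompact_preimage (V : Set Y) V.isOpen hV.isCompact
  have key : ∃ b : Γ(Y, V), η ∈ Y.basicOpen b ∧
      (f ⁻¹' (V : Set Y)) ∩ f ⁻¹' ((Y.basicOpen b : Y.Opens) : Set Y) ⊆ (U : Set X) := by
    refine hcpt.induction_on (p := fun S => ∃ b : Γ(Y, V), η ∈ Y.basicOpen b ∧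
        S ∩ f ⁻¹' ((Y.basicOpen b : Y.Opens) : Set Y) ⊆ (U : Set X)) ?_ ?_ ?_ ?_
    · refine ⟨1, ?_, by simp⟩
      rw [Scheme.basicOpen_of_isUnit _ isUnit_one]
      exact hηV
    · rintro S T hST ⟨a, ha, h⟩
      exact ⟨a, ha, (Set.inter_subset_inter_left _ hST).trans h⟩
    · rintro S T ⟨a, ha, h1⟩ ⟨b, hb, h2⟩
      refine ⟨a * b, ?_, ?_⟩
      · rw [Scheme.basicOpen_mul]
        exact ⟨ha, hb⟩
      rintro x ⟨hx1, hx2⟩
      have hx3 : f.base x ∈ Y.basicOpen (a * b) := hx2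
      rw [Scheme.basicOpen_mul] at hx3
      rcases hx1 with hx1 | hx1
      · exact h1 ⟨hx1, hx3.1⟩
      · exact h2 ⟨hx1, hx3.2⟩
    · intro x hx
      obtain ⟨_, ⟨W, hW, rfl⟩, hxW, hWV⟩ :=
        X.isBasis_affineOpens.exists_subset_of_mem_open
          (show x ∈ ((f ⁻¹ᵁ V : X.Opens) : Set X) from hx) (f ⁻¹ᵁ V).isOpen
      refine ⟨W, mem_nhdsWithin_of_mem_nhds (W.isOpen.mem_nhds hxW), ?_⟩
      let I : Ideal Γ(X, W) := Ideal.span {g | X.basicOpen g ≤ U}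
      have hI : ∀ g ∈ I, X.basicOpen g ≤ U := by
        intro g hg
        induction hg using Submodule.span_induction with
        | mem g hg => exact hg
        | zero =>
          rw [Scheme.basicOpen_zero]
          exact bot_le
        | add g h _ _ hg hh => exact (X.basicOpen_add_le g h).trans (sup_le hg hh)
        | smul c g _ hg =>
          rw [smul_eq_mul, Scheme.basicOpen_mul]
          exact inf_le_right.trans hg
      have hex : ∃ a : Γ(Y, V), a ∉ (hV.primeIdealOf ⟨η, hηV⟩).asIdeal ∧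
          (f.appLE V W hWV).hom a ∈ I := by
        by_contra hcon
        push Not at hcon
        have hle : I.comap (f.appLE V W hWV).hom ≤ (hV.primeIdealOf ⟨η, hηV⟩).asIdeal := by
          intro a ha
          by_contra h
          exact hcon a h ha
        have hpmin : (hV.primeIdealOf ⟨η, hηV⟩).asIdeal ∈
            (I.comap (f.appLE V W hWV).hom).minimalPrimes :=
          ⟨⟨hp.isPrime, hle⟩, fun q hq hqp => hp.2 ⟨hq.1, bot_le⟩ hqp⟩
        obtain ⟨p', hp'prime, hIp', hp'comap⟩ :=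
          Ideal.exists_comap_eq_of_mem_minimalPrimes (f.appLE V W hWV).hom _ hpmin
        let P' : PrimeSpectrum Γ(X, W) := ⟨p', hp'prime⟩
        have hx'W : hW.fromSpec P' ∈ W := by
          rw [← SetLike.mem_coe, ← hW.range_fromSpec]
          exact ⟨P', rfl⟩
        have hfx' : f.base (hW.fromSpec P') = η := map_fromSpec_eq f hWV hW hV hηV P' hp'comap
        have hx'U : hW.fromSpec P' ∈ U := hU hfx'
        obtain ⟨g, hgU, hx'g⟩ := hW.exists_basicOpen_le (V := U) ⟨_, hx'U⟩ hx'W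
        have hgp' : g ∈ p' := hIp' (Ideal.subset_span hgU)
        have h4 : P' ∈ PrimeSpectrum.basicOpen g := by
          rw [← hW.fromSpec_preimage_basicOpen g]
          exact hx'g
        exact h4 hgp'
      obtain ⟨a, hap, haI⟩ := hex
      refine ⟨a, (hmemV a).mpr hap, ?_⟩
      rintro z ⟨hzW, hza⟩
      have hz1 : z ∈ X.basicOpen (f.appLE V W hWV a) := by
        rw [Scheme.basicOpen_appLE]
        exact ⟨hzW, hza⟩
      exact hI _ haI hz1
  obtain ⟨b, hb, hsub⟩ := key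
  exact ⟨b, hb, fun z hz => hsub ⟨Y.basicOpen_le b hz, hz⟩⟩

lemma isFinite_resLE_iff {U : X.Opens} {V : Y.Opens} (e : U ≤ f ⁻¹ᵁ V) (hU : IsAffineOpen U)
    (hV : IsAffineOpen V) :
    IsFinite (f.resLE V U e) ↔ (f.appLE V U e).hom.Finite := by
  haveI : IsAffine V.toScheme := hV
  haveI : IsAffine U.toScheme := hU
  rw [HasAffineProperty.iff_of_isAffine (P := @IsFinite), and_iff_right (by infer_instance)]
  exact RingHom.finite_respectsIso.arrow_mk_iso_iff (arrowResLEAppIso f V U e)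

/-- Core statement: if the (finite) fibre over a maximal point `η` is contained in an affine open
lying over an affine open neighbourhood of `η`, then `f` is finite over a smaller affine open
neighbourhood of `η`. -/
lemma exists_affine_finite [LocallyOfFiniteType f] [QuasiCompact f] {V₀ : Y.Opens}
    (hV₀ : IsAffineOpen V₀) {η : Y} (hηV : η ∈ V₀) (hmax : IsMaxPt η)
    (hfin : (f.base ⁻¹' {η}).Finite) {U : X.Opens} (hU : IsAffineOpen U) (hUV : U ≤ f ⁻¹ᵁ V₀)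
    (hFU : f.base ⁻¹' {η} ⊆ (U : Set X)) :
    ∃ V : Y.Opens, IsAffineOpen V ∧ η ∈ V ∧ V ≤ V₀ ∧ IsFinite (f ∣_ V) := by
  obtain ⟨b, hηb, hbU⟩ := exists_basicOpen_preimage_le f hV₀ hηV hmax U hFU
  have hV₁ : IsAffineOpen (Y.basicOpen b) := hV₀.basicOpen b
  have hU₁eq : f ⁻¹ᵁ (Y.basicOpen b) = X.basicOpen (f.appLE V₀ U hUV b) := by
    rw [Scheme.basicOpen_appLE]
    exact le_antisymm (le_inf hbU le_rfl) inf_le_right
  have hU₁ : IsAffineOpen (f ⁻¹ᵁ (Y.basicOpen b)) := by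
    rw [hU₁eq]
    exact hU.basicOpen _
  have hp₁ := primeIdealOf_mem_minimalPrimes hV₁ hηb hmax
  have hfin₁ := finite_fiber_appLE f (le_refl (f ⁻¹ᵁ (Y.basicOpen b))) hU₁ hV₁ hηb hfin
  obtain ⟨a, hap, ha⟩ := GenFinAlg.exists_away_finite_of_minimal
    (f.appLE (Y.basicOpen b) (f ⁻¹ᵁ (Y.basicOpen b)) le_rfl).hom
    (f.finiteType_appLE hV₁ hU₁ le_rfl) _ hp₁ hfin₁
  refine ⟨Y.basicOpen a, hV₁.basicOpen a,
    (mem_basicOpen_iff_notMem_primeIdealOf hV₁ hηb a).mpr hap,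
    (Y.basicOpen_le a).trans (Y.basicOpen_le b), ?_⟩
  have heq : f ⁻¹ᵁ (Y.basicOpen a) =
      X.basicOpen (f.appLE (Y.basicOpen b) (f ⁻¹ᵁ (Y.basicOpen b)) le_rfl a) := by
    rw [Scheme.basicOpen_appLE]
    exact le_antisymm (le_inf (fun z hz => Y.basicOpen_le a hz) le_rfl) inf_le_right
  rw [← Scheme.Hom.resLE_eq_morphismRestrict]
  refine (Scheme.Hom.resLE_congr f le_rfl rfl heq @IsFinite).mpr ?_
  rw [isFinite_resLE_iff f _ (hU₁.basicOpen _) (hV₁.basicOpen _)]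
  rw [IsAffineOpen.appLE_eq_away_map f hV₁ hU₁ le_rfl a]
  letI := hV₁.isLocalization_basicOpen a
  letI := hU₁.isLocalization_basicOpen (f.appLE (Y.basicOpen b) (f ⁻¹ᵁ (Y.basicOpen b)) le_rfl a)
  exact ha _ _


section Fiber

lemma isMaxPt_of_finite_fiber [LocallyOfFiniteType f] {η : Y} (hmax : IsMaxPt η)
    (hfin : (f.base ⁻¹' {η}).Finite) {ξ : X} (hξ : f.base ξ = η) : IsMaxPt ξ := by
  intro x hx
  have hfx : f.base x = η := by
    have h := hx.map f.continuous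
    rw [hξ] at h
    exact hmax _ h
  haveI : Finite (f.fiber η) := (f.fiberHomeo η).finite_iff.mpr hfin.to_subtype
  have h1 : (⟨x, hfx⟩ : f.base ⁻¹' {η}) ⤳ ⟨ξ, hξ⟩ :=
    Topology.IsInducing.subtypeVal.specializes_iff.mp hx
  have h2 := h1.map (f.fiberHomeo η).symm.continuous
  have h3 := (f.fiberHomeo η).symm.injective (specializes_iff_eq.mp h2)
  exact congrArg Subtype.val h3

lemma finite_fiber_of_isFinite_restrict {V : Y.Opens} {η : Y} (hηV : η ∈ V)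
    (h : IsFinite (f ∣_ V)) : (f.base ⁻¹' {η}).Finite := by
  have h1 : ((f ∣_ V).base ⁻¹' {⟨η, hηV⟩}).Finite :=
    Scheme.Hom.finite_preimage_singleton (f ∣_ V) ⟨η, hηV⟩
  refine (h1.image (f ⁻¹ᵁ V).ι.base).subset ?_
  intro x hx
  have hxV : x ∈ f ⁻¹ᵁ V := by
    show f.base x ∈ V
    rw [hx]
    exact hηV
  refine ⟨⟨x, hxV⟩, ?_, rfl⟩
  show (f ∣_ V).base ⟨x, hxV⟩ = ⟨η, hηV⟩
  apply Subtype.ext
  rw [morphismRestrict_base_coe]
  exact hx

end Fiber

/-- Stacks 01ZU: finitely many maximal points of a quasi-separated open lie in a common affine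
open. -/
lemma exists_isAffineOpen_of_finite_maxPts {O : X.Opens} (hO : IsQuasiSeparated (O : Set X))
    {F : Set X} (hF : F.Finite) (hFO : F ⊆ (O : Set X)) (hFmax : ∀ ξ ∈ F, IsMaxPt ξ) :
    ∃ U : X.Opens, IsAffineOpen U ∧ U ≤ O ∧ F ⊆ (U : Set X) := by
  have hW : ∀ ξ ∈ F, ∃ W : X.Opens, IsAffineOpen W ∧ ξ ∈ W ∧ W ≤ O ∧
      ∀ ξ' ∈ F, ξ' ≠ ξ → ξ' ∉ W := by
    intro ξ hξ
    have hcl : closure (F \ {ξ}) = ⋃ ξ' ∈ F \ {ξ}, closure {ξ'} := by
      conv_lhs => rw [← Set.biUnion_of_singleton (F \ {ξ})]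
      exact (hF.sdiff).closure_biUnion _
    have hξn : ξ ∉ closure (F \ {ξ}) := by
      rw [hcl]
      simp only [Set.mem_iUnion]
      rintro ⟨ξ', hξ', h⟩
      have h1 : ξ' ⤳ ξ := specializes_iff_mem_closure.mpr h
      exact hξ'.2 (hFmax ξ hξ ξ' h1)
    obtain ⟨_, ⟨W, hW, rfl⟩, hξW, hWO⟩ := X.isBasis_affineOpens.exists_subset_of_mem_open
      (show ξ ∈ (O : Set X) ∩ (closure (F \ {ξ}))ᶜ from ⟨hFO hξ, hξn⟩)
      (O.isOpen.inter isClosed_closure.isOpen_compl)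
    exact ⟨W, hW, hξW, fun z hz => (hWO hz).1,
      fun ξ' hξ' hne hmem => (hWO hmem).2 (subset_closure ⟨hξ', hne⟩)⟩
  choose! W hWaff hξW hWO hWne using hW
  have hU : ∀ ξ ∈ F, ∃ U' : X.Opens, IsAffineOpen U' ∧ ξ ∈ U' ∧ U' ≤ W ξ ∧
      ∀ ξ' ∈ F, ξ' ≠ ξ → Disjoint (U' : Set X) (W ξ' : Set X) := by
    intro ξ hξ
    let K : Set X := ⋃ ξ' ∈ F \ {ξ}, ((W ξ : Set X) ∩ (W ξ' : Set X))
    have hKo : IsOpen K := isOpen_biUnion fun ξ' _ => (W ξ).isOpen.inter (W ξ').isOpen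
    have hKc : IsCompact K := (hF.sdiff).isCompact_biUnion fun ξ' hξ' =>
      hO (W ξ) (W ξ') (hWO ξ hξ) (W ξ).isOpen (hWaff ξ hξ).isCompact
        (hWO ξ' hξ'.1) (W ξ').isOpen (hWaff ξ' hξ'.1).isCompact
    have hKW : K ⊆ (W ξ : Set X) := Set.iUnion₂_subset fun ξ' _ => Set.inter_subset_left
    have hξK : ξ ∉ K := by
      simp only [K, Set.mem_iUnion]
      rintro ⟨ξ', hξ', h⟩
      exact hWne ξ' hξ'.1 ξ hξ (fun h' => hξ'.2 h'.symm) h.2
    obtain ⟨s, hξs, hdisj⟩ := exists_basicOpen_disjoint (hWaff ξ hξ) (hξW ξ hξ) (hFmax ξ hξ)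
      hKo hKc hKW hξK
    refine ⟨X.basicOpen s, (hWaff ξ hξ).basicOpen s, hξs, X.basicOpen_le s,
      fun ξ' hξ' hne => ?_⟩
    rw [Set.disjoint_left]
    intro z hzs hzW'
    exact Set.disjoint_left.mp hdisj hzs
      (Set.mem_biUnion (show ξ' ∈ F \ {ξ} from ⟨hξ', hne⟩) ⟨X.basicOpen_le s hzs, hzW'⟩)
  choose! U' hU'aff hξU' hU'W hU'disj using hU
  refine ⟨⨆ ξ ∈ F, U' ξ, IsAffineOpen.biSup_of_disjoint hF hU'aff ?_,
    iSup₂_le fun ξ hξ => (hU'W ξ hξ).trans (hWO ξ hξ), fun ξ hξ => ?_⟩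
  · intro ξ hξ ξ' hξ' hne
    show Disjoint (U' ξ) (U' ξ')
    rw [← Opens.coe_disjoint]
    exact (hU'disj ξ hξ ξ' hξ' hne.symm).mono_right (hU'W ξ' hξ')
  · exact le_iSup₂ (f := fun ξ (_ : ξ ∈ F) => U' ξ) ξ hξ (hξU' ξ hξ)

/-- S2080. -/
theorem finite_fiber_iff [LocallyOfFiniteType f] [QuasiCompact f] [QuasiSeparated f] (η : Y)
    (hη : closure {η} ∈ irreducibleComponents (Y : Type u)) :
    (f.base ⁻¹' {η}).Finite ↔ ∃ V : Y.Opens, IsAffineOpen V ∧ η ∈ V ∧ IsFinite (f ∣_ V) := by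
  have hmax : IsMaxPt η := isMaxPt_of_mem_irreducibleComponents hη
  constructor
  · intro hfin
    obtain ⟨_, ⟨V₀, hV₀, rfl⟩, hηV₀, -⟩ :=
      Y.isBasis_affineOpens.exists_subset_of_mem_open (Set.mem_univ η) isOpen_univ
    have hO : IsQuasiSeparated ((f ⁻¹ᵁ V₀ : X.Opens) : Set X) :=
      f.isQuasiSeparated_preimage hV₀.isQuasiSeparated
    obtain ⟨U, hU, hUV, hFU⟩ := exists_isAffineOpen_of_finite_maxPts hO hfin
      (fun ξ hξ => by
        show f.base ξ ∈ V₀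
        rw [show f.base ξ = η from hξ]
        exact hηV₀)
      (fun ξ hξ => isMaxPt_of_finite_fiber f hmax hfin hξ)
    obtain ⟨V, hV, hηV, -, hfinV⟩ := exists_affine_finite f hV₀ hηV₀ hmax hfin hU hUV hFU
    exact ⟨V, hV, hηV, hfinV⟩
  · rintro ⟨V, hV, hηV, hfinV⟩
    exact finite_fiber_of_isFinite_restrict f hηV hfinV

end Groth.Agent.GenFinMax
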