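import Mathlib
import Groth.Agent.Lib.GenFinMax_helper5

/-!
# Étale separated morphisms with finite fibres over a Noetherian scheme are quasi-compact (helper7)
-/

set_option autoImplicit false
set_option linter.style.haveILetI false
universe u
open CategoryTheory CategoryTheory.Limits AlgebraicGeometry TopologicalSpace

namespace Groth.Agent.Lib.EtSepFinQCH7

/-- Every subset of a compact open of a locally Noetherian scheme is compact. -/
theorem isCompact_of_subset_compact_open {W : Scheme.{u}} [IsLocallyNoetherian W] (W₀ : W.Opens)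
    (hW₀ : IsCompact (W₀ : Set W)) {T : Set W} (hT : T ⊆ (W₀ : Set W)) : IsCompact T := by
  haveI : CompactSpace ↥W₀.toScheme := isCompact_iff_compactSpace.1 hW₀
  haveI : IsNoetherian W₀.toScheme := { }
  have h1 : NoetherianSpace ↥(W₀ : Set W) := (inferInstance : NoetherianSpace ↥W₀.toScheme)
  exact (noetherianSpace_set_iff _).1 h1 T hT

theorem morphismRestrict_apply {X Y : Scheme.{u}} (f : X ⟶ Y) (U : Y.Opens)
    (a : ↥(f ⁻¹ᵁ U).toScheme) : U.ι ((f ∣_ U) a) = f ((f ⁻¹ᵁ U).ι a) := by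
  have h := congrArg (fun φ : (f ⁻¹ᵁ U).toScheme ⟶ Y => φ a) (morphismRestrict_ι f U)
  exact h

theorem mem_range_morphismRestrict {X Y : Scheme.{u}} (f : X ⟶ Y) (U : Y.Opens)
    (p : ↥U.toScheme) : p ∈ Set.range (f ∣_ U) ↔ U.ι p ∈ Set.range f := by
  constructor
  · rintro ⟨a, rfl⟩
    exact ⟨(f ⁻¹ᵁ U).ι a, (morphismRestrict_apply f U a).symm⟩
  · rintro ⟨x, hx⟩
    have hxU : x ∈ f ⁻¹ᵁ U := by
      show f x ∈ U
      rw [hx]; exact p.2
    refine ⟨⟨x, hxU⟩, ?_⟩
    apply U.ι.isOpenEmbedding.injective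
    rw [morphismRestrict_apply]
    exact hx

/-- The heart: near a generic point with finite fibre, an étale separated morphism to a Noetherian
scheme is quasi-compact. -/
theorem heart {W Z : Scheme.{u}} (g : W ⟶ Z) [Etale g] [IsSeparated g] [IsNoetherian Z] (η : Z)
    (hη : closure ({η} : Set Z) = Set.univ) (hfin : (g ⁻¹' {η}).Finite) :
    ∃ V : Z.Opens, η ∈ V ∧ IsCompact (g ⁻¹' (V : Set Z)) := by
  classical
  haveI : IsLocallyNoetherian W := LocallyOfFiniteType.isLocallyNoetherian g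
  have key : ∀ w : W, ∃ A : W.Opens, IsAffineOpen A ∧ w ∈ A := fun w => by
    obtain ⟨A, hA, hwA, -⟩ := Opens.isBasis_iff_nbhd.mp W.isBasis_affineOpens (Opens.mem_top w)
    exact ⟨A, hA, hwA⟩
  choose A hA hwA using key
  obtain ⟨W₀, hW₀def⟩ : ∃ W₀ : W.Opens, W₀ = ⨆ w ∈ hfin.toFinset, A w := ⟨_, rfl⟩
  have hW₀c : IsCompact (W₀ : Set W) := by
    have e : (W₀ : Set W) = ⋃ w ∈ hfin.toFinset, (A w : Set W) := by
      rw [hW₀def]; simp
    rw [e]
    exact hfin.toFinset.isCompact_biUnion fun w _ => (hA w).isCompact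
  have hFW₀ : g ⁻¹' {η} ⊆ (W₀ : Set W) := by
    intro w hw
    rw [hW₀def]
    exact Opens.mem_iSup.2 ⟨w, Opens.mem_iSup.2 ⟨hfin.mem_toFinset.2 hw, hwA w⟩⟩
  clear hW₀def
  haveI : CompactSpace ↥W₀.toScheme := isCompact_iff_compactSpace.1 hW₀c
  have hη' : closure ({η} : Set Z) ∈ irreducibleComponents (Z : Type u) :=
    ⟨isIrreducible_singleton.closure, fun s _ _ => by rw [hη]; exact Set.subset_univ s⟩
  have hfin₀ : ((W₀.ι ≫ g).base ⁻¹' {η}).Finite := by
    have h1 : ((W₀.ι ≫ g).base ⁻¹' {η}) = W₀.ι ⁻¹' (g ⁻¹' {η}) := rfl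
    rw [h1]
    exact hfin.preimage (W₀.ι.isOpenEmbedding.injective.injOn)
  obtain ⟨V₁, hV₁, hηV₁, hfinV₁⟩ :=
    (Groth.Agent.GenFinMax.finite_fiber_iff (W₀.ι ≫ g) η hη').1 hfin₀
  rw [morphismRestrict_comp] at hfinV₁
  have hfin' : IsFinite (W₀.ι ∣_ g ⁻¹ᵁ V₁ ≫ g ∣_ V₁) := hfinV₁
  haveI := hfin'
  haveI : IsFinite (W₀.ι ∣_ g ⁻¹ᵁ V₁) := IsFinite.of_comp (W₀.ι ∣_ g ⁻¹ᵁ V₁) (g ∣_ V₁)
  have hcl : IsClosed (Set.range (W₀.ι ∣_ g ⁻¹ᵁ V₁)) :=
    (W₀.ι ∣_ g ⁻¹ᵁ V₁).isClosedMap.isClosed_range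
  have hQopen : IsOpen ((g ⁻¹ᵁ V₁).ι '' (Set.range (W₀.ι ∣_ g ⁻¹ᵁ V₁))ᶜ) :=
    (g ⁻¹ᵁ V₁).ι.isOpenEmbedding.isOpenMap _ hcl.isOpen_compl
  have hgQ : IsOpen (g '' ((g ⁻¹ᵁ V₁).ι '' (Set.range (W₀.ι ∣_ g ⁻¹ᵁ V₁))ᶜ)) :=
    g.isOpenMap _ hQopen
  have hQempty : (g ⁻¹ᵁ V₁).ι '' (Set.range (W₀.ι ∣_ g ⁻¹ᵁ V₁))ᶜ = ∅ := by
    by_contra hne
    obtain ⟨w, hw⟩ := Set.nonempty_iff_ne_empty.2 hne
    have hηQ : η ∈ g '' ((g ⁻¹ᵁ V₁).ι '' (Set.range (W₀.ι ∣_ g ⁻¹ᵁ V₁))ᶜ) := by
      have hsp : η ⤳ g w := by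
        rw [specializes_iff_mem_closure, hη]; exact Set.mem_univ _
      exact hsp.mem_open hgQ ⟨w, hw, rfl⟩
    obtain ⟨w', ⟨p, hp, rfl⟩, hw'η⟩ := hηQ
    apply hp
    rw [mem_range_morphismRestrict, Scheme.Opens.range_ι]
    exact hFW₀ hw'η
  refine ⟨V₁, hηV₁, isCompact_of_subset_compact_open W₀ hW₀c ?_⟩
  intro w hw
  by_contra hwW₀
  have hmem : w ∈ (g ⁻¹ᵁ V₁).ι '' (Set.range (W₀.ι ∣_ g ⁻¹ᵁ V₁))ᶜ := by
    refine ⟨⟨w, hw⟩, ?_, rfl⟩
    rw [Set.mem_compl_iff, mem_range_morphismRestrict, Scheme.Opens.range_ι]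
    exact hwW₀
  rw [hQempty] at hmem
  exact hmem

/-- Noetherian induction. -/
theorem isCompact_preimage_closeds {W U : Scheme.{u}} (f : W ⟶ U) [Etale f] [IsSeparated f]
    [IsNoetherian U] (hfib : ∀ u : U, (f ⁻¹' {u}).Finite) (Z : Closeds U) :
    IsCompact (f ⁻¹' (Z : Set U)) := by
  apply wellFounded_lt.induction Z
  intro Z ih
  rcases eq_or_ne Z ⊥ with rfl | h₀
  · simp
  by_cases h₁ : IsPreirreducible (Z : Set U)
  swap
  · simp only [isPreirreducible_iff_isClosed_union_isClosed, not_forall, not_or] at h₁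
    obtain ⟨z₁, z₂, hz₁, hz₂, h, hz₁', hz₂'⟩ := h₁
    lift z₁ to Closeds U using hz₁
    lift z₂ to Closeds U using hz₂
    have c1 := ih (Z ⊓ z₁) (inf_lt_left.2 hz₁')
    have c2 := ih (Z ⊓ z₂) (inf_lt_left.2 hz₂')
    have e : f ⁻¹' (Z : Set U) =
        f ⁻¹' ((Z ⊓ z₁ : Closeds U) : Set U) ∪ f ⁻¹' ((Z ⊓ z₂ : Closeds U) : Set U) := by
      ext w
      simp only [Set.mem_preimage, Set.mem_union, Closeds.coe_inf, Set.mem_inter_iff,
        SetLike.mem_coe]
      constructor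
      · intro hw
        rcases h hw with h' | h'
        exacts [Or.inl ⟨hw, h'⟩, Or.inr ⟨hw, h'⟩]
      · rintro (⟨hw, -⟩ | ⟨hw, -⟩) <;> exact hw
    rw [e]
    exact c1.union c2
  · obtain ⟨η, hη⟩ := QuasiSober.sober
      (⟨Closeds.coe_nonempty.2 h₀, h₁⟩ : IsIrreducible (Z : Set U)) Z.isClosed
    obtain ⟨I, hI⟩ : ∃ I : U.IdealSheafData, I = Scheme.IdealSheafData.vanishingIdeal Z := ⟨_, rfl⟩
    have hrange : Set.range I.subschemeι = (Z : Set U) := by
      rw [Scheme.IdealSheafData.range_subschemeι, hI]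
      exact Scheme.IdealSheafData.coe_support_vanishingIdeal Z
    clear hI
    haveI : IsLocallyNoetherian I.subscheme :=
      LocallyOfFiniteType.isLocallyNoetherian I.subschemeι
    haveI : CompactSpace ↥I.subscheme := QuasiCompact.compactSpace_of_compactSpace I.subschemeι
    haveI : IsNoetherian I.subscheme := { }
    have hinj : Function.Injective I.subschemeι :=
      I.subschemeι.isClosedEmbedding.toIsEmbedding.injective
    have hZsub : ∀ z : I.subscheme, I.subschemeι z ∈ (Z : Set U) := by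
      intro z
      rw [← hrange]; exact Set.mem_range_self z
    obtain ⟨η', hη'⟩ : ∃ η' : I.subscheme, I.subschemeι η' = η := by
      have : η ∈ Set.range I.subschemeι := by rw [hrange]; exact hη.mem
      exact this
    have hη'univ : closure ({η'} : Set I.subscheme) = Set.univ := by
      apply Set.eq_univ_of_forall
      intro z
      rw [← specializes_iff_mem_closure,
        ← I.subschemeι.isClosedEmbedding.toIsEmbedding.toIsInducing.specializes_iff, hη',
        specializes_iff_mem_closure, hη.def]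
      exact hZsub z
    have hcond : ∀ p : ↥(pullback f I.subschemeι), f (pullback.fst f I.subschemeι p) =
        I.subschemeι (pullback.snd f I.subschemeι p) := by
      intro p
      have h1 : (pullback.fst f I.subschemeι ≫ f) p =
          (pullback.snd f I.subschemeι ≫ I.subschemeι) p := by
        rw [pullback.condition]
      exact h1
    have hfibZ : ((pullback.snd f I.subschemeι) ⁻¹' {η'}).Finite := by
      refine ((hfib η).preimage
        ((pullback.fst f I.subschemeι).isClosedEmbedding.toIsEmbedding.injective.injOn)).subset ?_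
      intro z hz
      show f (pullback.fst f I.subschemeι z) = η
      rw [hcond, show pullback.snd f I.subschemeι z = η' from hz, hη']
    obtain ⟨V₁, hη'V₁, hV₁c⟩ := heart (pullback.snd f I.subschemeι) η' hη'univ hfibZ
    have hcl' : IsClosed (I.subschemeι '' ((V₁ : Set I.subscheme)ᶜ)) :=
      I.subschemeι.isClosedEmbedding.isClosedMap _ V₁.isOpen.isClosed_compl
    have hZ'sub : I.subschemeι '' ((V₁ : Set I.subscheme)ᶜ) ⊆ (Z : Set U) := by
      rintro _ ⟨z, -, rfl⟩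
      exact hZsub z
    have hZ'le : (⟨I.subschemeι '' ((V₁ : Set I.subscheme)ᶜ), hcl'⟩ : Closeds U) ≤ Z :=
      SetLike.coe_subset_coe.1 hZ'sub
    have hZ'ne : (⟨I.subschemeι '' ((V₁ : Set I.subscheme)ᶜ), hcl'⟩ : Closeds U) ≠ Z := by
      intro e
      have hηZ' : η ∈ ((⟨I.subschemeι '' ((V₁ : Set I.subscheme)ᶜ), hcl'⟩ : Closeds U) : Set U) := by
        rw [e]; exact hη.mem
      obtain ⟨z, hz, hzη⟩ := hηZ'
      have hzη' : z = η' := hinj (hzη.trans hη'.symm)
      rw [hzη'] at hz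
      exact hz hη'V₁
    have c1 := ih _ (lt_of_le_of_ne hZ'le hZ'ne)
    have e : f ⁻¹' (Z : Set U) = (pullback.fst f I.subschemeι) ''
        ((pullback.snd f I.subschemeι) ⁻¹' (V₁ : Set I.subscheme)) ∪
          f ⁻¹' (I.subschemeι '' ((V₁ : Set I.subscheme)ᶜ)) := by
      ext w
      constructor
      · intro hw
        have hw' : f w ∈ Set.range I.subschemeι := by rw [hrange]; exact hw
        obtain ⟨z, hz⟩ := hw'
        by_cases hzV : z ∈ V₁
        · left
          obtain ⟨p, hp1, hp2⟩ := Scheme.Pullback.exists_preimage_pullback w z hz.symm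
          refine ⟨p, ?_, hp1⟩
          show pullback.snd f I.subschemeι p ∈ V₁
          rw [hp2]; exact hzV
        · right
          exact ⟨z, hzV, hz⟩
      · rintro (⟨p, -, rfl⟩ | hw)
        · show f (pullback.fst f I.subschemeι p) ∈ (Z : Set U)
          rw [hcond]
          exact hZsub _
        · exact hZ'sub hw
    rw [e]
    exact (hV₁c.image (pullback.fst f I.subschemeι).continuous).union c1

/-- An étale separated morphism with finite fibres to a Noetherian scheme has quasi-compact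
source. -/
theorem compactSpace_of_etale_separated {W U : Scheme.{u}} (f : W ⟶ U) [Etale f] [IsSeparated f]
    [IsNoetherian U] (hfib : ∀ u : U, (f ⁻¹' {u}).Finite) : CompactSpace W := by
  have h := isCompact_preimage_closeds f hfib ⊤
  rw [Closeds.coe_top, Set.preimage_univ] at h
  exact isCompact_univ_iff.1 h

end Groth.Agent.Lib.EtSepFinQCH7
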