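import Mathlib
import Groth.Agent.Lib.EtSepFinQC_helper7
import Groth.Agent.Lib.AlgSpChart_helper7
import Groth.Agent.Lib.AlgSpDescent2_helper7
import Groth.Agent.Lib.AlgSpDecent3_helper6
import Groth.Agent.Lib.AlgSpFibre_helper6
import Groth.Agent.Lib.AlgSpPoints_helper7

/-!
# A locally Noetherian decent algebraic space is quasi-separated (helper7)
-/

set_option autoImplicit false
set_option linter.style.haveILetI false
universe u
open CategoryTheory CategoryTheory.Limits AlgebraicGeometry Opposite MorphismProperty TopologicalSpace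
open AlgSp
open Groth.Agent.Lib.AlgSpPoints_helper7 Groth.Agent.Lib.AlgSpQC_helper7
  Groth.Agent.Lib.AlgSpPullback_helper7 Groth.Agent.Lib.AlgSpChart_helper7
  Groth.Agent.Lib.AlgSpDescent_helper7 Groth.Agent.Lib.AlgSpDescent2_helper7
  Groth.Agent.Lib.AlgSpDecent3_helper6 Groth.Agent.Lib.AlgSpFibre_helper6
  Groth.Agent.Lib.EtSepFinQCH7

namespace Groth.Agent.Lib.DecentNoethQSH7

variable {S : Scheme.{u}}

/-- The two projections of `R = U ×_X U` are jointly monomorphic on underlying schemes. -/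
theorem left_hom_ext {X : Sp S} {U₀ R : Over S} {p : (yon S).obj U₀ ⟶ X} {fst' snd : R ⟶ U₀}
    (sq : IsPullback ((yon S).map fst') ((yon S).map snd) p p) {T : Scheme.{u}}
    (a b : T ⟶ R.left) (h1 : a ≫ fst'.left = b ≫ fst'.left)
    (h2 : a ≫ snd.left = b ≫ snd.left) : a = b := by
  have hb : b ≫ R.hom = a ≫ R.hom := by
    have hw := Over.w fst'
    rw [← hw, ← Category.assoc, ← Category.assoc, h1]
  let αa : Over.mk (a ≫ R.hom) ⟶ R := Over.homMk a rfl
  let αb : Over.mk (a ≫ R.hom) ⟶ R := Over.homMk b hb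
  have e1 : αa ≫ fst' = αb ≫ fst' := Over.OverMorphism.ext h1
  have e2 : αa ≫ snd = αb ≫ snd := Over.OverMorphism.ext h2
  have e : (yon S).map αa = (yon S).map αb := by
    apply sq.hom_ext
    · rw [← Functor.map_comp, ← Functor.map_comp, e1]
    · rw [← Functor.map_comp, ← Functor.map_comp, e2]
  have := (yon S).map_injective e
  exact congrArg (fun φ => φ.left) this

/-- For a decent space `X` with étale chart `U₀`, the points of `R = U₀ ×_X U₀` lying over a given
point `u` and over a compact open `A'` are finite in number. -/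
theorem finite_fibre_inter {X : Sp S} (hX : IsDecent X) {U₀ R : Over S}
    {p : (yon S).obj U₀ ⟶ X} (hpe : RepWith @Etale p) {fst' snd : R ⟶ U₀}
    (sq : IsPullback ((yon S).map fst') ((yon S).map snd) p p) (A' : U₀.left.Opens)
    (hA' : IsCompact (A' : Set U₀.left)) (u : U₀.left) :
    {w : R.left | fst'.left w = u ∧ snd.left w ∈ A'}.Finite := by
  obtain ⟨p₀, hp₀, hm, hqc⟩ := hX (Points.ofPt p u)
  have hq : RepWith @QuasiCompact (FieldPt.ofPt p u).toHom :=
    repWith_quasiCompact_of_mono p₀ (FieldPt.ofPt p u) hm hqc hp₀.symm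
  obtain ⟨ιu, hιu1, hιu2⟩ : ∃ ιu : (FieldPt.ofPt p u).pt ⟶ U₀,
      ιu.left = U₀.left.fromSpecResidueField u ∧
        (FieldPt.ofPt p u).toHom = (yon S).map ιu ≫ p :=
    ⟨Over.homMk (U₀.left.fromSpecResidueField u) rfl, rfl, FieldPt.toHom_ofPt p u⟩
  let A'o : Over S := Over.mk (A'.ι ≫ U₀.hom)
  let jA' : A'o ⟶ U₀ := Over.homMk A'.ι rfl
  have hb'e : RepWith @Etale ((yon S).map jA' ≫ p) := by
    refine repWith_comp _ ?_ hpe
    exact (repWith_yon_map_iff @Etale jA').2 (inferInstance : Etale A'.ι)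
  obtain ⟨F, r, s, sqF, hsqc⟩ : ∃ (F : Over S) (r : F ⟶ (FieldPt.ofPt p u).pt) (s : F ⟶ A'o),
      IsPullback ((yon S).map r) ((yon S).map s) (FieldPt.ofPt p u).toHom
        ((yon S).map jA' ≫ p) ∧ QuasiCompact s.left :=
    ⟨_, _, _, hq.rep.isPullback' ((yon S).map jA' ≫ p), hq.property_snd _⟩
  haveI : QuasiCompact s.left := hsqc
  haveI : CompactSpace ↥A'o.left := isCompact_iff_compactSpace.1 hA'
  haveI : CompactSpace ↥F.left := QuasiCompact.compactSpace_of_compactSpace s.left
  have hre : Etale r.left := by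
    have h1 : RepWith @Etale ((yon S).map r) := repWith_fst_of_isPullback @Etale sqF hb'e
    exact (repWith_yon_map_iff @Etale r).1 h1
  haveI := hre
  haveI : Finite ↥F.left := finite_of_etale_field (K := (FieldPt.ofPt p u).K) r.left
  have hw0 : (yon S).map (r ≫ ιu) ≫ p = (yon S).map (s ≫ jA') ≫ p := by
    rw [Functor.map_comp, Functor.map_comp, Category.assoc, Category.assoc, ← hιu2]
    exact sqF.w
  obtain ⟨μ, hμ⟩ := (yon S).map_surjective (sq.lift _ _ hw0)
  have hμ1 : μ ≫ fst' = r ≫ ιu :=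
    (yon S).map_injective (by rw [Functor.map_comp, hμ, sq.lift_fst])
  have hμ2 : μ ≫ snd = s ≫ jA' :=
    (yon S).map_injective (by rw [Functor.map_comp, hμ, sq.lift_snd])
  refine (Set.finite_range (fun z => μ.left z)).subset ?_
  rintro w ⟨hwu, hwA⟩
  subst hwu
  have hc : Spec.map (fst'.left.residueFieldMap w) ≫
      (U₀.left.fromSpecResidueField (fst'.left w) ≫ U₀.hom) =
      R.left.fromSpecResidueField w ≫ R.hom := by
    rw [← Category.assoc, Scheme.Hom.SpecMap_residueFieldMap_fromSpecResidueField,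
      Category.assoc, CategoryTheory.Over.w]
  let Tw : Over S := Over.mk (R.left.fromSpecResidueField w ≫ R.hom)
  let τ : Tw ⟶ R := Over.homMk (R.left.fromSpecResidueField w) rfl
  let c : Tw ⟶ (FieldPt.ofPt p (fst'.left w)).pt :=
    Over.homMk (U := Tw) (V := (FieldPt.ofPt p (fst'.left w)).pt)
      (Spec.map (fst'.left.residueFieldMap w)) hc
  have hcι : c ≫ ιu = τ ≫ fst' := by
    apply Over.OverMorphism.ext
    show Spec.map (fst'.left.residueFieldMap w) ≫ ιu.left =
      R.left.fromSpecResidueField w ≫ fst'.left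
    rw [hιu1]
    exact Scheme.Hom.SpecMap_residueFieldMap_fromSpecResidueField fst'.left w
  have hrange : Set.range (R.left.fromSpecResidueField w ≫ snd.left) ⊆ Set.range A'.ι := by
    rintro _ ⟨z, rfl⟩
    rw [Scheme.Opens.range_ι]
    show (R.left.fromSpecResidueField w ≫ snd.left) z ∈ A'
    rw [Scheme.Hom.comp_apply, Scheme.fromSpecResidueField_apply]
    exact hwA
  obtain ⟨l, hl⟩ : ∃ l : Spec (R.left.residueField w) ⟶ A'.toScheme,
      l ≫ A'.ι = R.left.fromSpecResidueField w ≫ snd.left :=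
    ⟨IsOpenImmersion.lift A'.ι _ hrange, IsOpenImmersion.lift_fac _ _ _⟩
  have hlift : l ≫ (A'.ι ≫ U₀.hom) = R.left.fromSpecResidueField w ≫ R.hom := by
    rw [← Category.assoc, hl, Category.assoc, CategoryTheory.Over.w]
  let τ'' : Tw ⟶ A'o := Over.homMk (U := Tw) (V := A'o) l hlift
  have hτ'' : τ'' ≫ jA' = τ ≫ snd := by
    apply Over.OverMorphism.ext
    show l ≫ A'.ι = R.left.fromSpecResidueField w ≫ snd.left
    exact hl
  have hw1 : (yon S).map c ≫ (FieldPt.ofPt p (fst'.left w)).toHom =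
      (yon S).map τ'' ≫ ((yon S).map jA' ≫ p) := by
    have e1 : (yon S).map c ≫ (FieldPt.ofPt p (fst'.left w)).toHom =
        (yon S).map (c ≫ ιu) ≫ p := by
      rw [hιu2, Functor.map_comp, Category.assoc]
    have e2 : (yon S).map τ'' ≫ ((yon S).map jA' ≫ p) = (yon S).map (τ'' ≫ jA') ≫ p := by
      rw [Functor.map_comp, Category.assoc]
    rw [e1, e2, hcι, hτ'']
    simp only [Functor.map_comp, Category.assoc]
    rw [sq.w]
  obtain ⟨σ, hσ⟩ := (yon S).map_surjective (sqF.lift _ _ hw1)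
  have hσ1 : σ ≫ r = c := (yon S).map_injective (by rw [Functor.map_comp, hσ, sqF.lift_fst])
  have hσ2 : σ ≫ s = τ'' := (yon S).map_injective (by rw [Functor.map_comp, hσ, sqF.lift_snd])
  have hστ : σ ≫ μ = τ := by
    apply (yon S).map_injective
    apply sq.hom_ext
    · rw [← Functor.map_comp, ← Functor.map_comp, Category.assoc, hμ1, ← Category.assoc, hσ1,
        hcι]
    · rw [← Functor.map_comp, ← Functor.map_comp, Category.assoc, hμ2, ← Category.assoc, hσ2,
        hτ'']
  let z : ↥Tw.left := IsLocalRing.closedPoint (R.left.residueField w)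
  refine ⟨σ.left z, ?_⟩
  show μ.left (σ.left z) = w
  rw [← Scheme.Hom.comp_apply, ← Over.comp_left, hστ]
  exact Scheme.fromSpecResidueField_apply (x := w) (s := z)

/-- For a locally Noetherian étale chart `U₀` of a decent space, an open of `R = U₀ ×_X U₀` lying
over two affine opens of `U₀` is quasi-compact. -/
theorem isCompact_of_le {X : Sp S} (hX : IsDecent X) {U₀ R : Over S}
    [IsLocallyNoetherian U₀.left] {p : (yon S).obj U₀ ⟶ X}
    (hpe : RepWith @Etale p) {fst' snd : R ⟶ U₀}
    (sq : IsPullback ((yon S).map fst') ((yon S).map snd) p p) (A A' : U₀.left.Opens)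
    (hA : IsAffineOpen A) (hA' : IsAffineOpen A') (Rk : R.left.Opens)
    (h1 : Rk ≤ fst'.left ⁻¹ᵁ A) (h2 : Rk ≤ snd.left ⁻¹ᵁ A') :
    IsCompact (Rk : Set R.left) := by
  have hfe : Etale fst'.left := hpe.property p ((yon S).map snd) fst' sq.flip
  haveI : IsAffine A.toScheme := hA
  haveI : IsAffine A'.toScheme := hA'
  haveI : IsNoetherian A.toScheme := { }
  let f : Rk.toScheme ⟶ A.toScheme := fst'.left.resLE A Rk h1
  let g : Rk.toScheme ⟶ A'.toScheme := snd.left.resLE A' Rk h2
  haveI : Etale f := IsZariskiLocalAtSource.resLE (P := @Etale) h1 hfe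
  have ef : Rk.ι ≫ fst'.left = f ≫ A.ι := (Scheme.Hom.resLE_comp_ι fst'.left h1).symm
  have eg : Rk.ι ≫ snd.left = g ≫ A'.ι := (Scheme.Hom.resLE_comp_ι snd.left h2).symm
  let m : Rk.toScheme ⟶ pullback (terminal.from A.toScheme) (terminal.from A'.toScheme) :=
    pullback.lift f g (terminal.hom_ext _ _)
  have hmf : m ≫ pullback.fst (terminal.from A.toScheme) (terminal.from A'.toScheme) = f :=
    pullback.lift_fst _ _ _
  have hmg : m ≫ pullback.snd (terminal.from A.toScheme) (terminal.from A'.toScheme) = g :=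
    pullback.lift_snd _ _ _
  haveI : Mono m := by
    constructor
    intro T a b hab
    have k1 : a ≫ f = b ≫ f := by rw [← hmf, ← Category.assoc, ← Category.assoc, hab]
    have k2 : a ≫ g = b ≫ g := by rw [← hmg, ← Category.assoc, ← Category.assoc, hab]
    have k1' : (a ≫ Rk.ι) ≫ fst'.left = (b ≫ Rk.ι) ≫ fst'.left := by
      rw [Category.assoc, Category.assoc, ef, ← Category.assoc, ← Category.assoc, k1]
    have k2' : (a ≫ Rk.ι) ≫ snd.left = (b ≫ Rk.ι) ≫ snd.left := by
      rw [Category.assoc, Category.assoc, eg, ← Category.assoc, ← Category.assoc, k2]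
    have := left_hom_ext sq (a ≫ Rk.ι) (b ≫ Rk.ι) k1' k2'
    exact (cancel_mono Rk.ι).1 this
  haveI : IsSeparated f := by
    haveI : IsAffineHom (terminal.from A'.toScheme) := inferInstance
    haveI : IsSeparated (terminal.from A'.toScheme) := inferInstance
    have : IsSeparated
        (m ≫ pullback.fst (terminal.from A.toScheme) (terminal.from A'.toScheme)) :=
      inferInstance
    rwa [hmf] at this
  have hfib : ∀ x : A.toScheme, (f ⁻¹' {x}).Finite := by
    intro x
    have hfin := finite_fibre_inter hX hpe sq A' hA'.isCompact (A.ι x)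
    have hinj : Function.Injective Rk.ι := Rk.ι.isOpenEmbedding.injective
    refine (hfin.preimage hinj.injOn).subset ?_
    intro y hy
    show fst'.left (Rk.ι y) = A.ι x ∧ snd.left (Rk.ι y) ∈ A'
    refine ⟨?_, ?_⟩
    · have hy' : f y = x := hy
      have := congrArg (fun φ : Rk.toScheme ⟶ U₀.left => φ y) ef
      simp only [Scheme.Hom.comp_apply] at this
      rw [hy'] at this
      exact this
    · have hyR : Rk.ι y ∈ Rk := by
        have : Rk.ι y ∈ Set.range Rk.ι := ⟨y, rfl⟩
        rw [Scheme.Opens.range_ι] at this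
        exact this
      exact h2 hyR
  haveI := compactSpace_of_etale_separated f hfib
  exact isCompact_iff_compactSpace.2 (inferInstance : CompactSpace ↥Rk.toScheme)

/-- A locally Noetherian decent algebraic space is quasi-separated. -/
theorem main10354 (X : AlgSp.Space S) (hN : IsLocNoethSp X.obj) (hX : IsDecent X.obj) :
    IsQuasiSeparatedSp X.obj := by
  obtain ⟨U₀, p, hpe, hps, hNU⟩ := hN
  haveI : IsLocallyNoetherian U₀.left := hNU
  obtain ⟨R, fs, sn, sq0⟩ : ∃ (R : Over S) (fs sn : R ⟶ U₀),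
      IsPullback ((yon S).map fs) ((yon S).map sn) p p := ⟨_, _, _, hpe.rep.isPullback' p⟩
  obtain ⟨W, pU, pV, r, ρ, -, hρ1, hρ2, -, -, sqD, hr⟩ := exists_fibreProduct_chart p p fs sn sq0
  show RepWith @QuasiCompact (Limits.diag X.obj)
  refine repWith_of_chart @QuasiCompact descendsEtale_quasiCompact (Limits.diag X.obj)
    X.property.diag r (hr @Etale hpe hpe) (hr @Surjective hps hps) ((yon S).map fs ≫ p) ρ sqD ?_
  have hfe : Etale fs.left := hpe.property p ((yon S).map sn) fs sq0.flip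
  haveI : IsLocallyNoetherian R.left := LocallyOfFiniteType.isLocallyNoetherian fs.left
  show QuasiCompact ρ.left
  rw [quasiCompact_iff_forall_isAffineOpen]
  intro B hB
  have hex : ∀ y : U₀.left, ∃ A : U₀.left.Opens, IsAffineOpen A ∧ y ∈ A := fun y => by
    obtain ⟨A, hA, hyA, -⟩ := exists_isAffineOpen_mem_and_subset (x := y) (U := ⊤) trivial
    exact ⟨A, hA, hyA⟩
  choose Af hAf hyAf using hex
  have hfs : ∀ w : R.left, pU.left (ρ.left w) = fs.left w := fun w => by
    rw [← Scheme.Hom.comp_apply, ← Over.comp_left, hρ1]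
  have hsn : ∀ w : R.left, pV.left (ρ.left w) = sn.left w := fun w => by
    rw [← Scheme.Hom.comp_apply, ← Over.comp_left, hρ2]
  let O : W.left → W.left.Opens := fun b =>
    pU.left ⁻¹ᵁ Af (pU.left b) ⊓ pV.left ⁻¹ᵁ Af (pV.left b)
  let Rk : W.left → R.left.Opens := fun b =>
    fs.left ⁻¹ᵁ Af (pU.left b) ⊓ sn.left ⁻¹ᵁ Af (pV.left b)
  obtain ⟨t, -, ht⟩ := hB.isCompact.elim_nhds_subcover (fun b => (O b : Set W.left))
    (fun b _ => (O b).isOpen.mem_nhds
      (show b ∈ O b from Opens.mem_inf.2 ⟨hyAf (pU.left b), hyAf (pV.left b)⟩))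
  have hc : IsCompact (⋃ b ∈ t, ((ρ.left ⁻¹ᵁ B : Set R.left) ∩ (Rk b : Set R.left))) :=
    t.isCompact_biUnion (fun b _ => isCompact_of_subset_compact_open (Rk b)
      (isCompact_of_le hX hpe sq0 (Af (pU.left b)) (Af (pV.left b)) (hAf _) (hAf _) (Rk b)
        inf_le_left inf_le_right)
      Set.inter_subset_right)
  have hEq : (ρ.left ⁻¹ᵁ B : Set R.left) =
      ⋃ b ∈ t, ((ρ.left ⁻¹ᵁ B : Set R.left) ∩ (Rk b : Set R.left)) := by
    apply Set.Subset.antisymm
    · intro w hw
      have hwB : ρ.left w ∈ (B : Set W.left) := hw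
      obtain ⟨b, hbt, hb⟩ := Set.mem_iUnion₂.1 (ht hwB)
      have hb' : pU.left (ρ.left w) ∈ Af (pU.left b) ∧ pV.left (ρ.left w) ∈ Af (pV.left b) := hb
      rw [hfs, hsn] at hb'
      exact Set.mem_iUnion₂.2 ⟨b, hbt, Set.mem_inter hw hb'⟩
    · intro w hw
      obtain ⟨b, -, hw1, -⟩ := Set.mem_iUnion₂.1 hw
      exact hw1
  rw [hEq]
  exact hc

end Groth.Agent.Lib.DecentNoethQSH7
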