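import Mathlib

/-!
# Topological lemmas towards sobriety of decent spaces (helper7)

* `baire_lite`: in a spectral space, a sequence of opens each of which is "dense in the closed
  set `Z`" has a common point in `Z`.
* `exists_generic_of_closedQuot`: a quotient-like map with finite fibres which is "closed" on a
  locally closed saturated piece `W` of a quasi-sober space: if the image of `W` is irreducible,
  it has a generic point.
-/

set_option autoImplicit false
set_option linter.style.haveILetI false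
universe u
open TopologicalSpace Topology Set

namespace Groth.Agent.Lib.SoberTopH7

section Baire

variable {X : Type*} [TopologicalSpace X]

theorem continuous_ofConstructible [PrespectralSpace X] :
    Continuous (WithTopology.ofTopology : WithConstructibleTopology X → X) := by
  rw [continuous_def]
  intro U hU
  obtain ⟨S, hS, rfl⟩ := PrespectralSpace.isTopologicalBasis.open_eq_sUnion hU
  rw [Set.preimage_sUnion]
  exact isOpen_biUnion (fun V hV => WithConstructibleTopology.isOpen_iff.mpr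
    ((hS hV).2.isOpen_constructibleTopology_of_isOpen (hS hV).1))

theorem isClosed_preimage_of_isOpen_isCompact {U : Set X} (hUo : IsOpen U) (hUc : IsCompact U) :
    IsClosed ((WithTopology.ofTopology : WithConstructibleTopology X → X) ⁻¹' U) := by
  rw [← isOpen_compl_iff]
  exact WithConstructibleTopology.isOpen_iff.mpr
    (IsCompact.isOpen_constructibleTopology_of_isClosed (s := Uᶜ)
      (by rwa [compl_compl]) hUo.isClosed_compl)

/-- A weak Baire property of spectral spaces. -/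
theorem baire_lite [CompactSpace X] [QuasiSober X] [PrespectralSpace X] [QuasiSeparatedSpace X]
    (Z : Set X) (hZ : IsClosed Z) (hne : Z.Nonempty) (O : ℕ → Set X) (hO : ∀ r, IsOpen (O r))
    (hd : ∀ (r : ℕ) (N : Set X), IsOpen N → (N ∩ Z).Nonempty → (N ∩ O r ∩ Z).Nonempty) :
    (Z ∩ ⋂ r, O r).Nonempty := by
  let Sub := {D : Set X // IsOpen D ∧ IsCompact D ∧ (D ∩ Z).Nonempty}
  have step : ∀ (r : ℕ) (D : Sub), ∃ B : Sub, B.1 ⊆ D.1 ∩ O r := by
    intro r D
    obtain ⟨y, ⟨hyD, hyO⟩, hyZ⟩ := hd r D.1 D.2.1 D.2.2.2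
    obtain ⟨B, hB, hyB, hBsub⟩ := PrespectralSpace.isTopologicalBasis.exists_subset_of_mem_open
      (show y ∈ D.1 ∩ O r from ⟨hyD, hyO⟩) (D.2.1.inter (hO r))
    exact ⟨⟨B, hB.1, hB.2, ⟨y, hyB, hyZ⟩⟩, hBsub⟩
  choose next hnext using step
  let D0 : Sub := ⟨Set.univ, isOpen_univ, isCompact_univ, by simpa using hne⟩
  let D : ℕ → Sub := fun r => Nat.rec D0 (fun r Dr => next r Dr) r
  have hD : ∀ r, (D (r + 1)).1 ⊆ (D r).1 ∩ O r := fun r => hnext r (D r)
  let π : WithConstructibleTopology X → X := WithTopology.ofTopology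
  have hπs : Function.Surjective π := WithTopology.ofTopology_surjective _
  let t : ℕ → Set (WithConstructibleTopology X) := fun r => π ⁻¹' ((D r).1 ∩ Z)
  have htcl : ∀ r, IsClosed (t r) := by
    intro r
    show IsClosed (π ⁻¹' ((D r).1 ∩ Z))
    rw [Set.preimage_inter]
    exact (isClosed_preimage_of_isOpen_isCompact (D r).2.1 (D r).2.2.1).inter
      (hZ.preimage continuous_ofConstructible)
  have htd : ∀ r, t (r + 1) ⊆ t r := by
    intro r y hy
    exact ⟨(hD r hy.1).1, hy.2⟩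
  have htn : ∀ r, (t r).Nonempty := by
    intro r
    obtain ⟨y, hy⟩ := (D r).2.2.2
    obtain ⟨y', rfl⟩ := hπs y
    exact ⟨y', hy⟩
  obtain ⟨y', hy'⟩ := IsCompact.nonempty_iInter_of_sequence_nonempty_isCompact_isClosed t htd htn
    (htcl 0).isCompact htcl
  rw [Set.mem_iInter] at hy'
  refine ⟨π y', (hy' 0).2, ?_⟩
  rw [Set.mem_iInter]
  intro r
  exact (hD r (hy' (r + 1)).1).2

end Baire

section Quot

variable {Y Xp : Type*} [TopologicalSpace Y] [TopologicalSpace Xp]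

/-- If `p` restricted to the locally closed piece `W = Z ∩ O` is "closed with finite fibres" onto
an irreducible image, the image has a generic point coming from `W`. -/
theorem exists_generic_of_closedQuot [QuasiSober Y] (p : Y → Xp) (hpc : Continuous p)
    (hpo : IsOpenMap p) (Z O : Set Y) (hZ : IsClosed Z) (hO : IsOpen O)
    (hfin : ∀ x, (p ⁻¹' {x} ∩ (Z ∩ O)).Finite)
    (hcl : ∀ C' : Set Y, IsClosed C' → ∃ C'' : Set Y, IsClosed C'' ∧
      p ⁻¹' (p '' (C' ∩ (Z ∩ O))) = C'' ∩ (Z ∩ O))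
    (hirr : IsIrreducible (p '' (Z ∩ O))) :
    ∃ ζ ∈ Z ∩ O, p '' (Z ∩ O) ⊆ closure {p ζ} := by
  classical
  set W : Set Y := Z ∩ O with hW
  set V : Set Xp := p '' W with hV
  -- images of closed sets are closed in `V`
  have hclV : ∀ C' : Set Y, IsClosed C' → ∃ E : Set Xp, IsClosed E ∧ p '' (C' ∩ W) = V ∩ E := by
    intro C' hC'
    obtain ⟨C'', hC'', hEq⟩ := hcl C' hC'
    refine ⟨(p '' C''ᶜ)ᶜ, (hpo _ hC''.isOpen_compl).isClosed_compl, ?_⟩
    apply Set.Subset.antisymm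
    · rintro x ⟨y, hy, rfl⟩
      refine ⟨⟨y, hy.2, rfl⟩, ?_⟩
      rintro ⟨z, hz, hzy⟩
      have hz' : z ∈ p ⁻¹' (p '' (C' ∩ W)) := ⟨y, hy, hzy.symm⟩
      rw [hEq] at hz'
      exact hz hz'.1
    · rintro x ⟨⟨y, hyW, rfl⟩, hxE⟩
      have hyC'' : y ∈ C'' := by
        by_contra hn
        exact hxE ⟨y, hn, rfl⟩
      have hy' : y ∈ p ⁻¹' (p '' (C' ∩ W)) := by
        rw [hEq]; exact ⟨hyC'', hyW⟩
      exact hy'
  let 𝒞 : Set (Set Y) := {C | IsClosed C ∧ p '' (C ∩ W) = V}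
  have huniv : (Set.univ : Set Y) ∈ 𝒞 := ⟨isClosed_univ, by rw [Set.univ_inter]⟩
  have H : ∀ c ⊆ 𝒞, IsChain (· ⊆ ·) c → c.Nonempty → ∃ lb ∈ 𝒞, ∀ s ∈ c, lb ⊆ s := by
    intro c hcS hc hcne
    refine ⟨⋂₀ c, ⟨isClosed_sInter (fun C hC => (hcS hC).1), ?_⟩, fun s hs => Set.sInter_subset_of_mem hs⟩
    obtain ⟨C₁, hC₁⟩ := hcne
    apply Set.Subset.antisymm
    · rw [← (hcS hC₁).2]
      exact Set.image_mono (Set.inter_subset_inter_left _ (Set.sInter_subset_of_mem hC₁))
    · intro v hv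
      by_contra hcon
      -- every point of the fibre is excluded by some member of the chain
      have hex : ∀ y ∈ p ⁻¹' {v} ∩ W, ∃ C ∈ c, y ∉ C := by
        intro y hy
        by_contra hn
        exact hcon ⟨y, ⟨Set.mem_sInter.2 (fun C hC => by_contra fun h => hn ⟨C, hC, h⟩), hy.2⟩,
          hy.1⟩
      have key : ∀ s : Finset Y, (∀ y ∈ s, ∃ C ∈ c, y ∉ C) → ∃ C ∈ c, ∀ y ∈ s, y ∉ C := by
        intro s
        induction s using Finset.induction_on with
        | empty => intro _; exact ⟨C₁, hC₁, fun y hy => absurd hy (Finset.notMem_empty y)⟩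
        | insert a s ha ih =>
          intro h
          obtain ⟨Cs, hCs, hCs'⟩ := ih (fun y hy => h y (Finset.mem_insert_of_mem hy))
          obtain ⟨Ca, hCa, hCa'⟩ := h a (Finset.mem_insert_self a s)
          rcases hc.total hCs hCa with hle | hle
          · refine ⟨Cs, hCs, fun y hy => ?_⟩
            rcases Finset.mem_insert.1 hy with rfl | hy
            · exact fun hyC => hCa' (hle hyC)
            · exact hCs' y hy
          · refine ⟨Ca, hCa, fun y hy => ?_⟩
            rcases Finset.mem_insert.1 hy with rfl | hy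
            · exact hCa'
            · exact fun hyC => hCs' y hy (hle hyC)
      have hF := hfin v
      obtain ⟨Cstar, hCstar, hCstar'⟩ := key hF.toFinset
        (fun y hy => hex y (hF.mem_toFinset.1 hy))
      have hv' : v ∈ p '' (Cstar ∩ W) := by rw [(hcS hCstar).2]; exact hv
      obtain ⟨y, hy, hyv⟩ := hv'
      exact hCstar' y (hF.mem_toFinset.2 ⟨hyv, hy.2⟩) hy.1
  obtain ⟨C₀, -, hmin⟩ := zorn_superset_nonempty 𝒞 H Set.univ huniv
  have hC₀ : C₀ ∈ 𝒞 := hmin.1
  have hminle : ∀ C ∈ 𝒞, C ⊆ C₀ → C₀ ⊆ C := fun C hC hle => hmin.2 hC hle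
  obtain ⟨v₀, hv₀⟩ := hirr.nonempty
  have hne : (C₀ ∩ W).Nonempty := by
    have : v₀ ∈ p '' (C₀ ∩ W) := by rw [hC₀.2]; exact hv₀
    obtain ⟨y, hy, -⟩ := this
    exact ⟨y, hy⟩
  have hirrC : IsIrreducible C₀ := by
    refine ⟨hne.mono Set.inter_subset_left, ?_⟩
    rw [isPreirreducible_iff_isClosed_union_isClosed]
    intro z₁ z₂ h₁ h₂ hsub
    obtain ⟨E₁, hE₁, hEq₁⟩ := hclV (C₀ ∩ z₁) (hC₀.1.inter h₁)
    obtain ⟨E₂, hE₂, hEq₂⟩ := hclV (C₀ ∩ z₂) (hC₀.1.inter h₂)
    have hVsub : V ⊆ E₁ ∪ E₂ := by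
      intro v hv
      have : v ∈ p '' (C₀ ∩ W) := by rw [hC₀.2]; exact hv
      obtain ⟨y, hy, rfl⟩ := this
      rcases hsub hy.1 with hz | hz
      · left
        have : p y ∈ p '' (C₀ ∩ z₁ ∩ W) := ⟨y, ⟨⟨hy.1, hz⟩, hy.2⟩, rfl⟩
        rw [hEq₁] at this
        exact this.2
      · right
        have : p y ∈ p '' (C₀ ∩ z₂ ∩ W) := ⟨y, ⟨⟨hy.1, hz⟩, hy.2⟩, rfl⟩
        rw [hEq₂] at this
        exact this.2
    rcases (isPreirreducible_iff_isClosed_union_isClosed.1 hirr.isPreirreducible) E₁ E₂ hE₁ hE₂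
      hVsub with h | h
    · left
      have hmem : C₀ ∩ z₁ ∈ 𝒞 := ⟨hC₀.1.inter h₁, by rw [hEq₁, Set.inter_eq_left.2 h]⟩
      exact (hminle _ hmem Set.inter_subset_left).trans Set.inter_subset_right
    · right
      have hmem : C₀ ∩ z₂ ∈ 𝒞 := ⟨hC₀.1.inter h₂, by rw [hEq₂, Set.inter_eq_left.2 h]⟩
      exact (hminle _ hmem Set.inter_subset_left).trans Set.inter_subset_right
  obtain ⟨ζ, hζ⟩ := QuasiSober.sober hirrC hC₀.1
  have hC₀Z : C₀ ⊆ Z := by
    have hmem : C₀ ∩ Z ∈ 𝒞 := by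
      refine ⟨hC₀.1.inter hZ, ?_⟩
      have : C₀ ∩ Z ∩ W = C₀ ∩ W := by
        ext y
        constructor
        · rintro ⟨⟨h1, -⟩, h3⟩; exact ⟨h1, h3⟩
        · rintro ⟨h1, h3⟩; exact ⟨⟨h1, h3.1⟩, h3⟩
      rw [this]; exact hC₀.2
    exact (hminle _ hmem Set.inter_subset_left).trans Set.inter_subset_right
  obtain ⟨y₀, hy₀C, hy₀W⟩ := hne
  have hζO : ζ ∈ O := (hζ.mem_open_set_iff hO).2 ⟨y₀, hy₀C, hy₀W.2⟩
  refine ⟨ζ, ⟨hC₀Z hζ.mem, hζO⟩, ?_⟩
  intro v hv
  have : v ∈ p '' (C₀ ∩ W) := by rw [hC₀.2]; exact hv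
  obtain ⟨y, hy, rfl⟩ := this
  have hy' : y ∈ closure {ζ} := by rw [hζ.def]; exact hy.1
  have := image_closure_subset_closure_image hpc (Set.mem_image_of_mem p hy')
  rwa [Set.image_singleton] at this

end Quot

end Groth.Agent.Lib.SoberTopH7
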