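import Mathlib
import Groth.Agent.Lib.SoberTop_helper7
import Groth.Agent.Lib.DecentNoethQS_helper7
import Groth.Agent.Lib.AlgSpDegStrat_helper4
import Groth.Agent.Lib.AlgSpQfFin_helper7
import Groth.Agent.Lib.AlgSpEtale_helper7

/-!
# The space of points of a decent algebraic space is quasi-sober (helper7)
-/

set_option autoImplicit false
set_option linter.style.haveILetI false
universe u
open CategoryTheory CategoryTheory.Limits AlgebraicGeometry Opposite MorphismProperty TopologicalSpace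
open AlgSp
open Groth.Agent.Lib.AlgSpPoints_helper7 Groth.Agent.Lib.DecentNoethQSH7
  Groth.Agent.Lib.SoberTopH7 Groth.Agent.Lib.DegStratH4 Groth.Agent.Lib.AlgSpDegStratH4
  Groth.Agent.Lib.AlgSpEtale_helper7

namespace Groth.Agent.Lib.DecentSoberH7

variable {S : Scheme.{u}}

section Chart

variable {X : Sp S} {U R : Over S} {a : (yon S).obj U ⟶ X} {s t : R ⟶ U}

theorem isSeparated_snd [IsAffine U.left]
    (sq : IsPullback ((yon S).map s) ((yon S).map t) a a) : IsSeparated t.left := by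
  let m : R.left ⟶ pullback (terminal.from U.left) (terminal.from U.left) :=
    pullback.lift s.left t.left (terminal.hom_ext _ _)
  have hms : m ≫ pullback.fst (terminal.from U.left) (terminal.from U.left) = s.left :=
    pullback.lift_fst _ _ _
  have hmt : m ≫ pullback.snd (terminal.from U.left) (terminal.from U.left) = t.left :=
    pullback.lift_snd _ _ _
  haveI : Mono m := by
    constructor
    intro T a' b' hab
    refine left_hom_ext sq a' b' ?_ ?_
    · rw [← hms, ← Category.assoc, ← Category.assoc, hab]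
    · rw [← hmt, ← Category.assoc, ← Category.assoc, hab]
  haveI : IsAffineHom (terminal.from U.left) := inferInstance
  haveI : IsSeparated (terminal.from U.left) := inferInstance
  have : IsSeparated
      (m ≫ pullback.snd (terminal.from U.left) (terminal.from U.left)) := inferInstance
  rwa [hmt] at this

theorem finite_fibre_snd [IsAffine U.left] (hX : IsDecent X) (hpe : RepWith @Etale a)
    (sq : IsPullback ((yon S).map s) ((yon S).map t) a a) (u : U.left) :
    (t.left ⁻¹' {u}).Finite := by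
  have hc : IsCompact ((⊤ : U.left.Opens) : Set U.left) := by
    rw [Opens.coe_top]; exact isCompact_univ
  refine (finite_fibre_inter hX hpe sq.flip ⊤ hc u).subset ?_
  intro w hw
  exact ⟨hw, trivial⟩

theorem ofPt_fst_eq_snd (sq : IsPullback ((yon S).map s) ((yon S).map t) a a) (w : R.left) :
    Points.ofPt a (s.left w) = Points.ofPt a (t.left w) := by
  rw [← ofPt_comp, ← ofPt_comp, sq.w]

theorem preimage_image_ofPt (sq : IsPullback ((yon S).map s) ((yon S).map t) a a)
    (A : Set U.left) :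
    Points.ofPt a ⁻¹' (Points.ofPt a '' A) = t.left '' (s.left ⁻¹' A) := by
  ext u'
  constructor
  · rintro ⟨u, huA, hu⟩
    obtain ⟨w, hw1, hw2⟩ := exists_ofPt_eq_of_isPullback sq u u' hu
    exact ⟨w, by rw [Set.mem_preimage, hw1]; exact huA, hw2⟩
  · rintro ⟨w, hw, rfl⟩
    exact ⟨s.left w, hw, ofPt_fst_eq_snd sq w⟩

/-- The fibre degree of the second projection is invariant under the equivalence relation. -/
theorem degFun_invariant (hpe : RepWith @Etale a)
    (sq : IsPullback ((yon S).map s) ((yon S).map t) a a)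
    [Flat t.left] [LocallyOfFinitePresentation t.left] [IsSeparated t.left]
    [LocallyQuasiFinite t.left] (hfin : ∀ u : U.left, (t.left ⁻¹' {u}).Finite) (w : R.left) :
    degFun t.left (s.left w) = degFun t.left (t.left w) := by
  let Tw : Over S := Over.mk (R.left.fromSpecResidueField w ≫ R.hom)
  let τ : Tw ⟶ R := Over.homMk (R.left.fromSpecResidueField w) rfl
  have hτ : ∀ z : Tw.left, τ.left z = w := fun z =>
    Scheme.fromSpecResidueField_apply (x := w) (s := z)
  obtain ⟨Q, f1, f2, sqQ⟩ : ∃ (Q : Over S) (f1 : Q ⟶ U) (f2 : Q ⟶ Tw),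
      IsPullback ((yon S).map f1) ((yon S).map f2) a ((yon S).map (τ ≫ s) ≫ a) :=
    ⟨_, _, _, hpe.rep.isPullback' _⟩
  have hg : (yon S).map (τ ≫ s) ≫ a = (yon S).map (τ ≫ t) ≫ a := by
    rw [Functor.map_comp, Functor.map_comp, Category.assoc, Category.assoc, sq.w]
  obtain ⟨l₁, hpb₁⟩ := exists_isPullback_left a sq sqQ (τ ≫ s) rfl
  obtain ⟨l₂, hpb₂⟩ := exists_isPullback_left a sq sqQ (τ ≫ t) hg
  let z₀ : ↥Tw.left := IsLocalRing.closedPoint (R.left.residueField w)
  have h1 := Groth.Agent.Lib.FlatTorsH4.isFinLocFreeOfDeg_of_isPullback t.left hfin l₁.left f2.left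
    (τ ≫ s).left hpb₁ (degFun t.left (s.left w))
    (fun z => congrArg (degFun t.left) (show (τ ≫ s).left z = s.left w from by
      rw [Over.comp_left, Scheme.Hom.comp_apply, hτ]))
  have h2 := Groth.Agent.Lib.FlatTorsH4.isFinLocFreeOfDeg_of_isPullback t.left hfin l₂.left f2.left
    (τ ≫ t).left hpb₂ (degFun t.left (t.left w))
    (fun z => congrArg (degFun t.left) (show (τ ≫ t).left z = t.left w from by
      rw [Over.comp_left, Scheme.Hom.comp_apply, hτ]))
  exact (h1.2 z₀).symm.trans (h2.2 z₀)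

theorem isOpen_le_degFun [Flat t.left] [LocallyOfFinitePresentation t.left] [IsSeparated t.left]
    [LocallyQuasiFinite t.left] (hfin : ∀ u : U.left, (t.left ⁻¹' {u}).Finite) (r : ℕ) :
    IsOpen {u : U.left | r ≤ degFun t.left u} := by
  cases r with
  | zero => simp
  | succ k =>
    have h : {u : U.left | k + 1 ≤ degFun t.left u} = {u : U.left | degFun t.left u ≤ k}ᶜ := by
      ext u
      simp only [Set.mem_setOf_eq, Set.mem_compl_iff, not_le]
      exact Nat.succ_le_iff
    rw [h]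
    exact (isClosed_degFun_le t.left hfin k).isOpen_compl

/-- On a saturated locally closed piece of constant fibre degree the saturation of a closed set
is closed. -/
theorem closed_sat [Flat t.left] [LocallyOfFinitePresentation t.left] [IsSeparated t.left]
    [LocallyQuasiFinite t.left] (hfin : ∀ u : U.left, (t.left ⁻¹' {u}).Finite)
    (Z : Set U.left) (hZ : IsClosed Z) (O : U.left.Opens) (r : ℕ)
    (hdeg : ∀ u, u ∈ Z → u ∈ O → degFun t.left u = r)
    (hinv : ∀ w : R.left, s.left w ∈ Z ∩ (O : Set U.left) ↔ t.left w ∈ Z ∩ (O : Set U.left))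
    (C' : Set U.left) (hC' : IsClosed C') :
    ∃ C'' : Set U.left, IsClosed C'' ∧
      t.left '' (s.left ⁻¹' (C' ∩ (Z ∩ (O : Set U.left)))) = C'' ∩ (Z ∩ (O : Set U.left)) := by
  obtain ⟨I, hI⟩ : ∃ I : U.left.IdealSheafData,
      I = Scheme.IdealSheafData.vanishingIdeal ⟨Z, hZ⟩ := ⟨_, rfl⟩
  have hrangeZ : Set.range I.subschemeι = Z := by
    rw [Scheme.IdealSheafData.range_subschemeι, hI]
    exact Scheme.IdealSheafData.coe_support_vanishingIdeal ⟨Z, hZ⟩
  let Oz : I.subscheme.Opens := I.subschemeι ⁻¹ᵁ O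
  let ι : Oz.toScheme ⟶ U.left := Oz.ι ≫ I.subschemeι
  have hιapp : ∀ x : Oz.toScheme, ι x = I.subschemeι (Oz.ι x) := fun x => rfl
  have hιmem : ∀ x : Oz.toScheme, ι x ∈ Z ∩ (O : Set U.left) := by
    intro x
    refine ⟨?_, ?_⟩
    · rw [← hrangeZ]; exact ⟨Oz.ι x, rfl⟩
    · have hx : Oz.ι x ∈ Oz := by
        have : Oz.ι x ∈ Set.range Oz.ι := ⟨x, rfl⟩
        rw [Scheme.Opens.range_ι] at this
        exact this
      exact hx
  have hιsurj : ∀ u ∈ Z ∩ (O : Set U.left), ∃ x : Oz.toScheme, ι x = u := by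
    rintro u ⟨huZ, huO⟩
    rw [← hrangeZ] at huZ
    obtain ⟨z, rfl⟩ := huZ
    have hz : z ∈ Oz := huO
    have : z ∈ Set.range Oz.ι := by rw [Scheme.Opens.range_ι]; exact hz
    obtain ⟨x, rfl⟩ := this
    exact ⟨x, rfl⟩
  have hιemb : Topology.IsEmbedding ι := ι.isEmbedding
  have hpb := IsPullback.of_hasPullback t.left ι
  have hfinπ := Groth.Agent.Lib.FlatTorsH4.isFinLocFreeOfDeg_of_isPullback t.left hfin
    (pullback.fst t.left ι) (pullback.snd t.left ι) ι hpb r
    (fun x => hdeg (ι x) (hιmem x).1 (hιmem x).2)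
  haveI : IsFinite (pullback.snd t.left ι) := hfinπ.1.1
  have hcond : ∀ y : ↥(pullback t.left ι),
      t.left (pullback.fst t.left ι y) = ι (pullback.snd t.left ι y) := by
    intro y
    have h1 : (pullback.fst t.left ι ≫ t.left) y = (pullback.snd t.left ι ≫ ι) y := by
      rw [pullback.condition]
    exact h1
  have hD : IsClosed ((fun y => s.left (pullback.fst t.left ι y)) ⁻¹' C') :=
    hC'.preimage (s.left.continuous.comp (pullback.fst t.left ι).continuous)
  have hF := (pullback.snd t.left ι).isClosedMap _ hD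
  obtain ⟨C'', hC''cl, hC''eq⟩ := hιemb.isInducing.isClosed_iff.1 hF
  refine ⟨C'', hC''cl, ?_⟩
  apply Set.Subset.antisymm
  · rintro _ ⟨w, ⟨hwC', hwW⟩, rfl⟩
    have htW : t.left w ∈ Z ∩ (O : Set U.left) := (hinv w).1 hwW
    refine ⟨?_, htW⟩
    obtain ⟨x, hx⟩ := hιsurj _ htW
    obtain ⟨y, hy1, hy2⟩ := Scheme.Pullback.exists_preimage_pullback w x hx.symm
    have hxF : x ∈ ι ⁻¹' C'' := by
      rw [hC''eq]
      refine ⟨y, ?_, hy2⟩
      show s.left (pullback.fst t.left ι y) ∈ C'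
      rw [hy1]; exact hwC'
    rw [← hx]
    exact hxF
  · rintro u ⟨huC'', huW⟩
    obtain ⟨x, rfl⟩ := hιsurj u huW
    have hxF : x ∈ ι ⁻¹' C'' := huC''
    rw [hC''eq] at hxF
    obtain ⟨y, hyD, rfl⟩ := hxF
    refine ⟨pullback.fst t.left ι y, ⟨hyD, ?_⟩, hcond y⟩
    rw [hinv, hcond y]
    exact huW

end Chart

/-- Irreducible closed subsets of `|X|` meeting the image of an affine étale chart have generic
points, for `X` decent. -/
theorem exists_generic_of_chart {X : Sp S} (hX : IsDecent X) {U R : Over S} [IsAffine U.left]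
    {a : (yon S).obj U ⟶ X} (hpe : RepWith @Etale a) {s t : R ⟶ U}
    (sq : IsPullback ((yon S).map s) ((yon S).map t) a a) (T : Set (Points X))
    (hT : IsIrreducible T) (hTc : IsClosed T)
    (hmeet : (T ∩ Set.range (Points.ofPt a)).Nonempty) : ∃ x, IsGenericPoint x T := by
  have hpc : Continuous (Points.ofPt a) := Points.continuous_ofPt a
  have hpo : IsOpenMap (Points.ofPt a) := isOpenMap_ofPt_of_etale a hpe
  haveI hte : Etale t.left := hpe.property a ((yon S).map s) t sq
  haveI : LocallyQuasiFinite t.left := locallyQuasiFinite_of_unramified t.left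
  haveI : IsSeparated t.left := isSeparated_snd sq
  have hfin : ∀ u : U.left, (t.left ⁻¹' {u}).Finite := finite_fibre_snd hX hpe sq
  have hdeginv : ∀ u u' : U.left, Points.ofPt a u = Points.ofPt a u' →
      degFun t.left u = degFun t.left u' := by
    intro u u' h
    obtain ⟨w, rfl, rfl⟩ := exists_ofPt_eq_of_isPullback sq u u' h
    exact degFun_invariant hpe sq hfin w
  set Z : Set U.left := Points.ofPt a ⁻¹' T with hZdef
  have hZ : IsClosed Z := hTc.preimage hpc
  have hZne : Z.Nonempty := by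
    obtain ⟨x, hxT, u, rfl⟩ := hmeet
    exact ⟨u, hxT⟩
  -- irreducibility in the form we use
  have hTpre : ∀ G G' : Set (Points X), IsOpen G → IsOpen G' → (T ∩ G).Nonempty →
      (T ∩ G').Nonempty → (T ∩ (G ∩ G')).Nonempty := fun G G' hG hG' h h' =>
    hT.isPreirreducible G G' hG hG' h h'
  -- boundedness of the degree on `Z`
  have hbdd : ∃ r, ∀ u ∈ Z, degFun t.left u ≤ r := by
    by_contra hcon
    push Not at hcon
    have hO : ∀ r : ℕ, IsOpen {u : U.left | r + 1 ≤ degFun t.left u} :=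
      fun r => isOpen_le_degFun hfin (r + 1)
    obtain ⟨u, huZ, hu⟩ := baire_lite (X := ↥U.left) Z hZ hZne
      (fun r => {u : U.left | r + 1 ≤ degFun t.left u}) hO (by
        intro r N hN ⟨n, hnN, hnZ⟩
        obtain ⟨o, hoZ, ho⟩ := hcon r
        obtain ⟨x, hxT, ⟨n', hn'N, hn'⟩, ⟨o', ho', ho'x⟩⟩ := hTpre _ _ (hpo N hN) (hpo _ (hO r))
          ⟨_, hnZ, n, hnN, rfl⟩ ⟨_, hoZ, o, (show r + 1 ≤ degFun t.left o from ho), rfl⟩
        refine ⟨n', ⟨hn'N, ?_⟩, ?_⟩
        · show r + 1 ≤ degFun t.left n'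
          rw [hdeginv n' o' (hn'.trans ho'x.symm)]
          exact ho'
        · show Points.ofPt a n' ∈ T
          rw [hn']; exact hxT)
    rw [Set.mem_iInter] at hu
    have := hu (degFun t.left u)
    exact absurd this (by simp)
  obtain ⟨r₀, hr₀⟩ := hbdd
  have hba : BddAbove (degFun t.left '' Z) := ⟨r₀, by rintro _ ⟨u, hu, rfl⟩; exact hr₀ u hu⟩
  have hmem := Nat.sSup_mem (hZne.image (degFun t.left)) hba
  set r : ℕ := sSup (degFun t.left '' Z) with hr
  obtain ⟨u₀, hu₀Z, hu₀⟩ := hmem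
  have hle : ∀ u ∈ Z, degFun t.left u ≤ r := fun u hu => le_csSup hba ⟨u, hu, rfl⟩
  let O : U.left.Opens := ⟨{u : U.left | r ≤ degFun t.left u}, isOpen_le_degFun hfin r⟩
  have hOmem : ∀ u : U.left, u ∈ O ↔ r ≤ degFun t.left u := fun u => Iff.rfl
  have hdeg : ∀ u, u ∈ Z → u ∈ O → degFun t.left u = r :=
    fun u huZ huO => le_antisymm (hle u huZ) ((hOmem u).1 huO)
  have hinv : ∀ w : R.left, s.left w ∈ Z ∩ (O : Set U.left) ↔ t.left w ∈ Z ∩ (O : Set U.left) := by
    intro w
    have h1 := ofPt_fst_eq_snd sq w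
    have h2 := degFun_invariant hpe sq hfin w
    constructor
    · rintro ⟨hz, ho⟩
      refine ⟨?_, ?_⟩
      · show Points.ofPt a (t.left w) ∈ T
        rw [← h1]; exact hz
      · show r ≤ degFun t.left (t.left w)
        rw [← h2]; exact ho
    · rintro ⟨hz, ho⟩
      refine ⟨?_, ?_⟩
      · show Points.ofPt a (s.left w) ∈ T
        rw [h1]; exact hz
      · show r ≤ degFun t.left (s.left w)
        rw [h2]; exact ho
  have hfinW : ∀ x : Points X, (Points.ofPt a ⁻¹' {x} ∩ (Z ∩ (O : Set U.left))).Finite := by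
    intro x
    rcases (Points.ofPt a ⁻¹' {x}).eq_empty_or_nonempty with he | ⟨u₁, hu₁⟩
    · rw [he, Set.empty_inter]; exact Set.finite_empty
    · refine ((hfin u₁).image (fun w => s.left w)).subset ?_
      rintro u ⟨hu, -⟩
      have h : Points.ofPt a u = Points.ofPt a u₁ := by
        rw [Set.mem_preimage, Set.mem_singleton_iff] at hu hu₁
        rw [hu, hu₁]
      obtain ⟨w, hw1, hw2⟩ := exists_ofPt_eq_of_isPullback sq u u₁ h
      exact ⟨w, hw2, hw1⟩
  have hcl : ∀ C' : Set U.left, IsClosed C' → ∃ C'' : Set U.left, IsClosed C'' ∧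
      Points.ofPt a ⁻¹' (Points.ofPt a '' (C' ∩ (Z ∩ (O : Set U.left)))) =
        C'' ∩ (Z ∩ (O : Set U.left)) := by
    intro C' hC'
    obtain ⟨C'', h1, h2⟩ := closed_sat (s := s) hfin Z hZ O r hdeg hinv C' hC'
    exact ⟨C'', h1, by rw [preimage_image_ofPt sq, h2]⟩
  have himg : Points.ofPt a '' (Z ∩ (O : Set U.left)) = T ∩ Points.ofPt a '' (O : Set U.left) := by
    apply Set.Subset.antisymm
    · rintro _ ⟨u, ⟨huZ, huO⟩, rfl⟩
      exact ⟨huZ, u, huO, rfl⟩
    · rintro _ ⟨hxT, u, huO, rfl⟩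
      exact ⟨u, ⟨hxT, huO⟩, rfl⟩
  have hGo : IsOpen (Points.ofPt a '' (O : Set U.left)) := hpo _ O.isOpen
  have hGne : (T ∩ Points.ofPt a '' (O : Set U.left)).Nonempty :=
    ⟨Points.ofPt a u₀, hu₀Z, u₀, (hOmem u₀).2 (le_of_eq hu₀.symm), rfl⟩
  have hirr : IsIrreducible (Points.ofPt a '' (Z ∩ (O : Set U.left))) := by
    rw [himg]
    refine ⟨hGne, ?_⟩
    intro G G' hG hG' ⟨x, ⟨hxT, hxO⟩, hxG⟩ ⟨x', ⟨hx'T, hx'O⟩, hx'G'⟩
    obtain ⟨y, hyT, ⟨hy1, hy2⟩, ⟨hy3, hy4⟩⟩ := hTpre _ _ (hGo.inter hG) (hGo.inter hG')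
      ⟨x, hxT, hxO, hxG⟩ ⟨x', hx'T, hx'O, hx'G'⟩
    exact ⟨y, ⟨hyT, hy1⟩, hy2, hy4⟩
  obtain ⟨ζ, hζW, hζ⟩ := exists_generic_of_closedQuot (Points.ofPt a) hpc hpo Z (O : Set U.left)
    hZ O.isOpen hfinW hcl hirr
  refine ⟨Points.ofPt a ζ, ?_⟩
  show closure {Points.ofPt a ζ} = T
  apply Set.Subset.antisymm
  · exact closure_minimal (Set.singleton_subset_iff.2 hζW.1) hTc
  · intro x hxT
    have hx : x ∈ closure (T ∩ Points.ofPt a '' (O : Set U.left)) := by
      rw [mem_closure_iff]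
      intro N hN hxN
      obtain ⟨y, hyT, hyN, hyG⟩ := hTpre N _ hN hGo ⟨x, hxT, hxN⟩ hGne
      exact ⟨y, hyN, hyT, hyG⟩
    rw [← himg] at hx
    exact closure_minimal hζ isClosed_closure hx

/-- The space of points of a decent algebraic space is quasi-sober. -/
theorem main10339 (X : AlgSp.Space S) (hX : IsDecent X.obj) : QuasiSober (Points X.obj) := by
  refine ⟨fun {T} hT hTc => ?_⟩
  obtain ⟨x, hxT⟩ := hT.nonempty
  obtain ⟨V, b, v, hVaff, hbe, hbv⟩ :=
    Groth.Agent.Lib.AlgSpQfFinH7.exists_affine_chart X.property x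
  haveI : IsAffine V.left := hVaff
  obtain ⟨R, s, t, sq⟩ : ∃ (R : Over S) (s t : R ⟶ V),
      IsPullback ((yon S).map s) ((yon S).map t) b b := ⟨_, _, _, hbe.rep.isPullback' b⟩
  exact exists_generic_of_chart hX hbe sq T hT hTc ⟨x, hxT, v, hbv⟩

end Groth.Agent.Lib.DecentSoberH7
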