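import Mathlib
import Groth.Agent.Lib.DecentSober_helper7
import Groth.Agent.Lib.AlgSpGeneriz_helper6
import Groth.Agent.Lib.AlgSpFibre_helper6
import Groth.Agent.Lib.AlgSpT0_helper6
import Groth.Agent.Lib.AlgSpQfFin_helper7

/-!
# Generic points of irreducible components of decent spaces (helper7)
-/

set_option autoImplicit false
set_option linter.style.haveILetI false
universe u
open CategoryTheory CategoryTheory.Limits AlgebraicGeometry Opposite MorphismProperty TopologicalSpace
open AlgSp Order
open Groth.Agent.Lib.AlgSpPoints_helper7 Groth.Agent.Lib.DecentSoberH7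
  Groth.Agent.Lib.AlgSpGeneriz_helper6 Groth.Agent.Lib.AlgSpFibre_helper6
  Groth.Agent.Lib.AlgSpT0_helper6

namespace Groth.Agent.Lib.DecentGenericH7

section Top

variable {V Y : Type*} [TopologicalSpace V] [TopologicalSpace Y]

/-- Generizations lift along an open continuous map with finite fibres. -/
theorem exists_specializes_lift_of_finite (q : V → Y) (hqc : Continuous q) (hqo : IsOpenMap q)
    (hfin : ∀ y, (q ⁻¹' {y}).Finite) (v : V) (y' : Y) (h : y' ⤳ q v) :
    ∃ v' : V, v' ⤳ v ∧ q v' = y' := by
  have hv : v ∈ q ⁻¹' closure {y'} := specializes_iff_mem_closure.1 h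
  rw [hqo.preimage_closure_eq_closure_preimage hqc, ← Set.biUnion_of_singleton (q ⁻¹' {y'}),
    (hfin y').closure_biUnion] at hv
  obtain ⟨v', hv', hvv'⟩ := Set.mem_iUnion₂.1 hv
  exact ⟨v', specializes_iff_mem_closure.2 hvv', hv'⟩

/-- An irreducible set is contained in the closure of its intersection with an open set it
meets. -/
theorem subset_closure_inter_of_isPreirreducible {T G : Set Y} (hT : IsPreirreducible T)
    (hG : IsOpen G) (hne : (T ∩ G).Nonempty) : T ⊆ closure (T ∩ G) := by
  intro x hxT
  rw [mem_closure_iff]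
  intro N hN hxN
  obtain ⟨y, hyT, hyN, hyG⟩ := hT N G hN hG ⟨x, hxT, hxN⟩ hne
  exact ⟨y, hyN, hyT, hyG⟩

theorem isPreirreducible_inter_open {T G : Set Y} (hT : IsPreirreducible T) (hG : IsOpen G) :
    IsPreirreducible (T ∩ G) := by
  intro A B hA hB ⟨x, ⟨hxT, hxG⟩, hxA⟩ ⟨x', ⟨hx'T, hx'G⟩, hx'B⟩
  obtain ⟨y, hyT, ⟨hy1, hy2⟩, ⟨hy3, hy4⟩⟩ := hT _ _ (hG.inter hA) (hG.inter hB)
    ⟨x, hxT, hxG, hxA⟩ ⟨x', hx'T, hx'G, hx'B⟩
  exact ⟨y, ⟨hyT, hy1⟩, hy2, hy4⟩

end Top

theorem isMax_iff_stalk_dim_zero {T : Scheme.{u}} (t : T) :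
    IsMax t ↔ ringKrullDim ↥(T.presheaf.stalk t) = 0 := by
  rw [ringKrullDim_stalk_eq_coheight t, ← Order.coheight_eq_zero]
  exact_mod_cast Iff.rfl

variable {S : Scheme.{u}}

/-- A chart point over the generic point of an irreducible component of a decent space is
maximal. -/
theorem isMax_of_generic (X : AlgSp.Space S) (hX : IsDecent X.obj) {U : Over S}
    (a : (yon S).obj U ⟶ X.obj) (ha : RepWith @Etale a) (u : U.left)
    (T : Set (Points X.obj)) (hT : T ∈ irreducibleComponents (Points X.obj))
    (hgen : IsGenericPoint (Points.ofPt a u) T) : IsMax u := by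
  haveI := t0Space_points_of_isDecent X.property hX
  intro u' (h : u' ⤳ u)
  have h1 : Points.ofPt a u' ⤳ Points.ofPt a u := h.map (Points.continuous_ofPt a)
  have h2 : closure {Points.ofPt a u'} ⊆ T :=
    hT.2 isIrreducible_singleton.closure (by rw [← hgen.def]; exact h1.closure_subset)
  have h3 : Points.ofPt a u ⤳ Points.ofPt a u' := by
    rw [specializes_iff_mem_closure, hgen.def]
    exact h2 (subset_closure rfl)
  have he : Points.ofPt a u = Points.ofPt a u' := (h3.antisymm h1).eq
  have := eq_of_specializes_of_isDecent hX a ha u u' he h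
  subst this
  exact le_refl _

/-- The image of a maximal chart point of a decent space is the generic point of an irreducible
component. -/
theorem generic_of_isMax (X : AlgSp.Space S) (hX : IsDecent X.obj) {U : Over S}
    (a : (yon S).obj U ⟶ X.obj) (ha : RepWith @Etale a) (u : U.left) (hu : IsMax u) :
    closure {Points.ofPt a u} ∈ irreducibleComponents (Points X.obj) := by
  haveI := main10339 X hX
  refine ⟨isIrreducible_singleton.closure, fun s hs hsub => ?_⟩
  obtain ⟨ξ, hξ⟩ := QuasiSober.sober hs.closure isClosed_closure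
  have hξx : ξ ⤳ Points.ofPt a u := by
    rw [specializes_iff_mem_closure, hξ.def]
    exact subset_closure (hsub (subset_closure rfl))
  obtain ⟨rξ, hrξ, -, hqc⟩ := hX ξ
  obtain ⟨u', hu'u, hu'⟩ := exists_specializes_lift (Points.ofPt a u) ξ hξx rξ hrξ hqc a ha u rfl
  have h1 : u ⤳ u' := hu (show u ≤ u' from hu'u)
  have h2 : Points.ofPt a u ⤳ ξ := by
    have := h1.map (Points.continuous_ofPt a)
    rwa [hu'] at this
  calc s ⊆ closure s := subset_closure
    _ = closure {ξ} := hξ.def.symm
    _ ⊆ closure {Points.ofPt a u} := h2.closure_subset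

theorem main10394 (X : AlgSp.Space S) (hX : IsDecent X.obj) (x : Points X.obj) :
    (∃ T ∈ irreducibleComponents (Points X.obj), IsGenericPoint x T) ↔
      HasAt (fun U u => ringKrullDim ↥(U.presheaf.stalk u) = 0) X.obj x := by
  constructor
  · rintro ⟨T, hT, hgen⟩
    obtain ⟨V, b, v, -, hbe, hbv⟩ :=
      Groth.Agent.Lib.AlgSpQfFinH7.exists_affine_chart X.property x
    refine ⟨V, b, v, hbe, hbv, ?_⟩
    exact (isMax_iff_stalk_dim_zero v).1
      (isMax_of_generic X hX b hbe v T hT (by rw [hbv]; exact hgen))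
  · rintro ⟨U, a, u, hae, hu, hd⟩
    subst hu
    exact ⟨_, generic_of_isMax X hX a hae u ((isMax_iff_stalk_dim_zero u).2 hd),
      isGenericPoint_closure⟩

theorem main10395 {X Y : AlgSp.Space S} (hX : IsDecent X.obj) (f : Y ⟶ X)
    (hf : IsEtaleMor f.hom) (y : Points Y.obj) :
    (∃ T ∈ irreducibleComponents (Points Y.obj), IsGenericPoint y T) ↔
      (∃ T ∈ irreducibleComponents (Points X.obj),
        IsGenericPoint (Points.map f.hom y) T) := by
  classical
  haveI := t0Space_points_of_isDecent X.property hX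
  obtain ⟨V, q, v, hVaff, hqe, hqv⟩ :=
    Groth.Agent.Lib.AlgSpQfFinH7.exists_affine_chart Y.property y
  haveI : IsAffine V.left := hVaff
  have hge : RepWith @Etale (q ≫ f.hom) := hf q hqe
  have hgv : Points.ofPt (q ≫ f.hom) v = Points.map f.hom y := by
    rw [← hqv]; rfl
  have hg_eq : ∀ v' : V.left, Points.ofPt (q ≫ f.hom) v' = Points.map f.hom (Points.ofPt q v') :=
    fun v' => rfl
  have hfc : Continuous (Points.map f.hom) := Points.continuous_map f.hom
  have hqc : Continuous (Points.ofPt q) := Points.continuous_ofPt q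
  have hqo : IsOpenMap (Points.ofPt q) := isOpenMap_ofPt_of_etale q hqe
  have hgfin : ∀ x : Points X.obj, (Points.ofPt (q ≫ f.hom) ⁻¹' {x}).Finite := by
    intro x
    obtain ⟨p, hp, -, hpq⟩ := hX x
    rw [← hp]
    exact finite_fibre_of_qc_point p hpq (q ≫ f.hom) hge
  have hqfin : ∀ y' : Points Y.obj, (Points.ofPt q ⁻¹' {y'}).Finite := by
    intro y'
    refine (hgfin (Points.map f.hom y')).subset ?_
    intro v' hv'
    rw [Set.mem_preimage, Set.mem_singleton_iff] at hv' ⊢
    rw [hg_eq, hv']
  constructor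
  · rintro ⟨TY, hTY, hgen⟩
    have hv : IsMax v := by
      intro v' (h : v' ⤳ v)
      have h1 : Points.ofPt q v' ⤳ y := by
        have := h.map hqc
        rwa [hqv] at this
      have h2 : closure {Points.ofPt q v'} ⊆ TY :=
        hTY.2 isIrreducible_singleton.closure (by rw [← hgen.def]; exact h1.closure_subset)
      have h3 : y ⤳ Points.ofPt q v' := by
        rw [specializes_iff_mem_closure, hgen.def]
        exact h2 (subset_closure rfl)
      have h4 : Points.ofPt (q ≫ f.hom) v ⤳ Points.ofPt (q ≫ f.hom) v' := by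
        rw [hgv, hg_eq]; exact h3.map hfc
      have h5 : Points.ofPt (q ≫ f.hom) v' ⤳ Points.ofPt (q ≫ f.hom) v :=
        h.map (Points.continuous_ofPt _)
      have he : Points.ofPt (q ≫ f.hom) v = Points.ofPt (q ≫ f.hom) v' := (h4.antisymm h5).eq
      have := eq_of_specializes_of_isDecent hX (q ≫ f.hom) hge v v' he h
      subst this
      exact le_refl _
    refine ⟨_, generic_of_isMax X hX (q ≫ f.hom) hge v hv, ?_⟩
    rw [hgv]
    exact isGenericPoint_closure
  · rintro ⟨TX, hTX, hgen⟩
    have hv : IsMax v :=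
      isMax_of_generic X hX (q ≫ f.hom) hge v TX hTX (by rw [hgv]; exact hgen)
    refine ⟨closure {y}, ⟨isIrreducible_singleton.closure, fun s hs hsub => ?_⟩,
      isGenericPoint_closure⟩
    have hys : y ∈ s := hsub (subset_closure rfl)
    set T : Set (Points Y.obj) := closure s with hTdef
    have hTirr : IsIrreducible T := hs.closure
    have hyT : y ∈ T := subset_closure hys
    -- the image of `T` lies in the component of `x`
    have himg : Points.map f.hom '' T ⊆ closure {Points.map f.hom y} := by
      have h1 : IsIrreducible (closure (Points.map f.hom '' T)) :=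
        (hTirr.image _ hfc.continuousOn).closure
      have h2 : TX ⊆ closure (Points.map f.hom '' T) := by
        rw [← hgen.def]
        exact closure_mono (Set.singleton_subset_iff.2 ⟨y, hyT, rfl⟩)
      have h3 := hTX.2 h1 h2
      rw [hgen.def]
      exact subset_closure.trans h3
    -- cover of `T ∩ range q`
    set Fib : Set V.left := Points.ofPt (q ≫ f.hom) ⁻¹' {Points.map f.hom y} with hFib
    have hFibfin : Fib.Finite := hgfin _
    have hcover : T ∩ Set.range (Points.ofPt q) ⊆
        ⋃₀ ↑(hFibfin.toFinset.image (fun vi => closure {Points.ofPt q vi})) := by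
      rintro _ ⟨hT', a', rfl⟩
      have ha' : a' ∈ Points.ofPt (q ≫ f.hom) ⁻¹' closure {Points.map f.hom y} :=
        himg ⟨_, hT', rfl⟩
      rw [(isOpenMap_ofPt_of_etale _ hge).preimage_closure_eq_closure_preimage
        (Points.continuous_ofPt _), ← Set.biUnion_of_singleton
        (Points.ofPt (q ≫ f.hom) ⁻¹' {Points.map f.hom y}), hFibfin.closure_biUnion] at ha'
      obtain ⟨vi, hvi, hvia⟩ := Set.mem_iUnion₂.1 ha'
      have hspec : vi ⤳ a' := specializes_iff_mem_closure.2 hvia
      refine Set.mem_sUnion.2 ⟨closure {Points.ofPt q vi}, ?_, ?_⟩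
      · rw [Finset.mem_coe, Finset.mem_image]
        exact ⟨vi, hFibfin.mem_toFinset.2 hvi, rfl⟩
      · exact specializes_iff_mem_closure.1 (hspec.map hqc)
    have hTq : IsIrreducible (T ∩ Set.range (Points.ofPt q)) :=
      ⟨⟨y, hyT, v, hqv⟩, isPreirreducible_inter_open hTirr.isPreirreducible hqo.isOpen_range⟩
    obtain ⟨z, hz, hzsub⟩ := (isIrreducible_iff_sUnion_isClosed.1 hTq) _ (by
      intro z hz
      rw [Finset.mem_image] at hz
      obtain ⟨vi, -, rfl⟩ := hz
      exact isClosed_closure) hcover
    rw [Finset.mem_image] at hz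
    obtain ⟨vi, -, rfl⟩ := hz
    have hy_in : y ∈ closure {Points.ofPt q vi} := hzsub ⟨hyT, v, hqv⟩
    have hsp : Points.ofPt q vi ⤳ Points.ofPt q v := by
      rw [hqv]; exact specializes_iff_mem_closure.2 hy_in
    obtain ⟨v', hv'v, hv'⟩ := exists_specializes_lift_of_finite (Points.ofPt q) hqc hqo hqfin v _ hsp
    have h1 : v ⤳ v' := hv (show v ≤ v' from hv'v)
    have h2 : y ⤳ Points.ofPt q vi := by
      have := h1.map hqc
      rwa [hqv, hv'] at this
    calc s ⊆ T := subset_closure
      _ ⊆ closure (T ∩ Set.range (Points.ofPt q)) :=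
        subset_closure_inter_of_isPreirreducible hTirr.isPreirreducible hqo.isOpen_range
          ⟨y, hyT, v, hqv⟩
      _ ⊆ closure {Points.ofPt q vi} := closure_minimal hzsub isClosed_closure
      _ ⊆ closure {y} := h2.closure_subset

end Groth.Agent.Lib.DecentGenericH7
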