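import Mathlib
import Groth.Agent.Lib.DecentSober_helper7
import Groth.Agent.Lib.AlgSpFEtDense_helper6

/-!
# A decent algebraic space has a dense open subscheme (helper7)
-/

set_option autoImplicit false
set_option linter.style.haveILetI false
universe u
open CategoryTheory CategoryTheory.Limits AlgebraicGeometry Opposite MorphismProperty TopologicalSpace
open AlgSp
open Groth.Agent.Lib.AlgSpPoints_helper7 Groth.Agent.Lib.DecentNoethQSH7
  Groth.Agent.Lib.SoberTopH7 Groth.Agent.Lib.DegStratH4 Groth.Agent.Lib.AlgSpDegStratH4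
  Groth.Agent.Lib.AlgSpEtale_helper7 Groth.Agent.Lib.DecentSoberH7
  Groth.Agent.Lib.AlgSpOpenSub_helper7 Groth.Agent.Lib.AlgSpPullback_helper7
  Groth.Agent.Lib.AlgSpIso_helper7 Groth.Agent.Lib.AlgSpBasic_helper7
  Groth.Agent.Lib.UBFSchH6 Groth.Agent.Lib.UBFCompH6 Groth.Agent.Lib.UBFCoverH6
  Groth.Agent.Lib.AlgSpFEtDenseH6

namespace Groth.Agent.Lib.DecentSchLocusH7

variable {S : Scheme.{u}}

/-- The two projections of a represented fibre product are jointly monomorphic on underlying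
schemes. -/
theorem left_hom_ext' {X : Sp S} {U T P : Over S} {a : (yon S).obj U ⟶ X}
    {g : (yon S).obj T ⟶ X} {τ : P ⟶ U} {π : P ⟶ T}
    (sq : IsPullback ((yon S).map τ) ((yon S).map π) a g) {Z : Scheme.{u}}
    (x y : Z ⟶ P.left) (h1 : x ≫ τ.left = y ≫ τ.left) (h2 : x ≫ π.left = y ≫ π.left) :
    x = y := by
  have hb : y ≫ P.hom = x ≫ P.hom := by
    have hw := Over.w τ
    rw [← hw, ← Category.assoc, ← Category.assoc, h1]
  let αx : Over.mk (x ≫ P.hom) ⟶ P := Over.homMk x rfl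
  let αy : Over.mk (x ≫ P.hom) ⟶ P := Over.homMk y hb
  have e1 : αx ≫ τ = αy ≫ τ := Over.OverMorphism.ext h1
  have e2 : αx ≫ π = αy ≫ π := Over.OverMorphism.ext h2
  have e : (yon S).map αx = (yon S).map αy := by
    apply sq.hom_ext
    · rw [← Functor.map_comp, ← Functor.map_comp, e1]
    · rw [← Functor.map_comp, ← Functor.map_comp, e2]
  have := (yon S).map_injective e
  exact congrArg (fun φ => φ.left) this

/-- A morphism from an affine scheme to an algebraic space is separated. -/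
theorem repWith_isSeparated_of_affine {X : Sp S} (hX : IsAlgSpace X) {U : Over S}
    [IsAffine U.left] (a : (yon S).obj U ⟶ X) : RepWith @IsSeparated a := by
  refine ⟨hX.representable_from_yon a, fun T P g fst π sq => ?_⟩
  obtain ⟨τ, rfl⟩ := (yon S).map_surjective fst
  let m : P.left ⟶ pullback (terminal.from U.left) (terminal.from T.left) :=
    pullback.lift τ.left π.left (terminal.hom_ext _ _)
  have hms : m ≫ pullback.fst (terminal.from U.left) (terminal.from T.left) = τ.left :=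
    pullback.lift_fst _ _ _
  have hmt : m ≫ pullback.snd (terminal.from U.left) (terminal.from T.left) = π.left :=
    pullback.lift_snd _ _ _
  haveI : Mono m := by
    constructor
    intro Z x y hxy
    refine left_hom_ext' sq x y ?_ ?_
    · rw [← hms, ← Category.assoc, ← Category.assoc, hxy]
    · rw [← hmt, ← Category.assoc, ← Category.assoc, hxy]
  haveI : IsAffineHom (terminal.from U.left) := inferInstance
  haveI : IsSeparated (terminal.from U.left) := inferInstance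
  have : IsSeparated
      (m ≫ pullback.snd (terminal.from U.left) (terminal.from T.left)) := inferInstance
  rwa [hmt] at this

/-- The local construction: an affine étale chart of a decent space contains (in its image) a
nonempty open subspace which is an affine scheme. -/
theorem exists_affine_open_of_chart {X : Sp S} (hX : IsAlgSpace X) (hd : IsDecent X)
    {V : Over S} [IsAffine V.left] (w : (yon S).obj V ⟶ X) (hwe : RepWith @Etale w)
    (hne : Nonempty ↥V.left)
    {Λ : CommRingCat.{u}} (i : Spec Λ ⟶ S) [Mono i] (h₀ : V.left ⟶ Spec Λ)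
    (hh : h₀ ≫ i = V.hom) :
    ∃ W'' : Set (Points X), IsOpen W'' ∧ W''.Nonempty ∧ W'' ⊆ Set.range (Points.ofPt w) ∧
      ∃ M : Over S, IsAffine M.left ∧ Nonempty ((yon S).obj M ≅ openSub X W'') := by
  classical
  haveI := hne
  obtain ⟨R, s, t, sq⟩ := exists_isPullback_yon (hX.representable_from_yon w) w
  haveI hte : Etale t.left := hwe.property w ((yon S).map s) t sq
  haveI : LocallyQuasiFinite t.left := locallyQuasiFinite_of_unramified t.left
  haveI : IsSeparated t.left := isSeparated_snd sq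
  have hfin : ∀ u : V.left, (t.left ⁻¹' {u}).Finite := finite_fibre_snd hd hwe sq
  have hO : ∀ r : ℕ, IsOpen {u : V.left | r ≤ degFun t.left u} :=
    fun r => isOpen_le_degFun hfin r
  -- a nonempty open on which the degree is bounded
  have hbdd : ∃ N₁ : Set V.left, IsOpen N₁ ∧ N₁.Nonempty ∧
      ∃ r, ∀ u ∈ N₁, degFun t.left u ≤ r := by
    by_contra hcon
    push Not at hcon
    obtain ⟨u, -, hu⟩ := baire_lite (X := ↥V.left) Set.univ isClosed_univ Set.univ_nonempty
      (fun r => {u : V.left | r + 1 ≤ degFun t.left u}) (fun r => hO (r + 1)) (by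
        intro r N hN hNne
        obtain ⟨n, hnN, -⟩ := hNne
        obtain ⟨o, hoN, ho⟩ := hcon N hN ⟨n, hnN⟩ r
        exact ⟨o, ⟨hoN, Nat.succ_le_of_lt ho⟩, trivial⟩)
    have := Set.mem_iInter.1 hu (degFun t.left u)
    exact absurd this (Nat.not_succ_le_self _)
  obtain ⟨N₁, hN₁o, hN₁ne, r₀, hr₀⟩ := hbdd
  have hbd : BddAbove (degFun t.left '' N₁) :=
    ⟨r₀, by rintro _ ⟨u, hu, rfl⟩; exact hr₀ u hu⟩
  obtain ⟨v₁, hv₁N, hv₁⟩ := Nat.sSup_mem (hN₁ne.image _) hbd
  have hmaxD : ∀ u ∈ N₁, degFun t.left u ≤ degFun t.left v₁ := by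
    intro u hu
    rw [hv₁]
    exact le_csSup hbd ⟨u, hu, rfl⟩
  obtain ⟨m, hm⟩ : ∃ m, m = degFun t.left v₁ := ⟨_, rfl⟩
  let N₂ : V.left.Opens := ⟨N₁ ∩ {u | m ≤ degFun t.left u}, hN₁o.inter (hO m)⟩
  have hv₁N₂ : v₁ ∈ N₂ := show v₁ ∈ N₁ ∩ {u | m ≤ degFun t.left u} from ⟨hv₁N, hm.le⟩
  have hN₂ : ∀ u, u ∈ N₂ → degFun t.left u = m := by
    intro u hu
    have hu' : u ∈ N₁ ∩ {u | m ≤ degFun t.left u} := hu
    exact le_antisymm ((hmaxD u hu'.1).trans hm.ge) hu'.2
  obtain ⟨N₀, hN₀aff, hv₁N₀, hN₀sub⟩ := exists_isAffineOpen_mem_and_subset hv₁N₂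
  let NO : Over S := opOver V N₀
  let ι : NO ⟶ V := opι V N₀
  haveI : IsAffine NO.left := hN₀aff
  haveI : IsOpenImmersion ι.left := inferInstanceAs (IsOpenImmersion N₀.ι)
  have hιdeg : ∀ z : ↥NO.left, degFun t.left (ι.left z) = m := fun z => hN₂ _ (hN₀sub z.2)
  obtain ⟨wN, hwN⟩ : ∃ wN, wN = (yon S).map ι ≫ w := ⟨_, rfl⟩
  have hwNe : RepWith @Etale wN := by
    rw [hwN]
    exact repWith_comp _ ((repWith_yon_map_iff @Etale ι).2 inferInstance) hwe
  have hwNpt : ∀ z : ↥NO.left, Points.ofPt wN z = Points.ofPt w (ι.left z) := by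
    intro z
    rw [hwN, ofPt_comp]
  -- the fibre product `N ×_X N` is affine
  obtain ⟨A, a₁, a₂, sqA⟩ : ∃ (A : Over S) (a₁ : A ⟶ R) (a₂ : A ⟶ NO), IsPullback a₁ a₂ t ι :=
    ⟨_, _, _, IsPullback.of_hasPullback t ι⟩
  have sqAL : IsPullback a₁.left a₂.left t.left ι.left := sqA.map (Over.forget S)
  have hflA := Groth.Agent.Lib.FlatTorsH4.isFinLocFreeOfDeg_of_isPullback t.left hfin
    a₁.left a₂.left ι.left sqAL m hιdeg
  haveI : IsFinite a₂.left := hflA.1.1
  haveI : IsAffine A.left := isAffine_of_isAffineHom a₂.left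
  obtain ⟨B, b₁, b₂, sqB⟩ : ∃ (B : Over S) (b₁ : B ⟶ A) (b₂ : B ⟶ NO),
      IsPullback b₁ b₂ (a₁ ≫ s) ι := ⟨_, _, _, IsPullback.of_hasPullback (a₁ ≫ s) ι⟩
  have sqBL : IsPullback b₁.left b₂.left (a₁ ≫ s).left ι.left := sqB.map (Over.forget S)
  haveI : IsAffineHom ι.left := inferInstance
  haveI : IsAffineHom b₁.left :=
    MorphismProperty.of_isPullback (P := @IsAffineHom) sqBL.flip inferInstance
  haveI : IsAffine B.left := isAffine_of_isAffineHom b₁.left
  have sq1 : IsPullback ((yon S).map (a₁ ≫ s)) ((yon S).map a₂) w ((yon S).map ι ≫ w) := by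
    rw [Functor.map_comp]
    exact (sqA.map (yon S)).paste_horiz sq
  obtain ⟨tN, htN⟩ : ∃ tN : B ⟶ NO, tN = b₁ ≫ a₂ := ⟨_, rfl⟩
  have big : IsPullback ((yon S).map b₂) ((yon S).map tN) wN wN := by
    have h := (sqB.map (yon S)).flip.paste_vert sq1
    rw [← Functor.map_comp, ← htN, ← hwN] at h
    exact h
  haveI : Etale tN.left := hwNe.property wN ((yon S).map b₂) tN big
  haveI : LocallyQuasiFinite tN.left := locallyQuasiFinite_of_unramified tN.left
  have hub : W4dec.HasUnivBddFibres ((yon S).map tN) := hasUnivBddFibres_of_affine_lqf tN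
  have hY : IsAlgSpace ((yon S).obj NO) := IsAlgSpace.yon_obj NO
  obtain ⟨n, hn⟩ : W4dec.HasUnivBddFibres wN :=
    Groth.Agent.S10426.result (X := ⟨X, hX⟩) (Y := ⟨(yon S).obj NO, hY⟩)
      (ObjectProperty.homMk wN) (hX.representable_from_yon wN) wN
      ((yon S).map b₂) ((yon S).map tN) big (range_map_yon NO wN).ge hub
  have H : Hyp wN n := ⟨hX.representable_from_yon wN,
    repWith_mono (fun _ _ g (hg : Etale g) => (inferInstance : Flat g)) hwNe,
    repWith_mono (fun _ _ g (hg : Etale g) =>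
      (inferInstance : LocallyOfFinitePresentation g)) hwNe,
    repWith_isSeparated_of_affine hX wN,
    repWith_mono (fun _ _ g (hg : Etale g) => locallyQuasiFinite_of_unramified g) hwNe, hn⟩
  -- a point of maximal degree
  have hne' : (Set.range fun v : ↥NO.left => deg H (Points.ofPt wN v)).Nonempty :=
    ⟨_, ⟨⟨v₁, hv₁N₀⟩, rfl⟩⟩
  have hbdd' : BddAbove (Set.range fun v : ↥NO.left => deg H (Points.ofPt wN v)) :=
    ⟨n, by rintro _ ⟨v, rfl⟩; exact deg_le H _⟩
  obtain ⟨v₀, hv₀⟩ := Nat.sSup_mem hne' hbdd'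
  have hmax : ∀ v : ↥NO.left, deg H (Points.ofPt wN v) ≤ deg H (Points.ofPt wN v₀) := by
    intro v
    have h1 : deg H (Points.ofPt wN v₀) =
        sSup (Set.range fun v : ↥NO.left => deg H (Points.ofPt wN v)) := hv₀
    rw [h1]
    exact le_csSup hbdd' ⟨v, rfl⟩
  obtain ⟨W'', h1, h2, h3, M, hMaff, hM⟩ :=
    exists_affine_open_subspace hX hwNe H i (ι.left ≫ h₀)
      (by rw [Category.assoc, hh]; exact Over.w ι) v₀ hmax
  refine ⟨W'', h1, ⟨_, h2⟩, ?_, M, hMaff, hM⟩
  intro x hx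
  obtain ⟨v, rfl⟩ := h3 hx
  exact ⟨ι.left v, (hwNpt v).symm⟩

/-- The local statement for an affine open of a chart. -/
theorem exists_open_of_affineOpen' {X : Sp S} (hX : IsAlgSpace X) (hd : IsDecent X) {U : Over S}
    (a : (yon S).obj U ⟶ X) (het : RepWith @Etale a)
    (V : U.left.Opens) (hV : IsAffineOpen V) (hne : (V : Set ↥U.left).Nonempty)
    {Λ : CommRingCat.{u}} (i : Spec Λ ⟶ S) [Mono i] (h₀ : (V : Scheme.{u}) ⟶ Spec Λ)
    (hh : h₀ ≫ i = V.ι ≫ U.hom) :
    ∃ W'' : Set (Points X), IsOpen W'' ∧ W''.Nonempty ∧ W'' ⊆ Points.ofPt a '' (V : Set ↥U.left) ∧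
      ∃ M : Over S, Nonempty ((yon S).obj M ≅ openSub X W'') := by
  let VO : Over S := opOver U V
  let j : VO ⟶ U := opι U V
  haveI : IsAffine VO.left := hV
  haveI : IsOpenImmersion j.left := inferInstanceAs (IsOpenImmersion V.ι)
  have hwet : RepWith @Etale ((yon S).map j ≫ a) :=
    repWith_comp _ ((repWith_yon_map_iff @Etale j).2 inferInstance) het
  obtain ⟨v₁, hv₁⟩ := hne
  obtain ⟨W'', h1, h2, h3, M, -, hM⟩ :=
    exists_affine_open_of_chart hX hd ((yon S).map j ≫ a) hwet ⟨⟨v₁, hv₁⟩⟩ i h₀ hh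
  refine ⟨W'', h1, h2, ?_, M, hM⟩
  intro x hx
  obtain ⟨v, rfl⟩ := h3 hx
  exact ⟨j.left v, v.2, (ofPt_comp j a v).symm⟩

/-- **A decent algebraic space has a dense open subscheme.** -/
theorem main10337 (X : Space S) (hd : IsDecent X.obj) :
    ∃ (X' : Space S) (j : X' ⟶ X), RepWith @IsOpenImmersion j.hom ∧
      X'.obj.obj.IsRepresentable ∧ Dense (Set.range (Points.map j.hom)) := by
  have hX := X.property
  obtain ⟨U, a, he, hs⟩ := hX.atlas
  let I : Type u := {V : U.left.Opens // ∃ W'' : Set (Points X.obj), IsOpen W'' ∧ W''.Nonempty ∧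
    W'' ⊆ Points.ofPt a '' (V : Set ↥U.left) ∧
      ∃ M : Over S, Nonempty ((yon S).obj M ≅ openSub X.obj W'')}
  have hI : ∀ k : I, ∃ W'' : Set (Points X.obj), IsOpen W'' ∧ W''.Nonempty ∧
    W'' ⊆ Points.ofPt a '' (k.1 : Set ↥U.left) ∧
      ∃ M : Over S, Nonempty ((yon S).obj M ≅ openSub X.obj W'') := fun k => k.2
  choose W hWopen hWne hWsub M hM using hI
  let 𝒲 : Set (Points X.obj) := ⋃ k, W k
  have h𝒲open : IsOpen 𝒲 := isOpen_iUnion hWopen
  haveI : Mono (openSubι X.obj 𝒲) := mono_openSubι X.obj 𝒲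
  have h𝒲range := range_map_openSubι hX h𝒲open
  refine ⟨⟨openSub X.obj 𝒲, isAlgSpace_openSub hX h𝒲open⟩,
    ObjectProperty.homMk (openSubι X.obj 𝒲), repWith_isOpenImmersion_openSubι h𝒲open, ?_, ?_⟩
  · -- representability by gluing
    have e : ∀ k, (yon S).obj (M k) ≅ openSub X.obj (W k) := fun k => (hM k).some
    have hlift : ∀ k, ∃ f : (yon S).obj (M k) ⟶ openSub X.obj 𝒲,
        f ≫ openSubι X.obj 𝒲 = (e k).hom ≫ openSubι X.obj (W k) := by
      intro k
      refine exists_lift_openSub _ (fun t => ?_)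
      exact Set.mem_iUnion.2 ⟨k, ofPt_comp_openSubι_mem (e k).hom t⟩
    choose f hf' using hlift
    have hfo : ∀ k, RepWith @IsOpenImmersion (f k) := by
      intro k
      apply repWith_of_comp_mono @IsOpenImmersion (f k) (openSubι X.obj 𝒲)
      rw [hf' k]
      exact (MorphismProperty.cancel_left_of_respectsIso (RepWith @IsOpenImmersion) (e k).hom
        (openSubι X.obj (W k))).2 (repWith_isOpenImmersion_openSubι (hWopen k))
    obtain ⟨Y', e', -, -, -, -⟩ := Groth.Agent.Lib.AlgSpGlue4H7.exists_iso_of_openCover_points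
      f hfo (fun x => by
        have hx : Points.map (openSubι X.obj 𝒲) x ∈ 𝒲 := h𝒲range.subset ⟨x, rfl⟩
        obtain ⟨k, hk⟩ := Set.mem_iUnion.1 hx
        obtain ⟨xk, hxk⟩ := (range_map_openSubι hX (hWopen k)).ge hk
        refine ⟨k, Points.map (e k).inv xk, ?_⟩
        apply map_injective_of_mono (openSubι X.obj 𝒲)
        rw [← Points.map_comp, ← Points.map_comp, hf' k, ← Category.assoc, Iso.inv_hom_id,
          Category.id_comp, hxk])
    exact ⟨⟨Y', ⟨AlgSp.representableByOfIso e'⟩⟩⟩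
  · -- density
    change Dense (Set.range (Points.map (openSubι X.obj 𝒲)))
    rw [h𝒲range, dense_iff_inter_open]
    intro N hN hNne
    obtain ⟨x, hx⟩ := hNne
    obtain ⟨u, rfl⟩ := ofPt_surjective a hs x
    let N' : U.left.Opens := ⟨Points.ofPt a ⁻¹' N, Points.isOpen_iff.1 hN U a⟩
    obtain ⟨Ws, hWs, hsWs, -⟩ := exists_isAffineOpen_mem_and_subset
      (x := U.hom u) (U := (⊤ : S.Opens)) trivial
    have huN : u ∈ N' ⊓ U.hom ⁻¹ᵁ Ws := ⟨hx, hsWs⟩
    obtain ⟨V, hV, huV, hVsub⟩ := exists_isAffineOpen_mem_and_subset huN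
    have hrange : Set.range (V.ι ≫ U.hom) ⊆ Set.range hWs.fromSpec := by
      rw [hWs.range_fromSpec]
      rintro _ ⟨v, rfl⟩
      exact (hVsub v.2).2
    let h₀ : (V : Scheme.{u}) ⟶ Spec Γ(S, Ws) := IsOpenImmersion.lift hWs.fromSpec (V.ι ≫ U.hom) hrange
    have hh : h₀ ≫ hWs.fromSpec = V.ι ≫ U.hom := IsOpenImmersion.lift_fac _ _ _
    obtain ⟨W'', h1, h2, h3, h4⟩ := exists_open_of_affineOpen' hX hd a he V hV ⟨u, huV⟩
      hWs.fromSpec h₀ hh
    let k : I := ⟨V, W'', h1, h2, h3, h4⟩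
    obtain ⟨y, hy⟩ := hWne k
    obtain ⟨v, hv, rfl⟩ := hWsub k hy
    exact ⟨_, (hVsub hv).1, Set.mem_iUnion.2 ⟨k, hy⟩⟩

end Groth.Agent.Lib.DecentSchLocusH7
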