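import Groth.Agent.Lib.FieldQuot2_helper6
import Groth.Agent.Lib.AlgSpDecent4_helper6
import Groth.Agent.Lib.AlgSpQC2_helper7

/-!
# Monomorphic points from étale charts (helper6)

* `isOpenImmersion_of_mono_of_etale_field`: a monomorphism into a scheme étale over a field is an
  open immersion.
* `etale_fst_of_isPullback_points`: `Spec κ(u) ×_X T₂ ⟶ Spec κ(u)` is étale for `u` a point of an
  étale chart and `T₂ ⟶ U` a monomorphism.
* `exists_mono_point`: a point of an étale chart whose "stabiliser" `u ×_X u'` is quasi-compact is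
  represented by a monomorphism from the spectrum of a field.
* `exists_qc_mono_point`: a quasi-compact field point has a quasi-compact monomorphic
  representative.
-/

set_option autoImplicit false
universe u
open CategoryTheory CategoryTheory.Limits AlgebraicGeometry Opposite TensorProduct

namespace Groth.Agent.Lib.FieldQuot3H6

open AlgSp Groth.Agent.Lib.FieldQuot2H6 Groth.Agent.Lib.AlgSpPoints_helper7
  Groth.Agent.Lib.AlgSpQC_helper7 Groth.Agent.Lib.AlgSpQC2_helper7
  Groth.Agent.Lib.AlgSpPullback_helper7 Groth.Agent.Lib.AlgSpDecent4_helper6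
  Groth.Agent.Lib.AlgSpField_helper7

variable {S : Scheme.{u}}

/-- A monomorphism into a scheme étale over a field is an open immersion. -/
theorem isOpenImmersion_of_mono_of_etale_field (K : Type u) [Field K] {F G : Scheme.{u}}
    (ψ : F ⟶ Spec (CommRingCat.of K)) [Etale ψ] (m : G ⟶ F) [Mono m] : IsOpenImmersion m := by
  haveI : ∀ f : F, IsOpenImmersion (F.fromSpecResidueField f) :=
    Groth.Agent.Lib.EtaleFieldH4.isOpenImmersion_fromSpecResidueField K ψ
  refine IsZariskiLocalAtTarget.of_iSup_eq_top (P := @IsOpenImmersion)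
    (fun f : F => (F.fromSpecResidueField f).opensRange) ?_ (fun f => ?_)
  · rw [eq_top_iff]
    intro x _
    rw [TopologicalSpace.Opens.mem_iSup]
    exact ⟨x, ⟨IsLocalRing.closedPoint _, Scheme.fromSpecResidueField_apply x _⟩⟩
  · have hmono : Mono (m ∣_ (F.fromSpecResidueField f).opensRange) := by
      refine ⟨fun {Z} a b hab => ?_⟩
      have h1 : (a ≫ (m ⁻¹ᵁ (F.fromSpecResidueField f).opensRange).ι) ≫ m =
          (b ≫ (m ⁻¹ᵁ (F.fromSpecResidueField f).opensRange).ι) ≫ m := by
        rw [Category.assoc, Category.assoc, ← morphismRestrict_ι, ← Category.assoc,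
          ← Category.assoc, hab]
      exact (cancel_mono _).1 ((cancel_mono m).1 h1)
    by_cases hne : Nonempty ↥(Scheme.Opens.toScheme (m ⁻¹ᵁ (F.fromSpecResidueField f).opensRange))
    · let e := (F.fromSpecResidueField f).isoOpensRange
      let k : (m ⁻¹ᵁ (F.fromSpecResidueField f).opensRange : Scheme.{u}) ⟶
          Spec (CommRingCat.of ↑(F.residueField f)) :=
        (m ∣_ (F.fromSpecResidueField f).opensRange) ≫ e.inv
      haveI : Mono k := mono_comp _ _
      haveI : IsIso k := isIso_of_mono_of_nonempty_of_field k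
      haveI : IsIso ((m ∣_ (F.fromSpecResidueField f).opensRange) ≫ e.inv) := ‹IsIso k›
      haveI : IsIso (m ∣_ (F.fromSpecResidueField f).opensRange) :=
        IsIso.of_isIso_comp_right _ e.inv
      infer_instance
    · haveI : IsEmpty ↥(Scheme.Opens.toScheme (m ⁻¹ᵁ (F.fromSpecResidueField f).opensRange)) :=
        not_nonempty_iff.1 hne
      infer_instance

/-- For a point of an étale chart, `Spec K₁ ×_X T₂ ⟶ Spec K₁` is étale whenever `T₂ ⟶ U` is a
monomorphism. -/
theorem etale_fst_of_isPullback_points {X : Sp S} {U : Over S} (φ : (yon S).obj U ⟶ X)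
    (hφ : RepWith @Etale φ) {K₁ : Type u} [Field K₁] (str₁ : Spec (CommRingCat.of K₁) ⟶ S)
    (ι₁ : Over.mk str₁ ⟶ U) {T₂ : Over S} (ι₂ : T₂ ⟶ U) [Mono ι₂] {G : Over S}
    (a : G ⟶ Over.mk str₁) (b : G ⟶ T₂)
    (sq : IsPullback ((yon S).map a) ((yon S).map b) ((yon S).map ι₁ ≫ φ)
      ((yon S).map ι₂ ≫ φ)) : Etale a.left := by
  have sqF := hφ.rep.isPullback' ((yon S).map ι₁ ≫ φ)
  haveI hpr : Etale (hφ.rep.snd ((yon S).map ι₁ ≫ φ)).left :=
    hφ.property_snd ((yon S).map ι₁ ≫ φ)
  have hw : (yon S).map (b ≫ ι₂) ≫ φ = (yon S).map a ≫ (yon S).map ι₁ ≫ φ := by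
    rw [Functor.map_comp, Category.assoc]
    exact sq.w.symm
  obtain ⟨π, hπ⟩ := (yon S).map_surjective (sqF.lift _ _ hw)
  have hπ1 : π ≫ hφ.rep.fst' ((yon S).map ι₁ ≫ φ) = b ≫ ι₂ :=
    (yon S).map_injective (by rw [Functor.map_comp, hπ, sqF.lift_fst])
  have hπ2 : π ≫ hφ.rep.snd ((yon S).map ι₁ ≫ φ) = a :=
    (yon S).map_injective (by rw [Functor.map_comp, hπ, sqF.lift_snd])
  haveI : Mono π := by
    refine ⟨fun {Z} x y hxy => ?_⟩
    apply (yon S).map_injective
    apply sq.hom_ext
    · rw [← Functor.map_comp, ← Functor.map_comp, ← hπ2, ← Category.assoc, ← Category.assoc, hxy]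
    · have h3 : (x ≫ b) ≫ ι₂ = (y ≫ b) ≫ ι₂ := by
        rw [Category.assoc, Category.assoc, ← hπ1, ← Category.assoc, ← Category.assoc, hxy]
      rw [← Functor.map_comp, ← Functor.map_comp, (cancel_mono ι₂).1 h3]
  haveI : Mono π.left := inferInstance
  haveI : IsOpenImmersion π.left := isOpenImmersion_of_mono_of_etale_field K₁
    ((hφ.rep.snd ((yon S).map ι₁ ≫ φ)).left : _ ⟶ Spec (CommRingCat.of K₁)) π.left
  rw [← hπ2]
  show Etale (π.left ≫ (hφ.rep.snd ((yon S).map ι₁ ≫ φ)).left)
  infer_instance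

/-- The kernel pair of a point of a fibre product `T₁ ×_X T₂` that is étale and quasi-compact
over both factors. -/
theorem exists_kernelPair_of_point {X : Sp S} {T₁ T₂ G W : Over S} (q₁ : (yon S).obj T₁ ⟶ X)
    (q₂ : (yon S).obj T₂ ⟶ X) (a : G ⟶ T₁) (b : G ⟶ T₂)
    (sq : IsPullback ((yon S).map a) ((yon S).map b) q₁ q₂)
    (hae : Etale a.left) (haq : QuasiCompact a.left) (r : W ⟶ G) (hbe : Etale (r ≫ b).left)
    (hbq : QuasiCompact (r ≫ b).left) :
    ∃ (R : Over S) (a' b' : R ⟶ W),
      IsPullback ((yon S).map a') ((yon S).map b') ((yon S).map (r ≫ a) ≫ q₁)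
        ((yon S).map (r ≫ a) ≫ q₁) ∧ Etale a'.left ∧ QuasiCompact a'.left := by
  have sq1 : IsPullback (pullback.fst (r ≫ a) a) (pullback.snd (r ≫ a) a) (r ≫ a) a :=
    IsPullback.of_hasPullback _ _
  have sq2 : IsPullback (pullback.fst (pullback.snd (r ≫ a) a ≫ b) (r ≫ b))
      (pullback.snd (pullback.snd (r ≫ a) a ≫ b) (r ≫ b)) (pullback.snd (r ≫ a) a ≫ b) (r ≫ b) :=
    IsPullback.of_hasPullback _ _
  have sqP₁ : IsPullback ((yon S).map (pullback.fst (r ≫ a) a))
      ((yon S).map (pullback.snd (r ≫ a) a) ≫ (yon S).map b) ((yon S).map (r ≫ a) ≫ q₁) q₂ :=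
    ((sq1.map (yon S)).flip.paste_horiz sq.flip).flip
  have e1 : (yon S).map (pullback.snd (r ≫ a) a ≫ b) =
      (yon S).map (pullback.snd (r ≫ a) a) ≫ (yon S).map b := Functor.map_comp _ _ _
  have s2 := sq2.map (yon S)
  rw [e1] at s2
  have sqK := s2.paste_horiz sqP₁
  have hq : (yon S).map (r ≫ b) ≫ q₂ = (yon S).map (r ≫ a) ≫ q₁ := by
    rw [Functor.map_comp, Functor.map_comp, Category.assoc, Category.assoc, sq.w]
  rw [hq, ← Functor.map_comp] at sqK
  refine ⟨_, _, _, sqK, ?_, ?_⟩
  · haveI h1 : Etale (pullback.fst (r ≫ a) a).left :=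
      MorphismProperty.of_isPullback (P := @Etale) (sq1.map (Over.forget S)).flip hae
    haveI h2 : Etale (pullback.fst (pullback.snd (r ≫ a) a ≫ b) (r ≫ b)).left :=
      MorphismProperty.of_isPullback (P := @Etale) (sq2.map (Over.forget S)).flip hbe
    show Etale ((pullback.fst (pullback.snd (r ≫ a) a ≫ b) (r ≫ b)).left ≫
      (pullback.fst (r ≫ a) a).left)
    infer_instance
  · haveI h1 : QuasiCompact (pullback.fst (r ≫ a) a).left :=
      MorphismProperty.of_isPullback (P := @QuasiCompact) (sq1.map (Over.forget S)).flip haq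
    haveI h2 : QuasiCompact (pullback.fst (pullback.snd (r ≫ a) a ≫ b) (r ≫ b)).left :=
      MorphismProperty.of_isPullback (P := @QuasiCompact) (sq2.map (Over.forget S)).flip hbq
    show QuasiCompact ((pullback.fst (pullback.snd (r ≫ a) a ≫ b) (r ≫ b)).left ≫
      (pullback.fst (r ≫ a) a).left)
    infer_instance

lemma subsingleton_spec_field (K : Type u) [Field K] :
    Subsingleton ↥(Spec (CommRingCat.of K)) := by
  change Subsingleton (PrimeSpectrum K); infer_instance

lemma nonempty_spec_field (K : Type u) [Field K] : Nonempty ↥(Spec (CommRingCat.of K)) := by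
  change Nonempty (PrimeSpectrum K); infer_instance

/-- Quasi-compactness of field points only depends on the class of the point. -/
theorem repWith_quasiCompact_of_rel {X : Sp S} (hX : IsAlgSpace X) (p q : FieldPt X)
    (h : Points.mk p = Points.mk q) (hq : RepWith @QuasiCompact q.toHom) :
    RepWith @QuasiCompact p.toHom := by
  obtain ⟨Ω, _, w, α, β, hαβ⟩ := (rel_iff p q).1 (Points.mk_eq_mk_iff.1 h)
  haveI := subsingleton_spec_field Ω
  have h1 : RepWith @QuasiCompact ((yon S).map β ≫ q.toHom) :=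
    repWith_comp _ ((repWith_yon_map_iff _ _).2 (quasiCompact_of_subsingleton
      (X := Spec (CommRingCat.of Ω)) β.left)) hq
  rw [← hαβ] at h1
  have h2 := isQuasiCompactMor_of_repWith _ h1
  have hs : Surjective α.left := by
    constructor
    intro y
    obtain ⟨z⟩ := nonempty_spec_field Ω
    exact ⟨z, @Subsingleton.elim _ (subsingleton_spec_field p.K) _ _⟩
  have h3 : IsQuasiCompactMor p.toHom :=
    isQuasiCompactMor_of_comp_surjective (IsAlgSpace.yon_obj _) hX.diag _ p.toHom
      (isSurjectiveMor_of_repWith _ ((repWith_yon_map_iff _ _).2 hs)) h2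
  exact repWith_quasiCompact_of_isQuasiCompactMor _ (hX.representable_from_yon _) h3

/-- Field points of a quasi-separated algebraic space are quasi-compact. -/
theorem repWith_quasiCompact_fieldPt_of_isQuasiSeparatedSp {X : Sp S} (hX : IsAlgSpace X)
    (hqs : IsQuasiSeparatedSp X) (p : FieldPt X) : RepWith @QuasiCompact p.toHom := by
  apply repWith_quasiCompact_of_isQuasiCompactMor _ (hX.representable_from_yon _)
  apply isQuasiCompactMor_of_comp_of_isQuasiSeparatedMor p.toHom (terminal.from X) _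
    (isQuasiSeparatedMor_terminal_from hqs)
  rw [terminal.comp_from]
  apply isQuasiCompactMor_of_repWith
  rw [repWith_terminal_from_yon_iff]
  haveI := subsingleton_spec_field p.K
  exact quasiCompact_of_subsingleton (X := Spec (CommRingCat.of p.K)) p.str

/-- A point of an étale chart whose stabiliser `u ×_X u'` is quasi-compact is represented by a
monomorphism from the spectrum of a field. -/
theorem exists_mono_point {X : Sp S} (hX : IsAlgSpace X) {U : Over S} (φ : (yon S).obj U ⟶ X)
    (hφ : RepWith @Etale φ) (u u' : ↥U.left) (he : Points.ofPt φ u = Points.ofPt φ u')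
    {G : Over S} (a : G ⟶ (FieldPt.ofPt φ u).pt) (b : G ⟶ (FieldPt.ofPt φ u').pt)
    (sq : IsPullback ((yon S).map a) ((yon S).map b) (FieldPt.ofPt φ u).toHom
      (FieldPt.ofPt φ u').toHom) (hc : CompactSpace ↥G.left) :
    ∃ p : FieldPt X, Points.mk p = Points.ofPt φ u ∧ Mono p.toHom ∧
      (RepWith @QuasiCompact (FieldPt.ofPt φ u).toHom → RepWith @QuasiCompact p.toHom) := by
  let ι₁ : (FieldPt.ofPt φ u).pt ⟶ U := Over.homMk (U.left.fromSpecResidueField u) rfl
  let ι₂ : (FieldPt.ofPt φ u').pt ⟶ U := Over.homMk (U.left.fromSpecResidueField u') rfl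
  have hq₁ : (FieldPt.ofPt φ u).toHom = (yon S).map ι₁ ≫ φ := FieldPt.toHom_ofPt φ u
  have hq₂ : (FieldPt.ofPt φ u').toHom = (yon S).map ι₂ ≫ φ := FieldPt.toHom_ofPt φ u'
  haveI hm1 : Mono ι₁ := by
    have h1 : Mono ι₁.left := by
      change Mono (U.left.fromSpecResidueField u)
      infer_instance
    exact (Over.forget S).mono_of_mono_map h1
  haveI hm2 : Mono ι₂ := by
    have h1 : Mono ι₂.left := by
      change Mono (U.left.fromSpecResidueField u')
      infer_instance
    exact (Over.forget S).mono_of_mono_map h1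
  have sq' : IsPullback ((yon S).map a) ((yon S).map b) ((yon S).map ι₁ ≫ φ)
      ((yon S).map ι₂ ≫ φ) := by
    rw [← hq₁, ← hq₂]; exact sq
  haveI hae : Etale a.left :=
    etale_fst_of_isPullback_points φ hφ (FieldPt.ofPt φ u).str ι₁ ι₂ a b sq'
  haveI hbe : Etale b.left :=
    etale_fst_of_isPullback_points φ hφ (FieldPt.ofPt φ u').str ι₂ ι₁ b a sq'.flip
  haveI : QuasiSeparatedSpace ↥(FieldPt.ofPt φ u).pt.left :=
    inferInstanceAs (QuasiSeparatedSpace ↥(Spec (CommRingCat.of (FieldPt.ofPt φ u).K)))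
  have haq : QuasiCompact a.left := inferInstance
  -- `G` is nonempty
  obtain ⟨Ω₀, _, w, α, β, hαβ⟩ := (rel_iff _ _).1 (Points.mk_eq_mk_iff.1 he)
  obtain ⟨ℓ, -⟩ := (yon S).map_surjective (sq.lift _ _ hαβ)
  obtain ⟨z₀⟩ := nonempty_spec_field Ω₀
  let g₀ : ↥G.left := ℓ.left z₀
  haveI : IsOpenImmersion (G.left.fromSpecResidueField g₀) :=
    Groth.Agent.Lib.EtaleFieldH4.isOpenImmersion_fromSpecResidueField (FieldPt.ofPt φ u).K
      (a.left : G.left ⟶ Spec (CommRingCat.of (FieldPt.ofPt φ u).K)) g₀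
  let r : Over.mk (G.left.fromSpecResidueField g₀ ≫ G.hom) ⟶ G :=
    Over.homMk (G.left.fromSpecResidueField g₀) rfl
  haveI hsW : Subsingleton ↥(Spec (G.left.residueField g₀)) := by
    change Subsingleton (PrimeSpectrum _); infer_instance
  have hbe' : Etale (r ≫ b).left := by
    show Etale (G.left.fromSpecResidueField g₀ ≫ b.left)
    infer_instance
  have hbq' : QuasiCompact (r ≫ b).left :=
    quasiCompact_of_subsingleton (X := Spec (G.left.residueField g₀)) _
  obtain ⟨R, a', b', sqK, hae', haq'⟩ := exists_kernelPair_of_point (FieldPt.ofPt φ u).toHom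
    (FieldPt.ofPt φ u').toHom a b sq hae haq r hbe' hbq'
  obtain ⟨K', hK', str', c₀, q', hfac, hmono, -, hsurj, -⟩ :=
    main (K := ↥(G.left.residueField g₀)) (G.left.fromSpecResidueField g₀ ≫ G.hom)
      ((yon S).map (r ≫ a) ≫ (FieldPt.ofPt φ u).toHom) a' b' sqK hae' haq'
  letI := hK'
  let p : FieldPt X := ⟨K', str', (J S).uliftYonedaEquiv q'⟩
  have hp : p.toHom = q' := (J S).uliftYonedaEquiv.symm_apply_apply q'
  refine ⟨p, ?_, by rw [hp]; exact hmono, fun hq1 => ?_⟩
  · obtain ⟨w₀⟩ : Nonempty ↥(Spec (G.left.residueField g₀)) := by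
      change Nonempty (PrimeSpectrum _); infer_instance
    have h3 : Points.ofPt q' (c₀.left w₀) = Points.mk p := by
      have := Points.ofPt_toHom p (c₀.left w₀)
      rwa [hp] at this
    have h4 : Points.ofPt ((yon S).map c₀ ≫ q') w₀ = Points.ofPt q' (c₀.left w₀) :=
      ofPt_comp c₀ q' w₀
    have h5 : Points.ofPt ((yon S).map (r ≫ a) ≫ (FieldPt.ofPt φ u).toHom) w₀ =
        Points.ofPt (FieldPt.ofPt φ u).toHom ((r ≫ a).left w₀) :=
      ofPt_comp (r ≫ a) _ w₀
    rw [← h3, ← h4, hfac, h5, Points.ofPt_toHom]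
    rfl
  · have h1 : RepWith @QuasiCompact ((yon S).map (r ≫ a) ≫ (FieldPt.ofPt φ u).toHom) :=
      repWith_comp _ ((repWith_yon_map_iff _ _).2 (quasiCompact_of_subsingleton
        (X := Spec (G.left.residueField g₀)) (r ≫ a).left)) hq1
    rw [← hfac] at h1
    have h2 := isQuasiCompactMor_of_repWith _ h1
    have h3 : IsQuasiCompactMor q' :=
      isQuasiCompactMor_of_comp_surjective (IsAlgSpace.yon_obj _) hX.diag _ q'
        (isSurjectiveMor_of_repWith _ ((repWith_yon_map_iff _ _).2 hsurj)) h2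
    rw [hp]
    exact repWith_quasiCompact_of_isQuasiCompactMor q' (hX.representable_from_yon q') h3

/-- A quasi-compact field point has a quasi-compact monomorphic representative. -/
theorem exists_qc_mono_point {X : Sp S} (hX : IsAlgSpace X) (q : FieldPt X)
    (hq : RepWith @QuasiCompact q.toHom) :
    ∃ p : FieldPt X, Points.mk p = Points.mk q ∧ Mono p.toHom ∧
      RepWith @QuasiCompact p.toHom := by
  obtain ⟨U, φ, hφe, hφs⟩ := hX.atlas
  obtain ⟨u, hu⟩ := ofPt_surjective φ hφs (Points.mk q)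
  have hq₁ : RepWith @QuasiCompact (FieldPt.ofPt φ u).toHom :=
    repWith_quasiCompact_of_rel hX _ q hu hq
  have hrep := hX.representable_from_yon (FieldPt.ofPt φ u).toHom
  have sq := hrep.isPullback' (FieldPt.ofPt φ u).toHom
  haveI hqc : QuasiCompact (hrep.fst' (FieldPt.ofPt φ u).toHom).left :=
    hq₁.property _ _ _ sq.flip
  haveI : CompactSpace ↥(FieldPt.ofPt φ u).pt.left :=
    inferInstanceAs (CompactSpace ↥(Spec (CommRingCat.of (FieldPt.ofPt φ u).K)))
  have hc : CompactSpace ↥(hrep.pullback (FieldPt.ofPt φ u).toHom).left :=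
    QuasiCompact.compactSpace_of_compactSpace (hrep.fst' (FieldPt.ofPt φ u).toHom).left
  obtain ⟨p, hp1, hp2, hp3⟩ := exists_mono_point hX φ hφe u u rfl _ _ sq hc
  exact ⟨p, hp1.trans hu, hp2, hp3 hq₁⟩

end Groth.Agent.Lib.FieldQuot3H6
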