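import Mathlib
import Groth.Agent.Lib.DecentSchLocus_helper7
import Groth.Agent.Lib.DecentSober_helper7
import Groth.Agent.Lib.FieldQuot4_helper6
import Groth.Agent.Lib.FieldQuot3_helper6
import Groth.Agent.Lib.AlgSpFibre_helper6
import Groth.Agent.Lib.AlgSpGeneriz_helper6
import Groth.Agent.Lib.AlgSpDecent3_helper6
import Groth.Agent.Lib.DegStrat_helper4

/-!
# Decent spaces with finitely many irreducible components (helper7)

An algebraic space is decent with finitely many irreducible components iff it has a dense open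
subscheme with finitely many irreducible components whose generic points are quasi-compact.
-/

set_option autoImplicit false
set_option linter.style.haveILetI false
universe u
open CategoryTheory CategoryTheory.Limits AlgebraicGeometry Opposite TopologicalSpace

namespace Groth.Agent.Lib.DecentIrredH7

open AlgSp Groth.Agent.Lib.AlgSpPoints_helper7 Groth.Agent.Lib.AlgSpOpenSub_helper7
  Groth.Agent.Lib.AlgSpEtale_helper7
  Groth.Agent.Lib.WeightH4 Groth.Agent.Lib.LocDegH4 Groth.Agent.Lib.DegStratH4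

section SchemeLemma

/-- Semicontinuity of the fibre degree of an étale separated morphism, in the form of a bound
on finite subsets of the special fibre by the weighted degree of a finite generic fibre. -/
theorem card_le_of_specializes {R U : Scheme.{u}} [QuasiSeparatedSpace ↥U] (f : R ⟶ U) [Etale f]
    [IsSeparated f] {η u : ↥U} (h : η ⤳ u) (hη : (f ⁻¹' {η}).Finite) (A : Finset ↥R)
    (hA : (↑A : Set ↥R) ⊆ f ⁻¹' {u}) :
    (A.card : ℤ) ≤ ∑ p ∈ hη.toFinset, wCan f p * (sepDeg f p : ℤ) := by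
  haveI : LocallyQuasiFinite f := locallyQuasiFinite_of_unramified f
  have hG1 : ∀ p : ↥R, 1 ≤ wCan f p * (sepDeg f p : ℤ) := fun p => by
    have h1 : 0 < wCan f p := wCan_pos f p
    have h2 : (1 : ℤ) ≤ (sepDeg f p : ℤ) := by exact_mod_cast sepDeg_pos f p
    nlinarith
  have hV : ∀ p : ↥R, ∃ V : R.Opens, IsAffineOpen V ∧ p ∈ V := fun p => by
    obtain ⟨V, hV, hpV, -⟩ :=
      exists_isAffineOpen_mem_and_subset (x := p) (U := (⊤ : R.Opens)) trivial
    exact ⟨V, hV, hpV⟩
  choose V hVaff hpV using hV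
  obtain ⟨T, hT⟩ : ∃ T : R.Opens, T = ⨆ p ∈ A, V p := ⟨_, rfl⟩
  have hTc : IsCompact (T : Set ↥R) := by
    have : (T : Set ↥R) = ⋃ p ∈ A, (V p : Set ↥R) := by rw [hT]; simp
    rw [this]
    exact A.finite_toSet.isCompact_biUnion fun p _ => (hVaff p).isCompact
  have hAT : ∀ p ∈ A, p ∈ T := fun p hp => by
    rw [hT]
    simp only [Opens.mem_iSup]
    exact ⟨p, hp, hpV p⟩
  haveI : CompactSpace ↥(T : Scheme.{u}) := isCompact_iff_compactSpace.1 hTc
  haveI : QuasiCompact (T.ι ≫ f) := inferInstance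
  haveI : LocallyQuasiFinite (T.ι ≫ f) := locallyQuasiFinite_of_unramified _
  have hfin : ∀ v : ↥U, ((T.ι ≫ f) ⁻¹' {v}).Finite := fun v =>
    Scheme.Hom.finite_preimage_singleton (T.ι ≫ f) v
  have hfinT : ∀ v : ↥U, ((T : Set ↥R) ∩ f ⁻¹' {v}).Finite := fun v => by
    refine ((hfin v).image T.ι).subset ?_
    rintro p ⟨hpT, hpf⟩
    have hp : p ∈ Set.range T.ι := by rw [Scheme.Opens.range_ι]; exact hpT
    obtain ⟨t, rfl⟩ := hp
    refine ⟨t, ?_, rfl⟩
    change (T.ι ≫ f) t = v
    rw [Scheme.Hom.comp_apply]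
    exact hpf
  have hI : ∀ v : ↥U, ((degFun (T.ι ≫ f) v : ℕ) : ℤ) =
      ∑ p ∈ (hfinT v).toFinset, wCan f p * (sepDeg f p : ℤ) := fun v => by
    rw [degFun_cast]
    have e1 : wCan (T.ι ≫ f) = fun t => wCan f (T.ι t) := by
      funext t
      exact (wCan_square T.ι f (T.ι ≫ f) (𝟙 U) (by rw [Category.comp_id]) t).symm
    rw [e1, fibreIntegral_opens f T (wCan f) v, finsum_mem_eq_finite_toFinset_sum _ (hfinT v)]
  have hle : degFun (T.ι ≫ f) u ≤ degFun (T.ι ≫ f) η := by
    have hcl := isClosed_degFun_le (T.ι ≫ f) hfin (degFun (T.ι ≫ f) η)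
    have hmem : η ∈ {s : ↥U | degFun (T.ι ≫ f) s ≤ degFun (T.ι ≫ f) η} :=
      le_refl (degFun (T.ι ≫ f) η)
    exact h.mem_closed hcl hmem
  have h1 : (A.card : ℤ) ≤ ∑ p ∈ (hfinT u).toFinset, wCan f p * (sepDeg f p : ℤ) := by
    have hsub : A ⊆ (hfinT u).toFinset := fun p hp =>
      (hfinT u).mem_toFinset.2 ⟨hAT p hp, hA hp⟩
    calc (A.card : ℤ) = ∑ p ∈ A, (1 : ℤ) := by simp
      _ ≤ ∑ p ∈ A, wCan f p * (sepDeg f p : ℤ) := Finset.sum_le_sum fun p _ => hG1 p
      _ ≤ ∑ p ∈ (hfinT u).toFinset, wCan f p * (sepDeg f p : ℤ) :=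
          Finset.sum_le_sum_of_subset_of_nonneg hsub fun p _ _ => le_trans zero_le_one (hG1 p)
  have h2 : ∑ p ∈ (hfinT η).toFinset, wCan f p * (sepDeg f p : ℤ) ≤
      ∑ p ∈ hη.toFinset, wCan f p * (sepDeg f p : ℤ) := by
    refine Finset.sum_le_sum_of_subset_of_nonneg (fun p hp => ?_)
      fun p _ _ => le_trans zero_le_one (hG1 p)
    exact hη.mem_toFinset.2 ((hfinT η).mem_toFinset.1 hp).2
  have h3 : ((degFun (T.ι ≫ f) u : ℕ) : ℤ) ≤ ((degFun (T.ι ≫ f) η : ℕ) : ℤ) := by
    exact_mod_cast hle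
  rw [hI u, hI η] at h3
  exact h1.trans (h3.trans h2)

/-- Finiteness of fibres of an étale separated morphism passes to specializations. -/
theorem finite_fibre_of_specializes {R U : Scheme.{u}} [QuasiSeparatedSpace ↥U] (f : R ⟶ U)
    [Etale f] [IsSeparated f] {η u : ↥U} (h : η ⤳ u) (hη : (f ⁻¹' {η}).Finite) :
    (f ⁻¹' {u}).Finite := by
  by_contra hinf
  have hinf' : (f ⁻¹' {u}).Infinite := hinf
  obtain ⟨D, hD⟩ : ∃ D : ℤ, D = ∑ p ∈ hη.toFinset, wCan f p * (sepDeg f p : ℤ) := ⟨_, rfl⟩
  obtain ⟨A, hA, hcard⟩ := hinf'.exists_subset_card_eq (D.toNat + 1)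
  have h1 := card_le_of_specializes f h hη A hA
  rw [← hD, hcard] at h1
  have h2 : D ≤ (D.toNat : ℤ) := Int.self_le_toNat D
  push_cast at h1
  omega

end SchemeLemma

section Topology

theorem finite_irreducibleComponents_of_dense {Y Z : Type*} [TopologicalSpace Y]
    [TopologicalSpace Z] (e : Y → Z) (he : Continuous e) (hd : DenseRange e)
    (hfin : (irreducibleComponents Y).Finite) : (irreducibleComponents Z).Finite := by
  refine (hfin.image fun T => closure (e '' T)).subset ?_
  intro C hC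
  have hcover : (Set.univ : Set Z) = ⋃ T ∈ irreducibleComponents Y, closure (e '' T) := by
    have h1 : Set.range e = ⋃ T ∈ irreducibleComponents Y, e '' T := by
      rw [← Set.image_iUnion₂, ← Set.sUnion_eq_biUnion, sUnion_irreducibleComponents,
        Set.image_univ]
    rw [← hfin.closure_biUnion, ← h1]
    exact hd.closure_range.symm
  obtain ⟨z, hz, hCz⟩ := isIrreducible_iff_sUnion_isClosed.1 hC.1
    (hfin.toFinset.image fun T => closure (e '' T))
    (by
      intro z hz
      obtain ⟨T, -, rfl⟩ := Finset.mem_image.1 hz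
      exact isClosed_closure)
    (by
      intro c _
      have hc : c ∈ ⋃ T ∈ irreducibleComponents Y, closure (e '' T) := by
        rw [← hcover]; trivial
      obtain ⟨T, hT, hcT⟩ := Set.mem_iUnion₂.1 hc
      refine Set.mem_sUnion.2 ⟨closure (e '' T), ?_, hcT⟩
      rw [Finset.mem_coe, Finset.mem_image]
      exact ⟨T, hfin.mem_toFinset.2 hT, rfl⟩)
  obtain ⟨T, hT, rfl⟩ := Finset.mem_image.1 hz
  have hTmem : T ∈ irreducibleComponents Y := hfin.mem_toFinset.1 hT
  have hirr : IsIrreducible (closure (e '' T)) := (hTmem.1.image e he.continuousOn).closure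
  exact ⟨T, hTmem, (hCz.antisymm (hC.2 hirr hCz)).symm⟩

theorem finite_irreducibleComponents_of_isOpenEmbedding {Y Z : Type*} [TopologicalSpace Y]
    [TopologicalSpace Z] (e : Y → Z) (he : Topology.IsOpenEmbedding e)
    (hfin : (irreducibleComponents Z).Finite) : (irreducibleComponents Y).Finite := by
  refine (hfin.image fun C => e ⁻¹' C).subset ?_
  intro T hT
  obtain ⟨C, hC, hTC⟩ := exists_mem_irreducibleComponents_subset_of_isIrreducible (e '' T)
    (hT.1.image e he.continuous.continuousOn)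
  have hne : (C ∩ Set.range e).Nonempty := by
    obtain ⟨y, hy⟩ := hT.1.nonempty
    exact ⟨e y, hTC ⟨y, hy, rfl⟩, y, rfl⟩
  have hpre := preimage_mem_irreducibleComponents hC he hne
  have hsub : T ⊆ e ⁻¹' C := fun y hy => hTC ⟨y, hy, rfl⟩
  exact ⟨C, hC, (hsub.antisymm (hT.2 hpre.1 hsub)).symm⟩

end Topology

variable {S : Scheme.{u}}

/-- The fibre of the kernel pair projection over a point with quasi-compact field point is
finite. -/
theorem finite_fibre_of_qc {X : Sp S} {U R : Over S} [IsAffine U.left]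
    (a : (yon S).obj U ⟶ X) (hae : RepWith @Etale a) {s t : R ⟶ U}
    (sq : IsPullback ((yon S).map s) ((yon S).map t) a a) (η : ↥U.left)
    (hq : RepWith @QuasiCompact (FieldPt.ofPt a η).toHom) : (t.left ⁻¹' {η}).Finite := by
  let ι : (FieldPt.ofPt a η).pt ⟶ U := Over.homMk (U.left.fromSpecResidueField η) rfl
  have hι : (FieldPt.ofPt a η).toHom = (yon S).map ι ≫ a := FieldPt.toHom_ofPt a η
  rw [hι] at hq
  have sq1 : IsPullback (pullback.fst t ι) (pullback.snd t ι) t ι := IsPullback.of_hasPullback t ι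
  have sqY : IsPullback ((yon S).map (pullback.snd t ι)) ((yon S).map (pullback.fst t ι ≫ s))
      ((yon S).map ι ≫ a) a := by
    rw [Functor.map_comp]
    exact ((sq1.map (yon S)).paste_horiz sq).flip
  haveI hqc : QuasiCompact (pullback.fst t ι ≫ s).left := hq.property a _ _ sqY
  haveI : CompactSpace ↥(pullback t ι).left :=
    QuasiCompact.compactSpace_of_compactSpace (pullback.fst t ι ≫ s).left
  haveI het : Etale t.left := hae.property a _ t sq
  have sq1' : IsPullback (pullback.fst t ι).left (pullback.snd t ι).left t.left ι.left :=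
    sq1.map (Over.forget S)
  haveI : Etale (pullback.snd t ι).left := MorphismProperty.of_isPullback (P := @Etale) sq1' het
  have hF : Finite ↥(pullback t ι).left :=
    Groth.Agent.Lib.AlgSpFibre_helper6.finite_of_etale_field (K := (FieldPt.ofPt a η).K)
      (pullback.snd t ι).left
  refine (Set.finite_range (pullback.fst t ι).left).subset ?_
  intro r hr
  have e : (U.left.fromSpecResidueField η) (IsLocalRing.closedPoint (FieldPt.ofPt a η).K) = η :=
    Scheme.fromSpecResidueField_apply η _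
  have hr' : t.left r = ι.left (IsLocalRing.closedPoint (FieldPt.ofPt a η).K) := by
    change t.left r = (U.left.fromSpecResidueField η) _
    rw [e]
    exact hr
  obtain ⟨p, hp, -⟩ := Scheme.exists_preimage_of_isPullback sq1' r _ hr'
  exact ⟨p, hp⟩

/-- The generic points of the irreducible components. -/
def Gen (X' : Over S) : Set ↥X'.left :=
  {x' | ∃ T ∈ irreducibleComponents ↥X'.left, IsGenericPoint x' T}

theorem finite_gen {X' : Over S} (hfinC : (irreducibleComponents ↥X'.left).Finite) :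
    (Gen X').Finite := by
  have hsub : Gen X' ⊆ ⋃ T ∈ irreducibleComponents ↥X'.left, {x' | IsGenericPoint x' T} := by
    rintro x' ⟨T, hT, hx'⟩
    exact Set.mem_biUnion hT hx'
  refine (hfinC.biUnion fun T _ => ?_).subset hsub
  apply Set.Subsingleton.finite
  intro x hx y hy
  exact IsGenericPoint.eq hx hy

theorem exists_gen_specializes {X' : Over S} (y : ↥X'.left) : ∃ x' ∈ Gen X', x' ⤳ y := by
  have hT := irreducibleComponent_mem_irreducibleComponents y
  obtain ⟨x', hx'⟩ := QuasiSober.sober hT.1 (isClosed_of_mem_irreducibleComponents _ hT)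
  refine ⟨x', ⟨_, hT, hx'⟩, ?_⟩
  rw [specializes_iff_mem_closure, hx'.def]
  exact mem_irreducibleComponent

section Main

variable (X : Space S) {X' : Over S} (j : (yon S).obj X' ⟶ X.obj)

theorem exists_good_specializes (hdense : Dense (Set.range (Points.ofPt j)))
    (hfinC : (irreducibleComponents ↥X'.left).Finite)
    (hgen : ∀ x' ∈ Gen X', RepWith @QuasiCompact (FieldPt.ofPt j x').toHom)
    {U : Over S} [CompactSpace ↥U.left] (a : (yon S).obj U ⟶ X.obj) (hae : RepWith @Etale a)
    (u : ↥U.left) :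
    ∃ η : ↥U.left, η ⤳ u ∧ RepWith @QuasiCompact (FieldPt.ofPt a η).toHom := by
  obtain ⟨E, hE⟩ : ∃ E : Set ↥U.left,
      E = ⋃ x' ∈ Gen X', Points.ofPt a ⁻¹' {Points.ofPt j x'} := ⟨_, rfl⟩
  have hEfin : E.Finite := by
    rw [hE]
    exact (finite_gen hfinC).biUnion fun x' hx' =>
      Groth.Agent.Lib.AlgSpFibre_helper6.finite_fibre_of_qc_point (FieldPt.ofPt j x')
        (hgen x' hx') a hae
  have hEdense : Dense E := by
    rw [dense_iff_inter_open]
    intro W hW hWne
    have hWo : IsOpen (Points.ofPt a '' W) := isOpenMap_ofPt_of_etale a hae W hW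
    obtain ⟨z, ⟨w, hwW, hw⟩, ⟨y, hy⟩⟩ := hdense.inter_open_nonempty _ hWo (hWne.image _)
    obtain ⟨x', hx', hx'y⟩ := exists_gen_specializes y
    have hsp : Points.ofPt j x' ⤳ Points.ofPt a w := by
      rw [hw, ← hy]
      exact hx'y.map (Points.continuous_ofPt j)
    obtain ⟨η, hηw, hη⟩ := Groth.Agent.Lib.AlgSpGeneriz_helper6.exists_specializes_lift
      (Points.ofPt a w) (Points.ofPt j x') hsp (FieldPt.ofPt j x') rfl (hgen x' hx') a hae w rfl
    refine ⟨η, hηw.mem_open hW hwW, ?_⟩
    rw [hE]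
    exact Set.mem_biUnion hx' hη
  have hu : u ∈ closure E := hEdense u
  have hcl : closure E = ⋃ η ∈ E, closure {η} := by
    conv_lhs => rw [← Set.biUnion_of_singleton E]
    exact hEfin.closure_biUnion _
  rw [hcl] at hu
  obtain ⟨η, hηE, hηu⟩ := Set.mem_iUnion₂.1 hu
  refine ⟨η, specializes_iff_mem_closure.2 hηu, ?_⟩
  rw [hE] at hηE
  obtain ⟨x', hx', hηx'⟩ := Set.mem_iUnion₂.1 hηE
  exact Groth.Agent.Lib.FieldQuot3H6.repWith_quasiCompact_of_rel X.property (FieldPt.ofPt a η)
    (FieldPt.ofPt j x') hηx' (hgen x' hx')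

theorem finite_fibre_chart (hdense : Dense (Set.range (Points.ofPt j)))
    (hfinC : (irreducibleComponents ↥X'.left).Finite)
    (hgen : ∀ x' ∈ Gen X', RepWith @QuasiCompact (FieldPt.ofPt j x').toHom)
    {U R : Over S} [IsAffine U.left] (a : (yon S).obj U ⟶ X.obj) (hae : RepWith @Etale a)
    {s t : R ⟶ U} (sq : IsPullback ((yon S).map s) ((yon S).map t) a a) (u : ↥U.left) :
    (t.left ⁻¹' {u}).Finite := by
  obtain ⟨η, hηu, hηq⟩ := exists_good_specializes X j hdense hfinC hgen a hae u
  have hη := finite_fibre_of_qc a hae sq η hηq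
  haveI : Etale t.left := hae.property a _ t sq
  haveI : IsSeparated t.left := Groth.Agent.Lib.DecentSoberH7.isSeparated_snd sq
  exact finite_fibre_of_specializes t.left hηu hη

theorem isDecent_of_dense (hdense : Dense (Set.range (Points.ofPt j)))
    (hfinC : (irreducibleComponents ↥X'.left).Finite)
    (hgen : ∀ x' ∈ Gen X', RepWith @QuasiCompact (FieldPt.ofPt j x').toHom) :
    IsDecent X.obj := by
  intro x
  apply Groth.Agent.Lib.FieldQuot4H6.exists_qc_mono_point_of_finite_fibres X.property x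
  intro U φ hU hφ R s t sq
  haveI := hU
  have hs : ∀ u, (s.left ⁻¹' {u}).Finite := fun u =>
    finite_fibre_chart X j hdense hfinC hgen φ hφ sq u
  have ht : ∀ u, (t.left ⁻¹' {u}).Finite := fun u =>
    finite_fibre_chart X j hdense hfinC hgen φ hφ sq.flip u
  have h1 : (Points.ofPt φ ⁻¹' {x}).Finite := by
    rcases (Points.ofPt φ ⁻¹' {x}).eq_empty_or_nonempty with h0 | ⟨u₀, hu₀⟩
    · rw [h0]; exact Set.finite_empty
    · refine ((hs u₀).image t.left).subset ?_
      intro u hu
      obtain ⟨r, hr1, hr2⟩ := exists_ofPt_eq_of_isPullback sq u u₀ (hu.trans hu₀.symm)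
      exact ⟨r, hr2, hr1⟩
  refine ⟨h1, ?_⟩
  refine (h1.preimage' (f := t.left) fun u _ => ht u).subset ?_
  intro r hr
  change Points.ofPt φ (t.left r) = x
  rw [← ofPt_comp]
  exact hr

end Main

theorem forward (X : Space S) (hd : IsDecent X.obj)
    (hfin : (irreducibleComponents (Points X.obj)).Finite) :
    ∃ (X' : Over S) (j : (yon S).obj X' ⟶ X.obj), RepWith @IsOpenImmersion j ∧
      Dense (Set.range (Points.ofPt j)) ∧ (irreducibleComponents ↥X'.left).Finite ∧
      ∀ x' : ↥X'.left, (∃ T ∈ irreducibleComponents ↥X'.left, IsGenericPoint x' T) →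
        RepWith @QuasiCompact (FieldPt.ofPt j x').toHom := by
  obtain ⟨X₁, j₁, hj₁, hrep₁, hdense₁⟩ := Groth.Agent.Lib.DecentSchLocusH7.main10337 X hd
  obtain ⟨Y₁, ⟨r₁⟩⟩ := hrep₁.has_representation
  let e₁ : (yon S).obj Y₁ ≅ X₁.obj := isoOfRepresentableBy r₁
  obtain ⟨j, hjdef⟩ : ∃ j, j = e₁.hom ≫ j₁.hom := ⟨_, rfl⟩
  have hj : RepWith @IsOpenImmersion j := by
    rw [hjdef]
    exact (MorphismProperty.cancel_left_of_respectsIso (RepWith @IsOpenImmersion) e₁.hom
      j₁.hom).2 hj₁
  have hje : RepWith @Etale j :=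
    repWith_mono (fun _ _ g (hg : IsOpenImmersion g) => (inferInstance : Etale g)) hj
  have hdense : Dense (Set.range (Points.ofPt j)) := by
    refine hdense₁.mono ?_
    rintro _ ⟨z, rfl⟩
    rw [← range_map_yon]
    exact ⟨Points.map e₁.inv z, by
      rw [hjdef, ← Points.map_comp, ← Category.assoc, e₁.inv_hom_id, Category.id_comp]⟩
  haveI : Mono j := mono_of_openImmersion j hj
  have hemb : Topology.IsOpenEmbedding (Points.ofPt j) := by
    refine Topology.IsOpenEmbedding.of_continuous_injective_isOpenMap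
      (Points.continuous_ofPt j) ?_ (isOpenMap_ofPt_of_etale j hje)
    intro y y' h
    rw [Points.ofPt_eq_map_ofScheme, Points.ofPt_eq_map_ofScheme j] at h
    exact ofScheme_injective Y₁ (map_injective_of_mono j h)
  refine ⟨Y₁, j, hj, hdense, finite_irreducibleComponents_of_isOpenEmbedding _ hemb hfin, ?_⟩
  intro x' _
  obtain ⟨p, hp, hm, hq⟩ := hd (Points.ofPt j x')
  exact Groth.Agent.Lib.AlgSpDecent3_helper6.repWith_quasiCompact_of_mono p (FieldPt.ofPt j x')
    hm hq hp.symm

theorem main10397 (X : Space S) :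
    (IsDecent X.obj ∧ (irreducibleComponents (Points X.obj)).Finite) ↔
      ∃ (X' : Over S) (j : (yon S).obj X' ⟶ X.obj), RepWith @IsOpenImmersion j ∧
        Dense (Set.range (Points.ofPt j)) ∧ (irreducibleComponents ↥X'.left).Finite ∧
        ∀ x' : ↥X'.left, (∃ T ∈ irreducibleComponents ↥X'.left, IsGenericPoint x' T) →
          RepWith @QuasiCompact (FieldPt.ofPt j x').toHom := by
  constructor
  · rintro ⟨hd, hfin⟩
    exact forward X hd hfin
  · rintro ⟨X', j, -, hdense, hfinC, hgen⟩
    refine ⟨isDecent_of_dense X j hdense hfinC (fun x' hx' => hgen x' hx'), ?_⟩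
    exact finite_irreducibleComponents_of_dense (Points.ofPt j) (Points.continuous_ofPt j)
      hdense hfinC

end Groth.Agent.Lib.DecentIrredH7
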