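import Mathlib
import Groth.Agent.Lib.AlgSpGenFin6_helper6
import Groth.Agent.Lib.ResTrdeg2_helper8
import Groth.Agent.Lib.DecentIrred_helper7
import Groth.Agent.Lib.DecentGeneric_helper7
import Groth.Agent.Lib.DecentSober_helper7
import Groth.Agent.Lib.MonicGsect_helper6
import Groth.Agent.S10399

/-!
# A dense open over which a morphism is finite (helper6)
-/

set_option autoImplicit false
universe u
open CategoryTheory CategoryTheory.Limits AlgebraicGeometry Opposite TopologicalSpace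

namespace Groth.Agent.Lib.AlgSpGenFin7H6

open AlgSp Groth.Agent.Lib.AlgSpPoints_helper7 Groth.Agent.Lib.AlgSpOpenSub_helper7
  Groth.Agent.Lib.AlgSpPullback_helper7 Groth.Agent.Lib.AlgSpIso_helper7
  Groth.Agent.Lib.AlgSpBasic_helper7 Groth.Agent.Lib.AlgSpDescent_helper7
  Groth.Agent.Lib.AlgSpSmST_helper7 Groth.Agent.Lib.AlgSpSep_helper7
  Groth.Agent.Lib.AlgSpUnram_helper7 Groth.Agent.Lib.AlgSpQC2_helper7
  Groth.Agent.Lib.AlgSpFinDescH6 Groth.Agent.Lib.AlgSpProper_helper7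
  Groth.Agent.Lib.ElemDistSq_helper7 Groth.Agent.Lib.AlgSpEtSplitH6
  Groth.Agent.Lib.AlgSpEtSplit2H6 Groth.Agent.Lib.AlgSpOpen_helper7
  Groth.Agent.Lib.AlgSpQC_helper7 Groth.Agent.Lib.AlgSpQfFinH7
  Groth.Agent.Lib.AlgSpPropFinH6 Groth.Agent.Lib.AlgSpGenFinH6 Groth.Agent.Lib.AlgSpGenFin2H6
  Groth.Agent.Lib.AlgSpGenFin3H6 Groth.Agent.Lib.AlgSpFinTfaeH6
  Groth.Agent.Lib.AlgSpCodim0_helper6 Groth.Agent.Lib.AlgSpDescent2_helper7
  Groth.Agent.Lib.AlgSpEtale_helper7 Groth.Agent.Lib.AlgSpQfLocusH7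
  Groth.Agent.Lib.AlgSpQfLocus2H7 Groth.Agent.Lib.AlgSpChart_helper7 Groth.Agent.Lib.UnramLocH7
  Groth.Agent.Lib.AlgSpLocP_helper7 Groth.Agent.Lib.AlgSpLocP4_helper7
  Groth.Agent.Lib.AlgSpFEtDenseH6 Groth.Agent.Lib.AlgSpUniv_helper7
  Groth.Agent.Lib.AlgSpGenFin5H6 Groth.Agent.Lib.AlgSpGenFin6H6

variable {S : Scheme.{u}}

/-- The local ring at the point has dimension zero. -/
abbrev D0 : ∀ U : Scheme.{u}, ↥U → Prop := fun U u => ringKrullDim ↥(U.presheaf.stalk u) = 0

/-- If codimension zero points of `X` map to codimension zero points of `Y`, then over an étale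
chart `T` of `Y` with a unique maximal point `t`, every maximal point of every étale chart of
`X ×_Y T` lies over `t`. -/
theorem hD_of_chart {X Y : Space S} (f : X ⟶ Y)
    (hpre : ∀ x : Points X.obj, HasAt D0 X.obj x ↔ HasAt D0 Y.obj (Points.map f.hom x))
    {T : Over S} (a : (yon S).obj T ⟶ Y.obj) (hae : RepWith @Etale a) (t : ↥T.left)
    (htop : ∀ v : ↥T.left, t ⤳ v)
    {P : Sp S} (prX : P ⟶ X.obj) (prT : P ⟶ (yon S).obj T) (sq : IsPullback prX prT f.hom a)
    (U : Over S) (b : (yon S).obj U ⟶ P) (h : U ⟶ T) (hbe : RepWith @Etale b)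
    (hbh : b ≫ prT = (yon S).map h) (u : ↥U.left) (hu : ∀ u' : ↥U.left, u' ⤳ u → u' = u) :
    h.left u = t := by
  have hprXe : RepWith @Etale prX := repWith_fst_of_isPullback _ sq hae
  have hx : HasAt D0 X.obj (Points.ofPt (b ≫ prX) u) :=
    ⟨U, b ≫ prX, u, repWith_comp _ hbe hprXe, rfl, (ringKrullDim_stalk_eq_zero_iff u).2 hu⟩
  obtain ⟨V, b', v, hb'e, hv, hdim⟩ := (hpre _).1 hx
  have hfx : Points.map f.hom (Points.ofPt (b ≫ prX) u) = Points.ofPt a (h.left u) := by
    rw [Points.map_ofPt, Category.assoc, sq.w, ← Category.assoc, hbh, ofPt_comp]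
  have hdim' : ringKrullDim ↥(T.left.presheaf.stalk (h.left u)) = 0 := by
    rw [ResTrdegH8.stalkDim_chart_indep a b' hae hb'e (h.left u) v (hfx.symm.trans hv.symm)]
    exact hdim
  rw [ringKrullDim_stalk_eq_zero_iff] at hdim'
  exact (hdim' t (htop _)).symm

/-- Passing from a chart of the base change to a chart of the base. -/
theorem chart_of_base_chart {X Y : Space S} (f : X ⟶ Y) {T T₁ : Over S}
    (a : (yon S).obj T ⟶ Y.obj) (g : T₁ ⟶ T)
    (hfin₁ : ∀ (P' : Space S) (prP : P'.obj ⟶ pullback f.hom a)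
      (prT : P'.obj ⟶ (yon S).obj T₁),
      IsPullback prP prT (pullback.snd f.hom a) ((yon S).map g) → IsFiniteMor prT) :
    ∀ (P : Space S) (prX : P.obj ⟶ X.obj) (prU : P.obj ⟶ (yon S).obj T₁),
      IsPullback prX prU f.hom ((yon S).map g ≫ a) → IsFiniteMor prU := by
  intro P prX prU sq
  have sq₁ := IsPullback.of_hasPullback f.hom a
  let σ : P.obj ⟶ pullback f.hom a := pullback.lift prX (prU ≫ (yon S).map g)
    (by rw [Category.assoc]; exact sq.w)
  have sqσ : IsPullback σ prU (pullback.snd f.hom a) ((yon S).map g) := by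
    refine IsPullback.of_right ?_ (pullback.lift_snd _ _ _) sq₁
    rw [pullback.lift_fst]
    exact sq
  exact hfin₁ P σ prU sqσ

/-- A family of étale charts with finite base change gives an open subspace over which the
morphism is finite. -/
theorem exists_finite_nhd_of_charts {X Y : Space S} (f : X ⟶ Y) {ι : Type u}
    (T : ι → Over S) (a : ∀ i, (yon S).obj (T i) ⟶ Y.obj) (hae : ∀ i, RepWith @Etale (a i))
    (hfin : ∀ i (P : Space S) (prX : P.obj ⟶ X.obj) (prU : P.obj ⟶ (yon S).obj (T i)),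
        IsPullback prX prU f.hom (a i) → IsFiniteMor prU) :
    ∃ (V : Space S) (j : V ⟶ Y), RepWith @IsOpenImmersion j.hom ∧
      Set.range (Points.map j.hom) = ⋃ i, Set.range (Points.ofPt (a i)) ∧
        ∀ (P : Space S) (fst : P ⟶ X) (snd : P ⟶ V), IsPullback fst.hom snd.hom f.hom j.hom →
          IsFiniteMor snd.hom := by
  let Wset : Set (Points Y.obj) := ⋃ i, Set.range (Points.ofPt (a i))
  have hWo : IsOpen Wset :=
    isOpen_iUnion (fun i => (isOpenMap_ofPt_of_etale (a i) (hae i)).isOpen_range)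
  let V : Space S := ⟨openSub Y.obj Wset, isAlgSpace_openSub Y.property hWo⟩
  let j : V ⟶ Y := ObjectProperty.homMk (openSubι Y.obj Wset)
  have hj : RepWith @IsOpenImmersion j.hom := repWith_isOpenImmersion_openSubι hWo
  have hrange : Set.range (Points.map j.hom) = Wset := range_map_openSubι Y.property hWo
  haveI : Mono j.hom := mono_of_openImmersion _ hj
  have hinj : Function.Injective (Points.map j.hom) := map_injective_of_mono j.hom
  have hfac : ∀ i, ∃ a' : (yon S).obj (T i) ⟶ V.obj, a' ≫ j.hom = a i ∧ RepWith @Etale a' := by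
    intro i
    obtain ⟨a', h1, h2, -⟩ := exists_factor_chart (a i) (hae i) j.hom hj
      (by rw [hrange]; exact Set.subset_iUnion (fun i => Set.range (Points.ofPt (a i))) i)
    exact ⟨a', h1, h2⟩
  choose a' ha' ha'e using hfac
  refine ⟨V, j, hj, hrange, ?_⟩
  intro P fst snd sq
  have hcov : IsFpqcCover (fun i : ι => (yon S).obj (T i)) a' := by
    apply Groth.Agent.Lib.AlgSpFpqc3_helper7.isFpqcCover_of_isFppfCover V.property _ _
      (fun i => IsAlgSpace.yon_obj (T i))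
    refine ⟨fun i => ⟨?_, ?_⟩, fun x => ?_⟩
    · exact Groth.Agent.Lib.AlgSpLocP_helper7.locP_of_repWith @Flat
        (fun _ _ g hg => by haveI : Etale g := hg; exact (inferInstance : Flat g)) (a' i)
        (repWith_mono (fun _ _ g hg => by
          haveI : Etale g := hg; exact (inferInstance : Flat g)) (ha'e i))
    · exact Groth.Agent.Lib.AlgSpLocP_helper7.locP_of_repWith @LocallyOfFinitePresentation
        (fun _ _ g hg => by
          haveI : Etale g := hg; exact (inferInstance : LocallyOfFinitePresentation g)) (a' i)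
        (repWith_mono (fun _ _ g hg => by
          haveI : Etale g := hg
          exact (inferInstance : LocallyOfFinitePresentation g)) (ha'e i))
    · have hx : Points.map j.hom x ∈ Wset := by rw [← hrange]; exact ⟨x, rfl⟩
      obtain ⟨i, u, hu⟩ := Set.mem_iUnion.1 hx
      refine ⟨i, Points.ofScheme (T i) u, ?_⟩
      rw [← Points.ofPt_eq_map_ofScheme]
      apply hinj
      rw [Points.map_ofPt, ha' i]
      exact hu
  have sqQ : ∀ i, IsPullback (pullback.fst snd.hom (a' i)) (pullback.snd snd.hom (a' i))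
      snd.hom (a' i) := fun i => IsPullback.of_hasPullback snd.hom (a' i)
  have hQ : ∀ i, IsAlgSpace (pullback snd.hom (a' i)) := fun i =>
    isAlgSpace_of_isPullback V.property.diag P.property (IsAlgSpace.yon_obj (T i)) (sqQ i)
  have key := Groth.Agent.Lib.AffDescH7.isLocalOnBase_fpqc_isFiniteMor (S := S)
    (fun i : ι => (yon S).obj (T i)) a'
    V.property (fun i => IsAlgSpace.yon_obj (T i)) hcov snd.hom P.property
    (fun i => pullback snd.hom (a' i)) (fun i => pullback.snd snd.hom (a' i))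
    (fun i => pullback.fst snd.hom (a' i)) hQ sqQ
  rw [key]
  intro i
  refine hfin i ⟨pullback snd.hom (a' i), hQ i⟩ (pullback.fst snd.hom (a' i) ≫ fst.hom)
    (pullback.snd snd.hom (a' i)) ?_
  have h2 := (sqQ i).paste_horiz sq
  rw [ha' i] at h2
  exact h2

/-- The quasi-compact case over an étale chart with a unique maximal point. -/
theorem exists_finite_chart_of_qcMor {X Y : Space S} (f : X ⟶ Y)
    (hlft : LocP @LocallyOfFiniteType f.hom) (hqc : IsQuasiCompactMor f.hom)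
    (hpre : ∀ x : Points X.obj, HasAt D0 X.obj x ↔ HasAt D0 Y.obj (Points.map f.hom x))
    {T : Over S} [IsAffine T.left] (a : (yon S).obj T ⟶ Y.obj) (hae : RepWith @Etale a)
    (t : ↥T.left) (htop : ∀ v : ↥T.left, t ⤳ v) :
    ∃ (T₁ : Over S) (a₁ : (yon S).obj T₁ ⟶ Y.obj) (t₁ : ↥T₁.left), RepWith @Etale a₁ ∧
      Points.ofPt a₁ t₁ = Points.ofPt a t ∧
      ∀ (P : Space S) (prX : P.obj ⟶ X.obj) (prU : P.obj ⟶ (yon S).obj T₁),
        IsPullback prX prU f.hom a₁ → IsFiniteMor prU := by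
  classical
  have ht : ∀ v : ↥T.left, v ⤳ t → v = t := fun v hv => (hv.antisymm (htop v)).eq
  let y : Points Y.obj := Points.ofPt a t
  have hy : HasAt D0 Y.obj y := ⟨T, a, t, hae, rfl, (ringKrullDim_stalk_eq_zero_iff t).2 ht⟩
  have hqf : ∀ x : Points X.obj, Points.map f.hom x = y → HasAtMor QQ f.hom x :=
    (Groth.Agent.S10399.result f hlft y hy).1.1 (fun x hx => (hpre x).2 (by rw [hx]; exact hy))
  have sq₁ := IsPullback.of_hasPullback f.hom a
  have hP₁ : IsAlgSpace (pullback f.hom a) :=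
    isAlgSpace_of_isPullback Y.property.diag X.property (IsAlgSpace.yon_obj T) sq₁
  let P₁ : Space S := ⟨pullback f.hom a, hP₁⟩
  let q₁ : P₁.obj ⟶ (yon S).obj T := pullback.snd f.hom a
  have hP₁qc : IsQuasiCompactSp P₁.obj :=
    hqc (IsAlgSpace.yon_obj T) (isQuasiCompactSp_yon T) a _ _ sq₁
  obtain ⟨U', c, hU'aff, hce, hcs⟩ := Groth.Agent.Lib.MonicGsectH6.exists_affine_atlas hP₁qc
  haveI := hU'aff
  obtain ⟨h', hh'⟩ := (yon S).map_surjective (c ≫ q₁)
  have hcq : c ≫ q₁ = (yon S).map h' := hh'.symm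
  let a₀ : (yon S).obj U' ⟶ X.obj := c ≫ pullback.fst f.hom a
  have ha₀e : RepWith @Etale a₀ := repWith_comp _ hce (repWith_fst_of_isPullback _ sq₁ hae)
  have comm₀ : a₀ ≫ f.hom = (yon S).map h' ≫ a := by
    show (c ≫ pullback.fst f.hom a) ≫ f.hom = _
    rw [Category.assoc, pullback.condition, ← Category.assoc]
    show (c ≫ q₁) ≫ a = _
    rw [hcq]
  haveI hlft' : LocallyOfFiniteType h'.left := hlft a₀ a h' ha₀e hae comm₀
  have hq₁ : ∀ z : ↥U'.left, h'.left z = t → ∃ W : U'.left.Opens, z ∈ W ∧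
      LocallyQuasiFinite (W.ι ≫ h'.left) ∧ LocallyOfFiniteType (W.ι ≫ h'.left) := by
    intro z hz
    have hx : Points.map f.hom (Points.ofPt a₀ z) = y := by
      rw [Points.map_ofPt, comm₀, ofPt_comp, hz]
    exact (hasAtMor_iff f a₀ a h' z ha₀e hae comm₀).1 (hqf _ hx)
  obtain ⟨T₀, e, t₀, hT₀aff, hee, het, hF1⟩ := gf_sch h'.left t ht hq₁
  haveI := hT₀aff
  haveI := hee
  haveI := hF1
  haveI : LocallyQuasiFinite e := locallyQuasiFinite_of_unramified e
  have hdisc := e.isDiscrete_preimage_singleton t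
  rw [isDiscrete_iff_forall_mem_exists_isOpen] at hdisc
  obtain ⟨N, hNo, hN⟩ := hdisc t₀ het
  have ht₀N : t₀ ∈ N := by
    have : t₀ ∈ N ∩ e ⁻¹' {t} := by rw [hN]; rfl
    exact this.1
  obtain ⟨N₀, hN₀aff, ht₀N₀, hN₀sub⟩ :=
    exists_isAffineOpen_mem_and_subset (x := t₀) (U := ⟨N, hNo⟩) ht₀N
  let T₀' : Over S := Over.mk ((N₀.ι ≫ e) ≫ T.hom)
  let gT : T₀' ⟶ T := Over.homMk (N₀.ι ≫ e) rfl
  haveI hT₀'aff : IsAffine T₀'.left := hN₀aff
  haveI hgTe : Etale gT.left := (inferInstance : Etale (N₀.ι ≫ e))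
  let t₀' : ↥T₀'.left := (⟨t₀, ht₀N₀⟩ : N₀)
  have hgt₀ : gT.left t₀' = t := het
  have htop' : ∀ v : ↥T₀'.left, t₀' ⤳ v := by
    intro v
    obtain ⟨v', hv's, hv'max⟩ := exists_maximal_generalization v
    have h1 := no_gen_of_flat gT.left v' hv'max
    have h2 : gT.left v' = t := (h1 t (htop _)).symm
    have h3 : v' = t₀' := by
      have hmem : N₀.ι v' ∈ N ∩ e ⁻¹' {t} := ⟨hN₀sub v'.2, h2⟩
      rw [hN] at hmem
      exact Subtype.ext hmem
    rw [← h3]
    exact hv's
  have ht₀' : ∀ v : ↥T₀'.left, v ⤳ t₀' → v = t₀' := fun v hv => (hv.antisymm (htop' v)).eq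
  let a₀' : (yon S).obj T₀' ⟶ Y.obj := (yon S).map gT ≫ a
  have ha₀'e : RepWith @Etale a₀' :=
    repWith_comp _ ((repWith_yon_map_iff @Etale gT).2 hgTe) hae
  have sqP := IsPullback.of_hasPullback f.hom a₀'
  have hP : IsAlgSpace (pullback f.hom a₀') :=
    isAlgSpace_of_isPullback Y.property.diag X.property (IsAlgSpace.yon_obj T₀') sqP
  let P₀ : Space S := ⟨pullback f.hom a₀', hP⟩
  let prX : P₀.obj ⟶ X.obj := pullback.fst f.hom a₀'
  let q₀ : P₀.obj ⟶ (yon S).obj T₀' := pullback.snd f.hom a₀'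
  let ρ : P₀.obj ⟶ P₁.obj := pullback.lift prX (q₀ ≫ (yon S).map gT)
    (by rw [Category.assoc]; exact sqP.w)
  have hρ1 : ρ ≫ pullback.fst f.hom a = prX := pullback.lift_fst _ _ _
  have hρ2 : ρ ≫ q₁ = q₀ ≫ (yon S).map gT := pullback.lift_snd _ _ _
  have sqρ : IsPullback ρ q₀ q₁ ((yon S).map gT) := by
    refine IsPullback.of_right ?_ hρ2 sq₁
    rw [hρ1]
    exact sqP
  -- the atlas of `P₀`
  let Q' : Over S := Over.mk (pullback.fst h'.left gT.left ≫ U'.hom)
  let qU : Q' ⟶ U' := Over.homMk (pullback.fst h'.left gT.left) rfl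
  let qT : Q' ⟶ T₀' := Over.homMk (pullback.snd h'.left gT.left) (by
    show pullback.snd h'.left gT.left ≫ T₀'.hom = pullback.fst h'.left gT.left ≫ U'.hom
    rw [← Over.w gT, ← pullback.condition_assoc, Over.w h'])
  have hqq : qU ≫ h' = qT ≫ gT := Over.OverMorphism.ext pullback.condition
  have sqL : IsPullback qU.left qT.left h'.left gT.left :=
    IsPullback.of_hasPullback h'.left gT.left
  have sqO : IsPullback qU qT h' gT :=
    IsPullback.of_map (Over.forget S) (Over.OverMorphism.ext sqL.w) sqL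
  have sqQ : IsPullback ((yon S).map qU) ((yon S).map qT) ((yon S).map h')
      ((yon S).map gT) := sqO.map (yon S)
  have wc : ((yon S).map qU ≫ c) ≫ q₁ = (yon S).map qT ≫ (yon S).map gT := by
    rw [Category.assoc, hcq, ← Functor.map_comp, ← Functor.map_comp, hqq]
  let c' : (yon S).obj Q' ⟶ P₀.obj := sqρ.lift ((yon S).map qU ≫ c) ((yon S).map qT) wc
  have hc'1 : c' ≫ ρ = (yon S).map qU ≫ c := sqρ.lift_fst _ _ _
  have hc'2 : c' ≫ q₀ = (yon S).map qT := sqρ.lift_snd _ _ _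
  have sqc : IsPullback c' ((yon S).map qU) ρ c := by
    refine IsPullback.of_right ?_ hc'1 sqρ.flip
    rw [hc'2, hcq]
    exact sqQ.flip
  have hc'e : RepWith @Etale c' :=
    MorphismProperty.of_isPullback (P := RepWith @Etale) sqc.flip hce
  have hc's : RepWith @Surjective c' :=
    MorphismProperty.of_isPullback (P := RepWith @Surjective) sqc.flip hcs
  haveI hQ'aff : IsAffine Q'.left := (inferInstance : IsAffine (pullback h'.left gT.left))
  have hfinqT : IsFinite qT.left :=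
    isFinite_snd_of_factor h'.left e N₀.ι gT.left rfl
  have hD' : ∀ (U : Over S) (b : (yon S).obj U ⟶ P₀.obj) (h : U ⟶ T₀'), RepWith @Etale b →
      b ≫ q₀ = (yon S).map h → ∀ u : ↥U.left, (∀ u' : ↥U.left, u' ⤳ u → u' = u) →
        h.left u = t₀' :=
    fun U b h hbe hbh u hu => hD_of_chart f hpre a₀' ha₀'e t₀' htop' prX q₀ sqP U b h hbe hbh u hu
  obtain ⟨T₁, g, t₁, hge, hgt, hfin₁⟩ :=
    exists_finite_chart_of_finite_atlas (P := P₀) q₀ c' hc'e hc's qT hc'2 hfinqT t₀' ht₀' hD'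
  refine ⟨T₁, (yon S).map g ≫ a₀', t₁,
    repWith_comp _ ((repWith_yon_map_iff @Etale g).2 hge) ha₀'e, ?_,
    chart_of_base_chart f a₀' g hfin₁⟩
  rw [ofPt_comp, hgt]
  show Points.ofPt ((yon S).map gT ≫ a) t₀' = Points.ofPt a t
  rw [ofPt_comp, hgt₀]

/-- The separated case over an open chart with a unique maximal point. -/
theorem exists_finite_chart_of_sepMor {X Y : Space S} (f : X ⟶ Y)
    (hlft : LocP @LocallyOfFiniteType f.hom) (hsep : IsSeparatedMor f.hom)
    (hX0 : {x : Points X.obj | HasAt D0 X.obj x}.Finite)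
    (hpre : ∀ x : Points X.obj, HasAt D0 X.obj x ↔ HasAt D0 Y.obj (Points.map f.hom x))
    {T : Over S} [IsAffine T.left] (a : (yon S).obj T ⟶ Y.obj) (hae : RepWith @Etale a)
    [Mono a] (t : ↥T.left) (htop : ∀ v : ↥T.left, t ⤳ v) :
    ∃ (T₁ : Over S) (a₁ : (yon S).obj T₁ ⟶ Y.obj) (t₁ : ↥T₁.left), RepWith @Etale a₁ ∧
      Points.ofPt a₁ t₁ = Points.ofPt a t ∧
      ∀ (P : Space S) (prX : P.obj ⟶ X.obj) (prU : P.obj ⟶ (yon S).obj T₁),
        IsPullback prX prU f.hom a₁ → IsFiniteMor prU := by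
  classical
  have ht : ∀ v : ↥T.left, v ⤳ t → v = t := fun v hv => (hv.antisymm (htop v)).eq
  let y : Points Y.obj := Points.ofPt a t
  have hy : HasAt D0 Y.obj y := ⟨T, a, t, hae, rfl, (ringKrullDim_stalk_eq_zero_iff t).2 ht⟩
  have hqf : ∀ x : Points X.obj, Points.map f.hom x = y → HasAtMor QQ f.hom x :=
    (Groth.Agent.S10399.result f hlft y hy).1.1 (fun x hx => (hpre x).2 (by rw [hx]; exact hy))
  have sq₁ := IsPullback.of_hasPullback f.hom a
  have hP₁ : IsAlgSpace (pullback f.hom a) :=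
    isAlgSpace_of_isPullback Y.property.diag X.property (IsAlgSpace.yon_obj T) sq₁
  let P₁ : Space S := ⟨pullback f.hom a, hP₁⟩
  let TT : Space S := ⟨(yon S).obj T, IsAlgSpace.yon_obj T⟩
  let q₁ : P₁.obj ⟶ (yon S).obj T := pullback.snd f.hom a
  let prX₁ : P₁.obj ⟶ X.obj := pullback.fst f.hom a
  have hlft₁ : LocP @LocallyOfFiniteType q₁ :=
    locP_baseChange etLocal_locallyOfFiniteType X.property Y.property (IsAlgSpace.yon_obj T)
      f.hom a prX₁ q₁ sq₁ hlft
  have hsep₁ : IsSeparatedMor q₁ := isSeparatedMor_of_isPullback sq₁ hsep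
  haveI : Mono prX₁ := (inferInstance : Mono (pullback.fst f.hom a))
  have hprXe : RepWith @Etale prX₁ := repWith_fst_of_isPullback _ sq₁ hae
  have hyT : Points.map a (Points.ofScheme T t) = y := (Points.ofPt_eq_map_ofScheme a t).symm
  have hfib : (Points.map q₁ ⁻¹' {Points.ofScheme T t}).Finite := by
    have hinj : Function.Injective (Points.map prX₁) := map_injective_of_mono prX₁
    refine (hX0.preimage hinj.injOn).subset ?_
    intro p hp
    have hp' : Points.map q₁ p = Points.ofScheme T t := hp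
    show HasAt D0 X.obj (Points.map prX₁ p)
    rw [hpre]
    have h1 : Points.map f.hom (Points.map prX₁ p) = y := by
      rw [← Points.map_comp, sq₁.w, Points.map_comp, hp', hyT]
    rw [h1]
    exact hy
  have hq₁ : ∀ p : Points P₁.obj, Points.map q₁ p = Points.ofScheme T t →
      HasAtMor QQ q₁ p := by
    intro p hp
    obtain ⟨U, b, hbe, hbs⟩ := P₁.property.atlas
    obtain ⟨u, rfl⟩ := ofPt_surjective b hbs p
    obtain ⟨h, hh⟩ := (yon S).map_surjective (b ≫ q₁)
    have hbe' : RepWith @Etale (b ≫ prX₁) := repWith_comp _ hbe hprXe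
    have comm : (b ≫ prX₁) ≫ f.hom = (yon S).map h ≫ a := by
      rw [Category.assoc, sq₁.w, ← Category.assoc, hh]
    have hhu : h.left u = t := by
      rw [Points.map_ofPt, ← hh, ofPt_yon_map] at hp
      exact ofScheme_injective T hp
    have hx : Points.map f.hom (Points.ofPt (b ≫ prX₁) u) = y := by
      rw [Points.map_ofPt, comm, ofPt_comp, hhu]
    have h1 := (hasAtMor_iff f (b ≫ prX₁) a h u hbe' hae comm).1 (hqf _ hx)
    have comm' : b ≫ (ObjectProperty.homMk q₁ : P₁ ⟶ TT).hom = (yon S).map h ≫ 𝟙 _ := by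
      rw [Category.comp_id, hh]
      rfl
    exact (hasAtMor_iff (ObjectProperty.homMk q₁ : P₁ ⟶ TT) b (𝟙 _) h u hbe (repWith_id _ _)
      comm').2 h1
  have hD : ∀ (U : Over S) (b : (yon S).obj U ⟶ P₁.obj) (h : U ⟶ T), RepWith @Etale b →
      b ≫ q₁ = (yon S).map h → ∀ u : ↥U.left, (∀ u' : ↥U.left, u' ⤳ u → u' = u) →
        h.left u = t :=
    fun U b h hbe hbh u hu => hD_of_chart f hpre a hae t htop prX₁ q₁ sq₁ U b h hbe hbh u hu
  obtain ⟨T₁, g, t₁, hge, hgt, hfin₁⟩ :=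
    exists_finite_chart_of_sep (P := P₁) q₁ hlft₁ hsep₁ t ht hfib hq₁ hD
  refine ⟨T₁, (yon S).map g ≫ a, t₁,
    repWith_comp _ ((repWith_yon_map_iff @Etale g).2 hge) hae, ?_,
    chart_of_base_chart f a g hfin₁⟩
  rw [ofPt_comp, hgt]

end Groth.Agent.Lib.AlgSpGenFin7H6
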