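import Mathlib
import Groth.Agent.Lib.AlgSpGenFin7_helper6

/-!
# A dense open over which a morphism is finite: the main theorem (helper6)
-/

set_option autoImplicit false
universe u
open CategoryTheory CategoryTheory.Limits AlgebraicGeometry Opposite TopologicalSpace

namespace Groth.Agent.Lib.AlgSpGenFin8H6

open AlgSp Groth.Agent.Lib.AlgSpPoints_helper7 Groth.Agent.Lib.AlgSpOpenSub_helper7
  Groth.Agent.Lib.AlgSpPullback_helper7 Groth.Agent.Lib.AlgSpBasic_helper7
  Groth.Agent.Lib.AlgSpGenFin7H6 Groth.Agent.Lib.DecentIrredH7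

variable {S : Scheme.{u}}

theorem main10400 {X Y : Space S} (f : X ⟶ Y)
    (hf : LocP @LocallyOfFiniteType f.hom) (hY : IsDecent Y.obj)
    (hX0 : {x : Points X.obj | HasAt D0 X.obj x}.Finite)
    (hY0 : {y : Points Y.obj | HasAt D0 Y.obj y}.Finite)
    (hpre : ∀ x : Points X.obj, HasAt D0 X.obj x ↔ HasAt D0 Y.obj (Points.map f.hom x))
    (hqs : IsQuasiCompactMor f.hom ∨ IsSeparatedMor f.hom) :
    ∃ (V X' : Space S) (j : V ⟶ Y) (fst : X' ⟶ V) (snd : X' ⟶ X),
      RepWith @IsOpenImmersion j.hom ∧ Dense (Set.range (Points.map j.hom)) ∧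
      IsPullback fst.hom snd.hom j.hom f.hom ∧ IsFiniteMor fst.hom := by
  classical
  -- finitely many irreducible components
  haveI hsober : QuasiSober (Points Y.obj) := Groth.Agent.Lib.DecentSoberH7.main10339 Y hY
  have hIC : (irreducibleComponents (Points Y.obj)).Finite := by
    refine (hY0.image (fun y => closure {y})).subset ?_
    intro Z hZ
    obtain ⟨x, hx⟩ := QuasiSober.sober hZ.1 (isClosed_of_mem_irreducibleComponents Z hZ)
    exact ⟨x, (Groth.Agent.Lib.DecentGenericH7.main10394 Y hY x).1 ⟨Z, hZ, hx⟩, hx.def⟩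
  -- the dense open subscheme
  obtain ⟨Y', jY, hjY, hdense, hfinC, -⟩ := (main10397 Y).1 ⟨hY, hIC⟩
  have hGfin : (Gen Y').Finite := finite_gen hfinC
  have key : ∀ η : ↥Y'.left, η ∈ Gen Y' → ∃ (T₁ : Over S) (a₁ : (yon S).obj T₁ ⟶ Y.obj)
      (t₁ : ↥T₁.left), RepWith @Etale a₁ ∧ Points.ofPt a₁ t₁ = Points.ofPt jY η ∧
      ∀ (P : Space S) (prX : P.obj ⟶ X.obj) (prU : P.obj ⟶ (yon S).obj T₁),
        IsPullback prX prU f.hom a₁ → IsFiniteMor prU := by
    intro η hη
    let C : Set ↥Y'.left := ⋃ η' ∈ (Gen Y' \ {η}), closure {η'}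
    have hCc : IsClosed C :=
      (hGfin.subset Set.diff_subset).isClosed_biUnion (fun _ _ => isClosed_closure)
    have hηC : η ∉ C := by
      intro hmem
      obtain ⟨η', ⟨hη'G, hη'ne⟩, hη'⟩ := Set.mem_iUnion₂.1 hmem
      obtain ⟨Z, hZ, hZη⟩ := hη
      obtain ⟨Z', hZ', hZη'⟩ := hη'G
      have hsub : Z ⊆ Z' := by
        rw [← hZη.def, ← hZη'.def]
        exact closure_minimal (Set.singleton_subset_iff.2 hη') isClosed_closure
      have hZZ' : Z = Z' := le_antisymm hsub (hZ.2 hZ'.1 hsub)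
      apply hη'ne
      rw [← hZZ'] at hZη'
      exact IsGenericPoint.eq hZη' hZη
    obtain ⟨U₀, hU₀, hηU₀, hU₀sub⟩ :=
      exists_isAffineOpen_mem_and_subset (x := η) (U := ⟨Cᶜ, hCc.isOpen_compl⟩) hηC
    let T : Over S := Over.mk (U₀.ι ≫ Y'.hom)
    let ι₁ : T ⟶ Y' := Over.homMk U₀.ι rfl
    haveI hTaff : IsAffine T.left := hU₀
    let a : (yon S).obj T ⟶ Y.obj := (yon S).map ι₁ ≫ jY
    have hιo : RepWith @IsOpenImmersion ((yon S).map ι₁) :=
      (repWith_yon_map_iff @IsOpenImmersion ι₁).2 (inferInstance : IsOpenImmersion U₀.ι)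
    have hao : RepWith @IsOpenImmersion a := repWith_comp _ hιo hjY
    have hae : RepWith @Etale a :=
      repWith_mono (fun _ _ g hg => by
        haveI : IsOpenImmersion g := hg
        exact (inferInstance : Etale g)) hao
    haveI : Mono a := mono_of_openImmersion _ hao
    let t : ↥T.left := (⟨η, hηU₀⟩ : U₀)
    have htop : ∀ v : ↥T.left, t ⤳ v := by
      intro v
      obtain ⟨η', hη'G, hη's⟩ := exists_gen_specializes (X' := Y') (U₀.ι v)
      have hηη' : η' = η := by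
        by_contra hne
        have hvC : U₀.ι v ∈ C :=
          Set.mem_iUnion₂.2 ⟨η', ⟨hη'G, hne⟩, specializes_iff_mem_closure.1 hη's⟩
        exact hU₀sub v.2 hvC
      rw [hηη'] at hη's
      exact (U₀.ι.isOpenEmbedding.isInducing.specializes_iff).1 hη's
    have hat : Points.ofPt a t = Points.ofPt jY η := by
      show Points.ofPt ((yon S).map ι₁ ≫ jY) t = _
      rw [ofPt_comp]
      rfl
    rcases hqs with hqc | hsep
    · obtain ⟨T₁, a₁, t₁, h1, h2, h3⟩ := exists_finite_chart_of_qcMor f hf hqc hpre a hae t htop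
      exact ⟨T₁, a₁, t₁, h1, h2.trans hat, h3⟩
    · obtain ⟨T₁, a₁, t₁, h1, h2, h3⟩ :=
        exists_finite_chart_of_sepMor f hf hsep hX0 hpre a hae t htop
      exact ⟨T₁, a₁, t₁, h1, h2.trans hat, h3⟩
  choose T₁ a₁ t₁ ha₁e hat₁ hfin₁ using key
  obtain ⟨V, j, hj, hrange, hV⟩ :=
    exists_finite_nhd_of_charts f (ι := {η : ↥Y'.left // η ∈ Gen Y'})
      (fun i => T₁ i.1 i.2) (fun i => a₁ i.1 i.2) (fun i => ha₁e i.1 i.2)
      (fun i => hfin₁ i.1 i.2)
  have hdenseV : Dense (Set.range (Points.map j.hom)) := by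
    rw [hrange, dense_iff_inter_open]
    intro O hO hOne
    obtain ⟨_, hyO, y', rfl⟩ := hdense.inter_open_nonempty O hO hOne
    obtain ⟨η, hηG, hηs⟩ := exists_gen_specializes (X' := Y') y'
    have hop : IsOpen (Points.ofPt jY ⁻¹' O) := hO.preimage (Points.continuous_ofPt jY)
    have hηO : Points.ofPt jY η ∈ O := hηs.mem_open hop hyO
    exact ⟨Points.ofPt jY η, hηO, Set.mem_iUnion.2 ⟨⟨η, hηG⟩, t₁ η hηG, hat₁ η hηG⟩⟩
  have sq := IsPullback.of_hasPullback j.hom f.hom
  have hP : IsAlgSpace (pullback j.hom f.hom) :=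
    isAlgSpace_of_isPullback Y.property.diag V.property X.property sq
  let P : Space S := ⟨pullback j.hom f.hom, hP⟩
  let fst : P ⟶ V := ObjectProperty.homMk (pullback.fst j.hom f.hom)
  let snd : P ⟶ X := ObjectProperty.homMk (pullback.snd j.hom f.hom)
  exact ⟨V, P, j, fst, snd, hj, hdenseV, sq, hV P snd fst sq.flip⟩

end Groth.Agent.Lib.AlgSpGenFin8H6
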