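import Groth.Agent.Lib.AlgSpT0_helper6

/-!
# Lifting generizations along flat morphisms of algebraic spaces (helper6)
-/

set_option autoImplicit false
universe u
open CategoryTheory CategoryTheory.Limits AlgebraicGeometry Opposite

namespace Groth.Agent.Lib.AlgSpGeneriz2_helper6

open AlgSp Groth.Agent.Lib.AlgSpPoints_helper7 Groth.Agent.Lib.AlgSpQC_helper7
  Groth.Agent.Lib.AlgSpPullback_helper7 Groth.Agent.Lib.AlgSpBasic_helper7
  Groth.Agent.Lib.AlgSpEtale_helper7 Groth.Agent.Lib.AlgSpGeneriz_helper6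

variable {S : Scheme.{u}}

theorem exists_specializes_lift_of_flat {X Y : Sp S} (hX : IsAlgSpace X) (hY : IsAlgSpace Y)
    (f : Y ⟶ X) (hf : LocP @Flat f) (x x' : Points X) (h : x' ⤳ x) (p : FieldPt X)
    (hp : Points.mk p = x') (hq : RepWith @QuasiCompact p.toHom)
    (y : Points Y) (hy : Points.map f y = x) :
    ∃ y' : Points Y, y' ⤳ y ∧ Points.map f y' = x' := by
  obtain ⟨V, b, hbe, hbs⟩ := hX.atlas
  obtain ⟨U, a, α, hae, has, hcomm⟩ := exists_chart_over hY f b hbe hbs
  have hflat : Flat α.left := hf a b α hae hbe hcomm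
  obtain ⟨u, rfl⟩ := ofPt_surjective a has y
  have hv : Points.ofPt b (α.left u) = x := by
    rw [← ofPt_comp, ← hcomm, ← Points.map_ofPt, hy]
  obtain ⟨v', hv's, hv'⟩ := exists_specializes_lift x x' h p hp hq b hbe (α.left u) hv
  have hgen : GeneralizingMap α.left := Flat.generalizingMap (f := α.left)
  obtain ⟨u', hu's, hu'⟩ := hgen (a := u) (b := v') hv's
  refine ⟨Points.ofPt a u', hu's.map (Points.continuous_ofPt a), ?_⟩
  rw [Points.map_ofPt, hcomm, ofPt_comp, hu', hv']

end Groth.Agent.Lib.AlgSpGeneriz2_helper6
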