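import Groth.Agent.Lib.AlgSpGalois_helper7
import Groth.Agent.Lib.GeomConnFin_helper4

/-!
# Geometric connectedness of an algebraic space over a field can be tested on finite separable
extensions (helper7)
-/

set_option autoImplicit false
set_option linter.style.haveILetI false
universe u
open CategoryTheory CategoryTheory.Limits AlgebraicGeometry Opposite

namespace Groth.Agent.Lib.AlgSpGeomConnFinH7

open AlgSp Groth.Agent.Lib.AlgSpPoints_helper7 Groth.Agent.Lib.AlgSpProdChartH7
  Groth.Agent.Lib.GeomRedBC2H7 Groth.Agent.Lib.GeomIrrSchH4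
  Groth.Agent.Lib.AlgSpBCTopH7 Groth.Agent.Lib.AlgSpBCTop2H7 Groth.Agent.Lib.AlgSpGaloisH7
  Groth.Agent.Lib.GeomConnFinH4

section top

variable {A' B' A B : Type*} [TopologicalSpace A'] [TopologicalSpace B'] [TopologicalSpace A]
  [TopologicalSpace B]

theorem isClosedMap_of_square (q' : A' → B') (m : A' → A) (q : A → B) (φ : B' → B)
    (hcomm : ∀ a', φ (q' a') = q (m a')) (hq'c : Continuous q')
    (hq : Topology.IsQuotientMap q) (hmc : IsClosedMap m)
    (hlift : ∀ (a : A) (y' : B'), q a = φ y' → ∃ a', m a' = a ∧ q' a' = y') :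
    IsClosedMap φ := by
  intro T hT
  rw [← hq.isClosed_preimage]
  have e : q ⁻¹' (φ '' T) = m '' (q' ⁻¹' T) := by
    ext a
    constructor
    · rintro ⟨t, ht, hta⟩
      obtain ⟨a', rfl, rfl⟩ := hlift a t hta.symm
      exact ⟨a', ht, rfl⟩
    · rintro ⟨a', ha', rfl⟩
      exact ⟨q' a', ha', hcomm a'⟩
  rw [e]
  exact hmc _ (hT.preimage hq'c)

end top

variable (k : Type u) [Field k]

theorem chart_comm (U : Over (Spec (CommRingCat.of k))) (K : Type u) [Field K] [Algebra k K]
    (E : IntermediateField k K) (j : SK k K ⟶ SK k ↥E)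
    (hj : j.left = Spec.map (CommRingCat.ofHom (algebraMap ↥E K))) :
    (prod.map (𝟙 U) j).left ≫ (Over.prodLeftIsoPullback U (SK k ↥E)).hom =
      (Over.prodLeftIsoPullback U (SK k K)).hom ≫ bm U.hom ↥E K := by
  have hfstK : (Over.prodLeftIsoPullback U (SK k K)).hom ≫
      pullback.fst U.hom (Spec.map (CommRingCat.ofHom (algebraMap k K))) =
      (prod.fst : U ⨯ SK k K ⟶ U).left := Over.prodLeftIsoPullback_hom_fst U (SK k K)
  have hsndK : (Over.prodLeftIsoPullback U (SK k K)).hom ≫
      pullback.snd U.hom (Spec.map (CommRingCat.ofHom (algebraMap k K))) =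
      (prod.snd : U ⨯ SK k K ⟶ SK k K).left := Over.prodLeftIsoPullback_hom_snd U (SK k K)
  have hfstE : (Over.prodLeftIsoPullback U (SK k ↥E)).hom ≫
      pullback.fst U.hom (Spec.map (CommRingCat.ofHom (algebraMap k ↥E))) =
      (prod.fst : U ⨯ SK k ↥E ⟶ U).left := Over.prodLeftIsoPullback_hom_fst U (SK k ↥E)
  have hsndE : (Over.prodLeftIsoPullback U (SK k ↥E)).hom ≫
      pullback.snd U.hom (Spec.map (CommRingCat.ofHom (algebraMap k ↥E))) =
      (prod.snd : U ⨯ SK k ↥E ⟶ SK k ↥E).left := Over.prodLeftIsoPullback_hom_snd U (SK k ↥E)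
  refine pullback.hom_ext (f := U.hom)
    (g := Spec.map (CommRingCat.ofHom (algebraMap k ↥E))) ?_ ?_
  · rw [Category.assoc, Category.assoc, bm_fst, hfstE, hfstK, ← Over.comp_left, prod.map_fst,
      Category.comp_id]
  · rw [Category.assoc, Category.assoc, bm_snd, hsndE, ← Category.assoc, hsndK, ← Over.comp_left,
      prod.map_snd, Over.comp_left, hj]

theorem key_chart (U : Over (Spec (CommRingCat.of k))) (K : Type u) [Field K] [Algebra k K]
    [Algebra.IsAlgebraic k K] (s' : Set ↥(U ⨯ SK k K).left) (hs' : IsClopen s')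
    (w : ↥(U ⨯ SK k K).left) (hw : w ∈ s') :
    ∃ E : IntermediateField k K, FiniteDimensional k E ∧ ∀ (j : SK k K ⟶ SK k ↥E),
      j.left = Spec.map (CommRingCat.ofHom (algebraMap ↥E K)) →
      ∀ z, (prod.map (𝟙 U) j).left z = (prod.map (𝟙 U) j).left w → z ∈ s' := by
  have hs'' : IsClopen ((Over.prodLeftIsoPullback U (SK k K)).inv ⁻¹' s') :=
    hs'.preimage (Over.prodLeftIsoPullback U (SK k K)).inv.continuous
  have ha'' : (Over.prodLeftIsoPullback U (SK k K)).hom w ∈
      (Over.prodLeftIsoPullback U (SK k K)).inv ⁻¹' s' := by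
    show (Over.prodLeftIsoPullback U (SK k K)).inv ((Over.prodLeftIsoPullback U (SK k K)).hom w) ∈ s'
    rw [Scheme.hom_inv_apply]
    exact hw
  obtain ⟨E, hE, hkey⟩ := key_general U.hom K _ hs'' _ ha''
  refine ⟨E, hE, fun j hj z hz => ?_⟩
  have hc := chart_comm k U K E j hj
  have h1 : (bm U.hom ↥E K) ((Over.prodLeftIsoPullback U (SK k K)).hom z) =
      (bm U.hom ↥E K) ((Over.prodLeftIsoPullback U (SK k K)).hom w) := by
    rw [← Scheme.Hom.comp_apply, ← Scheme.Hom.comp_apply, ← hc, Scheme.Hom.comp_apply,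
      Scheme.Hom.comp_apply, hz]
  have h3 : (Over.prodLeftIsoPullback U (SK k K)).inv
      ((Over.prodLeftIsoPullback U (SK k K)).hom z) ∈ s' := hkey _ h1
  rwa [Scheme.hom_inv_apply] at h3

theorem connectedSpace_of_finite (X : AlgSp.Space (Spec (CommRingCat.of k))) (K : Type u)
    [Field K] [Algebra k K] [Algebra.IsSeparable k K]
    (h : ∀ (k' : Type u) [Field k'] [Algebra k k'], Module.Finite k k' → Algebra.IsSeparable k k' →
      ConnectedSpace (Points (X.obj ⨯ (yon (Spec (CommRingCat.of k))).obj (SK k k')))) :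
    ConnectedSpace (Points (X.obj ⨯ (yon (Spec (CommRingCat.of k))).obj (SK k K))) := by
  obtain ⟨U, a, hae, has⟩ := X.property.atlas
  haveI hk : ConnectedSpace (Points (X.obj ⨯ (yon (Spec (CommRingCat.of k))).obj (SK k k))) :=
    h k inferInstance inferInstance
  obtain ⟨z0⟩ : Nonempty (Points (X.obj ⨯ (yon (Spec (CommRingCat.of k))).obj (SK k k))) :=
    inferInstance
  haveI : UniversallyOpen (SK k K).hom := universallyOpen_specMap (k := k) K
  haveI : Surjective (SK k K).hom := surjective_specMap K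
  obtain ⟨-, hsurj⟩ := fst_open_surj X.property (SK k K)
  obtain ⟨a0, -⟩ := hsurj (Points.map prod.fst z0)
  haveI : Nonempty (Points (X.obj ⨯ (yon (Spec (CommRingCat.of k))).obj (SK k K))) := ⟨a0⟩
  haveI : PreconnectedSpace
      (Points (X.obj ⨯ (yon (Spec (CommRingCat.of k))).obj (SK k K))) := by
    rw [preconnectedSpace_iff_clopen]
    intro s hs
    by_contra hne
    push_neg at hne
    obtain ⟨hs0, hs1⟩ := hne
    obtain ⟨x, hx⟩ : s.Nonempty := by
      first | exact hs0 | exact Set.nonempty_iff_ne_empty.mpr hs0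
    obtain ⟨b, hb⟩ : sᶜ.Nonempty := Set.nonempty_compl.mpr hs1
    obtain ⟨w, rfl⟩ := ofPt_surjective _ (repWith_bcChart @Surjective has (SK k K)) x
    have hs' : IsClopen (Points.ofPt (bcChart a (SK k K)) ⁻¹' s) :=
      hs.preimage (Points.continuous_ofPt _)
    obtain ⟨E, hE, hkey⟩ := key_chart k U K _ hs' w hx
    haveI := hE
    haveI : Algebra.IsSeparable k ↥E := inferInstance
    haveI : ConnectedSpace (Points (X.obj ⨯ (yon (Spec (CommRingCat.of k))).obj (SK k ↥E))) :=
      h ↥E inferInstance inferInstance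
    obtain ⟨j, hj⟩ : ∃ j : SK k K ⟶ SK k ↥E,
        j.left = Spec.map (CommRingCat.ofHom (algebraMap ↥E K)) :=
      ⟨Over.homMk (Spec.map (CommRingCat.ofHom (algebraMap ↥E K)))
        (by
          show Spec.map (CommRingCat.ofHom (algebraMap ↥E K)) ≫
            Spec.map (CommRingCat.ofHom (algebraMap k ↥E)) =
            Spec.map (CommRingCat.ofHom (algebraMap k K))
          rw [← Spec.map_comp, ← CommRingCat.ofHom_comp, ← IsScalarTower.algebraMap_eq]), rfl⟩
    haveI : Algebra.IsAlgebraic ↥E K := Algebra.IsAlgebraic.tower_top (K := k) ↥E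
    haveI : UniversallyOpen j.left := by rw [hj]; exact universallyOpen_specMap (k := ↥E) K
    haveI : IsIntegralHom j.left := by
      rw [hj]; exact Groth.Agent.Lib.GeomConnPtH4.isIntegralHom_specMap ↥E K
    have sq := isPullback_left_prod_map U j
    haveI : UniversallyOpen (prod.map (𝟙 U) j).left :=
      MorphismProperty.of_isPullback (P := @UniversallyOpen) sq.flip inferInstance
    haveI : IsIntegralHom (prod.map (𝟙 U) j).left :=
      MorphismProperty.of_isPullback (P := @IsIntegralHom) sq.flip inferInstance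
    have hlift := fun (u : ↥(U ⨯ SK k ↥E).left)
        (y' : Points (X.obj ⨯ (yon (Spec (CommRingCat.of k))).obj (SK k K)))
        (h : Points.ofPt (bcChart a (SK k ↥E)) u =
          Points.map (prod.map (𝟙 X.obj) ((yon (Spec (CommRingCat.of k))).map j)) y') =>
      exists_pt_of_isPullback (isPullback_bcChart_map a j) u y' h
    have hopen : IsOpenMap (Points.map (prod.map (𝟙 X.obj)
        ((yon (Spec (CommRingCat.of k))).map j))) :=
      isOpenMap_of_square (Points.ofPt (bcChart a (SK k K)))
        (fun w => (prod.map (𝟙 U) j).left w) (Points.ofPt (bcChart a (SK k ↥E))) _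
        (ofPt_bcChart_map a j) (Points.continuous_ofPt _)
        (ofPt_surjective _ (repWith_bcChart @Surjective has _))
        (isOpenMap_ofPt_of_etale _ (repWith_bcChart @Etale hae _))
        (prod.map (𝟙 U) j).left.isOpenMap
    have hclosed : IsClosedMap (Points.map (prod.map (𝟙 X.obj)
        ((yon (Spec (CommRingCat.of k))).map j))) :=
      isClosedMap_of_square (Points.ofPt (bcChart a (SK k K)))
        (fun w => (prod.map (𝟙 U) j).left w) (Points.ofPt (bcChart a (SK k ↥E))) _
        (ofPt_bcChart_map a j) (Points.continuous_ofPt _)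
        (isQuotientMap_ofPt _ (repWith_bcChart @Etale hae _) (repWith_bcChart @Surjective has _))
        (prod.map (𝟙 U) j).left.isClosedMap hlift
    have h2 : Points.map (prod.map (𝟙 X.obj) ((yon (Spec (CommRingCat.of k))).map j)) '' sᶜ =
        Set.univ :=
      (isClopen_iff.mp ⟨hclosed _ hs.compl.1, hopen _ hs.compl.2⟩).resolve_left
        (Set.Nonempty.image _ ⟨b, hb⟩).ne_empty
    obtain ⟨c, hcs, hc⟩ : Points.map (prod.map (𝟙 X.obj)
        ((yon (Spec (CommRingCat.of k))).map j)) (Points.ofPt (bcChart a (SK k K)) w) ∈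
        Points.map (prod.map (𝟙 X.obj) ((yon (Spec (CommRingCat.of k))).map j)) '' sᶜ :=
      h2 ▸ Set.mem_univ _
    rw [ofPt_bcChart_map] at hc
    obtain ⟨z, hz1, hz2⟩ := hlift ((prod.map (𝟙 U) j).left w) c hc.symm
    exact hcs (hz2 ▸ hkey j hj z hz1)
  exact { toNonempty := inferInstance }

theorem main10469 (X : AlgSp.Space (Spec (CommRingCat.of k))) :
    (∀ (K : Type u) [Field K] [Algebra k K], ConnectedSpace (Points
      (X.obj ⨯ (yon (Spec (CommRingCat.of k))).obj (SK k K)))) ↔
      ∀ (k' : Type u) [Field k'] [Algebra k k'], Module.Finite k k' → Algebra.IsSeparable k k' →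
        ConnectedSpace (Points (X.obj ⨯ (yon (Spec (CommRingCat.of k))).obj (SK k k'))) := by
  constructor
  · intro H k' _ _ _ _
    exact H k'
  · intro h
    exact (main10468 k X (SeparableClosure k)).2
      (connectedSpace_of_finite k X (SeparableClosure k) h)

end Groth.Agent.Lib.AlgSpGeomConnFinH7
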