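import Groth.Agent.Lib.AlgSpGlue2_helper7

/-!
# A sheaf with an open cover by algebraic spaces is an algebraic space (helper7)
-/

set_option autoImplicit false
universe u
open CategoryTheory CategoryTheory.Limits AlgebraicGeometry Opposite

namespace Groth.Agent.Lib.AlgSpGlue3H7

open AlgSp Groth.Agent.Lib.AlgSpOpenSub_helper7 Groth.Agent.Lib.AlgSpGlueH7
  Groth.Agent.Lib.AlgSpGlue2H7 Groth.Agent.Lib.AlgSpPullback_helper7

variable {S : Scheme.{u}}

section OpenCoverAlg

variable {ι : Type u} {Fi : ι → Sp S} {F : Sp S} (f : ∀ i, Fi i ⟶ F)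
  (hopen : ∀ i, RepWith @IsOpenImmersion (f i))
  (hsurj : ∀ (T : Over S) (s : (yon S).obj T ⟶ F), ∃ R ∈ J S T,
    ∀ ⦃T' : Over S⦄ (m : T' ⟶ T), R m →
      ∃ (i : ι) (y : (yon S).obj T' ⟶ Fi i), y ≫ f i = (yon S).map m ≫ s)
  (halg : ∀ i, IsAlgSpace (Fi i))

include hopen hsurj halg in
/-- If `F` has an open cover by algebraic spaces, every map from a scheme to `F` is
representable. -/
theorem representable_from_yon_of_openCover {T : Over S} (a : (yon S).obj T ⟶ F) :
    Representable a := by
  intro T' b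
  have sqA := fun i => (hopen i).rep.isPullback a
  have sqB := fun i => (hopen i).rep.isPullback b
  have hrep : ∀ i, Representable ((hopen i).rep.fst a) := fun i =>
    (halg i).representable_from_yon _
  have sqW := fun i => (hrep i).isPullback ((hopen i).rep.fst b)
  let φ : ∀ i, (yon S).obj ((hrep i).pullback ((hopen i).rep.fst b)) ⟶ pullback a b := fun i =>
    pullback.lift ((hrep i).fst ((hopen i).rep.fst b) ≫ (yon S).map ((hopen i).rep.snd a))
      ((yon S).map ((hrep i).snd ((hopen i).rep.fst b)) ≫ (yon S).map ((hopen i).rep.snd b)) (by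
        rw [Category.assoc, ← (sqA i).w, ← Category.assoc, (sqW i).w, Category.assoc, (sqB i).w,
          Category.assoc])
  have sq : ∀ i, IsPullback (φ i)
      ((hrep i).fst ((hopen i).rep.fst b) ≫ (hopen i).rep.fst a)
      (pullback.fst a b ≫ a) (f i) := by
    intro i
    have R1 := (sqW i).flip.paste_horiz (sqB i).flip
    rw [(sqA i).w] at R1
    have hφ1 : φ i ≫ pullback.fst a b =
        (hrep i).fst ((hopen i).rep.fst b) ≫ (yon S).map ((hopen i).rep.snd a) :=
      pullback.lift_fst _ _ _
    have hφ2 : φ i ≫ pullback.snd a b =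
        (yon S).map ((hrep i).snd ((hopen i).rep.fst b)) ≫ (yon S).map ((hopen i).rep.snd b) :=
      pullback.lift_snd _ _ _
    rw [← hφ2] at R1
    have L := IsPullback.of_right R1 hφ1 (IsPullback.of_hasPullback a b).flip
    exact L.paste_vert (sqA i).flip
  obtain ⟨Y, e, j, hj, -, -⟩ := exists_iso_of_isPullback_openCover (pullback.fst a b ≫ a) f hopen
    hsurj _ φ _ sq
  refine ⟨Y, (yon S).preimage (e.hom ≫ pullback.snd a b), e.hom ≫ pullback.fst a b, ?_⟩
  rw [(yon S).map_preimage]
  exact IsPullback.of_iso (IsPullback.of_hasPullback a b) e.symm (Iso.refl _) (Iso.refl _)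
    (Iso.refl _) (by simp) (by simp) (by simp) (by simp)

include hopen hsurj halg in
theorem diag_representable_of_openCover : Representable (Limits.diag F) :=
  Functor.relativelyRepresentable.diag_of_map_from_obj
    (fun _ a => representable_from_yon_of_openCover f hopen hsurj halg a)

end OpenCoverAlg

section Atlas

variable {ι : Type u} {Fi : ι → Sp S} (c : Cofan Fi) (hc : IsColimit c) {F : Sp S}
  (f : ∀ i, Fi i ⟶ F) (hopen : ∀ i, RepWith @IsOpenImmersion (f i))
  (hsurj : Sheaf.IsLocallySurjective (Cofan.IsColimit.desc hc f))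

include hopen hsurj in
/-- The base change of `∐ F_i ⟶ F` to a scheme is a scheme, étale and surjective over it. -/
theorem exists_isPullback_desc {T : Over S} (a : (yon S).obj T ⟶ F) :
    ∃ (Y : Over S) (snd : Y ⟶ T) (fst : (yon S).obj Y ⟶ c.pt),
      IsPullback fst ((yon S).map snd) (Cofan.IsColimit.desc hc f) a ∧ Etale snd.left ∧
        Surjective snd.left := by
  have hD : ∀ i, c.inj i ≫ Cofan.IsColimit.desc hc f = f i := fun i =>
    Cofan.IsColimit.fac hc f i
  have sqA := fun i => (hopen i).rep.isPullback a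
  let φ : ∀ i, (yon S).obj ((hopen i).rep.pullback a) ⟶ pullback (Cofan.IsColimit.desc hc f) a :=
    fun i => pullback.lift ((hopen i).rep.fst a ≫ c.inj i) ((yon S).map ((hopen i).rep.snd a)) (by
      rw [Category.assoc, hD i, (sqA i).w])
  have hφ1 : ∀ i, φ i ≫ pullback.fst (Cofan.IsColimit.desc hc f) a =
      (hopen i).rep.fst a ≫ c.inj i := fun i => pullback.lift_fst _ _ _
  have hφ2 : ∀ i, φ i ≫ pullback.snd (Cofan.IsColimit.desc hc f) a =
      (yon S).map ((hopen i).rep.snd a) := fun i => pullback.lift_snd _ _ _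
  have sq : ∀ i, IsPullback (φ i) ((hopen i).rep.fst a)
      (pullback.fst (Cofan.IsColimit.desc hc f) a) (c.inj i) := by
    intro i
    have R1 : IsPullback (φ i ≫ pullback.snd (Cofan.IsColimit.desc hc f) a) ((hopen i).rep.fst a) a
        (c.inj i ≫ Cofan.IsColimit.desc hc f) := by
      rw [hφ2 i, hD i]
      exact (sqA i).flip
    exact IsPullback.of_right R1 (hφ1 i)
      (IsPullback.of_hasPullback (Cofan.IsColimit.desc hc f) a).flip
  have hinj : ∀ i, RepWith @IsOpenImmersion (c.inj i) := fun i =>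
    MorphismProperty.relative_monotone (fun _ _ _ h => h.1) _ (SpCoprod2H7.repWith_inj c hc i)
  have hid : Cofan.IsColimit.desc hc c.inj = 𝟙 c.pt := by
    apply Cofan.IsColimit.hom_ext hc
    intro i
    rw [Cofan.IsColimit.fac, Category.comp_id]
  have hsurj1 : Sheaf.IsLocallySurjective (Cofan.IsColimit.desc hc c.inj) := by
    rw [hid]
    infer_instance
  obtain ⟨Y, e, j, hj, hjo, hjs⟩ := exists_iso_of_isPullback_openCover
    (pullback.fst (Cofan.IsColimit.desc hc f) a) c.inj hinj
    (cofan_jointly_surjective c hc c.inj hsurj1) _ φ _ sq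
  let snd : Y ⟶ T := (yon S).preimage (e.hom ≫ pullback.snd (Cofan.IsColimit.desc hc f) a)
  have hsnd : (yon S).map snd = e.hom ≫ pullback.snd (Cofan.IsColimit.desc hc f) a :=
    (yon S).map_preimage _
  have hjsnd : ∀ i, j i ≫ snd = (hopen i).rep.snd a := fun i => by
    apply (yon S).map_injective
    rw [Functor.map_comp, hsnd, ← Category.assoc, hj i, hφ2 i]
  have hjl : ∀ i, (j i).left ≫ snd.left = ((hopen i).rep.snd a).left := fun i => by
    rw [← Over.comp_left, hjsnd i]
  have hoA : ∀ i, IsOpenImmersion ((hopen i).rep.snd a).left := fun i => (hopen i).property_snd a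
  refine ⟨Y, snd, e.hom ≫ pullback.fst (Cofan.IsColimit.desc hc f) a, ?_, ?_, ?_⟩
  · rw [hsnd]
    exact IsPullback.of_iso (IsPullback.of_hasPullback (Cofan.IsColimit.desc hc f) a) e.symm
      (Iso.refl _) (Iso.refl _) (Iso.refl _) (by simp) (by simp) (by simp) (by simp)
  · haveI := hjo
    refine IsZariskiLocalAtSource.of_openCover (P := @Etale)
      (coverOf _ (fun i => (j i).left) hjs) (fun i => ?_)
    change Etale ((j i).left ≫ snd.left)
    rw [hjl i]
    haveI := hoA i
    infer_instance
  · refine ⟨fun t => ?_⟩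
    obtain ⟨R, hR, hR'⟩ := cofan_jointly_surjective c hc f hsurj T a
    obtain ⟨T', m, hm, x, hx⟩ := exists_mem_range_of_mem_J hR t
    obtain ⟨i, y, hy⟩ := hR' m hm
    have e2 := (hopen i).rep.lift_snd y m hy
    have e3 : m.left = ((hopen i).rep.lift y m hy).left ≫ (j i).left ≫ snd.left := by
      rw [hjl i, ← Over.comp_left, e2]
    refine ⟨(j i).left (((hopen i).rep.lift y m hy).left x), ?_⟩
    rw [← hx, e3]
    simp only [Scheme.Hom.comp_apply]

end Atlas

end Groth.Agent.Lib.AlgSpGlue3H7
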