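import Groth.Agent.Lib.AlgSpGlue2_helper7
import Groth.Agent.Lib.AlgSpGlue4_helper7

/-!
# Zariski-local representability over covers of the target (helper7)

* `exists_rep_of_openCover`: if the base changes of `f : X ⟶ Y` to the members of an open cover of
  a scheme `T ⟶ Y` are representable with a Zariski local property `P`, then so is the base change
  to `T`.
* `exists_rep_of_isZarCover`: the same for a Zariski covering of the sheaf `Y`, the hypothesis
  being about affine schemes mapping to the members of the covering.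
-/

set_option autoImplicit false
universe u
open CategoryTheory CategoryTheory.Limits AlgebraicGeometry Opposite

namespace Groth.Agent.Lib.AlgSpGlue5H7

open AlgSp Groth.Agent.Lib.AlgSpOpenSub_helper7 Groth.Agent.Lib.AlgSpGlueH7
  Groth.Agent.Lib.AlgSpCov_helper7 Groth.Agent.Lib.AlgSpGlue2H7 Groth.Agent.Lib.AlgSpGlue4H7

variable {S : Scheme.{u}}

theorem exists_rep_of_openCover (P : MorphismProperty Scheme.{u}) [IsZariskiLocalAtTarget P]
    {X Y : Sp S} (f : X ⟶ Y) {T : Over S} (g : (yon S).obj T ⟶ Y)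
    (𝒰 : Scheme.OpenCover.{u} T.left)
    (h : ∀ i : 𝒰.I₀, ∃ (W : Over S) (w : W ⟶ Over.mk (𝒰.f i ≫ T.hom))
      (fst : (yon S).obj W ⟶ X),
      IsPullback fst ((yon S).map w) f
        ((yon S).map (Over.homMk (𝒰.f i) rfl : Over.mk (𝒰.f i ≫ T.hom) ⟶ T) ≫ g) ∧ P w.left) :
    ∃ (W : Over S) (w : W ⟶ T) (fst : (yon S).obj W ⟶ X),
      IsPullback fst ((yon S).map w) f g ∧ P w.left := by
  let Ti : 𝒰.I₀ → Over S := fun i => Over.mk (𝒰.f i ≫ T.hom)
  let ιi : ∀ i, Ti i ⟶ T := fun i => Over.homMk (𝒰.f i) rfl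
  choose W w fst hsq hP using h
  let q : pullback f g ⟶ (yon S).obj T := pullback.snd f g
  let φ : ∀ i, (yon S).obj (W i) ⟶ pullback f g := fun i =>
    pullback.lift (fst i) ((yon S).map (w i ≫ ιi i)) (by
      rw [(hsq i).w, Functor.map_comp, Category.assoc])
  have sq : ∀ i, IsPullback (φ i) ((yon S).map (w i)) q ((yon S).map (ιi i)) := by
    intro i
    have big : IsPullback ((yon S).map (w i)) (φ i ≫ pullback.fst f g)
        ((yon S).map (ιi i) ≫ g) f := by
      rw [pullback.lift_fst]
      exact (hsq i).flip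
    have bot : IsPullback q (pullback.fst f g) g f := (IsPullback.of_hasPullback f g).flip
    refine (IsPullback.of_bot big ?_ bot).flip
    show _ = pullback.lift _ _ _ ≫ pullback.snd f g
    rw [pullback.lift_snd, Functor.map_comp]
  obtain ⟨Y', e, j, hj, hjo, hjs⟩ := exists_iso_of_isPullback_openCover q
    (fun i => (yon S).map (ιi i))
    (fun i => (repWith_yon_map_iff @IsOpenImmersion _).2 (by
      change IsOpenImmersion (𝒰.f i)
      infer_instance))
    (fun T' s => openCover_jointly_surjective 𝒰 T' s) W φ (fun i => (yon S).map (w i)) sq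
  let snd : Y' ⟶ T := (yon S).preimage (e.hom ≫ q)
  have hsnd : (yon S).map snd = e.hom ≫ q := (yon S).map_preimage _
  have hpb : IsPullback (e.hom ≫ pullback.fst f g) ((yon S).map snd) f g := by
    rw [hsnd]
    exact IsPullback.of_iso (IsPullback.of_hasPullback f g) e.symm (Iso.refl _) (Iso.refl _)
      (Iso.refl _) (by simp) (by simp [q]) (by simp) (by simp)
  refine ⟨Y', snd, e.hom ≫ pullback.fst f g, hpb, ?_⟩
  refine IsZariskiLocalAtTarget.of_openCover 𝒰 (fun i => ?_)
  have sqY : IsPullback ((yon S).map (j i)) ((yon S).map (w i)) ((yon S).map snd)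
      ((yon S).map (ιi i)) := by
    rw [hsnd]
    refine IsPullback.of_iso (sq i) (Iso.refl _) e.symm (Iso.refl _) (Iso.refl _) ?_ ?_ ?_ ?_
    · rw [← hj i]
      simp
    · simp
    · simp [q]
    · simp
  have sqO : IsPullback (j i) (w i) snd (ιi i) :=
    IsPullback.of_map (yon S) (by
      apply (yon S).map_injective
      simp only [Functor.map_comp]
      exact sqY.w) sqY
  have sqS : IsPullback (j i).left (w i).left snd.left (𝒰.f i) := sqO.map (Over.forget S)
  have e1 : 𝒰.pullbackHom snd.left i = sqS.isoPullback.inv ≫ (w i).left :=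
    (sqS.isoPullback_inv_snd).symm
  rw [e1]
  exact (P.cancel_left_of_respectsIso _ _).2 (hP i)

/-- If `Yi ⟶ Y` is a Zariski covering, `q i : Xi ⟶ Yi` the base changes of `f : X ⟶ Y`, and the
base changes of the `q i` to affine schemes are representable with a Zariski local property `P`,
then every base change of `f` to a scheme is representable with property `P`. -/
theorem exists_rep_of_isZarCover (P : MorphismProperty Scheme.{u}) [IsZariskiLocalAtTarget P]
    {X Y : Sp S} (f : X ⟶ Y) {ι : Type u} (Yi : ι → Sp S) (j : ∀ i, Yi i ⟶ Y)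
    (hj : IsZarCover Yi j) (Xi : ι → Sp S) (p : ∀ i, Xi i ⟶ X) (q : ∀ i, Xi i ⟶ Yi i)
    (sq : ∀ i, IsPullback (p i) (q i) f (j i))
    (h : ∀ (i : ι) (Z : Over S), IsAffine Z.left → ∀ g' : (yon S).obj Z ⟶ Yi i,
      ∃ (W : Over S) (w : W ⟶ Z) (fst : (yon S).obj W ⟶ Xi i),
        IsPullback fst ((yon S).map w) (q i) g' ∧ P w.left)
    {T : Over S} (g : (yon S).obj T ⟶ Y) :
    ∃ (W : Over S) (w : W ⟶ T) (fst : (yon S).obj W ⟶ X),
      IsPullback fst ((yon S).map w) f g ∧ P w.left := by
  -- for each point of `T` an affine open neighbourhood mapping into some `Yi i`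
  have key : ∀ t : T.left, ∃ (A : T.left.Opens) (i : ι)
      (g' : (yon S).obj (Over.mk (A.ι ≫ T.hom)) ⟶ Yi i), t ∈ A ∧ IsAffineOpen A ∧
      g' ≫ j i = (yon S).map (Over.homMk A.ι rfl : Over.mk (A.ι ≫ T.hom) ⟶ T) ≫ g := by
    intro t
    obtain ⟨i, hi⟩ := hj.2 (Points.ofPt g t)
    obtain ⟨V, v, fstV, sqV⟩ := (hj.1 i).rep g
    haveI hvo : IsOpenImmersion v.left := (hj.1 i).property _ _ _ sqV
    have htV : t ∈ Set.range v.left := by
      rw [← ofPt_preimage_range (j i) g fstV v sqV]
      exact hi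
    obtain ⟨A, hA, htA, hAV⟩ : ∃ A : T.left.Opens, A ∈ T.left.affineOpens ∧ t ∈ A ∧
        A ≤ v.left.opensRange :=
      TopologicalSpace.Opens.isBasis_iff_nbhd.mp T.left.isBasis_affineOpens
        (show t ∈ v.left.opensRange from htV)
    have hr : Set.range A.ι ⊆ Set.range v.left := by
      rw [Scheme.Opens.range_ι]
      exact hAV
    let l : Over.mk (A.ι ≫ T.hom) ⟶ V := Over.homMk (IsOpenImmersion.lift v.left A.ι hr) (by
      show IsOpenImmersion.lift v.left A.ι hr ≫ V.hom = A.ι ≫ T.hom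
      rw [← Over.w v, ← Category.assoc, IsOpenImmersion.lift_fac])
    have hl : l ≫ v = (Over.homMk A.ι rfl : Over.mk (A.ι ≫ T.hom) ⟶ T) := by
      ext
      show IsOpenImmersion.lift v.left A.ι hr ≫ v.left = A.ι
      exact IsOpenImmersion.lift_fac _ _ _
    refine ⟨A, i, (yon S).map l ≫ fstV, htA, hA, ?_⟩
    rw [Category.assoc, sqV.w, ← Category.assoc, ← Functor.map_comp, hl]
  choose A i g' htA hA hg' using key
  let 𝒰 : Scheme.OpenCover.{u} T.left := coverOf (fun t : T.left => (A t).toScheme)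
    (fun t => (A t).ι) (fun y => ⟨y, by
      show y ∈ Set.range (A y).ι
      rw [Scheme.Opens.range_ι]
      exact htA y⟩)
  refine exists_rep_of_openCover P f g 𝒰 (fun t => ?_)
  obtain ⟨W, w, fst, hsq, hP⟩ := h (i t) (Over.mk ((A t).ι ≫ T.hom)) (hA t) (g' t)
  refine ⟨W, w, fst ≫ p (i t), ?_, hP⟩
  have := hsq.paste_horiz (sq (i t))
  rw [hg' t] at this
  exact this

end Groth.Agent.Lib.AlgSpGlue5H7
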