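import Groth.Agent.Lib.AlgSpOpenSub_helper7
import Mathlib.AlgebraicGeometry.Gluing
import Mathlib.AlgebraicGeometry.Sites.Representability
import Mathlib.CategoryTheory.Sites.LocallyBijective

/-!
# Zariski gluing of representable open subfunctors of an fppf sheaf over `S` (helper7)

Port of `AlgebraicGeometry.Scheme.LocalRepresentability` to sheaves on `Over S` with values in
`Type (u + 1)`: a sheaf `F : Sp S` covered by open subfunctors `h_{X i} ⟶ F` is representable.
-/

set_option autoImplicit false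
universe u
open CategoryTheory CategoryTheory.Limits AlgebraicGeometry Opposite

namespace Groth.Agent.Lib.AlgSpGlueH7

open AlgSp Groth.Agent.Lib.AlgSpOpenSub_helper7 Functor.relativelyRepresentable

variable {S : Scheme.{u}} {F : Sp S} {ι : Type u} {X : ι → Over S}
  {f : ∀ i, (yon S).obj (X i) ⟶ F} (hf : ∀ i, RepWith @IsOpenImmersion (f i))

lemma yE_map {G : Sp S} {T T' : Over S} (m : T' ⟶ T) (a : (yon S).obj T ⟶ G) :
    G.obj.map m.op (yE a) = yE ((yon S).map m ≫ a) :=
  GrothendieckTopology.uliftYonedaEquiv_naturality.{u + 1} (J S) a _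

lemma yE_yon_map {T Y : Over S} (α : T ⟶ Y) : yE ((yon S).map α) = ULift.up α := by
  apply ULift.ext
  change 𝟙 T ≫ α = α
  simp

/-- The intersections. -/
noncomputable abbrev V (i j : ι) : Over S := (hf i).rep.pullback (f j)

noncomputable abbrev p₁ (i j : ι) : V hf i j ⟶ X i := (hf i).rep.fst' (f j)

noncomputable abbrev p₂ (i j : ι) : V hf i j ⟶ X j := (hf i).rep.snd (f j)

lemma isPullback_V (i j : ι) :
    IsPullback ((yon S).map (p₁ hf i j)) ((yon S).map (p₂ hf i j)) (f i) (f j) :=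
  (hf i).rep.isPullback' (f j)

instance isOpenImmersion_p₁ (i j : ι) : IsOpenImmersion (p₁ hf i j).left :=
  (hf j).property (f i) _ _ (isPullback_V hf i j).flip

instance isOpenImmersion_p₂ (i j : ι) : IsOpenImmersion (p₂ hf i j).left :=
  (hf i).property (f j) _ _ (isPullback_V hf i j)

include hf in
lemma mono_f (i : ι) : Mono (f i) := mono_of_openImmersion (f i) (hf i)

lemma p₁_self_eq_p₂ (i : ι) : p₁ hf i i = p₂ hf i i := by
  haveI := mono_f hf i
  apply (yon S).map_injective
  rw [← cancel_mono (f i)]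
  exact (isPullback_V hf i i).w

lemma isIso_p₁_self (i : ι) : IsIso (p₁ hf i i) := by
  haveI := mono_f hf i
  have h : IsKernelPair (f i) ((yon S).map (p₁ hf i i)) ((yon S).map (p₂ hf i i)) :=
    isPullback_V hf i i
  haveI : IsIso ((yon S).map (p₁ hf i i)) := h.isIso_of_mono
  exact isIso_of_fully_faithful (yon S) _

noncomputable def tOver (i j : ι) : V hf i j ⟶ V hf j i := (hf i).rep.symmetry (hf j).rep

@[reassoc (attr := simp)]
lemma tOver_p₁ (i j : ι) : tOver hf i j ≫ p₁ hf j i = p₂ hf i j := symmetry_fst _ _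

@[reassoc (attr := simp)]
lemma tOver_p₂ (i j : ι) : tOver hf i j ≫ p₂ hf j i = p₁ hf i j := symmetry_snd _ _

lemma tOver_self (i : ι) : tOver hf i i = 𝟙 _ := by
  apply (hf i).rep.hom_ext'
  · rw [tOver_p₁, Category.id_comp]
    exact (p₁_self_eq_p₂ hf i).symm
  · rw [tOver_p₂, Category.id_comp]
    exact p₁_self_eq_p₂ hf i

set_option backward.isDefEq.respectTransparency false in
noncomputable def t'Over (i j k : ι) :
    Limits.pullback (p₁ hf i j) (p₁ hf i k) ⟶ Limits.pullback (p₁ hf j k) (p₁ hf j i) :=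
  lift₃ (hf j).rep (f k) (f i) (pullback₃.p₂ (hf i).rep (f j) (f k))
    (pullback₃.p₃ (hf i).rep (f j) (f k)) (pullback₃.p₁ (hf i).rep (f j) (f k))
    (by simp) (by simp)

set_option backward.isDefEq.respectTransparency false in
lemma t'Over_fac (i j k : ι) :
    t'Over hf i j k ≫ pullback.snd (p₁ hf j k) (p₁ hf j i) =
      pullback.fst (p₁ hf i j) (p₁ hf i k) ≫ tOver hf i j :=
  (hf j).rep.hom_ext' (by simp [t'Over, tOver]) (by simp [t'Over, tOver])

set_option backward.isDefEq.respectTransparency false in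
lemma t'Over_cocycle (i j k : ι) :
    t'Over hf i j k ≫ t'Over hf j k i ≫ t'Over hf k i j = 𝟙 _ :=
  pullback₃.hom_ext (hf₁ := (hf i).rep) (f₂ := f j) (f₃ := f k)
    (by simp [t'Over]) (by simp [t'Over]) (by simp [t'Over])

/-- Comparison of the pullback in `Over S` with the pullback of schemes. -/
noncomputable def pIso (i j k : ι) :
    (Limits.pullback (p₁ hf i j) (p₁ hf i k)).left ≅
      Limits.pullback (p₁ hf i j).left (p₁ hf i k).left :=
  PreservesPullback.iso (Over.forget S) (p₁ hf i j) (p₁ hf i k)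

lemma pIso_hom_fst (i j k : ι) :
    (pIso hf i j k).hom ≫ pullback.fst (p₁ hf i j).left (p₁ hf i k).left =
      (pullback.fst (p₁ hf i j) (p₁ hf i k)).left :=
  PreservesPullback.iso_hom_fst (Over.forget S) (p₁ hf i j) (p₁ hf i k)

lemma pIso_hom_snd (i j k : ι) :
    (pIso hf i j k).hom ≫ pullback.snd (p₁ hf i j).left (p₁ hf i k).left =
      (pullback.snd (p₁ hf i j) (p₁ hf i k)).left :=
  PreservesPullback.iso_hom_snd (Over.forget S) (p₁ hf i j) (p₁ hf i k)

lemma pIso_inv_fst (i j k : ι) :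
    (pIso hf i j k).inv ≫ (pullback.fst (p₁ hf i j) (p₁ hf i k)).left =
      pullback.fst (p₁ hf i j).left (p₁ hf i k).left :=
  PreservesPullback.iso_inv_fst (Over.forget S) (p₁ hf i j) (p₁ hf i k)

lemma pIso_inv_snd (i j k : ι) :
    (pIso hf i j k).inv ≫ (pullback.snd (p₁ hf i j) (p₁ hf i k)).left =
      pullback.snd (p₁ hf i j).left (p₁ hf i k).left :=
  PreservesPullback.iso_inv_snd (Over.forget S) (p₁ hf i j) (p₁ hf i k)

noncomputable def t'Sch (i j k : ι) :
    Limits.pullback (p₁ hf i j).left (p₁ hf i k).left ⟶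
      Limits.pullback (p₁ hf j k).left (p₁ hf j i).left :=
  (pIso hf i j k).inv ≫ (t'Over hf i j k).left ≫ (pIso hf j k i).hom

lemma t'Sch_fac (i j k : ι) :
    t'Sch hf i j k ≫ pullback.snd (p₁ hf j k).left (p₁ hf j i).left =
      pullback.fst (p₁ hf i j).left (p₁ hf i k).left ≫ (tOver hf i j).left := by
  have h := congrArg (fun m => m.left) (t'Over_fac hf i j k)
  simp only [Over.comp_left] at h
  rw [t'Sch, Category.assoc, Category.assoc, pIso_hom_snd, h, ← Category.assoc, pIso_inv_fst]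

lemma t'Sch_cocycle (i j k : ι) :
    t'Sch hf i j k ≫ t'Sch hf j k i ≫ t'Sch hf k i j = 𝟙 _ := by
  have h := congrArg (fun m => m.left) (t'Over_cocycle hf i j k)
  simp only [Over.comp_left, Over.id_left] at h
  simp only [t'Sch, Category.assoc, Iso.hom_inv_id_assoc]
  rw [reassoc_of% h, Iso.inv_hom_id]

/-- The glue data. -/
noncomputable def glueData : Scheme.GlueData where
  J := ι
  U i := (X i).left
  V := fun (i, j) ↦ (V hf i j).left
  f i j := (p₁ hf i j).left
  f_mono i j := inferInstance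
  f_id i := by
    haveI := isIso_p₁_self hf i
    exact inferInstanceAs (IsIso ((Over.forget S).map (p₁ hf i i)))
  t i j := (tOver hf i j).left
  t_id i := by
    rw [tOver_self]
    rfl
  t' i j k := t'Sch hf i j k
  t_fac i j k := t'Sch_fac hf i j k
  cocycle i j k := t'Sch_cocycle hf i j k
  f_open i j := inferInstance

/-- The structure morphism of the glued scheme. -/
noncomputable def gluedHom : (glueData hf).glued ⟶ S :=
  Multicoequalizer.desc _ _ (fun i => (X i).hom) (by
    rintro ⟨i, j⟩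
    change (p₁ hf i j).left ≫ (X i).hom = ((tOver hf i j).left ≫ (p₁ hf j i).left) ≫ (X j).hom
    rw [Category.assoc, Over.w, Over.w, Over.w])

/-- The glued scheme over `S`. -/
noncomputable def Yg : Over S := Over.mk (gluedHom hf)

noncomputable def toGlued (i : ι) : X i ⟶ Yg hf :=
  Over.homMk ((glueData hf).ι i) (by
    show (glueData hf).ι i ≫ gluedHom hf = (X i).hom
    exact Multicoequalizer.π_desc _ _ _ _ _)

instance isOpenImmersion_toGlued (i : ι) : IsOpenImmersion (toGlued hf i).left :=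
  inferInstanceAs (IsOpenImmersion ((glueData hf).ι i))

lemma glue_cond (i j : ι) : p₁ hf i j ≫ toGlued hf i = p₂ hf i j ≫ toGlued hf j := by
  ext
  have h := (glueData hf).glue_condition i j
  have h2 := congrArg (fun m => m.left) (tOver_p₁ hf i j)
  simp only [Over.comp_left] at h2
  show (p₁ hf i j).left ≫ (glueData hf).ι i = (p₂ hf i j).left ≫ (glueData hf).ι j
  rw [← h2, Category.assoc]
  exact h.symm

lemma exists_lift_V {W : Over S} {i j : ι} (gi : W ⟶ X i) (gj : W ⟶ X j)
    (h : gi ≫ toGlued hf i = gj ≫ toGlued hf j) :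
    ∃ φ : W ⟶ V hf i j, φ ≫ p₁ hf i j = gi ∧ φ ≫ p₂ hf i j = gj := by
  have h' : gi.left ≫ (glueData hf).ι i = gj.left ≫ (glueData hf).ι j :=
    congrArg (fun m => m.left) h
  obtain ⟨φ₁, h1, h2⟩ := PullbackCone.IsLimit.lift' ((glueData hf).vPullbackConeIsLimit i j)
    gi.left gj.left h'
  obtain ⟨φ₀, hφ₀⟩ : ∃ φ₀ : W.left ⟶ (V hf i j).left, φ₀ = φ₁ := ⟨φ₁, rfl⟩
  have h1' : φ₀ ≫ (p₁ hf i j).left = gi.left := by rw [hφ₀]; exact h1
  have h2' : φ₀ ≫ (tOver hf i j).left ≫ (p₁ hf j i).left = gj.left := by rw [hφ₀]; exact h2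
  clear hφ₀ h1 h2
  have e : (tOver hf i j).left ≫ (p₁ hf j i).left = (p₂ hf i j).left := by
    rw [← Over.comp_left, tOver_p₁]
  refine ⟨Over.homMk φ₀ ?_, ?_, ?_⟩
  · rw [← Over.w (p₁ hf i j), ← Category.assoc, h1', Over.w]
  · ext
    exact h1'
  · ext
    simp only [Over.comp_left, Over.homMk_left]
    rw [← e]
    exact h2'

lemma cover_mem : Sieve.ofArrows X (toGlued hf) ∈ J S (Yg hf) := by
  rw [GrothendieckTopology.mem_over_iff, Sieve.overEquiv_ofArrows]
  have h := (glueData hf).openCover.mem_grothendieckTopology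
  exact Precoverage.toGrothendieck_mono Scheme.zariskiPrecoverage_le_fppfPrecoverage _ h

lemma exists_desc : ∃ g : (yon S).obj (Yg hf) ⟶ F, ∀ i, (yon S).map (toGlued hf i) ≫ g = f i := by
  have hG : Presieve.IsSheafFor F.obj (Presieve.ofArrows X (toGlued hf)) :=
    ((isSheaf_iff_isSheaf_of_type _ _).1 F.property).isSheafFor _ (cover_mem hf)
  have hcompat : Presieve.Arrows.Compatible F.obj (toGlued hf) (fun i => yE (f i)) := by
    intro i j W gi gj hij
    obtain ⟨φ, h1, h2⟩ := exists_lift_V hf gi gj hij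
    rw [yE_map, yE_map, ← h1, ← h2, Functor.map_comp, Functor.map_comp, Category.assoc,
      Category.assoc, (isPullback_V hf i j).w]
  obtain ⟨t, ht, -⟩ := ((Presieve.isSheafFor_arrows_iff F.obj (toGlued hf)).1 hG) _ hcompat
  refine ⟨yE.symm t, fun i => ?_⟩
  apply yE.injective
  rw [yE_symm_map, Equiv.apply_symm_apply]
  exact ht i

lemma comp_toGlued_eq {T : Over S} {i j : ι} (a : T ⟶ X i) (b : T ⟶ X j)
    (h : (yon S).map a ≫ f i = (yon S).map b ≫ f j) :
    a ≫ toGlued hf i = b ≫ toGlued hf j := by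
  have e1 := (hf i).rep.lift'_fst a b h
  have e2 := (hf i).rep.lift'_snd a b h
  calc a ≫ toGlued hf i = ((hf i).rep.lift' a b h ≫ p₁ hf i j) ≫ toGlued hf i := by rw [e1]
    _ = ((hf i).rep.lift' a b h ≫ p₂ hf i j) ≫ toGlued hf j := by
      rw [Category.assoc, glue_cond, Category.assoc]
    _ = b ≫ toGlued hf j := by rw [e2]

lemma desc_injective (g : (yon S).obj (Yg hf) ⟶ F)
    (hg : ∀ i, (yon S).map (toGlued hf i) ≫ g = f i) {T : Over S} (α β : T ⟶ Yg hf)
    (h : (yon S).map α ≫ g = (yon S).map β ≫ g) : α = β := by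
  ext
  let 𝒰 := (glueData hf).openCover.pullback₁ α.left
  refine Scheme.Cover.hom_ext 𝒰 _ _ (fun i => ?_)
  let 𝒱 := (glueData hf).openCover.pullback₁ (𝒰.f i ≫ β.left)
  refine Scheme.Cover.hom_ext 𝒱 _ _ (fun j => ?_)
  let γ₀ : 𝒱.X j ⟶ T.left := 𝒱.f j ≫ 𝒰.f i
  let a₀ : 𝒱.X j ⟶ (X i).left := 𝒱.f j ≫ pullback.snd α.left ((glueData hf).ι i)
  let b₀ : 𝒱.X j ⟶ (X j).left := pullback.snd (𝒰.f i ≫ β.left) ((glueData hf).ι j)
  have ha₀ : a₀ ≫ (toGlued hf i).left = γ₀ ≫ α.left := by
    show (𝒱.f j ≫ pullback.snd α.left ((glueData hf).ι i)) ≫ (glueData hf).ι i =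
      (𝒱.f j ≫ pullback.fst α.left ((glueData hf).ι i)) ≫ α.left
    rw [Category.assoc, Category.assoc]
    exact congrArg (fun m => 𝒱.f j ≫ m)
      (pullback.condition (f := α.left) (g := (glueData hf).ι i)).symm
  have hb₀ : b₀ ≫ (toGlued hf j).left = γ₀ ≫ β.left := by
    show pullback.snd (𝒰.f i ≫ β.left) ((glueData hf).ι j) ≫ (glueData hf).ι j =
      (pullback.fst (𝒰.f i ≫ β.left) ((glueData hf).ι j) ≫ 𝒰.f i) ≫ β.left
    rw [Category.assoc]
    exact (pullback.condition (f := 𝒰.f i ≫ β.left) (g := (glueData hf).ι j)).symm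
  let W : Over S := Over.mk (γ₀ ≫ T.hom)
  let γ : W ⟶ T := Over.homMk γ₀ rfl
  let a : W ⟶ X i := Over.homMk a₀ (by
    show a₀ ≫ (X i).hom = γ₀ ≫ T.hom
    rw [← Over.w (toGlued hf i), ← Category.assoc, ha₀, Category.assoc, Over.w])
  let b : W ⟶ X j := Over.homMk b₀ (by
    show b₀ ≫ (X j).hom = γ₀ ≫ T.hom
    rw [← Over.w (toGlued hf j), ← Category.assoc, hb₀, Category.assoc, Over.w])
  have ha : a ≫ toGlued hf i = γ ≫ α := by
    ext
    exact ha₀
  have hb : b ≫ toGlued hf j = γ ≫ β := by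
    ext
    exact hb₀
  have key : (yon S).map a ≫ f i = (yon S).map b ≫ f j := by
    rw [← hg i, ← hg j, ← Category.assoc, ← Category.assoc, ← Functor.map_comp,
      ← Functor.map_comp, ha, hb, Functor.map_comp, Functor.map_comp, Category.assoc,
      Category.assoc, h]
  have e := comp_toGlued_eq hf a b key
  rw [ha, hb] at e
  have e' := congrArg (fun m => m.left) e
  simp only [Over.comp_left] at e'
  have : 𝒱.f j ≫ 𝒰.f i ≫ α.left = γ₀ ≫ α.left := (Category.assoc _ _ _).symm
  rw [this]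
  have : 𝒱.f j ≫ 𝒰.f i ≫ β.left = γ₀ ≫ β.left := (Category.assoc _ _ _).symm
  rw [this]
  exact e'

include hf in
/-- **Zariski gluing**: an fppf sheaf over `S` covered by representable open subfunctors is
representable, by the scheme glued from the representing schemes. -/
theorem exists_iso_of_openCover
    (hsurj : ∀ (T : Over S) (a : (yon S).obj T ⟶ F), ∃ R ∈ J S T,
      ∀ ⦃T' : Over S⦄ (m : T' ⟶ T), R m →
        ∃ (i : ι) (b : T' ⟶ X i), (yon S).map m ≫ a = (yon S).map b ≫ f i) :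
    ∃ (Y : Over S) (e : (yon S).obj Y ≅ F) (j : ∀ i, X i ⟶ Y),
      (∀ i, (yon S).map (j i) ≫ e.hom = f i) ∧ (∀ i, IsOpenImmersion (j i).left) ∧
      (∀ y : Y.left, ∃ i, y ∈ Set.range (j i).left.base) := by
  obtain ⟨g, hg⟩ := exists_desc hf
  have hinj : Sheaf.IsLocallyInjective g := by
    rw [Sheaf.isLocallyInjective_iff_injective]
    intro T s t hst
    have h2 : (yon S).map s.down ≫ g = (yon S).map t.down ≫ g := by
      apply yE.injective
      rw [yE_comp, yE_comp, yE_yon_map, yE_yon_map]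
      exact hst
    exact ULift.ext _ _ (desc_injective hf g hg s.down t.down h2)
  have hsur : Sheaf.IsLocallySurjective g := by
    refine ⟨fun {T} s => ?_⟩
    obtain ⟨R, hR, hR'⟩ := hsurj T (yE.symm s)
    refine (J S).superset_covering ?_ hR
    intro T' m hm
    obtain ⟨i, b, hb⟩ := hR' m hm
    refine ⟨⟨b ≫ toGlued hf i⟩, ?_⟩
    have h1 : yE ((yon S).map (b ≫ toGlued hf i) ≫ g) = yE ((yon S).map m ≫ yE.symm s) := by
      rw [Functor.map_comp, Category.assoc, hg, hb]
    rw [yE_comp, yE_yon_map, yE_symm_map, Equiv.apply_symm_apply] at h1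
    exact h1
  haveI : IsIso g := (Sheaf.isLocallyBijective_iff_isIso g).1 ⟨hinj, hsur⟩
  refine ⟨Yg hf, asIso g, toGlued hf, hg, fun i => inferInstance, fun y => ?_⟩
  obtain ⟨i, x, hx⟩ := (glueData hf).ι_jointly_surjective y
  exact ⟨i, x, hx⟩

end Groth.Agent.Lib.AlgSpGlueH7
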