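import Mathlib
import Groth.Prelude.Def_Dual3
import Groth.Agent.Lib.FibStalkCM_helper5
import Groth.Agent.Lib.FlatGor_helper9

/-!
# Gorenstein morphisms at a point (helper9)

Gorenstein analogues of helper5's `FibStalkIso.main9768`, `FibStalkCM.cm_comp_iff`, `main9766`,
`main9767`, via `fibStalkEquiv` and `GorFlat9.gorenstein_iff`.  APPEND-ONLY once landed.
-/

set_option autoImplicit false
universe u

namespace Groth.Agent.GorMor9

open AlgebraicGeometry CategoryTheory IsLocalRing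
open Groth.Agent.FibStalkDimH8 FibRedH8 Groth.Agent.FibStalkIso Groth.Agent.FibStalkCM
open Groth.Agent.GorFlat9

section Alg

variable (A B : Type u) [CommRing A] [CommRing B] [IsLocalRing A] [IsLocalRing B]
  [Algebra A B] [IsLocalHom (algebraMap A B)] (I : Ideal A)

/-- `B/IB` is Gorenstein iff `A/I` and the closed fibre are (Noetherian hypotheses on the quotients
only). -/
theorem isGor_quot_iff' [Module.Flat A B] (hI : I ≤ maximalIdeal A)
    [IsNoetherianRing (A ⧸ I)] [IsNoetherianRing (B ⧸ I.map (algebraMap A B))] :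
    LocCoh.IsGorensteinLocalRing (B ⧸ I.map (algebraMap A B)) ↔
      LocCoh.IsGorensteinLocalRing (A ⧸ I) ∧
        LocCoh.IsGorensteinLocalRing (EGA4.FibRing A B) := by
  haveI := Groth.Agent.FibDim.isLocalRing_quot hI
  haveI : IsLocalRing (B ⧸ I.map (algebraMap A B)) :=
    Groth.Agent.FibDim.isLocalRing_quot (Groth.Agent.FibDim.map_le_maximalIdeal hI)
  haveI := Groth.Agent.FibDim.isLocalHom_quot (B := B) hI
  haveI : Module.Flat (A ⧸ I) (B ⧸ I.map (algebraMap A B)) :=
    Groth.Agent.Lib.FSNilpH3.flat_quot I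
  obtain ⟨e⟩ := fibRing_quot_equiv' A B I hI
  rw [gorenstein_iff (A ⧸ I) (B ⧸ I.map (algebraMap A B)), gorenstein_congr e]

end Alg

section Sch

variable {X Y Z : Scheme.{u}} (f : X ⟶ Y) (g : Y ⟶ Z) (x : X)

/-- **S3624** (pointwise): flat, `O_{X,x}` Gorenstein, `O_{Y,f x}` Noetherian ⇒ `f` Gorenstein at `x`
and `O_{Y, f x}` Gorenstein. -/
theorem gor_of_flat [IsLocallyNoetherian Y] [Flat f]
    (hX : LocCoh.IsGorensteinLocalRing ↑(X.presheaf.stalk x)) :
    Dual3.IsGorensteinAt f x ∧ LocCoh.IsGorensteinLocalRing ↑(Y.presheaf.stalk (f x)) := by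
  have hflat : (f.stalkMap x).hom.Flat := Flat.stalkMap f x
  letI : Algebra (Y.presheaf.stalk (f x)) (X.presheaf.stalk x) := (f.stalkMap x).hom.toAlgebra
  haveI : IsLocalHom (algebraMap (Y.presheaf.stalk (f x)) (X.presheaf.stalk x)) :=
    inferInstanceAs (IsLocalHom (f.stalkMap x).hom)
  haveI : Module.Flat (Y.presheaf.stalk (f x)) (X.presheaf.stalk x) := hflat
  haveI : IsNoetherianRing (X.presheaf.stalk x) := hX.toIsNoetherian
  obtain ⟨hA, hF⟩ := (gorenstein_iff (Y.presheaf.stalk (f x)) (X.presheaf.stalk x)).1 hX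
  refine ⟨⟨hflat, ?_⟩, hA⟩
  have hF' : LocCoh.IsGorensteinLocalRing (X.presheaf.stalk x ⧸ fibIdeal f x) := hF
  exact (gorenstein_congr (fibStalkEquiv f x)).1 hF'

/-- Gorenstein analogue of `cm_comp_iff`. -/
theorem gor_comp_iff (hf1 : (f.stalkMap x).hom.Flat)
    (hN1 : IsNoetherianRing ((g.fiber (g.base (f x))).presheaf.stalk (g.asFiber (f x))))
    (hN2 : IsNoetherianRing
      (((f ≫ g).fiber ((f ≫ g).base x)).presheaf.stalk ((f ≫ g).asFiber x))) :
    LocCoh.IsGorensteinLocalRing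
        (((f ≫ g).fiber ((f ≫ g).base x)).presheaf.stalk ((f ≫ g).asFiber x)) ↔
      LocCoh.IsGorensteinLocalRing
          ((g.fiber (g.base (f x))).presheaf.stalk (g.asFiber (f x))) ∧
        LocCoh.IsGorensteinLocalRing
          ((f.fiber (f.base x)).presheaf.stalk (f.asFiber x)) := by
  letI : Algebra (Y.presheaf.stalk (f x)) (X.presheaf.stalk x) := (f.stalkMap x).hom.toAlgebra
  haveI : IsLocalHom (algebraMap (Y.presheaf.stalk (f x)) (X.presheaf.stalk x)) :=
    inferInstanceAs (IsLocalHom (f.stalkMap x).hom)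
  haveI : Module.Flat (Y.presheaf.stalk (f x)) (X.presheaf.stalk x) := hf1
  have hIle : fibIdeal g (f x) ≤ maximalIdeal (Y.presheaf.stalk (f x)) := fibIdeal_le g (f x)
  have hmap : (fibIdeal g (f x)).map (algebraMap (Y.presheaf.stalk (f x)) (X.presheaf.stalk x)) =
      fibIdeal (f ≫ g) x := (fibIdeal_comp f g x).symm
  let e : (X.presheaf.stalk x ⧸ (fibIdeal g (f x)).map
        (algebraMap (Y.presheaf.stalk (f x)) (X.presheaf.stalk x))) ≃+*
      ((f ≫ g).fiber ((f ≫ g).base x)).presheaf.stalk ((f ≫ g).asFiber x) :=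
    (Ideal.quotEquivOfEq hmap).trans (fibStalkEquiv (f ≫ g) x)
  haveI : IsNoetherianRing (X.presheaf.stalk x ⧸ (fibIdeal g (f x)).map
      (algebraMap (Y.presheaf.stalk (f x)) (X.presheaf.stalk x))) :=
    isNoetherianRing_of_ringEquiv _ e.symm
  haveI : IsNoetherianRing (Y.presheaf.stalk (f x) ⧸ fibIdeal g (f x)) :=
    isNoetherianRing_of_ringEquiv _ (fibStalkEquiv g (f x)).symm
  have key := isGor_quot_iff' (Y.presheaf.stalk (f x)) (X.presheaf.stalk x)
    (fibIdeal g (f x)) hIle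
  have e3 : (X.presheaf.stalk x ⧸ fibIdeal f x) ≃+*
      EGA4.FibRing (Y.presheaf.stalk (f x)) (X.presheaf.stalk x) := RingEquiv.refl _
  rw [← gorenstein_congr e, key, gorenstein_congr (fibStalkEquiv g (f x)),
    ← gorenstein_congr e3, gorenstein_congr (fibStalkEquiv f x)]

/-- composition of Gorenstein morphisms at a point -/
theorem gor_comp (hN : IsLocallyNoetherian ((f ≫ g).fiber (g (f x))))
    (hf : Dual3.IsGorensteinAt f x) (hg : Dual3.IsGorensteinAt g (f x)) :
    Dual3.IsGorensteinAt (f ≫ g) x := by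
  obtain ⟨hf1, hf2⟩ := hf
  obtain ⟨hg1, hg2⟩ := hg
  have hflat : ((f ≫ g).stalkMap x).hom.Flat := by
    rw [Scheme.Hom.stalkMap_comp]
    exact RingHom.Flat.comp hg1 hf1
  refine ⟨hflat, ?_⟩
  have hN2 : IsNoetherianRing
      (((f ≫ g).fiber ((f ≫ g).base x)).presheaf.stalk ((f ≫ g).asFiber x)) := by
    haveI : IsLocallyNoetherian ((f ≫ g).fiber ((f ≫ g).base x)) := hN
    infer_instance
  exact (gor_comp_iff f g x hf1 hg2.toIsNoetherian hN2).2 ⟨hg2, hf2⟩

/-- descent of Gorenstein-ness to the factors -/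
theorem gor_of_comp
    (hNg : IsLocallyNoetherian (g.fiber (g (f x))))
    (h : Dual3.IsGorensteinAt (f ≫ g) x) (hfl : (f.stalkMap x).hom.Flat) :
    Dual3.IsGorensteinAt f x ∧ Dual3.IsGorensteinAt g (f x) := by
  obtain ⟨h1, h2⟩ := h
  have hN1 : IsNoetherianRing ((g.fiber (g.base (f x))).presheaf.stalk (g.asFiber (f x))) := by
    haveI := hNg
    infer_instance
  obtain ⟨hg2, hf2⟩ := (gor_comp_iff f g x hfl hN1 h2.toIsNoetherian).1 h2
  refine ⟨⟨hfl, hf2⟩, ⟨?_, hg2⟩⟩
  have hff : (f.stalkMap x).hom.FaithfullyFlat := by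
    letI : Algebra (Y.presheaf.stalk (f x)) (X.presheaf.stalk x) := (f.stalkMap x).hom.toAlgebra
    haveI : IsLocalHom (algebraMap (Y.presheaf.stalk (f x)) (X.presheaf.stalk x)) :=
      inferInstanceAs (IsLocalHom (f.stalkMap x).hom)
    haveI : Module.Flat (Y.presheaf.stalk (f x)) (X.presheaf.stalk x) := hfl
    exact (Module.FaithfullyFlat.of_flat_of_isLocalHom :
      Module.FaithfullyFlat (Y.presheaf.stalk (f x)) (X.presheaf.stalk x))
  have h1' : ((f.stalkMap x).hom.comp (g.stalkMap (f x)).hom).Flat := by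
    have := h1
    rw [Scheme.Hom.stalkMap_comp] at this
    exact this
  exact Groth.Agent.Lib.FlatDescent_helper4.ringHom_flat_of_comp _ _ hff h1'

end Sch

end Groth.Agent.GorMor9
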