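import Mathlib
import Groth.Agent.Lib.GorMor_helper9
import Groth.Agent.Lib.GorField2_helper9
import Groth.Agent.Lib.FibMapFlat_helper5
import Groth.Agent.Lib.FibNoeth_helper5
import Groth.Agent.Lib.CMPtDescent_helper5

/-!
# Gorenstein morphisms and base change (helper9)
APPEND-ONLY once landed.
-/

set_option autoImplicit false
universe u

namespace Groth.Agent.GorMor9

open AlgebraicGeometry CategoryTheory Limits IsLocalRing TensorProduct
open Groth.Agent.GorFlat9

/-- all stalks of a scheme isomorphic to `Spec R` with `R` Gorenstein are Gorenstein -/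
theorem gor_stalk_of_iso_Spec {W : Scheme.{u}} (R : Type u) [CommRing R]
    [hR : LocCoh.IsGorensteinRing R] (e : W ≅ Spec (.of R)) (t : W) :
    LocCoh.IsGorensteinLocalRing (W.presheaf.stalk t) := by
  obtain ⟨p, rfl⟩ : ∃ p, e.inv.base p = t := ⟨e.hom.base t, by
    rw [← Scheme.Hom.comp_apply, e.hom_inv_id]; rfl⟩
  have eq := Groth.Agent.Lib.SchDual_helper6.stalkEquiv (A := R) e.inv p
  exact (gorenstein_congr eq).2 (hR.isGorensteinLocalRing_localization p.asIdeal)

section Paste

variable {Y' Y : Scheme.{u}} (g : Y' ⟶ Y) (y' : Y')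
  {W' W : Scheme.{u}} (φ : W' ⟶ W) (p' : W' ⟶ Spec (Y'.residueField y'))
  (p : W ⟶ Spec (Y.residueField (g y')))
  (sq : IsPullback φ p' p (Spec.map (g.residueFieldMap y')))

include sq in
/-- the fibre of `φ` over `w` is `Spec (κ(y') ⊗_{κ(y)} κ(w))` -/
theorem nonempty_fiber_iso (w : W) (θ : Y.residueField (g y') ⟶ W.residueField w)
    (hθ : Spec.map θ = W.fromSpecResidueField w ≫ p) :
    letI : Algebra (Y.residueField (g y')) (Y'.residueField y') :=
      (g.residueFieldMap y').hom.toAlgebra
    letI : Algebra (Y.residueField (g y')) (W.residueField w) := θ.hom.toAlgebra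
    Nonempty (φ.fiber w ≅
      Spec (.of ((Y'.residueField y') ⊗[Y.residueField (g y')] (W.residueField w)))) := by
  letI : Algebra (Y.residueField (g y')) (Y'.residueField y') :=
    (g.residueFieldMap y').hom.toAlgebra
  letI : Algebra (Y.residueField (g y')) (W.residueField w) := θ.hom.toAlgebra
  have s1 : IsPullback (φ.fiberι w) (φ.fiberToSpecResidueField w) φ (W.fromSpecResidueField w) :=
    IsPullback.of_hasPullback _ _
  have s2 := s1.paste_horiz sq.flip
  rw [← hθ] at s2
  have e1 : φ.fiber w ≅ pullback (Spec.map (g.residueFieldMap y')) (Spec.map θ) := s2.isoPullback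
  have e2 : pullback (Spec.map (g.residueFieldMap y')) (Spec.map θ) ≅
      Spec (.of ((Y'.residueField y') ⊗[Y.residueField (g y')] (W.residueField w))) :=
    pullbackSpecIso (Y.residueField (g y')) (Y'.residueField y') (W.residueField w)
  exact ⟨e1 ≪≫ e2⟩

end Paste

section PasteGor

variable {Y' Y : Scheme.{u}} (g : Y' ⟶ Y) (y' : Y')
  {W' W : Scheme.{u}} (φ : W' ⟶ W) (p' : W' ⟶ Spec (Y'.residueField y'))
  (p : W ⟶ Spec (Y.residueField (g y')))
  (sq : IsPullback φ p' p (Spec.map (g.residueFieldMap y')))

include sq in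
/-- stalks of the fibres of `φ` are Gorenstein when one of the two residue field extensions is
finitely generated -/
theorem gor_stalk_fiber (w : W) (θ : Y.residueField (g y') ⟶ W.residueField w)
    (hθ : Spec.map θ = W.fromSpecResidueField w ≫ p)
    (hfin : (g.residueFieldMap y').hom.EssFiniteType ∨ θ.hom.EssFiniteType) (t : φ.fiber w) :
    LocCoh.IsGorensteinLocalRing ((φ.fiber w).presheaf.stalk t) := by
  letI : Algebra (Y.residueField (g y')) (Y'.residueField y') :=
    (g.residueFieldMap y').hom.toAlgebra
  letI : Algebra (Y.residueField (g y')) (W.residueField w) := θ.hom.toAlgebra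
  obtain ⟨e⟩ := nonempty_fiber_iso g y' φ p' p sq w θ hθ
  haveI hG : LocCoh.IsGorensteinRing
      ((Y'.residueField y') ⊗[Y.residueField (g y')] (W.residueField w)) := by
    rcases hfin with h | h
    · haveI : Algebra.EssFiniteType (Y.residueField (g y')) (Y'.residueField y') := h
      haveI := isGorRing_field (W.residueField w)
      exact isGorRing_tensor_field (Y.residueField (g y')) (Y'.residueField y')
        (W.residueField w) (IntermediateField.fg_top_iff.2 inferInstance)
    · haveI : Algebra.EssFiniteType (Y.residueField (g y')) (W.residueField w) := h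
      haveI := isGorRing_field (Y'.residueField y')
      have h1 := isGorRing_tensor_field (Y.residueField (g y')) (W.residueField w)
        (Y'.residueField y') (IntermediateField.fg_top_iff.2 inferInstance)
      exact isGorRing_of_ringEquiv
        (Algebra.TensorProduct.comm (Y.residueField (g y')) (W.residueField w)
          (Y'.residueField y')).toRingEquiv h1
  exact gor_stalk_of_iso_Spec _ e t

include sq in
/-- ascent of the Gorenstein property along `φ` -/
theorem gor_stalk_ascent [Flat φ] (w' : W')
    (θ : Y.residueField (g y') ⟶ W.residueField (φ w'))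
    (hθ : Spec.map θ = W.fromSpecResidueField (φ w') ≫ p)
    (hfin : (g.residueFieldMap y').hom.EssFiniteType ∨ θ.hom.EssFiniteType)
    (hW : LocCoh.IsGorensteinLocalRing (W.presheaf.stalk (φ w')))
    (hN : IsNoetherianRing (W'.presheaf.stalk w')) :
    LocCoh.IsGorensteinLocalRing (W'.presheaf.stalk w') := by
  letI : Algebra (W.presheaf.stalk (φ w')) (W'.presheaf.stalk w') := (φ.stalkMap w').hom.toAlgebra
  haveI : IsLocalHom (algebraMap (W.presheaf.stalk (φ w')) (W'.presheaf.stalk w')) :=
    inferInstanceAs (IsLocalHom (φ.stalkMap w').hom)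
  haveI : Module.Flat (W.presheaf.stalk (φ w')) (W'.presheaf.stalk w') := Flat.stalkMap φ w'
  haveI : IsNoetherianRing (W.presheaf.stalk (φ w')) := hW.toIsNoetherian
  rw [gorenstein_iff (W.presheaf.stalk (φ w')) (W'.presheaf.stalk w')]
  refine ⟨hW, ?_⟩
  have h1 := gor_stalk_fiber g y' φ p' p sq (φ w') θ hθ hfin (φ.asFiber w')
  have e3 : (W'.presheaf.stalk w' ⧸ Groth.Agent.FibStalkDimH8.fibIdeal φ w') ≃+*
      EGA4.FibRing (W.presheaf.stalk (φ w')) (W'.presheaf.stalk w') := RingEquiv.refl _
  rw [← gorenstein_congr e3, gorenstein_congr (Groth.Agent.FibStalkIso.fibStalkEquiv φ w')]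
  exact h1

/-- descent of the Gorenstein property along a flat `φ` -/
theorem gor_stalk_descent {W' W : Scheme.{u}} (φ : W' ⟶ W) [Flat φ] (w' : W')
    (hW' : LocCoh.IsGorensteinLocalRing (W'.presheaf.stalk w'))
    (hN : IsNoetherianRing (W.presheaf.stalk (φ w'))) :
    LocCoh.IsGorensteinLocalRing (W.presheaf.stalk (φ w')) := by
  letI : Algebra (W.presheaf.stalk (φ w')) (W'.presheaf.stalk w') := (φ.stalkMap w').hom.toAlgebra
  haveI : IsLocalHom (algebraMap (W.presheaf.stalk (φ w')) (W'.presheaf.stalk w')) :=
    inferInstanceAs (IsLocalHom (φ.stalkMap w').hom)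
  haveI : Module.Flat (W.presheaf.stalk (φ w')) (W'.presheaf.stalk w') := Flat.stalkMap φ w'
  haveI : IsNoetherianRing (W'.presheaf.stalk w') := hW'.toIsNoetherian
  exact ((gorenstein_iff (W.presheaf.stalk (φ w')) (W'.presheaf.stalk w')).1 hW').1

end PasteGor

section EssFT

/-- the residue field of a point of a scheme locally of finite type over `Spec R` is essentially of
finite type over `R` -/
theorem essFiniteType_preimage {R : CommRingCat.{u}} {W : Scheme.{u}} (h : W ⟶ Spec R)
    [LocallyOfFiniteType h] (w : W) :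
    (Spec.preimage (W.fromSpecResidueField w ≫ h)).hom.EssFiniteType := by
  have hθ : Spec.preimage (W.fromSpecResidueField w ≫ h) =
      CommRingCat.ofHom (algebraMap R (h w).asIdeal.ResidueField) ≫
        (Scheme.Spec.residueFieldIso R (h w)).inv ≫ h.residueFieldMap w := by
    apply Spec.map_injective
    rw [Spec.map_preimage, Spec.map_comp, Spec.map_comp,
      ← Scheme.Hom.SpecMap_residueFieldMap_fromSpecResidueField,
      ← Scheme.Spec.map_residueFieldIso_inv_eq_fromSpecResidueField, Category.assoc]
  rw [hθ]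
  have h1 : (algebraMap R (h w).asIdeal.ResidueField).EssFiniteType :=
    RingHom.essFiniteType_algebraMap.2 inferInstance
  have h2 : (Scheme.Spec.residueFieldIso R (h w)).inv.hom.EssFiniteType :=
    (RingHom.FiniteType.of_surjective _
      (Scheme.Spec.residueFieldIso R (h w)).symm.commRingCatIsoToRingEquiv.surjective).essFiniteType
  have h3 : (h.residueFieldMap w).hom.EssFiniteType :=
    RingHom.EssFiniteType.residueFieldMap (LocallyOfFiniteType.stalkMap h w)
  exact (h1.comp h2).comp h3

end EssFT

section Square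

variable {X Y X' Y' : Scheme.{u}} (f : X ⟶ Y) (f' : X' ⟶ Y') (g' : X' ⟶ X) (g : Y' ⟶ Y)
  (hc : IsPullback g' f' f g) (x' : X')

open Groth.Agent.FibMapFlat

include hc in
theorem nonempty_transport :
    Nonempty (CInt.fiberStalk f (g' x') ≃+*
      (f.fiber (g (f' x'))).presheaf.stalk (fibMap hc (f' x') (f'.asFiber x'))) := by
  have hpt : (f.fiberι (g (f' x'))) (fibMap hc (f' x') (f'.asFiber x')) = g' x' := by
    rw [fiberι_fibMap_apply, Scheme.Hom.fiberι_asFiber]
  exact fiberStalk_transport_equiv f (g (f' x')) _ (g' x') hpt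

include hc in
/-- descent of the Gorenstein property of a morphism along base change -/
theorem gorAt_descent (hN : IsLocallyNoetherian (f.fiber (g (f' x'))))
    (hflat : (f.stalkMap (g' x')).hom.Flat) (h : Dual3.IsGorensteinAt f' x') :
    Dual3.IsGorensteinAt f (g' x') := by
  refine ⟨hflat, ?_⟩
  haveI := flat_fibMap hc (f' x')
  obtain ⟨e⟩ := nonempty_transport f f' g' g hc x'
  have h1 := gor_stalk_descent (fibMap hc (f' x')) (f'.asFiber x') h.2 inferInstance
  exact (gorenstein_congr e).2 h1

include hc in
/-- ascent of the Gorenstein property of a morphism along base change -/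
theorem gorAt_ascent (hN' : IsLocallyNoetherian (f'.fiber (f' x')))
    (hfl : (f'.stalkMap x').hom.Flat)
    (hfin : (g.residueFieldMap (f' x')).hom.EssFiniteType ∨
      (Spec.preimage ((f.fiber (g (f' x'))).fromSpecResidueField
        (fibMap hc (f' x') (f'.asFiber x')) ≫
          f.fiberToSpecResidueField (g (f' x')))).hom.EssFiniteType)
    (h : Dual3.IsGorensteinAt f (g' x')) : Dual3.IsGorensteinAt f' x' := by
  refine ⟨hfl, ?_⟩
  haveI := flat_fibMap hc (f' x')
  obtain ⟨e⟩ := nonempty_transport f f' g' g hc x'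
  have hW := (gorenstein_congr e).1 h.2
  exact gor_stalk_ascent g (f' x') (fibMap hc (f' x')) (f'.fiberToSpecResidueField (f' x'))
    (f.fiberToSpecResidueField (g (f' x'))) (isPullback_fibMap hc (f' x')) (f'.asFiber x')
    _ (Spec.map_preimage _) hfin hW inferInstance

end Square

end Groth.Agent.GorMor9
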