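import Groth.Agent.Lib.AlgSpGor_helper7
import Groth.Agent.Lib.GorMor2_helper9
import Groth.Agent.Lib.FibMapFlat_helper5

/-!
# Gorenstein morphisms of algebraic spaces: characterisation through fibres (helper7, S10690)
-/

set_option autoImplicit false
set_option linter.style.haveILetI false
set_option backward.isDefEq.respectTransparency false
set_option backward.isDefEq.respectTransparency.types false

universe u

open CategoryTheory CategoryTheory.Limits AlgebraicGeometry Opposite

namespace Groth.Agent.Lib.AlgSpGor2H7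

open AlgSp Groth.Agent.Lib.AlgStLocQ
  Groth.Agent.Lib.AlgSpQC_helper7 Groth.Agent.Lib.AlgSpDiag_helper7
  Groth.Agent.Lib.AlgSpPullback_helper7 Groth.Agent.Lib.AlgSpRepBySp_helper7
  Groth.Agent.Lib.AlgSpPoints_helper7 Groth.Agent.Lib.AlgSpLocP_helper7
  Groth.Agent.Lib.AlgSpBasic_helper7
  Groth.Agent.Lib.AlgSpNoethDesc_helper7 Groth.Agent.Lib.AlgSpFormal_helper7
  Groth.Agent.Lib.AlgSpDeformH7 Groth.Agent.Lib.AlgSpGorH7

/-- Ascent of the Gorenstein property of local rings along an étale morphism. -/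
theorem gor_stalk_ascent_etale {W' W : Scheme.{u}} (e : W' ⟶ W) [Etale e] [IsLocallyNoetherian W]
    (w' : W') (hW : LocCoh.IsGorensteinLocalRing (W.presheaf.stalk (e w'))) :
    LocCoh.IsGorensteinLocalRing (W'.presheaf.stalk w') := by
  haveI : IsLocallyNoetherian W' := LocallyOfFiniteType.isLocallyNoetherian e
  letI : Algebra (W.presheaf.stalk (e w')) (W'.presheaf.stalk w') := (e.stalkMap w').hom.toAlgebra
  haveI : IsLocalHom (algebraMap (W.presheaf.stalk (e w')) (W'.presheaf.stalk w')) :=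
    inferInstanceAs (IsLocalHom (e.stalkMap w').hom)
  haveI : Module.Flat (W.presheaf.stalk (e w')) (W'.presheaf.stalk w') := Flat.stalkMap e w'
  have hG := (gorAt_of_etale e w').2
  have hF' : LocCoh.IsGorensteinLocalRing
      (W'.presheaf.stalk w' ⧸ Groth.Agent.FibStalkDimH8.fibIdeal e w') :=
    (Groth.Agent.GorFlat9.gorenstein_congr (Groth.Agent.FibStalkIso.fibStalkEquiv e w')).2 hG
  have hF : LocCoh.IsGorensteinLocalRing
      (EGA4.FibRing (W.presheaf.stalk (e w')) (W'.presheaf.stalk w')) := hF'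
  exact (Groth.Agent.GorFlat9.gorenstein_iff _ _).2 ⟨hW, hF⟩

variable {S : Scheme.{u}}

/-- The local rings of an étale chart of a Gorenstein sheaf are Gorenstein. -/
theorem gor_stalks_of_etaleLocally {Xv : Sp S} (hX : EtaleLocally Dual3.IsGorenstein Xv)
    {T : Over S} (p : (yon S).obj T ⟶ Xv) (hp : RepWith @Etale p) (z : ↥T.left) :
    LocCoh.IsGorensteinLocalRing (T.left.presheaf.stalk z) := by
  obtain ⟨W, c, hce, hcs, hWG⟩ := hX
  haveI hTn : IsLocallyNoetherian T.left :=
    locNoeth_of_etale_chart ⟨W, c, hce, hcs, hWG.1⟩ p hp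
  have sq := hce.rep.isPullback' p
  haveI : Etale (hce.rep.fst' p).left := hp.property c _ _ sq.flip
  haveI : Etale (hce.rep.snd p).left := hce.property_snd p
  haveI : Surjective (hce.rep.snd p).left := hcs.property _ _ _ (hce.rep.isPullback p)
  haveI : IsLocallyNoetherian W.left := hWG.1
  obtain ⟨ρ, rfl⟩ := (hce.rep.snd p).left.surjective z
  have h1 := gor_stalk_ascent_etale (hce.rep.fst' p).left ρ (hWG.2 _)
  exact Groth.Agent.GorMor9.gor_stalk_descent (hce.rep.snd p).left ρ h1 inferInstance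

/-- The fibre of a chart is a chart of the fibre. -/
theorem fibre_chart_sq {F G : Sp S} (f : F ⟶ G) {U V T : Over S}
    (a : (yon S).obj U ⟶ F) (b : (yon S).obj V ⟶ G) (h : U ⟶ V)
    (comm : a ≫ f = (yon S).map h ≫ b) (t : T ⟶ V)
    {Xv : Sp S} (pa : Xv ⟶ F) (pc : Xv ⟶ (yon S).obj T)
    (sq : IsPullback pa pc f ((yon S).map t ≫ b)) :
    ∃ (at' : (yon S).obj (pullback h t) ⟶ Xv) (r : Xv ⟶ pullback f b),
      at' ≫ pa = (yon S).map (pullback.fst h t) ≫ a ∧
      at' ≫ pc = (yon S).map (pullback.snd h t) ∧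
      IsPullback at' ((yon S).map (pullback.fst h t)) r
        (pullback.lift a ((yon S).map h) comm) := by
  have sqP := IsPullback.of_hasPullback f b
  have sqt := (IsPullback.of_hasPullback h t).map (yon S)
  obtain ⟨aV, haV, haV1, haV2⟩ : ∃ aV : (yon S).obj U ⟶ pullback f b,
      aV = pullback.lift a ((yon S).map h) comm ∧
      aV ≫ pullback.fst f b = a ∧ aV ≫ pullback.snd f b = (yon S).map h :=
    ⟨pullback.lift a ((yon S).map h) comm, rfl, pullback.lift_fst _ _ _, pullback.lift_snd _ _ _⟩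
  obtain ⟨r, hr1, hr2⟩ : ∃ r : Xv ⟶ pullback f b,
      r ≫ pullback.fst f b = pa ∧ r ≫ pullback.snd f b = pc ≫ (yon S).map t :=
    ⟨pullback.lift pa (pc ≫ (yon S).map t) (by rw [Category.assoc]; exact sq.w),
      pullback.lift_fst _ _ _, pullback.lift_snd _ _ _⟩
  have sqr : IsPullback r pc (pullback.snd f b) ((yon S).map t) := by
    refine IsPullback.of_right ?_ hr2 sqP
    rw [hr1]; exact sq
  obtain ⟨at', hat1, hat2⟩ : ∃ at' : (yon S).obj (pullback h t) ⟶ Xv,
      at' ≫ pa = (yon S).map (pullback.fst h t) ≫ a ∧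
      at' ≫ pc = (yon S).map (pullback.snd h t) :=
    ⟨sq.lift ((yon S).map (pullback.fst h t) ≫ a) ((yon S).map (pullback.snd h t)) (by
      calc ((yon S).map (pullback.fst h t) ≫ a) ≫ f
          = (yon S).map (pullback.fst h t) ≫ (a ≫ f) := Category.assoc _ _ _
        _ = (yon S).map (pullback.fst h t) ≫ ((yon S).map h ≫ b) := by rw [comm]
        _ = (yon S).map (pullback.fst h t ≫ h) ≫ b := by
            rw [CategoryTheory.Functor.map_comp, Category.assoc]
        _ = (yon S).map (pullback.snd h t ≫ t) ≫ b := by rw [pullback.condition]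
        _ = (yon S).map (pullback.snd h t) ≫ ((yon S).map t ≫ b) := by
            rw [CategoryTheory.Functor.map_comp, Category.assoc]),
      sq.lift_fst _ _ _, sq.lift_snd _ _ _⟩
  have sqA : IsPullback at' ((yon S).map (pullback.fst h t)) r aV := by
    refine IsPullback.of_right ?_ ?_ sqr.flip
    · rw [hat2, haV2]; exact sqt.flip
    · apply pullback.hom_ext
      · rw [Category.assoc, hr1, hat1, Category.assoc, haV1]
      · calc (at' ≫ r) ≫ pullback.snd f b = at' ≫ (r ≫ pullback.snd f b) := Category.assoc _ _ _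
          _ = at' ≫ (pc ≫ (yon S).map t) := by rw [hr2]
          _ = (at' ≫ pc) ≫ (yon S).map t := (Category.assoc _ _ _).symm
          _ = (yon S).map (pullback.snd h t) ≫ (yon S).map t := by rw [hat2]
          _ = (yon S).map (pullback.snd h t ≫ t) := (CategoryTheory.Functor.map_comp _ _ _).symm
          _ = (yon S).map (pullback.fst h t ≫ h) := by rw [pullback.condition]
          _ = (yon S).map (pullback.fst h t) ≫ (yon S).map h :=
              CategoryTheory.Functor.map_comp _ _ _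
          _ = (yon S).map (pullback.fst h t) ≫ (aV ≫ pullback.snd f b) := by rw [haV2]
          _ = ((yon S).map (pullback.fst h t) ≫ aV) ≫ pullback.snd f b :=
              (Category.assoc _ _ _).symm
  rw [haV] at sqA
  exact ⟨at', r, hat1, hat2, sqA⟩

/-- An atlas-chart of `f` over a given étale `b`. -/
theorem exists_atlas_chart {F G : Sp S} (hF : IsAlgSpace F) (hG : IsAlgSpace G) (f : F ⟶ G)
    {V : Over S} (b : (yon S).obj V ⟶ G) (hbe : RepWith @Etale b) :
    ∃ (U : Over S) (aV : (yon S).obj U ⟶ pullback f b) (h : U ⟶ V),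
      RepWith @Etale aV ∧ RepWith @Surjective aV ∧ (yon S).map h = aV ≫ pullback.snd f b ∧
      RepWith @Etale (aV ≫ pullback.fst f b) ∧
      (RepWith @Surjective b → RepWith @Surjective (aV ≫ pullback.fst f b)) := by
  have sq := IsPullback.of_hasPullback f b
  have hP : IsAlgSpace (pullback f b) :=
    isAlgSpace_of_isPullback hG.diag hF (IsAlgSpace.yon_obj V) sq
  obtain ⟨U, a₀, hae, has⟩ := hP.atlas
  obtain ⟨h, hh⟩ := (yon S).map_surjective (a₀ ≫ pullback.snd f b)
  exact ⟨U, a₀, h, hae, has, hh, repWith_comp _ hae (repWith_fst_of_isPullback _ sq hbe),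
    fun hbs => repWith_comp _ has (repWith_fst_of_isPullback _ sq hbs)⟩

/-- The fibre condition of S10690 over an étale `b`. -/
abbrev FibGor {F G : Sp S} (f : F ⟶ G) {V : Over S} (b : (yon S).obj V ⟶ G) : Prop :=
  ∀ (v : ↥V.left) (Xv : Sp S) (a : Xv ⟶ F)
    (c : Xv ⟶ (yon S).obj (Over.mk (V.left.fromSpecResidueField v ≫ V.hom))),
    IsPullback a c f ((yon S).map (Over.homMk (V.left.fromSpecResidueField v) rfl :
      Over.mk (V.left.fromSpecResidueField v ≫ V.hom) ⟶ V) ≫ b) →
    EtaleLocally Dual3.IsGorenstein Xv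

theorem flat_of_gor {F G : Sp S} (f : F ⟶ G)
    (hG : ∀ x : Points F, LocPAt (fun h u => Dual3.IsGorensteinAt h u) f x) :
    LocP @Flat f := by
  intro U V a b h hae hbe comm
  exact Flat.of_stalkMap h.left (fun u => (hG (Points.ofPt a u) a b h u hae hbe comm rfl).1)

theorem fibGor_of_gor {F G : Sp S} (hF : IsAlgSpace F) (hGs : IsAlgSpace G) (f : F ⟶ G)
    (hf : FibNoeth f)
    (hG : ∀ x : Points F, LocPAt (fun h u => Dual3.IsGorensteinAt h u) f x)
    {V : Over S} (b : (yon S).obj V ⟶ G) (hbe : RepWith @Etale b) : FibGor f b := by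
  intro v Xv pa pc sq
  obtain ⟨U, aV, h, haVe, haVs, hh, hae, -⟩ := exists_atlas_chart hF hGs f b hbe
  have comm : (aV ≫ pullback.fst f b) ≫ f = (yon S).map h ≫ b := by
    rw [Category.assoc, pullback.condition, ← Category.assoc, hh]
  have hXn : IsLocNoethSp Xv :=
    hf (FieldPt.ofPt b v) Xv pa pc (by rw [FieldPt.toHom_ofPt]; exact sq)
  obtain ⟨t, ht⟩ : ∃ t : Over.mk (V.left.fromSpecResidueField v ≫ V.hom) ⟶ V,
      t = Over.homMk (V.left.fromSpecResidueField v) rfl := ⟨_, rfl⟩
  have sq' : IsPullback pa pc f ((yon S).map t ≫ b) := by rw [ht]; exact sq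
  obtain ⟨at', r, hat1, hat2, sqA⟩ := fibre_chart_sq f (aV ≫ pullback.fst f b) b h comm
    t pa pc sq'
  have hlift : pullback.lift (aV ≫ pullback.fst f b) ((yon S).map h) comm = aV := by
    apply pullback.hom_ext
    · rw [pullback.lift_fst]
    · rw [pullback.lift_snd, hh]
  rw [hlift] at sqA
  have hate : RepWith @Etale at' := repWith_fst_of_isPullback _ sqA haVe
  have hats : RepWith @Surjective at' := repWith_fst_of_isPullback _ sqA haVs
  have hUn := locNoeth_of_etale_chart hXn at' hate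
  refine ⟨_, at', hate, hats, hUn, ?_⟩
  intro z
  have sqS : IsPullback (pullback.fst h t).left (pullback.snd h t).left h.left
      (V.left.fromSpecResidueField v) := by
    subst ht
    exact (IsPullback.of_hasPullback h _).map (Over.forget S)
  obtain ⟨e, he⟩ : ∃ e : (pullback h t).left ≅ h.left.fiber v,
      e.hom ≫ h.left.fiberι v = (pullback.fst h t).left :=
    ⟨sqS.isoPullback, sqS.isoPullback_hom_fst⟩
  have hz' : (h.left.fiberι v) (e.hom z) = (pullback.fst h t).left z := by
    rw [← Scheme.Hom.comp_apply, he]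
  have hGu : Dual3.IsGorensteinAt h.left ((pullback.fst h t).left z) :=
    hG _ (aV ≫ pullback.fst f b) b h _ hae hbe comm rfl
  obtain ⟨eq1⟩ := Groth.Agent.FibMapFlat.fiberStalk_transport_equiv h.left v
    (e.hom z) _ hz'
  have h1 : LocCoh.IsGorensteinLocalRing
      ((h.left.fiber v).presheaf.stalk (e.hom z)) :=
    (Groth.Agent.GorFlat9.gorenstein_congr eq1).1 hGu.2
  exact (Groth.Agent.GorFlat9.gorenstein_congr
    (asIso (e.hom.stalkMap z)).commRingCatIsoToRingEquiv).1 h1

theorem gor_of_fibGor {F G : Sp S} (hF : IsAlgSpace F) (hGs : IsAlgSpace G) (f : F ⟶ G)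
    (hf : FibNoeth f) (hfl : LocP @Flat f)
    {V : Over S} (b : (yon S).obj V ⟶ G) (hbe : RepWith @Etale b)
    (hbs : RepWith @Surjective b) (hfib : FibGor f b) (x : Points F) :
    LocPAt (fun h u => Dual3.IsGorensteinAt h u) f x := by
  obtain ⟨U, aV, h, haVe, haVs, hh, hae, has⟩ := exists_atlas_chart hF hGs f b hbe
  have comm : (aV ≫ pullback.fst f b) ≫ f = (yon S).map h ≫ b := by
    rw [Category.assoc, pullback.condition, ← Category.assoc, hh]
  obtain ⟨u, hu⟩ := ofPt_surjective _ (has hbs) x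
  obtain ⟨t, ht⟩ : ∃ t : Over.mk (V.left.fromSpecResidueField (h.left u) ≫ V.hom) ⟶ V,
      t = Over.homMk (V.left.fromSpecResidueField (h.left u)) rfl := ⟨_, rfl⟩
  have sq := IsPullback.of_hasPullback f ((yon S).map t ≫ b)
  have hX : EtaleLocally Dual3.IsGorenstein (pullback f ((yon S).map t ≫ b)) := by
    have := hfib (h.left u) (pullback f ((yon S).map t ≫ b)) (pullback.fst _ _) (pullback.snd _ _)
    rw [← ht] at this
    exact this sq
  obtain ⟨at', r, hat1, hat2, sqA⟩ := fibre_chart_sq f (aV ≫ pullback.fst f b) b h comm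
    t _ _ sq
  have hlift : pullback.lift (aV ≫ pullback.fst f b) ((yon S).map h) comm = aV := by
    apply pullback.hom_ext
    · rw [pullback.lift_fst]
    · rw [pullback.lift_snd, hh]
  rw [hlift] at sqA
  have hate : RepWith @Etale at' := repWith_fst_of_isPullback _ sqA haVe
  have sqS : IsPullback (pullback.fst h t).left (pullback.snd h t).left h.left
      (V.left.fromSpecResidueField (h.left u)) := by
    subst ht
    exact (IsPullback.of_hasPullback h _).map (Over.forget S)
  obtain ⟨e, -⟩ : ∃ e : (pullback h t).left ≅ h.left.fiber (h.left u), True :=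
    ⟨sqS.isoPullback, trivial⟩
  have hst := gor_stalks_of_etaleLocally hX at' hate (e.inv (h.left.asFiber u))
  haveI : Flat h.left := hfl _ b h hae hbe comm
  have G : Dual3.IsGorensteinAt h.left u :=
    ⟨Flat.stalkMap h.left u, (Groth.Agent.GorFlat9.gorenstein_congr
      (asIso (e.inv.stalkMap (h.left.asFiber u))).commRingCatIsoToRingEquiv).1 hst⟩
  intro U₂ V₂ a₂ b₂ h₂ u₂ hae₂ hbe₂ comm₂ hu₂
  exact gorAt_chart_indep f hf _ b h hae hbe comm a₂ b₂ h₂ hae₂ hbe₂ comm₂ u u₂
    (hu.trans hu₂.symm) G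

/-- S10690. -/
theorem gorenstein_tfae_etale_charts {X Y : AlgSp.Space S} (f : X ⟶ Y)
    (hf : ∀ (k : AlgSp.FieldPt Y.obj) (Xk : AlgSp.Sp S) (a : Xk ⟶ X.obj)
        (b : Xk ⟶ (AlgSp.yon S).obj k.pt), IsPullback a b f.hom k.toHom →
        AlgSp.IsLocNoethSp Xk) :
    [∀ x : AlgSp.Points X.obj, AlgSp.LocPAt (fun h u => Dual3.IsGorensteinAt h u) f.hom x,
      AlgSp.LocP @Flat f.hom ∧ ∃ (V : Over S) (b : (AlgSp.yon S).obj V ⟶ Y.obj),
        AlgSp.RepWith @Etale b ∧ AlgSp.RepWith @Surjective b ∧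
          ∀ (v : ↥V.left) (Xv : AlgSp.Sp S) (a : Xv ⟶ X.obj)
            (c : Xv ⟶ (AlgSp.yon S).obj (Over.mk (V.left.fromSpecResidueField v ≫ V.hom))),
            IsPullback a c f.hom ((AlgSp.yon S).map (Over.homMk (V.left.fromSpecResidueField v) rfl :
              Over.mk (V.left.fromSpecResidueField v ≫ V.hom) ⟶ V) ≫ b) →
            AlgSp.EtaleLocally Dual3.IsGorenstein Xv,
      AlgSp.LocP @Flat f.hom ∧ ∀ (V : Over S) (b : (AlgSp.yon S).obj V ⟶ Y.obj),
          AlgSp.RepWith @Etale b →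
          ∀ (v : ↥V.left) (Xv : AlgSp.Sp S) (a : Xv ⟶ X.obj)
            (c : Xv ⟶ (AlgSp.yon S).obj (Over.mk (V.left.fromSpecResidueField v ≫ V.hom))),
            IsPullback a c f.hom ((AlgSp.yon S).map (Over.homMk (V.left.fromSpecResidueField v) rfl :
              Over.mk (V.left.fromSpecResidueField v ≫ V.hom) ⟶ V) ≫ b) →
            AlgSp.EtaleLocally Dual3.IsGorenstein Xv].TFAE := by
  tfae_have 1 → 3 := fun h =>
    ⟨flat_of_gor f.hom h, fun V b hbe =>
      fibGor_of_gor X.property Y.property f.hom hf h b hbe⟩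
  tfae_have 3 → 2 := fun h => by
    obtain ⟨V, b, hbe, hbs⟩ := Y.property.atlas
    exact ⟨h.1, V, b, hbe, hbs, h.2 V b hbe⟩
  tfae_have 2 → 1 := fun h x => by
    obtain ⟨hfl, V, b, hbe, hbs, hfib⟩ := h
    exact gor_of_fibGor X.property Y.property f.hom hf hfl b hbe hbs hfib x
  tfae_finish

end Groth.Agent.Lib.AlgSpGor2H7
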