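import Mathlib

/-!
# Direct limits of local rings along local homomorphisms (helper3)
-/

set_option autoImplicit false
universe u v

open IsLocalRing

namespace Groth.Agent.Lib.DirLimLocalH3

variable {ι : Type v} [Preorder ι] [Nonempty ι] [IsDirected ι (· ≤ ·)]
  (G : ι → Type u) [∀ i, CommRing (G i)]
  (f : ∀ i j, i ≤ j → G i →+* G j) [DirectedSystem G fun i j h => f i j h]

/-- The direct limit. -/
abbrev L : Type (max v u) := Ring.DirectLimit G fun i j h => f i j h

/-- The canonical maps. -/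
noncomputable abbrev ofL (i : ι) : G i →+* L G f := Ring.DirectLimit.of G (fun i j h => f i j h) i

variable {G f}

theorem ofL_f {i j : ι} (h : i ≤ j) (x : G i) : ofL G f j (f i j h x) = ofL G f i x :=
  Ring.DirectLimit.of_f h x

theorem exists_ofL (z : L G f) : ∃ (i : ι) (x : G i), ofL G f i x = z :=
  Ring.DirectLimit.exists_of z

theorem ofL_eq_zero {i : ι} {x : G i} (h : ofL G f i x = 0) :
    ∃ (j : ι) (hij : i ≤ j), f i j hij x = 0 := by
  have := @Ring.DirectLimit.of.zero_exact ι _ G _ f _ _ i x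
  exact this h

theorem f_f {i j k : ι} (hij : i ≤ j) (hjk : j ≤ k) (x : G i) :
    f j k hjk (f i j hij x) = f i k (hij.trans hjk) x :=
  DirectedSystem.map_map (f := fun i j h => f i j h) hij hjk x

theorem exists_ofL_fin {l : ℕ} (x : Fin l → L G f) :
    ∃ (i : ι) (a : Fin l → G i), ∀ k, ofL G f i (a k) = x k := by
  classical
  choose ix ax hax using fun k => exists_ofL (x k)
  obtain ⟨M, hM⟩ := Finset.exists_le (Finset.univ.image ix)
  have hle : ∀ k, ix k ≤ M := fun k => hM _ (Finset.mem_image_of_mem ix (Finset.mem_univ k))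
  exact ⟨M, fun k => f _ _ (hle k) (ax k), fun k => by rw [ofL_f, hax]⟩

section Local

variable [∀ i, IsLocalRing (G i)] (hloc : ∀ i j (h : i ≤ j), IsLocalHom (f i j h))
include hloc

theorem f_isUnit_iff {i j : ι} (h : i ≤ j) (x : G i) : IsUnit (f i j h x) ↔ IsUnit x :=
  ⟨fun hu => (hloc i j h).map_nonunit x hu, fun hu => hu.map _⟩

theorem isUnit_ofL_iff {i : ι} (a : G i) : IsUnit (ofL G f i a) ↔ IsUnit a := by
  constructor
  · intro h
    obtain ⟨y, hy⟩ := h.exists_right_inv
    obtain ⟨j, b, rfl⟩ := exists_ofL y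
    obtain ⟨k, hik, hjk⟩ := exists_ge_ge i j
    have h1 : ofL G f k (f i k hik a * f j k hjk b - 1) = 0 := by
      rw [map_sub, map_mul, ofL_f, ofL_f, hy, map_one, sub_self]
    obtain ⟨l, hkl, h2⟩ := ofL_eq_zero h1
    rw [map_sub, map_mul, map_one, sub_eq_zero] at h2
    have h3 : IsUnit (f k l hkl (f i k hik a)) := IsUnit.of_mul_eq_one _ h2
    rw [f_isUnit_iff hloc, f_isUnit_iff hloc] at h3
    exact h3
  · intro h
    exact h.map _

theorem nontrivial_L : Nontrivial (L G f) := by
  refine ⟨⟨0, 1, fun h => ?_⟩⟩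
  obtain ⟨i⟩ := (inferInstance : Nonempty ι)
  have h1 : ofL G f i (1 : G i) = 0 := by rw [map_one]; exact h.symm
  obtain ⟨j, hij, h2⟩ := ofL_eq_zero h1
  rw [map_one] at h2
  exact one_ne_zero h2

theorem isLocalRing_L : IsLocalRing (L G f) := by
  haveI := nontrivial_L hloc
  refine IsLocalRing.of_isUnit_or_isUnit_one_sub_self fun z => ?_
  obtain ⟨i, a, rfl⟩ := exists_ofL z
  rcases IsLocalRing.isUnit_or_isUnit_one_sub_self a with h | h
  · exact Or.inl (h.map _)
  · right
    have := h.map (ofL G f i)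
    rwa [map_sub, map_one] at this

theorem isLocalHom_ofL (i : ι) : IsLocalHom (ofL G f i) :=
  ⟨fun a h => (isUnit_ofL_iff hloc a).mp h⟩

theorem ofL_mem_maximalIdeal_iff {i : ι} (a : G i) :
    haveI := isLocalRing_L hloc
    ofL G f i a ∈ maximalIdeal (L G f) ↔ a ∈ maximalIdeal (G i) := by
  haveI := isLocalRing_L hloc
  rw [mem_maximalIdeal, mem_maximalIdeal, mem_nonunits_iff, mem_nonunits_iff,
    isUnit_ofL_iff hloc]

end Local

end Groth.Agent.Lib.DirLimLocalH3
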