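import Mathlib
import Groth.Agent.Lib.DirLimLocal_helper3
import Groth.Agent.Lib.NoethApprox_helper3
import Groth.Agent.Lib.IndEtale4_helper3

/-!
# Direct limits of Noetherian local rings along flat local maps with `𝔪_i G_j = 𝔪_j`
(EGA 0_III 10.3.1.3) (helper3)
-/

set_option autoImplicit false
universe u v

open IsLocalRing

namespace Groth.Agent.Lib.DirLimLocalH3

variable {ι : Type v} [Preorder ι] [Nonempty ι] [IsDirected ι (· ≤ ·)]
  {G : ι → Type u} [∀ i, CommRing (G i)]
  {f : ∀ i j, i ≤ j → G i →+* G j} [DirectedSystem G fun i j h => f i j h]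

/-- The direct limit of a system with flat transition maps is flat over each term. -/
theorem flat_ofL (hflat : ∀ i j (h : i ≤ j), (f i j h).Flat) (i : ι) : (ofL G f i).Flat := by
  letI := (ofL G f i).toAlgebra
  show Module.Flat (G i) (L G f)
  apply Groth.Agent.Lib.IndEtaleH3.flat_of_forall_exists_lift.{u}
  intro l s x hsx
  have hsmul : ∀ (a : G i) (z : L G f), a • z = ofL G f i a * z := fun a z => rfl
  obtain ⟨j₀, a₀, ha₀⟩ := exists_ofL_fin x
  obtain ⟨j, hij, hj₀j⟩ := exists_ge_ge i j₀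
  have h1 : ofL G f j (∑ k, f i j hij (s k) * f j₀ j hj₀j (a₀ k)) = 0 := by
    rw [map_sum, ← hsx]
    refine Finset.sum_congr rfl fun k _ => ?_
    rw [map_mul, ofL_f, ofL_f, ha₀, hsmul]
  obtain ⟨j', hjj', h2⟩ := ofL_eq_zero h1
  letI := (f i j' (hij.trans hjj')).toAlgebra
  have hflat' : Module.Flat (G i) (G j') := hflat i j' (hij.trans hjj')
  have hsmul' : ∀ (a : G i) (z : G j'), a • z = f i j' (hij.trans hjj') a * z := fun a z => rfl
  refine ⟨G i, G j', inferInstance, inferInstance, inferInstance, hflat', RingHom.id _,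
    (ofL G f j').toAddMonoidHom, fun a m => ?_, s,
    fun k => f j j' hjj' (f j₀ j hj₀j (a₀ k)), fun _ => rfl, fun k => ?_, ?_⟩
  · show ofL G f j' (a • m) = ofL G f i a * ofL G f j' m
    rw [hsmul', map_mul, ofL_f]
  · show ofL G f j' (f j j' hjj' (f j₀ j hj₀j (a₀ k))) = x k
    rw [ofL_f, ofL_f, ha₀]
  · rw [← h2, map_sum]
    refine Finset.sum_congr rfl fun k _ => ?_
    rw [hsmul', map_mul, f_f]

variable [∀ i, IsLocalRing (G i)] (hloc : ∀ i j (h : i ≤ j), IsLocalHom (f i j h))
  (hmax : ∀ i j (h : i ≤ j), (maximalIdeal (G i)).map (f i j h) = maximalIdeal (G j))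
include hloc hmax

theorem map_maximalIdeal_ofL (i : ι) :
    haveI := isLocalRing_L hloc
    (maximalIdeal (G i)).map (ofL G f i) = maximalIdeal (L G f) := by
  haveI := isLocalRing_L hloc
  apply le_antisymm
  · rw [Ideal.map_le_iff_le_comap]
    intro a ha
    exact (ofL_mem_maximalIdeal_iff hloc a).mpr ha
  · intro z hz
    obtain ⟨j₀, a₀, rfl⟩ := exists_ofL z
    obtain ⟨j, hij, hj₀j⟩ := exists_ge_ge i j₀
    rw [← ofL_f hj₀j, ofL_mem_maximalIdeal_iff hloc, ← hmax i j hij] at hz
    have h1 : ofL G f j (f j₀ j hj₀j a₀) ∈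
        ((maximalIdeal (G i)).map (f i j hij)).map (ofL G f j) := Ideal.mem_map_of_mem _ hz
    rw [Ideal.map_map] at h1
    have h2 : (ofL G f j).comp (f i j hij) = ofL G f i := by
      ext r; exact ofL_f hij r
    rw [h2, ofL_f] at h1
    exact h1

theorem isNoetherianRing_L [∀ i, IsNoetherianRing (G i)]
    (hflat : ∀ i j (h : i ≤ j), (f i j h).Flat) : IsNoetherianRing (L G f) := by
  haveI := isLocalRing_L hloc
  apply Groth.Agent.Lib.NoethApproxH3.isNoetherianRing_of_closed
  · obtain ⟨i⟩ := (inferInstance : Nonempty ι)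
    rw [← map_maximalIdeal_ofL hloc hmax i]
    exact Ideal.FG.map (IsNoetherian.noetherian _) _
  · intro 𝔞 h𝔞 x hx
    obtain ⟨l, g, hg⟩ := Submodule.fg_iff_exists_fin_generating_family.mp h𝔞
    obtain ⟨i, a, ha⟩ := exists_ofL_fin (Fin.cons x g : Fin (l + 1) → L G f)
    have ha0 : ofL G f i (a 0) = x := by rw [ha 0]; rfl
    have hak : ∀ k : Fin l, ofL G f i (a k.succ) = g k := fun k => by rw [ha k.succ]; rfl
    let 𝔞i : Ideal (G i) := Ideal.span (Set.range (fun k : Fin l => a k.succ))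
    have hmap : 𝔞i.map (ofL G f i) = 𝔞 := by
      rw [Ideal.map_span, ← Set.range_comp, ← hg]
      congr 2
      ext k
      exact hak k
    letI := (ofL G f i).toAlgebra
    haveI : Module.Flat (G i) (L G f) := flat_ofL hflat i
    haveI : IsLocalHom (algebraMap (G i) (L G f)) := isLocalHom_ofL hloc i
    haveI : Module.FaithfullyFlat (G i) (L G f) := Module.FaithfullyFlat.of_flat_of_isLocalHom
    have hcomap : ∀ K : Ideal (G i), (K.map (ofL G f i)).comap (ofL G f i) = K := fun K =>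
      Ideal.comap_map_eq_self_of_faithfullyFlat (B := L G f) K
    have hx' : ∀ n, a 0 ∈ 𝔞i ⊔ maximalIdeal (G i) ^ n := by
      intro n
      rw [← hcomap (𝔞i ⊔ maximalIdeal (G i) ^ n), Ideal.mem_comap, Ideal.map_sup, Ideal.map_pow,
        hmap, map_maximalIdeal_ofL hloc hmax, ha0]
      exact hx n
    have h1 := Groth.Agent.Lib.NoethApproxH3.mem_of_forall_mem_sup_pow 𝔞i (a 0) hx'
    rw [← ha0, ← hmap]
    exact Ideal.mem_map_of_mem _ h1

end Groth.Agent.Lib.DirLimLocalH3
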