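import Mathlib
import Groth.Prelude.Def_Hensel
import Groth.Agent.Lib.StrictHens6_lead
import Groth.Agent.Lib.DirLimNoeth_helper3

/-!
# Strict henselization, part 7 (lead): the transition maps are flat; Noetherianity; injectivity of `ofH`
-/

set_option autoImplicit false
set_option maxSynthPendingDepth 3
universe u

namespace Groth.Agent.Lib.StrictHens

open IsLocalRing EGA4loc TensorProduct Polynomial

variable {R : Type u} [CommRing R] [IsLocalRing R]
variable {K : Type u} [Field K] [Algebra R K] [Algebra (ResidueField R) K]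
  [IsScalarTower R (ResidueField R) K]

/-- A pointed algebra map between the local algebras of two indices is flat: the target is a retract
of a localisation of the étale `i.A`-algebra `i.A ⊗[R] j.C`. -/
theorem flat_of_pointed {i j : Idx R K} (ψ : i.A →ₐ[R] j.A) (hψ : j.ptA.comp ψ = i.ptA) :
    ψ.toRingHom.Flat := by
  letI : Algebra i.A j.A := ψ.toRingHom.toAlgebra
  show Module.Flat i.A j.A
  have hsmulA : ∀ (a : i.A) (x : j.A), a • x = ψ a * x := fun a x => rfl
  -- the étale `i.A`-algebra and its point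
  let ρD : (i.A ⊗[R] j.C) →ₐ[R] K := Algebra.TensorProduct.productMap i.ptA j.pt
  have hρD : ∀ (a : i.A) (c : j.C), ρD (a ⊗ₜ[R] c) = i.ptA a * j.pt c := fun a c =>
    Algebra.TensorProduct.productMap_apply_tmul _ _ a c
  -- the multiplication map
  let μ : (i.A ⊗[R] j.C) →ₐ[R] j.A :=
    Algebra.TensorProduct.productMap ψ (IsScalarTower.toAlgHom R j.C j.A)
  have hμ : ∀ (a : i.A) (c : j.C), μ (a ⊗ₜ[R] c) = ψ a * algebraMap j.C j.A c := fun a c =>
    Algebra.TensorProduct.productMap_apply_tmul _ _ a c
  have hptμ : j.ptA.comp μ = ρD := by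
    apply Algebra.TensorProduct.ext'
    intro a c
    show j.ptA (μ (a ⊗ₜ[R] c)) = ρD (a ⊗ₜ[R] c)
    rw [hμ, hρD, map_mul]
    congr 1
    · exact DFunLike.congr_fun hψ a
    · exact locPt_algebraMap j.pt c
  have hunit : ∀ y : (RingHom.ker ρD).primeCompl, IsUnit (μ y) := by
    rintro ⟨y, hy⟩
    rw [← locPt_ne_zero_iff j.pt]
    have : j.ptA (μ y) = ρD y := DFunLike.congr_fun hptμ y
    show j.ptA (μ y) ≠ 0
    rw [this]
    exact fun h0 => hy (RingHom.mem_ker.mpr h0)
  let μ' : Localization.AtPrime (RingHom.ker ρD) →ₐ[R] j.A :=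
    IsLocalization.liftAlgHom (M := (RingHom.ker ρD).primeCompl) (f := μ) hunit
  have hμ' : ∀ d : i.A ⊗[R] j.C, μ' (algebraMap _ _ d) = μ d := fun d => by
    show IsLocalization.liftAlgHom _ _ = _
    rw [IsLocalization.coe_liftAlgHom, IsLocalization.lift_eq]
    rfl
  have hν₀ : ρD.comp (Algebra.TensorProduct.includeRight : j.C →ₐ[R] i.A ⊗[R] j.C) = j.pt :=
    Algebra.TensorProduct.productMap_right _ _
  let ν : j.A →ₐ[R] Localization.AtPrime (RingHom.ker ρD) :=
    locMap j.pt ρD Algebra.TensorProduct.includeRight hν₀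
  have hν : ∀ c : j.C, ν (algebraMap j.C j.A c) =
      algebraMap _ (Localization.AtPrime (RingHom.ker ρD)) ((1 : i.A) ⊗ₜ[R] c) := fun c =>
    locMap_algebraMap j.pt ρD _ hν₀ c
  -- retraction
  have hret : ∀ x : j.A, μ' (ν x) = x := by
    have h1 : (μ'.comp ν).toRingHom = (AlgHom.id R j.A).toRingHom := by
      apply IsLocalization.ringHom_ext (RingHom.ker j.pt).primeCompl
      refine RingHom.ext fun c => ?_
      show μ' (ν (algebraMap j.C j.A c)) = algebraMap j.C j.A c
      rw [hν, hμ', hμ, map_one, one_mul]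
    exact fun x => DFunLike.congr_fun h1 x
  -- rigidity: `ν ∘ ψ` is the structure map
  haveI : IsLocalRing (Localization.AtPrime (RingHom.ker ρD)) := inferInstance
  have hνψ : ∀ a : i.A, ν (ψ a) =
      algebraMap _ (Localization.AtPrime (RingHom.ker ρD)) (a ⊗ₜ[R] (1 : j.C)) := by
    have h2 : ν.comp ψ = (IsScalarTower.toAlgHom R (i.A ⊗[R] j.C)
        (Localization.AtPrime (RingHom.ker ρD))).comp Algebra.TensorProduct.includeLeft := by
      refine Groth.Agent.Lib.EssEt.algHom_eq_of_residue_eq (A := R) (C := i.A)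
        (B := Localization.AtPrime (RingHom.ker ρD)) (ν.comp ψ)
        ((IsScalarTower.toAlgHom R (i.A ⊗[R] j.C)
          (Localization.AtPrime (RingHom.ker ρD))).comp Algebra.TensorProduct.includeLeft)
        (fun a => ?_)
      rw [← locPt_eq_zero_iff (R := R) (K := K) (C := i.A ⊗[R] j.C) ρD, map_sub]
      have e1 : locPt ρD ((ν.comp ψ) a) = i.ptA a := by
        show locPt ρD (locMap j.pt ρD _ hν₀ (ψ a)) = _
        rw [locPt_locMap]
        exact DFunLike.congr_fun hψ a
      have e2 : locPt ρD (((IsScalarTower.toAlgHom R (i.A ⊗[R] j.C)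
          (Localization.AtPrime (RingHom.ker ρD))).comp Algebra.TensorProduct.includeLeft) a) =
          i.ptA a := by
        show locPt ρD (algebraMap _ _ (a ⊗ₜ[R] (1 : j.C))) = _
        rw [locPt_algebraMap, hρD, map_one, mul_one]
      rw [e1, e2, sub_self]
    exact fun a => DFunLike.congr_fun h2 a
  -- module structures
  haveI : Module.Flat i.A (Localization.AtPrime (RingHom.ker ρD)) :=
    Module.Flat.trans i.A (i.A ⊗[R] j.C) _
  have halgD : ∀ a : i.A, algebraMap i.A (Localization.AtPrime (RingHom.ker ρD)) a =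
      algebraMap _ (Localization.AtPrime (RingHom.ker ρD)) (a ⊗ₜ[R] (1 : j.C)) := fun a => by
    rw [IsScalarTower.algebraMap_apply i.A (i.A ⊗[R] j.C) (Localization.AtPrime (RingHom.ker ρD)),
      Algebra.TensorProduct.algebraMap_apply, Algebra.algebraMap_self_apply]
  let νl : j.A →ₗ[i.A] Localization.AtPrime (RingHom.ker ρD) :=
    { toFun := ν
      map_add' := map_add ν
      map_smul' := fun a x => by
        show ν (a • x) = a • ν x
        rw [hsmulA, map_mul, hνψ, Algebra.smul_def, halgD] }
  let μl : Localization.AtPrime (RingHom.ker ρD) →ₗ[i.A] j.A :=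
    { toFun := μ'
      map_add' := map_add μ'
      map_smul' := fun a y => by
        show μ' (a • y) = a • μ' y
        rw [hsmulA, Algebra.smul_def, map_mul, halgD, hμ', hμ, map_one, mul_one] }
  exact Module.Flat.of_retract νl μl (LinearMap.ext fun x => hret x)

end Groth.Agent.Lib.StrictHens
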