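import Mathlib
import Groth.Prelude.Def_Hensel
import Groth.Agent.Lib.StrictHens7_lead
import Groth.Agent.Lib.DirLimNoeth_helper3

/-!
# Strict henselization, part 8 (lead): Noetherianity; injectivity of `ofH`
-/

set_option autoImplicit false
set_option maxSynthPendingDepth 3
universe u

namespace Groth.Agent.Lib.StrictHens

open IsLocalRing EGA4loc TensorProduct Polynomial

variable {R : Type u} [CommRing R] [IsLocalRing R]
variable {K : Type u} [Field K] [Algebra R K] [Algebra (ResidueField R) K]
  [IsScalarTower R (ResidueField R) K]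

theorem flat_trR (i j : Idx R K) (h : i ≤ j) : (trR i j h).Flat :=
  flat_of_pointed (tr h) (tr_spec h)

theorem isLocalHom_trR (i j : Idx R K) (h : i ≤ j) : IsLocalHom (trR i j h) :=
  isLocalHom_tr h

theorem map_maximalIdeal_trR (i j : Idx R K) (h : i ≤ j) :
    (maximalIdeal i.A).map (trR i j h) = maximalIdeal j.A := by
  rw [← map_maximalIdeal_idx, Ideal.map_map, ← map_maximalIdeal_idx]
  congr 1
  exact (tr h).comp_algebraMap

instance isNoetherianRing_idxC [IsNoetherianRing R] (i : Idx R K) : IsNoetherianRing i.C :=
  Algebra.FiniteType.isNoetherianRing R i.C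

instance isNoetherianRing_idxA [IsNoetherianRing R] (i : Idx R K) : IsNoetherianRing i.A :=
  IsLocalization.isNoetherianRing (RingHom.ker i.pt).primeCompl i.A inferInstance

instance isNoetherianRing_sh [IsNoetherianRing R] : IsNoetherianRing (SH R K) := by
  have := Groth.Agent.Lib.DirLimLocalH3.isNoetherianRing_L (ι := Idx R K)
    (G := fun i : Idx R K => i.A) (f := trR) isLocalHom_trR map_maximalIdeal_trR flat_trR
  exact this

theorem flat_ofH (i : Idx R K) : (ofH i).Flat := by
  have := Groth.Agent.Lib.DirLimLocalH3.flat_ofL (ι := Idx R K) (G := fun i : Idx R K => i.A)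
    (f := trR) flat_trR i
  exact this

/-- The `i.A`-algebra structure on the colimit. -/
noncomputable abbrev algIdx (i : Idx R K) : Algebra i.A (SH R K) := (ofH i).toAlgebra

theorem faithfullyFlat_idx (i : Idx R K) :
    letI := algIdx i
    Module.FaithfullyFlat i.A (SH R K) := by
  letI := algIdx i
  haveI : Module.Flat i.A (SH R K) := flat_ofH i
  haveI : IsLocalHom (algebraMap i.A (SH R K)) := isLocalHom_ofH i
  exact Module.FaithfullyFlat.of_flat_of_isLocalHom

theorem ofH_injective (i : Idx R K) : Function.Injective (ofH i) := by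
  letI := algIdx i
  haveI := faithfullyFlat_idx i
  exact FaithfulSMul.algebraMap_injective i.A (SH R K)

theorem ofC_eq_zero {k : Idx R K} {c : k.C} (h : ofC k c = 0) :
    ∃ s : k.C, k.pt s ≠ 0 ∧ s * c = 0 := by
  rw [ofC_apply] at h
  have h0 : algebraMap k.C k.A c = 0 := ofH_injective k (by rw [h, map_zero])
  obtain ⟨s, hs⟩ := (IsLocalization.map_eq_zero_iff (RingHom.ker k.pt).primeCompl k.A c).mp h0
  exact ⟨s.1, fun h' => s.2 (RingHom.mem_ker.mpr h'), hs⟩

variable (S : Type u) [CommRing S] [IsLocalRing S] [Algebra R S]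
  [IsLocalHom (algebraMap R S)] [Hensel.IsStrictHenselization R S]

theorem isNoetherianRing_iff_of_isStrictHenselization : IsNoetherianRing R ↔ IsNoetherianRing S := by
  constructor
  · intro h
    obtain ⟨e, -⟩ := exists_ringEquiv_shens (R := R) S
    exact isNoetherianRing_of_ringEquiv _ e.symm
  · intro h
    haveI := faithfullyFlat_of_isStrictHenselization (R := R) S
    have h1 : IsNoetherian S (S ⊗[R] R) :=
      isNoetherian_of_linearEquiv (TensorProduct.AlgebraTensorModule.rid R S S).symm
    exact Submodule.IsNoetherian.of_isNoetherian_tensorProduct_of_faithfullyFlat h1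

end Groth.Agent.Lib.StrictHens
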