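import Groth.Agent.Lib.AlgSpGor2_helper7
import Groth.Agent.S0538
import Groth.Agent.S0539
import Groth.Agent.S0540

/-!
# Flat morphisms from Gorenstein algebraic spaces (helper7, S10691)
-/

set_option autoImplicit false
set_option linter.style.haveILetI false
set_option backward.isDefEq.respectTransparency false
set_option backward.isDefEq.respectTransparency.types false

universe u

open CategoryTheory CategoryTheory.Limits AlgebraicGeometry Opposite

namespace Groth.Agent.Lib.AlgSpGor3H7

open AlgSp Groth.Agent.Lib.AlgStLocQ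
  Groth.Agent.Lib.AlgSpQC_helper7 Groth.Agent.Lib.AlgSpDiag_helper7
  Groth.Agent.Lib.AlgSpPullback_helper7 Groth.Agent.Lib.AlgSpRepBySp_helper7
  Groth.Agent.Lib.AlgSpPoints_helper7 Groth.Agent.Lib.AlgSpLocP_helper7
  Groth.Agent.Lib.AlgSpBasic_helper7
  Groth.Agent.Lib.AlgSpNoethDesc_helper7 Groth.Agent.Lib.AlgSpFormal_helper7
  Groth.Agent.Lib.AlgSpDeformH7 Groth.Agent.Lib.AlgSpGorH7 Groth.Agent.Lib.AlgSpGor2H7

/-- The strict henselization of a Gorenstein local ring is Gorenstein. -/
theorem gor_strictHenselization (A : Type u) [CommRing A] [IsLocalRing A] (R : Type u)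
    [CommRing R] [IsLocalRing R] [Algebra A R] [IsLocalHom (algebraMap A R)]
    [Hensel.IsStrictHenselization A R] (hA : LocCoh.IsGorensteinLocalRing A) :
    LocCoh.IsGorensteinLocalRing R := by
  haveI : IsNoetherianRing A := hA.toIsNoetherian
  haveI : IsNoetherianRing R := (Groth.Agent.S0540.result A R).1 inferInstance
  haveI : Module.FaithfullyFlat A R := Groth.Agent.S0539.result A R
  haveI : Module.Flat A R := inferInstance
  have hm := Groth.Agent.S0538.result A R
  have hF : LocCoh.IsGorensteinLocalRing (EGA4.FibRing A R) := by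
    apply gor_of_isField_quot
    show IsField (R ⧸ (IsLocalRing.maximalIdeal A).map (algebraMap A R))
    rw [hm]
    exact (Ideal.Quotient.maximal_ideal_iff_isField_quotient _).1 inferInstance
  exact (Groth.Agent.GorFlat9.gorenstein_iff A R).2 ⟨hA, hF⟩

variable {S : Scheme.{u}}

/-- S10691. -/
theorem gorenstein_of_flat_from_gorenstein_space {X Y : AlgSp.Space S} (f : X ⟶ Y)
    (hf : AlgSp.LocP @Flat f.hom)
    (hX1 : AlgSp.IsLocNoethSp X.obj) (hY1 : AlgSp.IsLocNoethSp Y.obj)
    (hX2 : AlgSp.EtaleLocally Dual3.IsGorenstein X.obj) :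
    (∀ x : AlgSp.Points X.obj,
        AlgSp.LocPAt (fun h u => Dual3.IsGorensteinAt h u) f.hom x) ∧
      ∀ (x : AlgSp.Points X.obj) (V : Over S) (b : (AlgSp.yon S).obj V ⟶ Y.obj),
        AlgSp.RepWith @Etale b →
        ∀ (v : ↥V.left), AlgSp.Points.ofPt b v = AlgSp.Points.map f.hom x →
          ∀ (R : Type u) [CommRing R] [IsLocalRing R] [Algebra ↥(V.left.presheaf.stalk v) R]
            [IsLocalHom (algebraMap ↥(V.left.presheaf.stalk v) R)]
            [Hensel.IsStrictHenselization ↥(V.left.presheaf.stalk v) R],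
            LocCoh.IsGorensteinLocalRing R := by
  constructor
  · intro x U V a b h u hae hbe comm hu
    haveI : IsLocallyNoetherian V.left := locNoeth_of_etale_chart hY1 b hbe
    haveI : Flat h.left := hf a b h hae hbe comm
    exact (Groth.Agent.GorMor9.gor_of_flat h.left u
      (gor_stalks_of_etaleLocally hX2 a hae u)).1
  · intro x V b hbe v hv
    obtain ⟨U, aV, h, haVe, haVs, hh, hae, -⟩ :=
      exists_atlas_chart X.property Y.property f.hom b hbe
    have comm : (aV ≫ pullback.fst f.hom b) ≫ f.hom = (yon S).map h ≫ b := by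
      rw [Category.assoc, pullback.condition, ← Category.assoc, hh]
    have sqP := IsPullback.of_hasPullback f.hom b
    obtain ⟨z, hz1, hz2⟩ := Groth.Agent.Lib.AlgSpPoints_helper7.exists_of_isPullback sqP x
      (Points.ofScheme V v) (by rw [← Points.ofPt_eq_map_ofScheme]; exact hv.symm)
    obtain ⟨u, hu⟩ := ofPt_surjective aV haVs z
    have hvu : h.left u = v := by
      apply ofScheme_injective V
      rw [← hz2, ← hu, Points.map_ofPt, ← hh, ofPt_yon_map]
    subst hvu
    haveI : IsLocallyNoetherian V.left := locNoeth_of_etale_chart hY1 b hbe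
    haveI : Flat h.left := hf _ b h hae hbe comm
    have hV := (Groth.Agent.GorMor9.gor_of_flat h.left u
      (gor_stalks_of_etaleLocally hX2 _ hae u)).2
    intro R _ _ _ _ _
    exact gor_strictHenselization _ R hV

end Groth.Agent.Lib.AlgSpGor3H7
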