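import Mathlib
import Groth.Prelude.Def_PBC
import Groth.Agent.Lib.IndEtale4_helper3

/-!
# Flatness over ind-étale algebras (helper3)

If `B` is an ind-étale `A`-algebra and `M` is a `B`-module which is flat over `A`, then `M` is flat
over `B`.
-/

set_option autoImplicit false
universe u

open TensorProduct

namespace Groth.Agent.Lib.IndEtaleH3

section etale

variable (A C M : Type*) [CommRing A] [CommRing C] [Algebra A C]
  [Algebra.FormallyUnramified A C] [Algebra.EssFiniteType A C]
  [AddCommGroup M] [Module A M] [Module C M] [IsScalarTower A C M]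

/-- The `A`-linear map `(C ⊗ C) ⊗ M → C ⊗ M`, `(x ⊗ y) ⊗ m ↦ x ⊗ y • m`. -/
noncomputable def actMap : (C ⊗[A] C) ⊗[A] M →ₗ[A] C ⊗[A] M :=
  (LinearMap.lTensor C ((LinearMap.liftBaseChange C (LinearMap.id : M →ₗ[A] M)).restrictScalars A)).comp
    (TensorProduct.assoc A C C M).toLinearMap

theorem actMap_tmul (x y : C) (m : M) : actMap A C M ((x ⊗ₜ[A] y) ⊗ₜ[A] m) = x ⊗ₜ[A] (y • m) := by
  simp [actMap]

theorem actMap_mul_one_tmul (z : C ⊗[A] C) (c : C) (m : M) :
    actMap A C M ((z * (1 ⊗ₜ[A] c)) ⊗ₜ[A] m) = actMap A C M (z ⊗ₜ[A] (c • m)) := by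
  induction z using TensorProduct.induction_on with
  | zero => simp
  | tmul x y =>
    rw [Algebra.TensorProduct.tmul_mul_tmul, mul_one, actMap_tmul, actMap_tmul, mul_smul]
  | add a b ha hb => rw [add_mul, TensorProduct.add_tmul, map_add, ha, hb, TensorProduct.add_tmul,
      map_add]

theorem actMap_mul_tmul_one (z : C ⊗[A] C) (c : C) (m : M) :
    actMap A C M ((z * (c ⊗ₜ[A] 1)) ⊗ₜ[A] m) = c • actMap A C M (z ⊗ₜ[A] m) := by
  induction z using TensorProduct.induction_on with
  | zero => simp
  | tmul x y =>
    rw [Algebra.TensorProduct.tmul_mul_tmul, mul_one, actMap_tmul, actMap_tmul,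
      TensorProduct.smul_tmul', smul_eq_mul, mul_comm]
  | add a b ha hb => rw [add_mul, TensorProduct.add_tmul, map_add, ha, hb, TensorProduct.add_tmul,
      map_add, smul_add]

theorem liftBaseChange_actMap (z : C ⊗[A] C) (m : M) :
    LinearMap.liftBaseChange C (LinearMap.id : M →ₗ[A] M) (actMap A C M (z ⊗ₜ[A] m)) =
      (Algebra.TensorProduct.lmul' A z) • m := by
  induction z using TensorProduct.induction_on with
  | zero => simp
  | tmul x y =>
    rw [actMap_tmul, LinearMap.liftBaseChange_tmul, Algebra.TensorProduct.lmul'_apply_tmul,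
      LinearMap.id_apply, mul_smul]
  | add a b ha hb => rw [TensorProduct.add_tmul, map_add, map_add, ha, hb, map_add, add_smul]

/-- If `C` is unramified and essentially of finite type over `A` and the `C`-module `M` is flat
over `A`, then `M` is flat over `C`. -/
theorem flat_of_flat_of_unramified [Module.Flat A M] : Module.Flat C M := by
  let e := Algebra.FormallyUnramified.elem A C
  let s : M →ₗ[C] C ⊗[A] M :=
    { toFun := fun m => actMap A C M (e ⊗ₜ[A] m)
      map_add' := fun m m' => by rw [TensorProduct.tmul_add, map_add]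
      map_smul' := fun c m => by
        rw [RingHom.id_apply, ← actMap_mul_one_tmul, ← actMap_mul_tmul_one]
        congr 2
        rw [mul_comm, Algebra.FormallyUnramified.one_tmul_mul_elem, mul_comm] }
  refine Module.Flat.of_retract (R := C) (M := C ⊗[A] M) s
    (LinearMap.liftBaseChange C (LinearMap.id : M →ₗ[A] M)) ?_
  ext m
  show LinearMap.liftBaseChange C (LinearMap.id : M →ₗ[A] M) (actMap A C M (e ⊗ₜ[A] m)) = m
  rw [liftBaseChange_actMap, Algebra.FormallyUnramified.lmul_elem, one_smul]

end etale

section indEtale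

variable {A B : Type u} [CommRing A] [CommRing B] [Algebra A B]

/-- If `B` is ind-étale over `A` and the `B`-module `M` is flat over `A`, then `M` is flat over
`B`. -/
theorem flat_of_flat_of_isIndEtale (h : EtPBC.IsIndEtale A B) (M : Type u) [AddCommGroup M]
    [Module A M] [Module B M] [IsScalarTower A B M] [Module.Flat A M] : Module.Flat B M := by
  classical
  apply flat_of_forall_exists_lift.{u}
  intro l s x hsx
  obtain ⟨C, _, _, _, φ, hφ⟩ := exists_finset_of_isIndEtale h (Finset.univ.image s)
  choose c hc using fun k => hφ (s k) (Finset.mem_image_of_mem s (Finset.mem_univ k))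
  letI : Module C M := Module.compHom M φ.toRingHom
  haveI : IsScalarTower A C M := ⟨fun a c m => by
    show φ (a • c) • m = a • (φ c • m)
    rw [map_smul, smul_assoc]⟩
  haveI : Module.Flat C M := flat_of_flat_of_unramified A C M
  refine ⟨C, M, inferInstance, inferInstance, inferInstance, inferInstance, φ.toRingHom,
    AddMonoidHom.id M, fun a m => rfl, c, x, fun k => hc k, fun _ => rfl, ?_⟩
  rw [← hsx]
  exact Finset.sum_congr rfl fun k _ => by
    show φ (c k) • x k = s k • x k
    rw [hc k]

end indEtale

end Groth.Agent.Lib.IndEtaleH3
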