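import Mathlib
import Groth.Prelude.Def_Hensel
import Groth.Prelude.Def_PBC
import Groth.Agent.Lib.StrictHens8_lead
import Groth.Agent.Lib.IndEtale1_helper3

/-!
# Strict henselization, part 9 (lead): the strict henselization is ind-étale
-/

set_option autoImplicit false
set_option maxSynthPendingDepth 3
universe u

namespace Groth.Agent.Lib.StrictHens

open IsLocalRing EGA4loc TensorProduct Polynomial CategoryTheory

variable {R : Type u} [CommRing R] [IsLocalRing R]
variable {K : Type u} [Field K] [Algebra R K] [Algebra (ResidueField R) K]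
  [IsScalarTower R (ResidueField R) K]

/-- The point of an algebra mapping to the colimit. -/
noncomputable def ptOf {C : Type u} [CommRing C] [Algebra R C] (f : C →ₐ[R] SH R K) :
    C →ₐ[R] K :=
  { (ptH : SH R K →+* K).comp f.toRingHom with
    commutes' := fun r => by
      show ptH (f (algebraMap R C r)) = algebraMap R K r
      rw [f.commutes, ptH_algebraMap] }

theorem ptOf_apply {C : Type u} [CommRing C] [Algebra R C] (f : C →ₐ[R] SH R K) (c : C) :
    ptOf f c = ptH (f c) := rfl

/-- Every algebra map from an étale algebra to the colimit is one of the canonical ones. -/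
theorem exists_idx_of_algHom (C : Type u) [CommRing C] [Algebra R C] [Algebra.Etale R C]
    (f : C →ₐ[R] SH R K) : ∃ (k : Idx R K) (e : C ≃ₐ[R] k.C), (ofC k).comp e.toAlgHom = f := by
  obtain ⟨k, e, he⟩ := exists_idx_equiv C (ptOf f)
  refine ⟨k, e, ?_⟩
  apply Groth.Agent.Lib.EssEt.algHom_eq_of_residue_eq
  intro c
  rw [← ptH_eq_zero_iff, map_sub]
  show ptH (ofC k (e c)) - ptH (f c) = 0
  rw [ptH_ofC, ← ptOf_apply, ← he]
  exact sub_self _

theorem isIndEtale_sh : EtPBC.IsIndEtale R (SH R K) := by
  apply Groth.Agent.Lib.IndEtaleH3.isIndEtale_of_exists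
  · intro b
    obtain ⟨j, c, hc⟩ := exists_ofC b
    exact ⟨j.C, inferInstance, inferInstance, inferInstance, ofC j, c, hc⟩
  · intro C _ _ _ f c hc
    obtain ⟨k, e, rfl⟩ := exists_idx_of_algHom C f
    have hc' : ofC k (e c) = 0 := hc
    obtain ⟨s, hs, hsc⟩ := ofC_eq_zero hc'
    have hu : IsUnit (ofC k s) := by
      by_contra hn
      exact hs ((ofC_mem_maximalIdeal_iff k s).mp hn)
    have : Algebra.Etale k.C (Localization.Away s) := Algebra.Etale.of_isLocalizationAway s
    have : Algebra.Etale R (Localization.Away s) := Algebra.Etale.comp R k.C _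
    refine ⟨Localization.Away s, inferInstance, inferInstance, inferInstance,
      (IsScalarTower.toAlgHom R k.C (Localization.Away s)).comp e.toAlgHom,
      IsLocalization.liftAlgHom (M := Submonoid.powers s) (f := ofC k) (by
        rintro ⟨_, n, rfl⟩
        rw [map_pow]
        exact hu.pow n), ?_, ?_⟩
    · ext x
      simp only [AlgHom.coe_comp, Function.comp_apply, IsScalarTower.coe_toAlgHom']
      erw [IsLocalization.coe_liftAlgHom, IsLocalization.lift_eq]
      rfl
    · show algebraMap k.C (Localization.Away s) (e c) = 0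
      rw [IsLocalization.map_eq_zero_iff (Submonoid.powers s)]
      exact ⟨⟨s, Submonoid.mem_powers s⟩, hsc⟩

theorem isIndEtale_of_isStrictHenselization (S : Type u) [CommRing S] [IsLocalRing S] [Algebra R S]
    [IsLocalHom (algebraMap R S)] [Hensel.IsStrictHenselization R S] : EtPBC.IsIndEtale R S := by
  obtain ⟨e, he⟩ := exists_ringEquiv_shens (R := R) S
  exact Groth.Agent.Lib.IndEtaleH3.isIndEtale_of_ringEquiv e.symm (fun r => by
    rw [← he r, RingEquiv.symm_apply_apply]) isIndEtale_sh

end Groth.Agent.Lib.StrictHens
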