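import Mathlib
import Groth.Prelude.Def_Hensel
import Groth.Agent.Lib.HensJointStrict_helper3

/-!
# Strict henselization of a localization of a "pushout-like" ring (helper3)

General version of `exists_equiv_tensor_strict`: `D` is any ring generated (in the sense of
epimorphisms) by the images of `Ph` and `Q`.
-/

set_option autoImplicit false
set_option maxSynthPendingDepth 3
universe u

namespace Groth.Agent.Lib.HensJointH3

open Hensel IsLocalRing

section Gen

variable (Qh D : Type u) [CommRing Qh] [IsLocalRing Qh] [CommRing D]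
  (Φ : D →+* Qh) (Q' : Ideal D) [Q'.IsPrime] (hQ' : Q' = Ideal.comap Φ (maximalIdeal Qh))

include hQ' in
omit [Q'.IsPrime] in
theorem mem_iff_gen (d : D) : d ∈ Q' ↔ ¬ IsUnit (Φ d) := by
  rw [hQ', Ideal.mem_comap, mem_maximalIdeal, mem_nonunits_iff]

include hQ' in
theorem exists_cHom_gen :
    ∃ c : Localization.AtPrime Q' →+* Qh, (∀ d, c (algebraMap D _ d) = Φ d) ∧ IsLocalHom c := by
  have hunits : ∀ y : Q'.primeCompl, IsUnit (Φ y) := by
    intro y
    have := y.2
    change (y : D) ∉ Q' at this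
    rwa [mem_iff_gen Qh D Φ Q' hQ', not_not] at this
  refine ⟨IsLocalization.lift (M := Q'.primeCompl) hunits, fun d => IsLocalization.lift_eq _ _, ?_⟩
  constructor
  intro x hx
  obtain ⟨d, s, rfl⟩ := IsLocalization.exists_mk'_eq Q'.primeCompl x
  have hc : ∀ d, IsLocalization.lift (M := Q'.primeCompl) hunits
      (algebraMap D (Localization.AtPrime Q') d) = Φ d := fun d => IsLocalization.lift_eq _ _
  have h1 : IsUnit (Φ d) := by
    have : algebraMap _ (Localization.AtPrime Q') d =
        IsLocalization.mk' (Localization.AtPrime Q') d s * algebraMap _ _ (s : D) := by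
      rw [IsLocalization.mk'_spec]
    rw [← hc d, this, map_mul]
    refine hx.mul ?_
    rw [hc]
    exact hunits s
  have h2 : d ∈ Q'.primeCompl := by
    show d ∉ Q'
    rw [mem_iff_gen Qh D Φ Q' hQ', not_not]
    exact h1
  have h3 : IsUnit (algebraMap _ (Localization.AtPrime Q') d) :=
    IsLocalization.map_units (Localization.AtPrime Q') ⟨d, h2⟩
  rw [← IsLocalization.mk'_spec (Localization.AtPrime Q') d s] at h3
  exact isUnit_of_mul_isUnit_left h3

end Gen

section Main

variable (P Ph Q Qh D : Type u) [CommRing P] [IsLocalRing P] [CommRing Ph] [IsLocalRing Ph]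
    [Algebra P Ph] [IsLocalHom (algebraMap P Ph)] [IsStrictHenselization P Ph]
    [CommRing Q] [IsLocalRing Q] [CommRing Qh] [IsLocalRing Qh]
    [Algebra Q Qh] [IsLocalHom (algebraMap Q Qh)] [IsStrictHenselization Q Qh]
    [CommRing D]
    (φ : P →+* Q) [IsLocalHom φ]
    (a₀ : Ph →+* D) (b₀ : Q →+* D) (hab₀ : a₀.comp (algebraMap P Ph) = b₀.comp φ)
    (hepiD : ∀ (T : Type u) [CommRing T] (f g : D →+* T),
      f.comp a₀ = g.comp a₀ → f.comp b₀ = g.comp b₀ → f = g)
    (Φ : D →+* Qh) (hΦa : IsLocalHom (Φ.comp a₀)) (hΦb : Φ.comp b₀ = algebraMap Q Qh)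
    (Q' : Ideal D) [Q'.IsPrime] (hQ' : Q' = Ideal.comap Φ (maximalIdeal Qh))

include hab₀ hepiD hΦa hΦb hQ' in
theorem exists_equiv_gen
    (E : Type u) [CommRing E] [IsLocalRing E] [Algebra (Localization.AtPrime Q') E]
    [IsLocalHom (algebraMap (Localization.AtPrime Q') E)]
    [IsStrictHenselization (Localization.AtPrime Q') E] :
    ∃ e : E ≃+* Qh, ∀ d : D,
      e (algebraMap _ E (algebraMap _ (Localization.AtPrime Q') d)) = Φ d := by
  haveI : HenselianLocalRing Qh := IsStrictHenselization.henselian Q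
  obtain ⟨c, hc, hcloc⟩ := exists_cHom_gen Qh D Φ Q' hQ'
  haveI := hcloc
  obtain ⟨a, ha⟩ : ∃ a : Ph →+* Localization.AtPrime Q', a = (algebraMap D _).comp a₀ := ⟨_, rfl⟩
  obtain ⟨b, hb⟩ : ∃ b : Q →+* Localization.AtPrime Q', b = (algebraMap D _).comp b₀ := ⟨_, rfl⟩
  have hca : c.comp a = Φ.comp a₀ := by
    ext x
    rw [ha, RingHom.comp_apply, RingHom.comp_apply, hc, RingHom.comp_apply]
  have hcb : c.comp b = algebraMap Q Qh := by
    rw [← hΦb]
    ext x
    rw [hb, RingHom.comp_apply, RingHom.comp_apply, hc, RingHom.comp_apply]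
  haveI : IsLocalHom a := by
    haveI : IsLocalHom (c.comp a) := by rw [hca]; exact hΦa
    exact isLocalHom_of_comp a c
  have hab : a.comp (algebraMap P Ph) = b.comp φ := by
    rw [ha, hb, RingHom.comp_assoc, hab₀, RingHom.comp_assoc]
  have hepi : ∀ (T : Type u) [CommRing T] (f g : Localization.AtPrime Q' →+* T),
      f.comp a = g.comp a → f.comp b = g.comp b → f = g := by
    intro T _ f g h1 h2
    refine IsLocalization.ringHom_ext Q'.primeCompl ?_
    refine hepiD T _ _ ?_ ?_
    · rw [RingHom.comp_assoc, RingHom.comp_assoc, ← ha, h1]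
    · rw [RingHom.comp_assoc, RingHom.comp_assoc, ← hb, h2]
  obtain ⟨e, he⟩ := exists_equiv_of_strict_universal (Localization.AtPrime Q') E Qh c
    (isSepClosure_of_joint Q Qh (Localization.AtPrime Q') c b hcb)
    (fun T _ _ f hf τ hτ => strict_universal_of_joint P Ph Q Qh (Localization.AtPrime Q') c φ
      a b hab hepi hcb T f τ hτ)
  refine ⟨e, fun d => ?_⟩
  rw [he, hc]

end Main

end Groth.Agent.Lib.HensJointH3
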