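import Mathlib
import Groth.Prelude.Def_Hensel
import Groth.Agent.Lib.HensJointGen_helper3
import Groth.Agent.Lib.ShIntegral_helper3

/-!
# Strict henselization of an integral local algebra as a localization of a tensor product (helper3)
-/

set_option autoImplicit false
set_option maxSynthPendingDepth 3
universe u

namespace Groth.Agent.Lib.ShFiniteLocalH3

open Hensel IsLocalRing TensorProduct Groth.Agent.Lib.HensJointH3

/-- An integral local algebra over a local ring has local structure map. -/
theorem isLocalHom_of_isIntegral (A B : Type u) [CommRing A] [IsLocalRing A] [CommRing B]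
    [IsLocalRing B] [Algebra A B] [Algebra.IsIntegral A B] : IsLocalHom (algebraMap A B) := by
  refine ((local_hom_TFAE (algebraMap A B)).out 0 4).mpr ?_
  exact IsLocalRing.eq_maximalIdeal
    (Ideal.isMaximal_comap_of_isIntegral_of_isMaximal (maximalIdeal B))

/-- A compatible local map between strict henselizations exists. -/
theorem exists_map_strictHenselization (A B S T : Type u) [CommRing A] [IsLocalRing A]
    [CommRing B] [IsLocalRing B] [Algebra A B] [IsLocalHom (algebraMap A B)]
    [CommRing S] [IsLocalRing S] [Algebra A S] [IsLocalHom (algebraMap A S)]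
    [IsStrictHenselization A S]
    [CommRing T] [IsLocalRing T] [Algebra B T] [IsLocalHom (algebraMap B T)]
    [IsStrictHenselization B T] :
    ∃ ψ : S →+* T, IsLocalHom ψ ∧
      ψ.comp (algebraMap A S) = (algebraMap B T).comp (algebraMap A B) := by
  haveI : HenselianLocalRing T := IsStrictHenselization.henselian B
  letI : Algebra A T := ((algebraMap B T).comp (algebraMap A B)).toAlgebra
  haveI : IsLocalHom (algebraMap A T) :=
    show IsLocalHom ((algebraMap B T).comp (algebraMap A B)) from RingHom.isLocalHom_comp _ _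
  haveI hS : IsSepClosure (ResidueField A) (ResidueField S) := IsStrictHenselization.isSepClosure
  haveI : Algebra.IsSeparable (ResidueField A) (ResidueField S) := hS.separable
  haveI : IsSepClosed (ResidueField T) :=
    (IsStrictHenselization.isSepClosure (R := B) (S := T)).sep_closed
  let τ₀ : ResidueField S →ₐ[ResidueField A] ResidueField T := IsSepClosed.lift
  have hτ : (τ₀ : ResidueField S →+* ResidueField T).comp (ResidueField.map (algebraMap A S)) =
      ResidueField.map (algebraMap A T) := RingHom.ext fun x => τ₀.commutes x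
  obtain ⟨ψ, ⟨hψ1, hψ2⟩, -⟩ :=
    IsStrictHenselization.universal (R := A) (S := S) T (algebraMap A T) _ hτ
  refine ⟨ψ, ⟨fun x hx => ?_⟩, hψ1⟩
  by_contra hnu
  have h1 : residue S x = 0 := (residue_eq_zero_iff x).mpr hnu
  have h2 := hψ2 x
  rw [h1, map_zero, residue_eq_zero_iff] at h2
  exact h2 hx


theorem exists_localization_equiv (A B S T : Type u) [CommRing A] [IsLocalRing A]
    [CommRing B] [IsLocalRing B] [Algebra A B] [Algebra.IsIntegral A B]
    [CommRing S] [IsLocalRing S] [Algebra A S] [IsLocalHom (algebraMap A S)]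
    [IsStrictHenselization A S]
    [CommRing T] [IsLocalRing T] [Algebra B T] [IsLocalHom (algebraMap B T)]
    [IsStrictHenselization B T] :
    ∃ (q : Ideal (B ⊗[A] S)) (_ : q.IsMaximal), Nonempty (Localization.AtPrime q ≃ₐ[B] T) := by
  haveI := isLocalHom_of_isIntegral A B
  haveI : HenselianLocalRing S := IsStrictHenselization.henselian A
  haveI : IsSepClosed (ResidueField S) :=
    (IsStrictHenselization.isSepClosure (R := A) (S := S)).sep_closed
  obtain ⟨ψ, hψloc, hψ⟩ := exists_map_strictHenselization A B S T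
  haveI := hψloc
  letI : Algebra A T := ((algebraMap B T).comp (algebraMap A B)).toAlgebra
  haveI : IsScalarTower A B T := IsScalarTower.of_algebraMap_eq (fun _ => rfl)
  let ψA : S →ₐ[A] T := ⟨ψ, fun a => RingHom.congr_fun hψ a⟩
  obtain ⟨Φ, hΦ⟩ : ∃ Φ : B ⊗[A] S →+* T, Φ = (Algebra.TensorProduct.lift
    (IsScalarTower.toAlgHom A B T) ψA (fun _ _ => Commute.all _ _)).toRingHom := ⟨_, rfl⟩
  have hΦt : ∀ b s, Φ (b ⊗ₜ s) = algebraMap B T b * ψ s := by
    intro b s
    rw [hΦ]
    show Algebra.TensorProduct.lift (IsScalarTower.toAlgHom A B T) ψA _ (b ⊗ₜ s) = _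
    rw [Algebra.TensorProduct.lift_tmul]
    rfl
  obtain ⟨a₀, ha₀⟩ : ∃ a₀ : S →+* B ⊗[A] S, ∀ s, a₀ s = 1 ⊗ₜ s :=
    ⟨(Algebra.TensorProduct.includeRight : S →ₐ[A] B ⊗[A] S).toRingHom, fun _ => rfl⟩
  obtain ⟨b₀, hb₀⟩ : ∃ b₀ : B →+* B ⊗[A] S, ∀ b, b₀ b = b ⊗ₜ 1 :=
    ⟨Algebra.TensorProduct.includeLeftRingHom, fun _ => rfl⟩
  have hab₀ : a₀.comp (algebraMap A S) = b₀.comp (algebraMap A B) := by
    ext x
    rw [RingHom.comp_apply, RingHom.comp_apply, ha₀, hb₀, Algebra.algebraMap_eq_smul_one,
      Algebra.algebraMap_eq_smul_one (A := B), TensorProduct.smul_tmul]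
  have hepiD : ∀ (T' : Type u) [CommRing T'] (f g : B ⊗[A] S →+* T'),
      f.comp a₀ = g.comp a₀ → f.comp b₀ = g.comp b₀ → f = g := by
    intro T' _ f g h1 h2
    have key : ∀ t, f t = g t := by
      intro t
      induction t using TensorProduct.induction_on with
      | zero => simp
      | add x y hx hy => rw [map_add, map_add, hx, hy]
      | tmul b s =>
        have e1 : b ⊗ₜ[A] s = b₀ b * a₀ s := by
          rw [ha₀, hb₀, Algebra.TensorProduct.tmul_mul_tmul, mul_one, one_mul]
        have e2 := RingHom.congr_fun h1 s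
        have e3 := RingHom.congr_fun h2 b
        simp only [RingHom.comp_apply] at e2 e3
        rw [e1, map_mul, map_mul, e2, e3]
    exact RingHom.ext key
  have hΦa : Φ.comp a₀ = ψ := by
    ext s
    rw [RingHom.comp_apply, ha₀, hΦt, map_one, one_mul]
  have hΦb : Φ.comp b₀ = algebraMap B T := by
    ext b
    rw [RingHom.comp_apply, hb₀, hΦt, map_one, mul_one]
  have hΦaloc : IsLocalHom (Φ.comp a₀) := by rw [hΦa]; exact hψloc
  obtain ⟨q, hq⟩ : ∃ q : Ideal (B ⊗[A] S), q = Ideal.comap Φ (maximalIdeal T) := ⟨_, rfl⟩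
  haveI hqp : q.IsPrime := hq ▸ Ideal.comap_isPrime _ _
  -- integrality over `S`
  letI : Algebra S (B ⊗[A] S) := a₀.toAlgebra
  haveI : Algebra.IsIntegral S (B ⊗[A] S) := ⟨fun z => by
    induction z using TensorProduct.induction_on with
    | zero => exact isIntegral_zero
    | tmul b s =>
      have h1 : IsIntegral S (b₀ b) := by
        have hb : IsIntegral A b := Algebra.IsIntegral.isIntegral (R := A) b
        exact hb.map_of_comp_eq (algebraMap A S) b₀ hab₀
      have h2 : IsIntegral S (algebraMap S (B ⊗[A] S) s) := isIntegral_algebraMap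
      have h3 : b ⊗ₜ[A] s = b₀ b * algebraMap S (B ⊗[A] S) s := by
        show b ⊗ₜ[A] s = b₀ b * a₀ s
        rw [ha₀, hb₀, Algebra.TensorProduct.tmul_mul_tmul, mul_one, one_mul]
      rw [h3]
      exact h1.mul h2
    | add a b ha hb => exact ha.add hb⟩
  haveI hover : q.LiesOver (maximalIdeal S) := by
    refine ⟨?_⟩
    rw [hq, Ideal.under_def, Ideal.comap_comap]
    show _ = Ideal.comap (Φ.comp a₀) _
    rw [hΦa]
    exact (comap_maximalIdeal_of_isLocalHom ψ).symm
  have hqmax : q.IsMaximal := Ideal.isMaximal_of_isIntegral_of_isMaximal_comap (R := S) q (by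
    rw [← Ideal.under_def, ← hover.over]
    exact maximalIdeal.isMaximal S)
  haveI hintL : Algebra.IsIntegral S (Localization.AtPrime q) :=
    Groth.Agent.Lib.ShIntegralH3.isIntegral_localization S (B ⊗[A] S) q
  obtain ⟨h1, h2⟩ := Groth.Agent.Lib.ShTensorH3.strictlyHenselian_of_isIntegral S
    (Localization.AtPrime q)
  haveI := h1
  haveI := h2
  haveI := isStrictHenselization_self (Localization.AtPrime q)
  obtain ⟨e, he⟩ := exists_equiv_gen A S B T (B ⊗[A] S) (algebraMap A B) a₀ b₀ hab₀ hepiD Φ hΦaloc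
    hΦb q hq (Localization.AtPrime q)
  refine ⟨q, hqmax, ⟨AlgEquiv.ofRingEquiv (f := e) (fun b => ?_)⟩⟩
  rw [IsScalarTower.algebraMap_apply B (B ⊗[A] S) (Localization.AtPrime q)]
  have := he (algebraMap B (B ⊗[A] S) b)
  rw [Algebra.algebraMap_self_apply] at this
  rw [this, Algebra.TensorProduct.algebraMap_apply, Algebra.algebraMap_self_apply, hΦt, map_one,
    mul_one]

end Groth.Agent.Lib.ShFiniteLocalH3
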