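import Groth.Agent.Lib.AlgSpGor3_helper7
import Groth.Agent.Lib.FlatIndEtale_helper3
import Groth.Agent.Lib.FlatDescent_helper4
import Groth.Agent.S0537
import Groth.Agent.S5072
import Groth.Agent.S12237

/-!
# Gorenstein at a point through strict henselizations (helper7, S10693)
-/

set_option autoImplicit false
set_option linter.style.haveILetI false
set_option backward.isDefEq.respectTransparency false
set_option backward.isDefEq.respectTransparency.types false

universe u

open CategoryTheory CategoryTheory.Limits AlgebraicGeometry Opposite TensorProduct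

namespace Groth.Agent.Lib.AlgSpGor4H7

open AlgSp Groth.Agent.Lib.AlgStLocQ
  Groth.Agent.Lib.AlgSpQC_helper7 Groth.Agent.Lib.AlgSpDiag_helper7
  Groth.Agent.Lib.AlgSpPullback_helper7 Groth.Agent.Lib.AlgSpRepBySp_helper7
  Groth.Agent.Lib.AlgSpPoints_helper7 Groth.Agent.Lib.AlgSpLocP_helper7
  Groth.Agent.Lib.AlgSpBasic_helper7
  Groth.Agent.Lib.AlgSpNoethDesc_helper7 Groth.Agent.Lib.AlgSpFormal_helper7
  Groth.Agent.Lib.AlgSpDeformH7 Groth.Agent.Lib.AlgSpGorH7 Groth.Agent.Lib.AlgSpGor2H7
  Groth.Agent.Lib.AlgSpGor3H7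

section Alg

open IsLocalRing

/-- The closed fibre of a strict henselization is a field, hence Gorenstein. -/
theorem gor_fibRing_sh (A : Type u) [CommRing A] [IsLocalRing A] (R : Type u)
    [CommRing R] [IsLocalRing R] [Algebra A R] [IsLocalHom (algebraMap A R)]
    [Hensel.IsStrictHenselization A R] : LocCoh.IsGorensteinLocalRing (EGA4.FibRing A R) := by
  have hm := Groth.Agent.S0538.result A R
  apply gor_of_isField_quot
  show IsField (R ⧸ (IsLocalRing.maximalIdeal A).map (algebraMap A R))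
  rw [hm]
  exact (Ideal.Quotient.maximal_ideal_iff_isField_quotient _).1 inferInstance

/-- Quotients of a strict henselization by extended ideals are Noetherian when the quotient of the
base is. -/
theorem noeth_quot_sh (A R : Type u) [CommRing A] [IsLocalRing A] [CommRing R] [IsLocalRing R]
    [Algebra A R] [IsLocalHom (algebraMap A R)] [Hensel.IsStrictHenselization A R]
    (I : Ideal A) (hI : I ≤ maximalIdeal A) [IsNoetherianRing (A ⧸ I)] :
    IsNoetherianRing (R ⧸ I.map (algebraMap A R)) := by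
  haveI : IsLocalRing (A ⧸ I) := Groth.Agent.FibDim.isLocalRing_quot hI
  obtain ⟨T, _, _, _, _, hT⟩ := Groth.Agent.S0537.result (A ⧸ I)
  haveI := hT
  haveI : IsNoetherianRing T := (Groth.Agent.S0540.result (A ⧸ I) T).1 inferInstance
  obtain ⟨q, hq, ⟨e⟩⟩ := Groth.Agent.S5072.result A (A ⧸ I) R T
  haveI := hq.isPrime
  haveI : IsNoetherianRing (Localization.AtPrime q) :=
    isNoetherianRing_of_ringEquiv T e.symm.toRingEquiv
  haveI : IsLocalRing (R ⧸ I.map (algebraMap A R)) :=
    Groth.Agent.FibDim.isLocalRing_quot (Groth.Agent.FibDim.map_le_maximalIdeal hI)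
  haveI : IsLocalRing ((A ⧸ I) ⊗[A] R) :=
    (Algebra.TensorProduct.quotIdealMapEquivQuotTensor R I).toRingEquiv.isLocalRing
  have hqm : q = maximalIdeal _ := IsLocalRing.eq_maximalIdeal hq
  have hunits : q.primeCompl ≤ IsUnit.submonoid ((A ⧸ I) ⊗[A] R) := by
    intro x hx
    have hx' : x ∉ q := hx
    rw [hqm] at hx'
    exact IsLocalRing.notMem_maximalIdeal.1 hx'
  haveI : IsNoetherianRing ((A ⧸ I) ⊗[A] R) :=
    isNoetherianRing_of_ringEquiv (Localization.AtPrime q)
      (IsLocalization.atUnits ((A ⧸ I) ⊗[A] R) q.primeCompl hunits).symm.toRingEquiv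
  exact isNoetherianRing_of_ringEquiv ((A ⧸ I) ⊗[A] R)
    (Algebra.TensorProduct.quotIdealMapEquivQuotTensor R I).symm.toRingEquiv

/-- The algebraic core of S10693. -/
theorem alg_main (A' A R' R : Type u) [CommRing A'] [CommRing A] [CommRing R'] [CommRing R]
    [IsLocalRing A'] [IsLocalRing A] [IsLocalRing R'] [IsLocalRing R]
    [Algebra A' R'] [IsLocalHom (algebraMap A' R')] [Hensel.IsStrictHenselization A' R']
    [Algebra A R] [IsLocalHom (algebraMap A R)] [Hensel.IsStrictHenselization A R]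
    (ψ : A' →+* A) [IsLocalHom ψ] (φ : R' →+* R) [IsLocalHom φ]
    (hφ : φ.comp (algebraMap A' R') = (algebraMap A R).comp ψ)
    (hN : IsNoetherianRing (A ⧸ (maximalIdeal A').map ψ)) :
    (ψ.Flat ∧ LocCoh.IsGorensteinLocalRing (A ⧸ (maximalIdeal A').map ψ)) ↔
      (φ.Flat ∧ LocCoh.IsGorensteinLocalRing (R ⧸ (maximalIdeal R').map φ)) := by
  have hI : (maximalIdeal A').map ψ ≤ maximalIdeal A := IsLocalRing.map_maximalIdeal_le ψ
  have hJ : (maximalIdeal R').map φ = ((maximalIdeal A').map ψ).map (algebraMap A R) := by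
    rw [← Groth.Agent.S0538.result A' R', Ideal.map_map, hφ, ← Ideal.map_map]
  haveI hffA : Module.FaithfullyFlat A R := Groth.Agent.S0539.result A R
  haveI hffA' : Module.FaithfullyFlat A' R' := Groth.Agent.S0539.result A' R'
  have hαfl : (algebraMap A R).Flat := RingHom.flat_algebraMap_iff.2 inferInstance
  have hα'fl : (algebraMap A' R').Flat := RingHom.flat_algebraMap_iff.2 inferInstance
  have hαff : (algebraMap A R).FaithfullyFlat := RingHom.faithfullyFlat_algebraMap_iff.2 hffA
  have hflat : ψ.Flat ↔ φ.Flat := by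
    constructor
    · intro hψ
      have h1 : ((algebraMap A R).comp ψ).Flat := RingHom.Flat.comp hψ hαfl
      rw [← hφ] at h1
      letI : Algebra R' R := φ.toAlgebra
      letI : Algebra A' R := (φ.comp (algebraMap A' R')).toAlgebra
      haveI : IsScalarTower A' R' R := IsScalarTower.of_algebraMap_eq (fun _ => rfl)
      haveI : Module.Flat A' R := h1
      exact Groth.Agent.Lib.IndEtaleH3.flat_of_flat_of_isIndEtale
        (Groth.Agent.S12237.result A' R') R
    · intro hφfl
      have h1 : (φ.comp (algebraMap A' R')).Flat := RingHom.Flat.comp hα'fl hφfl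
      rw [hφ] at h1
      exact Groth.Agent.Lib.FlatDescent_helper4.ringHom_flat_of_comp ψ (algebraMap A R) hαff h1
  haveI := hN
  haveI : IsNoetherianRing (R ⧸ ((maximalIdeal A').map ψ).map (algebraMap A R)) :=
    noeth_quot_sh A R _ hI
  haveI : Module.Flat A R := inferInstance
  have hG := Groth.Agent.GorMor9.isGor_quot_iff' A R ((maximalIdeal A').map ψ) hI
  rw [hJ]
  exact and_congr hflat ⟨fun h => hG.2 ⟨h, gor_fibRing_sh A R⟩, fun h => (hG.1 h).1⟩

end Alg

variable {S : Scheme.{u}}

/-- S10693. -/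
theorem gorensteinAt_iff_strictHenselization {X Y : AlgSp.Space S} (f : X ⟶ Y)
    (hf : ∀ (k : AlgSp.FieldPt Y.obj) (Xk : AlgSp.Sp S) (a : Xk ⟶ X.obj)
        (b : Xk ⟶ (AlgSp.yon S).obj k.pt), IsPullback a b f.hom k.toHom →
        AlgSp.IsLocNoethSp Xk)
    (x : AlgSp.Points X.obj) {U V : Over S} (a : (AlgSp.yon S).obj U ⟶ X.obj)
    (b : (AlgSp.yon S).obj V ⟶ Y.obj)
    (h : U ⟶ V) (ha : AlgSp.RepWith @Etale a) (hb : AlgSp.RepWith @Etale b)
    (hc : a ≫ f.hom = (AlgSp.yon S).map h ≫ b)
    (u : ↥U.left) (hu : AlgSp.Points.ofPt a u = x)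
    (R : Type u) [CommRing R] [IsLocalRing R] [Algebra ↥(U.left.presheaf.stalk u) R]
    [IsLocalHom (algebraMap ↥(U.left.presheaf.stalk u) R)]
    [Hensel.IsStrictHenselization ↥(U.left.presheaf.stalk u) R]
    (R' : Type u) [CommRing R'] [IsLocalRing R'] [Algebra ↥(V.left.presheaf.stalk (h.left u)) R']
    [IsLocalHom (algebraMap ↥(V.left.presheaf.stalk (h.left u)) R')]
    [Hensel.IsStrictHenselization ↥(V.left.presheaf.stalk (h.left u)) R']
    (φ : R' →+* R) [IsLocalHom φ]
    (hφ : φ.comp (algebraMap ↥(V.left.presheaf.stalk (h.left u)) R') =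
      (algebraMap ↥(U.left.presheaf.stalk u) R).comp (h.left.stalkMap u).hom) :
    AlgSp.LocPAt (fun h u => Dual3.IsGorensteinAt h u) f.hom x ↔
      φ.Flat ∧ LocCoh.IsGorensteinLocalRing (R ⧸ (IsLocalRing.maximalIdeal R').map φ) := by
  haveI : IsLocalHom (h.left.stalkMap u).hom := inferInstance
  have hfibN : IsLocallyNoetherian (h.left.fiber (h.left u)) :=
    fibNoeth f.hom hf a b h ha hb hc _
  have hNst : IsNoetherianRing
      ((h.left.fiber (h.left u)).presheaf.stalk (h.left.asFiber u)) := inferInstance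
  have hN : IsNoetherianRing (U.left.presheaf.stalk u ⧸
      (IsLocalRing.maximalIdeal (V.left.presheaf.stalk (h.left u))).map
        (h.left.stalkMap u).hom) :=
    isNoetherianRing_of_ringEquiv _ (Groth.Agent.FibStalkIso.fibStalkEquiv h.left u).symm
  have hmain := alg_main (V.left.presheaf.stalk (h.left u)) (U.left.presheaf.stalk u) R' R
    (h.left.stalkMap u).hom φ hφ hN
  have hGor : Dual3.IsGorensteinAt h.left u ↔
      ((h.left.stalkMap u).hom.Flat ∧ LocCoh.IsGorensteinLocalRing (U.left.presheaf.stalk u ⧸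
        (IsLocalRing.maximalIdeal (V.left.presheaf.stalk (h.left u))).map
          (h.left.stalkMap u).hom)) :=
    and_congr Iff.rfl
      (Groth.Agent.GorFlat9.gorenstein_congr (Groth.Agent.FibStalkIso.fibStalkEquiv h.left u)).symm
  rw [← hmain, ← hGor]
  constructor
  · intro H
    exact H a b h u ha hb hc hu
  · intro G U₂ V₂ a₂ b₂ h₂ u₂ hae₂ hbe₂ comm₂ hu₂
    exact gorAt_chart_indep f.hom hf a b h ha hb hc a₂ b₂ h₂ hae₂ hbe₂ comm₂ u u₂
      (hu.trans hu₂.symm) G

end Groth.Agent.Lib.AlgSpGor4H7
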