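import Groth.Agent.Lib.AlgSpDeform_helper7
import Groth.Agent.Lib.AlgSpNoethDesc_helper7
import Groth.Agent.Lib.AlgSpFormal_helper7
import Groth.Agent.Lib.GorMor_helper9
import Groth.Agent.S3625
import Groth.Agent.S5011

/-!
# Gorenstein morphisms of algebraic spaces at a point (helper7)

Chart independence of `Dual3.IsGorensteinAt` on étale chart diagrams, composition (S10687) and base
change (S10688).
-/

set_option autoImplicit false
set_option linter.style.haveILetI false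
set_option backward.isDefEq.respectTransparency false
set_option backward.isDefEq.respectTransparency.types false

universe u

open CategoryTheory CategoryTheory.Limits AlgebraicGeometry Opposite

namespace Groth.Agent.Lib.AlgSpGorH7

open AlgSp Groth.Agent.Lib.AlgStLocQ
  Groth.Agent.Lib.AlgSpQC_helper7 Groth.Agent.Lib.AlgSpDiag_helper7
  Groth.Agent.Lib.AlgSpPullback_helper7 Groth.Agent.Lib.AlgSpRepBySp_helper7
  Groth.Agent.Lib.AlgSpPoints_helper7 Groth.Agent.Lib.AlgSpLocP_helper7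
  Groth.Agent.Lib.AlgSpBasic_helper7
  Groth.Agent.Lib.AlgSpNoethDesc_helper7 Groth.Agent.Lib.AlgSpFormal_helper7
  Groth.Agent.Lib.AlgSpDeformH7

/-! ## Scheme level -/

theorem gor_of_isField_quot {A : Type u} [CommRing A] (I : Ideal A) (h : IsField (A ⧸ I)) :
    LocCoh.IsGorensteinLocalRing (A ⧸ I) := by
  haveI : I.IsMaximal := Ideal.Quotient.maximal_of_isField I h
  letI : Field (A ⧸ I) := Ideal.Quotient.field I
  exact Groth.Agent.GorFlat9.gorenstein_of_injective (A ⧸ I)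
    (Module.injective_of_isSemisimpleRing (A ⧸ I) (A ⧸ I))

/-- An étale morphism is Gorenstein at every point. -/
theorem gorAt_of_etale {X Y : Scheme.{u}} (f : X ⟶ Y) [Etale f] (x : X) :
    Dual3.IsGorensteinAt f x := by
  have h5 := ((Groth.Agent.S5011.result f).1 inferInstance).2 x
  have h6 : IsField (X.presheaf.stalk x ⧸ Groth.Agent.FibStalkDimH8.fibIdeal f x) := h5.1
  exact ⟨Flat.stalkMap f x,
    (Groth.Agent.GorFlat9.gorenstein_congr (Groth.Agent.FibStalkIso.fibStalkEquiv f x)).1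
      (gor_of_isField_quot _ h6)⟩

/-- Precomposition with an étale morphism does not change Gorenstein-ness at a point. -/
theorem gorAt_precomp_iff {U' U V : Scheme.{u}} (e : U' ⟶ U) (h : U ⟶ V) [Etale e] (u' : U')
    (hN1 : ∀ y, IsLocallyNoetherian (h.fiber y))
    (hN2 : ∀ y, IsLocallyNoetherian ((e ≫ h).fiber y)) :
    Dual3.IsGorensteinAt (e ≫ h) u' ↔ Dual3.IsGorensteinAt h (e u') := by
  constructor
  · intro H
    exact (Groth.Agent.GorMor9.gor_of_comp e h u' (hN1 _) H (Flat.stalkMap e u')).2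
  · intro H
    exact Groth.Agent.GorMor9.gor_comp e h u' (hN2 _) (gorAt_of_etale e u') H

variable {S : Scheme.{u}}

/-! ## Fibres of chart morphisms -/

theorem locNoeth_of_etale_chart {P : Sp S} (hP : IsLocNoethSp P) {T : Over S}
    (p : (yon S).obj T ⟶ P) (hp : RepWith @Etale p) : IsLocallyNoetherian T.left := by
  obtain ⟨W, c, hce, hcs, hWn⟩ := hP
  have sq := hce.rep.isPullback' p
  haveI : Etale (hce.rep.fst' p).left := hp.property c _ _ sq.flip
  haveI : Etale (hce.rep.snd p).left := hce.property_snd p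
  haveI : Surjective (hce.rep.snd p).left := hcs.property _ _ _ (hce.rep.isPullback p)
  haveI : IsLocallyNoetherian W.left := hWn
  haveI : IsLocallyNoetherian (hce.rep.pullback p).left :=
    LocallyOfFiniteType.isLocallyNoetherian (hce.rep.fst' p).left
  exact isLocallyNoetherian_of_flat_of_surjective (hce.rep.snd p).left
    (hce.rep.snd p).left.isOpenMap

theorem locNoeth_fibre_chart {F G : Sp S} (f : F ⟶ G) {U V T : Over S}
    (a : (yon S).obj U ⟶ F) (b : (yon S).obj V ⟶ G) (h : U ⟶ V)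
    (hae : RepWith @Etale a) (hbe : RepWith @Etale b) (comm : a ≫ f = (yon S).map h ≫ b)
    (t : T ⟶ V) (kh : (yon S).obj T ⟶ G) (hkh : kh = (yon S).map t ≫ b)
    (hN : IsLocNoethSp (pullback f kh)) : IsLocallyNoetherian (pullback h t).left := by
  subst hkh
  have sqP := IsPullback.of_hasPullback f b
  have sqK := IsPullback.of_hasPullback f ((yon S).map t ≫ b)
  have sqt := (IsPullback.of_hasPullback h t).map (yon S)
  obtain ⟨aV, haV1, haV2⟩ : ∃ aV : (yon S).obj U ⟶ pullback f b,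
      aV ≫ pullback.fst f b = a ∧ aV ≫ pullback.snd f b = (yon S).map h :=
    ⟨pullback.lift a ((yon S).map h) comm, pullback.lift_fst _ _ _, pullback.lift_snd _ _ _⟩
  have haVe : RepWith @Etale aV :=
    repWith_etale_of_comp aV (pullback.fst f b) (by rw [haV1]; exact hae)
      (repWith_fst_of_isPullback _ sqP hbe)
  obtain ⟨r, hr1, hr2⟩ : ∃ r : pullback f ((yon S).map t ≫ b) ⟶ pullback f b,
      r ≫ pullback.fst f b = pullback.fst f ((yon S).map t ≫ b) ∧
      r ≫ pullback.snd f b = pullback.snd f ((yon S).map t ≫ b) ≫ (yon S).map t :=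
    ⟨pullback.lift (pullback.fst _ _) (pullback.snd _ _ ≫ (yon S).map t)
      (by rw [Category.assoc]; exact pullback.condition),
      pullback.lift_fst _ _ _, pullback.lift_snd _ _ _⟩
  have sqr : IsPullback r (pullback.snd f ((yon S).map t ≫ b)) (pullback.snd f b)
      ((yon S).map t) := by
    refine IsPullback.of_right ?_ hr2 sqP
    rw [hr1]; exact sqK
  obtain ⟨at', hat1, hat2⟩ : ∃ at' : (yon S).obj (pullback h t) ⟶
      pullback f ((yon S).map t ≫ b),
      at' ≫ pullback.fst f ((yon S).map t ≫ b) = (yon S).map (pullback.fst h t) ≫ a ∧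
      at' ≫ pullback.snd f ((yon S).map t ≫ b) = (yon S).map (pullback.snd h t) :=
    ⟨pullback.lift ((yon S).map (pullback.fst h t) ≫ a) ((yon S).map (pullback.snd h t)) (by
      calc ((yon S).map (pullback.fst h t) ≫ a) ≫ f
          = (yon S).map (pullback.fst h t) ≫ (a ≫ f) := Category.assoc _ _ _
        _ = (yon S).map (pullback.fst h t) ≫ ((yon S).map h ≫ b) := by rw [comm]
        _ = (yon S).map (pullback.fst h t ≫ h) ≫ b := by
            rw [CategoryTheory.Functor.map_comp, Category.assoc]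
        _ = (yon S).map (pullback.snd h t ≫ t) ≫ b := by rw [pullback.condition]
        _ = (yon S).map (pullback.snd h t) ≫ ((yon S).map t ≫ b) := by
            rw [CategoryTheory.Functor.map_comp, Category.assoc]),
      pullback.lift_fst _ _ _, pullback.lift_snd _ _ _⟩
  have sqA : IsPullback at' ((yon S).map (pullback.fst h t)) r aV := by
    refine IsPullback.of_right ?_ ?_ sqr.flip
    · rw [hat2, haV2]; exact sqt.flip
    · apply pullback.hom_ext
      · rw [Category.assoc, hr1, hat1, Category.assoc, haV1]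
      · calc (at' ≫ r) ≫ pullback.snd f b = at' ≫ (r ≫ pullback.snd f b) := Category.assoc _ _ _
          _ = at' ≫ (pullback.snd f ((yon S).map t ≫ b) ≫ (yon S).map t) := by rw [hr2]
          _ = (at' ≫ pullback.snd f ((yon S).map t ≫ b)) ≫ (yon S).map t :=
              (Category.assoc _ _ _).symm
          _ = (yon S).map (pullback.snd h t) ≫ (yon S).map t := by rw [hat2]
          _ = (yon S).map (pullback.snd h t ≫ t) := (CategoryTheory.Functor.map_comp _ _ _).symm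
          _ = (yon S).map (pullback.fst h t ≫ h) := by rw [pullback.condition]
          _ = (yon S).map (pullback.fst h t) ≫ (yon S).map h :=
              CategoryTheory.Functor.map_comp _ _ _
          _ = (yon S).map (pullback.fst h t) ≫ (aV ≫ pullback.snd f b) := by rw [haV2]
          _ = ((yon S).map (pullback.fst h t) ≫ aV) ≫ pullback.snd f b :=
              (Category.assoc _ _ _).symm
  have hate : RepWith @Etale at' := repWith_fst_of_isPullback _ sqA haVe
  exact locNoeth_of_etale_chart hN at' hate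

/-- The fibre hypothesis of the statements. -/
abbrev FibNoeth {F G : Sp S} (f : F ⟶ G) : Prop :=
  ∀ (k : FieldPt G) (Xk : Sp S) (a : Xk ⟶ F) (b : Xk ⟶ (yon S).obj k.pt),
    IsPullback a b f k.toHom → IsLocNoethSp Xk

/-- Fibres of chart morphisms are locally Noetherian. -/
theorem fibNoeth {F G : Sp S} (f : F ⟶ G) (hf : FibNoeth f)
    {U V : Over S} (a : (yon S).obj U ⟶ F) (b : (yon S).obj V ⟶ G) (h : U ⟶ V)
    (hae : RepWith @Etale a) (hbe : RepWith @Etale b) (comm : a ≫ f = (yon S).map h ≫ b)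
    (v : ↥V.left) : IsLocallyNoetherian (h.left.fiber v) := by
  obtain ⟨t, ht1, ht2⟩ : ∃ t : (FieldPt.ofPt b v).pt ⟶ V,
      t.left = V.left.fromSpecResidueField v ∧ (FieldPt.ofPt b v).toHom = (yon S).map t ≫ b :=
    ⟨Over.homMk (V.left.fromSpecResidueField v) rfl, rfl, FieldPt.toHom_ofPt b v⟩
  have hN : IsLocNoethSp (pullback f (FieldPt.ofPt b v).toHom) :=
    hf _ _ _ _ (IsPullback.of_hasPullback f _)
  haveI : IsLocallyNoetherian (pullback h t).left :=
    locNoeth_fibre_chart f a b h hae hbe comm t _ ht2 hN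
  have sq : IsPullback (pullback.fst h t).left (pullback.snd h t).left h.left t.left :=
    (IsPullback.of_hasPullback h t).map (Over.forget S)
  rw [ht1] at sq
  change IsLocallyNoetherian (pullback h.left (V.left.fromSpecResidueField v))
  exact isLocallyNoetherian_of_isOpenImmersion (Y := (pullback h t).left) sq.isoPullback.inv

/-! ## Refinement of charts -/

theorem refine_iff {F G : Sp S} (f : F ⟶ G) (hf : FibNoeth f)
    {U₁ V₁ U₃ V₃ : Over S} (a₁ : (yon S).obj U₁ ⟶ F) (b₁ : (yon S).obj V₁ ⟶ G) (h₁ : U₁ ⟶ V₁)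
    (hae : RepWith @Etale a₁) (hbe : RepWith @Etale b₁) (comm : a₁ ≫ f = (yon S).map h₁ ≫ b₁)
    (q : V₃ ⟶ V₁) (p : U₃ ⟶ U₁) (h₃ : U₃ ⟶ V₃) (hq : Etale q.left) (hp : Etale p.left)
    (hh : h₃ ≫ q = p ≫ h₁) (u₃ : ↥U₃.left) :
    Dual3.IsGorensteinAt h₁.left (p.left u₃) ↔ Dual3.IsGorensteinAt h₃.left u₃ := by
  have sq' := IsPullback.of_hasPullback h₁ q
  obtain ⟨e, he1, he2⟩ : ∃ e : U₃ ⟶ pullback h₁ q, e ≫ pullback.fst h₁ q = p ∧
      e ≫ pullback.snd h₁ q = h₃ :=
    ⟨pullback.lift p h₃ hh.symm, pullback.lift_fst _ _ _, pullback.lift_snd _ _ _⟩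
  have sqS : IsPullback (pullback.fst h₁ q).left (pullback.snd h₁ q).left h₁.left q.left :=
    sq'.map (Over.forget S)
  haveI := hq
  haveI := hp
  haveI hfe : Etale (pullback.fst h₁ q).left :=
    MorphismProperty.of_isPullback (P := @Etale) sqS.flip hq
  have hee : Etale e.left := by
    refine (repWith_yon_map_iff @Etale e).1 ?_
    refine repWith_etale_of_comp ((yon S).map e) ((yon S).map (pullback.fst h₁ q)) ?_
      ((repWith_yon_map_iff @Etale _).2 hfe)
    rw [← CategoryTheory.Functor.map_comp, he1]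
    exact (repWith_yon_map_iff @Etale _).2 hp
  haveI := hee
  -- the charts
  have ha'e : RepWith @Etale ((yon S).map (pullback.fst h₁ q) ≫ a₁) :=
    repWith_comp _ ((repWith_yon_map_iff _ _).2 hfe) hae
  have hb₃e : RepWith @Etale ((yon S).map q ≫ b₁) :=
    repWith_comp _ ((repWith_yon_map_iff _ _).2 hq) hbe
  have comm' : ((yon S).map (pullback.fst h₁ q) ≫ a₁) ≫ f =
      (yon S).map (pullback.snd h₁ q) ≫ ((yon S).map q ≫ b₁) := by
    calc ((yon S).map (pullback.fst h₁ q) ≫ a₁) ≫ f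
        = (yon S).map (pullback.fst h₁ q) ≫ (a₁ ≫ f) := Category.assoc _ _ _
      _ = (yon S).map (pullback.fst h₁ q) ≫ ((yon S).map h₁ ≫ b₁) := by rw [comm]
      _ = (yon S).map (pullback.fst h₁ q ≫ h₁) ≫ b₁ := by
          rw [CategoryTheory.Functor.map_comp, Category.assoc]
      _ = (yon S).map (pullback.snd h₁ q ≫ q) ≫ b₁ := by rw [pullback.condition]
      _ = (yon S).map (pullback.snd h₁ q) ≫ ((yon S).map q ≫ b₁) := by
          rw [CategoryTheory.Functor.map_comp, Category.assoc]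
  have ha₃e : RepWith @Etale ((yon S).map p ≫ a₁) :=
    repWith_comp _ ((repWith_yon_map_iff _ _).2 hp) hae
  have comm₃ : ((yon S).map p ≫ a₁) ≫ f = (yon S).map h₃ ≫ ((yon S).map q ≫ b₁) := by
    calc ((yon S).map p ≫ a₁) ≫ f = (yon S).map p ≫ (a₁ ≫ f) := Category.assoc _ _ _
      _ = (yon S).map p ≫ ((yon S).map h₁ ≫ b₁) := by rw [comm]
      _ = (yon S).map (p ≫ h₁) ≫ b₁ := by rw [CategoryTheory.Functor.map_comp, Category.assoc]
      _ = (yon S).map (h₃ ≫ q) ≫ b₁ := by rw [hh]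
      _ = (yon S).map h₃ ≫ ((yon S).map q ≫ b₁) := by
          rw [CategoryTheory.Functor.map_comp, Category.assoc]
  have hN₁ : ∀ y, IsLocallyNoetherian (h₁.left.fiber y) := fibNoeth f hf a₁ b₁ h₁ hae hbe comm
  have hN' : ∀ y, IsLocallyNoetherian ((pullback.snd h₁ q).left.fiber y) :=
    fibNoeth f hf _ _ (pullback.snd h₁ q) ha'e hb₃e comm'
  have he2' : e.left ≫ (pullback.snd h₁ q).left = h₃.left := by rw [← Over.comp_left, he2]
  have hN₃ : ∀ y, IsLocallyNoetherian ((e.left ≫ (pullback.snd h₁ q).left).fiber y) := by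
    rw [he2']
    exact fibNoeth f hf _ _ h₃ ha₃e hb₃e comm₃
  have hpt : (pullback.fst h₁ q).left (e.left u₃) = p.left u₃ := by
    rw [← Scheme.Hom.comp_apply, ← Over.comp_left, he1]
  have hA := gorAt_precomp_iff e.left (pullback.snd h₁ q).left u₃ hN' hN₃
  rw [he2'] at hA
  have hBC := Groth.Agent.S3625.result U₁.left V₁.left (pullback h₁ q).left V₃.left h₁.left q.left
    (pullback.snd h₁ q).left (pullback.fst h₁ q).left sqS hN₁ (e.left u₃)
  rw [hpt] at hBC
  constructor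
  · intro H
    exact hA.2 (hBC.1 H)
  · intro H
    exact hBC.2.2 (Flat.stalkMap q.left _) (hA.1 H)

/-- Chart independence of Gorenstein-ness at a point. -/
theorem gorAt_chart_indep {F G : Sp S} (f : F ⟶ G) (hf : FibNoeth f)
    {U₁ V₁ U₂ V₂ : Over S} (a₁ : (yon S).obj U₁ ⟶ F) (b₁ : (yon S).obj V₁ ⟶ G) (h₁ : U₁ ⟶ V₁)
    (hae₁ : RepWith @Etale a₁) (hbe₁ : RepWith @Etale b₁)
    (comm₁ : a₁ ≫ f = (yon S).map h₁ ≫ b₁)
    (a₂ : (yon S).obj U₂ ⟶ F) (b₂ : (yon S).obj V₂ ⟶ G) (h₂ : U₂ ⟶ V₂)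
    (hae₂ : RepWith @Etale a₂) (hbe₂ : RepWith @Etale b₂)
    (comm₂ : a₂ ≫ f = (yon S).map h₂ ≫ b₂) (u₁ : ↥U₁.left) (u₂ : ↥U₂.left)
    (hpt : Points.ofPt a₁ u₁ = Points.ofPt a₂ u₂) (H : Dual3.IsGorensteinAt h₁.left u₁) :
    Dual3.IsGorensteinAt h₂.left u₂ := by
  obtain ⟨V₃, q₁, q₂, sqV, hq₁, hq₂⟩ : ∃ (V₃ : Over S) (q₁ : V₃ ⟶ V₁) (q₂ : V₃ ⟶ V₂),
      IsPullback ((yon S).map q₁) ((yon S).map q₂) b₁ b₂ ∧ Etale q₁.left ∧ Etale q₂.left :=
    ⟨_, hbe₁.rep.fst' b₂, hbe₁.rep.snd b₂, hbe₁.rep.isPullback' b₂,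
      hbe₂.property b₁ _ _ (hbe₁.rep.isPullback' b₂).flip, hbe₁.property_snd b₂⟩
  obtain ⟨U₃, p₁, p₂, sqU, hp₁, hp₂⟩ : ∃ (U₃ : Over S) (p₁ : U₃ ⟶ U₁) (p₂ : U₃ ⟶ U₂),
      IsPullback ((yon S).map p₁) ((yon S).map p₂) a₁ a₂ ∧ Etale p₁.left ∧ Etale p₂.left :=
    ⟨_, hae₁.rep.fst' a₂, hae₁.rep.snd a₂, hae₁.rep.isPullback' a₂,
      hae₂.property a₁ _ _ (hae₁.rep.isPullback' a₂).flip, hae₁.property_snd a₂⟩
  have w : (yon S).map (p₁ ≫ h₁) ≫ b₁ = (yon S).map (p₂ ≫ h₂) ≫ b₂ := by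
    calc (yon S).map (p₁ ≫ h₁) ≫ b₁ = (yon S).map p₁ ≫ ((yon S).map h₁ ≫ b₁) := by
          rw [CategoryTheory.Functor.map_comp, Category.assoc]
      _ = (yon S).map p₁ ≫ (a₁ ≫ f) := by rw [comm₁]
      _ = ((yon S).map p₁ ≫ a₁) ≫ f := (Category.assoc _ _ _).symm
      _ = ((yon S).map p₂ ≫ a₂) ≫ f := by rw [sqU.w]
      _ = (yon S).map p₂ ≫ (a₂ ≫ f) := Category.assoc _ _ _
      _ = (yon S).map p₂ ≫ ((yon S).map h₂ ≫ b₂) := by rw [comm₂]
      _ = (yon S).map (p₂ ≫ h₂) ≫ b₂ := by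
          rw [CategoryTheory.Functor.map_comp, Category.assoc]
  obtain ⟨h₃, hh₃⟩ := (yon S).map_surjective (sqV.lift _ _ w)
  have hh1 : h₃ ≫ q₁ = p₁ ≫ h₁ := by
    apply (yon S).map_injective
    rw [CategoryTheory.Functor.map_comp, hh₃]
    exact sqV.lift_fst _ _ w
  have hh2 : h₃ ≫ q₂ = p₂ ≫ h₂ := by
    apply (yon S).map_injective
    rw [CategoryTheory.Functor.map_comp, hh₃]
    exact sqV.lift_snd _ _ w
  obtain ⟨u₃, hu1, hu2⟩ := exists_ofPt_eq_of_isPullback sqU u₁ u₂ hpt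
  have G₃ : Dual3.IsGorensteinAt h₃.left u₃ :=
    (refine_iff f hf a₁ b₁ h₁ hae₁ hbe₁ comm₁ q₁ p₁ h₃ hq₁ hp₁ hh1 u₃).1 (by rw [hu1]; exact H)
  have G₂ := (refine_iff f hf a₂ b₂ h₂ hae₂ hbe₂ comm₂ q₂ p₂ h₃ hq₂ hp₂ hh2 u₃).2 G₃
  rw [hu2] at G₂
  exact G₂

/-! ## S10687 -/

theorem gorensteinAt_comp {X Y Z : AlgSp.Space S} (f : X ⟶ Y) (g : Y ⟶ Z)
    (hf : ∀ (k : AlgSp.FieldPt Y.obj) (Xk : AlgSp.Sp S) (a : Xk ⟶ X.obj)
        (b : Xk ⟶ (AlgSp.yon S).obj k.pt), IsPullback a b f.hom k.toHom → AlgSp.IsLocNoethSp Xk)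
    (hg : ∀ (k : AlgSp.FieldPt Z.obj) (Xk : AlgSp.Sp S) (a : Xk ⟶ Y.obj)
        (b : Xk ⟶ (AlgSp.yon S).obj k.pt), IsPullback a b g.hom k.toHom → AlgSp.IsLocNoethSp Xk)
    (hfg : ∀ (k : AlgSp.FieldPt Z.obj) (Xk : AlgSp.Sp S) (a : Xk ⟶ X.obj)
        (b : Xk ⟶ (AlgSp.yon S).obj k.pt), IsPullback a b (f ≫ g).hom k.toHom →
        AlgSp.IsLocNoethSp Xk)
    (x : AlgSp.Points X.obj) :
    (AlgSp.LocPAt (fun h u => Dual3.IsGorensteinAt h u) f.hom x →
        AlgSp.LocPAt (fun h u => Dual3.IsGorensteinAt h u) g.hom (AlgSp.Points.map f.hom x) →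
        AlgSp.LocPAt (fun h u => Dual3.IsGorensteinAt h u) (f ≫ g).hom x) ∧
      (AlgSp.LocPAt (fun h u => Dual3.IsGorensteinAt h u) (f ≫ g).hom x →
        AlgSp.IsFlatAtMor f.hom x →
        AlgSp.LocPAt (fun h u => Dual3.IsGorensteinAt h u) f.hom x ∧
          AlgSp.LocPAt (fun h u => Dual3.IsGorensteinAt h u) g.hom
            (AlgSp.Points.map f.hom x)) := by
  obtain ⟨U, V, W, a, b, c, h, k, u, hae, hbe, hce, -, comm1, comm2, hu⟩ :=
    exists_three_charts X.property Y.property Z.property f.hom g.hom x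
  have hfg' : FibNoeth (f.hom ≫ g.hom) := hfg
  have comm3 : a ≫ (f.hom ≫ g.hom) = (yon S).map (h ≫ k) ≫ c := by
    rw [← Category.assoc, comm1, Category.assoc, comm2, ← Category.assoc,
      ← CategoryTheory.Functor.map_comp]
  have hv : Points.ofPt b (h.left u) = Points.map f.hom x := by
    rw [← ofPt_comp, ← comm1, ← Points.map_ofPt, hu]
  constructor
  · intro hGf hGg
    have G1 : Dual3.IsGorensteinAt h.left u := hGf a b h u hae hbe comm1 hu
    have G2 : Dual3.IsGorensteinAt k.left (h.left u) := hGg b c k (h.left u) hbe hce comm2 hv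
    have hN : IsLocallyNoetherian ((h.left ≫ k.left).fiber (k.left (h.left u))) :=
      fibNoeth (f.hom ≫ g.hom) hfg' a c (h ≫ k) hae hce comm3 _
    have G3 : Dual3.IsGorensteinAt (h ≫ k).left u :=
      Groth.Agent.GorMor9.gor_comp h.left k.left u hN G1 G2
    intro U₂ V₂ a₂ b₂ h₂ u₂ hae₂ hbe₂ comm₂ hu₂
    exact gorAt_chart_indep (f.hom ≫ g.hom) hfg' a c (h ≫ k) hae hce comm3 a₂ b₂ h₂ hae₂ hbe₂
      comm₂ u u₂ (hu.trans hu₂.symm) G3
  · intro hGfg hfl
    have G3 : Dual3.IsGorensteinAt (h.left ≫ k.left) u := hGfg a c (h ≫ k) u hae hce comm3 hu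
    have hflat : (h.left.stalkMap u).hom.Flat := hfl a b h u hae hbe comm1 hu
    have hNk : IsLocallyNoetherian (k.left.fiber (k.left (h.left u))) :=
      fibNoeth g.hom hg b c k hbe hce comm2 _
    obtain ⟨G1, G2⟩ := Groth.Agent.GorMor9.gor_of_comp h.left k.left u hNk G3 hflat
    constructor
    · intro U₂ V₂ a₂ b₂ h₂ u₂ hae₂ hbe₂ comm₂ hu₂
      exact gorAt_chart_indep f.hom hf a b h hae hbe comm1 a₂ b₂ h₂ hae₂ hbe₂
        comm₂ u u₂ (hu.trans hu₂.symm) G1
    · intro V₂ W₂ b₂ c₂ k₂ v₂ hbe₂ hce₂ comm₂ hv₂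
      exact gorAt_chart_indep g.hom hg b c k hbe hce comm2 b₂ c₂ k₂ hbe₂ hce₂
        comm₂ (h.left u) v₂ (hv.trans hv₂.symm) G2

/-! ## S10688 -/

theorem gorensteinAt_baseChange {X Y X' Y' : AlgSp.Space S} (f : X ⟶ Y) (g : Y' ⟶ Y)
    (g' : X' ⟶ X) (f' : X' ⟶ Y')
    (hsq : IsPullback g'.hom f'.hom f.hom g.hom)
    (hf : ∀ (k : AlgSp.FieldPt Y.obj) (Xk : AlgSp.Sp S) (a : Xk ⟶ X.obj)
        (b : Xk ⟶ (AlgSp.yon S).obj k.pt), IsPullback a b f.hom k.toHom → AlgSp.IsLocNoethSp Xk)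
    (hg : AlgSp.LocP @LocallyOfFiniteType g.hom) (x' : AlgSp.Points X'.obj) :
    (AlgSp.LocPAt (fun h u => Dual3.IsGorensteinAt h u) f.hom (AlgSp.Points.map g'.hom x') →
        AlgSp.LocPAt (fun h u => Dual3.IsGorensteinAt h u) f'.hom x') ∧
      (AlgSp.IsFlatAtMor f.hom (AlgSp.Points.map g'.hom x') →
        AlgSp.LocPAt (fun h u => Dual3.IsGorensteinAt h u) f'.hom x' →
        AlgSp.LocPAt (fun h u => Dual3.IsGorensteinAt h u) f.hom
          (AlgSp.Points.map g'.hom x')) ∧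
      (AlgSp.IsFlatAtMor g.hom (AlgSp.Points.map f'.hom x') →
        AlgSp.LocPAt (fun h u => Dual3.IsGorensteinAt h u) f'.hom x' →
        AlgSp.LocPAt (fun h u => Dual3.IsGorensteinAt h u) f.hom
          (AlgSp.Points.map g'.hom x')) := by
  have hf' : FibNoeth f'.hom := by
    intro k Xk a b sq
    have h1 := sq.paste_horiz hsq
    rw [← FieldPt.toHom_map] at h1
    exact hf (k.map g.hom) Xk (a ≫ g'.hom) b h1
  obtain ⟨U, V, a, b, h, hae, has, hbe, hbs, comm⟩ :=
    exists_chart_square X.property Y.property f.hom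
  obtain ⟨V', b', hb'e, hb's⟩ := Y'.property.atlas
  obtain ⟨V'', t, s, sqV, hse, hss⟩ : ∃ (V'' : Over S) (t : V'' ⟶ V) (s : V'' ⟶ V'),
      IsPullback ((yon S).map t) ((yon S).map s) b (b' ≫ g.hom) ∧ Etale s.left ∧
      Surjective s.left :=
    ⟨_, hbe.rep.fst' _, hbe.rep.snd _, hbe.rep.isPullback' _, hbe.property_snd _,
      hbs.property _ _ _ (hbe.rep.isPullback _)⟩
  have hb''e : RepWith @Etale ((yon S).map s ≫ b') :=
    repWith_comp _ ((repWith_yon_map_iff _ _).2 hse) hb'e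
  have commg : ((yon S).map s ≫ b') ≫ g.hom = (yon S).map t ≫ b := by
    rw [Category.assoc]; exact sqV.w.symm
  haveI hlft : LocallyOfFiniteType t.left := hg _ b t hb''e hbe commg
  have sqU := IsPullback.of_hasPullback h t
  have sqP := IsPullback.of_hasPullback f'.hom b'
  have sqP2 : IsPullback (pullback.fst f'.hom b' ≫ g'.hom) (pullback.snd f'.hom b') f.hom
      (b' ≫ g.hom) := sqP.paste_horiz hsq
  obtain ⟨m, hm1, hm2, sqm⟩ := chart_bc f.hom (b' ≫ g.hom) (pullback.fst f'.hom b' ≫ g'.hom)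
    (pullback.snd f'.hom b') sqP2 a b h comm t ((yon S).map s) sqV.flip
    (pullback.fst h t) (pullback.snd h t) sqU
  have hme : RepWith @Etale m := repWith_fst_of_isPullback _ sqm hae
  have hms : RepWith @Surjective m := repWith_fst_of_isPullback _ sqm has
  have ha''e : RepWith @Etale (m ≫ pullback.fst f'.hom b') :=
    repWith_comp _ hme (repWith_fst_of_isPullback _ sqP hb'e)
  have ha''s : RepWith @Surjective (m ≫ pullback.fst f'.hom b') :=
    repWith_comp _ hms (repWith_fst_of_isPullback _ sqP hb's)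
  have comm'' : (m ≫ pullback.fst f'.hom b') ≫ f'.hom =
      (yon S).map (pullback.snd h t) ≫ ((yon S).map s ≫ b') := by
    calc (m ≫ pullback.fst f'.hom b') ≫ f'.hom
        = m ≫ (pullback.fst f'.hom b' ≫ f'.hom) := Category.assoc _ _ _
      _ = m ≫ (pullback.snd f'.hom b' ≫ b') := by rw [pullback.condition]
      _ = (m ≫ pullback.snd f'.hom b') ≫ b' := (Category.assoc _ _ _).symm
      _ = ((yon S).map (pullback.snd h t) ≫ (yon S).map s) ≫ b' := by rw [hm2]
      _ = (yon S).map (pullback.snd h t) ≫ ((yon S).map s ≫ b') := Category.assoc _ _ _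
  have commg' : (m ≫ pullback.fst f'.hom b') ≫ g'.hom = (yon S).map (pullback.fst h t) ≫ a := by
    rw [Category.assoc]; exact hm1
  obtain ⟨u'', hu''⟩ := ofPt_surjective _ ha''s x'
  have hu : Points.ofPt a ((pullback.fst h t).left u'') = Points.map g'.hom x' := by
    rw [← ofPt_comp, ← commg', ← Points.map_ofPt, hu'']
  have hpt : Points.ofPt ((yon S).map s ≫ b') ((pullback.snd h t).left u'') =
      Points.map f'.hom x' := by
    rw [← ofPt_comp, ← comm'', ← Points.map_ofPt, hu'']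
  have sqS : IsPullback (pullback.fst h t).left (pullback.snd h t).left h.left t.left :=
    sqU.map (Over.forget S)
  have hNh : ∀ y, IsLocallyNoetherian (h.left.fiber y) := fibNoeth f.hom hf a b h hae hbe comm
  have hBC := Groth.Agent.S3625.result U.left V.left (pullback h t).left V''.left h.left t.left
    (pullback.snd h t).left (pullback.fst h t).left sqS hNh u''
  refine ⟨?_, ?_, ?_⟩
  · intro hG
    have G : Dual3.IsGorensteinAt h.left ((pullback.fst h t).left u'') :=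
      hG a b h _ hae hbe comm hu
    have G'' := hBC.1 G
    intro U₂ V₂ a₂ b₂ h₂ u₂ hae₂ hbe₂ comm₂ hu₂
    exact gorAt_chart_indep f'.hom hf' _ _ (pullback.snd h t) ha''e hb''e comm'' a₂ b₂ h₂
      hae₂ hbe₂ comm₂ u'' u₂ (hu''.trans hu₂.symm) G''
  · intro hfl hG'
    have G'' : Dual3.IsGorensteinAt (pullback.snd h t).left u'' :=
      hG' _ _ (pullback.snd h t) u'' ha''e hb''e comm'' hu''
    have hflat : (h.left.stalkMap ((pullback.fst h t).left u'')).hom.Flat :=
      hfl a b h _ hae hbe comm hu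
    have G := hBC.2.1 hflat G''
    intro U₂ V₂ a₂ b₂ h₂ u₂ hae₂ hbe₂ comm₂ hu₂
    exact gorAt_chart_indep f.hom hf a b h hae hbe comm a₂ b₂ h₂
      hae₂ hbe₂ comm₂ _ u₂ (hu.trans hu₂.symm) G
  · intro hflg hG'
    have G'' : Dual3.IsGorensteinAt (pullback.snd h t).left u'' :=
      hG' _ _ (pullback.snd h t) u'' ha''e hb''e comm'' hu''
    have hflat : (t.left.stalkMap ((pullback.snd h t).left u'')).hom.Flat :=
      hflg _ b t _ hb''e hbe commg hpt
    have G := hBC.2.2 hflat G''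
    intro U₂ V₂ a₂ b₂ h₂ u₂ hae₂ hbe₂ comm₂ hu₂
    exact gorAt_chart_indep f.hom hf a b h hae hbe comm a₂ b₂ h₂
      hae₂ hbe₂ comm₂ _ u₂ (hu.trans hu₂.symm) G

end Groth.Agent.Lib.AlgSpGorH7
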