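import Groth.Agent.Lib.AlgSpGpdLaws_helper7

/-!
# Translation isomorphisms between fibres of the source map of a groupoid (helper7)
-/

set_option autoImplicit false
universe u
open CategoryTheory CategoryTheory.Limits AlgebraicGeometry Opposite
open AlgSp Groth.Agent.Lib.AlgSpGpdSepH7 Groth.Agent.Lib.AlgSpGpdLawsH7

namespace Groth.Agent.Lib.AlgSpGpdFibreH7

variable {S : Scheme.{u}} {B : Sp S} (G : GroupoidSp B) {Z : Sp S} (a b : Z ⟶ G.R)

lemma hX : pullback.snd (a ≫ G.s) G.s ≫ G.s =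
    ((pullback.fst (a ≫ G.s) G.s ≫ a) ≫ G.i) ≫ G.t := by
  rw [Category.assoc, G.i_t, Category.assoc, pullback.condition]

/-- `(z, ρ) ↦ ρ ∘ a(z)⁻¹` -/
noncomputable def Xmap : pullback (a ≫ G.s) G.s ⟶ G.R :=
  pullback.lift (pullback.snd (a ≫ G.s) G.s) ((pullback.fst (a ≫ G.s) G.s ≫ a) ≫ G.i) (hX G a) ≫
    G.c

lemma Xmap_def : Xmap G a = pullback.lift (pullback.snd (a ≫ G.s) G.s)
    ((pullback.fst (a ≫ G.s) G.s ≫ a) ≫ G.i) (hX G a) ≫ G.c := rfl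

lemma Xmap_s : Xmap G a ≫ G.s = (pullback.fst (a ≫ G.s) G.s ≫ a) ≫ G.t := by
  rw [Xmap_def, G.comp_s, Category.assoc _ G.i, G.i_s]

variable (hab : a ≫ G.t = b ≫ G.t)

include hab in
lemma hY : Xmap G a ≫ G.s = (pullback.fst (a ≫ G.s) G.s ≫ b) ≫ G.t := by
  rw [Xmap_s, Category.assoc, hab, Category.assoc]

/-- `(z, ρ) ↦ ρ ∘ a(z)⁻¹ ∘ b(z)` -/
noncomputable def Ymap : pullback (a ≫ G.s) G.s ⟶ G.R :=
  pullback.lift (Xmap G a) (pullback.fst (a ≫ G.s) G.s ≫ b) (hY G a b hab) ≫ G.c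

lemma Ymap_def : Ymap G a b hab =
    pullback.lift (Xmap G a) (pullback.fst (a ≫ G.s) G.s ≫ b) (hY G a b hab) ≫ G.c := rfl

lemma Ymap_s : Ymap G a b hab ≫ G.s = pullback.fst (a ≫ G.s) G.s ≫ b ≫ G.s := by
  rw [Ymap_def, G.comp_s, Category.assoc]

/-- The translation map between fibres. -/
noncomputable def Φ : pullback (a ≫ G.s) G.s ⟶ pullback (b ≫ G.s) G.s :=
  pullback.lift (pullback.fst (a ≫ G.s) G.s) (Ymap G a b hab) (Ymap_s G a b hab).symm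

lemma Φ_fst : Φ G a b hab ≫ pullback.fst (b ≫ G.s) G.s = pullback.fst (a ≫ G.s) G.s :=
  pullback.lift_fst _ _ _

lemma Φ_snd : Φ G a b hab ≫ pullback.snd (b ≫ G.s) G.s = Ymap G a b hab :=
  pullback.lift_snd _ _ _

lemma Φ_Xmap : Φ G a b hab ≫ Xmap G b = Xmap G a := by
  rw [Xmap_def G b, comp_lift_c G]
  have hh := hY G a b hab
  have h1 : (pullback.lift (Xmap G a) (pullback.fst (a ≫ G.s) G.s ≫ b) hh ≫ G.c) ≫ G.s =
      ((pullback.fst (a ≫ G.s) G.s ≫ b) ≫ G.i) ≫ G.t := by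
    rw [G.comp_s, Category.assoc _ G.i, G.i_t]
  refine (lift_c_congr G ?_ ?_ _ h1).trans
    (L4 G (Xmap G a) (pullback.fst (a ≫ G.s) G.s ≫ b) hh h1)
  · rw [Φ_snd, Ymap_def]
  · rw [← Category.assoc, ← Category.assoc, Φ_fst]

lemma Φ_comp : Φ G a b hab ≫ Φ G b a hab.symm = 𝟙 _ := by
  apply pullback.hom_ext
  · rw [Category.assoc, Φ_fst, Φ_fst, Category.id_comp]
  · rw [Category.assoc, Φ_snd, Category.id_comp, Ymap_def G b a, comp_lift_c G]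
    have h2 : Xmap G a ≫ G.s = (pullback.fst (a ≫ G.s) G.s ≫ a) ≫ G.t := Xmap_s G a
    refine (lift_c_congr G (Φ_Xmap G a b hab) ?_ _ h2).trans ?_
    · rw [← Category.assoc, Φ_fst]
    · exact L3 G (pullback.snd (a ≫ G.s) G.s) (pullback.fst (a ≫ G.s) G.s ≫ a) (hX G a) h2

/-- The fibres of `s` over `s ∘ a` and `s ∘ b` are isomorphic when `t ∘ a = t ∘ b`. -/
noncomputable def fibreIso : pullback (a ≫ G.s) G.s ≅ pullback (b ≫ G.s) G.s where
  hom := Φ G a b hab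
  inv := Φ G b a hab.symm
  hom_inv_id := Φ_comp G a b hab
  inv_hom_id := Φ_comp G b a hab.symm

end Groth.Agent.Lib.AlgSpGpdFibreH7
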