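import Groth.Agent.Lib.AlgSpLocP2_helper7

/-!
# `LocP`: comparison with `RepWith`, Noetherian sources, universally open (helper7)
-/

set_option autoImplicit false
universe u
open CategoryTheory CategoryTheory.Limits AlgebraicGeometry Opposite MorphismProperty

namespace Groth.Agent.Lib.AlgSpLocP3_helper7

open AlgSp Groth.Agent.Lib.AlgSpQC2_helper7 Groth.Agent.Lib.AlgSpPoints_helper7
  Groth.Agent.Lib.AlgSpQC_helper7 Groth.Agent.Lib.AlgSpDiag_helper7 Groth.Agent.Lib.AlgSpTop_helper7
  Groth.Agent.Lib.AlgSpPullback_helper7 Groth.Agent.Lib.AlgSpSep_helper7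
  Groth.Agent.Lib.AlgSpLocP_helper7 Groth.Agent.Lib.AlgSpUniv_helper7
  Groth.Agent.Lib.AlgSpProper_helper7 Groth.Agent.Lib.AlgSpFpqc_helper7
  Groth.Agent.Lib.AlgSpDescent_helper7 Groth.Agent.Lib.AlgSpEtale_helper7
  Groth.Agent.Lib.AlgSpLocP2_helper7

variable {S : Scheme.{u}}

/-- For a representable morphism to an algebraic space, `LocP P` and `RepWith P` agree. -/
theorem locP_iff_repWith (P : MorphismProperty Scheme.{u}) [P.IsStableUnderBaseChange]
    [P.IsStableUnderComposition] (hE : ∀ ⦃A B : Scheme.{u}⦄ (g : A ⟶ B), Etale g → P g)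
    (hD : DescendsEtale P) {X Y : Sp S} (hY : IsAlgSpace Y) (f : X ⟶ Y) (hf : Representable f) :
    LocP P f ↔ RepWith P f :=
  ⟨repWith_of_locP P hD hY f hf, locP_of_repWith P hE f⟩

/-- The listed classes `P` of the reference. -/
theorem locP_iff_repWith_listed (P : MorphismProperty Scheme.{u})
    (hP : P = @LocallyOfFiniteType ∨ P = @LocallyOfFinitePresentation ∨ P = @Flat ∨ P = @Smooth ∨
      P = @Etale ∨ (∀ ⦃A B : Scheme.{u}⦄ (g : A ⟶ B), P g ↔ (LocallyQuasiFinite g ∧
      LocallyOfFiniteType g)) ∨ (∀ ⦃A B : Scheme.{u}⦄ (g : A ⟶ B), P g ↔ (LocallyOfFiniteType g ∧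
      FormallyUnramified g))) {X Y : Sp S} (hY : IsAlgSpace Y) (f : X ⟶ Y)
    (hf : Representable f) : LocP P f ↔ RepWith P f := by
  rcases hP with rfl | rfl | rfl | rfl | rfl | h | h
  · exact locP_iff_repWith _ (fun _ _ g _ => (inferInstance : LocallyOfFiniteType g))
      (descendsEtale_of_descendsAlong _) hY f hf
  · exact locP_iff_repWith _ (fun _ _ g _ => (inferInstance : LocallyOfFinitePresentation g))
      (descendsEtale_of_descendsAlong _) hY f hf
  · exact locP_iff_repWith _ (fun _ _ g _ => (inferInstance : Flat g))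
      descendsEtale_flat hY f hf
  · exact locP_iff_repWith _ (fun _ _ g _ => (inferInstance : Smooth g))
      (descendsEtale_of_descendsAlong _) hY f hf
  · exact locP_iff_repWith _ (fun _ _ g hg => hg)
      (descendsEtale_of_descendsAlong _) hY f hf
  · obtain rfl : P = (@LocallyQuasiFinite ⊓ @LocallyOfFiniteType : MorphismProperty Scheme.{u}) := by
      ext A B g; exact h g
    exact locP_iff_repWith _ (fun _ _ g _ => ⟨locallyQuasiFinite_of_unramified g, inferInstance⟩)
      descendsEtale_locallyQuasiFinite hY f hf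
  · obtain rfl : P = (@LocallyOfFiniteType ⊓ @FormallyUnramified : MorphismProperty Scheme.{u}) := by
      ext A B g; exact h g
    exact locP_iff_repWith _ (fun _ _ g _ => ⟨inferInstance, inferInstance⟩)
      (Groth.Agent.Lib.AlgSpDescent2_helper7.descendsEtale_inf (descendsEtale_of_descendsAlong _) (descendsEtale_of_descendsAlong _))
      hY f hf

/-- The source of a morphism locally of finite type to a locally Noetherian space is locally
Noetherian. -/
theorem isLocNoethSp_of_locP {X Y : Sp S} (hX : IsAlgSpace X) (hY : Representable (Limits.diag Y))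
    (f : X ⟶ Y) (hf : LocP @LocallyOfFiniteType f) (h : IsLocNoethSp Y) : IsLocNoethSp X := by
  obtain ⟨V, q, hqe, hqs, hV⟩ := h
  have sq := IsPullback.of_hasPullback f q
  have hP : IsAlgSpace (pullback f q) :=
    isAlgSpace_of_isPullback hY hX (IsAlgSpace.yon_obj V) sq
  obtain ⟨U, a, hae, has⟩ := hP.atlas
  obtain ⟨k, hk⟩ := (yon S).map_surjective (a ≫ pullback.snd f q)
  have h1 : RepWith @Etale (pullback.fst f q) := repWith_fst_of_isPullback _ sq hqe
  have h1s : RepWith @Surjective (pullback.fst f q) := repWith_fst_of_isPullback _ sq hqs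
  have h2 : RepWith @Etale (a ≫ pullback.fst f q) := repWith_comp _ hae h1
  have h2s : RepWith @Surjective (a ≫ pullback.fst f q) := repWith_comp _ has h1s
  have h3 : LocallyOfFiniteType k.left := hf _ _ k h2 hqe (by
    rw [hk, Category.assoc, Category.assoc, pullback.condition])
  have : IsLocallyNoetherian V.left := hV
  exact ⟨U, _, h2, h2s, LocallyOfFiniteType.isLocallyNoetherian k.left⟩

/-- A flat morphism locally of finite presentation is universally open. -/
theorem isUnivOpenMor_of_flat_of_lfp {X Y : Sp S} (hX : IsAlgSpace X) (hY : IsAlgSpace Y)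
    (f : X ⟶ Y) (hfl : LocP @Flat f) (hfp : LocP @LocallyOfFinitePresentation f) :
    IsUnivOpenMor f := by
  obtain ⟨V, q, hqe, hqs⟩ := hY.atlas
  have sq := IsPullback.of_hasPullback f q
  have hP : IsAlgSpace (pullback f q) :=
    isAlgSpace_of_isPullback hY.diag hX (IsAlgSpace.yon_obj V) sq
  apply isUnivOpenMor_of_chart hY f q hqe hqs sq
  obtain ⟨U, a, hae, has⟩ := hP.atlas
  apply isUnivOpenMor_of_comp_surjective a _ has
  obtain ⟨k, hk⟩ := (yon S).map_surjective (a ≫ pullback.snd f q)
  have h1 : RepWith @Etale (pullback.fst f q) := repWith_fst_of_isPullback _ sq hqe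
  have h2 : RepWith @Etale (a ≫ pullback.fst f q) := repWith_comp _ hae h1
  have hc : (a ≫ pullback.fst f q) ≫ f = (yon S).map k ≫ q := by
    rw [hk, Category.assoc, Category.assoc, pullback.condition]
  have h3 : Flat k.left := hfl _ _ k h2 hqe hc
  have h4 : LocallyOfFinitePresentation k.left := hfp _ _ k h2 hqe hc
  rw [← hk]
  apply (repWith_universallyOpen_iff _ (representable_yon_map k)).1
  rw [repWith_yon_map_iff]
  exact (inferInstance : UniversallyOpen k.left)

end Groth.Agent.Lib.AlgSpLocP3_helper7
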