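import Groth.Agent.Lib.AlgSpFieldFlat_helper7
import Groth.Agent.Lib.AlgSpLocP4_helper7
import Groth.Agent.Lib.AlgSpLocP3_helper7

/-!
# Morphisms to (a sheaf isomorphic to) the spectrum of a field are flat and universally open (helper7)
-/

set_option autoImplicit false
universe u
open CategoryTheory CategoryTheory.Limits AlgebraicGeometry Opposite MorphismProperty
open AlgSp Groth.Agent.Lib.AlgSpQC2_helper7 Groth.Agent.Lib.AlgSpPoints_helper7
  Groth.Agent.Lib.AlgSpQC_helper7 Groth.Agent.Lib.AlgSpDiag_helper7 Groth.Agent.Lib.AlgSpTop_helper7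
  Groth.Agent.Lib.AlgSpPullback_helper7 Groth.Agent.Lib.AlgSpSep_helper7
  Groth.Agent.Lib.AlgSpLocP_helper7 Groth.Agent.Lib.AlgSpUniv_helper7
  Groth.Agent.Lib.AlgSpBasic_helper7 Groth.Agent.Lib.AlgSpLocP4_helper7
  Groth.Agent.Lib.AlgSpFieldFlat_helper7

namespace Groth.Agent.Lib.AlgSpGpdFieldH7

variable {S : Scheme.{u}}

theorem locP_flat_of_isIso {X Y : Sp S} (e : X ⟶ Y) [IsIso e] : LocP @Flat e :=
  locP_of_repWith @Flat (fun _ _ g hg => by haveI := hg; exact (inferInstance : Flat g)) e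
    (repWith_of_isIso @Flat e)

theorem locP_flat_of_target_iso_field {X U : Sp S} (hX : IsAlgSpace X) {k : Type u} [Field k]
    (σ : Spec (CommRingCat.of k) ⟶ S) (eU : U ≅ (yon S).obj (Over.mk σ)) (f : X ⟶ U) :
    LocP @Flat f := by
  have hU : IsAlgSpace U := (IsAlgSpace.yon_obj (Over.mk σ)).of_iso eU.symm
  have h0 : LocP @Flat (f ≫ eU.hom) := locP_flat_to_field σ _
  have := locP_comp etLocal_flat hX (IsAlgSpace.yon_obj _) hU (f ≫ eU.hom) eU.inv h0
    (locP_flat_of_isIso eU.inv)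
  simpa using this

theorem isUnivOpenMor_of_target_iso_field {X U : Sp S} (hX : IsAlgSpace X) {k : Type u} [Field k]
    (σ : Spec (CommRingCat.of k) ⟶ S) (eU : U ≅ (yon S).obj (Over.mk σ)) (f : X ⟶ U) :
    IsUnivOpenMor f := by
  have h0 : IsUnivOpenMor (f ≫ eU.hom) := by
    obtain ⟨A, a, hae, has⟩ := hX.atlas
    apply isUnivOpenMor_of_comp_surjective a _ has
    obtain ⟨k', hk'⟩ := (yon S).map_surjective (a ≫ f ≫ eU.hom)
    rw [← hk']
    apply (repWith_universallyOpen_iff _ (representable_yon_map k')).1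
    rw [repWith_yon_map_iff]
    show @UniversallyOpen A.left (Spec (CommRingCat.of k)) k'.left
    infer_instance
  intro Z Z' hZ g fst snd sq
  exact h0 hZ (g ≫ eU.hom) fst snd ((isPullback_comp_mono_iff eU.hom).2 sq)

end Groth.Agent.Lib.AlgSpGpdFieldH7
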