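import Groth.Agent.S10142
import Groth.Agent.Lib.AlgSpLargestOpen_helper7
import Groth.Agent.Lib.AlgSpOpen_helper7

/-!
# The largest open over which the source map of a groupoid has a local property is invariant
(helper7)
-/

set_option autoImplicit false
universe u
open CategoryTheory CategoryTheory.Limits AlgebraicGeometry Opposite
open AlgSp Groth.Agent.Lib.AlgSpPoints_helper7 Groth.Agent.Lib.AlgSpPullback_helper7
  Groth.Agent.Lib.AlgSpOpenSub_helper7 Groth.Agent.Lib.AlgSpOpen_helper7
  Groth.Agent.Lib.AlgSpLargestOpen_helper7 Groth.Agent.Lib.AlgSpQC_helper7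

namespace Groth.Agent.Lib.AlgSpGpdInvH7

variable {S : Scheme.{u}}

theorem range_subset_of_largest {Q P : MorphismProperty (Sp S)} (hQ : QClass Q)
    (hP : LocalOnBaseQ Q P) {B : Sp S} (hB : IsAlgSpace B) (G : GroupoidSp B)
    (hU : IsAlgSpace G.U) (hR : IsAlgSpace G.R) (hsQ : Q G.s) (htQ : Q G.t)
    {W : Sp S} (hWsp : IsAlgSpace W) (w : W ⟶ G.U) (hw : RepWith @IsOpenImmersion w)
    (hmax : ∀ (W' : Sp S) (w' : W' ⟶ G.U), IsAlgSpace W' → RepWith @IsOpenImmersion w' →
      (P (pullback.snd G.s w') ↔ ∃ k : W' ⟶ W, k ≫ w = w')) :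
    Set.range (Points.map (pullback.fst G.t w ≫ G.s)) ⊆ Set.range (Points.map w) := by
  have sqV := IsPullback.of_hasPullback G.t w
  have hV : IsAlgSpace (pullback G.t w) := isAlgSpace_of_isPullback hU.diag hR hWsp sqV
  have hjV : RepWith @IsOpenImmersion (pullback.fst G.t w) := repWith_fst_of_isPullback _ sqV hw
  have hQjV : Q (pullback.fst G.t w) := hQ.ofOpen hV hR _ hjV
  have hQjs : Q (pullback.fst G.t w ≫ G.s) := hQ.comp hV hR hU _ _ hQjV hsQ
  have hQtV : Q (pullback.snd G.t w) := hQ.baseChange hR hU hWsp G.t w _ _ sqV htQ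
  have hopen : IsOpen (Set.range (Points.map (pullback.fst G.t w ≫ G.s))) :=
    (hQ.openMap hV hU _ hQjs).isOpen_range
  obtain ⟨W'', w'', hw'', hr''⟩ := exists_openSubspace ⟨G.U, hU⟩ _ hopen
  haveI : Mono w''.hom := mono_of_openImmersion w''.hom hw''
  obtain ⟨g1, hg1⟩ := (factors_iff_of_openImmersion w''.hom hw''
    (pullback.fst G.t w ≫ G.s)).2 (by rw [hr''])
  have hQg1 : Q g1 := by
    have hpb : IsPullback (𝟙 _) g1 (pullback.fst G.t w ≫ G.s) w''.hom := by
      rw [← hg1]
      exact isPullback_of_factor g1 w''.hom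
    exact hQ.baseChange hV hU W''.property _ w''.hom _ _ hpb hQjs
  have hsurj : IsSurjectiveMor g1 := by
    intro y''
    have hmem : Points.map w''.hom y'' ∈
        Set.range (Points.map (pullback.fst G.t w ≫ G.s)) := by
      rw [← hr'']
      exact ⟨y'', rfl⟩
    obtain ⟨z, hz⟩ := hmem
    refine ⟨z, map_injective_of_mono w''.hom ?_⟩
    rw [← Points.map_comp, hg1, hz]
  have hPW : P (pullback.snd G.s w) := (hmax W w hWsp hw).2 ⟨𝟙 W, Category.id_comp w⟩
  have sqW := IsPullback.of_hasPullback G.s w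
  have hRW : IsAlgSpace (pullback G.s w) := isAlgSpace_of_isPullback hU.diag hR hWsp sqW
  have sqX := IsPullback.of_hasPullback (pullback.snd G.s w) (pullback.snd G.t w)
  have hX' : IsAlgSpace (pullback (pullback.snd G.s w) (pullback.snd G.t w)) :=
    isAlgSpace_of_isPullback hWsp.diag hRW hV sqX
  have hPf' : P (pullback.snd (pullback.snd G.s w) (pullback.snd G.t w)) :=
    baseChange_of_local hQ hP hRW hWsp hX' hV (pullback.snd G.s w) (pullback.snd G.t w)
      (pullback.snd _ _) (pullback.fst _ _) sqX hQtV hPW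
  have outer1 : IsPullback
      (pullback.fst (pullback.snd G.s w) (pullback.snd G.t w) ≫ pullback.fst G.s w)
      (pullback.snd (pullback.snd G.s w) (pullback.snd G.t w)) G.s
      (pullback.snd G.t w ≫ w) := sqX.paste_horiz sqW
  have e_tw : pullback.snd G.t w ≫ w = pullback.fst G.t w ≫ G.t := sqV.w.symm
  have hℓ : (pullback.fst (pullback.snd G.s w) (pullback.snd G.t w) ≫ pullback.fst G.s w) ≫ G.s =
      (pullback.snd (pullback.snd G.s w) (pullback.snd G.t w) ≫ pullback.fst G.t w) ≫ G.t := by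
    rw [outer1.w, e_tw, Category.assoc]
  have left1 : IsPullback (pullback.lift _ _ hℓ)
      (pullback.snd (pullback.snd G.s w) (pullback.snd G.t w))
      (pullback.snd G.s G.t) (pullback.fst G.t w) := by
    refine IsPullback.of_right ?_ (pullback.lift_snd _ _ _) (IsPullback.of_hasPullback G.s G.t)
    rw [pullback.lift_fst, ← e_tw]
    exact outer1
  have sqC : IsPullback G.c (pullback.snd G.s G.t) G.s G.s :=
    (Groth.Agent.S10142.result S B hB G hU hR).1
  have outer2 := left1.paste_horiz sqC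
  have hg' : (pullback.lift _ _ hℓ ≫ G.c) ≫ G.s =
      (pullback.snd (pullback.snd G.s w) (pullback.snd G.t w) ≫ g1) ≫ w''.hom := by
    rw [outer2.w, Category.assoc, hg1]
  have left2 : IsPullback (pullback.lift _ _ hg')
      (pullback.snd (pullback.snd G.s w) (pullback.snd G.t w))
      (pullback.snd G.s w''.hom) g1 := by
    refine IsPullback.of_right ?_ (pullback.lift_snd _ _ _)
      (IsPullback.of_hasPullback G.s w''.hom)
    rw [pullback.lift_fst, hg1]
    exact outer2
  have hRW'' : IsAlgSpace (pullback G.s w''.hom) :=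
    isAlgSpace_of_isPullback hU.diag hR W''.property (IsPullback.of_hasPullback G.s w''.hom)
  have hPW'' : P (pullback.snd G.s w''.hom) :=
    descend_of_local hP hRW'' W''.property hX' hV (pullback.snd G.s w''.hom) g1
      (pullback.snd _ _) (pullback.lift _ _ hg') left2 hQg1 hsurj hPf'
  have hk := (hmax W''.obj w''.hom W''.property hw'').1 hPW''
  have hsub := (factors_iff_of_openImmersion w hw w''.hom).1 hk
  rw [hr''] at hsub
  exact hsub

theorem isInvariant_of_largest {Q P : MorphismProperty (Sp S)} (hQ : QClass Q)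
    (hP : LocalOnBaseQ Q P) {B : Sp S} (hB : IsAlgSpace B) (G : GroupoidSp B)
    (hU : IsAlgSpace G.U) (hR : IsAlgSpace G.R) (hsQ : Q G.s) (htQ : Q G.t)
    {W : Sp S} (hWsp : IsAlgSpace W) (w : W ⟶ G.U) (hw : RepWith @IsOpenImmersion w)
    (hmax : ∀ (W' : Sp S) (w' : W' ⟶ G.U), IsAlgSpace W' → RepWith @IsOpenImmersion w' →
      (P (pullback.snd G.s w') ↔ ∃ k : W' ⟶ W, k ≫ w = w')) :
    G.IsInvariant w := by
  have hsub := range_subset_of_largest hQ hP hB G hU hR hsQ htQ hWsp w hw hmax
  have hA : ∀ x : Points G.R, Points.map G.t x ∈ Set.range (Points.map w) →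
      Points.map G.s x ∈ Set.range (Points.map w) := by
    rintro x ⟨y, hy⟩
    obtain ⟨z, hz1, hz2⟩ := exists_of_isPullback (IsPullback.of_hasPullback G.t w) x y hy.symm
    apply hsub
    exact ⟨z, by rw [Points.map_comp, hz1]⟩
  have hA' : ∀ x : Points G.R, Points.map G.s x ∈ Set.range (Points.map w) →
      Points.map G.t x ∈ Set.range (Points.map w) := by
    intro x hx
    have h1 := hA (Points.map G.i x) (by rw [← Points.map_comp, G.i_t]; exact hx)
    rwa [← Points.map_comp, G.i_s] at h1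
  intro T r
  rw [factors_iff_of_openImmersion w hw (r ≫ G.t), factors_iff_of_openImmersion w hw (r ≫ G.s)]
  constructor
  · rintro h _ ⟨x, rfl⟩
    rw [Points.map_comp]
    exact hA _ (by rw [← Points.map_comp]; exact h ⟨x, rfl⟩)
  · rintro h _ ⟨x, rfl⟩
    rw [Points.map_comp]
    exact hA' _ (by rw [← Points.map_comp]; exact h ⟨x, rfl⟩)

end Groth.Agent.Lib.AlgSpGpdInvH7
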