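import Groth.Agent.Lib.AlgSpGpdSep_helper7

/-!
# Cancellation laws on `T`-points of a groupoid in sheaves (helper7)
-/

set_option autoImplicit false
universe u
open CategoryTheory CategoryTheory.Limits AlgebraicGeometry Opposite
open AlgSp Groth.Agent.Lib.AlgSpGpdSepH7

namespace Groth.Agent.Lib.AlgSpGpdLawsH7

variable {S : Scheme.{u}} {B : Sp S} (G : GroupoidSp B)

/-- `α (α⁻¹ β) = β` -/
lemma L1 {T : Sp S} (α β : T ⟶ G.R) (h1 : (α ≫ G.i) ≫ G.s = β ≫ G.t)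
    (h2 : α ≫ G.s = (pullback.lift (α ≫ G.i) β h1 ≫ G.c) ≫ G.t) :
    pullback.lift α (pullback.lift (α ≫ G.i) β h1 ≫ G.c) h2 ≫ G.c = β := by
  have ht : α ≫ G.t = β ≫ G.t := by
    have : α ≫ G.t = (α ≫ G.i) ≫ G.s := by rw [Category.assoc, G.i_s]
    exact this.trans h1
  have h0 : α ≫ G.s = (α ≫ G.i) ≫ G.t := by rw [Category.assoc, G.i_t]
  have e3 := G.assoc α (α ≫ G.i) β h0 h1
  have e5 : pullback.lift α (α ≫ G.i) h0 ≫ G.c = β ≫ G.t ≫ G.e :=
    (G.comp_i α).trans (by rw [← Category.assoc, ht, Category.assoc])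
  exact e3.symm.trans ((lift_c_congr G e5 rfl _ _).trans (G.e_comp β))

/-- `α⁻¹ (α β) = β` -/
lemma L2 {T : Sp S} (α β : T ⟶ G.R) (h : α ≫ G.s = β ≫ G.t)
    (h1 : (α ≫ G.i) ≫ G.s = (pullback.lift α β h ≫ G.c) ≫ G.t) :
    pullback.lift (α ≫ G.i) (pullback.lift α β h ≫ G.c) h1 ≫ G.c = β := by
  have h0 : (α ≫ G.i) ≫ G.s = α ≫ G.t := by rw [Category.assoc, G.i_s]
  have e3 := G.assoc (α ≫ G.i) α β h0 h
  have e5 : pullback.lift (α ≫ G.i) α h0 ≫ G.c = β ≫ G.t ≫ G.e :=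
    (G.i_comp α).trans (by rw [← Category.assoc, h, Category.assoc])
  exact e3.symm.trans ((lift_c_congr G e5 rfl _ _).trans (G.e_comp β))

/-- `(γ β⁻¹) β = γ` -/
lemma L3 {T : Sp S} (γ β : T ⟶ G.R) (h1 : γ ≫ G.s = (β ≫ G.i) ≫ G.t)
    (h2 : (pullback.lift γ (β ≫ G.i) h1 ≫ G.c) ≫ G.s = β ≫ G.t) :
    pullback.lift (pullback.lift γ (β ≫ G.i) h1 ≫ G.c) β h2 ≫ G.c = γ := by
  have h0 : (β ≫ G.i) ≫ G.s = β ≫ G.t := by rw [Category.assoc, G.i_s]
  have hs : γ ≫ G.s = β ≫ G.s := h1.trans (by rw [Category.assoc, G.i_t])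
  have e3 := G.assoc γ (β ≫ G.i) β h1 h0
  have e5 : pullback.lift (β ≫ G.i) β h0 ≫ G.c = γ ≫ G.s ≫ G.e :=
    (G.i_comp β).trans (by rw [← Category.assoc, ← hs, Category.assoc])
  exact e3.trans ((lift_c_congr G rfl e5 _ _).trans (G.comp_e γ))

/-- `(α β) β⁻¹ = α` -/
lemma L4 {T : Sp S} (α β : T ⟶ G.R) (h : α ≫ G.s = β ≫ G.t)
    (h1 : (pullback.lift α β h ≫ G.c) ≫ G.s = (β ≫ G.i) ≫ G.t) :
    pullback.lift (pullback.lift α β h ≫ G.c) (β ≫ G.i) h1 ≫ G.c = α := by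
  have h0 : β ≫ G.s = (β ≫ G.i) ≫ G.t := by rw [Category.assoc, G.i_t]
  have e3 := G.assoc α β (β ≫ G.i) h h0
  have e5 : pullback.lift β (β ≫ G.i) h0 ≫ G.c = α ≫ G.s ≫ G.e :=
    (G.comp_i β).trans (by rw [← Category.assoc, ← h, Category.assoc])
  exact e3.trans ((lift_c_congr G rfl e5 _ _).trans (G.comp_e α))

/-- eta-expansion of a point of `R ×_{s,U,t} R` before composing. -/
lemma eta_c {T : Sp S} (p : T ⟶ pullback G.s G.t) :
    p ≫ G.c = pullback.lift (p ≫ pullback.fst G.s G.t) (p ≫ pullback.snd G.s G.t)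
      (by rw [Category.assoc, Category.assoc, pullback.condition]) ≫ G.c := by
  congr 1
  apply pullback.hom_ext
  · rw [pullback.lift_fst]
  · rw [pullback.lift_snd]

lemma lift_fst_snd_id :
    pullback.lift (pullback.fst G.s G.t) (pullback.snd G.s G.t) pullback.condition = 𝟙 _ := by
  apply pullback.hom_ext
  · rw [pullback.lift_fst, Category.id_comp]
  · rw [pullback.lift_snd, Category.id_comp]

lemma c_s : G.c ≫ G.s = pullback.snd G.s G.t ≫ G.s := by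
  have h := G.comp_s (pullback.fst G.s G.t) (pullback.snd G.s G.t) pullback.condition
  rw [lift_fst_snd_id, Category.id_comp] at h
  exact h

lemma c_t : G.c ≫ G.t = pullback.fst G.s G.t ≫ G.t := by
  have h := G.comp_t (pullback.fst G.s G.t) (pullback.snd G.s G.t) pullback.condition
  rw [lift_fst_snd_id, Category.id_comp] at h
  exact h

end Groth.Agent.Lib.AlgSpGpdLawsH7
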