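import Groth.Agent.Lib.AlgSpLocP7_helper7
import Groth.Prelude.Def_AlgSpGpd

/-!
# Source and target of a restricted groupoid as composites of base changes (helper7)
-/

set_option autoImplicit false
universe u
open CategoryTheory CategoryTheory.Limits AlgebraicGeometry Opposite MorphismProperty
open AlgSp Groth.Agent.Lib.AlgSpPullback_helper7 Groth.Agent.Lib.AlgSpLocP4_helper7

namespace Groth.Agent.Lib.AlgSpGpdRestrictH7

variable {S : Scheme.{u}} {B : Sp S} {G G' : GroupoidSp B} (φ : GroupoidSp.Hom G' G)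

lemma prodMap_fst : φ.prodMap ≫ pullback.fst G.pU G.pU = pullback.fst G'.pU G'.pU ≫ φ.fU := by
  unfold GroupoidSp.Hom.prodMap
  exact pullback.lift_fst _ _ _

lemma prodMap_snd : φ.prodMap ≫ pullback.snd G.pU G.pU = pullback.snd G'.pU G'.pU ≫ φ.fU := by
  unfold GroupoidSp.Hom.prodMap
  exact pullback.lift_snd _ _ _

/-- `R' ⟶ R ×_{s,U} U'` -/
noncomputable def κs : G'.R ⟶ pullback G.s φ.fU := pullback.lift φ.fR G'.s φ.comm_s

/-- `R' ⟶ U' ×_{U,t} R` -/
noncomputable def κt : G'.R ⟶ pullback φ.fU G.t := pullback.lift G'.t φ.fR φ.comm_t.symm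

lemma κs_fst : κs φ ≫ pullback.fst G.s φ.fU = φ.fR := pullback.lift_fst _ _ _
lemma κs_snd : κs φ ≫ pullback.snd G.s φ.fU = G'.s := pullback.lift_snd _ _ _
lemma κt_fst : κt φ ≫ pullback.fst φ.fU G.t = G'.t := pullback.lift_fst _ _ _
lemma κt_snd : κt φ ≫ pullback.snd φ.fU G.t = φ.fR := pullback.lift_snd _ _ _

variable (hφ : φ.IsRestriction)

include hφ in
theorem isPullback_restrict_s :
    IsPullback (κs φ) G'.t (pullback.fst G.s φ.fU ≫ G.t) φ.fU := by
  have w : κs φ ≫ pullback.fst G.s φ.fU ≫ G.t = G'.t ≫ φ.fU := by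
    rw [← Category.assoc, κs_fst, φ.comm_t]
  refine isPullback_of_forall_yon w (fun T a b hab => ?_)
  have hcond : (a ≫ pullback.fst G.s φ.fU) ≫ G.s = (a ≫ pullback.snd G.s φ.fU) ≫ φ.fU := by
    rw [Category.assoc, Category.assoc, pullback.condition]
  have hq : b ≫ G'.pU = (a ≫ pullback.snd G.s φ.fU) ≫ G'.pU := by
    have e1 : b ≫ G'.pU = (a ≫ pullback.fst G.s φ.fU) ≫ G.pR := by
      rw [← φ.fU_over, ← Category.assoc, ← hab]
      simp only [Category.assoc]
      rw [G.t_over]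
    have e2 : (a ≫ pullback.snd G.s φ.fU) ≫ G'.pU = (a ≫ pullback.fst G.s φ.fU) ≫ G.pR := by
      rw [← φ.fU_over, ← Category.assoc, ← hcond]
      simp only [Category.assoc]
      rw [G.s_over]
    exact e1.trans e2.symm
  have hw : (a ≫ pullback.fst G.s φ.fU) ≫ G.j =
      pullback.lift b (a ≫ pullback.snd G.s φ.fU) hq ≫ φ.prodMap := by
    apply pullback.hom_ext
    · simp only [Category.assoc, GroupoidSp.j_fst, prodMap_fst, pullback.lift_fst_assoc]
      exact hab
    · simp only [Category.assoc, GroupoidSp.j_snd, prodMap_snd, pullback.lift_snd_assoc]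
      simpa only [Category.assoc] using hcond
  have hφ' : IsPullback φ.fR G'.j G.j φ.prodMap := hφ
  obtain ⟨r', hr1, hr2⟩ : ∃ r' : (yon S).obj T ⟶ G'.R, r' ≫ φ.fR = a ≫ pullback.fst G.s φ.fU ∧
      r' ≫ G'.j = pullback.lift b (a ≫ pullback.snd G.s φ.fU) hq :=
    ⟨hφ'.lift _ _ hw, hφ'.lift_fst _ _ _, hφ'.lift_snd _ _ _⟩
  have ht : r' ≫ G'.t = b := by
    rw [← G'.j_fst, ← Category.assoc, hr2, pullback.lift_fst]
  have hs : r' ≫ G'.s = a ≫ pullback.snd G.s φ.fU := by
    rw [← G'.j_snd, ← Category.assoc, hr2, pullback.lift_snd]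
  refine ⟨r', ⟨?_, ht⟩, fun r'' hr'' => ?_⟩
  · apply pullback.hom_ext
    · rw [Category.assoc, κs_fst, hr1]
    · rw [Category.assoc, κs_snd, hs]
  · obtain ⟨h1, h2⟩ := hr''
    apply hφ'.hom_ext
    · rw [hr1, ← h1, Category.assoc, κs_fst]
    · rw [hr2]
      apply pullback.hom_ext
      · rw [Category.assoc, G'.j_fst, h2, pullback.lift_fst]
      · rw [Category.assoc, G'.j_snd, pullback.lift_snd, ← h1, Category.assoc, κs_snd]

include hφ in
theorem isPullback_restrict_t :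
    IsPullback (κt φ) G'.s (pullback.snd φ.fU G.t ≫ G.s) φ.fU := by
  have w : κt φ ≫ pullback.snd φ.fU G.t ≫ G.s = G'.s ≫ φ.fU := by
    rw [← Category.assoc, κt_snd, φ.comm_s]
  refine isPullback_of_forall_yon w (fun T a b hab => ?_)
  have hcond : (a ≫ pullback.fst φ.fU G.t) ≫ φ.fU = (a ≫ pullback.snd φ.fU G.t) ≫ G.t := by
    rw [Category.assoc, Category.assoc, pullback.condition]
  have hq : (a ≫ pullback.fst φ.fU G.t) ≫ G'.pU = b ≫ G'.pU := by
    have e1 : (a ≫ pullback.fst φ.fU G.t) ≫ G'.pU = (a ≫ pullback.snd φ.fU G.t) ≫ G.pR := by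
      rw [← φ.fU_over, ← Category.assoc, hcond]
      simp only [Category.assoc]
      rw [G.t_over]
    have e2 : b ≫ G'.pU = (a ≫ pullback.snd φ.fU G.t) ≫ G.pR := by
      rw [← φ.fU_over, ← Category.assoc, ← hab]
      simp only [Category.assoc]
      rw [G.s_over]
    exact e1.trans e2.symm
  have hw : (a ≫ pullback.snd φ.fU G.t) ≫ G.j =
      pullback.lift (a ≫ pullback.fst φ.fU G.t) b hq ≫ φ.prodMap := by
    apply pullback.hom_ext
    · simp only [Category.assoc, GroupoidSp.j_fst, prodMap_fst, pullback.lift_fst_assoc]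
      simpa only [Category.assoc] using hcond.symm
    · simp only [Category.assoc, GroupoidSp.j_snd, prodMap_snd, pullback.lift_snd_assoc]
      exact hab
  have hφ' : IsPullback φ.fR G'.j G.j φ.prodMap := hφ
  obtain ⟨r', hr1, hr2⟩ : ∃ r' : (yon S).obj T ⟶ G'.R, r' ≫ φ.fR = a ≫ pullback.snd φ.fU G.t ∧
      r' ≫ G'.j = pullback.lift (a ≫ pullback.fst φ.fU G.t) b hq :=
    ⟨hφ'.lift _ _ hw, hφ'.lift_fst _ _ _, hφ'.lift_snd _ _ _⟩
  have ht : r' ≫ G'.t = a ≫ pullback.fst φ.fU G.t := by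
    rw [← G'.j_fst, ← Category.assoc, hr2, pullback.lift_fst]
  have hs : r' ≫ G'.s = b := by
    rw [← G'.j_snd, ← Category.assoc, hr2, pullback.lift_snd]
  refine ⟨r', ⟨?_, hs⟩, fun r'' hr'' => ?_⟩
  · apply pullback.hom_ext
    · rw [Category.assoc, κt_fst, ht]
    · rw [Category.assoc, κt_snd, hr1]
  · obtain ⟨h1, h2⟩ := hr''
    apply hφ'.hom_ext
    · rw [hr1, ← h1, Category.assoc, κt_snd]
    · rw [hr2]
      apply pullback.hom_ext
      · rw [Category.assoc, G'.j_fst, pullback.lift_fst, ← h1, Category.assoc, κt_fst]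
      · rw [Category.assoc, G'.j_snd, h2, pullback.lift_snd]

include hφ in
theorem locP_restrict {P : MorphismProperty Scheme.{u}} [P.IsStableUnderBaseChange]
    [P.IsStableUnderComposition] (hP : EtLocal P) (hU : IsAlgSpace G.U) (hR : IsAlgSpace G.R)
    (hU' : IsAlgSpace G'.U) (hR' : IsAlgSpace G'.R) (hs : LocP P G.s) (ht : LocP P G.t)
    (hg : LocP P φ.fU) : LocP P G'.s ∧ LocP P G'.t := by
  have sqs := IsPullback.of_hasPullback G.s φ.fU
  have hM : IsAlgSpace (pullback G.s φ.fU) := isAlgSpace_of_isPullback hU.diag hR hU' sqs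
  have sqt := IsPullback.of_hasPullback φ.fU G.t
  have hM' : IsAlgSpace (pullback φ.fU G.t) := isAlgSpace_of_isPullback hU.diag hU' hR sqt
  constructor
  · have h1 : LocP P (pullback.snd G.s φ.fU) :=
      locP_baseChange hP hR hU hU' G.s φ.fU _ _ sqs hs
    have h2 : LocP P (κs φ) :=
      locP_baseChange hP hU' hU hM φ.fU (pullback.fst G.s φ.fU ≫ G.t) _ _
        (isPullback_restrict_s φ hφ).flip hg
    have := locP_comp hP hR' hM hU' (κs φ) (pullback.snd G.s φ.fU) h2 h1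
    rwa [κs_snd] at this
  · have h1 : LocP P (pullback.fst φ.fU G.t) :=
      locP_baseChange hP hR hU hU' G.t φ.fU _ _ sqt.flip ht
    have h2 : LocP P (κt φ) :=
      locP_baseChange hP hU' hU hM' φ.fU (pullback.snd φ.fU G.t ≫ G.s) _ _
        (isPullback_restrict_t φ hφ).flip hg
    have := locP_comp hP hR' hM' hU' (κt φ) (pullback.fst φ.fU G.t) h2 h1
    rwa [κt_fst] at this

end Groth.Agent.Lib.AlgSpGpdRestrictH7
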