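import Groth.Agent.Lib.AlgSpLocP4_helper7
import Groth.Prelude.Def_AlgSpGpd

/-!
# Separation conditions for groupoids in algebraic spaces (helper7)

The diagonal of `j : R ⟶ U ×_B U` is a base change of the unit section of the stabilizer.
-/

set_option autoImplicit false
universe u
open CategoryTheory CategoryTheory.Limits AlgebraicGeometry Opposite MorphismProperty
open AlgSp Groth.Agent.Lib.AlgSpQC2_helper7 Groth.Agent.Lib.AlgSpPoints_helper7
  Groth.Agent.Lib.AlgSpQC_helper7 Groth.Agent.Lib.AlgSpDiag_helper7 Groth.Agent.Lib.AlgSpTop_helper7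
  Groth.Agent.Lib.AlgSpPullback_helper7 Groth.Agent.Lib.AlgSpSep_helper7
  Groth.Agent.Lib.AlgSpBasic_helper7

namespace Groth.Agent.Lib.AlgSpGpdSepH7

variable {S : Scheme.{u}} {B : Sp S} (G : GroupoidSp B)

lemma lift_c_congr {T : Sp S} {α α' β β' : T ⟶ G.R} (hα : α = α') (hβ : β = β')
    (h : α ≫ G.s = β ≫ G.t) (h' : α' ≫ G.s = β' ≫ G.t) :
    pullback.lift α β h ≫ G.c = pullback.lift α' β' h' ≫ G.c := by
  subst hα hβ
  rfl

lemma comp_lift_c {T T' : Sp S} (y : T' ⟶ T) (α β : T ⟶ G.R) (h : α ≫ G.s = β ≫ G.t) :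
    y ≫ pullback.lift α β h ≫ G.c =
      pullback.lift (y ≫ α) (y ≫ β) (by rw [Category.assoc, Category.assoc, h]) ≫ G.c := by
  rw [← Category.assoc]
  congr 1
  apply pullback.hom_ext
  · rw [Category.assoc, pullback.lift_fst, pullback.lift_fst]
  · rw [Category.assoc, pullback.lift_snd, pullback.lift_snd]

/-- `r = r'` when `r⁻¹ ∘ r'` is an identity. -/
lemma eq_of_inv_comp_eq_id {T : Sp S} (r r' : T ⟶ G.R) (ht : r ≫ G.t = r' ≫ G.t)
    (h4 : (r ≫ G.i) ≫ G.s = r' ≫ G.t)
    (hk : pullback.lift (r ≫ G.i) r' h4 ≫ G.c = r ≫ G.s ≫ G.e) : r = r' := by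
  have h2 : r ≫ G.s = (r ≫ G.i) ≫ G.t := by rw [Category.assoc, G.i_t]
  have e2 : r' ≫ G.t ≫ G.e = pullback.lift r (r ≫ G.i) h2 ≫ G.c := by
    rw [G.comp_i r, ← Category.assoc, ← ht, Category.assoc]
  have e3 := G.assoc r (r ≫ G.i) r' h2 h4
  have e4 : pullback.lift r (pullback.lift (r ≫ G.i) r' h4 ≫ G.c)
      (h2.trans (G.comp_t (r ≫ G.i) r' h4).symm) ≫ G.c = r :=
    (lift_c_congr G rfl hk _
      (by rw [Category.assoc, Category.assoc, G.e_t, Category.comp_id])).trans (G.comp_e r)
  exact e4.symm.trans (e3.symm.trans ((lift_c_congr G e2.symm rfl _ _).trans (G.e_comp r')))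

lemma diag_fst : G.diag ≫ pullback.fst G.pU G.pU = 𝟙 G.U := by
  unfold GroupoidSp.diag
  exact pullback.lift_fst _ _ _

lemma diag_snd : G.diag ≫ pullback.snd G.pU G.pU = 𝟙 G.U := by
  unfold GroupoidSp.diag
  exact pullback.lift_snd _ _ _

lemma fst_t : pullback.fst G.j G.j ≫ G.t = pullback.snd G.j G.j ≫ G.t := by
  have := congrArg (fun k => k ≫ pullback.fst G.pU G.pU) (pullback.condition (f := G.j) (g := G.j))
  simpa only [Category.assoc, G.j_fst] using this

lemma fst_s : pullback.fst G.j G.j ≫ G.s = pullback.snd G.j G.j ≫ G.s := by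
  have := congrArg (fun k => k ≫ pullback.snd G.pU G.pU) (pullback.condition (f := G.j) (g := G.j))
  simpa only [Category.assoc, G.j_snd] using this

lemma hm : (pullback.fst G.j G.j ≫ G.i) ≫ G.s = pullback.snd G.j G.j ≫ G.t := by
  rw [Category.assoc, G.i_s, fst_t]

/-- `(r, r') ↦ r⁻¹ ∘ r'` -/
noncomputable def mMap : pullback G.j G.j ⟶ G.R :=
  pullback.lift (pullback.fst G.j G.j ≫ G.i) (pullback.snd G.j G.j) (hm G) ≫ G.c

lemma mMap_t : mMap G ≫ G.t = pullback.fst G.j G.j ≫ G.s :=
  (G.comp_t _ _ _).trans (by rw [Category.assoc, G.i_t])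

lemma mMap_s : mMap G ≫ G.s = pullback.fst G.j G.j ≫ G.s :=
  (G.comp_s _ _ _).trans (fst_s G).symm

lemma hδ : mMap G ≫ G.j = (pullback.fst G.j G.j ≫ G.s) ≫ G.diag := by
  apply pullback.hom_ext
  · rw [Category.assoc, G.j_fst, mMap_t, Category.assoc, diag_fst, Category.comp_id]
  · rw [Category.assoc, G.j_snd, mMap_s, Category.assoc, diag_snd, Category.comp_id]

/-- `(r, r') ↦ r⁻¹ ∘ r'` as a point of the stabilizer. -/
noncomputable def δ : pullback G.j G.j ⟶ pullback G.j G.diag :=
  pullback.lift (mMap G) (pullback.fst G.j G.j ≫ G.s) (hδ G)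

lemma diagonal_mMap : pullback.diagonal G.j ≫ mMap G = G.s ≫ G.e := by
  unfold mMap
  rw [comp_lift_c]
  exact (lift_c_congr G (by rw [← Category.assoc, pullback.diagonal_fst])
    (pullback.diagonal_snd _) _ _).trans ((G.i_comp (𝟙 G.R)).trans (Category.id_comp _))

variable (eG : G.U ⟶ pullback G.j G.diag) (heG : eG ≫ pullback.fst G.j G.diag = G.e)

include heG in
lemma eG_snd : eG ≫ pullback.snd G.j G.diag = 𝟙 G.U := by
  calc eG ≫ pullback.snd G.j G.diag
      = eG ≫ pullback.snd G.j G.diag ≫ G.diag ≫ pullback.fst G.pU G.pU := by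
        rw [diag_fst, Category.comp_id]
    _ = eG ≫ pullback.fst G.j G.diag ≫ G.j ≫ pullback.fst G.pU G.pU := by
        rw [← pullback.condition_assoc]
    _ = 𝟙 G.U := by rw [G.j_fst, ← Category.assoc, heG, G.e_t]

include heG in
theorem isPullback_diagonal_j : IsPullback G.s (pullback.diagonal G.j) eG (δ G) := by
  have w : G.s ≫ eG = pullback.diagonal G.j ≫ δ G := by
    apply pullback.hom_ext
    · rw [Category.assoc, heG, Category.assoc]
      unfold δ
      rw [pullback.lift_fst, diagonal_mMap]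
    · rw [Category.assoc, eG_snd G eG heG, Category.comp_id, Category.assoc]
      unfold δ
      rw [pullback.lift_snd, ← Category.assoc, pullback.diagonal_fst, Category.id_comp]
  refine isPullback_of_forall_yon w (fun T x y hxy => ?_)
  have hx : x = y ≫ pullback.fst G.j G.j ≫ G.s := by
    have h1 := congrArg (fun k => k ≫ pullback.snd G.j G.diag) hxy
    simp only [Category.assoc] at h1
    rw [eG_snd G eG heG, Category.comp_id] at h1
    unfold δ at h1
    rw [pullback.lift_snd] at h1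
    exact h1
  have h4 : ((y ≫ pullback.fst G.j G.j) ≫ G.i) ≫ G.s = (y ≫ pullback.snd G.j G.j) ≫ G.t := by
    rw [Category.assoc, Category.assoc, G.i_s, Category.assoc, fst_t]
  have ht : (y ≫ pullback.fst G.j G.j) ≫ G.t = (y ≫ pullback.snd G.j G.j) ≫ G.t := by
    rw [Category.assoc, Category.assoc, fst_t]
  have hk : pullback.lift ((y ≫ pullback.fst G.j G.j) ≫ G.i) (y ≫ pullback.snd G.j G.j) h4 ≫ G.c =
      (y ≫ pullback.fst G.j G.j) ≫ G.s ≫ G.e := by
    have h1 := congrArg (fun k => k ≫ pullback.fst G.j G.diag) hxy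
    simp only [Category.assoc] at h1
    rw [heG] at h1
    unfold δ at h1
    rw [pullback.lift_fst] at h1
    unfold mMap at h1
    rw [comp_lift_c] at h1
    have h5 : (y ≫ pullback.fst G.j G.j) ≫ G.s ≫ G.e = x ≫ G.e := by
      rw [hx]
      simp only [Category.assoc]
    rw [h5, h1]
    exact lift_c_congr G (Category.assoc _ _ _) rfl _ _
  have hrr := eq_of_inv_comp_eq_id G _ _ ht h4 hk
  refine ⟨y ≫ pullback.fst G.j G.j, ⟨by rw [Category.assoc]; exact hx.symm, ?_⟩, fun p hp => ?_⟩
  · apply pullback.hom_ext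
    · rw [Category.assoc, pullback.diagonal_fst, Category.comp_id]
    · rw [Category.assoc, pullback.diagonal_snd, Category.comp_id]
      exact hrr
  · have h1 := congrArg (fun k => k ≫ pullback.fst G.j G.j) hp.2
    simpa only [Category.assoc, pullback.diagonal_fst, Category.comp_id] using h1

include heG in
theorem sep_tfae (Q : MorphismProperty Scheme.{u}) [Q.IsStableUnderBaseChange]
    [Q.IsMultiplicative] :
    (RepWith Q (pullback.diagonal G.j) → RepWith Q (pullback.diagonal (pullback.snd G.j G.diag))) ∧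
    (RepWith Q (pullback.diagonal (pullback.snd G.j G.diag)) → RepWith Q eG) ∧
    (RepWith Q eG → RepWith Q (pullback.diagonal G.j)) := by
  refine ⟨fun h => ?_, fun h => ?_, fun h => ?_⟩
  · exact repWith_diagonal_of_isPullback Q (IsPullback.of_hasPullback G.j G.diag) h
  · refine repWith_of_comp_of_diagonal Q eG (pullback.snd G.j G.diag) ?_ h
    rw [eG_snd G eG heG]
    exact repWith_of_isIso Q (𝟙 _)
  · exact MorphismProperty.of_isPullback (P := RepWith Q) (isPullback_diagonal_j G eG heG) h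

include heG in
theorem representable_eG (hB : IsAlgSpace B) (hU : IsAlgSpace G.U) (hR : IsAlgSpace G.R) :
    Representable eG := by
  have hUU : IsAlgSpace (pullback G.pU G.pU) :=
    isAlgSpace_of_isPullback hB.diag hU hU (IsPullback.of_hasPullback _ _)
  have hstab : IsAlgSpace (pullback G.j G.diag) :=
    isAlgSpace_of_isPullback hUU.diag hR hU (IsPullback.of_hasPullback _ _)
  refine representable_of_comp_of_diagonal eG (pullback.snd G.j G.diag) ?_
    (diagonal_properties hstab (pullback.snd G.j G.diag)).1.rep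
  rw [eG_snd G eG heG]
  exact (repWith_of_isIso @IsClosedImmersion (𝟙 _)).rep

end Groth.Agent.Lib.AlgSpGpdSepH7
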