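import Groth.Agent.Lib.AlgSpGpdInv_helper7
import Groth.Agent.Lib.AlgSpGpdLaws_helper7

/-!
# The largest open over which the stabilizer of a groupoid has a local property is invariant
(helper7)
-/

set_option autoImplicit false
universe u
open CategoryTheory CategoryTheory.Limits AlgebraicGeometry Opposite
open AlgSp Groth.Agent.Lib.AlgSpPoints_helper7 Groth.Agent.Lib.AlgSpPullback_helper7
  Groth.Agent.Lib.AlgSpOpenSub_helper7 Groth.Agent.Lib.AlgSpOpen_helper7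
  Groth.Agent.Lib.AlgSpLargestOpen_helper7 Groth.Agent.Lib.AlgSpQC_helper7
  Groth.Agent.Lib.AlgSpGpdSepH7 Groth.Agent.Lib.AlgSpGpdLawsH7

namespace Groth.Agent.Lib.AlgSpGpdStabH7

variable {S : Scheme.{u}} {B : Sp S} (G : GroupoidSp B)

lemma stabι_t : G.stabilizerι ≫ G.t = G.stabilizerToU := by
  have h := (pullback.condition (f := G.j) (g := G.diag)) =≫ pullback.fst G.pU G.pU
  simp only [Category.assoc, GroupoidSp.j_fst, diag_fst G, Category.comp_id] at h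
  exact h

lemma stabι_s : G.stabilizerι ≫ G.s = G.stabilizerToU := by
  have h := (pullback.condition (f := G.j) (g := G.diag)) =≫ pullback.snd G.pU G.pU
  simp only [Category.assoc, GroupoidSp.j_snd, diag_snd G, Category.comp_id] at h
  exact h

noncomputable def stabLift {T : Sp S} (ρ : T ⟶ G.R) (u : T ⟶ G.U) (ht : ρ ≫ G.t = u)
    (hs : ρ ≫ G.s = u) : T ⟶ G.stabilizer :=
  pullback.lift (f := G.j) (g := G.diag) ρ u (by
    apply pullback.hom_ext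
    · rw [Category.assoc, Category.assoc, G.j_fst, diag_fst G, Category.comp_id]; exact ht
    · rw [Category.assoc, Category.assoc, G.j_snd, diag_snd G, Category.comp_id]; exact hs)

lemma stabLift_ι {T : Sp S} (ρ : T ⟶ G.R) (u : T ⟶ G.U) (ht : ρ ≫ G.t = u)
    (hs : ρ ≫ G.s = u) : stabLift G ρ u ht hs ≫ G.stabilizerι = ρ :=
  pullback.lift_fst _ _ _

lemma stabLift_p {T : Sp S} (ρ : T ⟶ G.R) (u : T ⟶ G.U) (ht : ρ ≫ G.t = u)
    (hs : ρ ≫ G.s = u) : stabLift G ρ u ht hs ≫ G.stabilizerToU = u :=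
  pullback.lift_snd _ _ _

lemma stab_ext {T : Sp S} (x y : T ⟶ G.stabilizer)
    (h : x ≫ G.stabilizerι = y ≫ G.stabilizerι) : x = y := by
  refine pullback.hom_ext (f := G.j) (g := G.diag) h ?_
  have h' := congrArg (· ≫ G.t) h
  simp only [Category.assoc, stabι_t] at h'
  exact h'

section conj

variable {T : Sp S}

/-- `r⁻¹ ρ r` -/
noncomputable def cj (ρ r : T ⟶ G.R) (h1 : ρ ≫ G.t = r ≫ G.t) (h2 : ρ ≫ G.s = r ≫ G.t) :
    T ⟶ G.R :=
  pullback.lift (pullback.lift (r ≫ G.i) ρ (by rw [Category.assoc, G.i_s, h1]) ≫ G.c) r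
    ((G.comp_s _ _ _).trans h2) ≫ G.c

/-- `r ρ r⁻¹` -/
noncomputable def cj' (ρ r : T ⟶ G.R) (h1 : ρ ≫ G.t = r ≫ G.s) (h2 : ρ ≫ G.s = r ≫ G.s) :
    T ⟶ G.R :=
  pullback.lift (pullback.lift r ρ h1.symm ≫ G.c) (r ≫ G.i)
    ((G.comp_s _ _ _).trans (h2.trans (by rw [Category.assoc, G.i_t]))) ≫ G.c

lemma cj_s (ρ r : T ⟶ G.R) (h1 : ρ ≫ G.t = r ≫ G.t) (h2 : ρ ≫ G.s = r ≫ G.t) :
    cj G ρ r h1 h2 ≫ G.s = r ≫ G.s := G.comp_s _ _ _

lemma cj_t (ρ r : T ⟶ G.R) (h1 : ρ ≫ G.t = r ≫ G.t) (h2 : ρ ≫ G.s = r ≫ G.t) :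
    cj G ρ r h1 h2 ≫ G.t = r ≫ G.s :=
  (G.comp_t _ _ _).trans ((G.comp_t _ _ _).trans (by rw [Category.assoc, G.i_t]))

lemma cj'_s (ρ r : T ⟶ G.R) (h1 : ρ ≫ G.t = r ≫ G.s) (h2 : ρ ≫ G.s = r ≫ G.s) :
    cj' G ρ r h1 h2 ≫ G.s = r ≫ G.t :=
  (G.comp_s _ _ _).trans (by rw [Category.assoc, G.i_s])

lemma cj'_t (ρ r : T ⟶ G.R) (h1 : ρ ≫ G.t = r ≫ G.s) (h2 : ρ ≫ G.s = r ≫ G.s) :
    cj' G ρ r h1 h2 ≫ G.t = r ≫ G.t :=
  (G.comp_t _ _ _).trans (G.comp_t _ _ _)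

lemma comp_cj {T' : Sp S} (y : T' ⟶ T) (ρ r : T ⟶ G.R) (h1 : ρ ≫ G.t = r ≫ G.t)
    (h2 : ρ ≫ G.s = r ≫ G.t) :
    y ≫ cj G ρ r h1 h2 = cj G (y ≫ ρ) (y ≫ r) (by rw [Category.assoc, h1, Category.assoc])
      (by rw [Category.assoc, h2, Category.assoc]) := by
  unfold cj
  rw [comp_lift_c G]
  refine lift_c_congr G ?_ rfl _ _
  rw [comp_lift_c G]
  exact lift_c_congr G (Category.assoc _ _ _).symm rfl _ _

/-- `r (r⁻¹ ρ r) r⁻¹ = ρ` -/
lemma cj_cancel (ρ r : T ⟶ G.R) (h1 : ρ ≫ G.t = r ≫ G.t) (h2 : ρ ≫ G.s = r ≫ G.t)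
    (k1 : cj G ρ r h1 h2 ≫ G.t = r ≫ G.s) (k2 : cj G ρ r h1 h2 ≫ G.s = r ≫ G.s) :
    cj' G (cj G ρ r h1 h2) r k1 k2 = ρ := by
  have hi : (r ≫ G.i) ≫ G.s = ρ ≫ G.t := by rw [Category.assoc, G.i_s, h1]
  have hb_t : (pullback.lift (r ≫ G.i) ρ hi ≫ G.c) ≫ G.t = r ≫ G.s := by
    rw [G.comp_t, Category.assoc, G.i_t]
  have hb_s : (pullback.lift (r ≫ G.i) ρ hi ≫ G.c) ≫ G.s = r ≫ G.t := by
    rw [G.comp_s, h2]
  have e3 := G.assoc r (pullback.lift (r ≫ G.i) ρ hi ≫ G.c) r hb_t.symm hb_s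
  have e1 : pullback.lift r (pullback.lift (r ≫ G.i) ρ hi ≫ G.c) hb_t.symm ≫ G.c = ρ :=
    L1 G r ρ hi hb_t.symm
  have stepA : pullback.lift r (cj G ρ r h1 h2) k1.symm ≫ G.c = pullback.lift ρ r h2 ≫ G.c :=
    e3.symm.trans (lift_c_congr G e1 (rfl : r = r) _ _)
  have hL4 : (pullback.lift ρ r h2 ≫ G.c) ≫ G.s = (r ≫ G.i) ≫ G.t := by
    rw [G.comp_s, Category.assoc, G.i_t]
  unfold cj'
  exact (lift_c_congr G stepA (rfl : r ≫ G.i = r ≫ G.i) _ hL4).trans (L4 G ρ r h2 hL4)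

/-- `r⁻¹ (r ρ r⁻¹) r = ρ` -/
lemma cj'_cancel (ρ r : T ⟶ G.R) (h1 : ρ ≫ G.t = r ≫ G.s) (h2 : ρ ≫ G.s = r ≫ G.s)
    (k1 : cj' G ρ r h1 h2 ≫ G.t = r ≫ G.t) (k2 : cj' G ρ r h1 h2 ≫ G.s = r ≫ G.t) :
    cj G (cj' G ρ r h1 h2) r k1 k2 = ρ := by
  have hb_t : (pullback.lift r ρ h1.symm ≫ G.c) ≫ G.t = r ≫ G.t := G.comp_t _ _ _
  have hb_s : (pullback.lift r ρ h1.symm ≫ G.c) ≫ G.s = (r ≫ G.i) ≫ G.t := by
    rw [G.comp_s, h2, Category.assoc, G.i_t]
  have hi : (r ≫ G.i) ≫ G.s = (pullback.lift r ρ h1.symm ≫ G.c) ≫ G.t := by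
    rw [hb_t, Category.assoc, G.i_s]
  have e3 := G.assoc (r ≫ G.i) (pullback.lift r ρ h1.symm ≫ G.c) (r ≫ G.i) hi hb_s
  have e2 : pullback.lift (r ≫ G.i) (pullback.lift r ρ h1.symm ≫ G.c) hi ≫ G.c = ρ :=
    L2 G r ρ h1.symm hi
  have hρi : ρ ≫ G.s = (r ≫ G.i) ≫ G.t := by rw [h2, Category.assoc, G.i_t]
  have hk : (r ≫ G.i) ≫ G.s = cj' G ρ r h1 h2 ≫ G.t := by rw [k1, Category.assoc, G.i_s]
  have stepA : pullback.lift (r ≫ G.i) (cj' G ρ r h1 h2) hk ≫ G.c =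
      pullback.lift ρ (r ≫ G.i) hρi ≫ G.c :=
    e3.symm.trans (lift_c_congr G e2 (rfl : r ≫ G.i = r ≫ G.i) _ _)
  have hL3 : (pullback.lift ρ (r ≫ G.i) hρi ≫ G.c) ≫ G.s = r ≫ G.t := by
    rw [G.comp_s, Category.assoc, G.i_s]
  unfold cj
  exact (lift_c_congr G stepA (rfl : r = r) _ hL3).trans (L3 G ρ r hρi hL3)

lemma cj_of_eq_cj' {ρ ρ' r r' : T ⟶ G.R} (g1 : ρ' ≫ G.t = r' ≫ G.s)
    (g2 : ρ' ≫ G.s = r' ≫ G.s) (eρ : ρ = cj' G ρ' r' g1 g2) (er : r = r')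
    (h1 : ρ ≫ G.t = r ≫ G.t) (h2 : ρ ≫ G.s = r ≫ G.t) : cj G ρ r h1 h2 = ρ' := by
  subst er
  subst eρ
  exact cj'_cancel G ρ' r g1 g2 h1 h2

lemma cj'_of_eq_cj {ρ ρ' r r' : T ⟶ G.R} (h1 : ρ ≫ G.t = r ≫ G.t)
    (h2 : ρ ≫ G.s = r ≫ G.t) (eρ : ρ' = cj G ρ r h1 h2) (er : r' = r)
    (g1 : ρ' ≫ G.t = r' ≫ G.s) (g2 : ρ' ≫ G.s = r' ≫ G.s) : cj' G ρ' r' g1 g2 = ρ := by
  subst er
  subst eρ
  exact cj_cancel G ρ r' h1 h2 g1 g2

end conj

/-- The base changes of the stabilizer along `v ≫ t` and `v ≫ s` are isomorphic over the base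
(conjugation). -/
theorem exists_conj_isPullback {X V : Sp S} (a : X ⟶ G.stabilizer) (b : X ⟶ V) (v : V ⟶ G.R)
    (sq : IsPullback a b G.stabilizerToU (v ≫ G.t)) :
    ∃ a' : X ⟶ G.stabilizer, IsPullback a' b G.stabilizerToU (v ≫ G.s) := by
  have h1 : (a ≫ G.stabilizerι) ≫ G.t = (b ≫ v) ≫ G.t := by
    rw [Category.assoc, stabι_t, sq.w, Category.assoc]
  have h2 : (a ≫ G.stabilizerι) ≫ G.s = (b ≫ v) ≫ G.t := by
    rw [Category.assoc, stabι_s, sq.w, Category.assoc]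
  have k_t : cj G (a ≫ G.stabilizerι) (b ≫ v) h1 h2 ≫ G.t = (b ≫ v) ≫ G.s := cj_t G _ _ _ _
  have k_s : cj G (a ≫ G.stabilizerι) (b ≫ v) h1 h2 ≫ G.s = (b ≫ v) ≫ G.s := cj_s G _ _ _ _
  refine ⟨stabLift G (cj G (a ≫ G.stabilizerι) (b ≫ v) h1 h2) ((b ≫ v) ≫ G.s) k_t k_s, ?_⟩
  have hw : stabLift G (cj G (a ≫ G.stabilizerι) (b ≫ v) h1 h2) ((b ≫ v) ≫ G.s) k_t k_s ≫
      G.stabilizerToU = b ≫ v ≫ G.s := by
    rw [stabLift_p, Category.assoc]
  refine isPullback_of_forall_yon hw (fun T x y hxy => ?_)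
  have g1 : (x ≫ G.stabilizerι) ≫ G.t = (y ≫ v) ≫ G.s := by
    rw [Category.assoc, stabι_t, hxy, Category.assoc]
  have g2 : (x ≫ G.stabilizerι) ≫ G.s = (y ≫ v) ≫ G.s := by
    rw [Category.assoc, stabι_s, hxy, Category.assoc]
  have m_t : cj' G (x ≫ G.stabilizerι) (y ≫ v) g1 g2 ≫ G.t = (y ≫ v) ≫ G.t :=
    cj'_t G _ _ _ _
  have m_s : cj' G (x ≫ G.stabilizerι) (y ≫ v) g1 g2 ≫ G.s = (y ≫ v) ≫ G.t :=
    cj'_s G _ _ _ _
  have hz : stabLift G (cj' G (x ≫ G.stabilizerι) (y ≫ v) g1 g2) ((y ≫ v) ≫ G.t) m_t m_s ≫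
      G.stabilizerToU = y ≫ v ≫ G.t := by
    rw [stabLift_p, Category.assoc]
  refine ⟨sq.lift _ y hz, ⟨?_, sq.lift_snd _ _ _⟩, ?_⟩
  · refine stab_ext G _ _ ?_
    rw [Category.assoc, stabLift_ι]
    have ea : sq.lift _ y hz ≫ a ≫ G.stabilizerι =
        cj' G (x ≫ G.stabilizerι) (y ≫ v) g1 g2 := by
      rw [← Category.assoc, sq.lift_fst, stabLift_ι]
    have eb : sq.lift _ y hz ≫ b ≫ v = y ≫ v := by
      rw [← Category.assoc, sq.lift_snd]
    exact (comp_cj G _ _ _ h1 h2).trans (cj_of_eq_cj' G g1 g2 ea eb _ _)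
  · rintro z' ⟨hz1, hz2⟩
    apply sq.hom_ext
    · rw [sq.lift_fst]
      refine stab_ext G _ _ ?_
      rw [stabLift_ι, Category.assoc]
      have h1' : (z' ≫ a ≫ G.stabilizerι) ≫ G.t = (z' ≫ b ≫ v) ≫ G.t := by
        rw [Category.assoc, h1]
        simp only [Category.assoc]
      have h2' : (z' ≫ a ≫ G.stabilizerι) ≫ G.s = (z' ≫ b ≫ v) ≫ G.t := by
        rw [Category.assoc, h2]
        simp only [Category.assoc]
      have ex : x ≫ G.stabilizerι =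
          cj G (z' ≫ a ≫ G.stabilizerι) (z' ≫ b ≫ v) h1' h2' := by
        rw [← hz1, Category.assoc, stabLift_ι]
        exact comp_cj G z' _ _ h1 h2
      have ey : y ≫ v = z' ≫ b ≫ v := by rw [← hz2, Category.assoc]
      exact (cj'_of_eq_cj G h1' h2' ex ey g1 g2).symm
    · rw [sq.lift_snd]
      exact hz2

theorem range_subset_of_largest_stab {Q P : MorphismProperty (Sp S)} (hQ : QClass Q)
    (hP : LocalOnBaseQ Q P) (hB : IsAlgSpace B)
    (hU : IsAlgSpace G.U) (hR : IsAlgSpace G.R) (hsQ : Q G.s) (htQ : Q G.t)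
    {W : Sp S} (hWsp : IsAlgSpace W) (w : W ⟶ G.U) (hw : RepWith @IsOpenImmersion w)
    (hmax : ∀ (W' : Sp S) (w' : W' ⟶ G.U), IsAlgSpace W' → RepWith @IsOpenImmersion w' →
      (P (pullback.snd G.stabilizerToU w') ↔ ∃ k : W' ⟶ W, k ≫ w = w')) :
    Set.range (Points.map (pullback.fst G.t w ≫ G.s)) ⊆ Set.range (Points.map w) := by
  have hUU : IsAlgSpace (pullback G.pU G.pU) :=
    isAlgSpace_of_isPullback hB.diag hU hU (IsPullback.of_hasPullback G.pU G.pU)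
  have hGs : IsAlgSpace G.stabilizer :=
    isAlgSpace_of_isPullback hUU.diag hR hU (IsPullback.of_hasPullback G.j G.diag)
  have sqV := IsPullback.of_hasPullback G.t w
  have hV : IsAlgSpace (pullback G.t w) := isAlgSpace_of_isPullback hU.diag hR hWsp sqV
  have hjV : RepWith @IsOpenImmersion (pullback.fst G.t w) := repWith_fst_of_isPullback _ sqV hw
  have hQjV : Q (pullback.fst G.t w) := hQ.ofOpen hV hR _ hjV
  have hQjs : Q (pullback.fst G.t w ≫ G.s) := hQ.comp hV hR hU _ _ hQjV hsQ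
  have hQtV : Q (pullback.snd G.t w) := hQ.baseChange hR hU hWsp G.t w _ _ sqV htQ
  have hopen : IsOpen (Set.range (Points.map (pullback.fst G.t w ≫ G.s))) :=
    (hQ.openMap hV hU _ hQjs).isOpen_range
  obtain ⟨W'', w'', hw'', hr''⟩ := exists_openSubspace ⟨G.U, hU⟩ _ hopen
  haveI : Mono w''.hom := mono_of_openImmersion w''.hom hw''
  obtain ⟨g1, hg1⟩ := (factors_iff_of_openImmersion w''.hom hw''
    (pullback.fst G.t w ≫ G.s)).2 (by rw [hr''])
  have hQg1 : Q g1 := by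
    have hpb : IsPullback (𝟙 _) g1 (pullback.fst G.t w ≫ G.s) w''.hom := by
      rw [← hg1]
      exact isPullback_of_factor g1 w''.hom
    exact hQ.baseChange hV hU W''.property _ w''.hom _ _ hpb hQjs
  have hsurj : IsSurjectiveMor g1 := by
    intro y''
    have hmem : Points.map w''.hom y'' ∈
        Set.range (Points.map (pullback.fst G.t w ≫ G.s)) := by
      rw [← hr'']
      exact ⟨y'', rfl⟩
    obtain ⟨z, hz⟩ := hmem
    refine ⟨z, map_injective_of_mono w''.hom ?_⟩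
    rw [← Points.map_comp, hg1, hz]
  have hPW : P (pullback.snd G.stabilizerToU w) :=
    (hmax W w hWsp hw).2 ⟨𝟙 W, Category.id_comp w⟩
  have sqW := IsPullback.of_hasPullback G.stabilizerToU w
  have hRW : IsAlgSpace (pullback G.stabilizerToU w) :=
    isAlgSpace_of_isPullback hU.diag hGs hWsp sqW
  have sqX := IsPullback.of_hasPullback (pullback.snd G.stabilizerToU w) (pullback.snd G.t w)
  have hX' : IsAlgSpace (pullback (pullback.snd G.stabilizerToU w) (pullback.snd G.t w)) :=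
    isAlgSpace_of_isPullback hWsp.diag hRW hV sqX
  have hPf' : P (pullback.snd (pullback.snd G.stabilizerToU w) (pullback.snd G.t w)) :=
    baseChange_of_local hQ hP hRW hWsp hX' hV (pullback.snd G.stabilizerToU w)
      (pullback.snd G.t w) (pullback.snd _ _) (pullback.fst _ _) sqX hQtV hPW
  have outer1 : IsPullback
      (pullback.fst (pullback.snd G.stabilizerToU w) (pullback.snd G.t w) ≫
        pullback.fst G.stabilizerToU w)
      (pullback.snd (pullback.snd G.stabilizerToU w) (pullback.snd G.t w)) G.stabilizerToU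
      (pullback.snd G.t w ≫ w) := sqX.paste_horiz sqW
  have e_tw : pullback.snd G.t w ≫ w = pullback.fst G.t w ≫ G.t := sqV.w.symm
  rw [e_tw] at outer1
  obtain ⟨a', sq'⟩ := exists_conj_isPullback G _ _ (pullback.fst G.t w) outer1
  have hg' : a' ≫ G.stabilizerToU =
      (pullback.snd (pullback.snd G.stabilizerToU w) (pullback.snd G.t w) ≫ g1) ≫ w''.hom := by
    rw [sq'.w, Category.assoc, hg1]
  have left2 : IsPullback (pullback.lift a' _ hg')
      (pullback.snd (pullback.snd G.stabilizerToU w) (pullback.snd G.t w))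
      (pullback.snd G.stabilizerToU w''.hom) g1 := by
    refine IsPullback.of_right ?_ (pullback.lift_snd _ _ _)
      (IsPullback.of_hasPullback G.stabilizerToU w''.hom)
    rw [pullback.lift_fst, hg1]
    exact sq'
  have hRW'' : IsAlgSpace (pullback G.stabilizerToU w''.hom) :=
    isAlgSpace_of_isPullback hU.diag hGs W''.property
      (IsPullback.of_hasPullback G.stabilizerToU w''.hom)
  have hPW'' : P (pullback.snd G.stabilizerToU w''.hom) :=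
    descend_of_local hP hRW'' W''.property hX' hV (pullback.snd G.stabilizerToU w''.hom) g1
      (pullback.snd _ _) (pullback.lift a' _ hg') left2 hQg1 hsurj hPf'
  have hk := (hmax W''.obj w''.hom W''.property hw'').1 hPW''
  have hsub := (factors_iff_of_openImmersion w hw w''.hom).1 hk
  rw [hr''] at hsub
  exact hsub

theorem isInvariant_of_range_subset
    {W : Sp S} (w : W ⟶ G.U) (hw : RepWith @IsOpenImmersion w)
    (hsub : Set.range (Points.map (pullback.fst G.t w ≫ G.s)) ⊆ Set.range (Points.map w)) :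
    G.IsInvariant w := by
  have hA : ∀ x : Points G.R, Points.map G.t x ∈ Set.range (Points.map w) →
      Points.map G.s x ∈ Set.range (Points.map w) := by
    rintro x ⟨y, hy⟩
    obtain ⟨z, hz1, hz2⟩ := exists_of_isPullback (IsPullback.of_hasPullback G.t w) x y hy.symm
    apply hsub
    exact ⟨z, by rw [Points.map_comp, hz1]⟩
  have hA' : ∀ x : Points G.R, Points.map G.s x ∈ Set.range (Points.map w) →
      Points.map G.t x ∈ Set.range (Points.map w) := by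
    intro x hx
    have h1 := hA (Points.map G.i x) (by rw [← Points.map_comp, G.i_t]; exact hx)
    rwa [← Points.map_comp, G.i_s] at h1
  intro T r
  rw [factors_iff_of_openImmersion w hw (r ≫ G.t), factors_iff_of_openImmersion w hw (r ≫ G.s)]
  constructor
  · rintro h _ ⟨x, rfl⟩
    rw [Points.map_comp]
    exact hA _ (by rw [← Points.map_comp]; exact h ⟨x, rfl⟩)
  · rintro h _ ⟨x, rfl⟩
    rw [Points.map_comp]
    exact hA' _ (by rw [← Points.map_comp]; exact h ⟨x, rfl⟩)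

theorem isInvariant_of_largest_stab {Q P : MorphismProperty (Sp S)} (hQ : QClass Q)
    (hP : LocalOnBaseQ Q P) (hB : IsAlgSpace B)
    (hU : IsAlgSpace G.U) (hR : IsAlgSpace G.R) (hsQ : Q G.s) (htQ : Q G.t)
    {W : Sp S} (hWsp : IsAlgSpace W) (w : W ⟶ G.U) (hw : RepWith @IsOpenImmersion w)
    (hmax : ∀ (W' : Sp S) (w' : W' ⟶ G.U), IsAlgSpace W' → RepWith @IsOpenImmersion w' →
      (P (pullback.snd G.stabilizerToU w') ↔ ∃ k : W' ⟶ W, k ≫ w = w')) :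
    G.IsInvariant w :=
  isInvariant_of_range_subset G w hw
    (range_subset_of_largest_stab G hQ hP hB hU hR hsQ htQ hWsp w hw hmax)

end Groth.Agent.Lib.AlgSpGpdStabH7
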