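import Groth.Agent.Lib.AlgSpOpenSub_helper7
import Mathlib.CategoryTheory.Sites.Subsheaf
import Groth.Prelude.Def_AlgSpSub

set_option autoImplicit false
universe u
open CategoryTheory CategoryTheory.Limits AlgebraicGeometry Opposite

namespace Groth.Agent.Lib.SchImageH7

open AlgSp Groth.Agent.Lib.AlgSpPoints_helper7 Groth.Agent.Lib.AlgSpTop_helper7
  Groth.Agent.Lib.AlgSpPullback_helper7 Groth.Agent.Lib.AlgSpBasic_helper7
  Groth.Agent.Lib.AlgSpOpen_helper7 Groth.Agent.Lib.AlgSpOpenSub_helper7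

variable {S : Scheme.{u}}

theorem mono_of_closedImmersion {F G : Sp S} (j : F ⟶ G) (hj : RepWith @IsClosedImmersion j) :
    Mono j :=
  mono_of_repWith_le_mono (P := @IsClosedImmersion)
    (fun _ _ g hg => by
      have : IsClosedImmersion g := hg
      exact (inferInstance : Mono g)) j hj

/-- A representable monomorphism into an algebraic space has algebraic space source. -/
theorem isAlgSpace_of_representable_mono {Z G : Sp S} (i : Z ⟶ G) [Mono i]
    (hi : Representable i) (hG : IsAlgSpace G) : IsAlgSpace Z where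
  diag := by
    have h1 : Representable (i ≫ Limits.diag G) :=
      MorphismProperty.comp_mem _ _ _ hi hG.diag
    rw [← prod.diag_map] at h1
    exact representable_of_comp_mono _ (prod.map i i) h1
  atlas := by
    obtain ⟨U, p, hpe, hps⟩ := hG.atlas
    exact ⟨hi.pullback p, hi.fst p, MorphismProperty.of_isPullback (hi.isPullback p).flip hpe,
      MorphismProperty.of_isPullback (hi.isPullback p).flip hps⟩

/-- Local membership in the image of a monomorphism of sheaves. -/
theorem mem_range_of_sieve {Z G : Sp S} (i : Z ⟶ G) [Mono i] {T : (Over S)ᵒᵖ}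
    (y : G.obj.obj T)
    (h : (Subfunctor.range i.hom).sieveOfSection y ∈ J S (unop T)) :
    y ∈ Set.range (i.hom.app T) := by
  have hG : Presieve.IsSheaf (J S) G.obj := (isSheaf_iff_isSheaf_of_type _ _).1 G.property
  have hZ : Presieve.IsSheaf (J S) Z.obj := (isSheaf_iff_isSheaf_of_type _ _).1 Z.property
  haveI : Mono i.hom := (sheafToPresheaf (J S) (Type (u + 1))).map_mono i
  have hR : Presieve.IsSheaf (J S) (Subfunctor.range i.hom).toFunctor :=
    Presieve.isSheaf_iso (J S) (asIso (Subfunctor.toRange i.hom)) hZ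
  exact (Subfunctor.isSheaf_iff _ hG).1 hR T y h

/-- Closed subspaces of `G` through which `f` factors. -/
structure ClosedThrough {F G : Sp S} (f : F ⟶ G) where
  Z : Sp S
  i : Z ⟶ G
  alg : IsAlgSpace Z
  cl : RepWith @IsClosedImmersion i
  fac : ∃ f'' : F ⟶ Z, f'' ≫ i = f

variable {F G : Sp S}

/-- The intersection of all closed subspaces through which `f` factors. -/
def imgSubfunctor (f : F ⟶ G) : Subfunctor G.obj where
  obj T := {y | ∀ α : ClosedThrough f, y ∈ Set.range (α.i.hom.app T)}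
  map := by
    intro T T' j y hy α
    obtain ⟨z, rfl⟩ := hy α
    exact ⟨α.Z.obj.map j z, NatTrans.naturality_apply α.i.hom j z⟩

theorem imgSubfunctor_isSheaf (f : F ⟶ G) :
    Presheaf.IsSheaf (J S) (imgSubfunctor f).toFunctor := by
  rw [isSheaf_iff_isSheaf_of_type]
  have hG : Presieve.IsSheaf (J S) G.obj := (isSheaf_iff_isSheaf_of_type _ _).1 G.property
  rw [Subfunctor.isSheaf_iff _ hG]
  intro T y hy α
  haveI : Mono α.i := mono_of_closedImmersion α.i α.cl
  have hle : (imgSubfunctor f).sieveOfSection y ≤ (Subfunctor.range α.i.hom).sieveOfSection y :=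
    fun V j hj => (show G.obj.map j.op y ∈ (imgSubfunctor f).obj (op V) from hj) α
  exact mem_range_of_sieve α.i y ((J S).superset_covering hle hy)

/-- The scheme theoretic image, as a sheaf. -/
def img (f : F ⟶ G) : Sp S := ⟨(imgSubfunctor f).toFunctor, imgSubfunctor_isSheaf f⟩

/-- The inclusion of the scheme theoretic image. -/
def imgι (f : F ⟶ G) : img f ⟶ G := ObjectProperty.homMk (imgSubfunctor f).ι

instance mono_imgι (f : F ⟶ G) : Mono (imgι f) := by
  have : Mono ((sheafToPresheaf (J S) (Type (u + 1))).map (imgι f)) :=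
    inferInstanceAs (Mono (imgSubfunctor f).ι)
  exact (sheafToPresheaf (J S) (Type (u + 1))).mono_of_mono_map this

theorem exists_fac_img (f : F ⟶ G) : ∃ f' : F ⟶ img f, f' ≫ imgι f = f := by
  have h : Subfunctor.range f.hom ≤ imgSubfunctor f := by
    rintro T _ ⟨x, rfl⟩ α
    obtain ⟨f'', hf''⟩ := α.fac
    exact ⟨f''.hom.app T x, congrArg (fun k : F ⟶ G => (k.hom.app T) x) hf''⟩
  refine ⟨ObjectProperty.homMk (Subfunctor.lift f.hom h), ?_⟩
  apply (sheafToPresheaf (J S) (Type (u + 1))).map_injective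
  exact Subfunctor.lift_ι f.hom h

theorem exists_min_img (f : F ⟶ G) (α : ClosedThrough f) :
    ∃ k : img f ⟶ α.Z, k ≫ α.i = imgι f := by
  haveI : Mono α.i := mono_of_closedImmersion α.i α.cl
  haveI : Mono α.i.hom := (sheafToPresheaf (J S) (Type (u + 1))).map_mono α.i
  have h : Subfunctor.range (imgSubfunctor f).ι ≤ Subfunctor.range α.i.hom := by
    rintro T _ ⟨x, rfl⟩
    exact x.2 α
  refine ⟨ObjectProperty.homMk
    (Subfunctor.lift (imgSubfunctor f).ι h ≫ inv (Subfunctor.toRange α.i.hom)), ?_⟩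
  apply (sheafToPresheaf (J S) (Type (u + 1))).map_injective
  show (Subfunctor.lift (imgSubfunctor f).ι h ≫ inv (Subfunctor.toRange α.i.hom)) ≫ α.i.hom =
    (imgSubfunctor f).ι
  have e : inv (Subfunctor.toRange α.i.hom) ≫ α.i.hom = (Subfunctor.range α.i.hom).ι := by
    rw [IsIso.inv_comp_eq, Subfunctor.toRange_ι]
  rw [Category.assoc, e, Subfunctor.lift_ι]

theorem exists_lift_img (f : F ⟶ G) {T : Over S} (g : (yon S).obj T ⟶ G)
    (hg : ∀ α : ClosedThrough f, ∃ a : (yon S).obj T ⟶ α.Z, a ≫ α.i = g) :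
    ∃ g' : (yon S).obj T ⟶ img f, g' ≫ imgι f = g := by
  have hx : yE g ∈ (imgSubfunctor f).obj (op T) := by
    intro α
    obtain ⟨a, ha⟩ := hg α
    refine ⟨yE a, ?_⟩
    rw [← ha, yE_comp]
  refine ⟨yE.symm (⟨yE g, hx⟩ : (img f).obj.obj (op T)), ?_⟩
  apply yE.injective
  rw [yE_comp, Equiv.apply_symm_apply]
  rfl

theorem exists_of_comp_imgι (f : F ⟶ G) {T : Over S} (g' : (yon S).obj T ⟶ img f)
    (α : ClosedThrough f) : ∃ a : (yon S).obj T ⟶ α.Z, a ≫ α.i = g' ≫ imgι f := by
  obtain ⟨z, hz⟩ := (yE g').2 α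
  refine ⟨yE.symm z, ?_⟩
  apply yE.injective
  rw [yE_comp, Equiv.apply_symm_apply, hz, yE_comp]
  rfl

theorem exists_isPullback_img (f : F ⟶ G) {T : Over S} (g : (yon S).obj T ⟶ G) :
    ∃ (V : Over S) (ι : V ⟶ T) (fst : (yon S).obj V ⟶ img f), IsClosedImmersion ι.left ∧
      IsPullback fst ((yon S).map ι) (imgι f) g := by
  let I : T.left.IdealSheafData :=
    sSup (Set.range (fun α : ClosedThrough f => (α.cl.rep.snd g).left.ker))
  let V : Over S := Over.mk (I.subschemeι ≫ T.hom)
  let ι : V ⟶ T := Over.homMk I.subschemeι rfl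
  have hιc : IsClosedImmersion ι.left := inferInstanceAs (IsClosedImmersion I.subschemeι)
  have hιm : Mono ι := by
    have : Mono ι.left := inferInstanceAs (Mono I.subschemeι)
    exact Over.mono_of_mono_left ι
  have hV : ∀ α : ClosedThrough f, ∃ a : (yon S).obj V ⟶ α.Z, a ≫ α.i = (yon S).map ι ≫ g := by
    intro α
    haveI : IsClosedImmersion (α.cl.rep.snd g).left := α.cl.property_snd g
    have hle : (α.cl.rep.snd g).left.ker ≤ I.subschemeι.ker := by
      rw [Scheme.IdealSheafData.ker_subschemeι]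
      exact le_sSup ⟨α, rfl⟩
    let l : V.left ⟶ (α.cl.rep.pullback g).left :=
      IsClosedImmersion.lift (α.cl.rep.snd g).left I.subschemeι hle
    have hl : l ≫ (α.cl.rep.snd g).left = I.subschemeι := IsClosedImmersion.lift_fac _ _ _
    let lO : V ⟶ α.cl.rep.pullback g := Over.homMk l (by
      rw [← Over.w (α.cl.rep.snd g), ← Category.assoc, hl]
      rfl)
    have hlO : lO ≫ α.cl.rep.snd g = ι := by
      ext
      exact hl
    refine ⟨(yon S).map lO ≫ α.cl.rep.fst g, ?_⟩
    rw [Category.assoc, (α.cl.rep.isPullback g).w, ← Category.assoc, ← Functor.map_comp, hlO]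
  obtain ⟨fst, hfst⟩ := exists_lift_img f _ hV
  refine ⟨V, ι, fst, hιc, ?_⟩
  refine isPullback_of_forall_yon hfst ?_
  intro Z a b hab
  obtain ⟨β, rfl⟩ := (yon S).map_surjective b
  have hβ : I.subschemeι.ker ≤ β.left.ker := by
    rw [Scheme.IdealSheafData.ker_subschemeι]
    apply sSup_le
    rintro _ ⟨α, rfl⟩
    obtain ⟨a', ha'⟩ := exists_of_comp_imgι f a α
    rw [hab] at ha'
    obtain ⟨p, hp⟩ := (yon S).map_surjective ((α.cl.rep.isPullback g).lift a' _ ha')
    have h2 : p ≫ α.cl.rep.snd g = β := by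
      apply (yon S).map_injective
      rw [Functor.map_comp, hp, (α.cl.rep.isPullback g).lift_snd]
    have h3 : p.left ≫ (α.cl.rep.snd g).left = β.left := by
      rw [← h2]
      rfl
    rw [← h3]
    exact Scheme.Hom.le_ker_comp _ _
  let γl : Z.left ⟶ V.left := IsClosedImmersion.lift ι.left β.left hβ
  have hγl : γl ≫ ι.left = β.left := IsClosedImmersion.lift_fac _ _ _
  let γ : Z ⟶ V := Over.homMk γl (by
    rw [← Over.w ι, ← Category.assoc, hγl, Over.w])
  have hγ : γ ≫ ι = β := by
    ext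
    exact hγl
  refine ⟨(yon S).map γ, ⟨?_, ?_⟩, ?_⟩
  · rw [← cancel_mono (imgι f), Category.assoc, hfst, ← Category.assoc, ← Functor.map_comp,
      hγ, hab]
  · rw [← Functor.map_comp, hγ]
  · rintro p ⟨-, hp2⟩
    obtain ⟨γ', rfl⟩ := (yon S).map_surjective p
    rw [← Functor.map_comp] at hp2
    have h3 : γ' ≫ ι = β := (yon S).map_injective hp2
    congr 1
    rw [← cancel_mono ι, h3, hγ]

theorem repWith_isClosedImmersion_imgι (f : F ⟶ G) :
    RepWith @IsClosedImmersion (imgι f) := by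
  apply MorphismProperty.relative.of_exists
  intro T g
  obtain ⟨V, ι, fst, h1, sq⟩ := exists_isPullback_img f g
  exact ⟨V, fst, ι, sq, h1⟩

theorem isAlgSpace_img (hG : IsAlgSpace G) (f : F ⟶ G) : IsAlgSpace (img f) :=
  isAlgSpace_of_representable_mono (imgι f) (repWith_isClosedImmersion_imgι f).rep hG

theorem isSchImage_imgι (f : F ⟶ G) : IsSchImage f (imgι f) :=
  ⟨repWith_isClosedImmersion_imgι f, exists_fac_img f, fun Z' i' hZ' hi' hf' =>
    exists_min_img f ⟨Z', i', hZ', hi', hf'⟩⟩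

end Groth.Agent.Lib.SchImageH7
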