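import Groth.Agent.Lib.AlgSpQfLocus2_helper7
import Groth.Agent.Lib.AlgSpWhereUnram_helper7
import Groth.Agent.Lib.SchImage_helper7
import Groth.Agent.Lib.AlgSpOpen_helper7
import Groth.Prelude.Def_AlgSpGpd

/-!
# Group algebraic spaces: a locus which is stable under base change is detected on the unit
section (helper7)

For a group algebraic space `G → B` locally of finite type, "unramified at a point" and
"quasi-finite at a point" hold on a whole fibre as soon as they hold at the unit point of that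
fibre (translation argument after base change to a field point).
-/

set_option autoImplicit false
universe u
open CategoryTheory CategoryTheory.Limits AlgebraicGeometry Opposite MonoidalCategory
  CartesianMonoidalCategory MonObj
open AlgSp Groth.Agent.Lib.AlgSpPoints_helper7 Groth.Agent.Lib.AlgSpPullback_helper7
  Groth.Agent.Lib.AlgSpLocP4_helper7 Groth.Agent.Lib.AlgSpOpenSub_helper7
  Groth.Agent.Lib.AlgSpOpen_helper7

namespace Groth.Agent.Lib.AlgSpGrpLocusH7

/-- The formal properties of a pointwise locus used below. -/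
structure LocusData (S : Scheme.{u}) (Qp : ∀ (U V : Scheme.{u}), (U ⟶ V) → ↥U → Prop)
    (P : MorphismProperty Scheme.{u}) : Prop where
  bc : ∀ {X Y Y' X' : AlgSp.Space S} (f : X ⟶ Y), LocP @LocallyOfFiniteType f.hom →
    ∀ (g : Y' ⟶ Y) (g' : X' ⟶ X) (f' : X' ⟶ Y'), IsPullback g'.hom f'.hom f.hom g.hom →
    ∀ x' : Points X'.obj, HasAtMor Qp f'.hom x' ↔ HasAtMor Qp f.hom (Points.map g'.hom x')
  of_locP : ∀ {X Y : AlgSp.Space S} (f : X ⟶ Y), LocP P f.hom → ∀ x, HasAtMor Qp f.hom x
  to_locP : ∀ {X Y : AlgSp.Space S} (f : X ⟶ Y), (∀ x, HasAtMor Qp f.hom x) → LocP P f.hom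
  isOpen : ∀ {X Y : AlgSp.Space S} (f : X ⟶ Y), IsOpen {x : Points X.obj | HasAtMor Qp f.hom x}

variable {S : Scheme.{u}}

theorem locusData_unram :
    LocusData S Groth.Agent.Lib.AlgSpUnramLocusH7.QU Groth.Agent.Lib.UnramLocH7.PU :=
  ⟨fun f hf g g' f' sq x' =>
      Groth.Agent.Lib.AlgSpUnramLocusH7.unramLocus_baseChange f hf g g' f' sq x',
    fun f h x => Groth.Agent.Lib.AlgSpWhereUnramH7.hasAtMor_of_locP f h x,
    fun f h => Groth.Agent.Lib.AlgSpWhereUnramH7.locP_of_forall_hasAtMor f h,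
    fun f => Groth.Agent.Lib.AlgSpUnramLocusH7.isOpen_unramLocus f⟩

theorem locusData_qf :
    LocusData S Groth.Agent.Lib.AlgSpQfLocusH7.QQ Groth.Agent.Lib.AlgSpQfLocusH7.PQ :=
  ⟨fun f hf g g' f' sq x' =>
      Groth.Agent.Lib.AlgSpQfLocus2H7.qfLocus_baseChange_iff f hf g g' f' sq x',
    fun f h x => Groth.Agent.Lib.AlgSpQfLocus2H7.hasAtMor_of_locP f h x,
    fun f h => Groth.Agent.Lib.AlgSpQfLocus2H7.locP_of_forall_hasAtMor f h,
    fun f => Groth.Agent.Lib.AlgSpQfLocus2H7.isOpen_qfLocus f⟩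

/-- Left translation by a `T0`-point of `G`, as an automorphism of `T0 ×_B G` over `T0`. -/
theorem exists_translation {B : Sp S} (G : Over B) [GrpObj G] (T0 : Over B) (gam : T0 ⟶ G) :
    ∃ τ : T0 ⊗ G ⟶ T0 ⊗ G, IsIso τ ∧ τ ≫ fst T0 G = fst T0 G ∧
      lift (𝟙 T0) (1 : T0 ⟶ G) ≫ τ = lift (𝟙 T0) gam := by
  have e1 : lift (fst T0 G) ((fst T0 G ≫ gam) * snd T0 G) ≫ fst T0 G = fst T0 G := lift_fst _ _
  have e2 : lift (fst T0 G) ((fst T0 G ≫ gam) * snd T0 G) ≫ snd T0 G =
      (fst T0 G ≫ gam) * snd T0 G := lift_snd _ _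
  have e1' : lift (fst T0 G) ((fst T0 G ≫ gam)⁻¹ * snd T0 G) ≫ fst T0 G = fst T0 G :=
    lift_fst _ _
  have e2' : lift (fst T0 G) ((fst T0 G ≫ gam)⁻¹ * snd T0 G) ≫ snd T0 G =
      (fst T0 G ≫ gam)⁻¹ * snd T0 G := lift_snd _ _
  refine ⟨lift (fst T0 G) ((fst T0 G ≫ gam) * snd T0 G),
    ⟨⟨lift (fst T0 G) ((fst T0 G ≫ gam)⁻¹ * snd T0 G), ?_, ?_⟩⟩, e1, ?_⟩
  · apply CartesianMonoidalCategory.hom_ext
    · rw [Category.assoc, e1', e1, Category.id_comp]
    · rw [Category.assoc, e2', MonObj.comp_mul, GrpObj.comp_inv, ← Category.assoc, e1, e2,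
        inv_mul_cancel_left, Category.id_comp]
  · apply CartesianMonoidalCategory.hom_ext
    · rw [Category.assoc, e1, e1', Category.id_comp]
    · rw [Category.assoc, e2, MonObj.comp_mul, ← Category.assoc, e1', e2',
        mul_inv_cancel_left, Category.id_comp]
  · apply CartesianMonoidalCategory.hom_ext
    · rw [Category.assoc, e1, lift_fst, lift_fst]
    · rw [Category.assoc, e2, MonObj.comp_mul, ← Category.assoc, lift_fst, Category.id_comp,
        lift_snd, _root_.mul_one, lift_snd]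

theorem exists_ofPt_field {F : Sp S} (x : Points F) :
    ∃ (K : Type u) (_ : Field K) (sK : Spec (CommRingCat.of K) ⟶ S)
      (m : (yon S).obj (Over.mk sK) ⟶ F), Points.ofPt m (IsLocalRing.closedPoint K) = x := by
  obtain ⟨K, hK, sK, m, rfl⟩ := mk_surjective' x
  refine ⟨K, hK, sK, m, ?_⟩
  have := ofPt_eq_mk_ofHom m (𝟙 (Over.mk sK))
  simpa using this

variable {Qp : ∀ (U V : Scheme.{u}), (U ⟶ V) → ↥U → Prop} {P : MorphismProperty Scheme.{u}}

/-- Translation: the locus at the unit point of a field point propagates to the field point. -/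
theorem hasAtMor_translate (D : LocusData S Qp P) {B : Sp S} (hB : IsAlgSpace B) (G : Over B)
    [GrpObj G] (hG : IsAlgSpace G.left) (hlft : LocP @LocallyOfFiniteType G.hom)
    (T0 : Over B) (hT : IsAlgSpace T0.left) (gam : T0 ⟶ G) (c0 : Points T0.left)
    (h : HasAtMor Qp G.hom (Points.map (η[G]).left (Points.map T0.hom c0))) :
    HasAtMor Qp G.hom (Points.map gam.left c0) := by
  obtain ⟨τ, hτiso, hτfst, hτσ⟩ := exists_translation G T0 gam
  haveI := hτiso
  haveI : IsIso τ.left := (Over.forget B).map_isIso τ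
  have sq0 : IsPullback (snd T0 G).left (fst T0 G).left G.hom T0.hom :=
    (IsPullback.of_hasPullback T0.hom G.hom).flip
  have hP : IsAlgSpace (T0 ⊗ G).left := isAlgSpace_of_isPullback hB.diag hG hT sq0
  have hf' : LocP @LocallyOfFiniteType (fst T0 G).left :=
    locP_baseChange etLocal_locallyOfFiniteType hG hB hT G.hom T0.hom (snd T0 G).left
      (fst T0 G).left sq0 hlft
  have e : (lift (𝟙 T0) (1 : T0 ⟶ G)).left ≫ (snd T0 G).left = T0.hom ≫ (η[G]).left := by
    rw [← Over.comp_left, lift_snd, Hom.one_def, Over.comp_left, Over.toUnit_left]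
  have he1 : Points.map (snd T0 G).left (Points.map (lift (𝟙 T0) (1 : T0 ⟶ G)).left c0) =
      Points.map (η[G]).left (Points.map T0.hom c0) := by
    rw [← Points.map_comp, e, Points.map_comp]
  have hxgam : Points.map τ.left (Points.map (lift (𝟙 T0) (1 : T0 ⟶ G)).left c0) =
      Points.map (lift (𝟙 T0) gam).left c0 := by
    rw [← Points.map_comp, ← Over.comp_left, hτσ]
  have he2 : Points.map (snd T0 G).left (Points.map (lift (𝟙 T0) gam).left c0) =
      Points.map gam.left c0 := by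
    rw [← Points.map_comp, ← Over.comp_left, lift_snd]
  have h1 : HasAtMor Qp (fst T0 G).left (Points.map (lift (𝟙 T0) (1 : T0 ⟶ G)).left c0) :=
    (D.bc (X := ⟨G.left, hG⟩) (Y := ⟨B, hB⟩) (Y' := ⟨T0.left, hT⟩) (X' := ⟨(T0 ⊗ G).left, hP⟩)
      (ObjectProperty.homMk G.hom) hlft (ObjectProperty.homMk T0.hom)
      (ObjectProperty.homMk (snd T0 G).left) (ObjectProperty.homMk (fst T0 G).left) sq0 _).2
      (by
        show HasAtMor Qp G.hom (Points.map (snd T0 G).left
          (Points.map (lift (𝟙 T0) (1 : T0 ⟶ G)).left c0))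
        rw [he1]; exact h)
  have sqτ : IsPullback τ.left (fst T0 G).left (fst T0 G).left (𝟙 T0.left) :=
    IsPullback.of_horiz_isIso ⟨by rw [Category.comp_id, ← Over.comp_left, hτfst]⟩
  have h2 : HasAtMor Qp (fst T0 G).left
      (Points.map τ.left (Points.map (lift (𝟙 T0) (1 : T0 ⟶ G)).left c0)) :=
    (D.bc (X := ⟨(T0 ⊗ G).left, hP⟩) (Y := ⟨T0.left, hT⟩) (Y' := ⟨T0.left, hT⟩)
      (X' := ⟨(T0 ⊗ G).left, hP⟩)
      (ObjectProperty.homMk (fst T0 G).left) hf' (ObjectProperty.homMk (𝟙 T0.left))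
      (ObjectProperty.homMk τ.left) (ObjectProperty.homMk (fst T0 G).left) sqτ _).1 h1
  rw [hxgam] at h2
  have h3 : HasAtMor Qp G.hom (Points.map (snd T0 G).left
      (Points.map (lift (𝟙 T0) gam).left c0)) := (D.bc (X := ⟨G.left, hG⟩) (Y := ⟨B, hB⟩) (Y' := ⟨T0.left, hT⟩)
      (X' := ⟨(T0 ⊗ G).left, hP⟩)
      (ObjectProperty.homMk G.hom) hlft (ObjectProperty.homMk T0.hom)
      (ObjectProperty.homMk (snd T0 G).left) (ObjectProperty.homMk (fst T0 G).left) sq0 _).1 h2
  rw [he2] at h3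
  exact h3

/-- If the locus contains the unit point of the fibre through `g`, it contains `g`. -/
theorem hasAtMor_of_unit (D : LocusData S Qp P) {B : Sp S} (hB : IsAlgSpace B) (G : Over B)
    [GrpObj G] (hG : IsAlgSpace G.left) (hlft : LocP @LocallyOfFiniteType G.hom)
    (g : Points G.left)
    (h : HasAtMor Qp G.hom (Points.map (η[G]).left (Points.map G.hom g))) :
    HasAtMor Qp G.hom g := by
  obtain ⟨K, _, sK, m, hm⟩ := exists_ofPt_field g
  have key := hasAtMor_translate D hB G hG hlft (Over.mk (m ≫ G.hom))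
    (IsAlgSpace.yon_obj (Over.mk sK)) (Over.homMk m rfl)
    (Points.ofPt (𝟙 _) (IsLocalRing.closedPoint K))
  have e1 : Points.map (m ≫ G.hom) (Points.ofPt (𝟙 ((yon S).obj (Over.mk sK)))
      (IsLocalRing.closedPoint K)) = Points.map G.hom g := by
    rw [Points.map_comp, Points.map_ofPt, Category.id_comp, hm]
  have e2 : Points.map m (Points.ofPt (𝟙 ((yon S).obj (Over.mk sK)))
      (IsLocalRing.closedPoint K)) = g := by
    rw [Points.map_ofPt, Category.id_comp, hm]
  have key' := key (by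
    show HasAtMor Qp G.hom (Points.map (η[G]).left (Points.map (m ≫ G.hom) _))
    rw [e1]; exact h)
  have : HasAtMor Qp G.hom (Points.map m (Points.ofPt (𝟙 ((yon S).obj (Over.mk sK)))
      (IsLocalRing.closedPoint K))) := key'
  rw [e2] at this
  exact this

/-- The set of points of the base over which the unit section lies in the locus. -/
def unitLocus (Qp : ∀ (U V : Scheme.{u}), (U ⟶ V) → ↥U → Prop) {B : Sp S} (G : Over B)
    [GrpObj G] : Set (Points B) :=
  {b | HasAtMor Qp G.hom (Points.map (η[G]).left b)}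

theorem isOpen_unitLocus (D : LocusData S Qp P) {B : Sp S} (hB : IsAlgSpace B) (G : Over B)
    [GrpObj G] (hG : IsAlgSpace G.left) : IsOpen (unitLocus Qp G) :=
  (Points.continuous_map (η[G]).left).isOpen_preimage _
    (D.isOpen (X := ⟨G.left, hG⟩) (Y := ⟨B, hB⟩) (ObjectProperty.homMk G.hom))

/-- S12199 (one half). -/
theorem grpObj_locP_iff_unit (D : LocusData S Qp P) {B : Sp S} (hB : IsAlgSpace B) (G : Over B)
    [GrpObj G] (hG : IsAlgSpace G.left) (hlft : LocP @LocallyOfFiniteType G.hom) :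
    LocP P G.hom ↔ ∀ b : Points B, HasAtMor Qp G.hom (Points.map (η[G]).left b) := by
  constructor
  · intro h b
    exact D.of_locP (X := ⟨G.left, hG⟩) (Y := ⟨B, hB⟩) (ObjectProperty.homMk G.hom) h _
  · intro h
    exact D.to_locP (X := ⟨G.left, hG⟩) (Y := ⟨B, hB⟩) (ObjectProperty.homMk G.hom)
      fun g => hasAtMor_of_unit D hB G hG hlft g (h _)

/-- The base change of `G → B` along `t : T → B` has `P` iff `t` lands in the unit locus. -/
theorem locP_pullback_iff (D : LocusData S Qp P) {B : Sp S} (hB : IsAlgSpace B) (G : Over B)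
    [GrpObj G] (hG : IsAlgSpace G.left) (hlft : LocP @LocallyOfFiniteType G.hom)
    {T Pb : Sp S} (hT : IsAlgSpace T) (t : T ⟶ B) (fst' : Pb ⟶ G.left) (snd' : Pb ⟶ T)
    (sq : IsPullback fst' snd' G.hom t) :
    LocP P snd' ↔ Set.range (Points.map t) ⊆ unitLocus Qp G := by
  have hPb : IsAlgSpace Pb := isAlgSpace_of_isPullback hB.diag hG hT sq
  have hηw : (η[G]).left ≫ G.hom = 𝟙 B := Over.w η[G]
  constructor
  · rintro hL _ ⟨b', rfl⟩
    show HasAtMor Qp G.hom (Points.map (η[G]).left (Points.map t b'))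
    have hmap : Points.map G.hom (Points.map (η[G]).left (Points.map t b')) =
        Points.map t b' := by
      rw [← Points.map_comp, hηw]
      exact Points.map_id _
    obtain ⟨z, hz1, hz2⟩ := exists_of_isPullback sq _ b' hmap
    have h1 := D.of_locP (X := ⟨Pb, hPb⟩) (Y := ⟨T, hT⟩) (ObjectProperty.homMk snd') hL z
    have h2 := (D.bc (X := ⟨G.left, hG⟩) (Y := ⟨B, hB⟩) (Y' := ⟨T, hT⟩) (X' := ⟨Pb, hPb⟩)
      (ObjectProperty.homMk G.hom) hlft (ObjectProperty.homMk t) (ObjectProperty.homMk fst')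
      (ObjectProperty.homMk snd') sq z).1 h1
    rw [← hz1]
    exact h2
  · intro hsub
    refine D.to_locP (X := ⟨Pb, hPb⟩) (Y := ⟨T, hT⟩) (ObjectProperty.homMk snd') fun z => ?_
    refine (D.bc (X := ⟨G.left, hG⟩) (Y := ⟨B, hB⟩) (Y' := ⟨T, hT⟩) (X' := ⟨Pb, hPb⟩)
      (ObjectProperty.homMk G.hom) hlft (ObjectProperty.homMk t) (ObjectProperty.homMk fst')
      (ObjectProperty.homMk snd') sq z).2 ?_
    apply hasAtMor_of_unit D hB G hG hlft
    have e : Points.map G.hom (Points.map fst' z) = Points.map t (Points.map snd' z) := by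
      rw [← Points.map_comp, ← Points.map_comp, sq.w]
    show HasAtMor Qp G.hom (Points.map (η[G]).left (Points.map G.hom (Points.map fst' z)))
    rw [e]
    exact hsub ⟨_, rfl⟩

/-- S10143 / S10144. -/
theorem grpObj_exists_largest_open (D : LocusData S Qp P) (B : Sp S) (hB : IsAlgSpace B)
    (G : Over B) [GrpObj G] (hG : IsAlgSpace G.left)
    (hlft : LocP @LocallyOfFiniteType G.hom) :
    ∃ (W : Sp S) (w : W ⟶ B), RepWith @IsOpenImmersion w ∧
      (∀ (W' : Sp S) (w' : W' ⟶ B), RepWith @IsOpenImmersion w' →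
        (LocP P (pullback.snd G.hom w') ↔ ∃ k : W' ⟶ W, k ≫ w = w')) ∧
      (∀ (B' : Sp S), IsAlgSpace B' → ∀ (f : B' ⟶ B) (W'' : Sp S) (w'' : W'' ⟶ B'),
        RepWith @IsOpenImmersion w'' →
        (LocP P (pullback.snd (pullback.snd G.hom f) w'') ↔
          ∃ k : W'' ⟶ pullback w f, k ≫ pullback.snd w f = w'')) := by
  have hW0 := isOpen_unitLocus D hB G hG
  have hw : RepWith @IsOpenImmersion (openSubι B (unitLocus Qp G)) :=
    repWith_isOpenImmersion_openSubι hW0
  have hr : Set.range (Points.map (openSubι B (unitLocus Qp G))) = unitLocus Qp G :=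
    range_map_openSubι hB hW0
  refine ⟨openSub B (unitLocus Qp G), openSubι B (unitLocus Qp G), hw, ?_, ?_⟩
  · intro W' w' hw'
    haveI := mono_of_openImmersion w' hw'
    have hW' : IsAlgSpace W' :=
      Groth.Agent.Lib.SchImageH7.isAlgSpace_of_representable_mono w' hw'.rep hB
    rw [locP_pullback_iff D hB G hG hlft hW' w' _ _ (IsPullback.of_hasPullback G.hom w'),
      factors_iff_of_openImmersion _ hw w', hr]
  · intro B' hB' f W'' w'' hw''
    haveI := mono_of_openImmersion w'' hw''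
    have hW'' : IsAlgSpace W'' :=
      Groth.Agent.Lib.SchImageH7.isAlgSpace_of_representable_mono w'' hw''.rep hB'
    have sqA := IsPullback.of_hasPullback (pullback.snd G.hom f) w''
    have sqB := IsPullback.of_hasPullback G.hom f
    have key : (∃ k' : W'' ⟶ openSub B (unitLocus Qp G),
        k' ≫ openSubι B (unitLocus Qp G) = w'' ≫ f) ↔
        Set.range (Points.map (w'' ≫ f)) ⊆ unitLocus Qp G := by
      rw [factors_iff_of_openImmersion _ hw (w'' ≫ f), hr]
    rw [locP_pullback_iff D hB G hG hlft hW'' (w'' ≫ f) _ _ (sqA.paste_horiz sqB), ← key]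
    constructor
    · rintro ⟨k', hk'⟩
      exact ⟨pullback.lift k' w'' hk', pullback.lift_snd _ _ _⟩
    · rintro ⟨k, hk⟩
      exact ⟨k ≫ pullback.fst _ _, by
        rw [Category.assoc, pullback.condition, ← Category.assoc, hk]⟩

end Groth.Agent.Lib.AlgSpGrpLocusH7
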