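import Groth.Agent.Lib.AlgSpUniv_helper7
import Groth.Prelude.Def_Flat

/-!
# Universal homeomorphisms of representable morphisms of sheaves (helper6)
-/

set_option autoImplicit false
universe u
open CategoryTheory CategoryTheory.Limits AlgebraicGeometry Opposite

namespace Groth.Agent.Lib.AlgSpHomeo_helper6

open AlgSp Groth.Agent.Lib.AlgSpPoints_helper7 Groth.Agent.Lib.AlgSpQC_helper7
  Groth.Agent.Lib.AlgSpUniv_helper7

variable {S : Scheme.{u}}

theorem isUnivHomeo_le_universallyOpen :
    (FlatMor.IsUnivHomeo : MorphismProperty Scheme.{u}) ≤ @UniversallyOpen := by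
  intro A B g hg
  exact ⟨fun X' Y' i₁ i₂ f' h => (hg i₁ i₂ f' h).isOpenMap⟩

theorem isUnivHomeo_le_universallyInjective :
    (FlatMor.IsUnivHomeo : MorphismProperty Scheme.{u}) ≤ @UniversallyInjective := by
  intro A B g hg
  exact ⟨fun X' Y' i₁ i₂ f' h => (hg i₁ i₂ f' h).injective⟩

theorem isUnivHomeo_le_surjective :
    (FlatMor.IsUnivHomeo : MorphismProperty Scheme.{u}) ≤ @Surjective := by
  intro A B g hg
  exact ⟨(hg _ _ _ IsPullback.of_id_snd).surjective⟩

theorem isHomeomorph_map_of_repWith {F' F : Sp S} (p : F' ⟶ F)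
    (hp : RepWith FlatMor.IsUnivHomeo p) : IsHomeomorph (Points.map p) := by
  refine ⟨Points.continuous_map p, ?_, ?_, ?_⟩
  · exact isOpenMap_map_of_repWith p (repWith_mono isUnivHomeo_le_universallyOpen hp)
  · exact injective_map_of_repWith p (repWith_mono isUnivHomeo_le_universallyInjective hp)
  · exact isSurjectiveMor_of_repWith p (repWith_mono isUnivHomeo_le_surjective hp)

theorem isHomeomorph_map_yon_map_iff {T T' : Over S} (φ : T ⟶ T') :
    IsHomeomorph (Points.map ((yon S).map φ)) ↔ IsHomeomorph φ.left := by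
  rw [Points.map_yon_map_eq]
  constructor
  · intro h
    have := ((Points.schemeHomeo T').symm.isHomeomorph.comp h).comp
      (Points.schemeHomeo T).isHomeomorph
    convert this using 1
    ext t
    simp
  · intro h
    exact ((Points.schemeHomeo T').isHomeomorph.comp h).comp
      (Points.schemeHomeo T).symm.isHomeomorph

theorem repWith_isUnivHomeo_of_isUnivHomeoMor {F G : Sp S} (f : F ⟶ G)
    (hf : Representable f) (h : IsUnivHomeoMor f) : RepWith FlatMor.IsUnivHomeo f := by
  refine ⟨hf, fun T V g fst snd sq => fun X' Y' i₁ i₂ f' hsq => ?_⟩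
  have := h (IsAlgSpace.yon_obj _) _ _ _ (isPullback_of_scheme_isPullback sq hsq)
  exact (isHomeomorph_map_yon_map_iff _).1 this

theorem repWith_isUnivHomeo_iff {F G : Sp S} (f : F ⟶ G) (hf : Representable f) :
    RepWith FlatMor.IsUnivHomeo f ↔ IsUnivHomeoMor f :=
  ⟨fun h _ _ _ _ _ _ sq => isHomeomorph_map_of_repWith _ (repWith_snd_of_isPullback _ sq h),
    repWith_isUnivHomeo_of_isUnivHomeoMor f hf⟩

end Groth.Agent.Lib.AlgSpHomeo_helper6
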