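import Mathlib
import Groth.Agent.Lib.AlgSpGenFin8_helper6
import Groth.Agent.Lib.AlgSpT0_helper6
import Groth.Agent.Lib.AlgSpDecent5_helper6

/-!
# Generically finite dominant morphisms of integral algebraic spaces (helper6)
-/

set_option autoImplicit false
universe u
open CategoryTheory CategoryTheory.Limits AlgebraicGeometry Opposite TopologicalSpace

namespace Groth.Agent.Lib.AlgSpIntegralFinH6

open AlgSp Groth.Agent.Lib.AlgSpPoints_helper7 Groth.Agent.Lib.AlgSpOpenSub_helper7
  Groth.Agent.Lib.AlgSpPullback_helper7 Groth.Agent.Lib.AlgSpBasic_helper7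
  Groth.Agent.Lib.AlgSpGenFin7H6 Groth.Agent.Lib.AlgSpGenFin8H6 Groth.Agent.Lib.DecentIrredH7
  Groth.Agent.Lib.AlgSpQfLocusH7 Groth.Agent.Lib.UnramLocH7 Groth.Agent.Lib.AlgSpEtale_helper7
  Groth.Agent.Lib.AlgSpLocP_helper7

variable {S : Scheme.{u}}

/-- A dominant morphism maps the generic point to the generic point. -/
theorem map_generic {X Y : Space S} (hY : IsDecent Y.obj) (f : X ⟶ Y)
    (hd : IsDominantMor f.hom) (x : Points X.obj)
    (hx : IsGenericPoint x (Set.univ : Set (Points X.obj))) (y : Points Y.obj)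
    (hy : IsGenericPoint y (Set.univ : Set (Points Y.obj))) : Points.map f.hom x = y := by
  haveI : T0Space (Points Y.obj) :=
    Groth.Agent.Lib.AlgSpT0_helper6.t0Space_points_of_isDecent Y.property hY
  have h2 : Set.range (Points.map f.hom) ⊆ closure {Points.map f.hom x} := by
    have := image_closure_subset_closure_image (s := {x}) (Points.continuous_map f.hom)
    rw [hx.def, Set.image_univ, Set.image_singleton] at this
    exact this
  have h3 : closure (Set.range (Points.map f.hom)) ⊆ closure {Points.map f.hom x} :=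
    closure_minimal h2 isClosed_closure
  have hd' : DenseRange (Points.map f.hom) := hd
  rw [hd'.closure_range] at h3
  have h1 : IsGenericPoint (Points.map f.hom x) (Set.univ : Set (Points Y.obj)) :=
    Set.univ_subset_iff.1 h3
  exact h1.eq hy

/-- In an integral space, the only point of codimension zero is the generic point. -/
theorem d0_iff_eq_generic {X : Space S} (hXi : IsIntegralSp X.obj) (x : Points X.obj)
    (hx : IsGenericPoint x (Set.univ : Set (Points X.obj))) (x' : Points X.obj) :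
    HasAt D0 X.obj x' ↔ x' = x := by
  obtain ⟨-, hdec, hirr⟩ := hXi
  haveI := hirr
  haveI : T0Space (Points X.obj) :=
    Groth.Agent.Lib.AlgSpT0_helper6.t0Space_points_of_isDecent X.property hdec
  rw [← Groth.Agent.Lib.DecentGenericH7.main10394 X hdec x', irreducibleComponents_eq_singleton]
  constructor
  · rintro ⟨T, hT, hx'⟩
    rw [Set.mem_singleton_iff] at hT
    subst hT
    exact hx'.eq hx
  · rintro rfl
    exact ⟨Set.univ, rfl, hx⟩

/-- Codimension zero is insensitive to étale morphisms. -/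
theorem d0_iff_of_etale {F G : Sp S} (hF : IsAlgSpace F) (e : F ⟶ G) (he : RepWith @Etale e)
    (p : Points F) : HasAt D0 F p ↔ HasAt D0 G (Points.map e p) := by
  constructor
  · rintro ⟨U, c, u, hce, rfl, h⟩
    exact ⟨U, c ≫ e, u, repWith_comp _ hce he, (Points.map_ofPt c e u).symm, h⟩
  · rintro ⟨V, d, v, hde, hv, hdim⟩
    obtain ⟨U, c, hce, hcs⟩ := hF.atlas
    obtain ⟨u, rfl⟩ := ofPt_surjective c hcs p
    refine ⟨U, c, u, hce, rfl, ?_⟩
    show ringKrullDim ↥(U.left.presheaf.stalk u) = 0
    rw [ResTrdegH8.stalkDim_chart_indep (c ≫ e) d (repWith_comp _ hce he) hde u v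
      ((Points.map_ofPt c e u).symm.trans hv.symm)]
    exact hdim

theorem isOpenEmbedding_ofPt_of_openImmersion {F : Sp S} {U : Over S} (a : (yon S).obj U ⟶ F)
    (ha : RepWith @IsOpenImmersion a) : Topology.IsOpenEmbedding (Points.ofPt a) := by
  have hae : RepWith @Etale a :=
    repWith_mono (fun _ _ g hg => by
      haveI : IsOpenImmersion g := hg
      exact (inferInstance : Etale g)) ha
  haveI : Mono a := mono_of_openImmersion _ ha
  have hinj : Function.Injective (Points.ofPt a) := by
    intro u₁ u₂ h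
    rw [Points.ofPt_eq_map_ofScheme, Points.ofPt_eq_map_ofScheme] at h
    exact ofScheme_injective U (map_injective_of_mono a h)
  exact Topology.IsOpenEmbedding.of_continuous_injective_isOpenMap (Points.continuous_ofPt a) hinj
    (isOpenMap_ofPt_of_etale a hae)

/-- If `f⁻¹(V) ⟶ V` is finite for a nonempty open subscheme `V`, the generic point is the only
point over the generic point. -/
theorem unique_of_finite {X Y : Space S} (hYi : IsIntegralSp Y.obj) (f : X ⟶ Y)
    (hd : IsDominantMor f.hom) (x : Points X.obj)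
    (hx : IsGenericPoint x (Set.univ : Set (Points X.obj))) (y : Points Y.obj)
    (hy : IsGenericPoint y (Set.univ : Set (Points Y.obj)))
    {V U : Over S} (b : (yon S).obj V ⟶ Y.obj) (g : U ⟶ V) (a : (yon S).obj U ⟶ X.obj)
    (hVne : Nonempty ↥V.left) (hb : RepWith @IsOpenImmersion b)
    (sq : IsPullback a ((yon S).map g) f.hom b) (hg : IsFinite g.left) :
    ∀ x' : Points X.obj, Points.map f.hom x' = y → x' = x := by
  intro x' hx'
  have hfx := map_generic hYi.2.1 f hd x hx y hy
  have hembb := isOpenEmbedding_ofPt_of_openImmersion b hb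
  have hyb : y ∈ Set.range (Points.ofPt b) := by
    rw [hy.mem_open_set_iff hembb.isOpen_range, Set.univ_inter]
    obtain ⟨v⟩ := hVne
    exact ⟨_, v, rfl⟩
  obtain ⟨v, hv⟩ := hyb
  obtain ⟨u', hu'1, hu'2⟩ := Groth.Agent.Lib.AlgSpEmbed_helper6.exists_of_isPullback_chart sq x' v
    (by rw [hx', hv])
  obtain ⟨u, hu1, hu2⟩ := Groth.Agent.Lib.AlgSpEmbed_helper6.exists_of_isPullback_chart sq x v
    (by rw [hfx, hv])
  have ha : RepWith @IsOpenImmersion a :=
    MorphismProperty.of_isPullback (P := RepWith @IsOpenImmersion) sq.flip hb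
  have hemba := isOpenEmbedding_ofPt_of_openImmersion a ha
  have hspec : u ⤳ u' := by
    rw [← hemba.isInducing.specializes_iff, hu1, hu'1]
    exact hx.specializes (Set.mem_univ _)
  haveI := hg
  have huu : u = u' :=
    (g.left.isDiscrete_preimage_singleton v).eq_of_specializes hspec hu2 hu'2
  rw [← hu'1, ← hu1, huu]

/-- An affine open subscheme inside an open subspace of a decent irreducible space. -/
theorem exists_affine_open_in {Y V₀ : Space S} (hYdec : IsDecent Y.obj)
    (hirr : IrreducibleSpace (Points Y.obj)) (j : V₀ ⟶ Y)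
    (hj : RepWith @IsOpenImmersion j.hom) (hdense : Dense (Set.range (Points.map j.hom))) :
    ∃ (V : Over S) (b' : (yon S).obj V ⟶ V₀.obj), IsAffine V.left ∧ Nonempty ↥V.left ∧
      RepWith @IsOpenImmersion b' := by
  haveI := hirr
  have hIC : (irreducibleComponents (Points Y.obj)).Finite := by
    rw [irreducibleComponents_eq_singleton]
    exact Set.finite_singleton _
  obtain ⟨Y', jY, hjY, hdenseY, -, -⟩ := (main10397 Y).1 ⟨hYdec, hIC⟩
  have hembY := isOpenEmbedding_ofPt_of_openImmersion jY hjY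
  have hneY : (Set.range (Points.ofPt jY)).Nonempty := hdenseY.nonempty
  obtain ⟨_, ⟨y', rfl⟩, ⟨v₀, hv₀⟩⟩ := hdense.inter_open_nonempty _ hembY.isOpen_range hneY
  obtain ⟨W, ιW, k, sqW, hιW⟩ : ∃ (W : Over S) (ιW : W ⟶ Y') (k : (yon S).obj W ⟶ V₀.obj),
      IsPullback k ((yon S).map ιW) j.hom jY ∧ IsOpenImmersion ιW.left :=
    ⟨_, hj.rep.snd jY, hj.rep.fst jY, hj.rep.isPullback jY, hj.property_snd jY⟩
  have hk : RepWith @IsOpenImmersion k :=
    MorphismProperty.of_isPullback (P := RepWith @IsOpenImmersion) sqW.flip hjY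
  obtain ⟨w, -, -⟩ := Groth.Agent.Lib.AlgSpEmbed_helper6.exists_of_isPullback_chart sqW v₀ y' hv₀
  obtain ⟨V₁, hV₁aff, hwV₁, -⟩ := exists_isAffineOpen_mem_and_subset (x := w) (U := ⊤) trivial
  let V : Over S := Over.mk (V₁.ι ≫ W.hom)
  let ιV : V ⟶ W := Over.homMk V₁.ι rfl
  have hιVo : RepWith @IsOpenImmersion ((yon S).map ιV) :=
    (repWith_yon_map_iff @IsOpenImmersion ιV).2 (inferInstance : IsOpenImmersion V₁.ι)
  exact ⟨V, (yon S).map ιV ≫ k, hV₁aff, ⟨(⟨w, hwV₁⟩ : V₁)⟩, repWith_comp _ hιVo hk⟩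

theorem finite_of_unique {X Y : Space S} (hXi : IsIntegralSp X.obj) (hYi : IsIntegralSp Y.obj)
    (f : X ⟶ Y) (hft : LocP @LocallyOfFiniteType f.hom) (hd : IsDominantMor f.hom)
    (x : Points X.obj) (hx : IsGenericPoint x (Set.univ : Set (Points X.obj)))
    (y : Points Y.obj) (hy : IsGenericPoint y (Set.univ : Set (Points Y.obj)))
    (hqs : IsQuasiCompactMor f.hom ∨ IsSeparatedMor f.hom)
    (hu : ∀ x' : Points X.obj, Points.map f.hom x' = y → x' = x) :
    ∃ (V : Over S) (b : (yon S).obj V ⟶ Y.obj) (U : Over S) (g : U ⟶ V)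
      (a : (yon S).obj U ⟶ X.obj), IsAffine V.left ∧ Nonempty ↥V.left ∧
        RepWith @IsOpenImmersion b ∧ IsPullback a ((yon S).map g) f.hom b ∧ IsAffine U.left ∧
          IsFinite g.left := by
  classical
  have hYdec : IsDecent Y.obj := hYi.2.1
  have hfx := map_generic hYdec f hd x hx y hy
  have hX0 : {x' : Points X.obj | HasAt D0 X.obj x'}.Finite := by
    have : {x' : Points X.obj | HasAt D0 X.obj x'} = {x} := by
      ext x'
      exact d0_iff_eq_generic hXi x hx x'
    rw [this]
    exact Set.finite_singleton x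
  have hY0 : {y' : Points Y.obj | HasAt D0 Y.obj y'}.Finite := by
    have : {y' : Points Y.obj | HasAt D0 Y.obj y'} = {y} := by
      ext y'
      exact d0_iff_eq_generic hYi y hy y'
    rw [this]
    exact Set.finite_singleton y
  have hpre : ∀ x' : Points X.obj,
      HasAt D0 X.obj x' ↔ HasAt D0 Y.obj (Points.map f.hom x') := by
    intro x'
    rw [d0_iff_eq_generic hXi x hx, d0_iff_eq_generic hYi y hy]
    exact ⟨fun h => by rw [h]; exact hfx, hu x'⟩
  obtain ⟨V₀, X', j, fst, snd, hj, hdense, sq, hfin⟩ :=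
    main10400 f hft hYdec hX0 hY0 hpre hqs
  obtain ⟨V, b', hVaff, hVne, hb'⟩ := exists_affine_open_in hYdec hYi.2.2 j hj hdense
  obtain ⟨U, g, a', sqU, hUaff, hgfin⟩ := hfin hVaff b'
  exact ⟨V, b' ≫ j.hom, U, g, a' ≫ snd.hom, hVaff, hVne, repWith_comp _ hb' hj,
    sqU.paste_horiz sq.flip, hUaff, hgfin⟩

end Groth.Agent.Lib.AlgSpIntegralFinH6
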