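import Mathlib
import Groth.Agent.Lib.AlgSpIntegralFin_helper6

/-!
# Generically finite dominant morphisms of integral algebraic spaces, II (helper6)
-/

set_option autoImplicit false
universe u
open CategoryTheory CategoryTheory.Limits AlgebraicGeometry Opposite TopologicalSpace

namespace Groth.Agent.Lib.AlgSpIntegralFin2H6

open AlgSp Groth.Agent.Lib.AlgSpPoints_helper7 Groth.Agent.Lib.AlgSpOpenSub_helper7
  Groth.Agent.Lib.AlgSpPullback_helper7 Groth.Agent.Lib.AlgSpBasic_helper7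
  Groth.Agent.Lib.AlgSpGenFin7H6 Groth.Agent.Lib.AlgSpGenFin8H6 Groth.Agent.Lib.DecentIrredH7
  Groth.Agent.Lib.AlgSpQfLocusH7 Groth.Agent.Lib.UnramLocH7 Groth.Agent.Lib.AlgSpEtale_helper7
  Groth.Agent.Lib.AlgSpLocP_helper7 Groth.Agent.Lib.AlgSpIntegralFinH6

variable {S : Scheme.{u}}

theorem etale_of_openImmersion {F G : Sp S} {a : F ⟶ G} (ha : RepWith @IsOpenImmersion a) :
    RepWith @Etale a :=
  repWith_mono (fun _ _ g hg => by
    haveI : IsOpenImmersion g := hg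
    exact (inferInstance : Etale g)) ha

/-- (3) ⇒ (5). -/
theorem unique_of_finite_opens {X Y : Space S} (hXi : IsIntegralSp X.obj)
    (hYi : IsIntegralSp Y.obj) (f : X ⟶ Y) (hft : LocP @LocallyOfFiniteType f.hom)
    (x : Points X.obj) (hx : IsGenericPoint x (Set.univ : Set (Points X.obj)))
    (y : Points Y.obj) (hy : IsGenericPoint y (Set.univ : Set (Points Y.obj)))
    {U V : Over S} (a : (yon S).obj U ⟶ X.obj) (b : (yon S).obj V ⟶ Y.obj) (g : U ⟶ V)
    (hUne : Nonempty ↥U.left) (ha : RepWith @IsOpenImmersion a)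
    (hb : RepWith @IsOpenImmersion b) (comm : a ≫ f.hom = (yon S).map g ≫ b)
    (hg : IsFinite g.left) : ∀ x' : Points X.obj, Points.map f.hom x' = y → x' = x := by
  intro x' hx'
  have hemba := isOpenEmbedding_ofPt_of_openImmersion a ha
  have hxa : x ∈ Set.range (Points.ofPt a) := by
    rw [hx.mem_open_set_iff hemba.isOpen_range, Set.univ_inter]
    obtain ⟨u⟩ := hUne
    exact ⟨_, u, rfl⟩
  obtain ⟨u, hu⟩ := hxa
  haveI := hg
  have hqx : HasAtMor QQ f.hom x :=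
    ⟨U, V, a, b, g, u, etale_of_openImmersion ha, etale_of_openImmersion hb, comm, hu, ⊤, trivial,
      inferInstance, inferInstance⟩
  have hy0 : HasAt D0 Y.obj y := (d0_iff_eq_generic hYi y hy y).2 rfl
  have h1 := (Groth.Agent.S10399.result f hft y hy0).2
    (fun x₁ _ hx₁ => by
      rw [(d0_iff_eq_generic hXi x hx x₁).1 hx₁]
      exact hqx) x' hx'
  exact (d0_iff_eq_generic hXi x hx x').1 h1

/-- (5) ⇒ (3). -/
theorem finite_opens_of_unique {X Y : Space S} (hXi : IsIntegralSp X.obj)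
    (hYi : IsIntegralSp Y.obj) (f : X ⟶ Y) (hft : LocP @LocallyOfFiniteType f.hom)
    (hd : IsDominantMor f.hom)
    (x : Points X.obj) (hx : IsGenericPoint x (Set.univ : Set (Points X.obj)))
    (y : Points Y.obj) (hy : IsGenericPoint y (Set.univ : Set (Points Y.obj)))
    (hu : ∀ x' : Points X.obj, Points.map f.hom x' = y → x' = x) :
    ∃ (U V : Over S) (a : (yon S).obj U ⟶ X.obj) (b : (yon S).obj V ⟶ Y.obj) (g : U ⟶ V),
      IsAffine U.left ∧ IsAffine V.left ∧ Nonempty ↥U.left ∧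
        RepWith @IsOpenImmersion a ∧ RepWith @IsOpenImmersion b ∧
          a ≫ f.hom = (yon S).map g ≫ b ∧ IsFinite g.left := by
  classical
  have hXdec : IsDecent X.obj := hXi.2.1
  have hYdec : IsDecent Y.obj := hYi.2.1
  haveI hXirr : IrreducibleSpace (Points X.obj) := hXi.2.2
  haveI hYirr : IrreducibleSpace (Points Y.obj) := hYi.2.2
  have hfx := map_generic hYdec f hd x hx y hy
  have hICX : (irreducibleComponents (Points X.obj)).Finite := by
    rw [irreducibleComponents_eq_singleton]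
    exact Set.finite_singleton _
  have hICY : (irreducibleComponents (Points Y.obj)).Finite := by
    rw [irreducibleComponents_eq_singleton]
    exact Set.finite_singleton _
  obtain ⟨X', jX, hjX, hdenseX, -, -⟩ := (main10397 X).1 ⟨hXdec, hICX⟩
  obtain ⟨Y', jY, hjY, hdenseY, -, -⟩ := (main10397 Y).1 ⟨hYdec, hICY⟩
  have hembX := isOpenEmbedding_ofPt_of_openImmersion jX hjX
  have hembY := isOpenEmbedding_ofPt_of_openImmersion jY hjY
  have hyY : y ∈ Set.range (Points.ofPt jY) := by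
    rw [hy.mem_open_set_iff hembY.isOpen_range, Set.univ_inter]
    exact hdenseY.nonempty
  obtain ⟨y', hy'⟩ := hyY
  have hxX : x ∈ Set.range (Points.ofPt jX) := by
    rw [hx.mem_open_set_iff hembX.isOpen_range, Set.univ_inter]
    exact hdenseX.nonempty
  obtain ⟨x'', hx''⟩ := hxX
  -- an affine open around `y'`
  obtain ⟨V₁o, hV₁aff, hy'V₁, -⟩ :=
    exists_isAffineOpen_mem_and_subset (x := y') (U := ⊤) trivial
  let V₁ : Over S := Over.mk (V₁o.ι ≫ Y'.hom)
  let ιV₁ : V₁ ⟶ Y' := Over.homMk V₁o.ι rfl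
  haveI hV₁aff' : IsAffine V₁.left := hV₁aff
  let v₁ : ↥V₁.left := (⟨y', hy'V₁⟩ : V₁o)
  let b₁ : (yon S).obj V₁ ⟶ Y.obj := (yon S).map ιV₁ ≫ jY
  have hb₁ : RepWith @IsOpenImmersion b₁ :=
    repWith_comp _ ((repWith_yon_map_iff @IsOpenImmersion ιV₁).2
      (inferInstance : IsOpenImmersion V₁o.ι)) hjY
  have hb₁e : RepWith @Etale b₁ := etale_of_openImmersion hb₁
  have hembb₁ := isOpenEmbedding_ofPt_of_openImmersion b₁ hb₁
  have hb₁v₁ : Points.ofPt b₁ v₁ = y := by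
    show Points.ofPt ((yon S).map ιV₁ ≫ jY) v₁ = y
    rw [ofPt_comp]
    exact hy'
  -- the preimage of `V₁` in `X'`
  obtain ⟨X₂, ιX₂, h₂, sqX₂, hιX₂⟩ : ∃ (X₂ : Over S) (ιX₂ : X₂ ⟶ X')
      (h₂ : (yon S).obj X₂ ⟶ (yon S).obj V₁),
      IsPullback h₂ ((yon S).map ιX₂) b₁ (jX ≫ f.hom) ∧ IsOpenImmersion ιX₂.left :=
    ⟨_, hb₁.rep.snd _, hb₁.rep.fst _, hb₁.rep.isPullback _, hb₁.property_snd _⟩
  haveI := hιX₂
  obtain ⟨x₂, -, hx₂⟩ := Groth.Agent.Lib.AlgSpEmbed_helper6.exists_of_isPullback_chart sqX₂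
    (Points.ofScheme V₁ v₁) x'' (by
      rw [← Points.ofPt_eq_map_ofScheme, hb₁v₁, ← Points.map_ofPt, hx'', hfx])
  obtain ⟨U₁o, hU₁aff, hx₂U₁, -⟩ :=
    exists_isAffineOpen_mem_and_subset (x := x₂) (U := ⊤) trivial
  let U₁ : Over S := Over.mk (U₁o.ι ≫ X₂.hom)
  let ιU₁ : U₁ ⟶ X₂ := Over.homMk U₁o.ι rfl
  haveI hU₁aff' : IsAffine U₁.left := hU₁aff
  let u₁ : ↥U₁.left := (⟨x₂, hx₂U₁⟩ : U₁o)
  let a₁ : (yon S).obj U₁ ⟶ X.obj := (yon S).map (ιU₁ ≫ ιX₂) ≫ jX
  have ha₁ : RepWith @IsOpenImmersion a₁ :=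
    repWith_comp _ ((repWith_yon_map_iff @IsOpenImmersion (ιU₁ ≫ ιX₂)).2
      (inferInstance : IsOpenImmersion (U₁o.ι ≫ ιX₂.left))) hjX
  have ha₁e : RepWith @Etale a₁ := etale_of_openImmersion ha₁
  have ha₁u₁ : Points.ofPt a₁ u₁ = x := by
    show Points.ofPt ((yon S).map (ιU₁ ≫ ιX₂) ≫ jX) u₁ = x
    rw [ofPt_comp]
    show Points.ofPt jX (ιX₂.left x₂) = x
    rw [hx₂, hx'']
  obtain ⟨f₁, hf₁⟩ := (yon S).map_surjective ((yon S).map ιU₁ ≫ h₂)
  have comm₁ : a₁ ≫ f.hom = (yon S).map f₁ ≫ b₁ := by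
    show ((yon S).map (ιU₁ ≫ ιX₂) ≫ jX) ≫ f.hom = _
    rw [hf₁, Category.assoc ((yon S).map ιU₁) h₂ b₁, sqX₂.w]
    simp only [Functor.map_comp, Category.assoc]
  haveI hf₁lft : LocallyOfFiniteType f₁.left := hft a₁ b₁ f₁ ha₁e hb₁e comm₁
  have hf₁u₁ : f₁.left u₁ = v₁ := by
    apply hembb₁.injective
    rw [hb₁v₁, ← ofPt_comp, ← comm₁, ← Points.map_ofPt, ha₁u₁, hfx]
  -- the morphism of spaces
  let XU : Space S := ⟨(yon S).obj U₁, IsAlgSpace.yon_obj U₁⟩
  let YV : Space S := ⟨(yon S).obj V₁, IsAlgSpace.yon_obj V₁⟩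
  let F₁ : XU ⟶ YV := ObjectProperty.homMk ((yon S).map f₁)
  have hF₁lft : LocP @LocallyOfFiniteType F₁.hom :=
    locP_of_repWith @LocallyOfFiniteType
      (fun _ _ g hg => by
        haveI : Etale g := hg
        exact (inferInstance : LocallyOfFiniteType g)) _
      ((repWith_yon_map_iff @LocallyOfFiniteType f₁).2 hf₁lft)
  haveI : IsAffineHom f₁.left := inferInstance
  have hF₁sep : IsSeparatedMor F₁.hom :=
    (isSeparatedMor_yon_map_iff f₁).2 (inferInstance : IsSeparated f₁.left)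
  have hdecV : IsDecent YV.obj := Groth.Agent.Lib.AlgSpDecent5_helper6.isDecent_yon V₁
  haveI : Mono a₁ := mono_of_openImmersion _ ha₁
  haveI : Mono b₁ := mono_of_openImmersion _ hb₁
  have hX0 : {p : Points XU.obj | HasAt D0 XU.obj p}.Finite := by
    have hinj : Function.Injective (Points.map a₁) := map_injective_of_mono a₁
    refine ((Set.finite_singleton x).preimage hinj.injOn).subset ?_
    intro p hp
    exact (d0_iff_eq_generic hXi x hx _).1 ((d0_iff_of_etale XU.property a₁ ha₁e p).1 hp)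
  have hY0 : {p : Points YV.obj | HasAt D0 YV.obj p}.Finite := by
    have hinj : Function.Injective (Points.map b₁) := map_injective_of_mono b₁
    refine ((Set.finite_singleton y).preimage hinj.injOn).subset ?_
    intro p hp
    exact (d0_iff_eq_generic hYi y hy _).1 ((d0_iff_of_etale YV.property b₁ hb₁e p).1 hp)
  have hpre : ∀ p : Points XU.obj,
      HasAt D0 XU.obj p ↔ HasAt D0 YV.obj (Points.map F₁.hom p) := by
    intro p
    rw [d0_iff_of_etale XU.property a₁ ha₁e p,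
      d0_iff_of_etale YV.property b₁ hb₁e (Points.map F₁.hom p),
      d0_iff_eq_generic hXi x hx, d0_iff_eq_generic hYi y hy]
    have hcomm : Points.map b₁ (Points.map F₁.hom p) = Points.map f.hom (Points.map a₁ p) := by
      rw [← Points.map_comp, ← Points.map_comp]
      show Points.map ((yon S).map f₁ ≫ b₁) p = _
      rw [← comm₁]
    rw [hcomm]
    exact ⟨fun h => by rw [h]; exact hfx, hu _⟩
  obtain ⟨V₀, X₀, j, fst, snd, hj, hdense, sq, hfin⟩ :=
    main10400 F₁ hF₁lft hdecV hX0 hY0 hpre (Or.inr hF₁sep)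
  -- the open `V₀` as an open subscheme of `V₁`
  obtain ⟨W, ιW, k, sqW, hιW⟩ : ∃ (W : Over S) (ιW : W ⟶ V₁) (k : (yon S).obj W ⟶ V₀.obj),
      IsPullback k ((yon S).map ιW) j.hom (𝟙 ((yon S).obj V₁)) ∧ IsOpenImmersion ιW.left :=
    ⟨_, hj.rep.snd _, hj.rep.fst _, hj.rep.isPullback _, hj.property_snd _⟩
  haveI := hιW
  have hk : RepWith @IsOpenImmersion k :=
    MorphismProperty.of_isPullback (P := RepWith @IsOpenImmersion) sqW.flip
      (repWith_id @IsOpenImmersion V₁)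
  -- the generic point of `V₁` lies in `W`
  have hgen : ∀ v : ↥V₁.left, v₁ ⤳ v := by
    intro v
    rw [← hembb₁.isInducing.specializes_iff, hb₁v₁]
    exact hy.specializes (Set.mem_univ _)
  have hWne : Nonempty ↥W.left := by
    haveI : Nonempty (Points YV.obj) := ⟨Points.ofScheme V₁ v₁⟩
    obtain ⟨_, p, rfl⟩ := hdense.nonempty
    obtain ⟨v, hv⟩ := ofScheme_surjective V₁ (Points.map j.hom p)
    obtain ⟨w, -, -⟩ := Groth.Agent.Lib.AlgSpEmbed_helper6.exists_of_isPullback_chart sqW p v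
      (by rw [Groth.Agent.Lib.AlgSpGenFin5H6.ofPt_id, hv])
    exact ⟨w⟩
  obtain ⟨w₀⟩ := hWne
  have hv₁W : v₁ ∈ Set.range ιW.left := by
    have hop : IsOpen (Set.range ιW.left) := ιW.left.isOpenEmbedding.isOpen_range
    exact (hgen (ιW.left w₀)).mem_open hop ⟨w₀, rfl⟩
  obtain ⟨w₁, hw₁⟩ := hv₁W
  obtain ⟨Vo, hVaff, hw₁V, -⟩ := exists_isAffineOpen_mem_and_subset (x := w₁) (U := ⊤) trivial
  let V : Over S := Over.mk (Vo.ι ≫ W.hom)
  let ιV : V ⟶ W := Over.homMk Vo.ι rfl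
  let wV : ↥V.left := (⟨w₁, hw₁V⟩ : Vo)
  have hιVo : RepWith @IsOpenImmersion ((yon S).map ιV) :=
    (repWith_yon_map_iff @IsOpenImmersion ιV).2 (inferInstance : IsOpenImmersion Vo.ι)
  let b' : (yon S).obj V ⟶ V₀.obj := (yon S).map ιV ≫ k
  have hb' : RepWith @IsOpenImmersion b' := repWith_comp _ hιVo hk
  have hVaff' : IsAffine V.left := hVaff
  obtain ⟨U, g, a', sqU, hUaff, hgfin⟩ := hfin hVaff' b'
  have ha' : RepWith @IsOpenImmersion a' :=
    MorphismProperty.of_isPullback (P := RepWith @IsOpenImmersion) sqU.flip hb'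
  have hsnd : RepWith @IsOpenImmersion snd.hom :=
    MorphismProperty.of_isPullback (P := RepWith @IsOpenImmersion) sq hj
  -- a point of `U`
  have hUne : Nonempty ↥U.left := by
    have hkw : Points.map j.hom (Points.ofPt k w₁) =
        Points.map F₁.hom (Points.ofScheme U₁ u₁) := by
      rw [Points.map_ofPt, sqW.w, Category.comp_id, ofPt_yon_map, hw₁,
        ← Points.ofPt_eq_map_ofScheme]
      show _ = Points.ofPt ((yon S).map f₁) u₁
      rw [ofPt_yon_map, hf₁u₁]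
    obtain ⟨p₀, hp₀, -⟩ := exists_of_isPullback sq (Points.ofPt k w₁) (Points.ofScheme U₁ u₁) hkw
    obtain ⟨u, -, -⟩ := Groth.Agent.Lib.AlgSpEmbed_helper6.exists_of_isPullback_chart sqU p₀ wV (by
      rw [hp₀]
      show _ = Points.ofPt ((yon S).map ιV ≫ k) wV
      rw [ofPt_comp]
      rfl)
    exact ⟨u⟩
  refine ⟨U, V, a' ≫ snd.hom ≫ a₁, b' ≫ j.hom ≫ b₁, g, hUaff, hVaff', hUne,
    repWith_comp _ ha' (repWith_comp _ hsnd ha₁), repWith_comp _ hb' (repWith_comp _ hj hb₁), ?_,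
    hgfin⟩
  have e1 : snd.hom ≫ (yon S).map f₁ = fst.hom ≫ j.hom := sq.w.symm
  rw [Category.assoc, Category.assoc, comm₁, ← Category.assoc snd.hom, e1, Category.assoc,
    ← Category.assoc a', sqU.w, Category.assoc]

end Groth.Agent.Lib.AlgSpIntegralFin2H6
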