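import Groth.Agent.Lib.AlgSpAffine_helper7
import Mathlib.AlgebraicGeometry.Noetherian
import Mathlib.AlgebraicGeometry.Morphisms.LocalFlatDescent
import Mathlib.RingTheory.RingHom.Flat
import Mathlib.RingTheory.RingHom.FaithfullyFlat

/-!
# `LocP`: cancellation, descent along charts of the target, comparison with `RepWith` (helper7)
-/

set_option autoImplicit false
universe u
open CategoryTheory CategoryTheory.Limits AlgebraicGeometry Opposite MorphismProperty

namespace Groth.Agent.Lib.AlgSpLocP2_helper7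

open AlgSp Groth.Agent.Lib.AlgSpQC2_helper7 Groth.Agent.Lib.AlgSpPoints_helper7
  Groth.Agent.Lib.AlgSpQC_helper7 Groth.Agent.Lib.AlgSpDiag_helper7 Groth.Agent.Lib.AlgSpTop_helper7
  Groth.Agent.Lib.AlgSpPullback_helper7 Groth.Agent.Lib.AlgSpSep_helper7
  Groth.Agent.Lib.AlgSpLocP_helper7 Groth.Agent.Lib.AlgSpUniv_helper7
  Groth.Agent.Lib.AlgSpProper_helper7 Groth.Agent.Lib.AlgSpFpqc_helper7
  Groth.Agent.Lib.AlgSpDescent_helper7 Groth.Agent.Lib.AlgSpEtale_helper7

variable {S : Scheme.{u}}

lemma ringHom_flat_codescendsAlong_faithfullyFlat :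
    RingHom.CodescendsAlong RingHom.Flat RingHom.FaithfullyFlat := by
  refine .mk _ RingHom.Flat.respectsIso fun R S T _ _ _ _ _ h h' ↦ ?_
  rw [RingHom.flat_algebraMap_iff] at h' ⊢
  rw [RingHom.faithfullyFlat_algebraMap_iff] at h
  exact Module.Flat.of_flat_tensorProduct R T S

theorem flat_descendsAlong : DescendsAlong @Flat (@Surjective ⊓ @Flat ⊓ @QuasiCompact) :=
  HasRingHomProperty.descendsAlong_flat ringHom_flat_codescendsAlong_faithfullyFlat

theorem descendsEtale_flat : DescendsEtale @Flat := by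
  have := flat_descendsAlong
  exact descendsEtale_of_descendsAlong _

open Filter Topology in
lemma isDiscrete_of_preimage_of_isOpenMap {X Y : Type*} [TopologicalSpace X] [TopologicalSpace Y]
    {g : X → Y} (hg : IsOpenMap g) (hs : Function.Surjective g) {s : Set Y}
    (h : IsDiscrete (g ⁻¹' s)) : IsDiscrete s := by
  refine .of_nhdsWithin ?_
  intro x hx
  obtain ⟨x', rfl⟩ := hs x
  have h1 := h.nhdsWithin x' hx
  calc 𝓝[s] (g x') = 𝓝 (g x') ⊓ 𝓟 s := rfl
    _ ≤ map g (𝓝 x') ⊓ 𝓟 s := inf_le_inf_right _ (hg.nhds_le x')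
    _ = map g (𝓝 x' ⊓ comap g (𝓟 s)) := (Filter.push_pull _ _ _).symm
    _ = map g (𝓝[g ⁻¹' s] x') := by rw [comap_principal]; rfl
    _ = pure (g x') := by rw [h1, Filter.map_pure]

theorem descendsEtale_locallyQuasiFinite :
    DescendsEtale (@LocallyQuasiFinite ⊓ @LocallyOfFiniteType) := by
  intro X Y Y' X' f π fst f' sq hπ hπs ⟨h1, h2⟩
  have hlft : LocallyOfFiniteType f := descendsEtale_of_descendsAlong _ sq hπ hπs h2
  refine ⟨?_, hlft⟩
  rw [locallyQuasiFinite_iff_isDiscrete_preimage_singleton]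
  intro y
  have hfe : Etale fst := MorphismProperty.of_isPullback sq.flip hπ
  have hfs : Surjective fst := MorphismProperty.of_isPullback sq.flip hπs
  have : LocallyQuasiFinite f' := h1
  have : LocallyQuasiFinite π := locallyQuasiFinite_of_unramified π
  apply isDiscrete_of_preimage_of_isOpenMap fst.isOpenMap fst.surjective
  have e : fst ⁻¹' (f ⁻¹' {y}) = f' ⁻¹' (π ⁻¹' {y}) := by
    ext x
    simp only [Set.mem_preimage, Set.mem_singleton_iff]
    rw [← Scheme.Hom.comp_apply, ← Scheme.Hom.comp_apply, sq.w]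
  rw [e]
  exact f'.isDiscrete_preimage (π.isDiscrete_preimage_singleton y)

/-- Cancellation for `LocP P`, with a side condition `Q` on the second morphism. -/
theorem locP_of_comp' (P Q : MorphismProperty Scheme.{u}) [P.IsStableUnderBaseChange]
    (hP : DescendsEtale P)
    (hc : ∀ ⦃A B C : Scheme.{u}⦄ (f : A ⟶ B) (g : B ⟶ C), P (f ≫ g) → Q g → P f)
    {X Y Z : Sp S} (hZ : IsAlgSpace Z) (f : X ⟶ Y) (g : Y ⟶ Z) (h : LocP P (f ≫ g))
    (hg : LocP Q g) : LocP P f := by
  intro U V a b k hae hbe comm
  obtain ⟨W, c, hce, hcs⟩ := hZ.atlas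
  let V' := hce.rep.pullback (b ≫ g)
  let π : V' ⟶ V := hce.rep.snd (b ≫ g)
  let w : V' ⟶ W := hce.rep.fst' (b ≫ g)
  have sqV : IsPullback ((yon S).map w) ((yon S).map π) c (b ≫ g) := hce.rep.isPullback' _
  have hπe : Etale π.left := hce.property_snd _
  have hπs : Surjective π.left := hcs.property _ _ _ (hce.rep.isPullback _)
  have sqU := IsPullback.of_hasPullback k π
  have sqU' : IsPullback (pullback.fst k π).left (pullback.snd k π).left k.left π.left :=
    sqU.map (Over.forget S)
  have hπ'e : Etale (pullback.fst k π).left := MorphismProperty.of_isPullback sqU'.flip hπe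
  have ha' : RepWith @Etale ((yon S).map (pullback.fst k π) ≫ a) :=
    repWith_comp _ ((repWith_yon_map_iff _ _).2 hπ'e) hae
  have hb' : RepWith @Etale ((yon S).map π ≫ b) :=
    repWith_comp _ ((repWith_yon_map_iff _ _).2 hπe) hbe
  have hcomm : ((yon S).map (pullback.fst k π) ≫ a) ≫ f ≫ g =
      (yon S).map (pullback.snd k π ≫ w) ≫ c := by
    rw [Category.assoc, ← Category.assoc a, comm, Functor.map_comp, Category.assoc,
      Category.assoc, sqV.w, ← Category.assoc, ← Category.assoc, ← Functor.map_comp,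
      sqU.w, Functor.map_comp, Category.assoc, Category.assoc]
  have h1 : P (pullback.snd k π ≫ w).left := h _ _ _ ha' hce hcomm
  have hw : Q w.left := hg _ _ _ hb' hce (by rw [Category.assoc]; exact sqV.w.symm)
  have h2 : P (pullback.snd k π).left := hc _ w.left (by rwa [Over.comp_left] at h1) hw
  exact hP sqU' hπe hπs h2

/-- `LocP P` descends along a surjective étale chart of the target. -/
theorem locP_of_chart (P : MorphismProperty Scheme.{u}) [P.IsStableUnderBaseChange]
    (hP : DescendsEtale P) {X Y : Sp S} (f : X ⟶ Y) {V : Over S}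
    (p : (yon S).obj V ⟶ Y) (hpe : RepWith @Etale p) (hps : RepWith @Surjective p) {Q : Sp S}
    (fst : Q ⟶ X) (snd : Q ⟶ (yon S).obj V) (sq : IsPullback fst snd f p) (h : LocP P snd) :
    LocP P f := by
  intro U W a b k hae hbe comm
  let W' := hpe.rep.pullback b
  let π : W' ⟶ W := hpe.rep.snd b
  let v : W' ⟶ V := hpe.rep.fst' b
  have sqW : IsPullback ((yon S).map v) ((yon S).map π) p b := hpe.rep.isPullback' _
  have hπe : Etale π.left := hpe.property_snd _
  have hπs : Surjective π.left := hps.property _ _ _ (hpe.rep.isPullback _)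
  have hve : RepWith @Etale ((yon S).map v) := repWith_fst_of_isPullback _ sqW hbe
  have sqU := IsPullback.of_hasPullback k π
  have sqU' : IsPullback (pullback.fst k π).left (pullback.snd k π).left k.left π.left :=
    sqU.map (Over.forget S)
  have hπ'e : Etale (pullback.fst k π).left := MorphismProperty.of_isPullback sqU'.flip hπe
  have hcomm : ((yon S).map (pullback.fst k π) ≫ a) ≫ f =
      (yon S).map (pullback.snd k π ≫ v) ≫ p := by
    rw [Category.assoc, comm, Functor.map_comp, Category.assoc, sqW.w, ← Category.assoc,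
      ← Category.assoc, ← Functor.map_comp, sqU.w, Functor.map_comp]
  let a' : (yon S).obj (pullback k π) ⟶ Q := sq.lift _ _ hcomm
  have ha'1 : a' ≫ fst = (yon S).map (pullback.fst k π) ≫ a := sq.lift_fst _ _ _
  have ha'2 : a' ≫ snd = (yon S).map (pullback.snd k π ≫ v) := sq.lift_snd _ _ _
  have hfst : RepWith @Etale fst := repWith_fst_of_isPullback _ sq hpe
  have ha' : RepWith @Etale a' := by
    refine repWith_etale_of_comp a' fst ?_ hfst
    rw [ha'1]
    exact repWith_comp _ ((repWith_yon_map_iff _ _).2 hπ'e) hae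
  have h1 : P (pullback.snd k π).left :=
    h a' ((yon S).map v) (pullback.snd k π) ha' hve (by rw [ha'2, Functor.map_comp])
  exact hP sqU' hπe hπs h1

end Groth.Agent.Lib.AlgSpLocP2_helper7
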