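import Mathlib
import Groth.Prelude.Def_RegImm
import Groth.Agent.Lib.KoszulTop_helper7

/-!
# A (Koszul-)regular immersion is Koszul at every point (helper5)
-/

set_option autoImplicit false
universe u

namespace Groth.Agent.RegLCI

open AlgebraicGeometry CategoryTheory

theorem seq_koszul {R : Type u} [CommRing R] (k : RegImm.Kind)
    (hk : k = RegImm.Kind.regular ∨ k = RegImm.Kind.koszul) (rs : List R)
    (h : k.Seq R rs) : RegImm.Kind.Seq .koszul R rs := by
  rcases hk with rfl | rfl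
  · have h' : RingTheory.Sequence.IsRegular R rs := h
    exact (Groth.Agent.Lib.KoszulTopH7.koszulRegular rs h'.toIsWeaklyRegular).1
  · exact h

theorem main9773 {Z X : Scheme.{u}} (i : Z ⟶ X) (k : RegImm.Kind)
    (hk : k = RegImm.Kind.regular ∨ k = RegImm.Kind.koszul) (hi : RegImm.IsRegularImmersion k i)
    (z : Z) : Synt.IsKoszulAt i z := by
  haveI himm : IsImmersion i := hi.1
  haveI hiso : IsIso (⊤ : Z.Opens).ι := (Scheme.topIso Z).isIso_hom
  refine ⟨⊤, X, (⊤ : Z.Opens).ι ≫ i, 𝟙 X, trivial, inferInstance, ⟨inferInstance, ?_⟩,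
    inferInstance, Category.comp_id _⟩
  intro z'
  obtain ⟨W, hzW, hcl, rs, hrs, hker⟩ := hi.2 ((⊤ : Z.Opens).ι z')
  refine ⟨W, hzW, ?_, rs, seq_koszul k hk rs hrs, ?_⟩
  · rw [morphismRestrict_comp]
    haveI := hcl
    haveI h1 : IsIso ((⊤ : Z.Opens).ι ∣_ i ⁻¹ᵁ W.1) := inferInstance
    haveI h2 : IsClosedImmersion ((⊤ : Z.Opens).ι ∣_ i ⁻¹ᵁ W.1) := inferInstance
    exact MorphismProperty.IsStableUnderComposition.comp_mem (P := @IsClosedImmersion) _ _ h2 hcl
  · rw [← hker]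
    have hinj : Function.Injective ((⊤ : Z.Opens).ι.app (i ⁻¹ᵁ W.1)).hom :=
      (ConcreteCategory.bijective_of_isIso ((⊤ : Z.Opens).ι.app (i ⁻¹ᵁ W.1))).1
    exact RingHom.ker_comp_of_injective (i.app W.1).hom hinj

end Groth.Agent.RegLCI
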