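import Mathlib
import Groth.Prelude.Def_Koszul
import Groth.Prelude.Def_LCI2
import Groth.Agent.Lib.KoszulComp_helper2
import Groth.Agent.Lib.KRegIdeal_helper2
import Groth.Agent.Lib.KoszulSplit_helper2

/-!
# Cancellation for Koszul-regular ideals (helper2)

* `kreg_of_append`, `kreg_of_append'`: if `f` and `g ++ f` are Koszul-regular in `A`, the image of `g` is
  Koszul-regular in `A / (f)` (converse of `KoszulComp.kreg_append`).
* `exchange_step`, `exchange`: in a local Koszul-regular generating system of an ideal `K` near a prime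
  `𝔔`, elements of `K` which are linearly independent modulo `𝔔 K` can be exchanged in.
* `kr_of_comap_of_indep`: `ε : R₀ ↠ R₁` with kernel `(F)` Koszul-regular, `ε⁻¹ I` Koszul-regular and `F`
  independent modulo `𝔔 ε⁻¹ I` at all primes `𝔔 ⊇ ε⁻¹ I`: then `I` is Koszul-regular.
-/

set_option autoImplicit false
universe u
open CategoryTheory CategoryTheory.Limits CochainComplex HomComplex

namespace Groth.Agent.Lib.KoszulCancel

open Groth.Agent.Lib.KoszulSwap Groth.Agent.Lib.KoszulComp Groth.Agent.Lib.KRegIdeal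

section converse

variable {A : Type u} [CommRing A]

/-- converse of `kreg_append`. -/
theorem kreg_of_append (f g : List A) (hf : LCI.IsKoszulRegularSeq A f)
    (h : LCI.IsKoszulRegularSeq A (g ++ f)) :
    LCI.IsKoszulRegularSeq (A ⧸ Ideal.ofList f)
      (g.map (Ideal.Quotient.mk (Ideal.ofList f))) := by
  apply Groth.Agent.Lib.KoszulBC.isKoszulRegularSeq_map_of_restrict
    (Ideal.Quotient.mk (Ideal.ofList f)) g
  intro i hi
  set K := Koszul.koszul A f with hK
  have hKeq : K = CohIII.koszulCx (ModuleCat.of A A) f := Groth.Agent.Lib.KoszulTopH7.koszul_eq f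
  haveI : K.IsStrictlyLE 0 := by
    rw [CochainComplex.isStrictlyLE_iff]
    intro n hn
    rw [hKeq]
    exact (Groth.Agent.Lib.KoszulTopH7.topData (ModuleCat.of A A) f).isZero_pos n hn
  haveI : K.IsGE 0 := by
    rw [CochainComplex.isGE_iff]
    intro n hn
    rw [HomologicalComplex.exactAt_iff_isZero_homology]
    exact hf n (ne_of_lt hn)
  obtain ⟨M, ⟨e⟩⟩ := (K.truncGE 0).exists_iso_single 0
  let φ : K ⟶ (HomologicalComplex.single (ModuleCat.{u} A) (ComplexShape.up ℤ) 0).obj M :=
    K.πTruncGE 0 ≫ e.hom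
  haveI : QuasiIso φ := by
    show QuasiIso (K.πTruncGE 0 ≫ e.hom)
    infer_instance
  have eM : Nonempty (M ≅ ModuleCat.of A (A ⧸ Ideal.ofList f)) := by
    have e1 : M ≅ ((HomologicalComplex.single (ModuleCat.{u} A) (ComplexShape.up ℤ) 0).obj M).homology 0 :=
      (HomologicalComplex.singleObjHomologySelfIso (ComplexShape.up ℤ) 0 M).symm
    have e2 : K.homology 0 ≅
        ((HomologicalComplex.single (ModuleCat.{u} A) (ComplexShape.up ℤ) 0).obj M).homology 0 :=
      asIso (HomologicalComplex.homologyMap φ 0)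
    obtain ⟨e3⟩ := Groth.Agent.Lib.KoszulTopH7.top_equiv' A f 0 rfl
    have e3' : K.homology 0 ≅ (CohIII.koszulCx (ModuleCat.of A A) f).homology 0 :=
      (HomologicalComplex.homologyFunctor _ _ 0).mapIso (eqToIso hKeq)
    have h : (Ideal.ofList f • (⊤ : Submodule A A)) = Ideal.ofList f := by
      rw [smul_eq_mul, Ideal.mul_top]
    exact ⟨e1 ≪≫ e2.symm ≪≫ e3' ≪≫ (e3.trans (Submodule.quotEquivOfEq _ _ h)).toModuleIso⟩
  obtain ⟨eM⟩ := eM
  have h1 : IsZero ((iterCone g K).homology i) :=
    Groth.Agent.Lib.KoszulTopH7.isZero_homology_of_eq (koszul_append A g f).symm i (h i hi)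
  haveI := quasiIso_iterMap g φ
  have h2 : IsZero ((iterCone g
      ((HomologicalComplex.single (ModuleCat.{u} A) (ComplexShape.up ℤ) 0).obj M)).homology i) :=
    IsZero.of_iso h1 (asIso (HomologicalComplex.homologyMap (iterMap g φ) i)).symm
  rw [iterCone_single] at h2
  have h3 : IsZero ((CohIII.koszulCx (ModuleCat.of A (A ⧸ Ideal.ofList f)) g).homology i) :=
    IsZero.of_iso h2 ((HomologicalComplex.homologyFunctor _ _ i).mapIso
      (Groth.Agent.Lib.KoszulBC.koszulCxIso eM g)).symm
  exact IsZero.of_iso h3 ((HomologicalComplex.homologyFunctor _ _ i).mapIso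
    (Groth.Agent.Lib.KoszulBC.koszulCxIso (restrictQuotIso (Ideal.ofList f)) g))

theorem kreg_of_append' (f g : List A) (hf : LCI.IsKoszulRegularSeq A f)
    (h : LCI.IsKoszulRegularSeq A (f ++ g)) :
    LCI.IsKoszulRegularSeq (A ⧸ Ideal.ofList f)
      (g.map (Ideal.Quotient.mk (Ideal.ofList f))) := by
  apply kreg_of_append f g hf
  intro i hi
  obtain ⟨e⟩ := koszul_perm A (List.perm_append_comm (l₁ := g) (l₂ := f))
  exact IsZero.of_iso (h i hi) ((HomologicalComplex.homologyFunctor _ _ i).mapIso e)

end converse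

section step

variable {T : Type u} [CommRing T]

lemma ofList_ofFn {c : ℕ} (F : Fin c → T) :
    Ideal.ofList (List.ofFn F) = Ideal.span (Set.range F) := by
  unfold Ideal.ofList
  congr 1
  ext x
  simp [List.mem_ofFn]

/-- one exchange step in a ring. -/
theorem exchange_step (a : T) (P l : List T) (d : Fin l.length → T) (u : T)
    (hu : u ∈ Ideal.ofList P) (ha : u + ∑ j, d j * l.get j = a) (j₀ : Fin l.length)
    (hL : LCI.IsKoszulRegularSeq T (P ++ l))
    (hne : Ideal.ofList ((P ++ l).map (algebraMap T (Localization.Away (d j₀)))) ≠ ⊤) :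
    LCI.IsKoszulRegularSeq (Localization.Away (d j₀))
      ((a :: P).map (algebraMap T (Localization.Away (d j₀))) ++
        (l.map (algebraMap T (Localization.Away (d j₀)))).eraseIdx j₀) ∧
    Ideal.ofList ((a :: P).map (algebraMap T (Localization.Away (d j₀))) ++
        (l.map (algebraMap T (Localization.Away (d j₀)))).eraseIdx j₀) =
      Ideal.ofList ((P ++ l).map (algebraMap T (Localization.Away (d j₀)))) := by
  set ψ : T →+* Localization.Away (d j₀) := algebraMap T (Localization.Away (d j₀)) with hψ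
  have hunit : IsUnit (ψ (d j₀)) := IsLocalization.Away.algebraMap_isUnit (d j₀)
  have hLψ : LCI.IsKoszulRegularSeq (Localization.Away (d j₀)) ((P ++ l).map ψ) :=
    kreg_map_of_isLocalization (Submonoid.powers (d j₀)) (P ++ l) hL
  have hmemL' : ∀ j : Fin l.length, j ≠ j₀ → ψ (l.get j) ∈ (l.map ψ).eraseIdx j₀ := by
    intro j hj
    rw [List.mem_eraseIdx_iff_getElem]
    refine ⟨j, by simp, fun h => hj (Fin.ext h), by simp⟩
  have hsum : ψ u + ∑ j, ψ (d j) * ψ (l.get j) = ψ a := by
    rw [← ha, map_add, map_sum]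
    congr 1
    exact Finset.sum_congr rfl (fun j _ => (map_mul ψ _ _).symm)
  have hψu : ψ u ∈ Ideal.ofList (P.map ψ) := by
    rw [← Ideal.map_ofList]
    exact Ideal.mem_map_of_mem ψ hu
  have hgen : Ideal.ofList ((a :: P).map ψ ++ (l.map ψ).eraseIdx j₀) =
      Ideal.ofList ((P ++ l).map ψ) := by
    apply le_antisymm
    · apply Ideal.span_le.mpr
      intro x hx
      rcases List.mem_append.mp hx with hx | hx
      · rw [List.map_cons] at hx
        rcases List.mem_cons.mp hx with rfl | hx
        · rw [SetLike.mem_coe, ← hsum]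
          refine Ideal.add_mem _ ?_ (Ideal.sum_mem _ fun j _ => Ideal.mul_mem_left _ _
            (Ideal.subset_span ?_))
          · have : Ideal.ofList (P.map ψ) ≤ Ideal.ofList ((P ++ l).map ψ) := by
              rw [List.map_append, Ideal.ofList_append]
              exact le_sup_left
            exact this hψu
          · exact List.mem_map_of_mem (List.mem_append_right _ (List.get_mem l j))
        · apply Ideal.subset_span
          rw [List.map_append]
          exact List.mem_append_left _ hx
      · apply Ideal.subset_span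
        rw [List.map_append]
        exact List.mem_append_right _ (List.mem_of_mem_eraseIdx hx)
    · apply Ideal.span_le.mpr
      intro x hx
      rw [List.map_append] at hx
      rcases List.mem_append.mp hx with hx | hx
      · apply Ideal.subset_span
        exact List.mem_append_left _ (by rw [List.map_cons]; exact List.mem_cons_of_mem _ hx)
      · obtain ⟨y, hy, rfl⟩ := List.mem_map.mp hx
        obtain ⟨j, rfl⟩ := List.get_of_mem hy
        by_cases hj : j = j₀
        · rw [hj]
          have h1 : ψ (d j₀) * ψ (l.get j₀) = ψ a - ψ u -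
              ∑ i ∈ Finset.univ.erase j₀, ψ (d i) * ψ (l.get i) := by
            rw [← hsum, ← Finset.add_sum_erase _ _ (Finset.mem_univ j₀)]
            ring
          have h2 : ψ (d j₀) * ψ (l.get j₀) ∈
              Ideal.ofList ((a :: P).map ψ ++ (l.map ψ).eraseIdx j₀) := by
            rw [h1]
            refine Ideal.sub_mem _ (Ideal.sub_mem _ (Ideal.subset_span ?_) ?_)
              (Ideal.sum_mem _ fun i hi => Ideal.mul_mem_left _ _ (Ideal.subset_span ?_))
            · exact List.mem_append_left _ (by rw [List.map_cons]; exact List.mem_cons_self)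
            · have : Ideal.ofList (P.map ψ) ≤
                  Ideal.ofList ((a :: P).map ψ ++ (l.map ψ).eraseIdx j₀) := by
                apply Ideal.span_mono
                intro z hz
                exact List.mem_append_left _
                  (by rw [List.map_cons]; exact List.mem_cons_of_mem _ hz)
              exact this hψu
            · exact List.mem_append_right _ (hmemL' i (Finset.ne_of_mem_erase hi))
          exact (Ideal.unit_mul_mem_iff_mem _ hunit).mp h2
        · exact Ideal.subset_span (List.mem_append_right _ (hmemL' j hj))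
  have hlen : ((a :: P).map ψ ++ (l.map ψ).eraseIdx j₀).length = ((P ++ l).map ψ).length := by
    simp only [List.length_append, List.length_map, List.length_cons, List.length_eraseIdx]
    rw [if_pos j₀.2]
    have := j₀.pos
    lia
  refine ⟨?_, hgen⟩
  refine (Groth.Agent.Lib.KoszulSplit.main18935 _ hne _ hLψ rfl _ hgen).mpr ?_
  intro l' hl'
  rw [hlen]
  exact (Groth.Agent.Lib.KoszulSplit.main18935 _ hne _ hLψ rfl _ rfl).mp hLψ l' hl'

end step

section exchange

variable {R : Type u} [CommRing R]

/-- `K` is generated near `𝔔` by a Koszul-regular sequence beginning with (the image of) `f`. -/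
def LocGen (𝔔 K : Ideal R) (f : List R) : Prop :=
  ∃ G : R, G ∉ 𝔔 ∧ ∃ (T : Type u) (_ : CommRing T) (_ : Algebra R T) (_ : IsLocalization.Away G T)
    (l : List T), LCI.IsKoszulRegularSeq T (f.map (algebraMap R T) ++ l) ∧
      K.map (algebraMap R T) = Ideal.ofList (f.map (algebraMap R T) ++ l)

theorem exchange (𝔔 : Ideal R) [h𝔔 : 𝔔.IsPrime] (K : Ideal R) (hK𝔔 : K ≤ 𝔔) (hK : KR K) :
    ∀ (c : ℕ) (F : Fin c → R), (∀ i, F i ∈ K) →
      (∀ lam : Fin c → R, ∑ i, lam i * F i ∈ 𝔔 * K → ∀ i, lam i ∈ 𝔔) →
      LocGen 𝔔 K (List.ofFn F) := by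
  intro c
  induction c with
  | zero =>
    intro F _ _
    obtain ⟨g, hg, T, i1, i2, i3, l, hl, hI⟩ := hK 𝔔 h𝔔 hK𝔔
    refine ⟨g, hg, T, i1, i2, i3, l, ?_, ?_⟩
    · rw [List.ofFn_zero, List.map_nil, List.nil_append]
      exact hl
    · rw [List.ofFn_zero, List.map_nil, List.nil_append]
      exact hI
  | succ c ih =>
    intro F hFK hind
    have hind' : ∀ lam : Fin c → R, ∑ i, lam i * F i.succ ∈ 𝔔 * K → ∀ i, lam i ∈ 𝔔 := by
      intro lam hlam i
      have h1 := hind (Fin.cons 0 lam) (by
        rw [Fin.sum_univ_succ]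
        simp only [Fin.cons_zero, Fin.cons_succ, zero_mul, zero_add]
        exact hlam) i.succ
      rwa [Fin.cons_succ] at h1
    obtain ⟨G, hG, T, _, _, hloc, l, hL, hKT⟩ :=
      ih (fun i : Fin c => F i.succ) (fun i => hFK i.succ) hind'
    haveI := hloc
    have hGunit : IsUnit (algebraMap R T G) := IsLocalization.Away.algebraMap_isUnit G
    have ha_mem : algebraMap R T (F 0) ∈
        Ideal.ofList ((List.ofFn fun i : Fin c => F i.succ).map (algebraMap R T)) ⊔ Ideal.ofList l := by
      rw [← Ideal.ofList_append, ← hKT]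
      exact Ideal.mem_map_of_mem _ (hFK 0)
    obtain ⟨u, hu, v, hv, huv⟩ := Submodule.mem_sup.mp ha_mem
    have hu' : u ∈ Ideal.span (Set.range (fun i : Fin c => algebraMap R T (F i.succ))) := by
      have h0 : (List.ofFn fun i : Fin c => F i.succ).map (algebraMap R T) =
          List.ofFn (fun i : Fin c => algebraMap R T (F i.succ)) := by
        rw [List.map_ofFn]
        rfl
      rw [h0, ofList_ofFn] at hu
      exact hu
    obtain ⟨cc, hcc⟩ := Ideal.mem_span_range_iff_exists_fun.mp hu'
    have hv' : v ∈ Ideal.span (Set.range l.get) := by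
      rw [Set.range_list_get]
      exact hv
    obtain ⟨d, hd⟩ := Ideal.mem_span_range_iff_exists_fun.mp hv'
    have hex : ∃ j₀, d j₀ ∉ 𝔔.map (algebraMap R T) := by
      by_contra hcon
      push Not at hcon
      have hvmem : v ∈ (𝔔 * K).map (algebraMap R T) := by
        rw [Ideal.map_mul, ← hd]
        refine Ideal.sum_mem _ (fun j _ => Ideal.mul_mem_mul (hcon j) ?_)
        rw [hKT]
        exact Ideal.subset_span (List.mem_append_right _ (List.get_mem l j))
      obtain ⟨b, hb⟩ := IsLocalization.exist_integer_multiples_of_finite (Submonoid.powers G) cc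
      choose cc' hcc' using hb
      have e1 : ∀ i, algebraMap R T (cc' i) = algebraMap R T b * cc i := fun i => by
        rw [hcc' i, Algebra.smul_def]
      have hmem2 : algebraMap R T ((b : R) * F 0 - ∑ i, cc' i * F i.succ) ∈
          (𝔔 * K).map (algebraMap R T) := by
        have h0 : algebraMap R T ((b : R) * F 0 - ∑ i, cc' i * F i.succ) =
            algebraMap R T b * v := by
          rw [map_sub, map_mul, map_sum, ← huv, ← hcc]
          simp only [map_mul, e1]
          rw [mul_add, Finset.mul_sum]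
          have h00 : ∑ x, algebraMap R T ↑b * cc x * algebraMap R T (F x.succ) =
              ∑ i, algebraMap R T ↑b * (cc i * algebraMap R T (F i.succ)) :=
            Finset.sum_congr rfl (fun i _ => by ring)
          rw [h00]
          ring
        rw [h0]
        exact Ideal.mul_mem_left _ _ hvmem
      obtain ⟨m, hm, hmz⟩ := (IsLocalization.algebraMap_mem_map_algebraMap_iff
        (Submonoid.powers G) T _ _).mp hmem2
      have h0 := hind (Fin.cons (m * b) (fun i => - (m * cc' i))) (by
        rw [Fin.sum_univ_succ]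
        simp only [Fin.cons_zero, Fin.cons_succ]
        have h00 : m * (b : R) * F 0 + ∑ i : Fin c, -(m * cc' i) * F i.succ =
            m * ((b : R) * F 0 - ∑ i, cc' i * F i.succ) := by
          rw [mul_sub, Finset.mul_sum, sub_eq_add_neg, ← Finset.sum_neg_distrib]
          congr 1
          · ring
          · exact Finset.sum_congr rfl (fun i _ => by ring)
        rw [h00]
        exact hmz) 0
      rw [Fin.cons_zero] at h0
      rcases h𝔔.mem_or_mem h0 with h | h
      · obtain ⟨n, rfl⟩ := hm
        exact hG (h𝔔.mem_of_pow_mem n h)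
      · obtain ⟨n, hn⟩ := b.2
        rw [← hn] at h
        exact hG (h𝔔.mem_of_pow_mem n h)
    obtain ⟨j₀, hj₀⟩ := hex
    obtain ⟨N, d', hd'⟩ := IsLocalization.Away.surj G (d j₀)
    have hd'𝔔 : d' ∉ 𝔔 := by
      intro hmem
      apply hj₀
      have h1 : algebraMap R T d' ∈ 𝔔.map (algebraMap R T) := Ideal.mem_map_of_mem _ hmem
      rw [← hd'] at h1
      exact (Ideal.mul_unit_mem_iff_mem _ (hGunit.pow N)).mp h1
    have hGd' : G * d' ∉ 𝔔 := by
      intro hmem
      rcases h𝔔.mem_or_mem hmem with h | h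
      · exact hG h
      · exact hd'𝔔 h
    have hassoc : Associated (algebraMap R T d') (d j₀) := by
      refine ⟨((hGunit.pow N).unit)⁻¹, ?_⟩
      rw [← hd', mul_assoc]
      have : (algebraMap R T G) ^ N * (((hGunit.pow N).unit)⁻¹ : Tˣ) = 1 :=
        IsUnit.mul_val_inv (hGunit.pow N)
      rw [this, mul_one]
    haveI hlocT : IsLocalization.Away (G * d') (Localization.Away (d j₀)) :=
      IsLocalization.Away.mul_of_associated G d' (d j₀) hassoc
    have hcomp : ∀ r : R, algebraMap T (Localization.Away (d j₀)) (algebraMap R T r) =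
        algebraMap R (Localization.Away (d j₀)) r :=
      fun r => (IsScalarTower.algebraMap_apply R T (Localization.Away (d j₀)) r).symm
    have hKT' : K.map (algebraMap R (Localization.Away (d j₀))) =
        Ideal.ofList (((List.ofFn fun i : Fin c => F i.succ).map (algebraMap R T) ++ l).map
          (algebraMap T (Localization.Away (d j₀)))) := by
      rw [← Ideal.map_ofList, ← hKT, Ideal.map_map, ← IsScalarTower.algebraMap_eq]
    have hne : Ideal.ofList (((List.ofFn fun i : Fin c => F i.succ).map (algebraMap R T) ++ l).map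
          (algebraMap T (Localization.Away (d j₀)))) ≠ ⊤ := by
      rw [← hKT']
      have h3 : 𝔔.map (algebraMap R (Localization.Away (d j₀))) ≠ ⊤ := by
        rw [IsLocalization.map_algebraMap_ne_top_iff_disjoint (Submonoid.powers (G * d'))
          (Localization.Away (d j₀)), Set.disjoint_left]
        rintro x ⟨n, rfl⟩ hx
        exact hGd' (h𝔔.mem_of_pow_mem n hx)
      intro htop
      apply h3
      rw [eq_top_iff, ← htop]
      exact Ideal.map_mono hK𝔔
    obtain ⟨hreg, hgen⟩ := exchange_step (algebraMap R T (F 0))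
      ((List.ofFn fun i : Fin c => F i.succ).map (algebraMap R T)) l d u hu (by rw [hd]; exact huv) j₀ hL hne
    have hlist : (List.ofFn F).map (algebraMap R (Localization.Away (d j₀))) =
        (algebraMap R T (F 0) :: (List.ofFn fun i : Fin c => F i.succ).map (algebraMap R T)).map
          (algebraMap T (Localization.Away (d j₀))) := by
      rw [List.ofFn_succ, List.map_cons, List.map_cons, List.map_map, hcomp]
      congr 1
    refine ⟨G * d', hGd', Localization.Away (d j₀), inferInstance, inferInstance, hlocT,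
      (l.map (algebraMap T (Localization.Away (d j₀)))).eraseIdx j₀, ?_, ?_⟩
    · rw [hlist]
      exact hreg
    · rw [hlist, hgen]
      exact hKT'

end exchange

section lemmaX

variable {R₀ R₁ : Type u} [CommRing R₀] [CommRing R₁]

/-- transport of a Koszul-regular family of elements of `R` to a common localisation. -/
theorem kreg_common {R : Type u} [CommRing R] (G₁ G₂ : R) (T₁ T₂ : Type u) [CommRing T₁]
    [CommRing T₂] [Algebra R T₁] [Algebra R T₂] [IsLocalization.Away G₁ T₁]
    [IsLocalization.Away G₂ T₂] (f : List R)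
    (hf : LCI.IsKoszulRegularSeq T₁ (f.map (algebraMap R T₁))) :
    LCI.IsKoszulRegularSeq (Localization.Away (algebraMap R T₂ G₁))
      (f.map (algebraMap R (Localization.Away (algebraMap R T₂ G₁)))) := by
  have hunit₃ : IsUnit (algebraMap R (Localization.Away (algebraMap R T₂ G₁)) G₁) := by
    rw [IsScalarTower.algebraMap_apply R T₂ (Localization.Away (algebraMap R T₂ G₁))]
    exact IsLocalization.Away.algebraMap_isUnit _
  letI algT₁T₃ : Algebra T₁ (Localization.Away (algebraMap R T₂ G₁)) :=
    (IsLocalization.Away.lift G₁ hunit₃).toAlgebra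
  haveI : IsScalarTower R T₁ (Localization.Away (algebraMap R T₂ G₁)) :=
    IsScalarTower.of_algebraMap_eq
      (fun r => (IsLocalization.Away.lift_eq G₁ hunit₃ r).symm)
  haveI : IsLocalization.Away (algebraMap R T₁ G₂) (Localization.Away (algebraMap R T₂ G₁)) :=
    IsLocalization.Away.commutes T₁ T₂ _ G₁ G₂
  have h := kreg_map_of_isLocalization (C := Localization.Away (algebraMap R T₂ G₁))
    (Submonoid.powers (algebraMap R T₁ G₂)) _ hf
  rw [List.map_map] at h
  have e : (f.map ((algebraMap T₁ (Localization.Away (algebraMap R T₂ G₁))) ∘ (algebraMap R T₁))) =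
      f.map (algebraMap R (Localization.Away (algebraMap R T₂ G₁))) := by
    apply List.map_congr_left
    intro r _
    exact (IsScalarTower.algebraMap_apply R T₁ _ r).symm
  rw [e] at h
  exact h

/-- final assembly on a common localisation. -/
theorem kr_final (ε : R₀ →+* R₁) (hε : Function.Surjective ε) {c : ℕ} (F : Fin c → R₀)
    (hker : RingHom.ker ε = Ideal.span (Set.range F)) (I : Ideal R₁)
    (G : R₀) (T : Type u) [CommRing T] [Algebra R₀ T] [IsLocalization.Away G T] (g : List T)
    (hf : LCI.IsKoszulRegularSeq T ((List.ofFn F).map (algebraMap R₀ T)))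
    (hfg : LCI.IsKoszulRegularSeq T ((List.ofFn F).map (algebraMap R₀ T) ++ g))
    (hgen : (I.comap ε).map (algebraMap R₀ T) =
      Ideal.ofList ((List.ofFn F).map (algebraMap R₀ T) ++ g)) :
    ∃ (T' : Type u) (_ : CommRing T') (_ : Algebra R₁ T') (_ : IsLocalization.Away (ε G) T')
      (l : List T'), LCI.IsKoszulRegularSeq T' l ∧ I.map (algebraMap R₁ T') = Ideal.ofList l := by
  have hq := kreg_of_append' ((List.ofFn F).map (algebraMap R₀ T)) g hf hfg
  have hfI : Ideal.ofList ((List.ofFn F).map (algebraMap R₀ T)) =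
      (RingHom.ker ε).map (algebraMap R₀ T) := by
    rw [← Ideal.map_ofList, ofList_ofFn, hker]
  have hkerle : RingHom.ker ε ≤ RingHom.ker
      ((Ideal.Quotient.mk (Ideal.ofList ((List.ofFn F).map (algebraMap R₀ T)))).comp
        (algebraMap R₀ T)) := by
    intro x hx
    rw [RingHom.mem_ker, RingHom.comp_apply, Ideal.Quotient.eq_zero_iff_mem, hfI]
    exact Ideal.mem_map_of_mem _ hx
  let θ : R₁ →+* (T ⧸ Ideal.ofList ((List.ofFn F).map (algebraMap R₀ T))) :=
    ε.liftOfSurjective hε ⟨_, hkerle⟩
  have hθ : ∀ r : R₀, θ (ε r) = Ideal.Quotient.mk _ (algebraMap R₀ T r) :=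
    fun r => ε.liftOfSurjective_comp_apply hε ⟨_, hkerle⟩ r
  letI algT' : Algebra R₁ (T ⧸ Ideal.ofList ((List.ofFn F).map (algebraMap R₀ T))) := θ.toAlgebra
  have hlocT' : IsLocalization.Away (ε G)
      (T ⧸ Ideal.ofList ((List.ofFn F).map (algebraMap R₀ T))) := by
    have := IsLocalization.of_surjective (Submonoid.powers G) T ε hε
      (Ideal.Quotient.mk (Ideal.ofList ((List.ofFn F).map (algebraMap R₀ T))))
      Ideal.Quotient.mk_surjective (RingHom.ext (fun r => (hθ r).symm))
      (by rw [Ideal.mk_ker, hfI])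
    rw [Submonoid.map_powers] at this
    exact this
  refine ⟨_, inferInstance, algT', hlocT', _, hq, ?_⟩
  have h1 : Ideal.ofList (g.map (Ideal.Quotient.mk
      (Ideal.ofList ((List.ofFn F).map (algebraMap R₀ T))))) =
      (Ideal.ofList ((List.ofFn F).map (algebraMap R₀ T) ++ g)).map
        (Ideal.Quotient.mk (Ideal.ofList ((List.ofFn F).map (algebraMap R₀ T)))) := by
    rw [Ideal.map_ofList, List.map_append, Ideal.ofList_append]
    have h0 : Ideal.ofList (((List.ofFn F).map (algebraMap R₀ T)).map (Ideal.Quotient.mk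
        (Ideal.ofList ((List.ofFn F).map (algebraMap R₀ T))))) = ⊥ := by
      rw [← Ideal.map_ofList (Ideal.Quotient.mk
        (Ideal.ofList ((List.ofFn F).map (algebraMap R₀ T)))) ((List.ofFn F).map (algebraMap R₀ T)),
        Ideal.map_quotient_self]
    rw [h0, bot_sup_eq]
  rw [h1, ← hgen, Ideal.map_map]
  show Ideal.map θ I = _
  apply le_antisymm
  · rw [Ideal.map_le_iff_le_comap]
    intro x hx
    obtain ⟨r, rfl⟩ := hε x
    rw [Ideal.mem_comap, hθ]
    exact Ideal.mem_map_of_mem
      ((Ideal.Quotient.mk _).comp (algebraMap R₀ T)) hx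
  · rw [Ideal.map_le_iff_le_comap]
    intro k hk
    rw [Ideal.mem_comap, RingHom.comp_apply, ← hθ]
    exact Ideal.mem_map_of_mem _ hk

/-- **Cancellation.** -/
theorem kr_of_comap_of_indep (ε : R₀ →+* R₁) (hε : Function.Surjective ε) {c : ℕ}
    (F : Fin c → R₀) (hker : RingHom.ker ε = Ideal.span (Set.range F))
    (hKRker : KR (RingHom.ker ε)) (I : Ideal R₁) (hKR : KR (I.comap ε))
    (hind : ∀ 𝔭 : Ideal R₁, 𝔭.IsPrime → I ≤ 𝔭 → ∀ lam : Fin c → R₀,
      ∑ i, lam i * F i ∈ (𝔭.comap ε) * (I.comap ε) → ∀ i, lam i ∈ 𝔭.comap ε) : KR I := by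
  intro 𝔭 h𝔭 hle
  haveI h𝔔 : (𝔭.comap ε).IsPrime := Ideal.comap_isPrime _ _
  have hle' : I.comap ε ≤ 𝔭.comap ε := Ideal.comap_mono hle
  have hkerle : RingHom.ker ε ≤ I.comap ε := by
    intro x hx
    rw [Ideal.mem_comap, RingHom.mem_ker.mp hx]
    exact I.zero_mem
  have hFker : ∀ i, F i ∈ RingHom.ker ε := fun i => by
    rw [hker]
    exact Ideal.subset_span ⟨i, rfl⟩
  -- step 1: `F` is Koszul-regular near `𝔔`
  obtain ⟨G₁, hG₁, T₁, _, _, hloc₁, l₁, hl₁, hgen₁⟩ :=
    exchange (𝔭.comap ε) (RingHom.ker ε) (hkerle.trans hle') hKRker c F hFker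
      (fun lam hlam => hind 𝔭 h𝔭 hle lam (Ideal.mul_mono_right hkerle hlam))
  haveI := hloc₁
  have hF₁gen : Ideal.ofList ((List.ofFn F).map (algebraMap R₀ T₁)) =
      (RingHom.ker ε).map (algebraMap R₀ T₁) := by
    rw [← Ideal.map_ofList, ofList_ofFn, hker]
  have hne₁ : (RingHom.ker ε).map (algebraMap R₀ T₁) ≠ ⊤ := by
    have h3 : (𝔭.comap ε).map (algebraMap R₀ T₁) ≠ ⊤ := by
      rw [IsLocalization.map_algebraMap_ne_top_iff_disjoint (Submonoid.powers G₁) T₁,
        Set.disjoint_left]
      rintro x ⟨n, rfl⟩ hx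
      exact hG₁ (h𝔔.mem_of_pow_mem n hx)
    intro htop
    apply h3
    rw [eq_top_iff, ← htop]
    exact Ideal.map_mono (hkerle.trans hle')
  have hl₁nil : l₁ = [] := by
    have h1 := (Groth.Agent.Lib.KoszulSplit.main18935 _ hne₁ _ hl₁ hgen₁.symm _ hgen₁.symm).mp
      hl₁ _ hF₁gen
    rw [List.length_append] at h1
    exact List.length_eq_zero_iff.mp (by lia)
  rw [hl₁nil, List.append_nil] at hl₁
  -- step 2: exchange inside `ε⁻¹ I`
  obtain ⟨G₂, hG₂, T₂, _, _, hloc₂, l₂, hl₂, hgen₂⟩ :=
    exchange (𝔭.comap ε) (I.comap ε) hle' hKR c F (fun i => hkerle (hFker i)) (hind 𝔭 h𝔭 hle)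
  haveI := hloc₂
  -- step 3: common localisation
  have hf₃ := kreg_common G₁ G₂ T₁ T₂ (List.ofFn F) hl₁
  have hcomp : ∀ r : R₀, algebraMap T₂ (Localization.Away (algebraMap R₀ T₂ G₁))
      (algebraMap R₀ T₂ r) = algebraMap R₀ (Localization.Away (algebraMap R₀ T₂ G₁)) r :=
    fun r => (IsScalarTower.algebraMap_apply R₀ T₂ _ r).symm
  have hlist : ((List.ofFn F).map (algebraMap R₀ T₂) ++ l₂).map
      (algebraMap T₂ (Localization.Away (algebraMap R₀ T₂ G₁))) =
      (List.ofFn F).map (algebraMap R₀ (Localization.Away (algebraMap R₀ T₂ G₁))) ++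
        l₂.map (algebraMap T₂ (Localization.Away (algebraMap R₀ T₂ G₁))) := by
    rw [List.map_append, List.map_map]
    congr 1
  have hfg₃ : LCI.IsKoszulRegularSeq (Localization.Away (algebraMap R₀ T₂ G₁))
      ((List.ofFn F).map (algebraMap R₀ (Localization.Away (algebraMap R₀ T₂ G₁))) ++
        l₂.map (algebraMap T₂ (Localization.Away (algebraMap R₀ T₂ G₁)))) := by
    rw [← hlist]
    exact kreg_map_of_isLocalization (Submonoid.powers (algebraMap R₀ T₂ G₁)) _ hl₂
  have hgen₃ : (I.comap ε).map (algebraMap R₀ (Localization.Away (algebraMap R₀ T₂ G₁))) =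
      Ideal.ofList ((List.ofFn F).map (algebraMap R₀ (Localization.Away (algebraMap R₀ T₂ G₁))) ++
        l₂.map (algebraMap T₂ (Localization.Away (algebraMap R₀ T₂ G₁)))) := by
    rw [← hlist, ← Ideal.map_ofList, ← hgen₂, Ideal.map_map]
    rfl
  have hG : ε (G₂ * G₁) ∉ 𝔭 := by
    intro hmem
    have h1 : G₂ * G₁ ∈ 𝔭.comap ε := hmem
    rcases h𝔔.mem_or_mem h1 with h | h
    · exact hG₂ h
    · exact hG₁ h
  haveI : IsLocalization.Away (G₂ * G₁) (Localization.Away (algebraMap R₀ T₂ G₁)) :=
    IsLocalization.Away.mul' T₂ _ G₂ G₁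
  exact ⟨ε (G₂ * G₁), hG, kr_final ε hε F hker I (G₂ * G₁)
    (Localization.Away (algebraMap R₀ T₂ G₁)) _ hf₃ hfg₃ hgen₃⟩

end lemmaX

end Groth.Agent.Lib.KoszulCancel
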