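import Mathlib
import Groth.Agent.Lib.KoszulCancel_helper2
import Groth.Agent.Lib.SmoothLCI_helper2
import Groth.Agent.Lib.LCIComp_helper2
import Groth.Agent.Lib.LCILocal_helper2

/-!
# Cancellation of a smooth map for lci ring maps (helper2)

* `kr_ker_of_submersive`, `kr_ker_of_smooth`: `A → C` smooth, `π : C ↠ B` surjective and `A → B` lci:
  then `ker π` is Koszul-regular.
* `isLCIHom_of_comp_smooth`: `A → C` smooth, `ψ : C → B` with `A → B` lci: then `ψ` is lci.
-/

set_option autoImplicit false
universe u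

namespace Groth.Agent.Lib.SmoothCancel

open Groth.Agent.Lib.KRegIdeal Groth.Agent.Lib.LCIPres Groth.Agent.Lib.LCILocal
  Groth.Agent.Lib.LCIComp Groth.Agent.Lib.SmoothLCI Groth.Agent.Lib.KoszulCancel
open MvPolynomial

section std

variable {A C B : Type u} [CommRing A] [CommRing C] [CommRing B] [Algebra A C] [Algebra A B]
  {ι σ : Type} [Finite ι] [Finite σ]

lemma pderiv_mem (𝔔 K : Ideal (MvPolynomial ι A)) (hK : K ≤ 𝔔) (i : ι)
    (z : MvPolynomial ι A) (hz : z ∈ 𝔔 * K) : pderiv i z ∈ 𝔔 := by
  refine Submodule.mul_induction_on hz ?_ ?_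
  · intro q hq k hk
    rw [Derivation.leibniz, smul_eq_mul, smul_eq_mul]
    exact Ideal.add_mem _ (Ideal.mul_mem_right _ _ hq) (Ideal.mul_mem_right _ _ (hK hk))
  · intro x y hx hy
    rw [map_add]
    exact Ideal.add_mem _ hx hy

/-- cancellation for a standard smooth algebra with a given submersive presentation. -/
theorem kr_ker_of_submersive (Pr : Algebra.SubmersivePresentation A C ι σ)
    (π : C →ₐ[A] B) (hπ : Function.Surjective π) (h : LCI.IsLCI A B) :
    KR (RingHom.ker (π : C →+* B)) := by
  classical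
  cases nonempty_fintype σ
  let e : Fin (Fintype.card σ) ≃ σ := (Fintype.equivFin σ).symm
  have hε : Function.Surjective (algebraMap Pr.Ring C) := Pr.algebraMap_surjective
  have hker : RingHom.ker (algebraMap Pr.Ring C) =
      Ideal.span (Set.range (Pr.relation ∘ e)) := by
    rw [e.surjective.range_comp]
    exact Pr.span_range_relation_eq_ker.symm
  have hKRker : KR (RingHom.ker (algebraMap Pr.Ring C)) := kr_ker Pr
  have hval : ∀ p : Pr.Ring, (π : C →+* B) (algebraMap Pr.Ring C p) =
      aeval (fun i => π (Pr.val i)) p := by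
    intro p
    rw [Algebra.Generators.algebraMap_apply]
    exact MvPolynomial.comp_aeval_apply Pr.val π p
  have hcomap : (RingHom.ker (π : C →+* B)).comap (algebraMap Pr.Ring C) =
      kerOf (A := A) (fun i => π (Pr.val i)) := by
    ext p
    rw [Ideal.mem_comap, RingHom.mem_ker, mem_kerOf, hval]
  have hsurj : Function.Surjective
      (aeval (fun i => π (Pr.val i)) : MvPolynomial ι A →ₐ[A] B) := by
    intro b
    obtain ⟨c, rfl⟩ := hπ b
    obtain ⟨p, rfl⟩ := hε c
    exact ⟨p, (hval p).symm⟩
  have hKR : KR ((RingHom.ker (π : C →+* B)).comap (algebraMap Pr.Ring C)) := by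
    rw [hcomap]
    exact kr_kerOf_of_isLCI h _ hsurj
  have hind : ∀ 𝔭 : Ideal C, 𝔭.IsPrime → RingHom.ker (π : C →+* B) ≤ 𝔭 →
      ∀ lam : Fin (Fintype.card σ) → Pr.Ring,
      ∑ i, lam i * (Pr.relation ∘ e) i ∈ (𝔭.comap (algebraMap Pr.Ring C)) *
        ((RingHom.ker (π : C →+* B)).comap (algebraMap Pr.Ring C)) →
      ∀ i, lam i ∈ 𝔭.comap (algebraMap Pr.Ring C) := by
    intro 𝔭 h𝔭 hle lam hlam
    have hK𝔔 : (RingHom.ker (π : C →+* B)).comap (algebraMap Pr.Ring C) ≤
        𝔭.comap (algebraMap Pr.Ring C) := Ideal.comap_mono hle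
    have hrelK : ∀ s, Pr.relation s ∈
        (RingHom.ker (π : C →+* B)).comap (algebraMap Pr.Ring C) := by
      intro s
      rw [Ideal.mem_comap]
      have h0 : algebraMap Pr.Ring C (Pr.relation s) = 0 := by
        rw [Algebra.Generators.algebraMap_apply]
        exact Pr.aeval_val_relation s
      rw [h0]
      exact Ideal.zero_mem _
    let μ : σ → Pr.Ring := fun s => lam (e.symm s)
    have hsumσ : ∑ s, μ s * Pr.relation s = ∑ i, lam i * (Pr.relation ∘ e) i := by
      rw [← Equiv.sum_comp e]
      refine Finset.sum_congr rfl (fun i _ => ?_)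
      simp [μ]
    have hw : ∀ t : σ, ∑ s, Pr.jacobiMatrix t s * μ s ∈ 𝔭.comap (algebraMap Pr.Ring C) := by
      intro t
      have h1 : pderiv (Pr.map t) (∑ s, μ s * Pr.relation s) ∈
          𝔭.comap (algebraMap Pr.Ring C) :=
        pderiv_mem _ _ hK𝔔 _ _ (by rw [hsumσ]; exact hlam)
      rw [map_sum] at h1
      have h2 : ∑ s, pderiv (Pr.map t) (μ s * Pr.relation s) =
          ∑ s, Pr.jacobiMatrix t s * μ s +
            ∑ s, Pr.relation s * pderiv (Pr.map t) (μ s) := by
        rw [← Finset.sum_add_distrib]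
        refine Finset.sum_congr rfl (fun s _ => ?_)
        rw [Derivation.leibniz, smul_eq_mul, smul_eq_mul,
          Algebra.PreSubmersivePresentation.jacobiMatrix_apply]
        ring
      rw [h2] at h1
      have h3 : ∑ s, Pr.relation s * pderiv (Pr.map t) (μ s) ∈
          𝔭.comap (algebraMap Pr.Ring C) :=
        Ideal.sum_mem _ (fun s _ => Ideal.mul_mem_right _ _ (hK𝔔 (hrelK s)))
      exact (Ideal.add_mem_iff_left _ h3).mp h1
    have hdet : ∀ s, Pr.jacobiMatrix.det * μ s ∈ 𝔭.comap (algebraMap Pr.Ring C) := by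
      intro s
      have h1 : Pr.jacobiMatrix.det * μ s =
          ∑ t, Pr.jacobiMatrix.adjugate s t * ∑ s', Pr.jacobiMatrix t s' * μ s' := by
        have h2 : (Pr.jacobiMatrix.adjugate * Pr.jacobiMatrix).mulVec μ =
            (Pr.jacobiMatrix.det • (1 : Matrix σ σ Pr.Ring)).mulVec μ := by
          rw [Matrix.adjugate_mul]
        rw [← Matrix.mulVec_mulVec, Matrix.smul_mulVec, Matrix.one_mulVec] at h2
        have h3 := congrFun h2 s
        simp only [Matrix.mulVec, dotProduct, Pi.smul_apply, smul_eq_mul] at h3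
        exact h3.symm
      rw [h1]
      exact Ideal.sum_mem _ (fun t _ => Ideal.mul_mem_left _ _ (hw t))
    have hdetnot : Pr.jacobiMatrix.det ∉ 𝔭.comap (algebraMap Pr.Ring C) := by
      intro hmem
      have h1 : algebraMap Pr.Ring C Pr.jacobiMatrix.det ∈ 𝔭 := hmem
      rw [← Algebra.PreSubmersivePresentation.jacobian_eq_jacobiMatrix_det] at h1
      exact h𝔭.ne_top (Ideal.eq_top_of_isUnit_mem _ h1 Pr.jacobian_isUnit)
    intro i
    have h1 := hdet (e i)
    have h2 : μ (e i) = lam i := by simp [μ]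
    rw [h2] at h1
    haveI : (𝔭.comap (algebraMap Pr.Ring C)).IsPrime := Ideal.comap_isPrime _ _
    exact (Ideal.IsPrime.mem_or_mem inferInstance h1).resolve_left hdetnot
  exact kr_of_comap_of_indep (algebraMap Pr.Ring C) hε (Pr.relation ∘ e) hker hKRker _ hKR hind

end std

section smooth

variable {A C B : Type u} [CommRing A] [CommRing C] [CommRing B]

/-- **Cancellation**: `A → C` smooth, `π : C ↠ B`, `A → B` lci: then `ker π` is Koszul-regular. -/
theorem kr_ker_of_smooth (φ : A →+* C) (hφ : φ.Smooth) (π : C →+* B)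
    (hπ : Function.Surjective π) (h : IsLCIHom (π.comp φ)) : KR (RingHom.ker π) := by
  obtain ⟨s, hs, hloc⟩ := RingHom.smooth_iff_locally_isStandardSmooth.mp hφ
  intro 𝔮 h𝔮 hle
  haveI := h𝔮
  obtain ⟨t, hts, ht𝔮⟩ : ∃ t ∈ s, t ∉ 𝔮 := by
    by_contra hcon
    push Not at hcon
    have h1 : Ideal.span s ≤ 𝔮 := Ideal.span_le.mpr hcon
    rw [hs] at h1
    exact h𝔮.ne_top (top_le_iff.mp h1)
  have hstd := hloc t hts
  letI algC : Algebra A (Localization.Away t) :=
    ((algebraMap C (Localization.Away t)).comp φ).toAlgebra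
  letI algB : Algebra A (Localization.Away (π t)) :=
    ((algebraMap B (Localization.Away (π t))).comp (π.comp φ)).toAlgebra
  haveI : Algebra.IsStandardSmooth A (Localization.Away t) := hstd
  obtain ⟨ι, σ, _, _, ⟨Pr⟩⟩ := (inferInstance : Algebra.IsStandardSmooth A (Localization.Away t)).out
  let πt : Localization.Away t →ₐ[A] Localization.Away (π t) :=
    { awayLift π t with
      commutes' := fun a => by
        show awayLift π t (algebraMap C (Localization.Away t) (φ a)) =
          algebraMap B (Localization.Away (π t)) (π (φ a))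
        exact awayLift_algebraMap π t (φ a) }
  have hlci : LCI.IsLCI A (Localization.Away (π t)) := by
    have h1 : IsLCIHom ((algebraMap B (Localization.Away (π t))).comp (π.comp φ)) :=
      isLCIHom_comp _ _ h (isLCIHom_of_away _ (π t) (by
        have h0 : (algebraMap B (Localization.Away (π t))).toAlgebra =
            (inferInstance : Algebra B (Localization.Away (π t))) :=
          Algebra.algebra_ext _ _ (fun r => rfl)
        rw [h0]
        infer_instance))
    exact h1
  have h2 := kr_ker_of_submersive Pr πt (awayLift_surjective π hπ t) hlci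
  have h3 : RingHom.ker (πt : Localization.Away t →+* Localization.Away (π t)) =
      (RingHom.ker π).map (algebraMap C (Localization.Away t)) := ker_awayLift π t
  rw [h3] at h2
  exact kr_at_of_away t (RingHom.ker π) h2 𝔮 ht𝔮 hle

/-- `A → C` smooth and `A → B` lci imply `C → B` lci. -/
theorem isLCIHom_of_comp_smooth (φ : A →+* C) (hφ : φ.Smooth) (ψ : C →+* B)
    (h : IsLCIHom (ψ.comp φ)) : IsLCIHom ψ := by
  letI algAC := φ.toAlgebra
  letI algCB := ψ.toAlgebra
  letI algAB := (ψ.comp φ).toAlgebra
  haveI : IsScalarTower A C B := IsScalarTower.of_algebraMap_eq fun x => rfl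
  haveI hft : Algebra.FiniteType A B := h.1
  haveI hft' : Algebra.FiniteType C B := Algebra.FiniteType.of_restrictScalars_finiteType A C B
  obtain ⟨n, f, hf⟩ := Algebra.FiniteType.iff_quotient_mvPolynomial''.mp hft'
  show LCI.IsLCI C B
  refine ⟨hft', n, f, hf, ?_⟩
  rw [kr_iff]
  have hsm : ((algebraMap C (MvPolynomial (Fin n) C)).comp φ).Smooth := by
    refine RingHom.Smooth.comp hφ ?_
    rw [RingHom.smooth_algebraMap]
    exact ⟨inferInstance, inferInstance⟩
  refine kr_ker_of_smooth ((algebraMap C (MvPolynomial (Fin n) C)).comp φ) hsm f.toRingHom hf ?_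
  have h0 : f.toRingHom.comp ((algebraMap C (MvPolynomial (Fin n) C)).comp φ) = ψ.comp φ := by
    rw [← RingHom.comp_assoc]
    congr 1
    exact f.comp_algebraMap
  rw [h0]
  exact h

end smooth

end Groth.Agent.Lib.SmoothCancel
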