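import Mathlib
import Groth.Prelude.Def_RegImm
import Groth.Agent.Lib.SmoothCancel_helper2
import Groth.Agent.Lib.KoszulAtLCI_helper2
import Groth.Agent.Lib.FpqcRegImmK_helper2
import Groth.Agent.Lib.RegLCI_helper5

/-!
# Cancellation of a smooth morphism for lci morphisms and Koszul-regular immersions (helper2)
-/

set_option autoImplicit false
universe u
open CategoryTheory CategoryTheory.Limits AlgebraicGeometry

namespace Groth.Agent.Lib.CancelSch

open Groth.Agent.Lib.KRegIdeal Groth.Agent.Lib.LCIComp Groth.Agent.Lib.SmoothCancel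
  Groth.Agent.Lib.KoszulAtLCI Groth.Agent.Lib.FpqcReg Groth.Agent.Lib.RegImmComp
open TopologicalSpace

variable {X Y Z S : Scheme.{u}}

/-- a Koszul-regular immersion followed by a smooth morphism is Koszul at every point. -/
theorem koszulAt_of_regImm_comp_smooth {X P Y : Scheme.{u}} (j : X ⟶ P)
    (hj : RegImm.IsRegularImmersion .koszul j) (p : P ⟶ Y) [Smooth p] (x : X) :
    Synt.IsKoszulAt (j ≫ p) x := by
  haveI himm : IsImmersion j := hj.1
  haveI hiso : IsIso (⊤ : X.Opens).ι := (Scheme.topIso X).isIso_hom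
  refine ⟨⊤, P, (⊤ : X.Opens).ι ≫ j, p, trivial, inferInstance, ⟨inferInstance, ?_⟩,
    inferInstance, Category.assoc _ _ _⟩
  intro z'
  obtain ⟨W, hzW, hcl, rs, hrs, hker⟩ := hj.2 ((⊤ : X.Opens).ι z')
  refine ⟨W, hzW, ?_, rs, hrs, ?_⟩
  · rw [morphismRestrict_comp]
    haveI := hcl
    haveI h1 : IsIso ((⊤ : X.Opens).ι ∣_ j ⁻¹ᵁ W.1) := inferInstance
    haveI h2 : IsClosedImmersion ((⊤ : X.Opens).ι ∣_ j ⁻¹ᵁ W.1) := inferInstance
    exact MorphismProperty.IsStableUnderComposition.comp_mem (P := @IsClosedImmersion) _ _ h2 hcl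
  · rw [← hker]
    have hinj : Function.Injective ((⊤ : X.Opens).ι.app (j ⁻¹ᵁ W.1)).hom :=
      (ConcreteCategory.bijective_of_isIso ((⊤ : X.Opens).ι.app (j ⁻¹ᵁ W.1))).1
    exact RingHom.ker_comp_of_injective (j.app W.1).hom hinj

/-- S9729 -/
theorem main9729 (f : X ⟶ Y) (g : Y ⟶ S) [Smooth g]
    (h : ∀ x : X, Synt.IsKoszulAt (f ≫ g) x) (x : X) : Synt.IsKoszulAt f x := by
  have hl := lci_of_koszulAt (f ≫ g) h
  obtain ⟨W, hW, hxW, -⟩ := (Opens.isBasis_iff_nbhd.mp S.isBasis_affineOpens)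
    (show g (f x) ∈ (⊤ : S.Opens) from trivial)
  obtain ⟨V, hV, hxV, hVW⟩ := (Opens.isBasis_iff_nbhd.mp Y.isBasis_affineOpens)
    (show f x ∈ g ⁻¹ᵁ W from hxW)
  obtain ⟨U, hU, hxU, hUV⟩ := (Opens.isBasis_iff_nbhd.mp X.isBasis_affineOpens)
    (show x ∈ f ⁻¹ᵁ V from hxV)
  apply koszulAt_of_isLCIHom f x U V hU hV hUV hxU
  have hsm : (g.appLE W V hVW).hom.Smooth :=
    HasRingHomProperty.appLE (P := @Smooth) g inferInstance ⟨W, hW⟩ ⟨V, hV⟩ hVW
  have hcomp := Scheme.Hom.appLE_comp_appLE f g W V U hVW hUV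
  apply isLCIHom_of_comp_smooth (g.appLE W V hVW).hom hsm (f.appLE V U hUV).hom
  have h1 := hl U W hU hW (hUV.trans ((Opens.map f.base).map (homOfLE hVW)).le)
  rw [← hcomp] at h1
  exact h1

/-- S8656 -/
theorem main8656 (f : X ⟶ Y) (hf : ∀ x : X, Synt.IsKoszulAt f x)
    (p : Z ⟶ Y) [Smooth p] (i : X ⟶ Z) [IsImmersion i] (h : i ≫ p = f) :
    RegImm.IsRegularImmersion .koszul i := by
  subst h
  have hl := lci_of_koszulAt (i ≫ p) hf
  refine ⟨inferInstance, fun x => ?_⟩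
  obtain ⟨U₀, hxU₀, hcU₀⟩ := exists_affine_closedImmersion i x
  obtain ⟨W, hW, hxW, -⟩ := (Opens.isBasis_iff_nbhd.mp Y.isBasis_affineOpens)
    (show p (i x) ∈ (⊤ : Y.Opens) from trivial)
  obtain ⟨U, hU, hxU, hUle⟩ := (Opens.isBasis_iff_nbhd.mp Z.isBasis_affineOpens)
    (show i x ∈ U₀.1 ⊓ p ⁻¹ᵁ W from ⟨hxU₀, hxW⟩)
  have hUW : U ≤ p ⁻¹ᵁ W := hUle.trans inf_le_right
  have hcU : IsClosedImmersion (i ∣_ U) :=
    isClosedImmersion_restrict_of_le i (hUle.trans inf_le_left) hcU₀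
  apply regImmAt_of_locP .koszul desc_kind_koszul i hU hcU x hxU
  obtain ⟨hD, hsurj⟩ := affine_and_surjective i hU hcU
  have hsm : (p.appLE W U hUW).hom.Smooth :=
    HasRingHomProperty.appLE (P := @Smooth) p inferInstance ⟨W, hW⟩ ⟨U, hU⟩ hUW
  have hcomp := Scheme.Hom.appLE_comp_appLE i p W U (i ⁻¹ᵁ U) hUW le_rfl
  have h1 := hl (i ⁻¹ᵁ U) W hD hW (le_rfl.trans ((Opens.map i.base).map (homOfLE hUW)).le)
  rw [← hcomp] at h1
  have h2 : KR (RingHom.ker (i.app U).hom) := by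
    apply kr_ker_of_smooth (p.appLE W U hUW).hom hsm (i.app U).hom hsurj
    rw [Scheme.Hom.app_eq_appLE]
    exact h1
  exact h2

/-- S8657 -/
theorem main8657 {X V V' : Scheme.{u}} (i : X ⟶ V) [IsImmersion i] (j : X ⟶ V') [IsImmersion j]
    (p : V' ⟶ V) [Smooth p] (h : j ≫ p = i) :
    RegImm.IsRegularImmersion .koszul i ↔ RegImm.IsRegularImmersion .koszul j := by
  constructor
  · intro hi
    exact main8656 i (fun x => Groth.Agent.RegLCI.main9773 i .koszul (Or.inr rfl) hi x) p j h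
  · intro hj
    have hk : ∀ x : X, Synt.IsKoszulAt i x := by
      intro x
      rw [← h]
      exact koszulAt_of_regImm_comp_smooth j hj p x
    exact main8656 i hk (𝟙 V) i (Category.comp_id i)

/-- S9728, one direction -/
theorem aux9728 {S U P P' : Scheme.{u}} (q : U ⟶ S)
    (p : P ⟶ S) (p' : P' ⟶ S) [Smooth p] [Smooth p'] (i : U ⟶ P) (i' : U ⟶ P') [IsImmersion i]
    [IsImmersion i'] (hi : i ≫ p = q) (hi' : i' ≫ p' = q) (u : U)
    (h : ∃ V : U.Opens, u ∈ V ∧ RegImm.IsRegularImmersion RegImm.Kind.koszul (V.ι ≫ i)) :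
    ∃ V : U.Opens, u ∈ V ∧ RegImm.IsRegularImmersion RegImm.Kind.koszul (V.ι ≫ i') := by
  obtain ⟨V, huV, hreg⟩ := h
  refine ⟨V, huV, ?_⟩
  have hk : ∀ v : (V : Scheme.{u}), Synt.IsKoszulAt (V.ι ≫ q) v := by
    intro v
    have h1 := koszulAt_of_regImm_comp_smooth (V.ι ≫ i) hreg p v
    rw [Category.assoc, hi] at h1
    exact h1
  exact main8656 (V.ι ≫ q) hk p' (V.ι ≫ i') (by rw [Category.assoc, hi'])

theorem main9728 {S U P P' : Scheme.{u}} (q : U ⟶ S)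
    (p : P ⟶ S) (p' : P' ⟶ S) [Smooth p] [Smooth p'] (i : U ⟶ P) (i' : U ⟶ P') [IsImmersion i]
    [IsImmersion i'] (hi : i ≫ p = q) (hi' : i' ≫ p' = q) (u : U) :
    (∃ V : U.Opens, u ∈ V ∧ RegImm.IsRegularImmersion RegImm.Kind.koszul (V.ι ≫ i)) ↔
      (∃ V : U.Opens, u ∈ V ∧ RegImm.IsRegularImmersion RegImm.Kind.koszul (V.ι ≫ i')) :=
  ⟨aux9728 q p p' i i' hi hi' u, aux9728 q p' p i' i hi' hi u⟩

end Groth.Agent.Lib.CancelSch
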