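import Mathlib
import Groth.Prelude.Def_RegImm
import Groth.Prelude.Def_AlgSpMor6
import Groth.Agent.Lib.CancelSch_helper2
import Groth.Agent.Lib.KoszulAtLCI_helper2
import Groth.Agent.Lib.AlgSpLocP2_helper7

/-!
# `AlgSp.lci` (Koszul at every point) is Zariski local, descends along fppf covers, and cancels smooth
morphisms for algebraic spaces (helper2)
-/

set_option autoImplicit false
universe u
open CategoryTheory CategoryTheory.Limits AlgebraicGeometry TopologicalSpace MorphismProperty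

namespace Groth.Agent.Lib.LCIZar

open Groth.Agent.Lib.KRegIdeal Groth.Agent.Lib.LCIComp Groth.Agent.Lib.SmoothLCI
  Groth.Agent.Lib.KoszulAtLCI Groth.Agent.Lib.CancelSch

section sch

variable {X Y : Scheme.{u}}

theorem koszulAt_of_smooth (f : X ⟶ Y) [Smooth f] (x : X) : Synt.IsKoszulAt f x := by
  obtain ⟨V, hV, hxV, -⟩ := (Opens.isBasis_iff_nbhd.mp Y.isBasis_affineOpens)
    (show f x ∈ (⊤ : Y.Opens) from trivial)
  obtain ⟨U, hU, hxU, hUV⟩ := (Opens.isBasis_iff_nbhd.mp X.isBasis_affineOpens)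
    (show x ∈ f ⁻¹ᵁ V from hxV)
  exact koszulAt_of_isLCIHom f x U V hU hV hUV hxU (isLCIHom_of_smooth _
    (HasRingHomProperty.appLE (P := @Smooth) f inferInstance ⟨V, hV⟩ ⟨U, hU⟩ hUV))

/-- being Koszul at a point is local on the source. -/
theorem koszulAt_of_ι_comp (W : X.Opens) (f : X ⟶ Y) (x' : (W : Scheme.{u}))
    (h : Synt.IsKoszulAt (W.ι ≫ f) x') : Synt.IsKoszulAt f (W.ι x') := by
  obtain ⟨V, hV, hxV, -⟩ := (Opens.isBasis_iff_nbhd.mp Y.isBasis_affineOpens)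
    (show f (W.ι x') ∈ (⊤ : Y.Opens) from trivial)
  obtain ⟨U₁, hU₁, hU₁V, hxU₁, hl⟩ := exists_affine_isLCIHom (W.ι ≫ f) x' h hV hxV
  have hU : IsAffineOpen (W.ι ''ᵁ U₁) := hU₁.image_of_isOpenImmersion W.ι
  have hUV : W.ι ''ᵁ U₁ ≤ f ⁻¹ᵁ V := by
    rintro _ ⟨z, hz, rfl⟩
    exact hU₁V hz
  have hxU : W.ι x' ∈ W.ι ''ᵁ U₁ := ⟨x', hxU₁, rfl⟩
  apply koszulAt_of_isLCIHom f _ _ V hU hV hUV hxU
  have hle : U₁ ≤ W.ι ⁻¹ᵁ (W.ι ''ᵁ U₁) := (Scheme.Hom.preimage_image_eq W.ι _).ge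
  have heq2 : (W.ι.appLE (W.ι ''ᵁ U₁) U₁ hle).hom.comp (f.appLE V (W.ι ''ᵁ U₁) hUV).hom =
      ((W.ι ≫ f).appLE V U₁ hU₁V).hom := by
    rw [← CommRingCat.hom_comp, Scheme.Hom.appLE_comp_appLE]
  let E : Γ(X, W.ι ''ᵁ U₁) ≃+* Γ(W, U₁) := (W.ι.appIso U₁).commRingCatIsoToRingEquiv
  have hE : (E : _ →+* _) = (W.ι.appLE (W.ι ''ᵁ U₁) U₁ hle).hom := by
    show (W.ι.appIso U₁).hom.hom = _
    rw [Scheme.Hom.appIso_hom']
  apply isLCIHom_of_comp_equiv _ E
  rw [hE, heq2]
  exact hl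

instance lci_respectsIso : (AlgSp.lci.{u}).RespectsIso := by
  apply MorphismProperty.RespectsIso.mk
  · intro X Y Z e f hf
    exact main8661 e.hom f (fun x => koszulAt_of_smooth e.hom x) hf
  · intro X Y Z e f hf
    exact main8661 f e.hom hf (fun y => koszulAt_of_smooth e.hom y)

theorem lci_restrict (f : X ⟶ Y) (U : Y.Opens) (hf : AlgSp.lci f) : AlgSp.lci (f ∣_ U) := by
  have h1 : AlgSp.lci ((f ⁻¹ᵁ U).ι ≫ f) :=
    main8661 _ f (fun x => koszulAt_of_smooth _ x) hf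
  rw [← morphismRestrict_ι f U] at h1
  exact fun x => main9729 (f ∣_ U) U.ι h1 x

theorem lci_of_iSup (f : X ⟶ Y) {ι : Type u} (U : ι → Y.Opens) (hU : iSup U = ⊤)
    (h : ∀ i, AlgSp.lci (f ∣_ U i)) : AlgSp.lci f := by
  intro x
  have hx : f x ∈ iSup U := by
    rw [hU]
    trivial
  obtain ⟨i, hi⟩ := Opens.mem_iSup.mp hx
  have h1 : AlgSp.lci ((f ∣_ U i) ≫ (U i).ι) :=
    main8661 _ _ (h i) (fun y => koszulAt_of_smooth _ y)
  rw [morphismRestrict_ι] at h1
  exact koszulAt_of_ι_comp (f ⁻¹ᵁ U i) f ⟨x, hi⟩ (h1 ⟨x, hi⟩)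

instance lci_isZariskiLocalAtTarget : IsZariskiLocalAtTarget AlgSp.lci.{u} :=
  IsZariskiLocalAtTarget.mk' (fun f U hf => lci_restrict f U hf)
    (fun f _ U hU h => lci_of_iSup f U hU h)

instance lci_descendsAlong_fpqc :
    MorphismProperty.DescendsAlong AlgSp.lci.{u} (@Surjective ⊓ @Flat ⊓ @QuasiCompact) where
  of_isPullback {A X Y Z fst snd f g} h hf hfst := by
    obtain ⟨⟨hs, hfl⟩, hqc⟩ := hf
    haveI : Surjective f := hs
    haveI : Flat f := hfl
    haveI : QuasiCompact f := hqc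
    exact main8662 g f fst snd h.flip hfst

theorem descendsEtale_lci : Groth.Agent.Lib.AlgSpDescent_helper7.DescendsEtale AlgSp.lci.{u} :=
  Groth.Agent.Lib.AlgSpDescent_helper7.descendsEtale_of_descendsAlong _

end sch

section sp

open AlgSp Groth.Agent.Lib.AlgSpQC2_helper7 Groth.Agent.Lib.AlgSpPoints_helper7
  Groth.Agent.Lib.AlgSpQC_helper7 Groth.Agent.Lib.AlgSpDiag_helper7 Groth.Agent.Lib.AlgSpTop_helper7
  Groth.Agent.Lib.AlgSpPullback_helper7 Groth.Agent.Lib.AlgSpSep_helper7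
  Groth.Agent.Lib.AlgSpLocP_helper7 Groth.Agent.Lib.AlgSpUniv_helper7
  Groth.Agent.Lib.AlgSpProper_helper7 Groth.Agent.Lib.AlgSpFpqc_helper7
  Groth.Agent.Lib.AlgSpDescent_helper7 Groth.Agent.Lib.AlgSpEtale_helper7

variable {S : Scheme.{u}}

/-- helper7's `locP_of_comp'` without the (unused) base change hypothesis. -/
theorem locP_of_comp_nobc (P Q : MorphismProperty Scheme.{u})
    (hP : DescendsEtale P)
    (hc : ∀ ⦃A B C : Scheme.{u}⦄ (f : A ⟶ B) (g : B ⟶ C), P (f ≫ g) → Q g → P f)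
    {X Y Z : Sp S} (hZ : IsAlgSpace Z) (f : X ⟶ Y) (g : Y ⟶ Z) (h : LocP P (f ≫ g))
    (hg : LocP Q g) : LocP P f := by
  intro U V a b k hae hbe comm
  obtain ⟨W, c, hce, hcs⟩ := hZ.atlas
  let V' := hce.rep.pullback (b ≫ g)
  let π : V' ⟶ V := hce.rep.snd (b ≫ g)
  let w : V' ⟶ W := hce.rep.fst' (b ≫ g)
  have sqV : IsPullback ((yon S).map w) ((yon S).map π) c (b ≫ g) := hce.rep.isPullback' _
  have hπe : Etale π.left := hce.property_snd _
  have hπs : Surjective π.left := hcs.property _ _ _ (hce.rep.isPullback _)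
  have sqU := IsPullback.of_hasPullback k π
  have sqU' : IsPullback (pullback.fst k π).left (pullback.snd k π).left k.left π.left :=
    sqU.map (Over.forget S)
  have hπ'e : Etale (pullback.fst k π).left := MorphismProperty.of_isPullback sqU'.flip hπe
  have ha' : RepWith @Etale ((yon S).map (pullback.fst k π) ≫ a) :=
    repWith_comp _ ((repWith_yon_map_iff _ _).2 hπ'e) hae
  have hb' : RepWith @Etale ((yon S).map π ≫ b) :=
    repWith_comp _ ((repWith_yon_map_iff _ _).2 hπe) hbe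
  have hcomm : ((yon S).map (pullback.fst k π) ≫ a) ≫ f ≫ g =
      (yon S).map (pullback.snd k π ≫ w) ≫ c := by
    rw [Category.assoc, ← Category.assoc a, comm, Functor.map_comp, Category.assoc,
      Category.assoc, sqV.w, ← Category.assoc, ← Category.assoc, ← Functor.map_comp,
      sqU.w, Functor.map_comp, Category.assoc, Category.assoc]
  have h1 : P (pullback.snd k π ≫ w).left := h _ _ _ ha' hce hcomm
  have hw : Q w.left := hg _ _ _ hb' hce (by rw [Category.assoc]; exact sqV.w.symm)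
  have h2 : P (pullback.snd k π).left := hc _ w.left (by rwa [Over.comp_left] at h1) hw
  exact hP sqU' hπe hπs h2

theorem main10666 {X Y Z : AlgSp.Space S} (f : X ⟶ Y) (p : X ⟶ Z) (q : Y ⟶ Z)
    (hc : f ≫ q = p) (hq : AlgSp.LocP @Smooth q.hom) (hp : AlgSp.IsLCIMor p.hom) :
    AlgSp.IsLCIMor f.hom := by
  subst hc
  refine locP_of_comp_nobc AlgSp.lci @Smooth descendsEtale_lci ?_ Z.property f.hom q.hom hp hq
  intro A B C f' g' h1 (h2 : Smooth g')
  exact fun x => main9729 f' g' h1 x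

/-- S10665: a Koszul-regular immersion of algebraic spaces is an lci morphism. -/
theorem main10665 {X Y : AlgSp.Space S} (i : X ⟶ Y)
    (hi : AlgSp.IsRegImmMor RegImm.Kind.koszul i.hom) : AlgSp.IsLCIMor i.hom := by
  obtain ⟨hrep, hloc⟩ := hi
  intro U V a b h hae hbe comm
  have sq := hrep.isPullback b
  have hfst : RepWith @Etale (hrep.fst b) := repWith_fst_of_isPullback _ sq hbe
  let u : U ⟶ hrep.pullback b := hrep.lift a h comm
  have hu1 : (yon S).map u ≫ hrep.fst b = a := hrep.lift_fst a h comm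
  have hu2 : u ≫ hrep.snd b = h := hrep.lift_snd a h comm
  have hue : RepWith @Etale ((yon S).map u) :=
    Groth.Agent.Lib.AlgSpLocP_helper7.repWith_etale_of_comp _ (hrep.fst b)
      (by rw [hu1]; exact hae) hfst
  have hu : Etale u.left := (repWith_yon_map_iff _ _).1 hue
  have hs : RegImm.IsRegularImmersion .koszul (hrep.snd b).left :=
    hloc b (hrep.fst b) (hrep.snd b) hbe sq
  have e : h.left = u.left ≫ (hrep.snd b).left := by rw [← Over.comp_left, hu2]
  show AlgSp.lci h.left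
  rw [e]
  exact main8661 _ _ (fun x => koszulAt_of_smooth u.left x)
    (fun y => Groth.Agent.RegLCI.main9773 _ .koszul (Or.inr rfl) hs y)

end sp

end Groth.Agent.Lib.LCIZar
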