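import Mathlib
import Groth.Prelude.Def_RegImm

set_option autoImplicit false
universe u

namespace Groth.Agent.Lib.SyntAdjoinRoot

open Polynomial TensorProduct

/-- `MvPolynomial (Fin 1) k ≃ₐ[k] k[X]`. -/
noncomputable def mvEquiv (k : Type u) [CommRing k] : MvPolynomial (Fin 1) k ≃ₐ[k] k[X] :=
  AlgEquiv.ofAlgHom (MvPolynomial.aeval (fun _ => (X : k[X])))
    (Polynomial.aeval (MvPolynomial.X 0))
    (by ext; simp) (by ext i; simp [Subsingleton.elim i 0])

theorem isGlobalCI_of_surjective_aeval {k : Type u} [Field k] {T : Type u} [CommRing T]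
    [Algebra k T] [Module.Finite k T] [Nontrivial T] (α : T)
    (hsurj : Function.Surjective (Polynomial.aeval (R := k) α))
    (f : k[X]) (hf : f.Monic) (hfα : Polynomial.aeval α f = 0)
    (hdeg : f.natDegree = Module.finrank k T) : Synt.IsGlobalCI k T := by
  right
  have hroot : f.eval₂ (Algebra.ofId k T) α = 0 := by
    have := hfα
    rw [Polynomial.aeval_def] at this
    exact this
  let ψ : AdjoinRoot f →ₐ[k] T := AdjoinRoot.liftAlgHom f (Algebra.ofId k T) α hroot
  have hψmk : ∀ g : k[X], ψ (AdjoinRoot.mk f g) = Polynomial.aeval α g := fun g => by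
    rw [Polynomial.aeval_def]; rfl
  have hψsurj : Function.Surjective ψ := fun t => by
    obtain ⟨g, rfl⟩ := hsurj t
    exact ⟨AdjoinRoot.mk f g, hψmk g⟩
  haveI : Module.Finite k (AdjoinRoot f) := hf.finite_adjoinRoot
  have hfin : Module.finrank k (AdjoinRoot f) = Module.finrank k T := by
    rw [(AdjoinRoot.powerBasis' hf).finrank, AdjoinRoot.powerBasis'_dim, hdeg]
  have hψinj : Function.Injective ψ :=
    (LinearMap.injective_iff_surjective_of_finrank_eq_finrank (f := ψ.toLinearMap) hfin).mpr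
      hψsurj
  have hker : ∀ g : k[X], Polynomial.aeval α g = 0 ↔ f ∣ g := by
    intro g
    rw [← hψmk, ← AdjoinRoot.mk_eq_zero]
    exact ⟨fun h => hψinj (by rw [h, map_zero]), fun h => by rw [h, map_zero]⟩
  refine ⟨1, 1, le_rfl, (Polynomial.aeval α).comp (mvEquiv k).toAlgHom,
    fun _ => (mvEquiv k).symm f, ?_, ?_, ?_⟩
  · exact hsurj.comp (mvEquiv k).surjective
  · ext g
    rw [RingHom.mem_ker, Set.range_const, Ideal.mem_span_singleton]
    show Polynomial.aeval α (mvEquiv k g) = 0 ↔ _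
    rw [← map_dvd_iff (mvEquiv k), AlgEquiv.apply_symm_apply]
    exact hker (mvEquiv k g)
  · haveI : IsArtinianRing T := IsArtinianRing.of_finite k T
    haveI : Ring.KrullDimLE 0 T := (isArtinianRing_iff_isNoetherianRing_krullDimLE_zero.mp ‹_›).2
    have h1 : ringKrullDim T ≤ 0 := by
      have := (Ring.krullDimLE_iff (n := 0) (R := T)).mp ‹_›
      simpa using this
    have h2 : 0 ≤ ringKrullDim T := ringKrullDim_nonneg_of_nontrivial
    simpa using le_antisymm h1 h2

section Fibre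

variable {A : Type u} [CommRing A] (F : A[X]) (hF : F.Monic)
  (κ : Type u) [Field κ] [Algebra A κ]

theorem surjective_aeval_tmul_root :
    Function.Surjective (Polynomial.aeval (R := κ) ((1 : κ) ⊗ₜ[A] AdjoinRoot.root F)) := by
  intro t
  have key : ∀ g₀ : A[X], (1 : κ) ⊗ₜ[A] AdjoinRoot.mk F g₀ =
      Polynomial.aeval (R := κ) ((1 : κ) ⊗ₜ[A] AdjoinRoot.root F)
        (g₀.map (algebraMap A κ)) := by
    intro g₀
    rw [Polynomial.aeval_map_algebraMap, ← AdjoinRoot.aeval_eq]
    exact (Polynomial.aeval_algHom_apply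
      (Algebra.TensorProduct.includeRight : AdjoinRoot F →ₐ[A] κ ⊗[A] AdjoinRoot F)
      (AdjoinRoot.root F) g₀).symm
  suffices h : t ∈ (Polynomial.aeval (R := κ) ((1 : κ) ⊗ₜ[A] AdjoinRoot.root F)).range by
    obtain ⟨g, hg⟩ := h
    exact ⟨g, hg⟩
  induction t using TensorProduct.induction_on with
  | zero => exact zero_mem _
  | tmul c s =>
    obtain ⟨g₀, rfl⟩ := AdjoinRoot.mk_surjective s
    have : c ⊗ₜ[A] AdjoinRoot.mk F g₀ = c • ((1 : κ) ⊗ₜ[A] AdjoinRoot.mk F g₀) := by
      rw [TensorProduct.smul_tmul', smul_eq_mul, mul_one]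
    rw [this, key]
    exact Subalgebra.smul_mem _ (AlgHom.mem_range_self _ _) c
  | add x y hx hy => exact add_mem hx hy

include hF in
theorem isLCIOver_fibre (hpos : 0 < F.natDegree) :
    Synt.IsLCIOver κ (κ ⊗[A] AdjoinRoot F) := by
  have : Module.Finite A (AdjoinRoot F) := hF.finite_adjoinRoot
  have : Module.Free A (AdjoinRoot F) := hF.free_adjoinRoot
  haveI : Nontrivial A := (algebraMap A κ).domain_nontrivial
  refine ⟨inferInstance, fun 𝔮 => ⟨1, (Ideal.ne_top_iff_one _).mp 𝔮.isPrime.ne_top, ?_⟩⟩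
  -- the localization at 1
  let e : (κ ⊗[A] AdjoinRoot F) ≃ₐ[κ ⊗[A] AdjoinRoot F]
      Localization.Away (1 : κ ⊗[A] AdjoinRoot F) :=
    IsLocalization.atUnits _ (Submonoid.powers (1 : κ ⊗[A] AdjoinRoot F)) (by
      rintro x ⟨n, rfl⟩
      simp [IsUnit.mem_submonoid_iff])
  let eκ : (κ ⊗[A] AdjoinRoot F) ≃ₐ[κ] Localization.Away (1 : κ ⊗[A] AdjoinRoot F) :=
    e.restrictScalars κ
  haveI : Module.Finite κ (Localization.Away (1 : κ ⊗[A] AdjoinRoot F)) :=
    Module.Finite.equiv eκ.toLinearEquiv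
  have hrank : Module.finrank κ (Localization.Away (1 : κ ⊗[A] AdjoinRoot F)) = F.natDegree := by
    rw [← eκ.toLinearEquiv.finrank_eq, Module.finrank_baseChange,
      (AdjoinRoot.powerBasis' hF).finrank, AdjoinRoot.powerBasis'_dim]
  haveI : Nontrivial (Localization.Away (1 : κ ⊗[A] AdjoinRoot F)) :=
    Module.nontrivial_of_finrank_pos (R := κ) (by rw [hrank]; exact hpos)
  have haeval : ∀ g : κ[X], Polynomial.aeval (eκ ((1 : κ) ⊗ₜ[A] AdjoinRoot.root F)) g =
      eκ (Polynomial.aeval ((1 : κ) ⊗ₜ[A] AdjoinRoot.root F) g) := fun g =>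
    Polynomial.aeval_algHom_apply eκ.toAlgHom _ g
  refine isGlobalCI_of_surjective_aeval (eκ ((1 : κ) ⊗ₜ[A] AdjoinRoot.root F)) ?_
    (F.map (algebraMap A κ)) (hF.map _) ?_ ?_
  · intro t
    obtain ⟨t₀, rfl⟩ := eκ.surjective t
    obtain ⟨g, rfl⟩ := surjective_aeval_tmul_root F κ t₀
    exact ⟨g, haeval g⟩
  · rw [haeval, Polynomial.aeval_map_algebraMap]
    have h0 : Polynomial.aeval ((1 : κ) ⊗ₜ[A] AdjoinRoot.root F) F = 0 := by
      have := Polynomial.aeval_algHom_apply
        (Algebra.TensorProduct.includeRight : AdjoinRoot F →ₐ[A] κ ⊗[A] AdjoinRoot F)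
        (AdjoinRoot.root F) F
      rw [AdjoinRoot.aeval_eq, AdjoinRoot.mk_self, map_zero] at this
      exact this
    rw [h0, map_zero]
  · rw [hrank, hF.natDegree_map]

include hF in
theorem isSyntomic_and_faithfullyFlat (hpos : 0 < F.natDegree) :
    Synt.IsSyntomic A (AdjoinRoot F) ∧ Module.FaithfullyFlat A (AdjoinRoot F) := by
  have : Module.Finite A (AdjoinRoot F) := hF.finite_adjoinRoot
  have : Module.Free A (AdjoinRoot F) := hF.free_adjoinRoot
  refine ⟨⟨inferInstance, inferInstance, fun P => ?_⟩, ?_⟩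
  · exact isLCIOver_fibre F hF P.asIdeal.ResidueField hpos
  · haveI : Nonempty (Fin (AdjoinRoot.powerBasis' hF).dim) :=
      ⟨⟨0, by rw [AdjoinRoot.powerBasis'_dim]; exact hpos⟩⟩
    exact Module.FaithfullyFlat.of_linearEquiv _ _ (AdjoinRoot.powerBasis' hF).basis.repr

end Fibre

theorem main (p : ℕ) [Fact p.Prime] (A : Type u) [CommRing A] (a : A) :
    Synt.IsSyntomic A (AdjoinRoot (X ^ p - C a)) ∧
      Module.FaithfullyFlat A (AdjoinRoot (X ^ p - C a)) := by
  have hp : p ≠ 0 := (Fact.out : p.Prime).ne_zero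
  rcases subsingleton_or_nontrivial A with hA | hA
  · -- trivial ring: fibres over an empty spectrum
    haveI : Module.Finite A (AdjoinRoot (X ^ p - C a)) :=
      (Polynomial.monic_X_pow_sub_C a hp).finite_adjoinRoot
    haveI : Module.Free A (AdjoinRoot (X ^ p - C a)) :=
      (Polynomial.monic_X_pow_sub_C a hp).free_adjoinRoot
    refine ⟨⟨inferInstance, inferInstance, fun P => ?_⟩, ?_⟩
    · exact absurd (Subsingleton.elim (0 : A) 1 ▸ P.asIdeal.zero_mem)
        ((Ideal.ne_top_iff_one _).mp P.isPrime.ne_top)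
    · refine ⟨fun {m} hm => ?_⟩
      exact absurd (Subsingleton.elim (0 : A) 1 ▸ m.zero_mem) ((Ideal.ne_top_iff_one _).mp hm.ne_top)
  · refine isSyntomic_and_faithfullyFlat _ (Polynomial.monic_X_pow_sub_C a hp) ?_
    rw [Polynomial.natDegree_X_pow_sub_C]
    exact Nat.pos_of_ne_zero hp

end Groth.Agent.Lib.SyntAdjoinRoot
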