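import Mathlib
import Groth.Prelude.Def_RegImm
import Groth.Agent.Lib.SyntAdjoinRoot_lead

set_option autoImplicit false
universe u

open AlgebraicGeometry CategoryTheory TensorProduct Opposite

namespace Groth.Agent.Lib.SyntCover_lead

section Transport

theorem isGlobalCI_of_algEquiv {k : Type u} [Field k] {L L' : Type u} [CommRing L] [CommRing L']
    [Algebra k L] [Algebra k L'] (e : L ≃ₐ[k] L') (h : Synt.IsGlobalCI k L) :
    Synt.IsGlobalCI k L' := by
  rcases h with h | ⟨n, c, hcn, φ, r, hφ, hker, hdim⟩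
  · left
    haveI := h
    exact e.symm.injective.subsingleton
  · right
    refine ⟨n, c, hcn, e.toAlgHom.comp φ, r, e.surjective.comp hφ, ?_, ?_⟩
    · rw [← hker]
      ext x
      rw [RingHom.mem_ker, RingHom.mem_ker]
      show e (φ x) = 0 ↔ φ x = 0
      exact map_eq_zero_iff e e.injective
    · rw [← hdim]
      exact (ringKrullDim_eq_of_ringEquiv e.toRingEquiv).symm

theorem isLCIOver_of_algEquiv {k : Type u} [Field k] {F F' : Type u} [CommRing F] [CommRing F']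
    [Algebra k F] [Algebra k F'] (e : F ≃ₐ[k] F') (h : Synt.IsLCIOver k F) :
    Synt.IsLCIOver k F' := by
  obtain ⟨hft, hloc⟩ := h
  refine ⟨hft.equiv e, fun 𝔮' => ?_⟩
  obtain ⟨g, hg, hG⟩ := hloc (PrimeSpectrum.comap (e : F →+* F') 𝔮')
  refine ⟨e g, hg, ?_⟩
  let ρ : Localization.Away g ≃+* Localization.Away (e g) :=
    IsLocalization.ringEquivOfRingEquiv _ _ e.toRingEquiv (Submonoid.map_powers e.toRingEquiv g)
  have hρ : ∀ x : F, ρ (algebraMap F (Localization.Away g) x) =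
      algebraMap F' (Localization.Away (e g)) (e x) := fun x =>
    IsLocalization.ringEquivOfRingEquiv_eq _ x
  let ρk : Localization.Away g ≃ₐ[k] Localization.Away (e g) :=
    AlgEquiv.ofRingEquiv (f := ρ) (fun x => by
      rw [IsScalarTower.algebraMap_apply k F (Localization.Away g), hρ, AlgEquiv.commutes,
        ← IsScalarTower.algebraMap_apply])
  exact isGlobalCI_of_algEquiv ρk hG

theorem isSyntomic_of_algEquiv {R S S' : Type u} [CommRing R] [CommRing S] [CommRing S']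
    [Algebra R S] [Algebra R S'] (e : S ≃ₐ[R] S') (h : Synt.IsSyntomic R S) :
    Synt.IsSyntomic R S' := by
  obtain ⟨hfl, hfp, hfib⟩ := h
  haveI := hfl
  haveI := hfp
  refine ⟨Module.Flat.of_linearEquiv e.symm.toLinearEquiv, Algebra.FinitePresentation.equiv e,
    fun p => ?_⟩
  exact isLCIOver_of_algEquiv (Algebra.TensorProduct.congr AlgEquiv.refl e) (hfib p)

end Transport

theorem root_pow {A : Type u} [CommRing A] (p : ℕ) (c : A) :
    (AdjoinRoot.root (Polynomial.X ^ p - Polynomial.C c : Polynomial A)) ^ p =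
      algebraMap A (AdjoinRoot (Polynomial.X ^ p - Polynomial.C c : Polynomial A)) c := by
  have h := AdjoinRoot.mk_self (f := (Polynomial.X ^ p - Polynomial.C c : Polynomial A))
  rw [map_sub, map_pow, AdjoinRoot.mk_X, AdjoinRoot.mk_C, sub_eq_zero] at h
  rw [h, AdjoinRoot.algebraMap_eq]

section Cover

variable (p : ℕ) {Z : Scheme.{u}} (a : Γ(Z, ⊤)) (U : Z.Opens)

/-- the restriction of `a` to `U`. -/
noncomputable def aU : Γ(Z, U) := (Z.presheaf.map (homOfLE (le_top : U ≤ ⊤)).op).hom a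

/-- `Γ(Z, U)[T]/(T^p - a)`. -/
noncomputable abbrev SR : Type u :=
  AdjoinRoot (Polynomial.X ^ p - Polynomial.C (aU a U) : Polynomial Γ(Z, U))

/-- the structure map. -/
noncomputable def φ : Γ(Z, U) ⟶ CommRingCat.of (SR p a U) :=
  CommRingCat.ofHom (algebraMap Γ(Z, U) (SR p a U))

/-- the member of the cover attached to the affine open `U`. -/
noncomputable def fU (hU : IsAffineOpen U) : Spec (CommRingCat.of (SR p a U)) ⟶ Z :=
  Spec.map (φ p a U) ≫ hU.fromSpec

theorem le_preimage (hU : IsAffineOpen U) :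
    (⊤ : (Spec (CommRingCat.of (SR p a U))).Opens) ≤ (fU p a U hU) ⁻¹ᵁ U := by
  have h1 : (fU p a U hU) ⁻¹ᵁ U = (Spec.map (φ p a U)) ⁻¹ᵁ (hU.fromSpec ⁻¹ᵁ U) := rfl
  rw [h1, hU.fromSpec_preimage_self]
  exact le_rfl

theorem appLE_fU (hU : IsAffineOpen U)
    (e : (⊤ : (Spec (CommRingCat.of (SR p a U))).Opens) ≤ (fU p a U hU) ⁻¹ᵁ U) :
    (fU p a U hU).appLE U ⊤ e =
      φ p a U ≫ (Scheme.ΓSpecIso (CommRingCat.of (SR p a U))).inv := by
  have h1 := IsAffineOpen.SpecMap_appLE_fromSpec (fU p a U hU) hU (isAffineOpen_top _) e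
  have h2 : (isAffineOpen_top (Spec (CommRingCat.of (SR p a U)))).fromSpec ≫ fU p a U hU =
      Spec.map (φ p a U ≫ (Scheme.ΓSpecIso (CommRingCat.of (SR p a U))).inv) ≫ hU.fromSpec := by
    rw [IsAffineOpen.fromSpec_top, Scheme.isoSpec_Spec_inv, Spec.map_comp, Category.assoc]
    rfl
  exact Spec.map_injective ((cancel_mono hU.fromSpec).mp (h1.trans h2))

theorem fU_covers [Fact p.Prime] (hU : IsAffineOpen U) (x : Z) (hx : x ∈ U) :
    ∃ y, (fU p a U hU) y = x := by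
  have hx' : x ∈ Set.range hU.fromSpec := by
    rw [hU.range_fromSpec]
    exact hx
  obtain ⟨z, rfl⟩ := hx'
  haveI hff : Module.FaithfullyFlat Γ(Z, U) (SR p a U) :=
    (Groth.Agent.Lib.SyntAdjoinRoot.main p Γ(Z, U) (aU a U)).2
  obtain ⟨y, hy⟩ := PrimeSpectrum.comap_surjective_of_faithfullyFlat
    (A := Γ(Z, U)) (B := SR p a U) z
  refine ⟨y, ?_⟩
  rw [fU, Scheme.Hom.comp_apply]
  congr 1

theorem isSyntomicMor_fU [Fact p.Prime] (hU : IsAffineOpen U) :
    Synt.IsSyntomicMor (fU p a U hU) := by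
  intro y
  have e := le_preimage p a U hU
  refine ⟨⟨⊤, isAffineOpen_top _⟩, ⟨U, hU⟩, e, TopologicalSpace.Opens.mem_top y, ?_⟩
  letI alg : Algebra Γ(Z, U) Γ(Spec (CommRingCat.of (SR p a U)), ⊤) :=
    ((fU p a U hU).appLE U ⊤ e).hom.toAlgebra
  let β : SR p a U ≃ₐ[Γ(Z, U)] Γ(Spec (CommRingCat.of (SR p a U)), ⊤) :=
    AlgEquiv.ofRingEquiv
      (f := (Scheme.ΓSpecIso (CommRingCat.of (SR p a U))).symm.commRingCatIsoToRingEquiv)
      (fun r => by
        show (Scheme.ΓSpecIso (CommRingCat.of (SR p a U))).inv.hom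
            (algebraMap Γ(Z, U) (SR p a U) r) = ((fU p a U hU).appLE U ⊤ e).hom r
        rw [appLE_fU]
        rfl)
  exact isSyntomic_of_algEquiv β (Groth.Agent.Lib.SyntAdjoinRoot.main p Γ(Z, U) (aU a U)).1

theorem b_pow (hU : IsAffineOpen U) :
    ∃ b : Γ(Spec (CommRingCat.of (SR p a U)), ⊤), b ^ p = (fU p a U hU).appTop a := by
  have e := le_preimage p a U hU
  have h1 : Z.presheaf.map (homOfLE (le_top : U ≤ ⊤)).op ≫ (fU p a U hU).appLE U ⊤ e =
      (fU p a U hU).appTop := by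
    rw [Scheme.Hom.map_appLE]
    exact (fU p a U hU).appLE_eq_app
  refine ⟨(Scheme.ΓSpecIso (CommRingCat.of (SR p a U))).inv (AdjoinRoot.root _), ?_⟩
  rw [← h1, appLE_fU, ← map_pow, root_pow]
  rfl

end Cover

theorem main (p : ℕ) [Fact p.Prime] (Z : Scheme.{u}) (a : Γ(Z, ⊤)) :
    ∃ 𝒰 : Scheme.Cover.{u} (Scheme.precoverage @Synt.IsSyntomicMor) Z,
      ∀ i : 𝒰.I₀, ∃ b : Γ(𝒰.X i, ⊤), b ^ p = (𝒰.f i).appTop a := by
  refine ⟨Scheme.Cover.mkOfCovers (J := Z.affineOpens)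
    (fun U => Spec (CommRingCat.of (SR p a U.1))) (fun U => fU p a U.1 U.2) ?_ ?_, ?_⟩
  · intro x
    obtain ⟨W, hW, hxW, -⟩ := exists_isAffineOpen_mem_and_subset (x := x) (U := ⊤) trivial
    obtain ⟨y, hy⟩ := fU_covers p a W hW x hxW
    exact ⟨⟨W, hW⟩, y, hy⟩
  · intro U
    exact isSyntomicMor_fU p a U.1 U.2
  · intro U
    exact b_pow p a U.1 U.2

end Groth.Agent.Lib.SyntCover_lead
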