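import Mathlib
import Groth.Prelude
import Groth.Agent.Lib.EtaleDiffCrit_helper3
import Groth.Agent.Lib.SyntCover_lead

/-!
# Smooth ⇒ syntomic (S9699, S9429) — helper4
-/

set_option autoImplicit false
universe u
open CategoryTheory CategoryTheory.Limits AlgebraicGeometry TopologicalSpace Opposite TensorProduct

namespace Groth.Agent.Lib.SmoothSyntH4

/-- A nonzero standard smooth algebra of relative dimension `d` over a field has Krull
dimension `d`. -/
theorem ringKrullDim_of_relDim (k : Type u) [Field k] (F : Type u) [CommRing F] [Algebra k F]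
    [Nontrivial F] (d : ℕ) [Algebra.IsStandardSmoothOfRelativeDimension d k F] :
    ringKrullDim F = (d : WithBot ℕ∞) := by
  obtain ⟨g, hg⟩ := Algebra.IsStandardSmoothOfRelativeDimension.exists_etale_mvPolynomial d k F
  letI algPF : Algebra (MvPolynomial (Fin d) k) F := g.toRingHom.toAlgebra
  haveI : IsScalarTower k (MvPolynomial (Fin d) k) F :=
    IsScalarTower.of_algebraMap_eq' g.comp_algebraMap.symm
  haveI hEt : Algebra.Etale (MvPolynomial (Fin d) k) F := hg
  haveI : Algebra.FiniteType (MvPolynomial (Fin d) k) F := inferInstance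
  have hm : ∀ (m : Ideal F) [m.IsMaximal], m.height = (d : ℕ∞) := by
    intro m _
    have h1 := Groth.Agent.Lib.EtaleDiffCritH3.ringKrullDim_of_etale k d F m
    rw [IsLocalization.AtPrime.ringKrullDim_eq_height m (Localization.AtPrime m)] at h1
    exact_mod_cast h1
  apply le_antisymm
  · rw [ringKrullDim_le_iff_isMaximal_height_le]
    intro m hm'
    haveI := hm'
    rw [hm m]
    exact_mod_cast le_rfl
  · obtain ⟨m, hm'⟩ := Ideal.exists_maximal F
    haveI := hm'
    have h2 := Ideal.height_le_ringKrullDim_of_isPrime (I := m)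
    rw [hm m] at h2
    exact_mod_cast h2

/-- A standard smooth algebra over a field is a global complete intersection. -/
theorem isGlobalCI_of_isStandardSmooth (k : Type u) [Field k] (F : Type u) [CommRing F]
    [Algebra k F] [Algebra.IsStandardSmooth k F] : Synt.IsGlobalCI k F := by
  classical
  by_cases hsub : Subsingleton F
  · exact Or.inl hsub
  haveI : Nontrivial F := not_subsingleton_iff_nontrivial.mp hsub
  obtain ⟨ι, σ, hσ, hι, ⟨P⟩⟩ := (inferInstance : Algebra.IsStandardSmooth k F).out
  haveI := hσ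
  haveI := hι
  right
  obtain ⟨eσ⟩ : Nonempty (σ ≃ Fin (Nat.card σ)) := ⟨Finite.equivFin σ⟩
  obtain ⟨E⟩ : Nonempty (MvPolynomial ι k ≃ₐ[k] MvPolynomial (Fin (Nat.card ι)) k) :=
    ⟨MvPolynomial.renameEquiv k (Finite.equivFin ι)⟩
  have hcn : Nat.card σ ≤ Nat.card ι := Nat.card_le_card_of_injective P.map P.map_inj
  refine ⟨Nat.card ι, Nat.card σ, hcn, (MvPolynomial.aeval P.val).comp E.symm.toAlgHom,
    fun j => E (P.relation (eσ.symm j)), ?_, ?_, ?_⟩
  · exact P.aeval_val_surjective.comp E.symm.surjective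
  · apply le_antisymm
    · intro x hx
      have hx' : MvPolynomial.aeval P.val (E.symm x) = 0 := RingHom.mem_ker.mp hx
      have hy : E.symm x ∈ Ideal.span (Set.range P.relation) := by
        rw [P.span_range_relation_eq_ker, P.ker_eq_ker_aeval_val]
        exact RingHom.mem_ker.mpr hx'
      have hxE : x = E (E.symm x) := (E.apply_symm_apply x).symm
      rw [hxE]
      refine Submodule.span_induction
        (p := fun (y : MvPolynomial ι k) (_ : y ∈ Ideal.span (Set.range P.relation)) =>
          E y ∈ Ideal.span (Set.range fun j => E (P.relation (eσ.symm j)))) ?_ ?_ ?_ ?_ hy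
      · rintro _ ⟨i, rfl⟩
        refine Ideal.subset_span ⟨eσ i, ?_⟩
        show E (P.relation (eσ.symm (eσ i))) = E (P.relation i)
        rw [Equiv.symm_apply_apply]
      · rw [map_zero]; exact Ideal.zero_mem _
      · intro a b _ _ ha hb
        rw [map_add]; exact Ideal.add_mem _ ha hb
      · intro a b _ hb
        rw [smul_eq_mul, map_mul]; exact Ideal.mul_mem_left _ _ hb
    · rw [Ideal.span_le]
      rintro _ ⟨j, rfl⟩
      refine RingHom.mem_ker.mpr ?_
      show MvPolynomial.aeval P.val (E.symm (E (P.relation (eσ.symm j)))) = 0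
      rw [E.symm_apply_apply]
      exact P.aeval_val_relation _
  · haveI : Algebra.IsStandardSmoothOfRelativeDimension (Nat.card ι - Nat.card σ) k F :=
      ⟨ι, σ, hσ, hι, P, rfl⟩
    exact ringKrullDim_of_relDim k F _

theorem isLCIOver_of_isStandardSmooth (k : Type u) [Field k] (F : Type u) [CommRing F]
    [Algebra k F] [Algebra.IsStandardSmooth k F] : Synt.IsLCIOver k F := by
  refine ⟨inferInstance, fun q => ⟨1, (Ideal.ne_top_iff_one _).mp q.isPrime.ne_top, ?_⟩⟩
  let e : F ≃ₐ[F] Localization.Away (1 : F) :=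
    IsLocalization.atUnits _ (Submonoid.powers (1 : F)) (by
      rintro x ⟨n, rfl⟩
      simp [IsUnit.mem_submonoid_iff])
  exact Groth.Agent.Lib.SyntCover_lead.isGlobalCI_of_algEquiv (e.restrictScalars k)
    (isGlobalCI_of_isStandardSmooth k F)

theorem main9429 (k : Type u) [Field k] (S : Type u) [CommRing S] [Algebra k S]
    [Algebra.Smooth k S] : Synt.IsLCIOver k S := by
  refine ⟨inferInstance, fun q => ?_⟩
  haveI : Algebra.IsSmoothAt k q.asIdeal := by
    have hq : q ∈ Algebra.smoothLocus k S := by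
      rw [Algebra.smoothLocus_eq_univ]; trivial
    exact hq
  obtain ⟨f, hf, hstd⟩ := Algebra.IsSmoothAt.exists_notMem_isStandardSmooth k q.asIdeal
  haveI := hstd
  exact ⟨f, hf, isGlobalCI_of_isStandardSmooth k (Localization.Away f)⟩

theorem isSyntomic_of_isStandardSmooth (A B : Type u) [CommRing A] [CommRing B] [Algebra A B]
    [Algebra.IsStandardSmooth A B] : Synt.IsSyntomic A B := by
  haveI : Algebra.Smooth A B := inferInstance
  refine ⟨inferInstance, inferInstance, fun p => ?_⟩
  haveI : Algebra.IsStandardSmooth p.asIdeal.ResidueField (p.asIdeal.Fiber B) := inferInstance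
  exact isLCIOver_of_isStandardSmooth _ _

theorem main9699 {X S : Scheme.{u}} (f : X ⟶ S) [Smooth f] : Synt.IsSyntomicMor f := by
  intro x
  obtain ⟨V, hV, U, hU, hxU, e, hstd⟩ := Smooth.exists_isStandardSmooth f x
  refine ⟨⟨U, hU⟩, ⟨V, hV⟩, e, hxU, ?_⟩
  letI := (f.appLE V U e).hom.toAlgebra
  haveI : Algebra.IsStandardSmooth Γ(S, V) Γ(X, U) := hstd
  exact isSyntomic_of_isStandardSmooth Γ(S, V) Γ(X, U)

end Groth.Agent.Lib.SmoothSyntH4
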