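import Mathlib
import Groth.Prelude.Def_DRing2
import Groth.Prelude.Def_DDual2
import Groth.Prelude.Def_Wider
import Groth.Agent.Lib.DMod47_helper6
import Groth.Agent.Lib.DMod90_helper6

/-!
# Derived category toolkit (helper6), part 117: exact auto-equivalences of `ModuleCat A` act on
dualizing complexes; twisting a dualizing complex by an invertible module (S11183).
-/

set_option autoImplicit false
universe u
open CategoryTheory CategoryTheory.Limits DerivedCategory Pretriangulated ZeroObject
open scoped Pointwise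
attribute [local instance] HasDerivedCategory.standard

namespace Groth.Agent.Lib.DMod_helper6

open DRing

section Exact

variable {A : Type u} [CommRing A]

variable (F G : ModuleCat.{u} A ⥤ ModuleCat.{u} A) [F.Additive] [G.Additive]

/-- a natural isomorphism `F ⋙ G ≅ 𝟭` induces one on complexes -/
noncomputable def mapHCCompIso (θ : F ⋙ G ≅ 𝟭 (ModuleCat.{u} A)) :
    F.mapHomologicalComplex (ComplexShape.up ℤ) ⋙ G.mapHomologicalComplex (ComplexShape.up ℤ) ≅
      𝟭 (Cx A) :=
  NatIso.ofComponents (fun X => HomologicalComplex.Hom.isoOfComponents (fun i => θ.app (X.X i))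
    (fun i j _ => (θ.hom.naturality (X.d i j)).symm))
    (fun {X Y} f => by
      refine HomologicalComplex.hom_ext _ _ (fun i => ?_)
      exact θ.hom.naturality (f.f i))

variable [PreservesFiniteLimits F] [PreservesFiniteColimits F] [PreservesFiniteLimits G]
  [PreservesFiniteColimits G]

/-- a natural isomorphism `F ⋙ G ≅ 𝟭` of exact functors induces one on derived categories -/
noncomputable def mapDCompIso (θ : F ⋙ G ≅ 𝟭 (ModuleCat.{u} A)) :
    F.mapDerivedCategory ⋙ G.mapDerivedCategory ≅ 𝟭 (Dual.D A) := by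
  letI : Localization.Lifting DerivedCategory.Q
      (HomologicalComplex.quasiIso (ModuleCat.{u} A) (ComplexShape.up ℤ))
      (F.mapHomologicalComplex (ComplexShape.up ℤ) ⋙
        (G.mapHomologicalComplex (ComplexShape.up ℤ) ⋙ DerivedCategory.Q))
      (F.mapDerivedCategory ⋙ G.mapDerivedCategory) :=
    ⟨(Functor.associator _ _ _).symm ≪≫ Functor.isoWhiskerRight F.mapDerivedCategoryFactors _ ≪≫
      Functor.associator _ _ _ ≪≫ Functor.isoWhiskerLeft _ G.mapDerivedCategoryFactors⟩
  exact Localization.liftNatIso DerivedCategory.Q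
    (HomologicalComplex.quasiIso (ModuleCat.{u} A) (ComplexShape.up ℤ))
    (F.mapHomologicalComplex (ComplexShape.up ℤ) ⋙
      (G.mapHomologicalComplex (ComplexShape.up ℤ) ⋙ DerivedCategory.Q))
    DerivedCategory.Q _ _
    ((Functor.associator _ _ _).symm ≪≫ Functor.isoWhiskerRight (mapHCCompIso F G θ) _ ≪≫
      Functor.leftUnitor _)

lemma isEquivalence_mapD (θ : F ⋙ G ≅ 𝟭 (ModuleCat.{u} A)) (θ' : G ⋙ F ≅ 𝟭 (ModuleCat.{u} A)) :
    F.mapDerivedCategory.IsEquivalence :=
  (CategoryTheory.Equivalence.mk F.mapDerivedCategory G.mapDerivedCategory (mapDCompIso F G θ).symm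
    (mapDCompIso G F θ')).isEquivalence_functor

omit [G.Additive] [PreservesFiniteLimits G] [PreservesFiniteColimits G] in
/-- cohomology commutes with an exact functor -/
lemma nonempty_HD_mapD_iso (K : Dual.D A) (i : ℤ) :
    Nonempty ((homologyFunctor (ModuleCat.{u} A) i).obj (F.mapDerivedCategory.obj K) ≅
      F.obj ((homologyFunctor (ModuleCat.{u} A) i).obj K)) := by
  let C : Cx A := DerivedCategory.Q.objPreimage K
  let eC : DerivedCategory.Q.obj C ≅ K := DerivedCategory.Q.objObjPreimageIso K
  let e1 : (homologyFunctor (ModuleCat.{u} A) i).obj (F.mapDerivedCategory.obj K) ≅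
      ((F.mapHomologicalComplex (ComplexShape.up ℤ)).obj C).homology i :=
    (homologyFunctor (ModuleCat.{u} A) i).mapIso
      (F.mapDerivedCategory.mapIso eC.symm ≪≫ F.mapDerivedCategoryFactors.app C) ≪≫
      (homologyFunctorFactors (ModuleCat.{u} A) i).app _
  let e2 : ((F.mapHomologicalComplex (ComplexShape.up ℤ)).obj C).homology i ≅
      F.obj (C.homology i) := (C.sc i).mapHomologyIso F
  let e3 : C.homology i ≅ (homologyFunctor (ModuleCat.{u} A) i).obj K :=
    ((homologyFunctorFactors (ModuleCat.{u} A) i).app C).symm ≪≫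
      (homologyFunctor (ModuleCat.{u} A) i).mapIso eC
  exact ⟨e1 ≪≫ e2 ≪≫ F.mapIso e3⟩

/-- an exact linear auto-equivalence of `ModuleCat A` preserving finiteness sends dualizing complexes
to dualizing complexes -/
theorem isDualizing_mapD [F.Linear A] (θ : F ⋙ G ≅ 𝟭 (ModuleCat.{u} A))
    (θ' : G ⋙ F ≅ 𝟭 (ModuleCat.{u} A))
    (hfin : ∀ X : ModuleCat.{u} A, Module.Finite A X → Module.Finite A (F.obj X))
    (ω : Dual.D A) (hω : Dual.IsDualizing A ω) :
    Dual.IsDualizing A (F.mapDerivedCategory.obj ω) := by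
  haveI := isEquivalence_mapD F G θ θ'
  haveI := isEquivalence_mapD G F θ' θ
  obtain ⟨a, b, hab⟩ := hω.finite_injective_dimension
  refine ⟨hω.isNoetherianRing, ⟨a, b, fun M _ _ i hi => ?_⟩, fun i => ?_, ?_, fun i hi => ?_⟩
  · have e1 : G.mapDerivedCategory.obj (Dual.inD A M) ≅
        (DerivedCategory.singleFunctor (ModuleCat.{u} A) 0).obj (G.obj (ModuleCat.of A M)) :=
      (G.mapDerivedCategorySingleFunctor 0).app (ModuleCat.of A M)
    have e2 : G.mapDerivedCategory.obj ((F.mapDerivedCategory.obj ω)⟦i⟧) ≅ ω⟦i⟧ :=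
      (G.mapDerivedCategory.commShiftIso i).app (F.mapDerivedCategory.obj ω) ≪≫
        (shiftFunctor (Dual.D A) i).mapIso ((mapDCompIso F G θ).app ω)
    have hsub : Subsingleton ((DerivedCategory.singleFunctor (ModuleCat.{u} A) 0).obj
        (G.obj (ModuleCat.of A M)) ⟶ ω⟦i⟧) := hab (G.obj (ModuleCat.of A M)) i hi
    refine ⟨fun f g => ?_⟩
    apply G.mapDerivedCategory.map_injective
    rw [← cancel_mono e2.hom, ← cancel_epi e1.inv]
    exact Subsingleton.elim _ _
  · obtain ⟨e⟩ := nonempty_HD_mapD_iso F ω i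
    exact finite_of_iso e.symm (hfin _ (hω.finite_cohomology i))
  · have h1 : (fun a : A => a • 𝟙 (F.mapDerivedCategory.obj ω)) =
        (fun f : ω ⟶ ω => F.mapDerivedCategory.map f) ∘ (fun a : A => a • 𝟙 ω) := by
      funext a
      simp only [Function.comp]
      rw [Functor.map_smul, CategoryTheory.Functor.map_id]
    rw [h1]
    exact Function.Bijective.comp (⟨F.mapDerivedCategory.map_injective,
      F.mapDerivedCategory.map_surjective⟩ :
      Function.Bijective (F.mapDerivedCategory.map (X := ω) (Y := ω))) hω.toEnd_bijective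
  · haveI := hω.ext_self_subsingleton i hi
    refine ⟨fun f g => ?_⟩
    let c : (F.mapDerivedCategory.obj ω)⟦i⟧ ≅ F.mapDerivedCategory.obj (ω⟦i⟧) :=
      ((F.mapDerivedCategory.commShiftIso i).app ω).symm
    obtain ⟨f₀, hf₀⟩ := F.mapDerivedCategory.map_surjective (f ≫ c.hom)
    obtain ⟨g₀, hg₀⟩ := F.mapDerivedCategory.map_surjective (g ≫ c.hom)
    rw [← cancel_mono c.hom, ← hf₀, ← hg₀, Subsingleton.elim f₀ g₀]

end Exact

section Twist

open MonoidalCategory

variable {A : Type u} [CommRing A]

/-- for flat `M`, `K ⊗^L M` is the image of `K` under the functor induced by the exact functor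
`- ⊗ M` -/
lemma nonempty_lTensor_iso_mapD (M : ModuleCat.{u} A) [Module.Flat A M] [HasLTensor A M]
    (K : Dual.D A) :
    Nonempty ((LTensor A M).obj K ≅ (tensorRight M).mapDerivedCategory.obj K) := by
  let C : Cx A := DerivedCategory.Q.objPreimage K
  let eC : DerivedCategory.Q.obj C ≅ K := DerivedCategory.Q.objObjPreimageIso K
  obtain ⟨e⟩ := nonempty_leftDerived_iso_of_preservesHomology (tensorRight M) C
  exact ⟨(LTensor A M).mapIso eC.symm ≪≫ e ≪≫
    ((tensorRight M).mapDerivedCategoryFactors.app C).symm ≪≫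
    (tensorRight M).mapDerivedCategory.mapIso eC⟩

/-- the natural isomorphism `(- ⊗ M) ⊗ N ≅ 𝟭` attached to `M ⊗ N ≅ 𝟙` -/
noncomputable def tensorRightCompIso (M N : ModuleCat.{u} A) (e : M ⊗ N ≅ 𝟙_ (ModuleCat.{u} A)) :
    tensorRight M ⋙ tensorRight N ≅ 𝟭 (ModuleCat.{u} A) :=
  (tensorRightTensor M N).symm ≪≫ (tensoringRight (ModuleCat.{u} A)).mapIso e ≪≫
    rightUnitorNatIso (ModuleCat.{u} A)

/-- S11183 without the shift. -/
theorem isDualizing_lTensor_invertible (ω : Dual.D A) (hω : Dual.IsDualizing A ω) (P : Type u)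
    [AddCommGroup P] [Module A P] [Module.Invertible A P] [HasLTensor A (ModuleCat.of A P)] :
    Dual.IsDualizing A ((LTensor A (ModuleCat.of A P)).obj ω) := by
  haveI : Module.Flat A (ModuleCat.of A P) := (inferInstance : Module.Flat A P)
  haveI : Module.Flat A (ModuleCat.of A (Module.Dual A P)) :=
    (inferInstance : Module.Flat A (Module.Dual A P))
  let e : ModuleCat.of A P ⊗ ModuleCat.of A (Module.Dual A P) ≅ 𝟙_ (ModuleCat.{u} A) :=
    ((TensorProduct.comm A P (Module.Dual A P)).trans
      (Module.Invertible.linearEquiv A P)).toModuleIso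
  let e' : ModuleCat.of A (Module.Dual A P) ⊗ ModuleCat.of A P ≅ 𝟙_ (ModuleCat.{u} A) :=
    (Module.Invertible.linearEquiv A P).toModuleIso
  have hfin : ∀ X : ModuleCat.{u} A, Module.Finite A X →
      Module.Finite A ((tensorRight (ModuleCat.of A P)).obj X) := by
    intro X hX
    haveI := hX
    exact (inferInstance : Module.Finite A (TensorProduct A X P))
  have h1 := isDualizing_mapD (tensorRight (ModuleCat.of A P))
    (tensorRight (ModuleCat.of A (Module.Dual A P)))
    (tensorRightCompIso _ _ e) (tensorRightCompIso _ _ e') hfin ω hω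
  obtain ⟨ι⟩ := nonempty_lTensor_iso_mapD (ModuleCat.of A P) ω
  exact isDualizing_of_iso ι.symm h1

end Twist

end Groth.Agent.Lib.DMod_helper6
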