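import Mathlib
import Groth.Prelude.Def_DRing2
import Groth.Prelude.Def_DDual2
import Groth.Prelude.Def_Wider
import Groth.Agent.Lib.DMod79_helper6
import Groth.Agent.Lib.DMod88_helper6
import Groth.Agent.Lib.DMod94_helper6
import Groth.Agent.Lib.DMod117_helper6

/-!
# Derived category toolkit (helper6), part 118: uniqueness of the invertible twist and the shift of
a dualizing complex (S11187): `(ω ⊗ P)[n] ≅ (ω ⊗ P')[n']` forces `n = n'` and `P ≅ P'`.
-/

set_option autoImplicit false
universe u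
open CategoryTheory CategoryTheory.Limits DerivedCategory Pretriangulated ZeroObject
open scoped Pointwise TensorProduct
attribute [local instance] HasDerivedCategory.standard

namespace Groth.Agent.Lib.DMod_helper6

open DRing MonoidalCategory

section IntLemma

/-- a nonempty, bounded above set of integers is not invariant under a nonzero translation -/
lemma eq_of_translate_invariant (p : ℤ → Prop) (n n' : ℤ) (hne : ∃ j, p j) (b : ℤ)
    (hb : ∀ j, b < j → ¬ p j) (hp : ∀ i, p (n + i) ↔ p (n' + i)) : n = n' := by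
  have key : ∀ d : ℤ, 0 < d → (∀ j, p j → p (j + d)) → False := by
    intro d hd hstep
    obtain ⟨j₀, hj₀⟩ := hne
    have hall : ∀ m : ℕ, p (j₀ + m * d) := by
      intro m
      induction m with
      | zero => simpa using hj₀
      | succ m ih =>
        have h1 := hstep _ ih
        have e : j₀ + (m : ℤ) * d + d = j₀ + ((m + 1 : ℕ) : ℤ) * d := by push_cast; ring
        rwa [e] at h1
    obtain ⟨N, hN⟩ : ∃ N : ℕ, b - j₀ < (N : ℤ) :=
      ⟨(b - j₀).toNat + 1, by have := Int.self_le_toNat (b - j₀); push_cast; omega⟩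
    refine hb (j₀ + (N : ℤ) * d) ?_ (hall N)
    have h2 : (N : ℤ) ≤ (N : ℤ) * d := le_mul_of_one_le_right (by positivity) (by omega)
    linarith
  by_contra hne'
  rcases lt_or_gt_of_ne hne' with h | h
  · refine key (n' - n) (by omega) (fun j hj => ?_)
    have h1 := (hp (j - n)).1 (by rwa [show n + (j - n) = j by ring])
    rwa [show n' + (j - n) = j + (n' - n) by ring] at h1
  · refine key (n - n') (by omega) (fun j hj => ?_)
    have h1 := (hp (j - n')).2 (by rwa [show n' + (j - n') = j by ring])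
    rwa [show n + (j - n') = j + (n - n') by ring] at h1

end IntLemma

variable {A : Type u} [CommRing A]

section Support

lemma isZero_obj_iff_of_compIso (F G : ModuleCat.{u} A ⥤ ModuleCat.{u} A) [F.Additive]
    [G.Additive] (θ : F ⋙ G ≅ 𝟭 (ModuleCat.{u} A)) (X : ModuleCat.{u} A) :
    IsZero (F.obj X) ↔ IsZero X :=
  ⟨fun h => IsZero.of_iso (G.map_isZero h) (θ.app X).symm, fun h => F.map_isZero h⟩

lemma subsingleton_HD_mapD_iff (F G : ModuleCat.{u} A ⥤ ModuleCat.{u} A) [F.Additive]
    [G.Additive] [PreservesFiniteLimits F] [PreservesFiniteColimits F]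
    (θ : F ⋙ G ≅ 𝟭 (ModuleCat.{u} A)) (K : Dual.D A) (i : ℤ) :
    Subsingleton (Dual.HD A (F.mapDerivedCategory.obj K) i) ↔ Subsingleton (Dual.HD A K i) := by
  obtain ⟨e⟩ := nonempty_HD_mapD_iso F K i
  constructor
  · intro h
    have h1 : IsZero (F.obj ((homologyFunctor (ModuleCat.{u} A) i).obj K)) :=
      IsZero.of_iso (ModuleCat.isZero_of_subsingleton _) e.symm
    exact ModuleCat.subsingleton_of_isZero ((isZero_obj_iff_of_compIso F G θ _).1 h1)
  · intro h
    have h1 : IsZero ((homologyFunctor (ModuleCat.{u} A) i).obj K) :=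
      ModuleCat.isZero_of_subsingleton _
    exact ModuleCat.subsingleton_of_isZero
      (IsZero.of_iso ((isZero_obj_iff_of_compIso F G θ _).2 h1) e)

lemma subsingleton_HD_shift_iff (K : Dual.D A) (n i : ℤ) :
    Subsingleton (Dual.HD A (K⟦n⟧) i) ↔ Subsingleton (Dual.HD A K (n + i)) := by
  have e : (homologyFunctor (ModuleCat.{u} A) i).obj (K⟦n⟧) ≅
      (homologyFunctor (ModuleCat.{u} A) (n + i)).obj K :=
    ((homologyFunctor (ModuleCat.{u} A) 0).shiftIso n i (n + i) rfl).app K
  constructor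
  · intro h
    exact ModuleCat.subsingleton_of_isZero
      (IsZero.of_iso (ModuleCat.isZero_of_subsingleton _) e.symm)
  · intro h
    exact ModuleCat.subsingleton_of_isZero
      (IsZero.of_iso (ModuleCat.isZero_of_subsingleton _) e)

/-- two exact auto-equivalences applied to a dualizing complex can only differ by the zero shift -/
theorem shift_eq_of_mapD_shift_iso [Nontrivial A]
    (F G F' G' : ModuleCat.{u} A ⥤ ModuleCat.{u} A) [F.Additive] [G.Additive] [F'.Additive]
    [G'.Additive] [PreservesFiniteLimits F] [PreservesFiniteColimits F]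
    [PreservesFiniteLimits F'] [PreservesFiniteColimits F']
    (θ : F ⋙ G ≅ 𝟭 (ModuleCat.{u} A)) (θ' : F' ⋙ G' ≅ 𝟭 (ModuleCat.{u} A))
    (ω : Dual.D A) (hω : Dual.IsDualizing A ω) (n n' : ℤ)
    (e : (F.mapDerivedCategory.obj ω)⟦n⟧ ≅ (F'.mapDerivedCategory.obj ω)⟦n'⟧) : n = n' := by
  obtain ⟨a, b, hab⟩ := hω.finite_injective_dimension
  refine eq_of_translate_invariant (fun j => ¬ Subsingleton (Dual.HD A ω j)) n n' ?_ b ?_ ?_
  · by_contra hcon
    have hH : ∀ i : ℤ, Subsingleton (Dual.HD A ω i) := fun i =>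
      not_not.1 (not_exists.1 hcon i)
    haveI : DerivedCategory.IsGE ω 1 := by
      rw [DerivedCategory.isGE_iff]
      intro j _
      haveI := hH j
      exact ModuleCat.isZero_of_subsingleton _
    haveI : DerivedCategory.IsLE ω 0 := by
      rw [DerivedCategory.isLE_iff]
      intro j _
      haveI := hH j
      exact ModuleCat.isZero_of_subsingleton _
    have hz : IsZero ω := DerivedCategory.TStructure.t.isZero ω 0 1 (by omega)
    have h1 : (fun a : A => a • 𝟙 ω) 1 = (fun a : A => a • 𝟙 ω) 0 := hz.eq_of_src _ _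
    exact one_ne_zero (hω.toEnd_bijective.1 h1)
  · intro j hj hp
    exact hp ((subsingleton_hom_inD_self_iff ω j).1 (hab A j (Or.inr hj)))
  · intro i
    have h1 := subsingleton_HD_mapD_iff F G θ ω (n + i)
    have h2 := subsingleton_HD_shift_iff (F.mapDerivedCategory.obj ω) n i
    have h3 := subsingleton_HD_iso e i
    have h4 := subsingleton_HD_shift_iff (F'.mapDerivedCategory.obj ω) n' i
    have h5 := subsingleton_HD_mapD_iff F' G' θ' ω (n' + i)
    exact not_congr (h1.symm.trans (h2.symm.trans (h3.trans (h4.trans h5))))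

end Support

section Nu

variable (M : ModuleCat.{u} A)

/-- `x ↦ x ⊗ m` -/
noncomputable def nuApp (m : M) (X : ModuleCat.{u} A) : X ⟶ (tensorRight M).obj X :=
  ModuleCat.ofHom ((TensorProduct.mk A X M).flip m)

/-- `x ⊗ m ↦ f m • x` -/
noncomputable def muApp (f : M →ₗ[A] A) (X : ModuleCat.{u} A) : (tensorRight M).obj X ⟶ X :=
  ModuleCat.ofHom ((TensorProduct.rid A X).toLinearMap ∘ₗ LinearMap.lTensor X f)

lemma nuApp_naturality (m : M) {X Y : ModuleCat.{u} A} (g : X ⟶ Y) :
    g ≫ nuApp M m Y = nuApp M m X ≫ (tensorRight M).map g := by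
  apply ModuleCat.hom_ext
  apply LinearMap.ext
  intro x
  rfl

lemma muApp_naturality (f : M →ₗ[A] A) {X Y : ModuleCat.{u} A} (g : X ⟶ Y) :
    (tensorRight M).map g ≫ muApp M f Y = muApp M f X ≫ g := by
  refine ModuleCat.MonoidalCategory.tensor_ext (M₁ := X) (M₂ := M) (fun x m => ?_)
  change f m • g.hom x = g.hom (f m • x)
  rw [map_smul]

/-- the chain map `C ⟶ C ⊗ M`, `x ↦ x ⊗ m` -/
noncomputable def nuC (m : M) (C : Cx A) :
    C ⟶ ((tensorRight M).mapHomologicalComplex (ComplexShape.up ℤ)).obj C where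
  f i := nuApp M m (C.X i)
  comm' i j _ := (nuApp_naturality M m (C.d i j)).symm

/-- the chain map `C ⊗ M ⟶ C`, `x ⊗ m ↦ f m • x` -/
noncomputable def muC (f : M →ₗ[A] A) (C : Cx A) :
    ((tensorRight M).mapHomologicalComplex (ComplexShape.up ℤ)).obj C ⟶ C where
  f i := muApp M f (C.X i)
  comm' i j _ := (muApp_naturality M f (C.d i j)).symm

lemma nuC_add (m m' : M) (C : Cx A) : nuC M (m + m') C = nuC M m C + nuC M m' C := by
  refine HomologicalComplex.hom_ext _ _ (fun i => ?_)
  apply ModuleCat.hom_ext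
  apply LinearMap.ext
  intro x
  exact TensorProduct.tmul_add x m m'

lemma nuC_smul (a : A) (m : M) (C : Cx A) : nuC M (a • m) C = a • nuC M m C := by
  refine HomologicalComplex.hom_ext _ _ (fun i => ?_)
  apply ModuleCat.hom_ext
  apply LinearMap.ext
  intro x
  exact TensorProduct.tmul_smul a x m

lemma nuC_muC (m : M) (f : M →ₗ[A] A) (C : Cx A) : nuC M m C ≫ muC M f C = f m • 𝟙 C := by
  refine HomologicalComplex.hom_ext _ _ (fun i => ?_)
  apply ModuleCat.hom_ext
  apply LinearMap.ext
  intro x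
  rfl

omit M in
lemma sum_hom_apply {ι : Type} [Fintype ι] {X Y : ModuleCat.{u} A} (φ : ι → (X ⟶ Y)) (x : X) :
    (∑ k, φ k).hom x = ∑ k, (φ k).hom x := by
  rw [ModuleCat.hom_sum, LinearMap.sum_apply]

lemma sum_muC_nuC {ι : Type} [Fintype ι] (fk : ι → (M →ₗ[A] A)) (mk : ι → M)
    (h : ∀ m : M, ∑ k, fk k m • mk k = m) (C : Cx A) :
    ∑ k, muC M (fk k) C ≫ nuC M (mk k) C = 𝟙 _ := by
  refine HomologicalComplex.hom_ext _ _ (fun i => ?_)
  have h1 : (∑ k, muC M (fk k) C ≫ nuC M (mk k) C).f i =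
      ∑ k, (muC M (fk k) C ≫ nuC M (mk k) C).f i :=
    (HomologicalComplex.eval _ _ i).map_sum _ _
  rw [h1]
  refine ModuleCat.MonoidalCategory.tensor_ext (M₁ := C.X i) (M₂ := M) (fun x m => ?_)
  refine (sum_hom_apply (X := C.X i ⊗ M) (Y := C.X i ⊗ M)
    (fun k => (muC M (fk k) C ≫ nuC M (mk k) C).f i) (x ⊗ₜ[A] m)).trans ?_
  change ∑ k, (fk k m • x) ⊗ₜ[A] mk k = x ⊗ₜ[A] m
  simp_rw [TensorProduct.smul_tmul]
  rw [← TensorProduct.tmul_sum, h m]

/-- `m ↦ (x ↦ x ⊗ m)` as a linear map into `Hom_{D(A)}(C, C ⊗ M)` -/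
noncomputable def psi (C : Cx A) : M →ₗ[A] (DerivedCategory.Q.obj C ⟶
    DerivedCategory.Q.obj (((tensorRight M).mapHomologicalComplex (ComplexShape.up ℤ)).obj C)) where
  toFun m := DerivedCategory.Q.map (nuC M m C)
  map_add' m m' := by rw [nuC_add, CategoryTheory.Functor.map_add]
  map_smul' a m := by rw [nuC_smul, CategoryTheory.Functor.map_smul]; rfl

theorem psi_bijective_of_dualBasis {ι : Type} [Fintype ι] (fk : ι → (M →ₗ[A] A)) (mk : ι → M)
    (hdb : ∀ m : M, ∑ k, fk k m • mk k = m) (C : Cx A)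
    (hend : Function.Bijective (fun a : A => a • 𝟙 (DerivedCategory.Q.obj C))) :
    Function.Bijective (psi M C) := by
  constructor
  · rw [injective_iff_map_eq_zero]
    intro m hm
    have hm' : DerivedCategory.Q.map (nuC M m C) = 0 := hm
    have hf : ∀ f : M →ₗ[A] A, f m = 0 := by
      intro f
      apply hend.1
      show f m • 𝟙 (DerivedCategory.Q.obj C) = (0 : A) • 𝟙 (DerivedCategory.Q.obj C)
      rw [zero_smul]
      have h1 : DerivedCategory.Q.map (nuC M m C) ≫ DerivedCategory.Q.map (muC M f C) =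
          f m • 𝟙 _ := by
        rw [← CategoryTheory.Functor.map_comp, nuC_muC, CategoryTheory.Functor.map_smul,
          CategoryTheory.Functor.map_id]
      rw [← h1, hm', zero_comp]
    rw [← hdb m]
    exact Finset.sum_eq_zero (fun k _ => by rw [hf (fk k), zero_smul])
  · intro h
    have key : h = ∑ k, (h ≫ DerivedCategory.Q.map (muC M (fk k) C)) ≫
        DerivedCategory.Q.map (nuC M (mk k) C) := by
      have h2 : ∀ k, (h ≫ DerivedCategory.Q.map (muC M (fk k) C)) ≫
          DerivedCategory.Q.map (nuC M (mk k) C) =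
          h ≫ DerivedCategory.Q.map (muC M (fk k) C ≫ nuC M (mk k) C) := by
        intro k
        rw [Category.assoc, ← CategoryTheory.Functor.map_comp]
      rw [Finset.sum_congr rfl (fun k _ => h2 k), ← Preadditive.comp_sum,
        ← CategoryTheory.Functor.map_sum, sum_muC_nuC M fk mk hdb C,
        CategoryTheory.Functor.map_id, Category.comp_id]
    choose a ha using fun k => hend.2 (h ≫ DerivedCategory.Q.map (muC M (fk k) C))
    refine ⟨∑ k, a k • mk k, ?_⟩
    rw [map_sum]
    refine Eq.trans ?_ key.symm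
    refine Finset.sum_congr rfl (fun k _ => ?_)
    rw [map_smul, ← ha k]
    show a k • DerivedCategory.Q.map (nuC M (mk k) C) =
      (a k • 𝟙 _) ≫ DerivedCategory.Q.map (nuC M (mk k) C)
    rw [Linear.smul_comp, Category.id_comp]

end Nu

section Main

/-- `Hom_{D(A)}(ω, ω ⊗ M) ≃ M` for a dualizing complex `ω` and a finite projective module `M` -/
theorem nonempty_linearEquiv_hom_mapD (M : Type u) [AddCommGroup M] [Module A M]
    [Module.Finite A M] [Module.Projective A M] (ω : Dual.D A) (hω : Dual.IsDualizing A ω) :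
    Nonempty (M ≃ₗ[A]
      (ω ⟶ (tensorRight (ModuleCat.of A M)).mapDerivedCategory.obj ω)) := by
  let C : Cx A := DerivedCategory.Q.objPreimage ω
  let eC : DerivedCategory.Q.obj C ≅ ω := DerivedCategory.Q.objObjPreimageIso ω
  have hend' : Function.Bijective (fun a : A => a • 𝟙 (DerivedCategory.Q.obj C)) :=
    (isDualizing_of_iso eC.symm hω).toEnd_bijective
  obtain ⟨n, f, g, -, -, hfg⟩ := Module.Finite.exists_comp_eq_id_of_projective A M
  have hdb : ∀ m : M, ∑ k : Fin n, (LinearMap.proj k ∘ₗ g) m •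
      f (fun j => if k = j then 1 else 0) = m := by
    intro m
    exact (LinearMap.pi_apply_eq_sum_univ f (g m)).symm.trans (LinearMap.congr_fun hfg m)
  have hbij := psi_bijective_of_dualBasis (ModuleCat.of A M)
    (fun k : Fin n => LinearMap.proj k ∘ₗ g) (fun k => f (fun j => if k = j then 1 else 0))
    hdb C hend'
  let e1 := LinearEquiv.ofBijective (psi (ModuleCat.of A M) C) hbij
  let e2 := Linear.homCongr A eC
    (((tensorRight (ModuleCat.of A M)).mapDerivedCategory.mapIso eC.symm ≪≫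
      (tensorRight (ModuleCat.of A M)).mapDerivedCategoryFactors.app C).symm)
  exact ⟨e1.trans e2⟩

/-- the natural isomorphism `(- ⊗ P) ⊗ P^∨ ≅ 𝟭` for an invertible module `P` -/
noncomputable def invTwistIso (P : Type u) [AddCommGroup P] [Module A P] [Module.Invertible A P] :
    tensorRight (ModuleCat.of A P) ⋙ tensorRight (ModuleCat.of A (Module.Dual A P)) ≅
      𝟭 (ModuleCat.{u} A) :=
  tensorRightCompIso (ModuleCat.of A P) (ModuleCat.of A (Module.Dual A P))
    (((TensorProduct.comm A P (Module.Dual A P)).trans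
      (Module.Invertible.linearEquiv A P)).toModuleIso)

/-- S11187. -/
theorem invertible_twist_unique [IsNoetherianRing A] [Nontrivial A] (ω : Dual.D A)
    (hω : Dual.IsDualizing A ω) (P P' : Type u) [AddCommGroup P] [Module A P]
    [Module.Invertible A P] [AddCommGroup P'] [Module A P'] [Module.Invertible A P']
    [HasLTensor A (ModuleCat.of A P)] [HasLTensor A (ModuleCat.of A P')] (n n' : ℤ)
    (h : Nonempty (((LTensor A (ModuleCat.of A P)).obj ω)⟦n⟧ ≅
      ((LTensor A (ModuleCat.of A P')).obj ω)⟦n'⟧)) :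
    n = n' ∧ Nonempty (P ≃ₗ[A] P') := by
  obtain ⟨e⟩ := h
  haveI : Module.Flat A (ModuleCat.of A P) := (inferInstance : Module.Flat A P)
  haveI : Module.Flat A (ModuleCat.of A P') := (inferInstance : Module.Flat A P')
  obtain ⟨ι⟩ := nonempty_lTensor_iso_mapD (ModuleCat.of A P) ω
  obtain ⟨ι'⟩ := nonempty_lTensor_iso_mapD (ModuleCat.of A P') ω
  let e0 : ((tensorRight (ModuleCat.of A P)).mapDerivedCategory.obj ω)⟦n⟧ ≅
      ((tensorRight (ModuleCat.of A P')).mapDerivedCategory.obj ω)⟦n'⟧ :=
    (shiftFunctor (Dual.D A) n).mapIso ι.symm ≪≫ e ≪≫ (shiftFunctor (Dual.D A) n').mapIso ι'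
  have hn : n = n' := shift_eq_of_mapD_shift_iso (tensorRight (ModuleCat.of A P))
    (tensorRight (ModuleCat.of A (Module.Dual A P))) (tensorRight (ModuleCat.of A P'))
    (tensorRight (ModuleCat.of A (Module.Dual A P'))) (invTwistIso P) (invTwistIso P') ω hω n n' e0
  subst hn
  refine ⟨rfl, ?_⟩
  let e1 : (tensorRight (ModuleCat.of A P)).mapDerivedCategory.obj ω ≅
      (tensorRight (ModuleCat.of A P')).mapDerivedCategory.obj ω :=
    (shiftFunctor (Dual.D A) n).preimageIso e0
  obtain ⟨c⟩ := nonempty_linearEquiv_hom_mapD P ω hω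
  obtain ⟨c'⟩ := nonempty_linearEquiv_hom_mapD P' ω hω
  exact ⟨c.trans ((Linear.homCongr A (Iso.refl ω) e1).trans c'.symm)⟩

end Main

end Groth.Agent.Lib.DMod_helper6
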