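import Mathlib
import Groth.Agent.Lib.ExtTheta_helper7

/-!
# A linear bridge between Mathlib's functor `Ext R (ModuleCat R) n` and `Abelian.Ext` (helper5)

Built on helper7's cocycle description (`ExtTheta_helper7`).
-/

set_option autoImplicit false
universe u
open CategoryTheory CategoryTheory.Limits Opposite

namespace Groth.Agent.ExtBridge

open Groth.Agent.Lib.ExtCompareH7

variable {R : Type u} [CommRing R]

/-- the old-style `Ext` module. -/
noncomputable abbrev OldExt (n : ℕ) (X M : ModuleCat.{u} R) : ModuleCat.{u} R :=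
  ((Ext R (ModuleCat.{u} R) n).obj (op X)).obj M

variable {X : ModuleCat.{u} R}

lemma cls_smul (P : ProjectiveResolution X) (M : ModuleCat.{u} R) (n : ℕ) (r : R)
    (z : (P.complex.linearYonedaObj R M).cycles n) :
    cls P M n (r • z) = r • cls P M n z := by
  unfold cls
  rw [Abelian.Ext.smul_eq_comp_mk₀, ProjectiveResolution.extMk_comp_mk₀]
  apply extMk_congr
  rw [map_smul]
  change r • ((P.complex.linearYonedaObj R M).iCycles n).hom z =
    ((P.complex.linearYonedaObj R M).iCycles n).hom z ≫ (r • 𝟙 M)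
  rw [Linear.comp_smul, Category.comp_id]
  rfl

/-- the class map as a linear map. -/
noncomputable def clsLin (P : ProjectiveResolution X) (M : ModuleCat.{u} R) (n : ℕ) :
    (P.complex.linearYonedaObj R M).cycles n →ₗ[R] Abelian.Ext X M n where
  toFun := cls P M n
  map_add' z z' := by
    have h := cls_sub P M n (z + z') z'
    rw [add_sub_cancel_right] at h
    rw [← h, sub_add_cancel]
  map_smul' r z := cls_smul P M n r z

theorem bridge_succ (X M : ModuleCat.{u} R) (p : ℕ) :
    Nonempty (OldExt (p + 1) X M ≃ₗ[R] Abelian.Ext X M (p + 1)) := by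
  let P := ProjectiveResolution.of X
  let K := P.complex.linearYonedaObj R M
  let π : K.cycles (p + 1) →ₗ[R] K.homology (p + 1) := (K.homologyπ (p + 1)).hom
  let ψ := clsLin P M (p + 1)
  have hπ : Function.Surjective π := fun x => π_surjective K (p + 1) x
  have hψ : Function.Surjective ψ := cls_surjective P M (p + 1)
  have hker : LinearMap.ker π = LinearMap.ker ψ := by
    ext z
    simp only [LinearMap.mem_ker]
    exact (cls_eq_zero_iff P M p z).symm
  let e1 : OldExt (p + 1) X M ≃ₗ[R] K.homology (p + 1) := (P.isoExt (p + 1) M).toLinearEquiv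
  let e2 : (K.cycles (p + 1) ⧸ LinearMap.ker π) ≃ₗ[R] K.homology (p + 1) :=
    π.quotKerEquivOfSurjective hπ
  let e3 : (K.cycles (p + 1) ⧸ LinearMap.ker ψ) ≃ₗ[R] Abelian.Ext X M (p + 1) :=
    ψ.quotKerEquivOfSurjective hψ
  exact ⟨e1.trans (e2.symm.trans ((Submodule.quotEquivOfEq _ _ hker).trans e3))⟩

theorem bridge_zero (X M : ModuleCat.{u} R) :
    Nonempty (OldExt 0 X M ≃ₗ[R] Abelian.Ext X M 0) := by
  let P := ProjectiveResolution.of X
  let K := P.complex.linearYonedaObj R M
  let e1 : OldExt 0 X M ≃ₗ[R] K.homology 0 := (P.isoExt 0 M).toLinearEquiv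
  let e2 : K.cycles 0 ≃ₗ[R] K.homology 0 := K.isoHomologyπ₀.toLinearEquiv
  let c : K.cycles 0 →ₗ[R] (P.complex.X 0 ⟶ M) := (K.iCycles 0).hom
  let π₀ : P.complex.X 0 ⟶ X := P.π.f 0
  let u : (X ⟶ M) →ₗ[R] (P.complex.X 0 ⟶ M) := Linear.leftComp R M π₀
  have hc : Function.Injective c := iCycles_injective K 0
  haveI : Epi π₀ := inferInstanceAs (Epi (P.π.f 0))
  have hd0 : P.complex.d 1 0 ≫ π₀ = 0 := P.complex_d_comp_π_f_zero
  have hu : Function.Injective u := fun g g' h => (cancel_epi π₀).mp h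
  have hrange : LinearMap.range c = LinearMap.range u := by
    ext f
    constructor
    · rintro ⟨z, rfl⟩
      have hz := cocycle_cond P M 0 z
      refine ⟨P.isColimitCokernelCofork.desc (CokernelCofork.ofπ _ hz), ?_⟩
      exact Cofork.IsColimit.π_desc P.isColimitCokernelCofork
    · rintro ⟨g, rfl⟩
      have h : P.complex.d 1 0 ≫ (π₀ ≫ g) = 0 := by
        rw [← Category.assoc, hd0, zero_comp]
      obtain ⟨z, hz⟩ := exists_cycle K 0 (π₀ ≫ g) h
      exact ⟨z, hz⟩
  let e3 : K.cycles 0 ≃ₗ[R] LinearMap.range c := LinearEquiv.ofInjective c hc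
  let e4 : (X ⟶ M) ≃ₗ[R] LinearMap.range u := LinearEquiv.ofInjective u hu
  let e5 : Abelian.Ext X M 0 ≃ₗ[R] (X ⟶ M) := Abelian.Ext.linearEquiv₀
  exact ⟨e1.trans (e2.symm.trans (e3.trans ((LinearEquiv.ofEq _ _ hrange).trans
    (e4.symm.trans e5.symm))))⟩

theorem bridge (X M : ModuleCat.{u} R) (n : ℕ) :
    Nonempty (OldExt n X M ≃ₗ[R] Abelian.Ext X M n) := by
  cases n with
  | zero => exact bridge_zero X M
  | succ p => exact bridge_succ X M p

end Groth.Agent.ExtBridge
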