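import Mathlib
import Groth.Prelude.Def_DRing2
import Groth.Prelude.Def_DDual2
import Groth.Prelude.Def_Wider
import Groth.Agent.Lib.DMod97_helper6
import Groth.Agent.Lib.DMod118_helper6
import Groth.Agent.Lib.ExtBridge_helper5
import Groth.Agent.S11179

/-!
# Derived category toolkit (helper6), part 119: `Tor_i(E, M)` is the `E`-dual of `Ext^i(M, A)` for a
module `M` with a finite free resolution and `E` injective; `Ext^i(κ, A)` over a Gorenstein local
ring (S0363).
-/

set_option autoImplicit false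
universe u
open CategoryTheory CategoryTheory.Limits DerivedCategory Pretriangulated ZeroObject
open scoped Pointwise TensorProduct
attribute [local instance] HasDerivedCategory.standard

namespace Groth.Agent.Lib.DMod_helper6

open DRing MonoidalCategory

section LA

variable {A : Type u} [CommRing A]

/-- linear algebra: the homology of the `E`-dual of a three-term complex is the `E`-dual of the
homology, for `E` injective. -/
theorem la_dual {X₁ X₂ X₃ Y₁ Y₂ Y₃ E : Type u}
    [AddCommGroup X₁] [Module A X₁] [AddCommGroup X₂] [Module A X₂] [AddCommGroup X₃] [Module A X₃]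
    [AddCommGroup Y₁] [Module A Y₁] [AddCommGroup Y₂] [Module A Y₂] [AddCommGroup Y₃] [Module A Y₃]
    [AddCommGroup E] [Module A E] [hE : Module.Injective A E]
    (f' : X₁ →ₗ[A] X₂) (g' : X₂ →ₗ[A] X₃) (c' : X₁ →ₗ[A] LinearMap.ker g')
    (hc' : ∀ x, (c' x : X₂) = f' x)
    (f : Y₁ →ₗ[A] Y₂) (g : Y₂ →ₗ[A] Y₃) (c : Y₁ →ₗ[A] LinearMap.ker g)
    (hc : ∀ y, (c y : Y₂) = f y)
    (e₁ : X₁ ≃ₗ[A] (Y₃ →ₗ[A] E)) (e₂ : X₂ ≃ₗ[A] (Y₂ →ₗ[A] E)) (e₃ : X₃ ≃ₗ[A] (Y₁ →ₗ[A] E))
    (h₁ : ∀ x, e₂ (f' x) = (e₁ x).comp g) (h₂ : ∀ x, e₃ (g' x) = (e₂ x).comp f) :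
    Nonempty ((LinearMap.ker g' ⧸ LinearMap.range c') ≃ₗ[A]
      ((LinearMap.ker g ⧸ LinearMap.range c) →ₗ[A] E)) := by
  classical
  have hkill : ∀ x : LinearMap.ker g', LinearMap.range c ≤
      LinearMap.ker ((e₂ x.1).comp (LinearMap.ker g).subtype) := by
    rintro x _ ⟨y, rfl⟩
    rw [LinearMap.mem_ker, LinearMap.comp_apply, Submodule.subtype_apply, hc y]
    have h := h₂ x.1
    rw [LinearMap.mem_ker.1 x.2, map_zero] at h
    have h' := congrArg (fun φ : Y₁ →ₗ[A] E => φ y) h
    simpa using h'.symm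
  let Φ : LinearMap.ker g' →ₗ[A] ((LinearMap.ker g ⧸ LinearMap.range c) →ₗ[A] E) :=
    { toFun := fun x =>
        (LinearMap.range c).liftQ ((e₂ x.1).comp (LinearMap.ker g).subtype) (hkill x)
      map_add' := fun x y => by
        apply Submodule.linearMap_qext
        ext z
        simp
      map_smul' := fun a x => by
        apply Submodule.linearMap_qext
        ext z
        simp }
  have hΦ : ∀ (x : LinearMap.ker g') (z : LinearMap.ker g),
      Φ x (Submodule.Quotient.mk z) = e₂ x.1 z.1 := fun x z => rfl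
  have hker : LinearMap.range c' = LinearMap.ker Φ := by
    ext x
    rw [LinearMap.mem_ker]
    constructor
    · rintro ⟨w, rfl⟩
      apply Submodule.linearMap_qext
      ext z
      show Φ (c' w) (Submodule.Quotient.mk z) = 0
      rw [hΦ, hc', h₁, LinearMap.comp_apply, LinearMap.mem_ker.1 z.2, map_zero]
    · intro hx
      have hvan : LinearMap.ker g ≤ LinearMap.ker (e₂ x.1) := by
        intro z hz
        have h' := congrArg
          (fun φ : (LinearMap.ker g ⧸ LinearMap.range c) →ₗ[A] E =>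
            φ (Submodule.Quotient.mk (⟨z, hz⟩ : LinearMap.ker g))) hx
        simp only [hΦ, LinearMap.zero_apply] at h'
        exact h'
      let φb : (Y₂ ⧸ LinearMap.ker g) →ₗ[A] E := (LinearMap.ker g).liftQ (e₂ x.1) hvan
      let gb : (Y₂ ⧸ LinearMap.ker g) →ₗ[A] Y₃ := (LinearMap.ker g).liftQ g le_rfl
      have hgb : Function.Injective gb := by
        refine (injective_iff_map_eq_zero gb).2 (fun q hq => ?_)
        obtain ⟨y, rfl⟩ := Submodule.Quotient.mk_surjective _ q
        exact (Submodule.Quotient.mk_eq_zero _).2 (LinearMap.mem_ker.2 hq)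
      obtain ⟨ψ, hψ⟩ := hE.out gb hgb φb
      have hψg : ψ.comp g = e₂ x.1 := by
        ext y
        exact hψ (Submodule.Quotient.mk y)
      refine ⟨e₁.symm ψ, ?_⟩
      apply Subtype.ext
      rw [hc']
      apply e₂.injective
      rw [h₁, LinearEquiv.apply_symm_apply, hψg]
  have hsurj : Function.Surjective Φ := by
    intro h
    obtain ⟨φ, hφ⟩ := hE.out (LinearMap.ker g).subtype (Submodule.injective_subtype _)
      (h.comp (LinearMap.range c).mkQ)
    have hx : e₂.symm φ ∈ LinearMap.ker g' := by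
      rw [LinearMap.mem_ker]
      apply e₃.injective
      rw [h₂, LinearEquiv.apply_symm_apply, map_zero]
      ext y
      have h3 := hφ (c y)
      have h4 : (LinearMap.range c).mkQ (c y) = 0 :=
        (Submodule.Quotient.mk_eq_zero _).2 ⟨y, rfl⟩
      rw [LinearMap.comp_apply, h4, map_zero, Submodule.subtype_apply, hc y] at h3
      rw [LinearMap.comp_apply, h3, LinearMap.zero_apply]
    refine ⟨⟨e₂.symm φ, hx⟩, ?_⟩
    apply Submodule.linearMap_qext
    ext z
    show Φ ⟨e₂.symm φ, hx⟩ (Submodule.Quotient.mk z) = h ((LinearMap.range c).mkQ z)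
    rw [hΦ]
    show e₂ (e₂.symm φ) (z : Y₂) = _
    rw [LinearEquiv.apply_symm_apply]
    exact hφ z
  exact ⟨(Submodule.quotEquivOfEq _ _ hker).trans (Φ.quotKerEquivOfSurjective hsurj)⟩

/-- categorical form of `la_dual` for short complexes of modules -/
theorem nonempty_homology_linearEquiv_dual (E : Type u) [AddCommGroup E] [Module A E]
    [Module.Injective A E] (S₁ S₂ : ShortComplex (ModuleCat.{u} A))
    (e₁ : S₁.X₁ ≃ₗ[A] (S₂.X₃ →ₗ[A] E)) (e₂ : S₁.X₂ ≃ₗ[A] (S₂.X₂ →ₗ[A] E))
    (e₃ : S₁.X₃ ≃ₗ[A] (S₂.X₁ →ₗ[A] E))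
    (h₁ : ∀ x, e₂ (S₁.f.hom x) = (e₁ x).comp S₂.g.hom)
    (h₂ : ∀ x, e₃ (S₁.g.hom x) = (e₂ x).comp S₂.f.hom) :
    Nonempty (S₁.homology ≃ₗ[A] (S₂.homology →ₗ[A] E)) := by
  obtain ⟨e⟩ := la_dual (E := E) S₁.f.hom S₁.g.hom S₁.moduleCatToCycles (fun _ => rfl)
    S₂.f.hom S₂.g.hom S₂.moduleCatToCycles (fun _ => rfl) e₁ e₂ e₃ h₁ h₂
  exact ⟨S₁.moduleCatHomologyIso.toLinearEquiv.trans
    (e.trans (LinearEquiv.congrLeft E A S₂.moduleCatHomologyIso.toLinearEquiv.symm))⟩

end LA

section Theta

variable {A : Type u} [CommRing A] (E : Type u) [AddCommGroup E] [Module A E]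

/-- `θ_X : E ⊗ X → Hom(Hom(X, A), E)`, `e ⊗ x ↦ (φ ↦ φ x • e)`. -/
noncomputable def dualThetaLin (X : ModuleCat.{u} A) :
    TensorProduct A E X →ₗ[A] ((X ⟶ ModuleCat.of A A) →ₗ[A] E) :=
  TensorProduct.lift
    { toFun := fun e =>
        { toFun := fun x =>
            { toFun := fun φ => (φ.hom x : A) • e
              map_add' := fun φ ψ => by
                simp only [ModuleCat.hom_add, LinearMap.add_apply]
                exact add_smul _ _ _
              map_smul' := fun a φ => by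
                simp only [ModuleCat.hom_smul, LinearMap.smul_apply, RingHom.id_apply]
                exact smul_assoc _ _ _ }
          map_add' := fun x y => by
            ext φ
            simp only [map_add, LinearMap.coe_mk, AddHom.coe_mk, LinearMap.add_apply]
            exact add_smul _ _ _
          map_smul' := fun a x => by
            ext φ
            simp only [map_smul, LinearMap.coe_mk, AddHom.coe_mk, LinearMap.smul_apply,
              RingHom.id_apply]
            exact smul_assoc _ _ _ }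
      map_add' := fun e e' => by
        ext x φ
        exact smul_add _ _ _
      map_smul' := fun a e => by
        ext x φ
        exact smul_comm _ _ _ }

lemma dualThetaLin_tmul (X : ModuleCat.{u} A) (e : E) (x : X) (φ : X ⟶ ModuleCat.of A A) :
    dualThetaLin E X (e ⊗ₜ[A] x) φ = (φ.hom x : A) • e := rfl

lemma dualThetaLin_naturality {X X' : ModuleCat.{u} A} (u : X ⟶ X')
    (v : TensorProduct A E X →ₗ[A] TensorProduct A E X')
    (hv : ∀ (e : E) (x : X), v (e ⊗ₜ[A] x) = e ⊗ₜ[A] (u.hom x))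
    (w : (X' ⟶ ModuleCat.of A A) →ₗ[A] (X ⟶ ModuleCat.of A A)) (hw : ∀ φ, w φ = u ≫ φ)
    (t : TensorProduct A E X) :
    dualThetaLin E X' (v t) = (dualThetaLin E X t).comp w := by
  induction t using TensorProduct.induction_on with
  | zero => simp
  | tmul e x =>
    ext φ
    rw [hv, LinearMap.comp_apply, hw, dualThetaLin_tmul, dualThetaLin_tmul]
    rfl
  | add t t' h h' => rw [map_add, map_add, map_add, h, h', LinearMap.add_comp]

theorem dualThetaLin_bijective (X : ModuleCat.{u} A) [Module.Finite A X] [Module.Free A X] :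
    Function.Bijective (dualThetaLin E X) := by
  classical
  let b := Module.Free.chooseBasis A X
  let π : Module.Free.ChooseBasisIndex A X → (X ⟶ ModuleCat.of A A) :=
    fun j => ModuleCat.ofHom (b.coord j)
  let Ψ : ((X ⟶ ModuleCat.of A A) →ₗ[A] E) →ₗ[A] (Module.Free.ChooseBasisIndex A X → E) :=
    LinearMap.pi (fun j => LinearMap.applyₗ (π j))
  let T' : (Module.Free.ChooseBasisIndex A X → E) →ₗ[A] TensorProduct A E X :=
    ∑ j, ((TensorProduct.mk A E X).flip (b j)).comp (LinearMap.proj j)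
  have hT' : ∀ v, T' v = ∑ j, (v j) ⊗ₜ[A] (b j) := by
    intro v
    simp [T', LinearMap.sum_apply]
  have hΨ : ∀ ψ j, Ψ ψ j = ψ (π j) := fun ψ j => rfl
  let L : (X ⟶ ModuleCat.of A A) ≃ₗ[A] (X →ₗ[A] A) := ModuleCat.homLinearEquiv (S := A)
  have h1 : ∀ ψ, dualThetaLin E X (T' (Ψ ψ)) = ψ := by
    intro ψ
    ext φ
    rw [hT', map_sum, LinearMap.sum_apply]
    simp only [dualThetaLin_tmul, hΨ]
    calc ∑ j, (φ.hom (b j) : A) • ψ (π j)
        = (ψ.comp L.symm.toLinearMap) (∑ j, (φ.hom (b j) : A) • b.coord j) := by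
          rw [map_sum]
          refine Finset.sum_congr rfl (fun j _ => ?_)
          rw [map_smul]
          rfl
      _ = (ψ.comp L.symm.toLinearMap) φ.hom := by
          rw [b.sum_dual_apply_smul_coord φ.hom]
      _ = ψ φ := by
          rw [LinearMap.comp_apply]
          exact congrArg ψ (L.symm_apply_apply φ)
  have h2 : ∀ t, T' (Ψ (dualThetaLin E X t)) = t := by
    intro t
    induction t using TensorProduct.induction_on with
    | zero => simp
    | tmul e x =>
      rw [hT']
      simp only [hΨ, dualThetaLin_tmul]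
      calc ∑ j, (((π j).hom x : A) • e) ⊗ₜ[A] b j
          = ∑ j, e ⊗ₜ[A] ((b.repr x j) • b j) := by
            refine Finset.sum_congr rfl (fun j _ => ?_)
            rw [TensorProduct.smul_tmul]
            rfl
        _ = e ⊗ₜ[A] (∑ j, (b.repr x j) • b j) := (TensorProduct.tmul_sum _ _ _).symm
        _ = e ⊗ₜ[A] x := by rw [b.sum_repr]
    | add t t' h h' => simp only [map_add, h, h']
  exact ⟨fun t t' h => by rw [← h2 t, ← h2 t', h], fun ψ => ⟨_, h1 ψ⟩⟩

end Theta

section TorDual

variable {A : Type u} [CommRing A] (E : Type u) [AddCommGroup E] [Module A E]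

/-- `Tor_i(E, M) ≃ Hom(H^i(Hom(P, A)), E)` for a finite free resolution `P → M` and `E` injective. -/
theorem nonempty_tor_linearEquiv_dual [Module.Injective A E] {M : ModuleCat.{u} A}
    (P : ProjectiveResolution M)
    (hP : ∀ n, Module.Finite A (P.complex.X n) ∧ Module.Free A (P.complex.X n)) (i : ℕ) :
    Nonempty ((((Tor (ModuleCat.{u} A) i).obj (ModuleCat.of A E)).obj M) ≃ₗ[A]
      ((P.complex.linearYonedaObj A (ModuleCat.of A A)).homology i →ₗ[A] E)) := by
  let F : ModuleCat.{u} A ⥤ ModuleCat.{u} A :=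
    (tensoringLeft (ModuleCat.{u} A)).obj (ModuleCat.of A E)
  let K' := (F.mapHomologicalComplex (ComplexShape.down ℕ)).obj P.complex
  let K := P.complex.linearYonedaObj A (ModuleCat.of A A)
  have hb : (ComplexShape.up ℕ).prev i = (ComplexShape.down ℕ).next i := by
    cases i <;> simp
  let e0 : (((Tor (ModuleCat.{u} A) i).obj (ModuleCat.of A E)).obj M) ≅ K'.homology i :=
    P.isoLeftDerivedObj F i
  let e1 : K'.homology i ≅ (K'.sc' (i + 1) i ((ComplexShape.down ℕ).next i)).homology :=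
    ShortComplex.homologyMapIso (K'.isoSc' (i + 1) i ((ComplexShape.down ℕ).next i) (by simp) rfl)
  let e2 : K.homology i ≅ (K.sc' ((ComplexShape.down ℕ).next i) i (i + 1)).homology :=
    ShortComplex.homologyMapIso (K.isoSc' ((ComplexShape.down ℕ).next i) i (i + 1) hb (by simp))
  haveI := fun n => (hP n).1
  haveI := fun n => (hP n).2
  let θ := fun n => LinearEquiv.ofBijective (dualThetaLin E (P.complex.X n))
    (dualThetaLin_bijective E (P.complex.X n))
  obtain ⟨e3⟩ := nonempty_homology_linearEquiv_dual E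
    (K'.sc' (i + 1) i ((ComplexShape.down ℕ).next i))
    (K.sc' ((ComplexShape.down ℕ).next i) i (i + 1))
    (θ (i + 1)) (θ i) (θ ((ComplexShape.down ℕ).next i))
    (fun x => dualThetaLin_naturality E (P.complex.d (i + 1) i) _ (fun e x => rfl) _
      (fun φ => rfl) x)
    (fun x => dualThetaLin_naturality E (P.complex.d i ((ComplexShape.down ℕ).next i)) _
      (fun e x => rfl) _ (fun φ => rfl) x)
  exact ⟨e0.toLinearEquiv.trans (e1.toLinearEquiv.trans (e3.trans
    (LinearEquiv.congrLeft E A e2.toLinearEquiv.symm)))⟩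

end TorDual

section Bridge

variable {A : Type u} [CommRing A]

/-- the cohomology of `Hom(P, Y)` is `Hom_{D(A)}(X, Y[i])` -/
theorem nonempty_homology_linearYonedaObj_linearEquiv {X : ModuleCat.{u} A}
    (P : ProjectiveResolution X) (Y : ModuleCat.{u} A) (i : ℕ) :
    Nonempty ((P.complex.linearYonedaObj A Y).homology i ≃ₗ[A]
      ((DerivedCategory.singleFunctor (ModuleCat.{u} A) 0).obj X ⟶
        ((DerivedCategory.singleFunctor (ModuleCat.{u} A) 0).obj Y)⟦(i : ℤ)⟧)) := by
  obtain ⟨b⟩ := Groth.Agent.ExtBridge.bridge X Y i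
  exact ⟨(P.isoExt i Y).toLinearEquiv.symm.trans (b.trans Abelian.Ext.homLinearEquiv)⟩

end Bridge

section Gor

variable {A : Type u} [CommRing A] [IsLocalRing A] [IsNoetherianRing A]

/-- over a Gorenstein local ring of dimension `d`: `Ext^i(κ, A) = 0` for `i ≠ d`, `≃ κ` for
`i = d`. -/
theorem gorenstein_hom_residueField (hG : LocCoh.IsGorensteinLocalRing A) (d : ℕ)
    (hd : ringKrullDim A = d) :
    (∀ i : ℤ, i ≠ d → Subsingleton
      (Dual.inD A (IsLocalRing.ResidueField A) ⟶ (Dual.inD A A)⟦i⟧)) ∧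
    Nonempty ((Dual.inD A (IsLocalRing.ResidueField A) ⟶ (Dual.inD A A)⟦(d : ℤ)⟧) ≃ₗ[A]
      IsLocalRing.ResidueField A) := by
  have hKd : Dual.IsDualizing A (Dual.inD A A) := (Groth.Agent.S11179.result A).1 hG
  obtain ⟨n, hn⟩ := exists_isNormalized_shift (Dual.inD A A) hKd
  have hKn : Dual.IsDualizing A ((Dual.inD A A)⟦n⟧) := isDualizing_shift (Dual.inD A A) hKd n
  have hCM : LocCoh.IsCohenMacaulayLocalRing A :=
    (isCohenMacaulayLocalRing_iff_HD_single (Dual.inD A A) hKd).2 ⟨0, fun i hi =>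
      ModuleCat.subsingleton_of_isZero (isZero_HD_inD (ModuleCat.of A A) i hi)⟩
  have hdepth : LocCoh.depth A A = d := by
    have h1 := hCM.supportDim_eq_depth
    rw [Module.supportDim_self_eq_ringKrullDim, hd] at h1
    have h2 : (((d : ℕ∞)) : WithBot ℕ∞) = ((LocCoh.depth A A : ℕ∞) : WithBot ℕ∞) := by
      exact_mod_cast h1
    exact (WithBot.coe_injective h2).symm
  have hnd : n = d := by
    have h := ((depth_self_eq_iff ((Dual.inD A A)⟦n⟧) hKn hn d).1 hdepth).2
    by_contra hne
    have hs : Subsingleton (Dual.HD A ((Dual.inD A A)⟦n⟧) (-(d : ℤ))) :=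
      (subsingleton_HD_shift_iff (Dual.inD A A) n (-(d : ℤ))).2
        (ModuleCat.subsingleton_of_isZero (isZero_HD_inD (ModuleCat.of A A) _ (by omega)))
    exact (not_subsingleton_iff_nontrivial.2 h) hs
  subst hnd
  refine ⟨fun i hi => ?_, ?_⟩
  · exact not_nontrivial_iff_subsingleton.1 (fun h =>
      hi ((nontrivial_hom_residueField_iff (Dual.inD A A) hKd (d : ℤ) hn i).1 h))
  · have hnt : Nontrivial (Dual.inD A (IsLocalRing.ResidueField A) ⟶ (Dual.inD A A)⟦(d : ℤ)⟧) :=
      (nontrivial_hom_residueField_iff (Dual.inD A A) hKd (d : ℤ) hn (d : ℤ)).2 rfl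
    have hnt' : Nontrivial (Dual.inD A (A ⧸ IsLocalRing.maximalIdeal A) ⟶
        (Dual.inD A A)⟦(d : ℤ)⟧) :=
      nontrivial_hom_of_linearEquiv resEquiv.symm _ hnt
    obtain ⟨e⟩ := nonempty_hom_linearEquiv_quot (Dual.inD A A) hKd (IsLocalRing.maximalIdeal A)
      (d : ℤ) hnt'
    exact ⟨(Linear.homCongr A (inDIsoOfLinearEquiv (resEquiv (A := A))) (Iso.refl _)).symm.trans
      (e.trans resEquiv)⟩

end Gor

end Groth.Agent.Lib.DMod_helper6
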