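import Mathlib

/-!
# Base change of power-torsion modules along maps inducing isos mod `I^n` (helper3)
-/

set_option autoImplicit false
set_option maxSynthPendingDepth 3

namespace Groth.Agent.Lib.PowerTorsionBC

open TensorProduct

universe u v

variable {R R' : Type u} [CommRing R] [CommRing R'] [Algebra R R']

lemma tmul_eq_zero_of_mem_map (J : Ideal R) {M : Type v} [AddCommGroup M] [Module R M]
    (hM : ∀ a ∈ J, ∀ m : M, a • m = 0) (j' : R') (hj' : j' ∈ Ideal.map (algebraMap R R') J)
    (m : M) : m ⊗ₜ[R] j' = 0 := by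
  induction hj' using Submodule.span_induction generalizing m with
  | mem x hx =>
    obtain ⟨j, hj, rfl⟩ := hx
    rw [Algebra.algebraMap_eq_smul_one, ← TensorProduct.smul_tmul, hM j hj m,
      TensorProduct.zero_tmul]
  | zero => exact TensorProduct.tmul_zero _ _
  | add x y _ _ hx hy => rw [TensorProduct.tmul_add, hx, hy, add_zero]
  | smul a x _ hx =>
    have h1 : m ⊗ₜ[R] (a • x) = (LinearMap.lTensor M (LinearMap.mulLeft R a)) (m ⊗ₜ[R] x) := by
      rw [LinearMap.lTensor_tmul]
      rfl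
    rw [h1, hx, map_zero]

lemma bounded_bijective (J : Ideal R)
    (hJ : Function.Bijective (Ideal.quotientMap (Ideal.map (algebraMap R R') J)
      (algebraMap R R') Ideal.le_comap_map))
    (M : Type v) [AddCommGroup M] [Module R M] (hM : ∀ a ∈ J, ∀ m : M, a • m = 0) :
    Function.Bijective (fun m : M => m ⊗ₜ[R] (1 : R')) := by
  constructor
  · have hT : Module.IsTorsionBySet R M (J : Set R) := fun m a => hM a.1 a.2 m
    letI := hT.module
    let e := RingEquiv.ofBijective _ hJ
    have he : ∀ r : R, e.symm (Ideal.Quotient.mk _ (algebraMap R R' r)) =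
        Ideal.Quotient.mk J r := by
      intro r
      rw [RingEquiv.symm_apply_eq]
      simp [e]
    have hsm : ∀ (r : R) (m : M), (Ideal.Quotient.mk J r) • m = r • m := fun r m => rfl
    let ψ : M ⊗[R] R' →ₗ[R] M := TensorProduct.lift (LinearMap.mk₂ R
      (fun m r' => (e.symm (Ideal.Quotient.mk _ r')) • m)
      (fun m₁ m₂ r' => smul_add _ _ _)
      (fun c m r' => by
        obtain ⟨d, hd⟩ := Ideal.Quotient.mk_surjective (e.symm (Ideal.Quotient.mk _ r'))
        rw [← hd, hsm, hsm, smul_comm])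
      (fun m r'₁ r'₂ => by rw [map_add, map_add, add_smul])
      (fun c m r' => by
        rw [Algebra.smul_def, map_mul, map_mul, he, mul_smul, hsm]))
    intro m₁ m₂ h
    have h2 := congrArg ψ h
    simpa [ψ] using h2
  · intro y
    induction y using TensorProduct.induction_on with
    | zero => exact ⟨0, TensorProduct.zero_tmul _ _⟩
    | tmul m r' =>
      obtain ⟨c, hc⟩ := hJ.2 (Ideal.Quotient.mk _ r')
      obtain ⟨r, rfl⟩ := Ideal.Quotient.mk_surjective c
      rw [Ideal.quotientMap_mk, Ideal.Quotient.eq] at hc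
      refine ⟨r • m, ?_⟩
      show (r • m) ⊗ₜ[R] (1 : R') = m ⊗ₜ[R] r'
      have h3 : m ⊗ₜ[R] r' = m ⊗ₜ[R] (algebraMap R R' r) - m ⊗ₜ[R] (algebraMap R R' r - r') := by
        rw [← TensorProduct.tmul_sub, sub_sub_cancel]
      rw [h3, tmul_eq_zero_of_mem_map J hM _ hc, sub_zero, Algebra.algebraMap_eq_smul_one]
      exact TensorProduct.smul_tmul _ _ _
    | add y₁ y₂ h₁ h₂ =>
      obtain ⟨m₁, rfl⟩ := h₁
      obtain ⟨m₂, rfl⟩ := h₂
      exact ⟨m₁ + m₂, TensorProduct.add_tmul _ _ _⟩

lemma exists_pow_kills_of_fg (I : Ideal R) {M : Type v} [AddCommGroup M] [Module R M]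
    (hM : ∀ m : M, ∃ n : ℕ, ∀ a ∈ I ^ n, a • m = 0) (Q : Submodule R M) (hQ : Q.FG) :
    ∃ n : ℕ, 0 < n ∧ ∀ a ∈ I ^ n, ∀ q : Q, a • q = 0 := by
  classical
  obtain ⟨t, rfl⟩ := hQ
  choose nf hnf using hM
  refine ⟨t.sup nf + 1, Nat.succ_pos _, ?_⟩
  intro a ha q
  have hall : ∀ x ∈ Submodule.span R (t : Set M), a • x = 0 := by
    intro x hx
    induction hx using Submodule.span_induction with
    | mem m hm =>
      refine hnf m a (Ideal.pow_le_pow_right ?_ ha)
      exact (Finset.le_sup hm).trans (Nat.le_succ _)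
    | zero => exact smul_zero _
    | add x y _ _ hx hy => rw [smul_add, hx, hy, add_zero]
    | smul c x _ hx => rw [smul_comm, hx, smul_zero]
  apply Subtype.ext
  rw [Submodule.coe_smul, Submodule.coe_zero]
  exact hall q.1 q.2

theorem tmul_one_bijective (I : Ideal R)
    (hq : ∀ n : ℕ, 0 < n → Function.Bijective
      (Ideal.quotientMap (Ideal.map (algebraMap R R') (I ^ n)) (algebraMap R R')
        Ideal.le_comap_map))
    (M : Type v) [AddCommGroup M] [Module R M]
    (hM : ∀ m : M, ∃ n : ℕ, ∀ a ∈ I ^ n, a • m = 0) :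
    Function.Bijective (fun m : M => m ⊗ₜ[R] (1 : R')) := by
  constructor
  · have key : ∀ m : M, m ⊗ₜ[R] (1 : R') = 0 → m = 0 := by
      intro m hm
      let P : Submodule R M := Submodule.span R {m}
      have hP : P.FG := Submodule.fg_span_singleton m
      let t : P ⊗[R] R' := (⟨m, Submodule.mem_span_singleton_self m⟩ : P) ⊗ₜ[R] (1 : R')
      have ht : LinearMap.rTensor R' P.subtype t = 0 := by
        simp only [t, LinearMap.rTensor_tmul, Submodule.subtype_apply]
        exact hm
      obtain ⟨Q, hPQ, hQ, hQ0⟩ := TensorProduct.eq_zero_of_fg_of_subtype_eq_zero hP ht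
      obtain ⟨n, hn, hkill⟩ := exists_pow_kills_of_fg I hM Q hQ
      have hinj := (bounded_bijective (I ^ n) (hq n hn) Q hkill).1
      have h0 : (⟨m, hPQ (Submodule.mem_span_singleton_self m)⟩ : Q) ⊗ₜ[R] (1 : R') = 0 := by
        have h9 := hQ0
        simp only [t, LinearMap.rTensor_tmul] at h9
        exact h9
      have h1 : (⟨m, hPQ (Submodule.mem_span_singleton_self m)⟩ : Q) = 0 := by
        apply hinj
        simp only
        rw [h0, TensorProduct.zero_tmul]
      exact congrArg Subtype.val h1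
    intro m₁ m₂ h
    have h2 : (m₁ - m₂) ⊗ₜ[R] (1 : R') = 0 := by
      rw [TensorProduct.sub_tmul]
      exact sub_eq_zero.2 h
    exact sub_eq_zero.1 (key _ h2)
  · intro y
    obtain ⟨P, hP, t, ht⟩ := TensorProduct.exists_of_fg y
    obtain ⟨n, hn, hkill⟩ := exists_pow_kills_of_fg I hM P hP
    obtain ⟨p, hp⟩ := (bounded_bijective (I ^ n) (hq n hn) P hkill).2 t
    refine ⟨p.1, ?_⟩
    simp only at hp
    rw [← ht, ← hp, LinearMap.rTensor_tmul]
    rfl

end Groth.Agent.Lib.PowerTorsionBC
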