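import Mathlib
import Groth.Prelude.Def_Wider
import Groth.Agent.Lib.PowerTorsionBC_helper3

/-!
# Flat maps inducing an isomorphism modulo an ideal, I: power torsion modules (helper2)

Let `A → B` be a flat ring map and `I` an ideal of `A` such that `A → B/IB` is surjective with
kernel `I`.  For every `I`-power torsion `A`-module `M`, the map `M → B ⊗_A M`, `m ↦ 1 ⊗ m`,
is bijective.
-/

set_option autoImplicit false
universe u v
open scoped TensorProduct

namespace Groth.Agent.Lib.FlatGlue

section Algebra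

variable {A B : Type u} [CommRing A] [CommRing B] [Algebra A B]

/-- `A/I → B/IB` is bijective -/
lemma bijective_quotientMap (I : Ideal A)
    (hs : Function.Surjective
      ((Ideal.Quotient.mk (I.map (algebraMap A B))).comp (algebraMap A B)))
    (hk : RingHom.ker ((Ideal.Quotient.mk (I.map (algebraMap A B))).comp (algebraMap A B)) = I) :
    Function.Bijective (Ideal.quotientMap (Ideal.map (algebraMap A B) I) (algebraMap A B)
      Ideal.le_comap_map) := by
  constructor
  · apply Ideal.quotientMap_injective'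
    intro a ha
    rw [← hk, RingHom.mem_ker, RingHom.comp_apply, Ideal.Quotient.eq_zero_iff_mem]
    exact ha
  · intro y
    obtain ⟨a, ha⟩ := hs y
    refine ⟨Ideal.Quotient.mk I a, ?_⟩
    rw [Ideal.quotientMap_mk]
    exact ha

/-- modules killed by `I` -/
lemma bijective_mk_of_killed (I : Ideal A)
    (hs : Function.Surjective
      ((Ideal.Quotient.mk (I.map (algebraMap A B))).comp (algebraMap A B)))
    (hk : RingHom.ker ((Ideal.Quotient.mk (I.map (algebraMap A B))).comp (algebraMap A B)) = I)
    (M : Type v) [AddCommGroup M] [Module A M] (hM : ∀ a ∈ I, ∀ m : M, a • m = 0) :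
    Function.Bijective (TensorProduct.mk A B M 1) := by
  have h1 := Groth.Agent.Lib.PowerTorsionBC.bounded_bijective I (bijective_quotientMap I hs hk) M hM
  have h2 := (TensorProduct.comm A M B).bijective.comp h1
  exact h2

/-- modules killed by a power of `I` -/
lemma bijective_mk_of_pow_killed [Module.Flat A B] (I : Ideal A)
    (hs : Function.Surjective
      ((Ideal.Quotient.mk (I.map (algebraMap A B))).comp (algebraMap A B)))
    (hk : RingHom.ker ((Ideal.Quotient.mk (I.map (algebraMap A B))).comp (algebraMap A B)) = I)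
    (n : ℕ) : ∀ (M : Type v) [AddCommGroup M] [Module A M], (∀ a ∈ I ^ n, ∀ m : M, a • m = 0) →
      Function.Bijective (TensorProduct.mk A B M 1) := by
  induction n with
  | zero =>
    intro M _ _ hM
    have hM0 : ∀ m : M, m = 0 := fun m => by simpa using hM 1 (by simp) m
    constructor
    · intro x y _
      rw [hM0 x, hM0 y]
    · intro z
      refine ⟨0, ?_⟩
      induction z using TensorProduct.induction_on with
      | zero => simp
      | tmul b m => rw [hM0 m]; simp
      | add x y hx hy => rw [← hx, ← hy]; simp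
  | succ n ih =>
    intro M _ _ hM
    let N : Submodule A M := I • (⊤ : Submodule A M)
    have hN : ∀ a ∈ I ^ n, ∀ y : N, a • y = 0 := by
      rintro a ha ⟨y, hy⟩
      apply Subtype.ext
      show a • y = 0
      refine Submodule.smul_induction_on hy ?_ ?_
      · intro r hr m _
        rw [smul_smul]
        exact hM _ (by rw [pow_succ]; exact Ideal.mul_mem_mul ha hr) m
      · intro x y hx hy
        rw [smul_add, hx, hy, add_zero]
    have hQ : ∀ a ∈ I, ∀ y : M ⧸ N, a • y = 0 := by
      intro a ha y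
      obtain ⟨m, rfl⟩ := N.mkQ_surjective y
      rw [← map_smul, Submodule.mkQ_apply, Submodule.Quotient.mk_eq_zero]
      exact Submodule.smul_mem_smul ha Submodule.mem_top
    have h1 := ih N hN
    have h2 := bijective_mk_of_killed I hs hk (M ⧸ N) hQ
    have hinj : Function.Injective (LinearMap.lTensor B N.subtype) :=
      Module.Flat.lTensor_preserves_injective_linearMap _ N.injective_subtype
    have hex : Function.Exact (LinearMap.lTensor B N.subtype) (LinearMap.lTensor B N.mkQ) :=
      lTensor_exact B (LinearMap.exact_subtype_mkQ N) N.mkQ_surjective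
    constructor
    · rw [injective_iff_map_eq_zero]
      intro m hm
      have hm' : (1 : B) ⊗ₜ[A] m = 0 := hm
      have h3 : (1 : B) ⊗ₜ[A] (N.mkQ m) = 0 := by
        have := congrArg (LinearMap.lTensor B N.mkQ) hm'
        simpa using this
      have h4 : N.mkQ m = 0 := by
        apply h2.1
        show (1 : B) ⊗ₜ[A] (N.mkQ m) = (1 : B) ⊗ₜ[A] (0 : M ⧸ N)
        rw [h3, TensorProduct.tmul_zero]
      have hmN : m ∈ N := by
        rwa [Submodule.mkQ_apply, Submodule.Quotient.mk_eq_zero] at h4
      have h5 : (1 : B) ⊗ₜ[A] (⟨m, hmN⟩ : N) = 0 := by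
        apply hinj
        rw [map_zero, LinearMap.lTensor_tmul]
        exact hm'
      have h6 : (⟨m, hmN⟩ : N) = 0 := by
        apply h1.1
        show (1 : B) ⊗ₜ[A] (⟨m, hmN⟩ : N) = (1 : B) ⊗ₜ[A] (0 : N)
        rw [h5, TensorProduct.tmul_zero]
      exact congrArg Subtype.val h6
    · intro z
      obtain ⟨m₁, hm₁⟩ := h2.2 (LinearMap.lTensor B N.mkQ z)
      obtain ⟨m₁', rfl⟩ := N.mkQ_surjective m₁
      have hm₁' : (1 : B) ⊗ₜ[A] (N.mkQ m₁') = LinearMap.lTensor B N.mkQ z := hm₁
      have h3 : LinearMap.lTensor B N.mkQ (z - (1 : B) ⊗ₜ[A] m₁') = 0 := by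
        rw [map_sub, ← hm₁', LinearMap.lTensor_tmul, sub_self]
      obtain ⟨w, hw⟩ := (hex _).1 h3
      obtain ⟨y, hy⟩ := h1.2 w
      have hy' : (1 : B) ⊗ₜ[A] y = w := hy
      refine ⟨m₁' + y.1, ?_⟩
      show (1 : B) ⊗ₜ[A] (m₁' + y.1) = z
      have h4 : (1 : B) ⊗ₜ[A] (y.1 : M) = LinearMap.lTensor B N.subtype w := by
        rw [← hy', LinearMap.lTensor_tmul]
        rfl
      rw [TensorProduct.tmul_add, h4, hw]
      abel

/-- **power torsion modules are unchanged by the base change** -/
theorem bijective_mk_of_isPowerTorsion [Module.Flat A B] (I : Ideal A)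
    (hs : Function.Surjective
      ((Ideal.Quotient.mk (I.map (algebraMap A B))).comp (algebraMap A B)))
    (hk : RingHom.ker ((Ideal.Quotient.mk (I.map (algebraMap A B))).comp (algebraMap A B)) = I)
    (M : Type v) [AddCommGroup M] [Module A M] (hM : LocCoh.IsPowerTorsion I M) :
    Function.Bijective (TensorProduct.mk A B M 1) := by
  let N : ℕ → Submodule A M := fun n => Submodule.torsionBySet A M ((I ^ n : Ideal A) : Set A)
  have hN : ∀ n, ∀ a ∈ I ^ n, ∀ y : N n, a • y = 0 := fun n a ha y =>
    Subtype.ext ((Submodule.mem_torsionBySet_iff _ _).1 y.2 ⟨a, ha⟩)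
  have hb := fun n => bijective_mk_of_pow_killed I hs hk n (N n) (hN n)
  have hmem : ∀ m : M, ∃ n, m ∈ N n := fun m => by
    obtain ⟨n, hn⟩ := hM m
    exact ⟨n, (Submodule.mem_torsionBySet_iff _ _).2 fun a => hn a.1 a.2⟩
  have hinj : ∀ n, Function.Injective (LinearMap.lTensor B (N n).subtype) := fun n =>
    Module.Flat.lTensor_preserves_injective_linearMap _ (N n).injective_subtype
  constructor
  · rw [injective_iff_map_eq_zero]
    intro m hm
    have hm' : (1 : B) ⊗ₜ[A] m = 0 := hm
    obtain ⟨n, hn⟩ := hmem m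
    have h5 : (1 : B) ⊗ₜ[A] (⟨m, hn⟩ : N n) = 0 := by
      apply hinj n
      rw [map_zero, LinearMap.lTensor_tmul]
      exact hm'
    have h6 : (⟨m, hn⟩ : N n) = 0 := by
      apply (hb n).1
      show (1 : B) ⊗ₜ[A] (⟨m, hn⟩ : N n) = (1 : B) ⊗ₜ[A] (0 : N n)
      rw [h5, TensorProduct.tmul_zero]
    exact congrArg Subtype.val h6
  · intro z
    induction z using TensorProduct.induction_on with
    | zero => exact ⟨0, by simp⟩
    | tmul b m =>
      obtain ⟨n, hn⟩ := hmem m
      obtain ⟨y, hy⟩ := (hb n).2 (b ⊗ₜ[A] (⟨m, hn⟩ : N n))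
      have hy' : (1 : B) ⊗ₜ[A] y = b ⊗ₜ[A] (⟨m, hn⟩ : N n) := hy
      refine ⟨y.1, ?_⟩
      have := congrArg (LinearMap.lTensor B (N n).subtype) hy'
      rw [LinearMap.lTensor_tmul, LinearMap.lTensor_tmul] at this
      exact this
    | add x y hx hy =>
      obtain ⟨a, rfl⟩ := hx
      obtain ⟨b, rfl⟩ := hy
      exact ⟨a + b, map_add _ _ _⟩

end Algebra

end Groth.Agent.Lib.FlatGlue
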