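import Mathlib
import Groth.Agent.Lib.DMod103_helper6
import Groth.Agent.Lib.DMod78_helper6
import Groth.Agent.Lib.DMod28_helper6
import Groth.Agent.Lib.DMod20_helper6
import Groth.Agent.Lib.DMod88_helper6

/-!
# Flat base change for `Hom` in the derived category, part 1 (helper2)

For a flat ring map `A → B` and objects `K`, `L` of `D(A)` there is the additive map
`β K L : B ⊗_A Hom(K, L) → Hom_{D(B)}(K ⊗ B, L ⊗ B)`, `b ⊗ φ ↦ b • (φ ⊗ B)`.
This file: naturality, invariance under isomorphisms and shifts, and the two five lemmas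
(in `L` and in `K`).
-/

set_option autoImplicit false
universe u
open CategoryTheory CategoryTheory.Limits CategoryTheory.Pretriangulated DerivedCategory
open scoped TensorProduct

attribute [local instance] HasDerivedCategory.standard

namespace Groth.Agent.Lib.FlatHom

open Groth.Agent.Lib.DMod_helper6 DRing Groth.Agent.ExtendScalarsLib

section Sets

lemma bij_of_square {X X' Y Y' : Type*} (p : X → X') (q : Y → Y') (f : X → Y) (f' : X' → Y')
    (hp : Function.Bijective p) (hq : Function.Bijective q) (h : ∀ x, f' (p x) = q (f x)) :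
    Function.Bijective f ↔ Function.Bijective f' := by
  have heq : f' ∘ p = q ∘ f := funext h
  constructor
  · intro hf
    have h1 : Function.Bijective (f' ∘ p) := by
      rw [heq]
      exact hq.comp hf
    exact (Function.Bijective.of_comp_iff f' hp).1 h1
  · intro hf'
    have h1 : Function.Bijective (q ∘ f) := by
      rw [← heq]
      exact hf'.comp hp
    exact (Function.Bijective.of_comp_iff' hq f).1 h1

lemma bij_of_subsingleton {X Y : Type*} [AddCommGroup X] [AddCommGroup Y] [Subsingleton X]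
    [Subsingleton Y] (f : X →+ Y) : Function.Bijective f :=
  ⟨fun _ _ _ => Subsingleton.elim _ _, fun y => ⟨0, Subsingleton.elim _ _⟩⟩

end Sets

section Tensor

variable {A : Type*} [CommRing A] (B : Type*) [AddCommGroup B] [Module A B]

lemma lTensor_bijective_of_inverse {M M' : Type*} [AddCommGroup M] [Module A M]
    [AddCommGroup M'] [Module A M'] (f : M →ₗ[A] M') (g : M' →ₗ[A] M)
    (h1 : g ∘ₗ f = LinearMap.id) (h2 : f ∘ₗ g = LinearMap.id) :
    Function.Bijective (f.lTensor B) := by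
  refine Function.bijective_iff_has_inverse.2 ⟨g.lTensor B, fun x => ?_, fun x => ?_⟩
  · rw [← LinearMap.comp_apply, ← LinearMap.lTensor_comp, h1, LinearMap.lTensor_id,
      LinearMap.id_apply]
  · rw [← LinearMap.comp_apply, ← LinearMap.lTensor_comp, h2, LinearMap.lTensor_id,
      LinearMap.id_apply]

lemma lTensor_bijective_of_bijective {M M' : Type*} [AddCommGroup M] [Module A M]
    [AddCommGroup M'] [Module A M'] (f : M →ₗ[A] M') (hf : Function.Bijective f) :
    Function.Bijective (f.lTensor B) :=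
  lTensor_bijective_of_inverse B f (LinearEquiv.ofBijective f hf).symm.toLinearMap
    (LinearMap.ext fun x => (LinearEquiv.ofBijective f hf).symm_apply_apply x)
    (LinearMap.ext fun x => (LinearEquiv.ofBijective f hf).apply_symm_apply x)

lemma subsingleton_tensor {M : Type*} [AddCommGroup M] [Module A M] [Subsingleton M] :
    Subsingleton (B ⊗[A] M) := by
  refine ⟨fun x y => ?_⟩
  have h0 : ∀ z : B ⊗[A] M, z = 0 := by
    intro z
    induction z using TensorProduct.induction_on with
    | zero => rfl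
    | tmul b m => rw [Subsingleton.elim m 0, TensorProduct.tmul_zero]
    | add x y hx hy => rw [hx, hy, add_zero]
  rw [h0 x, h0 y]

end Tensor

section Exact

variable (R : Type*) [Semiring R] {C : Type*} [Category C] [Preadditive C] [Linear R C]
  [HasZeroObject C] [HasShift C ℤ] [∀ n : ℤ, (shiftFunctor C n).Additive] [Pretriangulated C]

lemma exact_rightComp (X : C) (T : Triangle C) (hT : T ∈ distTriang C) :
    Function.Exact (Linear.rightComp R X T.mor₁) (Linear.rightComp R X T.mor₂) := by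
  intro f
  constructor
  · intro hf
    obtain ⟨g, hg⟩ := Triangle.coyoneda_exact₂ T hT f hf
    exact ⟨g, hg.symm⟩
  · rintro ⟨g, rfl⟩
    show (g ≫ T.mor₁) ≫ T.mor₂ = 0
    rw [Category.assoc, comp_distTriang_mor_zero₁₂ _ hT, comp_zero]

lemma exact_leftComp (X : C) (T : Triangle C) (hT : T ∈ distTriang C) :
    Function.Exact (Linear.leftComp R X T.mor₂) (Linear.leftComp R X T.mor₁) := by
  intro f
  constructor
  · intro hf
    obtain ⟨g, hg⟩ := Triangle.yoneda_exact₂ T hT f hf
    exact ⟨g, hg.symm⟩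
  · rintro ⟨g, rfl⟩
    show T.mor₁ ≫ T.mor₂ ≫ g = 0
    rw [← Category.assoc, comp_distTriang_mor_zero₁₂ _ hT, zero_comp]

end Exact

variable {A B : Type u} [CommRing A] [CommRing B] [Algebra A B] [Module.Flat A B]

/-- `b ⊗ φ ↦ b • (φ ⊗ B)` -/
noncomputable def β (K L : Dual.D A) :
    B ⊗[A] (K ⟶ L) →+ ((bcD A B).obj K ⟶ (bcD A B).obj L) :=
  TensorProduct.liftAddHom
    { toFun := fun b =>
        { toFun := fun φ => b • (bcD A B).map φ
          map_zero' := by rw [CategoryTheory.Functor.map_zero, smul_zero]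
          map_add' := fun φ ψ => by rw [CategoryTheory.Functor.map_add, smul_add] }
      map_zero' := by
        ext φ
        exact zero_smul _ _
      map_add' := fun b b' => by
        ext φ
        exact add_smul _ _ _ }
    (fun a b φ => by
      show (a • b) • (bcD A B).map φ = b • (bcD A B).map (a • φ)
      rw [bcD_map_smul, smul_smul, Algebra.smul_def, mul_comm])

lemma β_tmul (K L : Dual.D A) (b : B) (φ : K ⟶ L) :
    β K L (b ⊗ₜ[A] φ) = b • (bcD A B).map φ := rfl

lemma β_comp_right (K : Dual.D A) {L L' : Dual.D A} (g : L ⟶ L') (x : B ⊗[A] (K ⟶ L)) :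
    β K L' ((Linear.rightComp A K g).lTensor B x) = β K L x ≫ (bcD A B).map g := by
  induction x using TensorProduct.induction_on with
  | zero => simp only [map_zero, zero_comp]
  | tmul b φ =>
    rw [LinearMap.lTensor_tmul, β_tmul, β_tmul]
    show b • (bcD A B).map (φ ≫ g) = (b • (bcD A B).map φ) ≫ (bcD A B).map g
    rw [CategoryTheory.Functor.map_comp, Linear.smul_comp]
  | add x y hx hy => rw [map_add, map_add, map_add, hx, hy, Preadditive.add_comp]

lemma β_comp_left {K K' : Dual.D A} (h : K' ⟶ K) (L : Dual.D A) (x : B ⊗[A] (K ⟶ L)) :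
    β K' L ((Linear.leftComp A L h).lTensor B x) = (bcD A B).map h ≫ β K L x := by
  induction x using TensorProduct.induction_on with
  | zero => simp only [map_zero, comp_zero]
  | tmul b φ =>
    rw [LinearMap.lTensor_tmul, β_tmul, β_tmul]
    show b • (bcD A B).map (h ≫ φ) = (bcD A B).map h ≫ (b • (bcD A B).map φ)
    rw [CategoryTheory.Functor.map_comp, Linear.comp_smul]
  | add x y hx hy => rw [map_add, map_add, map_add, hx, hy, Preadditive.comp_add]

/-! ### invariance under isomorphisms -/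

lemma bij_iso_right (K : Dual.D A) {L L' : Dual.D A} (e : L ≅ L') :
    Function.Bijective (β (B := B) K L) ↔ Function.Bijective (β (B := B) K L') := by
  refine bij_of_square ((Linear.rightComp A K e.hom).lTensor B)
    (fun g : (bcD A B).obj K ⟶ (bcD A B).obj L => g ≫ (bcD A B).map e.hom) _ _ ?_ ?_
    (fun x => β_comp_right K e.hom x)
  · exact lTensor_bijective_of_inverse B _ (Linear.rightComp A K e.inv)
      (LinearMap.ext fun f => by simp) (LinearMap.ext fun f => by simp)
  · refine ⟨fun g g' hgg => (cancel_mono ((bcD A B).map e.hom)).1 hgg,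
      fun g => ⟨g ≫ (bcD A B).map e.inv, ?_⟩⟩
    show (g ≫ (bcD A B).map e.inv) ≫ (bcD A B).map e.hom = g
    rw [Category.assoc, ← CategoryTheory.Functor.map_comp, Iso.inv_hom_id,
      CategoryTheory.Functor.map_id, Category.comp_id]

lemma bij_iso_left {K K' : Dual.D A} (e : K' ≅ K) (L : Dual.D A) :
    Function.Bijective (β (B := B) K L) ↔ Function.Bijective (β (B := B) K' L) := by
  refine bij_of_square ((Linear.leftComp A L e.hom).lTensor B)
    (fun g : (bcD A B).obj K ⟶ (bcD A B).obj L => (bcD A B).map e.hom ≫ g) _ _ ?_ ?_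
    (fun x => β_comp_left e.hom L x)
  · exact lTensor_bijective_of_inverse B _ (Linear.leftComp A L e.inv)
      (LinearMap.ext fun f => by simp) (LinearMap.ext fun f => by simp)
  · refine ⟨fun g g' hgg => (cancel_epi ((bcD A B).map e.hom)).1 hgg,
      fun g => ⟨(bcD A B).map e.inv ≫ g, ?_⟩⟩
    show (bcD A B).map e.hom ≫ (bcD A B).map e.inv ≫ g = g
    rw [← Category.assoc, ← CategoryTheory.Functor.map_comp, Iso.hom_inv_id,
      CategoryTheory.Functor.map_id, Category.id_comp]

/-! ### invariance under shifts -/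

lemma bij_shift (K L : Dual.D A) (m : ℤ) :
    Function.Bijective (β (B := B) K L) ↔ Function.Bijective (β (B := B) (K⟦m⟧) (L⟦m⟧)) := by
  let c := (bcD A B).commShiftIso m
  let q : ((bcD A B).obj K ⟶ (bcD A B).obj L) →
      ((bcD A B).obj (K⟦m⟧) ⟶ (bcD A B).obj (L⟦m⟧)) :=
    fun g => c.hom.app K ≫ g⟦m⟧' ≫ c.inv.app L
  have hq0 : q 0 = 0 := by
    show c.hom.app K ≫ (0 : (bcD A B).obj K ⟶ (bcD A B).obj L)⟦m⟧' ≫ c.inv.app L = 0
    rw [CategoryTheory.Functor.map_zero, zero_comp, comp_zero]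
  have hqadd : ∀ g g', q (g + g') = q g + q g' := by
    intro g g'
    show c.hom.app K ≫ (g + g')⟦m⟧' ≫ c.inv.app L = _
    rw [CategoryTheory.Functor.map_add, Preadditive.add_comp, Preadditive.comp_add]
  have hqsmul : ∀ (b : B) g, q (b • g) = b • q g := by
    intro b g
    show c.hom.app K ≫ (b • g)⟦m⟧' ≫ c.inv.app L = b • (c.hom.app K ≫ g⟦m⟧' ≫ c.inv.app L)
    rw [CategoryTheory.Functor.map_smul, Linear.smul_comp, Linear.comp_smul]
  have hnat : ∀ φ : K ⟶ L, (bcD A B).map (φ⟦m⟧') = q ((bcD A B).map φ) := by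
    intro φ
    have h1 := c.hom.naturality φ
    have h2 : (bcD A B).map (φ⟦m⟧') ≫ c.hom.app L =
        c.hom.app K ≫ ((bcD A B).map φ)⟦m⟧' := h1
    have h3 : c.hom.app L ≫ c.inv.app L = 𝟙 ((bcD A B).obj (L⟦m⟧)) := Iso.hom_inv_id_app c L
    show _ = c.hom.app K ≫ ((bcD A B).map φ)⟦m⟧' ≫ c.inv.app L
    rw [← Category.assoc, ← h2, Category.assoc, h3, Category.comp_id]
  refine bij_of_square
    (((shiftFunctor (Dual.D A) m).mapLinearMap A : (K ⟶ L) →ₗ[A] _).lTensor B) q _ _ ?_ ?_ ?_
  · apply lTensor_bijective_of_bijective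
    exact ⟨fun f g h => (shiftFunctor (Dual.D A) m).map_injective h,
      fun g => (shiftFunctor (Dual.D A) m).map_surjective g⟩
  · constructor
    · intro g g' hgg
      have h1 : g⟦m⟧' = g'⟦m⟧' := by
        have h2 : c.hom.app K ≫ g⟦m⟧' ≫ c.inv.app L = c.hom.app K ≫ g'⟦m⟧' ≫ c.inv.app L := hgg
        rw [cancel_epi, cancel_mono] at h2
        exact h2
      exact (shiftFunctor (Dual.D B) m).map_injective h1
    · intro g
      obtain ⟨g', hg'⟩ := (shiftFunctor (Dual.D B) m).map_surjective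
        (c.inv.app K ≫ g ≫ c.hom.app L)
      refine ⟨g', ?_⟩
      show c.hom.app K ≫ g'⟦m⟧' ≫ c.inv.app L = g
      rw [hg']
      simp
  · intro x
    induction x using TensorProduct.induction_on with
    | zero => rw [map_zero, map_zero, map_zero, hq0]
    | tmul b φ =>
      rw [LinearMap.lTensor_tmul, β_tmul, β_tmul]
      show b • (bcD A B).map (φ⟦m⟧') = q (b • (bcD A B).map φ)
      rw [hqsmul, hnat]
    | add x y hx hy => rw [map_add, map_add, map_add, hx, hy, hqadd]

/-! ### the five lemma in the second variable -/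

theorem bij_ext_right (K : Dual.D A) (T : Triangle (Dual.D A)) (hT : T ∈ distTriang (Dual.D A))
    (h₁ : Function.Bijective (β (B := B) K T.obj₁))
    (h₃ : Function.Bijective (β (B := B) K T.obj₃))
    (h₁' : Function.Bijective (β (B := B) K (T.obj₁⟦(1 : ℤ)⟧)))
    (h₃' : Function.Bijective (β (B := B) K (T.obj₃⟦(-1 : ℤ)⟧))) :
    Function.Bijective (β (B := B) K T.obj₂) := by
  have hTi := inv_rot_of_distTriang T hT
  have hTr := rot_of_distTriang T hT
  let u₀ : T.obj₃⟦(-1 : ℤ)⟧ ⟶ T.obj₁ := T.invRotate.mor₁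
  let f₁ := ((Linear.rightComp A K u₀).lTensor B).toAddMonoidHom
  let f₂ := ((Linear.rightComp A K T.mor₁).lTensor B).toAddMonoidHom
  let f₃ := ((Linear.rightComp A K T.mor₂).lTensor B).toAddMonoidHom
  let f₄ := ((Linear.rightComp A K T.mor₃).lTensor B).toAddMonoidHom
  let g₁ := (Linear.rightComp B ((bcD A B).obj K) ((bcD A B).map u₀)).toAddMonoidHom
  let g₂ := (Linear.rightComp B ((bcD A B).obj K) ((bcD A B).map T.mor₁)).toAddMonoidHom
  let g₃ := (Linear.rightComp B ((bcD A B).obj K) ((bcD A B).map T.mor₂)).toAddMonoidHom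
  let g₄ := (Linear.rightComp B ((bcD A B).obj K) ((bcD A B).map T.mor₃)).toAddMonoidHom
  have hc₁ : g₁.comp (β K (T.obj₃⟦(-1 : ℤ)⟧)) = (β K T.obj₁).comp f₁ :=
    AddMonoidHom.ext fun x => (β_comp_right K u₀ x).symm
  have hc₂ : g₂.comp (β K T.obj₁) = (β K T.obj₂).comp f₂ :=
    AddMonoidHom.ext fun x => (β_comp_right K T.mor₁ x).symm
  have hc₃ : g₃.comp (β K T.obj₂) = (β K T.obj₃).comp f₃ :=
    AddMonoidHom.ext fun x => (β_comp_right K T.mor₂ x).symm
  have hc₄ : g₄.comp (β K T.obj₃) = (β K (T.obj₁⟦(1 : ℤ)⟧)).comp f₄ :=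
    AddMonoidHom.ext fun x => (β_comp_right K T.mor₃ x).symm
  have hf₁ : Function.Exact f₁ f₂ :=
    Module.Flat.lTensor_exact B (exact_rightComp A K T.invRotate hTi)
  have hf₂ : Function.Exact f₂ f₃ :=
    Module.Flat.lTensor_exact B (exact_rightComp A K T hT)
  have hf₃ : Function.Exact f₃ f₄ :=
    Module.Flat.lTensor_exact B (exact_rightComp A K T.rotate hTr)
  have hg₁ : Function.Exact g₁ g₂ :=
    exact_rightComp B ((bcD A B).obj K) ((bcD A B).mapTriangle.obj T.invRotate)
      ((bcD A B).map_distinguished _ hTi)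
  have hg₂ : Function.Exact g₂ g₃ :=
    exact_rightComp B ((bcD A B).obj K) ((bcD A B).mapTriangle.obj T)
      ((bcD A B).map_distinguished _ hT)
  have hg₃ : Function.Exact g₃ g₄ := by
    have h := exact_rightComp B ((bcD A B).obj K) ((bcD A B).mapTriangle.obj T)
      ((bcD A B).map_distinguished _ hT)
    have h' := exact_rightComp B ((bcD A B).obj K) ((bcD A B).mapTriangle.obj T).rotate
      (rot_of_distTriang _ ((bcD A B).map_distinguished _ hT))
    -- `g ≫ F(mor₃) = 0 ↔ g ≫ F(mor₃) ≫ iso = 0`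
    intro g
    have h2 := h' g
    constructor
    · intro hg
      apply h2.1
      show g ≫ ((bcD A B).map T.mor₃ ≫ ((bcD A B).commShiftIso (1 : ℤ)).hom.app T.obj₁) = 0
      have hg' : g ≫ (bcD A B).map T.mor₃ = 0 := hg
      rw [← Category.assoc, hg', zero_comp]
    · intro hg
      have h3 := h2.2 hg
      have h4 : g ≫ ((bcD A B).map T.mor₃ ≫ ((bcD A B).commShiftIso (1 : ℤ)).hom.app T.obj₁) = 0 :=
        h3
      show g ≫ (bcD A B).map T.mor₃ = 0
      rw [← Category.assoc] at h4
      exact (cancel_mono (((bcD A B).commShiftIso (1 : ℤ)).hom.app T.obj₁)).1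
        (by rw [h4, zero_comp])
  exact AddMonoidHom.bijective_of_surjective_of_bijective_of_bijective_of_injective
    f₁ f₂ f₃ f₄ g₁ g₂ g₃ g₄ (β K _) (β K _) (β K _) (β K _) (β K _)
    hc₁ hc₂ hc₃ hc₄ hf₁ hf₂ hf₃ hg₁ hg₂ hg₃ h₃'.2 h₁ h₃ h₁'.1

/-! ### the five lemma in the first variable -/

theorem bij_ext_left (L : Dual.D A) (T : Triangle (Dual.D A)) (hT : T ∈ distTriang (Dual.D A))
    (h₁ : Function.Bijective (β (B := B) T.obj₁ L))
    (h₃ : Function.Bijective (β (B := B) T.obj₃ L))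
    (h₁' : Function.Bijective (β (B := B) (T.obj₁⟦(1 : ℤ)⟧) L))
    (h₃' : Function.Bijective (β (B := B) (T.obj₃⟦(-1 : ℤ)⟧) L)) :
    Function.Bijective (β (B := B) T.obj₂ L) := by
  have hTi := inv_rot_of_distTriang T hT
  have hTr := rot_of_distTriang T hT
  let u₀ : T.obj₃⟦(-1 : ℤ)⟧ ⟶ T.obj₁ := T.invRotate.mor₁
  let f₁ := ((Linear.leftComp A L T.mor₃).lTensor B).toAddMonoidHom
  let f₂ := ((Linear.leftComp A L T.mor₂).lTensor B).toAddMonoidHom
  let f₃ := ((Linear.leftComp A L T.mor₁).lTensor B).toAddMonoidHom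
  let f₄ := ((Linear.leftComp A L u₀).lTensor B).toAddMonoidHom
  let g₁ := (Linear.leftComp B ((bcD A B).obj L) ((bcD A B).map T.mor₃)).toAddMonoidHom
  let g₂ := (Linear.leftComp B ((bcD A B).obj L) ((bcD A B).map T.mor₂)).toAddMonoidHom
  let g₃ := (Linear.leftComp B ((bcD A B).obj L) ((bcD A B).map T.mor₁)).toAddMonoidHom
  let g₄ := (Linear.leftComp B ((bcD A B).obj L) ((bcD A B).map u₀)).toAddMonoidHom
  have hc₁ : g₁.comp (β (T.obj₁⟦(1 : ℤ)⟧) L) = (β T.obj₃ L).comp f₁ :=
    AddMonoidHom.ext fun x => (β_comp_left T.mor₃ L x).symm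
  have hc₂ : g₂.comp (β T.obj₃ L) = (β T.obj₂ L).comp f₂ :=
    AddMonoidHom.ext fun x => (β_comp_left T.mor₂ L x).symm
  have hc₃ : g₃.comp (β T.obj₂ L) = (β T.obj₁ L).comp f₃ :=
    AddMonoidHom.ext fun x => (β_comp_left T.mor₁ L x).symm
  have hc₄ : g₄.comp (β T.obj₁ L) = (β (T.obj₃⟦(-1 : ℤ)⟧) L).comp f₄ :=
    AddMonoidHom.ext fun x => (β_comp_left u₀ L x).symm
  have hf₁ : Function.Exact f₁ f₂ :=
    Module.Flat.lTensor_exact B (exact_leftComp A L T.rotate hTr)
  have hf₂ : Function.Exact f₂ f₃ :=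
    Module.Flat.lTensor_exact B (exact_leftComp A L T hT)
  have hf₃ : Function.Exact f₃ f₄ :=
    Module.Flat.lTensor_exact B (exact_leftComp A L T.invRotate hTi)
  have hg₂ : Function.Exact g₂ g₃ :=
    exact_leftComp B ((bcD A B).obj L) ((bcD A B).mapTriangle.obj T)
      ((bcD A B).map_distinguished _ hT)
  have hg₃ : Function.Exact g₃ g₄ :=
    exact_leftComp B ((bcD A B).obj L) ((bcD A B).mapTriangle.obj T.invRotate)
      ((bcD A B).map_distinguished _ hTi)
  have hg₁ : Function.Exact g₁ g₂ := by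
    have h' := exact_leftComp B ((bcD A B).obj L) ((bcD A B).mapTriangle.obj T).rotate
      (rot_of_distTriang _ ((bcD A B).map_distinguished _ hT))
    -- `h'` : exact for precomposition with `F(mor₃) ≫ iso` and `F(mor₂)`
    intro g
    constructor
    · intro hg
      obtain ⟨g', hg'⟩ := (h' g).1 hg
      refine ⟨((bcD A B).commShiftIso (1 : ℤ)).hom.app T.obj₁ ≫ g', ?_⟩
      show (bcD A B).map T.mor₃ ≫ ((bcD A B).commShiftIso (1 : ℤ)).hom.app T.obj₁ ≫ g' = g
      rw [← Category.assoc]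
      exact hg'
    · rintro ⟨g', rfl⟩
      show (bcD A B).map T.mor₂ ≫ (bcD A B).map T.mor₃ ≫ g' = 0
      rw [← Category.assoc, ← CategoryTheory.Functor.map_comp, comp_distTriang_mor_zero₂₃ _ hT,
        CategoryTheory.Functor.map_zero, zero_comp]
  exact AddMonoidHom.bijective_of_surjective_of_bijective_of_bijective_of_injective
    f₁ f₂ f₃ f₄ g₁ g₂ g₃ g₄ (β _ L) (β _ L) (β _ L) (β _ L) (β _ L)
    hc₁ hc₂ hc₃ hc₄ hf₁ hf₂ hf₃ hg₁ hg₂ hg₃ h₁'.2 h₃ h₁ h₃'.1

end Groth.Agent.Lib.FlatHom
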