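import Mathlib
import Groth.Agent.Lib.FlatHom1_helper2
import Groth.Agent.Lib.DMod3_helper6
import Groth.Agent.Lib.DMod10_helper6
import Groth.Agent.Lib.DMod9_helper6
import Groth.Agent.Lib.DMod7_helper6

/-!
# Flat base change for `Hom` in the derived category, part 2 (helper2)

For a flat ring map `A → B`, a pseudo-coherent object `K` and a (cohomologically) bounded object
`L` of `D(A)`, the map `β K L : B ⊗_A Hom(K, L) → Hom_{D(B)}(K ⊗ B, L ⊗ B)` is bijective
(`flatHom_bijective`).  The proof is by dévissage: `K = A`, `L` a module (explicit); `K = A`, `L`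
bounded (dévissage on cohomology); `K` a bounded complex of finite free modules (dévissage on
terms); `K` pseudo-coherent (approximation by bounded complexes of finite free modules).
-/

set_option autoImplicit false
universe u
open CategoryTheory CategoryTheory.Limits CategoryTheory.Pretriangulated DerivedCategory ZeroObject
open scoped TensorProduct ChangeOfRings

attribute [local instance] HasDerivedCategory.standard

namespace Groth.Agent.Lib.FlatHom

open Groth.Agent.Lib.DMod_helper6 DRing Groth.Agent.ExtendScalarsLib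

section Gamma

variable {A B : Type u} [CommRing A] [CommRing B] [Algebra A B]

/-- `b ⊗ φ ↦ b • (φ ⊗ B)` on the level of modules -/
noncomputable def γ (M N : ModuleCat.{u} A) :
    B ⊗[A] (M ⟶ N) →+ ((ES A B).obj M ⟶ (ES A B).obj N) :=
  TensorProduct.liftAddHom
    { toFun := fun b =>
        { toFun := fun φ => b • (ES A B).map φ
          map_zero' := by rw [CategoryTheory.Functor.map_zero, smul_zero]
          map_add' := fun φ ψ => by rw [CategoryTheory.Functor.map_add, smul_add] }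
      map_zero' := AddMonoidHom.ext fun φ => zero_smul B ((ES A B).map φ)
      map_add' := fun b b' => AddMonoidHom.ext fun φ => add_smul b b' ((ES A B).map φ) }
    (fun a b φ => by
      show (a • b) • (ES A B).map φ = b • (ES A B).map (a • φ)
      rw [ES_map_smul, smul_smul, Algebra.smul_def, mul_comm])

lemma γ_tmul (M N : ModuleCat.{u} A) (b : B) (φ : M ⟶ N) :
    γ M N (b ⊗ₜ[A] φ) = b • (ES A B).map φ := rfl

/-- evaluation at `1 ⊗ 1` -/
noncomputable def Λ (N : ModuleCat.{u} A)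
    (h : (ES A B).obj (ModuleCat.of A A) ⟶ (ES A B).obj N) : B ⊗[A] N :=
  extendScalarsEquivTensor (S := B) N (h.hom ((1 : B) ⊗ₜ[A,algebraMap A B] (1 : A)))

lemma Λ_injective (N : ModuleCat.{u} A) : Function.Injective (Λ (B := B) N) := by
  intro h h' hh
  have h1 : flatMap h = flatMap h' := by
    apply LinearMap.ext_ring
    rw [flatMap_apply, flatMap_apply]
    exact hh
  apply ModuleCat.ExtendScalars.hom_ext
  intro m
  apply (extendScalarsEquivTensor (S := B) N).injective
  have h2 := LinearMap.congr_fun h1 m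
  rw [flatMap_apply, flatMap_apply] at h2
  exact h2

/-- evaluation at `1` -/
noncomputable def ev₁ (N : ModuleCat.{u} A) : (ModuleCat.of A A ⟶ N) ≃ₗ[A] N :=
  (ModuleCat.homLinearEquiv (S := A)).trans (LinearMap.ringLmapEquivSelf A A N)

lemma ev₁_apply (N : ModuleCat.{u} A) (φ : ModuleCat.of A A ⟶ N) :
    ev₁ N φ = φ.hom (1 : A) := rfl

lemma Λ_γ (N : ModuleCat.{u} A) (x : B ⊗[A] (ModuleCat.of A A ⟶ N)) :
    Λ N (γ (ModuleCat.of A A) N x) = (ev₁ N).toLinearMap.lTensor B x := by
  induction x using TensorProduct.induction_on with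
  | zero =>
    rw [map_zero, map_zero]
    show extendScalarsEquivTensor (S := B) N
      ((0 : (ES A B).obj (ModuleCat.of A A) ⟶ (ES A B).obj N).hom _) = 0
    rw [ModuleCat.hom_zero, LinearMap.zero_apply, map_zero]
  | tmul b φ =>
    rw [LinearMap.lTensor_tmul, γ_tmul]
    show extendScalarsEquivTensor (S := B) N ((b • (ES A B).map φ).hom _) =
      b ⊗ₜ[A] (φ.hom (1 : A))
    have h2 : (b • (ES A B).map φ).hom ((1 : B) ⊗ₜ[A,algebraMap A B] (1 : A)) =
        b • ((ES A B).map φ).hom ((1 : B) ⊗ₜ[A,algebraMap A B] (1 : A)) := rfl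
    rw [h2, map_smul, ES_map_comm, extendScalarsEquivTensor_tmul, LinearMap.baseChange_tmul,
      TensorProduct.smul_tmul', smul_eq_mul, mul_one]
  | add x y hx hy =>
    rw [map_add, map_add, ← hx, ← hy]
    show extendScalarsEquivTensor (S := B) N
      ((γ (ModuleCat.of A A) N x + γ (ModuleCat.of A A) N y).hom _) = _
    rw [ModuleCat.hom_add, LinearMap.add_apply, map_add]
    rfl

lemma γ_bijective (N : ModuleCat.{u} A) :
    Function.Bijective (γ (B := B) (ModuleCat.of A A) N) := by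
  have h1 : Function.Bijective ((ev₁ N).toLinearMap.lTensor B) :=
    lTensor_bijective_of_bijective B _ (ev₁ N).bijective
  constructor
  · intro x y hxy
    apply h1.1
    rw [← Λ_γ, ← Λ_γ, hxy]
  · intro h
    obtain ⟨x, hx⟩ := h1.2 (Λ N h)
    exact ⟨x, Λ_injective N (by rw [Λ_γ, hx])⟩

end Gamma

lemma subsingleton_hom_of_isos {C : Type*} [Category C] {X X' Y Y' : C} (eX : X ≅ X')
    (eY : Y ≅ Y') (h : Subsingleton (X' ⟶ Y')) : Subsingleton (X ⟶ Y) :=
  ⟨fun g g' => by
    have h1 : eX.inv ≫ g ≫ eY.hom = eX.inv ≫ g' ≫ eY.hom := Subsingleton.elim _ _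
    rw [cancel_epi, cancel_mono] at h1
    exact h1⟩

variable {A B : Type u} [CommRing A] [CommRing B] [Algebra A B] [Module.Flat A B]

/-! ### the base case -/

lemma bij_base_zero (N : ModuleCat.{u} A) :
    Function.Bijective (β (B := B) (Dual.inD A A)
      ((singleFunctor (ModuleCat.{u} A) 0).obj N)) := by
  let SA := singleFunctor (ModuleCat.{u} A) 0
  let SB := singleFunctor (ModuleCat.{u} B) 0
  let Θ : SA ⋙ bcD A B ≅ ES A B ⋙ SB := (ES A B).mapDerivedCategorySingleFunctor 0
  let M : ModuleCat.{u} A := ModuleCat.of A A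
  let q : ((ES A B).obj M ⟶ (ES A B).obj N) →
      ((bcD A B).obj (SA.obj M) ⟶ (bcD A B).obj (SA.obj N)) :=
    fun g => Θ.hom.app M ≫ SB.map g ≫ Θ.inv.app N
  refine (bij_of_square ((SA.mapLinearMap A : (M ⟶ N) →ₗ[A] _).lTensor B) q (γ M N)
    (β (SA.obj M) (SA.obj N)) ?_ ?_ ?_).1 (γ_bijective N)
  · apply lTensor_bijective_of_bijective
    exact ⟨fun f g h => SA.map_injective h, fun g => SA.map_surjective g⟩
  · constructor
    · intro g g' hgg
      have h2 : Θ.hom.app M ≫ SB.map g ≫ Θ.inv.app N =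
          Θ.hom.app M ≫ SB.map g' ≫ Θ.inv.app N := hgg
      rw [cancel_epi, cancel_mono] at h2
      exact SB.map_injective h2
    · intro g
      obtain ⟨g', hg'⟩ := SB.map_surjective (Θ.inv.app M ≫ g ≫ Θ.hom.app N)
      refine ⟨g', ?_⟩
      show Θ.hom.app M ≫ SB.map g' ≫ Θ.inv.app N = g
      rw [hg']
      simp
  · intro x
    induction x using TensorProduct.induction_on with
    | zero =>
      rw [map_zero, map_zero, map_zero]
      show (0 : (bcD A B).obj (SA.obj M) ⟶ (bcD A B).obj (SA.obj N)) =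
        Θ.hom.app M ≫ SB.map 0 ≫ Θ.inv.app N
      rw [CategoryTheory.Functor.map_zero, zero_comp, comp_zero]
    | tmul b φ =>
      rw [LinearMap.lTensor_tmul, β_tmul, γ_tmul]
      show b • (bcD A B).map (SA.map φ) =
        Θ.hom.app M ≫ SB.map (b • (ES A B).map φ) ≫ Θ.inv.app N
      have h1 : (bcD A B).map (SA.map φ) ≫ Θ.hom.app N =
          Θ.hom.app M ≫ SB.map ((ES A B).map φ) := Θ.hom.naturality φ
      have h3 : Θ.hom.app N ≫ Θ.inv.app N = 𝟙 ((bcD A B).obj (SA.obj N)) :=
        Iso.hom_inv_id_app Θ N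
      rw [CategoryTheory.Functor.map_smul, Linear.smul_comp, Linear.comp_smul,
        ← Category.assoc, ← h1, Category.assoc, h3, Category.comp_id]
    | add x y hx hy =>
      rw [map_add, map_add, map_add, hx, hy]
      show _ = Θ.hom.app M ≫ SB.map (γ M N x + γ M N y) ≫ Θ.inv.app N
      rw [CategoryTheory.Functor.map_add, Preadditive.add_comp, Preadditive.comp_add]

lemma bij_base_ne (N : ModuleCat.{u} A) (n : ℤ) (hn : n ≠ 0) :
    Function.Bijective (β (B := B) (Dual.inD A A)
      (((singleFunctor (ModuleCat.{u} A) 0).obj N)⟦n⟧)) := by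
  haveI h1 : Subsingleton (Dual.inD A A ⟶ ((singleFunctor (ModuleCat.{u} A) 0).obj N)⟦n⟧) :=
    (subsingleton_hom_inD_self_iff _ n).2
      (ModuleCat.subsingleton_of_isZero (isZero_HD_inD N n hn))
  haveI : Subsingleton
      (B ⊗[A] (Dual.inD A A ⟶ ((singleFunctor (ModuleCat.{u} A) 0).obj N)⟦n⟧)) :=
    subsingleton_tensor B
  haveI : Subsingleton ((bcD A B).obj (Dual.inD A A) ⟶
      (bcD A B).obj (((singleFunctor (ModuleCat.{u} A) 0).obj N)⟦n⟧)) := by
    let eX : (bcD A B).obj (Dual.inD A A) ≅ Dual.inD B B :=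
      bcSingleIso (B := B) A ≪≫ (singleFunctor (ModuleCat.{u} B) 0).mapIso
        (TensorProduct.AlgebraTensorModule.rid A B B).toModuleIso
    let eY : (bcD A B).obj (((singleFunctor (ModuleCat.{u} A) 0).obj N)⟦n⟧) ≅
        ((singleFunctor (ModuleCat.{u} B) 0).obj ((ES A B).obj N))⟦n⟧ :=
      ((bcD A B).commShiftIso n).app _ ≪≫ (shiftFunctor (Dual.D B) n).mapIso
        (((ES A B).mapDerivedCategorySingleFunctor 0).app N)
    exact subsingleton_hom_of_isos eX eY
      ((subsingleton_hom_inD_self_iff _ n).2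
        (ModuleCat.subsingleton_of_isZero (isZero_HD_inD ((ES A B).obj N) n hn)))
  exact bij_of_subsingleton _

/-! ### graded bijectivity -/

variable (B) in
/-- graded bijectivity of the base change map -/
def GB (K L : Dual.D A) : Prop := ∀ n : ℤ, Function.Bijective (β (B := B) K (L⟦n⟧))

lemma gb_base (N : ModuleCat.{u} A) :
    GB B (Dual.inD A A) ((singleFunctor (ModuleCat.{u} A) 0).obj N) := by
  intro n
  by_cases hn : n = 0
  · subst hn
    exact (bij_iso_right _ ((shiftFunctorZero (Dual.D A) ℤ).app _)).2 (bij_base_zero N)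
  · exact bij_base_ne N n hn

lemma gb_iso_right (K : Dual.D A) {L L' : Dual.D A} (e : L ≅ L') (h : GB B K L) : GB B K L' :=
  fun n => (bij_iso_right K ((shiftFunctor (Dual.D A) n).mapIso e)).1 (h n)

lemma gb_iso_left {K K' : Dual.D A} (e : K' ≅ K) (L : Dual.D A) (h : GB B K L) : GB B K' L :=
  fun n => (bij_iso_left e (L⟦n⟧)).1 (h n)

lemma gb_shift_right (K L : Dual.D A) (a : ℤ) (h : GB B K L) : GB B K (L⟦a⟧) :=
  fun n => (bij_iso_right K ((shiftFunctorAdd' (Dual.D A) a n (a + n) rfl).app L)).1 (h (a + n))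

lemma gb_shift_left (K L : Dual.D A) (a : ℤ) (h : GB B K L) : GB B (K⟦a⟧) L :=
  fun n => (bij_iso_right (K⟦a⟧)
    ((shiftFunctorAdd' (Dual.D A) (n - a) a n (by omega)).app L)).2
    ((bij_shift K (L⟦n - a⟧) a).1 (h (n - a)))

lemma gb_zero_right (K Z : Dual.D A) (hZ : IsZero Z) : GB B K Z := by
  intro n
  have hZn : IsZero (Z⟦n⟧) := (shiftFunctor (Dual.D A) n).map_isZero hZ
  haveI : Subsingleton (K ⟶ Z⟦n⟧) := ⟨fun g g' => hZn.eq_of_tgt _ _⟩
  haveI : Subsingleton (B ⊗[A] (K ⟶ Z⟦n⟧)) := subsingleton_tensor B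
  haveI : Subsingleton ((bcD A B).obj K ⟶ (bcD A B).obj (Z⟦n⟧)) :=
    ⟨fun g g' => ((bcD A B).map_isZero hZn).eq_of_tgt _ _⟩
  exact bij_of_subsingleton _

lemma gb_zero_left (Z L : Dual.D A) (hZ : IsZero Z) : GB B Z L := by
  intro n
  haveI : Subsingleton (Z ⟶ L⟦n⟧) := ⟨fun g g' => hZ.eq_of_src _ _⟩
  haveI : Subsingleton (B ⊗[A] (Z ⟶ L⟦n⟧)) := subsingleton_tensor B
  haveI : Subsingleton ((bcD A B).obj Z ⟶ (bcD A B).obj (L⟦n⟧)) :=
    ⟨fun g g' => ((bcD A B).map_isZero hZ).eq_of_src _ _⟩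
  exact bij_of_subsingleton _

lemma gb_ext_right (K : Dual.D A) (T : Triangle (Dual.D A)) (hT : T ∈ distTriang (Dual.D A))
    (h₁ : GB B K T.obj₁) (h₃ : GB B K T.obj₃) : GB B K T.obj₂ := by
  intro n
  have hTn := Triangle.shift_distinguished T hT n
  exact bij_ext_right K _ hTn (h₁ n) (h₃ n) (gb_shift_right K T.obj₁ n h₁ 1)
    (gb_shift_right K T.obj₃ n h₃ (-1))

lemma gb_ext_left (L : Dual.D A) (T : Triangle (Dual.D A)) (hT : T ∈ distTriang (Dual.D A))
    (h₁ : GB B T.obj₁ L) (h₃ : GB B T.obj₃ L) : GB B T.obj₂ L := by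
  intro n
  exact bij_ext_left (L⟦n⟧) T hT (h₁ n) (h₃ n) (gb_shift_left T.obj₁ L 1 h₁ n)
    (gb_shift_left T.obj₃ L (-1) h₃ n)

variable (B) in
/-- graded bijectivity as a property of the second variable -/
def GBR (K : Dual.D A) : ObjectProperty (Dual.D A) := fun L => GB B K L

variable (B) in
/-- graded bijectivity as a property of the first variable -/
def GBL (L : Dual.D A) : ObjectProperty (Dual.D A) := fun K => GB B K L

instance gbr_isClosedUnderIsomorphisms (K : Dual.D A) :
    (GBR B K).IsClosedUnderIsomorphisms where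
  of_iso e h := gb_iso_right K e h

instance gbr_isTriangulated (K : Dual.D A) : (GBR B K).IsTriangulated := by
  haveI : (GBR B K).ContainsZero := ⟨⟨0, isZero_zero _, gb_zero_right K 0 (isZero_zero _)⟩⟩
  haveI : (GBR B K).IsStableUnderShift ℤ := by
    refine ⟨fun a => ⟨?_⟩⟩
    intro L hL
    exact gb_shift_right K L a hL
  haveI : (GBR B K).IsTriangulatedClosed₂ :=
    ObjectProperty.IsTriangulatedClosed₂.mk' (fun T hT h1 h3 => gb_ext_right K T hT h1 h3)
  exact {}

instance gbl_isClosedUnderIsomorphisms (L : Dual.D A) :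
    (GBL B L).IsClosedUnderIsomorphisms where
  of_iso e h := gb_iso_left e.symm L h

instance gbl_isTriangulated (L : Dual.D A) : (GBL B L).IsTriangulated := by
  haveI : (GBL B L).ContainsZero := ⟨⟨0, isZero_zero _, gb_zero_left 0 L (isZero_zero _)⟩⟩
  haveI : (GBL B L).IsStableUnderShift ℤ := by
    refine ⟨fun a => ⟨?_⟩⟩
    intro K hK
    exact gb_shift_left K L a hK
  haveI : (GBL B L).IsTriangulatedClosed₂ :=
    ObjectProperty.IsTriangulatedClosed₂.mk' (fun T hT h1 h3 => gb_ext_left L T hT h1 h3)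
  exact {}

/-! ### dévissage -/

theorem gb_self_of_bounded (L : Dual.D A)
    (hb : ∃ a b : ℤ, ∀ i : ℤ, (i < a ∨ b < i) → Subsingleton (Dual.HD A L i)) :
    GB B (Dual.inD A A) L :=
  devissage_homology (GBR B (Dual.inD A A)) L hb
    (fun i => gb_base (ModuleCat.of A (Dual.HD A L i)))

theorem gb_of_bfProp (X L : Dual.D A) (hX : bfProp A X)
    (hb : ∃ a b : ℤ, ∀ i : ℤ, (i < a ∨ b < i) → Subsingleton (Dual.HD A L i)) : GB B X L := by
  obtain ⟨E, ⟨a, b, hab, hff⟩, ⟨e⟩⟩ := hX
  refine (GBL B L).prop_of_iso e ?_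
  exact devissage_termwise' (GBL B L) E a b hab
    (fun i => prop_inD_of_finite_free (GBL B L) (gb_self_of_bounded L hb) (E.X i)
      (hff i).1 (hff i).2)

/-! ### t-exactness of flat base change -/

lemma isLE_bcD (Z : Dual.D A) (c : ℤ) [DerivedCategory.IsLE Z c] :
    DerivedCategory.IsLE ((bcD A B).obj Z) c := by
  rw [DerivedCategory.isLE_iff]
  intro i hi
  obtain ⟨e⟩ := nonempty_HD_bcD_linearEquiv (B := B) Z i
  haveI : Subsingleton (Dual.HD A Z i) :=
    ModuleCat.subsingleton_of_isZero (DerivedCategory.isZero_of_isLE Z c i hi)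
  haveI : Subsingleton (B ⊗[A] Dual.HD A Z i) := subsingleton_tensor B
  haveI : Subsingleton (Dual.HD B ((bcD A B).obj Z) i) := e.toEquiv.subsingleton
  exact ModuleCat.isZero_of_subsingleton _

lemma isGE_bcD (Z : Dual.D A) (c : ℤ) [DerivedCategory.IsGE Z c] :
    DerivedCategory.IsGE ((bcD A B).obj Z) c := by
  rw [DerivedCategory.isGE_iff]
  intro i hi
  obtain ⟨e⟩ := nonempty_HD_bcD_linearEquiv (B := B) Z i
  haveI : Subsingleton (Dual.HD A Z i) :=
    ModuleCat.subsingleton_of_isZero (DerivedCategory.isZero_of_isGE Z c i hi)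
  haveI : Subsingleton (B ⊗[A] Dual.HD A Z i) := subsingleton_tensor B
  haveI : Subsingleton (Dual.HD B ((bcD A B).obj Z) i) := e.toEquiv.subsingleton
  exact ModuleCat.isZero_of_subsingleton _

lemma bij_of_le_ge (Z L : Dual.D A) (c d : ℤ) (hcd : c < d) [DerivedCategory.IsLE Z c]
    [DerivedCategory.IsGE L d] : Function.Bijective (β (B := B) Z L) := by
  haveI : Subsingleton (Z ⟶ L) :=
    ⟨fun g g' => by rw [TStructure.t.zero g c d hcd, TStructure.t.zero g' c d hcd]⟩
  haveI : Subsingleton (B ⊗[A] (Z ⟶ L)) := subsingleton_tensor B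
  haveI := isLE_bcD (B := B) Z c
  haveI := isGE_bcD (B := B) L d
  haveI : Subsingleton ((bcD A B).obj Z ⟶ (bcD A B).obj L) :=
    ⟨fun g g' => by rw [TStructure.t.zero g c d hcd, TStructure.t.zero g' c d hcd]⟩
  exact bij_of_subsingleton _

/-! ### the main theorem -/

/-- Flat base change for `Hom(K, L[n])`, `K` pseudo-coherent, `L` bounded. -/
theorem flatHom_gb (K L : Dual.D A) (hK : IsPseudoCoherent' A K)
    (hb : ∃ a b : ℤ, ∀ i : ℤ, (i < a ∨ b < i) → Subsingleton (Dual.HD A L i)) : GB B K L := by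
  obtain ⟨a, b, hab⟩ := hb
  haveI : DerivedCategory.IsGE L a := by
    rw [DerivedCategory.isGE_iff]
    intro i hi
    haveI := hab i (Or.inl hi)
    exact ModuleCat.isZero_of_subsingleton _
  intro n
  haveI : DerivedCategory.IsGE (L⟦n⟧) (a - n) := TStructure.t.isGE_shift L a n (a - n) (by omega)
  obtain ⟨X, Z, u, v, w, hT, hX, hZ⟩ := pcmP_of_isPseudoCoherent' K hK (a - n - 1)
  haveI : DerivedCategory.IsLE Z (a - n - 1 - 1) := hZ
  haveI : DerivedCategory.IsLE (Z⟦(-1 : ℤ)⟧) (a - n - 1) :=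
    TStructure.t.isLE_shift Z (a - n - 1 - 1) (-1) (a - n - 1) (by omega)
  have hXL : GB B X L := gb_of_bfProp X L hX ⟨a, b, hab⟩
  exact bij_ext_left (L⟦n⟧) (Triangle.mk u v w) hT (hXL n)
    (bij_of_le_ge Z (L⟦n⟧) (a - n - 1 - 1) (a - n) (by omega))
    (gb_shift_left X L 1 hXL n)
    (bij_of_le_ge (Z⟦(-1 : ℤ)⟧) (L⟦n⟧) (a - n - 1) (a - n) (by omega))

/-- Flat base change for `Hom(K, L)`, `K` pseudo-coherent, `L` bounded. -/
theorem flatHom_bijective (K L : Dual.D A) (hK : IsPseudoCoherent' A K)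
    (hb : ∃ a b : ℤ, ∀ i : ℤ, (i < a ∨ b < i) → Subsingleton (Dual.HD A L i)) :
    Function.Bijective (β (B := B) K L) :=
  (bij_iso_right K ((shiftFunctorZero (Dual.D A) ℤ).app L)).1 (flatHom_gb K L hK hb 0)

end Groth.Agent.Lib.FlatHom
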