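import Mathlib
import Groth.Agent.Lib.FlatHom2_helper2
import Groth.Agent.Lib.DMod79_helper6
import Groth.Agent.Lib.DMod66_helper6
import Groth.Agent.Lib.DMod21_helper6
import Groth.Agent.Lib.DMod5_helper6

/-!
# Flat base change for `Hom` in the derived category, part 3 (helper2):
faithfully flat descent of dualizing complexes (S1780).
-/

set_option autoImplicit false
universe u
open CategoryTheory CategoryTheory.Limits CategoryTheory.Pretriangulated DerivedCategory ZeroObject
open scoped TensorProduct ChangeOfRings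

attribute [local instance] HasDerivedCategory.standard

namespace Groth.Agent.Lib.FlatHom

open Groth.Agent.Lib.DMod_helper6 DRing Groth.Agent.ExtendScalarsLib

variable {A B : Type u} [CommRing A] [CommRing B] [Algebra A B]

/-- faithfully flat descent of dualizing complexes, for the functor induced by `- ⊗ B` -/
theorem isDualizing_of_bcD [IsNoetherianRing A] [IsNoetherianRing B] [Module.FaithfullyFlat A B]
    (K : Dual.D A) (hω : Dual.IsDualizing B ((bcD A B).obj K)) : Dual.IsDualizing A K := by
  obtain ⟨a, b, hab⟩ := hω.finite_injective_dimension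
  -- cohomology of `K ⊗ B`
  have hHB : ∀ i : ℤ, (i < a ∨ b < i) → Subsingleton (Dual.HD B ((bcD A B).obj K) i) :=
    fun i hi => subsingleton_HD_of_hom_quot_bot _ i (hab (B ⧸ (⊥ : Ideal B)) i hi)
  have hH : ∀ i : ℤ, (i < a ∨ b < i) → Subsingleton (Dual.HD A K i) := by
    intro i hi
    obtain ⟨e⟩ := nonempty_HD_bcD_linearEquiv (B := B) K i
    haveI := hHB i hi
    haveI : Subsingleton (B ⊗[A] Dual.HD A K i) := e.symm.toEquiv.subsingleton
    exact Module.FaithfullyFlat.lTensor_reflects_triviality A B (Dual.HD A K i)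
  have hfin : ∀ i : ℤ, Module.Finite A (Dual.HD A K i) := by
    intro i
    obtain ⟨e⟩ := nonempty_HD_bcD_linearEquiv (B := B) K i
    haveI := hω.finite_cohomology i
    haveI : Module.Finite B (B ⊗[A] Dual.HD A K i) := Module.Finite.equiv e
    exact Module.Finite.of_finite_tensorProduct_of_faithfullyFlat B
  have hb : ∃ a b : ℤ, ∀ i : ℤ, (i < a ∨ b < i) → Subsingleton (Dual.HD A K i) := ⟨a, b, hH⟩
  have hpc : IsPseudoCoherent' A K := by
    refine isPseudoCoherent'_of_homology K ⟨b, fun j hj => hH j (Or.inr hj)⟩ (fun j => ?_)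
    haveI := hfin j
    exact isPseudoCoherentModule'_of_finite _
  -- descent of vanishing
  have hvan : ∀ (X : Dual.D A) (_ : IsPseudoCoherent' A X) (i : ℤ),
      Subsingleton ((bcD A B).obj X ⟶ ((bcD A B).obj K)⟦i⟧) → Subsingleton (X ⟶ K⟦i⟧) := by
    intro X hX i hsub
    have hβ : Function.Bijective (β (B := B) X (K⟦i⟧)) := flatHom_gb X K hX hb i
    haveI : Subsingleton ((bcD A B).obj X ⟶ (bcD A B).obj (K⟦i⟧)) :=
      subsingleton_hom_of_isos (Iso.refl _) (((bcD A B).commShiftIso i).app K) hsub
    haveI : Subsingleton (B ⊗[A] (X ⟶ K⟦i⟧)) := hβ.1.subsingleton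
    exact Module.FaithfullyFlat.lTensor_reflects_triviality A B (X ⟶ K⟦i⟧)
  refine ⟨inferInstance, ?_, hfin, ?_, ?_⟩
  · -- finite injective dimension
    have h3 : ∀ (I : Ideal A) (i : ℤ), (i < a ∨ b < i) →
        Subsingleton (Dual.inD A (A ⧸ I) ⟶ K⟦i⟧) := by
      intro I i hi
      have hX : IsPseudoCoherent' A (Dual.inD A (A ⧸ I)) := isPseudoCoherentModule'_of_finite _
      refine hvan _ hX i ?_
      exact subsingleton_hom_of_isos (bcSingleIso (B := B) (A ⧸ I)) (Iso.refl _)
        (hab (B ⊗[A] (A ⧸ I)) i hi)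
    have hamp := hasInjAmplitudeIn_of_hom_quot_vanishing K a b h3
    exact ⟨a, b, fun M _ _ i hi =>
      hom_subsingleton_of_hasInjAmplitudeIn _ a b hamp (ModuleCat.of A M) i hi⟩
  · -- `A → End(K)` is bijective
    have hβ : Function.Bijective (β (B := B) K K) := flatHom_bijective K K hpc hb
    let fA : A →ₗ[A] (K ⟶ K) := LinearMap.toSpanSingleton A (K ⟶ K) (𝟙 K)
    have heq : (fun b : B => b • 𝟙 ((bcD A B).obj K)) =
        (β (B := B) K K) ∘ ((fA.lTensor B) ∘ (TensorProduct.rid A B).symm) := by
      funext b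
      show b • 𝟙 ((bcD A B).obj K) = β K K ((fA.lTensor B) ((TensorProduct.rid A B).symm b))
      rw [TensorProduct.rid_symm_apply, LinearMap.lTensor_tmul, LinearMap.toSpanSingleton_apply,
        one_smul, β_tmul, CategoryTheory.Functor.map_id]
    have h1 : Function.Bijective ((β (B := B) K K) ∘
        ((fA.lTensor B) ∘ (TensorProduct.rid A B).symm)) := by
      rw [← heq]
      exact hω.toEnd_bijective
    have h2 : Function.Bijective ((fA.lTensor B) ∘ (TensorProduct.rid A B).symm) :=
      (Function.Bijective.of_comp_iff' hβ _).1 h1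
    have h3 : Function.Bijective (fA.lTensor B) :=
      (Function.Bijective.of_comp_iff _ (TensorProduct.rid A B).symm.bijective).1 h2
    have h4 : Function.Bijective fA :=
      (Module.FaithfullyFlat.lTensor_bijective_iff_bijective A B fA).1 h3
    have h5 : (fun a : A => a • 𝟙 K) = fA := by
      funext a
      exact (LinearMap.toSpanSingleton_apply A (K ⟶ K) (𝟙 K) a).symm
    rw [h5]
    exact h4
  · -- no self-extensions
    intro i hi
    exact hvan K hpc i (hω.ext_self_subsingleton i hi)

/-- S1780. -/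
theorem S1780_main (A B : Type u) [CommRing A] [CommRing B] [Algebra A B] [IsNoetherianRing A]
    [IsNoetherianRing B] [Module.FaithfullyFlat A B] [DRing.HasLBaseChange (algebraMap A B)]
    (K : Dual.D A)
    (hK : Dual.IsDualizing B ((DRing.LBaseChange (algebraMap A B)).obj K)) :
    Dual.IsDualizing A K := by
  obtain ⟨e⟩ := nonempty_lBaseChange_iso_bcD (A := A) (B := B)
  exact isDualizing_of_bcD K (isDualizing_of_iso (e.app K) hK)

end Groth.Agent.Lib.FlatHom
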