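import Mathlib
import Groth.Agent.Lib.FlatHom3_helper2
import Groth.Agent.Lib.DMod86_helper6
import Groth.Agent.Lib.DMod74_helper6

/-!
# Flat base change for `Hom` in the derived category, part 4 (helper2):
Bass' lemma for a bounded complex with finite cohomology over a Noetherian local ring, and
base change of a normalized dualizing complex along a flat local homomorphism with
`m_A B = m_B` (S1777).
-/

set_option autoImplicit false
universe u
open CategoryTheory CategoryTheory.Limits CategoryTheory.Pretriangulated DerivedCategory ZeroObject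
open scoped TensorProduct ChangeOfRings

attribute [local instance] HasDerivedCategory.standard

namespace Groth.Agent.Lib.FlatHom

open Groth.Agent.Lib.DMod_helper6 DRing Groth.Agent.ExtendScalarsLib

section Bass

variable {A : Type u} [CommRing A]

/-- key step (Nakayama): `x ∈ m` injective on the finite module `M` with cokernel `N₃`:
`Ext^{>0}(N₃, ω) = 0` implies `Ext^{>0}(M, ω) = 0`, as soon as the `Ext` modules are finite. -/
lemma extVanish_of_regular' [IsLocalRing A] (ω : Dual.D A)
    (hfin : ∀ (M : Type u) [AddCommGroup M] [Module A M] [Module.Finite A M] (i : ℤ),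
      Module.Finite A (Dual.inD A M ⟶ ω⟦i⟧))
    {M N₃ : Type u} [AddCommGroup M] [Module A M] [Module.Finite A M] [AddCommGroup N₃]
    [Module A N₃] (x : A) (hx : x ∈ IsLocalRing.maximalIdeal A) (g : M →ₗ[A] N₃)
    (hinj : Function.Injective (x • (LinearMap.id : M →ₗ[A] M)))
    (hg : Function.Surjective g) (hfg : Function.Exact (x • (LinearMap.id : M →ₗ[A] M)) g)
    (h3 : ExtVanish ω N₃) : ExtVanish ω M := by
  intro i hi
  have hS := linSC_shortExact (x • (LinearMap.id : M →ₗ[A] M)) g hfg hinj hg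
  have hT := hS.singleTriangle_distinguished
  haveI : Module.Finite A (Dual.inD A M ⟶ ω⟦i⟧) := hfin M i
  have hmap : (DerivedCategory.singleFunctor (ModuleCat.{u} A) 0).map
      (ModuleCat.ofHom (x • (LinearMap.id : M →ₗ[A] M))) = x • 𝟙 (Dual.inD A M) := by
    have : ModuleCat.ofHom (x • (LinearMap.id : M →ₗ[A] M)) = x • 𝟙 (ModuleCat.of A M) := by
      ext m
      rfl
    rw [this, Functor.map_smul, CategoryTheory.Functor.map_id]
  have hsurj : ∀ φ : Dual.inD A M ⟶ ω⟦i⟧, ∃ ψ : Dual.inD A M ⟶ ω⟦i⟧, φ = x • ψ := by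
    intro φ
    let e : ω⟦i + 1⟧ ≅ (ω⟦i⟧)⟦(1 : ℤ)⟧ := (shiftFunctorAdd' (Dual.D A) i 1 (i + 1) rfl).app ω
    haveI := h3 (i + 1) (by omega)
    have h0 : hS.singleδ ≫ φ⟦(1 : ℤ)⟧' = 0 := by
      rw [← cancel_mono e.inv, zero_comp]
      exact Subsingleton.elim _ _
    obtain ⟨γ, hγ⟩ : ∃ γ : (Dual.inD A M)⟦(1 : ℤ)⟧ ⟶ (ω⟦i⟧)⟦(1 : ℤ)⟧,
        φ⟦(1 : ℤ)⟧' = (-((DerivedCategory.singleFunctor (ModuleCat.{u} A) 0).map
          (ModuleCat.ofHom (x • (LinearMap.id : M →ₗ[A] M))))⟦(1 : ℤ)⟧') ≫ γ :=
      Pretriangulated.Triangle.yoneda_exact₃ _ (rot_of_distTriang _ hT) (φ⟦(1 : ℤ)⟧') h0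
    obtain ⟨γ', rfl⟩ := (shiftFunctor (Dual.D A) (1 : ℤ)).map_surjective γ
    refine ⟨-γ', ?_⟩
    apply (shiftFunctor (Dual.D A) (1 : ℤ)).map_injective
    rw [hγ, hmap]
    simp only [Functor.map_smul, Functor.map_neg, CategoryTheory.Functor.map_id,
      Preadditive.neg_comp, Linear.smul_comp, Category.id_comp, smul_neg]
  have htop : (⊤ : Submodule A (Dual.inD A M ⟶ ω⟦i⟧)) = ⊥ := by
    refine Submodule.eq_bot_of_le_smul_of_le_jacobson_bot (IsLocalRing.maximalIdeal A) ⊤
      Module.Finite.fg_top ?_ (IsLocalRing.maximalIdeal_le_jacobson ⊥)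
    intro φ _
    obtain ⟨ψ, rfl⟩ := hsurj φ
    exact Submodule.smul_mem_smul hx Submodule.mem_top
  refine subsingleton_of_forall_eq 0 (fun φ => ?_)
  have hφ : φ ∈ (⊥ : Submodule A (Dual.inD A M ⟶ ω⟦i⟧)) := htop ▸ Submodule.mem_top
  exact (Submodule.mem_bot A).1 hφ

/-- Bass' lemma for the cyclic modules `A ⧸ p`, `p` prime. -/
theorem extVanish_quot_prime' [IsLocalRing A] [IsNoetherianRing A] (ω : Dual.D A)
    (hfin : ∀ (M : Type u) [AddCommGroup M] [Module A M] [Module.Finite A M] (i : ℤ),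
      Module.Finite A (Dual.inD A M ⟶ ω⟦i⟧))
    (hκ : ExtVanish ω (A ⧸ IsLocalRing.maximalIdeal A)) (p : Ideal A) (hp : p.IsPrime) :
    ExtVanish ω (A ⧸ p) := by
  revert hp
  induction p using IsNoetherian.induction with
  | hgt p ih =>
    intro hp
    by_cases hpm : p = IsLocalRing.maximalIdeal A
    · subst hpm
      exact hκ
    · have hle : p ≤ IsLocalRing.maximalIdeal A := IsLocalRing.le_maximalIdeal hp.ne_top
      have hlt : p < IsLocalRing.maximalIdeal A := lt_of_le_of_ne hle hpm
      obtain ⟨x, hxm, hxp⟩ := SetLike.exists_of_lt hlt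
      have hxJ : x ∈ p ⊔ Ideal.span {x} :=
        Ideal.mem_sup_right (Ideal.mem_span_singleton_self x)
      have hpJ : p < p ⊔ Ideal.span {x} := by
        refine lt_of_le_of_ne le_sup_left (fun h => hxp ?_)
        rw [h]; exact hxJ
      have h3 : ExtVanish ω (A ⧸ (p ⊔ Ideal.span {x})) := by
        refine extVanish_of_ann ω (p ⊔ Ideal.span {x})
          (fun q hq => ih q.asIdeal (lt_of_lt_of_le hpJ hq) q.isPrime) _ ?_
        intro r hr n
        obtain ⟨b, rfl⟩ := Ideal.Quotient.mk_surjective n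
        show Ideal.Quotient.mk (p ⊔ Ideal.span {x}) (r * b) = 0
        exact Ideal.Quotient.eq_zero_iff_mem.2 (Ideal.mul_mem_right b _ hr)
      have hinj : Function.Injective (x • LinearMap.id : A ⧸ p →ₗ[A] A ⧸ p) := by
        refine (injective_iff_map_eq_zero _).2 (fun y hy => ?_)
        obtain ⟨c, rfl⟩ := Ideal.Quotient.mk_surjective y
        have h' : Ideal.Quotient.mk p (x * c) = 0 := hy
        rcases hp.mem_or_mem (Ideal.Quotient.eq_zero_iff_mem.1 h') with h | h
        · exact absurd h hxp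
        · exact Ideal.Quotient.eq_zero_iff_mem.2 h
      have hfg : Function.Exact (x • LinearMap.id : A ⧸ p →ₗ[A] A ⧸ p)
          (Submodule.factor hpJ.le) := by
        intro y
        constructor
        · intro h
          obtain ⟨c, rfl⟩ := Ideal.Quotient.mk_surjective y
          have h' : Ideal.Quotient.mk (p ⊔ Ideal.span {x}) c = 0 := h
          have hcJ : c ∈ p ⊔ Ideal.span {x} := Ideal.Quotient.eq_zero_iff_mem.1 h'
          obtain ⟨b, hb, c', hc', rfl⟩ := Submodule.mem_sup.1 hcJ
          obtain ⟨d, rfl⟩ := Ideal.mem_span_singleton'.1 hc'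
          refine ⟨Ideal.Quotient.mk p d, ?_⟩
          show Ideal.Quotient.mk p (x * d) = Ideal.Quotient.mk p (b + d * x)
          rw [Ideal.Quotient.eq]
          have : x * d - (b + d * x) = -b := by ring
          rw [this]; exact p.neg_mem hb
        · rintro ⟨z, rfl⟩
          obtain ⟨d, rfl⟩ := Ideal.Quotient.mk_surjective z
          show Ideal.Quotient.mk (p ⊔ Ideal.span {x}) (x * d) = 0
          exact Ideal.Quotient.eq_zero_iff_mem.2 (Ideal.mul_mem_right d _ hxJ)
      exact extVanish_of_regular' ω hfin x hxm (Submodule.factor hpJ.le) hinj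
        (Submodule.factor_surjective hpJ.le) hfg h3

/-- Bass' lemma: if `Ext^i(κ, ω) = 0` for `i > 0` and the `Ext` modules of finite modules into `ω`
are finite, then `Ext^i(M, ω) = 0` for `i > 0` and every finite module `M`. -/
theorem extVanish_of_finite' [IsLocalRing A] [IsNoetherianRing A] (ω : Dual.D A)
    (hfin : ∀ (M : Type u) [AddCommGroup M] [Module A M] [Module.Finite A M] (i : ℤ),
      Module.Finite A (Dual.inD A M ⟶ ω⟦i⟧))
    (hκ : ExtVanish ω (A ⧸ IsLocalRing.maximalIdeal A))
    (M : Type u) [AddCommGroup M] [Module A M] [Module.Finite A M] : ExtVanish ω M := by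
  refine extVanish_of_ann ω ⊥
    (fun q _ => extVanish_quot_prime' ω hfin hκ q.asIdeal q.isPrime) M ?_
  intro r hr n
  rw [(Submodule.mem_bot A).1 hr, zero_smul]

/-- `Hom(M, L[i])` is finite for a finite module `M` and `L` bounded with finite cohomology. -/
lemma hom_inD_finite_of_bounded [IsNoetherianRing A] (L : Dual.D A) (a b : ℤ)
    (hLb : ∀ j : ℤ, (j < a ∨ b < j) → Subsingleton (Dual.HD A L j))
    (hL : ∀ j : ℤ, Module.Finite A (Dual.HD A L j))
    (M : Type u) [AddCommGroup M] [Module A M] [Module.Finite A M] (i : ℤ) :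
    Module.Finite A (Dual.inD A M ⟶ L⟦i⟧) := by
  have hpcM : IsPseudoCoherent' A (Dual.inD A M) := isPseudoCoherentModule'_of_finite _
  have hLb' : ∀ j : ℤ, j < a ∨ a + ((b - a).toNat : ℕ) < j →
      IsZero ((homologyFunctor (ModuleCat.{u} A) j).obj L) := by
    intro j hj
    haveI : Subsingleton (Dual.HD A L j) := by
      by_cases hab' : a ≤ b
      · apply hLb j
        rcases hj with hj | hj
        · exact Or.inl hj
        · right
          have : ((b - a).toNat : ℤ) = b - a := Int.toNat_of_nonneg (by omega)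
          omega
      · apply hLb j
        by_cases h1 : j < a
        · exact Or.inl h1
        · exact Or.inr (by omega)
    exact ModuleCat.isZero_of_subsingleton _
  haveI : IsNoetherian A (Dual.inD A M ⟶ L⟦i⟧) :=
    noethHom_of_pseudoCoherent _ hpcM L a (b - a).toNat hLb' hL i
  infer_instance

end Bass

section Local

variable {A B : Type u} [CommRing A] [CommRing B] [Algebra A B] [Module.Flat A B]

/-- base change of a normalized dualizing complex along a flat local homomorphism of Noetherian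
local rings with `m_A B = m_B`, for the functor induced by `- ⊗ B` -/
theorem isDualizing_bcD_of_local [IsLocalRing A] [IsLocalRing B] [IsNoetherianRing A]
    [IsNoetherianRing B]
    (hm : (IsLocalRing.maximalIdeal A).map (algebraMap A B) = IsLocalRing.maximalIdeal B)
    (ω : Dual.D A) (hω : Dual.IsDualizing A ω) (hn : Dual.IsNormalized A ω) :
    Dual.IsDualizing B ((bcD A B).obj ω) ∧ Dual.IsNormalized B ((bcD A B).obj ω) := by
  obtain ⟨a, b, hab⟩ := hω.finite_injective_dimension
  have hH : ∀ i : ℤ, (i < a ∨ b < i) → Subsingleton (Dual.HD A ω i) := fun i hi =>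
    subsingleton_HD_of_hom_quot_bot ω i (hab (A ⧸ (⊥ : Ideal A)) i hi)
  have hb : ∃ a b : ℤ, ∀ i : ℤ, (i < a ∨ b < i) → Subsingleton (Dual.HD A ω i) := ⟨a, b, hH⟩
  have hpc : IsPseudoCoherent' A ω := by
    refine isPseudoCoherent'_of_homology ω ⟨b, fun j hj => hH j (Or.inr hj)⟩ (fun j => ?_)
    haveI := hω.finite_cohomology j
    exact isPseudoCoherentModule'_of_finite _
  have hHB : ∀ i : ℤ, (i < a ∨ b < i) → Subsingleton (Dual.HD B ((bcD A B).obj ω) i) := by
    intro i hi
    obtain ⟨e⟩ := nonempty_HD_bcD_linearEquiv (B := B) ω i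
    haveI := hH i hi
    haveI : Subsingleton (B ⊗[A] Dual.HD A ω i) := subsingleton_tensor B
    exact e.toEquiv.subsingleton
  have hfinB : ∀ i : ℤ, Module.Finite B (Dual.HD B ((bcD A B).obj ω) i) := by
    intro i
    obtain ⟨e⟩ := nonempty_HD_bcD_linearEquiv (B := B) ω i
    haveI := hω.finite_cohomology i
    exact Module.Finite.equiv e.symm
  -- transfer of vanishing
  have hvan : ∀ (X : Dual.D A) (_ : IsPseudoCoherent' A X) (i : ℤ),
      Subsingleton (X ⟶ ω⟦i⟧) → Subsingleton ((bcD A B).obj X ⟶ ((bcD A B).obj ω)⟦i⟧) := by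
    intro X hX i hsub
    have hβ : Function.Bijective (β (B := B) X (ω⟦i⟧)) := flatHom_gb X ω hX hb i
    haveI := hsub
    haveI : Subsingleton (B ⊗[A] (X ⟶ ω⟦i⟧)) := subsingleton_tensor B
    have h2 : Subsingleton ((bcD A B).obj X ⟶ (bcD A B).obj (ω⟦i⟧)) := hβ.2.subsingleton
    exact subsingleton_hom_of_isos (Iso.refl _) (((bcD A B).commShiftIso i).app ω).symm h2
  -- residue fields
  let eκ : B ⊗[A] (A ⧸ IsLocalRing.maximalIdeal A) ≃ₗ[B] (B ⧸ IsLocalRing.maximalIdeal B) :=
    (Algebra.TensorProduct.quotIdealMapEquivTensorQuot B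
      (IsLocalRing.maximalIdeal A)).toLinearEquiv.symm.trans (Submodule.quotEquivOfEq _ _ hm)
  have hκA : ∀ i : ℤ, i ≠ 0 →
      Subsingleton (Dual.inD A (A ⧸ IsLocalRing.maximalIdeal A) ⟶ ω⟦i⟧) := fun i hi =>
    subsingleton_hom_of_isos
      ((singleFunctor (ModuleCat.{u} A) 0).mapIso (resEquiv (A := A)).toModuleIso) (Iso.refl _)
      (hn i hi)
  have hκB : ∀ i : ℤ, i ≠ 0 →
      Subsingleton (Dual.inD B (B ⧸ IsLocalRing.maximalIdeal B) ⟶ ((bcD A B).obj ω)⟦i⟧) := by
    intro i hi
    have h1 := hvan (Dual.inD A (A ⧸ IsLocalRing.maximalIdeal A))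
      (isPseudoCoherentModule'_of_finite _) i (hκA i hi)
    exact subsingleton_hom_of_isos
      ((singleFunctor (ModuleCat.{u} B) 0).mapIso eκ.symm.toModuleIso ≪≫
        (bcSingleIso (B := B) (A ⧸ IsLocalRing.maximalIdeal A)).symm) (Iso.refl _) h1
  have hnB : Dual.IsNormalized B ((bcD A B).obj ω) := fun i hi =>
    subsingleton_hom_of_isos
      ((singleFunctor (ModuleCat.{u} B) 0).mapIso (resEquiv (A := B)).symm.toModuleIso)
      (Iso.refl _) (hκB i hi)
  refine ⟨⟨inferInstance, ?_, hfinB, ?_, ?_⟩, hnB⟩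
  · -- finite injective dimension
    have hvanB : ∀ (M : Type u) [AddCommGroup M] [Module B M] [Module.Finite B M],
        ExtVanish ((bcD A B).obj ω) M := fun M _ _ _ =>
      extVanish_of_finite' ((bcD A B).obj ω)
        (fun M' _ _ _ i => hom_inD_finite_of_bounded _ a b hHB hfinB M' i)
        (fun i hi => hκB i (ne_of_gt hi)) M
    haveI hge : DerivedCategory.IsGE ((bcD A B).obj ω) a := by
      rw [DerivedCategory.isGE_iff]
      intro i hi
      haveI := hHB i (Or.inl hi)
      exact ModuleCat.isZero_of_subsingleton _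
    have hamp : HasInjAmplitudeIn B a 0 ((bcD A B).obj ω) := by
      refine hasInjAmplitudeIn_of_hom_quot_vanishing _ a 0 (fun I j hj => ?_)
      rcases hj with hj | hj
      · haveI : DerivedCategory.IsGE (((bcD A B).obj ω)⟦j⟧) (a - j) :=
          TStructure.t.isGE_shift _ a j (a - j) (by omega)
        exact ⟨fun g g' => by
          rw [TStructure.t.zero g 0 (a - j) (by omega), TStructure.t.zero g' 0 (a - j) (by omega)]⟩
      · exact hvanB (B ⧸ I) j hj
    exact ⟨a, 0, fun M _ _ i hi =>
      hom_subsingleton_of_hasInjAmplitudeIn _ a 0 hamp (ModuleCat.of B M) i hi⟩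
  · -- `B → End` is bijective
    have hβ : Function.Bijective (β (B := B) ω ω) := flatHom_bijective ω ω hpc hb
    let fA : A →ₗ[A] (ω ⟶ ω) := LinearMap.toSpanSingleton A (ω ⟶ ω) (𝟙 ω)
    have hfA : Function.Bijective fA := by
      have h5 : (fun a : A => a • 𝟙 ω) = fA := by
        funext a
        exact (LinearMap.toSpanSingleton_apply A (ω ⟶ ω) (𝟙 ω) a).symm
      rw [← h5]
      exact hω.toEnd_bijective
    have heq : (fun b : B => b • 𝟙 ((bcD A B).obj ω)) =
        (β (B := B) ω ω) ∘ ((fA.lTensor B) ∘ (TensorProduct.rid A B).symm) := by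
      funext b
      show b • 𝟙 ((bcD A B).obj ω) = β ω ω ((fA.lTensor B) ((TensorProduct.rid A B).symm b))
      rw [TensorProduct.rid_symm_apply, LinearMap.lTensor_tmul, LinearMap.toSpanSingleton_apply,
        one_smul, β_tmul, CategoryTheory.Functor.map_id]
    rw [heq]
    exact hβ.comp ((lTensor_bijective_of_bijective B fA hfA).comp
      (TensorProduct.rid A B).symm.bijective)
  · -- no self-extensions
    intro i hi
    exact hvan ω hpc i (hω.ext_self_subsingleton i hi)

/-- S1777. -/
theorem S1777_main (A B : Type u) [CommRing A] [CommRing B] [IsLocalRing A] [IsLocalRing B]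
    [Algebra A B] [IsNoetherianRing A] [IsNoetherianRing B] [Module.Flat A B]
    (hm : (IsLocalRing.maximalIdeal A).map (algebraMap A B) = IsLocalRing.maximalIdeal B)
    [DRing.HasLBaseChange (algebraMap A B)] (ω : Dual.D A) (hω : Dual.IsDualizing A ω)
    (hn : Dual.IsNormalized A ω) :
    Dual.IsDualizing B ((DRing.LBaseChange (algebraMap A B)).obj ω) ∧
      Dual.IsNormalized B ((DRing.LBaseChange (algebraMap A B)).obj ω) := by
  obtain ⟨e⟩ := nonempty_lBaseChange_iso_bcD (A := A) (B := B)
  obtain ⟨h1, h2⟩ := isDualizing_bcD_of_local hm ω hω hn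
  refine ⟨isDualizing_of_iso (e.app ω).symm h1, fun i hi => ?_⟩
  exact subsingleton_hom_of_isos (Iso.refl _)
    ((shiftFunctor (Dual.D B) i).mapIso (e.app ω)) (h2 i hi)

end Local

end Groth.Agent.Lib.FlatHom
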