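import Mathlib
import Groth.Prelude.Def_DRing2
import Groth.Prelude.Def_DDual2
import Groth.Prelude.Def_Wider
import Groth.Prelude.Def_CAlg
import Groth.Prelude.Def_DualLC
import Groth.Agent.Lib.DMod112_helper6
import Groth.Agent.Lib.InjHull2_helper3
import Groth.Agent.Lib.Matlis3_helper5

/-!
# Derived category toolkit (helper6), part 114: the local cohomology `colim_n Hom(A/m^n, ω[i])` of a
normalized dualizing complex over a Noetherian local ring (S1718).
-/

set_option autoImplicit false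
universe u
open CategoryTheory CategoryTheory.Limits DerivedCategory Pretriangulated ZeroObject Opposite
attribute [local instance] HasDerivedCategory.standard

namespace Groth.Agent.Lib.DMod_helper6

open DRing

section ColimRep

noncomputable instance preservesColimit_forget_moduleCat_succ (A : Type u) [CommRing A]
    (F : ℕᵒᵖᵒᵖ ⥤ ModuleCat.{u+1} A) : PreservesColimit F (forget (ModuleCat.{u+1} A)) := by
  haveI h1 : PreservesColimit F (forget₂ (ModuleCat.{u+1} A) AddCommGrpCat.{u+1}) := inferInstance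
  haveI h2 : PreservesFilteredColimitsOfSize.{0, 0} (forget AddCommGrpCat.{u+1}) :=
    preservesFilteredColimitsOfSize_shrink.{0, u+1, 0, u+1} _
  haveI h3 : PreservesColimit (F ⋙ forget₂ (ModuleCat.{u+1} A) AddCommGrpCat.{u+1})
      (forget AddCommGrpCat.{u+1}) := by
    have := h2.preserves_filtered_colimits ℕᵒᵖᵒᵖ
    infer_instance
  exact (inferInstance : PreservesColimit F
    (forget₂ (ModuleCat.{u+1} A) AddCommGrpCat.{u+1} ⋙ forget AddCommGrpCat.{u+1}))

lemma exists_rep_nat (A : Type u) [CommRing A] (F : ℕᵒᵖᵒᵖ ⥤ ModuleCat.{u+1} A)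
    (x : (colimit F : ModuleCat.{u+1} A)) :
    ∃ (j : ℕᵒᵖᵒᵖ) (y : F.obj j), (colimit.ι F j).hom y = x :=
  Concrete.colimit_exists_rep F x

lemma exists_dependent_seq {α : ℕ → Type*} (R : ∀ n, α n → α (n + 1) → Prop)
    (h : ∀ n a, ∃ b, R n a b) (a0 : α 0) :
    ∃ s : ∀ n, α n, s 0 = a0 ∧ ∀ n, R n (s n) (s (n + 1)) := by
  refine ⟨fun n => Nat.rec (motive := α) a0 (fun n a => Classical.choose (h n a)) n, rfl,
    fun n => ?_⟩
  exact Classical.choose_spec (h n _)

end ColimRep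

section StageBij

variable {A : Type u} [CommRing A] [IsLocalRing A] [IsNoetherianRing A] (ω : Dual.D A)

/-- `φ ↦ φ[0] ≫ ε` is bijective on finite length modules killed by `J`, for
`ε : E[J] ⟶ ω[0]` which is nonzero on the residue field. -/
theorem psiLin_bijective_torsionBy (hω : Dual.IsDualizing A ω) (hn : Dual.IsNormalized A ω)
    (E : Type u) [AddCommGroup E] [Module A E]
    (f : IsLocalRing.ResidueField A →ₗ[A] E) (hf : InjHull.IsInjectiveHull f) (J : Ideal A)
    (hJm : J ≤ IsLocalRing.maximalIdeal A)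
    (ε : Dual.inD A (LocCoh.torsionBy J E) ⟶ ω⟦(0 : ℤ)⟧)
    (φ₀ : IsLocalRing.ResidueField A →ₗ[A] LocCoh.torsionBy J E)
    (hε : (DerivedCategory.singleFunctor (ModuleCat.{u} A) 0).map (ModuleCat.ofHom φ₀) ≫ ε ≠ 0)
    (N : Type u) [AddCommGroup N] [Module A N] (hN : IsFiniteLength A N)
    (hJN : ∀ a ∈ J, ∀ x : N, a • x = 0) : Function.Bijective (psiLin ε N) := by
  have hJκ : ∀ a ∈ J, ∀ x : IsLocalRing.ResidueField A, a • x = 0 := by
    intro a ha x
    rw [Algebra.smul_def]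
    have h0 : algebraMap A (IsLocalRing.ResidueField A) a = 0 :=
      (IsLocalRing.residue_eq_zero_iff a).2 (hJm ha)
    rw [h0, zero_mul]
  let F : Submodule A E := LocCoh.torsionBy J E
  have hFmem : ∀ (N' : Type u) [AddCommGroup N'] [Module A N'],
      (∀ a ∈ J, ∀ x : N', a • x = 0) → ∀ (φ : N' →ₗ[A] E) (x : N'), φ x ∈ F := by
    intro N' _ _ hJ' φ x
    rw [Submodule.mem_torsionBySet_iff]
    rintro ⟨a, ha⟩
    change a • φ x = 0
    rw [← map_smul, hJ' a ha, map_zero]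
  have hext : ∀ (N' : Type u) [AddCommGroup N'] [Module A N'],
      (∀ a ∈ J, ∀ x : N', a • x = 0) →
      ∀ (N'' : Submodule A N') (φ' : N'' →ₗ[A] F), ∃ φ : N' →ₗ[A] F, φ ∘ₗ N''.subtype = φ' := by
    intro N' _ _ hJ' N'' φ'
    obtain ⟨h, hh⟩ := hf.isInjective.out N''.subtype N''.injective_subtype (F.subtype ∘ₗ φ')
    refine ⟨h.codRestrict F (hFmem N' hJ' h), ?_⟩
    ext x
    exact hh x
  haveI hsκ : IsSimpleModule A (IsLocalRing.ResidueField A) := isSimpleModule_residueField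
  have hκfl : IsFiniteLength A (IsLocalRing.ResidueField A) :=
    Module.length_ne_top_iff.1 (by
      rw [Module.length_eq_one A (IsLocalRing.ResidueField A)]; exact ENat.one_ne_top)
  have hs1 : IsSimpleModule A (IsLocalRing.ResidueField A →ₗ[A] E) := by
    rw [← Module.length_eq_one_iff, Groth.Agent.S5170.result A E f hf _ hκfl,
      Module.length_eq_one A (IsLocalRing.ResidueField A)]
  haveI hs2 : IsSimpleModule A (IsLocalRing.ResidueField A →ₗ[A] F) :=
    IsSimpleModule.congr (homSubtypeEquiv F (hFmem _ hJκ))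
  haveI hs3 : IsSimpleModule A (Dual.inD A (IsLocalRing.ResidueField A) ⟶ ω⟦(0 : ℤ)⟧) := by
    have hnt' : Nontrivial (Dual.inD A (A ⧸ IsLocalRing.maximalIdeal A) ⟶ ω⟦(0 : ℤ)⟧) :=
      nontrivial_hom_of_linearEquiv resEquiv.symm _ (nontrivial_hom_residueField ω hω hn)
    obtain ⟨eq1⟩ := nonempty_hom_linearEquiv_quot ω hω (IsLocalRing.maximalIdeal A) 0 hnt'
    haveI : IsSimpleModule A (A ⧸ IsLocalRing.maximalIdeal A) :=
      isSimpleModule_iff_quot_maximal.2 ⟨IsLocalRing.maximalIdeal A, inferInstance,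
        ⟨LinearEquiv.refl A _⟩⟩
    exact IsSimpleModule.congr ((Linear.homCongr A (inDIsoOfLinearEquiv resEquiv.symm)
      (Iso.refl (ω⟦(0 : ℤ)⟧))).trans eq1)
  have hκ : Function.Bijective (psiLin ε (IsLocalRing.ResidueField A)) := by
    refine (LinearMap.bijective_or_eq_zero _).resolve_right ?_
    intro h0
    apply hε
    rw [← psiLin_apply, h0]
    rfl
  exact psiLin_bijective_of_isFiniteLength ω hn ε J hext hκ N hN hJN

/-- extension of maps to `ω[0]` along injections with finite length target -/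
lemma exists_extension (hn : Dual.IsNormalized A ω) {N₁ N₂ : Type u} [AddCommGroup N₁]
    [Module A N₁] [AddCommGroup N₂] [Module A N₂] (ι : N₁ →ₗ[A] N₂) (hι : Function.Injective ι)
    (hN₂ : IsFiniteLength A N₂) (ε : Dual.inD A N₁ ⟶ ω⟦(0 : ℤ)⟧) :
    ∃ ε' : Dual.inD A N₂ ⟶ ω⟦(0 : ℤ)⟧,
      (DerivedCategory.singleFunctor (ModuleCat.{u} A) 0).map (ModuleCat.ofHom ι) ≫ ε' = ε := by
  have hcok : IsFiniteLength A (N₂ ⧸ LinearMap.range ι) :=
    IsFiniteLength.of_surjective hN₂ (Submodule.mkQ_surjective _)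
  obtain ⟨ε', h⟩ := les_left_surj ω ι (LinearMap.range ι).mkQ hι (Submodule.mkQ_surjective _)
    (LinearMap.exact_map_mkQ_range ι) 0 1 rfl
    (extVanishOn_of_isFiniteLength ω hn _ hcok 1 one_ne_zero) ε
  exact ⟨ε', h.symm⟩

end StageBij

section Stage

variable (A : Type u) [CommRing A] [IsLocalRing A] (E : Type u) [AddCommGroup E] [Module A E]

/-- `E[m^n]` -/
abbrev Fst (n : ℕ) : Submodule A E := LocCoh.torsionBy (IsLocalRing.maximalIdeal A ^ n) E

lemma Fst_mono {n n' : ℕ} (h : n ≤ n') : Fst A E n ≤ Fst A E n' := by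
  intro x hx
  rw [Submodule.mem_torsionBySet_iff] at hx ⊢
  rintro ⟨a, ha⟩
  exact hx ⟨a, Ideal.pow_le_pow_right h ha⟩

/-- `E[m^n] → E[m^n']` -/
noncomputable def inclF {n n' : ℕ} (h : n ≤ n') : Fst A E n →ₗ[A] Fst A E n' :=
  Submodule.inclusion (Fst_mono A E h)

lemma inclF_refl (n : ℕ) : inclF A E (le_refl n) = LinearMap.id :=
  LinearMap.ext fun _ => Subtype.ext rfl

lemma inclF_trans {n n' n'' : ℕ} (h : n ≤ n') (h' : n' ≤ n'') :
    inclF A E (h.trans h') = inclF A E h' ∘ₗ inclF A E h :=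
  LinearMap.ext fun _ => Subtype.ext rfl

lemma inclF_injective {n n' : ℕ} (h : n ≤ n') : Function.Injective (inclF A E h) :=
  Submodule.inclusion_injective _

variable {E} in
lemma mem_Fst_of_smul {N : Type u} [AddCommGroup N] [Module A N] (n : ℕ)
    (hN : ∀ a ∈ IsLocalRing.maximalIdeal A ^ n, ∀ x : N, a • x = 0) (φ : N →ₗ[A] E) (x : N) :
    φ x ∈ Fst A E n := by
  rw [Submodule.mem_torsionBySet_iff]
  rintro ⟨a, ha⟩
  change a • φ x = 0
  rw [← map_smul, hN a ha, map_zero]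

lemma pow_smul_residueField (n : ℕ) (h1 : 1 ≤ n) :
    ∀ a ∈ IsLocalRing.maximalIdeal A ^ n, ∀ x : IsLocalRing.ResidueField A, a • x = 0 := by
  intro a ha x
  have ham : a ∈ IsLocalRing.maximalIdeal A := Ideal.pow_le_self (by omega) ha
  rw [Algebra.smul_def]
  have h0 : algebraMap A (IsLocalRing.ResidueField A) a = 0 :=
    (IsLocalRing.residue_eq_zero_iff a).2 ham
  rw [h0, zero_mul]

lemma pow_smul_quot (n : ℕ) :
    ∀ a ∈ IsLocalRing.maximalIdeal A ^ n, ∀ x : A ⧸ IsLocalRing.maximalIdeal A ^ n, a • x = 0 := by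
  intro a ha x
  obtain ⟨b, rfl⟩ := Submodule.mkQ_surjective _ x
  rw [← map_smul, Submodule.mkQ_apply, Submodule.Quotient.mk_eq_zero, smul_eq_mul]
  exact Ideal.mul_mem_right _ _ ha

instance subsingleton_Fst_zero : Subsingleton (Fst A E 0) := by
  have hz : ∀ z : Fst A E 0, z = 0 := by
    intro z
    apply Subtype.ext
    have h := (Submodule.mem_torsionBySet_iff _ _).1 z.2
      ⟨1, by simp [Ideal.one_eq_top]⟩
    simpa using h
  exact ⟨fun x y => by rw [hz x, hz y]⟩

variable [IsNoetherianRing A] (ω : Dual.D A)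

/-- a compatible system of maps `E[m^n] ⟶ ω[0]`, nonzero on the residue field -/
structure EpsSystem (f : IsLocalRing.ResidueField A →ₗ[A] E) where
  ε : ∀ n : ℕ, Dual.inD A (Fst A E n) ⟶ ω⟦(0 : ℤ)⟧
  compat : ∀ n : ℕ, (DerivedCategory.singleFunctor (ModuleCat.{u} A) 0).map
    (ModuleCat.ofHom (inclF A E (Nat.le_succ n))) ≫ ε (n + 1) = ε n
  g₀ : Dual.inD A (IsLocalRing.ResidueField A) ⟶ ω⟦(0 : ℤ)⟧
  g₀_ne : g₀ ≠ 0
  good : ∀ φ₀ : IsLocalRing.ResidueField A →ₗ[A] Fst A E 1, (Fst A E 1).subtype ∘ₗ φ₀ = f →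
    (DerivedCategory.singleFunctor (ModuleCat.{u} A) 0).map (ModuleCat.ofHom φ₀) ≫ ε 1 = g₀

theorem nonempty_epsSystem (hω : Dual.IsDualizing A ω) (hn : Dual.IsNormalized A ω)
    (f : IsLocalRing.ResidueField A →ₗ[A] E) (hf : InjHull.IsInjectiveHull f) :
    Nonempty (EpsSystem A E ω f) := by
  have hAJ : ∀ n : ℕ, IsFiniteLength A (A ⧸ IsLocalRing.maximalIdeal A ^ n) := fun n =>
    Groth.Agent.Matlis.isFiniteLength_quotient_of_pow_le _ n le_rfl
  have hF : ∀ n : ℕ, IsFiniteLength A (Fst A E n) := fun n =>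
    isFiniteLength_torsionBy E f hf _ (hAJ n)
  haveI := nontrivial_hom_residueField ω hω hn
  obtain ⟨g₀, hg₀⟩ := exists_ne (0 : Dual.inD A (IsLocalRing.ResidueField A) ⟶ ω⟦(0 : ℤ)⟧)
  let f₁ : IsLocalRing.ResidueField A →ₗ[A] Fst A E 1 :=
    f.codRestrict (Fst A E 1) (mem_Fst_of_smul A 1 (pow_smul_residueField A 1 le_rfl) f)
  have hf₁inj : Function.Injective f₁ := fun x y h => hf.injective (congrArg Subtype.val h)
  have hstep : ∀ (n : ℕ) (ε : Dual.inD A (Fst A E n) ⟶ ω⟦(0 : ℤ)⟧),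
      ∃ ε' : Dual.inD A (Fst A E (n + 1)) ⟶ ω⟦(0 : ℤ)⟧,
        (DerivedCategory.singleFunctor (ModuleCat.{u} A) 0).map
          (ModuleCat.ofHom (inclF A E (Nat.le_succ n))) ≫ ε' = ε ∧
        (n = 0 → ∀ φ₀ : IsLocalRing.ResidueField A →ₗ[A] Fst A E (n + 1),
          (Fst A E (n + 1)).subtype ∘ₗ φ₀ = f →
          (DerivedCategory.singleFunctor (ModuleCat.{u} A) 0).map (ModuleCat.ofHom φ₀) ≫ ε' =
            g₀) := by
    intro n ε
    by_cases h0 : n = 0
    · subst h0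
      obtain ⟨ε', hε'⟩ := exists_extension ω hn f₁ hf₁inj (hF 1) g₀
      refine ⟨ε', ?_, fun _ φ₀ hφ₀ => ?_⟩
      · haveI : Subsingleton (Dual.inD A (Fst A E 0) ⟶ ω⟦(0 : ℤ)⟧) :=
          extVanishOn_of_subsingleton Set.univ ω (Fst A E 0) 0 (Set.mem_univ _)
        exact Subsingleton.elim _ _
      · have h2 : φ₀ = f₁ :=
          LinearMap.ext fun x => Subtype.ext (LinearMap.congr_fun hφ₀ x)
        rw [h2, hε']
    · obtain ⟨ε', hε'⟩ := exists_extension ω hn (inclF A E (Nat.le_succ n))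
        (inclF_injective A E _) (hF (n + 1)) ε
      exact ⟨ε', hε', fun h => absurd h h0⟩
  obtain ⟨s, -, hs⟩ := exists_dependent_seq
    (α := fun n => (Dual.inD A (Fst A E n) ⟶ ω⟦(0 : ℤ)⟧))
    (fun n ε ε' => (DerivedCategory.singleFunctor (ModuleCat.{u} A) 0).map
          (ModuleCat.ofHom (inclF A E (Nat.le_succ n))) ≫ ε' = ε ∧
        (n = 0 → ∀ φ₀ : IsLocalRing.ResidueField A →ₗ[A] Fst A E (n + 1),
          (Fst A E (n + 1)).subtype ∘ₗ φ₀ = f →
          (DerivedCategory.singleFunctor (ModuleCat.{u} A) 0).map (ModuleCat.ofHom φ₀) ≫ ε' =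
            g₀)) hstep 0
  exact ⟨{ ε := s, compat := fun n => (hs n).1, g₀ := g₀, g₀_ne := hg₀, good := (hs 0).2 rfl }⟩

end Stage

namespace EpsSystem

variable {A : Type u} [CommRing A] [IsLocalRing A] [IsNoetherianRing A] {E : Type u}
  [AddCommGroup E] [Module A E] {ω : Dual.D A} {f : IsLocalRing.ResidueField A →ₗ[A] E}
  (S : EpsSystem A E ω f)

lemma compat_le {n n' : ℕ} (h : n ≤ n') :
    (DerivedCategory.singleFunctor (ModuleCat.{u} A) 0).map (ModuleCat.ofHom (inclF A E h)) ≫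
      S.ε n' = S.ε n := by
  induction n', h using Nat.le_induction with
  | base =>
    rw [inclF_refl, ModuleCat.ofHom_id, CategoryTheory.Functor.map_id, Category.id_comp]
  | succ k hk ih =>
    have h1 : inclF A E (Nat.le_succ_of_le hk) = inclF A E (Nat.le_succ k) ∘ₗ inclF A E hk :=
      inclF_trans A E hk (Nat.le_succ k)
    rw [h1, ModuleCat.ofHom_comp, Functor.map_comp, Category.assoc, S.compat k, ih]

lemma good_le (n : ℕ) (h1 : 1 ≤ n) (φ₀ : IsLocalRing.ResidueField A →ₗ[A] Fst A E n)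
    (hφ₀ : (Fst A E n).subtype ∘ₗ φ₀ = f) :
    (DerivedCategory.singleFunctor (ModuleCat.{u} A) 0).map (ModuleCat.ofHom φ₀) ≫ S.ε n =
      S.g₀ := by
  let φ₁ : IsLocalRing.ResidueField A →ₗ[A] Fst A E 1 :=
    f.codRestrict (Fst A E 1) (mem_Fst_of_smul A 1 (pow_smul_residueField A 1 le_rfl) f)
  have h2 : φ₀ = inclF A E h1 ∘ₗ φ₁ :=
    LinearMap.ext fun x => Subtype.ext (LinearMap.congr_fun hφ₀ x)
  rw [h2, ModuleCat.ofHom_comp, Functor.map_comp, Category.assoc, S.compat_le h1]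
  exact S.good φ₁ (LinearMap.ext fun x => rfl)

variable (hω : Dual.IsDualizing A ω) (hn : Dual.IsNormalized A ω)
  (hf : InjHull.IsInjectiveHull f)

include hω hn hf in
theorem psi_bijective (n : ℕ) :
    Function.Bijective (psiLin (S.ε n) (A ⧸ IsLocalRing.maximalIdeal A ^ n)) := by
  by_cases h0 : n = 0
  · subst h0
    haveI : Subsingleton (A ⧸ IsLocalRing.maximalIdeal A ^ 0) :=
      Ideal.Quotient.subsingleton_iff.mpr (by rw [pow_zero, Ideal.one_eq_top])
    haveI h1 : Subsingleton (Dual.inD A (A ⧸ IsLocalRing.maximalIdeal A ^ 0) ⟶ ω⟦(0 : ℤ)⟧) :=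
      extVanishOn_of_subsingleton Set.univ ω _ 0 (Set.mem_univ _)
    haveI h2 : Subsingleton ((A ⧸ IsLocalRing.maximalIdeal A ^ 0) →ₗ[A] Fst A E 0) :=
      ⟨fun a b => LinearMap.ext fun x => Subsingleton.elim _ _⟩
    exact ⟨fun a b _ => Subsingleton.elim a b, fun t => ⟨0, Subsingleton.elim _ _⟩⟩
  · have h1 : 1 ≤ n := Nat.one_le_iff_ne_zero.2 h0
    let φ₀ : IsLocalRing.ResidueField A →ₗ[A] Fst A E n :=
      f.codRestrict (Fst A E n) (mem_Fst_of_smul A n (pow_smul_residueField A n h1) f)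
    have hgood := S.good_le n h1 φ₀ (LinearMap.ext fun x => rfl)
    refine psiLin_bijective_torsionBy ω hω hn E f hf (IsLocalRing.maximalIdeal A ^ n)
      (Ideal.pow_le_self h0) (S.ε n) φ₀ ?_ (A ⧸ IsLocalRing.maximalIdeal A ^ n)
      (Groth.Agent.Matlis.isFiniteLength_quotient_of_pow_le _ n le_rfl) (pow_smul_quot A n)
    rw [hgood]
    exact S.g₀_ne

/-- `Hom(A/m^n, ω[0]) → E` -/
noncomputable def theta (n : ℕ) :
    (Dual.inD A (A ⧸ IsLocalRing.maximalIdeal A ^ n) ⟶ ω⟦(0 : ℤ)⟧) →ₗ[A] E where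
  toFun t := (((LinearEquiv.ofBijective _ (S.psi_bijective hω hn hf n)).symm t)
    (Submodule.Quotient.mk 1)).1
  map_add' t t' := by rw [map_add, LinearMap.add_apply, Submodule.coe_add]
  map_smul' a t := by rw [map_smul, LinearMap.smul_apply, Submodule.coe_smul, RingHom.id_apply]

lemma theta_psi (n : ℕ) (φ : (A ⧸ IsLocalRing.maximalIdeal A ^ n) →ₗ[A] Fst A E n) :
    S.theta hω hn hf n (psiLin (S.ε n) _ φ) = (φ (Submodule.Quotient.mk 1)).1 := by
  have h1 : (LinearEquiv.ofBijective _ (S.psi_bijective hω hn hf n)).symm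
      (psiLin (S.ε n) _ φ) = φ := by
    rw [LinearEquiv.symm_apply_eq]
    rfl
  change (((LinearEquiv.ofBijective _ (S.psi_bijective hω hn hf n)).symm
    (psiLin (S.ε n) _ φ)) (Submodule.Quotient.mk 1)).1 = _
  rw [h1]

lemma theta_compat {n n' : ℕ} (h : n ≤ n')
    (hle : IsLocalRing.maximalIdeal A ^ n' ≤
      Submodule.comap (LinearMap.id : A →ₗ[A] A) (IsLocalRing.maximalIdeal A ^ n))
    (t : Dual.inD A (A ⧸ IsLocalRing.maximalIdeal A ^ n) ⟶ ω⟦(0 : ℤ)⟧) :
    S.theta hω hn hf n' ((DerivedCategory.singleFunctor (ModuleCat.{u} A) 0).map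
      (ModuleCat.ofHom (Submodule.mapQ (IsLocalRing.maximalIdeal A ^ n')
        (IsLocalRing.maximalIdeal A ^ n) LinearMap.id hle)) ≫ t) = S.theta hω hn hf n t := by
  obtain ⟨φ, rfl⟩ := (S.psi_bijective hω hn hf n).2 t
  have h1 : (DerivedCategory.singleFunctor (ModuleCat.{u} A) 0).map
      (ModuleCat.ofHom (Submodule.mapQ (IsLocalRing.maximalIdeal A ^ n')
        (IsLocalRing.maximalIdeal A ^ n) LinearMap.id hle)) ≫ psiLin (S.ε n) _ φ =
      psiLin (S.ε n') _ (inclF A E h ∘ₗ φ ∘ₗ (Submodule.mapQ (IsLocalRing.maximalIdeal A ^ n')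
        (IsLocalRing.maximalIdeal A ^ n) LinearMap.id hle)) := by
    rw [psiLin_apply, psiLin_apply, ModuleCat.ofHom_comp, ModuleCat.ofHom_comp, Functor.map_comp,
      Functor.map_comp, Category.assoc, Category.assoc, S.compat_le h]
  rw [h1, theta_psi, theta_psi]
  rfl

lemma theta_injective (n : ℕ) : Function.Injective (S.theta hω hn hf n) := by
  rw [injective_iff_map_eq_zero]
  intro t ht
  obtain ⟨φ, rfl⟩ := (S.psi_bijective hω hn hf n).2 t
  rw [theta_psi] at ht
  have h1 : φ (Submodule.Quotient.mk 1) = 0 := Subtype.ext ht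
  have h2 : φ = 0 := by
    refine LinearMap.ext fun x => ?_
    obtain ⟨b, rfl⟩ := Submodule.mkQ_surjective _ x
    have hb : (Submodule.mkQ _ b : A ⧸ IsLocalRing.maximalIdeal A ^ n) =
        b • (Submodule.Quotient.mk 1 : A ⧸ IsLocalRing.maximalIdeal A ^ n) := by
      rw [Submodule.mkQ_apply, ← Submodule.Quotient.mk_smul, smul_eq_mul, mul_one]
    rw [hb, map_smul, h1, smul_zero, LinearMap.zero_apply]
  rw [h2, map_zero]

lemma exists_theta_eq (hpt : LocCoh.IsPowerTorsion (IsLocalRing.maximalIdeal A) E) (x : E) :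
    ∃ (n : ℕ) (t : Dual.inD A (A ⧸ IsLocalRing.maximalIdeal A ^ n) ⟶ ω⟦(0 : ℤ)⟧),
      S.theta hω hn hf n t = x := by
  obtain ⟨n, hx⟩ := hpt x
  have hxF : x ∈ Fst A E n := by
    rw [Submodule.mem_torsionBySet_iff]
    rintro ⟨a, ha⟩
    exact hx a ha
  let φ : (A ⧸ IsLocalRing.maximalIdeal A ^ n) →ₗ[A] Fst A E n :=
    Submodule.liftQ (IsLocalRing.maximalIdeal A ^ n)
      (LinearMap.toSpanSingleton A (Fst A E n) ⟨x, hxF⟩) (by
        intro a ha
        rw [LinearMap.mem_ker, LinearMap.toSpanSingleton_apply]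
        exact Subtype.ext (hx a ha))
  refine ⟨n, psiLin (S.ε n) _ φ, ?_⟩
  rw [theta_psi]
  change ((Submodule.liftQ _ (LinearMap.toSpanSingleton A (Fst A E n) ⟨x, hxF⟩) _)
    (Submodule.Quotient.mk 1)).1 = x
  rw [Submodule.liftQ_apply, LinearMap.toSpanSingleton_apply, one_smul]

end EpsSystem

section Final

variable (A : Type u) [CommRing A] [IsLocalRing A] [IsNoetherianRing A] (ω : Dual.D A)

/-- the diagram whose colimit is `Dual2.HDI` -/
noncomputable abbrev hdiDiagram (I : Ideal A) (K : Dual.D A) (i : ℤ) :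
    ℕᵒᵖᵒᵖ ⥤ ModuleCat.{u+1} A :=
  (localCohomology.ringModIdeals (localCohomology.idealPowersDiagram I) ⋙
    DerivedCategory.singleFunctor (ModuleCat.{u} A) 0).op ⋙
      (linearYoneda A (Dual.D A)).obj (K⟦i⟧)

theorem hdi_subsingleton (hn : Dual.IsNormalized A ω) (i : ℤ) (hi : i ≠ 0) :
    Subsingleton (Dual2.HDI A (IsLocalRing.maximalIdeal A) ω i) := by
  have hst : ∀ j : ℕᵒᵖᵒᵖ,
      Subsingleton ((hdiDiagram A (IsLocalRing.maximalIdeal A) ω i).obj j) := by
    intro j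
    exact extVanishOn_of_isFiniteLength ω hn (A ⧸ IsLocalRing.maximalIdeal A ^ j.unop.unop)
      (Groth.Agent.Matlis.isFiniteLength_quotient_of_pow_le _ _ le_rfl) i hi
  refine ⟨fun a b => ?_⟩
  obtain ⟨j, t, rfl⟩ := exists_rep_nat A (hdiDiagram A (IsLocalRing.maximalIdeal A) ω i) a
  obtain ⟨j', t', rfl⟩ := exists_rep_nat A (hdiDiagram A (IsLocalRing.maximalIdeal A) ω i) b
  rw [@Subsingleton.elim _ (hst j) t 0, @Subsingleton.elim _ (hst j') t' 0, map_zero, map_zero]

theorem hdi_zero_equiv (hω : Dual.IsDualizing A ω) (hn : Dual.IsNormalized A ω)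
    (E : Type u) [AddCommGroup E] [Module A E]
    (f : IsLocalRing.ResidueField A →ₗ[A] E) (hf : InjHull.IsInjectiveHull f) :
    Nonempty (Dual2.HDI A (IsLocalRing.maximalIdeal A) ω 0 ≃ₗ[A] E) := by
  obtain ⟨S⟩ := nonempty_epsSystem A E ω hω hn f hf
  have hpt : LocCoh.IsPowerTorsion (IsLocalRing.maximalIdeal A) E :=
    Groth.Agent.Lib.InjHull2_helper3.hull_isPowerTorsion f hf
  let F := hdiDiagram A (IsLocalRing.maximalIdeal A) ω 0
  let c : Cocone F :=
    { pt := ModuleCat.of A (ULift.{u+1} E)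
      ι :=
        { app := fun j => ModuleCat.ofHom
            ((ULift.moduleEquiv (R := A) (M := E)).symm.toLinearMap ∘ₗ
              S.theta hω hn hf j.unop.unop)
          naturality := by
            intro j j' g
            apply ModuleCat.hom_ext
            refine LinearMap.ext fun t => ?_
            exact congrArg ULift.up
              (S.theta_compat hω hn hf (leOfHom g.unop.unop) _ t) } }
  let d : colimit F ⟶ c.pt := colimit.desc F c
  have hd : ∀ (j : ℕᵒᵖᵒᵖ) (t : F.obj j),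
      d.hom ((colimit.ι F j).hom t) = ULift.up (S.theta hω hn hf j.unop.unop t) := by
    intro j t
    have h1 : colimit.ι F j ≫ d = c.ι.app j := colimit.ι_desc c j
    exact LinearMap.congr_fun (congrArg ModuleCat.Hom.hom h1) t
  have hinj : Function.Injective d.hom := by
    rw [injective_iff_map_eq_zero]
    intro y hy
    obtain ⟨j, t, rfl⟩ := exists_rep_nat A F y
    rw [hd] at hy
    have h1 : S.theta hω hn hf j.unop.unop t = 0 := congrArg ULift.down hy
    have h2 : t = 0 := S.theta_injective hω hn hf _ (h1.trans (map_zero _).symm)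
    rw [h2, map_zero]
  have hsurj : Function.Surjective d.hom := by
    intro x
    obtain ⟨n, t, ht⟩ := S.exists_theta_eq hω hn hf hpt x.down
    refine ⟨(colimit.ι F (op (op n))).hom t, ?_⟩
    rw [hd]
    exact congrArg ULift.up ht
  exact ⟨(LinearEquiv.ofBijective d.hom ⟨hinj, hsurj⟩).trans ULift.moduleEquiv⟩

end Final

end Groth.Agent.Lib.DMod_helper6
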