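import Mathlib
import Groth.Agent.Lib.KInjRes_helper2

/-!
# K-injective resolutions with injective terms (helper2)

The K-injective resolution constructed in `KInjRes_helper2` (a limit of a tower of bounded below complexes
of injectives with degreewise split epimorphic transition maps with injective kernels) has injective terms.

* `injective_of_tower`: the limit of a tower `⋯ → F₂ → F₁ → F₀` with `F₀` injective and transition maps
  epimorphisms with injective kernels is injective.
* `exists_kinj_resolution_inj`: every complex has a K-injective resolution with injective terms.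
-/

set_option autoImplicit false
universe v u
open CategoryTheory Category Limits HomologicalComplex CochainComplex Opposite Abelian

namespace Groth.Agent.Lib.KInjRes

open Groth.Agent.Lib.KInjTower (tr)

variable {C : Type u} [Category.{v} C] [Abelian C]

section TowerInj

variable (F : ℕᵒᵖ ⥤ C) (c : Cone F)
  {B A' : C} (i : A' ⟶ B) (g : A' ⟶ c.pt)

/-- partial extensions -/
def PExt (n : ℕ) : Type v := {h : B ⟶ F.obj (op n) // i ≫ h = g ≫ c.π.app (op n)}

variable {F c i g}

lemma exists_step (hstep : ∀ n, epiWithInjectiveKernel (F.map (tr n))) [Mono i] (n : ℕ)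
    (e : PExt F c i g n) :
    ∃ e' : PExt F c i g (n + 1), e'.1 ≫ F.map (tr n) = e.1 := by
  have hn := hstep n
  rw [epiWithInjectiveKernel_iff] at hn
  obtain ⟨J, hJ, f, w, ⟨σ⟩⟩ := hn
  haveI := hJ
  let k : B ⟶ J := Injective.factorThru (g ≫ c.π.app (op (n + 1)) ≫ σ.r) i
  have hk : i ≫ k = g ≫ c.π.app (op (n + 1)) ≫ σ.r := Injective.comp_factorThru _ _
  have hπ : c.π.app (op (n + 1)) ≫ F.map (tr n) = c.π.app (op n) := by
    have := c.π.naturality (tr n)
    dsimp at this
    rw [id_comp] at this
    exact this.symm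
  have hid : σ.r ≫ f + F.map (tr n) ≫ σ.s = 𝟙 _ := σ.id
  have hsg : σ.s ≫ F.map (tr n) = 𝟙 _ := σ.s_g
  refine ⟨⟨e.1 ≫ σ.s + k ≫ f, ?_⟩, ?_⟩
  · have hid' : F.map (tr n) ≫ σ.s + σ.r ≫ f = 𝟙 _ := (add_comm _ _).trans hid
    calc i ≫ (e.1 ≫ σ.s + k ≫ f) = (i ≫ e.1) ≫ σ.s + (i ≫ k) ≫ f := by
          rw [Preadditive.comp_add, assoc, assoc]
      _ = (g ≫ c.π.app (op n)) ≫ σ.s + (g ≫ c.π.app (op (n + 1)) ≫ σ.r) ≫ f := by rw [e.2, hk]
      _ = g ≫ c.π.app (op (n + 1)) ≫ (F.map (tr n) ≫ σ.s + σ.r ≫ f) := by
          rw [← hπ]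
          simp only [assoc, Preadditive.comp_add]
      _ = g ≫ c.π.app (op (n + 1)) := by rw [hid', comp_id]
  · show (e.1 ≫ σ.s + k ≫ f) ≫ F.map (tr n) = e.1
    rw [Preadditive.add_comp, assoc, assoc, hsg, comp_id, w, comp_zero, add_zero]

variable (hstep : ∀ n, epiWithInjectiveKernel (F.map (tr n))) [Mono i]

/-- the sequence of partial extensions -/
noncomputable def extSeq (e0 : PExt F c i g 0) : ∀ n : ℕ, PExt F c i g n
  | 0 => e0
  | n + 1 => (exists_step hstep n (extSeq e0 n)).choose

lemma extSeq_succ (e0 : PExt F c i g 0) (n : ℕ) :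
    (extSeq hstep e0 (n + 1)).1 ≫ F.map (tr n) = (extSeq hstep e0 n).1 :=
  (exists_step hstep n (extSeq hstep e0 n)).choose_spec

end TowerInj

/-- the limit of a tower of epimorphisms with injective kernels, starting from an injective object,
is injective -/
theorem injective_of_tower (F : ℕᵒᵖ ⥤ C) (c : Cone F) (hc : IsLimit c)
    (h0 : Injective (F.obj (op 0)))
    (hstep : ∀ n, epiWithInjectiveKernel (F.map (tr n))) : Injective c.pt := by
  refine ⟨fun {A' B} g i _ => ?_⟩
  haveI := h0
  let e0 : PExt F c i g 0 :=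
    ⟨Injective.factorThru (g ≫ c.π.app (op 0)) i, Injective.comp_factorThru _ _⟩
  let cn : Cone F :=
    { pt := B
      π := NatTrans.ofOpSequence (fun n => (extSeq hstep e0 n).1) (by
        intro n
        dsimp
        rw [id_comp]
        exact (extSeq_succ hstep e0 n).symm) }
  refine ⟨hc.lift cn, ?_⟩
  apply hc.hom_ext
  rintro ⟨n⟩
  rw [assoc, hc.fac cn (op n)]
  exact (extSeq hstep e0 n).2

variable [EnoughInjectives C] [HasLimitsOfShape ℕᵒᵖ C]

lemma injective_limit_tower_X (X : CochainComplex C ℤ) (j : ℤ) :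
    Injective ((limit (tower X)).X j) := by
  have h := injective_of_tower (tower X ⋙ eval C (ComplexShape.up ℤ) j)
    ((eval C (ComplexShape.up ℤ) j).mapCone (limit.cone (tower X)))
    (hlim (tower X) (limit.cone (tower X)) (limit.isLimit _) j)
    ((seq X 0).inj j) (by
      intro n
      show epiWithInjectiveKernel (((tower X).map (tr n)).f j)
      rw [tower_map_tr]
      exact proj_fib X (seq X n) j)
  exact h

variable [EnoughProjectives C]

/-- **Every complex admits a K-injective resolution with injective terms.** -/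
theorem exists_kinj_resolution_inj (X : CochainComplex C ℤ) :
    ∃ (I : CochainComplex C ℤ) (a : X ⟶ I), I.IsKInjective ∧ QuasiIso a ∧
      ∀ j : ℤ, Injective (I.X j) :=
  ⟨limit (tower X), limit.lift (tower X) (coneT X), isKInjective_limit_tower X, quasiIso_lift X,
    fun j => injective_limit_tower_X X j⟩

end Groth.Agent.Lib.KInjRes
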