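import Mathlib
import Groth.Prelude.Def_DerCA
import Groth.Prelude.Def_DRing3
import Groth.Agent.Lib.ExtCech3_helper7
import Groth.Agent.Lib.DerCompl6_helper2

/-!
# Iterated fibres of localization maps in `D(A)` (helper2)

For `f : A` and a complex `Y`, the mapping cocone of `Y ⟶ Y_f` gives a distinguished triangle in `D(A)`.
A morphism `q : F ⟶ F'` of `D(A)` is a *fibre of the localization at `f`* (`Fib f q`) if it sits in such a
triangle (for some complex representing `F'`); `IterFib fs p` says that `p : F ⟶ K` is a composite of such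
fibres, for the elements of the list `fs` (the innermost step being the last element of the list).

* `loc_square`: a morphism `Q Y ⟶ Q Y₂` induces a compatible morphism `Q Y_f ⟶ Q (Y₂)_f`.
* `IterFib.unique`: iterated fibres are unique up to isomorphism, compatibly with the projections.
* `iterFib_cech`: the projection from the (iterated cocone) Čech complex `cech X fs ⟶ X` is an iterated fibre.
* `hom_eq_zero_of_actsBij`: `Hom(Q X, Q Z) = 0` if `X_f` is acyclic and `f` acts bijectively on `Z`.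
-/

set_option autoImplicit false
universe u
open CategoryTheory CategoryTheory.Limits CategoryTheory.Pretriangulated DerivedCategory

attribute [local instance] HasDerivedCategory.standard

namespace Groth.Agent.Lib.LocFib

open Groth.Agent.Lib.DerCompl Groth.Agent.Lib.ExtCechH7

variable {A : Type u} [CommRing A]

/-- termwise localization at `f` -/
noncomputable abbrev Lf (f : A) (Y : DRing.Cx A) : DRing.Cx A :=
  (DerCA.locCx (Submonoid.powers f)).obj Y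

/-- the localization map -/
noncomputable abbrev ηf (f : A) (Y : DRing.Cx A) : Y ⟶ Lf f Y :=
  DerCA.locCxUnit (Submonoid.powers f) Y

lemma ηf_naturality (f : A) {X Y : DRing.Cx A} (φ : X ⟶ Y) :
    φ ≫ ηf f Y = ηf f X ≫ (DerCA.locCx (Submonoid.powers f)).map φ := by
  refine HomologicalComplex.hom_ext _ _ fun n => ?_
  exact (DerCA.locUnit (Submonoid.powers f)).naturality (φ.f n)

lemma isIso_Q_map_loc (f : A) {X Y : DRing.Cx A} (s : X ⟶ Y) (hs : IsIso (Q.map s)) :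
    IsIso (Q.map ((DerCA.locCx (Submonoid.powers f)).map s)) := by
  rw [isIso_Q_map_iff_quasiIso] at hs ⊢
  haveI := hs
  infer_instance

/-- a morphism in `D(A)` induces a compatible morphism between the localizations -/
theorem loc_square (f : A) {Y Y₂ : DRing.Cx A} (a : Q.obj Y ⟶ Q.obj Y₂) :
    ∃ af : Q.obj (Lf f Y) ⟶ Q.obj (Lf f Y₂),
      Q.map (ηf f Y) ≫ af = a ≫ Q.map (ηf f Y₂) ∧ (IsIso a → IsIso af) := by
  obtain ⟨W, s, hs, g, rfl⟩ := right_fac a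
  haveI := hs
  haveI hsf := isIso_Q_map_loc f s hs
  refine ⟨inv (Q.map ((DerCA.locCx (Submonoid.powers f)).map s)) ≫
    Q.map ((DerCA.locCx (Submonoid.powers f)).map g), ?_, ?_⟩
  · rw [← cancel_epi (Q.map s)]
    have h1 : Q.map s ≫ Q.map (ηf f Y) =
        Q.map (ηf f W) ≫ Q.map ((DerCA.locCx (Submonoid.powers f)).map s) := by
      rw [← Q.map_comp, ← Q.map_comp, ηf_naturality]
    have h2 : Q.map g ≫ Q.map (ηf f Y₂) =
        Q.map (ηf f W) ≫ Q.map ((DerCA.locCx (Submonoid.powers f)).map g) := by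
      rw [← Q.map_comp, ← Q.map_comp, ηf_naturality]
    rw [← Category.assoc, h1, Category.assoc, IsIso.hom_inv_id_assoc, Category.assoc,
      IsIso.hom_inv_id_assoc, h2]
  · intro ha
    have hg : IsIso (Q.map g) := by
      have e : Q.map g = Q.map s ≫ (inv (Q.map s) ≫ Q.map g) := by
        rw [IsIso.hom_inv_id_assoc]
      rw [e]
      infer_instance
    haveI := isIso_Q_map_loc f g hg
    infer_instance

/-- `q : F ⟶ F'` is a fibre of the localization of `F'` at `f` -/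
def Fib (f : A) {F F' : Dual.D A} (q : F ⟶ F') : Prop :=
  ∃ (Y : DRing.Cx A) (e : F' ≅ Q.obj Y) (w : Q.obj (Lf f Y) ⟶ F⟦(1 : ℤ)⟧),
    Triangle.mk (q ≫ e.hom) (Q.map (ηf f Y)) w ∈ distTriang (Dual.D A)

/-- `p : F ⟶ K` is an iterated fibre of localizations at the elements of `fs` -/
def IterFib : List A → ∀ (F K : Dual.D A), (F ⟶ K) → Prop
  | [] => fun _ _ p => IsIso p
  | f :: fs => fun F K p => ∃ (F' : Dual.D A) (q : F ⟶ F') (p' : F' ⟶ K),
      IterFib fs F' K p' ∧ Fib f q ∧ p = q ≫ p'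

lemma iterFib_nil {F K : Dual.D A} (p : F ⟶ K) : IterFib [] F K p ↔ IsIso p := Iff.rfl

lemma iterFib_cons (f : A) (fs : List A) {F K : Dual.D A} (p : F ⟶ K) :
    IterFib (f :: fs) F K p ↔ ∃ (F' : Dual.D A) (q : F ⟶ F') (p' : F' ⟶ K),
      IterFib fs F' K p' ∧ Fib f q ∧ p = q ≫ p' := Iff.rfl

/-- uniqueness of a fibre -/
theorem Fib.unique (f : A) {F F' F₂ F₂' : Dual.D A} {q : F ⟶ F'} {q₂ : F₂ ⟶ F₂'}
    (h : Fib f q) (h₂ : Fib f q₂) (e' : F' ≅ F₂') :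
    ∃ x : F ≅ F₂, x.hom ≫ q₂ = q ≫ e'.hom := by
  obtain ⟨Y, e, w, hT⟩ := h
  obtain ⟨Y₂, e₂, w₂, hT₂⟩ := h₂
  obtain ⟨af, haf, haf'⟩ := loc_square f (e.inv ≫ e'.hom ≫ e₂.hom)
  haveI : IsIso af := haf' inferInstance
  obtain ⟨x, hx1, hx3⟩ : ∃ x : F ⟶ F₂,
      (q ≫ e.hom) ≫ (e.inv ≫ e'.hom ≫ e₂.hom) = x ≫ (q₂ ≫ e₂.hom) ∧
        w ≫ x⟦(1 : ℤ)⟧' = af ≫ w₂ :=
    complete_distinguished_triangle_morphism₁ _ _ hT hT₂ (e.inv ≫ e'.hom ≫ e₂.hom) af haf
  let φ : Triangle.mk (q ≫ e.hom) (Q.map (ηf f Y)) w ⟶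
      Triangle.mk (q₂ ≫ e₂.hom) (Q.map (ηf f Y₂)) w₂ :=
    { hom₁ := x
      hom₂ := e.inv ≫ e'.hom ≫ e₂.hom
      hom₃ := af
      comm₁ := hx1
      comm₂ := haf
      comm₃ := hx3 }
  haveI : IsIso x := isIso₁_of_isIso₂₃ φ hT hT₂
    (inferInstance : IsIso (e.inv ≫ e'.hom ≫ e₂.hom)) (inferInstance : IsIso af)
  refine ⟨asIso x, ?_⟩
  have h1 : (q ≫ e.hom) ≫ (e.inv ≫ e'.hom ≫ e₂.hom) = x ≫ (q₂ ≫ e₂.hom) := hx1
  rw [← cancel_mono e₂.hom]
  simp only [Category.assoc, Iso.hom_inv_id_assoc, asIso_hom] at h1 ⊢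
  exact h1.symm

/-- **iterated fibres are unique** -/
theorem IterFib.unique : ∀ (fs : List A) {F K F₂ K₂ : Dual.D A} (p : F ⟶ K) (p₂ : F₂ ⟶ K₂)
    (θ : K ≅ K₂), IterFib fs F K p → IterFib fs F₂ K₂ p₂ →
    ∃ e : F ≅ F₂, e.hom ≫ p₂ = p ≫ θ.hom
  | [], F, K, F₂, K₂, p, p₂, θ, h, h₂ => by
    haveI : IsIso p := h
    haveI : IsIso p₂ := h₂
    refine ⟨asIso p ≪≫ θ ≪≫ (asIso p₂).symm, ?_⟩
    simp
  | f :: fs, F, K, F₂, K₂, p, p₂, θ, h, h₂ => by
    obtain ⟨F', q, p', h', hq, rfl⟩ := h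
    obtain ⟨F₂', q₂, p₂', h₂', hq₂, rfl⟩ := h₂
    obtain ⟨e', he'⟩ := IterFib.unique fs p' p₂' θ h' h₂'
    obtain ⟨x, hx⟩ := Fib.unique f hq hq₂ e'
    refine ⟨x, ?_⟩
    rw [← Category.assoc, hx, Category.assoc, he', Category.assoc]

/-- transport of a fibre along an isomorphism of the source -/
lemma Fib.of_iso_left (f : A) {F F' F₂ : Dual.D A} {q : F ⟶ F'} (h : Fib f q) (e₁ : F₂ ≅ F) :
    Fib f (e₁.hom ≫ q) := by
  obtain ⟨Y, e, w, hT⟩ := h
  refine ⟨Y, e, w ≫ e₁.inv⟦(1 : ℤ)⟧', ?_⟩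
  refine isomorphic_distinguished _ hT _ (Triangle.isoMk _ _ e₁ (Iso.refl _) (Iso.refl _) ?_ ?_ ?_)
  · show ((e₁.hom ≫ q) ≫ e.hom) ≫ 𝟙 _ = e₁.hom ≫ (q ≫ e.hom)
    rw [Category.comp_id, Category.assoc]
  · show Q.map (ηf f Y) ≫ 𝟙 _ = 𝟙 _ ≫ Q.map (ηf f Y)
    rw [Category.comp_id, Category.id_comp]
  · show (w ≫ (shiftFunctor (Dual.D A) (1 : ℤ)).map e₁.inv) ≫
        (shiftFunctor (Dual.D A) (1 : ℤ)).map e₁.hom = 𝟙 _ ≫ w
    rw [Category.assoc, ← CategoryTheory.Functor.map_comp, Iso.inv_hom_id,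
      CategoryTheory.Functor.map_id, Category.comp_id, Category.id_comp]

/-- transport of an iterated fibre along isomorphisms -/
theorem IterFib.of_iso : ∀ (fs : List A) {F K F₂ K₂ : Dual.D A} (p : F ⟶ K) (e₁ : F₂ ≅ F)
    (e₂ : K ≅ K₂), IterFib fs F K p → IterFib fs F₂ K₂ (e₁.hom ≫ p ≫ e₂.hom)
  | [], F, K, F₂, K₂, p, e₁, e₂, h => by
    haveI : IsIso p := h
    show IsIso (e₁.hom ≫ p ≫ e₂.hom)
    infer_instance
  | f :: fs, F, K, F₂, K₂, p, e₁, e₂, h => by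
    obtain ⟨F', q, p', h', hq, rfl⟩ := h
    refine ⟨F', e₁.hom ≫ q, p' ≫ e₂.hom, ?_, hq.of_iso_left f e₁, by simp⟩
    have := IterFib.of_iso fs p' (Iso.refl F') e₂ h'
    simpa using this

end Groth.Agent.Lib.LocFib
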