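import Mathlib
import Groth.Agent.Lib.LocFib1_helper2
import Groth.Agent.Lib.LocHom_helper2

/-!
# Iterated fibres of localization maps, II: Čech complexes, torsion, orthogonality (helper2)
-/

set_option autoImplicit false
universe u
open CategoryTheory CategoryTheory.Limits CategoryTheory.Pretriangulated DerivedCategory

attribute [local instance] HasDerivedCategory.standard

namespace Groth.Agent.Lib.LocFib

open Groth.Agent.Lib.DerCompl Groth.Agent.Lib.ExtCechH7

variable {A : Type u} [CommRing A]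

/-! ### Čech complexes of complexes -/

/-- the iterated cocone Čech complex of a complex -/
noncomputable def cech (X : DRing.Cx A) : List A → DRing.Cx A
  | [] => X
  | f :: fs => cc f (cech X fs)

/-- the projection `cech X fs ⟶ X` -/
noncomputable def cechP (X : DRing.Cx A) : (fs : List A) → (cech X fs ⟶ X)
  | [] => 𝟙 X
  | f :: fs => CochainComplex.mappingCocone.fst (ηf f (cech X fs)) ≫ cechP X fs

lemma extCech_eq_cech (M : ModuleCat.{u} A) (fs : List A) :
    DerCA.extCech M fs =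
      cech ((HomologicalComplex.single (ModuleCat.{u} A) (ComplexShape.up ℤ) 0).obj M) fs := by
  induction fs with
  | nil => rfl
  | cons f fs ih =>
    show cc f (DerCA.extCech M fs) = cc f (cech _ fs)
    rw [ih]

lemma fib_cc (f : A) (Y : DRing.Cx A) :
    Fib f (Q.map (CochainComplex.mappingCocone.fst (ηf f Y))) := by
  refine ⟨Y, Iso.refl _, Q.map (CochainComplex.mappingCocone.triangle (ηf f Y)).mor₃ ≫
    (Q.commShiftIso (1 : ℤ)).hom.app _, ?_⟩
  have h := DerivedCategory.mappingCocone_triangle_distinguished (ηf f Y)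
  rw [Iso.refl_hom, Category.comp_id]
  exact h

/-- the projection from the Čech complex is an iterated fibre -/
theorem iterFib_cech (X : DRing.Cx A) :
    ∀ fs : List A, IterFib fs (Q.obj (cech X fs)) (Q.obj X) (Q.map (cechP X fs))
  | [] => by
    show IsIso (Q.map (𝟙 X))
    rw [Q.map_id]
    infer_instance
  | f :: fs => ⟨Q.obj (cech X fs), Q.map (CochainComplex.mappingCocone.fst (ηf f (cech X fs))),
      Q.map (cechP X fs), iterFib_cech X fs, fib_cc f _, by rw [← Q.map_comp]; rfl⟩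

/-! ### Torsion -/

/-- the cohomology of `K` is `f`-power torsion -/
def Tors (f : A) (K : Dual.D A) : Prop :=
  ∀ (n : ℤ) (x : Dual.HD A K n), ∃ k : ℕ, f ^ k • x = 0

/-- the cohomology of the complex `X` is `f`-power torsion -/
def TorsCx (f : A) (X : DRing.Cx A) : Prop :=
  ∀ (n : ℤ) (x : X.homology n), ∃ k : ℕ, f ^ k • x = 0

lemma Tors.of_iso {f : A} {K K' : Dual.D A} (e : K ≅ K') (h : Tors f K) : Tors f K' := by
  intro n x
  let E : Dual.HD A K n ≃ₗ[A] Dual.HD A K' n :=
    ((DerivedCategory.homologyFunctor (ModuleCat.{u} A) n).mapIso e).toLinearEquiv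
  obtain ⟨k, hk⟩ := h n (E.symm x)
  refine ⟨k, ?_⟩
  have h2 := congrArg E hk
  rwa [map_smul, E.apply_symm_apply, map_zero] at h2

lemma tors_Q_iff (f : A) (X : DRing.Cx A) : Tors f (Q.obj X) ↔ TorsCx f X := by
  let E : ∀ n : ℤ, Dual.HD A (Q.obj X) n ≃ₗ[A] X.homology n := fun n =>
    ((DerivedCategory.homologyFunctorFactors (ModuleCat.{u} A) n).app X).toLinearEquiv
  constructor
  · intro h n x
    obtain ⟨k, hk⟩ := h n ((E n).symm x)
    refine ⟨k, ?_⟩
    have h2 := congrArg (E n) hk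
    rwa [map_smul, (E n).apply_symm_apply, map_zero] at h2
  · intro h n x
    obtain ⟨k, hk⟩ := h n (E n x)
    refine ⟨k, ?_⟩
    have h2 := congrArg (E n).symm hk
    rwa [map_smul, (E n).symm_apply_apply, map_zero] at h2

lemma acyclic_loc_of_torsCx (f : A) (X : DRing.Cx A) (h : TorsCx f X) : (Lf f X).Acyclic := by
  intro n
  rw [HomologicalComplex.exactAt_iff_isZero_homology]
  haveI : Subsingleton ((Lf f X).homology n) := by
    refine subsingleton_of_forall_eq 0 fun z => ?_
    obtain ⟨m, w, hw⟩ := exists_pow_smul_eq_mapH f X n z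
    obtain ⟨k, hk⟩ := h n w
    apply pow_smul_injective f X n (k + m) z
    rw [pow_add, mul_smul, hw, ← map_smul, hk, map_zero]
  exact ModuleCat.isZero_of_subsingleton _

lemma isZero_Q_loc_of_tors (f : A) (X : DRing.Cx A) (h : Tors f (Q.obj X)) :
    IsZero (Q.obj (Lf f X)) :=
  Groth.Agent.Lib.LocHom.isZero_Q_obj_of_acyclic _
    (acyclic_loc_of_torsCx f X ((tors_Q_iff f X).1 h))

/-- the cohomology of the Čech complex is torsion -/
theorem torsCx_cech (X : DRing.Cx A) : ∀ (fs : List A), ∀ g ∈ fs, TorsCx g (cech X fs)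
  | [], g, hg => by simp at hg
  | f :: fs, g, hg => by
    rcases List.mem_cons.1 hg with rfl | hg'
    · exact fun q x => P1 g (cech X fs) q x
    · exact fun q x => P2 f (cech X fs) g (torsCx_cech X fs g hg') q x

/-! ### Orthogonality -/

lemma isIso_ηf_of_actsBij (f : A) (Z : DRing.Cx A) (hZ : ActsBij f Z) : IsIso (ηf f Z) := by
  haveI : ∀ n, IsIso ((ηf f Z).f n) := by
    intro n
    apply (ConcreteCategory.isIso_iff_bijective _).2
    haveI := isLocalizedModule_id f (hZ n)
    let E := IsLocalizedModule.linearEquiv (Submonoid.powers f)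
      (LinearMap.id : Z.X n →ₗ[A] Z.X n)
      (LocalizedModule.mkLinearMap (Submonoid.powers f) (Z.X n))
    have hE : ∀ z : Z.X n, E z = LocalizedModule.mkLinearMap (Submonoid.powers f) (Z.X n) z := by
      intro z
      exact IsLocalizedModule.linearEquiv_apply (Submonoid.powers f)
        (LinearMap.id : Z.X n →ₗ[A] Z.X n)
        (LocalizedModule.mkLinearMap (Submonoid.powers f) (Z.X n)) z
    have h2 : (fun z : Z.X n => LocalizedModule.mkLinearMap (Submonoid.powers f) (Z.X n) z) = E := by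
      funext z
      exact (hE z).symm
    show Function.Bijective
      (fun z : Z.X n => LocalizedModule.mkLinearMap (Submonoid.powers f) (Z.X n) z)
    rw [h2]
    exact E.bijective
  exact HomologicalComplex.Hom.isIso_of_components _

/-- `Hom(Q X, Q Z) = 0` if `X_f` is zero in `D(A)` and `f` acts bijectively on the terms of `Z` -/
theorem hom_eq_zero_of_actsBij (f : A) (X Z : DRing.Cx A) (hX : IsZero (Q.obj (Lf f X)))
    (hZ : ActsBij f Z) (ψ : Q.obj X ⟶ Q.obj Z) : ψ = 0 := by
  obtain ⟨ψf, h, -⟩ := loc_square f ψ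
  haveI := isIso_ηf_of_actsBij f Z hZ
  have h0 : ψ ≫ Q.map (ηf f Z) = 0 := by
    rw [← h, hX.eq_of_tgt (Q.map (ηf f X)) 0, zero_comp]
  rw [← cancel_mono (Q.map (ηf f Z)), h0, zero_comp]

theorem hom_eq_zero_of_tors (f : A) (L : Dual.D A) (hL : Tors f L) (Z : DRing.Cx A)
    (hZ : ActsBij f Z) (W : Dual.D A) (eW : W ≅ Q.obj Z) (ψ : L ⟶ W) : ψ = 0 := by
  let X := Q.objPreimage L
  let eL : Q.obj X ≅ L := Q.objObjPreimageIso L
  have hX : IsZero (Q.obj (Lf f X)) := isZero_Q_loc_of_tors f X (hL.of_iso eL.symm)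
  have h := hom_eq_zero_of_actsBij f X Z hX hZ (eL.hom ≫ ψ ≫ eW.hom)
  rw [← cancel_epi eL.hom, ← cancel_mono eW.hom, Category.assoc, h, comp_zero, zero_comp]

section Tri

variable {C : Type*} [Category C] [Preadditive C] [HasZeroObject C] [HasShift C ℤ]
  [∀ n : ℤ, (CategoryTheory.shiftFunctor C n).Additive] [Pretriangulated C]

theorem bijective_postcomp_of_distinguished (T : Triangle C) (hT : T ∈ distTriang C) (L : C)
    (h0 : ∀ a : L ⟶ T.obj₃, a = 0) (h1 : ∀ a : L ⟶ T.obj₃⟦(-1 : ℤ)⟧, a = 0) :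
    Function.Bijective (fun a : L ⟶ T.obj₁ => a ≫ T.mor₁) := by
  constructor
  · intro a a' h
    have h' : (a - a') ≫ T.mor₁ = 0 := by
      rw [Preadditive.sub_comp]
      exact sub_eq_zero.2 h
    obtain ⟨g, hg⟩ := Triangle.coyoneda_exact₂ _ (inv_rot_of_distTriang _ hT) (a - a') h'
    have hg0 : g = 0 := h1 g
    rw [hg0, zero_comp] at hg
    exact sub_eq_zero.1 hg
  · intro b
    obtain ⟨a, ha⟩ := Triangle.coyoneda_exact₂ T hT b (h0 _)
    exact ⟨a, ha.symm⟩

end Tri

lemma actsBij_shift (f : A) (Z : DRing.Cx A) (hZ : ActsBij f Z) (n : ℤ) : ActsBij f (Z⟦n⟧) :=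
  fun p => hZ (p + n)

theorem Fib.bijective_postcomp (f : A) {F F' : Dual.D A} {q : F ⟶ F'} (h : Fib f q)
    (L : Dual.D A) (hL : Tors f L) : Function.Bijective (fun a : L ⟶ F => a ≫ q) := by
  obtain ⟨Y, e, w, hT⟩ := h
  have h0 : ∀ a : L ⟶ Q.obj (Lf f Y), a = 0 := fun a =>
    hom_eq_zero_of_tors f L hL (Lf f Y) (actsBij_locCx f Y) _ (Iso.refl _) a
  have h1 : ∀ a : L ⟶ (Q.obj (Lf f Y))⟦(-1 : ℤ)⟧, a = 0 := fun a =>
    hom_eq_zero_of_tors f L hL ((Lf f Y)⟦(-1 : ℤ)⟧)
      (actsBij_shift f _ (actsBij_locCx f Y) (-1)) _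
      (((Q.commShiftIso (-1 : ℤ)).app (Lf f Y)).symm) a
  have hb := bijective_postcomp_of_distinguished _ hT L h0 h1
  constructor
  · intro a a' haa
    apply hb.1
    show a ≫ q ≫ e.hom = a' ≫ q ≫ e.hom
    rw [← Category.assoc, ← Category.assoc]
    exact congrArg (· ≫ e.hom) haa
  · intro b
    obtain ⟨a, ha⟩ := hb.2 (b ≫ e.hom)
    refine ⟨a, ?_⟩
    have ha' : a ≫ q ≫ e.hom = b ≫ e.hom := ha
    rw [← cancel_mono e.hom, Category.assoc]
    exact ha'

theorem IterFib.bijective_postcomp : ∀ (fs : List A) {F K : Dual.D A} (p : F ⟶ K),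
    IterFib fs F K p → ∀ (L : Dual.D A), (∀ f ∈ fs, Tors f L) →
    Function.Bijective (fun a : L ⟶ F => a ≫ p)
  | [], F, K, p, h, L, _ => by
    haveI : IsIso p := h
    constructor
    · intro a a' haa
      exact (cancel_mono p).1 haa
    · intro b
      exact ⟨b ≫ inv p, by simp⟩
  | f :: fs, F, K, p, h, L, hL => by
    obtain ⟨F', q, p', h', hq, rfl⟩ := h
    have hb1 := hq.bijective_postcomp f L (hL f (List.mem_cons_self))
    have hb2 := IterFib.bijective_postcomp fs p' h' L
      (fun g hg => hL g (List.mem_cons_of_mem _ hg))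
    have : (fun a : L ⟶ F => a ≫ q ≫ p') = (fun b : L ⟶ F' => b ≫ p') ∘ (fun a : L ⟶ F => a ≫ q) := by
      funext a
      simp
    rw [this]
    exact hb2.comp hb1

/-- an iterated fibre over a torsion object is an isomorphism -/
theorem IterFib.isIso_of_tors : ∀ (fs : List A) {F K : Dual.D A} (p : F ⟶ K),
    IterFib fs F K p → (∀ f ∈ fs, Tors f K) → IsIso p
  | [], F, K, p, h, _ => h
  | f :: fs, F, K, p, h, hK => by
    obtain ⟨F', q, p', h', hq, rfl⟩ := h
    haveI : IsIso p' := IterFib.isIso_of_tors fs p' h' (fun g hg => hK g (List.mem_cons_of_mem _ hg))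
    obtain ⟨Y, e, w, hT⟩ := hq
    have hY : Tors f (Q.obj Y) :=
      (hK f (List.mem_cons_self)).of_iso ((asIso p').symm ≪≫ e)
    have hz : IsZero (Q.obj (Lf f Y)) := isZero_Q_loc_of_tors f Y hY
    haveI : IsIso (q ≫ e.hom) := (Triangle.isZero₃_iff_isIso₁ _ hT).1 hz
    have hq' : IsIso q := by
      have e1 : q = (q ≫ e.hom) ≫ e.inv := by simp
      rw [e1]
      infer_instance
    haveI := hq'
    infer_instance

/-- the source of an iterated fibre has torsion cohomology -/
theorem IterFib.tors (fs : List A) {F K : Dual.D A} (p : F ⟶ K) (h : IterFib fs F K p) :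
    ∀ g ∈ fs, Tors g F := by
  intro g hg
  let X := Q.objPreimage K
  let eK : Q.obj X ≅ K := Q.objObjPreimageIso K
  obtain ⟨e, -⟩ := IterFib.unique fs (Q.map (cechP X fs)) p eK (iterFib_cech X fs) h
  exact ((tors_Q_iff g _).2 (torsCx_cech X fs g hg)).of_iso e

theorem IterFib.append : ∀ (gs fs : List A) {F F' K : Dual.D A} (p₁ : F ⟶ F') (p₂ : F' ⟶ K),
    IterFib gs F F' p₁ → IterFib fs F' K p₂ → IterFib (gs ++ fs) F K (p₁ ≫ p₂)
  | [], fs, F, F', K, p₁, p₂, h₁, h₂ => by
    haveI : IsIso p₁ := h₁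
    have := IterFib.of_iso fs p₂ (asIso p₁) (Iso.refl K) h₂
    simpa using this
  | g :: gs, fs, F, F', K, p₁, p₂, h₁, h₂ => by
    obtain ⟨F'', q, p₁', h₁', hq, rfl⟩ := h₁
    exact ⟨F'', q, p₁' ≫ p₂, IterFib.append gs fs p₁' p₂ h₁' h₂, hq, by simp⟩

end Groth.Agent.Lib.LocFib
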