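import Mathlib
import Groth.Agent.Lib.RDerK_helper2

/-!
# Left Kan extensions along `Qh` are computed on K-injective complexes (helper2)

Version of `RDerK.isIso_unit_app_of_isKInjective` for functors defined on the homotopy category:
if every complex has a K-injective resolution, the unit of a left Kan extension along
`Qh : K(C) ⥤ D(C)` (for instance of a right derived functor with respect to quasi-isomorphisms)
is an isomorphism at K-injective complexes.
-/

set_option autoImplicit false
universe w v u
open CategoryTheory Category Limits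

namespace Groth.Agent.Lib.RDerKh

open DerivedCategory Groth.Agent.Lib.RDerK

variable {C : Type u} [Category.{v} C] [Abelian C] [HasDerivedCategory.{w} C]
  {H : Type*} [Category H]

variable (hres : ∀ X : CochainComplex C ℤ, ∃ (I : CochainComplex C ℤ) (a : X ⟶ I),
  I.IsKInjective ∧ QuasiIso a)

include hres in
/-- the unit of a left Kan extension along `Qh` is an isomorphism at K-injective complexes -/
theorem isIso_unit_app_of_isKInjective
    (Fh : HomotopyCategory C (ComplexShape.up ℤ) ⥤ H)
    (RF : DerivedCategory C ⥤ H) (α' : Fh ⟶ Qh ⋙ RF) [RF.IsLeftKanExtension α']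
    (J : CochainComplex C ℤ) [hJ : J.IsKInjective] :
    IsIso (α'.app ((HomotopyCategory.quotient C (ComplexShape.up ℤ)).obj J)) := by
  let ad := adj (Qh : HomotopyCategory C (ComplexShape.up ℤ) ⥤ DerivedCategory C) PK hbijK
    (hresK hres)
  haveI h2 := isLeftKanExtension_unitF ad Fh
  let d := RF.descOfIsLeftKanExtension α' _ (unitF ad Fh)
  let d' := (rightAdj Qh PK hbijK (hresK hres) ⋙ Fh).descOfIsLeftKanExtension (unitF ad Fh) RF α'
  have hd : α' ≫ Functor.whiskerLeft Qh d = unitF ad Fh :=
    RF.descOfIsLeftKanExtension_fac α' _ (unitF ad Fh)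
  have hd' : unitF ad Fh ≫ Functor.whiskerLeft Qh d' = α' :=
    (rightAdj Qh PK hbijK (hresK hres) ⋙ Fh).descOfIsLeftKanExtension_fac (unitF ad Fh) RF α'
  have hdd' : d ≫ d' = 𝟙 RF := by
    apply RF.hom_ext_of_isLeftKanExtension α'
    rw [Functor.whiskerLeft_comp, ← assoc, hd, hd', Functor.whiskerLeft_id', comp_id]
  have hd'd : d' ≫ d = 𝟙 _ := by
    apply (rightAdj Qh PK hbijK (hresK hres) ⋙ Fh).hom_ext_of_isLeftKanExtension (unitF ad Fh)
    rw [Functor.whiskerLeft_comp, ← assoc, hd', hd, Functor.whiskerLeft_id', comp_id]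
  let X₀ := (HomotopyCategory.quotient C (ComplexShape.up ℤ)).obj J
  haveI : IsIso (d.app (Qh.obj X₀)) := ⟨d'.app (Qh.obj X₀), by
    rw [← NatTrans.comp_app, hdd']; rfl, by rw [← NatTrans.comp_app, hd'd]; rfl⟩
  haveI : IsIso (ad.unit.app X₀) := isIso_unit_of_P Qh PK hbijK (hresK hres) X₀ hJ
  have e1 : α'.app X₀ ≫ d.app (Qh.obj X₀) = Fh.map (ad.unit.app X₀) := by
    have := congrArg (fun t => t.app X₀) hd
    simpa using this
  haveI e4 : IsIso (α'.app X₀ ≫ d.app (Qh.obj X₀)) := by
    rw [e1]
    exact Functor.map_isIso Fh (ad.unit.app X₀)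
  exact IsIso.of_isIso_comp_right (α'.app X₀) (d.app (Qh.obj X₀))

include hres in
/-- the unit of a right derived functor (with respect to quasi-isomorphisms in the homotopy
category) is an isomorphism at K-injective complexes -/
theorem isIso_unit_app_of_isRightDerivedFunctor
    (Fh : HomotopyCategory C (ComplexShape.up ℤ) ⥤ H)
    (RF : DerivedCategory C ⥤ H) (α' : Fh ⟶ Qh ⋙ RF)
    [RF.IsRightDerivedFunctor α' (HomotopyCategory.quasiIso C (ComplexShape.up ℤ))]
    (J : CochainComplex C ℤ) [hJ : J.IsKInjective] :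
    IsIso (α'.app ((HomotopyCategory.quotient C (ComplexShape.up ℤ)).obj J)) := by
  haveI : RF.IsLeftKanExtension α' :=
    Functor.IsRightDerivedFunctor.isLeftKanExtension RF α'
      (HomotopyCategory.quasiIso C (ComplexShape.up ℤ))
  exact isIso_unit_app_of_isKInjective hres Fh RF α' J

end Groth.Agent.Lib.RDerKh
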