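import Mathlib
import Groth.Prelude.Def_DRing3
import Groth.Agent.Lib.RDerKh_helper2
import Groth.Agent.Lib.KInjRes_helper2
import Groth.Agent.Lib.LocHom_helper2

/-!
# `RΓ_I` is computed on K-injective complexes (helper2)

* `mulCx f X`: multiplication by `f` on a complex.
* `isIso_η`: the unit `Q Γ_I(J) ⟶ RΓ_I(Q J)` is an isomorphism for `J` K-injective.
* `RgammaIKInjIso`, `RgammaIKInjIso_naturality`: `RΓ_I(Q J) ≅ Q(Γ_I J)` naturally in `J` K-injective.
* `isZero_homology_of_quasiIso_mulCx`: a complex on which `f` acts by a quasi-isomorphism and all of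
  whose elements are `f`-power torsion is acyclic.
* `isZero_RgammaI_of_smul_bijective`: `RΓ_I(K) = 0` if some `f ∈ I` acts bijectively on the terms of
  `K`.
-/

set_option autoImplicit false
universe u
open CategoryTheory Limits

namespace Groth.Agent.Lib.RGamma

open DerivedCategory
attribute [local instance] HasDerivedCategory.standard

variable {A : Type u} [CommRing A]

section Mul

/-- multiplication by `f` on a complex -/
noncomputable def mulCx (f : A) (X : DRing.Cx A) : X ⟶ X where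
  f n := ModuleCat.ofHom (LinearMap.lsmul A (X.X n) f)
  comm' := by
    intro i j _
    ext x
    exact ((X.d i j).hom.map_smul f x)

lemma mulCx_f_apply (f : A) (X : DRing.Cx A) (n : ℤ) (x : X.X n) :
    ((mulCx f X).f n).hom x = f • x := rfl

lemma mulCx_comm (f : A) {X Y : DRing.Cx A} (a : X ⟶ Y) : a ≫ mulCx f Y = mulCx f X ≫ a := by
  ext n x
  exact ((a.f n).hom.map_smul f x).symm

lemma isIso_mulCx (f : A) (X : DRing.Cx A)
    (h : ∀ n, Function.Bijective (fun x : X.X n => f • x)) : IsIso (mulCx f X) := by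
  haveI : ∀ n, IsIso ((mulCx f X).f n) := fun n =>
    (ConcreteCategory.isIso_iff_bijective _).2 (h n)
  exact HomologicalComplex.Hom.isIso_of_components _

/-- a complex on which `f` acts by a quasi-isomorphism and all of whose elements are `f`-power
torsion is acyclic -/
theorem isZero_homology_of_quasiIso_mulCx (f : A) (G : DRing.Cx A)
    (htors : ∀ (n : ℤ) (x : G.X n), ∃ k : ℕ, f ^ k • x = 0) (hq : QuasiIso (mulCx f G)) (n : ℤ) :
    IsZero (G.homology n) := by
  let h := HomologicalComplex.homologyMap (mulCx f G) n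
  haveI : IsIso h := inferInstance
  have hπ : Function.Surjective (G.homologyπ n).hom :=
    (ModuleCat.epi_iff_surjective _).1 inferInstance
  have hι : Function.Injective (G.iCycles n).hom :=
    (ModuleCat.mono_iff_injective _).1 inferInstance
  have hinj : Function.Injective h.hom := (ModuleCat.mono_iff_injective _).1 inferInstance
  have hcyc : ∀ z : G.cycles n, (HomologicalComplex.cyclesMap (mulCx f G) n).hom z = f • z := by
    intro z
    apply hι
    have e := congrArg (fun t => t.hom z) (HomologicalComplex.cyclesMap_i (mulCx f G) n)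
    refine e.trans ?_
    show f • (G.iCycles n).hom z = (G.iCycles n).hom (f • z)
    exact ((G.iCycles n).hom.map_smul f z).symm
  have hh : ∀ x : G.homology n, h.hom x = f • x := by
    intro x
    obtain ⟨z, rfl⟩ := hπ x
    have e := congrArg (fun t => t.hom z) (HomologicalComplex.homologyπ_naturality (mulCx f G) n)
    refine e.trans ?_
    show (G.homologyπ n).hom ((HomologicalComplex.cyclesMap (mulCx f G) n).hom z) = _
    rw [hcyc]
    exact (G.homologyπ n).hom.map_smul f z
  have hpow : ∀ (k : ℕ) (x : G.homology n), f ^ k • x = 0 → x = 0 := by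
    intro k
    induction k with
    | zero => intro x hx; rwa [pow_zero, one_smul] at hx
    | succ k ih =>
      intro x hx
      rw [pow_succ, mul_smul] at hx
      have h1 : f • x = 0 := ih _ hx
      apply hinj
      rw [hh, h1, map_zero]
  haveI : Subsingleton (G.homology n) := by
    refine subsingleton_of_forall_eq 0 (fun x => ?_)
    obtain ⟨z, rfl⟩ := hπ x
    obtain ⟨k, hk⟩ := htors n ((G.iCycles n).hom z)
    have hz : f ^ k • z = 0 := by
      apply hι
      rw [map_smul, hk, map_zero]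
    apply hpow k
    rw [← map_smul, hz, map_zero]
  exact ModuleCat.isZero_of_subsingleton _

end Mul

section Gamma

variable (I : Ideal A)

/-- `Γ_I` on complexes -/
noncomputable abbrev ΓC : DRing.Cx A ⥤ DRing.Cx A :=
  (DRing.gammaI I).mapHomologicalComplex (ComplexShape.up ℤ)

lemma ΓC_map_mulCx (f : A) (X : DRing.Cx A) :
    (ΓC I).map (mulCx f X) = mulCx f ((ΓC I).obj X) := by
  ext n x
  rfl

lemma ΓC_torsion {f : A} (hf : f ∈ I) (X : DRing.Cx A) (n : ℤ) (x : ((ΓC I).obj X).X n) :
    ∃ k : ℕ, f ^ k • x = 0 := by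
  obtain ⟨x', k, hk⟩ := x
  exact ⟨k, Subtype.ext (hk _ (Ideal.pow_mem_pow hf k))⟩

variable [DRing.HasRgammaI I]

/-- the unit of `RΓ_I` -/
noncomputable abbrev η : DRing.gammaIKh I ⟶ Qh ⋙ DRing.RgammaI I :=
  (DRing.gammaIKh I).totalRightDerivedUnit Qh
    (HomotopyCategory.quasiIso (ModuleCat.{u} A) (ComplexShape.up ℤ))

/-- the unit of `RΓ_I` is an isomorphism at K-injective complexes -/
theorem isIso_η (J : DRing.Cx A) [J.IsKInjective] :
    IsIso ((η I).app ((HomotopyCategory.quotient (ModuleCat.{u} A) (ComplexShape.up ℤ)).obj J)) :=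
  Groth.Agent.Lib.RDerKh.isIso_unit_app_of_isRightDerivedFunctor
    (fun X => Groth.Agent.Lib.KInjRes.exists_kinj_resolution X) (DRing.gammaIKh I)
    (DRing.RgammaI I) (η I) J

/-- `gammaIKh` on the image of a complex -/
noncomputable def gammaIKhObjIso (J : DRing.Cx A) :
    (DRing.gammaIKh I).obj ((HomotopyCategory.quotient (ModuleCat.{u} A) (ComplexShape.up ℤ)).obj J) ≅
      Q.obj ((ΓC I).obj J) :=
  (quotientCompQhIso (ModuleCat.{u} A)).app ((ΓC I).obj J)

lemma gammaIKhObjIso_naturality {J J' : DRing.Cx A} (φ : J ⟶ J') :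
    (DRing.gammaIKh I).map ((HomotopyCategory.quotient _ _).map φ) ≫ (gammaIKhObjIso I J').hom =
      (gammaIKhObjIso I J).hom ≫ Q.map ((ΓC I).map φ) :=
  quotientCompQhIso_hom_naturality ((ΓC I).map φ)

/-- `RΓ_I(Q J) ≅ Q(Γ_I J)` for `J` K-injective -/
noncomputable def RgammaIKInjIso (J : DRing.Cx A) [J.IsKInjective] :
    (DRing.RgammaI I).obj (Q.obj J) ≅ Q.obj ((ΓC I).obj J) :=
  haveI := isIso_η I J
  (DRing.RgammaI I).mapIso ((quotientCompQhIso (ModuleCat.{u} A)).app J).symm ≪≫
    (asIso ((η I).app ((HomotopyCategory.quotient _ _).obj J))).symm ≪≫ gammaIKhObjIso I J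

lemma RgammaIKInjIso_naturality {J J' : DRing.Cx A} [J.IsKInjective] [J'.IsKInjective]
    (φ : J ⟶ J') :
    (DRing.RgammaI I).map (Q.map φ) ≫ (RgammaIKInjIso I J').hom =
      (RgammaIKInjIso I J).hom ≫ Q.map ((ΓC I).map φ) := by
  haveI := isIso_η I J
  haveI := isIso_η I J'
  have e1 : (DRing.RgammaI I).map (Q.map φ) ≫
      (DRing.RgammaI I).map ((quotientCompQhIso (ModuleCat.{u} A)).inv.app J') =
      (DRing.RgammaI I).map ((quotientCompQhIso (ModuleCat.{u} A)).inv.app J) ≫
        (DRing.RgammaI I).map (Qh.map ((HomotopyCategory.quotient _ _).map φ)) := by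
    rw [← CategoryTheory.Functor.map_comp, ← CategoryTheory.Functor.map_comp,
      quotientCompQhIso_inv_naturality]
  have e2 : (DRing.RgammaI I).map (Qh.map ((HomotopyCategory.quotient _ _).map φ)) ≫
      inv ((η I).app ((HomotopyCategory.quotient _ _).obj J')) =
      inv ((η I).app ((HomotopyCategory.quotient _ _).obj J)) ≫
        (DRing.gammaIKh I).map ((HomotopyCategory.quotient _ _).map φ) := by
    rw [IsIso.comp_inv_eq, Category.assoc, IsIso.eq_inv_comp]
    exact ((η I).naturality ((HomotopyCategory.quotient _ _).map φ)).symm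
  let R := DRing.RgammaI I
  let qJ := (quotientCompQhIso (ModuleCat.{u} A)).inv.app J
  let qJ' := (quotientCompQhIso (ModuleCat.{u} A)).inv.app J'
  let ηJ := (η I).app ((HomotopyCategory.quotient (ModuleCat.{u} A) (ComplexShape.up ℤ)).obj J)
  let ηJ' := (η I).app ((HomotopyCategory.quotient (ModuleCat.{u} A) (ComplexShape.up ℤ)).obj J')
  let qφ := (HomotopyCategory.quotient (ModuleCat.{u} A) (ComplexShape.up ℤ)).map φ
  have e1' : R.map (Q.map φ) ≫ R.map qJ' = R.map qJ ≫ R.map (Qh.map qφ) := e1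
  have e2' : R.map (Qh.map qφ) ≫ inv ηJ' = inv ηJ ≫ (DRing.gammaIKh I).map qφ := e2
  have e3' : (DRing.gammaIKh I).map qφ ≫ (gammaIKhObjIso I J').hom =
      (gammaIKhObjIso I J).hom ≫ Q.map ((ΓC I).map φ) := gammaIKhObjIso_naturality I φ
  show R.map (Q.map φ) ≫ (R.map qJ' ≫ inv ηJ' ≫ (gammaIKhObjIso I J').hom) =
    (R.map qJ ≫ inv ηJ ≫ (gammaIKhObjIso I J).hom) ≫ Q.map ((ΓC I).map φ)
  calc R.map (Q.map φ) ≫ (R.map qJ' ≫ inv ηJ' ≫ (gammaIKhObjIso I J').hom)
      = (R.map (Q.map φ) ≫ R.map qJ') ≫ inv ηJ' ≫ (gammaIKhObjIso I J').hom := by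
        simp only [Category.assoc]
    _ = (R.map qJ ≫ R.map (Qh.map qφ)) ≫ inv ηJ' ≫ (gammaIKhObjIso I J').hom := by rw [e1']
    _ = R.map qJ ≫ (R.map (Qh.map qφ) ≫ inv ηJ') ≫ (gammaIKhObjIso I J').hom := by
        simp only [Category.assoc]
    _ = R.map qJ ≫ (inv ηJ ≫ (DRing.gammaIKh I).map qφ) ≫ (gammaIKhObjIso I J').hom := by rw [e2']
    _ = R.map qJ ≫ inv ηJ ≫ ((DRing.gammaIKh I).map qφ ≫ (gammaIKhObjIso I J').hom) := by
        simp only [Category.assoc]
    _ = R.map qJ ≫ inv ηJ ≫ ((gammaIKhObjIso I J).hom ≫ Q.map ((ΓC I).map φ)) := by rw [e3']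
    _ = (R.map qJ ≫ inv ηJ ≫ (gammaIKhObjIso I J).hom) ≫ Q.map ((ΓC I).map φ) := by
        simp only [Category.assoc]

/-- **`RΓ_I(K) = 0` if some `f ∈ I` acts bijectively on the terms of `K`** -/
theorem isZero_RgammaI_of_smul_bijective (K : DRing.Cx A) (f : A) (hf : f ∈ I)
    (hK : ∀ n : ℤ, Function.Bijective (fun x : K.X n => f • x)) :
    IsZero ((DRing.RgammaI I).obj (Q.obj K)) := by
  obtain ⟨J, a, hJ, ha⟩ := Groth.Agent.Lib.KInjRes.exists_kinj_resolution K
  haveI := hJ
  haveI := ha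
  haveI h1 : IsIso (mulCx f K) := isIso_mulCx f K hK
  haveI : IsIso (Q.map a) := (isIso_Q_map_iff_quasiIso (C := ModuleCat.{u} A) a).2 ha
  have hQm : IsIso (Q.map (mulCx f J)) := by
    have e : Q.map (mulCx f J) = inv (Q.map a) ≫ Q.map (mulCx f K) ≫ Q.map a := by
      rw [IsIso.eq_inv_comp, ← CategoryTheory.Functor.map_comp, ← CategoryTheory.Functor.map_comp,
        mulCx_comm]
    rw [e]
    infer_instance
  have hΓm : IsIso (Q.map ((ΓC I).map (mulCx f J))) := by
    have e := RgammaIKInjIso_naturality I (mulCx f J)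
    have e' : Q.map ((ΓC I).map (mulCx f J)) = (RgammaIKInjIso I J).inv ≫
        (DRing.RgammaI I).map (Q.map (mulCx f J)) ≫ (RgammaIKInjIso I J).hom := by
      rw [e, Iso.inv_hom_id_assoc]
    rw [e']
    infer_instance
  have hq : QuasiIso (mulCx f ((ΓC I).obj J)) := by
    rw [← ΓC_map_mulCx]
    exact (isIso_Q_map_iff_quasiIso (C := ModuleCat.{u} A) _).1 hΓm
  have hac : ((ΓC I).obj J).Acyclic := fun n =>
    (HomologicalComplex.exactAt_iff_isZero_homology _ _).2
      (isZero_homology_of_quasiIso_mulCx f _ (fun n x => ΓC_torsion I hf J n x) hq n)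
  have hz : IsZero (Q.obj ((ΓC I).obj J)) :=
    Groth.Agent.Lib.LocHom.isZero_Q_obj_of_acyclic _ hac
  exact (hz.of_iso (RgammaIKInjIso I J)).of_iso ((DRing.RgammaI I).mapIso (asIso (Q.map a)))

end Gamma

end Groth.Agent.Lib.RGamma
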