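import Mathlib
import Groth.Agent.Lib.LocFib2_helper2
import Groth.Agent.Lib.RGamma1_helper2
import Groth.Agent.Lib.KInjResInj_helper2

/-!
# `RΓ_I K ⟶ K` is an iterated fibre of localizations (Noetherian rings) (helper2)

For a Noetherian ring `A`, a list `fs` generating the ideal `I` and a complex `X` of injective modules,
the sequences `0 → Γ_{(f) + I'}(X) → Γ_{I'}(X) → Γ_{I'}(X)_f → 0` are exact; hence `Q Γ_I(X) ⟶ Q X` is an
iterated fibre of localizations (`iterFib_Γ`).  Computing `RΓ_I` on a K-injective resolution with injective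
terms, the canonical map `RΓ_I K ⟶ K` is an iterated fibre (`iterFib_RgammaIε`).
-/

set_option autoImplicit false
universe u
open CategoryTheory CategoryTheory.Limits CategoryTheory.Pretriangulated DerivedCategory

attribute [local instance] HasDerivedCategory.standard

namespace Groth.Agent.Lib.LocFib

open Groth.Agent.Lib.DerCompl Groth.Agent.Lib.ExtCechH7 Groth.Agent.Lib.RGamma

variable {A : Type u} [CommRing A]

/-! ### `Γ_I` on complexes -/

/-- the inclusion `Γ_I X ⟶ X` -/
noncomputable def ΓCι (I : Ideal A) (X : DRing.Cx A) : (ΓC I).obj X ⟶ X where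
  f n := (DRing.gammaIι I).app (X.X n)
  comm' i j _ := ((DRing.gammaIι I).naturality (X.d i j)).symm

lemma torsionSub_le {I' I : Ideal A} (h : I' ≤ I) (M : Type u) [AddCommGroup M] [Module A M] :
    DRing.torsionSub I M ≤ DRing.torsionSub I' M := by
  rintro m ⟨n, hn⟩
  exact ⟨n, fun a ha => hn a (Ideal.pow_right_mono h n ha)⟩

/-- `Γ_I ⟶ Γ_{I'}` for `I' ≤ I` -/
noncomputable def gammaLE {I' I : Ideal A} (h : I' ≤ I) : DRing.gammaI I ⟶ DRing.gammaI I' where
  app M := ModuleCat.ofHom (Submodule.inclusion (torsionSub_le h M))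
  naturality _ _ _ := rfl

/-- `Γ_I X ⟶ Γ_{I'} X` for `I' ≤ I` -/
noncomputable def ΓCle {I' I : Ideal A} (h : I' ≤ I) (X : DRing.Cx A) :
    (ΓC I).obj X ⟶ (ΓC I').obj X :=
  (NatTrans.mapHomologicalComplex (gammaLE h) (ComplexShape.up ℤ)).app X

lemma ΓCle_ι {I' I : Ideal A} (h : I' ≤ I) (X : DRing.Cx A) :
    ΓCle h X ≫ ΓCι I' X = ΓCι I X := by
  refine HomologicalComplex.hom_ext _ _ fun n => ?_
  rfl

lemma mem_torsionSub_of {f : A} {I' I : Ideal A} (hI : I ≤ Ideal.span {f} ⊔ I')
    {M : Type u} [AddCommGroup M] [Module A M] (m : M) (hm : m ∈ DRing.torsionSub I' M)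
    (k : ℕ) (hk : f ^ k • m = 0) : m ∈ DRing.torsionSub I M := by
  obtain ⟨a, ha⟩ := hm
  refine ⟨k + a, fun x hx => ?_⟩
  have h1 : x ∈ Ideal.span {f} ^ k ⊔ I' ^ a :=
    Ideal.sup_pow_add_le_pow_sup_pow (Ideal.pow_right_mono hI (k + a) hx)
  obtain ⟨b, hb, c, hc, rfl⟩ := Submodule.mem_sup.1 h1
  rw [Ideal.span_singleton_pow, Ideal.mem_span_singleton'] at hb
  obtain ⟨r, rfl⟩ := hb
  rw [add_smul, mul_smul, hk, smul_zero, zero_add, ha c hc]

section SES

variable (f : A) {I' I : Ideal A} (hle : I' ≤ I) (X : DRing.Cx A)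

lemma ΓCle_comp_ηf (hf : f ∈ I) : ΓCle hle X ≫ ηf f ((ΓC I').obj X) = 0 := by
  refine HomologicalComplex.hom_ext _ _ fun n => ModuleCat.hom_ext (LinearMap.ext ?_)
  rintro ⟨m, k, hk⟩
  show LocalizedModule.mkLinearMap (Submonoid.powers f) (DRing.torsionSub I' (X.X n))
    (Submodule.inclusion (torsionSub_le hle (X.X n)) ⟨m, k, hk⟩) = 0
  rw [IsLocalizedModule.eq_zero_iff (Submonoid.powers f)]
  refine ⟨⟨f ^ k, k, rfl⟩, ?_⟩
  exact Subtype.ext (hk _ (Ideal.pow_mem_pow hf k))

/-- the short complex `Γ_I X ⟶ Γ_{I'} X ⟶ (Γ_{I'} X)_f` -/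
noncomputable def sesΓ (hf : f ∈ I) : ShortComplex (DRing.Cx A) :=
  ShortComplex.mk (ΓCle hle X) (ηf f ((ΓC I').obj X)) (ΓCle_comp_ηf f hle X hf)

variable [IsNoetherianRing A]

lemma injective_torsionSub (J : Ideal A) (M : Type u) [AddCommGroup M] [Module A M]
    (hM : Module.Injective A M) : Module.Injective A (DRing.torsionSub J M) := by
  have h : Groth.Agent.Lib.InjHull_helper3.Γ J M = DRing.torsionSub J M :=
    Submodule.ext fun x => Groth.Agent.Lib.InjHull_helper3.mem_Γ_iff J x
  rw [← h]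
  exact Groth.Agent.Lib.InjHull_helper3.injective_Γ hM J

theorem sesΓ_shortExact (hf : f ∈ I) (hI : I ≤ Ideal.span {f} ⊔ I')
    (hX : ∀ n, Module.Injective A (X.X n)) : (sesΓ f hle X hf).ShortExact := by
  apply HomologicalComplex.shortExact_of_degreewise_shortExact
  intro n
  apply ModuleCat.shortComplex_shortExact
  · intro (y : DRing.torsionSub I' (X.X n))
    constructor
    · intro hy
      have hy' : LocalizedModule.mkLinearMap (Submonoid.powers f)
          (DRing.torsionSub I' (X.X n)) y = 0 := hy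
      rw [IsLocalizedModule.eq_zero_iff (Submonoid.powers f)] at hy'
      obtain ⟨⟨_, k, rfl⟩, hk⟩ := hy'
      have hk' : f ^ k • (y : X.X n) = 0 := congrArg Subtype.val hk
      exact ⟨⟨y.1, mem_torsionSub_of hI y.1 y.2 k hk'⟩, Subtype.ext rfl⟩
    · rintro ⟨x, rfl⟩
      exact congrArg (fun t => (t.f n).hom x) (ΓCle_comp_ηf f hle X hf)
  · intro x x' h
    have h' : Submodule.inclusion (torsionSub_le hle (X.X n)) x =
        Submodule.inclusion (torsionSub_le hle (X.X n)) x' := h
    exact Submodule.inclusion_injective _ h'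
  · exact surjective_of_injective_module f (injective_torsionSub I' (X.X n) (hX n))
      (LocalizedModule.mkLinearMap (Submonoid.powers f) (DRing.torsionSub I' (X.X n)))

theorem fib_Γ (hf : f ∈ I) (hI : I ≤ Ideal.span {f} ⊔ I')
    (hX : ∀ n, Module.Injective A (X.X n)) : Fib f (Q.map (ΓCle hle X)) := by
  have hS := sesΓ_shortExact f hle X hf hI hX
  refine ⟨(ΓC I').obj X, Iso.refl _, triangleOfSESδ hS, ?_⟩
  rw [Iso.refl_hom, Category.comp_id]
  exact triangleOfSES_distinguished hS

end SES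

lemma isIso_ΓCι_nil (X : DRing.Cx A) :
    IsIso (ΓCι (Ideal.span {x : A | x ∈ ([] : List A)}) X) := by
  haveI : ∀ n, IsIso ((ΓCι (Ideal.span {x : A | x ∈ ([] : List A)}) X).f n) := by
    intro n
    apply (ConcreteCategory.isIso_iff_bijective _).2
    constructor
    · intro x x' h
      exact Subtype.ext h
    · intro m
      refine ⟨⟨m, 1, fun a ha => ?_⟩, rfl⟩
      have ha' : a = 0 := by
        simpa using ha
      rw [ha', zero_smul]
  exact HomologicalComplex.Hom.isIso_of_components _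

/-- `Q Γ_I(X) ⟶ Q X` is an iterated fibre, for `X` a complex of injective modules -/
theorem iterFib_Γ [IsNoetherianRing A] : ∀ (fs : List A) (X : DRing.Cx A)
    (_ : ∀ n, Module.Injective A (X.X n)),
    IterFib fs (Q.obj ((ΓC (Ideal.span {x : A | x ∈ fs})).obj X)) (Q.obj X)
      (Q.map (ΓCι (Ideal.span {x : A | x ∈ fs}) X))
  | [], X, _ => by
    haveI := isIso_ΓCι_nil X
    show IsIso (Q.map (ΓCι (Ideal.span {x : A | x ∈ ([] : List A)}) X))
    infer_instance
  | f :: fs, X, hX => by
    have hle : Ideal.span {x : A | x ∈ fs} ≤ Ideal.span {x : A | x ∈ f :: fs} :=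
      Ideal.span_mono (fun x hx => List.mem_cons_of_mem _ hx)
    have hf : f ∈ Ideal.span {x : A | x ∈ f :: fs} := Ideal.subset_span (List.mem_cons_self)
    have hI : Ideal.span {x : A | x ∈ f :: fs} ≤ Ideal.span {f} ⊔ Ideal.span {x : A | x ∈ fs} := by
      rw [Ideal.span_le]
      intro x hx
      rcases List.mem_cons.1 hx with rfl | hx'
      · exact Ideal.mem_sup_left (Ideal.subset_span rfl)
      · exact Ideal.mem_sup_right (Ideal.subset_span hx')
    exact ⟨Q.obj ((ΓC (Ideal.span {x : A | x ∈ fs})).obj X), Q.map (ΓCle hle X),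
      Q.map (ΓCι (Ideal.span {x : A | x ∈ fs}) X), iterFib_Γ fs X hX,
      fib_Γ f hle X hf hI hX, by rw [← Q.map_comp, ΓCle_ι]⟩

/-! ### The canonical map `RΓ_I K ⟶ K` -/

section Eps

variable (I : Ideal A) [DRing.HasRgammaI I]

lemma gammaIτ_app_quotient (J : DRing.Cx A) :
    (DRing.gammaIτ I).app ((HomotopyCategory.quotient (ModuleCat.{u} A) (ComplexShape.up ℤ)).obj J) =
      Qh.map ((HomotopyCategory.quotient _ _).map (ΓCι I J)) := by
  show (DRing.gammaIτ0 I).app J = _
  dsimp only [DRing.gammaIτ0]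
  simp only [NatTrans.comp_app, Functor.associator_inv_app, Functor.associator_hom_app,
    Functor.whiskerRight_app, Functor.leftUnitor_hom_app, Category.id_comp, Category.comp_id]
  have h1 : Qh.map (((DRing.gammaI I).mapHomotopyCategoryFactors (ComplexShape.up ℤ)).hom.app J) =
      𝟙 _ := by
    have h0 : ((DRing.gammaI I).mapHomotopyCategoryFactors (ComplexShape.up ℤ)).hom.app J = 𝟙 _ := by
      apply CategoryTheory.Quotient.lift.isLift_hom
    rw [h0]
    exact Qh.map_id _
  have key : (NatTrans.mapHomologicalComplex (DRing.gammaIι I) (ComplexShape.up ℤ)).app J ≫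
      (Functor.mapHomologicalComplexIdIso (ModuleCat.{u} A) (ComplexShape.up ℤ)).hom.app J =
      ΓCι I J := by
    refine HomologicalComplex.hom_ext _ _ fun n => ?_
    simp only [ΓCι, Functor.mapHomologicalComplexIdIso, HomologicalComplex.comp_f,
      NatTrans.mapHomologicalComplex_app_f, NatIso.ofComponents_hom_app,
      HomologicalComplex.Hom.isoOfComponents_hom_f, Iso.refl_hom]
    exact Category.comp_id _
  rw [h1]
  erw [Category.id_comp, Category.comp_id]
  rw [← CategoryTheory.Functor.map_comp, key]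
  rfl

/-- the canonical map `RΓ_I(Q J) ⟶ Q J` for `J` K-injective -/
theorem RgammaIε_app_Q (J : DRing.Cx A) [J.IsKInjective] :
    (DRing.RgammaIε I).app (Q.obj J) = (RgammaIKInjIso I J).hom ≫ Q.map (ΓCι I J) := by
  haveI := isIso_η I J
  have hfac : (η I).app ((HomotopyCategory.quotient (ModuleCat.{u} A) (ComplexShape.up ℤ)).obj J) ≫
      (DRing.RgammaIε I).app
        (Qh.obj ((HomotopyCategory.quotient (ModuleCat.{u} A) (ComplexShape.up ℤ)).obj J)) =
      Qh.map ((HomotopyCategory.quotient _ _).map (ΓCι I J)) := by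
    have h := Functor.rightDerived_fac_app (DRing.RgammaI I) (η I)
      (HomotopyCategory.quasiIso (ModuleCat.{u} A) (ComplexShape.up ℤ)) (𝟭 (Dual.D A))
      (DRing.gammaIτ I ≫ (Functor.rightUnitor _).inv)
      ((HomotopyCategory.quotient (ModuleCat.{u} A) (ComplexShape.up ℤ)).obj J)
    rw [NatTrans.comp_app, Functor.rightUnitor_inv_app, gammaIτ_app_quotient] at h
    exact h.trans (Category.comp_id _)
  have hnat : (DRing.RgammaI I).map ((quotientCompQhIso (ModuleCat.{u} A)).hom.app J) ≫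
      (DRing.RgammaIε I).app (Q.obj J) =
      (DRing.RgammaIε I).app
        (Qh.obj ((HomotopyCategory.quotient (ModuleCat.{u} A) (ComplexShape.up ℤ)).obj J)) ≫
        (quotientCompQhIso (ModuleCat.{u} A)).hom.app J :=
    (DRing.RgammaIε I).naturality ((quotientCompQhIso (ModuleCat.{u} A)).hom.app J)
  have h2 : (DRing.RgammaIε I).app (Q.obj J) =
      (DRing.RgammaI I).map ((quotientCompQhIso (ModuleCat.{u} A)).inv.app J) ≫
        (DRing.RgammaIε I).app
          (Qh.obj ((HomotopyCategory.quotient (ModuleCat.{u} A) (ComplexShape.up ℤ)).obj J)) ≫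
        (quotientCompQhIso (ModuleCat.{u} A)).hom.app J := by
    rw [← hnat, ← Category.assoc, ← CategoryTheory.Functor.map_comp, Iso.inv_hom_id_app,
      CategoryTheory.Functor.map_id, Category.id_comp]
  have h3 : (DRing.RgammaIε I).app
      (Qh.obj ((HomotopyCategory.quotient (ModuleCat.{u} A) (ComplexShape.up ℤ)).obj J)) =
      inv ((η I).app ((HomotopyCategory.quotient (ModuleCat.{u} A) (ComplexShape.up ℤ)).obj J)) ≫
        Qh.map ((HomotopyCategory.quotient _ _).map (ΓCι I J)) := by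
    rw [IsIso.eq_inv_comp]
    exact hfac
  rw [h2, h3]
  simp only [RgammaIKInjIso, Iso.trans_hom, Functor.mapIso_hom, Iso.symm_hom, Iso.app_inv,
    asIso_inv, Category.assoc, gammaIKhObjIso, Iso.app_hom]
  erw [quotientCompQhIso_hom_naturality]

end Eps

/-- **The canonical map `RΓ_I K ⟶ K` is an iterated fibre of localizations.** -/
theorem iterFib_RgammaIε [IsNoetherianRing A] (fs : List A)
    [DRing.HasRgammaI (Ideal.span {x : A | x ∈ fs})] (K : Dual.D A) :
    IterFib fs _ _ ((DRing.RgammaIε (Ideal.span {x : A | x ∈ fs})).app K) := by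
  let X := Q.objPreimage K
  let eK : Q.obj X ≅ K := Q.objObjPreimageIso K
  obtain ⟨J, a, hJ, ha, hinj⟩ := Groth.Agent.Lib.KInjRes.exists_kinj_resolution_inj X
  haveI := hJ
  haveI : IsIso (Q.map a) := (isIso_Q_map_iff_quasiIso (C := ModuleCat.{u} A) a).2 ha
  let e : K ≅ Q.obj J := eK.symm ≪≫ asIso (Q.map a)
  have hinj' : ∀ n, Module.Injective A (J.X n) := fun n => by
    haveI := hinj n
    exact Module.injective_module_of_injective_object A (J.X n)
  have h1 := iterFib_Γ fs J hinj'
  have h2 := IterFib.of_iso fs _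
    ((DRing.RgammaI (Ideal.span {x : A | x ∈ fs})).mapIso e ≪≫
      RgammaIKInjIso (Ideal.span {x : A | x ∈ fs}) J) e.symm h1
  have h3 : (DRing.RgammaIε (Ideal.span {x : A | x ∈ fs})).app K =
      ((DRing.RgammaI (Ideal.span {x : A | x ∈ fs})).mapIso e ≪≫
        RgammaIKInjIso (Ideal.span {x : A | x ∈ fs}) J).hom ≫
        Q.map (ΓCι (Ideal.span {x : A | x ∈ fs}) J) ≫ e.symm.hom := by
    have hnat := (DRing.RgammaIε (Ideal.span {x : A | x ∈ fs})).naturality e.hom
    have hnat' : (DRing.RgammaI (Ideal.span {x : A | x ∈ fs})).map e.hom ≫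
        (DRing.RgammaIε (Ideal.span {x : A | x ∈ fs})).app (Q.obj J) =
        (DRing.RgammaIε (Ideal.span {x : A | x ∈ fs})).app K ≫ e.hom := hnat
    rw [Iso.trans_hom, Functor.mapIso_hom, Category.assoc, ← Category.assoc (RgammaIKInjIso _ J).hom,
      ← RgammaIε_app_Q, ← Category.assoc, hnat', Category.assoc, Iso.symm_hom, Iso.hom_inv_id,
      Category.comp_id]
  rw [h3]
  exact h2

end Groth.Agent.Lib.LocFib
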