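import Mathlib
import Groth.Prelude.Def_DualLC
import Groth.Prelude.Def_DRing3
import Groth.Agent.Lib.LocFib3_helper2
import Groth.Agent.Lib.DMod114_helper6
import Groth.Agent.Lib.InjAmp_helper9
import Groth.Agent.Lib.HomologyColim_helper5

/-!
# `H^0(Γ_I J) = colim_n Hom_{D(A)}(A/I^n, J)` for a K-injective complex `J` (helper2)

For any commutative ring `A`, any ideal `I` and any K-injective complex `J`, the degree `0` cohomology of the
complex of `I`-power torsion elements of `J` is the colimit over `n` of `Hom_{D(A)}(A/I^n[0], J)`.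
-/

set_option autoImplicit false
universe u
open CategoryTheory CategoryTheory.Limits DerivedCategory Opposite

attribute [local instance] HasDerivedCategory.standard

namespace Groth.Agent.Lib.HDIColim

open Groth.Agent.Lib.RGamma Groth.Agent.HomologyColim

variable {A : Type u} [CommRing A] (I : Ideal A) (J : DRing.Cx A)

/-- `A/I^n` in degree 0 -/
noncomputable abbrev Sx (n : ℕ) : DRing.Cx A :=
  (HomologicalComplex.single (ModuleCat.{u} A) (ComplexShape.up ℤ) 0).obj
    (ModuleCat.of A (A ⧸ I ^ n))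

/-- cycles of degree `0` killed by `I ^ n` -/
def P (n : ℕ) : Submodule A (J.X 0) where
  carrier := {x | (J.d 0 1).hom x = 0 ∧ ∀ a ∈ I ^ n, a • x = 0}
  zero_mem' := ⟨map_zero _, fun a _ => smul_zero a⟩
  add_mem' := by
    rintro x y ⟨hx, hx'⟩ ⟨hy, hy'⟩
    exact ⟨by rw [map_add, hx, hy, add_zero],
      fun a ha => by rw [smul_add, hx' a ha, hy' a ha, add_zero]⟩
  smul_mem' := by
    rintro c x ⟨hx, hx'⟩
    exact ⟨by rw [map_smul, hx, smul_zero], fun a ha => by rw [smul_comm, hx' a ha, smul_zero]⟩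

lemma P_mono {n n' : ℕ} (h : n ≤ n') : P I J n ≤ P I J n' :=
  fun _ hx => ⟨hx.1, fun a ha => hx.2 a (Ideal.pow_le_pow_right h ha)⟩

section Lin

variable {M : Type u} [AddCommGroup M] [Module A M]

/-- `A/I^n → M`, `1 ↦ x`, for `x` killed by `I^n` -/
noncomputable def lin (n : ℕ) (x : M) (hx : ∀ a ∈ I ^ n, a • x = 0) : (A ⧸ I ^ n) →ₗ[A] M :=
  Submodule.liftQ (I ^ n) (LinearMap.toSpanSingleton A M x) (by
    intro a ha
    rw [LinearMap.mem_ker, LinearMap.toSpanSingleton_apply]
    exact hx a ha)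

lemma lin_mk (n : ℕ) (x : M) (hx : ∀ a ∈ I ^ n, a • x = 0) (a : A) :
    lin I n x hx (Submodule.Quotient.mk a) = a • x := by
  rw [lin, Submodule.liftQ_apply, LinearMap.toSpanSingleton_apply]

lemma mk_eq_smul_one (n : ℕ) (a : A) :
    (Submodule.Quotient.mk a : A ⧸ I ^ n) = a • (Submodule.Quotient.mk 1 : A ⧸ I ^ n) := by
  rw [← Submodule.Quotient.mk_smul, smul_eq_mul, mul_one]

lemma smul_mk_one_eq_zero (n : ℕ) {a : A} (ha : a ∈ I ^ n) :
    a • (Submodule.Quotient.mk 1 : A ⧸ I ^ n) = 0 := by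
  rw [← mk_eq_smul_one]
  exact (Submodule.Quotient.mk_eq_zero _).2 ha

end Lin

/-- the generator of `A/I^n[0]` -/
noncomputable def one (n : ℕ) : (Sx I n).X 0 :=
  (HomologicalComplex.singleObjXSelf (ComplexShape.up ℤ) 0
    (ModuleCat.of A (A ⧸ I ^ n))).inv.hom (Submodule.Quotient.mk 1)

lemma self_hom_one (n : ℕ) :
    (HomologicalComplex.singleObjXSelf (ComplexShape.up ℤ) 0
      (ModuleCat.of A (A ⧸ I ^ n))).hom.hom (one I n) = Submodule.Quotient.mk 1 := by
  have := congrArg (fun f => f.hom (Submodule.Quotient.mk (1 : A) : A ⧸ I ^ n))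
    (HomologicalComplex.singleObjXSelf (ComplexShape.up ℤ) 0
      (ModuleCat.of A (A ⧸ I ^ n))).inv_hom_id
  exact this

lemma smul_one_eq_zero (n : ℕ) {a : A} (ha : a ∈ I ^ n) : a • one I n = 0 := by
  rw [one, ← map_smul, smul_mk_one_eq_zero I n ha, map_zero]

variable {I J}

/-- chain maps out of `A/I^n[0]` are determined by the image of the generator -/
lemma hom_ext_one {n : ℕ} {f g : Sx I n ⟶ J}
    (h : (f.f 0).hom (one I n) = (g.f 0).hom (one I n)) : f = g := by
  apply HomologicalComplex.from_single_hom_ext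
  rw [← cancel_epi (HomologicalComplex.singleObjXSelf (ComplexShape.up ℤ) 0
    (ModuleCat.of A (A ⧸ I ^ n))).inv]
  apply ModuleCat.hom_ext
  apply LinearMap.ext
  intro y
  obtain ⟨a, rfl⟩ := Submodule.mkQ_surjective _ y
  show (f.f 0).hom ((HomologicalComplex.singleObjXSelf (ComplexShape.up ℤ) 0
      (ModuleCat.of A (A ⧸ I ^ n))).inv.hom (Submodule.Quotient.mk a)) =
    (g.f 0).hom ((HomologicalComplex.singleObjXSelf (ComplexShape.up ℤ) 0
      (ModuleCat.of A (A ⧸ I ^ n))).inv.hom (Submodule.Quotient.mk a))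
  rw [mk_eq_smul_one, map_smul, map_smul, map_smul]
  exact congrArg (a • ·) h

variable (I J)

/-- the chain map `A/I^n[0] ⟶ J`, `1 ↦ x` -/
noncomputable def ψ (n : ℕ) (x : P I J n) : Sx I n ⟶ J :=
  HomologicalComplex.mkHomFromSingle (ModuleCat.ofHom (lin I n x.1 x.2.2)) (by
    intro k hk
    obtain rfl : k = 1 := by
      have : (0 : ℤ) + 1 = k := hk
      omega
    apply ModuleCat.hom_ext
    apply LinearMap.ext
    intro y
    obtain ⟨a, rfl⟩ := Submodule.mkQ_surjective _ y
    show (J.d 0 1).hom (lin I n x.1 x.2.2 (Submodule.Quotient.mk a)) = 0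
    rw [lin_mk, map_smul, x.2.1, smul_zero])

lemma ψ_f_one (n : ℕ) (x : P I J n) : ((ψ I J n x).f 0).hom (one I n) = x.1 := by
  rw [ψ, HomologicalComplex.mkHomFromSingle_f]
  show lin I n x.1 x.2.2 ((HomologicalComplex.singleObjXSelf (ComplexShape.up ℤ) 0
      (ModuleCat.of A (A ⧸ I ^ n))).hom.hom (one I n)) = x.1
  rw [self_hom_one, lin_mk, one_smul]

/-- every chain map out of `A/I^n[0]` is a `ψ` -/
lemma exists_ψ_eq (n : ℕ) (χ : Sx I n ⟶ J) : ∃ x : P I J n, ψ I J n x = χ := by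
  have h1 : (J.d 0 1).hom ((χ.f 0).hom (one I n)) = 0 := by
    have := f_d χ 0 1 (one I n)
    rw [← this, HomologicalComplex.single_obj_d]
    exact map_zero _
  have h2 : ∀ a ∈ I ^ n, a • (χ.f 0).hom (one I n) = 0 := by
    intro a ha
    rw [← map_smul, smul_one_eq_zero I n ha, map_zero]
  refine ⟨⟨(χ.f 0).hom (one I n), h1, h2⟩, ?_⟩
  apply hom_ext_one
  rw [ψ_f_one]

lemma ψ_add (n : ℕ) (x y : P I J n) : ψ I J n (x + y) = ψ I J n x + ψ I J n y := by
  apply hom_ext_one
  rw [ψ_f_one, HomologicalComplex.add_f_apply]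
  show _ = ((ψ I J n x).f 0).hom (one I n) + ((ψ I J n y).f 0).hom (one I n)
  rw [ψ_f_one, ψ_f_one]
  rfl

lemma ψ_smul (n : ℕ) (a : A) (x : P I J n) : ψ I J n (a • x) = a • ψ I J n x := by
  apply hom_ext_one
  rw [ψ_f_one, HomologicalComplex.smul_f_apply]
  show _ = a • ((ψ I J n x).f 0).hom (one I n)
  rw [ψ_f_one]
  rfl

/-- compatibility of `ψ` with the transition maps -/
lemma single_map_comp_ψ {n n' : ℕ} (h : n ≤ n') (x : P I J n)
    (hle : I ^ n' ≤ Submodule.comap (LinearMap.id : A →ₗ[A] A) (I ^ n)) :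
    (HomologicalComplex.single (ModuleCat.{u} A) (ComplexShape.up ℤ) 0).map
        (ModuleCat.ofHom (Submodule.mapQ (I ^ n') (I ^ n) LinearMap.id hle)) ≫ ψ I J n x =
      ψ I J n' ⟨x.1, P_mono I J h x.2⟩ := by
  apply hom_ext_one
  rw [ψ_f_one]
  show ((ψ I J n x).f 0).hom
    ((((HomologicalComplex.single (ModuleCat.{u} A) (ComplexShape.up ℤ) 0).map
      (ModuleCat.ofHom (Submodule.mapQ (I ^ n') (I ^ n) LinearMap.id hle))).f 0).hom (one I n')) = x.1
  have h1 : (((HomologicalComplex.single (ModuleCat.{u} A) (ComplexShape.up ℤ) 0).map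
      (ModuleCat.ofHom (Submodule.mapQ (I ^ n') (I ^ n) LinearMap.id hle))).f 0).hom (one I n') =
      one I n := by
    rw [HomologicalComplex.single_map_f_self]
    show (HomologicalComplex.singleObjXSelf (ComplexShape.up ℤ) 0
        (ModuleCat.of A (A ⧸ I ^ n))).inv.hom
      (Submodule.mapQ (I ^ n') (I ^ n) LinearMap.id hle
        ((HomologicalComplex.singleObjXSelf (ComplexShape.up ℤ) 0
          (ModuleCat.of A (A ⧸ I ^ n'))).hom.hom (one I n'))) = one I n
    rw [self_hom_one, Submodule.mapQ_apply]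
    rfl
  rw [h1, ψ_f_one]

/-! ### null-homotopies of maps out of a complex concentrated in degree `0` -/

/-- a lift of `φ` along the differential gives a null-homotopy -/
noncomputable def nullHomotopy {M : ModuleCat.{u} A} (φ : M ⟶ J.X 0)
    (hφ : ∀ k, (ComplexShape.up ℤ).Rel 0 k → φ ≫ J.d 0 k = 0)
    (g : M ⟶ J.X (-1)) (hg : g ≫ J.d (-1) 0 = φ) :
    Homotopy (HomologicalComplex.mkHomFromSingle φ hφ) 0 where
  hom i j := if h : i = 0 ∧ j = -1 then
      (HomologicalComplex.XIsoOfEq _ h.1).hom ≫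
        (HomologicalComplex.singleObjXSelf (ComplexShape.up ℤ) 0 M).hom ≫ g ≫
          (J.XIsoOfEq h.2.symm).hom
    else 0
  zero i j hij := dif_neg (by
    rintro ⟨rfl, rfl⟩
    exact hij (by simp))
  comm i := by
    by_cases hi : i = 0
    · subst hi
      rw [prevD_eq _ (show (ComplexShape.up ℤ).Rel (-1) 0 by simp),
        dNext_eq _ (show (ComplexShape.up ℤ).Rel 0 1 by simp),
        HomologicalComplex.single_obj_d, zero_comp, zero_add, HomologicalComplex.zero_f, add_zero,
        HomologicalComplex.mkHomFromSingle_f, dif_pos ⟨rfl, rfl⟩]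
      simp only [HomologicalComplex.XIsoOfEq_rfl, Iso.refl_hom, Category.id_comp, Category.comp_id,
        Category.assoc, hg]
    · apply IsZero.eq_of_src
      exact HomologicalComplex.isZero_single_obj_X _ _ _ _ hi

/-- a null-homotopy gives a lift along the differential -/
lemma exists_lift_of_homotopy {M : ModuleCat.{u} A} (φ : M ⟶ J.X 0)
    (hφ : ∀ k, (ComplexShape.up ℤ).Rel 0 k → φ ≫ J.d 0 k = 0)
    (H : Homotopy (HomologicalComplex.mkHomFromSingle φ hφ) 0) :
    ∃ g : M ⟶ J.X (-1), g ≫ J.d (-1) 0 = φ := by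
  have h1 := H.comm 0
  rw [prevD_eq _ (show (ComplexShape.up ℤ).Rel (-1) 0 by simp),
    dNext_eq _ (show (ComplexShape.up ℤ).Rel 0 1 by simp),
    HomologicalComplex.single_obj_d, zero_comp, zero_add, HomologicalComplex.zero_f, add_zero,
    HomologicalComplex.mkHomFromSingle_f] at h1
  refine ⟨(HomologicalComplex.singleObjXSelf (ComplexShape.up ℤ) 0 M).inv ≫ H.hom 0 (-1), ?_⟩
  rw [Category.assoc, ← h1, Iso.inv_hom_id_assoc]

end Groth.Agent.Lib.HDIColim
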