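import Mathlib
import Groth.Agent.Lib.HDIColim1_helper2

/-!
# `H^0(Γ_I J) = colim_n Hom_{D(A)}(A/I^n, J)` for a K-injective complex `J`, II (helper2)
-/

set_option autoImplicit false
universe u
open CategoryTheory CategoryTheory.Limits DerivedCategory Opposite

attribute [local instance] HasDerivedCategory.standard

namespace Groth.Agent.Lib.HDIColim

open Groth.Agent.Lib.RGamma Groth.Agent.HomologyColim

variable {A : Type u} [CommRing A] (I : Ideal A) (J : DRing.Cx A)

lemma homologyπ_eq_zero_iff' (L : DRing.Cx A) (j i : ℤ) (hji : j + 1 = i) (z : L.cycles i) :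
    L.homologyπ i z = 0 ↔ ∃ w : L.X j, L.toCycles j i w = z := by
  obtain rfl : j = (ComplexShape.up ℤ).prev i := by
    rw [CochainComplex.prev]
    omega
  exact homologyπ_eq_zero_iff L i z

lemma Q_map_eq_zero_of_homotopy {K L : DRing.Cx A} (φ : K ⟶ L) (H : Homotopy φ 0) :
    Q.map φ = 0 := by
  have h5 := HomotopyCategory.eq_of_homotopy _ _ H
  show Qh.map ((HomotopyCategory.quotient _ _).map φ) = 0
  rw [h5, CategoryTheory.Functor.map_zero, CategoryTheory.Functor.map_zero]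

/-- `A/I^n[0]` in `D(A)` -/
noncomputable def ιn (n : ℕ) : Dual.inD A (A ⧸ I ^ n) ≅ Q.obj (Sx I n) :=
  (DerivedCategory.singleFunctorIsoCompQ (ModuleCat.{u} A) 0).app (ModuleCat.of A (A ⧸ I ^ n))

lemma ιn_naturality {n n' : ℕ}
    (hle : I ^ n' ≤ Submodule.comap (LinearMap.id : A →ₗ[A] A) (I ^ n)) :
    (DerivedCategory.singleFunctor (ModuleCat.{u} A) 0).map
        (ModuleCat.ofHom (Submodule.mapQ (I ^ n') (I ^ n) LinearMap.id hle)) ≫ (ιn I n).hom =
      (ιn I n').hom ≫ Q.map ((HomologicalComplex.single (ModuleCat.{u} A) (ComplexShape.up ℤ) 0).map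
        (ModuleCat.ofHom (Submodule.mapQ (I ^ n') (I ^ n) LinearMap.id hle))) :=
  (DerivedCategory.singleFunctorIsoCompQ (ModuleCat.{u} A) 0).hom.naturality _

variable {L : Dual.D A} (e' : L ≅ Q.obj J)

/-- the morphism of `D(A)` attached to a cycle killed by `I^n` -/
noncomputable def τ (n : ℕ) : P I J n →ₗ[A] (Dual.inD A (A ⧸ I ^ n) ⟶ L) where
  toFun x := (ιn I n).hom ≫ Q.map (ψ I J n x) ≫ e'.inv
  map_add' x y := by
    rw [ψ_add, CategoryTheory.Functor.map_add, Preadditive.add_comp, Preadditive.comp_add]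
  map_smul' a x := by
    rw [ψ_smul, CategoryTheory.Functor.map_smul, Linear.smul_comp, Linear.comp_smul]
    rfl

lemma τ_apply (n : ℕ) (x : P I J n) :
    τ I J e' n x = (ιn I n).hom ≫ Q.map (ψ I J n x) ≫ e'.inv := rfl

lemma τ_surjective [J.IsKInjective] (n : ℕ) : Function.Surjective (τ I J e' n) := by
  intro t
  obtain ⟨χ, hχ⟩ := Groth.Agent.Lib.DMod_helper6.exists_Q_map_eq_of_isKInjective
    ((ιn I n).inv ≫ t ≫ e'.hom)
  obtain ⟨x, rfl⟩ := exists_ψ_eq I J n χ
  refine ⟨x, ?_⟩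
  rw [τ_apply, hχ]
  simp

/-- `Γ_I J` -/
noncomputable abbrev G : DRing.Cx A := (ΓC I).obj J

/-- the inclusion `P n ⊆ Γ_I(J^0)` -/
noncomputable def incl (n : ℕ) : P I J n →ₗ[A] DRing.torsionSub I (J.X 0) :=
  LinearMap.codRestrict _ (P I J n).subtype (fun x => ⟨n, x.2.2⟩)

lemma incl_d (n : ℕ) :
    (ModuleCat.ofHom (incl I J n) : ModuleCat.of A (P I J n) ⟶ (G I J).X 0) ≫ (G I J).d 0 1 = 0 := by
  apply ModuleCat.hom_ext
  apply LinearMap.ext
  intro x
  apply Subtype.ext
  exact x.2.1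

/-- the cycle of `Γ_I J` attached to an element of `P n` -/
noncomputable def cyc (n : ℕ) : ModuleCat.of A (P I J n) ⟶ (G I J).cycles 0 :=
  (G I J).liftCycles (ModuleCat.ofHom (incl I J n)) 1 (by simp) (incl_d I J n)

lemma iCycles_cyc (n : ℕ) (x : P I J n) :
    (G I J).iCycles 0 ((cyc I J n).hom x) = incl I J n x := by
  have := (G I J).liftCycles_i (ModuleCat.ofHom (incl I J n)) 1 (by simp) (incl_d I J n)
  exact congrArg (fun f => f.hom x) this

/-- the cohomology class of `Γ_I J` attached to an element of `P n` -/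
noncomputable def κ (n : ℕ) : P I J n →ₗ[A] (G I J).homology 0 :=
  (cyc I J n ≫ (G I J).homologyπ 0).hom

lemma κ_apply (n : ℕ) (x : P I J n) :
    κ I J n x = (G I J).homologyπ 0 ((cyc I J n).hom x) := rfl

lemma κ_mono {n n' : ℕ} (h : n ≤ n') (x : P I J n) :
    κ I J n' ⟨x.1, P_mono I J h x.2⟩ = κ I J n x := by
  rw [κ_apply, κ_apply]
  congr 1
  apply iCycles_injective
  exact (iCycles_cyc I J n' _).trans
    ((Subtype.ext rfl : incl I J n' ⟨x.1, P_mono I J h x.2⟩ = incl I J n x).trans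
      (iCycles_cyc I J n x).symm)

lemma exists_κ_eq (h : (G I J).homology 0) : ∃ (n : ℕ) (x : P I J n), κ I J n x = h := by
  obtain ⟨z, rfl⟩ := exists_homologyπ_eq (G I J) 0 h
  have hd : (G I J).d 0 1 ((G I J).iCycles 0 z) = 0 := by
    have := (G I J).iCycles_d 0 1
    exact congrArg (fun f => f.hom z) this
  obtain ⟨n, hn⟩ := ((G I J).iCycles 0 z).2
  refine ⟨n, ⟨((G I J).iCycles 0 z).1, congrArg Subtype.val hd, hn⟩, ?_⟩
  rw [κ_apply]
  congr 1
  apply iCycles_injective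
  exact (iCycles_cyc I J n _).trans (Subtype.ext rfl)

lemma κ_eq_zero_of_τ_eq_zero [J.IsKInjective] (n : ℕ) (x : P I J n) (h : τ I J e' n x = 0) :
    κ I J n x = 0 := by
  have hQ : Q.map (ψ I J n x) = 0 := by
    have h1 : (ιn I n).hom ≫ Q.map (ψ I J n x) ≫ e'.inv = 0 := h
    have h2 : Q.map (ψ I J n x) =
        (ιn I n).inv ≫ ((ιn I n).hom ≫ Q.map (ψ I J n x) ≫ e'.inv) ≫ e'.hom := by
      rw [Category.assoc, Category.assoc, Iso.inv_hom_id, Category.comp_id, Iso.inv_hom_id_assoc]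
    rw [h2, h1, zero_comp, comp_zero]
  obtain ⟨H⟩ := Groth.Agent.Lib.InjAmp.homotopy_zero_of_Q_map_eq_zero _ hQ
  obtain ⟨g, hg⟩ := exists_lift_of_homotopy J _ _ H
  have hy1 : (J.d (-1) 0).hom (g.hom (Submodule.Quotient.mk 1)) = x.1 := by
    have := congrArg (fun f => f.hom (Submodule.Quotient.mk (1 : A) : A ⧸ I ^ n)) hg
    refine this.trans ?_
    show lin I n x.1 x.2.2 (Submodule.Quotient.mk 1) = x.1
    rw [lin_mk, one_smul]
  have hy2 : ∀ a ∈ I ^ n, a • g.hom (Submodule.Quotient.mk (1 : A) : A ⧸ I ^ n) = 0 := by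
    intro a ha
    rw [← map_smul, smul_mk_one_eq_zero I n ha, map_zero]
  let w : (G I J).X (-1) := ⟨g.hom (Submodule.Quotient.mk 1), n, hy2⟩
  have hw : (G I J).toCycles (-1) 0 w = (cyc I J n).hom x := by
    apply iCycles_injective
    have h3 : (G I J).iCycles 0 ((G I J).toCycles (-1) 0 w) = (G I J).d (-1) 0 w := by
      have := (G I J).toCycles_i (-1) 0
      exact congrArg (fun f => f.hom w) this
    refine h3.trans (Eq.trans ?_ (iCycles_cyc I J n x).symm)
    exact Subtype.ext hy1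
  rw [κ_apply, ← hw]
  have := (G I J).toCycles_comp_homologyπ (-1) 0
  exact congrArg (fun f => f.hom w) this

/-- a null-homotopy of `ψ` from a lift of the cycle -/
noncomputable def ψNullHomotopy (n : ℕ) (x : P I J n) (y : J.X (-1)) (hy : ∀ a ∈ I ^ n, a • y = 0)
    (hd : (J.d (-1) 0).hom y = x.1) : Homotopy (ψ I J n x) 0 :=
  nullHomotopy J (ModuleCat.ofHom (lin I n x.1 x.2.2)) _ (ModuleCat.ofHom (lin I n y hy)) (by
    apply ModuleCat.hom_ext
    apply LinearMap.ext
    intro z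
    obtain ⟨a, rfl⟩ := Submodule.mkQ_surjective _ z
    show (J.d (-1) 0).hom (lin I n y hy (Submodule.Quotient.mk a)) =
      lin I n x.1 x.2.2 (Submodule.Quotient.mk a)
    rw [lin_mk, lin_mk, map_smul, hd])

lemma exists_τ_eq_zero_of_κ_eq_zero (n : ℕ) (x : P I J n) (h : κ I J n x = 0) :
    ∃ (n' : ℕ) (hn : n ≤ n'), τ I J e' n' ⟨x.1, P_mono I J hn x.2⟩ = 0 := by
  rw [κ_apply] at h
  obtain ⟨w, hw⟩ := (homologyπ_eq_zero_iff' (G I J) (-1) 0 (by simp) _).1 h
  have h1 : (G I J).d (-1) 0 w = incl I J n x := by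
    have h3 : (G I J).iCycles 0 ((G I J).toCycles (-1) 0 w) = (G I J).d (-1) 0 w := by
      have := (G I J).toCycles_i (-1) 0
      exact congrArg (fun f => f.hom w) this
    rw [← h3, hw]
    exact iCycles_cyc I J n x
  obtain ⟨m, hm⟩ := w.2
  have hy1 : (J.d (-1) 0).hom w.1 = x.1 := congrArg Subtype.val h1
  refine ⟨max n m, le_max_left n m, ?_⟩
  have hm' : ∀ a ∈ I ^ (max n m), a • w.1 = 0 := fun a ha =>
    hm a (Ideal.pow_le_pow_right (le_max_right n m) ha)
  have H := ψNullHomotopy I J (max n m) ⟨x.1, P_mono I J (le_max_left n m) x.2⟩ w.1 hm' hy1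
  have hQ : Q.map (ψ I J (max n m) ⟨x.1, P_mono I J (le_max_left n m) x.2⟩) = 0 :=
    Q_map_eq_zero_of_homotopy _ H
  rw [τ_apply, hQ, zero_comp, comp_zero]

lemma τ_mono {n n' : ℕ} (h : n ≤ n')
    (hle : I ^ n' ≤ Submodule.comap (LinearMap.id : A →ₗ[A] A) (I ^ n)) (x : P I J n) :
    (DerivedCategory.singleFunctor (ModuleCat.{u} A) 0).map
        (ModuleCat.ofHom (Submodule.mapQ (I ^ n') (I ^ n) LinearMap.id hle)) ≫ τ I J e' n x =
      τ I J e' n' ⟨x.1, P_mono I J h x.2⟩ := by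
  have h1 := ιn_naturality I hle
  have h2 := single_map_comp_ψ I J h x hle
  rw [τ_apply, τ_apply]
  calc (DerivedCategory.singleFunctor (ModuleCat.{u} A) 0).map
          (ModuleCat.ofHom (Submodule.mapQ (I ^ n') (I ^ n) LinearMap.id hle)) ≫
          (ιn I n).hom ≫ Q.map (ψ I J n x) ≫ e'.inv
      = ((DerivedCategory.singleFunctor (ModuleCat.{u} A) 0).map
          (ModuleCat.ofHom (Submodule.mapQ (I ^ n') (I ^ n) LinearMap.id hle)) ≫
          (ιn I n).hom) ≫ Q.map (ψ I J n x) ≫ e'.inv := by rw [Category.assoc]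
    _ = ((ιn I n').hom ≫ Q.map ((HomologicalComplex.single (ModuleCat.{u} A)
          (ComplexShape.up ℤ) 0).map
          (ModuleCat.ofHom (Submodule.mapQ (I ^ n') (I ^ n) LinearMap.id hle)))) ≫
          Q.map (ψ I J n x) ≫ e'.inv := by rw [h1]
    _ = (ιn I n').hom ≫ Q.map ((HomologicalComplex.single (ModuleCat.{u} A)
          (ComplexShape.up ℤ) 0).map
          (ModuleCat.ofHom (Submodule.mapQ (I ^ n') (I ^ n) LinearMap.id hle)) ≫ ψ I J n x) ≫
          e'.inv := by rw [Q.map_comp, Category.assoc, Category.assoc]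
    _ = _ := by rw [h2]

lemma ker_τ_le [J.IsKInjective] (n : ℕ) :
    LinearMap.ker (τ I J e' n) ≤ LinearMap.ker (κ I J n) :=
  fun x hx => κ_eq_zero_of_τ_eq_zero I J e' n x hx

/-- the class in `H^0(Γ_I J)` of a morphism `A/I^n ⟶ L` -/
noncomputable def θ [J.IsKInjective] (n : ℕ) :
    (Dual.inD A (A ⧸ I ^ n) ⟶ L) →ₗ[A] (G I J).homology 0 :=
  (Submodule.liftQ _ (κ I J n) (ker_τ_le I J e' n)) ∘ₗ
    ((τ I J e' n).quotKerEquivOfSurjective (τ_surjective I J e' n)).symm.toLinearMap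

lemma θ_τ [J.IsKInjective] (n : ℕ) (x : P I J n) : θ I J e' n (τ I J e' n x) = κ I J n x := by
  have h1 : ((τ I J e' n).quotKerEquivOfSurjective (τ_surjective I J e' n)).symm
      (τ I J e' n x) = Submodule.Quotient.mk x := by
    rw [LinearEquiv.symm_apply_eq]
    rfl
  show Submodule.liftQ _ (κ I J n) (ker_τ_le I J e' n)
    (((τ I J e' n).quotKerEquivOfSurjective (τ_surjective I J e' n)).symm (τ I J e' n x)) = _
  rw [h1, Submodule.liftQ_apply]

lemma θ_compat [J.IsKInjective] {n n' : ℕ} (h : n ≤ n')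
    (hle : I ^ n' ≤ Submodule.comap (LinearMap.id : A →ₗ[A] A) (I ^ n))
    (t : Dual.inD A (A ⧸ I ^ n) ⟶ L) :
    θ I J e' n' ((DerivedCategory.singleFunctor (ModuleCat.{u} A) 0).map
        (ModuleCat.ofHom (Submodule.mapQ (I ^ n') (I ^ n) LinearMap.id hle)) ≫ t) =
      θ I J e' n t := by
  obtain ⟨x, rfl⟩ := τ_surjective I J e' n t
  rw [τ_mono I J e' h hle x, θ_τ, θ_τ, κ_mono I J h x]

/-- **`H^0(Γ_I J) = colim_n Hom(A/I^n, J)`** for a K-injective complex `J` -/
theorem main_lemma [J.IsKInjective] (L : Dual.D A) (e' : L ≅ Q.obj J) :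
    Nonempty ((G I J).homology 0 ≃ₗ[A]
      (colimit ((localCohomology.ringModIdeals (localCohomology.idealPowersDiagram I) ⋙
        DerivedCategory.singleFunctor (ModuleCat.{u} A) 0).op ⋙
          (linearYoneda A (Dual.D A)).obj L) : ModuleCat.{u+1} A)) := by
  let F : ℕᵒᵖᵒᵖ ⥤ ModuleCat.{u+1} A :=
    (localCohomology.ringModIdeals (localCohomology.idealPowersDiagram I) ⋙
      DerivedCategory.singleFunctor (ModuleCat.{u} A) 0).op ⋙ (linearYoneda A (Dual.D A)).obj L
  let c : Cocone F :=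
    { pt := ModuleCat.of A (ULift.{u+1} ((G I J).homology 0))
      ι :=
        { app := fun j => ModuleCat.ofHom
            ((ULift.moduleEquiv (R := A) (M := (G I J).homology 0)).symm.toLinearMap ∘ₗ
              θ I J e' j.unop.unop)
          naturality := by
            intro j j' g
            apply ModuleCat.hom_ext
            refine LinearMap.ext fun t => ?_
            exact congrArg ULift.up (θ_compat I J e' (leOfHom g.unop.unop) _ t) } }
  let d : colimit F ⟶ c.pt := colimit.desc F c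
  have hd : ∀ (j : ℕᵒᵖᵒᵖ) (t : F.obj j),
      d.hom ((colimit.ι F j).hom t) = ULift.up (θ I J e' j.unop.unop t) := by
    intro j t
    have h1 : colimit.ι F j ≫ d = c.ι.app j := colimit.ι_desc c j
    exact LinearMap.congr_fun (congrArg ModuleCat.Hom.hom h1) t
  have hinj : Function.Injective d.hom := by
    rw [injective_iff_map_eq_zero]
    intro y hy
    obtain ⟨j, t, rfl⟩ := Groth.Agent.Lib.DMod_helper6.exists_rep_nat A F y
    rw [hd] at hy
    have h1 : θ I J e' j.unop.unop t = 0 := congrArg ULift.down hy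
    obtain ⟨x, rfl⟩ := τ_surjective I J e' j.unop.unop t
    rw [θ_τ] at h1
    obtain ⟨n', hn, h2⟩ := exists_τ_eq_zero_of_κ_eq_zero I J e' _ x h1
    let g : j ⟶ op (op n') := (homOfLE hn).op.op
    have h3 : (F.map g).hom (τ I J e' j.unop.unop x) = 0 := by
      refine Eq.trans ?_ h2
      exact τ_mono I J e' hn _ x
    have h4 : colimit.ι F j = F.map g ≫ colimit.ι F (op (op n')) := (colimit.w F g).symm
    rw [h4]
    show (colimit.ι F (op (op n'))).hom ((F.map g).hom _) = 0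
    rw [h3, map_zero]
  have hsurj : Function.Surjective d.hom := by
    intro y
    obtain ⟨n, x, hx⟩ := exists_κ_eq I J y.down
    refine ⟨(colimit.ι F (op (op n))).hom (τ I J e' n x), ?_⟩
    rw [hd]
    show ULift.up (θ I J e' n (τ I J e' n x)) = y
    rw [θ_τ, hx]
  exact ⟨((LinearEquiv.ofBijective d.hom ⟨hinj, hsurj⟩).trans ULift.moduleEquiv).symm⟩

end Groth.Agent.Lib.HDIColim
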