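import Mathlib
import Groth.Agent.Lib.HDIColim2_helper2

/-!
# `H^q(RΓ_I K) = colim_n Hom_{D(A)}(A/I^n, K[q])` (helper2)
-/

set_option autoImplicit false
universe u
open CategoryTheory CategoryTheory.Limits DerivedCategory Opposite

attribute [local instance] HasDerivedCategory.standard

namespace Groth.Agent.Lib.HDIColim

open Groth.Agent.Lib.RGamma

variable {A : Type u} [CommRing A] (I : Ideal A)

/-- for a K-injective complex `J` representing `K`: `H^q(Γ_I J) = colim_n Hom(A/I^n, K[q])` -/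
theorem homology_equiv_HDI (J : DRing.Cx A) [J.IsKInjective] (K : Dual.D A) (e : K ≅ Q.obj J)
    (q : ℤ) : Nonempty (((ΓC I).obj J).homology q ≃ₗ[A] Dual2.HDI A I K q) := by
  let e' : K⟦q⟧ ≅ Q.obj (J⟦q⟧) :=
    (shiftFunctor (Dual.D A) q).mapIso e ≪≫ ((Q.commShiftIso q).app J).symm
  obtain ⟨E⟩ := main_lemma I (J⟦q⟧) (K⟦q⟧) e'
  let i3 : (((ΓC I).obj J)⟦q⟧).homology 0 ≅ ((ΓC I).obj J).homology q :=
    (CochainComplex.ShiftSequence.shiftIso (ModuleCat.{u} A) q 0 q (add_zero q)).app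
      ((ΓC I).obj J)
  let i4 : ((ΓC I).obj (J⟦q⟧)).homology 0 ≅ (((ΓC I).obj J)⟦q⟧).homology 0 :=
    (HomologicalComplex.homologyFunctor (ModuleCat.{u} A) (ComplexShape.up ℤ) 0).mapIso
      (((ΓC I).commShiftIso q).app J)
  exact ⟨(i3.symm ≪≫ i4.symm).toLinearEquiv.trans E⟩

theorem S1812_main [DRing.HasRgammaI I] (K : Dual.D A) (q : ℤ) :
    Nonempty (Dual.HD A ((DRing.RgammaI I).obj K) q ≃ₗ[A] Dual2.HDI A I K q) := by
  let X := Q.objPreimage K
  let eK : Q.obj X ≅ K := Q.objObjPreimageIso K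
  obtain ⟨J, a, hJ, ha, -⟩ := Groth.Agent.Lib.KInjRes.exists_kinj_resolution_inj X
  haveI := hJ
  haveI : IsIso (Q.map a) := (isIso_Q_map_iff_quasiIso (C := ModuleCat.{u} A) a).2 ha
  let e : K ≅ Q.obj J := eK.symm ≪≫ asIso (Q.map a)
  obtain ⟨E⟩ := homology_equiv_HDI I J K e q
  let i1 : (DerivedCategory.homologyFunctor (ModuleCat.{u} A) q).obj ((DRing.RgammaI I).obj K) ≅
      (DerivedCategory.homologyFunctor (ModuleCat.{u} A) q).obj (Q.obj ((ΓC I).obj J)) :=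
    (DerivedCategory.homologyFunctor (ModuleCat.{u} A) q).mapIso
      ((DRing.RgammaI I).mapIso e ≪≫ RgammaIKInjIso I J)
  let i2 : (DerivedCategory.homologyFunctor (ModuleCat.{u} A) q).obj (Q.obj ((ΓC I).obj J)) ≅
      ((ΓC I).obj J).homology q :=
    (DerivedCategory.homologyFunctorFactors (ModuleCat.{u} A) q).app ((ΓC I).obj J)
  exact ⟨(i1 ≪≫ i2).toLinearEquiv.trans E⟩

end Groth.Agent.Lib.HDIColim
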