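import Mathlib
import Groth.Prelude.Def_DualLC
import Groth.Agent.Lib.LocFib3_helper2

/-!
# Consequences for `RΓ_I` over Noetherian rings (helper2)

* `S1813_main`: `RΓ_I K ⟶ K` is an isomorphism if the cohomology of `K` is `I`-power torsion.
* `S1817_main`: `RΓ_I` is right adjoint to the inclusion of the objects with `I`-power torsion cohomology.
* `S1816_main`: `RΓ_J (RΓ_I K) ≅ RΓ_{I ⊔ J} K`.
-/

set_option autoImplicit false
universe u
open CategoryTheory CategoryTheory.Limits CategoryTheory.Pretriangulated DerivedCategory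

attribute [local instance] HasDerivedCategory.standard

namespace Groth.Agent.Lib.LocFib

variable {A : Type u} [CommRing A]

lemma exists_list_span [IsNoetherianRing A] (I : Ideal A) :
    ∃ fs : List A, Ideal.span {x : A | x ∈ fs} = I := by
  obtain ⟨s, hs⟩ := (isNoetherianRing_iff_ideal_fg A).1 inferInstance I
  refine ⟨s.toList, ?_⟩
  rw [← hs]
  congr 1
  ext x
  simp

lemma tors_of_isPowerTorsion {I : Ideal A} {K : Dual.D A}
    (hK : ∀ i : ℤ, LocCoh.IsPowerTorsion I (Dual.HD A K i)) {f : A} (hf : f ∈ I) : Tors f K := by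
  intro n x
  obtain ⟨k, hk⟩ := hK n x
  exact ⟨k, hk _ (Ideal.pow_mem_pow hf k)⟩

lemma isPowerTorsion_of_tors (fs : List A) {K : Dual.D A} (hK : ∀ g ∈ fs, Tors g K) (i : ℤ) :
    LocCoh.IsPowerTorsion (Ideal.span {x : A | x ∈ fs}) (Dual.HD A K i) := by
  intro x
  have hle : Ideal.span {x : A | x ∈ fs} ≤ (Ideal.torsionOf A (Dual.HD A K i) x).radical := by
    rw [Ideal.span_le]
    intro g hg
    obtain ⟨k, hk⟩ := hK g hg i x
    exact ⟨k, (Ideal.mem_torsionOf_iff x _).2 hk⟩
  have hfg : (Ideal.span {x : A | x ∈ fs}).FG := Submodule.fg_span (List.finite_toSet fs)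
  obtain ⟨n, hn⟩ := Ideal.exists_pow_le_of_le_radical_of_fg hle hfg
  exact ⟨n, fun a ha => (Ideal.mem_torsionOf_iff x a).1 (hn ha)⟩

theorem S1813_main [IsNoetherianRing A] (I : Ideal A) [DRing.HasRgammaI I] (K : Dual.D A)
    (hK : ∀ i : ℤ, LocCoh.IsPowerTorsion I (Dual.HD A K i)) :
    IsIso ((DRing.RgammaIε I).app K) := by
  obtain ⟨fs, hfs⟩ := exists_list_span I
  subst hfs
  exact IterFib.isIso_of_tors fs _ (iterFib_RgammaIε fs K)
    (fun f hf => tors_of_isPowerTorsion hK (Ideal.subset_span hf))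

theorem S1817_main [IsNoetherianRing A] (I : Ideal A) [DRing.HasRgammaI I] :
    ∃ h : ∀ K : Dual.D A, (fun L : Dual.D A => ∀ i : ℤ, LocCoh.IsPowerTorsion I (Dual.HD A L i))
        ((DRing.RgammaI I).obj K),
      Nonempty (ObjectProperty.ι (fun L : Dual.D A =>
          ∀ i : ℤ, LocCoh.IsPowerTorsion I (Dual.HD A L i)) ⊣
        ObjectProperty.lift (fun L : Dual.D A => ∀ i : ℤ, LocCoh.IsPowerTorsion I (Dual.HD A L i))
          (DRing.RgammaI I) h) := by
  obtain ⟨fs, hfs⟩ := exists_list_span I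
  subst hfs
  have h : ∀ K : Dual.D A, ∀ i : ℤ, LocCoh.IsPowerTorsion (Ideal.span {x : A | x ∈ fs})
      (Dual.HD A ((DRing.RgammaI (Ideal.span {x : A | x ∈ fs})).obj K) i) := fun K i =>
    isPowerTorsion_of_tors fs (IterFib.tors fs _ (iterFib_RgammaIε fs K)) i
  refine ⟨h, ⟨?_⟩⟩
  have bij : ∀ (L : ObjectProperty.FullSubcategory (fun L : Dual.D A =>
      ∀ i : ℤ, LocCoh.IsPowerTorsion (Ideal.span {x : A | x ∈ fs}) (Dual.HD A L i)))
      (K : Dual.D A), Function.Bijective
        (fun a : L.obj ⟶ (DRing.RgammaI (Ideal.span {x : A | x ∈ fs})).obj K =>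
          a ≫ (DRing.RgammaIε (Ideal.span {x : A | x ∈ fs})).app K) := fun L K =>
    IterFib.bijective_postcomp fs _ (iterFib_RgammaIε fs K) L.obj
      (fun f hf => tors_of_isPowerTorsion L.property (Ideal.subset_span hf))
  exact Adjunction.mkOfHomEquiv
    { homEquiv := fun L K =>
        { toFun := fun φ => ObjectProperty.homMk ((Equiv.ofBijective _ (bij L K)).symm φ)
          invFun := fun ψ => ψ.hom ≫ (DRing.RgammaIε (Ideal.span {x : A | x ∈ fs})).app K
          left_inv := fun φ => (Equiv.ofBijective _ (bij L K)).apply_symm_apply φ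
          right_inv := fun ψ => by
            apply ObjectProperty.hom_ext
            exact (Equiv.ofBijective _ (bij L K)).symm_apply_apply ψ.hom }
      homEquiv_naturality_left_symm := by
        intro L' L K f g
        show (f ≫ g).hom ≫ _ = f.hom ≫ g.hom ≫ _
        rw [ObjectProperty.FullSubcategory.comp_hom, Category.assoc]
      homEquiv_naturality_right := by
        intro L K K' φ g
        apply ObjectProperty.hom_ext
        apply (bij L K').1
        show (Equiv.ofBijective _ (bij L K')).symm (φ ≫ g) ≫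
            (DRing.RgammaIε (Ideal.span {x : A | x ∈ fs})).app K' =
          ((Equiv.ofBijective _ (bij L K)).symm φ ≫
            (DRing.RgammaI (Ideal.span {x : A | x ∈ fs})).map g) ≫
            (DRing.RgammaIε (Ideal.span {x : A | x ∈ fs})).app K'
        have e1 := (Equiv.ofBijective _ (bij L K')).apply_symm_apply (φ ≫ g)
        have e2 := (Equiv.ofBijective _ (bij L K)).apply_symm_apply φ
        have e1' : (Equiv.ofBijective _ (bij L K')).symm (φ ≫ g) ≫
            (DRing.RgammaIε (Ideal.span {x : A | x ∈ fs})).app K' = φ ≫ g := e1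
        have e2' : (Equiv.ofBijective _ (bij L K)).symm φ ≫
            (DRing.RgammaIε (Ideal.span {x : A | x ∈ fs})).app K = φ := e2
        have hnat := (DRing.RgammaIε (Ideal.span {x : A | x ∈ fs})).naturality g
        have hnat' : (DRing.RgammaI (Ideal.span {x : A | x ∈ fs})).map g ≫
            (DRing.RgammaIε (Ideal.span {x : A | x ∈ fs})).app K' =
            (DRing.RgammaIε (Ideal.span {x : A | x ∈ fs})).app K ≫ g := hnat
        rw [e1', Category.assoc, hnat', ← Category.assoc, e2'] }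

theorem S1816_aux [IsNoetherianRing A] (I J IJ : Ideal A) [DRing.HasRgammaI I] [DRing.HasRgammaI J]
    [DRing.HasRgammaI IJ] (fs gs : List A) (hI : Ideal.span {x : A | x ∈ fs} = I)
    (hJ : Ideal.span {x : A | x ∈ gs} = J) (hIJ : Ideal.span {x : A | x ∈ gs ++ fs} = IJ)
    (K : Dual.D A) :
    Nonempty ((DRing.RgammaI J).obj ((DRing.RgammaI I).obj K) ≅ (DRing.RgammaI IJ).obj K) := by
  subst hI hJ hIJ
  have h1 := iterFib_RgammaIε fs K
  have h2 := iterFib_RgammaIε gs ((DRing.RgammaI (Ideal.span {x : A | x ∈ fs})).obj K)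
  have h12 := IterFib.append gs fs _ _ h2 h1
  have h3 := iterFib_RgammaIε (gs ++ fs) K
  obtain ⟨e, -⟩ := IterFib.unique (gs ++ fs) _ _ (Iso.refl K) h12 h3
  exact ⟨e⟩

theorem S1816_main [IsNoetherianRing A] (I J : Ideal A) [DRing.HasRgammaI I] [DRing.HasRgammaI J]
    [DRing.HasRgammaI (I ⊔ J)] (K : Dual.D A) :
    Nonempty ((DRing.RgammaI J).obj ((DRing.RgammaI I).obj K) ≅ (DRing.RgammaI (I ⊔ J)).obj K) := by
  obtain ⟨fs, hfs⟩ := exists_list_span I
  obtain ⟨gs, hgs⟩ := exists_list_span J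
  refine S1816_aux I J (I ⊔ J) fs gs hfs hgs ?_ K
  rw [← hfs, ← hgs, ← Ideal.span_union]
  congr 1
  ext x
  simp [or_comm]

end Groth.Agent.Lib.LocFib
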