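import Mathlib
import Groth.Agent.Lib.LocFib4_helper2

/-!
# Extension of scalars and iterated fibres of localization maps (helper2)

For a ring map `φ : A → B`, extension of scalars sends the localization map `N → N_f` to a localization
map at `φ f`; hence it sends the Čech complex `cech X fs → X` to an iterated fibre for `fs.map φ`.
-/

set_option autoImplicit false
universe u
open CategoryTheory CategoryTheory.Limits CategoryTheory.Pretriangulated DerivedCategory
open scoped TensorProduct

attribute [local instance] HasDerivedCategory.standard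

namespace Groth.Agent.Lib.LocBC

open Groth.Agent.Lib.LocFib Groth.Agent.Lib.DerCompl Groth.Agent.Lib.ExtCechH7

section Module

variable {R B : Type u} [CommRing R] [CommRing B] [Algebra R B]

/-- base change of a localization map is a localization map -/
theorem isLocalizedModule_baseChange (f : R) {N N' : Type u} [AddCommGroup N] [Module R N]
    [AddCommGroup N'] [Module R N'] (η : N →ₗ[R] N') [IsLocalizedModule (Submonoid.powers f) η] :
    IsLocalizedModule (Submonoid.powers (algebraMap R B f)) (LinearMap.baseChange B η) := by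
  haveI h1 : IsLocalizedModule (Submonoid.powers f)
      (TensorProduct.AlgebraTensorModule.rTensor R B η) := inferInstance
  have h2 : IsLocalizedModule (Submonoid.powers f)
      ((TensorProduct.comm R N' B).toLinearMap ∘ₗ
        ((TensorProduct.AlgebraTensorModule.rTensor R B η) ∘ₗ
          (TensorProduct.comm R B N).toLinearMap)) := inferInstance
  have h3 : ((TensorProduct.comm R N' B).toLinearMap ∘ₗ
        ((TensorProduct.AlgebraTensorModule.rTensor R B η) ∘ₗ
          (TensorProduct.comm R B N).toLinearMap)) = (LinearMap.baseChange B η).restrictScalars R := by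
    apply TensorProduct.ext'
    intro b n
    simp
  rw [h3] at h2
  haveI := h2
  have h4 := IsLocalizedModule.of_restrictScalars (Submonoid.powers f) (LinearMap.baseChange B η)
  rwa [Algebra.algebraMapSubmonoid_powers] at h4

end Module

section Cx

variable {A : Type u} [CommRing A]

/-- a termwise localization map of complexes is isomorphic to the localization -/
theorem exists_iso_loc_of_isLocalizedModule (f : A) {K L : DRing.Cx A} (g : K ⟶ L)
    (hg : ∀ n, IsLocalizedModule (Submonoid.powers f) (g.f n).hom) :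
    ∃ θ : Lf f K ≅ L, ηf f K ≫ θ.hom = g := by
  let e : ∀ n, (Lf f K).X n ≅ L.X n := fun n =>
    haveI := hg n
    (IsLocalizedModule.iso (Submonoid.powers f) (g.f n).hom).toModuleIso
  have he : ∀ n, (ηf f K).f n ≫ (e n).hom = g.f n := by
    intro n
    haveI := hg n
    ext x
    exact IsLocalizedModule.iso_mk_one (Submonoid.powers f) (g.f n).hom x
  have hcomm : ∀ i j, (ComplexShape.up ℤ).Rel i j →
      (e i).hom ≫ L.d i j = (Lf f K).d i j ≫ (e j).hom := by
    intro i j _
    haveI := hg j
    have hu : ∀ x : Submonoid.powers f,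
        IsUnit ((algebraMap A (Module.End A (L.X j))) x) :=
      IsLocalizedModule.map_units (g.f j).hom
    have h1 : ((e i).hom ≫ L.d i j).hom ∘ₗ
        (LocalizedModule.mkLinearMap (Submonoid.powers f) (K.X i)) =
        ((Lf f K).d i j ≫ (e j).hom).hom ∘ₗ
          (LocalizedModule.mkLinearMap (Submonoid.powers f) (K.X i)) := by
      have a1 : (ηf f K).f i ≫ ((e i).hom ≫ L.d i j) = g.f i ≫ L.d i j := by
        rw [← Category.assoc, he]
      have a2 : (ηf f K).f i ≫ ((Lf f K).d i j ≫ (e j).hom) = g.f i ≫ L.d i j := by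
        rw [← Category.assoc, (ηf f K).comm i j, Category.assoc, he]
        exact (g.comm i j).symm
      have a3 := a1.trans a2.symm
      exact congrArg ModuleCat.Hom.hom a3
    have h2 := IsLocalizedModule.ext (Submonoid.powers f)
      (LocalizedModule.mkLinearMap (Submonoid.powers f) (K.X i)) hu h1
    exact ModuleCat.hom_ext h2
  refine ⟨HomologicalComplex.Hom.isoOfComponents e hcomm, ?_⟩
  ext n : 1
  exact he n

variable {B : Type u} [CommRing B] (φ : A →+* B)

/-- extension of scalars -/
noncomputable abbrev E : ModuleCat.{u} A ⥤ ModuleCat.{u} B := ModuleCat.extendScalars.{u, u, u} φ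

instance : (E φ).Additive := (ModuleCat.extendRestrictScalarsAdj.{u} φ).left_adjoint_additive

/-- extension of scalars on complexes -/
noncomputable abbrev EC : DRing.Cx A ⥤ DRing.Cx B :=
  (E φ).mapHomologicalComplex (ComplexShape.up ℤ)

/-- extension of scalars sends localization maps to localization maps -/
theorem isLocalizedModule_E_map (f : A) (N : ModuleCat.{u} A) :
    IsLocalizedModule (Submonoid.powers (φ f))
      ((E φ).map ((DerCA.locUnit (Submonoid.powers f)).app N)).hom := by
  letI : Algebra A B := ((algebraMap B B).comp φ).toAlgebra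
  exact isLocalizedModule_baseChange (B := B) f
    (LocalizedModule.mkLinearMap (Submonoid.powers f) N)

/-- the image of the mapping cocone triangle under an additive functor is distinguished in `D` -/
theorem distinguished_map_mappingCocone (G : ModuleCat.{u} A ⥤ ModuleCat.{u} B) [G.Additive]
    {K L : DRing.Cx A} (g : K ⟶ L) :
    ∃ w : Q.obj ((G.mapHomologicalComplex (ComplexShape.up ℤ)).obj L) ⟶
        (Q.obj ((G.mapHomologicalComplex (ComplexShape.up ℤ)).obj
          (CochainComplex.mappingCocone g)))⟦(1 : ℤ)⟧,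
      Triangle.mk (Q.map ((G.mapHomologicalComplex (ComplexShape.up ℤ)).map
          (CochainComplex.mappingCocone.fst g)))
        (Q.map ((G.mapHomologicalComplex (ComplexShape.up ℤ)).map g)) w ∈
          distTriang (Dual.D B) := by
  have h1 : (HomotopyCategory.quotient (ModuleCat.{u} A) (ComplexShape.up ℤ)).mapTriangle.obj
      (CochainComplex.mappingCocone.triangle g) ∈
        distTriang (HomotopyCategory (ModuleCat.{u} A) (ComplexShape.up ℤ)) := by
    rw [rotate_distinguished_triangle]
    exact isomorphic_distinguished _ (HomotopyCategory.mappingCone_triangleh_distinguished g) _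
      ((HomotopyCategory.quotient _ _).mapTriangleRotateIso.app _ ≪≫
        (HomotopyCategory.quotient _ _).mapTriangle.mapIso
          (CochainComplex.mappingCocone.rotateTriangleIso g))
  have h2 := (G.mapHomotopyCategory (ComplexShape.up ℤ) ⋙ Qh).map_distinguished _ h1
  exact ⟨_, h2⟩

/-- extension of scalars sends the fibre of the localization at `f` to a fibre of the localization
at `φ f` -/
theorem fib_EC (f : A) (Y : DRing.Cx A) :
    Fib (φ f) (Q.map ((EC φ).map (CochainComplex.mappingCocone.fst (ηf f Y)))) := by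
  obtain ⟨w, hw⟩ := distinguished_map_mappingCocone (E φ) (ηf f Y)
  obtain ⟨θ, hθ⟩ := exists_iso_loc_of_isLocalizedModule (φ f) ((EC φ).map (ηf f Y))
    (fun n => isLocalizedModule_E_map φ f (Y.X n))
  refine ⟨(EC φ).obj Y, Iso.refl _, Q.map θ.hom ≫ w, ?_⟩
  refine isomorphic_distinguished _ hw _
    (Triangle.isoMk _ _ (Iso.refl _) (Iso.refl _) (Q.mapIso θ) ?_ ?_ ?_)
  · show Q.map ((EC φ).map (CochainComplex.mappingCocone.fst (ηf f Y))) ≫ 𝟙 _ =
      𝟙 _ ≫ (Q.map ((EC φ).map (CochainComplex.mappingCocone.fst (ηf f Y))) ≫ 𝟙 _)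
    rw [Category.comp_id, Category.id_comp]
  · show Q.map (ηf (φ f) ((EC φ).obj Y)) ≫ Q.map θ.hom = 𝟙 _ ≫ Q.map ((EC φ).map (ηf f Y))
    rw [← Q.map_comp, hθ, Category.id_comp]
  · show (Q.map θ.hom ≫ w) ≫ (shiftFunctor (Dual.D B) (1 : ℤ)).map (𝟙 _) = Q.map θ.hom ≫ w
    rw [CategoryTheory.Functor.map_id, Category.comp_id]

theorem iterFib_EC (X : DRing.Cx A) : ∀ fs : List A,
    IterFib (fs.map φ) (Q.obj ((EC φ).obj (cech X fs))) (Q.obj ((EC φ).obj X))
      (Q.map ((EC φ).map (cechP X fs)))
  | [] => by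
    show IsIso (Q.map ((EC φ).map (𝟙 X)))
    rw [(EC φ).map_id, Q.map_id]
    infer_instance
  | f :: fs => ⟨Q.obj ((EC φ).obj (cech X fs)),
      Q.map ((EC φ).map (CochainComplex.mappingCocone.fst (ηf f (cech X fs)))),
      Q.map ((EC φ).map (cechP X fs)), iterFib_EC X fs, fib_EC φ f _, by
        rw [← Q.map_comp, ← (EC φ).map_comp]
        rfl⟩

/-- fibres for a power of `f` are fibres for `f` -/
theorem fib_of_pow (f : A) (k : ℕ) (hk : 0 < k) {F F' : Dual.D A} {q : F ⟶ F'}
    (h : Fib (f ^ k) q) : Fib f q := by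
  obtain ⟨Y, e, w, hT⟩ := h
  have hle : Submonoid.powers (f ^ k) ≤ Submonoid.powers f :=
    Submonoid.powers_le.2 ⟨k, rfl⟩
  have h' : ∀ x : Submonoid.powers f, ∃ m : A, m * x ∈ Submonoid.powers (f ^ k) := by
    rintro ⟨x, j, rfl⟩
    refine ⟨f ^ (j * (k - 1)), j, ?_⟩
    show (f ^ k) ^ j = f ^ (j * (k - 1)) * f ^ j
    rw [← pow_mul, ← pow_add]
    congr 1
    obtain ⟨k', rfl⟩ : ∃ k', k = k' + 1 := ⟨k - 1, by omega⟩
    simp only [Nat.add_sub_cancel]
    ring
  have hloc : ∀ n, IsLocalizedModule (Submonoid.powers f) ((ηf (f ^ k) Y).f n).hom := fun n =>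
    IsLocalizedModule.of_exists_mul_mem (Submonoid.powers (f ^ k)) (Submonoid.powers f) hle h'
      (LocalizedModule.mkLinearMap (Submonoid.powers (f ^ k)) (Y.X n))
  obtain ⟨θ, hθ⟩ := exists_iso_loc_of_isLocalizedModule f (ηf (f ^ k) Y) hloc
  refine ⟨Y, e, Q.map θ.hom ≫ w, ?_⟩
  refine isomorphic_distinguished _ hT _
    (Triangle.isoMk _ _ (Iso.refl _) (Iso.refl _) (Q.mapIso θ) ?_ ?_ ?_)
  · show (q ≫ e.hom) ≫ 𝟙 _ = 𝟙 _ ≫ (q ≫ e.hom)
    rw [Category.comp_id, Category.id_comp]
  · show Q.map (ηf f Y) ≫ Q.map θ.hom = 𝟙 _ ≫ Q.map (ηf (f ^ k) Y)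
    rw [← Q.map_comp, hθ, Category.id_comp]
  · show (Q.map θ.hom ≫ w) ≫ (shiftFunctor (Dual.D A) (1 : ℤ)).map (𝟙 _) = Q.map θ.hom ≫ w
    rw [CategoryTheory.Functor.map_id, Category.comp_id]

theorem iterFib_of_map_pow (k : ℕ) (hk : 0 < k) : ∀ (fs : List A) {F K : Dual.D A} (p : F ⟶ K),
    IterFib (fs.map (· ^ k)) F K p → IterFib fs F K p
  | [], _, _, _, h => h
  | f :: fs, F, K, p, h => by
    obtain ⟨F', q, p', h', hq, rfl⟩ := h
    exact ⟨F', q, p', iterFib_of_map_pow k hk fs p' h', fib_of_pow f k hk hq, rfl⟩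

end Cx

end Groth.Agent.Lib.LocBC
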