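import Mathlib
import Groth.Agent.Lib.HDIColim3_helper2
import Groth.Agent.Lib.LocBC1_helper2
import Groth.Agent.Lib.DMod79_helper6

/-!
# Local cohomology `colim_n Hom(A/I^n, K[i])` over Noetherian rings: flat base change and restriction
of scalars (helper2)
-/

set_option autoImplicit false
universe u v w
open CategoryTheory CategoryTheory.Limits CategoryTheory.Pretriangulated DerivedCategory
open scoped TensorProduct

attribute [local instance] HasDerivedCategory.standard

namespace Groth.Agent.Lib.HDIColim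

open Groth.Agent.Lib.LocFib Groth.Agent.Lib.RGamma Groth.Agent.Lib.DerCompl
  Groth.Agent.Lib.ExtCechH7 Groth.Agent.Lib.LocBC Groth.Agent.Lib.DMod_helper6
  Groth.Agent.ExtendScalarsLib

section A

variable {A : Type u} [CommRing A]

/-- over a Noetherian ring, `colim_n Hom(A/I^n, K[i])` is the cohomology of the Čech complex -/
theorem cech_homology_equiv_HDI [IsNoetherianRing A] (fs : List A) (K : Dual.D A)
    (X : DRing.Cx A) (eX : K ≅ Q.obj X) (i : ℤ) :
    Nonempty ((cech X fs).homology i ≃ₗ[A]
      Dual2.HDI A (Ideal.span {x : A | x ∈ fs}) K i) := by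
  obtain ⟨J, a, hJ, ha, hinj⟩ := Groth.Agent.Lib.KInjRes.exists_kinj_resolution_inj X
  haveI := hJ
  haveI : IsIso (Q.map a) := (isIso_Q_map_iff_quasiIso (C := ModuleCat.{u} A) a).2 ha
  have hinj' : ∀ n, Module.Injective A (J.X n) := fun n => by
    haveI := hinj n
    exact Module.injective_module_of_injective_object A (J.X n)
  obtain ⟨E⟩ := homology_equiv_HDI (Ideal.span {x : A | x ∈ fs}) J K (eX ≪≫ asIso (Q.map a)) i
  have h1 := iterFib_Γ fs J hinj'
  have h2 := iterFib_cech X fs
  obtain ⟨e1, -⟩ := IterFib.unique fs _ _ (asIso (Q.map a)) h2 h1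
  let i1 : (cech X fs).homology i ≅
      ((ΓC (Ideal.span {x : A | x ∈ fs})).obj J).homology i :=
    ((DerivedCategory.homologyFunctorFactors (ModuleCat.{u} A) i).app (cech X fs)).symm ≪≫
      (DerivedCategory.homologyFunctor (ModuleCat.{u} A) i).mapIso e1 ≪≫
      (DerivedCategory.homologyFunctorFactors (ModuleCat.{u} A) i).app _
  exact ⟨i1.toLinearEquiv.trans E⟩

lemma map_span_list {B : Type u} [CommRing B] (φ : A →+* B) (fs : List A) :
    (Ideal.span {x : A | x ∈ fs}).map φ = Ideal.span {y : B | y ∈ fs.map φ} := by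
  rw [Ideal.map_span]
  congr 1
  ext y
  simp

end A

section Restrict

variable {A B : Type u} [CommRing A] [CommRing B] (φ : A →+* B)

/-- restriction of scalars -/
noncomputable abbrev R' : ModuleCat.{u} B ⥤ ModuleCat.{u} A := ModuleCat.restrictScalars.{u} φ

/-- restriction of scalars on complexes -/
noncomputable abbrev RC : DRing.Cx B ⥤ DRing.Cx A :=
  (R' φ).mapHomologicalComplex (ComplexShape.up ℤ)

/-- a localization map of `B`-modules at `φ f` is a localization map of `A`-modules at `f` -/
theorem isLocalizedModule_compHom {M M' : Type u} [AddCommGroup M] [AddCommGroup M'] [Module B M]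
    [Module B M'] (f : A) (g : M →ₗ[B] M') [IsLocalizedModule (Submonoid.powers (φ f)) g] :
    letI : Module A M := Module.compHom M φ
    letI : Module A M' := Module.compHom M' φ
    IsLocalizedModule (Submonoid.powers f)
      ({ g with map_smul' := fun r => g.map_smul (φ r) } : M →ₗ[A] M') := by
  letI : Algebra A B := φ.toAlgebra
  letI : Module A M := Module.compHom M φ
  letI : Module A M' := Module.compHom M' φ
  haveI : IsScalarTower A B M := ⟨fun a b n => by
    rw [Algebra.smul_def, mul_smul]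
    rfl⟩
  haveI : IsScalarTower A B M' := ⟨fun a b n => by
    rw [Algebra.smul_def, mul_smul]
    rfl⟩
  exact IsLocalizedModule.restrictScalars_powers (R := A) (A := B) f g

/-- restriction of scalars sends localization maps at `φ f` to localization maps at `f` -/
theorem isLocalizedModule_R_map (f : A) (N : ModuleCat.{u} B) :
    IsLocalizedModule (Submonoid.powers f)
      ((R' φ).map ((DerCA.locUnit (Submonoid.powers (φ f))).app N)).hom :=
  isLocalizedModule_compHom φ f (LocalizedModule.mkLinearMap (Submonoid.powers (φ f)) N)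

theorem fib_RC (f : A) (Y : DRing.Cx B) :
    Fib f (Q.map ((RC φ).map (CochainComplex.mappingCocone.fst (ηf (φ f) Y)))) := by
  obtain ⟨w, hw⟩ := distinguished_map_mappingCocone (R' φ) (ηf (φ f) Y)
  obtain ⟨θ, hθ⟩ := exists_iso_loc_of_isLocalizedModule f ((RC φ).map (ηf (φ f) Y))
    (fun n => isLocalizedModule_R_map φ f (Y.X n))
  refine ⟨(RC φ).obj Y, Iso.refl _, Q.map θ.hom ≫ w, ?_⟩
  refine isomorphic_distinguished _ hw _
    (Triangle.isoMk _ _ (Iso.refl _) (Iso.refl _) (Q.mapIso θ) ?_ ?_ ?_)
  · show Q.map ((RC φ).map (CochainComplex.mappingCocone.fst (ηf (φ f) Y))) ≫ 𝟙 _ =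
      𝟙 _ ≫ (Q.map ((RC φ).map (CochainComplex.mappingCocone.fst (ηf (φ f) Y))) ≫ 𝟙 _)
    rw [Category.comp_id, Category.id_comp]
  · show Q.map (ηf f ((RC φ).obj Y)) ≫ Q.map θ.hom = 𝟙 _ ≫ Q.map ((RC φ).map (ηf (φ f) Y))
    rw [← Q.map_comp, hθ, Category.id_comp]
  · show (Q.map θ.hom ≫ w) ≫ (shiftFunctor (Dual.D A) (1 : ℤ)).map (𝟙 _) = Q.map θ.hom ≫ w
    rw [CategoryTheory.Functor.map_id, Category.comp_id]

theorem iterFib_RC (X : DRing.Cx B) : ∀ fs : List A,
    IterFib fs (Q.obj ((RC φ).obj (cech X (fs.map φ)))) (Q.obj ((RC φ).obj X))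
      (Q.map ((RC φ).map (cechP X (fs.map φ))))
  | [] => by
    show IsIso (Q.map ((RC φ).map (𝟙 X)))
    rw [(RC φ).map_id, Q.map_id]
    infer_instance
  | f :: fs => ⟨Q.obj ((RC φ).obj (cech X (fs.map φ))),
      Q.map ((RC φ).map (CochainComplex.mappingCocone.fst (ηf (φ f) (cech X (fs.map φ))))),
      Q.map ((RC φ).map (cechP X (fs.map φ))), iterFib_RC X fs, fib_RC φ f _, by
        rw [← Q.map_comp, ← (RC φ).map_comp]
        rfl⟩

/-- restriction of scalars of a linear equivalence -/
def restrictEquiv {M : ModuleCat.{v} B} {N : ModuleCat.{w} B} (e : M ≃ₗ[B] N) :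
    ((ModuleCat.restrictScalars φ).obj M) ≃ₗ[A] ((ModuleCat.restrictScalars φ).obj N) where
  toFun := e
  invFun := e.symm
  map_add' := e.map_add
  map_smul' := fun a x => e.map_smul (φ a) x
  left_inv := e.left_inv
  right_inv := e.right_inv

end Restrict

section Main

variable (A B : Type u) [CommRing A] [CommRing B] [Algebra A B] [IsNoetherianRing A]
  [IsNoetherianRing B]

theorem S1805_main [Module.Flat A B] [DRing.HasLBaseChange (algebraMap A B)] (I : Ideal A)
    (K : Dual.D A) (i : ℤ) :
    Nonempty (Dual2.HDI B (I.map (algebraMap A B))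
        ((DRing.LBaseChange (algebraMap A B)).obj K) i ≅
      (ModuleCat.extendScalars (algebraMap A B)).obj (Dual2.HDI A I K i)) := by
  obtain ⟨fs, hfs⟩ := exists_list_span I
  subst hfs
  rw [map_span_list]
  let X := Q.objPreimage K
  let eX : K ≅ Q.obj X := (Q.objObjPreimageIso K).symm
  obtain ⟨E_A⟩ := cech_homology_equiv_HDI fs K X eX i
  obtain ⟨eL⟩ := nonempty_lBaseChange_iso_bcD (A := A) (B := B)
  let eXB : (DRing.LBaseChange (algebraMap A B)).obj K ≅
      Q.obj ((EC (algebraMap A B)).obj X) :=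
    eL.app K ≪≫ (bcD A B).mapIso eX ≪≫ bcDIso X
  obtain ⟨E_B⟩ := cech_homology_equiv_HDI (fs.map (algebraMap A B))
    ((DRing.LBaseChange (algebraMap A B)).obj K) ((EC (algebraMap A B)).obj X) eXB i
  have h1 := iterFib_cech ((EC (algebraMap A B)).obj X) (fs.map (algebraMap A B))
  have h2 := iterFib_EC (algebraMap A B) X fs
  obtain ⟨e1, -⟩ := IterFib.unique (fs.map (algebraMap A B)) _ _ (Iso.refl _) h1 h2
  let i1 : (cech ((EC (algebraMap A B)).obj X) (fs.map (algebraMap A B))).homology i ≅
      ((EC (algebraMap A B)).obj (cech X fs)).homology i :=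
    ((DerivedCategory.homologyFunctorFactors (ModuleCat.{u} B) i).app _).symm ≪≫
      (DerivedCategory.homologyFunctor (ModuleCat.{u} B) i).mapIso e1 ≪≫
      (DerivedCategory.homologyFunctorFactors (ModuleCat.{u} B) i).app _
  let i2 : ((EC (algebraMap A B)).obj (cech X fs)).homology i ≅
      (ES A B).obj ((cech X fs).homology i) :=
    ((cech X fs).sc i).mapHomologyIso (ES A B)
  let L1 : Dual2.HDI B (Ideal.span {y : B | y ∈ fs.map (algebraMap A B)})
      ((DRing.LBaseChange (algebraMap A B)).obj K) i ≃ₗ[B]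
      (ES A B).obj ((cech X fs).homology i) := E_B.symm.trans (i1 ≪≫ i2).toLinearEquiv
  let L2 := extendScalarsEquivTensor (S := B) ((cech X fs).homology i)
  let L3 : B ⊗[A] ((cech X fs).homology i) ≃ₗ[B]
      B ⊗[A] (Dual2.HDI A (Ideal.span {x : A | x ∈ fs}) K i) :=
    TensorProduct.AlgebraTensorModule.congr (LinearEquiv.refl B B) E_A
  let L4 := (extendScalarsEquivTensor (S := B)
    (Dual2.HDI A (Ideal.span {x : A | x ∈ fs}) K i)).symm
  exact ⟨(((L1.trans L2).trans L3).trans L4).toModuleIso⟩

theorem S1804_main (I : Ideal A) (K : Dual.D B) (i : ℤ) :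
    Nonempty (Dual2.HDI A I ((DRing.restrictD (algebraMap A B)).obj K) i ≅
      (ModuleCat.restrictScalars (algebraMap A B)).obj
        (Dual2.HDI B (I.map (algebraMap A B)) K i)) := by
  obtain ⟨fs, hfs⟩ := exists_list_span I
  subst hfs
  rw [map_span_list]
  let X := Q.objPreimage K
  let eX : K ≅ Q.obj X := (Q.objObjPreimageIso K).symm
  obtain ⟨E_B⟩ := cech_homology_equiv_HDI (fs.map (algebraMap A B)) K X eX i
  let eXA : (DRing.restrictD (algebraMap A B)).obj K ≅ Q.obj ((RC (algebraMap A B)).obj X) :=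
    (DRing.restrictD (algebraMap A B)).mapIso eX ≪≫
      ((R' (algebraMap A B)).mapDerivedCategoryFactors).app X
  obtain ⟨E_A⟩ := cech_homology_equiv_HDI fs ((DRing.restrictD (algebraMap A B)).obj K)
    ((RC (algebraMap A B)).obj X) eXA i
  have h1 := iterFib_cech ((RC (algebraMap A B)).obj X) fs
  have h2 := iterFib_RC (algebraMap A B) X fs
  obtain ⟨e1, -⟩ := IterFib.unique fs _ _ (Iso.refl _) h1 h2
  let i1 : (cech ((RC (algebraMap A B)).obj X) fs).homology i ≅
      ((RC (algebraMap A B)).obj (cech X (fs.map (algebraMap A B)))).homology i :=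
    ((DerivedCategory.homologyFunctorFactors (ModuleCat.{u} A) i).app _).symm ≪≫
      (DerivedCategory.homologyFunctor (ModuleCat.{u} A) i).mapIso e1 ≪≫
      (DerivedCategory.homologyFunctorFactors (ModuleCat.{u} A) i).app _
  let i2 : ((RC (algebraMap A B)).obj (cech X (fs.map (algebraMap A B)))).homology i ≅
      (R' (algebraMap A B)).obj ((cech X (fs.map (algebraMap A B))).homology i) :=
    ((cech X (fs.map (algebraMap A B))).sc i).mapHomologyIso (R' (algebraMap A B))
  let L1 : Dual2.HDI A (Ideal.span {x : A | x ∈ fs})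
      ((DRing.restrictD (algebraMap A B)).obj K) i ≃ₗ[A]
      (R' (algebraMap A B)).obj ((cech X (fs.map (algebraMap A B))).homology i) :=
    E_A.symm.trans (i1 ≪≫ i2).toLinearEquiv
  let L2 := restrictEquiv (algebraMap A B) E_B
  exact ⟨(L1.trans L2).toModuleIso⟩

end Main

end Groth.Agent.Lib.HDIColim
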