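import Mathlib.Algebra.Homology.DerivedCategory.HomologySequence
import Mathlib.Algebra.Homology.DerivedCategory.Linear
import Mathlib.Algebra.Homology.ShortComplex.Linear
import Mathlib.Algebra.Category.ModuleCat.Abelian

/-!
# Linearity of the homology functors on the derived category

* `homologicalComplex_homologyFunctor_linear`: `HomologicalComplex.homologyFunctor C c n` is
  `R`-linear when `C` is an `R`-linear category with homology.
* `derivedCategory_homologyFunctor_linear`: `DerivedCategory.homologyFunctor C n` is `R`-linear.
* `eq_zero_of_pow_smul_eq_zero_of_cone`: for a distinguished triangle `M --f--> M → C → M[1]` in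
  `D(R)` (multiplication by `f : R`), if `H^{i-1}(C) = 0` then `f` is injective on `H^i(M)`.
-/

set_option autoImplicit false
universe w v u t

open CategoryTheory CategoryTheory.Pretriangulated

namespace Groth.Agent.Lib.DerHom_helper5

section General

variable (R : Type t) [Ring R] (C : Type u) [Category.{v} C] [Abelian C] [Linear R C]

instance homologicalComplex_homologyFunctor_linear {ι : Type*} (c : ComplexShape ι) (n : ι) :
    (HomologicalComplex.homologyFunctor C c n).Linear R where
  map_smul f r :=
    ShortComplex.homologyMap_smul ((HomologicalComplex.shortComplexFunctor C c n).map f) r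

variable [HasDerivedCategory.{w} C]

instance derivedCategory_homologyFunctor_linear (n : ℤ) :
    (DerivedCategory.homologyFunctor C n).Linear R := by
  let _ : Localization.Lifting DerivedCategory.Q
      (HomologicalComplex.quasiIso C (ComplexShape.up ℤ))
      (HomologicalComplex.homologyFunctor C (ComplexShape.up ℤ) n)
      (DerivedCategory.homologyFunctor C n) :=
    ⟨DerivedCategory.homologyFunctorFactors _ n⟩
  exact (Localization.functor_linear_iff DerivedCategory.Q
      (HomologicalComplex.quasiIso C (ComplexShape.up ℤ)) R
      (HomologicalComplex.homologyFunctor C (ComplexShape.up ℤ) n)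
      (DerivedCategory.homologyFunctor C n)).mp inferInstance

end General

section Module

attribute [local instance] HasDerivedCategory.standard

variable (R : Type u) [CommRing R]

/-- If `M --f•--> M → C → M[1]` is distinguished and `H^{i-1}(C) = 0`, then multiplication by `f` is
injective on `H^i(M)`. -/
theorem smul_injective_of_cone (f : R) (M C : DerivedCategory (ModuleCat.{u} R))
    (g : M ⟶ C) (h : C ⟶ M⟦(1 : ℤ)⟧) (hT : Triangle.mk (f • 𝟙 M) g h ∈ distinguishedTriangles)
    (i : ℤ)
    (hsub : Subsingleton ((DerivedCategory.homologyFunctor (ModuleCat.{u} R) (i - 1)).obj C))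
    (x : (DerivedCategory.homologyFunctor (ModuleCat.{u} R) i).obj M) (hx : f • x = 0) : x = 0 := by
  have hmono : Mono ((DerivedCategory.homologyFunctor (ModuleCat.{u} R) i).map (f • 𝟙 M)) := by
    refine (DerivedCategory.HomologySequence.mono_homologyMap_mor₁_iff _ hT (i - 1) i
      (by omega)).mpr ?_
    have hz : Limits.IsZero ((DerivedCategory.homologyFunctor (ModuleCat.{u} R) (i - 1)).obj C) :=
      @ModuleCat.isZero_of_subsingleton _ _ _ hsub
    exact hz.eq_of_src _ _
  rw [Functor.map_smul, CategoryTheory.Functor.map_id] at hmono
  have h1 := (ModuleCat.mono_iff_injective _).mp hmono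
  apply h1
  simpa using hx

end Module

end Groth.Agent.Lib.DerHom_helper5
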