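import Mathlib
import Groth.Agent.Lib.LocFib4_helper2
import Groth.Agent.Lib.DerCompl6_helper2
import Groth.Agent.Lib.DerCompl4_helper2

/-!
# Greenlees–May duality over a Noetherian ring (helper2)

* `bijective_postcomp_toDerivedCompletion`: for `T` with torsion cohomology, `Hom(T, K) ≃ Hom(T, K^∧)`.
* `S1814_main`: `RΓ_I(K^∧) ≅ RΓ_I(K)` and `(RΓ_I K)^∧ ≅ K^∧`.
-/

set_option autoImplicit false
universe u
open CategoryTheory CategoryTheory.Limits CategoryTheory.Pretriangulated DerivedCategory
  CochainComplex CochainComplex.HomComplex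

attribute [local instance] HasDerivedCategory.standard

namespace Groth.Agent.Lib.LocFib

open Groth.Agent.Lib.DerCompl Groth.Agent.Lib.ExtCechH7 Groth.Agent.Lib.HomCx
  Groth.Agent.Lib.DualCx

variable {A : Type u} [CommRing A]

/-! ### Covariant orthogonality for the completion -/

theorem bijective_postcomp_cocone (f : A) (X J : DRing.Cx A) (T : Dual.D A) (hT : Tors f T) :
    Function.Bijective (fun a : T ⟶ Q.obj (DRing.homCx X J) =>
      a ≫ Q.map (homCxPre (mappingCocone.fst (DerCA.locCxUnit (Submonoid.powers f) X)) J)) := by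
  have hS := sesCocone_shortExact (DerCA.locCxUnit (Submonoid.powers f) X) J
  have hTri := DerivedCategory.triangleOfSES_distinguished hS
  have hY : ActsBij f (homSh ((DerCA.locCx (Submonoid.powers f)).obj X) J) :=
    actsBij_homSh f _ J (actsBij_locCx f X)
  have h0 : ∀ a : T ⟶ (DerivedCategory.triangleOfSES hS).obj₃, a = 0 := fun a =>
    hom_eq_zero_of_tors f T hT _ hY _ (Iso.refl _) a
  have h1 : ∀ a : T ⟶ ((DerivedCategory.triangleOfSES hS).obj₃)⟦(-1 : ℤ)⟧, a = 0 := fun a =>
    hom_eq_zero_of_tors f T hT ((homSh ((DerCA.locCx (Submonoid.powers f)).obj X) J)⟦(-1 : ℤ)⟧)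
      (actsBij_shift f _ hY (-1)) _
      (((Q.commShiftIso (-1 : ℤ)).app
        (homSh ((DerCA.locCx (Submonoid.powers f)).obj X) J)).symm) a
  exact bijective_postcomp_of_distinguished _ hTri T h0 h1

theorem bijective_postcomp_cech (M : ModuleCat.{u} A) (J : DRing.Cx A) (T : Dual.D A) :
    ∀ (fs : List A), (∀ f ∈ fs, Tors f T) →
      Function.Bijective (fun a : T ⟶ Q.obj (DRing.homCx (DerCA.extCech M []) J) =>
        a ≫ Q.map (homCxPre (cechπ M fs) J))
  | [] => fun _ => by
    have : (fun a : T ⟶ Q.obj (DRing.homCx (DerCA.extCech M []) J) =>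
        a ≫ Q.map (homCxPre (cechπ M []) J)) = id := by
      funext a
      show a ≫ Q.map (homCxPre (𝟙 _) J) = a
      rw [Groth.Agent.Lib.RHomKInj.homCxPre_id, CategoryTheory.Functor.map_id, Category.comp_id]
    rw [this]
    exact Function.bijective_id
  | f :: fs => fun h => by
    have ih := bijective_postcomp_cech M J T fs (fun g hg => h g (List.mem_cons_of_mem f hg))
    have hstep := bijective_postcomp_cocone f (DerCA.extCech M fs) J T (h f (List.mem_cons_self))
    have : (fun a : T ⟶ Q.obj (DRing.homCx (DerCA.extCech M []) J) =>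
        a ≫ Q.map (homCxPre (cechπ M (f :: fs)) J)) =
        (fun b : T ⟶ Q.obj (DRing.homCx (DerCA.extCech M fs) J) =>
          b ≫ Q.map (homCxPre (mappingCocone.fst
            (DerCA.locCxUnit (Submonoid.powers f) (DerCA.extCech M fs))) J)) ∘
        (fun a : T ⟶ Q.obj (DRing.homCx (DerCA.extCech M []) J) =>
          a ≫ Q.map (homCxPre (cechπ M fs) J)) := by
      funext a
      show a ≫ Q.map (homCxPre (mappingCocone.fst
          (DerCA.locCxUnit (Submonoid.powers f) (DerCA.extCech M fs)) ≫ cechπ M fs) J) = _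
      rw [Groth.Agent.Lib.RHomKInj.homCxPre_comp, CategoryTheory.Functor.map_comp, ← Category.assoc]
      rfl
    rw [this]
    exact hstep.comp ih

/-- for `T` with torsion cohomology, `Hom(T, K) ⟶ Hom(T, K^∧)` is bijective -/
theorem bijective_postcomp_toDerivedCompletion (fs : List A)
    [DRing.HasDerivedCompletion (Ideal.span {x : A | x ∈ fs})] (K T : Dual.D A)
    (hT : ∀ f ∈ fs, Tors f T) :
    Function.Bijective (fun a : T ⟶ K =>
      a ≫ DRing.toDerivedCompletion (Ideal.span {x : A | x ∈ fs}) K) := by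
  obtain ⟨J, hJ, ⟨e⟩⟩ := Groth.Agent.Lib.RHomKInj.exists_kinj_iso K
  haveI := hJ
  let e0 : J ≅ DRing.homCx (DerCA.extCech (ModuleCat.of A A) []) J := (ev1Iso J).symm
  let u : K ⟶ Q.obj (DRing.homCx (DerCA.extCech (ModuleCat.of A A) fs) J) :=
    e.hom ≫ Q.map e0.hom ≫ Q.map (homCxPre (cechπ (ModuleCat.of A A) fs) J)
  have hc : DRing.IsDerivedComplete (Ideal.span {x : A | x ∈ fs})
      (Q.obj (DRing.homCx (DerCA.extCech (ModuleCat.of A A) fs) J)) := by
    intro f hf n
    exact subsingleton_hom_inD_homCx f _ J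
      (fun q x => torsion_of_mem_span fs (ModuleCat.of A A) f hf q x) n
  have hu : ∀ E : Dual.D A, DRing.IsDerivedComplete (Ideal.span {x : A | x ∈ fs}) E →
      Function.Bijective
        (fun a : Q.obj (DRing.homCx (DerCA.extCech (ModuleCat.of A A) fs) J) ⟶ E => u ≫ a) := by
    intro E hE
    have hb := bijective_precomp_cech (ModuleCat.of A A) J E fs
      (fun f hf n => hE f (Ideal.subset_span hf) n)
    have hiso : Function.Bijective
        (fun a : Q.obj (DRing.homCx (DerCA.extCech (ModuleCat.of A A) []) J) ⟶ E =>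
          (e.hom ≫ Q.map e0.hom) ≫ a) := by
      have : IsIso (e.hom ≫ Q.map e0.hom) := inferInstance
      constructor
      · intro a b hab
        exact (cancel_epi _).1 hab
      · intro g
        exact ⟨inv (e.hom ≫ Q.map e0.hom) ≫ g, by simp⟩
    have := hiso.comp hb
    convert this using 2
    simp [u, Category.assoc]
  obtain ⟨e', he'⟩ := exists_iso_of_universal
    (DRing.IsDerivedComplete (Ideal.span {x : A | x ∈ fs}))
    (DRing.derivedCompletionAdj (Ideal.span {x : A | x ∈ fs})) K _ hc u hu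
  have he'' : DRing.toDerivedCompletion (Ideal.span {x : A | x ∈ fs}) K = u ≫ e'.inv := by
    rw [← he', Category.assoc, Iso.hom_inv_id, Category.comp_id]
  have hb := bijective_postcomp_cech (ModuleCat.of A A) J T fs hT
  rw [he'']
  constructor
  · intro a b hab
    have h1 : a ≫ u = b ≫ u := by
      have := congrArg (· ≫ e'.hom) hab
      simpa using this
    have h2 : (a ≫ e.hom ≫ Q.map e0.hom) ≫ Q.map (homCxPre (cechπ (ModuleCat.of A A) fs) J) =
        (b ≫ e.hom ≫ Q.map e0.hom) ≫ Q.map (homCxPre (cechπ (ModuleCat.of A A) fs) J) := by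
      simpa [u, Category.assoc] using h1
    have h3 := hb.1 h2
    have h4 := congrArg (· ≫ inv (e.hom ≫ Q.map e0.hom)) h3
    simpa using h4
  · intro b
    obtain ⟨a, ha⟩ := hb.2 (b ≫ e'.hom)
    refine ⟨a ≫ inv (e.hom ≫ Q.map e0.hom), ?_⟩
    have ha' : a ≫ Q.map (homCxPre (cechπ (ModuleCat.of A A) fs) J) = b ≫ e'.hom := ha
    show (a ≫ inv (e.hom ≫ Q.map e0.hom)) ≫ u ≫ e'.inv = b
    have h5 : (a ≫ inv (e.hom ≫ Q.map e0.hom)) ≫ u =
        a ≫ Q.map (homCxPre (cechπ (ModuleCat.of A A) fs) J) := by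
      show (a ≫ inv (e.hom ≫ Q.map e0.hom)) ≫ e.hom ≫ Q.map e0.hom ≫ _ = _
      rw [Category.assoc, ← Category.assoc e.hom, IsIso.inv_hom_id_assoc]
    rw [← Category.assoc, h5, ha', Category.assoc, Iso.hom_inv_id, Category.comp_id]

/-! ### Contravariant orthogonality for iterated fibres -/

theorem Fib.bijective_precomp (f : A) {F F' : Dual.D A} {q : F ⟶ F'} (h : Fib f q)
    (E : Dual.D A) (hE : ∀ n : ℤ, Subsingleton (Dual.inD A (Localization.Away f) ⟶ E⟦n⟧)) :
    Function.Bijective (fun a : F' ⟶ E => q ≫ a) := by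
  obtain ⟨Y, e, w, hT⟩ := h
  have hY := actsBij_locCx f Y
  have h0 : ∀ a : Q.obj (Lf f Y) ⟶ E, a = 0 := by
    intro a
    have hs : Subsingleton (Q.obj (Lf f Y) ⟶ E) := subsingleton_hom_of_actsBij f _ hY E hE
    exact @Subsingleton.elim _ hs a 0
  have h1 : ∀ a : Q.obj (Lf f Y) ⟶ E⟦(1 : ℤ)⟧, a = 0 := by
    intro a
    have h' : ∀ n : ℤ, Subsingleton (Dual.inD A (Localization.Away f) ⟶ (E⟦(1 : ℤ)⟧)⟦n⟧) := by
      intro n
      haveI := hE (1 + n)
      exact (Iso.homCongr (Iso.refl _)
        ((CategoryTheory.shiftFunctorAdd' (Dual.D A) (1 : ℤ) n (1 + n) rfl).app E).symm).subsingleton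
    have hs : Subsingleton (Q.obj (Lf f Y) ⟶ E⟦(1 : ℤ)⟧) :=
      subsingleton_hom_of_actsBij f _ hY (E⟦(1 : ℤ)⟧) h'
    exact @Subsingleton.elim _ hs a 0
  have hb := bijective_precomp_of_distinguished _ hT E h0 h1
  constructor
  · intro a b hab
    have h2 : (q ≫ e.hom) ≫ (e.inv ≫ a) = (q ≫ e.hom) ≫ (e.inv ≫ b) := by
      simpa using hab
    have h3 := hb.1 h2
    exact (cancel_epi e.inv).1 h3
  · intro b
    obtain ⟨a, ha⟩ := hb.2 b
    refine ⟨e.hom ≫ a, ?_⟩
    have ha' : (q ≫ e.hom) ≫ a = b := ha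
    show q ≫ e.hom ≫ a = b
    rw [← Category.assoc]
    exact ha'

theorem IterFib.bijective_precomp : ∀ (fs : List A) {F K : Dual.D A} (p : F ⟶ K),
    IterFib fs F K p → ∀ (E : Dual.D A),
    (∀ f ∈ fs, ∀ n : ℤ, Subsingleton (Dual.inD A (Localization.Away f) ⟶ E⟦n⟧)) →
    Function.Bijective (fun a : K ⟶ E => p ≫ a)
  | [], F, K, p, h, E, _ => by
    haveI : IsIso p := h
    constructor
    · intro a a' haa
      exact (cancel_epi p).1 haa
    · intro b
      exact ⟨inv p ≫ b, by simp⟩
  | f :: fs, F, K, p, h, E, hE => by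
    obtain ⟨F', q, p', h', hq, rfl⟩ := h
    have hb1 := hq.bijective_precomp f E (hE f (List.mem_cons_self))
    have hb2 := IterFib.bijective_precomp fs p' h' E
      (fun g hg => hE g (List.mem_cons_of_mem _ hg))
    have : (fun a : K ⟶ E => (q ≫ p') ≫ a) = (fun b : F' ⟶ E => q ≫ b) ∘ (fun a : K ⟶ E => p' ≫ a) := by
      funext a
      simp
    rw [this]
    exact hb1.comp hb2

/-! ### Greenlees–May -/

theorem S1814_list [IsNoetherianRing A] (fs : List A)
    [DRing.HasRgammaI (Ideal.span {x : A | x ∈ fs})]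
    [DRing.HasDerivedCompletion (Ideal.span {x : A | x ∈ fs})] (K : Dual.D A) :
    Nonempty ((DRing.RgammaI (Ideal.span {x : A | x ∈ fs})).obj
        ((DRing.derivedCompletion (Ideal.span {x : A | x ∈ fs})).obj K).obj ≅
      (DRing.RgammaI (Ideal.span {x : A | x ∈ fs})).obj K) ∧
    Nonempty ((DRing.derivedCompletion (Ideal.span {x : A | x ∈ fs})).obj
        ((DRing.RgammaI (Ideal.span {x : A | x ∈ fs})).obj K) ≅
      (DRing.derivedCompletion (Ideal.span {x : A | x ∈ fs})).obj K) := by
  constructor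
  · -- `RΓ(u)` is an isomorphism
    let I := Ideal.span {x : A | x ∈ fs}
    let Kc : Dual.D A := ((DRing.derivedCompletion I).obj K).obj
    let u : K ⟶ Kc := DRing.toDerivedCompletion I K
    let g := (DRing.RgammaI I).map u
    have hX : ∀ f ∈ fs, Tors f ((DRing.RgammaI I).obj K) :=
      IterFib.tors fs _ (iterFib_RgammaIε fs K)
    have hY : ∀ f ∈ fs, Tors f ((DRing.RgammaI I).obj Kc) :=
      IterFib.tors fs _ (iterFib_RgammaIε fs Kc)
    have hbij : ∀ T : Dual.D A, (∀ f ∈ fs, Tors f T) →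
        Function.Bijective (fun a : T ⟶ (DRing.RgammaI I).obj K => a ≫ g) := by
      intro T hT
      have b1 := IterFib.bijective_postcomp fs _ (iterFib_RgammaIε fs K) T hT
      have b2 := IterFib.bijective_postcomp fs _ (iterFib_RgammaIε fs Kc) T hT
      have b3 := bijective_postcomp_toDerivedCompletion fs K T hT
      have hnat : g ≫ (DRing.RgammaIε I).app Kc = (DRing.RgammaIε I).app K ≫ u :=
        (DRing.RgammaIε I).naturality u
      have hcomp : (fun a : T ⟶ (DRing.RgammaI I).obj Kc => a ≫ (DRing.RgammaIε I).app Kc) ∘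
          (fun a : T ⟶ (DRing.RgammaI I).obj K => a ≫ g) =
          (fun a : T ⟶ K => a ≫ u) ∘
          (fun a : T ⟶ (DRing.RgammaI I).obj K => a ≫ (DRing.RgammaIε I).app K) := by
        funext a
        show (a ≫ g) ≫ (DRing.RgammaIε I).app Kc = (a ≫ (DRing.RgammaIε I).app K) ≫ u
        rw [Category.assoc, hnat, Category.assoc]
      have hc : Function.Bijective
          ((fun a : T ⟶ (DRing.RgammaI I).obj Kc => a ≫ (DRing.RgammaIε I).app Kc) ∘
          (fun a : T ⟶ (DRing.RgammaI I).obj K => a ≫ g)) := by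
        rw [hcomp]
        exact b3.comp b1
      exact (Function.Bijective.of_comp_iff' b2 _).1 hc
    obtain ⟨h, hh⟩ := (hbij _ hY).2 (𝟙 _)
    have hh' : h ≫ g = 𝟙 _ := hh
    have hgh : g ≫ h = 𝟙 _ := by
      apply (hbij _ hX).1
      show (g ≫ h) ≫ g = 𝟙 _ ≫ g
      rw [Category.assoc, hh', Category.comp_id, Category.id_comp]
    exact ⟨⟨h, g, hh', hgh⟩⟩
  · let I := Ideal.span {x : A | x ∈ fs}
    let adj := DRing.derivedCompletionAdj I
    have hiso : IsIso ((DRing.derivedCompletion I).map ((DRing.RgammaIε I).app K)) := by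
      rw [isIso_iff_coyoneda_map_bijective]
      intro E
      have hb := IterFib.bijective_precomp fs _ (iterFib_RgammaIε fs K) E.obj
        (fun f hf n => E.property f (Ideal.subset_span hf) n)
      have e1 := (adj.homEquiv K E).bijective
      have e2 := (adj.homEquiv ((DRing.RgammaI I).obj K) E).bijective
      have hcomp : (adj.homEquiv ((DRing.RgammaI I).obj K) E) ∘
          (fun x : (DRing.derivedCompletion I).obj K ⟶ E =>
            (DRing.derivedCompletion I).map ((DRing.RgammaIε I).app K) ≫ x) =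
          (fun a : K ⟶ E.obj => (DRing.RgammaIε I).app K ≫ a) ∘ (adj.homEquiv K E) := by
        funext x
        exact adj.homEquiv_naturality_left ((DRing.RgammaIε I).app K) x
      have hc : Function.Bijective ((adj.homEquiv ((DRing.RgammaI I).obj K) E) ∘
          (fun x : (DRing.derivedCompletion I).obj K ⟶ E =>
            (DRing.derivedCompletion I).map ((DRing.RgammaIε I).app K) ≫ x)) := by
        rw [hcomp]
        exact hb.comp e1
      exact (Function.Bijective.of_comp_iff' e2 _).1 hc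
    exact ⟨asIso ((DRing.derivedCompletion I).map ((DRing.RgammaIε I).app K))⟩

theorem S1814_main [IsNoetherianRing A] (I : Ideal A) [DRing.HasRgammaI I]
    [DRing.HasDerivedCompletion I] (K : Dual.D A) :
    Nonempty ((DRing.RgammaI I).obj ((DRing.derivedCompletion I).obj K).obj ≅
      (DRing.RgammaI I).obj K) ∧
    Nonempty ((DRing.derivedCompletion I).obj ((DRing.RgammaI I).obj K) ≅
      (DRing.derivedCompletion I).obj K) := by
  obtain ⟨fs, hfs⟩ := exists_list_span I
  subst hfs
  exact S1814_list fs K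

end Groth.Agent.Lib.LocFib
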