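import Mathlib
import Groth.Agent.Lib.HDIColim4_helper2
import Groth.Agent.Lib.LocFib5_helper2
import Groth.Agent.Lib.DMod114_helper6
import Groth.Agent.Lib.DMod115_helper6
import Groth.Agent.Lib.DerHom_helper5
import Groth.Agent.Lib.DMod1_helper6
import Groth.Agent.Lib.KInjGen8_helper7
import Groth.Agent.Lib.OrthDeriv_helper9
import Groth.Agent.Lib.DerCompl6_helper2
import Groth.Agent.Lib.ExtCechFun_helper7
import Groth.Agent.S7050
import Groth.Agent.S7048
import Groth.Agent.S3866

/-!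
# Local duality over a complete local ring, in the form `Hom(K, ω[-i]) = Hom(H^i_m(K), E)` (helper2)
-/

set_option autoImplicit false
universe u
open CategoryTheory CategoryTheory.Limits DerivedCategory

attribute [local instance] HasDerivedCategory.standard

namespace Groth.Agent.Lib.LocDual

open Groth.Agent.Lib.LocFib Groth.Agent.Lib.HDIColim Groth.Agent.Lib.DMod_helper6
  Groth.Agent.Lib.DerCompl Groth.Agent.Lib.DerHom_helper5

section General

variable {A : Type u} [CommRing A]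

/-- the unbounded right derived functor of `Γ_I` exists -/
theorem hasRgammaI (I : Ideal A) : DRing.HasRgammaI I :=
  (OrthDeriv.main (P := HomotopyCategory.subcategoryAcyclic (ModuleCat.{u} A))
    (HomotopyCategory.quasiIso _ _) (HomotopyCategory.quasiIso_eq_trW_subcategoryAcyclic _)
    Groth.Agent.Lib.KInjGen8.hP DerivedCategory.Qh (DRing.gammaIKh I)).1

/-- the complex with `E` in degree `n` -/
noncomputable abbrev SE (E : ModuleCat.{u} A) (n : ℤ) : DRing.Cx A :=
  (HomologicalComplex.single (ModuleCat.{u} A) (ComplexShape.up ℤ) n).obj E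

lemma isKInjective_SE (E : ModuleCat.{u} A) [Injective E] (n : ℤ) : (SE E n).IsKInjective := by
  haveI : ∀ k, Injective ((SE E n).X k) := fun k => by
    by_cases h : k = n
    · subst h
      exact Injective.of_iso
        (HomologicalComplex.singleObjXSelf (ComplexShape.up ℤ) k E).symm inferInstance
    · exact (HomologicalComplex.isZero_single_obj_X (ComplexShape.up ℤ) n E k h).injective
  exact CochainComplex.isKInjective_of_injective (SE E n) n

/-- a chain map to a complex concentrated in degree `n` which factors through the differential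
`Y^n ⟶ Y^{n+1}` is null-homotopic -/
noncomputable def nullHomotopyTo {Y : DRing.Cx A} {E : ModuleCat.{u} A} (n : ℤ)
    (ψ : Y ⟶ SE E n) (k : Y.X (n + 1) ⟶ E)
    (hk : Y.d n (n + 1) ≫ k =
      ψ.f n ≫ (HomologicalComplex.singleObjXSelf (ComplexShape.up ℤ) n E).hom) :
    Homotopy ψ 0 where
  hom i j := if h : i = n + 1 ∧ j = n then
      (Y.XIsoOfEq h.1).hom ≫ k ≫
        (HomologicalComplex.singleObjXSelf (ComplexShape.up ℤ) n E).inv ≫
          ((SE E n).XIsoOfEq h.2.symm).hom
    else 0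
  zero i j hij := dif_neg (by
    rintro ⟨rfl, rfl⟩
    exact hij (by simp))
  comm i := by
    by_cases hi : i = n
    · subst hi
      rw [prevD_eq _ (show (ComplexShape.up ℤ).Rel (i - 1) i by simp),
        dNext_eq _ (show (ComplexShape.up ℤ).Rel i (i + 1) by simp),
        HomologicalComplex.single_obj_d, comp_zero, add_zero, HomologicalComplex.zero_f, add_zero,
        dif_pos ⟨rfl, rfl⟩]
      simp only [HomologicalComplex.XIsoOfEq_rfl, Iso.refl_hom, Category.id_comp, Category.comp_id]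
      rw [← Category.assoc, hk, Category.assoc, Iso.hom_inv_id, Category.comp_id]
    · apply IsZero.eq_of_tgt
      exact HomologicalComplex.isZero_single_obj_X _ _ _ _ hi

variable (Y : DRing.Cx A) (E : ModuleCat.{u} A) (n : ℤ)

/-- `φ ↦ H^n(φ)` on maps to `E[-n]` -/
noncomputable def Φ : (Q.obj Y ⟶ Q.obj (SE E n)) →ₗ[A] (Y.homology n ⟶ E) where
  toFun φ := (homologyFunctorFactors (ModuleCat.{u} A) n).inv.app Y ≫
    (DerivedCategory.homologyFunctor (ModuleCat.{u} A) n).map φ ≫
      (homologyFunctorFactors (ModuleCat.{u} A) n).hom.app (SE E n) ≫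
        (HomologicalComplex.singleObjHomologySelfIso (ComplexShape.up ℤ) n E).hom
  map_add' φ φ' := by
    rw [CategoryTheory.Functor.map_add, Preadditive.add_comp, Preadditive.comp_add]
  map_smul' a φ := by
    rw [CategoryTheory.Functor.map_smul, Linear.smul_comp, Linear.comp_smul]
    rfl

lemma Φ_Q_map (ψ : Y ⟶ SE E n) :
    Φ Y E n (Q.map ψ) = HomologicalComplex.homologyMap ψ n ≫
      (HomologicalComplex.singleObjHomologySelfIso (ComplexShape.up ℤ) n E).hom := by
  have h1 := (homologyFunctorFactors (ModuleCat.{u} A) n).hom.naturality ψ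
  have h2 : (DerivedCategory.homologyFunctor (ModuleCat.{u} A) n).map (Q.map ψ) ≫
      (homologyFunctorFactors (ModuleCat.{u} A) n).hom.app (SE E n) =
      (homologyFunctorFactors (ModuleCat.{u} A) n).hom.app Y ≫
        HomologicalComplex.homologyMap ψ n := h1
  have e1 : (DerivedCategory.homologyFunctor (ModuleCat.{u} A) n).map (Q.map ψ) ≫
      (homologyFunctorFactors (ModuleCat.{u} A) n).hom.app (SE E n) ≫
        (HomologicalComplex.singleObjHomologySelfIso (ComplexShape.up ℤ) n E).hom =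
      (homologyFunctorFactors (ModuleCat.{u} A) n).hom.app Y ≫
        HomologicalComplex.homologyMap ψ n ≫
          (HomologicalComplex.singleObjHomologySelfIso (ComplexShape.up ℤ) n E).hom :=
    (Category.assoc _ _ _).symm.trans
      ((congrArg (fun t => t ≫
        (HomologicalComplex.singleObjHomologySelfIso (ComplexShape.up ℤ) n E).hom) h2).trans
          (Category.assoc _ _ _))
  exact (congrArg (fun t => (homologyFunctorFactors (ModuleCat.{u} A) n).inv.app Y ≫ t) e1).trans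
    (Iso.inv_hom_id_app_assoc (homologyFunctorFactors (ModuleCat.{u} A) n) Y _)

variable [Injective E]

lemma Φ_surjective : Function.Surjective (Φ Y E n) := by
  intro h
  let g' : Y.opcycles n ⟶ E := Injective.factorThru h (Y.homologyι n)
  have hg' : Y.homologyι n ≫ g' = h := Injective.comp_factorThru h (Y.homologyι n)
  let ψ : Y ⟶ SE E n := HomologicalComplex.mkHomToSingle (Y.pOpcycles n ≫ g') (by
    intro i hi
    rw [← Category.assoc, HomologicalComplex.d_pOpcycles, zero_comp])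
  refine ⟨Q.map ψ, ?_⟩
  rw [Φ_Q_map, ← HomologicalComplex.homologyι_singleObjOpcyclesSelfIso_inv, ← Category.assoc,
    HomologicalComplex.homologyι_naturality, Category.assoc, ← hg']
  congr 1
  rw [← cancel_epi (Y.pOpcycles n), HomologicalComplex.p_opcyclesMap_assoc,
    HomologicalComplex.pOpcycles_singleObjOpcyclesSelfIso_inv,
    HomologicalComplex.mkHomToSingle_f, Category.assoc, Iso.inv_hom_id, Category.comp_id]

lemma Φ_injective : Function.Injective (Φ Y E n) := by
  haveI := isKInjective_SE E n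
  rw [injective_iff_map_eq_zero]
  intro φ hφ
  obtain ⟨ψ, rfl⟩ := exists_Q_map_eq_of_isKInjective φ
  rw [Φ_Q_map] at hφ
  have h0 : HomologicalComplex.homologyMap ψ n = 0 := by
    rw [← cancel_mono (HomologicalComplex.singleObjHomologySelfIso (ComplexShape.up ℤ) n E).hom,
      hφ, zero_comp]
  let g' : Y.opcycles n ⟶ E := HomologicalComplex.opcyclesMap ψ n ≫
    (HomologicalComplex.singleObjOpcyclesSelfIso (ComplexShape.up ℤ) n E).inv
  have hg' : Y.homologyι n ≫ g' = 0 := by
    show Y.homologyι n ≫ HomologicalComplex.opcyclesMap ψ n ≫ _ = 0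
    rw [← Category.assoc, ← HomologicalComplex.homologyι_naturality, h0, zero_comp, zero_comp]
  have hex : (ShortComplex.mk (Y.homologyι n) (Y.fromOpcycles n (n + 1))
      (Y.homologyι_comp_fromOpcycles n (n + 1))).Exact :=
    ShortComplex.exact_of_f_is_kernel _ (Y.homologyIsKernel n (n + 1) (by simp))
  let k : Y.X (n + 1) ⟶ E := hex.descToInjective g' hg'
  have hk : Y.fromOpcycles n (n + 1) ≫ k = g' := hex.comp_descToInjective g' hg'
  have hk' : Y.d n (n + 1) ≫ k =
      ψ.f n ≫ (HomologicalComplex.singleObjXSelf (ComplexShape.up ℤ) n E).hom := by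
    rw [← Y.p_fromOpcycles n (n + 1), Category.assoc, hk]
    show Y.pOpcycles n ≫ HomologicalComplex.opcyclesMap ψ n ≫ _ = _
    rw [HomologicalComplex.p_opcyclesMap_assoc,
      HomologicalComplex.pOpcycles_singleObjOpcyclesSelfIso_inv]
  exact Q_map_eq_zero_of_homotopy ψ (nullHomotopyTo n ψ k hk')

/-- maps in `D(A)` to an injective module placed in degree `n` are maps from `H^n` -/
noncomputable def homEquivSE : (Q.obj Y ⟶ Q.obj (SE E n)) ≃ₗ[A] (Y.homology n ⟶ E) :=
  LinearEquiv.ofBijective (Φ Y E n) ⟨Φ_injective Y E n, Φ_surjective Y E n⟩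

end General

section D

variable {A : Type u} [CommRing A]

/-- for an injective module `E`: `Hom_{D(A)}(X, E[m]) = Hom_A(H^{-m}(X), E)` -/
theorem hom_inD_shift_equiv (X : Dual.D A) (E : Type u) [AddCommGroup E] [Module A E]
    [Module.Injective A E] (m n : ℤ) (hmn : m + n = 0) :
    Nonempty ((X ⟶ (Dual.inD A E)⟦m⟧) ≃ₗ[A] (Dual.HD A X n →ₗ[A] E)) := by
  haveI : Injective (ModuleCat.of A E) := Module.injective_object_of_injective_module A E
  let Y := Q.objPreimage X
  let eX : Q.obj Y ≅ X := Q.objObjPreimageIso X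
  let s : (Dual.inD A E)⟦m⟧ ≅ Q.obj (SE (ModuleCat.of A E) n) :=
    ((DerivedCategory.singleFunctors (ModuleCat.{u} A)).shiftIso m n 0 hmn).app
        (ModuleCat.of A E) ≪≫
      (DerivedCategory.singleFunctorIsoCompQ (ModuleCat.{u} A) n).app (ModuleCat.of A E)
  let e1 : (X ⟶ (Dual.inD A E)⟦m⟧) ≃ₗ[A] (Q.obj Y ⟶ Q.obj (SE (ModuleCat.of A E) n)) :=
    Linear.homCongr A eX.symm s
  let e2 := homEquivSE Y (ModuleCat.of A E) n
  let e3 : (Y.homology n ⟶ ModuleCat.of A E) ≃ₗ[A] (Y.homology n →ₗ[A] E) :=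
    ModuleCat.homLinearEquiv
  let i1 : (DerivedCategory.homologyFunctor (ModuleCat.{u} A) n).obj X ≅ Y.homology n :=
    (DerivedCategory.homologyFunctor (ModuleCat.{u} A) n).mapIso eX.symm ≪≫
      (homologyFunctorFactors (ModuleCat.{u} A) n).app Y
  let e4 : (Y.homology n →ₗ[A] E) ≃ₗ[A] (Dual.HD A X n →ₗ[A] E) :=
    LinearEquiv.congrLeft E A i1.toLinearEquiv.symm
  exact ⟨e1.trans (e2.trans (e3.trans e4))⟩

/-- `colim_n Hom(A/I^n, K[a][b]) = colim_n Hom(A/I^n, K[a+b])` -/
theorem hdi_shift_equiv (I : Ideal A) (K : Dual.D A) (a b c : ℤ) (h : a + b = c) :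
    Nonempty (Dual2.HDI A I (K⟦a⟧) b ≃ₗ[A] Dual2.HDI A I K c) := by
  let iso : (K⟦a⟧)⟦b⟧ ≅ K⟦c⟧ := ((shiftFunctorAdd' (Dual.D A) a b c h).app K).symm
  exact ⟨(HasColimit.isoOfNatIso (Functor.isoWhiskerLeft _
    ((linearYoneda A (Dual.D A)).mapIso iso))).toLinearEquiv⟩

/-- over a Noetherian `I`-adically complete ring, a complex with finite cohomology modules is
derived complete -/
theorem isDerivedComplete_of_finite_cohomology [IsNoetherianRing A] (I : Ideal A)
    [IsAdicComplete I A] (K : Dual.D A) (hK : ∀ i : ℤ, Module.Finite A (Dual.HD A K i)) :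
    DRing.IsDerivedComplete I K := by
  rw [Groth.Agent.S7050.result I K]
  intro i
  haveI := hK i
  haveI : IsAdicComplete I (Dual.HD A K i) := Groth.Agent.S3866.result A I (Dual.HD A K i)
  exact Groth.Agent.S7048.result I (Dual.HD A K i)

end D

section Main

variable (A : Type u) [CommRing A] [IsLocalRing A] [IsNoetherianRing A]

theorem S1761_core [IsAdicComplete (IsLocalRing.maximalIdeal A) A] (ω : Dual.D A)
    (hω : Dual.IsDualizing A ω) (hn : Dual.IsNormalized A ω) (E : Type u) [AddCommGroup E]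
    [Module A E] (f : IsLocalRing.ResidueField A →ₗ[A] E) (hf : InjHull.IsInjectiveHull f)
    (K : Dual.D A) (i : ℤ) (fs : List A)
    (hfs : Ideal.span {x : A | x ∈ fs} = IsLocalRing.maximalIdeal A) :
    Nonempty ((K ⟶ ω⟦(-i)⟧) ≃ₗ[A]
      (Dual2.HDI A (Ideal.span {x : A | x ∈ fs}) K i →ₗ[A] E)) := by
  haveI : DRing.HasRgammaI (Ideal.span {x : A | x ∈ fs}) := hasRgammaI _
  haveI : Module.Injective A E := hf.isInjective
  have hmem : ∀ g ∈ fs, g ∈ Ideal.span {x : A | x ∈ fs} := fun g hg => Ideal.subset_span hg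
  have hWc : DRing.IsDerivedComplete (Ideal.span {x : A | x ∈ fs}) (ω⟦(-i)⟧) := by
    apply isDerivedComplete_shift
    rw [hfs]
    exact isDerivedComplete_of_finite_cohomology _ ω hω.finite_cohomology
  -- step 1
  have hb1 := IterFib.bijective_precomp fs _ (iterFib_RgammaIε fs K) (ω⟦(-i)⟧)
    (fun g hg n => hWc g (hmem g hg) n)
  let e1 : (K ⟶ ω⟦(-i)⟧) ≃ₗ[A]
      ((DRing.RgammaI (Ideal.span {x : A | x ∈ fs})).obj K ⟶ ω⟦(-i)⟧) :=
    LinearEquiv.ofBijective
      (Linear.leftComp A (ω⟦(-i)⟧) ((DRing.RgammaIε (Ideal.span {x : A | x ∈ fs})).app K)) hb1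
  -- step 2
  have hb2 := IterFib.bijective_postcomp fs _ (iterFib_RgammaIε fs (ω⟦(-i)⟧))
    ((DRing.RgammaI (Ideal.span {x : A | x ∈ fs})).obj K)
    (IterFib.tors fs _ (iterFib_RgammaIε fs K))
  let e2 : ((DRing.RgammaI (Ideal.span {x : A | x ∈ fs})).obj K ⟶
        (DRing.RgammaI (Ideal.span {x : A | x ∈ fs})).obj (ω⟦(-i)⟧)) ≃ₗ[A]
      ((DRing.RgammaI (Ideal.span {x : A | x ∈ fs})).obj K ⟶ ω⟦(-i)⟧) :=
    LinearEquiv.ofBijective
      (Linear.rightComp A ((DRing.RgammaI (Ideal.span {x : A | x ∈ fs})).obj K)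
        ((DRing.RgammaIε (Ideal.span {x : A | x ∈ fs})).app (ω⟦(-i)⟧))) hb2
  -- step 3
  have hsub : ∀ j : ℤ, j ≠ i → Subsingleton
      (Dual.HD A ((DRing.RgammaI (Ideal.span {x : A | x ∈ fs})).obj (ω⟦(-i)⟧)) j) := by
    intro j hj
    obtain ⟨t1⟩ := S1812_main (Ideal.span {x : A | x ∈ fs}) (ω⟦(-i)⟧) j
    obtain ⟨t2⟩ := hdi_shift_equiv (Ideal.span {x : A | x ∈ fs}) ω (-i) j (j - i) (by omega)
    haveI : Subsingleton (Dual2.HDI A (Ideal.span {x : A | x ∈ fs}) ω (j - i)) := by
      rw [hfs]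
      exact hdi_subsingleton A ω hn (j - i) (by omega)
    exact (t1.trans t2).toEquiv.subsingleton
  obtain ⟨t1⟩ := S1812_main (Ideal.span {x : A | x ∈ fs}) (ω⟦(-i)⟧) i
  obtain ⟨t2⟩ := hdi_shift_equiv (Ideal.span {x : A | x ∈ fs}) ω (-i) i 0 (by omega)
  obtain ⟨t3⟩ : Nonempty (Dual2.HDI A (Ideal.span {x : A | x ∈ fs}) ω 0 ≃ₗ[A] E) := by
    rw [hfs]
    exact hdi_zero_equiv A ω hω hn E f hf
  obtain ⟨s⟩ := nonempty_iso_inD_shift_of_HD_single
    ((DRing.RgammaI (Ideal.span {x : A | x ∈ fs})).obj (ω⟦(-i)⟧)) i (-i) (by omega) hsub E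
    (t1.trans (t2.trans t3))
  -- step 4
  obtain ⟨eB⟩ := hom_inD_shift_equiv
    ((DRing.RgammaI (Ideal.span {x : A | x ∈ fs})).obj K) E (-i) i (by omega)
  obtain ⟨e5⟩ := S1812_main (Ideal.span {x : A | x ∈ fs}) K i
  exact ⟨e1.trans (e2.symm.trans ((Linear.homCongr A (Iso.refl _) s).trans
    (eB.trans (LinearEquiv.congrLeft E A e5))))⟩

theorem S1761_main [IsAdicComplete (IsLocalRing.maximalIdeal A) A] (ω : Dual.D A)
    (hω : Dual.IsDualizing A ω) (hn : Dual.IsNormalized A ω) (E : Type u) [AddCommGroup E]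
    [Module A E] (f : IsLocalRing.ResidueField A →ₗ[A] E) (hf : InjHull.IsInjectiveHull f)
    (K : Dual.D A) (i : ℤ) :
    Nonempty ((K ⟶ ω⟦(-i)⟧) ≃ₗ[A]
      (Dual2.HDI A (IsLocalRing.maximalIdeal A) K i →ₗ[A] E)) := by
  obtain ⟨fs, hfs⟩ := exists_list_span (IsLocalRing.maximalIdeal A)
  have h := S1761_core A ω hω hn E f hf K i fs hfs
  rw [hfs] at h
  exact h

theorem S0374_main [IsAdicComplete (IsLocalRing.maximalIdeal A) A] (ω : Dual.D A)
    (hω : Dual.IsDualizing A ω) (hn : Dual.IsNormalized A ω) (E : Type u) [AddCommGroup E]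
    [Module A E] (f : IsLocalRing.ResidueField A →ₗ[A] E) (hf : InjHull.IsInjectiveHull f)
    (M : Type u) [AddCommGroup M] [Module A M] (i : ℕ) :
    Nonempty ((Dual.inD A M ⟶ ω⟦(-(i : ℤ))⟧) ≃ₗ[A]
      (LocCoh.H (IsLocalRing.maximalIdeal A) i M →ₗ[A] E)) := by
  obtain ⟨fs, hfs⟩ := exists_list_span (IsLocalRing.maximalIdeal A)
  obtain ⟨e0⟩ := S1761_core A ω hω hn E f hf (Dual.inD A M) (i : ℤ) fs hfs
  obtain ⟨e1⟩ := cech_homology_equiv_HDI fs (Dual.inD A M)
    ((HomologicalComplex.single (ModuleCat.{u} A) (ComplexShape.up ℤ) 0).obj (ModuleCat.of A M))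
    ((DerivedCategory.singleFunctorIsoCompQ (ModuleCat.{u} A) 0).app (ModuleCat.of A M)) (i : ℤ)
  obtain ⟨e2⟩ := Groth.Agent.Lib.ExtCechH7.mainEquiv fs i M
  have e3 : DerCA.extCechH fs (ModuleCat.of A M) (i : ℤ) ≃ₗ[A]
      (cech ((HomologicalComplex.single (ModuleCat.{u} A) (ComplexShape.up ℤ) 0).obj
        (ModuleCat.of A M)) fs).homology (i : ℤ) := by
    show (DerCA.extCech (ModuleCat.of A M) fs).homology (i : ℤ) ≃ₗ[A] _
    rw [extCech_eq_cech]
  have e4 : Dual2.HDI A (Ideal.span {x : A | x ∈ fs}) (Dual.inD A M) (i : ℤ) ≃ₗ[A]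
      LocCoh.H (Ideal.span {x : A | x ∈ fs}) i M := e1.symm.trans (e3.symm.trans e2)
  have e5 := e0.trans (LinearEquiv.congrLeft E A e4)
  rw [hfs] at e5
  exact ⟨e5⟩

end Main

end Groth.Agent.Lib.LocDual
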