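import Mathlib
import Groth.Agent.Lib.FlatHom4_helper2
import Groth.Agent.Lib.LocDual1_helper2
import Groth.Agent.Lib.HDIColim4_helper2
import Groth.Agent.Lib.InjHull3_helper3
import Groth.Agent.Lib.CompletionRegular_helper5
import Groth.Agent.S0299

/-!
# Flat base change for `Hom` in the derived category, part 5 (helper2):
local duality over a Noetherian local ring by passing to the completion: annihilators of
`Hom(K, ω[-i])` and of `H^i_m(K)` agree (S1713), and vanishing statements (S19135).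
-/

set_option autoImplicit false
universe u
open CategoryTheory CategoryTheory.Limits CategoryTheory.Pretriangulated DerivedCategory ZeroObject
open scoped TensorProduct ChangeOfRings

attribute [local instance] HasDerivedCategory.standard

namespace Groth.Agent.Lib.FlatHom

open Groth.Agent.Lib.DMod_helper6 DRing Groth.Agent.ExtendScalarsLib
open Groth.Agent.Lib.LocFib Groth.Agent.Lib.RGamma Groth.Agent.Lib.DerCompl
  Groth.Agent.Lib.ExtCechH7 Groth.Agent.Lib.LocBC Groth.Agent.Lib.HDIColim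
  Groth.Agent.Lib.LocDual

section Kills

lemma kills_iff_of_bijective {R X Y : Type*} [Semiring R] [AddCommMonoid X] [AddCommMonoid Y]
    [Module R X] [Module R Y] (φ : X →+ Y) (hφ : Function.Bijective φ) (r : R)
    (hsmul : ∀ x, φ (r • x) = r • φ x) : (∀ x : X, r • x = 0) ↔ (∀ y : Y, r • y = 0) := by
  constructor
  · intro h y
    obtain ⟨x, rfl⟩ := hφ.2 y
    rw [← hsmul, h, map_zero]
  · intro h x
    apply hφ.1
    rw [hsmul, h, map_zero]

lemma kills_iff_of_equiv {R X Y : Type*} [Semiring R] [AddCommMonoid X] [AddCommMonoid Y]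
    [Module R X] [Module R Y] (e : X ≃ₗ[R] Y) (r : R) :
    (∀ x : X, r • x = 0) ↔ (∀ y : Y, r • y = 0) :=
  ⟨fun h y => by rw [← e.apply_symm_apply y, ← map_smul, h, map_zero],
    fun h x => e.injective (by rw [map_smul, h, map_zero])⟩

lemma kills_tensor_iff {A B : Type*} [CommRing A] [CommRing B] [Algebra A B]
    [Module.FaithfullyFlat A B] (X : Type*) [AddCommGroup X] [Module A X] (a : A) :
    (∀ y : B ⊗[A] X, algebraMap A B a • y = 0) ↔ (∀ x : X, a • x = 0) := by
  have key : ∀ y : B ⊗[A] X, algebraMap A B a • y = (LinearMap.lsmul A X a).lTensor B y := by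
    intro y
    induction y using TensorProduct.induction_on with
    | zero => rw [smul_zero, map_zero]
    | tmul b x =>
      rw [LinearMap.lTensor_tmul, LinearMap.lsmul_apply, TensorProduct.smul_tmul', smul_eq_mul,
        ← Algebra.smul_def, TensorProduct.smul_tmul]
    | add y z hy hz => rw [smul_add, map_add, hy, hz]
  constructor
  · intro h
    have h0 : (LinearMap.lsmul A X a).lTensor B = 0 := LinearMap.ext fun y => by
      rw [← key, h]
      rfl
    have h1 := (Module.FaithfullyFlat.zero_iff_lTensor_zero A B (LinearMap.lsmul A X a)).2 h0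
    intro x
    exact LinearMap.congr_fun h1 x
  · intro h y
    rw [key]
    have h1 : LinearMap.lsmul A X a = 0 := LinearMap.ext fun x => h x
    rw [h1, LinearMap.lTensor_zero, LinearMap.zero_apply]

/-- the injective hull of the residue field is a cogenerator (any universe) -/
theorem exists_hom_ne_zero' {R : Type u} [CommRing R] [IsLocalRing R] {E : Type u}
    [AddCommGroup E] [Module R E] (f : IsLocalRing.ResidueField R →ₗ[R] E)
    (hf : InjHull.IsInjectiveHull f) {M : Type*} [AddCommGroup M] [Module R M] (x : M)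
    (hx : x ≠ 0) : ∃ φ : M →ₗ[R] E, φ x ≠ 0 := by
  haveI := hf.isInjective
  let q : R →ₗ[R] M := LinearMap.toSpanSingleton R M x
  let t : R →ₗ[R] E := f ∘ₗ (Algebra.linearMap R (IsLocalRing.ResidueField R))
  have hle : LinearMap.ker q ≤ LinearMap.ker t := by
    intro r hr
    rw [LinearMap.mem_ker] at hr ⊢
    have hrm : r ∈ IsLocalRing.maximalIdeal R := by
      rw [IsLocalRing.mem_maximalIdeal]
      intro hu
      apply hx
      obtain ⟨u, rfl⟩ := hu
      have : (↑u⁻¹ : R) • ((u : R) • x) = 0 := by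
        rw [show (u : R) • x = q (u : R) from rfl, hr, smul_zero]
      rwa [smul_smul, Units.inv_mul, one_smul] at this
    simp only [t, LinearMap.comp_apply, Algebra.linearMap_apply]
    have : algebraMap R (IsLocalRing.ResidueField R) r = 0 :=
      (IsLocalRing.residue_eq_zero_iff r).2 hrm
    rw [this, map_zero]
  let ψ₀ : (R ⧸ LinearMap.ker q) →ₗ[R] E := (LinearMap.ker q).liftQ t hle
  let qbar : (R ⧸ LinearMap.ker q) →ₗ[R] M := (LinearMap.ker q).liftQ q le_rfl
  have hqbar : Function.Injective qbar := by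
    rw [← LinearMap.ker_eq_bot]
    exact Submodule.ker_liftQ_eq_bot _ _ _ le_rfl
  obtain ⟨φ, hφ⟩ := Module.Injective.extension_property R E _ _ qbar hqbar ψ₀
  refine ⟨φ, ?_⟩
  have h1 := LinearMap.congr_fun hφ ((LinearMap.ker q).mkQ 1)
  simp only [LinearMap.comp_apply, qbar, ψ₀, Submodule.mkQ_apply, Submodule.liftQ_apply] at h1
  have hq1 : q 1 = x := by simp [q]
  rw [hq1] at h1
  rw [h1]
  simp only [t, LinearMap.comp_apply, Algebra.linearMap_apply, map_one]
  intro h0
  have := hf.injective (h0.trans (map_zero f).symm)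
  exact one_ne_zero this

lemma kills_dual_iff {R : Type u} [CommRing R] [IsLocalRing R] {E : Type u} [AddCommGroup E]
    [Module R E] (f : IsLocalRing.ResidueField R →ₗ[R] E) (hf : InjHull.IsInjectiveHull f)
    (N : Type*) [AddCommGroup N] [Module R N] (r : R) :
    (∀ g : N →ₗ[R] E, r • g = 0) ↔ (∀ n : N, r • n = 0) := by
  constructor
  · intro h n
    by_contra hne
    obtain ⟨φ, hφ⟩ := exists_hom_ne_zero' f hf (r • n) hne
    apply hφ
    rw [map_smul, ← LinearMap.smul_apply, h φ, LinearMap.zero_apply]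
  · intro h g
    ext n
    rw [LinearMap.smul_apply, ← map_smul, h, map_zero, LinearMap.zero_apply]

end Kills

section BC

variable {A B : Type u} [CommRing A] [CommRing B] [Algebra A B] [Module.Flat A B]

lemma β_smul (K L : Dual.D A) (b : B) (y : B ⊗[A] (K ⟶ L)) :
    β K L (b • y) = b • β K L y := by
  induction y using TensorProduct.induction_on with
  | zero => rw [smul_zero, map_zero, smul_zero]
  | tmul b' φ => rw [TensorProduct.smul_tmul', β_tmul, β_tmul, smul_eq_mul, mul_smul]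
  | add y z hy hz => rw [smul_add, map_add, map_add, hy, hz, smul_add]

/-- flat base change of `colim_n Hom(A/I^n, K[i])`, for the functor induced by `- ⊗ B` -/
theorem hdi_bcD_equiv [IsNoetherianRing A] [IsNoetherianRing B] (I : Ideal A) (K : Dual.D A)
    (i : ℤ) :
    Nonempty (Dual2.HDI B (I.map (algebraMap A B)) ((bcD A B).obj K) i ≃ₗ[B]
      B ⊗[A] (Dual2.HDI A I K i)) := by
  obtain ⟨fs, hfs⟩ := exists_list_span I
  subst hfs
  rw [map_span_list]
  let X := Q.objPreimage K
  let eX : K ≅ Q.obj X := (Q.objObjPreimageIso K).symm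
  obtain ⟨E_A⟩ := cech_homology_equiv_HDI fs K X eX i
  let eXB : (bcD A B).obj K ≅ Q.obj ((EC (algebraMap A B)).obj X) :=
    (bcD A B).mapIso eX ≪≫ bcDIso X
  obtain ⟨E_B⟩ := cech_homology_equiv_HDI (fs.map (algebraMap A B))
    ((bcD A B).obj K) ((EC (algebraMap A B)).obj X) eXB i
  have h1 := iterFib_cech ((EC (algebraMap A B)).obj X) (fs.map (algebraMap A B))
  have h2 := iterFib_EC (algebraMap A B) X fs
  obtain ⟨e1, -⟩ := IterFib.unique (fs.map (algebraMap A B)) _ _ (Iso.refl _) h1 h2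
  let i1 : (cech ((EC (algebraMap A B)).obj X) (fs.map (algebraMap A B))).homology i ≅
      ((EC (algebraMap A B)).obj (cech X fs)).homology i :=
    ((DerivedCategory.homologyFunctorFactors (ModuleCat.{u} B) i).app _).symm ≪≫
      (DerivedCategory.homologyFunctor (ModuleCat.{u} B) i).mapIso e1 ≪≫
      (DerivedCategory.homologyFunctorFactors (ModuleCat.{u} B) i).app _
  let i2 : ((EC (algebraMap A B)).obj (cech X fs)).homology i ≅
      (ES A B).obj ((cech X fs).homology i) :=
    ((cech X fs).sc i).mapHomologyIso (ES A B)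
  let L1 : Dual2.HDI B (Ideal.span {y : B | y ∈ fs.map (algebraMap A B)})
      ((bcD A B).obj K) i ≃ₗ[B]
      (ES A B).obj ((cech X fs).homology i) := E_B.symm.trans (i1 ≪≫ i2).toLinearEquiv
  let L2 := extendScalarsEquivTensor (S := B) ((cech X fs).homology i)
  let L3 : B ⊗[A] ((cech X fs).homology i) ≃ₗ[B]
      B ⊗[A] (Dual2.HDI A (Ideal.span {x : A | x ∈ fs}) K i) :=
    TensorProduct.AlgebraTensorModule.congr (LinearEquiv.refl B B) E_A
  exact ⟨(L1.trans L2).trans L3⟩

end BC

/-- over a Noetherian ring, `colim_n Hom(A/I^n, M[i])` is the local cohomology module -/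
theorem hdi_inD_equiv_locCoh {A : Type u} [CommRing A] [IsNoetherianRing A] (I : Ideal A)
    (M : Type u) [AddCommGroup M] [Module A M] (i : ℕ) :
    Nonempty (Dual2.HDI A I (Dual.inD A M) (i : ℤ) ≃ₗ[A] LocCoh.H I i M) := by
  obtain ⟨fs, hfs⟩ := exists_list_span I
  subst hfs
  obtain ⟨e1⟩ := cech_homology_equiv_HDI fs (Dual.inD A M)
    ((HomologicalComplex.single (ModuleCat.{u} A) (ComplexShape.up ℤ) 0).obj (ModuleCat.of A M))
    ((DerivedCategory.singleFunctorIsoCompQ (ModuleCat.{u} A) 0).app (ModuleCat.of A M)) (i : ℤ)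
  obtain ⟨e2⟩ := Groth.Agent.Lib.ExtCechH7.mainEquiv fs i M
  have e3 : DerCA.extCechH fs (ModuleCat.of A M) (i : ℤ) ≃ₗ[A]
      (cech ((HomologicalComplex.single (ModuleCat.{u} A) (ComplexShape.up ℤ) 0).obj
        (ModuleCat.of A M)) fs).homology (i : ℤ) := by
    show (DerCA.extCech (ModuleCat.of A M) fs).homology (i : ℤ) ≃ₗ[A] _
    rw [extCech_eq_cech]
  exact ⟨e1.symm.trans (e3.symm.trans e2)⟩

section Main

/-- local duality through a complete faithfully flat local extension `B` with `m_A B = m_B`: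
an element of `A` kills `Hom(K, ω[-i])` iff it kills `H^i_m(K)` -/
theorem kills_aux (A B : Type u) [CommRing A] [CommRing B] [IsLocalRing A] [IsLocalRing B]
    [Algebra A B] [IsNoetherianRing A] [IsNoetherianRing B] [Module.FaithfullyFlat A B]
    [IsAdicComplete (IsLocalRing.maximalIdeal B) B]
    (hm : (IsLocalRing.maximalIdeal A).map (algebraMap A B) = IsLocalRing.maximalIdeal B)
    (ω : Dual.D A) (hω : Dual.IsDualizing A ω) (hn : Dual.IsNormalized A ω) (K : Dual.D A)
    (hK : IsPseudoCoherent' A K) (i j : ℤ) (hij : j = -i) (a : A) :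
    (∀ x : K ⟶ ω⟦j⟧, a • x = 0) ↔
      (∀ x : Dual2.HDI A (IsLocalRing.maximalIdeal A) K i, a • x = 0) := by
  subst hij
  obtain ⟨hωB, hnB⟩ := isDualizing_bcD_of_local hm ω hω hn
  obtain ⟨E, _, _, f, hf⟩ := Groth.Agent.S0299.result B (IsLocalRing.ResidueField B)
  obtain ⟨e1⟩ := S1761_main B ((bcD A B).obj ω) hωB hnB E f hf ((bcD A B).obj K) i
  obtain ⟨e2⟩ := hdi_bcD_equiv (B := B) (IsLocalRing.maximalIdeal A) K i
  rw [hm] at e2
  obtain ⟨a', b', hab⟩ := hω.finite_injective_dimension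
  have hb : ∃ a b : ℤ, ∀ j : ℤ, (j < a ∨ b < j) → Subsingleton (Dual.HD A ω j) :=
    ⟨a', b', fun j hj => subsingleton_HD_of_hom_quot_bot ω j (hab (A ⧸ (⊥ : Ideal A)) j hj)⟩
  have hβ : Function.Bijective (β (B := B) K (ω⟦(-i)⟧)) := flatHom_gb K ω hK hb (-i)
  have s1 : (∀ x : K ⟶ ω⟦(-i)⟧, a • x = 0) ↔
      (∀ y : B ⊗[A] (K ⟶ ω⟦(-i)⟧), algebraMap A B a • y = 0) :=
    (kills_tensor_iff (B := B) (K ⟶ ω⟦(-i)⟧) a).symm
  have s2 : (∀ y : B ⊗[A] (K ⟶ ω⟦(-i)⟧), algebraMap A B a • y = 0) ↔
      (∀ g : (bcD A B).obj K ⟶ (bcD A B).obj (ω⟦(-i)⟧), algebraMap A B a • g = 0) :=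
    kills_iff_of_bijective (β (B := B) K (ω⟦(-i)⟧)) hβ (algebraMap A B a)
      (fun y => β_smul K _ _ y)
  have s3 : (∀ g : (bcD A B).obj K ⟶ (bcD A B).obj (ω⟦(-i)⟧), algebraMap A B a • g = 0) ↔
      (∀ g : (bcD A B).obj K ⟶ ((bcD A B).obj ω)⟦(-i)⟧, algebraMap A B a • g = 0) :=
    kills_iff_of_equiv (Linear.homCongr B (Iso.refl ((bcD A B).obj K))
      (((bcD A B).commShiftIso (-i)).app ω)) (algebraMap A B a)
  have s4 := kills_iff_of_equiv e1 (algebraMap A B a)
  have s5 : (∀ g : Dual2.HDI B (IsLocalRing.maximalIdeal B) ((bcD A B).obj K) i →ₗ[B] E,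
      algebraMap A B a • g = 0) ↔
      (∀ n : Dual2.HDI B (IsLocalRing.maximalIdeal B) ((bcD A B).obj K) i,
        algebraMap A B a • n = 0) := kills_dual_iff f hf _ (algebraMap A B a)
  have s6 := kills_iff_of_equiv e2 (algebraMap A B a)
  have s7 := kills_tensor_iff (B := B) (Dual2.HDI A (IsLocalRing.maximalIdeal A) K i) a
  exact s1.trans (s2.trans (s3.trans (s4.trans (s5.trans (s6.trans s7)))))

variable (A : Type u) [CommRing A] [IsLocalRing A] [IsNoetherianRing A]

/-- an element of `A` kills `Hom(K, ω[-i])` iff it kills `H^i_m(K)` -/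
theorem kills_hom_iff_kills_hdi (ω : Dual.D A) (hω : Dual.IsDualizing A ω)
    (hn : Dual.IsNormalized A ω) (K : Dual.D A) (hK : IsPseudoCoherent' A K) (i j : ℤ)
    (hij : j = -i) (a : A) :
    (∀ x : K ⟶ ω⟦j⟧, a • x = 0) ↔
      (∀ x : Dual2.HDI A (IsLocalRing.maximalIdeal A) K i, a • x = 0) := by
  haveI : IsNoetherianRing (AdicCompletion (IsLocalRing.maximalIdeal A) A) :=
    Groth.Agent.RegularLib.isNoetherianRing_adicCompletion A _
  haveI : Module.FaithfullyFlat A (AdicCompletion (IsLocalRing.maximalIdeal A) A) :=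
    Module.FaithfullyFlat.of_flat_of_isLocalHom
  exact kills_aux A (AdicCompletion (IsLocalRing.maximalIdeal A) A)
    AdicCompletion.maximalIdeal_eq_map.symm ω hω hn K hK i j hij a

/-- S1713. -/
theorem S1713_main (ω : Dual.D A) (hω : Dual.IsDualizing A ω) (hn : Dual.IsNormalized A ω)
    (M : Type u) [AddCommGroup M] [Module A M] [Module.Finite A M] (i : ℕ) :
    Module.annihilator A (Dual.inD A M ⟶ ω⟦(-(i : ℤ))⟧) =
      Module.annihilator A (LocCoh.H (IsLocalRing.maximalIdeal A) i M) := by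
  have hpc : IsPseudoCoherent' A (Dual.inD A M) := isPseudoCoherentModule'_of_finite _
  obtain ⟨e3⟩ := hdi_inD_equiv_locCoh (IsLocalRing.maximalIdeal A) M i
  ext a
  rw [Module.mem_annihilator, Module.mem_annihilator]
  exact (kills_hom_iff_kills_hdi A ω hω hn _ hpc (i : ℤ) _ rfl a).trans (kills_iff_of_equiv e3 a)

/-- vanishing of `Hom(M, ω[i])` and of `H^{-i}(RΓ_m M)` are equivalent -/
theorem subsingleton_hom_iff_rgamma (ω : Dual.D A) (hω : Dual.IsDualizing A ω)
    (hn : Dual.IsNormalized A ω) [DRing.HasRgammaI (IsLocalRing.maximalIdeal A)] (M : Dual.D A)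
    (hpc : IsPseudoCoherent' A M) (i j : ℤ) (hij : j = -i) :
    Subsingleton (M ⟶ ω⟦j⟧) ↔
      Subsingleton (Dual.HD A ((DRing.RgammaI (IsLocalRing.maximalIdeal A)).obj M) i) := by
  obtain ⟨e⟩ := S1812_main (IsLocalRing.maximalIdeal A) M i
  have h1 := kills_hom_iff_kills_hdi A ω hω hn M hpc i j hij 1
  constructor
  · intro hs
    have h2 := h1.1 (fun x => Subsingleton.elim _ _)
    haveI : Subsingleton (Dual2.HDI A (IsLocalRing.maximalIdeal A) M i) :=
      ⟨fun x y => by rw [← one_smul A x, ← one_smul A y, h2 x, h2 y]⟩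
    exact e.toEquiv.subsingleton
  · intro hs
    haveI : Subsingleton (Dual2.HDI A (IsLocalRing.maximalIdeal A) M i) :=
      e.symm.toEquiv.subsingleton
    have h2 := h1.2 (fun x => Subsingleton.elim _ _)
    exact ⟨fun x y => by rw [← one_smul A x, ← one_smul A y, h2 x, h2 y]⟩

/-- S19135. -/
theorem S19135_main (ω : Dual.D A) (hω : Dual.IsDualizing A ω) (hn : Dual.IsNormalized A ω)
    [DRing.HasRgammaI (IsLocalRing.maximalIdeal A)] (M : Dual.D A)
    (hfin : ∀ i : ℤ, Module.Finite A (Dual.HD A M i))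
    (hbd : ∃ a b : ℤ, ∀ i : ℤ, (i < a ∨ b < i) → Subsingleton (Dual.HD A M i)) :
    ((∀ i : ℤ, i < 0 → Subsingleton (M ⟶ ω⟦i⟧)) ↔
      (∀ i : ℤ, 0 < i → Subsingleton
        (Dual.HD A ((DRing.RgammaI (IsLocalRing.maximalIdeal A)).obj M) i))) ∧
    ((∀ i : ℤ, 0 < i → Subsingleton (M ⟶ ω⟦i⟧)) ↔
      (∀ i : ℤ, i < 0 → Subsingleton
        (Dual.HD A ((DRing.RgammaI (IsLocalRing.maximalIdeal A)).obj M) i))) := by
  have hpc : IsPseudoCoherent' A M := by
    obtain ⟨a, b, hab⟩ := hbd
    refine isPseudoCoherent'_of_homology M ⟨b, fun j hj => hab j (Or.inr hj)⟩ (fun j => ?_)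
    haveI := hfin j
    exact isPseudoCoherentModule'_of_finite _
  have key : ∀ i j : ℤ, j = -i → (Subsingleton (M ⟶ ω⟦j⟧) ↔ Subsingleton
      (Dual.HD A ((DRing.RgammaI (IsLocalRing.maximalIdeal A)).obj M) i)) :=
    fun i j hij => subsingleton_hom_iff_rgamma A ω hω hn M hpc i j hij
  refine ⟨⟨fun h i hi => ?_, fun h i hi => ?_⟩, ⟨fun h i hi => ?_, fun h i hi => ?_⟩⟩
  · exact (key i (-i) rfl).1 (h (-i) (by omega))
  · exact (key (-i) i (by omega)).2 (h (-i) (by omega))
  · exact (key i (-i) rfl).1 (h (-i) (by omega))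
  · exact (key (-i) i (by omega)).2 (h (-i) (by omega))

end Main

end Groth.Agent.Lib.FlatHom
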