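import Mathlib
import Groth.Prelude.Def_Wider
import Groth.Agent.Lib.Matlis3_helper5

/-!
# Flat base change of the injective hull of the residue field (helper5)
-/

universe u

namespace Groth.Agent.Matlis

open IsLocalRing TensorProduct

section FlatBC

variable {A B : Type u} [CommRing A] [IsLocalRing A] [IsNoetherianRing A] [CommRing B]
  [IsLocalRing B] [IsNoetherianRing B] [Algebra A B] [Module.Flat A B]
  (hm : (maximalIdeal A).map (algebraMap A B) = maximalIdeal B)

include hm in
lemma map_pow_eq (n : ℕ) :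
    (maximalIdeal A ^ n).map (algebraMap A B) = maximalIdeal B ^ n := by
  rw [Ideal.map_pow, hm]

/-- `B ⊗ A/m^n ≃ B/m_B^n` -/
noncomputable def tensorQuotPowEquiv (n : ℕ) :
    B ⊗[A] (A ⧸ maximalIdeal A ^ n) ≃ₗ[B] (B ⧸ maximalIdeal B ^ n) :=
  ((Algebra.TensorProduct.quotIdealMapEquivTensorQuot B (maximalIdeal A ^ n)).symm.toLinearEquiv).trans
    (Submodule.quotEquivOfEq _ _ (map_pow_eq hm n))

/-- `B ⊗ k_A ≃ k_B` -/
noncomputable def tensorResidueEquiv :
    B ⊗[A] (A ⧸ maximalIdeal A) ≃ₗ[B] (B ⧸ maximalIdeal B) :=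
  ((Algebra.TensorProduct.quotIdealMapEquivTensorQuot B (maximalIdeal A)).symm.toLinearEquiv).trans
    (Submodule.quotEquivOfEq _ _ hm)

include hm in
lemma length_baseChange (X : Type u) [AddCommGroup X] [Module A X] (hX : IsFiniteLength A X) :
    Module.length B (B ⊗[A] X) = Module.length A X := by
  induction hX with
  | @of_subsingleton X _ _ _ =>
    haveI : Subsingleton (B ⊗[A] X) := by
      refine subsingleton_of_forall_eq 0 fun t => ?_
      induction t using TensorProduct.induction_on with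
      | zero => rfl
      | tmul b x => rw [Subsingleton.elim x 0, TensorProduct.tmul_zero]
      | add a b ha hb => rw [ha, hb, add_zero]
    rw [Module.length_eq_zero_iff.mpr inferInstance, Module.length_eq_zero_iff.mpr inferInstance]
  | @of_simple_quotient X _ _ N hS hN ih =>
    have h1 := Module.length_eq_add_of_exact N.subtype N.mkQ (Submodule.subtype_injective N)
      (Submodule.mkQ_surjective N) (LinearMap.exact_subtype_mkQ N)
    have h2 := Module.length_eq_add_of_exact (N.subtype.baseChange B) (N.mkQ.baseChange B)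
      (by
        rw [LinearMap.baseChange_eq_ltensor]
        exact Module.Flat.lTensor_preserves_injective_linearMap _ (Submodule.subtype_injective N))
      (by
        rw [LinearMap.baseChange_eq_ltensor]
        exact LinearMap.lTensor_surjective B (Submodule.mkQ_surjective N))
      (by
        rw [LinearMap.baseChange_eq_ltensor, LinearMap.baseChange_eq_ltensor]
        exact Module.Flat.lTensor_exact B (LinearMap.exact_subtype_mkQ N))
    have hsimple : IsSimpleModule B (B ⊗[A] (X ⧸ N)) := by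
      obtain ⟨I, hI, ⟨e⟩⟩ := isSimpleModule_iff_quot_maximal.mp hS
      obtain rfl := eq_maximalIdeal hI
      haveI : IsSimpleModule B (B ⧸ maximalIdeal B) :=
        isSimpleModule_iff_isCoatom.mpr (Ideal.isMaximal_def.mp inferInstance)
      exact IsSimpleModule.congr ((e.baseChange A B _ _).trans (tensorResidueEquiv hm))
    rw [h1, h2, ih, Module.length_eq_one_iff (M := B ⊗[A] (X ⧸ N)) |>.mpr hsimple,
      Module.length_eq_one_iff (M := X ⧸ N) |>.mpr hS]

/-- flat base change of `Hom` out of a finitely presented module -/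
noncomputable def homBaseChangeEquiv (M E : Type u) [AddCommGroup M] [Module A M] [AddCommGroup E]
    [Module A E] [Module.FinitePresentation A M] :
    B ⊗[A] (M →ₗ[A] E) ≃ₗ[B] (B ⊗[A] M →ₗ[B] B ⊗[A] E) :=
  (Module.FinitePresentation.isBaseChange_map A M E B).equiv

variable {E : Type u} [AddCommGroup E] [Module A E]

include hm in
/-- S0312 -/
theorem flat_baseChange_injectiveHull (f : ResidueField A →ₗ[A] E)
    (hf : InjHull.IsInjectiveHull f) :
    ∃ g : ResidueField B →ₗ[B] B ⊗[A] E, InjHull.IsInjectiveHull g := by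
  have hy := isSocleGen_of_isEssentialInj hf.toIsEssentialInj
  haveI := hf.isInjective
  apply injectiveHull_of_length (A := B) (I := B ⊗[A] E) ?_ ?_ (fun n => maximalIdeal B ^ n)
    (fun n => ⟨n, le_rfl⟩) (fun N => ⟨N, le_rfl⟩) ?_
  · -- power torsion
    intro t
    induction t using TensorProduct.induction_on with
    | zero => exact ⟨0, fun a _ => smul_zero a⟩
    | tmul b e =>
      obtain ⟨n, hn⟩ := hy.isPowerTorsion e
      refine ⟨n, fun a ha => ?_⟩
      rw [← map_pow_eq hm n, Ideal.map] at ha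
      induction ha using Submodule.span_induction with
      | mem c hc =>
        obtain ⟨r, hr, rfl⟩ := hc
        rw [TensorProduct.smul_tmul', smul_eq_mul, ← Algebra.smul_def, TensorProduct.smul_tmul,
          hn r hr, TensorProduct.tmul_zero]
      | zero => exact zero_smul _ _
      | add c d _ _ hc hd => rw [add_smul, hc, hd, add_zero]
      | smul s c _ hc => rw [smul_eq_mul, mul_smul, hc, smul_zero]
    | add x y hx hy' =>
      obtain ⟨n1, h1⟩ := hx
      obtain ⟨n2, h2⟩ := hy'
      refine ⟨max n1 n2, fun a ha => ?_⟩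
      rw [smul_add, h1 a (Ideal.pow_le_pow_right (le_max_left _ _) ha),
        h2 a (Ideal.pow_le_pow_right (le_max_right _ _) ha), add_zero]
  · -- the socle
    have hsimple : IsSimpleModule A ((A ⧸ maximalIdeal A) →ₗ[A] E) := hy.isSimpleModule_hom
    obtain ⟨I, hI, ⟨e0⟩⟩ := isSimpleModule_iff_quot_maximal.mp hsimple
    obtain rfl := eq_maximalIdeal hI
    let eK : ResidueField B ≃ₗ[B] B ⊗[A] (A ⧸ maximalIdeal A) := (tensorResidueEquiv hm).symm
    haveI : Module.FinitePresentation A (A ⧸ maximalIdeal A) :=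
      Module.finitePresentation_of_finite A _
    exact ⟨(LinearEquiv.congrLeft (B ⊗[A] E) B eK).trans
      ((homBaseChangeEquiv (B := B) (A ⧸ maximalIdeal A) E).symm.trans
        ((e0.baseChange A B _ _).trans (tensorResidueEquiv hm)))⟩
  · -- lengths
    intro n
    have hMn : IsFiniteLength A (A ⧸ maximalIdeal A ^ n) :=
      isFiniteLength_quotient_of_pow_le _ n le_rfl
    have h1 : Module.length B (B ⧸ maximalIdeal B ^ n) =
        Module.length A (A ⧸ maximalIdeal A ^ n) := by
      rw [← (tensorQuotPowEquiv hm n).length_eq, length_baseChange hm _ hMn]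
    have hD : IsFiniteLength A ((A ⧸ maximalIdeal A ^ n) →ₗ[A] E) := by
      rw [← Module.length_ne_top_iff, length_hom hy _ hMn]
      exact Module.length_ne_top_iff.mpr hMn
    haveI : Module.FinitePresentation A (A ⧸ maximalIdeal A ^ n) :=
      Module.finitePresentation_of_finite A _
    have e1 : ((B ⧸ maximalIdeal B ^ n) →ₗ[B] B ⊗[A] E) ≃ₗ[B]
        (B ⊗[A] (A ⧸ maximalIdeal A ^ n) →ₗ[B] B ⊗[A] E) :=
      (LinearEquiv.congrLeft (B ⊗[A] E) B (tensorQuotPowEquiv hm n)).symm
    have e2 : B ⊗[A] ((A ⧸ maximalIdeal A ^ n) →ₗ[A] E) ≃ₗ[B]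
        (B ⊗[A] (A ⧸ maximalIdeal A ^ n) →ₗ[B] B ⊗[A] E) :=
      homBaseChangeEquiv (B := B) (A ⧸ maximalIdeal A ^ n) E
    have h2 : Module.length B ((B ⧸ maximalIdeal B ^ n) →ₗ[B] B ⊗[A] E) =
        Module.length A (A ⧸ maximalIdeal A ^ n) := by
      have h3 : Module.length B ((B ⧸ maximalIdeal B ^ n) →ₗ[B] B ⊗[A] E) =
          Module.length B (B ⊗[A] (A ⧸ maximalIdeal A ^ n) →ₗ[B] B ⊗[A] E) :=
        LinearEquiv.length_eq (R := B) (M := (B ⧸ maximalIdeal B ^ n) →ₗ[B] B ⊗[A] E)
          (N := B ⊗[A] (A ⧸ maximalIdeal A ^ n) →ₗ[B] B ⊗[A] E) e1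
      have h4 : Module.length B (B ⊗[A] ((A ⧸ maximalIdeal A ^ n) →ₗ[A] E)) =
          Module.length B (B ⊗[A] (A ⧸ maximalIdeal A ^ n) →ₗ[B] B ⊗[A] E) :=
        LinearEquiv.length_eq (R := B) (M := B ⊗[A] ((A ⧸ maximalIdeal A ^ n) →ₗ[A] E))
          (N := B ⊗[A] (A ⧸ maximalIdeal A ^ n) →ₗ[B] B ⊗[A] E) e2
      rw [h3, ← h4, length_baseChange hm _ hD, length_hom hy _ hMn]
    show Module.length B (B ⧸ maximalIdeal B ^ n) =
      Module.length B ((B ⧸ maximalIdeal B ^ n) →ₗ[B] B ⊗[A] E)
    rw [h1, h2]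

end FlatBC

end Groth.Agent.Matlis
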