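import Mathlib
import Groth.Prelude.Def_Wider
import Groth.Agent.Lib.Matlis3_helper5
import Groth.Agent.Lib.InjHull3_helper3
import Groth.Agent.Lib.CompletionRegular_helper5
import Groth.Agent.S6035

/-!
# Endomorphisms of the injective hull of the residue field (helper5)
-/

universe u

namespace Groth.Agent.Matlis

open IsLocalRing

section EndE

variable {R : Type u} [CommRing R] [IsLocalRing R] {E : Type u} [AddCommGroup E] [Module R E]

lemma cauchy_sub_mem (a : AdicCompletion.AdicCauchySequence (maximalIdeal R) R) {j k : ℕ}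
    (hjk : j ≤ k) : a k - a j ∈ maximalIdeal R ^ j :=
  Ideal.Quotient.eq.mp (AdicCompletion.Ideal.mk_eq_mk (maximalIdeal R) hjk a)

lemma cauchy_smul_eq (a : AdicCompletion.AdicCauchySequence (maximalIdeal R) R) {x : E} {j k : ℕ}
    (hx : ∀ r ∈ maximalIdeal R ^ j, r • x = 0) (hjk : j ≤ k) : a k • x = a j • x := by
  have := hx _ (cauchy_sub_mem a hjk)
  rwa [sub_smul, sub_eq_zero] at this

variable (htor : LocCoh.IsPowerTorsion (maximalIdeal R) E)

/-- the least exponent killing `x` -/
noncomputable def ord (x : E) : ℕ := by classical exact Nat.find (htor x)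

lemma ord_spec (x : E) : ∀ r ∈ maximalIdeal R ^ ord htor x, r • x = 0 := by
  classical exact Nat.find_spec (htor x)

lemma ord_le {x : E} {j : ℕ} (hx : ∀ r ∈ maximalIdeal R ^ j, r • x = 0) : ord htor x ≤ j := by
  classical exact Nat.find_min' (htor x) hx

lemma key (a : AdicCompletion.AdicCauchySequence (maximalIdeal R) R) {x : E} {j : ℕ}
    (hx : ∀ r ∈ maximalIdeal R ^ j, r • x = 0) : a (ord htor x) • x = a j • x :=
  (cauchy_smul_eq a (ord_spec htor x) (ord_le htor hx)).symm

/-- the endomorphism attached to a Cauchy sequence -/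
noncomputable def ΘLin (a : AdicCompletion.AdicCauchySequence (maximalIdeal R) R) :
    E →ₗ[R] E where
  toFun x := a (ord htor x) • x
  map_add' x y := by
    have hx : ∀ r ∈ maximalIdeal R ^ (max (ord htor x) (ord htor y)), r • x = 0 := fun r hr =>
      ord_spec htor x r (Ideal.pow_le_pow_right (le_max_left _ _) hr)
    have hy : ∀ r ∈ maximalIdeal R ^ (max (ord htor x) (ord htor y)), r • y = 0 := fun r hr =>
      ord_spec htor y r (Ideal.pow_le_pow_right (le_max_right _ _) hr)
    have hxy : ∀ r ∈ maximalIdeal R ^ (max (ord htor x) (ord htor y)), r • (x + y) = 0 :=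
      fun r hr => by rw [smul_add, hx r hr, hy r hr, add_zero]
    rw [key htor a hx, key htor a hy, key htor a hxy, smul_add]
  map_smul' r x := by
    have hrx : ∀ s ∈ maximalIdeal R ^ (ord htor x), s • (r • x) = 0 := fun s hs => by
      rw [smul_comm, ord_spec htor x s hs, smul_zero]
    rw [RingHom.id_apply, key htor a hrx, smul_comm]

lemma ΘLin_apply (a : AdicCompletion.AdicCauchySequence (maximalIdeal R) R) {x : E} {j : ℕ}
    (hx : ∀ r ∈ maximalIdeal R ^ j, r • x = 0) : ΘLin htor a x = a j • x := key htor a hx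

/-- the algebra map from Cauchy sequences to endomorphisms -/
noncomputable def Θ :
    AdicCompletion.AdicCauchySequence (maximalIdeal R) R →ₐ[R] Module.End R E :=
  AlgHom.ofLinearMap
    { toFun := ΘLin htor
      map_add' := fun a b => by
        ext x
        show (a + b) (ord htor x) • x = a (ord htor x) • x + b (ord htor x) • x
        rw [AdicCompletion.AdicCauchySequence.add_apply, add_smul]
      map_smul' := fun r a => by
        ext x
        show (r • a) (ord htor x) • x = r • (a (ord htor x) • x)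
        rw [AdicCompletion.AdicCauchySequence.smul_apply, smul_assoc] }
    (by
      ext x
      show (1 : AdicCompletion.AdicCauchySequence (maximalIdeal R) R) (ord htor x) • x = x
      rw [AdicCompletion.one_apply, one_smul])
    (by
      intro a b
      ext x
      show (a * b) (ord htor x) • x = ΘLin htor a (ΘLin htor b x)
      have hbx : ∀ r ∈ maximalIdeal R ^ (ord htor x), r • (b (ord htor x) • x) = 0 :=
        fun r hr => by rw [smul_comm, ord_spec htor x r hr, smul_zero]
      rw [show ΘLin htor b x = b (ord htor x) • x from rfl, ΘLin_apply htor a hbx,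
        AdicCompletion.mul_apply, mul_smul])

lemma Θ_apply (a : AdicCompletion.AdicCauchySequence (maximalIdeal R) R) {x : E} {j : ℕ}
    (hx : ∀ r ∈ maximalIdeal R ^ j, r • x = 0) : Θ htor a x = a j • x := key htor a hx

variable (f : ResidueField R →ₗ[R] E) (hf : InjHull.IsInjectiveHull f)

include hf in
lemma mem_pow_of_kills (k : ℕ) (r : R)
    (h : ∀ x : E, (∀ s ∈ maximalIdeal R ^ k, s • x = 0) → r • x = 0) :
    r ∈ maximalIdeal R ^ k := by
  by_contra hr
  have hne : (Ideal.Quotient.mk (maximalIdeal R ^ k) r) ≠ 0 :=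
    fun h0 => hr (Ideal.Quotient.eq_zero_iff_mem.mp h0)
  obtain ⟨φ, hφ⟩ := Groth.Agent.Lib.InjHull3_helper3.exists_hom_ne_zero f hf
    (M := R ⧸ maximalIdeal R ^ k) _ hne
  apply hφ
  have e : ∀ t : R, (Ideal.Quotient.mk (maximalIdeal R ^ k) t) =
      t • (Ideal.Quotient.mk (maximalIdeal R ^ k) 1) := fun t => by
    rw [Algebra.smul_def, Ideal.Quotient.algebraMap_eq, map_one, mul_one]
  have h1 : ∀ s ∈ maximalIdeal R ^ k, s • φ (Ideal.Quotient.mk (maximalIdeal R ^ k) 1) = 0 := by
    intro s hs
    rw [← map_smul, ← e s, Ideal.Quotient.eq_zero_iff_mem.mpr hs, map_zero]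
  rw [e r, map_smul]
  exact h _ h1

include hf in
lemma exists_smul_of_end [IsNoetherianRing R] (φ : Module.End R E) (k : ℕ) :
    ∃ r : R, ∀ x : E, (∀ s ∈ maximalIdeal R ^ k, s • x = 0) → φ x = r • x := by
  have hM : IsFiniteLength R (R ⧸ maximalIdeal R ^ k) :=
    isFiniteLength_quotient_of_pow_le _ k le_rfl
  let lam : ((R ⧸ maximalIdeal R ^ k) →ₗ[R] E) →ₗ[R] E :=
    φ ∘ₗ (LinearMap.applyₗ (Ideal.Quotient.mk (maximalIdeal R ^ k) 1 : R ⧸ maximalIdeal R ^ k))
  obtain ⟨t, ht⟩ := (Groth.Agent.S6035.result R E f hf (R ⧸ maximalIdeal R ^ k) hM).2 lam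
  obtain ⟨r, rfl⟩ := Ideal.Quotient.mk_surjective t
  refine ⟨r, fun x hx => ?_⟩
  let ψ : (R ⧸ maximalIdeal R ^ k) →ₗ[R] E :=
    (maximalIdeal R ^ k).liftQ (LinearMap.toSpanSingleton R E x) (fun s hs => by
      rw [LinearMap.mem_ker, LinearMap.toSpanSingleton_apply]; exact hx s hs)
  have h1 : ψ (Ideal.Quotient.mk (maximalIdeal R ^ k) 1) = x := by
    show (maximalIdeal R ^ k).liftQ _ _ (Submodule.Quotient.mk 1) = x
    rw [Submodule.liftQ_apply, LinearMap.toSpanSingleton_apply, one_smul]
  have h2 : ψ (Ideal.Quotient.mk (maximalIdeal R ^ k) r) = r • x := by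
    show (maximalIdeal R ^ k).liftQ _ _ (Submodule.Quotient.mk r) = r • x
    rw [Submodule.liftQ_apply, LinearMap.toSpanSingleton_apply]
  have h3 := LinearMap.congr_fun ht ψ
  have h4 : lam ψ = φ (ψ (Ideal.Quotient.mk (maximalIdeal R ^ k) 1)) := rfl
  have h5 : (LinearMap.applyₗ (Ideal.Quotient.mk (maximalIdeal R ^ k) r) :
      ((R ⧸ maximalIdeal R ^ k) →ₗ[R] E) →ₗ[R] E) ψ =
      ψ (Ideal.Quotient.mk (maximalIdeal R ^ k) r) := rfl
  rw [h4, h5, h1, h2] at h3
  exact h3.symm

include hf in
lemma Θ_surjective [IsNoetherianRing R] : Function.Surjective (Θ htor) := by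
  intro φ
  choose r hr using fun k => exists_smul_of_end f hf φ k
  have hcauchy : ∀ n, r n ≡ r (n + 1) [SMOD (maximalIdeal R ^ n • ⊤ : Submodule R R)] := by
    intro n
    rw [SModEq.sub_mem, smul_eq_mul, Ideal.mul_top]
    apply mem_pow_of_kills f hf n
    intro x hx
    have hx' : ∀ s ∈ maximalIdeal R ^ (n + 1), s • x = 0 := fun s hs =>
      hx s (Ideal.pow_le_pow_right (Nat.le_succ n) hs)
    rw [sub_smul, ← hr n x hx, ← hr (n + 1) x hx', sub_self]
  refine ⟨⟨r, by rw [AdicCompletion.isAdicCauchy_iff]; exact hcauchy⟩, ?_⟩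
  ext x
  rw [Θ_apply htor _ (ord_spec htor x)]
  exact (hr _ x (ord_spec htor x)).symm

include hf in
lemma ker_Θ_eq : RingHom.ker (Θ htor) = RingHom.ker (AdicCompletion.mkₐ (maximalIdeal R)) := by
  ext a
  rw [RingHom.mem_ker, RingHom.mem_ker]
  constructor
  · intro h
    apply AdicCompletion.ext_evalₐ
    intro n
    rw [AdicCompletion.evalₐ_mkₐ, map_zero, Ideal.Quotient.eq_zero_iff_mem]
    apply mem_pow_of_kills f hf n
    intro x hx
    have := LinearMap.congr_fun h x
    rwa [Θ_apply htor a hx] at this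
  · intro h
    ext x
    rw [Θ_apply htor a (ord_spec htor x)]
    have h1 := congrArg (AdicCompletion.evalₐ (maximalIdeal R) (ord htor x)) h
    rw [AdicCompletion.evalₐ_mkₐ, map_zero, Ideal.Quotient.eq_zero_iff_mem] at h1
    exact ord_spec htor x _ h1

include hf in
/-- S0313 -/
theorem end_algEquiv [IsNoetherianRing R] :
    Nonempty (Module.End R E ≃ₐ[R] AdicCompletion (maximalIdeal R) R) := by
  have htor := (isSocleGen_of_isEssentialInj hf.toIsEssentialInj).isPowerTorsion
  have hs2 : Function.Surjective (AdicCompletion.mkₐ (maximalIdeal R) (R := R)) := fun x => by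
    obtain ⟨a, ha⟩ := AdicCompletion.mk_surjective (maximalIdeal R) R x
    exact ⟨a, ha⟩
  let e1 := Ideal.quotientKerAlgEquivOfSurjective (Θ_surjective htor f hf)
  let e2 := Ideal.quotientKerAlgEquivOfSurjective hs2
  let e3 := Ideal.quotientEquivAlgOfEq R (ker_Θ_eq htor f hf)
  exact ⟨e1.symm.trans (e3.trans e2)⟩

include hf in
/-- S0314 -/
theorem isArtinian_hull [IsNoetherianRing R] : IsArtinian R E := by
  obtain ⟨e⟩ := end_algEquiv f hf
  haveI : IsNoetherianRing (AdicCompletion (maximalIdeal R) R) :=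
    Groth.Agent.RegularLib.isNoetherianRing_adicCompletion R (maximalIdeal R)
  haveI : IsNoetherianRing (Module.End R E) :=
    isNoetherianRing_of_ringEquiv _ e.symm.toRingEquiv
  let ann : Submodule R E → Submodule (Module.End R E) (Module.End R E) := fun N =>
    { carrier := {φ | ∀ x ∈ N, φ x = 0}
      add_mem' := fun {φ ψ} hφ hψ x hx => by
        rw [LinearMap.add_apply, hφ x hx, hψ x hx, add_zero]
      zero_mem' := fun x _ => rfl
      smul_mem' := fun ψ φ hφ x hx => by
        show ψ (φ x) = 0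
        rw [hφ x hx, map_zero] }
  have hanti : StrictAnti ann := by
    intro N N' hlt
    refine lt_of_le_of_ne (fun φ hφ x hx => hφ x (hlt.le hx)) ?_
    obtain ⟨x, hxN', hxN⟩ := SetLike.exists_of_lt hlt
    have hne : (N.mkQ x) ≠ 0 := fun h => hxN ((Submodule.Quotient.mk_eq_zero N).mp h)
    obtain ⟨ψ, hψ⟩ := Groth.Agent.Lib.InjHull3_helper3.exists_hom_ne_zero f hf (N.mkQ x) hne
    intro heq
    have hmem : (ψ ∘ₗ N.mkQ) ∈ ann N := fun y hy => by
      show ψ (N.mkQ y) = 0
      rw [Submodule.mkQ_apply, (Submodule.Quotient.mk_eq_zero N).mpr hy, map_zero]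
    rw [← heq] at hmem
    exact hψ (hmem x hxN')
  exact hanti.wellFoundedLT

include hf in
/-- S11681 -/
theorem matlis_noncomplete [IsNoetherianRing R] :
    (∀ (G : Type u) [AddCommGroup G] [Module R G],
      Function.Injective (LinearMap.applyₗ : G →ₗ[R] (G →ₗ[R] E) →ₗ[R] E) ∧
        Module.annihilator R G = Module.annihilator R (G →ₗ[R] E)) ∧
    ∀ (N : Type u) [AddCommGroup N] [Module R N] [Module.Finite R N],
      IsArtinian R (N →ₗ[R] E) := by
  refine ⟨fun G _ _ => ⟨?_, ?_⟩, fun N _ _ _ => ?_⟩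
  · rw [injective_iff_map_eq_zero]
    intro x hx
    by_contra hne
    obtain ⟨φ, hφ⟩ := Groth.Agent.Lib.InjHull3_helper3.exists_hom_ne_zero f hf x hne
    exact hφ (LinearMap.congr_fun hx φ)
  · ext r
    rw [Module.mem_annihilator, Module.mem_annihilator]
    constructor
    · intro h φ
      ext g
      rw [LinearMap.smul_apply, ← map_smul, h g, map_zero, LinearMap.zero_apply]
    · intro h g
      by_contra hne
      obtain ⟨φ, hφ⟩ := Groth.Agent.Lib.InjHull3_helper3.exists_hom_ne_zero f hf (r • g) hne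
      apply hφ
      rw [map_smul, ← LinearMap.smul_apply, h φ, LinearMap.zero_apply]
  · haveI : IsArtinian R E := isArtinian_hull f hf
    obtain ⟨n, π, hπ⟩ := Module.Finite.exists_fin' R N
    let D : (N →ₗ[R] E) →ₗ[R] (Fin n → E) :=
      (Module.piEquiv (Fin n) R E).symm.toLinearMap ∘ₗ (LinearMap.lcomp R E π)
    have hD : Function.Injective D := by
      intro φ ψ h
      have h' : φ ∘ₗ π = ψ ∘ₗ π := (Module.piEquiv (Fin n) R E).symm.injective h
      ext y
      obtain ⟨w, rfl⟩ := hπ y
      exact LinearMap.congr_fun h' w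
    exact isArtinian_of_injective D hD

include hf in
/-- over a complete ring every endomorphism of `E` is a homothety -/
lemma end_eq_smul_of_complete [IsNoetherianRing R] [IsAdicComplete (maximalIdeal R) R]
    (φ : Module.End R E) : ∃ r : R, ∀ x, φ x = r • x := by
  have htor := (isSocleGen_of_isEssentialInj hf.toIsEssentialInj).isPowerTorsion
  obtain ⟨a, rfl⟩ := Θ_surjective htor f hf φ
  obtain ⟨L, hL⟩ := IsPrecomplete.prec (inferInstance : IsPrecomplete (maximalIdeal R) R)
    (f := a) a.property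
  refine ⟨L, fun x => ?_⟩
  have hmem : a (ord htor x) - L ∈ maximalIdeal R ^ (ord htor x) := by
    have := hL (ord htor x)
    rwa [SModEq.sub_mem, smul_eq_mul, Ideal.mul_top] at this
  have := ord_spec htor x _ hmem
  rw [sub_smul, sub_eq_zero] at this
  rw [Θ_apply htor a (ord_spec htor x)]
  exact this

end EndE

end Groth.Agent.Matlis
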