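import Mathlib
import Groth.Prelude.Def_Wider
import Groth.Agent.Lib.Matlis4_helper5
import Groth.Agent.Lib.InjHull2_helper3

/-!
# Matlis duality over a complete Noetherian local ring (helper5)
-/

universe u

namespace Groth.Agent.Matlis

open IsLocalRing

section Art

variable {R : Type u} [CommRing R] [IsLocalRing R] [IsNoetherianRing R]

lemma isPowerTorsion_of_isArtinian (M : Type u) [AddCommGroup M] [Module R M] [IsArtinian R M] :
    LocCoh.IsPowerTorsion (maximalIdeal R) M := by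
  intro x
  let N : Submodule R M := Submodule.span R {x}
  let g : ℕ →o (Submodule R M)ᵒᵈ :=
    ⟨fun n => OrderDual.toDual (maximalIdeal R ^ n • N), fun a b hab =>
      OrderDual.toDual_le_toDual.mpr (Submodule.smul_mono_left (Ideal.pow_le_pow_right hab))⟩
  obtain ⟨n, hn⟩ := IsArtinian.monotone_stabilizes g
  have h1 : maximalIdeal R ^ n • N = maximalIdeal R ^ (n + 1) • N :=
    congrArg OrderDual.ofDual (hn (n + 1) (Nat.le_succ n))
  have hbot : maximalIdeal R ^ n • N = ⊥ := by
    apply Submodule.eq_bot_of_le_smul_of_le_jacobson_bot (maximalIdeal R) _ ?_ ?_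
      (maximalIdeal_le_jacobson _)
    · exact Submodule.FG.smul (IsNoetherian.noetherian _) (Submodule.fg_span_singleton x)
    · exact le_of_eq (by rw [← Submodule.mul_smul, ← pow_succ', ← h1])
  refine ⟨n, fun a ha => ?_⟩
  have : a • x ∈ maximalIdeal R ^ n • N :=
    Submodule.smul_mem_smul ha (Submodule.mem_span_singleton_self x)
  rwa [hbot, Submodule.mem_bot] at this

lemma finite_socle_of_isArtinian (M : Type u) [AddCommGroup M] [Module R M] [IsArtinian R M] :
    Module.Finite (R ⧸ maximalIdeal R) ↥(LocCoh.torsionBy (maximalIdeal R) M) := by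
  letI : Field (R ⧸ maximalIdeal R) := Ideal.Quotient.field _
  haveI : IsArtinian (R ⧸ maximalIdeal R) ↥(LocCoh.torsionBy (maximalIdeal R) M) :=
    isArtinian_of_tower R (inferInstance : IsArtinian R ↥(LocCoh.torsionBy (maximalIdeal R) M))
  exact ((IsSemisimpleModule.finite_tfae (R := R ⧸ maximalIdeal R)
    (M := ↥(LocCoh.torsionBy (maximalIdeal R) M))).out 0 2).mpr this

end Art

section Complete

variable {R : Type u} [CommRing R] [IsLocalRing R] [IsNoetherianRing R]
  [IsAdicComplete (maximalIdeal R) R] {E : Type u} [AddCommGroup E] [Module R E]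
  (f : ResidueField R →ₗ[R] E) (hf : InjHull.IsInjectiveHull f)

include hf in
/-- linear maps `E^n → E` are given by vectors of scalars -/
lemma pi_hom_eq (n : ℕ) (χ : (Fin n → E) →ₗ[R] E) :
    ∃ r : Fin n → R, ∀ w, χ w = ∑ i, r i • w i := by
  choose r hr using fun i =>
    end_eq_smul_of_complete f hf (χ ∘ₗ LinearMap.single R (fun _ => E) i)
  refine ⟨r, fun w => ?_⟩
  conv_lhs => rw [← Finset.univ_sum_single w]
  rw [map_sum]
  refine Finset.sum_congr rfl fun i _ => ?_
  exact hr i (w i)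

include hf in
/-- S0316 -/
theorem matlis_finite (M : Type u) [AddCommGroup M] [Module R M] [Module.Finite R M] :
    IsArtinian R (M →ₗ[R] E) ∧
      Function.Bijective (LinearMap.applyₗ : M →ₗ[R] (M →ₗ[R] E) →ₗ[R] E) := by
  obtain ⟨h1, h2⟩ := matlis_noncomplete f hf
  refine ⟨h2 M, (h1 M).1, ?_⟩
  intro lam
  obtain ⟨n, π, hπ⟩ := Module.Finite.exists_fin' R M
  let Dπ : (M →ₗ[R] E) →ₗ[R] ((Fin n → R) →ₗ[R] E) := LinearMap.lcomp R E π
  have hDπ : Function.Injective Dπ := by
    intro φ ψ h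
    ext y
    obtain ⟨w, rfl⟩ := hπ y
    exact LinearMap.congr_fun h w
  obtain ⟨lam', hlam'⟩ := (hf.isInjective).out Dπ hDπ lam
  let P := Module.piEquiv (Fin n) R E
  obtain ⟨r, hr⟩ := pi_hom_eq f hf n (lam' ∘ₗ P.toLinearMap)
  refine ⟨π r, ?_⟩
  ext ψ
  show ψ (π r) = lam ψ
  rw [← hlam' ψ]
  have h3 := hr (P.symm (Dπ ψ))
  rw [LinearMap.comp_apply, LinearEquiv.coe_coe, LinearEquiv.apply_symm_apply] at h3
  rw [h3]
  have h4 : Dπ ψ r = ∑ i, r i • (P.symm (Dπ ψ)) i := by
    conv_lhs => rw [← P.apply_symm_apply (Dπ ψ)]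
    exact Module.piEquiv_apply_apply _ _ _ _ _
  exact h4

include hf in
/-- S0317 -/
theorem matlis_artinian (M : Type u) [AddCommGroup M] [Module R M] [IsArtinian R M] :
    Module.Finite R (M →ₗ[R] E) ∧
      Function.Bijective (LinearMap.applyₗ : M →ₗ[R] (M →ₗ[R] E) →ₗ[R] E) := by
  have hEinj := hf.isInjective
  have hM := isPowerTorsion_of_isArtinian (R := R) M
  haveI := finite_socle_of_isArtinian (R := R) M
  obtain ⟨ι, hι⟩ := Groth.Agent.Lib.InjHull2_helper3.exists_embedding_pow_hull f hf hM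
    (Module.finrank (R ⧸ maximalIdeal R) ↥(LocCoh.torsionBy (maximalIdeal R) M)) rfl
  generalize Module.finrank (R ⧸ maximalIdeal R) ↥(LocCoh.torsionBy (maximalIdeal R) M) = n at ι
  let G : (Fin n → R) →ₗ[R] (M →ₗ[R] E) :=
    Module.piEquiv (Fin n) R (M →ₗ[R] E) (fun i => LinearMap.proj i ∘ₗ ι)
  have hG : ∀ u m, G u m = ∑ i, u i • (ι m) i := fun u m => by
    rw [show G u = ∑ i, u i • (LinearMap.proj i ∘ₗ ι) from
      Module.piEquiv_apply_apply _ _ _ _ _, LinearMap.sum_apply]
    rfl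
  have hGsurj : Function.Surjective G := by
    intro ψ
    obtain ⟨ψ', hψ'⟩ := hEinj.out ι hι ψ
    obtain ⟨r, hr⟩ := pi_hom_eq f hf n ψ'
    refine ⟨r, LinearMap.ext fun m => ?_⟩
    rw [hG, ← hψ' m, hr]
  refine ⟨Module.Finite.of_surjective G hGsurj, ((matlis_noncomplete f hf).1 M).1, ?_⟩
  intro lam
  let w : Fin n → E := fun i => lam (G (Pi.single i 1))
  have hw : ∀ u, lam (G u) = ∑ i, u i • w i := fun u => by
    conv_lhs => rw [← Finset.univ_sum_single u]
    rw [map_sum, map_sum]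
    refine Finset.sum_congr rfl fun i _ => ?_
    rw [show (Pi.single i (u i) : Fin n → R) = u i • Pi.single i 1 by
      rw [← Pi.single_smul, smul_eq_mul, mul_one], map_smul, map_smul]
  have hwr : w ∈ LinearMap.range ι := by
    by_contra hnot
    have hne : (LinearMap.range ι).mkQ w ≠ 0 :=
      fun h => hnot ((Submodule.Quotient.mk_eq_zero _).mp h)
    obtain ⟨χ, hχ⟩ := Groth.Agent.Lib.InjHull3_helper3.exists_hom_ne_zero f hf _ hne
    obtain ⟨r, hr⟩ := pi_hom_eq f hf n (χ ∘ₗ (LinearMap.range ι).mkQ)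
    have hGr : G r = 0 := LinearMap.ext fun m => by
      rw [hG, ← hr, LinearMap.comp_apply, Submodule.mkQ_apply,
        (Submodule.Quotient.mk_eq_zero _).mpr (LinearMap.mem_range_self ι m), map_zero]
      rfl
    apply hχ
    have : (χ ∘ₗ (LinearMap.range ι).mkQ) w = 0 := by
      rw [hr, ← hw, hGr, map_zero]
    exact this
  obtain ⟨m₀, hm₀⟩ := hwr
  refine ⟨m₀, LinearMap.ext fun ψ => ?_⟩
  obtain ⟨u, rfl⟩ := hGsurj ψ
  show G u m₀ = lam (G u)
  rw [hG, hw, hm₀]

end Complete

end Groth.Agent.Matlis
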