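import Mathlib
import Groth.Agent.Lib.FlatHom5_helper2
import Groth.Agent.Lib.FlatGlue1_helper2
import Groth.Agent.S0312
import Groth.Agent.S0311
import Groth.Agent.S0316
import Groth.Agent.S0317
import Groth.Agent.S15426

/-!
# Flat base change for `Hom` in the derived category, part 7 (helper2):
local duality over a (not necessarily complete) Noetherian local ring, module forms
(S11176, S11172).
-/

set_option autoImplicit false
universe u
open CategoryTheory CategoryTheory.Limits CategoryTheory.Pretriangulated DerivedCategory ZeroObject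
open scoped TensorProduct ChangeOfRings

attribute [local instance] HasDerivedCategory.standard

namespace Groth.Agent.Lib.FlatHom

open Groth.Agent.Lib.DMod_helper6 DRing Groth.Agent.ExtendScalarsLib
open Groth.Agent.Lib.LocFib Groth.Agent.Lib.RGamma Groth.Agent.Lib.DerCompl
  Groth.Agent.Lib.ExtCechH7 Groth.Agent.Lib.LocBC Groth.Agent.Lib.HDIColim
  Groth.Agent.Lib.LocDual Groth.Agent.Lib.FlatGlue

section Completion

variable {A : Type u} [CommRing A] [IsNoetherianRing A] (I : Ideal A)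

lemma adicCompletion_hs : Function.Surjective
    ((Ideal.Quotient.mk (I.map (algebraMap A (AdicCompletion I A)))).comp
      (algebraMap A (AdicCompletion I A))) := by
  have fg : I.FG := IsNoetherian.noetherian I
  intro y
  obtain ⟨b, rfl⟩ := Ideal.Quotient.mk_surjective y
  obtain ⟨a, ha⟩ := Ideal.Quotient.mk_surjective (AdicCompletion.evalOneₐ I b)
  refine ⟨a, ?_⟩
  show Ideal.Quotient.mk _ (algebraMap A (AdicCompletion I A) a) = Ideal.Quotient.mk _ b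
  rw [Ideal.Quotient.eq, ← AdicCompletion.ker_evalOneₐ_eq_map I fg, RingHom.mem_ker, map_sub]
  have h1 : (AdicCompletion.evalOneₐ I).toRingHom (algebraMap A (AdicCompletion I A) a) =
      Ideal.Quotient.mk I a :=
    RingHom.congr_fun (AdicCompletion.evalOneₐ_comp_algebraMap_eq_mk I) a
  rw [h1, ha]
  exact sub_self _

lemma adicCompletion_hk : RingHom.ker
    ((Ideal.Quotient.mk (I.map (algebraMap A (AdicCompletion I A)))).comp
      (algebraMap A (AdicCompletion I A))) = I := by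
  have fg : I.FG := IsNoetherian.noetherian I
  ext a
  rw [RingHom.mem_ker, RingHom.comp_apply, Ideal.Quotient.eq_zero_iff_mem,
    ← AdicCompletion.ker_evalOneₐ_eq_map I fg, RingHom.mem_ker]
  have h1 : (AdicCompletion.evalOneₐ I).toRingHom (algebraMap A (AdicCompletion I A) a) =
      Ideal.Quotient.mk I a :=
    RingHom.congr_fun (AdicCompletion.evalOneₐ_comp_algebraMap_eq_mk I) a
  rw [h1, Ideal.Quotient.eq_zero_iff_mem]

end Completion

section Matlis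

/-- over a complete Noetherian local ring: if the `E`-dual of `N` is a finite module `Y`, then
`N` is the `E`-dual of `Y` (any universes for `N`, `Y`) -/
theorem matlis_dual_swap (R : Type u) [CommRing R] [IsLocalRing R] [IsNoetherianRing R]
    [IsAdicComplete (IsLocalRing.maximalIdeal R) R] (E : Type u) [AddCommGroup E] [Module R E]
    (f : IsLocalRing.ResidueField R →ₗ[R] E) (hf : InjHull.IsInjectiveHull f)
    (N : Type*) [AddCommGroup N] [Module R N] (Y : Type*) [AddCommGroup Y] [Module R Y]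
    [Module.Finite R Y] (e : Y ≃ₗ[R] (N →ₗ[R] E)) : Nonempty (N ≃ₗ[R] (Y →ₗ[R] E)) := by
  obtain ⟨n, p, hp⟩ := Module.Finite.exists_fin' R Y
  let e₀ : ((Fin n → R) ⧸ LinearMap.ker p) ≃ₗ[R] Y := p.quotKerEquivOfSurjective hp
  obtain ⟨hart, -⟩ := Groth.Agent.S0316.result R E f hf ((Fin n → R) ⧸ LinearMap.ker p)
  haveI := hart
  let ψ : N →ₗ[R] (((Fin n → R) ⧸ LinearMap.ker p) →ₗ[R] E) :=
    (LinearMap.lcomp R E ((e₀.trans e).toLinearMap)) ∘ₗ LinearMap.applyₗ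
  have hψ : Function.Injective ψ := by
    refine (injective_iff_map_eq_zero ψ).2 (fun x hx => ?_)
    by_contra hne
    obtain ⟨φ, hφ⟩ := exists_hom_ne_zero' f hf x hne
    obtain ⟨y₀, rfl⟩ := (e₀.trans e).surjective φ
    apply hφ
    exact LinearMap.congr_fun hx y₀
  let eN : N ≃ₗ[R] LinearMap.range ψ := LinearEquiv.ofInjective ψ hψ
  obtain ⟨-, hbij⟩ := Groth.Agent.S0317.result R E f hf (LinearMap.range ψ)
  let a1 : LinearMap.range ψ ≃ₗ[R] ((LinearMap.range ψ →ₗ[R] E) →ₗ[R] E) :=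
    LinearEquiv.ofBijective LinearMap.applyₗ hbij
  let a2 : (LinearMap.range ψ →ₗ[R] E) ≃ₗ[R] Y :=
    (LinearEquiv.congrLeft E R eN.symm).trans e.symm
  let a3 : ((LinearMap.range ψ →ₗ[R] E) →ₗ[R] E) ≃ₗ[R] (Y →ₗ[R] E) :=
    LinearEquiv.congrLeft E R a2
  exact ⟨eN.trans (a1.trans a3)⟩

end Matlis

section Core

variable {A B : Type u} [CommRing A] [CommRing B] [Algebra A B] [Module.Flat A B]

/-- `β` as a `B`-linear map -/
noncomputable def βₗ (K L : Dual.D A) :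
    B ⊗[A] (K ⟶ L) →ₗ[B] ((bcD A B).obj K ⟶ (bcD A B).obj L) where
  toFun := β K L
  map_add' := map_add _
  map_smul' := fun b y => β_smul K L b y

end Core

section Abstract

variable (A B : Type u) [CommRing A] [CommRing B] [IsLocalRing A] [IsLocalRing B]
  [Algebra A B] [IsNoetherianRing A] [IsNoetherianRing B] [Module.FaithfullyFlat A B]
  [IsAdicComplete (IsLocalRing.maximalIdeal B) B]
  (hm : (IsLocalRing.maximalIdeal A).map (algebraMap A B) = IsLocalRing.maximalIdeal B)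
  (ω : Dual.D A) (hω : Dual.IsDualizing A ω) (hn : Dual.IsNormalized A ω)
  (E : Type u) [AddCommGroup E] [Module A E] (f : IsLocalRing.ResidueField A →ₗ[A] E)
  (hf : InjHull.IsInjectiveHull f)

include hm hω hn hf in
/-- local duality after base change to a complete faithfully flat local extension -/
theorem tensor_hom_equiv_dual (K : Dual.D A) (hK : IsPseudoCoherent' A K) (i : ℤ) :
    Nonempty ((B ⊗[A] (K ⟶ ω⟦(-i)⟧)) ≃ₗ[B]
      (B ⊗[A] (Dual2.HDI A (IsLocalRing.maximalIdeal A) K i) →ₗ[B] B ⊗[A] E)) := by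
  haveI : IsLocalHom (algebraMap A B) :=
    ((IsLocalRing.local_hom_TFAE (algebraMap A B)).out 0 2).mpr hm.le
  obtain ⟨hωB, hnB⟩ := isDualizing_bcD_of_local hm ω hω hn
  obtain ⟨g, hg⟩ := Groth.Agent.S0312.result A B hm E f hf
  obtain ⟨e1⟩ := S1761_main B ((bcD A B).obj ω) hωB hnB (B ⊗[A] E) g hg ((bcD A B).obj K) i
  obtain ⟨e2⟩ := hdi_bcD_equiv (B := B) (IsLocalRing.maximalIdeal A) K i
  rw [hm] at e2
  obtain ⟨a', b', hab⟩ := hω.finite_injective_dimension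
  have hb : ∃ a b : ℤ, ∀ j : ℤ, (j < a ∨ b < j) → Subsingleton (Dual.HD A ω j) :=
    ⟨a', b', fun j hj => subsingleton_HD_of_hom_quot_bot ω j (hab (A ⧸ (⊥ : Ideal A)) j hj)⟩
  have hβ : Function.Bijective (β (B := B) K (ω⟦(-i)⟧)) := flatHom_gb K ω hK hb (-i)
  let c4 : B ⊗[A] (K ⟶ ω⟦(-i)⟧) ≃ₗ[B] ((bcD A B).obj K ⟶ (bcD A B).obj (ω⟦(-i)⟧)) :=
    LinearEquiv.ofBijective (βₗ K (ω⟦(-i)⟧)) hβ
  let c5 : ((bcD A B).obj K ⟶ (bcD A B).obj (ω⟦(-i)⟧)) ≃ₗ[B]
      ((bcD A B).obj K ⟶ ((bcD A B).obj ω)⟦(-i)⟧) :=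
    Linear.homCongr B (Iso.refl ((bcD A B).obj K)) (((bcD A B).commShiftIso (-i)).app ω)
  let c7 : (Dual2.HDI B (IsLocalRing.maximalIdeal B) ((bcD A B).obj K) i →ₗ[B] B ⊗[A] E) ≃ₗ[B]
      (B ⊗[A] (Dual2.HDI A (IsLocalRing.maximalIdeal A) K i) →ₗ[B] B ⊗[A] E) :=
    LinearEquiv.congrLeft (B ⊗[A] E) B e2
  exact ⟨c4.trans (c5.trans (e1.trans c7))⟩

variable (hs : Function.Surjective
    ((Ideal.Quotient.mk ((IsLocalRing.maximalIdeal A).map (algebraMap A B))).comp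
      (algebraMap A B)))
  (hk : RingHom.ker
    ((Ideal.Quotient.mk ((IsLocalRing.maximalIdeal A).map (algebraMap A B))).comp
      (algebraMap A B)) = IsLocalRing.maximalIdeal A)

include hs hk hf in
/-- `E → B ⊗ E` is bijective -/
lemma hull_equiv_tensor : Function.Bijective (TensorProduct.mk A B E 1) :=
  bijective_mk_of_isPowerTorsion (IsLocalRing.maximalIdeal A) hs hk E
    (Groth.Agent.S0311.result A E f hf)

include hm hω hn hf hs hk in
/-- first module form: `B ⊗ Hom(K, ω[-i]) ≃ Hom_A(H^i_m(K), E)`, `A`-linearly -/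
theorem tensor_hom_equiv_dual_A (K : Dual.D A) (hK : IsPseudoCoherent' A K) (i : ℤ) :
    Nonempty ((B ⊗[A] (K ⟶ ω⟦(-i)⟧)) ≃ₗ[A]
      (Dual2.HDI A (IsLocalRing.maximalIdeal A) K i →ₗ[A] E)) := by
  obtain ⟨c⟩ := tensor_hom_equiv_dual A B hm ω hω hn E f hf K hK i
  let c8 : (B ⊗[A] (Dual2.HDI A (IsLocalRing.maximalIdeal A) K i) →ₗ[B] B ⊗[A] E) ≃ₗ[B]
      (Dual2.HDI A (IsLocalRing.maximalIdeal A) K i →ₗ[A] B ⊗[A] E) :=
    (LinearMap.liftBaseChangeEquiv B).symm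
  let cA : (B ⊗[A] (K ⟶ ω⟦(-i)⟧)) ≃ₗ[A]
      (Dual2.HDI A (IsLocalRing.maximalIdeal A) K i →ₗ[A] B ⊗[A] E) :=
    (c.trans c8).restrictScalars A
  let eE : E ≃ₗ[A] B ⊗[A] E :=
    LinearEquiv.ofBijective (TensorProduct.mk A B E 1) (hull_equiv_tensor A B E f hf hs hk)
  let c9 : (Dual2.HDI A (IsLocalRing.maximalIdeal A) K i →ₗ[A] B ⊗[A] E) ≃ₗ[A]
      (Dual2.HDI A (IsLocalRing.maximalIdeal A) K i →ₗ[A] E) :=
    LinearEquiv.arrowCongr (LinearEquiv.refl A _) eE.symm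
  exact ⟨cA.trans c9⟩

include hm hω hn hf hs hk in
/-- second module form: `H^i_m(M) ≃ Hom_A(Hom(M, ω[-i]), E)` -/
theorem locCoh_equiv_dual_hom (M : Type u) [AddCommGroup M] [Module A M] [Module.Finite A M]
    (i : ℕ) :
    Nonempty (LocCoh.H (IsLocalRing.maximalIdeal A) i M ≃ₗ[A]
      ((Dual.inD A M ⟶ ω⟦(-(i : ℤ))⟧) →ₗ[A] E)) := by
  have hpc : IsPseudoCoherent' A (Dual.inD A M) := isPseudoCoherentModule'_of_finite _
  obtain ⟨c⟩ := tensor_hom_equiv_dual A B hm ω hω hn E f hf (Dual.inD A M) hpc (i : ℤ)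
  haveI : IsLocalHom (algebraMap A B) :=
    ((IsLocalRing.local_hom_TFAE (algebraMap A B)).out 0 2).mpr hm.le
  obtain ⟨g, hg⟩ := Groth.Agent.S0312.result A B hm E f hf
  -- `X` is a finite module
  obtain ⟨a', b', hab⟩ := hω.finite_injective_dimension
  have hH : ∀ j : ℤ, (j < a' ∨ b' < j) → Subsingleton (Dual.HD A ω j) := fun j hj =>
    subsingleton_HD_of_hom_quot_bot ω j (hab (A ⧸ (⊥ : Ideal A)) j hj)
  haveI : Module.Finite A (Dual.inD A M ⟶ ω⟦(-(i : ℤ))⟧) :=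
    hom_inD_finite_of_bounded ω a' b' hH hω.finite_cohomology M (-(i : ℤ))
  obtain ⟨d⟩ := matlis_dual_swap B (B ⊗[A] E) g hg
    (B ⊗[A] (Dual2.HDI A (IsLocalRing.maximalIdeal A) (Dual.inD A M) (i : ℤ)))
    (B ⊗[A] (Dual.inD A M ⟶ ω⟦(-(i : ℤ))⟧)) c
  obtain ⟨e3⟩ := hdi_inD_equiv_locCoh (IsLocalRing.maximalIdeal A) M i
  let d0 : B ⊗[A] (LocCoh.H (IsLocalRing.maximalIdeal A) i M) ≃ₗ[B]
      B ⊗[A] (Dual2.HDI A (IsLocalRing.maximalIdeal A) (Dual.inD A M) (i : ℤ)) :=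
    TensorProduct.AlgebraTensorModule.congr (LinearEquiv.refl B B) e3.symm
  let d8 : (B ⊗[A] (Dual.inD A M ⟶ ω⟦(-(i : ℤ))⟧) →ₗ[B] B ⊗[A] E) ≃ₗ[B]
      ((Dual.inD A M ⟶ ω⟦(-(i : ℤ))⟧) →ₗ[A] B ⊗[A] E) :=
    (LinearMap.liftBaseChangeEquiv B).symm
  let dA : B ⊗[A] (LocCoh.H (IsLocalRing.maximalIdeal A) i M) ≃ₗ[A]
      ((Dual.inD A M ⟶ ω⟦(-(i : ℤ))⟧) →ₗ[A] B ⊗[A] E) :=
    (d0.trans (d.trans d8)).restrictScalars A
  let eE : E ≃ₗ[A] B ⊗[A] E :=
    LinearEquiv.ofBijective (TensorProduct.mk A B E 1) (hull_equiv_tensor A B E f hf hs hk)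
  let d9 : ((Dual.inD A M ⟶ ω⟦(-(i : ℤ))⟧) →ₗ[A] B ⊗[A] E) ≃ₗ[A]
      ((Dual.inD A M ⟶ ω⟦(-(i : ℤ))⟧) →ₗ[A] E) :=
    LinearEquiv.arrowCongr (LinearEquiv.refl A _) eE.symm
  let eH : LocCoh.H (IsLocalRing.maximalIdeal A) i M ≃ₗ[A]
      B ⊗[A] (LocCoh.H (IsLocalRing.maximalIdeal A) i M) :=
    LinearEquiv.ofBijective (TensorProduct.mk A B _ 1)
      (bijective_mk_of_isPowerTorsion (IsLocalRing.maximalIdeal A) hs hk _
        (Groth.Agent.S15426.result A (IsLocalRing.maximalIdeal A) i M))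
  exact ⟨eH.trans (dA.trans d9)⟩

end Abstract

section Final

variable (A : Type u) [CommRing A] [IsLocalRing A] [IsNoetherianRing A]
  (ω : Dual.D A) (hω : Dual.IsDualizing A ω) (hn : Dual.IsNormalized A ω)
  (E : Type u) [AddCommGroup E] [Module A E] (f : IsLocalRing.ResidueField A →ₗ[A] E)
  (hf : InjHull.IsInjectiveHull f)
  (M : Type u) [AddCommGroup M] [Module A M] [Module.Finite A M] (i : ℕ)

include hω hn hf in
/-- S11172. -/
theorem S11172_main :
    Nonempty (LocCoh.H (IsLocalRing.maximalIdeal A) i M ≃ₗ[A]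
      ((Dual.inD A M ⟶ ω⟦(-(i : ℤ))⟧) →ₗ[A] E)) := by
  haveI : IsNoetherianRing (AdicCompletion (IsLocalRing.maximalIdeal A) A) :=
    Groth.Agent.RegularLib.isNoetherianRing_adicCompletion A _
  haveI : Module.FaithfullyFlat A (AdicCompletion (IsLocalRing.maximalIdeal A) A) :=
    Module.FaithfullyFlat.of_flat_of_isLocalHom
  exact locCoh_equiv_dual_hom A (AdicCompletion (IsLocalRing.maximalIdeal A) A)
    AdicCompletion.maximalIdeal_eq_map.symm ω hω hn E f hf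
    (adicCompletion_hs (IsLocalRing.maximalIdeal A))
    (adicCompletion_hk (IsLocalRing.maximalIdeal A)) M i

include hω hn hf in
/-- S11176. -/
theorem S11176_main :
    Nonempty (AdicCompletion (IsLocalRing.maximalIdeal A) (Dual.inD A M ⟶ ω⟦(-(i : ℤ))⟧) ≃ₗ[A]
      (LocCoh.H (IsLocalRing.maximalIdeal A) i M →ₗ[A] E)) := by
  haveI : IsNoetherianRing (AdicCompletion (IsLocalRing.maximalIdeal A) A) :=
    Groth.Agent.RegularLib.isNoetherianRing_adicCompletion A _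
  haveI : Module.FaithfullyFlat A (AdicCompletion (IsLocalRing.maximalIdeal A) A) :=
    Module.FaithfullyFlat.of_flat_of_isLocalHom
  have hpc : IsPseudoCoherent' A (Dual.inD A M) := isPseudoCoherentModule'_of_finite _
  obtain ⟨c⟩ := tensor_hom_equiv_dual_A A (AdicCompletion (IsLocalRing.maximalIdeal A) A)
    AdicCompletion.maximalIdeal_eq_map.symm ω hω hn E f hf
    (adicCompletion_hs (IsLocalRing.maximalIdeal A))
    (adicCompletion_hk (IsLocalRing.maximalIdeal A)) (Dual.inD A M) hpc (i : ℤ)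
  obtain ⟨e3⟩ := hdi_inD_equiv_locCoh (IsLocalRing.maximalIdeal A) M i
  -- `X` is a finite module, with a small model
  obtain ⟨a', b', hab⟩ := hω.finite_injective_dimension
  have hH : ∀ j : ℤ, (j < a' ∨ b' < j) → Subsingleton (Dual.HD A ω j) := fun j hj =>
    subsingleton_HD_of_hom_quot_bot ω j (hab (A ⧸ (⊥ : Ideal A)) j hj)
  haveI : Module.Finite A (Dual.inD A M ⟶ ω⟦(-(i : ℤ))⟧) :=
    hom_inD_finite_of_bounded ω a' b' hH hω.finite_cohomology M (-(i : ℤ))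
  obtain ⟨n, p, hp⟩ := Module.Finite.exists_fin' A (Dual.inD A M ⟶ ω⟦(-(i : ℤ))⟧)
  let e₀ : ((Fin n → A) ⧸ LinearMap.ker p) ≃ₗ[A] (Dual.inD A M ⟶ ω⟦(-(i : ℤ))⟧) :=
    p.quotKerEquivOfSurjective hp
  let c1 : AdicCompletion (IsLocalRing.maximalIdeal A) (Dual.inD A M ⟶ ω⟦(-(i : ℤ))⟧)
      ≃ₗ[AdicCompletion (IsLocalRing.maximalIdeal A) A]
      AdicCompletion (IsLocalRing.maximalIdeal A) ((Fin n → A) ⧸ LinearMap.ker p) :=
    AdicCompletion.congr (IsLocalRing.maximalIdeal A) e₀.symm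
  let c2 : AdicCompletion (IsLocalRing.maximalIdeal A) ((Fin n → A) ⧸ LinearMap.ker p)
      ≃ₗ[AdicCompletion (IsLocalRing.maximalIdeal A) A]
      AdicCompletion (IsLocalRing.maximalIdeal A) A ⊗[A] ((Fin n → A) ⧸ LinearMap.ker p) :=
    (AdicCompletion.ofTensorProductEquivOfFiniteNoetherian (IsLocalRing.maximalIdeal A)
      ((Fin n → A) ⧸ LinearMap.ker p)).symm
  let c3 : AdicCompletion (IsLocalRing.maximalIdeal A) A ⊗[A] ((Fin n → A) ⧸ LinearMap.ker p)
      ≃ₗ[AdicCompletion (IsLocalRing.maximalIdeal A) A]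
      AdicCompletion (IsLocalRing.maximalIdeal A) A ⊗[A] (Dual.inD A M ⟶ ω⟦(-(i : ℤ))⟧) :=
    TensorProduct.AlgebraTensorModule.congr
      (LinearEquiv.refl (AdicCompletion (IsLocalRing.maximalIdeal A) A)
        (AdicCompletion (IsLocalRing.maximalIdeal A) A)) e₀
  let cA : AdicCompletion (IsLocalRing.maximalIdeal A) (Dual.inD A M ⟶ ω⟦(-(i : ℤ))⟧) ≃ₗ[A]
      AdicCompletion (IsLocalRing.maximalIdeal A) A ⊗[A] (Dual.inD A M ⟶ ω⟦(-(i : ℤ))⟧) :=
    (c1.trans (c2.trans c3)).restrictScalars A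
  let c10 : (Dual2.HDI A (IsLocalRing.maximalIdeal A) (Dual.inD A M) (i : ℤ) →ₗ[A] E) ≃ₗ[A]
      (LocCoh.H (IsLocalRing.maximalIdeal A) i M →ₗ[A] E) := LinearEquiv.congrLeft E A e3
  exact ⟨cA.trans (c.trans c10)⟩

end Final

end Groth.Agent.Lib.FlatHom
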