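import Mathlib
import Groth.Agent.Lib.FlatHom4_helper2
import Groth.Agent.S0543

/-!
# Flat base change for `Hom` in the derived category, part 6 (helper2):
Bass' lemma over a Noetherian ring (vanishing of `Ext` from the residue fields at the maximal
ideals), base change of a dualizing complex along a flat map `A → B` with `A → B/IB` surjective
and `IB` in the Jacobson radical (S1778), in particular to an adic completion (S1779).
-/

set_option autoImplicit false
universe u
open CategoryTheory CategoryTheory.Limits CategoryTheory.Pretriangulated DerivedCategory ZeroObject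
open scoped TensorProduct ChangeOfRings

attribute [local instance] HasDerivedCategory.standard

namespace Groth.Agent.Lib.FlatHom

open Groth.Agent.Lib.DMod_helper6 DRing Groth.Agent.ExtendScalarsLib

section GlobalBass

variable {A : Type u} [CommRing A]

/-- `x` injective on `M` with cokernel `N₃` and `Ext^{>0}(N₃, ω) = 0`: multiplication by `x` is
surjective on `Ext^i(M, ω)` for `i > 0`. -/
lemma smul_surjective_of_regular (ω : Dual.D A)
    {M N₃ : Type u} [AddCommGroup M] [Module A M] [AddCommGroup N₃]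
    [Module A N₃] (x : A) (g : M →ₗ[A] N₃)
    (hinj : Function.Injective (x • (LinearMap.id : M →ₗ[A] M)))
    (hg : Function.Surjective g) (hfg : Function.Exact (x • (LinearMap.id : M →ₗ[A] M)) g)
    (h3 : ExtVanish ω N₃) (i : ℤ) (hi : 0 < i) (φ : Dual.inD A M ⟶ ω⟦i⟧) :
    ∃ ψ : Dual.inD A M ⟶ ω⟦i⟧, φ = x • ψ := by
  have hS := linSC_shortExact (x • (LinearMap.id : M →ₗ[A] M)) g hfg hinj hg
  have hT := hS.singleTriangle_distinguished
  have hmap : (DerivedCategory.singleFunctor (ModuleCat.{u} A) 0).map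
      (ModuleCat.ofHom (x • (LinearMap.id : M →ₗ[A] M))) = x • 𝟙 (Dual.inD A M) := by
    have : ModuleCat.ofHom (x • (LinearMap.id : M →ₗ[A] M)) = x • 𝟙 (ModuleCat.of A M) := by
      ext m
      rfl
    rw [this, Functor.map_smul, CategoryTheory.Functor.map_id]
  let e : ω⟦i + 1⟧ ≅ (ω⟦i⟧)⟦(1 : ℤ)⟧ := (shiftFunctorAdd' (Dual.D A) i 1 (i + 1) rfl).app ω
  haveI := h3 (i + 1) (by omega)
  have h0 : hS.singleδ ≫ φ⟦(1 : ℤ)⟧' = 0 := by
    rw [← cancel_mono e.inv, zero_comp]
    exact Subsingleton.elim _ _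
  obtain ⟨γ, hγ⟩ : ∃ γ : (Dual.inD A M)⟦(1 : ℤ)⟧ ⟶ (ω⟦i⟧)⟦(1 : ℤ)⟧,
      φ⟦(1 : ℤ)⟧' = (-((DerivedCategory.singleFunctor (ModuleCat.{u} A) 0).map
        (ModuleCat.ofHom (x • (LinearMap.id : M →ₗ[A] M))))⟦(1 : ℤ)⟧') ≫ γ :=
    Pretriangulated.Triangle.yoneda_exact₃ _ (rot_of_distTriang _ hT) (φ⟦(1 : ℤ)⟧') h0
  obtain ⟨γ', rfl⟩ := (shiftFunctor (Dual.D A) (1 : ℤ)).map_surjective γ
  refine ⟨-γ', ?_⟩
  apply (shiftFunctor (Dual.D A) (1 : ℤ)).map_injective
  rw [hγ, hmap]
  simp only [Functor.map_smul, Functor.map_neg, CategoryTheory.Functor.map_id,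
    Preadditive.neg_comp, Linear.smul_comp, Category.id_comp, smul_neg]

/-- Bass' lemma over a Noetherian ring, for the cyclic modules `A ⧸ p`, `p` prime. -/
theorem extVanish_quot_prime_global [IsNoetherianRing A] (ω : Dual.D A)
    (hfin : ∀ (M : Type u) [AddCommGroup M] [Module A M] [Module.Finite A M] (i : ℤ),
      Module.Finite A (Dual.inD A M ⟶ ω⟦i⟧))
    (hmax : ∀ n : Ideal A, n.IsMaximal → ExtVanish ω (A ⧸ n)) (p : Ideal A) (hp : p.IsPrime) :
    ExtVanish ω (A ⧸ p) := by
  revert hp
  induction p using IsNoetherian.induction with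
  | hgt p ih =>
    intro hp
    by_cases hpm : Ideal.IsMaximal p
    · exact hmax p hpm
    · intro i hi
      by_contra hns
      rw [not_subsingleton_iff_nontrivial] at hns
      haveI := hfin (A ⧸ p) i
      have hann : Module.annihilator A (Dual.inD A (A ⧸ p) ⟶ ω⟦i⟧) ≠ ⊤ := by
        rw [Ne, Module.annihilator_eq_top_iff]
        exact not_subsingleton _
      obtain ⟨n, hn, hle⟩ := Ideal.exists_le_maximal _ hann
      have hnp : ¬ n ≤ p := by
        intro h
        have h1 : n = p := hn.eq_of_le hp.ne_top h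
        exact hpm (h1 ▸ hn)
      obtain ⟨x, hxn, hxp⟩ := SetLike.not_le_iff_exists.1 hnp
      have hxJ : x ∈ p ⊔ Ideal.span {x} :=
        Ideal.mem_sup_right (Ideal.mem_span_singleton_self x)
      have hpJ : p < p ⊔ Ideal.span {x} := by
        refine lt_of_le_of_ne le_sup_left (fun h => hxp ?_)
        rw [h]; exact hxJ
      have h3 : ExtVanish ω (A ⧸ (p ⊔ Ideal.span {x})) := by
        refine extVanish_of_ann ω (p ⊔ Ideal.span {x})
          (fun q hq => ih q.asIdeal (lt_of_lt_of_le hpJ hq) q.isPrime) _ ?_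
        intro r hr n
        obtain ⟨b, rfl⟩ := Ideal.Quotient.mk_surjective n
        show Ideal.Quotient.mk (p ⊔ Ideal.span {x}) (r * b) = 0
        exact Ideal.Quotient.eq_zero_iff_mem.2 (Ideal.mul_mem_right b _ hr)
      have hinj : Function.Injective (x • LinearMap.id : A ⧸ p →ₗ[A] A ⧸ p) := by
        refine (injective_iff_map_eq_zero _).2 (fun y hy => ?_)
        obtain ⟨c, rfl⟩ := Ideal.Quotient.mk_surjective y
        have h' : Ideal.Quotient.mk p (x * c) = 0 := hy
        rcases hp.mem_or_mem (Ideal.Quotient.eq_zero_iff_mem.1 h') with h | h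
        · exact absurd h hxp
        · exact Ideal.Quotient.eq_zero_iff_mem.2 h
      have hfg : Function.Exact (x • LinearMap.id : A ⧸ p →ₗ[A] A ⧸ p)
          (Submodule.factor hpJ.le) := by
        intro y
        constructor
        · intro h
          obtain ⟨c, rfl⟩ := Ideal.Quotient.mk_surjective y
          have h' : Ideal.Quotient.mk (p ⊔ Ideal.span {x}) c = 0 := h
          have hcJ : c ∈ p ⊔ Ideal.span {x} := Ideal.Quotient.eq_zero_iff_mem.1 h'
          obtain ⟨b, hb, c', hc', rfl⟩ := Submodule.mem_sup.1 hcJ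
          obtain ⟨d, rfl⟩ := Ideal.mem_span_singleton'.1 hc'
          refine ⟨Ideal.Quotient.mk p d, ?_⟩
          show Ideal.Quotient.mk p (x * d) = Ideal.Quotient.mk p (b + d * x)
          rw [Ideal.Quotient.eq]
          have : x * d - (b + d * x) = -b := by ring
          rw [this]; exact p.neg_mem hb
        · rintro ⟨z, rfl⟩
          obtain ⟨d, rfl⟩ := Ideal.Quotient.mk_surjective z
          show Ideal.Quotient.mk (p ⊔ Ideal.span {x}) (x * d) = 0
          exact Ideal.Quotient.eq_zero_iff_mem.2 (Ideal.mul_mem_right d _ hxJ)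
      have hle' : (⊤ : Submodule A (Dual.inD A (A ⧸ p) ⟶ ω⟦i⟧)) ≤
          (Ideal.span {x}) • (⊤ : Submodule A (Dual.inD A (A ⧸ p) ⟶ ω⟦i⟧)) := by
        intro φ _
        obtain ⟨ψ, rfl⟩ := smul_surjective_of_regular ω x (Submodule.factor hpJ.le) hinj
          (Submodule.factor_surjective hpJ.le) hfg h3 i hi φ
        exact Submodule.smul_mem_smul (Ideal.mem_span_singleton_self x) Submodule.mem_top
      obtain ⟨r, hr1, hr2⟩ := Submodule.exists_sub_one_mem_and_smul_eq_zero_of_fg_of_le_smul
        (Ideal.span {x}) ⊤ Module.Finite.fg_top hle'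
      have hrn : r ∈ n := hle (Module.mem_annihilator.2 (fun φ => hr2 φ Submodule.mem_top))
      have hspan : Ideal.span {x} ≤ n := by
        rw [Ideal.span_le, Set.singleton_subset_iff]
        exact hxn
      have h1 : (1 : A) ∈ n := by
        have h2 := n.sub_mem hrn (hspan hr1)
        simpa using h2
      exact hn.ne_top ((Ideal.eq_top_iff_one n).2 h1)

/-- Bass' lemma over a Noetherian ring: if `Ext^i(A/n, ω) = 0` for `i > 0` and all maximal ideals
`n`, and the `Ext` modules of finite modules into `ω` are finite, then `Ext^i(M, ω) = 0` for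
`i > 0` and every finite module `M`. -/
theorem extVanish_of_finite_global [IsNoetherianRing A] (ω : Dual.D A)
    (hfin : ∀ (M : Type u) [AddCommGroup M] [Module A M] [Module.Finite A M] (i : ℤ),
      Module.Finite A (Dual.inD A M ⟶ ω⟦i⟧))
    (hmax : ∀ n : Ideal A, n.IsMaximal → ExtVanish ω (A ⧸ n))
    (M : Type u) [AddCommGroup M] [Module A M] [Module.Finite A M] : ExtVanish ω M := by
  refine extVanish_of_ann ω ⊥
    (fun q _ => extVanish_quot_prime_global ω hfin hmax q.asIdeal q.isPrime) M ?_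
  intro r hr n
  rw [(Submodule.mem_bot A).1 hr, zero_smul]

/-- Bass' lemma with an arbitrary threshold `c`. -/
theorem hom_inD_subsingleton_of_maximal [IsNoetherianRing A] (ω : Dual.D A) (c : ℤ)
    (hfin : ∀ (M : Type u) [AddCommGroup M] [Module A M] [Module.Finite A M] (i : ℤ),
      Module.Finite A (Dual.inD A M ⟶ ω⟦i⟧))
    (hmax : ∀ n : Ideal A, n.IsMaximal → ∀ i : ℤ, c < i →
      Subsingleton (Dual.inD A (A ⧸ n) ⟶ ω⟦i⟧))
    (M : Type u) [AddCommGroup M] [Module A M] [Module.Finite A M] (i : ℤ) (hi : c < i) :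
    Subsingleton (Dual.inD A M ⟶ ω⟦i⟧) := by
  have hfin' : ∀ (M : Type u) [AddCommGroup M] [Module A M] [Module.Finite A M] (i : ℤ),
      Module.Finite A (Dual.inD A M ⟶ (ω⟦c⟧)⟦i⟧) := by
    intro M _ _ _ i
    haveI := hfin M (c + i)
    exact Module.Finite.equiv (Linear.homCongr A (Iso.refl (Dual.inD A M))
      ((shiftFunctorAdd' (Dual.D A) c i (c + i) rfl).app ω))
  have hmax' : ∀ n : Ideal A, n.IsMaximal → ExtVanish (ω⟦c⟧) (A ⧸ n) := by
    intro n hn i hi
    exact subsingleton_hom_of_isos (Iso.refl _)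
      ((shiftFunctorAdd' (Dual.D A) c i (c + i) rfl).app ω).symm (hmax n hn (c + i) (by omega))
  have h := extVanish_of_finite_global (ω⟦c⟧) hfin' hmax' M (i - c) (by omega)
  exact subsingleton_hom_of_isos (Iso.refl _)
    ((shiftFunctorAdd' (Dual.D A) c (i - c) i (by omega)).app ω) h

end GlobalBass

section Jacobson

variable {A B : Type u} [CommRing A] [CommRing B] [Algebra A B]

lemma map_comap_eq_of_maximal (I : Ideal A)
    (hs : Function.Surjective
      ((Ideal.Quotient.mk (I.map (algebraMap A B))).comp (algebraMap A B)))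
    (hJ : I.map (algebraMap A B) ≤ (⊥ : Ideal B).jacobson) (n : Ideal B) (hn : n.IsMaximal) :
    (n.comap (algebraMap A B)).map (algebraMap A B) = n := by
  have hJn : (⊥ : Ideal B).jacobson ≤ n := sInf_le ⟨bot_le, hn⟩
  have hIn : I.map (algebraMap A B) ≤ n := hJ.trans hJn
  apply le_antisymm Ideal.map_comap_le
  intro x hx
  obtain ⟨a, ha⟩ := hs (Ideal.Quotient.mk _ x)
  have h1 : algebraMap A B a - x ∈ I.map (algebraMap A B) := Ideal.Quotient.eq.1 ha
  have h2 : algebraMap A B a ∈ n := by
    have h := n.add_mem (hIn h1) hx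
    simpa using h
  have h3 : a ∈ n.comap (algebraMap A B) := h2
  have hI : I ≤ n.comap (algebraMap A B) := fun a' ha' => hIn (Ideal.mem_map_of_mem _ ha')
  have hx' : x = algebraMap A B a - (algebraMap A B a - x) := by ring
  rw [hx']
  exact Ideal.sub_mem _ (Ideal.mem_map_of_mem _ h3) (Ideal.map_mono hI h1)

variable [Module.Flat A B]

/-- base change of a dualizing complex along a flat map `A → B` of Noetherian rings such that
`A → B/IB` is surjective and `IB` lies in the Jacobson radical of `B`, for the functor induced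
by `- ⊗ B` -/
theorem isDualizing_bcD_of_jacobson [IsNoetherianRing A] [IsNoetherianRing B] (I : Ideal A)
    (hs : Function.Surjective
      ((Ideal.Quotient.mk (I.map (algebraMap A B))).comp (algebraMap A B)))
    (hJ : I.map (algebraMap A B) ≤ (⊥ : Ideal B).jacobson)
    (ω : Dual.D A) (hω : Dual.IsDualizing A ω) :
    Dual.IsDualizing B ((bcD A B).obj ω) := by
  obtain ⟨a, b, hab⟩ := hω.finite_injective_dimension
  have hH : ∀ i : ℤ, (i < a ∨ b < i) → Subsingleton (Dual.HD A ω i) := fun i hi =>
    subsingleton_HD_of_hom_quot_bot ω i (hab (A ⧸ (⊥ : Ideal A)) i hi)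
  have hb : ∃ a b : ℤ, ∀ i : ℤ, (i < a ∨ b < i) → Subsingleton (Dual.HD A ω i) := ⟨a, b, hH⟩
  have hpc : IsPseudoCoherent' A ω := by
    refine isPseudoCoherent'_of_homology ω ⟨b, fun j hj => hH j (Or.inr hj)⟩ (fun j => ?_)
    haveI := hω.finite_cohomology j
    exact isPseudoCoherentModule'_of_finite _
  have hHB : ∀ i : ℤ, (i < a ∨ b < i) → Subsingleton (Dual.HD B ((bcD A B).obj ω) i) := by
    intro i hi
    obtain ⟨e⟩ := nonempty_HD_bcD_linearEquiv (B := B) ω i
    haveI := hH i hi
    haveI : Subsingleton (B ⊗[A] Dual.HD A ω i) := subsingleton_tensor B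
    exact e.toEquiv.subsingleton
  have hfinB : ∀ i : ℤ, Module.Finite B (Dual.HD B ((bcD A B).obj ω) i) := by
    intro i
    obtain ⟨e⟩ := nonempty_HD_bcD_linearEquiv (B := B) ω i
    haveI := hω.finite_cohomology i
    exact Module.Finite.equiv e.symm
  -- transfer of vanishing
  have hvan : ∀ (X : Dual.D A) (_ : IsPseudoCoherent' A X) (i : ℤ),
      Subsingleton (X ⟶ ω⟦i⟧) → Subsingleton ((bcD A B).obj X ⟶ ((bcD A B).obj ω)⟦i⟧) := by
    intro X hX i hsub
    have hβ : Function.Bijective (β (B := B) X (ω⟦i⟧)) := flatHom_gb X ω hX hb i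
    haveI := hsub
    haveI : Subsingleton (B ⊗[A] (X ⟶ ω⟦i⟧)) := subsingleton_tensor B
    have h2 : Subsingleton ((bcD A B).obj X ⟶ (bcD A B).obj (ω⟦i⟧)) := hβ.2.subsingleton
    exact subsingleton_hom_of_isos (Iso.refl _) (((bcD A B).commShiftIso i).app ω).symm h2
  refine ⟨inferInstance, ?_, hfinB, ?_, ?_⟩
  · -- finite injective dimension
    have hmaxvan : ∀ (n : Ideal B), n.IsMaximal → ∀ j : ℤ, b < j →
        Subsingleton (Dual.inD B (B ⧸ n) ⟶ ((bcD A B).obj ω)⟦j⟧) := by
      intro n hn j hj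
      have hmn : (n.comap (algebraMap A B)).map (algebraMap A B) = n :=
        map_comap_eq_of_maximal I hs hJ n hn
      let e : B ⊗[A] (A ⧸ n.comap (algebraMap A B)) ≃ₗ[B] (B ⧸ n) :=
        (Algebra.TensorProduct.quotIdealMapEquivTensorQuot B
          (n.comap (algebraMap A B))).toLinearEquiv.symm.trans (Submodule.quotEquivOfEq _ _ hmn)
      have h1 := hvan (Dual.inD A (A ⧸ n.comap (algebraMap A B)))
        (isPseudoCoherentModule'_of_finite _) j (hab (A ⧸ n.comap (algebraMap A B)) j (Or.inr hj))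
      exact subsingleton_hom_of_isos
        ((singleFunctor (ModuleCat.{u} B) 0).mapIso e.symm.toModuleIso ≪≫
          (bcSingleIso (B := B) (A ⧸ n.comap (algebraMap A B))).symm) (Iso.refl _) h1
    have hvanB : ∀ (M : Type u) [AddCommGroup M] [Module B M] [Module.Finite B M] (j : ℤ),
        b < j → Subsingleton (Dual.inD B M ⟶ ((bcD A B).obj ω)⟦j⟧) := fun M _ _ _ j hj =>
      hom_inD_subsingleton_of_maximal ((bcD A B).obj ω) b
        (fun M' _ _ _ i => hom_inD_finite_of_bounded _ a b hHB hfinB M' i) hmaxvan M j hj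
    haveI hge : DerivedCategory.IsGE ((bcD A B).obj ω) a := by
      rw [DerivedCategory.isGE_iff]
      intro i hi
      haveI := hHB i (Or.inl hi)
      exact ModuleCat.isZero_of_subsingleton _
    have hamp : HasInjAmplitudeIn B a b ((bcD A B).obj ω) := by
      refine hasInjAmplitudeIn_of_hom_quot_vanishing _ a b (fun I' j hj => ?_)
      rcases hj with hj | hj
      · haveI : DerivedCategory.IsGE (((bcD A B).obj ω)⟦j⟧) (a - j) :=
          TStructure.t.isGE_shift _ a j (a - j) (by omega)
        exact ⟨fun g g' => by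
          rw [TStructure.t.zero g 0 (a - j) (by omega), TStructure.t.zero g' 0 (a - j) (by omega)]⟩
      · exact hvanB (B ⧸ I') j hj
    exact ⟨a, b, fun M _ _ i hi =>
      hom_subsingleton_of_hasInjAmplitudeIn _ a b hamp (ModuleCat.of B M) i hi⟩
  · -- `B → End` is bijective
    have hβ : Function.Bijective (β (B := B) ω ω) := flatHom_bijective ω ω hpc hb
    let fA : A →ₗ[A] (ω ⟶ ω) := LinearMap.toSpanSingleton A (ω ⟶ ω) (𝟙 ω)
    have hfA : Function.Bijective fA := by
      have h5 : (fun a : A => a • 𝟙 ω) = fA := by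
        funext a
        exact (LinearMap.toSpanSingleton_apply A (ω ⟶ ω) (𝟙 ω) a).symm
      rw [← h5]
      exact hω.toEnd_bijective
    have heq : (fun b : B => b • 𝟙 ((bcD A B).obj ω)) =
        (β (B := B) ω ω) ∘ ((fA.lTensor B) ∘ (TensorProduct.rid A B).symm) := by
      funext b
      show b • 𝟙 ((bcD A B).obj ω) = β ω ω ((fA.lTensor B) ((TensorProduct.rid A B).symm b))
      rw [TensorProduct.rid_symm_apply, LinearMap.lTensor_tmul, LinearMap.toSpanSingleton_apply,
        one_smul, β_tmul, CategoryTheory.Functor.map_id]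
    rw [heq]
    exact hβ.comp ((lTensor_bijective_of_bijective B fA hfA).comp
      (TensorProduct.rid A B).symm.bijective)
  · -- no self-extensions
    intro i hi
    exact hvan ω hpc i (hω.ext_self_subsingleton i hi)

/-- S1778. -/
theorem S1778_main (A B : Type u) [CommRing A] [CommRing B] [Algebra A B] [IsNoetherianRing A]
    [IsNoetherianRing B] [Module.Flat A B] (I : Ideal A)
    (hs : Function.Surjective
      ((Ideal.Quotient.mk (I.map (algebraMap A B))).comp (algebraMap A B)))
    (hJ : I.map (algebraMap A B) ≤ (⊥ : Ideal B).jacobson)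
    [DRing.HasLBaseChange (algebraMap A B)] (ω : Dual.D A) (hω : Dual.IsDualizing A ω) :
    Dual.IsDualizing B ((DRing.LBaseChange (algebraMap A B)).obj ω) := by
  obtain ⟨e⟩ := nonempty_lBaseChange_iso_bcD (A := A) (B := B)
  exact isDualizing_of_iso (e.app ω).symm (isDualizing_bcD_of_jacobson I hs hJ ω hω)

/-- S1779. -/
theorem S1779_main (A : Type u) [CommRing A] [IsNoetherianRing A] (I : Ideal A)
    [DRing.HasLBaseChange (algebraMap A (AdicCompletion I A))] (ω : Dual.D A)
    (hω : Dual.IsDualizing A ω) :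
    Dual.IsDualizing (AdicCompletion I A)
      ((DRing.LBaseChange (algebraMap A (AdicCompletion I A))).obj ω) := by
  haveI : IsNoetherianRing (AdicCompletion I A) := Groth.Agent.S0543.result A I
  have fg : I.FG := IsNoetherian.noetherian I
  haveI := AdicCompletion.isAdicComplete_self I fg
  have hJ : I.map (algebraMap A (AdicCompletion I A)) ≤ Ideal.jacobson ⊥ :=
    IsAdicComplete.le_jacobson_bot _
  have hs : Function.Surjective
      ((Ideal.Quotient.mk (I.map (algebraMap A (AdicCompletion I A)))).comp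
        (algebraMap A (AdicCompletion I A))) := by
    intro y
    obtain ⟨b, rfl⟩ := Ideal.Quotient.mk_surjective y
    obtain ⟨a, ha⟩ := Ideal.Quotient.mk_surjective (AdicCompletion.evalOneₐ I b)
    refine ⟨a, ?_⟩
    show Ideal.Quotient.mk _ (algebraMap A (AdicCompletion I A) a) = Ideal.Quotient.mk _ b
    rw [Ideal.Quotient.eq, ← AdicCompletion.ker_evalOneₐ_eq_map I fg, RingHom.mem_ker, map_sub]
    have h1 : (AdicCompletion.evalOneₐ I).toRingHom (algebraMap A (AdicCompletion I A) a) =
        Ideal.Quotient.mk I a :=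
      RingHom.congr_fun (AdicCompletion.evalOneₐ_comp_algebraMap_eq_mk I) a
    rw [h1, ha]
    exact sub_self _
  exact S1778_main A (AdicCompletion I A) I hs hJ ω hω

end Jacobson

end Groth.Agent.Lib.FlatHom
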