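import Mathlib
import Groth.Agent.Lib.FlatHom6_helper2
import Groth.Agent.Lib.Henselization8_helper3
import Groth.Agent.Lib.StrictHens6_lead

/-!
# Flat base change for `Hom` in the derived category, part 8 (helper2):
base change of a dualizing complex along a flat map of Noetherian rings for which every maximal
ideal of the target is extended from its contraction; henselization and strict henselization
(S1825, S1826).
-/

set_option autoImplicit false
universe u
open CategoryTheory CategoryTheory.Limits CategoryTheory.Pretriangulated DerivedCategory ZeroObject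
open scoped TensorProduct ChangeOfRings

attribute [local instance] HasDerivedCategory.standard

namespace Groth.Agent.Lib.FlatHom

open Groth.Agent.Lib.DMod_helper6 DRing Groth.Agent.ExtendScalarsLib

section MaxMap

variable {A B : Type u} [CommRing A] [CommRing B] [Algebra A B] [Module.Flat A B]

/-- base change of a dualizing complex along a flat map `A → B` of Noetherian rings such that
every maximal ideal of `B` is extended from its contraction, for the functor induced by `- ⊗ B` -/
theorem isDualizing_bcD_of_maximal_map [IsNoetherianRing A] [IsNoetherianRing B]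
    (hmaxmap : ∀ n : Ideal B, n.IsMaximal →
      (n.comap (algebraMap A B)).map (algebraMap A B) = n)
    (ω : Dual.D A) (hω : Dual.IsDualizing A ω) :
    Dual.IsDualizing B ((bcD A B).obj ω) := by
  obtain ⟨a, b, hab⟩ := hω.finite_injective_dimension
  have hH : ∀ i : ℤ, (i < a ∨ b < i) → Subsingleton (Dual.HD A ω i) := fun i hi =>
    subsingleton_HD_of_hom_quot_bot ω i (hab (A ⧸ (⊥ : Ideal A)) i hi)
  have hb : ∃ a b : ℤ, ∀ i : ℤ, (i < a ∨ b < i) → Subsingleton (Dual.HD A ω i) := ⟨a, b, hH⟩
  have hpc : IsPseudoCoherent' A ω := by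
    refine isPseudoCoherent'_of_homology ω ⟨b, fun j hj => hH j (Or.inr hj)⟩ (fun j => ?_)
    haveI := hω.finite_cohomology j
    exact isPseudoCoherentModule'_of_finite _
  have hHB : ∀ i : ℤ, (i < a ∨ b < i) → Subsingleton (Dual.HD B ((bcD A B).obj ω) i) := by
    intro i hi
    obtain ⟨e⟩ := nonempty_HD_bcD_linearEquiv (B := B) ω i
    haveI := hH i hi
    haveI : Subsingleton (B ⊗[A] Dual.HD A ω i) := subsingleton_tensor B
    exact e.toEquiv.subsingleton
  have hfinB : ∀ i : ℤ, Module.Finite B (Dual.HD B ((bcD A B).obj ω) i) := by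
    intro i
    obtain ⟨e⟩ := nonempty_HD_bcD_linearEquiv (B := B) ω i
    haveI := hω.finite_cohomology i
    exact Module.Finite.equiv e.symm
  -- transfer of vanishing
  have hvan : ∀ (X : Dual.D A) (_ : IsPseudoCoherent' A X) (i : ℤ),
      Subsingleton (X ⟶ ω⟦i⟧) → Subsingleton ((bcD A B).obj X ⟶ ((bcD A B).obj ω)⟦i⟧) := by
    intro X hX i hsub
    have hβ : Function.Bijective (β (B := B) X (ω⟦i⟧)) := flatHom_gb X ω hX hb i
    haveI := hsub
    haveI : Subsingleton (B ⊗[A] (X ⟶ ω⟦i⟧)) := subsingleton_tensor B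
    have h2 : Subsingleton ((bcD A B).obj X ⟶ (bcD A B).obj (ω⟦i⟧)) := hβ.2.subsingleton
    exact subsingleton_hom_of_isos (Iso.refl _) (((bcD A B).commShiftIso i).app ω).symm h2
  refine ⟨inferInstance, ?_, hfinB, ?_, ?_⟩
  · -- finite injective dimension
    have hmaxvan : ∀ (n : Ideal B), n.IsMaximal → ∀ j : ℤ, b < j →
        Subsingleton (Dual.inD B (B ⧸ n) ⟶ ((bcD A B).obj ω)⟦j⟧) := by
      intro n hn j hj
      have hmn : (n.comap (algebraMap A B)).map (algebraMap A B) = n := hmaxmap n hn
      let e : B ⊗[A] (A ⧸ n.comap (algebraMap A B)) ≃ₗ[B] (B ⧸ n) :=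
        (Algebra.TensorProduct.quotIdealMapEquivTensorQuot B
          (n.comap (algebraMap A B))).toLinearEquiv.symm.trans (Submodule.quotEquivOfEq _ _ hmn)
      have h1 := hvan (Dual.inD A (A ⧸ n.comap (algebraMap A B)))
        (isPseudoCoherentModule'_of_finite _) j (hab (A ⧸ n.comap (algebraMap A B)) j (Or.inr hj))
      exact subsingleton_hom_of_isos
        ((singleFunctor (ModuleCat.{u} B) 0).mapIso e.symm.toModuleIso ≪≫
          (bcSingleIso (B := B) (A ⧸ n.comap (algebraMap A B))).symm) (Iso.refl _) h1
    have hvanB : ∀ (M : Type u) [AddCommGroup M] [Module B M] [Module.Finite B M] (j : ℤ),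
        b < j → Subsingleton (Dual.inD B M ⟶ ((bcD A B).obj ω)⟦j⟧) := fun M _ _ _ j hj =>
      hom_inD_subsingleton_of_maximal ((bcD A B).obj ω) b
        (fun M' _ _ _ i => hom_inD_finite_of_bounded _ a b hHB hfinB M' i) hmaxvan M j hj
    haveI hge : DerivedCategory.IsGE ((bcD A B).obj ω) a := by
      rw [DerivedCategory.isGE_iff]
      intro i hi
      haveI := hHB i (Or.inl hi)
      exact ModuleCat.isZero_of_subsingleton _
    have hamp : HasInjAmplitudeIn B a b ((bcD A B).obj ω) := by
      refine hasInjAmplitudeIn_of_hom_quot_vanishing _ a b (fun I' j hj => ?_)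
      rcases hj with hj | hj
      · haveI : DerivedCategory.IsGE (((bcD A B).obj ω)⟦j⟧) (a - j) :=
          TStructure.t.isGE_shift _ a j (a - j) (by omega)
        exact ⟨fun g g' => by
          rw [TStructure.t.zero g 0 (a - j) (by omega), TStructure.t.zero g' 0 (a - j) (by omega)]⟩
      · exact hvanB (B ⧸ I') j hj
    exact ⟨a, b, fun M _ _ i hi =>
      hom_subsingleton_of_hasInjAmplitudeIn _ a b hamp (ModuleCat.of B M) i hi⟩
  · -- `B → End` is bijective
    have hβ : Function.Bijective (β (B := B) ω ω) := flatHom_bijective ω ω hpc hb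
    let fA : A →ₗ[A] (ω ⟶ ω) := LinearMap.toSpanSingleton A (ω ⟶ ω) (𝟙 ω)
    have hfA : Function.Bijective fA := by
      have h5 : (fun a : A => a • 𝟙 ω) = fA := by
        funext a
        exact (LinearMap.toSpanSingleton_apply A (ω ⟶ ω) (𝟙 ω) a).symm
      rw [← h5]
      exact hω.toEnd_bijective
    have heq : (fun b : B => b • 𝟙 ((bcD A B).obj ω)) =
        (β (B := B) ω ω) ∘ ((fA.lTensor B) ∘ (TensorProduct.rid A B).symm) := by
      funext b
      show b • 𝟙 ((bcD A B).obj ω) = β ω ω ((fA.lTensor B) ((TensorProduct.rid A B).symm b))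
      rw [TensorProduct.rid_symm_apply, LinearMap.lTensor_tmul, LinearMap.toSpanSingleton_apply,
        one_smul, β_tmul, CategoryTheory.Functor.map_id]
    rw [heq]
    exact hβ.comp ((lTensor_bijective_of_bijective B fA hfA).comp
      (TensorProduct.rid A B).symm.bijective)
  · -- no self-extensions
    intro i hi
    exact hvan ω hpc i (hω.ext_self_subsingleton i hi)


/-- the local case: `m_A B = m_B` -/
theorem isDualizing_bcD_of_local' [IsLocalRing A] [IsLocalRing B] [IsNoetherianRing A]
    [IsNoetherianRing B]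
    (hm : (IsLocalRing.maximalIdeal A).map (algebraMap A B) = IsLocalRing.maximalIdeal B)
    (ω : Dual.D A) (hω : Dual.IsDualizing A ω) : Dual.IsDualizing B ((bcD A B).obj ω) := by
  haveI : IsLocalHom (algebraMap A B) :=
    ((IsLocalRing.local_hom_TFAE (algebraMap A B)).out 0 2).mpr hm.le
  refine isDualizing_bcD_of_maximal_map (fun n hn => ?_) ω hω
  rw [IsLocalRing.eq_maximalIdeal hn, IsLocalRing.maximalIdeal_comap, hm]

end MaxMap

/-- S1825. -/
theorem S1825_main (A B : Type u) [CommRing A] [IsLocalRing A] [IsNoetherianRing A] [CommRing B]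
    [IsLocalRing B] [IsNoetherianRing B] [Algebra A B] [IsLocalHom (algebraMap A B)]
    [Hensel.IsHenselization A B] [DRing.HasLBaseChange (algebraMap A B)] (ω : Dual.D A)
    (hω : Dual.IsDualizing A ω) :
    Dual.IsDualizing B ((DRing.LBaseChange (algebraMap A B)).obj ω) := by
  haveI : Module.FaithfullyFlat A B :=
    Groth.Agent.Lib.HenselizationH3.faithfullyFlat_of_isHenselization (R := A) B
  have hm := Groth.Agent.Lib.HenselizationH3.map_maximalIdeal_of_isHenselization (R := A) B
  obtain ⟨e⟩ := nonempty_lBaseChange_iso_bcD (A := A) (B := B)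
  exact isDualizing_of_iso (e.app ω).symm (isDualizing_bcD_of_local' hm ω hω)

/-- S1826. -/
theorem S1826_main (A B : Type u) [CommRing A] [IsLocalRing A] [IsNoetherianRing A] [CommRing B]
    [IsLocalRing B] [IsNoetherianRing B] [Algebra A B] [IsLocalHom (algebraMap A B)]
    [Hensel.IsStrictHenselization A B] [DRing.HasLBaseChange (algebraMap A B)] (ω : Dual.D A)
    (hω : Dual.IsDualizing A ω) :
    Dual.IsDualizing B ((DRing.LBaseChange (algebraMap A B)).obj ω) := by
  haveI : Module.FaithfullyFlat A B :=
    Groth.Agent.Lib.StrictHens.faithfullyFlat_of_isStrictHenselization (R := A) B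
  have hm := Groth.Agent.Lib.StrictHens.map_maximalIdeal_of_isStrictHenselization (R := A) B
  obtain ⟨e⟩ := nonempty_lBaseChange_iso_bcD (A := A) (B := B)
  exact isDualizing_of_iso (e.app ω).symm (isDualizing_bcD_of_local' hm ω hω)

end Groth.Agent.Lib.FlatHom
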