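import Mathlib
import Groth.Agent.Lib.LocDual1_helper2

/-!
# Maps out of `A[0]` in `D(A)` compute cohomology (helper2)

`Hom_{D(A)}(P[-n], Y) = Hom_A(P, H^n(Y))` for a projective module `P`, and in particular
`Hom_{D(A)}(A, X[i]) = H^i(X)` as `A`-modules.
-/

set_option autoImplicit false
universe u
open CategoryTheory CategoryTheory.Limits DerivedCategory

attribute [local instance] HasDerivedCategory.standard

namespace Groth.Agent.Lib.HomSelf

open Groth.Agent.Lib.LocDual Groth.Agent.Lib.HDIColim Groth.Agent.Lib.DMod_helper6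

section General

variable {A : Type u} [CommRing A]

lemma isKProjective_SE (P : ModuleCat.{u} A) [Projective P] (n : ℤ) :
    (SE P n).IsKProjective := by
  haveI : ∀ k, Projective ((SE P n).X k) := fun k => by
    by_cases h : k = n
    · subst h
      exact Projective.of_iso
        (HomologicalComplex.singleObjXSelf (ComplexShape.up ℤ) k P).symm inferInstance
    · exact (HomologicalComplex.isZero_single_obj_X (ComplexShape.up ℤ) n P k h).projective
  haveI : (SE P n).IsStrictlyLE n := by
    rw [CochainComplex.isStrictlyLE_iff]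
    intro j hj
    exact HomologicalComplex.isZero_single_obj_X (ComplexShape.up ℤ) n P j (by omega)
  exact CochainComplex.isKProjective_of_projective (SE P n) n

/-- a chain map from a complex concentrated in degree `n` which factors through the differential
`Y^{n-1} ⟶ Y^n` is null-homotopic -/
noncomputable def nullHomotopyFrom {Y : DRing.Cx A} {P : ModuleCat.{u} A} (n : ℤ)
    (ψ : SE P n ⟶ Y) (k : P ⟶ Y.X (n - 1))
    (hk : k ≫ Y.d (n - 1) n =
      (HomologicalComplex.singleObjXSelf (ComplexShape.up ℤ) n P).inv ≫ ψ.f n) :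
    Homotopy ψ 0 where
  hom i j := if h : i = n ∧ j = n - 1 then
      ((SE P n).XIsoOfEq h.1).hom ≫
        (HomologicalComplex.singleObjXSelf (ComplexShape.up ℤ) n P).hom ≫ k ≫
          (Y.XIsoOfEq h.2.symm).hom
    else 0
  zero i j hij := dif_neg (by
    rintro ⟨rfl, rfl⟩
    exact hij (by simp))
  comm i := by
    by_cases hi : i = n
    · subst hi
      rw [prevD_eq _ (show (ComplexShape.up ℤ).Rel (i - 1) i by simp),
        dNext_eq _ (show (ComplexShape.up ℤ).Rel i (i + 1) by simp),
        HomologicalComplex.single_obj_d, zero_comp, zero_add, HomologicalComplex.zero_f, add_zero,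
        dif_pos ⟨rfl, rfl⟩]
      simp only [HomologicalComplex.XIsoOfEq_rfl, Iso.refl_hom, Category.id_comp, Category.comp_id,
        Category.assoc]
      rw [hk, Iso.hom_inv_id_assoc]
    · apply IsZero.eq_of_src
      exact HomologicalComplex.isZero_single_obj_X _ _ _ _ hi

variable (P : ModuleCat.{u} A) (Y : DRing.Cx A) (n : ℤ)

/-- `φ ↦ H^n(φ)` on maps from `P[-n]` -/
noncomputable def Ψ : (Q.obj (SE P n) ⟶ Q.obj Y) →ₗ[A] (P ⟶ Y.homology n) where
  toFun φ := (HomologicalComplex.singleObjHomologySelfIso (ComplexShape.up ℤ) n P).inv ≫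
    (homologyFunctorFactors (ModuleCat.{u} A) n).inv.app (SE P n) ≫
      (DerivedCategory.homologyFunctor (ModuleCat.{u} A) n).map φ ≫
        (homologyFunctorFactors (ModuleCat.{u} A) n).hom.app Y
  map_add' φ φ' := by
    rw [CategoryTheory.Functor.map_add, Preadditive.add_comp, Preadditive.comp_add,
      Preadditive.comp_add]
  map_smul' a φ := by
    rw [CategoryTheory.Functor.map_smul, Linear.smul_comp, Linear.comp_smul, Linear.comp_smul]
    rfl

lemma Ψ_Q_map (ψ : SE P n ⟶ Y) :
    Ψ P Y n (Q.map ψ) =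
      (HomologicalComplex.singleObjHomologySelfIso (ComplexShape.up ℤ) n P).inv ≫
        HomologicalComplex.homologyMap ψ n := by
  have h1 := (homologyFunctorFactors (ModuleCat.{u} A) n).hom.naturality ψ
  have h2 : (DerivedCategory.homologyFunctor (ModuleCat.{u} A) n).map (Q.map ψ) ≫
      (homologyFunctorFactors (ModuleCat.{u} A) n).hom.app Y =
      (homologyFunctorFactors (ModuleCat.{u} A) n).hom.app (SE P n) ≫
        HomologicalComplex.homologyMap ψ n := h1
  have h3 : (homologyFunctorFactors (ModuleCat.{u} A) n).inv.app (SE P n) ≫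
      (DerivedCategory.homologyFunctor (ModuleCat.{u} A) n).map (Q.map ψ) ≫
        (homologyFunctorFactors (ModuleCat.{u} A) n).hom.app Y =
      HomologicalComplex.homologyMap ψ n :=
    (congrArg (fun t => (homologyFunctorFactors (ModuleCat.{u} A) n).inv.app (SE P n) ≫ t) h2).trans
      (Iso.inv_hom_id_app_assoc (homologyFunctorFactors (ModuleCat.{u} A) n) (SE P n) _)
  exact congrArg (fun t =>
    (HomologicalComplex.singleObjHomologySelfIso (ComplexShape.up ℤ) n P).inv ≫ t) h3

variable [Projective P]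

lemma Ψ_surjective : Function.Surjective (Ψ P Y n) := by
  intro h
  let g' : P ⟶ Y.cycles n := Projective.factorThru h (Y.homologyπ n)
  have hg' : g' ≫ Y.homologyπ n = h := Projective.factorThru_comp h (Y.homologyπ n)
  let ψ : SE P n ⟶ Y := HomologicalComplex.mkHomFromSingle (g' ≫ Y.iCycles n) (by
    intro j hj
    rw [Category.assoc, HomologicalComplex.iCycles_d, comp_zero])
  refine ⟨Q.map ψ, ?_⟩
  have hc : (HomologicalComplex.singleObjCyclesSelfIso (ComplexShape.up ℤ) n P).inv ≫
      HomologicalComplex.cyclesMap ψ n = g' := by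
    rw [← cancel_mono (Y.iCycles n), Category.assoc, HomologicalComplex.cyclesMap_i,
      HomologicalComplex.singleObjCyclesSelfIso_inv_iCycles_assoc,
      HomologicalComplex.mkHomFromSingle_f, Iso.inv_hom_id_assoc]
  rw [Ψ_Q_map, ← HomologicalComplex.singleObjCyclesSelfIso_inv_homologyπ, Category.assoc,
    HomologicalComplex.homologyπ_naturality, ← Category.assoc, hc, hg']

lemma Ψ_injective : Function.Injective (Ψ P Y n) := by
  haveI := isKProjective_SE P n
  rw [injective_iff_map_eq_zero]
  intro φ hφ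
  obtain ⟨ψ, rfl⟩ := exists_Q_map_eq_of_isKProjective φ
  rw [Ψ_Q_map] at hφ
  have h0 : HomologicalComplex.homologyMap ψ n = 0 := by
    rw [← cancel_epi (HomologicalComplex.singleObjHomologySelfIso (ComplexShape.up ℤ) n P).inv,
      hφ, comp_zero]
  let g' : P ⟶ Y.cycles n :=
    (HomologicalComplex.singleObjCyclesSelfIso (ComplexShape.up ℤ) n P).inv ≫
      HomologicalComplex.cyclesMap ψ n
  have hg' : g' ≫ Y.homologyπ n = 0 := by
    show (_ ≫ HomologicalComplex.cyclesMap ψ n) ≫ Y.homologyπ n = 0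
    rw [Category.assoc, ← HomologicalComplex.homologyπ_naturality, h0, comp_zero, comp_zero]
  have hex : (ShortComplex.mk (Y.toCycles (n - 1) n) (Y.homologyπ n)
      (Y.toCycles_comp_homologyπ (n - 1) n)).Exact :=
    ShortComplex.exact_of_g_is_cokernel _ (Y.homologyIsCokernel (n - 1) n (by simp))
  let k : P ⟶ Y.X (n - 1) := hex.liftFromProjective g' hg'
  have hk : k ≫ Y.toCycles (n - 1) n = g' := hex.liftFromProjective_comp g' hg'
  have hk' : k ≫ Y.d (n - 1) n =
      (HomologicalComplex.singleObjXSelf (ComplexShape.up ℤ) n P).inv ≫ ψ.f n := by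
    rw [← Y.toCycles_i (n - 1) n, ← Category.assoc, hk]
    show (_ ≫ HomologicalComplex.cyclesMap ψ n) ≫ Y.iCycles n = _
    rw [Category.assoc, HomologicalComplex.cyclesMap_i,
      HomologicalComplex.singleObjCyclesSelfIso_inv_iCycles_assoc]
  exact Q_map_eq_zero_of_homotopy ψ (nullHomotopyFrom n ψ k hk')

/-- maps in `D(A)` from a projective module placed in degree `n` are maps to `H^n` -/
noncomputable def homEquivSP : (Q.obj (SE P n) ⟶ Q.obj Y) ≃ₗ[A] (P ⟶ Y.homology n) :=
  LinearEquiv.ofBijective (Ψ P Y n) ⟨Ψ_injective P Y n, Ψ_surjective P Y n⟩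

end General

section D

variable {A : Type u} [CommRing A]

/-- `Hom_{D(A)}(A, X[i]) = H^i(X)` -/
theorem hom_inD_self_equiv (X : Dual.D A) (i : ℤ) :
    Nonempty ((Dual.inD A A ⟶ X⟦i⟧) ≃ₗ[A] Dual.HD A X i) := by
  haveI : Projective (ModuleCat.of A A) :=
    (IsProjective.iff_projective (R := A) A).1 inferInstance
  let Y := Q.objPreimage (X⟦i⟧)
  let eX : Q.obj Y ≅ X⟦i⟧ := Q.objObjPreimageIso (X⟦i⟧)
  let s : Dual.inD A A ≅ Q.obj (SE (ModuleCat.of A A) 0) :=
    (DerivedCategory.singleFunctorIsoCompQ (ModuleCat.{u} A) 0).app (ModuleCat.of A A)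
  let e1 : (Dual.inD A A ⟶ X⟦i⟧) ≃ₗ[A] (Q.obj (SE (ModuleCat.of A A) 0) ⟶ Q.obj Y) :=
    Linear.homCongr A s eX.symm
  let e2 := homEquivSP (ModuleCat.of A A) Y 0
  let e3 : (ModuleCat.of A A ⟶ Y.homology 0) ≃ₗ[A] (A →ₗ[A] Y.homology 0) :=
    ModuleCat.homLinearEquiv
  let e4 : (A →ₗ[A] Y.homology 0) ≃ₗ[A] Y.homology 0 := LinearMap.ringLmapEquivSelf A A _
  let i1 : Y.homology 0 ≅ (DerivedCategory.homologyFunctor (ModuleCat.{u} A) i).obj X :=
    ((homologyFunctorFactors (ModuleCat.{u} A) 0).app Y).symm ≪≫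
      (DerivedCategory.homologyFunctor (ModuleCat.{u} A) 0).mapIso eX ≪≫
      ((DerivedCategory.homologyFunctor (ModuleCat.{u} A) 0).shiftIso i 0 i (add_zero i)).app X
  exact ⟨e1.trans (e2.trans (e3.trans (e4.trans i1.toLinearEquiv)))⟩

end D

end Groth.Agent.Lib.HomSelf
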