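import Mathlib
import Groth.Agent.Lib.DerivedAdj_helper2
import Groth.Agent.Lib.OrthDeriv_helper9
import Groth.Agent.Lib.KInjGen8_helper7
import Groth.Agent.Lib.DMod106_helper6

/-!
# Restriction of scalars on derived categories has a right adjoint (helper2)

* `isRightDerivedFunctor_of_isIso_on`: in a triangulated category with enough resolutions by
  right-orthogonal objects, a functor with a comparison map which is an isomorphism on the
  right-orthogonal objects is a right derived functor.
* `exists_rightAdjoint_restrictD`: for a ring map `φ : A → B`, the functor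
  `DRing.restrictD φ : D(B) ⥤ D(A)` has a right adjoint (the right derived functor of termwise
  coextension of scalars `Hom_A(B, -)`).
-/

set_option autoImplicit false
universe u
open CategoryTheory CategoryTheory.Limits Pretriangulated

namespace Groth.Agent.Lib.RestrictRightAdj

section Criterion

universe v' u'

variable {C : Type u'} [Category.{v'} C] [HasZeroObject C] [HasShift C ℤ] [Preadditive C]
  [∀ n : ℤ, (shiftFunctor C n).Additive] [Pretriangulated C] [IsTriangulated C]
  {P : ObjectProperty C} [P.IsTriangulated]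

theorem isRightDerivedFunctor_of_isIso_on (W : MorphismProperty C) (hW : W = P.trW)
    (hP : ∀ X : C, ∃ (Y : C) (f : X ⟶ Y), P.trW f ∧ P.rightOrthogonal Y)
    {D : Type*} [Category D] (L : C ⥤ D) [L.IsLocalization W]
    {H : Type*} [Category H] (F : C ⥤ H) (RF : D ⥤ H) (α : F ⟶ L ⋙ RF)
    (hα : ∀ Y : C, P.rightOrthogonal Y → IsIso (α.app Y)) : RF.IsRightDerivedFunctor α W := by
  subst hW
  haveI := OrthDeriv.isRightDerivabilityStructure hP
  have h : (OrthDeriv.Φ P).Derives F := by
    intro X Y f hf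
    haveI : IsIso f := hf
    infer_instance
  exact h.isRightDerivedFunctor_of_isIso α (fun X₁ => hα X₁.obj X₁.property)

end Criterion

section Main

open DerivedCategory Groth.Agent.Lib.DMod_helper6 Groth.Agent.Lib.DerivedAdj

attribute [local instance] HasDerivedCategory.standard

variable {A B : Type u} [CommRing A] [CommRing B] (φ : A →+* B)

/-- **restriction of scalars on derived categories has a right adjoint** -/
theorem exists_rightAdjoint_restrictD :
    ∃ R : Dual.D A ⥤ Dual.D B, Nonempty (DRing.restrictD φ ⊣ R) := by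
  let W₁ := HomotopyCategory.quasiIso (ModuleCat.{u} B) (ComplexShape.up ℤ)
  let W₂ := HomotopyCategory.quasiIso (ModuleCat.{u} A) (ComplexShape.up ℤ)
  let GK := (ModuleCat.restrictScalars.{u} φ).mapHomotopyCategory (ComplexShape.up ℤ)
  let FK := (ModuleCat.coextendScalars φ : ModuleCat.{u} A ⥤ ModuleCat.{u} B).mapHomotopyCategory
    (ComplexShape.up ℤ)
  let adj : GK ⊣ FK := adjK (rcAdj φ) (ComplexShape.up ℤ)
  let αi : Qh ⋙ DRing.restrictD φ ≅ GK ⋙ Qh :=
    (ModuleCat.restrictScalars.{u} φ).mapDerivedCategoryFactorsh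
  let α : Qh ⋙ DRing.restrictD φ ⟶ GK ⋙ Qh := αi.hom
  have hmain := OrthDeriv.main
    (P := HomotopyCategory.subcategoryAcyclic (ModuleCat.{u} A)) W₂
    (HomotopyCategory.quasiIso_eq_trW_subcategoryAcyclic _)
    Groth.Agent.Lib.KInjGen8.hP (Qh : _ ⥤ Dual.D A) (FK ⋙ (Qh : _ ⥤ Dual.D B))
  haveI : (FK ⋙ (Qh : _ ⥤ Dual.D B)).HasRightDerivedFunctor W₂ := hmain.1
  let R : Dual.D A ⥤ Dual.D B := (FK ⋙ (Qh : _ ⥤ Dual.D B)).totalRightDerived Qh W₂
  let β : FK ⋙ (Qh : _ ⥤ Dual.D B) ⟶ (Qh : _ ⥤ Dual.D A) ⋙ R :=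
    (FK ⋙ (Qh : _ ⥤ Dual.D B)).totalRightDerivedUnit Qh W₂
  have hβ : ∀ Y, (HomotopyCategory.subcategoryAcyclic (ModuleCat.{u} A)).rightOrthogonal Y →
      IsIso (β.app Y) := fun Y hY => hmain.2 Y hY
  haveI : (DRing.restrictD φ).IsLeftDerivedFunctor α W₁ :=
    Functor.isLeftDerivedFunctor_of_inverts W₁ _ αi
  haveI : R.IsRightDerivedFunctor β W₂ :=
    inferInstanceAs (((FK ⋙ (Qh : _ ⥤ Dual.D B)).totalRightDerived Qh W₂).IsRightDerivedFunctor
      ((FK ⋙ (Qh : _ ⥤ Dual.D B)).totalRightDerivedUnit Qh W₂) W₂)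
  haveI h1 : (DRing.restrictD φ ⋙ R).IsLeftDerivedFunctor
      ((Functor.associator _ _ _).inv ≫ Functor.whiskerRight α R) W₁ := by
    rw [Functor.isLeftDerivedFunctor_iff_of_inverts]
    · infer_instance
    · have h3 : W₁.IsInvertedBy (Qh ⋙ (DRing.restrictD φ ⋙ R)) :=
        MorphismProperty.IsInvertedBy.of_comp W₁ Qh (Localization.inverts Qh W₁) _
      exact (MorphismProperty.IsInvertedBy.iff_of_iso W₁
        ((Functor.associator _ _ _).symm ≪≫
          Functor.isoWhiskerRight αi R ≪≫ Functor.associator _ _ _)).1 h3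
  haveI h2 : (R ⋙ DRing.restrictD φ).IsRightDerivedFunctor
      (Functor.whiskerRight β (DRing.restrictD φ) ≫ (Functor.associator _ _ _).hom) W₂ := by
    refine isRightDerivedFunctor_of_isIso_on
      (P := HomotopyCategory.subcategoryAcyclic (ModuleCat.{u} A)) W₂
      (HomotopyCategory.quasiIso_eq_trW_subcategoryAcyclic _)
      Groth.Agent.Lib.KInjGen8.hP Qh _ _ _ (fun Y hY => ?_)
    haveI : IsIso (β.app Y) := hβ Y hY
    rw [NatTrans.comp_app]
    dsimp
    infer_instance
  exact ⟨R, ⟨adj.derived W₁ W₂ α β⟩⟩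

end Main

end Groth.Agent.Lib.RestrictRightAdj
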