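import Mathlib
import Groth.Agent.Lib.FlatHom8_helper2
import Groth.Agent.Lib.FlatHom7_helper2
import Groth.Agent.Lib.HomSelf1_helper2
import Groth.Agent.Lib.RestrictRightAdj_helper2
import Groth.Agent.Lib.DMod109_helper6
import Groth.Agent.Lib.DMod112_helper6
import Groth.Agent.Lib.DMod116_helper6
import Groth.Agent.Lib.DMod29_helper6
import Groth.Agent.Lib.FlatGor_helper9
import Groth.Agent.S0299
import Groth.Agent.S11179

/-!
# Formal fibres of a local ring with a dualizing complex are Gorenstein (helper2)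

* `nonempty_bcD_comp_iso`: transitivity of flat base change on derived categories (object level);
* `fibRing_gorenstein`: for a flat local homomorphism `R → S` of Noetherian local rings, if `ω` is
  dualizing for `R` and `ω ⊗ S` is dualizing for `S`, the closed fibre `S / m_R S` is Gorenstein;
* `fibLocRing_gor_of_bcD`: the same for all fibre local rings of a flat map `A → B`;
* `S1723_main`.
-/

set_option autoImplicit false
universe u
open CategoryTheory CategoryTheory.Limits DerivedCategory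
open scoped TensorProduct

attribute [local instance] HasDerivedCategory.standard

namespace Groth.Agent.Lib.FormalGor

open Groth.Agent.Lib.DMod_helper6 DRing Groth.Agent.Lib.FlatHom Groth.Agent.ExtendScalarsLib

section Comp

variable (A B C : Type u) [CommRing A] [CommRing B] [CommRing C] [Algebra A B] [Algebra B C]
  [Algebra A C] [IsScalarTower A B C]

lemma nonempty_ES_comp : Nonempty (ES A B ⋙ ES B C ≅ ES A C) := by
  have h : algebraMap A C = (algebraMap B C).comp (algebraMap A B) :=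
    IsScalarTower.algebraMap_eq A B C
  show Nonempty (ModuleCat.extendScalars.{u, u, u} (algebraMap A B) ⋙
    ModuleCat.extendScalars.{u, u, u} (algebraMap B C) ≅
      ModuleCat.extendScalars.{u, u, u} (algebraMap A C))
  rw [h]
  exact ⟨(ModuleCat.extendScalarsComp _ _).symm⟩

variable [Module.Flat A B] [Module.Flat B C] [Module.Flat A C]

/-- transitivity of flat base change, on objects -/
theorem nonempty_bcD_comp_iso (K : Dual.D A) :
    Nonempty ((bcD B C).obj ((bcD A B).obj K) ≅ (bcD A C).obj K) := by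
  obtain ⟨θ⟩ := nonempty_ES_comp A B C
  let E : Cx A := DerivedCategory.Q.objPreimage K
  let eK : toD E ≅ K := DerivedCategory.Q.objObjPreimageIso K
  let c : ((ES B C).mapHomologicalComplex (ComplexShape.up ℤ)).obj
      (((ES A B).mapHomologicalComplex (ComplexShape.up ℤ)).obj E) ≅
      ((ES A C).mapHomologicalComplex (ComplexShape.up ℤ)).obj E :=
    HomologicalComplex.Hom.isoOfComponents (fun i => θ.app (E.X i))
      (fun i j _ => (θ.hom.naturality (E.d i j)).symm)
  exact ⟨(bcD B C).mapIso ((bcD A B).mapIso eK.symm ≪≫ bcDIso E) ≪≫ bcDIso _ ≪≫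
    DerivedCategory.Q.mapIso c ≪≫ (bcDIso E).symm ≪≫ (bcD A C).mapIso eK⟩

end Comp

section Adj

variable {A B : Type u} [CommRing A] [CommRing B] {φ : A →+* B}

lemma homEquiv_symm_add (R : Dual.D A ⥤ Dual.D B) (adj : restrictD φ ⊣ R) (Y : Dual.D B)
    (K : Dual.D A) (u v : Y ⟶ R.obj K) :
    (adj.homEquiv Y K).symm (u + v) =
      (adj.homEquiv Y K).symm u + (adj.homEquiv Y K).symm v := by
  apply (adj.homEquiv Y K).injective
  rw [Equiv.apply_symm_apply, homEquiv_add, Equiv.apply_symm_apply, Equiv.apply_symm_apply]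

lemma homEquiv_symm_smul (R : Dual.D A ⥤ Dual.D B) (adj : restrictD φ ⊣ R) (Y : Dual.D B)
    (K : Dual.D A) (a : A) (u : Y ⟶ R.obj K) :
    (adj.homEquiv Y K).symm (φ a • u) = a • (adj.homEquiv Y K).symm u := by
  apply (adj.homEquiv Y K).injective
  rw [Equiv.apply_symm_apply, homEquiv_smul, Equiv.apply_symm_apply]

end Adj

section Core

variable (R S : Type u) [CommRing R] [CommRing S] [IsLocalRing R] [IsLocalRing S]
  [IsNoetherianRing R] [IsNoetherianRing S] [Algebra R S] [IsLocalHom (algebraMap R S)]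
  [Module.Flat R S]

/-- the closed fibre as a tensor product -/
noncomputable def fibEquiv :
    EGA4.FibRing R S ≃ₗ[S] S ⊗[R] IsLocalRing.ResidueField R :=
  (Algebra.TensorProduct.quotIdealMapEquivTensorQuot S
      (IsLocalRing.maximalIdeal R)).toLinearEquiv ≪≫ₗ
    TensorProduct.AlgebraTensorModule.congr (LinearEquiv.refl S S) resEquiv

/-- the `S`-linear computation of `Hom_{D(S)}(S/m_R S, (ω ⊗ S)[i])` -/
theorem restr_hom_equiv (ω : Dual.D R)
    (hb : ∃ a b : ℤ, ∀ i : ℤ, (i < a ∨ b < i) → Subsingleton (Dual.HD R ω i)) (i : ℤ) :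
    Nonempty (((restrictD (algebraMap S (EGA4.FibRing R S))).obj
        (Dual.inD (EGA4.FibRing R S) (EGA4.FibRing R S)) ⟶ ((bcD R S).obj ω)⟦i⟧) ≃ₗ[S]
      S ⊗[R] (Dual.inD R (IsLocalRing.ResidueField R) ⟶ ω⟦i⟧)) := by
  haveI : Module.Finite R (IsLocalRing.ResidueField R) := Module.Finite.equiv resEquiv
  have hK : IsPseudoCoherent' R (Dual.inD R (IsLocalRing.ResidueField R)) :=
    isPseudoCoherentModule'_of_finite _
  have hβ : Function.Bijective
      (β (B := S) (Dual.inD R (IsLocalRing.ResidueField R)) (ω⟦i⟧)) :=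
    flatHom_gb (Dual.inD R (IsLocalRing.ResidueField R)) ω hK hb i
  let e1 : (restrictD (algebraMap S (EGA4.FibRing R S))).obj
      (Dual.inD (EGA4.FibRing R S) (EGA4.FibRing R S)) ≅
      (bcD R S).obj (Dual.inD R (IsLocalRing.ResidueField R)) :=
    restrictDInDSelfIso ≪≫
      (DerivedCategory.singleFunctor (ModuleCat.{u} S) 0).mapIso (fibEquiv R S).toModuleIso ≪≫
      (bcSingleIso (B := S) (IsLocalRing.ResidueField R)).symm
  let e2 : ((bcD R S).obj ω)⟦i⟧ ≅ (bcD R S).obj (ω⟦i⟧) :=
    (((bcD R S).commShiftIso i).app ω).symm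
  exact ⟨(Linear.homCongr S e1 e2).trans
    (LinearEquiv.ofBijective (βₗ (Dual.inD R (IsLocalRing.ResidueField R)) (ω⟦i⟧)) hβ).symm⟩

/-- the normalized case -/
theorem fibRing_gorenstein_aux (ω : Dual.D R) (hω : Dual.IsDualizing R ω)
    (hn : Dual.IsNormalized R ω) (hY : Dual.IsDualizing S ((bcD R S).obj ω)) :
    LocCoh.IsGorensteinLocalRing (EGA4.FibRing R S) := by
  obtain ⟨a', b', hab⟩ := hω.finite_injective_dimension
  have hb : ∃ a b : ℤ, ∀ j : ℤ, (j < a ∨ b < j) → Subsingleton (Dual.HD R ω j) :=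
    ⟨a', b', fun j hj => subsingleton_HD_of_hom_quot_bot ω j (hab (R ⧸ (⊥ : Ideal R)) j hj)⟩
  obtain ⟨Rs, ⟨adj⟩⟩ := Groth.Agent.Lib.RestrictRightAdj.exists_rightAdjoint_restrictD
    (algebraMap S (EGA4.FibRing R S))
  have hωF : Dual.IsDualizing (EGA4.FibRing R S) (Rs.obj ((bcD R S).obj ω)) :=
    isDualizing_rightAdjoint_restrictD Rs adj _ hY
  -- vanishing
  have hsub : ∀ i : ℤ, i ≠ 0 →
      Subsingleton (Dual.HD (EGA4.FibRing R S) (Rs.obj ((bcD R S).obj ω)) i) := by
    intro i hi
    refine (subsingleton_hom_inD_self_iff _ i).1 ?_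
    refine subsingleton_hom_shift_of_adj Rs adj _ _ i ?_
    obtain ⟨e⟩ := restr_hom_equiv R S ω hb i
    haveI := hn i hi
    haveI : Subsingleton (S ⊗[R] (Dual.inD R (IsLocalRing.ResidueField R) ⟶ ω⟦i⟧)) :=
      subsingleton_tensor S
    exact e.toEquiv.subsingleton
  -- degree zero
  obtain ⟨E, _, _, f, hf⟩ := Groth.Agent.S0299.result R (IsLocalRing.ResidueField R)
  haveI hsκ : IsSimpleModule R (IsLocalRing.ResidueField R) := isSimpleModule_residueField
  have hκfl : IsFiniteLength R (IsLocalRing.ResidueField R) :=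
    Module.length_ne_top_iff.1 (by
      rw [Module.length_eq_one R (IsLocalRing.ResidueField R)]; exact ENat.one_ne_top)
  haveI hs1 : IsSimpleModule R (IsLocalRing.ResidueField R →ₗ[R] E) := by
    rw [← Module.length_eq_one_iff, Groth.Agent.S5170.result R E f hf _ hκfl,
      Module.length_eq_one R (IsLocalRing.ResidueField R)]
  obtain ⟨g1⟩ := (ext_finiteLength_normalized_dualizing ω hω hn E f hf
    (IsLocalRing.ResidueField R) hκfl).2
  obtain ⟨g2⟩ := nonempty_residueField_linearEquiv_of_isSimpleModule (A := R)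
    (IsLocalRing.ResidueField R →ₗ[R] E)
  let g0 : (Dual.inD R (IsLocalRing.ResidueField R) ⟶ ω⟦(0 : ℤ)⟧) ≃ₗ[R]
      (Dual.inD R (IsLocalRing.ResidueField R) ⟶ ω) :=
    Linear.homCongr R (Iso.refl _) ((shiftFunctorZero (Dual.D R) ℤ).app ω)
  let g : (Dual.inD R (IsLocalRing.ResidueField R) ⟶ ω⟦(0 : ℤ)⟧) ≃ₗ[R]
      IsLocalRing.ResidueField R := g0.trans (g1.trans g2.symm)
  obtain ⟨e4⟩ := restr_hom_equiv R S ω hb 0
  let e5 : S ⊗[R] (Dual.inD R (IsLocalRing.ResidueField R) ⟶ ω⟦(0 : ℤ)⟧) ≃ₗ[S]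
      S ⊗[R] IsLocalRing.ResidueField R :=
    TensorProduct.AlgebraTensorModule.congr (LinearEquiv.refl S S) g
  let e3 : ((restrictD (algebraMap S (EGA4.FibRing R S))).obj
        (Dual.inD (EGA4.FibRing R S) (EGA4.FibRing R S)) ⟶ (bcD R S).obj ω) ≃ₗ[S]
      ((restrictD (algebraMap S (EGA4.FibRing R S))).obj
        (Dual.inD (EGA4.FibRing R S) (EGA4.FibRing R S)) ⟶ ((bcD R S).obj ω)⟦(0 : ℤ)⟧) :=
    Linear.homCongr S (Iso.refl _) ((shiftFunctorZero (Dual.D S) ℤ).app ((bcD R S).obj ω)).symm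
  let Φ : ((restrictD (algebraMap S (EGA4.FibRing R S))).obj
        (Dual.inD (EGA4.FibRing R S) (EGA4.FibRing R S)) ⟶ (bcD R S).obj ω) ≃ₗ[S]
      EGA4.FibRing R S := e3.trans (e4.trans (e5.trans (fibEquiv R S).symm))
  obtain ⟨e1⟩ := Groth.Agent.Lib.HomSelf.hom_inD_self_equiv (Rs.obj ((bcD R S).obj ω)) 0
  let e2 : (Dual.inD (EGA4.FibRing R S) (EGA4.FibRing R S) ⟶
        (Rs.obj ((bcD R S).obj ω))⟦(0 : ℤ)⟧) ≃ₗ[EGA4.FibRing R S]
      (Dual.inD (EGA4.FibRing R S) (EGA4.FibRing R S) ⟶ Rs.obj ((bcD R S).obj ω)) :=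
    Linear.homCongr (EGA4.FibRing R S) (Iso.refl _)
      ((shiftFunctorZero (Dual.D (EGA4.FibRing R S)) ℤ).app (Rs.obj ((bcD R S).obj ω)))
  let Ψ : Dual.HD (EGA4.FibRing R S) (Rs.obj ((bcD R S).obj ω)) 0 ≃ₗ[EGA4.FibRing R S]
      (Dual.inD (EGA4.FibRing R S) (EGA4.FibRing R S) ⟶ Rs.obj ((bcD R S).obj ω)) :=
    e1.symm.trans e2
  let T : Dual.HD (EGA4.FibRing R S) (Rs.obj ((bcD R S).obj ω)) 0 ≃ₗ[EGA4.FibRing R S]
      EGA4.FibRing R S :=
    { toFun := fun x => Φ ((adj.homEquiv _ _).symm (Ψ x))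
      map_add' := fun x y => by
        rw [map_add, homEquiv_symm_add, map_add]
      map_smul' := fun c x => by
        obtain ⟨s, rfl⟩ := Ideal.Quotient.mk_surjective c
        have h1 : Ψ (Ideal.Quotient.mk _ s • x) =
            algebraMap S (EGA4.FibRing R S) s • Ψ x := map_smul Ψ _ x
        rw [h1, homEquiv_symm_smul, map_smul, Algebra.smul_def]
        rfl
      invFun := fun y => Ψ.symm (adj.homEquiv _ _ (Φ.symm y))
      left_inv := fun x => by
        simp only [LinearEquiv.symm_apply_apply, Equiv.apply_symm_apply]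
      right_inv := fun y => by
        simp only [LinearEquiv.apply_symm_apply, Equiv.symm_apply_apply] }
  obtain ⟨ι⟩ := nonempty_iso_inD_shift_of_HD_single (Rs.obj ((bcD R S).obj ω)) 0 0 (by omega)
    hsub (EGA4.FibRing R S) T
  have h3 : Dual.IsDualizing (EGA4.FibRing R S)
      (Dual.inD (EGA4.FibRing R S) (EGA4.FibRing R S)) :=
    isDualizing_of_iso (ι ≪≫ (shiftFunctorZero (Dual.D (EGA4.FibRing R S)) ℤ).app _) hωF
  exact (Groth.Agent.S11179.result (EGA4.FibRing R S)).2 h3

/-- **Gorenstein closed fibre**: for a flat local homomorphism `R → S` of Noetherian local rings, if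
`ω` is dualizing for `R` and `ω ⊗_R S` is dualizing for `S`, then `S / m_R S` is Gorenstein. -/
theorem fibRing_gorenstein (ω : Dual.D R) (hω : Dual.IsDualizing R ω)
    (hY : Dual.IsDualizing S ((bcD R S).obj ω)) :
    LocCoh.IsGorensteinLocalRing (EGA4.FibRing R S) := by
  obtain ⟨n, hn⟩ := exists_isNormalized_shift ω hω
  have hω' := isDualizing_shift ω hω n
  have hY' : Dual.IsDualizing S ((bcD R S).obj (ω⟦n⟧)) :=
    isDualizing_of_iso (((bcD R S).commShiftIso n).app ω).symm (isDualizing_shift _ hY n)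
  exact fibRing_gorenstein_aux R S (ω⟦n⟧) hω' hn hY'

end Core

section Fib

variable (A B : Type u) [CommRing A] [CommRing B] [Algebra A B] [IsNoetherianRing A]
  [IsNoetherianRing B] [Module.Flat A B]

/-- all fibre local rings of a flat map `A → B` with `ω ⊗ B` dualizing are Gorenstein -/
theorem fibLocRing_gor_of_bcD (ω : Dual.D A) (hω : Dual.IsDualizing A ω)
    (hB : Dual.IsDualizing B ((bcD A B).obj ω)) (Q : Ideal B) [Q.IsPrime] :
    LocCoh.IsGorensteinLocalRing (EGA4.FibLocRing A B Q) := by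
  set p := Q.comap (algebraMap A B) with hp
  haveI : Q.LiesOver p := ⟨rfl⟩
  letI := Localization.AtPrime.algebraOfLiesOver p Q
  haveI : IsLocalHom (algebraMap (Localization.AtPrime p) (Localization.AtPrime Q)) :=
    Localization.isLocalHom_localRingHom _ _ _ _
  haveI : Module.Flat A (Localization.AtPrime Q) := Module.Flat.trans A B (Localization.AtPrime Q)
  haveI : Module.Flat (Localization.AtPrime p) (Localization.AtPrime Q) := by
    rw [Module.flat_iff_of_isLocalization (Localization.AtPrime p) p.primeCompl]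
    infer_instance
  haveI : IsNoetherianRing (Localization.AtPrime Q) :=
    IsLocalization.isNoetherianRing Q.primeCompl _ inferInstance
  haveI : IsNoetherianRing (Localization.AtPrime p) :=
    IsLocalization.isNoetherianRing p.primeCompl _ inferInstance
  have hI : (IsLocalRing.maximalIdeal (Localization.AtPrime p)).map
      (algebraMap (Localization.AtPrime p) (Localization.AtPrime Q)) =
      p.map (algebraMap A (Localization.AtPrime Q)) := by
    rw [← Localization.AtPrime.map_eq_maximalIdeal, Ideal.map_map,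
      ← IsScalarTower.algebraMap_eq]
  let e : EGA4.FibRing (Localization.AtPrime p) (Localization.AtPrime Q) ≃+*
      EGA4.FibLocRing A B Q := Ideal.quotEquivOfEq hI
  have h1 : Dual.IsDualizing (Localization.AtPrime p) (locD ω p) := isDualizing_locD ω p hω
  have h2 : Dual.IsDualizing (Localization.AtPrime Q) (locD ((bcD A B).obj ω) Q) :=
    isDualizing_locD _ Q hB
  obtain ⟨c1⟩ := nonempty_bcD_comp_iso A (Localization.AtPrime p) (Localization.AtPrime Q) ω
  obtain ⟨c2⟩ := nonempty_bcD_comp_iso A B (Localization.AtPrime Q) ω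
  have h3 : Dual.IsDualizing (Localization.AtPrime Q)
      ((bcD (Localization.AtPrime p) (Localization.AtPrime Q)).obj (locD ω p)) :=
    isDualizing_of_iso (c2 ≪≫ c1.symm) h2
  have h4 := fibRing_gorenstein (Localization.AtPrime p) (Localization.AtPrime Q) (locD ω p) h1 h3
  exact (Groth.Agent.GorFlat9.gorenstein_congr e).1 h4

end Fib

/-- S1723. -/
theorem S1723_main (A : Type u) [CommRing A] [IsLocalRing A] [IsNoetherianRing A] (ω : Dual.D A)
    (hω : Dual.IsDualizing A ω) (p : PrimeSpectrum A) :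
    LocCoh.IsGorensteinRing (EGA4.formalFibre A p.asIdeal) := by
  haveI : IsNoetherianRing (AdicCompletion (IsLocalRing.maximalIdeal A) A) :=
    Groth.Agent.RegularLib.isNoetherianRing_adicCompletion A _
  have hm : (IsLocalRing.maximalIdeal A).map
      (algebraMap A (AdicCompletion (IsLocalRing.maximalIdeal A) A)) =
      IsLocalRing.maximalIdeal (AdicCompletion (IsLocalRing.maximalIdeal A) A) :=
    AdicCompletion.maximalIdeal_eq_map.symm
  have hB := isDualizing_bcD_of_local' hm ω hω
  exact Groth.Agent.GorFlat9.isGorRing_fiber_of_fibLocRing A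
    (AdicCompletion (IsLocalRing.maximalIdeal A) A) p.asIdeal
    (fun Q _ _ => fibLocRing_gor_of_bcD A (AdicCompletion (IsLocalRing.maximalIdeal A) A) ω hω hB Q)

end Groth.Agent.Lib.FormalGor
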