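import Mathlib
import Groth.Agent.Lib.InjAmp_helper9

/-!
# A short exact sequence `0 → M → J⁰ → J¹ → 0` with `J⁰`, `J¹` injective gives a representative of
`M[0]` by a complex of injectives concentrated in `[0, 1]` (helper2)
-/

set_option autoImplicit false
universe w v u
open CategoryTheory Limits Pretriangulated

namespace Groth.Agent.Lib.InjAmpSES

open DerivedCategory Groth.Agent.Lib.InjAmp

variable {C : Type u} [Category.{v} C] [Abelian C] [HasDerivedCategory.{w} C]

lemma injective_single_X (J : C) [Injective J] (n : ℤ) :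
    Injective (((CochainComplex.singleFunctor C 0).obj J).X n) := by
  by_cases h : n = 0
  · subst h
    exact Injective.of_iso (HomologicalComplex.singleObjXSelf (ComplexShape.up ℤ) 0 J).symm
      inferInstance
  · exact (HomologicalComplex.isZero_single_obj_X (ComplexShape.up ℤ) 0 J n h).injective

lemma hom_single_injective_eq_zero (J : C) [Injective J] (F : C) (i : ℤ) (hi : i ≠ 0)
    (φ : (singleFunctor C 0).obj F ⟶ ((singleFunctor C 0).obj J)⟦i⟧) : φ = 0 :=
  vanishing_of_exists ((singleFunctor C 0).obj J) 0 0 ((CochainComplex.singleFunctor C 0).obj J)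
    (injective_single_X J)
    (fun n hn => HomologicalComplex.isZero_single_obj_X (ComplexShape.up ℤ) 0 J n (by omega))
    ((singleFunctorIsoCompQ C 0).app J).symm F i (by omega) φ

theorem exists_inj_of_ses [EnoughInjectives C] (S : ShortComplex C) (hS : S.ShortExact)
    [Injective S.X₂] [Injective S.X₃] :
    ∃ I : CochainComplex C ℤ, (∀ i, Injective (I.X i)) ∧
      (∀ i, (i < 0 ∨ 1 < i) → IsZero (I.X i)) ∧
      Nonempty (Q.obj I ≅ (singleFunctor C 0).obj S.X₁) := by
  refine exists_of_vanishing _ 0 1 (fun F i hi φ => ?_)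
  let T := hS.singleTriangle
  have hT : T ∈ distTriang _ := hS.singleTriangle_distinguished
  let T' := (CategoryTheory.shiftFunctor (Triangle (DerivedCategory C)) i).obj T
  have hT' : T' ∈ distTriang _ := Triangle.shift_distinguished T hT i
  have h1 : φ ≫ T'.mor₁ = 0 := hom_single_injective_eq_zero S.X₂ F i (by omega) _
  obtain ⟨g, hg⟩ := Triangle.coyoneda_exact₂ T'.invRotate (inv_rot_of_distTriang T' hT') φ h1
  have hg0 : g = 0 := by
    let e := (shiftFunctorAdd' (DerivedCategory C) i (-1) (i - 1) (by omega)).app
      ((singleFunctor C 0).obj S.X₃)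
    have h2 : g ≫ e.inv = 0 := hom_single_injective_eq_zero S.X₃ F (i - 1) (by omega) _
    exact (cancel_mono e.inv).1 (h2.trans zero_comp.symm)
  rw [hg, hg0, zero_comp]
  rfl

end Groth.Agent.Lib.InjAmpSES
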