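import Mathlib
import Groth.Prelude.Def_DRing2
import Groth.Agent.Lib.InjAmpSES_helper2
import Groth.Agent.Lib.InjHull_helper3

/-!
# `A[X] ⊗_A E` has injective amplitude `[0, 1]` over `A[X]` for `E` injective over Noetherian `A`
(helper2)

The short exact sequence `0 → E[X] → Hom_A(A[X], E[X]) → Hom_A(A[X], E[X]) → 0`, the last map
`φ ↦ (b ↦ φ(bX) - Xφ(b))`; the coinduced module `Hom_A(A[X], E[X])` is injective over `A[X]` since
`E[X] ≅ ⊕_ℕ E` is injective over the Noetherian ring `A`.
-/

set_option autoImplicit false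
universe u
open CategoryTheory Limits Polynomial TensorProduct

namespace Groth.Agent.Lib.PolyInj

variable (A : Type u) [CommRing A] (E : Type u) [AddCommGroup E] [Module A E]

/-- the structure map -/
noncomputable abbrev fA : A →+* A[X] := algebraMap A A[X]

/-- `A[X] ⊗ E` as an `A[X]`-module -/
noncomputable abbrev MB : ModuleCat.{u} A[X] := ModuleCat.of A[X] (A[X] ⊗[A] E)

/-- `A[X] ⊗ E` restricted to `A` -/
noncomputable abbrev MA : ModuleCat.{u} A := (ModuleCat.restrictScalars (fA A)).obj (MB A E)

/-- the identity, from the restricted module to the tensor product with its own `A`-structure -/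
noncomputable def eMA : (MA A E) ≃ₗ[A] (A[X] ⊗[A] E) where
  toFun x := x
  invFun x := x
  map_add' _ _ := rfl
  map_smul' a x := algebraMap_smul A[X] a (show A[X] ⊗[A] E from x)
  left_inv _ := rfl
  right_inv _ := rfl

/-- `A[X] ⊗ E ≅ ⊕_ℕ E` -/
noncomputable def eDS : (A[X] ⊗[A] E) ≃ₗ[A] DirectSum (ULift.{u} ℕ) (fun _ => E) := by
  classical
  exact (TensorProduct.congr (Polynomial.basisMonomials A).repr (LinearEquiv.refl A E)).trans
    ((TensorProduct.finsuppScalarLeft A E ℕ).trans
      ((Finsupp.domLCongr Equiv.ulift.symm).trans (finsuppLEquivDirectSum A E (ULift.{u} ℕ))))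

theorem injective_MA [IsNoetherianRing A] [Module.Injective A E] : Injective (MA A E) := by
  have h1 : Module.Injective A (DirectSum (ULift.{u} ℕ) (fun _ => E)) :=
    Groth.Agent.Lib.InjHull_helper3.injective_directSum (fun _ : ULift.{u} ℕ => E)
      (fun _ => inferInstance)
  have h2 : Module.Baer A (MA A E) :=
    Module.Baer.of_equiv ((eMA A E).trans (eDS A E)).symm (Module.Baer.of_injective h1)
  haveI : Module.Injective A (MA A E) := h2.injective
  exact Module.injective_object_of_injective_module A (MA A E)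

/-- the coinduced module `Hom_A(A[X], A[X] ⊗ E)` -/
noncomputable abbrev CB : ModuleCat.{u} A[X] := (ModuleCat.coextendScalars (fA A)).obj (MA A E)

theorem injective_CB [IsNoetherianRing A] [Module.Injective A E] : Injective (CB A E) := by
  haveI := injective_MA A E
  exact Injective.injective_of_adjoint (ModuleCat.restrictCoextendScalarsAdj (fA A)) (MA A E)

/-- the identity from `A[X]` with the restricted structure to `A[X]` -/
noncomputable def idS :
    ((ModuleCat.restrictScalars (fA A)).obj (ModuleCat.of A[X] A[X])) ≃ₗ[A] A[X] where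
  toFun x := x
  invFun x := x
  map_add' _ _ := rfl
  map_smul' a x := (Algebra.smul_def a (show A[X] from x)).symm
  left_inv _ := rfl
  right_inv _ := rfl

/-- evaluation of an element of the coinduced module -/
noncomputable def ev (φ : CB A E) : A[X] →ₗ[A] (MA A E) :=
  (ModuleCat.CoextendScalars.equiv (fA A) (MA A E) φ) ∘ₗ (idS A).symm.toLinearMap

/-- an element of the coinduced module from a linear map -/
noncomputable def toC (ψ : A[X] →ₗ[A] (MA A E)) : CB A E :=
  (ModuleCat.CoextendScalars.equiv (fA A) (MA A E)).symm (ψ ∘ₗ (idS A).toLinearMap)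

lemma ev_toC (ψ : A[X] →ₗ[A] (MA A E)) : ev A E (toC A E ψ) = ψ := rfl

lemma toC_ev (φ : CB A E) : toC A E (ev A E φ) = φ := rfl

lemma ev_injective {φ ψ : CB A E} (h : ev A E φ = ev A E ψ) : φ = ψ := by
  rw [← toC_ev A E φ, ← toC_ev A E ψ, h]

lemma ev_smul (s : A[X]) (φ : CB A E) (t : A[X]) : ev A E (s • φ) t = ev A E φ (t * s) := rfl

lemma ev_add (φ ψ : CB A E) (t : A[X]) : ev A E (φ + ψ) t = ev A E φ t + ev A E ψ t := rfl

/-- the action of `A[X]` on the values -/
noncomputable def act (s : A[X]) : MA A E →ₗ[A] MA A E :=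
  ((ModuleCat.restrictScalars (fA A)).map
    (ModuleCat.ofHom (LinearMap.lsmul A[X] (A[X] ⊗[A] E) s))).hom

lemma act_apply (s : A[X]) (m : MA A E) :
    act A E s m = (show MA A E from s • (show A[X] ⊗[A] E from m)) := rfl

lemma act_mul (s t : A[X]) (m : MA A E) : act A E (s * t) m = act A E s (act A E t m) := by
  rw [act_apply, act_apply, act_apply]
  exact mul_smul s t (show A[X] ⊗[A] E from m)

lemma act_C (a : A) (m : MA A E) : act A E (C a) m = a • m := rfl

/-- `m ↦ (b ↦ b • m)` -/
noncomputable def εB : MB A E ⟶ CB A E :=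
  ModuleCat.RestrictionCoextensionAdj.HomEquiv.fromRestriction (fA A) (𝟙 (MA A E))

lemma ev_εB (m : MB A E) (s : A[X]) :
    ev A E ((εB A E).hom m) s = act A E s (show MA A E from m) := rfl

/-- `φ ↦ (b ↦ φ(bX) - Xφ(b))` -/
noncomputable def dB : CB A E ⟶ CB A E :=
  ModuleCat.ofHom (LinearMap.lsmul A[X] (CB A E) X) -
    (ModuleCat.coextendScalars (fA A)).map (ModuleCat.ofHom (act A E X))

lemma ev_dB (φ : CB A E) (s : A[X]) :
    ev A E ((dB A E).hom φ) s = ev A E φ (s * X) - act A E X (ev A E φ s) := rfl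

lemma εB_dB : εB A E ≫ dB A E = 0 := by
  refine ModuleCat.hom_ext (LinearMap.ext (fun m => ?_))
  apply ev_injective
  refine LinearMap.ext (fun s => ?_)
  show ev A E ((dB A E).hom ((εB A E).hom m)) s = 0
  rw [ev_dB, ev_εB, ev_εB, mul_comm, act_mul, sub_self]

/-- the short complex `0 → E[X] → Hom_A(A[X], E[X]) → Hom_A(A[X], E[X]) → 0` -/
noncomputable def SC : ShortComplex (ModuleCat.{u} A[X]) :=
  ShortComplex.mk (εB A E) (dB A E) (εB_dB A E)

lemma ev_pow (φ : CB A E) (h : ∀ s, ev A E φ (s * X) = act A E X (ev A E φ s)) (n : ℕ) :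
    ev A E φ (X ^ n) = act A E (X ^ n) (ev A E φ 1) := by
  induction n with
  | zero =>
    rw [pow_zero, act_apply]
    exact (one_smul A[X] (show A[X] ⊗[A] E from ev A E φ 1)).symm
  | succ n ih => rw [pow_succ, h, ih, mul_comm, act_mul]

lemma ev_eq_act (φ : CB A E) (h : ∀ s, ev A E φ (s * X) = act A E X (ev A E φ s)) (s : A[X]) :
    ev A E φ s = act A E s (ev A E φ 1) := by
  induction s using Polynomial.induction_on' with
  | add p q hp hq =>
    rw [map_add, hp, hq, act_apply, act_apply, act_apply]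
    exact (add_smul p q (show A[X] ⊗[A] E from ev A E φ 1)).symm
  | monomial n a =>
    rw [← C_mul_X_pow_eq_monomial, act_mul, ← ev_pow A E φ h n, act_C, ← map_smul]
    congr 1
    exact (Algebra.smul_def a (X ^ n : A[X])).symm

theorem SC_shortExact : (SC A E).ShortExact := by
  refine ShortComplex.ShortExact.mk' ?_ ?_ ?_
  · rw [ShortComplex.moduleCat_exact_iff]
    intro (φ : CB A E) hφ
    have h : ∀ s, ev A E φ (s * X) = act A E X (ev A E φ s) := by
      intro s
      have h1 : ev A E ((dB A E).hom φ) s = 0 := by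
        have h2 : (dB A E).hom φ = 0 := hφ
        rw [h2]
        rfl
      rw [ev_dB, sub_eq_zero] at h1
      exact h1
    refine ⟨(show MB A E from ev A E φ 1), ?_⟩
    apply ev_injective
    refine LinearMap.ext (fun s => ?_)
    show ev A E ((εB A E).hom (show MB A E from ev A E φ 1)) s = ev A E φ s
    rw [ev_εB, ev_eq_act A E φ h s]
  · rw [ModuleCat.mono_iff_injective]
    intro (m : MB A E) (m' : MB A E) hm
    have h1 : ev A E ((εB A E).hom m) 1 = ev A E ((εB A E).hom m') 1 := by
      have h2 : (εB A E).hom m = (εB A E).hom m' := hm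
      rw [h2]
    rw [ev_εB, ev_εB, act_apply, act_apply] at h1
    have h3 : (1 : A[X]) • (show A[X] ⊗[A] E from m) = (1 : A[X]) • (show A[X] ⊗[A] E from m') := h1
    rwa [one_smul, one_smul] at h3
  · rw [ModuleCat.epi_iff_surjective]
    intro (c : CB A E)
    let mseq : ℕ → MA A E := fun n =>
      Nat.rec (0 : MA A E) (fun k mk => ev A E c (X ^ k) + act A E X mk) n
    have hm0 : mseq 0 = 0 := rfl
    have hms : ∀ n, mseq (n + 1) = ev A E c (X ^ n) + act A E X (mseq n) := fun n => rfl
    let φ₀ : A[X] →ₗ[A] MA A E := (Polynomial.basisMonomials A).constr A mseq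
    have hφ₀ : ∀ n, φ₀ (X ^ n) = mseq n := by
      intro n
      have h1 := (Polynomial.basisMonomials A).constr_basis A mseq n
      rw [Polynomial.coe_basisMonomials] at h1
      rw [X_pow_eq_monomial]
      exact h1
    refine ⟨toC A E φ₀, ?_⟩
    apply ev_injective
    show ev A E ((dB A E).hom (toC A E φ₀)) = ev A E c
    refine (Polynomial.basisMonomials A).ext (fun n => ?_)
    rw [Polynomial.coe_basisMonomials]
    show ev A E ((dB A E).hom (toC A E φ₀)) (monomial n 1) = ev A E c (monomial n 1)
    rw [← X_pow_eq_monomial, ev_dB, ev_toC, ← pow_succ, hφ₀, hφ₀, hms, add_sub_cancel_right]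

end Groth.Agent.Lib.PolyInj

namespace Groth.Agent.Lib.PolyInj

attribute [local instance] HasDerivedCategory.standard

theorem main (A : Type u) [CommRing A] [IsNoetherianRing A] (E : Type u) [AddCommGroup E]
    [Module A E] [Module.Injective A E] :
    DRing.HasInjAmplitudeIn A[X] 0 1 (Dual.inD A[X] (A[X] ⊗[A] E)) := by
  haveI : Injective (SC A E).X₂ := injective_CB A E
  haveI : Injective (SC A E).X₃ := injective_CB A E
  obtain ⟨I, hI, hI', ⟨e⟩⟩ :=
    Groth.Agent.Lib.InjAmpSES.exists_inj_of_ses (SC A E) (SC_shortExact A E)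
  refine ⟨I, hI', fun i => ?_, ⟨e⟩⟩
  haveI : Injective (ModuleCat.of A[X] (I.X i)) := hI i
  exact Module.injective_module_of_injective_object A[X] (I.X i)

end Groth.Agent.Lib.PolyInj
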