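import Mathlib
import Groth.Agent.Lib.FlatHom8_helper2
import Groth.Agent.Lib.PolyInj_helper2
import Groth.Agent.Lib.BrutalTrunc_helper2
import Groth.Agent.Lib.LocDual1_helper2
import Groth.Agent.Lib.DMod103_helper6
import Groth.Agent.Lib.DMod95_helper6

/-!
# Dualizing complexes for polynomial rings (helper2)

* `isDualizing_bcD_of_finInj`: flat base change `ω ⊗ B` of a dualizing complex is dualizing as soon
  as it has finite injective dimension;
* `EVA c K`: `Hom(M[0], K[i]) = 0` for all modules `M` and `i > c`; closure under triangles, shifts;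
* `eva_of_bounded`: a bounded complex whose terms have injective dimension `≤ 1` has finite
  injective dimension;
* `isDualizing_bcD_poly`: `ω ⊗_A A[X]` is dualizing for `A[X]` (S1776).
-/

set_option autoImplicit false
universe u
open CategoryTheory CategoryTheory.Limits CategoryTheory.Pretriangulated DerivedCategory ZeroObject
open scoped TensorProduct Polynomial

attribute [local instance] HasDerivedCategory.standard

namespace Groth.Agent.Lib.PolyDual

open Groth.Agent.Lib.DMod_helper6 DRing Groth.Agent.Lib.FlatHom Groth.Agent.ExtendScalarsLib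
open Groth.Agent.Lib.BrutalTrunc

section FinInj

variable {A B : Type u} [CommRing A] [CommRing B] [Algebra A B] [Module.Flat A B]

/-- base change of a dualizing complex along a flat map of Noetherian rings is dualizing as soon as
it has finite injective dimension -/
theorem isDualizing_bcD_of_finInj [IsNoetherianRing A] [IsNoetherianRing B]
    (ω : Dual.D A) (hω : Dual.IsDualizing A ω)
    (hfid : ∃ a b : ℤ, ∀ (M : Type u) [AddCommGroup M] [Module B M] (i : ℤ),
      (i < a ∨ b < i) → Subsingleton (Dual.inD B M ⟶ ((bcD A B).obj ω)⟦i⟧)) :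
    Dual.IsDualizing B ((bcD A B).obj ω) := by
  obtain ⟨a, b, hab⟩ := hω.finite_injective_dimension
  have hH : ∀ i : ℤ, (i < a ∨ b < i) → Subsingleton (Dual.HD A ω i) := fun i hi =>
    subsingleton_HD_of_hom_quot_bot ω i (hab (A ⧸ (⊥ : Ideal A)) i hi)
  have hb : ∃ a b : ℤ, ∀ i : ℤ, (i < a ∨ b < i) → Subsingleton (Dual.HD A ω i) := ⟨a, b, hH⟩
  have hpc : IsPseudoCoherent' A ω := by
    refine isPseudoCoherent'_of_homology ω ⟨b, fun j hj => hH j (Or.inr hj)⟩ (fun j => ?_)
    haveI := hω.finite_cohomology j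
    exact isPseudoCoherentModule'_of_finite _
  have hfinB : ∀ i : ℤ, Module.Finite B (Dual.HD B ((bcD A B).obj ω) i) := by
    intro i
    obtain ⟨e⟩ := nonempty_HD_bcD_linearEquiv (B := B) ω i
    haveI := hω.finite_cohomology i
    exact Module.Finite.equiv e.symm
  have hvan : ∀ (X : Dual.D A) (_ : IsPseudoCoherent' A X) (i : ℤ),
      Subsingleton (X ⟶ ω⟦i⟧) → Subsingleton ((bcD A B).obj X ⟶ ((bcD A B).obj ω)⟦i⟧) := by
    intro X hX i hsub
    have hβ : Function.Bijective (β (B := B) X (ω⟦i⟧)) := flatHom_gb X ω hX hb i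
    haveI := hsub
    haveI : Subsingleton (B ⊗[A] (X ⟶ ω⟦i⟧)) := subsingleton_tensor B
    have h2 : Subsingleton ((bcD A B).obj X ⟶ (bcD A B).obj (ω⟦i⟧)) := hβ.2.subsingleton
    exact subsingleton_hom_of_isos (Iso.refl _) (((bcD A B).commShiftIso i).app ω).symm h2
  refine ⟨inferInstance, hfid, hfinB, ?_, ?_⟩
  · have hβ : Function.Bijective (β (B := B) ω ω) := flatHom_bijective ω ω hpc hb
    let fA : A →ₗ[A] (ω ⟶ ω) := LinearMap.toSpanSingleton A (ω ⟶ ω) (𝟙 ω)
    have hfA : Function.Bijective fA := by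
      have h5 : (fun a : A => a • 𝟙 ω) = fA := by
        funext a
        exact (LinearMap.toSpanSingleton_apply A (ω ⟶ ω) (𝟙 ω) a).symm
      rw [← h5]
      exact hω.toEnd_bijective
    have heq : (fun b : B => b • 𝟙 ((bcD A B).obj ω)) =
        (β (B := B) ω ω) ∘ ((fA.lTensor B) ∘ (TensorProduct.rid A B).symm) := by
      funext b
      show b • 𝟙 ((bcD A B).obj ω) = β ω ω ((fA.lTensor B) ((TensorProduct.rid A B).symm b))
      rw [TensorProduct.rid_symm_apply, LinearMap.lTensor_tmul, LinearMap.toSpanSingleton_apply,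
        one_smul, β_tmul, CategoryTheory.Functor.map_id]
    rw [heq]
    exact hβ.comp ((lTensor_bijective_of_bijective B fA hfA).comp
      (TensorProduct.rid A B).symm.bijective)
  · intro i hi
    exact hvan ω hpc i (hω.ext_self_subsingleton i hi)

end FinInj

section EVA

variable {B : Type u} [CommRing B]

/-- `Hom(M[0], K[i]) = 0` for all modules `M` and all `i > c` -/
def EVA (c : ℤ) (K : Dual.D B) : Prop :=
  ∀ (M : Type u) [AddCommGroup M] [Module B M] (i : ℤ), c < i →
    Subsingleton (Dual.inD B M ⟶ K⟦i⟧)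

lemma eva_of_iso {c : ℤ} {K K' : Dual.D B} (e : K ≅ K') (h : EVA c K) : EVA c K' :=
  fun M _ _ i hi => subsingleton_hom_of_isos (Iso.refl _)
    ((shiftFunctor (Dual.D B) i).mapIso e.symm) (h M i hi)

lemma eva_of_isZero {c : ℤ} {K : Dual.D B} (hK : IsZero K) : EVA c K :=
  fun M _ _ i _ => ⟨fun f g => ((shiftFunctor (Dual.D B) i).map_isZero hK).eq_of_tgt f g⟩

lemma eva_mono {c c' : ℤ} (hc : c ≤ c') {K : Dual.D B} (h : EVA c K) : EVA c' K :=
  fun M _ _ i hi => h M i (by omega)

lemma eva_shift {c : ℤ} {K : Dual.D B} (h : EVA c K) (m : ℤ) : EVA (c + m) (K⟦-m⟧) :=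
  fun M _ _ i hi => subsingleton_hom_of_isos (Iso.refl _)
    (shiftShiftIso K (-m) i (i - m) (by ring)) (h M (i - m) (by omega))

lemma eva_of_triangle {c : ℤ} (T : Triangle (Dual.D B)) (hT : T ∈ distTriang (Dual.D B))
    (h1 : EVA c T.obj₁) (h3 : EVA c T.obj₃) : EVA c T.obj₂ := by
  intro M _ _ i hi
  refine subsingleton_of_forall_eq 0 (fun φ => ?_)
  have hT' := Triangle.shift_distinguished T hT i
  haveI := h3 M i hi
  haveI := h1 M i hi
  have h0 : φ ≫ ((Triangle.shiftFunctor (Dual.D B) i).obj T).mor₂ = 0 :=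
    Subsingleton.elim (α := Dual.inD B M ⟶ T.obj₃⟦i⟧) _ _
  obtain ⟨ψ, hψ⟩ := Triangle.coyoneda_exact₂ _ hT' φ h0
  have hψ0 : ψ = 0 := Subsingleton.elim (α := Dual.inD B M ⟶ T.obj₁⟦i⟧) _ _
  exact hψ.trans (by rw [hψ0]; exact zero_comp)

/-- a bounded complex whose terms have injective dimension `≤ 1` -/
theorem eva_of_bounded (J : Cx B) (a b : ℤ) (hJ : VanishesOutside J a b)
    (hterm : ∀ n : ℤ, EVA 1 (Dual.inD B (J.X n))) : EVA (b + 1) (toD J) := by
  have key : ∀ (k : ℕ) (m : ℤ), m = b + 1 - (k : ℤ) → EVA (b + 1) (toD (sigmaGE J m)) := by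
    intro k
    induction k with
    | zero =>
      intro m hm
      have hz : IsZero (sigmaGE J m) := by
        rw [IsZero.iff_id_eq_zero]
        refine HomologicalComplex.hom_ext _ _ (fun n => ?_)
        apply IsZero.eq_of_src
        by_cases hn : m ≤ n
        · exact isZero_sigmaGE_X' J m n (hJ n (Or.inr (by push_cast at hm; omega)))
        · exact isZero_sigmaGE_X J hn
      exact eva_of_isZero (Q.map_isZero hz)
    | succ k ih =>
      intro m hm
      have hS := sc_shortExact J m (m + 1) rfl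
      have h1 : EVA (b + 1) (triangleOfSES hS).obj₁ := ih (m + 1) (by push_cast at hm ⊢; omega)
      have h3 : EVA (b + 1) (triangleOfSES hS).obj₃ := by
        have e : (Dual.inD B (J.X m))⟦-m⟧ ≅
            Q.obj ((HomologicalComplex.single (ModuleCat.{u} B) (ComplexShape.up ℤ) m).obj
              (J.X m)) :=
          ((DerivedCategory.singleFunctors (ModuleCat.{u} B)).shiftIso (-m) m 0 (by omega)).app
              (J.X m) ≪≫
            (DerivedCategory.singleFunctorIsoCompQ (ModuleCat.{u} B) m).app (J.X m)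
        exact eva_of_iso e (eva_mono (by push_cast at hm; omega) (eva_shift (hterm m) m))
      exact eva_of_triangle _ (triangleOfSES_distinguished hS) h1 h3
  have ha : a ≤ b + 1 ∨ b + 1 < a := le_or_gt a (b + 1)
  rcases ha with ha | ha
  · have h := key (b + 1 - a).toNat a (by rw [Int.toNat_of_nonneg (by omega)]; ring)
    haveI : ∀ n, IsIso ((incl J a).f n) := fun n => by
      by_cases hn : a ≤ n
      · exact isIso_ι J hn
      · exact ⟨0, (isZero_sigmaGE_X J hn).eq_of_src _ _,
          (hJ n (Or.inl (by omega))).eq_of_src _ _⟩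
    haveI : IsIso (incl J a) := HomologicalComplex.Hom.isIso_of_components _
    exact eva_of_iso (Q.mapIso (asIso (incl J a))) h
  · -- the complex is zero
    have hz : IsZero J := by
      rw [IsZero.iff_id_eq_zero]
      refine HomologicalComplex.hom_ext _ _ (fun n => ?_)
      apply IsZero.eq_of_src
      exact hJ n (by omega)
    exact eva_of_isZero (Q.map_isZero hz)

end EVA

section Poly

variable (A : Type u) [CommRing A] [IsNoetherianRing A]

/-- `ω ⊗_A A[X]` has finite injective dimension over `A[X]` -/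
theorem finInj_bcD_poly (ω : Dual.D A) (hω : Dual.IsDualizing A ω) :
    ∃ a b : ℤ, ∀ (M : Type u) [AddCommGroup M] [Module A[X] M] (i : ℤ),
      (i < a ∨ b < i) → Subsingleton (Dual.inD A[X] M ⟶ ((bcD A A[X]).obj ω)⟦i⟧) := by
  obtain ⟨a, b, I, hI, hinj, ⟨e⟩⟩ := hasFiniteInjDim_of_isDualizing ω hω
  let J : Cx A[X] := ((ES A A[X]).mapHomologicalComplex (ComplexShape.up ℤ)).obj I
  let eJ : (bcD A A[X]).obj ω ≅ toD J := (bcD A A[X]).mapIso e.symm ≪≫ bcDIso I
  have hJ : VanishesOutside J a b := fun n hn => (ES A A[X]).map_isZero (hI n hn)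
  have hterm : ∀ n : ℤ, EVA 1 (Dual.inD A[X] (J.X n)) := by
    intro n M _ _ i hi
    haveI : Module.Injective A (I.X n) := hinj n
    have hamp := Groth.Agent.Lib.PolyInj.main A (I.X n)
    have e' : Dual.inD A[X] (J.X n) ≅ Dual.inD A[X] (A[X] ⊗[A] I.X n) :=
      (singleFunctor (ModuleCat.{u} A[X]) 0).mapIso
        (extendScalarsEquivTensor (S := A[X]) (I.X n)).toModuleIso
    exact subsingleton_hom_of_isos (Iso.refl _) ((shiftFunctor (Dual.D A[X]) i).mapIso e')
      (hom_subsingleton_of_hasInjAmplitudeIn _ 0 1 hamp (ModuleCat.of A[X] M) i (Or.inr hi))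
  have hup : EVA (b + 1) ((bcD A A[X]).obj ω) := eva_of_iso eJ.symm (eva_of_bounded J a b hJ hterm)
  haveI : J.IsStrictlyGE a := by
    rw [CochainComplex.isStrictlyGE_iff]
    intro n hn
    exact hJ n (Or.inl hn)
  haveI hge : DerivedCategory.IsGE ((bcD A A[X]).obj ω) a :=
    TStructure.t.isGE_of_iso eJ.symm a
  refine ⟨a, b + 1, fun M _ _ i hi => ?_⟩
  rcases hi with hi | hi
  · haveI : DerivedCategory.IsGE (((bcD A A[X]).obj ω)⟦i⟧) (a - i) :=
      TStructure.t.isGE_shift _ a i (a - i) (by omega)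
    exact ⟨fun g g' => by
      rw [TStructure.t.zero g 0 (a - i) (by omega), TStructure.t.zero g' 0 (a - i) (by omega)]⟩
  · exact hup M i hi

/-- **`ω ⊗_A A[X]` is a dualizing complex for `A[X]`** -/
theorem isDualizing_bcD_poly (ω : Dual.D A) (hω : Dual.IsDualizing A ω) :
    Dual.IsDualizing A[X] ((bcD A A[X]).obj ω) :=
  isDualizing_bcD_of_finInj ω hω (finInj_bcD_poly A ω hω)

/-- S1776. -/
theorem S1776_main [DRing.HasLBaseChange (algebraMap A A[X])] (ω : Dual.D A)
    (hω : Dual.IsDualizing A ω) :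
    Dual.IsDualizing A[X] ((DRing.LBaseChange (algebraMap A A[X])).obj ω) := by
  obtain ⟨e⟩ := nonempty_lBaseChange_iso_bcD (A := A) (B := A[X])
  exact isDualizing_of_iso (e.app ω).symm (isDualizing_bcD_poly A ω hω)

end Poly

end Groth.Agent.Lib.PolyDual
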