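import Mathlib
import Groth.Agent.Lib.FormalGor_helper2
import Groth.Agent.Lib.PolyDual1_helper2
import Groth.Agent.Lib.DMod119_helper6
import Groth.Agent.Lib.DMod94_helper6
import Groth.Agent.Lib.DMod78_helper6

/-!
# Base change of dualizing complexes along flat maps with Gorenstein fibres (helper2)

* `subsingleton_hom_shift_of_adj'`: the converse transfer of vanishing across `restrictD φ ⊣ R`;
* `rs_bcD_iso`: for a flat local homomorphism `R → S` and `ω` a normalized dualizing complex of `R`,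
  `RHom_S(S/m_R S, ω ⊗ S) ≅ (S/m_R S)[0]`;
* `subsingleton_hom_residueField_bcD`: if moreover the closed fibre is Gorenstein of dimension `e`,
  `Ext^j_S(κ_S, ω ⊗ S) = 0` for `j ≠ e`;
* `subsingleton_hom_quot_maximal_bcD`, `isDualizing_bcD_of_gorenstein_fibres`.
-/

set_option autoImplicit false
universe u
open CategoryTheory CategoryTheory.Limits DerivedCategory
open scoped TensorProduct

attribute [local instance] HasDerivedCategory.standard

namespace Groth.Agent.Lib.GorBC

open Groth.Agent.Lib.DMod_helper6 DRing Groth.Agent.Lib.FlatHom Groth.Agent.ExtendScalarsLib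
open Groth.Agent.Lib.FormalGor Groth.Agent.Lib.PolyDual

section Adj

variable {A B : Type u} [CommRing A] [CommRing B] {φ : A →+* B}

lemma subsingleton_hom_shift_of_adj' (R : Dual.D A ⥤ Dual.D B) (adj : restrictD φ ⊣ R)
    (X : Dual.D B) (K : Dual.D A) (i : ℤ)
    (h : Subsingleton (X ⟶ (R.obj K)⟦i⟧)) : Subsingleton ((restrictD φ).obj X ⟶ K⟦i⟧) := by
  refine subsingleton_of_forall_eq 0 (fun g => ?_)
  let c := (shiftFunctorCompIsoId (Dual.D A) i (-i) (by omega)).app K
  let t := ((restrictD φ).commShiftIso (-i)).app X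
  let g₁ : (restrictD φ).obj (X⟦-i⟧) ⟶ K := t.hom ≫ g⟦-i⟧' ≫ c.hom
  let g₂ : X⟦-i⟧ ⟶ R.obj K := adj.homEquiv _ _ g₁
  let c' := (shiftFunctorCompIsoId (Dual.D B) (-i) i (by omega)).app X
  have h5 : c'.inv ≫ g₂⟦i⟧' = 0 := @Subsingleton.elim _ h _ _
  have h4 : g₂⟦i⟧' = 0 := by rw [← cancel_epi c'.inv, h5, comp_zero]
  have h3 : g₂ = 0 := (shiftFunctor (Dual.D B) i).map_injective (by rw [h4, Functor.map_zero])
  have h2 : g₁ = 0 := by
    apply (adj.homEquiv _ _).injective
    exact h3.trans (homEquiv_zero R adj _ _).symm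
  have h2' : t.hom ≫ g⟦-i⟧' ≫ c.hom = 0 := h2
  have h1 : g⟦-i⟧' ≫ c.hom = 0 := by rw [← cancel_epi t.hom, h2', comp_zero]
  have h0 : g⟦-i⟧' = 0 := by rw [← cancel_mono c.hom, h1, zero_comp]
  exact (shiftFunctor (Dual.D A) (-i)).map_injective (by rw [h0, Functor.map_zero])

end Adj

section ResField

/-- the residue field of a quotient, restricted to the ring, is the residue field -/
lemma nonempty_residueField_restrict_equiv {S F : Type u} [CommRing S] [CommRing F]
    [IsLocalRing S] [IsLocalRing F] (φ : S →+* F) (hφ : Function.Surjective φ) :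
    Nonempty (((ModuleCat.restrictScalars φ).obj
      (ModuleCat.of F (IsLocalRing.ResidueField F))) ≃ₗ[S] IsLocalRing.ResidueField S) := by
  haveI : IsLocalHom φ := IsLocalHom.of_surjective φ hφ
  let g : S →ₗ[S] ((ModuleCat.restrictScalars φ).obj
      (ModuleCat.of F (IsLocalRing.ResidueField F))) :=
    { toFun := fun s => (IsLocalRing.residue F (φ s) : IsLocalRing.ResidueField F)
      map_add' := fun s t => by
        show IsLocalRing.residue F (φ (s + t)) =
          IsLocalRing.residue F (φ s) + IsLocalRing.residue F (φ t)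
        rw [map_add, map_add]
      map_smul' := fun a s => by
        show IsLocalRing.residue F (φ (a * s)) =
          (φ a) • (IsLocalRing.residue F (φ s) : IsLocalRing.ResidueField F)
        rw [map_mul, map_mul, Algebra.smul_def]
        rfl }
  have hg : Function.Surjective g := by
    intro x
    obtain ⟨y, hy⟩ := IsLocalRing.residue_surjective (R := F) x
    obtain ⟨s, hs⟩ := hφ y
    exact ⟨s, by show IsLocalRing.residue F (φ s) = x; rw [hs, hy]⟩
  have hker : LinearMap.ker g = IsLocalRing.maximalIdeal S := by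
    ext x
    rw [LinearMap.mem_ker]
    show IsLocalRing.residue F (φ x) = 0 ↔ x ∈ IsLocalRing.maximalIdeal S
    rw [IsLocalRing.residue_eq_zero_iff, IsLocalRing.mem_maximalIdeal,
      IsLocalRing.mem_maximalIdeal, mem_nonunits_iff, mem_nonunits_iff, isUnit_map_iff]
  exact ⟨((Submodule.quotEquivOfEq _ _ hker.symm).trans
    (g.quotKerEquivOfSurjective hg)).symm.trans resEquiv⟩

end ResField

section Core

variable (R S : Type u) [CommRing R] [CommRing S] [IsLocalRing R] [IsLocalRing S]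
  [IsNoetherianRing R] [IsNoetherianRing S] [Algebra R S] [IsLocalHom (algebraMap R S)]
  [Module.Flat R S]

/-- `RHom_S(S/m_R S, ω ⊗ S) ≅ (S/m_R S)[0]` for `ω` a normalized dualizing complex of `R` -/
theorem rs_bcD_iso (ω : Dual.D R) (hω : Dual.IsDualizing R ω) (hn : Dual.IsNormalized R ω)
    (Rs : Dual.D S ⥤ Dual.D (EGA4.FibRing R S))
    (adj : restrictD (algebraMap S (EGA4.FibRing R S)) ⊣ Rs) :
    Nonempty (Rs.obj ((bcD R S).obj ω) ≅
      Dual.inD (EGA4.FibRing R S) (EGA4.FibRing R S)) := by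
  obtain ⟨a', b', hab⟩ := hω.finite_injective_dimension
  have hb : ∃ a b : ℤ, ∀ j : ℤ, (j < a ∨ b < j) → Subsingleton (Dual.HD R ω j) :=
    ⟨a', b', fun j hj => subsingleton_HD_of_hom_quot_bot ω j (hab (R ⧸ (⊥ : Ideal R)) j hj)⟩
  have hsub : ∀ i : ℤ, i ≠ 0 →
      Subsingleton (Dual.HD (EGA4.FibRing R S) (Rs.obj ((bcD R S).obj ω)) i) := by
    intro i hi
    refine (subsingleton_hom_inD_self_iff _ i).1 ?_
    refine subsingleton_hom_shift_of_adj Rs adj _ _ i ?_
    obtain ⟨e⟩ := restr_hom_equiv R S ω hb i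
    haveI := hn i hi
    haveI : Subsingleton (S ⊗[R] (Dual.inD R (IsLocalRing.ResidueField R) ⟶ ω⟦i⟧)) :=
      subsingleton_tensor S
    exact e.toEquiv.subsingleton
  obtain ⟨E, _, _, f, hf⟩ := Groth.Agent.S0299.result R (IsLocalRing.ResidueField R)
  haveI hsκ : IsSimpleModule R (IsLocalRing.ResidueField R) := isSimpleModule_residueField
  have hκfl : IsFiniteLength R (IsLocalRing.ResidueField R) :=
    Module.length_ne_top_iff.1 (by
      rw [Module.length_eq_one R (IsLocalRing.ResidueField R)]; exact ENat.one_ne_top)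
  haveI hs1 : IsSimpleModule R (IsLocalRing.ResidueField R →ₗ[R] E) := by
    rw [← Module.length_eq_one_iff, Groth.Agent.S5170.result R E f hf _ hκfl,
      Module.length_eq_one R (IsLocalRing.ResidueField R)]
  obtain ⟨g1⟩ := (ext_finiteLength_normalized_dualizing ω hω hn E f hf
    (IsLocalRing.ResidueField R) hκfl).2
  obtain ⟨g2⟩ := nonempty_residueField_linearEquiv_of_isSimpleModule (A := R)
    (IsLocalRing.ResidueField R →ₗ[R] E)
  let g0 : (Dual.inD R (IsLocalRing.ResidueField R) ⟶ ω⟦(0 : ℤ)⟧) ≃ₗ[R]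
      (Dual.inD R (IsLocalRing.ResidueField R) ⟶ ω) :=
    Linear.homCongr R (Iso.refl _) ((shiftFunctorZero (Dual.D R) ℤ).app ω)
  let g : (Dual.inD R (IsLocalRing.ResidueField R) ⟶ ω⟦(0 : ℤ)⟧) ≃ₗ[R]
      IsLocalRing.ResidueField R := g0.trans (g1.trans g2.symm)
  obtain ⟨e4⟩ := restr_hom_equiv R S ω hb 0
  let e5 : S ⊗[R] (Dual.inD R (IsLocalRing.ResidueField R) ⟶ ω⟦(0 : ℤ)⟧) ≃ₗ[S]
      S ⊗[R] IsLocalRing.ResidueField R :=
    TensorProduct.AlgebraTensorModule.congr (LinearEquiv.refl S S) g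
  let e3 : ((restrictD (algebraMap S (EGA4.FibRing R S))).obj
        (Dual.inD (EGA4.FibRing R S) (EGA4.FibRing R S)) ⟶ (bcD R S).obj ω) ≃ₗ[S]
      ((restrictD (algebraMap S (EGA4.FibRing R S))).obj
        (Dual.inD (EGA4.FibRing R S) (EGA4.FibRing R S)) ⟶ ((bcD R S).obj ω)⟦(0 : ℤ)⟧) :=
    Linear.homCongr S (Iso.refl _) ((shiftFunctorZero (Dual.D S) ℤ).app ((bcD R S).obj ω)).symm
  let Φ : ((restrictD (algebraMap S (EGA4.FibRing R S))).obj
        (Dual.inD (EGA4.FibRing R S) (EGA4.FibRing R S)) ⟶ (bcD R S).obj ω) ≃ₗ[S]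
      EGA4.FibRing R S := e3.trans (e4.trans (e5.trans (fibEquiv R S).symm))
  obtain ⟨e1⟩ := Groth.Agent.Lib.HomSelf.hom_inD_self_equiv (Rs.obj ((bcD R S).obj ω)) 0
  let e2 : (Dual.inD (EGA4.FibRing R S) (EGA4.FibRing R S) ⟶
        (Rs.obj ((bcD R S).obj ω))⟦(0 : ℤ)⟧) ≃ₗ[EGA4.FibRing R S]
      (Dual.inD (EGA4.FibRing R S) (EGA4.FibRing R S) ⟶ Rs.obj ((bcD R S).obj ω)) :=
    Linear.homCongr (EGA4.FibRing R S) (Iso.refl _)
      ((shiftFunctorZero (Dual.D (EGA4.FibRing R S)) ℤ).app (Rs.obj ((bcD R S).obj ω)))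
  let Ψ : Dual.HD (EGA4.FibRing R S) (Rs.obj ((bcD R S).obj ω)) 0 ≃ₗ[EGA4.FibRing R S]
      (Dual.inD (EGA4.FibRing R S) (EGA4.FibRing R S) ⟶ Rs.obj ((bcD R S).obj ω)) :=
    e1.symm.trans e2
  let T : Dual.HD (EGA4.FibRing R S) (Rs.obj ((bcD R S).obj ω)) 0 ≃ₗ[EGA4.FibRing R S]
      EGA4.FibRing R S :=
    { toFun := fun x => Φ ((adj.homEquiv _ _).symm (Ψ x))
      map_add' := fun x y => by
        rw [map_add, Groth.Agent.Lib.FormalGor.homEquiv_symm_add, map_add]
      map_smul' := fun c x => by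
        obtain ⟨s, rfl⟩ := Ideal.Quotient.mk_surjective c
        have h1 : Ψ (Ideal.Quotient.mk _ s • x) =
            algebraMap S (EGA4.FibRing R S) s • Ψ x := map_smul Ψ _ x
        rw [h1, Groth.Agent.Lib.FormalGor.homEquiv_symm_smul, map_smul, Algebra.smul_def]
        rfl
      invFun := fun y => Ψ.symm (adj.homEquiv _ _ (Φ.symm y))
      left_inv := fun x => by
        simp only [LinearEquiv.symm_apply_apply, Equiv.apply_symm_apply]
      right_inv := fun y => by
        simp only [LinearEquiv.apply_symm_apply, Equiv.symm_apply_apply] }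
  obtain ⟨ι⟩ := nonempty_iso_inD_shift_of_HD_single (Rs.obj ((bcD R S).obj ω)) 0 0 (by omega)
    hsub (EGA4.FibRing R S) T
  exact ⟨ι ≪≫ (shiftFunctorZero (Dual.D (EGA4.FibRing R S)) ℤ).app _⟩

/-- `Ext^j_S(κ_S, ω ⊗ S) = 0` for `j ≠ d + e`, where `ω[d]` is normalized and the closed fibre is
Gorenstein of dimension `e` -/
theorem subsingleton_hom_residueField_bcD (ω : Dual.D R) (hω : Dual.IsDualizing R ω) (d : ℤ)
    (hd : Dual.IsNormalized R (ω⟦d⟧))
    (hG : LocCoh.IsGorensteinLocalRing (EGA4.FibRing R S)) (e : ℕ)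
    (he : ringKrullDim (EGA4.FibRing R S) = e) (j : ℤ) (hj : j ≠ d + e) :
    Subsingleton (Dual.inD S (IsLocalRing.ResidueField S) ⟶ ((bcD R S).obj ω)⟦j⟧) := by
  have hω' := isDualizing_shift ω hω d
  obtain ⟨Rs, ⟨adj⟩⟩ := Groth.Agent.Lib.RestrictRightAdj.exists_rightAdjoint_restrictD
    (algebraMap S (EGA4.FibRing R S))
  obtain ⟨ι⟩ := rs_bcD_iso R S (ω⟦d⟧) hω' hd Rs adj
  have h1 : Subsingleton (Dual.inD (EGA4.FibRing R S) (IsLocalRing.ResidueField (EGA4.FibRing R S)) ⟶
      (Rs.obj ((bcD R S).obj (ω⟦d⟧)))⟦j - d⟧) :=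
    subsingleton_hom_of_isos (Iso.refl _)
      ((shiftFunctor (Dual.D (EGA4.FibRing R S)) (j - d)).mapIso ι)
      ((gorenstein_hom_residueField hG e he).1 (j - d) (by omega))
  have h2 := subsingleton_hom_shift_of_adj' Rs adj
    (Dual.inD (EGA4.FibRing R S) (IsLocalRing.ResidueField (EGA4.FibRing R S)))
    ((bcD R S).obj (ω⟦d⟧)) (j - d) h1
  obtain ⟨eκ⟩ := nonempty_residueField_restrict_equiv (algebraMap S (EGA4.FibRing R S))
    Ideal.Quotient.mk_surjective
  let eX : (restrictD (algebraMap S (EGA4.FibRing R S))).obj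
      (Dual.inD (EGA4.FibRing R S) (IsLocalRing.ResidueField (EGA4.FibRing R S))) ≅
      Dual.inD S (IsLocalRing.ResidueField S) :=
    restrictDInDIso (algebraMap S (EGA4.FibRing R S))
        (ModuleCat.of (EGA4.FibRing R S) (IsLocalRing.ResidueField (EGA4.FibRing R S))) ≪≫
      (DerivedCategory.singleFunctor (ModuleCat.{u} S) 0).mapIso eκ.toModuleIso
  let eY : ((bcD R S).obj ω)⟦j⟧ ≅ ((bcD R S).obj (ω⟦d⟧))⟦j - d⟧ :=
    (shiftShiftIso ((bcD R S).obj ω) d (j - d) j (by ring)).symm ≪≫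
      (shiftFunctor (Dual.D S) (j - d)).mapIso (((bcD R S).commShiftIso d).app ω).symm
  exact subsingleton_hom_of_isos eX.symm eY h2

end Core

end Groth.Agent.Lib.GorBC
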