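import Mathlib
import Groth.Agent.Lib.GorBC1_helper2
import Groth.Agent.Lib.SmoothRegHom_helper3
import Groth.Agent.Lib.GorField_helper9

/-!
# Base change of dualizing complexes along flat maps with Gorenstein fibres, global form (helper2)

* `isDualizing_bcD_of_gorenstein_fibres`: `A → B` flat, Noetherian, `dim B < ∞`, all fibre local rings at
  maximal ideals Gorenstein: `ω ⊗ B` is dualizing;
* `S1788_main`, `S11177_main`.
-/

set_option autoImplicit false
universe u
open CategoryTheory CategoryTheory.Limits DerivedCategory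
open scoped TensorProduct

attribute [local instance] HasDerivedCategory.standard

namespace Groth.Agent.Lib.GorBC

open Groth.Agent.Lib.DMod_helper6 DRing Groth.Agent.Lib.FlatHom Groth.Agent.ExtendScalarsLib
open Groth.Agent.Lib.FormalGor Groth.Agent.Lib.PolyDual

section Order

lemma exists_nat_ge_of_lt_top {x : WithBot ℕ∞} (h : x < ⊤) : ∃ D : ℕ, x ≤ (D : WithBot ℕ∞) := by
  by_cases hb : x = ⊥
  · exact ⟨0, hb ▸ bot_le⟩
  · obtain ⟨n, rfl⟩ := WithBot.ne_bot_iff_exists.1 hb
    have hn : n ≠ ⊤ := by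
      rintro rfl
      exact lt_irrefl _ h
    obtain ⟨D, rfl⟩ := ENat.ne_top_iff_exists.1 hn
    exact ⟨D, le_rfl⟩

lemma exists_nat_eq_of_le {x : WithBot ℕ∞} (h0 : 0 ≤ x) (D : ℕ) (hD : x ≤ (D : WithBot ℕ∞)) :
    ∃ e : ℕ, x = (e : WithBot ℕ∞) ∧ e ≤ D := by
  have hb : x ≠ ⊥ := by
    rintro rfl
    exact absurd h0 (by simp)
  obtain ⟨n, rfl⟩ := WithBot.ne_bot_iff_exists.1 hb
  have h1 : n ≤ (D : ℕ∞) := by exact_mod_cast hD
  have hn : n ≠ ⊤ := ne_top_of_le_ne_top (ENat.natCast_ne_top D) h1
  obtain ⟨e, rfl⟩ := ENat.ne_top_iff_exists.1 hn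
  exact ⟨e, rfl, by exact_mod_cast h1⟩

end Order

section Main

variable (A B : Type u) [CommRing A] [CommRing B] [Algebra A B] [IsNoetherianRing A]
  [IsNoetherianRing B] [Module.Flat A B]

/-- vanishing of `Ext^j(B/Q, ω ⊗ B)` at a maximal ideal `Q` with Gorenstein fibre local ring -/
theorem subsingleton_hom_quot_maximal_bcD (ω : Dual.D A) (hω : Dual.IsDualizing A ω) (a b : ℤ)
    (hab : ∀ (M : Type u) [AddCommGroup M] [Module A M] (i : ℤ),
      (i < a ∨ b < i) → Subsingleton (Dual.inD A M ⟶ ω⟦i⟧))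
    (Q : Ideal B) [hQ : Q.IsMaximal]
    (hG : LocCoh.IsGorensteinLocalRing (EGA4.FibLocRing A B Q)) (D : ℕ)
    (hD : ringKrullDim B ≤ (D : WithBot ℕ∞)) (j : ℤ) (hj : b + D < j) :
    Subsingleton (Dual.inD B (B ⧸ Q) ⟶ ((bcD A B).obj ω)⟦j⟧) := by
  set p := Q.comap (algebraMap A B) with hp
  haveI : Q.LiesOver p := ⟨rfl⟩
  letI := Localization.AtPrime.algebraOfLiesOver p Q
  haveI : IsLocalHom (algebraMap (Localization.AtPrime p) (Localization.AtPrime Q)) :=
    Localization.isLocalHom_localRingHom _ _ _ _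
  haveI : Module.Flat A (Localization.AtPrime Q) := Module.Flat.trans A B (Localization.AtPrime Q)
  haveI : Module.Flat (Localization.AtPrime p) (Localization.AtPrime Q) := by
    rw [Module.flat_iff_of_isLocalization (Localization.AtPrime p) p.primeCompl]
    infer_instance
  haveI : IsNoetherianRing (Localization.AtPrime Q) :=
    IsLocalization.isNoetherianRing Q.primeCompl _ inferInstance
  haveI : IsNoetherianRing (Localization.AtPrime p) :=
    IsLocalization.isNoetherianRing p.primeCompl _ inferInstance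
  have hI : (IsLocalRing.maximalIdeal (Localization.AtPrime p)).map
      (algebraMap (Localization.AtPrime p) (Localization.AtPrime Q)) =
      p.map (algebraMap A (Localization.AtPrime Q)) := by
    rw [← Localization.AtPrime.map_eq_maximalIdeal, Ideal.map_map,
      ← IsScalarTower.algebraMap_eq]
  let e : EGA4.FibRing (Localization.AtPrime p) (Localization.AtPrime Q) ≃+*
      EGA4.FibLocRing A B Q := Ideal.quotEquivOfEq hI
  have hGF : LocCoh.IsGorensteinLocalRing
      (EGA4.FibRing (Localization.AtPrime p) (Localization.AtPrime Q)) :=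
    (Groth.Agent.GorFlat9.gorenstein_congr e).2 hG
  have h1 : Dual.IsDualizing (Localization.AtPrime p) (locD ω p) := isDualizing_locD ω p hω
  obtain ⟨d, hd⟩ := exists_isNormalized_locD_shift ω p hω
  have hdb : d ≤ b := by
    have hnt : Nontrivial (Dual.inD (Localization.AtPrime p)
        (IsLocalRing.ResidueField (Localization.AtPrime p)) ⟶ (locD ω p)⟦d⟧) :=
      (nontrivial_hom_residueField_iff (locD ω p) h1 d hd d).2 rfl
    have hmem := (mem_support_hom_quot_iff ω p hω d).2 hnt
    have hnt' : Nontrivial (Dual.inD A (A ⧸ p) ⟶ ω⟦d⟧) := nontrivial_of_mem_support hmem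
    by_contra hcon
    haveI := hab (A ⧸ p) d (Or.inr (by omega))
    exact false_of_nontrivial_of_subsingleton (Dual.inD A (A ⧸ p) ⟶ ω⟦d⟧)
  -- the dimension of the fibre
  have hdimF : ringKrullDim (EGA4.FibRing (Localization.AtPrime p) (Localization.AtPrime Q)) ≤
      (D : WithBot ℕ∞) := by
    calc ringKrullDim (EGA4.FibRing (Localization.AtPrime p) (Localization.AtPrime Q))
        ≤ ringKrullDim (Localization.AtPrime Q) := ringKrullDim_quotient_le _
      _ = Q.height := IsLocalization.AtPrime.ringKrullDim_eq_height Q (Localization.AtPrime Q)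
      _ ≤ ringKrullDim B := Ideal.height_le_ringKrullDim_of_isPrime
      _ ≤ D := hD
  obtain ⟨eF, heF, heFD⟩ := exists_nat_eq_of_le ringKrullDim_nonneg_of_nontrivial D hdimF
  have h2 := subsingleton_hom_residueField_bcD (Localization.AtPrime p) (Localization.AtPrime Q)
    (locD ω p) h1 d hd hGF eF heF j (by omega)
  obtain ⟨c1⟩ := nonempty_bcD_comp_iso A (Localization.AtPrime p) (Localization.AtPrime Q) ω
  obtain ⟨c2⟩ := nonempty_bcD_comp_iso A B (Localization.AtPrime Q) ω
  have h3 : Subsingleton (Dual.inD (Localization.AtPrime Q)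
      (IsLocalRing.ResidueField (Localization.AtPrime Q)) ⟶
      ((bcD B (Localization.AtPrime Q)).obj ((bcD A B).obj ω))⟦j⟧) :=
    subsingleton_hom_of_isos (Iso.refl _)
      ((shiftFunctor (Dual.D (Localization.AtPrime Q)) j).mapIso (c2 ≪≫ c1.symm)) h2
  -- boundedness below of `ω ⊗ B`
  have hH : ∀ i : ℤ, (i < a ∨ b < i) → Subsingleton (Dual.HD A ω i) := fun i hi =>
    subsingleton_HD_of_hom_quot_bot ω i (hab (A ⧸ (⊥ : Ideal A)) i hi)
  haveI hge : DerivedCategory.IsGE ((bcD A B).obj ω) a := by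
    rw [DerivedCategory.isGE_iff]
    intro i hi
    obtain ⟨e'⟩ := nonempty_HD_bcD_linearEquiv (B := B) ω i
    haveI := hH i (Or.inl hi)
    haveI : Subsingleton (B ⊗[A] Dual.HD A ω i) := subsingleton_tensor B
    haveI : Subsingleton (Dual.HD B ((bcD A B).obj ω) i) := e'.toEquiv.subsingleton
    exact ModuleCat.isZero_of_subsingleton _
  haveI : DerivedCategory.IsGE (((bcD A B).obj ω)⟦j⟧) (a - j) :=
    TStructure.t.isGE_shift _ a j (a - j) (by omega)
  have hK : IsPseudoCoherent' B (Dual.inD B (B ⧸ Q)) := isPseudoCoherentModule'_of_finite _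
  obtain ⟨-, hinj⟩ := locHom (B := Localization.AtPrime Q) Q.primeCompl (Dual.inD B (B ⧸ Q))
    (((bcD A B).obj ω)⟦j⟧) hK (a - j)
  obtain ⟨iso⟩ := nonempty_tensorQuot_iso_residueField Q
  refine subsingleton_of_forall_eq 0 (fun f => ?_)
  have hb0 : (bcD B (Localization.AtPrime Q)).map f = 0 := by
    haveI : Subsingleton ((bcD B (Localization.AtPrime Q)).obj (Dual.inD B (B ⧸ Q)) ⟶
        (bcD B (Localization.AtPrime Q)).obj (((bcD A B).obj ω)⟦j⟧)) :=
      subsingleton_hom_of_isos (bcSingleIso (B := Localization.AtPrime Q) (B ⧸ Q) ≪≫ iso)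
        (((bcD B (Localization.AtPrime Q)).commShiftIso j).app ((bcD A B).obj ω)) h3
    exact Subsingleton.elim _ _
  obtain ⟨s, hs⟩ := hinj f hb0
  obtain ⟨y, i, hi, hyi⟩ := hQ.exists_inv s.2
  have h5 : i • f = 0 := smul_hom_inD_quot_eq_zero Q _ i hi f
  calc f = (1 : B) • f := (one_smul _ _).symm
    _ = (y * (s : B) + i) • f := by rw [hyi]
    _ = y • ((s : B) • f) + i • f := by rw [add_smul, mul_smul]
    _ = 0 := by rw [hs, h5, smul_zero, add_zero]

/-- **Flat base change with Gorenstein fibres preserves dualizing complexes.** -/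
theorem isDualizing_bcD_of_gorenstein_fibres (ω : Dual.D A) (hω : Dual.IsDualizing A ω)
    (hG : ∀ (Q : Ideal B) [Q.IsMaximal], LocCoh.IsGorensteinLocalRing (EGA4.FibLocRing A B Q))
    (hdim : ringKrullDim B < ⊤) : Dual.IsDualizing B ((bcD A B).obj ω) := by
  obtain ⟨a, b, hab⟩ := hω.finite_injective_dimension
  obtain ⟨D, hD⟩ := exists_nat_ge_of_lt_top hdim
  have hH : ∀ i : ℤ, (i < a ∨ b < i) → Subsingleton (Dual.HD A ω i) := fun i hi =>
    subsingleton_HD_of_hom_quot_bot ω i (hab (A ⧸ (⊥ : Ideal A)) i hi)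
  have hHB : ∀ i : ℤ, (i < a ∨ b < i) → Subsingleton (Dual.HD B ((bcD A B).obj ω) i) := by
    intro i hi
    obtain ⟨e⟩ := nonempty_HD_bcD_linearEquiv (B := B) ω i
    haveI := hH i hi
    haveI : Subsingleton (B ⊗[A] Dual.HD A ω i) := subsingleton_tensor B
    exact e.toEquiv.subsingleton
  have hfinB : ∀ i : ℤ, Module.Finite B (Dual.HD B ((bcD A B).obj ω) i) := by
    intro i
    obtain ⟨e⟩ := nonempty_HD_bcD_linearEquiv (B := B) ω i
    haveI := hω.finite_cohomology i
    exact Module.Finite.equiv e.symm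
  have hmaxvan : ∀ (n : Ideal B), n.IsMaximal → ∀ j : ℤ, b + D < j →
      Subsingleton (Dual.inD B (B ⧸ n) ⟶ ((bcD A B).obj ω)⟦j⟧) := by
    intro n hn j hj
    haveI := hn
    exact subsingleton_hom_quot_maximal_bcD A B ω hω a b hab n (hG n) D hD j hj
  have hvanB : ∀ (M : Type u) [AddCommGroup M] [Module B M] [Module.Finite B M] (j : ℤ),
      b + D < j → Subsingleton (Dual.inD B M ⟶ ((bcD A B).obj ω)⟦j⟧) := fun M _ _ _ j hj =>
    hom_inD_subsingleton_of_maximal ((bcD A B).obj ω) (b + D)
      (fun M' _ _ _ i => hom_inD_finite_of_bounded _ a b hHB hfinB M' i) hmaxvan M j hj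
  haveI hge : DerivedCategory.IsGE ((bcD A B).obj ω) a := by
    rw [DerivedCategory.isGE_iff]
    intro i hi
    haveI := hHB i (Or.inl hi)
    exact ModuleCat.isZero_of_subsingleton _
  have hamp : HasInjAmplitudeIn B a (b + D) ((bcD A B).obj ω) := by
    refine hasInjAmplitudeIn_of_hom_quot_vanishing _ a (b + D) (fun I' j hj => ?_)
    rcases hj with hj | hj
    · haveI : DerivedCategory.IsGE (((bcD A B).obj ω)⟦j⟧) (a - j) :=
        TStructure.t.isGE_shift _ a j (a - j) (by omega)
      exact ⟨fun g g' => by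
        rw [TStructure.t.zero g 0 (a - j) (by omega), TStructure.t.zero g' 0 (a - j) (by omega)]⟩
    · exact hvanB (B ⧸ I') j hj
  exact isDualizing_bcD_of_finInj ω hω ⟨a, b + D, fun M _ _ i hi =>
    hom_subsingleton_of_hasInjAmplitudeIn _ a (b + D) hamp (ModuleCat.of B M) i hi⟩

end Main

section Apps

variable (A B : Type u) [CommRing A] [CommRing B] [Algebra A B] [IsNoetherianRing A]
  [IsNoetherianRing B]

/-- finite Krull dimension of finite type algebras over a ring with a dualizing complex -/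
theorem ringKrullDim_lt_top_of_finiteType [Algebra.FiniteType A B] (ω : Dual.D A)
    (hω : Dual.IsDualizing A ω) : ringKrullDim B < ⊤ := by
  obtain ⟨n, f, hf⟩ := Algebra.FiniteType.iff_quotient_mvPolynomial''.1
    (inferInstance : Algebra.FiniteType A B)
  obtain ⟨D₀, hD₀⟩ := exists_nat_ge_of_lt_top (ringKrullDim_lt_top_of_isDualizing ω hω)
  have h1 : ringKrullDim B ≤ ringKrullDim (MvPolynomial (Fin n) A) :=
    ringKrullDim_le_of_surjective f.toRingHom hf
  have h2 : ringKrullDim (MvPolynomial (Fin n) A) = ringKrullDim A + n := by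
    rw [MvPolynomial.ringKrullDim_of_isNoetherianRing, Nat.card_fin]
  have h3 : ringKrullDim A + (n : WithBot ℕ∞) ≤ ((D₀ + n : ℕ) : WithBot ℕ∞) := by
    push_cast
    exact add_le_add hD₀ le_rfl
  refine lt_of_le_of_lt (h1.trans (h2 ▸ h3)) ?_
  exact WithBot.coe_lt_coe.2 (ENat.natCast_lt_top _)

/-- S1788. -/
theorem S1788_main [Module.FaithfullyFlat A B] [Algebra.FiniteType A B]
    (hG : ∀ p : PrimeSpectrum A, LocCoh.IsGorensteinRing (B ⊗[A] p.asIdeal.ResidueField))
    [DRing.HasLBaseChange (algebraMap A B)] (K : Dual.D A) :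
    Dual.IsDualizing A K ↔
      Dual.IsDualizing B ((DRing.LBaseChange (algebraMap A B)).obj K) := by
  obtain ⟨e⟩ := nonempty_lBaseChange_iso_bcD (A := A) (B := B)
  constructor
  · intro hK
    refine isDualizing_of_iso (e.app K).symm
      (isDualizing_bcD_of_gorenstein_fibres A B K hK (fun Q hQ => ?_)
        (ringKrullDim_lt_top_of_finiteType A B K hK))
    haveI : LocCoh.IsGorensteinRing ((Q.comap (algebraMap A B)).Fiber B) :=
      Groth.Agent.GorFlat9.isGorRing_of_ringEquiv
        (Algebra.TensorProduct.comm A B (Q.comap (algebraMap A B)).ResidueField).toRingEquiv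
        (hG ⟨Q.comap (algebraMap A B), inferInstance⟩)
    exact Groth.Agent.GorFlat9.isGor_fibLocRing_of_fiber A B Q
  · intro hB
    exact isDualizing_of_bcD K (isDualizing_of_iso (e.app K) hB)

end Apps

/-- S11177. -/
theorem S11177_main (A B : Type u) [CommRing A] [CommRing B] [Algebra A B] [IsNoetherianRing A]
    [Algebra.Smooth A B] [DRing.HasLBaseChange (algebraMap A B)] (ω : Dual.D A)
    (hω : Dual.IsDualizing A ω) :
    Dual.IsDualizing B ((DRing.LBaseChange (algebraMap A B)).obj ω) := by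
  have hreg := Groth.Agent.Lib.SmoothRegHomH3.isRegularHom_of_smooth A B
  haveI : Module.Flat A B := hreg.1
  haveI : Algebra.FiniteType A B := inferInstance
  haveI : IsNoetherianRing B := Algebra.FiniteType.isNoetherianRing A B
  obtain ⟨e⟩ := nonempty_lBaseChange_iso_bcD (A := A) (B := B)
  refine isDualizing_of_iso (e.app ω).symm
    (isDualizing_bcD_of_gorenstein_fibres A B ω hω (fun Q hQ => ?_)
      (ringKrullDim_lt_top_of_finiteType A B ω hω))
  haveI : LocCoh.IsGorensteinRing ((Q.comap (algebraMap A B)).Fiber B) :=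
    Groth.Agent.GorFlat9.isGorRing_fiber_of_isRegularHom A B hreg _
  exact Groth.Agent.GorFlat9.isGor_fibLocRing_of_fiber A B Q


end Groth.Agent.Lib.GorBC
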