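import Mathlib
import Groth.Agent.Lib.KoszulBC_helper2
import Groth.Agent.Lib.GorLCI_helper9
import Groth.Agent.Lib.GorBC2_helper2

/-!
# Base change of flat local complete intersection maps (helper2)

* `nonempty_away_linearEquiv_tensor`: `(P ⊗_A C)_g ≃ P_g ⊗_A C`, in the form needed here;
* `isLCI_baseChange`: `A → B` flat lci, `A → C` arbitrary: `C → C ⊗_A B` is lci;
* `S1830_main`: flat lci maps have Gorenstein fibres;
* `S1829_main`: faithfully flat lci maps preserve and detect dualizing complexes.
-/

set_option autoImplicit false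
universe u
open CategoryTheory
open scoped TensorProduct

attribute [local instance] HasDerivedCategory.standard

namespace Groth.Agent.Lib.LCIBC

open Groth.Agent.Lib.KoszulBC

section Away

/-- the localization of `P' ≃ P ⊗_A C` at (the image of) `g ∈ P` is `P_g ⊗_A C`, `P_g`-linearly -/
theorem nonempty_away_linearEquiv_tensor {A : Type u} [CommRing A] (P C P' : Type u) [CommRing P]
    [Algebra A P] [AddCommGroup C] [Module A C] [CommRing P'] [Algebra P P']
    (e₀ : P ⊗[A] C ≃ₗ[P] P') (g : P)
    (R T : Type u) [CommRing R] [Algebra P R] [IsLocalization.Away g R] [Algebra A R]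
    [IsScalarTower A P R] [CommRing T] [Algebra P' T]
    [IsLocalization.Away (algebraMap P P' g) T] [Algebra P T] [IsScalarTower P P' T]
    [Algebra R T] [IsScalarTower P R T] :
    Nonempty (T ≃ₗ[R] R ⊗[A] C) := by
  haveI : IsLocalization (Algebra.algebraMapSubmonoid P' (Submonoid.powers g)) T := inferInstance
  let f1 : P' →ₗ[P] T := (IsScalarTower.toAlgHom P P' T).toLinearMap
  haveI h1 : IsLocalizedModule (Submonoid.powers g) f1 := inferInstance
  let f2 : P ⊗[A] C →ₗ[P] R ⊗[A] C :=
    TensorProduct.AlgebraTensorModule.rTensor A C (Algebra.linearMap P R)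
  haveI h2 : IsLocalizedModule (Submonoid.powers g) f2 := inferInstance
  haveI h3 : IsLocalizedModule (Submonoid.powers g) (f1 ∘ₗ e₀.toLinearMap) :=
    IsLocalizedModule.of_linearEquiv_right (Submonoid.powers g) f1 e₀
  let e1 : T ≃ₗ[P] R ⊗[A] C :=
    IsLocalizedModule.linearEquiv (Submonoid.powers g) (f1 ∘ₗ e₀.toLinearMap) f2
  exact ⟨e1.extendScalarsOfIsLocalization (Submonoid.powers g) R⟩

end Away

section BC

attribute [local instance] MvPolynomial.algebraMvPolynomial

variable (A B C : Type u) [CommRing A] [CommRing B] [CommRing C] [Algebra A B] [Algebra A C]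

/-- **Base change of flat lci maps.** -/
theorem isLCI_baseChange [Module.Flat A B] (hl : LCI.IsLCI A B) : LCI.IsLCI C (C ⊗[A] B) := by
  obtain ⟨hft, n, f, hf, hI⟩ := hl
  haveI := hft
  refine ⟨inferInstance, n, ?_⟩
  set P := MvPolynomial (Fin n) A with hP
  set P' := MvPolynomial (Fin n) C with hP'
  let φ : P →+* P' := algebraMap P P'
  let E : C ⊗[A] P ≃ₐ[C] P' := MvPolynomial.algebraTensorAlgEquiv A C
  let g₀ : C ⊗[A] P →ₐ[C] C ⊗[A] B := Algebra.TensorProduct.map (AlgHom.id C C) f
  let f' : P' →ₐ[C] C ⊗[A] B := g₀.comp E.symm.toAlgHom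
  have hf' : Function.Surjective f' := by
    have h1 : Function.Surjective g₀ :=
      Algebra.TensorProduct.map_surjective (AlgHom.id C C) f Function.surjective_id hf
    exact h1.comp E.symm.surjective
  set I := RingHom.ker f.toRingHom with hIdef
  have hEφ : ∀ p : P, E ((1 : C) ⊗ₜ[A] p) = φ p := by
    intro p
    rw [MvPolynomial.algebraTensorAlgEquiv_tmul, one_smul]
    rfl
  have hker : RingHom.ker f'.toRingHom = I.map φ := by
    have h1 : RingHom.ker (Algebra.TensorProduct.map (AlgHom.id A C) f) =
        I.map (Algebra.TensorProduct.includeRight : P →ₐ[A] C ⊗[A] P) :=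
      Algebra.TensorProduct.lTensor_ker f hf
    apply le_antisymm
    · intro x hx
      have hx' : g₀ (E.symm x) = 0 := hx
      have h2 : E.symm x ∈ RingHom.ker (Algebra.TensorProduct.map (AlgHom.id A C) f) := hx'
      rw [h1] at h2
      have h6 : Ideal.map (Algebra.TensorProduct.includeRight : P →ₐ[A] C ⊗[A] P) I ≤
          (I.map φ).comap (E : C ⊗[A] P →+* P') := by
        rw [Ideal.map_le_iff_le_comap]
        intro p hp
        show E ((1 : C) ⊗ₜ[A] p) ∈ I.map φ
        rw [hEφ]
        exact Ideal.mem_map_of_mem φ hp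
      have h7 : E (E.symm x) ∈ I.map φ := h6 h2
      rwa [AlgEquiv.apply_symm_apply] at h7
    · rw [Ideal.map_le_iff_le_comap]
      intro p hp
      show g₀ (E.symm (φ p)) = 0
      rw [← hEφ p, AlgEquiv.symm_apply_apply]
      show (1 : C) ⊗ₜ[A] f p = 0
      have : f p = 0 := hp
      rw [this, TensorProduct.tmul_zero]
  refine ⟨f', hf', ?_⟩
  intro 𝔮 h𝔮
  rw [hker] at h𝔮
  have hI𝔭 : I ≤ (𝔮.asIdeal.comap φ) := Ideal.map_le_iff_le_comap.1 h𝔮
  obtain ⟨g, hg, l, hlreg, hspan⟩ := hI ⟨𝔮.asIdeal.comap φ, inferInstance⟩ hI𝔭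
  have hg' : φ g ∉ 𝔮.asIdeal := hg
  refine ⟨φ g, hg', ?_⟩
  haveI : IsLocalization.Away (algebraMap P P' g) (Localization.Away (φ g)) :=
    (inferInstance : IsLocalization.Away (φ g) (Localization.Away (φ g)))
  let ψ : Localization.Away g →+* Localization.Away (φ g) :=
    IsLocalization.Away.map (Localization.Away g) (Localization.Away (φ g)) φ g
  have hψ : ψ.comp (algebraMap P (Localization.Away g)) =
      (algebraMap P' (Localization.Away (φ g))).comp φ := IsLocalization.map_comp _
  letI algRT : Algebra (Localization.Away g) (Localization.Away (φ g)) := ψ.toAlgebra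
  haveI : IsScalarTower P (Localization.Away g) (Localization.Away (φ g)) :=
    IsScalarTower.of_algebraMap_eq' (by
      rw [IsScalarTower.algebraMap_eq P P' (Localization.Away (φ g))]
      exact hψ.symm)
  let e₀ : P ⊗[A] C ≃ₗ[P] P' := (Algebra.IsPushout.equiv A P C P').toLinearEquiv
  obtain ⟨e⟩ := nonempty_away_linearEquiv_tensor (A := A) P C P' e₀ g (Localization.Away g)
    (Localization.Away (φ g))
  -- flatness of the quotient
  haveI : Module.Flat A (Localization.Away g) := Module.Flat.trans A P (Localization.Away g)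
  haveI : Module.Flat A (Localization.Away (f g)) :=
    Module.Flat.trans A B (Localization.Away (f g))
  let χ : Localization.Away g →ₐ[A] Localization.Away (f g) :=
    IsLocalization.Away.mapₐ (Localization.Away g) (Localization.Away (f g)) f g
  have hχs : Function.Surjective χ :=
    IsLocalization.map_surjective_of_surjective (Submonoid.powers g) (Localization.Away g)
      (Localization.Away (f g)) (g := f.toRingHom) hf
  have hχk : RingHom.ker χ.toRingHom = I.map (algebraMap P (Localization.Away g)) :=
    IsLocalization.ker_map (S := Localization.Away g) (M := Submonoid.powers g)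
      (Localization.Away (f g)) f.toRingHom (Submonoid.map_powers f.toRingHom g)
  have hq : Module.Flat A (Localization.Away g ⧸ Ideal.ofList l) := by
    have h1 : Ideal.ofList l = RingHom.ker χ.toRingHom := by
      rw [hχk, hspan]
    let e1 : (Localization.Away g ⧸ Ideal.ofList l) ≃ₐ[A]
        (Localization.Away g ⧸ RingHom.ker χ.toRingHom) :=
      Ideal.quotientEquivAlgOfEq A h1
    let e2 : (Localization.Away g ⧸ RingHom.ker χ.toRingHom) ≃ₐ[A] Localization.Away (f g) :=
      Ideal.quotientKerAlgEquivOfSurjective hχs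
    exact Module.Flat.of_linearEquiv (e1.trans e2).toLinearEquiv
  have hreg : LCI.IsKoszulRegularSeq (Localization.Away (φ g))
      (l.map (algebraMap (Localization.Away g) (Localization.Away (φ g)))) :=
    isKoszulRegularSeq_map_of_tensor l hlreg hq C e
  refine ⟨l.map ψ, hreg, ?_⟩
  rw [hker, Ideal.map_map, ← hψ, ← Ideal.map_map, hspan, Ideal.map_span]
  congr 1
  ext x
  simp only [Set.mem_image, Set.mem_ofPred_eq, List.mem_map]

end BC

section Apps

variable (A B : Type u) [CommRing A] [CommRing B] [Algebra A B]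

/-- S1830. -/
theorem S1830_main [Module.Flat A B] (hl : LCI.IsLCI A B) (p : PrimeSpectrum A) :
    LocCoh.IsGorensteinRing (B ⊗[A] p.asIdeal.ResidueField) := by
  have h1 := isLCI_baseChange A B p.asIdeal.ResidueField hl
  have h2 : LocCoh.IsGorensteinRing (p.asIdeal.ResidueField ⊗[A] B) :=
    Groth.Agent.GorLCI9.isGorRing_of_isLCI _ _
      (Groth.Agent.GorFlat9.isGorRing_field p.asIdeal.ResidueField) h1
  exact Groth.Agent.GorFlat9.isGorRing_of_ringEquiv
    (Algebra.TensorProduct.comm A p.asIdeal.ResidueField B).toRingEquiv h2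

/-- S1829. -/
theorem S1829_main [IsNoetherianRing A] [IsNoetherianRing B] [Module.FaithfullyFlat A B]
    (hl : LCI.IsLCI A B) [DRing.HasLBaseChange (algebraMap A B)] (K : Dual.D A) :
    Dual.IsDualizing A K ↔
      Dual.IsDualizing B ((DRing.LBaseChange (algebraMap A B)).obj K) := by
  haveI := hl.1
  exact Groth.Agent.Lib.GorBC.S1788_main A B (fun p => S1830_main A B hl p) K

end Apps

end Groth.Agent.Lib.LCIBC
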