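import Mathlib
import Groth.Agent.Lib.FibKoszul4_helper2
import Groth.Agent.Lib.LCIBC_helper2
import Groth.Agent.Lib.KoszulAtLCI_helper2

/-!
# Relative base change of lci ring maps (helper2)

`R₀ → A → B` with `A`, `B` flat over `R₀` and `A → B` lci; `R₀ → R'` arbitrary.  Then
`A ⊗ R' → B ⊗ R'` is lci (`isLCI_baseChange_rel`, `isLCIHom_baseChange_rel` in pushout form), and the
pointwise version `lciAt_baseChange_rel`.
APPEND-ONLY once landed.
-/

set_option autoImplicit false
universe u

namespace Groth.Agent.Lib.FibKoszul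

open TensorProduct CategoryTheory CategoryTheory.Limits
open Groth.Agent.Lib.KRegIdeal Groth.Agent.Lib.LCIComp Groth.Agent.Lib.SmoothLCI
  Groth.Agent.Lib.LCILocal Groth.Agent.Lib.LCIDesc Groth.Agent.Lib.KoszulBC
  Groth.Agent.Lib.LCIBC Groth.Agent.Lib.KoszulAtLCI

section BC

attribute [local instance] MvPolynomial.algebraMvPolynomial

variable (R₀ A B C R' : Type u) [CommRing R₀] [CommRing A] [CommRing B] [CommRing C] [CommRing R']
  [Algebra R₀ A] [Algebra A B] [Algebra R₀ B] [IsScalarTower R₀ A B] [Algebra A C] [Algebra R₀ R']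

/-- **Relative base change of lci maps.** -/
theorem isLCI_baseChange_rel [Module.Flat R₀ A] [Module.Flat R₀ B]
    (eC : C ≃ₗ[A] A ⊗[R₀] R') (hl : LCI.IsLCI A B) : LCI.IsLCI C (C ⊗[A] B) := by
  obtain ⟨hft, n, f, hf, hI⟩ := hl
  haveI := hft
  refine ⟨inferInstance, n, bcPres A B C n f, bcPres_surjective A B C n f hf, ?_⟩
  set P := MvPolynomial (Fin n) A with hP
  set P' := MvPolynomial (Fin n) C with hP'
  let φ : P →+* P' := algebraMap P P'
  set I := RingHom.ker f.toRingHom with hIdef
  have hker : RingHom.ker (bcPres A B C n f).toRingHom = I.map φ := ker_bcPres A B C n f hf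
  intro 𝔮 h𝔮
  rw [hker] at h𝔮
  have hI𝔭 : I ≤ (𝔮.asIdeal.comap φ) := Ideal.map_le_iff_le_comap.1 h𝔮
  obtain ⟨g, hg, l, hlreg, hspan⟩ := hI ⟨𝔮.asIdeal.comap φ, inferInstance⟩ hI𝔭
  have hg' : φ g ∉ 𝔮.asIdeal := hg
  refine ⟨φ g, hg', ?_⟩
  haveI : IsLocalization.Away (algebraMap P P' g) (Localization.Away (φ g)) :=
    (inferInstance : IsLocalization.Away (φ g) (Localization.Away (φ g)))
  let ψ : Localization.Away g →+* Localization.Away (φ g) :=
    IsLocalization.Away.map (Localization.Away g) (Localization.Away (φ g)) φ g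
  have hψ : ψ.comp (algebraMap P (Localization.Away g)) =
      (algebraMap P' (Localization.Away (φ g))).comp φ := IsLocalization.map_comp _
  letI algRT : Algebra (Localization.Away g) (Localization.Away (φ g)) := ψ.toAlgebra
  haveI : IsScalarTower P (Localization.Away g) (Localization.Away (φ g)) :=
    IsScalarTower.of_algebraMap_eq' (by
      rw [IsScalarTower.algebraMap_eq P P' (Localization.Away (φ g))]
      exact hψ.symm)
  let e₀ : P ⊗[A] C ≃ₗ[P] P' := (Algebra.IsPushout.equiv A P C P').toLinearEquiv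
  obtain ⟨e⟩ := nonempty_away_linearEquiv_tensor (A := A) P C P' e₀ g (Localization.Away g)
    (Localization.Away (φ g))
  -- pass to the base `R₀`
  let e2 : Localization.Away g ⊗[A] C ≃ₗ[Localization.Away g]
      Localization.Away g ⊗[A] (A ⊗[R₀] R') :=
    TensorProduct.AlgebraTensorModule.congr (LinearEquiv.refl _ _) eC
  let e3 : Localization.Away g ⊗[A] (A ⊗[R₀] R') ≃ₗ[Localization.Away g]
      Localization.Away g ⊗[R₀] R' :=
    TensorProduct.AlgebraTensorModule.cancelBaseChange R₀ A (Localization.Away g)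
      (Localization.Away g) R'
  -- flatness over `R₀`
  haveI : Module.Flat R₀ P := Module.Flat.trans R₀ A P
  haveI : Module.Flat R₀ (Localization.Away g) := Module.Flat.trans R₀ P (Localization.Away g)
  haveI : Module.Flat R₀ (Localization.Away (f g)) :=
    Module.Flat.trans R₀ B (Localization.Away (f g))
  let χ : Localization.Away g →ₐ[A] Localization.Away (f g) :=
    IsLocalization.Away.mapₐ (Localization.Away g) (Localization.Away (f g)) f g
  have hχs : Function.Surjective χ :=
    IsLocalization.map_surjective_of_surjective (Submonoid.powers g) (Localization.Away g)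
      (Localization.Away (f g)) (g := f.toRingHom) hf
  have hχk : RingHom.ker χ.toRingHom = I.map (algebraMap P (Localization.Away g)) :=
    IsLocalization.ker_map (S := Localization.Away g) (M := Submonoid.powers g)
      (Localization.Away (f g)) f.toRingHom (Submonoid.map_powers f.toRingHom g)
  have hq : Module.Flat R₀ (Localization.Away g ⧸ Ideal.ofList l) := by
    have h1 : Ideal.ofList l = RingHom.ker χ.toRingHom := by
      rw [hχk, hspan]
    let e1 : (Localization.Away g ⧸ Ideal.ofList l) ≃ₐ[A]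
        (Localization.Away g ⧸ RingHom.ker χ.toRingHom) :=
      Ideal.quotientEquivAlgOfEq A h1
    let e2' : (Localization.Away g ⧸ RingHom.ker χ.toRingHom) ≃ₐ[A] Localization.Away (f g) :=
      Ideal.quotientKerAlgEquivOfSurjective hχs
    exact Module.Flat.of_linearEquiv ((e1.trans e2').toLinearEquiv.restrictScalars R₀)
  have hreg : LCI.IsKoszulRegularSeq (Localization.Away (φ g))
      (l.map (algebraMap (Localization.Away g) (Localization.Away (φ g)))) :=
    isKoszulRegularSeq_map_of_tensor (A := R₀) l hlreg hq R' (e ≪≫ₗ e2 ≪≫ₗ e3)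
  refine ⟨l.map ψ, hreg, ?_⟩
  rw [hker, Ideal.map_map, ← hψ, ← Ideal.map_map, hspan, Ideal.map_span]
  congr 1
  ext x
  simp only [Set.mem_image, Set.mem_ofPred_eq, List.mem_map]

end BC

section Hom

variable {R B C R' B' C' : Type u} [CommRing R] [CommRing B] [CommRing C] [CommRing R']
  [CommRing B'] [CommRing C']

/-- **Relative base change of lci ring maps**, pushout form. -/
theorem isLCIHom_baseChange_rel (α : R →+* B) (φ : B →+* C) (h : R →+* R') (βB : B →+* B')
    (ρ' : R' →+* B') (βC : C →+* C') (φ' : B' →+* C')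
    (h1 : IsPushout (CommRingCat.ofHom α) (CommRingCat.ofHom h) (CommRingCat.ofHom βB)
      (CommRingCat.ofHom ρ'))
    (h2 : IsPushout (CommRingCat.ofHom φ) (CommRingCat.ofHom βB) (CommRingCat.ofHom βC)
      (CommRingCat.ofHom φ'))
    (hα : α.Flat) (hφα : (φ.comp α).Flat) (hl : IsLCIHom φ) : IsLCIHom φ' := by
  letI algRB : Algebra R B := α.toAlgebra
  letI algBC : Algebra B C := φ.toAlgebra
  letI algRC : Algebra R C := (φ.comp α).toAlgebra
  haveI : IsScalarTower R B C := IsScalarTower.of_algebraMap_eq (fun _ => rfl)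
  letI algRR' : Algebra R R' := h.toAlgebra
  letI algBB' : Algebra B B' := βB.toAlgebra
  haveI : Module.Flat R B := hα
  haveI : Module.Flat R C := hφα
  -- `B' ≃ B ⊗ R'`
  have hT := CommRingCat.isPushout_tensorProduct R B R'
  let e := hT.isoIsPushout _ _ h1
  have he : ∀ b : B, e.hom.hom (b ⊗ₜ[R] (1 : R')) = βB b := by
    intro b
    have := congrArg (fun t => t.hom b) (hT.inl_isoIsPushout_hom _ _ h1)
    exact this
  let eC : B' ≃ₗ[B] B ⊗[R] R' := LinearEquiv.symm
    { e.commRingCatIsoToRingEquiv.toAddEquiv with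
      map_smul' := fun b x => by
        show e.hom.hom (b • x) = b • e.hom.hom x
        rw [Algebra.smul_def, map_mul, Algebra.smul_def]
        congr 1
        rw [Algebra.TensorProduct.algebraMap_apply]
        exact he b }
  have hl' : LCI.IsLCI B' (B' ⊗[B] C) := isLCI_baseChange_rel R B C B' R' eC hl
  -- `B' ⊗_B C ≃ C'`
  have hT2 := CommRingCat.isPushout_tensorProduct B B' C
  have h2' : IsPushout (CommRingCat.ofHom (algebraMap B B'))
      (CommRingCat.ofHom (algebraMap B C)) (CommRingCat.ofHom φ') (CommRingCat.ofHom βC) := h2.flip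
  let e2 := hT2.isoIsPushout _ _ h2'
  have he2 : ∀ a : B', e2.hom.hom (a ⊗ₜ[B] (1 : C)) = φ' a := by
    intro a
    have := congrArg (fun t => t.hom a) (hT2.inl_isoIsPushout_hom _ _ h2')
    exact this
  refine @isLCI_of_ringEquiv B' (B' ⊗[B] C) C' _ _ _ _ φ'.toAlgebra
    e2.commRingCatIsoToRingEquiv ?_ hl'
  intro a
  show e2.hom.hom (algebraMap B' (B' ⊗[B] C) a) = φ' a
  rw [Algebra.TensorProduct.algebraMap_apply]
  exact he2 a

end Hom

end Groth.Agent.Lib.FibKoszul
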