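import Mathlib
import Groth.Agent.Lib.FibKoszul5_helper2

/-!
# Fibrewise Koszul criterion, pushout forms (helper2)

* `lciAt_baseChange_rel`: pointwise relative base change of lci ring maps;
* `lciAt_of_fibre_noeth_hom`: the fibrewise criterion over a field, Noetherian case, for pushout
  squares of rings.
APPEND-ONLY once landed.
-/

set_option autoImplicit false
universe u

namespace Groth.Agent.Lib.FibKoszul

open TensorProduct CategoryTheory CategoryTheory.Limits
open Groth.Agent.Lib.KRegIdeal Groth.Agent.Lib.LCIComp Groth.Agent.Lib.SmoothLCI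
  Groth.Agent.Lib.LCILocal Groth.Agent.Lib.LCIDesc Groth.Agent.Lib.KoszulAtLCI

section PointwiseBC

variable {R B C R' B' C' : Type u} [CommRing R] [CommRing B] [CommRing C] [CommRing R']
  [CommRing B'] [CommRing C']

/-- **Pointwise relative base change of lci ring maps.** -/
theorem lciAt_baseChange_rel (α : R →+* B) (φ : B →+* C) (h : R →+* R') (βB : B →+* B')
    (ρ' : R' →+* B') (βC : C →+* C') (φ' : B' →+* C')
    (h1 : IsPushout (CommRingCat.ofHom α) (CommRingCat.ofHom h) (CommRingCat.ofHom βB)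
      (CommRingCat.ofHom ρ'))
    (h2 : IsPushout (CommRingCat.ofHom φ) (CommRingCat.ofHom βB) (CommRingCat.ofHom βC)
      (CommRingCat.ofHom φ'))
    (hα : α.Flat) (hφα : (φ.comp α).Flat) (q' : Ideal C') [q'.IsPrime]
    (hl : LciAt φ (q'.comap βC)) : LciAt φ' q' := by
  obtain ⟨c, hc, T, _, ρ, hloc, hlci⟩ := hl
  letI algCT : Algebra C T := ρ.toAlgebra
  haveI := hloc
  refine ⟨βC c, hc, Localization.Away (βC c), inferInstance, algebraMap C' _,
    away_toAlgebra (βC c), ?_⟩
  haveI : IsLocalization.Away (βC c) (Localization.Away (βC c)) := inferInstance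
  let τ : T →+* Localization.Away (βC c) :=
    IsLocalization.Away.map T (Localization.Away (βC c)) βC c
  have hτ : τ.comp (algebraMap C T) = (algebraMap C' (Localization.Away (βC c))).comp βC :=
    IsLocalization.map_comp _
  haveI : IsLocalization ((Submonoid.powers c).map βC) (Localization.Away (βC c)) := by
    rw [Submonoid.map_powers]
    infer_instance
  have hsq : IsPushout (CommRingCat.ofHom βC) (CommRingCat.ofHom (algebraMap C T))
      (CommRingCat.ofHom (algebraMap C' (Localization.Away (βC c)))) (CommRingCat.ofHom τ) :=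
    CommRingCat.isPushout_of_isLocalization βC τ hτ (Submonoid.powers c)
  have hpaste := h2.paste_horiz hsq.flip
  refine isLCIHom_baseChange_rel α (ρ.comp φ) h βB ρ' τ
    ((algebraMap C' (Localization.Away (βC c))).comp φ') h1 hpaste hα ?_ hlci
  have hρ : ρ.Flat := by
    show Module.Flat C T
    exact IsLocalization.flat T (Submonoid.powers c)
  rw [RingHom.comp_assoc]
  exact RingHom.Flat.comp hφα hρ

end PointwiseBC

section Transport

variable {B C : Type u} [CommRing B] [CommRing C]

/-- transport of `LciAt` along isomorphisms of source and target -/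
theorem lciAt_of_equiv {B₂ C₂ : Type u} [CommRing B₂] [CommRing C₂] (φ : B →+* C)
    (φ₂ : B₂ →+* C₂) (eB : B₂ ≃+* B) (eC : C₂ ≃+* C)
    (hcomm : φ.comp (eB : B₂ →+* B) = (eC : C₂ →+* C).comp φ₂) (q : Ideal C)
    (h : LciAt φ q) : LciAt φ₂ (q.comap (eC : C₂ →+* C)) := by
  obtain ⟨c, hc, T, _, ρ, hloc, hlci⟩ := h
  refine ⟨eC.symm c, ?_, T, inferInstance, ρ.comp (eC : C₂ →+* C), ?_, ?_⟩
  · intro hmem
    apply hc
    have h1 : eC (eC.symm c) ∈ q := hmem
    rwa [eC.apply_symm_apply] at h1
  · letI algCT : Algebra C T := ρ.toAlgebra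
    haveI := hloc
    letI : Algebra C₂ T := (ρ.comp (eC : C₂ →+* C)).toAlgebra
    have hmap : ∀ x : C₂, algebraMap C₂ T x = algebraMap C T (eC x) := fun x => rfl
    refine IsLocalization.Away.mk _ ?_ ?_ ?_
    · rw [hmap, eC.apply_symm_apply]
      exact IsLocalization.Away.algebraMap_isUnit c
    · intro z
      obtain ⟨n, a, ha⟩ := IsLocalization.Away.surj c z
      refine ⟨n, eC.symm a, ?_⟩
      rw [hmap, hmap, eC.apply_symm_apply, eC.apply_symm_apply]
      exact ha
    · intro a b hab
      rw [hmap, hmap] at hab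
      obtain ⟨n, hn⟩ := IsLocalization.Away.exists_of_eq c hab
      refine ⟨n, ?_⟩
      apply eC.injective
      rw [map_mul, map_mul, map_pow, eC.apply_symm_apply]
      exact hn
  · have h1 : (ρ.comp (eC : C₂ →+* C)).comp φ₂ = (ρ.comp φ).comp (eB : B₂ →+* B) := by
      rw [RingHom.comp_assoc, ← hcomm, RingHom.comp_assoc]
    rw [h1]
    refine isLCIHom_comp _ _ ?_ hlci
    exact isLCIHom_of_smooth _ (RingHom.Smooth.of_bijective eB.bijective)

end Transport

section FibreHom

attribute [local instance] Algebra.TensorProduct.rightAlgebra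

variable {R B C K BK CK : Type u} [CommRing R] [CommRing B] [CommRing C] [CommRing K]
  [CommRing BK] [CommRing CK]

/-- **Fibrewise criterion over a field, Noetherian case**, pushout form. -/
theorem lciAt_of_fibre_noeth_hom (hK : IsField K) (α : R →+* B) (φ : B →+* C) (κ : R →+* K)
    (βB : B →+* BK) (κB : K →+* BK) (βC : C →+* CK) (φK : BK →+* CK)
    (h1 : IsPushout (CommRingCat.ofHom α) (CommRingCat.ofHom κ) (CommRingCat.ofHom βB)
      (CommRingCat.ofHom κB))
    (h2 : IsPushout (CommRingCat.ofHom φ) (CommRingCat.ofHom βB) (CommRingCat.ofHom βC)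
      (CommRingCat.ofHom φK))
    [IsNoetherianRing B] (hα : α.Flat) (hα' : α.FiniteType) (hφα : (φ.comp α).Flat)
    (hφ' : φ.FiniteType) (qK : Ideal CK) [qK.IsPrime] (h : LciAt φK qK) :
    LciAt φ (qK.comap βC) := by
  letI := hK.toField
  letI algRB : Algebra R B := α.toAlgebra
  letI algBC : Algebra B C := φ.toAlgebra
  letI algRC : Algebra R C := (φ.comp α).toAlgebra
  haveI : IsScalarTower R B C := IsScalarTower.of_algebraMap_eq (fun _ => rfl)
  letI algRK : Algebra R K := κ.toAlgebra
  haveI : Module.Flat R B := hα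
  haveI : Module.Flat R C := hφα
  haveI : Algebra.FiniteType R B := hα'
  haveI : Algebra.FiniteType B C := hφ'
  -- `K ⊗ B ≃ BK`
  have hT := CommRingCat.isPushout_tensorProduct R K B
  let eB := hT.isoIsPushout _ _ h1.flip
  have heB : ∀ b : B, eB.hom.hom ((1 : K) ⊗ₜ[R] b) = βB b := by
    intro b
    have := congrArg (fun t => t.hom b) (hT.inr_isoIsPushout_hom _ _ h1.flip)
    exact this
  -- `(K ⊗ B) ⊗_B C ≃ CK`
  have h2' : IsPushout (CommRingCat.ofHom φ)
      (CommRingCat.ofHom (algebraMap B (K ⊗[R] B))) (CommRingCat.ofHom βC)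
      (eB.hom ≫ CommRingCat.ofHom φK) := by
    refine IsPushout.of_iso h2 (Iso.refl _) (Iso.refl _) eB.symm (Iso.refl _) ?_ ?_ ?_ ?_
    · simp
    · rw [Iso.refl_hom, Category.id_comp, Iso.symm_hom, Iso.comp_inv_eq]
      ext b
      exact (heB b).symm
    · simp
    · rw [Iso.refl_hom, Category.comp_id, Iso.symm_hom, Iso.inv_hom_id_assoc]
  have hT2 := CommRingCat.isPushout_tensorProduct B (K ⊗[R] B) C
  let eC := hT2.isoIsPushout _ _ h2'.flip
  have heC1 : ∀ x : K ⊗[R] B, eC.hom.hom (x ⊗ₜ[B] (1 : C)) = φK (eB.hom.hom x) := by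
    intro x
    have := congrArg (fun t => t.hom x) (hT2.inl_isoIsPushout_hom _ _ h2'.flip)
    exact this
  have heC2 : ∀ c : C, eC.hom.hom ((1 : K ⊗[R] B) ⊗ₜ[B] c) = βC c := by
    intro c
    have := congrArg (fun t => t.hom c) (hT2.inr_isoIsPushout_hom _ _ h2'.flip)
    exact this
  have hcomm : φK.comp (eB.commRingCatIsoToRingEquiv : K ⊗[R] B →+* BK) =
      (eC.commRingCatIsoToRingEquiv : (K ⊗[R] B) ⊗[B] C →+* CK).comp
        (algebraMap (K ⊗[R] B) ((K ⊗[R] B) ⊗[B] C)) := by
    apply RingHom.ext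
    intro x
    show φK (eB.hom.hom x) = eC.hom.hom (algebraMap (K ⊗[R] B) ((K ⊗[R] B) ⊗[B] C) x)
    rw [Algebra.TensorProduct.algebraMap_apply]
    exact (heC1 x).symm
  have h3 := lciAt_of_equiv φK (algebraMap (K ⊗[R] B) ((K ⊗[R] B) ⊗[B] C))
    eB.commRingCatIsoToRingEquiv eC.commRingCatIsoToRingEquiv hcomm qK h
  haveI : (qK.comap (eC.commRingCatIsoToRingEquiv : (K ⊗[R] B) ⊗[B] C →+* CK)).IsPrime :=
    Ideal.comap_isPrime _ _
  have h4 := tb_field_noeth (R := R) (B := B) (C := C) (K := K) _ h3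
  have h5 : (qK.comap (eC.commRingCatIsoToRingEquiv : (K ⊗[R] B) ⊗[B] C →+* CK)).comap
      (Algebra.TensorProduct.includeRight : C →ₐ[B] (K ⊗[R] B) ⊗[B] C).toRingHom =
      qK.comap βC := by
    rw [Ideal.comap_comap]
    congr 1
    apply RingHom.ext
    intro c
    exact heC2 c
  rw [h5] at h4
  exact h4

end FibreHom

end Groth.Agent.Lib.FibKoszul
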