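import Mathlib
import Groth.Agent.Lib.FlatDesc15_helper8

/-!
# Noetherian approximation of a tower of flat finitely presented algebras (helper2)

`R → B → C` with `B`, `C` flat of finite presentation over `R`: there are a finite type `ℤ`-algebra
`R₁ → R`, a tower `R₁ → B₁ → C₁` of finite type with `B₁`, `C₁` flat over `R₁`, and pushout squares
`B = R ⊗ B₁`, `C = B ⊗_{B₁} C₁` (`exists_flat_tower_model`).  Built on helper8's descent of
flatness to finitely generated subalgebras.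
APPEND-ONLY once landed.
-/

set_option autoImplicit false
universe u

namespace Groth.Agent.Lib.FibKoszul

open TensorProduct CategoryTheory CategoryTheory.Limits Groth.Agent.Lib.FlatDescH8

section Model

/-- the model of a presentation over a ring of coefficients, as a pushout square of rings -/
theorem isPushout_model {R S : Type u} [CommRing R] [CommRing S] [Algebra R S] {n m : ℕ}
    (P : Algebra.Presentation R S (Fin n) (Fin m)) (R₀ : Type u) [CommRing R₀] [Algebra R₀ R]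
    [Algebra R₀ S] [IsScalarTower R₀ R S] [P.HasCoeffs R₀] :
    ∃ ιS : P.ModelOfHasCoeffs R₀ →+* S,
      IsPushout (CommRingCat.ofHom (algebraMap R₀ (P.ModelOfHasCoeffs R₀)))
        (CommRingCat.ofHom (algebraMap R₀ R)) (CommRingCat.ofHom ιS)
        (CommRingCat.ofHom (algebraMap R S)) := by
  let E : R ⊗[R₀] P.ModelOfHasCoeffs R₀ ≃ₐ[R] S := P.tensorModelOfHasCoeffsEquiv R₀
  let ιS : P.ModelOfHasCoeffs R₀ →+* S := (E : R ⊗[R₀] P.ModelOfHasCoeffs R₀ →+* S).comp
    (Algebra.TensorProduct.includeRight :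
      P.ModelOfHasCoeffs R₀ →ₐ[R₀] R ⊗[R₀] P.ModelOfHasCoeffs R₀).toRingHom
  refine ⟨ιS, ?_⟩
  have hT := (CommRingCat.isPushout_tensorProduct R₀ R (P.ModelOfHasCoeffs R₀)).flip
  refine IsPushout.of_iso hT (Iso.refl _) (Iso.refl _) (Iso.refl _)
    (E.toRingEquiv.toCommRingCatIso) ?_ ?_ ?_ ?_
  · simp
  · simp
  · rw [Iso.refl_hom, Category.id_comp]
    rfl
  · rw [Iso.refl_hom, Category.id_comp]
    ext r
    exact E.commutes r

/-- flatness of a tensor product read off from a pushout square -/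
theorem flat_tensor_of_isPushout {R₁ R B₁ B : Type u} [CommRing R₁] [CommRing R] [CommRing B₁]
    [CommRing B] [Algebra R₁ R] [Algebra R₁ B₁] (α : R →+* B) (ιB : B₁ →+* B)
    (sq : IsPushout (CommRingCat.ofHom (algebraMap R₁ B₁)) (CommRingCat.ofHom (algebraMap R₁ R))
      (CommRingCat.ofHom ιB) (CommRingCat.ofHom α)) (hα : α.Flat) :
    Module.Flat R (R ⊗[R₁] B₁) := by
  letI : Algebra R B := α.toAlgebra
  haveI : Module.Flat R B := hα
  have hT := CommRingCat.isPushout_tensorProduct R₁ R B₁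
  let e := hT.isoIsPushout _ _ sq.flip
  have he : ∀ r : R, e.hom.hom (r ⊗ₜ[R₁] (1 : B₁)) = α r := by
    intro r
    have := congrArg (fun t => t.hom r) (hT.inl_isoIsPushout_hom _ _ sq.flip)
    exact this
  let eL : R ⊗[R₁] B₁ ≃ₗ[R] B :=
    { e.commRingCatIsoToRingEquiv.toAddEquiv with
      map_smul' := fun r x => by
        show e.hom.hom (r • x) = r • e.hom.hom x
        rw [Algebra.smul_def, map_mul, Algebra.smul_def]
        congr 1
        rw [Algebra.TensorProduct.algebraMap_apply]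
        exact he r }
  exact Module.Flat.of_linearEquiv eL

/-- a product of two flat modules is flat (copied from helper3's `ComplFlatSplit`) -/
theorem flat_prod' {R : Type*} [CommRing R] (M K : Type*) [AddCommGroup M] [Module R M]
    [AddCommGroup K] [Module R K] [Module.Flat R M] [Module.Flat R K] : Module.Flat R (M × K) := by
  rw [Module.Flat.iff_rTensor_injective']
  intro J
  rw [injective_iff_map_eq_zero]
  intro x hx
  have h1 : LinearMap.lTensor J (LinearMap.fst R M K) x = 0 := by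
    apply (Module.Flat.iff_rTensor_injective'.mp (inferInstance : Module.Flat R M) J)
    rw [_root_.map_zero, ← LinearMap.comp_apply, LinearMap.rTensor_comp_lTensor,
      ← LinearMap.lTensor_comp_rTensor, LinearMap.comp_apply, hx, _root_.map_zero]
  have h2 : LinearMap.lTensor J (LinearMap.snd R M K) x = 0 := by
    apply (Module.Flat.iff_rTensor_injective'.mp (inferInstance : Module.Flat R K) J)
    rw [_root_.map_zero, ← LinearMap.comp_apply, LinearMap.rTensor_comp_lTensor,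
      ← LinearMap.lTensor_comp_rTensor, LinearMap.comp_apply, hx, _root_.map_zero]
  have h3 : LinearMap.inl R M K ∘ₗ LinearMap.fst R M K + LinearMap.inr R M K ∘ₗ LinearMap.snd R M K
      = LinearMap.id := by
    ext x <;> simp
  have h4 : x = LinearMap.lTensor J (LinearMap.inl R M K ∘ₗ LinearMap.fst R M K +
      LinearMap.inr R M K ∘ₗ LinearMap.snd R M K) x := by
    rw [h3, LinearMap.lTensor_id, LinearMap.id_apply]
  rw [h4, LinearMap.lTensor_add, LinearMap.add_apply, LinearMap.lTensor_comp,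
    LinearMap.lTensor_comp, LinearMap.comp_apply, LinearMap.comp_apply, h1, h2, _root_.map_zero,
    _root_.map_zero, add_zero]

end Model

section Tower

variable {R B C : Type u} [CommRing R] [CommRing B] [CommRing C]

/-- **Models of a tower of finitely presented algebras** over a finite type `ℤ`-algebra. -/
theorem exists_tower_model (α : R →+* B) (φ : B →+* C)
    (hα' : α.FinitePresentation) (hφ' : φ.FinitePresentation) :
    ∃ (R₁ B₁ C₁ : Type u) (_ : CommRing R₁) (_ : CommRing B₁) (_ : CommRing C₁)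
      (ι : R₁ →+* R) (ιB : B₁ →+* B) (ιC : C₁ →+* C) (α₁ : R₁ →+* B₁) (φ₁ : B₁ →+* C₁),
      Algebra.FiniteType ℤ R₁ ∧ α₁.FiniteType ∧ φ₁.FiniteType ∧
      IsPushout (CommRingCat.ofHom α₁) (CommRingCat.ofHom ι) (CommRingCat.ofHom ιB)
        (CommRingCat.ofHom α) ∧
      IsPushout (CommRingCat.ofHom φ₁) (CommRingCat.ofHom ιB) (CommRingCat.ofHom ιC)
        (CommRingCat.ofHom φ) := by
  classical
  letI algRB : Algebra R B := α.toAlgebra
  letI algBC : Algebra B C := φ.toAlgebra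
  haveI : Algebra.FinitePresentation R B := hα'
  haveI : Algebra.FinitePresentation B C := hφ'
  obtain ⟨nB, mB, ⟨PB⟩⟩ := Algebra.Presentation.exists_presentation_fin R B
  obtain ⟨nC, mC, ⟨PC⟩⟩ := Algebra.Presentation.exists_presentation_fin B C
  let E : R ⊗[PB.Core] PB.ModelOfHasCoeffs PB.Core ≃ₐ[R] B :=
    PB.tensorModelOfHasCoeffsEquiv PB.Core
  obtain ⟨S, hSfg, hS⟩ := exists_fg_forall_mem_jmap_range (A₀ := PB.Core) (A := R)
    (B₀ := PB.ModelOfHasCoeffs PB.Core) (PC.finite_coeffs.toFinset.image E.symm)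
  -- the first level over `S`
  let ιB₁ : S ⊗[PB.Core] PB.ModelOfHasCoeffs PB.Core →+* B :=
    (E : R ⊗[PB.Core] PB.ModelOfHasCoeffs PB.Core →+* B).comp (jmap S).toRingHom
  have hT0 := (CommRingCat.isPushout_tensorProduct PB.Core R (PB.ModelOfHasCoeffs PB.Core)).flip
  have hTS := (CommRingCat.isPushout_tensorProduct PB.Core S (PB.ModelOfHasCoeffs PB.Core)).flip
  have hsqS : IsPushout
      (CommRingCat.ofHom (Algebra.TensorProduct.includeLeftRingHom :
        S →+* S ⊗[PB.Core] PB.ModelOfHasCoeffs PB.Core))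
      (CommRingCat.ofHom S.val.toRingHom)
      (CommRingCat.ofHom (jmap (B₀ := PB.ModelOfHasCoeffs PB.Core) S).toRingHom)
      (CommRingCat.ofHom (Algebra.TensorProduct.includeLeftRingHom :
        R →+* R ⊗[PB.Core] PB.ModelOfHasCoeffs PB.Core)) := by
    refine IsPushout.of_top (h₁₁ := CommRingCat.ofHom (algebraMap PB.Core
        (PB.ModelOfHasCoeffs PB.Core)))
      (v₁₁ := CommRingCat.ofHom (algebraMap PB.Core S))
      (v₁₂ := CommRingCat.ofHom (Algebra.TensorProduct.includeRight :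
        PB.ModelOfHasCoeffs PB.Core →ₐ[PB.Core] S ⊗[PB.Core] PB.ModelOfHasCoeffs PB.Core).toRingHom)
      ?_ ?_ hTS
    · exact hT0
    · rfl
  have hsq1 : IsPushout
      (CommRingCat.ofHom (Algebra.TensorProduct.includeLeftRingHom :
        S →+* S ⊗[PB.Core] PB.ModelOfHasCoeffs PB.Core))
      (CommRingCat.ofHom S.val.toRingHom)
      (CommRingCat.ofHom (R := S ⊗[PB.Core] PB.ModelOfHasCoeffs PB.Core) ιB₁)
      (CommRingCat.ofHom α) := by
    refine IsPushout.of_iso hsqS (Iso.refl _) (Iso.refl _) (Iso.refl _)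
      (E.toRingEquiv.toCommRingCatIso) ?_ ?_ ?_ ?_
    · simp
    · simp
    · rw [Iso.refl_hom, Category.id_comp]
      rfl
    · rw [Iso.refl_hom, Category.id_comp]
      ext r
      exact E.commutes r
  -- the second level
  letI algB₁B : Algebra (S ⊗[PB.Core] PB.ModelOfHasCoeffs PB.Core) B := ιB₁.toAlgebra
  letI algB₁C : Algebra (S ⊗[PB.Core] PB.ModelOfHasCoeffs PB.Core) C := (φ.comp ιB₁).toAlgebra
  haveI : IsScalarTower (S ⊗[PB.Core] PB.ModelOfHasCoeffs PB.Core) B C :=
    IsScalarTower.of_algebraMap_eq (fun _ => rfl)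
  haveI : PC.HasCoeffs (S ⊗[PB.Core] PB.ModelOfHasCoeffs PB.Core) := ⟨by
    intro b hb
    have h1 : E.symm b ∈ PC.finite_coeffs.toFinset.image E.symm :=
      Finset.mem_image_of_mem _ (PC.finite_coeffs.mem_toFinset.mpr hb)
    obtain ⟨z, hz⟩ := hS _ h1
    refine ⟨z, ?_⟩
    have hz' : jmap S z = E.symm b := hz
    show E (jmap S z) = b
    rw [hz', AlgEquiv.apply_symm_apply]⟩
  obtain ⟨ιC₁, hsq2⟩ := isPushout_model PC (S ⊗[PB.Core] PB.ModelOfHasCoeffs PB.Core)
  haveI : Algebra.FiniteType PB.Core S := (Subalgebra.fg_iff_finiteType S).mp hSfg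
  refine ⟨S, S ⊗[PB.Core] PB.ModelOfHasCoeffs PB.Core,
    PC.ModelOfHasCoeffs (S ⊗[PB.Core] PB.ModelOfHasCoeffs PB.Core), inferInstance, inferInstance,
    inferInstance, S.val.toRingHom, ιB₁, ιC₁, Algebra.TensorProduct.includeLeftRingHom,
    algebraMap _ _, ?_, ?_, ?_, hsq1, hsq2⟩
  · exact Algebra.FiniteType.trans (inferInstance : Algebra.FiniteType ℤ PB.Core) inferInstance
  · exact (RingHom.finiteType_algebraMap (A := S)
      (B := S ⊗[PB.Core] PB.ModelOfHasCoeffs PB.Core)).mpr inferInstance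
  · exact RingHom.finiteType_algebraMap.mpr inferInstance

end Tower

section Flat

variable {R B C : Type u} [CommRing R] [CommRing B] [CommRing C]

/-- **Noetherian approximation of a tower of flat finitely presented algebras.** -/
theorem exists_flat_tower_model (α : R →+* B) (φ : B →+* C)
    (hα : α.Flat) (hα' : α.FinitePresentation) (hφα : (φ.comp α).Flat)
    (hφα' : (φ.comp α).FinitePresentation) :
    ∃ (R₂ B₂ C₂ : Type u) (_ : CommRing R₂) (_ : CommRing B₂) (_ : CommRing C₂)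
      (ι : R₂ →+* R) (ιB : B₂ →+* B) (ιC : C₂ →+* C) (α₂ : R₂ →+* B₂) (φ₂ : B₂ →+* C₂),
      IsNoetherianRing B₂ ∧ α₂.Flat ∧ α₂.FiniteType ∧ (φ₂.comp α₂).Flat ∧ φ₂.FiniteType ∧
      IsPushout (CommRingCat.ofHom α₂) (CommRingCat.ofHom ι) (CommRingCat.ofHom ιB)
        (CommRingCat.ofHom α) ∧
      IsPushout (CommRingCat.ofHom φ₂) (CommRingCat.ofHom ιB) (CommRingCat.ofHom ιC)
        (CommRingCat.ofHom φ) := by
  classical
  have hφ' : φ.FinitePresentation :=
    RingHom.FinitePresentation.of_comp_finiteType α hφα' (RingHom.FiniteType.of_finitePresentation hα')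
  obtain ⟨R₁, B₁, C₁, _, _, _, ι, ιB, ιC, α₁, φ₁, hR₁, hα₁, hφ₁, sq1, sq2⟩ :=
    exists_tower_model α φ hα' hφ'
  letI algR₁R : Algebra R₁ R := ι.toAlgebra
  letI algR₁B₁ : Algebra R₁ B₁ := α₁.toAlgebra
  letI algR₁C₁ : Algebra R₁ C₁ := (φ₁.comp α₁).toAlgebra
  haveI : IsNoetherianRing R₁ := Algebra.FiniteType.isNoetherianRing ℤ R₁
  haveI : Algebra.FiniteType R₁ B₁ := hα₁
  haveI : Algebra.FiniteType R₁ C₁ := hφ₁.comp hα₁
  have sq12 : IsPushout (CommRingCat.ofHom (algebraMap R₁ C₁)) (CommRingCat.ofHom (algebraMap R₁ R))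
      (CommRingCat.ofHom ιC) (CommRingCat.ofHom (φ.comp α)) := sq1.paste_horiz sq2
  haveI hfB : Module.Flat R (R ⊗[R₁] B₁) := flat_tensor_of_isPushout α ιB sq1 hα
  haveI hfC : Module.Flat R (R ⊗[R₁] C₁) := flat_tensor_of_isPushout (φ.comp α) ιC sq12 hφα
  haveI : Module.Flat R ((R ⊗[R₁] B₁) × (R ⊗[R₁] C₁)) := flat_prod' _ _
  haveI : Module.Flat R (R ⊗[R₁] (B₁ × C₁)) :=
    Module.Flat.of_linearEquiv (TensorProduct.prodRight R₁ R R B₁ C₁)
  obtain ⟨A', hA'fg, hflat⟩ := exists_fg_subalgebra_flat' (A₁ := R₁) (B₁ := B₁ × C₁) (B₁ × C₁) R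
  haveI := hflat
  haveI hflB : Module.Flat A' (A' ⊗[R₁] B₁) := Module.Flat.of_retract
    (LinearMap.baseChange A' (LinearMap.inl R₁ B₁ C₁))
    (LinearMap.baseChange A' (LinearMap.fst R₁ B₁ C₁))
    (by rw [← LinearMap.baseChange_comp, LinearMap.fst_comp_inl, LinearMap.baseChange_id])
  haveI hflC : Module.Flat A' (A' ⊗[R₁] C₁) := Module.Flat.of_retract
    (LinearMap.baseChange A' (LinearMap.inr R₁ B₁ C₁))
    (LinearMap.baseChange A' (LinearMap.snd R₁ B₁ C₁))
    (by rw [← LinearMap.baseChange_comp, LinearMap.snd_comp_inr, LinearMap.baseChange_id])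
  haveI : Algebra.FiniteType R₁ A' := (Subalgebra.fg_iff_finiteType A').mp hA'fg
  haveI : IsNoetherianRing A' := Algebra.FiniteType.isNoetherianRing R₁ A'
  -- the squares over `A'`
  have hTB := (CommRingCat.isPushout_tensorProduct R₁ A' B₁).flip
  have hTC := (CommRingCat.isPushout_tensorProduct R₁ A' C₁).flip
  let dB : CommRingCat.of (A' ⊗[R₁] B₁) ⟶ CommRingCat.of B :=
    hTB.desc (CommRingCat.ofHom ιB) (CommRingCat.ofHom (α.comp A'.val.toRingHom)) (by
      have h0 := sq1.w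
      rw [h0]
      rfl)
  let dC : CommRingCat.of (A' ⊗[R₁] C₁) ⟶ CommRingCat.of C :=
    hTC.desc (CommRingCat.ofHom ιC) (CommRingCat.ofHom ((φ.comp α).comp A'.val.toRingHom)) (by
      have h0 := sq12.w
      rw [h0]
      rfl)
  have sqB : IsPushout
      (CommRingCat.ofHom (Algebra.TensorProduct.includeLeftRingHom : A' →+* A' ⊗[R₁] B₁))
      (CommRingCat.ofHom A'.val.toRingHom) dB (CommRingCat.ofHom α) := by
    refine IsPushout.of_top (h₁₁ := CommRingCat.ofHom (algebraMap R₁ B₁))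
      (v₁₁ := CommRingCat.ofHom (algebraMap R₁ A'))
      (v₁₂ := CommRingCat.ofHom (Algebra.TensorProduct.includeRight :
        B₁ →ₐ[R₁] A' ⊗[R₁] B₁).toRingHom) ?_ ?_ hTB
    · rw [hTB.inl_desc]
      exact sq1
    · exact hTB.inr_desc _ _ _
  have sqC : IsPushout
      (CommRingCat.ofHom (Algebra.TensorProduct.includeLeftRingHom : A' →+* A' ⊗[R₁] C₁))
      (CommRingCat.ofHom A'.val.toRingHom) dC (CommRingCat.ofHom (φ.comp α)) := by
    refine IsPushout.of_top (h₁₁ := CommRingCat.ofHom (algebraMap R₁ C₁))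
      (v₁₁ := CommRingCat.ofHom (algebraMap R₁ A'))
      (v₁₂ := CommRingCat.ofHom (Algebra.TensorProduct.includeRight :
        C₁ →ₐ[R₁] A' ⊗[R₁] C₁).toRingHom) ?_ ?_ hTC
    · rw [hTC.inl_desc]
      exact sq12
    · exact hTC.inr_desc _ _ _
  -- the map `B₂ → C₂`
  let φ₁a : B₁ →ₐ[R₁] C₁ := { φ₁ with commutes' := fun _ => rfl }
  let φ₂ : A' ⊗[R₁] B₁ →+* A' ⊗[R₁] C₁ :=
    (Algebra.TensorProduct.map (AlgHom.id A' A') φ₁a).toRingHom
  have hφ₂L : φ₂.comp (Algebra.TensorProduct.includeLeftRingHom : A' →+* A' ⊗[R₁] B₁) =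
      (Algebra.TensorProduct.includeLeftRingHom : A' →+* A' ⊗[R₁] C₁) := by
    apply RingHom.ext
    intro a
    show (Algebra.TensorProduct.map (AlgHom.id A' A') φ₁a) (a ⊗ₜ[R₁] (1 : B₁)) = a ⊗ₜ[R₁] (1 : C₁)
    rw [Algebra.TensorProduct.map_tmul, map_one]
    rfl
  have hφ₂R : φ₂.comp (Algebra.TensorProduct.includeRight : B₁ →ₐ[R₁] A' ⊗[R₁] B₁).toRingHom =
      ((Algebra.TensorProduct.includeRight : C₁ →ₐ[R₁] A' ⊗[R₁] C₁).toRingHom).comp φ₁ := by
    apply RingHom.ext
    intro b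
    show (Algebra.TensorProduct.map (AlgHom.id A' A') φ₁a) ((1 : A') ⊗ₜ[R₁] b) =
      (1 : A') ⊗ₜ[R₁] φ₁ b
    rw [Algebra.TensorProduct.map_tmul, map_one]
    rfl
  have hL : CommRingCat.ofHom (Algebra.TensorProduct.includeLeftRingHom : A' →+* A' ⊗[R₁] B₁) ≫
      CommRingCat.ofHom φ₂ =
      CommRingCat.ofHom (Algebra.TensorProduct.includeLeftRingHom : A' →+* A' ⊗[R₁] C₁) := by
    rw [← CommRingCat.ofHom_comp, hφ₂L]
  have hR : CommRingCat.ofHom (Algebra.TensorProduct.includeRight :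
        B₁ →ₐ[R₁] A' ⊗[R₁] B₁).toRingHom ≫ CommRingCat.ofHom φ₂ =
      CommRingCat.ofHom φ₁ ≫ CommRingCat.ofHom (Algebra.TensorProduct.includeRight :
        C₁ →ₐ[R₁] A' ⊗[R₁] C₁).toRingHom := by
    rw [← CommRingCat.ofHom_comp, hφ₂R, CommRingCat.ofHom_comp]
  have sqBC : IsPushout (CommRingCat.ofHom φ₂) dB dC (CommRingCat.ofHom φ) := by
    refine IsPushout.of_left (h₁₁ := CommRingCat.ofHom
      (Algebra.TensorProduct.includeLeftRingHom : A' →+* A' ⊗[R₁] B₁)) ?_ ?_ sqB
    · rw [hL]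
      exact sqC
    · apply hTB.hom_ext
      · rw [← Category.assoc, ← Category.assoc, hTB.inl_desc, hR, Category.assoc, hTC.inl_desc]
        exact sq2.w
      · rw [← Category.assoc, ← Category.assoc, hTB.inr_desc, hL, hTC.inr_desc]
        rfl
  refine ⟨A', A' ⊗[R₁] B₁, A' ⊗[R₁] C₁, inferInstance, inferInstance, inferInstance,
    A'.val.toRingHom, dB.hom, dC.hom, Algebra.TensorProduct.includeLeftRingHom, φ₂,
    ?_, ?_, ?_, ?_, ?_, sqB, sqBC⟩
  · exact Algebra.FiniteType.isNoetherianRing A' (A' ⊗[R₁] B₁)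
  · exact (RingHom.flat_algebraMap_iff (R := A') (S := A' ⊗[R₁] B₁)).mpr hflB
  · exact (RingHom.finiteType_algebraMap (A := A') (B := A' ⊗[R₁] B₁)).mpr inferInstance
  · rw [hφ₂L]
    exact (RingHom.flat_algebraMap_iff (R := A') (S := A' ⊗[R₁] C₁)).mpr hflC
  · have h1 : (φ₂.comp (Algebra.TensorProduct.includeLeftRingHom :
        A' →+* A' ⊗[R₁] B₁)).FiniteType := by
      rw [hφ₂L]
      exact (RingHom.finiteType_algebraMap (A := A') (B := A' ⊗[R₁] C₁)).mpr inferInstance
    exact RingHom.FiniteType.of_comp_finiteType h1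

end Flat

end Groth.Agent.Lib.FibKoszul
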