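import Mathlib
import Groth.Agent.Lib.FibKoszul6_helper2
import Groth.Agent.Lib.FibKoszul7_helper2

/-!
# Fibrewise Koszul criterion over a field, general (finitely presented) case (helper2)

`lciAt_of_fibre_hom`: `R → B → C` with `B`, `C` flat of finite presentation over `R`, `K` a field
over `R`; if `B ⊗ K → C ⊗ K` is lci near a prime `qK`, then `B → C` is lci near the contraction of
`qK`.  Pushout form, via Noetherian approximation.
APPEND-ONLY once landed.
-/

set_option autoImplicit false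
universe u

namespace Groth.Agent.Lib.FibKoszul

open TensorProduct CategoryTheory CategoryTheory.Limits

variable {R B C K BK CK : Type u} [CommRing R] [CommRing B] [CommRing C] [CommRing K]
  [CommRing BK] [CommRing CK]

/-- **Fibrewise criterion over a field**, pushout form. -/
theorem lciAt_of_fibre_hom (hK : IsField K) (α : R →+* B) (φ : B →+* C) (κ : R →+* K)
    (βB : B →+* BK) (κB : K →+* BK) (βC : C →+* CK) (φK : BK →+* CK)
    (h1 : IsPushout (CommRingCat.ofHom α) (CommRingCat.ofHom κ) (CommRingCat.ofHom βB)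
      (CommRingCat.ofHom κB))
    (h2 : IsPushout (CommRingCat.ofHom φ) (CommRingCat.ofHom βB) (CommRingCat.ofHom βC)
      (CommRingCat.ofHom φK))
    (hα : α.Flat) (hα' : α.FinitePresentation) (hφα : (φ.comp α).Flat)
    (hφα' : (φ.comp α).FinitePresentation) (qK : Ideal CK) [qK.IsPrime] (h : LciAt φK qK) :
    LciAt φ (qK.comap βC) := by
  obtain ⟨R₂, B₂, C₂, _, _, _, ι, ιB, ιC, α₂, φ₂, hN, hα₂, hα₂', hφα₂, hφ₂', sq1, sq2⟩ :=
    exists_flat_tower_model α φ hα hα' hφα hφα'
  haveI := hN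
  have h1' : IsPushout (CommRingCat.ofHom α₂) (CommRingCat.ofHom (κ.comp ι))
      (CommRingCat.ofHom (βB.comp ιB)) (CommRingCat.ofHom κB) := sq1.paste_vert h1
  have h2' : IsPushout (CommRingCat.ofHom φ₂) (CommRingCat.ofHom (βB.comp ιB))
      (CommRingCat.ofHom (βC.comp ιC)) (CommRingCat.ofHom φK) := sq2.paste_vert h2
  have h3 := lciAt_of_fibre_noeth_hom hK α₂ φ₂ (κ.comp ι) (βB.comp ιB) κB (βC.comp ιC) φK h1' h2'
    hα₂ hα₂' hφα₂ hφ₂' qK h
  haveI : (qK.comap βC).IsPrime := Ideal.comap_isPrime _ _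
  have h4 : (qK.comap βC).comap ιC = qK.comap (βC.comp ιC) := Ideal.comap_comap _ _
  rw [← h4] at h3
  exact lciAt_baseChange_rel α₂ φ₂ ι ιB α ιC φ sq1 sq2 hα₂ hφα₂ (qK.comap βC) h3

end Groth.Agent.Lib.FibKoszul
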