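import Mathlib
import Groth.Prelude.Def_RegImm
import Groth.Agent.Lib.KoszulAtLCI_helper2
import Groth.Agent.Lib.FibKoszul8_helper2
import Groth.Agent.Lib.AffStalk3_helper3

/-!
# Fibrewise criterion for Koszul (lci) points of a morphism of flat, finitely presented schemes:
scheme-level glue (helper2)

For `f : X ⟶ Y` over `S` with `X`, `Y` flat and locally of finite presentation over `S`, the locus
of points where `f` is Koszul commutes with arbitrary base change `S' ⟶ S`.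
-/

set_option autoImplicit false
universe u

namespace Groth.Agent.Lib.FibKoszulSch

open Groth.Agent.Lib.LCIComp Groth.Agent.Lib.SmoothLCI Groth.Agent.Lib.KoszulAtLCI
open Groth.Agent.Lib.FibKoszul
open AlgebraicGeometry CategoryTheory CategoryTheory.Limits TopologicalSpace

lemma appLE_congr_hom {X Y : Scheme.{u}} {m m' : X ⟶ Y} (h : m = m') {V : Y.Opens} {D : X.Opens}
    (e : D ≤ m ⁻¹ᵁ V) (e' : D ≤ m' ⁻¹ᵁ V) : m.appLE V D e = m'.appLE V D e' := by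
  subst h; rfl

/-- shrink to a basic open of a given affine chart -/
theorem exists_basicOpen_isLCIHom {X Y : Scheme.{u}} (f : X ⟶ Y) (x : X)
    (hf : Synt.IsKoszulAt f x)
    {U : X.Opens} {V : Y.Opens} (hU : IsAffineOpen U) (hV : IsAffineOpen V) (hUV : U ≤ f ⁻¹ᵁ V)
    (hxU : x ∈ U) :
    ∃ c : Γ(X, U), x ∈ X.basicOpen c ∧
      IsLCIHom (f.appLE V (X.basicOpen c) ((X.basicOpen_le c).trans hUV)).hom := by
  obtain ⟨U₁, hU₁, hU₁V, hxU₁, hl⟩ := exists_affine_isLCIHom f x hf hV (hUV hxU)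
  obtain ⟨c, hcle, hxc⟩ := hU.exists_basicOpen_le (V := U ⊓ U₁) ⟨x, ⟨hxU, hxU₁⟩⟩ hxU
  refine ⟨c, hxc, ?_⟩
  have hD : IsAffineOpen (X.basicOpen c) := hU.basicOpen c
  have hDU₁ : X.basicOpen c ≤ (𝟙 X) ⁻¹ᵁ U₁ := fun z hz => (hcle hz).2
  have hs : (Scheme.Hom.appLE (𝟙 X) U₁ (X.basicOpen c) hDU₁).hom.Smooth :=
    Scheme.Hom.smooth_appLE (𝟙 X) hU₁ hD hDU₁
  have h2 := isLCIHom_comp _ _ hl (isLCIHom_of_smooth _ hs)
  have hle : X.basicOpen c ≤ (𝟙 X ≫ f) ⁻¹ᵁ V := fun z hz => hU₁V (hDU₁ hz)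
  have heq : (Scheme.Hom.appLE (𝟙 X) U₁ (X.basicOpen c) hDU₁).hom.comp (f.appLE V U₁ hU₁V).hom =
      ((𝟙 X ≫ f).appLE V (X.basicOpen c) hle).hom := by
    rw [← CommRingCat.hom_comp, Scheme.Hom.appLE_comp_appLE]
  rw [heq] at h2
  exact isLCIHom_appLE_congr_hom (Category.id_comp f) _ _ h2

section chart

lemma chart_affine {X S T Y : Scheme.{u}} {f : T ⟶ S} {g : Y ⟶ X} {iX : X ⟶ S} {iY : Y ⟶ T}
    (H : IsPullback g iY iX f) {US : S.Opens} {UT : T.Opens} {UX : X.Opens}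
    (hUS : IsAffineOpen US) (hUT : IsAffineOpen UT) (hUX : IsAffineOpen UX)
    (hUST : UT ≤ f ⁻¹ᵁ US) (hUSX : UX ≤ iX ⁻¹ᵁ US) :
    IsAffineOpen (g ⁻¹ᵁ UX ⊓ iY ⁻¹ᵁ UT) := by
  have : IsAffine _ := hUS
  have : IsAffine _ := hUT
  have : IsAffine _ := hUX
  exact .of_isIso (Scheme.Hom.isPullback_resLE H hUST hUSX rfl).isoPullback.hom

lemma chart_pushout {X S T Y : Scheme.{u}} {f : T ⟶ S} {g : Y ⟶ X} {iX : X ⟶ S} {iY : Y ⟶ T}
    (H : IsPullback g iY iX f) {US : S.Opens} {UT : T.Opens} {UX : X.Opens}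
    (hUS : IsAffineOpen US) (hUT : IsAffineOpen UT) (hUX : IsAffineOpen UX)
    (hUST : UT ≤ f ⁻¹ᵁ US) (hUSX : UX ≤ iX ⁻¹ᵁ US) :
    IsPushout (iX.appLE US UX hUSX) (f.appLE US UT hUST)
      (g.appLE UX (g ⁻¹ᵁ UX ⊓ iY ⁻¹ᵁ UT) inf_le_left)
      (iY.appLE UT (g ⁻¹ᵁ UX ⊓ iY ⁻¹ᵁ UT) inf_le_right) :=
  (isIso_pushoutSection_iff H hUST hUSX rfl).mp
    (isIso_pushoutSection_of_isAffineOpen H hUST hUSX rfl hUS hUT hUX)

variable {X Y S X' Y' S' : Scheme.{u}} {f : X ⟶ Y} {g : Y ⟶ S} {h : S' ⟶ S} {gY : Y' ⟶ Y}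
  {g' : Y' ⟶ S'} {gX : X' ⟶ X} {f' : X' ⟶ Y'}

lemma chart_le (w : gX ≫ f = f' ≫ gY) {W' : S'.Opens} {V : Y.Opens} {U : X.Opens}
    (hUV : U ≤ f ⁻¹ᵁ V) :
    gX ⁻¹ᵁ U ⊓ (f' ≫ g') ⁻¹ᵁ W' ≤ f' ⁻¹ᵁ (gY ⁻¹ᵁ V ⊓ g' ⁻¹ᵁ W') := by
  rintro z ⟨hz1, hz2⟩
  refine ⟨?_, hz2⟩
  show gY (f' z) ∈ V
  have hpt : gY (f' z) = f (gX z) := by
    have := congrArg (fun t => t.base z) w
    exact this.symm
  rw [hpt]
  exact hUV hz1

lemma chart_p2 (hY : IsPullback gY g' g h) (hX : IsPullback gX (f' ≫ g') (f ≫ g) h)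
    (w : gX ≫ f = f' ≫ gY)
    {W : S.Opens} {W' : S'.Opens} {V : Y.Opens} {U : X.Opens}
    (hW : IsAffineOpen W) (hW' : IsAffineOpen W') (hV : IsAffineOpen V) (hU : IsAffineOpen U)
    (hW'W : W' ≤ h ⁻¹ᵁ W) (hVW : V ≤ g ⁻¹ᵁ W) (hUV : U ≤ f ⁻¹ᵁ V)
    (hU'V' : gX ⁻¹ᵁ U ⊓ (f' ≫ g') ⁻¹ᵁ W' ≤ f' ⁻¹ᵁ (gY ⁻¹ᵁ V ⊓ g' ⁻¹ᵁ W')) :
    IsPushout (f.appLE V U hUV) (gY.appLE V (gY ⁻¹ᵁ V ⊓ g' ⁻¹ᵁ W') inf_le_left)
      (gX.appLE U (gX ⁻¹ᵁ U ⊓ (f' ≫ g') ⁻¹ᵁ W') inf_le_left)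
      (f'.appLE (gY ⁻¹ᵁ V ⊓ g' ⁻¹ᵁ W') (gX ⁻¹ᵁ U ⊓ (f' ≫ g') ⁻¹ᵁ W') hU'V') := by
  have hUW : U ≤ (f ≫ g) ⁻¹ᵁ W := fun z hz => hVW (hUV hz)
  have p1 := chart_pushout hY hW hW' hV hW'W hVW
  have pX := chart_pushout hX hW hW' hU hW'W hUW
  have e1 : g.appLE W V hVW ≫ f.appLE V U hUV = (f ≫ g).appLE W U hUW :=
    Scheme.Hom.appLE_comp_appLE _ _ _ _ _ _ _
  have e2 : g'.appLE W' (gY ⁻¹ᵁ V ⊓ g' ⁻¹ᵁ W') inf_le_right ≫
      f'.appLE (gY ⁻¹ᵁ V ⊓ g' ⁻¹ᵁ W') (gX ⁻¹ᵁ U ⊓ (f' ≫ g') ⁻¹ᵁ W') hU'V' =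
      (f' ≫ g').appLE W' (gX ⁻¹ᵁ U ⊓ (f' ≫ g') ⁻¹ᵁ W') inf_le_right :=
    Scheme.Hom.appLE_comp_appLE _ _ _ _ _ _ _
  have pX' : IsPushout (g.appLE W V hVW ≫ f.appLE V U hUV) (h.appLE W W' hW'W)
      (gX.appLE U (gX ⁻¹ᵁ U ⊓ (f' ≫ g') ⁻¹ᵁ W') inf_le_left)
      (g'.appLE W' (gY ⁻¹ᵁ V ⊓ g' ⁻¹ᵁ W') inf_le_right ≫
        f'.appLE (gY ⁻¹ᵁ V ⊓ g' ⁻¹ᵁ W') (gX ⁻¹ᵁ U ⊓ (f' ≫ g') ⁻¹ᵁ W') hU'V') := by
    rw [e1, e2]
    exact pX
  refine IsPushout.of_left pX' ?_ p1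
  rw [Scheme.Hom.appLE_comp_appLE, Scheme.Hom.appLE_comp_appLE]
  exact appLE_congr_hom w _ _

end chart

/-- **Claim A**: Koszul points are preserved by base change. -/
theorem koszulAt_baseChange {X Y S X' Y' S' : Scheme.{u}} (f : X ⟶ Y) (g : Y ⟶ S)
    [Flat (f ≫ g)] [Flat g]
    (h : S' ⟶ S) (gY : Y' ⟶ Y) (g' : Y' ⟶ S') (hY : IsPullback gY g' g h)
    (gX : X' ⟶ X) (f' : X' ⟶ Y') (hX : IsPullback gX (f' ≫ g') (f ≫ g) h)
    (w : gX ≫ f = f' ≫ gY)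
    (x' : X') (hk : Synt.IsKoszulAt f (gX x')) : Synt.IsKoszulAt f' x' := by
  have hpt : h (g' (f' x')) = g (f (gX x')) := by
    have := congrArg (fun t => t.base x') hX.w
    exact this.symm
  obtain ⟨W, hW, hxW, -⟩ := (Opens.isBasis_iff_nbhd.mp S.isBasis_affineOpens)
    (show g (f (gX x')) ∈ (⊤ : S.Opens) from trivial)
  have hs' : g' (f' x') ∈ h ⁻¹ᵁ W := by
    show h (g' (f' x')) ∈ W
    rw [hpt]
    exact hxW
  obtain ⟨W', hW', hs'W', hW'W⟩ := (Opens.isBasis_iff_nbhd.mp S'.isBasis_affineOpens) hs'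
  obtain ⟨V, hV, hyV, hVW⟩ := (Opens.isBasis_iff_nbhd.mp Y.isBasis_affineOpens)
    (show f (gX x') ∈ g ⁻¹ᵁ W from hxW)
  obtain ⟨U, hU, hUV, hxU, hl⟩ := exists_affine_isLCIHom f (gX x') hk hV hyV
  have hUW : U ≤ (f ≫ g) ⁻¹ᵁ W := fun z hz => hVW (hUV hz)
  have hV' := chart_affine hY hW hW' hV hW'W hVW
  have hU' := chart_affine hX hW hW' hU hW'W hUW
  have hU'V' := chart_le (g' := g') (W' := W') w hUV
  have p1 := chart_pushout hY hW hW' hV hW'W hVW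
  have p2 := chart_p2 hY hX w hW hW' hV hU hW'W hVW hUV hU'V'
  have hfl : ((f.appLE V U hUV).hom.comp (g.appLE W V hVW).hom).Flat := by
    rw [← CommRingCat.hom_comp, Scheme.Hom.appLE_comp_appLE]
    exact (f ≫ g).flat_appLE hW hU _
  have hl' := isLCIHom_baseChange_rel (g.appLE W V hVW).hom (f.appLE V U hUV).hom
    (h.appLE W W' hW'W).hom (gY.appLE V _ inf_le_left).hom (g'.appLE W' _ inf_le_right).hom
    (gX.appLE U _ inf_le_left).hom (f'.appLE _ _ hU'V').hom p1 p2 (g.flat_appLE hW hV hVW) hfl hl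
  exact koszulAt_of_isLCIHom f' x' _ _ hU' hV' hU'V' ⟨hxU, hs'W'⟩ hl'

lemma subsingleton_primeSpectrum_of_isField {K : Type u} [CommRing K] (hK : IsField K) :
    Subsingleton (PrimeSpectrum K) := by
  have key : ∀ p : PrimeSpectrum K, p.asIdeal = ⊥ := by
    intro p
    rw [eq_bot_iff]
    intro a ha
    by_contra hne
    obtain ⟨b, hb⟩ := hK.mul_inv_cancel hne
    exact p.isPrime.ne_top (Ideal.eq_top_of_isUnit_mem _ ha (IsUnit.of_mul_eq_one b hb))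
  refine ⟨fun p q => ?_⟩
  ext1
  rw [key p, key q]

/-- **Claim B**: a point whose image in a fibre (over a field) is Koszul is Koszul. -/
theorem koszulAt_of_fibre {X Y S X' Y' : Scheme.{u}} (K : CommRingCat.{u}) (hK0 : IsField K)
    (f : X ⟶ Y) (g : Y ⟶ S)
    [Flat (f ≫ g)] [LocallyOfFinitePresentation (f ≫ g)] [Flat g] [LocallyOfFinitePresentation g]
    (h : Spec K ⟶ S) (gY : Y' ⟶ Y) (g' : Y' ⟶ Spec K) (hY : IsPullback gY g' g h)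
    (gX : X' ⟶ X) (f' : X' ⟶ Y') (hX : IsPullback gX (f' ≫ g') (f ≫ g) h)
    (w : gX ≫ f = f' ≫ gY)
    (x' : X') (hk : Synt.IsKoszulAt f' x') : Synt.IsKoszulAt f (gX x') := by
  have hpt : h (g' (f' x')) = g (f (gX x')) := by
    have := congrArg (fun t => t.base x') hX.w
    exact this.symm
  obtain ⟨W, hW, hxW, -⟩ := (Opens.isBasis_iff_nbhd.mp S.isBasis_affineOpens)
    (show g (f (gX x')) ∈ (⊤ : S.Opens) from trivial)
  obtain ⟨V, hV, hyV, hVW⟩ := (Opens.isBasis_iff_nbhd.mp Y.isBasis_affineOpens)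
    (show f (gX x') ∈ g ⁻¹ᵁ W from hxW)
  obtain ⟨U, hU, hxU, hUV⟩ := (Opens.isBasis_iff_nbhd.mp X.isBasis_affineOpens)
    (show gX x' ∈ f ⁻¹ᵁ V from hyV)
  have hW' : IsAffineOpen (⊤ : (Spec K).Opens) := isAffineOpen_top _
  haveI : Subsingleton (Spec K) := subsingleton_primeSpectrum_of_isField hK0
  have hW'W : (⊤ : (Spec K).Opens) ≤ h ⁻¹ᵁ W := by
    intro s _
    show h s ∈ W
    rw [Subsingleton.elim s (g' (f' x')), hpt]
    exact hxW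
  have hUW : U ≤ (f ≫ g) ⁻¹ᵁ W := fun z hz => hVW (hUV hz)
  have hV' := chart_affine hY hW hW' hV hW'W hVW
  have hU' := chart_affine hX hW hW' hU hW'W hUW
  have hU'V' := chart_le (g' := g') (W' := (⊤ : (Spec K).Opens)) w hUV
  have p1 := chart_pushout hY hW hW' hV hW'W hVW
  have p2 := chart_p2 hY hX w hW hW' hV hU hW'W hVW hUV hU'V'
  have hx'U' : x' ∈ gX ⁻¹ᵁ U ⊓ (f' ≫ g') ⁻¹ᵁ (⊤ : (Spec K).Opens) := ⟨hxU, trivial⟩
  obtain ⟨c', hx'c', hl'⟩ := exists_basicOpen_isLCIHom f' x' hk hU' hV' hU'V' hx'U'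
  haveI hq'prime : (hU'.primeIdealOf ⟨x', hx'U'⟩).asIdeal.IsPrime :=
    (hU'.primeIdealOf ⟨x', hx'U'⟩).isPrime
  have hLci' : LciAt (f'.appLE _ _ hU'V').hom (hU'.primeIdealOf ⟨x', hx'U'⟩).asIdeal := by
    refine ⟨c', (Groth.Agent.Lib.AffStalk_helper3.mem_basicOpen_iff hU' c' ⟨x', hx'U'⟩).mp hx'c',
      Γ(X', X'.basicOpen c'), inferInstance,
      (X'.presheaf.map (homOfLE (X'.basicOpen_le c')).op).hom,
      hU'.isLocalization_of_eq_basicOpen c' (homOfLE (X'.basicOpen_le c')) rfl, ?_⟩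
    have hcomp : (X'.presheaf.map (homOfLE (X'.basicOpen_le c')).op).hom.comp
        (f'.appLE _ _ hU'V').hom =
        (f'.appLE _ (X'.basicOpen c') ((X'.basicOpen_le c').trans hU'V')).hom := by
      rw [← CommRingCat.hom_comp, Scheme.Hom.appLE_map]
    rw [hcomp]
    exact hl'
  have hK : IsField Γ(Spec K, ⊤) :=
    MulEquiv.isField hK0
      (Scheme.ΓSpecIso K).commRingCatIsoToRingEquiv.toMulEquiv
  have hfl : ((f.appLE V U hUV).hom.comp (g.appLE W V hVW).hom).Flat := by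
    rw [← CommRingCat.hom_comp, Scheme.Hom.appLE_comp_appLE]
    exact (f ≫ g).flat_appLE hW hU _
  have hfp : ((f.appLE V U hUV).hom.comp (g.appLE W V hVW).hom).FinitePresentation := by
    rw [← CommRingCat.hom_comp, Scheme.Hom.appLE_comp_appLE]
    exact (f ≫ g).finitePresentation_appLE hW hU _
  have hmain := lciAt_of_fibre_hom hK (g.appLE W V hVW).hom (f.appLE V U hUV).hom
    (h.appLE W ⊤ hW'W).hom (gY.appLE V _ inf_le_left).hom (g'.appLE ⊤ _ inf_le_right).hom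
    (gX.appLE U _ inf_le_left).hom (f'.appLE _ _ hU'V').hom p1 p2 (g.flat_appLE hW hV hVW)
    (g.finitePresentation_appLE hW hV hVW) hfl hfp
    (hU'.primeIdealOf ⟨x', hx'U'⟩).asIdeal hLci'
  have hq : (hU'.primeIdealOf ⟨x', hx'U'⟩).asIdeal.comap (gX.appLE U _ inf_le_left).hom =
      (hU.primeIdealOf ⟨gX x', hxU⟩).asIdeal :=
    congrArg PrimeSpectrum.asIdeal
      (IsAffineOpen.comap_primeIdealOf_appLE U hU _ hU' inf_le_left hx'U')
  rw [hq] at hmain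
  obtain ⟨c, hc, T, _, ρ, hloc, hl⟩ := hmain
  have hxc : gX x' ∈ X.basicOpen c :=
    (Groth.Agent.Lib.AffStalk_helper3.mem_basicOpen_iff hU c ⟨gX x', hxU⟩).mpr hc
  letI algT : Algebra Γ(X, U) T := ρ.toAlgebra
  haveI : IsLocalization.Away c T := hloc
  haveI : IsLocalization.Away c Γ(X, X.basicOpen c) := hU.isLocalization_basicOpen c
  let e : T ≃ₐ[Γ(X, U)] Γ(X, X.basicOpen c) :=
    IsLocalization.algEquiv (Submonoid.powers c) T Γ(X, X.basicOpen c)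
  have he : ((e.toRingEquiv : T ≃+* Γ(X, X.basicOpen c)) : T →+* Γ(X, X.basicOpen c)).comp ρ =
      (X.presheaf.map (homOfLE (X.basicOpen_le c)).op).hom := by
    ext a
    exact e.commutes a
  have hl2 := isLCIHom_comp_equiv (ρ.comp (f.appLE V U hUV).hom) e.toRingEquiv hl
  have heq : ((e.toRingEquiv : T ≃+* Γ(X, X.basicOpen c)) : T →+* Γ(X, X.basicOpen c)).comp
      (ρ.comp (f.appLE V U hUV).hom) =
      (f.appLE V (X.basicOpen c) ((X.basicOpen_le c).trans hUV)).hom := by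
    rw [← RingHom.comp_assoc, he, ← CommRingCat.hom_comp, Scheme.Hom.appLE_map]
  rw [heq] at hl2
  exact koszulAt_of_isLCIHom f (gX x') _ V (hU.basicOpen c) hV _ hxc hl2

/-- **the Koszul locus commutes with arbitrary base change** (flat, finitely presented case). -/
theorem koszulAt_iff_baseChange {X Y S X' Y' S' : Scheme.{u}} (f : X ⟶ Y) (g : Y ⟶ S)
    [Flat (f ≫ g)] [LocallyOfFinitePresentation (f ≫ g)] [Flat g] [LocallyOfFinitePresentation g]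
    (h : S' ⟶ S) (gY : Y' ⟶ Y) (g' : Y' ⟶ S') (hY : IsPullback gY g' g h)
    (gX : X' ⟶ X) (f' : X' ⟶ Y') (hX : IsPullback gX (f' ≫ g') (f ≫ g) h)
    (w : gX ≫ f = f' ≫ gY)
    (x' : X') : Synt.IsKoszulAt f' x' ↔ Synt.IsKoszulAt f (gX x') := by
  refine ⟨fun hk => ?_, koszulAt_baseChange f g h gY g' hY gX f' hX w x'⟩
  haveI : Flat g' := MorphismProperty.of_isPullback (P := @Flat) hY inferInstance
  haveI : Flat (f' ≫ g') := MorphismProperty.of_isPullback (P := @Flat) hX inferInstance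
  let ι := S'.fromSpecResidueField (g' (f' x'))
  obtain ⟨t⟩ : Nonempty (Spec (S'.residueField (g' (f' x')))) :=
    inferInstanceAs (Nonempty (PrimeSpectrum (S'.residueField (g' (f' x')))))
  have hιt : (f' ≫ g') x' = ι t := (Scheme.fromSpecResidueField_apply _ t).symm
  obtain ⟨x'', hx''1, -⟩ := Scheme.Pullback.exists_preimage_pullback x' t hιt
  -- the fibre squares
  let f'' : pullback (f' ≫ g') ι ⟶ pullback g' ι :=
    pullback.lift (pullback.fst (f' ≫ g') ι ≫ f') (pullback.snd (f' ≫ g') ι)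
      (by rw [Category.assoc]; exact pullback.condition)
  have hf''1 : f'' ≫ pullback.fst g' ι = pullback.fst (f' ≫ g') ι ≫ f' := pullback.lift_fst _ _ _
  have hf''2 : f'' ≫ pullback.snd g' ι = pullback.snd (f' ≫ g') ι := pullback.lift_snd _ _ _
  have hY'' : IsPullback (pullback.fst g' ι) (pullback.snd g' ι) g' ι := IsPullback.of_hasPullback _ _
  have hX'' : IsPullback (pullback.fst (f' ≫ g') ι) (f'' ≫ pullback.snd g' ι) (f' ≫ g') ι := by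
    rw [hf''2]
    exact IsPullback.of_hasPullback _ _
  have hk'' : Synt.IsKoszulAt f'' x'' := by
    apply koszulAt_baseChange f' g' ι (pullback.fst g' ι) (pullback.snd g' ι) hY''
      (pullback.fst (f' ≫ g') ι) f'' hX'' hf''1.symm x''
    rw [hx''1]
    exact hk
  have hY2 := hY''.paste_horiz hY
  have hX2 := hX''.paste_horiz hX
  have w2 : (pullback.fst (f' ≫ g') ι ≫ gX) ≫ f = f'' ≫ (pullback.fst g' ι ≫ gY) := by
    rw [Category.assoc, w, ← Category.assoc, ← hf''1, Category.assoc]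
  have hKf : IsField (S'.residueField (g' (f' x'))) :=
    Field.toIsField (S'.residueField (g' (f' x')))
  have key := koszulAt_of_fibre (S'.residueField (g' (f' x'))) hKf f g (ι ≫ h)
    (pullback.fst g' ι ≫ gY) (pullback.snd g' ι) hY2 (pullback.fst (f' ≫ g') ι ≫ gX) f'' hX2 w2
    x'' hk''
  have hpt : (pullback.fst (f' ≫ g') ι ≫ gX) x'' = gX x' := by
    show gX (pullback.fst (f' ≫ g') ι x'') = gX x'
    rw [hx''1]
  rw [hpt] at key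
  exact key

/-- the set of points where some affine chart of `f` is an lci ring map -/
def kset {X Y : Scheme.{u}} (f : X ⟶ Y) : Set X :=
  {x : ↑X | (∃ (U : X.Opens) (V : Y.Opens) (hU : IsAffineOpen U) (hV : IsAffineOpen V)
    (hUV : U ≤ f ⁻¹ᵁ V), x ∈ U ∧ IsLCIHom (f.appLE V U hUV).hom)}

lemma mem_kset_iff {X Y : Scheme.{u}} (f : X ⟶ Y) (x : X) :
    x ∈ kset f ↔ Synt.IsKoszulAt f x := by
  constructor
  · rintro ⟨U, V, hU, hV, hUV, hx, hl⟩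
    exact koszulAt_of_isLCIHom f x U V hU hV hUV hx hl
  · intro hk
    obtain ⟨V, hV, hyV, -⟩ := (Opens.isBasis_iff_nbhd.mp Y.isBasis_affineOpens)
      (show f x ∈ (⊤ : Y.Opens) from trivial)
    obtain ⟨U, hU, hUV, hxU, hl⟩ := exists_affine_isLCIHom f x hk hV hyV
    exact ⟨U, V, hU, hV, hUV, hxU, hl⟩

lemma isOpen_kset {X Y : Scheme.{u}} (f : X ⟶ Y) : IsOpen (kset f) := by
  rw [isOpen_iff_forall_mem_open]
  rintro x ⟨U, V, hU, hV, hUV, hx, hl⟩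
  exact ⟨U, fun z hz => ⟨U, V, hU, hV, hUV, hz, hl⟩, U.isOpen, hx⟩

theorem main1494 {X Y S : Scheme.{u}} (f : X ⟶ Y) (g : Y ⟶ S)
    [Flat (f ≫ g)] [LocallyOfFinitePresentation (f ≫ g)] [Flat g] [LocallyOfFinitePresentation g] :
    IsOpen (kset f) ∧
      ∀ {X' Y' S' : Scheme.{u}} (h : S' ⟶ S) (gY : Y' ⟶ Y) (g' : Y' ⟶ S')
        (hY : IsPullback gY g' g h) (gX : X' ⟶ X) (f' : X' ⟶ Y')
        (hX : IsPullback gX (f' ≫ g') (f ≫ g) h) (w : gX ≫ f = f' ≫ gY),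
        kset f' = gX ⁻¹' kset f := by
  refine ⟨isOpen_kset f, ?_⟩
  intro X' Y' S' h gY g' hY gX f' hX w
  ext x'
  rw [Set.mem_preimage, mem_kset_iff, mem_kset_iff]
  exact koszulAt_iff_baseChange f g h gY g' hY gX f' hX w x'

end Groth.Agent.Lib.FibKoszulSch
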