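import Mathlib
import Groth.Agent.Lib.FlatDesc17_helper8

/-!
# Locally of finite type / finite presentation are fppf local on the source (family form)
-/

namespace Groth.Agent.Lib.FppfFTH6

open TensorProduct Groth.Agent.Lib.FlatDescH8

universe u

section L

attribute [local instance] Algebra.TensorProduct.rightAlgebra

/-- **Ring lemma**: if `B` is flat and finitely presented over `A`, of finite type over `R`, and
`p` is a prime of `A` in the image of `Spec B`, then `R → A_a` is of finite type for some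
`a ∉ p`. -/
theorem exists_away_finiteType {R A B : Type u} [CommRing R] [CommRing A] [CommRing B]
    [Algebra R A] [Algebra A B] [Algebra R B] [IsScalarTower R A B] [Module.Flat A B]
    [Algebra.FinitePresentation A B] [Algebra.FiniteType R B] (p : PrimeSpectrum A)
    (hp : p ∈ Set.range (PrimeSpectrum.comap (algebraMap A B))) :
    ∃ a : A, a ∉ p.asIdeal ∧
      ((algebraMap A (Localization.Away a)).comp (algebraMap R A)).FiniteType := by
  have hopen : IsOpen (Set.range (PrimeSpectrum.comap (algebraMap A B))) :=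
    (PrimeSpectrum.isOpenMap_comap_of_hasGoingDown_of_finitePresentation (R := A) (S := B)
      ).isOpen_range
  obtain ⟨_, ⟨a, rfl⟩, hpa, hsub⟩ :=
    PrimeSpectrum.isTopologicalBasis_basic_opens.exists_subset_of_mem_open hp hopen
  refine ⟨a, hpa, ?_⟩
  -- faithfully flat
  haveI : Module.FaithfullyFlat (Localization.Away a) (Localization.Away a ⊗[A] B) := by
    refine Module.FaithfullyFlat.of_comap_surjective fun p' => ?_
    have hmem : PrimeSpectrum.comap (algebraMap A (Localization.Away a)) p' ∈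
        (PrimeSpectrum.basicOpen a : Set (PrimeSpectrum A)) := by
      show a ∉ (PrimeSpectrum.comap (algebraMap A (Localization.Away a)) p').asIdeal
      intro ha
      have ha' : algebraMap A (Localization.Away a) a ∈ p'.asIdeal := ha
      exact p'.isPrime.ne_top (Ideal.eq_top_of_isUnit_mem _ ha'
        (IsLocalization.Away.algebraMap_isUnit a))
    obtain ⟨q, hq⟩ := hsub hmem
    obtain ⟨P, hP1, -⟩ := exists_prime_tensor A (Localization.Away a) B p' q hq.symm
    exact ⟨P, hP1⟩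
  haveI tw : IsScalarTower R B (Localization.Away a ⊗[A] B) := by
    have h1 : ∀ r : R, algebraMap R (Localization.Away a ⊗[A] B) r =
        algebraMap B (Localization.Away a ⊗[A] B) (algebraMap R B r) := by
      intro r
      rw [Algebra.TensorProduct.algebraMap_apply, Algebra.TensorProduct.right_algebraMap_apply,
        IsScalarTower.algebraMap_apply R A (Localization.Away a),
        IsScalarTower.algebraMap_apply R A B,
        Algebra.algebraMap_eq_smul_one (algebraMap R A r),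
        Algebra.algebraMap_eq_smul_one (algebraMap R A r), smul_tmul]
    exact IsScalarTower.of_algebraMap_eq (R := R) (S := B) (A := Localization.Away a ⊗[A] B) h1
  haveI : Algebra.FinitePresentation B (Localization.Away a ⊗[A] B) := by
    obtain ⟨e, -⟩ : ∃ e : B ⊗[A] Localization.Away a ≃ₐ[B] Localization.Away a ⊗[A] B, True :=
      ⟨AlgEquiv.ofRingEquiv (f := (Algebra.TensorProduct.comm A B (Localization.Away a)).toRingEquiv)
        (fun x => by
          show (Algebra.TensorProduct.comm A B (Localization.Away a)) (x ⊗ₜ 1) = _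
          rw [Algebra.TensorProduct.comm_tmul, Algebra.TensorProduct.right_algebraMap_apply]),
        trivial⟩
    exact Algebra.FinitePresentation.equiv e
  haveI : Algebra.FiniteType B (Localization.Away a ⊗[A] B) := inferInstance
  haveI : Algebra.FiniteType R (Localization.Away a ⊗[A] B) :=
    Algebra.FiniteType.trans (R := R) (S := B) (A := Localization.Away a ⊗[A] B)
      inferInstance inferInstance
  haveI : Algebra.FinitePresentation (Localization.Away a) (Localization.Away a ⊗[A] B) :=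
    inferInstance
  haveI : Algebra.FiniteType R (Localization.Away a) :=
    finiteType_of_faithfullyFlat_fp (R := R) (A := Localization.Away a)
      (B := Localization.Away a ⊗[A] B)
  have := RingHom.finiteType_algebraMap.mpr
    (inferInstance : Algebra.FiniteType R (Localization.Away a))
  rwa [IsScalarTower.algebraMap_eq R A (Localization.Away a)] at this

end L

open AlgebraicGeometry CategoryTheory

/-- **Locally of finite type descends along a jointly surjective fppf family on the source.** -/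
theorem locallyOfFiniteType_of_fppf_family {Y S : Scheme.{u}} (q : Y ⟶ S)
    (H : ∀ y : Y, ∃ (X : Scheme.{u}) (f : X ⟶ Y), y ∈ Set.range f ∧ Flat f ∧
      LocallyOfFinitePresentation f ∧ LocallyOfFiniteType (f ≫ q)) :
    LocallyOfFiniteType q := by
  rw [HasRingHomProperty.iff_appLE (P := @LocallyOfFiniteType)]
  intro U V₀ e₁
  refine RingHom.finiteType_ofLocalizationSpanTarget _
    {a | ((algebraMap _ (Localization.Away a)).comp (q.appLE U.1 V₀.1 e₁).hom).FiniteType}
    ?_ (fun r => r.2)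
  by_contra hne
  obtain ⟨𝔪, h𝔪, hle⟩ := Ideal.exists_le_maximal _ hne
  obtain ⟨p, hp⟩ : ∃ p : PrimeSpectrum Γ(Y, V₀.1), p.asIdeal = 𝔪 := ⟨⟨𝔪, h𝔪.isPrime⟩, rfl⟩
  have hy : V₀.2.fromSpec p ∈ V₀.1 := by
    have : V₀.2.fromSpec p ∈ Set.range V₀.2.fromSpec := ⟨p, rfl⟩
    rw [V₀.2.range_fromSpec] at this
    exact this
  obtain ⟨X, f, ⟨x, hx⟩, hflat, hlfp, hcomp⟩ := H (V₀.2.fromSpec p)
  obtain ⟨W, hW, hxW, e₂⟩ := TopologicalSpace.Opens.isBasis_iff_nbhd.mp X.isBasis_affineOpens
    (show x ∈ f ⁻¹ᵁ V₀.1 from by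
      show f x ∈ V₀.1
      rw [hx]; exact hy)
  have hcomap := IsAffineOpen.comap_primeIdealOf_appLE (f := f) V₀.1 V₀.2 W hW e₂ hxW
  have hpeq : V₀.2.primeIdealOf ⟨f x, e₂ hxW⟩ = p := by
    have h1 : V₀.2.fromSpec (V₀.2.primeIdealOf ⟨f x, e₂ hxW⟩) = V₀.2.fromSpec p := by
      rw [V₀.2.fromSpec_primeIdealOf]
      exact hx
    exact V₀.2.fromSpec.isOpenEmbedding.injective h1
  rw [hpeq] at hcomap
  letI algRA : Algebra Γ(S, U.1) Γ(Y, V₀.1) := (q.appLE U.1 V₀.1 e₁).hom.toAlgebra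
  letI algAB : Algebra Γ(Y, V₀.1) Γ(X, W) := (f.appLE V₀.1 W e₂).hom.toAlgebra
  letI algRB : Algebra Γ(S, U.1) Γ(X, W) :=
    ((f.appLE V₀.1 W e₂).hom.comp (q.appLE U.1 V₀.1 e₁).hom).toAlgebra
  haveI : IsScalarTower Γ(S, U.1) Γ(Y, V₀.1) Γ(X, W) :=
    IsScalarTower.of_algebraMap_eq (fun _ => rfl)
  haveI : Module.Flat Γ(Y, V₀.1) Γ(X, W) :=
    HasRingHomProperty.appLE @Flat f hflat V₀ ⟨W, hW⟩ e₂
  haveI : Algebra.FinitePresentation Γ(Y, V₀.1) Γ(X, W) :=
    HasRingHomProperty.appLE @LocallyOfFinitePresentation f hlfp V₀ ⟨W, hW⟩ e₂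
  haveI : Algebra.FiniteType Γ(S, U.1) Γ(X, W) := by
    have h := HasRingHomProperty.appLE @LocallyOfFiniteType (f ≫ q) hcomp U
      ⟨W, hW⟩ (e₂.trans ((TopologicalSpace.Opens.map f.base).map (homOfLE e₁)).le)
    rw [← Scheme.Hom.appLE_comp_appLE f q U.1 V₀.1 W e₁ e₂] at h
    exact h
  obtain ⟨a, ha, hfp⟩ := exists_away_finiteType (R := Γ(S, U.1)) (A := Γ(Y, V₀.1))
    (B := Γ(X, W)) p ⟨hW.primeIdealOf ⟨x, hxW⟩, hcomap⟩
  apply ha
  rw [hp]
  exact hle (Ideal.subset_span hfp)

/-- **Locally of finite presentation descends along a jointly surjective fppf family on the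
source.** -/
theorem locallyOfFinitePresentation_of_fppf_family {Y S : Scheme.{u}} (q : Y ⟶ S)
    (H : ∀ y : Y, ∃ (X : Scheme.{u}) (f : X ⟶ Y), y ∈ Set.range f ∧ Flat f ∧
      LocallyOfFinitePresentation f ∧ LocallyOfFinitePresentation (f ≫ q)) :
    LocallyOfFinitePresentation q := by
  rw [HasRingHomProperty.iff_appLE (P := @LocallyOfFinitePresentation)]
  intro U V₀ e₁
  refine RingHom.finitePresentation_ofLocalizationSpanTarget _
    {a | ((algebraMap _ (Localization.Away a)).comp (q.appLE U.1 V₀.1 e₁).hom).FinitePresentation}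
    ?_ (fun r => r.2)
  by_contra hne
  obtain ⟨𝔪, h𝔪, hle⟩ := Ideal.exists_le_maximal _ hne
  obtain ⟨p, hp⟩ : ∃ p : PrimeSpectrum Γ(Y, V₀.1), p.asIdeal = 𝔪 := ⟨⟨𝔪, h𝔪.isPrime⟩, rfl⟩
  have hy : V₀.2.fromSpec p ∈ V₀.1 := by
    have : V₀.2.fromSpec p ∈ Set.range V₀.2.fromSpec := ⟨p, rfl⟩
    rw [V₀.2.range_fromSpec] at this
    exact this
  obtain ⟨X, f, ⟨x, hx⟩, hflat, hlfp, hcomp⟩ := H (V₀.2.fromSpec p)
  obtain ⟨W, hW, hxW, e₂⟩ := TopologicalSpace.Opens.isBasis_iff_nbhd.mp X.isBasis_affineOpens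
    (show x ∈ f ⁻¹ᵁ V₀.1 from by
      show f x ∈ V₀.1
      rw [hx]; exact hy)
  have hcomap := IsAffineOpen.comap_primeIdealOf_appLE (f := f) V₀.1 V₀.2 W hW e₂ hxW
  have hpeq : V₀.2.primeIdealOf ⟨f x, e₂ hxW⟩ = p := by
    have h1 : V₀.2.fromSpec (V₀.2.primeIdealOf ⟨f x, e₂ hxW⟩) = V₀.2.fromSpec p := by
      rw [V₀.2.fromSpec_primeIdealOf]
      exact hx
    exact V₀.2.fromSpec.isOpenEmbedding.injective h1
  rw [hpeq] at hcomap
  letI algRA : Algebra Γ(S, U.1) Γ(Y, V₀.1) := (q.appLE U.1 V₀.1 e₁).hom.toAlgebra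
  letI algAB : Algebra Γ(Y, V₀.1) Γ(X, W) := (f.appLE V₀.1 W e₂).hom.toAlgebra
  letI algRB : Algebra Γ(S, U.1) Γ(X, W) :=
    ((f.appLE V₀.1 W e₂).hom.comp (q.appLE U.1 V₀.1 e₁).hom).toAlgebra
  haveI : IsScalarTower Γ(S, U.1) Γ(Y, V₀.1) Γ(X, W) :=
    IsScalarTower.of_algebraMap_eq (fun _ => rfl)
  haveI : Module.Flat Γ(Y, V₀.1) Γ(X, W) :=
    HasRingHomProperty.appLE @Flat f hflat V₀ ⟨W, hW⟩ e₂
  haveI : Algebra.FinitePresentation Γ(Y, V₀.1) Γ(X, W) :=
    HasRingHomProperty.appLE @LocallyOfFinitePresentation f hlfp V₀ ⟨W, hW⟩ e₂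
  haveI : Algebra.FinitePresentation Γ(S, U.1) Γ(X, W) := by
    have h := HasRingHomProperty.appLE @LocallyOfFinitePresentation (f ≫ q) hcomp U
      ⟨W, hW⟩ (e₂.trans ((TopologicalSpace.Opens.map f.base).map (homOfLE e₁)).le)
    rw [← Scheme.Hom.appLE_comp_appLE f q U.1 V₀.1 W e₁ e₂] at h
    exact h
  obtain ⟨a, ha, hfp⟩ := exists_away_finitePresentation (R := Γ(S, U.1)) (A := Γ(Y, V₀.1))
    (B := Γ(X, W)) p ⟨hW.primeIdealOf ⟨x, hxW⟩, hcomap⟩
  apply ha
  rw [hp]
  exact hle (Ideal.subset_span hfp)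

end Groth.Agent.Lib.FppfFTH6
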