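import Mathlib
import Groth.Prelude.Def_CAlg
import Groth.Prelude.Def_Found
import Groth.Prelude.Def_EGA4b
import Groth.Agent.Lib.Catenary_helper5

/-!
# Equidimensional catenary Noetherian local rings (helper5)

`ht P + dim A/P = dim A` for every prime of an equidimensional catenary Noetherian local ring;
Krull's principal ideal theorem in covering form; codimension inequalities along `V(t)`.
-/

set_option autoImplicit false
universe u

namespace Groth.Agent.EquidimCat

open Groth.Agent.Hartshorne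

section General

variable {R : Type u} [CommRing R]

theorem ringKrullDim_quotient_eq_coheight' (p : Ideal R) [hp : p.IsPrime] :
    ringKrullDim (R ⧸ p) = ((Order.coheight (⟨p, hp⟩ : PrimeSpectrum R) : ℕ∞) : WithBot ℕ∞) := by
  rw [ringKrullDim_quotient, Order.coheight_eq_krullDim_Ici]
  have h1 : PrimeSpectrum.zeroLocus (p : Set R) = Set.Ici (⟨p, hp⟩ : PrimeSpectrum R) := by
    ext y
    rw [PrimeSpectrum.mem_zeroLocus, SetLike.coe_subset_coe, Set.mem_Ici]
    rfl
  rw [h1]

theorem wellFoundedGT_primeSpectrum [IsNoetherianRing R] : WellFoundedGT (PrimeSpectrum R) :=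
  StrictMono.wellFoundedGT (f := fun p : PrimeSpectrum R => p.asIdeal)
    (fun p q h => (PrimeSpectrum.asIdeal_lt_asIdeal p q).2 h)

/-- Krull's principal ideal theorem, covering form: a minimal prime of `p + (t)` covers `p`. -/
theorem covBy_of_mem_minimalPrimes [IsNoetherianRing R] (p q : PrimeSpectrum R) (t : R)
    (ht : t ∉ p.asIdeal) (hq : q.asIdeal ∈ (p.asIdeal ⊔ Ideal.span {t}).minimalPrimes) :
    p ⋖ q := by
  have hpq : p.asIdeal ≤ q.asIdeal := le_sup_left.trans hq.1.2
  have htq : t ∈ q.asIdeal := hq.1.2 (Ideal.mem_sup_right (Ideal.subset_span rfl))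
  have hlt : p < q := by
    refine lt_of_le_of_ne hpq (fun h => ht ?_)
    rw [h]; exact htq
  refine ⟨hlt, fun r hpr hrq => ?_⟩
  have hpr' : p.asIdeal ≤ r.asIdeal := hpr.le
  have hrq' : r.asIdeal ≤ q.asIdeal := hrq.le
  let f := Ideal.Quotient.mk p.asIdeal
  have hf : Function.Surjective f := Ideal.Quotient.mk_surjective
  have hker : RingHom.ker f = p.asIdeal := Ideal.mk_ker
  haveI hQ : (q.asIdeal.map f).IsPrime :=
    Ideal.map_isPrime_of_surjective hf (by rw [hker]; exact hpq)
  haveI hR : (r.asIdeal.map f).IsPrime :=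
    Ideal.map_isPrime_of_surjective hf (by rw [hker]; exact hpr')
  have hcm : ∀ I : Ideal R, p.asIdeal ≤ I → (I.map f).comap f = I := by
    intro I hI
    rw [Ideal.comap_map_of_surjective f hf, ← RingHom.ker_eq_comap_bot, hker, sup_eq_left]
    exact hI
  have hRQ : r.asIdeal.map f < q.asIdeal.map f := by
    refine lt_of_le_of_ne (Ideal.map_mono hrq') (fun h => ?_)
    have := congrArg (Ideal.comap f) h
    rw [hcm _ hpr', hcm _ hpq] at this
    exact hrq.ne (PrimeSpectrum.ext this)
  have hbot : (⊥ : Ideal (R ⧸ p.asIdeal)) < r.asIdeal.map f := by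
    refine lt_of_le_of_ne bot_le (fun h => ?_)
    have := congrArg (Ideal.comap f) h
    rw [hcm _ hpr', ← RingHom.ker_eq_comap_bot, hker] at this
    exact hpr.ne (PrimeSpectrum.ext this)
  haveI : (⊥ : Ideal (R ⧸ p.asIdeal)).IsPrime := Ideal.isPrime_bot
  have h1 := Ideal.height_add_one_le_of_lt_of_isPrime hbot
  have h2 := Ideal.height_add_one_le_of_lt_of_isPrime hRQ
  have hmin : q.asIdeal.map f ∈ (Ideal.span {f t}).minimalPrimes := by
    refine ⟨⟨hQ, ?_⟩, ?_⟩
    · rw [Ideal.span_le, Set.singleton_subset_iff]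
      exact Ideal.mem_map_of_mem f htq
    · rintro P' ⟨hP'prime, hP'le⟩ hP'Q
      have h3 : p.asIdeal ⊔ Ideal.span {t} ≤ P'.comap f := by
        rw [sup_le_iff]
        constructor
        · have h0 : RingHom.ker f ≤ P'.comap f := by
            rw [RingHom.ker_eq_comap_bot]
            exact Ideal.comap_mono bot_le
          rwa [hker] at h0
        · rw [Ideal.span_le, Set.singleton_subset_iff]
          exact hP'le (Ideal.subset_span rfl)
      have h4 : P'.comap f ≤ q.asIdeal := by
        have := Ideal.comap_mono (f := f) hP'Q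
        rwa [hcm _ hpq] at this
      have h5 := hq.2 ⟨Ideal.comap_isPrime f P', h3⟩ h4
      calc q.asIdeal.map f ≤ (P'.comap f).map f := Ideal.map_mono h5
        _ = P' := Ideal.map_comap_of_surjective f hf P'
  have h6 := Ideal.height_le_one_of_isPrincipal_of_mem_minimalPrimes (Ideal.span {f t}) _ hmin
  have h7 : (2 : ℕ∞) ≤ 1 := by
    calc (2 : ℕ∞) = 0 + 1 + 1 := by norm_num
      _ ≤ (⊥ : Ideal (R ⧸ p.asIdeal)).height + 1 + 1 := by gcongr; exact bot_le
      _ ≤ (r.asIdeal.map f).height + 1 := by gcongr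
      _ ≤ (q.asIdeal.map f).height := h2
      _ ≤ 1 := h6
  exact absurd h7 (by norm_num)

end General

section Local

variable {A : Type u} [CommRing A] [IsLocalRing A] [IsNoetherianRing A]

/-- catenary: the coheight of a smaller prime is at most coheight plus height -/
theorem coheight_le_coheight_add_height (hc : CAlg.IsCatenary A) :
    ∀ (n : ℕ) (P₀ P : PrimeSpectrum A), P₀ ≤ P → P.asIdeal.height = n →
      Order.coheight P₀ ≤ Order.coheight P + n := by
  haveI := wellFoundedGT_primeSpectrum (R := A)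
  intro n
  induction n using Nat.strong_induction_on with
  | _ n ih =>
    intro P₀ P hle hht
    rcases eq_or_lt_of_le hle with rfl | hlt
    · exact le_self_add
    · obtain ⟨Q, hQ0, hQP⟩ := exists_le_covBy_of_lt hlt
      have h1 : Q.asIdeal.height + 1 ≤ P.asIdeal.height :=
        Ideal.height_add_one_le_of_lt_of_isPrime
          ((PrimeSpectrum.asIdeal_lt_asIdeal Q P).2 hQP.lt)
      have hQfin : Q.asIdeal.height ≠ ⊤ := Ideal.height_ne_top_of_isPrime
      obtain ⟨m, hm⟩ := ENat.ne_top_iff_exists.1 hQfin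
      rw [← hm, hht] at h1
      have hmn : m < n := by
        have : ((m + 1 : ℕ) : ℕ∞) ≤ (n : ℕ∞) := by push_cast; exact h1
        have := Nat.cast_le.1 this
        omega
      have h2 := ih m hmn P₀ Q hQ0 hm.symm
      rw [coheight_eq_of_covBy hc Q P hQP] at h2
      calc Order.coheight P₀ ≤ Order.coheight P + 1 + m := h2
        _ = Order.coheight P + ((1 + m : ℕ) : ℕ∞) := by push_cast; rw [add_assoc]
        _ ≤ Order.coheight P + (n : ℕ∞) := by
          gcongr
          exact_mod_cast (by omega : 1 + m ≤ n)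

/-- **`ht P + dim A/P = dim A`** in an equidimensional catenary Noetherian local ring -/
theorem height_add_coheight (hc : CAlg.IsCatenary A) (he : EGA4.IsEquidim A)
    (P : PrimeSpectrum A) :
    ((P.asIdeal.height + Order.coheight P : ℕ∞) : WithBot ℕ∞) = ringKrullDim A := by
  apply le_antisymm
  · rw [ringKrullDim, Order.krullDim_eq_iSup_height_add_coheight_of_nonempty, WithBot.coe_le_coe,
      PrimeSpectrum.height_eq_orderHeight]
    exact le_iSup (fun a : PrimeSpectrum A => Order.height a + Order.coheight a) P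
  · obtain ⟨p₀, hp₀, hle⟩ := Ideal.exists_minimalPrimes_le (bot_le : (⊥ : Ideal A) ≤ P.asIdeal)
    haveI hp₀' : p₀.IsPrime := hp₀.1.1
    have h1 := he p₀ hp₀
    rw [← h1, ringKrullDim_quotient_eq_coheight, WithBot.coe_le_coe]
    have hfin : P.asIdeal.height ≠ ⊤ := Ideal.height_ne_top_of_isPrime
    obtain ⟨n, hn⟩ := ENat.ne_top_iff_exists.1 hfin
    have := coheight_le_coheight_add_height hc n ⟨p₀, hp₀'⟩ P hle hn.symm
    rw [← hn, add_comm]
    exact this

end Local

section Codim

variable {A : Type u} [CommRing A] [IsLocalRing A] [IsNoetherianRing A]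

theorem mem_maximalIdeal_of_dim (t : A)
    (ht : ringKrullDim (A ⧸ Ideal.span {t}) + 1 = ringKrullDim A) :
    t ∈ IsLocalRing.maximalIdeal A := by
  by_contra h
  have hu : IsUnit t := by
    by_contra hnu
    exact h ((IsLocalRing.mem_maximalIdeal t).2 hnu)
  have htop : Ideal.span {t} = ⊤ := Ideal.span_singleton_eq_top.2 hu
  haveI : Subsingleton (A ⧸ Ideal.span {t}) := by
    rw [htop]
    exact Ideal.Quotient.subsingleton_iff.2 rfl
  rw [ringKrullDim_eq_bot_of_subsingleton, WithBot.bot_add] at ht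
  exact absurd ht.symm (ne_of_gt (lt_of_lt_of_le (WithBot.bot_lt_coe 0) ringKrullDim_nonneg_of_nontrivial))

/-- in `B = A/t`: `ht_B(p̄) + dim A/p + 1 ≤ dim A` for `p ∋ t` -/
theorem height_map_add_coheight_add_one_le (t : A)
    (ht : ringKrullDim (A ⧸ Ideal.span {t}) + 1 = ringKrullDim A)
    (p : PrimeSpectrum A) (htp : t ∈ p.asIdeal) :
    (((p.asIdeal.map (Ideal.Quotient.mk (Ideal.span {t}))).height + Order.coheight p + 1 : ℕ∞) :
      WithBot ℕ∞) ≤ ringKrullDim A := by
  set B := A ⧸ Ideal.span {t} with hB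
  have hle : Ideal.span {t} ≤ p.asIdeal := by
    rw [Ideal.span_le, Set.singleton_subset_iff]; exact htp
  haveI hP : (p.asIdeal.map (Ideal.Quotient.mk (Ideal.span {t}))).IsPrime :=
    Ideal.map_isPrime_of_surjective Ideal.Quotient.mk_surjective (by rw [Ideal.mk_ker]; exact hle)
  set P : PrimeSpectrum B := ⟨p.asIdeal.map (Ideal.Quotient.mk (Ideal.span {t})), hP⟩ with hPdef
  have h1 : ((Order.height P + Order.coheight P : ℕ∞) : WithBot ℕ∞) ≤ ringKrullDim B := by
    haveI : Nonempty (PrimeSpectrum B) := ⟨P⟩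
    rw [ringKrullDim, Order.krullDim_eq_iSup_height_add_coheight_of_nonempty, WithBot.coe_le_coe]
    exact le_iSup (fun a : PrimeSpectrum B => Order.height a + Order.coheight a) P
  have h2 : Order.coheight P = Order.coheight p := by
    have e1 : ringKrullDim (B ⧸ P.asIdeal) = ringKrullDim (A ⧸ p.asIdeal) := by
      have e := (DoubleQuot.quotQuotEquivQuotSup (Ideal.span {t}) p.asIdeal).trans
        (Ideal.quotEquivOfEq (sup_eq_right.2 hle))
      exact ringKrullDim_eq_of_ringEquiv e
    rw [ringKrullDim_quotient_eq_coheight' P.asIdeal, ringKrullDim_quotient_eq_coheight' p.asIdeal]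
      at e1
    exact_mod_cast e1
  rw [← ht]
  rw [← PrimeSpectrum.height_eq_orderHeight, h2] at h1
  have h3 := add_le_add_left h1 (1 : WithBot ℕ∞)
  refine le_trans ?_ h3
  push_cast
  exact le_rfl

theorem codim_inequalities (hA : EGA4.IsEquidim A) (hA' : CAlg.IsCatenary A) (t : A)
    (ht : ringKrullDim (A ⧸ Ideal.span {t}) + 1 = ringKrullDim A) (Z : Set (PrimeSpectrum A))
    (hZ : StableUnderSpecialization Z) :
    (⨅ p ∈ {p ∈ Z | t ∈ p.asIdeal}, (p.asIdeal.map (Ideal.Quotient.mk (Ideal.span {t}))).height) ≤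
        ⨅ p ∈ Z, p.asIdeal.height ∧
      (⨅ p ∈ Z, p.asIdeal.height) ≤ ⨅ p ∈ {p ∈ Z | t ∉ p.asIdeal}, p.asIdeal.height := by
  have htm := mem_maximalIdeal_of_dim t ht
  -- the dimension is a natural number
  obtain ⟨d, hd⟩ : ∃ d : ℕ, ringKrullDim A = d := by
    have h1 : ringKrullDim A ≠ ⊤ := ne_of_lt ringKrullDim_lt_top
    have h2 : ringKrullDim A ≠ ⊥ := ne_of_gt
      (lt_of_lt_of_le (WithBot.bot_lt_coe 0) ringKrullDim_nonneg_of_nontrivial)
    obtain ⟨x, hx⟩ := WithBot.ne_bot_iff_exists.1 h2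
    have hx' : x ≠ ⊤ := by
      rintro rfl
      exact h1 hx.symm
    obtain ⟨n, hn⟩ := ENat.ne_top_iff_exists.1 hx'
    exact ⟨n, by rw [← hx, ← hn]; rfl⟩
  constructor
  · refine le_iInf₂ fun p hp => ?_
    have hLp := height_add_coheight hA' hA p
    rw [hd] at hLp
    have hLp' : p.asIdeal.height + Order.coheight p = (d : ℕ∞) := by exact_mod_cast hLp
    have hcfin : Order.coheight p ≠ ⊤ := coheight_ne_top p
    have hhfin : p.asIdeal.height ≠ ⊤ := Ideal.height_ne_top_of_isPrime
    by_cases htp : t ∈ p.asIdeal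
    · refine iInf₂_le_of_le p ⟨hp, htp⟩ ?_
      have h1 := height_map_add_coheight_add_one_le t ht p htp
      rw [hd] at h1
      have h1' : (p.asIdeal.map (Ideal.Quotient.mk (Ideal.span {t}))).height +
          Order.coheight p + 1 ≤ (d : ℕ∞) := by exact_mod_cast h1
      rw [← hLp'] at h1'
      -- cancel
      obtain ⟨c, hc⟩ := ENat.ne_top_iff_exists.1 hcfin
      obtain ⟨h, hh⟩ := ENat.ne_top_iff_exists.1 hhfin
      rw [← hc, ← hh] at h1'
      rw [← hh]
      have hbfin : (p.asIdeal.map (Ideal.Quotient.mk (Ideal.span {t}))).height ≠ ⊤ := by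
        intro htop
        rw [htop, top_add, top_add] at h1'
        exact absurd h1' (by simp)
      obtain ⟨b, hb⟩ := ENat.ne_top_iff_exists.1 hbfin
      rw [← hb] at h1' ⊢
      have : b + c + 1 ≤ h + c := by exact_mod_cast h1'
      exact_mod_cast (by omega : b ≤ h)
    · have hsup : p.asIdeal ⊔ Ideal.span {t} ≤ IsLocalRing.maximalIdeal A := by
        rw [sup_le_iff, Ideal.span_le, Set.singleton_subset_iff]
        exact ⟨IsLocalRing.le_maximalIdeal p.2.ne_top, htm⟩
      obtain ⟨q, hq, -⟩ := Ideal.exists_minimalPrimes_le hsup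
      haveI hqp : q.IsPrime := hq.1.1
      set Q : PrimeSpectrum A := ⟨q, hqp⟩ with hQ
      have hcov : p ⋖ Q := covBy_of_mem_minimalPrimes p Q t htp hq
      have htq : t ∈ Q.asIdeal := hq.1.2 (Ideal.mem_sup_right (Ideal.subset_span rfl))
      have hQZ : Q ∈ Z := hZ ((PrimeSpectrum.le_iff_specializes p Q).1 hcov.le) hp
      refine iInf₂_le_of_le Q ⟨hQZ, htq⟩ ?_
      have hco := coheight_eq_of_covBy hA' p Q hcov
      have h1 := height_map_add_coheight_add_one_le t ht Q htq
      rw [hd] at h1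
      have h1' : (Q.asIdeal.map (Ideal.Quotient.mk (Ideal.span {t}))).height +
          Order.coheight Q + 1 ≤ (d : ℕ∞) := by exact_mod_cast h1
      rw [← hLp', hco] at h1'
      have hcQfin : Order.coheight Q ≠ ⊤ := coheight_ne_top Q
      obtain ⟨c, hc⟩ := ENat.ne_top_iff_exists.1 hcQfin
      obtain ⟨h, hh⟩ := ENat.ne_top_iff_exists.1 hhfin
      rw [← hc, ← hh] at h1'
      rw [← hh]
      have hbfin : (Q.asIdeal.map (Ideal.Quotient.mk (Ideal.span {t}))).height ≠ ⊤ := by
        intro htop
        rw [htop, top_add, top_add] at h1'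
        exact absurd h1' (by simp)
      obtain ⟨b, hb⟩ := ENat.ne_top_iff_exists.1 hbfin
      rw [← hb] at h1' ⊢
      have : b + c + 1 ≤ h + (c + 1) := by exact_mod_cast h1'
      exact_mod_cast (by omega : b ≤ h)
  · exact le_iInf₂ fun p hp => iInf₂_le p hp.1

end Codim

end Groth.Agent.EquidimCat
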