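import Mathlib
import Groth.Agent.Lib.EquidimCat_helper5
import Groth.Agent.Lib.FlatCM4_helper9

/-!
# Equidimensional catenary local rings: the covering characterization and flat descent (helper9)

* `CovAdd A`: for every covering pair of primes `p ⋖ q`, `ht q = ht p + 1`.
* `isCatenary_of_covAdd`, `isEquidim_of_covAdd`, `covAdd_of_isEquidim_isCatenary`:
  a Noetherian local ring is equidimensional and catenary iff `CovAdd`.
* `covAdd_descent`: `CovAdd` descends along flat local homomorphisms (EGA IV 7.1.3).
APPEND-ONLY once landed.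
-/

set_option autoImplicit false
universe u

namespace Groth.Agent.EquiCat9

open IsLocalRing Groth.Agent.FlatCM

/-- heights are additive along covering pairs of primes -/
def CovAdd (A : Type u) [CommRing A] : Prop :=
  ∀ p q : PrimeSpectrum A, p ⋖ q → q.asIdeal.height = p.asIdeal.height + 1

section General

variable {A : Type u} [CommRing A]

theorem height_series (h : CovAdd A) (s : LTSeries (PrimeSpectrum A))
    (hs : ∀ i : Fin s.length, s (Fin.castSucc i) ⋖ s (Fin.succ i)) (i : Fin (s.length + 1)) :
    (s i).asIdeal.height = (s 0).asIdeal.height + ((i : ℕ) : ℕ∞) := by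
  induction i using Fin.induction with
  | zero => simp
  | succ i ih =>
    rw [h _ _ (hs i), ih, Fin.val_succ, Fin.val_castSucc]
    push_cast
    rw [add_assoc]

theorem height_last (h : CovAdd A) (s : LTSeries (PrimeSpectrum A))
    (hs : ∀ i : Fin s.length, s (Fin.castSucc i) ⋖ s (Fin.succ i)) :
    s.last.asIdeal.height = s.head.asIdeal.height + (s.length : ℕ∞) := by
  have := height_series h s hs (Fin.last _)
  simpa [RelSeries.last, RelSeries.head] using this

variable [IsNoetherianRing A]

theorem isCatenary_of_covAdd (h : CovAdd A) : CAlg.IsCatenary A := by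
  refine ⟨fun p q _ => ⟨q.asIdeal.height.toNat, fun s _ hq => ?_⟩, fun s t hh hl hs ht => ?_⟩
  · have h1 : (s.length : ℕ∞) ≤ Order.height s.last := Order.length_le_height_last
    rw [hq, ← PrimeSpectrum.height_eq_orderHeight] at h1
    have hfin : q.asIdeal.height ≠ ⊤ := Ideal.height_ne_top_of_isPrime
    have := ENat.toNat_le_toNat h1 hfin
    rwa [ENat.toNat_natCast] at this
  · have h1 := height_last h s hs
    have h2 := height_last h t ht
    rw [hl, hh, h2] at h1
    have hfin : t.head.asIdeal.height ≠ ⊤ := Ideal.height_ne_top_of_isPrime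
    have := (ENat.add_right_injective_of_ne_top hfin) h1
    exact_mod_cast this.symm

end General

section Local

variable {A : Type u} [CommRing A] [IsLocalRing A] [IsNoetherianRing A]

theorem isEquidim_of_covAdd (h : CovAdd A) : EGA4.IsEquidim A := by
  intro p hp
  haveI hpp : p.IsPrime := hp.1.1
  rw [Groth.Agent.Hartshorne.ringKrullDim_quotient_eq_coheight]
  obtain ⟨t, hthead, htlast, htlen, htsat⟩ :=
    Groth.Agent.Hartshorne.exists_saturated_series (⟨p, hpp⟩ : PrimeSpectrum A)
      (Groth.Agent.Hartshorne.coheight_ne_top _)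
  have h1 := height_last h t htsat
  rw [hthead, htlast] at h1
  have h0 : p.height = 0 := Ideal.height_eq_zero_iff.2 hp |>.trans rfl
  have h2 : (⊤ : PrimeSpectrum A).asIdeal.height = (t.length : ℕ∞) := by
    rw [h1]
    show p.height + _ = _
    rw [h0, zero_add]
  rw [← htlen, ← h2, PrimeSpectrum.asIdeal_top, IsLocalRing.maximalIdeal_height_eq_ringKrullDim]

theorem covAdd_of_isEquidim_isCatenary (he : EGA4.IsEquidim A) (hc : CAlg.IsCatenary A) :
    CovAdd A := by
  intro p q hpq
  have h1 := Groth.Agent.EquidimCat.height_add_coheight hc he p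
  have h2 := Groth.Agent.EquidimCat.height_add_coheight hc he q
  rw [← h2, WithBot.coe_inj, Groth.Agent.Hartshorne.coheight_eq_of_covBy hc p q hpq] at h1
  have hfin : Order.coheight q ≠ ⊤ := Groth.Agent.Hartshorne.coheight_ne_top q
  have h3 : (p.asIdeal.height + 1) + Order.coheight q = q.asIdeal.height + Order.coheight q := by
    rw [← h1]; ring
  exact ((ENat.add_left_injective_of_ne_top hfin) h3).symm

end Local

section Descent

open Groth.Agent.DepthLib

variable (A A' : Type u) [CommRing A] [CommRing A'] [IsNoetherianRing A] [IsNoetherianRing A']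
  [Algebra A A'] [Module.Flat A A']

/-- height of a minimal prime over `pA'` equals `ht p` (flat case) -/
theorem height_eq_of_mem_minimalPrimes_map (p : Ideal A) [p.IsPrime] (P : Ideal A')
    (hP : P ∈ (p.map (algebraMap A A')).minimalPrimes) : P.height = p.height := by
  haveI : P.IsPrime := hP.1.1
  have hlo := liesOver_of_mem_minimalPrimes_map A A' p P hP
  have hPp : P.comap (algebraMap A A') = p := hlo.over.symm
  have hP' : P ∈ ((P.comap (algebraMap A A')).map (algebraMap A A')).minimalPrimes := by
    rw [hPp]; exact hP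
  have hdim0 := Groth.Agent.FibLocH8.dim_fibLocRing_eq_zero (A := A) P hP'
  obtain ⟨-, hdim⟩ := depth_dim_localization_eq_add A A' P
  rw [hdim0, add_zero, IsLocalization.AtPrime.ringKrullDim_eq_height P,
    IsLocalization.AtPrime.ringKrullDim_eq_height (P.comap (algebraMap A A'))] at hdim
  rw [← hPp]
  exact_mod_cast hdim

/-- **EGA IV 7.1.3, first part**: `CovAdd` descends along flat local homomorphisms. -/
theorem covAdd_descent [IsLocalRing A] [IsLocalRing A'] [IsLocalHom (algebraMap A A')]
    (h : CovAdd A') : CovAdd A := by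
  intro p q hpq
  obtain ⟨x, hxq, hxp⟩ := SetLike.exists_of_lt ((PrimeSpectrum.asIdeal_lt_asIdeal p q).2 hpq.lt)
  haveI : Module.FaithfullyFlat A A' := Module.FaithfullyFlat.of_flat_of_isLocalHom
  have hne : q.asIdeal.map (algebraMap A A') ≠ ⊤ := by
    intro htop
    have h1 := Ideal.comap_map_eq_self_of_faithfullyFlat (B := A') q.asIdeal
    rw [htop, Ideal.comap_top] at h1
    exact q.2.ne_top h1.symm
  obtain ⟨⟨Q, hQ⟩⟩ := Ideal.nonempty_minimalPrimes hne
  haveI : Q.IsPrime := hQ.1.1
  have hQlo := liesOver_of_mem_minimalPrimes_map A A' q.asIdeal Q hQ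
  have hQq : Q.comap (algebraMap A A') = q.asIdeal := hQlo.over.symm
  have hpQ : p.asIdeal ≤ Q.under A := by
    rw [Ideal.under_def, hQq]; exact hpq.le
  obtain ⟨P₁, hP₁Q, hP₁prime, hP₁over⟩ := Ideal.exists_ideal_le_liesOver_of_le Q hpQ
  have hle : p.asIdeal.map (algebraMap A A') ≤ P₁ := by
    rw [Ideal.map_le_iff_le_comap, ← Ideal.under_def, ← hP₁over.over]
  obtain ⟨P, hP, hPP₁⟩ := Ideal.exists_minimalPrimes_le hle
  haveI : P.IsPrime := hP.1.1
  have hPlo := liesOver_of_mem_minimalPrimes_map A A' p.asIdeal P hP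
  have hPp : P.comap (algebraMap A A') = p.asIdeal := hPlo.over.symm
  have hPQ : P ≤ Q := hPP₁.trans hP₁Q
  have hxP : algebraMap A A' x ∉ P := fun hx => hxp (by rw [← hPp]; exact hx)
  have hxQ : algebraMap A A' x ∈ Q := by
    rw [← hQq] at hxq; exact hxq
  have hQmin : Q ∈ (P ⊔ Ideal.span {algebraMap A A' x}).minimalPrimes := by
    refine ⟨⟨inferInstance, sup_le hPQ ?_⟩, fun R hR hRQ => ?_⟩
    · rw [Ideal.span_le, Set.singleton_subset_iff]; exact hxQ
    · obtain ⟨hRp, hRle⟩ := hR
      haveI := hRp
      have hRc_le : R.comap (algebraMap A A') ≤ q.asIdeal := by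
        rw [← hQq]; exact Ideal.comap_mono hRQ
      have hp_le : p.asIdeal ≤ R.comap (algebraMap A A') := by
        rw [← hPp]; exact Ideal.comap_mono (le_sup_left.trans hRle)
      have hxR : x ∈ R.comap (algebraMap A A') :=
        hRle (Ideal.mem_sup_right (Ideal.subset_span rfl))
      let r : PrimeSpectrum A := ⟨R.comap (algebraMap A A'), inferInstance⟩
      have hpr : p < r := by
        refine lt_of_le_of_ne hp_le (fun e => hxp ?_)
        rw [e]; exact hxR
      have hrq : r = q := by
        by_contra hne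
        exact hpq.2 hpr (lt_of_le_of_ne hRc_le hne)
      have hqR : q.asIdeal.map (algebraMap A A') ≤ R := by
        rw [Ideal.map_le_iff_le_comap, ← hrq]
      exact hQ.2 ⟨hRp, hqR⟩ hRQ
  have hcov : (⟨P, inferInstance⟩ : PrimeSpectrum A') ⋖ ⟨Q, inferInstance⟩ :=
    Groth.Agent.EquidimCat.covBy_of_mem_minimalPrimes _ _ (algebraMap A A' x) hxP hQmin
  have h1 := h _ _ hcov
  have h2 : Q.height = P.height + 1 := h1
  rw [height_eq_of_mem_minimalPrimes_map A A' q.asIdeal Q hQ,
    height_eq_of_mem_minimalPrimes_map A A' p.asIdeal P hP] at h2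
  exact h2

/-- **EGA IV 7.1.3**: equidimensional + catenary descends along flat local homomorphisms. -/
theorem isEquidim_isCatenary_descent [IsLocalRing A] [IsLocalRing A']
    [IsLocalHom (algebraMap A A')] (heq : EGA4.IsEquidim A') (hcat : CAlg.IsCatenary A') :
    EGA4.IsEquidim A ∧ CAlg.IsCatenary A := by
  have h := covAdd_descent A A' (covAdd_of_isEquidim_isCatenary heq hcat)
  exact ⟨isEquidim_of_covAdd h, isCatenary_of_covAdd h⟩

end Descent

end Groth.Agent.EquiCat9
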