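import Mathlib
import Groth.Agent.Lib.EquidimCat_helper9

/-!
# Equidimensionality of quotients along flat local homomorphisms (helper9)

* `isEquidim_quot_iff`: `R/I` is equidimensional iff `dim R/P = dim R/I` for all minimal primes
  `P` of `I`.
* `isEquidim_quot_map_iff`: EGA IV 7.1.3, second part.
APPEND-ONLY once landed.
-/

set_option autoImplicit false
universe u

namespace Groth.Agent.EquiCat9

open IsLocalRing Groth.Agent.FlatCM Groth.Agent.DepthLib

section Quot

variable {R : Type u} [CommRing R] (I : Ideal R)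

theorem isEquidim_quot_iff :
    EGA4.IsEquidim (R ⧸ I) ↔
      ∀ P ∈ I.minimalPrimes, ringKrullDim (R ⧸ P) = ringKrullDim (R ⧸ I) := by
  have key : ∀ (pb : Ideal (R ⧸ I)), pb.IsPrime →
      ringKrullDim ((R ⧸ I) ⧸ pb) = ringKrullDim (R ⧸ pb.comap (Ideal.Quotient.mk I)) := by
    intro pb _
    have hle : I ≤ pb.comap (Ideal.Quotient.mk I) := by
      intro x hx
      rw [Ideal.mem_comap, Ideal.Quotient.eq_zero_iff_mem.2 hx]
      exact pb.zero_mem
    have hmap : (pb.comap (Ideal.Quotient.mk I)).map (Ideal.Quotient.mk I) = pb :=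
      Ideal.map_comap_of_surjective _ Ideal.Quotient.mk_surjective pb
    exact ringKrullDim_eq_of_ringEquiv
      ((Ideal.quotEquivOfEq hmap.symm).trans (DoubleQuot.quotQuotEquivQuotOfLE hle))
  unfold EGA4.IsEquidim
  rw [Ideal.minimalPrimes_eq_comap (I := I)]
  constructor
  · rintro h P ⟨pb, hpb, rfl⟩
    haveI := hpb.1.1
    rw [← key pb inferInstance]
    exact h pb hpb
  · intro h pb hpb
    haveI := hpb.1.1
    rw [key pb inferInstance]
    exact h _ ⟨pb, hpb, rfl⟩

end Quot

section MinPrimes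

variable (A A' : Type u) [CommRing A] [CommRing A'] [Algebra A A'] [Module.Flat A A']

theorem comap_mem_minimalPrimes (a : Ideal A) (P' : Ideal A')
    (hP' : P' ∈ (a.map (algebraMap A A')).minimalPrimes) :
    P'.comap (algebraMap A A') ∈ a.minimalPrimes ∧
      P' ∈ ((P'.comap (algebraMap A A')).map (algebraMap A A')).minimalPrimes := by
  haveI : P'.IsPrime := hP'.1.1
  have haP : a ≤ P'.comap (algebraMap A A') := Ideal.map_le_iff_le_comap.1 hP'.1.2
  refine ⟨⟨⟨inferInstance, haP⟩, fun P₀ hP₀ hle => ?_⟩,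
    ⟨⟨inferInstance, Ideal.map_comap_le⟩, fun R hR hRP' => ?_⟩⟩
  · obtain ⟨hP₀p, haP₀⟩ := hP₀
    haveI := hP₀p
    have hle' : P₀ ≤ P'.under A := hle
    obtain ⟨Q, hQP', hQprime, hQover⟩ := Ideal.exists_ideal_le_liesOver_of_le P' hle'
    have h1 : a.map (algebraMap A A') ≤ Q := by
      rw [Ideal.map_le_iff_le_comap]
      refine haP₀.trans ?_
      rw [← Ideal.under_def, ← hQover.over]
    have h2 : P' ≤ Q := hP'.2 ⟨hQprime, h1⟩ hQP'
    have h3 : Q = P' := le_antisymm hQP' h2
    rw [hQover.over, h3]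
  · exact hP'.2 ⟨hR.1, (Ideal.map_mono haP).trans hR.2⟩ hRP'

theorem mem_minimalPrimes_map_of_mem (a : Ideal A) (P : Ideal A) (hP : P ∈ a.minimalPrimes)
    (P' : Ideal A') (hP' : P' ∈ (P.map (algebraMap A A')).minimalPrimes) :
    P' ∈ (a.map (algebraMap A A')).minimalPrimes := by
  haveI : P.IsPrime := hP.1.1
  haveI : P'.IsPrime := hP'.1.1
  have hlo := liesOver_of_mem_minimalPrimes_map A A' P P' hP'
  have hP'P : P'.comap (algebraMap A A') = P := hlo.over.symm
  refine ⟨⟨inferInstance, (Ideal.map_mono hP.1.2).trans hP'.1.2⟩, fun R hR hRP' => ?_⟩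
  obtain ⟨hRp, haR⟩ := hR
  haveI := hRp
  have h1 : R.comap (algebraMap A A') ≤ P := by
    rw [← hP'P]; exact Ideal.comap_mono hRP'
  have h2 : P ≤ R.comap (algebraMap A A') :=
    hP.2 ⟨inferInstance, Ideal.map_le_iff_le_comap.1 haR⟩ h1
  exact hP'.2 ⟨hRp, Ideal.map_le_iff_le_comap.2 h2⟩ hRP'

end MinPrimes

section Main

variable (A A' : Type u) [CommRing A] [CommRing A'] [IsNoetherianRing A] [IsNoetherianRing A']
  [IsLocalRing A] [IsLocalRing A'] [Algebra A A'] [IsLocalHom (algebraMap A A')] [Module.Flat A A']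

/-- dimension of the quotients agree when the closed fibre is zero-dimensional -/
theorem ringKrullDim_quot_map_eq (h0 : ringKrullDim (EGA4.FibRing A A') = 0) (a : Ideal A)
    (ha : a ≤ maximalIdeal A) :
    ringKrullDim (A' ⧸ a.map (algebraMap A A')) = ringKrullDim (A ⧸ a) := by
  haveI := Groth.Agent.FibDim.isLocalRing_quot ha
  haveI : IsLocalRing (A' ⧸ a.map (algebraMap A A')) :=
    Groth.Agent.FibDim.isLocalRing_quot (Groth.Agent.FibDim.map_le_maximalIdeal ha)
  haveI := Groth.Agent.FibDim.isLocalHom_quot (B := A') ha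
  haveI : Module.Flat (A ⧸ a) (A' ⧸ a.map (algebraMap A A')) :=
    Groth.Agent.Lib.FSNilpH3.flat_quot a
  obtain ⟨e⟩ := fibRing_quot_equiv A A' a
  rw [dim_eq_add (A ⧸ a) (A' ⧸ a.map (algebraMap A A')), ringKrullDim_eq_of_ringEquiv e, h0,
    add_zero]

theorem ringKrullDim_quot_minimalPrime_eq (heq : EGA4.IsEquidim A') (hcat : CAlg.IsCatenary A')
    (h0 : ringKrullDim (EGA4.FibRing A A') = 0) (P : Ideal A) [hPp : P.IsPrime] (P' : Ideal A')
    (hP' : P' ∈ (P.map (algebraMap A A')).minimalPrimes) :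
    ringKrullDim (A' ⧸ P') = ringKrullDim (A ⧸ P) := by
  haveI hP'p : P'.IsPrime := hP'.1.1
  obtain ⟨heqA, hcatA⟩ := isEquidim_isCatenary_descent A A' heq hcat
  have h1 := Groth.Agent.EquidimCat.height_add_coheight hcat heq ⟨P', hP'p⟩
  have h2 := Groth.Agent.EquidimCat.height_add_coheight hcatA heqA ⟨P, hPp⟩
  have hdim : ringKrullDim A' = ringKrullDim A := by
    rw [dim_eq_add A A', h0, add_zero]
  have hht : P'.height = P.height := height_eq_of_mem_minimalPrimes_map A A' P P' hP'
  rw [hdim, ← h2, WithBot.coe_inj] at h1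
  change P'.height + _ = P.height + _ at h1
  rw [hht] at h1
  have hfin : P.height ≠ ⊤ := Ideal.height_ne_top_of_isPrime
  have h3 := (ENat.add_right_injective_of_ne_top hfin) h1
  rw [Groth.Agent.Hartshorne.ringKrullDim_quotient_eq_coheight,
    Groth.Agent.Hartshorne.ringKrullDim_quotient_eq_coheight, h3]

/-- **EGA IV 7.1.3, second part.** -/
theorem isEquidim_quot_map_iff (heq : EGA4.IsEquidim A') (hcat : CAlg.IsCatenary A')
    (h0 : ringKrullDim (EGA4.FibRing A A') = 0) (a : Ideal A) :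
    EGA4.IsEquidim (A' ⧸ a.map (algebraMap A A')) ↔ EGA4.IsEquidim (A ⧸ a) := by
  rw [isEquidim_quot_iff, isEquidim_quot_iff]
  by_cases hatop : a = ⊤
  · subst hatop
    constructor
    · intro _ P hP
      rw [Ideal.minimalPrimes_top] at hP
      exact absurd hP (Set.notMem_empty _)
    · intro _ P hP
      rw [Ideal.map_top, Ideal.minimalPrimes_top] at hP
      exact absurd hP (Set.notMem_empty _)
  have ha : a ≤ maximalIdeal A := le_maximalIdeal hatop
  have hd := ringKrullDim_quot_map_eq A A' h0 a ha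
  haveI : Module.FaithfullyFlat A A' := Module.FaithfullyFlat.of_flat_of_isLocalHom
  constructor
  · intro h P hP
    haveI : P.IsPrime := hP.1.1
    have hne : P.map (algebraMap A A') ≠ ⊤ := by
      intro htop
      have h1 := Ideal.comap_map_eq_self_of_faithfullyFlat (B := A') P
      rw [htop, Ideal.comap_top] at h1
      exact Ideal.IsPrime.ne_top' h1.symm
    obtain ⟨⟨P', hP'⟩⟩ := Ideal.nonempty_minimalPrimes hne
    have h1 := mem_minimalPrimes_map_of_mem A A' a P hP P' hP'
    rw [← ringKrullDim_quot_minimalPrime_eq A A' heq hcat h0 P P' hP', h P' h1, hd]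
  · intro h P' hP'
    haveI : P'.IsPrime := hP'.1.1
    obtain ⟨h1, h2⟩ := comap_mem_minimalPrimes A A' a P' hP'
    rw [ringKrullDim_quot_minimalPrime_eq A A' heq hcat h0 _ P' h2, h _ h1, hd]

end Main

end Groth.Agent.EquiCat9
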