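import Mathlib
import Groth.Agent.Lib.DerivLift_helper3
import Groth.Agent.S4542
import Groth.Agent.S4537
import Groth.Agent.S3866

/-!
# Extension of derivations to complete adically formally smooth algebras
APPEND-ONLY once landed.
-/

set_option autoImplicit false
set_option maxSynthPendingDepth 3

namespace Groth.Agent.Lib.DerivExtComplH3

universe u

open IsLocalRing Groth.Agent.Lib.AdicFSFieldH3 Groth.Agent.Lib.DerivLiftH3

theorem exists_derivation_extension_complete (A B : Type u) [CommRing A] [CommRing B]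
    [IsLocalRing B] [IsNoetherianRing B] [Algebra A B]
    [IsAdicComplete (maximalIdeal B) B]
    (hfs : CAlgX.IsAdicFormallySmooth A B (maximalIdeal B)) (D : Derivation ℤ A B) :
    ∃ D' : Derivation ℤ B B, ∀ a : A, D' (algebraMap A B a) = D a := by
  classical
  have hfs' : EGA41.IsFormallySmoothAdic A ⊥ B (maximalIdeal B) := (Groth.Agent.S4537.result _).1 hfs
  letI algAC : Algebra A (Tw B) := (twist B D).toAlgebra
  letI algBC : Algebra B (Tw B) := (twIncl B).toAlgebra
  let π : Tw B →ₐ[A] B := { twFst B with commutes' := fun a => rfl }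
  have hπ : Function.Surjective π := fun l => ⟨Tw.mk l 0, rfl⟩
  have hπfst : ∀ x : Tw B, π x = x.fst := fun x => rfl
  -- `Tw B` is a finite `B`-module
  let g : (B × B) →ₗ[B] Tw B :=
    { toFun := fun x => Tw.mk x.1 x.2
      map_add' := fun x y => Tw.ext rfl rfl
      map_smul' := fun b x => by
        refine Tw.ext ?_ ?_
        · show b * x.1 = ((twIncl B b) * Tw.mk x.1 x.2).fst
          rw [Tw.fst_mul]
          rfl
        · show b * x.2 = ((twIncl B b) * Tw.mk x.1 x.2).snd
          rw [Tw.snd_mul]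
          show b * x.2 = b * x.2 + 0 * x.1
          ring }
  haveI : Module.Finite B (Tw B) :=
    Module.Finite.of_surjective g (fun x => ⟨(x.fst, x.snd), Tw.ext rfl rfl⟩)
  let 𝔠 : Ideal (Tw B) := (maximalIdeal B).map (algebraMap B (Tw B))
  haveI hc1 : IsAdicComplete (maximalIdeal B) (Tw B) :=
    Groth.Agent.S3866.result B (maximalIdeal B) (Tw B)
  haveI hc2 : IsAdicComplete 𝔠 (Tw B) :=
    (IsAdicComplete.map_algebraMap_iff (I := maximalIdeal B) (S := Tw B) (M := Tw B)).mpr hc1
  let J : Ideal (Tw B) := RingHom.ker π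
  have hJ2 : J ^ 2 ≤ 𝔠 := by
    have h0 : J ^ 2 = ⊥ := by
      rw [eq_bot_iff, pow_two, Ideal.mul_le]
      intro x hx y hy
      have hx' : x.fst = 0 := hx
      have hy' : y.fst = 0 := hy
      rw [Ideal.mem_bot]
      refine Tw.ext ?_ ?_
      · rw [Tw.fst_mul, hx', zero_mul, Tw.fst_zero]
      · rw [Tw.snd_mul, hx', hy', zero_mul, mul_zero, add_zero, Tw.snd_zero]
    rw [h0]
    exact bot_le
  let eπ : (Tw B ⧸ J) ≃ₐ[A] B := Ideal.quotientKerAlgEquivOfSurjective hπ
  have heπ : ∀ x : Tw B, eπ (Ideal.Quotient.mk J x) = x.fst := fun x => rfl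
  have h𝔠B : (𝔠.map (Ideal.Quotient.mk J)).map (eπ : Tw B ⧸ J →+* B) ≤ maximalIdeal B := by
    rw [Ideal.map_map, Ideal.map_map, Ideal.map_le_iff_le_comap]
    intro b hb
    show eπ (Ideal.Quotient.mk J (twIncl B b)) ∈ maximalIdeal B
    rw [heπ]
    exact hb
  haveI hHaus : IsHausdorff (𝔠.map (Ideal.Quotient.mk J)) (Tw B ⧸ J) := by
    have h1 : IsHausdorff ((𝔠.map (Ideal.Quotient.mk J)).map eπ.toRingEquiv) B :=
      IsHausdorff.of_isLocalRing _ _ (fun htop => by
        have : (⊤ : Ideal B) ≤ maximalIdeal B := htop ▸ h𝔠B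
        exact (maximalIdeal.isMaximal B).ne_top (top_le_iff.1 this))
    exact (IsHausdorff.congr_ringEquiv _ eπ.toRingEquiv).mp h1
  let u : B →ₐ[A] Tw B ⧸ J := (eπ.symm : B →ₐ[A] Tw B ⧸ J)
  have hu : ∃ k : ℕ, (maximalIdeal B ^ k).map u.toRingHom ≤ 𝔠.map (Ideal.Quotient.mk J) := by
    refine ⟨1, ?_⟩
    rw [pow_one, Ideal.map_le_iff_le_comap]
    intro b hb
    have h1 : u b = Ideal.Quotient.mk J (twIncl B b) := by
      apply eπ.injective
      show eπ (eπ.symm b) = _
      rw [AlgEquiv.apply_symm_apply, heπ]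
      rfl
    rw [Ideal.mem_comap]
    show u b ∈ _
    rw [h1]
    exact Ideal.mem_map_of_mem _ (Ideal.mem_map_of_mem _ hb)
  obtain ⟨v, -, hv⟩ := Groth.Agent.S4542.result (A := A) (B := B) (C := Tw B) ⊥ (maximalIdeal B)
    𝔠 hfs' ⟨1, by rw [pow_one, Ideal.map_bot]; exact bot_le⟩ J ⟨2, hJ2⟩ u hu
  have hfst : ∀ b, (v b).fst = b := fun b => by
    have h1 : Ideal.Quotient.mk J (v b) = u b := AlgHom.congr_fun hv b
    rw [← heπ, h1]
    exact eπ.apply_symm_apply b
  let D₀ : B →+ B :=
    { toFun := fun b => (v b).snd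
      map_zero' := by
        show (v 0).snd = 0
        rw [map_zero, Tw.snd_zero]
      map_add' := fun a b => by
        show (v (a + b)).snd = _
        rw [map_add, Tw.snd_add] }
  refine ⟨Derivation.mk' D₀.toIntLinearMap (fun a b => ?_), fun a => ?_⟩
  · show (v (a * b)).snd = a • (v b).snd + b • (v a).snd
    rw [map_mul, Tw.snd_mul, hfst, hfst, smul_eq_mul, smul_eq_mul]
    ring
  · show (v (algebraMap A B a)).snd = D a
    rw [v.commutes]
    rfl

end Groth.Agent.Lib.DerivExtComplH3
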