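import Mathlib
import Groth.Agent.Lib.PSEval_helper1
import Groth.Agent.Lib.PSComplete_helper1
import Groth.Agent.Lib.RegPS_helper3
import Groth.Agent.Lib.RegFlat3_helper9
import Groth.Agent.Lib.CohenLift2_helper3

/-!
# Flatness of `Λ[[x_1..x_n]] → Q[[w_1..w_{n+m}]]`, `x_i ↦ w_i` (helper3)

The variables `w_1, …, w_n` (preceded by a generator of the maximal ideal of `Q`) form a regular
sequence on `Q[[w]]`; the local flatness criterion (regular sequence form, helper9) gives flatness.
-/

set_option autoImplicit false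
set_option maxSynthPendingDepth 3
universe u

namespace Groth.Agent.Lib.FlatPSH3

open MvPowerSeries IsLocalRing RingTheory.Sequence

section DivIdeal

variable {σ : Type*} {Q : Type*} [CommRing Q]

/-- power series whose coefficients at monomials not involving the variables in `s` are
divisible by `a` -/
def divIdeal (s : Finset σ) (a : Q) : Ideal (MvPowerSeries σ Q) where
  carrier := {f | ∀ d : σ →₀ ℕ, (∀ j ∈ s, d j = 0) → a ∣ coeff d f}
  add_mem' := fun {f g} hf hg d hd => by
    rw [map_add]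
    exact dvd_add (hf d hd) (hg d hd)
  zero_mem' := fun d _ => by
    rw [map_zero]
    exact dvd_zero a
  smul_mem' := fun c f hf d hd => by
    classical
    rw [smul_eq_mul, coeff_mul]
    refine Finset.dvd_sum fun p hp => ?_
    have hpd : p.1 + p.2 = d := Finset.HasAntidiagonal.mem_antidiagonal.1 hp
    have h2 : ∀ j ∈ s, p.2 j = 0 := fun j hj => by
      have h3 := hd j hj
      rw [← hpd, Finsupp.add_apply] at h3
      omega
    exact Dvd.dvd.mul_left (hf p.2 h2) _

theorem mem_divIdeal {s : Finset σ} {a : Q} {f : MvPowerSeries σ Q} :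
    f ∈ divIdeal s a ↔ ∀ d : σ →₀ ℕ, (∀ j ∈ s, d j = 0) → a ∣ coeff d f := Iff.rfl

theorem divIdeal_eq_span (s : Finset σ) (a : Q) :
    divIdeal s a =
      Ideal.span ({C a} ∪ (fun i => (X i : MvPowerSeries σ Q)) '' (s : Set σ)) := by
  classical
  apply le_antisymm
  · intro f hf
    have hex : ∀ d : σ →₀ ℕ, ∃ c : Q, (∀ j ∈ s, d j = 0) → coeff d f = a * c := by
      intro d
      by_cases hd : ∀ j ∈ s, d j = 0
      · obtain ⟨c, hc⟩ := hf d hd
        exact ⟨c, fun _ => hc⟩
      · exact ⟨0, fun h => absurd h hd⟩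
    choose c hc using hex
    let h : MvPowerSeries σ Q := fun d => c d
    have hh : ∀ d, coeff d h = c d := fun d => rfl
    have hg : f - C a * h ∈
        Ideal.span ((fun i => (X i : MvPowerSeries σ Q) ^ 1) '' (s : Set σ)) := by
      apply Groth.Agent.Lib.PSEvalH1.mem_span_X_pow_finset 1 s
      intro d hd
      have hd0 : ∀ j ∈ s, d j = 0 := fun j hj => Nat.lt_one_iff.1 (hd j hj)
      rw [map_sub, coeff_C_mul, hh, hc d hd0, sub_self]
    have hle : Ideal.span ((fun i => (X i : MvPowerSeries σ Q) ^ 1) '' (s : Set σ)) ≤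
        Ideal.span ({C a} ∪ (fun i => (X i : MvPowerSeries σ Q)) '' (s : Set σ)) := by
      apply Ideal.span_mono
      rintro _ ⟨i, hi, rfl⟩
      exact Or.inr ⟨i, hi, (pow_one _).symm⟩
    have hf' : f = C a * h + (f - C a * h) := by ring
    rw [hf']
    exact Ideal.add_mem _ (Ideal.mul_mem_right _ _ (Ideal.subset_span (Or.inl rfl))) (hle hg)
  · rw [Ideal.span_le]
    rintro f (hf | ⟨i, hi, rfl⟩)
    · rw [Set.mem_singleton_iff] at hf
      subst hf
      intro d _
      rw [coeff_C]
      split_ifs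
      · exact dvd_rfl
      · exact dvd_zero a
    · intro d hd
      rw [coeff_X]
      split_ifs with h1
      · exfalso
        have h2 := hd i hi
        rw [h1, Finsupp.single_eq_same] at h2
        exact one_ne_zero h2
      · exact dvd_zero a

theorem mem_divIdeal_of_X_mul (s : Finset σ) (a : Q) {i₀ : σ} (hi₀ : i₀ ∉ s)
    (f : MvPowerSeries σ Q) (h : X i₀ * f ∈ divIdeal s a) : f ∈ divIdeal s a := by
  classical
  intro d hd
  have h1 := h (Finsupp.single i₀ 1 + d) (fun j hj => by
    rw [Finsupp.add_apply, hd j hj, add_zero, Finsupp.single_apply, if_neg]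
    rintro rfl
    exact hi₀ hj)
  rw [X_def, coeff_add_monomial_mul, one_mul] at h1
  exact h1

theorem isWeaklyRegular_append_X (a : Q) (pre : List (MvPowerSeries σ Q))
    (hpre : Ideal.ofList pre = Ideal.span {C a})
    (hreg : IsWeaklyRegular (MvPowerSeries σ Q) pre) :
    ∀ (n : ℕ) (g : Fin n → σ), Function.Injective g →
      IsWeaklyRegular (MvPowerSeries σ Q)
        (pre ++ List.ofFn (fun i => (X (g i) : MvPowerSeries σ Q))) := by
  classical
  intro n
  induction n with
  | zero =>
    intro g _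
    rw [List.ofFn_zero, List.append_nil]
    exact hreg
  | succ n ih =>
    intro g hg
    rw [List.ofFn_succ', List.concat_eq_append, ← List.append_assoc, isWeaklyRegular_append_iff]
    refine ⟨ih (fun i => g i.castSucc) (fun i j hij => Fin.castSucc_injective _ (hg hij)), ?_⟩
    rw [isWeaklyRegular_singleton_iff, isSMulRegular_quotient_iff_mem_of_smul_mem]
    set s : Finset σ := Finset.univ.image (fun i : Fin n => g i.castSucc) with hs
    have hN : (Ideal.ofList (pre ++ List.ofFn
        (fun i : Fin n => (X (g i.castSucc) : MvPowerSeries σ Q))) • ⊤ :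
        Submodule (MvPowerSeries σ Q) (MvPowerSeries σ Q)) = divIdeal s a := by
      rw [smul_eq_mul, Ideal.mul_top, Ideal.ofList_append, hpre, divIdeal_eq_span, Ideal.span_union]
      congr 1
      show Ideal.span {r | r ∈ List.ofFn
        (fun i : Fin n => (X (g i.castSucc) : MvPowerSeries σ Q))} = _
      congr 1
      ext r
      rw [Set.mem_setOf_eq, List.mem_ofFn']
      constructor
      · rintro ⟨i, rfl⟩
        exact ⟨g i.castSucc, Finset.mem_coe.2 (Finset.mem_image_of_mem _ (Finset.mem_univ i)), rfl⟩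
      · rintro ⟨j, hj, rfl⟩
        obtain ⟨i, -, rfl⟩ := Finset.mem_image.1 (Finset.mem_coe.1 hj)
        exact ⟨i, rfl⟩
    rw [hN]
    intro f hf
    refine mem_divIdeal_of_X_mul s a ?_ f hf
    rw [hs, Finset.mem_image]
    rintro ⟨i, -, hi⟩
    exact (Fin.castSucc_lt_last i).ne (hg hi)

end DivIdeal

section Flat

variable {Λ Q : Type u} [CommRing Λ] [IsLocalRing Λ] [IsNoetherianRing Λ] [CommRing Q]
  [IsLocalRing Q] [IsNoetherianRing Q]

theorem flat_of_X (n m : ℕ) (τ : MvPowerSeries (Fin n) Λ →+* MvPowerSeries (Fin (n + m)) Q)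
    (hX : ∀ i, τ (X i) = X (Fin.castAdd m i))
    (pre : List Λ) (hpre : Ideal.ofList pre = maximalIdeal Λ) (a : Q)
    (hpre' : Ideal.ofList (pre.map (fun c => τ (C c))) = Ideal.span {C a})
    (hreg : IsWeaklyRegular (MvPowerSeries (Fin (n + m)) Q) (pre.map (fun c => τ (C c))))
    (hloc : ∀ c ∈ maximalIdeal Λ, τ (C c) ∈ maximalIdeal (MvPowerSeries (Fin (n + m)) Q)) :
    τ.Flat ∧ IsLocalHom τ ∧
      (maximalIdeal (MvPowerSeries (Fin n) Λ)).map τ =
        Ideal.span ({C a} ∪ (fun i => (X i : MvPowerSeries (Fin (n + m)) Q)) ''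
          (Set.range (Fin.castAdd m : Fin n → Fin (n + m)))) ∧
      ((maximalIdeal (MvPowerSeries (Fin n) Λ)).map τ).spanFinrank ≤ pre.length + n := by
  classical
  let fs : List (MvPowerSeries (Fin n) Λ) :=
    pre.map C ++ List.ofFn (fun i : Fin n => (X i : MvPowerSeries (Fin n) Λ))
  have hfsmap : fs.map τ = pre.map (fun c => τ (C c)) ++
      List.ofFn (fun i : Fin n => (X (Fin.castAdd m i) : MvPowerSeries (Fin (n + m)) Q)) := by
    show (pre.map C ++ List.ofFn (fun i : Fin n => (X i : MvPowerSeries (Fin n) Λ))).map τ = _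
    rw [List.map_append, List.map_map, List.map_ofFn]
    congr 2
    funext i
    exact hX i
  have hofFn : Ideal.ofList (List.ofFn (fun i : Fin n => (X i : MvPowerSeries (Fin n) Λ))) =
      Ideal.span (Set.range (X : Fin n → MvPowerSeries (Fin n) Λ)) := by
    unfold Ideal.ofList
    congr 1
    ext r
    rw [Set.mem_setOf_eq, List.mem_ofFn']
  have hfs𝔪 : Ideal.ofList fs = maximalIdeal (MvPowerSeries (Fin n) Λ) := by
    show Ideal.ofList (pre.map C ++ List.ofFn (fun i : Fin n => (X i : MvPowerSeries (Fin n) Λ))) = _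
    rw [Ideal.ofList_append, ← Ideal.map_ofList, hpre, hofFn,
      Groth.Agent.Lib.RegPSH3.maximalIdeal_eq]
  have hmapfs : (maximalIdeal (MvPowerSeries (Fin n) Λ)).map τ = Ideal.ofList (fs.map τ) := by
    rw [← hfs𝔪, Ideal.map_ofList]
  have hofFn' : Ideal.ofList (List.ofFn
      (fun i : Fin n => (X (Fin.castAdd m i) : MvPowerSeries (Fin (n + m)) Q))) =
      Ideal.span ((fun i => (X i : MvPowerSeries (Fin (n + m)) Q)) ''
          (Set.range (Fin.castAdd m : Fin n → Fin (n + m)))) := by
    unfold Ideal.ofList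
    congr 1
    ext r
    rw [Set.mem_setOf_eq, List.mem_ofFn']
    constructor
    · rintro ⟨i, rfl⟩
      exact ⟨Fin.castAdd m i, ⟨i, rfl⟩, rfl⟩
    · rintro ⟨_, ⟨i, rfl⟩, rfl⟩
      exact ⟨i, rfl⟩
  have hmap : (maximalIdeal (MvPowerSeries (Fin n) Λ)).map τ =
      Ideal.span ({C a} ∪ (fun i => (X i : MvPowerSeries (Fin (n + m)) Q)) ''
          (Set.range (Fin.castAdd m : Fin n → Fin (n + m)))) := by
    rw [hmapfs, hfsmap, Ideal.ofList_append, hpre', hofFn', Ideal.span_union]
  have hXmem : ∀ k : Fin (n + m), (X k : MvPowerSeries (Fin (n + m)) Q) ∈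
      maximalIdeal (MvPowerSeries (Fin (n + m)) Q) := by
    intro k
    rw [Groth.Agent.Lib.PSCompleteH1.mem_maximalIdeal_iff, constantCoeff_X]
    exact Ideal.zero_mem _
  have hmaple : (maximalIdeal (MvPowerSeries (Fin n) Λ)).map τ ≤
      maximalIdeal (MvPowerSeries (Fin (n + m)) Q) := by
    rw [Groth.Agent.Lib.RegPSH3.maximalIdeal_eq, Ideal.map_sup, sup_le_iff]
    constructor
    · rw [Ideal.map_map, Ideal.map_le_iff_le_comap]
      intro c hc
      exact hloc c hc
    · rw [Ideal.map_span, Ideal.span_le]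
      rintro _ ⟨_, ⟨i, rfl⟩, rfl⟩
      rw [hX]
      exact hXmem _
  have hlocal : IsLocalHom τ := ((local_hom_TFAE τ).out 0 2).2 hmaple
  refine ⟨?_, hlocal, hmap, ?_⟩
  · letI : Algebra (MvPowerSeries (Fin n) Λ) (MvPowerSeries (Fin (n + m)) Q) := τ.toAlgebra
    haveI : IsLocalHom (algebraMap (MvPowerSeries (Fin n) Λ) (MvPowerSeries (Fin (n + m)) Q)) :=
      hlocal
    show Module.Flat (MvPowerSeries (Fin n) Λ) (MvPowerSeries (Fin (n + m)) Q)
    refine Groth.Agent.Lib.RegFlat3.flat_of_regular (A := MvPowerSeries (Fin n) Λ)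
      (MvPowerSeries (Fin (n + m)) Q) (B := MvPowerSeries (Fin (n + m)) Q) fs ?_ ?_ ?_
    · intro f hf
      rw [← hfs𝔪]
      exact Ideal.subset_span hf
    · haveI : (Ideal.ofList fs).IsMaximal := hfs𝔪 ▸ maximalIdeal.isMaximal _
      letI := Ideal.Quotient.field (Ideal.ofList fs)
      infer_instance
    · rw [← isWeaklyRegular_map_algebraMap_iff (MvPowerSeries (Fin (n + m)) Q)
        (MvPowerSeries (Fin (n + m)) Q) fs]
      show IsWeaklyRegular (MvPowerSeries (Fin (n + m)) Q) (fs.map τ)
      rw [hfsmap]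
      exact isWeaklyRegular_append_X a _ hpre' hreg n (Fin.castAdd m) (Fin.castAdd_injective n m)
  · rw [hmapfs]
    have hfin : {r | r ∈ fs.map τ}.Finite := List.finite_toSet _
    refine le_trans (Submodule.spanFinrank_span_le_ncard_of_finite hfin) ?_
    have h1 : {r | r ∈ fs.map τ}.ncard ≤ (fs.map τ).length := by
      have h2 : {r | r ∈ fs.map τ} = ((fs.map τ).toFinset : Set _) := by
        ext r
        simp
      rw [h2, Set.ncard_coe_finset]
      exact List.toFinset_card_le _
    refine le_trans h1 ?_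
    rw [List.length_map]
    show (pre.map C ++ List.ofFn (fun i : Fin n => (X i : MvPowerSeries (Fin n) Λ))).length ≤ _
    rw [List.length_append, List.length_map, List.length_ofFn]

end Flat

section Quot

variable {Q : Type u} [CommRing Q] [IsRegularLocalRing Q]

theorem quot_regular (n m : ℕ) (a : Q) (ha : maximalIdeal Q = Ideal.span {a})
    (I : Ideal (MvPowerSeries (Fin (n + m)) Q))
    (hI : I = Ideal.span ({C a} ∪ (fun i => (X i : MvPowerSeries (Fin (n + m)) Q)) ''
          (Set.range (Fin.castAdd m : Fin n → Fin (n + m)))))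
    (hcard : I.spanFinrank ≤ (maximalIdeal Q).spanFinrank + n) :
    IsRegularLocalRing (MvPowerSeries (Fin (n + m)) Q ⧸ I) ∧
      ringKrullDim (MvPowerSeries (Fin (n + m)) Q ⧸ I) ≤ m := by
  classical
  have hXmem : ∀ k : Fin (n + m), (X k : MvPowerSeries (Fin (n + m)) Q) ∈
      maximalIdeal (MvPowerSeries (Fin (n + m)) Q) := by
    intro k
    rw [Groth.Agent.Lib.PSCompleteH1.mem_maximalIdeal_iff, constantCoeff_X]
    exact Ideal.zero_mem _
  have haQ : a ∈ maximalIdeal Q := by
    rw [ha]
    exact Ideal.subset_span rfl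
  have hIle : I ≤ maximalIdeal (MvPowerSeries (Fin (n + m)) Q) := by
    rw [hI, Ideal.span_le]
    rintro f (hf | ⟨i, -, rfl⟩)
    · rw [Set.mem_singleton_iff] at hf
      subst hf
      rw [SetLike.mem_coe, Groth.Agent.Lib.PSCompleteH1.mem_maximalIdeal_iff, constantCoeff_C]
      exact haQ
    · exact hXmem i
  have hItop : I ≠ ⊤ := fun htop =>
    (maximalIdeal.isMaximal (MvPowerSeries (Fin (n + m)) Q)).ne_top (top_le_iff.1 (htop ▸ hIle))
  haveI : Nontrivial (MvPowerSeries (Fin (n + m)) Q ⧸ I) := Ideal.Quotient.nontrivial_iff.2 hItop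
  haveI : IsLocalRing (MvPowerSeries (Fin (n + m)) Q ⧸ I) :=
    IsLocalRing.of_surjective' (Ideal.Quotient.mk I) Ideal.Quotient.mk_surjective
  have hCa : (C a : MvPowerSeries (Fin (n + m)) Q) ∈ I := by
    rw [hI]
    exact Ideal.subset_span (Or.inl rfl)
  have hXI : ∀ i : Fin n, (X (Fin.castAdd m i) : MvPowerSeries (Fin (n + m)) Q) ∈ I := by
    intro i
    rw [hI]
    exact Ideal.subset_span (Or.inr ⟨_, ⟨i, rfl⟩, rfl⟩)
  -- generators of the maximal ideal of the quotient
  have hgen : maximalIdeal (MvPowerSeries (Fin (n + m)) Q ⧸ I) =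
      Ideal.span (Set.range (fun j : Fin m =>
        Ideal.Quotient.mk I (X (Fin.natAdd n j) : MvPowerSeries (Fin (n + m)) Q))) := by
    apply le_antisymm
    · rw [← Groth.Agent.Lib.CohenLiftH3.map_mk_maximalIdeal, Ideal.map_le_iff_le_comap,
        Groth.Agent.Lib.RegPSH3.maximalIdeal_eq, sup_le_iff]
      constructor
      · rw [Ideal.map_le_iff_le_comap]
        intro c hc
        rw [Ideal.mem_comap, Ideal.mem_comap]
        rw [ha, Ideal.mem_span_singleton] at hc
        obtain ⟨c', rfl⟩ := hc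
        have h1 : Ideal.Quotient.mk I (C (a * c') : MvPowerSeries (Fin (n + m)) Q) = 0 := by
          rw [Ideal.Quotient.eq_zero_iff_mem, map_mul]
          exact Ideal.mul_mem_right _ _ hCa
        rw [h1]
        exact Ideal.zero_mem _
      · rw [Ideal.span_le]
        rintro _ ⟨k, rfl⟩
        rw [SetLike.mem_coe, Ideal.mem_comap]
        refine Fin.addCases (motive := fun k => Ideal.Quotient.mk I
          (X k : MvPowerSeries (Fin (n + m)) Q) ∈ Ideal.span (Set.range (fun j : Fin m =>
            Ideal.Quotient.mk I (X (Fin.natAdd n j) : MvPowerSeries (Fin (n + m)) Q))))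
          (fun i => ?_) (fun j => ?_) k
        · rw [Ideal.Quotient.eq_zero_iff_mem.2 (hXI i)]
          exact Ideal.zero_mem _
        · exact Ideal.subset_span ⟨j, rfl⟩
    · rw [Ideal.span_le]
      rintro _ ⟨j, rfl⟩
      rw [SetLike.mem_coe, ← Groth.Agent.Lib.CohenLiftH3.map_mk_maximalIdeal]
      exact Ideal.mem_map_of_mem _ (hXmem _)
  have hspan : (maximalIdeal (MvPowerSeries (Fin (n + m)) Q ⧸ I)).spanFinrank ≤ m := by
    rw [hgen]
    refine le_trans (Submodule.spanFinrank_span_le_ncard_of_finite (Set.finite_range _)) ?_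
    have := Set.ncard_image_le (f := fun j : Fin m =>
        Ideal.Quotient.mk I (X (Fin.natAdd n j) : MvPowerSeries (Fin (n + m)) Q))
      (Set.finite_univ (α := Fin m))
    rw [Set.image_univ, Set.ncard_univ, Nat.card_fin] at this
    exact this
  have hdimS := Groth.Agent.Lib.RegPSH3.ringKrullDim_mvPowerSeries_regular Q (n + m)
  have hjac : I ≤ Ring.jacobson (MvPowerSeries (Fin (n + m)) Q) := by
    rw [IsLocalRing.ringJacobson_eq_maximalIdeal]
    exact hIle
  have h1 := ringKrullDim_le_ringKrullDim_quotient_add_spanFinrank I hjac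
  have hdimge : (m : WithBot ℕ∞) ≤ ringKrullDim (MvPowerSeries (Fin (n + m)) Q ⧸ I) := by
    have hnn : (0 : WithBot ℕ∞) ≤ ringKrullDim (MvPowerSeries (Fin (n + m)) Q ⧸ I) :=
      ringKrullDim_nonneg_of_nontrivial
    obtain ⟨y, hy⟩ : ∃ y : ℕ∞, ringKrullDim (MvPowerSeries (Fin (n + m)) Q ⧸ I) = (y : WithBot ℕ∞) := by
      refine ⟨(ringKrullDim (MvPowerSeries (Fin (n + m)) Q ⧸ I)).unbot ?_, (WithBot.coe_unbot _ _).symm⟩
      intro hbot
      rw [hbot] at hnn
      exact absurd hnn (by simp)
    rw [hy] at h1 ⊢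
    rw [hdimS] at h1
    induction y using ENat.recTopCoe with
    | top => exact le_top
    | coe y =>
      have h2 : ((maximalIdeal Q).spanFinrank + (n + m) : ℕ) ≤ y + I.spanFinrank := by
        exact_mod_cast h1
      have h3 : m ≤ y := by omega
      exact_mod_cast h3
  refine ⟨IsRegularLocalRing.of_spanFinrank_maximalIdeal_le _ ?_, ?_⟩
  · refine le_trans ?_ hdimge
    exact_mod_cast hspan
  · refine le_trans (ringKrullDim_le_spanFinrank_maximalIdeal _) ?_
    exact_mod_cast hspan

end Quot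

end Groth.Agent.Lib.FlatPSH3
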