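import Mathlib
import Groth.Agent.Lib.FlatPS_helper3
import Groth.Agent.Lib.FSFlat_helper3

/-!
# The flat power-series package (helper3)

Given a Cohen ring `Λ`, a complete Noetherian local ring `B`, a local homomorphism `ψ : Λ → B`,
and elements `y_1..y_n, t_1..t_m` generating `𝔪_B`: a Cohen ring `Q`, a surjection
`σ : Q[[w_1..w_{n+m}]] → B` and a flat local map `τ : Λ[[x_1..x_n]] → Q[[w]]` with `x_i ↦ w_i`,
`σ ∘ τ|_Λ = ψ`, whose closed fibre is regular of dimension `≤ m`.
-/

set_option autoImplicit false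
set_option maxSynthPendingDepth 3
universe u

namespace Groth.Agent.Lib.FlatPSH3

open MvPowerSeries IsLocalRing EGA41 RingTheory.Sequence

theorem exists_flat_package {Λ B : Type u} [CommRing Λ] [IsLocalRing Λ] (hΛ : IsCohenRingEGA Λ)
    [CommRing B] [IsLocalRing B] [IsNoetherianRing B] [IsAdicComplete (maximalIdeal B) B]
    (ψ : Λ →+* B) [IsLocalHom ψ] (n m : ℕ) (y : Fin n → B) (t : Fin m → B)
    (hy : ∀ i, y i ∈ maximalIdeal B)
    (hspan : Ideal.span (Set.range y ∪ Set.range t) = maximalIdeal B) :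
    ∃ (Q : Type u) (_ : CommRing Q) (_ : IsLocalRing Q) (_ : IsCohenRingEGA Q)
      (σ : MvPowerSeries (Fin (n + m)) Q →+* B)
      (τ : MvPowerSeries (Fin n) Λ →+* MvPowerSeries (Fin (n + m)) Q),
      Function.Surjective σ ∧ (∀ i, σ (X (Fin.castAdd m i)) = y i) ∧
      (∀ j, σ (X (Fin.natAdd n j)) = t j) ∧
      (∀ i, τ (X i) = X (Fin.castAdd m i)) ∧ (∀ c, σ (τ (C c)) = ψ c) ∧ τ.Flat ∧ IsLocalHom τ ∧
      IsRegularLocalRing (MvPowerSeries (Fin (n + m)) Q ⧸
        (maximalIdeal (MvPowerSeries (Fin n) Λ)).map τ) ∧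
      ringKrullDim (MvPowerSeries (Fin (n + m)) Q ⧸
        (maximalIdeal (MvPowerSeries (Fin n) Λ)).map τ) ≤ m := by
  classical
  obtain ⟨Q, _, _, vQ, hQ, hvQsurj, hvQloc⟩ := Groth.Agent.Lib.FSFlatH3.exists_cohen_to B
  obtain ⟨hQdom, hQpid, hQnoeth, hQcomp, hQchar0⟩ := Groth.Agent.Lib.FSFlatH3.cohenEGA_facts hQ
  obtain ⟨hΛdom, hΛpid, hΛnoeth, hΛcomp, hΛchar0⟩ := Groth.Agent.Lib.FSFlatH3.cohenEGA_facts hΛ
  haveI := hQdom; haveI := hQpid; haveI := hQnoeth; haveI := hQcomp
  haveI := hΛdom; haveI := hΛpid; haveI := hΛnoeth; haveI := hΛcomp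
  haveI : IsLocalHom vQ := ((local_hom_TFAE vQ).out 0 3).2 (fun a ha => hvQloc a ha)
  -- the generators
  let w : Fin (n + m) → B := Fin.append y t
  have ht : ∀ j, t j ∈ maximalIdeal B := fun j => by
    rw [← hspan]
    exact Ideal.subset_span (Or.inr ⟨j, rfl⟩)
  have hw : ∀ k, w k ∈ maximalIdeal B := by
    intro k
    refine Fin.addCases (motive := fun k => w k ∈ maximalIdeal B) (fun i => ?_) (fun j => ?_) k
    · show Fin.append y t (Fin.castAdd m i) ∈ _
      rw [Fin.append_left]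
      exact hy i
    · show Fin.append y t (Fin.natAdd n j) ∈ _
      rw [Fin.append_right]
      exact ht j
  have hwrange : Set.range w = Set.range y ∪ Set.range t := by
    ext b
    constructor
    · rintro ⟨k, rfl⟩
      refine Fin.addCases (motive := fun k => w k ∈ Set.range y ∪ Set.range t)
        (fun i => ?_) (fun j => ?_) k
      · left
        exact ⟨i, (Fin.append_left y t i).symm⟩
      · right
        exact ⟨j, (Fin.append_right y t j).symm⟩
    · rintro (⟨i, rfl⟩ | ⟨j, rfl⟩)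
      · exact ⟨Fin.castAdd m i, Fin.append_left y t i⟩
      · exact ⟨Fin.natAdd n j, Fin.append_right y t j⟩
  letI algQB : Algebra Q B := vQ.toAlgebra
  obtain ⟨σa, hσa⟩ := Groth.Agent.Lib.RegPSH3.exists_algHom_X (Λ := Q) (R := B) (n + m) w hw
  have hσsurj : Function.Surjective σa := by
    refine Groth.Agent.Lib.RegPSH3.surjective_of_span_eq (n + m) σa ?_ hvQsurj hvQloc
    have h1 : (fun i => σa (X i)) = w := funext hσa
    rw [h1, hwrange, hspan]
  haveI : IsAdicComplete (maximalIdeal (MvPowerSeries (Fin (n + m)) Q))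
      (MvPowerSeries (Fin (n + m)) Q) :=
    Groth.Agent.Lib.PSCompleteH1.isAdicComplete_maximalIdeal
  -- lift `ψ`
  set J : Ideal (MvPowerSeries (Fin (n + m)) Q) := RingHom.ker σa.toRingHom with hJdef
  have hσsurj' : Function.Surjective σa.toRingHom := hσsurj
  let e : (MvPowerSeries (Fin (n + m)) Q ⧸ J) ≃+* B :=
    RingHom.quotientKerEquivOfSurjective hσsurj'
  have he : ∀ s, e (Ideal.Quotient.mk J s) = σa s := fun s =>
    RingHom.quotientKerEquivOfSurjective_apply_mk hσsurj' s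
  haveI : IsLocalRing (MvPowerSeries (Fin (n + m)) Q ⧸ J) := e.symm.isLocalRing
  let u : Λ →+* MvPowerSeries (Fin (n + m)) Q ⧸ J := (e.symm : B →+* _).comp ψ
  haveI : IsLocalHom u := ⟨fun c hc => by
    have h1 : IsUnit (e (u c)) := hc.map e
    have h2 : e (u c) = ψ c := e.apply_symm_apply _
    rw [h2] at h1
    exact isUnit_of_map_unit ψ c h1⟩
  have hJtop : J ≠ ⊤ := RingHom.ker_ne_top _
  obtain ⟨lam, hlamloc, hlam⟩ :=
    Groth.Agent.Lib.CohenLiftH3.exists_lift_to_complete hΛ J hJtop u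
  have hσlam : ∀ c, σa (lam c) = ψ c := by
    intro c
    have h1 : Ideal.Quotient.mk J (lam c) = u c := RingHom.congr_fun hlam c
    rw [← he, h1]
    exact e.apply_symm_apply _
  -- `τ`
  have hXmem : ∀ k : Fin (n + m), (X k : MvPowerSeries (Fin (n + m)) Q) ∈
      maximalIdeal (MvPowerSeries (Fin (n + m)) Q) := by
    intro k
    rw [Groth.Agent.Lib.PSCompleteH1.mem_maximalIdeal_iff, constantCoeff_X]
    exact Ideal.zero_mem _
  letI algΛS : Algebra Λ (MvPowerSeries (Fin (n + m)) Q) := lam.toAlgebra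
  obtain ⟨τa, hτa⟩ := Groth.Agent.Lib.RegPSH3.exists_algHom_X (Λ := Λ)
    (R := MvPowerSeries (Fin (n + m)) Q) n (fun i => X (Fin.castAdd m i)) (fun i => hXmem _)
  have hτC : ∀ c, τa (C c) = lam c := by
    intro c
    rw [c_eq_algebraMap, AlgHom.commutes]
    rfl
  -- residue characteristics
  obtain ⟨p, hp⟩ := CharP.exists (ResidueField Λ)
  haveI := hp
  haveI hBp : CharP (ResidueField B) p :=
    charP_of_injective_ringHom (ResidueField.map ψ).injective p
  haveI hQp : CharP (ResidueField Q) p :=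
    RingHom.charP (ResidueField.map vQ) (ResidueField.map vQ).injective p
  obtain ⟨-, -, hΛm, -⟩ := Groth.Agent.Lib.CohenLiftH3.cohen_basic hΛ p
  obtain ⟨-, -, hQm, hQpow⟩ := Groth.Agent.Lib.CohenLiftH3.cohen_basic hQ p
  have hloc : ∀ c ∈ maximalIdeal Λ, τa.toRingHom (C c) ∈
      maximalIdeal (MvPowerSeries (Fin (n + m)) Q) := by
    intro c hc
    show τa (C c) ∈ _
    rw [hτC]
    have h3 : maximalIdeal Λ ≤ (maximalIdeal (MvPowerSeries (Fin (n + m)) Q)).comap lam :=
      ((local_hom_TFAE lam).out 0 3).1 hlamloc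
    exact h3 hc
  haveI : IsDomain (MvPowerSeries (Fin (n + m)) Q) := NoZeroDivisors.to_isDomain _
  have hmain : ∃ (pre : List Λ), Ideal.ofList pre = maximalIdeal Λ ∧
      Ideal.ofList (pre.map (fun c => τa.toRingHom (C c))) =
        Ideal.span {(C ((p : ℕ) : Q) : MvPowerSeries (Fin (n + m)) Q)} ∧
      IsWeaklyRegular (MvPowerSeries (Fin (n + m)) Q) (pre.map (fun c => τa.toRingHom (C c))) ∧
      pre.length ≤ (maximalIdeal Q).spanFinrank := by
    by_cases hp0 : p = 0
    · refine ⟨[], ?_, ?_, ?_, Nat.zero_le _⟩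
      · rw [Ideal.ofList_nil, hΛm, hp0, Nat.cast_zero]
        exact (Ideal.span_singleton_eq_bot.2 rfl).symm
      · rw [List.map_nil, Ideal.ofList_nil, hp0, Nat.cast_zero, map_zero]
        exact (Ideal.span_singleton_eq_bot.2 rfl).symm
      · rw [List.map_nil]
        exact IsWeaklyRegular.nil _ _
    · have hpQ : ((p : ℕ) : Q) ≠ 0 := by
        have := hQpow hp0 1
        rwa [pow_one] at this
      have hτp : τa.toRingHom (C ((p : ℕ) : Λ)) =
          (C ((p : ℕ) : Q) : MvPowerSeries (Fin (n + m)) Q) := by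
        rw [map_natCast, map_natCast, map_natCast]
      refine ⟨[((p : ℕ) : Λ)], ?_, ?_, ?_, ?_⟩
      · rw [Ideal.ofList_singleton, hΛm]
      · rw [List.map_cons, List.map_nil, Ideal.ofList_singleton, hτp]
      · rw [List.map_cons, List.map_nil, isWeaklyRegular_singleton_iff, hτp]
        have hne : (C ((p : ℕ) : Q) : MvPowerSeries (Fin (n + m)) Q) ≠ 0 := by
          intro h0
          apply hpQ
          have := congrArg constantCoeff h0
          rwa [constantCoeff_C, map_zero] at this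
        intro x z hxz
        exact mul_left_cancel₀ hne hxz
      · rw [hQm, Submodule.spanFinrank_singleton hpQ]
        rfl
  obtain ⟨pre, hpre, hpre', hreg, hlen⟩ := hmain
  obtain ⟨hflat, hlocal, hmap, hcard⟩ := flat_of_X n m τa.toRingHom
    (fun i => hτa i) pre hpre ((p : ℕ) : Q) hpre' hreg hloc
  obtain ⟨hregq, hdim⟩ := quot_regular n m ((p : ℕ) : Q) hQm _ hmap
    (le_trans hcard (Nat.add_le_add_right hlen n))
  refine ⟨Q, inferInstance, inferInstance, hQ, σa.toRingHom, τa.toRingHom, hσsurj, ?_, ?_,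
    fun i => hτa i, ?_, hflat, hlocal, hregq, hdim⟩
  · intro i
    show σa (X (Fin.castAdd m i)) = y i
    rw [hσa]
    exact Fin.append_left y t i
  · intro j
    show σa (X (Fin.natAdd n j)) = t j
    rw [hσa]
    exact Fin.append_right y t j
  · intro c
    show σa (τa (C c)) = ψ c
    rw [hτC, hσlam]

end Groth.Agent.Lib.FlatPSH3
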