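import Mathlib
import Groth.Agent.Lib.FlatPS2_helper3
import Groth.Agent.Lib.GeomRegAdic_helper3

/-!
# Auxiliary lemmas for the flat power-series package (helper3)
-/

set_option autoImplicit false
set_option maxSynthPendingDepth 3
universe u

namespace Groth.Agent.Lib.FlatPSH3

open MvPowerSeries IsLocalRing EGA41

/-- ring homomorphisms out of `Λ[[x_1..x_n]]` into a Hausdorff local ring sending the variables
into the maximal ideal are determined by their values on `Λ` and the variables -/
theorem ringHom_ext_of_X {Λ B : Type u} [CommRing Λ] [CommRing B] [IsLocalRing B]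
    [IsHausdorff (maximalIdeal B) B] (n : ℕ) (f g : MvPowerSeries (Fin n) Λ →+* B)
    (hC : ∀ c, f (C c) = g (C c)) (hX : ∀ i, f (X i) = g (X i))
    (hm : ∀ i, g (X i) ∈ maximalIdeal B) : f = g := by
  classical
  letI : Algebra Λ B := (g.comp C).toAlgebra
  let fa : MvPowerSeries (Fin n) Λ →ₐ[Λ] B :=
    { f with
      commutes' := fun c => by
        show f (algebraMap Λ (MvPowerSeries (Fin n) Λ) c) = g (C c)
        rw [← c_eq_algebraMap, hC] }
  let ga : MvPowerSeries (Fin n) Λ →ₐ[Λ] B :=
    { g with
      commutes' := fun c => by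
        show g (algebraMap Λ (MvPowerSeries (Fin n) Λ) c) = g (C c)
        rw [← c_eq_algebraMap] }
  have hk : ∀ k : ℕ, (Ideal.Quotient.mkₐ Λ (maximalIdeal B ^ k)).comp fa =
      (Ideal.Quotient.mkₐ Λ (maximalIdeal B ^ k)).comp ga := by
    intro k
    apply Groth.Agent.Lib.PSEvalH1.algHom_ext_of_nilpotent
    · intro i
      show Ideal.Quotient.mk _ (f (X i)) = Ideal.Quotient.mk _ (g (X i))
      rw [hX]
    · intro i
      refine ⟨k, ?_⟩
      show (Ideal.Quotient.mk (maximalIdeal B ^ k) (f (X i))) ^ k = 0
      rw [← map_pow, Ideal.Quotient.eq_zero_iff_mem, hX]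
      exact Ideal.pow_mem_pow (hm i) k
  ext z
  rw [← sub_eq_zero]
  apply IsHausdorff.haus (inferInstance : IsHausdorff (maximalIdeal B) B)
  intro k
  rw [SModEq.zero, smul_eq_mul, Ideal.mul_top, ← Ideal.Quotient.eq]
  exact AlgHom.congr_fun (hk k) z

/-- a regular local ring is a regular ring -/
theorem isRegularRing_of_isRegularLocalRing (T : Type u) [CommRing T] [IsRegularLocalRing T] :
    IsRegularRing T := by
  apply Groth.Agent.Lib.GeomRegAdicH3.isRegularRing_of_forall_maximal
  intro 𝔐 h𝔐
  obtain rfl := IsLocalRing.eq_maximalIdeal h𝔐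
  let e : T ≃ₐ[T] (Localization.AtPrime (maximalIdeal T)) :=
    IsLocalization.atUnits T (maximalIdeal T).primeCompl (fun x hx => by
      by_contra hnu
      exact hx ((mem_maximalIdeal x).2 hnu))
  exact IsRegularLocalRing.of_ringEquiv e.toRingEquiv

/-- the two cases of a Cohen ring (wide sense) are told apart by the residue characteristic of
any local ring it maps to by a local homomorphism -/
theorem cohen_cases {W R : Type u} [CommRing W] [IsLocalRing W] (hW : IsCohenRingEGA W)
    [CommRing R] [IsLocalRing R] (v : W →+* R) [IsLocalHom v] :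
    (CharZero (ResidueField R) ∧ IsField W) ∨
      (¬ CharZero (ResidueField R) ∧ CAlg.IsCohenRing W) := by
  rcases hW with ⟨hfield, hchar⟩ | hcohen
  · left
    refine ⟨?_, hfield⟩
    letI := hfield.toField
    haveI := hchar
    haveI : CharZero (ResidueField W) := charZero_of_injective_ringHom (residue W).injective
    exact charZero_of_injective_ringHom (ResidueField.map v).injective
  · right
    refine ⟨?_, hcohen⟩
    obtain ⟨hdom, hdvr, hcomp, q, hq, hmax⟩ := id hcohen
    intro hzero
    have hqW : ((q : ℕ) : W) ∈ maximalIdeal W := by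
      rw [hmax]
      exact Ideal.subset_span rfl
    have hqR : ((q : ℕ) : R) ∈ maximalIdeal R := by
      have h1 : maximalIdeal W ≤ (maximalIdeal R).comap v :=
        ((local_hom_TFAE v).out 0 3).1 ‹IsLocalHom v›
      have h2 := h1 hqW
      rwa [Ideal.mem_comap, map_natCast] at h2
    have h3 : ((q : ℕ) : ResidueField R) = 0 := by
      rw [← map_natCast (residue R)]
      exact (residue_eq_zero_iff _).2 hqR
    have h4 : q = 0 := by exact_mod_cast h3
    exact hq.ne_zero h4

end Groth.Agent.Lib.FlatPSH3
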