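import Mathlib
import Groth.Prelude.Def_EGA4b
import Groth.Agent.Lib.AdicFSField_helper3
import Groth.Agent.Lib.DerivExtCompl_helper3
import Groth.Agent.Lib.Jacobian_helper3
import Groth.Agent.Lib.FSAdicCompl_helper3
import Groth.Agent.Lib.AnUnram_helper3
import Groth.Agent.Lib.PIndepDirected_helper3
import Groth.Agent.Lib.GeomRegFS_helper3
import Groth.Agent.Lib.RegLoc_helper3
import Groth.Agent.Lib.FlatPS3_helper3
import Groth.Agent.Lib.CompletionRegular_helper5
import Groth.Agent.S4537
import Groth.Agent.S2471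

/-!
# Geometric regularity of the generic formal fibre in characteristic `p` (helper3)

Abstract core of "a complete local ring is a G-ring" in characteristic `p`: if a regular
Noetherian domain `A` of characteristic `p` has a directed family of subrings `S i` over which
it is finite, with `⋂ Frac (S i) = Frac(A)^p`, then the generic formal fibres of the local
rings of `A` are geometrically regular.
APPEND-ONLY once landed.
-/

set_option autoImplicit false
set_option maxSynthPendingDepth 3

namespace Groth.Agent.Lib.GenericFibreCharPH3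

universe u

open TensorProduct KaehlerDifferential IsLocalRing

section B2

variable {k S : Type u} [Field k] [CommRing S] [IsLocalRing S] [Algebra k S]

/-- finite-support criterion for injectivity of `Ω_k ⊗ κ → Ω_S ⊗ κ` -/
theorem injective_of_dual_derivations
    (H : ∀ (σ : Type u) [Finite σ] (t : σ → k), LinearIndependent k (fun s => D ℤ k (t s)) →
      ∃ E : σ → Derivation ℤ S S, (∀ s, E s (algebraMap k S (t s)) = 1) ∧
        ∀ s s', s ≠ s' → E s (algebraMap k S (t s')) = 0) :
    Function.Injective ((KaehlerDifferential.mapBaseChange ℤ k S).lTensor (ResidueField S)) := by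
  classical
  let f := (KaehlerDifferential.mapBaseChange ℤ k S).baseChange (ResidueField S)
  have hf : (f : _ → _) = (KaehlerDifferential.mapBaseChange ℤ k S).lTensor (ResidueField S) :=
    LinearMap.baseChange_eq_ltensor _
  rw [← hf, injective_iff_map_eq_zero]
  intro v hv
  have hsp : ⊤ ≤ Submodule.span k (Set.range (D ℤ k)) := by
    rw [KaehlerDifferential.span_range_derivation]
  let b := Module.Basis.ofSpan hsp
  have hbmem : ∀ i, ∃ x : k, D ℤ k x = b i := fun i => Module.Basis.ofSpan_subset hsp ⟨i, rfl⟩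
  choose x hx using hbmem
  let bκ := (b.baseChange S).baseChange (ResidueField S)
  have hbκ : ∀ i, bκ i = (1 : ResidueField S) ⊗ₜ[S] ((1 : S) ⊗ₜ[k] D ℤ k (x i)) := by
    intro i
    show ((b.baseChange S).baseChange (ResidueField S)) i = _
    rw [Module.Basis.baseChange_apply, Module.Basis.baseChange_apply, hx]
  have hfb : ∀ i, f (bκ i) = (1 : ResidueField S) ⊗ₜ[S] D ℤ S (algebraMap k S (x i)) := by
    intro i
    rw [hbκ]
    show (1 : ResidueField S) ⊗ₜ[S] (KaehlerDifferential.mapBaseChange ℤ k S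
      ((1 : S) ⊗ₜ[k] D ℤ k (x i))) = _
    rw [KaehlerDifferential.mapBaseChange_tmul, one_smul, KaehlerDifferential.map_D]
  set c := bκ.repr v with hc
  let σ := {i // i ∈ c.support}
  let t : σ → k := fun s => x s.1
  have hli : LinearIndependent k (fun s : σ => D ℤ k (t s)) := by
    have h1 : (fun s : σ => D ℤ k (t s)) = b ∘ (Subtype.val : σ → _) := funext fun s => hx s.1
    rw [h1]
    exact b.linearIndependent.comp _ Subtype.val_injective
  obtain ⟨E, hE1, hE0⟩ := H σ t hli
  have hv' : v = ∑ i ∈ c.support, c i • bκ i := by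
    conv_lhs => rw [← bκ.linearCombination_repr v]
    rw [Finsupp.linearCombination_apply, Finsupp.sum]
  have hc0 : c = 0 := by
    ext j
    by_contra hj
    have hjs : j ∈ c.support := Finsupp.mem_support_iff.2 hj
    let g₀ : Ω[S⁄ℤ] →ₗ[S] ResidueField S :=
      (Algebra.linearMap S (ResidueField S)) ∘ₗ (E ⟨j, hjs⟩).liftKaehlerDifferential
    let ψ : ResidueField S ⊗[S] Ω[S⁄ℤ] →ₗ[ResidueField S] ResidueField S :=
      g₀.liftBaseChange (ResidueField S)
    have hψ : ∀ i (hi : i ∈ c.support), ψ (f (bκ i)) = if i = j then 1 else 0 := by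
      intro i hi
      rw [hfb]
      show (1 : ResidueField S) • g₀ (D ℤ S (algebraMap k S (x i))) = _
      rw [one_smul]
      show algebraMap S (ResidueField S)
        ((E ⟨j, hjs⟩).liftKaehlerDifferential (D ℤ S (algebraMap k S (x i)))) = _
      rw [Derivation.liftKaehlerDifferential_comp_D]
      by_cases hij : i = j
      · subst hij
        rw [if_pos rfl]
        have := hE1 ⟨i, hjs⟩
        rw [show x i = t ⟨i, hjs⟩ from rfl, this, map_one]
      · rw [if_neg hij]
        have := hE0 ⟨j, hjs⟩ ⟨i, hi⟩ (fun h => hij (congrArg Subtype.val h).symm)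
        rw [show x i = t ⟨i, hi⟩ from rfl, this, map_zero]
    have h0 : ψ (f v) = 0 := by rw [hv, map_zero]
    rw [hv', map_sum, map_sum] at h0
    have h1 : ∑ i ∈ c.support, ψ (f (c i • bκ i)) = c j := by
      rw [Finset.sum_eq_single_of_mem j hjs]
      · rw [map_smul, map_smul, hψ j hjs, if_pos rfl, smul_eq_mul, mul_one]
      · intro i hi hij
        rw [map_smul, map_smul, hψ i hi, if_neg hij, smul_zero]
    rw [h1] at h0
    exact hj h0
  exact bκ.repr.map_eq_zero_iff.1 hc0

end B2

section Ext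

theorem derivation_ext_of_isFractionRing {A 𝕂 M : Type*} [CommRing A] [IsDomain A] [Field 𝕂] [Algebra A 𝕂]
    [IsFractionRing A 𝕂] [AddCommGroup M] [Module 𝕂 M]
    (d₁ d₂ : Derivation ℤ 𝕂 M) (h : ∀ a : A, d₁ (algebraMap A 𝕂 a) = d₂ (algebraMap A 𝕂 a)) :
    d₁ = d₂ := by
  ext x
  obtain ⟨a, b, hb, rfl⟩ := IsFractionRing.div_surjective (A := A) x
  have hb0 : algebraMap A 𝕂 b ≠ 0 := IsFractionRing.to_map_ne_zero_of_mem_nonZeroDivisors hb
  set y := algebraMap A 𝕂 a / algebraMap A 𝕂 b with hy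
  have hmul : algebraMap A 𝕂 b * y = algebraMap A 𝕂 a := by
    rw [hy]; field_simp
  have e1 := congrArg d₁ hmul
  have e2 := congrArg d₂ hmul
  rw [Derivation.leibniz] at e1 e2
  rw [h a, h b, ← e2] at e1
  have e3 : algebraMap A 𝕂 b • d₁ y = algebraMap A 𝕂 b • d₂ y := add_right_cancel e1
  have e4 := congrArg (fun m => (algebraMap A 𝕂 b)⁻¹ • m) e3
  simpa [smul_smul, inv_mul_cancel₀ hb0] using e4

theorem exists_derivation_of_finite {A 𝕂 : Type*} [CommRing A] [IsDomain A] [Field 𝕂]
    [Algebra A 𝕂] [IsFractionRing A 𝕂] (S₀ : Subring A) [Module.Finite S₀ A]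
    (E' : Derivation ℤ 𝕂 𝕂) (hkill : ∀ s ∈ S₀, E' (algebraMap A 𝕂 s) = 0) :
    ∃ (h : A) (_ : h ≠ 0) (E : Derivation ℤ A A),
      ∀ a, algebraMap A 𝕂 (E a) = algebraMap A 𝕂 h * E' (algebraMap A 𝕂 a) := by
  classical
  obtain ⟨s, hs⟩ := (Module.Finite.fg_top : (⊤ : Submodule S₀ A).FG)
  obtain ⟨⟨h, hh⟩, hint⟩ := IsLocalization.exist_integer_multiples_of_finset (nonZeroDivisors A)
    (s.image (fun a => E' (algebraMap A 𝕂 a)))
  have hinj : Function.Injective (algebraMap A 𝕂) := IsFractionRing.injective A 𝕂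
  have key : ∀ a : A, ∃ a' : A, algebraMap A 𝕂 a' = algebraMap A 𝕂 h * E' (algebraMap A 𝕂 a) := by
    intro a
    have ha : a ∈ Submodule.span S₀ (s : Set A) := hs ▸ Submodule.mem_top
    induction ha using Submodule.span_induction with
    | mem a ha =>
      obtain ⟨a', ha'⟩ := hint _ (Finset.mem_image_of_mem _ ha)
      exact ⟨a', by rw [ha', Algebra.smul_def]⟩
    | zero => exact ⟨0, by simp⟩
    | add x y _ _ hx hy =>
      obtain ⟨x', hx'⟩ := hx
      obtain ⟨y', hy'⟩ := hy
      exact ⟨x' + y', by rw [map_add, hx', hy', map_add, map_add, mul_add]⟩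
    | smul c x _ hx =>
      obtain ⟨x', hx'⟩ := hx
      refine ⟨(c : A) * x', ?_⟩
      rw [Subring.smul_def, smul_eq_mul, map_mul, map_mul, hx', E'.leibniz, hkill c c.2, smul_zero,
        add_zero, smul_eq_mul]
      ring
  choose E₀ hE₀ using key
  have hadd : ∀ a b, E₀ (a + b) = E₀ a + E₀ b := by
    intro a b
    apply hinj
    rw [map_add, hE₀, hE₀, hE₀, map_add, map_add, mul_add]
  have hleib : ∀ a b, E₀ (a * b) = a • E₀ b + b • E₀ a := by
    intro a b
    apply hinj
    rw [map_add, smul_eq_mul, smul_eq_mul, map_mul, map_mul, hE₀, hE₀, hE₀, map_mul, E'.leibniz,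
      smul_eq_mul, smul_eq_mul]
    ring
  refine ⟨h, nonZeroDivisors.ne_zero hh,
    Derivation.mk' (AddMonoidHom.mk' E₀ hadd).toIntLinearMap hleib, fun a => hE₀ a⟩

theorem exists_derivation_extension (A D Dh T : Type u) [CommRing A] [CommRing D] [CommRing Dh]
    [CommRing T] [Algebra A D] [Algebra D Dh] [Algebra Dh T] [Algebra A T] [Algebra D T]
    [IsScalarTower A D T] [IsScalarTower D Dh T] [Algebra.FormallyEtale A D]
    [IsLocalRing Dh] [IsNoetherianRing Dh] [IsAdicComplete (maximalIdeal Dh) Dh]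
    (hfs : CAlgX.IsAdicFormallySmooth D Dh (maximalIdeal Dh)) [Algebra.FormallyEtale Dh T]
    (E : Derivation ℤ A A) :
    ∃ E' : Derivation ℤ T T, ∀ a, E' (algebraMap A T a) = algebraMap A T (E a) := by
  obtain ⟨E₁, hE₁⟩ := Groth.Agent.Lib.JacobianH3.exists_derivation_extension ℤ
    (S := A) (T := D) E
  let E₁' : Derivation ℤ D Dh := (Algebra.linearMap D Dh).compDer E₁
  obtain ⟨E₂, hE₂⟩ := Groth.Agent.Lib.DerivExtComplH3.exists_derivation_extension_complete
    D Dh hfs E₁'
  obtain ⟨E₃, hE₃⟩ := Groth.Agent.Lib.JacobianH3.exists_derivation_extension ℤ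
    (S := Dh) (T := T) E₂
  refine ⟨E₃, fun a => ?_⟩
  rw [IsScalarTower.algebraMap_apply A D T, IsScalarTower.algebraMap_apply D Dh T, hE₃, hE₂]
  show algebraMap Dh T (algebraMap D Dh (E₁ (algebraMap A D a))) = _
  rw [hE₁, ← IsScalarTower.algebraMap_apply D Dh T, ← IsScalarTower.algebraMap_apply A D T]

/-- the completion of a Noetherian local ring is adically formally smooth over it -/
theorem isAdicFormallySmooth_cpl (D : Type u) [CommRing D] [IsLocalRing D] [IsNoetherianRing D] :
    CAlgX.IsAdicFormallySmooth D (EGA4.Cpl D)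
      ((maximalIdeal D).map (algebraMap D (EGA4.Cpl D))) := by
  have h0 : CAlgX.IsAdicFormallySmooth D D (maximalIdeal D) :=
    Groth.Agent.Lib.SmoothRegH3.adic_of_formallySmooth _
  have h1 := (Groth.Agent.S4537.result _).1 h0
  have h2 := Groth.Agent.Lib.FSAdicComplH3.isFormallySmoothAdic_adicCompletion ⊥
    (maximalIdeal D) h1
  exact (Groth.Agent.S4537.result _).2 h2

end Ext

section L1

variable (p : ℕ) [hp : Fact p.Prime] (A : Type u) [CommRing A] [IsDomain A]
  (κ₀ : Type u) [Field κ₀] [Algebra A κ₀] [IsFractionRing A κ₀] [CharP κ₀ p]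
  {ι : Type*} [Nonempty ι] (S : ι → Subring A)

include hp in
theorem exists_dual_derivations_ring
    (hdir : ∀ a b, ∃ c, S c ≤ S a ⊓ S b) (hfin : ∀ i, Module.Finite (S i) A)
    (hint : ∀ x : κ₀, (∀ i, x ∈ Subfield.closure (algebraMap A κ₀ '' (S i : Set A))) ↔
      ∃ y : κ₀, y ^ p = x)
    (T : Type u) [CommRing T] [Algebra κ₀ T] [Algebra A T] [IsScalarTower A κ₀ T]
    (hext : ∀ E : Derivation ℤ A A, ∃ E' : Derivation ℤ T T,
      ∀ a, E' (algebraMap A T a) = algebraMap A T (E a))
    (σ : Type u) [Finite σ] (t : σ → κ₀) (ht : LinearIndependent κ₀ (fun s => D ℤ κ₀ (t s))) :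
    ∃ E : σ → Derivation ℤ T T, (∀ s, E s (algebraMap κ₀ T (t s)) = 1) ∧
      ∀ s s', s ≠ s' → E s (algebraMap κ₀ T (t s')) = 0 := by
  classical
  let L : ι → Subfield κ₀ := fun i => Subfield.closure (algebraMap A κ₀ '' (S i : Set A))
  have hLdir : ∀ a b, ∃ c, L c ≤ L a ⊓ L b := by
    intro a b
    obtain ⟨c, hc⟩ := hdir a b
    refine ⟨c, le_inf ?_ ?_⟩
    · exact Subfield.closure_mono (Set.image_mono (hc.trans inf_le_left))
    · exact Subfield.closure_mono (Set.image_mono (hc.trans inf_le_right))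
  have hLpow : ∀ i (x : κ₀), x ^ p ∈ L i := fun i x => (hint (x ^ p)).2 ⟨x, rfl⟩ i
  have hLinf : ∀ x, (∀ i, x ∈ L i) → ∃ y : κ₀, y ^ p = x := fun x hx => (hint x).1 hx
  obtain ⟨i, E₀, hkill, hE1, hE0⟩ :=
    Groth.Agent.Lib.PIndepDirectedH3.exists_dual_derivations p L hLdir hLpow hLinf t ht
  haveI := hfin i
  have hkill' : ∀ s, ∀ a ∈ S i, E₀ s (algebraMap A κ₀ a) = 0 := fun s a ha =>
    hkill s _ (Subfield.subset_closure ⟨a, ha, rfl⟩)
  choose h hh0 E hE using fun s => exists_derivation_of_finite (S i) (E₀ s) (hkill' s)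
  choose E' hE' using fun s => hext (E s)
  have hcompat : ∀ a : A, algebraMap A T a = algebraMap κ₀ T (algebraMap A κ₀ a) := fun a =>
    IsScalarTower.algebraMap_apply A κ₀ T a
  -- units
  have hu : ∀ s, algebraMap A κ₀ (h s) ≠ 0 := fun s h0 =>
    hh0 s (IsFractionRing.injective A κ₀ (h0.trans (map_zero _).symm))
  -- the two derivations `κ₀ → T`
  have hder : ∀ s (x : κ₀), E' s (algebraMap κ₀ T x) =
      algebraMap κ₀ T (algebraMap A κ₀ (h s) * E₀ s x) := by
    intro s
    let d₁ : Derivation ℤ κ₀ T := (E' s).compAlgebraMap κ₀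
    let d₂ : Derivation ℤ κ₀ T :=
      (algebraMap A κ₀ (h s)) • (Algebra.linearMap κ₀ T).compDer (E₀ s)
    have h12 : d₁ = d₂ := by
      apply derivation_ext_of_isFractionRing (A := A)
      intro a
      show E' s (algebraMap κ₀ T (algebraMap A κ₀ a)) =
        algebraMap A κ₀ (h s) • algebraMap κ₀ T (E₀ s (algebraMap A κ₀ a))
      rw [← hcompat, hE' s a, hcompat, hE s a, map_mul, Algebra.smul_def]
    intro x
    have := congrArg (fun d : Derivation ℤ κ₀ T => d x) h12
    show d₁ x = _
    rw [this]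
    show algebraMap A κ₀ (h s) • algebraMap κ₀ T (E₀ s x) = _
    rw [map_mul, Algebra.smul_def]
  refine ⟨fun s => (algebraMap κ₀ T (algebraMap A κ₀ (h s))⁻¹) • E' s, ?_, ?_⟩
  · intro s
    show algebraMap κ₀ T (algebraMap A κ₀ (h s))⁻¹ • E' s (algebraMap κ₀ T (t s)) = 1
    rw [hder, hE1, smul_eq_mul, ← map_mul, mul_one, inv_mul_cancel₀ (hu s), map_one]
  · intro s s' hne
    show algebraMap κ₀ T (algebraMap A κ₀ (h s))⁻¹ • E' s (algebraMap κ₀ T (t s')) = 0
    rw [hder, hE0 s s' hne, mul_zero, map_zero, smul_zero]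

end L1

section L2

variable (p : ℕ) [hp : Fact p.Prime] (A : Type u) [CommRing A] [IsDomain A]
  (D : Type u) [CommRing D] [IsDomain D] [IsRegularLocalRing D]
  [Algebra A D] [Algebra.FormallyEtale A D]
  (κ₀ : Type u) [Field κ₀] [Algebra D κ₀] [IsFractionRing D κ₀] [Algebra A κ₀]
  [IsScalarTower A D κ₀] [IsFractionRing A κ₀] [CharP κ₀ p]
  {ι : Type*} [Nonempty ι] (S : ι → Subring A)

include hp in
theorem isGeometricallyRegular_generic
    (hdir : ∀ a b, ∃ c, S c ≤ S a ⊓ S b) (hfin : ∀ i, Module.Finite (S i) A)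
    (hint : ∀ x : κ₀, (∀ i, x ∈ Subfield.closure (algebraMap A κ₀ '' (S i : Set A))) ↔
      ∃ y : κ₀, y ^ p = x) :
    CAlg.IsGeometricallyRegular κ₀ (κ₀ ⊗[D] EGA4.Cpl D) := by
  obtain ⟨hloc, hnoeth, hcompl, -, -, hmap⟩ := AnUnramH3.completion_facts D
  haveI := hloc
  haveI := hnoeth
  haveI := hcompl
  haveI : IsRegularLocalRing (EGA4.Cpl D) :=
    (Groth.Agent.RegularLib.isRegularLocalRing_adicCompletion_iff D (maximalIdeal D)
      (Ideal.IsMaximal.ne_top (maximalIdeal.isMaximal D))).1 inferInstance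
  haveI : IsRegularRing (EGA4.Cpl D) :=
    Groth.Agent.Lib.FlatPSH3.isRegularRing_of_isRegularLocalRing _
  letI algR : Algebra (EGA4.Cpl D) (κ₀ ⊗[D] EGA4.Cpl D) := Algebra.TensorProduct.rightAlgebra
  haveI hlocF : IsLocalization (Algebra.algebraMapSubmonoid (EGA4.Cpl D) (nonZeroDivisors D))
      (κ₀ ⊗[D] EGA4.Cpl D) := IsLocalization.tensorRight κ₀ (nonZeroDivisors D)
  haveI : IsRegularRing (κ₀ ⊗[D] EGA4.Cpl D) :=
    Groth.Agent.Lib.RegLocH3.isRegularRing_of_isLocalization
      (Algebra.algebraMapSubmonoid (EGA4.Cpl D) (nonZeroDivisors D)) _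
  have hfs : CAlgX.IsAdicFormallySmooth D (EGA4.Cpl D) (maximalIdeal (EGA4.Cpl D)) := by
    rw [← hmap]
    exact isAdicFormallySmooth_cpl D
  rw [Groth.Agent.Lib.GeomRegFSH3.isGeometricallyRegular_iff_forall_adic]
  intro 𝔮 h𝔮
  rw [Groth.Agent.S2471.result]
  refine ⟨inferInstance, ?_⟩
  apply injective_of_dual_derivations
  intro σ _ t ht
  haveI : IsScalarTower (EGA4.Cpl D) (κ₀ ⊗[D] EGA4.Cpl D) (Localization.AtPrime 𝔮) :=
    inferInstance
  haveI : Algebra.FormallyEtale (EGA4.Cpl D) (κ₀ ⊗[D] EGA4.Cpl D) :=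
    Algebra.FormallyEtale.of_isLocalization
      (Algebra.algebraMapSubmonoid (EGA4.Cpl D) (nonZeroDivisors D))
  haveI : Algebra.FormallyEtale (κ₀ ⊗[D] EGA4.Cpl D) (Localization.AtPrime 𝔮) :=
    Algebra.FormallyEtale.of_isLocalization 𝔮.primeCompl
  haveI : Algebra.FormallyEtale (EGA4.Cpl D) (Localization.AtPrime 𝔮) :=
    Algebra.FormallyEtale.comp (EGA4.Cpl D) (κ₀ ⊗[D] EGA4.Cpl D) (Localization.AtPrime 𝔮)
  haveI : IsScalarTower D (EGA4.Cpl D) (Localization.AtPrime 𝔮) :=
    IsScalarTower.of_algebraMap_eq (fun d => by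
      rw [IsScalarTower.algebraMap_apply (EGA4.Cpl D) (κ₀ ⊗[D] EGA4.Cpl D)
        (Localization.AtPrime 𝔮),
        IsScalarTower.algebraMap_apply D (κ₀ ⊗[D] EGA4.Cpl D) (Localization.AtPrime 𝔮)]
      congr 1
      show algebraMap D (κ₀ ⊗[D] EGA4.Cpl D) d = (1 : κ₀) ⊗ₜ[D] (algebraMap D (EGA4.Cpl D) d)
      rw [Algebra.TensorProduct.algebraMap_apply, Algebra.algebraMap_eq_smul_one,
        Algebra.algebraMap_eq_smul_one (A := EGA4.Cpl D), TensorProduct.smul_tmul])
  exact exists_dual_derivations_ring p A κ₀ S hdir hfin hint (Localization.AtPrime 𝔮)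
    (fun E => exists_derivation_extension A D (EGA4.Cpl D) (Localization.AtPrime 𝔮) hfs E) σ t ht

end L2

end Groth.Agent.Lib.GenericFibreCharPH3

namespace Groth.Agent.Lib.GenericFibreCharPH3

universe u

open TensorProduct KaehlerDifferential IsLocalRing

section Concrete

/-- transport of the closure condition along an isomorphism of fraction fields -/
theorem mem_closure_iff_of_algEquiv {A K₁ K₂ : Type*} [CommRing A] [Field K₁] [Field K₂]
    [Algebra A K₁] [Algebra A K₂] (e : K₁ ≃ₐ[A] K₂) (S : Set A) (x : K₂) :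
    x ∈ Subfield.closure (algebraMap A K₂ '' S) ↔
      e.symm x ∈ Subfield.closure (algebraMap A K₁ '' S) := by
  have h1 : algebraMap A K₂ '' S = (e : K₁ →+* K₂) '' (algebraMap A K₁ '' S) := by
    rw [Set.image_image]
    refine Set.image_congr fun a _ => ?_
    exact (e.commutes a).symm
  rw [h1, ← RingHom.map_field_closure, Subfield.mem_map]
  constructor
  · rintro ⟨z, hz, rfl⟩
    simpa using hz
  · intro hx
    exact ⟨e.symm x, hx, by simp⟩

variable (p : ℕ) [hp : Fact p.Prime] (A : Type u) [CommRing A] [IsDomain A] [IsRegularRing A]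
  [CharP A p] {ι : Type*} [Nonempty ι] (S : ι → Subring A)

include hp in
theorem isGeometricallyRegular_formalFibre
    (hdir : ∀ a b, ∃ c, S c ≤ S a ⊓ S b) (hfin : ∀ i, Module.Finite (S i) A)
    (hint : ∀ x : FractionRing A,
      (∀ i, x ∈ Subfield.closure (algebraMap A (FractionRing A) '' (S i : Set A))) ↔
        ∃ y : FractionRing A, y ^ p = x)
    (P : Ideal A) [P.IsPrime] :
    CAlg.IsGeometricallyRegular (⊥ : Ideal (Localization.AtPrime P)).ResidueField
      (EGA4.formalFibre (Localization.AtPrime P) ⊥) := by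
  have hinjD : Function.Injective (algebraMap A (Localization.AtPrime P)) :=
    IsLocalization.injective _ P.primeCompl_le_nonZeroDivisors
  have hinjκ : Function.Injective (algebraMap (Localization.AtPrime P)
      (⊥ : Ideal (Localization.AtPrime P)).ResidueField) :=
    IsFractionRing.injective _ _
  have hinj : Function.Injective (algebraMap A
      (⊥ : Ideal (Localization.AtPrime P)).ResidueField) := by
    rw [IsScalarTower.algebraMap_eq A (Localization.AtPrime P)
      (⊥ : Ideal (Localization.AtPrime P)).ResidueField]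
    exact hinjκ.comp hinjD
  haveI : FaithfulSMul A (⊥ : Ideal (Localization.AtPrime P)).ResidueField :=
    (faithfulSMul_iff_algebraMap_injective A _).mpr hinj
  haveI : IsFractionRing A (⊥ : Ideal (Localization.AtPrime P)).ResidueField := by
    apply IsFractionRing.of_field
    intro z
    obtain ⟨d₁, d₂, hd₂, rfl⟩ := IsFractionRing.div_surjective (A := Localization.AtPrime P) z
    obtain ⟨a₁, s₁, rfl⟩ := IsLocalization.exists_mk'_eq P.primeCompl d₁
    obtain ⟨a₂, s₂, rfl⟩ := IsLocalization.exists_mk'_eq P.primeCompl d₂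
    refine ⟨a₁ * s₂, a₂ * s₁, ?_⟩
    have hs₁ : algebraMap A (⊥ : Ideal (Localization.AtPrime P)).ResidueField s₁ ≠ 0 := fun h0 =>
      (P.primeCompl_le_nonZeroDivisors s₁.2 |> nonZeroDivisors.ne_zero)
        (hinj (h0.trans (map_zero _).symm))
    have hs₂ : algebraMap A (⊥ : Ideal (Localization.AtPrime P)).ResidueField s₂ ≠ 0 := fun h0 =>
      (P.primeCompl_le_nonZeroDivisors s₂.2 |> nonZeroDivisors.ne_zero)
        (hinj (h0.trans (map_zero _).symm))
    have hm : ∀ (a : A) (s : P.primeCompl),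
        algebraMap (Localization.AtPrime P) (⊥ : Ideal (Localization.AtPrime P)).ResidueField
          (IsLocalization.mk' (Localization.AtPrime P) a s) =
        algebraMap A (⊥ : Ideal (Localization.AtPrime P)).ResidueField a /
          algebraMap A (⊥ : Ideal (Localization.AtPrime P)).ResidueField s := by
      intro a s
      have hs : algebraMap A (⊥ : Ideal (Localization.AtPrime P)).ResidueField s ≠ 0 := fun h0 =>
        (P.primeCompl_le_nonZeroDivisors s.2 |> nonZeroDivisors.ne_zero)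
          (hinj (h0.trans (map_zero _).symm))
      rw [eq_div_iff hs, IsScalarTower.algebraMap_apply A (Localization.AtPrime P)
        (⊥ : Ideal (Localization.AtPrime P)).ResidueField (s : A), ← map_mul,
        IsLocalization.mk'_spec, ← IsScalarTower.algebraMap_apply]
    rw [hm, hm, map_mul, map_mul]
    have ha₂ : algebraMap A (⊥ : Ideal (Localization.AtPrime P)).ResidueField a₂ ≠ 0 := by
      intro h0
      have h1 : IsLocalization.mk' (Localization.AtPrime P) a₂ s₂ = 0 := by
        have : a₂ = 0 := hinj (h0.trans (map_zero _).symm)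
        rw [this, IsLocalization.mk'_zero]
      exact nonZeroDivisors.ne_zero hd₂ h1
    field_simp
  haveI : CharP (⊥ : Ideal (Localization.AtPrime P)).ResidueField p :=
    charP_of_injective_algebraMap hinj p
  let e : FractionRing A ≃ₐ[A] (⊥ : Ideal (Localization.AtPrime P)).ResidueField :=
    FractionRing.algEquiv A _
  have hint' : ∀ x : (⊥ : Ideal (Localization.AtPrime P)).ResidueField,
      (∀ i, x ∈ Subfield.closure (algebraMap A
        (⊥ : Ideal (Localization.AtPrime P)).ResidueField '' (S i : Set A))) ↔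
      ∃ y : (⊥ : Ideal (Localization.AtPrime P)).ResidueField, y ^ p = x := by
    intro x
    rw [show (∀ i, x ∈ Subfield.closure (algebraMap A
        (⊥ : Ideal (Localization.AtPrime P)).ResidueField '' (S i : Set A))) ↔
        ∀ i, e.symm x ∈ Subfield.closure (algebraMap A (FractionRing A) '' (S i : Set A)) from
      forall_congr' fun i => mem_closure_iff_of_algEquiv e (S i : Set A) x, hint]
    constructor
    · rintro ⟨y, hy⟩
      refine ⟨e y, ?_⟩
      rw [← map_pow, hy, AlgEquiv.apply_symm_apply]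
    · rintro ⟨y, rfl⟩
      exact ⟨e.symm y, by rw [map_pow]⟩
  exact isGeometricallyRegular_generic p A (Localization.AtPrime P)
    (⊥ : Ideal (Localization.AtPrime P)).ResidueField S hdir hfin hint'

end Concrete

end Groth.Agent.Lib.GenericFibreCharPH3
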