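import Groth.Agent.Lib.PAdmissible_helper3
import Groth.Agent.Lib.SepSmooth_helper3
import Groth.Agent.Lib.AdicFSField_helper3

/-!
# The cofinite subfields `k_J` attached to a `p`-basis: intersection (helper3)

* `mem_PK_of_forall_mem_kJ` : `⋂_J k_J = k₀(K^p)`.
* `mem_PK_primeField_iff` : over the prime field, `k₀(K^p) = K^p`.
APPEND-ONLY once landed.
-/

set_option autoImplicit false
set_option maxSynthPendingDepth 3

namespace Groth.Agent.Lib.PBasisH3

universe u

open EGA41 KaehlerDifferential TensorProduct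

section Inf

variable (p : ℕ) [hp : Fact p.Prime] {k₀ K : Type u} [Field k₀] [Field K] [Algebra k₀ K]
  [CharP K p] (B : Set K)

omit hp [CharP K p] in
theorem kJ_anti {J J' : Finset B} (h : J ⊆ J') : kJ (k₀ := k₀) p B J' ≤ kJ (k₀ := k₀) p B J := by
  apply IntermediateField.adjoin.mono
  rintro z (hz | ⟨β, hβ, rfl⟩)
  · exact Or.inl hz
  · exact Or.inr ⟨β, fun hβJ => hβ (h hβJ), rfl⟩

omit hp in
theorem D_mem_span_of_mem_kJ (J : Finset B) (z : K) (hz : z ∈ kJ (k₀ := k₀) p B J) :
    D k₀ K z ∈ Submodule.span K ((fun β : B => D k₀ K (β : K)) '' {β | β ∉ J}) := by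
  unfold kJ at hz
  induction hz using IntermediateField.adjoin_induction with
  | mem z hz =>
    rcases hz with ⟨y, rfl⟩ | ⟨β, hβ, rfl⟩
    · rw [Derivation.leibniz_pow, ← Nat.cast_smul_eq_nsmul K, CharP.cast_eq_zero, zero_smul]
      exact Submodule.zero_mem _
    · exact Submodule.subset_span ⟨β, hβ, rfl⟩
  | algebraMap c =>
    rw [Derivation.map_algebraMap]
    exact Submodule.zero_mem _
  | add a b _ _ ha hb =>
    rw [map_add]
    exact add_mem ha hb
  | inv a _ ha =>
    by_cases h0 : a = 0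
    · rw [h0, inv_zero, map_zero]
      exact Submodule.zero_mem _
    · have h1 : D k₀ K (a * a⁻¹) = 0 := by
        rw [mul_inv_cancel₀ h0]
        exact (D k₀ K).map_one_eq_zero
      rw [Derivation.leibniz] at h1
      have h2 : D k₀ K a⁻¹ = -(a⁻¹ • (a⁻¹ • D k₀ K a)) := by
        have h3 : a • D k₀ K a⁻¹ = -(a⁻¹ • D k₀ K a) := eq_neg_of_add_eq_zero_left h1
        have h4 : D k₀ K a⁻¹ = a⁻¹ • (a • D k₀ K a⁻¹) := by
          rw [smul_smul, inv_mul_cancel₀ h0, one_smul]
        rw [h4, h3, smul_neg]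
      rw [h2]
      exact Submodule.neg_mem _ (Submodule.smul_mem _ _ (Submodule.smul_mem _ _ ha))
  | mul a b _ _ ha hb =>
    rw [Derivation.leibniz]
    exact add_mem (Submodule.smul_mem _ _ hb) (Submodule.smul_mem _ _ ha)

include hp in
/-- `⋂_J k_J = k₀(K^p)` -/
theorem mem_PK_of_forall_mem_kJ (hB : IsPBasis p k₀ (Subtype.val : B → K)) (c : K)
    (hc : ∀ J : Finset B, c ∈ kJ (k₀ := k₀) p B J) : c ∈ PK p k₀ K := by
  classical
  by_contra hnot
  have hne := D_ne_zero_of_notMem p c hnot
  obtain ⟨b, hb⟩ := exists_basis_D p (Subtype.val : B → K) hB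
  let J₀ : Finset B := (b.repr (D k₀ K c)).support
  have h1 := D_mem_span_of_mem_kJ p B J₀ c (hc J₀)
  have h2 : ((fun β : B => D k₀ K (β : K)) '' {β | β ∉ J₀}) = b '' {β | β ∉ J₀} := by
    refine Set.image_congr fun β _ => ?_
    exact (hb β).symm
  rw [h2, b.mem_span_image] at h1
  apply hne
  have h3 : b.repr (D k₀ K c) = 0 := by
    ext β
    by_contra hβ
    have hβ' : β ∈ (b.repr (D k₀ K c)).support := Finsupp.mem_support_iff.2 hβ
    exact (h1 (Finset.mem_coe.2 hβ')) hβ'
  exact b.repr.map_eq_zero_iff.1 h3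

end Inf

section Prime

open Groth.Agent.Lib.AdicFSFieldH3

variable (p : ℕ) [hp : Fact p.Prime] {K : Type u} [Field K] [CharP K p]

include hp in
theorem mem_PK_primeField_iff (y : K) : y ∈ PK p (PrimeField K) K ↔ ∃ z : K, z ^ p = y := by
  constructor
  · intro hy
    let R : IntermediateField (PrimeField K) K :=
      { toSubalgebra :=
          { toSubsemiring := (frobenius K p).fieldRange.toSubring.toSubsemiring
            algebraMap_mem' := fun c => by
              have h1 : (⊥ : Subfield K) ≤ (frobenius K p).fieldRange := bot_le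
              exact h1 c.2 }
        inv_mem' := fun x hx => (frobenius K p).fieldRange.inv_mem hx }
    have hle : PK p (PrimeField K) K ≤ R := by
      rw [IntermediateField.adjoin_le_iff]
      rintro _ ⟨z, rfl⟩
      exact ⟨z, rfl⟩
    obtain ⟨z, hz⟩ := hle hy
    exact ⟨z, hz⟩
  · rintro ⟨z, rfl⟩
    exact IntermediateField.subset_adjoin _ _ ⟨z, rfl⟩

end Prime

end Groth.Agent.Lib.PBasisH3
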