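import Mathlib

/-!
# The subrings `F[[T^p]]` of `k[[T]]` in characteristic `p` (helper3)

`frobSubring p F` : power series with coefficients in the subfield `F` and exponents divisible
by `p`.
* `mem_of_mul_eq` : `f * b = c`, `b, c ∈ F[[T^p]]`, `b ≠ 0` ⇒ `f ∈ F[[T^p]]`.
* `forall_mem_closure_iff` : `⋂ Frac (F_i[[T^p]]) = Frac(k[[T]])^p` when `⋂ F_i = k^p`.
APPEND-ONLY once landed.
-/

set_option autoImplicit false
set_option maxSynthPendingDepth 3

namespace Groth.Agent.Lib.PSFrobFamilyH3

universe u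

open MvPowerSeries

section Basic

variable (p : ℕ) {k : Type u} [Field k] {σ : Type*}

/-- all exponents divisible by `p` -/
def Pd (n : σ →₀ ℕ) : Prop := ∀ i, p ∣ n i

variable {p} in
theorem Pd.add {a b : σ →₀ ℕ} (ha : Pd p a) (hb : Pd p b) : Pd p (a + b) := fun i => by
  rw [Finsupp.add_apply]; exact Nat.dvd_add (ha i) (hb i)

variable {p} in
theorem Pd.of_add_right {a b : σ →₀ ℕ} (hb : Pd p b) (hab : Pd p (a + b)) : Pd p a := fun i => by
  have h := hab i
  rw [Finsupp.add_apply] at h
  exact (Nat.dvd_add_left (hb i)).1 h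

theorem pd_zero : Pd p (0 : σ →₀ ℕ) := fun i => by simp

/-- coefficients in `F`, exponents divisible by `p` -/
def Good (F : Subfield k) (f : MvPowerSeries σ k) : Prop :=
  ∀ n, coeff n f ∈ F ∧ (coeff n f ≠ 0 → Pd p n)

/-- `F[[T^p]]` -/
def frobSubring (F : Subfield k) : Subring (MvPowerSeries σ k) where
  carrier := {f | Good p F f}
  mul_mem' := fun {f g} hf hg n => by
    classical
    rw [coeff_mul]
    refine ⟨F.sum_mem fun x _ => F.mul_mem (hf _).1 (hg _).1, fun hne => ?_⟩
    obtain ⟨x, hx, hx0⟩ := Finset.exists_ne_zero_of_sum_ne_zero hne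
    have h1 : coeff x.1 f ≠ 0 := left_ne_zero_of_mul hx0
    have h2 : coeff x.2 g ≠ 0 := right_ne_zero_of_mul hx0
    replace hx : x.1 + x.2 = n := Finset.HasAntidiagonal.mem_antidiagonal.1 hx
    rw [← hx]
    exact ((hf _).2 h1).add ((hg _).2 h2)
  one_mem' := fun n => by
    classical
    rw [coeff_one]
    split_ifs with h
    · exact ⟨F.one_mem, fun _ => h ▸ pd_zero p⟩
    · exact ⟨F.zero_mem, fun h0 => absurd rfl h0⟩
  add_mem' := fun {f g} hf hg n => by
    rw [map_add]
    refine ⟨F.add_mem (hf n).1 (hg n).1, fun hne => ?_⟩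
    by_cases h1 : coeff n f = 0
    · rw [h1, zero_add] at hne
      exact (hg n).2 hne
    · exact (hf n).2 h1
  zero_mem' := fun n => by
    rw [map_zero]
    exact ⟨F.zero_mem, fun h0 => absurd rfl h0⟩
  neg_mem' := fun {f} hf n => by
    rw [map_neg]
    exact ⟨F.neg_mem (hf n).1, fun hne => (hf n).2 (neg_ne_zero.1 hne)⟩

theorem mem_frobSubring {F : Subfield k} {f : MvPowerSeries σ k} :
    f ∈ frobSubring (σ := σ) p F ↔ Good p F f := Iff.rfl

theorem frobSubring_mono {F G : Subfield k} (h : F ≤ G) :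
    frobSubring (σ := σ) p F ≤ frobSubring p G := fun _ hf n => ⟨h (hf n).1, (hf n).2⟩

/-- Division: `f * b = c` with `b, c ∈ F[[T^p]]`, `b ≠ 0` forces `f ∈ F[[T^p]]`. -/
theorem mem_of_mul_eq (F : Subfield k) (f b c : MvPowerSeries σ k)
    (hb : b ∈ frobSubring (σ := σ) p F) (hc : c ∈ frobSubring (σ := σ) p F) (hb0 : b ≠ 0)
    (h : f * b = c) : f ∈ frobSubring (σ := σ) p F := by
  classical
  obtain ⟨lam, hlam⟩ := LinearMap.exists_leftInverse_of_injective (Algebra.linearMap F k)
    (LinearMap.ker_eq_bot.2 (fun x y hxy => Subtype.ext hxy))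
  have hlamF : ∀ (y : k) (hy : y ∈ F), lam y = ⟨y, hy⟩ := by
    intro y hy
    have := LinearMap.congr_fun hlam ⟨y, hy⟩
    exact this
  have hlammul : ∀ (y β : k) (hβ : β ∈ F), ((lam (y * β) : F) : k) = (lam y : k) * β := by
    intro y β hβ
    have h1 : y * β = (⟨β, hβ⟩ : F) • y := by
      rw [Subfield.smul_def]; exact mul_comm _ _
    rw [h1, map_smul, smul_eq_mul, Subfield.coe_mul, mul_comm]
  let Lam : MvPowerSeries σ k → MvPowerSeries σ k := fun g n =>
    if Pd p n then ((lam (coeff n g) : F) : k) else 0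
  have hLam : ∀ g n, coeff n (Lam g) = if Pd p n then ((lam (coeff n g) : F) : k) else 0 :=
    fun g n => rfl
  have hLamc : Lam c = c := by
    ext n
    rw [hLam]
    split_ifs with hn
    · rw [hlamF _ (hc n).1]
    · by_contra h0
      exact hn ((hc n).2 (Ne.symm h0))
  have hLammul : Lam (f * b) = Lam f * b := by
    ext n
    rw [hLam, coeff_mul, coeff_mul]
    split_ifs with hn
    · rw [map_sum, AddSubmonoidClass.coe_finset_sum]
      refine Finset.sum_congr rfl fun x hx => ?_
      replace hx : x.1 + x.2 = n := Finset.HasAntidiagonal.mem_antidiagonal.1 hx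
      rw [hlammul _ _ (hb _).1, hLam]
      by_cases hx2 : coeff x.2 b = 0
      · rw [hx2, mul_zero, mul_zero]
      · have h2 : Pd p x.2 := (hb _).2 hx2
        have h1 : Pd p x.1 := Pd.of_add_right h2 (hx ▸ hn)
        rw [if_pos h1]
    · symm
      refine Finset.sum_eq_zero fun x hx => ?_
      replace hx : x.1 + x.2 = n := Finset.HasAntidiagonal.mem_antidiagonal.1 hx
      by_cases hx2 : coeff x.2 b = 0
      · rw [hx2, mul_zero]
      · have h2 : Pd p x.2 := (hb _).2 hx2
        have h1 : ¬ Pd p x.1 := fun h1 => hn (hx ▸ h1.add h2)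
        rw [hLam, if_neg h1, zero_mul]
  have h2 : (Lam f - f) * b = 0 := by
    rw [sub_mul, ← hLammul, h, hLamc, sub_self]
  haveI : IsDomain (MvPowerSeries σ k) := NoZeroDivisors.to_isDomain _
  have h3 : Lam f = f := by
    rcases mul_eq_zero.1 h2 with h3 | h3
    · exact sub_eq_zero.1 h3
    · exact absurd h3 hb0
  intro n
  rw [← h3, hLam]
  split_ifs with hn
  · exact ⟨(lam (coeff n f)).2, fun _ => hn⟩
  · exact ⟨F.zero_mem, fun h0 => absurd rfl h0⟩

end Basic

section Pow

variable (p : ℕ) [hp : Fact p.Prime] {k : Type u} [Field k] [CharP k p] {σ : Type*}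

include hp in
/-- coefficients of a `p`-th power -/
theorem coeff_pow_p (g : MvPowerSeries σ k) (n : σ →₀ ℕ) :
    (Pd p n → ∃ m : σ →₀ ℕ, n = p • m ∧ coeff n (g ^ p) = (coeff m g) ^ p) ∧
      (¬ Pd p n → coeff n (g ^ p) = 0) := by
  haveI : ExpChar k p := ExpChar.prime hp.out
  have hp0 : p ≠ 0 := hp.out.ne_zero
  rw [← MvPowerSeries.map_frobenius_expand p hp0, coeff_map]
  constructor
  · intro hn
    let m : σ →₀ ℕ := n.mapRange (fun a => a / p) (Nat.zero_div p)
    have hm : n = p • m := by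
      ext i
      simp only [m, Finsupp.smul_apply, Finsupp.mapRange_apply, smul_eq_mul]
      exact (Nat.mul_div_cancel' (hn i)).symm
    refine ⟨m, hm, ?_⟩
    rw [hm, coeff_expand_smul]
    rfl
  · intro hn
    unfold Pd at hn
    push Not at hn
    obtain ⟨i, hi⟩ := hn
    rw [coeff_expand_of_not_dvd p hp0 g hi, map_zero]

include hp in
theorem pow_p_mem (F : Subfield k) (hF : ∀ x : k, x ^ p ∈ F) (g : MvPowerSeries σ k) :
    g ^ p ∈ frobSubring (σ := σ) p F := by
  intro n
  by_cases hn : Pd p n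
  · obtain ⟨m, -, hm⟩ := (coeff_pow_p p g n).1 hn
    exact ⟨hm ▸ hF _, fun _ => hn⟩
  · have h0 := (coeff_pow_p p g n).2 hn
    exact ⟨h0 ▸ F.zero_mem, fun hne => absurd h0 hne⟩

include hp in
/-- a power series in all `F_i[[T^p]]`, `⋂ F_i = k^p`, is a `p`-th power -/
theorem exists_pow_eq {ι : Type*} [hι : Nonempty ι] (F : ι → Subfield k)
    (hinf : ∀ x : k, (∀ i, x ∈ F i) → ∃ y : k, y ^ p = x) (f : MvPowerSeries σ k)
    (hf : ∀ i, f ∈ frobSubring (σ := σ) p (F i)) : ∃ g : MvPowerSeries σ k, g ^ p = f := by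
  classical
  have hroot : ∀ m : σ →₀ ℕ, ∃ y : k, y ^ p = coeff (p • m) f := fun m =>
    hinf _ (fun i => ((hf i) _).1)
  choose y hy using hroot
  refine ⟨fun m => y m, ?_⟩
  ext n
  by_cases hn : Pd p n
  · obtain ⟨m, hm, hcoeff⟩ := (coeff_pow_p p (fun m => y m : MvPowerSeries σ k) n).1 hn
    rw [hcoeff, hm]
    exact hy m
  · rw [(coeff_pow_p p (fun m => y m : MvPowerSeries σ k) n).2 hn]
    obtain ⟨i⟩ := hι
    by_contra h0
    exact hn (((hf i) n).2 (Ne.symm h0))

end Pow

section Closure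

variable (p : ℕ) [hp : Fact p.Prime] {k : Type u} [Field k] [CharP k p] (σ : Type*)

local notation "PS" => MvPowerSeries σ k
local notation "KK" => FractionRing (MvPowerSeries σ k)

omit hp [CharP k p] in
/-- elements of `Frac (F[[T^p]])` are quotients of elements of `F[[T^p]]` -/
theorem mem_closure_iff (F : Subfield k) (x : KK) :
    x ∈ Subfield.closure (algebraMap PS KK '' (frobSubring (σ := σ) p F : Set PS)) ↔
      ∃ a ∈ frobSubring (σ := σ) p F, ∃ b ∈ frobSubring (σ := σ) p F,
        algebraMap PS KK a / algebraMap PS KK b = x := by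
  have hset : (algebraMap PS KK '' (frobSubring (σ := σ) p F : Set PS)) =
      (((frobSubring (σ := σ) p F).map (algebraMap PS KK) : Subring KK) : Set KK) := by
    rw [Subring.coe_map]
  rw [hset, Subfield.mem_closure_iff, Subring.closure_eq]
  constructor
  · rintro ⟨y, ⟨a, ha, rfl⟩, z, ⟨b, hb, rfl⟩, rfl⟩
    exact ⟨a, ha, b, hb, rfl⟩
  · rintro ⟨a, ha, b, hb, rfl⟩
    exact ⟨_, ⟨a, ha, rfl⟩, _, ⟨b, hb, rfl⟩, rfl⟩

include hp in
theorem forall_mem_closure_iff {ι : Type*} [Nonempty ι] (F : ι → Subfield k)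
    (hpow : ∀ i (x : k), x ^ p ∈ F i)
    (hinf : ∀ x : k, (∀ i, x ∈ F i) → ∃ y : k, y ^ p = x) (x : KK) :
    (∀ i, x ∈ Subfield.closure (algebraMap PS KK '' (frobSubring (σ := σ) p (F i) : Set PS))) ↔
      ∃ y : KK, y ^ p = x := by
  classical
  haveI : IsDomain PS := NoZeroDivisors.to_isDomain _
  have hinj : Function.Injective (algebraMap PS KK) := IsFractionRing.injective PS KK
  have hp1 : p = (p - 1) + 1 := (Nat.sub_add_cancel hp.out.one_le).symm
  constructor
  · intro hx
    obtain ⟨i₀⟩ := ‹Nonempty ι›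
    obtain ⟨a, -, b, -, hab⟩ := (mem_closure_iff p σ (F i₀) x).1 (hx i₀)
    by_cases hb0 : b = 0
    · refine ⟨0, ?_⟩
      rw [← hab, hb0, map_zero, div_zero, zero_pow hp.out.ne_zero]
    have hh : ∀ i, b ^ p ∈ frobSubring (σ := σ) p (F i) := fun i => pow_p_mem p (F i) (hpow i) b
    have hh0 : b ^ p ≠ 0 := pow_ne_zero _ hb0
    have hιb : algebraMap PS KK b ≠ 0 := fun h0 => hb0 (hinj (h0.trans (map_zero _).symm))
    obtain ⟨f, hf_def⟩ : ∃ f : PS, f = a * b ^ (p - 1) := ⟨_, rfl⟩
    have hxf : algebraMap PS KK f = x * algebraMap PS KK (b ^ p) := by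
      rw [hf_def, ← hab, map_mul, map_pow, map_pow]
      conv_rhs => rw [hp1, pow_succ]
      field_simp
    have hfmem : ∀ i, f ∈ frobSubring (σ := σ) p (F i) := by
      intro i
      obtain ⟨ai, hai, bi, hbi, habi⟩ := (mem_closure_iff p σ (F i) x).1 (hx i)
      by_cases hbi0 : bi = 0
      · have hx0 : x = 0 := by rw [← habi, hbi0, map_zero, div_zero]
        have hf0 : f = 0 := by
          apply hinj
          rw [hxf, hx0, zero_mul, map_zero]
        rw [hf0]
        exact Subring.zero_mem _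
      have hιbi : algebraMap PS KK bi ≠ 0 :=
        fun h0 => hbi0 (hinj (h0.trans (map_zero _).symm))
      refine mem_of_mul_eq p (F i) f bi (ai * b ^ p) hbi (Subring.mul_mem _ hai (hh i)) hbi0 ?_
      apply hinj
      rw [map_mul, map_mul, hxf, ← habi]
      field_simp
    obtain ⟨g, hg⟩ := exists_pow_eq p F hinf f hfmem
    refine ⟨algebraMap PS KK g / algebraMap PS KK b, ?_⟩
    rw [div_pow, ← map_pow, ← map_pow, hg, hxf, mul_div_assoc, div_self, mul_one]
    exact fun h0 => hh0 (hinj (h0.trans (map_zero _).symm))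
  · rintro ⟨y, rfl⟩ i
    obtain ⟨a, b, -, hab⟩ := IsFractionRing.div_surjective (A := PS) y
    rw [← hab, div_pow, ← map_pow, ← map_pow]
    exact (Subfield.closure _).div_mem
      (Subfield.subset_closure ⟨_, pow_p_mem p (F i) (hpow i) a, rfl⟩)
      (Subfield.subset_closure ⟨_, pow_p_mem p (F i) (hpow i) b, rfl⟩)

end Closure
section Free

variable (p : ℕ) [hp : Fact p.Prime] {k : Type u} [Field k] {σ : Type*} [Fintype σ] [DecidableEq σ]

/-- the exponent vector attached to a residue vector -/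
noncomputable def expo (ρ : σ → Fin p) : σ →₀ ℕ := Finsupp.equivFunOnFinite.symm (fun i => (ρ i : ℕ))

omit hp in
theorem expo_apply (ρ : σ → Fin p) (i : σ) : expo p ρ i = (ρ i : ℕ) := rfl

/-- the residue vector of an exponent vector -/
def resid (n : σ →₀ ℕ) : σ → Fin p := fun i => ⟨n i % p, Nat.mod_lt _ hp.out.pos⟩

theorem resid_iff (n : σ →₀ ℕ) (ρ : σ → Fin p) :
    (expo p ρ ≤ n ∧ Pd p (n - expo p ρ)) ↔ ρ = resid p n := by
  constructor
  · rintro ⟨hle, hpd⟩
    funext i
    apply Fin.ext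
    show (ρ i : ℕ) = n i % p
    have h1 : (ρ i : ℕ) ≤ n i := by
      have := hle i
      rwa [expo_apply] at this
    obtain ⟨q, hq⟩ := hpd i
    rw [Finsupp.tsub_apply, expo_apply] at hq
    have h2 : n i = (ρ i : ℕ) + p * q := by omega
    rw [h2, Nat.add_mul_mod_self_left, Nat.mod_eq_of_lt (ρ i).2]
  · rintro rfl
    refine ⟨fun i => ?_, fun i => ?_⟩
    · rw [expo_apply]
      exact Nat.mod_le _ _
    · rw [Finsupp.tsub_apply, expo_apply]
      exact Nat.dvd_sub_mod _

theorem resid_add (m : σ →₀ ℕ) (hm : Pd p m) (ρ : σ → Fin p) : resid p (m + expo p ρ) = ρ := by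
  symm
  rw [← resid_iff]
  refine ⟨fun i => ?_, ?_⟩
  · rw [Finsupp.add_apply]; exact Nat.le_add_left _ _
  · rw [add_tsub_cancel_right]; exact hm

variable (F : Subfield k) {N : ℕ} (e : Module.Basis (Fin N) F k)

open Classical in
/-- the coordinate series -/
noncomputable def coordFun (ρ : σ → Fin p) (l : Fin N) (f : MvPowerSeries σ k) :
    MvPowerSeries σ k :=
  fun n => if Pd p n then ((e.repr (coeff (n + expo p ρ) f) l : F) : k) else 0

open Classical in
omit hp in
theorem coeff_coordFun_pos (ρ : σ → Fin p) (l : Fin N) (f : MvPowerSeries σ k) (n : σ →₀ ℕ)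
    (hn : Pd p n) :
    coeff n (coordFun p F e ρ l f) = ((e.repr (coeff (n + expo p ρ) f) l : F) : k) := by
  show (if Pd p n then ((e.repr (coeff (n + expo p ρ) f) l : F) : k) else 0) = _
  rw [if_pos hn]

open Classical in
omit hp in
theorem coeff_coordFun_neg (ρ : σ → Fin p) (l : Fin N) (f : MvPowerSeries σ k) (n : σ →₀ ℕ)
    (hn : ¬ Pd p n) : coeff n (coordFun p F e ρ l f) = 0 := by
  show (if Pd p n then ((e.repr (coeff (n + expo p ρ) f) l : F) : k) else 0) = _
  rw [if_neg hn]

omit hp in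
theorem coordFun_mem (ρ : σ → Fin p) (l : Fin N) (f : MvPowerSeries σ k) :
    coordFun p F e ρ l f ∈ frobSubring (σ := σ) p F := by
  intro n
  by_cases hn : Pd p n
  · rw [coeff_coordFun_pos p F e ρ l f n hn]
    exact ⟨Subtype.property _, fun _ => hn⟩
  · rw [coeff_coordFun_neg p F e ρ l f n hn]
    exact ⟨F.zero_mem, fun h0 => absurd rfl h0⟩

/-- the expansion of `f` -/
theorem sum_coordFun (f : MvPowerSeries σ k) :
    ∑ j : (σ → Fin p) × Fin N, coordFun p F e j.1 j.2 f * monomial (expo p j.1) (e j.2 : k) =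
      f := by
  classical
  ext n
  rw [map_sum, Fintype.sum_prod_type]
  rw [Finset.sum_eq_single (resid p n)]
  · have h1 := (resid_iff p n (resid p n)).2 rfl
    have h2 : ∀ l : Fin N, coeff n (coordFun p F e (resid p n) l f *
        monomial (expo p (resid p n)) (e l : k)) =
        ((e.repr (coeff n f) l : F) : k) * e l := by
      intro l
      rw [coeff_mul_monomial, if_pos h1.1, coeff_coordFun_pos p F e _ l f _ h1.2,
        tsub_add_cancel_of_le h1.1]
    rw [Finset.sum_congr rfl (fun l _ => h2 l)]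
    have h3 := e.sum_repr (coeff n f)
    simp only [Subfield.smul_def] at h3
    exact h3
  · intro ρ _ hρ
    refine Finset.sum_eq_zero fun l _ => ?_
    rw [coeff_mul_monomial]
    split_ifs with hle
    · rw [coeff_coordFun_neg, zero_mul]
      intro hpd
      exact hρ ((resid_iff p n ρ).1 ⟨hle, hpd⟩)
    · rfl
  · intro h
    exact absurd (Finset.mem_univ _) h

/-- uniqueness of expansions -/
theorem eq_zero_of_sum_eq_zero (s : (σ → Fin p) × Fin N → MvPowerSeries σ k)
    (hs : ∀ j, s j ∈ frobSubring (σ := σ) p F)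
    (hsum : ∑ j : (σ → Fin p) × Fin N, s j * monomial (expo p j.1) (e j.2 : k) = 0) :
    ∀ j, s j = 0 := by
  classical
  rintro ⟨ρ₀, l₀⟩
  ext m
  rw [map_zero]
  by_cases hm : Pd p m
  · have h1 := congrArg (coeff (m + expo p ρ₀)) hsum
    rw [map_sum, Fintype.sum_prod_type, map_zero] at h1
    rw [Finset.sum_eq_single ρ₀] at h1
    · have hle : expo p ρ₀ ≤ m + expo p ρ₀ := le_add_self
      have h2 : ∀ l : Fin N, coeff (m + expo p ρ₀) (s (ρ₀, l) * monomial (expo p ρ₀) (e l : k)) =
          (⟨coeff m (s (ρ₀, l)), ((hs (ρ₀, l)) m).1⟩ : F) • e l := by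
        intro l
        rw [coeff_mul_monomial, if_pos hle, add_tsub_cancel_right, Subfield.smul_def]
        rfl
      rw [Finset.sum_congr rfl (fun l _ => h2 l)] at h1
      have h3 := Fintype.linearIndependent_iff.1 e.linearIndependent _ h1 l₀
      exact congrArg Subtype.val h3
    · intro ρ _ hρ
      refine Finset.sum_eq_zero fun l _ => ?_
      rw [coeff_mul_monomial]
      split_ifs with hle
      · have h4 : coeff (m + expo p ρ₀ - expo p ρ) (s (ρ, l)) = 0 := by
          by_contra h0
          have hpd := ((hs (ρ, l)) _).2 h0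
          have := (resid_iff p (m + expo p ρ₀) ρ).1 ⟨hle, hpd⟩
          rw [resid_add p m hm ρ₀] at this
          exact hρ this
        rw [h4, zero_mul]
      · rfl
    · intro h
      exact absurd (Finset.mem_univ _) h
  · by_contra h0
    exact hm (((hs (ρ₀, l₀)) m).2 h0)

end Free

section Free2

variable (p : ℕ) [hp : Fact p.Prime] {k : Type u} [Field k] {σ : Type*} [Finite σ]

include hp in
theorem free_finite (F : Subfield k) [Module.Finite F k] :
    Module.Free (frobSubring (σ := σ) p F) (MvPowerSeries σ k) ∧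
      Module.Finite (frobSubring (σ := σ) p F) (MvPowerSeries σ k) := by
  classical
  haveI : Fintype σ := Fintype.ofFinite σ
  let e := Module.finBasis F k
  let b : (σ → Fin p) × Fin (Module.finrank F k) → MvPowerSeries σ k :=
    fun j => monomial (expo p j.1) (e j.2 : k)
  have hli : LinearIndependent (frobSubring (σ := σ) p F) b := by
    rw [Fintype.linearIndependent_iff]
    intro g hg j
    have h1 := eq_zero_of_sum_eq_zero p F e (fun j => (g j : MvPowerSeries σ k))
      (fun j => (g j).2) (by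
        rw [← hg]
        refine Finset.sum_congr rfl fun j _ => ?_
        rw [Subring.smul_def, smul_eq_mul]) j
    exact Subtype.ext h1
  have hsp : ⊤ ≤ Submodule.span (frobSubring (σ := σ) p F) (Set.range b) := by
    intro f _
    rw [← sum_coordFun p F e f]
    refine Submodule.sum_mem _ fun j _ => ?_
    have h1 : coordFun p F e j.1 j.2 f * monomial (expo p j.1) (e j.2 : k) =
        (⟨coordFun p F e j.1 j.2 f, coordFun_mem p F e j.1 j.2 f⟩ :
          frobSubring (σ := σ) p F) • b j := by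
      rw [Subring.smul_def, smul_eq_mul]
    rw [h1]
    exact Submodule.smul_mem _ _ (Submodule.subset_span ⟨j, rfl⟩)
  let bas := Module.Basis.mk hli hsp
  exact ⟨Module.Free.of_basis bas, Module.Finite.of_basis bas⟩

end Free2

section Noeth

open TensorProduct

variable (p : ℕ) [hp : Fact p.Prime] {k : Type u} [Field k] {σ : Type*} [Finite σ]

include hp in
theorem isNoetherianRing_frobSubring (F : Subfield k) [Module.Finite F k] :
    IsNoetherianRing (frobSubring (σ := σ) p F) := by
  obtain ⟨hfree, hfin⟩ := free_finite (σ := σ) p F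
  haveI := hfree
  haveI := hfin
  haveI : Module.FaithfullyFlat (frobSubring (σ := σ) p F) (MvPowerSeries σ k) := inferInstance
  have h : IsNoetherian (MvPowerSeries σ k)
      (MvPowerSeries σ k ⊗[frobSubring (σ := σ) p F] (frobSubring (σ := σ) p F)) :=
    isNoetherian_of_linearEquiv (TensorProduct.AlgebraTensorModule.rid
      (frobSubring (σ := σ) p F) (MvPowerSeries σ k) (MvPowerSeries σ k)).symm
  exact Submodule.IsNoetherian.of_isNoetherian_tensorProduct_of_faithfullyFlat h

end Noeth

end Groth.Agent.Lib.PSFrobFamilyH3
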