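import Mathlib
import Groth.Prelude.Def_EGA4b
import Groth.Agent.Lib.GenericFibreCharP_helper3
import Groth.Agent.Lib.SmoothRegHom_helper3
import Groth.Agent.Lib.RegHomBC_helper3
import Groth.Agent.Lib.RegPS_helper3
import Groth.Agent.S4548

/-!
# Generic formal fibres of localizations of power series rings (helper3)

* `isGeometricallyRegular_generic_charZero`: for a regular local domain `D` whose fraction field
  has characteristic zero, the generic formal fibre `Frac D ⊗ D^` is geometrically regular.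
* `isGeometricallyRegular_formalFibre_mvPowerSeries`: for `Λ` a field or a regular local domain
  of characteristic zero and a prime `P` of `Λ[[T_1..T_n]]`, the generic formal fibre of the
  localization at `P` is geometrically regular.
-/

set_option autoImplicit false

namespace Groth.Agent.Lib.GRingBaseH3

universe u

open TensorProduct IsLocalRing

section CharZero

theorem isGeometricallyRegular_generic_charZero (D : Type u) [CommRing D] [IsDomain D]
    [IsRegularLocalRing D] (κ₀ : Type u) [Field κ₀] [Algebra D κ₀] [IsFractionRing D κ₀]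
    [CharZero κ₀] :
    CAlg.IsGeometricallyRegular κ₀ (κ₀ ⊗[D] EGA4.Cpl D) := by
  obtain ⟨hloc, hnoeth, hcompl, -, -, hmap⟩ := AnUnramH3.completion_facts D
  haveI := hloc
  haveI := hnoeth
  haveI := hcompl
  haveI : IsRegularLocalRing (EGA4.Cpl D) :=
    (Groth.Agent.RegularLib.isRegularLocalRing_adicCompletion_iff D (maximalIdeal D)
      (Ideal.IsMaximal.ne_top (maximalIdeal.isMaximal D))).1 inferInstance
  haveI : IsRegularRing (EGA4.Cpl D) :=
    Groth.Agent.Lib.FlatPSH3.isRegularRing_of_isRegularLocalRing _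
  letI algR : Algebra (EGA4.Cpl D) (κ₀ ⊗[D] EGA4.Cpl D) := Algebra.TensorProduct.rightAlgebra
  haveI hlocF : IsLocalization (Algebra.algebraMapSubmonoid (EGA4.Cpl D) (nonZeroDivisors D))
      (κ₀ ⊗[D] EGA4.Cpl D) := IsLocalization.tensorRight κ₀ (nonZeroDivisors D)
  haveI : IsRegularRing (κ₀ ⊗[D] EGA4.Cpl D) :=
    Groth.Agent.Lib.RegLocH3.isRegularRing_of_isLocalization
      (Algebra.algebraMapSubmonoid (EGA4.Cpl D) (nonZeroDivisors D)) _
  haveI : IsNoetherianRing (κ₀ ⊗[D] EGA4.Cpl D) :=
    IsLocalization.isNoetherianRing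
      (Algebra.algebraMapSubmonoid (EGA4.Cpl D) (nonZeroDivisors D)) _ inferInstance
  intro k' _ _ hfin
  haveI : Module.Finite κ₀ k' := hfin
  haveI : Algebra.IsSeparable κ₀ k' := inferInstance
  haveI : Algebra.FormallyEtale κ₀ k' := Algebra.FormallyEtale.of_isSeparable κ₀ k'
  haveI : Algebra.FinitePresentation κ₀ k' :=
    Algebra.FinitePresentation.of_finiteType.mp inferInstance
  haveI : Algebra.Smooth κ₀ k' := ⟨inferInstance, inferInstance⟩
  have hreg : CAlg.IsRegularHom κ₀ k' :=
    Groth.Agent.Lib.SmoothRegHomH3.isRegularHom_of_smooth κ₀ k'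
  haveI : IsNoetherianRing (k' ⊗[κ₀] (κ₀ ⊗[D] EGA4.Cpl D)) :=
    Groth.Agent.Lib.GeomRegFSH3.isNoetherianRing_tensor_of_finite k'
  haveI : IsNoetherianRing ((κ₀ ⊗[D] EGA4.Cpl D) ⊗[κ₀] k') :=
    isNoetherianRing_of_ringEquiv _
      (Algebra.TensorProduct.comm κ₀ k' (κ₀ ⊗[D] EGA4.Cpl D)).toRingEquiv
  haveI := Groth.Agent.Lib.RegHomBCH3.isRegularRing_baseChange κ₀ k' hreg (κ₀ ⊗[D] EGA4.Cpl D)
  let e : (κ₀ ⊗[D] EGA4.Cpl D) ⊗[κ₀] k' ≃ₐ[κ₀] k' ⊗[κ₀] (κ₀ ⊗[D] EGA4.Cpl D) :=
    Algebra.TensorProduct.comm κ₀ (κ₀ ⊗[D] EGA4.Cpl D) k'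
  exact IsRegularRing.of_ringEquiv (R := (κ₀ ⊗[D] EGA4.Cpl D) ⊗[κ₀] k') e.toRingEquiv

theorem isGeometricallyRegular_formalFibre_charZero (A : Type u) [CommRing A] [IsDomain A]
    [IsRegularRing A] [CharZero A] (P : Ideal A) [P.IsPrime] :
    CAlg.IsGeometricallyRegular (⊥ : Ideal (Localization.AtPrime P)).ResidueField
      (EGA4.formalFibre (Localization.AtPrime P) ⊥) := by
  have hinjD : Function.Injective (algebraMap A (Localization.AtPrime P)) :=
    IsLocalization.injective _ P.primeCompl_le_nonZeroDivisors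
  have hinjκ : Function.Injective (algebraMap (Localization.AtPrime P)
      (⊥ : Ideal (Localization.AtPrime P)).ResidueField) :=
    IsFractionRing.injective _ _
  have hinj : Function.Injective (algebraMap A
      (⊥ : Ideal (Localization.AtPrime P)).ResidueField) := by
    rw [IsScalarTower.algebraMap_eq A (Localization.AtPrime P)
      (⊥ : Ideal (Localization.AtPrime P)).ResidueField]
    exact hinjκ.comp hinjD
  haveI : CharZero (⊥ : Ideal (Localization.AtPrime P)).ResidueField :=
    charZero_of_injective_algebraMap hinj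
  exact isGeometricallyRegular_generic_charZero (Localization.AtPrime P)
    (⊥ : Ideal (Localization.AtPrime P)).ResidueField

end CharZero

section PS

instance instIsDomainMvPowerSeries (σ R : Type*) [CommRing R] [IsDomain R] :
    IsDomain (MvPowerSeries σ R) := NoZeroDivisors.to_isDomain _

variable (Λ : Type u) [CommRing Λ] [IsDomain Λ] [IsRegularLocalRing Λ] (n : ℕ)

theorem isRegularRing_mvPowerSeries : IsRegularRing (MvPowerSeries (Fin n) Λ) := by
  haveI := Groth.Agent.Lib.RegPSH3.isRegularLocalRing_mvPowerSeries Λ n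
  exact Groth.Agent.Lib.FlatPSH3.isRegularRing_of_isRegularLocalRing _

theorem isGeometricallyRegular_formalFibre_mvPowerSeries
    (hchar : CharZero Λ ∨ (IsField Λ ∧ ∃ p : ℕ, p.Prime ∧ CharP Λ p))
    (P : Ideal (MvPowerSeries (Fin n) Λ)) [P.IsPrime] :
    CAlg.IsGeometricallyRegular (⊥ : Ideal (Localization.AtPrime P)).ResidueField
      (EGA4.formalFibre (Localization.AtPrime P) ⊥) := by
  haveI := isRegularRing_mvPowerSeries Λ n
  rcases hchar with h0 | ⟨hf, p, hp, hcp⟩
  · haveI := h0
    haveI : CharZero (MvPowerSeries (Fin n) Λ) :=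
      charZero_of_injective_ringHom (f := (MvPowerSeries.C : Λ →+* MvPowerSeries (Fin n) Λ))
        MvPowerSeries.C_injective
    exact isGeometricallyRegular_formalFibre_charZero _ P
  · haveI : Fact p.Prime := ⟨hp⟩
    haveI := hcp
    haveI : CharP (MvPowerSeries (Fin n) Λ) p :=
      charP_of_injective_ringHom (f := (MvPowerSeries.C : Λ →+* MvPowerSeries (Fin n) Λ))
        MvPowerSeries.C_injective p
    letI := hf.toField
    obtain ⟨ι, hne, S, hdir, hS, hint⟩ := Groth.Agent.S4548.result p Λ n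
    haveI := hne
    refine Groth.Agent.Lib.GenericFibreCharPH3.isGeometricallyRegular_formalFibre p
      (MvPowerSeries (Fin n) Λ) S hdir (fun i => (hS i).2.2) ?_ P
    intro x
    have hx := Set.ext_iff.mp hint x
    rw [Set.iInf_eq_iInter, Set.mem_iInter] at hx
    exact hx

end PS

end Groth.Agent.Lib.GRingBaseH3
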