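import Mathlib
import Groth.Prelude.Def_EGA4b
import Groth.Agent.Lib.GRingCore_helper3
import Groth.Agent.Lib.GRingBase_helper3
import Groth.Agent.Lib.GeomRegFS_helper3
import Groth.Agent.Lib.RegFlat_helper3
import Groth.Agent.Lib.AnUnram_helper3
import Groth.Agent.S0581

/-!
# Generic formal fibres of localizations of finite extensions (helper3)
-/

set_option autoImplicit false

namespace Groth.Agent.Lib.GRingFiniteH3

universe u

open TensorProduct IsLocalRing

section LemmaR

variable (A₂ : Type u) [CommRing A₂] [IsNoetherianRing A₂] (P₂ : Ideal A₂) [P₂.IsPrime]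

theorem isScalarTower_cpl :
    IsScalarTower A₂ (Localization.AtPrime P₂) (EGA4.Cpl (Localization.AtPrime P₂)) :=
  IsScalarTower.of_algebraMap_eq (fun _ => rfl)

/-- Lemma N: nontriviality of `L ⊗ D₂^` when `A₂ ∖ P₂` acts invertibly on `L`. -/
theorem nontrivial_tensor_cpl_localization (L : Type u) [CommRing L] [Nontrivial L] [Algebra A₂ L]
    (hunit : ∀ s : P₂.primeCompl, IsUnit (algebraMap A₂ L s)) :
    Nontrivial (L ⊗[A₂] EGA4.Cpl (Localization.AtPrime P₂)) := by
  obtain ⟨hloc, hnoeth, hcompl, hff, hlh, hmap⟩ :=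
    AnUnramH3.completion_facts (Localization.AtPrime P₂)
  haveI := hff
  haveI := isScalarTower_cpl A₂ P₂
  letI algDL : Algebra (Localization.AtPrime P₂) L :=
    (IsLocalization.lift (M := P₂.primeCompl) (g := algebraMap A₂ L) hunit).toAlgebra
  haveI : IsScalarTower A₂ (Localization.AtPrime P₂) L := IsScalarTower.of_algebraMap_eq (fun a =>
    (IsLocalization.lift_eq (M := P₂.primeCompl) hunit a).symm)
  let e : L ⊗[Localization.AtPrime P₂] EGA4.Cpl (Localization.AtPrime P₂) ≃ₐ[Localization.AtPrime P₂]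
      L ⊗[A₂] EGA4.Cpl (Localization.AtPrime P₂) :=
    IsLocalization.algebraTensorEquiv P₂.primeCompl (Localization.AtPrime P₂) L
      (EGA4.Cpl (Localization.AtPrime P₂))
  exact e.symm.toEquiv.nontrivial

variable [IsDomain A₂]

/-- Lemma R -/
theorem isRegularRing_tensor_cpl_localization
    (hgen : CAlg.IsGeometricallyRegular (⊥ : Ideal (Localization.AtPrime P₂)).ResidueField
      (EGA4.formalFibre (Localization.AtPrime P₂) ⊥))
    (K : Type u) [Field K] [Algebra A₂ K] [Algebra.EssFiniteType A₂ K]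
    (hinj : Function.Injective (algebraMap A₂ K)) :
    IsRegularRing (K ⊗[A₂] EGA4.Cpl (Localization.AtPrime P₂)) := by
  obtain ⟨hloc, hnoeth, hcompl, hff, hlh, hmap⟩ :=
    AnUnramH3.completion_facts (Localization.AtPrime P₂)
  haveI := hloc
  haveI := hnoeth
  haveI := isScalarTower_cpl A₂ P₂
  have hunit : ∀ s : P₂.primeCompl, IsUnit (algebraMap A₂ K s) := fun s =>
    isUnit_iff_ne_zero.mpr (fun h0 => s.2 (by
      have : (s : A₂) = 0 := hinj (h0.trans (map_zero _).symm)
      rw [this]; exact zero_mem _))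
  letI algDK : Algebra (Localization.AtPrime P₂) K :=
    (IsLocalization.lift (M := P₂.primeCompl) (g := algebraMap A₂ K) hunit).toAlgebra
  haveI towADK : IsScalarTower A₂ (Localization.AtPrime P₂) K :=
    IsScalarTower.of_algebraMap_eq (fun a =>
      (IsLocalization.lift_eq (M := P₂.primeCompl) hunit a).symm)
  have hinjDK : Function.Injective (algebraMap (Localization.AtPrime P₂) K) := by
    have hinjD : Function.Injective (algebraMap A₂ (Localization.AtPrime P₂)) :=
      IsLocalization.injective _ P₂.primeCompl_le_nonZeroDivisors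
    refine (IsLocalization.lift_injective_iff (M := P₂.primeCompl) hunit).mpr (fun x y => ?_)
    constructor
    · intro h
      rw [hinjD h]
    · intro h
      rw [hinj h]
  letI algκK : Algebra (⊥ : Ideal (Localization.AtPrime P₂)).ResidueField K :=
    (IsFractionRing.lift (A := Localization.AtPrime P₂)
      (K := (⊥ : Ideal (Localization.AtPrime P₂)).ResidueField) hinjDK).toAlgebra
  haveI towDκK : IsScalarTower (Localization.AtPrime P₂)
      (⊥ : Ideal (Localization.AtPrime P₂)).ResidueField K :=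
    IsScalarTower.of_algebraMap_eq (fun d =>
      (IsFractionRing.lift_algebraMap hinjDK d).symm)
  haveI towAκK : IsScalarTower A₂ (⊥ : Ideal (Localization.AtPrime P₂)).ResidueField K :=
    IsScalarTower.of_algebraMap_eq (fun a => by
      rw [IsScalarTower.algebraMap_apply A₂ (Localization.AtPrime P₂) K,
        IsScalarTower.algebraMap_apply (Localization.AtPrime P₂)
          (⊥ : Ideal (Localization.AtPrime P₂)).ResidueField K,
        ← IsScalarTower.algebraMap_apply A₂ (Localization.AtPrime P₂)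
          (⊥ : Ideal (Localization.AtPrime P₂)).ResidueField])
  haveI : Algebra.EssFiniteType (⊥ : Ideal (Localization.AtPrime P₂)).ResidueField K :=
    Algebra.EssFiniteType.of_comp A₂ _ K
  haveI hNF : IsNoetherianRing (EGA4.formalFibre (Localization.AtPrime P₂) ⊥) :=
    Groth.Agent.Lib.RegFlatH3.isNoetherianRing_fiber (Localization.AtPrime P₂)
      (EGA4.Cpl (Localization.AtPrime P₂)) ⊥
  haveI hNK : IsNoetherianRing (K ⊗[(⊥ : Ideal (Localization.AtPrime P₂)).ResidueField]
      (EGA4.formalFibre (Localization.AtPrime P₂) ⊥)) :=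
    Groth.Agent.Lib.GeomRegFSH3.isNoetherianRing_tensor_of_essFiniteType K
  haveI hreg1 : IsRegularRing (K ⊗[(⊥ : Ideal (Localization.AtPrime P₂)).ResidueField]
      (EGA4.formalFibre (Localization.AtPrime P₂) ⊥)) :=
    Groth.Agent.Lib.GeomRegFSH3.isRegularRing_tensor_of_forall_adic
      ((Groth.Agent.Lib.GeomRegFSH3.isGeometricallyRegular_iff_forall_adic).1 hgen) K
  let e₁ : K ⊗[(⊥ : Ideal (Localization.AtPrime P₂)).ResidueField]
      (EGA4.formalFibre (Localization.AtPrime P₂) ⊥) ≃ₐ[K]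
      K ⊗[Localization.AtPrime P₂] EGA4.Cpl (Localization.AtPrime P₂) :=
    Algebra.TensorProduct.cancelBaseChange (Localization.AtPrime P₂)
      (⊥ : Ideal (Localization.AtPrime P₂)).ResidueField K K (EGA4.Cpl (Localization.AtPrime P₂))
  haveI hreg2 : IsRegularRing (K ⊗[Localization.AtPrime P₂] EGA4.Cpl (Localization.AtPrime P₂)) :=
    IsRegularRing.of_ringEquiv (R := K ⊗[(⊥ : Ideal (Localization.AtPrime P₂)).ResidueField]
      (EGA4.formalFibre (Localization.AtPrime P₂) ⊥)) e₁.toRingEquiv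
  let e₂ : K ⊗[Localization.AtPrime P₂] EGA4.Cpl (Localization.AtPrime P₂) ≃ₐ[Localization.AtPrime P₂]
      K ⊗[A₂] EGA4.Cpl (Localization.AtPrime P₂) :=
    IsLocalization.algebraTensorEquiv P₂.primeCompl (Localization.AtPrime P₂) K
      (EGA4.Cpl (Localization.AtPrime P₂))
  exact IsRegularRing.of_ringEquiv
    (R := K ⊗[Localization.AtPrime P₂] EGA4.Cpl (Localization.AtPrime P₂)) e₂.toRingEquiv

end LemmaR

section Mid

variable (A₂ B : Type u) [CommRing A₂] [IsDomain A₂] [IsNoetherianRing A₂] [CommRing B]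
  [Algebra A₂ B] [Module.Finite A₂ B]

theorem isRegularRing_tensor_cpl_of_finite
    (hA₂ : ∀ (P : Ideal A₂) [P.IsPrime],
      CAlg.IsGeometricallyRegular (⊥ : Ideal (Localization.AtPrime P)).ResidueField
        (EGA4.formalFibre (Localization.AtPrime P) ⊥))
    (M : Submonoid B) (A₁ : Type u) [CommRing A₁] [Algebra B A₁] [IsLocalization M A₁]
    [IsLocalRing A₁]
    (K : Type u) [Field K] [Algebra A₁ K] [Algebra B K] [IsScalarTower B A₁ K]
    [Algebra A₂ K] [IsScalarTower A₂ B K] [Algebra.EssFiniteType A₁ K]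
    (hK : Function.Injective (algebraMap A₂ K)) :
    IsRegularRing (K ⊗[A₁] EGA4.Cpl A₁) := by
  haveI : IsNoetherianRing B := IsNoetherianRing.of_finite A₂ B
  haveI : IsNoetherianRing A₁ := IsLocalization.isNoetherianRing M A₁ inferInstance
  haveI : Algebra.IsIntegral A₂ B := Algebra.IsIntegral.of_finite A₂ B
  obtain ⟨𝔭, h𝔭⟩ : ∃ 𝔭 : Ideal B, 𝔭 = (maximalIdeal A₁).comap (algebraMap B A₁) := ⟨_, rfl⟩
  haveI h𝔭prime : 𝔭.IsPrime := by rw [h𝔭]; exact Ideal.comap_isPrime _ _
  obtain ⟨P₂, hP₂⟩ : ∃ P₂ : Ideal A₂, P₂ = 𝔭.comap (algebraMap A₂ B) := ⟨_, rfl⟩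
  haveI hP₂prime : P₂.IsPrime := by rw [hP₂]; exact Ideal.comap_isPrime _ _
  obtain ⟨hloc, hnoeth, hcompl, hff, hlh, hmap⟩ :=
    AnUnramH3.completion_facts (Localization.AtPrime P₂)
  haveI := hloc
  haveI := hnoeth
  haveI := hcompl
  haveI := hff
  haveI := isScalarTower_cpl A₂ P₂
  -- the ring `Ch`
  letI algR : Algebra (EGA4.Cpl (Localization.AtPrime P₂))
      (B ⊗[A₂] EGA4.Cpl (Localization.AtPrime P₂)) := Algebra.TensorProduct.rightAlgebra
  haveI : Module.Finite (EGA4.Cpl (Localization.AtPrime P₂))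
      (B ⊗[A₂] EGA4.Cpl (Localization.AtPrime P₂)) :=
    Module.Finite.equiv
      (Algebra.TensorProduct.commRight A₂ (EGA4.Cpl (Localization.AtPrime P₂)) B).toLinearEquiv
  haveI : Module.Flat A₂ (EGA4.Cpl (Localization.AtPrime P₂)) :=
    Module.Flat.trans A₂ (Localization.AtPrime P₂) (EGA4.Cpl (Localization.AtPrime P₂))
  haveI : Module.Flat B (B ⊗[A₂] EGA4.Cpl (Localization.AtPrime P₂)) := inferInstance
  -- essentially of finite type
  haveI : Algebra.EssFiniteType B A₁ := Algebra.EssFiniteType.of_isLocalization A₁ M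
  haveI : Algebra.EssFiniteType B K := Algebra.EssFiniteType.comp B A₁ K
  haveI : Algebra.EssFiniteType A₂ K := Algebra.EssFiniteType.comp A₂ B K
  -- regularity
  have hreg : IsRegularRing (K ⊗[B] (B ⊗[A₂] EGA4.Cpl (Localization.AtPrime P₂))) := by
    haveI := isRegularRing_tensor_cpl_localization A₂ P₂ (hA₂ P₂) K hK
    let e : K ⊗[B] (B ⊗[A₂] EGA4.Cpl (Localization.AtPrime P₂)) ≃ₐ[K]
        K ⊗[A₂] EGA4.Cpl (Localization.AtPrime P₂) :=
      Algebra.TensorProduct.cancelBaseChange A₂ B K K (EGA4.Cpl (Localization.AtPrime P₂))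
    exact IsRegularRing.of_ringEquiv
      (R := K ⊗[A₂] EGA4.Cpl (Localization.AtPrime P₂)) e.symm.toRingEquiv
  -- a prime over `𝔭`
  have hunit : ∀ s : P₂.primeCompl, IsUnit (algebraMap A₂ 𝔭.ResidueField s) := by
    intro s
    rw [isUnit_iff_ne_zero, IsScalarTower.algebraMap_apply A₂ B 𝔭.ResidueField, Ne,
      Ideal.algebraMap_residueField_eq_zero]
    intro hs
    exact s.2 (hP₂.ge (show (s : A₂) ∈ 𝔭.comap (algebraMap A₂ B) from hs))
  have hnt : Nontrivial (𝔭.ResidueField ⊗[B] (B ⊗[A₂] EGA4.Cpl (Localization.AtPrime P₂))) := by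
    haveI := nontrivial_tensor_cpl_localization A₂ P₂ 𝔭.ResidueField hunit
    let e : 𝔭.ResidueField ⊗[B] (B ⊗[A₂] EGA4.Cpl (Localization.AtPrime P₂)) ≃ₐ[𝔭.ResidueField]
        𝔭.ResidueField ⊗[A₂] EGA4.Cpl (Localization.AtPrime P₂) :=
      Algebra.TensorProduct.cancelBaseChange A₂ B 𝔭.ResidueField 𝔭.ResidueField
        (EGA4.Cpl (Localization.AtPrime P₂))
    exact e.toEquiv.nontrivial
  obtain ⟨𝔔, h𝔔⟩ := (PrimeSpectrum.nontrivial_iff_mem_rangeComap
    (S := B ⊗[A₂] EGA4.Cpl (Localization.AtPrime P₂)) ⟨𝔭, h𝔭prime⟩).mp hnt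
  have h𝔔' : 𝔔.asIdeal.comap (algebraMap B (B ⊗[A₂] EGA4.Cpl (Localization.AtPrime P₂))) = 𝔭 :=
    congrArg PrimeSpectrum.asIdeal h𝔔
  obtain ⟨𝔫, h𝔫max, h𝔔𝔫⟩ := Ideal.exists_le_maximal 𝔔.asIdeal 𝔔.2.ne_top
  haveI := h𝔫max
  have hle : 𝔭 ≤ 𝔫.comap (algebraMap B (B ⊗[A₂] EGA4.Cpl (Localization.AtPrime P₂))) := by
    rw [← h𝔔']
    exact Ideal.comap_mono h𝔔𝔫
  have hcomapA : (𝔫.comap (algebraMap B (B ⊗[A₂] EGA4.Cpl (Localization.AtPrime P₂)))).comap
      (algebraMap A₂ B) = P₂ := by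
    haveI hlo := CompleteFiniteH3.liesOver_of_isMaximal (EGA4.Cpl (Localization.AtPrime P₂))
      (B ⊗[A₂] EGA4.Cpl (Localization.AtPrime P₂)) 𝔫
    have h1 : 𝔫.comap (algebraMap (EGA4.Cpl (Localization.AtPrime P₂))
        (B ⊗[A₂] EGA4.Cpl (Localization.AtPrime P₂))) =
        maximalIdeal (EGA4.Cpl (Localization.AtPrime P₂)) := hlo.over.symm
    have h2 : (maximalIdeal (EGA4.Cpl (Localization.AtPrime P₂))).comap
        (algebraMap (Localization.AtPrime P₂) (EGA4.Cpl (Localization.AtPrime P₂))) =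
        maximalIdeal (Localization.AtPrime P₂) :=
      ((IsLocalRing.local_hom_TFAE (algebraMap (Localization.AtPrime P₂)
        (EGA4.Cpl (Localization.AtPrime P₂)))).out 0 4).mp hlh
    have h3 : (maximalIdeal (Localization.AtPrime P₂)).comap
        (algebraMap A₂ (Localization.AtPrime P₂)) = P₂ :=
      IsLocalization.AtPrime.comap_maximalIdeal (Localization.AtPrime P₂) P₂
    rw [Ideal.comap_comap, ← IsScalarTower.algebraMap_eq A₂ B,
      IsScalarTower.algebraMap_eq A₂ (EGA4.Cpl (Localization.AtPrime P₂))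
        (B ⊗[A₂] EGA4.Cpl (Localization.AtPrime P₂)), ← Ideal.comap_comap, h1,
      IsScalarTower.algebraMap_eq A₂ (Localization.AtPrime P₂)
        (EGA4.Cpl (Localization.AtPrime P₂)), ← Ideal.comap_comap, h2, h3]
  have hcomap : 𝔫.comap (algebraMap B (B ⊗[A₂] EGA4.Cpl (Localization.AtPrime P₂))) = 𝔭 := by
    by_contra hne
    have hlt : 𝔭 < 𝔫.comap (algebraMap B (B ⊗[A₂] EGA4.Cpl (Localization.AtPrime P₂))) :=
      lt_of_le_of_ne hle (Ne.symm hne)
    have := Ideal.IsIntegral.comap_lt_comap (R := A₂) hlt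
    rw [hcomapA, ← hP₂] at this
    exact lt_irrefl _ this
  exact GRingCoreH3.isRegularRing_tensor_cpl_of_finite_complete B A₁ M
    (EGA4.Cpl (Localization.AtPrime P₂)) (B ⊗[A₂] EGA4.Cpl (Localization.AtPrime P₂)) 𝔫
    (hcomap.trans h𝔭) K hreg

end Mid

end Groth.Agent.Lib.GRingFiniteH3
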