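import Mathlib
import Groth.Prelude.Def_Found
import Groth.Prelude.Def_EGA4b
import Groth.Agent.Lib.GRingFinite_helper3
import Groth.Agent.Lib.CompleteNagata_helper3
import Groth.Agent.Lib.MonomialCharP_helper3

/-!
# A complete Noetherian local ring is a G-ring (helper3)
-/

set_option autoImplicit false

namespace Groth.Agent.Lib.GRingCompleteH3

universe u

open TensorProduct IsLocalRing

section E3

variable (B : Type u) [CommRing B] [IsDomain B] [IsLocalRing B] [IsNoetherianRing B]
  [IsAdicComplete (maximalIdeal B) B]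

/-- Theorem G: generic formal fibres of localizations of a complete local domain. -/
theorem isRegularRing_tensor_cpl_of_complete
    (M : Submonoid B) (A₁ : Type u) [CommRing A₁] [Algebra B A₁] [IsLocalization M A₁]
    [IsLocalRing A₁]
    (K : Type u) [Field K] [Algebra A₁ K] [Algebra B K] [IsScalarTower B A₁ K]
    [Algebra.EssFiniteType A₁ K] (hK : Function.Injective (algebraMap B K)) :
    IsRegularRing (K ⊗[A₁] EGA4.Cpl A₁) := by
  obtain ⟨Λ, _, n, f, hΛ, hinj, hfin, -⟩ := Groth.Agent.S0581.result B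
  have key : ∃ (_ : IsDomain Λ) (_ : IsRegularLocalRing Λ),
      CharZero Λ ∨ (IsField Λ ∧ ∃ p : ℕ, p.Prime ∧ CharP Λ p) := by
    rcases hΛ with hfield | ⟨hd, hdvr, -, p, hp, hm⟩
    · letI := hfield.toField
      refine ⟨inferInstance, inferInstance, ?_⟩
      obtain ⟨q, hq⟩ := CharP.exists Λ
      rcases CharP.char_is_prime_or_zero Λ q with hq' | hq'
      · exact Or.inr ⟨hfield, q, hq', hq⟩
      · subst hq'
        exact Or.inl (CharP.charP_to_charZero Λ)
    · haveI := hd
      haveI := hdvr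
      exact ⟨hd, inferInstance,
        Or.inl (Groth.Agent.Lib.CompleteNagataH3.charZero_of_isCohenRing Λ p hp hm)⟩
  obtain ⟨hd, hreg, hchar⟩ := key
  haveI := hd
  haveI := hreg
  haveI := Groth.Agent.Lib.GRingBaseH3.isRegularRing_mvPowerSeries Λ n
  haveI : IsNoetherianRing (MvPowerSeries (Fin n) Λ) := inferInstance
  letI : Algebra (MvPowerSeries (Fin n) Λ) B := f.toAlgebra
  haveI : Module.Finite (MvPowerSeries (Fin n) Λ) B := hfin
  letI : Algebra (MvPowerSeries (Fin n) Λ) K := Algebra.compHom K f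
  haveI : IsScalarTower (MvPowerSeries (Fin n) Λ) B K :=
    IsScalarTower.of_algebraMap_eq (fun _ => rfl)
  have hK' : Function.Injective (algebraMap (MvPowerSeries (Fin n) Λ) K) := by
    rw [IsScalarTower.algebraMap_eq (MvPowerSeries (Fin n) Λ) B K]
    exact hK.comp hinj
  exact Groth.Agent.Lib.GRingFiniteH3.isRegularRing_tensor_cpl_of_finite
    (MvPowerSeries (Fin n) Λ) B
    (fun P _ => Groth.Agent.Lib.GRingBaseH3.isGeometricallyRegular_formalFibre_mvPowerSeries
      Λ n hchar P) M A₁ K hK'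

end E3

section E4

variable (R : Type u) [CommRing R] [IsLocalRing R] [IsNoetherianRing R]
  [IsAdicComplete (maximalIdeal R) R]

theorem isRegularHom_localization_cpl (𝔓 : Ideal R) [𝔓.IsPrime] :
    CAlg.IsRegularHom (Localization.AtPrime 𝔓) (EGA4.Cpl (Localization.AtPrime 𝔓)) := by
  obtain ⟨hloc, hnoeth, hcompl, hff, hlh, hmap⟩ :=
    AnUnramH3.completion_facts (Localization.AtPrime 𝔓)
  haveI := hnoeth
  haveI := hff
  refine Groth.Agent.Lib.RegFlatH3.isRegularHom_of_forall_finite (Localization.AtPrime 𝔓)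
    (EGA4.Cpl (Localization.AtPrime 𝔓)) inferInstance
    (fun p _ => Groth.Agent.Lib.RegFlatH3.isNoetherianRing_fiber _ _ p) ?_
  intro p hp K _ _ _ _ hfin
  haveI := hfin
  -- the complete local domain `B = R ⧸ 𝔮`
  haveI h𝔮prime : (p.comap (algebraMap R (Localization.AtPrime 𝔓))).IsPrime :=
    Ideal.comap_isPrime _ _
  haveI : Nontrivial (R ⧸ p.comap (algebraMap R (Localization.AtPrime 𝔓))) :=
    Ideal.Quotient.nontrivial_iff.2 h𝔮prime.ne_top
  haveI : IsLocalRing (R ⧸ p.comap (algebraMap R (Localization.AtPrime 𝔓))) :=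
    IsLocalRing.of_surjective' (Ideal.Quotient.mk _) Ideal.Quotient.mk_surjective
  haveI := MonomialCharPH3.isAdicComplete_quotient R
    (p.comap (algebraMap R (Localization.AtPrime 𝔓)))
  -- the local ring `A₁ = A ⧸ p`
  haveI : Nontrivial (Localization.AtPrime 𝔓 ⧸ p) := Ideal.Quotient.nontrivial_iff.2 hp.ne_top
  haveI : IsLocalRing (Localization.AtPrime 𝔓 ⧸ p) :=
    IsLocalRing.of_surjective' (Ideal.Quotient.mk _) Ideal.Quotient.mk_surjective
  haveI hlocA₁ : IsLocalization (𝔓.primeCompl.map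
      (Ideal.Quotient.mk (p.comap (algebraMap R (Localization.AtPrime 𝔓)))))
      (Localization.AtPrime 𝔓 ⧸ p) :=
    IsLocalization.of_surjective 𝔓.primeCompl (Localization.AtPrime 𝔓)
      (Ideal.Quotient.mk (p.comap (algebraMap R (Localization.AtPrime 𝔓))))
      Ideal.Quotient.mk_surjective (Ideal.Quotient.mk p) Ideal.Quotient.mk_surjective rfl (by
        rw [Ideal.mk_ker, Ideal.mk_ker, IsLocalization.map_comap 𝔓.primeCompl])
  -- algebra structures on `K`
  letI algA₁K : Algebra (Localization.AtPrime 𝔓 ⧸ p) K :=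
    Algebra.compHom K (algebraMap (Localization.AtPrime 𝔓 ⧸ p) p.ResidueField)
  haveI towA₁κK : IsScalarTower (Localization.AtPrime 𝔓 ⧸ p) p.ResidueField K :=
    IsScalarTower.of_algebraMap_eq (fun _ => rfl)
  haveI towAA₁K : IsScalarTower (Localization.AtPrime 𝔓) (Localization.AtPrime 𝔓 ⧸ p) K :=
    IsScalarTower.of_algebraMap_eq (fun a => by
      rw [IsScalarTower.algebraMap_apply (Localization.AtPrime 𝔓) p.ResidueField K,
        IsScalarTower.algebraMap_apply (Localization.AtPrime 𝔓 ⧸ p) p.ResidueField K,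
        IsScalarTower.algebraMap_apply (Localization.AtPrime 𝔓) (Localization.AtPrime 𝔓 ⧸ p)
          p.ResidueField])
  letI algBK : Algebra (R ⧸ p.comap (algebraMap R (Localization.AtPrime 𝔓))) K :=
    Algebra.compHom K (algebraMap (R ⧸ p.comap (algebraMap R (Localization.AtPrime 𝔓)))
      (Localization.AtPrime 𝔓 ⧸ p))
  haveI towBA₁K : IsScalarTower (R ⧸ p.comap (algebraMap R (Localization.AtPrime 𝔓)))
      (Localization.AtPrime 𝔓 ⧸ p) K := IsScalarTower.of_algebraMap_eq (fun _ => rfl)
  haveI : Algebra.EssFiniteType (Localization.AtPrime 𝔓 ⧸ p) p.ResidueField :=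
    Algebra.EssFiniteType.of_isLocalization p.ResidueField
      (nonZeroDivisors (Localization.AtPrime 𝔓 ⧸ p))
  haveI : Algebra.EssFiniteType p.ResidueField K := inferInstance
  haveI : Algebra.EssFiniteType (Localization.AtPrime 𝔓 ⧸ p) K :=
    Algebra.EssFiniteType.comp _ p.ResidueField K
  have hK : Function.Injective
      (algebraMap (R ⧸ p.comap (algebraMap R (Localization.AtPrime 𝔓))) K) := by
    rw [IsScalarTower.algebraMap_eq (R ⧸ p.comap (algebraMap R (Localization.AtPrime 𝔓)))
      (Localization.AtPrime 𝔓 ⧸ p) K,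
      IsScalarTower.algebraMap_eq (Localization.AtPrime 𝔓 ⧸ p) p.ResidueField K]
    exact ((algebraMap p.ResidueField K).injective.comp
      (Ideal.injective_algebraMap_quotient_residueField p)).comp
      Ideal.algebraMap_quotient_injective
  have h1 : IsRegularRing (K ⊗[Localization.AtPrime 𝔓 ⧸ p]
      EGA4.Cpl (Localization.AtPrime 𝔓 ⧸ p)) :=
    isRegularRing_tensor_cpl_of_complete (R ⧸ p.comap (algebraMap R (Localization.AtPrime 𝔓)))
      (𝔓.primeCompl.map (Ideal.Quotient.mk (p.comap (algebraMap R (Localization.AtPrime 𝔓)))))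
      (Localization.AtPrime 𝔓 ⧸ p) K hK
  obtain ⟨e⟩ := GRingCoreH3.exists_ringEquiv_tensor_cpl_of_surjective (Localization.AtPrime 𝔓)
    (Localization.AtPrime 𝔓 ⧸ p) Ideal.Quotient.mk_surjective K
  haveI := h1
  exact IsRegularRing.of_ringEquiv e.symm

theorem isGRing_of_complete : CAlg.IsGRing R :=
  ⟨inferInstance, fun 𝔓 _ => isRegularHom_localization_cpl R 𝔓⟩

end E4

end Groth.Agent.Lib.GRingCompleteH3
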