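import Mathlib
import Groth.Agent.Lib.EquidimQuot_helper9
import Groth.Agent.Lib.CohenStruct_helper3
import Groth.Agent.Lib.GRingComplete_helper3
import Groth.Agent.Lib.AnUnram_helper3

/-!
# Formally equidimensional local rings (helper9)

* `isEquidim_of_ringEquiv`.
* `isCMRing_of_complete_quot`: a complete Noetherian local ring is a quotient of a CM ring;
  `isCatenary_of_complete`, `isUniversallyCatenary_of_complete`.
* `cpl_quot_equiv`: `Â/aÂ ≃ (A/a)^`.
* `isFormallyEquidim_main`: EGA IV 7.1.4 (S2632).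
APPEND-ONLY once landed.
-/

set_option autoImplicit false
universe u

namespace Groth.Agent.EquiCat9

open IsLocalRing TensorProduct Groth.Agent.FlatCM

theorem isEquidim_of_ringEquiv {R S : Type u} [CommRing R] [CommRing S] (e : R ≃+* S)
    (h : EGA4.IsEquidim R) : EGA4.IsEquidim S := by
  intro p hp
  haveI := hp.1.1
  have hq : p.comap (e : R →+* S) ∈ minimalPrimes R := by
    have := Ideal.minimalPrimes_comap_of_surjective (f := (e : R →+* S)) e.surjective hp
    have hbot : (⊥ : Ideal S).comap (e : R →+* S) = ⊥ := by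
      rw [← RingHom.ker_eq_comap_bot]
      exact (RingHom.injective_iff_ker_eq_bot _).1 e.injective
    rw [hbot] at this
    exact this
  rw [← ringKrullDim_eq_of_ringEquiv e, ← h _ hq]
  exact (ringKrullDim_eq_of_ringEquiv (Ideal.quotientEquiv (p.comap (e : R →+* S)) p e
    (Ideal.map_comap_of_surjective (e : R →+* S) e.surjective p).symm)).symm

section Complete

variable (R : Type u) [CommRing R] [IsLocalRing R] [IsNoetherianRing R]
  [IsAdicComplete (maximalIdeal R) R]

/-- Cohen: a complete Noetherian local ring is a quotient of a regular (hence CM) ring. -/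
theorem exists_surjective_of_isCMRing :
    ∃ (P : Type u) (_ : CommRing P) (_ : LocCoh.IsCohenMacaulayRing P) (f : P →+* R),
      Function.Surjective f := by
  obtain ⟨Λ, _, n, f, hΛ, hf⟩ :=
    Groth.Agent.Lib.CohenStructH3.exists_surjective_of_complete R
      (IsNoetherian.noetherian (maximalIdeal R))
  have key : ∃ (_ : IsDomain Λ), IsRegularLocalRing Λ := by
    rcases hΛ with hfield | ⟨hd, hdvr, -⟩
    · letI := hfield.toField
      exact ⟨inferInstance, inferInstance⟩
    · haveI := hd
      haveI := hdvr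
      exact ⟨hd, inferInstance⟩
  obtain ⟨hd, hreg⟩ := key
  haveI := hd
  haveI := hreg
  haveI := Groth.Agent.Lib.GRingBaseH3.isRegularRing_mvPowerSeries Λ n
  haveI : IsNoetherianRing (MvPowerSeries (Fin n) Λ) := inferInstance
  exact ⟨MvPowerSeries (Fin n) Λ, inferInstance, isCMRing_of_isRegularRing _, f, hf⟩

theorem isCatenary_of_complete : CAlg.IsCatenary R := by
  obtain ⟨P, _, hP, f, hf⟩ := exists_surjective_of_isCMRing R
  have h1 : CAlg.IsCatenary P := isCatenary_of_isCMRing P
  have h2 := Groth.Agent.Lib.Catenary_helper4.isCatenary_quotient _ (RingHom.ker f) h1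
  exact RegUCH8.isCatenary_of_ringEquiv (RingHom.quotientKerEquivOfSurjective hf) h2

end Complete

section Cpl

variable (A : Type u) [CommRing A] [IsLocalRing A] [IsNoetherianRing A]

/-- the completion of a quotient is the quotient of the completion -/
theorem cpl_quot_equiv (a : Ideal A) [Nontrivial (A ⧸ a)] :
    Nonempty ((EGA4.Cpl A ⧸ a.map (algebraMap A (EGA4.Cpl A))) ≃+* EGA4.Cpl (A ⧸ a)) := by
  obtain ⟨e⟩ := Groth.Agent.Lib.GRingCoreH3.exists_ringEquiv_tensor_cpl_of_surjective A (A ⧸ a)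
    Ideal.Quotient.mk_surjective (A ⧸ a)
  let e1 : (EGA4.Cpl A ⧸ a.map (algebraMap A (EGA4.Cpl A))) ≃ₐ[A ⧸ a] (A ⧸ a) ⊗[A] EGA4.Cpl A :=
    Algebra.TensorProduct.quotIdealMapEquivQuotTensor (EGA4.Cpl A) a
  let e2 : (A ⧸ a) ⊗[A ⧸ a] EGA4.Cpl (A ⧸ a) ≃ₐ[A ⧸ a] EGA4.Cpl (A ⧸ a) :=
    Algebra.TensorProduct.lid (A ⧸ a) (EGA4.Cpl (A ⧸ a))
  exact ⟨e1.toRingEquiv.trans (e.trans e2.toRingEquiv)⟩

/-- **EGA IV 7.1.4**: a formally equidimensional local ring is equidimensional and catenary, and
its quotients are equidimensional iff formally equidimensional. -/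
theorem isFormallyEquidim_main (h : EGA4.IsFormallyEquidim A) :
    (EGA4.IsEquidim A ∧ CAlg.IsCatenary A) ∧
      ∀ (a : Ideal A) [Nontrivial (A ⧸ a)],
        (EGA4.IsEquidim (A ⧸ a) ↔ EGA4.IsFormallyEquidim (A ⧸ a)) := by
  obtain ⟨hloc, hnoeth, hcompl, hff, hlh, hmap⟩ := Groth.Agent.Lib.AnUnramH3.completion_facts A
  haveI := hloc
  haveI := hnoeth
  haveI := hcompl
  haveI := hlh
  haveI : Module.Flat A (AdicCompletion (maximalIdeal A) A) := inferInstance
  have hcat : CAlg.IsCatenary (AdicCompletion (maximalIdeal A) A) := isCatenary_of_complete _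
  have h0 : ringKrullDim (EGA4.FibRing A (AdicCompletion (maximalIdeal A) A)) = 0 := by
    have e : EGA4.FibRing A (AdicCompletion (maximalIdeal A) A) ≃+*
        ResidueField (AdicCompletion (maximalIdeal A) A) := Ideal.quotEquivOfEq hmap
    rw [ringKrullDim_eq_of_ringEquiv e]
    exact ringKrullDim_eq_zero_of_field _
  refine ⟨isEquidim_isCatenary_descent A _ h hcat, fun a _ => ?_⟩
  rw [← isEquidim_quot_map_iff A (AdicCompletion (maximalIdeal A) A) h hcat h0 a]
  obtain ⟨e⟩ := cpl_quot_equiv A a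
  exact ⟨isEquidim_of_ringEquiv e, isEquidim_of_ringEquiv e.symm⟩

end Cpl

end Groth.Agent.EquiCat9
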