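import Mathlib
import Groth.Agent.Lib.FormalEquidim_helper9
import Groth.Agent.Lib.RegQuotOpen_helper6
import Groth.Agent.Lib.FlatCM2_helper9

/-!
# Openness of the Cohen–Macaulay locus (helper9)

* `exists_surjective_of_isRegularRing`: a complete Noetherian local ring is a quotient of a regular
  ring (Cohen).
* `isOpen_cmLocus_of_quotient_regular`: the CM locus of a quotient of a regular ring is open.
* `isOpen_cmLocus_of_complete`.
* `isOpen_cmLocus_of_hasCMFormalFibres` (EGA IV 7.8.3-type statement, S2703).
APPEND-ONLY once landed.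
-/

set_option autoImplicit false
universe u

namespace Groth.Agent.EquiCat9

open IsLocalRing TensorProduct Groth.Agent.FlatCM Groth.Agent.DepthLib

/-- Cohen: a complete Noetherian local ring is a quotient of a regular ring. -/
theorem exists_surjective_of_isRegularRing (R : Type u) [CommRing R] [IsLocalRing R]
    [IsNoetherianRing R] [IsAdicComplete (maximalIdeal R) R] :
    ∃ (P : Type u) (_ : CommRing P) (_ : IsRegularRing P) (f : P →+* R),
      Function.Surjective f := by
  obtain ⟨Λ, _, n, f, hΛ, hf⟩ :=
    Groth.Agent.Lib.CohenStructH3.exists_surjective_of_complete R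
      (IsNoetherian.noetherian (maximalIdeal R))
  have key : ∃ (_ : IsDomain Λ), IsRegularLocalRing Λ := by
    rcases hΛ with hfield | ⟨hd, hdvr, -⟩
    · letI := hfield.toField
      exact ⟨inferInstance, inferInstance⟩
    · haveI := hd
      haveI := hdvr
      exact ⟨hd, inferInstance⟩
  obtain ⟨hd, hreg⟩ := key
  haveI := hd
  haveI := hreg
  exact ⟨MvPowerSeries (Fin n) Λ, inferInstance,
    Groth.Agent.Lib.GRingBaseH3.isRegularRing_mvPowerSeries Λ n, f, hf⟩

/-- the CM locus of a quotient of a regular ring is open -/
theorem isOpen_cmLocus_of_quotient_regular (R A : Type u) [CommRing R] [CommRing A]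
    [IsRegularRing R] [Algebra R A] (hs : Function.Surjective (algebraMap R A)) :
    IsOpen {p : PrimeSpectrum A |
      LocCoh.IsCohenMacaulayLocalRing (Localization.AtPrime p.asIdeal)} := by
  haveI : IsNoetherianRing A := isNoetherianRing_of_surjective R A (algebraMap R A) hs
  have h := Groth.Agent.Lib.DMod_helper6.isOpen_codepth_le_of_quotient_regular (R := R) (A := A)
    hs A 0
  convert h using 1
  ext p
  simp only [Set.mem_setOf_eq]
  haveI : IsNoetherianRing (Localization.AtPrime p.asIdeal) :=
    IsLocalization.isNoetherianRing p.asIdeal.primeCompl _ inferInstance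
  rw [isCMLocalRing_iff, depth_locSelf, supportDim_locSelf,
    ← IsLocalization.AtPrime.ringKrullDim_eq_height p.asIdeal (Localization.AtPrime p.asIdeal)]
  have hle := depth_le_dim (Localization.AtPrime p.asIdeal)
  simp only [Nat.cast_zero, add_zero]
  constructor
  · intro h
    exact h.le
  · intro h
    exact le_antisymm h hle

/-- the CM locus of a complete Noetherian local ring is open -/
theorem isOpen_cmLocus_of_complete (R : Type u) [CommRing R] [IsLocalRing R]
    [IsNoetherianRing R] [IsAdicComplete (maximalIdeal R) R] :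
    IsOpen {p : PrimeSpectrum R |
      LocCoh.IsCohenMacaulayLocalRing (Localization.AtPrime p.asIdeal)} := by
  obtain ⟨P, _, hP, f, hf⟩ := exists_surjective_of_isRegularRing R
  letI : Algebra P R := f.toAlgebra
  exact isOpen_cmLocus_of_quotient_regular P R hf

/-- **EGA IV 7.8.3 (CM)**: the CM locus of a Noetherian local ring with CM formal fibres is open -/
theorem isOpen_cmLocus_of_hasCMFormalFibres (A : Type u) [CommRing A] [IsNoetherianRing A]
    [IsLocalRing A] (hA : EGA4.HasCMFormalFibres A) :
    IsOpen {p : PrimeSpectrum A |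
      LocCoh.IsCohenMacaulayLocalRing (Localization.AtPrime p.asIdeal)} := by
  obtain ⟨hL, hN, hc, hff, hloc, hmap⟩ := Groth.Agent.Lib.AnUnramH3.completion_facts A
  haveI := hL
  haveI := hN
  haveI := hc
  haveI := hff
  have hopen := isOpen_cmLocus_of_complete (EGA4.Cpl A)
  have hsurj : Function.Surjective (PrimeSpectrum.comap (algebraMap A (EGA4.Cpl A))) :=
    PrimeSpectrum.comap_surjective_of_faithfullyFlat
  have hgen : GeneralizingMap (PrimeSpectrum.comap (algebraMap A (EGA4.Cpl A))) :=
    RingHom.Flat.generalizingMap_comap (f := algebraMap A (EGA4.Cpl A))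
      (RingHom.flat_algebraMap_iff.2 inferInstance)
  have hq := PrimeSpectrum.isQuotientMap_of_generalizingMap hsurj hgen
  rw [← hq.isOpen_preimage]
  convert hopen using 1
  ext Q
  simp only [Set.mem_preimage, Set.mem_setOf_eq]
  haveI : Q.asIdeal.IsPrime := Q.isPrime
  have hiff := isCM_localization_iff A (EGA4.Cpl A) Q.asIdeal
  haveI := hA (Q.asIdeal.comap (algebraMap A (EGA4.Cpl A)))
  have hfib := isCM_fibLocRing_of_fiber A (EGA4.Cpl A) Q.asIdeal
  rw [hiff]
  constructor
  · intro h
    exact ⟨h, hfib⟩
  · intro h
    exact h.1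

end Groth.Agent.EquiCat9
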