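import Mathlib
import Groth.Prelude.Def_CAlg
import Groth.Agent.Lib.CM_helper5
import Groth.Agent.Lib.CMSeq_helper5
import Groth.Agent.Lib.Regular4_helper5
import Groth.Agent.Lib.RegUC_helper8
import Groth.Agent.Lib.Equi133_helper8

/-!
# Complete intersection ideals in polynomial rings are saturated (helper9)
-/

set_option autoImplicit false
universe u

namespace Groth.Agent.CISat

open MvPolynomial IsLocalRing

section Irr

variable (k : Type u) [Field k] (N : ℕ)

/-- the irrelevant ideal -/
noncomputable def irr : Ideal (MvPolynomial (Fin N) k) :=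
  RingHom.ker (constantCoeff : MvPolynomial (Fin N) k →+* k)

instance irr_isMaximal : (irr k N).IsMaximal :=
  RingHom.ker_isMaximal_of_surjective _ (fun a => ⟨C a, constantCoeff_C _ a⟩)

theorem X_mem_irr (i : Fin N) : (X i : MvPolynomial (Fin N) k) ∈ irr k N := by
  rw [irr, RingHom.mem_ker, constantCoeff_X]

theorem mem_irr_of_isHomogeneous {f : MvPolynomial (Fin N) k} {d : ℕ} (hf : f.IsHomogeneous d)
    (hd : 0 < d) : f ∈ irr k N := by
  rw [irr, RingHom.mem_ker, constantCoeff_eq]
  apply hf.coeff_eq_zero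
  simp only [map_zero]
  omega

theorem irr_le_of_X_mem (I : Ideal (MvPolynomial (Fin N) k)) (h : ∀ i, (X i : MvPolynomial (Fin N) k) ∈ I) :
    irr k N ≤ I := by
  intro f hf
  rw [irr, RingHom.mem_ker, constantCoeff_eq] at hf
  rw [← support_sum_monomial_coeff f]
  refine Ideal.sum_mem _ (fun d _ => ?_)
  by_cases hd : d = 0
  · subst hd
    rw [hf, map_zero]
    exact I.zero_mem
  · obtain ⟨i, hi⟩ : ∃ i, d i ≠ 0 := by
      by_contra hcon
      push_neg at hcon
      exact hd (Finsupp.ext hcon)
    have hdvd : (X i : MvPolynomial (Fin N) k) ∣ monomial d (coeff d f) :=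
      X_dvd_monomial.mpr (Or.inr hi)
    obtain ⟨c, hc⟩ := hdvd
    rw [hc]
    exact I.mul_mem_right _ (h i)

/-- set the first `j` variables to zero -/
noncomputable def kill (j : ℕ) : MvPolynomial (Fin N) k →ₐ[k] MvPolynomial (Fin N) k :=
  aeval (fun i : Fin N => if (i : ℕ) < j then 0 else X i)

theorem kill_X (j : ℕ) (i : Fin N) :
    kill k N j (X i) = if (i : ℕ) < j then 0 else X i := by
  rw [kill, aeval_X]

theorem kill_succ_kill (j : ℕ) (f : MvPolynomial (Fin N) k) :
    kill k N (j + 1) (kill k N j f) = kill k N (j + 1) f := by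
  have : (kill k N (j + 1)).comp (kill k N j) = kill k N (j + 1) := by
    apply algHom_ext
    intro i
    rw [AlgHom.comp_apply, kill_X, kill_X]
    by_cases h1 : (i : ℕ) < j
    · rw [if_pos h1, if_pos (by omega), map_zero]
    · rw [if_neg h1, kill_X]
  exact congrArg (fun φ => φ f) this

theorem constantCoeff_kill (j : ℕ) (f : MvPolynomial (Fin N) k) :
    constantCoeff (kill k N j f) = constantCoeff f := by
  have : (constantCoeff : MvPolynomial (Fin N) k →+* k).comp (kill k N j).toRingHom =
      constantCoeff := by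
    apply ringHom_ext
    · intro r
      simp [kill]
    · intro i
      simp only [RingHom.comp_apply, AlgHom.toRingHom_eq_coe, RingHom.coe_coe, kill_X,
        constantCoeff_X]
      split_ifs <;> simp
  exact congrArg (fun φ => φ f) this

theorem height_ker_kill (j : ℕ) (hj : j ≤ N) :
    (j : ℕ∞) ≤ (RingHom.ker (kill k N j)).height := by
  induction j with
  | zero => simp
  | succ j ih =>
    haveI : (RingHom.ker (kill k N j)).IsPrime := RingHom.ker_isPrime _
    haveI : (RingHom.ker (kill k N (j + 1))).IsPrime := RingHom.ker_isPrime _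
    have hlt : RingHom.ker (kill k N j) < RingHom.ker (kill k N (j + 1)) := by
      rw [SetLike.lt_iff_le_and_exists]
      refine ⟨?_, X ⟨j, by omega⟩, ?_, ?_⟩
      · intro f hf
        rw [RingHom.mem_ker] at hf ⊢
        rw [← kill_succ_kill, hf, map_zero]
      · rw [RingHom.mem_ker, kill_X, if_pos (by simp)]
      · rw [RingHom.mem_ker, kill_X, if_neg (by simp)]
        exact X_ne_zero _
    have h1 := Ideal.height_add_one_le_of_lt_of_isPrime hlt
    have h2 : ((j + 1 : ℕ) : ℕ∞) = (j : ℕ∞) + 1 := by push_cast; rfl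
    rw [h2]
    exact le_trans (add_le_add_left (ih (by omega)) 1) h1

theorem le_height_irr : (N : ℕ∞) ≤ (irr k N).height := by
  refine le_trans (height_ker_kill k N N le_rfl) (Ideal.height_mono ?_)
  intro f hf
  rw [RingHom.mem_ker] at hf
  rw [irr, RingHom.mem_ker, ← constantCoeff_kill k N N f, hf, map_zero]

end Irr

section Local

variable {A : Type u} [CommRing A] [IsLocalRing A] [IsNoetherianRing A]

theorem dim_quot_add_le (J : Ideal A) (hJ : J ≤ maximalIdeal A) (r : ℕ)
    (hht : ∀ P : Ideal A, P.IsPrime → J ≤ P → (r : ℕ∞) ≤ P.height) :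
    ringKrullDim (A ⧸ J) + (r : WithBot ℕ∞) ≤ ringKrullDim A := by
  have hJtop : J ≠ ⊤ := fun h =>
    (maximalIdeal.isMaximal A).ne_top (top_le_iff.mp (h ▸ hJ))
  haveI : Nontrivial (A ⧸ J) := Ideal.Quotient.nontrivial_iff.mpr hJtop
  haveI : IsLocalRing (A ⧸ J) :=
    IsLocalRing.of_surjective' (Ideal.Quotient.mk J) Ideal.Quotient.mk_surjective
  obtain ⟨𝔭, h𝔭, hdim⟩ := Equi133H8.exists_minimalPrimes_dim_eq (A ⧸ J)
  haveI : 𝔭.IsPrime := h𝔭.1.1
  let P : Ideal A := 𝔭.comap (Ideal.Quotient.mk J)
  haveI : P.IsPrime := Ideal.comap_isPrime _ _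
  have hJP : J ≤ P := by
    intro x hx
    change Ideal.Quotient.mk J x ∈ 𝔭
    rw [Ideal.Quotient.eq_zero_iff_mem.mpr hx]
    exact 𝔭.zero_mem
  have hmap : P.map (Ideal.Quotient.mk J) = 𝔭 :=
    Ideal.map_comap_of_surjective _ Ideal.Quotient.mk_surjective 𝔭
  have e : ((A ⧸ J) ⧸ 𝔭) ≃+* (A ⧸ P) :=
    (Ideal.quotEquivOfEq hmap.symm).trans (DoubleQuot.quotQuotEquivQuotOfLE hJP)
  have h1 : ringKrullDim (A ⧸ P) = ringKrullDim (A ⧸ J) := by
    rw [← hdim]
    exact (ringKrullDim_eq_of_ringEquiv e).symm
  have h2 := Groth.Agent.RegularLib.height_add_ringKrullDim_quotient_le P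
  have h3 := hht P inferInstance hJP
  have h4 : (r : WithBot ℕ∞) ≤ (P.height : WithBot ℕ∞) := by exact_mod_cast h3
  rw [← h1]
  calc ringKrullDim (A ⧸ P) + (r : WithBot ℕ∞)
      ≤ ringKrullDim (A ⧸ P) + (P.height : WithBot ℕ∞) := add_le_add_right h4 _
    _ = (P.height : WithBot ℕ∞) + ringKrullDim (A ⧸ P) := add_comm _ _
    _ ≤ ringKrullDim A := h2

open Groth.Agent.DepthLib RingTheory.Sequence in
theorem mem_of_pow_mul_mem (hCM : LocCoh.IsCohenMacaulayModule A A) (rs : List A)
    (hmem : ∀ x ∈ rs, x ∈ maximalIdeal A)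
    (hht : ∀ P : Ideal A, P.IsPrime → Ideal.ofList rs ≤ P → (rs.length : ℕ∞) ≤ P.height)
    (hdim : (rs.length : WithBot ℕ∞) < ringKrullDim A)
    (T : Set A) (hT : maximalIdeal A ≤ Ideal.span T)
    (g : A) (hg : ∀ y ∈ T, ∃ m : ℕ, y ^ m * g ∈ Ideal.ofList rs) :
    g ∈ Ideal.ofList rs := by
  have hJle : Ideal.ofList rs ≤ maximalIdeal A := by
    rw [Ideal.ofList, Ideal.span_le]
    exact fun x hx => hmem x hx
  have hle1 := dim_quot_add_le (Ideal.ofList rs) hJle rs.length hht
  have hle2 := supportDim_le_supportDim_quot_ofList_add_length rs A hmem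
  have heq : Module.supportDim A (A ⧸ (Ideal.ofList rs • (⊤ : Submodule A A))) + rs.length =
      Module.supportDim A A := by
    apply le_antisymm _ hle2
    rw [supportDim_quot_smul_top_self, Module.supportDim_self_eq_ringKrullDim]
    exact hle1
  obtain ⟨hiff, hCMq⟩ := isCM_list rs A hCM hmem
  have hreg := hiff.2 heq
  have hCMquot := hCMq hreg
  by_contra hgJ
  have hx : (Submodule.Quotient.mk g : A ⧸ (Ideal.ofList rs • (⊤ : Submodule A A))) ≠ 0 := by
    intro h
    rw [Submodule.Quotient.mk_eq_zero, ideal_smul_top_self] at h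
    exact hgJ h
  obtain ⟨P, hP, hcol⟩ := exists_le_isAssociatedPrime_of_isNoetherianRing A _ hx
  haveI : P.IsPrime := hP.isPrime
  have hTP : maximalIdeal A ≤ P := by
    refine le_trans hT (Ideal.span_le.mpr ?_)
    intro y hy
    obtain ⟨m, hm⟩ := hg y hy
    have : y ^ m ∈ P := by
      apply hcol
      rw [Submodule.mem_colon_singleton, Submodule.mem_bot, ← Submodule.Quotient.mk_smul,
        Submodule.Quotient.mk_eq_zero, ideal_smul_top_self, smul_eq_mul]
      exact hm
    exact Ideal.IsPrime.mem_of_pow_mem inferInstance m this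
  have hPeq : P = maximalIdeal A := le_antisymm (le_maximalIdeal hP.isPrime.ne_top) hTP
  have hdimP := ringKrullDim_quotient_eq_of_isCM _ hCMquot P hP
  have h0 : ringKrullDim (A ⧸ P) = 0 := by
    rw [hPeq]
    exact ringKrullDim_eq_zero_of_isField
      (Ideal.Quotient.maximal_ideal_iff_isField_quotient _ |>.mp (maximalIdeal.isMaximal A))
  rw [h0] at hdimP
  rw [← hdimP, zero_add, Module.supportDim_self_eq_ringKrullDim] at heq
  rw [← heq] at hdim
  exact lt_irrefl _ hdim

end Local

section Main

variable (k : Type u) [Field k]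

theorem ci_saturated (N r : ℕ) (hr : r < N) (f : Fin r → MvPolynomial (Fin N) k)
    (hfm : ∀ i, f i ∈ irr k N)
    (hJ : (r : ℕ∞) ≤ (Ideal.span (Set.range f)).height) (g : MvPolynomial (Fin N) k)
    (hg : ∀ i : Fin N, ∃ m : ℕ, X i ^ m * g ∈ Ideal.span (Set.range f)) :
    g ∈ Ideal.span (Set.range f) := by
  have hJm : Ideal.span (Set.range f) ≤ irr k N := by
    rw [Ideal.span_le]
    rintro _ ⟨i, rfl⟩
    exact hfm i
  haveI : IsRegularLocalRing (Localization.AtPrime (irr k N)) := inferInstance
  have hCM := RegUCH8.isCM_of_regular (Localization.AtPrime (irr k N))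
  have hofList : Ideal.ofList (List.ofFn (fun i => algebraMap (MvPolynomial (Fin N) k)
      (Localization.AtPrime (irr k N)) (f i))) =
      (Ideal.span (Set.range f)).map (algebraMap (MvPolynomial (Fin N) k)
        (Localization.AtPrime (irr k N))) := by
    rw [Ideal.ofList, Ideal.map_span]
    congr 1
    ext x
    simp only [List.mem_ofFn, Set.mem_setOf_eq, Set.mem_image, Set.mem_range, exists_exists_eq_and]
  have hdimA : ringKrullDim (Localization.AtPrime (irr k N)) = ((irr k N).height : WithBot ℕ∞) :=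
    IsLocalization.AtPrime.ringKrullDim_eq_height (irr k N) _
  have hinj : Function.Injective (algebraMap (MvPolynomial (Fin N) k)
      (Localization.AtPrime (irr k N))) :=
    IsLocalization.injective _ (Ideal.primeCompl_le_nonZeroDivisors (irr k N))
  have key := mem_of_pow_mul_mem hCM
    (List.ofFn (fun i => algebraMap (MvPolynomial (Fin N) k)
      (Localization.AtPrime (irr k N)) (f i)))
    (by
      intro x hx
      rw [List.mem_ofFn] at hx
      obtain ⟨i, rfl⟩ := hx
      exact (IsLocalization.AtPrime.to_map_mem_maximal_iff _ (irr k N) (f i)).mpr (hfm i))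
    (by
      intro P hP hle
      rw [List.length_ofFn]
      rw [hofList, Ideal.map_le_iff_le_comap] at hle
      rw [← IsLocalization.height_under (irr k N).primeCompl P]
      exact le_trans hJ (Ideal.height_mono hle))
    (by
      rw [List.length_ofFn, hdimA]
      have h1 : (r : ℕ∞) < (irr k N).height :=
        lt_of_lt_of_le (by exact_mod_cast hr) (le_height_irr k N)
      exact_mod_cast h1)
    ((algebraMap (MvPolynomial (Fin N) k) (Localization.AtPrime (irr k N))) ''
      (Set.range (X : Fin N → MvPolynomial (Fin N) k)))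
    (by
      rw [← Ideal.map_span, ← Localization.AtPrime.map_eq_maximalIdeal]
      apply Ideal.map_mono
      apply irr_le_of_X_mem
      intro i
      exact Ideal.subset_span ⟨i, rfl⟩)
    (algebraMap _ _ g)
    (by
      rintro _ ⟨_, ⟨i, rfl⟩, rfl⟩
      obtain ⟨m, hm⟩ := hg i
      refine ⟨m, ?_⟩
      rw [hofList, ← map_pow, ← map_mul]
      exact Ideal.mem_map_of_mem _ hm)
  rw [hofList, IsLocalization.mem_map_algebraMap_iff (irr k N).primeCompl] at key
  obtain ⟨⟨a, s⟩, has⟩ := key
  rw [← map_mul] at has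
  have hgs : g * (s : MvPolynomial (Fin N) k) ∈ Ideal.span (Set.range f) := by
    rw [hinj has]
    exact a.2
  -- the colon ideal
  by_contra hgJ
  have hcol : (Ideal.span (Set.range f) : Submodule _ (MvPolynomial (Fin N) k)).colon {g} ≠ ⊤ := by
    intro h
    have h1 : (1 : MvPolynomial (Fin N) k) ∈
        (Ideal.span (Set.range f) : Submodule _ (MvPolynomial (Fin N) k)).colon {g} := by
      rw [h]; trivial
    rw [Submodule.mem_colon_singleton, one_smul] at h1
    exact hgJ h1
  obtain ⟨M', hM', hle⟩ := Ideal.exists_le_maximal _ hcol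
  have hirrM : irr k N ≤ M' := by
    apply irr_le_of_X_mem
    intro i
    obtain ⟨m, hm⟩ := hg i
    have : X i ^ m ∈ M' := by
      apply hle
      rw [Submodule.mem_colon_singleton, smul_eq_mul]
      exact hm
    exact hM'.isPrime.mem_of_pow_mem m this
  have hMeq : irr k N = M' := (irr_isMaximal k N).eq_of_le hM'.ne_top hirrM
  have hsM : (s : MvPolynomial (Fin N) k) ∈ M' := by
    apply hle
    rw [Submodule.mem_colon_singleton, smul_eq_mul, mul_comm]
    exact hgs
  rw [← hMeq] at hsM
  exact s.2 hsM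

end Main

end Groth.Agent.CISat
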