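import Mathlib
import Groth.Prelude.Def_DeltaF
import Groth.Agent.Lib.DeltaUniv_helper2

/-!
# Morphisms of δ-functors out of an effaceable δ-functor: isomorphism criteria
-/

set_option autoImplicit false
universe v u v' u'
open CategoryTheory Limits

namespace Groth.Agent.Lib.DeltaIso

open DeltaF Groth.Agent.Lib.DeltaUniv

variable {A : Type u} [Category.{v} A] [Abelian A] {B : Type u'} [Category.{v'} B] [Abelian B]
  {T T' : CohDeltaFunctor A B ℕ} (φ : T ⟶ T')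

/-- the monomorphism step -/
lemma mono_succ (hT : T.IsEffaceable) (i : ℕ) (hE : ∀ X, Epi ((φ.app i).app X))
    (hM : ∀ X, Mono ((φ.app i).app X)) (X : A) : Mono ((φ.app (i + 1)).app X) := by
  haveI := epi_δ T (effu T hT i X) i (effu_zero T hT i X)
  obtain ⟨S, hS⟩ : ∃ S : ShortComplex A, S = SE (effu T hT i X) := ⟨_, rfl⟩
  have hSE : S.ShortExact := by rw [hS]; exact SE_shortExact _
  have hX : S.X₁ = X := by rw [hS]
  haveI : Epi (T.δ S hSE i (i + 1) rfl) := by subst hS; infer_instance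
  suffices h : Mono ((φ.app (i + 1)).app S.X₁) by subst hS; exact h
  apply Preadditive.mono_of_cancel_zero
  intro W f hf
  obtain ⟨W₁, π₁, _, g, hg⟩ := surjective_up_to_refinements_of_epi (T.δ S hSE i (i + 1) rfl) f
  have hcomm := φ.comm S hSE i (i + 1) rfl
  have h1 : (g ≫ (φ.app i).app S.X₃) ≫ T'.δ S hSE i (i + 1) rfl = 0 := by
    rw [Category.assoc, ← hcomm, ← Category.assoc, ← hg, Category.assoc, hf, comp_zero]
  obtain ⟨W₂, π₂, _, h, hh⟩ :=
    (T'.exact₃ S hSE i (i + 1) rfl).exact_up_to_refinements (g ≫ (φ.app i).app S.X₃) h1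
  haveI := hE S.X₂
  obtain ⟨W₃, π₃, _, k, hk⟩ := surjective_up_to_refinements_of_epi ((φ.app i).app S.X₂) h
  have h2 : k ≫ (T.F i).map S.g = π₃ ≫ π₂ ≫ g := by
    haveI := hM S.X₃
    rw [← cancel_mono ((φ.app i).app S.X₃), Category.assoc, (φ.app i).naturality,
      ← Category.assoc, ← hk, Category.assoc, Category.assoc, Category.assoc]
    exact congrArg (fun t => π₃ ≫ t) hh.symm
  have h3 : (π₃ ≫ π₂ ≫ π₁) ≫ f = 0 := by
    have e1 : (π₃ ≫ π₂ ≫ π₁) ≫ f = (π₃ ≫ π₂ ≫ g) ≫ T.δ S hSE i (i + 1) rfl := by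
      simp only [Category.assoc, hg]
    rw [e1, ← h2, Category.assoc, T.comp_δ S hSE i (i + 1) rfl, comp_zero]
  haveI : Epi (π₃ ≫ π₂ ≫ π₁) := epi_comp _ _
  exact (cancel_epi (π₃ ≫ π₂ ≫ π₁)).mp (h3.trans comp_zero.symm)

/-- the epimorphism step -/
lemma epi_succ (i : ℕ) (hE : ∀ X, Epi ((φ.app i).app X))
    (heff : ∀ X : A, ∃ (Y : A) (u : X ⟶ Y), Mono u ∧ (T'.F (i + 1)).map u = 0) (X : A) :
    Epi ((φ.app (i + 1)).app X) := by
  obtain ⟨Y, u, hu, hu0⟩ := heff X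
  haveI := hu
  haveI := epi_δ T' u i hu0
  haveI := hE (SE u).X₃
  have hcomm := φ.comm (SE u) (SE_shortExact u) i (i + 1) rfl
  haveI : Epi (T.δ (SE u) (SE_shortExact u) i (i + 1) rfl ≫ (φ.app (i + 1)).app (SE u).X₁) := by
    rw [hcomm]
    exact epi_comp _ _
  exact epi_of_epi (T.δ (SE u) (SE_shortExact u) i (i + 1) rfl) ((φ.app (i + 1)).app X)

/-- effaceability of the target in a degree where the morphism is an epimorphism -/
lemma eff_of_epi (hT : T.IsEffaceable) (i : ℕ) (hE : ∀ X, Epi ((φ.app (i + 1)).app X)) (X : A) :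
    ∃ (Y : A) (u : X ⟶ Y), Mono u ∧ (T'.F (i + 1)).map u = 0 := by
  refine ⟨_, effu T hT i X, inferInstance, ?_⟩
  haveI := hE X
  rw [← cancel_epi ((φ.app (i + 1)).app X), comp_zero, ← (φ.app (i + 1)).naturality,
    effu_zero, zero_comp]

lemma isIso_app_iff (i : ℕ) :
    IsIso (φ.app i) ↔ ∀ X, Mono ((φ.app i).app X) ∧ Epi ((φ.app i).app X) := by
  constructor
  · intro h X
    haveI : IsIso ((φ.app i).app X) := inferInstance
    exact ⟨inferInstance, inferInstance⟩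
  · intro h
    haveI : ∀ X, IsIso ((φ.app i).app X) := fun X => by
      haveI := (h X).1
      haveI := (h X).2
      exact isIso_of_mono_of_epi _
    exact NatIso.isIso_of_isIso_app _

lemma mono_app_iff (i : ℕ) : Mono (φ.app i) ↔ ∀ X, Mono ((φ.app i).app X) :=
  NatTrans.mono_iff_mono_app _

lemma epi_app_iff (i : ℕ) : Epi (φ.app i) ↔ ∀ X, Epi ((φ.app i).app X) :=
  NatTrans.epi_iff_epi_app _

theorem main (hT : T.IsEffaceable) (n : ℕ) :
    ((∀ i : ℕ, i ≤ n → IsIso (φ.app i)) ∧ Mono (φ.app (n + 1)) ↔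
      (Mono (φ.app 0) ∧ ∀ i : ℕ, i ≤ n → Epi (φ.app i))) ∧
    ((∀ i : ℕ, i ≤ n → IsIso (φ.app i)) ∧ Mono (φ.app (n + 1)) ↔
      (IsIso (φ.app 0) ∧ ∀ i : ℕ, 0 < i → i ≤ n →
        ∀ X : A, ∃ (Y : A) (u : X ⟶ Y), Mono u ∧ (T'.F i).map u = 0)) := by
  refine ⟨⟨?_, ?_⟩, ⟨?_, ?_⟩⟩
  · rintro ⟨h1, -⟩
    refine ⟨?_, fun i hi => ?_⟩
    · haveI := h1 0 (Nat.zero_le n)
      infer_instance
    · haveI := h1 i hi
      infer_instance
  · rintro ⟨h1, h2⟩
    have hmono : ∀ i, i ≤ n + 1 → ∀ X, Mono ((φ.app i).app X) := by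
      intro i
      induction i with
      | zero => exact fun _ => (mono_app_iff φ 0).mp h1
      | succ i ih =>
        intro hi
        exact mono_succ φ hT i ((epi_app_iff φ i).mp (h2 i (by omega))) (ih (by omega))
    refine ⟨fun i hi => ?_, (mono_app_iff φ (n + 1)).mpr (hmono (n + 1) le_rfl)⟩
    exact (isIso_app_iff φ i).mpr
      (fun X => ⟨hmono i (by omega) X, (epi_app_iff φ i).mp (h2 i hi) X⟩)
  · rintro ⟨h1, -⟩
    refine ⟨h1 0 (Nat.zero_le n), ?_⟩
    intro i hi0 hin X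
    obtain ⟨j, rfl⟩ : ∃ j, i = j + 1 := ⟨i - 1, by omega⟩
    exact eff_of_epi φ hT j (fun X => (((isIso_app_iff φ (j + 1)).mp (h1 (j + 1) hin)) X).2) X
  · rintro ⟨h1, h2⟩
    have hiso : ∀ i, i ≤ n → ∀ X, Mono ((φ.app i).app X) ∧ Epi ((φ.app i).app X) := by
      intro i
      induction i with
      | zero => exact fun _ => (isIso_app_iff φ 0).mp h1
      | succ i ih =>
        intro hi X
        have ih' := ih (by omega)
        exact ⟨mono_succ φ hT i (fun X => (ih' X).2) (fun X => (ih' X).1) X,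
          epi_succ φ i (fun X => (ih' X).2) (h2 (i + 1) (by omega) hi) X⟩
    refine ⟨fun i hi => (isIso_app_iff φ i).mpr (hiso i hi), ?_⟩
    exact (mono_app_iff φ (n + 1)).mpr
      (mono_succ φ hT n (fun X => (hiso n le_rfl X).2) (fun X => (hiso n le_rfl X).1))

end Groth.Agent.Lib.DeltaIso
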