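import Mathlib
import Groth.Prelude.Def_DeltaF

set_option autoImplicit false
universe v u v' u'
set_option linter.style.haveILetI false

namespace Groth.Agent.Lib.DeltaUnivH4

open CategoryTheory CategoryTheory.Limits DeltaF

variable {A : Type u} [Category.{v} A] [Abelian A] {B : Type u'} [Category.{v'} B] [Abelian B]

lemma shortExact_mk {X Y : A} (w : X ⟶ Y) [Mono w] :
    (ShortComplex.mk w (cokernel.π w) (cokernel.condition w)).ShortExact :=
  ShortComplex.ShortExact.mk' (ShortComplex.exact_of_g_is_cokernel _ (cokernelIsCokernel w))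
    (by dsimp; infer_instance) (by dsimp; infer_instance)

variable (T T' : CohDeltaFunctor A B ℕ)

lemma compat {n : ℕ} (τn : T.F n ⟶ T'.F n) {S S' : ShortComplex A} (hS : S.ShortExact)
    (hS' : S'.ShortExact) (φ : S ⟶ S') (h0 : (T.F (n+1)).map S.f = 0)
    (a : (T.F (n+1)).obj S.X₁ ⟶ (T'.F (n+1)).obj S.X₁)
    (ha : T.δ S hS n (n+1) rfl ≫ a = τn.app S.X₃ ≫ T'.δ S hS n (n+1) rfl)
    (a' : (T.F (n+1)).obj S'.X₁ ⟶ (T'.F (n+1)).obj S'.X₁)
    (ha' : T.δ S' hS' n (n+1) rfl ≫ a' = τn.app S'.X₃ ≫ T'.δ S' hS' n (n+1) rfl) :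
    (T.F (n+1)).map φ.τ₁ ≫ a' = a ≫ (T'.F (n+1)).map φ.τ₁ := by
  haveI : Epi (T.δ S hS n (n+1) rfl) := (T.exact₁ S hS n (n+1) rfl).epi_f h0
  rw [← cancel_epi (T.δ S hS n (n+1) rfl)]
  conv_lhs =>
    rw [← Category.assoc, ← T.δ_natural hS hS' φ n (n+1) rfl, Category.assoc, ha',
      τn.naturality_assoc, T'.δ_natural hS hS' φ n (n+1) rfl, ← Category.assoc, ← ha,
      Category.assoc]

lemma exists_good {n : ℕ} (τn : T.F n ⟶ T'.F n) {S : ShortComplex A} (hS : S.ShortExact)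
    (h0 : (T.F (n+1)).map S.f = 0) :
    ∃ a : (T.F (n+1)).obj S.X₁ ⟶ (T'.F (n+1)).obj S.X₁,
      T.δ S hS n (n+1) rfl ≫ a = τn.app S.X₃ ≫ T'.δ S hS n (n+1) rfl := by
  haveI : Epi (T.δ S hS n (n+1) rfl) := (T.exact₁ S hS n (n+1) rfl).epi_f h0
  have hE := T.exact₃ S hS n (n+1) rfl
  haveI : Epi (ShortComplex.mk ((T.F n).map S.g) (T.δ S hS n (n+1) rfl)
      (T.comp_δ S hS n (n+1) rfl)).g := by
    dsimp; infer_instance
  refine ⟨hE.desc (τn.app S.X₃ ≫ T'.δ S hS n (n+1) rfl) ?_, hE.g_desc _ _⟩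
  dsimp
  rw [τn.naturality_assoc, T'.comp_δ, comp_zero]

lemma compat_of_monos {n : ℕ} (τn : T.F n ⟶ T'.F n) {S S' : ShortComplex A} (hS : S.ShortExact)
    (hS' : S'.ShortExact) (f : S.X₁ ⟶ S'.X₁) (h0 : (T.F (n+1)).map S.f = 0)
    (h0' : (T.F (n+1)).map S'.f = 0)
    (a : (T.F (n+1)).obj S.X₁ ⟶ (T'.F (n+1)).obj S.X₁)
    (ha : T.δ S hS n (n+1) rfl ≫ a = τn.app S.X₃ ≫ T'.δ S hS n (n+1) rfl)
    (a' : (T.F (n+1)).obj S'.X₁ ⟶ (T'.F (n+1)).obj S'.X₁)
    (ha' : T.δ S' hS' n (n+1) rfl ≫ a' = τn.app S'.X₃ ≫ T'.δ S' hS' n (n+1) rfl) :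
    (T.F (n+1)).map f ≫ a' = a ≫ (T'.F (n+1)).map f := by
  haveI := hS.mono_f
  let v : S.X₁ ⟶ S.X₂ ⊞ S'.X₂ := biprod.lift S.f (f ≫ S'.f)
  haveI : Mono v := mono_of_mono_fac (biprod.lift_fst S.f (f ≫ S'.f))
  let Sv : ShortComplex A := ShortComplex.mk v (cokernel.π v) (cokernel.condition v)
  have hSv : Sv.ShortExact := shortExact_mk v
  have h0v : (T.F (n+1)).map Sv.f = 0 := by
    show (T.F (n+1)).map (biprod.lift S.f (f ≫ S'.f)) = 0
    rw [biprod.lift_eq, Functor.map_add, Functor.map_comp, Functor.map_comp, Functor.map_comp,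
      h0, h0', zero_comp, comp_zero, zero_comp, add_zero]
  obtain ⟨av, hav⟩ := exists_good T T' τn hSv h0v
  let φ₁ : Sv ⟶ S := ShortComplex.homMk (𝟙 _) biprod.fst
    (cokernel.desc v (biprod.fst ≫ S.g) (by
      rw [← Category.assoc, biprod.lift_fst, S.zero]))
    (by
      show 𝟙 _ ≫ S.f = biprod.lift S.f (f ≫ S'.f) ≫ biprod.fst
      rw [Category.id_comp, biprod.lift_fst])
    (by
      show biprod.fst ≫ S.g = cokernel.π v ≫ cokernel.desc v (biprod.fst ≫ S.g) _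
      rw [cokernel.π_desc])
  let φ₂ : Sv ⟶ S' := ShortComplex.homMk f biprod.snd
    (cokernel.desc v (biprod.snd ≫ S'.g) (by
      rw [← Category.assoc, biprod.lift_snd, Category.assoc, S'.zero, comp_zero]))
    (by
      show f ≫ S'.f = biprod.lift S.f (f ≫ S'.f) ≫ biprod.snd
      rw [biprod.lift_snd])
    (by
      show biprod.snd ≫ S'.g = cokernel.π v ≫ cokernel.desc v (biprod.snd ≫ S'.g) _
      rw [cokernel.π_desc])
  have e1 : a = av := by
    have := compat T T' τn hSv hS φ₁ h0v av hav a ha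
    have h1 : φ₁.τ₁ = 𝟙 _ := rfl
    rw [h1, CategoryTheory.Functor.map_id, CategoryTheory.Functor.map_id] at this
    exact (Category.id_comp a).symm.trans (this.trans (Category.comp_id av))
  have e2 := compat T T' τn hSv hS' φ₂ h0v av hav a' ha'
  have h2 : φ₂.τ₁ = f := rfl
  rw [h2] at e2
  rw [e1]
  exact e2

lemma step {n : ℕ} (hT : T.IsEffaceable) (τn : T.F n ⟶ T'.F n) :
    ∃ σ : T.F (n+1) ⟶ T'.F (n+1), ∀ (S : ShortComplex A) (hS : S.ShortExact),
      T.δ S hS n (n+1) rfl ≫ σ.app S.X₁ = τn.app S.X₃ ≫ T'.δ S hS n (n+1) rfl := by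
  classical
  choose Y u hu h0 using fun X => hT n X
  let Su : A → ShortComplex A := fun X =>
    ShortComplex.mk (u X) (cokernel.π (u X)) (cokernel.condition (u X))
  have hSu : ∀ X, (Su X).ShortExact := fun X => by
    haveI := hu X
    exact shortExact_mk (u X)
  have h0u : ∀ X, (T.F (n+1)).map (Su X).f = 0 := fun X => h0 X
  choose a ha using fun X => exists_good T T' τn (hSu X) (h0u X)
  refine ⟨{ app := fun X => a X, naturality := ?_ }, ?_⟩
  · intro X X' f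
    exact compat_of_monos T T' τn (hSu X) (hSu X') f (h0u X) (h0u X') (a X) (ha X) (a X') (ha X')
  · intro S hS
    haveI := hS.mono_f
    haveI := hS.epi_g
    haveI : Mono (u S.X₂) := hu _
    let w : S.X₁ ⟶ Y S.X₂ := S.f ≫ u S.X₂
    haveI : Mono w := mono_comp _ _
    let Sw : ShortComplex A := ShortComplex.mk w (cokernel.π w) (cokernel.condition w)
    have hSw : Sw.ShortExact := shortExact_mk w
    have h0w : (T.F (n+1)).map Sw.f = 0 := by
      show (T.F (n+1)).map (S.f ≫ u S.X₂) = 0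
      rw [Functor.map_comp, h0, comp_zero]
    obtain ⟨aw, haw⟩ := exists_good T T' τn hSw h0w
    have e1 : aw = a S.X₁ := by
      have := compat_of_monos T T' τn (hSu S.X₁) hSw (𝟙 S.X₁) (h0u _) h0w (a S.X₁) (ha S.X₁) aw haw
      rw [CategoryTheory.Functor.map_id, CategoryTheory.Functor.map_id] at this
      exact (Category.id_comp aw).symm.trans (this.trans (Category.comp_id _))
    let ψ : S ⟶ Sw := ShortComplex.homMk (𝟙 _) (u S.X₂)
      (hS.exact.desc (u S.X₂ ≫ cokernel.π w) (by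
        rw [← Category.assoc]; exact cokernel.condition w))
      (Category.id_comp _)
      ((hS.exact.g_desc _ _).symm)
    have hψ₁ : ψ.τ₁ = 𝟙 _ := rfl
    have n1 := T.δ_natural hS hSw ψ n (n+1) rfl
    have n2 := T'.δ_natural hS hSw ψ n (n+1) rfl
    rw [hψ₁, CategoryTheory.Functor.map_id] at n1 n2
    have n1' : (T.F n).map ψ.τ₃ ≫ T.δ Sw hSw n (n+1) rfl = T.δ S hS n (n+1) rfl :=
      n1.trans (Category.comp_id _)
    have n2' : (T'.F n).map ψ.τ₃ ≫ T'.δ Sw hSw n (n+1) rfl = T'.δ S hS n (n+1) rfl :=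
      n2.trans (Category.comp_id _)
    show T.δ S hS n (n+1) rfl ≫ a S.X₁ = _
    calc T.δ S hS n (n+1) rfl ≫ a S.X₁
        = ((T.F n).map ψ.τ₃ ≫ T.δ Sw hSw n (n+1) rfl) ≫ aw := by rw [n1', e1]
      _ = (T.F n).map ψ.τ₃ ≫ τn.app Sw.X₃ ≫ T'.δ Sw hSw n (n+1) rfl := by
          rw [Category.assoc, haw]
      _ = τn.app S.X₃ ≫ (T'.F n).map ψ.τ₃ ≫ T'.δ Sw hSw n (n+1) rfl := by
          rw [τn.naturality_assoc]
      _ = τn.app S.X₃ ≫ T'.δ S hS n (n+1) rfl := by rw [n2']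

theorem main (hT : T.IsEffaceable) : T.IsUniversal := by
  unfold DeltaF.CohDeltaFunctor.IsUniversal
  intro T' t
  classical
  have hstep : ∀ (n : ℕ) (τn : T.F n ⟶ T'.F n),
      ∃ σ : T.F (n+1) ⟶ T'.F (n+1), ∀ (S : ShortComplex A) (hS : S.ShortExact),
        T.δ S hS n (n+1) rfl ≫ σ.app S.X₁ = τn.app S.X₃ ≫ T'.δ S hS n (n+1) rfl :=
    fun n τn => step T T' hT τn
  let τ : (n : ℕ) → (T.F n ⟶ T'.F n) := fun n =>
    Nat.rec (motive := fun n => T.F n ⟶ T'.F n) t (fun n τn => (hstep n τn).choose) n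
  have hτ : ∀ (n : ℕ) (S : ShortComplex A) (hS : S.ShortExact),
      T.δ S hS n (n+1) rfl ≫ (τ (n+1)).app S.X₁ = (τ n).app S.X₃ ≫ T'.δ S hS n (n+1) rfl :=
    fun n => (hstep n (τ n)).choose_spec
  refine ⟨(CohDeltaFunctor.Hom.mk τ ?_ : CohDeltaFunctor.Hom T T'), rfl, ?_⟩
  · intro S hS n₀ n₁ h
    obtain rfl : n₁ = n₀ + 1 := h.symm
    exact hτ n₀ S hS
  · intro τ' hτ'
    apply CohDeltaFunctor.hom_ext
    intro n
    induction n with
    | zero => exact hτ'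
    | succ n ih =>
      ext X
      obtain ⟨Y, u, hu, h0⟩ := hT n X
      haveI := hu
      let S : ShortComplex A := ShortComplex.mk u (cokernel.π u) (cokernel.condition u)
      have hS : S.ShortExact := shortExact_mk u
      haveI : Epi (T.δ S hS n (n+1) rfl) := (T.exact₁ S hS n (n+1) rfl).epi_f h0
      rw [← cancel_epi (T.δ S hS n (n+1) rfl)]
      have e1 := τ'.comm S hS n (n+1) rfl
      rw [ih] at e1
      exact e1.trans (hτ n S hS).symm

end Groth.Agent.Lib.DeltaUnivH4
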