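import Mathlib
import Groth.Prelude.Def_DeltaF
import Groth.Prelude.Def_RDerDelta
import Groth.Agent.Lib.LocCohDelta_helper7
import Groth.Agent.Lib.LocCohDT2_helper7
import Groth.Agent.Lib.LocCohDTExact_helper7
import Groth.Agent.Lib.LocCohFunct_helper7
import Groth.Agent.Lib.LocCohInjAcyc_helper7
import Groth.Agent.Lib.Horseshoe0_helper9
import Groth.Agent.Lib.DeltaUniv_helper4
import Groth.Agent.Lib.DeltaIso_helper2

/-!
# Local cohomology as a δ-functor; right derived functors of the ideal transform (helper7; S11637)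
-/

set_option autoImplicit false

open CategoryTheory CategoryTheory.Limits Opposite DeltaF

namespace Groth.Agent.Lib.LCDeltaH7

open Groth.Agent.Lib.LocCohLESH7 Groth.Agent.Lib.ExtCompareH7 Groth.Agent.Lib.LocCohDTH7
open Groth.Agent.Lib.LocCohDTExactH7 Groth.Agent.Lib.DT_helper3 LocCoh

universe u

variable {R : Type u} [CommRing R] (I : Ideal R)

section nat

variable {S S' : ShortComplex (ModuleCat.{u} R)} (hS : S.ShortExact) (hS' : S'.ShortExact)

/-- naturality of the connecting maps -/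
theorem δ_natural (φ : S ⟶ S') (p : ℕ) :
    (localCohomology I (p + 1)).map φ.τ₃ ≫ δ I hS' p =
      δ I hS p ≫ (localCohomology I (p + 2)).map φ.τ₁ := by
  apply ModuleCat.hom_ext
  apply LinearMap.ext
  intro m
  obtain ⟨k, ξ, rfl⟩ := exists_rep I (p + 1) S.X₃ m
  show (δ I hS' p).hom (((localCohomology I (p + 1)).map φ.τ₃).hom
      ((ιk I (p + 1) k S.X₃).hom ξ)) =
    ((localCohomology I (p + 2)).map φ.τ₁).hom ((δ I hS p).hom ((ιk I (p + 1) k S.X₃).hom ξ))
  rw [ι_nat, δ_ι, δ_ι]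
  unfold δFun
  rw [ι_nat]
  set η := Θinv S.X₁ (p + 1) ((Θ S.X₃ p ξ).comp hS.extClass rfl) with hη
  have hηΘ : Θ S.X₁ (p + 1) η = (Θ S.X₃ p ξ).comp hS.extClass rfl := Θ_Θinv _ _ _
  have e1 := Abelian.Ext.comp_assoc (Θ S.X₃ p ξ) (Abelian.Ext.mk₀ φ.τ₃) hS'.extClass
    (add_zero (p + 1)) (zero_add 1) (by omega : p + 1 + 0 + 1 = p + 2)
  have e2 := Abelian.Ext.comp_assoc (Θ S.X₃ p ξ) hS.extClass (Abelian.Ext.mk₀ φ.τ₁)
    (rfl : p + 1 + 1 = p + 2) (add_zero 1) (by omega : p + 1 + 1 + 0 = p + 2)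
  rw [ShortComplex.ShortExact.extClass_naturality hS hS' φ] at e2
  have key : Θinv S'.X₁ (p + 1)
      ((Θ S'.X₃ p ((((Ext R (ModuleCat.{u} R) (p + 1)).obj (op (Xk I k))).map φ.τ₃).hom ξ)).comp
        hS'.extClass rfl) =
      (((Ext R (ModuleCat.{u} R) (p + 2)).obj (op (Xk I k))).map φ.τ₁).hom η := by
    apply Θ_injective
    rw [Θ_Θinv, Θ_map_Y, Θ_map_Y, hηΘ]
    exact e1.trans e2.symm
  rw [key]

include hS in
theorem map_g_δ (p : ℕ) : (localCohomology I (p + 1)).map S.g ≫ δ I hS p = 0 := by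
  apply ModuleCat.hom_ext
  apply LinearMap.ext
  intro m
  obtain ⟨k, ξ, rfl⟩ := exists_rep I (p + 1) S.X₂ m
  show (δ I hS p).hom (((localCohomology I (p + 1)).map S.g).hom
      ((ιk I (p + 1) k S.X₂).hom ξ)) = 0
  rw [ι_nat, δ_ι]
  unfold δFun
  rw [Θ_map_Y]
  have e1 := Abelian.Ext.comp_assoc (Θ S.X₂ p ξ) (Abelian.Ext.mk₀ S.g) hS.extClass
    (add_zero (p + 1)) (zero_add 1) (by omega : p + 1 + 0 + 1 = p + 2)
  rw [hS.comp_extClass, Abelian.Ext.comp_zero] at e1
  rw [e1, Θinv_zero, map_zero]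

include hS in
theorem δ_map_f (p : ℕ) : δ I hS p ≫ (localCohomology I (p + 2)).map S.f = 0 := by
  apply ModuleCat.hom_ext
  apply LinearMap.ext
  intro m
  obtain ⟨k, ξ, rfl⟩ := exists_rep I (p + 1) S.X₃ m
  show ((localCohomology I (p + 2)).map S.f).hom ((δ I hS p).hom
      ((ιk I (p + 1) k S.X₃).hom ξ)) = 0
  rw [δ_ι]
  unfold δFun
  rw [ι_nat]
  have h0 : (((Ext R (ModuleCat.{u} R) (p + 2)).obj (op (Xk I k))).map S.f).hom
      (Θinv S.X₁ (p + 1) ((Θ S.X₃ p ξ).comp hS.extClass rfl)) = 0 := by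
    apply Θ_injective
    rw [Θ_map_Y, Θ_Θinv, Θ_zero]
    have e2 := Abelian.Ext.comp_assoc (Θ S.X₃ p ξ) hS.extClass (Abelian.Ext.mk₀ S.f)
      (rfl : p + 1 + 1 = p + 2) (add_zero 1) (by omega : p + 1 + 1 + 0 = p + 2)
    rw [hS.extClass_comp, Abelian.Ext.comp_zero] at e2
    exact e2
  rw [h0, map_zero]

/-- the connecting map with free target index -/
noncomputable def δsh (n₀ n₁ : ℕ) (h : n₀ + 1 = n₁) :
    (localCohomology I (n₀ + 1)).obj S.X₃ ⟶ (localCohomology I (n₁ + 1)).obj S.X₁ := by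
  subst h
  exact δ I hS n₀

end nat

/-- the shifted local cohomology δ-functor `n ↦ H^{n+1}_I` -/
noncomputable def Tsh : CohDeltaFunctor (ModuleCat.{u} R) (ModuleCat.{u} R) ℕ where
  F n := localCohomology I (n + 1)
  additive n := inferInstance
  δ S hS n₀ n₁ h := δsh I hS n₀ n₁ h
  δ_natural hS hS' φ n₀ n₁ h := by
    subst h
    exact δ_natural I hS hS' φ n₀
  exact₂ S hS n := by
    rw [ShortComplex.moduleCat_exact_iff]
    intro x hx
    exact exact_middle I hS n x hx
  comp_δ S hS n₀ n₁ h := by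
    subst h
    exact map_g_δ I hS n₀
  exact₃ S hS n₀ n₁ h := by
    subst h
    rw [ShortComplex.moduleCat_exact_iff]
    intro x hx
    exact exists_of_δ_eq_zero I hS n₀ x hx
  δ_comp S hS n₀ n₁ h := by
    subst h
    exact δ_map_f I hS n₀
  exact₁ S hS n₀ n₁ h := by
    subst h
    rw [ShortComplex.moduleCat_exact_iff]
    intro x hx
    exact exists_δ_eq I hS n₀ x hx

variable [IsNoetherianRing R]

theorem H_injective_subsingleton (X : ModuleCat.{u} R) [Injective X] (n : ℕ) :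
    Subsingleton ((localCohomology I (n + 1)).obj X : ModuleCat.{u} R) := by
  haveI : Module.Injective R X := Module.injective_module_of_injective_object R X
  exact Groth.Agent.Lib.LocCohInjAcycH7.main (R' := R) I X (n + 1) (Nat.succ_pos n)

theorem Tsh_eff (n : ℕ) (X : ModuleCat.{u} R) :
    ∃ (Y : ModuleCat.{u} R) (u : X ⟶ Y), Mono u ∧ (localCohomology I (n + 1)).map u = 0 := by
  refine ⟨Injective.under X, Injective.ι X, inferInstance, ?_⟩
  haveI := H_injective_subsingleton I (Injective.under X) n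
  exact (ModuleCat.isZero_of_subsingleton _).eq_of_tgt _ _

/-- the derived δ-functor of the ideal transform -/
noncomputable def TD : CohDeltaFunctor (ModuleCat.{u} R) (ModuleCat.{u} R) ℕ :=
  (Groth.Agent.Lib.Horseshoe0.derivedLES (idealTransform I)).toCohDeltaFunctor

theorem TD_eff : (TD I).IsEffaceable := by
  intro n X
  refine ⟨Injective.under X, Injective.ι X, inferInstance, ?_⟩
  exact (Functor.isZero_rightDerived_obj_injective_succ (idealTransform I) n
    (Injective.under X)).eq_of_tgt _ _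

instance : PreservesFiniteLimits (idealTransform I) := by
  apply ((idealTransform I).preservesFiniteLimits_tfae.out 0 3).1
  intro S hS
  have hf : Function.Injective S.f.hom := (ModuleCat.mono_iff_injective _).1 hS.mono_f
  have hfg : Function.Exact S.f.hom S.g.hom :=
    (ShortComplex.ShortExact.moduleCat_exact_iff_function_exact S).1 hS.exact
  constructor
  · rw [ShortComplex.moduleCat_exact_iff]
    intro x hx
    exact D_exact I S.f.hom S.g.hom hfg hf x hx
  · rw [ModuleCat.mono_iff_injective]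
    exact D_injective I S.f.hom hf

/-- `ΦD` as a natural transformation `D_I ⟶ H^1_I` -/
noncomputable def ΦN : idealTransform I ⟶ localCohomology I 1 where
  app X := ΦD I X
  naturality X Y f := by
    apply ModuleCat.hom_ext
    apply LinearMap.ext
    intro x
    exact ΦD_nat I f.hom x

/-- the degree zero comparison `R^0 D_I ⟶ H^1_I` -/
noncomputable def t0 : (idealTransform I).rightDerived 0 ⟶ localCohomology I 1 :=
  (idealTransform I).rightDerivedZeroIsoSelf.hom ≫ ΦN I

theorem exists_τ : ∃ τ : TD I ⟶ Tsh I, τ.app 0 = t0 I := by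
  obtain ⟨τ, hτ, -⟩ := Groth.Agent.Lib.DeltaUnivH4.main (TD I) (TD_eff I) (Tsh I) (t0 I)
  exact ⟨τ, hτ⟩

theorem epi_zero (τ : TD I ⟶ Tsh I) (hτ : τ.app 0 = t0 I) (X : ModuleCat.{u} R) :
    Epi ((τ.app 0).app X) := by
  rw [hτ]
  have h1 : Epi (ΦD I X) := (ModuleCat.epi_iff_surjective _).2 (ΦD_surjective I X)
  show Epi (((idealTransform I).rightDerivedZeroIsoSelf.hom).app X ≫ ΦD I X)
  exact epi_comp _ _

theorem epi_one (τ : TD I ⟶ Tsh I) (hτ : τ.app 0 = t0 I) (X : ModuleCat.{u} R) :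
    Epi ((τ.app 1).app X) :=
  Groth.Agent.Lib.DeltaIso.epi_succ τ 0 (epi_zero I τ hτ) (fun X => Tsh_eff I 1 X) X

theorem mono_one (τ : TD I ⟶ Tsh I) (hτ : τ.app 0 = t0 I) (X : ModuleCat.{u} R) :
    Mono ((τ.app 1).app X) := by
  rw [ModuleCat.mono_iff_injective, injective_iff_map_eq_zero]
  intro a ha
  let u : X ⟶ Injective.under X := Injective.ι X
  let S : ShortComplex (ModuleCat.{u} R) :=
    ShortComplex.mk u (cokernel.π u) (cokernel.condition u)
  have hS : S.ShortExact := Groth.Agent.Lib.DeltaUnivH4.shortExact_mk u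
  -- (1)
  have hz : IsZero (((TD I).F 1).obj S.X₂) :=
    Functor.isZero_rightDerived_obj_injective_succ (idealTransform I) 0 (Injective.under X)
  haveI : Subsingleton (((TD I).F 1).obj S.X₂ : ModuleCat.{u} R) :=
    ModuleCat.subsingleton_of_isZero hz
  have h1 : (((TD I).F 1).map S.f).hom a = 0 := Subsingleton.elim _ _
  -- (2)
  have hex1 := (TD I).exact₁ S hS 0 1 rfl
  rw [ShortComplex.moduleCat_exact_iff] at hex1
  obtain ⟨b, hb⟩ := hex1 a h1
  -- (3)
  have hcomm := τ.comm S hS 0 1 rfl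
  have h3 : ((Tsh I).δ S hS 0 1 rfl).hom (((τ.app 0).app S.X₃).hom b) = 0 := by
    have := congrArg (fun α => α.hom b) hcomm
    simp only [ModuleCat.hom_comp, LinearMap.comp_apply] at this
    rw [← this]
    have hb' : ((TD I).δ S hS 0 1 rfl).hom b = a := hb
    rw [hb']
    exact ha
  -- (4)
  have hex3 := (Tsh I).exact₃ S hS 0 1 rfl
  rw [ShortComplex.moduleCat_exact_iff] at hex3
  obtain ⟨e, he⟩ := hex3 _ h3
  have he0 : e = 0 :=
    @Subsingleton.elim _ (H_injective_subsingleton I (Injective.under X) 0) e 0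
  have h4 : ((τ.app 0).app S.X₃).hom b = 0 := by
    have he' : (((Tsh I).F 0).map S.g).hom e = ((τ.app 0).app S.X₃).hom b := he
    rw [← he', he0, map_zero]
  -- (5)
  rw [hτ] at h4
  set b' := (((idealTransform I).rightDerivedZeroIsoSelf.hom).app S.X₃).hom b with hb'
  have h5 : (ΦD I S.X₃).hom b' = 0 := h4
  obtain ⟨q, hq⟩ := mem_range_of_ΦD_eq_zero I S.X₃ b' h5
  -- (6)
  obtain ⟨e₀, he₀⟩ := (ModuleCat.epi_iff_surjective S.g).1 hS.epi_g q
  have h6 : ((idealTransform I).map S.g).hom (toDT I S.X₂ e₀) = b' := by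
    have := toDT_nat I S.g.hom e₀
    rw [he₀, hq] at this
    exact this
  -- (7)
  set d' := (((idealTransform I).rightDerivedZeroIsoSelf.inv).app S.X₂).hom (toDT I S.X₂ e₀)
    with hd'
  have h7 : (((TD I).F 0).map S.g).hom d' = b := by
    have hn := congrArg (fun α => α.hom (toDT I S.X₂ e₀))
      ((idealTransform I).rightDerivedZeroIsoSelf.inv.naturality S.g)
    simp only [ModuleCat.hom_comp, LinearMap.comp_apply] at hn
    have hn' : (((idealTransform I).rightDerived 0).map S.g).hom d' =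
        (((idealTransform I).rightDerivedZeroIsoSelf.inv).app S.X₃).hom b' := by
      rw [← h6]
      exact hn.symm
    have hinv : (((idealTransform I).rightDerivedZeroIsoSelf.inv).app S.X₃).hom b' = b := by
      have := congrArg (fun α => α.hom b)
        ((idealTransform I).rightDerivedZeroIsoSelf.hom_inv_id_app S.X₃)
      exact this
    exact hn'.trans hinv
  -- (8)
  have h8 := congrArg (fun α => α.hom d') ((TD I).comp_δ S hS 0 1 rfl)
  simp only [ModuleCat.hom_comp, LinearMap.comp_apply] at h8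
  rw [h7] at h8
  have hb'' : ((TD I).δ S hS 0 1 rfl).hom b = a := hb
  rw [← hb'', h8]
  rfl

theorem mono_epi (τ : TD I ⟶ Tsh I) (hτ : τ.app 0 = t0 I) (n : ℕ) :
    (∀ X, Mono ((τ.app (n + 1)).app X)) ∧ (∀ X, Epi ((τ.app (n + 1)).app X)) := by
  induction n with
  | zero => exact ⟨mono_one I τ hτ, epi_one I τ hτ⟩
  | succ n ih =>
    exact ⟨Groth.Agent.Lib.DeltaIso.mono_succ τ (TD_eff I) (n + 1) ih.2 ih.1,
      Groth.Agent.Lib.DeltaIso.epi_succ τ (n + 1) ih.2 (fun X => Tsh_eff I (n + 1 + 1) X)⟩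

/-- S11637 -/
theorem main (i : ℕ) (hi : 1 ≤ i) :
    Nonempty ((idealTransform I).rightDerived i ≅ localCohomology I (i + 1)) := by
  obtain ⟨τ, hτ⟩ := exists_τ I
  obtain ⟨n, rfl⟩ : ∃ n, i = n + 1 := ⟨i - 1, by omega⟩
  obtain ⟨hm, he⟩ := mono_epi I τ hτ n
  haveI : ∀ X, IsIso ((τ.app (n + 1)).app X) := fun X => by
    haveI := hm X
    haveI := he X
    exact isIso_of_mono_of_epi _
  haveI : IsIso (τ.app (n + 1)) := NatIso.isIso_of_isIso_app _
  have e := asIso (τ.app (n + 1))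
  exact ⟨e⟩

end Groth.Agent.Lib.LCDeltaH7
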