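import Mathlib
import Groth.Prelude.Def_DRing3
import Groth.Agent.Lib.LCDelta_helper7
import Groth.Agent.Lib.LocCohDeltaZero_helper7
import Groth.Agent.Lib.GorHull_helper7
import Groth.Agent.Lib.LocCohH0_helper7

/-!
# The right derived functors of `Γ_I` are local cohomology (helper7; S11587)
-/

set_option autoImplicit false

open CategoryTheory CategoryTheory.Limits Opposite DeltaF

namespace Groth.Agent.Lib.LCDelta0H7

open Groth.Agent.Lib.LocCohLESH7 Groth.Agent.Lib.ExtCompareH7 Groth.Agent.Lib.LocCohDTH7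
open Groth.Agent.Lib.LocCohDTExactH7 Groth.Agent.Lib.DT_helper3 LocCoh
open Groth.Agent.Lib.LocCohDeltaZeroH7 Groth.Agent.Lib.InjHull_helper3 Groth.Agent.Lib.LCDeltaH7
open Groth.Agent.Lib.LocCohH0H7

universe u

variable {R : Type u} [CommRing R] (I : Ideal R)

theorem torsionSub_eq (M : Type u) [AddCommGroup M] [Module R M] :
    DRing.torsionSub I M = Γ I M := by
  ext m
  rw [mem_Γ_iff]
  rfl

section zero

variable {S S' : ShortComplex (ModuleCat.{u} R)} (hS : S.ShortExact) (hS' : S'.ShortExact)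

include hS in
theorem hf_ : Function.Injective S.f.hom := (ModuleCat.mono_iff_injective _).1 hS.mono_f

include hS in
theorem hg_ : Function.Surjective S.g.hom := (ModuleCat.epi_iff_surjective _).1 hS.epi_g

include hS in
theorem hfg_ : Function.Exact S.f.hom S.g.hom :=
  (ShortComplex.ShortExact.moduleCat_exact_iff_function_exact S).1 hS.exact

/-- the element of `Γ` attached to an element of `torsionSub` -/
def toΓ {M : Type u} [AddCommGroup M] [Module R M] (q : ↥(DRing.torsionSub I M)) : ↥(Γ I M) :=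
  ⟨q.1, by rw [← torsionSub_eq]; exact q.2⟩

/-- the degree zero connecting map -/
noncomputable def c0 : ↥(DRing.torsionSub I S.X₃) →ₗ[R] LocCoh.H I 1 S.X₁ :=
  (cMap I S.f.hom S.g.hom (hf_ hS) (hg_ hS) (hfg_ hS)) ∘ₗ
    (LinearEquiv.ofEq _ _ (torsionSub_eq I S.X₃)).toLinearMap

theorem c0_apply (q : ↥(DRing.torsionSub I S.X₃)) :
    c0 I hS q = cMap I S.f.hom S.g.hom (hf_ hS) (hg_ hS) (hfg_ hS) (toΓ I q) := rfl

theorem c0_spec (q : ↥(DRing.torsionSub I S.X₃)) (e : S.X₂) (z : LocCoh.DT I S.X₁)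
    (h1 : S.g.hom e = q.1)
    (h2 : ((idealTransform I).map S.f).hom z = LocCoh.toDT I S.X₂ e) :
    c0 I hS q = (ΦD I S.X₁).hom z :=
  cMap_spec I S.f.hom S.g.hom (hf_ hS) (hg_ hS) (hfg_ hS) (toΓ I q) e z h1 h2

include hS in
theorem exists_c0 (q : ↥(DRing.torsionSub I S.X₃)) :
    ∃ (e : S.X₂) (z : LocCoh.DT I S.X₁), S.g.hom e = q.1 ∧
      ((idealTransform I).map S.f).hom z = LocCoh.toDT I S.X₂ e := by
  obtain ⟨⟨e, z⟩, h1, h2⟩ := exC I S.f.hom S.g.hom (hf_ hS) (hg_ hS) (hfg_ hS) (toΓ I q)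
  exact ⟨e, z, h1, h2⟩

noncomputable def δ0 : (DRing.gammaI I).obj S.X₃ ⟶ (localCohomology I 1).obj S.X₁ :=
  ModuleCat.ofHom (c0 I hS)

theorem δ0_natural (φ : S ⟶ S') :
    (DRing.gammaI I).map φ.τ₃ ≫ δ0 I hS' = δ0 I hS ≫ (localCohomology I 1).map φ.τ₁ := by
  apply ModuleCat.hom_ext
  apply LinearMap.ext
  intro q
  obtain ⟨e, z, h1, h2⟩ := exists_c0 I hS q
  show c0 I hS' (((DRing.gammaI I).map φ.τ₃).hom q) =
    ((localCohomology I 1).map φ.τ₁).hom (c0 I hS q)
  rw [c0_spec I hS q e z h1 h2]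
  have e23 : S'.g.hom (φ.τ₂.hom e) = φ.τ₃.hom (S.g.hom e) := by
    have := congrArg (fun α => α.hom e) φ.comm₂₃
    exact this
  have e12 : ((idealTransform I).map S'.f).hom (((idealTransform I).map φ.τ₁).hom z) =
      ((idealTransform I).map φ.τ₂).hom (((idealTransform I).map S.f).hom z) := by
    have h := congrArg (fun α => ((idealTransform I).map α).hom z) φ.comm₁₂
    simp only [Functor.map_comp, ModuleCat.hom_comp, LinearMap.comp_apply] at h
    exact h
  rw [c0_spec I hS' _ (φ.τ₂.hom e) (((idealTransform I).map φ.τ₁).hom z)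
    (by rw [e23, h1]; rfl)
    (by rw [e12, h2]; exact toDT_nat I φ.τ₂.hom e)]
  exact ΦD_nat I φ.τ₁.hom z

include hS in
theorem exact₂0 : (ShortComplex.mk ((DRing.gammaI I).map S.f) ((DRing.gammaI I).map S.g)
    (by rw [← Functor.map_comp, S.zero, Functor.map_zero])).Exact := by
  rw [ShortComplex.moduleCat_exact_iff]
  intro y hy
  have hy' : S.g.hom y.1 = 0 := congrArg Subtype.val hy
  obtain ⟨x, hx⟩ := (hfg_ hS y.1).1 hy'
  obtain ⟨n, hn⟩ := y.2
  refine ⟨⟨x, n, fun a ha => ?_⟩, Subtype.ext hx⟩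
  apply hf_ hS
  rw [map_smul, hx, map_zero]
  exact hn a ha

theorem comp_δ0 : (DRing.gammaI I).map S.g ≫ δ0 I hS = 0 := by
  apply ModuleCat.hom_ext
  apply LinearMap.ext
  intro y
  show c0 I hS (((DRing.gammaI I).map S.g).hom y) = 0
  rw [c0_apply, cMap_eq_zero_iff]
  refine ⟨y.1, ?_, rfl⟩
  rw [← torsionSub_eq]
  exact y.2

theorem exact₃0 : (ShortComplex.mk _ _ (comp_δ0 I hS)).Exact := by
  rw [ShortComplex.moduleCat_exact_iff]
  intro q hq
  have hq' : c0 I hS q = 0 := hq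
  rw [c0_apply, cMap_eq_zero_iff] at hq'
  obtain ⟨y, hy, hgy⟩ := hq'
  refine ⟨⟨y, by rw [torsionSub_eq]; exact hy⟩, Subtype.ext hgy⟩

theorem δ0_comp : δ0 I hS ≫ (localCohomology I 1).map S.f = 0 := by
  apply ModuleCat.hom_ext
  apply LinearMap.ext
  intro q
  obtain ⟨e, z, h1, h2⟩ := exists_c0 I hS q
  show ((localCohomology I 1).map S.f).hom (c0 I hS q) = 0
  rw [c0_spec I hS q e z h1 h2]
  have h3 := ΦD_nat I S.f.hom z
  have h3' : ((localCohomology I 1).map S.f).hom ((ΦD I S.X₁).hom z) =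
      (ΦD I S.X₂).hom (((idealTransform I).map S.f).hom z) := h3.symm
  rw [h3', h2]
  exact ΦD_toDT I S.X₂ e

theorem exact₁0 : (ShortComplex.mk _ _ (δ0_comp I hS)).Exact := by
  rw [ShortComplex.moduleCat_exact_iff]
  intro y hy
  obtain ⟨q, hq⟩ := Groth.Agent.Lib.GorHullH7.cMap_range I S.f.hom S.g.hom (hf_ hS) (hg_ hS)
    (hfg_ hS) y hy
  refine ⟨⟨q.1, by rw [torsionSub_eq]; exact q.2⟩, ?_⟩
  exact hq

end zero

/-- the functors of the unshifted δ-functor -/
noncomputable def F0 : ℕ → (ModuleCat.{u} R ⥤ ModuleCat.{u} R)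
  | 0 => DRing.gammaI I
  | n + 1 => localCohomology I (n + 1)

instance (n : ℕ) : (F0 I n).Additive := by
  rcases n with _ | n
  · exact inferInstanceAs (DRing.gammaI I).Additive
  · exact inferInstanceAs (localCohomology I (n + 1)).Additive

/-- the connecting maps of the unshifted δ-functor -/
noncomputable def δF0 {S : ShortComplex (ModuleCat.{u} R)} (hS : S.ShortExact) :
    (n₀ n₁ : ℕ) → (h : n₀ + 1 = n₁) → ((F0 I n₀).obj S.X₃ ⟶ (F0 I n₁).obj S.X₁)
  | 0, _, rfl => δ0 I hS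
  | p + 1, _, rfl => δ I hS p

/-- local cohomology (with `Γ_I` in degree zero) as a δ-functor -/
noncomputable def T0 : CohDeltaFunctor (ModuleCat.{u} R) (ModuleCat.{u} R) ℕ where
  F n := F0 I n
  additive n := inferInstance
  δ S hS n₀ n₁ h := δF0 I hS n₀ n₁ h
  δ_natural hS hS' φ n₀ n₁ h := by
    subst h
    rcases n₀ with _ | p
    · exact δ0_natural I hS hS' φ
    · exact δ_natural I hS hS' φ p
  exact₂ S hS n := by
    rcases n with _ | p
    · exact exact₂0 I hS
    · rw [ShortComplex.moduleCat_exact_iff]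
      intro x hx
      exact exact_middle I hS p x hx
  comp_δ S hS n₀ n₁ h := by
    subst h
    rcases n₀ with _ | p
    · exact comp_δ0 I hS
    · exact map_g_δ I hS p
  exact₃ S hS n₀ n₁ h := by
    subst h
    rcases n₀ with _ | p
    · exact exact₃0 I hS
    · rw [ShortComplex.moduleCat_exact_iff]
      intro x hx
      exact exists_of_δ_eq_zero I hS p x hx
  δ_comp S hS n₀ n₁ h := by
    subst h
    rcases n₀ with _ | p
    · exact δ0_comp I hS
    · exact δ_map_f I hS p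
  exact₁ S hS n₀ n₁ h := by
    subst h
    rcases n₀ with _ | p
    · exact exact₁0 I hS
    · rw [ShortComplex.moduleCat_exact_iff]
      intro x hx
      exact exists_δ_eq I hS p x hx

variable [IsNoetherianRing R]

/-- the derived δ-functor of `Γ_I` -/
noncomputable def TΓ : CohDeltaFunctor (ModuleCat.{u} R) (ModuleCat.{u} R) ℕ :=
  (Groth.Agent.Lib.Horseshoe0.derivedLES (DRing.gammaI I)).toCohDeltaFunctor

theorem TΓ_eff : (TΓ I).IsEffaceable := by
  intro n X
  refine ⟨Injective.under X, Injective.ι X, inferInstance, ?_⟩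
  exact (Functor.isZero_rightDerived_obj_injective_succ (DRing.gammaI I) n
    (Injective.under X)).eq_of_tgt _ _

omit [IsNoetherianRing R] in
theorem pfl_gammaI : PreservesFiniteLimits (DRing.gammaI I) := by
  rw [Functor.preservesFiniteLimits_iff_forall_exact_map_and_mono]
  intro S hS
  refine ⟨exact₂0 I hS, ?_⟩
  rw [ModuleCat.mono_iff_injective]
  intro a b hab
  apply Subtype.ext
  apply hf_ hS
  exact congrArg Subtype.val hab

instance : PreservesFiniteLimits (DRing.gammaI I) := pfl_gammaI I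

theorem exists_τ : ∃ τ : TΓ I ⟶ T0 I, τ.app 0 = (DRing.gammaI I).rightDerivedZeroIsoSelf.hom := by
  obtain ⟨τ, hτ, -⟩ := Groth.Agent.Lib.DeltaUnivH4.main (TΓ I) (TΓ_eff I) (T0 I)
    (DRing.gammaI I).rightDerivedZeroIsoSelf.hom
  exact ⟨τ, hτ⟩

theorem mono_epi (τ : TΓ I ⟶ T0 I)
    (hτ : τ.app 0 = (DRing.gammaI I).rightDerivedZeroIsoSelf.hom) (n : ℕ) :
    (∀ X, Mono ((τ.app n).app X)) ∧ (∀ X, Epi ((τ.app n).app X)) := by
  induction n with
  | zero =>
    rw [hτ]
    have hiso : ∀ X, IsIso (((DRing.gammaI I).rightDerivedZeroIsoSelf.hom).app X) := fun X =>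
      (((DRing.gammaI I).rightDerivedZeroIsoSelf).app X).isIso_hom
    exact ⟨fun X => by haveI := hiso X; exact IsIso.mono_of_iso _,
      fun X => by haveI := hiso X; exact IsIso.epi_of_iso _⟩
  | succ n ih =>
    exact ⟨Groth.Agent.Lib.DeltaIso.mono_succ τ (TΓ_eff I) n ih.2 ih.1,
      Groth.Agent.Lib.DeltaIso.epi_succ τ n ih.2 (fun X => Tsh_eff I n X)⟩

/-- S11587 in positive degrees -/
theorem main_succ (n : ℕ) :
    Nonempty ((DRing.gammaI I).rightDerived (n + 1) ≅ localCohomology I (n + 1)) := by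
  obtain ⟨τ, hτ⟩ := exists_τ I
  obtain ⟨hm, he⟩ := mono_epi I τ hτ (n + 1)
  haveI : ∀ X, IsIso ((τ.app (n + 1)).app X) := fun X => by
    haveI := hm X
    haveI := he X
    exact isIso_of_mono_of_epi _
  haveI : IsIso (τ.app (n + 1)) := NatIso.isIso_of_isIso_app _
  have e := asIso (τ.app (n + 1))
  exact ⟨e⟩

end Groth.Agent.Lib.LCDelta0H7

namespace Groth.Agent.Lib.LCDelta0H7

section fromLDZ

universe v w v' w'

variable {C : Type w} [Category.{v} C] [Abelian C] [HasProjectiveResolutions C]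
  {D : Type w'} [Category.{v'} D] [Abelian D]

set_option backward.isDefEq.respectTransparency false in
/-- naturality of `fromLeftDerivedZero` in the functor -/
theorem fromLeftDerivedZero_naturality {F G : C ⥤ D} [F.Additive] [G.Additive] (α : F ⟶ G)
    (X : C) :
    (NatTrans.leftDerived α 0).app X ≫ G.fromLeftDerivedZero.app X =
      F.fromLeftDerivedZero.app X ≫ α.app X := by
  let P := projectiveResolution X
  rw [P.fromLeftDerivedZero_eq F, P.fromLeftDerivedZero_eq G,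
    ProjectiveResolution.leftDerived_app_eq α P 0]
  simp only [Category.assoc, Iso.inv_hom_id_assoc]
  congr 1
  rw [← cancel_epi (ChainComplex.isoHomologyι₀ ((F.mapHomologicalComplex _).obj P.complex)).inv]
  simp only [HomologicalComplex.homologyFunctor_map,
    ChainComplex.isoHomologyι₀_inv_naturality_assoc, Iso.inv_hom_id_assoc]
  rw [← cancel_epi (HomologicalComplex.pOpcycles _ 0)]
  simp only [HomologicalComplex.p_opcyclesMap_assoc,
    ProjectiveResolution.pOpcycles_comp_fromLeftDerivedZero',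
    ProjectiveResolution.pOpcycles_comp_fromLeftDerivedZero'_assoc,
    NatTrans.mapHomologicalComplex_app_f]
  exact (α.naturality _).symm

end fromLDZ

open CategoryTheory CategoryTheory.Limits Opposite
open Groth.Agent.Lib.LocCohLESH7 Groth.Agent.Lib.ExtCompareH7 LocCoh
open Groth.Agent.Lib.LocCohH0H7 Groth.Agent.Lib.LocCohTorsVanishH7

universe u

variable {R : Type u} [CommRing R] (I : Ideal R)

theorem j_nat2 (X : ModuleCat.{u} R) {N N' : ModuleCat.{u} R} (g : N ⟶ N') (f : X ⟶ N) :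
    (((Ext R (ModuleCat.{u} R) 0).obj (op X)).map g).hom ((j X N).hom.hom f) =
      (j X N').hom.hom (f ≫ g) := by
  have h := fromLeftDerivedZero_naturality
    (NatTrans.rightOp ((linearYoneda R (ModuleCat.{u} R)).map g)) X
  have h' := congrArg Quiver.Hom.unop h
  rw [unop_comp, unop_comp] at h'
  have h2 := congrArg (fun β => β.hom f) h'
  exact h2

theorem c_nat2 {M M' : ModuleCat.{u} R} (g : M ⟶ M') (k : ℕᵒᵖᵒᵖ)
    (ξ : E 0 (ModuleCat.of R (R ⧸ Jk I k)) M) :
    (c I M' k).hom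
      ((((Ext R (ModuleCat.{u} R) 0).obj (op (ModuleCat.of R (R ⧸ Jk I k)))).map g).hom ξ) =
      g.hom ((c I M k).hom ξ) := by
  have hξ : ξ = (j (ModuleCat.of R (R ⧸ Jk I k)) M).hom.hom
      ((j (ModuleCat.of R (R ⧸ Jk I k)) M).inv.hom ξ) := by
    have := congrArg (fun α => α.hom ξ) (j (ModuleCat.of R (R ⧸ Jk I k)) M).inv_hom_id
    exact this.symm
  have h1 : ∀ f : ModuleCat.of R (R ⧸ Jk I k) ⟶ M',
      (j (ModuleCat.of R (R ⧸ Jk I k)) M').inv.hom
        ((j (ModuleCat.of R (R ⧸ Jk I k)) M').hom.hom f) = f := by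
    intro f
    have := congrArg (fun α => α.hom f) (j (ModuleCat.of R (R ⧸ Jk I k)) M').hom_inv_id
    exact this
  rw [c_apply, c_apply]
  conv_lhs => rw [hξ, j_nat2, h1]
  rfl

/-- the canonical map `H^0_I(M) ⟶ M` -/
noncomputable def Ψ (M : ModuleCat.{u} R) : (localCohomology I 0).obj M ⟶ M :=
  (isColimitOfPreserves ((evaluation _ _).obj M)
    (colimit.isColimit (localCohomology.diagram (localCohomology.idealPowersDiagram I) 0))).desc
      (coc I M)

theorem Ψ_ι (M : ModuleCat.{u} R) (k : ℕᵒᵖᵒᵖ) (ξ : E 0 (Xk I k) M) :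
    (Ψ I M).hom ((ιk I 0 k M).hom ξ) = (c I M k).hom ξ := by
  have h := congrArg (fun α => α.hom ξ)
    ((isColimitOfPreserves ((evaluation _ _).obj M)
      (colimit.isColimit (localCohomology.diagram (localCohomology.idealPowersDiagram I) 0))).fac
        (coc I M) k)
  exact h

theorem Ψ_nat {M M' : ModuleCat.{u} R} (g : M ⟶ M')
    (m : ((localCohomology I 0).obj M : ModuleCat.{u} R)) :
    (Ψ I M').hom (((localCohomology I 0).map g).hom m) = g.hom ((Ψ I M).hom m) := by
  obtain ⟨k, ξ, rfl⟩ := exists_rep I 0 M m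
  rw [ι_nat, Ψ_ι, Ψ_ι]
  exact c_nat2 I g k ξ

theorem Ψ_injective (M : ModuleCat.{u} R) : Function.Injective (Ψ I M).hom := by
  rw [injective_iff_map_eq_zero]
  intro m hm
  obtain ⟨k, y, rfl⟩ := exists_rep I 0 M m
  rw [Ψ_ι, c_apply] at hm
  have h1 : (j (ModuleCat.of R (R ⧸ Jk I k)) M).inv.hom y = 0 := by
    apply hom_ext_one
    rw [hm]
    rfl
  have h2 : y = 0 := iso_inv_eq_zero (j (ModuleCat.of R (R ⧸ Jk I k)) M) y h1
  rw [h2, map_zero]

theorem Ψ_mem (M : ModuleCat.{u} R) (m : ((localCohomology I 0).obj M : ModuleCat.{u} R)) :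
    (Ψ I M).hom m ∈ DRing.torsionSub I M := by
  obtain ⟨k, y, rfl⟩ := exists_rep I 0 M m
  rw [Ψ_ι, c_apply]
  refine ⟨unop (unop k), fun a ha => ?_⟩
  rw [← map_smul, Algebra.smul_def, Ideal.Quotient.algebraMap_eq, ← map_mul, mul_one]
  have h0 : Ideal.Quotient.mk (Jk I k) a = 0 := Ideal.Quotient.eq_zero_iff_mem.2 ha
  rw [h0, map_zero]

theorem Ψ_surj (M : ModuleCat.{u} R) (y : M) (hy : y ∈ DRing.torsionSub I M) :
    ∃ z, (Ψ I M).hom z = y := by
  obtain ⟨n, hn⟩ := hy
  let k : ℕᵒᵖᵒᵖ := op (op n)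
  let h : (R ⧸ Jk I k) →ₗ[R] M := (Jk I k).liftQ (LinearMap.toSpanSingleton R M y) (by
    intro a ha
    rw [LinearMap.mem_ker, LinearMap.toSpanSingleton_apply]
    exact hn a ha)
  let ξ : E 0 (ModuleCat.of R (R ⧸ Jk I k)) M :=
    (j (ModuleCat.of R (R ⧸ Jk I k)) M).hom.hom (ModuleCat.ofHom h)
  refine ⟨(ιk I 0 k M).hom ξ, ?_⟩
  rw [Ψ_ι, c_apply]
  have h1 : (j (ModuleCat.of R (R ⧸ Jk I k)) M).inv.hom ξ = ModuleCat.ofHom h := by
    have h2 := congrArg (fun α => α.hom (ModuleCat.ofHom h))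
      (j (ModuleCat.of R (R ⧸ Jk I k)) M).hom_inv_id
    exact h2
  rw [h1]
  show LinearMap.toSpanSingleton R M y 1 = y
  rw [LinearMap.toSpanSingleton_apply, one_smul]

/-- the natural transformation `H^0_I ⟶ Γ_I` -/
noncomputable def Ψ' : localCohomology I 0 ⟶ DRing.gammaI I where
  app M := ModuleCat.ofHom
    (LinearMap.codRestrict (DRing.torsionSub I M) (Ψ I M).hom (Ψ_mem I M))
  naturality M M' g := by
    apply ModuleCat.hom_ext
    apply LinearMap.ext
    intro m
    apply Subtype.ext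
    exact Ψ_nat I g m

theorem Ψ'_iso : IsIso (Ψ' I) := by
  haveI : ∀ M, IsIso ((Ψ' I).app M) := fun M => by
    apply (ConcreteCategory.isIso_iff_bijective _).2
    constructor
    · intro a b hab
      exact Ψ_injective I M (congrArg Subtype.val hab)
    · rintro ⟨y, hy⟩
      obtain ⟨z, hz⟩ := Ψ_surj I M y hy
      exact ⟨z, Subtype.ext hz⟩
  exact NatIso.isIso_of_isIso_app _

theorem main_zero : Nonempty ((DRing.gammaI I).rightDerived 0 ≅ localCohomology I 0) := by
  haveI := Ψ'_iso I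
  exact ⟨(DRing.gammaI I).rightDerivedZeroIsoSelf ≪≫ (asIso (Ψ' I)).symm⟩

/-- S11587 -/
theorem main [IsNoetherianRing R] (i : ℕ) :
    Nonempty ((DRing.gammaI I).rightDerived i ≅ localCohomology I i) := by
  rcases i with _ | n
  · exact main_zero I
  · exact main_succ I n

end Groth.Agent.Lib.LCDelta0H7
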