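import Mathlib
import Groth.Prelude
import Groth.Agent.Lib.DepthSeq_helper5
import Groth.Agent.Lib.KerStalk_helper5

/-!
# Quotients of Cohen–Macaulay local rings by regular sequences have no embedded primes (helper5)
-/

set_option linter.style.haveILetI false

universe u

open CategoryTheory IsLocalRing AlgebraicGeometry TopologicalSpace Opposite

namespace Groth.Agent.CMQuot

section Algebra

theorem ringKrullDim_quot_eq_zero {A : Type u} [CommRing A] [LocCoh.IsCohenMacaulayLocalRing A]
    (rs : List A) (hreg : RingTheory.Sequence.IsRegular A rs) (a : A)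
    (ha : a ∉ Ideal.ofList rs) (hx : ∀ x ∈ maximalIdeal A, x * a ∈ Ideal.ofList rs) :
    ringKrullDim (A ⧸ Ideal.ofList rs) = 0 := by
  have hsm : (Ideal.ofList rs • ⊤ : Submodule A A) = Ideal.ofList rs := by
    show Ideal.ofList rs • (⊤ : Ideal A) = _
    rw [smul_eq_mul, Ideal.mul_top]
  have hItop : Ideal.ofList rs ≠ ⊤ := by
    intro h
    apply hreg.2
    rw [hsm, h]
  have mem : ∀ r ∈ rs, r ∈ maximalIdeal A := fun r hr =>
    IsLocalRing.le_maximalIdeal hItop (Ideal.subset_span hr)
  have h2 := Groth.Agent.DepthLib.idealDepth_quot_ofList_add_length (maximalIdeal A) rs A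
    hreg.1 mem
  have h3 := ringKrullDim_add_length_eq_ringKrullDim_of_isRegular rs hreg
  have h4 : ringKrullDim A = ((LocCoh.depth A A : ℕ∞) : WithBot ℕ∞) := by
    rw [← Module.supportDim_self_eq_ringKrullDim]
    exact LocCoh.IsCohenMacaulayLocalRing.supportDim_eq_depth
  have h5 : LocCoh.idealDepth (maximalIdeal A)
      (A ⧸ (Ideal.ofList rs • ⊤ : Submodule A A)) = 0 := by
    by_contra hne
    have h1le : 1 ≤ LocCoh.idealDepth (maximalIdeal A)
        (A ⧸ (Ideal.ofList rs • ⊤ : Submodule A A)) := ENat.one_le_iff_ne_zero.mpr hne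
    rw [Groth.Agent.DepthLib.one_le_idealDepth_iff] at h1le
    rcases h1le with htop | ⟨x, hxm, hxreg⟩
    · have hbot : (⊤ : Submodule A (A ⧸ (Ideal.ofList rs • ⊤ : Submodule A A))) = ⊥ :=
        Submodule.eq_bot_of_le_smul_of_le_jacobson_bot (maximalIdeal A) ⊤
          Module.Finite.fg_top htop.symm.le (IsLocalRing.maximalIdeal_le_jacobson ⊥)
      have h0 : (Submodule.Quotient.mk a : A ⧸ (Ideal.ofList rs • ⊤ : Submodule A A)) ∈
          (⊥ : Submodule A (A ⧸ (Ideal.ofList rs • ⊤ : Submodule A A))) :=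
        hbot ▸ Submodule.mem_top
      rw [Submodule.mem_bot, Submodule.Quotient.mk_eq_zero, hsm] at h0
      exact ha h0
    · have h0 : x • (Submodule.Quotient.mk a :
          A ⧸ (Ideal.ofList rs • ⊤ : Submodule A A)) = 0 := by
        rw [← Submodule.Quotient.mk_smul, Submodule.Quotient.mk_eq_zero, hsm, smul_eq_mul]
        exact hx x hxm
      have h0' := hxreg (h0.trans (smul_zero x).symm)
      rw [Submodule.Quotient.mk_eq_zero, hsm] at h0'
      exact ha h0'
  have hD : LocCoh.depth A A = (rs.length : ℕ∞) := by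
    show LocCoh.idealDepth (maximalIdeal A) A = _
    rw [← h2, h5, zero_add]
  rw [h4, hD] at h3
  generalize ringKrullDim (A ⧸ Ideal.ofList rs) = D at h3 ⊢
  induction D using WithBot.recBotCoe with
  | bot => simp at h3
  | coe d =>
    have h6 : d + (rs.length : ℕ∞) = (rs.length : ℕ∞) := by exact_mod_cast h3
    have h7 : d = 0 := by
      have h8 : d + (rs.length : ℕ∞) = 0 + (rs.length : ℕ∞) := h6.trans (zero_add _).symm
      exact (ENat.add_left_injective_of_ne_top (ENat.coe_ne_top rs.length)) h8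
    rw [h7]
    rfl

end Algebra

section Scheme

theorem main {X Z : Scheme.{u}} [IsLocallyNoetherian X]
    (hCM : ∀ x : X, LocCoh.IsCohenMacaulayLocalRing (X.presheaf.stalk x))
    (i : Z ⟶ X) [IsClosedImmersion i]
    (hi : RegImm.IsRegularImmersion RegImm.Kind.regular i) (z : Z)
    (hz : IsAssociatedPrime (IsLocalRing.maximalIdeal (Z.presheaf.stalk z))
      (Z.presheaf.stalk z)) :
    ringKrullDim (Z.presheaf.stalk z) = 0 := by
  obtain ⟨rs, hreg, hker⟩ := Groth.Agent.KerStalk.main i hi z
  haveI := hCM (i z)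
  have hsurj : Function.Surjective (i.stalkMap z).hom := i.stalkMap_surjective z
  haveI : IsNoetherianRing (Z.presheaf.stalk z) :=
    isNoetherianRing_of_surjective _ _ (i.stalkMap z).hom hsurj
  rw [isAssociatedPrime_iff] at hz
  obtain ⟨-, b, hb⟩ := hz
  obtain ⟨a, rfl⟩ := hsurj b
  have hmem : ∀ y : Z.presheaf.stalk z, y ∈ maximalIdeal (Z.presheaf.stalk z) ↔
      y * (i.stalkMap z).hom a = 0 := by
    intro y
    rw [hb, Submodule.mem_colon_singleton, Submodule.mem_bot, smul_eq_mul]
  have ha : a ∉ Ideal.ofList rs := by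
    intro h
    rw [← hker, RingHom.mem_ker] at h
    have h1 : (1 : Z.presheaf.stalk z) ∈ maximalIdeal (Z.presheaf.stalk z) := by
      rw [hmem, h, mul_zero]
    exact (Ideal.ne_top_iff_one _).mp (IsLocalRing.maximalIdeal.isMaximal _).ne_top h1
  have hx : ∀ x ∈ maximalIdeal (X.presheaf.stalk (i z)), x * a ∈ Ideal.ofList rs := by
    intro x hxm
    rw [← hker, RingHom.mem_ker, map_mul, ← hmem, IsLocalRing.mem_maximalIdeal, mem_nonunits_iff]
    intro hu
    exact (IsLocalRing.mem_maximalIdeal x).mp hxm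
      ((isUnit_map_iff (i.stalkMap z).hom x).mp hu)
  have h0 := ringKrullDim_quot_eq_zero rs hreg a ha hx
  have e : (X.presheaf.stalk (i z) ⧸ Ideal.ofList rs) ≃+* Z.presheaf.stalk z :=
    (Ideal.quotEquivOfEq hker.symm).trans (RingHom.quotientKerEquivOfSurjective hsurj)
  rw [← ringKrullDim_eq_of_ringEquiv e]
  exact h0

end Scheme

end Groth.Agent.CMQuot
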