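import Mathlib
import Groth.Prelude.Def_GrLC
import Groth.Prelude.Def_GrSeg

/-! The graded dual `R^*` of a positively graded algebra over a field is the *injective hull of the
residue field (helper1). -/

set_option autoImplicit false

namespace Groth.Agent.Lib.GrDualH1

open DirectSum GrLC

universe u

section

variable {k : Type u} [Field k] {R : Type u} [CommRing R] [Algebra k R]
  (𝒜 : ℤ → Submodule k R) [GradedAlgebra 𝒜]
variable {D : Type u} [AddCommGroup D] [Module R D] [Module k D] [IsScalarTower k R D]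
  (𝒟 : ℤ → AddSubgroup D) [Decomposition 𝒟] [SetLike.GradedSMul 𝒜 𝒟]
variable (β : D →ₗ[k] R →ₗ[k] k) (hD : GrSeg.IsGDual R 𝒜 𝒟 β)

include hD

theorem eq_of_agree {n : ℤ} {d d' : D} (hd : d ∈ 𝒟 n) (hd' : d' ∈ 𝒟 n)
    (h : ∀ x ∈ 𝒜 (-n), β d x = β d' x) : d = d' := by
  have := hD.eq_zero n (d - d') (sub_mem hd hd')
    (fun x hx => by rw [map_sub, LinearMap.sub_apply, h x hx, sub_self])
  exact sub_eq_zero.mp this

/-- chosen element of `D_n` representing a functional -/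
noncomputable def mk (n : ℤ) (φ : R →ₗ[k] k) : D := Classical.choose (hD.exists_eq n φ)

theorem mk_mem (n : ℤ) (φ : R →ₗ[k] k) : mk 𝒜 𝒟 β hD n φ ∈ 𝒟 n :=
  (Classical.choose_spec (hD.exists_eq n φ)).1

theorem mk_apply (n : ℤ) (φ : R →ₗ[k] k) {x : R} (hx : x ∈ 𝒜 (-n)) :
    β (mk 𝒜 𝒟 β hD n φ) x = φ x :=
  (Classical.choose_spec (hD.exists_eq n φ)).2 x hx

theorem starInj : IsStarInj 𝒜 𝒟 := by
  intro A B f hf hinj g hg
  letI : Module k A.carrier := Module.compHom A.carrier (algebraMap k R)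
  letI : Module k B.carrier := Module.compHom B.carrier (algebraMap k R)
  haveI : IsScalarTower k R A.carrier := ⟨fun c r a => by
    show (c • r) • a = algebraMap k R c • (r • a)
    rw [Algebra.smul_def, mul_smul]⟩
  haveI : IsScalarTower k R B.carrier := ⟨fun c r a => by
    show (c • r) • a = algebraMap k R c • (r • a)
    rw [Algebra.smul_def, mul_smul]⟩
  let fk : A.carrier →ₗ[k] B.carrier := f.restrictScalars k
  obtain ⟨ρ, hρ⟩ := fk.exists_leftInverse_of_injective (LinearMap.ker_eq_bot.mpr hinj)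
  let lamA : A.carrier →ₗ[k] k := (β.flip 1) ∘ₗ (g.restrictScalars k)
  let lamB : B.carrier →ₗ[k] k := lamA ∘ₗ ρ
  let φ : B.carrier → (R →ₗ[k] k) := fun b =>
    lamB ∘ₗ ((LinearMap.toSpanSingleton R B.carrier b).restrictScalars k)
  have hφ : ∀ (b : B.carrier) (r : R), φ b r = lamB (r • b) := fun b r => rfl
  let hn : ∀ n : ℤ, B.gr n →+ D := fun n =>
    { toFun := fun b => mk 𝒜 𝒟 β hD n (φ b.1)
      map_zero' := by
        apply eq_of_agree 𝒜 𝒟 β hD (mk_mem 𝒜 𝒟 β hD n _) (zero_mem _)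
        intro x hx
        rw [mk_apply 𝒜 𝒟 β hD n _ hx, hφ]
        simp
      map_add' := fun b b' => by
        apply eq_of_agree 𝒜 𝒟 β hD (mk_mem 𝒜 𝒟 β hD n _)
          (add_mem (mk_mem 𝒜 𝒟 β hD n _) (mk_mem 𝒜 𝒟 β hD n _))
        intro x hx
        rw [map_add, LinearMap.add_apply, mk_apply 𝒜 𝒟 β hD n _ hx, mk_apply 𝒜 𝒟 β hD n _ hx,
          mk_apply 𝒜 𝒟 β hD n _ hx, hφ, hφ, hφ, AddSubgroup.coe_add, smul_add, map_add] }
  let hAdd : B.carrier →+ D :=
    (DirectSum.toAddMonoid hn).comp (decomposeAddEquiv B.gr).toAddMonoidHom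
  have hAdd_of_mem : ∀ {n : ℤ} {b : B.carrier} (_ : b ∈ B.gr n),
      hAdd b = mk 𝒜 𝒟 β hD n (φ b) := by
    intro n b hb
    show DirectSum.toAddMonoid hn (decompose B.gr b) = _
    rw [decompose_of_mem B.gr hb, DirectSum.toAddMonoid_of]
    rfl
  have hsmul : ∀ (r : R) (b : B.carrier), hAdd (r • b) = r • hAdd b := by
    intro r b
    induction r using DirectSum.Decomposition.inductionOn 𝒜 with
    | zero => simp
    | @homogeneous a r =>
      induction b using DirectSum.Decomposition.inductionOn B.gr with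
      | zero => simp
      | @homogeneous n b =>
        have hrb : (r : R) • (b : B.carrier) ∈ B.gr (a + n) := by
          have := SetLike.GradedSMul.smul_mem (A := 𝒜) (B := B.gr) r.2 b.2
          rwa [vadd_eq_add] at this
        have hrm : (r : R) • mk 𝒜 𝒟 β hD n (φ (b : B.carrier)) ∈ 𝒟 (a + n) := by
          have := SetLike.GradedSMul.smul_mem (A := 𝒜) (B := 𝒟) r.2 (mk_mem 𝒜 𝒟 β hD n (φ b))
          rwa [vadd_eq_add] at this
        rw [hAdd_of_mem hrb, hAdd_of_mem b.2]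
        apply eq_of_agree 𝒜 𝒟 β hD (mk_mem 𝒜 𝒟 β hD _ _) hrm
        intro x hx
        have hrx : (r : R) * x ∈ 𝒜 (-n) := by
          have := SetLike.mul_mem_graded r.2 hx
          rwa [show a + -(a + n) = -n by ring] at this
        rw [mk_apply 𝒜 𝒟 β hD _ _ hx, hD.map_smul, smul_eq_mul, mk_apply 𝒜 𝒟 β hD n _ hrx, hφ, hφ,
          mul_comm, mul_smul]
      | add b b' hb hb' => rw [smul_add, map_add, map_add, hb, hb', smul_add]
    | add r r' hr hr' => rw [add_smul, map_add, hr, hr', add_smul]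
  let h : B.carrier →ₗ[R] D :=
    { toFun := hAdd, map_add' := hAdd.map_add, map_smul' := fun r b => hsmul r b }
  refine ⟨h, ?_, ?_⟩
  · intro n b hb
    show hAdd b ∈ 𝒟 n
    rw [hAdd_of_mem hb]
    exact mk_mem 𝒜 𝒟 β hD n _
  · apply LinearMap.ext
    intro a
    show hAdd (f a) = g a
    induction a using DirectSum.Decomposition.inductionOn A.gr with
    | zero => simp
    | @homogeneous n a =>
      rw [hAdd_of_mem (hf n a a.2)]
      apply eq_of_agree 𝒜 𝒟 β hD (mk_mem 𝒜 𝒟 β hD n _) (hg n a a.2)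
      intro x hx
      rw [mk_apply 𝒜 𝒟 β hD n _ hx, hφ]
      show lamA (ρ (x • f a)) = β (g a) x
      have hρa : ρ (x • f (a : A.carrier)) = x • (a : A.carrier) := by
        rw [← map_smul f]
        exact LinearMap.congr_fun hρ (x • (a : A.carrier))
      rw [hρa]
      show β (g (x • (a : A.carrier))) 1 = β (g a) x
      rw [map_smul, hD.map_smul, smul_eq_mul, mul_one]
    | add a a' ha ha' => rw [map_add, map_add, ha, ha', map_add]

end

section ess

variable {k : Type u} [Field k] {R : Type u} [CommRing R] [Algebra k R]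
  (𝒜 : ℤ → Submodule k R) [GradedAlgebra 𝒜]

theorem decompose_zero_eq_zero_of_mem (hposR : ∀ n : ℤ, n < 0 → 𝒜 n = ⊥) (mR : HomogeneousIdeal 𝒜)
    (hmR : mR.toIdeal = Ideal.span (⋃ n ∈ Set.Ioi (0 : ℤ), (𝒜 n : Set R))) {x : R}
    (hx : x ∈ mR.toIdeal) : (decompose 𝒜 x 0 : R) = 0 := by
  have hneg : ∀ {j : ℤ} (z : R), z ∈ 𝒜 j → j < 0 → z = 0 := fun {j} z hz hj => by
    rw [hposR j hj] at hz
    exact (Submodule.mem_bot k).mp hz
  let J : Ideal R :=
    { carrier := {x | (decompose 𝒜 x 0 : R) = 0}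
      zero_mem' := by simp
      add_mem' := fun {a b} ha hb => by
        show (decompose 𝒜 (a + b) 0 : R) = 0
        rw [decompose_add, DirectSum.add_apply, Submodule.coe_add, ha, hb, add_zero]
      smul_mem' := fun c x hx => by
        show (decompose 𝒜 (c • x) 0 : R) = 0
        have hx' : (decompose 𝒜 x 0 : R) = 0 := hx
        induction c using DirectSum.Decomposition.inductionOn 𝒜 with
        | zero => simp
        | @homogeneous i c =>
          have h1 := coe_decompose_mul_add_of_left_mem 𝒜 (i := i) (j := -i) (a := (c : R)) (b := x) c.2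
          rw [add_neg_cancel] at h1
          rw [smul_eq_mul, h1]
          rcases lt_trichotomy i 0 with hi | hi | hi
          · have : (c : R) = 0 := hneg (c : R) c.2 hi
            rw [this, zero_mul]
          · subst hi
            rw [neg_zero, hx', mul_zero]
          · have : ((decompose 𝒜 x (-i) : 𝒜 (-i)) : R) = 0 :=
              hneg _ (decompose 𝒜 x (-i)).2 (by omega)
            rw [this, mul_zero]
        | add c c' hc hc' =>
          rw [add_smul, decompose_add, DirectSum.add_apply, Submodule.coe_add, hc, hc', add_zero] }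
  have hle : mR.toIdeal ≤ J := by
    rw [hmR, Ideal.span_le]
    intro y hy
    obtain ⟨n, hn, hyn⟩ := Set.mem_iUnion₂.mp hy
    show (decompose 𝒜 y 0 : R) = 0
    exact decompose_of_mem_ne 𝒜 hyn (ne_of_gt hn)
  exact hle hx

variable {D : Type u} [AddCommGroup D] [Module R D] [Module k D] [IsScalarTower k R D]
  (𝒟 : ℤ → AddSubgroup D) [Decomposition 𝒟] [SetLike.GradedSMul 𝒜 𝒟]
variable (β : D →ₗ[k] R →ₗ[k] k) (hD : GrSeg.IsGDual R 𝒜 𝒟 β)

include hD in
theorem essential (hposR : ∀ n : ℤ, n < 0 → 𝒜 n = ⊥) (h0R : 𝒜 0 = Submodule.span k {(1 : R)})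
    (mR : HomogeneousIdeal 𝒜)
    (hmR : mR.toIdeal = Ideal.span (⋃ n ∈ Set.Ioi (0 : ℤ), (𝒜 n : Set R)))
    (e : (R ⧸ mR.toIdeal) →ₗ[R] D) (he : Function.Injective e)
    (hegr : GrLC.IsGrHom (GrLC.quotGr 𝒜 mR) 𝒟 e) :
    ∀ P : Submodule R D, P.IsHomogeneous 𝒟 → P ≠ ⊥ → P ⊓ LinearMap.range e ≠ ⊥ := by
  classical
  intro P hP hP0
  obtain ⟨y, hyP, hy0⟩ := Submodule.exists_mem_ne_zero_of_ne_bot hP0
  obtain ⟨n, hn⟩ : ∃ n, (decompose 𝒟 y n : D) ≠ 0 := by
    by_contra hcon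
    push_neg at hcon
    apply hy0
    rw [← DirectSum.sum_support_decompose 𝒟 y]
    exact Finset.sum_eq_zero (fun i _ => hcon i)
  obtain ⟨d, hd⟩ : ∃ d : D, d = (decompose 𝒟 y n : D) := ⟨_, rfl⟩
  have hdP : d ∈ P := by rw [hd]; exact hP n hyP
  have hdn : d ∈ 𝒟 n := by rw [hd]; exact (decompose 𝒟 y n).2
  have hd0 : d ≠ 0 := by rw [hd]; exact hn
  obtain ⟨r, hr, hβ⟩ : ∃ r ∈ 𝒜 (-n), β d r ≠ 0 := by
    by_contra hcon
    push_neg at hcon
    exact hd0 (hD.eq_zero n d hdn hcon)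
  have hrd0 : r • d ∈ 𝒟 0 := by
    have := SetLike.GradedSMul.smul_mem (A := 𝒜) (B := 𝒟) hr hdn
    rwa [vadd_eq_add, neg_add_cancel] at this
  have hβrd : β (r • d) 1 = β d r := by rw [hD.map_smul, smul_eq_mul, mul_one]
  have hrd_ne : r • d ≠ 0 := fun h0 => hβ (by rw [← hβrd, h0, map_zero, LinearMap.zero_apply])
  haveI : Nontrivial R := by
    by_contra hnt
    rw [not_nontrivial_iff_subsingleton] at hnt
    exact hβ (by rw [Subsingleton.elim r 0, map_zero])
  obtain ⟨u, hu⟩ : ∃ u : D, u = e (Ideal.Quotient.mk mR.toIdeal 1) := ⟨_, rfl⟩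
  have hu0 : u ∈ 𝒟 0 := by
    rw [hu]
    apply hegr 0
    exact AddSubgroup.mem_map.mpr ⟨1, (SetLike.GradedOne.one_mem : (1 : R) ∈ 𝒜 0), rfl⟩
  have hune : u ≠ 0 := by
    intro h
    have h1 : Ideal.Quotient.mk mR.toIdeal 1 = 0 := he (by rw [← hu, h, map_zero])
    have h2 := decompose_zero_eq_zero_of_mem 𝒜 hposR mR hmR (Ideal.Quotient.eq_zero_iff_mem.mp h1)
    rw [decompose_of_mem_same 𝒜 (SetLike.GradedOne.one_mem : (1 : R) ∈ 𝒜 0)] at h2
    exact one_ne_zero h2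
  have hzero : ∀ x ∈ 𝒜 (-(0 : ℤ)), ∃ a : k, x = a • (1 : R) := by
    intro x hx
    rw [neg_zero, h0R] at hx
    obtain ⟨a, rfl⟩ := Submodule.mem_span_singleton.mp hx
    exact ⟨a, rfl⟩
  have hβu : β u 1 ≠ 0 := by
    intro h
    apply hune
    apply hD.eq_zero 0 u hu0
    intro x hx
    obtain ⟨a, rfl⟩ := hzero x hx
    rw [map_smul, h, smul_zero]
  obtain ⟨c, hc⟩ : ∃ c : k, c = β (r • d) 1 / β u 1 := ⟨_, rfl⟩
  have hcmem : algebraMap k R c ∈ 𝒜 0 := by
    rw [Algebra.algebraMap_eq_smul_one]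
    exact (𝒜 0).smul_mem c SetLike.GradedOne.one_mem
  have hcu0 : c • u ∈ 𝒟 0 := by
    rw [← algebraMap_smul R c u]
    have := SetLike.GradedSMul.smul_mem (A := 𝒜) (B := 𝒟) hcmem hu0
    rwa [vadd_eq_add, add_zero] at this
  have hcu : r • d = c • u := by
    apply eq_of_agree 𝒜 𝒟 β hD hrd0 hcu0
    intro x hx
    obtain ⟨a, rfl⟩ := hzero x hx
    have e1 : β (r • d) (a • (1 : R)) = a * β (r • d) 1 := by
      rw [(β (r • d)).map_smul, smul_eq_mul]
    have e2 : β (c • u) (a • (1 : R)) = a * (c * β u 1) := by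
      rw [(β (c • u)).map_smul, β.map_smul, LinearMap.smul_apply, smul_eq_mul, smul_eq_mul]
    rw [e1, e2, hc, div_mul_cancel₀ _ hβu]
  intro hbot
  apply hrd_ne
  have hmem : r • d ∈ P ⊓ LinearMap.range e := by
    refine ⟨P.smul_mem r hdP, ?_⟩
    rw [hcu]
    refine ⟨(algebraMap k R c) • Ideal.Quotient.mk mR.toIdeal 1, ?_⟩
    rw [map_smul, ← hu, algebraMap_smul]
  rw [hbot] at hmem
  exact (Submodule.mem_bot R).mp hmem

end ess

theorem main19752 (k : Type u) [Field k] (R : Type u) [CommRing R] [Algebra k R]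
    (𝒜 : ℤ → Submodule k R) [GradedAlgebra 𝒜] (hposR : ∀ n : ℤ, n < 0 → 𝒜 n = ⊥)
    (h0R : 𝒜 0 = Submodule.span k {(1 : R)}) [Algebra.FiniteType k R] (mR : HomogeneousIdeal 𝒜)
    (hmR : mR.toIdeal = Ideal.span (⋃ n ∈ Set.Ioi (0 : ℤ), (𝒜 n : Set R)))
    (D : Type u) [AddCommGroup D] [Module R D] [Module k D] [IsScalarTower k R D]
    (𝒟 : ℤ → AddSubgroup D) [DirectSum.Decomposition 𝒟] [SetLike.GradedSMul 𝒜 𝒟]
    (β : D →ₗ[k] R →ₗ[k] k) (hD : GrSeg.IsGDual R 𝒜 𝒟 β) (e : (R ⧸ mR.toIdeal) →ₗ[R] D)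
    (he : Function.Injective e) (hegr : GrLC.IsGrHom (GrLC.quotGr 𝒜 mR) 𝒟 e) :
    GrLC.IsStarInjHull 𝒜 (GrLC.quotGr 𝒜 mR) 𝒟 e :=
  { injective := he
    grHom := hegr
    essential := essential 𝒜 𝒟 β hD hposR h0R mR hmR e he hegr
    starInj := starInj 𝒜 𝒟 β hD }

end Groth.Agent.Lib.GrDualH1
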