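import Mathlib
import Groth.Prelude.Def_GrLC
import Groth.Prelude.Def_GrSyz
import Groth.Agent.Lib.GrDual_helper1

/-! Minimal graded free resolutions over a polynomial ring: basic facts (helper1). -/

set_option autoImplicit false

namespace Groth.Agent.Lib.GrSyzH1

open DirectSum

universe u

section general

variable {S : Type*} [CommRing S] {X : Type*} [AddCommGroup X] [Module S X]

theorem not_mem_span_of_ker {n : ℕ} (𝔪 : Ideal S) (h1 : (1 : S) ∉ 𝔪) (u : Fin n → X)
    (hker : ∀ v : Fin n → S, ∑ i, v i • u i = 0 → ∀ b, v b ∈ 𝔪) (b : Fin n) :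
    u b ∉ Submodule.span S (u '' {b' | b' ≠ b}) := by
  classical
  intro hmem
  obtain ⟨l, hl, hlu⟩ := (Finsupp.mem_span_image_iff_linearCombination S).mp hmem
  have hlb : l b = 0 := by
    by_contra h
    have hb : b ∈ l.support := Finsupp.mem_support_iff.mpr h
    exact ((Finsupp.mem_supported S l).mp hl hb) rfl
  have hsum : ∑ i, ((Pi.single b 1 : Fin n → S) i - l i) • u i = 0 := by
    simp only [sub_smul, Finset.sum_sub_distrib]
    rw [Finsupp.linearCombination_apply,
      Finsupp.sum_fintype l (fun i a => a • u i) (fun i => zero_smul _ _)] at hlu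
    rw [hlu]
    simp [Pi.single_apply, ite_smul]
  have := hker (fun i => (Pi.single b 1 : Fin n → S) i - l i) hsum b
  simp only [Pi.single_eq_same, hlb, sub_zero] at this
  exact h1 this

theorem mem_span_of_unit {n : ℕ} (u : Fin n → X) (v : Fin n → S) (hv : ∑ i, v i • u i = 0)
    (a : Fin n) (ha : IsUnit (v a)) : u a ∈ Submodule.span S (u '' {a' | a' ≠ a}) := by
  classical
  obtain ⟨c, hc⟩ := ha
  have h1 : v a • u a = - ∑ i ∈ Finset.univ.erase a, v i • u i := by
    rw [← Finset.add_sum_erase _ _ (Finset.mem_univ a)] at hv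
    exact eq_neg_of_add_eq_zero_left hv
  have h2 : u a = ((c⁻¹ : Sˣ) : S) • (v a • u a) := by
    rw [smul_smul, ← hc, Units.inv_mul, one_smul]
  rw [h2, h1]
  apply Submodule.smul_mem
  apply Submodule.neg_mem
  apply Submodule.sum_mem
  intro i hi
  apply Submodule.smul_mem
  apply Submodule.subset_span
  exact ⟨i, Finset.ne_of_mem_erase hi, rfl⟩

theorem mulVec_single_one' {m n : ℕ} (D : Matrix (Fin m) (Fin n) S) (b : Fin n) :
    D.mulVec (Pi.single b 1) = fun a => D a b := by
  classical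
  ext a
  simp [Matrix.mulVec, dotProduct, Pi.single_apply]

theorem sum_smul_col {m n : ℕ} (D : Matrix (Fin m) (Fin n) S) (v : Fin n → S) :
    ∑ b, v b • (fun a => D a b) = D.mulVec v := by
  ext a
  simp [Matrix.mulVec, dotProduct, Finset.sum_apply, mul_comm]

end general

section poly

variable (k : Type u) [Field k] (σ : Type)

theorem stdGr_neg {n : ℤ} (hn : n < 0) : GrSyz.stdGr k σ n = ⊥ := by
  rw [eq_bot_iff]
  intro p hp
  rw [Submodule.mem_bot]
  ext d
  rw [MvPolynomial.coeff_zero]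
  by_contra hd
  have h1 : Finsupp.weight (fun _ : σ => (1 : ℤ)) d = n := hp hd
  have h2 : 0 ≤ Finsupp.weight (fun _ : σ => (1 : ℤ)) d := by
    rw [Finsupp.weight_apply, Finsupp.sum]
    exact Finset.sum_nonneg (fun i _ => by positivity)
  omega

variable {k σ}

theorem eq_C_of_mem_zero {p : MvPolynomial σ k} (hp : p ∈ GrSyz.stdGr k σ 0) :
    p = MvPolynomial.C (MvPolynomial.coeff 0 p) := by
  classical
  ext d
  rw [MvPolynomial.coeff_C]
  split_ifs with h
  · rw [← h]
  · by_contra hd
    have h1 : Finsupp.weight (fun _ : σ => (1 : ℤ)) d = 0 := hp hd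
    apply h
    rw [Finsupp.weight_apply, Finsupp.sum] at h1
    have h2 := (Finset.sum_eq_zero_iff_of_nonneg (fun i _ => by positivity)).mp h1
    ext i
    by_cases hi : i ∈ d.support
    · have h3 := h2 i hi
      have h4 : d i = 0 := by simpa using h3
      rw [Finsupp.coe_zero, Pi.zero_apply, h4]
    · rw [Finsupp.notMem_support_iff] at hi
      rw [Finsupp.coe_zero, Pi.zero_apply, hi]

variable (k σ)

/-- the irrelevant ideal -/
noncomputable abbrev irr : Ideal (MvPolynomial σ k) := (GrSyz.irrel (GrSyz.stdGr k σ)).toIdeal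

theorem irr_eq : irr k σ =
    Ideal.span (⋃ n ∈ Set.Ioi (0 : ℤ), (GrSyz.stdGr k σ n : Set (MvPolynomial σ k))) := by
  show Ideal.span _ = Ideal.span _
  congr 1
  ext r
  simp only [Set.mem_setOf_eq, Set.mem_iUnion, Set.mem_Ioi, SetLike.mem_coe, exists_prop]

variable {k σ}

theorem mem_irr_of_pos {p : MvPolynomial σ k} {e : ℤ} (hp : p ∈ GrSyz.stdGr k σ e) (he : 0 < e) :
    p ∈ irr k σ :=
  Ideal.subset_span ⟨e, he, hp⟩

theorem decompose_zero_of_mem_irr {p : MvPolynomial σ k} (hp : p ∈ irr k σ) :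
    (decompose (GrSyz.stdGr k σ) p 0 : MvPolynomial σ k) = 0 :=
  GrDualH1.decompose_zero_eq_zero_of_mem (GrSyz.stdGr k σ) (fun n hn => stdGr_neg k σ hn)
    (GrSyz.irrel (GrSyz.stdGr k σ)) (irr_eq k σ) hp

theorem entry_zero {p : MvPolynomial σ k} {e : ℤ} (hp : p ∈ GrSyz.stdGr k σ e) (he : e ≤ 0)
    (hm : p ∈ irr k σ) : p = 0 := by
  rcases lt_or_eq_of_le he with h | h
  · rw [stdGr_neg k σ h] at hp
    exact (Submodule.mem_bot k).mp hp
  · subst h
    rw [← decompose_zero_of_mem_irr hm, decompose_of_mem_same _ hp]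

theorem one_not_mem_irr : (1 : MvPolynomial σ k) ∉ irr k σ := by
  intro h
  have h1 := decompose_zero_of_mem_irr h
  rw [decompose_of_mem_same _ (SetLike.GradedOne.one_mem (A := GrSyz.stdGr k σ))] at h1
  exact one_ne_zero h1

theorem isUnit_of_not_mem_irr {p : MvPolynomial σ k} {e : ℤ} (hp : p ∈ GrSyz.stdGr k σ e)
    (hm : p ∉ irr k σ) : IsUnit p := by
  rcases lt_trichotomy e 0 with h | h | h
  · exfalso
    rw [stdGr_neg k σ h] at hp
    rw [(Submodule.mem_bot k).mp hp] at hm
    exact hm (Ideal.zero_mem _)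
  · subst h
    rw [eq_C_of_mem_zero hp]
    have hc : MvPolynomial.coeff 0 p ≠ 0 := by
      intro hc
      apply hm
      rw [eq_C_of_mem_zero hp, hc, map_zero]
      exact Ideal.zero_mem _
    exact (IsUnit.mk0 _ hc).map MvPolynomial.C
  · exact absurd (mem_irr_of_pos hp h) hm

end poly

section rows

variable (k : Type u) [Field k] (r : ℕ)
    (M : Type u) [AddCommGroup M] [Module k M] [Module (MvPolynomial (Fin (r + 1)) k) M]
    [IsScalarTower k (MvPolynomial (Fin (r + 1)) k) M]
    (ℳ : ℤ → Submodule k M) [DirectSum.Decomposition ℳ]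
    [SetLike.GradedSMul (GrSyz.stdGr k (Fin (r + 1))) ℳ]
    (F : GrSyz.FreeRes (GrSyz.stdGr k (Fin (r + 1))) ℳ)

theorem range_le_irr (hF : F.IsMinimal (GrSyz.irrel (GrSyz.stdGr k (Fin (r + 1)))).toIdeal) (i : ℕ)
    (v : Fin (F.rk i) → MvPolynomial (Fin (r + 1)) k)
    (hv : v ∈ LinearMap.range (Matrix.mulVecLin (F.d i))) (b : Fin (F.rk i)) :
    v b ∈ irr k (Fin (r + 1)) := by
  obtain ⟨w, rfl⟩ := hv
  rw [Matrix.mulVecLin_apply]
  show ∑ c, F.d i b c * w c ∈ _
  exact Ideal.sum_mem _ (fun c _ => Ideal.mul_mem_right _ _ (hF i b c))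

theorem main15431 (hF : F.IsMinimal (GrSyz.irrel (GrSyz.stdGr k (Fin (r + 1)))).toIdeal) (i : ℕ)
    (d : ℤ) (h : ∀ a : Fin (F.rk i), d ≤ F.deg i a) (b : Fin (F.rk (i + 1))) :
    d + 1 ≤ F.deg (i + 1) b := by
  by_contra hlt
  push_neg at hlt
  have hz : ∀ a, F.d i a b = 0 := fun a =>
    entry_zero (F.d_mem i a b) (by linarith [h a]) (hF i a b)
  have hker : (Pi.single b 1 : Fin (F.rk (i + 1)) → MvPolynomial (Fin (r + 1)) k) ∈
      LinearMap.ker (Matrix.mulVecLin (F.d i)) := by
    rw [LinearMap.mem_ker, Matrix.mulVecLin_apply, mulVec_single_one']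
    funext a
    exact hz a
  rw [F.exact_succ i] at hker
  have := range_le_irr k r M ℳ F hF (i + 1) _ hker b
  rw [Pi.single_eq_same] at this
  exact one_not_mem_irr this

theorem main15427 :
    F.IsMinimal (GrSyz.irrel (GrSyz.stdGr k (Fin (r + 1)))).toIdeal ↔
      ((∀ b : Fin (F.rk 0), F.aug b ∉
          Submodule.span (MvPolynomial (Fin (r + 1)) k) (F.aug '' {b' | b' ≠ b})) ∧
        ∀ (i : ℕ) (b : Fin (F.rk (i + 1))),
          (fun a => F.d i a b) ∉ Submodule.span (MvPolynomial (Fin (r + 1)) k)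
            ((fun b' a => F.d i a b') '' {b' | b' ≠ b})) := by
  constructor
  · intro hF
    refine ⟨fun b => ?_, fun i b => ?_⟩
    · apply not_mem_span_of_ker (irr k (Fin (r + 1))) one_not_mem_irr F.aug
      intro v hv b'
      have hv' : v ∈ LinearMap.ker (Fintype.linearCombination (MvPolynomial (Fin (r + 1)) k) F.aug) := by
        rw [LinearMap.mem_ker, Fintype.linearCombination_apply]
        exact hv
      rw [F.exact_zero] at hv'
      exact range_le_irr k r M ℳ F hF 0 v hv' b'
    · apply not_mem_span_of_ker (irr k (Fin (r + 1))) one_not_mem_irr (fun b' a => F.d i a b')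
      intro v hv b'
      have hv' : v ∈ LinearMap.ker (Matrix.mulVecLin (F.d i)) := by
        rw [LinearMap.mem_ker, Matrix.mulVecLin_apply, ← sum_smul_col]
        exact hv
      rw [F.exact_succ i] at hv'
      exact range_le_irr k r M ℳ F hF (i + 1) v hv' b'
  · rintro ⟨h1, h2⟩ i a b
    by_contra hnot
    have hunit := isUnit_of_not_mem_irr (F.d_mem i a b) hnot
    cases i with
    | zero =>
      have hcol : (fun a' => F.d 0 a' b) ∈ LinearMap.range (Matrix.mulVecLin (F.d 0)) :=
        ⟨Pi.single b 1, by rw [Matrix.mulVecLin_apply, mulVec_single_one']⟩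
      rw [← F.exact_zero, LinearMap.mem_ker, Fintype.linearCombination_apply] at hcol
      exact h1 a (mem_span_of_unit F.aug (fun a' => F.d 0 a' b) hcol a hunit)
    | succ j =>
      have hcol : (fun a' => F.d (j + 1) a' b) ∈ LinearMap.range (Matrix.mulVecLin (F.d (j + 1))) :=
        ⟨Pi.single b 1, by rw [Matrix.mulVecLin_apply, mulVec_single_one']⟩
      rw [← F.exact_succ j, LinearMap.mem_ker, Matrix.mulVecLin_apply, ← sum_smul_col] at hcol
      exact h2 j a (mem_span_of_unit (fun b' a'' => F.d j a'' b') (fun a' => F.d (j + 1) a' b)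
        hcol a hunit)

end rows

end Groth.Agent.Lib.GrSyzH1
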