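import Mathlib
import Groth.Prelude.Def_GrLC
import Groth.Prelude.Def_GrSyz
import Groth.Agent.Lib.GrSyz_helper1
import Groth.Agent.Lib.GrStar2_helper1
import Groth.Agent.Lib.GrExt_helper1
import Groth.Agent.Lib.GrNak_helper1

/-! Existence of minimal graded free resolutions (helper1). -/

set_option autoImplicit false

namespace Groth.Agent.Lib.GrSyz2H1

open DirectSum GrLC

universe u

/-! ### conversion of a grading by a `SetLike` class to a grading by additive subgroups -/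
section conv

variable {ι : Type} [DecidableEq ι]
variable {M : Type u} [AddCommGroup M] {σ : Type*} [SetLike σ M] [AddSubgroupClass σ M]
  (ℳ : ι → σ)

/-- the same pieces as additive subgroups -/
def toAG : ι → AddSubgroup M := fun i => AddSubgroup.ofClass (ℳ i)

theorem mem_toAG {i : ι} {x : M} : x ∈ toAG ℳ i ↔ x ∈ ℳ i := Iff.rfl

/-- identity on a piece -/
def convHom (i : ι) : ℳ i →+ toAG ℳ i where
  toFun x := ⟨x.1, x.2⟩
  map_zero' := rfl
  map_add' _ _ := rfl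

variable [Decomposition ℳ]

/-- decomposition map -/
noncomputable def convDec : M →+ ⨁ i, toAG ℳ i :=
  (DirectSum.toAddMonoid (fun j => (DirectSum.of (fun i => toAG ℳ i) j).comp (convHom ℳ j))).comp
    (decomposeAddEquiv ℳ).toAddMonoidHom

theorem convDec_of_mem {j : ι} {x : M} (hx : x ∈ ℳ j) :
    convDec ℳ x = DirectSum.of (fun i => toAG ℳ i) j ⟨x, hx⟩ := by
  unfold convDec
  rw [AddMonoidHom.comp_apply]
  change DirectSum.toAddMonoid _ (decompose ℳ x) = _
  rw [decompose_of_mem ℳ hx, DirectSum.toAddMonoid_of]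
  rfl

/-- the converted decomposition -/
noncomputable def convDecomp : Decomposition (toAG ℳ) :=
  Decomposition.ofAddHom _ (convDec ℳ)
    (by
      apply AddMonoidHom.ext
      intro x
      rw [AddMonoidHom.comp_apply, AddMonoidHom.id_apply]
      induction x using DirectSum.Decomposition.inductionOn ℳ with
      | zero => simp
      | @homogeneous i m => rw [convDec_of_mem ℳ m.2, DirectSum.coeAddMonoidHom_of]
      | add m m' hm hm' => rw [map_add, map_add, hm, hm'])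
    (by
      apply DirectSum.addHom_ext
      rintro k ⟨y, hy⟩
      rw [AddMonoidHom.comp_apply, DirectSum.coeAddMonoidHom_of, AddMonoidHom.id_apply]
      exact convDec_of_mem ℳ hy)

end conv

section conv2

variable {ι : Type} [DecidableEq ι] [AddMonoid ι]
variable {R : Type u} [CommRing R] {σ' : Type*} [SetLike σ' R] [AddSubgroupClass σ' R]
  (𝒜 : ι → σ') [GradedRing 𝒜]

/-- the converted graded ring structure -/
noncomputable def convGradedRing : GradedRing (toAG 𝒜) :=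
  { (convDecomp 𝒜) with
    one_mem := SetLike.GradedOne.one_mem (A := 𝒜)
    mul_mem := fun _ _ _ _ ha hb => SetLike.GradedMul.mul_mem (A := 𝒜) ha hb }

variable {M : Type u} [AddCommGroup M] [Module R M] {σ : Type*} [SetLike σ M] [AddSubgroupClass σ M]
  (ℳ : ι → σ)

theorem conv_gsmul [SetLike.GradedSMul 𝒜 ℳ] : SetLike.GradedSMul (toAG 𝒜) (toAG ℳ) where
  smul_mem := fun _ _ _ _ hr hx => SetLike.GradedSMul.smul_mem (A := 𝒜) (B := ℳ) hr hx

end conv2

/-! ### minimal generators -/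
section gen

variable {R : Type u} [CommRing R] (𝒜 : ℤ → AddSubgroup R) [GradedRing 𝒜] (𝔪 : Ideal R)

/-- hypotheses: positively graded, `𝔪` the irrelevant ideal, degree zero elements outside `𝔪` units -/
structure Hyp : Prop where
  pos : ∀ n : ℤ, n < 0 → 𝒜 n = ⊥
  irr : 𝔪 = Ideal.span (⋃ n ∈ Set.Ioi (0 : ℤ), (𝒜 n : Set R))
  unit : ∀ x ∈ 𝒜 0, x ∉ 𝔪 → IsUnit x

variable {𝒜 𝔪}

theorem Hyp.isUnit_decompose_zero (h : Hyp 𝒜 𝔪) {w : R} (hw : w ∉ 𝔪) :
    IsUnit (decompose 𝒜 w 0 : R) := by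
  classical
  apply h.unit _ (decompose 𝒜 w 0).2
  intro h0
  apply hw
  rw [← DirectSum.sum_support_decompose 𝒜 w]
  refine Ideal.sum_mem _ (fun j _ => ?_)
  rcases lt_trichotomy j 0 with hj | hj | hj
  · have hneg : ∀ z : R, z ∈ 𝒜 j → z = 0 := fun z hz => by
      rw [h.pos j hj, AddSubgroup.mem_bot] at hz; exact hz
    rw [hneg _ (decompose 𝒜 w j).2]; exact Ideal.zero_mem _
  · subst hj; exact h0
  · rw [h.irr]
    exact Ideal.subset_span (Set.mem_biUnion (show j ∈ Set.Ioi (0 : ℤ) from hj) (decompose 𝒜 w j).2)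

variable {N : Type u} [AddCommGroup N] [Module R N] (𝒩 : ℤ → AddSubgroup N) [Decomposition 𝒩]
  [SetLike.GradedSMul 𝒜 𝒩]

/-- there is a homogeneous generating family with `n` members -/
def HasGens (n : ℕ) : Prop :=
  ∃ (dg : Fin n → ℤ) (s : Fin n → N), (∀ b, s b ∈ 𝒩 (dg b)) ∧ Submodule.span R (Set.range s) = ⊤

omit [Decomposition 𝒩] [SetLike.GradedSMul 𝒜 𝒩] in
theorem hasGens_remove {m : ℕ} (dg : Fin (m + 1) → ℤ) (s : Fin (m + 1) → N)
    (hs : ∀ b, s b ∈ 𝒩 (dg b)) (hspan : Submodule.span R (Set.range s) = ⊤) (b : Fin (m + 1))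
    (hb : s b ∈ Submodule.span R (s '' {c | c ≠ b})) : HasGens (R := R) 𝒩 m := by
  refine ⟨dg ∘ b.succAbove, s ∘ b.succAbove, fun c => hs _, ?_⟩
  rw [eq_top_iff, ← hspan, Set.range_comp, Fin.range_succAbove]
  apply Submodule.span_le.mpr
  rintro _ ⟨c, rfl⟩
  by_cases hc : c = b
  · rw [hc]
    have : ({b}ᶜ : Set (Fin (m + 1))) = {c | c ≠ b} := by ext; simp
    rw [this]; exact hb
  · exact Submodule.subset_span ⟨c, hc, rfl⟩

theorem min_gens_aux (h : Hyp 𝒜 𝔪) (n : ℕ) (hmin : ∀ m < n, ¬ HasGens (R := R) 𝒩 m)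
    (dg : Fin n → ℤ) (s : Fin n → N) (hs : ∀ b, s b ∈ 𝒩 (dg b))
    (hspan : Submodule.span R (Set.range s) = ⊤) (w : Fin n → R) (hw : ∑ b, w b • s b = 0)
    (b : Fin n) : w b ∈ 𝔪 := by
  by_contra hb
  have hcomp := GrNakH1.decompose_linComb 𝒜 𝒩 hs w (dg b)
  rw [hw, decompose_zero, DirectSum.zero_apply, ZeroMemClass.coe_zero] at hcomp
  have hunit : IsUnit ((fun c => (decompose 𝒜 (w c) (dg b - dg c) : R)) b) := by
    show IsUnit (decompose 𝒜 (w b) (dg b - dg b) : R)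
    rw [sub_self]
    exact h.isUnit_decompose_zero hb
  have hmem := GrSyzH1.mem_span_of_unit s (fun c => (decompose 𝒜 (w c) (dg b - dg c) : R))
    hcomp.symm b hunit
  cases n with
  | zero => exact b.elim0
  | succ m => exact hmin m (Nat.lt_succ_self m) (hasGens_remove 𝒩 dg s hs hspan b hmem)

theorem exists_min_gens (h : Hyp 𝒜 𝔪) [Module.Finite R N] :
    ∃ (n : ℕ) (dg : Fin n → ℤ) (s : Fin n → N), (∀ b, s b ∈ 𝒩 (dg b)) ∧
      Submodule.span R (Set.range s) = ⊤ ∧ ∀ w : Fin n → R, ∑ b, w b • s b = 0 → ∀ b, w b ∈ 𝔪 := by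
  classical
  have hP : ∃ n, HasGens (R := R) 𝒩 n := by
    obtain ⟨n, dg, s, hs, hspan⟩ := GrExtH1.exists_homog_generators (R := R) 𝒩
    exact ⟨n, dg, s, hs, hspan⟩
  obtain ⟨dg, s, hs, hspan⟩ := Nat.find_spec hP
  exact ⟨Nat.find hP, dg, s, hs, hspan, fun w hw b =>
    min_gens_aux 𝒩 h _ (fun m hm => Nat.find_min hP hm) dg s hs hspan w hw b⟩

end gen

/-! ### the recursion -/
section rec

variable {R : Type u} [CommRing R] [IsNoetherianRing R] (𝒜 : ℤ → AddSubgroup R) [GradedRing 𝒜]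
  (𝔪 : Ideal R)

noncomputable local instance instFreeDecomp (n : ℕ) (dg : Fin n → ℤ) :
    Decomposition (GrExtH1.freeGr 𝒜 dg) := GrExtH1.freeDecomp 𝒜 dg

local instance instFreeGsmul (n : ℕ) (dg : Fin n → ℤ) :
    SetLike.GradedSMul 𝒜 (GrExtH1.freeGr 𝒜 dg) := GrExtH1.free_gsmul 𝒜 dg

/-- a stage of the construction: a homogeneous submodule of a graded free module, inside `𝔪 F` -/
structure Stage where
  n : ℕ
  dg : Fin n → ℤ
  K : Submodule R (Fin n → R)
  hom : K.IsHomogeneous (GrExtH1.freeGr 𝒜 dg)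
  le : ∀ v ∈ K, ∀ a, v a ∈ 𝔪

variable {𝒜 𝔪}

omit [IsNoetherianRing R] in
theorem mulVecLin_isGrHom {n n' : ℕ} {dg : Fin n → ℤ} {dg' : Fin n' → ℤ}
    (D : Matrix (Fin n) (Fin n') R) (hD : ∀ a b, D a b ∈ 𝒜 (dg' b - dg a)) :
    IsGrHom (GrExtH1.freeGr 𝒜 dg') (GrExtH1.freeGr 𝒜 dg) (Matrix.mulVecLin D) := by
  intro j v hv a
  rw [Matrix.mulVecLin_apply]
  show ∑ b, D a b * v b ∈ _
  refine sum_mem (fun b _ => ?_)
  have := SetLike.GradedMul.mul_mem (A := 𝒜) (hD a b) (hv b)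
  have e : dg' b - dg a + (j - dg' b) = j - dg a := by ring
  rwa [e] at this

theorem exists_next (h : Hyp 𝒜 𝔪) (st : Stage 𝒜 𝔪) :
    ∃ (n' : ℕ) (dg' : Fin n' → ℤ) (D : Matrix (Fin st.n) (Fin n') R),
      (∀ a b, D a b ∈ 𝒜 (dg' b - st.dg a)) ∧ LinearMap.range (Matrix.mulVecLin D) = st.K ∧
      (∀ w ∈ LinearMap.ker (Matrix.mulVecLin D), ∀ b, w b ∈ 𝔪) := by
  letI := GrStar2H1.subDecomp (GrExtH1.freeGr 𝒜 st.dg) st.K st.hom
  haveI := GrStar2H1.sub_gsmul 𝒜 (GrExtH1.freeGr 𝒜 st.dg) st.K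
  obtain ⟨n', dg', s, hs, hspan, hmin⟩ :=
    exists_min_gens (GrStar2H1.subGr (GrExtH1.freeGr 𝒜 st.dg) st.K) h
  have hD : ∀ w : Fin n' → R, (Matrix.of fun a b => (s b : Fin st.n → R) a).mulVec w =
      ((∑ b, w b • s b : ↥st.K) : Fin st.n → R) := by
    intro w
    rw [← GrSyzH1.sum_smul_col, Submodule.coe_sum]
    rfl
  refine ⟨n', dg', Matrix.of fun a b => (s b : Fin st.n → R) a, fun a b => hs b a, ?_, ?_⟩
  · apply le_antisymm
    · rintro _ ⟨w, rfl⟩
      rw [Matrix.mulVecLin_apply, hD]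
      exact Submodule.coe_mem _
    · intro x hx
      have hx' : (⟨x, hx⟩ : ↥st.K) ∈ Submodule.span R (Set.range s) := by rw [hspan]; trivial
      obtain ⟨c, hc⟩ := (Submodule.mem_span_range_iff_exists_fun R).mp hx'
      refine ⟨c, ?_⟩
      rw [Matrix.mulVecLin_apply, hD, hc]
  · intro w hw b
    rw [LinearMap.mem_ker, Matrix.mulVecLin_apply, hD] at hw
    exact hmin w (Subtype.ext hw) b

/-- rank of the next term -/
noncomputable def nextN (h : Hyp 𝒜 𝔪) (st : Stage 𝒜 𝔪) : ℕ := (exists_next h st).choose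

/-- degrees of the next term -/
noncomputable def nextDg (h : Hyp 𝒜 𝔪) (st : Stage 𝒜 𝔪) : Fin (nextN h st) → ℤ :=
  (exists_next h st).choose_spec.choose

/-- the matrix of the next differential -/
noncomputable def mat (h : Hyp 𝒜 𝔪) (st : Stage 𝒜 𝔪) : Matrix (Fin st.n) (Fin (nextN h st)) R :=
  (exists_next h st).choose_spec.choose_spec.choose

theorem mat_spec (h : Hyp 𝒜 𝔪) (st : Stage 𝒜 𝔪) :
    (∀ a b, mat h st a b ∈ 𝒜 (nextDg h st b - st.dg a)) ∧
      LinearMap.range (Matrix.mulVecLin (mat h st)) = st.K ∧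
      (∀ w ∈ LinearMap.ker (Matrix.mulVecLin (mat h st)), ∀ b, w b ∈ 𝔪) :=
  (exists_next h st).choose_spec.choose_spec.choose_spec

/-- the next stage -/
noncomputable def next (h : Hyp 𝒜 𝔪) (st : Stage 𝒜 𝔪) : Stage 𝒜 𝔪 where
  n := nextN h st
  dg := nextDg h st
  K := LinearMap.ker (Matrix.mulVecLin (mat h st))
  hom := GrStarH1.ker_isHomogeneous (GrExtH1.freeGr 𝒜 (nextDg h st)) (GrExtH1.freeGr 𝒜 st.dg)
    (mulVecLin_isGrHom (mat h st) (mat_spec h st).1)
  le := (mat_spec h st).2.2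

/-- the sequence of stages -/
noncomputable def stage (h : Hyp 𝒜 𝔪) (st0 : Stage 𝒜 𝔪) : ℕ → Stage 𝒜 𝔪
  | 0 => st0
  | i + 1 => next h (stage h st0 i)

theorem mat_mem_max (h : Hyp 𝒜 𝔪) (st : Stage 𝒜 𝔪) (a : Fin st.n) (b : Fin (nextN h st)) :
    mat h st a b ∈ 𝔪 := by
  have hcol : (fun a' => mat h st a' b) ∈ st.K := by
    rw [← (mat_spec h st).2.1]
    exact ⟨Pi.single b 1, by rw [Matrix.mulVecLin_apply, GrSyzH1.mulVec_single_one']⟩
  exact st.le _ hcol a

variable {M : Type u} [AddCommGroup M] [Module R M] [Module.Finite R M] (ℳ : ℤ → AddSubgroup M)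
  [Decomposition ℳ] [SetLike.GradedSMul 𝒜 ℳ]

theorem exists_minimal_data (h : Hyp 𝒜 𝔪) :
    ∃ (rk : ℕ → ℕ) (deg : (i : ℕ) → Fin (rk i) → ℤ)
      (d : (i : ℕ) → Matrix (Fin (rk i)) (Fin (rk (i + 1))) R) (aug : Fin (rk 0) → M),
      (∀ i a b, d i a b ∈ 𝒜 (deg (i + 1) b - deg i a)) ∧ (∀ b, aug b ∈ ℳ (deg 0 b)) ∧
      Function.Surjective (Fintype.linearCombination R aug) ∧
      LinearMap.ker (Fintype.linearCombination R aug) = LinearMap.range (Matrix.mulVecLin (d 0)) ∧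
      (∀ i, LinearMap.ker (Matrix.mulVecLin (d i)) = LinearMap.range (Matrix.mulVecLin (d (i + 1)))) ∧
      ∀ i a b, d i a b ∈ 𝔪 := by
  obtain ⟨n₀, dg₀, aug, haug, hspan, hmin⟩ := exists_min_gens ℳ h
  let st0 : Stage 𝒜 𝔪 :=
    { n := n₀
      dg := dg₀
      K := LinearMap.ker (Fintype.linearCombination R aug)
      hom := GrStarH1.ker_isHomogeneous (GrExtH1.freeGr 𝒜 dg₀) ℳ
        (GrExtH1.linComb_isGrHom 𝒜 dg₀ ℳ aug haug)
      le := fun v hv a => by
        rw [LinearMap.mem_ker, Fintype.linearCombination_apply] at hv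
        exact hmin v hv a }
  have hsurj : Function.Surjective (Fintype.linearCombination R aug) := by
    rw [← LinearMap.range_eq_top, Fintype.range_linearCombination]
    exact hspan
  refine ⟨fun i => (stage h st0 i).n, fun i => (stage h st0 i).dg,
    fun i => mat h (stage h st0 i), aug, ?_, haug, hsurj, ?_, ?_, ?_⟩
  · intro i a b
    exact (mat_spec h (stage h st0 i)).1 a b
  · exact (mat_spec h (stage h st0 0)).2.1.symm
  · intro i
    exact (mat_spec h (stage h st0 (i + 1))).2.1.symm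
  · intro i a b
    exact mat_mem_max h (stage h st0 i) a b

end rec

/-! ### the polynomial ring -/

theorem main15416 (k : Type u) [Field k] (r : ℕ)
    (M : Type u) [AddCommGroup M] [Module k M] [Module (MvPolynomial (Fin (r + 1)) k) M]
    [IsScalarTower k (MvPolynomial (Fin (r + 1)) k) M]
    [Module.Finite (MvPolynomial (Fin (r + 1)) k) M]
    (ℳ : ℤ → Submodule k M) [DirectSum.Decomposition ℳ]
    [SetLike.GradedSMul (GrSyz.stdGr k (Fin (r + 1))) ℳ] :
    ∃ F : GrSyz.FreeRes (GrSyz.stdGr k (Fin (r + 1))) ℳ,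
      F.IsMinimal (GrSyz.irrel (GrSyz.stdGr k (Fin (r + 1)))).toIdeal := by
  letI : GradedRing (toAG (GrSyz.stdGr k (Fin (r + 1)))) :=
    convGradedRing (GrSyz.stdGr k (Fin (r + 1)))
  letI : Decomposition (toAG ℳ) := convDecomp ℳ
  haveI : SetLike.GradedSMul (toAG (GrSyz.stdGr k (Fin (r + 1)))) (toAG ℳ) :=
    conv_gsmul (GrSyz.stdGr k (Fin (r + 1))) ℳ
  have h : Hyp (toAG (GrSyz.stdGr k (Fin (r + 1)))) (GrSyzH1.irr k (Fin (r + 1))) :=
    { pos := fun n hn => by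
        rw [eq_bot_iff]
        intro x hx
        have hx' : x ∈ GrSyz.stdGr k (Fin (r + 1)) n := hx
        rw [GrSyzH1.stdGr_neg k _ hn] at hx'
        exact hx'
      irr := GrSyzH1.irr_eq k (Fin (r + 1))
      unit := fun x hx hxm => GrSyzH1.isUnit_of_not_mem_irr (e := 0) hx hxm }
  obtain ⟨rk, deg, d, aug, hd, haug, hsurj, hz, hs, hmin⟩ :=
    exists_minimal_data (toAG ℳ) h
  exact ⟨{ rk := rk, deg := deg, d := d, aug := aug, d_mem := hd, aug_mem := haug,
           aug_surjective := hsurj, exact_zero := hz, exact_succ := hs }, hmin⟩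

end Groth.Agent.Lib.GrSyz2H1
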