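import Mathlib
import Groth.Prelude.Def_GrLC
import Groth.Prelude.Def_GrSyz
import Groth.Agent.Lib.GrSyz2_helper1

/-! Conversion of graded data over a `SetLike` grading class to additive-subgroup gradings
(helper1). -/

set_option autoImplicit false

namespace Groth.Agent.Lib.GrConvH1

open DirectSum GrLC Groth.Agent.Lib.GrSyz2H1

universe u

attribute [local instance] convDecomp convGradedRing conv_gsmul

section dec

variable {ι : Type} [DecidableEq ι]
variable {M : Type u} [AddCommGroup M] {σ : Type*} [SetLike σ M] [AddSubgroupClass σ M]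
  (ℳ : ι → σ) [Decomposition ℳ]

theorem coe_decompose_conv (x : M) (i : ι) :
    ((decompose (toAG ℳ) x i : toAG ℳ i) : M) = (decompose ℳ x i : M) := by
  induction x using DirectSum.Decomposition.inductionOn ℳ with
  | zero => simp
  | @homogeneous j m =>
    by_cases h : j = i
    · subst h
      rw [decompose_of_mem_same (toAG ℳ) (show (m : M) ∈ toAG ℳ j from m.2),
        decompose_of_mem_same ℳ m.2]
    · rw [decompose_of_mem_ne (toAG ℳ) (show (m : M) ∈ toAG ℳ j from m.2) h,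
        decompose_of_mem_ne ℳ m.2 h]
  | add m m' hm hm' =>
    rw [decompose_add, decompose_add, DirectSum.add_apply, DirectSum.add_apply,
      AddMemClass.coe_add, AddMemClass.coe_add, hm, hm']

end dec

section gmod

variable {ι : Type} [AddCommGroup ι] [DecidableEq ι]
variable {R : Type u} [CommRing R] {σ : Type u} [SetLike σ R] [AddSubgroupClass σ R]
  (𝒜 : ι → σ) [GradedRing 𝒜]

theorem conv_gsmul' {X : Type u} [AddCommGroup X] [Module R X] (𝒳 : ι → AddSubgroup X)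
    [SetLike.GradedSMul 𝒜 𝒳] : SetLike.GradedSMul (toAG 𝒜) 𝒳 where
  smul_mem := fun _ _ _ _ hr hx => SetLike.GradedSMul.smul_mem (A := 𝒜) (B := 𝒳) hr hx

theorem unconv_gsmul' {X : Type u} [AddCommGroup X] [Module R X] (𝒳 : ι → AddSubgroup X)
    [SetLike.GradedSMul (toAG 𝒜) 𝒳] : SetLike.GradedSMul 𝒜 𝒳 where
  smul_mem := fun _ _ _ _ hr hx => SetLike.GradedSMul.smul_mem (A := toAG 𝒜) (B := 𝒳) hr hx

/-- a graded module over `𝒜` as a graded module over `toAG 𝒜` -/
def convGMod (X : GMod.{u} 𝒜) : GMod.{u} (toAG 𝒜) :=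
  { carrier := X.carrier, acg := X.acg, mod := X.mod, gr := X.gr, dec := X.dec,
    gsmul := conv_gsmul' 𝒜 X.gr }

/-- a graded module over `toAG 𝒜` as a graded module over `𝒜` -/
def unconvGMod (X : GMod.{u} (toAG 𝒜)) : GMod.{u} 𝒜 :=
  { carrier := X.carrier, acg := X.acg, mod := X.mod, gr := X.gr, dec := X.dec,
    gsmul := unconv_gsmul' 𝒜 X.gr }

theorem conv_starInj {X : Type u} [AddCommGroup X] [Module R X] (𝒳 : ι → AddSubgroup X)
    [Decomposition 𝒳] [SetLike.GradedSMul 𝒜 𝒳] (h : IsStarInj 𝒜 𝒳) :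
    @IsStarInj ι _ _ R _ (AddSubgroup R) _ _ (toAG 𝒜) _ X _ _ (AddSubgroup X) _ _ 𝒳 _
      (conv_gsmul' 𝒜 𝒳) := by
  intro A B f hf hinj g hg
  exact h (unconvGMod 𝒜 A) (unconvGMod 𝒜 B) f hf hinj g hg

/-- a homogeneous ideal for `𝒜` as a homogeneous ideal for `toAG 𝒜` -/
def convIdeal (a : HomogeneousIdeal 𝒜) : HomogeneousIdeal (toAG 𝒜) :=
  ⟨a.toIdeal, fun i r hr => by
    have h := a.isHomogeneous i hr
    rw [← coe_decompose_conv 𝒜 r i] at h
    exact h⟩

theorem convIdeal_toIdeal (a : HomogeneousIdeal 𝒜) : (convIdeal 𝒜 a).toIdeal = a.toIdeal := rfl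

variable {M : Type u} [AddCommGroup M] [Module R M] {τ : Type u} [SetLike τ M]
  [AddSubgroupClass τ M] (ℳ : ι → τ) [Decomposition ℳ] [SetLike.GradedSMul 𝒜 ℳ]

/-- a *injective resolution over `𝒜` as one over `toAG 𝒜` -/
noncomputable def convRes (E : StarInjRes 𝒜 ℳ) : StarInjRes (toAG 𝒜) (toAG ℳ) where
  X n := convGMod 𝒜 (E.X n)
  d n := E.d n
  ε := E.ε
  d_grHom n := E.d_grHom n
  ε_grHom := fun g m hm => E.ε_grHom g m hm
  ε_injective := E.ε_injective
  exact_zero := E.exact_zero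
  exact_succ := E.exact_succ
  starInj n := conv_starInj 𝒜 (E.X n).gr (E.starInj n)

theorem Hcomp_conv (E : StarInjRes 𝒜 ℳ) (a : HomogeneousIdeal 𝒜) (i : ℕ) (n : ι) :
    E.Hcomp a i n = ⊥ ↔ (convRes 𝒜 ℳ E).Hcomp (convIdeal 𝒜 a) i n = ⊥ := by
  rw [Submodule.eq_bot_iff, Submodule.eq_bot_iff]
  exact Iff.rfl

end gmod

section free

variable {R : Type u} [CommRing R] {σ : Type u} [SetLike σ R] [AddSubgroupClass σ R]
  (𝒜 : ℤ → σ) [GradedRing 𝒜]
variable {M : Type u} [AddCommGroup M] [Module R M] {τ : Type u} [SetLike τ M]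
  [AddSubgroupClass τ M] (ℳ : ℤ → τ) [Decomposition ℳ] [SetLike.GradedSMul 𝒜 ℳ]

/-- a graded free resolution over `𝒜` as one over `toAG 𝒜` -/
def convFree (F : GrSyz.FreeRes 𝒜 ℳ) : GrSyz.FreeRes (toAG 𝒜) (toAG ℳ) where
  rk := F.rk
  deg := F.deg
  d := F.d
  aug := F.aug
  d_mem := F.d_mem
  aug_mem := F.aug_mem
  aug_surjective := F.aug_surjective
  exact_zero := F.exact_zero
  exact_succ := F.exact_succ

end free

section endDeg

variable {X : Type u} [AddCommGroup X]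

theorem endDeg_le_iff (𝒳 : ℤ → AddSubgroup X) (e : ℤ) :
    endDeg 𝒳 ≤ ((e : WithTop ℤ) : WithBot (WithTop ℤ)) ↔ ∀ n : ℤ, e < n → 𝒳 n = ⊥ := by
  unfold endDeg
  rw [iSup_le_iff]
  constructor
  · intro h n hn
    by_contra hne
    have := (iSup_le_iff.1 (h n)) hne
    rw [WithBot.coe_le_coe, WithTop.coe_le_coe] at this
    omega
  · intro h n
    rw [iSup_le_iff]
    intro hne
    rw [WithBot.coe_le_coe, WithTop.coe_le_coe]
    by_contra hlt
    exact hne (h n (by omega))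

theorem add_le_iff (x : WithBot (WithTop ℤ)) (i d : ℤ) :
    x + ((i : WithTop ℤ) : WithBot (WithTop ℤ)) ≤ ((d : WithTop ℤ) : WithBot (WithTop ℤ)) ↔
      x ≤ (((d - i : ℤ) : WithTop ℤ) : WithBot (WithTop ℤ)) := by
  induction x using WithBot.recBotCoe with
  | bot => simp
  | coe y =>
    induction y using WithTop.recTopCoe with
    | top =>
      rw [← WithBot.coe_add, WithBot.coe_le_coe, WithBot.coe_le_coe, WithTop.top_add]
      simp
    | coe m =>
      rw [← WithBot.coe_add, WithBot.coe_le_coe, WithBot.coe_le_coe, ← WithTop.coe_add,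
        WithTop.coe_le_coe, WithTop.coe_le_coe]
      omega

theorem endDeg_add_le_iff (𝒳 : ℤ → AddSubgroup X) (i : ℕ) (d : ℤ) :
    endDeg 𝒳 + ((((i : ℕ) : ℤ) : WithTop ℤ) : WithBot (WithTop ℤ)) ≤
        ((d : WithTop ℤ) : WithBot (WithTop ℤ)) ↔ ∀ n : ℤ, d - i < n → 𝒳 n = ⊥ := by
  rw [add_le_iff, endDeg_le_iff]

end endDeg

end Groth.Agent.Lib.GrConvH1
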