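import Mathlib
import Groth.Prelude.Def_GrLC
import Groth.Agent.Lib.GrLES3_helper1
import Groth.Agent.Lib.GrExt_helper1
import Groth.Agent.Lib.GrHDec_helper1

/-! Functoriality of graded local cohomology on a fixed choice of *injective resolutions,
additivity, long exact sequence on pieces, shifts and graded free modules (helper1). -/

set_option autoImplicit false

namespace Groth.Agent.Lib.GrEG1H1

open DirectSum GrLC Groth.Agent.Lib.GrStarH1 Groth.Agent.Lib.GrStar2H1 Groth.Agent.Lib.GrStar3H1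
  Groth.Agent.Lib.GrLES1H1 Groth.Agent.Lib.GrLES2H1 Groth.Agent.Lib.GrLES3H1
  Groth.Agent.Lib.GrExtH1 Groth.Agent.Lib.GrHDecH1

universe u

variable {ι : Type} [AddCommGroup ι] [DecidableEq ι]
variable {R : Type u} [CommRing R]

/-! ### sums of chain maps -/
section cmapadd

variable {𝒜 : ι → AddSubgroup R} [GradedRing 𝒜]
variable {M : Type u} [AddCommGroup M] [Module R M] {ℳ : ι → AddSubgroup M} [Decomposition ℳ]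
  [SetLike.GradedSMul 𝒜 ℳ]
variable {N : Type u} [AddCommGroup N] [Module R N] {𝒩 : ι → AddSubgroup N} [Decomposition 𝒩]
  [SetLike.GradedSMul 𝒜 𝒩]
variable {E : StarInjRes 𝒜 ℳ} {F : StarInjRes 𝒜 𝒩}

/-- sum of chain maps -/
def cadd (φ ψ : CMap E F) : CMap E F where
  f n := φ.f n + ψ.f n
  gr n := isGrHom_add _ _ (φ.gr n) (ψ.gr n)
  comm n x := by
    rw [LinearMap.add_apply, LinearMap.add_apply, φ.comm, ψ.comm, map_add]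

/-- zero chain map -/
def czero : CMap E F where
  f _ := 0
  gr _ := fun _ _ _ => zero_mem _
  comm n x := by
    rw [LinearMap.zero_apply, LinearMap.zero_apply, map_zero]

theorem H_cadd (φ ψ : CMap E F) (a : HomogeneousIdeal 𝒜) (i : ℕ) :
    (cadd φ ψ).H a i = φ.H a i + ψ.H a i := by
  apply LinearMap.ext
  intro y
  obtain ⟨z, rfl⟩ := toH_surjective a E i y
  rw [LinearMap.add_apply, CMap.H_toH, CMap.H_toH, CMap.H_toH, ← map_add]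
  congr 1

theorem H_czero (a : HomogeneousIdeal 𝒜) (i : ℕ) : (czero : CMap E F).H a i = 0 := by
  apply LinearMap.ext
  intro y
  obtain ⟨z, rfl⟩ := toH_surjective a E i y
  rw [CMap.H_toH, LinearMap.zero_apply]
  have : (czero : CMap E F).Z a i z = 0 := Subtype.ext rfl
  rw [this, map_zero]

end cmapadd

variable (𝒜 : ι → AddSubgroup R) [GradedRing 𝒜]

/-! ### a fixed choice of resolutions -/
section std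

variable {M : Type u} [AddCommGroup M] [Module R M] (ℳ : ι → AddSubgroup M) [Decomposition ℳ]
  [SetLike.GradedSMul 𝒜 ℳ]

/-- the chosen *injective resolution -/
noncomputable def sRes : StarInjRes 𝒜 ℳ := Classical.choice (main13215 𝒜 ℳ)

/-- graded local cohomology computed from the chosen resolution -/
abbrev HH (a : HomogeneousIdeal 𝒜) (i : ℕ) : Type u := (sRes 𝒜 ℳ).H a i

/-- its pieces -/
noncomputable abbrev HHgr (a : HomogeneousIdeal 𝒜) (i : ℕ) : ι → AddSubgroup (HH 𝒜 ℳ a i) :=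
  (sRes 𝒜 ℳ).Hgr a i

/-- the piece of degree `n` of `H^i_a(M)` vanishes -/
noncomputable def Van (a : HomogeneousIdeal 𝒜) (i : ℕ) (n : ι) : Prop :=
  ∀ y ∈ HHgr 𝒜 ℳ a i n, y = 0

end std

section functor

variable {M : Type u} [AddCommGroup M] [Module R M] {ℳ : ι → AddSubgroup M} [Decomposition ℳ]
  [SetLike.GradedSMul 𝒜 ℳ]
variable {N : Type u} [AddCommGroup N] [Module R N] {𝒩 : ι → AddSubgroup N} [Decomposition 𝒩]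
  [SetLike.GradedSMul 𝒜 𝒩]
variable {L : Type u} [AddCommGroup L] [Module R L] {𝓛 : ι → AddSubgroup L} [Decomposition 𝓛]
  [SetLike.GradedSMul 𝒜 𝓛]

/-- the chosen lift of a graded map -/
noncomputable def sLift (u : M →ₗ[R] N) (hu : IsGrHom ℳ 𝒩 u) : CMap (sRes 𝒜 ℳ) (sRes 𝒜 𝒩) :=
  (exists_lift (sRes 𝒜 ℳ) (sRes 𝒜 𝒩) u hu).choose

theorem sLift_spec (u : M →ₗ[R] N) (hu : IsGrHom ℳ 𝒩 u) (m : M) :
    (sLift 𝒜 u hu).f 0 ((sRes 𝒜 ℳ).ε m) = (sRes 𝒜 𝒩).ε (u m) :=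
  (exists_lift (sRes 𝒜 ℳ) (sRes 𝒜 𝒩) u hu).choose_spec m

/-- the map induced on graded local cohomology -/
noncomputable def Hm (u : M →ₗ[R] N) (hu : IsGrHom ℳ 𝒩 u) (a : HomogeneousIdeal 𝒜) (i : ℕ) :
    HH 𝒜 ℳ a i →ₗ[R] HH 𝒜 𝒩 a i :=
  (sLift 𝒜 u hu).H a i

theorem Hm_eq (u : M →ₗ[R] N) (hu : IsGrHom ℳ 𝒩 u) (φ : CMap (sRes 𝒜 ℳ) (sRes 𝒜 𝒩))
    (hφ : ∀ m, φ.f 0 ((sRes 𝒜 ℳ).ε m) = (sRes 𝒜 𝒩).ε (u m)) (a : HomogeneousIdeal 𝒜) (i : ℕ) :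
    φ.H a i = Hm 𝒜 u hu a i :=
  H_unique φ (sLift 𝒜 u hu) (fun m => by rw [hφ, sLift_spec]) a i

theorem Hm_congr {u v : M →ₗ[R] N} (h : u = v) (hu : IsGrHom ℳ 𝒩 u) (hv : IsGrHom ℳ 𝒩 v)
    (a : HomogeneousIdeal 𝒜) (i : ℕ) : Hm 𝒜 u hu a i = Hm 𝒜 v hv a i := by
  subst h
  rfl

theorem Hm_gr (u : M →ₗ[R] N) (hu : IsGrHom ℳ 𝒩 u) (a : HomogeneousIdeal 𝒜) (i : ℕ) :
    IsGrHom (HHgr 𝒜 ℳ a i) (HHgr 𝒜 𝒩 a i) (Hm 𝒜 u hu a i) :=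
  CMap.H_gr _ a i

theorem Hm_id (a : HomogeneousIdeal 𝒜) (i : ℕ) :
    Hm 𝒜 (LinearMap.id : M →ₗ[R] M) (fun _ _ h => h) a i = (LinearMap.id : HH 𝒜 ℳ a i →ₗ[R] _) := by
  rw [← Hm_eq 𝒜 LinearMap.id (fun _ _ h => h) (CMap.id _) (fun m => rfl) a i, CMap.H_id]

theorem Hm_comp (u : M →ₗ[R] N) (hu : IsGrHom ℳ 𝒩 u) (v : N →ₗ[R] L) (hv : IsGrHom 𝒩 𝓛 v)
    (huv : IsGrHom ℳ 𝓛 (v ∘ₗ u)) (a : HomogeneousIdeal 𝒜) (i : ℕ) :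
    Hm 𝒜 (v ∘ₗ u) huv a i = Hm 𝒜 v hv a i ∘ₗ Hm 𝒜 u hu a i := by
  rw [← Hm_eq 𝒜 (v ∘ₗ u) huv ((sLift 𝒜 v hv).comp (sLift 𝒜 u hu)) (fun m => by
    show (sLift 𝒜 v hv).f 0 ((sLift 𝒜 u hu).f 0 ((sRes 𝒜 ℳ).ε m)) = _
    rw [sLift_spec, sLift_spec]
    rfl) a i, CMap.H_comp]
  rfl

theorem Hm_comp_apply (u : M →ₗ[R] N) (hu : IsGrHom ℳ 𝒩 u) (v : N →ₗ[R] L)
    (hv : IsGrHom 𝒩 𝓛 v) (huv : IsGrHom ℳ 𝓛 (v ∘ₗ u)) (a : HomogeneousIdeal 𝒜) (i : ℕ)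
    (y : HH 𝒜 ℳ a i) : Hm 𝒜 (v ∘ₗ u) huv a i y = Hm 𝒜 v hv a i (Hm 𝒜 u hu a i y) := by
  rw [Hm_comp 𝒜 u hu v hv huv a i]
  rfl

theorem Hm_add (u v : M →ₗ[R] N) (hu : IsGrHom ℳ 𝒩 u) (hv : IsGrHom ℳ 𝒩 v)
    (huv : IsGrHom ℳ 𝒩 (u + v)) (a : HomogeneousIdeal 𝒜) (i : ℕ) :
    Hm 𝒜 (u + v) huv a i = Hm 𝒜 u hu a i + Hm 𝒜 v hv a i := by
  rw [← Hm_eq 𝒜 (u + v) huv (cadd (sLift 𝒜 u hu) (sLift 𝒜 v hv)) (fun m => by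
    show (sLift 𝒜 u hu).f 0 ((sRes 𝒜 ℳ).ε m) + (sLift 𝒜 v hv).f 0 ((sRes 𝒜 ℳ).ε m) = _
    rw [sLift_spec, sLift_spec, LinearMap.add_apply, map_add]) a i, H_cadd]
  rfl

theorem Hm_zero (h0 : IsGrHom ℳ 𝒩 (0 : M →ₗ[R] N)) (a : HomogeneousIdeal 𝒜) (i : ℕ) :
    Hm 𝒜 (0 : M →ₗ[R] N) h0 a i = 0 := by
  rw [← Hm_eq 𝒜 0 h0 czero (fun m => by
    show (0 : (sRes 𝒜 𝒩).X 0 |>.carrier) = _
    rw [LinearMap.zero_apply, map_zero]) a i, H_czero]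

theorem isGrHom_zero : IsGrHom ℳ 𝒩 (0 : M →ₗ[R] N) := fun _ _ _ => zero_mem _

theorem isGrHom_sum {κ : Type*} (s : Finset κ) (u : κ → M →ₗ[R] N)
    (hu : ∀ k, IsGrHom ℳ 𝒩 (u k)) : IsGrHom ℳ 𝒩 (∑ k ∈ s, u k) := by
  intro g m hm
  rw [LinearMap.sum_apply]
  exact sum_mem (fun k _ => hu k g m hm)

theorem Hm_sum {κ : Type*} (s : Finset κ) (u : κ → M →ₗ[R] N) (hu : ∀ k, IsGrHom ℳ 𝒩 (u k))
    (a : HomogeneousIdeal 𝒜) (i : ℕ) :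
    ∀ (w : M →ₗ[R] N) (hw : IsGrHom ℳ 𝒩 w), w = ∑ k ∈ s, u k →
      Hm 𝒜 w hw a i = ∑ k ∈ s, Hm 𝒜 (u k) (hu k) a i := by
  classical
  induction s using Finset.induction_on with
  | empty =>
    intro w hw h
    rw [Finset.sum_empty] at h
    subst h
    rw [Finset.sum_empty, Hm_zero]
  | insert k s hk ih =>
    intro w hw h
    rw [Finset.sum_insert hk] at h
    subst h
    rw [Finset.sum_insert hk, Hm_add 𝒜 (u k) (∑ j ∈ s, u j) (hu k) (isGrHom_sum s u hu) hw a i,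
      ih _ (isGrHom_sum s u hu) rfl]

end functor

/-! ### comparison with an arbitrary resolution -/
section cmp

variable {M : Type u} [AddCommGroup M] [Module R M] {ℳ : ι → AddSubgroup M} [Decomposition ℳ]
  [SetLike.GradedSMul 𝒜 ℳ]

theorem exists_cmp (E : StarInjRes 𝒜 ℳ) (a : HomogeneousIdeal 𝒜) (i : ℕ) :
    ∃ e : E.H a i ≃ₗ[R] HH 𝒜 ℳ a i, IsGrHom (E.Hgr a i) (HHgr 𝒜 ℳ a i) e.toLinearMap ∧
      IsGrHom (HHgr 𝒜 ℳ a i) (E.Hgr a i) e.symm.toLinearMap := by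
  obtain ⟨c, hc⟩ := exists_lift E (sRes 𝒜 ℳ) LinearMap.id (fun _ _ h => h)
  obtain ⟨c', hc'⟩ := exists_lift (sRes 𝒜 ℳ) E LinearMap.id (fun _ _ h => h)
  have h1 := H_comp_eq_id E (sRes 𝒜 ℳ) c c' hc hc' a i
  have h2 := H_comp_eq_id (sRes 𝒜 ℳ) E c' c hc' hc a i
  exact ⟨LinearEquiv.ofLinear (c.H a i) (c'.H a i) h2 h1, c.H_gr a i, c'.H_gr a i⟩

theorem Hcomp_eq_bot_iff (E : StarInjRes 𝒜 ℳ) (a : HomogeneousIdeal 𝒜) (i : ℕ) (n : ι) :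
    E.Hcomp a i n = ⊥ ↔ Van 𝒜 ℳ a i n := by
  obtain ⟨e, he, he'⟩ := exists_cmp 𝒜 E a i
  rw [Submodule.eq_bot_iff]
  constructor
  · intro h y hy
    have h1 : e.symm y = 0 := h _ (he' n y hy)
    have h2 := congrArg e h1
    rwa [LinearEquiv.apply_symm_apply, map_zero] at h2
  · intro h y hy
    have h1 : e y = 0 := h _ (he n y hy)
    have h2 := congrArg e.symm h1
    rwa [LinearEquiv.symm_apply_apply, map_zero] at h2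

end cmp

/-! ### the long exact sequence on pieces -/
section les

variable {M' : Type u} [AddCommGroup M'] [Module R M'] {ℳ' : ι → AddSubgroup M'}
  [Decomposition ℳ'] [SetLike.GradedSMul 𝒜 ℳ']
variable {M : Type u} [AddCommGroup M] [Module R M] {ℳ : ι → AddSubgroup M} [Decomposition ℳ]
  [SetLike.GradedSMul 𝒜 ℳ]
variable {M'' : Type u} [AddCommGroup M''] [Module R M''] {ℳ'' : ι → AddSubgroup M''}
  [Decomposition ℳ''] [SetLike.GradedSMul 𝒜 ℳ'']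

theorem les_std (S : SES R ℳ' ℳ ℳ'') (a : HomogeneousIdeal 𝒜) :
    Function.Injective (Hm 𝒜 S.u S.hu a 0) ∧
      ∀ i : ℕ, LinearMap.ker (Hm 𝒜 S.p S.hp a i) = LinearMap.range (Hm 𝒜 S.u S.hu a i) ∧
        ∃ δ : HH 𝒜 ℳ'' a i →ₗ[R] HH 𝒜 ℳ' a (i + 1),
          IsGrHom (HHgr 𝒜 ℳ'' a i) (HHgr 𝒜 ℳ' a (i + 1)) δ ∧
          LinearMap.ker δ = LinearMap.range (Hm 𝒜 S.p S.hp a i) ∧
          LinearMap.ker (Hm 𝒜 S.u S.hu a (i + 1)) = LinearMap.range δ :=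
  les S (sRes 𝒜 ℳ') (sRes 𝒜 ℳ) (sRes 𝒜 ℳ'') (sLift 𝒜 S.u S.hu) (sLift_spec 𝒜 S.u S.hu)
    (sLift 𝒜 S.p S.hp) (sLift_spec 𝒜 S.p S.hp) a

variable (S : SES R ℳ' ℳ ℳ'') (a : HomogeneousIdeal 𝒜)

include S

theorem van_mid (i : ℕ) (n : ι) (h' : Van 𝒜 ℳ' a i n) (h'' : Van 𝒜 ℳ'' a i n) :
    Van 𝒜 ℳ a i n := by
  intro y hy
  obtain ⟨hmid, -⟩ := (les_std 𝒜 S a).2 i
  letI := HDecomp 𝒜 ℳ' a (sRes 𝒜 ℳ') i
  letI := HDecomp 𝒜 ℳ a (sRes 𝒜 ℳ) i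
  have h1 : Hm 𝒜 S.p S.hp a i y = 0 := h'' _ (Hm_gr 𝒜 S.p S.hp a i n y hy)
  obtain ⟨x, hx, rfl⟩ := piece_exact (HHgr 𝒜 ℳ' a i) (HHgr 𝒜 ℳ a i) (Hm 𝒜 S.u S.hu a i)
    (Hm 𝒜 S.p S.hp a i) (Hm_gr 𝒜 S.u S.hu a i) hmid hy h1
  rw [h' x hx, map_zero]

theorem van_right (i : ℕ) (n : ι) (h : Van 𝒜 ℳ a i n) (h' : Van 𝒜 ℳ' a (i + 1) n) :
    Van 𝒜 ℳ'' a i n := by
  intro w hw
  obtain ⟨-, δ, hδgr, hright, -⟩ := (les_std 𝒜 S a).2 i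
  letI := HDecomp 𝒜 ℳ a (sRes 𝒜 ℳ) i
  letI := HDecomp 𝒜 ℳ'' a (sRes 𝒜 ℳ'') i
  have h1 : δ w = 0 := h' _ (hδgr n w hw)
  obtain ⟨y, hy, rfl⟩ := piece_exact (HHgr 𝒜 ℳ a i) (HHgr 𝒜 ℳ'' a i) (Hm 𝒜 S.p S.hp a i) δ
    (Hm_gr 𝒜 S.p S.hp a i) hright hw h1
  rw [h y hy, map_zero]

theorem surj_right (i : ℕ) (n : ι) (h' : Van 𝒜 ℳ' a (i + 1) n) (w : HH 𝒜 ℳ'' a i)
    (hw : w ∈ HHgr 𝒜 ℳ'' a i n) : ∃ y ∈ HHgr 𝒜 ℳ a i n, Hm 𝒜 S.p S.hp a i y = w := by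
  obtain ⟨-, δ, hδgr, hright, -⟩ := (les_std 𝒜 S a).2 i
  letI := HDecomp 𝒜 ℳ a (sRes 𝒜 ℳ) i
  letI := HDecomp 𝒜 ℳ'' a (sRes 𝒜 ℳ'') i
  have h1 : δ w = 0 := h' _ (hδgr n w hw)
  exact piece_exact (HHgr 𝒜 ℳ a i) (HHgr 𝒜 ℳ'' a i) (Hm 𝒜 S.p S.hp a i) δ
    (Hm_gr 𝒜 S.p S.hp a i) hright hw h1

theorem van_left' (i : ℕ) (n : ι) (h'' : Van 𝒜 ℳ'' a i n)
    (hu : ∀ y ∈ HHgr 𝒜 ℳ' a (i + 1) n, Hm 𝒜 S.u S.hu a (i + 1) y = 0) :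
    Van 𝒜 ℳ' a (i + 1) n := by
  intro y hy
  obtain ⟨-, δ, hδgr, -, hleft⟩ := (les_std 𝒜 S a).2 i
  letI := HDecomp 𝒜 ℳ'' a (sRes 𝒜 ℳ'') i
  letI := HDecomp 𝒜 ℳ' a (sRes 𝒜 ℳ') (i + 1)
  obtain ⟨w, hw, rfl⟩ := piece_exact (HHgr 𝒜 ℳ'' a i) (HHgr 𝒜 ℳ' a (i + 1)) δ
    (Hm 𝒜 S.u S.hu a (i + 1)) hδgr hleft hy (hu y hy)
  rw [h'' w hw, map_zero]

theorem van_left (i : ℕ) (n : ι) (h'' : Van 𝒜 ℳ'' a i n) (h : Van 𝒜 ℳ a (i + 1) n) :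
    Van 𝒜 ℳ' a (i + 1) n :=
  van_left' 𝒜 S a i n h'' (fun y hy => h _ (Hm_gr 𝒜 S.u S.hu a (i + 1) n y hy))

theorem van_left_zero (n : ι) (h : Van 𝒜 ℳ a 0 n) : Van 𝒜 ℳ' a 0 n := by
  intro y hy
  have h1 : Hm 𝒜 S.u S.hu a 0 y = 0 := h _ (Hm_gr 𝒜 S.u S.hu a 0 n y hy)
  exact (les_std 𝒜 S a).1 (by rw [h1, map_zero])

theorem inj_mid (i : ℕ) (n : ι) (hu : ∀ η ∈ HHgr 𝒜 ℳ' a i n, Hm 𝒜 S.u S.hu a i η = 0)
    (ξ : HH 𝒜 ℳ a i) (hξ : ξ ∈ HHgr 𝒜 ℳ a i n) (h0 : Hm 𝒜 S.p S.hp a i ξ = 0) : ξ = 0 := by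
  obtain ⟨hmid, -⟩ := (les_std 𝒜 S a).2 i
  letI := HDecomp 𝒜 ℳ' a (sRes 𝒜 ℳ') i
  letI := HDecomp 𝒜 ℳ a (sRes 𝒜 ℳ) i
  obtain ⟨x, hx, rfl⟩ := piece_exact (HHgr 𝒜 ℳ' a i) (HHgr 𝒜 ℳ a i) (Hm 𝒜 S.u S.hu a i)
    (Hm 𝒜 S.p S.hp a i) (Hm_gr 𝒜 S.u S.hu a i) hmid hξ h0
  exact hu x hx

end les

/-! ### shifts -/
section shift

attribute [local instance] shiftDecomp shift_gsmul

variable {M : Type u} [AddCommGroup M] [Module R M] (ℳ : ι → AddSubgroup M) [Decomposition ℳ]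
  [SetLike.GradedSMul 𝒜 ℳ]

theorem van_shift (a : HomogeneousIdeal 𝒜) (i : ℕ) (s n : ι) :
    Van 𝒜 (shiftGr ℳ s) a i n ↔ Van 𝒜 ℳ a i (s + n) := by
  rw [← Hcomp_eq_bot_iff 𝒜 (shiftRes 𝒜 (sRes 𝒜 ℳ) s) a i n, Submodule.eq_bot_iff]
  exact Iff.rfl

end shift

/-! ### graded free modules -/
section free

attribute [local instance] shiftDecomp shift_gsmul freeDecomp free_gsmul

variable {κ : Type} [Fintype κ] [DecidableEq κ] (dg : κ → ι)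

/-- inclusion of a coordinate -/
def inc (b : κ) : R →ₗ[R] (κ → R) := LinearMap.single R (fun _ => R) b

/-- projection to a coordinate -/
def prj (b : κ) : (κ → R) →ₗ[R] R := LinearMap.proj b

omit [DecidableEq ι] [GradedRing 𝒜] [Fintype κ] in
theorem inc_gr (b : κ) : IsGrHom (shiftGr 𝒜 (-dg b)) (freeGr 𝒜 dg) (inc b) := by
  intro g r hr
  have h1 : r ∈ 𝒜 (-dg b + g) := hr
  have h2 := single_mem_freeGr 𝒜 dg b h1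
  have h3 : -dg b + g + dg b = g := by abel
  rw [h3] at h2
  exact h2

omit [DecidableEq ι] [GradedRing 𝒜] [Fintype κ] [DecidableEq κ] in
theorem prj_gr (b : κ) : IsGrHom (freeGr 𝒜 dg) (shiftGr 𝒜 (-dg b)) (prj b) := by
  intro g f hf
  have h1 : f b ∈ 𝒜 (g - dg b) := hf b
  have h3 : g - dg b = -dg b + g := by abel
  rw [h3] at h1
  exact h1

omit [DecidableEq ι] [GradedRing 𝒜] in
theorem sum_inc_prj : (LinearMap.id : (κ → R) →ₗ[R] (κ → R)) = ∑ b : κ, inc b ∘ₗ prj b := by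
  apply LinearMap.ext
  intro f
  rw [LinearMap.sum_apply, LinearMap.id_apply]
  exact (Finset.univ_sum_single f).symm

omit [DecidableEq ι] [GradedRing 𝒜] [Fintype κ] in
theorem prj_inc (b : κ) : prj b ∘ₗ inc b = (LinearMap.id : R →ₗ[R] R) := by
  apply LinearMap.ext
  intro r
  show (Pi.single b r : κ → R) b = r
  rw [Pi.single_eq_same]

variable (a : HomogeneousIdeal 𝒜) (i : ℕ)

theorem free_decomp (ζ : HH 𝒜 (freeGr 𝒜 dg) a i) :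
    ζ = ∑ b : κ, Hm 𝒜 (inc b) (inc_gr 𝒜 dg b) a i (Hm 𝒜 (prj b) (prj_gr 𝒜 dg b) a i ζ) := by
  have h1 := Hm_sum 𝒜 Finset.univ (fun b : κ => inc b ∘ₗ prj b)
    (fun b => isGrHom_comp _ _ _ (inc_gr 𝒜 dg b) (prj_gr 𝒜 dg b)) a i LinearMap.id
    (fun _ _ h => h) sum_inc_prj
  rw [Hm_id] at h1
  have h2 := congrArg (fun f => f ζ) h1
  simp only [LinearMap.id_apply, LinearMap.sum_apply] at h2
  refine h2.trans (Finset.sum_congr rfl (fun b _ => ?_))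
  exact Hm_comp_apply 𝒜 (prj b) (prj_gr 𝒜 dg b) (inc b) (inc_gr 𝒜 dg b) _ a i ζ

theorem van_free (n : ι) (h : ∀ b, Van 𝒜 𝒜 a i (-dg b + n)) : Van 𝒜 (freeGr 𝒜 dg) a i n := by
  intro ζ hζ
  rw [free_decomp 𝒜 dg a i ζ]
  refine Finset.sum_eq_zero (fun b _ => ?_)
  have h1 : Hm 𝒜 (prj b) (prj_gr 𝒜 dg b) a i ζ = 0 :=
    (van_shift 𝒜 𝒜 a i (-dg b) n).2 (h b) _ (Hm_gr 𝒜 (prj b) (prj_gr 𝒜 dg b) a i n ζ hζ)
  rw [h1, map_zero]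

theorem not_van_free (n : ι) (b₀ : κ) (h : ¬ Van 𝒜 𝒜 a i (-dg b₀ + n)) :
    ¬ Van 𝒜 (freeGr 𝒜 dg) a i n := by
  intro hv
  apply h
  rw [← van_shift 𝒜 𝒜 a i (-dg b₀) n]
  intro w hw
  have h1 : Hm 𝒜 (inc b₀) (inc_gr 𝒜 dg b₀) a i w = 0 :=
    hv _ (Hm_gr 𝒜 (inc b₀) (inc_gr 𝒜 dg b₀) a i n w hw)
  have h2 := Hm_comp_apply 𝒜 (inc b₀) (inc_gr 𝒜 dg b₀) (prj b₀) (prj_gr 𝒜 dg b₀)
    (isGrHom_comp _ _ _ (prj_gr 𝒜 dg b₀) (inc_gr 𝒜 dg b₀)) a i w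
  rw [h1, map_zero, Hm_congr 𝒜 (prj_inc b₀) _ (fun _ _ h => h) a i, Hm_id] at h2
  exact h2

/-! matrices -/

variable {κ' : Type} [Fintype κ'] [DecidableEq κ'] (dg' : κ' → ι)

/-- multiplication by an element of `R` on `R` -/
def mulE (x : R) : R →ₗ[R] R := LinearMap.lsmul R R x

theorem mulE_gr {x : R} {t : ι} (hx : x ∈ 𝒜 t) (s s' : ι) (h : t + s' = s) :
    IsGrHom (shiftGr 𝒜 s') (shiftGr 𝒜 s) (mulE x) := by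
  intro g r hr
  have h1 : r ∈ 𝒜 (s' + g) := hr
  have h2 : x * r ∈ 𝒜 (t + (s' + g)) := SetLike.mul_mem_graded hx h1
  have h3 : t + (s' + g) = s + g := by rw [← h]; abel
  rw [h3] at h2
  exact h2

omit [DecidableEq ι] [GradedRing 𝒜] in
theorem mulVecLin_eq_sum (D : Matrix κ' κ R) :
    Matrix.mulVecLin D = ∑ c : κ', ∑ b : κ, inc c ∘ₗ mulE (D c b) ∘ₗ prj b := by
  apply LinearMap.ext
  intro v
  funext c₀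
  rw [LinearMap.sum_apply, Finset.sum_apply]
  simp only [LinearMap.sum_apply, Finset.sum_apply]
  rw [Matrix.mulVecLin_apply, Matrix.mulVec, dotProduct]
  rw [Finset.sum_eq_single c₀]
  · refine Finset.sum_congr rfl (fun b _ => ?_)
    show D c₀ b * v b = (Pi.single c₀ (D c₀ b * v b) : κ' → R) c₀
    rw [Pi.single_eq_same]
  · intro c _ hc
    refine Finset.sum_eq_zero (fun b _ => ?_)
    show (Pi.single c (D c b * v b) : κ' → R) c₀ = 0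
    rw [Pi.single_eq_of_ne (Ne.symm hc)]
  · intro h
    exact absurd (Finset.mem_univ _) h

theorem mulVecLin_gr (D : Matrix κ' κ R) (hD : ∀ c b, D c b ∈ 𝒜 (dg b - dg' c)) :
    IsGrHom (freeGr 𝒜 dg) (freeGr 𝒜 dg') (Matrix.mulVecLin D) := by
  intro g v hv c
  rw [Matrix.mulVecLin_apply, Matrix.mulVec, dotProduct]
  refine sum_mem (fun b _ => ?_)
  have h1 := SetLike.mul_mem_graded (hD c b) (hv b)
  have h2 : dg b - dg' c + (g - dg b) = g - dg' c := by abel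
  rw [h2] at h1
  exact h1

theorem comp_gr (D : Matrix κ' κ R) (hD : ∀ c b, D c b ∈ 𝒜 (dg b - dg' c)) (c : κ') (b : κ) :
    IsGrHom (freeGr 𝒜 dg) (freeGr 𝒜 dg') (inc c ∘ₗ mulE (D c b) ∘ₗ prj b) :=
  isGrHom_comp _ _ _ (inc_gr 𝒜 dg' c) (isGrHom_comp _ _ _
    (mulE_gr 𝒜 (hD c b) (-dg' c) (-dg b) (by abel)) (prj_gr 𝒜 dg b))

/-- vanishing of the map induced by a matrix on a piece -/
theorem Hm_matrix_eq_zero (D : Matrix κ' κ R) (hD : ∀ c b, D c b ∈ 𝒜 (dg b - dg' c)) (n : ι)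
    (hcase : ∀ c b, D c b = 0 ∨ Van 𝒜 𝒜 a i (-dg b + n) ∨ Van 𝒜 𝒜 a i (-dg' c + n))
    (ζ : HH 𝒜 (freeGr 𝒜 dg) a i) (hζ : ζ ∈ HHgr 𝒜 (freeGr 𝒜 dg) a i n) :
    Hm 𝒜 (Matrix.mulVecLin D) (mulVecLin_gr 𝒜 dg dg' D hD) a i ζ = 0 := by
  have h1 := Hm_sum 𝒜 (Finset.univ ×ˢ Finset.univ)
    (fun p : κ' × κ => inc p.1 ∘ₗ mulE (D p.1 p.2) ∘ₗ prj p.2)
    (fun p => comp_gr 𝒜 dg dg' D hD p.1 p.2) a i (Matrix.mulVecLin D)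
    (mulVecLin_gr 𝒜 dg dg' D hD) (by rw [mulVecLin_eq_sum, Finset.sum_product])
  rw [h1, LinearMap.sum_apply]
  refine Finset.sum_eq_zero (fun p _ => ?_)
  obtain ⟨c, b⟩ := p
  have hgr1 := prj_gr 𝒜 dg b
  have hgr2 : IsGrHom (shiftGr 𝒜 (-dg b)) (shiftGr 𝒜 (-dg' c)) (mulE (D c b)) :=
    mulE_gr 𝒜 (hD c b) (-dg' c) (-dg b) (by abel)
  have hgr3 := inc_gr 𝒜 dg' c
  have hgr12 : IsGrHom (freeGr 𝒜 dg) (shiftGr 𝒜 (-dg' c)) (mulE (D c b) ∘ₗ prj b) :=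
    isGrHom_comp _ _ _ hgr2 hgr1
  show Hm 𝒜 (inc c ∘ₗ mulE (D c b) ∘ₗ prj b) _ a i ζ = 0
  have e1 : Hm 𝒜 (inc c ∘ₗ mulE (D c b) ∘ₗ prj b) (comp_gr 𝒜 dg dg' D hD c b) a i ζ =
      Hm 𝒜 (inc c) hgr3 a i (Hm 𝒜 (mulE (D c b)) hgr2 a i (Hm 𝒜 (prj b) hgr1 a i ζ)) := by
    have := Hm_comp_apply 𝒜 (mulE (D c b) ∘ₗ prj b) hgr12 (inc c) hgr3
      (comp_gr 𝒜 dg dg' D hD c b) a i ζ
    rw [this, Hm_comp_apply 𝒜 (prj b) hgr1 (mulE (D c b)) hgr2 hgr12 a i]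
  rw [e1]
  have hw : Hm 𝒜 (prj b) hgr1 a i ζ ∈ HHgr 𝒜 (shiftGr 𝒜 (-dg b)) a i n :=
    Hm_gr 𝒜 (prj b) hgr1 a i n ζ hζ
  rcases hcase c b with h0 | hsrc | htgt
  · have hz : mulE (D c b) = 0 := by
      rw [h0]
      apply LinearMap.ext
      intro r
      show (0 : R) • r = 0
      rw [zero_smul]
    rw [Hm_congr 𝒜 hz hgr2 (isGrHom_zero) a i, Hm_zero, LinearMap.zero_apply, map_zero]
  · rw [(van_shift 𝒜 𝒜 a i (-dg b) n).2 hsrc _ hw, map_zero, map_zero]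
  · rw [(van_shift 𝒜 𝒜 a i (-dg' c) n).2 htgt _ (Hm_gr 𝒜 (mulE (D c b)) hgr2 a i n _ hw), map_zero]

end free

attribute [irreducible] sRes sLift Hm

end Groth.Agent.Lib.GrEG1H1
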