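import Mathlib
import Groth.Prelude.Def_GrLC
import Groth.Prelude.Def_GrSyz
import Groth.Prelude.Def_Wider
import Groth.Agent.Lib.GrEG1_helper1
import Groth.Agent.Lib.GrConv_helper1
import Groth.Agent.Lib.GrLES4_helper1
import Groth.Agent.Lib.GrSyz_helper1

/-! Graded local cohomology of the polynomial ring with respect to the irrelevant ideal
(helper1). -/

set_option autoImplicit false

namespace Groth.Agent.Lib.GrEG2H1

open DirectSum GrLC Groth.Agent.Lib.GrStarH1 Groth.Agent.Lib.GrStar2H1 Groth.Agent.Lib.GrStar3H1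
  Groth.Agent.Lib.GrLES1H1 Groth.Agent.Lib.GrLES2H1 Groth.Agent.Lib.GrLES3H1
  Groth.Agent.Lib.GrHDecH1 Groth.Agent.Lib.GrEG1H1 Groth.Agent.Lib.GrLES4H1
  Groth.Agent.Lib.GrSyz2H1 Groth.Agent.Lib.GrConvH1 Groth.Agent.Lib.GrSyzH1

universe u

/-! ### general facts -/
section general

variable {R : Type u} [CommRing R] [IsNoetherianRing R] (𝒜 : ℤ → AddSubgroup R) [GradedRing 𝒜]
  (a : HomogeneousIdeal 𝒜)
variable {M : Type u} [AddCommGroup M] [Module R M] (ℳ : ℤ → AddSubgroup M) [Decomposition ℳ]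
  [SetLike.GradedSMul 𝒜 ℳ]
variable {N : Type u} [AddCommGroup N] [Module R N] (𝒩 : ℤ → AddSubgroup N) [Decomposition 𝒩]
  [SetLike.GradedSMul 𝒜 𝒩]

theorem van_of_cd (s : Finset R) (hs : a.toIdeal = Ideal.span (s : Set R)) (i : ℕ)
    (hi : s.card < i) (n : ℤ) : Van 𝒜 ℳ a i n := by
  intro y _
  obtain ⟨e⟩ := GrStarLCH1.main13224 R 𝒜 a M ℳ (sRes 𝒜 ℳ) i
  have hcd : LocCoh.CdLE R a.toIdeal s.card := by
    rw [hs]
    exact Groth.Agent.Lib.LocCohAraH7.cdLE_span s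
  haveI := hcd M i hi
  haveI : Subsingleton (HH 𝒜 ℳ a i) := e.toEquiv.subsingleton
  exact Subsingleton.elim y 0

theorem van_of_torsion (htors : ∀ m : M, ∃ n : ℕ, ∀ r ∈ a.toIdeal ^ n, r • m = 0) (i : ℕ)
    (n : ℤ) : Van 𝒜 ℳ a (i + 1) n := by
  intro y _
  obtain ⟨e⟩ := GrStarLCH1.main13224 R 𝒜 a M ℳ (sRes 𝒜 ℳ) (i + 1)
  have ht : LocCoh.IsPowerTorsion a.toIdeal M := htors
  haveI := Groth.Agent.Lib.LocCohTorsVanishH7.H_subsingleton a.toIdeal M ht i
  haveI : Subsingleton (HH 𝒜 ℳ a (i + 1)) := e.toEquiv.subsingleton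
  exact Subsingleton.elim y 0

/-- `H^i_a(M)_n = 0` unless `i = s` and `n ≤ -s`, and `H^s_a(M)_{-s} ≠ 0` -/
def CC (s : ℕ) : Prop :=
  (∀ (i : ℕ) (n : ℤ), (i ≠ s ∨ -(s : ℤ) < n) → Van 𝒜 ℳ a i n) ∧ ¬ Van 𝒜 ℳ a s (-(s : ℤ))

theorem CC_base (htors : ∀ m : M, ∃ n : ℕ, ∀ r ∈ a.toIdeal ^ n, r • m = 0)
    (hpos : ∀ n : ℤ, 0 < n → ℳ n = ⊥) (t : M) (ht : t ∈ ℳ 0) (ht0 : t ≠ 0) : CC 𝒜 a ℳ 0 := by
  refine ⟨fun i n hc => ?_, ?_⟩
  · cases i with
    | zero =>
      have hn : 0 < n := by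
        rcases hc with h | h
        · exact absurd rfl h
        · simpa using h
      intro y hy
      have h1 : Psi0 (sRes 𝒜 ℳ) a y ∈ ℳ n := Psi0_mem_gr (sRes 𝒜 ℳ) a n y hy
      rw [hpos n hn, AddSubgroup.mem_bot] at h1
      exact Psi0_injective (sRes 𝒜 ℳ) a (by rw [h1, map_zero])
    | succ i => exact van_of_torsion 𝒜 a ℳ htors i n
  · intro hv
    apply ht0
    set E := sRes 𝒜 ℳ with hE
    have hz : E.ε t ∈ E.cocyc a 0 := by
      refine ⟨?_, ?_⟩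
      · obtain ⟨n, hn⟩ := htors t
        exact map_mem_gam E.ε ⟨n, hn⟩
      · exact d_ε E t
    have h1 : E.toH a 0 ⟨E.ε t, hz⟩ ∈ E.Hgr a 0 (-((0 : ℕ) : ℤ)) := by
      refine ⟨⟨E.ε t, hz⟩, ?_, rfl⟩
      have := E.ε_grHom 0 t ht
      simpa using this
    have h2 := hv _ h1
    rw [toH_eq_zero_iff] at h2
    have h3 : E.ε t = 0 := (mem_cobdy_zero a E _).1 h2
    exact E.ε_injective (by rw [h3, map_zero])

theorem CC_step {x : R} (hx : x ∈ 𝒜 1) (hxa : x ∈ a.toIdeal) (hreg : IsSMulRegular M x)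
    (π : M →ₗ[R] N) (hπg : IsGrHom ℳ 𝒩 π) (hπs : Function.Surjective π)
    (hker : LinearMap.ker π = LinearMap.range (LinearMap.lsmul R M x)) (s : ℕ)
    (hN : CC 𝒜 a 𝒩 s) : CC 𝒜 a ℳ (s + 1) := by
  obtain ⟨ψ, hψ⟩ := mul_les 𝒜 hx hreg π hπg hπs hker (sRes 𝒜 ℳ) (sRes 𝒜 𝒩) a
  have hinj : ∀ (i : ℕ) (m : ℤ), (i ≠ s + 1 ∨ -((s : ℤ) + 1) < m) →
      ∀ y ∈ HHgr 𝒜 ℳ a i m, x • y = 0 → y = 0 := by
    intro i m hc y hy hxy
    cases i with
    | zero =>
      apply Psi0_injective (sRes 𝒜 ℳ) a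
      rw [map_zero]
      have h1 : x • Psi0 (sRes 𝒜 ℳ) a y = x • (0 : M) := by
        rw [← map_smul, hxy, map_zero, smul_zero]
      exact hreg h1
    | succ i' =>
      obtain ⟨-, δ, -, -, h3⟩ := hψ i'
      have hy' : y ∈ (sRes 𝒜 ℳ).Hgr a (i' + 1) (-1 + (m + 1)) :=
        mem_congr ((sRes 𝒜 ℳ).Hgr a (i' + 1)) (by ring) hy
      obtain ⟨w, hw, rfl⟩ := h3 (m + 1) y hy' hxy
      have hw0 : w = 0 := hN.1 i' (m + 1) (by
        rcases hc with h | h
        · left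
          intro h'
          apply h
          rw [h']
        · right
          omega) w hw
      rw [hw0, map_zero]
  have hvan : ∀ (k : ℕ) (i : ℕ) (m : ℤ), (i ≠ s + 1 ∨ -((s : ℤ) + 1) < m) →
      ∀ y ∈ HHgr 𝒜 ℳ a i m, x ^ k • y = 0 → y = 0 := by
    intro k
    induction k with
    | zero =>
      intro i m _ y _ h
      rwa [pow_zero, one_smul] at h
    | succ k ih =>
      intro i m hc y hy h
      letI := HDecomp 𝒜 ℳ a (sRes 𝒜 ℳ) i
      haveI := HGSMul 𝒜 ℳ a (sRes 𝒜 ℳ) i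
      have hxy : x • y ∈ HHgr 𝒜 ℳ a i (1 + m) := smul_mem_gr 𝒜 (HHgr 𝒜 ℳ a i) hx hy
      have h1 : x • y = 0 := ih i (1 + m) (by
        rcases hc with h' | h'
        · exact Or.inl h'
        · right
          omega) _ hxy (by
        rw [smul_smul, ← pow_succ]
        exact h)
      exact hinj i m hc y hy h1
  have hall : ∀ (i : ℕ) (m : ℤ), (i ≠ s + 1 ∨ -((s : ℤ) + 1) < m) → Van 𝒜 ℳ a i m := by
    intro i m hc y hy
    obtain ⟨k, hk⟩ := H_torsion (sRes 𝒜 ℳ) a i y hxa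
    exact hvan k i m hc y hy hk
  refine ⟨fun i m hc => hall i m (by push_cast at hc; exact hc), ?_⟩
  intro hv
  apply hN.2
  intro w hw
  obtain ⟨-, δ, h1, h2, -⟩ := hψ s
  have hδw : δ w ∈ (sRes 𝒜 ℳ).Hgr a (s + 1) (-1 + -(s : ℤ)) := h1 _ w hw
  have hδ0 : δ w = 0 :=
    hv _ (mem_congr ((sRes 𝒜 ℳ).Hgr a (s + 1)) (by push_cast; ring) hδw)
  obtain ⟨y, hy, rfl⟩ := h2 _ w hw hδ0
  have hy0 : y = 0 := hall s (-(s : ℤ)) (Or.inl (by omega)) y hy
  rw [hy0, map_zero]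

end general

/-! ### the polynomial ring -/
section poly

open MvPolynomial

variable (k : Type u) [Field k] (r : ℕ)

local notation "S" => MvPolynomial (Fin (r + 1)) k
local notation "𝒮" => toAG (GrSyz.stdGr k (Fin (r + 1)))

attribute [local instance] convGradedRing

/-- the irrelevant ideal -/
noncomputable def mm : HomogeneousIdeal 𝒮 :=
  convIdeal (GrSyz.stdGr k (Fin (r + 1))) (GrSyz.irrel (GrSyz.stdGr k (Fin (r + 1))))

theorem mm_toIdeal : (mm k r).toIdeal = irr k (Fin (r + 1)) := rfl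

theorem X_mem_one (i : Fin (r + 1)) : (X i : S) ∈ 𝒮 1 :=
  isWeightedHomogeneous_X k (fun _ : Fin (r + 1) => (1 : ℤ)) i

theorem irr_eq_span_X : irr k (Fin (r + 1)) = Ideal.span (Set.range (X : Fin (r + 1) → S)) := by
  apply le_antisymm
  · rw [irr_eq, Ideal.span_le]
    intro p hp
    simp only [Set.mem_iUnion, Set.mem_Ioi, SetLike.mem_coe, exists_prop] at hp
    obtain ⟨n, hn, hp⟩ := hp
    rw [SetLike.mem_coe, ← Set.image_univ, mem_ideal_span_X_image]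
    intro m hm
    have hw : Finsupp.weight (fun _ : Fin (r + 1) => (1 : ℤ)) m = n := hp (mem_support_iff.1 hm)
    by_contra hcon
    push_neg at hcon
    have hm0 : m = 0 := by
      ext i
      exact hcon i (Set.mem_univ i)
    rw [hm0, map_zero] at hw
    omega
  · rw [Ideal.span_le]
    rintro _ ⟨i, rfl⟩
    exact mem_irr_of_pos (X_mem_one k r i) one_pos

theorem hposS (n : ℤ) (hn : n < 0) : 𝒮 n = ⊥ := by
  rw [eq_bot_iff]
  intro p hp
  have h1 : p ∈ GrSyz.stdGr k (Fin (r + 1)) n := hp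
  rw [stdGr_neg k (Fin (r + 1)) hn, Submodule.mem_bot] at h1
  exact (AddSubgroup.mem_bot).2 h1

theorem ha_mm : (mm k r).toIdeal = Ideal.span (⋃ n ∈ Set.Ioi (0 : ℤ), (𝒮 n : Set S)) :=
  irr_eq k (Fin (r + 1))

/-- vanishing above the number of variables -/
theorem van_cd {M : Type u} [AddCommGroup M] [Module S M] (ℳ : ℤ → AddSubgroup M)
    [Decomposition ℳ] [SetLike.GradedSMul 𝒮 ℳ] (i : ℕ) (hi : r + 1 < i) (n : ℤ) :
    Van 𝒮 ℳ (mm k r) i n := by
  classical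
  apply van_of_cd 𝒮 (mm k r) ℳ (Finset.univ.image (X : Fin (r + 1) → S))
  · rw [mm_toIdeal, irr_eq_span_X, Finset.coe_image, Finset.coe_univ, Set.image_univ]
  · refine lt_of_le_of_lt Finset.card_image_le ?_
    rw [Finset.card_univ, Fintype.card_fin]
    exact hi

/-- the ideal generated by the variables of index at least `j` -/
noncomputable def II (j : ℕ) : Ideal S :=
  Ideal.span (X '' {i : Fin (r + 1) | j ≤ i.val})

theorem II_homog (j : ℕ) : (II k r j).IsHomogeneous 𝒮 := by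
  apply Ideal.homogeneous_span
  rintro _ ⟨i, _, rfl⟩
  exact ⟨1, X_mem_one k r i⟩

theorem II_zero : II k r 0 = irr k (Fin (r + 1)) := by
  rw [irr_eq_span_X, ← Set.image_univ]
  unfold II
  congr 2
  ext i
  simp

theorem II_last : II k r (r + 1) = ⊥ := by
  unfold II
  have : {i : Fin (r + 1) | r + 1 ≤ i.val} = ∅ := by
    ext i
    simp only [Set.mem_setOf_eq, Set.mem_empty_iff_false, iff_false, not_le]
    exact i.2
  rw [this, Set.image_empty, Ideal.span_empty]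

theorem II_succ (j : ℕ) (hj : j < r + 1) :
    II k r j = II k r (j + 1) ⊔ Ideal.span {(X ⟨j, hj⟩ : S)} := by
  unfold II
  rw [← Ideal.span_union]
  congr 1
  ext p
  simp only [Set.mem_image, Set.mem_setOf_eq, Set.union_singleton, Set.mem_insert_iff]
  constructor
  · rintro ⟨i, hi, rfl⟩
    rcases Nat.eq_or_lt_of_le hi with h | h
    · left
      congr 1
      exact Fin.ext h.symm
    · right
      exact ⟨i, h, rfl⟩
  · rintro (h | ⟨i, hi, rfl⟩)
    · exact ⟨⟨j, hj⟩, (le_refl j : j ≤ (⟨j, hj⟩ : Fin (r + 1)).val), h.symm⟩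
    · exact ⟨i, by omega, rfl⟩

theorem X_mem_II (j : ℕ) (hj : j < r + 1) : (X ⟨j, hj⟩ : S) ∈ II k r j :=
  Ideal.subset_span ⟨⟨j, hj⟩, (le_refl j : j ≤ (⟨j, hj⟩ : Fin (r + 1)).val), rfl⟩

theorem II_mono (j : ℕ) : II k r (j + 1) ≤ II k r j := by
  unfold II
  apply Ideal.span_mono
  rintro _ ⟨i, hi, rfl⟩
  exact ⟨i, by simp only [Set.mem_setOf_eq] at hi ⊢; omega, rfl⟩

theorem X_reg (j : ℕ) (hj : j < r + 1) (q : S)
    (h : (X (⟨j, hj⟩ : Fin (r + 1)) : S) * q ∈ II k r (j + 1)) :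
    q ∈ II k r (j + 1) := by
  classical
  unfold II at h ⊢
  rw [mem_ideal_span_X_image] at h ⊢
  intro m hm
  have hm' : Finsupp.single (⟨j, hj⟩ : Fin (r + 1)) 1 + m ∈
      ((X (⟨j, hj⟩ : Fin (r + 1)) : S) * q).support := by
    rw [support_X_mul]
    exact Finset.mem_map.2 ⟨m, hm, rfl⟩
  obtain ⟨i, hi, hne⟩ := h _ hm'
  refine ⟨i, hi, ?_⟩
  have hij : (⟨j, hj⟩ : Fin (r + 1)) ≠ i := by
    intro h'
    rw [← h'] at hi
    simp only [Set.mem_setOf_eq] at hi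
    omega
  rwa [Finsupp.add_apply, Finsupp.single_eq_of_ne' hij, zero_add] at hne

theorem regular_of {M : Type*} [AddCommGroup M] [Module S M] (x : S)
    (h : ∀ q : M, x • q = 0 → q = 0) : IsSMulRegular M x := by
  intro p q hpq
  have h1 : x • p = x • q := hpq
  have : x • (p - q) = 0 := by rw [smul_sub, h1, sub_self]
  exact sub_eq_zero.1 (h _ this)

noncomputable local instance QDec (j : ℕ) :
    Decomposition (GrStar2H1.quotGr 𝒮 (II k r j)) :=
  quotDecomp 𝒮 (II k r j) (II_homog k r j)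

local instance QGS (j : ℕ) : SetLike.GradedSMul 𝒮 (GrStar2H1.quotGr 𝒮 (II k r j)) :=
  quot_gsmul 𝒮 𝒮 (II k r j)

/-- the transition map `S/I_{j+1} → S/I_j` -/
noncomputable def trans (j : ℕ) : (S ⧸ II k r (j + 1)) →ₗ[S] (S ⧸ II k r j) :=
  Submodule.mapQ (II k r (j + 1)) (II k r j) LinearMap.id (II_mono k r j)

theorem trans_mk (j : ℕ) (q : S) :
    trans k r j (Submodule.Quotient.mk q) = Submodule.Quotient.mk q := rfl

theorem ker_trans (j : ℕ) (hj : j < r + 1) :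
    LinearMap.ker (trans k r j) =
      LinearMap.range (LinearMap.lsmul S (S ⧸ II k r (j + 1)) (X ⟨j, hj⟩)) := by
  ext qb
  obtain ⟨q, rfl⟩ := Submodule.Quotient.mk_surjective _ qb
  rw [LinearMap.mem_ker, trans_mk, Submodule.Quotient.mk_eq_zero, LinearMap.mem_range]
  constructor
  · intro hq
    rw [II_succ k r j hj, Submodule.mem_sup] at hq
    obtain ⟨u, hu, v, hv, rfl⟩ := hq
    obtain ⟨c, rfl⟩ := Ideal.mem_span_singleton'.1 hv
    refine ⟨Submodule.Quotient.mk c, ?_⟩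
    show (X (⟨j, hj⟩ : Fin (r + 1)) : S) • (Submodule.Quotient.mk c : S ⧸ II k r (j + 1)) = _
    rw [← Submodule.Quotient.mk_smul, Submodule.Quotient.mk_add,
      (Submodule.Quotient.mk_eq_zero _).2 hu, zero_add, smul_eq_mul, mul_comm]
  · rintro ⟨cb, hc⟩
    obtain ⟨c, rfl⟩ := Submodule.Quotient.mk_surjective _ cb
    have h1 : (Submodule.Quotient.mk ((X (⟨j, hj⟩ : Fin (r + 1)) : S) * c) :
        S ⧸ II k r (j + 1)) = Submodule.Quotient.mk q := hc
    rw [Submodule.Quotient.eq] at h1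
    have h2 : (X (⟨j, hj⟩ : Fin (r + 1)) : S) * c ∈ II k r j :=
      Ideal.mul_mem_right _ _ (X_mem_II k r j hj)
    have h3 : (X (⟨j, hj⟩ : Fin (r + 1)) : S) * c - q ∈ II k r j := II_mono k r j h1
    have h4 : q = (X (⟨j, hj⟩ : Fin (r + 1)) : S) * c -
        ((X (⟨j, hj⟩ : Fin (r + 1)) : S) * c - q) := by ring
    rw [h4]
    exact Submodule.sub_mem _ h2 h3

theorem trans_gr (j : ℕ) :
    IsGrHom (GrStar2H1.quotGr 𝒮 (II k r (j + 1))) (GrStar2H1.quotGr 𝒮 (II k r j))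
      (trans k r j) := by
  rintro g _ ⟨m, hm, rfl⟩
  exact ⟨m, hm, rfl⟩

theorem trans_surj (j : ℕ) : Function.Surjective (trans k r j) := by
  intro qb
  obtain ⟨q, rfl⟩ := Submodule.Quotient.mk_surjective _ qb
  exact ⟨Submodule.Quotient.mk q, rfl⟩

theorem quot_reg (j : ℕ) (hj : j < r + 1) :
    IsSMulRegular (S ⧸ II k r (j + 1)) (X ⟨j, hj⟩ : S) := by
  apply regular_of
  intro qb hq
  obtain ⟨q, rfl⟩ := Submodule.Quotient.mk_surjective _ qb
  have h1 : (Submodule.Quotient.mk ((X (⟨j, hj⟩ : Fin (r + 1)) : S) * q) :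
      S ⧸ II k r (j + 1)) = 0 := hq
  rw [Submodule.Quotient.mk_eq_zero] at h1
  exact (Submodule.Quotient.mk_eq_zero _).2 (X_reg k r j hj q h1)

theorem X_mem_mm (i : Fin (r + 1)) : (X i : S) ∈ (mm k r).toIdeal :=
  mem_irr_of_pos (X_mem_one k r i) one_pos

theorem chain : ∀ j : ℕ, j ≤ r + 1 →
    CC 𝒮 (mm k r) (GrStar2H1.quotGr 𝒮 (II k r j)) j := by
  intro j
  induction j with
  | zero =>
    intro _
    apply CC_base 𝒮 (mm k r) (GrStar2H1.quotGr 𝒮 (II k r 0)) ?_ ?_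
      (Submodule.Quotient.mk (1 : S)) ?_ ?_
    · intro qb
      obtain ⟨q, rfl⟩ := Submodule.Quotient.mk_surjective _ qb
      refine ⟨1, fun x hx => ?_⟩
      rw [pow_one, mm_toIdeal, ← II_zero] at hx
      rw [← Submodule.Quotient.mk_smul, Submodule.Quotient.mk_eq_zero]
      exact Ideal.mul_mem_right _ _ hx
    · intro n hn
      rw [eq_bot_iff]
      rintro _ ⟨m, hm, rfl⟩
      rw [AddSubgroup.mem_bot]
      show (Submodule.Quotient.mk m : S ⧸ II k r 0) = 0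
      rw [Submodule.Quotient.mk_eq_zero, II_zero]
      exact mem_irr_of_pos hm hn
    · exact ⟨1, SetLike.GradedOne.one_mem, rfl⟩
    · intro h
      rw [Submodule.Quotient.mk_eq_zero, II_zero] at h
      exact one_not_mem_irr h
  | succ j ih =>
    intro hj
    have hj' : j < r + 1 := hj
    exact CC_step 𝒮 (mm k r) (GrStar2H1.quotGr 𝒮 (II k r (j + 1)))
      (GrStar2H1.quotGr 𝒮 (II k r j)) (X_mem_one k r ⟨j, hj'⟩) (X_mem_mm k r _)
      (quot_reg k r j hj') (trans k r j) (trans_gr k r j) (trans_surj k r j)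
      (ker_trans k r j hj') j (ih (by omega))

/-- the local cohomology of the polynomial ring -/
theorem CC_S : CC 𝒮 (mm k r) 𝒮 (r + 1) := by
  have hr : r < r + 1 := Nat.lt_succ_self r
  have hreg : IsSMulRegular S (X ⟨r, hr⟩ : S) :=
    (isRegular_of_ne_zero (X_ne_zero _)).left.isSMulRegular
  have hker : LinearMap.ker (II k r r).mkQ = LinearMap.range (LinearMap.lsmul S S (X ⟨r, hr⟩)) := by
    rw [Submodule.ker_mkQ, II_succ k r r hr, II_last, bot_sup_eq]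
    ext q
    rw [Ideal.mem_span_singleton', LinearMap.mem_range]
    constructor
    · rintro ⟨c, rfl⟩
      exact ⟨c, mul_comm _ _⟩
    · rintro ⟨c, rfl⟩
      exact ⟨c, mul_comm _ _⟩
  exact CC_step 𝒮 (mm k r) 𝒮 (GrStar2H1.quotGr 𝒮 (II k r r)) (X_mem_one k r ⟨r, hr⟩)
    (X_mem_mm k r _) hreg (II k r r).mkQ (mkQ_isGrHom 𝒮 (II k r r))
    (Submodule.mkQ_surjective _) hker r (chain k r r (by omega))

theorem van_S (i : ℕ) (n : ℤ) (h : i ≠ r + 1 ∨ -((r : ℤ) + 1) < n) : Van 𝒮 𝒮 (mm k r) i n :=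
  (CC_S k r).1 i n (by push_cast; exact h)

theorem not_van_S : ¬ Van 𝒮 𝒮 (mm k r) (r + 1) (-((r : ℤ) + 1)) := by
  have := (CC_S k r).2
  push_cast at this
  exact this

end poly

end Groth.Agent.Lib.GrEG2H1
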