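import Mathlib
import Groth.Prelude.Def_GrLC
import Groth.Prelude.Def_GrSyz
import Groth.Agent.Lib.GrSyz_helper1
import Groth.Agent.Lib.GrHDec_helper1
import Groth.Agent.Lib.GrEG2_helper1

/-! The ranks of a minimal graded free resolution are the lengths of the `Tor` modules against
the residue field (helper1). -/

set_option autoImplicit false

namespace Groth.Agent.Lib.GrTorH1

open CategoryTheory Limits MonoidalCategory DirectSum TensorProduct

universe u

/-! ### the projective resolution attached to a free resolution -/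
section res

variable {R : Type u} [CommRing R] {σ' : Type u} [SetLike σ' R] [AddSubgroupClass σ' R]
  (𝒜 : ℤ → σ') [GradedRing 𝒜]
  {M : Type u} [AddCommGroup M] [Module R M] {τ : Type u} [SetLike τ M] [AddSubgroupClass τ M]
  (ℳ : ℤ → τ) [Decomposition ℳ] [SetLike.GradedSMul 𝒜 ℳ] (F : GrSyz.FreeRes 𝒜 ℳ)

/-- the terms -/
noncomputable def X (n : ℕ) : ModuleCat.{u} R := ModuleCat.of R (Fin (F.rk n) → R)

/-- the differentials -/
noncomputable def d (n : ℕ) : X 𝒜 ℳ F (n + 1) ⟶ X 𝒜 ℳ F n := ModuleCat.ofHom (F.dLin n)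

/-- the augmentation -/
noncomputable def aug : X 𝒜 ℳ F 0 ⟶ ModuleCat.of R M := ModuleCat.ofHom F.augLin

theorem sq (n : ℕ) : d 𝒜 ℳ F (n + 1) ≫ d 𝒜 ℳ F n = 0 := by
  ext v
  have h : F.dLin (n + 1) v ∈ LinearMap.ker (F.dLin n) := by
    rw [F.exact_succ n]
    exact ⟨v, rfl⟩
  exact h

theorem d_aug : d 𝒜 ℳ F 0 ≫ aug 𝒜 ℳ F = 0 := by
  ext v
  have h : F.dLin 0 v ∈ LinearMap.ker F.augLin := by
    rw [F.exact_zero]
    exact ⟨v, rfl⟩
  exact h

theorem exact_succ (n : ℕ) :
    (ShortComplex.mk (d 𝒜 ℳ F (n + 1)) (d 𝒜 ℳ F n) (sq 𝒜 ℳ F n)).Exact := by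
  rw [ShortComplex.moduleCat_exact_iff]
  intro x hx
  have h : x ∈ LinearMap.ker (F.dLin n) := hx
  rw [F.exact_succ n] at h
  exact h

theorem exact_zero : (ShortComplex.mk (d 𝒜 ℳ F 0) (aug 𝒜 ℳ F) (d_aug 𝒜 ℳ F)).Exact := by
  rw [ShortComplex.moduleCat_exact_iff]
  intro x hx
  have h : x ∈ LinearMap.ker F.augLin := hx
  rw [F.exact_zero] at h
  exact h

instance (n : ℕ) : Projective (X 𝒜 ℳ F n) := by
  unfold X
  infer_instance

/-- the complex -/
noncomputable def cx : ChainComplex (ModuleCat.{u} R) ℕ :=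
  ChainComplex.of (X 𝒜 ℳ F) (d 𝒜 ℳ F) (sq 𝒜 ℳ F)

theorem cx_d_1_0 : (cx 𝒜 ℳ F).d 1 0 = d 𝒜 ℳ F 0 := by
  show ChainComplex.of.d (X 𝒜 ℳ F) (d 𝒜 ℳ F) (0 + 1) 0 = d 𝒜 ℳ F 0
  exact ChainComplex.of_d _ _ 0

theorem cx_exactAt_succ (n : ℕ) : (cx 𝒜 ℳ F).ExactAt (n + 1) := by
  rw [HomologicalComplex.exactAt_iff' _ (n + 1 + 1) (n + 1) n (by simp) (by simp)]
  have h1 : (cx 𝒜 ℳ F).d (n + 1 + 1) (n + 1) = d 𝒜 ℳ F (n + 1) := ChainComplex.of_d _ _ (n + 1)
  have h2 : (cx 𝒜 ℳ F).d (n + 1) n = d 𝒜 ℳ F n := ChainComplex.of_d _ _ n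
  refine (ShortComplex.exact_iff_of_iso ?_).mpr (exact_succ 𝒜 ℳ F n)
  exact ShortComplex.isoMk (Iso.refl _) (Iso.refl _) (Iso.refl _)
    (by
      simp only [HomologicalComplex.sc', HomologicalComplex.shortComplexFunctor', h1, Iso.refl_hom]
      exact (Category.id_comp _).trans (Category.comp_id _).symm)
    (by
      simp only [HomologicalComplex.sc', HomologicalComplex.shortComplexFunctor', h2, Iso.refl_hom]
      exact (Category.id_comp _).trans (Category.comp_id _).symm)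

/-- the resolution -/
noncomputable def res : ProjectiveResolution (ModuleCat.of R M) where
  complex := cx 𝒜 ℳ F
  projective := fun n => (inferInstance : Projective (X 𝒜 ℳ F n))
  π := (ChainComplex.toSingle₀Equiv _ _).symm
    ⟨(show (cx 𝒜 ℳ F).X 0 ⟶ ModuleCat.of R M from aug 𝒜 ℳ F), by
      rw [cx_d_1_0]
      exact d_aug 𝒜 ℳ F⟩
  quasiIso := ⟨fun n => by
    cases n
    · rw [ChainComplex.quasiIsoAt₀_iff, ShortComplex.quasiIso_iff_of_zeros']
      · dsimp
        haveI : Epi (aug 𝒜 ℳ F) := (ModuleCat.epi_iff_surjective _).mpr F.aug_surjective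
        refine (ShortComplex.exact_and_epi_g_iff_of_iso ?_).2
          ⟨exact_zero 𝒜 ℳ F, by dsimp; infer_instance⟩
        exact ShortComplex.isoMk (Iso.refl _) (Iso.refl _) (Iso.refl _)
          (by
            simp only [cx_d_1_0, Iso.refl_hom]
            exact (Category.id_comp _).trans (Category.comp_id _).symm)
          (by
            simp only [Iso.refl_hom]
            exact (Category.id_comp _).trans (Category.comp_id _).symm)
      all_goals rfl
    · rw [quasiIsoAt_iff_exactAt']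
      · apply cx_exactAt_succ
      · apply ChainComplex.exactAt_succ_single_obj⟩

/-- tensoring the differentials with `R ⧸ 𝔪` gives zero, for a minimal resolution -/
theorem whisker_d_eq_zero (𝔪 : Ideal R) (hF : F.IsMinimal 𝔪) (n : ℕ) :
    (ModuleCat.of R (R ⧸ 𝔪)) ◁ (d 𝒜 ℳ F n) = 0 := by
  classical
  apply ModuleCat.hom_ext
  apply TensorProduct.ext'
  intro x v
  show (ModuleCat.of R (R ⧸ 𝔪) ◁ d 𝒜 ℳ F n) (x ⊗ₜ v) = 0
  rw [ModuleCat.MonoidalCategory.whiskerLeft_apply]
  show x ⊗ₜ[R] (F.dLin n v) = 0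
  have hw : ∀ a, F.dLin n v a ∈ 𝔪 := by
    intro a
    show ∑ b, F.d n a b * v b ∈ 𝔪
    exact Ideal.sum_mem _ (fun b _ => Ideal.mul_mem_right _ _ (hF n a b))
  have hkill : ∀ c ∈ 𝔪, c • x = 0 := by
    intro c hc
    obtain ⟨s, rfl⟩ := Submodule.Quotient.mk_surjective _ x
    rw [← Submodule.Quotient.mk_smul, Submodule.Quotient.mk_eq_zero]
    exact Ideal.mul_mem_right _ _ hc
  rw [← Finset.univ_sum_single (F.dLin n v), TensorProduct.tmul_sum]
  refine Finset.sum_eq_zero (fun a _ => ?_)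
  have e : (Pi.single a (F.dLin n v a) : Fin (F.rk n) → R) =
      F.dLin n v a • (Pi.single a 1 : Fin (F.rk n) → R) := by
    funext b
    rw [Pi.smul_apply, Pi.single_apply, Pi.single_apply]
    split_ifs
    · rw [smul_eq_mul, mul_one]
    · rw [smul_zero]
  rw [e, TensorProduct.tmul_smul, TensorProduct.smul_tmul', hkill _ (hw a), TensorProduct.zero_tmul]

end res

/-! ### homology of a complex with zero differentials -/
section zero

variable {R : Type u} [CommRing R]

/-- the homology of a complex with zero differentials -/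
noncomputable def homologyIsoOfZero (C : ChainComplex (ModuleCat.{u} R) ℕ)
    (hC : ∀ a b, C.d a b = 0) (i : ℕ) : C.homology i ≅ C.X i :=
  (ShortComplex.HomologyData.ofZeros (C.sc i) (hC _ _) (hC _ _)).left.homologyIso

end zero

/-! ### the length of the tensor product -/
section len

variable {R : Type u} [CommRing R] (𝔪 : Ideal R) [𝔪.IsMaximal]

theorem length_tensor (n : ℕ) :
    Module.length R ((R ⧸ 𝔪) ⊗[R] (Fin n → R)) = (n : ℕ∞) := by
  classical
  rw [(TensorProduct.piScalarRight R R (R ⧸ 𝔪) (Fin n)).length_eq, Module.length_pi_of_fintype]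
  haveI : IsSimpleModule R (R ⧸ 𝔪) := isSimpleModule_iff_isCoatom.2 (Ideal.IsMaximal.out : IsCoatom 𝔪)
  simp [Module.length_eq_one]

end len

/-! ### the polynomial ring -/
section poly

attribute [local instance] GrSyz2H1.convGradedRing

variable (k : Type u) [Field k] (r : ℕ)

theorem irr_isMaximal : (GrSyzH1.irr k (Fin (r + 1))).IsMaximal := by
  classical
  rw [Ideal.isMaximal_iff]
  refine ⟨GrSyzH1.one_not_mem_irr, fun J x hJ hx hxJ => ?_⟩
  have hsub : x - (decompose (GrSyz2H1.toAG (GrSyz.stdGr k (Fin (r + 1)))) x 0 :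
      MvPolynomial (Fin (r + 1)) k) ∈ GrSyzH1.irr k (Fin (r + 1)) := by
    rw [GrSyzH1.irr_eq]
    exact GrHDecH1.sub_decompose_zero_mem_irr (GrSyz2H1.toAG (GrSyz.stdGr k (Fin (r + 1))))
      (GrEG2H1.hposS k r) x
  have hx0J : (decompose (GrSyz2H1.toAG (GrSyz.stdGr k (Fin (r + 1)))) x 0 :
      MvPolynomial (Fin (r + 1)) k) ∈ J := by
    have e : (decompose (GrSyz2H1.toAG (GrSyz.stdGr k (Fin (r + 1)))) x 0 :
        MvPolynomial (Fin (r + 1)) k) =
        x - (x - (decompose (GrSyz2H1.toAG (GrSyz.stdGr k (Fin (r + 1)))) x 0 :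
          MvPolynomial (Fin (r + 1)) k)) := by ring
    rw [e]
    exact J.sub_mem hxJ (hJ hsub)
  have hx0m : (decompose (GrSyz2H1.toAG (GrSyz.stdGr k (Fin (r + 1)))) x 0 :
      MvPolynomial (Fin (r + 1)) k) ∉ GrSyzH1.irr k (Fin (r + 1)) := by
    intro h
    apply hx
    have e : x = (x - (decompose (GrSyz2H1.toAG (GrSyz.stdGr k (Fin (r + 1)))) x 0 :
        MvPolynomial (Fin (r + 1)) k)) +
        (decompose (GrSyz2H1.toAG (GrSyz.stdGr k (Fin (r + 1)))) x 0 :
          MvPolynomial (Fin (r + 1)) k) := by ring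
    rw [e]
    exact Ideal.add_mem _ hsub h
  have hmem0 : (decompose (GrSyz2H1.toAG (GrSyz.stdGr k (Fin (r + 1)))) x 0 :
      MvPolynomial (Fin (r + 1)) k) ∈ GrSyz.stdGr k (Fin (r + 1)) 0 :=
    (decompose (GrSyz2H1.toAG (GrSyz.stdGr k (Fin (r + 1)))) x 0).2
  have hunit := GrSyzH1.isUnit_of_not_mem_irr hmem0 hx0m
  have := Ideal.eq_top_of_isUnit_mem J hx0J hunit
  rw [this] at *
  trivial

end poly

/-! ### the statement -/
section final

theorem main15436 (k : Type u) [Field k] (r : ℕ)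
    (M : Type u) [AddCommGroup M] [Module k M] [Module (MvPolynomial (Fin (r + 1)) k) M]
    [IsScalarTower k (MvPolynomial (Fin (r + 1)) k) M]
    [Module.Finite (MvPolynomial (Fin (r + 1)) k) M]
    (ℳ : ℤ → Submodule k M) [DirectSum.Decomposition ℳ]
    [SetLike.GradedSMul (GrSyz.stdGr k (Fin (r + 1))) ℳ]
    (F : GrSyz.FreeRes (GrSyz.stdGr k (Fin (r + 1))) ℳ)
    (hF : F.IsMinimal (GrSyz.irrel (GrSyz.stdGr k (Fin (r + 1)))).toIdeal) (i : ℕ) :
    Module.length (MvPolynomial (Fin (r + 1)) k)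
        (((CategoryTheory.Tor (ModuleCat.{u} (MvPolynomial (Fin (r + 1)) k)) i).obj
            (ModuleCat.of (MvPolynomial (Fin (r + 1)) k)
              ((MvPolynomial (Fin (r + 1)) k) ⧸
                (GrSyz.irrel (GrSyz.stdGr k (Fin (r + 1)))).toIdeal))).obj
          (ModuleCat.of (MvPolynomial (Fin (r + 1)) k) M)) = (F.rk i : ℕ∞) := by
  haveI := irr_isMaximal k r
  let P := res (GrSyz.stdGr k (Fin (r + 1))) ℳ F
  let G := (tensoringLeft (ModuleCat.{u} (MvPolynomial (Fin (r + 1)) k))).obj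
    (ModuleCat.of (MvPolynomial (Fin (r + 1)) k)
      ((MvPolynomial (Fin (r + 1)) k) ⧸ (GrSyz.irrel (GrSyz.stdGr k (Fin (r + 1)))).toIdeal))
  have hzero : ∀ a b, ((G.mapHomologicalComplex (ComplexShape.down ℕ)).obj P.complex).d a b = 0 := by
    intro a b
    show G.map (P.complex.d a b) = 0
    by_cases hab : (ComplexShape.down ℕ).Rel a b
    · have hab' : b + 1 = a := hab
      subst hab'
      have h1 : P.complex.d (b + 1) b = d (GrSyz.stdGr k (Fin (r + 1))) ℳ F b :=
        ChainComplex.of_d _ _ b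
      rw [h1]
      exact whisker_d_eq_zero (GrSyz.stdGr k (Fin (r + 1))) ℳ F _ hF b
    · rw [P.complex.shape a b hab, Functor.map_zero]
  let e1 := P.isoLeftDerivedObj G i
  let e2 := homologyIsoOfZero ((G.mapHomologicalComplex (ComplexShape.down ℕ)).obj P.complex)
    hzero i
  have e3 : (((CategoryTheory.Tor (ModuleCat.{u} (MvPolynomial (Fin (r + 1)) k)) i).obj
      (ModuleCat.of (MvPolynomial (Fin (r + 1)) k)
        ((MvPolynomial (Fin (r + 1)) k) ⧸
          (GrSyz.irrel (GrSyz.stdGr k (Fin (r + 1)))).toIdeal))).obj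
      (ModuleCat.of (MvPolynomial (Fin (r + 1)) k) M)) ≅
      ModuleCat.of (MvPolynomial (Fin (r + 1)) k)
        (((MvPolynomial (Fin (r + 1)) k) ⧸ (GrSyz.irrel (GrSyz.stdGr k (Fin (r + 1)))).toIdeal)
          ⊗[MvPolynomial (Fin (r + 1)) k] (Fin (F.rk i) → MvPolynomial (Fin (r + 1)) k)) :=
    e1 ≪≫ e2
  rw [e3.toLinearEquiv.length_eq]
  exact length_tensor _ (F.rk i)

end final

end Groth.Agent.Lib.GrTorH1
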