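import Mathlib
import Groth.Agent.Lib.GorLCI_helper9

/-!
# Liaison: colon ideals by Gorenstein ideals (helper9)
APPEND-ONLY once landed.
-/

set_option autoImplicit false
universe u

namespace Groth.Agent.Liaison9

open IsLocalRing
open Groth.Agent.GorFlat9

section DoubleAnn

variable (A : Type u) [CommRing A] [IsLocalRing A] [IsNoetherianRing A]

/-- double annihilator property of zero-dimensional Gorenstein local rings -/
theorem mem_of_double_ann (h0 : ringKrullDim A = 0) (hG : LocCoh.IsGorensteinLocalRing A)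
    (J : Ideal A) (x : A) (hx : ∀ a : A, (∀ j ∈ J, a * j = 0) → a * x = 0) : x ∈ J := by
  by_contra hxJ
  have hinj : Module.Injective A A := injective_of_gorenstein A h0 hG
  set N : Ideal A := J.colon {x} with hNdef
  have hmemN : ∀ r : A, r ∈ N ↔ r * x ∈ J := fun r => by
    rw [hNdef, Submodule.mem_colon_singleton, smul_eq_mul]
  have hN : N ≠ ⊤ := by
    intro h
    apply hxJ
    have h1 : (1 : A) ∈ N := by rw [h]; trivial
    rw [hmemN, one_mul] at h1
    exact h1
  have hNm : N ≤ maximalIdeal A := IsLocalRing.le_maximalIdeal hN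
  obtain ⟨s, hs0, hs⟩ := exists_socle A h0 ⊥ bot_ne_top
  have hs0' : s ≠ 0 := fun h => hs0 (by rw [h]; exact Submodule.zero_mem _)
  have hs' : ∀ a ∈ maximalIdeal A, a * s = 0 := fun a ha => by simpa using hs a ha
  let ι : (A ⧸ N) →ₗ[A] (A ⧸ J) :=
    Submodule.liftQ N ((Submodule.mkQ J).comp (LinearMap.toSpanSingleton A A x)) (by
      intro r hr
      rw [LinearMap.mem_ker, LinearMap.comp_apply, LinearMap.toSpanSingleton_apply, smul_eq_mul,
        Submodule.mkQ_apply, Submodule.Quotient.mk_eq_zero]
      exact (hmemN r).1 hr)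
  have hι : Function.Injective ι := by
    rw [injective_iff_map_eq_zero]
    intro z hz
    obtain ⟨r, rfl⟩ := Submodule.Quotient.mk_surjective N z
    have h1 : ι (Submodule.Quotient.mk r) = Submodule.Quotient.mk (r * x) := by
      show Submodule.liftQ N _ _ (Submodule.Quotient.mk r) = _
      rw [Submodule.liftQ_apply]
      rfl
    rw [h1, Submodule.Quotient.mk_eq_zero] at hz
    rw [Submodule.Quotient.mk_eq_zero]
    exact (hmemN r).2 hz
  let f : (A ⧸ N) →ₗ[A] A :=
    Submodule.liftQ N (LinearMap.toSpanSingleton A A s) (by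
      intro r hr
      rw [LinearMap.mem_ker, LinearMap.toSpanSingleton_apply, smul_eq_mul]
      exact hs' r (hNm hr))
  obtain ⟨g, hg⟩ := Module.Injective.extension_property A A _ _ ι hι f
  set a : A := g (Submodule.Quotient.mk 1) with ha
  have hgmk : ∀ r : A, g (Submodule.Quotient.mk r) = r * a := by
    intro r
    have : (Submodule.Quotient.mk r : A ⧸ J) = r • Submodule.Quotient.mk 1 := by
      rw [← Submodule.Quotient.mk_smul, smul_eq_mul, mul_one]
    rw [this, map_smul, smul_eq_mul]
  have haJ : ∀ j ∈ J, a * j = 0 := by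
    intro j hj
    have h1 := hgmk j
    rw [(Submodule.Quotient.mk_eq_zero J).2 hj, map_zero] at h1
    rw [mul_comm, ← h1]
  have hax : a * x = s := by
    have h1 := LinearMap.congr_fun hg (Submodule.Quotient.mk 1)
    rw [LinearMap.comp_apply] at h1
    have h2 : ι (Submodule.Quotient.mk 1) = Submodule.Quotient.mk (1 * x) := by
      show Submodule.liftQ N _ _ (Submodule.Quotient.mk 1) = _
      rw [Submodule.liftQ_apply]
      rfl
    have h3 : f (Submodule.Quotient.mk 1) = s := by
      show Submodule.liftQ N _ _ (Submodule.Quotient.mk 1) = _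
      rw [Submodule.liftQ_apply, LinearMap.toSpanSingleton_apply, one_smul]
    rw [h2, h3, one_mul, hgmk] at h1
    rw [mul_comm, h1]
  exact hs0' (by rw [← hax]; exact hx a haJ)

end DoubleAnn

end Groth.Agent.Liaison9

namespace Groth.Agent.Liaison9

open IsLocalRing
open Groth.Agent.GorFlat9

section ColonLoc

variable {R : Type u} [CommRing R] [IsNoetherianRing R] (M : Submonoid R) (S : Type u)
  [CommRing S] [Algebra R S] [IsLocalization M S]

/-- colon ideals commute with localisation (the non-trivial inclusion) -/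
theorem exists_mul_mem_colon (𝔠 I : Ideal R) (r : R)
    (h : ∀ j ∈ I, algebraMap R S (r * j) ∈ 𝔠.map (algebraMap R S)) :
    ∃ u ∈ M, u * r ∈ 𝔠.colon (I : Set R) := by
  classical
  obtain ⟨G, hG⟩ := (isNoetherianRing_iff_ideal_fg R).1 inferInstance I
  have h1 : ∀ g : R, ∃ m : R, g ∈ G → (m ∈ M ∧ m * (r * g) ∈ 𝔠) := by
    intro g
    by_cases hg : g ∈ G
    · have hgI : g ∈ I := by rw [← hG]; exact Ideal.subset_span hg
      obtain ⟨m, hm, hm'⟩ :=
        (IsLocalization.algebraMap_mem_map_algebraMap_iff M S 𝔠 (r * g)).1 (h g hgI)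
      exact ⟨m, fun _ => ⟨hm, hm'⟩⟩
    · exact ⟨1, fun h => absurd h hg⟩
  choose u hu using h1
  refine ⟨∏ g ∈ G, u g, Submonoid.prod_mem M (fun g hg => (hu g hg).1), ?_⟩
  rw [Submodule.mem_colon]
  intro j hj
  have hj' : j ∈ Ideal.span (G : Set R) := by rw [hG]; exact hj
  rw [smul_eq_mul]
  clear hj
  induction hj' using Submodule.span_induction with
  | mem g hg =>
    obtain ⟨w, hw⟩ := Finset.dvd_prod_of_mem u hg
    rw [hw]
    have : u g * w * r * g = w * (u g * (r * g)) := by ring
    rw [this]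
    exact 𝔠.mul_mem_left _ (hu g hg).2
  | zero => rw [mul_zero]; exact 𝔠.zero_mem
  | add a b _ _ ha hb => rw [mul_add]; exact 𝔠.add_mem ha hb
  | smul c a _ ha =>
    rw [smul_eq_mul]
    have : (∏ g ∈ G, u g) * r * (c * a) = c * ((∏ g ∈ G, u g) * r * a) := by ring
    rw [this]
    exact 𝔠.mul_mem_left _ ha

end ColonLoc

end Groth.Agent.Liaison9

namespace Groth.Agent.Liaison9

open IsLocalRing
open Groth.Agent.GorFlat9

section Gor

variable (R : Type u) [CommRing R] [IsNoetherianRing R]

/-- the local ring of `R/𝔠` at a minimal prime, as a quotient of `R_P` -/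
theorem gor_quot_localization (𝔠 : Ideal R) [hG : LocCoh.IsGorensteinRing (R ⧸ 𝔠)]
    (P : Ideal R) [P.IsPrime] (hP : P ∈ 𝔠.minimalPrimes) :
    LocCoh.IsGorensteinLocalRing
        (Localization.AtPrime P ⧸ 𝔠.map (algebraMap R (Localization.AtPrime P))) ∧
      ringKrullDim (Localization.AtPrime P ⧸ 𝔠.map (algebraMap R (Localization.AtPrime P))) = 0 := by
  have h𝔠P : 𝔠 ≤ P := hP.1.2
  set π : R →+* R ⧸ 𝔠 := Ideal.Quotient.mk 𝔠 with hπ
  have hπs : Function.Surjective π := Ideal.Quotient.mk_surjective
  have hker : RingHom.ker π = 𝔠 := Ideal.mk_ker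
  set Pb : Ideal (R ⧸ 𝔠) := P.map π with hPb
  have hcomap : Pb.comap π = P := by
    rw [hPb, Ideal.comap_map_of_surjective π hπs, ← RingHom.ker_eq_comap_bot, hker,
      sup_eq_left.2 h𝔠P]
  haveI : Pb.IsPrime := Ideal.map_isPrime_of_surjective hπs (by rw [hker]; exact h𝔠P)
  have hPbmin : Pb ∈ minimalPrimes (R ⧸ 𝔠) := by
    rw [Ideal.minimalPrimes_eq_comap] at hP
    obtain ⟨Q, hQ, hQP⟩ := hP
    have : Q = Pb := by
      rw [hPb, ← hQP, Ideal.map_comap_of_surjective π hπs]
    rw [← this]; exact hQ
  have hT : P.primeCompl.map π = Pb.primeCompl := by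
    ext y
    constructor
    · rintro ⟨x, hx, rfl⟩
      intro hmem
      apply hx
      have : x ∈ Pb.comap π := hmem
      rwa [hcomap] at this
    · intro hy
      obtain ⟨x, rfl⟩ := hπs y
      refine ⟨x, ?_, rfl⟩
      intro hx
      exact hy (Ideal.mem_map_of_mem π hx)
  obtain ⟨e⟩ := Groth.Agent.GorLCI9.nonempty_quot_equiv π hπs P.primeCompl Pb.primeCompl hT
    (Localization.AtPrime P) (Localization.AtPrime Pb)
  rw [hker] at e
  have h1 : LocCoh.IsGorensteinLocalRing (Localization.AtPrime Pb) :=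
    hG.isGorensteinLocalRing_localization Pb
  have h2 : ringKrullDim (Localization.AtPrime Pb) = 0 := by
    rw [IsLocalization.AtPrime.ringKrullDim_eq_height Pb (Localization.AtPrime Pb),
      Ideal.height_eq_zero_iff.2 hPbmin]
    rfl
  exact ⟨(gorenstein_congr e).2 h1, (ringKrullDim_eq_of_ringEquiv e).trans h2⟩

/-- **double linkage**: `𝔠 : (𝔠 : I) = I` when `R/𝔠` is Gorenstein and the associated primes of `R/I`
are minimal over `𝔠`. -/
theorem colon_colon_eq (𝔠 I : Ideal R) [hG : LocCoh.IsGorensteinRing (R ⧸ 𝔠)] (h𝔠I : 𝔠 ≤ I)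
    (hIu : ∀ p ∈ associatedPrimes R (R ⧸ I), p ∈ 𝔠.minimalPrimes) :
    𝔠.colon ((𝔠.colon (I : Set R) : Ideal R) : Set R) = I := by
  apply le_antisymm
  · intro x hx
    by_contra hxI
    have hx0 : (Ideal.Quotient.mk I x : R ⧸ I) ≠ 0 := by
      rwa [Ne, Ideal.Quotient.eq_zero_iff_mem]
    obtain ⟨P, hPass, hle⟩ := exists_le_isAssociatedPrime_of_isNoetherianRing R
      (Ideal.Quotient.mk I x : R ⧸ I) hx0
    haveI : P.IsPrime := hPass.isPrime
    have hPmin := hIu P hPass
    obtain ⟨hGA, h0⟩ := gor_quot_localization R 𝔠 P hPmin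
    set S := Localization.AtPrime P with hS
    set cS : Ideal S := 𝔠.map (algebraMap R S) with hcS
    set IS : Ideal S := I.map (algebraMap R S) with hIS
    haveI : IsLocalRing (S ⧸ cS) := hGA.toIsLocalRing
    haveI : IsNoetherianRing (S ⧸ cS) := hGA.toIsNoetherian
    have hcI : cS ≤ IS := Ideal.map_mono h𝔠I
    have key := mem_of_double_ann (S ⧸ cS) h0 hGA (IS.map (Ideal.Quotient.mk cS))
      (Ideal.Quotient.mk cS (algebraMap R S x)) ?_
    · -- conclude
      have h1 : algebraMap R S x ∈ (IS.map (Ideal.Quotient.mk cS)).comap (Ideal.Quotient.mk cS) :=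
        key
      rw [Ideal.comap_map_of_surjective _ Ideal.Quotient.mk_surjective,
        ← RingHom.ker_eq_comap_bot, Ideal.mk_ker, sup_eq_left.2 hcI] at h1
      obtain ⟨m, hm, hmx⟩ :=
        (IsLocalization.algebraMap_mem_map_algebraMap_iff P.primeCompl S I x).1 h1
      apply hm
      apply hle
      rw [Submodule.mem_colon_singleton, Submodule.mem_bot, ← Ideal.Quotient.mk_eq_mk,
        ← Submodule.Quotient.mk_smul, smul_eq_mul]
      exact (Submodule.Quotient.mk_eq_zero I).2 hmx
    · intro a ha
      obtain ⟨s', rfl⟩ := Ideal.Quotient.mk_surjective a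
      obtain ⟨r, t, rfl⟩ := IsLocalization.exists_mk'_eq P.primeCompl s'
      have h1 : ∀ j ∈ I, algebraMap R S (r * j) ∈ cS := by
        intro j hj
        have h2 := ha (Ideal.Quotient.mk cS (algebraMap R S j))
          (Ideal.mem_map_of_mem _ (Ideal.mem_map_of_mem _ hj))
        rw [← map_mul, Ideal.Quotient.eq_zero_iff_mem] at h2
        have h3 : algebraMap R S (r * j) =
            algebraMap R S t * (IsLocalization.mk' S r t * algebraMap R S j) := by
          rw [← mul_assoc, mul_comm (algebraMap R S t), IsLocalization.mk'_spec, map_mul]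
        rw [h3]
        exact cS.mul_mem_left _ h2
      obtain ⟨u, hu, hur⟩ := exists_mul_mem_colon P.primeCompl S 𝔠 I r h1
      have h4 : x * (u * r) ∈ 𝔠 := by
        have := (Submodule.mem_colon.1 hx) (u * r) hur
        rwa [smul_eq_mul] at this
      have h5 : algebraMap R S (x * (u * r)) ∈ cS := Ideal.mem_map_of_mem _ h4
      rw [← map_mul, Ideal.Quotient.eq_zero_iff_mem]
      have hunit : IsUnit (algebraMap R S ((t : R) * u)) :=
        IsLocalization.map_units S (⟨(t : R) * u, P.primeCompl.mul_mem t.2 hu⟩ : P.primeCompl)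
      rw [← Ideal.unit_mul_mem_iff_mem cS hunit]
      have h6 : algebraMap R S ((t : R) * u) * (IsLocalization.mk' S r t * algebraMap R S x) =
          algebraMap R S (x * (u * r)) := by
        have h7 : algebraMap R S t * IsLocalization.mk' S r t = algebraMap R S r := by
          rw [mul_comm, IsLocalization.mk'_spec]
        calc algebraMap R S ((t : R) * u) * (IsLocalization.mk' S r t * algebraMap R S x)
            = algebraMap R S u * (algebraMap R S t * IsLocalization.mk' S r t) *
                algebraMap R S x := by rw [map_mul]; ring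
          _ = algebraMap R S (x * (u * r)) := by rw [h7]; simp only [map_mul]; ring
      rw [h6]
      exact h5
  · intro x hx
    rw [Submodule.mem_colon]
    intro s hs
    have := (Submodule.mem_colon.1 hs) x hx
    rw [smul_eq_mul] at this ⊢
    rwa [mul_comm]

end Gor

end Groth.Agent.Liaison9

namespace Groth.Agent.Liaison9

section Basic

variable {R : Type u} [CommRing R] [IsNoetherianRing R]

theorem le_of_mem_associatedPrimes_quot (I p : Ideal R) (hp : p ∈ associatedPrimes R (R ⧸ I)) :
    I ≤ p := by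
  have h := IsAssociatedPrime.annihilator_le hp
  rwa [Submodule.annihilator_top, Ideal.annihilator_quotient] at h

/-- a prime of height `≤ ht 𝔠` containing `𝔠` is minimal over `𝔠` -/
theorem mem_minimalPrimes_of_height (𝔠 p : Ideal R) [p.IsPrime] (h : 𝔠 ≤ p)
    (hht : p.height ≤ 𝔠.height) : p ∈ 𝔠.minimalPrimes :=
  Ideal.mem_minimalPrimes_of_height_le h hht

end Basic

end Groth.Agent.Liaison9
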