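import Mathlib
import Groth.Agent.Lib.Liaison_helper9
import Groth.Agent.Lib.DepthSk_helper5
import Groth.Agent.Lib.DepthRefl_helper5
import Groth.Agent.Lib.Gorenstein_helper5
import Groth.Agent.Lib.CMChain_helper5
import Groth.Agent.Lib.CM_helper5
import Groth.Agent.Lib.FlatCM2_helper9
import Groth.Agent.Lib.TensorFieldCM_helper9
import Groth.Agent.S0341

/-!
# Liaison II: unmixedness of Gorenstein ideals, geometric linkage (helper9)
APPEND-ONLY once landed.
-/

set_option autoImplicit false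
universe u

namespace Groth.Agent.Liaison9

open IsLocalRing

section AssMin

/-- in a Gorenstein ring, associated primes are minimal -/
theorem mem_minimalPrimes_of_mem_ass (B : Type u) [CommRing B] [hG : LocCoh.IsGorensteinRing B]
    (p : Ideal B) (hp : p ∈ associatedPrimes B B) : p ∈ minimalPrimes B := by
  haveI : IsNoetherianRing B := hG.toIsNoetherian
  haveI : p.IsPrime := hp.isPrime
  have h0 : ¬ 1 ≤ LocCoh.depth (Localization.AtPrime p) (LocalizedModule p.primeCompl B) :=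
    (Groth.Agent.DepthLib.not_one_le_depth_localization_iff B p).2 hp
  rw [Groth.Agent.DepthLib.depth_locSelf] at h0
  have hd0 : LocCoh.depth (Localization.AtPrime p) (Localization.AtPrime p) = 0 := by
    by_contra hne
    exact h0 (Order.one_le_iff_pos.mpr (pos_iff_ne_zero.mpr hne))
  have hGp := hG.isGorensteinLocalRing_localization p
  haveI : IsNoetherianRing (Localization.AtPrime p) := hGp.toIsNoetherian
  have hdim := Groth.Agent.Gor.dim_eq_depth 0 (Localization.AtPrime p)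
    hGp.exists_hasInjectiveDimensionLT hd0
  rw [IsLocalization.AtPrime.ringKrullDim_eq_height p (Localization.AtPrime p)] at hdim
  have h1 : p.height = 0 := by exact_mod_cast hdim
  exact Ideal.height_eq_zero_iff.1 h1

variable (R : Type u) [CommRing R] [IsNoetherianRing R]

/-- if `R/𝔠` is Gorenstein, the associated primes of `R/𝔠` are minimal over `𝔠` -/
theorem mem_minimalPrimes_of_mem_ass_quot (𝔠 : Ideal R) [LocCoh.IsGorensteinRing (R ⧸ 𝔠)]
    (P : Ideal R) (hP : P ∈ associatedPrimes R (R ⧸ 𝔠)) : P ∈ 𝔠.minimalPrimes := by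
  have h𝔠P : 𝔠 ≤ P := le_of_mem_associatedPrimes_quot 𝔠 P hP
  obtain ⟨hPp, x, hx⟩ := (isAssociatedPrime_iff).1 hP
  set π : R →+* R ⧸ 𝔠 := Ideal.Quotient.mk 𝔠 with hπ
  have hπs : Function.Surjective π := Ideal.Quotient.mk_surjective
  have hker : RingHom.ker π = 𝔠 := Ideal.mk_ker
  set Pb : Ideal (R ⧸ 𝔠) := P.map π with hPb
  have hcomap : Pb.comap π = P := by
    rw [hPb, Ideal.comap_map_of_surjective π hπs, ← RingHom.ker_eq_comap_bot, hker,
      sup_eq_left.2 h𝔠P]
  haveI : Pb.IsPrime := Ideal.map_isPrime_of_surjective hπs (by rw [hker]; exact h𝔠P)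
  have hass : Pb ∈ associatedPrimes (R ⧸ 𝔠) (R ⧸ 𝔠) := by
    refine (isAssociatedPrime_iff).2 ⟨inferInstance, x, ?_⟩
    ext b
    obtain ⟨r, rfl⟩ := hπs b
    have h1 : π r ∈ Pb ↔ r ∈ P := by
      rw [← hcomap]; rfl
    rw [h1, hx, Submodule.mem_colon_singleton, Submodule.mem_colon_singleton, Submodule.mem_bot,
      Submodule.mem_bot, Algebra.smul_def]
    rfl
  have hmin := mem_minimalPrimes_of_mem_ass (R ⧸ 𝔠) Pb hass
  rw [Ideal.minimalPrimes_eq_comap]
  exact ⟨Pb, hmin, hcomap⟩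

/-- **geometric linkage**: directly linked ideals without common components intersect in `𝔠` -/
theorem inf_eq_of_linked (𝔠 I J : Ideal R) [LocCoh.IsGorensteinRing (R ⧸ 𝔠)]
    (hIJ : 𝔠.colon (I : Set R) = J) (hJI : 𝔠.colon (J : Set R) = I)
    (hdisj : Disjoint (associatedPrimes R (R ⧸ I)) (associatedPrimes R (R ⧸ J))) :
    I ⊓ J = 𝔠 := by
  have h𝔠I : 𝔠 ≤ I := by
    rw [← hJI]
    intro c hc
    rw [Submodule.mem_colon]
    intro j _
    rw [smul_eq_mul]
    exact 𝔠.mul_mem_right _ hc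
  have h𝔠J : 𝔠 ≤ J := by
    rw [← hIJ]
    intro c hc
    rw [Submodule.mem_colon]
    intro j _
    rw [smul_eq_mul]
    exact 𝔠.mul_mem_right _ hc
  apply le_antisymm _ (le_inf h𝔠I h𝔠J)
  rintro x ⟨hxI, hxJ⟩
  by_contra hx𝔠
  have hx0 : (Ideal.Quotient.mk 𝔠 x : R ⧸ 𝔠) ≠ 0 := by
    rwa [Ne, Ideal.Quotient.eq_zero_iff_mem]
  obtain ⟨P, hPass, hle⟩ := exists_le_isAssociatedPrime_of_isNoetherianRing R
    (Ideal.Quotient.mk 𝔠 x : R ⧸ 𝔠) hx0
  haveI : P.IsPrime := hPass.isPrime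
  have hPmin := mem_minimalPrimes_of_mem_ass_quot R 𝔠 P hPass
  have hmemP : ∀ a : R, x * a ∈ 𝔠 → a ∈ P := by
    intro a ha
    apply hle
    rw [Submodule.mem_colon_singleton, Submodule.mem_bot, ← Ideal.Quotient.mk_eq_mk,
      ← Submodule.Quotient.mk_smul, smul_eq_mul]
    rw [mul_comm] at ha
    exact (Submodule.Quotient.mk_eq_zero 𝔠).2 ha
  have hIP : I ≤ P := by
    intro a ha
    apply hmemP
    have hxJ' : x ∈ 𝔠.colon (I : Set R) := by rw [hIJ]; exact hxJ
    have := (Submodule.mem_colon.1 hxJ') a ha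
    rwa [smul_eq_mul] at this
  have hJP : J ≤ P := by
    intro a ha
    apply hmemP
    have hxI' : x ∈ 𝔠.colon (J : Set R) := by rw [hJI]; exact hxI
    have := (Submodule.mem_colon.1 hxI') a ha
    rwa [smul_eq_mul] at this
  have hass : ∀ L : Ideal R, 𝔠 ≤ L → L ≤ P → P ∈ associatedPrimes R (R ⧸ L) := by
    intro L h𝔠L hLP
    apply Module.associatedPrimes.minimalPrimes_annihilator_subset_associatedPrimes R (R ⧸ L)
    rw [Ideal.annihilator_quotient]
    refine ⟨⟨inferInstance, hLP⟩, ?_⟩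
    rintro Q ⟨hQp, hLQ⟩ hQP
    exact hPmin.2 ⟨hQp, h𝔠L.trans hLQ⟩ hQP
  exact Set.disjoint_left.1 hdisj (hass I h𝔠I hIP) (hass J h𝔠J hJP)

end AssMin

end Groth.Agent.Liaison9
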