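import Mathlib
import Groth.Agent.Lib.Liaison2_helper9
import Groth.Agent.Lib.GrSyz_helper1
import Groth.Agent.Lib.GrTor_helper1

/-!
# Liaison III: unmixedness of `𝔠 : I` for homogeneous Gorenstein ideals (helper9)
APPEND-ONLY once landed.
-/

set_option autoImplicit false
universe u

namespace Groth.Agent.Liaison9

open IsLocalRing

section AssColon

variable (R : Type u) [CommRing R] [IsNoetherianRing R]

/-- `Ass (R/(𝔠 : I)) ⊆ Ass (R/𝔠)` -/
theorem ass_colon_subset (𝔠 I : Ideal R) (P : Ideal R)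
    (hP : P ∈ associatedPrimes R (R ⧸ 𝔠.colon (I : Set R))) :
    P ∈ associatedPrimes R (R ⧸ 𝔠) := by
  classical
  obtain ⟨hPp, xb, hx⟩ := (isAssociatedPrime_iff).1 hP
  obtain ⟨x, rfl⟩ := Ideal.Quotient.mk_surjective xb
  obtain ⟨G, hG⟩ := (isNoetherianRing_iff_ideal_fg R).1 inferInstance I
  have hmemP : ∀ a : R, a ∈ P ↔ ∀ f ∈ I, a * x * f ∈ 𝔠 := by
    intro a
    rw [hx, Submodule.mem_colon_singleton, Submodule.mem_bot, ← Ideal.Quotient.mk_eq_mk,
      ← Submodule.Quotient.mk_smul, smul_eq_mul, Submodule.Quotient.mk_eq_zero,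
      Submodule.mem_colon]
    rfl
  set L : R → Ideal R := fun g => 𝔠.colon ({x * g} : Set R) with hLdef
  have hL : ∀ g a, a ∈ L g ↔ a * (x * g) ∈ 𝔠 := by
    intro g a
    rw [hLdef, Submodule.mem_colon_singleton, smul_eq_mul]
  have hinf : G.inf L ≤ P := by
    intro a ha
    rw [hmemP]
    intro f hf
    have hf' : f ∈ Ideal.span (G : Set R) := by rw [hG]; exact hf
    have haG : ∀ g ∈ G, a * (x * g) ∈ 𝔠 := by
      intro g hg
      have := (Finset.inf_le hg : G.inf L ≤ L g) ha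
      exact (hL g a).1 this
    clear hf
    induction hf' using Submodule.span_induction with
    | mem g hg => rw [mul_assoc]; exact haG g hg
    | zero => rw [mul_zero]; exact 𝔠.zero_mem
    | add u v _ _ hu hv => rw [mul_add]; exact 𝔠.add_mem hu hv
    | smul c u _ hu =>
      rw [smul_eq_mul]
      have : a * x * (c * u) = c * (a * x * u) := by ring
      rw [this]
      exact 𝔠.mul_mem_left _ hu
  obtain ⟨g, hgG, hLg⟩ := (Ideal.IsPrime.inf_le' hPp).1 hinf
  have hgI : g ∈ I := by rw [← hG]; exact Ideal.subset_span hgG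
  have hPL : P ≤ L g := by
    intro a ha
    rw [hL, ← mul_assoc]
    exact (hmemP a).1 ha g hgI
  have hPeq : P = L g := le_antisymm hPL hLg
  refine (isAssociatedPrime_iff).2 ⟨hPp, Ideal.Quotient.mk 𝔠 (x * g), ?_⟩
  ext a
  rw [hPeq, hL, Submodule.mem_colon_singleton, Submodule.mem_bot, ← Ideal.Quotient.mk_eq_mk,
    ← Submodule.Quotient.mk_smul, smul_eq_mul, Submodule.Quotient.mk_eq_zero]

end AssColon

end Groth.Agent.Liaison9

namespace Groth.Agent.Liaison9

open IsLocalRing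
open Groth.Agent.GorFlat9

section LemmaF

variable (R : Type u) [CommRing R] [IsNoetherianRing R]

/-- the local ring of `R/𝔠` at a prime `𝔫 ⊇ 𝔠`, as a quotient of `R_𝔫`, is Gorenstein -/
theorem gor_quot_localization' (𝔠 : Ideal R) [hG : LocCoh.IsGorensteinRing (R ⧸ 𝔠)]
    (P : Ideal R) [P.IsPrime] (h𝔠P : 𝔠 ≤ P) :
    LocCoh.IsGorensteinLocalRing
        (Localization.AtPrime P ⧸ 𝔠.map (algebraMap R (Localization.AtPrime P))) := by
  set π : R →+* R ⧸ 𝔠 := Ideal.Quotient.mk 𝔠 with hπ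
  have hπs : Function.Surjective π := Ideal.Quotient.mk_surjective
  have hker : RingHom.ker π = 𝔠 := Ideal.mk_ker
  set Pb : Ideal (R ⧸ 𝔠) := P.map π with hPb
  have hcomap : Pb.comap π = P := by
    rw [hPb, Ideal.comap_map_of_surjective π hπs, ← RingHom.ker_eq_comap_bot, hker,
      sup_eq_left.2 h𝔠P]
  haveI : Pb.IsPrime := Ideal.map_isPrime_of_surjective hπs (by rw [hker]; exact h𝔠P)
  have hT : P.primeCompl.map π = Pb.primeCompl := by
    ext y
    constructor
    · rintro ⟨x, hx, rfl⟩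
      intro hmem
      apply hx
      have : x ∈ Pb.comap π := hmem
      rwa [hcomap] at this
    · intro hy
      obtain ⟨x, rfl⟩ := hπs y
      refine ⟨x, ?_, rfl⟩
      intro hx
      exact hy (Ideal.mem_map_of_mem π hx)
  obtain ⟨e⟩ := Groth.Agent.GorLCI9.nonempty_quot_equiv π hπs P.primeCompl Pb.primeCompl hT
    (Localization.AtPrime P) (Localization.AtPrime Pb)
  rw [hker] at e
  have h1 : LocCoh.IsGorensteinLocalRing (Localization.AtPrime Pb) :=
    hG.isGorensteinLocalRing_localization Pb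
  exact (gorenstein_congr e).2 h1

/-- **dimension formula** for minimal primes of a Gorenstein quotient inside a CM local ring -/
theorem height_add_dim_quot (𝔠 : Ideal R) [hG : LocCoh.IsGorensteinRing (R ⧸ 𝔠)]
    (𝔫 : Ideal R) [𝔫.IsPrime]
    [hCM : LocCoh.IsCohenMacaulayLocalRing (Localization.AtPrime 𝔫)]
    (P : Ideal R) (hP : P ∈ 𝔠.minimalPrimes) (hPn : P ≤ 𝔫) :
    (P.height : WithBot ℕ∞) +
        ringKrullDim (Localization.AtPrime 𝔫 ⧸ 𝔠.map (algebraMap R (Localization.AtPrime 𝔫))) =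
      ringKrullDim (Localization.AtPrime 𝔫) := by
  haveI : P.IsPrime := hP.1.1
  have h𝔠P : 𝔠 ≤ P := hP.1.2
  have h𝔠n : 𝔠 ≤ 𝔫 := h𝔠P.trans hPn
  have hGT := gor_quot_localization' R 𝔠 𝔫 h𝔠n
  set S := Localization.AtPrime 𝔫 with hS
  set cS : Ideal S := 𝔠.map (algebraMap R S) with hcS
  haveI : IsNoetherianRing S := hCM.toIsNoetherian
  haveI := hGT
  have hCMT : LocCoh.IsCohenMacaulayLocalRing (S ⧸ cS) := Groth.Agent.S0341.result _
  haveI : IsLocalRing (S ⧸ cS) := hGT.toIsLocalRing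
  haveI : IsNoetherianRing (S ⧸ cS) := hGT.toIsNoetherian
  have hdisj : Disjoint (𝔫.primeCompl : Set R) (P : Set R) := by
    rw [Set.disjoint_left]
    intro a ha haP
    exact ha (hPn haP)
  set Q : Ideal S := P.map (algebraMap R S) with hQ
  haveI hQp : Q.IsPrime :=
    IsLocalization.isPrime_of_isPrime_disjoint 𝔫.primeCompl S P inferInstance hdisj
  have hQht : Q.height = P.height := IsLocalization.height_map_of_disjoint 𝔫.primeCompl P hdisj
  have hQunder : Q.under R = P :=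
    IsLocalization.under_map_of_isPrime_disjoint 𝔫.primeCompl S inferInstance hdisj
  have hQmin : Q ∈ cS.minimalPrimes := by
    rw [hcS, IsLocalization.minimalPrimes_map 𝔫.primeCompl S 𝔠, Set.mem_preimage, hQunder]
    exact hP
  have hcSQ : cS ≤ Q := hQmin.1.2
  set Qb : Ideal (S ⧸ cS) := Q.map (Ideal.Quotient.mk cS) with hQb
  have hQbmin : Qb ∈ minimalPrimes (S ⧸ cS) := by
    rw [Ideal.minimalPrimes_eq_comap] at hQmin
    obtain ⟨Q', hQ', hQQ'⟩ := hQmin
    have : Q' = Qb := by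
      rw [hQb, ← hQQ', Ideal.map_comap_of_surjective _ Ideal.Quotient.mk_surjective]
    rw [← this]
    exact hQ'
  have hQbass : Qb ∈ associatedPrimes (S ⧸ cS) (S ⧸ cS) := by
    apply Module.associatedPrimes.minimalPrimes_annihilator_subset_associatedPrimes
    rw [Module.annihilator_eq_bot.2 inferInstance]
    exact hQbmin
  have h1 := Groth.Agent.DepthLib.ringKrullDim_quotient_eq_of_isCM (S ⧸ cS)
    hCMT.supportDim_eq_depth Qb hQbass
  rw [Module.supportDim_self_eq_ringKrullDim] at h1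
  have h2 : ringKrullDim ((S ⧸ cS) ⧸ Qb) = ringKrullDim (S ⧸ Q) :=
    ringKrullDim_eq_of_ringEquiv (DoubleQuot.quotQuotEquivQuotOfLE hcSQ)
  have hsupp : Module.support S S = Set.univ := by
    rw [Module.support_eq_zeroLocus, Module.annihilator_eq_bot.2 inferInstance]
    simp
  have h3 := Groth.Agent.CMChain.height_add_ringKrullDim_quotient S S hCM.supportDim_eq_depth
    hsupp Q
  rw [hQht, ← h2, h1] at h3
  exact h3

end LemmaF

end Groth.Agent.Liaison9

namespace Groth.Agent.Liaison9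

open IsLocalRing DirectSum
open Groth.Agent.Lib

section Graded

variable (K : Type u) [Field K] (σ : Type)

theorem mem_irr_of_decompose_zero (x : MvPolynomial σ K)
    (h0 : (decompose (GrSyz.stdGr K σ) x 0 : MvPolynomial σ K) ∈ GrSyzH1.irr K σ) :
    x ∈ GrSyzH1.irr K σ := by
  classical
  rw [← DirectSum.sum_support_decompose (GrSyz.stdGr K σ) x]
  refine Ideal.sum_mem _ (fun i _ => ?_)
  rcases lt_trichotomy i 0 with h | h | h
  · have h1 : ((decompose (GrSyz.stdGr K σ) x i : GrSyz.stdGr K σ i) : MvPolynomial σ K) ∈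
        (⊥ : Submodule K (MvPolynomial σ K)) :=
      (GrSyzH1.stdGr_neg K σ h) ▸ (decompose (GrSyz.stdGr K σ) x i).2
    rw [(Submodule.mem_bot K).1 h1]
    exact Ideal.zero_mem _
  · subst h
    exact h0
  · exact GrSyzH1.mem_irr_of_pos (decompose (GrSyz.stdGr K σ) x i).2 h

/-- proper homogeneous ideals lie in the irrelevant ideal -/
theorem le_irr_of_isHomogeneous (P : Ideal (MvPolynomial σ K))
    (hP : P.IsHomogeneous (GrSyz.stdGr K σ)) (hne : P ≠ ⊤) : P ≤ GrSyzH1.irr K σ := by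
  intro x hx
  by_contra hxm
  have h0P : (decompose (GrSyz.stdGr K σ) x 0 : MvPolynomial σ K) ∈ P := hP 0 hx
  have h0m : (decompose (GrSyz.stdGr K σ) x 0 : MvPolynomial σ K) ∉ GrSyzH1.irr K σ :=
    fun h => hxm (mem_irr_of_decompose_zero K σ x h)
  have hunit := GrSyzH1.isUnit_of_not_mem_irr (decompose (GrSyz.stdGr K σ) x 0).2 h0m
  exact hne (Ideal.eq_top_of_isUnit_mem P h0P hunit)

/-- minimal primes of homogeneous ideals are homogeneous -/
theorem isHomogeneous_of_mem_minimalPrimes (𝔠 P : Ideal (MvPolynomial σ K))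
    (h𝔠 : 𝔠.IsHomogeneous (GrSyz.stdGr K σ)) (hP : P ∈ 𝔠.minimalPrimes) :
    P.IsHomogeneous (GrSyz.stdGr K σ) := by
  have hcore : (P.homogeneousCore (GrSyz.stdGr K σ)).toIdeal.IsPrime :=
    Ideal.IsPrime.homogeneousCore hP.1.1
  have hle : (P.homogeneousCore (GrSyz.stdGr K σ)).toIdeal ≤ P :=
    Ideal.toIdeal_homogeneousCore_le (GrSyz.stdGr K σ) P
  have h𝔠le : 𝔠 ≤ (P.homogeneousCore (GrSyz.stdGr K σ)).toIdeal := by
    rw [← h𝔠.toIdeal_homogeneousCore_eq_self]
    exact Ideal.homogeneousCore_mono (GrSyz.stdGr K σ) hP.1.2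
  have hge := hP.2 ⟨hcore, h𝔠le⟩ hle
  have heq : (P.homogeneousCore (GrSyz.stdGr K σ)).toIdeal = P := le_antisymm hle hge
  rw [← heq]
  exact (P.homogeneousCore (GrSyz.stdGr K σ)).isHomogeneous

end Graded

end Groth.Agent.Liaison9

namespace Groth.Agent.Liaison9

open IsLocalRing DirectSum
open Groth.Agent.Lib

section Main

variable (K : Type u) [Field K] (n : ℕ)

theorem exists_nat_ringKrullDim (T : Type u) [CommRing T] [IsLocalRing T] [IsNoetherianRing T] :
    ∃ r : ℕ, ringKrullDim T = ((r : ℕ∞) : WithBot ℕ∞) := by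
  have h1 : ringKrullDim T ≠ ⊥ := ringKrullDim_ne_bot
  have h2 : ringKrullDim T < ⊤ := ringKrullDim_lt_top
  obtain ⟨d, hd⟩ := WithBot.ne_bot_iff_exists.1 h1
  rw [← hd] at h2
  have h3 : d ≠ ⊤ := by
    intro h
    rw [h] at h2
    exact lt_irrefl _ h2
  obtain ⟨r, hr⟩ := ENat.ne_top_iff_exists.1 h3
  exact ⟨r, by rw [← hd, ← hr]⟩

/-- homogeneous Gorenstein ideals of a polynomial ring are unmixed: all minimal primes have the
same height -/
theorem height_eq_of_mem_minimalPrimes (𝔠 : Ideal (MvPolynomial (Fin (n + 1)) K))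
    (h𝔠 : 𝔠.IsHomogeneous (GrSyz.stdGr K (Fin (n + 1))))
    [LocCoh.IsGorensteinRing (MvPolynomial (Fin (n + 1)) K ⧸ 𝔠)]
    (P : Ideal (MvPolynomial (Fin (n + 1)) K)) (hP : P ∈ 𝔠.minimalPrimes) :
    P.height = 𝔠.height := by
  haveI : LocCoh.IsCohenMacaulayRing K := Groth.Agent.TensorCM.isCMRing_field K
  haveI hRCM : LocCoh.IsCohenMacaulayRing (MvPolynomial (Fin (n + 1)) K) :=
    Groth.Agent.FlatCM.isCMRing_mvPolynomial K (n + 1)
  haveI hmax : (GrSyzH1.irr K (Fin (n + 1))).IsMaximal := GrTorH1.irr_isMaximal K n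
  set m := GrSyzH1.irr K (Fin (n + 1)) with hm
  haveI : m.IsPrime := hmax.isPrime
  haveI hCMm : LocCoh.IsCohenMacaulayLocalRing (Localization.AtPrime m) :=
    hRCM.isCohenMacaulayLocalRing_localization m
  have hle : ∀ Q ∈ 𝔠.minimalPrimes, Q ≤ m := by
    intro Q hQ
    exact le_irr_of_isHomogeneous K (Fin (n + 1)) Q
      (isHomogeneous_of_mem_minimalPrimes K (Fin (n + 1)) 𝔠 Q h𝔠 hQ) hQ.1.1.ne_top
  have hG' := gor_quot_localization' (MvPolynomial (Fin (n + 1)) K) 𝔠 m
    ((hP.1.2).trans (hle P hP))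
  haveI : IsLocalRing (Localization.AtPrime m ⧸
      𝔠.map (algebraMap (MvPolynomial (Fin (n + 1)) K) (Localization.AtPrime m))) :=
    hG'.toIsLocalRing
  haveI : IsNoetherianRing (Localization.AtPrime m ⧸
      𝔠.map (algebraMap (MvPolynomial (Fin (n + 1)) K) (Localization.AtPrime m))) :=
    hG'.toIsNoetherian
  obtain ⟨r, hr⟩ := exists_nat_ringKrullDim (Localization.AtPrime m ⧸
      𝔠.map (algebraMap (MvPolynomial (Fin (n + 1)) K) (Localization.AtPrime m)))
  have key : ∀ Q ∈ 𝔠.minimalPrimes, Q.height = P.height := by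
    intro Q hQ
    have h1 := height_add_dim_quot (MvPolynomial (Fin (n + 1)) K) 𝔠 m Q hQ (hle Q hQ)
    have h2 := height_add_dim_quot (MvPolynomial (Fin (n + 1)) K) 𝔠 m P hP (hle P hP)
    rw [hr] at h1 h2
    have h3 := Groth.Agent.DepthLib.add_nat_cancel r (h1.trans h2.symm)
    exact_mod_cast h3
  rw [Ideal.height_eq_inf_minimalPrimes 𝔠]
  apply le_antisymm
  · exact le_iInf₂ (fun Q hQ => (key Q hQ).ge)
  · exact iInf₂_le P hP

/-- **unmixedness of `𝔠 : I`** -/
theorem unmixed_colon (𝔠 I : Ideal (MvPolynomial (Fin (n + 1)) K))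
    (h𝔠 : 𝔠.IsHomogeneous (GrSyz.stdGr K (Fin (n + 1))))
    [LocCoh.IsGorensteinRing (MvPolynomial (Fin (n + 1)) K ⧸ 𝔠)] (hI𝔠 : ¬ I ≤ 𝔠) :
    (𝔠.colon (I : Set (MvPolynomial (Fin (n + 1)) K))).height = 𝔠.height ∧
      ∀ p ∈ associatedPrimes (MvPolynomial (Fin (n + 1)) K)
        (MvPolynomial (Fin (n + 1)) K ⧸ 𝔠.colon (I : Set (MvPolynomial (Fin (n + 1)) K))),
        p.height = 𝔠.height := by
  have hass : ∀ p ∈ associatedPrimes (MvPolynomial (Fin (n + 1)) K)
        (MvPolynomial (Fin (n + 1)) K ⧸ 𝔠.colon (I : Set (MvPolynomial (Fin (n + 1)) K))),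
        p.height = 𝔠.height := by
    intro p hp
    apply height_eq_of_mem_minimalPrimes K n 𝔠 h𝔠 p
    apply mem_minimalPrimes_of_mem_ass_quot
    exact ass_colon_subset _ 𝔠 I p hp
  refine ⟨?_, hass⟩
  have hne : 𝔠.colon (I : Set (MvPolynomial (Fin (n + 1)) K)) ≠ ⊤ := by
    intro h
    apply hI𝔠
    intro f hf
    have h1 : (1 : MvPolynomial (Fin (n + 1)) K) ∈
        𝔠.colon (I : Set (MvPolynomial (Fin (n + 1)) K)) := by rw [h]; trivial
    have := (Submodule.mem_colon.1 h1) f hf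
    rwa [smul_eq_mul, one_mul] at this
  have hmin : ∀ Q ∈ (𝔠.colon (I : Set (MvPolynomial (Fin (n + 1)) K))).minimalPrimes,
      Q.height = 𝔠.height := by
    intro Q hQ
    apply hass
    apply Module.associatedPrimes.minimalPrimes_annihilator_subset_associatedPrimes
    rw [Ideal.annihilator_quotient]
    exact hQ
  obtain ⟨Q, hQ⟩ := Ideal.nonempty_minimalPrimes hne
  rw [Ideal.height_eq_inf_minimalPrimes]
  apply le_antisymm
  · exact (iInf₂_le Q hQ).trans (hmin Q hQ).le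
  · exact le_iInf₂ (fun Q' hQ' => (hmin Q' hQ').ge)

end Main

end Groth.Agent.Liaison9
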