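import Mathlib
import Groth.Agent.Lib.Liaison3_helper9
import Groth.Agent.Lib.CMQuot_helper5

/-!
# Liaison IV: Cohen–Macaulay versions, basic double links (helper9)
APPEND-ONLY once landed.
-/

set_option autoImplicit false
universe u

namespace Groth.Agent.Liaison9

open IsLocalRing

section CMVersion

variable (R : Type u) [CommRing R] [IsNoetherianRing R]

/-- the local ring of `R/𝔠` at a prime `P ⊇ 𝔠`, as a quotient of `R_P`, is CM -/
theorem cm_quot_localization (𝔠 : Ideal R) [hC : LocCoh.IsCohenMacaulayRing (R ⧸ 𝔠)]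
    (P : Ideal R) [P.IsPrime] (h𝔠P : 𝔠 ≤ P) :
    LocCoh.IsCohenMacaulayLocalRing
        (Localization.AtPrime P ⧸ 𝔠.map (algebraMap R (Localization.AtPrime P))) := by
  set π : R →+* R ⧸ 𝔠 := Ideal.Quotient.mk 𝔠 with hπ
  have hπs : Function.Surjective π := Ideal.Quotient.mk_surjective
  have hker : RingHom.ker π = 𝔠 := Ideal.mk_ker
  set Pb : Ideal (R ⧸ 𝔠) := P.map π with hPb
  have hcomap : Pb.comap π = P := by
    rw [hPb, Ideal.comap_map_of_surjective π hπs, ← RingHom.ker_eq_comap_bot, hker,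
      sup_eq_left.2 h𝔠P]
  haveI : Pb.IsPrime := Ideal.map_isPrime_of_surjective hπs (by rw [hker]; exact h𝔠P)
  have hT : P.primeCompl.map π = Pb.primeCompl := by
    ext y
    constructor
    · rintro ⟨x, hx, rfl⟩
      intro hmem
      apply hx
      have : x ∈ Pb.comap π := hmem
      rwa [hcomap] at this
    · intro hy
      obtain ⟨x, rfl⟩ := hπs y
      refine ⟨x, ?_, rfl⟩
      intro hx
      exact hy (Ideal.mem_map_of_mem π hx)
  obtain ⟨e⟩ := Groth.Agent.GorLCI9.nonempty_quot_equiv π hπs P.primeCompl Pb.primeCompl hT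
    (Localization.AtPrime P) (Localization.AtPrime Pb)
  rw [hker] at e
  haveI h1 : LocCoh.IsCohenMacaulayLocalRing (Localization.AtPrime Pb) :=
    hC.isCohenMacaulayLocalRing_localization Pb
  exact Groth.Agent.FlatCM.isCMLocalRing_of_ringEquiv e.symm

/-- **dimension formula** for minimal primes of a CM quotient inside a CM local ring -/
theorem height_add_dim_quot_cm (𝔠 : Ideal R) (𝔫 : Ideal R) [𝔫.IsPrime]
    [hCM : LocCoh.IsCohenMacaulayLocalRing (Localization.AtPrime 𝔫)]
    (hCMT : LocCoh.IsCohenMacaulayLocalRing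
      (Localization.AtPrime 𝔫 ⧸ 𝔠.map (algebraMap R (Localization.AtPrime 𝔫))))
    (P : Ideal R) (hP : P ∈ 𝔠.minimalPrimes) (hPn : P ≤ 𝔫) :
    (P.height : WithBot ℕ∞) +
        ringKrullDim (Localization.AtPrime 𝔫 ⧸ 𝔠.map (algebraMap R (Localization.AtPrime 𝔫))) =
      ringKrullDim (Localization.AtPrime 𝔫) := by
  haveI : P.IsPrime := hP.1.1
  have h𝔠P : 𝔠 ≤ P := hP.1.2
  have h𝔠n : 𝔠 ≤ 𝔫 := h𝔠P.trans hPn
  set S := Localization.AtPrime 𝔫 with hS
  set cS : Ideal S := 𝔠.map (algebraMap R S) with hcS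
  haveI : IsNoetherianRing S := hCM.toIsNoetherian
  haveI : IsLocalRing (S ⧸ cS) := hCMT.toIsLocalRing
  haveI : IsNoetherianRing (S ⧸ cS) := hCMT.toIsNoetherian
  have hdisj : Disjoint (𝔫.primeCompl : Set R) (P : Set R) := by
    rw [Set.disjoint_left]
    intro a ha haP
    exact ha (hPn haP)
  set Q : Ideal S := P.map (algebraMap R S) with hQ
  haveI hQp : Q.IsPrime :=
    IsLocalization.isPrime_of_isPrime_disjoint 𝔫.primeCompl S P inferInstance hdisj
  have hQht : Q.height = P.height := IsLocalization.height_map_of_disjoint 𝔫.primeCompl P hdisj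
  have hQunder : Q.under R = P :=
    IsLocalization.under_map_of_isPrime_disjoint 𝔫.primeCompl S inferInstance hdisj
  have hQmin : Q ∈ cS.minimalPrimes := by
    rw [hcS, IsLocalization.minimalPrimes_map 𝔫.primeCompl S 𝔠, Set.mem_preimage, hQunder]
    exact hP
  have hcSQ : cS ≤ Q := hQmin.1.2
  set Qb : Ideal (S ⧸ cS) := Q.map (Ideal.Quotient.mk cS) with hQb
  have hQbmin : Qb ∈ minimalPrimes (S ⧸ cS) := by
    rw [Ideal.minimalPrimes_eq_comap] at hQmin
    obtain ⟨Q', hQ', hQQ'⟩ := hQmin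
    have : Q' = Qb := by
      rw [hQb, ← hQQ', Ideal.map_comap_of_surjective _ Ideal.Quotient.mk_surjective]
    rw [← this]
    exact hQ'
  have hQbass : Qb ∈ associatedPrimes (S ⧸ cS) (S ⧸ cS) := by
    apply Module.associatedPrimes.minimalPrimes_annihilator_subset_associatedPrimes
    rw [Module.annihilator_eq_bot.2 inferInstance]
    exact hQbmin
  have h1 := Groth.Agent.DepthLib.ringKrullDim_quotient_eq_of_isCM (S ⧸ cS)
    hCMT.supportDim_eq_depth Qb hQbass
  rw [Module.supportDim_self_eq_ringKrullDim] at h1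
  have h2 : ringKrullDim ((S ⧸ cS) ⧸ Qb) = ringKrullDim (S ⧸ Q) :=
    ringKrullDim_eq_of_ringEquiv (DoubleQuot.quotQuotEquivQuotOfLE hcSQ)
  have hsupp : Module.support S S = Set.univ := by
    rw [Module.support_eq_zeroLocus, Module.annihilator_eq_bot.2 inferInstance]
    simp
  have h3 := Groth.Agent.CMChain.height_add_ringKrullDim_quotient S S hCM.supportDim_eq_depth
    hsupp Q
  rw [hQht, ← h2, h1] at h3
  exact h3

end CMVersion

end Groth.Agent.Liaison9

namespace Groth.Agent.Liaison9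

open IsLocalRing DirectSum
open Groth.Agent.Lib

section GradedCM

variable (K : Type u) [Field K] (n : ℕ)

/-- homogeneous ideals of a polynomial ring with CM quotient are unmixed: all minimal primes have
the same height -/
theorem height_eq_of_mem_minimalPrimes_cm (𝔠 : Ideal (MvPolynomial (Fin (n + 1)) K))
    (h𝔠 : 𝔠.IsHomogeneous (GrSyz.stdGr K (Fin (n + 1))))
    [LocCoh.IsCohenMacaulayRing (MvPolynomial (Fin (n + 1)) K ⧸ 𝔠)]
    (P : Ideal (MvPolynomial (Fin (n + 1)) K)) (hP : P ∈ 𝔠.minimalPrimes) :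
    P.height = 𝔠.height := by
  haveI : LocCoh.IsCohenMacaulayRing K := Groth.Agent.TensorCM.isCMRing_field K
  haveI hRCM : LocCoh.IsCohenMacaulayRing (MvPolynomial (Fin (n + 1)) K) :=
    Groth.Agent.FlatCM.isCMRing_mvPolynomial K (n + 1)
  haveI hmax : (GrSyzH1.irr K (Fin (n + 1))).IsMaximal := GrTorH1.irr_isMaximal K n
  set m := GrSyzH1.irr K (Fin (n + 1)) with hm
  haveI : m.IsPrime := hmax.isPrime
  haveI hCMm : LocCoh.IsCohenMacaulayLocalRing (Localization.AtPrime m) :=
    hRCM.isCohenMacaulayLocalRing_localization m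
  have hle : ∀ Q ∈ 𝔠.minimalPrimes, Q ≤ m := by
    intro Q hQ
    exact le_irr_of_isHomogeneous K (Fin (n + 1)) Q
      (isHomogeneous_of_mem_minimalPrimes K (Fin (n + 1)) 𝔠 Q h𝔠 hQ) hQ.1.1.ne_top
  have hC' := cm_quot_localization (MvPolynomial (Fin (n + 1)) K) 𝔠 m
    ((hP.1.2).trans (hle P hP))
  haveI : IsLocalRing (Localization.AtPrime m ⧸
      𝔠.map (algebraMap (MvPolynomial (Fin (n + 1)) K) (Localization.AtPrime m))) :=
    hC'.toIsLocalRing
  haveI : IsNoetherianRing (Localization.AtPrime m ⧸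
      𝔠.map (algebraMap (MvPolynomial (Fin (n + 1)) K) (Localization.AtPrime m))) :=
    hC'.toIsNoetherian
  obtain ⟨r, hr⟩ := exists_nat_ringKrullDim (Localization.AtPrime m ⧸
      𝔠.map (algebraMap (MvPolynomial (Fin (n + 1)) K) (Localization.AtPrime m)))
  have key : ∀ Q ∈ 𝔠.minimalPrimes, Q.height = P.height := by
    intro Q hQ
    have h1 := height_add_dim_quot_cm (MvPolynomial (Fin (n + 1)) K) 𝔠 m hC' Q hQ (hle Q hQ)
    have h2 := height_add_dim_quot_cm (MvPolynomial (Fin (n + 1)) K) 𝔠 m hC' P hP (hle P hP)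
    rw [hr] at h1 h2
    have h3 := Groth.Agent.DepthLib.add_nat_cancel r (h1.trans h2.symm)
    exact_mod_cast h3
  rw [Ideal.height_eq_inf_minimalPrimes 𝔠]
  apply le_antisymm
  · exact le_iInf₂ (fun Q hQ => (key Q hQ).ge)
  · exact iInf₂_le P hP

end GradedCM

section RegQuot

variable (R : Type u) [CommRing R] [IsNoetherianRing R]

/-- In a CM ring `R` with `R/J` CM and unmixed, the associated primes of `R/(J + fR)` for an
`R/J`-regular `f` have height `ht J + 1`. -/
theorem height_of_ass_quot_regular [hRCM : LocCoh.IsCohenMacaulayRing R] (J : Ideal R)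
    [hJCM : LocCoh.IsCohenMacaulayRing (R ⧸ J)] (f : R) (hJf : J.colon ({f} : Set R) = J)
    (hJmin : ∀ Q ∈ J.minimalPrimes, Q.height = J.height)
    (P : Ideal R) (hP : P ∈ associatedPrimes R (R ⧸ (J ⊔ Ideal.span {f}))) :
    P.height = J.height + 1 := by
  have hLP : J ⊔ Ideal.span {f} ≤ P := le_of_mem_associatedPrimes_quot _ P hP
  have hJP : J ≤ P := le_sup_left.trans hLP
  have hfP : f ∈ P := hLP (Ideal.mem_sup_right (Ideal.mem_span_singleton_self f))
  obtain ⟨hPp, ab, ha⟩ := (isAssociatedPrime_iff).1 hP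
  obtain ⟨a, rfl⟩ := Ideal.Quotient.mk_surjective ab
  haveI := hPp
  have hmemP : ∀ r : R, r ∈ P ↔ r * a ∈ J ⊔ Ideal.span {f} := by
    intro r
    rw [ha, Submodule.mem_colon_singleton, Submodule.mem_bot, ← Ideal.Quotient.mk_eq_mk,
      ← Submodule.Quotient.mk_smul, smul_eq_mul, Submodule.Quotient.mk_eq_zero]
  have hmemL : ∀ y : R, y ∈ J ⊔ Ideal.span {f} ↔ ∃ j ∈ J, ∃ t : R, y = j + t * f := by
    intro y
    rw [Submodule.mem_sup]
    constructor
    · rintro ⟨j, hj, z, hz, rfl⟩
      obtain ⟨t, rfl⟩ := Ideal.mem_span_singleton'.1 hz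
      exact ⟨j, hj, t, rfl⟩
    · rintro ⟨j, hj, t, rfl⟩
      exact ⟨j, hj, t * f, Ideal.mem_span_singleton'.2 ⟨t, rfl⟩, rfl⟩
  set S := Localization.AtPrime P with hS
  haveI hCMS : LocCoh.IsCohenMacaulayLocalRing S := hRCM.isCohenMacaulayLocalRing_localization P
  haveI : IsNoetherianRing S := hCMS.toIsNoetherian
  set JS : Ideal S := J.map (algebraMap R S) with hJS
  have hCMA : LocCoh.IsCohenMacaulayLocalRing (S ⧸ JS) := cm_quot_localization R J P hJP
  haveI := hCMA
  haveI : IsLocalRing (S ⧸ JS) := hCMA.toIsLocalRing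
  haveI : IsNoetherianRing (S ⧸ JS) := hCMA.toIsNoetherian
  set fb : S ⧸ JS := Ideal.Quotient.mk JS (algebraMap R S f) with hfb
  set ab' : S ⧸ JS := Ideal.Quotient.mk JS (algebraMap R S a) with hab
  have hmemJS : ∀ r : R, algebraMap R S r ∈ JS ↔ ∃ u ∈ P.primeCompl, u * r ∈ J :=
    fun r => IsLocalization.algebraMap_mem_map_algebraMap_iff P.primeCompl S J r
  have hunit : ∀ t : P.primeCompl, IsUnit (algebraMap R S (t : R)) :=
    fun t => IsLocalization.map_units S t
  -- elements of `S` whose numerator lies in `JS`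
  have hmk' : ∀ (r : R) (t : P.primeCompl), algebraMap R S r ∈ JS →
      IsLocalization.mk' S r t ∈ JS := by
    intro r t hr
    have : IsLocalization.mk' S r t * algebraMap R S (t : R) = algebraMap R S r :=
      IsLocalization.mk'_spec S r t
    rw [← Ideal.mul_unit_mem_iff_mem JS (hunit t), this]
    exact hr
  have hmax : maximalIdeal (S ⧸ JS) = (maximalIdeal S).map (Ideal.Quotient.mk JS) :=
    (IsLocalRing.map_maximalIdeal_of_surjective _ Ideal.Quotient.mk_surjective).symm
  have hmS : maximalIdeal S = P.map (algebraMap R S) :=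
    (IsLocalization.AtPrime.map_eq_maximalIdeal P S).symm
  have hfbm : fb ∈ maximalIdeal (S ⧸ JS) := by
    rw [hmax, hmS]
    exact Ideal.mem_map_of_mem _ (Ideal.mem_map_of_mem _ hfP)
  -- regularity
  have hreg1 : IsSMulRegular (S ⧸ JS) fb := by
    rw [isSMulRegular_iff_right_eq_zero_of_smul]
    intro x hx
    obtain ⟨s, rfl⟩ := Ideal.Quotient.mk_surjective x
    obtain ⟨r, t, rfl⟩ := IsLocalization.exists_mk'_eq P.primeCompl s
    rw [smul_eq_mul, hfb, ← map_mul, Ideal.Quotient.eq_zero_iff_mem] at hx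
    rw [Ideal.Quotient.eq_zero_iff_mem]
    apply hmk'
    have h1 : algebraMap R S (f * r) ∈ JS := by
      have : algebraMap R S (f * r) =
          algebraMap R S f * IsLocalization.mk' S r t * algebraMap R S (t : R) := by
        rw [mul_assoc, IsLocalization.mk'_spec, map_mul]
      rw [this]
      exact JS.mul_mem_right _ hx
    obtain ⟨u, hu, hur⟩ := (hmemJS _).1 h1
    rw [hmemJS]
    refine ⟨u, hu, ?_⟩
    rw [← hJf, Submodule.mem_colon_singleton, smul_eq_mul]
    have : u * r * f = u * (f * r) := by ring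
    rw [this]
    exact hur
  have hne : (⊤ : Submodule (S ⧸ JS) (S ⧸ JS)) ≠
      Ideal.ofList [fb] • (⊤ : Submodule (S ⧸ JS) (S ⧸ JS)) := by
    rw [Ideal.ofList_singleton, smul_eq_mul, Ideal.mul_top]
    intro h
    have h1 : Ideal.span {fb} ≤ maximalIdeal (S ⧸ JS) :=
      (Ideal.span_singleton_le_iff_mem _).2 hfbm
    rw [← h] at h1
    exact (maximalIdeal.isMaximal (S ⧸ JS)).ne_top (top_le_iff.1 h1)
  have hreg : RingTheory.Sequence.IsRegular (S ⧸ JS) [fb] :=
    ⟨(RingTheory.Sequence.isWeaklyRegular_singleton_iff (S ⧸ JS) fb).2 hreg1, hne⟩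
  -- the socle element
  have hab1 : ab' ∉ Ideal.ofList [fb] := by
    rw [Ideal.ofList_singleton, Ideal.mem_span_singleton']
    rintro ⟨x, hx⟩
    obtain ⟨s, rfl⟩ := Ideal.Quotient.mk_surjective x
    obtain ⟨r, t, rfl⟩ := IsLocalization.exists_mk'_eq P.primeCompl s
    rw [hfb, hab, ← map_mul, Ideal.Quotient.eq, ] at hx
    have h1 : algebraMap R S (r * f - (t : R) * a) ∈ JS := by
      have : algebraMap R S (r * f - (t : R) * a) =
          (IsLocalization.mk' S r t * algebraMap R S f - algebraMap R S a) *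
            algebraMap R S (t : R) := by
        rw [sub_mul, mul_assoc, mul_comm (algebraMap R S f), ← mul_assoc,
          IsLocalization.mk'_spec, map_sub, map_mul, map_mul]
        ring
      rw [this]
      exact JS.mul_mem_right _ hx
    obtain ⟨u, hu, hur⟩ := (hmemJS _).1 h1
    have h2 : u * (t : R) ∈ P := by
      rw [hmemP, hmemL]
      refine ⟨-(u * (r * f - (t : R) * a)), J.neg_mem hur, u * r, ?_⟩
      ring
    rcases hPp.mem_or_mem h2 with h | h
    · exact hu h
    · exact t.2 h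
  have hab2 : ∀ x ∈ maximalIdeal (S ⧸ JS), x * ab' ∈ Ideal.ofList [fb] := by
    intro x hx
    rw [hmax] at hx
    obtain ⟨s, hs, rfl⟩ := (Ideal.mem_map_iff_of_surjective _ Ideal.Quotient.mk_surjective).1 hx
    rw [hmS] at hs
    obtain ⟨r, t, rfl⟩ := IsLocalization.exists_mk'_eq P.primeCompl s
    have hrP : r ∈ P := by
      have h1 : algebraMap R S r ∈ P.map (algebraMap R S) := by
        rw [← IsLocalization.mk'_spec S r t]
        exact Ideal.mul_mem_right _ _ hs
      obtain ⟨u, hu, hur⟩ :=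
        (IsLocalization.algebraMap_mem_map_algebraMap_iff P.primeCompl S P r).1 h1
      rcases hPp.mem_or_mem hur with h | h
      · exact absurd h hu
      · exact h
    obtain ⟨j, hj, c, hc⟩ := (hmemL _).1 ((hmemP r).1 hrP)
    rw [Ideal.ofList_singleton, Ideal.mem_span_singleton']
    refine ⟨Ideal.Quotient.mk JS (IsLocalization.mk' S c t), ?_⟩
    rw [hfb, hab, ← map_mul, ← map_mul, Ideal.Quotient.eq]
    have h1 : (IsLocalization.mk' S c t * algebraMap R S f -
        IsLocalization.mk' S r t * algebraMap R S a) * algebraMap R S (t : R) =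
        algebraMap R S (-j) := by
      rw [sub_mul, mul_assoc, mul_comm (algebraMap R S f), ← mul_assoc, IsLocalization.mk'_spec,
        mul_assoc, mul_comm (algebraMap R S a), ← mul_assoc, IsLocalization.mk'_spec,
        ← map_mul, ← map_mul, ← map_sub]
      congr 1
      rw [hc]
      ring
    rw [← Ideal.mul_unit_mem_iff_mem JS (hunit t), h1]
    exact Ideal.mem_map_of_mem _ (J.neg_mem hj)
  have h0 := Groth.Agent.CMQuot.ringKrullDim_quot_eq_zero [fb] hreg ab' hab1 hab2
  have h1 := ringKrullDim_add_length_eq_ringKrullDim_of_isRegular [fb] hreg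
  rw [h0, List.length_singleton] at h1
  obtain ⟨Q, hQ, hQP⟩ := Ideal.exists_minimalPrimes_le hJP
  have h2 := height_add_dim_quot_cm R J P hCMA Q hQ hQP
  rw [← h1, IsLocalization.AtPrime.ringKrullDim_eq_height P S, hJmin Q hQ] at h2
  have h3 : J.height + 1 = P.height := by
    have : ((J.height : ℕ∞) : WithBot ℕ∞) + (0 + ((1 : ℕ) : WithBot ℕ∞)) =
        ((J.height + 1 : ℕ∞) : WithBot ℕ∞) := by
      rw [zero_add]
      rfl
    rw [this] at h2
    exact_mod_cast h2
  exact h3.symm

end RegQuot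

end Groth.Agent.Liaison9

namespace Groth.Agent.Liaison9

open IsLocalRing

section BDL

variable (R : Type u) [CommRing R]

/-- multiplication by `f` as a map `R/I → R/(J + fI)` -/
noncomputable def bdlMul (J I : Ideal R) (f : R) : (R ⧸ I) →ₗ[R] (R ⧸ (J ⊔ Ideal.span {f} * I)) :=
  Submodule.liftQ I ((Submodule.mkQ (J ⊔ Ideal.span {f} * I)).comp
    (LinearMap.toSpanSingleton R R f)) (by
      intro i hi
      rw [LinearMap.mem_ker, LinearMap.comp_apply, LinearMap.toSpanSingleton_apply, smul_eq_mul,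
        Submodule.mkQ_apply, Submodule.Quotient.mk_eq_zero]
      apply Ideal.mem_sup_right
      rw [mul_comm i f]
      exact Ideal.mul_mem_mul (Ideal.mem_span_singleton_self f) hi)

theorem bdlMul_mk (J I : Ideal R) (f : R) (r : R) :
    bdlMul R J I f (Submodule.Quotient.mk r) = Submodule.Quotient.mk (r * f) := by
  show Submodule.liftQ I _ _ (Submodule.Quotient.mk r) = _
  rw [Submodule.liftQ_apply]
  rfl

theorem bdlMul_injective (J I : Ideal R) (f : R) (hJI : J ≤ I)
    (hJf : J.colon ({f} : Set R) = J) : Function.Injective (bdlMul R J I f) := by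
  rw [injective_iff_map_eq_zero]
  intro z hz
  obtain ⟨r, rfl⟩ := Submodule.Quotient.mk_surjective I z
  rw [bdlMul_mk, Submodule.Quotient.mk_eq_zero, Submodule.mem_sup] at hz
  obtain ⟨j, hj, y, hy, hjy⟩ := hz
  obtain ⟨i, hi, rfl⟩ := Ideal.mem_span_singleton_mul.1 hy
  rw [Submodule.Quotient.mk_eq_zero]
  have h1 : r - i ∈ J := by
    rw [← hJf, Submodule.mem_colon_singleton, smul_eq_mul]
    have : (r - i) * f = j := by
      rw [sub_mul, ← hjy]
      ring
    rw [this]
    exact hj
  have : r = (r - i) + i := by ring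
  rw [this]
  exact I.add_mem (hJI h1) hi

/-- the projection `R/(J + fI) → R/(J + fR)` -/
noncomputable def bdlProj (J I : Ideal R) (f : R) :
    (R ⧸ (J ⊔ Ideal.span {f} * I)) →ₗ[R] (R ⧸ (J ⊔ Ideal.span {f})) :=
  Submodule.mapQ (J ⊔ Ideal.span {f} * I) (J ⊔ Ideal.span {f}) LinearMap.id (by
    rw [Submodule.comap_id]
    exact sup_le le_sup_left (Ideal.mul_le_left.trans le_sup_right))

theorem bdlProj_mk (J I : Ideal R) (f : R) (r : R) :
    bdlProj R J I f (Submodule.Quotient.mk r) = Submodule.Quotient.mk r := by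
  rw [bdlProj, Submodule.mapQ_apply]
  rfl

theorem bdl_exact (J I : Ideal R) (f : R) :
    Function.Exact (bdlMul R J I f) (bdlProj R J I f) := by
  intro z
  obtain ⟨r, rfl⟩ := Submodule.Quotient.mk_surjective _ z
  rw [bdlProj_mk, Submodule.Quotient.mk_eq_zero, Submodule.mem_sup]
  constructor
  · rintro ⟨j, hj, y, hy, rfl⟩
    obtain ⟨t, rfl⟩ := Ideal.mem_span_singleton'.1 hy
    refine ⟨Submodule.Quotient.mk t, ?_⟩
    rw [bdlMul_mk, Submodule.Quotient.eq]
    have : t * f - (j + t * f) = -j := by ring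
    rw [this]
    exact Ideal.mem_sup_left (J.neg_mem hj)
  · rintro ⟨w, hw⟩
    obtain ⟨t, rfl⟩ := Submodule.Quotient.mk_surjective _ w
    rw [bdlMul_mk, Submodule.Quotient.eq] at hw
    obtain ⟨j, hj, y, hy, hjy⟩ := Submodule.mem_sup.1 hw
    obtain ⟨i, hi, rfl⟩ := Ideal.mem_span_singleton_mul.1 hy
    refine ⟨-j, J.neg_mem hj, t * f - f * i, ?_, ?_⟩
    · rw [Ideal.mem_span_singleton']
      exact ⟨t - i, by ring⟩
    · have : r = t * f - (j + f * i) := by rw [hjy]; ring
      rw [this]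
      ring

end BDL

section BDLMain

variable (K : Type u) [Field K] (n : ℕ)

/-- **basic double links preserve unmixedness** -/
theorem unmixed_bdl_iff (J I : Ideal (MvPolynomial (Fin (n + 1)) K))
    (hJ : J.IsHomogeneous (GrSyz.stdGr K (Fin (n + 1)))) (hJI : J ≤ I)
    [LocCoh.IsCohenMacaulayRing (MvPolynomial (Fin (n + 1)) K ⧸ J)]
    (f : MvPolynomial (Fin (n + 1)) K) (hJf : J.colon ({f} : Set (MvPolynomial (Fin (n + 1)) K)) = J) :
    (∀ p ∈ associatedPrimes (MvPolynomial (Fin (n + 1)) K) (MvPolynomial (Fin (n + 1)) K ⧸ I),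
        p.height = J.height + 1) ↔
      ∀ p ∈ associatedPrimes (MvPolynomial (Fin (n + 1)) K)
        (MvPolynomial (Fin (n + 1)) K ⧸ (J ⊔ Ideal.span {f} * I)), p.height = J.height + 1 := by
  haveI : LocCoh.IsCohenMacaulayRing K := Groth.Agent.TensorCM.isCMRing_field K
  haveI hRCM : LocCoh.IsCohenMacaulayRing (MvPolynomial (Fin (n + 1)) K) :=
    Groth.Agent.FlatCM.isCMRing_mvPolynomial K (n + 1)
  constructor
  · intro h p hp
    rcases associatedPrimes.subset_union_of_exact
      (bdlMul_injective _ J I f hJI hJf) (bdl_exact _ J I f) hp with h1 | h1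
    · exact h p h1
    · exact height_of_ass_quot_regular _ J f hJf
        (fun Q hQ => height_eq_of_mem_minimalPrimes_cm K n J hJ Q hQ) p h1
  · intro h p hp
    exact h p (associatedPrimes.subset_of_injective (bdlMul_injective _ J I f hJI hJf) hp)

end BDLMain

end Groth.Agent.Liaison9
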