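import Mathlib
import Groth.Agent.Lib.Liaison4_helper9
import Groth.Agent.Lib.LCDelta0_helper7
import Groth.Agent.Lib.LocCohLES2_helper7
import Groth.Agent.Lib.LocCohDepth_helper7
import Groth.Agent.Lib.LocCohCM_helper7
import Groth.Agent.Lib.DepthRingChange_helper5
import Groth.Agent.Lib.DepthLoc_helper5
import Groth.Agent.Lib.CISat_helper9

/-!
# Liaison V: local cohomology of basic double links (helper9)
APPEND-ONLY once landed.
-/

set_option autoImplicit false
universe u

namespace Groth.Agent.Liaison9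

open CategoryTheory CategoryTheory.Limits Opposite
open Groth.Agent.Lib.LocCohLESH7 Groth.Agent.Lib.LCDelta0H7

section LCIso

variable {R : Type u} [CommRing R] [IsNoetherianRing R] (I : Ideal R)
variable {S : ShortComplex (ModuleCat.{u} R)} (hS : S.ShortExact)

include hS in
theorem lc_bijective_zero
    (h0 : Subsingleton ((localCohomology I 0).obj S.X₃ : ModuleCat.{u} R)) :
    Function.Bijective ((localCohomology I 0).map S.f).hom := by
  have hf := hf_ hS
  have hfg := hfg_ hS
  constructor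
  · rw [injective_iff_map_eq_zero]
    intro m hm
    apply Ψ_injective I S.X₁
    rw [map_zero]
    apply hf
    rw [← Ψ_nat, hm, map_zero, map_zero]
  · intro m₂
    have hgy : S.g.hom ((Ψ I S.X₂).hom m₂) = 0 := by
      rw [← Ψ_nat, h0.elim (((localCohomology I 0).map S.g).hom m₂) 0, map_zero]
    obtain ⟨a, ha⟩ := (hfg _).1 hgy
    obtain ⟨n, hn⟩ := Ψ_mem I S.X₂ m₂
    have hators : a ∈ DRing.torsionSub I S.X₁ := ⟨n, fun r hr => by
      apply hf
      rw [map_smul, ha, map_zero]
      exact hn r hr⟩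
    obtain ⟨m₁, hm₁⟩ := Ψ_surj I S.X₁ a hators
    refine ⟨m₁, ?_⟩
    apply Ψ_injective I S.X₂
    rw [Ψ_nat, hm₁, ha]

include hS in
theorem lc_bijective_one
    (h0 : Subsingleton ((localCohomology I 0).obj S.X₃ : ModuleCat.{u} R))
    (h1 : Subsingleton ((localCohomology I 1).obj S.X₃ : ModuleCat.{u} R)) :
    Function.Bijective ((localCohomology I 1).map S.f).hom := by
  constructor
  · rw [injective_iff_map_eq_zero]
    intro m hm
    have hex := exact₁0 I hS
    rw [ShortComplex.moduleCat_exact_iff] at hex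
    obtain ⟨q, hq⟩ := hex m hm
    have hq0 : q = 0 := by
      obtain ⟨z, hz⟩ := Ψ_surj I S.X₃ q.1 q.2
      have hz0 : z = 0 := h0.elim _ _
      apply Subtype.ext
      rw [← hz, hz0, map_zero]
      rfl
    rw [← hq, hq0, map_zero]
  · intro m
    exact exact_middle I hS 0 m (h1.elim _ _)

include hS in
theorem lc_bijective_succ (p : ℕ)
    (h0 : Subsingleton ((localCohomology I (p + 1)).obj S.X₃ : ModuleCat.{u} R))
    (h1 : Subsingleton ((localCohomology I (p + 2)).obj S.X₃ : ModuleCat.{u} R)) :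
    Function.Bijective ((localCohomology I (p + 2)).map S.f).hom := by
  constructor
  · exact injective_of_subsingleton I hS p h0
  · intro m
    exact exact_middle I hS (p + 1) m (h1.elim _ _)

include hS in
theorem lc_bijective (i : ℕ)
    (hv : ∀ j : ℕ, j ≤ i → i ≤ j + 1 →
      Subsingleton ((localCohomology I j).obj S.X₃ : ModuleCat.{u} R)) :
    Function.Bijective ((localCohomology I i).map S.f).hom := by
  rcases i with _ | _ | p
  · exact lc_bijective_zero I hS (hv 0 le_rfl (by omega))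
  · exact lc_bijective_one I hS (hv 0 (by omega) (by omega)) (hv 1 le_rfl (by omega))
  · exact lc_bijective_succ I hS p (hv (p + 1) (by omega) (by omega))
      (hv (p + 2) le_rfl (by omega))

/-- local cohomology isomorphism from a short exact sequence whose third term has vanishing
local cohomology in degrees `i - 1` and `i` -/
theorem nonempty_lc_equiv {A B C : Type u} [AddCommGroup A] [Module R A] [AddCommGroup B]
    [Module R B] [AddCommGroup C] [Module R C] (f : A →ₗ[R] B) (g : B →ₗ[R] C)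
    (hf : Function.Injective f) (hg : Function.Surjective g) (hfg : Function.Exact f g) (i : ℕ)
    (hv : ∀ j : ℕ, j ≤ i → i ≤ j + 1 → Subsingleton (LocCoh.H I j C)) :
    Nonempty (LocCoh.H I i A ≃ₗ[R] LocCoh.H I i B) := by
  have hS := Groth.Agent.DepthLib.shortComplexOf_shortExact f g hf hg hfg
  have hb := lc_bijective I hS i hv
  exact ⟨LinearEquiv.ofBijective _ hb⟩

end LCIso

end Groth.Agent.Liaison9

namespace Groth.Agent.Liaison9

open IsLocalRing
open Groth.Agent.Lib

section Depth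

variable (K : Type u) [Field K] (n : ℕ)

theorem irr_eq_cisat : GrSyzH1.irr K (Fin (n + 1)) = Groth.Agent.CISat.irr K (n + 1) := by
  have hle : Groth.Agent.CISat.irr K (n + 1) ≤ GrSyzH1.irr K (Fin (n + 1)) := by
    apply Groth.Agent.CISat.irr_le_of_X_mem
    intro i
    exact GrSyzH1.mem_irr_of_pos (e := 1)
      (MvPolynomial.isWeightedHomogeneous_X K (fun _ : Fin (n + 1) => (1 : ℤ)) i) one_pos
  exact (Ideal.IsMaximal.eq_of_le inferInstance
    (fun h => GrSyzH1.one_not_mem_irr ((Ideal.eq_top_iff_one _).1 h)) hle).symm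

theorem le_height_irr : ((n + 1 : ℕ) : ℕ∞) ≤ (GrSyzH1.irr K (Fin (n + 1))).height := by
  rw [irr_eq_cisat]
  exact Groth.Agent.CISat.le_height_irr K (n + 1)

end Depth

section DepthQuot

variable (R : Type u) [CommRing R] [IsNoetherianRing R]

/-- depth of a CM quotient with respect to a maximal ideal -/
theorem le_idealDepth_quot (m : Ideal R) [hm : m.IsMaximal]
    [hCMm : LocCoh.IsCohenMacaulayLocalRing (Localization.AtPrime m)]
    (J : Ideal R) [LocCoh.IsCohenMacaulayRing (R ⧸ J)] (hJm : J ≤ m)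
    (Q : Ideal R) (hQ : Q ∈ J.minimalPrimes) (hQm : Q ≤ m) (D : ℕ)
    (hD : (D : ℕ∞) + Q.height ≤ m.height) :
    (D : ℕ∞) ≤ LocCoh.idealDepth m (R ⧸ J) := by
  apply Groth.Agent.DepthLib.le_idealDepth_of_forall_localization m D (R ⧸ J)
  intro p hp hmp
  have hpm : m = p := hm.eq_of_le hp.ne_top hmp
  subst hpm
  set S := Localization.AtPrime m with hS
  haveI : IsNoetherianRing S := hCMm.toIsNoetherian
  set JS : Ideal S := J.map (algebraMap R S) with hJS
  have hCMT : LocCoh.IsCohenMacaulayLocalRing (S ⧸ JS) := cm_quot_localization R J m hJm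
  haveI : IsLocalRing (S ⧸ JS) := hCMT.toIsLocalRing
  haveI : IsNoetherianRing (S ⧸ JS) := hCMT.toIsNoetherian
  -- the localized module is `S ⧸ JS`
  let e₀ : (S ⧸ J.localized' S m.primeCompl (Algebra.linearMap R S)) ≃ₗ[R]
      LocalizedModule m.primeCompl (R ⧸ J) :=
    IsLocalizedModule.linearEquiv m.primeCompl
      (J.toLocalizedQuotient' S m.primeCompl (Algebra.linearMap R S))
      (LocalizedModule.mkLinearMap m.primeCompl (R ⧸ J))
  let e₁ : (S ⧸ J.localized' S m.primeCompl (Algebra.linearMap R S)) ≃ₗ[S]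
      LocalizedModule m.primeCompl (R ⧸ J) :=
    LinearEquiv.extendScalarsOfIsLocalization m.primeCompl S e₀
  have hJ' : J.localized' S m.primeCompl (Algebra.linearMap R S) = JS :=
    Ideal.localized'_eq_map S m.primeCompl J
  let e₂ : (S ⧸ JS) ≃ₗ[S] LocalizedModule m.primeCompl (R ⧸ J) :=
    (Submodule.quotEquivOfEq _ _ hJ'.symm).trans e₁
  unfold LocCoh.depth
  rw [← Groth.Agent.DepthLib.idealDepth_congr _ _ e₂]
  -- change of rings
  haveI : IsLocalHom (algebraMap S (S ⧸ JS)) :=
    IsLocalHom.of_surjective _ Ideal.Quotient.mk_surjective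
  have h1 := Groth.Agent.DepthLib.depth_eq_of_isLocalHom S (S ⧸ JS) (S ⧸ JS)
  unfold LocCoh.depth at h1
  rw [h1]
  -- CM: depth = dim
  have h2 : ringKrullDim (S ⧸ JS) =
      ((LocCoh.depth (S ⧸ JS) (S ⧸ JS) : ℕ∞) : WithBot ℕ∞) := by
    rw [← Module.supportDim_self_eq_ringKrullDim]
    exact hCMT.supportDim_eq_depth
  have h3 := height_add_dim_quot_cm R J m hCMT Q hQ hQm
  rw [IsLocalization.AtPrime.ringKrullDim_eq_height m S, h2] at h3
  unfold LocCoh.depth at h3
  have h4 : Q.height + LocCoh.idealDepth (maximalIdeal (S ⧸ JS)) (S ⧸ JS) = m.height := by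
    exact_mod_cast h3
  -- arithmetic
  have hQfin : Q.height ≠ ⊤ := by
    haveI := hQ.1.1
    exact Ideal.height_ne_top_of_isPrime
  rw [← h4, add_comm] at hD
  exact (ENat.add_le_add_iff_left hQfin).1 hD

end DepthQuot

end Groth.Agent.Liaison9

namespace Groth.Agent.Liaison9

open IsLocalRing
open Groth.Agent.Lib

section BDLLC

open scoped Pointwise in
/-- `R/(J + fR)` is `(R/J)/f(R/J)` -/
noncomputable def quotSupEquiv (R : Type u) [CommRing R] (J : Ideal R) (f : R) :
    QuotSMulTop f (R ⧸ J) ≃ₗ[R] (R ⧸ (J ⊔ Ideal.span {f})) :=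
  (Submodule.quotEquivOfEq _ _ (by
    ext x
    obtain ⟨r, rfl⟩ := Submodule.Quotient.mk_surjective J x
    rw [Submodule.mem_smul_pointwise_iff_exists, Submodule.mem_map]
    constructor
    · rintro ⟨s, -, hs⟩
      obtain ⟨t, rfl⟩ := Submodule.Quotient.mk_surjective J s
      exact ⟨f * t, Ideal.mem_span_singleton'.2 ⟨t, mul_comm _ _⟩, hs⟩
    · rintro ⟨y, hy, hyr⟩
      obtain ⟨t, rfl⟩ := Ideal.mem_span_singleton'.1 hy
      refine ⟨Submodule.Quotient.mk t, trivial, ?_⟩
      rw [← hyr, mul_comm]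
      rfl)).trans
    (Submodule.quotientQuotientEquivQuotientSup J (Ideal.span {f}))

variable (K : Type u) [Field K] (n : ℕ)

/-- depth of `R/(J + fR)` with respect to the irrelevant ideal -/
theorem le_idealDepth_quot_sup (h : ℕ) (J : Ideal (MvPolynomial (Fin (n + 1)) K))
    (hJ : J.IsHomogeneous (GrSyz.stdGr K (Fin (n + 1)))) (hJh : J.height = h)
    [LocCoh.IsCohenMacaulayRing (MvPolynomial (Fin (n + 1)) K ⧸ J)]
    (f : MvPolynomial (Fin (n + 1)) K) (d : ℤ) (hf : f ∈ GrSyz.stdGr K (Fin (n + 1)) d)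
    (hJf : J.colon ({f} : Set (MvPolynomial (Fin (n + 1)) K)) = J) (hhn : h ≤ n) :
    ((n - h : ℕ) : ℕ∞) ≤ LocCoh.idealDepth (GrSyzH1.irr K (Fin (n + 1)))
      (MvPolynomial (Fin (n + 1)) K ⧸ (J ⊔ Ideal.span {f})) := by
  by_cases hfm : f ∈ GrSyzH1.irr K (Fin (n + 1))
  · haveI : LocCoh.IsCohenMacaulayRing K := Groth.Agent.TensorCM.isCMRing_field K
    haveI hRCM : LocCoh.IsCohenMacaulayRing (MvPolynomial (Fin (n + 1)) K) :=
      Groth.Agent.FlatCM.isCMRing_mvPolynomial K (n + 1)
    haveI hmax : (GrSyzH1.irr K (Fin (n + 1))).IsMaximal := GrTorH1.irr_isMaximal K n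
    set m := GrSyzH1.irr K (Fin (n + 1)) with hm
    haveI : m.IsPrime := hmax.isPrime
    haveI hCMm : LocCoh.IsCohenMacaulayLocalRing (Localization.AtPrime m) :=
      hRCM.isCohenMacaulayLocalRing_localization m
    have hJtop : J ≠ ⊤ := by
      intro h'
      rw [h', Ideal.height_top] at hJh
      exact ENat.top_ne_natCast h hJh
    have hJm : J ≤ m := le_irr_of_isHomogeneous K (Fin (n + 1)) J hJ hJtop
    obtain ⟨Q, hQ, hQm'⟩ := Ideal.exists_minimalPrimes_le hJm
    have hQh : Q.height = h := by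
      rw [height_eq_of_mem_minimalPrimes_cm K n J hJ Q hQ, hJh]
    have hD : ((n + 1 - h : ℕ) : ℕ∞) + Q.height ≤ m.height := by
      rw [hQh]
      refine le_trans ?_ (le_height_irr K n)
      have : n + 1 - h + h = n + 1 := by omega
      exact_mod_cast this.le
    have h1 := le_idealDepth_quot (MvPolynomial (Fin (n + 1)) K) m J hJm Q hQ hQm' (n + 1 - h) hD
    have hreg : IsSMulRegular (MvPolynomial (Fin (n + 1)) K ⧸ J) f := by
      rw [isSMulRegular_iff_right_eq_zero_of_smul]
      intro x hx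
      obtain ⟨r, rfl⟩ := Submodule.Quotient.mk_surjective J x
      rw [← Submodule.Quotient.mk_smul, Submodule.Quotient.mk_eq_zero, smul_eq_mul] at hx
      rw [Submodule.Quotient.mk_eq_zero, ← hJf, Submodule.mem_colon_singleton, smul_eq_mul,
        mul_comm]
      exact hx
    have h2 : ((n - h + 1 : ℕ) : ℕ∞) ≤
        LocCoh.idealDepth m (MvPolynomial (Fin (n + 1)) K ⧸ J) := by
      have : n - h + 1 = n + 1 - h := by omega
      rw [this]
      exact h1
    have h3 := (Groth.Agent.DepthLib.le_idealDepth_quotSMulTop_iff m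
      (MvPolynomial (Fin (n + 1)) K ⧸ J) hfm hreg (n - h)).2 h2
    rw [Groth.Agent.DepthLib.idealDepth_congr _ _
      (quotSupEquiv (MvPolynomial (Fin (n + 1)) K) J f)] at h3
    exact h3
  · have hunit := GrSyzH1.isUnit_of_not_mem_irr hf hfm
    have htop : J ⊔ Ideal.span {f} = ⊤ :=
      Ideal.eq_top_of_isUnit_mem _ (Ideal.mem_sup_right (Ideal.mem_span_singleton_self f)) hunit
    haveI : Subsingleton (MvPolynomial (Fin (n + 1)) K ⧸ (J ⊔ Ideal.span {f})) := by
      rw [htop]
      exact Submodule.Quotient.subsingleton_iff.2 rfl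
    rw [Groth.Agent.Lib.LocCohCMH7.idealDepth_eq_top_of_subsingleton]
    exact le_top

/-- **local cohomology of a basic double link** -/
theorem lc_bdl (h : ℕ) (J I : Ideal (MvPolynomial (Fin (n + 1)) K))
    (hJ : J.IsHomogeneous (GrSyz.stdGr K (Fin (n + 1)))) (hJI : J ≤ I) (hJh : J.height = h)
    [LocCoh.IsCohenMacaulayRing (MvPolynomial (Fin (n + 1)) K ⧸ J)]
    (f : MvPolynomial (Fin (n + 1)) K) (d : ℤ) (hf : f ∈ GrSyz.stdGr K (Fin (n + 1)) d)
    (hJf : J.colon ({f} : Set (MvPolynomial (Fin (n + 1)) K)) = J) (i : ℕ) (hi : i + h < n) :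
    Nonempty (LocCoh.H (GrSyzH1.irr K (Fin (n + 1))) i
        (MvPolynomial (Fin (n + 1)) K ⧸ (J ⊔ Ideal.span {f} * I)) ≃ₗ[MvPolynomial (Fin (n + 1)) K]
      LocCoh.H (GrSyzH1.irr K (Fin (n + 1))) i (MvPolynomial (Fin (n + 1)) K ⧸ I)) := by
  have hdepth := le_idealDepth_quot_sup K n h J hJ hJh f d hf hJf (by omega)
  have hv := (Groth.Agent.Lib.LocCohCMH7.vanishing_iff_le_depth (GrSyzH1.irr K (Fin (n + 1)))
    (MvPolynomial (Fin (n + 1)) K ⧸ (J ⊔ Ideal.span {f})) (n - h)).2 hdepth
  have hsurj : Function.Surjective (bdlProj (MvPolynomial (Fin (n + 1)) K) J I f) := by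
    intro y
    obtain ⟨r, rfl⟩ := Submodule.Quotient.mk_surjective _ y
    exact ⟨Submodule.Quotient.mk r, bdlProj_mk _ J I f r⟩
  obtain ⟨e⟩ := nonempty_lc_equiv (GrSyzH1.irr K (Fin (n + 1)))
    (bdlMul (MvPolynomial (Fin (n + 1)) K) J I f) (bdlProj (MvPolynomial (Fin (n + 1)) K) J I f)
    (bdlMul_injective _ J I f hJI hJf) hsurj (bdl_exact _ J I f) i
    (fun j hj _ => hv j (by omega))
  exact ⟨e.symm⟩

end BDLLC

end Groth.Agent.Liaison9
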