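import Mathlib
import Groth.Agent.Lib.InjDimLocal_helper5
import Groth.Agent.Lib.Liaison5_helper9
import Groth.Agent.Lib.ExtDev_helper5
import Groth.Agent.Lib.Depth_helper5
import Groth.Agent.Lib.Gorenstein_helper5
import Groth.Agent.Lib.CM_helper5
import Groth.Agent.Lib.DepthRingChange_helper5
import Groth.Agent.Lib.FlatCM_helper9

/-!
# Linkage by a Gorenstein local ring (helper9)
APPEND-ONLY once landed.

`A` Gorenstein local, `I` an ideal with `A/I` Cohen–Macaulay of dimension `dim A`, `J = 0 : I`.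
* `Ext^i(A/I, A) = 0` for `i > 0`;
* for an `A`-regular sequence `xs`: `J + (xs) = ((xs) : I)`, `J ∩ (xs) = (xs) J`, `xs` is regular on `A/I`
  and on `A/J`;
* `A/J` is Cohen–Macaulay of dimension `dim A`.
-/

set_option autoImplicit false
set_option maxHeartbeats 400000
universe u
open CategoryTheory CategoryTheory.Limits Abelian IsLocalRing RingTheory.Sequence

namespace Groth.Agent.Link9

open Groth.Agent.TorLES Groth.Agent.Lib.RegFlat3 Groth.Agent.GlDim Groth.Agent.InjDimLocal
  Groth.Agent.ExtDev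

section ExtVanish

variable {A : Type u} [CommRing A] [IsLocalRing A] [IsNoetherianRing A]

/-- Ischebeck-type vanishing for cyclic modules: if `M` has injective dimension `≤ n` and `xs` is a
weakly regular sequence on `A/I` in the maximal ideal then `Ext^i(A/I, M) = 0` for
`i + length xs > n`. -/
theorem ext_quot_subsingleton_of_regular (M : Type u) [AddCommGroup M] [Module A M]
    [Module.Finite A M] (n : ℕ)
    (hM : HasInjectiveDimensionLT (ModuleCat.of A M) (n + 1)) :
    ∀ (xs : List A) (I : Ideal A), IsWeaklyRegular (A ⧸ I) xs →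
      (∀ x ∈ xs, x ∈ maximalIdeal A) → ∀ i, n + 1 ≤ i + xs.length →
      Subsingleton (Ext (ModuleCat.of A (A ⧸ I)) (ModuleCat.of A M) i) := by
  intro xs
  induction xs with
  | nil =>
    intro I _ _ i hi
    rw [List.length_nil, add_zero] at hi
    refine ⟨fun a b => ?_⟩
    have key : ∀ e : Ext (ModuleCat.of A (A ⧸ I)) (ModuleCat.of A M) i, e = 0 := fun e =>
      (hasInjectiveDimensionLT_iff (X := ModuleCat.of A M) (n := n + 1)).mp hM i hi e
    rw [key a, key b]
  | cons x xs ih =>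
    intro I hreg hmem i hi
    rw [isWeaklyRegular_cons_iff] at hreg
    have hxm : x ∈ maximalIdeal A := hmem x List.mem_cons_self
    have hinj : Function.Injective (LinearMap.lsmul A (A ⧸ I) x) := hreg.1
    have hsub := ih (I ⊔ Ideal.span {x})
      (((Groth.Agent.Liaison9.quotSupEquiv A I x).isWeaklyRegular_congr xs).mp hreg.2)
      (fun y hy => hmem y (List.mem_cons_of_mem _ hy)) (i + 1) (by
        rw [List.length_cons] at hi; omega)
    have hall := ext_le_smul_of_regular (ModuleCat.of A M) I x hinj i hsub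
    haveI : Module.Finite A (ModuleCat.of A (A ⧸ I)) :=
      inferInstanceAs (Module.Finite A (A ⧸ I))
    haveI : Module.Finite A (ModuleCat.of A M) := inferInstanceAs (Module.Finite A M)
    have hfin : Module.Finite A (Ext (ModuleCat.of A (A ⧸ I)) (ModuleCat.of A M) i) :=
      ModuleCat.finite_ext A _ _ i
    have hbot : (⊤ : Submodule A (Ext (ModuleCat.of A (A ⧸ I)) (ModuleCat.of A M) i)) = ⊥ := by
      apply Submodule.eq_bot_of_le_smul_of_le_jacobson_bot (maximalIdeal A) _ hfin.fg_top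
      · intro e _
        obtain ⟨e', rfl⟩ := hall e
        exact Submodule.smul_mem_smul hxm trivial
      · exact IsLocalRing.maximalIdeal_le_jacobson ⊥
    exact (Submodule.subsingleton_iff A).mp (subsingleton_of_bot_eq_top hbot.symm)

end ExtVanish

section Lift

variable {A : Type u} [CommRing A]

/-- the quotient map `A/K → A/K'` for `K ≤ K'` -/
noncomputable abbrev fac (K K' : Ideal A) (h : K ≤ K') : (A ⧸ K) →ₗ[A] (A ⧸ K') :=
  Submodule.mapQ K K' LinearMap.id (by rwa [Submodule.comap_id])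

theorem fac_mk (K K' : Ideal A) (h : K ≤ K') (a : A) :
    fac K K' h (Submodule.Quotient.mk a) = Submodule.Quotient.mk a := rfl

theorem fac_comp (K K₁ K' : Ideal A) (h1 : K ≤ K₁) (h2 : K₁ ≤ K') :
    (fac K₁ K' h2) ∘ₗ (fac K K₁ h1) = fac K K' (h1.trans h2) := by
  apply Submodule.linearMap_qext
  ext
  rfl

/-- if `Ext^i(X, A/K) = 0` for `i ≥ 1` and `xs` is weakly regular on `A/K` then the same holds for
`A/(K + (xs))` and `Hom(X, A/K) → Hom(X, A/(K + (xs)))` is surjective. -/
theorem ext_quot_sup_ofList (X : ModuleCat.{u} A) :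
    ∀ (xs : List A) (K K' : Ideal A) (hK : K' = K ⊔ Ideal.ofList xs), IsWeaklyRegular (A ⧸ K) xs →
      (∀ i, 1 ≤ i → Subsingleton (Ext X (ModuleCat.of A (A ⧸ K)) i)) →
      (∀ i, 1 ≤ i → Subsingleton (Ext X (ModuleCat.of A (A ⧸ K')) i)) ∧
      ∀ g : X ⟶ ModuleCat.of A (A ⧸ K'), ∃ g' : X ⟶ ModuleCat.of A (A ⧸ K),
        g' ≫ ModuleCat.ofHom (fac K K' (hK ▸ le_sup_left)) = g := by
  intro xs
  induction xs with
  | nil =>
    intro K K' hK _ h
    rw [Ideal.ofList_nil, sup_bot_eq] at hK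
    subst hK
    refine ⟨h, fun g => ⟨g, ?_⟩⟩
    have : fac K' K' le_rfl = LinearMap.id := by
      apply Submodule.linearMap_qext
      ext
      rfl
    rw [this]
    rfl
  | cons x xs ih =>
    intro K K' hK hreg h
    rw [isWeaklyRegular_cons_iff] at hreg
    have hinj : Function.Injective (LinearMap.lsmul A (A ⧸ K) x) := hreg.1
    have hex := exact_lsmul_mapQ K x
    have hS := mk_shortExact (LinearMap.lsmul A (A ⧸ K) x) (qmap K x) hinj hex (qmap_surjective K x)
    have hK1 : K' = (K ⊔ Ideal.span {x}) ⊔ Ideal.ofList xs := by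
      rw [hK, Ideal.ofList_cons, sup_assoc]
    have h1 : ∀ i, 1 ≤ i → Subsingleton (Ext X (ModuleCat.of A (A ⧸ (K ⊔ Ideal.span {x}))) i) := by
      intro i hi
      exact Groth.Agent.DepthLib.ext_sub_right hS X i (h i hi) (h (i + 1) (by omega))
    obtain ⟨h2, h3⟩ := ih (K ⊔ Ideal.span {x}) K' hK1
      (((Groth.Agent.Liaison9.quotSupEquiv A K x).isWeaklyRegular_congr xs).mp hreg.2) h1
    refine ⟨h2, fun g => ?_⟩
    obtain ⟨g₁, hg₁⟩ := h3 g
    obtain ⟨e₂, he₂⟩ : ∃ e₂ : Ext X (ModuleCat.of A (A ⧸ K)) 0,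
        e₂.comp (Ext.mk₀ (ModuleCat.ofHom (qmap K x))) (add_zero 0) = Ext.mk₀ g₁ :=
      Ext.covariant_sequence_exact₃ X hS (Ext.mk₀ g₁) (rfl : 0 + 1 = 1)
        (@Subsingleton.elim _ (h 1 le_rfl) _ _)
    obtain ⟨g', rfl⟩ := (Ext.mk₀_bijective X (ModuleCat.of A (A ⧸ K))).2 e₂
    refine ⟨g', ?_⟩
    have h4 : g' ≫ ModuleCat.ofHom (qmap K x) = g₁ := by
      apply (Ext.mk₀_bijective X _).1
      rw [← Ext.mk₀_comp_mk₀]
      exact he₂
    have h5 : ModuleCat.ofHom (fac K K' (hK ▸ le_sup_left)) =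
        ModuleCat.ofHom (qmap K x) ≫
          ModuleCat.ofHom (fac (K ⊔ Ideal.span {x}) K' (hK1 ▸ le_sup_left)) := by
      rw [← ModuleCat.ofHom_comp]
      congr 1
      exact (fac_comp K (K ⊔ Ideal.span {x}) K' le_sup_left (hK1 ▸ le_sup_left)).symm
    rw [h5, ← Category.assoc, h4, hg₁]

end Lift

section Colon

variable {A : Type u} [CommRing A] (I : Ideal A)

/-- `(K + (xs)) : I = (K : I) + (xs)` when `Ext^i(A/I, A/K) = 0` for `i ≥ 1` and `xs` is weakly regular
on `A/K`. -/
theorem colon_sup_ofList (xs : List A) (K : Ideal A) (hreg : IsWeaklyRegular (A ⧸ K) xs)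
    (h : ∀ i, 1 ≤ i → Subsingleton (Ext (ModuleCat.of A (A ⧸ I)) (ModuleCat.of A (A ⧸ K)) i)) :
    (K ⊔ Ideal.ofList xs).colon (I : Set A) = K.colon (I : Set A) ⊔ Ideal.ofList xs := by
  apply le_antisymm
  · intro a ha
    rw [Submodule.mem_colon] at ha
    have hg₀ : I ≤ LinearMap.ker ((Submodule.mkQ (K ⊔ Ideal.ofList xs)).comp
        (LinearMap.mulLeft A a)) := by
      intro p hp
      rw [LinearMap.mem_ker, LinearMap.comp_apply, LinearMap.mulLeft_apply, Submodule.mkQ_apply,
        Submodule.Quotient.mk_eq_zero]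
      exact ha p hp
    obtain ⟨g', hg'⟩ := (ext_quot_sup_ofList (ModuleCat.of A (A ⧸ I)) xs K
      (K ⊔ Ideal.ofList xs) rfl hreg h).2 (ModuleCat.ofHom (Submodule.liftQ I _ hg₀))
    obtain ⟨b, hb⟩ := Submodule.Quotient.mk_surjective K
      (g'.hom (Submodule.Quotient.mk (1 : A) : A ⧸ I))
    have hbI : b ∈ K.colon (I : Set A) := by
      rw [Submodule.mem_colon]
      intro p hp
      have h1 : (Submodule.Quotient.mk (b • p) : A ⧸ K) = 0 := by
        rw [smul_eq_mul, mul_comm, ← smul_eq_mul, Submodule.Quotient.mk_smul, hb, ← map_smul,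
          ← Submodule.Quotient.mk_smul, smul_eq_mul, mul_one,
          (Submodule.Quotient.mk_eq_zero I).mpr hp, map_zero]
      exact (Submodule.Quotient.mk_eq_zero K).mp h1
    have hab : a - b ∈ K ⊔ Ideal.ofList xs := by
      have h1 := congrArg (fun φ => φ.hom (Submodule.Quotient.mk (1 : A) : A ⧸ I)) hg'
      simp only [ModuleCat.hom_comp, ModuleCat.hom_ofHom, LinearMap.comp_apply] at h1
      rw [← hb, fac_mk, Submodule.liftQ_apply, LinearMap.comp_apply, LinearMap.mulLeft_apply,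
        mul_one, Submodule.mkQ_apply, eq_comm, Submodule.Quotient.eq] at h1
      exact h1
    have e : a = b + (a - b) := by ring
    rw [e]
    exact Submodule.add_mem _ (Submodule.mem_sup_left hbI)
      ((sup_le_sup_right Ideal.le_colon _ :
        K ⊔ Ideal.ofList xs ≤ K.colon (I : Set A) ⊔ Ideal.ofList xs) hab)
  · apply sup_le
    · exact Submodule.colon_mono le_sup_left subset_rfl
    · exact le_trans le_sup_right Ideal.le_colon

/-- a weakly regular sequence on `A/K` stays weakly regular on `A/(K : I)` when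
`Ext^i(A/I, A/K) = 0` for `i ≥ 1`. -/
theorem isWeaklyRegular_quot_colon (xs : List A) : ∀ (K : Ideal A), IsWeaklyRegular (A ⧸ K) xs →
    (∀ i, 1 ≤ i → Subsingleton (Ext (ModuleCat.of A (A ⧸ I)) (ModuleCat.of A (A ⧸ K)) i)) →
    IsWeaklyRegular (A ⧸ K.colon (I : Set A)) xs := by
  induction xs with
  | nil => intro K _ _; exact IsWeaklyRegular.nil A _
  | cons x xs ih =>
    intro K hreg h
    have hreg' := hreg
    rw [isWeaklyRegular_cons_iff] at hreg
    have hx1 : IsWeaklyRegular (A ⧸ K) [x] := by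
      rw [isWeaklyRegular_cons_iff]
      exact ⟨hreg.1, IsWeaklyRegular.nil A _⟩
    have hK1 : K ⊔ Ideal.span {x} = K ⊔ Ideal.ofList [x] := by rw [Ideal.ofList_singleton]
    have h1 := (ext_quot_sup_ofList (ModuleCat.of A (A ⧸ I)) [x] K (K ⊔ Ideal.span {x}) hK1 hx1 h).1
    have h2 := ih (K ⊔ Ideal.span {x})
      (((Groth.Agent.Liaison9.quotSupEquiv A K x).isWeaklyRegular_congr xs).mp hreg.2) h1
    have h3 : (K ⊔ Ideal.span {x}).colon (I : Set A) = K.colon (I : Set A) ⊔ Ideal.span {x} := by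
      rw [hK1, colon_sup_ofList I [x] K hx1 h, Ideal.ofList_singleton]
    rw [h3] at h2
    rw [isWeaklyRegular_cons_iff]
    refine ⟨?_, ((Groth.Agent.Liaison9.quotSupEquiv A (K.colon (I : Set A)) x).isWeaklyRegular_congr
      xs).mpr h2⟩
    rw [isSMulRegular_iff_right_eq_zero_of_smul]
    intro y hy
    obtain ⟨a, rfl⟩ := Submodule.Quotient.mk_surjective _ y
    rw [← Submodule.Quotient.mk_smul, Submodule.Quotient.mk_eq_zero, Submodule.mem_colon] at hy
    rw [Submodule.Quotient.mk_eq_zero, Submodule.mem_colon]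
    intro p hp
    have h4 := hy p hp
    have h5 : x • (Submodule.Quotient.mk (a • p) : A ⧸ K) = 0 := by
      rw [← Submodule.Quotient.mk_smul, Submodule.Quotient.mk_eq_zero]
      have : x • a • p = (x • a) • p := by simp [mul_assoc]
      rw [this]
      exact h4
    have h6 := (isSMulRegular_iff_right_eq_zero_of_smul.mp hreg.1) _ h5
    exact (Submodule.Quotient.mk_eq_zero K).mp h6

/-- `J ∩ (xs) = (xs) J` when `xs` is weakly regular on `A/J`. -/
theorem inf_ofList_le_mul (xs : List A) : ∀ J : Ideal A, IsWeaklyRegular (A ⧸ J) xs →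
    J ⊓ Ideal.ofList xs ≤ Ideal.ofList xs * J := by
  induction xs with
  | nil =>
    intro J _
    rw [Ideal.ofList_nil, inf_bot_eq]
    exact bot_le
  | cons x xs ih =>
    intro J hreg a ha
    rw [isWeaklyRegular_cons_iff] at hreg
    obtain ⟨haJ, hax⟩ := ha
    rw [Ideal.ofList_cons] at hax
    obtain ⟨y, hy, c, hc, rfl⟩ := Submodule.mem_sup.mp hax
    obtain ⟨b, rfl⟩ := Ideal.mem_span_singleton'.mp hy
    have hc1 : c ∈ (J ⊔ Ideal.span {x}) ⊓ Ideal.ofList xs := by
      refine ⟨?_, hc⟩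
      have : c = (b * x + c) - b * x := by ring
      rw [this]
      exact Submodule.sub_mem _ (Submodule.mem_sup_left haJ)
        (Submodule.mem_sup_right (Ideal.mem_span_singleton'.mpr ⟨b, rfl⟩))
    have hc2 := ih (J ⊔ Ideal.span {x})
      (((Groth.Agent.Liaison9.quotSupEquiv A J x).isWeaklyRegular_congr xs).mp hreg.2) hc1
    rw [Ideal.mul_sup] at hc2
    obtain ⟨cJ, hcJ, c₂, hc₂, rfl⟩ := Submodule.mem_sup.mp hc2
    obtain ⟨z, hz, rfl⟩ := Ideal.mem_mul_span_singleton.mp hc₂
    have hcJ' : cJ ∈ J := (Ideal.mul_le_right : Ideal.ofList xs * J ≤ J) hcJ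
    have h1 : (b + z) * x ∈ J := by
      have : (b + z) * x = (b * x + (cJ + z * x)) - cJ := by ring
      rw [this]
      exact Submodule.sub_mem _ haJ hcJ'
    have h2 : b + z ∈ J := by
      have h5 : x • (Submodule.Quotient.mk (b + z) : A ⧸ J) = 0 := by
        rw [← Submodule.Quotient.mk_smul, Submodule.Quotient.mk_eq_zero, smul_eq_mul, mul_comm]
        exact h1
      exact (Submodule.Quotient.mk_eq_zero J).mp
        ((isSMulRegular_iff_right_eq_zero_of_smul.mp hreg.1) _ h5)
    have e : b * x + (cJ + z * x) = x * (b + z) + cJ := by ring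
    rw [e, Ideal.ofList_cons]
    refine Submodule.add_mem _ ?_ ?_
    · exact Ideal.mul_mem_mul (Submodule.mem_sup_left (Ideal.mem_span_singleton_self x)) h2
    · exact Ideal.mul_mono_left le_sup_right hcJ

theorem inf_ofList_eq_mul (xs : List A) (J : Ideal A) (hreg : IsWeaklyRegular (A ⧸ J) xs) :
    J ⊓ Ideal.ofList xs = Ideal.ofList xs * J :=
  le_antisymm (inf_ofList_le_mul xs J hreg) (le_inf Ideal.mul_le_right Ideal.mul_le_left)

end Colon

section Main

open Groth.Agent.DepthLib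

/-- a CM quotient ring is a CM module over the ambient local ring -/
theorem isCM_quot_of_ring {A : Type u} [CommRing A] [IsLocalRing A] [IsNoetherianRing A]
    (I : Ideal A) [hCM : LocCoh.IsCohenMacaulayLocalRing (A ⧸ I)] :
    LocCoh.IsCohenMacaulayModule A (A ⧸ I) := by
  unfold LocCoh.IsCohenMacaulayModule
  haveI : IsLocalHom (algebraMap A (A ⧸ I)) :=
    IsLocalHom.of_surjective _ Ideal.Quotient.mk_surjective
  rw [depth_eq_of_isLocalHom A (A ⧸ I) (A ⧸ I), ← hCM.supportDim_eq_depth,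
    Module.supportDim_self_eq_ringKrullDim, Module.supportDim_quotient_eq_ringKrullDim]

variable (A : Type u) [CommRing A] [hG : LocCoh.IsGorensteinLocalRing A]

/-- a Gorenstein local ring has dimension `d`, injective dimension `≤ d` and depth `d`. -/
theorem exists_dim : ∃ d : ℕ, ringKrullDim A = ((d : ℕ∞) : WithBot ℕ∞) ∧
    HasInjectiveDimensionLT (ModuleCat.of A A) (d + 1) ∧
    LocCoh.idealDepth (maximalIdeal A) A = d := by
  obtain ⟨t, ht⟩ := Groth.Agent.Gor.depth_exists A
  have h1 := Groth.Agent.Gor.dim_eq_depth t A hG.exists_hasInjectiveDimensionLT ht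
  exact ⟨t, h1, Groth.Agent.Gor.injDim_le_dim_local A hG.exists_hasInjectiveDimensionLT t h1.le, ht⟩

theorem isCM_self : LocCoh.IsCohenMacaulayModule A A := by
  obtain ⟨d, h1, _, h3⟩ := exists_dim A
  unfold LocCoh.IsCohenMacaulayModule LocCoh.depth
  rw [Module.supportDim_self_eq_ringKrullDim, h1, h3]

variable (I : Ideal A) (hI : ringKrullDim (A ⧸ I) = ringKrullDim A)
  [hCM : LocCoh.IsCohenMacaulayLocalRing (A ⧸ I)]

include hI in
/-- an `A`-regular sequence is regular on the maximal CM module `A/I` -/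
theorem isWeaklyRegular_quot (xs : List A) (hreg : IsWeaklyRegular A xs)
    (hmem : ∀ x ∈ xs, x ∈ maximalIdeal A) : IsWeaklyRegular (A ⧸ I) xs := by
  have hCMI := isCM_quot_of_ring I
  rw [(isCM_list xs (A ⧸ I) hCMI hmem).1]
  have h1 := ((isCM_list xs A (isCM_self A) hmem).1).mp hreg
  have h2 := supportDim_le_supportDim_quot_ofList_add_length xs (A ⧸ I) hmem
  have hle : (Ideal.ofList xs • ⊤ : Submodule A A) ≤
      (Ideal.ofList xs • ⊤ : Submodule A (A ⧸ I)).comap (Submodule.mkQ I) := by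
    rw [← Submodule.map_le_iff_le_comap, Submodule.map_smul'']
    exact Submodule.smul_mono le_rfl le_top
  have h3 : Module.supportDim A ((A ⧸ I) ⧸ (Ideal.ofList xs • ⊤ : Submodule A (A ⧸ I))) ≤
      Module.supportDim A (A ⧸ (Ideal.ofList xs • ⊤ : Submodule A A)) := by
    apply Module.supportDim_le_of_surjective (Submodule.mapQ _ _ (Submodule.mkQ I) hle)
    intro y
    obtain ⟨y, rfl⟩ := Submodule.Quotient.mk_surjective _ y
    obtain ⟨a, rfl⟩ := Submodule.Quotient.mk_surjective _ y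
    exact ⟨Submodule.Quotient.mk a, rfl⟩
  apply le_antisymm
  · calc Module.supportDim A ((A ⧸ I) ⧸ (Ideal.ofList xs • ⊤ : Submodule A (A ⧸ I))) + xs.length
        ≤ Module.supportDim A (A ⧸ (Ideal.ofList xs • ⊤ : Submodule A A)) + xs.length :=
          add_le_add_left h3 _
      _ = Module.supportDim A A := h1
      _ = Module.supportDim A (A ⧸ I) := by
          rw [Module.supportDim_self_eq_ringKrullDim, Module.supportDim_quotient_eq_ringKrullDim, hI]
  · exact h2

/-- a maximal regular sequence of `A` -/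
theorem exists_regular_seq : ∃ (d : ℕ) (ys : List A), ringKrullDim A = ((d : ℕ∞) : WithBot ℕ∞) ∧
    HasInjectiveDimensionLT (ModuleCat.of A A) (d + 1) ∧ IsWeaklyRegular A ys ∧
    (∀ y ∈ ys, y ∈ maximalIdeal A) ∧ ys.length = d := by
  obtain ⟨d, h1, h2, h3⟩ := exists_dim A
  have h4 : (d : ℕ∞) ≤ LocCoh.idealDepth (maximalIdeal A) A := h3.ge
  rw [le_idealDepth_iff] at h4
  rcases h4 with htop | ⟨ys, hys, hmem, hlen⟩
  · exfalso
    rw [smul_eq_mul, Ideal.mul_top] at htop
    exact (maximalIdeal.isMaximal A).ne_top htop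
  · exact ⟨d, ys, h1, h2, hys, hmem, hlen⟩

include hI in
/-- `Ext^i(A/I, A) = 0` for `i ≥ 1`. -/
theorem ext_quot_self_subsingleton (i : ℕ) (hi : 1 ≤ i) :
    Subsingleton (Ext (ModuleCat.of A (A ⧸ I)) (ModuleCat.of A A) i) := by
  obtain ⟨d, ys, h1, h2, hys, hmem, hlen⟩ := exists_regular_seq A
  exact ext_quot_subsingleton_of_regular A d h2 ys I (isWeaklyRegular_quot A I hI ys hys hmem)
    hmem i (by omega)

include hI in
theorem ext_quot_bot_subsingleton (i : ℕ) (hi : 1 ≤ i) :
    Subsingleton (Ext (ModuleCat.of A (A ⧸ I)) (ModuleCat.of A (A ⧸ (⊥ : Ideal A))) i) :=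
  subsingleton_of_iso_right _
    (Submodule.quotEquivOfEqBot (⊥ : Ideal A) rfl).symm.toModuleIso i
    (ext_quot_self_subsingleton A I hI i hi)

include hI in
/-- **linkage and regular sequences** -/
theorem linkage_regular (xs : List A) (hreg : IsWeaklyRegular A xs)
    (hmem : ∀ x ∈ xs, x ∈ maximalIdeal A) :
    IsWeaklyRegular (A ⧸ I) xs ∧ IsWeaklyRegular (A ⧸ Submodule.annihilator I) xs ∧
      Submodule.annihilator I ⊔ Ideal.ofList xs = (Ideal.ofList xs).colon (I : Set A) ∧
      Submodule.annihilator I ⊓ Ideal.ofList xs = Ideal.ofList xs * Submodule.annihilator I := by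
  have hbot : IsWeaklyRegular (A ⧸ (⊥ : Ideal A)) xs :=
    ((Submodule.quotEquivOfEqBot (⊥ : Ideal A) rfl).isWeaklyRegular_congr xs).mpr hreg
  have h1 := colon_sup_ofList I xs ⊥ hbot (ext_quot_bot_subsingleton A I hI)
  have h2 := isWeaklyRegular_quot_colon I xs ⊥ hbot (ext_quot_bot_subsingleton A I hI)
  rw [Submodule.bot_colon] at h1 h2
  rw [bot_sup_eq] at h1
  exact ⟨isWeaklyRegular_quot A I hI xs hreg hmem, h2, h1.symm, inf_ofList_eq_mul xs _ h2⟩

include hI in
/-- **Peskine–Szpiro**: the residual `A/(0 : I)` is Cohen–Macaulay of dimension `dim A`. -/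
theorem isCM_quot_annihilator (hJ : Submodule.annihilator I ≠ ⊤) :
    LocCoh.IsCohenMacaulayLocalRing (A ⧸ Submodule.annihilator I) ∧
      ringKrullDim (A ⧸ Submodule.annihilator I) = ringKrullDim A := by
  obtain ⟨d, ys, h1, h2, hys, hmem, hlen⟩ := exists_regular_seq A
  obtain ⟨-, h3, -, -⟩ := linkage_regular A I hI ys hys hmem
  haveI : Nontrivial (A ⧸ Submodule.annihilator I) := Ideal.Quotient.nontrivial_iff.mpr hJ
  haveI : IsLocalRing (A ⧸ Submodule.annihilator I) :=
    IsLocalRing.of_surjective' (Ideal.Quotient.mk _) Ideal.Quotient.mk_surjective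
  haveI : IsLocalHom (algebraMap A (A ⧸ Submodule.annihilator I)) :=
    IsLocalHom.of_surjective _ Ideal.Quotient.mk_surjective
  have h4 : (d : ℕ∞) ≤ LocCoh.depth A (A ⧸ Submodule.annihilator I) := by
    unfold LocCoh.depth
    rw [le_idealDepth_iff]
    exact Or.inr ⟨ys, h3, hmem, hlen⟩
  rw [depth_eq_of_isLocalHom A (A ⧸ Submodule.annihilator I) (A ⧸ Submodule.annihilator I)] at h4
  have h5 := Groth.Agent.FlatCM.depth_le_dim (A ⧸ Submodule.annihilator I)
  have h6 : ringKrullDim (A ⧸ Submodule.annihilator I) ≤ ringKrullDim A :=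
    ringKrullDim_le_of_surjective (Ideal.Quotient.mk _) Ideal.Quotient.mk_surjective
  rw [h1] at h6
  have h7 : ((d : ℕ∞) : WithBot ℕ∞) ≤ ((LocCoh.depth (A ⧸ Submodule.annihilator I)
      (A ⧸ Submodule.annihilator I) : ℕ∞) : WithBot ℕ∞) := WithBot.coe_le_coe.mpr h4
  have h8 : ringKrullDim (A ⧸ Submodule.annihilator I) = ((d : ℕ∞) : WithBot ℕ∞) :=
    le_antisymm h6 (h7.trans h5)
  refine ⟨⟨?_⟩, h8.trans h1.symm⟩
  rw [Module.supportDim_self_eq_ringKrullDim]
  exact le_antisymm (h8.le.trans h7) h5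

end Main

end Groth.Agent.Link9
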