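import Mathlib
import Groth.Agent.Lib.Link1_helper9
import Groth.Agent.Lib.CMEquiv_helper3
import Groth.Agent.Lib.CMChain_helper5

/-!
# Linkage in a Gorenstein ring preserves the Cohen–Macaulay property (helper9)
APPEND-ONLY once landed.
-/

set_option autoImplicit false
set_option maxHeartbeats 400000
universe u
open IsLocalRing

namespace Groth.Agent.Link9

section ColonLoc

/-- colon ideals commute with localisation -/
theorem map_colon {R : Type u} [CommRing R] [IsNoetherianRing R] (M : Submonoid R) (S : Type u)
    [CommRing S] [Algebra R S] [IsLocalization M S] (𝔠 I : Ideal R) :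
    (𝔠.colon (I : Set R)).map (algebraMap R S) =
      (𝔠.map (algebraMap R S)).colon ((I.map (algebraMap R S) : Ideal S) : Set S) := by
  apply le_antisymm
  · rw [Ideal.map_le_iff_le_comap]
    intro a ha
    have hspan : I.map (algebraMap R S) = Ideal.span (algebraMap R S '' I) := rfl
    rw [Ideal.mem_comap, hspan, Ideal.colon_span, Submodule.mem_colon]
    rintro _ ⟨i, hi, rfl⟩
    rw [smul_eq_mul, ← map_mul]
    exact Ideal.mem_map_of_mem _ (Submodule.mem_colon.mp ha i hi)
  · intro x hx
    obtain ⟨r, s, rfl⟩ := IsLocalization.exists_mk'_eq M x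
    have h : ∀ j ∈ I, algebraMap R S (r * j) ∈ 𝔠.map (algebraMap R S) := by
      intro j hj
      have h1 := Submodule.mem_colon.mp hx (algebraMap R S j) (Ideal.mem_map_of_mem _ hj)
      have h2 := Ideal.mul_mem_left _ (algebraMap R S s) h1
      rw [smul_eq_mul, ← mul_assoc, IsLocalization.mk'_spec', ← map_mul] at h2
      exact h2
    obtain ⟨u, hu, hur⟩ := Groth.Agent.Liaison9.exists_mul_mem_colon M S 𝔠 I r h
    rw [IsLocalization.mk'_mem_map_algebraMap_iff]
    exact ⟨u, hu, hur⟩

/-- annihilators of ideals commute with localisation -/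
theorem map_annihilator {R : Type u} [CommRing R] [IsNoetherianRing R] (M : Submonoid R)
    (S : Type u) [CommRing S] [Algebra R S] [IsLocalization M S] (I : Ideal R) :
    (Submodule.annihilator I).map (algebraMap R S) =
      Submodule.annihilator (I.map (algebraMap R S)) := by
  have := map_colon M S ⊥ I
  rwa [Submodule.bot_colon, Ideal.map_bot, Submodule.bot_colon] at this

end ColonLoc

section Global

/-- a Gorenstein local ring is Cohen–Macaulay -/
theorem isCMLocalRing_of_gorenstein (A : Type u) [CommRing A]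
    [hG : LocCoh.IsGorensteinLocalRing A] : LocCoh.IsCohenMacaulayLocalRing A :=
  { supportDim_eq_depth := isCM_self A }

/-- a quotient ring is CM if its localisations, written as quotients of the localisations of the
ambient ring, are CM -/
theorem isCMRing_quot_of_forall (S : Type u) [CommRing S] [IsNoetherianRing S] (J : Ideal S)
    (h : ∀ (Q : Ideal S) [Q.IsPrime], J ≤ Q → LocCoh.IsCohenMacaulayLocalRing
      (Localization.AtPrime Q ⧸ J.map (algebraMap S (Localization.AtPrime Q)))) :
    LocCoh.IsCohenMacaulayRing (S ⧸ J) := by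
  refine { isCohenMacaulayLocalRing_localization := fun q hq => ?_ }
  set π : S →+* S ⧸ J := Ideal.Quotient.mk J with hπ
  have hπs : Function.Surjective π := Ideal.Quotient.mk_surjective
  have hker : RingHom.ker π = J := Ideal.mk_ker
  set Q : Ideal S := q.comap π with hQ
  haveI : Q.IsPrime := Ideal.comap_isPrime π q
  have hJQ : J ≤ Q := by
    rw [← hker]
    exact Ideal.comap_mono bot_le
  have hT : Q.primeCompl.map π = q.primeCompl := by
    ext y
    constructor
    · rintro ⟨x, hx, rfl⟩
      exact hx
    · intro hy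
      obtain ⟨x, rfl⟩ := hπs y
      exact ⟨x, hy, rfl⟩
  obtain ⟨e⟩ := Groth.Agent.GorLCI9.nonempty_quot_equiv π hπs Q.primeCompl q.primeCompl hT
    (Localization.AtPrime Q) (Localization.AtPrime q)
  rw [hker] at e
  exact Groth.Agent.Lib.CMEquivH3.isCohenMacaulayLocalRing_of_ringEquiv e (h Q hJQ)

/-- **Peskine–Szpiro, global form**: in a Gorenstein ring `S`, if `S/I` is Cohen–Macaulay and the
minimal primes of `I` are minimal primes of `S`, then `S/(0 : I)` is Cohen–Macaulay. -/
theorem isCMRing_quot_annihilator (S : Type u) [CommRing S] [hG : LocCoh.IsGorensteinRing S]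
    (I : Ideal S) [hCM : LocCoh.IsCohenMacaulayRing (S ⧸ I)]
    (hmin : ∀ P ∈ I.minimalPrimes, P ∈ minimalPrimes S) :
    LocCoh.IsCohenMacaulayRing (S ⧸ Submodule.annihilator I) := by
  haveI : IsNoetherianRing S := hG.toIsNoetherian
  apply isCMRing_quot_of_forall
  intro Q _ hJQ
  have hJne : (Submodule.annihilator I).map (algebraMap S (Localization.AtPrime Q)) ≠ ⊤ := by
    rw [IsLocalization.map_algebraMap_ne_top_iff_disjoint Q.primeCompl, Set.disjoint_left]
    intro x hx hxJ
    exact hx (hJQ hxJ)
  rw [map_annihilator Q.primeCompl (Localization.AtPrime Q)] at hJne ⊢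
  haveI hGQ := hG.isGorensteinLocalRing_localization Q
  haveI : IsNoetherianRing (Localization.AtPrime Q) := hGQ.toIsNoetherian
  by_cases hIQ : I ≤ Q
  · haveI := Groth.Agent.Liaison9.cm_quot_localization S I Q hIQ
    obtain ⟨P, hP, hPQ⟩ := Ideal.exists_minimalPrimes_le hIQ
    haveI : P.IsPrime := hP.1.1
    have hPmin := hmin P hP
    have hdisj : Disjoint (Q.primeCompl : Set S) P := by
      rw [Set.disjoint_left]
      intro x hx hxP
      exact hx (hPQ hxP)
    haveI hP' : (P.map (algebraMap S (Localization.AtPrime Q))).IsPrime :=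
      IsLocalization.isPrime_of_isPrime_disjoint Q.primeCompl _ P inferInstance hdisj
    have hP'min : P.map (algebraMap S (Localization.AtPrime Q)) ∈
        minimalPrimes (Localization.AtPrime Q) := by
      have h1 := IsLocalization.minimalPrimes_map Q.primeCompl (Localization.AtPrime Q)
        (⊥ : Ideal S)
      rw [Ideal.map_bot] at h1
      change _ ∈ (⊥ : Ideal (Localization.AtPrime Q)).minimalPrimes
      rw [h1, Set.mem_preimage, IsLocalization.under_map_of_isPrime_disjoint Q.primeCompl _
        inferInstance hdisj]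
      exact hPmin
    have hht : (P.map (algebraMap S (Localization.AtPrime Q))).height = 0 :=
      Ideal.height_eq_zero_iff.2 hP'min
    have hsupp : Module.support (Localization.AtPrime Q) (Localization.AtPrime Q) = Set.univ := by
      rw [Module.support_eq_zeroLocus, Module.annihilator_eq_bot.2 inferInstance]
      simp
    have h1 := Groth.Agent.CMChain.height_add_ringKrullDim_quotient (Localization.AtPrime Q)
      (Localization.AtPrime Q) (isCM_self _) hsupp (P.map (algebraMap S (Localization.AtPrime Q)))
    rw [hht] at h1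
    have h1' : ringKrullDim (Localization.AtPrime Q ⧸ P.map (algebraMap S (Localization.AtPrime Q))) =
        ringKrullDim (Localization.AtPrime Q) := by
      rw [← h1]
      simp
    have hdim : ringKrullDim (Localization.AtPrime Q ⧸ I.map (algebraMap S (Localization.AtPrime Q))) =
        ringKrullDim (Localization.AtPrime Q) := by
      apply le_antisymm
        (ringKrullDim_le_of_surjective (Ideal.Quotient.mk _) Ideal.Quotient.mk_surjective)
      rw [← h1']
      exact ringKrullDim_le_of_surjective (Ideal.Quotient.factor (Ideal.map_mono hP.1.2))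
        (Ideal.Quotient.factor_surjective _)
    exact (isCM_quot_annihilator (Localization.AtPrime Q) _ hdim hJne).1
  · have hI' : I.map (algebraMap S (Localization.AtPrime Q)) = ⊤ := by
      by_contra hne
      change _ ≠ _ at hne
      rw [IsLocalization.map_algebraMap_ne_top_iff_disjoint Q.primeCompl, Set.disjoint_left] at hne
      apply hIQ
      intro x hxI
      by_contra hxQ
      exact hne hxQ hxI
    rw [hI']
    have hann : Submodule.annihilator (⊤ : Ideal (Localization.AtPrime Q)) = ⊥ := by
      rw [Submodule.annihilator_top, Module.annihilator_eq_bot.2 inferInstance]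
    rw [hann]
    exact Groth.Agent.Lib.CMEquivH3.isCohenMacaulayLocalRing_of_ringEquiv
      (RingEquiv.quotientBot (Localization.AtPrime Q)).symm (isCMLocalRing_of_gorenstein _)

end Global

section Linked

variable (R : Type u) [CommRing R] [IsNoetherianRing R]

/-- **direct linkage by a Gorenstein ideal preserves the Cohen–Macaulay property** -/
theorem isCMRing_of_linked (𝔠 I J : Ideal R) [hG : LocCoh.IsGorensteinRing (R ⧸ 𝔠)]
    (hIJ : 𝔠.colon (I : Set R) = J) (hJI : 𝔠.colon (J : Set R) = I)
    (hCM : LocCoh.IsCohenMacaulayRing (R ⧸ I)) : LocCoh.IsCohenMacaulayRing (R ⧸ J) := by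
  have h𝔠I : 𝔠 ≤ I := hJI ▸ Ideal.le_colon
  have h𝔠J : 𝔠 ≤ J := hIJ ▸ Ideal.le_colon
  set π : R →+* R ⧸ 𝔠 := Ideal.Quotient.mk 𝔠 with hπ
  have hπs : Function.Surjective π := Ideal.Quotient.mk_surjective
  have hker : RingHom.ker π = 𝔠 := Ideal.mk_ker
  haveI hCM0 : LocCoh.IsCohenMacaulayRing ((R ⧸ 𝔠) ⧸ I.map π) :=
    Groth.Agent.Lib.CMEquivH3.isCohenMacaulayRing_of_ringEquiv
      (DoubleQuot.quotQuotEquivQuotOfLE h𝔠I).symm hCM
  have hmin : ∀ P₀ ∈ (I.map π).minimalPrimes, P₀ ∈ minimalPrimes (R ⧸ 𝔠) := by
    intro P₀ hP₀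
    have h1 := Ideal.minimalPrimes_comap_of_surjective hπs hP₀
    rw [Ideal.comap_map_of_surjective π hπs, ← RingHom.ker_eq_comap_bot, hker,
      sup_eq_left.2 h𝔠I] at h1
    have h2 : P₀.comap π ∈ associatedPrimes R (R ⧸ I) := by
      apply Module.associatedPrimes.minimalPrimes_annihilator_subset_associatedPrimes R (R ⧸ I)
      rw [Ideal.annihilator_quotient]
      exact h1
    have h3 : P₀.comap π ∈ associatedPrimes R (R ⧸ 𝔠.colon (J : Set R)) := by
      rw [hJI]
      exact h2
    have h4 := Groth.Agent.Liaison9.mem_minimalPrimes_of_mem_ass_quot R 𝔠 _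
      (Groth.Agent.Liaison9.ass_colon_subset R 𝔠 J _ h3)
    rw [Ideal.minimalPrimes_eq_comap] at h4
    obtain ⟨P₁, hP₁, hP₁P₀⟩ := h4
    have : P₁ = P₀ := Ideal.comap_injective_of_surjective π hπs hP₁P₀
    rw [← this]
    exact hP₁
  have hann : Submodule.annihilator (I.map π) = J.map π := by
    ext a
    obtain ⟨r, rfl⟩ := hπs a
    rw [Ideal.mem_quotient_iff_mem h𝔠J, ← hIJ, Submodule.mem_colon, Submodule.mem_annihilator]
    constructor
    · intro h i hi
      have h1 := h (π i) (Ideal.mem_map_of_mem π hi)
      rw [smul_eq_mul, ← map_mul] at h1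
      exact Ideal.Quotient.eq_zero_iff_mem.mp h1
    · intro h y hy
      obtain ⟨i, hi, rfl⟩ := (Ideal.mem_map_iff_of_surjective π hπs).mp hy
      rw [smul_eq_mul, ← map_mul]
      exact Ideal.Quotient.eq_zero_iff_mem.mpr (h i hi)
  have h5 := isCMRing_quot_annihilator (R ⧸ 𝔠) (I.map π) hmin
  exact Groth.Agent.Lib.CMEquivH3.isCohenMacaulayRing_of_ringEquiv
    ((Ideal.quotEquivOfEq hann).trans (DoubleQuot.quotQuotEquivQuotOfLE h𝔠J)) h5

end Linked

end Groth.Agent.Link9
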