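import Mathlib
import Groth.Agent.Lib.Link2_helper9
import Groth.Agent.Lib.DimFT3_helper8
import Groth.Agent.S0343

/-!
# Linked ideals of almost complete intersections are Gorenstein (helper9)
APPEND-ONLY once landed.
-/

set_option autoImplicit false
set_option maxHeartbeats 400000
universe u
open IsLocalRing RingTheory.Sequence

namespace Groth.Agent.Link9

open Groth.Agent.GorFlat9 Groth.Agent.DepthLib

section QuotList

/-- a Noetherian local ring is Gorenstein if its quotient by a regular sequence is -/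
theorem gorenstein_of_quot_ofList : ∀ (n : ℕ) (A : Type u) [CommRing A] [IsLocalRing A]
    [IsNoetherianRing A] (l : List A), l.length = n → (∀ x ∈ l, x ∈ maximalIdeal A) →
    IsWeaklyRegular A l → LocCoh.IsGorensteinLocalRing (A ⧸ Ideal.ofList l) →
    LocCoh.IsGorensteinLocalRing A := by
  intro n
  induction n with
  | zero =>
    intro A _ _ _ l hl _ _ hG
    obtain rfl : l = [] := List.length_eq_zero_iff.1 hl
    have e : (A ⧸ Ideal.ofList ([] : List A)) ≃+* A :=
      (Ideal.quotEquivOfEq (Ideal.ofList_nil)).trans (RingEquiv.quotientBot A)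
    exact (gorenstein_congr e).1 hG
  | succ n ih =>
    intro A _ _ _ l hl hmem hreg hG
    obtain ⟨f, l', rfl⟩ : ∃ f l', l = f :: l' := by
      cases l with
      | nil => simp at hl
      | cons f l' => exact ⟨f, l', rfl⟩
    have hf : f ∈ maximalIdeal A := hmem f (by simp)
    rw [isWeaklyRegular_cons_iff] at hreg
    obtain ⟨hreg1, hreg2⟩ := hreg
    have hI : Ideal.span {f} ≤ maximalIdeal A := (Ideal.span_singleton_le_iff_mem _).2 hf
    haveI := Groth.Agent.FibDim.isLocalRing_quot hI
    let e₀ : (QuotSMulTop f A) ≃ₗ[A] (A ⧸ Ideal.span {f}) :=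
      Submodule.quotEquivOfEq _ _ (by simp [← Submodule.ideal_span_singleton_smul])
    have hreg3 : IsWeaklyRegular (A ⧸ Ideal.span {f}) l' :=
      (LinearEquiv.isWeaklyRegular_congr e₀ l').1 hreg2
    have hreg4 : IsWeaklyRegular (A ⧸ Ideal.span {f})
        (l'.map (algebraMap A (A ⧸ Ideal.span {f}))) :=
      (isWeaklyRegular_map_algebraMap_iff (A ⧸ Ideal.span {f}) (A ⧸ Ideal.span {f}) l').2 hreg3
    have hmem' : ∀ x ∈ l'.map (algebraMap A (A ⧸ Ideal.span {f})),
        x ∈ maximalIdeal (A ⧸ Ideal.span {f}) := by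
      intro x hx
      obtain ⟨y, hy, rfl⟩ := List.mem_map.1 hx
      have hy' : y ∈ maximalIdeal A := hmem y (by simp [hy])
      haveI : IsLocalHom (algebraMap A (A ⧸ Ideal.span {f})) :=
        IsLocalHom.of_surjective _ Ideal.Quotient.mk_surjective
      intro hu
      exact hy' (isUnit_of_map_unit (algebraMap A (A ⧸ Ideal.span {f})) y hu)
    have h1 : Ideal.ofList (l'.map (algebraMap A (A ⧸ Ideal.span {f}))) =
        (Ideal.ofList l').map (Ideal.Quotient.mk (Ideal.span {f})) := by
      rw [Ideal.map_ofList]; rfl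
    have h2 : Ideal.ofList (f :: l') = Ideal.span {f} ⊔ Ideal.ofList l' := Ideal.ofList_cons f l'
    let e : ((A ⧸ Ideal.span {f}) ⧸ Ideal.ofList (l'.map (algebraMap A (A ⧸ Ideal.span {f})))) ≃+*
        (A ⧸ Ideal.ofList (f :: l')) :=
      (Ideal.quotEquivOfEq h1).trans
        ((DoubleQuot.quotQuotEquivQuotSup (Ideal.span {f}) (Ideal.ofList l')).trans
          (Ideal.quotEquivOfEq h2.symm))
    have key := (gorenstein_congr e).2 hG
    have hG' := ih (A ⧸ Ideal.span {f}) (l'.map (algebraMap A (A ⧸ Ideal.span {f})))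
      (by simpa using hl) hmem' hreg4 key
    exact (Groth.Agent.S0343.result A f hf hreg1).2 hG'

end QuotList

section Socle

variable (A : Type u) [CommRing A] [IsLocalRing A] [IsNoetherianRing A]

theorem mem_annihilator_span_singleton_iff (f a : A) :
    a ∈ Submodule.annihilator (Ideal.span {f}) ↔ a * f = 0 := by
  rw [Ideal.span, Submodule.mem_annihilator_span_singleton, smul_eq_mul]

/-- in a zero-dimensional local ring of type one, `A/(0 : f)` has type one -/
theorem typeOne_quot_annihilator (h0 : ringKrullDim A = 0) (hT : TypeOne A) (f : A) (hf : f ≠ 0)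
    [IsLocalRing (A ⧸ Submodule.annihilator (Ideal.span {f}))] :
    TypeOne (A ⧸ Submodule.annihilator (Ideal.span {f})) := by
  obtain ⟨s, hs0, hsm, hsgen⟩ := hT
  have hJne : Submodule.annihilator (Ideal.span {f}) ≠ ⊤ := by
    intro h
    have h1 : (1 : A) ∈ Submodule.annihilator (Ideal.span {f}) := by rw [h]; trivial
    rw [mem_annihilator_span_singleton_iff, one_mul] at h1
    exact hf h1
  obtain ⟨t, htJ, htm⟩ := exists_socle A h0 _ hJne
  have htf0 : t * f ≠ 0 := fun h => htJ ((mem_annihilator_span_singleton_iff A f t).mpr h)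
  have htfm : ∀ a ∈ maximalIdeal A, a * (t * f) = 0 := by
    intro a ha
    have := htm a ha
    rw [mem_annihilator_span_singleton_iff] at this
    rw [← mul_assoc]
    exact this
  obtain ⟨c, hc⟩ := hsgen (t * f) htfm
  have hcu : IsUnit c := by
    by_contra hcn
    have h1 := hsm c hcn
    rw [← hc] at h1
    exact htf0 h1
  obtain ⟨u, rfl⟩ := hcu
  have ht₀f : (↑u⁻¹ * t) * f = s := by
    rw [mul_assoc, hc, ← mul_assoc, Units.inv_mul, one_mul]
  haveI : IsLocalHom (Ideal.Quotient.mk (Submodule.annihilator (Ideal.span {f}))) :=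
    IsLocalHom.of_surjective _ Ideal.Quotient.mk_surjective
  have hmk : ∀ a : A, Ideal.Quotient.mk (Submodule.annihilator (Ideal.span {f})) a ∈
      maximalIdeal (A ⧸ Submodule.annihilator (Ideal.span {f})) ↔ a ∈ maximalIdeal A := by
    intro a
    constructor
    · intro h ha
      exact h (ha.map _)
    · intro h ha
      exact h (isUnit_of_map_unit _ a ha)
  refine ⟨Ideal.Quotient.mk _ (↑u⁻¹ * t), ?_, ?_, ?_⟩
  · intro h
    rw [Ideal.Quotient.eq_zero_iff_mem, mem_annihilator_span_singleton_iff, ht₀f] at h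
    exact hs0 h
  · intro ab hab
    obtain ⟨a, rfl⟩ := Ideal.Quotient.mk_surjective ab
    rw [hmk] at hab
    rw [← map_mul, Ideal.Quotient.eq_zero_iff_mem, mem_annihilator_span_singleton_iff, mul_assoc,
      ht₀f]
    exact hsm a hab
  · intro xb hx
    obtain ⟨x, rfl⟩ := Ideal.Quotient.mk_surjective xb
    have hxf : ∀ a ∈ maximalIdeal A, a * (x * f) = 0 := by
      intro a ha
      have h1 := hx (Ideal.Quotient.mk _ a) ((hmk a).mpr ha)
      rw [← map_mul, Ideal.Quotient.eq_zero_iff_mem, mem_annihilator_span_singleton_iff,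
        mul_assoc] at h1
      exact h1
    obtain ⟨c', hc'⟩ := hsgen (x * f) hxf
    refine ⟨Ideal.Quotient.mk _ c', ?_⟩
    rw [← map_mul, Ideal.Quotient.eq, mem_annihilator_span_singleton_iff, sub_mul, hc', mul_assoc,
      ht₀f, sub_self]

end Socle

section LocalGor

variable (A : Type u) [CommRing A] [hG : LocCoh.IsGorensteinLocalRing A]

/-- the quotient by a maximal regular sequence has dimension zero -/
theorem ringKrullDim_quot_regular_seq (d : ℕ) (ys : List A)
    (h1 : ringKrullDim A = ((d : ℕ∞) : WithBot ℕ∞)) (hys : IsWeaklyRegular A ys)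
    (hmem : ∀ y ∈ ys, y ∈ maximalIdeal A) (hlen : ys.length = d) :
    ringKrullDim (A ⧸ Ideal.ofList ys) = 0 := by
  have h2 := ((isCM_list ys A (isCM_self A) hmem).1).mp hys
  rw [supportDim_quot_smul_top_self, Module.supportDim_self_eq_ringKrullDim, h1, hlen] at h2
  have h3 : ringKrullDim (A ⧸ Ideal.ofList ys) + ((d : ℕ) : ℕ∞) = (0 : WithBot ℕ∞) + ((d : ℕ) : ℕ∞) := by
    rw [zero_add]
    exact h2
  exact add_nat_cancel d h3

/-- **the residual of a principal ideal with maximal Cohen–Macaulay quotient is Gorenstein** -/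
theorem gorenstein_quot_annihilator_span (f : A)
    (hI : ringKrullDim (A ⧸ Ideal.span {f}) = ringKrullDim A)
    [hCM : LocCoh.IsCohenMacaulayLocalRing (A ⧸ Ideal.span {f})]
    (hJ : Submodule.annihilator (Ideal.span {f}) ≠ ⊤) :
    LocCoh.IsGorensteinLocalRing (A ⧸ Submodule.annihilator (Ideal.span {f})) := by
  obtain ⟨d, ys, h1, h2, hys, hmem, hlen⟩ := exists_regular_seq A
  obtain ⟨-, hregJ, hsup, -⟩ := linkage_regular A (Ideal.span {f}) hI ys hys hmem
  have hIys : Ideal.ofList ys ≤ maximalIdeal A := Ideal.span_le.2 hmem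
  have hJm : Submodule.annihilator (Ideal.span {f}) ≤ maximalIdeal A := le_maximalIdeal hJ
  haveI : IsLocalRing (A ⧸ Ideal.ofList ys) := Groth.Agent.FibDim.isLocalRing_quot hIys
  haveI : IsLocalRing (A ⧸ Submodule.annihilator (Ideal.span {f})) :=
    Groth.Agent.FibDim.isLocalRing_quot hJm
  have hG' : LocCoh.IsGorensteinLocalRing (A ⧸ Ideal.ofList ys) :=
    Groth.Agent.GorLCI9.gorenstein_quot_ofList _ A ys rfl hmem hys hG
  have h0 : ringKrullDim (A ⧸ Ideal.ofList ys) = 0 :=
    ringKrullDim_quot_regular_seq A d ys h1 hys hmem hlen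
  have hT' := (gorenstein_iff_typeOne _ h0).1 hG'
  have hcolon_ne : (Ideal.ofList ys).colon ((Ideal.span {f} : Ideal A) : Set A) ≠ ⊤ := by
    rw [← hsup]
    intro h
    have : (⊤ : Ideal A) ≤ maximalIdeal A := h ▸ sup_le hJm hIys
    exact (maximalIdeal.isMaximal A).ne_top (top_le_iff.mp this)
  have hf' : Ideal.Quotient.mk (Ideal.ofList ys) f ≠ 0 := by
    intro h
    rw [Ideal.Quotient.eq_zero_iff_mem] at h
    apply hcolon_ne
    rw [Submodule.colon_eq_top_iff_subset]
    exact (Ideal.span_singleton_le_iff_mem _).2 h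
  have hle : Ideal.ofList ys ≤ (Ideal.ofList ys).colon ((Ideal.span {f} : Ideal A) : Set A) :=
    Ideal.le_colon
  have hann : ((Ideal.ofList ys).colon ((Ideal.span {f} : Ideal A) : Set A)).map
        (Ideal.Quotient.mk (Ideal.ofList ys)) =
      Submodule.annihilator (Ideal.span {Ideal.Quotient.mk (Ideal.ofList ys) f}) := by
    ext b
    obtain ⟨a, rfl⟩ := Ideal.Quotient.mk_surjective b
    rw [Ideal.mem_quotient_iff_mem hle, Ideal.colon_span, Submodule.mem_colon_singleton,
      mem_annihilator_span_singleton_iff, ← map_mul, Ideal.Quotient.eq_zero_iff_mem, smul_eq_mul]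
  have hannne : Submodule.annihilator (Ideal.span {Ideal.Quotient.mk (Ideal.ofList ys) f}) ≠ ⊤ := by
    intro h
    have h1 : (1 : A ⧸ Ideal.ofList ys) ∈
        Submodule.annihilator (Ideal.span {Ideal.Quotient.mk (Ideal.ofList ys) f}) := by
      rw [h]; trivial
    rw [mem_annihilator_span_singleton_iff, one_mul] at h1
    exact hf' h1
  haveI : IsLocalRing ((A ⧸ Ideal.ofList ys) ⧸
      Submodule.annihilator (Ideal.span {Ideal.Quotient.mk (Ideal.ofList ys) f})) :=
    Groth.Agent.FibDim.isLocalRing_quot (le_maximalIdeal hannne)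
  have hTB := typeOne_quot_annihilator (A ⧸ Ideal.ofList ys) h0 hT' _ hf'
  have h0B : ringKrullDim ((A ⧸ Ideal.ofList ys) ⧸
      Submodule.annihilator (Ideal.span {Ideal.Quotient.mk (Ideal.ofList ys) f})) = 0 := by
    apply le_antisymm
    · rw [← h0]
      exact ringKrullDim_le_of_surjective (Ideal.Quotient.mk _) Ideal.Quotient.mk_surjective
    · exact ringKrullDim_nonneg_of_nontrivial
  have hGB := (gorenstein_iff_typeOne _ h0B).2 hTB
  -- the ring isomorphism
  have hmap : Ideal.ofList (ys.map (algebraMap A (A ⧸ Submodule.annihilator (Ideal.span {f})))) =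
      (Ideal.ofList ys).map (Ideal.Quotient.mk (Submodule.annihilator (Ideal.span {f}))) := by
    rw [Ideal.map_ofList]; rfl
  let e : ((A ⧸ Submodule.annihilator (Ideal.span {f})) ⧸
        Ideal.ofList (ys.map (algebraMap A (A ⧸ Submodule.annihilator (Ideal.span {f}))))) ≃+*
      ((A ⧸ Ideal.ofList ys) ⧸
        Submodule.annihilator (Ideal.span {Ideal.Quotient.mk (Ideal.ofList ys) f})) :=
    (Ideal.quotEquivOfEq hmap).trans
      ((DoubleQuot.quotQuotEquivQuotSup _ _).trans
        ((Ideal.quotEquivOfEq hsup).trans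
          ((DoubleQuot.quotQuotEquivQuotOfLE hle).symm.trans (Ideal.quotEquivOfEq hann))))
  have hGq := (gorenstein_congr e).2 hGB
  have hreg' : IsWeaklyRegular (A ⧸ Submodule.annihilator (Ideal.span {f}))
      (ys.map (algebraMap A (A ⧸ Submodule.annihilator (Ideal.span {f})))) :=
    (isWeaklyRegular_map_algebraMap_iff (A ⧸ Submodule.annihilator (Ideal.span {f}))
      (A ⧸ Submodule.annihilator (Ideal.span {f})) ys).2 hregJ
  have hmem' : ∀ x ∈ ys.map (algebraMap A (A ⧸ Submodule.annihilator (Ideal.span {f}))),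
      x ∈ maximalIdeal (A ⧸ Submodule.annihilator (Ideal.span {f})) := by
    intro x hx
    obtain ⟨y, hy, rfl⟩ := List.mem_map.1 hx
    haveI : IsLocalHom (algebraMap A (A ⧸ Submodule.annihilator (Ideal.span {f}))) :=
      IsLocalHom.of_surjective _ Ideal.Quotient.mk_surjective
    intro hu
    exact hmem y hy (isUnit_of_map_unit _ y hu)
  haveI : IsNoetherianRing (A ⧸ Submodule.annihilator (Ideal.span {f})) := inferInstance
  exact gorenstein_of_quot_ofList _ (A ⧸ Submodule.annihilator (Ideal.span {f})) _ rfl hmem'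
    hreg' hGq

end LocalGor

section GlobalGor

/-- ring isomorphisms preserve Gorenstein rings -/
theorem isGorRing_of_ringEquiv {R R' : Type u} [CommRing R] [CommRing R'] (e : R ≃+* R')
    (h : LocCoh.IsGorensteinRing R) : LocCoh.IsGorensteinRing R' := by
  haveI : IsNoetherianRing R := h.toIsNoetherian
  haveI : IsNoetherianRing R' := isNoetherianRing_of_ringEquiv R e
  refine { isGorensteinLocalRing_localization := fun p' hp' => ?_ }
  have e' : Localization.AtPrime (p'.comap e) ≃+* Localization.AtPrime p' :=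
    IsLocalization.ringEquivOfRingEquiv
      (Localization.AtPrime (p'.comap e)) (Localization.AtPrime p') e
      (e.map_primeCompl_comap_eq p')
  exact (gorenstein_congr e').1 (h.isGorensteinLocalRing_localization (p'.comap e))

/-- a quotient ring is Gorenstein if its localisations, written as quotients of the localisations
of the ambient ring, are Gorenstein -/
theorem isGorRing_quot_of_forall (S : Type u) [CommRing S] [IsNoetherianRing S] (J : Ideal S)
    (h : ∀ (Q : Ideal S) [Q.IsPrime], J ≤ Q → LocCoh.IsGorensteinLocalRing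
      (Localization.AtPrime Q ⧸ J.map (algebraMap S (Localization.AtPrime Q)))) :
    LocCoh.IsGorensteinRing (S ⧸ J) := by
  refine { isGorensteinLocalRing_localization := fun q hq => ?_ }
  set π : S →+* S ⧸ J := Ideal.Quotient.mk J with hπ
  have hπs : Function.Surjective π := Ideal.Quotient.mk_surjective
  have hker : RingHom.ker π = J := Ideal.mk_ker
  set Q : Ideal S := q.comap π with hQ
  haveI : Q.IsPrime := Ideal.comap_isPrime π q
  have hJQ : J ≤ Q := by
    rw [← hker]
    exact Ideal.comap_mono bot_le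
  have hT : Q.primeCompl.map π = q.primeCompl := by
    ext y
    constructor
    · rintro ⟨x, hx, rfl⟩
      exact hx
    · intro hy
      obtain ⟨x, rfl⟩ := hπs y
      exact ⟨x, hy, rfl⟩
  obtain ⟨e⟩ := Groth.Agent.GorLCI9.nonempty_quot_equiv π hπs Q.primeCompl q.primeCompl hT
    (Localization.AtPrime Q) (Localization.AtPrime q)
  rw [hker] at e
  exact (gorenstein_congr e).1 (h Q hJQ)

/-- local data of a Cohen–Macaulay quotient of a Gorenstein ring whose minimal primes are minimal -/
theorem local_data (S : Type u) [CommRing S] [hG : LocCoh.IsGorensteinRing S]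
    (I : Ideal S) [hCM : LocCoh.IsCohenMacaulayRing (S ⧸ I)]
    (hmin : ∀ P ∈ I.minimalPrimes, P ∈ minimalPrimes S) (Q : Ideal S) [Q.IsPrime] (hIQ : I ≤ Q) :
    LocCoh.IsCohenMacaulayLocalRing
        (Localization.AtPrime Q ⧸ I.map (algebraMap S (Localization.AtPrime Q))) ∧
      ringKrullDim (Localization.AtPrime Q ⧸ I.map (algebraMap S (Localization.AtPrime Q))) =
        ringKrullDim (Localization.AtPrime Q) := by
  haveI : IsNoetherianRing S := hG.toIsNoetherian
  haveI hGQ := hG.isGorensteinLocalRing_localization Q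
  haveI : IsNoetherianRing (Localization.AtPrime Q) := hGQ.toIsNoetherian
  refine ⟨Groth.Agent.Liaison9.cm_quot_localization S I Q hIQ, ?_⟩
  obtain ⟨P, hP, hPQ⟩ := Ideal.exists_minimalPrimes_le hIQ
  haveI : P.IsPrime := hP.1.1
  have hPmin := hmin P hP
  have hdisj : Disjoint (Q.primeCompl : Set S) P := by
    rw [Set.disjoint_left]
    intro x hx hxP
    exact hx (hPQ hxP)
  haveI hP' : (P.map (algebraMap S (Localization.AtPrime Q))).IsPrime :=
    IsLocalization.isPrime_of_isPrime_disjoint Q.primeCompl _ P inferInstance hdisj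
  have hP'min : P.map (algebraMap S (Localization.AtPrime Q)) ∈
      minimalPrimes (Localization.AtPrime Q) := by
    have h1 := IsLocalization.minimalPrimes_map Q.primeCompl (Localization.AtPrime Q)
      (⊥ : Ideal S)
    rw [Ideal.map_bot] at h1
    change _ ∈ (⊥ : Ideal (Localization.AtPrime Q)).minimalPrimes
    rw [h1, Set.mem_preimage, IsLocalization.under_map_of_isPrime_disjoint Q.primeCompl _
      inferInstance hdisj]
    exact hPmin
  have hht : (P.map (algebraMap S (Localization.AtPrime Q))).height = 0 :=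
    Ideal.height_eq_zero_iff.2 hP'min
  have hsupp : Module.support (Localization.AtPrime Q) (Localization.AtPrime Q) = Set.univ := by
    rw [Module.support_eq_zeroLocus, Module.annihilator_eq_bot.2 inferInstance]
    simp
  have h1 := Groth.Agent.CMChain.height_add_ringKrullDim_quotient (Localization.AtPrime Q)
    (Localization.AtPrime Q) (isCM_self _) hsupp (P.map (algebraMap S (Localization.AtPrime Q)))
  rw [hht] at h1
  have h1' : ringKrullDim (Localization.AtPrime Q ⧸ P.map (algebraMap S (Localization.AtPrime Q))) =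
      ringKrullDim (Localization.AtPrime Q) := by
    rw [← h1]
    simp
  apply le_antisymm
    (ringKrullDim_le_of_surjective (Ideal.Quotient.mk _) Ideal.Quotient.mk_surjective)
  rw [← h1']
  exact ringKrullDim_le_of_surjective (Ideal.Quotient.factor (Ideal.map_mono hP.1.2))
    (Ideal.Quotient.factor_surjective _)

/-- **global form**: in a Gorenstein ring `S`, if `S/(f)` is Cohen–Macaulay and the minimal primes of
`(f)` are minimal primes of `S`, then `S/(0 : f)` is Gorenstein. -/
theorem isGorRing_quot_annihilator_span (S : Type u) [CommRing S] [hG : LocCoh.IsGorensteinRing S]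
    (f : S) [hCM : LocCoh.IsCohenMacaulayRing (S ⧸ Ideal.span {f})]
    (hmin : ∀ P ∈ (Ideal.span {f}).minimalPrimes, P ∈ minimalPrimes S) :
    LocCoh.IsGorensteinRing (S ⧸ Submodule.annihilator (Ideal.span {f})) := by
  haveI : IsNoetherianRing S := hG.toIsNoetherian
  apply isGorRing_quot_of_forall
  intro Q _ hJQ
  have hJne : (Submodule.annihilator (Ideal.span {f})).map
      (algebraMap S (Localization.AtPrime Q)) ≠ ⊤ := by
    rw [IsLocalization.map_algebraMap_ne_top_iff_disjoint Q.primeCompl, Set.disjoint_left]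
    intro x hx hxJ
    exact hx (hJQ hxJ)
  rw [map_annihilator Q.primeCompl (Localization.AtPrime Q)] at hJne ⊢
  haveI hGQ := hG.isGorensteinLocalRing_localization Q
  haveI : IsNoetherianRing (Localization.AtPrime Q) := hGQ.toIsNoetherian
  by_cases hIQ : Ideal.span {f} ≤ Q
  · obtain ⟨h1, h2⟩ := local_data S (Ideal.span {f}) hmin Q hIQ
    rw [Ideal.map_span, Set.image_singleton] at h1 h2 hJne ⊢
    haveI := h1
    exact gorenstein_quot_annihilator_span _ _ h2 hJne
  · have hI' : (Ideal.span {f}).map (algebraMap S (Localization.AtPrime Q)) = ⊤ := by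
      by_contra hne
      change _ ≠ _ at hne
      rw [IsLocalization.map_algebraMap_ne_top_iff_disjoint Q.primeCompl, Set.disjoint_left] at hne
      apply hIQ
      intro x hxI
      by_contra hxQ
      exact hne hxQ hxI
    rw [hI']
    have hann : Submodule.annihilator (⊤ : Ideal (Localization.AtPrime Q)) = ⊥ := by
      rw [Submodule.annihilator_top, Module.annihilator_eq_bot.2 inferInstance]
    rw [hann]
    exact (gorenstein_congr (RingEquiv.quotientBot (Localization.AtPrime Q))).2 hGQ

end GlobalGor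

section CI

/-- the dimension of a quotient is bounded by the dimensions of the quotients by the primes
containing the ideal -/
theorem ringKrullDim_quot_le_of_forall_prime {A : Type u} [CommRing A] (I : Ideal A)
    (n : WithBot ℕ∞) (h : ∀ (P : Ideal A) [P.IsPrime], I ≤ P → ringKrullDim (A ⧸ P) ≤ n) :
    ringKrullDim (A ⧸ I) ≤ n := by
  unfold ringKrullDim
  rw [Order.krullDim_eq_iSup_coheight]
  apply iSup_le
  intro a
  haveI := a.2
  rw [← Groth.Agent.DimFT3H8.ringKrullDim_quotient_eq_coheight a.asIdeal]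
  have hle : I ≤ a.asIdeal.comap (Ideal.Quotient.mk I) := by
    intro x hx
    rw [Ideal.mem_comap, Ideal.Quotient.eq_zero_iff_mem.mpr hx]
    exact a.asIdeal.zero_mem
  have hmap : (a.asIdeal.comap (Ideal.Quotient.mk I)).map (Ideal.Quotient.mk I) = a.asIdeal :=
    Ideal.map_comap_of_surjective _ Ideal.Quotient.mk_surjective _
  have e : ((A ⧸ I) ⧸ a.asIdeal) ≃+* (A ⧸ a.asIdeal.comap (Ideal.Quotient.mk I)) :=
    (Ideal.quotEquivOfEq hmap.symm).trans (DoubleQuot.quotQuotEquivQuotOfLE hle)
  rw [ringKrullDim_eq_of_ringEquiv e]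
  exact h _ hle

/-- in a Cohen–Macaulay local ring, a sequence generating an ideal of height at least its length is
a regular sequence -/
theorem isWeaklyRegular_of_height {S : Type u} [CommRing S] [IsLocalRing S] [IsNoetherianRing S]
    (hCM : LocCoh.IsCohenMacaulayModule S S) (l : List S)
    (hmem : ∀ x ∈ l, x ∈ maximalIdeal S) (hht : (l.length : ℕ∞) ≤ (Ideal.ofList l).height) :
    IsWeaklyRegular S l := by
  rw [(isCM_list l S hCM hmem).1]
  apply le_antisymm
  · rw [supportDim_quot_smul_top_self, Module.supportDim_self_eq_ringKrullDim]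
    obtain ⟨D, hD⟩ := Groth.Agent.FlatCM.exists_nat_ringKrullDim S
    have key : ringKrullDim (S ⧸ Ideal.ofList l) ≤ ((D - l.length : ℕ) : WithBot ℕ∞) := by
      apply ringKrullDim_quot_le_of_forall_prime
      intro P _ hP
      have h1 := Groth.Agent.DimFT3H8.height_add_ringKrullDim_quotient_le P
      have h2 : (l.length : ℕ∞) ≤ P.height := hht.trans (Ideal.height_mono hP)
      haveI : IsLocalRing (S ⧸ P) :=
        Groth.Agent.FibDim.isLocalRing_quot (le_maximalIdeal (Ideal.IsPrime.ne_top inferInstance))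
      obtain ⟨m, hm⟩ := Groth.Agent.FlatCM.exists_nat_ringKrullDim (S ⧸ P)
      rw [hm, hD] at h1
      rw [hm]
      have h3 : ((l.length : ℕ∞) : WithBot ℕ∞) + ((m : ℕ) : WithBot ℕ∞) ≤ ((D : ℕ) : WithBot ℕ∞) :=
        le_trans (add_le_add_left (WithBot.coe_le_coe.mpr h2) _) h1
      have h4 : l.length + m ≤ D := by exact_mod_cast h3
      have h5 : m ≤ D - l.length := by omega
      exact_mod_cast h5
    have hlD : l.length ≤ D := by
      have h1 : (Ideal.ofList l).height ≤ (maximalIdeal S).height :=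
        Ideal.height_mono (Ideal.span_le.2 hmem)
      have h2 := IsLocalRing.maximalIdeal_height_eq_ringKrullDim (R := S)
      rw [hD] at h2
      have h3 : ((l.length : ℕ∞) : WithBot ℕ∞) ≤ ((D : ℕ) : WithBot ℕ∞) := by
        rw [← h2]
        exact WithBot.coe_le_coe.mpr (hht.trans h1)
      exact_mod_cast h3
    rw [hD]
    calc ringKrullDim (S ⧸ Ideal.ofList l) + ((l.length : ℕ) : WithBot ℕ∞)
        ≤ ((D - l.length : ℕ) : WithBot ℕ∞) + ((l.length : ℕ) : WithBot ℕ∞) :=
          add_le_add_left key _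
      _ = ((D : ℕ) : WithBot ℕ∞) := by
          have : D - l.length + l.length = D := by omega
          exact_mod_cast congrArg (fun k : ℕ => ((k : ℕ) : WithBot ℕ∞)) this
  · exact supportDim_le_supportDim_quot_ofList_add_length l S hmem

/-- **complete intersections in Gorenstein rings are Gorenstein** -/
theorem isGorRing_quot_span_of_height (R : Type u) [CommRing R] [hG : LocCoh.IsGorensteinRing R]
    (c : ℕ) (g : Fin c → R) (hht : (c : ℕ∞) ≤ (Ideal.span (Set.range g)).height) :
    LocCoh.IsGorensteinRing (R ⧸ Ideal.span (Set.range g)) := by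
  haveI : IsNoetherianRing R := hG.toIsNoetherian
  apply isGorRing_quot_of_forall
  intro Q _ hQ
  haveI hGQ := hG.isGorensteinLocalRing_localization Q
  haveI : IsNoetherianRing (Localization.AtPrime Q) := hGQ.toIsNoetherian
  set l : List (Localization.AtPrime Q) :=
    List.ofFn (fun i => algebraMap R (Localization.AtPrime Q) (g i)) with hl
  have hofList : Ideal.ofList l =
      (Ideal.span (Set.range g)).map (algebraMap R (Localization.AtPrime Q)) := by
    rw [Ideal.map_span, ← Set.range_comp, Ideal.ofList]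
    congr 1
    ext x
    simp [hl, List.mem_ofFn]
  have hmem : ∀ x ∈ l, x ∈ maximalIdeal (Localization.AtPrime Q) := by
    intro x hx
    rw [hl, List.mem_ofFn] at hx
    obtain ⟨i, rfl⟩ := hx
    rw [← Localization.AtPrime.map_eq_maximalIdeal]
    exact Ideal.mem_map_of_mem _ (hQ (Ideal.subset_span ⟨i, rfl⟩))
  have hht' : (l.length : ℕ∞) ≤ (Ideal.ofList l).height := by
    rw [hofList, hl, List.length_ofFn, ← IsLocalization.height_under Q.primeCompl]
    exact hht.trans (Ideal.height_mono Ideal.le_comap_map)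
  have hreg := isWeaklyRegular_of_height (isCM_self (Localization.AtPrime Q)) l hmem hht'
  have key := Groth.Agent.GorLCI9.gorenstein_quot_ofList _ (Localization.AtPrime Q) l rfl hmem
    hreg hGQ
  exact (gorenstein_congr (Ideal.quotEquivOfEq hofList)).1 key

end CI

section ACI

variable (K : Type u) [Field K] (n : ℕ)

/-- the annihilator of `I/𝔠` in `R/𝔠` is `(𝔠 : I)/𝔠` -/
theorem annihilator_map_mk {R : Type u} [CommRing R] (𝔠 I : Ideal R) :
    Submodule.annihilator (I.map (Ideal.Quotient.mk 𝔠)) =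
      (𝔠.colon (I : Set R)).map (Ideal.Quotient.mk 𝔠) := by
  have h𝔠J : 𝔠 ≤ 𝔠.colon (I : Set R) := Ideal.le_colon
  ext a
  obtain ⟨r, rfl⟩ := Ideal.Quotient.mk_surjective a
  rw [Ideal.mem_quotient_iff_mem h𝔠J, Submodule.mem_colon, Submodule.mem_annihilator]
  constructor
  · intro h i hi
    have h1 := h (Ideal.Quotient.mk 𝔠 i) (Ideal.mem_map_of_mem _ hi)
    rw [smul_eq_mul, ← map_mul] at h1
    exact Ideal.Quotient.eq_zero_iff_mem.mp h1
  · intro h y hy
    obtain ⟨i, hi, rfl⟩ := (Ideal.mem_map_iff_of_surjective _ Ideal.Quotient.mk_surjective).mp hy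
    rw [smul_eq_mul, ← map_mul]
    exact Ideal.Quotient.eq_zero_iff_mem.mpr (h i hi)

/-- **S18868**: the ideal linked to an almost complete intersection with Cohen–Macaulay quotient by
the complete intersection is Gorenstein -/
theorem gor_colon_of_aci (c : ℕ) (g : Fin c → MvPolynomial (Fin (n + 1)) K)
    (f : MvPolynomial (Fin (n + 1)) K) (𝔠 I : Ideal (MvPolynomial (Fin (n + 1)) K))
    (h𝔠g : Ideal.span (Set.range g) = 𝔠)
    (h𝔠 : 𝔠.IsHomogeneous (GrSyz.stdGr K (Fin (n + 1))))
    (hI : I.IsHomogeneous (GrSyz.stdGr K (Fin (n + 1))))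
    (h𝔠c : 𝔠.height = c) (hIc : I.height = c)
    [hCM : LocCoh.IsCohenMacaulayRing (MvPolynomial (Fin (n + 1)) K ⧸ I)]
    (hlt : 𝔠 < I) (hIf : I = 𝔠 ⊔ Ideal.span {f}) :
    (𝔠.colon (I : Set (MvPolynomial (Fin (n + 1)) K))).height = c ∧
      LocCoh.IsGorensteinRing
        (MvPolynomial (Fin (n + 1)) K ⧸ 𝔠.colon (I : Set (MvPolynomial (Fin (n + 1)) K))) := by
  haveI hGK := Groth.Agent.GorFlat9.isGorRing_field K
  haveI hGR : LocCoh.IsGorensteinRing (MvPolynomial (Fin (n + 1)) K) :=
    Groth.Agent.GorLCI9.isGorRing_mvPolynomial_fin K (n + 1)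
  haveI hG𝔠 : LocCoh.IsGorensteinRing (MvPolynomial (Fin (n + 1)) K ⧸ 𝔠) := by
    subst h𝔠g
    exact isGorRing_quot_span_of_height _ c g (le_of_eq h𝔠c.symm)
  have hI𝔠 : ¬ I ≤ 𝔠 := not_le_of_gt hlt
  have h𝔠I : 𝔠 ≤ I := hlt.le
  obtain ⟨hht, -⟩ := Groth.Agent.Liaison9.unmixed_colon K n 𝔠 I h𝔠 hI𝔠
  refine ⟨hht.trans h𝔠c, ?_⟩
  set π : MvPolynomial (Fin (n + 1)) K →+* MvPolynomial (Fin (n + 1)) K ⧸ 𝔠 :=
    Ideal.Quotient.mk 𝔠 with hπ
  have hπs : Function.Surjective π := Ideal.Quotient.mk_surjective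
  have hker : RingHom.ker π = 𝔠 := Ideal.mk_ker
  have hImap : I.map π = Ideal.span {π f} := by
    rw [hIf, Ideal.map_sup, Ideal.map_span, Set.image_singleton, hπ, Ideal.map_quotient_self,
      bot_sup_eq]
  haveI hCM0 : LocCoh.IsCohenMacaulayRing
      ((MvPolynomial (Fin (n + 1)) K ⧸ 𝔠) ⧸ Ideal.span {π f}) :=
    Groth.Agent.Lib.CMEquivH3.isCohenMacaulayRing_of_ringEquiv
      ((DoubleQuot.quotQuotEquivQuotOfLE h𝔠I).symm.trans (Ideal.quotEquivOfEq hImap)) hCM
  have hmin : ∀ P₀ ∈ (Ideal.span {π f}).minimalPrimes,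
      P₀ ∈ minimalPrimes (MvPolynomial (Fin (n + 1)) K ⧸ 𝔠) := by
    intro P₀ hP₀
    rw [← hImap] at hP₀
    have h1 := Ideal.minimalPrimes_comap_of_surjective hπs hP₀
    rw [Ideal.comap_map_of_surjective π hπs, ← RingHom.ker_eq_comap_bot, hker,
      sup_eq_left.2 h𝔠I] at h1
    haveI : (P₀.comap π).IsPrime := h1.1.1
    have h2 := Groth.Agent.Liaison9.height_eq_of_mem_minimalPrimes_cm K n I hI _ h1
    have h3 : P₀.comap π ∈ 𝔠.minimalPrimes :=
      Groth.Agent.Liaison9.mem_minimalPrimes_of_height 𝔠 _ (h𝔠I.trans h1.1.2)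
        (le_of_eq (h2.trans (hIc.trans h𝔠c.symm)))
    rw [Ideal.minimalPrimes_eq_comap] at h3
    obtain ⟨P₁, hP₁, hP₁P₀⟩ := h3
    have : P₁ = P₀ := Ideal.comap_injective_of_surjective π hπs hP₁P₀
    rw [← this]
    exact hP₁
  have h5 := isGorRing_quot_annihilator_span (MvPolynomial (Fin (n + 1)) K ⧸ 𝔠) (π f) hmin
  have hann : Submodule.annihilator (Ideal.span {π f}) =
      (𝔠.colon (I : Set (MvPolynomial (Fin (n + 1)) K))).map π := by
    rw [← hImap]
    exact annihilator_map_mk 𝔠 I
  exact isGorRing_of_ringEquiv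
    ((Ideal.quotEquivOfEq hann).trans (DoubleQuot.quotQuotEquivQuotOfLE Ideal.le_colon)) h5

end ACI

end Groth.Agent.Link9
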