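import Mathlib
import Groth.Agent.Lib.Link3_helper9
import Groth.Agent.Lib.RegUC_helper8

/-!
# Regular sequences and generators of the conormal module (helper9)
APPEND-ONLY once landed.
-/

set_option autoImplicit false
universe u

namespace Groth.Agent.Link9

open IsLocalRing RingTheory.Sequence Groth.Agent.DepthLib

section CotGen

variable {S : Type u} [CommRing S]

/-- lifts of generators of the conormal module generate the ideal (Nakayama) -/
theorem span_image_eq_of_span_cotangent [IsNoetherianRing S] [IsLocalRing S] (J : Ideal S)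
    (hJ : J ≠ ⊤) (s : Set J.Cotangent) (σ : J.Cotangent → S)
    (hσ : ∀ m, ∃ h : σ m ∈ J, J.toCotangent ⟨σ m, h⟩ = m)
    (hs : Submodule.span (S ⧸ J) s = ⊤) : Ideal.span (σ '' s) = J := by
  apply le_antisymm
  · rw [Ideal.span_le]
    rintro _ ⟨m, _, rfl⟩
    exact (hσ m).1
  · apply Submodule.le_of_le_smul_of_le_jacobson_bot (IsNoetherian.noetherian J)
      (le_trans (IsLocalRing.le_maximalIdeal hJ) (IsLocalRing.maximalIdeal_le_jacobson ⊥))
    intro j hj
    have h1 : J.toCotangent ⟨j, hj⟩ ∈ Submodule.span (S ⧸ J) s := by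
      rw [hs]; trivial
    have key : ∀ m ∈ Submodule.span (S ⧸ J) s,
        ∃ (w : S) (_ : w ∈ Ideal.span (σ '' s)) (hw : w ∈ J), J.toCotangent ⟨w, hw⟩ = m := by
      intro m hm
      induction hm using Submodule.span_induction with
      | mem m hm =>
        exact ⟨σ m, Ideal.subset_span ⟨m, hm, rfl⟩, (hσ m).1, (hσ m).2⟩
      | zero => exact ⟨0, Submodule.zero_mem _, J.zero_mem, map_zero _⟩
      | add m₁ m₂ _ _ ih₁ ih₂ =>
        obtain ⟨w₁, hw₁, hw₁J, rfl⟩ := ih₁
        obtain ⟨w₂, hw₂, hw₂J, rfl⟩ := ih₂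
        refine ⟨w₁ + w₂, Submodule.add_mem _ hw₁ hw₂, J.add_mem hw₁J hw₂J, ?_⟩
        rw [← map_add]
        rfl
      | smul a m _ ih =>
        obtain ⟨w, hw, hwJ, rfl⟩ := ih
        obtain ⟨a, rfl⟩ := Ideal.Quotient.mk_surjective a
        refine ⟨a * w, Ideal.mul_mem_left _ _ hw, J.mul_mem_left _ hwJ, ?_⟩
        have h3 : (Ideal.Quotient.mk J a) • J.toCotangent ⟨w, hwJ⟩ = a • J.toCotangent ⟨w, hwJ⟩ := by
          rw [← Ideal.Quotient.algebraMap_eq, algebraMap_smul]
        rw [h3, ← map_smul]
        rfl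
    obtain ⟨w, hw, hwJ, hwj⟩ := key _ h1
    rw [Ideal.toCotangent_eq] at hwj
    have h4 : j = w + (j - w) := by ring
    rw [h4]
    apply Submodule.add_mem_sup hw
    have h5 : j - w ∈ J ^ 2 := by
      have := (J ^ 2).neg_mem hwj
      simpa using this
    rw [pow_two] at h5
    exact h5

/-- an ideal of a Noetherian local ring is generated by as many elements as its conormal module -/
theorem exists_list_of_cotangent [IsNoetherianRing S] [IsLocalRing S] (J : Ideal S) (hJ : J ≠ ⊤) :
    ∃ l : List S, l.length = (⊤ : Submodule (S ⧸ J) J.Cotangent).spanFinrank ∧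
      Ideal.ofList l = J := by
  haveI : Module.Finite S J.Cotangent :=
    Module.Finite.of_surjective J.toCotangent J.toCotangent_surjective
  haveI : Module.Finite (S ⧸ J) J.Cotangent := Module.Finite.of_restrictScalars_finite S _ _
  have hfg : (⊤ : Submodule (S ⧸ J) J.Cotangent).FG := Module.Finite.fg_top
  obtain ⟨s, hcard, hspan⟩ := hfg.exists_span_finset_card_eq_spanFinrank
  have hsec : ∀ m : J.Cotangent, ∃ w : S, ∃ h : w ∈ J, J.toCotangent ⟨w, h⟩ = m := by
    intro m
    obtain ⟨⟨w, hw⟩, rfl⟩ := J.toCotangent_surjective m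
    exact ⟨w, hw, rfl⟩
  choose σ hσ using hsec
  refine ⟨s.toList.map σ, by rw [List.length_map, Finset.length_toList, hcard], ?_⟩
  refine Eq.trans ?_ (span_image_eq_of_span_cotangent J hJ (s : Set J.Cotangent) σ hσ hspan)
  unfold Ideal.ofList
  congr 1
  ext x
  simp only [List.mem_map, Finset.mem_toList, Set.mem_setOf_eq, Set.mem_image, Finset.mem_coe]

/-- the conormal module of an ideal generated by a list is generated by at most as many
elements as the list -/
theorem spanFinrank_cotangent_le (l : List S) :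
    (⊤ : Submodule (S ⧸ Ideal.ofList l) (Ideal.ofList l).Cotangent).spanFinrank ≤ l.length := by
  classical
  set J := Ideal.ofList l with hJdef
  let f : S → J.Cotangent := fun r => if h : r ∈ J then J.toCotangent ⟨r, h⟩ else 0
  have key : ∀ (j : S) (hj : j ∈ Ideal.span {r | r ∈ l}),
      J.toCotangent ⟨j, hj⟩ ∈ Submodule.span (S ⧸ J) (f '' {r | r ∈ l}) := by
    intro j hj
    induction hj using Submodule.span_induction with
    | mem r hr =>
      apply Submodule.subset_span
      refine ⟨r, hr, ?_⟩
      have : r ∈ J := Ideal.subset_span hr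
      simp only [f, dif_pos this]
    | zero =>
      have : J.toCotangent ⟨0, J.zero_mem⟩ = 0 := map_zero _
      rw [this]
      exact Submodule.zero_mem _
    | add a b ha hb iha ihb =>
      have : J.toCotangent ⟨a + b, J.add_mem ha hb⟩ =
          J.toCotangent ⟨a, ha⟩ + J.toCotangent ⟨b, hb⟩ := by
        rw [← map_add]; rfl
      rw [this]
      exact Submodule.add_mem _ iha ihb
    | smul a x hx ih =>
      have : J.toCotangent ⟨a • x, J.smul_mem a hx⟩ =
          (Ideal.Quotient.mk J a) • J.toCotangent ⟨x, hx⟩ := by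
        rw [← Ideal.Quotient.algebraMap_eq, algebraMap_smul, ← map_smul]; rfl
      rw [this]
      exact Submodule.smul_mem _ _ ih
  have htop : Submodule.span (S ⧸ J) (f '' {r | r ∈ l}) = ⊤ := by
    rw [eq_top_iff]
    intro m _
    obtain ⟨⟨j, hj⟩, rfl⟩ := J.toCotangent_surjective m
    exact key j hj
  have hfin : ({r | r ∈ l} : Set S).Finite := l.finite_toSet
  rw [← htop]
  refine (Submodule.spanFinrank_span_le_ncard_of_finite (hfin.image f)).trans ?_
  refine (Set.ncard_image_le hfin).trans ?_
  have h1 : ({r | r ∈ l} : Set S) = (l.toFinset : Set S) := by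
    ext x; simp
  rw [h1, Set.ncard_coe_finset]
  exact List.toFinset_card_le l

end CotGen

section RegLocal

/-- **Regular local ring**: a proper ideal is generated by a regular sequence iff its conormal
module is generated by `dim R - dim R/I` elements. -/
theorem regularSeq_iff_cotangent {R : Type u} [CommRing R] [IsRegularLocalRing R]
    (I : Ideal R) (hI : I ≠ ⊤) :
    (∃ rs : List R, Ideal.ofList rs = I ∧ RingTheory.Sequence.IsRegular R rs) ↔
      (((⊤ : Submodule (R ⧸ I) I.Cotangent).spanFinrank : WithBot ℕ∞) + ringKrullDim (R ⧸ I)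
        ≤ ringKrullDim R) := by
  have hCM : LocCoh.IsCohenMacaulayModule R R := _root_.RegUCH8.isCM_of_regular R
  constructor
  · rintro ⟨rs, rfl, hreg⟩
    have hmem : ∀ x ∈ rs, x ∈ maximalIdeal R := fun x hx =>
      IsLocalRing.le_maximalIdeal hI (Ideal.subset_span hx)
    have h2 := ((isCM_list rs R hCM hmem).1).mp hreg.toIsWeaklyRegular
    rw [supportDim_quot_smul_top_self, Module.supportDim_self_eq_ringKrullDim] at h2
    rw [← h2, add_comm]
    have h3 := spanFinrank_cotangent_le rs
    have h4 : (((⊤ : Submodule (R ⧸ Ideal.ofList rs) (Ideal.ofList rs).Cotangent).spanFinrank : ℕ) :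
        WithBot ℕ∞) ≤ ((rs.length : ℕ) : WithBot ℕ∞) := by exact_mod_cast h3
    exact add_le_add_right h4 _
  · intro h
    obtain ⟨l, hlen, hl⟩ := exists_list_of_cotangent I hI
    refine ⟨l, hl, ?_⟩
    have hmem : ∀ x ∈ l, x ∈ maximalIdeal R := fun x hx =>
      IsLocalRing.le_maximalIdeal hI (hl ▸ Ideal.subset_span hx)
    have h5 := supportDim_le_supportDim_quot_ofList_add_length l R hmem
    rw [supportDim_quot_smul_top_self, Module.supportDim_self_eq_ringKrullDim, hl] at h5
    refine ⟨?_, ?_⟩
    · rw [(isCM_list l R hCM hmem).1, supportDim_quot_smul_top_self,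
        Module.supportDim_self_eq_ringKrullDim, hl]
      apply le_antisymm
      · rw [hlen, add_comm]
        exact h
      · exact h5
    · rw [hl, smul_eq_mul, Ideal.mul_top]
      exact fun h => hI h.symm

end RegLocal

end Groth.Agent.Link9
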