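import Mathlib
import Groth.Agent.Lib.Link4_helper9
import Groth.Agent.Lib.DimFT3_helper8

/-!
# Equidimensional Cohen–Macaulay algebras of finite type over a field: dimension drop and regular
sequences (helper9)
APPEND-ONLY once landed.
-/

set_option autoImplicit false
universe u

namespace Groth.Agent.Link9

open IsLocalRing RingTheory.Sequence Groth.Agent.DepthLib

section EquidimFT

/-- dimension formula in an equidimensional algebra of finite type over a field -/
theorem exists_dim_quot_of_equidim (k S : Type u) [Field k] [CommRing S] [Algebra k S]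
    [Algebra.FiniteType k S] (d : ℕ)
    (heq : ∀ p ∈ minimalPrimes S, ringKrullDim (S ⧸ p) = d) (P : Ideal S) [P.IsPrime] :
    ∃ r : ℕ, ringKrullDim (S ⧸ P) = (r : WithBot ℕ∞) ∧ P.height + (r : ℕ∞) = (d : ℕ∞) := by
  haveI : IsNoetherianRing S := Algebra.FiniteType.isNoetherianRing k S
  obtain ⟨q, hqmin, hqP, hh⟩ := Groth.Agent.DimFT2H8.exists_minimalPrimes_height_map_eq P
  haveI hqp : q.IsPrime := hqmin.1.1
  haveI : Algebra.FiniteType k (S ⧸ q) :=
    Algebra.FiniteType.of_surjective (Ideal.Quotient.mkₐ k q) (Ideal.Quotient.mkₐ_surjective k q)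
  obtain ⟨n, -, hn, hdim, -⟩ := Groth.Agent.DimFTH8.exists_dim_eq k (S ⧸ q)
  have hnd : n = d := by
    have h1 := heq q hqmin
    rw [hdim] at h1
    exact_mod_cast h1
  subst hnd
  have hker : RingHom.ker (Ideal.Quotient.mk q) ≤ P := by rwa [Ideal.mk_ker]
  haveI hP' : (P.map (Ideal.Quotient.mk q)).IsPrime :=
    Ideal.map_isPrime_of_surjective Ideal.Quotient.mk_surjective hker
  obtain ⟨r, hr, hsum⟩ := Groth.Agent.DimFT3H8.height_add_trdeg_quotient n k (S ⧸ q) hn
    (P.map (Ideal.Quotient.mk q))
  haveI : Algebra.FiniteType k ((S ⧸ q) ⧸ P.map (Ideal.Quotient.mk q)) :=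
    Algebra.FiniteType.of_surjective (Ideal.Quotient.mkₐ k _) (Ideal.Quotient.mkₐ_surjective k _)
  obtain ⟨r', -, hr', hdim', -⟩ := Groth.Agent.DimFTH8.exists_dim_eq k
    ((S ⧸ q) ⧸ P.map (Ideal.Quotient.mk q))
  have hrr : r' = r := by
    have : ((r' : ℕ) : Cardinal) = ((r : ℕ) : Cardinal) := by rw [← hr', hr]
    exact_mod_cast this
  subst hrr
  refine ⟨r', ?_, ?_⟩
  · rw [← hdim']
    exact (ringKrullDim_eq_of_ringEquiv (DoubleQuot.quotQuotEquivQuotOfLE hqP)).symm
  · rw [← hh]
    exact hsum

end EquidimFT

section RegSeqCMFT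

/-- **Dimension drop ⇒ regular sequence** in an equidimensional Cohen–Macaulay algebra of finite
type over a field. -/
theorem regular_of_dim_drop (k S : Type u) [Field k] [CommRing S] [Algebra k S]
    [Algebra.FiniteType k S] [hCM : LocCoh.IsCohenMacaulayRing S] (d : ℕ)
    (heq : ∀ p ∈ minimalPrimes S, ringKrullDim (S ⧸ p) = d) (f : List S) (hi : f.length ≤ d)
    (hne : Ideal.ofList f ≠ ⊤)
    (hle : ringKrullDim (S ⧸ Ideal.ofList f) ≤ ((d - f.length : ℕ) : WithBot ℕ∞)) :
    ringKrullDim (S ⧸ Ideal.ofList f) = ((d - f.length : ℕ) : WithBot ℕ∞) ∧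
      ∀ (q : Ideal S) [q.IsPrime], Ideal.ofList f ≤ q →
        RingTheory.Sequence.IsRegular (Localization.AtPrime q)
          (f.map (algebraMap S (Localization.AtPrime q))) := by
  haveI : IsNoetherianRing S := Algebra.FiniteType.isNoetherianRing k S
  -- every prime containing `f` has height at least `length f`
  have hprime : ∀ (P : Ideal S) [P.IsPrime], Ideal.ofList f ≤ P → (f.length : ℕ∞) ≤ P.height := by
    intro P _ hP
    obtain ⟨r, hr, hsum⟩ := exists_dim_quot_of_equidim k S d heq P
    have h1 : ringKrullDim (S ⧸ P) ≤ ringKrullDim (S ⧸ Ideal.ofList f) :=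
      ringKrullDim_le_of_surjective (Ideal.Quotient.factor hP) (Ideal.Quotient.factor_surjective hP)
    rw [hr] at h1
    have h2 : ((r : ℕ) : WithBot ℕ∞) ≤ ((d - f.length : ℕ) : WithBot ℕ∞) := h1.trans hle
    have h3 : r ≤ d - f.length := by exact_mod_cast h2
    have hfin : P.height ≠ ⊤ := by
      intro htop
      rw [htop, top_add] at hsum
      exact ENat.top_ne_coe d hsum
    lift P.height to ℕ using hfin with h hh
    have h4 : h + r = d := by exact_mod_cast hsum
    have h5 : f.length ≤ h := by omega
    exact_mod_cast h5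
  have hheight : (f.length : ℕ∞) ≤ (Ideal.ofList f).height := by
    rw [Ideal.height_eq_inf_minimalPrimes]
    apply le_iInf₂
    intro P hP
    haveI : P.IsPrime := hP.1.1
    exact hprime P hP.1.2
  refine ⟨le_antisymm hle ?_, ?_⟩
  · obtain ⟨P, hPmin⟩ := Ideal.nonempty_minimalPrimes hne
    haveI : P.IsPrime := hPmin.1.1
    obtain ⟨r, hr, hsum⟩ := exists_dim_quot_of_equidim k S d heq P
    have h1 : ringKrullDim (S ⧸ P) ≤ ringKrullDim (S ⧸ Ideal.ofList f) :=
      ringKrullDim_le_of_surjective (Ideal.Quotient.factor hPmin.1.2)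
        (Ideal.Quotient.factor_surjective hPmin.1.2)
    refine le_trans ?_ h1
    rw [hr]
    have h2 : P.height ≤ (f.length : ℕ∞) := by
      have h3 := Ideal.height_le_spanRank_toENat_of_mem_minimalPrimes (Ideal.ofList f) P hPmin
      refine h3.trans ?_
      have h4 : (Ideal.ofList f).spanFinrank ≤ f.length := by
        have hfin : ({r | r ∈ f} : Set S).Finite := f.finite_toSet
        refine (Submodule.spanFinrank_span_le_ncard_of_finite hfin).trans ?_
        classical
        have h1 : ({r | r ∈ f} : Set S) = (f.toFinset : Set S) := by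
          ext x; simp
        rw [h1, Set.ncard_coe_finset]
        exact List.toFinset_card_le f
      have hfg : (Ideal.ofList f).FG := (isNoetherianRing_iff_ideal_fg S).1 inferInstance _
      rw [Submodule.fg_iff_spanRank_eq_spanFinrank.mpr hfg]
      simpa using h4
    have hfin : P.height ≠ ⊤ := by
      intro htop
      rw [htop, top_add] at hsum
      exact ENat.top_ne_coe d hsum
    lift P.height to ℕ using hfin with h hh
    have h4 : h + r = d := by exact_mod_cast hsum
    have h6 : h ≤ f.length := by exact_mod_cast h2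
    have h5 : d - f.length ≤ r := by omega
    exact_mod_cast h5
  · intro q _ hq
    haveI hCMq := hCM.isCohenMacaulayLocalRing_localization q
    haveI : IsNoetherianRing (Localization.AtPrime q) :=
      IsLocalization.isNoetherianRing q.primeCompl _ inferInstance
    set l := f.map (algebraMap S (Localization.AtPrime q)) with hl
    have hofList : Ideal.ofList l = (Ideal.ofList f).map (algebraMap S (Localization.AtPrime q)) := by
      rw [Ideal.ofList, Ideal.ofList, Ideal.map_span]
      congr 1
      ext x
      simp [hl]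
    have hmem : ∀ x ∈ l, x ∈ maximalIdeal (Localization.AtPrime q) := by
      intro x hx
      rw [hl, List.mem_map] at hx
      obtain ⟨y, hy, rfl⟩ := hx
      rw [← Localization.AtPrime.map_eq_maximalIdeal]
      exact Ideal.mem_map_of_mem _ (hq (Ideal.subset_span hy))
    have hht : (l.length : ℕ∞) ≤ (Ideal.ofList l).height := by
      rw [hl, List.length_map, ← hl, ← IsLocalization.height_under q.primeCompl]
      refine hheight.trans (Ideal.height_mono ?_)
      rw [hofList]
      exact Ideal.le_comap_map
    refine ⟨isWeaklyRegular_of_height hCMq.supportDim_eq_depth l hmem hht, ?_⟩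
    rw [smul_eq_mul, Ideal.mul_top]
    intro h
    have h2 : Ideal.ofList l ≤ maximalIdeal (Localization.AtPrime q) := Ideal.span_le.2 hmem
    rw [← h] at h2
    exact (Ideal.IsPrime.ne_top inferInstance) (top_le_iff.mp h2)

end RegSeqCMFT

end Groth.Agent.Link9
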