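import Mathlib
import Groth.Agent.Lib.Link5_helper9
import Groth.Agent.Lib.DepthSeq_helper5
import Groth.Agent.Lib.Vasc1_helper9

/-!
# Generating sequences starting with a maximal regular sequence (helper9)
APPEND-ONLY once landed.
-/

set_option autoImplicit false
universe u

namespace Groth.Agent.Link9

open IsLocalRing RingTheory.Sequence Groth.Agent.DepthLib

section GenReg

variable {T : Type u} [CommRing T] [IsNoetherianRing T]

/-- an element avoiding all associated primes is regular -/
theorem isSMulRegular_of_forall_not_mem (M : Type u) [AddCommGroup M] [Module T M] (x : T)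
    (h : ∀ P ∈ associatedPrimes T M, x ∉ P) : IsSMulRegular M x := by
  rw [isSMulRegular_iff_right_eq_zero_of_smul]
  intro m hm
  by_contra hne
  have hx : x ∈ ⋃ p ∈ associatedPrimes T M, (p : Set T) := by
    rw [biUnion_associatedPrimes_eq_zero_divisors]
    exact ⟨m, hne, hm⟩
  obtain ⟨P, hP, hxP⟩ := Set.mem_iUnion₂.1 hx
  exact h P hP hxP

/-- elements of `J` kill `T/J` -/
theorem smul_quot_smul_top_eq_zero (J : Ideal T) (x : T) (hx : x ∈ J)
    (m : T ⧸ (J • ⊤ : Submodule T T)) : x • m = 0 := by
  obtain ⟨a, rfl⟩ := Submodule.Quotient.mk_surjective _ m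
  rw [← Submodule.Quotient.mk_smul, Submodule.Quotient.mk_eq_zero]
  exact Submodule.smul_mem_smul hx Submodule.mem_top

/-- the `J`-depth of `T/J` is zero for a proper ideal `J` -/
theorem not_one_le_idealDepth_quot_self (J : Ideal T) (hJ : J ≠ ⊤) :
    ¬ 1 ≤ LocCoh.idealDepth J (T ⧸ (J • ⊤ : Submodule T T)) := by
  have hone : (Submodule.Quotient.mk (1 : T) : T ⧸ (J • ⊤ : Submodule T T)) ≠ 0 := by
    intro h
    rw [Submodule.Quotient.mk_eq_zero, smul_eq_mul, Ideal.mul_top] at h
    exact hJ ((Ideal.eq_top_iff_one J).2 h)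
  rw [one_le_idealDepth_iff]
  rintro (h | ⟨x, hx, hreg⟩)
  · apply hone
    have h1 : (Submodule.Quotient.mk (1 : T) : T ⧸ (J • ⊤ : Submodule T T)) ∈
        (J • ⊤ : Submodule T (T ⧸ (J • ⊤ : Submodule T T))) := by rw [h]; trivial
    refine Submodule.smul_induction_on h1 ?_ ?_
    · intro r hr n _
      exact smul_quot_smul_top_eq_zero J r hr n
    · intro a b ha hb
      rw [ha, hb, add_zero]
  · apply hone
    apply hreg
    change x • _ = x • _
    rw [smul_quot_smul_top_eq_zero J x hx, smul_zero]

/-- **generating sequences beginning with a regular sequence**: a proper ideal `J` of grade `j` in a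
Noetherian ring has a generating sequence of minimal length whose first `j` terms form a regular
sequence. -/
theorem exists_generators_weaklyRegular (J : Ideal T) (hJ : J ≠ ⊤) (j : ℕ)
    (hj : LocCoh.idealDepth J T = j) :
    ∀ k, k ≤ j → k ≤ Submodule.spanFinrank J ∧
      ∃ ts : List T, ts.length = Submodule.spanFinrank J ∧ Ideal.ofList ts = J ∧
        IsWeaklyRegular T (ts.take k) := by
  classical
  intro k
  induction k with
  | zero =>
    intro _
    refine ⟨Nat.zero_le _, ?_⟩
    obtain ⟨s, hcard, hspan⟩ :=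
      (IsNoetherian.noetherian J).exists_span_finset_card_eq_spanFinrank
    refine ⟨s.toList, by rw [Finset.length_toList, hcard], ?_, ?_⟩
    · rw [← hspan]
      unfold Ideal.ofList
      congr 1
      ext x
      simp
    · rw [List.take_zero]
      exact IsWeaklyRegular.nil T T
  | succ k ih =>
    intro hk
    obtain ⟨hkc, ts, hlen, hts, hreg⟩ := ih (by omega)
    set l₁ := ts.take k with hl₁
    have htsJ : ∀ r ∈ ts, r ∈ J := fun r hr => hts ▸ Ideal.subset_span hr
    have hmem₁ : ∀ r ∈ l₁, r ∈ J := fun r hr => htsJ r (List.mem_of_mem_take hr)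
    have hlen₁ : l₁.length = k := by
      rw [hl₁, List.length_take, hlen]
      exact min_eq_left hkc
    have h1 := idealDepth_quot_ofList_add_length J l₁ T hreg hmem₁
    rw [hj, hlen₁] at h1
    have hd1 : 1 ≤ LocCoh.idealDepth J (T ⧸ (Ideal.ofList l₁ • ⊤ : Submodule T T)) := by
      have hfin : LocCoh.idealDepth J (T ⧸ (Ideal.ofList l₁ • ⊤ : Submodule T T)) ≠ ⊤ := by
        intro htop
        rw [htop, top_add] at h1
        exact ENat.top_ne_coe j h1
      lift LocCoh.idealDepth J (T ⧸ (Ideal.ofList l₁ • ⊤ : Submodule T T)) to ℕ using hfin with d hd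
      have h2 : d + k = j := by exact_mod_cast h1
      have h3 : 1 ≤ d := by omega
      exact_mod_cast h3
    have hkc' : k < Submodule.spanFinrank J := by
      by_contra hnot
      have hkeq : ts.length ≤ k := by rw [hlen]; omega
      have hl₁ts : l₁ = ts := List.take_of_length_le hkeq
      rw [hl₁ts, hts] at hd1
      exact not_one_le_idealDepth_quot_self J hJ hd1
    refine ⟨hkc', ?_⟩
    have hk_lt : k < ts.length := by rw [hlen]; exact hkc'
    set x := ts[k] with hx
    set l₂ := ts.drop (k + 1) with hl₂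
    have hdecomp : ts = l₁ ++ x :: l₂ := by
      rw [hl₁, hx, hl₂, ← List.drop_eq_getElem_cons hk_lt, List.take_append_drop]
    set J' := Ideal.ofList (l₁ ++ l₂) with hJ'
    have hJsup : J = J' ⊔ Ideal.span {x} := by
      rw [← hts, hdecomp, hJ', Ideal.ofList_append, Ideal.ofList_append, Ideal.ofList_cons]
      rw [sup_comm (Ideal.span {x}), ← sup_assoc]
    have hfin := associatedPrimes.finite T (T ⧸ (Ideal.ofList l₁ • ⊤ : Submodule T T))
    obtain ⟨j', hj', havoid⟩ := Groth.Agent.Vasc9.exists_add_not_mem x J' hfin.toFinset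
      (fun p hp => ((hfin.mem_toFinset).1 hp).isPrime)
      (by
        intro p hp hcon
        have hp' := (hfin.mem_toFinset).1 hp
        apply not_one_le_idealDepth_of_le_associatedPrime J _ p hp' _ hd1
        rw [hJsup]
        exact sup_le hcon.2 ((Ideal.span_singleton_le_iff_mem _).2 hcon.1))
    have hxreg : IsSMulRegular (T ⧸ (Ideal.ofList l₁ • ⊤ : Submodule T T)) (x + j') :=
      isSMulRegular_of_forall_not_mem _ _ (fun P hP => havoid P ((hfin.mem_toFinset).2 hP))
    refine ⟨l₁ ++ (x + j') :: l₂, ?_, ?_, ?_⟩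
    · rw [← hlen, hdecomp]
      simp
    · rw [hJsup, hJ', Ideal.ofList_append, Ideal.ofList_append, Ideal.ofList_cons]
      have hspan : Ideal.ofList l₁ ⊔ Ideal.ofList l₂ ⊔ Ideal.span {x + j'} =
          Ideal.ofList l₁ ⊔ Ideal.ofList l₂ ⊔ Ideal.span {x} := by
        have hj'' : j' ∈ Ideal.ofList l₁ ⊔ Ideal.ofList l₂ := by
          rw [← Ideal.ofList_append]; exact hj'
        apply le_antisymm
        · apply sup_le le_sup_left
          rw [Ideal.span_singleton_le_iff_mem]
          exact Ideal.add_mem _ (Ideal.mem_sup_right (Ideal.mem_span_singleton_self x))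
            (Ideal.mem_sup_left hj'')
        · apply sup_le le_sup_left
          rw [Ideal.span_singleton_le_iff_mem]
          have hxm : (x + j') - j' ∈ Ideal.ofList l₁ ⊔ Ideal.ofList l₂ ⊔ Ideal.span {x + j'} :=
            Ideal.sub_mem _ (Ideal.mem_sup_right (Ideal.mem_span_singleton_self _))
              (Ideal.mem_sup_left hj'')
          have hxe : (x + j') - j' = x := by ring
          rw [hxe] at hxm
          exact hxm
      rw [← hspan, sup_comm (Ideal.span {x + j'}), ← sup_assoc]
    · have htake : (l₁ ++ (x + j') :: l₂).take (k + 1) = l₁ ++ [x + j'] := by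
        rw [← hlen₁, List.take_length_add_append]
        simp
      rw [htake, isWeaklyRegular_append_iff]
      refine ⟨hreg, ?_⟩
      rw [isWeaklyRegular_cons_iff]
      exact ⟨hxreg, IsWeaklyRegular.nil T _⟩

end GenReg

section CMLocal

/-- **S17873** -/
theorem generators_regular_of_cm {T : Type u} [CommRing T] [hT : LocCoh.IsCohenMacaulayLocalRing T]
    (J : Ideal T) (hJ : J ≠ ⊤) (j : ℕ) (hj : LocCoh.idealDepth J T = j) :
    j ≤ Submodule.spanFinrank J ∧
      ∃ ts : List T, ts.length = Submodule.spanFinrank J ∧ Ideal.ofList ts = J ∧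
        RingTheory.Sequence.IsRegular T (ts.take j) := by
  haveI : IsNoetherianRing T := hT.toIsNoetherian
  obtain ⟨h1, ts, hlen, hts, hreg⟩ := exists_generators_weaklyRegular J hJ j hj j le_rfl
  refine ⟨h1, ts, hlen, hts, hreg, ?_⟩
  rw [smul_eq_mul, Ideal.mul_top]
  intro h
  apply hJ
  rw [eq_top_iff, h, ← hts]
  apply Ideal.span_mono
  intro r hr
  exact List.mem_of_mem_take hr

end CMLocal

end Groth.Agent.Link9
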