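import Mathlib
import Groth.Agent.Lib.Link6_helper9
import Groth.Agent.Lib.CMChain_helper5
import Groth.Prelude.Def_W4c5grrsingularflatDSeq

/-!
# Almost complete intersection primes are generated by d-sequences (Huneke) (helper9)
APPEND-ONLY once landed.
-/

set_option autoImplicit false
universe u

namespace Groth.Agent.Link9

open IsLocalRing RingTheory.Sequence Groth.Agent.DepthLib

section GenRegMod

variable {T : Type u} [CommRing T]

/-- lists congruent modulo `K` generate the same ideal modulo `K` -/
theorem ofList_sup_eq_of_forall₂ (K : Ideal T) (l l₀ : List T)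
    (h : List.Forall₂ (fun a b => a - b ∈ K) l l₀) :
    Ideal.ofList l ⊔ K = Ideal.ofList l₀ ⊔ K := by
  induction h with
  | nil => rfl
  | @cons a b l l₀ hab _ ih =>
    rw [Ideal.ofList_cons, Ideal.ofList_cons, sup_assoc, sup_assoc, ih]
    have key : ∀ u v : T, u - v ∈ K → Ideal.span {u} ≤ Ideal.span {v} ⊔ (Ideal.ofList l₀ ⊔ K) := by
      intro u v huv
      rw [Ideal.span_singleton_le_iff_mem]
      have : u = v + (u - v) := by ring
      rw [this]
      exact Ideal.add_mem _ (Ideal.mem_sup_left (Ideal.mem_span_singleton_self v))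
        (Ideal.mem_sup_right (Ideal.mem_sup_right huv))
    apply le_antisymm
    · exact sup_le (key a b hab) le_sup_right
    · refine sup_le (key b a ?_) le_sup_right
      have : b - a = -(a - b) := by ring
      rw [this]
      exact K.neg_mem hab

variable [IsNoetherianRing T]

/-- **generating sequences beginning with a regular sequence, refined**: starting from any
generating list of a proper ideal `J` of grade `j`, one can modify its first `j` members modulo
`J²` so that they form a regular sequence. -/
theorem exists_generators_weaklyRegular_mod (J : Ideal T) (hJ : J ≠ ⊤) (j : ℕ)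
    (hj : LocCoh.idealDepth J T = j) (ts₀ : List T) (hts₀ : Ideal.ofList ts₀ = J) :
    ∀ k, k ≤ j → k ≤ ts₀.length ∧
      ∃ ts : List T, ts.length = ts₀.length ∧ Ideal.ofList ts = J ∧
        IsWeaklyRegular T (ts.take k) ∧ List.Forall₂ (fun a b => a - b ∈ J ^ 2) ts ts₀ := by
  classical
  intro k
  induction k with
  | zero =>
    intro _
    refine ⟨Nat.zero_le _, ts₀, rfl, hts₀, ?_, ?_⟩
    · rw [List.take_zero]
      exact IsWeaklyRegular.nil T T
    · rw [List.forall₂_same]
      intro x _
      rw [sub_self]
      exact Submodule.zero_mem _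
  | succ k ih =>
    intro hk
    obtain ⟨hkc, ts, hlen, hts, hreg, hrel⟩ := ih (by omega)
    set l₁ := ts.take k with hl₁
    have htsJ : ∀ r ∈ ts, r ∈ J := fun r hr => hts ▸ Ideal.subset_span hr
    have hmem₁ : ∀ r ∈ l₁, r ∈ J := fun r hr => htsJ r (List.mem_of_mem_take hr)
    have hlen₁ : l₁.length = k := by
      rw [hl₁, List.length_take, hlen]
      exact min_eq_left hkc
    have h1 := idealDepth_quot_ofList_add_length J l₁ T hreg hmem₁
    rw [hj, hlen₁] at h1
    have hd1 : 1 ≤ LocCoh.idealDepth J (T ⧸ (Ideal.ofList l₁ • ⊤ : Submodule T T)) := by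
      have hfin : LocCoh.idealDepth J (T ⧸ (Ideal.ofList l₁ • ⊤ : Submodule T T)) ≠ ⊤ := by
        intro htop
        rw [htop, top_add] at h1
        exact ENat.top_ne_coe j h1
      lift LocCoh.idealDepth J (T ⧸ (Ideal.ofList l₁ • ⊤ : Submodule T T)) to ℕ using hfin with d hd
      have h2 : d + k = j := by exact_mod_cast h1
      have h3 : 1 ≤ d := by omega
      exact_mod_cast h3
    have hkc' : k < ts₀.length := by
      by_contra hnot
      have hkeq : ts.length ≤ k := by rw [hlen]; omega
      have hl₁ts : l₁ = ts := List.take_of_length_le hkeq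
      rw [hl₁ts, hts] at hd1
      exact not_one_le_idealDepth_quot_self J hJ hd1
    refine ⟨hkc', ?_⟩
    have hk_lt : k < ts.length := by rw [hlen]; exact hkc'
    set x := ts[k] with hx
    set l₂ := ts.drop (k + 1) with hl₂
    have hdecomp : ts = l₁ ++ x :: l₂ := by
      rw [hl₁, hx, hl₂, ← List.drop_eq_getElem_cons hk_lt, List.take_append_drop]
    set J' := Ideal.ofList (l₁ ++ l₂) with hJ'
    have hJsup : J = J' ⊔ Ideal.span {x} := by
      rw [← hts, hdecomp, hJ', Ideal.ofList_append, Ideal.ofList_append, Ideal.ofList_cons]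
      rw [sup_comm (Ideal.span {x}), ← sup_assoc]
    have hJ'J : J' ≤ J := by rw [hJsup]; exact le_sup_left
    have hfin := associatedPrimes.finite T (T ⧸ (Ideal.ofList l₁ • ⊤ : Submodule T T))
    obtain ⟨j', hj', havoid⟩ := Groth.Agent.Vasc9.exists_add_not_mem x (J * J') hfin.toFinset
      (fun p hp => ((hfin.mem_toFinset).1 hp).isPrime)
      (by
        intro p hp hcon
        have hp' := (hfin.mem_toFinset).1 hp
        haveI : p.IsPrime := hp'.isPrime
        apply not_one_le_idealDepth_of_le_associatedPrime J _ p hp' _ hd1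
        rcases (Ideal.IsPrime.mul_le inferInstance).1 hcon.2 with h | h
        · exact h
        · rw [hJsup]
          exact sup_le h ((Ideal.span_singleton_le_iff_mem _).2 hcon.1))
    have hj'J' : j' ∈ J' := (Ideal.mul_le_right : J * J' ≤ J') hj'
    have hj'2 : j' ∈ J ^ 2 := by
      rw [pow_two]
      exact Ideal.mul_mono_right hJ'J hj'
    have hxreg : IsSMulRegular (T ⧸ (Ideal.ofList l₁ • ⊤ : Submodule T T)) (x + j') :=
      isSMulRegular_of_forall_not_mem _ _ (fun P hP => havoid P ((hfin.mem_toFinset).2 hP))
    refine ⟨l₁ ++ (x + j') :: l₂, ?_, ?_, ?_, ?_⟩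
    · rw [← hlen, hdecomp]
      simp
    · rw [hJsup, hJ', Ideal.ofList_append, Ideal.ofList_append, Ideal.ofList_cons]
      have hspan : Ideal.ofList l₁ ⊔ Ideal.ofList l₂ ⊔ Ideal.span {x + j'} =
          Ideal.ofList l₁ ⊔ Ideal.ofList l₂ ⊔ Ideal.span {x} := by
        have hj'' : j' ∈ Ideal.ofList l₁ ⊔ Ideal.ofList l₂ := by
          rw [← Ideal.ofList_append]; exact hj'J'
        apply le_antisymm
        · apply sup_le le_sup_left
          rw [Ideal.span_singleton_le_iff_mem]
          exact Ideal.add_mem _ (Ideal.mem_sup_right (Ideal.mem_span_singleton_self x))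
            (Ideal.mem_sup_left hj'')
        · apply sup_le le_sup_left
          rw [Ideal.span_singleton_le_iff_mem]
          have hxm : (x + j') - j' ∈ Ideal.ofList l₁ ⊔ Ideal.ofList l₂ ⊔ Ideal.span {x + j'} :=
            Ideal.sub_mem _ (Ideal.mem_sup_right (Ideal.mem_span_singleton_self _))
              (Ideal.mem_sup_left hj'')
          have hxe : (x + j') - j' = x := by ring
          rw [hxe] at hxm
          exact hxm
      rw [← hspan, sup_comm (Ideal.span {x + j'}), ← sup_assoc]
    · have htake : (l₁ ++ (x + j') :: l₂).take (k + 1) = l₁ ++ [x + j'] := by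
        rw [← hlen₁, List.take_length_add_append]
        simp
      rw [htake, isWeaklyRegular_append_iff]
      refine ⟨hreg, ?_⟩
      rw [isWeaklyRegular_cons_iff]
      exact ⟨hxreg, IsWeaklyRegular.nil T _⟩
    · have h₁ : List.Forall₂ (fun a b => a - b ∈ J ^ 2) l₁ (ts₀.take k) := List.forall₂_take k hrel
      have h₂ : List.Forall₂ (fun a b => a - b ∈ J ^ 2) l₂ (ts₀.drop (k + 1)) :=
        List.forall₂_drop (k + 1) hrel
      have hxrel : x - ts₀[k] ∈ J ^ 2 := by
        have := (List.forall₂_iff_get.1 hrel).2 k hk_lt hkc'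
        simpa using this
      have hdecomp₀ : ts₀ = ts₀.take k ++ ts₀[k] :: ts₀.drop (k + 1) := by
        rw [← List.drop_eq_getElem_cons hkc', List.take_append_drop]
      rw [hdecomp₀]
      refine List.rel_append h₁ (List.Forall₂.cons ?_ h₂)
      have : x + j' - ts₀[k] = (x - ts₀[k]) + j' := by ring
      rw [this]
      exact Ideal.add_mem _ hxrel hj'2

end GenRegMod

section DropGen

variable {B : Type u} [CommRing B] [IsLocalRing B] [IsNoetherianRing B]

/-- among `n + 1` generators of the maximal ideal of a local ring of embedding dimension `n`, one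
is redundant -/
theorem exists_span_image_ne_eq_maximalIdeal (n : ℕ) (hn : (maximalIdeal B).spanFinrank = n)
    (v : Fin (n + 1) → B) (hv : Ideal.span (Set.range v) = maximalIdeal B) :
    ∃ m : Fin (n + 1), Ideal.span (v '' {i | i ≠ m}) = maximalIdeal B := by
  have hvm : ∀ i, v i ∈ maximalIdeal B := fun i => hv ▸ Ideal.subset_span ⟨i, rfl⟩
  let v' : Fin (n + 1) → maximalIdeal B := fun i => ⟨v i, hvm i⟩
  let w : Fin (n + 1) → CotangentSpace B := fun i => (maximalIdeal B).toCotangent (v' i)
  have hback : ∀ s : Set (maximalIdeal B), Submodule.span B s = ⊤ →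
      Ideal.span ((fun y : maximalIdeal B => (y : B)) '' s) = maximalIdeal B := by
    intro s hs
    have h1 := congrArg (Submodule.map (maximalIdeal B).subtype) hs
    rw [Submodule.map_span, Submodule.map_top, Submodule.range_subtype] at h1
    exact h1
  have hv' : Submodule.span B (Set.range v') = ⊤ := by
    apply Submodule.map_injective_of_injective (maximalIdeal B).injective_subtype
    rw [Submodule.map_span, ← Set.range_comp, Submodule.map_top, Submodule.range_subtype]
    exact hv
  by_contra hcon
  push Not at hcon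
  have hli : LinearIndependent (ResidueField B) w := by
    rw [linearIndependent_iff_notMem_span]
    intro m hm
    apply hcon m
    have htop : Submodule.span (ResidueField B) (w '' (Set.univ \ {m})) = ⊤ := by
      rw [eq_top_iff, ← (CotangentSpace.span_image_eq_top_iff (s := Set.range v')).2 hv',
        Submodule.span_le]
      rintro _ ⟨_, ⟨i, rfl⟩, rfl⟩
      by_cases him : i = m
      · subst him; exact hm
      · exact Submodule.subset_span ⟨i, ⟨trivial, him⟩, rfl⟩
    have hset : w '' (Set.univ \ {m}) = (maximalIdeal B).toCotangent '' (v' '' {i | i ≠ m}) := by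
      rw [Set.image_image]
      congr 1
      ext i
      simp
    rw [hset, CotangentSpace.span_image_eq_top_iff] at htop
    have h2 := hback _ htop
    rw [Set.image_image] at h2
    exact h2
  have hcard := hli.fintype_card_le_finrank
  rw [Fintype.card_fin, ← spanFinrank_maximalIdeal_eq_finrank_cotangentSpace, hn] at hcard
  omega

end DropGen

section Reorder

variable {T : Type u} [CommRing T] [IsNoetherianRing T]

/-- a generating list of `p` of length `h + 1`, where `p T_p` needs `h` generators, can be reordered
so that its first `h` members generate `p T_p` -/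
theorem exists_reorder (p : Ideal T) [p.IsPrime] (h : ℕ)
    (hreg : (maximalIdeal (Localization.AtPrime p)).spanFinrank = h) (ts₀ : List T)
    (hlen : ts₀.length = h + 1) (hts₀ : Ideal.ofList ts₀ = p) :
    ∃ ts₁ : List T, ts₁.length = h + 1 ∧ Ideal.ofList ts₁ = p ∧
      (Ideal.ofList (ts₁.take h)).map (algebraMap T (Localization.AtPrime p)) =
        maximalIdeal (Localization.AtPrime p) := by
  haveI : IsNoetherianRing (Localization.AtPrime p) :=
    IsLocalization.isNoetherianRing p.primeCompl _ inferInstance
  let v : Fin (h + 1) → Localization.AtPrime p := fun i =>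
    algebraMap T (Localization.AtPrime p) (ts₀[(i : ℕ)]'(by rw [hlen]; exact i.2))
  have hv : Ideal.span (Set.range v) = maximalIdeal (Localization.AtPrime p) := by
    rw [← Localization.AtPrime.map_eq_maximalIdeal]
    have hp : p = Ideal.span {x | x ∈ ts₀} := hts₀.symm
    have hp' : Ideal.map (algebraMap T (Localization.AtPrime p)) p =
        Ideal.map (algebraMap T (Localization.AtPrime p)) (Ideal.span {x | x ∈ ts₀}) :=
      congrArg (fun I => Ideal.map (algebraMap T (Localization.AtPrime p)) I) hp
    rw [hp', Ideal.map_span]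
    congr 1
    ext y
    constructor
    · rintro ⟨i, rfl⟩
      exact ⟨_, List.getElem_mem _, rfl⟩
    · rintro ⟨x, hx, rfl⟩
      obtain ⟨i, hi, rfl⟩ := List.getElem_of_mem hx
      exact ⟨⟨i, by rw [← hlen]; exact hi⟩, rfl⟩
  obtain ⟨m, hm⟩ := exists_span_image_ne_eq_maximalIdeal h hreg v hv
  have hm' : (m : ℕ) < ts₀.length := by rw [hlen]; exact m.2
  refine ⟨ts₀.eraseIdx m ++ [ts₀[(m : ℕ)]], ?_, ?_, ?_⟩
  · rw [List.length_append, List.length_eraseIdx_of_lt hm', hlen]
    simp
  · rw [← hts₀, Ideal.ofList, Ideal.ofList]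
    congr 1
    ext x
    simp only [List.mem_append, List.mem_singleton, Set.mem_setOf_eq]
    constructor
    · rintro (hx | rfl)
      · exact List.mem_of_mem_eraseIdx hx
      · exact List.getElem_mem _
    · intro hx
      obtain ⟨i, hi, rfl⟩ := List.getElem_of_mem hx
      by_cases him : i = m
      · right
        subst him
        rfl
      · left
        rw [List.mem_eraseIdx_iff_getElem]
        exact ⟨i, hi, him, rfl⟩
  · have htake : (ts₀.eraseIdx m ++ [ts₀[(m : ℕ)]]).take h = ts₀.eraseIdx m := by
      apply List.take_left'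
      rw [List.length_eraseIdx_of_lt hm', hlen]
      simp
    rw [htake, ← hm, Ideal.ofList, Ideal.map_span]
    congr 1
    ext y
    constructor
    · rintro ⟨x, hx, rfl⟩
      rw [Set.mem_setOf_eq, List.mem_eraseIdx_iff_getElem] at hx
      obtain ⟨i, hi, him, rfl⟩ := hx
      refine ⟨⟨i, by rw [← hlen]; exact hi⟩, ?_, rfl⟩
      intro hcon
      apply him
      rw [← hcon]
    · rintro ⟨i, hi, rfl⟩
      refine ⟨ts₀[(i : ℕ)]'(by rw [hlen]; exact i.2), ?_, rfl⟩
      rw [Set.mem_setOf_eq, List.mem_eraseIdx_iff_getElem]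
      refine ⟨i, by rw [hlen]; exact i.2, ?_, rfl⟩
      intro hcon
      exact hi (Fin.ext hcon)

end Reorder

section MainClaim

theorem exists_nat_of_add_eq {a : WithBot ℕ∞} {n D : ℕ}
    (h : a + ((n : ℕ) : WithBot ℕ∞) = ((D : ℕ) : WithBot ℕ∞)) :
    ∃ e : ℕ, a = ((e : ℕ) : WithBot ℕ∞) ∧ e + n = D := by
  induction a using WithBot.recBotCoe with
  | bot => simp at h
  | coe a =>
    induction a using ENat.recTopCoe with
    | top =>
      exfalso
      have h1 : ((⊤ : ℕ∞) : WithBot ℕ∞) + ((n : ℕ) : WithBot ℕ∞) = (((⊤ : ℕ∞) + (n : ℕ∞) : ℕ∞) : WithBot ℕ∞) := by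
        push_cast; rfl
      rw [h1, top_add] at h
      have h2 : ((⊤ : ℕ∞) : WithBot ℕ∞) = (((D : ℕ) : ℕ∞) : WithBot ℕ∞) := h
      exact ENat.top_ne_coe D (WithBot.coe_injective h2)
    | coe e =>
      refine ⟨e, rfl, ?_⟩
      exact_mod_cast h

variable {T : Type u} [CommRing T] [hT : LocCoh.IsCohenMacaulayLocalRing T]

/-- unmixedness: the associated primes of the quotient of a Cohen–Macaulay local ring by a regular
sequence of length `h` have height `h` -/
theorem height_of_mem_associatedPrimes_quot_ofList (l : List T) (hreg : IsWeaklyRegular T l)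
    (hmem : ∀ x ∈ l, x ∈ maximalIdeal T) (P : Ideal T)
    (hP : P ∈ associatedPrimes T (T ⧸ (Ideal.ofList l • ⊤ : Submodule T T))) :
    P.height = l.length := by
  haveI : IsNoetherianRing T := hT.toIsNoetherian
  haveI : IsLocalRing T := hT.toIsLocalRing
  haveI : P.IsPrime := hP.isPrime
  have hCM : LocCoh.IsCohenMacaulayModule T T := hT.supportDim_eq_depth
  have hCMM := (isCM_list l T hCM hmem).2 hreg
  have h1 := ((isCM_list l T hCM hmem).1).mp hreg
  have h2 := ringKrullDim_quotient_eq_of_isCM _ hCMM P hP
  have hsupp : Module.support T T = Set.univ := by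
    rw [Module.support_eq_zeroLocus, Module.annihilator_eq_bot.2 inferInstance]
    simp
  have h3 := Groth.Agent.CMChain.height_add_ringKrullDim_quotient T T hCM hsupp P
  obtain ⟨D, hD⟩ := Groth.Agent.FlatCM.exists_nat_ringKrullDim T
  rw [Module.supportDim_self_eq_ringKrullDim, hD] at h1
  obtain ⟨e, he, hed⟩ := exists_nat_of_add_eq h1
  rw [h2, he, hD] at h3
  have hfin : P.height ≠ ⊤ := Ideal.height_ne_top_of_isPrime
  lift P.height to ℕ using hfin with ht hht
  have h4 : ht + e = D := by exact_mod_cast h3
  have h5 : ht = l.length := by omega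
  exact_mod_cast h5

/-- **the key colon identity**: `(I : t²) = (I : t)` for `I` generated by a regular sequence of
length `ht p`, `p = I + (t)` prime, `I T_p = p T_p`. -/
theorem colon_sq_le (l : List T) (hreg : IsWeaklyRegular T l)
    (hmem : ∀ x ∈ l, x ∈ maximalIdeal T) (t : T) (p : Ideal T) [p.IsPrime]
    (hp : p = Ideal.ofList l ⊔ Ideal.span {t}) (hht : p.height = l.length) (s : T) (hs : s ∉ p)
    (hst : s * t ∈ Ideal.ofList l) :
    (Ideal.ofList l).colon {t * t} ≤ (Ideal.ofList l).colon {t} := by
  haveI : IsNoetherianRing T := hT.toIsNoetherian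
  haveI : IsLocalRing T := hT.toIsLocalRing
  intro a ha
  rw [Submodule.mem_colon_singleton, smul_eq_mul] at ha ⊢
  by_contra hne
  set M := T ⧸ (Ideal.ofList l • ⊤ : Submodule T T) with hM
  have hmk : ∀ b : T, (Submodule.Quotient.mk b : M) = 0 ↔ b ∈ Ideal.ofList l := by
    intro b
    rw [Submodule.Quotient.mk_eq_zero, ideal_smul_top_self]
  have hz : (Submodule.Quotient.mk (a * t) : M) ≠ 0 := fun h => hne ((hmk _).1 h)
  obtain ⟨P, hP, hle⟩ := exists_le_isAssociatedPrime_of_isNoetherianRing T
    (Submodule.Quotient.mk (a * t) : M) hz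
  haveI : P.IsPrime := hP.isPrime
  have hP' : P ∈ associatedPrimes T M := hP
  have htP : t ∈ P := by
    apply hle
    rw [Submodule.mem_colon_singleton, Submodule.mem_bot, ← Submodule.Quotient.mk_smul, hmk,
      smul_eq_mul]
    have : t * (a * t) = a * (t * t) := by ring
    rw [this]
    exact ha
  have hIP : Ideal.ofList l ≤ P := by
    have h1 := IsAssociatedPrime.annihilator_le hP
    rw [Submodule.annihilator_top, annihilator_quot_smul_top_self] at h1
    exact h1
  have hpP : p ≤ P := by
    rw [hp]
    exact sup_le hIP ((Ideal.span_singleton_le_iff_mem _).2 htP)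
  have hhtP := height_of_mem_associatedPrimes_quot_ofList l hreg hmem P hP'
  have hpeq : p = P := Ideal.eq_of_le_of_height_le p hpP (by rw [hhtP, hht])
  apply hs
  rw [hpeq]
  apply hle
  rw [Submodule.mem_colon_singleton, Submodule.mem_bot, ← Submodule.Quotient.mk_smul, hmk,
    smul_eq_mul]
  have : s * (a * t) = a * (s * t) := by ring
  rw [this]
  exact Ideal.mul_mem_left _ _ hst

/-- grade equals height in a Cohen–Macaulay local ring -/
theorem idealDepth_eq_height (p : Ideal T) [p.IsPrime] (h : ℕ) (hh : p.height = h) :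
    LocCoh.idealDepth p T = h := by
  haveI : IsNoetherianRing T := hT.toIsNoetherian
  haveI : IsLocalRing T := hT.toIsLocalRing
  have hCM : LocCoh.IsCohenMacaulayModule T T := hT.supportDim_eq_depth
  have hpne : p ≠ ⊤ := Ideal.IsPrime.ne_top inferInstance
  have hsmul : p • (⊤ : Submodule T T) ≠ ⊤ := by
    rw [ideal_smul_top_self]; exact hpne
  have hfin := idealDepth_ne_top p T hsmul
  obtain ⟨n, hn⟩ := ENat.ne_top_iff_exists.1 hfin
  have h1 := supportDim_eq_add_idealDepth_of_isCM p hpne n T hCM hn.symm
  rw [supportDim_quot_smul_top_self, Module.supportDim_self_eq_ringKrullDim] at h1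
  have hsupp : Module.support T T = Set.univ := by
    rw [Module.support_eq_zeroLocus, Module.annihilator_eq_bot.2 inferInstance]
    simp
  have h3 := Groth.Agent.CMChain.height_add_ringKrullDim_quotient T T hCM hsupp p
  obtain ⟨D, hD⟩ := Groth.Agent.FlatCM.exists_nat_ringKrullDim T
  rw [hD] at h1 h3
  obtain ⟨e, he, hed⟩ := exists_nat_of_add_eq h1.symm
  rw [he, hh] at h3
  have h4 : h + e = D := by exact_mod_cast h3
  have h5 : n = h := by omega
  rw [← hn, h5]

end MainClaim

section DSeq

theorem spanFinrank_ofList_le {R : Type u} [CommRing R] (l : List R) :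
    (Ideal.ofList l).spanFinrank ≤ l.length := by
  classical
  have hfin : ({r | r ∈ l} : Set R).Finite := l.finite_toSet
  refine (Submodule.spanFinrank_span_le_ncard_of_finite hfin).trans ?_
  have h1 : ({r | r ∈ l} : Set R) = (l.toFinset : Set R) := by
    ext x; simp
  rw [h1, Set.ncard_coe_finset]
  exact List.toFinset_card_le l

/-- **Huneke**: in a Cohen–Macaulay local ring, a prime `p` with `μ(p) ≤ ht p + 1` and `T_p` regular
is generated by a d-sequence. -/
theorem exists_dSeq {T : Type u} [CommRing T] [hT : LocCoh.IsCohenMacaulayLocalRing T]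
    (p : Ideal T) [p.IsPrime] (hgen : (Submodule.spanFinrank p : ℕ∞) ≤ p.height + 1)
    [hR : IsRegularLocalRing (Localization.AtPrime p)] :
    ∃ ts : List T, Ideal.ofList ts = p ∧ W4c5grrsingularflat.IsDSeq ts := by
  classical
  haveI : IsNoetherianRing T := hT.toIsNoetherian
  haveI : IsLocalRing T := hT.toIsLocalRing
  haveI : IsNoetherianRing (Localization.AtPrime p) :=
    IsLocalization.isNoetherianRing p.primeCompl _ inferInstance
  have hpne : p ≠ ⊤ := Ideal.IsPrime.ne_top inferInstance
  have hpm : p ≤ maximalIdeal T := le_maximalIdeal hpne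
  obtain ⟨h, hh⟩ := ENat.ne_top_iff_exists.1 (Ideal.height_ne_top_of_isPrime (I := p))
  have hj := idealDepth_eq_height p h hh.symm
  set c := Submodule.spanFinrank p with hc
  have hc_le : c ≤ h + 1 := by
    rw [← hh] at hgen
    exact_mod_cast hgen
  obtain ⟨s, hcard, hspan⟩ := (IsNoetherian.noetherian p).exists_span_finset_card_eq_spanFinrank
  have hts₀ : Ideal.ofList s.toList = p := by
    rw [← hspan]
    unfold Ideal.ofList
    congr 1
    ext x
    simp
  have hlen₀ : s.toList.length = c := by rw [Finset.length_toList, hcard]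
  have hhc : h ≤ c := by
    have := (exists_generators_weaklyRegular_mod p hpne h hj s.toList hts₀ h le_rfl).1
    rwa [hlen₀] at this
  have hregT : (maximalIdeal (Localization.AtPrime p)).spanFinrank = h := by
    have h1 := hR.spanFinrank_maximalIdeal
    rw [IsLocalization.AtPrime.ringKrullDim_eq_height p (Localization.AtPrime p), ← hh] at h1
    exact_mod_cast h1
  -- the reordered generating list
  obtain ⟨ts₁, hlen₁, hts₁, hloc₁⟩ : ∃ ts₁ : List T, ts₁.length = c ∧ Ideal.ofList ts₁ = p ∧
      (c = h + 1 → (Ideal.ofList (ts₁.take h)).map (algebraMap T (Localization.AtPrime p)) =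
        maximalIdeal (Localization.AtPrime p)) := by
    by_cases hch : c = h + 1
    · obtain ⟨ts₁, h1, h2, h3⟩ := exists_reorder p h hregT s.toList (hlen₀.trans hch) hts₀
      exact ⟨ts₁, h1.trans hch.symm, h2, fun _ => h3⟩
    · exact ⟨s.toList, hlen₀, hts₀, fun h' => absurd h' hch⟩
  obtain ⟨-, ts, hlen, hts, hreg, hrel⟩ :=
    exists_generators_weaklyRegular_mod p hpne h hj ts₁ hts₁ h le_rfl
  rw [hlen₁] at hlen
  have htsp : ∀ r ∈ ts, r ∈ p := fun r hr => hts ▸ Ideal.subset_span hr
  set l := ts.take h with hl
  have hlenl : l.length = h := by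
    rw [hl, List.length_take, hlen]
    exact min_eq_left hhc
  have hmem : ∀ x ∈ l, x ∈ maximalIdeal T := fun x hx => hpm (htsp x (List.mem_of_mem_take hx))
  -- regularity extraction
  have hregi : ∀ i (hi : i < h) (hic : i < ts.length) (b : T),
      ts[i] * b ∈ Ideal.ofList (ts.take i) → b ∈ Ideal.ofList (ts.take i) := by
    intro i hi hic b hb
    have hil : i < l.length := by rw [hlenl]; exact hi
    have h1 := hreg.regular_mod_prev i hil
    have h2 : l.take i = ts.take i := by
      rw [hl, List.take_take, min_eq_left hi.le]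
    have h3 : l[i] = ts[i] := by
      simp only [hl, List.getElem_take]
    rw [h2, h3] at h1
    have h4 := (isSMulRegular_quotient_iff_mem_of_smul_mem _ _).1 h1 b
    rw [ideal_smul_top_self] at h4
    exact h4 hb
  -- the key colon identity in the almost complete intersection case
  have hmain : c = h + 1 → ∀ (hhc' : h < ts.length),
      (Ideal.ofList l).colon {ts[h] * ts[h]} ≤ (Ideal.ofList l).colon {ts[h]} := by
    intro hch hhc'
    have hloc := hloc₁ hch
    have hsup := ofList_sup_eq_of_forall₂ (p ^ 2) _ _ (List.forall₂_take h hrel)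
    have hImap : (Ideal.ofList l).map (algebraMap T (Localization.AtPrime p)) =
        maximalIdeal (Localization.AtPrime p) := by
      apply le_antisymm
      · rw [← Localization.AtPrime.map_eq_maximalIdeal]
        apply Ideal.map_mono
        rw [Ideal.ofList, Ideal.span_le]
        intro x hx
        exact htsp x (List.mem_of_mem_take hx)
      · apply Submodule.le_of_le_smul_of_le_jacobson_bot
          (IsNoetherian.noetherian (maximalIdeal (Localization.AtPrime p)))
          (IsLocalRing.maximalIdeal_le_jacobson ⊥)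
        have h5 := congrArg (Ideal.map (algebraMap T (Localization.AtPrime p))) hsup
        rw [Ideal.map_sup, Ideal.map_sup, hloc, Ideal.map_pow,
          Localization.AtPrime.map_eq_maximalIdeal] at h5
        rw [smul_eq_mul, ← pow_two, h5]
        exact le_sup_left
    have ht : algebraMap T (Localization.AtPrime p) ts[h] ∈
        (Ideal.ofList l).map (algebraMap T (Localization.AtPrime p)) := by
      rw [hImap, ← Localization.AtPrime.map_eq_maximalIdeal]
      exact Ideal.mem_map_of_mem _ (htsp _ (List.getElem_mem _))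
    rw [IsLocalization.mem_map_algebraMap_iff p.primeCompl] at ht
    obtain ⟨⟨⟨a, haI⟩, ⟨s', hs'⟩⟩, hx⟩ := ht
    rw [← map_mul, IsLocalization.eq_iff_exists p.primeCompl] at hx
    obtain ⟨⟨s'', hs''⟩, hx⟩ := hx
    have hdecomp : ts = l ++ [ts[h]] := by
      have h1 : ts = ts.take h ++ ts.drop h := (List.take_append_drop h ts).symm
      have h2 : ts.drop h = [ts[h]] := by
        rw [List.drop_eq_getElem_cons hhc']
        congr 1
        apply List.drop_of_length_le
        rw [hlen, hch]
      rw [h2] at h1
      exact h1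
    have hp : p = Ideal.ofList l ⊔ Ideal.span {ts[h]} := by
      conv_lhs => rw [← hts, hdecomp]
      rw [Ideal.ofList_append, Ideal.ofList_singleton]
    refine colon_sq_le l hreg hmem ts[h] p hp (by rw [hlenl]; exact hh.symm) (s'' * s')
      (fun hcon => (Ideal.IsPrime.mem_or_mem inferInstance hcon).elim hs'' hs') ?_
    have : s'' * s' * ts[h] = s'' * (ts[h] * s') := by ring
    rw [this, hx]
    exact Ideal.mul_mem_left _ _ haI
  refine ⟨ts, hts, ?_, ?_⟩
  · -- minimality
    intro i hi
    have hK : Ideal.span (Set.range fun j : {j : Fin ts.length // j ≠ i} =>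
        ts[(j : Fin ts.length)]) = Ideal.ofList (ts.eraseIdx i) := by
      unfold Ideal.ofList
      congr 1
      ext x
      rw [Set.mem_setOf_eq, List.mem_eraseIdx_iff_getElem]
      constructor
      · rintro ⟨⟨j, hj⟩, rfl⟩
        exact ⟨j, j.2, fun hcon => hj (Fin.ext hcon), rfl⟩
      · rintro ⟨j, hj, hji, rfl⟩
        exact ⟨⟨⟨j, hj⟩, fun hcon => hji (congrArg Fin.val hcon)⟩, rfl⟩
    rw [hK] at hi
    have hpK : p ≤ Ideal.ofList (ts.eraseIdx i) := by
      rw [← hts, Ideal.ofList, Ideal.span_le]
      intro x hx
      obtain ⟨j, hj, rfl⟩ := List.getElem_of_mem hx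
      by_cases hji : j = i
      · subst hji
        exact hi
      · apply Ideal.subset_span
        rw [Set.mem_setOf_eq, List.mem_eraseIdx_iff_getElem]
        exact ⟨j, hj, hji, rfl⟩
    have hKp : Ideal.ofList (ts.eraseIdx i) ≤ p := by
      rw [Ideal.ofList, Ideal.span_le]
      intro x hx
      exact htsp x (List.mem_of_mem_eraseIdx hx)
    have h1 := spanFinrank_ofList_le (ts.eraseIdx i)
    rw [← le_antisymm hpK hKp, List.length_eraseIdx_of_lt i.2, hlen] at h1
    have : 0 < c := by rw [← hlen]; exact lt_of_le_of_lt (Nat.zero_le _) i.2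
    omega
  · intro i k hk hik
    apply le_antisymm
    · intro a ha
      rw [Submodule.mem_colon_singleton, smul_eq_mul] at ha ⊢
      by_cases hih : i < h
      · apply hregi i hih (lt_of_le_of_lt hik hk)
        have : ts[i] * (a * ts[k]) = a * (ts[k] * ts[i]) := by ring
        rw [this]
        exact ha
      · have hkc : k < c := by rw [← hlen]; exact hk
        have hieq : i = h := by omega
        have hkeq : k = h := by omega
        subst hieq
        subst hkeq
        have hch : c = k + 1 := by omega
        have := hmain hch hk (Submodule.mem_colon_singleton.2 (by rw [smul_eq_mul]; exact ha))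
        rw [Submodule.mem_colon_singleton, smul_eq_mul] at this
        exact this
    · intro a ha
      rw [Submodule.mem_colon_singleton, smul_eq_mul] at ha ⊢
      rw [← mul_assoc]
      exact Ideal.mul_mem_right _ _ ha

end DSeq

end Groth.Agent.Link9
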