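import Mathlib

/-!
# Regular sequences along short exact sequences; the Mayer–Vietoris sequence of two ideals
-/

namespace Groth.Agent.Lib.RegSeqExactLead

open RingTheory.Sequence Function

universe u v₁ v₂ v₃

section
variable {R : Type u} [CommRing R]

/-- If `0 → M' → M → M'' → 0` is exact, `rs` is weakly regular on `M` and `rs.dropLast` is weakly
regular on `M''`, then `rs` is weakly regular on `M'`. -/
theorem isWeaklyRegular_of_exact : ∀ (rs : List R) {M' : Type v₁} {M : Type v₂} {M'' : Type v₃}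
    [AddCommGroup M'] [Module R M'] [AddCommGroup M] [Module R M] [AddCommGroup M'']
    [Module R M''] (ι : M' →ₗ[R] M) (π : M →ₗ[R] M''), Injective ι → Exact ι π → Surjective π →
    IsWeaklyRegular M rs → IsWeaklyRegular M'' rs.dropLast → IsWeaklyRegular M' rs := by
  intro rs
  induction rs with
  | nil => intros; exact IsWeaklyRegular.nil R _
  | cons r rs' ih =>
    intro M' M M'' _ _ _ _ _ _ ι π hι hex hπ h h''
    rw [isWeaklyRegular_cons_iff] at h ⊢
    refine ⟨h.1.of_injective ι hι, ?_⟩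
    cases rs' with
    | nil => exact IsWeaklyRegular.nil R _
    | cons r₂ rs'' =>
      rw [List.dropLast_cons₂, isWeaklyRegular_cons_iff] at h''
      have hinj : Injective (QuotSMulTop.map r ι) := by
        have h₁₂ : Exact (0 : M' →ₗ[R] M') ι := by
          intro y
          constructor
          · intro hy
            exact ⟨0, (hι (hy.trans (map_zero ι).symm)).symm⟩
          · rintro ⟨x, rfl⟩
            simp
        have hE := QuotSMulTop.map_first_exact_on_four_term_exact_of_isSMulRegular_last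
          (r := r) h₁₂ hex h''.1
        intro y₁ y₂ hy
        have h0 : QuotSMulTop.map r ι (y₁ - y₂) = 0 := by rw [map_sub, hy, sub_self]
        obtain ⟨z, hz⟩ := (hE (y₁ - y₂)).1 h0
        have hz0 : QuotSMulTop.map r (0 : M' →ₗ[R] M') z = 0 := by
          rw [map_zero]; rfl
        rw [hz0] at hz
        exact sub_eq_zero.1 hz.symm
      exact ih (QuotSMulTop.map r ι) (QuotSMulTop.map r π) hinj (QuotSMulTop.map_exact r hex hπ)
        (QuotSMulTop.map_surjective r hπ) h.2 h''.2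

variable {M₁ : Type v₁} {M₂ : Type v₂} [AddCommGroup M₁] [Module R M₁] [AddCommGroup M₂]
  [Module R M₂]

lemma mem_smul_top_prod (K : Ideal R) (m : M₁ × M₂) :
    m ∈ (K • ⊤ : Submodule R (M₁ × M₂)) ↔
      m.1 ∈ (K • ⊤ : Submodule R M₁) ∧ m.2 ∈ (K • ⊤ : Submodule R M₂) := by
  constructor
  · intro h
    exact ⟨Submodule.smul_top_le_comap_smul_top K (LinearMap.fst R M₁ M₂) h,
      Submodule.smul_top_le_comap_smul_top K (LinearMap.snd R M₁ M₂) h⟩
  · rintro ⟨h1, h2⟩
    have e : m = LinearMap.inl R M₁ M₂ m.1 + LinearMap.inr R M₁ M₂ m.2 := by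
      ext <;> simp
    rw [e]
    exact Submodule.add_mem _
      (Submodule.smul_top_le_comap_smul_top K (LinearMap.inl R M₁ M₂) h1)
      (Submodule.smul_top_le_comap_smul_top K (LinearMap.inr R M₁ M₂) h2)

lemma isWeaklyRegular_prod {rs : List R} (h₁ : IsWeaklyRegular M₁ rs)
    (h₂ : IsWeaklyRegular M₂ rs) : IsWeaklyRegular (M₁ × M₂) rs := by
  refine ⟨fun i hi => ?_⟩
  rw [isSMulRegular_quotient_iff_mem_of_smul_mem]
  intro m hm
  rw [mem_smul_top_prod] at hm ⊢
  have r1 := (isSMulRegular_quotient_iff_mem_of_smul_mem _ _).1 (h₁.regular_mod_prev i hi)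
  have r2 := (isSMulRegular_quotient_iff_mem_of_smul_mem _ _).1 (h₂.regular_mod_prev i hi)
  exact ⟨r1 m.1 hm.1, r2 m.2 hm.2⟩

end

section MV
variable {A : Type u} [CommRing A] (I J : Ideal A)

/-- the Mayer–Vietoris inclusion `A/(I ∩ J) → A/I × A/J` -/
noncomputable def mvι : (A ⧸ (I ⊓ J)) →ₗ[A] (A ⧸ I) × (A ⧸ J) :=
  ((Ideal.Quotient.factorₐ A (inf_le_left : I ⊓ J ≤ I)).toLinearMap).prod
    ((Ideal.Quotient.factorₐ A (inf_le_right : I ⊓ J ≤ J)).toLinearMap)

/-- the Mayer–Vietoris difference `A/I × A/J → A/(I + J)` -/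
noncomputable def mvπ : ((A ⧸ I) × (A ⧸ J)) →ₗ[A] (A ⧸ (I ⊔ J)) :=
  ((Ideal.Quotient.factorₐ A (le_sup_left : I ≤ I ⊔ J)).toLinearMap).coprod
    (-(Ideal.Quotient.factorₐ A (le_sup_right : J ≤ I ⊔ J)).toLinearMap)

lemma mvι_mk (c : A) : mvι I J (Ideal.Quotient.mk _ c) =
    (Ideal.Quotient.mk I c, Ideal.Quotient.mk J c) := rfl

lemma mvπ_mk (a b : A) : mvπ I J (Ideal.Quotient.mk I a, Ideal.Quotient.mk J b) =
    Ideal.Quotient.mk (I ⊔ J) (a - b) := by
  simp only [mvπ, LinearMap.coprod_apply, LinearMap.neg_apply, AlgHom.toLinearMap_apply,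
    Ideal.Quotient.factorₐ_apply_mk, map_sub]
  ring

lemma mvι_injective : Injective (mvι I J) := by
  intro x y hxy
  obtain ⟨a, rfl⟩ := Ideal.Quotient.mk_surjective x
  obtain ⟨b, rfl⟩ := Ideal.Quotient.mk_surjective y
  rw [mvι_mk, mvι_mk, Prod.mk.injEq, Ideal.Quotient.eq, Ideal.Quotient.eq] at hxy
  rw [Ideal.Quotient.eq]
  exact ⟨hxy.1, hxy.2⟩

lemma mvπ_surjective : Surjective (mvπ I J) := by
  intro z
  obtain ⟨a, rfl⟩ := Ideal.Quotient.mk_surjective z
  refine ⟨(Ideal.Quotient.mk I a, Ideal.Quotient.mk J 0), ?_⟩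
  rw [mvπ_mk, sub_zero]

lemma mv_exact : Exact (mvι I J) (mvπ I J) := by
  intro y
  obtain ⟨y1, y2⟩ := y
  obtain ⟨a, rfl⟩ := Ideal.Quotient.mk_surjective y1
  obtain ⟨b, rfl⟩ := Ideal.Quotient.mk_surjective y2
  rw [mvπ_mk]
  constructor
  · intro h
    rw [Ideal.Quotient.eq_zero_iff_mem, Submodule.mem_sup] at h
    obtain ⟨i, hi, j, hj, hij⟩ := h
    refine ⟨Ideal.Quotient.mk _ (a - i), ?_⟩
    rw [mvι_mk, Prod.mk.injEq, Ideal.Quotient.eq, Ideal.Quotient.eq]
    constructor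
    · have e : a - i - a = -i := by ring
      rw [e]; exact (Ideal.neg_mem_iff _).2 hi
    · have e : a - i - b = j := by linear_combination hij.symm
      rw [e]; exact hj
  · rintro ⟨x, hx⟩
    obtain ⟨c, rfl⟩ := Ideal.Quotient.mk_surjective x
    rw [mvι_mk, Prod.mk.injEq, Ideal.Quotient.eq, Ideal.Quotient.eq] at hx
    rw [Ideal.Quotient.eq_zero_iff_mem]
    have e : a - b = (c - b) - (c - a) := by ring
    rw [e]
    exact Ideal.sub_mem _ (Ideal.mem_sup_right hx.2) (Ideal.mem_sup_left hx.1)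

theorem isWeaklyRegular_quotient_inf {rs : List A} (hI : IsWeaklyRegular (A ⧸ I) rs)
    (hJ : IsWeaklyRegular (A ⧸ J) rs) (hIJ : IsWeaklyRegular (A ⧸ (I ⊔ J)) rs.dropLast) :
    IsWeaklyRegular (A ⧸ (I ⊓ J)) rs :=
  isWeaklyRegular_of_exact rs (mvι I J) (mvπ I J) (mvι_injective I J) (mv_exact I J)
    (mvπ_surjective I J) (isWeaklyRegular_prod hI hJ) hIJ

theorem isRegular_quotient_inf [IsLocalRing A] {rs : List A}
    (hmem : ∀ r ∈ rs, r ∈ IsLocalRing.maximalIdeal A)
    (hI : IsRegular (A ⧸ I) rs)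
    (hJ : IsWeaklyRegular (A ⧸ J) rs) (hIJ : IsWeaklyRegular (A ⧸ (I ⊔ J)) rs.dropLast) :
    IsRegular (A ⧸ (I ⊓ J)) rs := by
  haveI : Nontrivial (A ⧸ I) := hI.nontrivial
  have hne : I ≠ ⊤ := Ideal.Quotient.nontrivial_iff.1 inferInstance
  haveI : Nontrivial (A ⧸ (I ⊓ J)) :=
    Ideal.Quotient.nontrivial_iff.2 (fun h => hne (top_le_iff.1 (h ▸ inf_le_left)))
  exact IsRegular.of_isWeaklyRegular_of_mem_maximalIdeal (A ⧸ (I ⊓ J)) hmem
    (isWeaklyRegular_quotient_inf I J hI.toIsWeaklyRegular hJ hIJ)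

end MV

end Groth.Agent.Lib.RegSeqExactLead
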