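import Mathlib
import Groth.Agent.Lib.Link7_helper9
import Groth.Agent.Lib.RegSeqExact_lead

/-!
# The sum of two geometrically linked ideals is Gorenstein (helper9)
APPEND-ONLY once landed.
-/

set_option autoImplicit false
set_option maxHeartbeats 400000
universe u

namespace Groth.Agent.Link9

open IsLocalRing RingTheory.Sequence Groth.Agent.DepthLib Groth.Agent.GorFlat9

section Inter

variable {A : Type u} [CommRing A]

/-- one step: if `y` is regular modulo `K₁ + K₂` then `(K₁ + y) ∩ (K₂ + y) = K₁ ∩ K₂ + y` -/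
theorem sup_inf_sup_span (K₁ K₂ : Ideal A) (y : A)
    (hy : ∀ a, y * a ∈ K₁ ⊔ K₂ → a ∈ K₁ ⊔ K₂) :
    (K₁ ⊔ Ideal.span {y}) ⊓ (K₂ ⊔ Ideal.span {y}) = (K₁ ⊓ K₂) ⊔ Ideal.span {y} := by
  apply le_antisymm
  · rintro z ⟨hz1, hz2⟩
    obtain ⟨k₁, hk₁, w₁, hw₁, rfl⟩ := Submodule.mem_sup.1 hz1
    obtain ⟨a, rfl⟩ := Ideal.mem_span_singleton'.1 hw₁
    obtain ⟨k₂, hk₂, w₂, hw₂, he⟩ := Submodule.mem_sup.1 hz2
    obtain ⟨a', rfl⟩ := Ideal.mem_span_singleton'.1 hw₂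
    have h1 : y * (a' - a) ∈ K₁ ⊔ K₂ := by
      have : y * (a' - a) = k₁ - k₂ := by linear_combination he
      rw [this]
      exact Submodule.sub_mem _ (Submodule.mem_sup_left hk₁) (Submodule.mem_sup_right hk₂)
    obtain ⟨l₁, hl₁, l₂, hl₂, hl⟩ := Submodule.mem_sup.1 (hy _ h1)
    have h2 : k₁ - l₁ * y ∈ K₁ ⊓ K₂ := by
      refine ⟨Submodule.sub_mem _ hk₁ (K₁.mul_mem_right _ hl₁), ?_⟩
      have : k₁ - l₁ * y = k₂ + l₂ * y := by linear_combination -he - y * hl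
      rw [this]
      exact Submodule.add_mem _ hk₂ (K₂.mul_mem_right _ hl₂)
    have h3 : k₁ + a * y = (k₁ - l₁ * y) + (l₁ + a) * y := by ring
    rw [h3]
    exact Submodule.add_mem _ (Submodule.mem_sup_left h2)
      (Submodule.mem_sup_right (Ideal.mem_span_singleton'.2 ⟨_, rfl⟩))
  · exact le_inf (sup_le_sup_right inf_le_left _) (sup_le_sup_right inf_le_right _)

/-- regularity on a cyclic module in terms of the ideal -/
theorem isSMulRegular_quot_iff (K : Ideal A) (y : A) :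
    IsSMulRegular (A ⧸ K) y ↔ ∀ a, y * a ∈ K → a ∈ K := by
  rw [isSMulRegular_quotient_iff_mem_of_smul_mem]
  rfl

/-- if `ys` is weakly regular modulo `K₁ + K₂` then
`(K₁ + (ys)) ∩ (K₂ + (ys)) = K₁ ∩ K₂ + (ys)` -/
theorem sup_inf_sup_ofList (ys : List A) : ∀ K₁ K₂ : Ideal A,
    IsWeaklyRegular (A ⧸ (K₁ ⊔ K₂)) ys →
    (K₁ ⊔ Ideal.ofList ys) ⊓ (K₂ ⊔ Ideal.ofList ys) = (K₁ ⊓ K₂) ⊔ Ideal.ofList ys := by
  induction ys with
  | nil =>
    intro K₁ K₂ _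
    simp
  | cons y ys ih =>
    intro K₁ K₂ hreg
    rw [isWeaklyRegular_cons_iff] at hreg
    have hstep := sup_inf_sup_span K₁ K₂ y ((isSMulRegular_quot_iff _ _).1 hreg.1)
    have hsup : (K₁ ⊔ Ideal.span {y}) ⊔ (K₂ ⊔ Ideal.span {y}) = (K₁ ⊔ K₂) ⊔ Ideal.span {y} := by
      apply le_antisymm
      · exact sup_le (sup_le_sup_right le_sup_left _) (sup_le_sup_right le_sup_right _)
      · exact sup_le (sup_le_sup le_sup_left le_sup_left) (le_sup_of_le_left le_sup_right)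
    have hreg' : IsWeaklyRegular (A ⧸ ((K₁ ⊔ Ideal.span {y}) ⊔ (K₂ ⊔ Ideal.span {y}))) ys := by
      rw [hsup]
      exact ((Groth.Agent.Liaison9.quotSupEquiv A (K₁ ⊔ K₂) y).isWeaklyRegular_congr ys).mp hreg.2
    have h := ih _ _ hreg'
    rw [hstep] at h
    rw [Ideal.ofList_cons, ← sup_assoc, ← sup_assoc, ← sup_assoc]
    exact h

end Inter

section Socle

variable {A : Type u} [CommRing A] [IsLocalRing A]

/-- type one for a quotient, in terms of the ambient ring -/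
theorem typeOne_quot_iff (K : Ideal A) [IsLocalRing (A ⧸ K)] :
    TypeOne (A ⧸ K) ↔ ∃ s : A, s ∉ K ∧ (∀ a ∈ maximalIdeal A, a * s ∈ K) ∧
      ∀ z, (∀ a ∈ maximalIdeal A, a * z ∈ K) → ∃ c, z - c * s ∈ K := by
  haveI : IsLocalHom (Ideal.Quotient.mk K) :=
    IsLocalHom.of_surjective _ Ideal.Quotient.mk_surjective
  have hmk : ∀ a : A, Ideal.Quotient.mk K a ∈ maximalIdeal (A ⧸ K) ↔ a ∈ maximalIdeal A := by
    intro a
    constructor
    · intro h ha
      exact h (ha.map _)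
    · intro h ha
      exact h (isUnit_of_map_unit _ a ha)
  constructor
  · rintro ⟨sb, hs0, hsm, hsgen⟩
    obtain ⟨s, rfl⟩ := Ideal.Quotient.mk_surjective sb
    refine ⟨s, fun h => hs0 (Ideal.Quotient.eq_zero_iff_mem.2 h), ?_, ?_⟩
    · intro a ha
      have := hsm (Ideal.Quotient.mk K a) ((hmk a).2 ha)
      rwa [← map_mul, Ideal.Quotient.eq_zero_iff_mem] at this
    · intro z hz
      obtain ⟨cb, hc⟩ := hsgen (Ideal.Quotient.mk K z) (by
        intro ab hab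
        obtain ⟨a, rfl⟩ := Ideal.Quotient.mk_surjective ab
        rw [← map_mul, Ideal.Quotient.eq_zero_iff_mem]
        exact hz a ((hmk a).1 hab))
      obtain ⟨c, rfl⟩ := Ideal.Quotient.mk_surjective cb
      refine ⟨c, ?_⟩
      rwa [← map_mul, Ideal.Quotient.eq] at hc
  · rintro ⟨s, hs0, hsm, hsgen⟩
    refine ⟨Ideal.Quotient.mk K s, fun h => hs0 (Ideal.Quotient.eq_zero_iff_mem.1 h), ?_, ?_⟩
    · intro ab hab
      obtain ⟨a, rfl⟩ := Ideal.Quotient.mk_surjective ab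
      rw [← map_mul, Ideal.Quotient.eq_zero_iff_mem]
      exact hsm a ((hmk a).1 hab)
    · intro zb hz
      obtain ⟨z, rfl⟩ := Ideal.Quotient.mk_surjective zb
      obtain ⟨c, hc⟩ := hsgen z (by
        intro a ha
        have := hz (Ideal.Quotient.mk K a) ((hmk a).2 ha)
        rwa [← map_mul, Ideal.Quotient.eq_zero_iff_mem] at this)
      refine ⟨Ideal.Quotient.mk K c, ?_⟩
      rw [← map_mul, Ideal.Quotient.eq]
      exact hc

/-- **the socle of `A/(L₁ + L₂)` embeds into the socle of `A/(Y + x)`** when `L₁ ∩ L₂ = Y` and `x` is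
regular modulo `L₁` and `L₂`. -/
theorem socle_sum (Y L₁ L₂ : Ideal A) (hL : L₁ ⊓ L₂ = Y) (x : A) (hxm : x ∈ maximalIdeal A)
    (hx₁ : ∀ a, x * a ∈ L₁ → a ∈ L₁) (hx₂ : ∀ a, x * a ∈ L₂ → a ∈ L₂)
    (s : A) (hs : ∀ a ∈ maximalIdeal A, a * s ∈ Y ⊔ Ideal.span {x})
    (hsgen : ∀ z, (∀ a ∈ maximalIdeal A, a * z ∈ Y ⊔ Ideal.span {x}) →
      ∃ c, z - c * s ∈ Y ⊔ Ideal.span {x})
    (t : A) (ht : t ∉ L₁ ⊔ L₂) (htm : ∀ a ∈ maximalIdeal A, a * t ∈ L₁ ⊔ L₂) :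
    ∀ b, (∀ a ∈ maximalIdeal A, a * b ∈ L₁ ⊔ L₂) → ∃ c, b - c * t ∈ L₁ ⊔ L₂ := by
  have hY₁ : Y ≤ L₁ := hL ▸ inf_le_left
  have hY₂ : Y ≤ L₂ := hL ▸ inf_le_right
  -- the decomposition of `x b`
  have key : ∀ b, (∀ a ∈ maximalIdeal A, a * b ∈ L₁ ⊔ L₂) →
      ∃ i₁ ∈ L₁, ∃ i₂ ∈ L₂, x * b = i₁ + i₂ ∧
        ∀ a ∈ maximalIdeal A, a * i₂ ∈ Y ⊔ Ideal.span {x} := by
    intro b hb
    obtain ⟨i₁, hi₁, i₂, hi₂, hi⟩ := Submodule.mem_sup.1 (hb x hxm)
    refine ⟨i₁, hi₁, i₂, hi₂, hi.symm, ?_⟩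
    intro a ha
    obtain ⟨j₁, hj₁, j₂, hj₂, hj⟩ := Submodule.mem_sup.1 (hb a ha)
    have hw : x * j₂ - a * i₂ ∈ Y := by
      rw [← hL]
      refine ⟨?_, Submodule.sub_mem _ (L₂.mul_mem_left _ hj₂) (L₂.mul_mem_left _ hi₂)⟩
      have : x * j₂ - a * i₂ = a * i₁ - x * j₁ := by linear_combination x * hj - a * hi
      rw [this]
      exact Submodule.sub_mem _ (L₁.mul_mem_left _ hi₁) (L₁.mul_mem_left _ hj₁)
    have : a * i₂ = -(x * j₂ - a * i₂) + j₂ * x := by ring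
    rw [this]
    exact Submodule.add_mem _ (Submodule.mem_sup_left (Y.neg_mem hw))
      (Submodule.mem_sup_right (Ideal.mem_span_singleton'.2 ⟨_, rfl⟩))
  -- injectivity
  have inj : ∀ b i₁ i₂, i₁ ∈ L₁ → i₂ ∈ L₂ → x * b = i₁ + i₂ → i₂ ∈ Y ⊔ Ideal.span {x} →
      b ∈ L₁ ⊔ L₂ := by
    intro b i₁ i₂ hi₁ hi₂ hb hi₂'
    obtain ⟨u, hu, w, hw, huw⟩ := Submodule.mem_sup.1 hi₂'
    obtain ⟨a', rfl⟩ := Ideal.mem_span_singleton'.1 hw
    have h1 : a' ∈ L₂ := by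
      apply hx₂
      have : x * a' = i₂ - u := by linear_combination huw
      rw [this]
      exact Submodule.sub_mem _ hi₂ (hY₂ hu)
    have h2 : b - a' ∈ L₁ := by
      apply hx₁
      have : x * (b - a') = i₁ + u := by linear_combination hb - huw
      rw [this]
      exact Submodule.add_mem _ hi₁ (hY₁ hu)
    have : b = (b - a') + a' := by ring
    rw [this]
    exact Submodule.add_mem _ (Submodule.mem_sup_left h2) (Submodule.mem_sup_right h1)
  obtain ⟨t₁, ht₁, t₂, ht₂, htx, htsoc⟩ := key t htm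
  obtain ⟨ct, hct⟩ := hsgen t₂ htsoc
  have hctu : IsUnit ct := by
    by_contra hnu
    apply ht
    apply inj t t₁ t₂ ht₁ ht₂ htx
    have : t₂ = (t₂ - ct * s) + ct * s := by ring
    rw [this]
    exact Submodule.add_mem _ hct (hs ct hnu)
  obtain ⟨u, rfl⟩ := hctu
  intro b hb
  obtain ⟨i₁, hi₁, i₂, hi₂, hbx, hbsoc⟩ := key b hb
  obtain ⟨c, hc⟩ := hsgen i₂ hbsoc
  refine ⟨c * ↑u⁻¹, ?_⟩
  apply inj (b - c * ↑u⁻¹ * t) (i₁ - c * ↑u⁻¹ * t₁) (i₂ - c * ↑u⁻¹ * t₂)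
    (Submodule.sub_mem _ hi₁ (L₁.mul_mem_left _ ht₁))
    (Submodule.sub_mem _ hi₂ (L₂.mul_mem_left _ ht₂))
  · linear_combination hbx - c * ↑u⁻¹ * htx
  · have h1 : (↑u⁻¹ : A) * ↑u = 1 := Units.inv_mul u
    have : i₂ - c * ↑u⁻¹ * t₂ = (i₂ - c * s) - c * ↑u⁻¹ * (t₂ - ↑u * s) := by
      linear_combination (-(c * s)) * h1
    rw [this]
    exact Submodule.sub_mem _ hc (Ideal.mul_mem_left _ _ hct)

end Socle

section QuotSMul

variable {A : Type u} [CommRing A]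

theorem smul_top_quot_eq_map (K Y : Ideal A) :
    (Y • ⊤ : Submodule A (A ⧸ K)) = Submodule.map (Submodule.mkQ K) Y := by
  have h1 : (⊤ : Submodule A (A ⧸ K)) = Submodule.map (Submodule.mkQ K) ⊤ := by
    rw [Submodule.map_top, Submodule.range_mkQ]
  have h2 : (Y • ⊤ : Submodule A A) = Y := by
    rw [smul_eq_mul, Ideal.mul_top]
  rw [h1, ← Submodule.map_smul'', h2]

theorem mk_mem_smul_top_iff (K Y : Ideal A) (a : A) :
    (Submodule.Quotient.mk a : A ⧸ K) ∈ (Y • ⊤ : Submodule A (A ⧸ K)) ↔ a ∈ K ⊔ Y := by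
  rw [smul_top_quot_eq_map, Submodule.mem_map]
  constructor
  · rintro ⟨y, hy, hya⟩
    rw [Submodule.mkQ_apply, Submodule.Quotient.eq] at hya
    have : a = -(y - a) + y := by ring
    rw [this]
    exact Submodule.add_mem _ (Submodule.mem_sup_left (K.neg_mem hya)) (Submodule.mem_sup_right hy)
  · intro ha
    obtain ⟨k, hk, y, hy, rfl⟩ := Submodule.mem_sup.1 ha
    refine ⟨y, hy, ?_⟩
    rw [Submodule.mkQ_apply, Submodule.Quotient.eq]
    have : y - (k + y) = -k := by ring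
    rw [this]
    exact K.neg_mem hk

/-- `(A/K)/Y(A/K) ≃ A/(K + Y)` -/
noncomputable def quotSMulTopEquiv (K Y : Ideal A) :
    ((A ⧸ K) ⧸ (Y • ⊤ : Submodule A (A ⧸ K))) ≃ₗ[A] A ⧸ (K ⊔ Y) :=
  (Submodule.quotEquivOfEq _ _ (smul_top_quot_eq_map K Y)).trans
    (Submodule.quotientQuotientEquivQuotientSup K Y)

/-- regularity of an element on `(A/K)/Y(A/K)` in terms of ideals -/
theorem isSMulRegular_quot_quot_iff (K Y : Ideal A) (x : A) :
    IsSMulRegular ((A ⧸ K) ⧸ (Y • ⊤ : Submodule A (A ⧸ K))) x ↔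
      ∀ a, x * a ∈ K ⊔ Y → a ∈ K ⊔ Y := by
  rw [isSMulRegular_quotient_iff_mem_of_smul_mem]
  constructor
  · intro h a ha
    rw [← mk_mem_smul_top_iff]
    apply h
    rw [← Submodule.Quotient.mk_smul, mk_mem_smul_top_iff, smul_eq_mul]
    exact ha
  · intro h z hz
    obtain ⟨a, rfl⟩ := Submodule.Quotient.mk_surjective K z
    rw [mk_mem_smul_top_iff]
    apply h
    rw [← Submodule.Quotient.mk_smul, mk_mem_smul_top_iff, smul_eq_mul] at hz
    exact hz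

end QuotSMul

section ProdReg

variable {A : Type u} [CommRing A] {M₁ M₂ : Type u} [AddCommGroup M₁] [Module A M₁]
  [AddCommGroup M₂] [Module A M₂]

open Groth.Agent.Lib.RegSeqExactLead in
/-- a sequence weakly regular on a product is weakly regular on both factors -/
theorem isWeaklyRegular_of_prod {rs : List A} (h : IsWeaklyRegular (M₁ × M₂) rs) :
    IsWeaklyRegular M₁ rs ∧ IsWeaklyRegular M₂ rs := by
  constructor
  · refine ⟨fun i hi => ?_⟩
    rw [isSMulRegular_quotient_iff_mem_of_smul_mem]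
    intro m hm
    have r := (isSMulRegular_quotient_iff_mem_of_smul_mem _ _).1 (h.regular_mod_prev i hi)
      (m, 0) (by
        rw [mem_smul_top_prod]
        refine ⟨hm, ?_⟩
        simp)
    rw [mem_smul_top_prod] at r
    exact r.1
  · refine ⟨fun i hi => ?_⟩
    rw [isSMulRegular_quotient_iff_mem_of_smul_mem]
    intro m hm
    have r := (isSMulRegular_quotient_iff_mem_of_smul_mem _ _).1 (h.regular_mod_prev i hi)
      (0, m) (by
        rw [mem_smul_top_prod]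
        refine ⟨?_, hm⟩
        simp)
    rw [mem_smul_top_prod] at r
    exact r.2

/-- the depth of a product is at least the minimum of the depths -/
theorem min_le_idealDepth_prod [IsNoetherianRing A] [Module.Finite A M₁] [Module.Finite A M₂]
    (I : Ideal A) :
    min (LocCoh.idealDepth I M₁) (LocCoh.idealDepth I M₂) ≤ LocCoh.idealDepth I (M₁ × M₂) :=
  (depth_ses I M₁ (M₁ × M₂) M₂ (LinearMap.inl A M₁ M₂) (LinearMap.snd A M₁ M₂)
    LinearMap.inl_injective LinearMap.snd_surjective Function.Exact.inl_snd).1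

end ProdReg

section LocalSum

variable (A : Type u) [CommRing A] [hG : LocCoh.IsGorensteinLocalRing A]

open Groth.Agent.Lib.RegSeqExactLead in
/-- **local form**: in a Gorenstein local ring, if `J₁ ∩ J₂ = 0`, the rings `A/J₁`, `A/J₂` are
Cohen–Macaulay of dimension `dim A` and `dim A/(J₁ + J₂) < dim A`, then `A/(J₁ + J₂)` is Gorenstein of
dimension `dim A - 1`. -/
theorem gorenstein_quot_sup (J₁ J₂ : Ideal A) (hinf : J₁ ⊓ J₂ = ⊥)
    [hCM₁ : LocCoh.IsCohenMacaulayLocalRing (A ⧸ J₁)]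
    [hCM₂ : LocCoh.IsCohenMacaulayLocalRing (A ⧸ J₂)]
    (h₁ : ringKrullDim (A ⧸ J₁) = ringKrullDim A) (h₂ : ringKrullDim (A ⧸ J₂) = ringKrullDim A)
    (hdim : ringKrullDim (A ⧸ (J₁ ⊔ J₂)) + 1 ≤ ringKrullDim A) :
    LocCoh.IsGorensteinLocalRing (A ⧸ (J₁ ⊔ J₂)) ∧
      ringKrullDim (A ⧸ (J₁ ⊔ J₂)) + 1 = ringKrullDim A := by
  haveI : IsNoetherianRing A := hG.toIsNoetherian
  haveI : IsLocalRing A := hG.toIsLocalRing
  obtain ⟨d, hd, -, hdepth⟩ := exists_dim A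
  have hJ₁ne : J₁ ≠ ⊤ := by
    haveI : Nontrivial (A ⧸ J₁) := hCM₁.toIsLocalRing.toNontrivial
    exact Ideal.Quotient.nontrivial_iff.1 inferInstance
  have hJ₂ne : J₂ ≠ ⊤ := by
    haveI : Nontrivial (A ⧸ J₂) := hCM₂.toIsLocalRing.toNontrivial
    exact Ideal.Quotient.nontrivial_iff.1 inferInstance
  have hJm : J₁ ⊔ J₂ ≤ maximalIdeal A := sup_le (le_maximalIdeal hJ₁ne) (le_maximalIdeal hJ₂ne)
  haveI : IsLocalRing (A ⧸ (J₁ ⊔ J₂)) := Groth.Agent.FibDim.isLocalRing_quot hJm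
  obtain ⟨n, hn⟩ := Groth.Agent.FlatCM.exists_nat_ringKrullDim (A ⧸ (J₁ ⊔ J₂))
  rw [hn, hd] at hdim
  have hnd : n + 1 ≤ d := by exact_mod_cast hdim
  obtain ⟨e, rfl⟩ : ∃ e, d = e + 1 := ⟨d - 1, by omega⟩
  have hne : n ≤ e := by omega
  -- depths
  have hdep : ∀ (J : Ideal A) [LocCoh.IsCohenMacaulayLocalRing (A ⧸ J)],
      ringKrullDim (A ⧸ J) = ringKrullDim A →
      LocCoh.idealDepth (maximalIdeal A) (A ⧸ J) = ((e + 1 : ℕ) : ℕ∞) := by
    intro J _ hJ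
    have h := isCM_quot_of_ring J
    unfold LocCoh.IsCohenMacaulayModule LocCoh.depth at h
    rw [Module.supportDim_quotient_eq_ringKrullDim, hJ, hd] at h
    exact (WithBot.coe_injective h).symm
  have hdepN : ((e + 1 : ℕ) : ℕ∞) ≤
      LocCoh.idealDepth (maximalIdeal A) ((A ⧸ J₁) × (A ⧸ J₂)) := by
    have := min_le_idealDepth_prod (M₁ := A ⧸ J₁) (M₂ := A ⧸ J₂) (maximalIdeal A)
    rwa [hdep J₁ h₁, hdep J₂ h₂, min_self] at this
  have hdepA' : LocCoh.idealDepth (maximalIdeal A) (A ⧸ (J₁ ⊓ J₂)) = ((e + 1 : ℕ) : ℕ∞) := by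
    rw [← hdepth]
    exact idealDepth_congr _ _ (Submodule.quotEquivOfEqBot _ hinf)
  have hdepB : ((e : ℕ) : ℕ∞) ≤ LocCoh.idealDepth (maximalIdeal A) (A ⧸ (J₁ ⊔ J₂)) := by
    have := (depth_ses (maximalIdeal A) (A ⧸ (J₁ ⊓ J₂)) ((A ⧸ J₁) × (A ⧸ J₂)) (A ⧸ (J₁ ⊔ J₂))
      (mvι J₁ J₂) (mvπ J₁ J₂) (mvι_injective J₁ J₂) (mvπ_surjective J₁ J₂) (mv_exact J₁ J₂)).2.1
    rw [hdepA'] at this
    refine le_trans (le_min ?_ ?_) this
    · exact le_trans (by exact_mod_cast Nat.le_succ e) hdepN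
    · have h0 : ((e + 1 : ℕ) : ℕ∞) - 1 = (((e + 1 - 1 : ℕ)) : ℕ∞) := by
        norm_cast
      have : ((e + 1 : ℕ) : ℕ∞) - 1 = (e : ℕ∞) := by
        rw [h0]
        simp
      rw [this]
  -- B is Cohen–Macaulay of dimension e
  haveI : IsLocalHom (algebraMap A (A ⧸ (J₁ ⊔ J₂))) :=
    IsLocalHom.of_surjective _ Ideal.Quotient.mk_surjective
  have hdepB' := hdepB
  change ((e : ℕ) : ℕ∞) ≤ LocCoh.depth A (A ⧸ (J₁ ⊔ J₂)) at hdepB'
  rw [depth_eq_of_isLocalHom A (A ⧸ (J₁ ⊔ J₂)) (A ⧸ (J₁ ⊔ J₂))] at hdepB'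
  have h5 := Groth.Agent.FlatCM.depth_le_dim (A ⧸ (J₁ ⊔ J₂))
  rw [hn] at h5
  have h6 : ((e : ℕ∞) : WithBot ℕ∞) ≤ ((n : ℕ) : WithBot ℕ∞) :=
    (WithBot.coe_le_coe.mpr hdepB').trans h5
  have hen : e ≤ n := by exact_mod_cast h6
  have hne' : n = e := le_antisymm hne hen
  subst hne'
  refine ⟨?_, by rw [hn, hd]; rfl⟩
  have hCMB : LocCoh.IsCohenMacaulayModule A (A ⧸ (J₁ ⊔ J₂)) := by
    unfold LocCoh.IsCohenMacaulayModule
    rw [Module.supportDim_quotient_eq_ringKrullDim, hn]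
    apply le_antisymm
    · exact WithBot.coe_le_coe.mpr hdepB
    · rw [depth_eq_of_isLocalHom A (A ⧸ (J₁ ⊔ J₂)) (A ⧸ (J₁ ⊔ J₂))]
      exact h5
  -- a common regular sequence on `A` and `B`
  have hdepAB : ((n : ℕ) : ℕ∞) ≤ LocCoh.idealDepth (maximalIdeal A) (A × (A ⧸ (J₁ ⊔ J₂))) := by
    refine le_trans (le_min ?_ hdepB) (min_le_idealDepth_prod (maximalIdeal A))
    rw [hdepth]
    exact_mod_cast Nat.le_succ n
  rw [le_idealDepth_iff] at hdepAB
  rcases hdepAB with htop | ⟨ys, hys, hmem, hlen⟩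
  · exfalso
    have h1 : ((1 : A), (0 : A ⧸ (J₁ ⊔ J₂))) ∈
        (maximalIdeal A • ⊤ : Submodule A (A × (A ⧸ (J₁ ⊔ J₂)))) := by rw [htop]; trivial
    rw [mem_smul_top_prod, ideal_smul_top_self] at h1
    exact (maximalIdeal.isMaximal A).ne_top ((Ideal.eq_top_iff_one _).2 h1.1)
  obtain ⟨hysA, hysB⟩ := isWeaklyRegular_of_prod hys
  -- extend by one more element regular on `A/(ys)`
  have hCMA := isCM_self A
  have hCMAys := (isCM_list ys A hCMA hmem).2 hysA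
  have hdimAys := ((isCM_list ys A hCMA hmem).1).mp hysA
  rw [Module.supportDim_self_eq_ringKrullDim, hd, hlen] at hdimAys
  have hdimAys1 : Module.supportDim A (A ⧸ (Ideal.ofList ys • ⊤ : Submodule A A)) = 1 := by
    have h : Module.supportDim A (A ⧸ (Ideal.ofList ys • ⊤ : Submodule A A)) + ((n : ℕ) : ℕ∞) =
        (1 : WithBot ℕ∞) + ((n : ℕ) : ℕ∞) := by
      refine Eq.trans hdimAys ?_
      push_cast
      rw [add_comm]
    exact add_nat_cancel n h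
  have hdepAys : (1 : ℕ∞) ≤
      LocCoh.idealDepth (maximalIdeal A) (A ⧸ (Ideal.ofList ys • ⊤ : Submodule A A)) := by
    unfold LocCoh.IsCohenMacaulayModule LocCoh.depth at hCMAys
    rw [hdimAys1] at hCMAys
    have : ((1 : ℕ∞) : WithBot ℕ∞) = ((LocCoh.idealDepth (maximalIdeal A)
        (A ⧸ (Ideal.ofList ys • ⊤ : Submodule A A)) : ℕ∞) : WithBot ℕ∞) := hCMAys
    exact (WithBot.coe_injective this).le
  rw [one_le_idealDepth_iff] at hdepAys
  rcases hdepAys with htop | ⟨x, hxm, hxreg⟩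
  · exfalso
    have hne1 : (Submodule.Quotient.mk (1 : A) : A ⧸ (Ideal.ofList ys • ⊤ : Submodule A A)) ∈
        (maximalIdeal A • ⊤ : Submodule A (A ⧸ (Ideal.ofList ys • ⊤ : Submodule A A))) := by
      rw [htop]; trivial
    rw [ideal_smul_top_self] at hne1
    rw [mk_mem_smul_top_iff] at hne1
    have hle : Ideal.ofList ys ⊔ maximalIdeal A ≤ maximalIdeal A :=
      sup_le (Ideal.span_le.2 hmem) le_rfl
    exact (maximalIdeal.isMaximal A).ne_top ((Ideal.eq_top_iff_one _).2 (hle hne1))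
  -- the full regular sequence `zs = ys ++ [x]`
  set Y := Ideal.ofList ys with hY
  have hzs : IsWeaklyRegular A (ys ++ [x]) := by
    rw [isWeaklyRegular_append_iff]
    refine ⟨hysA, ?_⟩
    rw [isWeaklyRegular_cons_iff]
    exact ⟨hxreg, IsWeaklyRegular.nil A _⟩
  have hmemz : ∀ z ∈ ys ++ [x], z ∈ maximalIdeal A := by
    intro z hz
    rcases List.mem_append.1 hz with hz | hz
    · exact hmem z hz
    · rw [List.mem_singleton] at hz
      rw [hz]; exact hxm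
  have hlenz : (ys ++ [x]).length = n + 1 := by rw [List.length_append, hlen]; rfl
  have hxJ : ∀ (J : Ideal A) [LocCoh.IsCohenMacaulayLocalRing (A ⧸ J)],
      ringKrullDim (A ⧸ J) = ringKrullDim A → ∀ a, x * a ∈ J ⊔ Y → a ∈ J ⊔ Y := by
    intro J _ hJ
    have h := isWeaklyRegular_quot A J hJ (ys ++ [x]) hzs hmemz
    rw [isWeaklyRegular_append_iff, isWeaklyRegular_cons_iff] at h
    exact (isSMulRegular_quot_quot_iff J Y x).1 h.2.1
  have hx₁ := hxJ J₁ h₁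
  have hx₂ := hxJ J₂ h₂
  have hL : (J₁ ⊔ Y) ⊓ (J₂ ⊔ Y) = Y := by
    rw [sup_inf_sup_ofList ys J₁ J₂ hysB, hinf, bot_sup_eq]
  -- type one data of `A/(zs)`
  have hK : Ideal.ofList (ys ++ [x]) = Y ⊔ Ideal.span {x} := by
    rw [Ideal.ofList_append, Ideal.ofList_singleton]
  have hKm : Ideal.ofList (ys ++ [x]) ≤ maximalIdeal A := Ideal.span_le.2 hmemz
  haveI : IsLocalRing (A ⧸ Ideal.ofList (ys ++ [x])) := Groth.Agent.FibDim.isLocalRing_quot hKm
  have hGK : LocCoh.IsGorensteinLocalRing (A ⧸ Ideal.ofList (ys ++ [x])) :=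
    Groth.Agent.GorLCI9.gorenstein_quot_ofList _ A (ys ++ [x]) rfl hmemz hzs hG
  have h0K : ringKrullDim (A ⧸ Ideal.ofList (ys ++ [x])) = 0 :=
    ringKrullDim_quot_regular_seq A (n + 1) (ys ++ [x]) hd hzs hmemz hlenz
  obtain ⟨s, -, hs, hsgen⟩ := (typeOne_quot_iff _).1 ((gorenstein_iff_typeOne _ h0K).1 hGK)
  rw [hK] at hs hsgen
  -- the quotient `A/(L₁ + L₂)`
  have hsupL : (J₁ ⊔ J₂) ⊔ Y = (J₁ ⊔ Y) ⊔ (J₂ ⊔ Y) := by
    apply le_antisymm
    · exact sup_le (sup_le_sup le_sup_left le_sup_left) (le_sup_of_le_left le_sup_right)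
    · exact sup_le (sup_le_sup_right le_sup_left _) (sup_le_sup_right le_sup_right _)
  have hLm : (J₁ ⊔ Y) ⊔ (J₂ ⊔ Y) ≤ maximalIdeal A := by
    rw [← hsupL]
    exact sup_le hJm (Ideal.span_le.2 hmem)
  haveI : IsLocalRing (A ⧸ ((J₁ ⊔ Y) ⊔ (J₂ ⊔ Y))) := Groth.Agent.FibDim.isLocalRing_quot hLm
  have h0L : ringKrullDim (A ⧸ ((J₁ ⊔ Y) ⊔ (J₂ ⊔ Y))) = 0 := by
    have h := ((isCM_list ys (A ⧸ (J₁ ⊔ J₂)) hCMB hmem).1).mp hysB
    rw [Module.supportDim_eq_of_equiv (quotSMulTopEquiv (J₁ ⊔ J₂) Y),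
      Module.supportDim_quotient_eq_ringKrullDim, Module.supportDim_quotient_eq_ringKrullDim,
      hn, hlen, hsupL] at h
    have h' : ringKrullDim (A ⧸ ((J₁ ⊔ Y) ⊔ (J₂ ⊔ Y))) + ((n : ℕ) : ℕ∞) =
        (0 : WithBot ℕ∞) + ((n : ℕ) : ℕ∞) := by
      rw [zero_add]
      exact h
    exact add_nat_cancel n h'
  haveI : IsLocalHom (Ideal.Quotient.mk ((J₁ ⊔ Y) ⊔ (J₂ ⊔ Y))) :=
    IsLocalHom.of_surjective _ Ideal.Quotient.mk_surjective
  obtain ⟨tb, htb, htbm⟩ := exists_socle (A ⧸ ((J₁ ⊔ Y) ⊔ (J₂ ⊔ Y))) h0L ⊥ bot_ne_top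
  obtain ⟨t, rfl⟩ := Ideal.Quotient.mk_surjective tb
  have ht : t ∉ (J₁ ⊔ Y) ⊔ (J₂ ⊔ Y) := by
    intro h
    exact htb (by rw [Ideal.mem_bot]; exact Ideal.Quotient.eq_zero_iff_mem.2 h)
  have htm : ∀ a ∈ maximalIdeal A, a * t ∈ (J₁ ⊔ Y) ⊔ (J₂ ⊔ Y) := by
    intro a ha
    have h1 : Ideal.Quotient.mk ((J₁ ⊔ Y) ⊔ (J₂ ⊔ Y)) a ∈
        maximalIdeal (A ⧸ ((J₁ ⊔ Y) ⊔ (J₂ ⊔ Y))) := by
      intro hu
      exact ha (isUnit_of_map_unit _ a hu)
    have h2 := htbm _ h1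
    rw [Ideal.mem_bot, ← map_mul, Ideal.Quotient.eq_zero_iff_mem] at h2
    exact h2
  have hgen := socle_sum Y (J₁ ⊔ Y) (J₂ ⊔ Y) hL x hxm hx₁ hx₂ s hs hsgen t ht htm
  have hTL : TypeOne (A ⧸ ((J₁ ⊔ Y) ⊔ (J₂ ⊔ Y))) := (typeOne_quot_iff _).2 ⟨t, ht, htm, hgen⟩
  have hGL := (gorenstein_iff_typeOne _ h0L).2 hTL
  -- back to `B = A/(J₁ + J₂)`
  have hmap : Ideal.ofList (ys.map (algebraMap A (A ⧸ (J₁ ⊔ J₂)))) =
      Y.map (Ideal.Quotient.mk (J₁ ⊔ J₂)) := by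
    rw [Ideal.map_ofList]; rfl
  let eq : ((A ⧸ (J₁ ⊔ J₂)) ⧸ Ideal.ofList (ys.map (algebraMap A (A ⧸ (J₁ ⊔ J₂))))) ≃+*
      (A ⧸ ((J₁ ⊔ Y) ⊔ (J₂ ⊔ Y))) :=
    (Ideal.quotEquivOfEq hmap).trans
      ((DoubleQuot.quotQuotEquivQuotSup (J₁ ⊔ J₂) Y).trans (Ideal.quotEquivOfEq hsupL))
  have hGq := (gorenstein_congr eq).2 hGL
  have hreg' : IsWeaklyRegular (A ⧸ (J₁ ⊔ J₂)) (ys.map (algebraMap A (A ⧸ (J₁ ⊔ J₂)))) :=
    (isWeaklyRegular_map_algebraMap_iff (A ⧸ (J₁ ⊔ J₂)) (A ⧸ (J₁ ⊔ J₂)) ys).2 hysB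
  have hmem' : ∀ z ∈ ys.map (algebraMap A (A ⧸ (J₁ ⊔ J₂))),
      z ∈ maximalIdeal (A ⧸ (J₁ ⊔ J₂)) := by
    intro z hz
    obtain ⟨y, hy, rfl⟩ := List.mem_map.1 hz
    intro hu
    exact hmem y hy (isUnit_of_map_unit _ y hu)
  haveI : IsNoetherianRing (A ⧸ (J₁ ⊔ J₂)) := inferInstance
  exact gorenstein_of_quot_ofList _ (A ⧸ (J₁ ⊔ J₂)) _ rfl hmem' hreg' hGq

end LocalSum

section GlobalSum

/-- **global form** in a Gorenstein ring `S`: if `J₁ ∩ J₂ = 0`, `S/J₁`, `S/J₂` are Cohen–Macaulay with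
minimal primes among the minimal primes of `S`, and no minimal prime of `S` contains `J₁ + J₂`, then
`S/(J₁ + J₂)` is Gorenstein and all minimal primes of `J₁ + J₂` have height one. -/
theorem isGorRing_quot_sup (S : Type u) [CommRing S] [hG : LocCoh.IsGorensteinRing S]
    (J₁ J₂ : Ideal S) (hinf : J₁ ⊓ J₂ = ⊥)
    [hCM₁ : LocCoh.IsCohenMacaulayRing (S ⧸ J₁)] [hCM₂ : LocCoh.IsCohenMacaulayRing (S ⧸ J₂)]
    (hmin₁ : ∀ P ∈ J₁.minimalPrimes, P ∈ minimalPrimes S)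
    (hmin₂ : ∀ P ∈ J₂.minimalPrimes, P ∈ minimalPrimes S)
    (hdisj : ∀ P ∈ minimalPrimes S, ¬ (J₁ ⊔ J₂ ≤ P)) :
    LocCoh.IsGorensteinRing (S ⧸ (J₁ ⊔ J₂)) ∧
      ∀ Q ∈ (J₁ ⊔ J₂).minimalPrimes, Q.height = 1 := by
  haveI : IsNoetherianRing S := hG.toIsNoetherian
  -- the local statement at a prime `Q ⊇ J₁ + J₂`
  have key : ∀ (Q : Ideal S) [Q.IsPrime], J₁ ⊔ J₂ ≤ Q →
      LocCoh.IsGorensteinLocalRing
        (Localization.AtPrime Q ⧸ (J₁ ⊔ J₂).map (algebraMap S (Localization.AtPrime Q))) ∧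
      ringKrullDim
        (Localization.AtPrime Q ⧸ (J₁ ⊔ J₂).map (algebraMap S (Localization.AtPrime Q))) + 1 =
        ringKrullDim (Localization.AtPrime Q) := by
    intro Q _ hQ
    haveI hGQ := hG.isGorensteinLocalRing_localization Q
    haveI : IsNoetherianRing (Localization.AtPrime Q) := hGQ.toIsNoetherian
    obtain ⟨hc1, hd1⟩ := local_data S J₁ hmin₁ Q (le_sup_left.trans hQ)
    obtain ⟨hc2, hd2⟩ := local_data S J₂ hmin₂ Q (le_sup_right.trans hQ)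
    have hinf' : J₁.map (algebraMap S (Localization.AtPrime Q)) ⊓
        J₂.map (algebraMap S (Localization.AtPrime Q)) = ⊥ := by
      rw [← IsLocalization.map_inf Q.primeCompl, hinf, Ideal.map_bot]
    rw [Ideal.map_sup]
    haveI := hc1
    haveI := hc2
    apply gorenstein_quot_sup (Localization.AtPrime Q) _ _ hinf' hd1 hd2
    -- the dimension drops
    obtain ⟨D, hD⟩ := Groth.Agent.FlatCM.exists_nat_ringKrullDim (Localization.AtPrime Q)
    have hCMA := isCM_self (Localization.AtPrime Q)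
    have hsupp : Module.support (Localization.AtPrime Q) (Localization.AtPrime Q) = Set.univ := by
      rw [Module.support_eq_zeroLocus, Module.annihilator_eq_bot.2 inferInstance]
      simp
    have hprime : ∀ (P' : Ideal (Localization.AtPrime Q)) [P'.IsPrime],
        J₁.map (algebraMap S (Localization.AtPrime Q)) ⊔
          J₂.map (algebraMap S (Localization.AtPrime Q)) ≤ P' →
        1 ≤ D ∧ ringKrullDim (Localization.AtPrime Q ⧸ P') ≤ ((D - 1 : ℕ) : WithBot ℕ∞) := by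
      intro P' _ hP'
      have h1 := Groth.Agent.CMChain.height_add_ringKrullDim_quotient (Localization.AtPrime Q)
        (Localization.AtPrime Q) hCMA hsupp P'
      have hnotmin : P' ∉ minimalPrimes (Localization.AtPrime Q) := by
        intro hmin
        have h2 := IsLocalization.minimalPrimes_map Q.primeCompl (Localization.AtPrime Q)
          (⊥ : Ideal S)
        rw [Ideal.map_bot] at h2
        have h3 : P' ∈ (⊥ : Ideal (Localization.AtPrime Q)).minimalPrimes := hmin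
        rw [h2, Set.mem_preimage] at h3
        apply hdisj _ h3
        rw [← Ideal.map_sup] at hP'
        exact Ideal.map_le_iff_le_comap.1 hP'
      have hht : 1 ≤ P'.height := by
        rw [ENat.one_le_iff_ne_zero]
        intro h0
        exact hnotmin (Ideal.height_eq_zero_iff.1 h0)
      haveI : IsLocalRing (Localization.AtPrime Q ⧸ P') :=
        Groth.Agent.FibDim.isLocalRing_quot (le_maximalIdeal (Ideal.IsPrime.ne_top inferInstance))
      obtain ⟨m, hm⟩ := Groth.Agent.FlatCM.exists_nat_ringKrullDim (Localization.AtPrime Q ⧸ P')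
      rw [hm, hD] at h1
      rw [hm]
      have hfin : P'.height ≠ ⊤ := Ideal.height_ne_top_of_isPrime
      lift P'.height to ℕ using hfin with ht hht'
      have h4 : ht + m = D := by exact_mod_cast h1
      have h5 : 1 ≤ ht := by exact_mod_cast hht
      refine ⟨by omega, ?_⟩
      have h6 : m ≤ D - 1 := by omega
      exact_mod_cast h6
    have hne : J₁.map (algebraMap S (Localization.AtPrime Q)) ⊔
        J₂.map (algebraMap S (Localization.AtPrime Q)) ≤ maximalIdeal (Localization.AtPrime Q) := by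
      rw [← Ideal.map_sup, ← Localization.AtPrime.map_eq_maximalIdeal]
      exact Ideal.map_mono hQ
    have hD1 : 1 ≤ D := (hprime (maximalIdeal (Localization.AtPrime Q)) hne).1
    have hle := ringKrullDim_quot_le_of_forall_prime
      (J₁.map (algebraMap S (Localization.AtPrime Q)) ⊔
        J₂.map (algebraMap S (Localization.AtPrime Q))) ((D - 1 : ℕ) : WithBot ℕ∞)
      (fun P' _ hP' => (hprime P' hP').2)
    rw [hD]
    calc ringKrullDim (Localization.AtPrime Q ⧸ (J₁.map (algebraMap S (Localization.AtPrime Q)) ⊔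
          J₂.map (algebraMap S (Localization.AtPrime Q)))) + 1
        ≤ ((D - 1 : ℕ) : WithBot ℕ∞) + 1 := add_le_add_left hle 1
      _ = ((D : ℕ) : WithBot ℕ∞) := by
          have : D - 1 + 1 = D := by omega
          exact_mod_cast congrArg (fun k : ℕ => ((k : ℕ) : WithBot ℕ∞)) this
  refine ⟨isGorRing_quot_of_forall S (J₁ ⊔ J₂) (fun Q _ hQ => (key Q hQ).1), ?_⟩
  intro Q hQmin
  haveI : Q.IsPrime := hQmin.1.1
  haveI hGQ := hG.isGorensteinLocalRing_localization Q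
  haveI : IsNoetherianRing (Localization.AtPrime Q) := hGQ.toIsNoetherian
  obtain ⟨-, hdimQ⟩ := key Q hQmin.1.2
  -- the quotient has dimension zero
  have hne : (J₁ ⊔ J₂).map (algebraMap S (Localization.AtPrime Q)) ≤
      maximalIdeal (Localization.AtPrime Q) := by
    rw [← Localization.AtPrime.map_eq_maximalIdeal]
    exact Ideal.map_mono hQmin.1.2
  haveI : IsLocalRing (Localization.AtPrime Q ⧸
      (J₁ ⊔ J₂).map (algebraMap S (Localization.AtPrime Q))) :=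
    Groth.Agent.FibDim.isLocalRing_quot hne
  have h0 : ringKrullDim (Localization.AtPrime Q ⧸
      (J₁ ⊔ J₂).map (algebraMap S (Localization.AtPrime Q))) = 0 := by
    apply le_antisymm
    · apply ringKrullDim_quot_le_of_forall_prime
      intro P' _ hP'
      have h1 : J₁ ⊔ J₂ ≤ P'.comap (algebraMap S (Localization.AtPrime Q)) :=
        Ideal.map_le_iff_le_comap.1 hP'
      have h2 : P'.comap (algebraMap S (Localization.AtPrime Q)) ≤ Q := by
        have h3 := IsLocalRing.le_maximalIdeal (Ideal.IsPrime.ne_top (inferInstance : P'.IsPrime))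
        have h4 := Ideal.comap_mono (f := algebraMap S (Localization.AtPrime Q)) h3
        have h4' : (maximalIdeal (Localization.AtPrime Q)).comap
            (algebraMap S (Localization.AtPrime Q)) = Q :=
          Localization.AtPrime.under_maximalIdeal
        rwa [h4'] at h4
      have h5 : Q ≤ P'.comap (algebraMap S (Localization.AtPrime Q)) :=
        hQmin.2 ⟨Ideal.comap_isPrime _ _, h1⟩ h2
      have h6 : P' = maximalIdeal (Localization.AtPrime Q) := by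
        apply le_antisymm
          (IsLocalRing.le_maximalIdeal (Ideal.IsPrime.ne_top (inferInstance : P'.IsPrime)))
        rw [← Localization.AtPrime.map_eq_maximalIdeal]
        exact (Ideal.map_mono h5).trans Ideal.map_comap_le
      rw [h6]
      exact (ringKrullDim_eq_zero_of_field (ResidueField (Localization.AtPrime Q))).le
    · exact ringKrullDim_nonneg_of_nontrivial
  rw [h0, zero_add, IsLocalization.AtPrime.ringKrullDim_eq_height Q (Localization.AtPrime Q)] at hdimQ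
  exact_mod_cast hdimQ.symm

end GlobalSum

section Poly

open Groth.Agent.Lib

variable (K : Type u) [Field K] (n : ℕ)

/-- **S18869**: the sum of two geometrically linked ideals is Gorenstein of height one more -/
theorem gor_sum_of_geom_linked (c : ℕ) (I₁ I₂ : Ideal (MvPolynomial (Fin (n + 1)) K))
    (hI₁ : I₁.IsHomogeneous (GrSyz.stdGr K (Fin (n + 1))))
    (hI₂ : I₂.IsHomogeneous (GrSyz.stdGr K (Fin (n + 1))))
    [hCM₁ : LocCoh.IsCohenMacaulayRing (MvPolynomial (Fin (n + 1)) K ⧸ I₁)]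
    [hCM₂ : LocCoh.IsCohenMacaulayRing (MvPolynomial (Fin (n + 1)) K ⧸ I₂)]
    (h₁ : I₁.height = c) (h₂ : I₂.height = c)
    (hdisj : Disjoint I₁.minimalPrimes I₂.minimalPrimes)
    [hG : LocCoh.IsGorensteinRing (MvPolynomial (Fin (n + 1)) K ⧸ (I₁ ⊓ I₂))] :
    (I₁ ⊔ I₂).height = c + 1 ∧
      LocCoh.IsGorensteinRing (MvPolynomial (Fin (n + 1)) K ⧸ (I₁ ⊔ I₂)) := by
  set 𝔠 := I₁ ⊓ I₂ with h𝔠def
  set π : MvPolynomial (Fin (n + 1)) K →+* MvPolynomial (Fin (n + 1)) K ⧸ 𝔠 :=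
    Ideal.Quotient.mk 𝔠 with hπ
  have hπs : Function.Surjective π := Ideal.Quotient.mk_surjective
  have hker : RingHom.ker π = 𝔠 := Ideal.mk_ker
  have h𝔠₁ : 𝔠 ≤ I₁ := inf_le_left
  have h𝔠₂ : 𝔠 ≤ I₂ := inf_le_right
  have h𝔠hom : 𝔠.IsHomogeneous (GrSyz.stdGr K (Fin (n + 1))) := hI₁.inf hI₂
  have h𝔠ht : 𝔠.height = c := by
    apply le_antisymm
    · rw [← h₁]; exact Ideal.height_mono h𝔠₁
    · rw [Ideal.height_eq_inf_minimalPrimes]
      apply le_iInf₂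
      intro P hP
      haveI := hP.1.1
      rcases (Ideal.IsPrime.inf_le inferInstance).1 hP.1.2 with h | h
      · rw [← h₁]; exact Ideal.height_mono h
      · rw [← h₂]; exact Ideal.height_mono h
  have hminI : ∀ (I : Ideal (MvPolynomial (Fin (n + 1)) K)),
      I.IsHomogeneous (GrSyz.stdGr K (Fin (n + 1))) →
      LocCoh.IsCohenMacaulayRing (MvPolynomial (Fin (n + 1)) K ⧸ I) → I.height = c → 𝔠 ≤ I →
      ∀ P₀ ∈ (I.map π).minimalPrimes, P₀ ∈ minimalPrimes (MvPolynomial (Fin (n + 1)) K ⧸ 𝔠) := by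
    intro I hI hCM hIc h𝔠I P₀ hP₀
    have h1 := Ideal.minimalPrimes_comap_of_surjective hπs hP₀
    rw [Ideal.comap_map_of_surjective π hπs, ← RingHom.ker_eq_comap_bot, hker,
      sup_eq_left.2 h𝔠I] at h1
    haveI : (P₀.comap π).IsPrime := h1.1.1
    have h2 := Groth.Agent.Liaison9.height_eq_of_mem_minimalPrimes_cm K n I hI _ h1
    have h3 : P₀.comap π ∈ 𝔠.minimalPrimes :=
      Groth.Agent.Liaison9.mem_minimalPrimes_of_height 𝔠 _ (h𝔠I.trans h1.1.2)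
        (le_of_eq (h2.trans (hIc.trans h𝔠ht.symm)))
    rw [Ideal.minimalPrimes_eq_comap] at h3
    obtain ⟨P₁, hP₁, hP₁P₀⟩ := h3
    have : P₁ = P₀ := Ideal.comap_injective_of_surjective π hπs hP₁P₀
    rw [← this]
    exact hP₁
  have hinf : I₁.map π ⊓ I₂.map π = ⊥ := by
    rw [eq_bot_iff]
    rintro x ⟨hx1, hx2⟩
    obtain ⟨a₁, ha₁, rfl⟩ := (Ideal.mem_map_iff_of_surjective π hπs).1 hx1
    obtain ⟨a₂, ha₂, ha⟩ := (Ideal.mem_map_iff_of_surjective π hπs).1 hx2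
    have h1 : a₁ - a₂ ∈ 𝔠 := by
      rw [← hker, RingHom.mem_ker, map_sub, ha, sub_self]
    have h2 : a₁ ∈ I₂ := by
      have : a₁ = (a₁ - a₂) + a₂ := by ring
      rw [this]
      exact I₂.add_mem (h𝔠₂ h1) ha₂
    rw [Ideal.mem_bot, ← RingHom.mem_ker, hker]
    exact ⟨ha₁, h2⟩
  haveI hCMJ₁ : LocCoh.IsCohenMacaulayRing
      ((MvPolynomial (Fin (n + 1)) K ⧸ 𝔠) ⧸ I₁.map π) :=
    Groth.Agent.Lib.CMEquivH3.isCohenMacaulayRing_of_ringEquiv
      (DoubleQuot.quotQuotEquivQuotOfLE h𝔠₁).symm hCM₁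
  haveI hCMJ₂ : LocCoh.IsCohenMacaulayRing
      ((MvPolynomial (Fin (n + 1)) K ⧸ 𝔠) ⧸ I₂.map π) :=
    Groth.Agent.Lib.CMEquivH3.isCohenMacaulayRing_of_ringEquiv
      (DoubleQuot.quotQuotEquivQuotOfLE h𝔠₂).symm hCM₂
  have hdisj' : ∀ P ∈ minimalPrimes (MvPolynomial (Fin (n + 1)) K ⧸ 𝔠),
      ¬ (I₁.map π ⊔ I₂.map π ≤ P) := by
    intro P hP hle
    haveI : P.IsPrime := hP.1.1
    have hP₀ : P.comap π ∈ 𝔠.minimalPrimes := by
      rw [Ideal.minimalPrimes_eq_comap]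
      exact ⟨P, hP, rfl⟩
    have hI₁P : I₁ ≤ P.comap π := Ideal.map_le_iff_le_comap.1 (le_sup_left.trans hle)
    have hI₂P : I₂ ≤ P.comap π := Ideal.map_le_iff_le_comap.1 (le_sup_right.trans hle)
    have hm₁ : P.comap π ∈ I₁.minimalPrimes :=
      ⟨⟨hP₀.1.1, hI₁P⟩, fun q hq hqP => hP₀.2 ⟨hq.1, h𝔠₁.trans hq.2⟩ hqP⟩
    have hm₂ : P.comap π ∈ I₂.minimalPrimes :=
      ⟨⟨hP₀.1.1, hI₂P⟩, fun q hq hqP => hP₀.2 ⟨hq.1, h𝔠₂.trans hq.2⟩ hqP⟩
    exact Set.disjoint_left.1 hdisj hm₁ hm₂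
  obtain ⟨hGor, hht1⟩ := isGorRing_quot_sup (MvPolynomial (Fin (n + 1)) K ⧸ 𝔠) (I₁.map π)
    (I₂.map π) hinf (hminI I₁ hI₁ hCM₁ h₁ h𝔠₁) (hminI I₂ hI₂ hCM₂ h₂ h𝔠₂) hdisj'
  have h𝔠sup : 𝔠 ≤ I₁ ⊔ I₂ := h𝔠₁.trans le_sup_left
  have hJsup : I₁.map π ⊔ I₂.map π = (I₁ ⊔ I₂).map π := (Ideal.map_sup _ _ _).symm
  refine ⟨?_, isGorRing_of_ringEquiv
    ((Ideal.quotEquivOfEq hJsup).trans (DoubleQuot.quotQuotEquivQuotOfLE h𝔠sup)) hGor⟩
  -- the height
  have hne₁ : I₁ ≠ ⊤ := by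
    intro h
    rw [h, Ideal.height_top] at h₁
    exact ENat.top_ne_coe c h₁
  have hne₂ : I₂ ≠ ⊤ := by
    intro h
    rw [h, Ideal.height_top] at h₂
    exact ENat.top_ne_coe c h₂
  haveI hmax : (GrSyzH1.irr K (Fin (n + 1))).IsMaximal := GrTorH1.irr_isMaximal K n
  have hsupne : I₁ ⊔ I₂ ≠ ⊤ := by
    intro h
    have hle : I₁ ⊔ I₂ ≤ GrSyzH1.irr K (Fin (n + 1)) :=
      sup_le (Groth.Agent.Liaison9.le_irr_of_isHomogeneous K (Fin (n + 1)) I₁ hI₁ hne₁)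
        (Groth.Agent.Liaison9.le_irr_of_isHomogeneous K (Fin (n + 1)) I₂ hI₂ hne₂)
    rw [h] at hle
    exact hmax.ne_top (top_le_iff.1 hle)
  haveI : LocCoh.IsCohenMacaulayRing K := Groth.Agent.TensorCM.isCMRing_field K
  haveI hRCM : LocCoh.IsCohenMacaulayRing (MvPolynomial (Fin (n + 1)) K) :=
    Groth.Agent.FlatCM.isCMRing_mvPolynomial K (n + 1)
  haveI hCM𝔠 : LocCoh.IsCohenMacaulayRing (MvPolynomial (Fin (n + 1)) K ⧸ 𝔠) := by
    haveI : IsNoetherianRing (MvPolynomial (Fin (n + 1)) K ⧸ 𝔠) := hG.toIsNoetherian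
    refine ⟨fun p hp => ?_⟩
    haveI := hG.isGorensteinLocalRing_localization p
    exact isCMLocalRing_of_gorenstein _
  have hQht : ∀ Q ∈ (I₁ ⊔ I₂).minimalPrimes, Q.height = ((c + 1 : ℕ) : ℕ∞) := by
    intro Q hQ
    have hcomap : (I₁.map π ⊔ I₂.map π).comap π = I₁ ⊔ I₂ := by
      rw [hJsup, Ideal.comap_map_of_surjective π hπs, ← RingHom.ker_eq_comap_bot, hker,
        sup_eq_left.2 h𝔠sup]
    have hQ' : Q ∈ ((I₁.map π ⊔ I₂.map π).comap π).minimalPrimes := by rw [hcomap]; exact hQ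
    rw [Ideal.comap_minimalPrimes_eq_of_surjective hπs] at hQ'
    obtain ⟨Q', hQ'min, rfl⟩ := hQ'
    haveI : Q'.IsPrime := hQ'min.1.1
    have h1 := hht1 Q' hQ'min
    haveI : (Q'.comap π).IsPrime := Ideal.comap_isPrime π Q'
    have h𝔠Q : 𝔠 ≤ Q'.comap π := by
      intro x hx
      rw [Ideal.mem_comap]
      have : π x = 0 := Ideal.Quotient.eq_zero_iff_mem.2 hx
      rw [this]
      exact zero_mem _
    have hT : (Q'.comap π).primeCompl.map π = Q'.primeCompl := by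
      ext y
      constructor
      · rintro ⟨x, hx, rfl⟩
        exact hx
      · intro hy
        obtain ⟨x, rfl⟩ := hπs y
        exact ⟨x, hy, rfl⟩
    obtain ⟨e⟩ := Groth.Agent.GorLCI9.nonempty_quot_equiv π hπs (Q'.comap π).primeCompl
      Q'.primeCompl hT (Localization.AtPrime (Q'.comap π)) (Localization.AtPrime Q')
    rw [hker] at e
    have hdim1 : ringKrullDim (Localization.AtPrime (Q'.comap π) ⧸
        𝔠.map (algebraMap (MvPolynomial (Fin (n + 1)) K) (Localization.AtPrime (Q'.comap π)))) =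
        1 := by
      rw [ringKrullDim_eq_of_ringEquiv e,
        IsLocalization.AtPrime.ringKrullDim_eq_height Q' (Localization.AtPrime Q'), h1]
      rfl
    obtain ⟨P₀, hP₀, hP₀Q⟩ := Ideal.exists_minimalPrimes_le h𝔠Q
    haveI := hRCM.isCohenMacaulayLocalRing_localization (Q'.comap π)
    have hCMT := Groth.Agent.Liaison9.cm_quot_localization (MvPolynomial (Fin (n + 1)) K) 𝔠
      (Q'.comap π) h𝔠Q
    have h2 := Groth.Agent.Liaison9.height_add_dim_quot_cm (MvPolynomial (Fin (n + 1)) K) 𝔠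
      (Q'.comap π) hCMT P₀ hP₀ hP₀Q
    have h3 : P₀.height = c :=
      (Groth.Agent.Liaison9.height_eq_of_mem_minimalPrimes_cm K n 𝔠 h𝔠hom P₀ hP₀).trans h𝔠ht
    rw [hdim1, IsLocalization.AtPrime.ringKrullDim_eq_height (Q'.comap π)
      (Localization.AtPrime (Q'.comap π)), h3] at h2
    exact_mod_cast h2.symm
  rw [Ideal.height_eq_inf_minimalPrimes]
  obtain ⟨Q₀, hQ₀⟩ := Ideal.nonempty_minimalPrimes hsupne
  apply le_antisymm
  · refine (iInf₂_le Q₀ hQ₀).trans ?_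
    rw [hQht Q₀ hQ₀]
    push_cast
    rfl
  · apply le_iInf₂
    intro Q hQ
    rw [hQht Q hQ]
    push_cast
    rfl

end Poly

end Groth.Agent.Link9
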