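import Mathlib
import Groth.Agent.Lib.Link8_helper9
import Groth.Agent.Lib.GradedGen_helper3
import Groth.Agent.Lib.DimFT2_helper8

/-!
# Cohen–Macaulayness of `A/(I ∩ J)` at the irrelevant ideal (helper9)
APPEND-ONLY once landed.
-/

set_option autoImplicit false
set_option maxHeartbeats 400000
universe u v

namespace Groth.Agent.Link9

open IsLocalRing RingTheory.Sequence Groth.Agent.DepthLib Groth.Agent.GorFlat9

section LocalInf

variable (A : Type u) [CommRing A] [IsNoetherianRing A] [IsLocalRing A]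

/-- the depth of a CM quotient of a local ring -/
theorem idealDepth_quot_of_cm (J : Ideal A) [LocCoh.IsCohenMacaulayLocalRing (A ⧸ J)] (d : ℕ)
    (hJ : ringKrullDim (A ⧸ J) = ((d : ℕ) : WithBot ℕ∞)) :
    LocCoh.idealDepth (maximalIdeal A) (A ⧸ J) = ((d : ℕ) : ℕ∞) := by
  have h := isCM_quot_of_ring J
  unfold LocCoh.IsCohenMacaulayModule LocCoh.depth at h
  rw [Module.supportDim_quotient_eq_ringKrullDim, hJ] at h
  have h' : (((d : ℕ) : ℕ∞) : WithBot ℕ∞) =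
      ((LocCoh.idealDepth (maximalIdeal A) (A ⧸ J) : ℕ∞) : WithBot ℕ∞) := h
  exact (WithBot.coe_injective h').symm

open Groth.Agent.Lib.RegSeqExactLead in
/-- **local form**: if `A/J₁`, `A/J₂` are Cohen–Macaulay of dimension `e + 1` and `A/(J₁ + J₂)` is
Cohen–Macaulay of dimension `e`, then `A/(J₁ ∩ J₂)` is Cohen–Macaulay of dimension `e + 1`. -/
theorem cm_quot_inf (J₁ J₂ : Ideal A)
    [hCM₁ : LocCoh.IsCohenMacaulayLocalRing (A ⧸ J₁)]
    [hCM₂ : LocCoh.IsCohenMacaulayLocalRing (A ⧸ J₂)]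
    [hCM₃ : LocCoh.IsCohenMacaulayLocalRing (A ⧸ (J₁ ⊔ J₂))]
    (e : ℕ) (h₁ : ringKrullDim (A ⧸ J₁) = ((e + 1 : ℕ) : WithBot ℕ∞))
    (h₂ : ringKrullDim (A ⧸ J₂) = ((e + 1 : ℕ) : WithBot ℕ∞))
    (h₃ : ringKrullDim (A ⧸ (J₁ ⊔ J₂)) = ((e : ℕ) : WithBot ℕ∞)) :
    LocCoh.IsCohenMacaulayLocalRing (A ⧸ (J₁ ⊓ J₂)) ∧
      ringKrullDim (A ⧸ (J₁ ⊓ J₂)) = ((e + 1 : ℕ) : WithBot ℕ∞) := by
  have hJ₁ne : J₁ ≠ ⊤ := by
    haveI : Nontrivial (A ⧸ J₁) := hCM₁.toIsLocalRing.toNontrivial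
    exact Ideal.Quotient.nontrivial_iff.1 inferInstance
  have hJm : J₁ ⊓ J₂ ≤ maximalIdeal A := inf_le_left.trans (le_maximalIdeal hJ₁ne)
  haveI : IsLocalRing (A ⧸ (J₁ ⊓ J₂)) := Groth.Agent.FibDim.isLocalRing_quot hJm
  have hd1 := idealDepth_quot_of_cm A J₁ (e + 1) h₁
  have hd2 := idealDepth_quot_of_cm A J₂ (e + 1) h₂
  have hd3 := idealDepth_quot_of_cm A (J₁ ⊔ J₂) e h₃
  have hdepN : ((e + 1 : ℕ) : ℕ∞) ≤
      LocCoh.idealDepth (maximalIdeal A) ((A ⧸ J₁) × (A ⧸ J₂)) := by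
    have := min_le_idealDepth_prod (M₁ := A ⧸ J₁) (M₂ := A ⧸ J₂) (maximalIdeal A)
    rwa [hd1, hd2, min_self] at this
  have hdep : ((e + 1 : ℕ) : ℕ∞) ≤ LocCoh.idealDepth (maximalIdeal A) (A ⧸ (J₁ ⊓ J₂)) := by
    have := (depth_ses (maximalIdeal A) (A ⧸ (J₁ ⊓ J₂)) ((A ⧸ J₁) × (A ⧸ J₂)) (A ⧸ (J₁ ⊔ J₂))
      (mvι J₁ J₂) (mvπ J₁ J₂) (mvι_injective J₁ J₂) (mvπ_surjective J₁ J₂) (mv_exact J₁ J₂)).2.2
    rw [hd3] at this
    refine le_trans (le_min hdepN ?_) this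
    exact_mod_cast le_rfl
  -- the dimension
  have hdim : ringKrullDim (A ⧸ (J₁ ⊓ J₂)) ≤ ((e + 1 : ℕ) : WithBot ℕ∞) := by
    apply ringKrullDim_quot_le_of_forall_prime
    intro P _ hP
    rcases (Ideal.IsPrime.inf_le (inferInstance : P.IsPrime)).1 hP with h | h
    · rw [← h₁]
      exact ringKrullDim_le_of_surjective (Ideal.Quotient.factor h)
        (Ideal.Quotient.factor_surjective _)
    · rw [← h₂]
      exact ringKrullDim_le_of_surjective (Ideal.Quotient.factor h)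
        (Ideal.Quotient.factor_surjective _)
  haveI : IsLocalHom (algebraMap A (A ⧸ (J₁ ⊓ J₂))) :=
    IsLocalHom.of_surjective _ Ideal.Quotient.mk_surjective
  have hdep' := hdep
  change ((e + 1 : ℕ) : ℕ∞) ≤ LocCoh.depth A (A ⧸ (J₁ ⊓ J₂)) at hdep'
  rw [depth_eq_of_isLocalHom A (A ⧸ (J₁ ⊓ J₂)) (A ⧸ (J₁ ⊓ J₂))] at hdep'
  have h5 := Groth.Agent.FlatCM.depth_le_dim (A ⧸ (J₁ ⊓ J₂))
  have h6 : (((e + 1 : ℕ) : ℕ∞) : WithBot ℕ∞) ≤
      ((LocCoh.depth (A ⧸ (J₁ ⊓ J₂)) (A ⧸ (J₁ ⊓ J₂)) : ℕ∞) : WithBot ℕ∞) :=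
    WithBot.coe_le_coe.mpr hdep'
  have hdimeq : ringKrullDim (A ⧸ (J₁ ⊓ J₂)) = ((e + 1 : ℕ) : WithBot ℕ∞) :=
    le_antisymm hdim (h6.trans h5)
  refine ⟨?_, hdimeq⟩
  rw [Groth.Agent.FlatCM.isCMLocalRing_iff]
  apply le_antisymm _ h5
  rw [hdimeq]
  exact h6

end LocalInf

section FTDim

/-- in a finitely generated algebra over a field, a maximal ideal containing all minimal primes has
height equal to the dimension -/
theorem dim_eq_height_of_minimalPrimes_le (k T : Type u) [Field k] [CommRing T] [Algebra k T]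
    [Algebra.FiniteType k T] (M : Ideal T) [hM : M.IsMaximal]
    (h : ∀ q ∈ minimalPrimes T, q ≤ M) : ringKrullDim T = ((M.height : ℕ∞) : WithBot ℕ∞) := by
  apply le_antisymm
  · rw [ringKrullDim_le_iff_isMaximal_height_le]
    intro m' hm'
    haveI := hm'
    obtain ⟨q, hqmin, hqm, hqp, n, h1, h2⟩ :=
      Groth.Agent.DimFT2H8.exists_minimalPrimes_trdeg_eq_height k T m'
    obtain ⟨n', h1', h2'⟩ := Groth.Agent.DimFT2H8.exists_trdeg_le_height k T q M (h q hqmin)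
    have hnn : n = n' := by exact_mod_cast (h1.symm.trans h1')
    rw [h2]
    subst hnn
    exact_mod_cast h2'
  · exact Ideal.height_le_ringKrullDim_of_ne_top hM.ne_top

end FTDim

section Graded

variable (K : Type u) [Field K] (A : Type v) [CommRing A] [Algebra K A]
  (𝒜 : ℕ → Submodule K A) [GradedAlgebra 𝒜]

/-- the degree zero part is a field -/
theorem isField_zero [Nontrivial A] (h0 : ∀ a ∈ 𝒜 0, ∃ c : K, algebraMap K A c = a) :
    IsField (𝒜 0) := by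
  refine ⟨⟨0, 1, ?_⟩, mul_comm, ?_⟩
  · intro h
    have := congrArg Subtype.val h
    simp at this
  · intro a ha
    obtain ⟨c, hc⟩ := h0 a.1 a.2
    have hc0 : c ≠ 0 := by
      rintro rfl
      apply ha
      ext
      rw [← hc]
      simp
    have hmem : algebraMap K A c⁻¹ ∈ 𝒜 0 := by
      rw [Algebra.algebraMap_eq_smul_one]
      exact Submodule.smul_mem _ _ (SetLike.GradedOne.one_mem)
    refine ⟨⟨algebraMap K A c⁻¹, hmem⟩, ?_⟩
    ext
    simp only [SetLike.GradeZero.coe_mul, SetLike.GradeZero.coe_one]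
    rw [← hc, ← map_mul, mul_inv_cancel₀ hc0, map_one]

variable {K A 𝒜}

/-- proper homogeneous ideals lie in the irrelevant ideal -/
theorem le_irrelevant_of_isHomogeneous (h0 : ∀ a ∈ 𝒜 0, ∃ c : K, algebraMap K A c = a)
    (Q : Ideal A) (hQ : Q.IsHomogeneous 𝒜) (hne : Q ≠ ⊤) :
    Q ≤ (HomogeneousIdeal.irrelevant 𝒜).toIdeal := by
  intro x hx
  change x ∈ HomogeneousIdeal.irrelevant 𝒜
  rw [HomogeneousIdeal.mem_irrelevant_iff, GradedRing.proj_apply]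
  have h1 : (DirectSum.decompose 𝒜 x 0 : A) ∈ Q := hQ 0 hx
  obtain ⟨c, hc⟩ := h0 _ (SetLike.coe_mem (DirectSum.decompose 𝒜 x 0))
  by_contra hne0
  have hc0 : c ≠ 0 := by
    rintro rfl
    apply hne0
    rw [← hc, map_zero]
  apply hne
  rw [Ideal.eq_top_iff_one]
  have h2 : algebraMap K A c⁻¹ * (DirectSum.decompose 𝒜 x 0 : A) ∈ Q := Q.mul_mem_left _ h1
  rwa [← hc, ← map_mul, inv_mul_cancel₀ hc0, map_one] at h2

/-- minimal primes of homogeneous ideals are homogeneous -/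
theorem isHomogeneous_of_mem_minimalPrimes (I : Ideal A) (hI : I.IsHomogeneous 𝒜) (Q : Ideal A)
    (hQ : Q ∈ I.minimalPrimes) : Q.IsHomogeneous 𝒜 := by
  haveI := hQ.1.1
  have hcp : (Q.homogeneousCore 𝒜).toIdeal.IsPrime := Ideal.IsPrime.homogeneousCore hQ.1.1
  have hle : I ≤ (Q.homogeneousCore 𝒜).toIdeal := by
    rw [← hI.toIdeal_homogeneousCore_eq_self]
    exact Ideal.homogeneousCore_mono 𝒜 hQ.1.2
  have h1 : Q ≤ (Q.homogeneousCore 𝒜).toIdeal :=
    hQ.2 ⟨hcp, hle⟩ (Ideal.toIdeal_homogeneousCore_le 𝒜 Q)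
  have heq : (Q.homogeneousCore 𝒜).toIdeal = Q :=
    le_antisymm (Ideal.toIdeal_homogeneousCore_le 𝒜 Q) h1
  rw [← heq]
  exact (Q.homogeneousCore 𝒜).isHomogeneous

/-- the irrelevant ideal is maximal when the degree zero part is a field -/
theorem irrelevant_isMaximal [Nontrivial A] (h0 : ∀ a ∈ 𝒜 0, ∃ c : K, algebraMap K A c = a) :
    (HomogeneousIdeal.irrelevant 𝒜).toIdeal.IsMaximal := by
  rw [Ideal.isMaximal_iff]
  constructor
  · intro h1
    change (1 : A) ∈ HomogeneousIdeal.irrelevant 𝒜 at h1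
    rw [HomogeneousIdeal.mem_irrelevant_iff, GradedRing.proj_apply,
      DirectSum.decompose_of_mem_same 𝒜 SetLike.GradedOne.one_mem] at h1
    exact one_ne_zero h1
  · intro J x hJ hx hxJ
    change ¬ (x ∈ HomogeneousIdeal.irrelevant 𝒜) at hx
    rw [HomogeneousIdeal.mem_irrelevant_iff, GradedRing.proj_apply] at hx
    obtain ⟨c, hc⟩ := h0 _ (SetLike.coe_mem (DirectSum.decompose 𝒜 x 0))
    have hc0 : c ≠ 0 := by
      rintro rfl
      apply hx
      rw [← hc, map_zero]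
    have h2 : x - (DirectSum.decompose 𝒜 x 0 : A) ∈ (HomogeneousIdeal.irrelevant 𝒜).toIdeal := by
      change _ ∈ HomogeneousIdeal.irrelevant 𝒜
      rw [HomogeneousIdeal.mem_irrelevant_iff, GradedRing.proj_apply, DirectSum.decompose_sub,
        DirectSum.sub_apply, DirectSum.decompose_coe, DirectSum.of_eq_same]
      simp
    have h3 : (DirectSum.decompose 𝒜 x 0 : A) ∈ J := by
      have := J.sub_mem hxJ (hJ h2)
      simpa using this
    have h4 : algebraMap K A c⁻¹ * (DirectSum.decompose 𝒜 x 0 : A) ∈ J := J.mul_mem_left _ h3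
    rwa [← hc, ← map_mul, inv_mul_cancel₀ hc0, map_one] at h4

variable [IsNoetherianRing A]

/-- the dimension of a graded quotient is the height of its irrelevant ideal -/
theorem dim_quot_eq_height_irrelevant (h0 : ∀ a ∈ 𝒜 0, ∃ c : K, algebraMap K A c = a)
    (I : Ideal A) (hI : I.IsHomogeneous 𝒜) (hne : I ≠ ⊤) :
    ((HomogeneousIdeal.irrelevant 𝒜).toIdeal.map (Ideal.Quotient.mk I)).IsMaximal ∧
    ringKrullDim (A ⧸ I) =
      ((((HomogeneousIdeal.irrelevant 𝒜).toIdeal.map (Ideal.Quotient.mk I)).height : ℕ∞) :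
        WithBot ℕ∞) := by
  haveI : Nontrivial A := by
    by_contra hnt
    rw [not_nontrivial_iff_subsingleton] at hnt
    exact hne (Subsingleton.elim _ _)
  haveI hmax := irrelevant_isMaximal (𝒜 := 𝒜) h0
  have hIn : I ≤ (HomogeneousIdeal.irrelevant 𝒜).toIdeal := le_irrelevant_of_isHomogeneous h0 I hI hne
  have hker : RingHom.ker (Ideal.Quotient.mk I) ≤ (HomogeneousIdeal.irrelevant 𝒜).toIdeal := by
    rwa [Ideal.mk_ker]
  haveI hM : ((HomogeneousIdeal.irrelevant 𝒜).toIdeal.map (Ideal.Quotient.mk I)).IsMaximal :=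
    Ideal.IsMaximal.map_of_surjective_of_ker_le Ideal.Quotient.mk_surjective hker
  refine ⟨hM, ?_⟩
  letI : Field (𝒜 0) := (isField_zero K A 𝒜 h0).toField
  haveI : Algebra.FiniteType (𝒜 0) A :=
    Groth.Agent.Lib.GradedGen_helper3.finiteType_of_isNoetherianRing 𝒜
  haveI : Algebra.FiniteType (𝒜 0) (A ⧸ I) :=
    Algebra.FiniteType.of_surjective (Ideal.Quotient.mkₐ (𝒜 0) I)
      (Ideal.Quotient.mkₐ_surjective _ I)
  apply dim_eq_height_of_minimalPrimes_le (𝒜 0) (A ⧸ I)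
  intro q hq
  have h1 : q.comap (Ideal.Quotient.mk I) ∈ I.minimalPrimes := by
    have h2 := Ideal.comap_minimalPrimes_eq_of_surjective
      (f := Ideal.Quotient.mk I) Ideal.Quotient.mk_surjective (⊥ : Ideal (A ⧸ I))
    rw [← RingHom.ker_eq_comap_bot, Ideal.mk_ker] at h2
    rw [h2]
    exact ⟨q, hq, rfl⟩
  have h3 : q.comap (Ideal.Quotient.mk I) ≤ (HomogeneousIdeal.irrelevant 𝒜).toIdeal :=
    le_irrelevant_of_isHomogeneous h0 _ (isHomogeneous_of_mem_minimalPrimes I hI _ h1)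
      h1.1.1.ne_top
  have h4 := Ideal.map_mono (f := Ideal.Quotient.mk I) h3
  rwa [Ideal.map_comap_of_surjective _ Ideal.Quotient.mk_surjective] at h4

end Graded

section LocQuot

/-- the localisation of `R/𝔠` at the image of a prime `P ⊇ 𝔠` is `R_P/𝔠R_P` -/
theorem nonempty_quot_localization_equiv (R : Type u) [CommRing R] (𝔠 P : Ideal R) [P.IsPrime]
    (h𝔠P : 𝔠 ≤ P) [hPb : (P.map (Ideal.Quotient.mk 𝔠)).IsPrime] :
    Nonempty ((Localization.AtPrime P ⧸ 𝔠.map (algebraMap R (Localization.AtPrime P))) ≃+*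
      Localization.AtPrime (P.map (Ideal.Quotient.mk 𝔠))) := by
  set π : R →+* R ⧸ 𝔠 := Ideal.Quotient.mk 𝔠 with hπ
  have hπs : Function.Surjective π := Ideal.Quotient.mk_surjective
  have hker : RingHom.ker π = 𝔠 := Ideal.mk_ker
  have hcomap : (P.map π).comap π = P := by
    rw [Ideal.comap_map_of_surjective π hπs, ← RingHom.ker_eq_comap_bot, hker,
      sup_eq_left.2 h𝔠P]
  have hT : P.primeCompl.map π = (P.map π).primeCompl := by
    ext y
    constructor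
    · rintro ⟨x, hx, rfl⟩
      intro hmem
      apply hx
      have : x ∈ (P.map π).comap π := hmem
      rwa [hcomap] at this
    · intro hy
      obtain ⟨x, rfl⟩ := hπs y
      refine ⟨x, ?_, rfl⟩
      intro hx
      exact hy (Ideal.mem_map_of_mem π hx)
  obtain ⟨e⟩ := Groth.Agent.GorLCI9.nonempty_quot_equiv π hπs P.primeCompl (P.map π).primeCompl hT
    (Localization.AtPrime P) (Localization.AtPrime (P.map π))
  rw [hker] at e
  exact ⟨e⟩

/-- the dimension of `R_P/𝔠R_P` is the height of `P/𝔠` -/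
theorem ringKrullDim_quot_localization (R : Type u) [CommRing R] (𝔠 P : Ideal R) [P.IsPrime]
    (h𝔠P : 𝔠 ≤ P) [hPb : (P.map (Ideal.Quotient.mk 𝔠)).IsPrime] :
    ringKrullDim (Localization.AtPrime P ⧸ 𝔠.map (algebraMap R (Localization.AtPrime P))) =
      (((P.map (Ideal.Quotient.mk 𝔠)).height : ℕ∞) : WithBot ℕ∞) := by
  obtain ⟨e⟩ := nonempty_quot_localization_equiv R 𝔠 P h𝔠P
  rw [ringKrullDim_eq_of_ringEquiv e,
    IsLocalization.AtPrime.ringKrullDim_eq_height (P.map (Ideal.Quotient.mk 𝔠))]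

end LocQuot

section Main

variable (K : Type u) [Field K] (A : Type v) [CommRing A] [Algebra K A] [IsNoetherianRing A]
  (𝒜 : ℕ → Submodule K A) [GradedAlgebra 𝒜]

/-- **S11276** -/
theorem cm_at_irrelevant_of_inf
    (h0 : ∀ a ∈ 𝒜 0, ∃ c : K, algebraMap K A c = a) (I J : Ideal A) (hI : I.IsHomogeneous 𝒜)
    (hJ : J.IsHomogeneous 𝒜) (e : ℕ) (he : 1 ≤ e)
    (hIcm : LocCoh.IsCohenMacaulayRing (A ⧸ I)) (hJcm : LocCoh.IsCohenMacaulayRing (A ⧸ J))
    (hIJcm : LocCoh.IsCohenMacaulayRing (A ⧸ (I ⊔ J)))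
    (hIdim : ringKrullDim (A ⧸ I) = (e : WithBot ℕ∞)) (hJdim : ringKrullDim (A ⧸ J) = (e : WithBot ℕ∞))
    (hIJdim : ringKrullDim (A ⧸ (I ⊔ J)) = ((e - 1 : ℕ) : WithBot ℕ∞))
    [hm : ((HomogeneousIdeal.irrelevant 𝒜).toIdeal.map (Ideal.Quotient.mk (I ⊓ J))).IsPrime] :
    LocCoh.IsCohenMacaulayLocalRing (Localization.AtPrime
        ((HomogeneousIdeal.irrelevant 𝒜).toIdeal.map (Ideal.Quotient.mk (I ⊓ J)))) ∧
      ringKrullDim (Localization.AtPrime
        ((HomogeneousIdeal.irrelevant 𝒜).toIdeal.map (Ideal.Quotient.mk (I ⊓ J)))) =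
          (e : WithBot ℕ∞) := by
  obtain ⟨e', rfl⟩ : ∃ e', e = e' + 1 := ⟨e - 1, by omega⟩
  have hne : ∀ (L : Ideal A) (d : ℕ), ringKrullDim (A ⧸ L) = ((d : ℕ) : WithBot ℕ∞) → L ≠ ⊤ := by
    intro L d hL htop
    haveI : Subsingleton (A ⧸ L) := by
      rw [htop]
      exact Ideal.Quotient.subsingleton_iff.2 rfl
    rw [ringKrullDim_eq_bot_of_subsingleton] at hL
    exact WithBot.bot_ne_coe hL
  have hIne : I ≠ ⊤ := hne I _ (by exact_mod_cast hIdim)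
  have hJne : J ≠ ⊤ := hne J _ (by exact_mod_cast hJdim)
  have hIJne : I ⊔ J ≠ ⊤ := hne (I ⊔ J) _ hIJdim
  haveI : Nontrivial A := by
    by_contra hnt
    rw [not_nontrivial_iff_subsingleton] at hnt
    exact hIne (Subsingleton.elim _ _)
  set 𝔫 : Ideal A := (HomogeneousIdeal.irrelevant 𝒜).toIdeal with h𝔫
  haveI hmax : 𝔫.IsMaximal := irrelevant_isMaximal (𝒜 := 𝒜) h0
  haveI : 𝔫.IsPrime := hmax.isPrime
  have hIJh : (I ⊔ J).IsHomogeneous 𝒜 := hI.sup hJ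
  have hI𝔫 : I ≤ 𝔫 := le_irrelevant_of_isHomogeneous h0 I hI hIne
  have hJ𝔫 : J ≤ 𝔫 := le_irrelevant_of_isHomogeneous h0 J hJ hJne
  have hIJ𝔫 : I ⊔ J ≤ 𝔫 := sup_le hI𝔫 hJ𝔫
  -- the three local quotient rings
  haveI := hIcm
  haveI := hJcm
  haveI := hIJcm
  haveI c1 := Groth.Agent.Liaison9.cm_quot_localization A I 𝔫 hI𝔫
  haveI c2 := Groth.Agent.Liaison9.cm_quot_localization A J 𝔫 hJ𝔫
  have c3 := Groth.Agent.Liaison9.cm_quot_localization A (I ⊔ J) 𝔫 hIJ𝔫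
  rw [Ideal.map_sup] at c3
  haveI := c3
  obtain ⟨m1, d1⟩ := dim_quot_eq_height_irrelevant (𝒜 := 𝒜) h0 I hI hIne
  obtain ⟨m2, d2⟩ := dim_quot_eq_height_irrelevant (𝒜 := 𝒜) h0 J hJ hJne
  obtain ⟨m3, d3⟩ := dim_quot_eq_height_irrelevant (𝒜 := 𝒜) h0 (I ⊔ J) hIJh hIJne
  haveI := m1.isPrime
  haveI := m2.isPrime
  haveI := m3.isPrime
  have D1 := ringKrullDim_quot_localization A I 𝔫 hI𝔫
  have D2 := ringKrullDim_quot_localization A J 𝔫 hJ𝔫
  have D3 := ringKrullDim_quot_localization A (I ⊔ J) 𝔫 hIJ𝔫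
  rw [← d1, hIdim] at D1
  rw [← d2, hJdim] at D2
  rw [← d3, hIJdim, Ideal.map_sup] at D3
  have key := cm_quot_inf (Localization.AtPrime 𝔫) (I.map (algebraMap A (Localization.AtPrime 𝔫)))
    (J.map (algebraMap A (Localization.AtPrime 𝔫))) e' (by exact_mod_cast D1)
    (by exact_mod_cast D2) (by simpa using D3)
  rw [← IsLocalization.map_inf 𝔫.primeCompl] at key
  obtain ⟨eq⟩ := nonempty_quot_localization_equiv A (I ⊓ J) 𝔫 (inf_le_left.trans hI𝔫)
  haveI := key.1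
  refine ⟨Groth.Agent.FlatCM.isCMLocalRing_of_ringEquiv eq, ?_⟩
  rw [← ringKrullDim_eq_of_ringEquiv eq, key.2]

end Main

end Groth.Agent.Link9
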