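import Mathlib
import Groth.Agent.Lib.Link10_helper9
import Groth.Agent.Lib.CMLocusOpen_helper9

/-!
# A cone is Cohen–Macaulay iff it is so at its vertex (helper9)
APPEND-ONLY once landed.
-/

set_option autoImplicit false
set_option maxHeartbeats 400000
universe u

namespace Groth.Agent.Cone9

open MvPolynomial

section Scale

variable {K : Type u} [Field K] {σ : Type*}

/-- the scaling automorphism `x_i ↦ t x_i` -/
noncomputable def scale (t : K) : MvPolynomial σ K →ₐ[K] MvPolynomial σ K :=
  MvPolynomial.aeval (fun i => MvPolynomial.C t * MvPolynomial.X i)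

theorem scale_monomial (t : K) (d : σ →₀ ℕ) (a : K) :
    scale t (monomial d a) = monomial d (t ^ d.degree * a) := by
  unfold scale
  rw [aeval_monomial]
  have h1 : d.prod (fun i k => (C t * X i : MvPolynomial σ K) ^ k) =
      C (t ^ d.degree) * d.prod (fun i k => (X i : MvPolynomial σ K) ^ k) := by
    simp only [Finsupp.prod, mul_pow, Finset.prod_mul_distrib]
    congr 1
    rw [Finset.prod_pow_eq_pow_sum, ← map_pow]
    rfl
  rw [h1, MvPolynomial.algebraMap_eq, ← mul_assoc, ← map_mul, mul_comm a, monomial_eq]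

theorem coeff_scale (t : K) (f : MvPolynomial σ K) (d : σ →₀ ℕ) :
    coeff d (scale t f) = t ^ d.degree * coeff d f := by
  classical
  induction f using MvPolynomial.induction_on' with
  | monomial e a =>
    rw [scale_monomial, coeff_monomial, coeff_monomial]
    split_ifs with h
    · rw [h]
    · simp
  | add p q hp hq =>
    rw [map_add, coeff_add, coeff_add, hp, hq, mul_add]

theorem scale_of_isHomogeneous (t : K) {f : MvPolynomial σ K} {k : ℕ} (hf : f.IsHomogeneous k) :
    scale t f = t ^ k • f := by
  ext d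
  rw [coeff_scale, coeff_smul, smul_eq_mul]
  by_cases h : d.degree = k
  · rw [h]
  · rw [hf.coeff_eq_zero h, mul_zero, mul_zero]

theorem scale_scale (s t : K) (f : MvPolynomial σ K) : scale s (scale t f) = scale (s * t) f := by
  ext d
  rw [coeff_scale, coeff_scale, coeff_scale, mul_pow, mul_assoc]

theorem scale_one (f : MvPolynomial σ K) : scale (1 : K) f = f := by
  ext d
  rw [coeff_scale, one_pow, one_mul]

/-- an ideal stable under all scalings is homogeneous -/
theorem homogeneousComponent_mem_of_scale_mem [Infinite K] (I : Ideal (MvPolynomial σ K))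
    (hst : ∀ t : K, t ≠ 0 → ∀ f ∈ I, scale t f ∈ I) (f : MvPolynomial σ K) (hf : f ∈ I) (k : ℕ) :
    homogeneousComponent k f ∈ I := by
  by_contra hk
  set W : Submodule K (MvPolynomial σ K) := I.restrictScalars K with hW
  have hk' : homogeneousComponent k f ∉ W := hk
  obtain ⟨ℓ, hℓ1, hℓ2⟩ := Submodule.exists_le_ker_of_notMem hk'
  set D := f.totalDegree with hD
  set p : Polynomial K := ∑ j ∈ Finset.range (D + 1),
    Polynomial.C (ℓ (homogeneousComponent j f)) * Polynomial.X ^ j with hp
  have hroot : ∀ t : K, t ≠ 0 → p.IsRoot t := by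
    intro t ht
    have h1 : scale t f ∈ W := hst t ht f hf
    have h2 : ℓ (scale t f) = 0 := hℓ2 h1
    have h3 : scale t f = ∑ j ∈ Finset.range (D + 1), t ^ j • homogeneousComponent j f := by
      conv_lhs => rw [← sum_homogeneousComponent f]
      rw [map_sum]
      refine Finset.sum_congr rfl fun j _ => ?_
      exact scale_of_isHomogeneous t (homogeneousComponent_isHomogeneous j f)
    rw [h3, map_sum] at h2
    rw [Polynomial.IsRoot.def, hp, Polynomial.eval_finset_sum]
    rw [← h2]
    refine Finset.sum_congr rfl fun j _ => ?_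
    rw [Polynomial.eval_mul, Polynomial.eval_C, Polynomial.eval_pow, Polynomial.eval_X, map_smul,
      smul_eq_mul, mul_comm]
  have hp0 : p = 0 := by
    apply Polynomial.eq_zero_of_infinite_isRoot
    have hsub : ({0}ᶜ : Set K) ⊆ {x | p.IsRoot x} := fun t ht => hroot t ht
    exact (Set.Finite.infinite_compl (Set.finite_singleton (0 : K))).mono hsub
  by_cases hkD : k < D + 1
  · have hc : p.coeff k = ℓ (homogeneousComponent k f) := by
      rw [hp, Polynomial.finset_sum_coeff]
      rw [Finset.sum_eq_single k]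
      · rw [Polynomial.coeff_C_mul_X_pow, if_pos rfl]
      · intro j _ hjk
        rw [Polynomial.coeff_C_mul_X_pow, if_neg (Ne.symm hjk)]
      · intro hnot
        exact absurd (Finset.mem_range.2 hkD) hnot
    rw [hp0, Polynomial.coeff_zero] at hc
    exact hℓ1 hc.symm
  · apply hℓ1
    rw [homogeneousComponent_eq_zero _ _ (by omega), map_zero]

/-- scaling by a unit as an algebra automorphism -/
noncomputable def scaleEquiv (t : K) (ht : t ≠ 0) : MvPolynomial σ K ≃ₐ[K] MvPolynomial σ K :=
  AlgEquiv.ofAlgHom (scale t) (scale t⁻¹)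
    (AlgHom.ext fun f => by
      rw [AlgHom.comp_apply, scale_scale, mul_inv_cancel₀ ht, scale_one, AlgHom.id_apply])
    (AlgHom.ext fun f => by
      rw [AlgHom.comp_apply, scale_scale, inv_mul_cancel₀ ht, scale_one, AlgHom.id_apply])

@[simp] theorem scaleEquiv_apply (t : K) (ht : t ≠ 0) (f : MvPolynomial σ K) :
    scaleEquiv t ht f = scale t f := rfl

/-- scaling by a unit as a ring automorphism -/
noncomputable def scaleRingEquiv (t : K) (ht : t ≠ 0) : MvPolynomial σ K ≃+* MvPolynomial σ K :=
  (scaleEquiv t ht).toRingEquiv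

@[simp] theorem scaleRingEquiv_apply (t : K) (ht : t ≠ 0) (f : MvPolynomial σ K) :
    scaleRingEquiv t ht f = scale t f := rfl

/-- ideals generated by homogeneous elements are stable under scaling -/
theorem scale_mem_span (T : Set (MvPolynomial σ K)) (hT : ∀ f ∈ T, ∃ k : ℕ, f.IsHomogeneous k)
    (t : K) (f : MvPolynomial σ K) (hf : f ∈ Ideal.span T) : scale t f ∈ Ideal.span T := by
  induction hf using Submodule.span_induction with
  | mem g hg =>
    obtain ⟨k, hk⟩ := hT g hg
    rw [scale_of_isHomogeneous t hk, MvPolynomial.smul_eq_C_mul]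
    exact Ideal.mul_mem_left _ _ (Ideal.subset_span hg)
  | zero => rw [map_zero]; exact zero_mem _
  | add x y _ _ hx hy => rw [map_add]; exact add_mem hx hy
  | smul a x _ hx =>
    rw [smul_eq_mul, map_mul]
    exact Ideal.mul_mem_left _ _ hx

theorem map_scaleEquiv_span (T : Set (MvPolynomial σ K))
    (hT : ∀ f ∈ T, ∃ k : ℕ, f.IsHomogeneous k) (t : K) (ht : t ≠ 0) :
    Ideal.span T = (Ideal.span T).map
      ((scaleRingEquiv t ht : MvPolynomial σ K ≃+* MvPolynomial σ K) :
        MvPolynomial σ K →+* MvPolynomial σ K) := by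
  apply le_antisymm
  · intro f hf
    have h1 : scale t⁻¹ f ∈ Ideal.span T := scale_mem_span T hT t⁻¹ f hf
    have h2 := Ideal.mem_map_of_mem
      ((scaleRingEquiv t ht : MvPolynomial σ K ≃+* MvPolynomial σ K) :
        MvPolynomial σ K →+* MvPolynomial σ K) h1
    have h3 : ((scaleRingEquiv t ht : MvPolynomial σ K ≃+* MvPolynomial σ K) :
        MvPolynomial σ K →+* MvPolynomial σ K) (scale t⁻¹ f) = f := by
      change scale t (scale t⁻¹ f) = f
      rw [scale_scale, mul_inv_cancel₀ ht, scale_one]
    rwa [h3] at h2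
  · rw [Ideal.map_le_iff_le_comap]
    intro f hf
    exact scale_mem_span T hT t f hf

end Scale

section CMTransport

/-- Cohen–Macaulayness of localisations is invariant under ring automorphisms -/
theorem cm_of_comap_equiv {T : Type u} [CommRing T] (φ : T ≃+* T) (P : Ideal T) [P.IsPrime]
    [hP' : (P.comap (φ : T →+* T)).IsPrime]
    (h : LocCoh.IsCohenMacaulayLocalRing (Localization.AtPrime (P.comap (φ : T →+* T)))) :
    LocCoh.IsCohenMacaulayLocalRing (Localization.AtPrime P) := by
  have H : Submonoid.map φ.toMonoidHom (P.comap (φ : T →+* T)).primeCompl = P.primeCompl := by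
    ext y
    constructor
    · rintro ⟨x, hx, rfl⟩
      exact hx
    · intro hy
      refine ⟨φ.symm y, ?_, by simp⟩
      change φ.symm y ∉ P.comap (φ : T →+* T)
      rw [Ideal.mem_comap]
      simpa using hy
  let e := IsLocalization.ringEquivOfRingEquiv (Localization.AtPrime (P.comap (φ : T →+* T)))
    (Localization.AtPrime P) φ H
  haveI := h
  exact Groth.Agent.FlatCM.isCMLocalRing_of_ringEquiv e

end CMTransport

section Main

variable (K : Type u) [Field K] [IsAlgClosed K] (N : ℕ)

/-- **S11272**: a cone is Cohen–Macaulay iff it is so at its vertex -/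
theorem cm_iff_at_vertex (I : Ideal (MvPolynomial (Fin N) K))
    (hI : ∃ T : Set (MvPolynomial (Fin N) K), (∀ f ∈ T, ∃ k : ℕ, f.IsHomogeneous k) ∧
      I = Ideal.span T)
    (hI' : I ≠ ⊤)
    [hm : ((RingHom.ker (MvPolynomial.constantCoeff : MvPolynomial (Fin N) K →+* K)).map
      (Ideal.Quotient.mk I)).IsPrime] :
    LocCoh.IsCohenMacaulayRing (MvPolynomial (Fin N) K ⧸ I) ↔
      LocCoh.IsCohenMacaulayLocalRing (Localization.AtPrime
        ((RingHom.ker (MvPolynomial.constantCoeff : MvPolynomial (Fin N) K →+* K)).map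
          (Ideal.Quotient.mk I))) := by
  constructor
  · intro h
    exact h.isCohenMacaulayLocalRing_localization _
  · intro hCMm
    obtain ⟨T, hT, rfl⟩ := hI
    have hopen := Groth.Agent.EquiCat9.isOpen_cmLocus_of_quotient_regular
      (MvPolynomial (Fin N) K) (MvPolynomial (Fin N) K ⧸ Ideal.span T)
      Ideal.Quotient.mk_surjective
    set V : Set (PrimeSpectrum (MvPolynomial (Fin N) K ⧸ Ideal.span T)) :=
      {p | ¬ LocCoh.IsCohenMacaulayLocalRing (Localization.AtPrime p.asIdeal)} with hV
    have hVc : IsClosed V := hopen.isClosed_compl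
    refine { isCohenMacaulayLocalRing_localization := fun p hp => ?_ }
    by_contra hnot
    have hpV : (⟨p, hp⟩ : PrimeSpectrum (MvPolynomial (Fin N) K ⧸ Ideal.span T)) ∈ V := hnot
    have hz : PrimeSpectrum.zeroLocus
        (PrimeSpectrum.vanishingIdeal V : Set (MvPolynomial (Fin N) K ⧸ Ideal.span T)) = V := by
      rw [PrimeSpectrum.zeroLocus_vanishingIdeal_eq_closure, hVc.closure_eq]
    -- the induced automorphisms of the quotient
    have hstab : ∀ t : K, t ≠ 0 → ∀ f : MvPolynomial (Fin N) K,
        Ideal.Quotient.mk (Ideal.span T) f ∈ PrimeSpectrum.vanishingIdeal V →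
        Ideal.Quotient.mk (Ideal.span T) (scale t f) ∈ PrimeSpectrum.vanishingIdeal V := by
      intro t ht f hf
      set φ := Ideal.quotientEquiv (Ideal.span T) (Ideal.span T) (scaleRingEquiv t ht)
        (map_scaleEquiv_span T hT t ht) with hφ
      have hφf : φ (Ideal.Quotient.mk (Ideal.span T) f) =
          Ideal.Quotient.mk (Ideal.span T) (scale t f) := by
        rw [hφ, Ideal.quotientEquiv_mk]
        rfl
      rw [← hφf, PrimeSpectrum.mem_vanishingIdeal]
      intro q hq
      rw [PrimeSpectrum.mem_vanishingIdeal] at hf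
      have hq' : (⟨q.asIdeal.comap (φ : _ →+* _), Ideal.comap_isPrime _ _⟩ :
          PrimeSpectrum (MvPolynomial (Fin N) K ⧸ Ideal.span T)) ∈ V := by
        intro hcm
        exact hq (cm_of_comap_equiv φ q.asIdeal hcm)
      exact hf _ hq'
    -- the pulled back ideal is homogeneous
    set 𝔟 : Ideal (MvPolynomial (Fin N) K) :=
      (PrimeSpectrum.vanishingIdeal V).comap (Ideal.Quotient.mk (Ideal.span T)) with h𝔟
    have h𝔟ne : 𝔟 ≠ ⊤ := by
      intro htop
      have h1 : (1 : MvPolynomial (Fin N) K) ∈ 𝔟 := by rw [htop]; trivial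
      rw [h𝔟, Ideal.mem_comap, map_one, PrimeSpectrum.mem_vanishingIdeal] at h1
      exact hp.ne_top ((Ideal.eq_top_iff_one _).2 (h1 _ hpV))
    have h𝔟le : 𝔟 ≤ RingHom.ker (MvPolynomial.constantCoeff : MvPolynomial (Fin N) K →+* K) := by
      intro f hf
      rw [RingHom.mem_ker]
      have h0 := homogeneousComponent_mem_of_scale_mem 𝔟
        (fun t ht g hg => hstab t ht g hg) f hf 0
      rw [homogeneousComponent_zero] at h0
      by_contra hne
      apply h𝔟ne
      rw [Ideal.eq_top_iff_one]
      have h2 : C (coeff 0 f)⁻¹ * C (coeff 0 f) ∈ 𝔟 := Ideal.mul_mem_left _ _ h0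
      have hne' : coeff 0 f ≠ 0 := hne
      rwa [← map_mul, inv_mul_cancel₀ hne', map_one] at h2
    -- so the vertex lies in `V`
    have hmV : (⟨_, hm⟩ : PrimeSpectrum (MvPolynomial (Fin N) K ⧸ Ideal.span T)) ∈ V := by
      rw [← hz, PrimeSpectrum.mem_zeroLocus]
      intro x hx
      obtain ⟨f, rfl⟩ := Ideal.Quotient.mk_surjective x
      exact Ideal.mem_map_of_mem _ (h𝔟le hx)
    exact hmV hCMm

end Main

end Groth.Agent.Cone9
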