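import Mathlib
import Groth.Agent.Lib.Cone1_helper9
import Groth.Agent.Lib.Liaison4_helper9
import Groth.Agent.Lib.CMEquiv_helper3

/-!
# Cohen–Macaulayness of cones: generic tools for the Schubert induction (helper9)
APPEND-ONLY once landed.
-/

set_option autoImplicit false
set_option maxHeartbeats 400000
universe u

namespace Groth.Agent.CMSch9

open MvPolynomial IsLocalRing Groth.Agent.Cone9
open scoped Pointwise

/-- a Noetherian local ring is Cohen–Macaulay if its quotient by a regular element of the maximal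
ideal is -/
theorem cm_of_quot_regular (A : Type u) [CommRing A] [IsLocalRing A] [IsNoetherianRing A] (x : A)
    (hx : x ∈ maximalIdeal A) (hreg : IsSMulRegular A x)
    [hCM : LocCoh.IsCohenMacaulayLocalRing (A ⧸ Ideal.span {x})] :
    LocCoh.IsCohenMacaulayLocalRing A := by
  have h1 : LocCoh.IsCohenMacaulayModule A (A ⧸ Ideal.span {x}) :=
    Groth.Agent.Link9.isCM_quot_of_ring (Ideal.span {x})
  have hsub : (Ideal.span {x} : Submodule A A) = x • (⊤ : Submodule A A) := by
    rw [← Submodule.ideal_span_singleton_smul, Groth.Agent.DepthLib.ideal_smul_top_self]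
  have e : (A ⧸ Ideal.span {x}) ≃ₗ[A] QuotSMulTop x A := Submodule.quotEquivOfEq _ _ hsub
  have h2 : LocCoh.IsCohenMacaulayModule A (QuotSMulTop x A) :=
    Groth.Agent.DepthLib.isCM_congr _ e h1
  have h3 := Module.supportDim_quotSMulTop_succ_eq_supportDim hreg hx
  have h4 := Groth.Agent.DepthLib.idealDepth_quotSMulTop_add_one (maximalIdeal A) A hx hreg
  refine { supportDim_eq_depth := ?_ }
  unfold LocCoh.IsCohenMacaulayModule LocCoh.depth at h2
  unfold LocCoh.depth
  rw [← h3, ← h4, h2]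
  rfl

theorem cm_atPrime_congr {R : Type u} [CommRing R] (P Q : Ideal R) (hPQ : P = Q) [hP : P.IsPrime]
    [hQ : Q.IsPrime] (h : LocCoh.IsCohenMacaulayLocalRing (Localization.AtPrime P)) :
    LocCoh.IsCohenMacaulayLocalRing (Localization.AtPrime Q) := by
  subst hPQ
  exact h

section Cone

variable (K : Type u) [Field K] [IsAlgClosed K] {σ : Type} [Finite σ]

/-- a cone (over any finite set of variables) is Cohen–Macaulay if it is so at its vertex -/
theorem cm_of_vertex (T : Set (MvPolynomial σ K))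
    (hT : ∀ f ∈ T, ∃ k : ℕ, f.IsHomogeneous k)
    [hm : ((RingHom.ker (MvPolynomial.constantCoeff : MvPolynomial σ K →+* K)).map
      (Ideal.Quotient.mk (Ideal.span T))).IsPrime]
    (hCMm : LocCoh.IsCohenMacaulayLocalRing (Localization.AtPrime
        ((RingHom.ker (MvPolynomial.constantCoeff : MvPolynomial σ K →+* K)).map
          (Ideal.Quotient.mk (Ideal.span T))))) :
    LocCoh.IsCohenMacaulayRing (MvPolynomial σ K ⧸ Ideal.span T) := by
  obtain ⟨g, hg⟩ : ∃ g : MvPolynomial (Fin (Nat.card σ)) K →+* MvPolynomial σ K ⧸ Ideal.span T,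
      Function.Surjective g := by
    refine ⟨(Ideal.Quotient.mk (Ideal.span T)).comp
      (MvPolynomial.rename (Finite.equivFin σ).symm :
        MvPolynomial (Fin (Nat.card σ)) K →ₐ[K] MvPolynomial σ K).toRingHom, ?_⟩
    exact Ideal.Quotient.mk_surjective.comp
      (MvPolynomial.rename_surjective _ (Finite.equivFin σ).symm.surjective)
  letI : Algebra (MvPolynomial (Fin (Nat.card σ)) K) (MvPolynomial σ K ⧸ Ideal.span T) :=
    g.toAlgebra
  have hopen := Groth.Agent.EquiCat9.isOpen_cmLocus_of_quotient_regular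
    (MvPolynomial (Fin (Nat.card σ)) K) (MvPolynomial σ K ⧸ Ideal.span T) hg
  set V : Set (PrimeSpectrum (MvPolynomial σ K ⧸ Ideal.span T)) :=
    {p | ¬ LocCoh.IsCohenMacaulayLocalRing (Localization.AtPrime p.asIdeal)} with hV
  have hVc : IsClosed V := hopen.isClosed_compl
  refine { isCohenMacaulayLocalRing_localization := fun p hp => ?_ }
  by_contra hnot
  have hpV : (⟨p, hp⟩ : PrimeSpectrum (MvPolynomial σ K ⧸ Ideal.span T)) ∈ V := hnot
  have hz : PrimeSpectrum.zeroLocus
      (PrimeSpectrum.vanishingIdeal V : Set (MvPolynomial σ K ⧸ Ideal.span T)) = V := by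
    rw [PrimeSpectrum.zeroLocus_vanishingIdeal_eq_closure, hVc.closure_eq]
  -- the induced automorphisms of the quotient
  have hstab : ∀ t : K, t ≠ 0 → ∀ f : MvPolynomial σ K,
      Ideal.Quotient.mk (Ideal.span T) f ∈ PrimeSpectrum.vanishingIdeal V →
      Ideal.Quotient.mk (Ideal.span T) (scale t f) ∈ PrimeSpectrum.vanishingIdeal V := by
    intro t ht f hf
    set φ := Ideal.quotientEquiv (Ideal.span T) (Ideal.span T) (scaleRingEquiv t ht)
      (map_scaleEquiv_span T hT t ht) with hφ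
    have hφf : φ (Ideal.Quotient.mk (Ideal.span T) f) =
        Ideal.Quotient.mk (Ideal.span T) (scale t f) := by
      rw [hφ, Ideal.quotientEquiv_mk]
      rfl
    rw [← hφf, PrimeSpectrum.mem_vanishingIdeal]
    intro q hq
    rw [PrimeSpectrum.mem_vanishingIdeal] at hf
    have hq' : (⟨q.asIdeal.comap (φ : _ →+* _), Ideal.comap_isPrime _ _⟩ :
        PrimeSpectrum (MvPolynomial σ K ⧸ Ideal.span T)) ∈ V := by
      intro hcm
      exact hq (cm_of_comap_equiv φ q.asIdeal hcm)
    exact hf _ hq'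
  -- the pulled back ideal is homogeneous
  set 𝔟 : Ideal (MvPolynomial σ K) :=
    (PrimeSpectrum.vanishingIdeal V).comap (Ideal.Quotient.mk (Ideal.span T)) with h𝔟
  have h𝔟ne : 𝔟 ≠ ⊤ := by
    intro htop
    have h1 : (1 : MvPolynomial σ K) ∈ 𝔟 := by rw [htop]; trivial
    rw [h𝔟, Ideal.mem_comap, map_one, PrimeSpectrum.mem_vanishingIdeal] at h1
    exact hp.ne_top ((Ideal.eq_top_iff_one _).2 (h1 _ hpV))
  have h𝔟le : 𝔟 ≤ RingHom.ker (MvPolynomial.constantCoeff : MvPolynomial σ K →+* K) := by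
    intro f hf
    rw [RingHom.mem_ker]
    have h0 := homogeneousComponent_mem_of_scale_mem 𝔟
      (fun t ht g hg => hstab t ht g hg) f hf 0
    rw [homogeneousComponent_zero] at h0
    by_contra hne
    apply h𝔟ne
    rw [Ideal.eq_top_iff_one]
    have h2 : C (coeff 0 f)⁻¹ * C (coeff 0 f) ∈ 𝔟 := Ideal.mul_mem_left _ _ h0
    have hne' : coeff 0 f ≠ 0 := hne
    rwa [← map_mul, inv_mul_cancel₀ hne', map_one] at h2
  -- so the vertex lies in `V`
  have hmV : (⟨_, hm⟩ : PrimeSpectrum (MvPolynomial σ K ⧸ Ideal.span T)) ∈ V := by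
    rw [← hz, PrimeSpectrum.mem_zeroLocus]
    intro x hx
    obtain ⟨f, rfl⟩ := Ideal.Quotient.mk_surjective x
    exact Ideal.mem_map_of_mem _ (h𝔟le hx)
  exact hmV hCMm

end Cone

section Graded

attribute [local instance] MvPolynomial.gradedAlgebra

variable (K : Type u) [Field K] (σ : Type)

theorem deg_zero_const' :
    ∀ a ∈ (homogeneousSubmodule σ K) 0, ∃ c : K, algebraMap K (MvPolynomial σ K) c = a := by
  intro a ha
  refine ⟨coeff 0 a, ?_⟩
  rw [MvPolynomial.algebraMap_eq, ← homogeneousComponent_zero,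
    homogeneousComponent_eq_self ((mem_homogeneousSubmodule _ _).1 ha)]

theorem irrelevant_eq_ker :
    (HomogeneousIdeal.irrelevant (homogeneousSubmodule σ K)).toIdeal =
      RingHom.ker (MvPolynomial.constantCoeff : MvPolynomial σ K →+* K) := by
  ext s
  change s ∈ HomogeneousIdeal.irrelevant (homogeneousSubmodule σ K) ↔ _
  rw [HomogeneousIdeal.mem_irrelevant_iff, GradedRing.proj_apply, RingHom.mem_ker]
  have h1 : ((DirectSum.decompose (homogeneousSubmodule σ K) s 0 :
      homogeneousSubmodule σ K 0) : MvPolynomial σ K) =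
      homogeneousComponent 0 s := decomposition.decompose'_apply s 0
  rw [h1, homogeneousComponent_zero, MvPolynomial.constantCoeff_eq]
  constructor
  · intro h
    exact MvPolynomial.C_injective σ K (by rw [h, map_zero])
  · intro h
    rw [h, map_zero]

theorem isHomogeneous_of_scale_mem [Infinite K] (I : Ideal (MvPolynomial σ K))
    (hst : ∀ t : K, t ≠ 0 → ∀ f ∈ I, scale t f ∈ I) :
    I.IsHomogeneous (homogeneousSubmodule σ K) := by
  intro i f hf
  have h1 : ((DirectSum.decompose (homogeneousSubmodule σ K) f i :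
      homogeneousSubmodule σ K i) : MvPolynomial σ K) =
      homogeneousComponent i f := decomposition.decompose'_apply f i
  rw [h1]
  exact homogeneousComponent_mem_of_scale_mem I hst f hf i

end Graded

section Wrappers

attribute [local instance] MvPolynomial.gradedAlgebra

variable (K : Type u) [Field K] [IsAlgClosed K] {σ : Type} [Finite σ]

/-- a cone is Cohen–Macaulay if it is so at its vertex (homogeneous ideal form) -/
theorem cm_of_vertex' (I : Ideal (MvPolynomial σ K))
    (hI : I.IsHomogeneous (homogeneousSubmodule σ K))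
    [hm : ((HomogeneousIdeal.irrelevant (homogeneousSubmodule σ K)).toIdeal.map
      (Ideal.Quotient.mk I)).IsPrime]
    (h : LocCoh.IsCohenMacaulayLocalRing (Localization.AtPrime
      ((HomogeneousIdeal.irrelevant (homogeneousSubmodule σ K)).toIdeal.map
        (Ideal.Quotient.mk I)))) :
    LocCoh.IsCohenMacaulayRing (MvPolynomial σ K ⧸ I) := by
  obtain ⟨S0, hS0⟩ := (Ideal.IsHomogeneous.iff_exists (homogeneousSubmodule σ K) I).1 hI
  subst hS0
  have hT : ∀ f ∈ ((↑) '' S0 : Set (MvPolynomial σ K)), ∃ k : ℕ, f.IsHomogeneous k := by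
    rintro f ⟨⟨g, k, hk⟩, -, rfl⟩
    exact ⟨k, (mem_homogeneousSubmodule _ _).1 hk⟩
  have hirr := irrelevant_eq_ker K σ
  haveI hm' : ((RingHom.ker (MvPolynomial.constantCoeff : MvPolynomial σ K →+* K)).map
      (Ideal.Quotient.mk (Ideal.span ((↑) '' S0 : Set (MvPolynomial σ K))))).IsPrime := by
    rw [← hirr]
    exact hm
  exact cm_of_vertex K _ hT (cm_atPrime_congr _ _ (by rw [hirr]) h)

/-- Mayer–Vietoris for Cohen–Macaulay cones -/
theorem cm_inf (I J : Ideal (MvPolynomial σ K))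
    (hI : I.IsHomogeneous (homogeneousSubmodule σ K))
    (hJ : J.IsHomogeneous (homogeneousSubmodule σ K)) (e : ℕ) (he : 1 ≤ e)
    (hIcm : LocCoh.IsCohenMacaulayRing (MvPolynomial σ K ⧸ I))
    (hJcm : LocCoh.IsCohenMacaulayRing (MvPolynomial σ K ⧸ J))
    (hIJcm : LocCoh.IsCohenMacaulayRing (MvPolynomial σ K ⧸ (I ⊔ J)))
    (hIdim : ringKrullDim (MvPolynomial σ K ⧸ I) = (e : WithBot ℕ∞))
    (hJdim : ringKrullDim (MvPolynomial σ K ⧸ J) = (e : WithBot ℕ∞))
    (hIJdim : ringKrullDim (MvPolynomial σ K ⧸ (I ⊔ J)) = ((e - 1 : ℕ) : WithBot ℕ∞)) :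
    LocCoh.IsCohenMacaulayRing (MvPolynomial σ K ⧸ (I ⊓ J)) ∧
      ringKrullDim (MvPolynomial σ K ⧸ (I ⊓ J)) = (e : WithBot ℕ∞) := by
  have h0 := deg_zero_const' K σ
  have hne : I ⊓ J ≠ ⊤ := by
    intro htop
    have hItop : I = ⊤ := top_le_iff.1 (htop ▸ inf_le_left)
    haveI : Subsingleton (MvPolynomial σ K ⧸ I) := by
      rw [hItop]
      exact Ideal.Quotient.subsingleton_iff.2 rfl
    rw [ringKrullDim_eq_bot_of_subsingleton] at hIdim
    exact WithBot.bot_ne_coe hIdim
  obtain ⟨hmax, hdim⟩ := Groth.Agent.Link9.dim_quot_eq_height_irrelevant h0 (I ⊓ J) (hI.inf hJ) hne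
  haveI hm := hmax.isPrime
  obtain ⟨hcm, hd⟩ := Groth.Agent.Link9.cm_at_irrelevant_of_inf K (MvPolynomial σ K)
    (homogeneousSubmodule σ K) h0 I J hI hJ e he hIcm hJcm hIJcm hIdim hJdim hIJdim
  refine ⟨cm_of_vertex' K (I ⊓ J) (hI.inf hJ) hcm, ?_⟩
  rw [hdim, ← IsLocalization.AtPrime.ringKrullDim_eq_height
    ((HomogeneousIdeal.irrelevant (homogeneousSubmodule σ K)).toIdeal.map
      (Ideal.Quotient.mk (I ⊓ J)))
    (Localization.AtPrime ((HomogeneousIdeal.irrelevant (homogeneousSubmodule σ K)).toIdeal.map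
      (Ideal.Quotient.mk (I ⊓ J)))), hd]

/-- a cone which is a domain is Cohen–Macaulay if a hyperplane section through the vertex is -/
theorem cm_of_hyperplane (P : Ideal (MvPolynomial σ K)) [hP : P.IsPrime]
    (hPh : P.IsHomogeneous (homogeneousSubmodule σ K)) (x : MvPolynomial σ K)
    (hx : x ∈ (HomogeneousIdeal.irrelevant (homogeneousSubmodule σ K)).toIdeal) (hxP : x ∉ P)
    (hcm : LocCoh.IsCohenMacaulayRing (MvPolynomial σ K ⧸ (P ⊔ Ideal.span {x}))) :
    LocCoh.IsCohenMacaulayRing (MvPolynomial σ K ⧸ P) := by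
  have h0 := deg_zero_const' K σ
  obtain ⟨hmax, -⟩ := Groth.Agent.Link9.dim_quot_eq_height_irrelevant h0 P hPh hP.ne_top
  haveI hm := hmax.isPrime
  apply cm_of_vertex' K P hPh
  haveI : IsDomain (MvPolynomial σ K ⧸ P) := Ideal.Quotient.isDomain P
  obtain ⟨xb, hxb⟩ : ∃ xb : MvPolynomial σ K ⧸ P, xb = Ideal.Quotient.mk P x := ⟨_, rfl⟩
  set 𝔪b : Ideal (MvPolynomial σ K ⧸ P) :=
    (HomogeneousIdeal.irrelevant (homogeneousSubmodule σ K)).toIdeal.map
      (Ideal.Quotient.mk P) with h𝔪b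
  haveI hC : LocCoh.IsCohenMacaulayRing ((MvPolynomial σ K ⧸ P) ⧸ Ideal.span {xb}) := by
    have hmap : (Ideal.span {x}).map (Ideal.Quotient.mk P) = Ideal.span {xb} := by
      rw [Ideal.map_span, Set.image_singleton, hxb]
    rw [← hmap]
    exact Groth.Agent.Lib.CMEquivH3.isCohenMacaulayRing_of_ringEquiv
      (DoubleQuot.quotQuotEquivQuotSup P (Ideal.span {x})).symm hcm
  have hxm : Ideal.span {xb} ≤ 𝔪b := by
    rw [Ideal.span_le, Set.singleton_subset_iff, h𝔪b, hxb]
    exact Ideal.mem_map_of_mem _ hx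
  have h1 := Groth.Agent.Liaison9.cm_quot_localization (MvPolynomial σ K ⧸ P) (Ideal.span {xb})
    𝔪b hxm
  rw [Ideal.map_span, Set.image_singleton] at h1
  haveI := h1
  have hle : 𝔪b.primeCompl ≤ nonZeroDivisors (MvPolynomial σ K ⧸ P) :=
    Ideal.primeCompl_le_nonZeroDivisors 𝔪b
  haveI : IsDomain (Localization.AtPrime 𝔪b) :=
    IsLocalization.isDomain_of_le_nonZeroDivisors (Localization.AtPrime 𝔪b) hle
  apply cm_of_quot_regular (Localization.AtPrime 𝔪b)
    (algebraMap (MvPolynomial σ K ⧸ P) (Localization.AtPrime 𝔪b) xb)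
  · rw [IsLocalization.AtPrime.to_map_mem_maximal_iff (Localization.AtPrime 𝔪b) 𝔪b xb, h𝔪b, hxb]
    exact Ideal.mem_map_of_mem _ hx
  · have hxb0 : xb ≠ 0 := by
      rw [hxb, Ne, Ideal.Quotient.eq_zero_iff_mem]
      exact hxP
    have hinj : Function.Injective
        (algebraMap (MvPolynomial σ K ⧸ P) (Localization.AtPrime 𝔪b)) :=
      IsLocalization.injective (Localization.AtPrime 𝔪b) hle
    have hne0 : algebraMap (MvPolynomial σ K ⧸ P) (Localization.AtPrime 𝔪b) xb ≠ 0 :=
      (map_ne_zero_iff _ hinj).2 hxb0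
    exact (isRegular_of_ne_zero hne0).left.isSMulRegular

end Wrappers

end Groth.Agent.CMSch9
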