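import Mathlib
import Groth.Agent.Lib.CMSch1_helper9
import Groth.Agent.Lib.DimFT_helper8

/-!
# Commutative algebra for determinantal rings: quotients by a nonzero element, retracts (helper9)
APPEND-ONLY once landed.
-/

set_option autoImplicit false
set_option maxHeartbeats 400000
universe u

namespace Groth.Agent.DetRing9

open IsLocalRing Groth.Agent.CMSch9
open scoped Pointwise

/-- a Cohen–Macaulay local ring modulo a regular element of the maximal ideal is Cohen–Macaulay -/
theorem cmLocal_quot_regular (A : Type u) [CommRing A] [hA : LocCoh.IsCohenMacaulayLocalRing A]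
    (x : A) (hx : x ∈ maximalIdeal A) (hreg : IsSMulRegular A x) :
    LocCoh.IsCohenMacaulayLocalRing (A ⧸ Ideal.span {x}) := by
  haveI : IsNoetherianRing A := inferInstance
  haveI : IsLocalRing A := inferInstance
  have hM : LocCoh.IsCohenMacaulayModule A A := hA.supportDim_eq_depth
  have h1 := Groth.Agent.DepthLib.isCM_quotSMulTop A hM x hx hreg
  have hsub : (Ideal.span {x} : Submodule A A) = x • (⊤ : Submodule A A) := by
    rw [← Submodule.ideal_span_singleton_smul, Groth.Agent.DepthLib.ideal_smul_top_self]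
  have e : QuotSMulTop x A ≃ₗ[A] (A ⧸ Ideal.span {x}) := Submodule.quotEquivOfEq _ _ hsub.symm
  have h2 : LocCoh.IsCohenMacaulayModule A (A ⧸ Ideal.span {x}) :=
    Groth.Agent.DepthLib.isCM_congr _ e h1
  have hle : Ideal.span {x} ≤ maximalIdeal A := by
    rw [Ideal.span_le, Set.singleton_subset_iff]
    exact hx
  haveI : IsLocalRing (A ⧸ Ideal.span {x}) := Groth.Agent.FibDim.isLocalRing_quot hle
  haveI : IsLocalHom (algebraMap A (A ⧸ Ideal.span {x})) :=
    IsLocalHom.of_surjective _ Ideal.Quotient.mk_surjective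
  refine { supportDim_eq_depth := ?_ }
  unfold LocCoh.IsCohenMacaulayModule at h2
  rw [Module.supportDim_self_eq_ringKrullDim, ← Module.supportDim_quotient_eq_ringKrullDim,
    ← Groth.Agent.DepthLib.depth_eq_of_isLocalHom A (A ⧸ Ideal.span {x}) (A ⧸ Ideal.span {x})]
  exact h2

/-- a Cohen–Macaulay domain modulo a nonzero element is a Cohen–Macaulay ring -/
theorem cmRing_quot_of_ne_zero (R : Type u) [CommRing R] [IsDomain R]
    [hR : LocCoh.IsCohenMacaulayRing R] (a : R) (ha : a ≠ 0) :
    LocCoh.IsCohenMacaulayRing (R ⧸ Ideal.span {a}) := by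
  haveI : IsNoetherianRing R := inferInstance
  refine { isCohenMacaulayLocalRing_localization := fun q hq => ?_ }
  obtain ⟨P, hP⟩ : ∃ P : Ideal R, P = q.comap (Ideal.Quotient.mk (Ideal.span {a})) := ⟨_, rfl⟩
  haveI hPprime : P.IsPrime := by
    rw [hP]
    exact Ideal.comap_isPrime _ _
  have haP : Ideal.span {a} ≤ P := by
    have h0 : (Ideal.Quotient.mk (Ideal.span {a})) a = 0 :=
      Ideal.Quotient.eq_zero_iff_mem.2 (Ideal.subset_span (Set.mem_singleton a))
    rw [Ideal.span_le, Set.singleton_subset_iff, hP, SetLike.mem_coe, Ideal.mem_comap, h0]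
    exact q.zero_mem
  have hmap : P.map (Ideal.Quotient.mk (Ideal.span {a})) = q := by
    rw [hP]
    exact Ideal.map_comap_of_surjective _ Ideal.Quotient.mk_surjective q
  haveI hPb : (P.map (Ideal.Quotient.mk (Ideal.span {a}))).IsPrime := by
    rw [hmap]
    exact hq
  obtain ⟨e⟩ := Groth.Agent.Link9.nonempty_quot_localization_equiv R (Ideal.span {a}) P haP
  haveI hloc : LocCoh.IsCohenMacaulayLocalRing (Localization.AtPrime P) :=
    hR.isCohenMacaulayLocalRing_localization P
  have hle : P.primeCompl ≤ nonZeroDivisors R := Ideal.primeCompl_le_nonZeroDivisors P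
  haveI : IsDomain (Localization.AtPrime P) :=
    IsLocalization.isDomain_of_le_nonZeroDivisors (Localization.AtPrime P) hle
  have h1 : LocCoh.IsCohenMacaulayLocalRing
      (Localization.AtPrime P ⧸ Ideal.span {algebraMap R (Localization.AtPrime P) a}) := by
    apply cmLocal_quot_regular
    · rw [IsLocalization.AtPrime.to_map_mem_maximal_iff (Localization.AtPrime P) P a]
      exact haP (Ideal.subset_span rfl)
    · have hinj : Function.Injective (algebraMap R (Localization.AtPrime P)) :=
        IsLocalization.injective (Localization.AtPrime P) hle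
      have hne0 : algebraMap R (Localization.AtPrime P) a ≠ 0 := (map_ne_zero_iff _ hinj).2 ha
      exact (IsRegular.of_ne_zero hne0).left.isSMulRegular
  rw [Ideal.map_span, Set.image_singleton] at e
  have h2 := Groth.Agent.Lib.CMEquivH3.isCohenMacaulayLocalRing_of_ringEquiv e h1
  exact cm_atPrime_congr _ _ hmap h2

lemma withBot_add_one_cancel (x : WithBot ℕ∞) (n : ℕ)
    (h : x + 1 = ((n + 1 : ℕ) : WithBot ℕ∞)) : x = (n : WithBot ℕ∞) := by
  induction x using WithBot.recBotCoe with
  | bot =>
    exfalso
    rw [WithBot.bot_add] at h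
    exact WithBot.bot_ne_coe h
  | coe y =>
    induction y using ENat.recTopCoe with
    | top =>
      exfalso
      have h' : ((⊤ : ℕ∞) : WithBot ℕ∞) + 1 = (((n + 1 : ℕ) : ℕ∞) : WithBot ℕ∞) := h
      rw [← WithBot.coe_one, ← WithBot.coe_add, WithBot.coe_inj, top_add] at h'
      exact ENat.top_ne_natCast _ h'
    | coe m =>
      have h' : (((m : ℕ∞) : WithBot ℕ∞)) + 1 = (((n + 1 : ℕ) : ℕ∞) : WithBot ℕ∞) := h
      rw [← WithBot.coe_one, ← WithBot.coe_add, WithBot.coe_inj] at h'
      have h2 : m + 1 = n + 1 := by exact_mod_cast h'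
      have h3 : m = n := by omega
      rw [h3]
      rfl

lemma withBot_add_one_le (x : WithBot ℕ∞) (n : ℕ)
    (h : x + 1 ≤ ((n + 1 : ℕ) : WithBot ℕ∞)) : x ≤ (n : WithBot ℕ∞) := by
  induction x using WithBot.recBotCoe with
  | bot => exact bot_le
  | coe y =>
    induction y using ENat.recTopCoe with
    | top =>
      exfalso
      have h' : ((⊤ : ℕ∞) : WithBot ℕ∞) + 1 ≤ (((n + 1 : ℕ) : ℕ∞) : WithBot ℕ∞) := h
      rw [← WithBot.coe_one, ← WithBot.coe_add, WithBot.coe_le_coe, top_add, top_le_iff] at h'
      exact ENat.natCast_ne_top _ h'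
    | coe m =>
      have h' : (((m : ℕ∞) : WithBot ℕ∞)) + 1 ≤ (((n + 1 : ℕ) : ℕ∞) : WithBot ℕ∞) := h
      rw [← WithBot.coe_one, ← WithBot.coe_add, WithBot.coe_le_coe] at h'
      have h2 : m + 1 ≤ n + 1 := by exact_mod_cast h'
      have h3 : m ≤ n := by omega
      exact_mod_cast h3

/-- the dimension of a finitely generated domain over a field drops by one modulo a nonzero nonunit -/
theorem dim_quot_of_ne_zero (k R : Type u) [Field k] [CommRing R] [IsDomain R] [Algebra k R]
    [Algebra.FiniteType k R] (a : R) (ha : a ≠ 0) (hau : ¬ IsUnit a) (n : ℕ)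
    (hn : ringKrullDim R = ((n + 1 : ℕ) : WithBot ℕ∞)) :
    ringKrullDim (R ⧸ Ideal.span {a}) = (n : WithBot ℕ∞) := by
  haveI : IsNoetherianRing R := Algebra.FiniteType.isNoetherianRing k R
  apply le_antisymm
  · have h1 := ringKrullDim_quotient_succ_le_of_nonZeroDivisor (mem_nonZeroDivisors_of_ne_zero ha)
    rw [hn] at h1
    exact withBot_add_one_le _ n h1
  · have hne : Ideal.span {a} ≠ ⊤ := by
      rw [Ne, Ideal.span_singleton_eq_top]
      exact hau
    obtain ⟨m, hm, ham⟩ := Ideal.exists_le_maximal _ hne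
    haveI := hm
    obtain ⟨n', -, -, hdim, hht⟩ := Groth.Agent.DimFTH8.exists_dim_eq k R
    have hn' : n' = n + 1 := by
      rw [hn] at hdim
      exact_mod_cast hdim.symm
    have hmh : m.height = ((n + 1 : ℕ) : ℕ∞) := by
      rw [hht m, hn']
    have hle : m.primeCompl ≤ nonZeroDivisors R := Ideal.primeCompl_le_nonZeroDivisors m
    haveI : IsDomain (Localization.AtPrime m) :=
      IsLocalization.isDomain_of_le_nonZeroDivisors (Localization.AtPrime m) hle
    have hinj : Function.Injective (algebraMap R (Localization.AtPrime m)) :=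
      IsLocalization.injective (Localization.AtPrime m) hle
    have hne0 : algebraMap R (Localization.AtPrime m) a ≠ 0 := (map_ne_zero_iff _ hinj).2 ha
    have hmem : algebraMap R (Localization.AtPrime m) a ∈ maximalIdeal (Localization.AtPrime m) := by
      rw [IsLocalization.AtPrime.to_map_mem_maximal_iff (Localization.AtPrime m) m a]
      exact ham (Ideal.subset_span rfl)
    have h1 := ringKrullDim_quotient_span_singleton_succ_eq_ringKrullDim
      (IsRegular.of_ne_zero hne0).left.isSMulRegular hmem
    rw [IsLocalization.AtPrime.ringKrullDim_eq_height m (Localization.AtPrime m), hmh] at h1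
    have h2 := withBot_add_one_cancel _ n h1
    haveI hmb : (m.map (Ideal.Quotient.mk (Ideal.span {a}))).IsMaximal :=
      Ideal.IsMaximal.map_of_surjective_of_ker_le Ideal.Quotient.mk_surjective
        (by rw [Ideal.mk_ker]; exact ham)
    haveI := hmb.isPrime
    have h3 := Groth.Agent.Link9.ringKrullDim_quot_localization R (Ideal.span {a}) m ham
    rw [Ideal.map_span, Set.image_singleton, h2] at h3
    rw [h3]
    exact Ideal.height_le_ringKrullDim_of_ne_top hmb.ne_top

/-- a retract of an integrally closed domain is integrally closed -/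
theorem isIntegrallyClosed_of_retract (A B : Type*) [CommRing A] [CommRing B] [IsDomain A]
    [IsDomain B] [IsIntegrallyClosed B] (ι : A →+* B) (ρ : B →+* A) (h : ∀ a, ρ (ι a) = a) :
    IsIntegrallyClosed A := by
  have hinj : Function.Injective ι := Function.LeftInverse.injective h
  rw [isIntegrallyClosed_iff (FractionRing A)]
  intro x hx
  have hg : Function.Injective ((algebraMap B (FractionRing B)).comp ι) :=
    (IsFractionRing.injective B (FractionRing B)).comp hinj
  obtain ⟨φ, hφ⟩ : ∃ φ : FractionRing A →+* FractionRing B,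
      ∀ a, φ (algebraMap A (FractionRing A) a) = algebraMap B (FractionRing B) (ι a) :=
    ⟨IsFractionRing.lift hg, fun a => IsFractionRing.lift_algebraMap hg a⟩
  obtain ⟨p, hmonic, hp⟩ := hx
  have hcomp : φ.comp (algebraMap A (FractionRing A)) = (algebraMap B (FractionRing B)).comp ι :=
    RingHom.ext hφ
  have hint : IsIntegral B (φ x) := by
    refine ⟨p.map ι, hmonic.map ι, ?_⟩
    rw [Polynomial.eval₂_map, ← hcomp, ← Polynomial.hom_eval₂, hp, map_zero]
  obtain ⟨b, hb⟩ := (isIntegrallyClosed_iff (FractionRing B)).1 inferInstance hint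
  obtain ⟨p', q', hq', rfl⟩ := IsFractionRing.div_surjective (A := A) x
  have hq0 : q' ≠ 0 := nonZeroDivisors.ne_zero hq'
  have hq1 : algebraMap A (FractionRing A) q' ≠ 0 :=
    (map_ne_zero_iff _ (IsFractionRing.injective A (FractionRing A))).2 hq0
  have hq2 : algebraMap B (FractionRing B) (ι q') ≠ 0 :=
    (map_ne_zero_iff _ hg).2 hq0
  rw [map_div₀, hφ, hφ, eq_div_iff hq2, ← map_mul] at hb
  have hb' : b * ι q' = ι p' := IsFractionRing.injective B (FractionRing B) hb
  have h4 : ρ b * q' = p' := by
    have := congrArg ρ hb'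
    rwa [map_mul, h, h] at this
  refine ⟨ρ b, ?_⟩
  rw [eq_div_iff hq1, ← map_mul, h4]

end Groth.Agent.DetRing9
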