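import Mathlib
import Groth.Prelude.Def_RegImm
import Groth.Prelude.Def_LCI2
import Groth.Agent.Lib.SyntTA2_helper2
import Groth.Agent.Lib.FibKoszul8_helper2
import Groth.Agent.Lib.LCIPerf_helper2

/-!
# Syntomic = flat + lci (helper2)
APPEND-ONLY once landed.
-/

set_option autoImplicit false
universe u

namespace Groth.Agent.Lib.SyntTA

open CategoryTheory CategoryTheory.Limits TensorProduct
open Groth.Agent.Lib.KRegIdeal Groth.Agent.Lib.LCILocal Groth.Agent.Lib.LCIComp
open Groth.Agent.Lib.FibKoszul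

lemma lciAt_of_isLCIHom {B C : Type u} [CommRing B] [CommRing C] (φ : B →+* C)
    (h : IsLCIHom φ) (q : Ideal C) [hq : q.IsPrime] : LciAt φ q := by
  refine ⟨1, fun h1 => hq.ne_top ((Ideal.eq_top_iff_one _).mpr h1), C, inferInstance,
    RingHom.id C, ?_, ?_⟩
  · have : (RingHom.id C).toAlgebra = Algebra.id C := Algebra.algebra_ext _ _ (fun _ => rfl)
    rw [this]
    exact IsLocalization.away_of_isUnit_of_bijective C isUnit_one Function.bijective_id
  · rw [RingHom.id_comp]
    exact h

lemma isLCIHom_of_forall_lciAt {B C : Type u} [CommRing B] [CommRing C] (φ : B →+* C)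
    (h : ∀ (q : Ideal C) [q.IsPrime], LciAt φ q) : IsLCIHom φ := by
  refine isLCIHom_of_cover φ {c : C | ∃ (T : Type u) (_ : CommRing T) (ρ : C →+* T),
    @IsLocalization.Away C _ c T _ ρ.toAlgebra ∧ IsLCIHom (ρ.comp φ)} ?_ (fun a ha => ha)
  by_contra hne
  obtain ⟨m, hm, hle⟩ := Ideal.exists_le_maximal _ hne
  haveI := hm.isPrime
  obtain ⟨c, hc, hT⟩ := h m
  exact hc (hle (Ideal.subset_span hT))

lemma isLCIHom_algebraMap_iff {A B : Type u} [CommRing A] [CommRing B] [Algebra A B] :
    IsLCIHom (algebraMap A B) ↔ LCI.IsLCI A B := by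
  have halg : (algebraMap A B).toAlgebra = (inferInstance : Algebra A B) :=
    Algebra.algebra_ext _ _ (fun _ => rfl)
  unfold IsLCIHom
  rw [halg]

section main

variable (R S : Type u) [CommRing R] [CommRing S] [Algebra R S]

lemma isPushout_fibre (p : Ideal R) [p.IsPrime] :
    IsPushout (CommRingCat.ofHom (algebraMap R S)) (CommRingCat.ofHom (algebraMap R p.ResidueField))
      (CommRingCat.ofHom (S := p.Fiber S)
        (Algebra.TensorProduct.includeRight : S →ₐ[R] p.ResidueField ⊗[R] S).toRingHom)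
      (CommRingCat.ofHom (S := p.Fiber S)
        (Algebra.TensorProduct.includeLeftRingHom : p.ResidueField →+* p.ResidueField ⊗[R] S)) :=
  (CommRingCat.isPushout_tensorProduct R p.ResidueField S).flip

lemma isPushout_id (p : Ideal R) [p.IsPrime] :
    IsPushout (CommRingCat.ofHom (RingHom.id R)) (CommRingCat.ofHom (algebraMap R p.ResidueField))
      (CommRingCat.ofHom (algebraMap R p.ResidueField))
      (CommRingCat.ofHom (RingHom.id p.ResidueField)) :=
  IsPushout.of_id_fst

lemma includeLeft_toAlgebra (p : Ideal R) [p.IsPrime] :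
    (Algebra.TensorProduct.includeLeftRingHom :
      p.ResidueField →+* p.ResidueField ⊗[R] S).toAlgebra =
      (inferInstance : Algebra p.ResidueField (p.Fiber S)) :=
  Algebra.algebra_ext _ _ (fun _ => rfl)

/-- **syntomic ⟹ lci** -/
theorem isLCI_of_isSyntomic (h : Synt.IsSyntomic R S) : LCI.IsLCI R S := by
  obtain ⟨hflat, hfp, hfib⟩ := h
  rw [← isLCIHom_algebraMap_iff]
  apply isLCIHom_of_forall_lciAt
  intro q' hq'
  set p : PrimeSpectrum R := PrimeSpectrum.comap (algebraMap R S) ⟨q', hq'⟩ with hp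
  have hmem : (⟨q', hq'⟩ : PrimeSpectrum S) ∈ PrimeSpectrum.comap (algebraMap R S) ⁻¹' {p} := rfl
  set qK := PrimeSpectrum.preimageEquivFiber R S p ⟨⟨q', hq'⟩, hmem⟩ with hqK
  have hqKc : qK.asIdeal.comap
      (Algebra.TensorProduct.includeRight : S →ₐ[R] p.asIdeal.ResidueField ⊗[R] S).toRingHom = q' := by
    have := (PrimeSpectrum.preimageEquivFiber R S p).left_inv ⟨⟨q', hq'⟩, hmem⟩
    exact congrArg (fun t => t.1.asIdeal) this
  have hLF : LCI.IsLCI p.asIdeal.ResidueField (p.asIdeal.Fiber S) :=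
    isLCI_of_isLCIOver _ _ (hfib p)
  have hLK : IsLCIHom (Algebra.TensorProduct.includeLeftRingHom :
      p.asIdeal.ResidueField →+* p.asIdeal.ResidueField ⊗[R] S) := by
    unfold IsLCIHom
    rw [includeLeft_toAlgebra]
    exact hLF
  have key := lciAt_of_fibre_hom (Field.toIsField p.asIdeal.ResidueField) (RingHom.id R)
    (algebraMap R S) (algebraMap R p.asIdeal.ResidueField) (algebraMap R p.asIdeal.ResidueField)
    (RingHom.id p.asIdeal.ResidueField)
    (Algebra.TensorProduct.includeRight : S →ₐ[R] p.asIdeal.ResidueField ⊗[R] S).toRingHom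
    (Algebra.TensorProduct.includeLeftRingHom :
      p.asIdeal.ResidueField →+* p.asIdeal.ResidueField ⊗[R] S)
    (isPushout_id R p.asIdeal) (isPushout_fibre R S p.asIdeal) (RingHom.Flat.id R)
    (RingHom.FinitePresentation.id R)
    (by rw [RingHom.comp_id]; exact RingHom.flat_algebraMap_iff.mpr hflat)
    (by rw [RingHom.comp_id]; exact RingHom.finitePresentation_algebraMap.mpr hfp)
    qK.asIdeal (lciAt_of_isLCIHom _ hLK qK.asIdeal)
  rw [hqKc] at key
  exact key

/-- **flat + lci ⟹ syntomic** -/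
theorem isSyntomic_of_flat_of_isLCI (hflat : Module.Flat R S) (hl : LCI.IsLCI R S) :
    Synt.IsSyntomic R S := by
  refine ⟨hflat, Groth.Agent.Lib.LCIPerf.finitePresentation_of_isLCI R S hl, fun p => ?_⟩
  apply isLCIOver_of_isLCI
  have key := isLCIHom_baseChange_rel (RingHom.id R) (algebraMap R S)
    (algebraMap R p.asIdeal.ResidueField) (algebraMap R p.asIdeal.ResidueField)
    (RingHom.id p.asIdeal.ResidueField)
    (Algebra.TensorProduct.includeRight : S →ₐ[R] p.asIdeal.ResidueField ⊗[R] S).toRingHom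
    (Algebra.TensorProduct.includeLeftRingHom :
      p.asIdeal.ResidueField →+* p.asIdeal.ResidueField ⊗[R] S)
    (isPushout_id R p.asIdeal) (isPushout_fibre R S p.asIdeal) (RingHom.Flat.id R)
    (by rw [RingHom.comp_id]; exact RingHom.flat_algebraMap_iff.mpr hflat)
    (isLCIHom_algebraMap_iff.mpr hl)
  unfold IsLCIHom at key
  rw [includeLeft_toAlgebra] at key
  exact key

theorem main9287 : Synt.IsSyntomic R S ↔ Module.Flat R S ∧ LCI.IsLCI R S :=
  ⟨fun h => ⟨h.1, isLCI_of_isSyntomic R S h⟩, fun h => isSyntomic_of_flat_of_isLCI R S h.1 h.2⟩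

end main

end Groth.Agent.Lib.SyntTA
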