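import Mathlib
import Groth.Prelude.Def_RegImm
import Groth.Agent.Lib.SyntTA3_helper2

/-!
# Syntomic algebras over a Noetherian ring are locally `A[T]/(regular sequence)` (helper2)
APPEND-ONLY once landed.
-/

set_option autoImplicit false
universe u

namespace Groth.Agent.Lib.SyntNoeth

open RingTheory.Sequence IsLocalRing Polynomial
open Groth.Agent.Lib.KRegIdeal Groth.Agent.Lib.LCILocal Groth.Agent.Lib.LCIComp
open Groth.Agent.Lib.SyntTA
open scoped Pointwise

section ring

variable {P : Type u} [CommRing P] (G : P)

/-- `P[X]/(GX-1) ≃ P_G`, additively, compatible with multiplication through `evInv`. -/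
noncomputable def quotEquivAway :
    QuotSMulTop (C G * X - 1 : P[X]) P[X] ≃+ Localization.Away G := by
  letI : Algebra P[X] (Localization.Away G) := (evInv G).toAlgebra
  let ℓ : P[X] →ₗ[P[X]] Localization.Away G := Algebra.linearMap P[X] (Localization.Away G)
  have hℓ : Function.Surjective ℓ := evInv_surjective G
  have hker : ((C G * X - 1 : P[X]) • (⊤ : Submodule P[X] P[X])) = LinearMap.ker ℓ := by
    have h1 : LinearMap.ker ℓ = RingHom.ker (evInv G) := by
      ext x
      rw [LinearMap.mem_ker, RingHom.mem_ker]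
      rfl
    rw [h1, ker_evInv, ← Submodule.ideal_span_singleton_smul, smul_eq_mul, Ideal.mul_top]
  exact ((Submodule.quotEquivOfEq _ _ hker).trans (ℓ.quotKerEquivOfSurjective hℓ)).toAddEquiv

lemma quotEquivAway_mk (x : P[X]) :
    quotEquivAway G (Submodule.Quotient.mk x) = evInv G x := by
  unfold quotEquivAway
  rfl

lemma quotEquivAway_smul (r : P[X]) (x : QuotSMulTop (C G * X - 1 : P[X]) P[X]) :
    quotEquivAway G (r • x) = evInv G r * quotEquivAway G x := by
  obtain ⟨y, rfl⟩ := Submodule.Quotient.mk_surjective _ x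
  rw [← Submodule.Quotient.mk_smul, quotEquivAway_mk, quotEquivAway_mk, smul_eq_mul, map_mul]

theorem isRegular_cons_CX (as : List P)
    (hreg : IsRegular (Localization.Away G) (as.map (algebraMap P (Localization.Away G)))) :
    IsRegular P[X] ((C G * X - 1 : P[X]) :: as.map C) := by
  rw [isRegular_cons_iff]
  refine ⟨isSMulRegular_CX_sub_one G, ?_⟩
  refine (AddEquiv.isRegular_congr (e := quotEquivAway G) ?_).mpr hreg
  rw [List.forall₂_map_left_iff, List.forall₂_map_right_iff, List.forall₂_same]
  intro a _ x
  rw [quotEquivAway_smul, evInv_C, smul_eq_mul]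

end ring

section transport

variable {R R' : Type u} [CommRing R] [CommRing R']

theorem isRegular_map_ringEquiv (e : R ≃+* R') (l : List R) (h : IsRegular R l) :
    IsRegular R' (l.map e) := by
  refine (AddEquiv.isRegular_congr (e := e.toAddEquiv) ?_).mp h
  rw [List.forall₂_map_right_iff, List.forall₂_same]
  intro a _ x
  simp

theorem mem_ofList_map_ringEquiv (e : R ≃+* R') (l : List R) (y : R') :
    y ∈ Ideal.ofList (l.map e) ↔ e.symm y ∈ Ideal.ofList l := by
  have h : Ideal.ofList (l.map e) = Ideal.map (e : R →+* R') (Ideal.ofList l) :=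
    (Ideal.map_ofList (e : R →+* R') l).symm
  rw [h]
  constructor
  · intro hy
    have := Ideal.mem_map_of_mem (e.symm : R' →+* R) hy
    rw [Ideal.map_map] at this
    simpa using this
  · intro hy
    have := Ideal.mem_map_of_mem (e : R →+* R') hy
    simpa using this

end transport

section pres

variable {R S : Type u} [CommRing R] [CommRing S] [Algebra R S]

/-- the presentation of `S_{π G}` in one more variable. -/
theorem exists_presentation_away (n : ℕ)
    (π : MvPolynomial (Fin n) R →ₐ[R] S) (hπ : Function.Surjective π)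
    (G : MvPolynomial (Fin n) R) (as : List (MvPolynomial (Fin n) R))
    (heq : Ideal.ofList (as.map (algebraMap (MvPolynomial (Fin n) R) (Localization.Away G))) =
      (RingHom.ker π.toRingHom).map (algebraMap (MvPolynomial (Fin n) R) (Localization.Away G))) :
    ∃ φ : MvPolynomial (Fin (n + 1)) R →ₐ[R] Localization.Away (π G), Function.Surjective φ ∧
      ∀ x, φ x = 0 ↔ MvPolynomial.finSuccEquiv R n x ∈ Ideal.ofList
        ((C G * X - 1 : (MvPolynomial (Fin n) R)[X]) :: as.map C) := by
  classical
  have hker : RingHom.ker (awayLift π.toRingHom G) =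
      Ideal.ofList (as.map (algebraMap (MvPolynomial (Fin n) R) (Localization.Away G))) := by
    rw [ker_awayLift, heq]
  let E := MvPolynomial.finSuccEquiv R n
  let γ : (MvPolynomial (Fin n) R)[X] →+* Localization.Away (π G) :=
    (awayLift π.toRingHom G).comp (evInv G)
  have hγsurj : Function.Surjective γ :=
    (awayLift_surjective π.toRingHom hπ G).comp (evInv_surjective G)
  let φ : MvPolynomial (Fin (n + 1)) R →ₐ[R] Localization.Away (π G) :=
    { γ.comp (E : MvPolynomial (Fin (n + 1)) R →+* (MvPolynomial (Fin n) R)[X]) with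
      commutes' := fun a => by
        show γ (E (algebraMap R _ a)) = algebraMap R _ a
        rw [E.commutes]
        show awayLift π.toRingHom G (evInv G (algebraMap R (MvPolynomial (Fin n) R)[X] a)) = _
        rw [Polynomial.algebraMap_apply, evInv_C, awayLift_algebraMap]
        show algebraMap S _ (π (algebraMap R _ a)) = _
        rw [π.commutes, ← IsScalarTower.algebraMap_apply]
        rfl }
  have hφ : ∀ x, φ x = γ (E x) := fun _ => rfl
  have hφsurj : Function.Surjective φ := by
    intro z
    obtain ⟨w, hw⟩ := hγsurj z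
    exact ⟨E.symm w, by rw [hφ, E.apply_symm_apply, hw]⟩
  have h1 : RingHom.ker γ = Ideal.ofList ((C G * X - 1 : (MvPolynomial (Fin n) R)[X]) :: as.map C) := by
    have hmap : as.map (algebraMap (MvPolynomial (Fin n) R) (Localization.Away G)) =
        (as.map C).map (evInv G) := by
      rw [List.map_map]
      apply List.map_congr_left
      intro a _
      exact (evInv_C G a).symm
    rw [show RingHom.ker γ = (RingHom.ker (awayLift π.toRingHom G)).comap (evInv G) from
      (RingHom.comap_ker _ _).symm, hker, hmap, ← Ideal.map_ofList,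
      Ideal.comap_map_of_surjective _ (evInv_surjective G), ← RingHom.ker_eq_comap_bot,
      ker_evInv, Ideal.ofList_cons, sup_comm]
  refine ⟨φ, hφsurj, fun x => ?_⟩
  rw [hφ, ← RingHom.mem_ker, h1]

end pres

section main

theorem main18938
    (A : Type u) [CommRing A] [IsNoetherianRing A] (B : Type u) [CommRing B] [Algebra A B]
    (h : Synt.IsSyntomic A B) (q : PrimeSpectrum B) :
    ∃ g : B, g ∉ q.asIdeal ∧
      ∃ (n d : ℕ) (P : Fin d → MvPolynomial (Fin n) A),
        RingTheory.Sequence.IsRegular (MvPolynomial (Fin n) A) (List.ofFn P) ∧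
        Nonempty (Localization.Away g ≃ₐ[A] (MvPolynomial (Fin n) A ⧸ Ideal.ofList (List.ofFn P))) := by
  obtain ⟨hft, n, π, hπ, hKR⟩ := isLCI_of_isSyntomic A B h
  rw [kr_iff] at hKR
  haveI : (q.asIdeal.comap π.toRingHom).IsPrime := Ideal.comap_isPrime _ _
  have hle : RingHom.ker π.toRingHom ≤ q.asIdeal.comap π.toRingHom := by
    intro x hx
    rw [Ideal.mem_comap, RingHom.mem_ker.mp hx]
    exact q.asIdeal.zero_mem
  obtain ⟨g', hg', hg'I⟩ := koszul_local_of_krAt _ _ (hKR _ inferInstance hle)
  obtain ⟨G, hG, as, -, hreg, heq⟩ :=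
    exists_away_regular_of_koszul_local _ _ hle g' hg' hg'I
  obtain ⟨φ, hφ, hker⟩ := exists_presentation_away n π hπ G as heq
  set eE : (MvPolynomial (Fin n) A)[X] ≃+* MvPolynomial (Fin (n + 1)) A :=
    (MvPolynomial.finSuccEquiv A n).symm.toRingEquiv with heE
  set L' : List (MvPolynomial (Fin (n + 1)) A) :=
    (((C G * X - 1 : (MvPolynomial (Fin n) A)[X]) :: as.map C).map eE) with hL'
  have hregL' : IsRegular (MvPolynomial (Fin (n + 1)) A) L' :=
    isRegular_map_ringEquiv _ _ (isRegular_cons_CX G as hreg)
  have hker' : Ideal.ofList L' = RingHom.ker φ := by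
    ext x
    rw [RingHom.mem_ker, hker, hL', mem_ofList_map_ringEquiv]
    rfl
  refine ⟨π G, hG, n + 1, L'.length, L'.get, ?_, ?_⟩
  · rw [List.ofFn_get]
    exact hregL'
  · rw [List.ofFn_get]
    exact ⟨((Ideal.quotientEquivAlgOfEq A hker').trans
      (Ideal.quotientKerAlgEquivOfSurjective hφ)).symm⟩

end main

end Groth.Agent.Lib.SyntNoeth
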