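import Mathlib
import Groth.Prelude.Def_RegImm
import Groth.Prelude.Def_CAlg
import Groth.Agent.Lib.SyntNoeth1_helper2
import Groth.Agent.Lib.Link2_helper9
import Groth.Agent.Lib.DetRing2_helper9
import Groth.Agent.Lib.FibKoszul4_helper2

/-!
# Complete intersections over a field are Cohen–Macaulay; localisation (helper2)
APPEND-ONLY once landed.
-/

set_option autoImplicit false
universe u

namespace Groth.Agent.Lib.SyntCM

open RingTheory.Sequence IsLocalRing Polynomial
open Groth.Agent.Lib.KRegIdeal Groth.Agent.Lib.LCILocal Groth.Agent.Lib.LCIComp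
open Groth.Agent.Lib.SyntTA Groth.Agent.Lib.SyntNoeth Groth.Agent.Lib.FibKoszul

section cm

/-- a Cohen–Macaulay local ring modulo a regular sequence in the maximal ideal is
Cohen–Macaulay. -/
theorem cmLocal_quot_list (A : Type u) [CommRing A] [hA : LocCoh.IsCohenMacaulayLocalRing A]
    (xs : List A) (hx : ∀ x ∈ xs, x ∈ maximalIdeal A) (hreg : IsWeaklyRegular A xs) :
    LocCoh.IsCohenMacaulayLocalRing (A ⧸ Ideal.ofList xs) := by
  haveI : IsNoetherianRing A := inferInstance
  haveI : IsLocalRing A := inferInstance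
  have hM : LocCoh.IsCohenMacaulayModule A A := hA.supportDim_eq_depth
  have h1 := (Groth.Agent.DepthLib.isCM_list xs A hM hx).2 hreg
  have hsub : (Ideal.ofList xs • ⊤ : Submodule A A) = Ideal.ofList xs :=
    Groth.Agent.DepthLib.ideal_smul_top_self _
  have e : (A ⧸ (Ideal.ofList xs • ⊤ : Submodule A A)) ≃ₗ[A] (A ⧸ Ideal.ofList xs) :=
    Submodule.quotEquivOfEq _ _ hsub
  have h2 : LocCoh.IsCohenMacaulayModule A (A ⧸ Ideal.ofList xs) :=
    Groth.Agent.DepthLib.isCM_congr _ e h1
  have hle : Ideal.ofList xs ≤ maximalIdeal A := Ideal.span_le.mpr fun x hx' => hx x hx'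
  haveI : IsLocalRing (A ⧸ Ideal.ofList xs) := Groth.Agent.FibDim.isLocalRing_quot hle
  haveI : IsLocalHom (algebraMap A (A ⧸ Ideal.ofList xs)) :=
    IsLocalHom.of_surjective _ Ideal.Quotient.mk_surjective
  refine { supportDim_eq_depth := ?_ }
  unfold LocCoh.IsCohenMacaulayModule at h2
  rw [Module.supportDim_self_eq_ringKrullDim, ← Module.supportDim_quotient_eq_ringKrullDim,
    ← Groth.Agent.DepthLib.depth_eq_of_isLocalHom A (A ⧸ Ideal.ofList xs) (A ⧸ Ideal.ofList xs)]
  exact h2

theorem cm_atPrime_of_eq {S : Type u} [CommRing S] (p q : Ideal S) [p.IsPrime] [q.IsPrime]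
    (h : p = q) (hp : LocCoh.IsCohenMacaulayLocalRing (Localization.AtPrime p)) :
    LocCoh.IsCohenMacaulayLocalRing (Localization.AtPrime q) := by
  subst h
  exact hp

end cm

section pres

variable (k : Type u) [Field k] (n c : ℕ) (hcn : c ≤ n) {S : Type u} [CommRing S] [Algebra k S]
  (φ : MvPolynomial (Fin n) k →ₐ[k] S) (r : Fin c → MvPolynomial (Fin n) k)
  (hφ : Function.Surjective φ) (hker : RingHom.ker φ.toRingHom = Ideal.span (Set.range r))
  (hdim : ringKrullDim S = ((n - c : ℕ) : WithBot ℕ∞))

include hcn hφ hker hdim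

theorem weaklyRegular_of_presentation
    (𝔮 : Ideal (MvPolynomial (Fin n) k)) [𝔮.IsPrime] (h𝔮 : RingHom.ker φ.toRingHom ≤ 𝔮) :
    IsWeaklyRegular (Localization.AtPrime 𝔮)
      ((List.ofFn r).map (algebraMap (MvPolynomial (Fin n) k) (Localization.AtPrime 𝔮))) := by
  have hJ : RingHom.ker φ.toRingHom = Ideal.ofList (List.ofFn r) := by
    rw [hker, span_range_eq_ofList]
  apply weaklyRegular_of_dim_le k n (List.ofFn r) _ 𝔮 (hJ ▸ h𝔮)
  have e : (MvPolynomial (Fin n) k ⧸ Ideal.ofList (List.ofFn r)) ≃+* S :=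
    (Ideal.quotEquivOfEq hJ.symm).trans
      (RingHom.quotientKerEquivOfSurjective (f := φ.toRingHom) hφ)
  rw [ringKrullDim_eq_of_ringEquiv e, hdim, List.length_ofFn]
  have : (n - c) + c = n := by omega
  exact_mod_cast this.le

theorem mem_maximalIdeal_of_presentation
    (𝔮 : Ideal (MvPolynomial (Fin n) k)) [𝔮.IsPrime] (h𝔮 : RingHom.ker φ.toRingHom ≤ 𝔮) :
    ∀ x ∈ (List.ofFn r).map (algebraMap (MvPolynomial (Fin n) k) (Localization.AtPrime 𝔮)),
      x ∈ maximalIdeal (Localization.AtPrime 𝔮) := by
  have hJ : RingHom.ker φ.toRingHom = Ideal.ofList (List.ofFn r) := by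
    rw [hker, span_range_eq_ofList]
  intro x hx
  rw [List.mem_map] at hx
  obtain ⟨y, hy, rfl⟩ := hx
  rw [IsLocalization.AtPrime.to_map_mem_maximal_iff (Localization.AtPrime 𝔮) 𝔮]
  apply h𝔮
  rw [hJ]
  exact Ideal.subset_span hy

theorem isCMRing_of_presentation : LocCoh.IsCohenMacaulayRing S := by
  have hJ : RingHom.ker φ.toRingHom = Ideal.ofList (List.ofFn r) := by
    rw [hker, span_range_eq_ofList]
  have hCM : LocCoh.IsCohenMacaulayRing (MvPolynomial (Fin n) k ⧸ RingHom.ker φ.toRingHom) := by
    apply Groth.Agent.Link9.isCMRing_quot_of_forall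
    intro Q hQ hJQ
    haveI : IsRegularLocalRing (Localization.AtPrime Q) := inferInstance
    haveI : IsNoetherianRing (Localization.AtPrime Q) :=
      IsLocalization.isNoetherianRing Q.primeCompl _ inferInstance
    haveI : LocCoh.IsCohenMacaulayLocalRing (Localization.AtPrime Q) :=
      { supportDim_eq_depth := RegUCH8.isCM_of_regular (Localization.AtPrime Q) }
    have hW := weaklyRegular_of_presentation k n c hcn φ r hφ hker hdim Q hJQ
    have hmem := mem_maximalIdeal_of_presentation k n c hcn φ r hφ hker hdim Q hJQ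
    have h3 := cmLocal_quot_list (Localization.AtPrime Q) _ hmem hW
    have hof : Ideal.ofList ((List.ofFn r).map
        (algebraMap (MvPolynomial (Fin n) k) (Localization.AtPrime Q))) =
        (RingHom.ker φ.toRingHom).map (algebraMap _ (Localization.AtPrime Q)) := by
      rw [hJ, Ideal.map_ofList]
    exact Groth.Agent.Lib.CMEquivH3.isCohenMacaulayLocalRing_of_ringEquiv
      (Ideal.quotEquivOfEq hof) h3
  exact Groth.Agent.Lib.CMEquivH3.isCohenMacaulayRing_of_ringEquiv
    (RingHom.quotientKerEquivOfSurjective (f := φ.toRingHom) hφ) hCM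

theorem height_of_isMaximal_presentation (p : Ideal S) [hp : p.IsMaximal] :
    p.height = ((n - c : ℕ) : ℕ∞) := by
  have hJ : RingHom.ker φ.toRingHom = Ideal.ofList (List.ofFn r) := by
    rw [hker, span_range_eq_ofList]
  set 𝔐 : Ideal (MvPolynomial (Fin n) k) := p.comap φ.toRingHom with h𝔐
  haveI h𝔐max : 𝔐.IsMaximal := Ideal.comap_isMaximal_of_surjective φ.toRingHom hφ
  have hJ𝔐 : RingHom.ker φ.toRingHom ≤ 𝔐 := Ideal.comap_mono bot_le
  let e : (MvPolynomial (Fin n) k ⧸ RingHom.ker φ.toRingHom) ≃+* S :=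
    RingHom.quotientKerEquivOfSurjective (f := φ.toRingHom) hφ
  set Q : Ideal (MvPolynomial (Fin n) k ⧸ RingHom.ker φ.toRingHom) :=
    p.comap (e : (MvPolynomial (Fin n) k ⧸ RingHom.ker φ.toRingHom) →+* S) with hQ
  haveI : Q.IsPrime := Ideal.comap_isPrime _ _
  have hQc : Q.comap (Ideal.Quotient.mk (RingHom.ker φ.toRingHom)) = 𝔐 := by
    rw [hQ, Ideal.comap_comap]
    rfl
  have hQh : Q.height = p.height := RingEquiv.height_comap e p
  have h1 := ringKrullDim_quot_atPrime (RingHom.ker φ.toRingHom) 𝔐 Q hQc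
  have hW := weaklyRegular_of_presentation k n c hcn φ r hφ hker hdim 𝔐 hJ𝔐
  have hmem := mem_maximalIdeal_of_presentation k n c hcn φ r hφ hker hdim 𝔐 hJ𝔐
  have hreg : IsRegular (Localization.AtPrime 𝔐)
      ((List.ofFn r).map (algebraMap (MvPolynomial (Fin n) k) (Localization.AtPrime 𝔐))) :=
    IsRegular.of_isWeaklyRegular_of_mem_maximalIdeal _ hmem hW
  have h2 := ringKrullDim_add_length_eq_ringKrullDim_of_isRegular _ hreg
  rw [List.length_map, List.length_ofFn] at h2
  have hof : Ideal.ofList ((List.ofFn r).map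
      (algebraMap (MvPolynomial (Fin n) k) (Localization.AtPrime 𝔐))) =
      (RingHom.ker φ.toRingHom).map (algebraMap _ (Localization.AtPrime 𝔐)) := by
    rw [hJ, Ideal.map_ofList]
  have hE : ringKrullDim (Localization.AtPrime 𝔐 ⧸ Ideal.ofList ((List.ofFn r).map
      (algebraMap (MvPolynomial (Fin n) k) (Localization.AtPrime 𝔐)))) =
      ringKrullDim (Localization.AtPrime 𝔐 ⧸
        (RingHom.ker φ.toRingHom).map (algebraMap _ (Localization.AtPrime 𝔐))) :=
    ringKrullDim_eq_of_ringEquiv (Ideal.quotEquivOfEq hof)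
  rw [hE, h1, IsLocalization.AtPrime.ringKrullDim_eq_height 𝔐 (Localization.AtPrime 𝔐),
    Groth.Agent.DimFTH8.height_of_isMaximal_mvPolynomial k n 𝔐, hQh] at h2
  obtain ⟨d, hd, hdc⟩ := exists_nat_of_add_eq (x := ((p.height : ℕ∞) : WithBot ℕ∞))
    (l := c) (n := n) (by exact_mod_cast bot_le (a := p.height)) (by exact_mod_cast h2)
  have hd' : p.height = (d : ℕ∞) := by exact_mod_cast hd
  rw [hd']
  have : d = n - c := by omega
  rw [this]

end pres

section main

variable (k : Type u) [Field k]

theorem isCMRing_of_isGlobalCI {S : Type u} [CommRing S] [Algebra k S]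
    (h : Synt.IsGlobalCI k S) : LocCoh.IsCohenMacaulayRing S := by
  rcases h with hsub | ⟨n, c, hcn, φ, r, hφ, hker, hdim⟩
  · haveI := hsub
    haveI : IsNoetherianRing S := inferInstance
    exact ⟨fun p hp => (hp.ne_top (Subsingleton.elim _ _)).elim⟩
  · exact isCMRing_of_presentation k n c hcn φ r hφ hker hdim

theorem main9142 (S : Type u) [CommRing S] [Algebra k S]
    (h : Synt.IsLCIOver k S) : LocCoh.IsCohenMacaulayRing S := by
  obtain ⟨hft, hloc⟩ := h
  haveI : IsNoetherianRing S := Algebra.FiniteType.isNoetherianRing k S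
  refine ⟨fun p hp => ?_⟩
  obtain ⟨g, hg, hG⟩ := hloc ⟨p, hp⟩
  have hCM := isCMRing_of_isGlobalCI k hG
  have hdisj : Disjoint (Submonoid.powers g : Set S) (p : Set S) := by
    rw [Ideal.disjoint_powers_iff_notMem _ hp.isRadical]
    exact hg
  set p' := p.map (algebraMap S (Localization.Away g)) with hp'
  haveI hp'prime : p'.IsPrime :=
    IsLocalization.isPrime_of_isPrime_disjoint (Submonoid.powers g) _ p hp hdisj
  have hcomap : p'.comap (algebraMap S (Localization.Away g)) = p :=
    IsLocalization.comap_map_of_isPrime_disjoint (Submonoid.powers g) _ hp hdisj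
  have h1 : LocCoh.IsCohenMacaulayLocalRing (Localization.AtPrime p') :=
    hCM.isCohenMacaulayLocalRing_localization p'
  haveI hq : (p'.comap (algebraMap S (Localization.Away g))).IsPrime := Ideal.comap_isPrime _ _
  haveI : IsLocalization.AtPrime (Localization.AtPrime p')
      (p'.comap (algebraMap S (Localization.Away g))) :=
    IsLocalization.isLocalization_isLocalization_atPrime_isLocalization (Submonoid.powers g)
      (Localization.AtPrime p') p'
  have e : Localization.AtPrime p' ≃ₐ[S]
      Localization.AtPrime (p'.comap (algebraMap S (Localization.Away g))) :=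
    IsLocalization.algEquiv (p'.comap (algebraMap S (Localization.Away g))).primeCompl _ _
  have h2 : LocCoh.IsCohenMacaulayLocalRing
      (Localization.AtPrime (p'.comap (algebraMap S (Localization.Away g)))) :=
    Groth.Agent.Lib.CMEquivH3.isCohenMacaulayLocalRing_of_ringEquiv e.toRingEquiv h1
  exact cm_atPrime_of_eq _ p hcomap h2

lemma span_range_get_map {R R' : Type*} [CommRing R] [CommRing R'] (e : R → R') (L : List R) :
    Ideal.span (Set.range fun j : Fin L.length => e (L.get j)) = Ideal.ofList (L.map e) := by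
  unfold Ideal.ofList
  congr 1
  ext y
  simp only [Set.mem_range, Set.mem_setOf_eq, List.mem_map]
  constructor
  · rintro ⟨j, rfl⟩
    exact ⟨L.get j, List.get_mem L j, rfl⟩
  · rintro ⟨a, ha, rfl⟩
    obtain ⟨j, rfl⟩ := List.mem_iff_get.mp ha
    exact ⟨j, rfl⟩

theorem isGlobalCI_localization_away {S : Type u} [CommRing S] [Algebra k S] (g : S)
    (h : Synt.IsGlobalCI k S) : Synt.IsGlobalCI k (Localization.Away g) := by
  by_cases hsub : Subsingleton (Localization.Away g)
  · exact Or.inl hsub
  rw [not_subsingleton_iff_nontrivial] at hsub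
  rcases h with hS | ⟨n, c, hcn, φ, r, hφ, hker, hdim⟩
  · exfalso
    haveI := hS
    have h10 : (1 : Localization.Away g) = 0 := by
      rw [← (algebraMap S (Localization.Away g)).map_one, Subsingleton.elim (1 : S) 0, map_zero]
    exact one_ne_zero h10
  obtain ⟨G, rfl⟩ := hφ g
  have heq : Ideal.ofList ((List.ofFn r).map
      (algebraMap (MvPolynomial (Fin n) k) (Localization.Away G))) =
      (RingHom.ker φ.toRingHom).map (algebraMap _ (Localization.Away G)) := by
    rw [hker, span_range_eq_ofList, Ideal.map_ofList]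
  obtain ⟨φ', hφ', hker'⟩ := exists_presentation_away n φ hφ G (List.ofFn r) heq
  set L : List (MvPolynomial (Fin n) k)[X] := (C G * X - 1) :: (List.ofFn r).map C with hL
  have hLlen : L.length = c + 1 := by simp [hL]
  set eE : (MvPolynomial (Fin n) k)[X] ≃+* MvPolynomial (Fin (n + 1)) k :=
    (MvPolynomial.finSuccEquiv k n).symm.toRingEquiv with heE
  let r' : Fin L.length → MvPolynomial (Fin (n + 1)) k := fun j => eE (L.get j)
  have hkerφ' : RingHom.ker φ'.toRingHom = Ideal.span (Set.range r') := by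
    ext x
    rw [RingHom.mem_ker]
    show φ' x = 0 ↔ _
    rw [hker', span_range_get_map, mem_ofList_map_ringEquiv]
    rfl
  have hdim' : ringKrullDim (Localization.Away (φ G)) = ((n - c : ℕ) : WithBot ℕ∞) := by
    haveI : Algebra.FiniteType k S := Algebra.FiniteType.of_surjective φ hφ
    haveI : IsJacobsonRing S := isJacobsonRing_of_finiteType (A := k)
    apply le_antisymm
    · rw [ringKrullDim_le_iff_isMaximal_height_le]
      intro m hm
      haveI := hm.isPrime
      rw [← IsLocalization.height_under (Submonoid.powers (φ G)) m]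
      haveI : (m.under S).IsPrime := Ideal.comap_isPrime _ _
      calc ((m.under S).height : WithBot ℕ∞) ≤ ringKrullDim S :=
            Ideal.height_le_ringKrullDim_of_isPrime
        _ = _ := hdim
    · obtain ⟨m, hm⟩ := Ideal.exists_maximal (Localization.Away (φ G))
      have hmax := ((IsLocalization.isMaximal_iff_isMaximal_disjoint
        (Localization.Away (φ G)) (φ G) m).mp hm).1
      haveI := hmax
      have h1 := height_of_isMaximal_presentation k n c hcn φ r hφ hker hdim (m.under S)
      rw [IsLocalization.height_under (Submonoid.powers (φ G)) m] at h1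
      have h2 := Ideal.height_le_ringKrullDim_of_ne_top hm.ne_top
      rw [h1] at h2
      exact_mod_cast h2
  refine Or.inr ⟨n + 1, L.length, by omega, φ', r', hφ', hkerφ', ?_⟩
  rw [hdim']
  have : n + 1 - L.length = n - c := by omega
  rw [this]

theorem isLCIOver_localization_away {S : Type u} [CommRing S] [Algebra k S] (g : S)
    (h : Synt.IsLCIOver k S) : Synt.IsLCIOver k (Localization.Away g) := by
  rw [isLCIOver_iff_isLCI] at h ⊢
  rw [← isLCIHom_algebraMap_iff] at h ⊢
  have h2 : IsLCIHom (algebraMap S (Localization.Away g)) :=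
    Groth.Agent.Lib.SmoothLCI.isLCIHom_of_away _ g (away_toAlgebra g)
  have h3 := isLCIHom_comp _ _ h h2
  rwa [← IsScalarTower.algebraMap_eq] at h3

theorem main9141 (S : Type u) [CommRing S] [Algebra k S] (g : S) :
    (Synt.IsGlobalCI k S → Synt.IsGlobalCI k (Localization.Away g)) ∧
      (Synt.IsLCIOver k S → Synt.IsLCIOver k (Localization.Away g)) :=
  ⟨isGlobalCI_localization_away k g, isLCIOver_localization_away k g⟩

end main

end Groth.Agent.Lib.SyntCM
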