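import Mathlib
import Groth.Prelude.Def_RegImm
import Groth.Prelude.Def_CInt
import Groth.Prelude.Def_LCI2
import Groth.Agent.Lib.RegQuot_helper5
import Groth.Agent.Lib.SyntTA2_helper2
import Groth.Agent.Lib.SyntCM1_helper2

/-!
# Complete intersections over a field: independence of the presentation (helper2)
S9144, S9145.  APPEND-ONLY once landed.
-/

set_option autoImplicit false
universe u

namespace Groth.Agent.Lib.CIField

open RingTheory.Sequence IsLocalRing
open Groth.Agent.Lib.KRegIdeal Groth.Agent.Lib.FibKoszul Groth.Agent.Lib.SyntTA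

section L1

/-- an essentially finite type algebra is a localisation of the image of a polynomial ring. -/
theorem exists_aeval_of_essFiniteType (k R : Type u) [CommRing k] [CommRing R] [Algebra k R]
    [Algebra.EssFiniteType k R] :
    ∃ (n : ℕ) (φ : MvPolynomial (Fin n) k →ₐ[k] R),
      ∀ r : R, ∃ a b : MvPolynomial (Fin n) k, IsUnit (φ b) ∧ r * φ b = φ a := by
  classical
  obtain ⟨σ, hσ⟩ := (Algebra.essFiniteType_iff k R).mp (inferInstance : Algebra.EssFiniteType k R)
  let e := σ.equivFin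
  let v : Fin σ.card → R := fun i => (e.symm i : R)
  have hrange : Set.range v = (σ : Set R) := by
    ext x
    constructor
    · rintro ⟨i, rfl⟩
      exact (e.symm i).2
    · intro hx
      exact ⟨e ⟨x, hx⟩, by simp [v]⟩
  have hadj : ∀ t ∈ Algebra.adjoin k (σ : Set R),
      ∃ a : MvPolynomial (Fin σ.card) k, MvPolynomial.aeval v a = t := by
    intro t ht
    rw [← hrange, Algebra.adjoin_range_eq_range_aeval] at ht
    exact ht
  refine ⟨σ.card, MvPolynomial.aeval v, fun r => ?_⟩
  obtain ⟨t, ht, htu, hrt⟩ := hσ r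
  obtain ⟨b, rfl⟩ := hadj t ht
  obtain ⟨a, ha⟩ := hadj _ hrt
  exact ⟨a, b, htu, ha.symm⟩

end L1

section PI

variable (k : Type u) [Field k]

instance (σ : Type u) [Finite σ] (q : Ideal (MvPolynomial σ k)) [q.IsPrime] :
    IsRegularLocalRing (Localization.AtPrime q) := inferInstance

/-- two surjections onto a local ring from essentially finite type local algebras are dominated by
a common localisation of a polynomial ring (which is regular). -/
theorem exists_common_cover {R₁ R₂ S : Type u} [CommRing R₁] [CommRing R₂] [CommRing S]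
    [IsLocalRing R₁] [IsLocalRing R₂] [IsLocalRing S] [Algebra k R₁] [Algebra k R₂] [Algebra k S]
    [Algebra.EssFiniteType k R₁] [Algebra.EssFiniteType k R₂]
    (π₁ : R₁ →ₐ[k] S) (hπ₁ : Function.Surjective π₁)
    (π₂ : R₂ →ₐ[k] S) (hπ₂ : Function.Surjective π₂) :
    ∃ (A : Type u) (_ : CommRing A) (_ : IsRegularLocalRing A) (Φ₁ : A →+* R₁) (Φ₂ : A →+* R₂),
      Function.Surjective Φ₁ ∧ Function.Surjective Φ₂ ∧
        π₁.toRingHom.comp Φ₁ = π₂.toRingHom.comp Φ₂ := by
  classical
  obtain ⟨n₁, φ₁, h₁⟩ := exists_aeval_of_essFiniteType k R₁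
  obtain ⟨n₂, φ₂, h₂⟩ := exists_aeval_of_essFiniteType k R₂
  choose b hb using fun j : Fin n₂ => hπ₁ (π₂ (φ₂ (MvPolynomial.X j)))
  choose a' ha' using fun i : Fin n₁ => hπ₂ (π₁ (φ₁ (MvPolynomial.X i)))
  let Ψ₁ : MvPolynomial (Fin n₁ ⊕ Fin n₂) k →ₐ[k] R₁ :=
    MvPolynomial.aeval (Sum.elim (fun i => φ₁ (MvPolynomial.X i)) b)
  let Ψ₂ : MvPolynomial (Fin n₁ ⊕ Fin n₂) k →ₐ[k] R₂ :=
    MvPolynomial.aeval (Sum.elim a' (fun j => φ₂ (MvPolynomial.X j)))
  have hPi : π₁.comp Ψ₁ = π₂.comp Ψ₂ := by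
    apply MvPolynomial.algHom_ext
    rintro (i | j)
    · simp [Ψ₁, Ψ₂, ha']
    · simp [Ψ₁, Ψ₂, hb]
  have hPi' : ∀ x, π₁ (Ψ₁ x) = π₂ (Ψ₂ x) := fun x => AlgHom.congr_fun hPi x
  have hΨ₁ : ∀ a : MvPolynomial (Fin n₁) k, Ψ₁ (MvPolynomial.rename Sum.inl a) = φ₁ a := by
    intro a
    simp only [Ψ₁, MvPolynomial.aeval_rename]
    exact (AlgHom.congr_fun (MvPolynomial.aeval_unique φ₁) a).symm
  have hΨ₂ : ∀ a : MvPolynomial (Fin n₂) k, Ψ₂ (MvPolynomial.rename Sum.inr a) = φ₂ a := by
    intro a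
    simp only [Ψ₂, MvPolynomial.aeval_rename]
    exact (AlgHom.congr_fun (MvPolynomial.aeval_unique φ₂) a).symm
  let q : Ideal (MvPolynomial (Fin n₁ ⊕ Fin n₂) k) :=
    (maximalIdeal S).comap (π₁.comp Ψ₁).toRingHom
  haveI hqp : q.IsPrime := Ideal.comap_isPrime _ _
  have hq : ∀ y : MvPolynomial (Fin n₁ ⊕ Fin n₂) k, y ∉ q ↔ IsUnit (π₁ (Ψ₁ y)) := by
    intro y
    show ¬ (π₁ (Ψ₁ y) ∈ maximalIdeal S) ↔ _
    rw [mem_maximalIdeal, mem_nonunits_iff, not_not]
  haveI hl₁ : IsLocalHom π₁.toRingHom := IsLocalHom.of_surjective _ hπ₁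
  haveI hl₂ : IsLocalHom π₂.toRingHom := IsLocalHom.of_surjective _ hπ₂
  have hu₁ : ∀ y : q.primeCompl, IsUnit (Ψ₁.toRingHom y) := fun y =>
    isUnit_of_map_unit π₁.toRingHom _ ((hq y.1).mp y.2)
  have hu₂ : ∀ y : q.primeCompl, IsUnit (Ψ₂.toRingHom y) := fun y =>
    isUnit_of_map_unit π₂.toRingHom _ (by
      show IsUnit (π₂ (Ψ₂ y.1))
      rw [← hPi']
      exact (hq y.1).mp y.2)
  let Φ₁ : Localization.AtPrime q →+* R₁ := IsLocalization.lift hu₁
  let Φ₂ : Localization.AtPrime q →+* R₂ := IsLocalization.lift hu₂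
  have hΦ₁ : ∀ x, Φ₁ (algebraMap _ (Localization.AtPrime q) x) = Ψ₁ x :=
    fun x => IsLocalization.lift_eq hu₁ x
  have hΦ₂ : ∀ x, Φ₂ (algebraMap _ (Localization.AtPrime q) x) = Ψ₂ x :=
    fun x => IsLocalization.lift_eq hu₂ x
  refine ⟨Localization.AtPrime q, inferInstance, inferInstance, Φ₁, Φ₂, ?_, ?_, ?_⟩
  · intro r
    obtain ⟨a, b, hbu, hab⟩ := h₁ r
    have hbq : MvPolynomial.rename Sum.inl b ∉ q := by
      rw [hq, hΨ₁]
      exact hbu.map π₁
    refine ⟨IsLocalization.mk' (Localization.AtPrime q) (MvPolynomial.rename Sum.inl a)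
      (⟨MvPolynomial.rename Sum.inl b, hbq⟩ : q.primeCompl), ?_⟩
    have h3 := IsLocalization.mk'_spec (Localization.AtPrime q) (MvPolynomial.rename Sum.inl a)
      (⟨MvPolynomial.rename Sum.inl b, hbq⟩ : q.primeCompl)
    have h4 := congrArg Φ₁ h3
    rw [map_mul, hΦ₁, hΦ₁, hΨ₁, hΨ₁, ← hab] at h4
    exact hbu.mul_left_injective h4
  · intro r
    obtain ⟨a, b, hbu, hab⟩ := h₂ r
    have hbq : MvPolynomial.rename Sum.inr b ∉ q := by
      rw [hq, hPi', hΨ₂]
      exact hbu.map π₂
    refine ⟨IsLocalization.mk' (Localization.AtPrime q) (MvPolynomial.rename Sum.inr a)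
      (⟨MvPolynomial.rename Sum.inr b, hbq⟩ : q.primeCompl), ?_⟩
    have h3 := IsLocalization.mk'_spec (Localization.AtPrime q) (MvPolynomial.rename Sum.inr a)
      (⟨MvPolynomial.rename Sum.inr b, hbq⟩ : q.primeCompl)
    have h4 := congrArg Φ₂ h3
    rw [map_mul, hΦ₂, hΦ₂, hΨ₂, hΨ₂, ← hab] at h4
    exact hbu.mul_left_injective h4
  · apply IsLocalization.ringHom_ext q.primeCompl
    ext x
    · simp only [RingHom.comp_apply]
      rw [hΦ₁, hΦ₂]
      simp
    · simp only [RingHom.comp_apply]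
      rw [hΦ₁, hΦ₂]
      exact hPi' _

/-- **Independence of the presentation**: for two surjections onto a local ring from regular local
rings essentially of finite type over `k`, one kernel is generated by a regular sequence iff the
other is. -/
theorem isRegularIdeal_ker_iff {R₁ R₂ S : Type u} [CommRing R₁] [CommRing R₂] [CommRing S]
    [IsRegularLocalRing R₁] [IsRegularLocalRing R₂] [IsLocalRing S]
    [Algebra k R₁] [Algebra k R₂] [Algebra k S]
    [Algebra.EssFiniteType k R₁] [Algebra.EssFiniteType k R₂]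
    (π₁ : R₁ →ₐ[k] S) (hπ₁ : Function.Surjective π₁)
    (π₂ : R₂ →ₐ[k] S) (hπ₂ : Function.Surjective π₂) :
    CInt.IsRegularIdeal (RingHom.ker π₁.toRingHom) ↔
      CInt.IsRegularIdeal (RingHom.ker π₂.toRingHom) := by
  obtain ⟨A, _, _, Φ₁, Φ₂, hΦ₁, hΦ₂, hc⟩ := exists_common_cover k π₁ hπ₁ π₂ hπ₂
  rw [← Groth.Agent.RegQuot.ker_iff Φ₁ hΦ₁ π₁.toRingHom, hc,
    Groth.Agent.RegQuot.ker_iff Φ₂ hΦ₂ π₂.toRingHom]

/-- **Core theorem**: a local `k`-algebra `S` is a complete intersection over `k` iff the kernel of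
any given surjection from a regular local ring essentially of finite type over `k` is generated by
a regular sequence. -/
theorem isCIOver_iff_isRegularIdeal_ker {R S : Type u} [CommRing R] [CommRing S]
    [IsRegularLocalRing R] [IsLocalRing S] [Algebra k R] [Algebra k S]
    [Algebra.EssFiniteType k R] (π : R →ₐ[k] S) (hπ : Function.Surjective π) :
    Synt.IsCIOver k S ↔ CInt.IsRegularIdeal (RingHom.ker π.toRingHom) := by
  constructor
  · rintro ⟨R', _, _, _, hess, rs, hmem, hreg, ⟨e⟩⟩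
    haveI := hess
    let π' : R' →ₐ[k] S := e.symm.toAlgHom.comp (Ideal.Quotient.mkₐ k (Ideal.ofList rs))
    have hπ' : Function.Surjective π' :=
      e.symm.surjective.comp (Ideal.Quotient.mkₐ_surjective k _)
    have hker : RingHom.ker π'.toRingHom = Ideal.ofList rs := by
      ext x
      rw [RingHom.mem_ker]
      show e.symm (Ideal.Quotient.mk _ x) = 0 ↔ _
      rw [map_eq_zero_iff e.symm e.symm.injective, Ideal.Quotient.eq_zero_iff_mem]
    rw [isRegularIdeal_ker_iff k π hπ π' hπ', hker]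
    exact ⟨rs, hreg, rfl⟩
  · rintro ⟨rs, hreg, hker⟩
    have hne : RingHom.ker π.toRingHom ≠ ⊤ := RingHom.ker_ne_top _
    refine ⟨R, inferInstance, inferInstance, inferInstance, inferInstance, rs, ?_, hreg, ⟨?_⟩⟩
    · intro r hr
      exact IsLocalRing.le_maximalIdeal hne (hker ▸ Ideal.subset_span hr)
    · exact ((Ideal.quotientEquivAlgOfEq k hker).trans
        (Ideal.quotientKerAlgEquivOfSurjective hπ)).symm

end PI

section loc

/-- the local homomorphism induced by a surjective algebra map, as an algebra map; it is surjective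
and its kernel is the extension of the kernel. -/
theorem exists_localAlgHom {k P S : Type u} [CommRing k] [CommRing P] [CommRing S] [Algebra k P]
    [Algebra k S] (π : P →ₐ[k] S) (hπ : Function.Surjective π) (q : Ideal S) [q.IsPrime] :
    ∃ πq : Localization.AtPrime (q.comap π.toRingHom) →ₐ[k] Localization.AtPrime q,
      Function.Surjective πq ∧
      RingHom.ker πq.toRingHom = (RingHom.ker π.toRingHom).map
        (algebraMap P (Localization.AtPrime (q.comap π.toRingHom))) := by
  let f := Localization.localRingHom (q.comap π.toRingHom) q π.toRingHom rfl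
  have hf : ∀ x, f (algebraMap P _ x) = algebraMap S _ (π x) :=
    fun x => Localization.localRingHom_to_map _ _ _ rfl x
  let πq : Localization.AtPrime (q.comap π.toRingHom) →ₐ[k] Localization.AtPrime q :=
    { f with
      commutes' := fun r => by
        show f (algebraMap k _ r) = algebraMap k _ r
        rw [IsScalarTower.algebraMap_apply k P (Localization.AtPrime (q.comap π.toRingHom)), hf,
          AlgHom.commutes, ← IsScalarTower.algebraMap_apply] }
  have hπq : ∀ x, πq x = f x := fun _ => rfl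
  refine ⟨πq, ?_, ?_⟩
  · intro y
    obtain ⟨s, t, rfl⟩ := IsLocalization.exists_mk'_eq q.primeCompl y
    obtain ⟨a, rfl⟩ := hπ s
    obtain ⟨b, hb⟩ := hπ t.1
    have hbq : b ∈ (q.comap π.toRingHom).primeCompl := by
      show b ∉ q.comap π.toRingHom
      rw [Ideal.mem_comap]
      show π b ∉ q
      rw [hb]
      exact t.2
    refine ⟨IsLocalization.mk' _ a (⟨b, hbq⟩ : (q.comap π.toRingHom).primeCompl), ?_⟩
    rw [hπq, Localization.localRingHom_mk']
    congr 1
    exact Subtype.ext hb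
  · ext x
    obtain ⟨a, b, rfl⟩ := IsLocalization.exists_mk'_eq (q.comap π.toRingHom).primeCompl x
    rw [IsLocalization.mk'_mem_map_algebraMap_iff, RingHom.mem_ker]
    show f _ = 0 ↔ _
    rw [Localization.localRingHom_mk', IsLocalization.mk'_eq_zero_iff]
    constructor
    · rintro ⟨t, ht⟩
      obtain ⟨c, hc⟩ := hπ t.1
      refine ⟨c, ?_, ?_⟩
      · show c ∉ q.comap π.toRingHom
        rw [Ideal.mem_comap]
        show π c ∉ q
        rw [hc]
        exact t.2
      · rw [RingHom.mem_ker]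
        show π (c * a) = 0
        rw [map_mul, hc]
        exact ht
    · rintro ⟨s', hs', hs'a⟩
      refine ⟨⟨π s', hs'⟩, ?_⟩
      rw [RingHom.mem_ker] at hs'a
      have : π (s' * a) = 0 := hs'a
      rw [map_mul] at this
      exact this

/-- in the local ring of a Noetherian ring at a prime, the extension of `I` is generated by a
regular sequence iff `I` is generated by a Koszul-regular sequence near the prime. -/
theorem isRegularIdeal_map_atPrime_iff_krAt {P : Type u} [CommRing P] [IsNoetherianRing P]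
    (I 𝔮 : Ideal P) [𝔮.IsPrime] (hI : I ≤ 𝔮) :
    CInt.IsRegularIdeal (I.map (algebraMap P (Localization.AtPrime 𝔮))) ↔ KRAt I 𝔮 := by
  haveI : IsNoetherianRing (Localization.AtPrime 𝔮) :=
    IsLocalization.isNoetherianRing 𝔮.primeCompl _ inferInstance
  have hJle : I.map (algebraMap P (Localization.AtPrime 𝔮)) ≤
      maximalIdeal (Localization.AtPrime 𝔮) := by
    rw [Ideal.map_le_iff_le_comap]
    intro x hx
    rw [Ideal.mem_comap, IsLocalization.AtPrime.to_map_mem_maximal_iff (Localization.AtPrime 𝔮) 𝔮]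
    exact hI hx
  have hJtop : I.map (algebraMap P (Localization.AtPrime 𝔮)) ≠ ⊤ := fun h =>
    (maximalIdeal.isMaximal (Localization.AtPrime 𝔮)).ne_top (top_le_iff.mp (h ▸ hJle))
  constructor
  · rintro ⟨rs, hreg, hrs⟩
    have hK := (Groth.Agent.Lib.KoszulTopH7.koszulRegular rs hreg.toIsWeaklyRegular).1
    obtain ⟨G, hG, as, -, hreg', heq⟩ := exists_away_regular_of_koszul_local I 𝔮 hI rs hK hrs
    exact ⟨G, hG, Localization.Away G, inferInstance, inferInstance, inferInstance,
      as.map (algebraMap _ _),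
      (Groth.Agent.Lib.KoszulTopH7.koszulRegular _ hreg'.toIsWeaklyRegular).1, heq.symm⟩
  · intro h
    obtain ⟨g', hg', hg'I⟩ := koszul_local_of_krAt I 𝔮 h
    have hmem : ∀ z ∈ g', z ∈ maximalIdeal (Localization.AtPrime 𝔮) := fun z hz =>
      hJle (hg'I ▸ Ideal.subset_span hz)
    have hW : IsWeaklyRegular (Localization.AtPrime 𝔮) g' := by
      apply Groth.Agent.Lib.KoszulDepth2H7.regular_of_vanishing (Localization.AtPrime 𝔮) _ hmem
      intro i hi
      exact Groth.Agent.Lib.KoszulTopH7.isZero_homology_of_eq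
        (Groth.Agent.Lib.KoszulTopH7.koszul_eq _).symm i (hg' i (by omega))
    refine ⟨g', ⟨hW, ?_⟩, hg'I⟩
    rw [smul_eq_mul, Ideal.mul_top, hg'I]
    exact fun h => hJtop h.symm

end loc

section main

variable (k : Type u) [Field k]

theorem isLCIOver_of_isGlobalCI (S : Type u) [CommRing S] [Algebra k S]
    (h : Synt.IsGlobalCI k S) : Synt.IsLCIOver k S :=
  isLCIOver_of_isLCI k S (isLCI_of_isGlobalCI k S h)

/-- for a presentation `π : k[x] → S` and a prime `q` of `S`: `S_q` is a complete intersection over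
`k` iff the kernel of `π` is Koszul-regular near the preimage of `q`. -/
theorem isCIOver_atPrime_iff_krAt {S : Type u} [CommRing S] [Algebra k S] (n : ℕ)
    (π : MvPolynomial (Fin n) k →ₐ[k] S) (hπ : Function.Surjective π) (q : Ideal S) [q.IsPrime] :
    Synt.IsCIOver k (Localization.AtPrime q) ↔
      KRAt (RingHom.ker π.toRingHom) (q.comap π.toRingHom) := by
  have hle : RingHom.ker π.toRingHom ≤ q.comap π.toRingHom := by
    intro x hx
    rw [Ideal.mem_comap, RingHom.mem_ker.mp hx]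
    exact q.zero_mem
  obtain ⟨πq, hπq, hker⟩ := exists_localAlgHom π hπ q
  rw [isCIOver_iff_isRegularIdeal_ker k πq hπq, hker]
  exact isRegularIdeal_map_atPrime_iff_krAt _ _ hle

theorem main9144 (S : Type u) [CommRing S] [Algebra k S] [Algebra.FiniteType k S]
    (q : Ideal S) [q.IsPrime] :
    (Synt.IsCIOver k (Localization.AtPrime q) ↔
        ∃ g : S, g ∉ q ∧ Synt.IsLCIOver k (Localization.Away g)) ∧
      (Synt.IsCIOver k (Localization.AtPrime q) ↔
        ∃ g : S, g ∉ q ∧ Synt.IsGlobalCI k (Localization.Away g)) := by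
  obtain ⟨n, π, hπ⟩ := Algebra.FiniteType.iff_quotient_mvPolynomial''.mp
    (inferInstance : Algebra.FiniteType k S)
  have hle : RingHom.ker π.toRingHom ≤ q.comap π.toRingHom := by
    intro x hx
    rw [Ideal.mem_comap, RingHom.mem_ker.mp hx]
    exact q.zero_mem
  have hA := isCIOver_atPrime_iff_krAt k n π hπ q
  have hB : KRAt (RingHom.ker π.toRingHom) (q.comap π.toRingHom) →
      ∃ g : S, g ∉ q ∧ Synt.IsGlobalCI k (Localization.Away g) :=
    fun h => isGlobalCI_away_of_krAt k n π hπ q h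
  have hC : (∃ g : S, g ∉ q ∧ Synt.IsGlobalCI k (Localization.Away g)) →
      ∃ g : S, g ∉ q ∧ Synt.IsLCIOver k (Localization.Away g) := by
    rintro ⟨g, hg, h⟩
    exact ⟨g, hg, isLCIOver_of_isGlobalCI k _ h⟩
  have hD : (∃ g : S, g ∉ q ∧ Synt.IsLCIOver k (Localization.Away g)) →
      KRAt (RingHom.ker π.toRingHom) (q.comap π.toRingHom) := by
    rintro ⟨g, hg, h⟩
    obtain ⟨G, rfl⟩ := hπ g
    exact Groth.Agent.Lib.LCILocal.kr_at_of_isLCI_away k S n π hπ G (isLCI_of_isLCIOver k _ h)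
      _ hg hle
  exact ⟨⟨fun h => hC (hB (hA.mp h)), fun h => hA.mpr (hD h)⟩,
    ⟨fun h => hB (hA.mp h), fun h => hA.mpr (hD (hC h))⟩⟩

theorem main9145 (S : Type u) [CommRing S] [Algebra k S] [Algebra.FiniteType k S] :
    (Synt.IsLCIOver k S ↔
        ∀ p : PrimeSpectrum S, Synt.IsCIOver k (Localization.AtPrime p.asIdeal)) ∧
      (Synt.IsLCIOver k S ↔
        ∀ m : MaximalSpectrum S, Synt.IsCIOver k (Localization.AtPrime m.asIdeal)) := by
  have h1 : Synt.IsLCIOver k S ↔
      ∀ p : PrimeSpectrum S, Synt.IsCIOver k (Localization.AtPrime p.asIdeal) := by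
    constructor
    · intro h p
      exact ((main9144 k S p.asIdeal).2).mpr (h.2 p)
    · intro h
      exact ⟨inferInstance, fun p => ((main9144 k S p.asIdeal).2).mp (h p)⟩
  refine ⟨h1, ?_⟩
  constructor
  · intro h m
    exact h1.mp h ⟨m.asIdeal, inferInstance⟩
  · intro h
    rw [h1]
    intro p
    obtain ⟨M, hM, hpM⟩ := Ideal.exists_le_maximal p.asIdeal p.2.ne_top
    haveI := hM.isPrime
    obtain ⟨g, hg, hG⟩ := ((main9144 k S M).2).mp (h ⟨M, hM⟩)
    exact ((main9144 k S p.asIdeal).2).mpr ⟨g, fun hgp => hg (hpM hgp), hG⟩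

end main

end Groth.Agent.Lib.CIField
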