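import Mathlib
import Groth.Prelude.Def_RegImm
import Groth.Prelude.Def_CInt
import Groth.Agent.Lib.CIField1_helper2
import Groth.Agent.Lib.CM_helper5
import Groth.Agent.Lib.CMSeq_helper5

/-!
# Complete intersections over a field, part 2 (helper2): S9143.
APPEND-ONLY once landed.
-/

set_option autoImplicit false
universe u

namespace Groth.Agent.Lib.CIField

open RingTheory.Sequence IsLocalRing
open Groth.Agent.Lib.KRegIdeal Groth.Agent.Lib.FibKoszul Groth.Agent.Lib.SyntTA

section transport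

variable (k : Type u) [Field k]

theorem isCIOver_of_algEquiv {S S' : Type u} [CommRing S] [CommRing S'] [IsLocalRing S]
    [IsLocalRing S'] [Algebra k S] [Algebra k S'] (e : S ≃ₐ[k] S') (h : Synt.IsCIOver k S) :
    Synt.IsCIOver k S' := by
  obtain ⟨R, i1, i2, i3, hess, rs, hmem, hreg, ⟨e'⟩⟩ := h
  exact ⟨R, i1, i2, i3, hess, rs, hmem, hreg, ⟨e.symm.trans e'⟩⟩

theorem algEquiv_atPrime_of_eq {A₀ : Type u} [CommRing A₀] (p p' : Ideal A₀) [hp : p.IsPrime]
    [hp' : p'.IsPrime] (h : p = p') :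
    Nonempty (Localization.AtPrime p ≃ₐ[A₀] Localization.AtPrime p') := by
  subst h
  exact ⟨AlgEquiv.refl⟩

/-- a local algebra essentially of finite type over `k` is the local ring at a prime of a quotient
of a polynomial ring. -/
theorem exists_equiv_atPrime_of_essFiniteType (S : Type u) [CommRing S] [IsLocalRing S]
    [Algebra k S] [Algebra.EssFiniteType k S] :
    ∃ (n : ℕ) (I : Ideal (MvPolynomial (Fin n) k)) (q₀ : Ideal (MvPolynomial (Fin n) k ⧸ I))
      (_ : q₀.IsPrime), Nonempty (S ≃ₐ[k] Localization.AtPrime q₀) := by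
  obtain ⟨n, φ, hφ⟩ := exists_aeval_of_essFiniteType k S
  let φb : (MvPolynomial (Fin n) k ⧸ RingHom.ker φ) →ₐ[k] S := Ideal.kerLiftAlg φ
  have hφb : ∀ a, φb (Ideal.Quotient.mk _ a) = φ a := fun a => rfl
  have hinj : Function.Injective φb := Ideal.kerLiftAlg_injective φ
  let q₀ : Ideal (MvPolynomial (Fin n) k ⧸ RingHom.ker φ) :=
    (maximalIdeal S).comap φb.toRingHom
  haveI hq₀ : q₀.IsPrime := Ideal.comap_isPrime _ _
  have hq : ∀ y, y ∉ q₀ ↔ IsUnit (φb y) := by
    intro y
    show ¬ (φb y ∈ maximalIdeal S) ↔ _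
    rw [mem_maximalIdeal, mem_nonunits_iff, not_not]
  letI : Algebra (MvPolynomial (Fin n) k ⧸ RingHom.ker φ) S := φb.toRingHom.toAlgebra
  haveI : IsScalarTower k (MvPolynomial (Fin n) k ⧸ RingHom.ker φ) S :=
    IsScalarTower.of_algebraMap_eq (fun r => (φb.commutes r).symm)
  haveI hloc : IsLocalization q₀.primeCompl S := by
    refine (isLocalization_iff _ _).mpr ⟨?_, ?_, ?_⟩
    · intro y
      exact (hq y.1).mp y.2
    · intro z
      obtain ⟨a, b, hbu, hab⟩ := hφ z
      have hb : Ideal.Quotient.mk (RingHom.ker φ) b ∈ q₀.primeCompl := by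
        show _ ∉ q₀
        rw [hq, hφb]
        exact hbu
      exact ⟨(Ideal.Quotient.mk _ a, ⟨_, hb⟩), hab⟩
    · intro x y hxy
      exact ⟨1, by rw [hinj hxy]⟩
  exact ⟨n, RingHom.ker φ, q₀, hq₀,
    ⟨(IsLocalization.algEquiv q₀.primeCompl S (Localization.AtPrime q₀)).restrictScalars k⟩⟩

/-- a local algebra essentially of finite type over `k` is a quotient of a regular local ring
essentially of finite type over `k`. -/
theorem exists_regular_cover (S : Type u) [CommRing S] [IsLocalRing S]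
    [Algebra k S] [Algebra.EssFiniteType k S] :
    ∃ (R : Type u) (_ : CommRing R) (_ : IsRegularLocalRing R) (_ : Algebra k R),
      Algebra.EssFiniteType k R ∧ ∃ π : R →ₐ[k] S, Function.Surjective π := by
  obtain ⟨n, I, q₀, hq₀, ⟨e⟩⟩ := exists_equiv_atPrime_of_essFiniteType k S
  obtain ⟨πq, hπq, -⟩ := exists_localAlgHom (Ideal.Quotient.mkₐ k I)
    (Ideal.Quotient.mkₐ_surjective k I) q₀
  exact ⟨_, inferInstance, inferInstance, inferInstance, inferInstance,
    e.symm.toAlgHom.comp πq, e.symm.surjective.comp hπq⟩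

end transport

section main

variable (k : Type u) [Field k]

theorem ringKrullDim_eq_of_isCIOver_data {R S : Type u} [CommRing R] [CommRing S]
    [Algebra k R] [Algebra k S] (rs : List R)
    (e : S ≃ₐ[k] R ⧸ Ideal.ofList rs) :
    ringKrullDim S = ringKrullDim (R ⧸ Ideal.ofList rs) :=
  ringKrullDim_eq_of_ringEquiv e.toRingEquiv

theorem main9143 (S : Type u) [CommRing S] [IsLocalRing S] [Algebra k S]
    [Algebra.EssFiniteType k S] :
    (Synt.IsCIOver k S ↔
        ∀ (R : Type u) [CommRing R] [IsRegularLocalRing R] [Algebra k R],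
          Algebra.EssFiniteType k R →
          ∀ π : R →ₐ[k] S, Function.Surjective π →
            ∃ rs : List R, RingTheory.Sequence.IsRegular R rs ∧
              RingHom.ker π.toRingHom = Ideal.ofList rs) ∧
      (Synt.IsCIOver k S ↔
        ∃ (R : Type u) (_ : CommRing R) (_ : IsRegularLocalRing R) (_ : Algebra k R),
          Algebra.EssFiniteType k R ∧ ∃ π : R →ₐ[k] S, Function.Surjective π ∧
            ∃ rs : List R, RingHom.ker π.toRingHom = Ideal.ofList rs ∧
              ringKrullDim R = ringKrullDim S + (rs.length : WithBot ℕ∞)) ∧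
      (Synt.IsCIOver k S ↔
        ∃ (A : Type u) (_ : CommRing A) (_ : Algebra k A) (a : Ideal A) (_ : a.IsPrime),
          Algebra.FiniteType k A ∧ Synt.IsGlobalCI k A ∧
            Nonempty (S ≃ₐ[k] Localization.AtPrime a)) ∧
      (Synt.IsCIOver k S ↔
        ∃ (A : Type u) (_ : CommRing A) (_ : Algebra k A) (a : Ideal A) (_ : a.IsPrime),
          Synt.IsLCIOver k A ∧ Nonempty (S ≃ₐ[k] Localization.AtPrime a)) := by
  -- (4), forward
  have h4f : Synt.IsCIOver k S →
      ∃ (A : Type u) (_ : CommRing A) (_ : Algebra k A) (a : Ideal A) (_ : a.IsPrime),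
        Algebra.FiniteType k A ∧ Synt.IsGlobalCI k A ∧
          Nonempty (S ≃ₐ[k] Localization.AtPrime a) := by
    intro h
    obtain ⟨n, I, q₀, hq₀, ⟨e⟩⟩ := exists_equiv_atPrime_of_essFiniteType k S
    have h1 : Synt.IsCIOver k (Localization.AtPrime q₀) := isCIOver_of_algEquiv k e h
    obtain ⟨g, hg, hG⟩ := ((main9144 k (MvPolynomial (Fin n) k ⧸ I) q₀).2).mp h1
    have hdisj : Disjoint (Submonoid.powers g : Set (MvPolynomial (Fin n) k ⧸ I)) (q₀ : Set _) := by
      rw [Ideal.disjoint_powers_iff_notMem _ hq₀.isRadical]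
      exact hg
    let a : Ideal (Localization.Away g) := q₀.map (algebraMap _ (Localization.Away g))
    haveI ha : a.IsPrime :=
      IsLocalization.isPrime_of_isPrime_disjoint (Submonoid.powers g) _ q₀ hq₀ hdisj
    have hcomap : a.comap (algebraMap (MvPolynomial (Fin n) k ⧸ I) (Localization.Away g)) = q₀ :=
      IsLocalization.comap_map_of_isPrime_disjoint (Submonoid.powers g) _ hq₀ hdisj
    obtain ⟨e₂⟩ := algEquiv_atPrime_of_eq q₀ _ hcomap.symm
    let e₃ := IsLocalization.localizationLocalizationAtPrimeIsoLocalization (Submonoid.powers g) a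
    exact ⟨Localization.Away g, inferInstance, inferInstance, a, ha,
      (isLCIOver_of_isGlobalCI k _ hG).1, hG,
      ⟨e.trans ((e₂.restrictScalars k).trans (e₃.restrictScalars k))⟩⟩
  -- (5), backward
  have h5b : (∃ (A : Type u) (_ : CommRing A) (_ : Algebra k A) (a : Ideal A) (_ : a.IsPrime),
      Synt.IsLCIOver k A ∧ Nonempty (S ≃ₐ[k] Localization.AtPrime a)) → Synt.IsCIOver k S := by
    rintro ⟨A, _, _, a, _, hA, ⟨e⟩⟩
    haveI := hA.1
    have h1 : Synt.IsCIOver k (Localization.AtPrime a) :=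
      ((main9144 k A a).1).mpr ⟨1, fun h => (inferInstance : a.IsPrime).ne_top
        ((Ideal.eq_top_iff_one _).mpr h), Groth.Agent.Lib.SyntCM.isLCIOver_localization_away k 1 hA⟩
    exact isCIOver_of_algEquiv k e.symm h1
  have h45 : (∃ (A : Type u) (_ : CommRing A) (_ : Algebra k A) (a : Ideal A) (_ : a.IsPrime),
        Algebra.FiniteType k A ∧ Synt.IsGlobalCI k A ∧
          Nonempty (S ≃ₐ[k] Localization.AtPrime a)) →
      ∃ (A : Type u) (_ : CommRing A) (_ : Algebra k A) (a : Ideal A) (_ : a.IsPrime),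
        Synt.IsLCIOver k A ∧ Nonempty (S ≃ₐ[k] Localization.AtPrime a) := by
    rintro ⟨A, i1, i2, a, i3, -, hG, he⟩
    exact ⟨A, i1, i2, a, i3, isLCIOver_of_isGlobalCI k _ hG, he⟩
  refine ⟨⟨?_, ?_⟩, ⟨?_, ?_⟩, ⟨h4f, fun h => h5b (h45 h)⟩, ⟨fun h => h45 (h4f h), h5b⟩⟩
  · -- (2) forward
    intro h R _ _ _ hess π hπ
    haveI := hess
    obtain ⟨rs, hreg, hrs⟩ := (isCIOver_iff_isRegularIdeal_ker k π hπ).mp h
    exact ⟨rs, hreg, hrs.symm⟩
  · -- (2) backward
    intro h
    obtain ⟨R, _, _, _, hess, π, hπ⟩ := exists_regular_cover k S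
    haveI := hess
    obtain ⟨rs, hreg, hrs⟩ := h R hess π hπ
    exact (isCIOver_iff_isRegularIdeal_ker k π hπ).mpr ⟨rs, hreg, hrs.symm⟩
  · -- (3) forward
    rintro ⟨R, _, _, _, hess, rs, hmem, hreg, ⟨e⟩⟩
    let π : R →ₐ[k] S := e.symm.toAlgHom.comp (Ideal.Quotient.mkₐ k (Ideal.ofList rs))
    have hπ : Function.Surjective π :=
      e.symm.surjective.comp (Ideal.Quotient.mkₐ_surjective k _)
    have hker : RingHom.ker π.toRingHom = Ideal.ofList rs := by
      ext x
      rw [RingHom.mem_ker]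
      show e.symm (Ideal.Quotient.mk _ x) = 0 ↔ _
      rw [map_eq_zero_iff e.symm e.symm.injective, Ideal.Quotient.eq_zero_iff_mem]
    refine ⟨R, inferInstance, inferInstance, inferInstance, hess, π, hπ, rs, hker, ?_⟩
    rw [ringKrullDim_eq_of_isCIOver_data k rs e]
    exact (ringKrullDim_add_length_eq_ringKrullDim_of_isRegular rs hreg).symm
  · -- (3) backward
    rintro ⟨R, _, _, _, hess, π, hπ, rs, hker, hdim⟩
    haveI := hess
    have hne : RingHom.ker π.toRingHom ≠ ⊤ := RingHom.ker_ne_top _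
    have hmem : ∀ x ∈ rs, x ∈ maximalIdeal R := fun x hx =>
      IsLocalRing.le_maximalIdeal hne (hker ▸ Ideal.subset_span hx)
    have hCM : LocCoh.IsCohenMacaulayModule R R := Groth.Agent.RegQuot.isCM_of_regular R
    have e : (R ⧸ Ideal.ofList rs) ≃+* S :=
      (Ideal.quotEquivOfEq hker.symm).trans
        (RingHom.quotientKerEquivOfSurjective (f := π.toRingHom) hπ)
    have hdS : ringKrullDim (R ⧸ Ideal.ofList rs) = ringKrullDim S := ringKrullDim_eq_of_ringEquiv e
    have hW : IsWeaklyRegular R rs := by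
      rw [(Groth.Agent.DepthLib.isCM_list rs R hCM hmem).1,
        Groth.Agent.DepthLib.supportDim_quot_smul_top_self,
        Module.supportDim_self_eq_ringKrullDim, hdS]
      exact hdim.symm
    refine (isCIOver_iff_isRegularIdeal_ker k π hπ).mpr ⟨rs, ⟨hW, ?_⟩, hker.symm⟩
    rw [smul_eq_mul, Ideal.mul_top, ← hker]
    exact fun h => hne h.symm

end main

end Groth.Agent.Lib.CIField
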