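import Mathlib
import Groth.Prelude.Def_RegImm
import Groth.Agent.Lib.SyntTA3_helper2
import Groth.Agent.Lib.FibKoszulSch_helper2

/-!
# Syntomic morphisms = flat + Koszul; fibrewise criterion for syntomic morphisms (helper2)
APPEND-ONLY once landed.
-/

set_option autoImplicit false
universe u

namespace Groth.Agent.Lib.SyntSch

open AlgebraicGeometry CategoryTheory CategoryTheory.Limits TopologicalSpace
open Groth.Agent.Lib.LCIComp Groth.Agent.Lib.KoszulAtLCI Groth.Agent.Lib.SyntTA
open Groth.Agent.Lib.FibKoszulSch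

theorem main9758 {X S : Scheme.{u}} (f : X ⟶ S) :
    (Flat f ∧ ∀ x : X, Synt.IsKoszulAt f x) ↔ Synt.IsSyntomicMor f := by
  constructor
  · rintro ⟨hfl, hk⟩ x
    haveI := hfl
    obtain ⟨V, hV, hxV, -⟩ := (Opens.isBasis_iff_nbhd.mp S.isBasis_affineOpens)
      (show f x ∈ (⊤ : S.Opens) from trivial)
    obtain ⟨U, hU, hUV, hxU, hl⟩ := exists_affine_isLCIHom f x (hk x) hV hxV
    refine ⟨⟨U, hU⟩, ⟨V, hV⟩, hUV, hxU, ?_⟩
    letI := (f.appLE V U hUV).hom.toAlgebra
    exact isSyntomic_of_flat_of_isLCI _ _ (f.flat_appLE hV hU hUV) hl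
  · intro h
    refine ⟨?_, fun x => ?_⟩
    · rw [HasRingHomProperty.iff_exists_appLE (P := @Flat)
        (RingHom.Flat.stableUnderComposition.stableUnderCompositionWithLocalizationAway
          RingHom.Flat.holdsForLocalizationAway).left]
      intro x
      obtain ⟨U, V, e, hx, hs⟩ := h x
      exact ⟨V, U, hx, e, hs.1⟩
    · obtain ⟨U, V, e, hx, hs⟩ := h x
      letI := (f.appLE V.1 U.1 e).hom.toAlgebra
      exact koszulAt_of_isLCIHom f x U.1 V.1 U.2 V.2 e hx (isLCI_of_isSyntomic _ _ hs)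

theorem main9365 {X S : Scheme.{u}} (f : X ⟶ S) [Flat f] [LocallyOfFinitePresentation f]
    (hfib : ∀ s : S, Synt.IsSyntomicMor (f.fiberToSpecResidueField s)) :
    Synt.IsSyntomicMor f := by
  rw [← main9758]
  refine ⟨inferInstance, fun x => ?_⟩
  have hk' : Synt.IsKoszulAt (f.fiberToSpecResidueField (f x)) (f.asFiber x) :=
    ((main9758 _).mpr (hfib (f x))).2 _
  haveI : Flat (f ≫ 𝟙 S) := by rw [Category.comp_id]; infer_instance
  haveI : LocallyOfFinitePresentation (f ≫ 𝟙 S) := by rw [Category.comp_id]; infer_instance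
  have hY : IsPullback (S.fromSpecResidueField (f x)) (𝟙 _) (𝟙 S) (S.fromSpecResidueField (f x)) :=
    IsPullback.of_id_snd
  have hX : IsPullback (f.fiberι (f x)) (f.fiberToSpecResidueField (f x) ≫ 𝟙 _) (f ≫ 𝟙 S)
      (S.fromSpecResidueField (f x)) := by
    rw [Category.comp_id, Category.comp_id]
    exact IsPullback.of_hasPullback f (S.fromSpecResidueField (f x))
  have key := (koszulAt_iff_baseChange f (𝟙 S) (S.fromSpecResidueField (f x))
    (S.fromSpecResidueField (f x)) (𝟙 _) hY (f.fiberι (f x)) (f.fiberToSpecResidueField (f x)) hX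
    (f.fiber_fac (f x)) (f.asFiber x)).mp hk'
  rw [Scheme.Hom.fiberι_asFiber] at key
  exact key

end Groth.Agent.Lib.SyntSch
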