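import Mathlib
import Groth.Prelude.Def_RegImm
import Groth.Agent.Lib.SyntSch1_helper2
import Groth.Agent.Lib.LCIZar_helper2
import Groth.Agent.Lib.CancelSch_helper2

/-!
# Syntomic morphisms: all affine pairs, smooth source/target, fpqc descent (helper2)
APPEND-ONLY once landed.
-/

set_option autoImplicit false
universe u

namespace Groth.Agent.Lib.SyntSch

open AlgebraicGeometry CategoryTheory CategoryTheory.Limits TopologicalSpace MorphismProperty
open Groth.Agent.Lib.LCIComp Groth.Agent.Lib.KoszulAtLCI Groth.Agent.Lib.SyntTA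
open Groth.Agent.Lib.FibKoszulSch

theorem main9363 {X S : Scheme.{u}} (f : X ⟶ S) :
    Synt.IsSyntomicMor f ↔
      ∀ (U : X.affineOpens) (V : S.affineOpens) (e : U.1 ≤ f ⁻¹ᵁ V.1),
        letI := (f.appLE V.1 U.1 e).hom.toAlgebra
        Synt.IsSyntomic Γ(S, V.1) Γ(X, U.1) := by
  constructor
  · intro h U V e
    obtain ⟨hfl, hk⟩ := (main9758 f).mpr h
    haveI := hfl
    letI := (f.appLE V.1 U.1 e).hom.toAlgebra
    exact isSyntomic_of_flat_of_isLCI _ _ (f.flat_appLE V.2 U.2 e)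
      (lci_of_koszulAt f hk U.1 V.1 U.2 V.2 e)
  · intro h x
    obtain ⟨V, hV, hxV, -⟩ := (Opens.isBasis_iff_nbhd.mp S.isBasis_affineOpens)
      (show f x ∈ (⊤ : S.Opens) from trivial)
    obtain ⟨U, hU, hxU, hUV⟩ := (Opens.isBasis_iff_nbhd.mp X.isBasis_affineOpens)
      (show x ∈ f ⁻¹ᵁ V from hxV)
    exact ⟨⟨U, hU⟩, ⟨V, hV⟩, hUV, hxU, h ⟨U, hU⟩ ⟨V, hV⟩ hUV⟩

theorem main19857 {X Y S : Scheme.{u}}
    (p : X ⟶ S) (q : Y ⟶ S) [Smooth p] [Smooth q] (f : X ⟶ Y) (hf : f ≫ q = p) [Flat f] :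
    Synt.IsSyntomicMor f := by
  rw [← main9758]
  refine ⟨inferInstance, ?_⟩
  apply Groth.Agent.Lib.CancelSch.main9729 f q
  intro x
  rw [hf]
  exact Groth.Agent.Lib.LCIZar.koszulAt_of_smooth p x

lemma ringHom_flat_codescendsAlong_faithfullyFlat' :
    RingHom.CodescendsAlong RingHom.Flat RingHom.FaithfullyFlat := by
  refine .mk _ RingHom.Flat.respectsIso fun R S T _ _ _ _ _ h h' ↦ ?_
  rw [RingHom.flat_algebraMap_iff] at h' ⊢
  rw [RingHom.faithfullyFlat_algebraMap_iff] at h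
  exact Module.Flat.of_flat_tensorProduct R T S

theorem flat_descendsAlong' : DescendsAlong @Flat (@Surjective ⊓ @Flat ⊓ @QuasiCompact) :=
  HasRingHomProperty.descendsAlong_flat ringHom_flat_codescendsAlong_faithfullyFlat'

theorem main9848 {X Y Y' : Scheme.{u}} (f : X ⟶ Y) (g : Y' ⟶ Y)
    [Flat g] [Surjective g] [QuasiCompact g] (h : Synt.IsSyntomicMor (pullback.snd f g)) :
    Synt.IsSyntomicMor f := by
  obtain ⟨hfl, hk⟩ := (main9758 _).mpr h
  rw [← main9758]
  refine ⟨?_, ?_⟩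
  · haveI := flat_descendsAlong'.{u}
    exact MorphismProperty.of_pullback_snd_of_descendsAlong (P := @Flat)
      (Q := (@Surjective ⊓ @Flat ⊓ @QuasiCompact)) (f := f) (g := g)
      ⟨⟨inferInstance, inferInstance⟩, inferInstance⟩ hfl
  · exact main8662 f g (pullback.snd f g) (pullback.fst f g) (IsPullback.of_hasPullback f g) hk

end Groth.Agent.Lib.SyntSch
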