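import Mathlib
import Groth.Prelude.Def_RegImm
import Groth.Prelude.Def_CAlg
import Groth.Agent.Lib.SyntSch2_helper2
import Groth.Agent.Lib.SyntCM1_helper2
import Groth.Agent.Lib.FlatCM2_helper9
import Groth.Agent.Lib.CIField2_helper2

/-!
# Cohen–Macaulayness is local in the syntomic topology (helper2): S9862.
APPEND-ONLY once landed.
-/

set_option autoImplicit false
universe u

namespace Groth.Agent.Lib.SyntCMDesc

open AlgebraicGeometry CategoryTheory TopologicalSpace
open Groth.Agent.Lib.SyntSch Groth.Agent.FlatCM Groth.Agent.Lib.CIField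

variable {X S : Scheme.{u}}

theorem flat_of_isSyntomicMor (f : X ⟶ S) (h : Synt.IsSyntomicMor f) : Flat f :=
  ((main9758 f).mpr h).1

theorem lfp_of_isSyntomicMor (f : X ⟶ S) (h : Synt.IsSyntomicMor f) :
    LocallyOfFinitePresentation f := by
  rw [HasRingHomProperty.iff_exists_appLE (P := @LocallyOfFinitePresentation)
    (RingHom.finitePresentation_stableUnderComposition.stableUnderCompositionWithLocalizationAway
      RingHom.finitePresentation_holdsForLocalizationAway).left]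
  intro x
  obtain ⟨U, V, e, hx, hs⟩ := h x
  exact ⟨V, U, hx, e, hs.2.1⟩

/-- pointwise form of helper7's descent of "locally Noetherian" along flat open maps. -/
theorem exists_noetherian_affine_nhd {W V : Scheme.{u}} (k : W ⟶ V) [Flat k]
    (hk : IsOpenMap k) [IsLocallyNoetherian W] (w : W) :
    ∃ U : V.affineOpens, k w ∈ U.1 ∧ IsNoetherianRing Γ(V, U.1) := by
  obtain ⟨V', hV', hvV', -⟩ := (Opens.isBasis_iff_nbhd.mp V.isBasis_affineOpens)
    (show k w ∈ (⊤ : V.Opens) from trivial)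
  obtain ⟨O', hO', hwO', hO'le⟩ := (Opens.isBasis_iff_nbhd.mp W.isBasis_affineOpens)
    (show w ∈ k ⁻¹ᵁ V' from hvV')
  let I : V.Opens := ⟨k '' (O' : Set W), hk _ O'.isOpen⟩
  have hwI : k w ∈ I := ⟨w, hwO', rfl⟩
  obtain ⟨g, hg1, hg2⟩ := IsAffineOpen.exists_basicOpen_le hV' (V := I) ⟨k w, hwI⟩ hvV'
  have hV'' : IsAffineOpen (V.basicOpen g) := IsAffineOpen.basicOpen hV' g
  have hO : IsAffineOpen (W.basicOpen (k.appLE V' O' hO'le g)) := IsAffineOpen.basicOpen hO' _
  have hOeq : W.basicOpen (k.appLE V' O' hO'le g) = O' ⊓ k ⁻¹ᵁ (V.basicOpen g) :=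
    Scheme.basicOpen_appLE k O' V' hO'le g
  have hOle : W.basicOpen (k.appLE V' O' hO'le g) ≤ k ⁻¹ᵁ (V.basicOpen g) := by
    rw [hOeq]
    exact inf_le_right
  have hflat : (k.appLE (V.basicOpen g) _ hOle).hom.Flat := Flat.flat_appLE k hV'' hO hOle
  have hsurj : Function.Surjective (Spec.map (k.appLE (V.basicOpen g) _ hOle)) := by
    intro p
    have hx : hV''.fromSpec p ∈ V.basicOpen g := by
      have : hV''.fromSpec p ∈ Set.range hV''.fromSpec := ⟨p, rfl⟩
      rwa [IsAffineOpen.range_fromSpec] at this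
    obtain ⟨w', hw'O', hw'⟩ := hg1 hx
    have hw'O : w' ∈ W.basicOpen (k.appLE V' O' hO'le g) := by
      rw [hOeq]
      refine ⟨hw'O', ?_⟩
      change k w' ∈ V.basicOpen g
      rw [hw']
      exact hx
    have : w' ∈ Set.range hO.fromSpec := by
      rw [IsAffineOpen.range_fromSpec]
      exact hw'O
    obtain ⟨q, rfl⟩ := this
    refine ⟨q, ?_⟩
    apply hV''.fromSpec.isOpenEmbedding.injective
    rw [← Scheme.Hom.comp_apply, IsAffineOpen.SpecMap_appLE_fromSpec k hV'' hO hOle,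
      Scheme.Hom.comp_apply, hw']
  have hff : (k.appLE (V.basicOpen g) _ hOle).hom.FaithfullyFlat :=
    RingHom.FaithfullyFlat.iff_flat_and_comap_surjective.2 ⟨hflat, hsurj⟩
  have : IsNoetherianRing Γ(W, W.basicOpen (k.appLE V' O' hO'le g)) :=
    IsLocallyNoetherian.component_noetherian ⟨_, hO⟩
  exact ⟨⟨V.basicOpen g, hV''⟩, hg2,
    Groth.Agent.Lib.AlgSpNoethDesc_helper7.isNoetherianRing_of_faithfullyFlat _ hff⟩

/-- along a syntomic morphism to a locally Noetherian scheme, the local ring at a point is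
Cohen–Macaulay iff the local ring of its image is. -/
theorem cm_stalk_iff (f : X ⟶ S) (hf : Synt.IsSyntomicMor f) [IsLocallyNoetherian S] (x : X) :
    LocCoh.IsCohenMacaulayLocalRing (X.presheaf.stalk x) ↔
      LocCoh.IsCohenMacaulayLocalRing (S.presheaf.stalk (f x)) := by
  obtain ⟨V, hV, hxV, -⟩ := (Opens.isBasis_iff_nbhd.mp S.isBasis_affineOpens)
    (show f x ∈ (⊤ : S.Opens) from trivial)
  obtain ⟨U, hU, hxU, e⟩ := (Opens.isBasis_iff_nbhd.mp X.isBasis_affineOpens)
    (show x ∈ f ⁻¹ᵁ V from hxV)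
  letI algAB : Algebra Γ(S, V) Γ(X, U) := (f.appLE V U e).hom.toAlgebra
  have hs : Synt.IsSyntomic Γ(S, V) Γ(X, U) := (main9363 f).mp hf ⟨U, hU⟩ ⟨V, hV⟩ e
  haveI : IsNoetherianRing Γ(S, V) := IsLocallyNoetherian.component_noetherian ⟨V, hV⟩
  haveI := hs.2.1
  haveI : IsNoetherianRing Γ(X, U) := Algebra.FiniteType.isNoetherianRing Γ(S, V) Γ(X, U)
  haveI := hs.1
  set Q : Ideal Γ(X, U) := (hU.primeIdealOf ⟨x, hxU⟩).asIdeal with hQ
  haveI hQp : Q.IsPrime := (hU.primeIdealOf ⟨x, hxU⟩).isPrime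
  set P : Ideal Γ(S, V) := (hV.primeIdealOf ⟨f x, hxV⟩).asIdeal with hP
  haveI hPp : P.IsPrime := (hV.primeIdealOf ⟨f x, hxV⟩).isPrime
  have hcomap : Q.comap (algebraMap Γ(S, V) Γ(X, U)) = P :=
    congrArg PrimeSpectrum.asIdeal (IsAffineOpen.comap_primeIdealOf_appLE V hV U hU e hxU)
  have h1 := isCM_localization_iff Γ(S, V) Γ(X, U) Q
  have hfib : LocCoh.IsCohenMacaulayLocalRing (EGA4.FibLocRing Γ(S, V) Γ(X, U) Q) := by
    haveI : LocCoh.IsCohenMacaulayRing
        ((Q.comap (algebraMap Γ(S, V) Γ(X, U))).Fiber Γ(X, U)) :=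
      Groth.Agent.Lib.SyntCM.main9142 _ _ (hs.2.2 ⟨Q.comap (algebraMap Γ(S, V) Γ(X, U)),
        inferInstance⟩)
    exact isCM_fibLocRing_of_fiber Γ(S, V) Γ(X, U) Q
  letI : Algebra Γ(X, U) (X.presheaf.stalk x) :=
    TopCat.Presheaf.algebra_section_stalk X.presheaf ⟨x, hxU⟩
  haveI := hU.isLocalization_stalk ⟨x, hxU⟩
  let eX : X.presheaf.stalk x ≃+* Localization.AtPrime Q :=
    (IsLocalization.algEquiv Q.primeCompl (X.presheaf.stalk x) (Localization.AtPrime Q)).toRingEquiv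
  letI : Algebra Γ(S, V) (S.presheaf.stalk (f x)) :=
    TopCat.Presheaf.algebra_section_stalk S.presheaf ⟨f x, hxV⟩
  haveI := hV.isLocalization_stalk ⟨f x, hxV⟩
  let eS : S.presheaf.stalk (f x) ≃+* Localization.AtPrime P :=
    (IsLocalization.algEquiv P.primeCompl (S.presheaf.stalk (f x))
      (Localization.AtPrime P)).toRingEquiv
  obtain ⟨eP⟩ := algEquiv_atPrime_of_eq (Q.comap (algebraMap Γ(S, V) Γ(X, U))) P hcomap
  constructor
  · intro h
    haveI := h
    haveI h2 : LocCoh.IsCohenMacaulayLocalRing (Localization.AtPrime Q) :=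
      isCMLocalRing_of_ringEquiv eX
    haveI h3 := (h1.mp h2).1
    haveI h4 : LocCoh.IsCohenMacaulayLocalRing (Localization.AtPrime P) :=
      isCMLocalRing_of_ringEquiv eP.toRingEquiv
    exact isCMLocalRing_of_ringEquiv eS.symm
  · intro h
    haveI := h
    haveI h2 : LocCoh.IsCohenMacaulayLocalRing (Localization.AtPrime P) :=
      isCMLocalRing_of_ringEquiv eS
    haveI h3 : LocCoh.IsCohenMacaulayLocalRing
        (Localization.AtPrime (Q.comap (algebraMap Γ(S, V) Γ(X, U)))) :=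
      isCMLocalRing_of_ringEquiv eP.symm.toRingEquiv
    haveI h4 := h1.mpr ⟨h3, hfib⟩
    exact isCMLocalRing_of_ringEquiv eX.symm

theorem main9862 {ι : Type u} {S : Scheme.{u}} {X : ι → Scheme.{u}} (f : ∀ i, X i ⟶ S)
    (hsurj : ∀ s : S, ∃ i, s ∈ Set.range (f i).base) (hsyn : ∀ i, Synt.IsSyntomicMor (f i)) :
    (IsLocallyNoetherian S ∧ ∀ s : S, LocCoh.IsCohenMacaulayLocalRing (S.presheaf.stalk s)) ↔
      ∀ i, IsLocallyNoetherian (X i) ∧
        ∀ x : X i, LocCoh.IsCohenMacaulayLocalRing ((X i).presheaf.stalk x) := by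
  constructor
  · rintro ⟨hN, hCM⟩ i
    haveI := hN
    haveI := lfp_of_isSyntomicMor (f i) (hsyn i)
    exact ⟨LocallyOfFiniteType.isLocallyNoetherian (f i),
      fun x => (cm_stalk_iff (f i) (hsyn i) x).mpr (hCM _)⟩
  · intro h
    have hN : IsLocallyNoetherian S := by
      have key : ∀ s : S, ∃ U : S.affineOpens, s ∈ U.1 ∧ IsNoetherianRing Γ(S, U.1) := by
        intro s
        obtain ⟨i, x, hx⟩ := hsurj s
        haveI := (h i).1
        haveI := flat_of_isSyntomicMor (f i) (hsyn i)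
        haveI := lfp_of_isSyntomicMor (f i) (hsyn i)
        obtain ⟨U, hU1, hU2⟩ := exists_noetherian_affine_nhd (f i) (f i).isOpenMap x
        exact ⟨U, hx ▸ hU1, hU2⟩
      choose U hU1 hU2 using key
      refine isLocallyNoetherian_of_affine_cover (S := U) ?_ hU2
      rw [eq_top_iff]
      intro v _
      exact Opens.mem_iSup.2 ⟨v, hU1 v⟩
    refine ⟨hN, fun s => ?_⟩
    obtain ⟨i, x, hx⟩ := hsurj s
    haveI := hN
    have := (cm_stalk_iff (f i) (hsyn i) x).mp ((h i).2 x)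
    exact hx ▸ this

end Groth.Agent.Lib.SyntCMDesc
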