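import Mathlib
import Groth.Agent.Lib.FlatFibre_helper9
import Groth.Agent.Lib.McCoy_helper8

/-!
# Relative global complete intersections, part 1 (helper2): regular sequences with flat quotients,
elementwise; descent of finitely many polynomials to a finitely generated subring.
APPEND-ONLY once landed.
-/

set_option autoImplicit false
universe u

namespace Groth.Agent.Lib.RelGCI

open RingTheory.Sequence TensorProduct
open Groth.Agent.Lib.FlatFibre

section selfreg

variable {B : Type*} [CommRing B]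

lemma isWeaklyRegular_self_iff (l : List B) :
    IsWeaklyRegular B l ↔ ∀ (i : ℕ) (hi : i < l.length) (b : B),
      l[i] * b ∈ Ideal.ofList (l.take i) → b ∈ Ideal.ofList (l.take i) := by
  rw [isWeaklyRegular_iff]
  refine forall_congr' fun i => forall_congr' fun hi => ?_
  rw [isSMulRegular_quotient_iff_mem_of_smul_mem]
  have h : (Ideal.ofList (l.take i) • (⊤ : Submodule B B)) = Ideal.ofList (l.take i) := by
    rw [smul_eq_mul, Ideal.mul_top]
  rw [h]
  rfl

lemma ofList_take_succ (l : List B) (i : ℕ) (hi : i < l.length) :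
    Ideal.ofList (l.take (i + 1)) = Ideal.ofList (l.take i) ⊔ Ideal.span {l[i]} := by
  rw [List.take_succ_eq_append_getElem hi, Ideal.ofList_append, Ideal.ofList_singleton]

lemma isWeaklyRegular_take {R M : Type*} [CommRing R] [AddCommGroup M] [Module R M] (rs : List R)
    (h : IsWeaklyRegular M rs) (i : ℕ) : IsWeaklyRegular M (rs.take i) := by
  have h2 : IsWeaklyRegular M (rs.take i ++ rs.drop i) := by
    rw [List.take_append_drop]
    exact h
  exact ((isWeaklyRegular_append_iff M (rs.take i) (rs.drop i)).mp h2).1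

end selfreg

section tlemma

variable {R B : Type*} [CommRing R] [CommRing B] [Algebra R B]

lemma mk_mem_ideal_smul_top_iff (J 𝔞 : Ideal B) (b : B) :
    (Ideal.Quotient.mk J b) ∈ (𝔞 • (⊤ : Submodule B (B ⧸ J))) ↔ b ∈ J ⊔ 𝔞 := by
  have h1 : (𝔞 • (⊤ : Submodule B (B ⧸ J))) = Submodule.map (Submodule.mkQ J) 𝔞 := by
    have h2 : (⊤ : Submodule B (B ⧸ J)) = Submodule.map (Submodule.mkQ J) ⊤ := by
      rw [Submodule.map_top, Submodule.range_mkQ]
    rw [h2, ← Submodule.map_smul'', smul_eq_mul, Ideal.mul_top]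
  rw [h1]
  constructor
  · rintro ⟨a, ha, hab⟩
    have hab' : Ideal.Quotient.mk J a = Ideal.Quotient.mk J b := hab
    have h3 : b - a ∈ J := by
      rw [← Ideal.Quotient.eq]
      exact hab'.symm
    have hb : b = (b - a) + a := by ring
    rw [hb]
    exact Ideal.add_mem _ (Ideal.mem_sup_left h3) (Ideal.mem_sup_right ha)
  · intro hb
    obtain ⟨j, hj, a, ha, rfl⟩ := Submodule.mem_sup.mp hb
    refine ⟨a, ha, ?_⟩
    show Ideal.Quotient.mk J a = Ideal.Quotient.mk J (j + a)
    rw [map_add, Ideal.Quotient.eq_zero_iff_mem.mpr hj, zero_add]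

lemma mk_mem_smul_top_iff (J : Ideal B) (I : Ideal R) (b : B) :
    (Ideal.Quotient.mk J b) ∈ (I • (⊤ : Submodule R (B ⧸ J))) ↔
      b ∈ J ⊔ I.map (algebraMap R B) := by
  rw [← mk_mem_ideal_smul_top_iff]
  constructor
  · exact smul_top_le_map_smul_top I _
  · exact map_smul_top_le_smul_top I _

end tlemma

section step

variable {R B : Type*} [CommRing R] [CommRing B] [Algebra R B] (J : Ideal B) (y : B)

/-- multiplication by `y` on `B ⧸ J`, as an `R`-linear map -/
noncomputable def mulQ : (B ⧸ J) →ₗ[R] (B ⧸ J) :=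
  LinearMap.mulLeft R (Ideal.Quotient.mk J y)

lemma mulQ_mk (b : B) : mulQ (R := R) J y (Ideal.Quotient.mk J b) = Ideal.Quotient.mk J (y * b) := by
  unfold mulQ
  rw [LinearMap.mulLeft_apply, map_mul]

/-- the projection `B ⧸ J → B ⧸ (J ⊔ (y))`, as an `R`-linear map -/
noncomputable def facQ : (B ⧸ J) →ₗ[R] (B ⧸ (J ⊔ Ideal.span {y})) :=
  (Ideal.Quotient.factorₐ R (le_sup_left : J ≤ J ⊔ Ideal.span {y})).toLinearMap

lemma facQ_mk (b : B) :
    facQ (R := R) J y (Ideal.Quotient.mk J b) = Ideal.Quotient.mk (J ⊔ Ideal.span {y}) b := rfl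

lemma facQ_surjective : Function.Surjective (facQ (R := R) J y) := by
  intro z
  obtain ⟨b, rfl⟩ := Ideal.Quotient.mk_surjective z
  exact ⟨Ideal.Quotient.mk J b, facQ_mk J y b⟩

lemma exact_mulQ_facQ : Function.Exact (mulQ (R := R) J y) (facQ (R := R) J y) := by
  intro z
  obtain ⟨b, rfl⟩ := Ideal.Quotient.mk_surjective z
  rw [facQ_mk, Ideal.Quotient.eq_zero_iff_mem]
  constructor
  · intro hb
    obtain ⟨j, hj, a, ha, rfl⟩ := Submodule.mem_sup.mp hb
    obtain ⟨c, rfl⟩ := Ideal.mem_span_singleton'.mp ha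
    refine ⟨Ideal.Quotient.mk J c, ?_⟩
    rw [mulQ_mk, map_add, Ideal.Quotient.eq_zero_iff_mem.mpr hj, zero_add, mul_comm]
  · rintro ⟨w, hw⟩
    obtain ⟨c, rfl⟩ := Ideal.Quotient.mk_surjective w
    rw [mulQ_mk] at hw
    have h3 : b - y * c ∈ J := by
      rw [← Ideal.Quotient.eq]
      exact hw.symm
    have hb : b = (b - y * c) + y * c := by ring
    rw [hb]
    exact Ideal.add_mem _ (Ideal.mem_sup_left h3)
      (Ideal.mem_sup_right (Ideal.mul_mem_right _ _ (Ideal.subset_span rfl)))

/-- (E): regular + flat cokernel gives the elementwise statement modulo every ideal of `R`. -/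
theorem mem_of_mul_mem_step [Module.Flat R (B ⧸ (J ⊔ Ideal.span {y}))]
    (hreg : ∀ b : B, y * b ∈ J → b ∈ J) (I : Ideal R) (b : B)
    (h : y * b ∈ J ⊔ I.map (algebraMap R B)) : b ∈ J ⊔ I.map (algebraMap R B) := by
  have hv : Function.Injective (mulQ (R := R) J y) := by
    rw [injective_iff_map_eq_zero]
    intro z hz
    obtain ⟨c, rfl⟩ := Ideal.Quotient.mk_surjective z
    rw [mulQ_mk, Ideal.Quotient.eq_zero_iff_mem] at hz
    rw [Ideal.Quotient.eq_zero_iff_mem]
    exact hreg c hz
  have hinj := LinearMap.lTensor_injective_of_exact_of_flat (facQ (R := R) J y)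
    (facQ_surjective J y) (mulQ (R := R) J y) hv (exact_mulQ_facQ J y) (R ⧸ I)
  rw [lTensor_quot_injective_iff] at hinj
  have h1 := hinj (Ideal.Quotient.mk J b) (by
    rw [mulQ_mk]
    exact (mk_mem_smul_top_iff J I _).mpr h)
  exact (mk_mem_smul_top_iff J I b).mp h1

/-- (F): the elementwise statement modulo every ideal gives flatness of the next quotient. -/
theorem flat_step [Module.Flat R (B ⧸ J)]
    (h : ∀ (I : Ideal R) (b : B), y * b ∈ J ⊔ I.map (algebraMap R B) →
      b ∈ J ⊔ I.map (algebraMap R B)) :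
    Module.Flat R (B ⧸ (J ⊔ Ideal.span {y})) := by
  have h1 : Module.Flat R ((B ⧸ J) ⧸ LinearMap.range (mulQ (R := R) J y)) := by
    apply Groth.Agent.Lib.McCoyH8.flat_coker
    intro I
    rw [lTensor_quot_injective_iff]
    intro z hz
    obtain ⟨c, rfl⟩ := Ideal.Quotient.mk_surjective z
    rw [mulQ_mk] at hz
    exact (mk_mem_smul_top_iff J I c).mpr (h I c ((mk_mem_smul_top_iff J I _).mp hz))
  have hker : LinearMap.ker (facQ (R := R) J y) = LinearMap.range (mulQ (R := R) J y) :=
    (LinearMap.exact_iff.mp (exact_mulQ_facQ J y))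
  let e : ((B ⧸ J) ⧸ LinearMap.range (mulQ (R := R) J y)) ≃ₗ[R] (B ⧸ (J ⊔ Ideal.span {y})) :=
    (Submodule.quotEquivOfEq _ _ hker.symm).trans
      ((facQ (R := R) J y).quotKerEquivOfSurjective (facQ_surjective J y))
  exact Module.Flat.of_linearEquiv e.symm

end step

section lists

variable {R B : Type*} [CommRing R] [CommRing B] [Algebra R B]

/-- (E) for lists. -/
theorem mem_of_mul_mem_of_flat (l : List B) (hreg : IsWeaklyRegular B l)
    (hflat : ∀ i ≤ l.length, Module.Flat R (B ⧸ Ideal.ofList (l.take i)))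
    (I : Ideal R) (i : ℕ) (hi : i < l.length) (b : B)
    (h : l[i] * b ∈ Ideal.ofList (l.take i) ⊔ I.map (algebraMap R B)) :
    b ∈ Ideal.ofList (l.take i) ⊔ I.map (algebraMap R B) := by
  haveI : Module.Flat R (B ⧸ (Ideal.ofList (l.take i) ⊔ Ideal.span {l[i]})) := by
    rw [← ofList_take_succ l i hi]
    exact hflat (i + 1) hi
  exact mem_of_mul_mem_step (Ideal.ofList (l.take i)) l[i]
    ((isWeaklyRegular_self_iff l).mp hreg i hi) I b h

/-- (F) for lists. -/
theorem flat_quot_of_forall (l : List B) [Module.Flat R B]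
    (h : ∀ (I : Ideal R) (i : ℕ) (hi : i < l.length) (b : B),
      l[i] * b ∈ Ideal.ofList (l.take i) ⊔ I.map (algebraMap R B) →
        b ∈ Ideal.ofList (l.take i) ⊔ I.map (algebraMap R B)) :
    ∀ i ≤ l.length, Module.Flat R (B ⧸ Ideal.ofList (l.take i)) := by
  intro i
  induction i with
  | zero =>
    intro _
    rw [List.take_zero, Ideal.ofList_nil]
    exact Module.Flat.of_linearEquiv (AlgEquiv.quotientBot R B).toLinearEquiv
  | succ i ih =>
    intro hi
    haveI := ih (Nat.le_of_succ_le hi)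
    rw [ofList_take_succ l i hi]
    exact flat_step (Ideal.ofList (l.take i)) l[i] (fun I b hb => h I i hi b hb)

end lists

section coeffs

variable {R : Type u} [CommRing R] {σ : Type*}

/-- finitely many polynomials have coefficients in a finitely generated subring -/
theorem exists_fg_subalgebra (s : Finset (MvPolynomial σ R)) :
    ∃ R₁ : Subalgebra ℤ R, R₁.FG ∧
      ∀ f ∈ s, f ∈ Set.range (MvPolynomial.map (algebraMap R₁ R)) := by
  classical
  refine ⟨Algebra.adjoin ℤ ((s.biUnion fun f => f.coeffs : Finset R) : Set R),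
    Subalgebra.fg_adjoin_finset _, fun f hf => ?_⟩
  rw [MvPolynomial.mem_range_map_iff_coeffs_subset]
  intro a ha
  refine ⟨⟨a, Algebra.subset_adjoin ?_⟩, rfl⟩
  rw [Finset.coe_biUnion, Set.mem_iUnion₂]
  exact ⟨f, hf, ha⟩

/-- descent of membership in `(L) + I·R[x]` to any subring containing enough coefficients -/
theorem exists_finset_descent (I : Ideal R) (L : List (MvPolynomial σ R)) :
    ∀ x : MvPolynomial σ R, x ∈ Ideal.ofList L ⊔ I.map MvPolynomial.C →
    ∃ T : Finset (MvPolynomial σ R), ∀ R₁ : Subalgebra ℤ R,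
      (∀ f ∈ T, f ∈ Set.range (MvPolynomial.map (algebraMap R₁ R))) →
      ∀ (L' : List (MvPolynomial σ R₁)) (x' : MvPolynomial σ R₁),
        L'.map (MvPolynomial.map (algebraMap R₁ R)) = L →
        MvPolynomial.map (algebraMap R₁ R) x' = x →
        x' ∈ Ideal.ofList L' ⊔ (I.comap (algebraMap R₁ R)).map MvPolynomial.C := by
  classical
  induction L with
  | nil =>
    intro x hx
    refine ⟨∅, fun R₁ _ L' x' hL' hx' => ?_⟩
    rw [Ideal.ofList_nil, bot_sup_eq] at hx
    have hL'nil : L' = [] := List.map_eq_nil_iff.mp hL'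
    rw [hL'nil, Ideal.ofList_nil, bot_sup_eq, MvPolynomial.mem_map_C_iff]
    intro m
    rw [Ideal.mem_comap, ← MvPolynomial.coeff_map, hx']
    exact MvPolynomial.mem_map_C_iff.mp hx m
  | cons a L ih =>
    intro x hx
    rw [Ideal.ofList_cons, sup_assoc] at hx
    obtain ⟨z, hz, y, hy, rfl⟩ := Submodule.mem_sup.mp hx
    obtain ⟨b, rfl⟩ := Ideal.mem_span_singleton'.mp hz
    obtain ⟨T₀, hT₀⟩ := ih y hy
    refine ⟨insert b T₀, fun R₁ hR₁ L' x' hL' hx' => ?_⟩
    obtain ⟨b', hb'⟩ := hR₁ b (Finset.mem_insert_self _ _)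
    match L', hL' with
    | a' :: L₀', hL' =>
      rw [List.map_cons, List.cons.injEq] at hL'
      obtain ⟨ha', hL₀'⟩ := hL'
      have hy' : MvPolynomial.map (algebraMap R₁ R) (x' - b' * a') = y := by
        rw [map_sub, map_mul, hx', hb', ha']
        ring
      have h1 := hT₀ R₁ (fun f hf => hR₁ f (Finset.mem_insert_of_mem hf)) L₀' (x' - b' * a')
        hL₀' hy'
      have hx'' : x' = b' * a' + (x' - b' * a') := by ring
      rw [hx'', Ideal.ofList_cons, sup_assoc]
      exact Ideal.add_mem _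
        (Ideal.mem_sup_left (Ideal.mul_mem_left _ _ (Ideal.subset_span rfl)))
        (Ideal.mem_sup_right h1)

/-- lifting a list along a map, elementwise in the range -/
theorem exists_list_map_eq {α β : Type*} (f : α → β) (l : List β)
    (h : ∀ x ∈ l, x ∈ Set.range f) : ∃ l' : List α, l'.map f = l := by
  induction l with
  | nil => exact ⟨[], rfl⟩
  | cons a l ih =>
    obtain ⟨a', ha'⟩ := h a List.mem_cons_self
    obtain ⟨l', hl'⟩ := ih (fun x hx => h x (List.mem_cons_of_mem _ hx))
    exact ⟨a' :: l', by rw [List.map_cons, ha', hl']⟩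

end coeffs

end Groth.Agent.Lib.RelGCI
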