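import Mathlib
import Groth.Agent.Lib.RelGCI1_helper2
import Groth.Agent.Lib.FibKoszul3_helper2

/-!
# Relative global complete intersections, part 2 (helper2): the Noetherian fibrewise criterion
for sequences in a polynomial ring (regular + all quotients flat).
APPEND-ONLY once landed.
-/

set_option autoImplicit false
universe u

namespace Groth.Agent.Lib.RelGCI

open RingTheory.Sequence TensorProduct IsLocalRing
open Groth.Agent.Lib.FibKoszul

section transport

theorem transport_prime {R₁ P : Type u} [CommRing R₁] [CommRing P] [Algebra R₁ P]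
    (𝔞 𝔟 : Ideal P) [𝔞.IsPrime] [𝔟.IsPrime] (h : 𝔞 = 𝔟) (l : List P)
    (H : IsWeaklyRegular (Localization.AtPrime 𝔞) (l.map (algebraMap P (Localization.AtPrime 𝔞))) ∧
      Module.Flat R₁ (Localization.AtPrime 𝔞 ⧸
        Ideal.ofList (l.map (algebraMap P (Localization.AtPrime 𝔞))))) :
    IsWeaklyRegular (Localization.AtPrime 𝔟) (l.map (algebraMap P (Localization.AtPrime 𝔟))) ∧
      Module.Flat R₁ (Localization.AtPrime 𝔟 ⧸
        Ideal.ofList (l.map (algebraMap P (Localization.AtPrime 𝔟)))) := by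
  subst h
  exact H

theorem flat_quot_of_flat_smul_top {R₁ Rp S : Type u} [CommRing R₁] [CommRing Rp] [CommRing S]
    [Algebra R₁ Rp] [Algebra Rp S] [Algebra R₁ S] [IsScalarTower R₁ Rp S] [Module.Flat R₁ Rp]
    (𝔏 : Ideal S) (h : Module.Flat Rp (S ⧸ (𝔏 • ⊤ : Submodule S S))) :
    Module.Flat R₁ (S ⧸ 𝔏) := by
  have hsub : (𝔏 • ⊤ : Submodule S S) = 𝔏 := by rw [smul_eq_mul, Ideal.mul_top]
  haveI := h
  haveI hFl2 : Module.Flat Rp (S ⧸ 𝔏) :=
    Module.Flat.of_linearEquiv ((Submodule.quotEquivOfEq _ _ hsub).restrictScalars Rp).symm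
  haveI : IsScalarTower R₁ Rp (S ⧸ 𝔏) := IsScalarTower.of_algebraMap_eq (fun x => by
    rw [IsScalarTower.algebraMap_apply R₁ S (S ⧸ 𝔏), IsScalarTower.algebraMap_apply R₁ Rp S,
      ← IsScalarTower.algebraMap_apply Rp S (S ⧸ 𝔏)])
  exact Module.Flat.trans R₁ Rp (S ⧸ 𝔏)

end transport

section noeth

variable {R₁ K : Type u} [CommRing R₁] [IsNoetherianRing R₁] [Field K] (κ : R₁ →+* K) (n : ℕ)

set_option maxHeartbeats 1600000 in
/-- the Noetherian core: the whole sequence. -/
theorem noeth_core_last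
    (𝔮K : Ideal (MvPolynomial (Fin n) K)) [𝔮K.IsPrime]
    (l : List (MvPolynomial (Fin n) R₁)) (hl : ∀ x ∈ l, MvPolynomial.map κ x ∈ 𝔮K)
    (hreg : IsWeaklyRegular (Localization.AtPrime 𝔮K)
      ((l.map (MvPolynomial.map κ)).map
        (algebraMap (MvPolynomial (Fin n) K) (Localization.AtPrime 𝔮K)))) :
    IsWeaklyRegular (Localization.AtPrime (𝔮K.comap (MvPolynomial.map κ)))
        (l.map (algebraMap (MvPolynomial (Fin n) R₁)
          (Localization.AtPrime (𝔮K.comap (MvPolynomial.map κ))))) ∧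
      Module.Flat R₁ (Localization.AtPrime (𝔮K.comap (MvPolynomial.map κ)) ⧸
        Ideal.ofList (l.map (algebraMap (MvPolynomial (Fin n) R₁)
          (Localization.AtPrime (𝔮K.comap (MvPolynomial.map κ)))))) := by
  classical
  letI algK : Algebra R₁ K := κ.toAlgebra
  have hκ : algebraMap R₁ K = κ := rfl
  haveI hp : (RingHom.ker (algebraMap R₁ K)).IsPrime := RingHom.ker_isPrime _
  let j : (RingHom.ker (algebraMap R₁ K)).ResidueField →ₐ[R₁] K :=
    Ideal.ResidueField.liftₐ (RingHom.ker (algebraMap R₁ K)) (Algebra.ofId R₁ K)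
      (fun x hx => hx)
      (fun r hr => by
        show IsUnit (algebraMap R₁ K r)
        rw [isUnit_iff_ne_zero]
        exact hr)
  let e : (MvPolynomial (Fin n) R₁) ⊗[R₁] K ≃+* MvPolynomial (Fin n) K :=
    (Algebra.TensorProduct.comm R₁ (MvPolynomial (Fin n) R₁) K).toRingEquiv.trans
      (MvPolynomial.algebraTensorAlgEquiv (σ := Fin n) R₁ K).toRingEquiv
  have he : ∀ y : MvPolynomial (Fin n) R₁, e (y ⊗ₜ[R₁] (1 : K)) = MvPolynomial.map κ y := by
    intro y
    show (MvPolynomial.algebraTensorAlgEquiv (σ := Fin n) R₁ K)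
      ((Algebra.TensorProduct.comm R₁ (MvPolynomial (Fin n) R₁) K) (y ⊗ₜ[R₁] (1 : K))) = _
    rw [Algebra.TensorProduct.comm_tmul, MvPolynomial.algebraTensorAlgEquiv_tmul, one_smul]
    rfl
  let 𝔮K' : Ideal ((MvPolynomial (Fin n) R₁) ⊗[R₁] K) :=
    𝔮K.comap (e : (MvPolynomial (Fin n) R₁) ⊗[R₁] K →+* MvPolynomial (Fin n) K)
  haveI h𝔮K' : 𝔮K'.IsPrime := Ideal.comap_isPrime _ _
  have hH : Submonoid.map (e : (MvPolynomial (Fin n) R₁) ⊗[R₁] K ≃+*
      MvPolynomial (Fin n) K).toMonoidHom 𝔮K'.primeCompl = 𝔮K.primeCompl := by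
    ext x
    constructor
    · rintro ⟨y, hy, rfl⟩
      exact hy
    · intro hx
      refine ⟨e.symm x, ?_, e.apply_symm_apply x⟩
      show e.symm x ∉ 𝔮K'
      intro h
      apply hx
      have : e (e.symm x) ∈ 𝔮K := h
      rwa [e.apply_symm_apply] at this
  let ε : Localization.AtPrime 𝔮K' ≃+* Localization.AtPrime 𝔮K :=
    IsLocalization.ringEquivOfRingEquiv (Localization.AtPrime 𝔮K') (Localization.AtPrime 𝔮K) e hH
  have hε : ∀ z, ε (algebraMap _ (Localization.AtPrime 𝔮K') z) =
      algebraMap _ (Localization.AtPrime 𝔮K) (e z) :=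
    fun z => IsLocalization.ringEquivOfRingEquiv_eq hH z
  have hW' : IsWeaklyRegular (Localization.AtPrime 𝔮K')
      (l.map (fun y => algebraMap ((MvPolynomial (Fin n) R₁) ⊗[R₁] K)
        (Localization.AtPrime 𝔮K') (y ⊗ₜ[R₁] (1 : K)))) := by
    refine (AddEquiv.isWeaklyRegular_congr (e := ε.toAddEquiv) ?_).mpr hreg
    rw [List.forall₂_map_left_iff, List.map_map, List.forall₂_map_right_iff, List.forall₂_same]
    intro y _ x
    show ε (algebraMap _ _ (y ⊗ₜ[R₁] (1 : K)) • x) =
      (algebraMap _ (Localization.AtPrime 𝔮K) (MvPolynomial.map κ y)) • ε x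
    rw [smul_eq_mul, smul_eq_mul, map_mul, hε, he]
  have hK' := (Groth.Agent.Lib.KoszulTopH7.koszulRegular _ hW').1
  have hl' : ∀ x ∈ l, x ∈ ctr (RingHom.ker (algebraMap R₁ K))
      (primeKappa (RingHom.ker (algebraMap R₁ K)) j 𝔮K') := by
    intro x hx
    rw [mem_ctr_iff]
    show e (x ⊗ₜ[R₁] (1 : K)) ∈ 𝔮K
    rw [he]
    exact hl x hx
  have hWfib := weaklyRegular_fibre (RingHom.ker (algebraMap R₁ K)) j 𝔮K' l hl' hK'
  have hEq : ctr (RingHom.ker (algebraMap R₁ K))
      (primeKappa (RingHom.ker (algebraMap R₁ K)) j 𝔮K') = 𝔮K.comap (MvPolynomial.map κ) := by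
    ext x
    rw [mem_ctr_iff]
    show e (x ⊗ₜ[R₁] (1 : K)) ∈ 𝔮K ↔ MvPolynomial.map κ x ∈ 𝔮K
    rw [he]
  refine transport_prime _ _ hEq l ?_
  -- the local rings
  have hcomap : RingHom.ker (algebraMap R₁ K) =
      (ctr (RingHom.ker (algebraMap R₁ K))
        (primeKappa (RingHom.ker (algebraMap R₁ K)) j 𝔮K')).comap
        (algebraMap R₁ (MvPolynomial (Fin n) R₁)) :=
    (comap_ctr (RingHom.ker (algebraMap R₁ K)) j 𝔮K').symm
  letI algRpO : Algebra (Localization.AtPrime (RingHom.ker (algebraMap R₁ K)))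
      (Localization.AtPrime (ctr (RingHom.ker (algebraMap R₁ K))
        (primeKappa (RingHom.ker (algebraMap R₁ K)) j 𝔮K'))) :=
    (Localization.localRingHom (RingHom.ker (algebraMap R₁ K))
      (ctr (RingHom.ker (algebraMap R₁ K)) (primeKappa (RingHom.ker (algebraMap R₁ K)) j 𝔮K'))
      (algebraMap R₁ (MvPolynomial (Fin n) R₁)) hcomap).toAlgebra
  haveI tower : IsScalarTower R₁ (Localization.AtPrime (RingHom.ker (algebraMap R₁ K)))
      (Localization.AtPrime (ctr (RingHom.ker (algebraMap R₁ K))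
        (primeKappa (RingHom.ker (algebraMap R₁ K)) j 𝔮K'))) :=
    IsScalarTower.of_algebraMap_eq (fun x => by
      show algebraMap R₁ (Localization.AtPrime (ctr (RingHom.ker (algebraMap R₁ K))
          (primeKappa (RingHom.ker (algebraMap R₁ K)) j 𝔮K'))) x =
        Localization.localRingHom (RingHom.ker (algebraMap R₁ K))
          (ctr (RingHom.ker (algebraMap R₁ K))
            (primeKappa (RingHom.ker (algebraMap R₁ K)) j 𝔮K'))
          (algebraMap R₁ (MvPolynomial (Fin n) R₁)) hcomap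
          (algebraMap R₁ (Localization.AtPrime (RingHom.ker (algebraMap R₁ K))) x)
      rw [Localization.localRingHom_to_map, ← IsScalarTower.algebraMap_apply])
  haveI : IsLocalHom (algebraMap (Localization.AtPrime (RingHom.ker (algebraMap R₁ K)))
      (Localization.AtPrime (ctr (RingHom.ker (algebraMap R₁ K))
        (primeKappa (RingHom.ker (algebraMap R₁ K)) j 𝔮K')))) :=
    Localization.isLocalHom_localRingHom (RingHom.ker (algebraMap R₁ K))
      (ctr (RingHom.ker (algebraMap R₁ K)) (primeKappa (RingHom.ker (algebraMap R₁ K)) j 𝔮K'))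
      _ hcomap
  haveI : Module.Flat R₁ (Localization.AtPrime (ctr (RingHom.ker (algebraMap R₁ K))
      (primeKappa (RingHom.ker (algebraMap R₁ K)) j 𝔮K'))) :=
    Module.Flat.trans R₁ (MvPolynomial (Fin n) R₁) _
  haveI : Module.Flat (Localization.AtPrime (RingHom.ker (algebraMap R₁ K)))
      (Localization.AtPrime (ctr (RingHom.ker (algebraMap R₁ K))
        (primeKappa (RingHom.ker (algebraMap R₁ K)) j 𝔮K'))) :=
    (Module.flat_iff_of_isLocalization (Localization.AtPrime (RingHom.ker (algebraMap R₁ K)))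
      (RingHom.ker (algebraMap R₁ K)).primeCompl _).mpr inferInstance
  haveI : IsNoetherianRing (Localization.AtPrime (ctr (RingHom.ker (algebraMap R₁ K))
      (primeKappa (RingHom.ker (algebraMap R₁ K)) j 𝔮K'))) :=
    IsLocalization.isNoetherianRing (ctr (RingHom.ker (algebraMap R₁ K))
      (primeKappa (RingHom.ker (algebraMap R₁ K)) j 𝔮K')).primeCompl _ inferInstance
  have hmax : (maximalIdeal (Localization.AtPrime (RingHom.ker (algebraMap R₁ K)))).map
      (algebraMap (Localization.AtPrime (RingHom.ker (algebraMap R₁ K)))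
        (Localization.AtPrime (ctr (RingHom.ker (algebraMap R₁ K))
          (primeKappa (RingHom.ker (algebraMap R₁ K)) j 𝔮K')))) =
      (RingHom.ker (algebraMap R₁ K)).map (algebraMap R₁
        (Localization.AtPrime (ctr (RingHom.ker (algebraMap R₁ K))
          (primeKappa (RingHom.ker (algebraMap R₁ K)) j 𝔮K')))) := by
    rw [← Localization.AtPrime.map_eq_maximalIdeal, Ideal.map_map,
      ← IsScalarTower.algebraMap_eq]
  rw [← hmax] at hWfib
  obtain ⟨hWreg, hFl⟩ := main (R := Localization.AtPrime (RingHom.ker (algebraMap R₁ K)))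
    (Localization.AtPrime (ctr (RingHom.ker (algebraMap R₁ K))
      (primeKappa (RingHom.ker (algebraMap R₁ K)) j 𝔮K')))
    (l.map (algebraMap (MvPolynomial (Fin n) R₁)
      (Localization.AtPrime (ctr (RingHom.ker (algebraMap R₁ K))
        (primeKappa (RingHom.ker (algebraMap R₁ K)) j 𝔮K')))))
    (Localization.AtPrime (ctr (RingHom.ker (algebraMap R₁ K))
      (primeKappa (RingHom.ker (algebraMap R₁ K)) j 𝔮K'))) hWfib
  exact ⟨hWreg, flat_quot_of_flat_smul_top (R₁ := R₁)
    (Rp := Localization.AtPrime (RingHom.ker (algebraMap R₁ K))) _ hFl⟩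

/-- the Noetherian core: all quotients. -/
theorem noeth_core
    (𝔮K : Ideal (MvPolynomial (Fin n) K)) [𝔮K.IsPrime]
    (l : List (MvPolynomial (Fin n) R₁)) (hl : ∀ x ∈ l, MvPolynomial.map κ x ∈ 𝔮K)
    (hreg : IsWeaklyRegular (Localization.AtPrime 𝔮K)
      ((l.map (MvPolynomial.map κ)).map
        (algebraMap (MvPolynomial (Fin n) K) (Localization.AtPrime 𝔮K)))) :
    IsWeaklyRegular (Localization.AtPrime (𝔮K.comap (MvPolynomial.map κ)))
        (l.map (algebraMap (MvPolynomial (Fin n) R₁)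
          (Localization.AtPrime (𝔮K.comap (MvPolynomial.map κ))))) ∧
      ∀ i ≤ l.length, Module.Flat R₁ (Localization.AtPrime (𝔮K.comap (MvPolynomial.map κ)) ⧸
        Ideal.ofList ((l.map (algebraMap (MvPolynomial (Fin n) R₁)
          (Localization.AtPrime (𝔮K.comap (MvPolynomial.map κ))))).take i)) := by
  refine ⟨(noeth_core_last κ n 𝔮K l hl hreg).1, fun i _ => ?_⟩
  have h1 := (noeth_core_last κ n 𝔮K (l.take i)
    (fun x hx => hl x (List.mem_of_mem_take hx)) (by
      rw [List.map_take, List.map_take]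
      exact isWeaklyRegular_take _ hreg i)).2
  rw [List.map_take] at h1
  exact h1

end noeth

end Groth.Agent.Lib.RelGCI
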