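import Mathlib
import Groth.Agent.Lib.RelGCI2_helper2
import Groth.Agent.Lib.Vasc5_helper9

/-!
# Relative global complete intersections, part 3 (helper2): the fibrewise criterion over an
arbitrary base ring (reduction to finitely generated subrings).
APPEND-ONLY once landed.
-/

set_option autoImplicit false
universe u

namespace Groth.Agent.Lib.RelGCI

open RingTheory.Sequence TensorProduct IsLocalRing

section cwnoeth

variable {R₁ K : Type u} [CommRing R₁] [IsNoetherianRing R₁] [Field K] (κ₁ : R₁ →+* K) (n : ℕ)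
  (𝔮K : Ideal (MvPolynomial (Fin n) K)) [𝔮K.IsPrime]
  (l' : List (MvPolynomial (Fin n) R₁)) (hl₁ : ∀ x ∈ l', MvPolynomial.map κ₁ x ∈ 𝔮K)
  (hreg₁ : IsWeaklyRegular (Localization.AtPrime 𝔮K)
    ((l'.map (MvPolynomial.map κ₁)).map
      (algebraMap (MvPolynomial (Fin n) K) (Localization.AtPrime 𝔮K))))

include hl₁ hreg₁

/-- the elementwise statement over a Noetherian base ring. -/
theorem cw_noeth (I₁ : Ideal R₁) (i : ℕ) (hi' : i < l'.length) (m' t' : MvPolynomial (Fin n) R₁)
    (ht' : MvPolynomial.map κ₁ t' ∉ 𝔮K)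
    (h1 : t' * (l'[i] * m') ∈ Ideal.ofList (l'.take i) ⊔ I₁.map MvPolynomial.C) :
    ∃ t'' : MvPolynomial (Fin n) R₁, MvPolynomial.map κ₁ t'' ∉ 𝔮K ∧
      t'' * m' ∈ Ideal.ofList (l'.take i) ⊔ I₁.map MvPolynomial.C := by
  obtain ⟨hW, hF⟩ := noeth_core κ₁ n 𝔮K l' hl₁ hreg₁
  have ht'mem : t' ∈ (𝔮K.comap (MvPolynomial.map κ₁)).primeCompl := ht'
  have ht'u : IsUnit (algebraMap (MvPolynomial (Fin n) R₁)
      (Localization.AtPrime (𝔮K.comap (MvPolynomial.map κ₁))) t') :=
    IsLocalization.map_units _ (⟨t', ht'mem⟩ : (𝔮K.comap (MvPolynomial.map κ₁)).primeCompl)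
  have hC : (algebraMap (MvPolynomial (Fin n) R₁)
      (Localization.AtPrime (𝔮K.comap (MvPolynomial.map κ₁)))).comp
      MvPolynomial.C = algebraMap R₁ _ := by
    rw [IsScalarTower.algebraMap_eq R₁ (MvPolynomial (Fin n) R₁)
      (Localization.AtPrime (𝔮K.comap (MvPolynomial.map κ₁))), MvPolynomial.algebraMap_eq]
  have hidl : (Ideal.ofList (l'.take i) ⊔ I₁.map MvPolynomial.C).map
      (algebraMap (MvPolynomial (Fin n) R₁)
        (Localization.AtPrime (𝔮K.comap (MvPolynomial.map κ₁)))) =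
      Ideal.ofList ((l'.map (algebraMap (MvPolynomial (Fin n) R₁)
        (Localization.AtPrime (𝔮K.comap (MvPolynomial.map κ₁))))).take i) ⊔
      I₁.map (algebraMap R₁ (Localization.AtPrime (𝔮K.comap (MvPolynomial.map κ₁)))) := by
    rw [Ideal.map_sup, Ideal.map_ofList, List.map_take, Ideal.map_map, hC]
  have hlen : i < (l'.map (algebraMap (MvPolynomial (Fin n) R₁)
      (Localization.AtPrime (𝔮K.comap (MvPolynomial.map κ₁))))).length := by
    rw [List.length_map]
    exact hi'
  have h2 : (l'.map (algebraMap (MvPolynomial (Fin n) R₁)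
      (Localization.AtPrime (𝔮K.comap (MvPolynomial.map κ₁)))))[i] *
      algebraMap (MvPolynomial (Fin n) R₁)
        (Localization.AtPrime (𝔮K.comap (MvPolynomial.map κ₁))) m' ∈
      Ideal.ofList ((l'.map (algebraMap (MvPolynomial (Fin n) R₁)
        (Localization.AtPrime (𝔮K.comap (MvPolynomial.map κ₁))))).take i) ⊔
      I₁.map (algebraMap R₁ (Localization.AtPrime (𝔮K.comap (MvPolynomial.map κ₁)))) := by
    have h3 := Ideal.mem_map_of_mem (algebraMap (MvPolynomial (Fin n) R₁)
      (Localization.AtPrime (𝔮K.comap (MvPolynomial.map κ₁)))) h1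
    rw [hidl, map_mul, map_mul] at h3
    rw [List.getElem_map]
    exact (Ideal.unit_mul_mem_iff_mem _ ht'u).mp h3
  have h4 := mem_of_mul_mem_of_flat (R := R₁) _ hW
    (fun k hk => hF k (by rw [List.length_map] at hk; exact hk)) I₁ i hlen _ h2
  rw [← hidl, IsLocalization.algebraMap_mem_map_algebraMap_iff
    (𝔮K.comap (MvPolynomial.map κ₁)).primeCompl] at h4
  obtain ⟨t'', ht'', h5⟩ := h4
  exact ⟨t'', ht'', h5⟩

end cwnoeth

section cw

variable {R K : Type u} [CommRing R] [Field K] (κ : R →+* K) (n : ℕ)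
  (𝔮K : Ideal (MvPolynomial (Fin n) K)) [𝔮K.IsPrime]
  (l : List (MvPolynomial (Fin n) R)) (hl : ∀ x ∈ l, MvPolynomial.map κ x ∈ 𝔮K)
  (hreg : IsWeaklyRegular (Localization.AtPrime 𝔮K)
    ((l.map (MvPolynomial.map κ)).map
      (algebraMap (MvPolynomial (Fin n) K) (Localization.AtPrime 𝔮K))))

include hl hreg

/-- the elementwise statement over an arbitrary base ring. -/
theorem cw (I : Ideal R) (i : ℕ) (hi : i < l.length) (m t : MvPolynomial (Fin n) R)
    (ht : MvPolynomial.map κ t ∉ 𝔮K)
    (h : t * (l[i] * m) ∈ Ideal.ofList (l.take i) ⊔ I.map MvPolynomial.C) :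
    ∃ t' : MvPolynomial (Fin n) R, MvPolynomial.map κ t' ∉ 𝔮K ∧
      t' * m ∈ Ideal.ofList (l.take i) ⊔ I.map MvPolynomial.C := by
  classical
  obtain ⟨T, hT⟩ := exists_finset_descent I (l.take i) _ h
  obtain ⟨R₁, hfg, hR₁⟩ := exists_fg_subalgebra (T ∪ l.toFinset ∪ {m, t})
  haveI : Algebra.FiniteType ℤ R₁ := (Subalgebra.fg_iff_finiteType R₁).mp hfg
  haveI : IsNoetherianRing R₁ := Algebra.FiniteType.isNoetherianRing ℤ R₁
  obtain ⟨l', hl'⟩ := exists_list_map_eq (MvPolynomial.map (σ := Fin n) (algebraMap R₁ R)) l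
    (fun x hx => hR₁ x (by
      rw [Finset.mem_union, Finset.mem_union]
      exact Or.inl (Or.inr (List.mem_toFinset.mpr hx))))
  obtain ⟨m', hm'⟩ := hR₁ m (by
    rw [Finset.mem_union, Finset.mem_insert]
    exact Or.inr (Or.inl rfl))
  obtain ⟨t', ht'⟩ := hR₁ t (by
    rw [Finset.mem_union, Finset.mem_insert, Finset.mem_singleton]
    exact Or.inr (Or.inr rfl))
  have hlen : l'.length = l.length := by rw [← hl', List.length_map]
  have hi' : i < l'.length := by rw [hlen]; exact hi
  have hli : MvPolynomial.map (σ := Fin n) (algebraMap R₁ R) l'[i] = l[i] := by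
    have h0 : (l'.map (MvPolynomial.map (σ := Fin n) (algebraMap R₁ R)))[i]'(by
        rw [List.length_map]; exact hi') = l[i] := List.getElem_of_eq hl' _
    rw [← h0, List.getElem_map]
  have h1 : t' * (l'[i] * m') ∈ Ideal.ofList (l'.take i) ⊔
      (I.comap (algebraMap R₁ R)).map MvPolynomial.C :=
    hT R₁ (fun f hf => hR₁ f (by
        rw [Finset.mem_union, Finset.mem_union]
        exact Or.inl (Or.inl hf))) (l'.take i) (t' * (l'[i] * m'))
      (by rw [List.map_take, hl']) (by rw [map_mul, map_mul, ht', hm', hli])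
  have hmm : ∀ x : MvPolynomial (Fin n) R₁, MvPolynomial.map (κ.comp (algebraMap R₁ R)) x =
      MvPolynomial.map κ (MvPolynomial.map (algebraMap R₁ R) x) := fun x => by
    rw [MvPolynomial.map_map]
  have hl₁ : ∀ x ∈ l', MvPolynomial.map (κ.comp (algebraMap R₁ R)) x ∈ 𝔮K := fun x hx => by
    rw [hmm]
    apply hl
    rw [← hl']
    exact List.mem_map_of_mem hx
  have hreg₁ : IsWeaklyRegular (Localization.AtPrime 𝔮K)
      ((l'.map (MvPolynomial.map (κ.comp (algebraMap R₁ R)))).map
        (algebraMap (MvPolynomial (Fin n) K) (Localization.AtPrime 𝔮K))) := by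
    have h2 : l'.map (MvPolynomial.map (κ.comp (algebraMap R₁ R))) =
        l.map (MvPolynomial.map κ) := by
      rw [← hl', List.map_map]
      apply List.map_congr_left
      intro x _
      exact hmm x
    rw [h2]
    exact hreg
  obtain ⟨t'', ht'', h5⟩ := cw_noeth (κ.comp (algebraMap R₁ R)) n 𝔮K l' hl₁ hreg₁
    (I.comap (algebraMap R₁ R)) i hi' m' t' (by rw [hmm, ht']; exact ht) h1
  refine ⟨MvPolynomial.map (algebraMap R₁ R) t'', ?_, ?_⟩
  · rw [← hmm]
    exact ht''
  · have h6 := Ideal.mem_map_of_mem (MvPolynomial.map (σ := Fin n) (algebraMap R₁ R)) h5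
    rw [map_mul, hm'] at h6
    refine (?_ : Ideal.map (MvPolynomial.map (σ := Fin n) (algebraMap R₁ R)) _ ≤ _) h6
    rw [Ideal.map_sup, Ideal.map_ofList, List.map_take, hl', Ideal.map_map]
    refine sup_le_sup le_rfl ?_
    rw [Ideal.map_le_iff_le_comap]
    intro r hr
    rw [Ideal.mem_comap, RingHom.comp_apply, MvPolynomial.map_C]
    exact Ideal.mem_map_of_mem _ hr

/-- regularity in the local ring. -/
theorem core_regular :
    IsWeaklyRegular (Localization.AtPrime (𝔮K.comap (MvPolynomial.map κ)))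
      (l.map (algebraMap (MvPolynomial (Fin n) R)
        (Localization.AtPrime (𝔮K.comap (MvPolynomial.map κ))))) := by
  rw [isWeaklyRegular_map_algebraMap_iff,
    Groth.Agent.Vasc9.isWeaklyRegular_localization_iff
      (𝔮K.comap (MvPolynomial.map κ)).primeCompl]
  rintro i hi m ⟨t, ht, h⟩
  obtain ⟨t', ht', h'⟩ := cw κ n 𝔮K l hl hreg ⊥ i hi m t ht (by
    rw [Ideal.map_bot, sup_bot_eq]
    exact h)
  rw [Ideal.map_bot, sup_bot_eq] at h'
  exact ⟨t', ht', h'⟩

/-- flatness of all the quotients of the local ring. -/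
theorem core_flat : ∀ i ≤ l.length,
    Module.Flat R (Localization.AtPrime (𝔮K.comap (MvPolynomial.map κ)) ⧸
      Ideal.ofList ((l.map (algebraMap (MvPolynomial (Fin n) R)
        (Localization.AtPrime (𝔮K.comap (MvPolynomial.map κ))))).take i)) := by
  haveI : Module.Flat R (Localization.AtPrime (𝔮K.comap (MvPolynomial.map κ))) :=
    Module.Flat.trans R (MvPolynomial (Fin n) R) _
  have hC : (algebraMap (MvPolynomial (Fin n) R)
      (Localization.AtPrime (𝔮K.comap (MvPolynomial.map κ)))).comp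
      MvPolynomial.C = algebraMap R _ := by
    rw [IsScalarTower.algebraMap_eq R (MvPolynomial (Fin n) R)
      (Localization.AtPrime (𝔮K.comap (MvPolynomial.map κ))), MvPolynomial.algebraMap_eq]
  have key := flat_quot_of_forall (R := R) (l.map (algebraMap (MvPolynomial (Fin n) R)
    (Localization.AtPrime (𝔮K.comap (MvPolynomial.map κ))))) (fun I i hi b hb => ?_)
  · intro i hi
    exact key i (by rw [List.length_map]; exact hi)
  · have hi' : i < l.length := by rw [List.length_map] at hi; exact hi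
    have hidl : Ideal.ofList ((l.map (algebraMap (MvPolynomial (Fin n) R)
        (Localization.AtPrime (𝔮K.comap (MvPolynomial.map κ))))).take i) ⊔
        I.map (algebraMap R (Localization.AtPrime (𝔮K.comap (MvPolynomial.map κ)))) =
        (Ideal.ofList (l.take i) ⊔ I.map MvPolynomial.C).map
          (algebraMap (MvPolynomial (Fin n) R)
            (Localization.AtPrime (𝔮K.comap (MvPolynomial.map κ)))) := by
      rw [Ideal.map_sup, Ideal.map_ofList, List.map_take, Ideal.map_map, hC]
    obtain ⟨x, s, rfl⟩ := IsLocalization.exists_mk'_eq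
      (𝔮K.comap (MvPolynomial.map κ)).primeCompl b
    rw [hidl] at hb ⊢
    rw [List.getElem_map, IsLocalization.mul_mk'_eq_mk'_of_mul,
      IsLocalization.mk'_mem_map_algebraMap_iff (𝔮K.comap (MvPolynomial.map κ)).primeCompl] at hb
    rw [IsLocalization.mk'_mem_map_algebraMap_iff (𝔮K.comap (MvPolynomial.map κ)).primeCompl]
    obtain ⟨t, ht, h⟩ := hb
    obtain ⟨t', ht', h'⟩ := cw κ n 𝔮K l hl hreg I i hi' x t ht h
    exact ⟨t', ht', h'⟩

end cw

section final

variable {R K : Type u} [CommRing R] [Field K] (κ : R →+* K) (n : ℕ)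

/-- **Fibrewise criterion for regular sequences in a polynomial ring over an arbitrary ring**:
if the image of `l` in the local ring of `K[x]` at `𝔮K` is a regular sequence, then `l` is a
regular sequence in the local ring of `R[x]` at the contraction `𝔮` of `𝔮K`, and all the quotients
are flat over `R`. -/
theorem core (𝔮K : Ideal (MvPolynomial (Fin n) K)) [𝔮K.IsPrime]
    (𝔮 : Ideal (MvPolynomial (Fin n) R)) [𝔮.IsPrime] (h𝔮 : 𝔮 = 𝔮K.comap (MvPolynomial.map κ))
    (l : List (MvPolynomial (Fin n) R)) (hl : ∀ x ∈ l, x ∈ 𝔮)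
    (hreg : IsWeaklyRegular (Localization.AtPrime 𝔮K)
      ((l.map (MvPolynomial.map κ)).map
        (algebraMap (MvPolynomial (Fin n) K) (Localization.AtPrime 𝔮K)))) :
    IsWeaklyRegular (Localization.AtPrime 𝔮)
        (l.map (algebraMap (MvPolynomial (Fin n) R) (Localization.AtPrime 𝔮))) ∧
      ∀ i ≤ l.length, Module.Flat R (Localization.AtPrime 𝔮 ⧸
        Ideal.ofList ((l.map (algebraMap (MvPolynomial (Fin n) R)
          (Localization.AtPrime 𝔮))).take i)) := by
  subst h𝔮
  exact ⟨core_regular κ n 𝔮K l hl hreg, core_flat κ n 𝔮K l hl hreg⟩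

end final

end Groth.Agent.Lib.RelGCI
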