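import Mathlib
import Groth.Prelude.Def_RegImm
import Groth.Agent.Lib.RelGCI3_helper2
import Groth.Agent.Lib.SyntTA3_helper2
import Groth.Agent.Lib.QuasiReg_helper5
import Groth.Agent.Lib.FpqcKoszul_helper2

/-!
# Relative global complete intersections, part 4 (helper2): the fibres, regularity and flatness
in the local rings, the conormal module, Koszul-regularity, syntomicity.
APPEND-ONLY once landed.
-/

set_option autoImplicit false
universe u

namespace Groth.Agent.Lib.RelGCI

open RingTheory.Sequence TensorProduct IsLocalRing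
open Groth.Agent.Lib.SyntTA

section fibre

variable (R : Type u) [CommRing R] (n c : ℕ) (F : Fin c → MvPolynomial (Fin n) R)

/-- a prime of `R[x]` comes from a prime of `κ(p)[x]`, `p` its contraction. -/
theorem exists_fibre_prime (𝔮 : Ideal (MvPolynomial (Fin n) R)) [𝔮.IsPrime] (p : Ideal R)
    [p.IsPrime] (hp : 𝔮.comap (algebraMap R (MvPolynomial (Fin n) R)) = p) :
    ∃ 𝔮K : Ideal (MvPolynomial (Fin n) p.ResidueField), 𝔮K.IsPrime ∧
      𝔮 = 𝔮K.comap (MvPolynomial.map (algebraMap R p.ResidueField)) := by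
  have hmem : (⟨𝔮, inferInstance⟩ : PrimeSpectrum (MvPolynomial (Fin n) R)) ∈
      PrimeSpectrum.comap (algebraMap R (MvPolynomial (Fin n) R)) ⁻¹'
        {(⟨p, inferInstance⟩ : PrimeSpectrum R)} := by
    show PrimeSpectrum.comap _ _ = _
    apply PrimeSpectrum.ext
    exact hp
  have hleft := (PrimeSpectrum.preimageEquivFiber R (MvPolynomial (Fin n) R)
    ⟨p, inferInstance⟩).left_inv ⟨⟨𝔮, inferInstance⟩, hmem⟩
  have hqKc : ((PrimeSpectrum.preimageEquivFiber R (MvPolynomial (Fin n) R)
      ⟨p, inferInstance⟩) ⟨⟨𝔮, inferInstance⟩, hmem⟩).asIdeal.comap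
      (Algebra.TensorProduct.includeRight :
        MvPolynomial (Fin n) R →ₐ[R] p.ResidueField ⊗[R] MvPolynomial (Fin n) R).toRingHom = 𝔮 :=
    congrArg (fun t => t.1.asIdeal) hleft
  refine ⟨((PrimeSpectrum.preimageEquivFiber R (MvPolynomial (Fin n) R)
      ⟨p, inferInstance⟩) ⟨⟨𝔮, inferInstance⟩, hmem⟩).asIdeal.comap
      ((MvPolynomial.algebraTensorAlgEquiv (σ := Fin n) R p.ResidueField).symm :
        MvPolynomial (Fin n) p.ResidueField →+* p.ResidueField ⊗[R] MvPolynomial (Fin n) R),
    Ideal.comap_isPrime _ _, ?_⟩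
  ext y
  rw [Ideal.mem_comap, Ideal.mem_comap]
  conv_lhs => rw [← hqKc]
  rw [Ideal.mem_comap]
  have h1 : (MvPolynomial.algebraTensorAlgEquiv (σ := Fin n) R p.ResidueField).symm
      (MvPolynomial.map (algebraMap R p.ResidueField) y) = (1 : p.ResidueField) ⊗ₜ[R] y :=
    MvPolynomial.algebraTensorAlgEquiv_symm_map R p.ResidueField y
  show _ ↔ (MvPolynomial.algebraTensorAlgEquiv (σ := Fin n) R p.ResidueField).symm
      (MvPolynomial.map (algebraMap R p.ResidueField) y) ∈ _
  rw [h1]
  rfl

/-- the fibre ring of a presented algebra is the presented algebra over the residue field. -/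
theorem nonempty_fibreEquiv (p : Ideal R) [p.IsPrime] :
    Nonempty (p.Fiber (Synt.RelGCIRing R n c F) ≃+* (MvPolynomial (Fin n) p.ResidueField ⧸
      Ideal.ofList ((List.ofFn F).map (MvPolynomial.map (algebraMap R p.ResidueField))))) := by
  let e₁ := Algebra.TensorProduct.tensorQuotientEquiv (R := R) p.ResidueField
    (MvPolynomial (Fin n) R) p.ResidueField (Ideal.span (Set.range F))
  let e₂ := MvPolynomial.algebraTensorAlgEquiv (σ := Fin n) R p.ResidueField
  have h : Ideal.ofList ((List.ofFn F).map (MvPolynomial.map (algebraMap R p.ResidueField))) =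
      ((Ideal.span (Set.range F)).map (Algebra.TensorProduct.includeRight
        (A := p.ResidueField) (R := R) (B := MvPolynomial (Fin n) R))).map
        (e₂.toRingEquiv : p.ResidueField ⊗[R] MvPolynomial (Fin n) R →+*
          MvPolynomial (Fin n) p.ResidueField) := by
    rw [Ideal.map_span, Ideal.map_span]
    unfold Ideal.ofList
    congr 1
    ext z
    simp only [Set.mem_setOf_eq, List.mem_map, List.mem_ofFn, Set.mem_image, Set.mem_range,
      exists_exists_eq_and]
    constructor
    · rintro ⟨i, rfl⟩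
      refine ⟨i, ?_⟩
      show e₂ ((1 : p.ResidueField) ⊗ₜ[R] F i) = _
      rw [MvPolynomial.algebraTensorAlgEquiv_tmul, one_smul]
    · rintro ⟨i, rfl⟩
      refine ⟨i, ?_⟩
      show _ = e₂ ((1 : p.ResidueField) ⊗ₜ[R] F i)
      rw [MvPolynomial.algebraTensorAlgEquiv_tmul, one_smul]
  exact ⟨e₁.toRingEquiv.trans (Ideal.quotientEquiv _ _ e₂.toRingEquiv h)⟩

/-- the fibre of a relative global complete intersection is regular in its local rings. -/
theorem fibre_weaklyRegular (h : Synt.IsRelGCI R n c F) (p : Ideal R) [p.IsPrime]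
    (𝔮K : Ideal (MvPolynomial (Fin n) p.ResidueField)) [𝔮K.IsPrime]
    (hle : ∀ i, MvPolynomial.map (algebraMap R p.ResidueField) (F i) ∈ 𝔮K) :
    c ≤ n ∧ IsWeaklyRegular (Localization.AtPrime 𝔮K)
      (((List.ofFn F).map (MvPolynomial.map (algebraMap R p.ResidueField))).map
        (algebraMap (MvPolynomial (Fin n) p.ResidueField) (Localization.AtPrime 𝔮K))) := by
  have hrsle : Ideal.ofList ((List.ofFn F).map
      (MvPolynomial.map (algebraMap R p.ResidueField))) ≤ 𝔮K := by
    apply Ideal.span_le.mpr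
    intro x hx
    obtain ⟨y, hy, rfl⟩ := List.mem_map.mp hx
    obtain ⟨i, rfl⟩ := (List.mem_ofFn' F y).mp hy
    exact hle i
  obtain ⟨E⟩ := nonempty_fibreEquiv R n c F p
  haveI hnt : Nontrivial (MvPolynomial (Fin n) p.ResidueField ⧸
      Ideal.ofList ((List.ofFn F).map (MvPolynomial.map (algebraMap R p.ResidueField)))) :=
    Ideal.Quotient.nontrivial_iff.mpr (fun htop =>
      (inferInstance : 𝔮K.IsPrime).ne_top (top_le_iff.mp (htop ▸ hrsle)))
  have hnt' : Nontrivial (p.Fiber (Synt.RelGCIRing R n c F)) := E.symm.injective.nontrivial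
  obtain ⟨hcn, hdim⟩ := h ⟨p, inferInstance⟩ hnt'
  refine ⟨hcn, ?_⟩
  apply weaklyRegular_of_dim_le p.ResidueField n _ _ 𝔮K hrsle
  have hdim' : ringKrullDim (p.Fiber (Synt.RelGCIRing R n c F)) =
      ((n - c : ℕ) : WithBot ℕ∞) := hdim
  have hE : ringKrullDim (p.Fiber (Synt.RelGCIRing R n c F)) =
      ringKrullDim (MvPolynomial (Fin n) p.ResidueField ⧸
        Ideal.ofList ((List.ofFn F).map (MvPolynomial.map (algebraMap R p.ResidueField)))) :=
    ringKrullDim_eq_of_ringEquiv (R := p.Fiber (Synt.RelGCIRing R n c F)) E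
  rw [← hE, hdim', List.length_map, List.length_ofFn]
  have : (n - c) + c = n := by omega
  exact_mod_cast this.le

end fibre

section local_

variable (R : Type u) [CommRing R] (n c : ℕ) (F : Fin c → MvPolynomial (Fin n) R)

/-- regularity and flatness in the local rings of a relative global complete intersection. -/
theorem regular_flat (h : Synt.IsRelGCI R n c F)
    (q' : Ideal (MvPolynomial (Fin n) R)) [q'.IsPrime] (hq' : Ideal.span (Set.range F) ≤ q') :
    c ≤ n ∧ IsWeaklyRegular (Localization.AtPrime q')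
        ((List.ofFn F).map (algebraMap (MvPolynomial (Fin n) R) (Localization.AtPrime q'))) ∧
      ∀ i ≤ c, Module.Flat R (Localization.AtPrime q' ⧸ Ideal.ofList
        (((List.ofFn F).take i).map
          (algebraMap (MvPolynomial (Fin n) R) (Localization.AtPrime q')))) := by
  haveI hp : (q'.comap (algebraMap R (MvPolynomial (Fin n) R))).IsPrime :=
    Ideal.comap_isPrime _ _
  obtain ⟨𝔮K, h𝔮K, h𝔮⟩ := exists_fibre_prime R n q'
    (q'.comap (algebraMap R (MvPolynomial (Fin n) R))) rfl
  haveI := h𝔮K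
  have hle : ∀ i, MvPolynomial.map (algebraMap R
      (q'.comap (algebraMap R (MvPolynomial (Fin n) R))).ResidueField) (F i) ∈ 𝔮K := by
    intro i
    have h1 : F i ∈ q' := hq' (Ideal.subset_span (Set.mem_range_self i))
    rw [h𝔮] at h1
    exact h1
  obtain ⟨hcn, hreg⟩ := fibre_weaklyRegular R n c F h
    (q'.comap (algebraMap R (MvPolynomial (Fin n) R))) 𝔮K hle
  have hl : ∀ x ∈ List.ofFn F, x ∈ q' := by
    intro x hx
    obtain ⟨i, rfl⟩ := (List.mem_ofFn' F x).mp hx
    exact hq' (Ideal.subset_span (Set.mem_range_self i))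
  obtain ⟨h1, h2⟩ := core (algebraMap R
    (q'.comap (algebraMap R (MvPolynomial (Fin n) R))).ResidueField) n 𝔮K q' h𝔮
    (List.ofFn F) hl hreg
  refine ⟨hcn, h1, fun i hi => ?_⟩
  have h3 := h2 i (by rw [List.length_ofFn]; exact hi)
  rw [← List.map_take] at h3
  exact h3

end local_

end Groth.Agent.Lib.RelGCI
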