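import Mathlib
import Groth.Prelude.Def_RegImm
import Groth.Agent.Lib.RelGCI4_helper2

/-!
# Relative global complete intersections, part 5 (helper2): conormal module, Koszul-regularity,
flatness and syntomicity of `R[x]/(F)`.
APPEND-ONLY once landed.
-/

set_option autoImplicit false
universe u

namespace Groth.Agent.Lib.RelGCI

open RingTheory.Sequence TensorProduct IsLocalRing
open Groth.Agent.Lib.SyntTA Groth.Agent.Lib.KRegIdeal Groth.Agent.Lib.FibKoszul

section quasi

/-- degree one quasi-regularity of a regular sequence. -/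
theorem coeff_mem_of_sum_mem_sq {B : Type u} [CommRing B] {c : ℕ} (f : Fin c → B)
    (hf : IsWeaklyRegular B (List.ofFn f)) (a : Fin c → B)
    (h : ∑ i, a i * f i ∈ Ideal.span (Set.range f) ^ 2) (i : Fin c) :
    a i ∈ Ideal.span (Set.range f) := by
  classical
  have hq := Groth.Agent.QuasiReg.isQuasiRegular_of_isWeaklyRegular f hf
  have hhom : (∑ j, MvPolynomial.C (a j) * MvPolynomial.X j :
      MvPolynomial (Fin c) B).IsHomogeneous 1 :=
    MvPolynomial.IsHomogeneous.sum _ _ _
      (fun j _ => (MvPolynomial.isHomogeneous_X B j).C_mul (a j))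
  have hev : MvPolynomial.eval f (∑ j, MvPolynomial.C (a j) * MvPolynomial.X j) =
      ∑ j, a j * f j := by
    rw [map_sum]
    apply Finset.sum_congr rfl
    intro j _
    rw [map_mul, MvPolynomial.eval_C, MvPolynomial.eval_X]
  have hcoeff : MvPolynomial.coeff (Finsupp.single i 1)
      (∑ j, MvPolynomial.C (a j) * MvPolynomial.X j : MvPolynomial (Fin c) B) = a i := by
    rw [MvPolynomial.coeff_sum, Finset.sum_eq_single i]
    · rw [MvPolynomial.coeff_C_mul, MvPolynomial.coeff_X', if_pos rfl, mul_one]
    · intro j _ hji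
      rw [MvPolynomial.coeff_C_mul, MvPolynomial.coeff_X', if_neg, mul_zero]
      intro hh
      exact hji ((Finsupp.single_left_inj one_ne_zero).mp hh)
    · intro hi
      exact absurd (Finset.mem_univ i) hi
  have := hq 1 _ hhom (by rw [hev]; exact h) (Finsupp.single i 1)
  rw [hcoeff] at this
  exact this

end quasi

section conormal

variable (R : Type u) [CommRing R] (n c : ℕ) (F : Fin c → MvPolynomial (Fin n) R)

/-- relations modulo the square of the ideal have coefficients in the ideal. -/
theorem mem_span_of_sum_mem_sq (h : Synt.IsRelGCI R n c F) (a : Fin c → MvPolynomial (Fin n) R)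
    (ha : ∑ i, a i * F i ∈ Ideal.span (Set.range F) ^ 2) (i : Fin c) :
    a i ∈ Ideal.span (Set.range F) := by
  by_contra hai
  have hK : Submodule.colon (Ideal.span (Set.range F)) ({a i} : Set (MvPolynomial (Fin n) R)) ≠
      ⊤ := by
    intro htop
    apply hai
    have h1 : (1 : MvPolynomial (Fin n) R) ∈
        Submodule.colon (Ideal.span (Set.range F)) ({a i} : Set (MvPolynomial (Fin n) R)) := by
      rw [htop]; trivial
    rw [Submodule.mem_colon_singleton, one_smul] at h1
    exact h1
  obtain ⟨𝔪, h𝔪, hle⟩ := Ideal.exists_le_maximal _ hK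
  haveI := h𝔪.isPrime
  suffices hex : ∃ t ∈ 𝔪.primeCompl, t * a i ∈ Ideal.span (Set.range F) by
    obtain ⟨t, ht, hta⟩ := hex
    exact ht (hle (Submodule.mem_colon_singleton.mpr hta))
  by_cases hJ : Ideal.span (Set.range F) ≤ 𝔪
  · obtain ⟨-, hW, -⟩ := regular_flat R n c F h 𝔪 hJ
    rw [List.map_ofFn] at hW
    have hmap : Ideal.span (Set.range ((algebraMap (MvPolynomial (Fin n) R)
        (Localization.AtPrime 𝔪)) ∘ F)) =
        (Ideal.span (Set.range F)).map (algebraMap (MvPolynomial (Fin n) R)
          (Localization.AtPrime 𝔪)) := by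
      rw [Ideal.map_span, Set.range_comp]
    have h2 := coeff_mem_of_sum_mem_sq
      ((algebraMap (MvPolynomial (Fin n) R) (Localization.AtPrime 𝔪)) ∘ F) hW
      ((algebraMap (MvPolynomial (Fin n) R) (Localization.AtPrime 𝔪)) ∘ a) (by
        rw [hmap, ← Ideal.map_pow]
        have h3 := Ideal.mem_map_of_mem (algebraMap (MvPolynomial (Fin n) R)
          (Localization.AtPrime 𝔪)) ha
        rw [map_sum] at h3
        convert h3 using 1
        apply Finset.sum_congr rfl
        intro j _
        rw [map_mul]
        rfl) i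
    rw [hmap] at h2
    exact (IsLocalization.algebraMap_mem_map_algebraMap_iff 𝔪.primeCompl _ _ _).mp h2
  · obtain ⟨t, htJ, ht𝔪⟩ := Set.not_subset.mp hJ
    exact ⟨t, ht𝔪, Ideal.mul_mem_right _ _ htJ⟩

/-- the conormal module of a relative global complete intersection is free on the classes of
the equations. -/
theorem conormal_basis (h : Synt.IsRelGCI R n c F) :
    LinearIndependent (Synt.RelGCIRing R n c F)
        (fun i : Fin c => (Ideal.span (Set.range F)).toCotangent
          ⟨F i, Ideal.subset_span (Set.mem_range_self i)⟩) ∧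
      Submodule.span (Synt.RelGCIRing R n c F) (Set.range
        (fun i : Fin c => (Ideal.span (Set.range F)).toCotangent
          ⟨F i, Ideal.subset_span (Set.mem_range_self i)⟩)) = ⊤ := by
  constructor
  · rw [Fintype.linearIndependent_iff]
    intro g hg i
    have hsurj : ∀ j, ∃ a : MvPolynomial (Fin n) R,
        Ideal.Quotient.mk (Ideal.span (Set.range F)) a = g j :=
      fun j => Ideal.Quotient.mk_surjective (g j)
    choose a ha using hsurj
    have hmemJ : ∀ j, a j * F j ∈ Ideal.span (Set.range F) := fun j =>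
      Ideal.mul_mem_left _ _ (Ideal.subset_span (Set.mem_range_self j))
    have hsum : ∑ j, g j • (Ideal.span (Set.range F)).toCotangent
        ⟨F j, Ideal.subset_span (Set.mem_range_self j)⟩ =
        (Ideal.span (Set.range F)).toCotangent
          ⟨∑ j, a j * F j, Ideal.sum_mem _ (fun j _ => hmemJ j)⟩ := by
      have h1 : (⟨∑ j, a j * F j, Ideal.sum_mem _ (fun j _ => hmemJ j)⟩ :
          Ideal.span (Set.range F)) =
          ∑ j, a j • (⟨F j, Ideal.subset_span (Set.mem_range_self j)⟩ :
            Ideal.span (Set.range F)) := by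
        apply Subtype.ext
        rw [AddSubmonoidClass.coe_finsetSum]
        rfl
      rw [h1, map_sum]
      apply Finset.sum_congr rfl
      intro j _
      rw [map_smul, ← ha j]
      exact algebraMap_smul (MvPolynomial (Fin n) R ⧸ Ideal.span (Set.range F)) (a j) _
    rw [hsum, Ideal.toCotangent_eq_zero] at hg
    have h2 := mem_span_of_sum_mem_sq R n c F h a hg i
    rw [← ha i]
    exact Ideal.Quotient.eq_zero_iff_mem.mpr h2
  · rw [eq_top_iff]
    rintro y -
    obtain ⟨⟨x, hx⟩, rfl⟩ := Ideal.toCotangent_surjective _ y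
    refine Submodule.span_induction (p := fun x hx =>
      (Ideal.span (Set.range F)).toCotangent ⟨x, hx⟩ ∈
        Submodule.span (Synt.RelGCIRing R n c F) (Set.range
          (fun i : Fin c => (Ideal.span (Set.range F)).toCotangent
            ⟨F i, Ideal.subset_span (Set.mem_range_self i)⟩))) ?_ ?_ ?_ ?_ hx
    · rintro _ ⟨i, rfl⟩
      exact Submodule.subset_span ⟨i, rfl⟩
    · have h0 : (⟨0, Ideal.zero_mem _⟩ : Ideal.span (Set.range F)) = 0 := rfl
      rw [h0, map_zero]
      exact Submodule.zero_mem _
    · intro x y hx hy hx' hy'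
      have h0 : (⟨x + y, Ideal.add_mem _ hx hy⟩ : Ideal.span (Set.range F)) =
          ⟨x, hx⟩ + ⟨y, hy⟩ := rfl
      rw [h0, map_add]
      exact Submodule.add_mem _ hx' hy'
    · intro b x hx hx'
      have h0 : (⟨b • x, Ideal.mul_mem_left _ b hx⟩ : Ideal.span (Set.range F)) =
          b • ⟨x, hx⟩ := rfl
      rw [h0, map_smul,
        ← algebraMap_smul (MvPolynomial (Fin n) R ⧸ Ideal.span (Set.range F)) b]
      exact Submodule.smul_mem _ _ hx'

end conormal

section main9170

theorem main9170 (R : Type u) [CommRing R] (n c : ℕ)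
    (F : Fin c → MvPolynomial (Fin n) R) (h : Synt.IsRelGCI R n c F)
    (q' : Ideal (MvPolynomial (Fin n) R)) [q'.IsPrime] (hq' : Ideal.span (Set.range F) ≤ q') :
    RingTheory.Sequence.IsRegular (Localization.AtPrime q')
        ((List.ofFn F).map (algebraMap (MvPolynomial (Fin n) R) (Localization.AtPrime q'))) ∧
      (∀ i ≤ c, Module.Flat R (Localization.AtPrime q' ⧸ Ideal.ofList
        (((List.ofFn F).take i).map (algebraMap (MvPolynomial (Fin n) R) (Localization.AtPrime q'))))) ∧
      LinearIndependent (Synt.RelGCIRing R n c F)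
        (fun i : Fin c => (Ideal.span (Set.range F)).toCotangent ⟨F i, Ideal.subset_span (Set.mem_range_self i)⟩) ∧
      Submodule.span (Synt.RelGCIRing R n c F) (Set.range
        (fun i : Fin c => (Ideal.span (Set.range F)).toCotangent ⟨F i, Ideal.subset_span (Set.mem_range_self i)⟩)) = ⊤ := by
  obtain ⟨-, hW, hFl⟩ := regular_flat R n c F h q' hq'
  obtain ⟨hLI, hSp⟩ := conormal_basis R n c F h
  refine ⟨?_, hFl, hLI, hSp⟩
  apply IsRegular.of_isWeaklyRegular_of_mem_maximalIdeal _ _ hW
  intro x hx
  obtain ⟨y, hy, rfl⟩ := List.mem_map.mp hx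
  obtain ⟨i, rfl⟩ := (List.mem_ofFn' F y).mp hy
  rw [IsLocalization.AtPrime.to_map_mem_maximal_iff (Localization.AtPrime q') q']
  exact hq' (Ideal.subset_span (Set.mem_range_self i))

end main9170

end Groth.Agent.Lib.RelGCI
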