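import Mathlib
import Groth.Prelude.Def_RegImm
import Groth.Agent.Lib.RelGCI5_helper2

/-!
# Relative global complete intersections, part 6 (helper2): Koszul-regularity of the equations,
flatness and syntomicity of `R[x]/(F)`.
APPEND-ONLY once landed.
-/

set_option autoImplicit false
universe u

namespace Groth.Agent.Lib.RelGCI

open RingTheory.Sequence TensorProduct IsLocalRing
open Groth.Agent.Lib.SyntTA Groth.Agent.Lib.KRegIdeal Groth.Agent.Lib.FibKoszul

section koszul

variable (R : Type u) [CommRing R] (n c : ℕ) (F : Fin c → MvPolynomial (Fin n) R)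

theorem main9254 (h : Synt.IsRelGCI R n c F) :
    LCI.IsKoszulRegularSeq (MvPolynomial (Fin n) R) (List.ofFn F) := by
  intro i hi
  apply Groth.Agent.Lib.FpqcReg.koszul_descent
  intro 𝔪 h𝔪
  haveI := h𝔪.isPrime
  refine ⟨Localization.AtPrime 𝔪, inferInstance, inferInstance,
    algebraMap (MvPolynomial (Fin n) R) (Localization.AtPrime 𝔪),
    RingHom.flat_algebraMap_iff.mpr (IsLocalization.flat _ 𝔪.primeCompl),
    (IsLocalization.AtPrime.comap_maximalIdeal (Localization.AtPrime 𝔪) 𝔪).ge, ?_⟩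
  by_cases hJ : Ideal.span (Set.range F) ≤ 𝔪
  · obtain ⟨-, hW, -⟩ := regular_flat R n c F h 𝔪 hJ
    exact (Groth.Agent.Lib.KoszulTopH7.koszulRegular _ hW).1 i hi
  · apply Groth.Agent.Lib.FpqcReg.koszul_of_top
    obtain ⟨t, htJ, ht𝔪⟩ := Set.not_subset.mp hJ
    have h1 : algebraMap (MvPolynomial (Fin n) R) (Localization.AtPrime 𝔪) t ∈
        Ideal.ofList ((List.ofFn F).map
          (algebraMap (MvPolynomial (Fin n) R) (Localization.AtPrime 𝔪))) := by
      rw [← Ideal.map_ofList, ← span_range_eq_ofList]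
      exact Ideal.mem_map_of_mem _ htJ
    exact Ideal.eq_top_of_isUnit_mem _ h1
      (IsLocalization.map_units (Localization.AtPrime 𝔪) (⟨t, ht𝔪⟩ : 𝔪.primeCompl))

end koszul

section flat

theorem isScalarTower_quot_loc {R D : Type*} [CommRing R] [CommRing D] [Algebra R D]
    (J 𝔮 : Ideal D) [𝔮.IsPrime] :
    IsScalarTower R (D ⧸ J)
      (Localization.AtPrime 𝔮 ⧸ J.map (algebraMap D (Localization.AtPrime 𝔮))) :=
  IsScalarTower.of_algebraMap_eq (fun r => by
    rw [IsScalarTower.algebraMap_apply R D (D ⧸ J),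
      IsScalarTower.algebraMap_apply R (Localization.AtPrime 𝔮)
        (Localization.AtPrime 𝔮 ⧸ J.map (algebraMap D (Localization.AtPrime 𝔮))),
      IsScalarTower.algebraMap_apply R D (Localization.AtPrime 𝔮)]
    rfl)

variable (R : Type u) [CommRing R] (n c : ℕ) (F : Fin c → MvPolynomial (Fin n) R)

theorem flat_relGCIRing (h : Synt.IsRelGCI R n c F) :
    Module.Flat R (Synt.RelGCIRing R n c F) := by
  apply Module.flat_of_isLocalized_maximal (Synt.RelGCIRing R n c F) (Synt.RelGCIRing R n c F)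
    (fun 𝔪 _ => Localization.AtPrime 𝔪)
    (fun 𝔪 _ => Algebra.linearMap (Synt.RelGCIRing R n c F) (Localization.AtPrime 𝔪))
  intro 𝔪 h𝔪
  haveI := h𝔪.isPrime
  set J : Ideal (MvPolynomial (Fin n) R) := Ideal.span (Set.range F) with hJ
  set 𝔮 : Ideal (MvPolynomial (Fin n) R) := 𝔪.comap (Ideal.Quotient.mk J) with h𝔮
  haveI : 𝔮.IsPrime := Ideal.comap_isPrime _ _
  have hJ𝔮 : J ≤ 𝔮 := by
    intro x hx
    show Ideal.Quotient.mk J x ∈ 𝔪
    rw [Ideal.Quotient.eq_zero_iff_mem.mpr hx]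
    exact 𝔪.zero_mem
  obtain ⟨-, -, hFl⟩ := regular_flat R n c F h 𝔮 hJ𝔮
  have hFl' := hFl c le_rfl
  have hof : Ideal.ofList (((List.ofFn F).take c).map
      (algebraMap (MvPolynomial (Fin n) R) (Localization.AtPrime 𝔮))) =
      J.map (algebraMap (MvPolynomial (Fin n) R) (Localization.AtPrime 𝔮)) := by
    rw [List.take_of_length_le (by rw [List.length_ofFn]), ← Ideal.map_ofList,
      ← span_range_eq_ofList]
  haveI hFl2 : Module.Flat R (Localization.AtPrime 𝔮 ⧸
      J.map (algebraMap (MvPolynomial (Fin n) R) (Localization.AtPrime 𝔮))) :=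
    Module.Flat.of_linearEquiv (Ideal.quotientEquivAlgOfEq R hof).symm.toLinearEquiv
  haveI : 𝔪.LiesOver 𝔮 := ⟨rfl⟩
  have h1 : Algebra.algebraMapSubmonoid (MvPolynomial (Fin n) R ⧸ J) 𝔮.primeCompl =
      𝔪.primeCompl :=
    Ideal.algebraMapSubmonoid_primeCompl_of_liesOver_surjective 𝔪 𝔮 Ideal.Quotient.mk_surjective
  haveI : IsLocalization.AtPrime (Localization.AtPrime 𝔮 ⧸
      J.map (algebraMap (MvPolynomial (Fin n) R) (Localization.AtPrime 𝔮))) 𝔪 := by
    show IsLocalization 𝔪.primeCompl _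
    rw [← h1]
    infer_instance
  haveI htw : IsScalarTower R (MvPolynomial (Fin n) R ⧸ J) (Localization.AtPrime 𝔮 ⧸
      J.map (algebraMap (MvPolynomial (Fin n) R) (Localization.AtPrime 𝔮))) :=
    isScalarTower_quot_loc (R := R) J 𝔮
  let e : Localization.AtPrime 𝔪 ≃ₐ[MvPolynomial (Fin n) R ⧸ J] (Localization.AtPrime 𝔮 ⧸
      J.map (algebraMap (MvPolynomial (Fin n) R) (Localization.AtPrime 𝔮))) :=
    IsLocalization.algEquiv 𝔪.primeCompl (Localization.AtPrime 𝔪) (Localization.AtPrime 𝔮 ⧸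
      J.map (algebraMap (MvPolynomial (Fin n) R) (Localization.AtPrime 𝔮)))
  exact Module.Flat.of_linearEquiv (e.restrictScalars R).toLinearEquiv

theorem main9147 (h : Synt.IsRelGCI R n c F) :
    Synt.IsSyntomic R (Synt.RelGCIRing R n c F) := by
  rw [main9287]
  refine ⟨flat_relGCIRing R n c F h, ?_⟩
  have hsurj : Function.Surjective (Ideal.Quotient.mkₐ R (Ideal.span (Set.range F))) :=
    Ideal.Quotient.mkₐ_surjective R _
  refine ⟨Algebra.FiniteType.of_surjective _ hsurj, n,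
    Ideal.Quotient.mkₐ R (Ideal.span (Set.range F)), hsurj, ?_⟩
  have hker : RingHom.ker (Ideal.Quotient.mkₐ R (Ideal.span (Set.range F))).toRingHom =
      Ideal.ofList (List.ofFn F) := by
    rw [← span_range_eq_ofList]
    exact Ideal.mk_ker
  rw [hker, kr_iff]
  exact kr_of_ofList _ (main9254 R n c F h)

end flat

end Groth.Agent.Lib.RelGCI
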