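import Mathlib
import Groth.Prelude.Def_RegImm
import Groth.Agent.Lib.RelGCI6_helper2
import Groth.Agent.Lib.SyntNoeth1_helper2
import Groth.Agent.Lib.KoszulComp_helper2
import Groth.Agent.Lib.KoszulBC_helper2
import Groth.Agent.Lib.KoszulFlat_helper9
import Groth.Agent.Lib.DimFT_helper8

/-!
# Relative global complete intersections, part 7 (helper2): the converse criterion and the local
structure of syntomic algebras.

* `ringKrullDim_quot_of_locally_regular` (K2'): K2 with a local regularity hypothesis;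
* `isRelGCI_of_koszul_of_flat`: `F` Koszul-regular in `R[x]` and `R[x]/(F)` flat over `R` implies
  that `R[x]/(F)` is a relative global complete intersection;
* `exists_relGCI_away`: a syntomic `R`-algebra is, locally on its spectrum, a relative global
  complete intersection.
APPEND-ONLY once landed.
-/

set_option autoImplicit false
universe u

namespace Groth.Agent.Lib.RelGCI

open RingTheory.Sequence TensorProduct IsLocalRing Polynomial
open Groth.Agent.Lib.SyntTA Groth.Agent.Lib.KRegIdeal Groth.Agent.Lib.FibKoszul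
  Groth.Agent.Lib.LCILocal Groth.Agent.Lib.SyntNoeth

section K2

/-- **K2'**: dimension of the quotient by a sequence which is regular at all maximal ideals
containing it, when all maximal ideals have the same height. -/
theorem ringKrullDim_quot_of_locally_regular {D : Type u} [CommRing D] [IsNoetherianRing D] (n : ℕ)
    (hD : ∀ (𝔐 : Ideal D) [𝔐.IsMaximal], ringKrullDim (Localization.AtPrime 𝔐) = (n : WithBot ℕ∞))
    (as : List D)
    (hreg : ∀ (𝔐 : Ideal D) [𝔐.IsMaximal], Ideal.ofList as ≤ 𝔐 →
      IsRegular (Localization.AtPrime 𝔐) (as.map (algebraMap D (Localization.AtPrime 𝔐))))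
    [Nontrivial (D ⧸ Ideal.ofList as)] :
    ringKrullDim (D ⧸ Ideal.ofList as) + (as.length : WithBot ℕ∞) = (n : WithBot ℕ∞) := by
  set J := Ideal.ofList as with hJdef
  have key : ∀ (𝔪 : Ideal (D ⧸ J)) [𝔪.IsMaximal],
      ((𝔪.height : ℕ∞) : WithBot ℕ∞) + (as.length : WithBot ℕ∞) = (n : WithBot ℕ∞) := by
    intro 𝔪 h𝔪
    set 𝔐 := 𝔪.comap (Ideal.Quotient.mk J) with h𝔐def
    haveI h𝔐 : 𝔐.IsMaximal := Ideal.comap_isMaximal_of_surjective _ Ideal.Quotient.mk_surjective
    have hJ𝔐 : J ≤ 𝔐 := by
      intro x hx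
      show Ideal.Quotient.mk J x ∈ 𝔪
      rw [Ideal.Quotient.eq_zero_iff_mem.mpr hx]
      exact 𝔪.zero_mem
    have hreg' : IsRegular (Localization.AtPrime 𝔐)
        (as.map (algebraMap D (Localization.AtPrime 𝔐))) := hreg 𝔐 hJ𝔐
    have h1 := ringKrullDim_add_length_eq_ringKrullDim_of_isRegular _ hreg'
    rw [hD 𝔐, List.length_map] at h1
    have hof : Ideal.ofList (as.map (algebraMap D (Localization.AtPrime 𝔐))) =
        J.map (algebraMap D (Localization.AtPrime 𝔐)) := (Ideal.map_ofList _ _).symm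
    rw [ringKrullDim_eq_of_ringEquiv (Ideal.quotEquivOfEq hof),
      ringKrullDim_quot_atPrime J 𝔐 𝔪 rfl] at h1
    exact h1
  obtain ⟨𝔪₀, h𝔪₀⟩ := Ideal.exists_maximal (D ⧸ J)
  have h0 := key 𝔪₀
  have hfin : 𝔪₀.height ≠ ⊤ := by
    intro htop
    rw [htop] at h0
    have : ((⊤ : ℕ∞) : WithBot ℕ∞) + ((as.length : ℕ∞) : WithBot ℕ∞) =
        ((n : ℕ∞) : WithBot ℕ∞) := h0
    rw [← WithBot.coe_add, WithBot.coe_inj, top_add] at this
    exact ENat.top_ne_coe n this
  obtain ⟨d, hd⟩ := ENat.ne_top_iff_exists.mp hfin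
  have hdn : d + as.length = n := by
    rw [← hd] at h0
    exact_mod_cast h0
  have hall : ∀ (𝔪 : Ideal (D ⧸ J)) [𝔪.IsMaximal], 𝔪.height = (d : ℕ∞) := by
    intro 𝔪 h𝔪
    have h1 := key 𝔪
    have hfin' : 𝔪.height ≠ ⊤ := by
      intro htop
      rw [htop] at h1
      have : ((⊤ : ℕ∞) : WithBot ℕ∞) + ((as.length : ℕ∞) : WithBot ℕ∞) =
          ((n : ℕ∞) : WithBot ℕ∞) := h1
      rw [← WithBot.coe_add, WithBot.coe_inj, top_add] at this
      exact ENat.top_ne_coe n this
    obtain ⟨d', hd'⟩ := ENat.ne_top_iff_exists.mp hfin'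
    have : d' + as.length = n := by
      rw [← hd'] at h1
      exact_mod_cast h1
    have : d' = d := by omega
    rw [← hd', this]
  have hdim : ringKrullDim (D ⧸ J) = (d : WithBot ℕ∞) := by
    apply le_antisymm
    · rw [ringKrullDim_le_iff_isMaximal_height_le]
      intro 𝔪 h𝔪
      haveI := h𝔪
      rw [hall 𝔪]
      exact_mod_cast le_rfl
    · have h2 := Ideal.height_le_ringKrullDim_of_ne_top h𝔪₀.ne_top
      rw [hall 𝔪₀] at h2
      exact_mod_cast h2
  rw [hdim]
  exact_mod_cast hdn

end K2

section KF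

attribute [local instance] MvPolynomial.algebraMvPolynomial

variable (R : Type u) [CommRing R] (n c : ℕ) (F : Fin c → MvPolynomial (Fin n) R)

/-- Koszul-regularity is inherited by the fibres of a flat quotient. -/
theorem koszul_fibre (hK : LCI.IsKoszulRegularSeq (MvPolynomial (Fin n) R) (List.ofFn F))
    (hfl : Module.Flat R (Synt.RelGCIRing R n c F)) (K : Type u) [CommRing K] [Algebra R K] :
    LCI.IsKoszulRegularSeq (MvPolynomial (Fin n) K)
      ((List.ofFn F).map (MvPolynomial.map (algebraMap R K))) := by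
  have hq : Module.Flat R (MvPolynomial (Fin n) R ⧸ Ideal.ofList (List.ofFn F)) := by
    rw [← span_range_eq_ofList]
    exact hfl
  let e₀ : MvPolynomial (Fin n) R ⊗[R] K ≃ₗ[MvPolynomial (Fin n) R] MvPolynomial (Fin n) K :=
    (Algebra.IsPushout.equiv R (MvPolynomial (Fin n) R) K (MvPolynomial (Fin n) K)).toLinearEquiv
  exact Groth.Agent.Lib.KoszulBC.isKoszulRegularSeq_map_of_tensor (A := R) (List.ofFn F) hK hq K
    e₀.symm

/-- **Converse criterion**: if `F` is Koszul-regular in `R[x]` and `R[x]/(F)` is flat over `R`,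
then `R[x]/(F)` is a relative global complete intersection. -/
theorem isRelGCI_of_koszul_of_flat
    (hK : LCI.IsKoszulRegularSeq (MvPolynomial (Fin n) R) (List.ofFn F))
    (hfl : Module.Flat R (Synt.RelGCIRing R n c F)) : Synt.IsRelGCI R n c F := by
  intro p hnt
  haveI := hnt
  obtain ⟨eΦ⟩ := nonempty_fibreEquiv R n c F p.asIdeal
  haveI : Nontrivial (MvPolynomial (Fin n) p.asIdeal.ResidueField ⧸ Ideal.ofList
      ((List.ofFn F).map (MvPolynomial.map (algebraMap R p.asIdeal.ResidueField)))) :=
    eΦ.injective.nontrivial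
  have hKbar := koszul_fibre R n c F hK hfl p.asIdeal.ResidueField
  have hdim := ringKrullDim_quot_of_locally_regular
    (D := MvPolynomial (Fin n) p.asIdeal.ResidueField) n
    (fun 𝔐 _ => by
      rw [IsLocalization.AtPrime.ringKrullDim_eq_height 𝔐 (Localization.AtPrime 𝔐),
        Groth.Agent.DimFTH8.height_of_isMaximal_mvPolynomial _ n 𝔐]
      rfl)
    ((List.ofFn F).map (MvPolynomial.map (algebraMap R p.asIdeal.ResidueField)))
    (fun 𝔐 h𝔐 hle => by
      haveI := h𝔐
      have hmem : ∀ x ∈ (List.ofFn F).map (MvPolynomial.map (algebraMap R p.asIdeal.ResidueField)),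
          algebraMap (MvPolynomial (Fin n) p.asIdeal.ResidueField) (Localization.AtPrime 𝔐) x ∈
            maximalIdeal (Localization.AtPrime 𝔐) := by
        intro x hx
        rw [IsLocalization.AtPrime.to_map_mem_maximal_iff (Localization.AtPrime 𝔐) 𝔐]
        exact hle (Ideal.subset_span hx)
      have hW := Groth.Agent.KoszulFlat9.isWeaklyRegular_map_of_koszulRegular
        (algebraMap (MvPolynomial (Fin n) p.asIdeal.ResidueField) (Localization.AtPrime 𝔐))
        (RingHom.flat_algebraMap_iff.mpr (IsLocalization.flat _ 𝔐.primeCompl)) _ hKbar hmem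
      refine IsRegular.of_isWeaklyRegular_of_mem_maximalIdeal _ ?_ hW
      intro r hr
      obtain ⟨y, hy, rfl⟩ := List.mem_map.1 hr
      exact hmem y hy)
  rw [List.length_map, List.length_ofFn] at hdim
  have h2 : ringKrullDim (p.asIdeal.Fiber (Synt.RelGCIRing R n c F)) =
      ringKrullDim (MvPolynomial (Fin n) p.asIdeal.ResidueField ⧸ Ideal.ofList
        ((List.ofFn F).map (MvPolynomial.map (algebraMap R p.asIdeal.ResidueField)))) :=
    ringKrullDim_eq_of_ringEquiv eΦ
  rw [← h2] at hdim
  obtain ⟨d, hd, hdc⟩ := exists_nat_of_add_eq ringKrullDim_nonneg_of_nontrivial hdim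
  refine ⟨by omega, ?_⟩
  rw [hd]
  have : d = n - c := by omega
  rw [this]

end KF

section pres

variable {R S : Type u} [CommRing R] [CommRing S] [Algebra R S]

/-- the presentation of `S_{π G}` in one more variable, relations lifted to `P[X]`. -/
theorem exists_presentation_away' (n : ℕ)
    (π : MvPolynomial (Fin n) R →ₐ[R] S) (hπ : Function.Surjective π)
    (G : MvPolynomial (Fin n) R) (bs : List (MvPolynomial (Fin n) R)[X])
    (heq : Ideal.ofList (bs.map (evInv G)) =
      (RingHom.ker π.toRingHom).map (algebraMap (MvPolynomial (Fin n) R) (Localization.Away G))) :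
    ∃ φ : MvPolynomial (Fin (n + 1)) R →ₐ[R] Localization.Away (π G), Function.Surjective φ ∧
      ∀ x, φ x = 0 ↔ MvPolynomial.finSuccEquiv R n x ∈ Ideal.ofList
        ((C G * X - 1 : (MvPolynomial (Fin n) R)[X]) :: bs) := by
  classical
  have hker : RingHom.ker (awayLift π.toRingHom G) = Ideal.ofList (bs.map (evInv G)) := by
    rw [ker_awayLift, heq]
  let E := MvPolynomial.finSuccEquiv R n
  let γ : (MvPolynomial (Fin n) R)[X] →+* Localization.Away (π G) :=
    (awayLift π.toRingHom G).comp (evInv G)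
  have hγsurj : Function.Surjective γ :=
    (awayLift_surjective π.toRingHom hπ G).comp (evInv_surjective G)
  let φ : MvPolynomial (Fin (n + 1)) R →ₐ[R] Localization.Away (π G) :=
    { γ.comp (E : MvPolynomial (Fin (n + 1)) R →+* (MvPolynomial (Fin n) R)[X]) with
      commutes' := fun a => by
        show γ (E (algebraMap R _ a)) = algebraMap R _ a
        rw [E.commutes]
        show awayLift π.toRingHom G (evInv G (algebraMap R (MvPolynomial (Fin n) R)[X] a)) = _
        rw [Polynomial.algebraMap_apply, evInv_C, awayLift_algebraMap]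
        show algebraMap S _ (π (algebraMap R _ a)) = _
        rw [π.commutes, ← IsScalarTower.algebraMap_apply]
        rfl }
  have hφ : ∀ x, φ x = γ (E x) := fun _ => rfl
  have hφsurj : Function.Surjective φ := by
    intro z
    obtain ⟨w, hw⟩ := hγsurj z
    exact ⟨E.symm w, by rw [hφ, E.apply_symm_apply, hw]⟩
  have h1 : RingHom.ker γ =
      Ideal.ofList ((C G * X - 1 : (MvPolynomial (Fin n) R)[X]) :: bs) := by
    rw [show RingHom.ker γ = (RingHom.ker (awayLift π.toRingHom G)).comap (evInv G) from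
      (RingHom.comap_ker _ _).symm, hker, ← Ideal.map_ofList,
      Ideal.comap_map_of_surjective _ (evInv_surjective G), ← RingHom.ker_eq_comap_bot,
      ker_evInv, Ideal.ofList_cons, sup_comm]
  refine ⟨φ, hφsurj, fun x => ?_⟩
  rw [hφ, ← RingHom.mem_ker, h1]

end pres

section LS

variable {P : Type u} [CommRing P] (G : P)

/-- `P_G ≃ P[X]/(GX-1)` as rings. -/
noncomputable def awayEquivQuot :
    Localization.Away G ≃+* (P[X] ⧸ Ideal.ofList [(C G * X - 1 : P[X])]) :=
  ((Ideal.quotEquivOfEq (show Ideal.ofList [(C G * X - 1 : P[X])] = RingHom.ker (evInv G) by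
      rw [ker_evInv, Ideal.ofList_singleton])).trans
    (RingHom.quotientKerEquivOfSurjective (evInv_surjective G))).symm

lemma awayEquivQuot_evInv (b : P[X]) :
    awayEquivQuot G (evInv G b) = Ideal.Quotient.mk _ b := by
  unfold awayEquivQuot
  rw [RingEquiv.symm_apply_eq]
  rfl

/-- lifting a Koszul-regular sequence of `P_G` to `P[X]`. -/
theorem koszul_cons_CX (bs : List P[X])
    (hl : LCI.IsKoszulRegularSeq (Localization.Away G) (bs.map (evInv G))) :
    LCI.IsKoszulRegularSeq P[X] ((C G * X - 1 : P[X]) :: bs) := by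
  have h1 : LCI.IsKoszulRegularSeq P[X] [(C G * X - 1 : P[X])] :=
    (Groth.Agent.Lib.KoszulTopH7.koszulRegular _
      ((isWeaklyRegular_singleton_iff P[X] _).mpr (isSMulRegular_CX_sub_one G))).1
  have h2 : LCI.IsKoszulRegularSeq (P[X] ⧸ Ideal.ofList [(C G * X - 1 : P[X])])
      (bs.map (Ideal.Quotient.mk (Ideal.ofList [(C G * X - 1 : P[X])]))) := by
    have h3 := kreg_map_of_flat ((awayEquivQuot G : Localization.Away G ≃+* _) :
        Localization.Away G →+* (P[X] ⧸ Ideal.ofList [(C G * X - 1 : P[X])]))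
      (RingHom.Flat.of_bijective (awayEquivQuot G).bijective) _ hl
    rw [List.map_map] at h3
    have h4 : bs.map (Ideal.Quotient.mk (Ideal.ofList [(C G * X - 1 : P[X])])) =
        bs.map (⇑((awayEquivQuot G : Localization.Away G ≃+* _) :
          Localization.Away G →+* (P[X] ⧸ Ideal.ofList [(C G * X - 1 : P[X])])) ∘ ⇑(evInv G)) := by
      apply List.map_congr_left
      intro b _
      exact (awayEquivQuot_evInv G b).symm
    rw [h4]
    exact h3
  exact Groth.Agent.Lib.KoszulComp.kreg_append' [(C G * X - 1 : P[X])] bs h1 h2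

end LS

section main

variable (R S : Type u) [CommRing R] [CommRing S] [Algebra R S]

/-- **Local structure of syntomic algebras**: a syntomic `R`-algebra is, near every prime, a
relative global complete intersection. -/
theorem exists_relGCI_away (h : Synt.IsSyntomic R S) (q : Ideal S) [q.IsPrime] :
    ∃ g : S, g ∉ q ∧ ∃ (n c : ℕ) (F : Fin c → MvPolynomial (Fin n) R), Synt.IsRelGCI R n c F ∧
      Nonempty (Localization.Away g ≃ₐ[R] Synt.RelGCIRing R n c F) := by
  obtain ⟨hflat, hlci⟩ := (main9287 R S).mp h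
  obtain ⟨hft, n, π, hπ, hKR⟩ := hlci
  haveI : (q.comap π.toRingHom).IsPrime := Ideal.comap_isPrime _ _
  have hle : RingHom.ker π.toRingHom ≤ q.comap π.toRingHom := by
    intro x hx
    rw [Ideal.mem_comap, RingHom.mem_ker.mp hx]
    exact q.zero_mem
  obtain ⟨G, hG, l, hl, hspan⟩ := hKR ⟨q.comap π.toRingHom, inferInstance⟩ hle
  obtain ⟨bs, hbs⟩ : ∃ bs : List (MvPolynomial (Fin n) R)[X], bs.map (evInv G) = l := by
    refine ⟨l.map (Function.surjInv (evInv_surjective G)), ?_⟩
    rw [List.map_map]
    conv_rhs => rw [← List.map_id l]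
    apply List.map_congr_left
    intro a _
    exact Function.surjInv_eq (evInv_surjective G) a
  have heq : Ideal.ofList (bs.map (evInv G)) =
      (RingHom.ker π.toRingHom).map
        (algebraMap (MvPolynomial (Fin n) R) (Localization.Away G)) := by
    rw [hbs]
    exact hspan.symm
  obtain ⟨φ, hφ, hker⟩ := exists_presentation_away' n π hπ G bs heq
  set eE : (MvPolynomial (Fin n) R)[X] ≃+* MvPolynomial (Fin (n + 1)) R :=
    (MvPolynomial.finSuccEquiv R n).symm.toRingEquiv with heE
  set L' : List (MvPolynomial (Fin (n + 1)) R) :=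
    (((C G * X - 1 : (MvPolynomial (Fin n) R)[X]) :: bs).map eE) with hL'
  have hker' : Ideal.ofList L' = RingHom.ker φ := by
    ext x
    rw [RingHom.mem_ker, hker, hL', mem_ofList_map_ringEquiv]
    rfl
  have hKL : LCI.IsKoszulRegularSeq (MvPolynomial (Fin n) R)[X]
      ((C G * X - 1 : (MvPolynomial (Fin n) R)[X]) :: bs) := by
    apply koszul_cons_CX
    rw [hbs]
    exact hl
  have hKL' : LCI.IsKoszulRegularSeq (MvPolynomial (Fin (n + 1)) R) L' :=
    kreg_map_of_flat (eE : (MvPolynomial (Fin n) R)[X] →+* MvPolynomial (Fin (n + 1)) R)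
      (RingHom.Flat.of_bijective eE.bijective) _ hKL
  have hspanL : Ideal.span (Set.range L'.get) = Ideal.ofList L' := by
    rw [span_range_eq_ofList, List.ofFn_get]
  let Equot : Synt.RelGCIRing R (n + 1) L'.length L'.get ≃ₐ[R] Localization.Away (π G) :=
    ((Ideal.quotientEquivAlgOfEq R hspanL).trans (Ideal.quotientEquivAlgOfEq R hker')).trans
      (Ideal.quotientKerAlgEquivOfSurjective hφ)
  refine ⟨π G, hG, n + 1, L'.length, L'.get, ?_, ⟨Equot.symm⟩⟩
  apply isRelGCI_of_koszul_of_flat
  · rw [List.ofFn_get]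
    exact hKL'
  · haveI : Module.Flat R S := hflat
    haveI : Module.Flat R (Localization.Away (π G)) := Module.Flat.trans R S _
    exact Module.Flat.of_linearEquiv Equot.toLinearEquiv

end main

end Groth.Agent.Lib.RelGCI
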