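import Mathlib
import Groth.Prelude.Def_Flat
import Groth.Agent.Lib.FibLoc_helper8

/-! The local dimension of the ring-theoretic fibre `κ(p) ⊗ S` versus `FlatMor.fibreDimAt`. -/

universe u
open AlgebraicGeometry CategoryTheory

namespace FibSpecH8

variable (R S : Type u) [CommRing R] [CommRing S] [Algebra R S]

theorem fibreDimAt_spec_eq (q : PrimeSpectrum S) (hq : q ∈ PrimeSpectrum.comap (algebraMap R S) ⁻¹'
      {(⟨q.asIdeal.under R, inferInstance⟩ : PrimeSpectrum R)}) :
    FlatMor.fibreDimAt (Spec.map (CommRingCat.ofHom (algebraMap R S))) q =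
      FlatMor.localDim (PrimeSpectrum ((q.asIdeal.under R).Fiber S))
        (PrimeSpectrum.preimageHomeomorphFiber R S ⟨q.asIdeal.under R, inferInstance⟩ ⟨q, hq⟩) := by
  set f := Spec.map (CommRingCat.ofHom (algebraMap R S)) with hf
  rw [Groth.Agent.FibLocH8.localDim_homeomorph
    (PrimeSpectrum.preimageHomeomorphFiber R S ⟨q.asIdeal.under R, inferInstance⟩) ⟨q, hq⟩]
  unfold FlatMor.fibreDimAt
  rw [← Groth.Agent.FibLocH8.localDim_homeomorph (f.fiberHomeo (f q)) (f.asFiber q)]
  have : f.fiberHomeo (f q) (f.asFiber q) = ⟨q, rfl⟩ := by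
    apply Subtype.ext
    rw [Scheme.Hom.fiberHomeo_apply, Scheme.Hom.fiberι_asFiber]
  rw [this]
  rfl

end FibSpecH8
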