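import Mathlib
import Groth.Prelude.Def_RegImm
import Groth.Agent.Lib.RelGCI7_helper2
import Groth.Agent.Lib.SyntSch2_helper2
import Groth.Agent.Lib.SmoothLCI_helper2

/-!
# Syntomic at a point ⟺ standard syntomic neighbourhood (helper2)

* `SyntHom`: syntomic ring homomorphisms (flat + lci), respects isomorphisms;
* `isSyntomicAt_of_standard`, `exists_standard_of_isSyntomicAt`, `main9364`.
APPEND-ONLY once landed.
-/

set_option autoImplicit false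
universe u

namespace Groth.Agent.Lib.SyntStd

open AlgebraicGeometry CategoryTheory CategoryTheory.Limits TopologicalSpace
open Groth.Agent.Lib.LCIComp Groth.Agent.Lib.SyntTA Groth.Agent.Lib.SyntSch Groth.Agent.Lib.RelGCI
  Groth.Agent.Lib.KoszulAtLCI

section ring

/-- syntomic ring homomorphisms: flat and lci. -/
def SyntHom {A B : Type u} [CommRing A] [CommRing B] (φ : A →+* B) : Prop :=
  φ.Flat ∧ IsLCIHom φ

lemma syntHom_iff {A B : Type u} [CommRing A] [CommRing B] (φ : A →+* B) :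
    SyntHom φ ↔ @Synt.IsSyntomic A _ B _ φ.toAlgebra := by
  letI := φ.toAlgebra
  rw [main9287]
  exact Iff.rfl

lemma syntHom_algebraMap_iff {A B : Type u} [CommRing A] [CommRing B] [Algebra A B] :
    SyntHom (algebraMap A B) ↔ Synt.IsSyntomic A B := by
  rw [main9287, ← isLCIHom_algebraMap_iff, ← RingHom.flat_algebraMap_iff]
  exact Iff.rfl

lemma isLCIHom_of_ringEquiv {A B : Type u} [CommRing A] [CommRing B] (e : A ≃+* B) :
    IsLCIHom e.toRingHom := by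
  letI := e.toRingHom.toAlgebra
  exact isLCI_of_ringEquiv (A := A) (B := A) (B' := B) e (fun a => rfl)
    Groth.Agent.Lib.SmoothLCI.isLCI_self

lemma syntHom_stableUnderComposition : RingHom.StableUnderComposition @SyntHom := by
  intro A B C _ _ _ φ ψ h1 h2
  exact ⟨h1.1.comp h2.1, isLCIHom_comp φ ψ h1.2 h2.2⟩

lemma syntHom_respectsIso : RingHom.RespectsIso @SyntHom :=
  syntHom_stableUnderComposition.respectsIso
    (fun e => ⟨RingHom.Flat.of_bijective e.bijective, isLCIHom_of_ringEquiv e⟩)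

end ring

section arrows

/-- global sections of an isomorphism of arrows of schemes. -/
noncomputable def arrowAppTopIso {X Y X' Y' : Scheme.{u}} (g : X ⟶ Y) (g' : X' ⟶ Y')
    (a : X ≅ X') (b : Y ≅ Y') (w : a.hom ≫ g' = g ≫ b.hom) :
    Arrow.mk g'.appTop ≅ Arrow.mk g.appTop :=
  Arrow.isoMk (Scheme.Γ.mapIso b.op) (Scheme.Γ.mapIso a.op) (by
    show b.hom.appTop ≫ g.appTop = g'.appTop ≫ a.hom.appTop
    rw [← Scheme.Hom.comp_appTop, ← Scheme.Hom.comp_appTop, w])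

/-- `Spec` of an isomorphism of rings. -/
noncomputable def specIso {A B : CommRingCat.{u}} (i : A ≅ B) : Spec B ≅ Spec A where
  hom := Spec.map i.hom
  inv := Spec.map i.inv
  hom_inv_id := by rw [← Spec.map_comp, i.inv_hom_id, Spec.map_id]
  inv_hom_id := by rw [← Spec.map_comp, i.hom_inv_id, Spec.map_id]

/-- `Spec` of an isomorphism of arrows of rings. -/
noncomputable def arrowSpecIso {A₁ B₁ A₂ B₂ : CommRingCat.{u}} (φ₁ : A₁ ⟶ B₁) (φ₂ : A₂ ⟶ B₂)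
    (a : A₁ ≅ A₂) (b : B₁ ≅ B₂) (w : a.hom ≫ φ₂ = φ₁ ≫ b.hom) :
    Arrow.mk (Spec.map φ₁) ≅ Arrow.mk (Spec.map φ₂) :=
  Arrow.isoMk (specIso b).symm (specIso a).symm (by
    show Spec.map b.inv ≫ Spec.map φ₂ = Spec.map φ₁ ≫ Spec.map a.inv
    rw [← Spec.map_comp, ← Spec.map_comp]
    congr 1
    rw [Iso.comp_inv_eq, Category.assoc, ← w, Iso.inv_hom_id_assoc])

end arrows

section scheme

variable {X S : Scheme.{u}}

lemma ι_comp_appLE (f : X ⟶ S) (U₀ : X.Opens) (V : S.Opens) (W' : U₀.toScheme.Opens)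
    (e' : W' ≤ (U₀.ι ≫ f) ⁻¹ᵁ V) (e'' : U₀.ι ''ᵁ W' ≤ f ⁻¹ᵁ V) :
    (U₀.ι ≫ f).appLE V W' e' = f.appLE V (U₀.ι ''ᵁ W') e'' := by
  rw [Scheme.Hom.comp_appLE, Scheme.Opens.ι_appLE]
  rfl

/-- **(⟸)** -/
theorem isSyntomicAt_of_standard (f : X ⟶ S) (x : X) (V : S.affineOpens) (U : X.affineOpens)
    (e : U.1 ≤ f ⁻¹ᵁ V.1) (hx : x ∈ U.1)
    (h : Synt.IsStandardSyntomic (f.resLE V.1 U.1 e)) : Synt.IsSyntomicAt f x := by
  obtain ⟨R, _, n, c, F, hgci, e₁, e₂, hcomm⟩ := h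
  refine ⟨U, V, e, hx, ?_⟩
  have h0 : SyntHom (algebraMap R (Synt.RelGCIRing R n c F)) :=
    syntHom_algebraMap_iff.mpr (main9147 R n c F hgci)
  let φ : CommRingCat.of R ⟶ CommRingCat.of (Synt.RelGCIRing R n c F) :=
    CommRingCat.ofHom (algebraMap R (Synt.RelGCIRing R n c F))
  have i1 : Arrow.mk φ ≅ Arrow.mk (Spec.map φ).appTop := arrowIsoΓSpecOfIsAffine φ
  have i2 : Arrow.mk (Spec.map φ).appTop ≅ Arrow.mk (f.resLE V.1 U.1 e).appTop :=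
    arrowAppTopIso (f.resLE V.1 U.1 e) (Spec.map φ) e₁ e₂ hcomm
  have i3 := arrowResLEAppIso f V.1 U.1 e
  have h1 : SyntHom (f.appLE V.1 U.1 e).hom :=
    (syntHom_respectsIso.arrow_mk_iso_iff (i1 ≪≫ i2 ≪≫ i3)).mp h0
  exact (syntHom_iff _).mp h1

/-- Step 1 of (⟹): an affine neighbourhood inside `f⁻¹ V` with syntomic coordinate ring map. -/
theorem exists_affine_syntHom (f : X ⟶ S) (x : X) (V : S.affineOpens) (hV : f.base x ∈ V.1)
    (h : Synt.IsSyntomicAt f x) :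
    ∃ (W : X.Opens) (_ : IsAffineOpen W) (e : W ≤ f ⁻¹ᵁ V.1), x ∈ W ∧
      SyntHom (f.appLE V.1 W e).hom := by
  obtain ⟨U₀, V₀, e₀, hxU₀, hs₀⟩ := h
  have hs₀' : SyntHom (f.appLE V₀.1 U₀.1 e₀).hom := (syntHom_iff _).mpr hs₀
  haveI : IsAffine U₀.1.toScheme := U₀.2
  have hsynt : Synt.IsSyntomicMor (U₀.1.ι ≫ f) := by
    intro x'
    have etop : (⊤ : U₀.1.toScheme.Opens) ≤ (U₀.1.ι ≫ f) ⁻¹ᵁ V₀.1 := by
      intro y _
      exact e₀ y.2
    refine ⟨⟨⊤, isAffineOpen_top _⟩, V₀, etop, trivial, ?_⟩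
    have e'' : U₀.1.ι ''ᵁ ⊤ ≤ f ⁻¹ᵁ V₀.1 := by
      rw [Scheme.Opens.ι_image_top]
      exact e₀
    have h2 : SyntHom ((U₀.1.ι ≫ f).appLE V₀.1 ⊤ etop).hom := by
      rw [ι_comp_appLE f U₀.1 V₀.1 ⊤ etop e'']
      exact (Scheme.Hom.appLE_congr f e'' rfl U₀.1.ι_image_top
        (fun φ => SyntHom φ.hom)).mpr hs₀'
    exact (syntHom_iff _).mp h2
  have hall := (main9363 (U₀.1.ι ≫ f)).mp hsynt
  have hx' : (⟨x, hxU₀⟩ : U₀.1.toScheme) ∈ (U₀.1.ι ≫ f) ⁻¹ᵁ V.1 := hV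
  obtain ⟨W', hW', hxW', hW'V⟩ :=
    (Opens.isBasis_iff_nbhd.mp U₀.1.toScheme.isBasis_affineOpens) hx'
  have e'' : U₀.1.ι ''ᵁ W' ≤ f ⁻¹ᵁ V.1 := by
    rintro _ ⟨y', hy', rfl⟩
    exact hW'V hy'
  refine ⟨U₀.1.ι ''ᵁ W', IsAffineOpen.image_of_isOpenImmersion hW' U₀.1.ι, e'',
    ⟨⟨x, hxU₀⟩, hxW', rfl⟩, ?_⟩
  have h1 := hall ⟨W', hW'⟩ V hW'V
  have h2 : SyntHom ((U₀.1.ι ≫ f).appLE V.1 W' hW'V).hom := (syntHom_iff _).mpr h1
  rw [ι_comp_appLE f U₀.1 V.1 W' hW'V e''] at h2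
  exact h2

/-- **(⟹)** -/
theorem exists_standard_of_isSyntomicAt (f : X ⟶ S) (x : X) (V : S.affineOpens)
    (hV : f.base x ∈ V.1) (h : Synt.IsSyntomicAt f x) :
    ∃ (U : X.affineOpens) (e : U.1 ≤ f ⁻¹ᵁ V.1), x ∈ U.1 ∧
      Synt.IsStandardSyntomic (f.resLE V.1 U.1 e) := by
  obtain ⟨W, hW, eW, hxW, hsW⟩ := exists_affine_syntHom f x V hV h
  letI algAB : Algebra Γ(S, V.1) Γ(X, W) := (f.appLE V.1 W eW).hom.toAlgebra
  have hsynt : Synt.IsSyntomic Γ(S, V.1) Γ(X, W) := (syntHom_iff _).mp hsW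
  haveI : (hW.primeIdealOf ⟨x, hxW⟩).asIdeal.IsPrime := (hW.primeIdealOf ⟨x, hxW⟩).isPrime
  obtain ⟨g, hg, n, c, F, hgci, ⟨E⟩⟩ :=
    exists_relGCI_away Γ(S, V.1) Γ(X, W) hsynt (hW.primeIdealOf ⟨x, hxW⟩).asIdeal
  have hUW : X.basicOpen g ≤ W := X.basicOpen_le g
  have hU : IsAffineOpen (X.basicOpen g) := hW.basicOpen g
  have hxU : x ∈ X.basicOpen g := by
    have h1 : hW.primeIdealOf ⟨x, hxW⟩ ∈ hW.fromSpec ⁻¹ᵁ X.basicOpen g := by
      rw [hW.fromSpec_preimage_basicOpen]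
      exact hg
    have h2 : hW.fromSpec (hW.primeIdealOf ⟨x, hxW⟩) ∈ X.basicOpen g := h1
    rwa [hW.fromSpec_primeIdealOf] at h2
  have eU : X.basicOpen g ≤ f ⁻¹ᵁ V.1 := hUW.trans eW
  refine ⟨⟨X.basicOpen g, hU⟩, eU, hxU, ?_⟩
  haveI := hW.isLocalization_basicOpen g
  let ρ : Γ(X, X.basicOpen g) ≃ₐ[Γ(X, W)] Localization.Away g :=
    IsLocalization.algEquiv (Submonoid.powers g) _ _
  let Er : Γ(X, X.basicOpen g) ≃+* Synt.RelGCIRing Γ(S, V.1) n c F :=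
    ρ.toRingEquiv.trans E.toRingEquiv
  have hEr : ∀ a : Γ(S, V.1), Er ((f.appLE V.1 (X.basicOpen g) eU).hom a) =
      algebraMap Γ(S, V.1) (Synt.RelGCIRing Γ(S, V.1) n c F) a := by
    intro a
    have h1 : (f.appLE V.1 (X.basicOpen g) eU).hom a =
        algebraMap Γ(X, W) Γ(X, X.basicOpen g) (algebraMap Γ(S, V.1) Γ(X, W) a) := by
      rw [← Scheme.Hom.appLE_map f eW (homOfLE hUW).op]
      rfl
    show E (ρ _) = _
    rw [h1, ρ.commutes, ← IsScalarTower.algebraMap_apply, E.commutes]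
  let φ : CommRingCat.of Γ(S, V.1) ⟶ CommRingCat.of (Synt.RelGCIRing Γ(S, V.1) n c F) :=
    CommRingCat.ofHom (algebraMap Γ(S, V.1) (Synt.RelGCIRing Γ(S, V.1) n c F))
  let j : Arrow.mk (f.appLE V.1 (X.basicOpen g) eU) ≅ Arrow.mk φ :=
    Arrow.isoMk (Iso.refl _) Er.toCommRingCatIso (by
      apply CommRingCat.hom_ext
      ext a
      exact (hEr a).symm)
  haveI : IsAffine (X.basicOpen g).toScheme := hU
  haveI : IsAffine V.1.toScheme := V.2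
  let i1 := arrowIsoSpecΓOfIsAffine (f.resLE V.1 (X.basicOpen g) eU)
  let i2 : Arrow.mk (f.resLE V.1 (X.basicOpen g) eU).appTop ≅ Arrow.mk φ :=
    (arrowResLEAppIso f V.1 (X.basicOpen g) eU) ≪≫ j
  let i3 : Arrow.mk (Spec.map (f.resLE V.1 (X.basicOpen g) eU).appTop) ≅ Arrow.mk (Spec.map φ) :=
    arrowSpecIso _ _ (Arrow.leftFunc.mapIso i2) (Arrow.rightFunc.mapIso i2) i2.hom.w
  let i := i1 ≪≫ i3
  exact ⟨Γ(S, V.1), inferInstance, n, c, F, hgci, Arrow.leftFunc.mapIso i,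
    Arrow.rightFunc.mapIso i, i.hom.w⟩

theorem main9364 (f : X ⟶ S) (x : X) (V : S.affineOpens) (hV : f.base x ∈ V.1) :
    Synt.IsSyntomicAt f x ↔
      ∃ (U : X.affineOpens) (e : U.1 ≤ f ⁻¹ᵁ V.1), x ∈ U.1 ∧
        Synt.IsStandardSyntomic (f.resLE V.1 U.1 e) :=
  ⟨exists_standard_of_isSyntomicAt f x V hV,
    fun ⟨U, e, hx, h⟩ => isSyntomicAt_of_standard f x V U e hx h⟩

end scheme

end Groth.Agent.Lib.SyntStd
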