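import Mathlib
import Groth.Prelude.Def_RegImm
import Groth.Prelude.Def_Flat
import Groth.Agent.Lib.SyntStd_helper2
import Groth.Agent.Lib.SyntCM1_helper2
import Groth.Agent.Lib.FibSpec_helper8
import Groth.Agent.Lib.LocDim_helper8
import Groth.Agent.Lib.FibCoh8_helper8

/-!
# Fibre dimension of relative global complete intersections and syntomic morphisms (helper2)
APPEND-ONLY once landed.
-/

set_option autoImplicit false
universe u

namespace Groth.Agent.Lib.SyntDim

open AlgebraicGeometry CategoryTheory CategoryTheory.Limits TopologicalSpace TensorProduct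
open Groth.Agent.Lib.SyntTA Groth.Agent.Lib.RelGCI Groth.Agent.Lib.SyntCM Groth.Agent.Lib.SyntStd
open Groth.Agent.LocDimH8

section LD

/-- if all maximal ideals of a finite type algebra over a field have height `d`, the local
dimension of its spectrum is `d` at every point. -/
theorem localDim_of_forall_isMaximal_height (k A : Type u) [Field k] [CommRing A] [Algebra k A]
    [Algebra.FiniteType k A] (d : ℕ) (h : ∀ (m : Ideal A) [m.IsMaximal], m.height = (d : ℕ∞))
    (y : PrimeSpectrum A) :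
    FlatMor.localDim (PrimeSpectrum A) y = ((d : ℕ∞) : WithBot ℕ∞) := by
  unfold FlatMor.localDim
  apply le_antisymm
  · refine iInf_le_of_le ⟨⊤, trivial⟩ ?_
    change topologicalKrullDim
      ↥((⊤ : TopologicalSpace.Opens (PrimeSpectrum A)) : Set (PrimeSpectrum A)) ≤ _
    rw [topologicalKrullDim_open_primeSpectrum A
      ((⊤ : TopologicalSpace.Opens (PrimeSpectrum A)) : Set (PrimeSpectrum A))
      (⊤ : TopologicalSpace.Opens (PrimeSpectrum A)).2]
    apply iSup_le
    intro u
    obtain ⟨m, hm, hle⟩ := Ideal.exists_le_maximal u.1.asIdeal u.1.isPrime.ne_top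
    haveI := hm
    have h1 := Ideal.height_mono hle
    rw [h m] at h1
    exact_mod_cast h1
  · apply le_iInf
    rintro ⟨U, hyU⟩
    obtain ⟨m, hmU, -, hmax, -⟩ := exists_isMaximal_mem_open k A y U.1 U.2 hyU
    haveI := hmax
    change _ ≤ topologicalKrullDim ↥(U : Set (PrimeSpectrum A))
    rw [topologicalKrullDim_open_primeSpectrum A (U : Set (PrimeSpectrum A)) U.2]
    refine le_trans ?_ (le_iSup _ (⟨m, hmU⟩ : (U : Set (PrimeSpectrum A))))
    rw [h m.asIdeal]

end LD

section relgci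

variable (R : Type u) [CommRing R] (n c : ℕ) (F : Fin c → MvPolynomial (Fin n) R)

/-- all maximal ideals of a ring isomorphic to `k[x]/(r)` of dimension `n - c` have height
`n - c`. -/
theorem height_isMaximal_of_equiv (k : Type u) [Field k] (n c : ℕ) (hcn : c ≤ n)
    (r : Fin c → MvPolynomial (Fin n) k) {Φ : Type u} [CommRing Φ]
    (eΦ : Φ ≃+* (MvPolynomial (Fin n) k ⧸ Ideal.span (Set.range r)))
    (hdim : ringKrullDim Φ = ((n - c : ℕ) : WithBot ℕ∞)) (m : Ideal Φ) [m.IsMaximal] :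
    m.height = ((n - c : ℕ) : ℕ∞) := by
  have hdim' : ringKrullDim (MvPolynomial (Fin n) k ⧸ Ideal.span (Set.range r)) =
      ((n - c : ℕ) : WithBot ℕ∞) := by
    rw [← ringKrullDim_eq_of_ringEquiv eΦ]
    exact hdim
  have hker : RingHom.ker (Ideal.Quotient.mkₐ k (Ideal.span (Set.range r))).toRingHom =
      Ideal.span (Set.range r) := Ideal.mk_ker
  haveI : (m.comap eΦ.symm).IsMaximal :=
    Ideal.comap_isMaximal_of_surjective _ eΦ.symm.surjective
  have h3 := height_of_isMaximal_presentation k n c hcn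
    (Ideal.Quotient.mkₐ k (Ideal.span (Set.range r))) r
    (Ideal.Quotient.mkₐ_surjective _ _) hker hdim' (m.comap eΦ.symm)
  have h4 : (m.comap eΦ.symm).height = m.height :=
    RingEquiv.height_comap eΦ.symm m
  rw [← h4]
  exact h3

/-- the fibre ring of a presented algebra, presentation by a family. -/
theorem nonempty_fibreEquiv' (p : Ideal R) [p.IsPrime] :
    Nonempty (p.Fiber (Synt.RelGCIRing R n c F) ≃+* (MvPolynomial (Fin n) p.ResidueField ⧸
      Ideal.span (Set.range (fun i => MvPolynomial.map (algebraMap R p.ResidueField) (F i))))) := by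
  obtain ⟨eΦ⟩ := nonempty_fibreEquiv R n c F p
  have hJ : Ideal.ofList ((List.ofFn F).map (MvPolynomial.map (algebraMap R p.ResidueField))) =
      Ideal.span (Set.range (fun i => MvPolynomial.map (algebraMap R p.ResidueField) (F i))) := by
    rw [span_range_eq_ofList, List.map_ofFn]
    rfl
  exact ⟨eΦ.trans (Ideal.quotEquivOfEq hJ)⟩

theorem main9366 (hF : Synt.IsRelGCI R n c F)
    (x : ↑(Spec (CommRingCat.of (Synt.RelGCIRing R n c F)))) :
    FlatMor.fibreDimAt (Spec.map (CommRingCat.ofHom (algebraMap R (Synt.RelGCIRing R n c F)))) x =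
      ((n - c : ℕ) : WithBot ℕ∞) := by
  let q : PrimeSpectrum (Synt.RelGCIRing R n c F) := x
  have hq : q ∈ PrimeSpectrum.comap (algebraMap R (Synt.RelGCIRing R n c F)) ⁻¹'
      {(⟨q.asIdeal.under R, inferInstance⟩ : PrimeSpectrum R)} := rfl
  have h1 := FibSpecH8.fibreDimAt_spec_eq R (Synt.RelGCIRing R n c F) q hq
  haveI : Nontrivial ((q.asIdeal.under R).Fiber (Synt.RelGCIRing R n c F)) := by
    have : Nonempty (PrimeSpectrum ((q.asIdeal.under R).Fiber (Synt.RelGCIRing R n c F))) :=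
      ⟨PrimeSpectrum.preimageHomeomorphFiber R (Synt.RelGCIRing R n c F)
        ⟨q.asIdeal.under R, inferInstance⟩ ⟨q, hq⟩⟩
    exact (PrimeSpectrum.nonempty_iff_nontrivial).mp this
  haveI : Algebra.FiniteType R (Synt.RelGCIRing R n c F) :=
    Algebra.FiniteType.of_surjective (Ideal.Quotient.mkₐ R (Ideal.span (Set.range F)))
      (Ideal.Quotient.mkₐ_surjective R _)
  obtain ⟨hcn, hdim⟩ := hF ⟨q.asIdeal.under R, inferInstance⟩ inferInstance
  obtain ⟨eΦ⟩ := nonempty_fibreEquiv' R n c F (q.asIdeal.under R)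
  have h2 := localDim_of_forall_isMaximal_height (q.asIdeal.under R).ResidueField
    ((q.asIdeal.under R).Fiber (Synt.RelGCIRing R n c F)) (n - c)
    (fun m _ => height_isMaximal_of_equiv (q.asIdeal.under R).ResidueField n c hcn _ eΦ hdim m)
    (PrimeSpectrum.preimageHomeomorphFiber R (Synt.RelGCIRing R n c F)
      ⟨q.asIdeal.under R, inferInstance⟩ ⟨q, hq⟩)
  exact h1.trans h2

end relgci

section synt

theorem main9367 {X S : Scheme.{u}} (f : X ⟶ S) (hf : Synt.IsSyntomicMor f) :
    IsLocallyConstant (fun x : ↑X => FlatMor.fibreDimAt f x) := by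
  rw [IsLocallyConstant.iff_exists_open]
  intro x
  obtain ⟨V₀, hV₀, hxV, -⟩ := (Opens.isBasis_iff_nbhd.mp S.isBasis_affineOpens)
    (show f x ∈ (⊤ : S.Opens) from trivial)
  obtain ⟨V, rfl⟩ : ∃ V : S.affineOpens, V.1 = V₀ := ⟨⟨V₀, hV₀⟩, rfl⟩
  obtain ⟨U, e, hxU, R, _, n, c, F, hgci, e₁, e₂, hcomm⟩ :=
    exists_standard_of_isSyntomicAt f x V hxV (hf x)
  have key : ∀ y (hy : y ∈ U.1), FlatMor.fibreDimAt f y = ((n - c : ℕ) : WithBot ℕ∞) := by
    intro y hy
    have h1 : Spec.map (CommRingCat.ofHom (algebraMap R (Synt.RelGCIRing R n c F))) =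
        e₁.inv ≫ f.resLE V.1 U.1 e ≫ e₂.hom := by
      rw [← hcomm, Iso.inv_hom_id_assoc]
    have comm : Spec.map (CommRingCat.ofHom (algebraMap R (Synt.RelGCIRing R n c F))) ≫
        (e₂.inv ≫ V.1.ι) = (e₁.inv ≫ U.1.ι) ≫ f := by
      rw [h1]
      simp only [Category.assoc, Iso.hom_inv_id_assoc, Scheme.Hom.resLE_comp_ι]
    have h2 := FibCohH8.fibreDimAt_etale_local f
      (Spec.map (CommRingCat.ofHom (algebraMap R (Synt.RelGCIRing R n c F))))
      (e₁.inv ≫ U.1.ι) (e₂.inv ≫ V.1.ι) comm (e₁.hom ⟨y, hy⟩)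
    have hay : (e₁.inv ≫ U.1.ι) (e₁.hom ⟨y, hy⟩) = y := by
      rw [Scheme.Hom.comp_apply, ← Scheme.Hom.comp_apply e₁.hom e₁.inv, e₁.hom_inv_id]
      rfl
    rw [hay] at h2
    rw [h2]
    exact main9366 R n c F hgci _
  refine ⟨U.1, U.1.2, hxU, fun y hy => ?_⟩
  show FlatMor.fibreDimAt f y = FlatMor.fibreDimAt f x
  rw [key y hy, key x hxU]

end synt

end Groth.Agent.Lib.SyntDim
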