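import Mathlib
import Groth.Prelude.Def_RegImm
import Groth.Prelude.Def_Flat
import Groth.Agent.Lib.SyntDim_helper2
import Groth.Agent.Lib.Chev3_helper8

/-!
# Relative global complete intersections, part 8 (helper2): making a presentation a relative
global complete intersection by inverting an element (Chevalley semicontinuity + Krull).
APPEND-ONLY once landed.
-/

set_option autoImplicit false
universe u

namespace Groth.Agent.Lib.RelGCI

open AlgebraicGeometry CategoryTheory TensorProduct MvPolynomial
open Groth.Agent.Lib.SyntTA Groth.Agent.Lib.SyntDim Groth.Agent.LocDimH8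

section dimGE

/-- **Krull's bound**: `c'` equations in `m` variables over a field cut out a ring of dimension
at least `m - c'` (if nonzero). -/
theorem le_ringKrullDim_quot_span (k : Type u) [Field k] (m c' : ℕ)
    (r : Fin c' → MvPolynomial (Fin m) k)
    [Nontrivial (MvPolynomial (Fin m) k ⧸ Ideal.span (Set.range r))] :
    ((m - c' : ℕ) : WithBot ℕ∞) ≤
      ringKrullDim (MvPolynomial (Fin m) k ⧸ Ideal.span (Set.range r)) := by
  classical
  have hJ : Ideal.span (Set.range r) ≠ ⊤ := by
    intro h
    have := (Ideal.Quotient.nontrivial_iff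
      (I := Ideal.span (Set.range r))).mp inferInstance
    exact this h
  obtain ⟨P, hP⟩ := Ideal.nonempty_minimalPrimes hJ
  haveI : P.IsPrime := hP.1.1
  have hset : (Set.range r) = ((Finset.univ.image r : Finset (MvPolynomial (Fin m) k)) : Set _) := by
    rw [Finset.coe_image, Finset.coe_univ, Set.image_univ]
  have hht : P.height ≤ (c' : ℕ∞) := by
    rw [hset] at hP
    refine (Ideal.height_le_card_of_mem_minimalPrimes_span_finset hP).trans ?_
    have : (Finset.univ.image r).card ≤ c' := by
      refine Finset.card_image_le.trans ?_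
      simp
    exact_mod_cast this
  obtain ⟨d, hd, hh⟩ := dim_quot_prime_mvPolynomial k m P
  have hle : Ideal.span (Set.range r) ≤ P := hP.1.2
  have h1 : ringKrullDim (MvPolynomial (Fin m) k ⧸ P) ≤
      ringKrullDim (MvPolynomial (Fin m) k ⧸ Ideal.span (Set.range r)) :=
    ringKrullDim_le_of_surjective (Ideal.Quotient.factor hle)
      (Ideal.Quotient.factor_surjective hle)
  refine le_trans ?_ h1
  rw [hd]
  have h2 : P.height ≠ ⊤ := by
    intro htop
    rw [htop] at hht
    exact (ENat.coe_ne_top c') (top_le_iff.mp hht)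
  obtain ⟨a, ha⟩ := ENat.ne_top_iff_exists.mp h2
  rw [← ha] at hh hht
  have h3 : a + d = m := by exact_mod_cast hh
  have h4 : a ≤ c' := by exact_mod_cast hht
  have : m - c' ≤ d := by omega
  exact_mod_cast this

end dimGE

section dimLE

variable (R A : Type u) [CommRing R] [CommRing A] [Algebra R A]

theorem fibreDimAt_spec_eq' (p : PrimeSpectrum R) (q : PrimeSpectrum A)
    (hq : q ∈ PrimeSpectrum.comap (algebraMap R A) ⁻¹' {p}) :
    FlatMor.fibreDimAt (Spec.map (CommRingCat.ofHom (algebraMap R A))) q =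
      FlatMor.localDim (PrimeSpectrum (p.asIdeal.Fiber A))
        (PrimeSpectrum.preimageHomeomorphFiber R A p ⟨q, hq⟩) := by
  obtain rfl : p = ⟨q.asIdeal.under R, inferInstance⟩ := by
    have h1 : PrimeSpectrum.comap (algebraMap R A) q = p := hq
    rw [← h1]
    rfl
  exact FibSpecH8.fibreDimAt_spec_eq R A q hq

theorem height_le_localDim (B : Type u) [CommRing B] (Q : PrimeSpectrum B) :
    ((Q.asIdeal.height : ℕ∞) : WithBot ℕ∞) ≤ FlatMor.localDim (PrimeSpectrum B) Q := by
  unfold FlatMor.localDim
  apply le_iInf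
  rintro ⟨U, hQU⟩
  change _ ≤ topologicalKrullDim ↥(U : Set (PrimeSpectrum B))
  rw [topologicalKrullDim_open_primeSpectrum B (U : Set (PrimeSpectrum B)) U.2]
  exact le_iSup (fun u : (U : Set (PrimeSpectrum B)) =>
    ((u.1.asIdeal.height : ℕ∞) : WithBot ℕ∞)) ⟨Q, hQU⟩

/-- if all local fibre dimensions are `≤ d`, so are the dimensions of the fibre rings. -/
theorem ringKrullDim_fibre_le (d : ℕ)
    (h : ∀ x : PrimeSpectrum A,
      FlatMor.fibreDimAt (Spec.map (CommRingCat.ofHom (algebraMap R A))) x ≤ (d : WithBot ℕ∞))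
    (p : PrimeSpectrum R) : ringKrullDim (p.asIdeal.Fiber A) ≤ (d : WithBot ℕ∞) := by
  rw [ringKrullDim_le_iff_height_le]
  intro 𝔪 h𝔪
  set Q : PrimeSpectrum (p.asIdeal.Fiber A) := ⟨𝔪, h𝔪⟩ with hQ
  set e := PrimeSpectrum.preimageHomeomorphFiber R A p with he
  have h1 := fibreDimAt_spec_eq' R A p (e.symm Q).1 (e.symm Q).2
  have h2 : e ⟨(e.symm Q).1, (e.symm Q).2⟩ = Q := e.apply_symm_apply Q
  rw [h2] at h1
  have h3 := height_le_localDim (p.asIdeal.Fiber A) Q
  rw [← h1] at h3
  exact h3.trans (h _)

end dimLE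

section snoc

variable (R : Type u) [CommRing R] (n c : ℕ) (F : Fin c → MvPolynomial (Fin n) R)
  (h : MvPolynomial (Fin n) R)

/-- the extended family of equations `(F, h·x_{n+1} - 1)`. -/
noncomputable def Fsnoc : Fin (c + 1) → MvPolynomial (Fin (n + 1)) R :=
  Fin.snoc (fun i => rename Fin.castSucc (F i)) (rename Fin.castSucc h * X (Fin.last n) - 1)

lemma Fsnoc_castSucc (i : Fin c) : Fsnoc R n c F h (Fin.castSucc i) = rename Fin.castSucc (F i) := by
  unfold Fsnoc
  rw [Fin.snoc_castSucc]

lemma Fsnoc_last : Fsnoc R n c F h (Fin.last c) = rename Fin.castSucc h * X (Fin.last n) - 1 := by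
  unfold Fsnoc
  rw [Fin.snoc_last]

/-- `S → S'`, induced by the inclusion of variables. -/
noncomputable def psi : Synt.RelGCIRing R n c F →ₐ[R] Synt.RelGCIRing R (n + 1) (c + 1) (Fsnoc R n c F h) :=
  Ideal.Quotient.liftₐ (Ideal.span (Set.range F))
    ((Ideal.Quotient.mkₐ R (Ideal.span (Set.range (Fsnoc R n c F h)))).comp
      (rename Fin.castSucc : MvPolynomial (Fin n) R →ₐ[R] MvPolynomial (Fin (n + 1)) R))
    (by
      have hle : Ideal.span (Set.range F) ≤ RingHom.ker
          ((Ideal.Quotient.mkₐ R (Ideal.span (Set.range (Fsnoc R n c F h)))).comp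
            (rename Fin.castSucc : MvPolynomial (Fin n) R →ₐ[R]
              MvPolynomial (Fin (n + 1)) R)).toRingHom := by
        rw [Ideal.span_le]
        rintro _ ⟨i, rfl⟩
        show Ideal.Quotient.mk _ (rename Fin.castSucc (F i)) = 0
        rw [Ideal.Quotient.eq_zero_iff_mem, ← Fsnoc_castSucc R n c F h i]
        exact Ideal.subset_span ⟨_, rfl⟩
      intro a ha
      exact hle ha)

lemma psi_mk (x : MvPolynomial (Fin n) R) :
    psi R n c F h (Ideal.Quotient.mk _ x) = Ideal.Quotient.mk _ (rename Fin.castSucc x) := rfl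

lemma psi_g_mul :
    psi R n c F h (Ideal.Quotient.mk _ h) *
      Ideal.Quotient.mk (Ideal.span (Set.range (Fsnoc R n c F h))) (X (Fin.last n)) = 1 := by
  rw [psi_mk, ← map_mul, ← sub_eq_zero, ← map_one (Ideal.Quotient.mk _), ← map_sub,
    Ideal.Quotient.eq_zero_iff_mem, ← Fsnoc_last R n c F h]
  exact Ideal.subset_span ⟨_, rfl⟩

lemma isUnit_psi_pow (y : Submonoid.powers (Ideal.Quotient.mk (Ideal.span (Set.range F)) h)) :
    IsUnit (psi R n c F h y) := by
  obtain ⟨k, hk⟩ := y.2
  rw [← hk, map_pow]
  exact (IsUnit.of_mul_eq_one _ (psi_g_mul R n c F h)).pow k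

/-- `S_g → S'`. -/
noncomputable def Psi : Localization.Away (Ideal.Quotient.mk (Ideal.span (Set.range F)) h) →ₐ[R]
    Synt.RelGCIRing R (n + 1) (c + 1) (Fsnoc R n c F h) :=
  IsLocalization.liftAlgHom (M := Submonoid.powers (Ideal.Quotient.mk (Ideal.span (Set.range F)) h))
    (f := psi R n c F h) (isUnit_psi_pow R n c F h)

lemma Psi_algebraMap (s : Synt.RelGCIRing R n c F) :
    Psi R n c F h (algebraMap _ _ s) = psi R n c F h s := by
  unfold Psi
  rw [IsLocalization.liftAlgHom_apply, IsLocalization.lift_eq]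
  rfl

/-- the values of the variables in `S_g`. -/
noncomputable def vv : Fin (n + 1) →
    Localization.Away (Ideal.Quotient.mk (Ideal.span (Set.range F)) h) :=
  Fin.snoc (fun i => algebraMap (Synt.RelGCIRing R n c F) _ (Ideal.Quotient.mk _ (X i)))
    (IsLocalization.Away.invSelf (Ideal.Quotient.mk (Ideal.span (Set.range F)) h))

/-- `R[x] → S → S_g`. -/
noncomputable def phiS : MvPolynomial (Fin n) R →ₐ[R]
    Localization.Away (Ideal.Quotient.mk (Ideal.span (Set.range F)) h) :=
  (IsScalarTower.toAlgHom R (Synt.RelGCIRing R n c F) _).comp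
    (Ideal.Quotient.mkₐ R (Ideal.span (Set.range F)))

lemma phiS_apply (x : MvPolynomial (Fin n) R) :
    phiS R n c F h x = algebraMap (Synt.RelGCIRing R n c F) _ (Ideal.Quotient.mk _ x) := rfl

lemma aeval_vv_rename (x : MvPolynomial (Fin n) R) :
    aeval (vv R n c F h) (rename Fin.castSucc x) = phiS R n c F h x := by
  rw [aeval_rename]
  have h1 : vv R n c F h ∘ Fin.castSucc = fun i => phiS R n c F h (X i) := by
    funext i
    show vv R n c F h (Fin.castSucc i) = _
    unfold vv
    rw [Fin.snoc_castSucc]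
    rfl
  rw [h1]
  exact (AlgHom.congr_fun (aeval_unique (phiS R n c F h)) x).symm

lemma aeval_vv_last :
    aeval (vv R n c F h) (X (Fin.last n) : MvPolynomial (Fin (n + 1)) R) =
    IsLocalization.Away.invSelf (Ideal.Quotient.mk (Ideal.span (Set.range F)) h) := by
  rw [aeval_X]
  unfold vv
  rw [Fin.snoc_last]

/-- `S' → S_g`. -/
noncomputable def Theta : Synt.RelGCIRing R (n + 1) (c + 1) (Fsnoc R n c F h) →ₐ[R]
    Localization.Away (Ideal.Quotient.mk (Ideal.span (Set.range F)) h) :=
  Ideal.Quotient.liftₐ (Ideal.span (Set.range (Fsnoc R n c F h))) (aeval (vv R n c F h))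
    (by
      have hle : Ideal.span (Set.range (Fsnoc R n c F h)) ≤
          RingHom.ker (aeval (vv R n c F h) : MvPolynomial (Fin (n + 1)) R →ₐ[R] _).toRingHom := by
        rw [Ideal.span_le]
        rintro _ ⟨j, rfl⟩
        show aeval (vv R n c F h) (Fsnoc R n c F h j) = 0
        induction j using Fin.lastCases with
        | last =>
          rw [Fsnoc_last, map_sub, map_mul, map_one, aeval_vv_rename, aeval_vv_last, phiS_apply,
            IsLocalization.Away.mul_invSelf, sub_self]
        | cast i =>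
          rw [Fsnoc_castSucc, aeval_vv_rename, phiS_apply]
          have : Ideal.Quotient.mk (Ideal.span (Set.range F)) (F i) = 0 :=
            Ideal.Quotient.eq_zero_iff_mem.mpr (Ideal.subset_span ⟨i, rfl⟩)
          rw [this, map_zero]
      intro a ha
      exact hle ha)

lemma Theta_mk (x : MvPolynomial (Fin (n + 1)) R) :
    Theta R n c F h (Ideal.Quotient.mk _ x) = aeval (vv R n c F h) x := rfl

lemma Theta_comp_Psi : (Theta R n c F h).comp (Psi R n c F h) = AlgHom.id R _ := by
  apply IsLocalization.algHom_ext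
    (Submonoid.powers (Ideal.Quotient.mk (Ideal.span (Set.range F)) h))
  apply Ideal.Quotient.algHom_ext
  apply MvPolynomial.algHom_ext
  intro i
  show Theta R n c F h (Psi R n c F h (algebraMap (Synt.RelGCIRing R n c F) _
      (Ideal.Quotient.mk _ (X i : MvPolynomial (Fin n) R)))) =
    algebraMap (Synt.RelGCIRing R n c F) _ (Ideal.Quotient.mk _ (X i : MvPolynomial (Fin n) R))
  rw [Psi_algebraMap, psi_mk, Theta_mk, aeval_vv_rename, phiS_apply]

lemma Psi_invSelf : Psi R n c F h
    (IsLocalization.Away.invSelf (Ideal.Quotient.mk (Ideal.span (Set.range F)) h)) =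
    Ideal.Quotient.mk (Ideal.span (Set.range (Fsnoc R n c F h)))
      (X (Fin.last n) : MvPolynomial (Fin (n + 1)) R) := by
  have h1 : Psi R n c F h
      (IsLocalization.Away.invSelf (Ideal.Quotient.mk (Ideal.span (Set.range F)) h)) *
      psi R n c F h (Ideal.Quotient.mk _ h) = 1 := by
    rw [← Psi_algebraMap, ← map_mul, mul_comm, IsLocalization.Away.mul_invSelf, map_one]
  have h2 := psi_g_mul R n c F h
  have h3 : Psi R n c F h
      (IsLocalization.Away.invSelf (Ideal.Quotient.mk (Ideal.span (Set.range F)) h)) =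
      Psi R n c F h
        (IsLocalization.Away.invSelf (Ideal.Quotient.mk (Ideal.span (Set.range F)) h)) *
        (psi R n c F h (Ideal.Quotient.mk _ h) *
          Ideal.Quotient.mk (Ideal.span (Set.range (Fsnoc R n c F h)))
            (X (Fin.last n) : MvPolynomial (Fin (n + 1)) R)) := by
    rw [h2, mul_one]
  rw [h3, ← mul_assoc, h1, one_mul]

lemma Psi_comp_Theta : (Psi R n c F h).comp (Theta R n c F h) = AlgHom.id R _ := by
  apply Ideal.Quotient.algHom_ext
  apply MvPolynomial.algHom_ext
  intro j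
  show Psi R n c F h (Theta R n c F h (Ideal.Quotient.mk _
      (X j : MvPolynomial (Fin (n + 1)) R))) =
    Ideal.Quotient.mk _ (X j : MvPolynomial (Fin (n + 1)) R)
  rw [Theta_mk]
  induction j using Fin.lastCases with
  | last => rw [aeval_vv_last, Psi_invSelf]
  | cast i =>
    have h1 : (X (Fin.castSucc i) : MvPolynomial (Fin (n + 1)) R) = rename Fin.castSucc (X i) := by
      rw [rename_X]
    rw [h1, aeval_vv_rename, phiS_apply, Psi_algebraMap, psi_mk]

/-- **the presentation of `S_g` with the new variable last.** -/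
noncomputable def awaySnocEquiv :
    Localization.Away (Ideal.Quotient.mk (Ideal.span (Set.range F)) h) ≃ₐ[R]
      Synt.RelGCIRing R (n + 1) (c + 1) (Fsnoc R n c F h) :=
  AlgEquiv.ofAlgHom (Psi R n c F h) (Theta R n c F h) (Psi_comp_Theta R n c F h)
    (Theta_comp_Psi R n c F h)

end snoc

section away

/-- fibre dimension on `Spec S_g` equals fibre dimension on `D(g) ⊆ Spec S`. -/
theorem fibreDimAt_away (R : Type u) [CommRing R] {S : Type u} [CommRing S] [Algebra R S] (g : S)
    (x : PrimeSpectrum (Localization.Away g)) :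
    FlatMor.fibreDimAt (Spec.map (CommRingCat.ofHom (algebraMap R (Localization.Away g)))) x =
      FlatMor.fibreDimAt (Spec.map (CommRingCat.ofHom (algebraMap R S)))
        ((Spec.map (CommRingCat.ofHom (algebraMap S (Localization.Away g)))) x) := by
  have comm : Spec.map (CommRingCat.ofHom (algebraMap R (Localization.Away g))) ≫ 𝟙 _ =
      Spec.map (CommRingCat.ofHom (algebraMap S (Localization.Away g))) ≫
        Spec.map (CommRingCat.ofHom (algebraMap R S)) := by
    rw [Category.comp_id, ← Spec.map_comp, ← CommRingCat.ofHom_comp,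
      ← IsScalarTower.algebraMap_eq R S (Localization.Away g)]
  exact (FibCohH8.fibreDimAt_etale_local _ _ _ (𝟙 _) comm x).symm

lemma notMem_specMap_away {S : Type u} [CommRing S] (g : S)
    (x : PrimeSpectrum (Localization.Away g)) :
    g ∉ ((Spec.map (CommRingCat.ofHom (algebraMap S (Localization.Away g)))) x :
      PrimeSpectrum S).asIdeal := by
  intro hmem
  have h1 : algebraMap S (Localization.Away g) g ∈ x.asIdeal := hmem
  exact x.isPrime.ne_top (Ideal.eq_top_of_isUnit_mem _ h1
    (IsLocalization.Away.algebraMap_isUnit g))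

variable (R : Type u) [CommRing R] (n c : ℕ) (F : Fin c → MvPolynomial (Fin n) R)
  (h : MvPolynomial (Fin n) R)

/-- **inverting an element makes the presentation a relative global complete intersection**,
as soon as the fibre dimension is `≤ n - c` on the principal open. -/
theorem away_isRelGCI
    (hdim : ∀ q : PrimeSpectrum (Synt.RelGCIRing R n c F),
      Ideal.Quotient.mk (Ideal.span (Set.range F)) h ∉ q.asIdeal →
      c ≤ n ∧ FlatMor.fibreDimAt
        (Spec.map (CommRingCat.ofHom (algebraMap R (Synt.RelGCIRing R n c F)))) q ≤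
          ((n - c : ℕ) : WithBot ℕ∞)) :
    Synt.IsRelGCI R (n + 1) (c + 1) (Fsnoc R n c F h) := by
  intro p hnt
  haveI := hnt
  let eF : p.asIdeal.Fiber (Localization.Away (Ideal.Quotient.mk (Ideal.span (Set.range F)) h))
      ≃ₐ[p.asIdeal.ResidueField]
      p.asIdeal.Fiber (Synt.RelGCIRing R (n + 1) (c + 1) (Fsnoc R n c F h)) :=
    Algebra.TensorProduct.congr AlgEquiv.refl (awaySnocEquiv R n c F h)
  haveI hnt2 : Nontrivial (p.asIdeal.Fiber
      (Localization.Away (Ideal.Quotient.mk (Ideal.span (Set.range F)) h))) :=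
    eF.symm.injective.nontrivial
  obtain ⟨Q⟩ := (PrimeSpectrum.nonempty_iff_nontrivial).mpr hnt2
  obtain ⟨hcn, -⟩ := hdim _ (notMem_specMap_away (Ideal.Quotient.mk (Ideal.span (Set.range F)) h)
    ((PrimeSpectrum.preimageHomeomorphFiber R _ p).symm Q).1)
  have hle : ringKrullDim (p.asIdeal.Fiber
      (Localization.Away (Ideal.Quotient.mk (Ideal.span (Set.range F)) h))) ≤
      ((n - c : ℕ) : WithBot ℕ∞) := by
    apply ringKrullDim_fibre_le R
      (Localization.Away (Ideal.Quotient.mk (Ideal.span (Set.range F)) h)) (n - c) _ p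
    intro y
    rw [fibreDimAt_away R (Ideal.Quotient.mk (Ideal.span (Set.range F)) h) y]
    exact (hdim _ (notMem_specMap_away _ y)).2
  obtain ⟨eΦ⟩ := nonempty_fibreEquiv' R (n + 1) (c + 1) (Fsnoc R n c F h) p.asIdeal
  haveI : Nontrivial (MvPolynomial (Fin (n + 1)) p.asIdeal.ResidueField ⧸
      Ideal.span (Set.range (fun i => MvPolynomial.map (algebraMap R p.asIdeal.ResidueField)
        (Fsnoc R n c F h i)))) := eΦ.injective.nontrivial
  have hge := le_ringKrullDim_quot_span p.asIdeal.ResidueField (n + 1) (c + 1)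
    (fun i => MvPolynomial.map (algebraMap R p.asIdeal.ResidueField) (Fsnoc R n c F h i))
  have h2 : ringKrullDim (p.asIdeal.Fiber
      (Synt.RelGCIRing R (n + 1) (c + 1) (Fsnoc R n c F h))) =
      ringKrullDim (MvPolynomial (Fin (n + 1)) p.asIdeal.ResidueField ⧸
        Ideal.span (Set.range (fun i => MvPolynomial.map (algebraMap R p.asIdeal.ResidueField)
          (Fsnoc R n c F h i)))) := ringKrullDim_eq_of_ringEquiv eΦ
  have h3 : ringKrullDim (p.asIdeal.Fiber
      (Localization.Away (Ideal.Quotient.mk (Ideal.span (Set.range F)) h))) =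
      ringKrullDim (p.asIdeal.Fiber (Synt.RelGCIRing R (n + 1) (c + 1) (Fsnoc R n c F h))) :=
    ringKrullDim_eq_of_ringEquiv eF.toRingEquiv
  refine ⟨by omega, ?_⟩
  have hnc : n + 1 - (c + 1) = n - c := by omega
  rw [hnc]
  apply le_antisymm
  · rw [← h3]
    exact hle
  · rw [h2]
    rw [hnc] at hge
    exact hge

end away

end Groth.Agent.Lib.RelGCI
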