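import Mathlib
import Groth.Prelude.Def_RegImm
import Groth.Prelude.Def_Flat
import Groth.Agent.Lib.RelGCI8_helper2
import Groth.Agent.Lib.Chev4_helper8

/-!
# Relative global complete intersections, part 9 (helper2): S9173 and S9172.
APPEND-ONLY once landed.
-/

set_option autoImplicit false
universe u

namespace Groth.Agent.Lib.RelGCI

open AlgebraicGeometry CategoryTheory TensorProduct MvPolynomial
open Groth.Agent.Lib.SyntTA Groth.Agent.Lib.SyntDim Groth.Agent.LocDimH8

section general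

variable (R A : Type u) [CommRing R] [CommRing A] [Algebra R A]

theorem localDim_le_ringKrullDim (B : Type u) [CommRing B] (Q : PrimeSpectrum B) :
    FlatMor.localDim (PrimeSpectrum B) Q ≤ ringKrullDim B := by
  unfold FlatMor.localDim
  refine iInf_le_of_le ⟨⊤, trivial⟩ ?_
  change topologicalKrullDim
    ↥((⊤ : TopologicalSpace.Opens (PrimeSpectrum B)) : Set (PrimeSpectrum B)) ≤ _
  rw [topologicalKrullDim_open_primeSpectrum B
    ((⊤ : TopologicalSpace.Opens (PrimeSpectrum B)) : Set (PrimeSpectrum B))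
    (⊤ : TopologicalSpace.Opens (PrimeSpectrum B)).2]
  apply iSup_le
  intro u
  exact Ideal.height_le_ringKrullDim_of_ne_top u.1.isPrime.ne_top

/-- the local fibre dimension is bounded by the dimension of the fibre ring. -/
theorem fibreDimAt_le_ringKrullDim (p : PrimeSpectrum R) (q : PrimeSpectrum A)
    (hq : q ∈ PrimeSpectrum.comap (algebraMap R A) ⁻¹' {p}) :
    FlatMor.fibreDimAt (Spec.map (CommRingCat.ofHom (algebraMap R A))) q ≤
      ringKrullDim (p.asIdeal.Fiber A) := by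
  rw [fibreDimAt_spec_eq' R A p q hq]
  exact localDim_le_ringKrullDim _ _

theorem isOpen_setOf_fibreDimAt_le [Algebra.FiniteType R A] (d : ℕ) :
    IsOpen {q : PrimeSpectrum A |
      FlatMor.fibreDimAt (Spec.map (CommRingCat.ofHom (algebraMap R A))) q ≤ (d : WithBot ℕ∞)} := by
  haveI : LocallyOfFiniteType (Spec.map (CommRingCat.ofHom (algebraMap R A))) := by
    rw [HasRingHomProperty.Spec_iff (P := @LocallyOfFiniteType)]
    exact RingHom.finiteType_algebraMap.mpr inferInstance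
  exact ChevH8.isOpen_fibreDimAt_le (Spec.map (CommRingCat.ofHom (algebraMap R A))) d

end general

section s9173

variable (R : Type u) [CommRing R] (n c : ℕ) (F : Fin c → MvPolynomial (Fin n) R)

instance finiteType_relGCIRing : Algebra.FiniteType R (Synt.RelGCIRing R n c F) :=
  Algebra.FiniteType.of_surjective (Ideal.Quotient.mkₐ R (Ideal.span (Set.range F)))
    (Ideal.Quotient.mkₐ_surjective R _)

/-- elements of the extension of an ideal to the fibre ring, up to denominators. -/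
theorem exists_smul_eq_one_tmul_of_mem_map {S : Type u} [CommRing S] [Algebra R S] (p : Ideal R)
    [p.IsPrime] (J : Ideal S) (φ : p.Fiber S)
    (hφ : φ ∈ J.map (Algebra.TensorProduct.includeRight : S →ₐ[R] p.Fiber S).toRingHom) :
    ∃ r ∉ p, ∃ j ∈ J, r • φ = (1 : p.ResidueField) ⊗ₜ[R] j := by
  unfold Ideal.map at hφ
  induction hφ using Submodule.span_induction with
  | mem x hx =>
    obtain ⟨j, hj, rfl⟩ := hx
    exact ⟨1, fun h1 => (Ideal.IsPrime.ne_top inferInstance) ((Ideal.eq_top_iff_one p).mpr h1),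
      j, hj, by rw [one_smul]; rfl⟩
  | zero =>
    exact ⟨1, fun h1 => (Ideal.IsPrime.ne_top inferInstance) ((Ideal.eq_top_iff_one p).mpr h1),
      0, J.zero_mem, by rw [smul_zero, TensorProduct.tmul_zero]⟩
  | add x y _ _ hx hy =>
    obtain ⟨r₁, hr₁, j₁, hj₁, h₁⟩ := hx
    obtain ⟨r₂, hr₂, j₂, hj₂, h₂⟩ := hy
    refine ⟨r₁ * r₂, fun hm => (Ideal.IsPrime.mem_or_mem inferInstance hm).elim hr₁ hr₂,
      r₂ • j₁ + r₁ • j₂, J.add_mem (J.smul_of_tower_mem r₂ hj₁) (J.smul_of_tower_mem r₁ hj₂), ?_⟩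
    rw [smul_add, mul_comm r₁ r₂, mul_smul, mul_smul, h₁, smul_comm r₂ r₁ y, h₂,
      TensorProduct.tmul_add, TensorProduct.tmul_smul, TensorProduct.tmul_smul]
  | smul a x _ hx =>
    obtain ⟨r, hr, j, hj, h₁⟩ := hx
    obtain ⟨r', hr', s', hs'⟩ := Ideal.Fiber.exists_smul_eq_one_tmul p a
    refine ⟨r' * r, fun hm => (Ideal.IsPrime.mem_or_mem inferInstance hm).elim hr' hr,
      s' * j, J.mul_mem_left s' hj, ?_⟩
    rw [smul_eq_mul, ← smul_mul_smul_comm, hs', h₁, Algebra.TensorProduct.tmul_mul_tmul, one_mul]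

/-- a principal open inside `{fibreDimAt ≤ n - c}` gives a relative global complete
intersection. -/
theorem away_of_basicOpen_subset (hcn : c ≤ n) (h : MvPolynomial (Fin n) R)
    (hsub : ∀ q : PrimeSpectrum (Synt.RelGCIRing R n c F),
      Ideal.Quotient.mk (Ideal.span (Set.range F)) h ∉ q.asIdeal →
      FlatMor.fibreDimAt
        (Spec.map (CommRingCat.ofHom (algebraMap R (Synt.RelGCIRing R n c F)))) q ≤
          ((n - c : ℕ) : WithBot ℕ∞)) :
    Synt.IsRelGCI R (n + 1) (c + 1) (Fsnoc R n c F h) ∧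
      Nonempty (Localization.Away (Ideal.Quotient.mk (Ideal.span (Set.range F)) h) ≃ₐ[R]
        Synt.RelGCIRing R (n + 1) (c + 1) (Fsnoc R n c F h)) :=
  ⟨away_isRelGCI R n c F h (fun q hq => ⟨hcn, hsub q hq⟩), ⟨awaySnocEquiv R n c F h⟩⟩

/-- an open set containing the fibre over `p` contains a principal open `D(g)` with `g` a unit
on the fibre. -/
theorem exists_unit_on_fibre {S : Type u} [CommRing S] [Algebra R S] (p : Ideal R) [p.IsPrime]
    (Ω : Set (PrimeSpectrum S)) (hΩo : IsOpen Ω)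
    (hΩp : ∀ q : PrimeSpectrum S, q ∈ PrimeSpectrum.comap (algebraMap R S) ⁻¹'
        {(⟨p, inferInstance⟩ : PrimeSpectrum R)} → q ∈ Ω) :
    ∃ g : S, IsUnit ((1 : p.ResidueField) ⊗ₜ[R] g : p.Fiber S) ∧
      ∀ q : PrimeSpectrum S, g ∉ q.asIdeal → q ∈ Ω := by
  set J := PrimeSpectrum.vanishingIdeal (Ωᶜ : Set (PrimeSpectrum S)) with hJ
  have hZ : PrimeSpectrum.zeroLocus (J : Set S) = Ωᶜ := by
    rw [hJ, PrimeSpectrum.zeroLocus_vanishingIdeal_eq_closure, (hΩo.isClosed_compl).closure_eq]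
  have htop : J.map (Algebra.TensorProduct.includeRight : S →ₐ[R] p.Fiber S).toRingHom = ⊤ := by
    by_contra hne
    obtain ⟨M, hM, hle⟩ := Ideal.exists_le_maximal _ hne
    set Q : PrimeSpectrum (p.Fiber S) := ⟨M, hM.isPrime⟩ with hQ
    set e := PrimeSpectrum.preimageHomeomorphFiber R S ⟨p, inferInstance⟩ with he
    have hq1 : (e.symm Q).1 ∈ Ω := hΩp _ (e.symm Q).2
    have hq2 : (e.symm Q).1 ∈ PrimeSpectrum.zeroLocus (J : Set S) := by
      intro j hj
      show (Algebra.TensorProduct.includeRight : S →ₐ[R] p.Fiber S) j ∈ M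
      exact hle (Ideal.mem_map_of_mem _ hj)
    rw [hZ] at hq2
    exact hq2 hq1
  obtain ⟨r, hr, g, hgJ, hrg⟩ := exists_smul_eq_one_tmul_of_mem_map R p J 1
    (by rw [htop]; trivial)
  refine ⟨g, ?_, ?_⟩
  · rw [← hrg, ← Algebra.algebraMap_eq_smul_one, Algebra.TensorProduct.algebraMap_apply]
    have hu : IsUnit (algebraMap R p.ResidueField r) := by
      rw [isUnit_iff_ne_zero, Ne, Ideal.algebraMap_residueField_eq_zero]
      exact hr
    exact hu.map (Algebra.TensorProduct.includeLeftRingHom :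
      p.ResidueField →+* p.ResidueField ⊗[R] S)
  · intro q hq
    by_contra hqΩ
    have h1 : q ∈ PrimeSpectrum.zeroLocus (J : Set S) := by
      rw [hZ]
      exact hqΩ
    exact hq (h1 hgJ)

theorem main9173 (p : Ideal R) [p.IsPrime]
    (hp : c ≤ n ∧ ringKrullDim (p.Fiber (Synt.RelGCIRing R n c F)) =
      ((n - c : ℕ) : WithBot ℕ∞)) :
    ∃ h : MvPolynomial (Fin n) R,
      IsUnit ((1 : p.ResidueField) ⊗ₜ[R] (Ideal.Quotient.mk (Ideal.span (Set.range F)) h) :
        p.Fiber (Synt.RelGCIRing R n c F)) ∧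
      Synt.IsRelGCI R (n + 1) (c + 1) (Fsnoc R n c F h) ∧
      Nonempty (Localization.Away (Ideal.Quotient.mk (Ideal.span (Set.range F)) h) ≃ₐ[R]
        Synt.RelGCIRing R (n + 1) (c + 1) (Fsnoc R n c F h)) := by
  obtain ⟨hcn, hdim⟩ := hp
  obtain ⟨g, hgu, hgΩ⟩ := exists_unit_on_fibre R p _
    (isOpen_setOf_fibreDimAt_le R (Synt.RelGCIRing R n c F) (n - c))
    (fun q hq => (fibreDimAt_le_ringKrullDim R _ ⟨p, inferInstance⟩ q hq).trans hdim.le)
  obtain ⟨h, rfl⟩ := Ideal.Quotient.mk_surjective g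
  exact ⟨h, hgu, away_of_basicOpen_subset R n c F hcn h hgΩ⟩

end s9173

end Groth.Agent.Lib.RelGCI
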