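import Mathlib
import Groth.Prelude.Def_Koszul
import Groth.Prelude.Def_LCI2
import Groth.Agent.Lib.KRegIdeal_helper2
import Groth.Agent.Lib.KoszulSplit_helper2

/-!
# Quotient of a Koszul-regular sequence by a Koszul-regular initial part (helper2)

If `F` and `F ++ k` are Koszul-regular in `T`, then the image of `k` is Koszul-regular in
`T ⧸ (F)`.  The proof goes through the derived category: `K(F) ≃ T/(F)[0]`, and iterated cones of
scalar multiplications preserve isomorphisms in the derived category.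
APPEND-ONLY once landed.
-/

set_option autoImplicit false
universe u
open CategoryTheory CategoryTheory.Limits CochainComplex HomComplex

namespace Groth.Agent.Lib.KoszulQuot

open Groth.Agent.Lib.KoszulSwap

attribute [local instance] HasDerivedCategory.standard

variable {T : Type u} [CommRing T]

open DerivedCategory in
/-- cones of a scalar on complexes isomorphic in the derived category are isomorphic there. -/
theorem Q_cone_iso {N N' : CochainComplex (ModuleCat.{u} T) ℤ} (y : T)
    (e : (Q.obj N : DerivedCategory (ModuleCat.{u} T)) ≅ Q.obj N') :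
    Nonempty ((Q.obj (mappingCone (y • 𝟙 N)) : DerivedCategory (ModuleCat.{u} T)) ≅
      Q.obj (mappingCone (y • 𝟙 N'))) := by
  have h1 := mappingCone_triangle_distinguished (y • 𝟙 N)
  have h2 := mappingCone_triangle_distinguished (y • 𝟙 N')
  have hQ : ∀ M : CochainComplex (ModuleCat.{u} T) ℤ,
      (Q : _ ⥤ DerivedCategory (ModuleCat.{u} T)).map (y • 𝟙 M) = y • 𝟙 (Q.obj M) := by
    intro M
    rw [Functor.map_smul, CategoryTheory.Functor.map_id]
  have comm : e.hom ≫ (Q.mapTriangle.obj (mappingCone.triangle (y • 𝟙 N'))).mor₁ =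
      (Q.mapTriangle.obj (mappingCone.triangle (y • 𝟙 N))).mor₁ ≫ e.hom := by
    show e.hom ≫ Q.map (y • 𝟙 N') = Q.map (y • 𝟙 N) ≫ e.hom
    rw [hQ, hQ, Linear.smul_comp, Linear.comp_smul, Category.id_comp, Category.comp_id]
  obtain ⟨e', -, -⟩ := Pretriangulated.exists_iso_of_arrow_iso _ _ h1 h2
    (Arrow.isoMk e e comm)
  exact ⟨Pretriangulated.Triangle.π₃.mapIso e'⟩

open DerivedCategory in
theorem Q_iterCone_iso (k : List T) {N N' : CochainComplex (ModuleCat.{u} T) ℤ}
    (e : (Q.obj N : DerivedCategory (ModuleCat.{u} T)) ≅ Q.obj N') :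
    Nonempty ((Q.obj (iterCone k N) : DerivedCategory (ModuleCat.{u} T)) ≅
      Q.obj (iterCone k N')) := by
  induction k with
  | nil => exact ⟨e⟩
  | cons y ys ih =>
    obtain ⟨e'⟩ := ih
    exact Q_cone_iso y e'

open DerivedCategory in
theorem isZero_homology_of_Q_iso {N N' : CochainComplex (ModuleCat.{u} T) ℤ}
    (e : (Q.obj N : DerivedCategory (ModuleCat.{u} T)) ≅ Q.obj N') (i : ℤ)
    (h : IsZero (N.homology i)) : IsZero (N'.homology i) := by
  have e1 := (homologyFunctorFactors (ModuleCat.{u} T) i).app N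
  have e2 := (homologyFunctorFactors (ModuleCat.{u} T) i).app N'
  exact IsZero.of_iso h (e2.symm ≪≫ (homologyFunctor _ i).mapIso e.symm ≪≫ e1)

lemma koszulCx_eq_iterCone (M : ModuleCat.{u} T) : ∀ l : List T,
    CohIII.koszulCx M l = iterCone l
      ((HomologicalComplex.single (ModuleCat.{u} T) (ComplexShape.up ℤ) 0).obj M)
  | [] => rfl
  | y :: ys => by
    show mappingCone (y • 𝟙 (CohIII.koszulCx M ys)) =
      mappingCone (y • 𝟙 (iterCone ys
        ((HomologicalComplex.single (ModuleCat.{u} T) (ComplexShape.up ℤ) 0).obj M)))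
    rw [koszulCx_eq_iterCone M ys]

open DerivedCategory in
/-- the Koszul complex of a Koszul-regular sequence is, in the derived category, its `H⁰`. -/
theorem Q_koszul_iso_single (F : List T) (hF : LCI.IsKoszulRegularSeq T F) :
    Nonempty ((Q.obj (Koszul.koszul T F) : DerivedCategory (ModuleCat.{u} T)) ≅
      Q.obj ((HomologicalComplex.single (ModuleCat.{u} T) (ComplexShape.up ℤ) 0).obj
        (ModuleCat.of T (T ⧸ (Ideal.ofList F • (⊤ : Submodule T T)))))) := by
  haveI : (Koszul.koszul T F).IsGE 0 := by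
    rw [CochainComplex.isGE_iff]
    intro i hi
    rw [HomologicalComplex.exactAt_iff_isZero_homology]
    exact hF i (by omega)
  haveI : (Koszul.koszul T F).IsLE 0 := by
    rw [CochainComplex.isLE_iff]
    intro i hi
    rw [HomologicalComplex.exactAt_iff_isZero_homology]
    exact hF i (by omega)
  obtain ⟨Y, ⟨e⟩⟩ := exists_iso_singleFunctor_obj_of_isGE_of_isLE
    (Q.obj (Koszul.koszul T F)) 0
  let e0 : (Q.obj (Koszul.koszul T F) : DerivedCategory (ModuleCat.{u} T)) ≅
      Q.obj ((HomologicalComplex.single (ModuleCat.{u} T) (ComplexShape.up ℤ) 0).obj Y) :=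
    e ≪≫ (singleFunctorIsoCompQ (ModuleCat.{u} T) 0).app Y
  have eH : (Koszul.koszul T F).homology 0 ≅ Y :=
    ((homologyFunctorFactors (ModuleCat.{u} T) 0).app (Koszul.koszul T F)).symm ≪≫
      (homologyFunctor _ 0).mapIso e0 ≪≫
      (homologyFunctorFactors (ModuleCat.{u} T) 0).app _ ≪≫
      HomologicalComplex.singleObjHomologySelfIso (ComplexShape.up ℤ) 0 Y
  obtain ⟨et⟩ := Groth.Agent.Lib.KoszulTopH7.top_equiv' T F 0 rfl
  have eK : (Koszul.koszul T F).homology 0 ≅
      ModuleCat.of T (T ⧸ (Ideal.ofList F • (⊤ : Submodule T T))) :=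
    (HomologicalComplex.homologyFunctor _ _ 0).mapIso
      (eqToIso (Groth.Agent.Lib.KoszulTopH7.koszul_eq F)) ≪≫ et.toModuleIso
  exact ⟨e0 ≪≫ Q.mapIso ((HomologicalComplex.single (ModuleCat.{u} T) (ComplexShape.up ℤ) 0).mapIso
    (eH.symm ≪≫ eK))⟩

/-- **Quotient by a Koszul-regular initial part.** -/
theorem kreg_quot_list (F k : List T) (hF : LCI.IsKoszulRegularSeq T F)
    (hFk : LCI.IsKoszulRegularSeq T (F ++ k)) :
    LCI.IsKoszulRegularSeq (T ⧸ Ideal.ofList F)
      (k.map (Ideal.Quotient.mk (Ideal.ofList F))) := by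
  apply Groth.Agent.Lib.KoszulBC.isKoszulRegularSeq_map_of_restrict
    (Ideal.Quotient.mk (Ideal.ofList F)) k
  intro i hi
  obtain ⟨ep⟩ := koszul_perm T (List.perm_append_comm (l₁ := F) (l₂ := k))
  have h1 : IsZero ((Koszul.koszul T (k ++ F)).homology i) :=
    IsZero.of_iso (hFk i hi) ((HomologicalComplex.homologyFunctor _ _ i).mapIso ep.symm)
  rw [koszul_append] at h1
  obtain ⟨e1⟩ := Q_koszul_iso_single F hF
  obtain ⟨e2⟩ := Q_iterCone_iso k e1
  have h2 := isZero_homology_of_Q_iso e2 i h1
  rw [← koszulCx_eq_iterCone] at h2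
  have hsub : (Ideal.ofList F : Submodule T T) = Ideal.ofList F • (⊤ : Submodule T T) := by
    rw [smul_eq_mul, Ideal.mul_top]
  let e0 : (T ⧸ Ideal.ofList F) ≃ₗ[T] (T ⧸ (Ideal.ofList F • (⊤ : Submodule T T))) :=
    Submodule.quotEquivOfEq _ _ hsub
  let e' : ((ModuleCat.restrictScalars.{u} (Ideal.Quotient.mk (Ideal.ofList F))).obj
      (ModuleCat.of (T ⧸ Ideal.ofList F) (T ⧸ Ideal.ofList F))) ≃ₗ[T]
      (T ⧸ (Ideal.ofList F • (⊤ : Submodule T T))) :=
    { toFun := fun t => e0 (show T ⧸ Ideal.ofList F from t)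
      map_add' := fun x y => map_add e0 (show T ⧸ Ideal.ofList F from x) (show _ from y)
      map_smul' := fun r x => by
        have h1 : ((Ideal.Quotient.mk (Ideal.ofList F) r) * (show T ⧸ Ideal.ofList F from x)) =
            r • (show T ⧸ Ideal.ofList F from x) := by
          obtain ⟨y, hy⟩ := Ideal.Quotient.mk_surjective (show T ⧸ Ideal.ofList F from x)
          rw [← hy]
          rfl
        show e0 ((Ideal.Quotient.mk (Ideal.ofList F) r) * (show T ⧸ Ideal.ofList F from x)) =
          r • e0 (show T ⧸ Ideal.ofList F from x)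
        rw [h1, map_smul]
      invFun := fun z => e0.symm z
      left_inv := fun x => e0.symm_apply_apply (show T ⧸ Ideal.ofList F from x)
      right_inv := fun z => e0.apply_symm_apply z }
  exact IsZero.of_iso h2 ((HomologicalComplex.homologyFunctor _ _ i).mapIso
    (Groth.Agent.Lib.KoszulBC.koszulCxIso e'.toModuleIso k))

end Groth.Agent.Lib.KoszulQuot
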