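import Mathlib
import Groth.Prelude.Def_RegImm
import Groth.Prelude.Def_Flat
import Groth.Agent.Lib.RelGCI9_helper2

/-!
# Relative global complete intersections, part 10 (helper2): S9172.
APPEND-ONLY once landed.
-/

set_option autoImplicit false
universe u

namespace Groth.Agent.Lib.RelGCI

open AlgebraicGeometry CategoryTheory TensorProduct MvPolynomial
open Groth.Agent.Lib.SyntTA Groth.Agent.Lib.SyntDim Groth.Agent.LocDimH8

section general

/-- an open set containing `V(K)` contains a principal open `D(g)` with `g ≡ 1 mod K`. -/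
theorem exists_one_mod (R : Type u) [CommRing R] {S : Type u} [CommRing S] (K : Ideal S)
    (Ω : Set (PrimeSpectrum S)) (hΩo : IsOpen Ω)
    (hV : ∀ q : PrimeSpectrum S, K ≤ q.asIdeal → q ∈ Ω) :
    ∃ g : S, Ideal.Quotient.mk K g = 1 ∧ ∀ q : PrimeSpectrum S, g ∉ q.asIdeal → q ∈ Ω := by
  set J := PrimeSpectrum.vanishingIdeal (Ωᶜ : Set (PrimeSpectrum S)) with hJ
  have hZ : PrimeSpectrum.zeroLocus (J : Set S) = Ωᶜ := by
    rw [hJ, PrimeSpectrum.zeroLocus_vanishingIdeal_eq_closure, (hΩo.isClosed_compl).closure_eq]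
  have hsup : K ⊔ J = ⊤ := by
    rw [← PrimeSpectrum.zeroLocus_empty_iff_eq_top, PrimeSpectrum.zeroLocus_sup, hZ]
    ext q
    simp only [Set.mem_inter_iff, Set.mem_compl_iff, Set.mem_empty_iff_false, iff_false, not_and,
      not_not]
    intro hq
    exact hV q hq
  obtain ⟨i, hi, j, hj, hij⟩ := Submodule.mem_sup.mp
    (hsup ▸ (Submodule.mem_top : (1 : S) ∈ (⊤ : Ideal S)))
  refine ⟨j, ?_, ?_⟩
  · have h1 : Ideal.Quotient.mk K (i + j) = 1 := by rw [hij, map_one]
    rw [map_add, Ideal.Quotient.eq_zero_iff_mem.mpr hi, zero_add] at h1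
    exact h1
  · intro q hq
    by_contra hqΩ
    have h1 : q ∈ PrimeSpectrum.zeroLocus (J : Set S) := by
      rw [hZ]
      exact hqΩ
    exact hq (h1 hj)

end general

section s9172

variable (R : Type u) [CommRing R] (n c : ℕ) (F : Fin c → MvPolynomial (Fin n) R)

/-- the fibres of `S` over primes containing `I` are the fibres of `S/IS` over `R/I`. -/
theorem fibre_of_mod (I : Ideal R)
    (hI : Synt.IsRelGCI (R ⧸ I) n c (fun i => MvPolynomial.map (Ideal.Quotient.mk I) (F i)))
    (q : PrimeSpectrum (Synt.RelGCIRing R n c F))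
    (hq : I.map (algebraMap R (Synt.RelGCIRing R n c F)) ≤ q.asIdeal) :
    c ≤ n ∧ ringKrullDim ((q.asIdeal.under R).Fiber (Synt.RelGCIRing R n c F)) =
      ((n - c : ℕ) : WithBot ℕ∞) := by
  have hIp : I ≤ q.asIdeal.under R := by
    intro r hr
    exact hq (Ideal.mem_map_of_mem _ hr)
  haveI hpb : ((q.asIdeal.under R).map (Ideal.Quotient.mk I)).IsPrime :=
    Ideal.map_isPrime_of_surjective Ideal.Quotient.mk_surjective (by rw [Ideal.mk_ker]; exact hIp)
  have hp : q.asIdeal.under R =
      ((q.asIdeal.under R).map (Ideal.Quotient.mk I)).comap (Ideal.Quotient.mk I) := by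
    rw [Ideal.comap_map_of_surjective _ Ideal.Quotient.mk_surjective, ← RingHom.ker_eq_comap_bot,
      Ideal.mk_ker, sup_eq_left.mpr hIp]
  let ε : (q.asIdeal.under R).ResidueField ≃+*
      ((q.asIdeal.under R).map (Ideal.Quotient.mk I)).ResidueField :=
    RingEquiv.ofBijective (Ideal.ResidueField.map (q.asIdeal.under R)
      ((q.asIdeal.under R).map (Ideal.Quotient.mk I)) (Ideal.Quotient.mk I) hp)
      ((RingHom.surjectiveOnStalks_of_surjective
        Ideal.Quotient.mk_surjective).residueFieldMap_bijective _ _ hp)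
  have hε : ∀ r : R, ε (algebraMap R (q.asIdeal.under R).ResidueField r) =
      algebraMap (R ⧸ I) ((q.asIdeal.under R).map (Ideal.Quotient.mk I)).ResidueField
        (Ideal.Quotient.mk I r) :=
    Ideal.ResidueField.map_algebraMap _ _ _ hp
  obtain ⟨e₁⟩ := nonempty_fibreEquiv' R n c F (q.asIdeal.under R)
  obtain ⟨e₂⟩ := nonempty_fibreEquiv' (R ⧸ I) n c
    (fun i => MvPolynomial.map (Ideal.Quotient.mk I) (F i))
    ((q.asIdeal.under R).map (Ideal.Quotient.mk I))
  have hJ : Ideal.span (Set.range (fun i => MvPolynomial.map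
      (algebraMap (R ⧸ I) ((q.asIdeal.under R).map (Ideal.Quotient.mk I)).ResidueField)
        (MvPolynomial.map (Ideal.Quotient.mk I) (F i)))) =
      (Ideal.span (Set.range (fun i => MvPolynomial.map
        (algebraMap R (q.asIdeal.under R).ResidueField) (F i)))).map
        ((MvPolynomial.mapEquiv (Fin n) ε : MvPolynomial (Fin n) _ ≃+* MvPolynomial (Fin n) _) :
          MvPolynomial (Fin n) _ →+* MvPolynomial (Fin n) _) := by
    rw [Ideal.map_span, ← Set.range_comp]
    congr 2
    funext i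
    show _ = MvPolynomial.mapEquiv (Fin n) ε (MvPolynomial.map _ (F i))
    have hcomp : (algebraMap (R ⧸ I)
        ((q.asIdeal.under R).map (Ideal.Quotient.mk I)).ResidueField).comp (Ideal.Quotient.mk I) =
        ((ε : (q.asIdeal.under R).ResidueField →+*
          ((q.asIdeal.under R).map (Ideal.Quotient.mk I)).ResidueField)).comp
          (algebraMap R (q.asIdeal.under R).ResidueField) :=
      RingHom.ext (fun r => (hε r).symm)
    rw [MvPolynomial.mapEquiv_apply, MvPolynomial.map_map, MvPolynomial.map_map, hcomp]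
  let e₃ := Ideal.quotientEquiv _ _ (MvPolynomial.mapEquiv (Fin n) ε) hJ
  haveI hnt : Nontrivial ((q.asIdeal.under R).Fiber (Synt.RelGCIRing R n c F)) := by
    have : Nonempty (PrimeSpectrum ((q.asIdeal.under R).Fiber (Synt.RelGCIRing R n c F))) :=
      ⟨PrimeSpectrum.preimageHomeomorphFiber R (Synt.RelGCIRing R n c F)
        ⟨q.asIdeal.under R, inferInstance⟩ ⟨q, rfl⟩⟩
    exact (PrimeSpectrum.nonempty_iff_nontrivial).mp this
  let E : (q.asIdeal.under R).Fiber (Synt.RelGCIRing R n c F) ≃+*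
      ((q.asIdeal.under R).map (Ideal.Quotient.mk I)).Fiber (Synt.RelGCIRing (R ⧸ I) n c
        (fun i => MvPolynomial.map (Ideal.Quotient.mk I) (F i))) :=
    e₁.trans (e₃.trans e₂.symm)
  haveI : Nontrivial (((q.asIdeal.under R).map (Ideal.Quotient.mk I)).Fiber
      (Synt.RelGCIRing (R ⧸ I) n c (fun i => MvPolynomial.map (Ideal.Quotient.mk I) (F i)))) :=
    E.injective.nontrivial
  obtain ⟨hcn, hd⟩ := hI ⟨(q.asIdeal.under R).map (Ideal.Quotient.mk I), inferInstance⟩
    inferInstance
  refine ⟨hcn, ?_⟩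
  rw [← hd]
  exact ringKrullDim_eq_of_ringEquiv E

theorem main9172 (I : Ideal R)
    (hI : Synt.IsRelGCI (R ⧸ I) n c (fun i => MvPolynomial.map (Ideal.Quotient.mk I) (F i))) :
    ∃ h : MvPolynomial (Fin n) R,
      Ideal.Quotient.mk (I.map (algebraMap R (Synt.RelGCIRing R n c F)))
        (Ideal.Quotient.mk (Ideal.span (Set.range F)) h) = 1 ∧
      Synt.IsRelGCI R (n + 1) (c + 1) (Fsnoc R n c F h) ∧
      Nonempty (Localization.Away (Ideal.Quotient.mk (Ideal.span (Set.range F)) h) ≃ₐ[R]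
        Synt.RelGCIRing R (n + 1) (c + 1) (Fsnoc R n c F h)) := by
  by_cases hex : ∃ q : PrimeSpectrum (Synt.RelGCIRing R n c F),
      I.map (algebraMap R (Synt.RelGCIRing R n c F)) ≤ q.asIdeal
  · obtain ⟨q₀, hq₀⟩ := hex
    obtain ⟨hcn, -⟩ := fibre_of_mod R n c F I hI q₀ hq₀
    have hΩo := isOpen_setOf_fibreDimAt_le R (Synt.RelGCIRing R n c F) (n - c)
    have hV : ∀ q : PrimeSpectrum (Synt.RelGCIRing R n c F),
        I.map (algebraMap R (Synt.RelGCIRing R n c F)) ≤ q.asIdeal →
        FlatMor.fibreDimAt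
          (Spec.map (CommRingCat.ofHom (algebraMap R (Synt.RelGCIRing R n c F)))) q ≤
            ((n - c : ℕ) : WithBot ℕ∞) := fun q hq =>
      (fibreDimAt_le_ringKrullDim R (Synt.RelGCIRing R n c F)
        ⟨q.asIdeal.under R, inferInstance⟩ q rfl).trans (fibre_of_mod R n c F I hI q hq).2.le
    obtain ⟨g, hg1, hgΩ⟩ : ∃ g : Synt.RelGCIRing R n c F,
        Ideal.Quotient.mk (I.map (algebraMap R (Synt.RelGCIRing R n c F))) g = 1 ∧
        ∀ q : PrimeSpectrum (Synt.RelGCIRing R n c F), g ∉ q.asIdeal →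
          FlatMor.fibreDimAt
            (Spec.map (CommRingCat.ofHom (algebraMap R (Synt.RelGCIRing R n c F)))) q ≤
              ((n - c : ℕ) : WithBot ℕ∞) :=
      exists_one_mod R (I.map (algebraMap R (Synt.RelGCIRing R n c F))) _ hΩo hV
    obtain ⟨h, rfl⟩ := Ideal.Quotient.mk_surjective g
    exact ⟨h, hg1, away_of_basicOpen_subset R n c F hcn h hgΩ⟩
  · have htop : I.map (algebraMap R (Synt.RelGCIRing R n c F)) = ⊤ := by
      by_contra hne
      obtain ⟨M, hM, hle⟩ := Ideal.exists_le_maximal _ hne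
      exact hex ⟨⟨M, hM.isPrime⟩, hle⟩
    refine ⟨0, ?_, ?_, ⟨awaySnocEquiv R n c F 0⟩⟩
    · haveI : Subsingleton (Synt.RelGCIRing R n c F ⧸
          I.map (algebraMap R (Synt.RelGCIRing R n c F))) :=
        Ideal.Quotient.subsingleton_iff.mpr htop
      exact Subsingleton.elim _ _
    · apply away_isRelGCI R n c F 0
      intro q hq
      exfalso
      apply hq
      rw [map_zero]
      exact q.asIdeal.zero_mem

end s9172

end Groth.Agent.Lib.RelGCI
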