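import Mathlib
import Groth.Prelude.Def_RegImm
import Groth.Prelude.Def_Flat
import Groth.Agent.Lib.RelGCI10_helper2
import Groth.Agent.Lib.FieldExt3_helper8

/-!
# Relative global complete intersections descend to finite type `ℤ`-subalgebras, part 1 (helper2).

* `isRelGCI_of_fibreDimAt_le` / `fibreDimAt_le_of_isRelGCI`: a presentation with `c ≤ n` is a
  relative global complete intersection iff all local fibre dimensions are `≤ n - c`;
* `phi`, `bcEquiv`, `isPullback_phi`, `fibreDimAt_phi`: base change of a presented algebra and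
  invariance of the local fibre dimension;
* `exists_finset_descent`: the core descent statement;
* `main9148`.
APPEND-ONLY once landed.
-/

set_option autoImplicit false
universe u

namespace Groth.Agent.Lib.RelGCI

open AlgebraicGeometry CategoryTheory TensorProduct MvPolynomial
open Groth.Agent.Lib.SyntTA Groth.Agent.Lib.SyntDim Groth.Agent.LocDimH8

section criterion

variable (R : Type u) [CommRing R] (n c : ℕ) (F : Fin c → MvPolynomial (Fin n) R)

theorem isRelGCI_of_fibreDimAt_le (hcn : c ≤ n)
    (hall : ∀ q : PrimeSpectrum (Synt.RelGCIRing R n c F),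
      FlatMor.fibreDimAt (Spec.map (CommRingCat.ofHom (algebraMap R (Synt.RelGCIRing R n c F)))) q ≤
        ((n - c : ℕ) : WithBot ℕ∞)) :
    Synt.IsRelGCI R n c F := by
  intro p hnt
  haveI := hnt
  refine ⟨hcn, le_antisymm ?_ ?_⟩
  · exact ringKrullDim_fibre_le R (Synt.RelGCIRing R n c F) (n - c) hall p
  · obtain ⟨eΦ⟩ := nonempty_fibreEquiv' R n c F p.asIdeal
    haveI : Nontrivial (MvPolynomial (Fin n) p.asIdeal.ResidueField ⧸
        Ideal.span (Set.range (fun i => MvPolynomial.map (algebraMap R p.asIdeal.ResidueField)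
          (F i)))) := eΦ.injective.nontrivial
    have hge := le_ringKrullDim_quot_span p.asIdeal.ResidueField n c
      (fun i => MvPolynomial.map (algebraMap R p.asIdeal.ResidueField) (F i))
    rw [ringKrullDim_eq_of_ringEquiv eΦ]
    exact hge

theorem fibreDimAt_le_of_isRelGCI (h : Synt.IsRelGCI R n c F)
    (q : PrimeSpectrum (Synt.RelGCIRing R n c F)) :
    c ≤ n ∧ FlatMor.fibreDimAt
      (Spec.map (CommRingCat.ofHom (algebraMap R (Synt.RelGCIRing R n c F)))) q ≤
        ((n - c : ℕ) : WithBot ℕ∞) := by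
  have hq : q ∈ PrimeSpectrum.comap (algebraMap R (Synt.RelGCIRing R n c F)) ⁻¹'
      {(⟨q.asIdeal.under R, inferInstance⟩ : PrimeSpectrum R)} := rfl
  have hnt : Nontrivial ((⟨q.asIdeal.under R, inferInstance⟩ : PrimeSpectrum R).asIdeal.Fiber
      (Synt.RelGCIRing R n c F)) :=
    (PrimeSpectrum.nonempty_iff_nontrivial).mp
      ⟨PrimeSpectrum.preimageHomeomorphFiber R _ _ ⟨q, hq⟩⟩
  obtain ⟨hcn, hdim⟩ := h _ hnt
  exact ⟨hcn, (fibreDimAt_le_ringKrullDim R _ _ q hq).trans hdim.le⟩

end criterion

section bc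

variable (A B : Type u) [CommRing A] [CommRing B] [Algebra A B] (n c : ℕ)
  (F : Fin c → MvPolynomial (Fin n) A)

/-- the comparison map `A[x]/(F) → B[x]/(F)`. -/
noncomputable def phi : Synt.RelGCIRing A n c F →+*
    Synt.RelGCIRing B n c (fun i => MvPolynomial.map (algebraMap A B) (F i)) :=
  Ideal.quotientMap _ (MvPolynomial.map (algebraMap A B)) (by
    rw [Ideal.span_le]
    rintro _ ⟨i, rfl⟩
    exact Ideal.subset_span ⟨i, rfl⟩)

lemma phi_mk (x : MvPolynomial (Fin n) A) :
    phi A B n c F (Ideal.Quotient.mk _ x) =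
      Ideal.Quotient.mk _ (MvPolynomial.map (algebraMap A B) x) :=
  Ideal.quotientMap_mk

/-- base change of a presented algebra, as an explicit equivalence. -/
noncomputable def bcEquiv : B ⊗[A] Synt.RelGCIRing A n c F ≃ₐ[B]
    Synt.RelGCIRing B n c (fun i => MvPolynomial.map (algebraMap A B) (F i)) :=
  (Algebra.TensorProduct.tensorQuotientEquiv (R := A) B (MvPolynomial (Fin n) A) B
    (Ideal.span (Set.range F))).trans
    (Ideal.quotientEquivAlg _ _ (MvPolynomial.algebraTensorAlgEquiv (σ := Fin n) A B) (by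
      rw [Ideal.map_span, Ideal.map_span, ← Set.range_comp, ← Set.range_comp]
      congr 2
      funext i
      show _ = (MvPolynomial.algebraTensorAlgEquiv (σ := Fin n) A B) ((1 : B) ⊗ₜ[A] F i)
      rw [MvPolynomial.algebraTensorAlgEquiv_tmul, one_smul]))

end bc

end Groth.Agent.Lib.RelGCI
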