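import Mathlib
import Groth.Prelude.Def_RegImm
import Groth.Prelude.Def_Flat
import Groth.Agent.Lib.RelGCIDesc1_helper2

/-!
# Relative global complete intersections descend to finite type `ℤ`-subalgebras, part 2 (helper2):
`bcEquiv_tmul`, `isPullback_phi`, `fibreDimAt_phi`.
APPEND-ONLY once landed.
-/

set_option autoImplicit false
universe u

namespace Groth.Agent.Lib.RelGCI

open AlgebraicGeometry CategoryTheory TensorProduct MvPolynomial
open Groth.Agent.Lib.SyntTA Groth.Agent.Lib.SyntDim Groth.Agent.LocDimH8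

section bc

variable (A B : Type u) [CommRing A] [CommRing B] [Algebra A B] (n c : ℕ)
  (F : Fin c → MvPolynomial (Fin n) A)

lemma bcEquiv_tmul (b : B) (x : MvPolynomial (Fin n) A) :
    bcEquiv A B n c F (b ⊗ₜ[A] Ideal.Quotient.mk _ x) =
      Ideal.Quotient.mk _ (b • MvPolynomial.map (algebraMap A B) x) := by
  have h2 : bcEquiv A B n c F (b ⊗ₜ[A] Ideal.Quotient.mk _ x) =
      Ideal.Quotient.mk _ ((MvPolynomial.algebraTensorAlgEquiv (σ := Fin n) A B) (b ⊗ₜ[A] x)) := by
    rfl
  rw [h2, MvPolynomial.algebraTensorAlgEquiv_tmul]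

theorem isPullback_phi :
    IsPullback (Spec.map (CommRingCat.ofHom (phi A B n c F)))
      (Spec.map (CommRingCat.ofHom (algebraMap B
        (Synt.RelGCIRing B n c (fun i => MvPolynomial.map (algebraMap A B) (F i))))))
      (Spec.map (CommRingCat.ofHom (algebraMap A (Synt.RelGCIRing A n c F))))
      (Spec.map (CommRingCat.ofHom (algebraMap A B))) := by
  letI algSS : Algebra (Synt.RelGCIRing A n c F)
      (Synt.RelGCIRing B n c (fun i => MvPolynomial.map (algebraMap A B) (F i))) :=
    (phi A B n c F).toAlgebra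
  haveI : IsScalarTower A (Synt.RelGCIRing A n c F)
      (Synt.RelGCIRing B n c (fun i => MvPolynomial.map (algebraMap A B) (F i))) :=
    IsScalarTower.of_algebraMap_eq (R := A) (S := Synt.RelGCIRing A n c F)
      (A := Synt.RelGCIRing B n c (fun i => MvPolynomial.map (algebraMap A B) (F i))) (fun a => by
      show Ideal.Quotient.mk _ (algebraMap A (MvPolynomial (Fin n) B) a) =
        phi A B n c F (Ideal.Quotient.mk _ (algebraMap A (MvPolynomial (Fin n) A) a))
      rw [phi_mk, MvPolynomial.algebraMap_apply, MvPolynomial.algebraMap_apply, MvPolynomial.map_C]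
      rfl)
  haveI : Algebra.IsPushout A B (Synt.RelGCIRing A n c F)
      (Synt.RelGCIRing B n c (fun i => MvPolynomial.map (algebraMap A B) (F i))) :=
    ⟨IsBaseChange.of_equiv (bcEquiv A B n c F).toLinearEquiv (fun x => by
      obtain ⟨x, rfl⟩ := Ideal.Quotient.mk_surjective x
      show bcEquiv A B n c F ((1 : B) ⊗ₜ[A] Ideal.Quotient.mk _ x) =
        phi A B n c F (Ideal.Quotient.mk _ x)
      rw [bcEquiv_tmul, one_smul, phi_mk])⟩
  have h1 := CommRingCat.isPushout_of_isPushout A B (Synt.RelGCIRing A n c F)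
    (Synt.RelGCIRing B n c (fun i => MvPolynomial.map (algebraMap A B) (F i)))
  exact (isPullback_SpecMap_of_isPushout _ _ _ _ h1).flip

theorem fibreDimAt_phi
    (q : PrimeSpectrum (Synt.RelGCIRing B n c (fun i => MvPolynomial.map (algebraMap A B) (F i)))) :
    FlatMor.fibreDimAt (Spec.map (CommRingCat.ofHom (algebraMap B
        (Synt.RelGCIRing B n c (fun i => MvPolynomial.map (algebraMap A B) (F i)))))) q =
      FlatMor.fibreDimAt (Spec.map (CommRingCat.ofHom (algebraMap A (Synt.RelGCIRing A n c F))))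
        ((Spec.map (CommRingCat.ofHom (phi A B n c F))) q) := by
  haveI : LocallyOfFiniteType
      (Spec.map (CommRingCat.ofHom (algebraMap A (Synt.RelGCIRing A n c F)))) := by
    rw [HasRingHomProperty.Spec_iff (P := @LocallyOfFiniteType)]
    exact RingHom.finiteType_algebraMap.mpr inferInstance
  exact FieldExtH8.fibreDimAt_baseChange _ _ _ _ (isPullback_phi A B n c F) q

end bc

end Groth.Agent.Lib.RelGCI
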