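import Mathlib
import Groth.Agent.Lib.SyntSrc2_helper2
import Groth.Agent.Lib.KoszulQuot_helper2
import Groth.Agent.Lib.RelGCI6_helper2
import Groth.Agent.Lib.RelGCIDesc2_helper2
import Groth.Agent.Lib.LCILocal_helper2
import Groth.Agent.Lib.FlatDesc13_helper8

/-!
# lci is syntomic-local on the source, part 3 (helper2): the ideal `I·D` for a relative global
complete intersection `D = P[y]/(F)` over `P`, and descent of Koszul-regularity to `P`.
APPEND-ONLY once landed.
-/

set_option autoImplicit false
universe u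

namespace Groth.Agent.Lib.SyntSrc

open IsLocalRing TensorProduct Groth.Agent.Lib.KRegIdeal Groth.Agent.Lib.FibKoszul
  Groth.Agent.Lib.FpqcReg Groth.Agent.Lib.LCIComp Groth.Agent.Lib.KoszulSplit
  Groth.Agent.Lib.RelGCI Groth.Agent.Lib.SyntTA Groth.Agent.Lib.LCILocal

section BC

/-- base change of a relative global complete intersection. -/
theorem isRelGCI_baseChange (A B : Type u) [CommRing A] [CommRing B] [Algebra A B] (n c : ℕ)
    (F : Fin c → MvPolynomial (Fin n) A) (h : Synt.IsRelGCI A n c F) (hcn : c ≤ n) :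
    Synt.IsRelGCI B n c (fun i => MvPolynomial.map (algebraMap A B) (F i)) := by
  apply isRelGCI_of_fibreDimAt_le B n c _ hcn
  intro q
  rw [fibreDimAt_phi A B n c F q]
  exact (fibreDimAt_le_of_isRelGCI A n c F h _).2

end BC

section M1

variable (P : Type u) [CommRing P] (I : Ideal P) (m c : ℕ) (F : Fin c → MvPolynomial (Fin m) P)

/-- **Key step**: for a relative global complete intersection `D = P[y]/(F)` over `P`, if the
ideal `I·P[y] + (F)` is Koszul-regular, then so is `I·D`. -/
theorem kr_map_relGCI (hrel : Synt.IsRelGCI P m c F)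
    (hK : KR (I.map (algebraMap P (MvPolynomial (Fin m) P)) ⊔ Ideal.span (Set.range F))) :
    KR (I.map (algebraMap P (Synt.RelGCIRing P m c F))) := by
  intro 𝔯 h𝔯 hle
  haveI := h𝔯
  set J : Ideal (MvPolynomial (Fin m) P) := I.map (algebraMap P (MvPolynomial (Fin m) P)) with hJ
  set K : Ideal (MvPolynomial (Fin m) P) := J ⊔ Ideal.span (Set.range F) with hKdef
  let mk : MvPolynomial (Fin m) P →+* Synt.RelGCIRing P m c F :=
    Ideal.Quotient.mk (Ideal.span (Set.range F))
  have hmk : Function.Surjective mk := Ideal.Quotient.mk_surjective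
  set 𝔭 : Ideal (MvPolynomial (Fin m) P) := 𝔯.comap mk with h𝔭
  haveI : 𝔭.IsPrime := Ideal.comap_isPrime _ _
  have hcm : c ≤ m := (fibreDimAt_le_of_isRelGCI P m c F hrel ⟨𝔯, h𝔯⟩).1
  have hK𝔭 : K ≤ 𝔭 := by
    rw [hKdef, sup_le_iff]
    constructor
    · rw [hJ, Ideal.map_le_iff_le_comap]
      intro x hx
      show mk (algebraMap P (MvPolynomial (Fin m) P) x) ∈ 𝔯
      apply hle
      have h0 : mk (algebraMap P (MvPolynomial (Fin m) P) x) =
          algebraMap P (Synt.RelGCIRing P m c F) x := rfl
      rw [h0]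
      exact Ideal.mem_map_of_mem _ hx
    · rw [Ideal.span_le]
      rintro _ ⟨i, rfl⟩
      show mk (F i) ∈ 𝔯
      have h0 : mk (F i) = 0 := Ideal.Quotient.eq_zero_iff_mem.mpr (Ideal.subset_span ⟨i, rfl⟩)
      rw [h0]
      exact 𝔯.zero_mem
  -- the independence hypothesis
  have hLI : ∀ a : Fin c → MvPolynomial (Fin m) P, ∑ i, a i * F i ∈ 𝔭 * K → ∀ i, a i ∈ 𝔭 := by
    intro a ha i
    have hrelB : Synt.IsRelGCI (P ⧸ I) m c
        (fun i => MvPolynomial.map (algebraMap P (P ⧸ I)) (F i)) :=
      isRelGCI_baseChange P (P ⧸ I) m c F hrel hcm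
    let ρ : MvPolynomial (Fin m) P →+* MvPolynomial (Fin m) (P ⧸ I) :=
      MvPolynomial.map (algebraMap P (P ⧸ I))
    have hρs : Function.Surjective ρ :=
      MvPolynomial.map_surjective _ Ideal.Quotient.mk_surjective
    have hρk : RingHom.ker ρ = J := by
      show RingHom.ker (MvPolynomial.map (algebraMap P (P ⧸ I))) = J
      rw [MvPolynomial.ker_map]
      have h0 : RingHom.ker (algebraMap P (P ⧸ I)) = I := Ideal.mk_ker
      rw [h0, hJ, MvPolynomial.algebraMap_eq]
    rw [hKdef, Ideal.mul_sup] at ha
    obtain ⟨y, hy, z, hz, hyz⟩ := Submodule.mem_sup.mp ha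
    have hyJ : y ∈ J := Ideal.mul_le_right hy
    obtain ⟨p, hp, hpz⟩ := (Submodule.mem_ideal_smul_span_iff_exists_sum 𝔭 F z).mp hz
    replace hpz : ∑ j, p j • F j = z := by
      rw [← hpz, Finsupp.sum_fintype]
      intro j
      exact zero_smul _ _
    have h1 : ∑ j, (a j - p j) * F j = y := by
      have h0 : ∑ j, (a j - p j) * F j = ∑ j, a j * F j - ∑ j, p j • F j := by
        rw [← Finset.sum_sub_distrib]
        apply Finset.sum_congr rfl
        intro j _
        rw [smul_eq_mul]
        ring
      rw [h0, hpz, ← hyz]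
      ring
    have hsum : ∑ j, ρ (a j - p j) * (MvPolynomial.map (algebraMap P (P ⧸ I)) (F j)) = 0 := by
      have h2 := congrArg ρ h1
      rw [map_sum] at h2
      have h3 : ρ y = 0 := by
        rw [← RingHom.mem_ker, hρk]
        exact hyJ
      rw [h3] at h2
      rw [← h2]
      apply Finset.sum_congr rfl
      intro j _
      rw [map_mul]
    have h4 := mem_span_of_sum_mem_sq (P ⧸ I) m c _ hrelB (fun j => ρ (a j - p j))
      (by rw [hsum]; exact Ideal.zero_mem _) i
    have h5 : Ideal.span (Set.range (fun i => MvPolynomial.map (algebraMap P (P ⧸ I)) (F i))) =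
        (Ideal.span (Set.range F)).map ρ := by
      rw [Ideal.map_span, ← Set.range_comp]
      rfl
    rw [h5] at h4
    have h6 : a i - p i ∈ Ideal.span (Set.range F) ⊔ RingHom.ker ρ := by
      have h0 : a i - p i ∈ ((Ideal.span (Set.range F)).map ρ).comap ρ := Ideal.mem_comap.mpr h4
      rwa [Ideal.comap_map_of_surjective' ρ hρs] at h0
    have h7 : a i - p i ∈ 𝔭 := by
      apply hK𝔭
      rw [hρk, sup_comm] at h6
      exact h6
    have h8 := 𝔭.add_mem h7 (hp i)
    rwa [sub_add_cancel] at h8
  have hfg : K.FG := fg_of_locP (P := PK) K hK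
  have hFK : ∀ i, F i ∈ K := fun i => Ideal.mem_sup_right (Ideal.subset_span ⟨i, rfl⟩)
  obtain ⟨H', hH', k, hgen, hkr⟩ :=
    exists_kreg_extension K hfg 𝔭 hK𝔭 F hFK hLI (hK 𝔭 inferInstance hK𝔭)
  have hFlk : LCI.IsKoszulRegularSeq (Localization.Away H')
      ((List.ofFn F).map (algebraMap (MvPolynomial (Fin m) P) (Localization.Away H'))) :=
    kreg_map_of_isLocalization (Submonoid.powers H') (List.ofFn F) (main9254 P m c F hrel)
  have hkbar := Groth.Agent.Lib.KoszulQuot.kreg_quot_list _ k hFlk hkr
  -- the localisation of `D`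
  let πg : Localization.Away H' →+* Localization.Away (mk H') := awayLift mk H'
  have hπg : Function.Surjective πg := awayLift_surjective mk hmk H'
  have hkerπg : RingHom.ker πg = Ideal.ofList
      ((List.ofFn F).map (algebraMap (MvPolynomial (Fin m) P) (Localization.Away H'))) := by
    show RingHom.ker (awayLift mk H') = _
    rw [ker_awayLift, Ideal.mk_ker, span_range_eq_ofList, Ideal.map_ofList]
  let e : (Localization.Away H' ⧸ Ideal.ofList
      ((List.ofFn F).map (algebraMap (MvPolynomial (Fin m) P) (Localization.Away H')))) ≃+*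
      Localization.Away (mk H') :=
    (Ideal.quotEquivOfEq hkerπg.symm).trans (RingHom.quotientKerEquivOfSurjective hπg)
  have he : ∀ t : Localization.Away H', e (Ideal.Quotient.mk _ t) = πg t := fun t => rfl
  have hkD : LCI.IsKoszulRegularSeq (Localization.Away (mk H')) (k.map πg) := by
    have h1 := kreg_map_equiv e _ hkbar
    rw [List.map_map] at h1
    have h2 : (⇑e ∘ ⇑(Ideal.Quotient.mk (Ideal.ofList
        ((List.ofFn F).map (algebraMap (MvPolynomial (Fin m) P) (Localization.Away H')))))) =
        ⇑πg := funext he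
    rw [h2] at h1
    exact h1
  refine ⟨mk H', fun h => hH' h, Localization.Away (mk H'), inferInstance, inferInstance,
    inferInstance, k.map πg, hkD, ?_⟩
  have hcomm : (algebraMap (Synt.RelGCIRing P m c F) (Localization.Away (mk H'))).comp
      (algebraMap P (Synt.RelGCIRing P m c F)) =
      (πg.comp (algebraMap (MvPolynomial (Fin m) P) (Localization.Away H'))).comp
        (algebraMap P (MvPolynomial (Fin m) P)) := by
    ext x
    simp only [RingHom.comp_apply]
    show _ = awayLift mk H' _
    rw [awayLift_algebraMap]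
    rfl
  rw [Ideal.map_map, hcomm, ← Ideal.map_map, ← Ideal.map_map]
  have h1 : (K.map (algebraMap (MvPolynomial (Fin m) P) (Localization.Away H'))).map πg =
      (J.map (algebraMap (MvPolynomial (Fin m) P) (Localization.Away H'))).map πg := by
    rw [hKdef, Ideal.map_sup, Ideal.map_sup]
    have hmapF : (Ideal.span (Set.range F)).map
        (algebraMap (MvPolynomial (Fin m) P) (Localization.Away H')) = Ideal.ofList
          ((List.ofFn F).map (algebraMap (MvPolynomial (Fin m) P) (Localization.Away H'))) := by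
      rw [span_range_eq_ofList, Ideal.map_ofList]
    have hbot : ((Ideal.span (Set.range F)).map
        (algebraMap (MvPolynomial (Fin m) P) (Localization.Away H'))).map πg = ⊥ := by
      rw [hmapF, ← hkerπg]
      exact (Ideal.map_eq_bot_iff_le_ker πg).mpr le_rfl
    rw [hbot, sup_bot_eq]
  have h2 : (K.map (algebraMap (MvPolynomial (Fin m) P) (Localization.Away H'))).map πg =
      Ideal.ofList (k.map πg) := by
    rw [hgen, Ideal.ofList_append, Ideal.map_sup, ← hkerπg]
    have hbot : (RingHom.ker πg).map πg = ⊥ := (Ideal.map_eq_bot_iff_le_ker πg).mpr le_rfl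
    rw [hbot, bot_sup_eq, Ideal.map_ofList]
  rw [← h1, h2]

end M1

section M2

attribute [local instance] Algebra.TensorProduct.rightAlgebra

/-- **Descent of Koszul-regularity along a flat finitely presented algebra**, at a prime in the
image. -/
theorem krAt_of_flat_fp (P D : Type u) [CommRing P] [CommRing D] [Algebra P D] [Module.Flat P D]
    [Algebra.FinitePresentation P D] (I : Ideal P) (hKRD : KR (I.map (algebraMap P D)))
    (𝔯 : Ideal D) [h𝔯 : 𝔯.IsPrime] (hle : I ≤ 𝔯.comap (algebraMap P D)) :
    KRAt I (𝔯.comap (algebraMap P D)) := by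
  have hopen : IsOpen (Set.range (PrimeSpectrum.comap (algebraMap P D))) :=
    (PrimeSpectrum.isOpenMap_comap_of_hasGoingDown_of_finitePresentation (R := P)
      (S := D)).isOpen_range
  set 𝔮 : Ideal P := 𝔯.comap (algebraMap P D) with h𝔮
  haveI : 𝔮.IsPrime := Ideal.comap_isPrime _ _
  have hmem : (⟨𝔮, inferInstance⟩ : PrimeSpectrum P) ∈
      Set.range (PrimeSpectrum.comap (algebraMap P D)) :=
    ⟨⟨𝔯, h𝔯⟩, rfl⟩
  obtain ⟨_, ⟨a, rfl⟩, hpa, hsub⟩ :=
    PrimeSpectrum.isTopologicalBasis_basic_opens.exists_subset_of_mem_open hmem hopen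
  have ha : a ∉ 𝔮 := hpa
  haveI : Module.FaithfullyFlat (Localization.Away a) (Localization.Away a ⊗[P] D) := by
    refine Module.FaithfullyFlat.of_comap_surjective (A := Localization.Away a)
      (B := Localization.Away a ⊗[P] D) fun p' => ?_
    have hmem' : PrimeSpectrum.comap (algebraMap P (Localization.Away a)) p' ∈
        (PrimeSpectrum.basicOpen a : Set (PrimeSpectrum P)) := by
      show a ∉ (PrimeSpectrum.comap (algebraMap P (Localization.Away a)) p').asIdeal
      intro ha'
      have ha'' : algebraMap P (Localization.Away a) a ∈ p'.asIdeal := ha'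
      exact p'.isPrime.ne_top (Ideal.eq_top_of_isUnit_mem _ ha''
        (IsLocalization.Away.algebraMap_isUnit a))
    obtain ⟨q, hq⟩ := hsub hmem'
    obtain ⟨Q, hQ1, -⟩ := Groth.Agent.Lib.FlatDescH8.exists_prime_tensor P (Localization.Away a)
      D p' q hq.symm
    exact ⟨Q, hQ1⟩
  have hιR : (algebraMap D (Localization.Away a ⊗[P] D)).Flat :=
    RingHom.Flat.isStableUnderBaseChange P (Localization.Away a) D
      (Localization.Away a ⊗[P] D)
      (RingHom.flat_algebraMap_iff.mpr (IsLocalization.flat _ (Submonoid.powers a)))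
  have hKR2 : KR ((I.map (algebraMap P D)).map (algebraMap D (Localization.Away a ⊗[P] D))) :=
    kr_map_of_flat _ hιR _ hKRD
  have hideal : (I.map (algebraMap P (Localization.Away a))).map
      (algebraMap (Localization.Away a) (Localization.Away a ⊗[P] D)) =
      (I.map (algebraMap P D)).map (algebraMap D (Localization.Away a ⊗[P] D)) := by
    rw [Ideal.map_map, Ideal.map_map,
      ← IsScalarTower.algebraMap_eq P (Localization.Away a) (Localization.Away a ⊗[P] D),
      ← IsScalarTower.algebraMap_eq P D (Localization.Away a ⊗[P] D)]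
  have h3 : LCI.IsKoszulRegularIdeal (I.map (algebraMap P (Localization.Away a))) := by
    apply main9251 (Localization.Away a) (Localization.Away a ⊗[P] D)
    rw [hideal]
    exact isKoszulRegularIdeal_of_kr _ hKR2
  exact kr_at_of_away a I (kr_of_isKoszulRegularIdeal _ h3) 𝔮 ha hle

variable (P : Type u) [CommRing P] (I : Ideal P) (m c : ℕ) (F : Fin c → MvPolynomial (Fin m) P)

/-- **Descent to `P`**: in the situation of `kr_map_relGCI`, the ideal `I` is Koszul-regular near
every prime of `P` in the image of `Spec D`. -/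
theorem krAt_of_relGCI (hrel : Synt.IsRelGCI P m c F)
    (hK : KR (I.map (algebraMap P (MvPolynomial (Fin m) P)) ⊔ Ideal.span (Set.range F)))
    (𝔯 : Ideal (Synt.RelGCIRing P m c F)) [h𝔯 : 𝔯.IsPrime]
    (hle : I ≤ 𝔯.comap (algebraMap P (Synt.RelGCIRing P m c F))) :
    KRAt I (𝔯.comap (algebraMap P (Synt.RelGCIRing P m c F))) := by
  haveI hflat : Module.Flat P (Synt.RelGCIRing P m c F) := flat_relGCIRing P m c F hrel
  haveI hfp : Algebra.FinitePresentation P (Synt.RelGCIRing P m c F) :=
    Algebra.FinitePresentation.quotient (Submodule.fg_span (Set.finite_range F))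
  exact krAt_of_flat_fp P (Synt.RelGCIRing P m c F) I (kr_map_relGCI P I m c F hrel hK) 𝔯 hle

end M2

end Groth.Agent.Lib.SyntSrc
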