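import Mathlib
import Groth.Agent.Lib.SyntSrc3_helper2
import Groth.Agent.Lib.RelGCI9_helper2
import Groth.Agent.Lib.RelGCI7_helper2
import Groth.Agent.Lib.SmoothCancel_helper2
import Groth.Agent.Lib.SmoothLCI_helper2
import Groth.Agent.Lib.KoszulAtLCI_helper2
import Groth.Agent.Lib.SyntTA3_helper2

/-!
# lci is syntomic-local on the source, part 4 (helper2): the ring-level theorem.
APPEND-ONLY once landed.
-/

set_option autoImplicit false
universe u

namespace Groth.Agent.Lib.SyntSrc

open IsLocalRing TensorProduct Groth.Agent.Lib.KRegIdeal Groth.Agent.Lib.FibKoszul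
  Groth.Agent.Lib.FpqcReg Groth.Agent.Lib.LCIComp Groth.Agent.Lib.KoszulSplit
  Groth.Agent.Lib.RelGCI Groth.Agent.Lib.SyntTA Groth.Agent.Lib.LCILocal
  Groth.Agent.Lib.SmoothLCI Groth.Agent.Lib.SmoothCancel Groth.Agent.Lib.KoszulAtLCI
  AlgebraicGeometry CategoryTheory

section prelim

lemma disjoint_powers_of_notMem {R : Type u} [CommRing R] (g : R) (q : Ideal R) [q.IsPrime]
    (hg : g ∉ q) : Disjoint (Submonoid.powers g : Set R) (q : Set R) := by
  rw [Set.disjoint_left]
  rintro x ⟨n, rfl⟩ hx
  exact hg (Ideal.IsPrime.mem_of_pow_mem inferInstance n hx)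

/-- `Fsnoc` commutes with base change of the coefficients. -/
lemma fsnoc_map {R R' : Type u} [CommRing R] [CommRing R'] (f : R →+* R') (n c : ℕ)
    (F : Fin c → MvPolynomial (Fin n) R) (h : MvPolynomial (Fin n) R) :
    Fsnoc R' n c (fun i => MvPolynomial.map f (F i)) (MvPolynomial.map f h) =
      fun i => MvPolynomial.map f (Fsnoc R n c F h i) := by
  funext i
  refine Fin.lastCases ?_ (fun j => ?_) i
  · rw [Fsnoc_last, Fsnoc_last, map_sub, map_mul, map_one, MvPolynomial.map_X,
      MvPolynomial.map_rename]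
  · rw [Fsnoc_castSucc, Fsnoc_castSucc, MvPolynomial.map_rename]

end prelim

section transfer

variable {A B : Type u} [CommRing A] [CommRing B] [Algebra A B] (m c : ℕ)
  (G : Fin c → MvPolynomial (Fin m) B) (h : MvPolynomial (Fin m) B)

/-- passing to the principal open `D(h)` of a presented algebra: lci-ness over `A` and primes. -/
theorem snoc_transfer
    (hl : IsLCIHom ((algebraMap B (Synt.RelGCIRing B m c G)).comp (algebraMap A B)))
    (q₂ : Ideal (Synt.RelGCIRing B m c G)) [hq₂ : q₂.IsPrime]
    (hh : Ideal.Quotient.mk (Ideal.span (Set.range G)) h ∉ q₂) :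
    IsLCIHom ((algebraMap B (Synt.RelGCIRing B (m + 1) (c + 1) (Fsnoc B m c G h))).comp
        (algebraMap A B)) ∧
      ∃ q₄ : Ideal (Synt.RelGCIRing B (m + 1) (c + 1) (Fsnoc B m c G h)), q₄.IsPrime ∧
        q₄.comap (algebraMap B (Synt.RelGCIRing B (m + 1) (c + 1) (Fsnoc B m c G h))) =
          q₂.comap (algebraMap B (Synt.RelGCIRing B m c G)) := by
  let eS := awaySnocEquiv B m c G h
  constructor
  · have h1 := isLCIHom_comp _ _ hl (isLCIHom_of_away
      (algebraMap (Synt.RelGCIRing B m c G)
        (Localization.Away (Ideal.Quotient.mk (Ideal.span (Set.range G)) h)))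
      (Ideal.Quotient.mk (Ideal.span (Set.range G)) h) (away_toAlgebra _))
    have h2 := isLCIHom_comp_equiv _ eS.toRingEquiv h1
    have heq : ((eS.toRingEquiv : Localization.Away (Ideal.Quotient.mk
        (Ideal.span (Set.range G)) h) ≃+* _) : _ →+* _).comp
        ((algebraMap (Synt.RelGCIRing B m c G)
          (Localization.Away (Ideal.Quotient.mk (Ideal.span (Set.range G)) h))).comp
          ((algebraMap B (Synt.RelGCIRing B m c G)).comp (algebraMap A B))) =
        (algebraMap B (Synt.RelGCIRing B (m + 1) (c + 1) (Fsnoc B m c G h))).comp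
          (algebraMap A B) := by
      ext a
      simp only [RingHom.comp_apply]
      rw [← IsScalarTower.algebraMap_apply B (Synt.RelGCIRing B m c G)
        (Localization.Away (Ideal.Quotient.mk (Ideal.span (Set.range G)) h))]
      exact eS.commutes _
    rw [heq] at h2
    exact h2
  · have hdisj := disjoint_powers_of_notMem _ q₂ hh
    let q₃ : Ideal (Localization.Away (Ideal.Quotient.mk (Ideal.span (Set.range G)) h)) :=
      q₂.map (algebraMap _ _)
    have hq₃ : q₃.IsPrime := IsLocalization.isPrime_of_isPrime_disjoint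
      (Submonoid.powers (Ideal.Quotient.mk (Ideal.span (Set.range G)) h)) _ q₂ hq₂ hdisj
    have hq₃c : q₃.comap (algebraMap (Synt.RelGCIRing B m c G)
        (Localization.Away (Ideal.Quotient.mk (Ideal.span (Set.range G)) h))) = q₂ :=
      IsLocalization.under_map_of_isPrime_disjoint
        (Submonoid.powers (Ideal.Quotient.mk (Ideal.span (Set.range G)) h)) _ hq₂ hdisj
    refine ⟨q₃.comap (eS.symm : _ →+* _), Ideal.comap_isPrime _ _, ?_⟩
    rw [Ideal.comap_comap]
    have hc : ((eS.symm : Synt.RelGCIRing B (m + 1) (c + 1) (Fsnoc B m c G h) →+* _)).comp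
        (algebraMap B (Synt.RelGCIRing B (m + 1) (c + 1) (Fsnoc B m c G h))) =
        (algebraMap (Synt.RelGCIRing B m c G)
          (Localization.Away (Ideal.Quotient.mk (Ideal.span (Set.range G)) h))).comp
          (algebraMap B (Synt.RelGCIRing B m c G)) := by
      ext b
      simp only [RingHom.comp_apply]
      rw [← IsScalarTower.algebraMap_apply B (Synt.RelGCIRing B m c G)
        (Localization.Away (Ideal.Quotient.mk (Ideal.span (Set.range G)) h))]
      exact eS.symm.commutes b
    rw [hc, ← Ideal.comap_comap, hq₃c]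

end transfer

section R1

variable {A P B : Type u} [CommRing A] [CommRing P] [CommRing B] [Algebra A P] [Algebra P B]
  [Algebra A B] [IsScalarTower A P B]

/-- **Ring-level core**: `A → P` smooth, `P ↠ B`, and a relative global complete intersection
`B[y]/(F̄)` over `B` (with equations lifted to `P`) which is lci over `A`: then `ker (P → B)` is
Koszul-regular near the primes of `P` below the primes of `B[y]/(F̄)`. -/
theorem krAt_ker_of_relGCI (hsmP : (algebraMap A P).Smooth)
    (hπ : Function.Surjective (algebraMap P B))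
    (m c : ℕ) (F : Fin c → MvPolynomial (Fin m) P)
    (hrelB : Synt.IsRelGCI B m c (fun i => MvPolynomial.map (algebraMap P B) (F i)))
    (hl : IsLCIHom ((algebraMap B (Synt.RelGCIRing B m c
      (fun i => MvPolynomial.map (algebraMap P B) (F i)))).comp (algebraMap A B)))
    (q₂ : Ideal (Synt.RelGCIRing B m c (fun i => MvPolynomial.map (algebraMap P B) (F i))))
    [hq₂ : q₂.IsPrime] :
    KRAt (RingHom.ker (algebraMap P B))
      ((q₂.comap (algebraMap B (Synt.RelGCIRing B m c
        (fun i => MvPolynomial.map (algebraMap P B) (F i))))).comap (algebraMap P B)) := by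
  classical
  have hcm : c ≤ m := (fibreDimAt_le_of_isRelGCI B m c _ hrelB ⟨q₂, hq₂⟩).1
  have hΩ : IsOpen {q : PrimeSpectrum (Synt.RelGCIRing P m c F) | FlatMor.fibreDimAt
      (Spec.map (CommRingCat.ofHom (algebraMap P (Synt.RelGCIRing P m c F)))) q ≤
        ((m - c : ℕ) : WithBot ℕ∞)} :=
    isOpen_setOf_fibreDimAt_le P (Synt.RelGCIRing P m c F) (m - c)
  have hmemΩ : (Spec.map (CommRingCat.ofHom (phi P B m c F)))
      (⟨q₂, hq₂⟩ : PrimeSpectrum (Synt.RelGCIRing B m c
        (fun i => MvPolynomial.map (algebraMap P B) (F i)))) ∈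
      {q : PrimeSpectrum (Synt.RelGCIRing P m c F) | FlatMor.fibreDimAt
        (Spec.map (CommRingCat.ofHom (algebraMap P (Synt.RelGCIRing P m c F)))) q ≤
          ((m - c : ℕ) : WithBot ℕ∞)} := by
    show FlatMor.fibreDimAt _ _ ≤ _
    rw [← fibreDimAt_phi]
    exact (fibreDimAt_le_of_isRelGCI B m c _ hrelB _).2
  obtain ⟨_, ⟨Hbar, rfl⟩, hmemH, hsubH⟩ :=
    PrimeSpectrum.isTopologicalBasis_basic_opens.exists_subset_of_mem_open hmemΩ hΩ
  obtain ⟨H, rfl⟩ := Ideal.Quotient.mk_surjective Hbar
  have hrelP' : Synt.IsRelGCI P (m + 1) (c + 1) (Fsnoc P m c F H) :=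
    away_isRelGCI P m c F H (fun q hq => ⟨hcm, hsubH hq⟩)
  have hHB : Ideal.Quotient.mk (Ideal.span (Set.range
      (fun i => MvPolynomial.map (algebraMap P B) (F i))))
      (MvPolynomial.map (algebraMap P B) H) ∉ q₂ := by
    intro hmem
    apply hmemH
    show phi P B m c F (Ideal.Quotient.mk _ H) ∈ q₂
    rw [phi_mk]
    exact hmem
  have aux := snoc_transfer (A := A) m c (fun i => MvPolynomial.map (algebraMap P B) (F i))
    (MvPolynomial.map (algebraMap P B) H) hl q₂ hHB
  rw [fsnoc_map (algebraMap P B) m c F H] at aux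
  obtain ⟨hl', q₄, hq₄, hq₄c⟩ := aux
  -- the presentation of `C''`
  let ρ' : MvPolynomial (Fin (m + 1)) P →+* MvPolynomial (Fin (m + 1)) B :=
    MvPolynomial.map (algebraMap P B)
  have hρ's : Function.Surjective ρ' := MvPolynomial.map_surjective _ hπ
  have hρ'k : RingHom.ker ρ' = (RingHom.ker (algebraMap P B)).map
      (algebraMap P (MvPolynomial (Fin (m + 1)) P)) := by
    show RingHom.ker (MvPolynomial.map (algebraMap P B)) = _
    rw [MvPolynomial.ker_map, MvPolynomial.algebraMap_eq]
  let σ : MvPolynomial (Fin (m + 1)) P →+* Synt.RelGCIRing B (m + 1) (c + 1)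
      (fun i => MvPolynomial.map (algebraMap P B) (Fsnoc P m c F H i)) :=
    (Ideal.Quotient.mk _).comp ρ'
  have hσs : Function.Surjective σ := Ideal.Quotient.mk_surjective.comp hρ's
  have hσk : RingHom.ker σ = (RingHom.ker (algebraMap P B)).map
      (algebraMap P (MvPolynomial (Fin (m + 1)) P)) ⊔
        Ideal.span (Set.range (Fsnoc P m c F H)) := by
    show RingHom.ker ((Ideal.Quotient.mk _).comp ρ') = _
    rw [← RingHom.comap_ker, Ideal.mk_ker]
    have h5 : Ideal.span (Set.range
        (fun i => MvPolynomial.map (algebraMap P B) (Fsnoc P m c F H i))) =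
        (Ideal.span (Set.range (Fsnoc P m c F H))).map ρ' := by
      rw [Ideal.map_span, ← Set.range_comp]
      rfl
    rw [h5, Ideal.comap_map_of_surjective' ρ' hρ's, hρ'k, sup_comm]
  have hsm : (algebraMap A (MvPolynomial (Fin (m + 1)) P)).Smooth := by
    rw [IsScalarTower.algebraMap_eq A P (MvPolynomial (Fin (m + 1)) P)]
    exact RingHom.Smooth.comp hsmP
      (RingHom.smooth_algebraMap.mpr ⟨inferInstance, inferInstance⟩)
  have hcompσ : σ.comp (algebraMap A (MvPolynomial (Fin (m + 1)) P)) =
      (algebraMap B (Synt.RelGCIRing B (m + 1) (c + 1)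
        (fun i => MvPolynomial.map (algebraMap P B) (Fsnoc P m c F H i)))).comp
        (algebraMap A B) := by
    ext a
    show Ideal.Quotient.mk _ (MvPolynomial.map (algebraMap P B)
        (algebraMap A (MvPolynomial (Fin (m + 1)) P) a)) =
      Ideal.Quotient.mk _ (algebraMap B (MvPolynomial (Fin (m + 1)) B) (algebraMap A B a))
    rw [IsScalarTower.algebraMap_apply A P (MvPolynomial (Fin (m + 1)) P),
      MvPolynomial.algebraMap_eq, MvPolynomial.map_C, MvPolynomial.algebraMap_eq,
      ← IsScalarTower.algebraMap_apply A P B]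
  have hK' : KR ((RingHom.ker (algebraMap P B)).map
      (algebraMap P (MvPolynomial (Fin (m + 1)) P)) ⊔
        Ideal.span (Set.range (Fsnoc P m c F H))) := by
    rw [← hσk]
    apply kr_ker_of_smooth (algebraMap A _) hsm σ hσs
    rw [hcompσ]
    exact hl'
  -- the prime of `D'`
  let 𝔯' : Ideal (Synt.RelGCIRing P (m + 1) (c + 1) (Fsnoc P m c F H)) :=
    q₄.comap (phi P B (m + 1) (c + 1) (Fsnoc P m c F H))
  haveI : 𝔯'.IsPrime := Ideal.comap_isPrime _ _
  have hphi : (phi P B (m + 1) (c + 1) (Fsnoc P m c F H)).comp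
      (algebraMap P (Synt.RelGCIRing P (m + 1) (c + 1) (Fsnoc P m c F H))) =
      (algebraMap B (Synt.RelGCIRing B (m + 1) (c + 1)
        (fun i => MvPolynomial.map (algebraMap P B) (Fsnoc P m c F H i)))).comp
        (algebraMap P B) := by
    ext x
    show phi P B (m + 1) (c + 1) (Fsnoc P m c F H)
        (Ideal.Quotient.mk _ (algebraMap P (MvPolynomial (Fin (m + 1)) P) x)) =
      Ideal.Quotient.mk _ (algebraMap B (MvPolynomial (Fin (m + 1)) B) (algebraMap P B x))
    rw [phi_mk, MvPolynomial.algebraMap_eq, MvPolynomial.map_C, MvPolynomial.algebraMap_eq]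
  have h𝔯'c : 𝔯'.comap (algebraMap P (Synt.RelGCIRing P (m + 1) (c + 1) (Fsnoc P m c F H))) =
      (q₂.comap (algebraMap B (Synt.RelGCIRing B m c
        (fun i => MvPolynomial.map (algebraMap P B) (F i))))).comap (algebraMap P B) := by
    show (q₄.comap (phi P B (m + 1) (c + 1) (Fsnoc P m c F H))).comap (algebraMap P _) = _
    rw [Ideal.comap_comap, hphi, ← Ideal.comap_comap, hq₄c]
  have hle' : RingHom.ker (algebraMap P B) ≤
      𝔯'.comap (algebraMap P (Synt.RelGCIRing P (m + 1) (c + 1) (Fsnoc P m c F H))) := by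
    rw [h𝔯'c]
    intro x hx
    rw [Ideal.mem_comap, RingHom.mem_ker.mp hx]
    exact Ideal.zero_mem _
  have hfin := krAt_of_relGCI P (RingHom.ker (algebraMap P B)) (m + 1) (c + 1)
    (Fsnoc P m c F H) hrelP' hK' 𝔯' hle'
  rw [h𝔯'c] at hfin
  exact hfin

end R1

end Groth.Agent.Lib.SyntSrc
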