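import Mathlib
import Groth.Agent.Lib.SyntSrc4_helper2
import Groth.Agent.Lib.FibKoszulSch_helper2
import Groth.Agent.Lib.FppfFT_helper6
import Groth.Agent.Lib.SyntCMDesc_helper2

/-!
# lci is syntomic-local on the source, part 5 (helper2): ring-level theorem in hom form and the
scheme-level statement (S9730).
APPEND-ONLY once landed.
-/

set_option autoImplicit false
universe u

namespace Groth.Agent.Lib.SyntSrc

open IsLocalRing TensorProduct Groth.Agent.Lib.KRegIdeal Groth.Agent.Lib.FibKoszul
  Groth.Agent.Lib.FpqcReg Groth.Agent.Lib.LCIComp Groth.Agent.Lib.KoszulSplit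
  Groth.Agent.Lib.RelGCI Groth.Agent.Lib.SyntTA Groth.Agent.Lib.LCILocal
  Groth.Agent.Lib.SmoothLCI Groth.Agent.Lib.SmoothCancel Groth.Agent.Lib.KoszulAtLCI
  Groth.Agent.Lib.SyntCMDesc
  AlgebraicGeometry CategoryTheory TopologicalSpace

section R

/-- **lci is syntomic-local on the source, ring level**: `A → B` of finite type, `B → C` flat and
lci (i.e. syntomic), `A → C` lci.  Then `A → B` is lci near every prime of `B` in the image of
`Spec C`. -/
theorem lciAt_of_syntomic_comp {A B C : Type u} [CommRing A] [CommRing B] [CommRing C]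
    (α : A →+* B) (β : B →+* C) (hα : α.FiniteType) (hβf : β.Flat) (hβl : IsLCIHom β)
    (hl : IsLCIHom (β.comp α)) (q' : Ideal C) [hq' : q'.IsPrime] :
    LciAt α (q'.comap β) := by
  letI algAB : Algebra A B := α.toAlgebra
  letI algBC : Algebra B C := β.toAlgebra
  letI algAC : Algebra A C := (β.comp α).toAlgebra
  haveI : IsScalarTower A B C := IsScalarTower.of_algebraMap_eq (fun _ => rfl)
  have hsynt : Synt.IsSyntomic B C := (main9287 B C).mpr ⟨hβf, hβl⟩
  haveI : Algebra.FiniteType A B := hα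
  obtain ⟨n, π₀, hπ₀⟩ := Algebra.FiniteType.iff_quotient_mvPolynomial''.mp
    (inferInstance : Algebra.FiniteType A B)
  letI algPB : Algebra (MvPolynomial (Fin n) A) B := π₀.toRingHom.toAlgebra
  haveI : IsScalarTower A (MvPolynomial (Fin n) A) B :=
    IsScalarTower.of_algebraMap_eq (fun a => (π₀.commutes a).symm)
  obtain ⟨G, hG, m, c, Fbar, hrelB, ⟨e⟩⟩ := exists_relGCI_away B C hsynt q'
  have hlift : ∀ i, ∃ y : MvPolynomial (Fin m) (MvPolynomial (Fin n) A),
      MvPolynomial.map (algebraMap (MvPolynomial (Fin n) A) B) y = Fbar i :=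
    fun i => MvPolynomial.map_surjective _ hπ₀ (Fbar i)
  choose F hF using hlift
  obtain rfl : Fbar = fun i => MvPolynomial.map (algebraMap (MvPolynomial (Fin n) A) B) (F i) :=
    funext (fun i => (hF i).symm)
  have hdisj := disjoint_powers_of_notMem G q' hG
  let q₁ : Ideal (Localization.Away G) := q'.map (algebraMap C (Localization.Away G))
  have hq₁ : q₁.IsPrime :=
    IsLocalization.isPrime_of_isPrime_disjoint (Submonoid.powers G) _ q' hq' hdisj
  have hq₁c : q₁.comap (algebraMap C (Localization.Away G)) = q' :=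
    IsLocalization.under_map_of_isPrime_disjoint (Submonoid.powers G) _ hq' hdisj
  let q₂ : Ideal (Synt.RelGCIRing B m c
      (fun i => MvPolynomial.map (algebraMap (MvPolynomial (Fin n) A) B) (F i))) :=
    q₁.comap (e.symm : _ →+* _)
  haveI hq₂ : q₂.IsPrime := Ideal.comap_isPrime _ _
  have hlAC : IsLCIHom (algebraMap A C) := hl
  have h1 := isLCIHom_comp _ _ hlAC (isLCIHom_of_away (algebraMap C (Localization.Away G)) G
    (away_toAlgebra G))
  have h2 := isLCIHom_comp_equiv _ e.toRingEquiv h1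
  have heq : ((e.toRingEquiv : Localization.Away G ≃+* _) : _ →+* _).comp
      ((algebraMap C (Localization.Away G)).comp (algebraMap A C)) =
      (algebraMap B (Synt.RelGCIRing B m c
        (fun i => MvPolynomial.map (algebraMap (MvPolynomial (Fin n) A) B) (F i)))).comp
        (algebraMap A B) := by
    ext a
    simp only [RingHom.comp_apply]
    rw [IsScalarTower.algebraMap_apply A B C,
      ← IsScalarTower.algebraMap_apply B C (Localization.Away G)]
    exact e.commutes _
  rw [heq] at h2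
  have hsmP : (algebraMap A (MvPolynomial (Fin n) A)).Smooth :=
    RingHom.smooth_algebraMap.mpr ⟨inferInstance, inferInstance⟩
  have hkr := krAt_ker_of_relGCI (A := A) (P := MvPolynomial (Fin n) A) (B := B) hsmP hπ₀ m c F
    hrelB h2 q₂
  have hq : q₂.comap (algebraMap B (Synt.RelGCIRing B m c
      (fun i => MvPolynomial.map (algebraMap (MvPolynomial (Fin n) A) B) (F i)))) =
      q'.comap (algebraMap B C) := by
    show (q₁.comap (e.symm : Synt.RelGCIRing B m c
        (fun i => MvPolynomial.map (algebraMap (MvPolynomial (Fin n) A) B) (F i)) →+*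
          Localization.Away G)).comap (algebraMap B _) = _
    rw [Ideal.comap_comap]
    have hc : ((e.symm : Synt.RelGCIRing B m c
        (fun i => MvPolynomial.map (algebraMap (MvPolynomial (Fin n) A) B) (F i)) →+*
          Localization.Away G)).comp (algebraMap B _) =
        (algebraMap C (Localization.Away G)).comp (algebraMap B C) := by
      ext b
      simp only [RingHom.comp_apply]
      rw [← IsScalarTower.algebraMap_apply B C (Localization.Away G)]
      exact e.symm.commutes b
    rw [hc, ← Ideal.comap_comap, hq₁c]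
  rw [hq] at hkr
  exact lciAt_of_krAt n π₀ hπ₀ (q'.comap (algebraMap B C)) hkr

end R

section Sch

/-- **S9730**: local complete intersection morphisms are syntomic-local on the source. -/
theorem main9730 {X' X Y : Scheme.{u}} (g : X' ⟶ X) (hg : Synt.IsSyntomicMor g) [Surjective g]
    (f : X ⟶ Y) : (∀ x' : X', Synt.IsKoszulAt (g ≫ f) x') ↔ (∀ x : X, Synt.IsKoszulAt f x) := by
  have hgK : ∀ x' : X', Synt.IsKoszulAt g x' := by
    intro x'
    obtain ⟨U', V, e, hx', hs⟩ := hg x'
    exact koszulAt_of_isLCIHom g x' U'.1 V.1 U'.2 V.2 e hx'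
      (show IsLCIHom (g.appLE V.1 U'.1 e).hom from
        @isLCI_of_isSyntomic _ _ _ _ (g.appLE V.1 U'.1 e).hom.toAlgebra hs)
  constructor
  · intro h x
    have hflat : Flat g := flat_of_isSyntomicMor g hg
    have hlfp : LocallyOfFinitePresentation g := lfp_of_isSyntomicMor g hg
    have hlgf := lci_of_koszulAt (g ≫ f) h
    have hlg := lci_of_koszulAt g hgK
    have hlftgf : LocallyOfFiniteType (g ≫ f) := by
      rw [HasRingHomProperty.iff_appLE (P := @LocallyOfFiniteType)]
      intro W U' e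
      exact (hlgf U'.1 W.1 U'.2 W.2 e).1
    have hlftf : LocallyOfFiniteType f :=
      Groth.Agent.Lib.FppfFTH6.locallyOfFiniteType_of_fppf_family f (fun y => by
        obtain ⟨x', hx'⟩ := g.surjective y
        exact ⟨X', g, ⟨x', hx'⟩, hflat, hlfp, hlftgf⟩)
    obtain ⟨x', rfl⟩ := g.surjective x
    obtain ⟨W, hW, hxW, -⟩ := (Opens.isBasis_iff_nbhd.mp Y.isBasis_affineOpens)
      (show f (g x') ∈ (⊤ : Y.Opens) from trivial)
    obtain ⟨U, hU, hxU, hUW⟩ := (Opens.isBasis_iff_nbhd.mp X.isBasis_affineOpens)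
      (show g x' ∈ f ⁻¹ᵁ W from hxW)
    obtain ⟨U', hU', hx'U', hU'U⟩ := (Opens.isBasis_iff_nbhd.mp X'.isBasis_affineOpens)
      (show x' ∈ g ⁻¹ᵁ U from hxU)
    have hU'W : U' ≤ (g ≫ f) ⁻¹ᵁ W := fun z hz => hUW (hU'U hz)
    have hcomp := Scheme.Hom.appLE_comp_appLE g f W U U' hUW hU'U
    have hα : (f.appLE W U hUW).hom.FiniteType :=
      HasRingHomProperty.appLE (P := @LocallyOfFiniteType) f hlftf ⟨W, hW⟩ ⟨U, hU⟩ hUW
    have hβf : (g.appLE U U' hU'U).hom.Flat :=
      HasRingHomProperty.appLE (P := @Flat) g hflat ⟨U, hU⟩ ⟨U', hU'⟩ hU'U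
    have hβl := hlg U' U hU' hU hU'U
    have hl : IsLCIHom ((g.appLE U U' hU'U).hom.comp (f.appLE W U hUW).hom) := by
      rw [← CommRingCat.hom_comp, hcomp]
      exact hlgf U' W hU' hW hU'W
    haveI hq'prime : (hU'.primeIdealOf ⟨x', hx'U'⟩).asIdeal.IsPrime :=
      (hU'.primeIdealOf ⟨x', hx'U'⟩).isPrime
    have hmain := lciAt_of_syntomic_comp (f.appLE W U hUW).hom (g.appLE U U' hU'U).hom hα hβf hβl
      hl (hU'.primeIdealOf ⟨x', hx'U'⟩).asIdeal
    have hq : (hU'.primeIdealOf ⟨x', hx'U'⟩).asIdeal.comap (g.appLE U U' hU'U).hom =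
        (hU.primeIdealOf ⟨g x', hxU⟩).asIdeal :=
      congrArg PrimeSpectrum.asIdeal
        (IsAffineOpen.comap_primeIdealOf_appLE U hU U' hU' hU'U hx'U')
    rw [hq] at hmain
    obtain ⟨c, hc, T, _, ρ, hloc, hlT⟩ := hmain
    have hxc : g x' ∈ X.basicOpen c :=
      (Groth.Agent.Lib.AffStalk_helper3.mem_basicOpen_iff hU c ⟨g x', hxU⟩).mpr hc
    letI algT : Algebra Γ(X, U) T := ρ.toAlgebra
    haveI : IsLocalization.Away c T := hloc
    haveI : IsLocalization.Away c Γ(X, X.basicOpen c) := hU.isLocalization_basicOpen c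
    let e : T ≃ₐ[Γ(X, U)] Γ(X, X.basicOpen c) :=
      IsLocalization.algEquiv (Submonoid.powers c) T Γ(X, X.basicOpen c)
    have he : ((e.toRingEquiv : T ≃+* Γ(X, X.basicOpen c)) : T →+* Γ(X, X.basicOpen c)).comp ρ =
        (X.presheaf.map (homOfLE (X.basicOpen_le c)).op).hom := by
      ext a
      exact e.commutes a
    have hl2 := isLCIHom_comp_equiv (ρ.comp (f.appLE W U hUW).hom) e.toRingEquiv hlT
    have heq : ((e.toRingEquiv : T ≃+* Γ(X, X.basicOpen c)) : T →+* Γ(X, X.basicOpen c)).comp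
        (ρ.comp (f.appLE W U hUW).hom) =
        (f.appLE W (X.basicOpen c) ((X.basicOpen_le c).trans hUW)).hom := by
      rw [← RingHom.comp_assoc, he, ← CommRingCat.hom_comp, Scheme.Hom.appLE_map]
    rw [heq] at hl2
    exact koszulAt_of_isLCIHom f (g x') _ W (hU.basicOpen c) hW _ hxc hl2
  · intro h
    exact main8661 g f hgK h

end Sch

end Groth.Agent.Lib.SyntSrc
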