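import Mathlib
import Groth.Prelude.Def_AlgSpMor6
import Groth.Agent.Lib.LCIZar_helper2
import Groth.Agent.Lib.SyntSrc5_helper2
import Groth.Agent.Lib.SmoothSynt_helper4
import Groth.Agent.Lib.AlgSpLocP6_helper7

/-!
# Scheme-level facts about `AlgSp.lci` needed for the algebraic-space statements (helper2)

* pointwise restriction to opens of the source (both directions, any open immersion);
* `EtLocalF`: étale local on the source-and-target + stable under FLAT base change;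
* `etLocalF_lci`, `descendsFlatCover_lci`, `lft_of_lci`.
-/

set_option autoImplicit false
universe u
open CategoryTheory CategoryTheory.Limits AlgebraicGeometry TopologicalSpace MorphismProperty

namespace Groth.Agent.Lib.AlgSpLci

open Groth.Agent.Lib.KoszulAtLCI Groth.Agent.Lib.LCIZar Groth.Agent.Lib.FibKoszulSch
  Groth.Agent.Lib.CancelSch Groth.Agent.Lib.LCIComp Groth.Agent.Lib.SmoothLCI

section sch

variable {X Y : Scheme.{u}}

/-- being Koszul at a point is local on the source (general open immersion). -/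
theorem koszulAt_of_openImm_comp {X' : Scheme.{u}} (j : X' ⟶ X) [IsOpenImmersion j] (f : X ⟶ Y)
    (x' : X') (h : Synt.IsKoszulAt (j ≫ f) x') : Synt.IsKoszulAt f (j x') := by
  obtain ⟨V, hV, hxV, -⟩ := (Opens.isBasis_iff_nbhd.mp Y.isBasis_affineOpens)
    (show f (j x') ∈ (⊤ : Y.Opens) from trivial)
  obtain ⟨U₁, hU₁, hU₁V, hxU₁, hl⟩ := exists_affine_isLCIHom (j ≫ f) x' h hV hxV
  have hU : IsAffineOpen (j ''ᵁ U₁) := hU₁.image_of_isOpenImmersion j
  have hUV : j ''ᵁ U₁ ≤ f ⁻¹ᵁ V := by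
    rintro _ ⟨z, hz, rfl⟩
    exact hU₁V hz
  have hxU : j x' ∈ j ''ᵁ U₁ := ⟨x', hxU₁, rfl⟩
  apply koszulAt_of_isLCIHom f _ _ V hU hV hUV hxU
  have hle : U₁ ≤ j ⁻¹ᵁ (j ''ᵁ U₁) := (Scheme.Hom.preimage_image_eq j _).ge
  have heq2 : (j.appLE (j ''ᵁ U₁) U₁ hle).hom.comp (f.appLE V (j ''ᵁ U₁) hUV).hom =
      ((j ≫ f).appLE V U₁ hU₁V).hom := by
    rw [← CommRingCat.hom_comp, Scheme.Hom.appLE_comp_appLE]
  let E : Γ(X, j ''ᵁ U₁) ≃+* Γ(X', U₁) := (j.appIso U₁).commRingCatIsoToRingEquiv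
  have hE : (E : _ →+* _) = (j.appLE (j ''ᵁ U₁) U₁ hle).hom := by
    show (j.appIso U₁).hom.hom = _
    rw [Scheme.Hom.appIso_hom']
  apply isLCIHom_of_comp_equiv _ E
  rw [hE, heq2]
  exact hl

/-- restriction of "Koszul at a point" to an open of the source (general open immersion). -/
theorem koszulAt_openImm_comp {X' : Scheme.{u}} (j : X' ⟶ X) [IsOpenImmersion j] (f : X ⟶ Y)
    (x' : X') (h : Synt.IsKoszulAt f (j x')) : Synt.IsKoszulAt (j ≫ f) x' := by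
  obtain ⟨V, hV, hxV, -⟩ := (Opens.isBasis_iff_nbhd.mp Y.isBasis_affineOpens)
    (show f (j x') ∈ (⊤ : Y.Opens) from trivial)
  obtain ⟨U, hU, hxU, hUle⟩ := (Opens.isBasis_iff_nbhd.mp X.isBasis_affineOpens)
    (show j x' ∈ j.opensRange ⊓ f ⁻¹ᵁ V from ⟨⟨x', rfl⟩, hxV⟩)
  have hUV : U ≤ f ⁻¹ᵁ V := hUle.trans inf_le_right
  have hUW : U ≤ j.opensRange := hUle.trans inf_le_left
  obtain ⟨c, hxc, hl⟩ := exists_basicOpen_isLCIHom f (j x') h hU hV hUV hxU
  have hD : IsAffineOpen (X.basicOpen c) := hU.basicOpen c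
  have hDr : X.basicOpen c ≤ j.opensRange := (X.basicOpen_le c).trans hUW
  have hDV : X.basicOpen c ≤ f ⁻¹ᵁ V := (X.basicOpen_le c).trans hUV
  have hD' : IsAffineOpen (j ⁻¹ᵁ X.basicOpen c) := hD.preimage_of_isOpenImmersion j hDr
  have hD'V : j ⁻¹ᵁ X.basicOpen c ≤ (j ≫ f) ⁻¹ᵁ V := by
    intro z hz
    exact hDV hz
  apply koszulAt_of_isLCIHom (j ≫ f) x' (j ⁻¹ᵁ X.basicOpen c) V hD' hV hD'V hxc
  have hle : j ⁻¹ᵁ X.basicOpen c ≤ j ⁻¹ᵁ X.basicOpen c := le_rfl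
  have heq2 : (j.appLE (X.basicOpen c) (j ⁻¹ᵁ X.basicOpen c) hle).hom.comp
      (f.appLE V (X.basicOpen c) hDV).hom =
      ((j ≫ f).appLE V (j ⁻¹ᵁ X.basicOpen c) hD'V).hom := by
    rw [← CommRingCat.hom_comp, Scheme.Hom.appLE_comp_appLE]
  haveI : IsIso (j.app (X.basicOpen c)) := Scheme.Hom.isIso_app j _ hDr
  let E : Γ(X, X.basicOpen c) ≃+* Γ(X', j ⁻¹ᵁ X.basicOpen c) :=
    (asIso (j.app (X.basicOpen c))).commRingCatIsoToRingEquiv
  have hE : (E : _ →+* _) = (j.appLE (X.basicOpen c) (j ⁻¹ᵁ X.basicOpen c) hle).hom := by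
    show (j.app (X.basicOpen c)).hom = _
    rw [Scheme.Hom.appLE_eq_app]
  rw [← heq2, ← hE]
  exact isLCIHom_comp_equiv _ E hl

theorem koszulAt_openImm_comp_iff {X' : Scheme.{u}} (j : X' ⟶ X) [IsOpenImmersion j] (f : X ⟶ Y)
    (x' : X') : Synt.IsKoszulAt (j ≫ f) x' ↔ Synt.IsKoszulAt f (j x') :=
  ⟨koszulAt_of_openImm_comp j f x', koszulAt_openImm_comp j f x'⟩

/-- lci morphisms are locally of finite type -/
theorem lft_of_lci (f : X ⟶ Y) (hf : AlgSp.lci f) : LocallyOfFiniteType f := by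
  have hl := lci_of_koszulAt f hf
  rw [HasRingHomProperty.iff_appLE (P := @LocallyOfFiniteType)]
  intro W U' e
  exact (hl U'.1 W.1 U'.2 W.2 e).1

theorem lci_of_smooth (f : X ⟶ Y) [Smooth f] : AlgSp.lci f := fun x => koszulAt_of_smooth f x

theorem lci_comp {Z : Scheme.{u}} (f : X ⟶ Y) (g : Y ⟶ Z) (hf : AlgSp.lci f) (hg : AlgSp.lci g) :
    AlgSp.lci (f ≫ g) := main8661 f g hf hg

end sch

/-- Hypotheses making a property of morphisms of schemes étale local on the source-and-target,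
with stability under FLAT base change only. -/
structure EtLocalF (P : MorphismProperty Scheme.{u}) : Prop where
  precomp : ∀ ⦃W U V : Scheme.{u}⦄ (c : W ⟶ U) (h : U ⟶ V), Etale c → P h → P (c ≫ h)
  postcomp : ∀ ⦃U V V' : Scheme.{u}⦄ (h : U ⟶ V) (e : V ⟶ V'), Etale e → P h → P (h ≫ e)
  src : ∀ ⦃W U V : Scheme.{u}⦄ (c : W ⟶ U) (h : U ⟶ V), Etale c → Surjective c → P (c ≫ h) → P h
  flatBC : ∀ ⦃X Y Y' X' : Scheme.{u}⦄ (f : X ⟶ Y) (g : Y' ⟶ Y) (fst : X' ⟶ X) (snd : X' ⟶ Y'),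
    IsPullback fst snd f g → Flat g → P f → P snd

theorem etLocalF_lci : EtLocalF AlgSp.lci.{u} where
  precomp := fun _ _ _ c h (_ : Etale c) hh => lci_comp c h (lci_of_smooth c) hh
  postcomp := fun _ _ _ h e (_ : Etale e) hh => lci_comp h e hh (lci_of_smooth e)
  src := fun _ _ _ c h (_ : Etale c) (_ : Surjective c) hch =>
    (Groth.Agent.Lib.SyntSrc.main9730 c (Groth.Agent.Lib.SmoothSyntH4.main9699 c) h).mp hch
  flatBC := fun _ _ _ _ f g fst snd sq (_ : Flat g) hf => main8658 f g snd fst sq hf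

theorem descendsFlatCover_lci :
    Groth.Agent.Lib.AlgSpFpqc2_helper7.DescendsFlatCover AlgSp.lci.{u} :=
  Groth.Agent.Lib.AlgSpFpqc2_helper7.descendsFlatCover_of_descendsAlong _

end Groth.Agent.Lib.AlgSpLci
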