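import Groth.Agent.Lib.AlgSpLci1_helper2

/-!
# `LocP P` for `P` étale local on the source-and-target and stable under FLAT base change only:
one chart suffices, flat base change, fpqc locality on the base (helper2; adapted from helper7's
`AlgSpLocP4/5/6` which assume stability under arbitrary base change)
-/

set_option autoImplicit false
universe u
open CategoryTheory CategoryTheory.Limits AlgebraicGeometry Opposite MorphismProperty
open AlgSp Groth.Agent.Lib.AlgSpQC2_helper7 Groth.Agent.Lib.AlgSpPoints_helper7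
  Groth.Agent.Lib.AlgSpQC_helper7 Groth.Agent.Lib.AlgSpDiag_helper7 Groth.Agent.Lib.AlgSpTop_helper7
  Groth.Agent.Lib.AlgSpPullback_helper7 Groth.Agent.Lib.AlgSpSep_helper7
  Groth.Agent.Lib.AlgSpLocP_helper7 Groth.Agent.Lib.AlgSpUniv_helper7
  Groth.Agent.Lib.AlgSpFpqc_helper7 Groth.Agent.Lib.AlgSpFpqc2_helper7
  Groth.Agent.Lib.AlgSpDescent_helper7 Groth.Agent.Lib.AlgSpEtale_helper7
  Groth.Agent.Lib.AlgSpLocP2_helper7 Groth.Agent.Lib.AlgSpEpi_helper7
  Groth.Agent.Lib.SchSrcLocal_helper7 Groth.Agent.Lib.AlgSpLocP4_helper7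
  Groth.Agent.Lib.AlgSpLocP5_helper7 Groth.Agent.Lib.AlgSpLocP6_helper7

namespace Groth.Agent.Lib.AlgSpLci

variable {S : Scheme.{u}}

theorem EtLocalF.cancel {P : MorphismProperty Scheme.{u}}
    (hP : EtLocalF P) {A B C : Scheme.{u}} (k : A ⟶ B) (q : B ⟶ C) (hq : Etale q)
    (hkq : P (k ≫ q)) : P k := by
  let s : A ⟶ pullback (k ≫ q) q := pullback.lift (𝟙 A) k (by simp)
  have hs1 : s ≫ pullback.fst (k ≫ q) q = 𝟙 A := pullback.lift_fst _ _ _
  have hs2 : s ≫ pullback.snd (k ≫ q) q = k := pullback.lift_snd _ _ _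
  have hse : Etale s := by
    have h1 : Etale (s ≫ pullback.fst (k ≫ q) q) := by rw [hs1]; infer_instance
    exact MorphismProperty.of_postcomp (W := @Etale) (W' := @Etale) s (pullback.fst (k ≫ q) q)
      inferInstance h1
  rw [← hs2]
  exact hP.precomp _ _ hse (hP.flatBC (k ≫ q) q _ _ (IsPullback.of_hasPullback _ _)
    inferInstance hkq)

/-- One chart suffices. -/
theorem locP_of_one_chart_F {P : MorphismProperty Scheme.{u}}
    (hP : EtLocalF P) {X Y : Sp S} (f : X ⟶ Y) {U V : Over S} (a : (yon S).obj U ⟶ X)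
    (b : (yon S).obj V ⟶ Y) (h : U ⟶ V) (hae : RepWith @Etale a) (has : RepWith @Surjective a)
    (hbe : RepWith @Etale b) (comm : a ≫ f = (yon S).map h ≫ b) (hh : P h.left) : LocP P f := by
  intro U' V' a' b' h' hae' hbe' comm'
  let U'' := hae.rep.pullback a'
  let p' : U'' ⟶ U' := hae.rep.snd a'
  let p : U'' ⟶ U := hae.rep.fst' a'
  have sqU : IsPullback ((yon S).map p) ((yon S).map p') a a' := hae.rep.isPullback' _
  have hp'e : Etale p'.left := hae.property_snd _
  have hp's : Surjective p'.left := has.property _ _ _ (hae.rep.isPullback _)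
  have hpe : Etale p.left := (repWith_yon_map_iff _ _).1 (repWith_fst_of_isPullback _ sqU hae')
  let V'' := hbe.rep.pullback b'
  let q' : V'' ⟶ V' := hbe.rep.snd b'
  let q : V'' ⟶ V := hbe.rep.fst' b'
  have sqV : IsPullback ((yon S).map q) ((yon S).map q') b b' := hbe.rep.isPullback' _
  have hq'e : Etale q'.left := hbe.property_snd _
  have hqe : Etale q.left := (repWith_yon_map_iff _ _).1 (repWith_fst_of_isPullback _ sqV hbe')
  have hk : (yon S).map (p ≫ h) ≫ b = (yon S).map (p' ≫ h') ≫ b' := by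
    rw [Functor.map_comp, Functor.map_comp, Category.assoc, Category.assoc, ← comm, ← comm',
      ← Category.assoc, ← Category.assoc, sqU.w]
  obtain ⟨k, hk'⟩ := (yon S).map_surjective (sqV.lift _ _ hk)
  have hk1 : k ≫ q = p ≫ h := (yon S).map_injective (by
    rw [Functor.map_comp, hk', sqV.lift_fst])
  have hk2 : k ≫ q' = p' ≫ h' := (yon S).map_injective (by
    rw [Functor.map_comp, hk', sqV.lift_snd])
  have h1 : P (k.left ≫ q.left) := by
    rw [← Over.comp_left, hk1, Over.comp_left]
    exact hP.precomp _ _ hpe hh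
  have h2 : P k.left := hP.cancel _ _ hqe h1
  have h3 : P (p'.left ≫ h'.left) := by
    rw [← Over.comp_left, ← hk2, Over.comp_left]
    exact hP.postcomp _ _ hq'e h2
  exact hP.src _ _ hp'e hp's h3

/-- Base change of `LocP P f`, for `f` with target a scheme, along a FLAT morphism of schemes. -/
theorem locP_baseChange_scheme_F {P : MorphismProperty Scheme.{u}}
    (hP : EtLocalF P) {X : Sp S} (hX : IsAlgSpace X) {V V' : Over S} (f : X ⟶ (yon S).obj V)
    (l : V' ⟶ V) (hl : Flat l.left) {X' : Sp S} (fst : X' ⟶ X) (snd : X' ⟶ (yon S).obj V')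
    (sq : IsPullback fst snd f ((yon S).map l)) (hf : LocP P f) : LocP P snd := by
  obtain ⟨U, u, hue, hus⟩ := hX.atlas
  obtain ⟨k, hk⟩ := (yon S).map_surjective (u ≫ f)
  have hPk : P k.left := hf u (𝟙 _) k hue (repWith_id _ V) (by rw [hk, Category.comp_id])
  have sqO := IsPullback.of_hasPullback k l
  have sqU' : IsPullback (pullback.fst k l).left (pullback.snd k l).left k.left l.left :=
    sqO.map (Over.forget S)
  have hPh' : P (pullback.snd k l).left := hP.flatBC _ _ _ _ sqU' hl hPk
  have sqY : IsPullback ((yon S).map (pullback.fst k l)) ((yon S).map (pullback.snd k l))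
      ((yon S).map k) ((yon S).map l) := sqO.map (yon S)
  let a' : (yon S).obj (pullback k l) ⟶ X' :=
    sq.lift ((yon S).map (pullback.fst k l) ≫ u) ((yon S).map (pullback.snd k l)) (by
      rw [Category.assoc, ← hk, sqY.w])
  have ha'1 : a' ≫ fst = (yon S).map (pullback.fst k l) ≫ u := sq.lift_fst _ _ _
  have ha'2 : a' ≫ snd = (yon S).map (pullback.snd k l) := sq.lift_snd _ _ _
  have sqL : IsPullback a' ((yon S).map (pullback.fst k l)) fst u := by
    refine IsPullback.of_right (h₁₂ := snd) (h₂₂ := f) ?_ ha'1 sq.flip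
    rw [ha'2, ← hk]
    exact sqY.flip
  have ha'e : RepWith @Etale a' := repWith_fst_of_isPullback _ sqL hue
  have ha's : RepWith @Surjective a' := repWith_fst_of_isPullback _ sqL hus
  exact locP_of_one_chart_F hP snd a' (𝟙 _) (pullback.snd k l) ha'e ha's (repWith_id _ V')
    (by rw [ha'2, Category.comp_id]) hPh'

/-- `LocP P` can be checked after base change to a surjective étale chart of the target. -/
theorem locP_of_target_chart_F {P : MorphismProperty Scheme.{u}}
    (hP : EtLocalF P) {X Y : Sp S} (f : X ⟶ Y) {V : Over S} (q : (yon S).obj V ⟶ Y)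
    (hqe : RepWith @Etale q) (hqs : RepWith @Surjective q) {Q : Sp S} (fst : Q ⟶ X)
    (snd : Q ⟶ (yon S).obj V) (sq : IsPullback fst snd f q) (hQ : IsAlgSpace Q)
    (h : LocP P snd) : LocP P f := by
  obtain ⟨U, u, hue, hus⟩ := hQ.atlas
  obtain ⟨k, hk⟩ := (yon S).map_surjective (u ≫ snd)
  have hPk : P k.left := h u (𝟙 _) k hue (repWith_id _ V) (by rw [hk, Category.comp_id])
  have hfe : RepWith @Etale fst := repWith_fst_of_isPullback _ sq hqe
  have hfs : RepWith @Surjective fst := repWith_fst_of_isPullback _ sq hqs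
  exact locP_of_one_chart_F hP f (u ≫ fst) q k (repWith_comp _ hue hfe) (repWith_comp _ hus hfs) hqe
    (by rw [Category.assoc, sq.w, ← Category.assoc, hk]) hPk

/-- `LocP P` is stable under FLAT base change. -/
theorem locP_baseChange_F {P : MorphismProperty Scheme.{u}}
    (hP : EtLocalF P) {X Y Y' X' : Sp S} (hX : IsAlgSpace X) (hY : IsAlgSpace Y)
    (hY' : IsAlgSpace Y') (f : X ⟶ Y) (g : Y' ⟶ Y) (fst : X' ⟶ X) (snd : X' ⟶ Y')
    (sq : IsPullback fst snd f g) (hg : LocP @Flat g) (hf : LocP P f) : LocP P snd := by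
  obtain ⟨V, q, hqe, hqs⟩ := hY.atlas
  have sqXV := IsPullback.of_hasPullback f q
  have hXV : IsAlgSpace (pullback f q) :=
    isAlgSpace_of_isPullback hY.diag hX (IsAlgSpace.yon_obj V) sqXV
  have h1 : LocP P (pullback.snd f q) := locP_restrict_chart f q hqe _ _ sqXV hf
  have sqYV := IsPullback.of_hasPullback g q
  have hYV : IsAlgSpace (pullback g q) :=
    isAlgSpace_of_isPullback hY.diag hY' (IsAlgSpace.yon_obj V) sqYV
  obtain ⟨V', v', hv'e, hv's⟩ := hYV.atlas
  have hb'e : RepWith @Etale (v' ≫ pullback.fst g q) :=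
    repWith_comp _ hv'e (repWith_fst_of_isPullback _ sqYV hqe)
  have hb's : RepWith @Surjective (v' ≫ pullback.fst g q) :=
    repWith_comp _ hv's (repWith_fst_of_isPullback _ sqYV hqs)
  obtain ⟨l, hl⟩ := (yon S).map_surjective (v' ≫ pullback.snd g q)
  have hbl : (v' ≫ pullback.fst g q) ≫ g = (yon S).map l ≫ q := by
    rw [hl, Category.assoc, Category.assoc, pullback.condition]
  have hlf : Flat l.left := hg _ q l hb'e hqe hbl
  have sqT := IsPullback.of_hasPullback (pullback.snd f q) ((yon S).map l)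
  have h2 : LocP P (pullback.snd (pullback.snd f q) ((yon S).map l)) :=
    locP_baseChange_scheme_F hP hXV (pullback.snd f q) l hlf _ _ sqT h1
  have hT : IsAlgSpace (pullback (pullback.snd f q) ((yon S).map l)) :=
    isAlgSpace_of_isPullback (IsAlgSpace.yon_obj V).diag hXV (IsAlgSpace.yon_obj V') sqT
  have big := sqT.paste_horiz sqXV
  rw [← hbl] at big
  let τ : pullback (pullback.snd f q) ((yon S).map l) ⟶ X' :=
    sq.lift (pullback.fst _ _ ≫ pullback.fst f q) (pullback.snd _ _ ≫ v' ≫ pullback.fst g q)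
      (by rw [Category.assoc]; exact big.w)
  have hτ1 : τ ≫ fst = pullback.fst _ _ ≫ pullback.fst f q := sq.lift_fst _ _ _
  have hτ2 : τ ≫ snd = pullback.snd _ _ ≫ v' ≫ pullback.fst g q := sq.lift_snd _ _ _
  have sqτ : IsPullback τ (pullback.snd (pullback.snd f q) ((yon S).map l)) snd
      (v' ≫ pullback.fst g q) := by
    refine IsPullback.of_right (h₁₂ := fst) (h₂₂ := g) ?_ hτ2 sq
    rw [hτ1]
    exact big
  exact locP_of_target_chart_F hP snd _ hb'e hb's τ _ sqτ hT h2

/-- `LocP P` can be checked after precomposition with a surjective étale chart of the source. -/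
theorem locP_of_source_chart_F {P : MorphismProperty Scheme.{u}}
    (hP : EtLocalF P) {X Y : Sp S} (hY : IsAlgSpace Y) (f : X ⟶ Y) {U : Over S}
    (φ : (yon S).obj U ⟶ X) (hφe : RepWith @Etale φ) (hφs : RepWith @Surjective φ)
    (h : LocP P (φ ≫ f)) : LocP P f := by
  obtain ⟨V, q, hqe, hqs⟩ := hY.atlas
  have sq := IsPullback.of_hasPullback (φ ≫ f) q
  have hQ : IsAlgSpace (pullback (φ ≫ f) q) :=
    isAlgSpace_of_isPullback hY.diag (IsAlgSpace.yon_obj U) (IsAlgSpace.yon_obj V) sq
  obtain ⟨U', u, hue, hus⟩ := hQ.atlas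
  have h1e : RepWith @Etale (u ≫ pullback.fst (φ ≫ f) q) :=
    repWith_comp _ hue (repWith_fst_of_isPullback _ sq hqe)
  have h1s : RepWith @Surjective (u ≫ pullback.fst (φ ≫ f) q) :=
    repWith_comp _ hus (repWith_fst_of_isPullback _ sq hqs)
  obtain ⟨k, hk⟩ := (yon S).map_surjective (u ≫ pullback.snd (φ ≫ f) q)
  have hc : (u ≫ pullback.fst (φ ≫ f) q) ≫ φ ≫ f = (yon S).map k ≫ q := by
    rw [hk, Category.assoc, Category.assoc, pullback.condition]
  have hPk : P k.left := h _ q k h1e hqe hc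
  exact locP_of_one_chart_F hP f ((u ≫ pullback.fst (φ ≫ f) q) ≫ φ) q k (repWith_comp _ h1e hφe)
    (repWith_comp _ h1s hφs) hqe (by rw [Category.assoc]; exact hc) hPk

/-- `LocP P` can be checked after base change to affine schemes ÉTALE over the target, for `P`
Zariski local on the target. -/
theorem locP_of_forall_affine_etale (P : MorphismProperty Scheme.{u}) [IsZariskiLocalAtTarget P]
    {X Y : Sp S} (f : X ⟶ Y)
    (h : ∀ (Z : Over S), IsAffine Z.left → ∀ (g : (yon S).obj Z ⟶ Y), RepWith @Etale g →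
        ∀ (Q : Sp S) (fst : Q ⟶ X) (snd : Q ⟶ (yon S).obj Z), IsPullback fst snd f g →
        LocP P snd) :
    LocP P f := by
  intro U V a b k hae hbe comm
  rw [IsZariskiLocalAtTarget.iff_of_openCover (P := P) V.left.affineCover]
  intro i
  let ι := V.left.affineCover.f i
  let Z : Over S := Over.mk (ι ≫ V.hom)
  let j : Z ⟶ V := Over.homMk ι rfl
  let Ui : Over S := Over.mk (pullback.fst k.left ι ≫ U.hom)
  let jU : Ui ⟶ U := Over.homMk (pullback.fst k.left ι) rfl
  let ki : Ui ⟶ Z := Over.homMk (pullback.snd k.left ι) (by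
    show pullback.snd k.left ι ≫ ι ≫ V.hom = pullback.fst k.left ι ≫ U.hom
    rw [← Category.assoc, ← pullback.condition, Category.assoc, Over.w k])
  have hjk : ki ≫ j = jU ≫ k := by
    ext
    exact pullback.condition.symm
  have hZ : IsAffine Z.left := inferInstanceAs (IsAffine (V.left.affineCover.X i))
  have hje : Etale j.left := inferInstanceAs (Etale ι)
  have hjUe : Etale jU.left := inferInstanceAs (Etale (pullback.fst k.left ι))
  have hge : RepWith @Etale ((yon S).map j ≫ b) :=
    repWith_comp _ ((repWith_yon_map_iff _ _).2 hje) hbe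
  have sq := IsPullback.of_hasPullback f ((yon S).map j ≫ b)
  have hL := h Z hZ _ hge _ _ _ sq
  let ai : (yon S).obj Ui ⟶ pullback f ((yon S).map j ≫ b) :=
    pullback.lift ((yon S).map jU ≫ a) ((yon S).map ki) (by
      rw [Category.assoc, comm, ← Category.assoc, ← Functor.map_comp, ← hjk, Functor.map_comp,
        Category.assoc])
  have hai1 : ai ≫ pullback.fst f _ = (yon S).map jU ≫ a := pullback.lift_fst _ _ _
  have hai2 : ai ≫ pullback.snd f _ = (yon S).map ki := pullback.lift_snd _ _ _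
  have hfst : RepWith @Etale (pullback.fst f ((yon S).map j ≫ b)) :=
    repWith_fst_of_isPullback _ sq hge
  have haie : RepWith @Etale ai := by
    refine repWith_etale_of_comp ai _ ?_ hfst
    rw [hai1]
    exact repWith_comp _ ((repWith_yon_map_iff _ _).2 hjUe) hae
  exact hL ai (𝟙 _) ki haie (repWith_id _ Z) (by rw [hai2, Category.comp_id])

/-- scheme-level: an open surjective morphism onto a quasi-compact scheme, and a morphism to `T`:
some quasi-compact open of `T` has preimage surjecting onto `W`. -/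
theorem exists_qc_open {W W' T : Scheme.{u}} [CompactSpace W] (e : W' ⟶ W)
    (he : IsOpenMap e) (hs : Function.Surjective e) (d : W' ⟶ T) :
    ∃ O : T.Opens, IsCompact (O : Set T) ∧ ∀ w : W, ∃ w' : W', e w' = w ∧ d w' ∈ O := by
  classical
  have hA : ∀ w' : W', ∃ A : T.Opens, IsAffineOpen A ∧ d w' ∈ A := fun w' => by
    obtain ⟨A, hA, hm, -⟩ := (TopologicalSpace.Opens.isBasis_iff_nbhd.mp T.isBasis_affineOpens)
      (show d w' ∈ (⊤ : T.Opens) from trivial)
    exact ⟨A, hA, hm⟩
  choose A hAaff hAmem using hA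
  have hopen : ∀ w' : W', IsOpen (e '' (d ⁻¹' (A w' : Set T))) := fun w' =>
    he _ ((A w').isOpen.preimage d.continuous)
  have hcov : (Set.univ : Set W) ⊆ ⋃ w' : W', e '' (d ⁻¹' (A w' : Set T)) := by
    intro w _
    obtain ⟨w', rfl⟩ := hs w
    exact Set.mem_iUnion.2 ⟨w', w', hAmem w', rfl⟩
  obtain ⟨s, hs'⟩ := isCompact_univ.elim_finite_subcover _ hopen hcov
  refine ⟨⨆ w' ∈ s, A w', ?_, ?_⟩
  · have : ((⨆ w' ∈ s, A w' : T.Opens) : Set T) = ⋃ w' ∈ s, (A w' : Set T) := by simp
    rw [this]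
    exact s.isCompact_biUnion (fun w' _ => (hAaff w').isCompact)
  · intro w
    have := hs' (Set.mem_univ w)
    simp only [Set.mem_iUnion] at this
    obtain ⟨w₀, hw₀, w', hw', rfl⟩ := this
    refine ⟨w', rfl, ?_⟩
    exact TopologicalSpace.Opens.mem_iSup.2 ⟨w₀, TopologicalSpace.Opens.mem_iSup.2 ⟨hw₀, hw'⟩⟩

/-- **Refinement lemma**: an fpqc covering of an algebraic space, pulled back to an affine scheme
étale over it, is refined by a finite family of quasi-compact schemes, flat over the affine scheme,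
jointly surjective, each ÉTALE over some member of the covering. -/
theorem exists_etale_refinement {ι : Type u} {Y : Sp S} {Yi : ι → Sp S} {g : ∀ i, Yi i ⟶ Y}
    (hY : IsAlgSpace Y) (hYi : ∀ i, IsAlgSpace (Yi i)) (hcov : IsFpqcCover Yi g)
    {Z : Over S} (hZ : IsAffine Z.left) (h : (yon S).obj Z ⟶ Y) (hhe : RepWith @Etale h) :
    ∃ (m : ℕ) (T : Fin m → Over S) (τ : ∀ j, T j ⟶ Z),
      (∀ j, CompactSpace ↥(T j).left) ∧ (∀ j, Flat (τ j).left) ∧
      (∀ z : ↥Z.left, ∃ j, z ∈ Set.range (τ j).left) ∧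
      ∀ j, ∃ (i : ι) (l : (yon S).obj (T j) ⟶ Yi i), RepWith @Etale l ∧
        l ≫ g i = (yon S).map (τ j) ≫ h := by
  obtain ⟨m, W, c, hW, hc, hsurj, hl⟩ := hcov.2 Z hZ h
  have key : ∀ j, ∃ (T : Over S) (τ : T ⟶ Z), CompactSpace ↥T.left ∧ Flat τ.left ∧
      Set.range (c j).left ⊆ Set.range τ.left ∧
      ∃ (i : ι) (l : (yon S).obj T ⟶ Yi i), RepWith @Etale l ∧
        l ≫ g i = (yon S).map τ ≫ h := by
    intro j
    obtain ⟨i, l, hl⟩ := hl j
    have sqR := IsPullback.of_hasPullback (g i) h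
    have hR : IsAlgSpace (pullback (g i) h) :=
      isAlgSpace_of_isPullback hY.diag (hYi i) (IsAlgSpace.yon_obj Z) sqR
    obtain ⟨T₀, t, hte, hts⟩ := hR.atlas
    let s : (yon S).obj (W j) ⟶ pullback (g i) h := pullback.lift l ((yon S).map (c j)) hl
    have hs1 : s ≫ pullback.fst (g i) h = l := pullback.lift_fst _ _ _
    have hs2 : s ≫ pullback.snd (g i) h = (yon S).map (c j) := pullback.lift_snd _ _ _
    let W' := hte.rep.pullback s
    let e : W' ⟶ W j := hte.rep.snd s
    let d : W' ⟶ T₀ := hte.rep.fst' s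
    have sqW : IsPullback ((yon S).map d) ((yon S).map e) t s := hte.rep.isPullback' _
    have hee : Etale e.left := hte.property_snd _
    have hes : Surjective e.left := hts.property _ _ _ (hte.rep.isPullback _)
    haveI : CompactSpace ↥(W j).left := by
      have := hW j
      infer_instance
    obtain ⟨κ, hκ⟩ := (yon S).map_surjective (t ≫ pullback.snd (g i) h)
    have hdκ : d ≫ κ = e ≫ c j := (yon S).map_injective (by
      rw [Functor.map_comp, Functor.map_comp, hκ, ← Category.assoc, sqW.w, Category.assoc, hs2])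
    obtain ⟨O, hOc, hO⟩ := exists_qc_open e.left e.left.isOpenMap hes.surj d.left
    let T : Over S := Over.mk (O.ι ≫ T₀.hom)
    let o : T ⟶ T₀ := Over.homMk O.ι rfl
    have hoe : Etale o.left := inferInstanceAs (Etale O.ι)
    have ht'e : RepWith @Etale ((yon S).map o ≫ t) :=
      repWith_comp _ ((repWith_yon_map_iff _ _).2 hoe) hte
    have hτ : (yon S).map (o ≫ κ) = ((yon S).map o ≫ t) ≫ pullback.snd (g i) h := by
      rw [Functor.map_comp, hκ, Category.assoc]
    refine ⟨T, o ≫ κ, ?_, ?_, ?_, i, ((yon S).map o ≫ t) ≫ pullback.fst (g i) h, ?_, ?_⟩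
    · exact isCompact_iff_compactSpace.mp hOc
    · have hfl : LocP @Flat (pullback.snd (g i) h) :=
        locP_baseChange etLocal_flat (hYi i) hY (IsAlgSpace.yon_obj Z) (g i) h _ _ sqR (hcov.1 i)
      exact hfl _ (𝟙 _) (o ≫ κ) ht'e (repWith_id _ Z) (by rw [hτ, Category.comp_id])
    · rintro _ ⟨w, rfl⟩
      obtain ⟨w', hw', hdw'⟩ := hO w
      refine ⟨⟨d.left w', hdw'⟩, ?_⟩
      have h1 : (o ≫ κ).left ⟨d.left w', hdw'⟩ = κ.left (d.left w') := rfl
      rw [h1, ← hw']
      have h2 := congrArg (fun φ => φ.left w') hdκ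
      exact h2
    · exact repWith_comp _ ht'e (repWith_fst_of_isPullback _ sqR hhe)
    · rw [Category.assoc, pullback.condition, ← Category.assoc, ← hτ]
  choose T τ hTc hτf hrange hl' using key
  refine ⟨m, T, τ, hTc, hτf, fun z => ?_, hl'⟩
  obtain ⟨j, hj⟩ := hsurj z
  exact ⟨j, hrange j hj⟩

/-- descent along a finite jointly surjective family of flat morphisms from quasi-compact schemes
to an affine scheme. -/
theorem descends_of_qc_family (P : MorphismProperty Scheme.{u}) [IsZariskiLocalAtTarget P]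
    [P.DescendsAlong (@Surjective ⊓ @Flat ⊓ @QuasiCompact)]
    {Z : Scheme.{u}} [IsAffine Z] {m : ℕ} (T : Fin m → Scheme.{u}) (τ : ∀ j, T j ⟶ Z)
    (hT : ∀ j, CompactSpace (T j)) (hτ : ∀ j, Flat (τ j))
    (hs : ∀ z : Z, ∃ j, z ∈ Set.range (τ j)) {V : Scheme.{u}} (f : V ⟶ Z)
    (h : ∀ j, ∃ (A : Scheme.{u}) (fst : A ⟶ V) (snd : A ⟶ T j),
      IsPullback fst snd f (τ j) ∧ P snd) : P f := by
  have := hT
  have := hτ
  let σ : ∐ T ⟶ Z := Sigma.desc τ
  have hσs : Surjective σ := by
    refine ⟨fun z => ?_⟩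
    obtain ⟨j, w, rfl⟩ := hs z
    refine ⟨Sigma.ι T j w, ?_⟩
    rw [← Scheme.Hom.comp_apply, Sigma.ι_desc]
  have hcs : CompactSpace ↥(∐ T) := by
    have hu : (Set.univ : Set ↥(∐ T)) = ⋃ j, Set.range (Sigma.ι T j) := by
      ext x
      simp only [Set.mem_univ, Set.mem_iUnion, Set.mem_range, true_iff]
      obtain ⟨j, y, hy⟩ := (AlgebraicGeometry.sigmaOpenCover T).exists_eq x
      exact ⟨j, y, hy⟩
    rw [← isCompact_univ_iff, hu]
    exact isCompact_iUnion fun j => isCompact_range (Sigma.ι T j).continuous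
  have hqc : QuasiCompact σ := (quasiCompact_iff_compactSpace σ).mpr hcs
  have hfl : Flat σ := inferInstance
  refine MorphismProperty.of_pullback_snd_of_descendsAlong (P := P)
    (Q := @Surjective ⊓ @Flat ⊓ @QuasiCompact) (f := f) (g := σ) ⟨⟨hσs, hfl⟩, hqc⟩ ?_
  rw [IsZariskiLocalAtTarget.iff_of_openCover (P := P) (AlgebraicGeometry.sigmaOpenCover T)]
  intro j
  change P (pullback.snd (pullback.snd f σ) (Sigma.ι T j))
  have sq1 := (IsPullback.of_hasPullback (pullback.snd f σ) (Sigma.ι T j)).paste_horiz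
    (IsPullback.of_hasPullback f σ)
  have e : Sigma.ι T j ≫ σ = τ j := Sigma.ι_desc _ _
  rw [e] at sq1
  obtain ⟨A, fst, snd, sq2, hP⟩ := h j
  have he : (sq1.isoIsPullback _ _ sq2).hom ≫ snd =
      pullback.snd (pullback.snd f σ) (Sigma.ι T j) := sq1.isoIsPullback_hom_snd _ _ sq2
  rw [← he, MorphismProperty.cancel_left_of_respectsIso (P := P)]
  exact hP

/-- For `P` étale local on the source-and-target, stable under flat base change, Zariski local on
the target and descending along fpqc morphisms, `LocP P` is fpqc local on the base. -/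
theorem locP_isLocalOnBase_fpqc_F (P : MorphismProperty Scheme.{u})
    [IsZariskiLocalAtTarget P] [P.DescendsAlong (@Surjective ⊓ @Flat ⊓ @QuasiCompact)]
    (hP : EtLocalF P) :
    IsLocalOnBase (IsFpqcCover (S := S)) (LocP P) := by
  intro ι Y Yi g hY hYi hcov X f hX Xi p q hXi sqs
  constructor
  · intro hf i
    exact locP_baseChange_F hP hX hY (hYi i) f (g i) (q i) (p i) (sqs i) (hcov.1 i) hf
  · intro hp
    apply locP_of_forall_affine_etale P f
    intro Z hZ h hhe Q fst snd sq
    have hQ : IsAlgSpace Q := isAlgSpace_of_isPullback hY.diag hX (IsAlgSpace.yon_obj Z) sq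
    obtain ⟨m, T, τ, hTc, hτf, hsurj, hl⟩ := exists_etale_refinement hY hYi hcov hZ h hhe
    obtain ⟨U, a, hae, has⟩ := hQ.atlas
    obtain ⟨k, hk⟩ := (yon S).map_surjective (a ≫ snd)
    refine locP_of_one_chart_F hP snd a (𝟙 _) k hae has (repWith_id _ Z)
      (by rw [hk, Category.comp_id]) ?_
    have : IsAffine Z.left := hZ
    refine descends_of_qc_family P (fun j => (T j).left) (fun j => (τ j).left) hTc hτf hsurj k.left
      fun j => ?_
    obtain ⟨i, l, hle, hlc⟩ := hl j
    obtain ⟨l', sql⟩ := exists_isPullback_of_factor (sqs i) sq ((yon S).map (τ j)) l hlc.symm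
    have hL : LocP P (pullback.snd snd ((yon S).map (τ j))) :=
      locP_restrict_chart (p i) l hle _ _ sql (hp i)
    have sqO := IsPullback.of_hasPullback k (τ j)
    have sqU' : IsPullback (pullback.fst k (τ j)).left (pullback.snd k (τ j)).left k.left
        (τ j).left := sqO.map (Over.forget S)
    refine ⟨_, _, _, sqU', ?_⟩
    have sqY : IsPullback ((yon S).map (pullback.fst k (τ j))) ((yon S).map (pullback.snd k (τ j)))
        ((yon S).map k) ((yon S).map (τ j)) := sqO.map (yon S)
    have sqT := IsPullback.of_hasPullback snd ((yon S).map (τ j))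
    let a' : (yon S).obj (pullback k (τ j)) ⟶ pullback snd ((yon S).map (τ j)) :=
      sqT.lift ((yon S).map (pullback.fst k (τ j)) ≫ a) ((yon S).map (pullback.snd k (τ j))) (by
        rw [Category.assoc, ← hk, sqY.w])
    have ha'1 : a' ≫ pullback.fst snd ((yon S).map (τ j)) =
        (yon S).map (pullback.fst k (τ j)) ≫ a := sqT.lift_fst _ _ _
    have ha'2 : a' ≫ pullback.snd snd ((yon S).map (τ j)) =
        (yon S).map (pullback.snd k (τ j)) := sqT.lift_snd _ _ _
    have sqL : IsPullback a' ((yon S).map (pullback.fst k (τ j)))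
        (pullback.fst snd ((yon S).map (τ j))) a := by
      refine IsPullback.of_right (h₁₂ := pullback.snd snd ((yon S).map (τ j))) (h₂₂ := snd) ?_ ha'1
        sqT.flip
      rw [ha'2, ← hk]
      exact sqY.flip
    have ha'e : RepWith @Etale a' := repWith_fst_of_isPullback _ sqL hae
    exact hL a' (𝟙 _) (pullback.snd k (τ j)) ha'e (repWith_id _ _) (by rw [ha'2, Category.comp_id])

/-- **S10667**: being a local complete intersection morphism of algebraic spaces is fpqc local on
the base. -/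
theorem main10667 : IsLocalOnBase (IsFpqcCover (S := S)) AlgSp.IsLCIMor :=
  locP_isLocalOnBase_fpqc_F AlgSp.lci etLocalF_lci

end Groth.Agent.Lib.AlgSpLci
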