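import Groth.Agent.Lib.AlgSpLci2_helper2
import Groth.Agent.Lib.AlgSpOpenSub_helper7

/-!
# The Koszul locus of a morphism of algebraic spaces commutes with base change (S10668) (helper2)
-/

set_option autoImplicit false
universe u
open CategoryTheory CategoryTheory.Limits AlgebraicGeometry Opposite MorphismProperty
open AlgSp Groth.Agent.Lib.AlgSpQC2_helper7 Groth.Agent.Lib.AlgSpPoints_helper7
  Groth.Agent.Lib.AlgSpQC_helper7 Groth.Agent.Lib.AlgSpDiag_helper7 Groth.Agent.Lib.AlgSpTop_helper7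
  Groth.Agent.Lib.AlgSpPullback_helper7 Groth.Agent.Lib.AlgSpSep_helper7
  Groth.Agent.Lib.AlgSpLocP_helper7 Groth.Agent.Lib.AlgSpUniv_helper7
  Groth.Agent.Lib.AlgSpFpqc_helper7 Groth.Agent.Lib.AlgSpFpqc2_helper7
  Groth.Agent.Lib.AlgSpDescent_helper7 Groth.Agent.Lib.AlgSpEtale_helper7
  Groth.Agent.Lib.AlgSpLocP2_helper7 Groth.Agent.Lib.AlgSpEpi_helper7
  Groth.Agent.Lib.SchSrcLocal_helper7 Groth.Agent.Lib.AlgSpLocP4_helper7
  Groth.Agent.Lib.AlgSpLocP5_helper7 Groth.Agent.Lib.AlgSpLocP6_helper7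
  Groth.Agent.Lib.AlgSpOpenSub_helper7 Groth.Agent.Lib.FibKoszulSch

namespace Groth.Agent.Lib.AlgSpLci

variable {S : Scheme.{u}}

/-- **Chart criterion for "Koszul at a point"**: for any chart diagram of `f`, `f` is Koszul near
the image of `u` iff the chart morphism is Koszul at `u`. -/
theorem locPNear_lci_iff_chart {X Y : Sp S} (hX : IsAlgSpace X) (f : X ⟶ Y) {U V : Over S}
    (a : (yon S).obj U ⟶ X) (b : (yon S).obj V ⟶ Y) (k : U ⟶ V) (hae : RepWith @Etale a)
    (hbe : RepWith @Etale b) (comm : a ≫ f = (yon S).map k ≫ b) (u : ↥U.left) :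
    LocPNear AlgSp.lci f (Points.ofPt a u) ↔ Synt.IsKoszulAt k.left u := by
  constructor
  · rintro ⟨W, j, hj, ⟨w, hw⟩, hL⟩
    let UW := hj.rep.pullback a
    let o : UW ⟶ U := hj.rep.snd a
    let aW : (yon S).obj UW ⟶ W := hj.rep.fst a
    have sq : IsPullback aW ((yon S).map o) j a := hj.rep.isPullback a
    have ho : IsOpenImmersion o.left := hj.property_snd a
    have haW : RepWith @Etale aW := repWith_fst_of_isPullback _ sq hae
    have hu : ∃ v : ↥UW.left, o.left v = u := by
      have h1 : Points.map j w = Points.map a (Points.ofScheme U u) := by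
        rw [hw, Points.ofPt_eq_map_ofScheme]
      obtain ⟨z, -, hz⟩ := exists_of_isPullback sq w _ h1
      obtain ⟨v, rfl⟩ := ofScheme_surjective UW z
      refine ⟨v, ?_⟩
      apply ofScheme_injective U
      rw [← hz, ← Points.ofPt_eq_map_ofScheme, ofPt_yon_map]
    obtain ⟨v, rfl⟩ := hu
    have hc : aW ≫ j ≫ f = (yon S).map (o ≫ k) ≫ b := by
      rw [← Category.assoc, sq.w, Category.assoc, comm, Functor.map_comp, Category.assoc]
    have h1 : AlgSp.lci (o ≫ k).left := hL aW b (o ≫ k) haW hbe hc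
    rw [Over.comp_left] at h1
    exact koszulAt_of_openImm_comp o.left k.left v (h1 v)
  · intro hk
    let K : U.left.Opens := ⟨kset k.left, isOpen_kset k.left⟩
    have huK : u ∈ K := (mem_kset_iff k.left u).2 hk
    let W₀ : Set (Points X) := Points.ofPt a '' (K : Set U.left)
    have hW₀ : IsOpen W₀ := isOpenMap_ofPt_of_etale a hae _ K.2
    refine ⟨openSub X W₀, openSubι X W₀, repWith_isOpenImmersion_openSubι hW₀, ?_, ?_⟩
    · rw [range_map_openSubι hX hW₀]
      exact ⟨u, huK, rfl⟩
    · let UK : Over S := Over.mk (K.ι ≫ U.hom)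
      let o : UK ⟶ U := Over.homMk K.ι rfl
      haveI : IsOpenImmersion o.left := inferInstanceAs (IsOpenImmersion K.ι)
      have hoe : RepWith @Etale ((yon S).map o ≫ a) := repWith_etale_restrict a hae K
      have hrange : Set.range (Points.ofPt ((yon S).map o ≫ a)) = W₀ := by
        ext x
        constructor
        · rintro ⟨t, rfl⟩
          rw [ofPt_comp]
          exact ⟨o.left t, t.2, rfl⟩
        · rintro ⟨t, ht, rfl⟩
          refine ⟨⟨t, ht⟩, ?_⟩
          rw [ofPt_comp]
          rfl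
      obtain ⟨a', ha', hae', has'⟩ := exists_factor_chart ((yon S).map o ≫ a) hoe (openSubι X W₀)
        (repWith_isOpenImmersion_openSubι hW₀) (by rw [hrange, range_map_openSubι hX hW₀])
      have has'' : RepWith @Surjective a' := has' (by rw [hrange, range_map_openSubι hX hW₀])
      refine locP_of_one_chart_F etLocalF_lci (openSubι X W₀ ≫ f) a' b (o ≫ k) hae' has'' hbe ?_ ?_
      · rw [← Category.assoc, ha', Category.assoc, comm, Functor.map_comp, Category.assoc]
      · rw [Over.comp_left]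
        intro x'
        exact koszulAt_openImm_comp o.left k.left x' ((mem_kset_iff k.left _).1 x'.2)

/-- **Base change of chart diagrams.** -/
theorem chart_baseChange {X Y Y' X' : Sp S} {f : X ⟶ Y} {gY : Y' ⟶ Y} {gX : X' ⟶ X}
    {f' : X' ⟶ Y'} (sq : IsPullback gX f' f gY)
    {V V' U : Over S} (b : (yon S).obj V ⟶ Y) (b' : (yon S).obj V' ⟶ Y') (π : V' ⟶ V)
    (hb : b' ≫ gY = (yon S).map π ≫ b)
    (uX : (yon S).obj U ⟶ pullback f b) (k : U ⟶ V)
    (hk : (yon S).map k = uX ≫ pullback.snd f b) :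
    ∃ a' : (yon S).obj (pullback k π) ⟶ X',
      a' ≫ gX = (yon S).map (pullback.fst k π) ≫ uX ≫ pullback.fst f b ∧
      a' ≫ f' = (yon S).map (pullback.snd k π) ≫ b' ∧
      ∀ (Q : MorphismProperty Scheme.{u}) [Q.IsStableUnderBaseChange] [Q.IsMultiplicative],
        RepWith Q uX → RepWith Q b' → RepWith Q a' := by
  have sqA := IsPullback.of_hasPullback f' b'
  have big : IsPullback (pullback.fst f' b' ≫ gX) (pullback.snd f' b') f ((yon S).map π ≫ b) := by
    rw [← hb]
    exact sqA.paste_horiz sq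
  have sqB := IsPullback.of_hasPullback f b
  let n' : pullback f' b' ⟶ pullback f b :=
    sqB.lift (pullback.fst f' b' ≫ gX) (pullback.snd f' b' ≫ (yon S).map π)
      (by rw [Category.assoc]; exact big.w)
  have hn1 : n' ≫ pullback.fst f b = pullback.fst f' b' ≫ gX := sqB.lift_fst _ _ _
  have hn2 : n' ≫ pullback.snd f b = pullback.snd f' b' ≫ (yon S).map π := sqB.lift_snd _ _ _
  have sqN : IsPullback n' (pullback.snd f' b') (pullback.snd f b) ((yon S).map π) :=
    IsPullback.of_right (by rw [hn1]; exact big) hn2 sqB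
  have sqO := IsPullback.of_hasPullback k π
  have sqC : IsPullback ((yon S).map (pullback.fst k π)) ((yon S).map (pullback.snd k π))
      ((yon S).map k) ((yon S).map π) := sqO.map (yon S)
  let m' : (yon S).obj (pullback k π) ⟶ pullback f' b' :=
    sqN.lift ((yon S).map (pullback.fst k π) ≫ uX) ((yon S).map (pullback.snd k π))
      (by rw [Category.assoc, ← hk]; exact sqC.w)
  have hm1 : m' ≫ n' = (yon S).map (pullback.fst k π) ≫ uX := sqN.lift_fst _ _ _
  have hm2 : m' ≫ pullback.snd f' b' = (yon S).map (pullback.snd k π) := sqN.lift_snd _ _ _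
  have sqM : IsPullback m' ((yon S).map (pullback.fst k π)) n' uX :=
    IsPullback.of_right (by rw [hm2, ← hk]; exact sqC.flip) hm1 sqN.flip
  refine ⟨m' ≫ pullback.fst f' b', ?_, ?_, ?_⟩
  · rw [Category.assoc, ← hn1, ← Category.assoc, hm1, Category.assoc]
  · rw [Category.assoc, sqA.w, ← Category.assoc, hm2]
  · intro Q _ _ hu hb'
    exact repWith_comp Q (repWith_fst_of_isPullback Q sqM hu) (repWith_fst_of_isPullback Q sqA hb')

/-- **S10668**: the Koszul locus commutes with arbitrary base change (flat, finitely presented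
case) for algebraic spaces. -/
theorem main10668 {X Y Z : AlgSp.Space S} (f : X ⟶ Y) (p : X ⟶ Z) (q : Y ⟶ Z)
    (hc : f ≫ q = p)
    (hp1 : AlgSp.LocP @Flat p.hom) (hp2 : AlgSp.LocP @LocallyOfFinitePresentation p.hom)
    (hq1 : AlgSp.LocP @Flat q.hom) (hq2 : AlgSp.LocP @LocallyOfFinitePresentation q.hom)
    {Z' Y' X' : AlgSp.Space S} (g : Z' ⟶ Z) (gY : Y' ⟶ Y) (q' : Y' ⟶ Z')
    (hY : IsPullback gY.hom q'.hom q.hom g.hom)
    (gX : X' ⟶ X) (f' : X' ⟶ Y') (hX : IsPullback gX.hom f'.hom f.hom gY.hom) :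
    {x' | AlgSp.LocPNear AlgSp.lci f'.hom x'} =
      AlgSp.Points.map gX.hom ⁻¹' {x | AlgSp.LocPNear AlgSp.lci f.hom x} := by
  have hc' : f.hom ≫ q.hom = p.hom := by rw [← hc]; rfl
  obtain ⟨VZ, c, hce, hcs⟩ := Z.property.atlas
  -- charts of `Y ×_Z V_Z`
  have sqYV := IsPullback.of_hasPullback q.hom c
  have hYV : IsAlgSpace (pullback q.hom c) :=
    isAlgSpace_of_isPullback Z.property.diag Y.property (IsAlgSpace.yon_obj VZ) sqYV
  obtain ⟨VY, vY, hvYe, hvYs⟩ := hYV.atlas
  obtain ⟨r, hr⟩ := (yon S).map_surjective (vY ≫ pullback.snd q.hom c)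
  -- charts of `Z' ×_Z V_Z`
  have sqZV := IsPullback.of_hasPullback g.hom c
  have hZV : IsAlgSpace (pullback g.hom c) :=
    isAlgSpace_of_isPullback Z.property.diag Z'.property (IsAlgSpace.yon_obj VZ) sqZV
  obtain ⟨VZ', vZ', hvZe, hvZs⟩ := hZV.atlas
  obtain ⟨s, hs⟩ := (yon S).map_surjective (vZ' ≫ pullback.snd g.hom c)
  have hc'e : RepWith @Etale (vZ' ≫ pullback.fst g.hom c) :=
    repWith_comp _ hvZe (repWith_fst_of_isPullback _ sqZV hce)
  have hc's : RepWith @Surjective (vZ' ≫ pullback.fst g.hom c) :=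
    repWith_comp _ hvZs (repWith_fst_of_isPullback _ sqZV hcs)
  have hc'g : (vZ' ≫ pullback.fst g.hom c) ≫ g.hom = (yon S).map s ≫ c := by
    rw [hs, Category.assoc, Category.assoc, pullback.condition]
  -- the chart of `Y'`
  obtain ⟨b', hb'1, hb'2, hb'Q⟩ :=
    chart_baseChange hY c (vZ' ≫ pullback.fst g.hom c) s hc'g vY r hr
  have hbe : RepWith @Etale (vY ≫ pullback.fst q.hom c) :=
    repWith_comp _ hvYe (repWith_fst_of_isPullback _ sqYV hce)
  have hb'e : RepWith @Etale b' := hb'Q @Etale hvYe hc'e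
  have hb's : RepWith @Surjective b' := hb'Q @Surjective hvYs hc's
  -- charts of `X ×_Y V_Y`
  have sqXb := IsPullback.of_hasPullback f.hom (vY ≫ pullback.fst q.hom c)
  have hXb : IsAlgSpace (pullback f.hom (vY ≫ pullback.fst q.hom c)) :=
    isAlgSpace_of_isPullback Y.property.diag X.property (IsAlgSpace.yon_obj VY) sqXb
  obtain ⟨U, uX, huXe, huXs⟩ := hXb.atlas
  obtain ⟨k, hk⟩ := (yon S).map_surjective (uX ≫ pullback.snd f.hom (vY ≫ pullback.fst q.hom c))
  obtain ⟨a', ha'1, ha'2, ha'Q⟩ :=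
    chart_baseChange hX (vY ≫ pullback.fst q.hom c) b' (pullback.fst r s) hb'1 uX k hk
  have hae : RepWith @Etale (uX ≫ pullback.fst f.hom (vY ≫ pullback.fst q.hom c)) :=
    repWith_comp _ huXe (repWith_fst_of_isPullback _ sqXb hbe)
  have ha'e : RepWith @Etale a' := ha'Q @Etale huXe hb'e
  have ha's : RepWith @Surjective a' := ha'Q @Surjective huXs hb's
  have hcomm : (uX ≫ pullback.fst f.hom (vY ≫ pullback.fst q.hom c)) ≫ f.hom =
      (yon S).map k ≫ vY ≫ pullback.fst q.hom c := by
    rw [hk, Category.assoc, Category.assoc, pullback.condition]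
  have hbq : (vY ≫ pullback.fst q.hom c) ≫ q.hom = (yon S).map r ≫ c := by
    rw [hr, Category.assoc, Category.assoc, pullback.condition]
  have hap : (uX ≫ pullback.fst f.hom (vY ≫ pullback.fst q.hom c)) ≫ p.hom =
      (yon S).map (k ≫ r) ≫ c := by
    rw [← hc', ← Category.assoc, hcomm, Category.assoc, hbq, Functor.map_comp, Category.assoc]
  haveI : Flat r.left := hq1 _ c r hbe hce hbq
  haveI : LocallyOfFinitePresentation r.left := hq2 _ c r hbe hce hbq
  haveI : Flat (k.left ≫ r.left) := by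
    have := hp1 _ c (k ≫ r) hae hce hap
    rwa [Over.comp_left] at this
  haveI : LocallyOfFinitePresentation (k.left ≫ r.left) := by
    have := hp2 _ c (k ≫ r) hae hce hap
    rwa [Over.comp_left] at this
  have sq1 : IsPullback (pullback.fst r s).left (pullback.snd r s).left r.left s.left :=
    (IsPullback.of_hasPullback r s).map (Over.forget S)
  have sq2 : IsPullback (pullback.fst k (pullback.fst r s)).left
      (pullback.snd k (pullback.fst r s)).left k.left (pullback.fst r s).left :=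
    (IsPullback.of_hasPullback k (pullback.fst r s)).map (Over.forget S)
  have sq3 := sq2.paste_vert sq1
  ext x'
  obtain ⟨u', rfl⟩ := ofPt_surjective a' ha's x'
  simp only [Set.mem_setOf_eq, Set.mem_preimage]
  rw [locPNear_lci_iff_chart X'.property f'.hom a' b' _ ha'e hb'e ha'2 u',
    Points.map_ofPt, ha'1, ofPt_comp,
    locPNear_lci_iff_chart X.property f.hom _ _ k hae hbe hcomm]
  exact koszulAt_iff_baseChange k.left r.left s.left (pullback.fst r s).left
    (pullback.snd r s).left sq1 (pullback.fst k (pullback.fst r s)).left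
    (pullback.snd k (pullback.fst r s)).left sq3 sq2.w u'

end Groth.Agent.Lib.AlgSpLci
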