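import Groth.Agent.Lib.AlgSpLci3_helper2
import Groth.Agent.Lib.AlgSpGlue4_helper7
import Groth.Agent.Lib.AlgSpOpen_helper7

/-!
# The locus of the base where a morphism of flat finitely presented algebraic spaces is lci
(S10645) (helper2)
-/

set_option autoImplicit false
universe u
open CategoryTheory CategoryTheory.Limits AlgebraicGeometry Opposite MorphismProperty
open AlgSp Groth.Agent.Lib.AlgSpQC2_helper7 Groth.Agent.Lib.AlgSpPoints_helper7
  Groth.Agent.Lib.AlgSpQC_helper7 Groth.Agent.Lib.AlgSpDiag_helper7 Groth.Agent.Lib.AlgSpTop_helper7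
  Groth.Agent.Lib.AlgSpPullback_helper7 Groth.Agent.Lib.AlgSpSep_helper7
  Groth.Agent.Lib.AlgSpLocP_helper7 Groth.Agent.Lib.AlgSpUniv_helper7
  Groth.Agent.Lib.AlgSpFpqc_helper7 Groth.Agent.Lib.AlgSpFpqc2_helper7
  Groth.Agent.Lib.AlgSpDescent_helper7 Groth.Agent.Lib.AlgSpEtale_helper7
  Groth.Agent.Lib.AlgSpLocP2_helper7 Groth.Agent.Lib.AlgSpEpi_helper7
  Groth.Agent.Lib.SchSrcLocal_helper7 Groth.Agent.Lib.AlgSpLocP4_helper7
  Groth.Agent.Lib.AlgSpLocP5_helper7 Groth.Agent.Lib.AlgSpLocP6_helper7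
  Groth.Agent.Lib.AlgSpOpenSub_helper7 Groth.Agent.Lib.FibKoszulSch
  Groth.Agent.Lib.AlgSpGlue4H7 Groth.Agent.Lib.AlgSpOpen_helper7 Groth.Agent.Lib.AlgSpBasic_helper7

namespace Groth.Agent.Lib.AlgSpLci

variable {S : Scheme.{u}}

theorem isOpen_koszulLocus {X Y : Sp S} (f : X ⟶ Y) :
    IsOpen {x | LocPNear AlgSp.lci f x} := by
  rw [isOpen_iff_forall_mem_open]
  rintro x ⟨W, j, hj, hx, hL⟩
  exact ⟨Set.range (Points.map j), fun y hy => ⟨W, j, hj, hy, hL⟩,
    isOpen_range_map_of_openImmersion j hj, hx⟩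

theorem locP_lci_iff_forall_near {X Y : Sp S} (hX : IsAlgSpace X) (f : X ⟶ Y) :
    LocP AlgSp.lci f ↔ ∀ x, LocPNear AlgSp.lci f x := by
  constructor
  · intro h x
    refine ⟨X, 𝟙 X, repWith_of_isIso @IsOpenImmersion (𝟙 X), ⟨x, Points.map_id x⟩, ?_⟩
    rwa [Category.id_comp]
  · intro h U V a b k hae hbe comm u
    exact (locPNear_lci_iff_chart hX f a b k hae hbe comm u).1 (h _)

/-- **S10645**. -/
theorem main10645 {X Y Z : AlgSp.Space S}
    (f : X ⟶ Y) (p : X ⟶ Z) (q : Y ⟶ Z) (hc : f ≫ q = p)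
    (hp1 : AlgSp.LocP @Flat p.hom) (hp2 : AlgSp.LocP @LocallyOfFinitePresentation p.hom)
    (hp3 : AlgSp.IsClosedMor p.hom) (hq1 : AlgSp.LocP @Flat q.hom)
    (hq2 : AlgSp.LocP @LocallyOfFinitePresentation q.hom) :
    ∃ (W : AlgSp.Space S) (w : W ⟶ Z), AlgSp.RepWith @IsOpenImmersion w.hom ∧
      ∀ (Z' : AlgSp.Space S) (g : Z' ⟶ Z),
        (∃ k : Z' ⟶ W, k ≫ w = g) ↔
          ∀ (Y' : AlgSp.Space S) (gY : Y' ⟶ Y) (q' : Y' ⟶ Z'),
            IsPullback gY.hom q'.hom q.hom g.hom →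
            ∀ (X' : AlgSp.Space S) (gX : X' ⟶ X) (f' : X' ⟶ Y'),
              IsPullback gX.hom f'.hom f.hom gY.hom →
                AlgSp.IsLCIMor f'.hom := by
  have hc' : f.hom ≫ q.hom = p.hom := by rw [← hc]; rfl
  have hK : IsOpen {x | LocPNear AlgSp.lci f.hom x} := isOpen_koszulLocus f.hom
  have hC : IsClosed (Points.map p.hom '' {x | LocPNear AlgSp.lci f.hom x}ᶜ) :=
    hp3 _ (isClosed_compl_iff.2 hK)
  obtain ⟨W, w, hw, hrw⟩ := exists_openSubspace Z
    (Points.map p.hom '' {x | LocPNear AlgSp.lci f.hom x}ᶜ)ᶜ (isOpen_compl_iff.2 hC)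
  refine ⟨W, w, hw, fun Z' g => ?_⟩
  have hfac : (∃ k : Z' ⟶ W, k ≫ w = g) ↔
      Set.range (Points.map g.hom) ⊆ (Points.map p.hom '' {x | LocPNear AlgSp.lci f.hom x}ᶜ)ᶜ := by
    rw [← hrw, ← factors_iff_of_openImmersion w.hom hw g.hom]
    constructor
    · rintro ⟨k, rfl⟩
      exact ⟨k.hom, rfl⟩
    · rintro ⟨k₀, hk₀⟩
      exact ⟨ObjectProperty.homMk k₀, by ext : 1; exact hk₀⟩
  rw [hfac]
  constructor
  · intro hsub Y' gY q' hY X' gX f' hX
    show LocP AlgSp.lci f'.hom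
    rw [locP_lci_iff_forall_near X'.property]
    intro x'
    have hmain := main10668 f p q hc hp1 hp2 hq1 hq2 g gY q' hY gX f' hX
    have hx' : x' ∈ {x' | LocPNear AlgSp.lci f'.hom x'} := by
      rw [hmain]
      show LocPNear AlgSp.lci f.hom (Points.map gX.hom x')
      by_contra hnot
      have h1 : Points.map p.hom (Points.map gX.hom x') ∈
          Points.map p.hom '' {x | LocPNear AlgSp.lci f.hom x}ᶜ := ⟨_, hnot, rfl⟩
      have h2 : Points.map p.hom (Points.map gX.hom x') =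
          Points.map g.hom (Points.map q'.hom (Points.map f'.hom x')) := by
        rw [← hc', ← Points.map_comp, ← Points.map_comp, ← Points.map_comp,
          ← Category.assoc, hX.w, Category.assoc, hY.w]
      rw [h2] at h1
      exact hsub ⟨_, rfl⟩ h1
    exact hx'
  · intro H
    rintro _ ⟨z', rfl⟩ ⟨x, hx, hpx⟩
    have sqY : IsPullback (pullback.fst q g).hom (pullback.snd q g).hom q.hom g.hom :=
      isPullback_hom_of_space (IsPullback.of_hasPullback q g)
    have sqX : IsPullback (pullback.fst f (pullback.fst q g)).hom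
        (pullback.snd f (pullback.fst q g)).hom f.hom (pullback.fst q g).hom :=
      isPullback_hom_of_space (IsPullback.of_hasPullback f (pullback.fst q g))
    have hL := H _ _ _ sqY _ _ _ sqX
    have hmain := main10668 f p q hc hp1 hp2 hq1 hq2 g _ _ sqY _ _ sqX
    have hall := (locP_lci_iff_forall_near (ObjectProperty.FullSubcategory.property _) _).1 hL
    have big := sqX.paste_vert sqY
    rw [hc'] at big
    obtain ⟨x', hx'1, -⟩ := exists_of_isPullback big x z' hpx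
    have h3 : x' ∈ {x' | LocPNear AlgSp.lci (pullback.snd f (pullback.fst q g)).hom x'} := hall x'
    rw [hmain] at h3
    have h4 : LocPNear AlgSp.lci f.hom (Points.map (pullback.fst f (pullback.fst q g)).hom x') := h3
    rw [hx'1] at h4
    exact hx h4

end Groth.Agent.Lib.AlgSpLci
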