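import Groth.Agent.Lib.SchSrcLocal2_helper7
import Mathlib.RingTheory.Etale.StandardEtale
import Mathlib.Algebra.Polynomial.Lifts
import Mathlib.RingTheory.Etale.Kaehler
import Mathlib.RingTheory.Etale.Descent
import Mathlib.RingTheory.Etale.Locus
import Mathlib.RingTheory.Smooth.Basic
import Mathlib.RingTheory.Smooth.Flat
import Mathlib.RingTheory.Smooth.Locus
import Mathlib.RingTheory.Unramified.LocalStructure
import Mathlib.RingTheory.Spectrum.Prime.FreeLocus
import Mathlib.RingTheory.Support
import Mathlib.RingTheory.RingHom.Smooth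
import Mathlib.RingTheory.RingHom.Etale
import Mathlib.AlgebraicGeometry.Morphisms.Smooth
import Mathlib.AlgebraicGeometry.Morphisms.Etale

/-!
# Smoothness is étale local on the source (helper7)

* `exists_etale_lift` : a standard étale algebra over a quotient `A = P/I` lifts to an étale
  `P`-algebra.
* `subsingleton_tensor_h1Cotangent_of_isStandardEtale` : `B ⊗ H¹(L_{A/R}) = 0` if `H¹(L_{B/R}) = 0`
  for `B` standard étale over `A`.
* `comap_mem_smoothLocus_of_etale` : if `A → B` is étale and `R → B` smooth then `R → A` is smooth at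
  the image of every prime of `B`.
* `smooth_of_comp_etale_surjective` : the scheme version.
-/

set_option autoImplicit false
set_option linter.style.haveILetI false
universe u v
open CategoryTheory CategoryTheory.Limits AlgebraicGeometry Opposite MorphismProperty TensorProduct
open Polynomial

namespace Groth.Agent.Lib.SchSmooth_helper7
open Groth.Agent.Lib.SchSrcLocal_helper7 Groth.Agent.Lib.SchSrcLocal2_helper7

/-- A standard étale algebra over a quotient `A` of `P` lifts to an étale algebra over `P`. -/
theorem exists_etale_lift {P A B : Type u} [CommRing P] [CommRing A] [CommRing B] [Algebra P A]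
    [Algebra A B] (hPA : Function.Surjective (algebraMap P A)) [Algebra.IsStandardEtale A B] :
    ∃ (P' : Type u) (_ : CommRing P') (_ : Algebra P P') (_ : Algebra.Etale P P'),
      Nonempty (A ⊗[P] P' ≃ₐ[A] B) := by
  have Q : StandardEtalePresentation A B :=
    Algebra.IsStandardEtale.nonempty_standardEtalePresentation.some
  obtain ⟨F, hF, -, hFm⟩ := Polynomial.lifts_and_natDegree_eq_and_monic
    (Polynomial.mem_lifts_of_surjective hPA Q.f) Q.monic_f
  obtain ⟨G, hG⟩ := Polynomial.map_surjective (algebraMap P A) hPA Q.g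
  let Qt : StandardEtalePair P := ⟨F, hFm, G * derivative F, ⟨G, 0, 1, by ring⟩⟩
  let Pr : StandardEtalePresentation P Qt.Ring :=
    ⟨Qt, Qt.X, Qt.hasMap_X, by simpa [StandardEtalePair.lift_X_left] using Function.bijective_id⟩
  let Pr' : StandardEtalePresentation A (A ⊗[P] Qt.Ring) := Pr.baseChange
  have hf' : Pr'.f = Q.f := hF
  have hg' : Pr'.g = Q.g * derivative Q.f := by
    show (G * derivative F).map (algebraMap P A) = _
    rw [Polynomial.map_mul, hG, ← Polynomial.derivative_map, hF]
  -- the two maps
  have h1 : Q.P.HasMap Pr'.x := by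
    have h := Pr'.hasMap
    refine ⟨by rw [← hf']; exact h.1, ?_⟩
    have h2 := h.2
    rw [hg', map_mul] at h2
    exact isUnit_of_mul_isUnit_left h2
  have h2 : Pr'.P.HasMap Q.x := by
    refine ⟨by rw [hf']; exact Q.hasMap.1, ?_⟩
    rw [hg', map_mul]
    exact Q.hasMap.2.mul Q.hasMap.isUnit_derivative_f
  let α : B →ₐ[A] A ⊗[P] Qt.Ring := (Q.P.lift Pr'.x h1).comp Q.equivRing.toAlgHom
  let β : A ⊗[P] Qt.Ring →ₐ[A] B := (Pr'.P.lift Q.x h2).comp Pr'.equivRing.toAlgHom
  have hα : α Q.x = Pr'.x := by
    show Q.P.lift Pr'.x h1 (Q.equivRing Q.x) = _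
    rw [Q.equivRing_x, StandardEtalePair.lift_X]
  have hβ : β Pr'.x = Q.x := by
    show Pr'.P.lift Q.x h2 (Pr'.equivRing Pr'.x) = _
    rw [Pr'.equivRing_x, StandardEtalePair.lift_X]
  have h12 : β.comp α = AlgHom.id A B := Q.hom_ext (by simp [hα, hβ])
  have h21 : α.comp β = AlgHom.id A _ := Pr'.hom_ext (by simp [hα, hβ])
  exact ⟨Qt.Ring, inferInstance, inferInstance, inferInstance, ⟨AlgEquiv.ofAlgHom β α h12 h21⟩⟩

/-- For a flat morphism of extensions, the kernel of the target is the base change of the kernel of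
the source as soon as it is generated by it. -/
theorem bijective_mapKer_liftBaseChange {R A B : Type u} [CommRing R] [CommRing A] [CommRing B]
    [Algebra R A] [Algebra R B] [Algebra A B] [IsScalarTower R A B]
    {Pe : Algebra.Extension.{u} R A} {Qe : Algebra.Extension.{u} R B} (f : Pe.Hom Qe)
    [alg : Algebra Pe.Ring Qe.Ring] (halg : algebraMap Pe.Ring Qe.Ring = f.toRingHom)
    [Module.Flat Pe.Ring Qe.Ring]
    (hker : ∀ x' ∈ Qe.ker, ∃ w : Qe.Ring ⊗[Pe.Ring] Pe.ker,
      TensorProduct.rid Pe.Ring Qe.Ring ((Submodule.subtype Pe.ker).lTensor Qe.Ring w) = x') :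
    Function.Bijective ((f.mapKer halg).liftBaseChange Qe.Ring) := by
  have key : ∀ z : Qe.Ring ⊗[Pe.Ring] Pe.ker,
      (((f.mapKer halg).liftBaseChange Qe.Ring z : Qe.ker) : Qe.Ring) =
        TensorProduct.rid Pe.Ring Qe.Ring ((Submodule.subtype Pe.ker).lTensor Qe.Ring z) := by
    intro z
    induction z with
    | zero => simp
    | tmul x y =>
      simp only [LinearMap.liftBaseChange_tmul, LinearMap.lTensor_tmul, Submodule.subtype_apply,
        TensorProduct.rid_tmul, Submodule.coe_smul, Algebra.Extension.Hom.mapKer_apply_coe,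
        smul_eq_mul]
      rw [Algebra.smul_def, halg, mul_comm]
    | add a b ha hb => simp only [map_add, Submodule.coe_add, ha, hb]
  constructor
  · intro a b hab
    have h1 : Function.Injective ((Submodule.subtype Pe.ker).lTensor Qe.Ring) :=
      Module.Flat.lTensor_preserves_injective_linearMap _ (Submodule.subtype_injective _)
    apply h1
    apply (TensorProduct.rid Pe.Ring Qe.Ring).injective
    rw [← key a, ← key b, hab]
  · rintro ⟨x', hx'⟩
    obtain ⟨w, hw⟩ := hker x' hx'
    exact ⟨w, Subtype.ext ((key w).trans hw)⟩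

theorem subsingleton_tensor_h1Cotangent_of_etale_lift (R P A B P' : Type u) [CommRing R]
    [CommRing P] [CommRing A] [CommRing B] [CommRing P']
    [Algebra R P] [Algebra R A] [Algebra P A] [IsScalarTower R P A]
    [Algebra A B] [Algebra R B] [IsScalarTower R A B]
    [Algebra P P'] [Algebra R P'] [IsScalarTower R P P']
    [Algebra P' B] [IsScalarTower R P' B]
    [Algebra P B] [IsScalarTower P A B] [IsScalarTower P P' B]
    [Algebra.FormallySmooth R P] [Algebra.FormallySmooth R P']
    [Algebra.FormallyEtale P P'] [Module.Flat P P'] [Module.Flat A B]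
    (hPA : Function.Surjective (algebraMap P A)) (hP'B : Function.Surjective (algebraMap P' B))
    (hker : ∀ x' : P', algebraMap P' B x' = 0 →
      ∃ w : P' ⊗[P] (RingHom.ker (algebraMap P A)),
        TensorProduct.rid P P'
          ((Submodule.subtype (RingHom.ker (algebraMap P A))).lTensor P' w) = x')
    [Subsingleton (Algebra.H1Cotangent R B)] :
    Subsingleton (B ⊗[A] Algebra.H1Cotangent R A) := by
  let Pe : Algebra.Extension.{u} R A := ⟨P, Function.surjInv hPA, Function.surjInv_eq hPA⟩
  let Qe : Algebra.Extension.{u} R B := ⟨P', Function.surjInv hP'B, Function.surjInv_eq hP'B⟩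
  let f : Pe.Hom Qe :=
    { toRingHom := algebraMap P P'
      toRingHom_algebraMap := fun x => (IsScalarTower.algebraMap_apply R P P' x).symm
      algebraMap_toRingHom := fun x => by
        show algebraMap P' B (algebraMap P P' x) = algebraMap A B (algebraMap P A x)
        rw [← IsScalarTower.algebraMap_apply, ← IsScalarTower.algebraMap_apply] }
  have H₁ : f.toRingHom.FormallyEtale := RingHom.formallyEtale_algebraMap.mpr inferInstance
  haveI : Module.Flat Pe.Ring Qe.Ring := ‹Module.Flat P P'›
  have H₂ : Function.Bijective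
      ((f.mapKer (alg := (inferInstance : Algebra P P')) rfl).liftBaseChange Qe.Ring) :=
    bijective_mapKer_liftBaseChange f (alg := (inferInstance : Algebra P P')) rfl
      (fun x' hx' => hker x' (RingHom.mem_ker.mp hx'))
  have e := Algebra.Extension.tensorH1CotangentOfFormallyEtale f
    (alg := (inferInstance : Algebra P P')) rfl H₁ H₂
  haveI : Algebra.FormallySmooth R Qe.Ring := ‹Algebra.FormallySmooth R P'›
  haveI : Algebra.FormallySmooth R Pe.Ring := ‹Algebra.FormallySmooth R P›
  have h1 : Subsingleton Qe.H1Cotangent := Qe.equivH1CotangentOfFormallySmooth.toEquiv.subsingleton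
  have h2 : Subsingleton (B ⊗[A] Pe.H1Cotangent) := e.toEquiv.subsingleton
  exact (TensorProduct.congr (LinearEquiv.refl A B)
    Pe.equivH1CotangentOfFormallySmooth).symm.toEquiv.subsingleton

theorem subsingleton_tensor_h1Cotangent_aux (R P A B : Type u) [CommRing R] [CommRing P]
    [CommRing A] [CommRing B] [Algebra R P] [Algebra R A] [Algebra P A] [IsScalarTower R P A]
    [Algebra A B] [Algebra R B] [IsScalarTower R A B] [Algebra.FormallySmooth R P]
    (hPA : Function.Surjective (algebraMap P A)) [Algebra.IsStandardEtale A B]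
    [Subsingleton (Algebra.H1Cotangent R B)] :
    Subsingleton (B ⊗[A] Algebra.H1Cotangent R A) := by
  obtain ⟨P', _, _, _, ⟨E⟩⟩ := exists_etale_lift (P := P) (A := A) (B := B) hPA
  letI : Algebra R P' := ((algebraMap P P').comp (algebraMap R P)).toAlgebra
  haveI : IsScalarTower R P P' := .of_algebraMap_eq' rfl
  let φ : P' →+* B := (E : A ⊗[P] P' →+* B).comp
    (Algebra.TensorProduct.includeRight : P' →ₐ[P] A ⊗[P] P').toRingHom
  letI : Algebra P' B := φ.toAlgebra
  letI : Algebra P B := ((algebraMap A B).comp (algebraMap P A)).toAlgebra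
  haveI : IsScalarTower P A B := .of_algebraMap_eq' rfl
  have hφ : ∀ x' : P', algebraMap P' B x' = E ((1 : A) ⊗ₜ[P] x') := fun _ => rfl
  have hkey : ∀ p : P, (1 : A) ⊗ₜ[P] (algebraMap P P' p) = (algebraMap P A p) ⊗ₜ[P] (1 : P') := by
    intro p
    rw [Algebra.algebraMap_eq_smul_one (A := P'), TensorProduct.tmul_smul,
      TensorProduct.smul_tmul', ← Algebra.algebraMap_eq_smul_one]
  have hPB : ∀ p : P, algebraMap P' B (algebraMap P P' p) = algebraMap A B (algebraMap P A p) := by
    intro p
    rw [hφ, hkey]
    have := E.commutes (algebraMap P A p)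
    rw [Algebra.TensorProduct.algebraMap_apply, Algebra.algebraMap_self, RingHom.id_apply] at this
    exact this
  haveI : IsScalarTower R P' B := .of_algebraMap_eq fun r => by
    rw [IsScalarTower.algebraMap_apply R A B, IsScalarTower.algebraMap_apply R P A,
      IsScalarTower.algebraMap_apply R P P', hPB]
  haveI : IsScalarTower P P' B := .of_algebraMap_eq fun p => (hPB p).symm
  haveI : Algebra.FormallySmooth R P' := Algebra.FormallySmooth.comp R P P'
  haveI : Module.Flat P P' := inferInstance
  haveI : Module.Flat A B := inferInstance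
  have hP'B : Function.Surjective (algebraMap P' B) := by
    intro b
    obtain ⟨t, ht⟩ := E.surjective b
    obtain ⟨x', hx'⟩ := Algebra.TensorProduct.includeRight_surjective (R := P) (S := A) P' hPA t
    refine ⟨x', ?_⟩
    rw [hφ, ← ht, ← hx']
    rfl
  have hker : ∀ x' : P', algebraMap P' B x' = 0 →
      ∃ w : P' ⊗[P] (RingHom.ker (algebraMap P A)),
        TensorProduct.rid P P'
          ((Submodule.subtype (RingHom.ker (algebraMap P A))).lTensor P' w) = x' := by
    intro x' hx'
    have h1 : (1 : A) ⊗ₜ[P] x' = 0 := by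
      apply E.injective
      rw [map_zero]
      exact hx'
    have h2 : x' ⊗ₜ[P] (1 : A) = 0 := by
      have := congrArg (TensorProduct.comm P A P') h1
      simpa using this
    have hex : Function.Exact (Submodule.subtype (RingHom.ker (algebraMap P A)))
        (Algebra.linearMap P A) := by
      intro y
      constructor
      · intro hy
        exact ⟨⟨y, RingHom.mem_ker.mpr hy⟩, rfl⟩
      · rintro ⟨z, rfl⟩
        exact (RingHom.mem_ker (f := algebraMap P A)).mp z.2
    have hex' := lTensor_exact P' hex (show Function.Surjective (Algebra.linearMap P A) from hPA)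
    obtain ⟨w, hw⟩ := (hex' (x' ⊗ₜ[P] (1 : P))).mp (by
      rw [LinearMap.lTensor_tmul]
      have h11 : (Algebra.linearMap P A) 1 = 1 := map_one (algebraMap P A)
      rw [h11]
      exact h2)
    refine ⟨w, ?_⟩
    rw [hw, TensorProduct.rid_tmul, one_smul]
  exact subsingleton_tensor_h1Cotangent_of_etale_lift R P A B P' hPA hP'B hker

/-- If `B` is standard étale over `A` and `H¹(L_{B/R}) = 0`, then `B ⊗_A H¹(L_{A/R}) = 0`. -/
theorem subsingleton_tensor_h1Cotangent_of_isStandardEtale (R A B : Type u) [CommRing R]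
    [CommRing A] [CommRing B] [Algebra R A] [Algebra A B] [Algebra R B] [IsScalarTower R A B]
    [Algebra.IsStandardEtale A B] [Subsingleton (Algebra.H1Cotangent R B)] :
    Subsingleton (B ⊗[A] Algebra.H1Cotangent R A) := by
  haveI : Algebra.FormallySmooth R (Algebra.Generators.self R A).toExtension.Ring :=
    inferInstanceAs (Algebra.FormallySmooth R (MvPolynomial A R))
  exact subsingleton_tensor_h1Cotangent_aux R (Algebra.Generators.self R A).toExtension.Ring A B
    (Algebra.Extension.algebraMap_surjective _)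

set_option backward.isDefEq.respectTransparency false in
/-- Descent of vanishing and of local freeness along a flat ring map, at a prime in the image. -/
theorem tensor_descent_at_prime {A B : Type u} [CommRing A] [CommRing B] [Algebra A B]
    [Module.Flat A B] (M : Type v) [AddCommGroup M] [Module A M] (q : PrimeSpectrum B) :
    (Subsingleton (B ⊗[A] M) →
      PrimeSpectrum.comap (algebraMap A B) q ∉ Module.support A M) ∧
    (Module.Finite A M → Module.Flat B (B ⊗[A] M) →
      PrimeSpectrum.comap (algebraMap A B) q ∈ Module.freeLocus A M) := by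
  let Ap := Localization.AtPrime (PrimeSpectrum.comap (algebraMap A B) q).asIdeal
  let Bq := Localization.AtPrime q.asIdeal
  letI algebra : Algebra Ap Bq := (Localization.localRingHom
    (PrimeSpectrum.comap (algebraMap A B) q).asIdeal q.asIdeal (algebraMap A B) rfl).toAlgebra
  haveI : IsScalarTower A Ap Bq := IsScalarTower.of_algebraMap_eq'
    (by simp [Ap, Bq, algebra, RingHom.algebraMap_toAlgebra, Localization.localRingHom,
        ← IsScalarTower.algebraMap_eq])
  haveI : Module.Flat Ap Bq := by
    rw [Module.flat_iff_of_isLocalization Ap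
      (PrimeSpectrum.comap (algebraMap A B) q).asIdeal.primeCompl]
    exact Module.Flat.trans A B Bq
  haveI : IsLocalHom (algebraMap Ap Bq) := by
    rw [RingHom.algebraMap_toAlgebra]
    exact Localization.isLocalHom_localRingHom _ _ _ rfl
  haveI : Module.FaithfullyFlat Ap Bq := Module.FaithfullyFlat.of_flat_of_isLocalHom
  let e : Bq ⊗[Ap] (Ap ⊗[A] M) ≃ₗ[Bq] Bq ⊗[B] (B ⊗[A] M) :=
    TensorProduct.AlgebraTensorModule.cancelBaseChange A Ap Bq Bq M ≪≫ₗ
      (TensorProduct.AlgebraTensorModule.cancelBaseChange A B Bq Bq M).symm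
  constructor
  · intro hsub
    haveI : Subsingleton (Bq ⊗[B] (B ⊗[A] M)) := inferInstance
    haveI : Subsingleton (Bq ⊗[Ap] (Ap ⊗[A] M)) := e.toEquiv.subsingleton
    haveI : Subsingleton (Ap ⊗[A] M) :=
      Module.FaithfullyFlat.lTensor_reflects_triviality Ap Bq _
    rw [Module.notMem_support_iff]
    exact (IsLocalizedModule.iso (PrimeSpectrum.comap (algebraMap A B) q).asIdeal.primeCompl
      (TensorProduct.mk A Ap M 1)).toEquiv.subsingleton
  · intro hfin hflat
    haveI : Module.Flat Bq (Bq ⊗[B] (B ⊗[A] M)) := inferInstance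
    haveI : Module.Flat Bq (Bq ⊗[Ap] (Ap ⊗[A] M)) := .of_linearEquiv e
    haveI : Module.Flat Ap (Ap ⊗[A] M) := Module.Flat.of_flat_tensorProduct Ap _ Bq
    haveI : Module.Finite Ap (Ap ⊗[A] M) := inferInstance
    rw [Module.mem_freeLocus_iff_tensor _ Ap]
    exact Module.free_of_flat_of_isLocalRing

theorem comap_mem_smoothLocus_of_isStandardEtale (R A B : Type u) [CommRing R] [CommRing A]
    [CommRing B] [Algebra R A] [Algebra A B] [Algebra R B] [IsScalarTower R A B]
    [Algebra.FinitePresentation R A] [Algebra.IsStandardEtale A B] [Algebra.FormallySmooth R B]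
    (q : PrimeSpectrum B) :
    PrimeSpectrum.comap (algebraMap A B) q ∈ Algebra.smoothLocus R A := by
  haveI : Module.Flat A B := inferInstance
  rw [Algebra.smoothLocus_eq_compl_support_inter]
  refine ⟨?_, ?_⟩
  · haveI := subsingleton_tensor_h1Cotangent_of_isStandardEtale R A B
    exact (tensor_descent_at_prime (Algebra.H1Cotangent R A) q).1 inferInstance
  · haveI : Module.Flat B (B ⊗[A] Ω[A⁄R]) :=
      .of_linearEquiv (KaehlerDifferential.tensorKaehlerEquivOfFormallyEtale R A B)
    exact (tensor_descent_at_prime (Ω[A⁄R]) q).2 inferInstance inferInstance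

/-- If `A → B` is étale and `R → B` is formally smooth, then `R → A` is smooth at the image of every
prime of `B`. -/
theorem comap_mem_smoothLocus_of_etale (R A B : Type u) [CommRing R] [CommRing A] [CommRing B]
    [Algebra R A] [Algebra A B] [Algebra R B] [IsScalarTower R A B]
    [Algebra.FinitePresentation R A] [Algebra.Etale A B] [Algebra.FormallySmooth R B]
    (q : PrimeSpectrum B) :
    PrimeSpectrum.comap (algebraMap A B) q ∈ Algebra.smoothLocus R A := by
  haveI : Algebra.FormallyEtale B (Localization.AtPrime q.asIdeal) :=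
    Algebra.FormallyEtale.of_isLocalization q.asIdeal.primeCompl
  haveI : Algebra.IsEtaleAt A q.asIdeal :=
    Algebra.FormallyEtale.comp A B (Localization.AtPrime q.asIdeal)
  obtain ⟨g, hgq, hstd⟩ := Algebra.IsEtaleAt.exists_isStandardEtale (R := A) q.asIdeal
  haveI := hstd
  haveI : Algebra.FormallySmooth B (Localization.Away g) :=
    Algebra.FormallySmooth.of_isLocalization (Submonoid.powers g)
  haveI : Algebra.FormallySmooth R (Localization.Away g) :=
    Algebra.FormallySmooth.comp R B (Localization.Away g)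
  haveI : IsScalarTower R A (Localization.Away g) := IsScalarTower.of_algebraMap_eq' (by
    rw [IsScalarTower.algebraMap_eq R B (Localization.Away g),
      IsScalarTower.algebraMap_eq A B (Localization.Away g), RingHom.comp_assoc,
      ← IsScalarTower.algebraMap_eq R A B])
  obtain ⟨q', hq'⟩ : q ∈ Set.range
      (PrimeSpectrum.comap (algebraMap B (Localization.Away g))) := by
    rw [PrimeSpectrum.localization_away_comap_range (Localization.Away g) g]
    exact hgq
  have key := comap_mem_smoothLocus_of_isStandardEtale R A (Localization.Away g) q'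
  rw [IsScalarTower.algebraMap_eq A B (Localization.Away g), PrimeSpectrum.comap_comp_apply,
    hq'] at key
  exact key

theorem exists_smooth_away {R A B : Type u} [CommRing R] [CommRing A] [CommRing B] (f : R →+* A)
    (g : A →+* B) (hf : f.FinitePresentation) (hg : g.Etale) (hfg : (g.comp f).Smooth)
    (y : PrimeSpectrum B) :
    ∃ a : A, a ∉ (PrimeSpectrum.comap g y).asIdeal ∧
      ∀ (A' : Type u) [CommRing A'] [Algebra A A'] [IsLocalization.Away a A'],
        ((algebraMap A A').comp f).Smooth := by
  algebraize [f, g, g.comp f]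
  have hmem := comap_mem_smoothLocus_of_etale R A B y
  haveI : Algebra.IsSmoothAt R (PrimeSpectrum.comap (algebraMap A B) y).asIdeal := hmem
  obtain ⟨a, ha, hsm⟩ := Algebra.IsSmoothAt.exists_notMem_smooth R
    (PrimeSpectrum.comap (algebraMap A B) y).asIdeal
  refine ⟨a, ha, ?_⟩
  intro A' _ _ _
  let e : Localization.Away a ≃ₐ[A] A' := IsLocalization.algEquiv (Submonoid.powers a) _ _
  have h1 : (algebraMap R (Localization.Away a)).Smooth := RingHom.smooth_algebraMap.mpr hsm
  have h2 : (e.toAlgHom.toRingHom).Smooth := RingHom.Smooth.of_bijective e.bijective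
  have h3 := h1.comp h2
  have heq : (algebraMap A A').comp f =
      (e.toAlgHom.toRingHom).comp (algebraMap R (Localization.Away a)) := by
    ext r
    show algebraMap A A' (algebraMap R A r) = e (algebraMap R (Localization.Away a) r)
    rw [IsScalarTower.algebraMap_apply R A (Localization.Away a), e.commutes]
  rw [heq]
  exact h3

/-- Smoothness is étale local on the source. -/
theorem smooth_of_comp_etale_surjective {W U V : Scheme.{u}} (c : W ⟶ U) (h : U ⟶ V)
    [Etale c] [Surjective c] [Smooth (c ≫ h)] : Smooth h := by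
  haveI : LocallyOfFinitePresentation (c ≫ h) := inferInstance
  haveI : LocallyOfFinitePresentation h :=
    locallyOfFinitePresentation_of_comp_smooth_surjective c h
  rw [HasRingHomProperty.iff_exists_appLE (P := @Smooth)
    (RingHom.Smooth.stableUnderComposition.stableUnderCompositionWithLocalizationAway
      RingHom.Smooth.holdsForLocalizationAway).1]
  intro u
  obtain ⟨w, rfl⟩ := c.surjective u
  obtain ⟨V₀, hV₀, hv, -⟩ := TopologicalSpace.Opens.isBasis_iff_nbhd.mp V.isBasis_affineOpens
    (TopologicalSpace.Opens.mem_top (h (c w)))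
  obtain ⟨U₀, hU₀, hu, eU⟩ := TopologicalSpace.Opens.isBasis_iff_nbhd.mp U.isBasis_affineOpens
    (show c w ∈ h ⁻¹ᵁ V₀ from hv)
  obtain ⟨W₀, hW₀, hw, eW⟩ := TopologicalSpace.Opens.isBasis_iff_nbhd.mp W.isBasis_affineOpens
    (show w ∈ c ⁻¹ᵁ U₀ from hu)
  replace hV₀ : IsAffineOpen V₀ := hV₀
  replace hU₀ : IsAffineOpen U₀ := hU₀
  replace hW₀ : IsAffineOpen W₀ := hW₀
  have hg : (c.appLE U₀ W₀ eW).hom.Etale :=
    HasRingHomProperty.appLE (P := @Etale) c inferInstance ⟨U₀, hU₀⟩ ⟨W₀, hW₀⟩ eW
  have hf : (h.appLE V₀ U₀ eU).hom.FinitePresentation :=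
    HasRingHomProperty.appLE (P := @LocallyOfFinitePresentation) h inferInstance
      ⟨V₀, hV₀⟩ ⟨U₀, hU₀⟩ eU
  have hfg : ((c.appLE U₀ W₀ eW).hom.comp (h.appLE V₀ U₀ eU).hom).Smooth := by
    rw [← CommRingCat.hom_comp, Scheme.Hom.appLE_comp_appLE]
    exact HasRingHomProperty.appLE (P := @Smooth) (c ≫ h) inferInstance ⟨V₀, hV₀⟩ ⟨W₀, hW₀⟩ _
  obtain ⟨y, hy⟩ : w ∈ Set.range hW₀.fromSpec := by rw [hW₀.range_fromSpec]; exact hw
  obtain ⟨a, ha, hsm⟩ := exists_smooth_away _ _ hf hg hfg y
  refine ⟨⟨V₀, hV₀⟩, ⟨U.basicOpen a, hU₀.basicOpen a⟩, ?_, (U.basicOpen_le a).trans eU, ?_⟩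
  · have h1 : y ∈ PrimeSpectrum.basicOpen ((c.appLE U₀ W₀ eW) a) := ha
    have h2 : w ∈ W.basicOpen ((c.appLE U₀ W₀ eW) a) := by
      have hh := hW₀.fromSpec_preimage_basicOpen ((c.appLE U₀ W₀ eW) a)
      have : y ∈ hW₀.fromSpec ⁻¹ᵁ W.basicOpen ((c.appLE U₀ W₀ eW) a) := by rw [hh]; exact h1
      rw [← hy]; exact this
    rw [Scheme.basicOpen_appLE] at h2
    exact h2.2
  · rw [← h.appLE_map eU (homOfLE (U.basicOpen_le a)).op]
    haveI : IsLocalization.Away a Γ(U, U.basicOpen a) := hU₀.isLocalization_basicOpen a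
    exact hsm Γ(U, U.basicOpen a)

end Groth.Agent.Lib.SchSmooth_helper7
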