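import Groth.Agent.Lib.AlgSpLocP9_helper7
import Groth.Agent.Lib.SchSmooth_helper7

/-!
# Smooth morphisms of algebraic spaces: étale local on the source-and-target (helper7)

* `etLocal_smooth`, `listed_cases` (all listed classes are `EtLocal`)
* `locP_transfer`, `locP_of_forall_hasAtMor`, `hasAtMor_of_locP`
* `isLocalOnBase_fpqc_locP_smooth`
-/

set_option autoImplicit false
universe u
open CategoryTheory CategoryTheory.Limits AlgebraicGeometry Opposite MorphismProperty
open AlgSp Groth.Agent.Lib.AlgSpQC2_helper7 Groth.Agent.Lib.AlgSpPoints_helper7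
  Groth.Agent.Lib.AlgSpQC_helper7 Groth.Agent.Lib.AlgSpDiag_helper7 Groth.Agent.Lib.AlgSpTop_helper7
  Groth.Agent.Lib.AlgSpPullback_helper7 Groth.Agent.Lib.AlgSpSep_helper7
  Groth.Agent.Lib.AlgSpLocP_helper7 Groth.Agent.Lib.AlgSpUniv_helper7
  Groth.Agent.Lib.AlgSpFpqc_helper7 Groth.Agent.Lib.AlgSpFpqc2_helper7
  Groth.Agent.Lib.AlgSpDescent_helper7 Groth.Agent.Lib.AlgSpEtale_helper7
  Groth.Agent.Lib.AlgSpLocP2_helper7 Groth.Agent.Lib.AlgSpLocP3_helper7
  Groth.Agent.Lib.AlgSpEpi_helper7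
  Groth.Agent.Lib.SchSrcLocal_helper7 Groth.Agent.Lib.AlgSpLocP4_helper7
  Groth.Agent.Lib.AlgSpLocP5_helper7 Groth.Agent.Lib.AlgSpLocP6_helper7
  Groth.Agent.Lib.SchSrcLocal2_helper7 Groth.Agent.Lib.AlgSpSrc_helper7
  Groth.Agent.Lib.AlgSpLocP7_helper7 Groth.Agent.Lib.AlgSpLocP8_helper7
  Groth.Agent.Lib.AlgSpLocP9_helper7 Groth.Agent.Lib.SchSmooth_helper7

namespace Groth.Agent.Lib.AlgSpLocP10_helper7

variable {S : Scheme.{u}}

theorem etLocal_smooth : EtLocal (@Smooth : MorphismProperty Scheme.{u}) where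
  precomp := fun _ _ _ c h (_ : Etale c) (_ : Smooth h) => (inferInstance : Smooth (c ≫ h))
  postcomp := fun _ _ _ h e (_ : Etale e) (_ : Smooth h) => (inferInstance : Smooth (h ≫ e))
  src := fun _ _ _ c h (_ : Etale c) (_ : Surjective c) (_ : Smooth (c ≫ h)) =>
    smooth_of_comp_etale_surjective c h

/-- All the listed classes of the reference are étale local on the source-and-target, stable under
base change and composition, Zariski local at the source and contain the étale morphisms. -/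
theorem listed_cases (P : MorphismProperty Scheme.{u})
    (hP : P = @LocallyOfFiniteType ∨ P = @LocallyOfFinitePresentation ∨ P = @Flat ∨ P = @Smooth ∨
      P = @Etale ∨ (∀ ⦃A B : Scheme.{u}⦄ (g : A ⟶ B), P g ↔ (LocallyQuasiFinite g ∧
      LocallyOfFiniteType g)) ∨ (∀ ⦃A B : Scheme.{u}⦄ (g : A ⟶ B), P g ↔ (LocallyOfFiniteType g ∧
      FormallyUnramified g))) :
    EtLocal P ∧ P.IsStableUnderBaseChange ∧ P.IsStableUnderComposition ∧
      IsZariskiLocalAtSource P ∧ ∀ ⦃A B : Scheme.{u}⦄ (g : A ⟶ B), Etale g → P g := by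
  rcases hP with rfl | rfl | rfl | rfl | rfl | h | h
  · exact ⟨etLocal_locallyOfFiniteType, inferInstance, inferInstance, inferInstance,
      fun _ _ g _ => (inferInstance : LocallyOfFiniteType g)⟩
  · exact ⟨etLocal_locallyOfFinitePresentation, inferInstance, inferInstance, inferInstance,
      fun _ _ g _ => (inferInstance : LocallyOfFinitePresentation g)⟩
  · exact ⟨etLocal_flat, inferInstance, inferInstance, inferInstance,
      fun _ _ g _ => (inferInstance : Flat g)⟩
  · exact ⟨etLocal_smooth, inferInstance, inferInstance, inferInstance,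
      fun _ _ g _ => (inferInstance : Smooth g)⟩
  · exact ⟨etLocal_etale, inferInstance, inferInstance, inferInstance, fun _ _ _ hg => hg⟩
  · obtain rfl : P = (@LocallyQuasiFinite ⊓ @LocallyOfFiniteType : MorphismProperty Scheme.{u}) := by
      ext A B g; exact h g
    exact ⟨etLocal_locallyQuasiFinite, inferInstance, inferInstance, inferInstance,
      fun _ _ g _ => ⟨locallyQuasiFinite_of_unramified g, inferInstance⟩⟩
  · obtain rfl : P = (@LocallyOfFiniteType ⊓ @FormallyUnramified : MorphismProperty Scheme.{u}) := by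
      ext A B g; exact h g
    exact ⟨etLocal_unramified, inferInstance, inferInstance, inferInstance,
      fun _ _ g _ => ⟨inferInstance, inferInstance⟩⟩

/-- Transfer of `P` from one chart diagram to another along the fibre product of the source
charts. -/
theorem locP_transfer {P : MorphismProperty Scheme.{u}} [P.IsStableUnderBaseChange]
    (hP : EtLocal P) {X Y : Sp S} (f : X ⟶ Y) {U V U' V' : Over S} (a : (yon S).obj U ⟶ X)
    (b : (yon S).obj V ⟶ Y) (h : U ⟶ V) (a' : (yon S).obj U' ⟶ X) (b' : (yon S).obj V' ⟶ Y)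
    (h' : U' ⟶ V') (hae : RepWith @Etale a) (hbe : RepWith @Etale b) (hae' : RepWith @Etale a')
    (hbe' : RepWith @Etale b') (comm : a ≫ f = (yon S).map h ≫ b)
    (comm' : a' ≫ f = (yon S).map h' ≫ b') (hh : P h.left) :
    P ((hae.rep.snd a').left ≫ h'.left) := by
  let U'' := hae.rep.pullback a'
  let p' : U'' ⟶ U' := hae.rep.snd a'
  let p : U'' ⟶ U := hae.rep.fst' a'
  have sqU : IsPullback ((yon S).map p) ((yon S).map p') a a' := hae.rep.isPullback' _
  have hpe : Etale p.left := (repWith_yon_map_iff _ _).1 (repWith_fst_of_isPullback _ sqU hae')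
  let V'' := hbe.rep.pullback b'
  let q' : V'' ⟶ V' := hbe.rep.snd b'
  let q : V'' ⟶ V := hbe.rep.fst' b'
  have sqV : IsPullback ((yon S).map q) ((yon S).map q') b b' := hbe.rep.isPullback' _
  have hq'e : Etale q'.left := hbe.property_snd _
  have hqe : Etale q.left := (repWith_yon_map_iff _ _).1 (repWith_fst_of_isPullback _ sqV hbe')
  have hk : (yon S).map (p ≫ h) ≫ b = (yon S).map (p' ≫ h') ≫ b' := by
    rw [Functor.map_comp, Functor.map_comp, Category.assoc, Category.assoc, ← comm, ← comm',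
      ← Category.assoc, ← Category.assoc, sqU.w]
  obtain ⟨k, hk'⟩ := (yon S).map_surjective (sqV.lift _ _ hk)
  have hk1 : k ≫ q = p ≫ h := (yon S).map_injective (by
    rw [Functor.map_comp, hk', sqV.lift_fst])
  have hk2 : k ≫ q' = p' ≫ h' := (yon S).map_injective (by
    rw [Functor.map_comp, hk', sqV.lift_snd])
  have h1 : P (k.left ≫ q.left) := by
    rw [← Over.comp_left, hk1, Over.comp_left]
    exact hP.precomp _ _ hpe hh
  have h2 : P k.left := hP.cancel _ _ hqe h1
  have h3 : P (p'.left ≫ h'.left) := by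
    rw [← Over.comp_left, ← hk2, Over.comp_left]
    exact hP.postcomp _ _ hq'e h2
  exact h3

/-- `LocP P f` can be checked pointwise on neighbourhoods in chart diagrams. -/
theorem locP_of_forall_hasAtMor {P : MorphismProperty Scheme.{u}} [P.IsStableUnderBaseChange]
    [IsZariskiLocalAtSource P] (hP : EtLocal P) {X Y : Sp S} (f : X ⟶ Y)
    (H : ∀ x : Points X,
      HasAtMor (fun U _ h u => ∃ W : U.Opens, u ∈ W ∧ P (W.ι ≫ h)) f x) : LocP P f := by
  intro U' V' a' b' h' hae' hbe' comm'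
  have H' : ∀ u' : ↥U'.left, ∃ (U V : Over S) (a : (yon S).obj U ⟶ X) (b : (yon S).obj V ⟶ Y)
      (h : U ⟶ V) (u : ↥U.left), RepWith @Etale a ∧ RepWith @Etale b ∧
      a ≫ f = (yon S).map h ≫ b ∧ Points.ofPt a u = Points.ofPt a' u' ∧
      ∃ W : U.left.Opens, u ∈ W ∧ P (W.ι ≫ h.left) := fun u' => H (Points.ofPt a' u')
  choose U V a b h u hae hbe comm hux W huW hPW using H'
  let UW : ↥U'.left → Over S := fun u' => Over.mk ((W u').ι ≫ (U u').hom)
  let j : ∀ u', UW u' ⟶ U u' := fun u' => Over.homMk (W u').ι rfl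
  have hje : ∀ u', RepWith @Etale ((yon S).map (j u') ≫ a u') := fun u' =>
    repWith_comp _ ((repWith_yon_map_iff _ _).2 (inferInstance : Etale (W u').ι)) (hae u')
  have key : ∀ u', P (((hje u').rep.snd a').left ≫ h'.left) := fun u' =>
    locP_transfer hP f ((yon S).map (j u') ≫ a u') (b u') (j u' ≫ h u') a' b' h' (hje u') (hbe u')
      hae' hbe' (by rw [Category.assoc, comm u', Functor.map_comp, Category.assoc]) comm' (hPW u')
  refine EtLocal.of_family hP (fun u' => ((hje u').rep.pullback a').left)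
    (fun u' => ((hje u').rep.snd a').left) h'.left (fun u' => (hje u').property_snd a') ?_ key
  intro u'
  have sq := (hje u').rep.isPullback' a'
  obtain ⟨w, hw⟩ : u u' ∈ Set.range (W u').ι := by
    rw [Scheme.Opens.range_ι]; exact huW u'
  obtain ⟨v, -, hv2⟩ := exists_ofPt_eq_of_isPullback sq w u' (by
    rw [ofPt_comp]
    show Points.ofPt (a u') ((W u').ι w) = _
    rw [hw]; exact hux u')
  exact ⟨u', ⟨v, hv2⟩⟩

/-- A morphism in `LocP P` has `P` at every point in the neighbourhood sense. -/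
theorem hasAtMor_of_locP {P : MorphismProperty Scheme.{u}}
    (hPtop : ∀ ⦃A B : Scheme.{u}⦄ (g : A ⟶ B), P g → P ((⊤ : A.Opens).ι ≫ g)) {X Y : Sp S}
    (hX : IsAlgSpace X) (hY : IsAlgSpace Y) (f : X ⟶ Y) (hf : LocP P f) (x : Points X) :
    HasAtMor (fun U _ h u => ∃ W : U.Opens, u ∈ W ∧ P (W.ι ≫ h)) f x := by
  obtain ⟨U₀, a₀, ha₀e, ha₀s⟩ := hX.atlas
  obtain ⟨V, b, hbe, hbs⟩ := hY.atlas
  let U := hbe.rep.pullback (a₀ ≫ f)
  let p : U ⟶ U₀ := hbe.rep.snd (a₀ ≫ f)
  let h : U ⟶ V := hbe.rep.fst' (a₀ ≫ f)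
  have sq : IsPullback ((yon S).map h) ((yon S).map p) b (a₀ ≫ f) := hbe.rep.isPullback' _
  have hpe : Etale p.left := hbe.property_snd _
  have hps : Surjective p.left := hbs.property _ _ _ (hbe.rep.isPullback _)
  obtain ⟨u₀, rfl⟩ := ofPt_surjective a₀ ha₀s x
  obtain ⟨u, hu⟩ := hps.surj u₀
  have hae : RepWith @Etale ((yon S).map p ≫ a₀) :=
    repWith_comp _ ((repWith_yon_map_iff _ _).2 hpe) ha₀e
  have comm : ((yon S).map p ≫ a₀) ≫ f = (yon S).map h ≫ b := by rw [Category.assoc, sq.w]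
  refine ⟨U, V, (yon S).map p ≫ a₀, b, h, u, hae, hbe, comm, ?_, ⊤, trivial,
    hPtop _ (hf _ _ _ hae hbe comm)⟩
  rw [ofPt_comp, hu]

theorem locP_iff_forall_hasAtMor_listed (P : MorphismProperty Scheme.{u})
    (hP : P = @LocallyOfFiniteType ∨ P = @LocallyOfFinitePresentation ∨ P = @Flat ∨ P = @Smooth ∨
      P = @Etale ∨ (∀ ⦃A B : Scheme.{u}⦄ (g : A ⟶ B), P g ↔ (LocallyQuasiFinite g ∧
      LocallyOfFiniteType g)) ∨ (∀ ⦃A B : Scheme.{u}⦄ (g : A ⟶ B), P g ↔ (LocallyOfFiniteType g ∧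
      FormallyUnramified g))) {X Y : Sp S} (hX : IsAlgSpace X) (hY : IsAlgSpace Y) (f : X ⟶ Y) :
    LocP P f ↔ ∀ x : Points X,
      HasAtMor (fun U _ h u => ∃ W : U.Opens, u ∈ W ∧ P (W.ι ≫ h)) f x := by
  obtain ⟨h1, h2, -, h4, -⟩ := listed_cases P hP
  haveI := h2
  haveI := h4
  exact ⟨fun hf x => hasAtMor_of_locP (fun _ _ g hg => h1.precomp _ g inferInstance hg) hX hY f hf x,
    locP_of_forall_hasAtMor h1 f⟩

theorem isLocalOnBase_fpqc_locP_smooth :
    IsLocalOnBase (IsFpqcCover (S := S)) (LocP @Smooth) :=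
  locP_isLocalOnBase_fpqc _ etLocal_smooth (descendsFlatCover_of_descendsAlong _)

theorem isLocalOnSource_etale_locP_smooth :
    IsLocalOnSource (IsEtCover (S := S)) (LocP @Smooth) :=
  locP_isLocalOnSource_etale _ etLocal_smooth fun _ _ g _ => (inferInstance : Smooth g)

end Groth.Agent.Lib.AlgSpLocP10_helper7
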