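import Mathlib
import Groth.Agent.Lib.AlgSpOnePt_helper6
import Groth.Agent.Lib.AlgSpUnram_helper7
import Groth.Agent.Lib.AlgSpGlue4_helper7
import Groth.Agent.S10361

/-!
# Algebraic spaces with a monomorphism to a scheme are decent; monomorphisms to discrete schemes
(helper6)
-/

set_option autoImplicit false
universe u
open CategoryTheory CategoryTheory.Limits AlgebraicGeometry Opposite TopologicalSpace

namespace Groth.Agent.Lib.AlgSpMonoDiscH6

open AlgSp Groth.Agent.Lib.AlgSpPoints_helper7 Groth.Agent.Lib.AlgSpOpenSub_helper7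
  Groth.Agent.Lib.AlgSpPullback_helper7 Groth.Agent.Lib.AlgSpBasic_helper7
  Groth.Agent.Lib.AlgSpOnePtH6 Groth.Agent.Lib.AlgSpUnram_helper7

variable {S : Scheme.{u}}

/-- Any morphism from the spectrum of a field is quasi-compact. -/
theorem quasiCompact_of_field {K : Type u} [Field K] {Y : Scheme.{u}}
    (κ : Spec (CommRingCat.of K) ⟶ Y) : QuasiCompact κ := by
  haveI : Subsingleton ↥(Spec (CommRingCat.of K)) :=
    inferInstanceAs (Subsingleton (PrimeSpectrum K))
  exact ⟨fun U _ _ => (Set.toFinite _).isCompact⟩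

/-- An algebraic space with a monomorphism to a scheme is decent. -/
theorem isDecent_of_mono (X : Space S) {Y : Over S} (f : X.obj ⟶ (yon S).obj Y) [Mono f] :
    IsDecent X.obj := by
  intro x
  obtain ⟨q, rfl⟩ := Points.mk_surjective x
  have hrep := X.property.representable_from_yon q.toHom
  have hq : RepWith @QuasiCompact q.toHom := by
    refine ⟨hrep, fun T W g fst snd sq => ?_⟩
    have sq' := (isPullback_comp_mono_iff f).2 sq
    obtain ⟨κ, hκ⟩ := (yon S).map_surjective (q.toHom ≫ f)
    obtain ⟨γ, hγ⟩ := (yon S).map_surjective (g ≫ f)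
    obtain ⟨φ, hφ⟩ := (yon S).map_surjective fst
    rw [← hκ, ← hγ, ← hφ] at sq'
    have sqL := isPullback_left_of_isPullback_yon sq'
    have hκq : QuasiCompact κ.left := quasiCompact_of_field (K := q.K) κ.left
    exact MorphismProperty.of_isPullback (P := @QuasiCompact) sqL hκq
  exact Groth.Agent.S10361.result X q hq

/-- Points of a discrete scheme are open in the space of points of its sheaf. -/
theorem isOpen_singleton_of_discrete (Y : Over S) [DiscreteTopology ↥Y.left]
    (z : Points ((yon S).obj Y)) : IsOpen ({z} : Set (Points ((yon S).obj Y))) := by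
  rw [Points.isOpen_iff]
  intro T g
  obtain ⟨γ, rfl⟩ := (yon S).map_surjective g
  obtain ⟨y, rfl⟩ := ofScheme_surjective Y z
  have h1 : Points.ofPt ((yon S).map γ) ⁻¹' {Points.ofScheme Y y} = γ.left ⁻¹' {y} := by
    ext t
    simp only [Set.mem_preimage, Set.mem_singleton_iff, ofPt_yon_map]
    exact (ofScheme_injective Y).eq_iff
  rw [h1]
  exact (isOpen_discrete _).preimage γ.left.continuous

/-- An algebraic space with a monomorphism to a scheme with discrete underlying space is a
scheme. -/
theorem exists_iso_of_mono_to_discrete (Y : Over S) [DiscreteTopology ↥Y.left] (X : Space S)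
    (φ : X.obj ⟶ (yon S).obj Y) [Mono φ] : ∃ Y' : Over S, Nonempty ((yon S).obj Y' ≅ X.obj) := by
  have hXs := X.property
  have hinj : Function.Injective (Points.map φ) := map_injective_of_mono φ
  have hopen : ∀ x : Points X.obj, IsOpen ({x} : Set (Points X.obj)) := by
    intro x
    have h1 : ({x} : Set (Points X.obj)) = Points.map φ ⁻¹' {Points.map φ x} := by
      ext z
      simp only [Set.mem_singleton_iff, Set.mem_preimage]
      exact hinj.eq_iff.symm
    rw [h1]
    exact (isOpen_singleton_of_discrete Y _).preimage (Points.continuous_map φ)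
  let I : Type u :=
    {y : ↥Y.left // ∃ x : Points X.obj, Points.map φ x = Points.ofScheme Y y}
  have hI : ∀ k : I, ∃ x : Points X.obj, Points.map φ x = Points.ofScheme Y k.1 := fun k => k.2
  choose xs hxs using hI
  have key : ∀ k : I, ∃ M : Over S, IsAffine M.left ∧
      Nonempty ((yon S).obj M ≅ openSub X.obj {xs k}) := by
    intro k
    let Xi : Space S := ⟨openSub X.obj {xs k}, isAlgSpace_openSub hXs (hopen _)⟩
    haveI : Mono (openSubι X.obj {xs k}) := mono_openSubι _ _
    haveI : Mono (openSubι X.obj {xs k} ≫ φ) := mono_comp _ _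
    have hdec : IsDecent Xi.obj := isDecent_of_mono Xi (openSubι X.obj {xs k} ≫ φ)
    have hr := range_map_openSubι hXs (hopen (xs k))
    haveI : Nonempty (Points Xi.obj) := by
      obtain ⟨z, -⟩ := hr.ge (Set.mem_singleton _)
      exact ⟨z⟩
    haveI : Subsingleton (Points Xi.obj) := ⟨fun z z' =>
      map_injective_of_mono (openSubι X.obj {xs k})
        ((hr.le ⟨z, rfl⟩ : _ = xs k).trans (hr.le ⟨z', rfl⟩ : _ = xs k).symm)⟩
    exact exists_iso_of_isDecent_of_subsingleton Xi hdec
  choose M hM e using key
  have hfo : ∀ k, RepWith @IsOpenImmersion ((e k).some.hom ≫ openSubι X.obj {xs k}) := fun k =>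
    (MorphismProperty.cancel_left_of_respectsIso (RepWith @IsOpenImmersion) (e k).some.hom
      (openSubι X.obj {xs k})).2 (repWith_isOpenImmersion_openSubι (hopen _))
  obtain ⟨Y', e', -⟩ := Groth.Agent.Lib.AlgSpGlue4H7.exists_iso_of_openCover_points
    (fun k => (e k).some.hom ≫ openSubι X.obj {xs k}) hfo (fun x => by
      obtain ⟨y, hy⟩ := ofScheme_surjective Y (Points.map φ x)
      let k : I := ⟨y, x, hy.symm⟩
      have hxk : xs k = x := hinj ((hxs k).trans hy)
      have hr := range_map_openSubι hXs (hopen (xs k))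
      obtain ⟨z, hz⟩ := hr.ge (Set.mem_singleton (xs k))
      refine ⟨k, Points.map (e k).some.inv z, ?_⟩
      rw [← Points.map_comp, ← Category.assoc, Iso.inv_hom_id, Category.id_comp, hz, hxk])
  exact ⟨Y', ⟨e'⟩⟩

end Groth.Agent.Lib.AlgSpMonoDiscH6
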