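import Mathlib
import Groth.Agent.Lib.AlgSpOnePt_helper6
import Groth.Agent.Lib.AlgSpGlue4_helper7
import Groth.Agent.Lib.AlgSpAffPb_helper7

/-!
# Quasi-separated algebraic spaces of dimension zero are schemes (helper6)
-/

set_option autoImplicit false
universe u
open CategoryTheory CategoryTheory.Limits AlgebraicGeometry Opposite TopologicalSpace

namespace Groth.Agent.Lib.AlgSpZeroDimH6

open AlgSp Groth.Agent.Lib.AlgSpPoints_helper7 Groth.Agent.Lib.AlgSpOpenSub_helper7
  Groth.Agent.Lib.AlgSpPullback_helper7 Groth.Agent.Lib.AlgSpIso_helper7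
  Groth.Agent.Lib.AlgSpBasic_helper7 Groth.Agent.Lib.AlgSpDescent_helper7
  Groth.Agent.Lib.UBFCoverH6 Groth.Agent.Lib.AlgSpFEtQuotH6 Groth.Agent.Lib.AlgSpFEtDenseH6
  Groth.Agent.Lib.AlgSpEtale_helper7 Groth.Agent.Lib.AlgSpOnePtH6
  Groth.Agent.Lib.AlgSpAffPb_helper7

/-! ## Topology and schemes -/

/-- In a `T0` space of Krull dimension `≤ 0` there are no nontrivial specializations. -/
theorem eq_of_specializes_of_dim_le_zero {T : Type*} [TopologicalSpace T] [T0Space T]
    (h : topologicalKrullDim T ≤ 0) ⦃x y : T⦄ (hxy : x ⤳ y) : x = y := by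
  let cx : IrreducibleCloseds T := ⟨closure {x}, isIrreducible_singleton.closure, isClosed_closure⟩
  let cy : IrreducibleCloseds T := ⟨closure {y}, isIrreducible_singleton.closure, isClosed_closure⟩
  have hle : cy ≤ cx := by
    change closure {y} ⊆ closure {x}
    exact specializes_iff_closure_subset.1 hxy
  have hmin : IsMin cx := (Order.krullDim_nonpos_iff_forall_isMin.1 h) cx
  have hle' : cx ≤ cy := hmin hle
  have hyx : y ⤳ x := by
    apply specializes_iff_closure_subset.2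
    exact hle'
  exact (hxy.antisymm hyx).eq

/-- The source of an integral morphism to a scheme without nontrivial specializations has no
nontrivial specializations (incomparability). -/
theorem eq_of_specializes_of_isIntegralHom {N U : Scheme.{u}} (g : N ⟶ U) [IsIntegralHom g]
    (hU : ∀ ⦃u u' : ↥U⦄, u ⤳ u' → u = u') ⦃n n' : ↥N⦄ (h : n ⤳ n') : n = n' := by
  have hg : g n = g n' := hU (h.map g.continuous)
  obtain ⟨W, hW, hnW, -⟩ := exists_isAffineOpen_mem_and_subset (x := g n)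
    (U := (⊤ : U.Opens)) trivial
  obtain ⟨V, hVdef⟩ : ∃ V : N.Opens, V = g ⁻¹ᵁ W := ⟨_, rfl⟩
  have hV : IsAffineOpen V := by rw [hVdef]; exact hW.preimage g
  have hVle : V ≤ g ⁻¹ᵁ W := hVdef.le
  have hn : n ∈ V := by rw [hVdef]; exact hnW
  have hn' : n' ∈ V := by
    rw [hVdef]
    change g n' ∈ W
    rw [← hg]
    exact hnW
  obtain ⟨q, hq⟩ : ∃ q, q = hV.primeIdealOf ⟨n, hn⟩ := ⟨_, rfl⟩
  obtain ⟨q', hq'⟩ : ∃ q', q' = hV.primeIdealOf ⟨n', hn'⟩ := ⟨_, rfl⟩
  have hqq' : q ⤳ q' := by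
    have h1 : (⟨n, hn⟩ : V) ⤳ ⟨n', hn'⟩ := (subtype_specializes_iff _ _).2 h
    rw [hq, hq']
    exact h1.map hV.isoSpec.hom.continuous
  have hle : q.asIdeal ≤ q'.asIdeal := (PrimeSpectrum.le_iff_specializes q q').2 hqq'
  obtain ⟨φ, hφ⟩ : ∃ φ, φ = (g.appLE W V hVle).hom := ⟨_, rfl⟩
  have hint : φ.IsIntegral := by
    have h1 := IsIntegralHom.isIntegral_app g W hW
    have h2 : g.appLE W V hVle = g.app W ≫ N.presheaf.map (homOfLE hVle).op := rfl
    rw [hφ, h2]
    subst hVdef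
    simpa using h1
  have hc : q.asIdeal.comap φ = q'.asIdeal.comap φ := by
    have e1 := IsAffineOpen.comap_primeIdealOf_appLE (f := g) (x := n) W hW V hV hVle hn
    have e2 := IsAffineOpen.comap_primeIdealOf_appLE (f := g) (x := n') W hW V hV hVle hn'
    have e3 : hW.primeIdealOf ⟨g n, hVle hn⟩ = hW.primeIdealOf ⟨g n', hVle hn'⟩ := by
      congr 1
      exact Subtype.ext hg
    have e4 := congrArg PrimeSpectrum.asIdeal (e1.trans (e3.trans e2.symm))
    rw [hq, hq', hφ]
    exact e4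
  have hqeq : q = q' := by
    by_contra hne
    have hne' : q.asIdeal ≠ q'.asIdeal := fun h => hne (PrimeSpectrum.ext h)
    have hlt : q.asIdeal < q'.asIdeal := lt_of_le_of_ne hle hne'
    letI := φ.toAlgebra
    haveI : Algebra.IsIntegral Γ(U, W) Γ(N, V) := ⟨hint⟩
    have := Ideal.IsIntegral.comap_lt_comap (R := Γ(U, W)) hlt
    exact this.ne hc
  calc n = hV.fromSpec q := by rw [hq]; exact (hV.fromSpec_primeIdealOf ⟨n, hn⟩).symm
    _ = hV.fromSpec q' := by rw [hqeq]
    _ = n' := by rw [hq']; exact hV.fromSpec_primeIdealOf ⟨n', hn'⟩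

/-- An étale, separated, quasi-compact morphism to a scheme without nontrivial specializations is
finite. -/
theorem isFinite_of_etale_of_t1 {R U : Scheme.{u}} (s : R ⟶ U) [Etale s] [IsSeparated s]
    [QuasiCompact s] (hU : ∀ ⦃u u' : ↥U⦄, u ⤳ u' → u = u') : IsFinite s := by
  haveI : LocallyQuasiFinite s := locallyQuasiFinite_of_unramified s
  haveI : IsOpenImmersion s.toNormalization := inferInstance
  have hN : ∀ ⦃n n' : ↥s.normalization⦄, n ⤳ n' → n = n' :=
    eq_of_specializes_of_isIntegralHom s.fromNormalization hU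
  have hcl : IsClosedMap s.toNormalization :=
    (isClosedMap_iff_specializingMap _).2 (fun a b hab => ⟨a, specializes_rfl, hN hab⟩)
  haveI : Surjective s.toNormalization :=
    surjective_of_isDominant_of_isClosed_range _ hcl.isClosed_range
  haveI : IsIso s.toNormalization :=
    (isIso_iff_isOpenImmersion_and_surjective _).mpr ⟨inferInstance, inferInstance⟩
  refine (IsFinite.iff_isIntegralHom_and_locallyOfFiniteType _).mpr ⟨?_, inferInstance⟩
  rw [← s.toNormalization_fromNormalization]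
  infer_instance

section zerodim

variable {Z : Scheme.{u}} [QuasiSeparatedSpace ↥Z] (hZ : ∀ ⦃z z' : ↥Z⦄, z ⤳ z' → z = z')

include hZ

/-- Quasi-compact opens are closed. -/
theorem isClosed_of_isCompact_open (V : Z.Opens) (hV : IsCompact (V : Set ↥Z)) :
    IsClosed (V : Set ↥Z) := by
  haveI : CompactSpace ↥(V : Scheme.{u}) := isCompact_iff_compactSpace.1 hV
  haveI : QuasiCompact V.ι := inferInstance
  have hcl : IsClosedMap V.ι :=
    (isClosedMap_iff_specializingMap _).2 (fun a b hab => ⟨a, specializes_rfl, hZ hab⟩)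
  have := hcl.isClosed_range
  rwa [Scheme.Opens.range_ι] at this

/-- Quasi-compact opens are affine. -/
theorem isAffineOpen_of_isCompact (V : Z.Opens) (hV : IsCompact (V : Set ↥Z)) :
    IsAffineOpen V := by
  refine compact_open_induction_on (P := fun V => IsAffineOpen V) V hV (isAffineOpen_bot _) ?_
  intro S hS U hSaff
  have hScl : IsClosed (S : Set ↥Z) := isClosed_of_isCompact_open hZ S hS
  obtain ⟨S', hS'⟩ : ∃ S' : Z.Opens, (S' : Set ↥Z) = (S : Set ↥Z)ᶜ :=
    ⟨⟨(S : Set ↥Z)ᶜ, hScl.isOpen_compl⟩, rfl⟩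
  obtain ⟨T, hT⟩ : ∃ T : Z.Opens, T = U.1 ⊓ S' := ⟨_, rfl⟩
  have hTU : T ≤ U.1 := by rw [hT]; exact inf_le_left
  have hTmem : ∀ z : ↥Z, z ∈ T ↔ z ∈ U.1 ∧ z ∉ S := by
    intro z
    rw [hT]
    change z ∈ (U.1 : Set ↥Z) ∧ z ∈ (S' : Set ↥Z) ↔ _
    rw [hS']
    rfl
  have hTaff : IsAffineOpen T := by
    haveI : IsAffine (U.1 : Scheme.{u}) := U.2
    have hrange : Set.range (Z.homOfLE hTU) = U.1.ι ⁻¹' (S : Set ↥Z)ᶜ := by
      have h1 := congrArg (fun O : (U.1 : Scheme.{u}).Opens => (O : Set ↥(U.1 : Scheme.{u})))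
        (Scheme.opensRange_homOfLE hTU)
      simp only [Scheme.Hom.coe_opensRange] at h1
      rw [h1]
      ext x
      change U.1.ι x ∈ T ↔ U.1.ι x ∉ S
      rw [hTmem]
      exact ⟨fun h => h.2, fun h => ⟨x.2, h⟩⟩
    have hcl : IsClosed (Set.range (Z.homOfLE hTU)) := by
      rw [hrange]
      exact (S.isOpen.isClosed_compl).preimage U.1.ι.continuous
    haveI : IsClosedImmersion (Z.homOfLE hTU) := IsClosedImmersion.of_isPreimmersion _ hcl
    exact isAffine_of_isAffineHom (Z.homOfLE hTU)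
  have hdisj : Disjoint S T := by
    rw [disjoint_iff]
    ext z
    simp only [Opens.coe_inf, Set.mem_inter_iff, SetLike.mem_coe, Opens.coe_bot,
      Set.mem_empty_iff_false, iff_false, not_and]
    intro h1 h2
    exact ((hTmem z).1 h2).2 h1
  have hsup : S ⊔ U.1 = S ⊔ T := by
    ext z
    simp only [Opens.coe_sup, Set.mem_union, SetLike.mem_coe]
    rw [hTmem]
    by_cases hz : z ∈ S
    · simp [hz]
    · simp [hz]
  rw [hsup]
  exact hSaff.sup_of_disjoint hTaff hdisj

/-- The scheme is separated. -/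
theorem isSeparated_of_t1 : Z.IsSeparated := by
  haveI : QuasiSeparated (terminal.from Z) :=
    (quasiSeparatedSpace_iff_quasiSeparated Z).1 inferInstance
  refine ⟨IsSeparated.of_valuativeCriterion _ ?_⟩
  intro Sq
  refine ⟨fun l l' => ?_⟩
  obtain ⟨φ, hφ⟩ : ∃ φ, φ = Spec.map (CommRingCat.ofHom (algebraMap Sq.R Sq.K)) := ⟨_, rfl⟩
  let pt : ↥(Spec (CommRingCat.of Sq.K)) := (⊥ : PrimeSpectrum Sq.K)
  let η : ↥(Spec (CommRingCat.of Sq.R)) := (⊥ : PrimeSpectrum Sq.R)
  have hgen : ∀ p : ↥(Spec (CommRingCat.of Sq.R)), η ⤳ p := fun p =>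
    (PrimeSpectrum.le_iff_specializes (⊥ : PrimeSpectrum Sq.R) p).1 bot_le
  have hconst : ∀ (m : Spec (CommRingCat.of Sq.R) ⟶ Z), φ ≫ m = Sq.i₁ →
      ∀ p : ↥(Spec (CommRingCat.of Sq.R)), m p = Sq.i₁ pt := by
    intro m hm p
    have h1 : m η = m p := hZ ((hgen p).map m.continuous)
    have h2 : m η = m (φ pt) := hZ ((hgen (φ pt)).map m.continuous)
    rw [← h1, h2, ← hm]
    rfl
  have hl : φ ≫ l.l = Sq.i₁ := by rw [hφ]; exact l.fac_left
  have hl' : φ ≫ l'.l = Sq.i₁ := by rw [hφ]; exact l'.fac_left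
  obtain ⟨V, hV, hzV, -⟩ := exists_isAffineOpen_mem_and_subset (x := Sq.i₁ pt)
    (U := (⊤ : Z.Opens)) trivial
  have hr : Set.range l.l ⊆ Set.range V.ι := by
    rw [Scheme.Opens.range_ι]
    rintro _ ⟨p, rfl⟩
    rw [hconst l.l hl p]
    exact hzV
  have hr' : Set.range l'.l ⊆ Set.range V.ι := by
    rw [Scheme.Opens.range_ι]
    rintro _ ⟨p, rfl⟩
    rw [hconst l'.l hl' p]
    exact hzV
  obtain ⟨m, hm⟩ : ∃ m, m = IsOpenImmersion.lift V.ι l.l hr := ⟨_, rfl⟩
  obtain ⟨m', hm'⟩ : ∃ m', m' = IsOpenImmersion.lift V.ι l'.l hr' := ⟨_, rfl⟩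
  have hmf : m ≫ V.ι = l.l := by rw [hm]; exact IsOpenImmersion.lift_fac _ _ _
  have hmf' : m' ≫ V.ι = l'.l := by rw [hm']; exact IsOpenImmersion.lift_fac _ _ _
  have hmm' : φ ≫ m = φ ≫ m' := by
    rw [← cancel_mono V.ι, Category.assoc, Category.assoc, hmf, hmf', hl, hl']
  haveI : IsAffine (V : Scheme.{u}) := hV
  have hsq : CommSq (φ ≫ m) (Spec.map (CommRingCat.ofHom (algebraMap Sq.R Sq.K)))
      (terminal.from (V : Scheme.{u})) (terminal.from _) := ⟨Subsingleton.elim _ _⟩
  let Sq' : ValuativeCommSq (terminal.from (V : Scheme.{u})) :=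
    ⟨Sq.R, Sq.K, φ ≫ m, terminal.from _, hsq⟩
  have huniq := IsSeparated.valuativeCriterion (terminal.from (V : Scheme.{u})) Sq'
  have e := huniq.elim ⟨m, by rw [← hφ], Subsingleton.elim _ _⟩
    ⟨m', by rw [← hφ]; exact hmm'.symm, Subsingleton.elim _ _⟩
  have e' : m = m' := congrArg CommSq.LiftStruct.l e
  ext : 1
  rw [← hmf, ← hmf', e']

end zerodim

/-! ## Algebraic spaces -/

variable {S : Scheme.{u}}

/-- Local affineness: around every point of a chart there is an open subspace which is an affine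
scheme. -/
theorem exists_affine_nbhd [QuasiSeparatedSpace ↥S] (X : Space S)
    (hqs : IsQuasiSeparatedSp X.obj)
    (hT1 : ∀ (U : Over S) (a : (yon S).obj U ⟶ X.obj), RepWith @Etale a →
      ∀ ⦃u u' : ↥U.left⦄, u ⤳ u' → u = u')
    {U₀ : Over S} (p₀ : (yon S).obj U₀ ⟶ X.obj) (hp₀e : RepWith @Etale p₀) (u₀ : ↥U₀.left) :
    ∃ W : Set (Points X.obj), IsOpen W ∧ Points.ofPt p₀ u₀ ∈ W ∧
      ∃ M : Over S, IsAffine M.left ∧ Nonempty ((yon S).obj M ≅ openSub X.obj W) := by
  have hXs := X.property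
  obtain ⟨Ws, hWs, hsWs, -⟩ := exists_isAffineOpen_mem_and_subset
    (x := U₀.hom u₀) (U := (⊤ : S.Opens)) trivial
  obtain ⟨V, hV, huV, hVsub⟩ := exists_isAffineOpen_mem_and_subset
    (show u₀ ∈ U₀.hom ⁻¹ᵁ Ws from hsWs)
  have hrange : Set.range (V.ι ≫ U₀.hom) ⊆ Set.range hWs.fromSpec := by
    rw [hWs.range_fromSpec]
    rintro _ ⟨v, rfl⟩
    exact hVsub v.2
  let h₀ : (V : Scheme.{u}) ⟶ Spec Γ(S, Ws) :=
    IsOpenImmersion.lift hWs.fromSpec (V.ι ≫ U₀.hom) hrange
  have hh : h₀ ≫ hWs.fromSpec = V.ι ≫ U₀.hom := IsOpenImmersion.lift_fac _ _ _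
  let U : Over S := opOver U₀ V
  let j : U ⟶ U₀ := opι U₀ V
  haveI : IsAffine U.left := hV
  haveI : IsOpenImmersion j.left := inferInstanceAs (IsOpenImmersion V.ι)
  obtain ⟨a, ha⟩ : ∃ a, a = (yon S).map j ≫ p₀ := ⟨_, rfl⟩
  have hae : RepWith @Etale a := by
    rw [ha]
    exact repWith_comp _ ((repWith_yon_map_iff @Etale j).2 inferInstance) hp₀e
  obtain ⟨W, hWdef⟩ : ∃ W : Set (Points X.obj), W = Set.range (Points.ofPt a) := ⟨_, rfl⟩
  have hWopen : IsOpen W := by
    rw [hWdef, ← Set.image_univ]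
    exact isOpenMap_ofPt_of_etale a hae _ isOpen_univ
  have hmem : Points.ofPt p₀ u₀ ∈ W := by
    rw [hWdef]
    refine ⟨⟨u₀, huV⟩, ?_⟩
    rw [ha, ofPt_comp]
    rfl
  have hj := repWith_isOpenImmersion_openSubι (X := X.obj) hWopen
  have hjrange := range_map_openSubι hXs hWopen
  obtain ⟨a'', ha''j, ha''et, ha''surj⟩ := exists_factor_chart a hae (openSubι X.obj W) hj
    (by rw [hjrange, hWdef])
  have ha''s : RepWith @Surjective a'' := ha''surj (by rw [hjrange, hWdef])
  haveI : Epi a'' := epi_of_atlas a'' ha''et ha''s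
  have hX' : IsAlgSpace (openSub X.obj W) := isAlgSpace_openSub hXs hWopen
  have hrep'' := hX'.representable_from_yon a''
  obtain ⟨R, t, s, kp''⟩ := exists_isPullback_yon hrep'' a''
  haveI : Mono (openSubι X.obj W) := mono_openSubι _ _
  have kp : IsPullback ((yon S).map t) ((yon S).map s) a a := by
    have := (isPullback_comp_mono_iff (openSubι X.obj W)).2 kp''
    rwa [ha''j] at this
  haveI hse : Etale s.left := hae.property _ _ _ kp
  have hsq := isPullback_diag_pairMap kp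
  haveI hqc : QuasiCompact (prod.lift t s).left := hqs.property _ _ _ hsq
  haveI hmonoO : Mono (prod.lift t s) := ⟨fun {T} v w hvw => by
    apply (yon S).map_injective
    apply kp.hom_ext
    · rw [← Functor.map_comp, ← Functor.map_comp]
      congr 1
      have h3 : (v ≫ prod.lift t s) ≫ prod.fst = (w ≫ prod.lift t s) ≫ prod.fst := by rw [hvw]
      rwa [Category.assoc, Category.assoc, prod.lift_fst] at h3
    · rw [← Functor.map_comp, ← Functor.map_comp]
      congr 1
      have h3 : (v ≫ prod.lift t s) ≫ prod.snd = (w ≫ prod.lift t s) ≫ prod.snd := by rw [hvw]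
      rwa [Category.assoc, Category.assoc, prod.lift_snd] at h3⟩
  haveI : Mono (prod.lift t s).left := inferInstance
  have hsdecomp : s.left = (prod.lift t s).left ≫ (Over.prodLeftIsoPullback U U).hom ≫
      pullback.snd U.hom U.hom := by
    rw [Over.prodLeftIsoPullback_hom_snd, ← Over.comp_left, prod.lift_snd]
  have hUhom : U.hom = h₀ ≫ hWs.fromSpec := hh.symm
  haveI : IsSeparated U.hom := by
    rw [hUhom]
    infer_instance
  haveI : QuasiCompact U.hom := inferInstance
  haveI : IsSeparated s.left := by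
    rw [hsdecomp]
    infer_instance
  haveI : QuasiCompact s.left := by
    rw [hsdecomp]
    infer_instance
  haveI : IsFinite s.left := isFinite_of_etale_of_t1 s.left (hT1 U a hae)
  have hfin : RepWith @IsFinite a'' :=
    repWith_of_chart @IsFinite descendsEtale_isFinite a'' hrep'' a'' ha''et ha''s
      ((yon S).map t) s kp'' ‹_›
  obtain ⟨M, q, e, hM, -⟩ := exists_affine_quotient a'' hfin ha''et hWs.fromSpec h₀ hh
  exact ⟨W, hWopen, hmem, M, hM, ⟨e⟩⟩

/-- A quasi-separated algebraic space all of whose étale charts have no nontrivial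
specializations is a scheme. -/
theorem exists_scheme_of_t1 [QuasiSeparatedSpace ↥S] (X : Space S)
    (hqs : IsQuasiSeparatedSp X.obj)
    (hT1 : ∀ (U : Over S) (a : (yon S).obj U ⟶ X.obj), RepWith @Etale a →
      ∀ ⦃u u' : ↥U.left⦄, u ⤳ u' → u = u') :
    ∃ Z : Over S, Nonempty ((yon S).obj Z ≅ X.obj) := by
  have hXs := X.property
  obtain ⟨P, p, hpe, hps⟩ := hXs.atlas
  have key : ∀ v : ↥P.left, ∃ W : Set (Points X.obj), IsOpen W ∧ Points.ofPt p v ∈ W ∧
      ∃ M : Over S, IsAffine M.left ∧ Nonempty ((yon S).obj M ≅ openSub X.obj W) :=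
    fun v => exists_affine_nbhd X hqs hT1 p hpe v
  choose W hWopen hWmem M hM e using key
  have hfo : ∀ v, RepWith @IsOpenImmersion ((e v).some.hom ≫ openSubι X.obj (W v)) := fun v =>
    (MorphismProperty.cancel_left_of_respectsIso (RepWith @IsOpenImmersion) (e v).some.hom
      (openSubι X.obj (W v))).2 (repWith_isOpenImmersion_openSubι (hWopen v))
  obtain ⟨Y', e', -⟩ := Groth.Agent.Lib.AlgSpGlue4H7.exists_iso_of_openCover_points
    (fun v => (e v).some.hom ≫ openSubι X.obj (W v)) hfo (fun x => by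
      obtain ⟨v, rfl⟩ := ofPt_surjective p hps x
      have hr := range_map_openSubι hXs (hWopen v)
      obtain ⟨z, hz⟩ := hr.ge (hWmem v)
      refine ⟨v, Points.map (e v).some.inv z, ?_⟩
      rw [← Points.map_comp, ← Category.assoc, Iso.inv_hom_id, Category.id_comp, hz])
  exact ⟨Y', ⟨e'⟩⟩

/-- The main theorem: a quasi-separated algebraic space of dimension `0` over a quasi-separated
scheme is a separated scheme in which every quasi-compact open is affine. -/
theorem exists_separated_scheme [QuasiSeparatedSpace ↥S] (X : Space S)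
    (hqs : IsQuasiSeparatedSp X.obj) (hd : AlgSp.dim X.obj = 0) :
    ∃ (U : Over S) (_ : (yon S).obj U ≅ X.obj), U.left.IsSeparated ∧
      ∀ V : U.left.Opens, IsCompact (V : Set ↥U.left) → IsAffineOpen V := by
  have hT1 : ∀ (U : Over S) (a : (yon S).obj U ⟶ X.obj), RepWith @Etale a →
      ∀ ⦃u u' : ↥U.left⦄, u ⤳ u' → u = u' := by
    intro U a ha
    have hle : topologicalKrullDim ↥U.left ≤ 0 := by
      rw [← hd]
      unfold AlgSp.dim
      exact le_iSup_of_le U (le_iSup_of_le a (le_iSup_of_le ha le_rfl))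
    exact eq_of_specializes_of_dim_le_zero hle
  obtain ⟨Z, ⟨e⟩⟩ := exists_scheme_of_t1 X hqs hT1
  have hZT1 : ∀ ⦃z z' : ↥Z.left⦄, z ⤳ z' → z = z' :=
    hT1 Z e.hom (repWith_of_isIso @Etale e.hom)
  have hZqs : RepWith @QuasiCompact (Limits.diag ((yon S).obj Z)) := by
    have h1 : Limits.diag ((yon S).obj Z) ≫ prod.map e.hom e.hom =
        e.hom ≫ Limits.diag X.obj := prod.diag_map e.hom
    have h2 : RepWith @QuasiCompact (e.hom ≫ Limits.diag X.obj) :=
      (MorphismProperty.cancel_left_of_respectsIso (RepWith @QuasiCompact) e.hom _).2 hqs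
    rw [← h1] at h2
    exact (MorphismProperty.cancel_right_of_respectsIso (RepWith @QuasiCompact) _
      (prod.map e.hom e.hom)).1 h2
  haveI : QuasiSeparated Z.hom := ⟨(repWith_diag_yon_iff @QuasiCompact Z).1 hZqs⟩
  haveI : QuasiSeparatedSpace ↥Z.left := quasiSeparatedSpace_of_quasiSeparated Z.hom
  exact ⟨Z, e, isSeparated_of_t1 hZT1, fun V hV => isAffineOpen_of_isCompact hZT1 V hV⟩

end Groth.Agent.Lib.AlgSpZeroDimH6
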