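import Mathlib
import Groth.Agent.Lib.AlgSpZeroDim_helper6
import Groth.Agent.Lib.AlgSpMonoDisc_helper6
import Groth.Agent.Lib.AlgSpChart_helper7
import Groth.Agent.Lib.AlgSpDescent2_helper7
import Groth.Agent.Lib.AlgSpQC2_helper7

/-!
# Locally quasi-finite algebraic spaces over a locally Artinian base (e.g. a field) (helper6)
-/

set_option autoImplicit false
universe u
open CategoryTheory CategoryTheory.Limits AlgebraicGeometry Opposite TopologicalSpace

namespace Groth.Agent.Lib.AlgSpLqfFieldH6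

open AlgSp Groth.Agent.Lib.AlgSpPoints_helper7 Groth.Agent.Lib.AlgSpOpenSub_helper7
  Groth.Agent.Lib.AlgSpPullback_helper7 Groth.Agent.Lib.AlgSpIso_helper7
  Groth.Agent.Lib.AlgSpBasic_helper7 Groth.Agent.Lib.AlgSpDescent_helper7
  Groth.Agent.Lib.AlgSpFEtDenseH6 Groth.Agent.Lib.AlgSpEtale_helper7
  Groth.Agent.Lib.AlgSpZeroDimH6 Groth.Agent.Lib.AlgSpMonoDiscH6
  Groth.Agent.Lib.AlgSpChart_helper7 Groth.Agent.Lib.AlgSpDescent2_helper7
  Groth.Agent.Lib.AlgSpQC2_helper7

variable {S : Scheme.{u}}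

/-- The canonical chart diagram over the terminal sheaf. -/
theorem comm_terminal {X : Sp S} (p : X ⟶ (yon S).obj (Over.mk (𝟙 S))) {U : Over S}
    (a : (yon S).obj U ⟶ X) :
    a ≫ p = (yon S).map (Over.homMk U.hom : U ⟶ Over.mk (𝟙 S)) ≫ 𝟙 _ :=
  isTerminalYonId.hom_ext _ _

/-- Charts of a locally quasi-finite space over a locally Artinian base are locally Artinian. -/
theorem isLocallyArtinian_chart [IsLocallyArtinian S] {X : Sp S}
    (p : X ⟶ (yon S).obj (Over.mk (𝟙 S)))
    (hp : LocP (@LocallyQuasiFinite ⊓ @LocallyOfFiniteType : MorphismProperty Scheme.{u}) p)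
    {U : Over S} (a : (yon S).obj U ⟶ X) (ha : RepWith @Etale a) :
    LocallyQuasiFinite U.hom ∧ IsLocallyArtinian U.left := by
  have h1 : LocallyQuasiFinite U.hom :=
    (hp a (𝟙 _) (Over.homMk U.hom : U ⟶ Over.mk (𝟙 S)) ha (repWith_id _ _)
      (comm_terminal p a)).1
  exact ⟨h1, IsLocallyArtinian.of_locallyQuasiFinite U.hom⟩

/-- A locally quasi-finite space over a locally Artinian base is quasi-separated. -/
theorem isQuasiSeparatedSp_of_locP [IsLocallyArtinian S] (X : Space S)
    (p : X.obj ⟶ (yon S).obj (Over.mk (𝟙 S)))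
    (hp : LocP (@LocallyQuasiFinite ⊓ @LocallyOfFiniteType : MorphismProperty Scheme.{u}) p) :
    IsQuasiSeparatedSp X.obj := by
  have hXs := X.property
  obtain ⟨U, p₀, hpe, hps⟩ := hXs.atlas
  obtain ⟨hUq, -⟩ := isLocallyArtinian_chart p hp p₀ hpe
  obtain ⟨R, t, s, kp⟩ := exists_isPullback_yon (hXs.representable_from_yon p₀) p₀
  obtain ⟨W, pU, pV, r, ρ, sqW, hρ1, hρ2, -, -, sqD, hr⟩ :=
    exists_fibreProduct_chart p₀ p₀ t s kp
  haveI := hUq
  haveI : LocallyQuasiFinite pV.left :=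
    MorphismProperty.of_isPullback (P := @LocallyQuasiFinite) sqW hUq
  haveI : LocallyQuasiFinite W.hom := by
    rw [← Over.w pV]
    infer_instance
  haveI : IsLocallyArtinian W.left := IsLocallyArtinian.of_locallyQuasiFinite W.hom
  haveI : DiscreteTopology ↥W.left := inferInstance
  haveI : Mono ρ := ⟨fun {T} v w hvw => by
    apply (yon S).map_injective
    apply kp.hom_ext
    · have h3 : v ≫ t = w ≫ t := by
        rw [← hρ1, ← Category.assoc, ← Category.assoc, hvw]
      rw [← Functor.map_comp, ← Functor.map_comp, h3]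
    · have h3 : v ≫ s = w ≫ s := by
        rw [← hρ2, ← Category.assoc, ← Category.assoc, hvw]
      rw [← Functor.map_comp, ← Functor.map_comp, h3]⟩
  haveI : Mono ρ.left := inferInstance
  have hinj : Function.Injective ρ.left := ρ.left.injective
  have hρqc : QuasiCompact ρ.left :=
    ⟨fun O _ hOc => ((hOc.finite_of_discrete).preimage hinj.injOn).isCompact⟩
  exact repWith_of_chart @QuasiCompact descendsEtale_quasiCompact (Limits.diag X.obj) hXs.diag r
    (hr _ hpe hpe) (hr _ hps hps) _ ρ sqD hρqc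

/-- A locally quasi-finite space over a locally Artinian quasi-separated base is a scheme. -/
theorem exists_iso_of_locP [IsLocallyArtinian S] [QuasiSeparatedSpace ↥S] (X : Space S)
    (p : X.obj ⟶ (yon S).obj (Over.mk (𝟙 S)))
    (hp : LocP (@LocallyQuasiFinite ⊓ @LocallyOfFiniteType : MorphismProperty Scheme.{u}) p) :
    ∃ (Z : Over S) (_ : (yon S).obj Z ≅ X.obj),
      LocallyQuasiFinite Z.hom ∧ LocallyOfFiniteType Z.hom := by
  have hqs := isQuasiSeparatedSp_of_locP X p hp
  have hT1 : ∀ (U : Over S) (a : (yon S).obj U ⟶ X.obj), RepWith @Etale a →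
      ∀ ⦃u u' : ↥U.left⦄, u ⤳ u' → u = u' := by
    intro U a ha u u' h
    obtain ⟨-, hUa⟩ := isLocallyArtinian_chart p hp a ha
    haveI := hUa
    haveI : DiscreteTopology ↥U.left := inferInstance
    exact h.eq
  obtain ⟨Z, ⟨e⟩⟩ := exists_scheme_of_t1 X hqs hT1
  have h := hp e.hom (𝟙 _) (Over.homMk Z.hom : Z ⟶ Over.mk (𝟙 S))
    (repWith_of_isIso @Etale e.hom) (repWith_id _ _) (comm_terminal p e.hom)
  exact ⟨Z, e, h.1, h.2⟩

/-- Points of a scheme locally quasi-finite over a locally Artinian base have Artinian local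
affine open neighbourhoods finite over the base. -/
theorem exists_artinian_nbhd [IsLocallyArtinian S] [QuasiSeparatedSpace ↥S] (Z : Over S)
    [LocallyQuasiFinite Z.hom] (u : ↥Z.left) :
    ∃ V : Z.left.Opens, u ∈ V ∧ IsAffineOpen V ∧ IsArtinianRing ↥Γ(Z.left, V) ∧
      IsLocalRing ↥Γ(Z.left, V) ∧ IsFinite (V.ι ≫ Z.hom) := by
  haveI : IsLocallyArtinian Z.left := IsLocallyArtinian.of_locallyQuasiFinite Z.hom
  haveI : DiscreteTopology ↥Z.left := inferInstance
  obtain ⟨V, hVdef⟩ : ∃ V : Z.left.Opens, (V : Set ↥Z.left) = {u} :=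
    ⟨⟨{u}, isOpen_discrete _⟩, rfl⟩
  have hVsub : (V : Set ↥Z.left).Subsingleton := by
    rw [hVdef]
    exact Set.subsingleton_singleton
  have huV : u ∈ V := by
    change u ∈ (V : Set ↥Z.left)
    rw [hVdef]
    rfl
  have hV : IsAffineOpen V := IsAffineOpen.of_subsingleton hVsub
  have hart : IsArtinianRing ↥Γ(Z.left, V) :=
    IsLocallyArtinian.isArtinianRing_presheaf_obj ⟨V, hV⟩
  refine ⟨V, huV, hV, hart, ?_, ?_⟩
  · haveI : Subsingleton ↥(V : Scheme.{u}) := hVsub.coe_sort
    haveI hsub : Subsingleton (PrimeSpectrum ↥Γ(Z.left, V)) :=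
      (hV.isoSpec.inv.homeomorph.injective).subsingleton
    obtain ⟨q, -⟩ : ∃ q, q = hV.primeIdealOf ⟨u, huV⟩ := ⟨_, rfl⟩
    obtain ⟨m, hm, -⟩ := Ideal.exists_le_maximal q.asIdeal q.2.ne_top
    refine IsLocalRing.of_unique_max_ideal ⟨m, hm, fun m' hm' => ?_⟩
    exact congrArg PrimeSpectrum.asIdeal
      (Subsingleton.elim (⟨m', hm'.isPrime⟩ : PrimeSpectrum ↥Γ(Z.left, V)) ⟨m, hm.isPrime⟩)
  · haveI : IsAffine (V : Scheme.{u}) := hV
    haveI : CompactSpace ↥(V : Scheme.{u}) := inferInstance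
    haveI : QuasiCompact (V.ι ≫ Z.hom) := inferInstance
    exact IsFinite.of_locallyQuasiFinite (V.ι ≫ Z.hom)

/-- A scheme covered by opens finite over the base is locally quasi-finite and locally of finite
type over it. -/
theorem lqf_lft_of_forall_finite_nbhd (Z : Over S)
    (h : ∀ u : ↥Z.left, ∃ V : Z.left.Opens, u ∈ V ∧ IsFinite (V.ι ≫ Z.hom)) :
    LocallyQuasiFinite Z.hom ∧ LocallyOfFiniteType Z.hom := by
  choose V hVmem hVfin using h
  have hcov : iSup V = ⊤ := by
    rw [eq_top_iff]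
    intro z _
    exact Opens.mem_iSup.2 ⟨z, hVmem z⟩
  constructor
  · exact IsZariskiLocalAtSource.of_iSup_eq_top (P := @LocallyQuasiFinite) V hcov
      (fun z => by haveI := hVfin z; infer_instance)
  · exact IsZariskiLocalAtSource.of_iSup_eq_top (P := @LocallyOfFiniteType) V hcov
      (fun z => by haveI := hVfin z; infer_instance)

/-- A sheaf isomorphic to a scheme locally quasi-finite and locally of finite type over the base is
locally quasi-finite over the base in the sense of chart diagrams. -/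
theorem locP_of_iso {X : Sp S} (Z : Over S) (e : (yon S).obj Z ≅ X)
    (h1 : LocallyQuasiFinite Z.hom) (h2 : LocallyOfFiniteType Z.hom)
    (p : X ⟶ (yon S).obj (Over.mk (𝟙 S))) :
    LocP (@LocallyQuasiFinite ⊓ @LocallyOfFiniteType : MorphismProperty Scheme.{u}) p := by
  intro A B a b h ha hb hc
  obtain ⟨α, hα⟩ := (yon S).map_surjective (a ≫ e.inv)
  have hαe : RepWith @Etale ((yon S).map α) := by
    rw [hα]
    exact repWith_comp _ ha (repWith_of_isIso @Etale e.inv)
  haveI : Etale α.left := (repWith_yon_map_iff @Etale α).1 hαe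
  haveI : LocallyQuasiFinite α.left := locallyQuasiFinite_of_unramified α.left
  have hw : h.left ≫ B.hom = α.left ≫ Z.hom := by rw [Over.w h, Over.w α]
  haveI : LocallyQuasiFinite (h.left ≫ B.hom) := by
    rw [hw]
    infer_instance
  haveI : LocallyOfFiniteType (h.left ≫ B.hom) := by
    rw [hw]
    infer_instance
  exact ⟨LocallyQuasiFinite.of_comp h.left B.hom, locallyOfFiniteType_of_comp h.left B.hom⟩

end Groth.Agent.Lib.AlgSpLqfFieldH6
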