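import Mathlib
import Groth.Prelude.Def_Found

/-!
# Finiteness of integral closures: local and generic criterion (helper3)

* `NormalAt' K q` : "`R_q` is integrally closed in `K`", for a domain `R` inside a field `K`
  (not necessarily its fraction field); spreading-out lemmas (copies of those in
  `NorLocus_helper3`, with an injectivity hypothesis instead of `IsFractionRing`).
* `fg_of_forall_maximal` : the integral closure is finite as soon as it is "finite on a
  neighbourhood of every maximal ideal".
* `fg_integralClosure_of_local_of_generic` : EGA IV 6.13.? / Stacks 0333-type criterion.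
APPEND-ONLY once landed.
-/

set_option autoImplicit false
universe u

namespace Groth.Agent.Lib.FiniteICH3

section NormalAt'

variable {R : Type*} [CommRing R] [IsDomain R] (K : Type*) [Field K] [Algebra R K]

/-- "`R_q` is integrally closed in `K`". -/
def NormalAt' (q : Ideal R) : Prop :=
  ∀ t : K, IsIntegral R t → ∃ u ∉ q, ∃ r : R, algebraMap R K r = u • t

variable {K}

theorem NormalAt'.mono {q q' : Ideal R} (h : NormalAt' K q') (hle : q ≤ q') : NormalAt' K q := by
  intro t ht
  obtain ⟨u, hu, r, hr⟩ := h t ht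
  exact ⟨u, fun hq => hu (hle hq), r, hr⟩

end NormalAt'

section LemmaC

variable {R : Type*} [CommRing R] [IsDomain R] [IsNoetherianRing R] (K : Type*) [Field K]
  [Algebra R K]

/-- To check normality at `Q` it suffices to check it at the primes `q ≤ Q` which either do not
contain `x` or are associated to `R/x`. -/
theorem normalAt'_of_forall_le (hinj : Function.Injective (algebraMap R K)) (x : R) (hx : x ≠ 0) (Q : Ideal R) [Q.IsPrime]
    (h : ∀ q : Ideal R, q.IsPrime → q ≤ Q →
      (x ∉ q ∨ q ∈ associatedPrimes R (R ⧸ Ideal.span {x})) → NormalAt' K q) :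
    NormalAt' K Q := by
  intro t ht
  by_contra hcon
  push Not at hcon
  let N : Submodule R K := LinearMap.range (Algebra.linearMap R K)
  let D : Ideal R := N.colon {t}
  have hD : ∀ u, u ∈ D ↔ ∃ r : R, algebraMap R K r = u • t := by
    intro u
    rw [Submodule.mem_colon_singleton]
    simp [N]
  have hDQ : D ≤ Q := by
    intro u hu
    by_contra huQ
    obtain ⟨r, hr⟩ := (hD u).mp hu
    exact hcon u huQ r hr
  obtain ⟨q, hqmin, hqQ⟩ := Ideal.exists_minimalPrimes_le hDQ
  have hass : q ∈ associatedPrimes R (R ⧸ D) := by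
    apply Module.associatedPrimes.minimalPrimes_annihilator_subset_associatedPrimes
    rwa [Ideal.annihilator_quotient]
  rw [AssociatedPrimes.mem_iff, isAssociatedPrime_iff] at hass
  obtain ⟨hqp, sbar, hs⟩ := hass
  obtain ⟨s, rfl⟩ := Ideal.Quotient.mk_surjective sbar
  have hq : ∀ u, u ∈ q ↔ ∃ r : R, algebraMap R K r = (u * s) • t := by
    intro u
    rw [hs, Submodule.mem_colon_singleton, Submodule.mem_bot, ← hD]
    rw [show u • (Ideal.Quotient.mk D s) = Ideal.Quotient.mk D (u * s) from rfl,
      Ideal.Quotient.eq_zero_iff_mem]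
  have hX : algebraMap R K x ≠ 0 := (map_ne_zero_iff _ (hinj)).mpr hx
  have hnq : NormalAt' K q := by
    apply h q hqp hqQ
    by_cases hxq : x ∈ q
    · right
      obtain ⟨r', hr'⟩ := (hq x).mp hxq
      rw [AssociatedPrimes.mem_iff, isAssociatedPrime_iff]
      refine ⟨hqp, Ideal.Quotient.mk _ r', ?_⟩
      ext u
      rw [Submodule.mem_colon_singleton, Submodule.mem_bot, hq,
        show u • (Ideal.Quotient.mk (Ideal.span {x}) r') =
          Ideal.Quotient.mk (Ideal.span {x}) (u * r') from rfl,
        Ideal.Quotient.eq_zero_iff_mem, Ideal.mem_span_singleton']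
      rw [Algebra.smul_def, map_mul] at hr'
      constructor
      · rintro ⟨r, hr⟩
        refine ⟨r, ?_⟩
        apply hinj
        rw [map_mul, map_mul, hr, hr', Algebra.smul_def, map_mul]
        ring
      · rintro ⟨c, hc⟩
        refine ⟨c, ?_⟩
        have h1 := congrArg (algebraMap R K) hc
        rw [map_mul, map_mul, hr'] at h1
        apply mul_left_cancel₀ hX
        rw [Algebra.smul_def, map_mul]
        linear_combination h1
    · left; exact hxq
  have hst : IsIntegral R (s • t) := ht.smul s
  obtain ⟨u, hu, r, hr⟩ := hnq _ hst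
  apply hu
  rw [hq]
  exact ⟨r, by rw [hr, mul_smul]⟩

/-- Spreading out normality: if `R` is normal at `P` and on `D(x)` then it is normal on a
neighbourhood `D(g)` of `P`. -/
theorem exists_notMem_forall_normalAt' (hinj : Function.Injective (algebraMap R K)) (P : Ideal R) [P.IsPrime] (hP : NormalAt' K P) (x : R)
    (hx : x ≠ 0) (hxq : ∀ q : Ideal R, q.IsPrime → x ∉ q → NormalAt' K q) :
    ∃ g ∉ P, ∀ Q : Ideal R, Q.IsPrime → g ∉ Q → NormalAt' K Q := by
  classical
  have hfin : (associatedPrimes R (R ⧸ Ideal.span {x})).Finite := associatedPrimes.finite R _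
  let T : Finset (Ideal R) := hfin.toFinset.filter (fun q => ¬ q ≤ P)
  have hex : ∀ q : Ideal R, ¬ q ≤ P → ∃ a ∈ q, a ∉ P := fun q hq =>
    SetLike.not_le_iff_exists.mp hq
  let gq : Ideal R → R := fun q => if hq : ¬ q ≤ P then (hex q hq).choose else 1
  have hgq1 : ∀ q, ¬ q ≤ P → gq q ∈ q := by
    intro q hq
    simp only [gq, dif_pos hq]
    exact (hex q hq).choose_spec.1
  have hgq2 : ∀ q, gq q ∉ P := by
    intro q
    by_cases hq : ¬ q ≤ P
    · simp only [gq, dif_pos hq]
      exact (hex q hq).choose_spec.2
    · simp only [gq, dif_neg hq]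
      exact fun h1 => (Ideal.ne_top_iff_one P).mp (Ideal.IsPrime.ne_top') h1
  refine ⟨∏ q ∈ T, gq q, ?_, ?_⟩
  · rw [Ideal.IsPrime.prod_mem_iff]
    rintro ⟨q, -, hq⟩
    exact hgq2 q hq
  · intro Q hQ hgQ
    haveI := hQ
    apply normalAt'_of_forall_le K hinj x hx Q
    intro q hqp hqQ hq
    rcases hq with hq | hq
    · exact hxq q hqp hq
    · by_cases hle : q ≤ P
      · exact hP.mono hle
      · exfalso
        apply hgQ
        apply hqQ
        have hqT : q ∈ T := by
          simp only [T, Finset.mem_filter, Set.Finite.mem_toFinset]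
          exact ⟨hq, hle⟩
        rw [← Finset.mul_prod_erase T _ hqT]
        exact Ideal.mul_mem_right _ _ (hgq1 q hle)

end LemmaC

section Core

variable (A : Type u) [CommRing A] [IsDomain A] [IsNoetherianRing A] (K : Type u) [Field K]
  [Algebra A K]

/-- The integral closure is a finite module as soon as it is so on a neighbourhood of every
maximal ideal. -/
theorem fg_of_forall_maximal
    (h : ∀ m : Ideal A, m.IsMaximal → ∃ g ∉ m, ∃ N : Submodule A K, N.FG ∧
      N ≤ Subalgebra.toSubmodule (integralClosure A K) ∧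
      ∀ t : K, IsIntegral A t → ∃ n : ℕ, g ^ n • t ∈ N) :
    (Subalgebra.toSubmodule (integralClosure A K)).FG := by
  classical
  let G : Set A := {g | ∃ N : Submodule A K, N.FG ∧
    N ≤ Subalgebra.toSubmodule (integralClosure A K) ∧
    ∀ t : K, IsIntegral A t → ∃ n : ℕ, g ^ n • t ∈ N}
  have hG : Ideal.span G = ⊤ := by
    by_contra hne
    obtain ⟨m, hm, hle⟩ := Ideal.exists_le_maximal _ hne
    obtain ⟨g, hgm, hg⟩ := h m hm
    exact hgm (hle (Ideal.subset_span hg))
  obtain ⟨s, hsG, hs⟩ := (Ideal.span_eq_top_iff_finite G).mp hG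
  have hN : ∀ g : s, ∃ N : Submodule A K, N.FG ∧
      N ≤ Subalgebra.toSubmodule (integralClosure A K) ∧
      ∀ t, IsIntegral A t → ∃ n : ℕ, (g : A) ^ n • t ∈ N := fun g => hsG g.2
  choose N hNfg hNle hNt using hN
  have hfg : (⨆ g : s, N g).FG := Submodule.fg_iSup _ hNfg
  suffices heq : Subalgebra.toSubmodule (integralClosure A K) = ⨆ g : s, N g by
    rw [heq]; exact hfg
  apply le_antisymm
  · intro t ht
    have ht' : IsIntegral A t := ht
    choose n hn using fun g : s => hNt g t ht'
    let n₀ := Finset.univ.sup n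
    have hn₀ : ∀ g : s, (g : A) ^ n₀ • t ∈ N g := by
      intro g
      have hle : n g ≤ n₀ := Finset.le_sup (Finset.mem_univ g)
      obtain ⟨k, hk⟩ := Nat.exists_eq_add_of_le hle
      rw [hk, pow_add, mul_comm, mul_smul]
      exact (N g).smul_mem _ (hn g)
    have h1 : Ideal.span ((fun x => x ^ n₀) '' (s : Set A)) = ⊤ := Ideal.span_pow_eq_top _ hs n₀
    have key : ∀ r ∈ Ideal.span ((fun x => x ^ n₀) '' (s : Set A)), r • t ∈ ⨆ g : s, N g := by
      intro r hr
      induction hr using Submodule.span_induction with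
      | mem x hx =>
        obtain ⟨g, hg, rfl⟩ := hx
        exact (le_iSup N ⟨g, hg⟩) (hn₀ ⟨g, hg⟩)
      | zero => rw [zero_smul]; exact Submodule.zero_mem _
      | add x y _ _ hx hy => rw [add_smul]; exact Submodule.add_mem _ hx hy
      | smul a x _ hx => rw [smul_eq_mul, mul_smul]; exact Submodule.smul_mem _ _ hx
    have := key 1 (h1 ▸ Submodule.mem_top)
    rwa [one_smul] at this
  · exact iSup_le hNle

end Core

section Core2

variable (A : Type u) [CommRing A] [IsDomain A] [IsNoetherianRing A] (K : Type u) [Field K]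
  [Algebra A K]

/-- **Local + generic criterion** for finiteness of the integral closure of a Noetherian domain `A`
in a field `K ⊇ A`. -/
theorem fg_integralClosure_of_local_of_generic
    (hinj : Function.Injective (algebraMap A K))
    (f : A) (hf : f ≠ 0) (T₀ : Finset K) (hT₀ : ∀ z ∈ T₀, IsIntegral A z)
    (h0 : ∀ t : K, IsIntegral A t → ∃ n : ℕ, f ^ n • t ∈ Submodule.span A (T₀ : Set K))
    (hloc : ∀ m : Ideal A, m.IsMaximal → ∃ T : Finset K, (∀ z ∈ T, IsIntegral A z) ∧
      ∀ t : K, IsIntegral A t → ∃ s ∉ m, s • t ∈ Submodule.span A (T : Set K)) :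
    (Subalgebra.toSubmodule (integralClosure A K)).FG := by
  classical
  apply fg_of_forall_maximal
  intro m hm
  haveI := hm
  obtain ⟨T, hT, hTt⟩ := hloc m hm
  let B : Subalgebra A K := Algebra.adjoin A ((T₀ ∪ T : Finset K) : Set K)
  have hBint : ∀ z ∈ ((T₀ ∪ T : Finset K) : Set K), IsIntegral A z := by
    intro z hz
    rcases Finset.mem_union.mp (Finset.mem_coe.mp hz) with h | h
    exacts [hT₀ z h, hT z h]
  have hBfg : (Subalgebra.toSubmodule B).FG := fg_adjoin_of_finite (Finset.finite_toSet _) hBint
  have hBle : B ≤ integralClosure A K := Algebra.adjoin_le hBint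
  haveI : Module.Finite A B := Module.Finite.iff_fg.mpr hBfg
  haveI : IsNoetherianRing B := IsNoetherianRing.of_finite A B
  haveI : Algebra.IsIntegral A B := inferInstance
  have hinjB : Function.Injective (algebraMap B K) := Subtype.val_injective
  have hintB : ∀ t : K, IsIntegral B t → IsIntegral A t := fun t ht => isIntegral_trans t ht
  have hspan0 : Submodule.span A (T₀ : Set K) ≤ Subalgebra.toSubmodule B :=
    Submodule.span_le.mpr (fun z hz => Algebra.subset_adjoin
      (Finset.mem_coe.mpr (Finset.mem_union_left _ (Finset.mem_coe.mp hz))))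
  have hspanT : Submodule.span A (T : Set K) ≤ Subalgebra.toSubmodule B :=
    Submodule.span_le.mpr (fun z hz => Algebra.subset_adjoin
      (Finset.mem_coe.mpr (Finset.mem_union_right _ (Finset.mem_coe.mp hz))))
  have hsmul : ∀ (a : A) (t : K), (algebraMap A B a) • t = a • t := by
    intro a t
    rw [algebraMap_smul]
  -- (i)
  have hi : ∀ Q : Ideal B, Q.IsPrime → algebraMap A B f ∉ Q → NormalAt' K Q := by
    intro Q hQ hfQ t ht
    obtain ⟨n, hn⟩ := h0 t (hintB t ht)
    refine ⟨algebraMap A B f ^ n, fun h => hfQ (hQ.mem_of_pow_mem n h), ⟨f ^ n • t, hspan0 hn⟩, ?_⟩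
    rw [← map_pow, hsmul]
    rfl
  -- (ii)
  have hii : ∀ Q : Ideal B, Q.IsPrime → Q.comap (algebraMap A B) = m → NormalAt' K Q := by
    intro Q hQ hQm t ht
    obtain ⟨s, hs, hst⟩ := hTt t (hintB t ht)
    refine ⟨algebraMap A B s, fun h => hs (hQm ▸ h), ⟨s • t, hspanT hst⟩, ?_⟩
    rw [hsmul]
    rfl
  -- the ideal of "good" elements
  let 𝔞 : Ideal B :=
    { carrier := {x | ∀ Q : Ideal B, Q.IsPrime → x ∉ Q → NormalAt' K Q}
      add_mem' := by
        intro x y hx hy Q hQ hxy
        by_cases hxQ : x ∈ Q
        · exact hy Q hQ (fun hyQ => hxy (Q.add_mem hxQ hyQ))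
        · exact hx Q hQ hxQ
      zero_mem' := fun Q _ h0 => absurd Q.zero_mem h0
      smul_mem' := by
        intro c x hx Q hQ hcx
        exact hx Q hQ (fun hxQ => hcx (Q.mul_mem_left c hxQ)) }
  have hne0 : algebraMap A B f ≠ 0 := by
    intro h
    apply hf
    apply hinj
    have := congrArg (algebraMap B K) h
    rw [← IsScalarTower.algebraMap_apply, map_zero] at this
    rw [this, map_zero]
  have h𝔞m : ¬ 𝔞.comap (algebraMap A B) ≤ m := by
    intro hle
    obtain ⟨Q, hQ𝔞, hQp, hQm⟩ := Ideal.exists_ideal_over_prime_of_isIntegral m 𝔞 hle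
    haveI := hQp
    obtain ⟨g, hgQ, hg⟩ := exists_notMem_forall_normalAt' K hinjB Q (hii Q hQp hQm)
      (algebraMap A B f) hne0 hi
    exact hgQ (hQ𝔞 hg)
  obtain ⟨g, hg𝔞, hgm⟩ := SetLike.not_le_iff_exists.mp h𝔞m
  refine ⟨g, hgm, Subalgebra.toSubmodule B, hBfg,
    Subalgebra.toSubmodule.monotone hBle, ?_⟩
  intro t ht
  let N : Submodule B K := LinearMap.range (Algebra.linearMap B K)
  let D : Ideal B := N.colon {t}
  have hD : ∀ u, u ∈ D ↔ ∃ r : B, algebraMap B K r = u • t := by
    intro u
    rw [Submodule.mem_colon_singleton]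
    simp [N]
  have hrad : algebraMap A B g ∈ D.radical := by
    rw [Ideal.radical_eq_sInf, Submodule.mem_sInf]
    rintro Q ⟨hDQ, hQp⟩
    by_contra hgQ
    have hN := hg𝔞 Q hQp hgQ
    obtain ⟨u, hu, r, hr⟩ := hN t ht.tower_top
    exact hu (hDQ ((hD u).mpr ⟨r, hr⟩))
  obtain ⟨n, hn⟩ := hrad
  obtain ⟨r, hr⟩ := (hD _).mp hn
  refine ⟨n, ?_⟩
  rw [← map_pow, hsmul] at hr
  rw [← hr]
  exact r.2

end Core2

end Groth.Agent.Lib.FiniteICH3

namespace Groth.Agent.Lib.FiniteICH3

section Interface

variable (R : Type u) [CommRing R] [IsDomain R] (K : Type u) [Field K] [Algebra R K]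
  [IsFractionRing R K]

/-- N-1 can be tested in any fraction field. -/
theorem isN1_iff : CAlg.IsN1 R ↔ (Subalgebra.toSubmodule (integralClosure R K)).FG := by
  have e : integralClosure R (FractionRing R) ≃ₐ[R] integralClosure R K :=
    (FractionRing.algEquiv R K).mapIntegralClosure
  unfold CAlg.IsN1
  constructor
  · intro h
    haveI := h
    have h2 : Module.Finite R (integralClosure R K) := Module.Finite.equiv e.toLinearEquiv
    exact Module.Finite.iff_fg.mp h2
  · intro h
    have h2 : Module.Finite R (integralClosure R K) := Module.Finite.iff_fg.mpr h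
    exact Module.Finite.equiv e.symm.toLinearEquiv

/-- `K` is also the fraction field of any localization of `R` at non-zero-divisors. -/
theorem exists_algebra_of_isLocalization (M : Submonoid R) (hM : M ≤ nonZeroDivisors R)
    (S : Type u) [CommRing S] [Algebra R S] [IsLocalization M S] :
    ∃ (_ : Algebra S K), IsScalarTower R S K ∧ IsFractionRing S K := by
  have hunits : ∀ y : M, IsUnit (algebraMap R K y) :=
    fun y => IsLocalization.map_units K (⟨y, hM y.2⟩ : nonZeroDivisors R)
  letI : Algebra S K := (IsLocalization.lift hunits).toAlgebra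
  haveI : IsScalarTower R S K :=
    IsScalarTower.of_algebraMap_eq fun a => (IsLocalization.lift_eq hunits a).symm
  exact ⟨inferInstance, inferInstance,
    IsFractionRing.isFractionRing_of_isDomain_of_isLocalization M S K⟩

/-- If a localization `M⁻¹R` is integrally closed then every integral element of `K` has a
denominator in `M`. -/
theorem exists_smul_of_isIntegrallyClosed (M : Submonoid R) (hM : M ≤ nonZeroDivisors R)
    (S : Type u) [CommRing S] [Algebra R S] [IsLocalization M S] [IsIntegrallyClosed S]
    (t : K) (ht : IsIntegral R t) : ∃ s ∈ M, ∃ r : R, algebraMap R K r = s • t := by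
  obtain ⟨alg, tower, frac⟩ := exists_algebra_of_isLocalization R K M hM S
  letI := alg
  haveI := tower
  haveI := frac
  haveI : IsDomain S := IsLocalization.isDomain_of_le_nonZeroDivisors S hM
  have ht' : IsIntegral S t := ht.tower_top
  obtain ⟨x, hx⟩ := IsIntegrallyClosed.isIntegral_iff.mp ht'
  obtain ⟨r, s, rfl⟩ := IsLocalization.exists_mk'_eq M x
  refine ⟨s, s.2, r, ?_⟩
  have h1 := IsLocalization.mk'_spec S r s
  have h2 := congrArg (algebraMap S K) h1
  rw [map_mul, hx, ← IsScalarTower.algebraMap_apply, ← IsScalarTower.algebraMap_apply] at h2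
  rw [← h2, Algebra.smul_def, mul_comm]

/-- If `M⁻¹R` is N-1, the integral closure of `R` is finite "up to denominators in `M`". -/
theorem exists_finset_of_isN1_localization (M : Submonoid R) (hM : M ≤ nonZeroDivisors R)
    (S : Type u) [CommRing S] [IsDomain S] [Algebra R S] [IsLocalization M S] (hS : CAlg.IsN1 S) :
    ∃ T : Finset K, (∀ z ∈ T, IsIntegral R z) ∧
      ∀ t : K, IsIntegral R t → ∃ s ∈ M, s • t ∈ Submodule.span R (T : Set K) := by
  classical
  obtain ⟨alg, tower, frac⟩ := exists_algebra_of_isLocalization R K M hM S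
  letI := alg
  haveI := tower
  haveI := frac
  obtain ⟨Y, hY⟩ := (isN1_iff S K).mp hS
  have hYint : ∀ y ∈ Y, IsIntegral S y := by
    intro y hy
    have : y ∈ Subalgebra.toSubmodule (integralClosure S K) := hY ▸ Submodule.subset_span hy
    exact this
  have hmul : ∀ y : K, IsIntegral S y → ∃ s : M, IsIntegral R (s • y) := fun y hy =>
    IsIntegral.exists_multiple_integral_of_isLocalization M y hy
  choose! sy hsy using hmul
  refine ⟨Y.image (fun y => sy y • y), ?_, ?_⟩
  · intro z hz
    obtain ⟨y, hy, rfl⟩ := Finset.mem_image.mp hz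
    exact hsy y (hYint y hy)
  · intro t ht
    have ht' : t ∈ Submodule.span S (Y : Set K) := by
      rw [hY]
      exact (ht.tower_top : IsIntegral S t)
    have key : ∀ t ∈ Submodule.span S (Y : Set K), ∃ s ∈ M,
        s • t ∈ Submodule.span R ((Y.image (fun y => sy y • y) : Finset K) : Set K) := by
      intro t ht
      induction ht using Submodule.span_induction with
      | mem y hy =>
        refine ⟨sy y, (sy y).2, Submodule.subset_span ?_⟩
        exact Finset.mem_coe.mpr (Finset.mem_image.mpr ⟨y, hy, rfl⟩)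
      | zero => exact ⟨1, M.one_mem, by rw [smul_zero]; exact Submodule.zero_mem _⟩
      | add x y _ _ hx hy =>
        obtain ⟨s1, hs1, h1⟩ := hx
        obtain ⟨s2, hs2, h2⟩ := hy
        refine ⟨s1 * s2, M.mul_mem hs1 hs2, ?_⟩
        rw [smul_add]
        apply Submodule.add_mem
        · rw [mul_comm, mul_smul]; exact Submodule.smul_mem _ _ h1
        · rw [mul_smul]; exact Submodule.smul_mem _ _ h2
      | smul c x _ hx =>
        obtain ⟨s1, hs1, h1⟩ := hx
        obtain ⟨⟨a, u⟩, hau⟩ := IsLocalization.surj M c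
        refine ⟨u * s1, M.mul_mem u.2 hs1, ?_⟩
        have h3 : ((u : R) * s1) • c • x = a • (s1 • x) := by
          rw [mul_smul, smul_comm s1 c x, ← smul_assoc (u : R) c, Algebra.smul_def (u : R) c,
            mul_comm, hau, algebraMap_smul]
        rw [h3]
        exact Submodule.smul_mem _ _ h1
    exact key t ht'

end Interface

end Groth.Agent.Lib.FiniteICH3

namespace Groth.Agent.Lib.FiniteICH3

section N1

variable (R : Type u) [CommRing R] [IsDomain R]

/-- localizations of an N-1 domain are N-1 -/
theorem isN1_localization (h : CAlg.IsN1 R) (M : Submonoid R) (hM : M ≤ nonZeroDivisors R)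
    (S : Type u) [CommRing S] [IsDomain S] [Algebra R S] [IsLocalization M S] : CAlg.IsN1 S := by
  classical
  let K := FractionRing R
  obtain ⟨alg, tower, frac⟩ := exists_algebra_of_isLocalization R K M hM S
  letI := alg
  haveI := tower
  haveI := frac
  rw [isN1_iff S K]
  obtain ⟨Y, hY⟩ := (isN1_iff R K).mp h
  refine ⟨Y, le_antisymm ?_ ?_⟩
  · rw [Submodule.span_le]
    intro y hy
    have h1 : y ∈ Subalgebra.toSubmodule (integralClosure R K) := hY ▸ Submodule.subset_span hy
    have h2 : IsIntegral R y := h1
    exact (h2.tower_top : IsIntegral S y)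
  · intro x hx
    have hx' : IsIntegral S x := hx
    obtain ⟨s, hs⟩ := IsIntegral.exists_multiple_integral_of_isLocalization M x hx'
    have h1 : s • x ∈ Submodule.span R (Y : Set K) := by
      rw [hY]
      exact hs
    have h2 : s • x ∈ Submodule.span S (Y : Set K) :=
      Submodule.span_subset_span R S _ h1
    have hu : IsUnit (algebraMap R S s) := IsLocalization.map_units S s
    obtain ⟨u, hu'⟩ := hu
    have h3 : x = (↑u⁻¹ : S) • (s • x) := by
      rw [Submonoid.smul_def, ← algebraMap_smul S (s : R) x, ← hu', smul_smul,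
        Units.inv_mul, one_smul]
    rw [h3]
    exact Submodule.smul_mem _ _ h2

/-- an N-1 domain has an integrally closed principal localization -/
theorem exists_isIntegrallyClosed_away (h : CAlg.IsN1 R) :
    ∃ f : R, f ≠ 0 ∧ IsIntegrallyClosed (Localization.Away f) := by
  classical
  let K := FractionRing R
  obtain ⟨Y, hY⟩ := (isN1_iff R K).mp h
  obtain ⟨b, hb⟩ := IsLocalization.exist_integer_multiples_of_finset (nonZeroDivisors R) Y
  have hb0 : (b : R) ≠ 0 := nonZeroDivisors.ne_zero b.2
  refine ⟨b, hb0, ?_⟩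
  have hM : Submonoid.powers (b : R) ≤ nonZeroDivisors R :=
    powers_le_nonZeroDivisors_of_noZeroDivisors hb0
  obtain ⟨alg, tower, frac⟩ :=
    exists_algebra_of_isLocalization R K (Submonoid.powers (b : R)) hM (Localization.Away (b : R))
  letI := alg
  haveI := tower
  haveI := frac
  haveI : IsDomain (Localization.Away (b : R)) :=
    IsLocalization.isDomain_of_le_nonZeroDivisors _ hM
  -- every integral element has denominator `b`
  have key : ∀ t : K, IsIntegral R t → ∃ r : R, algebraMap R K r = (b : R) • t := by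
    intro t ht
    have ht' : t ∈ Submodule.span R (Y : Set K) := by
      rw [hY]; exact ht
    clear ht
    induction ht' using Submodule.span_induction with
    | mem y hy =>
      obtain ⟨r, hr⟩ := hb y hy
      exact ⟨r, hr⟩
    | zero => exact ⟨0, by rw [map_zero, smul_zero]⟩
    | add x y _ _ hx hy =>
      obtain ⟨r1, h1⟩ := hx
      obtain ⟨r2, h2⟩ := hy
      exact ⟨r1 + r2, by rw [map_add, h1, h2, smul_add]⟩
    | smul c x _ hx =>
      obtain ⟨r1, h1⟩ := hx
      exact ⟨c * r1, by rw [map_mul, h1, smul_comm, Algebra.smul_def c]⟩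
  rw [isIntegrallyClosed_iff K]
  intro x hx
  obtain ⟨s, hs⟩ := IsIntegral.exists_multiple_integral_of_isLocalization
    (Submonoid.powers (b : R)) x hx
  obtain ⟨r, hr⟩ := key _ hs
  have hbs : (b : R) * s ∈ Submonoid.powers (b : R) :=
    (Submonoid.powers (b : R)).mul_mem (Submonoid.mem_powers _) s.2
  refine ⟨IsLocalization.mk' _ r (⟨(b : R) * s, hbs⟩ : Submonoid.powers (b : R)), ?_⟩
  have h1 := IsLocalization.mk'_spec (Localization.Away (b : R)) r
    (⟨(b : R) * s, hbs⟩ : Submonoid.powers (b : R))
  have h2 := congrArg (algebraMap (Localization.Away (b : R)) K) h1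
  rw [map_mul, ← IsScalarTower.algebraMap_apply, ← IsScalarTower.algebraMap_apply, hr] at h2
  have hne : algebraMap R K ((b : R) * s) ≠ 0 := by
    rw [map_ne_zero_iff _ (IsFractionRing.injective R K)]
    exact mul_ne_zero hb0 (nonZeroDivisors.ne_zero (hM s.2))
  apply mul_right_cancel₀ hne
  rw [h2, Submonoid.smul_def, Algebra.smul_def, Algebra.smul_def, map_mul]
  ring

/-- **Stacks 0333-type criterion**: a Noetherian domain with an integrally closed principal
localization, all of whose local rings at maximal ideals are N-1, is N-1. -/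
theorem isN1_of_local_of_generic [IsNoetherianRing R] (f : R) (hf : f ≠ 0)
    (hic : IsIntegrallyClosed (Localization.Away f))
    (hloc : ∀ (m : Ideal R) [m.IsMaximal], CAlg.IsN1 (Localization.AtPrime m)) : CAlg.IsN1 R := by
  classical
  let K := FractionRing R
  rw [isN1_iff R K]
  haveI := hic
  apply fg_integralClosure_of_local_of_generic R K (IsFractionRing.injective R K) f hf {1}
  · intro z hz
    rw [Finset.mem_singleton] at hz
    rw [hz]
    exact isIntegral_one
  · intro t ht
    obtain ⟨s, ⟨n, rfl⟩, r, hr⟩ := exists_smul_of_isIntegrallyClosed R K (Submonoid.powers f)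
      (powers_le_nonZeroDivisors_of_noZeroDivisors hf) (Localization.Away f) t ht
    refine ⟨n, ?_⟩
    rw [← hr, Finset.coe_singleton, Submodule.mem_span_singleton]
    exact ⟨r, by rw [Algebra.smul_def, mul_one]⟩
  · intro m hm
    haveI := hm
    obtain ⟨T, hT, hTt⟩ := exists_finset_of_isN1_localization R K m.primeCompl
      (Ideal.primeCompl_le_nonZeroDivisors m) (Localization.AtPrime m) (hloc m)
    exact ⟨T, hT, hTt⟩

end N1

end Groth.Agent.Lib.FiniteICH3

namespace Groth.Agent.Lib.FiniteICH3

section LocMod

variable {A : Type u} [CommRing A] (M : Submonoid A) (P : Type u) [AddCommGroup P] [Module A P]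

/-- If the localized module is finite over the localized ring then the module is finite "up to
denominators". -/
theorem exists_finset_of_finite_localizedModule
    (h : Module.Finite (Localization M) (LocalizedModule M P)) :
    ∃ T : Finset P, ∀ t : P, ∃ s ∈ M, s • t ∈ Submodule.span A (T : Set P) := by
  classical
  obtain ⟨X, hX⟩ := h.fg_top
  have hrep : ∀ x : LocalizedModule M P, ∃ (p : P) (s : M), x = LocalizedModule.mk p s := by
    intro x
    induction x using LocalizedModule.induction_on with
    | h m s => exact ⟨m, s, rfl⟩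
  choose px sx hpx using hrep
  let f := LocalizedModule.mkLinearMap M P
  refine ⟨X.image px, ?_⟩
  have htop : Submodule.span (Localization M) (f '' ((X.image px : Finset P) : Set P)) = ⊤ := by
    rw [eq_top_iff, ← hX, Submodule.span_le]
    intro x hx
    have h1 : f (px x) ∈ Submodule.span (Localization M) (f '' ((X.image px : Finset P) : Set P)) :=
      Submodule.subset_span ⟨px x, Finset.mem_coe.mpr (Finset.mem_image_of_mem _ hx), rfl⟩
    have h2 : x = (Localization.mk 1 (sx x)) • f (px x) := by
      rw [LocalizedModule.mkLinearMap_apply, LocalizedModule.mk_smul_mk, one_smul, mul_one]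
      exact hpx x
    rw [SetLike.mem_coe, h2]
    exact Submodule.smul_mem _ _ h1
  intro t
  have ht : f t ∈ Submodule.span (Localization M) (f '' ((X.image px : Finset P) : Set P)) := by
    rw [htop]; exact Submodule.mem_top
  obtain ⟨s, hs⟩ := multiple_mem_span_of_mem_localization_span M (Localization M) _ _ ht
  rw [← Submodule.map_span, Submodule.mem_map] at hs
  obtain ⟨y, hy, hys⟩ := hs
  have h3 : f y = f (s • t) := by
    rw [hys, Submonoid.smul_def, Submonoid.smul_def, map_smul]
  rw [LocalizedModule.mkLinearMap_apply, LocalizedModule.mkLinearMap_apply,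
    LocalizedModule.mk_eq] at h3
  obtain ⟨u, hu⟩ := h3
  simp only [one_smul] at hu
  refine ⟨u * s, M.mul_mem u.2 s.2, ?_⟩
  rw [mul_smul]
  have h4 : (u : A) • ((s : A) • t) = (u : A) • y := by
    simpa [Submonoid.smul_def] using hu.symm
  rw [h4]
  exact Submodule.smul_mem _ _ hy

end LocMod

section EGA

variable (A : Type u) [CommRing A] [IsDomain A] [IsNoetherianRing A] (K : Type u) [Field K]
  [Algebra A K]

theorem exists_finset_integral (M : Submonoid A)
    (h : Module.Finite (Localization M) (LocalizedModule M (integralClosure A K))) :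
    ∃ T : Finset K, (∀ z ∈ T, IsIntegral A z) ∧
      ∀ t : K, IsIntegral A t → ∃ s ∈ M, s • t ∈ Submodule.span A (T : Set K) := by
  classical
  obtain ⟨T, hT⟩ := exists_finset_of_finite_localizedModule M (integralClosure A K) h
  refine ⟨T.image Subtype.val, ?_, ?_⟩
  · intro z hz
    obtain ⟨y, -, rfl⟩ := Finset.mem_image.mp hz
    exact y.2
  · intro t ht
    obtain ⟨s, hs, hst⟩ := hT ⟨t, ht⟩
    refine ⟨s, hs, ?_⟩
    have h1 := Submodule.mem_map_of_mem (f := (integralClosure A K).val.toLinearMap) hst
    rw [Submodule.map_span] at h1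
    have h2 : ((integralClosure A K).val.toLinearMap '' (T : Set (integralClosure A K))) =
        ((T.image Subtype.val : Finset K) : Set K) := by
      ext z
      simp
    rw [h2] at h1
    exact h1

/-- **EGA IV 6.13-type criterion** for finiteness of the integral closure. -/
theorem finite_integralClosure_of_local_of_generic
    (hinj : Function.Injective (algebraMap A K)) (f : A) (hf : f ≠ 0)
    (h0 : Module.Finite (Localization.Away f)
      (LocalizedModule (Submonoid.powers f) (integralClosure A K)))
    (hloc : ∀ (p : Ideal A) [p.IsPrime], Module.Finite (Localization.AtPrime p)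
      (LocalizedModule p.primeCompl (integralClosure A K))) :
    Module.Finite A (integralClosure A K) := by
  obtain ⟨T₀, hT₀, hT₀t⟩ := exists_finset_integral A K (Submonoid.powers f) h0
  suffices hfg : (Subalgebra.toSubmodule (integralClosure A K)).FG from
    Module.Finite.iff_fg.mpr hfg
  apply fg_integralClosure_of_local_of_generic A K hinj f hf T₀ hT₀
  · intro t ht
    obtain ⟨s, ⟨n, rfl⟩, hs⟩ := hT₀t t ht
    exact ⟨n, hs⟩
  · intro m hm
    haveI := hm.isPrime
    obtain ⟨T, hT, hTt⟩ := exists_finset_integral A K m.primeCompl (hloc m)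
    exact ⟨T, hT, hTt⟩

end EGA

end Groth.Agent.Lib.FiniteICH3
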