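import Mathlib
import Groth.Prelude.Def_Found
import Groth.Agent.Lib.Japanese6_helper9

/-!
# N-1 and N-2 pass to the polynomial ring (helper3)
APPEND-ONLY once landed.
-/

set_option autoImplicit false
universe u

open Polynomial

namespace Groth.Agent.Lib.PolyN2H3

section Iota

variable {R B : Type*} [CommRing R] [CommRing B] [Algebra R B]

/-- `R[X] → B[X]`, `X ↦ X ^ q`. -/
noncomputable def iota (q : ℕ) : R[X] →+* B[X] :=
  ((expand B q : B[X] →ₐ[B] B[X]) : B[X] →+* B[X]).comp (mapRingHom (algebraMap R B))

theorem iota_apply (q : ℕ) (g : R[X]) :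
    iota (B := B) q g = expand B q (g.map (algebraMap R B)) := rfl

theorem iota_C (q : ℕ) (r : R) : iota (B := B) q (C r) = C (algebraMap R B r) := by
  simp [iota_apply]

theorem iota_X (q : ℕ) : iota (R := R) (B := B) q X = X ^ q := by simp [iota_apply]

theorem iota_injective {q : ℕ} (hq : 0 < q) (hinj : Function.Injective (algebraMap R B)) :
    Function.Injective (iota (R := R) (B := B) q) := by
  intro a b hab
  rw [iota_apply, iota_apply] at hab
  exact Polynomial.map_injective _ hinj (expand_injective hq hab)

theorem finite_iota [Module.Finite R B] {q : ℕ} (hq : 0 < q) :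
    (iota (R := R) (B := B) q).Finite := by
  letI : Algebra R[X] B[X] := (iota q).toAlgebra
  haveI : IsScalarTower R R[X] B[X] := IsScalarTower.of_algebraMap_eq fun r => by
    show C (algebraMap R B r) = iota q (C r)
    rw [iota_C]
  haveI : Algebra.FiniteType R B[X] := inferInstance
  haveI : Algebra.FiniteType R[X] B[X] :=
    Algebra.FiniteType.of_restrictScalars_finiteType R R[X] B[X]
  haveI : Algebra.IsIntegral R[X] B[X] := by
    refine ⟨fun f => ?_⟩
    induction f using Polynomial.induction_on' with
    | add f g hf hg => exact hf.add hg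
    | monomial n a =>
      rw [← C_mul_X_pow_eq_monomial]
      refine IsIntegral.mul ?_ (IsIntegral.pow ?_ n)
      · have ha : IsIntegral R a := Algebra.IsIntegral.isIntegral a
        have : IsIntegral R (C a : B[X]) := ha.map (CAlgHom (R := R) (A := B))
        exact this.tower_top
      · refine IsIntegral.of_pow hq ?_
        have : (X : B[X]) ^ q = algebraMap R[X] B[X] X := (iota_X q).symm
        rw [this]
        exact isIntegral_algebraMap
  have h : (algebraMap R[X] B[X]).Finite :=
    RingHom.finite_algebraMap.mpr Algebra.IsIntegral.finite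
  exact h

/-- Apply a function (fixing `0`) to the coefficients of a polynomial. -/
noncomputable def liftPoly (r₀ : R → B) (g : R[X]) : B[X] :=
  ∑ n ∈ g.support, monomial n (r₀ (g.coeff n))

theorem coeff_liftPoly (r₀ : R → B) (h0 : r₀ 0 = 0) (g : R[X]) (m : ℕ) :
    (liftPoly r₀ g).coeff m = r₀ (g.coeff m) := by
  classical
  rw [liftPoly, finset_sum_coeff]
  simp only [coeff_monomial]
  rw [Finset.sum_ite_eq' g.support m]
  split_ifs with h
  · rfl
  · rw [notMem_support_iff.mp h, h0]

/-- A `p^e`-th root of the image of a polynomial under `iota`, coefficientwise. -/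
theorem pow_eq_iota {p : ℕ} [ExpChar B p] (e : ℕ) (g : R[X]) (r₀ : R → B) (h0 : r₀ 0 = 0)
    (hr : ∀ k, (r₀ (g.coeff k)) ^ (p ^ e) = algebraMap R B (g.coeff k)) :
    (liftPoly r₀ g) ^ (p ^ e) = iota (p ^ e) g := by
  have hp : 0 < p ^ e := pow_pos (expChar_pos B p) e
  rw [← map_iterateFrobenius_expand, iota_apply]
  ext m
  rw [coeff_map, coeff_expand hp, coeff_expand hp]
  split_ifs with h
  · rw [coeff_map, iterateFrobenius_def, coeff_liftPoly r₀ h0]
    exact hr _
  · rw [iterateFrobenius_def, zero_pow hp.ne']

end Iota

section GenLemma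

variable (R : Type u) [CommRing R] [IsDomain R] [IsNoetherianRing R]
  (L : Type u) [Field L] [Algebra R L] [Algebra (FractionRing R) L]
  [IsScalarTower R (FractionRing R) L] [FiniteDimensional (FractionRing R) L]
  (p : ℕ) [ExpChar R p] (e : ℕ)
  (M : Type u) [Field M] [Algebra R[X] M] [Algebra (FractionRing R[X]) M]
  [IsScalarTower R[X] (FractionRing R[X]) M] [FiniteDimensional (FractionRing R[X]) M]

set_option maxHeartbeats 1600000 in
set_option synthInstance.maxHeartbeats 200000 in
/-- **General lemma**: `M` is spanned over `Frac R[X]` by finitely many elements whose `p^e`-th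
powers are quotients of polynomials all of whose coefficients have `p^e`-th roots in `L`, and the
integral closure of `R` in `L` is finite; then the integral closure of `R[X]` in `M` is finite. -/
theorem finite_integralClosure_poly (hfin : Module.Finite R (integralClosure R L))
    {m : ℕ} (b : Fin m → M) (hb : Submodule.span (FractionRing R[X]) (Set.range b) = ⊤)
    (hgh : ∀ j, ∃ g h : R[X], h ≠ 0 ∧
      (b j) ^ (p ^ e) * algebraMap R[X] M h = algebraMap R[X] M g ∧
      (∀ k, ∃ y : L, y ^ (p ^ e) = algebraMap R L (g.coeff k)) ∧
      (∀ k, ∃ y : L, y ^ (p ^ e) = algebraMap R L (h.coeff k))) :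
    Module.Finite R[X] (integralClosure R[X] M) := by
  classical
  haveI := hfin
  have hq : 0 < p ^ e := pow_pos (expChar_pos R p) e
  have hinjRL : Function.Injective (algebraMap R L) := by
    rw [IsScalarTower.algebraMap_eq R (FractionRing R) L]
    exact (algebraMap (FractionRing R) L).injective.comp
      (IsFractionRing.injective R (FractionRing R))
  have hinjRR'' : Function.Injective (algebraMap R (integralClosure R L)) := by
    intro x y hxy
    apply hinjRL
    have := congrArg (algebraMap (integralClosure R L) L) hxy
    rwa [← IsScalarTower.algebraMap_apply, ← IsScalarTower.algebraMap_apply] at this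
  haveI : IsIntegrallyClosed (integralClosure R L) :=
    integralClosure.isIntegrallyClosedOfFiniteExtension (FractionRing R)
  haveI : ExpChar (integralClosure R L) p := expChar_of_injective_ringHom hinjRR'' p
  -- the algebra structure `R[X] → R''[X]`, `X ↦ X ^ (p ^ e)`
  letI algTT' : Algebra R[X] (integralClosure R L)[X] :=
    (iota (R := R) (B := integralClosure R L) (p ^ e)).toAlgebra
  have hfinT : Module.Finite R[X] (integralClosure R L)[X] := finite_iota hq
  have hinjι : Function.Injective (algebraMap R[X] (integralClosure R L)[X]) :=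
    iota_injective hq hinjRR''
  have hιdef : ∀ g : R[X], algebraMap R[X] (integralClosure R L)[X] g = iota (p ^ e) g :=
    fun g => rfl
  have hinjTQ' : Function.Injective
      (algebraMap R[X] (FractionRing (integralClosure R L)[X])) := by
    rw [IsScalarTower.algebraMap_eq R[X] (integralClosure R L)[X]
      (FractionRing (integralClosure R L)[X])]
    exact (IsFractionRing.injective (integralClosure R L)[X]
      (FractionRing (integralClosure R L)[X])).comp hinjι
  haveI : FaithfulSMul R[X] (FractionRing (integralClosure R L)[X]) :=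
    (faithfulSMul_iff_algebraMap_injective R[X] _).mpr hinjTQ'
  letI algQQ' : Algebra (FractionRing R[X]) (FractionRing (integralClosure R L)[X]) :=
    FractionRing.liftAlgebra R[X] (FractionRing (integralClosure R L)[X])
  haveI : IsScalarTower R[X] (FractionRing R[X]) (FractionRing (integralClosure R L)[X]) :=
    FractionRing.isScalarTower_liftAlgebra R[X] (FractionRing (integralClosure R L)[X])
  haveI : ExpChar (FractionRing (integralClosure R L)[X]) p :=
    expChar_of_injective_ringHom
      (IsFractionRing.injective (integralClosure R L)[X] (FractionRing (integralClosure R L)[X])) p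
  haveI : ExpChar (AlgebraicClosure (FractionRing (integralClosure R L)[X])) p :=
    expChar_of_injective_ringHom (algebraMap (FractionRing (integralClosure R L)[X])
      (AlgebraicClosure (FractionRing (integralClosure R L)[X]))).injective p
  haveI : Algebra.IsAlgebraic (FractionRing R[X]) M := Algebra.IsAlgebraic.of_finite _ _
  -- the embedding of `M`
  let σ : M →ₐ[FractionRing R[X]] AlgebraicClosure (FractionRing (integralClosure R L)[X]) :=
    IsAlgClosed.lift
  -- the ring hom `R''[X] → Ω`
  have hψinj : Function.Injective (algebraMap (integralClosure R L)[X]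
      (AlgebraicClosure (FractionRing (integralClosure R L)[X]))) := by
    rw [IsScalarTower.algebraMap_eq (integralClosure R L)[X]
      (FractionRing (integralClosure R L)[X])
      (AlgebraicClosure (FractionRing (integralClosure R L)[X]))]
    exact (algebraMap (FractionRing (integralClosure R L)[X])
      (AlgebraicClosure (FractionRing (integralClosure R L)[X]))).injective.comp
      (IsFractionRing.injective (integralClosure R L)[X] (FractionRing (integralClosure R L)[X]))
  have hσT : ∀ t : R[X], σ (algebraMap R[X] M t) =
      algebraMap (integralClosure R L)[X]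
        (AlgebraicClosure (FractionRing (integralClosure R L)[X]))
        (algebraMap R[X] (integralClosure R L)[X] t) := by
    intro t
    rw [IsScalarTower.algebraMap_apply R[X] (FractionRing R[X]) M, σ.commutes,
      ← IsScalarTower.algebraMap_apply R[X] (FractionRing R[X]),
      ← IsScalarTower.algebraMap_apply R[X] (integralClosure R L)[X]]
  -- roots of coefficients
  let r₀ : R → integralClosure R L := fun c =>
    if hc : ∃ y : integralClosure R L, y ^ (p ^ e) = algebraMap R (integralClosure R L) c
    then hc.choose else 0
  have hr₀ : ∀ c, (∃ y : L, y ^ (p ^ e) = algebraMap R L c) →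
      (r₀ c) ^ (p ^ e) = algebraMap R (integralClosure R L) c := by
    rintro c ⟨y, hy⟩
    have hyint : IsIntegral R y :=
      IsIntegral.of_pow hq (hy ▸ (isIntegral_algebraMap : IsIntegral R (algebraMap R L c)))
    have hex : ∃ y' : integralClosure R L,
        y' ^ (p ^ e) = algebraMap R (integralClosure R L) c :=
      ⟨⟨y, hyint⟩, Subtype.ext (by
        show y ^ (p ^ e) = algebraMap (integralClosure R L) L (algebraMap R _ c)
        rw [← IsScalarTower.algebraMap_apply]
        exact hy)⟩
    simp only [r₀, dif_pos hex]
    exact hex.choose_spec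
  have hr₀0 : r₀ 0 = 0 := by
    have := hr₀ 0 ⟨0, by rw [zero_pow hq.ne', map_zero]⟩
    rw [map_zero] at this
    exact (pow_eq_zero_iff hq.ne').mp this
  -- images of the spanning elements lie in `Q'`
  have hbj : ∀ j, σ (b j) ∈ (algebraMap (FractionRing (integralClosure R L)[X])
      (AlgebraicClosure (FractionRing (integralClosure R L)[X]))).range := by
    intro j
    obtain ⟨g, h, hh0, hbgh, hg, hh⟩ := hgh j
    have hG := pow_eq_iota (B := integralClosure R L) e g r₀ hr₀0 (fun k => hr₀ _ (hg k))
    have hH := pow_eq_iota (B := integralClosure R L) e h r₀ hr₀0 (fun k => hr₀ _ (hh k))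
    have hH0 : liftPoly r₀ h ≠ 0 := by
      intro h0
      rw [h0, zero_pow hq.ne'] at hH
      exact hh0 (hinjι (by rw [hιdef, ← hH, map_zero]))
    have hH0' : algebraMap (integralClosure R L)[X]
        (AlgebraicClosure (FractionRing (integralClosure R L)[X])) (liftPoly r₀ h) ≠ 0 :=
      fun h0 => hH0 (hψinj (by rw [h0, map_zero]))
    have h1 := congrArg σ hbgh
    rw [map_mul, map_pow, hσT, hσT, hιdef, hιdef, ← hG, ← hH, map_pow, map_pow, ← mul_pow] at h1
    have h2 := iterateFrobenius_inj
      (AlgebraicClosure (FractionRing (integralClosure R L)[X])) p e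
      (by simpa [iterateFrobenius_def] using h1)
    refine ⟨algebraMap (integralClosure R L)[X] _ (liftPoly r₀ g) /
      algebraMap (integralClosure R L)[X] _ (liftPoly r₀ h), ?_⟩
    rw [map_div₀, ← IsScalarTower.algebraMap_apply, ← IsScalarTower.algebraMap_apply,
      div_eq_iff hH0']
    exact h2.symm
  have hσrange : ∀ z : M, σ z ∈ (algebraMap (FractionRing (integralClosure R L)[X])
      (AlgebraicClosure (FractionRing (integralClosure R L)[X]))).range := by
    intro z
    have hz : z ∈ Submodule.span (FractionRing R[X]) (Set.range b) := hb ▸ Submodule.mem_top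
    induction hz using Submodule.span_induction with
    | mem y hy =>
      obtain ⟨j, rfl⟩ := hy
      exact hbj j
    | zero => rw [map_zero]; exact Subring.zero_mem _
    | add y z _ _ hy hz => rw [map_add]; exact Subring.add_mem _ hy hz
    | smul c y _ hy =>
      rw [Algebra.smul_def, map_mul, σ.commutes]
      refine Subring.mul_mem _ ?_ hy
      exact ⟨algebraMap _ _ c, (IsScalarTower.algebraMap_apply _ _ _ c).symm⟩
  -- integral elements land in the image of `R''[X]`
  have hσint : ∀ z : M, IsIntegral R[X] z → σ z ∈ LinearMap.range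
      (IsScalarTower.toAlgHom R[X] (integralClosure R L)[X]
        (AlgebraicClosure (FractionRing (integralClosure R L)[X]))).toLinearMap := by
    intro z hz
    obtain ⟨w, hw⟩ := hσrange z
    have h1 : IsIntegral R[X] (σ z) := hz.map (σ.restrictScalars R[X])
    rw [← hw] at h1
    have h2 : IsIntegral R[X] w := (isIntegral_algebraMap_iff
      (algebraMap (FractionRing (integralClosure R L)[X])
      (AlgebraicClosure (FractionRing (integralClosure R L)[X]))).injective).mp h1
    have h3 : IsIntegral (integralClosure R L)[X] w := h2.tower_top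
    obtain ⟨v, hv⟩ := IsIntegrallyClosed.isIntegral_iff.mp h3
    refine ⟨v, ?_⟩
    show algebraMap (integralClosure R L)[X]
      (AlgebraicClosure (FractionRing (integralClosure R L)[X])) v = σ z
    rw [IsScalarTower.algebraMap_apply (integralClosure R L)[X]
      (FractionRing (integralClosure R L)[X]), hv, hw]
  let Φ : integralClosure R[X] M →ₗ[R[X]] LinearMap.range
      (IsScalarTower.toAlgHom R[X] (integralClosure R L)[X]
        (AlgebraicClosure (FractionRing (integralClosure R L)[X]))).toLinearMap :=
    LinearMap.codRestrict _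
      ((σ.restrictScalars R[X]).toLinearMap ∘ₗ (integralClosure R[X] M).val.toLinearMap)
      (fun z => hσint z.1 z.2)
  have hΦ : Function.Injective Φ := by
    intro x y hxy
    apply Subtype.ext
    have := congrArg Subtype.val hxy
    exact σ.toRingHom.injective this
  haveI : Module.Finite R[X] (LinearMap.range
      (IsScalarTower.toAlgHom R[X] (integralClosure R L)[X]
        (AlgebraicClosure (FractionRing (integralClosure R L)[X]))).toLinearMap) :=
    Module.Finite.range _
  haveI : IsNoetherian R[X] (LinearMap.range
      (IsScalarTower.toAlgHom R[X] (integralClosure R L)[X]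
        (AlgebraicClosure (FractionRing (integralClosure R L)[X]))).toLinearMap) :=
    isNoetherian_of_isNoetherianRing_of_finite R[X] _
  exact Module.Finite.of_injective Φ hΦ

end GenLemma

section Main

variable (R : Type u) [CommRing R] [IsDomain R] [IsNoetherianRing R]

/-- **N-1 passes to the polynomial ring.** -/
theorem isN1_poly (hN1 : CAlg.IsN1 R) : CAlg.IsN1 R[X] := by
  haveI : ExpChar R (ringExpChar R) := inferInstance
  refine finite_integralClosure_poly R (FractionRing R) (ringExpChar R) 0 (FractionRing R[X]) hN1
    (fun _ : Fin 1 => (1 : FractionRing R[X])) ?_ ?_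
  · rw [eq_top_iff]
    intro x _
    have : x = x • (1 : FractionRing R[X]) := by rw [smul_eq_mul, mul_one]
    rw [this]
    exact Submodule.smul_mem _ _ (Submodule.subset_span ⟨0, rfl⟩)
  · intro j
    refine ⟨1, 1, one_ne_zero, by simp, fun k => ⟨algebraMap R _ ((1 : R[X]).coeff k), by simp⟩,
      fun k => ⟨algebraMap R _ ((1 : R[X]).coeff k), by simp⟩⟩

set_option maxHeartbeats 800000 in
/-- **N-2 passes to the polynomial ring.** -/
theorem isN2_poly (hN2 : CAlg.IsN2 R) : CAlg.IsN2 R[X] := by
  apply Groth.Agent.Lib.Japanese.isN2_of_forall_purelyInseparable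
  intro M _ _ _ _ hfd hpi
  haveI := hfd
  haveI := hpi
  classical
  haveI : ExpChar R (ringExpChar R) := inferInstance
  have hinjRQ : Function.Injective (algebraMap R (FractionRing R[X])) := by
    rw [IsScalarTower.algebraMap_eq R R[X] (FractionRing R[X])]
    exact (IsFractionRing.injective R[X] (FractionRing R[X])).comp Polynomial.C_injective
  haveI : ExpChar (FractionRing R[X]) (ringExpChar R) :=
    expChar_of_injective_ringHom hinjRQ (ringExpChar R)
  have hp1 : 0 < ringExpChar R := expChar_pos R (ringExpChar R)
  let b := Module.finBasis (FractionRing R[X]) M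
  have hn : ∀ j, ∃ n : ℕ, (b j) ^ (ringExpChar R) ^ n ∈ (algebraMap (FractionRing R[X]) M).range :=
    fun j => IsPurelyInseparable.pow_mem (FractionRing R[X]) (ringExpChar R) (b j)
  choose n hn using hn
  have he : ∀ j, ∃ f : FractionRing R[X],
      algebraMap _ M f = (b j) ^ (ringExpChar R) ^ (Finset.univ.sup n) := by
    intro j
    obtain ⟨f, hf⟩ := hn j
    refine ⟨f ^ (ringExpChar R) ^ (Finset.univ.sup n - n j), ?_⟩
    rw [map_pow, hf, ← pow_mul, ← pow_add,
      Nat.add_sub_cancel' (Finset.le_sup (f := n) (Finset.mem_univ j))]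
  choose f hf using he
  have hgh0 : ∀ j, ∃ g h : R[X], h ≠ 0 ∧ algebraMap R[X] (FractionRing R[X]) g /
      algebraMap R[X] (FractionRing R[X]) h = f j := by
    intro j
    obtain ⟨g, h, hh, hgh⟩ := IsFractionRing.div_surjective (A := R[X]) (f j)
    exact ⟨g, h, nonZeroDivisors.ne_zero hh, hgh⟩
  choose g h hh0 hgh0 using hgh0
  have hq : 0 < (ringExpChar R) ^ (Finset.univ.sup n) := pow_pos hp1 _
  -- the splitting field
  let Cs : Finset R := Finset.univ.biUnion (fun j => (g j).coeffs ∪ (h j).coeffs)
  let F : (FractionRing R)[X] := ∏ c ∈ Cs,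
    (X ^ ((ringExpChar R) ^ (Finset.univ.sup n)) - C (algebraMap R (FractionRing R) c))
  have hFmonic : F.Monic := monic_prod_of_monic _ _ fun c _ => monic_X_pow_sub_C _ hq.ne'
  have hroot : ∀ c ∈ Cs, ∃ y : F.SplittingField,
      y ^ ((ringExpChar R) ^ (Finset.univ.sup n)) = algebraMap R F.SplittingField c := by
    intro c hc
    have hdvd : (X ^ ((ringExpChar R) ^ (Finset.univ.sup n)) -
        C (algebraMap R (FractionRing R) c)) ∣ F := Finset.dvd_prod_of_mem _ hc
    have hsplit : ((X ^ ((ringExpChar R) ^ (Finset.univ.sup n)) -
        C (algebraMap R (FractionRing R) c)).map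
        (algebraMap (FractionRing R) F.SplittingField)).Splits :=
      (SplittingField.splits F).of_dvd (hFmonic.map _).ne_zero (Polynomial.map_dvd _ hdvd)
    have hdeg : ((X ^ ((ringExpChar R) ^ (Finset.univ.sup n)) -
        C (algebraMap R (FractionRing R) c)).map
        (algebraMap (FractionRing R) F.SplittingField)).degree ≠ 0 := by
      rw [Polynomial.map_sub, Polynomial.map_pow, map_X, map_C, degree_X_pow_sub_C hq]
      exact_mod_cast hq.ne'
    obtain ⟨y, hy⟩ := hsplit.exists_eval_eq_zero hdeg
    refine ⟨y, ?_⟩
    rw [Polynomial.map_sub, Polynomial.map_pow, map_X, map_C, eval_sub, eval_pow, eval_X, eval_C,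
      sub_eq_zero] at hy
    rw [hy, ← IsScalarTower.algebraMap_apply]
  have hroot' : ∀ c : R, (c = 0 ∨ c ∈ Cs) → ∃ y : F.SplittingField,
      y ^ ((ringExpChar R) ^ (Finset.univ.sup n)) = algebraMap R F.SplittingField c := by
    rintro c (rfl | hc)
    · exact ⟨0, by rw [zero_pow hq.ne', map_zero]⟩
    · exact hroot c hc
  refine finite_integralClosure_poly R F.SplittingField (ringExpChar R) (Finset.univ.sup n) M
    (hN2 F.SplittingField inferInstance) b b.span_eq ?_
  intro j
  refine ⟨g j, h j, hh0 j, ?_, fun k => hroot' _ ?_, fun k => hroot' _ ?_⟩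
  · rw [← hf j, ← hgh0 j, IsScalarTower.algebraMap_apply R[X] (FractionRing R[X]) M (h j),
      IsScalarTower.algebraMap_apply R[X] (FractionRing R[X]) M (g j), ← map_mul]
    congr 1
    rw [div_mul_cancel₀]
    exact (map_ne_zero_iff _ (IsFractionRing.injective R[X] (FractionRing R[X]))).mpr (hh0 j)
  · by_cases hc : (g j).coeff k = 0
    · exact Or.inl hc
    · exact Or.inr (Finset.mem_biUnion.mpr ⟨j, Finset.mem_univ j,
        Finset.mem_union_left _ (coeff_mem_coeffs hc)⟩)
  · by_cases hc : (h j).coeff k = 0
    · exact Or.inl hc
    · exact Or.inr (Finset.mem_biUnion.mpr ⟨j, Finset.mem_univ j,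
        Finset.mem_union_right _ (coeff_mem_coeffs hc)⟩)

/-- **S0570**. -/
theorem main : (CAlg.IsN1 R → CAlg.IsN1 R[X]) ∧ (CAlg.IsN2 R → CAlg.IsN2 R[X]) :=
  ⟨isN1_poly R, isN2_poly R⟩

end Main

end Groth.Agent.Lib.PolyN2H3
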