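import Mathlib
import Groth.Prelude.Def_Found
import Groth.Agent.Lib.Japanese_helper9
import Groth.Agent.Lib.Japanese2_helper9

/-!
# N-1 / N-2 (Japanese) rings III: universally Japanese rings, covers, ess. finite type (helper9)
-/

set_option autoImplicit false
universe u v w

namespace Groth.Agent.Lib.Japanese

open CAlg

section cover

/-- Being universally Japanese can be checked on a finite principal cover. -/
theorem isUniversallyJapanese_of_span_eq_top (R : Type u) [CommRing R] {ι : Type u} [Finite ι]
    (f : ι → R) (hf : Ideal.span (Set.range f) = ⊤)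
    (Rf : ι → Type u) [∀ i, CommRing (Rf i)] [∀ i, Algebra R (Rf i)]
    [∀ i, IsLocalization.Away (f i) (Rf i)]
    (h : ∀ i, IsUniversallyJapanese (Rf i)) : IsUniversallyJapanese R := by
  intro S _ _ _ hft
  let g : ι → S := fun i => algebraMap R S (f i)
  let ι' : Type u := {i : ι // g i ≠ 0}
  have hspan : Ideal.span (Set.range (fun i : ι' => g i.1)) = ⊤ := by
    have h1 : Ideal.span (Set.range g) = ⊤ := by
      have := congrArg (Ideal.map (algebraMap R S)) hf
      rw [Ideal.map_span, Ideal.map_top, ← Set.range_comp] at this
      exact this
    rw [eq_top_iff, ← h1, Ideal.span_le]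
    rintro _ ⟨i, rfl⟩
    by_cases hi : g i = 0
    · rw [hi]; exact zero_mem _
    · exact Ideal.subset_span ⟨⟨i, hi⟩, rfl⟩
  haveI : ∀ i : ι', IsDomain (Localization.Away (g i.1)) := fun i =>
    IsLocalization.isDomain_localization (powers_le_nonZeroDivisors_of_noZeroDivisors i.2)
  refine isN2_of_span_eq_top S (fun i : ι' => g i.1) hspan
    (fun i => Localization.Away (g i.1)) (fun i => ?_)
  letI : Algebra (Rf i.1) (Localization.Away (g i.1)) :=
    (IsLocalization.Away.lift (f i.1)
      (g := (algebraMap S (Localization.Away (g i.1))).comp (algebraMap R S))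
      (IsLocalization.Away.algebraMap_isUnit (g i.1))).toAlgebra
  haveI : IsScalarTower R (Rf i.1) (Localization.Away (g i.1)) :=
    IsScalarTower.of_algebraMap_eq (fun x => by
      rw [RingHom.algebraMap_toAlgebra, IsLocalization.Away.lift_eq,
        IsScalarTower.algebraMap_apply R S (Localization.Away (g i.1))]
      rfl)
  haveI : Algebra.FiniteType R S := hft
  have h1 : Algebra.FiniteType R (Localization.Away (g i.1)) := inferInstance
  exact h i.1 (Localization.Away (g i.1))
    (Algebra.FiniteType.of_restrictScalars_finiteType R (Rf i.1) _)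

end cover

section ess

/-- An algebra essentially of finite type over a universally Japanese ring is universally
Japanese. -/
theorem isUniversallyJapanese_of_essFiniteType (R : Type u) [CommRing R]
    (hR : IsUniversallyJapanese R) (T : Type u) [CommRing T] [Algebra R T]
    [Algebra.EssFiniteType R T] : IsUniversallyJapanese T := by
  intro S _ _ _ hft
  letI : Algebra R S := ((algebraMap T S).comp (algebraMap R T)).toAlgebra
  haveI : IsScalarTower R T S := IsScalarTower.of_algebraMap_eq (fun _ => rfl)
  haveI : Algebra.FiniteType T S := hft
  haveI : Algebra.EssFiniteType R S := Algebra.EssFiniteType.comp R T S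
  have h0 : IsN2 (Algebra.EssFiniteType.subalgebra R S) :=
    hR (Algebra.EssFiniteType.subalgebra R S) inferInstance
  exact isN2_of_isLocalization (Algebra.EssFiniteType.subalgebra R S)
    (Algebra.EssFiniteType.submonoid R S) S h0

end ess

end Groth.Agent.Lib.Japanese
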