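import Mathlib
import Groth.Prelude
import Groth.Agent.S0566
import Groth.Agent.S9833
import Groth.Agent.Lib.AlgSpPullback_helper7
import Groth.Agent.Lib.AlgSpQC_helper7

/-!
# Locally of finite type over a Nagata algebraic space is Nagata (helper7)
-/

set_option autoImplicit false
set_option linter.style.haveILetI false
universe u
open CategoryTheory CategoryTheory.Limits AlgebraicGeometry AlgSp

namespace Groth.Agent.Lib.AlgSpNagataH7

/-- scheme-level statement -/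
theorem nagata_of_lft {V U : Scheme.{u}} (g : V ⟶ U) [LocallyOfFiniteType g]
    (hU : ∀ A : U.Opens, IsAffineOpen A → CAlg.IsNagata Γ(U, A)) :
    ∀ B : V.Opens, IsAffineOpen B → CAlg.IsNagata Γ(V, B) := by
  have hcov : ∀ x : V, ∃ (A : U.Opens) (B : V.Opens), IsAffineOpen A ∧ IsAffineOpen B ∧ x ∈ B ∧
      B ≤ g ⁻¹ᵁ A := by
    intro x
    obtain ⟨_, ⟨(A : U.Opens), hA, rfl⟩, hxA, -⟩ :=
      U.isBasis_affineOpens.exists_subset_of_mem_open (Set.mem_univ (g x)) isOpen_univ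
    obtain ⟨_, ⟨(B : V.Opens), hB, rfl⟩, hxB, hBA⟩ :=
      V.isBasis_affineOpens.exists_subset_of_mem_open (show x ∈ (g ⁻¹ᵁ A : Set V) from hxA)
        (g ⁻¹ᵁ A).isOpen
    exact ⟨A, B, hA, hB, hxB, hBA⟩
  choose A B hA hB hxB hBA using hcov
  intro B' hB'
  refine Groth.Agent.S9833.result V B ?_ hB ?_ B' hB'
  · rw [eq_top_iff]
    intro x _
    exact TopologicalSpace.Opens.mem_iSup.mpr ⟨x, hxB x⟩
  · intro x
    have hft : RingHom.FiniteType (g.appLE (A x) (B x) (hBA x)).hom :=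
      HasRingHomProperty.appLE (P := @LocallyOfFiniteType) g inferInstance ⟨A x, hA x⟩
        ⟨B x, hB x⟩ (hBA x)
    letI : Algebra Γ(U, A x) Γ(V, B x) := (g.appLE (A x) (B x) (hBA x)).hom.toAlgebra
    haveI : Algebra.FiniteType Γ(U, A x) Γ(V, B x) := hft
    exact Groth.Agent.S0566.result Γ(U, A x) (hU (A x) (hA x)) Γ(V, B x)

variable {S : Scheme.{u}}

theorem main9978 {X Y : Sp S} (hX : IsAlgSpace X) (f : X ⟶ Y)
    (hf : AlgSp.LocP @LocallyOfFiniteType f)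
    (hY : AlgSp.EtaleLocally
      (fun U => ∀ V : U.Opens, IsAffineOpen V → CAlg.IsNagata ↑Γ(U, V)) Y) :
    AlgSp.EtaleLocally (fun U => ∀ V : U.Opens, IsAffineOpen V → CAlg.IsNagata ↑Γ(U, V)) X := by
  obtain ⟨U, p, hpe, hps, hU⟩ := hY
  obtain ⟨V₀, q₀, hq₀e, hq₀s⟩ := hX.atlas
  have sq := hpe.rep.isPullback (q₀ ≫ f)
  obtain ⟨h, hh⟩ := (yon S).map_surjective (hpe.rep.fst (q₀ ≫ f))
  rw [← hh] at sq
  have hqe : RepWith @Etale ((yon S).map (hpe.rep.snd (q₀ ≫ f)) ≫ q₀) :=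
    Groth.Agent.Lib.AlgSpPullback_helper7.repWith_comp _
      (Groth.Agent.Lib.AlgSpQC_helper7.repWith_snd_of_isPullback _ sq hpe) hq₀e
  have hqs : RepWith @Surjective ((yon S).map (hpe.rep.snd (q₀ ≫ f)) ≫ q₀) :=
    Groth.Agent.Lib.AlgSpPullback_helper7.repWith_comp _
      (Groth.Agent.Lib.AlgSpQC_helper7.repWith_snd_of_isPullback _ sq hps) hq₀s
  have hcomm : ((yon S).map (hpe.rep.snd (q₀ ≫ f)) ≫ q₀) ≫ f = (yon S).map h ≫ p := by
    rw [Category.assoc]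
    exact sq.w.symm
  haveI : LocallyOfFiniteType h.left := hf _ p h hqe hpe hcomm
  exact ⟨_, _, hqe, hqs, nagata_of_lft h.left hU⟩

end Groth.Agent.Lib.AlgSpNagataH7
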