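import Groth.Agent.Lib.AlgSpNoeth_helper6
import Mathlib.RingTheory.Ideal.KrullsHeightTheorem

/-!
# No specializations in fibres of étale charts of locally Noetherian spaces (helper6)
-/

set_option autoImplicit false
universe u
open CategoryTheory CategoryTheory.Limits AlgebraicGeometry Opposite TopologicalSpace

namespace Groth.Agent.Lib.AlgSpNoeth2_helper6

open AlgSp Groth.Agent.Lib.AlgSpPoints_helper7 Groth.Agent.Lib.AlgSpQC_helper7
  Groth.Agent.Lib.AlgSpPullback_helper7 Groth.Agent.Lib.AlgSpBasic_helper7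
  Groth.Agent.Lib.AlgSpEtale_helper7 Groth.Agent.Lib.AlgSpSpecial_helper6
  Groth.Agent.Lib.AlgSpNoeth_helper6

variable {S : Scheme.{u}}

/-- height of the prime corresponding to a point of an affine scheme -/
noncomputable def ht (V : Scheme.{u}) [IsAffine V] (v : ↥V) : ℕ∞ :=
  (show PrimeSpectrum Γ(V, ⊤) from V.isoSpec.hom v).asIdeal.height

theorem ht_lt {V : Scheme.{u}} [IsAffine V] [IsNoetherianRing Γ(V, ⊤)] {v v' : ↥V}
    (hs : v' ⤳ v) (hne : v' ≠ v) : ht V v' < ht V v := by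
  have h1 : (show PrimeSpectrum Γ(V, ⊤) from V.isoSpec.hom v') ⤳
      (show PrimeSpectrum Γ(V, ⊤) from V.isoSpec.hom v) := hs.map V.isoSpec.hom.continuous
  rw [← PrimeSpectrum.le_iff_specializes] at h1
  have h2 : (show PrimeSpectrum Γ(V, ⊤) from V.isoSpec.hom v') ≠
      (show PrimeSpectrum Γ(V, ⊤) from V.isoSpec.hom v) := fun h =>
    hne (V.isoSpec.hom.homeomorph.injective h)
  have h3 := lt_of_le_of_ne h1 h2
  exact Ideal.height_strict_mono_of_isPrime_of_isPrime (PrimeSpectrum.asIdeal_lt_asIdeal _ _ |>.2 h3)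

theorem eq_of_specializes_of_noeth_affine {X : Sp S} {V : Over S} [IsAffine V.left]
    [IsNoetherianRing Γ(V.left, ⊤)] (a : (yon S).obj V ⟶ X) (ha : RepWith @Etale a) :
    ∀ (e : ℕ∞) (v v' : ↥V.left), Points.ofPt a v' = Points.ofPt a v → v' ⤳ v →
      ht V.left v' = e → v' = v := by
  intro e
  induction e using WellFoundedLT.induction with
  | ind e ih =>
    intro v v' he hs hh
    by_contra hne
    obtain ⟨v'', h1, h2, h3⟩ := specializes_step a ha v v' he hs
    have hne' : v'' ≠ v' := fun h => hne (h3 h)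
    have hlt : ht V.left v'' < e := hh ▸ ht_lt h2 hne'
    exact hne' (ih _ hlt v' v'' (h1.trans he.symm) h2 rfl)

/-- for an étale chart from a locally Noetherian scheme -/
theorem eq_of_specializes_of_locNoeth_chart {X : Sp S} {U : Over S} [IsLocallyNoetherian U.left]
    (a : (yon S).obj U ⟶ X) (ha : RepWith @Etale a) (u u' : ↥U.left)
    (he : Points.ofPt a u = Points.ofPt a u') (hs : u' ⤳ u) : u = u' := by
  let 𝒰 := U.left.affineCover
  let i := 𝒰.idx u
  obtain ⟨u₀, hu₀⟩ := 𝒰.covers u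
  have hopen : IsOpen (Set.range (𝒰.f i)) := (𝒰.f i).isOpenEmbedding.isOpen_range
  obtain ⟨u₀', hu₀'⟩ : u' ∈ Set.range (𝒰.f i) := hs.mem_open hopen ⟨u₀, hu₀⟩
  let c : Over.mk (𝒰.f i ≫ U.hom) ⟶ U := Over.homMk (𝒰.f i) rfl
  have hc : RepWith @Etale ((yon S).map c) := by
    rw [repWith_yon_map_iff]
    change Etale (𝒰.f i)
    infer_instance
  have ha₀ : RepWith @Etale ((yon S).map c ≫ a) := repWith_comp _ hc ha
  haveI haff : IsAffine (Over.mk (𝒰.f i ≫ U.hom)).left := by
    change IsAffine (𝒰.X i)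
    infer_instance
  haveI hN : IsNoetherianRing Γ((Over.mk (𝒰.f i ≫ U.hom)).left, ⊤) := by
    change IsNoetherianRing Γ(𝒰.X i, ⊤)
    exact IsLocallyNoetherian.component_noetherian ⟨⊤, isAffineOpen_top (𝒰.X i)⟩
  have hs₀ : u₀' ⤳ u₀ := by
    rw [← (𝒰.f i).isOpenEmbedding.isInducing.specializes_iff, hu₀, hu₀']
    exact hs
  have e1 : Points.ofPt ((yon S).map c ≫ a) u₀' = Points.ofPt ((yon S).map c ≫ a) u₀ := by
    rw [ofPt_comp, ofPt_comp]
    change Points.ofPt a ((𝒰.f i) u₀') = Points.ofPt a ((𝒰.f i) u₀)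
    rw [hu₀, hu₀', he]
  have := eq_of_specializes_of_noeth_affine _ ha₀ _ u₀ u₀' e1 hs₀ rfl
  rw [← hu₀, ← hu₀', this]

/-- for an arbitrary étale chart of a locally Noetherian space -/
theorem eq_of_specializes_of_isLocNoethSp {X : Sp S} (hX : IsLocNoethSp X) {U : Over S}
    (a : (yon S).obj U ⟶ X) (ha : RepWith @Etale a) (u u' : ↥U.left)
    (he : Points.ofPt a u = Points.ofPt a u') (hs : u' ⤳ u) : u = u' := by
  obtain ⟨U0, p, hpe, hps, hU0⟩ := hX
  have sq := hpe.rep.isPullback' a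
  let g := hpe.rep.snd a
  let f := hpe.rep.fst' a
  have hg1 : Etale g.left := hpe.property_snd a
  have hg2 : Surjective g.left := hps.property _ _ _ (hpe.rep.isPullback a)
  have hf1 : Etale f.left := by
    have h1 : RepWith @Etale ((yon S).map f) := repWith_fst_of_isPullback _ sq ha
    exact (repWith_yon_map_iff _ _).1 h1
  haveI : IsLocallyNoetherian U0.left := hU0
  haveI : IsLocallyNoetherian (hpe.rep.pullback a).left :=
    LocallyOfFiniteType.isLocallyNoetherian f.left
  have hge : RepWith @Etale ((yon S).map g) := (repWith_yon_map_iff _ _).2 hg1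
  have ha1 : RepWith @Etale ((yon S).map g ≫ a) := repWith_comp _ hge ha
  obtain ⟨w, hw⟩ := hg2.surj u
  have hgen : GeneralizingMap g.left := Flat.generalizingMap (f := g.left)
  obtain ⟨w', hw's, hw'⟩ := hgen (a := w) (b := u') (by rw [hw]; exact hs)
  have e1 : Points.ofPt ((yon S).map g ≫ a) w = Points.ofPt ((yon S).map g ≫ a) w' := by
    rw [ofPt_comp, ofPt_comp, hw, hw', he]
  have := eq_of_specializes_of_locNoeth_chart _ ha1 w w' e1 hw's
  rw [← hw, ← hw', this]

end Groth.Agent.Lib.AlgSpNoeth2_helper6
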