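import Groth.Agent.Lib.AlgSpLargestOpen_helper7
import Mathlib.Topology.NoetherianSpace
import Mathlib.AlgebraicGeometry.Noetherian

/-!
# The space of points of a locally Noetherian algebraic space (helper7)
-/

set_option autoImplicit false
universe u
open CategoryTheory CategoryTheory.Limits AlgebraicGeometry Opposite TopologicalSpace

namespace Groth.Agent.Lib.AlgSpNoethTop_helper7

open AlgSp Groth.Agent.Lib.AlgSpPoints_helper7 Groth.Agent.Lib.AlgSpTop_helper7

variable {S : Scheme.{u}}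

theorem exists_noetherian_nhd {X : Sp S} (hX : IsLocNoethSp X) (x : Points X) :
    ∃ W : Set (Points X), IsOpen W ∧ x ∈ W ∧ NoetherianSpace ↥W := by
  obtain ⟨U₀, a₀, ha₀e, ha₀s, hU₀⟩ := hX
  haveI : IsLocallyNoetherian U₀.left := hU₀
  obtain ⟨u, rfl⟩ := ofPt_surjective a₀ ha₀s x
  obtain ⟨O, hO, huO, -⟩ := (Opens.isBasis_iff_nbhd.mp U₀.left.isBasis_affineOpens)
    (show u ∈ (⊤ : U₀.left.Opens) from trivial)
  haveI : IsNoetherianRing Γ(U₀.left, O) := IsLocallyNoetherian.component_noetherian ⟨O, hO⟩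
  haveI : NoetherianSpace ↥O := noetherianSpace_of_isAffineOpen O hO
  have hcont : Continuous (fun o : ↥O => Points.ofPt a₀ o.1) :=
    (Points.continuous_ofPt a₀).comp continuous_subtype_val
  have hrange : Set.range (fun o : ↥O => Points.ofPt a₀ o.1) = Points.ofPt a₀ '' (O : Set U₀.left) := by
    ext y
    constructor
    · rintro ⟨o, rfl⟩
      exact ⟨o.1, o.2, rfl⟩
    · rintro ⟨o, ho, rfl⟩
      exact ⟨⟨o, ho⟩, rfl⟩
  refine ⟨Set.range (fun o : ↥O => Points.ofPt a₀ o.1), ?_, ⟨⟨u, huO⟩, rfl⟩,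
    NoetherianSpace.range _ hcont⟩
  rw [hrange]
  exact isOpenMap_ofPt_of_etale a₀ ha₀e _ O.isOpen

theorem noetherianSpace_points {X : Sp S} (hqc : IsQuasiCompactSp X) (hX : IsLocNoethSp X) :
    NoetherianSpace (Points X) := by
  obtain ⟨U₁, a₁, -, ha₁s, hU₁⟩ := hqc
  haveI : CompactSpace U₁.left := hU₁
  haveI : CompactSpace (Points X) :=
    (ofPt_surjective a₁ ha₁s).compactSpace (Points.continuous_ofPt a₁)
  have hloc := fun x : Points X => exists_noetherian_nhd hX x
  choose W hWo hxW hWn using hloc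
  obtain ⟨t, ht⟩ := isCompact_univ.elim_finite_subcover W hWo
    (fun x _ => Set.mem_iUnion.2 ⟨x, hxW x⟩)
  haveI : ∀ i : t, NoetherianSpace ↥(W i.1) := fun i => hWn i.1
  have h1 : NoetherianSpace ↥(⋃ i : t, W i.1) := NoetherianSpace.iUnion (fun i : t => W i.1)
  have h2 : (⋃ i : t, W i.1) = Set.univ := by
    apply Set.eq_univ_of_univ_subset
    intro x hx
    obtain ⟨i, hi, hxi⟩ := Set.mem_iUnion₂.1 (ht hx)
    exact Set.mem_iUnion.2 ⟨⟨i, hi⟩, hxi⟩
  rw [h2] at h1
  exact noetherian_univ_iff.1 h1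

end Groth.Agent.Lib.AlgSpNoethTop_helper7
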