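import Groth.Agent.Lib.AlgSpFinFib_helper6
import Mathlib.AlgebraicGeometry.Noetherian

/-!
# Étale charts of locally Noetherian algebraic spaces (helper6)
-/

set_option autoImplicit false
universe u
open CategoryTheory CategoryTheory.Limits AlgebraicGeometry Opposite TopologicalSpace

namespace Groth.Agent.Lib.AlgSpNoeth_helper6

open AlgSp Groth.Agent.Lib.AlgSpPoints_helper7 Groth.Agent.Lib.AlgSpQC_helper7
  Groth.Agent.Lib.AlgSpPullback_helper7 Groth.Agent.Lib.AlgSpBasic_helper7
  Groth.Agent.Lib.AlgSpEtale_helper7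

variable {S : Scheme.{u}}

/-- every étale chart of a locally Noetherian space is covered by a locally Noetherian scheme -/
theorem exists_locNoeth_cover {X : Sp S} (hX : IsLocNoethSp X) {U : Over S}
    (a : (yon S).obj U ⟶ X) (ha : RepWith @Etale a) :
    ∃ (U1 : Scheme.{u}) (g : U1 ⟶ U.left), IsLocallyNoetherian U1 ∧ Etale g ∧
      Function.Surjective g := by
  obtain ⟨U0, p, hpe, hps, hU0⟩ := hX
  have sq := hpe.rep.isPullback' a
  have hg1 : Etale (hpe.rep.snd a).left := hpe.property_snd a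
  have hg2 : Surjective (hpe.rep.snd a).left := hps.property _ _ _ (hpe.rep.isPullback a)
  have hf1 : Etale (hpe.rep.fst' a).left := by
    have h1 : RepWith @Etale ((yon S).map (hpe.rep.fst' a)) := repWith_fst_of_isPullback _ sq ha
    exact (repWith_yon_map_iff _ _).1 h1
  haveI : IsLocallyNoetherian U0.left := hU0
  exact ⟨_, (hpe.rep.snd a).left, LocallyOfFiniteType.isLocallyNoetherian (hpe.rep.fst' a).left,
    hg1, hg2.surj⟩

/-- a quasi-compact open of a scheme covered by a locally Noetherian scheme via an open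
surjective morphism is a Noetherian space -/
theorem noetherianSpace_of_cover {U U1 : Scheme.{u}} (g : U1 ⟶ U) [IsLocallyNoetherian U1]
    (hopen : IsOpenMap g) (hsurj : Function.Surjective g) (W : U.Opens)
    (hW : IsCompact (W : Set ↥U)) : NoetherianSpace ↥W := by
  have h1 : ∀ y : ↥U, ∃ z : ↥U1, g z = y := hsurj
  choose z hz using h1
  have h2 : ∀ y : ↥U, y ∈ W → ∃ O : U1.Opens, IsAffineOpen O ∧ z y ∈ O ∧
      (O : Set ↥U1) ⊆ g ⁻¹ᵁ W := fun y hy =>
    exists_isAffineOpen_mem_and_subset (x := z y) (U := g ⁻¹ᵁ W) (by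
      change g (z y) ∈ W; rw [hz]; exact hy)
  -- choose for all y, using a default outside W
  have h3 : ∀ y : ↥U, ∃ O : U1.Opens, IsAffineOpen O ∧ (y ∈ W → z y ∈ O ∧
      (O : Set ↥U1) ⊆ g ⁻¹ᵁ W) := fun y => by
    by_cases hy : y ∈ W
    · obtain ⟨O, h, hm, hs⟩ := h2 y hy
      exact ⟨O, h, fun _ => ⟨hm, hs⟩⟩
    · obtain ⟨O, h, -, -⟩ := exists_isAffineOpen_mem_and_subset (x := z y) (U := ⊤) trivial
      exact ⟨O, h, fun h' => (hy h').elim⟩
  choose O hO hOW using h3
  obtain ⟨t, htW, ht⟩ := hW.elim_nhds_subcover (fun y => g '' (O y : Set ↥U1))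
    (fun y hy => (hopen _ (O y).isOpen).mem_nhds ⟨z y, (hOW y hy).1, hz y⟩)
  have hN : ∀ y : ↥U, NoetherianSpace ↥(g '' (O y : Set ↥U1)) := fun y => by
    haveI : IsNoetherianRing Γ(U1, O y) :=
      IsLocallyNoetherian.component_noetherian ⟨O y, hO y⟩
    haveI : NoetherianSpace ↥(O y) := noetherianSpace_of_isAffineOpen (O y) (hO y)
    have : g '' (O y : Set ↥U1) = Set.range (fun w : ↥(O y) => g w.1) := by
      ext v; simp
    rw [this]
    exact NoetherianSpace.range _ (g.continuous.comp continuous_subtype_val)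
  have hU : (W : Set ↥U) = ⋃ y : ↥(t : Set ↥U), g '' (O y.1 : Set ↥U1) := by
    apply Set.Subset.antisymm
    · intro v hv
      obtain ⟨y, hyt, hy⟩ := Set.mem_iUnion₂.1 (ht hv)
      exact Set.mem_iUnion.2 ⟨⟨y, hyt⟩, hy⟩
    · intro v hv
      obtain ⟨⟨y, hyt⟩, w, hwO, rfl⟩ := Set.mem_iUnion.1 hv
      exact (hOW y (htW y hyt)).2 hwO
  haveI : ∀ y : ↥(t : Set ↥U), NoetherianSpace ↥(g '' (O y.1 : Set ↥U1)) := fun y => hN y.1
  have hfinal : NoetherianSpace ↥(⋃ y : ↥(t : Set ↥U), g '' (O y.1 : Set ↥U1)) :=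
    NoetherianSpace.iUnion _
  have : NoetherianSpace ↥(W : Set ↥U) := by rw [hU]; exact hfinal
  exact this

theorem finite_irreducibleComponents_of_isLocNoethSp {X : Sp S} (hX : IsLocNoethSp X)
    {U : Over S} (a : (yon S).obj U ⟶ X) (ha : RepWith @Etale a) (W : U.left.Opens)
    (hW : IsCompact (W : Set ↥U.left)) : (irreducibleComponents ↥W).Finite := by
  obtain ⟨U1, g, hN, hg, hs⟩ := exists_locNoeth_cover hX a ha
  haveI := noetherianSpace_of_cover g g.isOpenMap hs W hW
  exact NoetherianSpace.finite_irreducibleComponents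

end Groth.Agent.Lib.AlgSpNoeth_helper6
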