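import Groth.Agent.Lib.AlgSpPointSp_helper6
import Mathlib.AlgebraicGeometry.Morphisms.FlatMono
import Mathlib.AlgebraicGeometry.Stalk

/-!
# Reduced decent spaces with one point are spectra of fields (helper6)
-/

set_option autoImplicit false
universe u
open CategoryTheory CategoryTheory.Limits AlgebraicGeometry Opposite TopologicalSpace

namespace Groth.Agent.Lib.AlgSpPointSp2_helper6

open AlgSp Groth.Agent.Lib.AlgSpPoints_helper7 Groth.Agent.Lib.AlgSpQC_helper7
  Groth.Agent.Lib.AlgSpPullback_helper7 Groth.Agent.Lib.AlgSpBasic_helper7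
  Groth.Agent.Lib.AlgSpEtale_helper7 Groth.Agent.Lib.AlgSpIso_helper7
  Groth.Agent.Lib.AlgSpDecent3_helper6 Groth.Agent.Lib.AlgSpDecentZar_helper6
  Groth.Agent.Lib.AlgSpFibre_helper6

variable {S : Scheme.{u}}

/-- In a reduced scheme without nontrivial specializations all local rings are fields. -/
theorem isField_stalk_of_no_specializations {U : Scheme.{u}} [IsReduced U]
    (h : ∀ u u' : ↥U, u' ⤳ u → u' = u) (u : ↥U) : IsField ↥(U.presheaf.stalk u) := by
  rw [IsLocalRing.isField_iff_maximalIdeal_eq]
  have hsub : ∀ P Q : PrimeSpectrum ↥(U.presheaf.stalk u), P = Q := by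
    intro P Q
    have hP : (U.fromSpecStalk u) P ∈ {y | y ⤳ u} := by
      rw [← Scheme.range_fromSpecStalk]; exact ⟨P, rfl⟩
    have hQ : (U.fromSpecStalk u) Q ∈ {y | y ⤳ u} := by
      rw [← Scheme.range_fromSpecStalk]; exact ⟨Q, rfl⟩
    have e : (U.fromSpecStalk u) P = (U.fromSpecStalk u) Q := (h u _ hP).trans (h u _ hQ).symm
    exact (U.fromSpecStalk u).isEmbedding.injective e
  rw [eq_bot_iff]
  intro r hr
  have hnil : IsNilpotent r := by
    rw [nilpotent_iff_mem_prime]
    intro J hJ
    have := hsub ⟨J, hJ⟩ ⟨IsLocalRing.maximalIdeal _, inferInstance⟩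
    have hJ' : J = IsLocalRing.maximalIdeal _ := congrArg PrimeSpectrum.asIdeal this
    rw [hJ']; exact hr
  simpa using hnil.eq_zero

/-- every morphism to such a scheme is flat -/
theorem flat_of_no_specializations {F U : Scheme.{u}} [IsReduced U]
    (h : ∀ u u' : ↥U, u' ⤳ u → u' = u) (f : F ⟶ U) : Flat f := by
  apply Flat.of_stalkMap
  intro y
  letI : Field ↥(U.presheaf.stalk (f y)) := (isField_stalk_of_no_specializations h (f y)).toField
  algebraize [(f.stalkMap y).hom]
  change Module.Flat _ _
  infer_instance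

theorem exists_iso_spec_field_of_reduced_singleton {X : Sp S} (hX : IsDecent X)
    (hr : EtaleLocally (fun U => IsReduced U) X)
    [Nonempty (Points X)] [Subsingleton (Points X)] :
    ∃ (k : Type u) (_ : Field k) (str : Spec (CommRingCat.of k) ⟶ S),
      Nonempty ((yon S).obj (Over.mk str) ≅ X) := by
  obtain ⟨U, a, hae, has, hUred⟩ := hr
  obtain ⟨q, hq, hqm, hqq⟩ := hX (Classical.arbitrary _)
  have R := hqq.rep
  let r := R.fst' a
  let s := R.snd a
  have sq : IsPullback ((yon S).map r) ((yon S).map s) q.toHom a := R.isPullback' a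
  haveI hs1 : QuasiCompact s.left := hqq.property_snd a
  haveI hs2 : Mono s.left := by
    haveI := hqm
    have h1 : Mono ((yon S).map s) := sq.mono_snd_of_mono
    have h2 : Mono s := (yon S).mono_of_mono_map h1
    infer_instance
  haveI hs3 : Surjective s.left := by
    refine ⟨fun u => ?_⟩
    have hu : Points.ofPt q.toHom (IsLocalRing.closedPoint q.K) = Points.ofPt a u :=
      Subsingleton.elim _ _
    obtain ⟨f, -, hf⟩ := exists_ofPt_eq_of_isPullback sq _ u hu
    exact ⟨f, hf⟩
  haveI : IsReduced U.left := hUred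
  haveI hs4 : Flat s.left := flat_of_no_specializations (fun u u' hs =>
    (eq_of_specializes_of_isDecent hX a hae u u' (Subsingleton.elim _ _) hs).symm) s.left
  haveI hiso : IsIso s.left := Flat.isIso_of_surjective_of_mono s.left
  haveI hiso' : IsIso s := by
    haveI : IsIso ((Over.forget S).map s) := hiso
    exact isIso_of_reflects_iso _ (Over.forget S)
  have hae' : Epi a := epi_of_atlas a hae has
  have hfac : a = inv ((yon S).map s) ≫ (yon S).map r ≫ q.toHom := by
    rw [sq.w, IsIso.inv_hom_id_assoc]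
  haveI : Epi (inv ((yon S).map s) ≫ (yon S).map r ≫ q.toHom) := hfac ▸ hae'
  haveI : Epi ((yon S).map r ≫ q.toHom) := epi_of_epi (inv ((yon S).map s)) _
  haveI : Epi q.toHom := epi_of_epi ((yon S).map r) q.toHom
  haveI := hqm
  haveI : IsIso q.toHom := isIso_of_mono_of_epi q.toHom
  exact ⟨q.K, inferInstance, q.str, ⟨asIso q.toHom⟩⟩

end Groth.Agent.Lib.AlgSpPointSp2_helper6
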