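import Groth.Agent.Lib.AlgSpNoeth2_helper6
import Mathlib.AlgebraicGeometry.Morphisms.Finite

/-!
# Decent spaces with an étale surjective point (helper6)
-/

set_option autoImplicit false
universe u
open CategoryTheory CategoryTheory.Limits AlgebraicGeometry Opposite TopologicalSpace

namespace Groth.Agent.Lib.AlgSpPointSp_helper6

open AlgSp Groth.Agent.Lib.AlgSpPoints_helper7 Groth.Agent.Lib.AlgSpQC_helper7
  Groth.Agent.Lib.AlgSpPullback_helper7 Groth.Agent.Lib.AlgSpBasic_helper7
  Groth.Agent.Lib.AlgSpEtale_helper7 Groth.Agent.Lib.AlgSpIso_helper7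
  Groth.Agent.Lib.AlgSpDecent3_helper6 Groth.Agent.Lib.AlgSpDecentZar_helper6

variable {S : Scheme.{u}}

/-- an étale morphism between spectra of fields is finite -/
theorem isFinite_of_etale_field {k k' : Type u} [Field k] [Field k']
    (c : Spec (CommRingCat.of k) ⟶ Spec (CommRingCat.of k')) [Etale c] : IsFinite c := by
  haveI : JacobsonSpace ↥(Spec (CommRingCat.of k')) := by
    change JacobsonSpace (PrimeSpectrum k')
    rw [← PrimeSpectrum.isJacobsonRing_iff_jacobsonSpace]
    infer_instance
  exact (isFinite_iff_locallyOfFiniteType_of_jacobsonSpace).2 inferInstance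

theorem exists_iso_spec_field_of_etale_surjective_point {X : Sp S} (hX : IsDecent X)
    (k : Type u) [Field k] (str : Spec (CommRingCat.of k) ⟶ S)
    (p : (yon S).obj (Over.mk str) ⟶ X) (hp : RepWith @Etale p) (hs : RepWith @Surjective p) :
    ∃ (k' : Type u) (_ : Field k') (str' : Spec (CommRingCat.of k') ⟶ S)
      (e : (yon S).obj (Over.mk str') ≅ X) (c : Over.mk str ⟶ Over.mk str'),
      (yon S).map c ≫ e.hom = p ∧ IsFinite c.left ∧ Etale c.left := by
  obtain ⟨q, hq, hqm, hqq⟩ := hX (Points.mk (ofHom p))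
  obtain ⟨c', hc'⟩ := exists_factor_of_mono q (ofHom p) hqm hqq.1 hq.symm
  let c : Over.mk str ⟶ q.pt := c'
  have hc : (yon S).map c ≫ q.toHom = p := by
    have h := hc'
    rw [toHom_ofHom] at h
    exact h
  have hpe : Epi p := epi_of_atlas p hp hs
  haveI : Epi ((yon S).map c ≫ q.toHom) := hc ▸ hpe
  haveI : Epi q.toHom := epi_of_epi ((yon S).map c) q.toHom
  haveI := hqm
  haveI : IsIso q.toHom := isIso_of_mono_of_epi q.toHom
  have hce : RepWith @Etale ((yon S).map c) := by
    have : (yon S).map c = p ≫ inv q.toHom := (IsIso.eq_comp_inv _).2 hc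
    rw [this]
    exact repWith_comp _ hp (repWith_of_isIso _ _)
  have hce' : Etale c.left := (repWith_yon_map_iff _ _).1 hce
  refine ⟨q.K, inferInstance, q.str, asIso q.toHom, c, hc, ?_, hce'⟩
  haveI : Etale (X := Spec (CommRingCat.of k)) (Y := Spec (CommRingCat.of q.K)) c.left := hce'
  exact isFinite_of_etale_field (k := k) (k' := q.K) c.left

end Groth.Agent.Lib.AlgSpPointSp_helper6
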