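import Groth.Agent.Lib.AlgSpQuotOpen_helper7
import Groth.Agent.Lib.AlgSpGlue2_helper7

/-!
# Open immersions between fppf quotient sheaves, II (helper7)

Generalisations of `AlgSpQuotOpen_helper7` where relations hold only locally (as needed for
quotients by groupoids which are not equivalence relations).
-/

set_option autoImplicit false
universe u
open CategoryTheory CategoryTheory.Limits AlgebraicGeometry Opposite

namespace Groth.Agent.Lib.AlgSpQuotOpen2H7

open AlgSp Groth.Agent.Lib.AlgSpOpenSub_helper7 Groth.Agent.Lib.AlgSpGlueH7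
  Groth.Agent.Lib.AlgSpPullback_helper7 Groth.Agent.Lib.AlgSpCov_helper7
  Groth.Agent.Lib.AlgSpQuotOpenH7 Groth.Agent.Lib.AlgSpQuotEffH7 Groth.Agent.Lib.AlgSpGlue2H7

variable {S : Scheme.{u}}

/-- Sieve version of `exists_lift_of_mono`. -/
lemma exists_lift_of_mono_sieve {F' F : Sp S} (φ : F' ⟶ F) [Mono φ] {T : Over S}
    (a : (yon S).obj T ⟶ F) (Sv : Sieve T) (hSv : Sv ∈ J S T)
    (h : ∀ ⦃T' : Over S⦄ (m : T' ⟶ T), Sv m →
      ∃ c : (yon S).obj T' ⟶ F', c ≫ φ = (yon S).map m ≫ a) :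
    ∃ c₀ : (yon S).obj T ⟶ F', c₀ ≫ φ = a := by
  have hG : Presieve.IsSheafFor F'.obj Sv.arrows :=
    ((isSheaf_iff_isSheaf_of_type _ _).1 F'.property) Sv hSv
  have hF : Presieve.IsSheafFor F.obj Sv.arrows :=
    ((isSheaf_iff_isSheaf_of_type _ _).1 F.property) Sv hSv
  choose c hc using h
  let x : Presieve.FamilyOfElements F'.obj Sv.arrows := fun T' m hm => yE (c m hm)
  have hx : x.Compatible := by
    intro Y₁ Y₂ Z g₁ g₂ f₁ f₂ h₁ h₂ hcomm
    show F'.obj.map g₁.op (yE (c f₁ h₁)) = F'.obj.map g₂.op (yE (c f₂ h₂))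
    rw [yE_map, yE_map]
    congr 1
    rw [← cancel_mono φ, Category.assoc, Category.assoc, hc, hc, ← Category.assoc,
      ← Category.assoc, ← Functor.map_comp, ← Functor.map_comp, hcomm]
  refine ⟨yE.symm (hG.amalgamate x hx), ?_⟩
  apply yE.injective
  apply hF.isSeparatedFor.ext
  intro Y f hf
  have hglue : F'.obj.map f.op (hG.amalgamate x hx) = yE (c f hf) := hG.valid_glue hx f hf
  rw [yE_map, yE_map, ← Category.assoc, yE_symm_map, hglue, Equiv.symm_apply_apply, hc]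

/-- Two points of `U` identified in the quotient sheaf by a pre-relation whose relation on
points is an equivalence relation are locally related. -/
lemma exists_rel_of_quotP_eq {R U : Over S} (s t : R ⟶ U)
    (hE : ∀ T : Over S, Equivalence (fun a b : T ⟶ U => ∃ r : T ⟶ R, r ≫ t = a ∧ r ≫ s = b))
    {T : Over S} (a b : T ⟶ U)
    (h : (yon S).map a ≫ quotP s t = (yon S).map b ≫ quotP s t) :
    ∃ Sv ∈ J S T, ∀ ⦃T' : Over S⦄ (m : T' ⟶ T), Sv m →
      ∃ r : T' ⟶ R, r ≫ t = m ≫ a ∧ r ≫ s = m ≫ b := by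
  obtain ⟨c, hc⟩ := quotP_desc s t (g₁ s t) (g₁_condition s t)
  have hab : (yon S).map a ≫ g₁ s t = (yon S).map b ≫ g₁ s t := by
    rw [← hc, ← Category.assoc, h, Category.assoc]
  have h' := congrArg yE hab
  rw [g₁_app, g₁_app] at h'
  have hmem := Presheaf.equalizerSieve_mem (J S) (toSheafify (J S) (Q₀ s t))
    (X := op T) _ _ h'
  refine ⟨_, hmem, fun T' m hm => ?_⟩
  have hm' : Quot.mk (fun a b : ULift.{u + 1} (T' ⟶ U) => rel s t T' a.down b.down)
      (ULift.up (m ≫ a)) = Quot.mk _ (ULift.up (m ≫ b)) := hm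
  have heq : Equivalence (fun a b : ULift.{u + 1} (T' ⟶ U) => rel s t T' a.down b.down) :=
    (hE T').comap ULift.down
  exact (heq.quot_mk_eq_iff _ _).1 hm'

/-- A criterion for a morphism of sheaves to be a monomorphism, local version. -/
lemma mono_of_local' {F' F : Sp S} (φ : F' ⟶ F) {U' : Over S} (π' : (yon S).obj U' ⟶ F')
    (hπ' : Sheaf.IsLocallySurjective π')
    (h : ∀ (Y : Over S) (u₁ u₂ : Y ⟶ U'),
      (yon S).map u₁ ≫ π' ≫ φ = (yon S).map u₂ ≫ π' ≫ φ →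
      ∃ Sv ∈ J S Y, ∀ ⦃Y' : Over S⦄ (m : Y' ⟶ Y), Sv m →
        (yon S).map (m ≫ u₁) ≫ π' = (yon S).map (m ≫ u₂) ≫ π') : Mono φ := by
  haveI : Sheaf.IsLocallyInjective φ := by
    refine ⟨fun {X} x y hxy => ?_⟩
    haveI := hπ'
    have h1 := Presheaf.imageSieve_mem (J S) π'.hom (U := X) x
    have h2 := Presheaf.imageSieve_mem (J S) π'.hom (U := X) y
    refine (J S).transitive ((J S).intersection_covering h1 h2) _ ?_
    rintro Y f ⟨⟨u1, hu1⟩, ⟨u2, hu2⟩⟩
    obtain ⟨α, rfl⟩ : ∃ α : (yon S).obj X.unop ⟶ F', yE α = x := ⟨yE.symm x, by simp⟩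
    obtain ⟨β, rfl⟩ : ∃ β : (yon S).obj X.unop ⟶ F', yE β = y := ⟨yE.symm y, by simp⟩
    have hαβ : α ≫ φ = β ≫ φ := by
      apply yE.injective
      rw [yE_comp, yE_comp]
      exact hxy
    have e1 : (yon S).map u1.down ≫ π' = (yon S).map f ≫ α := by
      apply yE.injective
      rw [yE_comp, yE_yon_map, ← yE_map]
      exact hu1
    have e2 : (yon S).map u2.down ≫ π' = (yon S).map f ≫ β := by
      apply yE.injective
      rw [yE_comp, yE_yon_map, ← yE_map]
      exact hu2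
    obtain ⟨Sv, hSv, key⟩ := h Y u1.down u2.down (by
      rw [← Category.assoc, ← Category.assoc, e1, e2, Category.assoc, Category.assoc, hαβ])
    refine (J S).superset_covering ?_ hSv
    intro Y' m hm
    show F'.obj.map (m ≫ f).op (yE α) = F'.obj.map (m ≫ f).op (yE β)
    have k := key m hm
    rw [Functor.map_comp, Functor.map_comp, Category.assoc, Category.assoc, e1, e2,
      ← Category.assoc, ← Category.assoc, ← Functor.map_comp] at k
    rw [yE_map, yE_map, k]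
  exact Sheaf.mono_of_isLocallyInjective φ

/-- Let `φ : F' ⟶ F` be a monomorphism of fppf sheaves, with locally surjective charts
`π' : h_{U'} ⟶ F'` and `π : h_U ⟶ F`, and `W ⊆ U` an open subscheme over which `π` lifts to `F'`
and such that every point of `U` which lifts to `U'` (compatibly in `F`) lies in `W`.
Then `φ` is representable by open immersions. -/
theorem repWith_isOpenImmersion_of_open {F' F : Sp S} (φ : F' ⟶ F) [Mono φ] {U' U : Over S}
    (π' : (yon S).obj U' ⟶ F') (hπ' : Sheaf.IsLocallySurjective π')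
    (π : (yon S).obj U ⟶ F) (hπ : Sheaf.IsLocallySurjective π)
    (W : U.left.Opens)
    (hW1 : ∃ cW : (yon S).obj (Over.mk (W.ι ≫ U.hom)) ⟶ F',
      cW ≫ φ = (yon S).map (Over.homMk W.ι rfl : Over.mk (W.ι ≫ U.hom) ⟶ U) ≫ π)
    (hW2 : ∀ (T : Over S) (b : T ⟶ U) (d : T ⟶ U'),
      (yon S).map b ≫ π = (yon S).map d ≫ π' ≫ φ → Set.range b.left ⊆ W) :
    RepWith @IsOpenImmersion φ := by
  obtain ⟨cW, hcW⟩ := hW1
  apply MorphismProperty.relative.of_exists
  intro T a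
  let A : Set T.left := {x | ∃ (T₁ : Over S) (n : T₁ ⟶ T) (b : T₁ ⟶ U), Flat n.left ∧
    LocallyOfFinitePresentation n.left ∧ (yon S).map b ≫ π = (yon S).map n ≫ a ∧
    Set.range b.left ⊆ W ∧ x ∈ Set.range n.left}
  have hAopen : IsOpen A := by
    rw [isOpen_iff_forall_mem_open]
    rintro x ⟨T₁, n, b, hfl, hfp, hb, hbW, hx⟩
    haveI := hfl
    haveI := hfp
    refine ⟨Set.range n.left, ?_, n.left.isOpenMap.isOpen_range, hx⟩
    intro y hy
    exact ⟨T₁, n, b, hfl, hfp, hb, hbW, hy⟩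
  have hclaim : ∀ (T' : Over S) (m : T' ⟶ T) (c' : (yon S).obj T' ⟶ F'),
      c' ≫ φ = (yon S).map m ≫ a → Set.range m.left ⊆ A := by
    rintro T' m c' hc' _ ⟨x', rfl⟩
    obtain ⟨T₁, n₁, b₁, hfl₁, hfp₁, ⟨z, hz⟩, hb₁⟩ := exists_local_lift π hπ a (m.left x')
    obtain ⟨T₂, n₂, d₂, hfl₂, hfp₂, ⟨y, hy⟩, hd₂⟩ := exists_local_lift π' hπ' c' x'
    obtain ⟨bU, hbU⟩ : ∃ bU : T₁ ⟶ U, (yon S).map bU = b₁ := ⟨_, (yon S).map_preimage _⟩
    obtain ⟨dU, hdU⟩ : ∃ dU : T₂ ⟶ U', (yon S).map dU = d₂ := ⟨_, (yon S).map_preimage _⟩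
    have sq := (IsPullback.of_hasPullback (n₂ ≫ m) n₁).map (Over.forget S)
    obtain ⟨w, hw1, hw2⟩ := Scheme.exists_preimage_of_isPullback sq y z (by
      show (n₂ ≫ m).left y = n₁.left z
      rw [Over.comp_left, Scheme.Hom.comp_apply, hy, hz])
    have key : (yon S).map (pullback.snd (n₂ ≫ m) n₁ ≫ bU) ≫ π =
        (yon S).map (pullback.fst (n₂ ≫ m) n₁ ≫ dU) ≫ π' ≫ φ := by
      have e1 : (yon S).map (pullback.snd (n₂ ≫ m) n₁ ≫ bU) ≫ π =
          (yon S).map (pullback.snd (n₂ ≫ m) n₁ ≫ n₁) ≫ a := by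
        simp only [Functor.map_comp, Category.assoc]
        rw [hbU, hb₁]
      have e2 : (yon S).map (pullback.fst (n₂ ≫ m) n₁ ≫ dU) ≫ π' ≫ φ =
          (yon S).map (pullback.fst (n₂ ≫ m) n₁ ≫ n₂ ≫ m) ≫ a := by
        simp only [Functor.map_comp, Category.assoc]
        rw [hdU, ← hc', ← Category.assoc d₂, hd₂, Category.assoc]
      rw [e1, e2, pullback.condition]
    have hzW : bU.left z ∈ W := by
      apply hW2 _ _ _ key
      refine ⟨w, ?_⟩
      rw [Over.comp_left, Scheme.Hom.comp_apply]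
      exact congrArg bU.left hw2
    -- restrict to the open `V = bU⁻¹ W`
    let V : T₁.left.Opens := bU.left ⁻¹ᵁ W
    let TV : Over S := Over.mk (V.ι ≫ T₁.hom)
    let ιV : TV ⟶ T₁ := Over.homMk V.ι rfl
    refine ⟨TV, ιV ≫ n₁, ιV ≫ bU, ?_, ?_, ?_, ?_, ?_⟩
    · haveI := hfl₁
      exact inferInstanceAs (Flat (V.ι ≫ n₁.left))
    · haveI := hfp₁
      exact inferInstanceAs (LocallyOfFinitePresentation (V.ι ≫ n₁.left))
    · simp only [Functor.map_comp, Category.assoc]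
      rw [hbU, hb₁]
    · rintro _ ⟨v, rfl⟩
      show (V.ι ≫ bU.left) v ∈ W
      rw [Scheme.Hom.comp_apply]
      exact v.2
    · refine ⟨⟨z, hzW⟩, ?_⟩
      show (V.ι ≫ n₁.left) _ = m.left x'
      rw [Scheme.Hom.comp_apply]
      exact hz
  let Ao : T.left.Opens := ⟨A, hAopen⟩
  let TA : Over S := Over.mk (Ao.ι ≫ T.hom)
  let ιA : TA ⟶ T := Over.homMk Ao.ι rfl
  have hfac : ∀ (T' : Over S) (m : T' ⟶ T), Set.range m.left ⊆ A →
      ∃ m₀ : T' ⟶ TA, m₀ ≫ ιA = m := by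
    intro T' m hm
    have hr : Set.range m.left ⊆ Set.range Ao.ι := by
      rw [Scheme.Opens.range_ι]
      exact hm
    refine ⟨Over.homMk (IsOpenImmersion.lift Ao.ι m.left hr) ?_, ?_⟩
    · show IsOpenImmersion.lift Ao.ι m.left hr ≫ Ao.ι ≫ T.hom = T'.hom
      rw [← Category.assoc, IsOpenImmersion.lift_fac, Over.w]
    · ext
      show IsOpenImmersion.lift Ao.ι m.left hr ≫ Ao.ι = m.left
      exact IsOpenImmersion.lift_fac _ _ _
  have hc₀ : ∃ c₀ : (yon S).obj TA ⟶ F', c₀ ≫ φ = (yon S).map ιA ≫ a := by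
    have hAmem : ∀ x : Ao, ∃ (T₁ : Over S) (n : T₁ ⟶ T) (b : T₁ ⟶ U), Flat n.left ∧
        LocallyOfFinitePresentation n.left ∧ (yon S).map b ≫ π = (yon S).map n ≫ a ∧
        Set.range b.left ⊆ W ∧ x.1 ∈ Set.range n.left := fun x => x.2
    choose T' m b hfl hfp hb hbW hx using hAmem
    have hsub : ∀ x, Set.range (m x).left ⊆ A := fun x y hy =>
      ⟨T' x, m x, b x, hfl x, hfp x, hb x, hbW x, hy⟩
    choose m₀ hm₀ using fun x => hfac (T' x) (m x) (hsub x)
    have hm₀' : ∀ x, (m₀ x).left ≫ Ao.ι = (m x).left := fun x =>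
      congrArg (fun k => k.left) (hm₀ x)
    have hfl₀ : ∀ x, Flat (m₀ x).left := fun x => by
      have h1 : Flat ((m₀ x).left ≫ Ao.ι) := by
        rw [hm₀' x]
        exact hfl x
      exact MorphismProperty.of_postcomp (W := @Flat) (W' := @IsOpenImmersion) (m₀ x).left Ao.ι
        inferInstance h1
    have hfp₀ : ∀ x, LocallyOfFinitePresentation (m₀ x).left := fun x => by
      have h1 : LocallyOfFinitePresentation ((m₀ x).left ≫ Ao.ι) := by
        rw [hm₀' x]
        exact hfp x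
      exact MorphismProperty.of_postcomp (W := @LocallyOfFinitePresentation)
        (W' := @IsOpenImmersion) (m₀ x).left Ao.ι inferInstance h1
    have hs : ∀ t : ↥TA.left, ∃ x, t ∈ Set.range (m₀ x).left := by
      intro t
      have ht : Ao.ι t ∈ A := t.2
      obtain ⟨y, hy⟩ := hx ⟨Ao.ι t, ht⟩
      refine ⟨⟨Ao.ι t, ht⟩, y, ?_⟩
      apply Ao.ι.isOpenEmbedding.injective
      rw [← Scheme.Hom.comp_apply, hm₀']
      exact hy
    have hmem := ofArrows_mem_J (fun x : Ao => T' x) m₀ hfl₀ hfp₀ hs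
    -- the maps `T' x ⟶ W`
    have hbfac : ∀ x, ∃ b₀ : T' x ⟶ Over.mk (W.ι ≫ U.hom),
        b₀ ≫ (Over.homMk W.ι rfl : Over.mk (W.ι ≫ U.hom) ⟶ U) = b x := by
      intro x
      have hr : Set.range (b x).left ⊆ Set.range W.ι := by
        rw [Scheme.Opens.range_ι]
        exact hbW x
      refine ⟨Over.homMk (IsOpenImmersion.lift W.ι (b x).left hr) ?_, ?_⟩
      · show IsOpenImmersion.lift W.ι (b x).left hr ≫ W.ι ≫ U.hom = (T' x).hom
        rw [← Category.assoc, IsOpenImmersion.lift_fac, Over.w]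
      · ext
        show IsOpenImmersion.lift W.ι (b x).left hr ≫ W.ι = (b x).left
        exact IsOpenImmersion.lift_fac _ _ _
    choose b₀ hb₀ using hbfac
    exact exists_lift_of_mono φ ((yon S).map ιA ≫ a) (fun x : Ao => T' x) m₀ hmem
      (fun x => (yon S).map (b₀ x) ≫ cW) (fun x => by
        rw [Category.assoc, hcW, ← Category.assoc, ← Functor.map_comp, hb₀, hb x, ← hm₀ x,
          Functor.map_comp, Category.assoc])
  obtain ⟨c₀, hc₀⟩ := hc₀
  haveI : Mono ιA := (Over.forget S).mono_of_mono_map (inferInstanceAs (Mono Ao.ι))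
  have pb : IsPullback c₀ ((yon S).map ιA) φ a := by
    refine isPullback_of_forall_yon hc₀ (fun T' c' b hcb => ?_)
    obtain ⟨m, rfl⟩ : ∃ m : T' ⟶ T, (yon S).map m = b := ⟨_, (yon S).map_preimage b⟩
    obtain ⟨m₀, hm₀⟩ := hfac T' m (hclaim T' m c' hcb)
    refine ⟨(yon S).map m₀, ⟨?_, ?_⟩, ?_⟩
    · rw [← cancel_mono φ, Category.assoc, hc₀, ← Category.assoc, ← Functor.map_comp, hm₀, hcb]
    · rw [← Functor.map_comp, hm₀]
    · rintro p ⟨-, hp2⟩
      obtain ⟨p₀, rfl⟩ : ∃ p₀ : T' ⟶ TA, (yon S).map p₀ = p := ⟨_, (yon S).map_preimage p⟩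
      congr 1
      rw [← cancel_mono ιA]
      apply (yon S).map_injective
      rw [Functor.map_comp, hp2, hm₀]
  exact ⟨TA, c₀, ιA, pb, inferInstanceAs (IsOpenImmersion Ao.ι)⟩

end Groth.Agent.Lib.AlgSpQuotOpen2H7
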