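import Groth.Agent.Lib.AlgSpQuotOpen2_helper7
import Groth.Prelude.Def_AlgSpGpd

/-!
# Quotient sheaves of pre-equivalence relations of sheaves (helper7)

* `exists_rel_of_quotSpπ_eq`: two points of `U` identified in `U/R` are locally related.
* `mono_of_local_sp`: a criterion for monomorphisms with a locally surjective sheaf chart.
-/

set_option autoImplicit false
universe u
open CategoryTheory CategoryTheory.Limits AlgebraicGeometry Opposite

namespace Groth.Agent.Lib.AlgSpQuotSpH7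

open AlgSp Groth.Agent.Lib.AlgSpOpenSub_helper7 Groth.Agent.Lib.AlgSpGlueH7

variable {S : Scheme.{u}}

/-- maps out of a sheaf are determined on representable points -/
theorem hom_ext_yon {Z X : Sp S} (u v : Z ⟶ X)
    (h : ∀ (V : Over S) (x : (yon S).obj V ⟶ Z), x ≫ u = x ≫ v) : u = v := by
  apply ObjectProperty.hom_ext
  ext V z
  have e := congrArg yE (h V.unop (yE.symm z))
  rw [yE_comp, yE_comp, Equiv.apply_symm_apply] at e
  exact e

variable {R U : Sp S} (s t : R ⟶ U)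

/-- The relation on `T`-points of `U` defined by `R`. -/
def relSp (T : Over S) (a b : (yon S).obj T ⟶ U) : Prop :=
  ∃ r : (yon S).obj T ⟶ R, r ≫ t = a ∧ r ≫ s = b

lemma relSp_comp {T T' : Over S} (m : T' ⟶ T) {a b : (yon S).obj T ⟶ U}
    (h : relSp s t T a b) : relSp s t T' ((yon S).map m ≫ a) ((yon S).map m ≫ b) := by
  obtain ⟨r, h1, h2⟩ := h
  exact ⟨(yon S).map m ≫ r, by rw [Category.assoc, h1], by rw [Category.assoc, h2]⟩

/-- The presheaf quotient `T ↦ U(T)/R(T)`. -/
noncomputable def Q₀ : (Over S)ᵒᵖ ⥤ Type (u + 1) where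
  obj T := Quot (relSp s t T.unop)
  map {T T'} m := ↾(Quot.map (fun a => (yon S).map m.unop ≫ a)
    (fun a b h => relSp_comp s t m.unop h))
  map_id T := by
    ext x
    obtain ⟨a, rfl⟩ := Quot.exists_rep x
    show Quot.mk _ _ = Quot.mk _ _
    refine congrArg (Quot.mk _) ?_
    simp
  map_comp {T T' T''} m n := by
    ext x
    obtain ⟨a, rfl⟩ := Quot.exists_rep x
    show Quot.mk _ _ = Quot.mk _ _
    refine congrArg (Quot.mk _) ?_
    simp

/-- The quotient map of presheaves. -/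
noncomputable def π₀ : U.obj ⟶ Q₀ s t where
  app T := ↾(fun x => Quot.mk _ (yE.symm x))
  naturality T T' m := by
    ext x
    show Quot.mk _ (yE.symm (U.obj.map m x)) = Quot.mk _ ((yon S).map m.unop ≫ yE.symm x)
    rw [yE_symm_map]
    rfl

/-- The sheafified quotient. -/
noncomputable def Q₁ : Sp S := (presheafToSheaf (J S) (Type (u + 1))).obj (Q₀ s t)

/-- The map `U ⟶ Q₁`. -/
noncomputable def g₁ : U ⟶ Q₁ s t :=
  ObjectProperty.homMk (π₀ s t ≫ toSheafify (J S) (Q₀ s t))

lemma g₁_app {T : Over S} (a : (yon S).obj T ⟶ U) :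
    yE (a ≫ g₁ s t) = (toSheafify (J S) (Q₀ s t)).app (op T) (Quot.mk _ a) := by
  rw [yE_comp]
  show (toSheafify (J S) (Q₀ s t)).app (op T) (Quot.mk _ (yE.symm (yE a))) = _
  rw [Equiv.symm_apply_apply]

lemma g₁_condition : s ≫ g₁ s t = t ≫ g₁ s t := by
  apply hom_ext_yon
  intro V x
  apply yE.injective
  rw [← Category.assoc, ← Category.assoc, g₁_app, g₁_app]
  congr 1
  exact (Quot.sound ⟨x, rfl, rfl⟩).symm

variable {s t}

/-- Two points identified in the quotient sheaf of a pre-equivalence relation are locally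
related. -/
lemma exists_rel_of_quotSpπ_eq (hE : IsPreEqvRelSp s t) {T : Over S}
    (a b : (yon S).obj T ⟶ U) (h : a ≫ quotSpπ s t = b ≫ quotSpπ s t) :
    ∃ Sv ∈ J S T, ∀ ⦃T' : Over S⦄ (m : T' ⟶ T), Sv m →
      ∃ r : (yon S).obj T' ⟶ R, r ≫ t = (yon S).map m ≫ a ∧ r ≫ s = (yon S).map m ≫ b := by
  have hab : a ≫ g₁ s t = b ≫ g₁ s t := by
    have hc : quotSpπ s t ≫ quotSpDesc (g₁ s t) (g₁_condition s t) = g₁ s t :=
      quotSpπ_desc _ _ _ _
    rw [← hc, ← Category.assoc, h, Category.assoc]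
  have h' := congrArg yE hab
  rw [g₁_app, g₁_app] at h'
  have hmem := Presheaf.equalizerSieve_mem (J S) (toSheafify (J S) (Q₀ s t))
    (X := op T) _ _ h'
  refine ⟨_, hmem, fun T' m hm => ?_⟩
  have hm' : Quot.mk (relSp s t T') ((yon S).map m ≫ a) = Quot.mk _ ((yon S).map m ≫ b) := hm
  exact ((hE T').quot_mk_eq_iff _ _).1 hm'

/-- A criterion for a morphism of sheaves to be a monomorphism, local version with a sheaf
chart. -/
lemma mono_of_local_sp {F' F : Sp S} (φ : F' ⟶ F) {U' : Sp S} (π' : U' ⟶ F')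
    (hπ' : Sheaf.IsLocallySurjective π')
    (h : ∀ (Y : Over S) (u₁ u₂ : (yon S).obj Y ⟶ U'),
      u₁ ≫ π' ≫ φ = u₂ ≫ π' ≫ φ →
      ∃ Sv ∈ J S Y, ∀ ⦃Y' : Over S⦄ (m : Y' ⟶ Y), Sv m →
        (yon S).map m ≫ u₁ ≫ π' = (yon S).map m ≫ u₂ ≫ π') : Mono φ := by
  haveI : Sheaf.IsLocallyInjective φ := by
    refine ⟨fun {X} x y hxy => ?_⟩
    haveI := hπ'
    have h1 := Presheaf.imageSieve_mem (J S) π'.hom (U := X) x
    have h2 := Presheaf.imageSieve_mem (J S) π'.hom (U := X) y
    refine (J S).transitive ((J S).intersection_covering h1 h2) _ ?_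
    rintro Y f ⟨⟨u1, hu1⟩, ⟨u2, hu2⟩⟩
    obtain ⟨α, rfl⟩ : ∃ α : (yon S).obj X.unop ⟶ F', yE α = x := ⟨yE.symm x, by simp⟩
    obtain ⟨β, rfl⟩ : ∃ β : (yon S).obj X.unop ⟶ F', yE β = y := ⟨yE.symm y, by simp⟩
    have hαβ : α ≫ φ = β ≫ φ := by
      apply yE.injective
      rw [yE_comp, yE_comp]
      exact hxy
    have e1 : yE.symm u1 ≫ π' = (yon S).map f ≫ α := by
      apply yE.injective
      rw [yE_comp, Equiv.apply_symm_apply, ← yE_map]
      exact hu1
    have e2 : yE.symm u2 ≫ π' = (yon S).map f ≫ β := by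
      apply yE.injective
      rw [yE_comp, Equiv.apply_symm_apply, ← yE_map]
      exact hu2
    obtain ⟨Sv, hSv, key⟩ := h Y (yE.symm u1) (yE.symm u2) (by
      rw [← Category.assoc, ← Category.assoc, e1, e2, Category.assoc, Category.assoc, hαβ])
    refine (J S).superset_covering ?_ hSv
    intro Y' m hm
    show F'.obj.map (m ≫ f).op (yE α) = F'.obj.map (m ≫ f).op (yE β)
    have k := key m hm
    rw [e1, e2, ← Category.assoc, ← Category.assoc, ← Functor.map_comp] at k
    rw [yE_map, yE_map, k]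
  exact Sheaf.mono_of_isLocallyInjective φ

lemma isLocallySurjective_quotSpπ (s t : R ⟶ U) : Sheaf.IsLocallySurjective (quotSpπ s t) := by
  have : Epi (quotSpπ s t) := by
    unfold quotSpπ
    exact coequalizer.π_epi
  exact (Sheaf.isLocallySurjective_iff_epi _).2 this

end Groth.Agent.Lib.AlgSpQuotSpH7
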