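import Groth.Agent.S0065
import Groth.Agent.S0116
import Groth.Agent.S0565
import Groth.Agent.Lib.AlgSpPoints_helper7
import Groth.Agent.Lib.AlgSpPullback_helper7

/-!
# Regularity descends along fppf surjections of algebraic spaces (helper7)
-/

set_option autoImplicit false
universe u
open CategoryTheory CategoryTheory.Limits AlgebraicGeometry Opposite
open AlgSp Groth.Agent.Lib.AlgSpPoints_helper7 Groth.Agent.Lib.AlgSpPullback_helper7

namespace Groth.Agent.Lib.AlgSpRegDescH7

variable {S : Scheme.{u}}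

theorem regular_of_fppf {X Y : Space S} (f : X ⟶ Y)
    (hfp : LocP @LocallyOfFinitePresentation f.hom) (hfl : LocP @Flat f.hom)
    (hs : IsSurjectiveMor f.hom)
    (hX : EtaleLocally (fun U => IsLocallyNoetherian U ∧
      ∀ u : ↥U, IsRegularLocalRing ↥(U.presheaf.stalk u)) X.obj) :
    EtaleLocally (fun U => IsLocallyNoetherian U ∧
      ∀ u : ↥U, IsRegularLocalRing ↥(U.presheaf.stalk u)) Y.obj := by
  obtain ⟨X0, a0, ha0e, ha0s, hX0n, hX0r⟩ := hX
  obtain ⟨Y0, b0, hb0e, hb0s⟩ := Y.property.atlas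
  obtain ⟨U, g, s, sq, hse⟩ : ∃ (U : Over S) (g : U ⟶ Y0) (s : U ⟶ X0),
      IsPullback ((yon S).map g) ((yon S).map s) b0 (a0 ≫ f.hom) ∧ Etale s.left :=
    ⟨_, hb0e.rep.fst' _, hb0e.rep.snd _, hb0e.rep.isPullback' _, hb0e.property_snd _⟩
  have hae : RepWith @Etale ((yon S).map s ≫ a0) :=
    repWith_comp _ ((repWith_yon_map_iff _ _).2 hse) ha0e
  have comm_f : ((yon S).map s ≫ a0) ≫ f.hom = (yon S).map g ≫ b0 := by
    rw [Category.assoc]; exact sq.w.symm
  have hgfl : Flat g.left := hfl _ b0 g hae hb0e comm_f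
  have hgfp : LocallyOfFinitePresentation g.left := hfp _ b0 g hae hb0e comm_f
  have hgs : Surjective g.left := by
    refine ⟨fun v => ?_⟩
    obtain ⟨x, hx⟩ := hs (Points.ofPt b0 v)
    obtain ⟨x0, hx0⟩ := ofPt_surjective a0 ha0s x
    have e : Points.ofPt b0 v = Points.ofPt (a0 ≫ f.hom) x0 := by
      rw [← Points.map_ofPt, hx0, hx]
    obtain ⟨u, hu1, -⟩ := exists_ofPt_eq_of_isPullback sq v x0 e
    exact ⟨u, hu1⟩
  haveI := hX0n; haveI := hse; haveI := hgfl; haveI := hgfp; haveI := hgs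
  haveI hUn : IsLocallyNoetherian U.left := LocallyOfFiniteType.isLocallyNoetherian s.left
  haveI hY0n : IsLocallyNoetherian Y0.left := Groth.Agent.S0116.result g.left
  refine ⟨Y0, b0, hb0e, hb0s, hY0n, fun y => ?_⟩
  obtain ⟨u, rfl⟩ := hgs.surj y
  haveI hreg : IsRegularLocalRing (U.left.presheaf.stalk u) :=
    (Groth.Agent.S0065.result s.left u).2 (hX0r _)
  letI := (g.left.stalkMap u).hom.toAlgebra
  haveI : IsLocalHom (algebraMap (Y0.left.presheaf.stalk (g.left u))
      (U.left.presheaf.stalk u)) := inferInstanceAs (IsLocalHom (g.left.stalkMap u).hom)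
  haveI : Module.Flat (Y0.left.presheaf.stalk (g.left u)) (U.left.presheaf.stalk u) :=
    Flat.stalkMap g.left u
  exact Groth.Agent.S0565.result (Y0.left.presheaf.stalk (g.left u)) (U.left.presheaf.stalk u)

end Groth.Agent.Lib.AlgSpRegDescH7
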