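import Groth.Agent.Lib.AlgSpNoeth2_helper6
import Groth.Agent.Lib.AlgSpFactor_helper6
import Groth.Agent.Lib.AlgSpReduced_helper7
import Groth.Agent.Lib.AlgSpFormal_helper7
import Groth.Agent.Lib.AlgSpLocP3_helper7
import Groth.Agent.Lib.SchDescent_helper6
import Groth.Agent.Lib.UBFCover_helper6

/-!
# Factoring through residual spaces of locally Noetherian algebraic spaces (helper6)
-/

set_option autoImplicit false
universe u
open CategoryTheory CategoryTheory.Limits AlgebraicGeometry Opposite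

namespace Groth.Agent.Lib.AlgSpResidualH6

open AlgSp Groth.Agent.Lib.AlgSpPoints_helper7 Groth.Agent.Lib.AlgSpFactor_helper6
  Groth.Agent.Lib.AlgSpEpi_helper7 Groth.Agent.Lib.AlgSpIso_helper7
  Groth.Agent.Lib.AlgSpPullback_helper7 Groth.Agent.Lib.AlgSpQC_helper7
  Groth.Agent.Lib.UBFCoverH6

/-! ### Part 0: cancelling a monomorphism in a pullback square -/

theorem isPullback_of_comp_mono {C : Type*} [Category C] {P X Y Z Z' : C} {fst : P ⟶ X}
    {snd : P ⟶ Y} {f : X ⟶ Z} {g : Y ⟶ Z} (i : Z ⟶ Z') [Mono i]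
    (h : IsPullback fst snd (f ≫ i) (g ≫ i)) : IsPullback fst snd f g := by
  have w : fst ≫ f = snd ≫ g := by
    rw [← cancel_mono i, Category.assoc, Category.assoc]; exact h.w
  refine IsPullback.of_isLimit' ⟨w⟩ (PullbackCone.IsLimit.mk _
    (fun s => h.lift s.fst s.snd (by rw [← Category.assoc, s.condition, Category.assoc]))
    (fun s => h.lift_fst _ _ _) (fun s => h.lift_snd _ _ _)
    (fun s m h1 h2 => h.hom_ext (by rw [h1, h.lift_fst]) (by rw [h2, h.lift_snd])))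

/-! ### Part 1: a point of finite type on a nonempty scheme locally of finite type -/

theorem exists_field_point_lft {T B : Scheme.{u}} (c : T ⟶ B) [LocallyOfFiniteType c]
    (t : ↥T) :
    ∃ (L : Type u) (_ : Field L) (x : Spec (CommRingCat.of L) ⟶ T),
      LocallyOfFiniteType (x ≫ c) := by
  obtain ⟨V, hV, htV, -⟩ : ∃ V : T.Opens, V ∈ T.affineOpens ∧ t ∈ V ∧ V ≤ ⊤ := by
    obtain ⟨W, h1, h2, h3⟩ := TopologicalSpace.Opens.isBasis_iff_nbhd.mp
      (Scheme.isBasis_affineOpens T) (TopologicalSpace.Opens.mem_top t)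
    exact ⟨W, h1, h2, h3⟩
  have hV' : IsAffineOpen V := hV
  haveI : Nontrivial Γ(T, V) := by
    have : Nonempty (PrimeSpectrum Γ(T, V)) := ⟨hV'.primeIdealOf ⟨t, htV⟩⟩
    exact (PrimeSpectrum.nonempty_iff_nontrivial).1 this
  obtain ⟨m, hm⟩ := Ideal.exists_maximal Γ(T, V)
  letI : Field (Γ(T, V) ⧸ m) := Ideal.Quotient.field m
  haveI : IsClosedImmersion (Spec.map (CommRingCat.ofHom (Ideal.Quotient.mk m))) :=
    IsClosedImmersion.spec_of_surjective _ Ideal.Quotient.mk_surjective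
  refine ⟨Γ(T, V) ⧸ m, inferInstance,
    Spec.map (CommRingCat.ofHom (Ideal.Quotient.mk m)) ≫ hV'.fromSpec, ?_⟩
  infer_instance

/-! ### Part 2: field valued points in the class of a residual space factor through it -/

variable {S : Scheme.{u}}

theorem exists_factor_fieldPt {X Z : Sp S} (hX : IsAlgSpace X) (i : Z ⟶ X) [Mono i]
    {k : Type u} [Field k] {strk : Spec (CommRingCat.of k) ⟶ S}
    (p : (yon S).obj (Over.mk strk) ⟶ Z) (hplfp : RepWith @LocallyOfFinitePresentation p)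
    {K : Type u} [Field K] {strK : Spec (CommRingCat.of K) ⟶ S}
    (a : (yon S).obj (Over.mk strK) ⟶ X)
    (hpt : Points.mk (ofHom a) = Points.mk (ofHom (p ≫ i))) :
    ∃ b : (yon S).obj (Over.mk strK) ⟶ Z, b ≫ i = a := by
  have hrep : Representable (p ≫ i) := hX.representable_from_yon _
  obtain ⟨q₁, hq₁⟩ : ∃ q₁ : hrep.pullback a ⟶ Over.mk strK, q₁ = hrep.snd a := ⟨_, rfl⟩
  obtain ⟨q₂, hq₂⟩ : ∃ q₂ : hrep.pullback a ⟶ Over.mk strk, q₂ = hrep.fst' a := ⟨_, rfl⟩
  have sq1 : IsPullback ((yon S).map q₂) ((yon S).map q₁) (p ≫ i) a := by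
    rw [hq₁, hq₂]; exact hrep.isPullback' a
  rw [mk_ofHom_eq_iff] at hpt
  obtain ⟨Ω, _, w, α, β, hαβ⟩ := hpt
  obtain ⟨τ, hτ⟩ := (yon S).map_surjective
    (sq1.lift ((yon S).map β) ((yon S).map α) hαβ.symm)
  have hτ1 : τ ≫ q₁ = α := by
    apply (yon S).map_injective
    rw [Functor.map_comp, hτ, sq1.lift_snd]
  -- base change to `Ω`
  let r₂ := pullback.fst q₁ α
  let r₁ := pullback.snd q₁ α
  have sq2 : IsPullback r₂ r₁ q₁ α := IsPullback.of_hasPullback q₁ α
  have big := (sq2.map (yon S)).paste_horiz sq1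
  have e1 : (yon S).map α ≫ a = ((yon S).map (τ ≫ q₂) ≫ p) ≫ i := by
    rw [← hτ1, Functor.map_comp, Functor.map_comp, Category.assoc, Category.assoc, Category.assoc,
      ← sq1.w]
  rw [e1] at big
  have big' := isPullback_of_comp_mono i big
  have hr₁ : LocallyOfFinitePresentation r₁.left := hplfp.property _ _ _ big'
  haveI : LocallyOfFiniteType r₁.left := inferInstance
  -- descent of `locally of finite type` along `Spec Ω ⟶ Spec K`
  have sq3 : IsPullback r₁.left r₂.left α.left q₁.left := (sq2.map (Over.forget S)).flip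
  have hα : (@Surjective ⊓ @Flat ⊓ @QuasiCompact : MorphismProperty Scheme.{u}) α.left := by
    obtain ⟨α₀, hα₀⟩ : ∃ α₀ : Spec (CommRingCat.of Ω) ⟶ Spec (CommRingCat.of K), α₀ = α.left :=
      ⟨_, rfl⟩
    have h1 : Surjective α₀ := by
      refine ⟨fun s => ⟨IsLocalRing.closedPoint Ω, ?_⟩⟩
      haveI : Subsingleton ↥(Spec (CommRingCat.of K)) :=
        inferInstanceAs (Subsingleton (PrimeSpectrum K))
      exact Subsingleton.elim _ _
    have h2 : Flat α₀ := inferInstance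
    have h3 : QuasiCompact α₀ := inferInstance
    rw [← hα₀]
    exact ⟨⟨h1, h2⟩, h3⟩
  haveI hq₁lft : LocallyOfFiniteType q₁.left :=
    Groth.Agent.Lib.SchDescent_helper6.descendsAlong_locallyOfFiniteType.of_isPullback sq3 hα
      (inferInstance : LocallyOfFiniteType r₁.left)
  -- a point of finite type
  obtain ⟨L, _, x, hx⟩ := exists_field_point_lft q₁.left (τ.left (IsLocalRing.closedPoint Ω))
  let xO : Over.mk (x ≫ (hrep.pullback a).hom) ⟶ hrep.pullback a := Over.homMk x rfl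
  have hepi : Epi ((yon S).map (xO ≫ q₁)) := by
    obtain ⟨ξ, hξ⟩ : ∃ ξ : Spec (CommRingCat.of L) ⟶ Spec (CommRingCat.of K),
        ξ = (xO ≫ q₁).left := ⟨_, rfl⟩
    have h1 : Surjective ξ := by
      refine ⟨fun s => ⟨IsLocalRing.closedPoint L, ?_⟩⟩
      haveI : Subsingleton ↥(Spec (CommRingCat.of K)) :=
        inferInstanceAs (Subsingleton (PrimeSpectrum K))
      exact Subsingleton.elim _ _
    have h2 : Flat ξ := inferInstance
    have h3 : LocallyOfFinitePresentation ξ := by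
      haveI : IsLocallyNoetherian (Spec (CommRingCat.of K)) :=
        Groth.Agent.Lib.AlgSpUBF2_helper4.isLocallyArtinian_spec_field.isLocallyNoetherian
      haveI : LocallyOfFiniteType ξ := by rw [hξ]; exact hx
      exact LocallyOfFinitePresentation.iff_locallyOfFiniteType.2 inferInstance
    rw [hξ] at h1 h2 h3
    exact epi_yon_map _ h1 h2 h3
  have hs : ((yon S).map (xO ≫ q₂) ≫ p) ≫ i = (yon S).map (xO ≫ q₁) ≫ a := by
    rw [Functor.map_comp, Functor.map_comp, Category.assoc, Category.assoc, Category.assoc,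
      ← sq1.w]
  exact exists_factor_of_epi_section a i ((yon S).map (xO ≫ q₁)) _ hs


/-! ### Part 3: a ring map from a ring all of whose primes lie over `p` factors through `κ(p)` -/

theorem exists_factor_fractionRing {B A' : Type u} [CommRing B] [CommRing A'] [IsReduced A']
    (φ' : B →+* A') (p : Ideal B) [p.IsPrime]
    (h : ∀ q : Ideal A', q.IsPrime → q.comap φ' = p) :
    ∃ ψ : FractionRing (B ⧸ p) →+* A',
      ψ.comp ((algebraMap (B ⧸ p) (FractionRing (B ⧸ p))).comp (Ideal.Quotient.mk p)) = φ' := by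
  have h0 : ∀ b ∈ p, φ' b = 0 := by
    intro b hb
    have hn : IsNilpotent (φ' b) := by
      rw [nilpotent_iff_mem_prime]
      intro q hq
      have : b ∈ q.comap φ' := by rw [h q hq]; exact hb
      exact this
    exact hn.eq_zero
  have h1 : ∀ b, b ∉ p → IsUnit (φ' b) := by
    intro b hb
    by_contra hu
    obtain ⟨m, hm, hbm⟩ := exists_max_ideal_of_mem_nonunits (show φ' b ∈ nonunits A' from hu)
    have : b ∈ m.comap φ' := hbm
    rw [h m hm.isPrime] at this
    exact hb this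
  let φ₁ : B ⧸ p →+* A' := Ideal.Quotient.lift p φ' h0
  have h2 : ∀ y : nonZeroDivisors (B ⧸ p), IsUnit (φ₁ y) := by
    rintro ⟨y, hy⟩
    obtain ⟨b, rfl⟩ := Ideal.Quotient.mk_surjective y
    have hb : b ∉ p := by
      intro hb
      have : (Ideal.Quotient.mk p b) = 0 := Ideal.Quotient.eq_zero_iff_mem.2 hb
      exact (nonZeroDivisors.ne_zero hy) this
    exact h1 b hb
  refine ⟨IsLocalization.lift (M := nonZeroDivisors (B ⧸ p)) (g := φ₁) h2, ?_⟩
  ext b
  simp [φ₁]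

/-! ### Part 4: a morphism from a reduced scheme to a locally Noetherian scheme whose image has no
nontrivial specializations factors locally through the spectrum of a field -/

theorem exists_open_factor_field {V U : Scheme.{u}} [IsReduced V] [IsLocallyNoetherian U]
    (g : V ⟶ U) (hE : ∀ v v' : ↥V, g v' ⤳ g v → g v = g v') (v : ↥V) :
    ∃ (W : V.Opens) (_ : v ∈ W) (L : Type u) (_ : Field L)
      (h : W.toScheme ⟶ Spec (CommRingCat.of L)) (y : Spec (CommRingCat.of L) ⟶ U),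
      h ≫ y = W.ι ≫ g := by
  obtain ⟨UB, hUB, hvUB, -⟩ : ∃ UB : U.Opens, UB ∈ U.affineOpens ∧ g v ∈ UB ∧ UB ≤ ⊤ := by
    obtain ⟨W, h1, h2, h3⟩ := TopologicalSpace.Opens.isBasis_iff_nbhd.mp
      (Scheme.isBasis_affineOpens U) (TopologicalSpace.Opens.mem_top (g v))
    exact ⟨W, h1, h2, h3⟩
  have hUB' : IsAffineOpen UB := hUB
  haveI : IsNoetherianRing Γ(U, UB) := IsLocallyNoetherian.component_noetherian ⟨UB, hUB⟩
  have hvpre : v ∈ g ⁻¹ᵁ UB := hvUB
  obtain ⟨VA, hVA, hvVA, hVAle⟩ : ∃ VA : V.Opens, VA ∈ V.affineOpens ∧ v ∈ VA ∧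
      VA ≤ g ⁻¹ᵁ UB := by
    obtain ⟨W, h1, h2, h3⟩ := TopologicalSpace.Opens.isBasis_iff_nbhd.mp
      (Scheme.isBasis_affineOpens V) hvpre
    exact ⟨W, h1, h2, h3⟩
  have hVA' : IsAffineOpen VA := hVA
  have key : ∀ (W : V.Opens) (hW : IsAffineOpen W) (e : W ≤ g ⁻¹ᵁ UB) (q : ↥(Spec Γ(V, W))),
      g (hW.fromSpec q) = hUB'.fromSpec (Spec.map (g.appLE UB W e) q) := by
    intro W hW e q
    rw [← Scheme.Hom.comp_apply, ← Scheme.Hom.comp_apply, IsAffineOpen.SpecMap_appLE_fromSpec]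
  have hmapIdeal : ∀ (W : V.Opens) (e : W ≤ g ⁻¹ᵁ UB) (q : PrimeSpectrum Γ(V, W)),
      PrimeSpectrum.asIdeal (Spec.map (g.appLE UB W e) q : PrimeSpectrum Γ(U, UB)) =
        q.asIdeal.comap (g.appLE UB W e).hom := fun _ _ _ => rfl
  have hmemW : ∀ (W : V.Opens) (hW : IsAffineOpen W) (q : ↥(Spec Γ(V, W))),
      hW.fromSpec q ∈ W := by
    intro W hW q
    have : hW.fromSpec q ∈ Set.range hW.fromSpec := ⟨q, rfl⟩
    rw [hW.range_fromSpec] at this
    exact this
  obtain ⟨φ, hφ⟩ : ∃ φ : Γ(U, UB) →+* Γ(V, VA), φ = (g.appLE UB VA hVAle).hom := ⟨_, rfl⟩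
  let M : Set (PrimeSpectrum Γ(U, UB)) := {P | P.asIdeal ∈ (RingHom.ker φ).minimalPrimes}
  have hMfin : M.Finite :=
    Set.Finite.preimage (fun P _ Q _ h => PrimeSpectrum.ext h)
      (Ideal.finite_minimalPrimes_of_isNoetherianRing Γ(U, UB) (RingHom.ker φ))
  let Fset : Set ↥U := (fun P : PrimeSpectrum Γ(U, UB) => hUB'.fromSpec P) '' M
  have hFfin : Fset.Finite := hMfin.image _
  -- every element of `M` comes from a point of `VA`
  have hMimg : ∀ P ∈ M, ∃ w' : ↥V, w' ∈ VA ∧ g w' = hUB'.fromSpec P := by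
    intro P hP
    obtain ⟨q', hq'prime, -, hq'⟩ := Ideal.exists_comap_eq_of_mem_minimalPrimes φ P.asIdeal
      (by rw [← RingHom.ker_eq_comap_bot]; exact hP)
    refine ⟨hVA'.fromSpec (⟨q', hq'prime⟩ : PrimeSpectrum Γ(V, VA)), hmemW _ _ _, ?_⟩
    rw [key VA hVA' hVAle]
    congr 1
    apply PrimeSpectrum.ext
    rw [hmapIdeal, ← hφ]
    exact hq'
  have hFimg : ∀ y ∈ Fset, ∃ w' : ↥V, w' ∈ VA ∧ g w' = y := by
    rintro _ ⟨P, hP, rfl⟩
    exact hMimg P hP
  have hgF : ∀ w : ↥V, w ∈ VA → g w ∈ Fset := by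
    intro w hw
    obtain ⟨Q, hQ⟩ : ∃ Q : PrimeSpectrum Γ(V, VA), hVA'.fromSpec Q = w :=
      ⟨hVA'.primeIdealOf ⟨w, hw⟩, hVA'.fromSpec_primeIdealOf ⟨w, hw⟩⟩
    obtain ⟨P, hPdef⟩ : ∃ P : PrimeSpectrum Γ(U, UB), P = Spec.map (g.appLE UB VA hVAle) Q :=
      ⟨_, rfl⟩
    have hPideal : P.asIdeal = Q.asIdeal.comap φ := by rw [hPdef, hmapIdeal, hφ]
    have hle : RingHom.ker φ ≤ P.asIdeal := by
      intro b hb
      rw [hPideal, Ideal.mem_comap, RingHom.mem_ker.1 hb]
      exact zero_mem _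
    obtain ⟨p₀, hp₀min, hp₀le⟩ := Ideal.exists_minimalPrimes_le hle
    let P₀ : PrimeSpectrum Γ(U, UB) := ⟨p₀, hp₀min.1.1⟩
    have hP₀M : P₀ ∈ M := hp₀min
    obtain ⟨w', -, hw'⟩ := hMimg P₀ hP₀M
    have hspec : P₀ ⤳ P := (PrimeSpectrum.le_iff_specializes P₀ P).1 hp₀le
    have hspec' : g w' ⤳ g w := by
      rw [hw', ← hQ, key VA hVA' hVAle, ← hPdef]
      exact hspec.map hUB'.fromSpec.continuous
    have := hE w w' hspec'
    rw [this, hw']
    exact ⟨P₀, hP₀M, rfl⟩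
  -- the closed set of specializations of the other points of the image
  let D : Set ↥U := ⋃ y ∈ (Fset \ {g v}), closure {y}
  have hDclosed : IsClosed D :=
    Set.Finite.isClosed_biUnion (hFfin.subset Set.diff_subset) (fun _ _ => isClosed_closure)
  have hvD : g v ∉ D := by
    intro hmem
    obtain ⟨y, hyF, hy⟩ := Set.mem_iUnion₂.1 hmem
    obtain ⟨w', -, hw'⟩ := hFimg y hyF.1
    have hsp : g w' ⤳ g v := by rw [hw']; exact specializes_iff_mem_closure.2 hy
    exact hyF.2 ((hw'.symm.trans (hE v w' hsp).symm))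
  let W₀ : V.Opens := VA ⊓ g ⁻¹ᵁ ⟨Dᶜ, hDclosed.isOpen_compl⟩
  have hvW₀ : v ∈ W₀ := ⟨hvVA, hvD⟩
  have hconst : ∀ w : ↥V, w ∈ W₀ → g w = g v := by
    intro w hw
    by_contra hne
    have h1 : g w ∈ Fset := hgF w hw.1
    have h2 : g w ∈ D := Set.mem_iUnion₂.2 ⟨g w, ⟨h1, hne⟩, subset_closure rfl⟩
    exact hw.2 h2
  obtain ⟨W, hW, hvW, hWle⟩ : ∃ W : V.Opens, W ∈ V.affineOpens ∧ v ∈ W ∧ W ≤ W₀ := by
    obtain ⟨W, h1, h2, h3⟩ := TopologicalSpace.Opens.isBasis_iff_nbhd.mp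
      (Scheme.isBasis_affineOpens V) hvW₀
    exact ⟨W, h1, h2, h3⟩
  have hW' : IsAffineOpen W := hW
  have e' : W ≤ g ⁻¹ᵁ UB := hWle.trans (inf_le_left.trans hVAle)
  obtain ⟨Pv, hPv⟩ : ∃ Pv : PrimeSpectrum Γ(U, UB), hUB'.fromSpec Pv = g v :=
    ⟨hUB'.primeIdealOf ⟨g v, hvUB⟩, hUB'.fromSpec_primeIdealOf ⟨g v, hvUB⟩⟩
  have hcomap : ∀ q : Ideal Γ(V, W), q.IsPrime → q.comap (g.appLE UB W e').hom = Pv.asIdeal := by
    intro q hq
    let Q : PrimeSpectrum Γ(V, W) := ⟨q, hq⟩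
    have h1 : g (hW'.fromSpec Q) = g v := hconst _ (hWle (hmemW W hW' Q))
    rw [key W hW' e', ← hPv] at h1
    have h2 := hUB'.fromSpec.isOpenEmbedding.injective h1
    have h3 := congrArg PrimeSpectrum.asIdeal h2
    rw [hmapIdeal] at h3
    exact h3
  obtain ⟨ψ, hψ⟩ := exists_factor_fractionRing (g.appLE UB W e').hom Pv.asIdeal hcomap
  refine ⟨W, hvW, FractionRing (Γ(U, UB) ⧸ Pv.asIdeal), inferInstance,
    hW'.isoSpec.hom ≫ Spec.map (CommRingCat.ofHom ψ),
    Spec.map (CommRingCat.ofHom ((algebraMap (Γ(U, UB) ⧸ Pv.asIdeal)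
      (FractionRing (Γ(U, UB) ⧸ Pv.asIdeal))).comp (Ideal.Quotient.mk Pv.asIdeal))) ≫
      hUB'.fromSpec, ?_⟩
  have hcomp : Spec.map (CommRingCat.ofHom ψ) ≫ Spec.map (CommRingCat.ofHom
      ((algebraMap (Γ(U, UB) ⧸ Pv.asIdeal) (FractionRing (Γ(U, UB) ⧸ Pv.asIdeal))).comp
        (Ideal.Quotient.mk Pv.asIdeal))) = Spec.map (g.appLE UB W e') := by
    rw [← Spec.map_comp, ← CommRingCat.ofHom_comp, hψ]
    rfl
  calc (hW'.isoSpec.hom ≫ Spec.map (CommRingCat.ofHom ψ)) ≫ Spec.map (CommRingCat.ofHom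
        ((algebraMap (Γ(U, UB) ⧸ Pv.asIdeal) (FractionRing (Γ(U, UB) ⧸ Pv.asIdeal))).comp
          (Ideal.Quotient.mk Pv.asIdeal))) ≫ hUB'.fromSpec
      = hW'.isoSpec.hom ≫ Spec.map (g.appLE UB W e') ≫ hUB'.fromSpec := by
        rw [Category.assoc, ← Category.assoc (Spec.map (CommRingCat.ofHom ψ)), hcomp]
    _ = hW'.isoSpec.hom ≫ hW'.fromSpec ≫ g := by rw [IsAffineOpen.SpecMap_appLE_fromSpec]
    _ = W.ι ≫ g := by rw [← Category.assoc, hW'.isoSpec_hom_fromSpec]


/-! ### Part 5: morphisms from reduced spaces with image a point factor through the residual space -/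

open Groth.Agent.Lib.AlgSpReduced_helper7 Groth.Agent.Lib.AlgSpFormal_helper7
  Groth.Agent.Lib.AlgSpLocP3_helper7 in
theorem exists_factor_residual {Y X Z : Sp S} (hYs : IsAlgSpace Y) (hXs : IsAlgSpace X)
    (hZs : IsAlgSpace Z) (f : Y ⟶ X) (x : Points X)
    (hf : ∀ y : Points Y, Points.map f y = x) (hY : EtaleLocally (fun U => IsReduced U) Y)
    (hX : IsLocNoethSp X) (i : Z ⟶ X) [Mono i] (hi : Set.range (Points.map i) = {x})
    (hZ : ∃ (k : Type u) (_ : Field k) (str : Spec (CommRingCat.of k) ⟶ S)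
      (p : (yon S).obj (Over.mk str) ⟶ Z),
        LocP @LocallyOfFinitePresentation p ∧ LocP @Flat p ∧ IsSurjectiveMor p) :
    ∃ g : Y ⟶ Z, g ≫ i = f := by
  obtain ⟨k, _, strk, p, hplfp, -, hps⟩ := hZ
  have hprep : Representable p := hZs.representable_from_yon p
  have hp1 : RepWith @LocallyOfFinitePresentation p :=
    (locP_iff_repWith_listed _ (Or.inr (Or.inl rfl)) hZs p hprep).1 hplfp
  obtain ⟨U, pU, hpUe, hpUs, hUN⟩ := hX
  obtain ⟨UY, pY, hpYe, hpYs, hUYred⟩ := hY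
  haveI : IsLocallyNoetherian U.left := hUN
  obtain ⟨c, hc⟩ : ∃ c : (yon S).obj UY ⟶ X, c = pY ≫ f := ⟨_, rfl⟩
  obtain ⟨g₀, hg₀⟩ : ∃ g₀ : hpUe.rep.pullback c ⟶ U, g₀ = hpUe.rep.fst' c := ⟨_, rfl⟩
  obtain ⟨sV, hsV⟩ : ∃ sV : hpUe.rep.pullback c ⟶ UY, sV = hpUe.rep.snd c := ⟨_, rfl⟩
  have sq : IsPullback ((yon S).map g₀) ((yon S).map sV) pU c := by
    rw [hg₀, hsV]; exact hpUe.rep.isPullback' c
  have hsVe : Etale sV.left := by rw [hsV]; exact hpUe.property_snd c
  have hsVs : Surjective sV.left := by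
    rw [hsV]; exact hpUs.property _ _ _ (hpUe.rep.isPullback c)
  obtain ⟨pV, hpV⟩ : ∃ pV : (yon S).obj (hpUe.rep.pullback c) ⟶ Y, pV = (yon S).map sV ≫ pY :=
    ⟨_, rfl⟩
  have hpVe : RepWith @Etale pV := by
    rw [hpV]
    exact repWith_comp @Etale ((repWith_yon_map_iff @Etale sV).2 hsVe) hpYe
  haveI : IsReduced (hpUe.rep.pullback c).left :=
    isReduced_chart_of_isReducedSp hYs ⟨UY, pY, hpYe, hpYs, hUYred⟩ pV hpVe
  haveI hpVepi : Epi pV := by
    haveI := epi_of_atlas pY hpYe hpYs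
    haveI : Epi ((yon S).map sV) := epi_yon_map sV hsVs inferInstance inferInstance
    rw [hpV]
    exact epi_comp _ _
  have e1 : (yon S).map sV ≫ c = pV ≫ f :=
    (congrArg (fun t => (yon S).map sV ≫ t) hc).trans (by rw [hpV, Category.assoc])
  -- all points of the chart map to the fibre over `x`
  have hVx : ∀ v : ↥(hpUe.rep.pullback c).left, Points.ofPt pU (g₀.left v) = x := by
    intro v
    rw [← ofPt_comp, sq.w, ofPt_comp]
    exact (congrFun (congrArg Points.ofPt hc) _).trans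
      ((Points.map_ofPt pY f _).symm.trans (hf _))
  have hE : ∀ v v' : ↥(hpUe.rep.pullback c).left, g₀.left v' ⤳ g₀.left v →
      g₀.left v = g₀.left v' := fun v v' hs =>
    Groth.Agent.Lib.AlgSpNoeth2_helper6.eq_of_specializes_of_isLocNoethSp
      ⟨U, pU, hpUe, hpUs, hUN⟩ pU hpUe _ _ ((hVx v).trans (hVx v').symm) hs
  -- `x` is the class of `p ≫ i`
  have hxp : x = Points.mk (ofHom (p ≫ i)) := by
    have hx : x ∈ Set.range (Points.map i) := by rw [hi]; exact rfl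
    obtain ⟨z, hz⟩ := hx
    obtain ⟨w, hw⟩ := hps z
    obtain ⟨K', _, sK', m, hm⟩ := mk_surjective' w
    obtain ⟨μ, hμ⟩ := (yon S).map_surjective m
    rw [← hz, ← hw, ← hm, map_mk_ofHom, map_mk_ofHom, ← hμ, Category.assoc, mk_ofHom_comp]
  -- local factorizations
  have hloc : ∀ v : ↥(hpUe.rep.pullback c).left, ∃ (W : (hpUe.rep.pullback c).left.Opens)
      (_ : v ∈ W) (s : (yon S).obj (opOver (hpUe.rep.pullback c) W) ⟶ Z),
      s ≫ i = ((yon S).map (opι (hpUe.rep.pullback c) W) ≫ pV) ≫ f := by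
    intro v
    obtain ⟨W, hvW, L, _, h, y, hhy⟩ := exists_open_factor_field g₀.left hE v
    refine ⟨W, hvW, ?_⟩
    let yO : Over.mk (y ≫ U.hom) ⟶ U := Over.homMk y rfl
    have hhS : h ≫ (Over.mk (y ≫ U.hom)).hom = (opOver (hpUe.rep.pullback c) W).hom := by
      change h ≫ y ≫ U.hom = W.ι ≫ (hpUe.rep.pullback c).hom
      rw [← Category.assoc, hhy, Category.assoc, Over.w g₀]
    let hO : opOver (hpUe.rep.pullback c) W ⟶ Over.mk (y ≫ U.hom) := Over.homMk h hhS
    have hOy : hO ≫ yO = opι (hpUe.rep.pullback c) W ≫ g₀ := Over.OverMorphism.ext hhy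
    -- the class of the field point
    have hcl : y (IsLocalRing.closedPoint L) = g₀.left v := by
      obtain ⟨v', hv'⟩ : ∃ v' : ↥W.toScheme, W.ι v' = v := by
        have : v ∈ Set.range W.ι := by rw [Scheme.Opens.range_ι]; exact hvW
        exact this
      have h1 : (h ≫ y) v' = (W.ι ≫ g₀.left) v' := by rw [hhy]
      rw [Scheme.Hom.comp_apply, Scheme.Hom.comp_apply, hv'] at h1
      rw [← h1]
      congr 1
      haveI : Subsingleton ↥(Spec (CommRingCat.of L)) :=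
        inferInstanceAs (Subsingleton (PrimeSpectrum L))
      exact Subsingleton.elim _ _
    have hpt : Points.mk (ofHom ((yon S).map yO ≫ pU)) = Points.mk (ofHom (p ≫ i)) := by
      rw [← hxp, ← ofPt_eq_mk_ofHom pU yO]
      change Points.ofPt pU (y (IsLocalRing.closedPoint L)) = x
      rw [hcl]; exact hVx v
    obtain ⟨b, hb⟩ := exists_factor_fieldPt hXs i p hp1 ((yon S).map yO ≫ pU) hpt
    refine ⟨(yon S).map hO ≫ b, ?_⟩
    rw [Category.assoc, hb, ← Category.assoc, ← Functor.map_comp, hOy, Functor.map_comp,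
      Category.assoc, sq.w, e1]
    simp only [Category.assoc]
  choose W hvW s hs using hloc
  -- the projection `Y ×_X Z ⟶ Y` is an epimorphism
  haveI : Epi (pullback.fst f i) := by
    refine ⟨fun {T} a b hab => ?_⟩
    rw [← cancel_epi pV]
    refine hom_ext_of_fppf_family (fun v : ↥(hpUe.rep.pullback c).left =>
        opOver (hpUe.rep.pullback c) (W v)) (fun v => opι (hpUe.rep.pullback c) (W v))
      (fun v => (inferInstance : Flat (W v).ι))
      (fun v => (inferInstance : LocallyOfFinitePresentation (W v).ι))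
      (fun t => ⟨t, by
        change t ∈ Set.range (W t).ι
        rw [Scheme.Opens.range_ι]; exact hvW t⟩) _ _ (fun v => ?_)
    have h1 := congrArg (fun t => pullback.lift
      ((yon S).map (opι (hpUe.rep.pullback c) (W v)) ≫ pV) (s v) (hs v).symm ≫ t) hab
    simp only [← Category.assoc, pullback.lift_fst] at h1
    simpa only [Category.assoc] using h1
  haveI : IsIso (pullback.fst f i) := isIso_of_mono_of_epi _
  refine ⟨inv (pullback.fst f i) ≫ pullback.snd f i, ?_⟩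
  rw [Category.assoc, ← pullback.condition, IsIso.inv_hom_id_assoc]

end Groth.Agent.Lib.AlgSpResidualH6
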