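import Groth.Agent.Lib.AlgSpOnePt_helper7
import Groth.Agent.Lib.AlgSpNoethDesc_helper7

/-!
# Reduced locally Noetherian one-point algebraic spaces (helper7)
-/

set_option autoImplicit false
universe u
open CategoryTheory CategoryTheory.Limits AlgebraicGeometry Opposite

namespace Groth.Agent.Lib.AlgSpResidual_helper7

open AlgSp Groth.Agent.Lib.AlgSpPoints_helper7 Groth.Agent.Lib.AlgSpTop_helper7
  Groth.Agent.Lib.AlgSpPullback_helper7 Groth.Agent.Lib.AlgSpBasic_helper7
  Groth.Agent.Lib.AlgSpLocP_helper7 Groth.Agent.Lib.AlgSpLocP4_helper7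
  Groth.Agent.Lib.AlgSpLocP6_helper7 Groth.Agent.Lib.AlgSpLocP7_helper7
  Groth.Agent.Lib.AlgSpEtale_helper7 Groth.Agent.Lib.AlgSpSrc_helper7
  Groth.Agent.Lib.AlgSpFieldFlat_helper7 Groth.Agent.Lib.AlgSpOnePt_helper7

variable {S : Scheme.{u}}

/-- If `Z` admits a flat surjective morphism from the spectrum of a field then every etale chart
of `Z` is reduced and has no nontrivial specializations. -/
theorem reduced_noGen_of_flat_surjective_field {Z : Sp S}
    {k : Type u} [Field k] (str : Spec (CommRingCat.of k) ⟶ S)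
    (p : (yon S).obj (Over.mk str) ⟶ Z) (hpf : LocP @Flat p) (hps : IsSurjectiveMor p)
    {U : Over S} (a : (yon S).obj U ⟶ Z) (hae : RepWith @Etale a) :
    IsReduced U.left ∧ ∀ u u' : ↥U.left, u' ⤳ u → u' = u := by
  have sq := hae.rep.isPullback' p
  haveI hfl : Flat (hae.rep.fst' p).left :=
    hpf ((yon S).map (hae.rep.snd p)) a (hae.rep.fst' p)
      ((repWith_yon_map_iff @Etale _).2 (hae.property_snd p)) hae sq.w.symm
  haveI hsurj : Surjective (hae.rep.fst' p).left :=
    surjective_left_of_isPullback sq.flip hps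
  haveI het : Etale (hae.rep.snd p).left := hae.property_snd p
  haveI : IsReduced (hae.rep.pullback p).left := isReduced_of_etale_field (hae.rep.snd p).left
  haveI := discreteTopology_of_etale_field (hae.rep.snd p).left
  refine ⟨isReduced_of_flat_surjective (hae.rep.fst' p).left, ?_⟩
  intro u u' h
  obtain ⟨w, rfl⟩ := (hae.rep.fst' p).left.surjective u
  obtain ⟨w', hw', rfl⟩ := (Flat.generalizingMap (f := (hae.rep.fst' p).left)) h
  rw [hw'.eq]

/-- In a locally Noetherian scheme without nontrivial specializations the sections over affine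
opens are Artinian rings. -/
theorem isArtinianRing_of_noGen (U : Scheme.{u}) [IsLocallyNoetherian U]
    (h : ∀ u u' : ↥U, u' ⤳ u → u' = u) {V : U.Opens} (hV : IsAffineOpen V) :
    IsArtinianRing Γ(U, V) := by
  haveI : IsNoetherianRing Γ(U, V) := IsLocallyNoetherian.component_noetherian ⟨V, hV⟩
  haveI : Ring.KrullDimLE 0 Γ(U, V) := by
    refine Ring.KrullDimLE.mk₀ fun I hI => ?_
    obtain ⟨m, hm, hIm⟩ := I.exists_le_maximal hI.ne_top
    have hspec : (⟨I, hI⟩ : PrimeSpectrum Γ(U, V)) ⤳ ⟨m, hm.isPrime⟩ :=
      (PrimeSpectrum.le_iff_specializes _ _).1 hIm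
    have h1 := h _ _ (hspec.map hV.fromSpec.continuous)
    have h2 := hV.fromSpec.isOpenEmbedding.injective h1
    have h3 : I = m := congrArg PrimeSpectrum.asIdeal h2
    exact h3 ▸ hm
  exact isArtinianRing_iff_isNoetherianRing_krullDimLE_zero.2 ⟨inferInstance, inferInstance⟩

/-- In a locally Noetherian scheme without nontrivial specializations the inclusion of a point is
locally of finite presentation. -/
theorem lfp_fromSpecResidueField_of_noGen (U : Scheme.{u}) [IsLocallyNoetherian U]
    (h : ∀ u u' : ↥U, u' ⤳ u → u' = u) (u : ↥U) :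
    LocallyOfFinitePresentation (U.fromSpecResidueField u) := by
  obtain ⟨_, ⟨V, hV, rfl⟩, huV, -⟩ :=
    U.isBasis_affineOpens.exists_subset_of_mem_open (Set.mem_univ u) isOpen_univ
  haveI : IsNoetherianRing Γ(U, V) := IsLocallyNoetherian.component_noetherian ⟨V, hV⟩
  haveI : IsArtinianRing Γ(U, V) := isArtinianRing_of_noGen U h hV
  have e : U.fromSpecResidueField u =
      Spec.map (U.presheaf.germ V u huV ≫ U.residue u) ≫ hV.fromSpec := by
    rw [Scheme.fromSpecResidueField, ← hV.fromSpecStalk_eq_fromSpecStalk huV,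
      IsAffineOpen.fromSpecStalk, Spec.map_comp, Category.assoc]
  rw [e]
  have : LocallyOfFinitePresentation (Spec.map (U.presheaf.germ V u huV ≫ U.residue u)) := by
    rw [HasRingHomProperty.Spec_iff (P := @LocallyOfFinitePresentation)]
    apply RingHom.FinitePresentation.of_surjective
    · rw [CommRingCat.hom_comp, RingHom.coe_comp]
      refine (U.residue_surjective u).comp ?_
      letI : Algebra Γ(U, V) (U.presheaf.stalk u) := (U.presheaf.germ V u huV).hom.toAlgebra
      haveI := hV.isLocalization_stalk ⟨u, huV⟩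
      exact IsArtinianRing.localization_surjective
        (hV.primeIdealOf ⟨u, huV⟩).asIdeal.primeCompl _
    · exact IsNoetherian.noetherian _
  infer_instance

/-- A locally Noetherian algebraic space admitting a flat surjective morphism from the spectrum
of a field admits one which is moreover locally of finite presentation. -/
theorem exists_lfp_flat_surjective_field {Z : Sp S} (hZ : IsAlgSpace Z)
    (hN : IsLocNoethSp Z)
    {k : Type u} [Field k] (str : Spec (CommRingCat.of k) ⟶ S)
    (p : (yon S).obj (Over.mk str) ⟶ Z) (hpf : LocP @Flat p) (hps : IsSurjectiveMor p) :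
    ∃ (k' : Type u) (_ : Field k') (str' : Spec (CommRingCat.of k') ⟶ S)
      (p' : (yon S).obj (Over.mk str') ⟶ Z),
      LocP @LocallyOfFinitePresentation p' ∧ LocP @Flat p' ∧ IsSurjectiveMor p' := by
  obtain ⟨U, a, hae, has, hUN⟩ := hN
  haveI : IsLocallyNoetherian U.left := hUN
  obtain ⟨hred, hgen⟩ := reduced_noGen_of_flat_surjective_field str p hpf hps a hae
  haveI : IsReduced U.left := hred
  have hsub := subsingleton_points_field str
  have hsing : ∀ z z' : Points Z, z = z' := by
    intro z z'
    obtain ⟨x, rfl⟩ := hps z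
    obtain ⟨x', rfl⟩ := hps z'
    rw [Subsingleton.elim x x']
  obtain ⟨u, -⟩ := ofPt_surjective a has
    (Points.map p (Points.ofScheme _ (IsLocalRing.closedPoint k)))
  have hfield : IsField (U.left.presheaf.stalk u) := isField_stalk_of_no_specializations hgen u
  have hfl : Flat (U.left.fromSpecResidueField u) :=
    flat_fromSpecResidueField_of_isField U.left u hfield
  have hlfp : LocallyOfFinitePresentation (U.left.fromSpecResidueField u) :=
    lfp_fromSpecResidueField_of_noGen U.left hgen u
  obtain ⟨ι, hι⟩ : ∃ ι : Over.mk (U.left.fromSpecResidueField u ≫ U.hom) ⟶ U,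
      ι.left = U.left.fromSpecResidueField u := ⟨Over.homMk _ rfl, rfl⟩
  refine ⟨↥(U.left.residueField u), inferInstance, U.left.fromSpecResidueField u ≫ U.hom,
    (yon S).map ι ≫ a, ?_, locP_flat_yon_map_comp hZ ι (by rw [hι]; exact hfl) a hae, ?_⟩
  · have hE : ∀ ⦃A B : Scheme.{u}⦄ (g : A ⟶ B), Etale g → LocallyOfFinitePresentation g :=
      fun A B g hg => inferInstance
    have h1 : LocP @LocallyOfFinitePresentation ((yon S).map ι) :=
      locP_of_repWith @LocallyOfFinitePresentation hE _
        ((repWith_yon_map_iff @LocallyOfFinitePresentation ι).2 (by rw [hι]; exact hlfp))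
    have h2 : LocP @LocallyOfFinitePresentation a :=
      locP_of_repWith @LocallyOfFinitePresentation hE a
        (repWith_mono (fun A B g hg => hE g hg) hae)
    exact locP_comp etLocal_locallyOfFinitePresentation (IsAlgSpace.yon_obj _)
      (IsAlgSpace.yon_obj _) hZ _ _ h1 h2
  · intro z
    exact ⟨Points.ofScheme _ (IsLocalRing.closedPoint _), hsing _ _⟩

end Groth.Agent.Lib.AlgSpResidual_helper7
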