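import Mathlib
import Groth.Prelude.Def_AlgSp
import Groth.Agent.Lib.AlgSpPullback_helper7

set_option autoImplicit false

/-! Restriction of fppf sheaves along a morphism of base schemes `g : S ⟶ S'`. -/

namespace Groth.Agent.Lib.AlgSpRestrictH7
open CategoryTheory CategoryTheory.Limits AlgebraicGeometry Opposite AlgSp
open Groth.Agent.Lib.AlgSpPullback_helper7
universe u

variable {S S' : Scheme.{u}} (g : S ⟶ S')

/-- The restriction functor `j⁻¹`. -/
noncomputable abbrev res : Sp S' ⥤ Sp S := Scheme.fppfTopology.overMapPullback (Type (u + 1)) g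

/-- `Hom(h_T, j⁻¹F') ≃ Hom(h_{T/S'}, F')`. -/
noncomputable def adjEquiv (T : Over S) (F' : Sp S') :
    ((yon S).obj T ⟶ (res g).obj F') ≃ ((yon S').obj ((Over.map g).obj T) ⟶ F') :=
  (GrothendieckTopology.uliftYonedaEquiv.{u + 1} (J S) (X := T) (F := (res g).obj F')).trans
    (GrothendieckTopology.uliftYonedaEquiv.{u + 1} (J S') (X := (Over.map g).obj T) (F := F')).symm

lemma adjEquiv_comp {T : Over S} {F' G' : Sp S'} (α : (yon S).obj T ⟶ (res g).obj F')
    (f' : F' ⟶ G') : adjEquiv g T G' (α ≫ (res g).map f') = adjEquiv g T F' α ≫ f' := by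
  have h := GrothendieckTopology.uliftYonedaEquiv_symm_naturality_right.{u + 1} (J S')
    ((Over.map g).obj T) f'
    (show F'.obj.obj (op ((Over.map g).obj T)) from
      GrothendieckTopology.uliftYonedaEquiv.{u + 1} (J S) α)
  exact h.symm

lemma adjEquiv_map_comp {T₁ T : Over S} {F' : Sp S'} (a : T₁ ⟶ T)
    (α : (yon S).obj T ⟶ (res g).obj F') :
    adjEquiv g T₁ F' ((yon S).map a ≫ α) =
      (yon S').map ((Over.map g).map a) ≫ adjEquiv g T F' α := by
  have h := GrothendieckTopology.uliftYonedaEquiv_symm_naturality_left.{u + 1} (J S')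
    ((Over.map g).map a) F'
    (show F'.obj.obj (op ((Over.map g).obj T)) from
      GrothendieckTopology.uliftYonedaEquiv.{u + 1} (J S) α)
  have h2 := GrothendieckTopology.uliftYonedaEquiv_naturality.{u + 1} (J S) α a
  refine Eq.trans ?_ h.symm
  exact congrArg (GrothendieckTopology.uliftYonedaEquiv.{u + 1} (J S')
    (X := (Over.map g).obj T₁) (F := F')).symm h2.symm

variable {g}

/-- Restriction of a represented pullback square is a represented pullback square. -/
theorem res_isPullback {A' B' : Sp S'} (f' : A' ⟶ B') {T : Over S}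
    (α : (yon S).obj T ⟶ (res g).obj B') {W' : Over S'} (w : W' ⟶ (Over.map g).obj T)
    (fst' : (yon S').obj W' ⟶ A')
    (sq' : IsPullback fst' ((yon S').map w) f' (adjEquiv g T B' α)) :
    ∃ fst : (yon S).obj (Over.mk (w.left ≫ T.hom)) ⟶ (res g).obj A',
      IsPullback fst ((yon S).map (Over.homMk w.left rfl : Over.mk (w.left ≫ T.hom) ⟶ T))
        ((res g).map f') α := by
  let W : Over S := Over.mk (w.left ≫ T.hom)
  let wS : W ⟶ T := Over.homMk w.left rfl
  let e : (Over.map g).obj W ≅ W' := Over.isoMk (Iso.refl _) (by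
    have := Over.w w
    simp only [Over.map_obj_hom] at this
    simp [W, ← this])
  have he : e.hom ≫ w = (Over.map g).map wS := by
    ext
    simp [e, wS]
  have sq'' : IsPullback ((yon S').map e.hom ≫ fst') ((yon S').map ((Over.map g).map wS)) f'
      (adjEquiv g T B' α) := by
    rw [← he, Functor.map_comp]
    exact IsPullback.of_iso sq' ((yon S').mapIso e).symm (Iso.refl _) (Iso.refl _) (Iso.refl _)
      (by simp) (by simp) (by simp) (by simp)
  refine ⟨(adjEquiv g W A').symm ((yon S').map e.hom ≫ fst'), ?_⟩
  refine isPullback_of_forall_yon ?_ ?_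
  · apply (adjEquiv g W B').injective
    rw [adjEquiv_comp, adjEquiv_map_comp, Equiv.apply_symm_apply]
    exact sq''.w
  · intro T₁ a b hab
    obtain ⟨b₀, rfl⟩ := (yon S).map_surjective b
    have h1 : adjEquiv g T₁ A' a ≫ f' =
        (yon S').map ((Over.map g).map b₀) ≫ adjEquiv g T B' α := by
      rw [← adjEquiv_comp, hab, adjEquiv_map_comp]
    obtain ⟨l₀', hl₀'⟩ := (yon S').map_surjective (sq''.lift _ _ h1)
    have hl1 : (yon S').map l₀' ≫ ((yon S').map e.hom ≫ fst') = adjEquiv g T₁ A' a := by
      rw [hl₀']; exact sq''.lift_fst _ _ _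
    have hl2 : l₀' ≫ (Over.map g).map wS = (Over.map g).map b₀ := by
      apply (yon S').map_injective
      rw [Functor.map_comp, hl₀']
      exact sq''.lift_snd _ _ _
    have hl2' : l₀'.left ≫ w.left = b₀.left := congrArg (fun f => f.left) hl2
    let l₀ : T₁ ⟶ W := Over.homMk l₀'.left (by
      change l₀'.left ≫ w.left ≫ T.hom = T₁.hom
      rw [← Category.assoc, hl2', Over.w b₀])
    have hjl : (Over.map g).map l₀ = l₀' := by ext; rfl
    refine ⟨(yon S).map l₀, ⟨?_, ?_⟩, ?_⟩
    · apply (adjEquiv g T₁ A').injective
      rw [adjEquiv_map_comp, Equiv.apply_symm_apply, hjl]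
      exact hl1
    · rw [← Functor.map_comp]
      congr 1
      ext
      exact hl2'
    · rintro p ⟨hp1, hp2⟩
      obtain ⟨p₀, rfl⟩ := (yon S).map_surjective p
      congr 1
      have hp2' : p₀ ≫ wS = b₀ := by
        apply (yon S).map_injective
        rw [Functor.map_comp]; exact hp2
      have hjp : (Over.map g).map p₀ = l₀' := by
        apply (yon S').map_injective
        rw [hl₀']
        apply sq''.hom_ext
        · rw [sq''.lift_fst, ← hp1, adjEquiv_map_comp, Equiv.apply_symm_apply]
        · rw [sq''.lift_snd, ← Functor.map_comp, ← Functor.map_comp, hp2']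
      ext
      exact congrArg (fun f => f.left) hjp

theorem representable_res {A' B' : Sp S'} (f' : A' ⟶ B') (hf' : Representable f') :
    Representable ((res g).map f') := by
  intro T α
  obtain ⟨W', w, fst', sq'⟩ := hf' (adjEquiv g T B' α)
  obtain ⟨fst, sq⟩ := res_isPullback f' α w fst' sq'
  exact ⟨_, _, fst, sq⟩

theorem repWith_res (P : MorphismProperty Scheme.{u}) [P.RespectsIso] {A' B' : Sp S'}
    (f' : A' ⟶ B') (hf' : RepWith P f') : RepWith P ((res g).map f') := by
  haveI : (P.inverseImage (Over.forget S)).RespectsIso :=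
    MorphismProperty.RespectsIso.inverseImage P _
  refine MorphismProperty.relative.of_exists ?_
  intro T α
  obtain ⟨W', w, fst', sq'⟩ := hf'.rep (adjEquiv g T B' α)
  have hP : P w.left := hf'.property _ fst' w sq'
  obtain ⟨fst, sq⟩ := res_isPullback f' α w fst' sq'
  exact ⟨_, fst, _, sq, hP⟩

variable (g)

/-- `j⁻¹ h_{X'}` is represented by `X' ×_{S'} S`. -/
noncomputable def resYonRepresentableBy (X' : Over S') :
    ((res g).obj ((yon S').obj X')).obj.RepresentableBy (Over.mk (pullback.snd X'.hom g)) where
  homEquiv {T} :=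
    { toFun := fun a => ULift.up (Over.homMk (a.left ≫ pullback.fst X'.hom g) (by
        have h := Over.w a
        simp only [Over.mk_hom] at h
        simp only [Over.map_obj_hom, Category.assoc, pullback.condition]
        rw [← Category.assoc, h]) : (Over.map g).obj T ⟶ X')
      invFun := fun b => Over.homMk (pullback.lift b.down.left T.hom (Over.w b.down))
        (pullback.lift_snd _ _ _)
      left_inv := fun a => by
        ext
        apply pullback.hom_ext
        · exact pullback.lift_fst _ _ _
        · exact (pullback.lift_snd _ _ _).trans (Over.w a).symm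
      right_inv := fun b => by
        apply ULift.ext
        apply Over.OverMorphism.ext
        exact pullback.lift_fst _ _ _ }
  homEquiv_comp := fun f a => by
    apply ULift.ext
    apply Over.OverMorphism.ext
    exact Category.assoc _ _ _

variable {g}

theorem isAlgSpace_res (F' : Sp S') (hF' : IsAlgSpace F') : IsAlgSpace ((res g).obj F') := by
  haveI : PreservesLimitsOfSize.{0, 0} (res g) :=
    (Adjunction.ofIsRightAdjoint (res g)).rightAdjoint_preservesLimits
  refine ⟨?_, ?_⟩
  · have hd : Limits.diag ((res g).obj F') =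
        (res g).map (Limits.diag F') ≫ prodComparison (res g) F' F' := by
      simp only [Limits.diag, prodComparison, prod.comp_lift, ← Functor.map_comp, prod.lift_fst,
        prod.lift_snd]
      erw [(res g).map_id]
    rw [hd]
    exact MorphismProperty.RespectsIso.postcomp _ _ _ (representable_res _ hF'.diag)
  · obtain ⟨U', p', hpe, hps⟩ := hF'.atlas
    exact ⟨_, (isoOfRepresentableBy (resYonRepresentableBy g U')).hom ≫ (res g).map p',
      MorphismProperty.RespectsIso.precomp _ _ _ (repWith_res _ _ hpe),
      MorphismProperty.RespectsIso.precomp _ _ _ (repWith_res _ _ hps)⟩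

end Groth.Agent.Lib.AlgSpRestrictH7
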