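import Mathlib
import Groth.Prelude.Def_AlgSp
import Groth.Agent.Lib.AlgSpRestrict_helper7
import Groth.Agent.Lib.SpCoprod2_helper7

set_option autoImplicit false

/-! `j⁻¹ F'` is an algebraic space over `S` iff `h_S × F'` is an algebraic space over `S'`. -/

namespace Groth.Agent.Lib.AlgSpRestrict2H7
open CategoryTheory CategoryTheory.Limits AlgebraicGeometry Opposite AlgSp
open Groth.Agent.Lib.AlgSpPullback_helper7 Groth.Agent.Lib.AlgSpRestrictH7
universe u

/-- In a category with a terminal object `T`, the second factor of a product `H ⨯ B` is the fibre of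
the first projection over a point `δ : T ⟶ H`. -/
lemma isPullback_prod_fst_point {C : Type*} [Category C] {T H B : C} (hT : IsTerminal T)
    [HasBinaryProduct H B] (δ : T ⟶ H) :
    IsPullback (hT.from B) (prod.lift (hT.from B ≫ δ) (𝟙 B)) δ (prod.fst : H ⨯ B ⟶ H) := by
  refine Groth.Agent.Lib.AlgSpRepBySp_helper7.isPullback_of_existsUnique
    (prod.lift_fst _ _).symm ?_
  intro W u v huv
  refine ⟨v ≫ prod.snd, ⟨hT.hom_ext _ _, ?_⟩, ?_⟩
  · apply Limits.prod.hom_ext
    · rw [Category.assoc, prod.lift_fst, ← huv, ← Category.assoc]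
      congr 1
      exact hT.hom_ext _ _
    · rw [Category.assoc, prod.lift_snd, Category.comp_id]
  · rintro l ⟨-, hl⟩
    rw [← hl, Category.assoc, prod.lift_snd, Category.comp_id]

variable {S S' : Scheme.{u}} (g : S ⟶ S')

/-- The structure map `T/S' ⟶ S/S'` of a scheme over `S`. -/
def strMap (T : Over S) : (Over.map g).obj T ⟶ Over.mk g := Over.homMk T.hom rfl

/-- The `S'`-point of `h_S × F'` attached to an `S`-point of `j⁻¹F'`. -/
noncomputable def gam {F' : Sp S'} (T : Over S) (α : (yon S).obj T ⟶ (res g).obj F') :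
    (yon S').obj ((Over.map g).obj T) ⟶ (yon S').obj (Over.mk g) ⨯ F' :=
  prod.lift ((yon S').map (strMap g T)) (adjEquiv g T F' α)

lemma exists_gam {F' : Sp S'} {T' : Over S'}
    (γ' : (yon S').obj T' ⟶ (yon S').obj (Over.mk g) ⨯ F') :
    ∃ (T : Over S) (e : (Over.map g).obj T ≅ T') (α : (yon S).obj T ⟶ (res g).obj F'),
      (yon S').map e.hom ≫ γ' = gam g T α := by
  let σ₀ : T' ⟶ Over.mk g := (yon S').preimage (γ' ≫ prod.fst)
  have hσ₀ : (yon S').map σ₀ = γ' ≫ prod.fst := (yon S').map_preimage _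
  let T : Over S := Over.mk σ₀.left
  let e : (Over.map g).obj T ≅ T' := Over.isoMk (Iso.refl _) (by
    have := Over.w σ₀
    simp only [Over.mk_hom] at this
    simp [T, this])
  refine ⟨T, e, (adjEquiv g T F').symm ((yon S').map e.hom ≫ γ' ≫ prod.snd), ?_⟩
  unfold gam
  apply Limits.prod.hom_ext
  · rw [prod.lift_fst, Category.assoc, ← hσ₀, ← Functor.map_comp]
    congr 1
  · rw [prod.lift_snd, Equiv.apply_symm_apply, Category.assoc]

variable {g}

/-- Transfer of represented pullback squares from `S` to `S'`. -/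
theorem isPullback_gam {F' : Sp S'} {T₁ T₂ W : Over S} (α₁ : (yon S).obj T₁ ⟶ (res g).obj F')
    (α₂ : (yon S).obj T₂ ⟶ (res g).obj F') (w₁ : W ⟶ T₁) (w₂ : W ⟶ T₂)
    (sq : IsPullback ((yon S).map w₁) ((yon S).map w₂) α₁ α₂) :
    IsPullback ((yon S').map ((Over.map g).map w₁)) ((yon S').map ((Over.map g).map w₂))
      (gam g T₁ α₁) (gam g T₂ α₂) := by
  have hstr : ∀ {A B : Over S} (f : A ⟶ B), (Over.map g).map f ≫ strMap g B = strMap g A := by
    intro A B f
    ext
    simp [strMap]
  refine isPullback_of_forall_yon ?_ ?_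
  · unfold gam
    apply Limits.prod.hom_ext
    · rw [Category.assoc, Category.assoc, prod.lift_fst, prod.lift_fst, ← Functor.map_comp,
        ← Functor.map_comp, hstr, hstr]
    · rw [Category.assoc, Category.assoc, prod.lift_snd, prod.lift_snd, ← adjEquiv_map_comp,
        ← adjEquiv_map_comp, sq.w]
  · intro T'₀ a b hab
    obtain ⟨a₀, rfl⟩ := (yon S').map_surjective a
    obtain ⟨b₀, rfl⟩ := (yon S').map_surjective b
    have hfst : a₀ ≫ strMap g T₁ = b₀ ≫ strMap g T₂ := by
      apply (yon S').map_injective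
      have := hab =≫ prod.fst
      simp only [gam, Category.assoc, prod.lift_fst] at this
      rw [Functor.map_comp, Functor.map_comp]
      exact this
    have hsnd : (yon S').map a₀ ≫ adjEquiv g T₁ F' α₁ = (yon S').map b₀ ≫ adjEquiv g T₂ F' α₂ := by
      have := hab =≫ prod.snd
      simp only [gam, Category.assoc, prod.lift_snd] at this
      exact this
    have hfst' : a₀.left ≫ T₁.hom = b₀.left ≫ T₂.hom := congrArg (fun f => f.left) hfst
    let T₀ : Over S := Over.mk (a₀.left ≫ T₁.hom)
    let e₀ : (Over.map g).obj T₀ ≅ T'₀ := Over.isoMk (Iso.refl _) (by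
      have := Over.w a₀
      simp only [Over.map_obj_hom] at this
      simp [T₀, this])
    let a₁ : T₀ ⟶ T₁ := Over.homMk a₀.left rfl
    let b₁ : T₀ ⟶ T₂ := Over.homMk b₀.left hfst'.symm
    have ha₁ : (Over.map g).map a₁ = e₀.hom ≫ a₀ := by ext; simp [a₁, e₀]
    have hb₁ : (Over.map g).map b₁ = e₀.hom ≫ b₀ := by ext; simp [b₁, e₀]
    have hαβ : (yon S).map a₁ ≫ α₁ = (yon S).map b₁ ≫ α₂ := by
      apply (adjEquiv g T₀ F').injective
      rw [adjEquiv_map_comp, adjEquiv_map_comp, ha₁, hb₁, Functor.map_comp, Functor.map_comp,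
        Category.assoc, Category.assoc, hsnd]
    obtain ⟨l₀, hl₀⟩ := (yon S).map_surjective (sq.lift _ _ hαβ)
    have hl1 : l₀ ≫ w₁ = a₁ := by
      apply (yon S).map_injective
      rw [Functor.map_comp, hl₀]; exact sq.lift_fst _ _ _
    have hl2 : l₀ ≫ w₂ = b₁ := by
      apply (yon S).map_injective
      rw [Functor.map_comp, hl₀]; exact sq.lift_snd _ _ _
    refine ⟨(yon S').map (e₀.inv ≫ (Over.map g).map l₀), ⟨?_, ?_⟩, ?_⟩
    · rw [← Functor.map_comp, Category.assoc, ← Functor.map_comp, hl1, ha₁, Iso.inv_hom_id_assoc]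
    · rw [← Functor.map_comp, Category.assoc, ← Functor.map_comp, hl2, hb₁, Iso.inv_hom_id_assoc]
    · rintro p ⟨hp1, hp2⟩
      obtain ⟨p₀, rfl⟩ := (yon S').map_surjective p
      congr 1
      have hp1' : p₀ ≫ (Over.map g).map w₁ = a₀ := by
        apply (yon S').map_injective; rw [Functor.map_comp]; exact hp1
      have hp2' : p₀ ≫ (Over.map g).map w₂ = b₀ := by
        apply (yon S').map_injective; rw [Functor.map_comp]; exact hp2
      have hp1l : p₀.left ≫ w₁.left = a₀.left := congrArg (fun f => f.left) hp1'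
      have hp2l : p₀.left ≫ w₂.left = b₀.left := congrArg (fun f => f.left) hp2'
      let l₀' : T₀ ⟶ W := Over.homMk p₀.left (by
        change p₀.left ≫ W.hom = a₀.left ≫ T₁.hom
        rw [← hp1l, Category.assoc, Over.w w₁])
      have hl' : l₀' = l₀ := by
        apply (yon S).map_injective
        rw [hl₀]
        apply sq.hom_ext
        · rw [sq.lift_fst, ← Functor.map_comp]
          congr 1
          ext
          exact hp1l
        · rw [sq.lift_snd, ← Functor.map_comp]
          congr 1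
          ext
          exact hp2l
      ext
      have h5 : l₀'.left = l₀.left := by rw [hl']
      have h6 : (e₀.inv ≫ (Over.map g).map l₀).left = l₀.left := Category.id_comp _
      rw [h6, ← h5]
      rfl

variable (g)

theorem repWith_gam (P : MorphismProperty Scheme.{u}) [P.RespectsIso] {F' : Sp S'} {U : Over S}
    (p : (yon S).obj U ⟶ (res g).obj F') (hp : RepWith P p) : RepWith P (gam g U p) := by
  haveI : (P.inverseImage (Over.forget S')).RespectsIso :=
    MorphismProperty.RespectsIso.inverseImage P _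
  refine MorphismProperty.relative.of_exists ?_
  intro T' γ'
  obtain ⟨T, e, α, h⟩ := exists_gam g γ'
  obtain ⟨W, snd, fst, sq⟩ := hp.rep α
  have hP : P snd.left := hp.property α fst snd sq
  obtain ⟨w₁, rfl⟩ := (yon S).map_surjective fst
  have sq' := isPullback_gam p α w₁ snd sq
  rw [← h] at sq'
  refine ⟨(Over.map g).obj W, (yon S').map ((Over.map g).map w₁),
    (Over.map g).map snd ≫ e.hom, ?_, ?_⟩
  · rw [Functor.map_comp]
    exact IsPullback.of_iso sq' (Iso.refl _) (Iso.refl _) ((yon S').mapIso e) (Iso.refl _)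
      (by simp) (by simp) (by simp) (by simp)
  · change P (snd.left ≫ e.hom.left)
    haveI : IsIso e.hom.left := inferInstanceAs (IsIso ((Over.forget S').map e.hom))
    exact (P.cancel_right_of_respectsIso _ _).2 hP

theorem isAlgSpace_prod_of_res {F' : Sp S'} (hR : IsAlgSpace ((res g).obj F')) :
    IsAlgSpace ((yon S').obj (Over.mk g) ⨯ F') := by
  have hrepr : ∀ {T' : Over S'} (γ' : (yon S').obj T' ⟶ (yon S').obj (Over.mk g) ⨯ F'),
      Representable γ' := by
    intro T'₂ γ'₂ T'₁ γ'₁
    obtain ⟨T₁, e₁, α₁, h₁⟩ := exists_gam g γ'₁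
    obtain ⟨T₂, e₂, α₂, h₂⟩ := exists_gam g γ'₂
    obtain ⟨W, snd, fst, sq⟩ := hR.representable_from_yon α₂ α₁
    obtain ⟨w₂, rfl⟩ := (yon S).map_surjective fst
    have sq' := isPullback_gam α₂ α₁ w₂ snd sq
    rw [← h₁, ← h₂] at sq'
    refine ⟨(Over.map g).obj W, (Over.map g).map snd ≫ e₁.hom,
      (yon S').map ((Over.map g).map w₂ ≫ e₂.hom), ?_⟩
    rw [Functor.map_comp, Functor.map_comp]
    exact IsPullback.of_iso sq' (Iso.refl _) ((yon S').mapIso e₂) ((yon S').mapIso e₁)
      (Iso.refl _) (by simp) (by simp) (by simp) (by simp)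
  refine ⟨Functor.relativelyRepresentable.diag_of_map_from_obj (fun _ γ' => hrepr γ'), ?_⟩
  obtain ⟨U, p, hpe, hps⟩ := hR.atlas
  exact ⟨(Over.map g).obj U, gam g U p, repWith_gam g @Etale p hpe,
    repWith_gam g @Surjective p hps⟩

theorem isAlgSpace_res_of_prod {F' : Sp S'}
    (hG : IsAlgSpace ((yon S').obj (Over.mk g) ⨯ F')) : IsAlgSpace ((res g).obj F') := by
  haveI : PreservesLimitsOfSize.{0, 0} (res g) :=
    (Adjunction.ofIsRightAdjoint (res g)).rightAdjoint_preservesLimits
  have hA : IsAlgSpace ((res g).obj ((yon S').obj (Over.mk g)) ⨯ (res g).obj F') :=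
    (isAlgSpace_res _ hG).of_iso (PreservesLimitPair.iso (res g) _ _)
  have hH : IsAlgSpace ((res g).obj ((yon S').obj (Over.mk g))) :=
    isAlgSpace_res _ (IsAlgSpace.yon_obj _)
  have sq := isPullback_prod_fst_point (B := (res g).obj F')
    (Groth.Agent.Lib.SpCoprod2H7.isTerminalYonOne (S := S))
    ((adjEquiv g (Groth.Agent.Lib.SpCoprod2H7.one S) _).symm
      ((yon S').map (strMap g (Groth.Agent.Lib.SpCoprod2H7.one S))))
  exact isAlgSpace_of_isPullback hH.diag (IsAlgSpace.yon_obj _) hA sq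

end Groth.Agent.Lib.AlgSpRestrict2H7
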