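import Groth.Agent.Lib.AlgSpSchDense_lead
import Groth.Agent.Lib.AlgSpPullback_helper7
import Groth.Agent.Lib.AlgSpOpenSub_helper7

/-!
# Intersection of scheme theoretically dense open subspaces (helper7)
-/

set_option autoImplicit false
universe u
open CategoryTheory CategoryTheory.Limits AlgebraicGeometry Opposite

namespace Groth.Agent.Lib.AlgSpSchDenseInfH7

open AlgSp Groth.Agent.Lib.AlgSpSchDense

theorem schDense_inf {X : Scheme.{u}} {W₁ W₂ : X.Opens} (h₁ : CInt.IsSchematicallyDense W₁)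
    (h₂ : CInt.IsSchematicallyDense W₂) : CInt.IsSchematicallyDense (W₁ ⊓ W₂) := by
  intro V'
  have hle5 : (V' ⊓ W₁) ⊓ W₂ ≤ V' ⊓ (W₁ ⊓ W₂) := le_of_eq (inf_assoc _ _ _)
  have key : X.presheaf.map (homOfLE (inf_le_left : V' ⊓ (W₁ ⊓ W₂) ≤ V')).op ≫
      X.presheaf.map (homOfLE hle5).op =
      X.presheaf.map (homOfLE (inf_le_left : V' ⊓ W₁ ≤ V')).op ≫
        X.presheaf.map (homOfLE (inf_le_left : (V' ⊓ W₁) ⊓ W₂ ≤ V' ⊓ W₁)).op := by
    rw [← Functor.map_comp, ← Functor.map_comp]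
    rfl
  have e := fun z => congrArg (fun φ => φ.hom z) key
  intro x y hxy
  apply h₁ V'
  apply h₂ (V' ⊓ W₁)
  exact (e x).symm.trans ((congrArg _ hxy).trans (e y))

variable {S : Scheme.{u}}

theorem exists_open_pullback {F G : Sp S} (j : G ⟶ F) (hj : RepWith @IsOpenImmersion j)
    {V : Over S} (φ : (yon S).obj V ⟶ F) :
    ∃ (W : V.left.Opens) (fst : (yon S).obj (Over.mk (W.ι ≫ V.hom)) ⟶ G),
      IsPullback fst ((yon S).map (Over.homMk W.ι rfl : Over.mk (W.ι ≫ V.hom) ⟶ V)) j φ := by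
  obtain ⟨Q, snd, fst', hpb⟩ := hj.1 φ
  have hoi : IsOpenImmersion snd.left := hj.2 φ fst' snd hpb
  let W : V.left.Opens := snd.left.opensRange
  let e : Q.left ≅ (W : Scheme) := snd.left.isoOpensRange
  have he : e.hom ≫ W.ι = snd.left := snd.left.isoOpensRange_hom_ι
  let E : Q ≅ Over.mk (W.ι ≫ V.hom) := Over.isoMk e (by
    show e.hom ≫ W.ι ≫ V.hom = Q.hom
    rw [← Category.assoc, he, Over.w])
  have hE : E.hom ≫ (Over.homMk W.ι rfl : Over.mk (W.ι ≫ V.hom) ⟶ V) = snd := by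
    apply Over.OverMorphism.ext
    exact he
  refine ⟨W, (yon S).map E.inv ≫ fst', ?_⟩
  refine IsPullback.of_iso hpb ((yon S).mapIso E) (Iso.refl _) (Iso.refl _) (Iso.refl _) ?_ ?_ ?_ ?_
  · simp only [Iso.refl_hom, Category.comp_id, Functor.mapIso_hom]
    rw [← Category.assoc, ← Functor.map_comp, E.hom_inv_id, CategoryTheory.Functor.map_id,
      Category.id_comp]
  · simp only [Iso.refl_hom, Category.comp_id, Functor.mapIso_hom]
    rw [← Functor.map_comp, hE]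
  · simp
  · simp

theorem exists_inf_pullback {F GU GV P : Sp S} (jU : GU ⟶ F) (jV : GV ⟶ F) [Mono jU] [Mono jV]
    {fst : P ⟶ GU} {snd : P ⟶ GV} (sq : IsPullback fst snd jU jV) {V : Over S}
    (φ : (yon S).obj V ⟶ F)
    (W₁ : V.left.Opens) (fst₁ : (yon S).obj (Over.mk (W₁.ι ≫ V.hom)) ⟶ GU)
    (sq₁ : IsPullback fst₁ ((yon S).map (Over.homMk W₁.ι rfl : Over.mk (W₁.ι ≫ V.hom) ⟶ V)) jU φ)
    (W₂ : V.left.Opens) (fst₂ : (yon S).obj (Over.mk (W₂.ι ≫ V.hom)) ⟶ GV)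
    (sq₂ : IsPullback fst₂ ((yon S).map (Over.homMk W₂.ι rfl : Over.mk (W₂.ι ≫ V.hom) ⟶ V)) jV φ) :
    ∃ fst₃ : (yon S).obj (Over.mk ((W₁ ⊓ W₂).ι ≫ V.hom)) ⟶ P,
      IsPullback fst₃ ((yon S).map (Over.homMk (W₁ ⊓ W₂).ι rfl :
        Over.mk ((W₁ ⊓ W₂).ι ≫ V.hom) ⟶ V)) (fst ≫ jU) φ := by
  let W : V.left.Opens := W₁ ⊓ W₂
  let T : Over S := Over.mk (W.ι ≫ V.hom)
  let ιW : T ⟶ V := Over.homMk W.ι rfl
  let a₁ : T ⟶ Over.mk (W₁.ι ≫ V.hom) :=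
    Over.homMk (V.left.homOfLE (inf_le_left : W₁ ⊓ W₂ ≤ W₁)) (by
      show V.left.homOfLE _ ≫ W₁.ι ≫ V.hom = W.ι ≫ V.hom
      rw [Scheme.homOfLE_ι_assoc])
  let a₂ : T ⟶ Over.mk (W₂.ι ≫ V.hom) :=
    Over.homMk (V.left.homOfLE (inf_le_right : W₁ ⊓ W₂ ≤ W₂)) (by
      show V.left.homOfLE _ ≫ W₂.ι ≫ V.hom = W.ι ≫ V.hom
      rw [Scheme.homOfLE_ι_assoc])
  have ha₁ : a₁ ≫ (Over.homMk W₁.ι rfl : Over.mk (W₁.ι ≫ V.hom) ⟶ V) = ιW := by
    apply Over.OverMorphism.ext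
    exact Scheme.homOfLE_ι V.left (inf_le_left : W₁ ⊓ W₂ ≤ W₁)
  have ha₂ : a₂ ≫ (Over.homMk W₂.ι rfl : Over.mk (W₂.ι ≫ V.hom) ⟶ V) = ιW := by
    apply Over.OverMorphism.ext
    exact Scheme.homOfLE_ι V.left (inf_le_right : W₁ ⊓ W₂ ≤ W₂)
  have c₁ : ((yon S).map a₁ ≫ fst₁) ≫ jU = (yon S).map ιW ≫ φ := by
    rw [Category.assoc, sq₁.w, ← Category.assoc, ← Functor.map_comp, ha₁]
  have c₂ : ((yon S).map a₂ ≫ fst₂) ≫ jV = (yon S).map ιW ≫ φ := by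
    rw [Category.assoc, sq₂.w, ← Category.assoc, ← Functor.map_comp, ha₂]
  let fst₃ : (yon S).obj T ⟶ P :=
    sq.lift ((yon S).map a₁ ≫ fst₁) ((yon S).map a₂ ≫ fst₂) (c₁.trans c₂.symm)
  have hf₃1 : fst₃ ≫ fst = (yon S).map a₁ ≫ fst₁ := sq.lift_fst _ _ _
  have hf₃2 : fst₃ ≫ snd = (yon S).map a₂ ≫ fst₂ := sq.lift_snd _ _ _
  have w : fst₃ ≫ (fst ≫ jU) = (yon S).map ιW ≫ φ := by
    rw [← Category.assoc, hf₃1, c₁]
  have hmonoL : Mono ιW.left := (inferInstance : Mono W.ι)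
  have hmono : Mono ιW := Over.mono_of_mono_left ιW
  refine ⟨fst₃, Groth.Agent.Lib.AlgSpPullback_helper7.isPullback_of_forall_yon w ?_⟩
  intro Z a b hab
  let t : Z ⟶ V := (yon S).preimage b
  have ht : (yon S).map t = b := Functor.map_preimage _ _
  have h1 : Set.range t.left ⊆ (W₁ : Set V.left) :=
    range_subset_of_exists_lift jU φ W₁ fst₁ sq₁ t (a ≫ fst) (by
      rw [ht, Category.assoc]; exact hab)
  have h2 : Set.range t.left ⊆ (W₂ : Set V.left) :=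
    range_subset_of_exists_lift jV φ W₂ fst₂ sq₂ t (a ≫ snd) (by
      rw [ht, Category.assoc, ← sq.w]; exact hab)
  have hr : Set.range t.left ⊆ Set.range W.ι := by
    rw [Scheme.Opens.range_ι]
    exact fun x hx => ⟨h1 hx, h2 hx⟩
  let t' : Z.left ⟶ (W : Scheme) := IsOpenImmersion.lift W.ι t.left hr
  have ht' : t' ≫ W.ι = t.left := IsOpenImmersion.lift_fac _ _ _
  let m : Z ⟶ T := Over.homMk t' (by
    show t' ≫ W.ι ≫ V.hom = Z.hom
    rw [← Category.assoc, ht', Over.w])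
  have hm : m ≫ ιW = t := by
    apply Over.OverMorphism.ext
    exact ht'
  have hmw : (yon S).map m ≫ (fst₃ ≫ (fst ≫ jU)) = b ≫ φ := by
    rw [w, ← Category.assoc, ← Functor.map_comp, hm, ht]
  refine ⟨(yon S).map m, ⟨?_, ?_⟩, ?_⟩
  · apply sq.hom_ext
    · rw [← cancel_mono jU]
      calc (((yon S).map m ≫ fst₃) ≫ fst) ≫ jU = (yon S).map m ≫ (fst₃ ≫ (fst ≫ jU)) := by
            simp only [Category.assoc]
        _ = b ≫ φ := hmw
        _ = (a ≫ fst) ≫ jU := by rw [Category.assoc, hab]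
    · rw [← cancel_mono jV]
      calc (((yon S).map m ≫ fst₃) ≫ snd) ≫ jV = (yon S).map m ≫ (fst₃ ≫ (snd ≫ jV)) := by
            simp only [Category.assoc]
        _ = (yon S).map m ≫ (fst₃ ≫ (fst ≫ jU)) := by rw [sq.w]
        _ = b ≫ φ := hmw
        _ = (a ≫ snd) ≫ jV := by rw [Category.assoc, ← sq.w, hab]
  · rw [← Functor.map_comp, hm, ht]
  · rintro p' ⟨-, hp2⟩
    obtain ⟨m', rfl⟩ := (yon S).map_surjective p'
    congr 1
    rw [← cancel_mono ιW]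
    apply (yon S).map_injective
    rw [Functor.map_comp, hp2, Functor.map_comp, ← ht, ← hm, Functor.map_comp]

theorem main9970 {U V X P : AlgSp.Space S} (jU : U ⟶ X) (jV : V ⟶ X)
    (hU : AlgSp.IsSchDense jU.hom) (hV : AlgSp.IsSchDense jV.hom) (fst : P ⟶ U) (snd : P ⟶ V)
    (sq : IsPullback fst.hom snd.hom jU.hom jV.hom) : AlgSp.IsSchDense (fst ≫ jU).hom := by
  have hUo : RepWith @IsOpenImmersion jU.hom := hU.1
  have hVo : RepWith @IsOpenImmersion jV.hom := hV.1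
  obtain ⟨-, V₁, φ₁, W₁, fst₁, hφ₁e, hφ₁s, sq₁, hd₁⟩ := hU
  obtain ⟨W₂, fst₂, sq₂⟩ := exists_open_pullback jV.hom hVo φ₁
  have hd₂ : CInt.IsSchematicallyDense W₂ := main9968 jV hV V₁ φ₁ hφ₁e W₂ fst₂ sq₂
  have : Mono jU.hom := Groth.Agent.Lib.AlgSpOpenSub_helper7.mono_of_openImmersion _ hUo
  have : Mono jV.hom := Groth.Agent.Lib.AlgSpOpenSub_helper7.mono_of_openImmersion _ hVo
  obtain ⟨fst₃, sq₃⟩ := exists_inf_pullback jU.hom jV.hom sq φ₁ W₁ fst₁ sq₁ W₂ fst₂ sq₂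
  refine ⟨?_, V₁, φ₁, W₁ ⊓ W₂, fst₃, hφ₁e, hφ₁s, sq₃, schDense_inf hd₁ hd₂⟩
  have h1 : RepWith @IsOpenImmersion fst.hom := MorphismProperty.of_isPullback sq.flip hVo
  exact (RepWith @IsOpenImmersion).comp_mem _ _ h1 hUo

end Groth.Agent.Lib.AlgSpSchDenseInfH7
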