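import Groth.Statements.S9986
import Groth.Agent.Lib.AlgSpSchDenseInf_helper7

/-! # Schematic density of an open subspace and injectivity of `O_X → j_* O_U` (helper7) -/

set_option backward.isDefEq.respectTransparency false
set_option backward.isDefEq.respectTransparency.types false
set_option autoImplicit false
set_option linter.unusedSimpArgs false
set_option linter.unusedVariables false
set_option linter.unusedSectionVars false
set_option linter.style.longLine false
set_option linter.unnecessarySimpa false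
set_option maxHeartbeats 800000

universe w v u

open CategoryTheory CategoryTheory.Limits AlgebraicGeometry Opposite TopologicalSpace

namespace Groth.Agent.Lib.AlgSpSchDenseMonoH7

/-- A morphism of sheaves of rings is a monomorphism iff it is injective on all sections. -/
theorem mono_iff_app_injective {C : Type u} [Category.{v} C] (J : GrothendieckTopology C)
    {F G : Sheaf J RingCat.{w}} (f : F ⟶ G) :
    Mono f ↔ ∀ c : Cᵒᵖ, Function.Injective (f.hom.app c).hom := by
  constructor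
  · intro hm c
    have h1 : Mono ((sheafToPresheaf J RingCat.{w}).map f) := inferInstance
    have h2 : Mono (f.hom.app c) := by
      have : Mono f.hom := h1
      exact (NatTrans.mono_iff_mono_app f.hom).mp this c
    exact (ConcreteCategory.mono_iff_injective_of_preservesPullback _).mp h2
  · intro h
    have h1 : ∀ c, Mono (f.hom.app c) := fun c => ConcreteCategory.mono_of_injective _ (h c)
    have h2 : Mono f.hom := NatTrans.mono_of_mono_app _
    exact Sheaf.Hom.mono_of_presheaf_mono J _ f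

section SchemeLevel

theorem res_eq_zero_of_le {V : Scheme.{u}} {B A A' : V.Opens} (hA : A ≤ B) (hA' : A' ≤ B)
    (hAA' : A ≤ A') (a : Γ(V, B)) (h : (V.presheaf.map (homOfLE hA').op).hom a = 0) :
    (V.presheaf.map (homOfLE hA).op).hom a = 0 := by
  have e : V.presheaf.map (homOfLE hA).op =
      V.presheaf.map (homOfLE hA').op ≫ V.presheaf.map (homOfLE hAA').op := by
    rw [← Functor.map_comp]; rfl
  rw [e]
  show (V.presheaf.map (homOfLE hAA').op).hom ((V.presheaf.map (homOfLE hA').op).hom a) = 0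
  rw [h, map_zero]

/-- If `W` is schematically dense in `V` and `s : P ⟶ V` receives a map from `W` over `V`,
then `s` is injective on global functions. -/
theorem appTop_injective_of_dense {V P : Scheme.{u}} (W : V.Opens)
    (hd : CInt.IsSchematicallyDense W)
    (s : P ⟶ V) (r : W.toScheme ⟶ P) (hr : r ≫ s = W.ι) : Function.Injective s.appTop.hom := by
  rw [injective_iff_map_eq_zero]
  intro a ha
  have e : W.ι.appTop = s.appTop ≫ r.appTop := by rw [← hr]; rfl
  have h1 : (W.ι.appTop).hom a = 0 := by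
    rw [e]
    show r.appTop.hom (s.appTop.hom a) = 0
    rw [ha, map_zero]
  rw [Scheme.Opens.ι_appTop] at h1
  have h2 : (V.presheaf.map (homOfLE (inf_le_left : ⊤ ⊓ W ≤ ⊤)).op).hom a = 0 :=
    res_eq_zero_of_le _ _ (by rw [Scheme.Opens.ι_image_top]; exact inf_le_right) a h1
  have h3 := hd ⊤
  rw [injective_iff_map_eq_zero] at h3
  exact h3 a h2

/-- If `s : P ⟶ V'` has image inside `W` and is injective on global functions, then restriction
from `V'` to `V' ⊓ W` is injective. -/
theorem res_injective_of_appTop_injective {V P : Scheme.{u}} (V' W : V.Opens)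
    (s : P ⟶ V'.toScheme) (hs : Set.range (s ≫ V'.ι) ⊆ (W : Set V))
    (hinj : Function.Injective s.appTop.hom) :
    Function.Injective (V.presheaf.map (homOfLE (inf_le_left : V' ⊓ W ≤ V')).op) := by
  rw [injective_iff_map_eq_zero]
  intro a ha
  have hB : (⊤ : P.Opens) ≤ (s ≫ V'.ι) ⁻¹ᵁ (V' ⊓ W) := by
    intro x _
    have hx1 : (s ≫ V'.ι) x ∈ V' := by
      rw [Scheme.Hom.comp_apply, Scheme.Opens.ι_apply]
      exact (s x).2
    have hx2 : (s ≫ V'.ι) x ∈ W := hs ⟨x, rfl⟩
    exact Opens.mem_inf.mpr ⟨hx1, hx2⟩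
  have hA : (⊤ : P.Opens) ≤ (s ≫ V'.ι) ⁻¹ᵁ V' := fun x hx => (Opens.mem_inf.mp (hB hx)).1
  have h1 : (⊤ : V'.toScheme.Opens) ≤ V'.ι ⁻¹ᵁ V' := by rw [Scheme.Opens.ι_preimage_self]
  have h2 : (⊤ : P.Opens) ≤ s ⁻¹ᵁ ⊤ := fun _ _ => trivial
  have c1 : (s ≫ V'.ι).appLE V' ⊤ hA =
      V.presheaf.map (homOfLE (inf_le_left : V' ⊓ W ≤ V')).op ≫ (s ≫ V'.ι).appLE (V' ⊓ W) ⊤ hB :=
    (Scheme.Hom.map_appLE (s ≫ V'.ι) hB (homOfLE (inf_le_left : V' ⊓ W ≤ V')).op).symm
  have c2 : (s ≫ V'.ι).appLE V' ⊤ hA = V'.ι.appLE V' ⊤ h1 ≫ s.appLE ⊤ ⊤ h2 :=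
    (Scheme.Hom.appLE_comp_appLE s V'.ι V' ⊤ ⊤ h1 h2).symm
  have c3 : s.appLE ⊤ ⊤ h2 = s.appTop := Scheme.Hom.appLE_eq_app s
  have key : s.appTop.hom ((V'.ι.appLE V' ⊤ h1).hom a) = 0 := by
    have e := congrArg (fun φ => φ.hom a) (c2.symm.trans c1)
    rw [c3] at e
    have e' : s.appTop.hom ((V'.ι.appLE V' ⊤ h1).hom a) =
        ((s ≫ V'.ι).appLE (V' ⊓ W) ⊤ hB).hom
          ((V.presheaf.map (homOfLE (inf_le_left : V' ⊓ W ≤ V')).op).hom a) := e
    rw [e', show (V.presheaf.map (homOfLE (inf_le_left : V' ⊓ W ≤ V')).op).hom a = 0 from ha,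
      map_zero]
  have h0 : (V'.ι.appLE V' ⊤ h1).hom a = 0 := by
    apply hinj
    rw [key, map_zero]
  rw [Scheme.Opens.ι_appLE] at h0
  have hle : V' ≤ V'.ι ''ᵁ ⊤ := by rw [Scheme.Opens.ι_image_top]
  have h5 : (V.presheaf.map (homOfLE (le_refl V')).op).hom a = 0 :=
    res_eq_zero_of_le (le_refl V') _ hle a h0
  have h6 : V.presheaf.map (homOfLE (le_refl V')).op = 𝟙 _ := V.presheaf.map_id _
  rw [h6] at h5
  exact h5

end SchemeLevel

open AlgSp

variable {S : Scheme.{u}}

theorem bcRingHom_app_apply {X Y : Sp S} {f : X ⟶ Y} (hf : Representable f) (E : EtOver Y)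
    (x : (OEtRing Y).obj.obj (op E)) :
    ((bcRingHom hf).hom.app (op E)).hom x =
      ULift.up ((hf.snd E.obj.hom).left.appTop.hom x.down) := rfl

theorem mono_bcRingHom_iff {X Y : Sp S} {f : X ⟶ Y} (hf : Representable f) :
    Mono (bcRingHom hf) ↔
      ∀ E : EtOver Y, Function.Injective (hf.snd E.obj.hom).left.appTop.hom := by
  rw [mono_iff_app_injective]
  constructor
  · intro h E a b hab
    have h1 := h (op E) (a₁ := (ULift.up a : ULift.{u + 1} Γ(E.obj.left.left, ⊤)))
      (a₂ := (ULift.up b : ULift.{u + 1} Γ(E.obj.left.left, ⊤)))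
      (by rw [bcRingHom_app_apply, bcRingHom_app_apply]; exact congrArg ULift.up hab)
    exact congrArg ULift.down h1
  · intro h c a b hab
    rw [bcRingHom_app_apply hf c.unop a, bcRingHom_app_apply hf c.unop b] at hab
    have h1 := h c.unop (congrArg ULift.down hab)
    exact ULift.down_injective h1

theorem mono_of_isSchDense {U X : AlgSp.Space S} (j : U ⟶ X)
    (hj : RepWith @IsOpenImmersion j.hom) (hd : IsSchDense j.hom) :
    Mono (bcRingHom hj.1) := by
  rw [mono_bcRingHom_iff]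
  intro E
  obtain ⟨W, fst, sq⟩ := AlgSpSchDenseInfH7.exists_open_pullback j.hom hj E.obj.hom
  have hdW : CInt.IsSchematicallyDense W :=
    AlgSpSchDense.main9968 j hd E.obj.left E.obj.hom E.property W fst sq
  have sqP := hj.1.isPullback E.obj.hom
  let m' : Over.mk (W.ι ≫ E.obj.left.hom) ⟶ hj.1.pullback E.obj.hom :=
    (yon S).preimage (sqP.lift fst ((yon S).map (Over.homMk W.ι rfl)) sq.w)
  have hm' : m' ≫ hj.1.snd E.obj.hom = Over.homMk W.ι rfl := by
    apply (yon S).map_injective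
    rw [Functor.map_comp, Functor.map_preimage, sqP.lift_snd]
  have hm'l : m'.left ≫ (hj.1.snd E.obj.hom).left = W.ι := congrArg (fun k => k.left) hm'
  exact appTop_injective_of_dense W hdW _ m'.left hm'l

theorem isSchDense_of_mono {U X : AlgSp.Space S} (j : U ⟶ X)
    (hj : RepWith @IsOpenImmersion j.hom) (hm : Mono (bcRingHom hj.1)) :
    IsSchDense j.hom := by
  rw [mono_bcRingHom_iff] at hm
  obtain ⟨V, φ, hφe, hφs⟩ := X.property.atlas
  obtain ⟨W, fst, sq⟩ := AlgSpSchDenseInfH7.exists_open_pullback j.hom hj φ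
  refine ⟨hj, V, φ, W, fst, hφe, hφs, sq, ?_⟩
  intro V'
  let V'' : Over S := Over.mk (V'.ι ≫ V.hom)
  let ι' : V'' ⟶ V := Over.homMk V'.ι rfl
  have hι' : RepWith @Etale ((yon S).map ι') :=
    (repWith_yon_map_iff @Etale ι').mpr (inferInstance : Etale V'.ι)
  have hE' : RepWith @Etale ((yon S).map ι' ≫ φ) :=
    Groth.Agent.Lib.AlgSpPullback_helper7.repWith_comp @Etale hι' hφe
  let E' : EtOver X.obj := EtOver.mk _ hE'
  have hinj := hm E'
  have hℓ : hj.1.fst E'.obj.hom ≫ j.hom = (yon S).map (hj.1.snd E'.obj.hom ≫ ι') ≫ φ := by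
    rw [Functor.map_comp, Category.assoc]
    exact (hj.1.isPullback E'.obj.hom).w
  have hr := AlgSpSchDense.range_subset_of_exists_lift j.hom φ W fst sq
    (hj.1.snd E'.obj.hom ≫ ι') (hj.1.fst E'.obj.hom) hℓ
  exact res_injective_of_appTop_injective V' W (hj.1.snd E'.obj.hom).left hr hinj

theorem main9986 {U X : AlgSp.Space S} (j : U ⟶ X)
    (hj : RepWith @IsOpenImmersion j.hom) :
    IsSchDense j.hom ↔ Mono (bcRingHom hj.1) :=
  ⟨mono_of_isSchDense j hj, isSchDense_of_mono j hj⟩

end Groth.Agent.Lib.AlgSpSchDenseMonoH7
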