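import Mathlib

/-!
# The least ideal modulo which a module becomes free (helper9)
-/

open TensorProduct

namespace LeastFree9

section K
variable {B : Type*} [CommRing B] {P N : Type*} [AddCommGroup P] [Module B P] [AddCommGroup N]
  [Module B N] [Module.Flat B N]

lemma ker_inf_smul_le (ψ : P →ₗ[B] N) (hψ : Function.Surjective ψ) (I : Ideal B) :
    LinearMap.ker ψ ⊓ I • (⊤ : Submodule B P) ≤ I • LinearMap.ker ψ := by
  classical
  rintro k ⟨hk1, hk2⟩
  have h' : k ∈ I • Submodule.span B (Set.range (id : P → P)) := by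
    rw [Set.range_id, Submodule.span_univ]; exact hk2
  rw [Submodule.mem_ideal_smul_span_iff_exists_sum] at h'
  obtain ⟨b, hb, hsum⟩ := h'
  simp only [id] at hsum
  have hrel : ∑ p : b.support, b p.1 • ψ p.1 = 0 := by
    rw [Finset.sum_coe_sort b.support (fun p => b p • ψ p)]
    have : ψ k = 0 := hk1
    rw [← hsum, Finsupp.sum, map_sum] at this
    simpa using this
  obtain ⟨κ, c, n, h1, h2⟩ := Module.Flat.isTrivialRelation_of_sum_smul_eq_zero (R := B) (M := N)
    (f := fun p : b.support => b p.1) (x := fun p : b.support => ψ p.1) hrel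
  choose q hq using fun j => hψ (n j)
  have hkp : ∀ p : b.support, p.1 - ∑ j, c p j • q j ∈ LinearMap.ker ψ := by
    intro p
    have h1p := h1 p
    simp only at h1p
    simp only [LinearMap.mem_ker, map_sub, map_sum, map_smul, hq]
    rw [sub_eq_zero]; exact h1p
  have hk : k = ∑ p : b.support, b p.1 • (p.1 - ∑ j, c p j • q j) := by
    have e1 : ∑ p : b.support, b p.1 • (∑ j, c p j • q j) = 0 := by
      simp_rw [Finset.smul_sum, smul_smul]
      rw [Finset.sum_comm]
      apply Finset.sum_eq_zero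
      intro j _
      rw [← Finset.sum_smul, h2 j, zero_smul]
    simp_rw [smul_sub]
    rw [Finset.sum_sub_distrib, e1, sub_zero, Finset.sum_coe_sort b.support (fun p => b p • p)]
    exact hsum.symm
  rw [hk]
  exact Submodule.sum_mem _ fun p _ => Submodule.smul_mem_smul (hb p.1) (hkp p)

lemma ker_eq_bot_of_le_smul (ψ : P →ₗ[B] N) (hψ : Function.Surjective ψ) (I : Ideal B)
    (hI : IsNilpotent I) (hle : LinearMap.ker ψ ≤ I • (⊤ : Submodule B P)) :
    LinearMap.ker ψ = ⊥ := by
  obtain ⟨n, hn⟩ := hI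
  have h1 : LinearMap.ker ψ ≤ I • LinearMap.ker ψ :=
    (le_inf le_rfl hle).trans (ker_inf_smul_le ψ hψ I)
  have h2 : ∀ m : ℕ, LinearMap.ker ψ ≤ I ^ m • LinearMap.ker ψ := by
    intro m
    induction m with
    | zero => simp
    | succ m ih =>
      calc LinearMap.ker ψ ≤ I • LinearMap.ker ψ := h1
        _ ≤ I • (I ^ m • LinearMap.ker ψ) := Submodule.smul_mono le_rfl ih
        _ = I ^ (m + 1) • LinearMap.ker ψ := by rw [← Submodule.mul_smul, ← pow_succ']
  have := h2 n
  rw [hn, Ideal.zero_eq_bot, Submodule.bot_smul] at this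
  exact le_bot_iff.mp this

omit [Module.Flat B N] [AddCommGroup N] [Module B N] in
lemma eq_top_of_sup_smul (J : Ideal B) (hJ : IsNilpotent J) (N' : Submodule B P)
    (h : N' ⊔ J • (⊤ : Submodule B P) = ⊤) : N' = ⊤ := by
  obtain ⟨n, hn⟩ := hJ
  have h2 : ∀ m : ℕ, N' ⊔ J ^ m • (⊤ : Submodule B P) = ⊤ := by
    intro m
    induction m with
    | zero => simp
    | succ m ih =>
      rw [eq_top_iff]
      calc ⊤ = N' ⊔ J ^ m • (⊤ : Submodule B P) := ih.symm
        _ = N' ⊔ J ^ m • (N' ⊔ J • (⊤ : Submodule B P)) := by rw [h]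
        _ = N' ⊔ (J ^ m • N' ⊔ J ^ m • (J • (⊤ : Submodule B P))) := by rw [Submodule.smul_sup]
        _ ≤ N' ⊔ J ^ (m + 1) • (⊤ : Submodule B P) := by
            rw [← Submodule.mul_smul, ← pow_succ]
            exact sup_le le_sup_left
              (sup_le (Submodule.smul_le_right.trans le_sup_left) le_sup_right)
  have := h2 n
  rwa [hn, Ideal.zero_eq_bot, Submodule.bot_smul, sup_bot_eq] at this

end K

section Main
universe u
variable {A : Type u} [CommRing A] (M : Type u) [AddCommGroup M] [Module A M] (J : Ideal A)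

lemma exists_one_tmul (z : (A ⧸ J) ⊗[A] M) : ∃ m : M, (1 : A ⧸ J) ⊗ₜ[A] m = z := by
  induction z using TensorProduct.induction_on with
  | zero => exact ⟨0, by simp⟩
  | tmul a m =>
    obtain ⟨a, rfl⟩ := Ideal.Quotient.mk_surjective a
    refine ⟨a • m, ?_⟩
    rw [TensorProduct.tmul_smul, TensorProduct.smul_tmul', Algebra.smul_def, mul_one]
    rfl
  | add x y hx hy =>
    obtain ⟨m1, rfl⟩ := hx
    obtain ⟨m2, rfl⟩ := hy
    exact ⟨m1 + m2, by rw [tmul_add]⟩

lemma mem_smul_of_one_tmul_eq_zero (m : M) (h : (1 : A ⧸ J) ⊗ₜ[A] m = 0) :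
    m ∈ J • (⊤ : Submodule A M) := by
  have := congrArg (TensorProduct.quotTensorEquivQuotSMul M J) h
  rw [TensorProduct.quotTensorEquivQuotSMul_mk_one_tmul, map_zero,
    Submodule.Quotient.mk_eq_zero] at this
  exact this

theorem main (hJ : IsNilpotent J) (hfree : Module.Free (A ⧸ J) ((A ⧸ J) ⊗[A] M)) :
    ∃ R₀ : Ideal A, ∀ (A' : Type u) [CommRing A'] [Algebra A A'],
      (Module.Free A' (A' ⊗[A] M) ↔ Ideal.map (algebraMap A A') R₀ = ⊥) ∧
      (Module.Flat A' (A' ⊗[A] M) ↔ Ideal.map (algebraMap A A') R₀ = ⊥) := by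
  classical
  let b := Module.Free.chooseBasis (A ⧸ J) ((A ⧸ J) ⊗[A] M)
  choose mlift hmlift using fun i => exists_one_tmul M J (b i)
  let φ : (_ →₀ A) →ₗ[A] M := Finsupp.linearCombination A mlift
  have hφsingle : ∀ i (a : A), φ (Finsupp.single i a) = a • mlift i := fun i a =>
    Finsupp.linearCombination_single A a i
  have hφsurj : Function.Surjective φ := by
    rw [← LinearMap.range_eq_top]
    apply eq_top_of_sup_smul J hJ
    rw [eq_top_iff]
    intro m _
    choose lift hlift using fun a : A ⧸ J => Ideal.Quotient.mk_surjective a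
    set r := b.repr ((1 : A ⧸ J) ⊗ₜ[A] m) with hr
    let c : _ →₀ A := ∑ i ∈ r.support, Finsupp.single i (lift (r i))
    have h1 : (1 : A ⧸ J) ⊗ₜ[A] (φ c) = (1 : A ⧸ J) ⊗ₜ[A] m := by
      have h2 : (1 : A ⧸ J) ⊗ₜ[A] (φ c) = ∑ i ∈ r.support, r i • b i := by
        simp only [c, map_sum, hφsingle, tmul_sum]
        refine Finset.sum_congr rfl fun i _ => ?_
        rw [TensorProduct.tmul_smul, hmlift, ← algebraMap_smul (A ⧸ J) (lift (r i)) (b i),
          Ideal.Quotient.algebraMap_eq, hlift]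
      rw [h2]
      have := b.linearCombination_repr ((1 : A ⧸ J) ⊗ₜ[A] m)
      rw [Finsupp.linearCombination_apply, Finsupp.sum] at this
      exact this
    have h3 : m - φ c ∈ J • (⊤ : Submodule A M) := by
      apply mem_smul_of_one_tmul_eq_zero
      rw [tmul_sub, h1, sub_self]
    have : m = φ c + (m - φ c) := by abel
    rw [this]
    exact Submodule.add_mem_sup ⟨c, rfl⟩ h3
  let R₀ : Ideal A := Ideal.span {a | ∃ k ∈ LinearMap.ker φ, ∃ i, k i = a}
  refine ⟨R₀, fun A' _ _ => ?_⟩
  let ψ : (_ →₀ A') →ₗ[A'] A' ⊗[A] M :=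
    Finsupp.linearCombination A' (fun i => (1 : A') ⊗ₜ[A] mlift i)
  have hψsingle : ∀ i (a : A'), ψ (Finsupp.single i a) = a • ((1 : A') ⊗ₜ[A] mlift i) := fun i a =>
    Finsupp.linearCombination_single A' a i
  have hψφ : ∀ c : _ →₀ A, ψ (c.mapRange (algebraMap A A') (map_zero _)) =
      (1 : A') ⊗ₜ[A] φ c := by
    intro c
    induction c using Finsupp.induction_linear with
    | zero => simp
    | add x y hx hy => rw [Finsupp.mapRange_add (by intros; simp), map_add, hx, hy, map_add, tmul_add]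
    | single i a =>
      rw [Finsupp.mapRange_single, hψsingle, hφsingle, TensorProduct.tmul_smul,
        ← algebraMap_smul A' a]
  have hψsurj : Function.Surjective ψ := by
    intro z
    induction z using TensorProduct.induction_on with
    | zero => exact ⟨0, map_zero _⟩
    | tmul a' m =>
      obtain ⟨c, rfl⟩ := hφsurj m
      refine ⟨a' • c.mapRange (algebraMap A A') (map_zero _), ?_⟩
      rw [map_smul, hψφ, TensorProduct.smul_tmul', smul_eq_mul, mul_one]
    | add x y hx hy =>
      obtain ⟨x', rfl⟩ := hx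
      obtain ⟨y', rfl⟩ := hy
      exact ⟨x' + y', map_add _ _ _⟩
  -- (I)
  have hI : Module.Flat A' (A' ⊗[A] M) → Ideal.map (algebraMap A A') R₀ = ⊥ := by
    intro hflat
    set J' := J.map (algebraMap A A') with hJ'
    have hJ'nil : IsNilpotent J' := by
      obtain ⟨n, hn⟩ := hJ
      exact ⟨n, by rw [hJ', ← Ideal.map_pow, hn, Ideal.zero_eq_bot, Ideal.map_bot]; rfl⟩
    let g : A ⧸ J →ₐ[A] A' ⧸ J' := Ideal.Quotient.liftₐ J (Algebra.ofId A (A' ⧸ J')) (by
      intro a ha
      show algebraMap A (A' ⧸ J') a = 0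
      rw [IsScalarTower.algebraMap_apply A A' (A' ⧸ J'), Ideal.Quotient.algebraMap_eq,
        Ideal.Quotient.eq_zero_iff_mem]
      exact Ideal.mem_map_of_mem _ ha)
    let Θ := fun i => ((g.toLinearMap) ∘ₗ ((b.coord i).restrictScalars A) ∘ₗ
      (TensorProduct.mk A (A ⧸ J) M 1)).liftBaseChange A'
    have hΘ : ∀ i k, Θ i ((1 : A') ⊗ₜ[A] mlift k) = if k = i then 1 else 0 := by
      intro i k
      simp only [Θ, LinearMap.liftBaseChange_tmul, one_smul, LinearMap.comp_apply,
        TensorProduct.mk_apply, LinearMap.coe_restrictScalars, hmlift, Module.Basis.coord_apply,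
        Module.Basis.repr_self, AlgHom.toLinearMap_apply]
      rw [Finsupp.single_apply]
      split_ifs <;> simp
    have hker : LinearMap.ker ψ ≤ J' • (⊤ : Submodule A' (_ →₀ A')) := by
      intro z hz
      rw [LinearMap.mem_ker] at hz
      have hzi : ∀ i, z i ∈ J' := by
        intro i
        have h1 := congrArg (Θ i) hz
        rw [map_zero, Finsupp.linearCombination_apply, Finsupp.sum, map_sum] at h1
        simp only [map_smul, hΘ, smul_ite, smul_zero] at h1
        rw [Finset.sum_ite_eq' z.support i] at h1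
        by_cases hi : i ∈ z.support
        · rw [if_pos hi] at h1
          rw [← Ideal.Quotient.eq_zero_iff_mem]
          have : z i • (1 : A' ⧸ J') = Ideal.Quotient.mk J' (z i) := by
            rw [Algebra.smul_def, mul_one]; rfl
          rw [← this]; exact h1
        · rw [Finsupp.notMem_support_iff.mp hi]; exact zero_mem _
      have hz' : z = ∑ i ∈ z.support, z i • Finsupp.single i (1 : A') := by
        conv_lhs => rw [← Finsupp.sum_single z, Finsupp.sum]
        refine Finset.sum_congr rfl fun i _ => ?_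
        rw [Finsupp.smul_single, smul_eq_mul, mul_one]
      rw [hz']
      exact Submodule.sum_mem _ fun i _ => Submodule.smul_mem_smul (hzi i) Submodule.mem_top
    have hkerbot := ker_eq_bot_of_le_smul ψ hψsurj J' hJ'nil hker
    rw [eq_bot_iff, Ideal.map_le_iff_le_comap, Ideal.span_le]
    rintro _ ⟨k, hk, i, rfl⟩
    rw [SetLike.mem_coe, Ideal.mem_comap, Ideal.mem_bot]
    have h1 : k.mapRange (algebraMap A A') (map_zero _) ∈ LinearMap.ker ψ := by
      rw [LinearMap.mem_ker, hψφ, LinearMap.mem_ker.mp hk, tmul_zero]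
    rw [hkerbot, Submodule.mem_bot] at h1
    have := DFunLike.congr_fun h1 i
    simpa using this
  -- (II)
  have hII : Ideal.map (algebraMap A A') R₀ = ⊥ → Module.Free A' (A' ⊗[A] M) := by
    intro hmap
    have hk0 : ∀ k ∈ LinearMap.ker φ, ∀ i, algebraMap A A' (k i) = 0 := by
      intro k hk i
      have : algebraMap A A' (k i) ∈ Ideal.map (algebraMap A A') R₀ :=
        Ideal.mem_map_of_mem _ (Ideal.subset_span ⟨k, hk, i, rfl⟩)
      rwa [hmap, Ideal.mem_bot] at this
    let μ : (Module.Free.ChooseBasisIndex (A ⧸ J) ((A ⧸ J) ⊗[A] M) →₀ A) →ₗ[A] (Module.Free.ChooseBasisIndex (A ⧸ J) ((A ⧸ J) ⊗[A] M) →₀ A') := Finsupp.mapRange.linearMap (Algebra.linearMap A A')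
    have hμ : LinearMap.ker φ ≤ LinearMap.ker μ := by
      intro k hk
      rw [LinearMap.mem_ker]
      ext i
      simpa [μ] using hk0 k hk i
    let e := φ.quotKerEquivOfSurjective hφsurj
    let ρ₀ : M →ₗ[A] (Module.Free.ChooseBasisIndex (A ⧸ J) ((A ⧸ J) ⊗[A] M) →₀ A') := (LinearMap.ker φ).liftQ μ hμ ∘ₗ e.symm.toLinearMap
    have hρ₀ : ∀ c, ρ₀ (φ c) = μ c := by
      intro c
      have : e.symm (φ c) = Submodule.Quotient.mk c := by
        rw [LinearEquiv.symm_apply_eq]; rfl
      simp [ρ₀, this]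
    let ρ : A' ⊗[A] M →ₗ[A'] (Module.Free.ChooseBasisIndex (A ⧸ J) ((A ⧸ J) ⊗[A] M) →₀ A') := ρ₀.liftBaseChange A'
    have hρψ : ρ ∘ₗ ψ = LinearMap.id := by
      apply Finsupp.lhom_ext'
      intro i
      apply LinearMap.ext_ring
      simp only [LinearMap.comp_apply, Finsupp.lsingle_apply, LinearMap.id_apply, hψsingle,
        one_smul, ρ, LinearMap.liftBaseChange_tmul]
      have : mlift i = φ (Finsupp.single i 1) := by rw [hφsingle, one_smul]
      rw [this, hρ₀]
      simp [μ]
    have hψinj : Function.Injective ψ := by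
      intro x y hxy
      have := congrArg ρ hxy
      rwa [← LinearMap.comp_apply, ← LinearMap.comp_apply, hρψ] at this
    exact Module.Free.of_equiv (LinearEquiv.ofBijective ψ ⟨hψinj, hψsurj⟩)
  refine ⟨⟨fun h => hI inferInstance, hII⟩, ⟨hI, fun h => ?_⟩⟩
  haveI := hII h
  infer_instance

end Main

end LeastFree9
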