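import Mathlib
import Groth.Agent.Lib.LeastFree_helper9
import Groth.Agent.Lib.GenFreeF_helper8
import Groth.Agent.Lib.FlatDesc12_helper8

/-!
# Freeness after localisation at a minimal prime (Noetherian case)
-/

namespace Groth.Agent.Lib.FreeStratH8

open TensorProduct

universe u

/-- a flat module which is free modulo a nilpotent ideal is free. -/
theorem free_of_flat_of_free_mod_nilpotent {A : Type u} [CommRing A] (M : Type u) [AddCommGroup M]
    [Module A M] [Module.Flat A M] (J : Ideal A) (hJ : IsNilpotent J)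
    (hfree : Module.Free (A ⧸ J) ((A ⧸ J) ⊗[A] M)) : Module.Free A M := by
  obtain ⟨R₀, h⟩ := LeastFree9.main (M := M) (J := J) hJ hfree
  have h1 := h A
  haveI : Module.Flat A (A ⊗[A] M) := Module.Flat.of_linearEquiv (TensorProduct.lid A M)
  have h2 := h1.2.mp inferInstance
  haveI := h1.1.mpr h2
  exact Module.Free.of_equiv (TensorProduct.lid A M)

/-- For a minimal prime `p` of a Noetherian ring some power of `p` is killed by an element
outside `p`. -/
theorem exists_mul_pow_eq_zero {R : Type u} [CommRing R] [IsNoetherianRing R] (p : Ideal R)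
    [p.IsPrime] (hp : p ∈ minimalPrimes R) :
    ∃ g : R, g ∉ p ∧ ∃ n : ℕ, ∀ x ∈ p ^ n, g * x = 0 := by
  classical
  have h1 : p.map (algebraMap R (Localization.AtPrime p)) ≤ nilradical (Localization.AtPrime p) := by
    have := IsLocalization.AtPrime.radical_map_of_mem_minimalPrimes
      (A := Localization.AtPrime p) p ⊥ hp
    rw [Ideal.map_bot] at this
    rw [nilradical, Ideal.zero_eq_bot, this]
  obtain ⟨n, hn⟩ := IsNoetherianRing.isNilpotent_nilradical (Localization.AtPrime p)
  have h2 : (p ^ n).map (algebraMap R (Localization.AtPrime p)) = ⊥ := by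
    rw [Ideal.map_pow]
    exact le_bot_iff.mp ((Ideal.pow_right_mono h1 n).trans (le_of_eq hn))
  obtain ⟨s, hs⟩ := (isNoetherianRing_iff_ideal_fg R).mp inferInstance (p ^ n)
  have h3 : ∀ y ∈ s, ∃ t : p.primeCompl, (t : R) * y = 0 := by
    intro y hy
    have hy0 : algebraMap R (Localization.AtPrime p) y = 0 := by
      have : algebraMap R (Localization.AtPrime p) y ∈
          (p ^ n).map (algebraMap R (Localization.AtPrime p)) :=
        Ideal.mem_map_of_mem _ (hs ▸ Ideal.subset_span hy)
      rw [h2] at this
      exact this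
    exact (IsLocalization.map_eq_zero_iff p.primeCompl _ y).mp hy0
  choose! t ht using h3
  refine ⟨∏ y ∈ s, (t y : R), ?_, n, ?_⟩
  · intro hmem
    obtain ⟨y, -, hy⟩ := (Ideal.IsPrime.prod_mem_iff (hp := ‹p.IsPrime›)).mp hmem
    exact (t y).2 hy
  · intro x hx
    rw [← hs] at hx
    refine Submodule.span_induction (p := fun x _ => (∏ y ∈ s, (t y : R)) * x = 0) ?_ ?_ ?_ ?_ hx
    · intro y hy
      rw [← Finset.mul_prod_erase s _ hy, mul_comm ((t y : R)), mul_assoc, ht y hy, mul_zero]
    · simp
    · intro a b _ _ ha hb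
      rw [mul_add, ha, hb, add_zero]
    · intro a b _ hb
      rw [smul_eq_mul, mul_left_comm, hb, mul_zero]

/-- transfer of freeness along base changes. -/
theorem free_transfer {R K D E : Type u} [CommRing R] [CommRing K] [CommRing D] [CommRing E]
    [Algebra R K] [Algebra K D] [Algebra K E] [Algebra D E] [IsScalarTower K D E]
    [Algebra R E] [IsScalarTower R K E]
    (M : Type u) [AddCommGroup M] [Module R M] (N : Type u) [AddCommGroup N] [Module K N]
    (e : N ≃ₗ[K] K ⊗[R] M) [Module.Free D (D ⊗[K] N)] : Module.Free E (E ⊗[R] M) := by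
  haveI : Module.Free E (E ⊗[D] (D ⊗[K] N)) := inferInstance
  have e1 : E ⊗[D] (D ⊗[K] N) ≃ₗ[E] E ⊗[K] N := AlgebraTensorModule.cancelBaseChange K D E E N
  have e2 : E ⊗[K] N ≃ₗ[E] E ⊗[K] (K ⊗[R] M) := LinearEquiv.baseChange K E _ _ e
  have e3 : E ⊗[K] (K ⊗[R] M) ≃ₗ[E] E ⊗[R] M := AlgebraTensorModule.cancelBaseChange R K E E M
  exact Module.Free.of_equiv (e1 ≪≫ₗ e2 ≪≫ₗ e3)

section CL

attribute [local instance] Algebra.TensorProduct.rightAlgebra

/-- **Core lemma**: a finite module over a finite type algebra over a Noetherian ring `R`, flat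
over `R`, becomes free over `R_f` for some `f` outside a given minimal prime. -/
theorem exists_free_away_of_minimalPrime {R : Type u} [CommRing R] [IsNoetherianRing R]
    {S : Type u} [CommRing S] [Algebra R S] [Algebra.FiniteType R S]
    (M : Type u) [AddCommGroup M] [Module S M] [Module R M] [IsScalarTower R S M]
    [Module.Finite S M] [Module.Flat R M] (p : Ideal R) [p.IsPrime] (hp : p ∈ minimalPrimes R) :
    ∃ f : R, f ∉ p ∧ Module.Free (Localization.Away f) (Localization.Away f ⊗[R] M) := by
  obtain ⟨g, hg, n, hn⟩ := exists_mul_pow_eq_zero p hp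
  obtain ⟨fb, hfb, hfree, -, -, -⟩ := GenFreeH8.generic_freeness (R := R ⧸ p)
    (S := (R ⧸ p) ⊗[R] S) (((R ⧸ p) ⊗[R] S) ⊗[S] M)
  obtain ⟨h, rfl⟩ := Ideal.Quotient.mk_surjective fb
  have hh : h ∉ p := fun hmem => hfb (Ideal.Quotient.eq_zero_iff_mem.mpr hmem)
  refine ⟨g * h, fun hmem => (Ideal.IsPrime.mem_or_mem ‹_› hmem).elim hg hh, ?_⟩
  have hu : IsUnit (algebraMap R (Localization.Away (g * h)) (g * h)) :=
    IsLocalization.Away.algebraMap_isUnit (g * h)
  have hug : IsUnit (algebraMap R (Localization.Away (g * h)) g) := by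
    rw [map_mul] at hu
    exact isUnit_of_mul_isUnit_left hu
  have huh : IsUnit (algebraMap R (Localization.Away (g * h)) h) := by
    rw [map_mul] at hu
    exact isUnit_of_mul_isUnit_right hu
  have hJ : IsNilpotent (p.map (algebraMap R (Localization.Away (g * h)))) := by
    refine ⟨n, ?_⟩
    rw [← Ideal.map_pow, Ideal.zero_eq_bot, ← le_bot_iff, Ideal.map_le_iff_le_comap]
    intro x hx
    rw [Ideal.mem_comap, Ideal.mem_bot]
    have h0 := hn x hx
    have h1 : algebraMap R (Localization.Away (g * h)) g *
        algebraMap R (Localization.Away (g * h)) x = 0 := by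
      rw [← map_mul, h0, map_zero]
    exact (hug.mul_right_eq_zero).mp h1
  have hunit : IsUnit (algebraMap (R ⧸ p)
      (Localization.Away (g * h) ⧸ p.map (algebraMap R (Localization.Away (g * h))))
      (Ideal.Quotient.mk p h)) := by
    rw [Ideal.Quotient.algebraMap_quotient_map_quotient]
    exact huh.map _
  letI : Algebra (Localization.Away (Ideal.Quotient.mk p h))
      (Localization.Away (g * h) ⧸ p.map (algebraMap R (Localization.Away (g * h)))) :=
    (IsLocalization.Away.lift (Ideal.Quotient.mk p h) hunit).toAlgebra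
  haveI : IsScalarTower (R ⧸ p) (Localization.Away (Ideal.Quotient.mk p h))
      (Localization.Away (g * h) ⧸ p.map (algebraMap R (Localization.Away (g * h)))) :=
    IsScalarTower.of_algebraMap_eq (fun x =>
      (IsLocalization.Away.lift_eq (Ideal.Quotient.mk p h) hunit x).symm)
  haveI : Module.Free
      (Localization.Away (g * h) ⧸ p.map (algebraMap R (Localization.Away (g * h))))
      ((Localization.Away (g * h) ⧸ p.map (algebraMap R (Localization.Away (g * h)))) ⊗[R] M) :=
    free_transfer (R := R) (K := R ⧸ p) (D := Localization.Away (Ideal.Quotient.mk p h))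
      (E := Localization.Away (g * h) ⧸ p.map (algebraMap R (Localization.Away (g * h)))) M
      (((R ⧸ p) ⊗[R] S) ⊗[S] M)
      (Algebra.IsPushout.cancelBaseChange R (R ⧸ p) S ((R ⧸ p) ⊗[R] S) M)
  have hfree2 : Module.Free
      (Localization.Away (g * h) ⧸ p.map (algebraMap R (Localization.Away (g * h))))
      ((Localization.Away (g * h) ⧸ p.map (algebraMap R (Localization.Away (g * h))))
        ⊗[Localization.Away (g * h)] (Localization.Away (g * h) ⊗[R] M)) :=
    Module.Free.of_equiv (AlgebraTensorModule.cancelBaseChange R (Localization.Away (g * h))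
      (Localization.Away (g * h) ⧸ p.map (algebraMap R (Localization.Away (g * h))))
      (Localization.Away (g * h) ⧸ p.map (algebraMap R (Localization.Away (g * h)))) M).symm
  exact free_of_flat_of_free_mod_nilpotent (Localization.Away (g * h) ⊗[R] M) _ hJ hfree2

end CL

end Groth.Agent.Lib.FreeStratH8
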