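import Mathlib
import Groth.Agent.Lib.FreeStrat1_helper8

/-!
# Stratification of the base by locally closed pieces over which a flat finitely presented
module becomes free
-/

namespace Groth.Agent.Lib.FreeStratH8

open TensorProduct

universe u

/-- `M` becomes free over `R_f / I R_f`. -/
def StratFree {R : Type u} [CommRing R] (M : Type u) [AddCommGroup M] [Module R M] (I : Ideal R)
    (f : R) : Prop :=
  Module.Free (Localization.Away f ⧸ I.map (algebraMap R (Localization.Away f)))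
    ((Localization.Away f ⧸ I.map (algebraMap R (Localization.Away f))) ⊗[R] M)

theorem stratFree_of_quotient {R : Type u} [CommRing R] (M : Type u) [AddCommGroup M] [Module R M]
    (I : Ideal R) (f : R) (N : Type u) [AddCommGroup N] [Module (R ⧸ I) N]
    (e : N ≃ₗ[R ⧸ I] (R ⧸ I) ⊗[R] M)
    (h : Module.Free (Localization.Away (Ideal.Quotient.mk I f))
      (Localization.Away (Ideal.Quotient.mk I f) ⊗[R ⧸ I] N)) :
    StratFree M I f := by
  have hu : IsUnit (algebraMap R (Localization.Away f) f) :=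
    IsLocalization.Away.algebraMap_isUnit f
  have hunit : IsUnit (algebraMap (R ⧸ I)
      (Localization.Away f ⧸ I.map (algebraMap R (Localization.Away f)))
      (Ideal.Quotient.mk I f)) := by
    rw [Ideal.Quotient.algebraMap_quotient_map_quotient]
    exact hu.map _
  letI : Algebra (Localization.Away (Ideal.Quotient.mk I f))
      (Localization.Away f ⧸ I.map (algebraMap R (Localization.Away f))) :=
    (IsLocalization.Away.lift (Ideal.Quotient.mk I f) hunit).toAlgebra
  haveI : IsScalarTower (R ⧸ I) (Localization.Away (Ideal.Quotient.mk I f))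
      (Localization.Away f ⧸ I.map (algebraMap R (Localization.Away f))) :=
    IsScalarTower.of_algebraMap_eq (fun x =>
      (IsLocalization.Away.lift_eq (Ideal.Quotient.mk I f) hunit x).symm)
  exact free_transfer (R := R) (K := R ⧸ I) (D := Localization.Away (Ideal.Quotient.mk I f))
    (E := Localization.Away f ⧸ I.map (algebraMap R (Localization.Away f))) M N e

theorem span_mem_cons {R : Type u} [CommRing R] (f : R) (l : List R) :
    Ideal.span {a | a ∈ f :: l} = Ideal.span {f} ⊔ Ideal.span {a | a ∈ l} := by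
  rw [← Ideal.span_union]
  congr 1
  ext a
  simp

theorem span_mem_nil {R : Type u} [CommRing R] :
    Ideal.span {a | a ∈ ([] : List R)} = ⊥ := by
  simp

section Noeth

attribute [local instance] Algebra.TensorProduct.rightAlgebra

theorem exists_strat_noetherian {R : Type u} [CommRing R] [IsNoetherianRing R]
    {S : Type u} [CommRing S] [Algebra R S] [Algebra.FiniteType R S]
    (M : Type u) [AddCommGroup M] [Module S M] [Module R M] [IsScalarTower R S M]
    [Module.Finite S M] [Module.Flat R M] (𝔞 : Ideal R) :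
    ∃ l : List R, Ideal.span {a | a ∈ l} ⊔ 𝔞 = ⊤ ∧
      ∀ (i : ℕ) (hi : i < l.length),
        StratFree M (𝔞 ⊔ Ideal.span {a | a ∈ l.take i}) l[i] := by
  induction 𝔞 using IsNoetherian.induction with
  | hgt 𝔞 ih =>
    by_cases htop : 𝔞 = ⊤
    · refine ⟨[], ?_, ?_⟩
      · rw [htop, sup_top_eq]
      · intro i hi
        exact absurd hi (by simp)
    · haveI : Nontrivial (R ⧸ 𝔞) := Ideal.Quotient.nontrivial_iff.mpr htop
      obtain ⟨pb, hpb⟩ := Ideal.nonempty_minimalPrimes (I := (⊥ : Ideal (R ⧸ 𝔞))) bot_ne_top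
      haveI : pb.IsPrime := hpb.1.1
      haveI : Module.Flat (R ⧸ 𝔞) (((R ⧸ 𝔞) ⊗[R] S) ⊗[S] M) :=
        Module.Flat.of_linearEquiv
          (Algebra.IsPushout.cancelBaseChange R (R ⧸ 𝔞) S ((R ⧸ 𝔞) ⊗[R] S) M)
      obtain ⟨fb, hfb, hfree⟩ := exists_free_away_of_minimalPrime (R := R ⧸ 𝔞)
        (S := (R ⧸ 𝔞) ⊗[R] S) (((R ⧸ 𝔞) ⊗[R] S) ⊗[S] M) pb hpb
      obtain ⟨f, rfl⟩ := Ideal.Quotient.mk_surjective fb
      have hf : f ∉ 𝔞 := fun hmem => hfb (by
        rw [Ideal.Quotient.eq_zero_iff_mem.mpr hmem]; exact zero_mem _)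
      have hlt : 𝔞 < 𝔞 ⊔ Ideal.span {f} := by
        refine lt_of_le_of_ne le_sup_left (fun heq => hf ?_)
        rw [heq]
        exact Ideal.mem_sup_right (Ideal.subset_span rfl)
      obtain ⟨l', h1, h2⟩ := ih (𝔞 ⊔ Ideal.span {f}) hlt
      refine ⟨f :: l', ?_, ?_⟩
      · rw [span_mem_cons, ← h1]
        ac_rfl
      · intro i hi
        cases i with
        | zero =>
          show StratFree M (𝔞 ⊔ Ideal.span {a | a ∈ ([] : List R)}) f
          rw [span_mem_nil, sup_bot_eq]
          exact stratFree_of_quotient M 𝔞 f (((R ⧸ 𝔞) ⊗[R] S) ⊗[S] M)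
            (Algebra.IsPushout.cancelBaseChange R (R ⧸ 𝔞) S ((R ⧸ 𝔞) ⊗[R] S) M) hfree
        | succ i =>
          have hi' : i < l'.length := by simpa using hi
          show StratFree M (𝔞 ⊔ Ideal.span {a | a ∈ f :: l'.take i}) l'[i]
          rw [span_mem_cons, ← sup_assoc]
          exact h2 i hi'

end Noeth

/-- second transfer of freeness. -/
theorem free_transfer' {R₀ A E₀ E : Type u} [CommRing R₀] [CommRing A] [CommRing E₀] [CommRing E]
    [Algebra R₀ A] [Algebra R₀ E₀] [Algebra R₀ E] [Algebra A E] [Algebra E₀ E]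
    [IsScalarTower R₀ A E] [IsScalarTower R₀ E₀ E]
    (M₀ : Type u) [AddCommGroup M₀] [Module R₀ M₀] (M : Type u) [AddCommGroup M] [Module A M]
    (e : A ⊗[R₀] M₀ ≃ₗ[A] M) [Module.Free E₀ (E₀ ⊗[R₀] M₀)] : Module.Free E (E ⊗[A] M) := by
  haveI : Module.Free E (E ⊗[E₀] (E₀ ⊗[R₀] M₀)) := inferInstance
  have e1 : E ⊗[E₀] (E₀ ⊗[R₀] M₀) ≃ₗ[E] E ⊗[R₀] M₀ :=
    AlgebraTensorModule.cancelBaseChange R₀ E₀ E E M₀
  have e2 : E ⊗[A] (A ⊗[R₀] M₀) ≃ₗ[E] E ⊗[R₀] M₀ :=
    AlgebraTensorModule.cancelBaseChange R₀ A E E M₀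
  have e3 : E ⊗[A] (A ⊗[R₀] M₀) ≃ₗ[E] E ⊗[A] M := LinearEquiv.baseChange A E _ _ e
  exact Module.Free.of_equiv (e1 ≪≫ₗ e2.symm ≪≫ₗ e3)

end Groth.Agent.Lib.FreeStratH8
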