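import Mathlib
import Groth.Agent.Lib.FreeStrat2_helper8

/-!
# Stratification: passage from the Noetherian model to the general case
-/

namespace Groth.Agent.Lib.FreeStratH8

open TensorProduct

universe u

theorem StratFree.map {R₀ A : Type u} [CommRing R₀] [CommRing A] [Algebra R₀ A]
    (M₀ : Type u) [AddCommGroup M₀] [Module R₀ M₀] (M : Type u) [AddCommGroup M] [Module A M]
    (e : A ⊗[R₀] M₀ ≃ₗ[A] M) (I : Ideal R₀) (f : R₀) (h : StratFree M₀ I f) :
    StratFree M (I.map (algebraMap R₀ A)) (algebraMap R₀ A f) := by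
  have hu : IsUnit (algebraMap R₀ (Localization.Away (algebraMap R₀ A f)) f) := by
    rw [IsScalarTower.algebraMap_apply R₀ A (Localization.Away (algebraMap R₀ A f))]
    exact IsLocalization.Away.algebraMap_isUnit (algebraMap R₀ A f)
  have hψ : ∀ x, (IsLocalization.Away.lift f hu : Localization.Away f →+* _)
      (algebraMap R₀ (Localization.Away f) x) =
      algebraMap R₀ (Localization.Away (algebraMap R₀ A f)) x :=
    IsLocalization.Away.lift_eq f hu
  have hle : I.map (algebraMap R₀ (Localization.Away f)) ≤
      ((I.map (algebraMap R₀ A)).map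
        (algebraMap A (Localization.Away (algebraMap R₀ A f)))).comap
        (IsLocalization.Away.lift f hu : Localization.Away f →+* _) := by
    rw [Ideal.map_le_iff_le_comap]
    intro x hx
    rw [Ideal.mem_comap, Ideal.mem_comap, hψ,
      IsScalarTower.algebraMap_apply R₀ A (Localization.Away (algebraMap R₀ A f))]
    exact Ideal.mem_map_of_mem _ (Ideal.mem_map_of_mem _ hx)
  letI : Algebra (Localization.Away f ⧸ I.map (algebraMap R₀ (Localization.Away f)))
      (Localization.Away (algebraMap R₀ A f) ⧸ (I.map (algebraMap R₀ A)).map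
        (algebraMap A (Localization.Away (algebraMap R₀ A f)))) :=
    (Ideal.quotientMap _ (IsLocalization.Away.lift f hu : Localization.Away f →+* _) hle).toAlgebra
  haveI : IsScalarTower R₀ (Localization.Away f ⧸ I.map (algebraMap R₀ (Localization.Away f)))
      (Localization.Away (algebraMap R₀ A f) ⧸ (I.map (algebraMap R₀ A)).map
        (algebraMap A (Localization.Away (algebraMap R₀ A f)))) :=
    IsScalarTower.of_algebraMap_eq (fun x => by
      show _ = (Ideal.quotientMap _ (IsLocalization.Away.lift f hu : Localization.Away f →+* _) hle)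
        (Ideal.Quotient.mk _ (algebraMap R₀ (Localization.Away f) x))
      rw [Ideal.quotientMap_mk, hψ]
      rfl)
  unfold StratFree at h ⊢
  haveI := h
  exact free_transfer' (R₀ := R₀) (A := A)
    (E₀ := Localization.Away f ⧸ I.map (algebraMap R₀ (Localization.Away f)))
    (E := Localization.Away (algebraMap R₀ A f) ⧸ (I.map (algebraMap R₀ A)).map
        (algebraMap A (Localization.Away (algebraMap R₀ A f)))) M₀ M e

theorem exists_strat {A B : Type u} [CommRing A] [CommRing B] [Algebra A B]
    [Algebra.FinitePresentation A B] (M : Type u) [AddCommGroup M] [Module B M] [Module A M]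
    [IsScalarTower A B M] [Module.FinitePresentation B M] [Module.Flat A M] :
    ∃ l : List A, Ideal.span {a | a ∈ l} = ⊤ ∧
      ∀ (i : ℕ) (hi : i < l.length), StratFree M (Ideal.span {a | a ∈ l.take i}) l[i] := by
  obtain ⟨R₀, _, _, S₀, _, _, _, _, _, _, M₀, _, _, _, _, _, _, f, hft, hft', hfin, hflat,
    hpush, hbc⟩ := FlatDescH8.exists_finiteType_int_model A B M
  haveI : IsNoetherianRing R₀ := Algebra.FiniteType.isNoetherianRing ℤ R₀
  obtain ⟨l₀, h1, h2⟩ := exists_strat_noetherian (R := R₀) (S := S₀) M₀ ⊥
  obtain ⟨e, -⟩ : ∃ e : A ⊗[R₀] M₀ ≃ₗ[A] M, True := ⟨FlatDescH8.modelEquiv hbc, trivial⟩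
  have himg : ∀ l : List R₀, {a | a ∈ l.map (algebraMap R₀ A)} =
      (algebraMap R₀ A) '' {a | a ∈ l} := by
    intro l
    ext a
    simp
  refine ⟨l₀.map (algebraMap R₀ A), ?_, ?_⟩
  · rw [himg, ← Ideal.map_span]
    rw [sup_bot_eq] at h1
    rw [h1, Ideal.map_top]
  · intro i hi
    have hi' : i < l₀.length := by simpa using hi
    have h3 := (h2 i hi').map M₀ M e
    rw [bot_sup_eq, Ideal.map_span, ← himg, List.map_take] at h3
    rw [List.getElem_map]
    exact h3

end Groth.Agent.Lib.FreeStratH8
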