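import Mathlib
import Groth.Agent.Lib.FreeStrat3_helper8

/-!
# Separating families of algebras and flat finitely presented base change (algebra core, lead)

Let `A → A'` be flat of finite presentation, `(C_λ)` a family of `A`-algebras which is
"separating on every principal open" of `Spec A`.  Then the family `(C_λ ⊗_A A')` of `A'`-algebras
is separating.  The proof uses helper8's stratification of `Spec A` by pieces over which `A'`
becomes free (`FreeStratH8.exists_strat`).
-/

set_option backward.isDefEq.respectTransparency false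
set_option backward.isDefEq.respectTransparency.types false
set_option linter.unusedVariables false
set_option linter.unusedSectionVars false
set_option linter.style.longLine false
set_option linter.unusedSimpArgs false
set_option linter.unnecessarySimpa false
set_option maxHeartbeats 800000

universe u v w

open TensorProduct

namespace Groth.Agent.Lib.SchDomAlg

section Coord

variable {R : Type*} [CommRing R] {E : Type*} [CommRing E] [Algebra R E]
  {M : Type*} [AddCommGroup M] [Module R M] {β : Type*} [DecidableEq β]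
  (b : Module.Basis β E (E ⊗[R] M))
  (P : Type*) [AddCommGroup P] [Module R P] [Module E P] [IsScalarTower R E P]

/-- coordinates of `P ⊗[R] M` when `E ⊗[R] M` is `E`-free and `P` is an `E`-module. -/
noncomputable def coord : P ⊗[R] M ≃ₗ[E] (β →₀ P) :=
  (AlgebraTensorModule.cancelBaseChange R E E P M).symm ≪≫ₗ
    TensorProduct.equivFinsuppOfBasisRight b

theorem coord_tmul (p : P) (m : M) (i : β) :
    coord b P (p ⊗ₜ[R] m) i = b.repr ((1 : E) ⊗ₜ[R] m) i • p := by
  simp [coord, TensorProduct.equivFinsuppOfBasisRight_apply_tmul_apply]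

variable {P}

theorem coord_map (hsurj : Function.Surjective (algebraMap R E))
    {P' : Type*} [AddCommGroup P'] [Module R P'] [Module E P'] [IsScalarTower R E P']
    (ψ : P →ₗ[R] P') (x : P ⊗[R] M) (i : β) :
    coord b P' (ψ.rTensor M x) i = ψ (coord b P x i) := by
  induction x using TensorProduct.induction_on with
  | zero => simp
  | tmul p m =>
    rw [LinearMap.rTensor_tmul, coord_tmul, coord_tmul]
    obtain ⟨a, ha⟩ := hsurj (b.repr ((1 : E) ⊗ₜ[R] m) i)
    rw [← ha, algebraMap_smul, algebraMap_smul, map_smul]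
  | add x y hx hy =>
    rw [map_add, map_add, Finsupp.add_apply, hx, hy, map_add, Finsupp.add_apply, map_add]

end Coord

/-- **Lemma L.** `M` flat over `R`, `J = (y₁, …, y_r)`, `M / J M` free over `R / J`; a jointly
injective family of linear maps `ψ_λ : R → Q_λ`.  An element `t` of `M` killed by `J` whose image in
every `Q_λ ⊗ M` vanishes is zero. -/
theorem lemmaL {R : Type u} [CommRing R] (M : Type u) [AddCommGroup M] [Module R M]
    [Module.Flat R M] {r : ℕ} (y : Fin r → R)
    [Module.Free (R ⧸ Ideal.span (Set.range y)) ((R ⧸ Ideal.span (Set.range y)) ⊗[R] M)]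
    {Λ : Type v} (Q : Λ → Type w) [∀ l, AddCommGroup (Q l)] [∀ l, Module R (Q l)]
    (ψ : ∀ l, R →ₗ[R] Q l) (hψ : ∀ x : R, (∀ l, ψ l x = 0) → x = 0)
    (t : M) (hy : ∀ k, y k • t = 0) (ht : ∀ l, ψ l 1 ⊗ₜ[R] t = 0) : t = 0 := by
  classical
  let J : Ideal R := Ideal.span (Set.range y)
  let b := Module.Free.chooseBasis (R ⧸ J) ((R ⧸ J) ⊗[R] M)
  have hsurj : Function.Surjective (algebraMap R (R ⧸ J)) := Ideal.Quotient.mk_surjective
  let φ : R →ₗ[R] (Fin r → R) := LinearMap.pi (fun k => LinearMap.mulLeft R (y k))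
  have hφ : ∀ x k, φ x k = y k * x := fun x k => rfl
  let N : Submodule R R := LinearMap.ker φ
  have hN : ∀ x ∈ N, ∀ k, y k * x = 0 := by
    intro x hx k
    have h0 : φ x = 0 := hx
    rw [← hφ, h0]
    rfl
  -- `N` is a module over `R ⧸ J`
  have htors0 : Module.IsTorsionBySet R N (Set.range y) := by
    rintro ⟨x, hx⟩ ⟨_, k, rfl⟩
    apply Subtype.ext
    exact hN x hx k
  have htors : Module.IsTorsionBySet R N (J : Set R) :=
    (Module.isTorsionBySet_iff_is_torsion_by_span _).mp htors0
  letI : Module (R ⧸ J) N := htors.module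
  haveI : IsScalarTower R (R ⧸ J) N := htors.isScalarTower
  -- the element `s` of `N ⊗ M` lifting `1 ⊗ t`
  have hex := Module.Flat.rTensor_exact M (LinearMap.exact_subtype_ker_map φ)
  have h0 : (φ.rTensor M) ((1 : R) ⊗ₜ[R] t) = 0 := by
    rw [LinearMap.rTensor_tmul]
    have h1 : φ 1 = ∑ k, y k • (Pi.single k (1 : R) : Fin r → R) := by
      ext j
      rw [hφ, mul_one, Finset.sum_apply]
      simp [Pi.single_apply]
    rw [h1, TensorProduct.sum_tmul]
    refine Finset.sum_eq_zero (fun k _ => ?_)
    rw [TensorProduct.smul_tmul, hy k, TensorProduct.tmul_zero]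
  obtain ⟨s, hs⟩ := (hex ((1 : R) ⊗ₜ[R] t)).mp h0
  -- its coordinates vanish
  have hcoord : ∀ i, coord b N s i = 0 := by
    intro i
    apply Subtype.ext
    apply hψ
    intro l
    -- the image submodule
    let g : N →ₗ[R] Q l := (ψ l).comp N.subtype
    let Nl : Submodule R (Q l) := LinearMap.range g
    have htl0 : Module.IsTorsionBySet R Nl (J : Set R) := by
      rintro ⟨_, x, rfl⟩ ⟨a, ha⟩
      apply Subtype.ext
      show a • g x = 0
      rw [← map_smul]
      have := @htors x ⟨a, ha⟩
      rw [this, map_zero]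
    letI : Module (R ⧸ J) Nl := htl0.module
    haveI : IsScalarTower R (R ⧸ J) Nl := htl0.isScalarTower
    have hzero : (g.rangeRestrict.rTensor M) s = 0 := by
      apply Module.Flat.rTensor_preserves_injective_linearMap Nl.subtype
        (Submodule.injective_subtype Nl)
      rw [map_zero, ← LinearMap.comp_apply, ← LinearMap.rTensor_comp,
        show Nl.subtype.comp g.rangeRestrict = g from LinearMap.subtype_comp_codRestrict _ _ _]
      show (((ψ l).comp N.subtype).rTensor M) s = 0
      rw [LinearMap.rTensor_comp, LinearMap.comp_apply, hs, LinearMap.rTensor_tmul]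
      exact ht l
    have hc := coord_map b hsurj g.rangeRestrict s i
    rw [hzero, map_zero, Finsupp.zero_apply] at hc
    have hc' := congrArg Subtype.val hc.symm
    exact hc'
  have hs0 : s = 0 := by
    apply (coord b N).injective
    rw [map_zero]
    ext i
    rw [hcoord i]
    rfl
  rw [hs0, map_zero] at hs
  have := congrArg (TensorProduct.lid R M) hs
  rw [map_zero, TensorProduct.lid_tmul, one_smul] at this
  exact this.symm

section Step

variable {A A' : Type u} [CommRing A] [CommRing A'] [Algebra A A'] [Module.Flat A A']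

/-- freeness of `A'` over `A_f / (g₁^m, …, g_r^m)`, from freeness over `A_f / (g₁, …, g_r)`. -/
theorem free_aux (f : A) {r : ℕ} (g : Fin r → A) (m : ℕ)
    (hfree : FreeStratH8.StratFree A' (Ideal.span (Set.range g)) f) :
    Module.Free
      (Localization.Away f ⧸ Ideal.span
        (Set.range fun k => algebraMap A (Localization.Away f) (g k ^ m)))
      ((Localization.Away f ⧸ Ideal.span
        (Set.range fun k => algebraMap A (Localization.Away f) (g k ^ m)))
          ⊗[Localization.Away f] (Localization.Away f ⊗[A] A')) := by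
  classical
  let R := Localization.Away f
  let y : Fin r → R := fun k => algebraMap A R (g k ^ m)
  let J : Ideal R := Ideal.span (Set.range y)
  let E := R ⧸ J
  let Ibar : Ideal R := (Ideal.span (Set.range g)).map (algebraMap A R)
  let J' : Ideal E := Ibar.map (Ideal.Quotient.mk J)
  have hJ'span : J' = Ideal.span (Set.range fun k => Ideal.Quotient.mk J (algebraMap A R (g k))) := by
    show (Ideal.map (Ideal.Quotient.mk J) (Ideal.map (algebraMap A R) (Ideal.span (Set.range g)))) = _
    rw [Ideal.map_span, Ideal.map_span, ← Set.range_comp, ← Set.range_comp]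
    rfl
  have hnil : IsNilpotent J' := by
    have hfg : J'.FG := by
      rw [hJ'span]
      exact Submodule.fg_span (Set.finite_range _)
    rw [hfg.isNilpotent_iff_le_nilradical, hJ'span, Ideal.span_le]
    rintro _ ⟨k, rfl⟩
    refine ⟨m, ?_⟩
    rw [← map_pow, ← map_pow, Ideal.zero_eq_bot, Ideal.mem_bot, Ideal.Quotient.eq_zero_iff_mem]
    exact Ideal.subset_span ⟨k, rfl⟩
  -- the ring map `R ⧸ Ibar → E ⧸ J'`
  let θ : (R ⧸ Ibar) →+* (E ⧸ J') :=
    Ideal.Quotient.lift Ibar ((Ideal.Quotient.mk J').comp (Ideal.Quotient.mk J)) (by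
      intro a ha
      rw [RingHom.comp_apply, Ideal.Quotient.eq_zero_iff_mem]
      exact Ideal.mem_map_of_mem _ ha)
  letI alg : Algebra (R ⧸ Ibar) (E ⧸ J') := @RingHom.toAlgebra (R ⧸ Ibar) (E ⧸ J')
    (Ideal.Quotient.commSemiring Ibar) (Ideal.Quotient.commSemiring J') θ
  haveI : IsScalarTower A (R ⧸ Ibar) (E ⧸ J') :=
    @IsScalarTower.of_algebraMap_eq A (R ⧸ Ibar) (E ⧸ J') _ _ _
      (inferInstance : Algebra A (R ⧸ Ibar)) alg (inferInstance : Algebra A (E ⧸ J'))
      (fun x => rfl)
  haveI hfree' : Module.Free (R ⧸ Ibar) ((R ⧸ Ibar) ⊗[A] A') := hfree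
  haveI h1 : Module.Free (E ⧸ J') ((E ⧸ J') ⊗[A] A') :=
    FreeStratH8.free_transfer (R := A) (K := A) (D := R ⧸ Ibar) (E := E ⧸ J') A' A'
      (TensorProduct.lid A A').symm
  haveI h2 : Module.Free (E ⧸ J') ((E ⧸ J') ⊗[E] (E ⊗[A] A')) :=
    Module.Free.of_equiv
      (AlgebraTensorModule.cancelBaseChange A E (E ⧸ J') (E ⧸ J') A').symm
  haveI h3 : Module.Free E (E ⊗[A] A') :=
    FreeStratH8.free_of_flat_of_free_mod_nilpotent (A := E) (E ⊗[A] A') J' hnil h2
  exact Module.Free.of_equiv (AlgebraTensorModule.cancelBaseChange A R E E A').symm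

/-- **Step.** -/
theorem step {Λ : Type v} (C : Λ → Type u) [∀ l, CommRing (C l)] [∀ l, Algebra A (C l)]
    (f : A) {r : ℕ} (g : Fin r → A) (m : ℕ)
    (hfree : FreeStratH8.StratFree A' (Ideal.span (Set.range g)) f)
    (t : A') (hg : ∀ k, g k ^ m • t = 0)
    (H : ∀ x : A, (∀ l, ∃ n : ℕ, algebraMap A (C l) (f ^ n * x) = 0) → ∃ n : ℕ, f ^ n * x = 0)
    (ht : ∀ l, (1 : C l) ⊗ₜ[A] t = 0) : ∃ n : ℕ, f ^ n • t = 0 := by
  classical
  let R := Localization.Away f
  let y : Fin r → R := fun k => algebraMap A R (g k ^ m)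
  haveI hF := free_aux (A' := A') f g m hfree
  have key : ((1 : R) ⊗ₜ[A] t : R ⊗[A] A') = 0 := by
    refine lemmaL (R := R) (R ⊗[A] A') y (Q := fun l => R ⊗[A] C l)
      (fun l => (Algebra.TensorProduct.includeLeft : R →ₐ[R] R ⊗[A] C l).toLinearMap) ?_
      ((1 : R) ⊗ₜ[A] t) ?_ ?_
    · -- joint injectivity
      intro x hx
      obtain ⟨a, s, rfl⟩ := IsLocalization.exists_mk'_eq (Submonoid.powers f) x
      have hu : IsUnit (algebraMap A R (s : A)) := IsLocalization.map_units R s
      have hspec : IsLocalization.mk' R a s * algebraMap A R (s : A) = algebraMap A R a :=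
        IsLocalization.mk'_spec R a s
      have ha : ∃ n : ℕ, f ^ n * a = 0 := by
        apply H
        intro l
        have h1 : (IsLocalization.mk' R a s) ⊗ₜ[A] (1 : C l) = 0 := hx l
        have h2 : (algebraMap A R a) ⊗ₜ[A] (1 : C l) = 0 := by
          rw [← hspec, mul_comm, ← smul_eq_mul, ← TensorProduct.smul_tmul', h1, smul_zero]
        have h3 : TensorProduct.mk A R (C l) 1 (algebraMap A (C l) a) = 0 := by
          rw [TensorProduct.mk_apply, Algebra.algebraMap_eq_smul_one, ← TensorProduct.smul_tmul,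
            ← Algebra.algebraMap_eq_smul_one]
          exact h2
        obtain ⟨⟨_, n, rfl⟩, hn⟩ :=
          (IsLocalizedModule.eq_zero_iff (Submonoid.powers f) (TensorProduct.mk A R (C l) 1)).mp h3
        refine ⟨n, ?_⟩
        rw [map_mul, ← Algebra.smul_def]
        exact hn
      obtain ⟨n, hn⟩ := ha
      have h4 : algebraMap A R a = 0 :=
        (IsLocalization.map_eq_zero_iff (Submonoid.powers f) R a).mpr ⟨⟨f ^ n, n, rfl⟩, hn⟩
      rw [h4] at hspec
      exact (hu.mul_left_eq_zero).mp hspec
    · intro k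
      show algebraMap A R (g k ^ m) • ((1 : R) ⊗ₜ[A] t) = 0
      rw [TensorProduct.smul_tmul', smul_eq_mul, mul_one, Algebra.algebraMap_eq_smul_one,
        TensorProduct.smul_tmul, hg k, TensorProduct.tmul_zero]
    · intro l
      let Φ : C l ⊗[A] A' →ₗ[A] (R ⊗[A] C l) ⊗[R] (R ⊗[A] A') :=
        (TensorProduct.mapOfCompatibleSMul R A A (R ⊗[A] C l) (R ⊗[A] A')).comp
          (TensorProduct.map (TensorProduct.mk A R (C l) 1) (TensorProduct.mk A R A' 1))
      have hΦ : Φ ((1 : C l) ⊗ₜ[A] t) =
          ((1 : R) ⊗ₜ[A] (1 : C l)) ⊗ₜ[R] ((1 : R) ⊗ₜ[A] t) := rfl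
      have h1 := congrArg Φ (ht l)
      rw [hΦ, map_zero] at h1
      exact h1
  obtain ⟨⟨_, n, rfl⟩, hn⟩ :=
    (IsLocalizedModule.eq_zero_iff (Submonoid.powers f) (TensorProduct.mk A R A' 1)).mp key
  exact ⟨n, hn⟩

end Step

/-- **Core.** -/
theorem core {A A' : Type u} [CommRing A] [CommRing A'] [Algebra A A'] [Module.Flat A A']
    [Algebra.FinitePresentation A A']
    {Λ : Type v} (C : Λ → Type u) [∀ l, CommRing (C l)] [∀ l, Algebra A (C l)]
    (H : ∀ a x : A, (∀ l, ∃ n : ℕ, algebraMap A (C l) (a ^ n * x) = 0) → ∃ n : ℕ, a ^ n * x = 0)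
    (t : A') (ht : ∀ l, (1 : C l) ⊗ₜ[A] t = 0) : t = 0 := by
  obtain ⟨l, hl, hstrat⟩ := FreeStratH8.exists_strat (A := A) (B := A') A'
  have claim : ∀ i (hi : i ≤ l.length), ∃ m : ℕ, ∀ k (hk : k < i),
      (l[k]'(lt_of_lt_of_le hk hi)) ^ m • t = 0 := by
    intro i
    induction i with
    | zero => intro _; exact ⟨0, fun k hk => absurd hk (Nat.not_lt_zero k)⟩
    | succ i ih =>
      intro hi
      have hi' : i < l.length := hi
      obtain ⟨m, hm⟩ := ih (Nat.le_of_succ_le hi)
      have hset : {a | a ∈ l.take i} = Set.range (fun k : Fin i => l[k.1]'(k.2.trans hi')) := by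
        ext a
        constructor
        · intro ha
          obtain ⟨k, hk, rfl⟩ := List.mem_take_iff_getElem.mp ha
          exact ⟨⟨k, lt_of_lt_of_le hk (min_le_left _ _)⟩, rfl⟩
        · rintro ⟨k, rfl⟩
          exact List.mem_take_iff_getElem.mpr ⟨k.1, lt_min k.2 (k.2.trans hi'), rfl⟩
      have hfree := hstrat i hi'
      rw [hset] at hfree
      obtain ⟨n, hn⟩ := step C (l[i]) (fun k : Fin i => l[k.1]'(k.2.trans hi')) m hfree t
        (fun k => hm k.1 k.2) (H (l[i])) ht
      refine ⟨m + n, fun k hk => ?_⟩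
      rcases Nat.lt_succ_iff_lt_or_eq.mp hk with h | h
      · rw [pow_add, mul_comm, mul_smul, hm k h, smul_zero]
      · subst h
        rw [pow_add, mul_smul, hn, smul_zero]
  obtain ⟨m, hm⟩ := claim l.length le_rfl
  have hspan : Ideal.span ((fun x => x ^ m) '' {a | a ∈ l}) = ⊤ := Ideal.span_pow_eq_top _ hl m
  have hle : Ideal.span ((fun x => x ^ m) '' {a | a ∈ l}) ≤
      LinearMap.ker (LinearMap.toSpanSingleton A A' t) := by
    rw [Ideal.span_le]
    rintro _ ⟨a, ha, rfl⟩
    obtain ⟨k, hk, rfl⟩ := List.getElem_of_mem ha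
    show LinearMap.toSpanSingleton A A' t (l[k] ^ m) = 0
    rw [LinearMap.toSpanSingleton_apply]
    exact hm k hk
  have h1 : (1 : A) ∈ LinearMap.ker (LinearMap.toSpanSingleton A A' t) := by
    apply hle
    rw [hspan]
    exact Submodule.mem_top
  have h2 : LinearMap.toSpanSingleton A A' t 1 = 0 := h1
  rw [LinearMap.toSpanSingleton_apply, one_smul] at h2
  exact h2

end Groth.Agent.Lib.SchDomAlg
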