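import Groth.Statements.S4875
import Groth.Agent.Lib.SchDomAlg_lead

/-! # Schematically dominant families and flat, locally finitely presented base change (lead) -/

set_option backward.isDefEq.respectTransparency false
set_option backward.isDefEq.respectTransparency.types false
set_option linter.unusedSimpArgs false
set_option linter.unusedVariables false
set_option linter.unusedSectionVars false
set_option linter.style.longLine false
set_option linter.style.haveILetI false
set_option linter.unnecessarySimpa false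
set_option maxHeartbeats 800000

universe u

open CategoryTheory CategoryTheory.Limits AlgebraicGeometry Opposite TopologicalSpace TensorProduct

namespace Groth.Agent.Lib.SchDomBC

/-- The local form of schematic dominance on an affine open. -/
theorem hyp_of_dominant {X : Scheme.{u}} {ι : Type u} (Z : ι → Scheme.{u}) (f : ∀ i, Z i ⟶ X)
    (h : ∀ (V : X.Opens) (t : Γ(X, V)), (∀ i, (f i).app V t = 0) → t = 0)
    (U : X.Opens) (hU : IsAffineOpen U) (a x : Γ(X, U))
    (hx : ∀ (i : ι) (W : (Z i).Opens) (hW : IsAffineOpen W) (hle : W ≤ (f i) ⁻¹ᵁ U),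
      ∃ n : ℕ, (f i).appLE U W hle (a ^ n * x) = 0) :
    ∃ n : ℕ, a ^ n * x = 0 := by
  apply exists_pow_mul_eq_zero_of_res_basicOpen_eq_zero_of_isAffineOpen X hU x a
  have hDU : X.basicOpen a ≤ U := X.basicOpen_le a
  show X.presheaf.map (homOfLE hDU).op x = 0
  apply h (X.basicOpen a)
  intro i
  refine (Z i).IsSheaf.section_ext (U := op ((f i) ⁻¹ᵁ (X.basicOpen a))) ?_
  intro z hz
  obtain ⟨W, hW, hzW, hWD⟩ := Opens.isBasis_iff_nbhd.mp (Z i).isBasis_affineOpens hz
  refine ⟨W, hWD, hzW, ?_⟩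
  rw [map_zero]
  have hWU : W ≤ (f i) ⁻¹ᵁ U := hWD.trans ((Opens.map (f i).base).map (homOfLE hDU)).le
  obtain ⟨n, hn⟩ := hx i W hW hWU
  have e1 : X.presheaf.map (homOfLE hDU).op ≫ (f i).appLE (X.basicOpen a) W hWD =
      (f i).appLE U W hWU := (f i).map_appLE hWD (homOfLE hDU).op
  have ua : IsUnit (X.presheaf.map (homOfLE hDU).op a) := X.toRingedSpace.isUnit_res_basicOpen a
  have e2 : (f i).appLE (X.basicOpen a) W hWD (X.presheaf.map (homOfLE hDU).op (a ^ n * x)) = 0 := by
    rw [← e1] at hn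
    exact hn
  rw [map_mul, map_mul, map_pow, map_pow] at e2
  have ub : IsUnit (((f i).appLE (X.basicOpen a) W hWD (X.presheaf.map (homOfLE hDU).op a)) ^ n) :=
    (ua.map _).pow n
  have e3 := (ub.mul_right_eq_zero).mp e2
  exact e3

theorem main4875 {X X' : Scheme.{u}} {ι : Type u} (Z : ι → Scheme.{u})
    (f : ∀ i, Z i ⟶ X) (g : X' ⟶ X) [Flat g] [LocallyOfFinitePresentation g]
    (h : ∀ (V : X.Opens) (t : Γ(X, V)), (∀ i, (f i).app V t = 0) → t = 0) :
    ∀ (V : X'.Opens) (t : Γ(X', V)), (∀ i, (pullback.snd (f i) g).app V t = 0) → t = 0 := by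
  intro V' t ht
  refine X'.IsSheaf.section_ext (U := op V') ?_
  intro x' hx'
  obtain ⟨U, hU, hxU, -⟩ := Opens.isBasis_iff_nbhd.mp X.isBasis_affineOpens
    (Opens.mem_top (g.base x'))
  obtain ⟨W', hW', hxW, hWle⟩ := Opens.isBasis_iff_nbhd.mp X'.isBasis_affineOpens
    (show x' ∈ g ⁻¹ᵁ U ⊓ V' from ⟨hxU, hx'⟩)
  have hWU : W' ≤ g ⁻¹ᵁ U := hWle.trans inf_le_left
  have hWV : W' ≤ V' := hWle.trans inf_le_right
  refine ⟨W', hWV, hxW, ?_⟩
  rw [map_zero]
  letI algA' : Algebra Γ(X, U) Γ(X', W') := (g.appLE U W' hWU).hom.toAlgebra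
  haveI : Module.Flat Γ(X, U) Γ(X', W') :=
    HasRingHomProperty.appLE (P := @Flat) g inferInstance ⟨U, hU⟩ ⟨W', hW'⟩ hWU
  haveI : Algebra.FinitePresentation Γ(X, U) Γ(X', W') :=
    HasRingHomProperty.appLE (P := @LocallyOfFinitePresentation) g inferInstance ⟨U, hU⟩
      ⟨W', hW'⟩ hWU
  let Λ := Σ i : ι, {W : (Z i).Opens // IsAffineOpen W ∧ W ≤ (f i) ⁻¹ᵁ U}
  let C : Λ → Type u := fun l => Γ(Z l.1, l.2.1)
  letI instC : ∀ l : Λ, CommRing (C l) := fun l => inferInstance
  letI algC : ∀ l : Λ, Algebra Γ(X, U) (C l) :=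
    fun l => ((f l.1).appLE U l.2.1 l.2.2.2).hom.toAlgebra
  apply SchDomAlg.core (A := Γ(X, U)) (A' := Γ(X', W')) C
  · intro a x hx
    apply hyp_of_dominant Z f h U hU a x
    intro i W hW hle
    exact hx ⟨i, W, hW, hle⟩
  · rintro ⟨i, W, hW, hle⟩
    have H : IsPullback (pullback.fst (f i) g) (pullback.snd (f i) g) (f i) g :=
      IsPullback.of_hasPullback _ _
    have hiso := isIso_pushoutSection_of_isAffineOpen H hWU hle rfl hU hW' hW
    have hPO := (isIso_pushoutSection_iff H hWU hle rfl).mp hiso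
    letI algCW : Algebra Γ(X, U) Γ(Z i, W) := ((f i).appLE U W hle).hom.toAlgebra
    have hT := CommRingCat.isPushout_tensorProduct Γ(X, U) Γ(Z i, W) Γ(X', W')
    have hPO' : IsPushout (CommRingCat.ofHom (algebraMap Γ(X, U) Γ(Z i, W)))
        (CommRingCat.ofHom (algebraMap Γ(X, U) Γ(X', W')))
        ((pullback.fst (f i) g).appLE W (pullback.fst (f i) g ⁻¹ᵁ W ⊓ pullback.snd (f i) g ⁻¹ᵁ W')
          (by simp))
        ((pullback.snd (f i) g).appLE W' (pullback.fst (f i) g ⁻¹ᵁ W ⊓ pullback.snd (f i) g ⁻¹ᵁ W')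
          (by simp)) := hPO
    let e := hT.isoIsPushout _ _ hPO'
    have hinj : Function.Injective e.hom := (ConcreteCategory.bijective_of_isIso e.hom).1
    apply hinj
    rw [map_zero]
    have e1 := hT.inr_isoIsPushout_hom _ _ hPO'
    have e2 := congrArg (fun φ => φ.hom (X'.presheaf.map (homOfLE hWV).op t)) e1
    refine Eq.trans e2 ?_
    have e3 : X'.presheaf.map (homOfLE hWV).op ≫ (pullback.snd (f i) g).appLE W'
        (pullback.fst (f i) g ⁻¹ᵁ W ⊓ pullback.snd (f i) g ⁻¹ᵁ W') (by simp) =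
        (pullback.snd (f i) g).appLE V'
          (pullback.fst (f i) g ⁻¹ᵁ W ⊓ pullback.snd (f i) g ⁻¹ᵁ W')
          (inf_le_right.trans ((Opens.map (pullback.snd (f i) g).base).map (homOfLE hWV)).le) :=
      (pullback.snd (f i) g).map_appLE _ (homOfLE hWV).op
    have e4 := congrArg (fun φ => φ.hom t) e3
    refine Eq.trans e4 ?_
    show ((pullback.snd (f i) g).app V' ≫ (pullback (f i) g).presheaf.map _).hom t = 0
    rw [CommRingCat.hom_comp, RingHom.comp_apply]
    have := ht i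
    rw [show (CommRingCat.Hom.hom ((pullback.snd (f i) g).app V')) t = 0 from ht i, map_zero]

end Groth.Agent.Lib.SchDomBC
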