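import Groth.Statements.S3843
import Groth.Agent.Lib.SchDomBC_lead

/-! # Schematically dense opens and flat, locally finitely presented base change (lead) -/

set_option backward.isDefEq.respectTransparency false
set_option backward.isDefEq.respectTransparency.types false
set_option linter.unusedSimpArgs false
set_option linter.unusedVariables false
set_option linter.unusedSectionVars false
set_option linter.style.longLine false
set_option linter.style.haveILetI false
set_option linter.unnecessarySimpa false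
set_option maxHeartbeats 800000

universe u

open CategoryTheory CategoryTheory.Limits AlgebraicGeometry Opposite TopologicalSpace

namespace Groth.Agent.Lib.SchDenseBC

theorem main3843 {X X' : Scheme.{u}} (f : X' ⟶ X) [Flat f] [LocallyOfFinitePresentation f]
    (V : X.Opens) (hV : CInt.IsSchematicallyDense V) : CInt.IsSchematicallyDense (f ⁻¹ᵁ V) := by
  have h : ∀ (W : X.Opens) (t : Γ(X, W)),
      (∀ i : PUnit.{u+1}, ((fun _ : PUnit.{u+1} => V.ι) i).app W t = 0) → t = 0 := by
    intro W t ht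
    have h1 : X.presheaf.map
        (homOfLE (x := V.ι ''ᵁ V.ι ⁻¹ᵁ W) (Set.image_preimage_subset _ _)).op t = 0 :=
      ht PUnit.unit
    apply hV W
    rw [map_zero]
    have hle : W ⊓ V ≤ V.ι ''ᵁ V.ι ⁻¹ᵁ W := by
      intro x hx
      exact ⟨⟨x, hx.2⟩, hx.1, rfl⟩
    have h2 := congrArg (X.presheaf.map (homOfLE hle).op) h1
    rw [map_zero] at h2
    rw [← h2, ← CommRingCat.comp_apply, ← Functor.map_comp]
    rfl
  have key := SchDomBC.main4875 (fun _ : PUnit.{u+1} => (V : Scheme.{u})) (fun _ => V.ι) f h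
  intro W'
  rw [injective_iff_map_eq_zero]
  intro t' ht'
  apply key W' t'
  intro _
  have hjV : ∀ z, (pullback.snd V.ι f).base z ∈ f ⁻¹ᵁ V := by
    intro z
    have hw : pullback.fst V.ι f ≫ V.ι = pullback.snd V.ι f ≫ f := pullback.condition
    have h3 : V.ι.base ((pullback.fst V.ι f).base z) = f.base ((pullback.snd V.ι f).base z) :=
      congrArg (fun φ : pullback V.ι f ⟶ X => φ.base z) hw
    show f.base ((pullback.snd V.ι f).base z) ∈ V
    rw [← h3]
    exact ((pullback.fst V.ι f).base z).2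
  have k : (pullback.snd V.ι f) ⁻¹ᵁ W' ≤ (pullback.snd V.ι f) ⁻¹ᵁ (W' ⊓ f ⁻¹ᵁ V) :=
    fun z hz => ⟨hz, hjV z⟩
  have hr : ∀ s : Γ(pullback V.ι f, (pullback.snd V.ι f) ⁻¹ᵁ W'),
      (pullback V.ι f).presheaf.map (homOfLE k).op
        ((pullback V.ι f).presheaf.map ((Opens.map (pullback.snd V.ι f).base).map
          (homOfLE (inf_le_left : W' ⊓ f ⁻¹ᵁ V ≤ W'))).op s) = s := by
    intro s
    rw [← CommRingCat.comp_apply, ← Functor.map_comp]
    have : ((Opens.map (pullback.snd V.ι f).base).map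
        (homOfLE (inf_le_left : W' ⊓ f ⁻¹ᵁ V ≤ W'))).op ≫ (homOfLE k).op = 𝟙 _ :=
      Subsingleton.elim _ _
    rw [this, CategoryTheory.Functor.map_id]
    rfl
  rw [← hr ((pullback.snd V.ι f).app W' t')]
  have nat' := congrArg (fun φ => φ.hom t')
    ((pullback.snd V.ι f).naturality (homOfLE (inf_le_left : W' ⊓ f ⁻¹ᵁ V ≤ W')).op)
  have e2 : (pullback V.ι f).presheaf.map ((Opens.map (pullback.snd V.ι f).base).map
      (homOfLE (inf_le_left : W' ⊓ f ⁻¹ᵁ V ≤ W'))).op ((pullback.snd V.ι f).app W' t') =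
      (pullback.snd V.ι f).app (W' ⊓ f ⁻¹ᵁ V)
        (X'.presheaf.map (homOfLE (inf_le_left : W' ⊓ f ⁻¹ᵁ V ≤ W')).op t') := nat'.symm
  rw [e2, ht', map_zero, map_zero]

end Groth.Agent.Lib.SchDenseBC
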