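import Groth.Statements.S9968
import Groth.Agent.Lib.SchDenseBC_lead
import Groth.Agent.Lib.ClosedDescent_helper7

/-! # Chart independence of schematic density for algebraic spaces (lead) -/

set_option backward.isDefEq.respectTransparency false
set_option backward.isDefEq.respectTransparency.types false
set_option linter.unusedSimpArgs false
set_option linter.unusedVariables false
set_option linter.unusedSectionVars false
set_option linter.style.longLine false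
set_option linter.style.haveILetI false
set_option linter.unnecessarySimpa false
set_option maxHeartbeats 800000

universe u

open CategoryTheory CategoryTheory.Limits AlgebraicGeometry Opposite TopologicalSpace

namespace Groth.Agent.Lib.AlgSpSchDense

open AlgSp

/-- descent of schematic density along a flat surjective morphism -/
theorem schDense_of_preimage {P V : Scheme.{u}} (g : P ⟶ V) [Flat g] [Surjective g] (W : V.Opens)
    (h : CInt.IsSchematicallyDense (g ⁻¹ᵁ W)) : CInt.IsSchematicallyDense W := by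
  intro V'
  rw [injective_iff_map_eq_zero]
  intro t ht
  apply Groth.Agent.Lib.ClosedDescent_helper7.app_injective_of_flat_surjective g V'
  rw [map_zero]
  apply h (g ⁻¹ᵁ V')
  rw [map_zero]
  have nat := g.naturality (homOfLE (inf_le_left : V' ⊓ W ≤ V')).op
  have e1 := congrArg (fun φ => φ.hom t) nat
  have e2 : (g.app (V' ⊓ W)).hom ((V.presheaf.map (homOfLE (inf_le_left : V' ⊓ W ≤ V')).op).hom t) = 0 := by
    have : (V.presheaf.map (homOfLE (inf_le_left : V' ⊓ W ≤ V')).op).hom t = 0 := ht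
    rw [this, map_zero]
  exact e1.symm.trans e2

variable {S : Scheme.{u}}

theorem exists_lift_of_range_subset {F G : Sp S} (j : G ⟶ F) {V : Over S}
    (φ : (yon S).obj V ⟶ F)
    (W : V.left.Opens) (fst : (yon S).obj (Over.mk (W.ι ≫ V.hom)) ⟶ G)
    (sq : IsPullback fst ((yon S).map (Over.homMk W.ι rfl : Over.mk (W.ι ≫ V.hom) ⟶ V)) j φ)
    {T : Over S} (t : T ⟶ V) (ht : Set.range t.left ⊆ (W : Set V.left)) :
    ∃ ℓ : (yon S).obj T ⟶ G, ℓ ≫ j = (yon S).map t ≫ φ := by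
  have hr : Set.range t.left ⊆ Set.range W.ι := by rw [Scheme.Opens.range_ι]; exact ht
  let t' : T.left ⟶ (W : Scheme) := IsOpenImmersion.lift W.ι t.left hr
  have ht' : t' ≫ W.ι = t.left := IsOpenImmersion.lift_fac _ _ _
  let m : T ⟶ Over.mk (W.ι ≫ V.hom) := Over.homMk t' (by
    show t' ≫ W.ι ≫ V.hom = T.hom
    rw [← Category.assoc, ht', Over.w])
  have hm : m ≫ (Over.homMk W.ι rfl : Over.mk (W.ι ≫ V.hom) ⟶ V) = t := by
    ext; exact ht'
  refine ⟨(yon S).map m ≫ fst, ?_⟩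
  rw [Category.assoc, sq.w, ← Category.assoc, ← Functor.map_comp, hm]

theorem range_subset_of_exists_lift {F G : Sp S} (j : G ⟶ F) {V : Over S}
    (φ : (yon S).obj V ⟶ F)
    (W : V.left.Opens) (fst : (yon S).obj (Over.mk (W.ι ≫ V.hom)) ⟶ G)
    (sq : IsPullback fst ((yon S).map (Over.homMk W.ι rfl : Over.mk (W.ι ≫ V.hom) ⟶ V)) j φ)
    {T : Over S} (t : T ⟶ V) (ℓ : (yon S).obj T ⟶ G) (hℓ : ℓ ≫ j = (yon S).map t ≫ φ) :
    Set.range t.left ⊆ (W : Set V.left) := by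
  let m : T ⟶ Over.mk (W.ι ≫ V.hom) := (yon S).preimage (sq.lift ℓ ((yon S).map t) hℓ)
  have hm : m ≫ (Over.homMk W.ι rfl : Over.mk (W.ι ≫ V.hom) ⟶ V) = t := by
    apply (yon S).map_injective
    rw [Functor.map_comp, Functor.map_preimage, sq.lift_snd]
  rintro _ ⟨x, rfl⟩
  have h1 : t.left = m.left ≫ W.ι := by rw [← hm]; rfl
  rw [h1, Scheme.Hom.comp_apply]
  have h2 : ∀ y : (W : Scheme), W.ι y ∈ W := fun y => by
    rw [Scheme.Opens.ι_apply]; exact y.2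
  exact h2 _

theorem preimage_le {F G : Sp S} (j : G ⟶ F)
    {Va : Over S} (φa : (yon S).obj Va ⟶ F) (Wa : Va.left.Opens)
    (fsta : (yon S).obj (Over.mk (Wa.ι ≫ Va.hom)) ⟶ G)
    (sqa : IsPullback fsta ((yon S).map (Over.homMk Wa.ι rfl : Over.mk (Wa.ι ≫ Va.hom) ⟶ Va)) j φa)
    {Vb : Over S} (φb : (yon S).obj Vb ⟶ F) (Wb : Vb.left.Opens)
    (fstb : (yon S).obj (Over.mk (Wb.ι ≫ Vb.hom)) ⟶ G)
    (sqb : IsPullback fstb ((yon S).map (Over.homMk Wb.ι rfl : Over.mk (Wb.ι ≫ Vb.hom) ⟶ Vb)) j φb)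
    {P : Over S} (pa : P ⟶ Va) (pb : P ⟶ Vb)
    (hP : (yon S).map pa ≫ φa = (yon S).map pb ≫ φb) :
    pa.left ⁻¹ᵁ Wa ≤ pb.left ⁻¹ᵁ Wb := by
  let T : Over S := Over.mk ((pa.left ⁻¹ᵁ Wa).ι ≫ P.hom)
  let ι₂ : T ⟶ P := Over.homMk (pa.left ⁻¹ᵁ Wa).ι rfl
  have h1 : Set.range (ι₂ ≫ pa).left ⊆ (Wa : Set Va.left) := by
    rintro _ ⟨x, rfl⟩
    show ((pa.left ⁻¹ᵁ Wa).ι ≫ pa.left) x ∈ Wa
    rw [Scheme.Hom.comp_apply, Scheme.Opens.ι_apply]
    exact x.2
  obtain ⟨ℓ, hℓ⟩ := exists_lift_of_range_subset j φa Wa fsta sqa (ι₂ ≫ pa) h1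
  have hℓ' : ℓ ≫ j = (yon S).map (ι₂ ≫ pb) ≫ φb := by
    rw [hℓ, Functor.map_comp, Category.assoc, hP, ← Category.assoc, ← Functor.map_comp]
  have h2 := range_subset_of_exists_lift j φb Wb fstb sqb (ι₂ ≫ pb) ℓ hℓ'
  intro x hx
  have h3 : ((pa.left ⁻¹ᵁ Wa).ι ≫ pb.left) ⟨x, hx⟩ ∈ Wb := h2 ⟨⟨x, hx⟩, rfl⟩
  rw [Scheme.Hom.comp_apply, Scheme.Opens.ι_apply] at h3
  exact h3

theorem main9968 {U X : AlgSp.Space S} (j : U ⟶ X)
    (hj : AlgSp.IsSchDense j.hom) (V : Over S) (φ : (AlgSp.yon S).obj V ⟶ X.obj)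
    (hφ : AlgSp.RepWith @Etale φ)
    (W : V.left.Opens) (fst : (AlgSp.yon S).obj (Over.mk (W.ι ≫ V.hom)) ⟶ U.obj)
    (sq : IsPullback fst ((AlgSp.yon S).map (Over.homMk W.ι rfl : Over.mk (W.ι ≫ V.hom) ⟶ V))
      j.hom φ) :
    CInt.IsSchematicallyDense W := by
  obtain ⟨-, V₁, φ₁, W₁, fst₁, hφ₁e, hφ₁s, sq₁, hd₁⟩ := hj
  have hrep : Representable φ₁ := hφ₁e.1
  let P := hrep.pullback φ
  let snd : P ⟶ V := hrep.snd φ
  let fstP : (yon S).obj P ⟶ (yon S).obj V₁ := hrep.fst φ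
  have sqP : IsPullback fstP ((yon S).map snd) φ₁ φ := hrep.isPullback φ
  let pr₁ : P ⟶ V₁ := (yon S).preimage fstP
  have hpr₁ : (yon S).map pr₁ = fstP := Functor.map_preimage _ _
  have hsnd_et : Etale snd.left := hφ₁e.2 φ fstP snd sqP
  have hsnd_surj : Surjective snd.left := hφ₁s.2 φ fstP snd sqP
  have hpr_et : Etale pr₁.left := hφ.2 φ₁ ((yon S).map snd) pr₁ (by rw [hpr₁]; exact sqP.flip)
  have hcomm : (yon S).map pr₁ ≫ φ₁ = (yon S).map snd ≫ φ := by rw [hpr₁]; exact sqP.w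
  have heq : pr₁.left ⁻¹ᵁ W₁ = snd.left ⁻¹ᵁ W :=
    le_antisymm (preimage_le j.hom φ₁ W₁ fst₁ sq₁ φ W fst sq pr₁ snd hcomm)
      (preimage_le j.hom φ W fst sq φ₁ W₁ fst₁ sq₁ snd pr₁ hcomm.symm)
  haveI : Flat pr₁.left := inferInstance
  haveI : LocallyOfFinitePresentation pr₁.left := inferInstance
  have hd₂ : CInt.IsSchematicallyDense (pr₁.left ⁻¹ᵁ W₁) :=
    Groth.Agent.Lib.SchDenseBC.main3843 pr₁.left W₁ hd₁
  rw [heq] at hd₂
  haveI : Flat snd.left := inferInstance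
  exact schDense_of_preimage snd.left W hd₂

end Groth.Agent.Lib.AlgSpSchDense
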