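import Groth.Agent.Lib.AlgSpClosedPt2_helper6

/-!
# Sections of decent spaces over a field are closed immersions (helper6)

If `X` is a decent algebraic space with a morphism `π : X ⟶ Spec k` (`k` a field, `Spec k` a scheme
over the base `S`) and `e'` is a section of `π`, then `e'` is a closed immersion.
-/

set_option autoImplicit false
universe u
open CategoryTheory CategoryTheory.Limits AlgebraicGeometry Opposite TopologicalSpace

namespace Groth.Agent.Lib.AlgSpSectionH6

open AlgSp Groth.Agent.Lib.AlgSpPoints_helper7 Groth.Agent.Lib.AlgSpQC_helper7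
  Groth.Agent.Lib.AlgSpPullback_helper7 Groth.Agent.Lib.AlgSpBasic_helper7
  Groth.Agent.Lib.AlgSpEtale_helper7 Groth.Agent.Lib.AlgSpDescent_helper7
  Groth.Agent.Lib.AlgSpDescent2_helper7 Groth.Agent.Lib.AlgSpFibre_helper6
  Groth.Agent.Lib.AlgSpPointSp2_helper6 Groth.Agent.Lib.AlgSpGeneriz_helper6
  Groth.Agent.Lib.AlgSpDecent3_helper6 Groth.Agent.Lib.AlgSpClosedPt_helper6
  Groth.Agent.Lib.AlgSpClosedPt2_helper6

variable {S : Scheme.{u}}

/-- The point given by a section of a morphism from a decent space to the spectrum of a field is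
closed. -/
theorem isClosed_singleton_ofPt_of_section {X : Sp S} (hX : IsAlgSpace X) (hd : IsDecent X)
    (k : Type u) [Field k] (σ₀ : Spec (CommRingCat.of k) ⟶ S)
    (e' : (yon S).obj (Over.mk σ₀) ⟶ X) (π : X ⟶ (yon S).obj (Over.mk σ₀)) (he : e' ≫ π = 𝟙 _)
    (t : ↥(Spec (CommRingCat.of k))) :
    IsClosed ({Points.ofPt e' t} : Set (Points X)) := by
  refine isClosed_of_closure_subset fun x' hx' => ?_
  have hsp : Points.ofPt e' t ⤳ x' := specializes_iff_mem_closure.2 hx'
  obtain ⟨U0, a0, hae0, has0⟩ := hX.atlas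
  obtain ⟨u0, hu0⟩ := ofPt_surjective a0 has0 x'
  let 𝒰 := U0.left.affineCover
  let i := 𝒰.idx u0
  obtain ⟨u', hu'⟩ := 𝒰.covers u0
  let U : Over S := Over.mk (𝒰.f i ≫ U0.hom)
  let c : U ⟶ U0 := Over.homMk (𝒰.f i) rfl
  have hc : RepWith @Etale ((yon S).map c) := by
    rw [repWith_yon_map_iff]
    change Etale (𝒰.f i)
    infer_instance
  let a : (yon S).obj U ⟶ X := (yon S).map c ≫ a0
  have hae : RepWith @Etale a := repWith_comp _ hc hae0
  have e0 : Points.ofPt a u' = x' := by
    change Points.ofPt ((yon S).map c ≫ a0) u' = x'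
    rw [ofPt_comp]; change Points.ofPt a0 ((𝒰.f i) u') = x'; rw [hu', hu0]
  haveI : IsAffine U.left := by
    change IsAffine (𝒰.X i)
    infer_instance
  obtain ⟨p₀, hp₀, -, hq₀⟩ := hd (Points.ofPt e' t)
  obtain ⟨u, hu1, hu2⟩ := exists_specializes_lift x' (Points.ofPt e' t) hsp p₀ hp₀ hq₀ a hae u' e0
  have R := hae.rep
  let ρ := R.fst' e'
  let σ := R.snd e'
  have sq : IsPullback ((yon S).map ρ) ((yon S).map σ) a e' := R.isPullback' e'
  let F : Scheme.{u} := (R.pullback e').left
  let σ' : F ⟶ Spec (CommRingCat.of k) := σ.left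
  let ρ' : F ⟶ U.left := ρ.left
  haveI hσ : Etale σ' := by
    have h1 : RepWith @Etale ((yon S).map σ) := repWith_snd_of_isPullback _ sq hae
    exact (repWith_yon_map_iff _ _).1 h1
  obtain ⟨w, hw1, hw2⟩ := exists_ofPt_eq_of_isPullback sq u t hu2
  let w' : ↥F := w
  let q : Spec (F.residueField w') ⟶ U.left := F.fromSpecResidueField w' ≫ ρ'
  haveI : IsFinite (F.fromSpecResidueField w' ≫ σ') :=
    isFinite_fromSpecResidueField_comp_of_etale_field σ' w'
  obtain ⟨πU, hπU⟩ : ∃ πU : U ⟶ Over.mk σ₀, (yon S).map πU = a ≫ π :=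
    ⟨(yon S).preimage (a ≫ π), (yon S).map_preimage _⟩
  have hρσ : ρ ≫ πU = σ := by
    apply (yon S).map_injective
    rw [Functor.map_comp, hπU, ← Category.assoc, sq.w, Category.assoc, he, Category.comp_id]
  let πU' : U.left ⟶ Spec (CommRingCat.of k) := πU.left
  have hρσ' : ρ' ≫ πU' = σ' := congrArg (fun m => m.left) hρσ
  have e : q ≫ πU' = F.fromSpecResidueField w' ≫ σ' := by
    change (F.fromSpecResidueField w' ≫ ρ') ≫ πU' = _
    rw [Category.assoc, hρσ']
  haveI : UniversallyClosed (q ≫ πU') := by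
    rw [e]; infer_instance
  haveI : UniversallyClosed q := UniversallyClosed.of_comp_of_isSeparated q πU'
  have hr : Set.range q = {u} := by
    change Set.range (F.fromSpecResidueField w' ≫ ρ') = {u}
    rw [Scheme.Hom.comp_base, TopCat.coe_comp, Set.range_comp, Scheme.range_fromSpecResidueField,
      Set.image_singleton]
    exact congrArg _ hw1
  have hcl : IsClosed ({u} : Set ↥U.left) := by
    rw [← hr]; exact q.isClosedMap.isClosed_range
  have huu : u' = u := hu1.mem_closed hcl (Set.mem_singleton u)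
  change x' = Points.ofPt e' t
  rw [← e0, huu, hu2]

/-- A section of a morphism from a decent algebraic space to the spectrum of a field is a closed
immersion. -/
theorem repWith_isClosedImmersion_of_section {X : Sp S} (hX : IsAlgSpace X) (hd : IsDecent X)
    (k : Type u) [Field k] (σ₀ : Spec (CommRingCat.of k) ⟶ S)
    (e' : (yon S).obj (Over.mk σ₀) ⟶ X) (π : X ⟶ (yon S).obj (Over.mk σ₀)) (he : e' ≫ π = 𝟙 _) :
    RepWith @IsClosedImmersion e' := by
  let t : ↥(Spec (CommRingCat.of k)) := IsLocalRing.closedPoint k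
  have hcl := isClosed_singleton_ofPt_of_section hX hd k σ₀ e' π he t
  obtain ⟨p', hp', hpm, hpc⟩ := repWith_isClosedImmersion_of_isClosed' hX hd _ hcl
  have hmk : Points.mk (ofHom e') = Points.mk p' := by
    rw [hp']
    have h := Points.ofPt_toHom (ofHom e') t
    rw [toHom_ofHom] at h
    exact h.symm
  obtain ⟨c, hc⟩ : ∃ c : Over.mk σ₀ ⟶ p'.pt, (yon S).map c ≫ p'.toHom = e' := by
    obtain ⟨c, hc⟩ := exists_factor_of_mono p' (ofHom e') hpm hpc.1 hmk
    rw [toHom_ofHom] at hc
    exact ⟨c, hc⟩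
  obtain ⟨n, hn⟩ : ∃ n : p'.pt ⟶ Over.mk σ₀, (yon S).map n = p'.toHom ≫ π :=
    ⟨(yon S).preimage _, (yon S).map_preimage _⟩
  have hcn : c ≫ n = 𝟙 _ := by
    apply (yon S).map_injective
    rw [Functor.map_comp, hn, ← Category.assoc, hc, he, (yon S).map_id]
  let c' : Spec (CommRingCat.of k) ⟶ Spec (CommRingCat.of p'.K) := c.left
  let n' : Spec (CommRingCat.of p'.K) ⟶ Spec (CommRingCat.of k) := n.left
  have hcn' : c' ≫ n' = 𝟙 _ := congrArg (fun m => m.left) hcn
  haveI : IsClosedImmersion (c' ≫ n') := by rw [hcn']; infer_instance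
  have hcc : IsClosedImmersion c' := IsClosedImmersion.of_comp c' n'
  rw [← hc]
  exact repWith_comp _ ((repWith_yon_map_iff _ _).2 hcc) hpc

end Groth.Agent.Lib.AlgSpSectionH6
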