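import Groth.Agent.Lib.SchLqfDiag_helper7
import Groth.Agent.Lib.AlgSpUnram_helper7
import Groth.Agent.Lib.AlgSpLocP8_helper7

/-!
# Properties of `X ⟶ B` from the second projection `X ×_B X ⟶ X` (helper7)
-/

set_option autoImplicit false
universe u
open CategoryTheory CategoryTheory.Limits AlgebraicGeometry Opposite

namespace Groth.Agent.Lib.AlgSpSelfProdH7

open AlgSp Groth.Agent.Lib.AlgSpQC2_helper7 Groth.Agent.Lib.AlgSpPoints_helper7
  Groth.Agent.Lib.AlgSpPullback_helper7 Groth.Agent.Lib.AlgSpDiag_helper7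
  Groth.Agent.Lib.AlgSpQC_helper7 Groth.Agent.Lib.AlgSpLocP4_helper7
  Groth.Agent.Lib.AlgSpLocP_helper7 Groth.Agent.Lib.AlgSpLocP7_helper7
  Groth.Agent.Lib.AlgSpUnram_helper7 Groth.Agent.Lib.SchLqfDiagH7
  Groth.Agent.Lib.AlgSpEtale_helper7

variable {S : Scheme.{u}}

/-- If `f : X ⟶ B` is locally of finite type, `P` is étale local on source-and-target, and `P` of
the second projection of the self fibre product of a morphism of schemes locally of finite type
implies `P` of the morphism, then `P` of `X ×_B X ⟶ X` implies `P` of `f`. -/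
theorem locP_of_locP_snd (P : MorphismProperty Scheme.{u}) [P.IsStableUnderBaseChange]
    [P.IsStableUnderComposition] (hP : EtLocal P)
    (hL : ∀ ⦃U V W : Scheme.{u}⦄ (h : U ⟶ V) (p₁ p₂ : W ⟶ U), LocallyOfFiniteType h →
      IsPullback p₁ p₂ h h → P p₂ → P h)
    {X B : Sp S} (hX : IsAlgSpace X) (hB : IsAlgSpace B) (f : X ⟶ B)
    (hlft : LocP @LocallyOfFiniteType f) (hsnd : LocP P (pullback.snd f f)) : LocP P f := by
  obtain ⟨V, b, hbe, hbs⟩ := hB.atlas
  have sqXV := IsPullback.of_hasPullback f b
  have hXV : IsAlgSpace (pullback f b) :=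
    isAlgSpace_of_isPullback hB.diag hX (IsAlgSpace.yon_obj V) sqXV
  obtain ⟨U, a', ha'e, ha's⟩ := hXV.atlas
  obtain ⟨k, hk⟩ := (yon S).map_surjective (a' ≫ pullback.snd f b)
  obtain ⟨a, ha⟩ : ∃ a : (yon S).obj U ⟶ X, a = a' ≫ pullback.fst f b := ⟨_, rfl⟩
  have hae : RepWith @Etale a := by
    rw [ha]
    exact repWith_comp _ ha'e (repWith_fst_of_isPullback _ sqXV hbe)
  have has : RepWith @Surjective a := by
    rw [ha]
    exact repWith_comp _ ha's (repWith_fst_of_isPullback _ sqXV hbs)
  have comm : a ≫ f = (yon S).map k ≫ b := by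
    rw [ha, hk, Category.assoc, Category.assoc, pullback.condition]
  have hlftk : LocallyOfFiniteType k.left := hlft a b k hae hbe comm
  refine locP_of_one_chart hP f a b k hae has hbe comm ?_
  have sqO := IsPullback.of_hasPullback k k
  have sqO' : IsPullback (pullback.fst k k).left (pullback.snd k k).left k.left k.left :=
    sqO.map (Over.forget S)
  have sqY : IsPullback ((yon S).map (pullback.fst k k)) ((yon S).map (pullback.snd k k))
      ((yon S).map k) ((yon S).map k) := sqO.map (yon S)
  refine hL k.left _ _ hlftk sqO' ?_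
  -- the étale chart of `X ×_B X`
  have hw : ((yon S).map (pullback.fst k k) ≫ a) ≫ f = ((yon S).map (pullback.snd k k) ≫ a) ≫ f := by
    rw [Category.assoc, Category.assoc, comm, ← Category.assoc, ← Category.assoc, sqY.w]
  obtain ⟨c', hc'1, hc'2⟩ : ∃ c' : (yon S).obj (pullback k k) ⟶ pullback f f,
      c' ≫ pullback.fst f f = (yon S).map (pullback.fst k k) ≫ a ∧
      c' ≫ pullback.snd f f = (yon S).map (pullback.snd k k) ≫ a :=
    ⟨pullback.lift _ _ hw, pullback.lift_fst _ _ _, pullback.lift_snd _ _ _⟩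
  refine hsnd c' a (pullback.snd k k) ?_ hae hc'2
  -- étaleness of the chart
  have hunr : LocP (@LocallyOfFiniteType ⊓ @FormallyUnramified) b :=
    locP_of_repWith _ (fun _ _ g hg => by
        haveI : Etale g := hg
        exact ⟨inferInstance, inferInstance⟩) b
      (repWith_mono (fun _ _ g hg => by
        haveI : Etale g := hg
        exact ⟨inferInstance, inferInstance⟩) hbe)
  have hΔb : RepWith @Etale (pullback.diagonal b) :=
    repWith_mono (fun _ _ g hg => by
        haveI : IsOpenImmersion g := hg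
        exact (inferInstance : Etale g))
      (repWith_isOpenImmersion_diagonal (IsAlgSpace.yon_obj V) hB b hunr)
  have hm₁ : RepWith @Etale (pullback.map ((yon S).map k) ((yon S).map k) ((yon S).map k ≫ b)
      ((yon S).map k ≫ b) (𝟙 _) (𝟙 _) b (Category.id_comp _).symm (Category.id_comp _).symm) :=
    repWith_snd_of_isPullback _
      (pullback_map_diagonal_isPullback ((yon S).map k) ((yon S).map k) b) hΔb
  have hm₂ := MorphismProperty.pullbackMap (P := RepWith (S := S) @Etale)
    (f := (yon S).map k ≫ b) (g := (yon S).map k ≫ b) (f' := f) (g' := f) (i₁ := a) (i₂ := a)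
    hae hae comm.symm comm.symm
  have e : c' = sqY.isoPullback.hom ≫
      pullback.map ((yon S).map k) ((yon S).map k) ((yon S).map k ≫ b)
        ((yon S).map k ≫ b) (𝟙 _) (𝟙 _) b (Category.id_comp _).symm (Category.id_comp _).symm ≫
      pullback.map ((yon S).map k ≫ b) ((yon S).map k ≫ b) f f a a (𝟙 _)
        ((Category.comp_id _).trans comm.symm) ((Category.comp_id _).trans comm.symm) := by
    apply pullback.hom_ext
    · rw [hc'1]
      simp only [Category.assoc, pullback.lift_fst, pullback.lift_fst_assoc, Category.comp_id]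
      rw [← Category.assoc, sqY.isoPullback_hom_fst]
    · rw [hc'2]
      simp only [Category.assoc, pullback.lift_snd, pullback.lift_snd_assoc, Category.comp_id]
      rw [← Category.assoc, sqY.isoPullback_hom_snd]
  rw [e]
  exact repWith_comp _ (Groth.Agent.Lib.AlgSpBasic_helper7.repWith_of_isIso @Etale _)
    (repWith_comp _ hm₁ hm₂)

theorem locP_unramified_of_locP_snd {X B : Sp S} (hX : IsAlgSpace X) (hB : IsAlgSpace B)
    (f : X ⟶ B) (hlft : LocP @LocallyOfFiniteType f)
    (hsnd : LocP (@LocallyOfFiniteType ⊓ @FormallyUnramified) (pullback.snd f f)) :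
    LocP (@LocallyOfFiniteType ⊓ @FormallyUnramified) f :=
  locP_of_locP_snd _ etLocal_unramified
    (fun _ _ _ h _ _ hh sq hp => by
      haveI := hh
      exact ⟨hh, formallyUnramified_of_isPullback h sq hp.2⟩) hX hB f hlft hsnd

theorem locP_lqf_of_locP_snd {X B : Sp S} (hX : IsAlgSpace X) (hB : IsAlgSpace B)
    (f : X ⟶ B) (hlft : LocP @LocallyOfFiniteType f)
    (hsnd : LocP (@LocallyQuasiFinite ⊓ @LocallyOfFiniteType) (pullback.snd f f)) :
    LocP (@LocallyQuasiFinite ⊓ @LocallyOfFiniteType) f :=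
  locP_of_locP_snd _ etLocal_locallyQuasiFinite
    (fun _ _ _ h _ _ hh sq hp => by
      haveI := hh
      exact ⟨lqf_of_isPullback h sq hp.1, hh⟩) hX hB f hlft hsnd

end Groth.Agent.Lib.AlgSpSelfProdH7
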