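import Mathlib
import Groth.Prelude.Def_Flat
import Groth.Prelude.Def_AlgSpDec
import Groth.Agent.Lib.EtDim2_helper8
import Groth.Agent.Lib.ResTrdeg3_helper8

universe u
open AlgebraicGeometry CategoryTheory CategoryTheory.Limits
open AlgSp
open Groth.Agent.Lib.AlgSpReduced_helper7 Groth.Agent.Lib.AlgSpPoints_helper7

namespace LocDimEtH8

/-- The local dimension of a scheme at a point is invariant under étale morphisms. -/
theorem localDim_etale {W U : Scheme.{u}} (p : W ⟶ U) [Etale p] (w : W) :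
    FlatMor.localDim ↥W w = FlatMor.localDim ↥U (p w) := by
  unfold FlatMor.localDim
  apply le_antisymm
  · refine le_iInf fun U' => ?_
    refine (iInf_le _ ⟨p ⁻¹ᵁ U'.1, U'.2⟩).trans ?_
    rw [EtDimH8.topDim_open_eq_iSup, EtDimH8.topDim_open_eq_iSup]
    refine iSup_le fun w' => ?_
    rw [← EtDimH8.coheight_eq_of_etale p (w' : W)]
    exact le_iSup (fun v : ↥(U'.1 : Set ↥U) => ((Order.coheight (v : U) : ℕ∞) : WithBot ℕ∞))
      ⟨p w'.1, w'.2⟩
  · refine le_iInf fun W' => ?_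
    have hopen : IsOpen (p '' (W'.1 : Set ↥W)) := p.isOpenMap _ W'.1.2
    have h1 : (⨅ V : {V : TopologicalSpace.Opens ↥U // p w ∈ V},
        topologicalKrullDim ↥(V.1 : Set ↥U)) ≤
        topologicalKrullDim ↥(p '' (W'.1 : Set ↥W)) :=
      iInf_le (fun V : {V : TopologicalSpace.Opens ↥U // p w ∈ V} =>
        topologicalKrullDim ↥(V.1 : Set ↥U)) ⟨⟨p '' (W'.1 : Set ↥W), hopen⟩, ⟨w, W'.2, rfl⟩⟩
    refine h1.trans ?_
    have h2 := EtDimH8.topDim_open_eq_iSup U ⟨p '' (W'.1 : Set ↥W), hopen⟩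
    simp only [TopologicalSpace.Opens.coe_mk] at h2
    rw [h2, EtDimH8.topDim_open_eq_iSup]
    refine iSup_le fun v => ?_
    obtain ⟨w', hw'W, hw'v⟩ := v.2
    rw [← hw'v, EtDimH8.coheight_eq_of_etale p w']
    exact le_iSup (fun w : ↥(W'.1 : Set ↥W) => ((Order.coheight (w : W) : ℕ∞) : WithBot ℕ∞))
      ⟨w', hw'W⟩

variable {S : Scheme.{u}}

/-- Chart independence of the local dimension. -/
theorem localDim_chart_indep {F : Sp S} {U U' : Over S} (a : (yon S).obj U ⟶ F)
    (a' : (yon S).obj U' ⟶ F) (hae : RepWith @Etale a) (ha'e : RepWith @Etale a') (u : ↥U.left)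
    (u' : ↥U'.left) (hpt : Points.ofPt a u = Points.ofPt a' u') :
    FlatMor.localDim ↥U.left u = FlatMor.localDim ↥U'.left u' := by
  have sqW := hae.rep.isPullback' a'
  haveI e2 : Etale (hae.rep.snd a').left := hae.property_snd a'
  haveI e1 : Etale (hae.rep.fst' a').left := ha'e.property _ _ _ sqW.flip
  obtain ⟨w, hw1, hw2⟩ := exists_ofPt_eq_of_isPullback sqW u u' hpt
  rw [← hw1, ← hw2, ← localDim_etale, ← localDim_etale]

end LocDimEtH8
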