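import Mathlib
import Groth.Agent.Lib.RelDim2Old_helper8
import Groth.Agent.Lib.EtDim2_helper8

universe u
open AlgebraicGeometry CategoryTheory

namespace RelDimLocH8

variable {X Y : Scheme.{u}} (f : X ⟶ Y)

/-- Flat dimension formula at the level of schemes. -/
theorem flat_stalk_dim_add [IsLocallyNoetherian Y] [LocallyOfFiniteType f] [Flat f] (x : X) :
    ringKrullDim (X.presheaf.stalk x) = ringKrullDim (Y.presheaf.stalk (f x)) +
      ringKrullDim ((f.fiber (f x)).presheaf.stalk (f.asFiber x)) := by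
  apply le_antisymm (Groth.Agent.FibStalkDimH8.main f x)
  obtain ⟨x₀, h1, -, h3, h4⟩ := Groth.Agent.FibChainH8.exists_generic_in_fiber f x
  have h5 := Groth.Agent.FlatFibDimH8.flat_stalk_dim_eq f x₀ h3
  have h6 : ringKrullDim (Y.presheaf.stalk (f x₀)) = ringKrullDim (Y.presheaf.stalk (f x)) := by
    rw [h1]
  rw [h5, h6] at h4
  exact h4

/-- `dim 𝒪_{X,x'} ≤ dim 𝒪_{Y,f x'} + d` when all fibres are equidimensional of dimension `d`. -/
theorem stalk_dim_le_add [IsLocallyNoetherian Y] [LocallyOfFiniteType f] [Flat f] (d : ℕ)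
    (hd : ∀ y : Y, ∀ T ∈ irreducibleComponents ↥(f.fiber y), topologicalKrullDim T = d) (x' : X) :
    ringKrullDim (X.presheaf.stalk x') ≤ ringKrullDim (Y.presheaf.stalk (f x')) + d := by
  rw [flat_stalk_dim_add f x']
  gcongr
  exact stalk_dim_fiber_le f (f x') d (hd (f x')) (f.asFiber x')

/-- Every point of an open `U` has, in its fibre, a point of `U` where the local ring of `X` has
dimension `dim 𝒪_{Y,y} + d`. -/
theorem exists_stalk_dim_eq_add [IsLocallyNoetherian Y] [LocallyOfFiniteType f] [Flat f] (d : ℕ)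
    (hd : ∀ y : Y, ∀ T ∈ irreducibleComponents ↥(f.fiber y), topologicalKrullDim T = d)
    (U : TopologicalSpace.Opens X) (x'' : X) (hx'' : x'' ∈ U) :
    ∃ x' ∈ U, f x' = f x'' ∧
      ringKrullDim (X.presheaf.stalk x') = ringKrullDim (Y.presheaf.stalk (f x'')) + d := by
  set F := f.fiber (f x'') with hF
  have hopen : IsOpen ((f.fiberι (f x'')) ⁻¹' (U : Set X)) :=
    U.2.preimage (f.fiberι (f x'')).continuous
  have hne : ((f.fiberι (f x'')) ⁻¹' (U : Set X)).Nonempty :=
    ⟨f.asFiber x'', by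
      change (f.fiberι (f x'')) (f.asFiber x'') ∈ (U : Set X)
      rw [Scheme.Hom.fiberι_asFiber]; exact hx''⟩
  obtain ⟨z', hz'U, hz'cl⟩ := nonempty_inter_closedPoints hne hopen.isLocallyClosed
  have hcl : IsClosed ({z'} : Set ↥(f.fiber (f x''))) := hz'cl
  have hfx' : f ((f.fiberι (f x'')) z') = f x'' := Groth.Agent.FibRes2H8.fiberι_mem f (f x'') z'
  refine ⟨(f.fiberι (f x'')) z', hz'U, hfx', ?_⟩
  rw [flat_stalk_dim_add f ((f.fiberι (f x'')) z')]
  rw [← Groth.Agent.FibChainH8.stalk_dim_fiber_eq f ((f.fiberι (f x'')) z') (f x'') hfx' z' rfl]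
  rw [stalk_dim_fiber_closed f (f x'') d (hd (f x'')) z' hcl]
  have h6 : ringKrullDim (Y.presheaf.stalk (f ((f.fiberι (f x'')) z'))) =
      ringKrullDim (Y.presheaf.stalk (f x'')) := by rw [hfx']
  rw [h6]

end RelDimLocH8
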