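import Groth.Agent.S2768
import Groth.Agent.S9359
import Groth.Agent.S7408
import Groth.Agent.Lib.ChartIndep_helper8
import Groth.Agent.Lib.FibCoh4_helper8
import Groth.Agent.Lib.LocDimEt_helper8

/-!
# Dimension formula for smooth morphisms of locally Noetherian algebraic spaces (helper7)
-/

set_option autoImplicit false
universe u
open CategoryTheory CategoryTheory.Limits AlgebraicGeometry Opposite
open AlgSp Groth.Agent.Lib.AlgSpPoints_helper7

namespace Groth.Agent.Lib.AlgSpSmDimH7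

/-- A smooth morphism is, locally on the source, smooth of some relative dimension. -/
theorem exists_smoothOfRelDim_nhd {P V : Scheme.{u}} (h : P ⟶ V) [Smooth h] (w : P) :
    ∃ (P' : P.Opens) (n : ℕ), w ∈ P' ∧ SmoothOfRelativeDimension n (P'.ι ≫ h) := by
  obtain ⟨U, hU, V', hV', hw, e, hstd⟩ := Smooth.exists_isStandardSmooth h w
  letI := (h.appLE U V' e).hom.toAlgebra
  have hstd' : Algebra.IsStandardSmooth Γ(V, U) Γ(P, V') := hstd
  obtain ⟨ι, σ, hσ, hι, ⟨Pr⟩⟩ := hstd'.out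
  have hn : (h.appLE U V' e).hom.IsStandardSmoothOfRelativeDimension Pr.dimension :=
    ⟨⟨ι, σ, hσ, hι, Pr, rfl⟩⟩
  refine ⟨V', Pr.dimension, hw, ?_⟩
  haveI : IsAffine ↑U := hU
  haveI : IsAffine ↑V' := hV'
  have h1 : SmoothOfRelativeDimension Pr.dimension (h.resLE U V' e) := by
    rw [HasRingHomProperty.iff_of_isAffine (P := @SmoothOfRelativeDimension Pr.dimension)]
    haveI hresp : (RingHom.toMorphismProperty
        (RingHom.Locally (RingHom.IsStandardSmoothOfRelativeDimension Pr.dimension))).RespectsIso :=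
      RingHom.toMorphismProperty_respectsIso_iff.mp
        (HasRingHomProperty.isLocal_ringHomProperty
          (@SmoothOfRelativeDimension Pr.dimension)).respectsIso
    exact (MorphismProperty.arrow_mk_iso_iff (RingHom.toMorphismProperty
        (RingHom.Locally (RingHom.IsStandardSmoothOfRelativeDimension Pr.dimension)))
        (arrowResLEAppIso h U V' e)).mpr
      (RingHom.locally_of RingHom.isStandardSmoothOfRelativeDimension_respectsIso _ hn)
  rw [← Scheme.Hom.resLE_comp_ι h e]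
  have h2 : SmoothOfRelativeDimension (Pr.dimension + 0) (h.resLE U V' e ≫ U.ι) := inferInstance
  simpa using h2

/-- Dimension formula for a smooth morphism of locally Noetherian schemes. -/
theorem localDim_eq_add_fibreDimAt_of_smooth {P V : Scheme.{u}} [IsLocallyNoetherian P]
    [IsLocallyNoetherian V] (h : P ⟶ V) [Smooth h] (w : P) :
    FlatMor.localDim ↥P w = FlatMor.localDim ↥V (h.base w) + FlatMor.fibreDimAt h w := by
  obtain ⟨P', n, hw, hsm⟩ := exists_smoothOfRelDim_nhd h w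
  haveI := hsm
  haveI : Smooth (P'.ι ≫ h) := inferInstance
  haveI : IsLocallyNoetherian ↑P' := LocallyOfFiniteType.isLocallyNoetherian P'.ι
  have hfd : ∀ w' : ↑P', FlatMor.fibreDimAt (P'.ι ≫ h) w' = (n : WithBot ℕ∞) :=
    fun w' => Groth.Agent.S2768.result n (P'.ι ≫ h) w'
  have hrel : Cyc.HasRelDim (P'.ι ≫ h) n := FibCohH8.hasRelDim_of_forall_fibreDimAt _ n hfd
  have key := Groth.Agent.S9359.result (P'.ι ≫ h) n hrel ⟨w, hw⟩
  have e1 : FlatMor.localDim ↥(↑P' : Scheme.{u}) ⟨w, hw⟩ = FlatMor.localDim ↥P w :=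
    LocDimEtH8.localDim_etale P'.ι ⟨w, hw⟩
  have e2 : FlatMor.fibreDimAt h w = (n : WithBot ℕ∞) := by
    have h3 := Groth.Agent.S7408.result h (P'.ι ≫ h) P'.ι (𝟙 V) (by simp) ⟨w, hw⟩
    rw [← hfd ⟨w, hw⟩, ← h3]
    rfl
  rw [← e1, e2]
  exact key

variable {S : Scheme.{u}}

theorem main {X Y : Space S} (f : X ⟶ Y)
    (hX : IsLocNoethSp X.obj) (hY : IsLocNoethSp Y.obj) (hf : LocP @Smooth f.hom)
    (x : Points X.obj) (d dX dY : WithBot ℕ∞)
    (hd : HasAtMor (fun _ _ h u => FlatMor.fibreDimAt h u = d) f.hom x)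
    (hx : HasAt (fun U u => FlatMor.localDim ↥U u = dX) X.obj x)
    (hy : HasAt (fun U u => FlatMor.localDim ↥U u = dY) Y.obj (Points.map f.hom x)) :
    dX = dY + d := by
  have hf' : LocP @LocallyOfFiniteType f.hom := fun U V a b h hae hbe cm => by
    haveI : Smooth h.left := hf a b h hae hbe cm
    infer_instance
  obtain ⟨X0, α0, hα0e, hα0s, hX0⟩ := hX
  obtain ⟨V0, β0, hβ0e, hβ0s, hV0⟩ := hY
  obtain ⟨u0, hu0⟩ := ofPt_surjective α0 hα0s x
  obtain ⟨v0, hv0⟩ := ofPt_surjective β0 hβ0s (Points.map f.hom x)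
  obtain ⟨P, p, h'', w, hp, hpa, cm, hw1, hw2, hwx⟩ :=
    ResTrdegH8.exists_chart_over f.hom α0 hα0e u0 β0 hβ0e v0 (by rw [hv0, hu0])
  haveI := hp
  haveI : IsLocallyNoetherian X0.left := hX0
  haveI : IsLocallyNoetherian V0.left := hV0
  haveI : IsLocallyNoetherian P.left := LocallyOfFiniteType.isLocallyNoetherian p.left
  haveI : Smooth h''.left := hf _ β0 h'' hpa hβ0e cm
  have key := localDim_eq_add_fibreDimAt_of_smooth h''.left w
  have hdw : FlatMor.fibreDimAt h''.left w = d := by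
    obtain ⟨U', V', a', b', h', u', hae', hbe', cm', hu', hz⟩ := hd
    rw [ChartIndepH8.fibreDimAt_chart_indep f.hom hf' _ β0 h'' w a' b' h' u' hpa hβ0e hae' hbe'
      cm cm' ((hwx.trans hu0).trans hu'.symm)]
    exact hz
  obtain ⟨Ux, ax, ux, haxe, hux, hdx⟩ := hx
  obtain ⟨Vy, by', vy, hbye, hvy, hdy⟩ := hy
  rw [← hdx, ← hdy,
    LocDimEtH8.localDim_chart_indep ax ((yon S).map p ≫ α0) haxe hpa ux w
      (hux.trans (hwx.trans hu0).symm),
    LocDimEtH8.localDim_chart_indep by' β0 hbye hβ0e vy v0 (hvy.trans hv0.symm), ← hw2, ← hdw]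
  exact key

end Groth.Agent.Lib.AlgSpSmDimH7
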