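import Groth.Agent.S0412
import Groth.Agent.Lib.AlgSpQC_helper7
import Groth.Agent.Lib.ElemDistSq_helper7

/-!
# A smooth covering of an algebraic space is refined by an étale covering (helper7)
-/

set_option autoImplicit false
universe u
open CategoryTheory CategoryTheory.Limits AlgebraicGeometry Opposite
open AlgSp Groth.Agent.Lib.AlgSpPoints_helper7 Groth.Agent.Lib.AlgSpPullback_helper7
  Groth.Agent.Lib.AlgSpQC_helper7 Groth.Agent.Lib.ElemDistSq_helper7

namespace Groth.Agent.Lib.AlgSpSmRefineH7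

variable {S : Scheme.{u}}

theorem exists_etale_refinement (X : Space S) {ι : Type u}
    (Xi : ι → Space S) (g : ∀ i, Xi i ⟶ X)
    (h : IsSmCover (fun i => (Xi i).obj) (fun i => (g i).hom)) :
    ∃ (κ : Type u) (U : κ → Space S) (c : ∀ j, U j ⟶ X),
      IsEtCover (fun j => (U j).obj) (fun j => (c j).hom) ∧
      ∀ j, ∃ (i : ι) (r : U j ⟶ Xi i), r ≫ g i = c j := by
  obtain ⟨V, p, hpe, hps⟩ := X.property.atlas
  have hPi : ∀ i, IsAlgSpace (pullback (g i).hom p) := fun i =>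
    isAlgSpace_of_isPullback X.property.diag (Xi i).property (IsAlgSpace.yon_obj V)
      (IsPullback.of_hasPullback (g i).hom p)
  choose Vi q hqe hqs using fun i => (hPi i).atlas
  have hfull : ∀ i, ∃ hi : Vi i ⟶ V, (yon S).map hi = q i ≫ pullback.snd (g i).hom p :=
    fun i => (yon S).map_surjective _
  choose hh hhe using hfull
  have hae : ∀ i, RepWith @Etale (q i ≫ pullback.fst (g i).hom p) := fun i =>
    repWith_comp _ (hqe i)
      (repWith_fst_of_isPullback _ (IsPullback.of_hasPullback (g i).hom p) hpe)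
  have hsm : ∀ i, Smooth (hh i).left := fun i =>
    (h.1 i) (q i ≫ pullback.fst (g i).hom p) p (hh i) (hae i) hpe (by
      rw [hhe, Category.assoc, Category.assoc, pullback.condition])
  have key : ∀ j : (Σ i, ↥(Vi i).left), ∃ (S' : Scheme.{u}) (gg : S' ⟶ V.left) (s' : ↥S'),
      Etale gg ∧ gg s' = (hh j.1).left j.2 ∧
        ∃ k : S' ⟶ (Vi j.1).left, k ≫ (hh j.1).left = gg := fun j => by
    haveI := hsm j.1
    exact Groth.Agent.S0412.result (hh j.1).left _ ⟨j.2, rfl⟩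
  choose S' gg s' hge hgs k hk using key
  have hkw : ∀ j, k j ≫ (Vi j.1).hom = gg j ≫ V.hom := fun j => by
    rw [← hk j, Category.assoc, Over.w]
  refine ⟨(Σ i, ↥(Vi i).left),
    fun j => ⟨(yon S).obj (Over.mk (gg j ≫ V.hom)), IsAlgSpace.yon_obj _⟩,
    fun j => ObjectProperty.homMk
      ((yon S).map (Over.homMk (gg j) rfl : Over.mk (gg j ≫ V.hom) ⟶ V) ≫ p), ⟨?_, ?_⟩, ?_⟩
  · intro j
    refine isEtaleMor_of_repWith' _ (repWith_comp _ ?_ hpe)
    exact (repWith_yon_map_iff @Etale _).2 (hge j)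
  · intro x
    obtain ⟨i, xi, hxi⟩ := h.2 x
    obtain ⟨v, hv⟩ := ofPt_surjective p hps x
    obtain ⟨w, hw1, hw2⟩ := exists_of_isPullback (IsPullback.of_hasPullback (g i).hom p) xi
      (Points.ofScheme V v) (by rw [hxi, ← Points.ofPt_eq_map_ofScheme, hv])
    obtain ⟨z, hz⟩ := ofPt_surjective (q i) (hqs i) w
    have hzv : (hh i).left z = v := by
      apply ofScheme_injective V
      rw [← ofPt_yon_map, hhe, ← Points.map_ofPt, hz, hw2]
    refine ⟨⟨i, z⟩, Points.ofScheme _ (s' ⟨i, z⟩), ?_⟩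
    show Points.map ((yon S).map (Over.homMk (gg ⟨i, z⟩) rfl :
      Over.mk (gg ⟨i, z⟩ ≫ V.hom) ⟶ V) ≫ p) _ = x
    rw [← Points.ofPt_eq_map_ofScheme, ofPt_comp]
    show Points.ofPt p (gg ⟨i, z⟩ (s' ⟨i, z⟩)) = x
    rw [hgs ⟨i, z⟩, hzv, hv]
  · intro j
    refine ⟨j.1, ObjectProperty.homMk
      ((yon S).map (Over.homMk (k j) (hkw j) : Over.mk (gg j ≫ V.hom) ⟶ Vi j.1) ≫
        q j.1 ≫ pullback.fst (g j.1).hom p), ?_⟩
    ext1
    show ((yon S).map (Over.homMk (k j) (hkw j) : Over.mk (gg j ≫ V.hom) ⟶ Vi j.1) ≫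
        q j.1 ≫ pullback.fst (g j.1).hom p) ≫ (g j.1).hom =
      (yon S).map (Over.homMk (gg j) rfl : Over.mk (gg j ≫ V.hom) ⟶ V) ≫ p
    rw [Category.assoc, Category.assoc, pullback.condition, ← Category.assoc (q j.1), ← hhe,
      ← Category.assoc, ← CategoryTheory.Functor.map_comp]
    congr 2
    ext1
    exact hk j

end Groth.Agent.Lib.AlgSpSmRefineH7
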