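import Groth.Agent.Lib.SmoothLiftSch_helper7
import Groth.Agent.Lib.AlgSpPullback_helper7
import Groth.Prelude.Def_AlgSpInf

/-!
# Smooth morphisms of algebraic spaces lift étale-locally along thickenings (helper7, S10615)
-/

set_option autoImplicit false
set_option backward.isDefEq.respectTransparency false
set_option backward.isDefEq.respectTransparency.types false
universe u
open CategoryTheory CategoryTheory.Limits AlgebraicGeometry Opposite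

namespace Groth.Agent.Lib.AlgSpSmoothLiftH7

open AlgSp Groth.Agent.Lib.AlgSpPoints_helper7 Groth.Agent.Lib.AlgSpQC_helper7
  Groth.Agent.Lib.AlgSpPullback_helper7

variable {S : Scheme.{u}}

theorem main {F G 𝕋 𝕋' : Sp S} (hF : IsAlgSpace F) (hG : IsAlgSpace G)
    (h𝕋' : IsAlgSpace 𝕋') (f : F ⟶ G) (hf : LocP @Smooth f) (i : 𝕋 ⟶ 𝕋')
    (hi : IsThickMor i) (a : 𝕋 ⟶ F) (b : 𝕋' ⟶ G) (w : a ≫ f = i ≫ b) (t' : Points 𝕋') :
    ∃ (V : Over S) (e : (yon S).obj V ⟶ 𝕋') (ℓ : (yon S).obj V ⟶ F),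
      RepWith @Etale e ∧ t' ∈ Set.range (Points.ofPt e) ∧ ℓ ≫ f = e ≫ b ∧
      ∀ (P : Sp S) (p₁ : P ⟶ 𝕋) (p₂ : P ⟶ (yon S).obj V),
        IsPullback p₁ p₂ i e → p₂ ≫ ℓ = p₁ ≫ a := by
  -- atlas of `G`
  obtain ⟨W, c, hce, hcs⟩ := hG.atlas
  -- chart of `𝕋' ×_G W`
  have sqQ := IsPullback.of_hasPullback b c
  have hQ : IsAlgSpace (pullback b c) :=
    isAlgSpace_of_isPullback hG.diag h𝕋' (IsAlgSpace.yon_obj W) sqQ
  obtain ⟨V₀, m, hme, hms⟩ := hQ.atlas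
  obtain ⟨e₀, he₀⟩ : ∃ e₀ : (yon S).obj V₀ ⟶ 𝕋', e₀ = m ≫ pullback.fst b c := ⟨_, rfl⟩
  have he₀e : RepWith @Etale e₀ := by
    rw [he₀]; exact repWith_comp _ hme (repWith_fst_of_isPullback _ sqQ hce)
  have he₀s : RepWith @Surjective e₀ := by
    rw [he₀]; exact repWith_comp _ hms (repWith_fst_of_isPullback _ sqQ hcs)
  obtain ⟨b₀, hb₀⟩ := (yon S).map_surjective (m ≫ pullback.snd b c)
  have hb₀c : e₀ ≫ b = (yon S).map b₀ ≫ c := by
    rw [he₀, hb₀, Category.assoc, Category.assoc, pullback.condition]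
  obtain ⟨v₀, hv₀⟩ := ofPt_surjective e₀ he₀s t'
  -- the thickening over the chart
  obtain ⟨T₀, pT, i₀, sqT, hthick⟩ : ∃ (T₀ : Over S) (pT : (yon S).obj T₀ ⟶ 𝕋) (i₀ : T₀ ⟶ V₀),
      IsPullback pT ((yon S).map i₀) i e₀ ∧ thick i₀.left :=
    ⟨_, hi.rep.fst e₀, hi.rep.snd e₀, hi.rep.isPullback e₀, hi.property_snd e₀⟩
  haveI : IsClosedImmersion i₀.left := hthick.1
  haveI hsurj : Surjective i₀.left := hthick.2
  obtain ⟨t₀, ht₀⟩ := hsurj.surj v₀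
  -- `F ×_G W` and its chart
  have sqX := IsPullback.of_hasPullback f c
  have hXW : IsAlgSpace (pullback f c) :=
    isAlgSpace_of_isPullback hG.diag hF (IsAlgSpace.yon_obj W) sqX
  have hτw : (pT ≫ a) ≫ f = (yon S).map (i₀ ≫ b₀) ≫ c := by
    calc (pT ≫ a) ≫ f = pT ≫ (a ≫ f) := Category.assoc _ _ _
      _ = pT ≫ (i ≫ b) := by rw [w]
      _ = (pT ≫ i) ≫ b := (Category.assoc _ _ _).symm
      _ = ((yon S).map i₀ ≫ e₀) ≫ b := by rw [sqT.w]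
      _ = (yon S).map i₀ ≫ (e₀ ≫ b) := Category.assoc _ _ _
      _ = (yon S).map i₀ ≫ ((yon S).map b₀ ≫ c) := by rw [hb₀c]
      _ = (yon S).map (i₀ ≫ b₀) ≫ c := by
          rw [CategoryTheory.Functor.map_comp, Category.assoc]
  obtain ⟨τ, hτ1, hτ2⟩ : ∃ τ : (yon S).obj T₀ ⟶ pullback f c,
      τ ≫ pullback.fst f c = pT ≫ a ∧ τ ≫ pullback.snd f c = (yon S).map (i₀ ≫ b₀) :=
    ⟨pullback.lift _ _ hτw, pullback.lift_fst _ _ _, pullback.lift_snd _ _ _⟩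
  obtain ⟨U, n, hne, hns⟩ := hXW.atlas
  obtain ⟨u, hu⟩ := ofPt_surjective n hns (Points.ofPt τ t₀)
  obtain ⟨aU, haU⟩ : ∃ aU : (yon S).obj U ⟶ F, aU = n ≫ pullback.fst f c := ⟨_, rfl⟩
  have haUe : RepWith @Etale aU := by
    rw [haU]; exact repWith_comp _ hne (repWith_fst_of_isPullback _ sqX hce)
  obtain ⟨h, hh⟩ := (yon S).map_surjective (n ≫ pullback.snd f c)
  have hcomm : aU ≫ f = (yon S).map h ≫ c := by
    rw [haU, hh, Category.assoc, Category.assoc, pullback.condition]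
  haveI hsm : Smooth h.left := hf aU c h haUe hce hcomm
  -- the étale scheme `T₁ = T₀ ×_{F ×_G W} U` over `T₀`
  obtain ⟨T₁, a₁, g₁, sq₁, hg₁⟩ : ∃ (T₁ : Over S) (a₁ : T₁ ⟶ U) (g₁ : T₁ ⟶ T₀),
      IsPullback ((yon S).map a₁) ((yon S).map g₁) n τ ∧ Etale g₁.left :=
    ⟨_, hne.rep.fst' τ, hne.rep.snd τ, hne.rep.isPullback' τ, hne.property_snd τ⟩
  haveI := hg₁
  obtain ⟨t₁, ht₁u, ht₁t⟩ := exists_ofPt_eq_of_isPullback sq₁ u t₀ hu
  have hc1 : a₁ ≫ h = g₁ ≫ i₀ ≫ b₀ := by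
    apply (yon S).map_injective
    calc (yon S).map (a₁ ≫ h) = (yon S).map a₁ ≫ (yon S).map h :=
          CategoryTheory.Functor.map_comp _ _ _
      _ = (yon S).map a₁ ≫ (n ≫ pullback.snd f c) := by rw [hh]
      _ = ((yon S).map a₁ ≫ n) ≫ pullback.snd f c := (Category.assoc _ _ _).symm
      _ = ((yon S).map g₁ ≫ τ) ≫ pullback.snd f c := by rw [sq₁.w]
      _ = (yon S).map g₁ ≫ (τ ≫ pullback.snd f c) := Category.assoc _ _ _
      _ = (yon S).map g₁ ≫ (yon S).map (i₀ ≫ b₀) := by rw [hτ2]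
      _ = (yon S).map (g₁ ≫ i₀ ≫ b₀) := (CategoryTheory.Functor.map_comp _ _ _).symm
  have hc2 : (yon S).map a₁ ≫ aU = (yon S).map g₁ ≫ pT ≫ a := by
    calc (yon S).map a₁ ≫ aU = ((yon S).map a₁ ≫ n) ≫ pullback.fst f c := by
          rw [haU, Category.assoc]
      _ = ((yon S).map g₁ ≫ τ) ≫ pullback.fst f c := by rw [sq₁.w]
      _ = (yon S).map g₁ ≫ (τ ≫ pullback.fst f c) := Category.assoc _ _ _
      _ = (yon S).map g₁ ≫ pT ≫ a := by rw [hτ1]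
  -- the scheme-level lifting
  obtain ⟨V', Z', e', p₁', p₂', ℓ', z, hee, hpb, hℓ1, hℓ2, hz⟩ :=
    Groth.Agent.Lib.SmoothLiftSchH7.sch_lift_over i₀ g₁ h a₁ b₀ hc1 t₁
  have sqZ : IsPullback ((yon S).map (p₁' ≫ g₁) ≫ pT) ((yon S).map p₂') i
      ((yon S).map e' ≫ e₀) := (hpb.map (yon S)).paste_horiz sqT
  refine ⟨V', (yon S).map e' ≫ e₀, (yon S).map ℓ' ≫ aU, ?_, ?_, ?_, ?_⟩
  · exact repWith_comp _ ((repWith_yon_map_iff _ _).2 hee) he₀e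
  · refine ⟨p₂'.left z, ?_⟩
    rw [ofPt_comp]
    have h1 : e'.left (p₂'.left z) = v₀ := by
      have := congrArg (fun φ => φ.left z) hpb.w
      simp only [Over.comp_left, Scheme.Hom.comp_apply] at this
      rw [← this, hz, ht₁t, ht₀]
    rw [h1, hv₀]
  · calc ((yon S).map ℓ' ≫ aU) ≫ f = (yon S).map ℓ' ≫ (aU ≫ f) := Category.assoc _ _ _
      _ = (yon S).map ℓ' ≫ ((yon S).map h ≫ c) := by rw [hcomm]
      _ = (yon S).map (ℓ' ≫ h) ≫ c := by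
          rw [CategoryTheory.Functor.map_comp, Category.assoc]
      _ = (yon S).map (e' ≫ b₀) ≫ c := by rw [hℓ1]
      _ = (yon S).map e' ≫ ((yon S).map b₀ ≫ c) := by
          rw [CategoryTheory.Functor.map_comp, Category.assoc]
      _ = (yon S).map e' ≫ (e₀ ≫ b) := by rw [hb₀c]
      _ = ((yon S).map e' ≫ e₀) ≫ b := (Category.assoc _ _ _).symm
  · intro P q₁ q₂ sqP
    obtain ⟨φ, hφ1, hφ2⟩ : ∃ φ : P ⟶ (yon S).obj Z',
        φ ≫ ((yon S).map (p₁' ≫ g₁) ≫ pT) = q₁ ∧ φ ≫ (yon S).map p₂' = q₂ :=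
      ⟨sqZ.lift q₁ q₂ sqP.w, sqZ.lift_fst _ _ _, sqZ.lift_snd _ _ _⟩
    calc q₂ ≫ ((yon S).map ℓ' ≫ aU) = (φ ≫ (yon S).map p₂') ≫ ((yon S).map ℓ' ≫ aU) := by
          rw [hφ2]
      _ = φ ≫ ((yon S).map (p₂' ≫ ℓ') ≫ aU) := by
          rw [CategoryTheory.Functor.map_comp]; simp only [Category.assoc]
      _ = φ ≫ ((yon S).map (p₁' ≫ a₁) ≫ aU) := by rw [hℓ2]
      _ = φ ≫ ((yon S).map p₁' ≫ ((yon S).map a₁ ≫ aU)) := by
          rw [CategoryTheory.Functor.map_comp, Category.assoc]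
      _ = φ ≫ ((yon S).map p₁' ≫ ((yon S).map g₁ ≫ pT ≫ a)) := by rw [hc2]
      _ = (φ ≫ ((yon S).map (p₁' ≫ g₁) ≫ pT)) ≫ a := by
          rw [CategoryTheory.Functor.map_comp]; simp only [Category.assoc]
      _ = q₁ ≫ a := by rw [hφ1]

end Groth.Agent.Lib.AlgSpSmoothLiftH7
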