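import Groth.Agent.Lib.AlgSpDecentAff_helper6
import Groth.Agent.Lib.AlgSpEtale_helper7
import Mathlib.AlgebraicGeometry.Morphisms.UniversallyOpen

/-!
# Specializations in fibres of étale charts over a point with finite fibres (helper6)
-/

set_option autoImplicit false
universe u
open CategoryTheory CategoryTheory.Limits AlgebraicGeometry Opposite

namespace Groth.Agent.Lib.AlgSpSpecial_helper6

open AlgSp Groth.Agent.Lib.AlgSpPoints_helper7 Groth.Agent.Lib.AlgSpQC_helper7
  Groth.Agent.Lib.AlgSpPullback_helper7 Groth.Agent.Lib.AlgSpBasic_helper7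
  Groth.Agent.Lib.AlgSpEtale_helper7

variable {S : Scheme.{u}}

/-- the basic step of the tower argument -/
theorem specializes_step {X : Sp S} {U : Over S} (a : (yon S).obj U ⟶ X)
    (ha : RepWith @Etale a) (v v' : ↥U.left) (he : Points.ofPt a v' = Points.ofPt a v)
    (hs : v' ⤳ v) :
    ∃ v'' : ↥U.left, Points.ofPt a v'' = Points.ofPt a v ∧ v'' ⤳ v' ∧ (v'' = v' → v' = v) := by
  let t := ha.rep.fst' a
  let s := ha.rep.snd a
  have sq : IsPullback ((yon S).map t) ((yon S).map s) a a := ha.rep.isPullback' a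
  have hs1 : Etale s.left := ha.property_snd a
  have ht1 : Etale t.left := by
    have h1 : RepWith @Etale ((yon S).map t) := repWith_fst_of_isPullback _ sq ha
    exact (repWith_yon_map_iff _ _).1 h1
  obtain ⟨r, hr1, hr2⟩ := exists_ofPt_eq_of_isPullback sq v v' he.symm
  have hgen : GeneralizingMap t.left := Flat.generalizingMap (f := t.left)
  obtain ⟨r', hr', hr'1⟩ := hgen (a := r) (b := v') (by rw [hr1]; exact hs)
  refine ⟨s.left r', ?_, ?_, ?_⟩
  · rw [← ofPt_comp, ← sq.w, ofPt_comp, hr'1, he]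
  · rw [← hr2]
    exact hr'.map s.left.continuous
  · intro h
    haveI : LocallyQuasiFinite s.left := locallyQuasiFinite_of_unramified s.left
    have hd := s.left.isDiscrete_preimage_singleton v'
    have : r' = r := hd.eq_of_specializes hr' h (by simpa using hr2)
    rw [← hr'1, this, hr1]

/-- Affine case of the tower argument. -/
theorem eq_of_specializes_of_finite {X : Sp S} {U : Over S} (a : (yon S).obj U ⟶ X)
    (ha : RepWith @Etale a) (x : Points X) (hfin : (Points.ofPt a ⁻¹' {x}).Finite) :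
    ∀ (n : ℕ) (v v' : ↥U.left), Points.ofPt a v = x → Points.ofPt a v' = x → v' ⤳ v →
      {w | Points.ofPt a w = x ∧ w ⤳ v'}.ncard = n → v' = v := by
  intro n
  induction n using Nat.strong_induction_on with
  | _ n ih =>
    intro v v' hv hv' hs hn
    by_contra hne
    obtain ⟨v'', h1, h2, h3⟩ := specializes_step a ha v v' (hv'.trans hv.symm) hs
    have hv'' : Points.ofPt a v'' = x := h1.trans hv
    have hne' : v'' ≠ v' := fun h => hne (h3 h)
    have hfin' : {w | Points.ofPt a w = x ∧ w ⤳ v'}.Finite :=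
      hfin.subset (fun w hw => hw.1)
    have hlt : {w | Points.ofPt a w = x ∧ w ⤳ v''}.ncard <
        {w | Points.ofPt a w = x ∧ w ⤳ v'}.ncard := by
      apply Set.ncard_lt_ncard _ hfin'
      refine ⟨fun w hw => ⟨hw.1, hw.2.trans h2⟩, fun hsub => ?_⟩
      have : v' ⤳ v'' := (hsub ⟨hv', specializes_rfl⟩).2
      exact hne' (this.antisymm h2).eq.symm
    exact hne' (ih _ (hn ▸ hlt) v' v'' hv' hv'' h2 rfl)

/-- If the fibres over `x` of all affine étale charts are finite, there are no nontrivial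
specializations in the fibre over `x` of any étale chart. -/
theorem eq_of_specializes_of_finite_fibres {X : Sp S} (x : Points X)
    (hx : ∀ (V : Over S) (b : (yon S).obj V ⟶ X), IsAffine V.left → RepWith @Etale b →
      (Points.ofPt b ⁻¹' {x}).Finite)
    {U : Over S} (a : (yon S).obj U ⟶ X) (ha : RepWith @Etale a) (u u' : ↥U.left)
    (hu : Points.ofPt a u = x) (hu' : Points.ofPt a u' = x) (hs : u' ⤳ u) : u = u' := by
  let 𝒰 := U.left.affineCover
  let i := 𝒰.idx u
  obtain ⟨u₀, hu₀⟩ := 𝒰.covers u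
  have hopen : IsOpen (Set.range (𝒰.f i)) := (𝒰.f i).isOpenEmbedding.isOpen_range
  obtain ⟨u₀', hu₀'⟩ : u' ∈ Set.range (𝒰.f i) := hs.mem_open hopen ⟨u₀, hu₀⟩
  let c : Over.mk (𝒰.f i ≫ U.hom) ⟶ U := Over.homMk (𝒰.f i) rfl
  have hc : RepWith @Etale ((yon S).map c) := by
    rw [repWith_yon_map_iff]
    change Etale (𝒰.f i)
    infer_instance
  have ha₀ : RepWith @Etale ((yon S).map c ≫ a) := repWith_comp _ hc ha
  have haff : IsAffine (Over.mk (𝒰.f i ≫ U.hom)).left := by
    change IsAffine (𝒰.X i)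
    infer_instance
  have hfin := hx _ _ haff ha₀
  have hs₀ : u₀' ⤳ u₀ := by
    rw [← (𝒰.f i).isOpenEmbedding.isInducing.specializes_iff, hu₀, hu₀']
    exact hs
  have e1 : Points.ofPt ((yon S).map c ≫ a) u₀ = x := by
    rw [ofPt_comp]; change Points.ofPt a ((𝒰.f i) u₀) = x; rw [hu₀, hu]
  have e2 : Points.ofPt ((yon S).map c ≫ a) u₀' = x := by
    rw [ofPt_comp]; change Points.ofPt a ((𝒰.f i) u₀') = x; rw [hu₀', hu']
  have := eq_of_specializes_of_finite _ ha₀ x hfin _ u₀ u₀' e1 e2 hs₀ rfl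
  rw [← hu₀, ← hu₀', this]

end Groth.Agent.Lib.AlgSpSpecial_helper6
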