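import Groth.Agent.Lib.AlgSpLocP10_helper7

/-!
# `LocP P` is local on the source for `P` local at the source on schemes (helper7)

* `locP_comp_of_isLocalAtSource`: forward direction (precomposition with a covering map)
* `hPC_of_isLocalAtSource`: the scheme-level family criterion from `IsLocalAtSource`
* `locP_of_fpqcCover_source`: backward direction for fpqc coverings
-/

set_option autoImplicit false
universe u
open CategoryTheory CategoryTheory.Limits AlgebraicGeometry Opposite MorphismProperty
open AlgSp Groth.Agent.Lib.AlgSpQC2_helper7 Groth.Agent.Lib.AlgSpPoints_helper7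
  Groth.Agent.Lib.AlgSpQC_helper7 Groth.Agent.Lib.AlgSpDiag_helper7 Groth.Agent.Lib.AlgSpTop_helper7
  Groth.Agent.Lib.AlgSpPullback_helper7 Groth.Agent.Lib.AlgSpSep_helper7
  Groth.Agent.Lib.AlgSpLocP_helper7 Groth.Agent.Lib.AlgSpUniv_helper7
  Groth.Agent.Lib.AlgSpFpqc_helper7 Groth.Agent.Lib.AlgSpFpqc2_helper7
  Groth.Agent.Lib.AlgSpDescent_helper7 Groth.Agent.Lib.AlgSpEtale_helper7
  Groth.Agent.Lib.AlgSpLocP2_helper7 Groth.Agent.Lib.AlgSpLocP3_helper7
  Groth.Agent.Lib.AlgSpEpi_helper7
  Groth.Agent.Lib.SchSrcLocal_helper7 Groth.Agent.Lib.AlgSpLocP4_helper7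
  Groth.Agent.Lib.AlgSpLocP5_helper7 Groth.Agent.Lib.AlgSpLocP6_helper7
  Groth.Agent.Lib.SchSrcLocal2_helper7 Groth.Agent.Lib.AlgSpSrc_helper7
  Groth.Agent.Lib.AlgSpLocP7_helper7 Groth.Agent.Lib.AlgSpLocP8_helper7
  Groth.Agent.Lib.AlgSpLocP9_helper7 Groth.Agent.Lib.SchSmooth_helper7
  Groth.Agent.Lib.AlgSpLocP10_helper7

namespace Groth.Agent.Lib.AlgSpSrcLocalH7

variable {S : Scheme.{u}}

theorem EtLocal.inf {P Q : MorphismProperty Scheme.{u}} (hP : EtLocal P) (hQ : EtLocal Q) :
    EtLocal (P ⊓ Q) where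
  precomp := fun _ _ _ c h hc hh => ⟨hP.precomp c h hc hh.1, hQ.precomp c h hc hh.2⟩
  postcomp := fun _ _ _ h e he hh => ⟨hP.postcomp h e he hh.1, hQ.postcomp h e he hh.2⟩
  src := fun _ _ _ c h hc hs hh => ⟨hP.src c h hc hs hh.1, hQ.src c h hc hs hh.2⟩

/-- Adding the identity to a single `C`-morphism gives a covering for `precoverage C`. -/
lemma exists_presieve_precoverage (C : MorphismProperty Scheme.{u}) [C.ContainsIdentities]
    {T X : Scheme.{u}} (s : T ⟶ X) (hs : C s) : ∃ R ∈ Scheme.precoverage C X, R s := by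
  let E : PreZeroHypercover.{0} X :=
    PreZeroHypercover.sum (PreZeroHypercover.singleton (𝟙 X) : PreZeroHypercover.{0} X)
      (PreZeroHypercover.singleton s : PreZeroHypercover.{0} X)
  refine ⟨E.presieve₀, ?_, ?_⟩
  · rw [Scheme.presieve₀_mem_precoverage_iff]
    refine ⟨fun x => ⟨Sum.inl ⟨⟩, x, rfl⟩, ?_⟩
    rintro (i | i)
    · exact C.id_mem X
    · exact hs
  · exact Presieve.ofArrows.mk (Sum.inr ⟨⟩)

/-- Adding the identity to a single flat morphism gives an fpqc covering. -/
lemma exists_presieve_fpqc {T X : Scheme.{u}} (s : T ⟶ X) (hs : Flat s) :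
    ∃ R ∈ Scheme.fpqcPrecoverage X, R s := by
  let E : PreZeroHypercover.{0} X :=
    PreZeroHypercover.sum (PreZeroHypercover.singleton (𝟙 X) : PreZeroHypercover.{0} X)
      (PreZeroHypercover.singleton s : PreZeroHypercover.{0} X)
  have h1 : E.presieve₀ ∈ Scheme.qcPrecoverage X := by
    rw [Scheme.presieve₀_mem_qcPrecoverage_iff]
    infer_instance
  have h2 : E.presieve₀ ∈ Scheme.precoverage @Flat X := by
    rw [Scheme.presieve₀_mem_precoverage_iff]
    refine ⟨fun x => ⟨Sum.inl ⟨⟩, x, rfl⟩, ?_⟩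
    rintro (i | i)
    · exact (inferInstance : Flat (𝟙 X))
    · exact hs
  exact ⟨E.presieve₀, ⟨h1, h2⟩, Presieve.ofArrows.mk (Sum.inr ⟨⟩)⟩

lemma singleton_mem_fppf {T X : Scheme.{u}} (p : T ⟶ X) (hp : Etale p) (hs : Surjective p) :
    Presieve.singleton p ∈ Scheme.fppfPrecoverage X :=
  Scheme.Hom.singleton_mem_fppfPrecoverage p

lemma singleton_mem_fpqc {T X : Scheme.{u}} (p : T ⟶ X) (hp : Etale p) (hs : Surjective p) :
    Presieve.singleton p ∈ Scheme.fpqcPrecoverage X :=
  Scheme.fppfPrecoverage_le_fpqcPrecoverage _ (singleton_mem_fppf p hp hs)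

lemma singleton_mem_precoverage (C : MorphismProperty Scheme.{u})
    (hE : ∀ ⦃A B : Scheme.{u}⦄ (g : A ⟶ B), Etale g → C g)
    {T X : Scheme.{u}} (p : T ⟶ X) (hp : Etale p) (hs : Surjective p) :
    Presieve.singleton p ∈ Scheme.precoverage C X :=
  (Scheme.singleton_mem_precoverage_iff C p).2 ⟨hs.surj, hE p hp⟩

/-- Forward direction: precomposing a `LocP P` morphism with a `LocP C` morphism keeps `LocP P`
when `P` is local at the source for a precoverage `K` containing `C`-morphisms plus identity and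
étale surjections. -/
theorem locP_comp_of_isLocalAtSource (K : Precoverage Scheme.{u}) (P C : MorphismProperty Scheme.{u})
    [C.IsStableUnderBaseChange] (hC : EtLocal C) [P.IsLocalAtSource K]
    (hadd : ∀ {T X : Scheme.{u}} (s : T ⟶ X), C s → ∃ R ∈ K X, R s)
    (hEt : ∀ {T X : Scheme.{u}} (p : T ⟶ X), Etale p → Surjective p → Presieve.singleton p ∈ K X)
    {X' X Y : Sp S} (hX : IsAlgSpace X) (g : X' ⟶ X) (f : X ⟶ Y)
    (hg : LocP C g) (hf : LocP P f) : LocP P (g ≫ f) := by
  intro U V a b h hae hbe comm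
  obtain ⟨W, w, hwe, hws⟩ := hX.atlas
  let U'' := hwe.rep.pullback (a ≫ g)
  let p' : U'' ⟶ U := hwe.rep.snd (a ≫ g)
  let p : U'' ⟶ W := hwe.rep.fst' (a ≫ g)
  have sqU : IsPullback ((yon S).map p) ((yon S).map p') w (a ≫ g) := hwe.rep.isPullback' _
  have hp'e : Etale p'.left := hwe.property_snd _
  have hp's : Surjective p'.left := hws.property _ _ _ (hwe.rep.isPullback _)
  have hCp : C p.left :=
    hg ((yon S).map p' ≫ a) w p (repWith_comp _ ((repWith_yon_map_iff _ _).2 hp'e) hae) hwe
      (by rw [Category.assoc]; exact sqU.w.symm)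
  let W'' := hbe.rep.pullback (w ≫ f)
  let r' : W'' ⟶ W := hbe.rep.snd (w ≫ f)
  let r : W'' ⟶ V := hbe.rep.fst' (w ≫ f)
  have sqW : IsPullback ((yon S).map r) ((yon S).map r') b (w ≫ f) := hbe.rep.isPullback' _
  have hr'e : Etale r'.left := hbe.property_snd _
  have hPr : P r.left :=
    hf ((yon S).map r' ≫ w) b r (repWith_comp _ ((repWith_yon_map_iff _ _).2 hr'e) hwe) hbe
      (by rw [Category.assoc]; exact sqW.w.symm)
  have hw : (yon S).map (p' ≫ h) ≫ b = (yon S).map p ≫ w ≫ f := by
    rw [Functor.map_comp, Category.assoc, ← comm, ← Category.assoc ((yon S).map p), sqU.w]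
    simp only [Category.assoc]
  obtain ⟨s, hs⟩ := (yon S).map_surjective (sqW.lift ((yon S).map (p' ≫ h)) ((yon S).map p) hw)
  have hs1 : s ≫ r = p' ≫ h := by
    apply (yon S).map_injective
    rw [Functor.map_comp, hs, sqW.lift_fst]
  have hs2 : s ≫ r' = p := by
    apply (yon S).map_injective
    rw [Functor.map_comp, hs, sqW.lift_snd]
  have hCs : C s.left := by
    refine hC.cancel s.left r'.left hr'e ?_
    rw [← Over.comp_left, hs2]
    exact hCp
  obtain ⟨R, hR, hRs⟩ := hadd s.left hCs
  have h1 : P (s.left ≫ r.left) := IsLocalAtSource.comp (P := P) hR s.left hRs hPr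
  have h2 : p'.left ≫ h.left = s.left ≫ r.left := by
    rw [← Over.comp_left, ← Over.comp_left, hs1]
  refine IsLocalAtSource.of_forall_comp (P := P) (hEt p'.left hp'e hp's) ?_
  intro T q hq
  cases hq
  rw [h2]
  exact h1

/-- The family criterion on schemes, from `IsLocalAtSource` for `precoverage C`. -/
theorem hPC_of_isLocalAtSource (P C : MorphismProperty Scheme.{u})
    [P.IsLocalAtSource (Scheme.precoverage C)]
    {ι : Type u} {U V : Scheme.{u}} (W : ι → Scheme.{u}) (c : ∀ i, W i ⟶ U) (h : U ⟶ V)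
    (hc : ∀ i, C (c i)) (hs : ∀ x : U, ∃ i, x ∈ Set.range (c i)) (hch : ∀ i, P (c i ≫ h)) :
    P h := by
  refine IsLocalAtSource.of_forall_comp (P := P) (K := Scheme.precoverage C)
    (R := Presieve.ofArrows W c) ((Scheme.ofArrows_mem_precoverage_iff C).2 ⟨hs, hc⟩) ?_
  intro T q hq
  cases hq with
  | mk i => exact hch i

/-- Backward direction for fpqc coverings. -/
theorem locP_of_fpqcCover_source (P : MorphismProperty Scheme.{u})
    [P.IsLocalAtSource Scheme.fpqcPrecoverage]
    {X Y : Sp S} (hX : IsAlgSpace X) (f : X ⟶ Y) {ι : Type u} (Xi : ι → Sp S)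
    (g : ∀ i, Xi i ⟶ X) (hXi : ∀ i, IsAlgSpace (Xi i)) (hcov : IsFpqcCover Xi g)
    (h : ∀ i, LocP P (g i ≫ f)) : LocP P f := by
  intro U V a b k hae hbe comm
  have hsurj := isFpqcCover_surjective hX hcov
  have hg : ∀ i, LocP @Flat (g i) := hcov.1
  have key : ∀ i, ∃ (T' : Over S) (t : (yon S).obj T' ⟶ pullback (g i) a) (e : T' ⟶ U),
      RepWith @Etale t ∧ RepWith @Surjective t ∧ (yon S).map e = t ≫ pullback.snd (g i) a ∧
      Flat e.left ∧ P (e ≫ k).left ∧
      ∀ u : ↥U.left, Points.ofPt a u ∈ Set.range (Points.map (g i)) → u ∈ Set.range e.left := by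
    intro i
    have sq := IsPullback.of_hasPullback (g i) a
    have hT : IsAlgSpace (pullback (g i) a) :=
      isAlgSpace_of_isPullback hX.diag (hXi i) (IsAlgSpace.yon_obj U) sq
    obtain ⟨T', t, hte, hts⟩ := hT.atlas
    obtain ⟨e, he⟩ := (yon S).map_surjective (t ≫ pullback.snd (g i) a)
    have hL : LocP @Flat (pullback.snd (g i) a) :=
      locP_baseChange etLocal_flat (hXi i) hX (IsAlgSpace.yon_obj U) (g i) a _ _ sq (hg i)
    refine ⟨T', t, e, hte, hts, he, ?_, ?_, ?_⟩
    · exact hL t (𝟙 _) e hte (repWith_id _ U) (by rw [he, Category.comp_id])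
    · have h1 : RepWith @Etale (pullback.fst (g i) a) := repWith_fst_of_isPullback _ sq hae
      refine h i (t ≫ pullback.fst (g i) a) b (e ≫ k) (repWith_comp _ hte h1) hbe ?_
      rw [Functor.map_comp, he]
      simp only [Category.assoc]
      rw [← comm, ← pullback.condition_assoc]
    · rintro u ⟨xi, hxi⟩
      rw [Points.ofPt_eq_map_ofScheme] at hxi
      obtain ⟨z, hz1, hz2⟩ := exists_of_isPullback sq xi (Points.ofScheme U u) hxi
      obtain ⟨t', rfl⟩ := ofPt_surjective t hts z
      refine ⟨t', ?_⟩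
      apply ofScheme_injective U
      rw [← hz2, Points.map_ofPt, ← he, ofPt_yon_map]
  choose T' t e hte hts he he1 he2 he3 using key
  have h1 : Presieve.ofArrows (fun i => (T' i).left) (fun i => (e i).left) ∈
      Scheme.precoverage @Flat U.left :=
    (Scheme.ofArrows_mem_precoverage_iff _).2 ⟨fun u => by
      obtain ⟨i, hi⟩ := hsurj (Points.ofPt a u)
      exact ⟨i, he3 i u hi⟩, he1⟩
  have h2 : Presieve.ofArrows (fun i => (T' i).left) (fun i => (e i).left) ∈
      Scheme.qcPrecoverage U.left := by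
    let E : PreZeroHypercover.{u} U.left := ⟨ι, fun i => (T' i).left, fun i => (e i).left⟩
    have hE : QuasiCompactCover E := by
      constructor
      intro O hO
      let Z : Over S := Over.mk (O.ι ≫ U.hom)
      let oι : Z ⟶ U := Over.homMk O.ι rfl
      obtain ⟨m, W, c, hWaff, hcflat, hcsurj, hl⟩ := hcov.2 Z hO ((yon S).map oι ≫ a)
      choose i l hl using hl
      have hlam : ∀ j, ∃ lam : (yon S).obj (W j) ⟶ pullback (g (i j)) a,
          lam ≫ pullback.snd (g (i j)) a = (yon S).map (c j ≫ oι) := fun j =>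
        ⟨pullback.lift (l j) ((yon S).map (c j ≫ oι))
          (by rw [hl j, Functor.map_comp, Category.assoc]), pullback.lift_snd _ _ _⟩
      choose lam hlam using hlam
      let W' : Fin m → Over S := fun j => (hte (i j)).rep.pullback (lam j)
      let w' : ∀ j, W' j ⟶ W j := fun j => (hte (i j)).rep.snd (lam j)
      let τ : ∀ j, W' j ⟶ T' (i j) := fun j => (hte (i j)).rep.fst' (lam j)
      have sqj : ∀ j, IsPullback ((yon S).map (τ j)) ((yon S).map (w' j)) (t (i j)) (lam j) :=
        fun j => (hte (i j)).rep.isPullback' _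
      have hw'e : ∀ j, Etale (w' j).left := fun j => (hte (i j)).property_snd _
      have hw's : ∀ j, Surjective (w' j).left := fun j =>
        (hts (i j)).property _ _ _ ((hte (i j)).rep.isPullback _)
      have hcomp : ∀ j, τ j ≫ e (i j) = w' j ≫ c j ≫ oι := fun j => by
        apply (yon S).map_injective
        rw [Functor.map_comp, he, ← Category.assoc, (sqj j).w, Category.assoc, hlam,
          ← Functor.map_comp]
      have hK : ∀ j, ∃ Kj : TopologicalSpace.Opens (W' j).left,
          IsCompact (Kj : Set (W' j).left) ∧ (w' j).left '' (Kj : Set (W' j).left) = Set.univ := by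
        intro j
        haveI := hw'e j
        haveI : IsAffine (W j).left := hWaff j
        have hopen : IsOpenMap (w' j).left := (w' j).left.isOpenMap
        have h0 := IsCompactOpenCovered.of_isOpenMap (ι := Unit) (X := fun _ => (W' j).left)
          (f := fun _ => ⇑(w' j).left) (fun _ => (w' j).left.continuous) (fun _ => hopen)
          (U := Set.univ) (fun x _ => ⟨(), (hw's j).surj x⟩) isOpen_univ
          CompactSpace.isCompact_univ
        rw [IsCompactOpenCovered.iff_of_unique] at h0
        exact h0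
      choose Kc hKc hKi using hK
      have hcov' : IsCompactOpenCovered (fun j : Fin m => ⇑(w' j ≫ c j ≫ oι).left)
          (O : Set U.left) := by
        refine IsCompactOpenCovered.of_finite (κ := Fin m) id Kc hKc ?_
        ext x
        simp only [Set.mem_iUnion, Set.mem_image]
        constructor
        · rintro ⟨j, y, -, rfl⟩
          show O.ι ((c j).left ((w' j).left y)) ∈ (O : Set U.left)
          have := Set.mem_range_self (f := O.ι) ((c j).left ((w' j).left y))
          rwa [Scheme.Opens.range_ι] at this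
        · intro hx
          have hx' : x ∈ Set.range O.ι := by rw [Scheme.Opens.range_ι]; exact hx
          obtain ⟨z, rfl⟩ := hx'
          obtain ⟨j, wj, rfl⟩ := hcsurj z
          have hwj : wj ∈ (w' j).left '' (Kc j : Set (W' j).left) := by rw [hKi j]; trivial
          obtain ⟨y, hy, rfl⟩ := hwj
          exact ⟨j, y, hy, rfl⟩
      exact IsCompactOpenCovered.of_comp (fun j : Fin m => ⇑(w' j ≫ c j ≫ oι).left) (a := i)
        (fun j => ⇑(τ j).left) (fun j => (τ j).left.continuous)
        (fun j => by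
          funext y
          exact (congrArg (fun q : W' j ⟶ U => (q.left : (W' j).left → U.left) y)
            (hcomp j)).symm)
        (fun i => (e i).left.continuous) O.2 hcov'
    exact (Scheme.presieve₀_mem_qcPrecoverage_iff (E := E)).2 hE
  have hmem : Presieve.ofArrows (fun i => (T' i).left) (fun i => (e i).left) ∈
      Scheme.fpqcPrecoverage U.left := ⟨h2, h1⟩
  refine IsLocalAtSource.of_forall_comp (P := P) hmem ?_
  intro T q hq
  cases hq with
  | mk i => simpa using he2 i

end Groth.Agent.Lib.AlgSpSrcLocalH7
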