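import Groth.Agent.Lib.AlgSpLocP6_helper7

/-!
# `LocP P` local on the source for coverings of algebraic spaces (helper7)
-/

set_option autoImplicit false
universe u
open CategoryTheory CategoryTheory.Limits AlgebraicGeometry Opposite MorphismProperty
open AlgSp Groth.Agent.Lib.AlgSpQC2_helper7 Groth.Agent.Lib.AlgSpPoints_helper7
  Groth.Agent.Lib.AlgSpQC_helper7 Groth.Agent.Lib.AlgSpDiag_helper7 Groth.Agent.Lib.AlgSpTop_helper7
  Groth.Agent.Lib.AlgSpPullback_helper7 Groth.Agent.Lib.AlgSpSep_helper7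
  Groth.Agent.Lib.AlgSpLocP_helper7 Groth.Agent.Lib.AlgSpUniv_helper7
  Groth.Agent.Lib.AlgSpFpqc_helper7 Groth.Agent.Lib.AlgSpFpqc2_helper7
  Groth.Agent.Lib.AlgSpDescent_helper7 Groth.Agent.Lib.AlgSpEtale_helper7
  Groth.Agent.Lib.AlgSpLocP2_helper7 Groth.Agent.Lib.AlgSpEpi_helper7
  Groth.Agent.Lib.SchSrcLocal_helper7 Groth.Agent.Lib.AlgSpLocP4_helper7
  Groth.Agent.Lib.AlgSpLocP5_helper7 Groth.Agent.Lib.AlgSpLocP6_helper7

namespace Groth.Agent.Lib.AlgSpSrc_helper7

variable {S : Scheme.{u}}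

/-- Source-local criterion: if `C` is étale local on the source-and-target, `P` can be checked on
jointly surjective families of `C`-morphisms of schemes, and `g i : X i ⟶ X` is a jointly surjective
family of `LocP C`-morphisms of algebraic spaces with all `g i ≫ f` in `LocP P`, then `f` is in
`LocP P`. -/
theorem locP_of_cover_source (P C : MorphismProperty Scheme.{u}) [C.IsStableUnderBaseChange]
    (hC : EtLocal C)
    (hPC : ∀ {ι : Type u} {U V : Scheme.{u}} (W : ι → Scheme.{u}) (c : ∀ i, W i ⟶ U) (h : U ⟶ V),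
      (∀ i, C (c i)) → (∀ x : U, ∃ i, x ∈ Set.range (c i)) → (∀ i, P (c i ≫ h)) → P h)
    {X Y : Sp S} (hX : IsAlgSpace X) (f : X ⟶ Y) {ι : Type u} (Xi : ι → Sp S)
    (g : ∀ i, Xi i ⟶ X) (hXi : ∀ i, IsAlgSpace (Xi i)) (hg : ∀ i, LocP C (g i))
    (hsurj : ∀ x : Points X, ∃ i, x ∈ Set.range (Points.map (g i)))
    (h : ∀ i, LocP P (g i ≫ f)) : LocP P f := by
  intro U V a b k hae hbe comm
  have key : ∀ i, ∃ (T' : Over S) (e : T' ⟶ U), C e.left ∧ P (e ≫ k).left ∧
      ∀ u : ↥U.left, Points.ofPt a u ∈ Set.range (Points.map (g i)) → u ∈ Set.range e.left := by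
    intro i
    have sq := IsPullback.of_hasPullback (g i) a
    have hT : IsAlgSpace (pullback (g i) a) :=
      isAlgSpace_of_isPullback hX.diag (hXi i) (IsAlgSpace.yon_obj U) sq
    obtain ⟨T', t, hte, hts⟩ := hT.atlas
    obtain ⟨e, he⟩ := (yon S).map_surjective (t ≫ pullback.snd (g i) a)
    have hL : LocP C (pullback.snd (g i) a) :=
      locP_baseChange hC (hXi i) hX (IsAlgSpace.yon_obj U) (g i) a _ _ sq (hg i)
    refine ⟨T', e, ?_, ?_, ?_⟩
    · exact hL t (𝟙 _) e hte (repWith_id _ U) (by rw [he, Category.comp_id])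
    · have h1 : RepWith @Etale (pullback.fst (g i) a) := repWith_fst_of_isPullback _ sq hae
      refine h i (t ≫ pullback.fst (g i) a) b (e ≫ k) (repWith_comp _ hte h1) hbe ?_
      rw [Functor.map_comp, he]
      simp only [Category.assoc]
      rw [← comm, ← pullback.condition_assoc]
    · rintro u ⟨xi, hxi⟩
      rw [Points.ofPt_eq_map_ofScheme] at hxi
      obtain ⟨z, hz1, hz2⟩ := exists_of_isPullback sq xi (Points.ofScheme U u) hxi
      obtain ⟨t', rfl⟩ := ofPt_surjective t hts z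
      refine ⟨t', ?_⟩
      apply ofScheme_injective U
      rw [← hz2, Points.map_ofPt, ← he, ofPt_yon_map]
  choose T' e he1 he2 he3 using key
  have := hPC (fun i => (T' i).left) (fun i => (e i).left) k.left he1
    (fun u => by
      obtain ⟨i, hi⟩ := hsurj (Points.ofPt a u)
      exact ⟨i, he3 i u hi⟩)
    (fun i => by simpa using he2 i)
  exact this

/-- An fpqc covering of an algebraic space is jointly surjective on points. -/
theorem isFpqcCover_surjective {ι : Type u} {X : Sp S} (hX : IsAlgSpace X) {Xi : ι → Sp S}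
    {g : ∀ i, Xi i ⟶ X} (hcov : IsFpqcCover Xi g) (x : Points X) :
    ∃ i, x ∈ Set.range (Points.map (g i)) := by
  obtain ⟨κ, T, r, hTaff, hr, hs⟩ := exists_affine_charts hX
  obtain ⟨k, t, rfl⟩ := hs x
  obtain ⟨m, W, c, hW, hc, hsurj, hl⟩ := hcov.2 (T k) (hTaff k) (r k)
  obtain ⟨j, w, rfl⟩ := hsurj t
  obtain ⟨i, l, hl⟩ := hl j
  refine ⟨i, Points.ofPt l w, ?_⟩
  rw [Points.map_ofPt, hl, ofPt_comp]

theorem isLocalOnSource_fpqc_locP_flat :
    IsLocalOnSource (IsFpqcCover (S := S)) (LocP @Flat) := by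
  intro ι X Xi g hX hXi hcov Y f hY
  constructor
  · intro hf i
    exact locP_comp etLocal_flat (hXi i) hX hY (g i) f (hcov.1 i) hf
  · intro h
    exact locP_of_cover_source @Flat @Flat etLocal_flat
      (fun W c h hc hs hch => flat_of_family W c h hc hs hch) hX f Xi g hXi hcov.1
      (isFpqcCover_surjective hX hcov) h

end Groth.Agent.Lib.AlgSpSrc_helper7
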