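import Mathlib
import Groth.Prelude.Def_MoreMor
import Groth.Agent.Lib.Thickening_helper7

/-!
# Universal first order thickenings are formally unramified — helper7
-/

set_option autoImplicit false
universe u
open CategoryTheory CategoryTheory.Limits AlgebraicGeometry

namespace Groth.Agent.Lib.Thickening2_helper7

open Groth.Agent.Lib.FormalEtale_helper7 Groth.Agent.Lib.Thickening_helper7

section RingLemma
variable {R S' : Type u} [CommRing R] [CommRing S'] [Algebra R S']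

lemma claim_step (N : Ideal S') (hN : N ^ 2 = ⊥)
    (H : ∀ (A : Type u) [CommRing A] [Algebra R A] (I : Ideal A), I ^ 2 = ⊥ →
      ∀ f₁ f₂ : S' →ₐ[R] A,
        (Ideal.Quotient.mkₐ R I).comp f₁ = (Ideal.Quotient.mkₐ R I).comp f₂ →
        N.map f₁.toRingHom ≤ I → f₁ = f₂)
    (B : Type u) [CommRing B] [Algebra R B] (I : Ideal B) (hI : I ^ 2 = ⊥)
    (f₁ f₂ : S' →ₐ[R] B) (h12 : ∀ x, f₁ x - f₂ x ∈ I) :
    ∀ x, f₁ x - f₂ x ∈ I * N.map f₁.toRingHom := by
  set M : Ideal B := N.map f₁.toRingHom with hM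
  set J : Ideal B := I * M with hJ
  have hMM : M * M = ⊥ := by
    rw [hM, ← Ideal.map_mul, ← pow_two, hN, Ideal.map_bot]
  have hsq : (I ⊔ M) ^ 2 ≤ J := by
    rw [pow_two, Ideal.sup_mul, Ideal.mul_sup, Ideal.mul_sup, ← pow_two, hI, hMM, mul_comm M I]
    simp
    exact hJ.ge
  let Ī : Ideal (B ⧸ J) := (I ⊔ M).map (Ideal.Quotient.mk J)
  have hĪ : Ī ^ 2 = ⊥ := by
    rw [← Ideal.map_pow, eq_bot_iff]
    refine (Ideal.map_mono hsq).trans ?_
    rw [Ideal.map_quotient_self]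
  let g₁ : S' →ₐ[R] B ⧸ J := (Ideal.Quotient.mkₐ R J).comp f₁
  let g₂ : S' →ₐ[R] B ⧸ J := (Ideal.Quotient.mkₐ R J).comp f₂
  have hg : g₁ = g₂ := by
    refine H (B ⧸ J) Ī hĪ g₁ g₂ ?_ ?_
    · ext x
      change Ideal.Quotient.mk Ī (Ideal.Quotient.mk J (f₁ x)) =
        Ideal.Quotient.mk Ī (Ideal.Quotient.mk J (f₂ x))
      rw [Ideal.Quotient.eq, ← map_sub]
      exact Ideal.mem_map_of_mem _ (le_sup_left (a := I) (b := M) (h12 x))
    · have : N.map g₁.toRingHom = M.map (Ideal.Quotient.mk J) := by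
        rw [hM, Ideal.map_map]
        rfl
      rw [this]
      exact Ideal.map_mono le_sup_right
  intro x
  have := congrArg (fun φ : S' →ₐ[R] B ⧸ J => φ x) hg
  exact Ideal.Quotient.eq.1 this

/-- If lifts of `S'` along square-zero extensions `A → A/I` are unique as soon as `N` is sent into
`I` (where `N ⊆ S'` has square zero), then `S'` is formally unramified over `R`. -/
theorem formallyUnramified_of_uniq (N : Ideal S') (hN : N ^ 2 = ⊥)
    (H : ∀ (A : Type u) [CommRing A] [Algebra R A] (I : Ideal A), I ^ 2 = ⊥ →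
      ∀ f₁ f₂ : S' →ₐ[R] A,
        (Ideal.Quotient.mkₐ R I).comp f₁ = (Ideal.Quotient.mkₐ R I).comp f₂ →
        N.map f₁.toRingHom ≤ I → f₁ = f₂) :
    Algebra.FormallyUnramified R S' := by
  rw [Algebra.FormallyUnramified.iff_comp_injective]
  intro B _ _ I hI f₁ f₂ h
  have h12 : ∀ x, f₁ x - f₂ x ∈ I := by
    intro x
    have := congrArg (fun φ : S' →ₐ[R] B ⧸ I => φ x) h
    exact Ideal.Quotient.eq.1 this
  have s1 := claim_step N hN H B I hI f₁ f₂ h12
  have hI2 : (I * N.map f₁.toRingHom) ^ 2 = ⊥ := by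
    rw [eq_bot_iff, ← hI]
    exact Ideal.pow_right_mono (Ideal.mul_le_left (I := I) (J := N.map f₁.toRingHom)) 2
  have s2 := claim_step N hN H B _ hI2 f₁ f₂ s1
  have hz : I * N.map f₁.toRingHom * N.map f₁.toRingHom = ⊥ := by
    rw [mul_assoc, ← Ideal.map_mul, ← pow_two, hN, Ideal.map_bot, Ideal.mul_bot]
  ext x
  have := s2 x
  rw [hz, Ideal.mem_bot, sub_eq_zero] at this
  exact this

end RingLemma

section Bridge

variable {Z Z' X : Scheme.{u}}

theorem formallyUnramified_of_uniq_lift (h : Z ⟶ X) (i : Z ⟶ Z') (h' : Z' ⟶ X)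
    (hi : MoreMor.IsFirstOrderThickening i) (hic : i ≫ h' = h)
    (huniq : ∀ (T T' : Scheme.{u}) (t : T ⟶ T') (b : T' ⟶ X) (a : T ⟶ Z),
      MoreMor.IsFirstOrderThickening t → t ≫ b = a ≫ h →
      ∀ g₁ g₂ : T' ⟶ Z', (t ≫ g₁ = a ≫ i ∧ g₁ ≫ h' = b) → (t ≫ g₂ = a ≫ i ∧ g₂ ≫ h' = b) →
        g₁ = g₂) :
    FormallyUnramified h' := by
  haveI : IsClosedImmersion i := hi.1.1
  refine ⟨fun {U} hU {V'} hV' e => ?_⟩
  letI := (h'.appLE U V' e).hom.toAlgebra
  let N : Ideal Γ(Z', V') := RingHom.ker (i.app V').hom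
  have hN : N ^ 2 = ⊥ := by
    have h1 := congrArg (fun J : Z'.IdealSheafData => J.ideal ⟨V', hV'⟩) hi.2
    simp only [Scheme.IdealSheafData.ideal_mul, Pi.mul_apply, Scheme.Hom.ker_apply,
      Scheme.IdealSheafData.ideal_bot, Pi.bot_apply] at h1
    rw [pow_two]
    exact h1
  refine (formallyUnramified_of_uniq N hN ?_ : Algebra.FormallyUnramified Γ(X, U) Γ(Z', V'))
  intro A _ _ I hI f₁ f₂ h12 hNI
  have hsurj := i.app_surjective V' hV'
  have hle : RingHom.ker (i.app V').hom ≤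
      RingHom.ker ((Ideal.Quotient.mk I).comp f₁.toRingHom) := by
    intro x hx
    rw [RingHom.mem_ker, RingHom.comp_apply, Ideal.Quotient.eq_zero_iff_mem]
    exact hNI (Ideal.mem_map_of_mem _ hx)
  let ψ : Γ(Z, i ⁻¹ᵁ V') →+* A ⧸ I :=
    RingHom.liftOfSurjective (i.app V').hom hsurj ⟨_, hle⟩
  have hψ : ∀ x, ψ ((i.app V').hom x) = Ideal.Quotient.mk I (f₁ x) := fun x =>
    RingHom.liftOfRightInverse_comp_apply _ _ _ ⟨_, hle⟩ x
  let a : Spec (.of (A ⧸ I)) ⟶ Z :=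
    Spec.map (CommRingCat.ofHom ψ) ≫ (hV'.preimage i).fromSpec
  let b : Spec (.of A) ⟶ X :=
    Spec.map (CommRingCat.ofHom (algebraMap Γ(X, U) A)) ≫ hU.fromSpec
  have key : ∀ f : Γ(Z', V') →ₐ[Γ(X, U)] A, (∀ x, Ideal.Quotient.mk I (f x) =
      Ideal.Quotient.mk I (f₁ x)) →
      thk I ≫ (Spec.map (CommRingCat.ofHom f.toRingHom) ≫ hV'.fromSpec) = a ≫ i ∧
      (Spec.map (CommRingCat.ofHom f.toRingHom) ≫ hV'.fromSpec) ≫ h' = b := by
    intro f hf
    constructor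
    · have e1 : CommRingCat.ofHom f.toRingHom ≫ CommRingCat.ofHom (Ideal.Quotient.mk I) =
          i.appLE V' (i ⁻¹ᵁ V') le_rfl ≫ CommRingCat.ofHom ψ := by
        ext x
        change Ideal.Quotient.mk I (f x) = ψ ((i.appLE V' (i ⁻¹ᵁ V') le_rfl).hom x)
        rw [hf x, ← hψ x, Scheme.Hom.app_eq_appLE]
      change Spec.map _ ≫ Spec.map _ ≫ _ = (Spec.map _ ≫ _) ≫ i
      rw [Category.assoc, ← hV'.SpecMap_appLE_fromSpec i (hV'.preimage i) le_rfl,
        ← Spec.map_comp_assoc, ← Spec.map_comp_assoc, e1]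
    · have e2 : h'.appLE U V' e ≫ CommRingCat.ofHom f.toRingHom =
          CommRingCat.ofHom (algebraMap Γ(X, U) A) :=
        CommRingCat.hom_ext f.comp_algebraMap
      rw [Category.assoc, ← hU.SpecMap_appLE_fromSpec h' hV' e, ← Spec.map_comp_assoc, e2]
  have k1 := key f₁ (fun _ => rfl)
  have k2 := key f₂ (fun x => by
    have := congrArg (fun φ : Γ(Z', V') →ₐ[Γ(X, U)] A ⧸ I => φ x) h12
    exact this.symm)
  have w : thk I ≫ b = a ≫ h := by
    rw [← k1.2, ← Category.assoc, k1.1, Category.assoc, hic]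
  have := huniq _ _ (thk I) b a (fot_thk I hI) w _ _ k1 k2
  rw [cancel_mono, Spec.map_inj] at this
  exact AlgHom.ext fun x => congr($this x)

end Bridge

end Groth.Agent.Lib.Thickening2_helper7
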