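import Mathlib
import Groth.Prelude.Def_MoreMor
import Groth.Agent.Lib.Thickening_helper7

/-!
# Base change of (first order) thickenings — helper7
-/

set_option autoImplicit false
universe u
open CategoryTheory CategoryTheory.Limits AlgebraicGeometry

namespace Groth.Agent.Lib.Thickening3_helper7

open Groth.Agent.Lib.FormalEtale_helper7 Groth.Agent.Lib.Thickening_helper7

/-- Affine case: base change of a closed immersion with `ker ^ n = 0` along a map of affine schemes. -/
lemma ker_pow_of_isPullback_Spec {A B : CommRingCat.{u}} (φ : A ⟶ B) {W Z : Scheme.{u}}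
    (j : W ⟶ Spec A) [IsClosedImmersion j] (l : Z ⟶ Spec B) (f : Z ⟶ W)
    (H : IsPullback l f (Spec.map φ) j) {n : ℕ} (hj : j.ker ^ n = ⊥) : l.ker ^ n = ⊥ := by
  haveI : IsClosedImmersion l :=
    MorphismProperty.of_isPullback (P := @IsClosedImmersion) H.flip inferInstance
  obtain ⟨N, e, he⟩ := IsClosedImmersion.Spec_iff.1 (inferInstance : IsClosedImmersion j)
  have he' : j = e.hom ≫ thk N := he
  have hN : N ^ n = ⊥ := by
    apply pow_zero_of_ker_thk
    rw [he', Scheme.Hom.ker_comp_of_isIso] at hj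
    exact hj
  obtain ⟨K, e₂, he₂⟩ := IsClosedImmersion.Spec_iff.1 (inferInstance : IsClosedImmersion l)
  have he₂' : l = e₂.hom ≫ thk K := he₂
  let NB : Ideal B := N.map φ.hom
  let φ' : A ⧸ N →+* B ⧸ NB := Ideal.quotientMap NB φ.hom Ideal.le_comap_map
  have hφ' : φ'.comp (Ideal.Quotient.mk N) = (Ideal.Quotient.mk NB).comp φ.hom :=
    Ideal.quotientMap_comp_mk _
  have hthkN : e.inv ≫ j = thk N := by rw [he', Iso.inv_hom_id_assoc]
  have comm : thk NB ≫ Spec.map φ = (Spec.map (CommRingCat.ofHom φ') ≫ e.inv) ≫ j := by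
    rw [Category.assoc, hthkN]
    have e1 : φ ≫ CommRingCat.ofHom (Ideal.Quotient.mk NB) =
        CommRingCat.ofHom (Ideal.Quotient.mk N) ≫ CommRingCat.ofHom φ' := by
      ext x
      exact (congrArg (fun ρ : A →+* B ⧸ NB => ρ x) hφ').symm
    change Spec.map _ ≫ Spec.map _ = Spec.map _ ≫ Spec.map _
    rw [← Spec.map_comp, ← Spec.map_comp, e1]
  let s := H.lift (thk NB) (Spec.map (CommRingCat.ofHom φ') ≫ e.inv) comm
  have hs : s ≫ l = thk NB := H.lift_fst _ _ _
  let σ := Spec.preimage (s ≫ e₂.hom)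
  have hσ : Spec.map σ = s ≫ e₂.hom := Spec.map_preimage _
  have hσ2 : CommRingCat.ofHom (Ideal.Quotient.mk K) ≫ σ =
      CommRingCat.ofHom (Ideal.Quotient.mk NB) := by
    apply Spec.map_injective
    rw [Spec.map_comp, hσ, Category.assoc]
    change s ≫ e₂.hom ≫ thk K = thk NB
    rw [← he₂', hs]
  have hK : K ≤ NB := by
    intro x hx
    have h1 := congrArg (fun ρ => ρ.hom x) hσ2
    have h2 : σ.hom (Ideal.Quotient.mk K x) = Ideal.Quotient.mk NB x := h1
    rw [Ideal.Quotient.eq_zero_iff_mem.2 hx, map_zero] at h2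
    exact Ideal.Quotient.eq_zero_iff_mem.1 h2.symm
  have hKn : K ^ n = ⊥ := by
    rw [eq_bot_iff]
    refine (Ideal.pow_right_mono hK n).trans ?_
    rw [← Ideal.map_pow, hN, Ideal.map_bot]
  rw [he₂', Scheme.Hom.ker_comp_of_isIso]
  exact ker_thk_pow K hKn

lemma pow_eq_bot_of_comap {R R' : Type*} [CommRing R] [CommRing R'] (ε : R →+* R')
    (hε : Function.Surjective ε) (I' : Ideal R') {n : ℕ} (h : (I'.comap ε) ^ n = ⊥) :
    I' ^ n = ⊥ := by
  rw [← Ideal.map_comap_of_surjective _ hε I', ← Ideal.map_pow, h, Ideal.map_bot]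

/-- Base change of a closed immersion with `ker ^ n = 0`. -/
lemma ker_pow_of_isPullback {W W' P Z : Scheme.{u}} (j : W ⟶ W') [IsClosedImmersion j]
    (q : P ⟶ W') (l : Z ⟶ P) (f : Z ⟶ W) (H : IsPullback l f q j) {n : ℕ}
    (hj : j.ker ^ n = ⊥) : l.ker ^ n = ⊥ := by
  haveI : IsClosedImmersion l :=
    MorphismProperty.of_isPullback (P := @IsClosedImmersion) H.flip inferInstance
  have hex : ∀ p : P, ∃ (U' : W'.Opens) (O : P.Opens), IsAffineOpen U' ∧ IsAffineOpen O ∧
      p ∈ O ∧ O ≤ q ⁻¹ᵁ U' := by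
    intro p
    obtain ⟨_, ⟨U', hU', rfl⟩, hxU', -⟩ :=
      W'.isBasis_affineOpens.exists_subset_of_mem_open (Set.mem_univ (q p)) isOpen_univ
    obtain ⟨_, ⟨O, hO, rfl⟩, hpO, hOU⟩ :=
      P.isBasis_affineOpens.exists_subset_of_mem_open hxU' (q ⁻¹ᵁ U').isOpen
    exact ⟨U', O, hU', hO, hpO, hOU⟩
  choose U' O hU' hO hpO hOU using hex
  rw [eq_bot_iff]
  refine Scheme.IdealSheafData.le_of_iSup_eq_top
    (fun p : P => (⟨(hO p).fromSpec ''ᵁ ⊤,
      (isAffineOpen_top _).image_of_isOpenImmersion (hO p).fromSpec⟩ : P.affineOpens)) ?_ ?_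
  · rw [eq_top_iff]
    intro p _
    refine TopologicalSpace.Opens.mem_iSup.2 ⟨p, ?_⟩
    change p ∈ (hO p).fromSpec ''ᵁ ⊤
    rw [Scheme.Hom.image_top_eq_opensRange, (hO p).opensRange_fromSpec]
    exact hpO p
  · intro p
    let o := (hO p).fromSpec
    let u' := (hU' p).fromSpec
    let φ := q.appLE (U' p) (O p) (hOU p)
    have hφ : Spec.map φ ≫ u' = o ≫ q := (hU' p).SpecMap_appLE_fromSpec q (hO p) (hOU p)
    have hjA : (pullback.snd j u').ker ^ n = ⊥ :=
      ker_pow_eq_bot_of_isPullback_of_isOpenImmersion j u' (pullback.snd j u')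
        (pullback.fst j u') (IsPullback.of_hasPullback j u').flip hj
    have comm : (pullback.fst l o ≫ f) ≫ j = (pullback.snd l o ≫ Spec.map φ) ≫ u' := by
      rw [Category.assoc, ← H.w, pullback.condition_assoc, Category.assoc, hφ]
    let fB : pullback l o ⟶ pullback j u' :=
      pullback.lift (pullback.fst l o ≫ f) (pullback.snd l o ≫ Spec.map φ) comm
    have s0 : IsPullback (pullback.fst l o ≫ f) (pullback.snd l o) j (o ≫ q) :=
      (IsPullback.of_hasPullback l o).paste_horiz H.flip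
    have s : IsPullback (fB ≫ pullback.fst j u') (pullback.snd l o) j (Spec.map φ ≫ u') := by
      rw [show fB ≫ pullback.fst j u' = pullback.fst l o ≫ f from pullback.lift_fst _ _ _, hφ]
      exact s0
    have HB : IsPullback (pullback.snd l o) fB (Spec.map φ) (pullback.snd j u') :=
      (IsPullback.of_right s (pullback.lift_snd _ _ _) (IsPullback.of_hasPullback j u')).flip
    have hlB : (pullback.snd l o).ker ^ n = ⊥ :=
      ker_pow_of_isPullback_Spec φ (pullback.snd j u') (pullback.snd l o) fB HB hjA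
    have hk := Scheme.ker_ideal_of_isPullback_of_isOpenImmersion l (pullback.snd l o)
      (pullback.fst l o) o (IsPullback.of_hasPullback l o).flip ⟨⊤, isAffineOpen_top _⟩
    have h1 := congrArg (fun J : (Spec Γ(P, O p)).IdealSheafData =>
      J.ideal ⟨⊤, isAffineOpen_top _⟩) hlB
    simp only [Scheme.IdealSheafData.ideal_pow, Pi.pow_apply] at h1
    rw [hk] at h1
    rw [Scheme.IdealSheafData.ideal_pow, Pi.pow_apply]
    change _ ≤ (⊥ : Ideal _)
    have hsurj : Function.Surjective (o.appIso ⊤).inv.hom :=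
      (ConcreteCategory.bijective_of_isIso (o.appIso ⊤).inv).2
    exact (pow_eq_bot_of_comap _ hsurj _ h1).le

/-- Base change of a first order thickening is a first order thickening. -/
theorem fot_of_isPullback {W W' P Z : Scheme.{u}} (j : W ⟶ W') (q : P ⟶ W') (l : Z ⟶ P)
    (f : Z ⟶ W) (H : IsPullback l f q j) (hj : MoreMor.IsFirstOrderThickening j) :
    MoreMor.IsFirstOrderThickening l := by
  obtain ⟨⟨hci, hsurj⟩, hsq⟩ := hj
  haveI := hci
  refine ⟨⟨MorphismProperty.of_isPullback (P := @IsClosedImmersion) H.flip hci,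
    MorphismProperty.of_isPullback (P := @Surjective) H.flip hsurj⟩, ?_⟩
  rw [← pow_two]
  exact ker_pow_of_isPullback j q l f H (by rw [pow_two]; exact hsq)

end Groth.Agent.Lib.Thickening3_helper7
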