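import Groth.Agent.Lib.AlgSpFormal6_helper7
import Groth.Agent.Lib.AlgSpUniv_helper7
import Groth.Agent.Lib.AlgSpUnram_helper7
import Groth.Agent.Lib.Thickening3_helper7
import Groth.Agent.Lib.Thickening2_helper7

/-!
# Base change of (finite order) thickenings of algebraic spaces (helper7)
-/

set_option autoImplicit false
universe u
open CategoryTheory CategoryTheory.Limits AlgebraicGeometry Opposite MorphismProperty
open AlgSp Groth.Agent.Lib.FormalEtale_helper7 Groth.Agent.Lib.AlgSpCov_helper7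
  Groth.Agent.Lib.AlgSpOpenSub_helper7 Groth.Agent.Lib.AlgSpPullback_helper7
  Groth.Agent.Lib.AlgSpIso_helper7 Groth.Agent.Lib.AlgSpInfLift_helper6
  Groth.Agent.Lib.AlgSpQC_helper7 Groth.Agent.Lib.AlgSpPoints_helper7
  Groth.Agent.Lib.AlgSpFormal_helper7 Groth.Agent.Lib.AlgSpFormal2_helper7
  Groth.Agent.Lib.AlgSpFormal3_helper7 Groth.Agent.Lib.AlgSpEpi_helper7
  Groth.Agent.Lib.AlgSpFormal5_helper7 Groth.Agent.Lib.AlgSpUniv_helper7
  Groth.Agent.Lib.AlgSpUnram_helper7 Groth.Agent.Lib.Thickening_helper7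
  Groth.Agent.Lib.Thickening3_helper7 Groth.Agent.Lib.Thickening2_helper7

namespace Groth.Agent.Lib.AlgSpThickBC_helper7

section Sch

set_option backward.isDefEq.respectTransparency.types false in
/-- stalk maps of flat morphisms are injective -/
lemma stalkMap_injective_of_flat {X Y : Scheme.{u}} (f : X ⟶ Y) [Flat f] (x : X) :
    Function.Injective (f.stalkMap x).hom := by
  algebraize [(f.stalkMap x).hom]
  have : Module.FaithfullyFlat (Y.presheaf.stalk (f x)) (X.presheaf.stalk x) :=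
    @Module.FaithfullyFlat.of_flat_of_isLocalHom _ _ _ _ _ _ _
      (Flat.stalkMap f x) (f.toLRSHom.prop x)
  have h2 : (f.stalkMap x).hom.FaithfullyFlat := this
  exact h2.injective

/-- a flat surjective morphism is injective on sections -/
lemma app_injective_of_flat_of_surjective {V₁ V : Scheme.{u}} (e : V₁ ⟶ V) [Flat e]
    [Surjective e] (O : V.Opens) : Function.Injective (e.app O).hom := by
  rw [injective_iff_map_eq_zero]
  intro y hy
  apply TopCat.Presheaf.section_ext V.sheaf O y 0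
  intro v hv
  change (V.sheaf.presheaf.germ O v hv) y = (V.sheaf.presheaf.germ O v hv) 0
  rw [map_zero]
  change V.presheaf.germ O v hv y = 0
  obtain ⟨v₁, rfl⟩ := e.surjective v
  apply stalkMap_injective_of_flat e v₁
  rw [map_zero]
  have h1 := Scheme.Hom.germ_stalkMap_apply e O v₁ hv y
  have hy' : (e.app O) y = 0 := hy
  rw [hy', map_zero] at h1
  exact h1

/-- descent of `ker ^ n = 0` along a flat surjective morphism -/
lemma ker_pow_eq_bot_of_flat_surjective {T V V₁ T₁ : Scheme.{u}} (t : T ⟶ V) [QuasiCompact t]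
    (e : V₁ ⟶ V) [Flat e] [Surjective e] (t₁ : T₁ ⟶ V₁) [QuasiCompact t₁] (k : T₁ ⟶ T)
    (w : t₁ ≫ e = k ≫ t) {n : ℕ} (h : t₁.ker ^ n = ⊥) : t.ker ^ n = ⊥ := by
  rw [eq_bot_iff]
  intro O
  rw [Scheme.IdealSheafData.ideal_pow, Pi.pow_apply, Scheme.Hom.ker_apply]
  change _ ≤ (⊥ : Ideal _)
  let I₁ : Ideal Γ(V₁, e ⁻¹ᵁ O.1) := RingHom.ker (t₁.app (e ⁻¹ᵁ O.1)).hom
  have hI : RingHom.ker (t.app O.1).hom ≤ I₁.comap (e.app O.1).hom := by
    intro x hx
    rw [Ideal.mem_comap, RingHom.mem_ker]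
    have h2 := Scheme.Hom.congr_app w O.1
    rw [Scheme.Hom.comp_app, Scheme.Hom.comp_app] at h2
    have h3 := congrArg (fun φ => φ.hom x) h2
    have hx0 : (t.app O.1).hom x = 0 := hx
    have h4 : (t₁.app (e ⁻¹ᵁ O.1)).hom ((e.app O.1).hom x) =
        (T₁.presheaf.map (eqToHom _).op).hom ((k.app (t ⁻¹ᵁ O.1)).hom ((t.app O.1).hom x)) := h3
    rw [h4, hx0, map_zero, map_zero]
  have hI₁ : I₁ ^ n = ⊥ := by
    rw [eq_bot_iff]
    intro z hz
    rw [Ideal.mem_bot]
    apply V₁.IsSheaf.section_ext fun x hx => ?_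
    obtain ⟨_, ⟨O₁, hO₁, rfl⟩, hxO₁, hle : O₁ ≤ e ⁻¹ᵁ O.1⟩ :=
      V₁.isBasis_affineOpens.exists_subset_of_mem_open hx (e ⁻¹ᵁ O.1).isOpen
    refine ⟨O₁, hle, hxO₁, ?_⟩
    rw [map_zero]
    have hres : I₁ ≤ (t₁.ker.ideal ⟨O₁, hO₁⟩).comap (V₁.presheaf.map (homOfLE hle).op).hom := by
      intro s hs
      rw [Ideal.mem_comap, Scheme.Hom.ker_apply, RingHom.mem_ker]
      have hn := t₁.naturality (homOfLE hle).op
      have h5 := congrArg (fun φ => φ.hom s) hn
      have hs0 : (t₁.app (e ⁻¹ᵁ O.1)).hom s = 0 := hs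
      have h6 : (t₁.app O₁).hom ((V₁.presheaf.map (homOfLE hle).op).hom s) =
          (T₁.presheaf.map _).hom ((t₁.app (e ⁻¹ᵁ O.1)).hom s) := h5
      rw [h6, hs0, map_zero]
    have hz' := Ideal.le_comap_pow _ n (Ideal.pow_right_mono hres n hz)
    have h0 := congrArg (fun J : V₁.IdealSheafData => J.ideal ⟨O₁, hO₁⟩) h
    simp only [Scheme.IdealSheafData.ideal_pow, Pi.pow_apply, Scheme.IdealSheafData.ideal_bot,
      Pi.bot_apply] at h0
    rw [Ideal.mem_comap, h0, Ideal.mem_bot] at hz'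
    exact hz'
  have hinj := app_injective_of_flat_of_surjective e O.1
  calc RingHom.ker (t.app O.1).hom ^ n ≤ (I₁.comap (e.app O.1).hom) ^ n :=
        Ideal.pow_right_mono hI n
    _ ≤ (I₁ ^ n).comap (e.app O.1).hom := Ideal.le_comap_pow _ n
    _ = ⊥ := by
      rw [hI₁, ← RingHom.ker_eq_comap_bot, (RingHom.injective_iff_ker_eq_bot _).1 hinj]

/-- `ker ^ n = 0` can be checked on all affine opens of the target -/
lemma ker_pow_eq_bot_of_forall_affine {T T' : Scheme.{u}} (t : T ⟶ T') [QuasiCompact t] {n : ℕ}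
    (h : ∀ O : T'.affineOpens, (t ∣_ O.1).ker ^ n = ⊥) : t.ker ^ n = ⊥ := by
  rw [eq_bot_iff]
  refine Scheme.IdealSheafData.le_of_iSup_eq_top
    (fun O : T'.affineOpens => (⟨O.1.ι ''ᵁ ⊤,
      (isAffineOpen_top (↑O.1 : Scheme)).image_of_isOpenImmersion O.1.ι⟩ : T'.affineOpens)) ?_ ?_
  · rw [eq_top_iff]
    intro x _
    obtain ⟨_, ⟨U, hU, rfl⟩, hxU, -⟩ :=
      T'.isBasis_affineOpens.exists_subset_of_mem_open (Set.mem_univ x) isOpen_univ
    refine TopologicalSpace.Opens.mem_iSup.2 ⟨⟨U, hU⟩, ?_⟩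
    have hmem : x ∈ (Scheme.Opens.ι (U : T'.Opens)) ''ᵁ ⊤ := by
      rw [Scheme.Opens.ι_image_top]
      exact hxU
    exact hmem
  · intro O
    have hk := Scheme.ker_ideal_of_isPullback_of_isOpenImmersion t (t ∣_ O.1) (t ⁻¹ᵁ O.1).ι O.1.ι
      (isPullback_morphismRestrict t O.1) ⟨⊤, isAffineOpen_top _⟩
    have h1 := congrArg (fun J : (↑O.1 : Scheme).IdealSheafData =>
      J.ideal ⟨⊤, isAffineOpen_top _⟩) (h O)
    simp only [Scheme.IdealSheafData.ideal_pow, Pi.pow_apply] at h1
    rw [hk] at h1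
    rw [Scheme.IdealSheafData.ideal_pow, Pi.pow_apply]
    change _ ≤ (⊥ : Ideal _)
    have hsurj : Function.Surjective (O.1.ι.appIso ⊤).inv.hom :=
      (ConcreteCategory.bijective_of_isIso (O.1.ι.appIso ⊤).inv).2
    exact (pow_eq_bot_of_comap _ hsurj _ h1).le

end Sch

variable {S : Scheme.{u}}

/-- The key lemma: the pullback of an `n`-th order thickening of algebraic spaces along an
arbitrary morphism from a scheme is an `n`-th order thickening of schemes. -/
theorem powZero_of_isPullback {W W' : Sp S} (hW' : IsAlgSpace W') {j : W ⟶ W'}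
    (hthick : IsThickMor j) {n : ℕ} (hloc : AffLocT (powZero n) j)
    {V W₀ : Over S} (c : (yon S).obj V ⟶ W') (fst : (yon S).obj W₀ ⟶ W) (snd : W₀ ⟶ V)
    (hpb : IsPullback fst ((yon S).map snd) j c) : powZero n snd.left := by
  obtain ⟨U, p, hpe, hps⟩ := hW'.atlas
  -- the thickening over the atlas
  have hpbU : IsPullback (hthick.rep.fst p) ((yon S).map (hthick.rep.snd p)) j p :=
    hthick.rep.isPullback p
  have hthU : thick (hthick.rep.snd p).left := hthick.property_snd p
  haveI : IsClosedImmersion (hthick.rep.snd p).left := hthU.1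
  have hjU : (hthick.rep.snd p).left.ker ^ (n + 1) = ⊥ := by
    apply ker_pow_eq_bot_of_forall_affine
    intro O
    have hres : IsPullback ((hthick.rep.snd p).left ∣_ O.1) ((hthick.rep.snd p).left ⁻¹ᵁ O.1).ι
        O.1.ι (hthick.rep.snd p).left := isPullback_morphismRestrict _ _
    have sqO := isPullback_of_scheme_isPullback hpbU hres
    have hO_et : RepWith @Etale
        ((yon S).map (Over.homMk O.1.ι rfl : Over.mk (O.1.ι ≫ U.hom) ⟶ U) ≫ p) :=
      repWith_comp _ ((repWith_yon_map_iff @Etale _).2 (inferInstance : Etale O.1.ι)) hpe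
    have hOaff : IsAffine (Over.mk (O.1.ι ≫ U.hom)).left := O.2
    have key := hloc _ _ _ hOaff hO_et sqO
    exact key
  -- pull the atlas back along `c`
  have hpb₁ : IsPullback (hpe.rep.fst c) ((yon S).map (hpe.rep.snd c)) p c := hpe.rep.isPullback c
  haveI he_et : Etale (hpe.rep.snd c).left := hpe.property_snd c
  haveI he_surj : Surjective (hpe.rep.snd c).left := hps.property c _ _ hpb₁
  obtain ⟨c₁', hc₁'⟩ := (yon S).map_surjective (hpe.rep.fst c)
  -- scheme level pullback
  have hsq₁ : IsPullback (pullback.snd (hthick.rep.snd p).left c₁'.left)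
      (pullback.fst (hthick.rep.snd p).left c₁'.left) c₁'.left (hthick.rep.snd p).left :=
    (IsPullback.of_hasPullback (hthick.rep.snd p).left c₁'.left).flip
  have hj₁ : (pullback.snd (hthick.rep.snd p).left c₁'.left).ker ^ (n + 1) = ⊥ :=
    ker_pow_of_isPullback (hthick.rep.snd p).left c₁'.left _ _ hsq₁ hjU
  -- the comparison map
  have hcond : pullback.fst (hthick.rep.snd p).left c₁'.left ≫ (hthick.rep.snd p).left =
      pullback.snd (hthick.rep.snd p).left c₁'.left ≫ c₁'.left := pullback.condition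
  have hk₁w : pullback.fst (hthick.rep.snd p).left c₁'.left ≫ (hthick.rep.pullback p).hom =
      pullback.snd (hthick.rep.snd p).left c₁'.left ≫ (hpe.rep.pullback c).hom := by
    rw [← Over.w (hthick.rep.snd p), ← Category.assoc, hcond, Category.assoc, Over.w c₁']
  let W₁' : Over S :=
    Over.mk (pullback.snd (hthick.rep.snd p).left c₁'.left ≫ (hpe.rep.pullback c).hom)
  let j₁' : W₁' ⟶ hpe.rep.pullback c :=
    Over.homMk (pullback.snd (hthick.rep.snd p).left c₁'.left) rfl
  let k₁' : W₁' ⟶ hthick.rep.pullback p :=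
    Over.homMk (pullback.fst (hthick.rep.snd p).left c₁'.left) hk₁w
  have hkj : k₁' ≫ hthick.rep.snd p = j₁' ≫ c₁' := by
    ext
    exact hcond
  have comm : ((yon S).map k₁' ≫ hthick.rep.fst p) ≫ j =
      (yon S).map (j₁' ≫ hpe.rep.snd c) ≫ c := by
    rw [Category.assoc, hpbU.w, ← Category.assoc, ← Functor.map_comp, hkj, Functor.map_comp,
      Category.assoc, hc₁', hpb₁.w, ← Category.assoc, ← Functor.map_comp]
  obtain ⟨k', hk'⟩ := (yon S).map_surjective (hpb.lift _ _ comm)
  have hk'snd : k' ≫ snd = j₁' ≫ hpe.rep.snd c := (yon S).map_injective (by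
    rw [Functor.map_comp, hk', hpb.lift_snd])
  have hkl : pullback.snd (hthick.rep.snd p).left c₁'.left ≫ (hpe.rep.snd c).left =
      k'.left ≫ snd.left := by
    have := congrArg (fun m => m.left) hk'snd
    exact this.symm
  have hthk : thick snd.left := hthick.property c fst snd hpb
  haveI : IsClosedImmersion snd.left := hthk.1
  exact ker_pow_eq_bot_of_flat_surjective snd.left (hpe.rep.snd c).left _ k'.left hkl hj₁

/-- Base change of an `n`-th order thickening (chart condition). -/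
theorem affLocT_powZero_of_isPullback {W W' P Z : Sp S} (hW' : IsAlgSpace W') {j : W ⟶ W'}
    {q : P ⟶ W'} {l : Z ⟶ P} {f : Z ⟶ W} (H : IsPullback l f q j) (hthick : IsThickMor j)
    {n : ℕ} (hloc : AffLocT (powZero n) j) : AffLocT (powZero n) l := by
  intro V W₀ b fst snd _ _ hpb
  exact powZero_of_isPullback hW' hthick hloc (b ≫ q) (fst ≫ f) snd (hpb.paste_horiz H.flip)

/-- Base change of a first order thickening of algebraic spaces. -/
theorem isFOThickMor_of_isPullback {W W' P Z : Sp S} (hW' : IsAlgSpace W') {j : W ⟶ W'}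
    {q : P ⟶ W'} {l : Z ⟶ P} {f : Z ⟶ W} (H : IsPullback l f q j) (hj : IsFOThickMor j) :
    IsFOThickMor l := by
  have hloc : AffLocT (powZero 1) j := fun V W b fst snd hV hb hpb =>
    (powZero_one_iff _).2 (hj.2 b fst snd hV hb hpb)
  refine ⟨repWith_fst_of_isPullback thick H hj.1, ?_⟩
  intro V W₀ b fst snd hV hb hpb
  exact (powZero_one_iff _).1
    (affLocT_powZero_of_isPullback hW' H hj.1 hloc b fst snd hV hb hpb)

/-- The pullback of a first order thickening of algebraic spaces to a scheme is a first order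
thickening of schemes. -/
theorem fot_of_isPullback_FOThick {W W' : Sp S} (hW' : IsAlgSpace W') {j : W ⟶ W'}
    (hj : IsFOThickMor j) {V W₀ : Over S} (c : (yon S).obj V ⟶ W')
    (fst : (yon S).obj W₀ ⟶ W) (snd : W₀ ⟶ V) (hpb : IsPullback fst ((yon S).map snd) j c) :
    MoreMor.IsFirstOrderThickening snd.left := by
  have hloc : AffLocT (powZero 1) j := fun V W b fst snd hV hb hpb =>
    (powZero_one_iff _).2 (hj.2 b fst snd hV hb hpb)
  exact ⟨hj.1.property c fst snd hpb,
    (powZero_one_iff _).1 (powZero_of_isPullback hW' hj.1 hloc c fst snd hpb)⟩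

/-- A first order thickening of schemes gives a first order thickening of sheaves. -/
theorem isFOThickMor_yon_map {T T' : Over S} (t : T ⟶ T')
    (ht : MoreMor.IsFirstOrderThickening t.left) : IsFOThickMor ((yon S).map t) := by
  refine ⟨(isThickMor_yon_map_iff t).2 ht.1, ?_⟩
  intro V W₀ b fst snd _ _ hpb
  obtain ⟨b', rfl⟩ := (yon S).map_surjective b
  obtain ⟨fst', rfl⟩ := (yon S).map_surjective fst
  have h1 : IsPullback fst'.left snd.left t.left b'.left := isPullback_left_of_isPullback_yon hpb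
  exact (fot_of_isPullback t.left b'.left snd.left fst'.left h1.flip ht).2

end Groth.Agent.Lib.AlgSpThickBC_helper7
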