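import Groth.Agent.Lib.AlgSpWhereFlat_helper7
import Groth.Agent.Lib.AlgSpThick_helper7

/-!
# Flatness deforms along arbitrary thickenings, f.p. over f.t. case (helper7): S10598
-/

set_option autoImplicit false
set_option linter.style.haveILetI false
universe u
open CategoryTheory CategoryTheory.Limits AlgebraicGeometry Opposite MorphismProperty
open AlgSp Groth.Agent.Lib.AlgSpPoints_helper7
  Groth.Agent.Lib.AlgSpFlatLocusH7 Groth.Agent.Lib.AlgSpWhereFlatH7
  Groth.Agent.Lib.AlgSpThick_helper7 Groth.Agent.Lib.AlgSpDeformH7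

namespace Groth.Agent.Lib.AlgSpThickFlatH7

variable {S : Scheme.{u}}

theorem thickening_flat_fp_over_ft {X X' Y Y' B B' : AlgSp.Space S} (iX : X ⟶ X') (iY : Y ⟶ Y')
    (iB : B ⟶ B') (f : X ⟶ Y) (f' : X' ⟶ Y') (g : Y ⟶ B) (g' : Y' ⟶ B')
    (hcX : IsPullback iX.hom (f ≫ g).hom (f' ≫ g').hom iB.hom)
    (hcY : IsPullback iY.hom g.hom g'.hom iB.hom)
    (w : iX ≫ f' = f ≫ iY)
    (hB : AlgSp.IsThickMor iB.hom)
    (hg' : AlgSp.LocP @LocallyOfFiniteType g'.hom)
    (hflat : AlgSp.LocP @Flat (f' ≫ g').hom)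
    (hfp : AlgSp.LocP @LocallyOfFinitePresentation (f' ≫ g').hom)
    (hf : AlgSp.LocP @Flat f.hom) :
    AlgSp.LocP @Flat f'.hom ∧
    ∀ x' : AlgSp.Points X'.obj, AlgSp.IsFlatAtMor g'.hom (AlgSp.Points.map f'.hom x') := by
  have w' : iX.hom ≫ f'.hom = f.hom ≫ iY.hom := congrArg (fun t => t.hom) w
  have hcX' : IsPullback iX.hom (f.hom ≫ g.hom) (f'.hom ≫ g'.hom) iB.hom := hcX
  have hsqX : IsPullback iX.hom f.hom f'.hom iY.hom := IsPullback.of_bot hcX' w' hcY
  have hiX : IsThickMor iX.hom := isThickMor_fst_of_isPullback hcX hB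
  have hsurj := (isHomeomorph_map_of_isThickMor iX.hom hiX).surjective
  have hf' : LocP @Flat f'.hom := by
    rw [locP_flat_iff]
    intro x'
    obtain ⟨x, rfl⟩ := hsurj x'
    exact (flatLocus_baseChange f' g' hfp hflat hg' X Y B iB f g iX iY hcY hsqX x).1
      ((locP_flat_iff f.hom).1 hf x)
  exact ⟨hf', fun x' => flatAt_of_comp X'.property f'.hom g'.hom hf' hflat x'⟩

end Groth.Agent.Lib.AlgSpThickFlatH7
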