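import Groth.Prelude.Def_W4decUnivBdd
import Groth.Agent.Lib.AlgSpPoints_helper7
import Mathlib.RingTheory.Spectrum.Prime.Noetherian

/-!
# Universally bounded fibres: basic lemmas (helper4)
-/

set_option autoImplicit false
universe u
open CategoryTheory CategoryTheory.Limits AlgebraicGeometry Opposite

namespace Groth.Agent.Lib.AlgSpUBF_helper4

open AlgSp

/-- For a finite dimensional algebra over a field, the number of primes is at most the dimension. -/
theorem card_primeSpectrum_le_finrank (K A : Type*) [Field K] [CommRing A] [Algebra K A]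
    [Module.Finite K A] : Nat.card (PrimeSpectrum A) ≤ Module.finrank K A := by
  have : IsArtinianRing A := IsArtinianRing.of_finite K A
  let _ : Fintype (PrimeSpectrum A) := Fintype.ofFinite _
  rw [IsArtinianRing.finrank_eq_sum_primeSpectrum A K, Nat.card_eq_fintype_card, Fintype.card,
    Finset.card_eq_sum_ones]
  refine Finset.sum_le_sum fun p _ => ?_
  have : Module.Finite K (Localization.AtPrime p.asIdeal) :=
    Module.Finite.of_surjective (Algebra.algHom K A (Localization.AtPrime p.asIdeal)).toLinearMap
      (IsArtinianRing.localization_surjective p.asIdeal.primeCompl (Localization.AtPrime p.asIdeal))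
  exact Module.finrank_pos (R := K) (M := Localization.AtPrime p.asIdeal)

theorem finrank_eq_of_field {T : Scheme.{u}} {K : Type u} [Field K]
    (c : T ⟶ Spec (CommRingCat.of K)) [IsFinite c] (s : ↥(Spec (CommRingCat.of K))) :
    ∃ (A : Type u) (_ : CommRing A) (_ : Algebra K A) (_ : Module.Finite K A)
      (_ : ↥T ≃ PrimeSpectrum A), c.finrank s = Module.finrank K A := by
  have : IsAffine T := isAffine_of_isAffineHom c
  obtain ⟨φ, hφ⟩ := Spec.map_surjective (T.isoSpec.inv ≫ c)
  have hfin : IsFinite (Spec.map φ) := by rw [hφ]; infer_instance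
  have hflat : Flat (Spec.map φ) := inferInstance
  have h1 : c.finrank s = (Spec.map φ).finrank s := by
    rw [hφ, Scheme.Hom.finrank_comp_left_of_isIso]
  rw [IsFinite.SpecMap_iff] at hfin
  rw [Flat.SpecMap_iff] at hflat
  rw [Scheme.Hom.finrank_SpecMap_eq_finrank hfin hflat] at h1
  algebraize [φ.hom]
  refine ⟨Γ(T, ⊤), inferInstance, inferInstance, ?_, T.isoSpec.hom.homeomorph.toEquiv, ?_⟩
  · exact hfin
  · rw [h1, ← RingHom.algebraMap_toAlgebra φ.hom, RingHom.finrank_algebraMap,
      Module.rankAtStalk_eq_finrank_of_free]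
    rfl

theorem encard_univ_le_of_finrank_le {T : Scheme.{u}} {K : Type u} [Field K]
    (c : T ⟶ Spec (CommRingCat.of K)) [IsFinite c] (n : ℕ) (s : ↥(Spec (CommRingCat.of K)))
    (h : c.finrank s ≤ n) : (Set.univ : Set ↥T).encard ≤ n := by
  obtain ⟨A, _, _, _, e, he⟩ := finrank_eq_of_field c s
  have h2 := card_primeSpectrum_le_finrank K A
  have : IsArtinianRing A := IsArtinianRing.of_finite K A
  have : Finite ↥T := Finite.of_equiv _ e.symm
  rw [Set.encard_univ, ENat.card_eq_coe_natCard, Nat.card_congr e]
  exact_mod_cast (h2.trans (he ▸ h))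

end Groth.Agent.Lib.AlgSpUBF_helper4
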