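import Groth.Agent.Lib.UnramLoc_helper7
import Groth.Agent.Lib.ChartIndep_helper8
import Groth.Agent.Lib.BCChart_helper8
import Groth.Agent.Lib.AlgSpLocP9_helper7

/-!
# The unramified locus of a morphism of algebraic spaces (helper7)

Chart independence of "unramified near a point", openness of the unramified locus and its
compatibility with arbitrary base change.
-/

set_option autoImplicit false
universe u
open CategoryTheory CategoryTheory.Limits AlgebraicGeometry Opposite MorphismProperty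
open AlgSp Groth.Agent.Lib.AlgSpQC2_helper7 Groth.Agent.Lib.AlgSpPoints_helper7
  Groth.Agent.Lib.AlgSpQC_helper7 Groth.Agent.Lib.AlgSpDiag_helper7 Groth.Agent.Lib.AlgSpTop_helper7
  Groth.Agent.Lib.AlgSpPullback_helper7 Groth.Agent.Lib.AlgSpSep_helper7
  Groth.Agent.Lib.AlgSpLocP_helper7 Groth.Agent.Lib.AlgSpUniv_helper7
  Groth.Agent.Lib.AlgSpFpqc_helper7 Groth.Agent.Lib.AlgSpFpqc2_helper7
  Groth.Agent.Lib.AlgSpDescent_helper7 Groth.Agent.Lib.AlgSpEtale_helper7
  Groth.Agent.Lib.AlgSpLocP2_helper7 Groth.Agent.Lib.AlgSpLocP3_helper7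
  Groth.Agent.Lib.AlgSpEpi_helper7
  Groth.Agent.Lib.SchSrcLocal_helper7 Groth.Agent.Lib.AlgSpLocP4_helper7
  Groth.Agent.Lib.AlgSpLocP5_helper7 Groth.Agent.Lib.AlgSpLocP6_helper7
  Groth.Agent.Lib.SchSrcLocal2_helper7 Groth.Agent.Lib.AlgSpSrc_helper7
  Groth.Agent.Lib.AlgSpLocP7_helper7 Groth.Agent.Lib.AlgSpLocP8_helper7
  Groth.Agent.Lib.AlgSpLocP9_helper7 Groth.Agent.Lib.UnramLocH7

namespace Groth.Agent.Lib.AlgSpUnramLocusH7

variable {S : Scheme.{u}}

/-- The pointwise predicate "unramified near the point" of the statements. -/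
def QU : ∀ (U V : Scheme.{u}), (U ⟶ V) → ↥U → Prop :=
  fun U _ h u => ∃ W : U.Opens, u ∈ W ∧ LocallyOfFiniteType (W.ι ≫ h) ∧ FormallyUnramified (W.ι ≫ h)

theorem qu_iff_near {U V : Scheme.{u}} (h : U ⟶ V) (u : ↥U) : QU U V h u ↔ Near PU h u := Iff.rfl

theorem near_chart_indep {F G : Sp S} (f : F ⟶ G) {U V U' V' : Over S}
    (a : (yon S).obj U ⟶ F) (b : (yon S).obj V ⟶ G) (h : U ⟶ V) (u : ↥U.left)
    (a' : (yon S).obj U' ⟶ F) (b' : (yon S).obj V' ⟶ G) (h' : U' ⟶ V') (u' : ↥U'.left)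
    (hae : RepWith @Etale a) (hbe : RepWith @Etale b)
    (ha'e : RepWith @Etale a') (hb'e : RepWith @Etale b')
    (comm : a ≫ f = (yon S).map h ≫ b) (comm' : a' ≫ f = (yon S).map h' ≫ b')
    (hpt : Points.ofPt a u = Points.ofPt a' u') :
    Near PU h.left u ↔ Near PU h'.left u' := by
  have := ChartIndepH8.chart_indep_gen (β := Prop) (fun h u => Near PU h u)
    (fun p _ h w => propext ⟨near_of_precomp etLocal_unramified p h w,
      near_precomp etLocal_unramified p h w⟩)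
    (fun k q _ w => propext ⟨near_of_postcomp etLocal_unramified k q w,
      near_postcomp etLocal_unramified k q w⟩)
    f a b h u a' b' h' u' hae hbe ha'e hb'e comm comm' hpt
  exact Iff.of_eq this

theorem hasAtMor_iff {X Y : AlgSp.Space S} (f : X ⟶ Y) {U V : Over S}
    (a : (yon S).obj U ⟶ X.obj) (b : (yon S).obj V ⟶ Y.obj) (h : U ⟶ V) (u : ↥U.left)
    (hae : RepWith @Etale a) (hbe : RepWith @Etale b) (comm : a ≫ f.hom = (yon S).map h ≫ b) :
    HasAtMor QU f.hom (Points.ofPt a u) ↔ Near PU h.left u := by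
  constructor
  · rintro ⟨U', V', a', b', h', u', ha'e, hb'e, comm', hu', hq⟩
    exact (near_chart_indep f.hom a' b' h' u' a b h u ha'e hb'e hae hbe comm' comm hu').mp hq
  · intro hq
    exact ⟨U, V, a, b, h, u, hae, hbe, comm, rfl, hq⟩

theorem isOpen_unramLocus {X Y : AlgSp.Space S} (f : X ⟶ Y) :
    IsOpen {x : Points X.obj | HasAtMor QU f.hom x} := by
  rw [isOpen_iff_forall_mem_open]
  rintro x ⟨U, V, a, b, h, u, hae, hbe, comm, hu, O, hO, hP⟩
  refine ⟨Points.ofPt a '' (O : Set ↥U.left), ?_, isOpenMap_ofPt_of_etale a hae _ O.2,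
    ⟨u, hO, hu⟩⟩
  rintro _ ⟨u', hu', rfl⟩
  exact ⟨U, V, a, b, h, u', hae, hbe, comm, rfl, O, hu', hP⟩

theorem unramLocus_baseChange {X Y Y' X' : AlgSp.Space S} (f : X ⟶ Y)
    (hf : LocP @LocallyOfFiniteType f.hom) (g : Y' ⟶ Y) (g' : X' ⟶ X) (f' : X' ⟶ Y')
    (sq : IsPullback g'.hom f'.hom f.hom g.hom) (x' : Points X'.obj) :
    HasAtMor QU f'.hom x' ↔ HasAtMor QU f.hom (Points.map g'.hom x') := by
  obtain ⟨U, V, a, b, h, u, hae, hbe, comm, hu⟩ :=
    ResTrdegH8.exists_chart_diagram f (Points.map g'.hom x')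
  obtain ⟨W, V'', r, b'', κ, aW, φ, w, hre, hb''e, comm'', hw, haw, sqL, -, -⟩ :=
    BCChartH8.exists_bc_chart f g g' f' sq x' a b h u hae hbe comm hu
  haveI : LocallyOfFiniteType h.left := hf a b h hae hbe comm
  rw [← hu, ← hw, hasAtMor_iff f a b h u hae hbe comm, hasAtMor_iff f' r b'' κ w hre hb''e comm'',
    ← haw]
  exact ⟨near_of_near_isPullback sqL w, near_baseChange sqL w⟩

theorem locP_lft_of_comp {X Y Z : Sp S} (hZ : IsAlgSpace Z) (f : X ⟶ Y) (g : Y ⟶ Z)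
    (h : LocP @LocallyOfFiniteType (f ≫ g)) : LocP @LocallyOfFiniteType f :=
  locP_of_comp' @LocallyOfFiniteType ⊤ (descendsEtale_of_descendsAlong _)
    (fun _ _ _ f' g' (_ : LocallyOfFiniteType (f' ≫ g')) _ => locallyOfFiniteType_of_comp f' g')
    hZ f g h (fun _ _ _ _ _ _ _ _ => trivial)

end Groth.Agent.Lib.AlgSpUnramLocusH7
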