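import Groth.Prelude.Def_AlgSpMor5

set_option autoImplicit false
universe u
open CategoryTheory CategoryTheory.Limits AlgebraicGeometry Opposite

namespace Groth.Agent.Lib.AlgSpVal_helper7

open AlgSp

variable {S : Scheme.{u}}

/-- Unbundled form of the existence of a lift after a dominating extension. -/
def LiftData {F G : Sp S} (f : F ⟶ G) (A : Type u) [CommRing A] (K : Type u) [Field K]
    [Algebra A K] (str : Spec (.of A) ⟶ S)
    (top : (yon S).obj (Over.mk (Spec.map (CommRingCat.ofHom (algebraMap A K)) ≫ str)) ⟶ F)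
    (bot : (yon S).obj (Over.mk str) ⟶ G) : Prop :=
  ∃ (A' : Type u) (_ : CommRing A') (_ : IsDomain A') (_ : ValuationRing A') (K' : Type u)
    (_ : Field K') (_ : Algebra A' K') (_ : IsFractionRing A' K') (φ : A →+* A') (ψ : K →+* K')
    (hc : (algebraMap A' K').comp φ = ψ.comp (algebraMap A K)) (_ : IsLocalHom φ)
    (l : (yon S).obj (Over.mk (Spec.map (CommRingCat.ofHom φ) ≫ str)) ⟶ F),
    (yon S).map (Over.homMk (Spec.map (CommRingCat.ofHom (algebraMap A' K'))) rfl :
        Over.mk (Spec.map (CommRingCat.ofHom (algebraMap A' K')) ≫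
          Spec.map (CommRingCat.ofHom φ) ≫ str) ⟶
        Over.mk (Spec.map (CommRingCat.ofHom φ) ≫ str)) ≫ l =
      (yon S).map (Over.homMk (Spec.map (CommRingCat.ofHom ψ)) (by
          change Spec.map _ ≫ Spec.map _ ≫ _ = Spec.map _ ≫ Spec.map _ ≫ _
          rw [← Spec.map_comp_assoc, ← Spec.map_comp_assoc, ← CommRingCat.ofHom_comp,
            ← CommRingCat.ofHom_comp, hc]) :
        Over.mk (Spec.map (CommRingCat.ofHom (algebraMap A' K')) ≫
          Spec.map (CommRingCat.ofHom φ) ≫ str) ⟶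
        Over.mk (Spec.map (CommRingCat.ofHom (algebraMap A K)) ≫ str)) ≫ top ∧
    l ≫ f = (yon S).map (Over.homMk (Spec.map (CommRingCat.ofHom φ)) rfl :
        Over.mk (Spec.map (CommRingCat.ofHom φ) ≫ str) ⟶ Over.mk str) ≫ bot

theorem hasLiftExt_iff {F G : Sp S} {f : F ⟶ G} (sq : ValSq f) :
    sq.HasLiftExt ↔ LiftData f sq.A sq.K sq.str sq.top sq.bot := by
  constructor
  · rintro ⟨e, l, h1, h2⟩
    exact ⟨e.A', _, e.isDomain, e.valuationRing, e.K', _, _, e.isFractionRing, e.φ, e.ψ, e.comm,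
      e.isLocalHom, l, h1, h2⟩
  · rintro ⟨A', i1, i2, i3, K', i4, i5, i6, φ, ψ, hc, hl, l, h1, h2⟩
    exact ⟨⟨A', K', φ, ψ, hc, hl⟩, l, h1, h2⟩

theorem existVC_iff {F G : Sp S} (f : F ⟶ G) :
    ExistVC f ↔ ∀ (A : Type u) [CommRing A] [IsDomain A] [ValuationRing A] (K : Type u) [Field K]
      [Algebra A K] [IsFractionRing A K] (str : Spec (.of A) ⟶ S)
      (top : (yon S).obj (Over.mk (Spec.map (CommRingCat.ofHom (algebraMap A K)) ≫ str)) ⟶ F)
      (bot : (yon S).obj (Over.mk str) ⟶ G),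
      top ≫ f = (yon S).map (Over.homMk (Spec.map (CommRingCat.ofHom (algebraMap A K))) rfl :
        Over.mk (Spec.map (CommRingCat.ofHom (algebraMap A K)) ≫ str) ⟶ Over.mk str) ≫ bot →
      LiftData f A K str top bot := by
  constructor
  · intro h A _ _ _ K _ _ _ str top bot comm
    exact (hasLiftExt_iff ⟨A, K, str, top, bot, comm⟩).1 (h ⟨A, K, str, top, bot, comm⟩)
  · intro h sq
    exact (hasLiftExt_iff sq).2 (h sq.A sq.K sq.str sq.top sq.bot sq.comm)

theorem uniqVC_iff {F G : Sp S} (f : F ⟶ G) :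
    UniqVC f ↔ ∀ (A : Type u) [CommRing A] [IsDomain A] [ValuationRing A] (K : Type u) [Field K]
      [Algebra A K] [IsFractionRing A K] (str : Spec (.of A) ⟶ S)
      (l l' : (yon S).obj (Over.mk str) ⟶ F),
      (yon S).map (Over.homMk (Spec.map (CommRingCat.ofHom (algebraMap A K))) rfl :
        Over.mk (Spec.map (CommRingCat.ofHom (algebraMap A K)) ≫ str) ⟶ Over.mk str) ≫ l =
      (yon S).map (Over.homMk (Spec.map (CommRingCat.ofHom (algebraMap A K))) rfl :
        Over.mk (Spec.map (CommRingCat.ofHom (algebraMap A K)) ≫ str) ⟶ Over.mk str) ≫ l' →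
      l ≫ f = l' ≫ f → l = l' := by
  constructor
  · intro h A _ _ _ K _ _ _ str l l' h1 h2
    exact h ⟨A, K, str, (yon S).map (Over.homMk (Spec.map (CommRingCat.ofHom (algebraMap A K)))
      rfl : Over.mk (Spec.map (CommRingCat.ofHom (algebraMap A K)) ≫ str) ⟶ Over.mk str) ≫ l,
      l ≫ f, by rw [Category.assoc]⟩ l l' rfl rfl h1.symm h2.symm
  · intro h sq l l' h1 h2 h3 h4
    exact h sq.A sq.K sq.str l l' (h1.trans h3.symm) (h2.trans h4.symm)

end Groth.Agent.Lib.AlgSpVal_helper7
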