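import Groth.Agent.Lib.AlgSpWhereUnramInj_helper7
import Groth.Agent.Lib.AlgSpClosedTfae_helper7
import Groth.Agent.Lib.AlgSpProper_helper7

/-!
# The open subspace of the base over which a morphism is a closed immersion (helper7)
-/

set_option autoImplicit false
universe u
open CategoryTheory CategoryTheory.Limits AlgebraicGeometry Opposite MorphismProperty
open AlgSp Groth.Agent.Lib.AlgSpQC2_helper7 Groth.Agent.Lib.AlgSpPoints_helper7
  Groth.Agent.Lib.AlgSpQC_helper7 Groth.Agent.Lib.AlgSpDiag_helper7 Groth.Agent.Lib.AlgSpTop_helper7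
  Groth.Agent.Lib.AlgSpPullback_helper7 Groth.Agent.Lib.AlgSpSep_helper7
  Groth.Agent.Lib.AlgSpLocP_helper7 Groth.Agent.Lib.AlgSpUniv_helper7
  Groth.Agent.Lib.AlgSpFpqc_helper7 Groth.Agent.Lib.AlgSpProper_helper7
  Groth.Agent.Lib.AlgSpUnramLocal
  Groth.Agent.Lib.UnramLocH7 Groth.Agent.Lib.AlgSpUnramLocusH7 Groth.Agent.Lib.AlgSpWhereUnramH7
  Groth.Agent.Lib.AlgSpWhereUnramInjH7

namespace Groth.Agent.Lib.AlgSpWhereClosedImmH7

variable {S : Scheme.{u}}

theorem isClosedMor_of_isUnivClosedMor {X Z : Sp S} (hZ : IsAlgSpace Z) (p : X ⟶ Z)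
    (h : IsUnivClosedMor p) : IsClosedMor p :=
  h hZ (𝟙 _) (𝟙 _) p (IsPullback.of_horiz_isIso ⟨by simp⟩)

theorem isClosedMor_of_repWith_isClosedImmersion {A B : Sp S} (hB : IsAlgSpace B) (i : A ⟶ B)
    (hi : RepWith @IsClosedImmersion i) : IsClosedMor i :=
  isClosedMor_of_isUnivClosedMor hB i
    (Groth.Agent.Lib.AlgSpProper_helper7.isProperMor_of_repWith_isClosedImmersion i hi).2.2

theorem isClosedMor_comp {A B C : Sp S} (a : A ⟶ B) (b : B ⟶ C) (ha : IsClosedMor a)
    (hb : IsClosedMor b) : IsClosedMor (a ≫ b) := by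
  have : Points.map (a ≫ b) = Points.map b ∘ Points.map a := by
    funext x; exact Points.map_comp a b x
  show IsClosedMap (Points.map (a ≫ b))
  rw [this]; exact hb.comp ha

theorem isClosedMor_snd_comp {X Y Z : Sp S} (hX : IsAlgSpace X) (hZ : IsAlgSpace Z)
    (f : X ⟶ Y) (q : Y ⟶ Z) (huc : IsUnivClosedMor (f ≫ q)) (hq : IsSeparatedMor q) :
    IsClosedMor (pullback.snd f f ≫ f ≫ q) := by
  have sq := pullback_map_diagonal_isPullback f f q
  have hι : RepWith @IsClosedImmersion (pullback.map f f (f ≫ q) (f ≫ q) (𝟙 _) (𝟙 _) q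
      (Category.id_comp _).symm (Category.id_comp _).symm) := repWith_snd_of_isPullback _ sq hq
  have hPP : IsAlgSpace (pullback (f ≫ q) (f ≫ q)) :=
    isAlgSpace_of_isPullback hZ.diag hX hX (IsPullback.of_hasPullback _ _)
  have h1 := isClosedMor_of_repWith_isClosedImmersion hPP _ hι
  have h2 : IsClosedMor (pullback.snd (f ≫ q) (f ≫ q)) :=
    huc hX (f ≫ q) (pullback.fst _ _) (pullback.snd _ _) (IsPullback.of_hasPullback _ _)
  have h3 : IsClosedMor (f ≫ q) := isClosedMor_of_isUnivClosedMor hZ _ huc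
  have e : pullback.snd f f ≫ f ≫ q = pullback.map f f (f ≫ q) (f ≫ q) (𝟙 _) (𝟙 _) q
      (Category.id_comp _).symm (Category.id_comp _).symm ≫
        pullback.snd (f ≫ q) (f ≫ q) ≫ f ≫ q := by
    rw [← Category.assoc _ (pullback.snd (f ≫ q) (f ≫ q)), pullback.lift_snd, Category.comp_id]
  rw [e]
  exact isClosedMor_comp _ _ h1 (isClosedMor_comp _ _ h2 h3)

theorem where_closedImmersion {X Y Z : AlgSp.Space S}
    (f : X ⟶ Y) (p : X ⟶ Z) (q : Y ⟶ Z) (hc : f ≫ q = p)
    (hp1 : AlgSp.LocP @LocallyOfFiniteType p.hom) (hp2 : AlgSp.IsUnivClosedMor p.hom)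
    (hq : AlgSp.IsSeparatedMor q.hom) :
    ∃ (W : AlgSp.Space S) (w : W ⟶ Z), AlgSp.RepWith @IsOpenImmersion w.hom ∧
      ∀ (Z' : AlgSp.Space S) (g : Z' ⟶ Z),
        (∃ k : Z' ⟶ W, k ≫ w = g) ↔
          ∀ (Y' : AlgSp.Space S) (gY : Y' ⟶ Y) (q' : Y' ⟶ Z'),
            IsPullback gY.hom q'.hom q.hom g.hom →
            ∀ (X' : AlgSp.Space S) (gX : X' ⟶ X) (f' : X' ⟶ Y'),
              IsPullback gX.hom f'.hom f.hom gY.hom →
                AlgSp.RepWith @IsClosedImmersion f'.hom := by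
  have hcomm : f.hom ≫ q.hom = p.hom := by rw [← hc]; rfl
  have hXX : IsAlgSpace (pullback f.hom f.hom) :=
    isAlgSpace_of_isPullback Y.property.diag X.property X.property (IsPullback.of_hasPullback _ _)
  have hpc : IsClosedMor p.hom := isClosedMor_of_isUnivClosedMor Z.property p.hom hp2
  have hp3 : IsClosedMor (pullback.snd f.hom f.hom ≫ p.hom) := by
    rw [← hcomm]
    exact isClosedMor_snd_comp X.property Z.property f.hom q.hom (by rw [hcomm]; exact hp2) hq
  obtain ⟨W, w, hw, hiff⟩ := where_unramified_univInjective f p q hc ⟨_, hXX⟩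
    (ObjectProperty.homMk (pullback.fst f.hom f.hom))
    (ObjectProperty.homMk (pullback.snd f.hom f.hom)) (IsPullback.of_hasPullback _ _) hp1 hpc hp3
  refine ⟨W, w, hw, fun Z' g => ?_⟩
  rw [hiff Z' g]
  constructor
  · intro h Y' gY q' sq1 X' gX f' sq2
    obtain ⟨hunr, hinj⟩ := h Y' gY q' sq1 X' gX f' sq2
    haveI : Mono f'.hom :=
      mono_of_unramified_of_univInjective X'.property Y'.property f'.hom hunr hinj
    have sq3 : IsPullback gX.hom (f'.hom ≫ q'.hom) (f.hom ≫ q.hom) g.hom := sq2.paste_vert sq1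
    have huc' : IsUnivClosedMor (f'.hom ≫ q'.hom) :=
      univSp_of_isPullback _ sq3 (by rw [hcomm]; exact hp2)
    have hq' : IsSeparatedMor q'.hom := repWith_diagonal_of_isPullback _ sq1 hq
    have hucf : IsUnivClosedMor f'.hom :=
      isUnivClosedMor_of_comp_of_isSeparatedMor X'.property Y'.property Z'.property.diag f'.hom
        q'.hom hq' huc'
    exact repWith_isClosedImmersion_of_univClosed_mono X'.property Y'.property f'.hom
      (fun _ _ a b h ha hb comm => (hunr a b h ha hb comm).1) hucf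
  · intro h Y' gY q' sq1 X' gX f' sq2
    have hci := h Y' gY q' sq1 X' gX f' sq2
    obtain ⟨-, hunr, -, hinj, -, -⟩ := closedImmersion_props X'.property Y'.property f'.hom hci
    exact ⟨hunr, hinj⟩

end Groth.Agent.Lib.AlgSpWhereClosedImmH7
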