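import Groth.Agent.Lib.AlgSpWhereUnram_helper7
import Groth.Agent.Lib.AlgSpUnram_helper7
import Groth.Agent.Lib.AlgSpField_helper7
import Groth.Agent.Lib.AlgSpGlue4_helper7

/-!
# The open subspace of the base over which a morphism is unramified and universally injective
(helper7)
-/

set_option autoImplicit false
universe u
open CategoryTheory CategoryTheory.Limits AlgebraicGeometry Opposite MorphismProperty
open AlgSp Groth.Agent.Lib.AlgSpQC2_helper7 Groth.Agent.Lib.AlgSpPoints_helper7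
  Groth.Agent.Lib.AlgSpQC_helper7 Groth.Agent.Lib.AlgSpDiag_helper7 Groth.Agent.Lib.AlgSpTop_helper7
  Groth.Agent.Lib.AlgSpPullback_helper7 Groth.Agent.Lib.AlgSpSep_helper7
  Groth.Agent.Lib.AlgSpLocP_helper7 Groth.Agent.Lib.AlgSpUniv_helper7
  Groth.Agent.Lib.AlgSpLocP4_helper7 Groth.Agent.Lib.AlgSpLocP7_helper7
  Groth.Agent.Lib.AlgSpOpenSub_helper7 Groth.Agent.Lib.AlgSpField_helper7
  Groth.Agent.Lib.AlgSpUnram_helper7 Groth.Agent.Lib.AlgSpGlue4H7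
  Groth.Agent.Lib.UnramLocH7 Groth.Agent.Lib.AlgSpUnramLocusH7 Groth.Agent.Lib.AlgSpWhereUnramH7

namespace Groth.Agent.Lib.AlgSpWhereUnramInjH7

variable {S : Scheme.{u}}

/-- Factoring through the open subspace on `W0` is the same as landing in `W0` on points. -/
theorem exists_factor_openSub_iff {Z Z' : AlgSp.Space S} {W0 : Set (Points Z.obj)}
    (hW0 : IsOpen W0) (g : Z' ⟶ Z) :
    (∃ k : Z' ⟶ (⟨openSub Z.obj W0, isAlgSpace_openSub Z.property hW0⟩ : AlgSp.Space S),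
      k ≫ ObjectProperty.homMk (openSubι Z.obj W0) = g) ↔
      Set.range (Points.map g.hom) ⊆ W0 := by
  constructor
  · rintro ⟨k, rfl⟩ _ ⟨z, rfl⟩
    have hz : Points.map (k.hom ≫ openSubι Z.obj W0) z ∈
        Set.range (Points.map (openSubι Z.obj W0)) :=
      ⟨Points.map k.hom z, (Points.map_comp k.hom (openSubι Z.obj W0) z).symm⟩
    exact (range_map_openSubι Z.property hW0).subset hz
  · intro hr
    obtain ⟨k, hk⟩ := exists_lift_openSub_of_range g.hom hr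
    exact ⟨ObjectProperty.homMk k, ObjectProperty.hom_ext _ hk⟩

/-- The open set of the base over which `f` is unramified. -/
def W1 {X Y Z : AlgSp.Space S} (f : X ⟶ Y) (p : X ⟶ Z) : Set (Points Z.obj) :=
  (Points.map p.hom '' {x : Points X.obj | ¬ HasAtMor QU f.hom x})ᶜ

theorem isOpen_W1 {X Y Z : AlgSp.Space S} (f : X ⟶ Y) (p : X ⟶ Z)
    (hp2 : AlgSp.IsClosedMor p.hom) : IsOpen (W1 f p) := by
  have hTc : IsClosed {x : Points X.obj | ¬ HasAtMor QU f.hom x} := by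
    have := (isOpen_unramLocus f).isClosed_compl
    rwa [Set.compl_setOf] at this
  exact (hp2 _ hTc).isOpen_compl

theorem locP_of_range_subset_W1 {X Y Z : AlgSp.Space S} (f : X ⟶ Y) (p : X ⟶ Z) (q : Y ⟶ Z)
    (hcomm : f.hom ≫ q.hom = p.hom) (hf : LocP @LocallyOfFiniteType f.hom)
    {Z' Y' X' : AlgSp.Space S} (g : Z' ⟶ Z) (hr : Set.range (Points.map g.hom) ⊆ W1 f p)
    (gY : Y' ⟶ Y) (q' : Y' ⟶ Z') (sq1 : IsPullback gY.hom q'.hom q.hom g.hom)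
    (gX : X' ⟶ X) (f' : X' ⟶ Y') (sq2 : IsPullback gX.hom f'.hom f.hom gY.hom) :
    LocP PU f'.hom := by
  apply locP_of_forall_hasAtMor
  intro x'
  rw [unramLocus_baseChange f hf gY gX f' sq2 x']
  by_contra hcon
  have hmem : Points.map p.hom (Points.map gX.hom x') ∈ W1 f p := by
    have e0 : gX.hom ≫ p.hom = (f'.hom ≫ q'.hom) ≫ g.hom := by
      rw [← hcomm, ← Category.assoc, sq2.w, Category.assoc, sq1.w, Category.assoc]
    rw [← Points.map_comp, e0, Points.map_comp]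
    exact hr ⟨_, rfl⟩
  exact hmem ⟨_, hcon, rfl⟩

theorem range_subset_W1_of_locP {X Y Z : AlgSp.Space S} (f : X ⟶ Y) (p : X ⟶ Z) (q : Y ⟶ Z)
    (hcomm : f.hom ≫ q.hom = p.hom) (hf : LocP @LocallyOfFiniteType f.hom)
    {Z' Y' X' : AlgSp.Space S} (g : Z' ⟶ Z)
    (gY : Y' ⟶ Y) (q' : Y' ⟶ Z') (sq1 : IsPullback gY.hom q'.hom q.hom g.hom)
    (gX : X' ⟶ X) (f' : X' ⟶ Y') (sq2 : IsPullback gX.hom f'.hom f.hom gY.hom)
    (hloc : LocP PU f'.hom) : Set.range (Points.map g.hom) ⊆ W1 f p := by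
  rintro _ ⟨z', rfl⟩
  intro hmem
  obtain ⟨x, hxT, hxz⟩ := hmem
  have sq3 : IsPullback gX.hom (f'.hom ≫ q'.hom) (f.hom ≫ q.hom) g.hom := sq2.paste_vert sq1
  obtain ⟨x', hx'1, hx'2⟩ := exists_of_isPullback sq3 x z' (by rw [hcomm]; exact hxz)
  have h1 := hasAtMor_of_locP f' hloc x'
  rw [unramLocus_baseChange f hf gY gX f' sq2 x', hx'1] at h1
  exact hxT h1

/-- For `f1` unramified, a base change of `f` along an open immersion of the base, the composite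
`X1 ⟶ X ⟶ X ×_Y X` is an open immersion on points. -/
theorem isOpen_range_diag_of_unram {X Y Z XX Z1 Y1 X1 : Sp S} (hX1 : IsAlgSpace X1)
    (hY1 : IsAlgSpace Y1)
    (f : X ⟶ Y) (q : Y ⟶ Z) (pr0 pr1 : XX ⟶ X) (hXX : IsPullback pr0 pr1 f f)
    (Δ : X ⟶ XX) (hΔ0 : Δ ≫ pr0 = 𝟙 _) (hΔ1 : Δ ≫ pr1 = 𝟙 _)
    (w1 : Z1 ⟶ Z) (hw1 : RepWith @IsOpenImmersion w1)
    (gY1 : Y1 ⟶ Y) (q1 : Y1 ⟶ Z1) (sq1 : IsPullback gY1 q1 q w1)
    (gX1 : X1 ⟶ X) (f1 : X1 ⟶ Y1) (sq2 : IsPullback gX1 f1 f gY1)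
    (hloc1 : LocP PU f1) : IsOpen (Set.range (Points.map (gX1 ≫ Δ))) := by
  have hΔ1' : RepWith @IsOpenImmersion (pullback.diagonal f1) :=
    repWith_isOpenImmersion_diagonal hX1 hY1 f1 hloc1
  have hθw : (pullback.fst f1 f1 ≫ gX1) ≫ f = (pullback.snd f1 f1 ≫ gX1) ≫ f := by
    rw [Category.assoc, Category.assoc, sq2.w, ← Category.assoc, ← Category.assoc,
      pullback.condition]
  obtain ⟨θ, hθ0, hθ1⟩ : ∃ θ : pullback f1 f1 ⟶ XX, θ ≫ pr0 = pullback.fst f1 f1 ≫ gX1 ∧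
      θ ≫ pr1 = pullback.snd f1 f1 ≫ gX1 :=
    ⟨hXX.lift _ _ hθw, hXX.lift_fst _ _ _, hXX.lift_snd _ _ _⟩
  have sA : IsPullback (pullback.snd f1 f1 ≫ gX1) (pullback.fst f1 f1) f (f1 ≫ gY1) :=
    (IsPullback.of_hasPullback f1 f1).flip.paste_horiz sq2
  have sA' : IsPullback (θ ≫ pr1) (pullback.fst f1 f1) f (gX1 ≫ f) := by
    rw [hθ1, sq2.w]; exact sA
  have sB : IsPullback θ (pullback.fst f1 f1) pr0 gX1 := IsPullback.of_right sA' hθ0 hXX.flip
  have sq3 : IsPullback gX1 (f1 ≫ q1) (f ≫ q) w1 := sq2.paste_vert sq1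
  have sC : IsPullback θ (pullback.fst f1 f1 ≫ f1 ≫ q1) (pr0 ≫ f ≫ q) w1 := sB.paste_vert sq3
  have hθ : RepWith @IsOpenImmersion θ := repWith_fst_of_isPullback _ sC hw1
  have hcomp : RepWith @IsOpenImmersion (pullback.diagonal f1 ≫ θ) := repWith_comp _ hΔ1' hθ
  have e : pullback.diagonal f1 ≫ θ = gX1 ≫ Δ := by
    apply hXX.hom_ext
    · rw [Category.assoc, hθ0, ← Category.assoc, pullback.diagonal_fst, Category.id_comp,
        Category.assoc, hΔ0, Category.comp_id]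
    · rw [Category.assoc, hθ1, ← Category.assoc, pullback.diagonal_snd, Category.id_comp,
        Category.assoc, hΔ1, Category.comp_id]
  rw [← e]
  exact isOpen_range_map_of_openImmersion _ hcomp

theorem isOpen_diag_image {X Y Z XX Z1 Y1 X1 : Sp S} (hX1 : IsAlgSpace X1) (hY1 : IsAlgSpace Y1)
    (f : X ⟶ Y) (q : Y ⟶ Z) (pr0 pr1 : XX ⟶ X) (hXX : IsPullback pr0 pr1 f f)
    (Δ : X ⟶ XX) (hΔ0 : Δ ≫ pr0 = 𝟙 _) (hΔ1 : Δ ≫ pr1 = 𝟙 _)
    (w1 : Z1 ⟶ Z) (hw1 : RepWith @IsOpenImmersion w1)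
    (gY1 : Y1 ⟶ Y) (q1 : Y1 ⟶ Z1) (sq1 : IsPullback gY1 q1 q w1)
    (gX1 : X1 ⟶ X) (f1 : X1 ⟶ Y1) (sq2 : IsPullback gX1 f1 f gY1)
    (hloc1 : LocP PU f1) (W : Set (Points Z)) (hrw1 : Set.range (Points.map w1) = W) :
    IsOpen (Points.map Δ '' (Points.map (f ≫ q) ⁻¹' W)) := by
  have hopen := isOpen_range_diag_of_unram hX1 hY1 f q pr0 pr1 hXX Δ hΔ0 hΔ1 w1 hw1 gY1 q1 sq1
    gX1 f1 sq2 hloc1
  have sq3 : IsPullback gX1 (f1 ≫ q1) (f ≫ q) w1 := sq2.paste_vert sq1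
  have hrange : Set.range (Points.map (gX1 ≫ Δ)) =
      Points.map Δ '' (Points.map (f ≫ q) ⁻¹' W) := by
    ext ξ
    constructor
    · rintro ⟨x1, rfl⟩
      refine ⟨Points.map gX1 x1, ?_, (Points.map_comp _ _ _).symm⟩
      show Points.map (f ≫ q) (Points.map gX1 x1) ∈ W
      have e1 : Points.map (f ≫ q) (Points.map gX1 x1) =
          Points.map w1 (Points.map (f1 ≫ q1) x1) := by
        rw [← Points.map_comp, ← Points.map_comp, sq3.w]
      rw [e1]; exact hrw1.subset ⟨_, rfl⟩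
    · rintro ⟨x, hx, rfl⟩
      obtain ⟨z1, hz1⟩ := hrw1.symm.subset hx
      obtain ⟨x1, hx1, -⟩ := exists_of_isPullback sq3 x z1 hz1.symm
      exact ⟨x1, by rw [Points.map_comp, hx1]⟩
  rw [← hrange]; exact hopen

/-- The part of the diagonal lying over the unramified open `W1` is open in `X ×_Y X`. -/
theorem isOpen_diag_over_W1 {X Y Z XX : AlgSp.Space S} (f : X ⟶ Y) (p : X ⟶ Z) (q : Y ⟶ Z)
    (hcomm : f.hom ≫ q.hom = p.hom) (hf : LocP @LocallyOfFiniteType f.hom)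
    (hp2 : AlgSp.IsClosedMor p.hom)
    (pr0 pr1 : XX ⟶ X) (hXX : IsPullback pr0.hom pr1.hom f.hom f.hom)
    (Δ : X.obj ⟶ XX.obj) (hΔ0 : Δ ≫ pr0.hom = 𝟙 _) (hΔ1 : Δ ≫ pr1.hom = 𝟙 _) :
    IsOpen (Points.map Δ '' (Points.map p.hom ⁻¹' W1 f p)) := by
  have hW1 := isOpen_W1 f p hp2
  have hZ1 : IsAlgSpace (openSub Z.obj (W1 f p)) := isAlgSpace_openSub Z.property hW1
  have sq1 := IsPullback.of_hasPullback q.hom (openSubι Z.obj (W1 f p))
  have hY1 := isAlgSpace_of_isPullback Z.property.diag Y.property hZ1 sq1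
  have sq2 := IsPullback.of_hasPullback f.hom (pullback.fst q.hom (openSubι Z.obj (W1 f p)))
  have hX1 := isAlgSpace_of_isPullback Y.property.diag X.property hY1 sq2
  have hrw1 := range_map_openSubι Z.property hW1
  have hloc1 : LocP PU (pullback.snd f.hom (pullback.fst q.hom (openSubι Z.obj (W1 f p)))) :=
    locP_of_range_subset_W1 f p q hcomm hf (Z' := ⟨_, hZ1⟩) (Y' := ⟨_, hY1⟩) (X' := ⟨_, hX1⟩)
      (ObjectProperty.homMk (openSubι Z.obj (W1 f p))) hrw1.subset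
      (ObjectProperty.homMk (pullback.fst q.hom _)) (ObjectProperty.homMk (pullback.snd q.hom _))
      sq1 (ObjectProperty.homMk (pullback.fst f.hom _))
      (ObjectProperty.homMk (pullback.snd f.hom _)) sq2
  rw [← hcomm]
  exact isOpen_diag_image hX1 hY1 f.hom q.hom pr0.hom pr1.hom hXX Δ hΔ0 hΔ1 _
    (repWith_isOpenImmersion_openSubι hW1) _ _ sq1 _ _ sq2 hloc1 (W1 f p) hrw1

theorem isUnivInjectiveMor_of_range_subset {X Y Z XX : AlgSp.Space S} (f : X ⟶ Y) (p : X ⟶ Z)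
    (q : Y ⟶ Z) (hcomm : f.hom ≫ q.hom = p.hom) (pr0 pr1 : XX ⟶ X)
    (hXX : IsPullback pr0.hom pr1.hom f.hom f.hom)
    (Δ : X.obj ⟶ XX.obj) (hΔ0 : Δ ≫ pr0.hom = 𝟙 _) (hΔ1 : Δ ≫ pr1.hom = 𝟙 _)
    (G : Set (Points XX.obj)) (hG : G ⊆ Set.range (Points.map Δ))
    {Z' Y' X' : AlgSp.Space S} (g : Z' ⟶ Z)
    (hr : Set.range (Points.map g.hom) ⊆ (Points.map (pr1.hom ≫ p.hom) '' Gᶜ)ᶜ)
    (gY : Y' ⟶ Y) (q' : Y' ⟶ Z') (sq1 : IsPullback gY.hom q'.hom q.hom g.hom)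
    (gX : X' ⟶ X) (f' : X' ⟶ Y') (sq2 : IsPullback gX.hom f'.hom f.hom gY.hom) :
    IsUnivInjectiveMor f'.hom := by
  apply isUnivInjectiveMor_of_injOnFieldPts
  intro K _ str a1 a2 h12
  dsimp only at h12
  have sq3 : IsPullback gX.hom (f'.hom ≫ q'.hom) (f.hom ≫ q.hom) g.hom := sq2.paste_vert sq1
  have e0 : gX.hom ≫ p.hom = (f'.hom ≫ q'.hom) ≫ g.hom := by
    rw [← hcomm]; exact sq3.w
  have hx : (a1 ≫ gX.hom) ≫ f.hom = (a2 ≫ gX.hom) ≫ f.hom := by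
    have := congrArg (· ≫ gY.hom) h12
    simp only [Category.assoc] at this
    rw [Category.assoc, Category.assoc, sq2.w]; exact this
  apply sq3.hom_ext
  · have hξ : Points.mk (ofHom (hXX.lift _ _ hx)) ∈ G := by
      by_contra hnot
      have h1 : Points.map (pr1.hom ≫ p.hom) (Points.mk (ofHom (hXX.lift _ _ hx))) ∈
          Points.map (pr1.hom ≫ p.hom) '' Gᶜ := ⟨_, hnot, rfl⟩
      have h2 : Points.map (pr1.hom ≫ p.hom) (Points.mk (ofHom (hXX.lift _ _ hx))) =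
          Points.map g.hom (Points.mk (ofHom (a2 ≫ f'.hom ≫ q'.hom))) := by
        rw [map_mk_ofHom, map_mk_ofHom]
        congr 2
        calc hXX.lift _ _ hx ≫ pr1.hom ≫ p.hom
            = (hXX.lift _ _ hx ≫ pr1.hom) ≫ p.hom := (Category.assoc _ _ _).symm
          _ = (a2 ≫ gX.hom) ≫ p.hom := by rw [hXX.lift_snd]
          _ = a2 ≫ (f'.hom ≫ q'.hom) ≫ g.hom := by rw [Category.assoc, e0]
          _ = (a2 ≫ f'.hom ≫ q'.hom) ≫ g.hom := by simp only [Category.assoc]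
      rw [h2] at h1
      exact hr ⟨_, rfl⟩ h1
    obtain ⟨x, hxΔ⟩ := hG hξ
    obtain ⟨L, _, sL, n, rfl⟩ := mk_surjective' x
    rw [map_mk_ofHom, mk_ofHom_eq_iff] at hxΔ
    obtain ⟨Ω, _, w, α, β, hαβ⟩ := hxΔ
    have h1 := congrArg (· ≫ pr0.hom) hαβ
    have h2 := congrArg (· ≫ pr1.hom) hαβ
    simp only [Category.assoc, hΔ0, hΔ1, IsPullback.lift_fst, IsPullback.lift_snd,
      Category.comp_id] at h1 h2
    have : Nonempty ↥(Over.mk w).left := by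
      change Nonempty ↥(Spec (CommRingCat.of Ω))
      infer_instance
    exact eq_of_comp_eq_of_field X.property.diag β _ _ (h1.symm.trans h2)
  · have := congrArg (· ≫ q'.hom) h12
    simpa only [Category.assoc] using this

theorem range_subset_of_isUnivInjectiveMor {X Y Z XX : AlgSp.Space S} (f : X ⟶ Y) (p : X ⟶ Z)
    (q : Y ⟶ Z) (hcomm : f.hom ≫ q.hom = p.hom) (pr0 pr1 : XX ⟶ X)
    (hXX : IsPullback pr0.hom pr1.hom f.hom f.hom)
    (Δ : X.obj ⟶ XX.obj) (hΔ0 : Δ ≫ pr0.hom = 𝟙 _) (hΔ1 : Δ ≫ pr1.hom = 𝟙 _)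
    {Z' Y' X' : AlgSp.Space S} (g : Z' ⟶ Z)
    (gY : Y' ⟶ Y) (q' : Y' ⟶ Z') (sq1 : IsPullback gY.hom q'.hom q.hom g.hom)
    (gX : X' ⟶ X) (f' : X' ⟶ Y') (sq2 : IsPullback gX.hom f'.hom f.hom gY.hom)
    (W : Set (Points Z.obj)) (hW : Set.range (Points.map g.hom) ⊆ W)
    (hinj : IsUnivInjectiveMor f'.hom) :
    Set.range (Points.map g.hom) ⊆
      (Points.map (pr1.hom ≫ p.hom) '' (Points.map Δ '' (Points.map p.hom ⁻¹' W))ᶜ)ᶜ := by
  rintro _ ⟨z', rfl⟩ ⟨ξ, hξG, hξz⟩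
  apply hξG
  obtain ⟨K, _, sK, m, rfl⟩ := mk_surjective' ξ
  obtain ⟨L, _, sL, n, rfl⟩ := mk_surjective' z'
  rw [map_mk_ofHom, map_mk_ofHom, mk_ofHom_eq_iff] at hξz
  obtain ⟨Ω, _, w, α, β, hαβ⟩ := hξz
  have sq3 : IsPullback gX.hom (f'.hom ≫ q'.hom) (f.hom ≫ q.hom) g.hom := sq2.paste_vert sq1
  have hff : ((yon S).map α ≫ m ≫ pr0.hom) ≫ f.hom = ((yon S).map α ≫ m ≫ pr1.hom) ≫ f.hom := by
    simp only [Category.assoc, hXX.w]
  have hx2 : ((yon S).map α ≫ m ≫ pr1.hom) ≫ f.hom ≫ q.hom = ((yon S).map β ≫ n) ≫ g.hom := by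
    rw [hcomm]; simpa only [Category.assoc] using hαβ
  have hx1 : ((yon S).map α ≫ m ≫ pr0.hom) ≫ f.hom ≫ q.hom = ((yon S).map β ≫ n) ≫ g.hom := by
    rw [← Category.assoc _ f.hom, hff, Category.assoc]; exact hx2
  have h12 : sq3.lift _ _ hx1 ≫ f'.hom = sq3.lift _ _ hx2 ≫ f'.hom := by
    apply sq1.hom_ext
    · calc (sq3.lift _ _ hx1 ≫ f'.hom) ≫ gY.hom
          = (sq3.lift _ _ hx1 ≫ gX.hom) ≫ f.hom := by
            rw [Category.assoc, Category.assoc, sq2.w]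
        _ = (sq3.lift _ _ hx2 ≫ gX.hom) ≫ f.hom := by
            rw [sq3.lift_fst, sq3.lift_fst]; exact hff
        _ = (sq3.lift _ _ hx2 ≫ f'.hom) ≫ gY.hom := by
            rw [Category.assoc, Category.assoc, sq2.w]
    · rw [Category.assoc, Category.assoc, sq3.lift_snd, sq3.lift_snd]
  have hinj' := injOnFieldPts_of_isUnivInjectiveMor X'.property.diag f'.hom hinj Ω w h12
  have hx12 : (yon S).map α ≫ m ≫ pr0.hom = (yon S).map α ≫ m ≫ pr1.hom := by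
    have := congrArg (· ≫ gX.hom) hinj'
    simpa only [sq3.lift_fst] using this
  have hm : (yon S).map α ≫ m = ((yon S).map α ≫ m ≫ pr0.hom) ≫ Δ := by
    apply hXX.hom_ext
    · simp only [Category.assoc, hΔ0, Category.comp_id]
    · simp only [Category.assoc, hΔ1, Category.comp_id]
      exact hx12.symm
  refine ⟨Points.mk (ofHom ((yon S).map α ≫ m ≫ pr0.hom)), ?_, ?_⟩
  · show Points.map p.hom (Points.mk (ofHom ((yon S).map α ≫ m ≫ pr0.hom))) ∈ W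
    have e : Points.map p.hom (Points.mk (ofHom ((yon S).map α ≫ m ≫ pr0.hom))) =
        Points.map g.hom (Points.mk (ofHom ((yon S).map β ≫ n))) := by
      rw [map_mk_ofHom, map_mk_ofHom]
      congr 2
      rw [← hcomm]; exact hx1
    rw [e]; exact hW ⟨_, rfl⟩
  · rw [map_mk_ofHom, ← hm, mk_ofHom_comp]

theorem where_unramified_univInjective {X Y Z : AlgSp.Space S}
    (f : X ⟶ Y) (p : X ⟶ Z) (q : Y ⟶ Z) (hc : f ≫ q = p)
    (XX : AlgSp.Space S) (pr0 pr1 : XX ⟶ X) (hXX : IsPullback pr0.hom pr1.hom f.hom f.hom)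
    (hp1 : AlgSp.LocP @LocallyOfFiniteType p.hom) (hp2 : AlgSp.IsClosedMor p.hom)
    (hp3 : AlgSp.IsClosedMor (pr1 ≫ p).hom) :
    ∃ (W : AlgSp.Space S) (w : W ⟶ Z), AlgSp.RepWith @IsOpenImmersion w.hom ∧
      ∀ (Z' : AlgSp.Space S) (g : Z' ⟶ Z),
        (∃ k : Z' ⟶ W, k ≫ w = g) ↔
          ∀ (Y' : AlgSp.Space S) (gY : Y' ⟶ Y) (q' : Y' ⟶ Z'),
            IsPullback gY.hom q'.hom q.hom g.hom →
            ∀ (X' : AlgSp.Space S) (gX : X' ⟶ X) (f' : X' ⟶ Y'),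
              IsPullback gX.hom f'.hom f.hom gY.hom →
                (AlgSp.LocP (@LocallyOfFiniteType ⊓ @FormallyUnramified) f'.hom ∧
                  AlgSp.IsUnivInjectiveMor f'.hom) := by
  have hcomm : f.hom ≫ q.hom = p.hom := by rw [← hc]; rfl
  have hf : LocP @LocallyOfFiniteType f.hom :=
    locP_lft_of_comp Z.property f.hom q.hom (by rw [hcomm]; exact hp1)
  obtain ⟨Δ, hΔ0, hΔ1⟩ : ∃ Δ : X.obj ⟶ XX.obj, Δ ≫ pr0.hom = 𝟙 _ ∧ Δ ≫ pr1.hom = 𝟙 _ :=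
    ⟨hXX.lift (𝟙 _) (𝟙 _) rfl, hXX.lift_fst _ _ _, hXX.lift_snd _ _ _⟩
  have hW1 := isOpen_W1 f p hp2
  have hG := isOpen_diag_over_W1 f p q hcomm hf hp2 pr0 pr1 hXX Δ hΔ0 hΔ1
  obtain ⟨G, hGdef⟩ : ∃ G : Set (Points XX.obj),
      G = Points.map Δ '' (Points.map p.hom ⁻¹' W1 f p) := ⟨_, rfl⟩
  rw [← hGdef] at hG
  have hGsub : G ⊆ Set.range (Points.map Δ) := by
    rw [hGdef]; exact Set.image_subset_range _ _
  have hπ : IsClosed (Points.map (pr1.hom ≫ p.hom) '' Gᶜ) := hp3 _ hG.isClosed_compl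
  obtain ⟨W0, hW0def⟩ : ∃ W0 : Set (Points Z.obj),
      W0 = W1 f p ∩ (Points.map (pr1.hom ≫ p.hom) '' Gᶜ)ᶜ := ⟨_, rfl⟩
  have hW0 : IsOpen W0 := by
    rw [hW0def]; exact hW1.inter hπ.isOpen_compl
  refine ⟨⟨openSub Z.obj W0, isAlgSpace_openSub Z.property hW0⟩,
    ObjectProperty.homMk (openSubι Z.obj W0), repWith_isOpenImmersion_openSubι hW0, ?_⟩
  intro Z' g
  rw [exists_factor_openSub_iff hW0 g]
  constructor
  · intro hr Y' gY q' sq1 X' gX f' sq2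
    rw [hW0def] at hr
    exact ⟨locP_of_range_subset_W1 f p q hcomm hf g (hr.trans Set.inter_subset_left) gY q' sq1
        gX f' sq2,
      isUnivInjectiveMor_of_range_subset f p q hcomm pr0 pr1 hXX Δ hΔ0 hΔ1 G hGsub g
        (hr.trans Set.inter_subset_right) gY q' sq1 gX f' sq2⟩
  · intro hall
    have sq1 := IsPullback.of_hasPullback q.hom g.hom
    have hY' : IsAlgSpace (pullback q.hom g.hom) :=
      isAlgSpace_of_isPullback Z.property.diag Y.property Z'.property sq1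
    have sq2 := IsPullback.of_hasPullback f.hom (pullback.fst q.hom g.hom)
    have hX' : IsAlgSpace (pullback f.hom (pullback.fst q.hom g.hom)) :=
      isAlgSpace_of_isPullback Y.property.diag X.property hY' sq2
    obtain ⟨hloc, hinj⟩ := hall ⟨_, hY'⟩ (ObjectProperty.homMk (pullback.fst q.hom g.hom))
      (ObjectProperty.homMk (pullback.snd q.hom g.hom)) sq1 ⟨_, hX'⟩
      (ObjectProperty.homMk (pullback.fst f.hom (pullback.fst q.hom g.hom)))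
      (ObjectProperty.homMk (pullback.snd f.hom (pullback.fst q.hom g.hom))) sq2
    have hr1 := range_subset_W1_of_locP f p q hcomm hf g (Y' := ⟨_, hY'⟩) (X' := ⟨_, hX'⟩)
      (ObjectProperty.homMk (pullback.fst q.hom g.hom))
      (ObjectProperty.homMk (pullback.snd q.hom g.hom)) sq1
      (ObjectProperty.homMk (pullback.fst f.hom (pullback.fst q.hom g.hom)))
      (ObjectProperty.homMk (pullback.snd f.hom (pullback.fst q.hom g.hom))) sq2 hloc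
    have hr2 := range_subset_of_isUnivInjectiveMor f p q hcomm pr0 pr1 hXX Δ hΔ0 hΔ1 g
      (Y' := ⟨_, hY'⟩) (X' := ⟨_, hX'⟩)
      (ObjectProperty.homMk (pullback.fst q.hom g.hom))
      (ObjectProperty.homMk (pullback.snd q.hom g.hom)) sq1
      (ObjectProperty.homMk (pullback.fst f.hom (pullback.fst q.hom g.hom)))
      (ObjectProperty.homMk (pullback.snd f.hom (pullback.fst q.hom g.hom))) sq2 (W1 f p) hr1 hinj
    rw [hW0def, hGdef]
    exact Set.subset_inter hr1 hr2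

end Groth.Agent.Lib.AlgSpWhereUnramInjH7
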