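import Groth.Agent.Lib.AlgSpFlatLocus_helper7
import Groth.Agent.Lib.AlgSpWhereUnramInj_helper7
import Groth.Agent.Lib.AlgSpLargestOpen_helper7
import Groth.Agent.Lib.AlgSpLocP9_helper7

/-!
# The open subspace of the base over which a morphism is flat / flat and surjective (helper7)
S10642, S10643.
-/

set_option autoImplicit false
set_option linter.style.haveILetI false
universe u
open CategoryTheory CategoryTheory.Limits AlgebraicGeometry Opposite MorphismProperty
open AlgSp Groth.Agent.Lib.AlgSpQC2_helper7 Groth.Agent.Lib.AlgSpPoints_helper7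
  Groth.Agent.Lib.AlgSpQC_helper7 Groth.Agent.Lib.AlgSpDiag_helper7 Groth.Agent.Lib.AlgSpTop_helper7
  Groth.Agent.Lib.AlgSpPullback_helper7 Groth.Agent.Lib.AlgSpSep_helper7
  Groth.Agent.Lib.AlgSpLocP_helper7 Groth.Agent.Lib.AlgSpUniv_helper7
  Groth.Agent.Lib.AlgSpLocP4_helper7 Groth.Agent.Lib.AlgSpLocP7_helper7
  Groth.Agent.Lib.AlgSpOpenSub_helper7
  Groth.Agent.Lib.AlgSpWhereUnramH7 Groth.Agent.Lib.AlgSpWhereUnramInjH7
  Groth.Agent.Lib.AlgSpFlatLocusH7 Groth.Agent.Lib.AlgSpLargestOpen_helper7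
  Groth.Agent.Lib.AlgSpLocP9_helper7

namespace Groth.Agent.Lib.AlgSpWhereFlatH7

variable {S : Scheme.{u}}

theorem locP_flat_iff {F G : Sp S} (f : F ⟶ G) : LocP @Flat f ↔ ∀ x, IsFlatAtMor f x := by
  constructor
  · intro h x U V a b k u hae hbe comm _
    haveI : Flat k.left := h a b k hae hbe comm
    exact Flat.stalkMap k.left u
  · intro h U V a b k hae hbe comm
    rw [Flat.iff_flat_stalkMap]
    intro u
    exact h (Points.ofPt a u) a b k u hae hbe comm rfl

/-- The flat locus of `f`. -/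
def flatLocus {X Y : AlgSp.Space S} (f : X ⟶ Y) : Set (Points X.obj) :=
  {x | IsFlatAtMor f.hom x}

theorem mem_flatLocus {X Y : AlgSp.Space S} (f : X ⟶ Y) (x : Points X.obj) :
    x ∈ flatLocus f ↔ IsFlatAtMor f.hom x := Iff.rfl

/-- The open set of the base over which `f` is flat. -/
def WF {X Y Z : AlgSp.Space S} (f : X ⟶ Y) (p : X ⟶ Z) : Set (Points Z.obj) :=
  (Points.map p.hom '' (flatLocus f)ᶜ)ᶜ

section

variable {X Y Z : AlgSp.Space S} (f : X ⟶ Y) (p : X ⟶ Z) (q : Y ⟶ Z) (hc : f ≫ q = p)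
  (hp1 : AlgSp.LocP @LocallyOfFinitePresentation p.hom) (hp2 : AlgSp.LocP @Flat p.hom)
  (hq : AlgSp.LocP @LocallyOfFiniteType q.hom)

include hc hp1 hp2 hq

theorem isOpen_flatLocus' : IsOpen (flatLocus f) :=
  isOpen_flatLocus f q (by rw [hc]; exact hp1) (by rw [hc]; exact hp2) hq

theorem isOpen_WF (hp3 : AlgSp.IsClosedMor p.hom) : IsOpen (WF f p) :=
  (hp3 _ (isOpen_flatLocus' f p q hc hp1 hp2 hq).isClosed_compl).isOpen_compl

theorem flatAt_bc_iff {Z' Y' X' : AlgSp.Space S} (g : Z' ⟶ Z)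
    (gY : Y' ⟶ Y) (q' : Y' ⟶ Z') (sq1 : IsPullback gY.hom q'.hom q.hom g.hom)
    (gX : X' ⟶ X) (f' : X' ⟶ Y') (sq2 : IsPullback gX.hom f'.hom f.hom gY.hom)
    (x' : Points X'.obj) :
    IsFlatAtMor f'.hom x' ↔ Points.map gX.hom x' ∈ flatLocus f :=
  flatLocus_baseChange f q (by rw [hc]; exact hp1) (by rw [hc]; exact hp2) hq X' Y' Z' g f' q'
    gX gY sq1 sq2 x'

theorem locP_flat_of_range_subset {Z' Y' X' : AlgSp.Space S} (g : Z' ⟶ Z)
    (hr : Set.range (Points.map g.hom) ⊆ WF f p)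
    (gY : Y' ⟶ Y) (q' : Y' ⟶ Z') (sq1 : IsPullback gY.hom q'.hom q.hom g.hom)
    (gX : X' ⟶ X) (f' : X' ⟶ Y') (sq2 : IsPullback gX.hom f'.hom f.hom gY.hom) :
    LocP @Flat f'.hom := by
  have hcomm : f.hom ≫ q.hom = p.hom := by rw [← hc]; rfl
  rw [locP_flat_iff]
  intro x'
  rw [flatAt_bc_iff f p q hc hp1 hp2 hq g gY q' sq1 gX f' sq2 x']
  by_contra hcon
  have hmem : Points.map p.hom (Points.map gX.hom x') ∈ WF f p := by
    have e0 : gX.hom ≫ p.hom = (f'.hom ≫ q'.hom) ≫ g.hom := by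
      rw [← hcomm, ← Category.assoc, sq2.w, Category.assoc, sq1.w, Category.assoc]
    rw [← Points.map_comp, e0, Points.map_comp]
    exact hr ⟨_, rfl⟩
  exact hmem ⟨_, hcon, rfl⟩

theorem range_subset_of_locP_flat {Z' Y' X' : AlgSp.Space S} (g : Z' ⟶ Z)
    (gY : Y' ⟶ Y) (q' : Y' ⟶ Z') (sq1 : IsPullback gY.hom q'.hom q.hom g.hom)
    (gX : X' ⟶ X) (f' : X' ⟶ Y') (sq2 : IsPullback gX.hom f'.hom f.hom gY.hom)
    (hloc : LocP @Flat f'.hom) : Set.range (Points.map g.hom) ⊆ WF f p := by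
  have hcomm : f.hom ≫ q.hom = p.hom := by rw [← hc]; rfl
  rintro _ ⟨z', rfl⟩
  intro hmem
  obtain ⟨x, hxT, hxz⟩ := hmem
  have sq3 : IsPullback gX.hom (f'.hom ≫ q'.hom) (f.hom ≫ q.hom) g.hom := sq2.paste_vert sq1
  obtain ⟨x', hx'1, hx'2⟩ := exists_of_isPullback sq3 x z' (by rw [hcomm]; exact hxz)
  have h1 := (locP_flat_iff f'.hom).1 hloc x'
  rw [flatAt_bc_iff f p q hc hp1 hp2 hq g gY q' sq1 gX f' sq2 x', hx'1] at h1
  exact hxT h1

/-- S10642. -/
theorem where_flat (hp3 : AlgSp.IsClosedMor p.hom) :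
    ∃ (W : AlgSp.Space S) (w : W ⟶ Z), AlgSp.RepWith @IsOpenImmersion w.hom ∧
      ∀ (Z' : AlgSp.Space S) (g : Z' ⟶ Z),
        (∃ k : Z' ⟶ W, k ≫ w = g) ↔
          ∀ (Y' : AlgSp.Space S) (gY : Y' ⟶ Y) (q' : Y' ⟶ Z'),
            IsPullback gY.hom q'.hom q.hom g.hom →
            ∀ (X' : AlgSp.Space S) (gX : X' ⟶ X) (f' : X' ⟶ Y'),
              IsPullback gX.hom f'.hom f.hom gY.hom →
                AlgSp.LocP @Flat f'.hom := by
  have hW0 := isOpen_WF f p q hc hp1 hp2 hq hp3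
  refine ⟨⟨openSub Z.obj (WF f p), isAlgSpace_openSub Z.property hW0⟩,
    ObjectProperty.homMk (openSubι Z.obj (WF f p)), repWith_isOpenImmersion_openSubι hW0, ?_⟩
  intro Z' g
  rw [exists_factor_openSub_iff hW0 g]
  constructor
  · intro hr Y' gY q' sq1 X' gX f' sq2
    exact locP_flat_of_range_subset f p q hc hp1 hp2 hq g hr gY q' sq1 gX f' sq2
  · intro hall
    have sq1 := IsPullback.of_hasPullback q.hom g.hom
    have hY' : IsAlgSpace (pullback q.hom g.hom) :=
      isAlgSpace_of_isPullback Z.property.diag Y.property Z'.property sq1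
    have sq2 := IsPullback.of_hasPullback f.hom (pullback.fst q.hom g.hom)
    have hX' : IsAlgSpace (pullback f.hom (pullback.fst q.hom g.hom)) :=
      isAlgSpace_of_isPullback Y.property.diag X.property hY' sq2
    have hloc := hall ⟨_, hY'⟩ (ObjectProperty.homMk (pullback.fst q.hom g.hom))
      (ObjectProperty.homMk (pullback.snd q.hom g.hom)) sq1 ⟨_, hX'⟩
      (ObjectProperty.homMk (pullback.fst f.hom (pullback.fst q.hom g.hom)))
      (ObjectProperty.homMk (pullback.snd f.hom (pullback.fst q.hom g.hom))) sq2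
    exact range_subset_of_locP_flat f p q hc hp1 hp2 hq g (Y' := ⟨_, hY'⟩) (X' := ⟨_, hX'⟩)
      (ObjectProperty.homMk (pullback.fst q.hom g.hom))
      (ObjectProperty.homMk (pullback.snd q.hom g.hom)) sq1
      (ObjectProperty.homMk (pullback.fst f.hom (pullback.fst q.hom g.hom)))
      (ObjectProperty.homMk (pullback.snd f.hom (pullback.fst q.hom g.hom))) sq2 hloc

/-- The image of the flat locus is open. -/
theorem isOpen_image_flatLocus : IsOpen (Points.map f.hom '' flatLocus f) := by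
  have hcomm : f.hom ≫ q.hom = p.hom := by rw [← hc]; rfl
  have hO := isOpen_flatLocus' f p q hc hp1 hp2 hq
  have hX₁ : IsAlgSpace (openSub X.obj (flatLocus f)) := isAlgSpace_openSub X.property hO
  have hιe : RepWith @Etale (openSubι X.obj (flatLocus f)) :=
    repWith_etale_of_openImmersion (repWith_isOpenImmersion_openSubι hO)
  have hfl₁ : LocP @Flat (openSubι X.obj (flatLocus f) ≫ f.hom) := by
    intro U V a b k hae hbe comm
    rw [Flat.iff_flat_stalkMap]
    intro u
    have hmem : Points.map (openSubι X.obj (flatLocus f)) (Points.ofPt a u) ∈ flatLocus f :=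
      (range_map_openSubι X.property hO).subset ⟨_, rfl⟩
    have hmem' : IsFlatAtMor f.hom (Points.map (openSubι X.obj (flatLocus f)) (Points.ofPt a u)) :=
      hmem
    exact hmem' (a ≫ openSubι X.obj (flatLocus f)) b k u (repWith_comp _ hae hιe) hbe
      (by rw [Category.assoc]; exact comm) rfl
  have hfp₁ : LocP @LocallyOfFinitePresentation (openSubι X.obj (flatLocus f) ≫ f.hom) := by
    have hfp : LocP @LocallyOfFinitePresentation f.hom :=
      locP_lfp_of_comp Z.property f.hom q.hom (by rw [hcomm]; exact hp1) hq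
    intro U V a b k hae hbe comm
    exact hfp (a ≫ openSubι X.obj (flatLocus f)) b k (repWith_comp _ hae hιe) hbe
      (by rw [Category.assoc]; exact comm)
  have hopen := isOpenMap_of_flat_of_lfp hX₁ Y.property _ hfl₁ hfp₁
  have himg : Points.map f.hom '' flatLocus f =
      Set.range (Points.map (openSubι X.obj (flatLocus f) ≫ f.hom)) := by
    ext y
    constructor
    · rintro ⟨x, hx, rfl⟩
      obtain ⟨x₁, rfl⟩ := (range_map_openSubι X.property hO).symm.subset hx
      exact ⟨x₁, Points.map_comp _ _ _⟩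
    · rintro ⟨x₁, rfl⟩
      exact ⟨Points.map (openSubι X.obj (flatLocus f)) x₁,
        (range_map_openSubι X.property hO).subset ⟨_, rfl⟩, (Points.map_comp _ _ _).symm⟩
  rw [himg]
  exact hopen.isOpen_range

/-- S10643. -/
theorem where_surjective_flat (hp3 : AlgSp.IsClosedMor p.hom) (hq2 : AlgSp.IsClosedMor q.hom) :
    ∃ (W : AlgSp.Space S) (w : W ⟶ Z), AlgSp.RepWith @IsOpenImmersion w.hom ∧
      ∀ (Z' : AlgSp.Space S) (g : Z' ⟶ Z),
        (∃ k : Z' ⟶ W, k ≫ w = g) ↔
          ∀ (Y' : AlgSp.Space S) (gY : Y' ⟶ Y) (q' : Y' ⟶ Z'),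
            IsPullback gY.hom q'.hom q.hom g.hom →
            ∀ (X' : AlgSp.Space S) (gX : X' ⟶ X) (f' : X' ⟶ Y'),
              IsPullback gX.hom f'.hom f.hom gY.hom →
                (AlgSp.IsSurjectiveMor f'.hom ∧ AlgSp.LocP @Flat f'.hom) := by
  have hcomm : f.hom ≫ q.hom = p.hom := by rw [← hc]; rfl
  have hW1 := isOpen_WF f p q hc hp1 hp2 hq hp3
  have hI := isOpen_image_flatLocus f p q hc hp1 hp2 hq
  have hπ : IsClosed (Points.map q.hom '' (Points.map f.hom '' flatLocus f)ᶜ) :=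
    hq2 _ hI.isClosed_compl
  obtain ⟨W0, hW0def⟩ : ∃ W0 : Set (Points Z.obj),
      W0 = WF f p ∩ (Points.map q.hom '' (Points.map f.hom '' flatLocus f)ᶜ)ᶜ := ⟨_, rfl⟩
  have hW0 : IsOpen W0 := by
    rw [hW0def]; exact hW1.inter hπ.isOpen_compl
  refine ⟨⟨openSub Z.obj W0, isAlgSpace_openSub Z.property hW0⟩,
    ObjectProperty.homMk (openSubι Z.obj W0), repWith_isOpenImmersion_openSubι hW0, ?_⟩
  intro Z' g
  rw [exists_factor_openSub_iff hW0 g]
  constructor
  · intro hr Y' gY q' sq1 X' gX f' sq2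
    rw [hW0def] at hr
    refine ⟨?_, locP_flat_of_range_subset f p q hc hp1 hp2 hq g
      (hr.trans Set.inter_subset_left) gY q' sq1 gX f' sq2⟩
    intro y'
    have hz : Points.map q.hom (Points.map gY.hom y') ∈
        (Points.map q.hom '' (Points.map f.hom '' flatLocus f)ᶜ)ᶜ := by
      rw [← Points.map_comp, sq1.w, Points.map_comp]
      exact (hr ⟨_, rfl⟩).2
    have hy : Points.map gY.hom y' ∈ Points.map f.hom '' flatLocus f := by
      by_contra hcon
      exact hz ⟨_, hcon, rfl⟩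
    obtain ⟨x, -, hx⟩ := hy
    obtain ⟨x', -, hx'2⟩ := exists_of_isPullback sq2 x y' hx
    exact ⟨x', hx'2⟩
  · intro hall
    have sq1 := IsPullback.of_hasPullback q.hom g.hom
    have hY' : IsAlgSpace (pullback q.hom g.hom) :=
      isAlgSpace_of_isPullback Z.property.diag Y.property Z'.property sq1
    have sq2 := IsPullback.of_hasPullback f.hom (pullback.fst q.hom g.hom)
    have hX' : IsAlgSpace (pullback f.hom (pullback.fst q.hom g.hom)) :=
      isAlgSpace_of_isPullback Y.property.diag X.property hY' sq2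
    obtain ⟨hsurj, hloc⟩ := hall ⟨_, hY'⟩ (ObjectProperty.homMk (pullback.fst q.hom g.hom))
      (ObjectProperty.homMk (pullback.snd q.hom g.hom)) sq1 ⟨_, hX'⟩
      (ObjectProperty.homMk (pullback.fst f.hom (pullback.fst q.hom g.hom)))
      (ObjectProperty.homMk (pullback.snd f.hom (pullback.fst q.hom g.hom))) sq2
    have hr1 := range_subset_of_locP_flat f p q hc hp1 hp2 hq g (Y' := ⟨_, hY'⟩)
      (X' := ⟨_, hX'⟩)
      (ObjectProperty.homMk (pullback.fst q.hom g.hom))
      (ObjectProperty.homMk (pullback.snd q.hom g.hom)) sq1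
      (ObjectProperty.homMk (pullback.fst f.hom (pullback.fst q.hom g.hom)))
      (ObjectProperty.homMk (pullback.snd f.hom (pullback.fst q.hom g.hom))) sq2 hloc
    rw [hW0def]
    refine Set.subset_inter hr1 ?_
    rintro _ ⟨z', rfl⟩ ⟨y, hy, hyz⟩
    obtain ⟨y', hy'1, -⟩ := exists_of_isPullback sq1 y z' hyz
    obtain ⟨x', hx'⟩ := hsurj y'
    apply hy
    refine ⟨Points.map (pullback.fst f.hom (pullback.fst q.hom g.hom)) x', ?_, ?_⟩
    · have h1 := (locP_flat_iff _).1 hloc x'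
      exact (flatAt_bc_iff f p q hc hp1 hp2 hq g (Y' := ⟨_, hY'⟩) (X' := ⟨_, hX'⟩)
        (ObjectProperty.homMk (pullback.fst q.hom g.hom))
        (ObjectProperty.homMk (pullback.snd q.hom g.hom)) sq1
        (ObjectProperty.homMk (pullback.fst f.hom (pullback.fst q.hom g.hom)))
        (ObjectProperty.homMk (pullback.snd f.hom (pullback.fst q.hom g.hom))) sq2 x').1 h1
    · rw [← Points.map_comp, sq2.w, Points.map_comp]
      rw [← hy'1]
      exact congrArg _ hx'

end

end Groth.Agent.Lib.AlgSpWhereFlatH7
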