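import Groth.Agent.Lib.AlgSpWhereFlat_helper7
import Groth.Agent.Lib.AlgSpWhereClosedImm_helper7
import Groth.Agent.Lib.AlgSpFpqc3_helper7
import Groth.Agent.Lib.AlgSpIso_helper7

/-!
# The open subspace of the base over which a morphism is an isomorphism (helper7): S10644
-/

set_option autoImplicit false
set_option linter.style.haveILetI false
universe u
open CategoryTheory CategoryTheory.Limits AlgebraicGeometry Opposite MorphismProperty
open AlgSp Groth.Agent.Lib.AlgSpQC2_helper7 Groth.Agent.Lib.AlgSpPoints_helper7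
  Groth.Agent.Lib.AlgSpQC_helper7 Groth.Agent.Lib.AlgSpDiag_helper7 Groth.Agent.Lib.AlgSpTop_helper7
  Groth.Agent.Lib.AlgSpPullback_helper7 Groth.Agent.Lib.AlgSpSep_helper7
  Groth.Agent.Lib.AlgSpLocP_helper7 Groth.Agent.Lib.AlgSpUniv_helper7
  Groth.Agent.Lib.AlgSpLocP4_helper7 Groth.Agent.Lib.AlgSpLocP7_helper7
  Groth.Agent.Lib.AlgSpOpenSub_helper7
  Groth.Agent.Lib.AlgSpWhereFlatH7 Groth.Agent.Lib.AlgSpWhereClosedImmH7
  Groth.Agent.Lib.AlgSpLocP9_helper7 Groth.Agent.Lib.AlgSpFpqc3_helper7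
  Groth.Agent.Lib.AlgSpIso_helper7

namespace Groth.Agent.Lib.AlgSpWhereIsoH7

variable {S : Scheme.{u}}

/-- A monomorphism of algebraic spaces that is flat, locally of finite presentation and surjective
is an isomorphism. -/
theorem isIso_of_mono_of_fppf_of_surjective {X Y : Sp S} (hX : IsAlgSpace X) (hY : IsAlgSpace Y)
    (f : X ⟶ Y) (hflat : LocP @Flat f) (hfp : LocP @LocallyOfFinitePresentation f)
    (hs : IsSurjectiveMor f) [Mono f] : IsIso f := by
  have hcov : IsFpqcCover (fun _ : PUnit.{u + 1} => X) (fun _ => f) :=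
    isFpqcCover_of_isFppfCover hY (fun _ : PUnit.{u + 1} => X) (fun _ => f) (fun _ => hX)
      ⟨fun _ => ⟨hflat, hfp⟩, fun y => by
        obtain ⟨x, hx⟩ := hs y
        exact ⟨PUnit.unit, x, hx⟩⟩
  have sq := IsPullback.of_hasPullback f f
  have hP : IsAlgSpace (pullback f f) := isAlgSpace_of_isPullback hY.diag hX hX sq
  exact (isLocalOnBase_fpqc_isomorphisms (fun _ : PUnit.{u + 1} => X) (fun _ => f) hY
    (fun _ => hX) hcov f hX (fun _ => pullback f f) (fun _ => pullback.snd f f)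
    (fun _ => pullback.fst f f) (fun _ => hP) (fun _ => sq)).2
    (fun _ => (inferInstance : IsIso (pullback.snd f f)))

/-- Intersection of two open subspaces, by universal property. -/
theorem exists_inter_open {Z : AlgSp.Space S} (W₁ : AlgSp.Space S) (w₁ : W₁ ⟶ Z)
    (h₁ : RepWith @IsOpenImmersion w₁.hom)
    (W₂ : AlgSp.Space S) (w₂ : W₂ ⟶ Z) (h₂ : RepWith @IsOpenImmersion w₂.hom) :
    ∃ (W : AlgSp.Space S) (w : W ⟶ Z), RepWith @IsOpenImmersion w.hom ∧
      ∀ (Z' : AlgSp.Space S) (g : Z' ⟶ Z), (∃ k : Z' ⟶ W, k ≫ w = g) ↔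
        ((∃ k₁ : Z' ⟶ W₁, k₁ ≫ w₁ = g) ∧ (∃ k₂ : Z' ⟶ W₂, k₂ ≫ w₂ = g)) := by
  have sq := IsPullback.of_hasPullback w₁.hom w₂.hom
  have hW : IsAlgSpace (pullback w₁.hom w₂.hom) :=
    isAlgSpace_of_isPullback Z.property.diag W₁.property W₂.property sq
  refine ⟨⟨_, hW⟩, ObjectProperty.homMk (pullback.fst w₁.hom w₂.hom ≫ w₁.hom),
    repWith_comp _ (repWith_fst_of_isPullback _ sq h₂) h₁, ?_⟩
  intro Z' g
  constructor
  · rintro ⟨k, rfl⟩
    refine ⟨⟨k ≫ ObjectProperty.homMk (pullback.fst w₁.hom w₂.hom), ?_⟩,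
      ⟨k ≫ ObjectProperty.homMk (pullback.snd w₁.hom w₂.hom), ?_⟩⟩
    · exact ObjectProperty.hom_ext _
        (show (k.hom ≫ pullback.fst w₁.hom w₂.hom) ≫ w₁.hom =
          k.hom ≫ (pullback.fst w₁.hom w₂.hom ≫ w₁.hom) from Category.assoc _ _ _)
    · exact ObjectProperty.hom_ext _
        (show (k.hom ≫ pullback.snd w₁.hom w₂.hom) ≫ w₂.hom =
          k.hom ≫ (pullback.fst w₁.hom w₂.hom ≫ w₁.hom) by
            rw [Category.assoc, ← pullback.condition])
  · rintro ⟨⟨k₁, hk₁⟩, ⟨k₂, hk₂⟩⟩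
    have e1 : k₁.hom ≫ w₁.hom = g.hom := congrArg (fun t => t.hom) hk₁
    have e2 : k₂.hom ≫ w₂.hom = g.hom := congrArg (fun t => t.hom) hk₂
    refine ⟨ObjectProperty.homMk (sq.lift k₁.hom k₂.hom (e1.trans e2.symm)),
      ObjectProperty.hom_ext _ ?_⟩
    show sq.lift k₁.hom k₂.hom (e1.trans e2.symm) ≫ (pullback.fst w₁.hom w₂.hom ≫ w₁.hom) = g.hom
    rw [← Category.assoc, sq.lift_fst]
    exact e1

/-- S10644. -/
theorem where_isomorphism {X Y Z : AlgSp.Space S}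
    (f : X ⟶ Y) (p : X ⟶ Z) (q : Y ⟶ Z) (hc : f ≫ q = p)
    (hp1 : AlgSp.LocP @LocallyOfFinitePresentation p.hom) (hp2 : AlgSp.LocP @Flat p.hom)
    (hp3 : AlgSp.IsUnivClosedMor p.hom) (hq1 : AlgSp.LocP @LocallyOfFiniteType q.hom)
    (hq2 : AlgSp.IsClosedMor q.hom) (hq3 : AlgSp.IsSeparatedMor q.hom) :
    ∃ (W : AlgSp.Space S) (w : W ⟶ Z), AlgSp.RepWith @IsOpenImmersion w.hom ∧
      ∀ (Z' : AlgSp.Space S) (g : Z' ⟶ Z),
        (∃ k : Z' ⟶ W, k ≫ w = g) ↔
          ∀ (Y' : AlgSp.Space S) (gY : Y' ⟶ Y) (q' : Y' ⟶ Z'),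
            IsPullback gY.hom q'.hom q.hom g.hom →
            ∀ (X' : AlgSp.Space S) (gX : X' ⟶ X) (f' : X' ⟶ Y'),
              IsPullback gX.hom f'.hom f.hom gY.hom →
                IsIso f'.hom := by
  have hcomm : f.hom ≫ q.hom = p.hom := by rw [← hc]; rfl
  have hpc : IsClosedMor p.hom := isClosedMor_of_isUnivClosedMor Z.property p.hom hp3
  have hLFTp : LocP @LocallyOfFiniteType p.hom := fun U V a b h hae hbe comm => by
    haveI : LocallyOfFinitePresentation h.left := hp1 a b h hae hbe comm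
    infer_instance
  obtain ⟨W₁, w₁, hw₁, H₁⟩ := where_closedImmersion f p q hc hLFTp hp3 hq3
  obtain ⟨W₂, w₂, hw₂, H₂⟩ := where_surjective_flat f p q hc hp1 hp2 hq1 hpc hq2
  obtain ⟨W, w, hw, H⟩ := exists_inter_open W₁ w₁ hw₁ W₂ w₂ hw₂
  refine ⟨W, w, hw, fun Z' g => ?_⟩
  rw [H Z' g, H₁ Z' g, H₂ Z' g]
  constructor
  · rintro ⟨hci, hsf⟩ Y' gY q' sq1 X' gX f' sq2
    have h1 := hci Y' gY q' sq1 X' gX f' sq2
    obtain ⟨hs, hfl⟩ := hsf Y' gY q' sq1 X' gX f' sq2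
    haveI : Mono f'.hom :=
      Groth.Agent.Lib.AlgSpFactor_helper6.mono_of_repWith_isClosedImmersion f'.hom h1
    have sq3 : IsPullback gX.hom (f'.hom ≫ q'.hom) (f.hom ≫ q.hom) g.hom := sq2.paste_vert sq1
    have hfp' : LocP @LocallyOfFinitePresentation (f'.hom ≫ q'.hom) :=
      locP_baseChange etLocal_locallyOfFinitePresentation X.property Z.property Z'.property
        (f.hom ≫ q.hom) g.hom gX.hom (f'.hom ≫ q'.hom) sq3 (by rw [hcomm]; exact hp1)
    have hq' : LocP @LocallyOfFiniteType q'.hom :=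
      locP_baseChange etLocal_locallyOfFiniteType Y.property Z.property Z'.property
        q.hom g.hom gY.hom q'.hom sq1 hq1
    have hfpf : LocP @LocallyOfFinitePresentation f'.hom :=
      locP_lfp_of_comp Z'.property f'.hom q'.hom hfp' hq'
    exact isIso_of_mono_of_fppf_of_surjective X'.property Y'.property f'.hom hfl hfpf hs
  · intro hall
    refine ⟨fun Y' gY q' sq1 X' gX f' sq2 => ?_, fun Y' gY q' sq1 X' gX f' sq2 => ?_⟩
    · haveI := hall Y' gY q' sq1 X' gX f' sq2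
      exact Groth.Agent.Lib.AlgSpBasic_helper7.repWith_of_isIso @IsClosedImmersion f'.hom
    · haveI := hall Y' gY q' sq1 X' gX f' sq2
      refine ⟨fun y => ⟨Points.map (inv f'.hom) y, by
        rw [← Points.map_comp, IsIso.inv_hom_id, Points.map_id]⟩, ?_⟩
      exact locP_of_repWith @Flat (fun _ _ g (hg : Etale g) => (inferInstance : Flat g)) f'.hom
        (Groth.Agent.Lib.AlgSpBasic_helper7.repWith_of_isIso @Flat f'.hom)

end Groth.Agent.Lib.AlgSpWhereIsoH7
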