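import Groth.Agent.Lib.AlgSpDecent6_helper6
import Groth.Prelude.Def_AlgSpCov

/-!
# `RepWith P` is Zariski local on the target sheaf (helper6)
-/

set_option autoImplicit false
universe u
open CategoryTheory CategoryTheory.Limits AlgebraicGeometry Opposite

namespace Groth.Agent.Lib.AlgSpZarLocal_helper6

open AlgSp Groth.Agent.Lib.AlgSpPoints_helper7 Groth.Agent.Lib.AlgSpQC_helper7
  Groth.Agent.Lib.AlgSpPullback_helper7

variable {S : Scheme.{u}}

/-- the open subschemes of `T` cut out by a jointly surjective family of open subsheaves cover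
`T` -/
theorem exists_preimage_of_cover {B : Sp S} {ι : Type u} (Bi : ι → Sp S) (j : ∀ i, Bi i ⟶ B)
    (hj : ∀ i, Representable (j i))
    (hcov : ∀ x : Points B, ∃ i, x ∈ Set.range (Points.map (j i)))
    {T : Over S} (g : (yon S).obj T ⟶ B) (t : ↥T.left) :
    ∃ (i : ι) (w : ↥((hj i).pullback g).left), ((hj i).snd g).left w = t := by
  obtain ⟨i, xi, hxi⟩ := hcov (Points.ofPt g t)
  have sqi := (hj i).isPullback g
  rw [Points.ofPt_eq_map_ofScheme] at hxi
  obtain ⟨z, -, hz2⟩ := exists_of_isPullback sqi xi _ hxi
  obtain ⟨w, rfl⟩ := ofScheme_surjective _ z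
  refine ⟨i, w, ?_⟩
  apply ofScheme_injective T
  rw [← hz2, ← Points.ofPt_eq_map_ofScheme, ofPt_yon_map]

/-- `RepWith P` can be checked on a Zariski covering of the target, for `P` Zariski local on the
target. -/
theorem repWith_of_zarCover (P : MorphismProperty Scheme.{u}) [IsZariskiLocalAtTarget P]
    {A B : Sp S} (f : A ⟶ B) (hf : Representable f) {ι : Type u} (Bi : ι → Sp S)
    (j : ∀ i, Bi i ⟶ B) (hj : ∀ i, RepWith @IsOpenImmersion (j i))
    (hcov : ∀ x : Points B, ∃ i, x ∈ Set.range (Points.map (j i)))
    (h : ∀ i, ∃ (E : Sp S) (a : E ⟶ A) (b : E ⟶ Bi i), IsPullback a b f (j i) ∧ RepWith P b) :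
    RepWith P f := by
  refine ⟨hf, fun T V g fst snd sq => ?_⟩
  change P snd.left
  have key : ∀ i : ι, P (pullback.snd snd.left ((hj i).rep.snd g).left) := by
    intro i
    obtain ⟨E, a, b, sqE, hb⟩ := h i
    let si := (hj i).rep.snd g
    let fi := (hj i).rep.fst g
    have sqi : IsPullback fi ((yon S).map si) (j i) g := (hj i).rep.isPullback g
    have R : Representable ((yon S).map snd) := representable_yon_map snd
    let ai := R.fst' ((yon S).map si)
    let bi := R.snd ((yon S).map si)
    have sqV : IsPullback ((yon S).map ai) ((yon S).map bi) ((yon S).map snd) ((yon S).map si) :=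
      R.isPullback' _
    have big : IsPullback ((yon S).map ai ≫ fst) ((yon S).map bi) f (fi ≫ j i) := by
      rw [sqi.w]
      exact sqV.paste_horiz sq
    let k := sqE.lift ((yon S).map ai ≫ fst) ((yon S).map bi ≫ fi)
      (by simpa only [Category.assoc] using big.w)
    have hk1 : k ≫ a = (yon S).map ai ≫ fst := sqE.lift_fst _ _ _
    have hk2 : k ≫ b = (yon S).map bi ≫ fi := sqE.lift_snd _ _ _
    have sqk : IsPullback k ((yon S).map bi) b fi := by
      refine IsPullback.of_right ?_ hk2 sqE
      rw [hk1]
      exact big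
    have hP : P bi.left := hb.2 fi k bi sqk
    have sqV' : IsPullback ai bi snd si :=
      IsPullback.of_map (yon S) ((yon S).map_injective (by
        rw [Functor.map_comp, Functor.map_comp]; exact sqV.w)) sqV
    have sqV'' : IsPullback ai.left bi.left snd.left si.left := sqV'.map (Over.forget S)
    have e : pullback.snd snd.left si.left = sqV''.isoPullback.inv ≫ bi.left :=
      (sqV''.isoPullback_inv_snd).symm ▸ rfl
    rw [e]
    haveI : P.RespectsIso := inferInstance
    exact (P.cancel_left_of_respectsIso _ _).2 hP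
  let 𝒰 : Scheme.OpenCover.{u} T.left :=
    Scheme.Cover.mkOfCovers ι (fun i => ((hj i).rep.pullback g).left)
      (fun i => ((hj i).rep.snd g).left)
      (fun t => exists_preimage_of_cover Bi j (fun i => (hj i).rep) hcov g t)
      (fun i => (hj i).property_snd g)
  exact IsZariskiLocalAtTarget.of_openCover 𝒰 key

end Groth.Agent.Lib.AlgSpZarLocal_helper6
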