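import Groth.Agent.Lib.AlgStDiagLFT_lead

/-!
# The diagonal is representable iff all morphisms from schemes are (lead)
-/

set_option autoImplicit false

universe u

open CategoryTheory CategoryTheory.Limits AlgebraicGeometry Opposite FibCat Stk

namespace Groth.Agent.Lib.AlgStLocal

open AlgSt Groth.Agent.Lib.FibCat_helper6 Groth.Agent.Lib.FibCat3_helper6
  Groth.Agent.Lib.FibCat14_helper6 Groth.Agent.Lib.FibCatPaste Groth.Agent.Lib.FibCatSwap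
  Groth.Agent.Lib.FibCatIsoFun
  Groth.Agent.Lib.OfPshCalc Groth.Agent.Lib.AlgStBC
  Groth.Agent.Lib.AlgStEquiv Groth.Agent.Lib.AlgStEquivP Groth.Agent.Lib.AlgStEquivInv
  Groth.Agent.Lib.OfPshAlgSt Groth.Agent.Lib.LiftSqBC Groth.Agent.Lib.LiftSqComp
  Groth.Agent.Lib.OfPshWith Groth.Agent.Lib.FibCatDiagSec Groth.Agent.Lib.AlgStDiagRep
  Groth.Agent.Lib.FibCatDiagBC Groth.Agent.Lib.FibCatMagic Groth.Agent.Lib.FibCatProd
  Groth.Agent.Lib.AlgStDiag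

variable {S : Scheme.{u}}

theorem repByAlgSp_of_equiv_target {𝒲 ℰ : AlgSt.Cat S} (L : 𝒲 ⥤ᵇ ℰ) (hL : IsEquivOver L)
    (h : AlgSt.RepByAlgSp ℰ) : AlgSt.RepByAlgSp 𝒲 := by
  obtain ⟨A, e, he⟩ := h
  obtain ⟨G, ⟨η⟩, ⟨ε⟩⟩ := hL
  exact ⟨A, BasedFunctor.comp e G, isEquivOver_comp he (isEquivOver_inverse η ε)⟩

theorem repByAlgSp_of_equiv_source {𝒲 ℰ : AlgSt.Cat S} (L : 𝒲 ⥤ᵇ ℰ) (hL : IsEquivOver L)
    (h : AlgSt.RepByAlgSp 𝒲) : AlgSt.RepByAlgSp ℰ := by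
  obtain ⟨A, e, he⟩ := h
  exact ⟨A, BasedFunctor.comp e L, isEquivOver_comp he hL⟩

theorem repByAlgSp1_diag_iff {𝒳 : AlgSt.Cat S} (h𝒳 : IsFibGrpd 𝒳.p) :
    AlgSt.RepByAlgSp1 (FibCat.diag (FibCat.toSelf 𝒳)) ↔
      ∀ (U : Over S) (x : FibCat.overCat U ⥤ᵇ 𝒳), AlgSt.RepByAlgSp1 x := by
  have hXX : IsFibGrpd (fp (toSelf 𝒳) (toSelf 𝒳)).p :=
    Groth.Agent.Lib.FibCat12_helper6.isFibGrpd_prod h𝒳 h𝒳
  constructor
  · intro hΔ U x T y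
    have hZ : AlgSt.RepByAlgSp (fp (toSelf (FibCat.overCat T)) (toSelf (FibCat.overCat U))) :=
      repByAlgSp1_toSelf_overCat U T (toSelf (FibCat.overCat T))
    have h1 : AlgSt.RepByAlgSp (fp (prodMap y x) (FibCat.diag (toSelf 𝒳))) :=
      repByAlgSp_fp h𝒳 hXX (FibCat.diag (toSelf 𝒳)) (prodMap y x) hΔ hZ
    exact repByAlgSp_of_equiv_target (magic y x) (magic_isEquivOver y x) h1
  · intro H T t
    let y₁ : FibCat.overCat T ⥤ᵇ 𝒳 := BasedFunctor.comp t (fpFst (toSelf 𝒳) (toSelf 𝒳))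
    let y₂ : FibCat.overCat T ⥤ᵇ 𝒳 := BasedFunctor.comp t (fpSnd (toSelf 𝒳) (toSelf 𝒳))
    let δ : FibCat.overCat T ⥤ᵇ fp (toSelf (FibCat.overCat T)) (toSelf (FibCat.overCat T)) :=
      FibCat.diag (toSelf (FibCat.overCat T))
    have ι : t ≅ BasedFunctor.comp δ (prodMap y₁ y₂) :=
      prodIsoMk2 (H := t) (K := BasedFunctor.comp δ (prodMap y₁ y₂)) (Iso.refl _) (Iso.refl _)
    have hTT : AlgSt.RepByAlgSp (fp (toSelf (FibCat.overCat T)) (toSelf (FibCat.overCat T))) :=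
      repByAlgSp1_toSelf_overCat T T (toSelf (FibCat.overCat T))
    have h1 : AlgSt.RepByAlgSp (fp y₁ y₂) := H T y₂ T y₁
    have h2 : AlgSt.RepByAlgSp (fp (prodMap y₁ y₂) (FibCat.diag (toSelf 𝒳))) :=
      repByAlgSp_of_equiv_source (magic y₁ y₂) (magic_isEquivOver y₁ y₂) h1
    have h3 : AlgSt.RepByAlgSp1 (fpFst (prodMap y₁ y₂) (FibCat.diag (toSelf 𝒳))) :=
      repByAlgSp1_of_repByAlgSp h2 hTT _
    have h4 : AlgSt.RepByAlgSp (fp δ (fpFst (prodMap y₁ y₂) (FibCat.diag (toSelf 𝒳)))) := h3 T δ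
    have h5 : AlgSt.RepByAlgSp (fp (BasedFunctor.comp δ (prodMap y₁ y₂)) (FibCat.diag (toSelf 𝒳))) :=
      repByAlgSp_of_equiv_target (paste δ (prodMap y₁ y₂) (FibCat.diag (toSelf 𝒳)))
        (paste_isEquivOver _ _ _) h4
    exact repByAlgSp_of_equiv_target (isoFun₁ ι (FibCat.diag (toSelf 𝒳)))
      (isoFun₁_isEquivOver ι _) h5

end Groth.Agent.Lib.AlgStLocal
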