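import Groth.Agent.Lib.FibCatPaste_lead

/-!
# The diagonal of a base change is a base change of the diagonal (lead)
-/

set_option autoImplicit false

universe v₆ u₆ v₅ u₅ v₄ u₄ v₃ u₃ v₂ u₂ v u

open CategoryTheory CategoryTheory.Limits FibCat

namespace Groth.Agent.Lib.FibCatDiagBC

open Groth.Agent.Lib.FibCat_helper6 Groth.Agent.Lib.FibCat3_helper6
  Groth.Agent.Lib.FibCat14_helper6 Groth.Agent.Lib.LiftSqBC Groth.Agent.Lib.FibCatPaste

variable {C : Type u} [Category.{v} C]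

theorem compat_aux {E : Type*} [Category E] {A B C' D X : E} (φ₁ : A ≅ B) (gα : A ⟶ C')
    (φ₂ : C' ⟶ D) (fκ₁ : B ⟶ X) (fκ₂ : D ⟶ X) (fκ₂' : X ⟶ D) (hκ : fκ₂ ≫ fκ₂' = 𝟙 D)
    (h : fκ₁ ≫ 𝟙 X = (φ₁.inv ≫ gα ≫ φ₂) ≫ fκ₂) : gα ≫ φ₂ = φ₁.hom ≫ fκ₁ ≫ fκ₂' := by
  rw [Category.comp_id] at h
  rw [h]
  simp only [Category.assoc, hκ, Category.comp_id, Iso.hom_inv_id_assoc]

variable {𝒳 : BasedCategory.{v₂, u₂} C} {𝒴 : BasedCategory.{v₃, u₃} C}
  {𝒴' : BasedCategory.{v₄, u₄} C} (f : 𝒳 ⥤ᵇ 𝒴) (g : 𝒴' ⥤ᵇ 𝒴)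

local notation "πg" => fpFst g f
local notation "ρg" => fpSnd g f
local notation "Pfst" => fpFst (fpFst g f) (fpFst g f)
local notation "Psnd" => fpSnd (fpFst g f) (fpFst g f)

/-- The comparison 2-isomorphism `f x₁ ≅ g y₁ ≅ g y₂ ≅ f x₂`. -/
def epsIso : BasedFunctor.comp (BasedFunctor.comp Pfst ρg) f ≅
    BasedFunctor.comp (BasedFunctor.comp Psnd ρg) f :=
  (whiskerLeftIso Pfst (fpIso g f).symm :
      BasedFunctor.comp Pfst (BasedFunctor.comp ρg f) ≅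
      BasedFunctor.comp Pfst (BasedFunctor.comp πg g)) ≪≫
  ((Groth.Agent.Lib.LiftSqComp.whiskerRightIso (fpIso πg πg) g :
      BasedFunctor.comp (BasedFunctor.comp Pfst πg) g ≅
      BasedFunctor.comp (BasedFunctor.comp Psnd πg) g) ≪≫
  (whiskerLeftIso Psnd (fpIso g f) :
      BasedFunctor.comp Psnd (BasedFunctor.comp πg g) ≅
      BasedFunctor.comp Psnd (BasedFunctor.comp ρg f)))

/-- The functor `𝒫 ×_{𝒴'} 𝒫 ⟶ 𝒳 ×_𝒴 𝒳` induced by the second projection `𝒫 = 𝒴' ×_𝒴 𝒳 ⟶ 𝒳`. -/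
def Phi : fp πg πg ⥤ᵇ fp f f :=
  fpLift (BasedFunctor.comp Pfst ρg) (BasedFunctor.comp Psnd ρg) (epsIso f g)

theorem Phi_obj_iso_hom (Q : (fp πg πg).obj) :
    ((Phi f g).obj Q).obj.iso.hom =
      Q.obj.fst.obj.iso.inv ≫ g.toFunctor.map Q.obj.iso.hom ≫ Q.obj.snd.obj.iso.hom := rfl

/-- The 2-isomorphism of the square `Δ_π ⋙ Φ ≅ ρ ⋙ Δ_f`. -/
def sqIso : BasedFunctor.comp (diag πg) (Phi f g) ≅ BasedFunctor.comp ρg (diag f) :=
  isoMk2 f f (H := BasedFunctor.comp (diag πg) (Phi f g)) (K := BasedFunctor.comp ρg (diag f))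
    (Iso.refl ρg) (Iso.refl ρg) (fun w => by
      show f.toFunctor.map (𝟙 _) ≫ 𝟙 _ =
        (w.obj.iso.inv ≫ g.toFunctor.map (𝟙 _) ≫ w.obj.iso.hom) ≫ f.toFunctor.map (𝟙 _)
      simp)

/-- The comparison functor of the square. -/
def diagBC : fp g f ⥤ᵇ fp (Phi f g) (diag f) := fpLift (diag πg) ρg (sqIso f g)

instance diagBC_faithful : (diagBC f g).toFunctor.Faithful where
  map_injective := by
    intro w w' m m' h
    exact congrArg (fun n => n.hom.fst.hom.fst) h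

instance diagBC_full : (diagBC f g).toFunctor.Full where
  map_surjective := by
    intro w w' n
    have h1 : (fpSnd g f).toFunctor.map n.hom.fst.hom.fst ≫ 𝟙 _ = 𝟙 _ ≫ n.hom.snd :=
      congrArg (fun m => m.hom.fst) n.hom.w
    have h2 : (fpSnd g f).toFunctor.map n.hom.fst.hom.snd ≫ 𝟙 _ = 𝟙 _ ≫ n.hom.snd :=
      congrArg (fun m => m.hom.snd) n.hom.w
    have h3 : (fpFst g f).toFunctor.map n.hom.fst.hom.fst ≫ 𝟙 _ =
        𝟙 _ ≫ (fpFst g f).toFunctor.map n.hom.fst.hom.snd := n.hom.fst.hom.w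
    have h1' : (fpSnd g f).toFunctor.map n.hom.fst.hom.fst = n.hom.snd :=
      (Category.comp_id _).symm.trans (h1.trans (Category.id_comp _))
    have h2' : (fpSnd g f).toFunctor.map n.hom.fst.hom.snd = n.hom.snd :=
      (Category.comp_id _).symm.trans (h2.trans (Category.id_comp _))
    have h3' : (fpFst g f).toFunctor.map n.hom.fst.hom.fst =
        (fpFst g f).toFunctor.map n.hom.fst.hom.snd :=
      (Category.comp_id _).symm.trans (h3.trans (Category.id_comp _))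
    have e12 : n.hom.fst.hom.fst = n.hom.fst.hom.snd := by
      apply fp_hom_ext
      · exact h3'
      · exact h1'.trans h2'.symm
    refine ⟨n.hom.fst.hom.fst, ?_⟩
    apply fp_hom_ext
    · apply fp_hom_ext
      · rfl
      · exact e12
    · exact h1'

theorem diagBC_essSurj (V : (fp (Phi f g) (diag f)).obj) :
    ∃ (w : (fp g f).obj) (φ : (diagBC f g).obj w ≅ V),
      (fp (Phi f g) (diag f)).p.IsHomLift (𝟙 ((fp (Phi f g) (diag f)).p.obj V)) φ.hom := by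
  let Q : (fp πg πg).obj := V.obj.fst
  let w : (fp g f).obj := Q.obj.fst
  let κ₁ : w.obj.snd ≅ V.obj.snd := (fpFst f f).toFunctor.mapIso V.obj.iso
  let κ₂ : Q.obj.snd.obj.snd ≅ V.obj.snd := (fpSnd f f).toFunctor.mapIso V.obj.iso
  have hκ : f.toFunctor.map κ₁.hom ≫ 𝟙 _ =
      (w.obj.iso.inv ≫ g.toFunctor.map Q.obj.iso.hom ≫ Q.obj.snd.obj.iso.hom) ≫
        f.toFunctor.map κ₂.hom := V.obj.iso.hom.hom.w
  have hκ₂ : f.toFunctor.map κ₂.hom ≫ f.toFunctor.map κ₂.inv = 𝟙 _ := by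
    rw [← f.toFunctor.map_comp, κ₂.hom_inv_id, f.toFunctor.map_id]
  let β : w ≅ Q.obj.snd :=
    fpIsoMk (F := g) (G := f) (X := w) (Y := Q.obj.snd) Q.obj.iso (κ₁ ≪≫ κ₂.symm) (by
      show g.toFunctor.map Q.obj.iso.hom ≫ Q.obj.snd.obj.iso.hom =
        w.obj.iso.hom ≫ f.toFunctor.map (κ₁.hom ≫ κ₂.inv)
      rw [f.toFunctor.map_comp]
      exact compat_aux w.obj.iso _ _ _ _ _ hκ₂ hκ)
  let a : (diag πg).obj w ≅ Q :=
    fpIsoMk (F := πg) (G := πg) (X := (diag πg).obj w) (Y := Q) (Iso.refl w) β (by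
      show (fpFst g f).toFunctor.map (𝟙 w) ≫ Q.obj.iso.hom = 𝟙 _ ≫ Q.obj.iso.hom
      rw [(fpFst g f).toFunctor.map_id])
  refine ⟨w, fpIsoMk (F := Phi f g) (G := diag f) (X := (diagBC f g).obj w) (Y := V) a κ₁ ?_, ?_⟩
  · apply fp_hom_ext
    · show (fpSnd g f).toFunctor.map (𝟙 w) ≫ κ₁.hom = 𝟙 _ ≫ κ₁.hom
      rw [(fpSnd g f).toFunctor.map_id]
      rfl
    · show (κ₁.hom ≫ κ₂.inv) ≫ κ₂.hom = 𝟙 _ ≫ κ₁.hom
      rw [Category.assoc, κ₂.inv_hom_id, Category.comp_id, Category.id_comp]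
  · apply fpIsoMk_isHomLift
    apply fpIsoMk_isHomLift
    exact (inferInstance : (fp g f).p.IsHomLift (𝟙 ((fp g f).p.obj w)) (𝟙 w))

theorem diagBC_isEquivOver : IsEquivOver (diagBC f g) :=
  isEquivOver_of_fullyFaithful (diagBC f g) (diagBC_essSurj f g)

end Groth.Agent.Lib.FibCatDiagBC
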