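import Groth.Agent.Lib.AlgStBC_lead
import Groth.Agent.Lib.FibCatDiagBC_lead
import Groth.Prelude.Def_AlgSt3

/-!
# Properties of the diagonal are stable under base change (lead)
-/

set_option autoImplicit false

universe u

open CategoryTheory CategoryTheory.Limits AlgebraicGeometry Opposite FibCat

namespace Groth.Agent.Lib.AlgStDiag

open AlgSt Groth.Agent.Lib.AlgStBC Groth.Agent.Lib.FibCatDiagBC

variable {S : Scheme.{u}}

theorem repWith_diag_baseChange {𝒳 𝒴 𝒴' : AlgSt.Cat S} (P : MorphismProperty (AlgSp.Sp S))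
    (f : 𝒳 ⥤ᵇ 𝒴) (g : 𝒴' ⥤ᵇ 𝒴) (h : RepByAlgSpWith P (diag f)) :
    RepByAlgSpWith P (diag (fpFst g f)) :=
  repWith_of_twoCart P (g := Phi f g) (f := diag f) (diag (fpFst g f)) (fpSnd g f) (sqIso f g)
    (diagBC_isEquivOver f g) h

end Groth.Agent.Lib.AlgStDiag
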