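import Groth.Agent.Lib.FibCat12_helper6

/-!
# Products over `C`: cartesian morphisms (helper6)
-/

set_option autoImplicit false

universe v₆ u₆ v₅ u₅ v₄ u₄ v₃ u₃ v₂ u₂ v u

open CategoryTheory CategoryTheory.Limits FibCat

namespace Groth.Agent.Lib.FibCat13_helper6

open Groth.Agent.Lib.FibCat_helper6 Groth.Agent.Lib.FibCat2_helper6

section plain

variable {C : Type u} [Category.{v} C] {𝒳 : Type u₂} [Category.{v₂} 𝒳] (p : 𝒳 ⥤ C)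

theorem isCartesian_map_of {R S : C} (f : R ⟶ S) {a b : 𝒳} (φ : a ⟶ b)
    [h : p.IsCartesian f φ] : p.IsCartesian (p.map φ) φ := by
  subst_hom_lift p f φ
  exact h

theorem isCartesian_of_map {R S : C} (f : R ⟶ S) {a b : 𝒳} (φ : a ⟶ b)
    [p.IsHomLift f φ] (h : p.IsCartesian (p.map φ) φ) : p.IsCartesian f φ := by
  subst_hom_lift p f φ
  exact h

end plain

section prod

variable {C : Type u} [Category.{v} C] {𝒳 : BasedCategory.{v₂, u₂} C}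
  {𝒴 : BasedCategory.{v₃, u₃} C}

/-- the product over `C` -/
abbrev prodC (𝒳 : BasedCategory.{v₂, u₂} C) (𝒴 : BasedCategory.{v₃, u₃} C) :=
  fp (toSelf 𝒳) (toSelf 𝒴)

theorem prod_obj_eq (X : (prodC 𝒳 𝒴).obj) : 𝒳.p.obj X.obj.fst = 𝒴.p.obj X.obj.snd := by
  have h : (selfOver C).p.IsHomLift (𝟙 (𝒳.p.obj X.obj.fst)) X.obj.iso.hom := X.property
  exact (IsHomLift.codomain_eq (selfOver C).p (𝟙 (𝒳.p.obj X.obj.fst)) X.obj.iso.hom).symm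

theorem prod_iso_hom (X : (prodC 𝒳 𝒴).obj) : X.obj.iso.hom = eqToHom (prod_obj_eq X) := by
  have h : (selfOver C).p.IsHomLift (𝟙 (𝒳.p.obj X.obj.fst)) X.obj.iso.hom := X.property
  have h2 : X.obj.iso.hom = eqToHom _ ≫ 𝟙 (𝒳.p.obj X.obj.fst) ≫ eqToHom _ :=
    IsHomLift.fac' (selfOver C).p (𝟙 (𝒳.p.obj X.obj.fst)) X.obj.iso.hom
  rw [h2]
  simp
  rfl

theorem map_comp_eqToHom {x x' : 𝒳.obj} {y y' : 𝒴.obj} {R S : C} (f : R ⟶ S) (a : x ⟶ x')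
    (b : y ⟶ y') [𝒳.p.IsHomLift f a] [𝒴.p.IsHomLift f b] (h : 𝒳.p.obj x = 𝒴.p.obj y)
    (h' : 𝒳.p.obj x' = 𝒴.p.obj y') : 𝒳.p.map a ≫ eqToHom h' = eqToHom h ≫ 𝒴.p.map b := by
  rw [IsHomLift.fac' 𝒳.p f a, IsHomLift.fac' 𝒴.p f b]
  simp

/-- constructor for objects of the product -/
def prodObjMk (x : 𝒳.obj) (y : 𝒴.obj) (h : 𝒳.p.obj x = 𝒴.p.obj y) : (prodC 𝒳 𝒴).obj :=
  ⟨{ fst := x, snd := y, iso := eqToIso h }, by
    show (selfOver C).p.IsHomLift (𝟙 (𝒳.p.obj x)) (eqToHom h)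
    exact IsHomLift.eqToHom_domain_lift_id h rfl⟩

theorem prod_hom_w {X Y : (prodC 𝒳 𝒴).obj} {R S : C} (f : R ⟶ S) (a : X.obj.fst ⟶ Y.obj.fst)
    (b : X.obj.snd ⟶ Y.obj.snd) [𝒳.p.IsHomLift f a] [𝒴.p.IsHomLift f b] :
    (toSelf 𝒳).map a ≫ Y.obj.iso.hom = X.obj.iso.hom ≫ (toSelf 𝒴).map b := by
  show 𝒳.p.map a ≫ Y.obj.iso.hom = X.obj.iso.hom ≫ 𝒴.p.map b
  rw [prod_iso_hom, prod_iso_hom]
  exact map_comp_eqToHom f a b _ _

/-- constructor for morphisms of the product -/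
def prodHomMk {X Y : (prodC 𝒳 𝒴).obj} {R S : C} (f : R ⟶ S) (a : X.obj.fst ⟶ Y.obj.fst)
    (b : X.obj.snd ⟶ Y.obj.snd) [𝒳.p.IsHomLift f a] [𝒴.p.IsHomLift f b] : X ⟶ Y :=
  ObjectProperty.homMk ⟨a, b, prod_hom_w f a b⟩

theorem prodHomMk_isHomLift {X Y : (prodC 𝒳 𝒴).obj} {R S : C} (f : R ⟶ S)
    (a : X.obj.fst ⟶ Y.obj.fst) (b : X.obj.snd ⟶ Y.obj.snd) [h : 𝒳.p.IsHomLift f a]
    [𝒴.p.IsHomLift f b] : (prodC 𝒳 𝒴).p.IsHomLift f (prodHomMk f a b) :=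
  fp_isHomLift_of_fst _ f h

theorem prod_isCartesian_iff {X Y : (prodC 𝒳 𝒴).obj} {R S : C} (f : R ⟶ S) (φ : X ⟶ Y)
    [hφ : (prodC 𝒳 𝒴).p.IsHomLift f φ] :
    (prodC 𝒳 𝒴).p.IsCartesian f φ ↔
      𝒳.p.IsCartesian f φ.hom.fst ∧ 𝒴.p.IsCartesian f φ.hom.snd := by
  have ha : 𝒳.p.IsHomLift f φ.hom.fst := fp_isHomLift_fst φ f
  have hb : 𝒴.p.IsHomLift f φ.hom.snd := fp_isHomLift_snd' φ f
  have hR : 𝒳.p.obj X.obj.fst = R := IsHomLift.domain_eq 𝒳.p f φ.hom.fst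
  constructor
  · intro h
    constructor
    · refine { toIsHomLift := ha, universal_property := ?_ }
      intro x' a' ha'
      have hx' : 𝒳.p.obj x' = 𝒴.p.obj X.obj.snd := by
        rw [IsHomLift.domain_eq 𝒳.p f a', ← hR]; exact prod_obj_eq X
      let Z : (prodC 𝒳 𝒴).obj := prodObjMk x' X.obj.snd hx'
      let φ' : Z ⟶ Y := @prodHomMk _ _ _ _ Z Y _ _ f a' φ.hom.snd ha' hb
      have hφ' : (prodC 𝒳 𝒴).p.IsHomLift f φ' :=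
        @prodHomMk_isHomLift _ _ _ _ Z Y _ _ f a' φ.hom.snd ha' hb
      let χ : Z ⟶ X := Functor.IsCartesian.map (prodC 𝒳 𝒴).p f φ φ'
      have hχ : (prodC 𝒳 𝒴).p.IsHomLift (𝟙 R) χ := by dsimp only [χ]; infer_instance
      have eχ : χ ≫ φ = φ' := Functor.IsCartesian.fac _ f φ φ'
      have hχ1 : 𝒳.p.IsHomLift (𝟙 R) χ.hom.fst := fp_isHomLift_fst χ (𝟙 R)
      have hχ2 : 𝒴.p.IsHomLift (𝟙 R) χ.hom.snd := fp_isHomLift_snd' χ (𝟙 R)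
      refine ⟨χ.hom.fst, ⟨hχ1, congrArg (fun k => k.hom.fst) eχ⟩, ?_⟩
      rintro χ₁' ⟨k1, k2⟩
      let χ' : Z ⟶ X := @prodHomMk _ _ _ _ Z X _ _ (𝟙 R) χ₁' χ.hom.snd k1 hχ2
      have hχ' : (prodC 𝒳 𝒴).p.IsHomLift (𝟙 R) χ' :=
        @prodHomMk_isHomLift _ _ _ _ Z X _ _ (𝟙 R) χ₁' χ.hom.snd k1 hχ2
      have e' : χ' ≫ φ = φ' := by
        apply ObjectProperty.hom_ext
        apply CategoricalPullback.hom_ext
        · exact k2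
        · exact congrArg (fun k => k.hom.snd) eχ
      have := Functor.IsCartesian.map_uniq (prodC 𝒳 𝒴).p f φ φ' χ' e'
      exact congrArg (fun k => k.hom.fst) this
    · refine { toIsHomLift := hb, universal_property := ?_ }
      intro y' b' hb'
      have hy' : 𝒳.p.obj X.obj.fst = 𝒴.p.obj y' := by
        rw [IsHomLift.domain_eq 𝒴.p f b', hR]
      let Z : (prodC 𝒳 𝒴).obj := prodObjMk X.obj.fst y' hy'
      let φ' : Z ⟶ Y := @prodHomMk _ _ _ _ Z Y _ _ f φ.hom.fst b' ha hb'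
      have hφ' : (prodC 𝒳 𝒴).p.IsHomLift f φ' :=
        @prodHomMk_isHomLift _ _ _ _ Z Y _ _ f φ.hom.fst b' ha hb'
      let χ : Z ⟶ X := Functor.IsCartesian.map (prodC 𝒳 𝒴).p f φ φ'
      have hχ : (prodC 𝒳 𝒴).p.IsHomLift (𝟙 R) χ := by dsimp only [χ]; infer_instance
      have eχ : χ ≫ φ = φ' := Functor.IsCartesian.fac _ f φ φ'
      have hχ1 : 𝒳.p.IsHomLift (𝟙 R) χ.hom.fst := fp_isHomLift_fst χ (𝟙 R)
      have hχ2 : 𝒴.p.IsHomLift (𝟙 R) χ.hom.snd := fp_isHomLift_snd' χ (𝟙 R)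
      refine ⟨χ.hom.snd, ⟨hχ2, congrArg (fun k => k.hom.snd) eχ⟩, ?_⟩
      rintro χ₂' ⟨k1, k2⟩
      let χ' : Z ⟶ X := @prodHomMk _ _ _ _ Z X _ _ (𝟙 R) χ.hom.fst χ₂' hχ1 k1
      have hχ' : (prodC 𝒳 𝒴).p.IsHomLift (𝟙 R) χ' :=
        @prodHomMk_isHomLift _ _ _ _ Z X _ _ (𝟙 R) χ.hom.fst χ₂' hχ1 k1
      have e' : χ' ≫ φ = φ' := by
        apply ObjectProperty.hom_ext
        apply CategoricalPullback.hom_ext
        · exact congrArg (fun k => k.hom.fst) eχ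
        · exact k2
      have := Functor.IsCartesian.map_uniq (prodC 𝒳 𝒴).p f φ φ' χ' e'
      exact congrArg (fun k => k.hom.snd) this
  · rintro ⟨h1, h2⟩
    refine { toIsHomLift := hφ, universal_property := ?_ }
    intro Z φ' hφ'
    have ha' : 𝒳.p.IsHomLift f φ'.hom.fst := fp_isHomLift_fst φ' f
    have hb' : 𝒴.p.IsHomLift f φ'.hom.snd := fp_isHomLift_snd' φ' f
    let χ₁ := Functor.IsCartesian.map 𝒳.p f φ.hom.fst φ'.hom.fst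
    let χ₂ := Functor.IsCartesian.map 𝒴.p f φ.hom.snd φ'.hom.snd
    have hχ₁ : 𝒳.p.IsHomLift (𝟙 R) χ₁ := by dsimp only [χ₁]; infer_instance
    have hχ₂ : 𝒴.p.IsHomLift (𝟙 R) χ₂ := by dsimp only [χ₂]; infer_instance
    have e₁ : χ₁ ≫ φ.hom.fst = φ'.hom.fst := Functor.IsCartesian.fac _ f _ _
    have e₂ : χ₂ ≫ φ.hom.snd = φ'.hom.snd := Functor.IsCartesian.fac _ f _ _
    refine ⟨prodHomMk (𝟙 R) χ₁ χ₂, ⟨prodHomMk_isHomLift (𝟙 R) χ₁ χ₂, ?_⟩, ?_⟩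
    · apply ObjectProperty.hom_ext
      apply CategoricalPullback.hom_ext
      · exact e₁
      · exact e₂
    · rintro χ' ⟨k1, k2⟩
      have hχ'1 : 𝒳.p.IsHomLift (𝟙 R) χ'.hom.fst := fp_isHomLift_fst χ' (𝟙 R)
      have hχ'2 : 𝒴.p.IsHomLift (𝟙 R) χ'.hom.snd := fp_isHomLift_snd' χ' (𝟙 R)
      apply ObjectProperty.hom_ext
      apply CategoricalPullback.hom_ext
      · exact Functor.IsCartesian.map_uniq 𝒳.p f φ.hom.fst φ'.hom.fst χ'.hom.fst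
          (congrArg (fun k => k.hom.fst) k2)
      · exact Functor.IsCartesian.map_uniq 𝒴.p f φ.hom.snd φ'.hom.snd χ'.hom.snd
          (congrArg (fun k => k.hom.snd) k2)

theorem isPreFibered_prod [𝒳.p.IsPreFibered] [𝒴.p.IsPreFibered] :
    (prodC 𝒳 𝒴).p.IsPreFibered where
  exists_isCartesian' {Y R} f := by
    change R ⟶ 𝒳.p.obj Y.obj.fst at f
    obtain ⟨x', a, ha⟩ := Functor.IsPreFibered.exists_isCartesian' (p := 𝒳.p) (a := Y.obj.fst) f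
    obtain ⟨y', b, hb⟩ := CategoryTheory.IsPreFibered.exists_isCartesian 𝒴.p
      (prod_obj_eq Y).symm f
    have hxy : 𝒳.p.obj x' = 𝒴.p.obj y' := by
      rw [IsHomLift.domain_eq 𝒳.p f a, IsHomLift.domain_eq 𝒴.p f b]
    let X : (prodC 𝒳 𝒴).obj := prodObjMk x' y' hxy
    let φ : X ⟶ Y := @prodHomMk _ _ _ _ X Y _ _ f a b ha.toIsHomLift hb.toIsHomLift
    have hφ : (prodC 𝒳 𝒴).p.IsHomLift f φ :=
      @prodHomMk_isHomLift _ _ _ _ X Y _ _ f a b ha.toIsHomLift hb.toIsHomLift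
    exact ⟨X, φ, (prod_isCartesian_iff f φ).2 ⟨ha, hb⟩⟩

end prod

end Groth.Agent.Lib.FibCat13_helper6
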