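import Groth.Agent.Lib.FibCatRep1_lead
import Groth.Agent.Lib.FibCat13_helper6

/-!
# Products (over the base) of representable 1-morphisms (lead)
-/

set_option autoImplicit false

universe v₆ u₆ v₅ u₅ v₄ u₄ v₃ u₃ v₂ u₂ v u

open CategoryTheory CategoryTheory.Limits FibCat

namespace Groth.Agent.Lib.FibCatProd

open Groth.Agent.Lib.FibCat_helper6 Groth.Agent.Lib.FibCat3_helper6
  Groth.Agent.Lib.FibCat13_helper6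
  Groth.Agent.Lib.FibCat14_helper6 Groth.Agent.Lib.LiftSqBC Groth.Agent.Lib.FibCatPaste
  Groth.Agent.Lib.FibCatRep1

variable {C : Type u} [Category.{v} C]

section basics

variable {𝒲 : BasedCategory.{v₂, u₂} C} {𝒳 : BasedCategory.{v₃, u₃} C}
  {𝒴 : BasedCategory.{v₄, u₄} C}

theorem basedFunctor_ext {F G : 𝒲 ⥤ᵇ 𝒳} (h : F.toFunctor = G.toFunctor) : F = G := by
  obtain ⟨F, wF⟩ := F
  obtain ⟨G, wG⟩ := G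
  dsimp only at h
  subst h
  rfl

theorem comp_toSelf_eq (a : 𝒲 ⥤ᵇ 𝒳) : BasedFunctor.comp a (toSelf 𝒳) = toSelf 𝒲 :=
  basedFunctor_ext a.w

/-- Any two functors over `C` become isomorphic after composing with the structure functors. -/
def toSelfIso (a : 𝒲 ⥤ᵇ 𝒳) (b : 𝒲 ⥤ᵇ 𝒴) :
    BasedFunctor.comp a (toSelf 𝒳) ≅ BasedFunctor.comp b (toSelf 𝒴) :=
  eqToIso ((comp_toSelf_eq a).trans (comp_toSelf_eq b).symm)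

/-- A 2-isomorphism into a product over `C` from its two components. -/
def prodIsoMk2 {H K : 𝒲 ⥤ᵇ fp (toSelf 𝒳) (toSelf 𝒴)}
    (α : BasedFunctor.comp H (fpFst (toSelf 𝒳) (toSelf 𝒴)) ≅
      BasedFunctor.comp K (fpFst (toSelf 𝒳) (toSelf 𝒴)))
    (β : BasedFunctor.comp H (fpSnd (toSelf 𝒳) (toSelf 𝒴)) ≅
      BasedFunctor.comp K (fpSnd (toSelf 𝒳) (toSelf 𝒴))) :
    H ≅ K :=
  isoMk2 (toSelf 𝒳) (toSelf 𝒴) α β (fun b =>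
    @prod_hom_w _ _ _ _ (H.toFunctor.obj b) (K.toFunctor.obj b) _ _ (𝟙 (𝒲.p.obj b))
      (α.hom.toNatTrans.app b) (β.hom.toNatTrans.app b) (α.hom.isHomLift' b)
      (β.hom.isHomLift' b))

end basics

section left

variable {𝒳 : BasedCategory.{v₂, u₂} C} {𝒴 : BasedCategory.{v₃, u₃} C}
  {𝒵 : BasedCategory.{v₄, u₄} C} (f : 𝒳 ⥤ᵇ 𝒴)
  (e₁ : BasedFunctor.comp (BasedFunctor.comp (fpFst (toSelf 𝒳) (toSelf 𝒵)) f) (toSelf 𝒴) ≅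
      BasedFunctor.comp (fpSnd (toSelf 𝒳) (toSelf 𝒵)) (toSelf 𝒵))

/-- `f × id`. -/
def mapL : fp (toSelf 𝒳) (toSelf 𝒵) ⥤ᵇ fp (toSelf 𝒴) (toSelf 𝒵) :=
  fpLift (BasedFunctor.comp (fpFst (toSelf 𝒳) (toSelf 𝒵)) f) (fpSnd (toSelf 𝒳) (toSelf 𝒵)) e₁

/-- The comparison functor `𝒳 × 𝒵 ⟶ (𝒴 × 𝒵) ×_𝒴 𝒳`. -/
def cmpL : fp (toSelf 𝒳) (toSelf 𝒵) ⥤ᵇ fp (fpFst (toSelf 𝒴) (toSelf 𝒵)) f :=
  fpLift (mapL f e₁) (fpFst (toSelf 𝒳) (toSelf 𝒵))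
    (Iso.refl (BasedFunctor.comp (fpFst (toSelf 𝒳) (toSelf 𝒵)) f))

instance cmpL_faithful : (cmpL f e₁).toFunctor.Faithful where
  map_injective := by
    intro t t' m m' h
    apply fp_hom_ext
    · exact congrArg (fun n => n.hom.snd) h
    · exact congrArg (fun n => n.hom.fst.hom.snd) h

instance cmpL_full : (cmpL f e₁).toFunctor.Full where
  map_surjective := by
    intro t t' n
    have hw : n.hom.fst.hom.fst ≫ 𝟙 _ = 𝟙 _ ≫ f.toFunctor.map n.hom.snd := n.hom.w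
    have hw' : n.hom.fst.hom.fst = f.toFunctor.map n.hom.snd :=
      (Category.comp_id _).symm.trans (hw.trans (Category.id_comp _))
    have h1 : 𝒳.p.IsHomLift ((fp (fpFst (toSelf 𝒴) (toSelf 𝒵)) f).p.map n) n.hom.snd :=
      fp_isHomLift_snd _ _ n
    have h2 : 𝒵.p.IsHomLift ((fp (fpFst (toSelf 𝒴) (toSelf 𝒵)) f).p.map n) n.hom.fst.hom.snd :=
      fp_isHomLift_snd _ _ n.hom.fst
    refine ⟨@prodHomMk _ _ _ _ t t' _ _ ((fp (fpFst (toSelf 𝒴) (toSelf 𝒵)) f).p.map n)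
      n.hom.snd n.hom.fst.hom.snd h1 h2, ?_⟩
    apply fp_hom_ext
    · apply fp_hom_ext
      · exact hw'.symm
      · rfl
    · rfl

theorem cmpL_essSurj (w : (fp (fpFst (toSelf 𝒴) (toSelf 𝒵)) f).obj) :
    ∃ (t : (fp (toSelf 𝒳) (toSelf 𝒵)).obj) (φ : (cmpL f e₁).obj t ≅ w),
      (fp (fpFst (toSelf 𝒴) (toSelf 𝒵)) f).p.IsHomLift
        (𝟙 ((fp (fpFst (toSelf 𝒴) (toSelf 𝒵)) f).p.obj w)) φ.hom := by
  have hw : 𝒴.p.IsHomLift (𝟙 (𝒴.p.obj w.obj.fst.obj.fst)) w.obj.iso.hom := w.property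
  have hx : 𝒳.p.obj w.obj.snd = 𝒵.p.obj w.obj.fst.obj.snd :=
    ((f.w_obj w.obj.snd).symm.trans
      (IsHomLift.codomain_eq 𝒴.p (𝟙 (𝒴.p.obj w.obj.fst.obj.fst)) w.obj.iso.hom)).trans
      (prod_obj_eq w.obj.fst)
  let t : (fp (toSelf 𝒳) (toSelf 𝒵)).obj := prodObjMk w.obj.snd w.obj.fst.obj.snd hx
  have hi : 𝒴.p.IsHomLift (𝟙 (𝒴.p.obj w.obj.fst.obj.fst)) w.obj.iso.symm.hom :=
    IsHomLift.lift_id_inv 𝒴.p (𝒴.p.obj w.obj.fst.obj.fst) w.obj.iso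
  have hz : 𝒵.p.IsHomLift (𝟙 (𝒴.p.obj w.obj.fst.obj.fst)) (Iso.refl w.obj.fst.obj.snd).hom :=
    IsHomLift.id (prod_obj_eq w.obj.fst).symm
  let a' : (mapL f e₁).obj t ≅ w.obj.fst :=
    @prodIsoMk _ _ _ _ ((mapL f e₁).obj t) w.obj.fst (𝒴.p.obj w.obj.fst.obj.fst)
      w.obj.iso.symm (Iso.refl w.obj.fst.obj.snd) hi hz
  have ha' : (fp (toSelf 𝒴) (toSelf 𝒵)).p.IsHomLift (𝟙 (𝒴.p.obj w.obj.fst.obj.fst)) a'.hom :=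
    @prodIsoMk_isHomLift _ _ _ _ ((mapL f e₁).obj t) w.obj.fst (𝒴.p.obj w.obj.fst.obj.fst)
      w.obj.iso.symm (Iso.refl w.obj.fst.obj.snd) hi hz
  refine ⟨t, fpIsoMk (F := fpFst (toSelf 𝒴) (toSelf 𝒵)) (G := f) (X := (cmpL f e₁).obj t)
    (Y := w) a' (Iso.refl _) ?_, ?_⟩
  · show w.obj.iso.inv ≫ w.obj.iso.hom = 𝟙 _ ≫ f.toFunctor.map (𝟙 _)
    rw [Iso.inv_hom_id, f.toFunctor.map_id, Category.id_comp]
  · exact fpIsoMk_isHomLift _ _ _ ha'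

theorem cmpL_isEquivOver : IsEquivOver (cmpL f e₁) :=
  isEquivOver_of_fullyFaithful (cmpL f e₁) (cmpL_essSurj f e₁)

theorem rep1_mapL (hf : IsRepresentable1 f) : IsRepresentable1 (mapL f e₁) :=
  rep1_of_twoCart (g := fpFst (toSelf 𝒴) (toSelf 𝒵)) (f := f) (mapL f e₁)
    (fpFst (toSelf 𝒳) (toSelf 𝒵))
    (Iso.refl (BasedFunctor.comp (fpFst (toSelf 𝒳) (toSelf 𝒵)) f)) (cmpL_isEquivOver f e₁) hf

end left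

section right

variable {𝒳 : BasedCategory.{v₂, u₂} C} {𝒴 : BasedCategory.{v₃, u₃} C}
  {𝒵 : BasedCategory.{v₄, u₄} C} (g : 𝒳 ⥤ᵇ 𝒴)
  (e₂ : BasedFunctor.comp (fpFst (toSelf 𝒵) (toSelf 𝒳)) (toSelf 𝒵) ≅
      BasedFunctor.comp (BasedFunctor.comp (fpSnd (toSelf 𝒵) (toSelf 𝒳)) g) (toSelf 𝒴))

/-- `id × g`. -/
def mapR : fp (toSelf 𝒵) (toSelf 𝒳) ⥤ᵇ fp (toSelf 𝒵) (toSelf 𝒴) :=
  fpLift (fpFst (toSelf 𝒵) (toSelf 𝒳)) (BasedFunctor.comp (fpSnd (toSelf 𝒵) (toSelf 𝒳)) g) e₂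

/-- The comparison functor `𝒵 × 𝒳 ⟶ (𝒵 × 𝒴) ×_𝒴 𝒳`. -/
def cmpR : fp (toSelf 𝒵) (toSelf 𝒳) ⥤ᵇ fp (fpSnd (toSelf 𝒵) (toSelf 𝒴)) g :=
  fpLift (mapR g e₂) (fpSnd (toSelf 𝒵) (toSelf 𝒳))
    (Iso.refl (BasedFunctor.comp (fpSnd (toSelf 𝒵) (toSelf 𝒳)) g))

instance cmpR_faithful : (cmpR g e₂).toFunctor.Faithful where
  map_injective := by
    intro t t' m m' h
    apply fp_hom_ext
    · exact congrArg (fun n => n.hom.fst.hom.fst) h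
    · exact congrArg (fun n => n.hom.snd) h

instance cmpR_full : (cmpR g e₂).toFunctor.Full where
  map_surjective := by
    intro t t' n
    have hw : n.hom.fst.hom.snd ≫ 𝟙 _ = 𝟙 _ ≫ g.toFunctor.map n.hom.snd := n.hom.w
    have hw' : n.hom.fst.hom.snd = g.toFunctor.map n.hom.snd :=
      (Category.comp_id _).symm.trans (hw.trans (Category.id_comp _))
    have h1 : 𝒵.p.IsHomLift ((fp (fpSnd (toSelf 𝒵) (toSelf 𝒴)) g).p.map n) n.hom.fst.hom.fst :=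
      IsHomLift.map 𝒵.p n.hom.fst.hom.fst
    have h2 : 𝒳.p.IsHomLift ((fp (fpSnd (toSelf 𝒵) (toSelf 𝒴)) g).p.map n) n.hom.snd :=
      fp_isHomLift_snd _ _ n
    refine ⟨@prodHomMk _ _ _ _ t t' _ _ ((fp (fpSnd (toSelf 𝒵) (toSelf 𝒴)) g).p.map n)
      n.hom.fst.hom.fst n.hom.snd h1 h2, ?_⟩
    apply fp_hom_ext
    · apply fp_hom_ext
      · rfl
      · exact hw'.symm
    · rfl

theorem cmpR_essSurj (w : (fp (fpSnd (toSelf 𝒵) (toSelf 𝒴)) g).obj) :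
    ∃ (t : (fp (toSelf 𝒵) (toSelf 𝒳)).obj) (φ : (cmpR g e₂).obj t ≅ w),
      (fp (fpSnd (toSelf 𝒵) (toSelf 𝒴)) g).p.IsHomLift
        (𝟙 ((fp (fpSnd (toSelf 𝒵) (toSelf 𝒴)) g).p.obj w)) φ.hom := by
  have hw : 𝒴.p.IsHomLift (𝟙 (𝒵.p.obj w.obj.fst.obj.fst)) w.obj.iso.hom := w.property
  have hx : 𝒵.p.obj w.obj.fst.obj.fst = 𝒳.p.obj w.obj.snd :=
    ((g.w_obj w.obj.snd).symm.trans
      (IsHomLift.codomain_eq 𝒴.p (𝟙 (𝒵.p.obj w.obj.fst.obj.fst)) w.obj.iso.hom)).symm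
  let t : (fp (toSelf 𝒵) (toSelf 𝒳)).obj := prodObjMk w.obj.fst.obj.fst w.obj.snd hx
  have hi : 𝒴.p.IsHomLift (𝟙 (𝒵.p.obj w.obj.fst.obj.fst)) w.obj.iso.symm.hom :=
    IsHomLift.lift_id_inv 𝒴.p (𝒵.p.obj w.obj.fst.obj.fst) w.obj.iso
  have hz : 𝒵.p.IsHomLift (𝟙 (𝒵.p.obj w.obj.fst.obj.fst)) (Iso.refl w.obj.fst.obj.fst).hom :=
    IsHomLift.id rfl
  let a' : (mapR g e₂).obj t ≅ w.obj.fst :=
    @prodIsoMk _ _ _ _ ((mapR g e₂).obj t) w.obj.fst (𝒵.p.obj w.obj.fst.obj.fst)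
      (Iso.refl w.obj.fst.obj.fst) w.obj.iso.symm hz hi
  have ha' : (fp (toSelf 𝒵) (toSelf 𝒴)).p.IsHomLift (𝟙 (𝒵.p.obj w.obj.fst.obj.fst)) a'.hom :=
    @prodIsoMk_isHomLift _ _ _ _ ((mapR g e₂).obj t) w.obj.fst (𝒵.p.obj w.obj.fst.obj.fst)
      (Iso.refl w.obj.fst.obj.fst) w.obj.iso.symm hz hi
  refine ⟨t, fpIsoMk (F := fpSnd (toSelf 𝒵) (toSelf 𝒴)) (G := g) (X := (cmpR g e₂).obj t)
    (Y := w) a' (Iso.refl _) ?_, ?_⟩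
  · show w.obj.iso.inv ≫ w.obj.iso.hom = 𝟙 _ ≫ g.toFunctor.map (𝟙 _)
    rw [Iso.inv_hom_id, g.toFunctor.map_id, Category.id_comp]
  · exact fpIsoMk_isHomLift _ _ _ ha'

theorem cmpR_isEquivOver : IsEquivOver (cmpR g e₂) :=
  isEquivOver_of_fullyFaithful (cmpR g e₂) (cmpR_essSurj g e₂)

theorem rep1_mapR (hg : IsRepresentable1 g) : IsRepresentable1 (mapR g e₂) :=
  rep1_of_twoCart (g := fpSnd (toSelf 𝒵) (toSelf 𝒴)) (f := g) (mapR g e₂)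
    (fpSnd (toSelf 𝒵) (toSelf 𝒳))
    (Iso.refl (BasedFunctor.comp (fpSnd (toSelf 𝒵) (toSelf 𝒳)) g)) (cmpR_isEquivOver g e₂) hg

end right

section main

variable {𝒳₁ : BasedCategory.{v₂, u₂} C} {𝒳₂ : BasedCategory.{v₃, u₃} C}
  {𝒴₁ : BasedCategory.{v₄, u₄} C} {𝒴₂ : BasedCategory.{v₅, u₅} C}

/-- The product of two representable 1-morphisms is representable. -/
theorem rep1_prod (f₁ : 𝒳₁ ⥤ᵇ 𝒴₁) (f₂ : 𝒳₂ ⥤ᵇ 𝒴₂) (hf₁ : IsRepresentable1 f₁)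
    (hf₂ : IsRepresentable1 f₂)
    (e : BasedFunctor.comp (BasedFunctor.comp (fpFst (toSelf 𝒳₁) (toSelf 𝒳₂)) f₁) (toSelf 𝒴₁) ≅
      BasedFunctor.comp (BasedFunctor.comp (fpSnd (toSelf 𝒳₁) (toSelf 𝒳₂)) f₂) (toSelf 𝒴₂)) :
    IsRepresentable1 (fpLift (BasedFunctor.comp (fpFst (toSelf 𝒳₁) (toSelf 𝒳₂)) f₁)
      (BasedFunctor.comp (fpSnd (toSelf 𝒳₁) (toSelf 𝒳₂)) f₂) e) := by
  have h1 := rep1_mapL (𝒵 := 𝒳₂) f₁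
    (toSelfIso (BasedFunctor.comp (fpFst (toSelf 𝒳₁) (toSelf 𝒳₂)) f₁)
      (fpSnd (toSelf 𝒳₁) (toSelf 𝒳₂))) hf₁
  have h2 := rep1_mapR (𝒵 := 𝒴₁) f₂
    (toSelfIso (fpFst (toSelf 𝒴₁) (toSelf 𝒳₂))
      (BasedFunctor.comp (fpSnd (toSelf 𝒴₁) (toSelf 𝒳₂)) f₂)) hf₂
  have h3 := rep1_comp _ _ h1 h2
  have ι : BasedFunctor.comp
      (mapL (𝒵 := 𝒳₂) f₁ (toSelfIso (BasedFunctor.comp (fpFst (toSelf 𝒳₁) (toSelf 𝒳₂)) f₁)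
        (fpSnd (toSelf 𝒳₁) (toSelf 𝒳₂))))
      (mapR (𝒵 := 𝒴₁) f₂ (toSelfIso (fpFst (toSelf 𝒴₁) (toSelf 𝒳₂))
        (BasedFunctor.comp (fpSnd (toSelf 𝒴₁) (toSelf 𝒳₂)) f₂))) ≅
      fpLift (BasedFunctor.comp (fpFst (toSelf 𝒳₁) (toSelf 𝒳₂)) f₁)
        (BasedFunctor.comp (fpSnd (toSelf 𝒳₁) (toSelf 𝒳₂)) f₂) e :=
    prodIsoMk2 (Iso.refl _) (Iso.refl _)
  exact rep1_of_iso ι h3

end main

end Groth.Agent.Lib.FibCatProd
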