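import Groth.Agent.Lib.AlgStDiagRep2_lead
import Groth.Agent.Lib.AlgStDiag_lead
import Groth.Agent.Lib.AlgSpProper_helper7
import Groth.Agent.Lib.AlgSpTop_helper7
import Groth.Agent.Lib.FibCatProd_lead

/-!
# Cancellation for DM / quasi-DM / separated / quasi-separated morphisms, and the
characterisations of separated and quasi-separated representable morphisms (lead)
-/

set_option autoImplicit false

universe u

open CategoryTheory CategoryTheory.Limits AlgebraicGeometry Opposite FibCat Stk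

namespace Groth.Agent.Lib.AlgStDiagRep

open AlgSt Groth.Agent.Lib.FibCat_helper6 Groth.Agent.Lib.FibCat3_helper6
  Groth.Agent.Lib.FibCat14_helper6 Groth.Agent.Lib.FibCatPaste Groth.Agent.Lib.FibCatSwap
  Groth.Agent.Lib.FibCatIsoFun
  Groth.Agent.Lib.OfPshCalc Groth.Agent.Lib.AlgStBC
  Groth.Agent.Lib.AlgStEquiv Groth.Agent.Lib.AlgStEquivP Groth.Agent.Lib.AlgStEquivInv
  Groth.Agent.Lib.OfPshAlgSt Groth.Agent.Lib.LiftSqBC Groth.Agent.Lib.LiftSqComp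
  Groth.Agent.Lib.OfPshWith Groth.Agent.Lib.FibCatDiagSec
  Groth.Agent.Lib.AlgSpQC_helper7 Groth.Agent.Lib.AlgSpDiag_helper7
  Groth.Agent.Lib.AlgSpPullback_helper7 Groth.Agent.Lib.AlgSpRepBySp_helper7
  Groth.Agent.Lib.AlgSpPoints_helper7 Groth.Agent.Lib.AlgSpLocP_helper7
  Groth.Agent.Lib.AlgSpBasic_helper7 Groth.Agent.Lib.AlgSpSep_helper7
  Groth.Agent.Lib.AlgSpLocP4_helper7 Groth.Agent.Lib.AlgSpLocP5_helper7
  Groth.Agent.Lib.AlgSpLocP7_helper7 Groth.Agent.Lib.AlgSpQC2_helper7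
  Groth.Agent.Lib.AlgSpFpqc_helper7 Groth.Agent.Lib.AlgSpProper_helper7
  Groth.Agent.Lib.AlgSpTop_helper7

variable {S : Scheme.{u}}

theorem isoInv_top : IsoInv (⊤ : MorphismProperty (AlgSp.Sp S)) :=
  fun _ _ _ _ _ _ _ _ _ => trivial

theorem schemeTestable_top : SchemeTestable (⊤ : MorphismProperty (AlgSp.Sp S)) :=
  fun _ _ _ _ _ _ => trivial

section rel

variable {𝒳 𝒴 𝒵 : AlgSt.Cat S} (f : 𝒳 ⥤ᵇ 𝒴) (g : 𝒴 ⥤ᵇ 𝒵)

/-- The canonical 2-isomorphism `g f x₁ ≅ g f x₂` on `𝒳 ×_𝒴 𝒳`. -/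
def relE : BasedFunctor.comp (fpFst f f) (BasedFunctor.comp f g) ≅
    BasedFunctor.comp (fpSnd f f) (BasedFunctor.comp f g) :=
  whiskerRightIso (fpIso f f) g

theorem relE_app (x : (fp f f).obj) :
    (relE f g).hom.toNatTrans.app x = g.map x.obj.iso.hom := rfl

/-- The morphism `𝒳 ×_𝒴 𝒳 ⟶ 𝒳 ×_𝒵 𝒳`. -/
def relJ : fp f f ⥤ᵇ fp (BasedFunctor.comp f g) (BasedFunctor.comp f g) :=
  fpLift (fpFst f f) (fpSnd f f) (relE f g)

/-- `Δ_{g ∘ f}` is `Δ_f` followed by `𝒳 ×_𝒴 𝒳 ⟶ 𝒳 ×_𝒵 𝒳`. -/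
def diagCompIso : BasedFunctor.comp (FibCat.diag f) (relJ f g) ≅
    FibCat.diag (BasedFunctor.comp f g) :=
  isoMk2 (BasedFunctor.comp f g) (BasedFunctor.comp f g)
    (H := BasedFunctor.comp (FibCat.diag f) (relJ f g))
    (K := FibCat.diag (BasedFunctor.comp f g)) (Iso.refl _) (Iso.refl _) (fun x => by
      show (BasedFunctor.comp f g).toFunctor.map (𝟙 x) ≫ 𝟙 _ =
        g.toFunctor.map (𝟙 (f.toFunctor.obj x)) ≫ (BasedFunctor.comp f g).toFunctor.map (𝟙 x)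
      rw [g.toFunctor.map_id, (BasedFunctor.comp f g).toFunctor.map_id, Category.comp_id,
        Category.id_comp])

theorem repWith_relJ (P : MorphismProperty (AlgSp.Sp S))
    (hg : AlgSt.RepByAlgSpWith P (FibCat.diag g)) : AlgSt.RepByAlgSpWith P (relJ f g) :=
  Groth.Agent.Lib.AlgStRelDiag.repWith_relI P f f g (relE f g) (relE_app f g) hg

theorem repByAlgSp1_relJ (hg : AlgSt.RepByAlgSp1 (FibCat.diag g)) :
    AlgSt.RepByAlgSp1 (relJ f g) :=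
  (repByAlgSp1_iff_top _).2 (repWith_relJ f g ⊤ ((repByAlgSp1_iff_top _).1 hg))

/-- Cancellation: if `Δ_{g ∘ f}` and the diagonal of `𝒳 ×_𝒴 𝒳 ⟶ 𝒳 ×_𝒵 𝒳` have `P` then so does
`Δ_f`. -/
theorem repWith_diag_of_comp (h𝒳 : IsFibGrpd 𝒳.p) (h𝒴 : IsFibGrpd 𝒴.p) (h𝒵 : IsFibGrpd 𝒵.p)
    (P : MorphismProperty (AlgSp.Sp S)) (hI : IsoInv P) (hL : SchemeTestable P)
    (hPc : ∀ ⦃X Y Z : AlgSp.Sp S⦄, AlgSp.IsAlgSpace X → AlgSp.IsAlgSpace Y → AlgSp.IsAlgSpace Z →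
      ∀ (a : X ⟶ Y) (b : Y ⟶ Z), P a → P b → P (a ≫ b))
    (h : AlgSt.RepByAlgSpWith P (FibCat.diag (BasedFunctor.comp f g)))
    (hb : AlgSt.RepByAlgSpWith P (FibCat.diag (relJ f g))) :
    AlgSt.RepByAlgSpWith P (FibCat.diag f) :=
  repWith_of_triangle h𝒳 (Groth.Agent.Lib.FibCat12_helper6.isFibGrpd_fp f f h𝒳 h𝒳 h𝒴)
    (Groth.Agent.Lib.FibCat12_helper6.isFibGrpd_fp (BasedFunctor.comp f g)
      (BasedFunctor.comp f g) h𝒳 h𝒳 h𝒵) P hI hL hPc (FibCat.diag f)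
    (FibCat.diag (BasedFunctor.comp f g)) (relJ f g) (diagCompIso f g) h hb

end rel

section stk

variable {𝒳 𝒴 𝒵 : AlgSt.Cat S}

/-- The diagonal of a morphism of algebraic stacks is representable by algebraic spaces. -/
theorem repByAlgSp1_diag_of_isAlgStack {K : Precoverage Scheme.{u}} (h𝒴 : AlgSt.IsAlgStack K 𝒴)
    (h𝒵 : AlgSt.IsAlgStack K 𝒵) (g : 𝒴 ⥤ᵇ 𝒵) : AlgSt.RepByAlgSp1 (FibCat.diag g) := by
  have h1 : AlgSt.RepByAlgSp1 (relJ g (toSelf 𝒵)) := repByAlgSp1_relJ g (toSelf 𝒵) h𝒵.diag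
  have h2 : AlgSt.RepByAlgSpWith ⊤ (FibCat.diag (relJ g (toSelf 𝒵))) :=
    repWith_mono' (fun _ _ _ _ _ => trivial) _ (repWith_diag_std _ h1)
  have h3 : AlgSt.RepByAlgSpWith ⊤ (FibCat.diag (BasedFunctor.comp g (toSelf 𝒵))) := by
    rw [Groth.Agent.Lib.FibCatProd.comp_toSelf_eq g]
    exact (repByAlgSp1_iff_top _).1 h𝒴.diag
  have h4 := repWith_diag_of_comp g (toSelf 𝒵) h𝒴.isStack.1 h𝒵.isStack.1
    Groth.Agent.Lib.FibCat12_helper6.isFibGrpd_selfOver ⊤ isoInv_top schemeTestable_top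
    (fun _ _ _ _ _ _ _ _ _ _ => trivial) h3 h2
  exact (repByAlgSp1_iff_top _).2 h4

theorem isQuasiDMMor_of_repByAlgSp1 (h : 𝒳 ⥤ᵇ 𝒴) (hf : AlgSt.RepByAlgSp1 h) :
    AlgSt.IsQuasiDMMor h := by
  have hE : ∀ ⦃A B : Scheme.{u}⦄ (g : A ⟶ B), Etale g →
      (@LocallyQuasiFinite ⊓ @LocallyOfFiniteType : MorphismProperty Scheme.{u}) g :=
    fun A B g hg => by
      haveI := hg
      exact ⟨Groth.Agent.Lib.AlgSpEtale_helper7.locallyQuasiFinite_of_unramified g, inferInstance⟩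
  refine repWith_mono' (fun _ _ a _ ha => ?_) _ (repWith_diag_std h hf)
  exact locP_of_repWith (@LocallyQuasiFinite ⊓ @LocallyOfFiniteType) hE a
    (repWith_mono (fun _ _ g hg => ⟨hg.2, hg.1.1.1⟩) ha)

theorem isDMMor_of_comp (h𝒳 : IsFibGrpd 𝒳.p) (h𝒴 : IsFibGrpd 𝒴.p) (h𝒵 : IsFibGrpd 𝒵.p)
    (f : 𝒳 ⥤ᵇ 𝒴) (g : 𝒴 ⥤ᵇ 𝒵) (hΔg : AlgSt.RepByAlgSp1 (FibCat.diag g))
    (h : AlgSt.IsDMMor (BasedFunctor.comp f g)) : AlgSt.IsDMMor f :=
  repWith_diag_of_comp f g h𝒳 h𝒴 h𝒵 _ (isoInv_locP _ etLocal_unramified) (schemeTestable_locP _)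
    (fun _ _ _ hX hY hZ a b ha hb => locP_comp etLocal_unramified hX hY hZ a b ha hb) h
    (isDMMor_of_repByAlgSp1 _ (repByAlgSp1_relJ f g hΔg))

theorem isQuasiDMMor_of_comp (h𝒳 : IsFibGrpd 𝒳.p) (h𝒴 : IsFibGrpd 𝒴.p) (h𝒵 : IsFibGrpd 𝒵.p)
    (f : 𝒳 ⥤ᵇ 𝒴) (g : 𝒴 ⥤ᵇ 𝒵) (hΔg : AlgSt.RepByAlgSp1 (FibCat.diag g))
    (h : AlgSt.IsQuasiDMMor (BasedFunctor.comp f g)) : AlgSt.IsQuasiDMMor f :=
  repWith_diag_of_comp f g h𝒳 h𝒴 h𝒵 _ (isoInv_locP _ etLocal_locallyQuasiFinite)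
    (schemeTestable_locP _)
    (fun _ _ _ hX hY hZ a b ha hb => locP_comp etLocal_locallyQuasiFinite hX hY hZ a b ha hb) h
    (isQuasiDMMor_of_repByAlgSp1 _ (repByAlgSp1_relJ f g hΔg))

/-- The diagonal of a separated representable morphism is a closed immersion. -/
theorem isClosedImm_diag_of_separated (h : 𝒳 ⥤ᵇ 𝒴)
    (hs : AlgSt.RepByAlgSpWith AlgSp.IsSeparatedMor h) : AlgSt.IsClosedImm (FibCat.diag h) :=
  repWith_diag_of_repWith AlgSp.IsSeparatedMor @IsClosedImmersion (fun _ _ _ _ hQ => hQ) h hs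

theorem isSeparatedMor_of_isClosedImm_diag (h : 𝒳 ⥤ᵇ 𝒴)
    (hc : AlgSt.IsClosedImm (FibCat.diag h)) : AlgSt.IsSeparatedMor h :=
  repWith_mono' (fun _ _ a _ ha => isProperMor_of_repWith_isClosedImmersion a ha) _ hc

theorem isSeparatedMor_of_comp (h𝒳 : IsFibGrpd 𝒳.p) (h𝒴 : IsFibGrpd 𝒴.p) (h𝒵 : IsFibGrpd 𝒵.p)
    (f : 𝒳 ⥤ᵇ 𝒴) (g : 𝒴 ⥤ᵇ 𝒵) (h : AlgSt.IsSeparatedMor (BasedFunctor.comp f g))
    (hg : AlgSt.RepByAlgSpWith AlgSp.IsSeparatedMor (FibCat.diag g)) : AlgSt.IsSeparatedMor f :=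
  repWith_diag_of_comp f g h𝒳 h𝒴 h𝒵 _ isoInv_isProperMor schemeTestable_isProperMor
    (fun _ _ _ hX hY hZ a b ha hb => isProperMor_comp hX hY hZ a b ha hb) h
    (isSeparatedMor_of_isClosedImm_diag _
      (isClosedImm_diag_of_separated _ (repWith_relJ f g _ hg)))

/-- The diagonal of a quasi-separated representable morphism is quasi-compact and separated. -/
theorem qc_sep_diag_of_quasiSeparated (h : 𝒳 ⥤ᵇ 𝒴)
    (hs : AlgSt.RepByAlgSpWith AlgSp.IsQuasiSeparatedMor h) :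
    AlgSt.RepByAlgSpWith (AlgSp.RepWith ((@QuasiCompact ⊓ @IsSeparated) ⊓ @LocallyOfFiniteType))
      (FibCat.diag h) :=
  repWith_diag_of_repWith AlgSp.IsQuasiSeparatedMor _ (fun _ _ hF₁ π₀ hQ =>
    repWith_inf (repWith_inf hQ (diagonal_properties hF₁ π₀).2.2.1)
      (diagonal_properties hF₁ π₀).1) h hs

theorem isQuasiSeparatedMor_of_quasiSeparated (h : 𝒳 ⥤ᵇ 𝒴)
    (hs : AlgSt.RepByAlgSpWith AlgSp.IsQuasiSeparatedMor h) : AlgSt.IsQuasiSeparatedMor h :=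
  repWith_mono' (fun _ _ a _ ha =>
    ⟨isQuasiCompactMor_of_repWith a (repWith_mono (fun _ _ _ hg => hg.1.1) ha),
      (isQuasiSeparatedMor_iff_of_representable a ha.rep).2
        (repWith_mono (fun _ _ g hg => by
          have : IsSeparated g := hg.1.2
          exact (inferInstance : QuasiSeparated g)) ha)⟩) _ (qc_sep_diag_of_quasiSeparated h hs)

theorem isQuasiSeparatedMor_of_comp (h𝒳 : IsFibGrpd 𝒳.p) (h𝒴 : IsFibGrpd 𝒴.p)
    (h𝒵 : IsFibGrpd 𝒵.p) (f : 𝒳 ⥤ᵇ 𝒴) (g : 𝒴 ⥤ᵇ 𝒵)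
    (h : AlgSt.IsQuasiSeparatedMor (BasedFunctor.comp f g))
    (hg : AlgSt.RepByAlgSpWith AlgSp.IsQuasiSeparatedMor (FibCat.diag g)) :
    AlgSt.IsQuasiSeparatedMor f :=
  repWith_diag_of_comp f g h𝒳 h𝒴 h𝒵 _ isoInv_qcqs schemeTestable_qcqs
    (fun _ _ _ _ hY hZ a b ha hb =>
      ⟨isQuasiCompactMor_comp hY hZ.diag a b ha.1 hb.1,
        Groth.Agent.Lib.AlgSpQC2_helper7.isQuasiSeparatedMor_comp a b ha.2 hb.2⟩) h
    (isQuasiSeparatedMor_of_quasiSeparated _ (repWith_relJ f g _ hg))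

/-! ### From the diagonal of `h` to the diagonals of its base changes -/

theorem diagonal_prop_of_repWith_diag (P : MorphismProperty (AlgSp.Sp S)) (hI : IsoInv P)
    (h : 𝒳 ⥤ᵇ 𝒴) (hd : AlgSt.RepByAlgSpWith P (FibCat.diag h)) (U : Over S)
    (y : FibCat.overCat U ⥤ᵇ 𝒴) (F₁ : AlgSp.Space S) (e₁ : AlgSt.ofSp F₁.obj ⥤ᵇ fp y h)
    (he₁ : IsEquivOver e₁) :
    AlgSp.RepBySpWith P
      (pullback.diagonal (AlgSt.spMapOfOver (BasedFunctor.comp e₁ (fpFst y h)))).hom := by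
  let y' : AlgSt.ofSch U ⥤ᵇ 𝒴 := BasedFunctor.comp (AlgSt.toOverCat U) y
  have ι₀ : BasedFunctor.comp (AlgSt.ofOverCat U) (AlgSt.toOverCat U) ≅
      BasedFunctor.id (FibCat.overCat U) := Iso.refl _
  let κ : y ≅ BasedFunctor.comp (AlgSt.ofOverCat U) y' := (whiskerRightIso ι₀ y).symm
  let e₁' : AlgSt.ofSp F₁.obj ⥤ᵇ fp (BasedFunctor.comp (AlgSt.ofOverCat U) y') h :=
    BasedFunctor.comp e₁ (isoFun₁ κ h)
  have he₁' : IsEquivOver e₁' := isEquivOver_comp he₁ (isoFun₁_isEquivOver κ h)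
  let π₀ : F₁.obj ⟶ (AlgSp.yon S).obj U := AlgSt.spMapOfOver (BasedFunctor.comp e₁ (fpFst y h))
  let e : AlgSt.ofSp F₁.obj ⥤ᵇ fp y' h :=
    BasedFunctor.comp e₁' (precomp₁ (AlgSt.ofOverCat U) y' h)
  have he : IsEquivOver e :=
    isEquivOver_comp he₁' (precomp₁_isEquivOver (AlgSt.ofOverCat U) (ofOverCat_isEquivOver U) y' h)
  let π₁ : Stk.ofPsh F₁.obj.obj ⥤ᵇ Stk.ofPsh ((AlgSp.pyon S).obj U) :=
    BasedFunctor.comp e (fpFst y' h)
  have hπ₁ : mapOf π₁ = π₀.hom := by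
    have e2 : π₁ = BasedFunctor.comp (BasedFunctor.comp e₁ (fpFst y h)) (AlgSt.ofOverCat U) := by
      show BasedFunctor.comp e₁'
        (BasedFunctor.comp (precomp₁ (AlgSt.ofOverCat U) y' h) (fpFst y' h)) = _
      rw [precomp₁_comp_fpFst]
      show BasedFunctor.comp e₁ (BasedFunctor.comp (BasedFunctor.comp (isoFun₁ κ h)
        (fpFst (BasedFunctor.comp (AlgSt.ofOverCat U) y') h)) (AlgSt.ofOverCat U)) = _
      rw [isoFun₁_comp_fpFst]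
      rfl
    rw [e2]
    exact (spMapOfOver_hom (BasedFunctor.comp e₁ (fpFst y h))).symm
  have sqS := IsPullback.of_hasPullback π₀ π₀
  have sq : IsPullback (pullback.fst π₀ π₀).hom (pullback.snd π₀ π₀).hom (mapOf π₁) (mapOf π₁) := by
    rw [hπ₁]
    exact sqS.map (sheafToPresheaf (AlgSp.J S) (Type (u + 1)))
  have h1 : (pullback.diagonal π₀).hom ≫ (pullback.fst π₀ π₀).hom = 𝟙 _ :=
    congrArg (fun m => m.hom) (pullback.diagonal_fst π₀)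
  have h2 : (pullback.diagonal π₀).hom ≫ (pullback.snd π₀ π₀).hom = 𝟙 _ :=
    congrArg (fun m => m.hom) (pullback.diagonal_snd π₀)
  have r1 : AlgSt.RepByAlgSpWith P (FibCat.diag (fpFst y' h)) :=
    Groth.Agent.Lib.AlgStDiag.repWith_diag_baseChange P h y' hd
  have r2 : AlgSt.RepByAlgSpWith P (FibCat.diag π₁) :=
    (repWith_diag_precomp_equiv_iff P e he (fpFst y' h)).1 r1
  have r3 : AlgSt.RepByAlgSpWith P (Stk.ofPshMap (pullback.diagonal π₀).hom) :=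
    (repWith_ofPshMap_diagonal_iff P π₁ sq (pullback.diagonal π₀).hom h1 h2).2 r2
  exact repBySpWith_of_repByAlgSpWith P hI _ r3

/-- If the diagonal of `h` has `P` (testable on schemes), then the diagonals of the base changes of
`h` to schemes have `P`. -/
theorem diagonal_prop_of_repWith_diag' (P : MorphismProperty (AlgSp.Sp S)) (hI : IsoInv P)
    (hL : SchemeTestable P) (h : 𝒳 ⥤ᵇ 𝒴) (hd : AlgSt.RepByAlgSpWith P (FibCat.diag h))
    (U : Over S) (y : FibCat.overCat U ⥤ᵇ 𝒴) (F₁ : AlgSp.Space S)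
    (e₁ : AlgSt.ofSp F₁.obj ⥤ᵇ fp y h) (he₁ : IsEquivOver e₁) :
    P (pullback.diagonal (AlgSt.spMapOfOver (BasedFunctor.comp e₁ (fpFst y h)))) := by
  have sqS := IsPullback.of_hasPullback (AlgSt.spMapOfOver (BasedFunctor.comp e₁ (fpFst y h)))
    (AlgSt.spMapOfOver (BasedFunctor.comp e₁ (fpFst y h)))
  have hD := isAlgSpace_of_isPullback (AlgSp.IsAlgSpace.yon_obj U).diag F₁.property F₁.property sqS
  exact hL _ F₁.property hD (diagonal_prop_of_repWith_diag P hI h hd U y F₁ e₁ he₁)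

theorem isoInv_univClosed : IsoInv (AlgSp.IsUnivClosedMor : MorphismProperty (AlgSp.Sp S)) :=
  isoInv_of_bc _ (fun _ _ _ _ _ _ _ _ _ _ _ _ sq ha => univSp_of_isPullback _ sq ha)

theorem schemeTestable_univClosed :
    SchemeTestable (AlgSp.IsUnivClosedMor : MorphismProperty (AlgSp.Sp S)) := by
  intro V Z₀ a hV hZ₀ ha
  refine isUnivClosedMor_of_forall_affine a fun Z hZ g P fst snd sq => ?_
  exact (sq_of_repBySpWith _ a ha Z g P fst snd sq).2 (AlgSp.IsAlgSpace.yon_obj Z) (𝟙 _) (𝟙 _)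
    snd (IsPullback.of_horiz_isIso ⟨by simp⟩)

theorem isoInv_qc : IsoInv (AlgSp.IsQuasiCompactMor : MorphismProperty (AlgSp.Sp S)) :=
  isoInv_of_bc _ (fun _ _ _ _ _ _ _ _ _ _ _ _ sq ha => isQuasiCompactMor_of_isPullback sq ha)

theorem schemeTestable_qc :
    SchemeTestable (AlgSp.IsQuasiCompactMor : MorphismProperty (AlgSp.Sp S)) := by
  intro V Z₀ a hV hZ₀ ha
  refine isQuasiCompactMor_of_forall_affine hV hZ₀.diag a fun Z hZ g P fst snd sq => ?_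
  haveI := hZ
  have : CompactSpace ↥Z.left := inferInstance
  exact (sq_of_repBySpWith _ a ha Z g P fst snd sq).2 (AlgSp.IsAlgSpace.yon_obj Z)
    (isQuasiCompactSp_yon Z) (𝟙 _) (𝟙 _) snd (IsPullback.of_horiz_isIso ⟨by simp⟩)

/-- Universally closed diagonal implies separated. -/
theorem separated_of_univClosed_diag (h : 𝒳 ⥤ᵇ 𝒴) (hf : AlgSt.RepByAlgSp1 h)
    (hd : AlgSt.RepByAlgSpWith AlgSp.IsUnivClosedMor (FibCat.diag h)) :
    AlgSt.RepByAlgSpWith AlgSp.IsSeparatedMor h := by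
  intro U y
  obtain ⟨F₁, e₁, he₁⟩ := hf U y
  exact ⟨F₁, e₁, he₁, isSeparatedMor_of_isUnivClosedMor_diagonal F₁.property _
    (diagonal_prop_of_repWith_diag' _ isoInv_univClosed schemeTestable_univClosed h hd U y F₁ e₁
      he₁)⟩

/-- Quasi-compact diagonal implies quasi-separated. -/
theorem quasiSeparated_of_qc_diag (h : 𝒳 ⥤ᵇ 𝒴) (hf : AlgSt.RepByAlgSp1 h)
    (hd : AlgSt.RepByAlgSpWith AlgSp.IsQuasiCompactMor (FibCat.diag h)) :
    AlgSt.RepByAlgSpWith AlgSp.IsQuasiSeparatedMor h := by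
  intro U y
  obtain ⟨F₁, e₁, he₁⟩ := hf U y
  exact ⟨F₁, e₁, he₁, repWith_quasiCompact_of_isQuasiCompactMor _
    (diagonal_properties F₁.property _).1.rep
    (diagonal_prop_of_repWith_diag' _ isoInv_qc schemeTestable_qc h hd U y F₁ e₁ he₁)⟩

theorem tfae_separated (h : 𝒳 ⥤ᵇ 𝒴) (hf : AlgSt.RepByAlgSp1 h) :
    [AlgSt.RepByAlgSpWith AlgSp.IsSeparatedMor h, AlgSt.IsClosedImm (FibCat.diag h),
      AlgSt.IsSeparatedMor h,
      AlgSt.RepByAlgSpWith AlgSp.IsUnivClosedMor (FibCat.diag h)].TFAE := by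
  tfae_have 1 → 2 := isClosedImm_diag_of_separated h
  tfae_have 2 → 3 := isSeparatedMor_of_isClosedImm_diag h
  tfae_have 3 → 4 := fun h3 => repWith_mono' (fun _ _ _ _ ha => ha.2.2) _ h3
  tfae_have 4 → 1 := separated_of_univClosed_diag h hf
  tfae_finish

theorem tfae_quasiSeparated (h : 𝒳 ⥤ᵇ 𝒴) (hf : AlgSt.RepByAlgSp1 h) :
    [AlgSt.RepByAlgSpWith AlgSp.IsQuasiSeparatedMor h,
      AlgSt.RepByAlgSpWith AlgSp.IsQuasiCompactMor (FibCat.diag h),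
      AlgSt.RepByAlgSpWith AlgSp.IsFiniteTypeMor (FibCat.diag h)].TFAE := by
  have hE : ∀ ⦃A B : Scheme.{u}⦄ (g : A ⟶ B), Etale g → LocallyOfFiniteType g :=
    fun A B g hg => inferInstance
  tfae_have 1 → 3 := fun h1 => repWith_mono' (fun _ _ a _ ha =>
    ⟨locP_of_repWith @LocallyOfFiniteType hE a (repWith_mono (fun _ _ _ hg => hg.2) ha),
      isQuasiCompactMor_of_repWith a (repWith_mono (fun _ _ _ hg => hg.1.1) ha)⟩) _
    (qc_sep_diag_of_quasiSeparated h h1)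
  tfae_have 3 → 2 := fun h3 => repWith_mono' (fun _ _ _ _ ha => ha.2) _ h3
  tfae_have 2 → 1 := quasiSeparated_of_qc_diag h hf
  tfae_finish

theorem isQuasiSeparatedMor_iff (h : 𝒳 ⥤ᵇ 𝒴) (hf : AlgSt.RepByAlgSp1 h) :
    AlgSt.IsQuasiSeparatedMor h ↔ AlgSt.RepByAlgSpWith AlgSp.IsQuasiSeparatedMor h :=
  ⟨fun h1 => quasiSeparated_of_qc_diag h hf (repWith_mono' (fun _ _ _ _ ha => ha.1) _ h1),
    isQuasiSeparatedMor_of_quasiSeparated h⟩

end stk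

end Groth.Agent.Lib.AlgStDiagRep
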