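import Groth.Agent.Lib.FibCat8_helper6

/-!
# 2-fibre products: fibredness in general universes; products over `C` (helper6)
-/

set_option autoImplicit false

universe v₆ u₆ v₅ u₅ v₄ u₄ v₃ u₃ v₂ u₂ v u

open CategoryTheory CategoryTheory.Limits FibCat

namespace Groth.Agent.Lib.FibCat12_helper6

open Groth.Agent.Lib.FibCat_helper6 Groth.Agent.Lib.FibCat2_helper6

section

variable {C : Type u} [Category.{v} C] {𝒳 : BasedCategory.{v₂, u₂} C}
  {𝒴 : BasedCategory.{v₃, u₃} C} {𝒮 : BasedCategory.{v₄, u₄} C} (F : 𝒳 ⥤ᵇ 𝒮) (G : 𝒴 ⥤ᵇ 𝒮)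

/-- the 2-fibre product over `C` of categories fibred in groupoids is fibred in groupoids -/
theorem isFibGrpd_fp (h𝒳 : IsFibGrpd 𝒳.p) (h𝒴 : IsFibGrpd 𝒴.p) (h𝒮 : IsFibGrpd 𝒮.p) :
    IsFibGrpd (fp F G).p := by
  refine ⟨?_, ?_⟩
  · intro X R f
    change R ⟶ 𝒳.p.obj X.obj.fst at f
    have hy : 𝒴.p.obj X.obj.snd = 𝒳.p.obj X.obj.fst := fp_obj_snd_proj X
    obtain ⟨x', φ, hφ⟩ := h𝒳.exists_lift (x := X.obj.fst) f
    obtain ⟨y', ψ, hψ⟩ := exists_lift_of_isFibGrpd h𝒴 hy f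
    have h3 : 𝒮.p.IsStronglyCartesian f (F.map φ) := isStronglyCartesian_of_isFibGrpd h𝒮 f _
    have h4 : 𝒮.p.IsStronglyCartesian f (G.map ψ) := isStronglyCartesian_of_isFibGrpd h𝒮 f _
    exact ⟨fpLiftObj X f φ ψ hφ hψ h3 h4, fpLiftHom X f φ ψ hφ hψ h3 h4,
      fpLiftHom_isHomLift X f φ ψ hφ hψ h3 h4⟩
  · intro X' X m
    have a1 : 𝒳.p.IsHomLift ((fp F G).p.map m) m.hom.fst := fp_isHomLift_fst m _
    have a2 : 𝒴.p.IsHomLift ((fp F G).p.map m) m.hom.snd := fp_isHomLift_snd' m _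
    exact fp_isStronglyCartesian m _
      (isStronglyCartesian_of_isFibGrpd h𝒳 _ _)
      (isStronglyCartesian_of_isFibGrpd h𝒴 _ _)
      (isStronglyCartesian_of_isFibGrpd h𝒮 _ _)

/-- the 2-fibre product over `C` of fibred categories along functors preserving strongly cartesian
morphisms is fibred -/
theorem isFibered_fp [𝒳.p.IsFibered] [𝒴.p.IsFibered]
    (hF : ∀ {R S : C} (f : R ⟶ S) {a b : 𝒳.obj} (φ : a ⟶ b), 𝒳.p.IsStronglyCartesian f φ →
      𝒮.p.IsStronglyCartesian f (F.map φ))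
    (hG : ∀ {R S : C} (f : R ⟶ S) {a b : 𝒴.obj} (φ : a ⟶ b), 𝒴.p.IsStronglyCartesian f φ →
      𝒮.p.IsStronglyCartesian f (G.map φ)) :
    (fp F G).p.IsFibered := by
  apply Functor.IsFibered.of_exists_isStronglyCartesian
  intro X R f
  change R ⟶ 𝒳.p.obj X.obj.fst at f
  have hy : 𝒴.p.obj X.obj.snd = 𝒳.p.obj X.obj.fst := fp_obj_snd_proj X
  obtain ⟨x', φ, hφ⟩ := Functor.IsPreFibered.exists_isCartesian' (p := 𝒳.p) (a := X.obj.fst) f
  obtain ⟨y', ψ, hψ⟩ := CategoryTheory.IsPreFibered.exists_isCartesian 𝒴.p hy f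
  have hφ' : 𝒳.p.IsStronglyCartesian f φ := inferInstance
  have hψ' : 𝒴.p.IsStronglyCartesian f ψ := inferInstance
  have h3 := hF f φ hφ'
  have h4 := hG f ψ hψ'
  refine ⟨fpLiftObj X f φ ψ inferInstance inferInstance h3 h4,
    fpLiftHom X f φ ψ inferInstance inferInstance h3 h4, ?_⟩
  exact fp_isStronglyCartesian _ f hφ' hψ' h4

end

section self

variable {C : Type u} [Category.{v} C]

theorem isFibGrpd_selfOver : IsFibGrpd (selfOver C).p := by
  refine ⟨?_, ?_⟩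
  · intro x V f
    exact ⟨V, f, IsHomLift.map (𝟭 C) f⟩
  · intro y x φ
    have h : (𝟭 C).IsHomLift ((𝟭 C).map φ) φ := IsHomLift.map (𝟭 C) φ
    exact @isStronglyCartesian_id_functor C _ _ _ ((𝟭 C).map φ) _ _ φ h

theorem isStronglyCartesian_selfOver {R S : C} (f : R ⟶ S) {a b : (selfOver C).obj} (φ : a ⟶ b)
    [h : (selfOver C).p.IsHomLift f φ] : (selfOver C).p.IsStronglyCartesian f φ :=
  @isStronglyCartesian_id_functor C _ _ _ f _ _ φ h

variable {𝒳 : BasedCategory.{v₂, u₂} C} {𝒴 : BasedCategory.{v₃, u₃} C}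

/-- the product over `C` of categories fibred in groupoids is fibred in groupoids -/
theorem isFibGrpd_prod (h𝒳 : IsFibGrpd 𝒳.p) (h𝒴 : IsFibGrpd 𝒴.p) :
    IsFibGrpd (fp (toSelf 𝒳) (toSelf 𝒴)).p :=
  isFibGrpd_fp _ _ h𝒳 h𝒴 isFibGrpd_selfOver

/-- the product over `C` of fibred categories is fibred -/
theorem isFibered_prod [𝒳.p.IsFibered] [𝒴.p.IsFibered] :
    (fp (toSelf 𝒳) (toSelf 𝒴)).p.IsFibered :=
  isFibered_fp _ _
    (fun f _ _ φ h => by
      have : (selfOver C).p.IsHomLift f ((toSelf 𝒳).map φ) := inferInstance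
      exact isStronglyCartesian_selfOver f _)
    (fun f _ _ φ h => by
      have : (selfOver C).p.IsHomLift f ((toSelf 𝒴).map φ) := inferInstance
      exact isStronglyCartesian_selfOver f _)

end self

end Groth.Agent.Lib.FibCat12_helper6
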