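import Groth.Agent.Lib.FibCat13_helper6
import Mathlib.CategoryTheory.Limits.Constructions.Equalizers

/-!
# Helpers for 2-fibre products with slices (helper6)
-/

set_option autoImplicit false

universe v₆ u₆ v₅ u₅ v₄ u₄ v₃ u₃ v₂ u₂ v u

open CategoryTheory CategoryTheory.Limits FibCat

namespace Groth.Agent.Lib.FibCat14_helper6

open Groth.Agent.Lib.FibCat_helper6 Groth.Agent.Lib.FibCat2_helper6 Groth.Agent.Lib.FibCat13_helper6

section fp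

variable {C : Type u} [Category.{v} C] {𝒳 : BasedCategory.{v₂, u₂} C}
  {𝒴 : BasedCategory.{v₃, u₃} C} {𝒮 : BasedCategory.{v₄, u₄} C} {F : 𝒳 ⥤ᵇ 𝒮} {G : 𝒴 ⥤ᵇ 𝒮}

theorem fp_hom_ext {X Y : (fp F G).obj} {m m' : X ⟶ Y} (h1 : m.hom.fst = m'.hom.fst)
    (h2 : m.hom.snd = m'.hom.snd) : m = m' := by
  apply ObjectProperty.hom_ext
  exact CategoricalPullback.hom_ext h1 h2

/-- constructor for morphisms of `fp F G` -/
def fpHomMk {X Y : (fp F G).obj} (a : X.obj.fst ⟶ Y.obj.fst) (b : X.obj.snd ⟶ Y.obj.snd)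
    (w : F.map a ≫ Y.obj.iso.hom = X.obj.iso.hom ≫ G.map b) : X ⟶ Y :=
  ObjectProperty.homMk ⟨a, b, w⟩

@[simp] theorem fpHomMk_fst {X Y : (fp F G).obj} (a : X.obj.fst ⟶ Y.obj.fst)
    (b : X.obj.snd ⟶ Y.obj.snd) (w) : (fpHomMk (F := F) (G := G) a b w).hom.fst = a := rfl

@[simp] theorem fpHomMk_snd {X Y : (fp F G).obj} (a : X.obj.fst ⟶ Y.obj.fst)
    (b : X.obj.snd ⟶ Y.obj.snd) (w) : (fpHomMk (F := F) (G := G) a b w).hom.snd = b := rfl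

/-- constructor for objects of `fp F G` -/
def fpObjMk (x : 𝒳.obj) (y : 𝒴.obj) (θ : F.obj x ≅ G.obj y)
    (h : 𝒮.p.IsHomLift (𝟙 (𝒳.p.obj x)) θ.hom) : (fp F G).obj :=
  ⟨{ fst := x, snd := y, iso := θ }, h⟩

end fp

section prod

variable {C : Type u} [Category.{v} C] {𝒳 : BasedCategory.{v₂, u₂} C}
  {𝒴 : BasedCategory.{v₃, u₃} C}

/-- constructor for isomorphisms of the product over `C` -/
def prodIsoMk {X Y : (prodC 𝒳 𝒴).obj} {R : C} (a : X.obj.fst ≅ Y.obj.fst)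
    (b : X.obj.snd ≅ Y.obj.snd) [𝒳.p.IsHomLift (𝟙 R) a.hom] [𝒴.p.IsHomLift (𝟙 R) b.hom] : X ≅ Y :=
  ObjectProperty.isoMk _ (CategoricalPullback.mkIso a b (prod_hom_w (𝟙 R) a.hom b.hom))

@[simp] theorem prodIsoMk_hom_fst {X Y : (prodC 𝒳 𝒴).obj} {R : C} (a : X.obj.fst ≅ Y.obj.fst)
    (b : X.obj.snd ≅ Y.obj.snd) [𝒳.p.IsHomLift (𝟙 R) a.hom] [𝒴.p.IsHomLift (𝟙 R) b.hom] :
    (prodIsoMk (R := R) a b).hom.hom.fst = a.hom := rfl

@[simp] theorem prodIsoMk_hom_snd {X Y : (prodC 𝒳 𝒴).obj} {R : C} (a : X.obj.fst ≅ Y.obj.fst)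
    (b : X.obj.snd ≅ Y.obj.snd) [𝒳.p.IsHomLift (𝟙 R) a.hom] [𝒴.p.IsHomLift (𝟙 R) b.hom] :
    (prodIsoMk (R := R) a b).hom.hom.snd = b.hom := rfl

theorem prodIsoMk_isHomLift {X Y : (prodC 𝒳 𝒴).obj} {R : C} (a : X.obj.fst ≅ Y.obj.fst)
    (b : X.obj.snd ≅ Y.obj.snd) [h : 𝒳.p.IsHomLift (𝟙 R) a.hom] [𝒴.p.IsHomLift (𝟙 R) b.hom] :
    (prodC 𝒳 𝒴).p.IsHomLift (𝟙 R) (prodIsoMk (R := R) a b).hom :=
  fp_isHomLift_of_fst _ (𝟙 R) h

end prod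

section over

variable {C : Type u} [Category.{v} C] {W : C}

theorem over_isHomLift {A B : Over W} (c : A ⟶ B) : (overCat W).p.IsHomLift c.left c :=
  IsHomLift.map (overCat W).p c

theorem over_left_eq {A B : Over W} (c : A ⟶ B) {R S : C} (k : R ⟶ S)
    [h : (overCat W).p.IsHomLift k c] :
    c.left = eqToHom (IsHomLift.domain_eq (overCat W).p k c) ≫ k ≫
      eqToHom (IsHomLift.codomain_eq (overCat W).p k c).symm :=
  IsHomLift.fac' (overCat W).p k c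

end over

end Groth.Agent.Lib.FibCat14_helper6
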