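import Groth.Agent.Lib.FibCat5_helper6

/-!
# Transfer of fibredness along equivalences over `C` (helper6)
-/

set_option autoImplicit false

universe v₆ u₆ v₅ u₅ v₄ u₄ v₃ u₃ v₂ u₂ v u

open CategoryTheory CategoryTheory.Limits FibCat

namespace Groth.Agent.Lib.FibCat6_helper6

open Groth.Agent.Lib.FibCat_helper6 Groth.Agent.Lib.FibCat2_helper6 Groth.Agent.Lib.FibCat3_helper6
  Groth.Agent.Lib.FibCat5_helper6

section

variable {C : Type u} [Category.{v} C] {𝒳 : BasedCategory.{v₂, u₂} C}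
  {𝒴 : BasedCategory.{v₃, u₃} C} {F : 𝒳 ⥤ᵇ 𝒴}

/-- strongly cartesian morphisms may be composed with isomorphisms over identities -/
theorem isStronglyCartesian_comp_iso {𝒲 : BasedCategory.{v₅, u₅} C} {R S : C} (f : R ⟶ S)
    {a b b' : 𝒲.obj} (φ : a ⟶ b) (ε : b ≅ b') (h : 𝒲.p.IsStronglyCartesian f φ)
    (hε : 𝒲.p.IsHomLift (𝟙 S) ε.hom) : 𝒲.p.IsStronglyCartesian f (φ ≫ ε.hom) := by
  have : 𝒲.p.IsStronglyCartesian (𝟙 S) ε.hom := Functor.IsStronglyCartesian.of_iso 𝒲.p (𝟙 S) ε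
  have : 𝒲.p.IsStronglyCartesian (f ≫ 𝟙 S) (φ ≫ ε.hom) := inferInstance
  rw [Category.comp_id] at this
  exact this

theorem isFibered_of_isEquivOver (hF : IsEquivOver F) [𝒳.p.IsFibered] : 𝒴.p.IsFibered := by
  have := full_of_isEquivOver hF
  have := faithful_of_isEquivOver hF
  apply Functor.IsFibered.of_exists_isStronglyCartesian
  intro y R f
  obtain ⟨x, ε, hε⟩ := essSurjOver_of_isEquivOver hF y
  have e0 : 𝒳.p.obj x = 𝒴.p.obj y := by
    rw [← F.w_obj]; exact IsHomLift.domain_eq 𝒴.p (𝟙 (𝒴.p.obj y)) ε.hom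
  obtain ⟨x', φ, hφ⟩ := CategoryTheory.IsPreFibered.exists_isCartesian 𝒳.p (a := x) e0 f
  have hφ' : 𝒳.p.IsStronglyCartesian f φ := inferInstance
  have h1 : 𝒴.p.IsStronglyCartesian f (F.map φ) :=
    map_isStronglyCartesian F (fun y => essSurjOver_of_isEquivOver hF y) f φ hφ'
  exact ⟨F.obj x', F.map φ ≫ ε.hom, isStronglyCartesian_comp_iso f _ ε h1 hε⟩

theorem isFibered_iff_of_isEquivOver (hF : IsEquivOver F) : 𝒳.p.IsFibered ↔ 𝒴.p.IsFibered := by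
  constructor
  · intro h; exact isFibered_of_isEquivOver hF
  · intro h
    obtain ⟨G, ⟨e₁⟩, ⟨e₂⟩⟩ := hF
    exact isFibered_of_isEquivOver (isEquivOver_inverse e₁ e₂)

/-- being fibred in groupoids transfers along equivalences over `C` -/
theorem isFibGrpd_of_isEquivOver (hF : IsEquivOver F) (h : IsFibGrpd 𝒳.p) : IsFibGrpd 𝒴.p := by
  have := full_of_isEquivOver hF
  have := faithful_of_isEquivOver hF
  have hess := fun y => essSurjOver_of_isEquivOver hF y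
  refine ⟨?_, ?_⟩
  · intro y V f
    obtain ⟨x, ε, hε⟩ := hess y
    have e0 : 𝒳.p.obj x = 𝒴.p.obj y := by
      rw [← F.w_obj]; exact IsHomLift.domain_eq 𝒴.p (𝟙 (𝒴.p.obj y)) ε.hom
    obtain ⟨x', φ, hφ⟩ := exists_lift_of_isFibGrpd h e0 f
    refine ⟨F.obj x', F.map φ ≫ ε.hom, ?_⟩
    have : 𝒴.p.IsHomLift f (F.map φ) := inferInstance
    have : 𝒴.p.IsHomLift (f ≫ 𝟙 _) (F.map φ ≫ ε.hom) := inferInstance
    rw [Category.comp_id] at this
    exact this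
  · intro y' y ψ
    -- write ψ up to isomorphisms over identities as the image of a morphism
    obtain ⟨x, ε, hε⟩ := hess y
    obtain ⟨x', ε', hε'⟩ := hess y'
    let φ : x' ⟶ x := F.toFunctor.preimage (ε'.hom ≫ ψ ≫ ε.inv)
    have eφ : F.map φ = ε'.hom ≫ ψ ≫ ε.inv := F.toFunctor.map_preimage _
    have hεi : 𝒴.p.IsHomLift (𝟙 (𝒴.p.obj y)) ε.inv := IsHomLift.lift_id_inv _ _ _
    have hε'i : 𝒴.p.IsHomLift (𝟙 (𝒴.p.obj y')) ε'.inv := IsHomLift.lift_id_inv _ _ _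
    have h1 : 𝒴.p.IsHomLift (𝟙 (𝒴.p.obj y') ≫ 𝒴.p.map ψ ≫ 𝟙 (𝒴.p.obj y)) (F.map φ) := by
      rw [eφ]; infer_instance
    rw [Category.id_comp, Category.comp_id] at h1
    have h2 : 𝒳.p.IsHomLift (𝒴.p.map ψ) φ := F.isHomLift_map _ _
    have h3 : 𝒳.p.IsStronglyCartesian (𝒴.p.map ψ) φ := isStronglyCartesian_of_isFibGrpd h _ _
    have h4 : 𝒴.p.IsStronglyCartesian (𝒴.p.map ψ) (F.map φ) :=
      map_isStronglyCartesian F hess _ φ h3
    have h5 : 𝒴.p.IsStronglyCartesian (𝒴.p.map ψ) (F.map φ ≫ ε.hom) :=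
      isStronglyCartesian_comp_iso _ _ ε h4 hε
    have h6 : 𝒴.p.IsStronglyCartesian (𝟙 (𝒴.p.obj y')) ε'.inv :=
      @Functor.IsStronglyCartesian.of_iso _ _ _ _ 𝒴.p _ _ _ _ (𝟙 _) ε'.symm hε'i
    have h7 : 𝒴.p.IsStronglyCartesian (𝟙 (𝒴.p.obj y') ≫ 𝒴.p.map ψ) (ε'.inv ≫ F.map φ ≫ ε.hom) :=
      inferInstance
    rw [Category.id_comp] at h7
    have e : ε'.inv ≫ F.map φ ≫ ε.hom = ψ := by
      rw [eφ]; simp
    rw [e] at h7
    exact h7

theorem isFibGrpd_iff_of_isEquivOver (hF : IsEquivOver F) : IsFibGrpd 𝒳.p ↔ IsFibGrpd 𝒴.p := by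
  constructor
  · exact isFibGrpd_of_isEquivOver hF
  · obtain ⟨G, ⟨e₁⟩, ⟨e₂⟩⟩ := hF
    exact isFibGrpd_of_isEquivOver (isEquivOver_inverse e₁ e₂)

end

end Groth.Agent.Lib.FibCat6_helper6
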