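import Mathlib
import Groth.Prelude.Def_AlgSt
import Groth.Agent.Lib.FibCat6_helper6

/-!
# Post-composition with functors over `C`; invariance of the (pre)stack conditions under
equivalences over `C`
-/

set_option autoImplicit false

universe v₆ u₆ v₅ u₅ v₄ u₄ v₃ u₃ v₂ u₂ v u

open CategoryTheory FibCat

namespace Groth.Agent.StkEquiv

open Groth.Agent.Lib.FibCat3_helper6 Groth.Agent.Lib.FibCat4_helper6 Groth.Agent.Lib.FibCat6_helper6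

section General

variable {A : Type*} {B : Type*} {A' : Type*} {B' : Type*} [Category A] [Category B]
  [Category A'] [Category B']

/-- Transfer of fullness, faithfulness, being an equivalence along a square commuting up to iso whose
vertical maps are equivalences. -/
lemma transfer (R : A ⥤ B) (R' : A' ⥤ B') (P : A ⥤ A') (Q : B ⥤ B') [P.IsEquivalence]
    [Q.IsEquivalence] (e : R ⋙ Q ≅ P ⋙ R') :
    (R.Full → R'.Full) ∧ (R.Faithful → R'.Faithful) ∧ (R.IsEquivalence → R'.IsEquivalence) := by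
  have e' : P.inv ⋙ (R ⋙ Q) ≅ R' :=
    Functor.isoWhiskerLeft P.inv e ≪≫ (Functor.associator _ _ _).symm ≪≫
      Functor.isoWhiskerRight P.asEquivalence.counitIso R' ≪≫ Functor.leftUnitor R'
  refine ⟨fun h => ?_, fun h => ?_, fun h => ?_⟩
  · exact Functor.Full.of_iso e'
  · exact Functor.Faithful.of_iso e'
  · exact Functor.isEquivalence_of_iso e'

end General

variable {C : Type u} [Category.{v} C] {𝒜 : BasedCategory.{v₅, u₅} C} {ℬ : BasedCategory.{v₆, u₆} C}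
  {𝒳 : BasedCategory.{v₂, u₂} C} {𝒴 : BasedCategory.{v₃, u₃} C} {𝒵 : BasedCategory.{v₄, u₄} C}

variable (𝒜) in
/-- Post-composition with a functor over `C`. -/
def post (F : 𝒳 ⥤ᵇ 𝒴) : (𝒜 ⥤ᵇ 𝒳) ⥤ (𝒜 ⥤ᵇ 𝒴) where
  obj H := BasedFunctor.comp H F
  map α := BasedCategory.whiskerRight α F
  map_id H := by
    apply BasedNatTrans.homCategory.ext
    ext a
    exact F.map_id _
  map_comp α β := by
    apply BasedNatTrans.homCategory.ext
    ext a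
    exact F.map_comp _ _

variable (𝒜) in
/-- An isomorphism of functors over `C` induces an isomorphism of post-composition functors. -/
def postIso {F F' : 𝒳 ⥤ᵇ 𝒴} (e : F ≅ F') : post 𝒜 F ≅ post 𝒜 F' :=
  NatIso.ofComponents (fun H => whiskerLeftIso H e) (by
    intro H H' α
    apply BasedNatTrans.homCategory.ext
    ext a
    exact (e.hom.toNatTrans.naturality (α.toNatTrans.app a)))

variable (𝒜) in
def postComp (F : 𝒳 ⥤ᵇ 𝒴) (G : 𝒴 ⥤ᵇ 𝒵) :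
    post 𝒜 (BasedFunctor.comp F G) ≅ post 𝒜 F ⋙ post 𝒜 G :=
  NatIso.ofComponents (fun H => Iso.refl _) (by
    intro H H' α
    apply BasedNatTrans.homCategory.ext
    ext a
    change G.map (F.map _) ≫ 𝟙 _ = 𝟙 _ ≫ G.map (F.map _)
    simp)

variable (𝒜) in
def postId (𝒳 : BasedCategory.{v₂, u₂} C) : post 𝒜 (BasedFunctor.id 𝒳) ≅ 𝟭 _ :=
  NatIso.ofComponents (fun H => Iso.refl _) (by
    intro H H' α
    apply BasedNatTrans.homCategory.ext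
    ext a
    change α.toNatTrans.app a ≫ 𝟙 _ = 𝟙 _ ≫ α.toNatTrans.app a
    simp)

variable (𝒜) in
lemma post_isEquivalence {F : 𝒳 ⥤ᵇ 𝒴} (hF : IsEquivOver F) : (post 𝒜 F).IsEquivalence := by
  obtain ⟨G, ⟨e1⟩, ⟨e2⟩⟩ := hF
  let η : 𝟭 (𝒜 ⥤ᵇ 𝒳) ≅ post 𝒜 F ⋙ post 𝒜 G :=
    (postId 𝒜 𝒳).symm ≪≫ (postIso 𝒜 e1).symm ≪≫ postComp 𝒜 F G
  let ε : post 𝒜 G ⋙ post 𝒜 F ≅ 𝟭 (𝒜 ⥤ᵇ 𝒴) :=
    (postComp 𝒜 G F).symm ≪≫ postIso 𝒜 e2 ≪≫ postId 𝒜 𝒴
  exact (CategoryTheory.Equivalence.mk (post 𝒜 F) (post 𝒜 G) η ε).isEquivalence_functor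

/-- Restriction commutes with post-composition. -/
def restrPost (ι : 𝒜 ⥤ᵇ ℬ) (F : 𝒳 ⥤ᵇ 𝒴) :
    Stk.restr ι 𝒳 ⋙ post 𝒜 F ≅ post ℬ F ⋙ Stk.restr ι 𝒴 :=
  NatIso.ofComponents (fun H => Iso.refl _) (by
    intro H H' α
    apply BasedNatTrans.homCategory.ext
    ext a
    change F.map (α.toNatTrans.app (ι.obj a)) ≫ 𝟙 _ = 𝟙 _ ≫ F.map (α.toNatTrans.app (ι.obj a))
    simp)

lemma restr_transfer (ι : 𝒜 ⥤ᵇ ℬ) {F : 𝒳 ⥤ᵇ 𝒴} (hF : IsEquivOver F) :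
    ((Stk.restr ι 𝒳).Full → (Stk.restr ι 𝒴).Full) ∧
      ((Stk.restr ι 𝒳).Faithful → (Stk.restr ι 𝒴).Faithful) ∧
      ((Stk.restr ι 𝒳).IsEquivalence → (Stk.restr ι 𝒴).IsEquivalence) := by
  have := post_isEquivalence 𝒜 hF
  have := post_isEquivalence ℬ hF
  exact transfer _ _ (post ℬ F) (post 𝒜 F) (restrPost ι F)

lemma isEquivOver_symm {F : 𝒳 ⥤ᵇ 𝒴} (hF : IsEquivOver F) :
    ∃ G : 𝒴 ⥤ᵇ 𝒳, IsEquivOver G := by
  obtain ⟨G, ⟨e1⟩, ⟨e2⟩⟩ := hF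
  exact ⟨G, isEquivOver_inverse e1 e2⟩

theorem isPrestackFor_iff {F : 𝒳 ⥤ᵇ 𝒴} (hF : IsEquivOver F) {U : C} (R : Sieve U) :
    Stk.IsPrestackFor R 𝒳 ↔ Stk.IsPrestackFor R 𝒴 := by
  obtain ⟨G, hG⟩ := isEquivOver_symm hF
  have h1 := restr_transfer (Stk.sieveIncl R) hF
  have h2 := restr_transfer (Stk.sieveIncl R) hG
  exact ⟨fun h => ⟨h1.1 h.1, h1.2.1 h.2⟩, fun h => ⟨h2.1 h.1, h2.2.1 h.2⟩⟩

theorem isStackFor_iff {F : 𝒳 ⥤ᵇ 𝒴} (hF : IsEquivOver F) {U : C} (R : Sieve U) :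
    Stk.IsStackFor R 𝒳 ↔ Stk.IsStackFor R 𝒴 := by
  obtain ⟨G, hG⟩ := isEquivOver_symm hF
  have h1 := restr_transfer (Stk.sieveIncl R) hF
  have h2 := restr_transfer (Stk.sieveIncl R) hG
  exact ⟨fun h => h1.2.2 h, fun h => h2.2.2 h⟩

theorem isPrestack_iff (J : GrothendieckTopology C) {F : 𝒳 ⥤ᵇ 𝒴} (hF : IsEquivOver F) :
    Stk.IsPrestack J 𝒳 ↔ Stk.IsPrestack J 𝒴 := by
  unfold Stk.IsPrestack
  rw [isFibGrpd_iff_of_isEquivOver hF]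
  exact and_congr_right fun _ => forall₃_congr fun U R _ => isPrestackFor_iff hF R

theorem isStack_iff (J : GrothendieckTopology C) {F : 𝒳 ⥤ᵇ 𝒴} (hF : IsEquivOver F) :
    Stk.IsStack J 𝒳 ↔ Stk.IsStack J 𝒴 := by
  unfold Stk.IsStack
  rw [isFibGrpd_iff_of_isEquivOver hF]
  exact and_congr_right fun _ => forall₃_congr fun U R _ => isStackFor_iff hF R


section General2

variable {A : Type*} {B : Type*} {A' : Type*} {B' : Type*} [Category A] [Category B]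
  [Category A'] [Category B']

/-- Two-sided version of `transfer`. -/
lemma transfer_iff (R : A ⥤ B) (R' : A' ⥤ B') (P : A ⥤ A') (Q : B ⥤ B') [P.IsEquivalence]
    [Q.IsEquivalence] (e : R ⋙ Q ≅ P ⋙ R') :
    (R.Full ↔ R'.Full) ∧ (R.Faithful ↔ R'.Faithful) ∧ (R.IsEquivalence ↔ R'.IsEquivalence) := by
  have h1 := transfer R R' P Q e
  have e' : R' ⋙ Q.inv ≅ P.inv ⋙ R :=
    (Functor.leftUnitor _).symm ≪≫
      Functor.isoWhiskerRight P.asEquivalence.counitIso.symm (R' ⋙ Q.inv) ≪≫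
      Functor.associator _ _ _ ≪≫
      Functor.isoWhiskerLeft P.inv ((Functor.associator _ _ _).symm ≪≫
        Functor.isoWhiskerRight e.symm Q.inv ≪≫ Functor.associator _ _ _ ≪≫
        Functor.isoWhiskerLeft R Q.asEquivalence.unitIso.symm ≪≫ Functor.rightUnitor R)
  have h2 := transfer R' R P.inv Q.inv e'
  exact ⟨⟨h1.1, h2.1⟩, ⟨h1.2.1, h2.2.1⟩, ⟨h1.2.2, h2.2.2⟩⟩

end General2

/-- Evaluation at the identity intertwines post-composition and the fibre functor. -/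
def evalPost {𝒳 : BasedCategory.{v₂, u₂} C} {𝒴 : BasedCategory.{v₃, u₃} C} (F : 𝒳 ⥤ᵇ 𝒴) (U : C) :
    post (overCat U) F ⋙ evalAtId 𝒴 U ≅ evalAtId 𝒳 U ⋙ fiberFunctor F U :=
  NatIso.ofComponents (fun H => Iso.refl _) (by
    intro H H' α
    apply Functor.Fiber.hom_ext
    change (F.map (α.toNatTrans.app (Over.mk (𝟙 U)))) ≫ 𝟙 _ = 𝟙 _ ≫ F.map (α.toNatTrans.app (Over.mk (𝟙 U)))
    simp)


lemma isFibSetoid_of_isEquivOver {𝒳 : BasedCategory.{v₂, u₂} C} {𝒴 : BasedCategory.{v₃, u₃} C}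
    {G : 𝒳 ⥤ᵇ 𝒴} (hG : IsEquivOver G) (h𝒴 : IsFibSetoid 𝒴.p) : IsFibSetoid 𝒳.p := by
  have hfaith := faithful_of_isEquivOver hG
  refine ⟨(isFibGrpd_iff_of_isEquivOver hG).2 h𝒴.1, ?_⟩
  intro U a b
  constructor
  intro f g
  have hf : 𝒳.p.IsHomLift (𝟙 U) f.1 := f.2
  have hg : 𝒳.p.IsHomLift (𝟙 U) g.1 := g.2
  have hf' : 𝒴.p.IsHomLift (𝟙 U) (G.map f.1) := inferInstance
  have hg' : 𝒴.p.IsHomLift (𝟙 U) (G.map g.1) := inferInstance
  apply Subtype.ext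
  apply G.toFunctor.map_injective
  exact Groth.Agent.Lib.FibCat2_helper6.eq_of_isFibSetoid h𝒴 (U := U) _ _

theorem isFibSetoid_iff_of_isEquivOver {𝒳 : BasedCategory.{v₂, u₂} C}
    {𝒴 : BasedCategory.{v₃, u₃} C} {F : 𝒳 ⥤ᵇ 𝒴} (hF : IsEquivOver F) :
    IsFibSetoid 𝒳.p ↔ IsFibSetoid 𝒴.p := by
  obtain ⟨G, hG⟩ := isEquivOver_symm hF
  exact ⟨isFibSetoid_of_isEquivOver hG, isFibSetoid_of_isEquivOver hF⟩

end Groth.Agent.StkEquiv
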