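import Mathlib
import Groth.Prelude.Def_AlgSt
import Groth.Agent.Lib.StkEquiv_helper9
import Groth.Agent.Lib.FibCat14_helper6
import Groth.Agent.Lib.FibCat12_helper6

/-!
# The 2-fibre product of stacks is a stack
-/

set_option autoImplicit false

universe v₆ u₆ v₅ u₅ v₄ u₄ v₃ u₃ v₂ u₂ v u

open CategoryTheory FibCat

namespace Groth.Agent.StkFp

open Groth.Agent.StkEquiv
open Groth.Agent.Lib.FibCat_helper6 Groth.Agent.Lib.FibCat3_helper6 Groth.Agent.Lib.FibCat4_helper6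
  Groth.Agent.Lib.FibCat14_helper6 Groth.Agent.Lib.FibCat12_helper6

variable {C : Type u} [Category.{v} C] {𝒜 : BasedCategory.{v₅, u₅} C} {ℬ : BasedCategory.{v₆, u₆} C}
  {𝒳 : BasedCategory.{v₂, u₂} C} {𝒴 : BasedCategory.{v₃, u₃} C} {𝒮 : BasedCategory.{v₄, u₄} C}
  (ι : 𝒜 ⥤ᵇ ℬ) (F : 𝒳 ⥤ᵇ 𝒮) (G : 𝒴 ⥤ᵇ 𝒮)

lemma restr_fp_faithful [(Stk.restr ι 𝒳).Faithful] [(Stk.restr ι 𝒴).Faithful] :
    (Stk.restr ι (fp F G)).Faithful := by
  refine ⟨fun {H H'} α α' h => ?_⟩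
  have hx : ∀ x : 𝒜.obj, α.toNatTrans.app (ι.obj x) = α'.toNatTrans.app (ι.obj x) := fun x =>
    congrArg (fun t => t.toNatTrans.app x) h
  have h1 : (post ℬ (fpFst F G)).map α = (post ℬ (fpFst F G)).map α' := by
    apply (Stk.restr ι 𝒳).map_injective
    apply BasedNatTrans.homCategory.ext
    ext x
    change (α.toNatTrans.app (ι.obj x)).hom.fst = (α'.toNatTrans.app (ι.obj x)).hom.fst
    rw [hx]
  have h2 : (post ℬ (fpSnd F G)).map α = (post ℬ (fpSnd F G)).map α' := by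
    apply (Stk.restr ι 𝒴).map_injective
    apply BasedNatTrans.homCategory.ext
    ext x
    change (α.toNatTrans.app (ι.obj x)).hom.snd = (α'.toNatTrans.app (ι.obj x)).hom.snd
    rw [hx]
  apply BasedNatTrans.homCategory.ext
  ext b
  · exact congrArg (fun t => t.toNatTrans.app b) h1
  · exact congrArg (fun t => t.toNatTrans.app b) h2

lemma restr_fp_full [(Stk.restr ι 𝒳).Full] [(Stk.restr ι 𝒴).Full] [(Stk.restr ι 𝒮).Faithful] :
    (Stk.restr ι (fp F G)).Full := by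
  refine ⟨fun {H H'} β => ?_⟩
  let β₁ : (Stk.restr ι 𝒳).obj ((post ℬ (fpFst F G)).obj H) ⟶
      (Stk.restr ι 𝒳).obj ((post ℬ (fpFst F G)).obj H') := (post 𝒜 (fpFst F G)).map β
  let β₂ : (Stk.restr ι 𝒴).obj ((post ℬ (fpSnd F G)).obj H) ⟶
      (Stk.restr ι 𝒴).obj ((post ℬ (fpSnd F G)).obj H') := (post 𝒜 (fpSnd F G)).map β
  obtain ⟨α₁, hα₁⟩ := (Stk.restr ι 𝒳).map_surjective β₁
  obtain ⟨α₂, hα₂⟩ := (Stk.restr ι 𝒴).map_surjective β₂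
  have e1 : ∀ x : 𝒜.obj, α₁.toNatTrans.app (ι.obj x) = (β.toNatTrans.app x).hom.fst := fun x =>
    congrArg (fun t => t.toNatTrans.app x) hα₁
  have e2 : ∀ x : 𝒜.obj, α₂.toNatTrans.app (ι.obj x) = (β.toNatTrans.app x).hom.snd := fun x =>
    congrArg (fun t => t.toNatTrans.app x) hα₂
  let l : (post ℬ F).obj ((post ℬ (fpFst F G)).obj H) ⟶
      (post ℬ G).obj ((post ℬ (fpSnd F G)).obj H') :=
    (post ℬ F).map α₁ ≫ BasedCategory.whiskerLeft H' (fpIso F G).hom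
  let r : (post ℬ F).obj ((post ℬ (fpFst F G)).obj H) ⟶
      (post ℬ G).obj ((post ℬ (fpSnd F G)).obj H') :=
    BasedCategory.whiskerLeft H (fpIso F G).hom ≫ (post ℬ G).map α₂
  have hc : l = r := by
    apply (Stk.restr ι 𝒮).map_injective
    apply BasedNatTrans.homCategory.ext
    ext x
    change F.map (α₁.toNatTrans.app (ι.obj x)) ≫ (H'.obj (ι.obj x)).obj.iso.hom =
      (H.obj (ι.obj x)).obj.iso.hom ≫ G.map (α₂.toNatTrans.app (ι.obj x))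
    rw [e1, e2]
    exact (β.toNatTrans.app x).hom.w
  have hcb : ∀ b : ℬ.obj, F.map (α₁.toNatTrans.app b) ≫ (H'.obj b).obj.iso.hom =
      (H.obj b).obj.iso.hom ≫ G.map (α₂.toNatTrans.app b) := fun b =>
    congrArg (fun t => t.toNatTrans.app b) hc
  let α : H ⟶ H' :=
    { toNatTrans :=
        { app := fun b => fpHomMk (α₁.toNatTrans.app b) (α₂.toNatTrans.app b) (hcb b)
          naturality := fun b b' g => by
            apply fp_hom_ext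
            · exact α₁.toNatTrans.naturality g
            · exact α₂.toNatTrans.naturality g }
      isHomLift' := fun b => by
        apply fp_isHomLift_of_fst
        exact α₁.isHomLift' b }
  refine ⟨α, ?_⟩
  apply BasedNatTrans.homCategory.ext
  ext x
  · exact e1 x
  · exact e2 x


lemma cancel_aux {D : Type*} [Category D] {W X Y Z : D} (p : W ⟶ X) (θ : X ⟶ Y) (q : Y ⟶ Z)
    (q' : Z ⟶ Y) (h : q ≫ q' = 𝟙 Y) : p ≫ θ = (p ≫ θ ≫ q) ≫ q' := by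
  simp [h]

lemma restr_fp_essSurj [(Stk.restr ι 𝒳).EssSurj] [(Stk.restr ι 𝒴).EssSurj]
    [(Stk.restr ι 𝒮).Full] [(Stk.restr ι 𝒮).Faithful] :
    (Stk.restr ι (fp F G)).EssSurj := by
  refine ⟨fun K => ?_⟩
  let K₁ : 𝒜 ⥤ᵇ 𝒳 := (post 𝒜 (fpFst F G)).obj K
  let K₂ : 𝒜 ⥤ᵇ 𝒴 := (post 𝒜 (fpSnd F G)).obj K
  let a : ℬ ⥤ᵇ 𝒳 := (Stk.restr ι 𝒳).objPreimage K₁
  let b : ℬ ⥤ᵇ 𝒴 := (Stk.restr ι 𝒴).objPreimage K₂
  let e₁ : (Stk.restr ι 𝒳).obj a ≅ K₁ := (Stk.restr ι 𝒳).objObjPreimageIso K₁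
  let e₂ : (Stk.restr ι 𝒴).obj b ≅ K₂ := (Stk.restr ι 𝒴).objObjPreimageIso K₂
  let φ : (Stk.restr ι 𝒮).obj ((post ℬ F).obj a) ≅ (Stk.restr ι 𝒮).obj ((post ℬ G).obj b) :=
    (post 𝒜 F).mapIso e₁ ≪≫ whiskerLeftIso K (fpIso F G) ≪≫ ((post 𝒜 G).mapIso e₂).symm
  let e : (post ℬ F).obj a ≅ (post ℬ G).obj b := (Stk.restr ι 𝒮).preimageIso φ
  have he : ∀ x : 𝒜.obj, e.hom.toNatTrans.app (ι.obj x) =
      F.map (e₁.hom.toNatTrans.app x) ≫ (K.obj x).obj.iso.hom ≫ G.map (e₂.inv.toNatTrans.app x) := by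
    intro x
    have h : (Stk.restr ι 𝒮).map e.hom = φ.hom := Functor.map_preimage _ _
    exact congrArg (fun t => t.toNatTrans.app x) h
  have he₂ : ∀ x : 𝒜.obj, e₂.inv.toNatTrans.app x ≫ e₂.hom.toNatTrans.app x = 𝟙 _ := fun x =>
    congrArg (fun t => t.toNatTrans.app x) e₂.inv_hom_id
  let H : ℬ ⥤ᵇ fp F G := fpLift a b e
  refine ⟨H, ⟨?_⟩⟩
  have hw : ∀ x : 𝒜.obj, F.map (e₁.hom.toNatTrans.app x) ≫ (K.obj x).obj.iso.hom =
      e.hom.toNatTrans.app (ι.obj x) ≫ G.map (e₂.hom.toNatTrans.app x) := by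
    intro x
    have hq : G.map (e₂.inv.toNatTrans.app x) ≫ G.map (e₂.hom.toNatTrans.app x) = 𝟙 _ := by
      rw [← G.map_comp, he₂ x, G.map_id]
    exact (cancel_aux _ _ _ _ hq).trans (congrArg (· ≫ G.map (e₂.hom.toNatTrans.app x)) (he x).symm)
  refine BasedNatIso.mkNatIso (NatIso.ofComponents (fun x => ObjectProperty.isoMk _
    (CategoryTheory.Limits.CategoricalPullback.mkIso (appIso e₁ x) (appIso e₂ x) (hw x))) ?_) ?_
  · intro x x' g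
    apply fp_hom_ext
    · exact e₁.hom.toNatTrans.naturality g
    · exact e₂.hom.toNatTrans.naturality g
  · intro x
    apply fp_isHomLift_of_fst
    exact e₁.hom.isHomLift' x

theorem restr_fp_isEquivalence [(Stk.restr ι 𝒳).IsEquivalence] [(Stk.restr ι 𝒴).IsEquivalence]
    [(Stk.restr ι 𝒮).Full] [(Stk.restr ι 𝒮).Faithful] :
    (Stk.restr ι (fp F G)).IsEquivalence := by
  have := restr_fp_faithful ι F G
  have := restr_fp_full ι F G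
  have := restr_fp_essSurj ι F G
  exact { }

theorem isStack_fp (J : GrothendieckTopology C) (h𝒳 : Stk.IsStack J 𝒳) (h𝒴 : Stk.IsStack J 𝒴)
    (h𝒮 : Stk.IsPrestack J 𝒮) : Stk.IsStack J (fp F G) := by
  refine ⟨isFibGrpd_fp F G h𝒳.1 h𝒴.1 h𝒮.1, ?_⟩
  intro U R hR
  have h1 : (Stk.restr (Stk.sieveIncl R) 𝒳).IsEquivalence := h𝒳.2 R hR
  have h2 : (Stk.restr (Stk.sieveIncl R) 𝒴).IsEquivalence := h𝒴.2 R hR
  have h3 : (Stk.restr (Stk.sieveIncl R) 𝒮).Full := (h𝒮.2 R hR).1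
  have h4 : (Stk.restr (Stk.sieveIncl R) 𝒮).Faithful := (h𝒮.2 R hR).2
  exact restr_fp_isEquivalence (Stk.sieveIncl R) F G


theorem isFibSetoid_fp (h𝒳 : IsFibSetoid 𝒳.p) (h𝒴 : IsFibSetoid 𝒴.p) (h𝒮 : IsFibGrpd 𝒮.p) :
    IsFibSetoid (fp F G).p := by
  refine ⟨isFibGrpd_fp F G h𝒳.1 h𝒴.1 h𝒮, ?_⟩
  intro U a b
  constructor
  intro m m'
  have hm : (fp F G).p.IsHomLift (𝟙 U) m.1 := m.2
  have hm' : (fp F G).p.IsHomLift (𝟙 U) m'.1 := m'.2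
  have h1 : 𝒴.p.IsHomLift (𝟙 U) m.1.hom.snd := fp_isHomLift_snd' m.1 (𝟙 U)
  have h2 : 𝒴.p.IsHomLift (𝟙 U) m'.1.hom.snd := fp_isHomLift_snd' m'.1 (𝟙 U)
  have h3 : 𝒳.p.IsHomLift (𝟙 U) m.1.hom.fst := fp_isHomLift_fst m.1 (𝟙 U)
  have h4 : 𝒳.p.IsHomLift (𝟙 U) m'.1.hom.fst := fp_isHomLift_fst m'.1 (𝟙 U)
  have e2 : m.1.hom.snd = m'.1.hom.snd :=
    Groth.Agent.Lib.FibCat2_helper6.eq_of_isFibSetoid h𝒴 (U := U) _ _
  have e1 : m.1.hom.fst = m'.1.hom.fst :=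
    Groth.Agent.Lib.FibCat2_helper6.eq_of_isFibSetoid h𝒳 (U := U) _ _
  apply Subtype.ext
  exact fp_hom_ext e1 e2

end Groth.Agent.StkFp
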