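import Mathlib
import Groth.Prelude.Def_AlgSt
import Groth.Agent.Lib.FibCatYoneda_helper6

/-!
# The category over `C` of a presheaf is a stack iff the presheaf is a sheaf
-/

set_option autoImplicit false

universe w v₅ u₅ v u

open CategoryTheory FibCat Opposite

namespace Groth.Agent.StkPsh

open Groth.Agent.Lib.FibCatYoneda_helper6

variable {C : Type u} [Category.{v} C] {P : Cᵒᵖ ⥤ Type w}

section Sec

variable {𝒜 : BasedCategory.{v₅, u₅} C} (G G' : 𝒜 ⥤ᵇ Stk.ofPsh P)

lemma baseEq (a : 𝒜.obj) : (G.obj a).base = 𝒜.p.obj a := G.w_obj a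

/-- The section over `𝒜.p a` attached to `a` by a functor to `ofPsh P`. -/
def sec (a : 𝒜.obj) : P.obj (op (𝒜.p.obj a)) :=
  P.map (eqToHom (baseEq G a).symm).op (G.obj a).sec

lemma isHomLift_map {a b : 𝒜.obj} (f : a ⟶ b) :
    (Stk.EltObj.forget P).IsHomLift (𝒜.p.map f) (G.map f) :=
  BasedFunctor.preserves_isHomLift G (𝒜.p.map f) f

lemma map_hom {a b : 𝒜.obj} (f : a ⟶ b) :
    (G.map f).hom = eqToHom (baseEq G a) ≫ 𝒜.p.map f ≫ eqToHom (baseEq G b).symm :=
  haveI := isHomLift_map G f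
  IsHomLift.fac' (Stk.EltObj.forget P) (𝒜.p.map f) (G.map f)

lemma sec_map {a b : 𝒜.obj} (f : a ⟶ b) : P.map (𝒜.p.map f).op (sec G b) = sec G a := by
  unfold sec
  rw [← (G.map f).map_sec]
  simp only [← FunctorToTypes.map_comp_apply, ← op_comp]
  congr 2
  rw [map_hom G f]
  simp

variable {G G'}

lemma sec_eq_of_hom (α : G ⟶ G') (a : 𝒜.obj) : sec G a = sec G' a := by
  have hl : (Stk.ofPsh P).p.IsHomLift (𝟙 (𝒜.p.obj a)) (α.toNatTrans.app a) := α.isHomLift' a
  have hh : (α.toNatTrans.app a).hom =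
      eqToHom (baseEq G a) ≫ 𝟙 _ ≫ eqToHom (baseEq G' a).symm :=
    IsHomLift.fac' (Stk.ofPsh P).p (𝟙 (𝒜.p.obj a)) (α.toNatTrans.app a)
  unfold sec
  rw [← (α.toNatTrans.app a).map_sec]
  simp only [← FunctorToTypes.map_comp_apply, ← op_comp]
  congr 2
  rw [hh]
  simp

lemma hom_ext' (α β : G ⟶ G') : α = β := by
  apply BasedNatTrans.ext
  ext a
  have h1 : (α.toNatTrans.app a).hom =
      eqToHom (baseEq G a) ≫ 𝟙 _ ≫ eqToHom (baseEq G' a).symm :=
    haveI : (Stk.ofPsh P).p.IsHomLift (𝟙 (𝒜.p.obj a)) (α.toNatTrans.app a) := α.isHomLift' a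
    IsHomLift.fac' (Stk.ofPsh P).p (𝟙 (𝒜.p.obj a)) (α.toNatTrans.app a)
  have h2 : (β.toNatTrans.app a).hom =
      eqToHom (baseEq G a) ≫ 𝟙 _ ≫ eqToHom (baseEq G' a).symm :=
    haveI : (Stk.ofPsh P).p.IsHomLift (𝟙 (𝒜.p.obj a)) (β.toNatTrans.app a) := β.isHomLift' a
    IsHomLift.fac' (Stk.ofPsh P).p (𝟙 (𝒜.p.obj a)) (β.toNatTrans.app a)
  rw [h1, h2]

instance : Subsingleton (G ⟶ G') := ⟨hom_ext'⟩

/-- Construct a 2-morphism from equality of the attached sections. -/
def homOfSecEq (h : ∀ a, sec G a = sec G' a) : G ⟶ G' where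
  toNatTrans :=
    { app := fun a => ⟨eqToHom ((baseEq G a).trans (baseEq G' a).symm), by
        have := congrArg (P.map (eqToHom (baseEq G a)).op) (h a)
        unfold sec at this
        simp only [← FunctorToTypes.map_comp_apply, ← op_comp, eqToHom_trans, eqToHom_refl,
          op_id, FunctorToTypes.map_id_apply] at this
        exact this.symm⟩
      naturality := fun a b f => by
        apply Stk.EltObj.hom_ext
        simp only [Stk.EltObj.comp_hom]
        rw [map_hom G f, map_hom G' f]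
        simp }
  isHomLift' := fun a =>
    IsHomLift.of_fac' (Stk.EltObj.forget P) _ _ (baseEq G a) (baseEq G' a) (by
      rw [Category.id_comp, eqToHom_trans]
      rfl)

lemma nonempty_hom_iff : Nonempty (G ⟶ G') ↔ ∀ a, sec G a = sec G' a :=
  ⟨fun ⟨α⟩ => sec_eq_of_hom α, fun h => ⟨homOfSecEq h⟩⟩

lemma nonempty_iso_iff : Nonempty (G ≅ G') ↔ ∀ a, sec G a = sec G' a := by
  refine ⟨fun ⟨e⟩ => sec_eq_of_hom e.hom, fun h => ⟨?_⟩⟩
  exact
    { hom := homOfSecEq h
      inv := homOfSecEq fun a => (h a).symm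
      hom_inv_id := Subsingleton.elim _ _
      inv_hom_id := Subsingleton.elim _ _ }

end Sec

section OfFam

variable {𝒜 : BasedCategory.{v₅, u₅} C}

/-- The functor over `C` attached to a compatible family of sections. -/
def ofFam (s : ∀ a : 𝒜.obj, P.obj (op (𝒜.p.obj a)))
    (hs : ∀ {a b : 𝒜.obj} (f : a ⟶ b), P.map (𝒜.p.map f).op (s b) = s a) :
    𝒜 ⥤ᵇ Stk.ofPsh P where
  toFunctor :=
    { obj := fun a => ⟨𝒜.p.obj a, s a⟩
      map := fun f => ⟨𝒜.p.map f, hs f⟩
      map_id := fun a => Stk.EltObj.hom_ext (𝒜.p.map_id a)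
      map_comp := fun f g => Stk.EltObj.hom_ext (𝒜.p.map_comp f g) }
  w := rfl

lemma sec_ofFam (s : ∀ a : 𝒜.obj, P.obj (op (𝒜.p.obj a)))
    (hs : ∀ {a b : 𝒜.obj} (f : a ⟶ b), P.map (𝒜.p.map f).op (s b) = s a) (a : 𝒜.obj) :
    sec (ofFam s hs) a = s a := by
  unfold sec
  simp [ofFam]
  rfl

end OfFam


section Main

variable (P)

lemma ofSection_compat {U : C} (t : P.obj (op U)) {a b : (overCat U).obj} (f : a ⟶ b) :
    P.map ((overCat U).p.map f).op (P.map (Over.hom b).op t) = P.map (Over.hom a).op t := by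
  change P.map f.left.op (P.map b.hom.op t) = P.map a.hom.op t
  rw [← FunctorToTypes.map_comp_apply, ← op_comp, Over.w f]

/-- The functor `C/U ⟶ ofPsh P` attached to a section over `U`. -/
def ofSection {U : C} (t : P.obj (op U)) : overCat U ⥤ᵇ Stk.ofPsh P :=
  ofFam (𝒜 := overCat U) (fun b => P.map (Over.hom b).op t) (fun f => ofSection_compat P t f)

lemma sec_ofSection {U : C} (t : P.obj (op U)) (b : Over U) :
    sec (ofSection P t) b = P.map b.hom.op t :=
  sec_ofFam (𝒜 := overCat U) (fun b => P.map (Over.hom b).op t)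
    (fun f => ofSection_compat P t f) b

lemma sec_over {U : C} (G : overCat U ⥤ᵇ Stk.ofPsh P) (b : Over U) :
    sec G b = P.map b.hom.op (sec G (Over.mk (𝟙 U))) :=
  (sec_map G (toId U b)).symm

lemma sec_res {U : C} (R : Sieve U) (G : overCat U ⥤ᵇ Stk.ofPsh P)
    (a : (Stk.sieveCat R).obj) :
    sec ((Stk.resSieve R (Stk.ofPsh P)).obj G) a = sec G a.obj := rfl

lemma fam_congr {U : C} {R : Presieve U} (x : Presieve.FamilyOfElements P R) {Y : C}
    {f f' : Y ⟶ U} (h : f = f') (hf : R f) (hf' : R f') : x f hf = x f' hf' := by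
  subst h
  rfl

variable (J : GrothendieckTopology C)

theorem isSheafFor_of_isStackFor {U : C} (R : Sieve U)
    (heq : (Stk.resSieve R (Stk.ofPsh P)).IsEquivalence) : Presieve.IsSheafFor P R.arrows := by
  intro x hx
  have hxs : x.SieveCompatible := (Presieve.compatible_iff_sieveCompatible x).1 hx
  have huniq : ∀ t₁ t₂ : P.obj (op U), x.IsAmalgamation t₁ → x.IsAmalgamation t₂ → t₁ = t₂ := by
    intro t₁ t₂ h₁ h₂
    have hsec : ∀ a : (Stk.sieveCat R).obj,
        sec ((Stk.resSieve R (Stk.ofPsh P)).obj (ofSection P t₁)) a =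
          sec ((Stk.resSieve R (Stk.ofPsh P)).obj (ofSection P t₂)) a := by
      intro a
      rw [sec_res, sec_res, sec_ofSection, sec_ofSection]
      exact (h₁ a.obj.hom a.property).trans (h₂ a.obj.hom a.property).symm
    obtain ⟨α⟩ := nonempty_hom_iff.2 hsec
    let β : ofSection P t₁ ⟶ ofSection P t₂ := (Stk.resSieve R (Stk.ofPsh P)).preimage α
    have := sec_eq_of_hom β (Over.mk (𝟙 U))
    rw [sec_ofSection, sec_ofSection] at this
    have h' : P.map (𝟙 U).op t₁ = P.map (𝟙 U).op t₂ := this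
    simpa using h'
  let Z : Stk.sieveCat R ⥤ᵇ Stk.ofPsh P :=
    ofFam (𝒜 := Stk.sieveCat R) (fun a => x a.obj.hom a.property) (fun {a b} f => by
      have h1 := hxs b.obj.hom f.hom.left b.property
      have h2 : f.hom.left ≫ b.obj.hom = a.obj.hom := Over.w f.hom
      change P.map f.hom.left.op (x b.obj.hom b.property) = x a.obj.hom a.property
      rw [← h1]
      exact fam_congr P x h2 _ _)
  let H : overCat U ⥤ᵇ Stk.ofPsh P := (Stk.resSieve R (Stk.ofPsh P)).objPreimage Z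
  let e : (Stk.resSieve R (Stk.ofPsh P)).obj H ≅ Z :=
    (Stk.resSieve R (Stk.ofPsh P)).objObjPreimageIso Z
  refine ⟨sec H (Over.mk (𝟙 U)), ?_, fun t' ht' => ?_⟩
  · intro V f hf
    have h1 : sec H (Over.mk f) = P.map f.op (sec H (Over.mk (𝟙 U))) := sec_over P H (Over.mk f)
    have h2 : sec ((Stk.resSieve R (Stk.ofPsh P)).obj H) ⟨Over.mk f, hf⟩ = sec H (Over.mk f) :=
      sec_res P R H ⟨Over.mk f, hf⟩
    have h3 := sec_eq_of_hom e.hom ⟨Over.mk f, hf⟩
    have h4 : sec Z ⟨Over.mk f, hf⟩ = x f hf := sec_ofFam (𝒜 := Stk.sieveCat R) _ _ _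
    rw [← h1, ← h2, h3, h4]
  · refine huniq _ _ ht' ?_
    intro V f hf
    have h1 : sec H (Over.mk f) = P.map f.op (sec H (Over.mk (𝟙 U))) := sec_over P H (Over.mk f)
    have h2 : sec ((Stk.resSieve R (Stk.ofPsh P)).obj H) ⟨Over.mk f, hf⟩ = sec H (Over.mk f) :=
      sec_res P R H ⟨Over.mk f, hf⟩
    have h3 := sec_eq_of_hom e.hom ⟨Over.mk f, hf⟩
    have h4 : sec Z ⟨Over.mk f, hf⟩ = x f hf := sec_ofFam (𝒜 := Stk.sieveCat R) _ _ _
    rw [← h1, ← h2, h3, h4]

theorem isStackFor_of_isSheafFor {U : C} (R : Sieve U) (hsh : Presieve.IsSheafFor P R.arrows) :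
    (Stk.resSieve R (Stk.ofPsh P)).IsEquivalence := by
  have hfaith : (Stk.resSieve R (Stk.ofPsh P)).Faithful := ⟨fun _ => Subsingleton.elim _ _⟩
  have hfull : (Stk.resSieve R (Stk.ofPsh P)).Full := by
    refine ⟨fun {G G'} α => ?_⟩
    have h := sec_eq_of_hom α
    have ht : sec G (Over.mk (𝟙 U)) = sec G' (Over.mk (𝟙 U)) := by
      apply hsh.isSeparatedFor.ext
      intro V f hf
      have h1 : sec G (Over.mk f) = P.map f.op (sec G (Over.mk (𝟙 U))) :=
        sec_over P G (Over.mk f)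
      have h1' : sec G' (Over.mk f) = P.map f.op (sec G' (Over.mk (𝟙 U))) :=
        sec_over P G' (Over.mk f)
      rw [← h1, ← h1']
      exact h ⟨Over.mk f, hf⟩
    have hall : ∀ b : (overCat U).obj, sec G b = sec G' b := fun b => by
      rw [sec_over P G b, sec_over P G' b, ht]
    exact ⟨homOfSecEq hall, Subsingleton.elim _ _⟩
  have hess : (Stk.resSieve R (Stk.ofPsh P)).EssSurj := by
    refine ⟨fun Z => ?_⟩
    let x : Presieve.FamilyOfElements P R.arrows := fun V f hf => sec Z ⟨Over.mk f, hf⟩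
    have hx : x.Compatible := by
      rw [Presieve.compatible_iff_sieveCompatible]
      intro V W f g hf
      let m : (⟨Over.mk (g ≫ f), R.downward_closed hf g⟩ : (Stk.sieveCat R).obj) ⟶
          ⟨Over.mk f, hf⟩ := ObjectProperty.homMk (Over.homMk g rfl)
      exact (sec_map Z m).symm
    obtain ⟨t, ht, -⟩ := hsh x hx
    refine ⟨ofSection P t, nonempty_iso_iff.2 (fun a => ?_)⟩
    rw [sec_res, sec_ofSection]
    exact ht a.obj.hom a.property
  exact { }

theorem isStack_ofPsh_iff : Stk.IsStack J (Stk.ofPsh P) ↔ Presieve.IsSheaf J P := by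
  constructor
  · rintro ⟨-, hst⟩ U R hR
    exact isSheafFor_of_isStackFor P R (hst R hR)
  · intro hP
    exact ⟨Stk.isFibGrpd_ofPsh P, fun U R hR => isStackFor_of_isSheafFor P R (hP R hR)⟩

end Main

end Groth.Agent.StkPsh
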