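import Groth.Agent.Lib.AlgStLocal3_lead
import Groth.Agent.Lib.AlgStDiagIff_lead
import Groth.Agent.Lib.AlgStDiagRep3_lead
import Groth.Agent.Lib.StkFp_helper9
import Groth.Agent.Lib.StkPsh_helper9

/-!
# Stacks along morphisms representable by algebraic spaces; atlases (lead)

* If `j : 𝒳 ⟶ 𝒴` is such that restriction along `ι` is an equivalence for `𝒴` and for all the
  fibre products `ℬ ×_𝒴 𝒳`, then it is one for `𝒳`.
* A category fibred in groupoids with a morphism representable by algebraic spaces to a stack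
  (resp. an algebraic stack) is a stack (resp. an algebraic stack).
* Atlases: composition, algebraic spaces.
-/

set_option autoImplicit false

universe v₆ u₆ v₅ u₅ v₄ u₄ v₃ u₃ v₂ u₂ v₁ u₁ u

open CategoryTheory CategoryTheory.Limits AlgebraicGeometry Opposite FibCat Stk

namespace Groth.Agent.Lib.AlgStAtlas

open AlgSt Groth.Agent.Lib.FibCat_helper6 Groth.Agent.Lib.FibCat3_helper6
  Groth.Agent.Lib.FibCat14_helper6 Groth.Agent.Lib.FibCat12_helper6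
  Groth.Agent.Lib.FibCatPaste Groth.Agent.Lib.FibCatSwap
  Groth.Agent.Lib.FibCatIsoFun
  Groth.Agent.Lib.OfPshCalc Groth.Agent.Lib.AlgStBC
  Groth.Agent.Lib.AlgStEquiv Groth.Agent.Lib.AlgStEquivP Groth.Agent.Lib.AlgStEquivInv
  Groth.Agent.Lib.OfPshAlgSt Groth.Agent.Lib.LiftSqBC Groth.Agent.Lib.LiftSqComp
  Groth.Agent.Lib.OfPshWith Groth.Agent.Lib.FibCatDiagSec Groth.Agent.Lib.AlgStDiagRep
  Groth.Agent.Lib.FibCatDiagBC Groth.Agent.Lib.FibCatMagic Groth.Agent.Lib.FibCatProd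
  Groth.Agent.Lib.AlgStDiag Groth.Agent.Lib.AlgStLocal
  Groth.Agent.Lib.AlgSpQC_helper7 Groth.Agent.Lib.AlgSpDiag_helper7
  Groth.Agent.Lib.AlgSpPullback_helper7 Groth.Agent.Lib.AlgSpRepBySp_helper7
  Groth.Agent.Lib.AlgSpPoints_helper7 Groth.Agent.Lib.AlgSpLocP_helper7
  Groth.Agent.Lib.AlgSpBasic_helper7 Groth.Agent.Lib.AlgSpSep_helper7
  Groth.Agent.Lib.AlgSpLocP4_helper7 Groth.Agent.Lib.AlgSpLocP5_helper7
  Groth.Agent.Lib.AlgSpLocP7_helper7 Groth.Agent.Lib.AlgSpQC2_helper7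
  Groth.Agent.Lib.AlgSpLocP8_helper7 Groth.Agent.Lib.AlgSpLocP10_helper7
  Groth.Agent.Lib.AlgSpFpqc3_helper7 Groth.Agent.Lib.AlgSpLocP6_helper7
  Groth.Agent.Lib.AlgSpFpqc2_helper7 Groth.Agent.Lib.AlgSpFpqc_helper7
  Groth.Agent.Lib.AlgSpProper_helper7 Groth.Agent.Lib.AlgSpAffineMorH7
  Groth.Agent.StkEquiv Groth.Agent.StkFp

section generic

variable {C : Type u₁} [Category.{v₁} C]

section natmk

variable {𝒲 : BasedCategory.{v₅, u₅} C} {𝒳₁ : BasedCategory.{v₂, u₂} C}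
  {𝒳₂ : BasedCategory.{v₃, u₃} C} {𝒮 : BasedCategory.{v₄, u₄} C} {F₁ : 𝒳₁ ⥤ᵇ 𝒮} {F₂ : 𝒳₂ ⥤ᵇ 𝒮}

/-- A 2-morphism between functors into a 2-fibre product, from its components. -/
def fpNatMk {H H' : 𝒲 ⥤ᵇ fp F₁ F₂}
    (a : ∀ w : 𝒲.obj, (H.toFunctor.obj w).obj.fst ⟶ (H'.toFunctor.obj w).obj.fst)
    (b : ∀ w : 𝒲.obj, (H.toFunctor.obj w).obj.snd ⟶ (H'.toFunctor.obj w).obj.snd)
    (hw : ∀ w, F₁.toFunctor.map (a w) ≫ (H'.toFunctor.obj w).obj.iso.hom =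
      (H.toFunctor.obj w).obj.iso.hom ≫ F₂.toFunctor.map (b w))
    (na : ∀ {w w' : 𝒲.obj} (g : w ⟶ w'),
      (H.toFunctor.map g).hom.fst ≫ a w' = a w ≫ (H'.toFunctor.map g).hom.fst)
    (nb : ∀ {w w' : 𝒲.obj} (g : w ⟶ w'),
      (H.toFunctor.map g).hom.snd ≫ b w' = b w ≫ (H'.toFunctor.map g).hom.snd)
    (hl : ∀ w, 𝒳₁.p.IsHomLift (𝟙 (𝒲.p.obj w)) (a w)) : H ⟶ H' where
  toNatTrans :=
    { app := fun w => fpHomMk (a w) (b w) (hw w)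
      naturality := fun w w' g => by
        apply fp_hom_ext
        · exact na g
        · exact nb g }
  isHomLift' := fun w => by
    apply fp_isHomLift_of_fst
    exact hl w

end natmk

variable {𝒜 : BasedCategory.{v₅, u₅} C} {ℬ : BasedCategory.{v₆, u₆} C}
  {𝒳 : BasedCategory.{v₂, u₂} C} {𝒴 : BasedCategory.{v₃, u₃} C}

/-- Every 2-morphism between functors to a category fibred in groupoids is invertible. -/
theorem isIso_basedNatTrans (h𝒴 : IsFibGrpd 𝒴.p) {F G : ℬ ⥤ᵇ 𝒴} (γ : F ⟶ G) : IsIso γ := by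
  haveI : ∀ b, IsIso (γ.toNatTrans.app b) := fun b =>
    haveI := γ.isHomLift' b
    isIso_of_isFibGrpd_id h𝒴 (R := ℬ.p.obj b) (γ.toNatTrans.app b)
  haveI : IsIso (X := F.toFunctor) γ.toNatTrans := NatIso.isIso_of_isIso_app _
  exact BasedNatIso.isIso_of_toNatTrans_isIso γ

variable (ι : 𝒜 ⥤ᵇ ℬ) (j : 𝒳 ⥤ᵇ 𝒴)

theorem restr_essSurj_of_rep [(Stk.restr ι 𝒴).EssSurj]
    (h : ∀ G : ℬ ⥤ᵇ 𝒴, (Stk.restr ι (fp G j)).EssSurj) : (Stk.restr ι 𝒳).EssSurj := by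
  refine ⟨fun K => ?_⟩
  let G : ℬ ⥤ᵇ 𝒴 := (Stk.restr ι 𝒴).objPreimage (BasedFunctor.comp K j)
  let e : BasedFunctor.comp ι G ≅ BasedFunctor.comp K j :=
    (Stk.restr ι 𝒴).objObjPreimageIso (BasedFunctor.comp K j)
  let L : 𝒜 ⥤ᵇ fp G j := fpLift ι K e
  haveI := h G
  let H : ℬ ⥤ᵇ fp G j := (Stk.restr ι (fp G j)).objPreimage L
  let ε : BasedFunctor.comp ι H ≅ L := (Stk.restr ι (fp G j)).objObjPreimageIso L
  refine ⟨BasedFunctor.comp H (fpSnd G j), ⟨?_⟩⟩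
  exact Groth.Agent.Lib.LiftSqComp.whiskerRightIso ε (fpSnd G j)

theorem restr_full_of_rep (h𝒴 : IsFibGrpd 𝒴.p) [(Stk.restr ι 𝒴).Full]
    (h : ∀ G : ℬ ⥤ᵇ 𝒴, (Stk.restr ι (fp G j)).Full) : (Stk.restr ι 𝒳).Full := by
  refine ⟨fun {H₁ H₂} α => ?_⟩
  let γ₀ : (Stk.restr ι 𝒴).obj ((post ℬ j).obj H₁) ⟶ (Stk.restr ι 𝒴).obj ((post ℬ j).obj H₂) :=
    (post 𝒜 j).map α
  obtain ⟨γ, hγ⟩ := (Stk.restr ι 𝒴).map_surjective γ₀
  have hγx : ∀ x : 𝒜.obj, γ.toNatTrans.app (ι.toFunctor.obj x) =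
      j.toFunctor.map (α.toNatTrans.app x) := fun x =>
    congrArg (fun t => t.toNatTrans.app x) hγ
  haveI : IsIso γ := isIso_basedNatTrans h𝒴 γ
  have hinv : ∀ b : ℬ.obj, (inv γ).toNatTrans.app b ≫ γ.toNatTrans.app b = 𝟙 _ := fun b =>
    congrArg (fun t => t.toNatTrans.app b) (IsIso.inv_hom_id γ)
  let G : ℬ ⥤ᵇ 𝒴 := BasedFunctor.comp H₂ j
  let M₂ : ℬ ⥤ᵇ fp G j := fpLift (BasedFunctor.id ℬ) H₂ (Iso.refl _)
  let M₁ : ℬ ⥤ᵇ fp G j := fpLift (BasedFunctor.id ℬ) H₁ (asIso γ).symm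
  let μ₀ : (Stk.restr ι (fp G j)).obj M₁ ⟶ (Stk.restr ι (fp G j)).obj M₂ :=
    fpNatMk (H := BasedFunctor.comp ι M₁) (H' := BasedFunctor.comp ι M₂)
      (fun x => 𝟙 (ι.toFunctor.obj x)) (fun x => α.toNatTrans.app x)
      (fun x => by
        show G.toFunctor.map (𝟙 (ι.toFunctor.obj x)) ≫ 𝟙 _ =
          (inv γ).toNatTrans.app (ι.toFunctor.obj x) ≫ j.toFunctor.map (α.toNatTrans.app x)
        rw [G.toFunctor.map_id, Category.comp_id]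
        exact ((congrArg (fun t => (inv γ).toNatTrans.app (ι.toFunctor.obj x) ≫ t)
          (hγx x).symm).trans (hinv (ι.toFunctor.obj x))).symm)
      (fun g => (Category.comp_id _).trans (Category.id_comp _).symm)
      (fun g => α.toNatTrans.naturality g)
      (fun x => IsHomLift.id (ι.w_obj x))
  haveI := h G
  obtain ⟨μ, hμ⟩ := (Stk.restr ι (fp G j)).map_surjective μ₀
  let β : H₁ ⟶ H₂ := (post ℬ (fpSnd G j)).map μ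
  refine ⟨β, ?_⟩
  apply BasedNatTrans.homCategory.ext
  apply NatTrans.ext
  funext x
  exact congrArg (fun t => (t.toNatTrans.app x).hom.snd) hμ

theorem restr_faithful_of_rep (h𝒴 : IsFibGrpd 𝒴.p) [(Stk.restr ι 𝒴).Faithful]
    (h : ∀ G : ℬ ⥤ᵇ 𝒴, (Stk.restr ι (fp G j)).Faithful) : (Stk.restr ι 𝒳).Faithful := by
  refine ⟨fun {H₁ H₂} β₁ β₂ hβ => ?_⟩
  have hx : ∀ x : 𝒜.obj, β₁.toNatTrans.app (ι.toFunctor.obj x) =
      β₂.toNatTrans.app (ι.toFunctor.obj x) := fun x =>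
    congrArg (fun t => t.toNatTrans.app x) hβ
  have hγ : (post ℬ j).map β₁ = (post ℬ j).map β₂ := by
    apply (Stk.restr ι 𝒴).map_injective
    apply BasedNatTrans.homCategory.ext
    apply NatTrans.ext
    funext x
    show j.toFunctor.map (β₁.toNatTrans.app (ι.toFunctor.obj x)) =
      j.toFunctor.map (β₂.toNatTrans.app (ι.toFunctor.obj x))
    rw [hx]
  have hγb : ∀ b : ℬ.obj, j.toFunctor.map (β₁.toNatTrans.app b) =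
      j.toFunctor.map (β₂.toNatTrans.app b) := fun b =>
    congrArg (fun t => t.toNatTrans.app b) hγ
  let γ : BasedFunctor.comp H₁ j ⟶ BasedFunctor.comp H₂ j := (post ℬ j).map β₁
  haveI : IsIso γ := isIso_basedNatTrans h𝒴 γ
  have hinv : ∀ b : ℬ.obj, (inv γ).toNatTrans.app b ≫ j.toFunctor.map (β₁.toNatTrans.app b) =
      𝟙 _ := fun b =>
    congrArg (fun t => t.toNatTrans.app b) (IsIso.inv_hom_id γ)
  let G : ℬ ⥤ᵇ 𝒴 := BasedFunctor.comp H₂ j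
  let M₂ : ℬ ⥤ᵇ fp G j := fpLift (BasedFunctor.id ℬ) H₂ (Iso.refl _)
  let M₁ : ℬ ⥤ᵇ fp G j := fpLift (BasedFunctor.id ℬ) H₁ (asIso γ).symm
  let ν : ∀ β : H₁ ⟶ H₂, (∀ b : ℬ.obj, j.toFunctor.map (β.toNatTrans.app b) =
      j.toFunctor.map (β₁.toNatTrans.app b)) → (M₁ ⟶ M₂) :=
    fun β hβ' => fpNatMk (H := M₁) (H' := M₂) (fun b => 𝟙 b) (fun b => β.toNatTrans.app b)
      (fun b => by
        show G.toFunctor.map (𝟙 b) ≫ 𝟙 _ =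
          (inv γ).toNatTrans.app b ≫ j.toFunctor.map (β.toNatTrans.app b)
        rw [G.toFunctor.map_id, Category.comp_id, hβ' b]
        exact (hinv b).symm)
      (fun g => (Category.comp_id _).trans (Category.id_comp _).symm)
      (fun g => β.toNatTrans.naturality g)
      (fun b => IsHomLift.id rfl)
  have key : ν β₁ (fun _ => rfl) = ν β₂ (fun b => (hγb b).symm) := by
    haveI := h G
    apply (Stk.restr ι (fp G j)).map_injective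
    apply BasedNatTrans.homCategory.ext
    apply NatTrans.ext
    funext x
    apply fp_hom_ext
    · rfl
    · exact hx x
  apply BasedNatTrans.homCategory.ext
  apply NatTrans.ext
  funext b
  exact congrArg (fun t => (t.toNatTrans.app b).hom.snd) key

theorem restr_isEquivalence_of_rep (h𝒴 : IsFibGrpd 𝒴.p) [(Stk.restr ι 𝒴).IsEquivalence]
    (h : ∀ G : ℬ ⥤ᵇ 𝒴, (Stk.restr ι (fp G j)).IsEquivalence) :
    (Stk.restr ι 𝒳).IsEquivalence := by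
  have := restr_faithful_of_rep ι j h𝒴 (fun G => (h G).faithful)
  have := restr_full_of_rep ι j h𝒴 (fun G => (h G).full)
  have := restr_essSurj_of_rep ι j (fun G => (h G).essSurj)
  exact { }

end generic

section algst

variable {S : Scheme.{u}} {𝒳 𝒴 𝒵 : AlgSt.Cat S}

/-- A category fibred in groupoids with a morphism representable by algebraic spaces to a stack
is a stack. -/
theorem isStack_of_repByAlgSp1 (h𝒳 : IsFibGrpd 𝒳.p) (h𝒴 : Stk.IsStack (AlgSp.J S) 𝒴)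
    (j : 𝒳 ⥤ᵇ 𝒴) (hj : AlgSt.RepByAlgSp1 j) : Stk.IsStack (AlgSp.J S) 𝒳 := by
  refine ⟨h𝒳, fun U R hR => ?_⟩
  haveI h1 : (Stk.restr (Stk.sieveIncl R) 𝒴).IsEquivalence := h𝒴.2 R hR
  have h2 : ∀ G : FibCat.overCat U ⥤ᵇ 𝒴,
      (Stk.restr (Stk.sieveIncl R) (fp G j)).IsEquivalence := by
    intro G
    obtain ⟨F, e, he⟩ := hj U G
    have h3 : Stk.IsStackFor R (AlgSt.ofSp F.obj) :=
      Groth.Agent.StkPsh.isStackFor_of_isSheafFor F.obj.obj R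
        ((isSheaf_iff_isSheaf_of_type _ _).1 F.obj.property R hR)
    exact (Groth.Agent.StkEquiv.isStackFor_iff he R).1 h3
  exact restr_isEquivalence_of_rep (Stk.sieveIncl R) j h𝒴.1 h2

theorem isStack_ofSp (F : AlgSp.Sp S) : Stk.IsStack (AlgSp.J S) (AlgSt.ofSp F) :=
  (Groth.Agent.StkPsh.isStack_ofPsh_iff F.obj (AlgSp.J S)).2
    ((isSheaf_iff_isSheaf_of_type _ _).1 F.property)

theorem comp_locP_smooth : ∀ ⦃X Y Z : AlgSp.Sp S⦄, AlgSp.IsAlgSpace X → AlgSp.IsAlgSpace Y →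
    AlgSp.IsAlgSpace Z → ∀ (a : X ⟶ Y) (b : Y ⟶ Z), AlgSp.LocP @Smooth a → AlgSp.LocP @Smooth b →
    AlgSp.LocP @Smooth (a ≫ b) :=
  fun _ _ _ hX hY hZ a b ha hb => locP_comp etLocal_smooth hX hY hZ a b ha hb

theorem comp_isEtaleMor : ∀ ⦃X Y Z : AlgSp.Sp S⦄, AlgSp.IsAlgSpace X → AlgSp.IsAlgSpace Y →
    AlgSp.IsAlgSpace Z → ∀ (a : X ⟶ Y) (b : Y ⟶ Z), AlgSp.IsEtaleMor a → AlgSp.IsEtaleMor b →
    AlgSp.IsEtaleMor (a ≫ b) := fun X Y Z hX hY hZ a b ha hb => by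
  rw [isEtaleMor_iff_locP hZ]
  rw [isEtaleMor_iff_locP hY] at ha
  rw [isEtaleMor_iff_locP hZ] at hb
  exact locP_comp etLocal_etale hX hY hZ a b ha hb

theorem comp_isSurjectiveMor : ∀ ⦃X Y Z : AlgSp.Sp S⦄, AlgSp.IsAlgSpace X → AlgSp.IsAlgSpace Y →
    AlgSp.IsAlgSpace Z → ∀ (a : X ⟶ Y) (b : Y ⟶ Z), AlgSp.IsSurjectiveMor a →
    AlgSp.IsSurjectiveMor b → AlgSp.IsSurjectiveMor (a ≫ b) :=
  fun _ _ _ _ _ _ a b ha hb => isSurjectiveMor_comp a b ha hb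

theorem bc_isEtaleMor : ∀ ⦃X₁ Y₁ X₂ Y₂ : AlgSp.Sp S⦄, AlgSp.IsAlgSpace X₁ → AlgSp.IsAlgSpace Y₁ →
    AlgSp.IsAlgSpace X₂ → AlgSp.IsAlgSpace Y₂ →
    ∀ (a : X₁ ⟶ Y₁) (b : Y₂ ⟶ Y₁) (a' : X₂ ⟶ Y₂) (b' : X₂ ⟶ X₁),
    IsPullback b' a' a b → AlgSp.IsEtaleMor a → AlgSp.IsEtaleMor a' :=
  fun _ _ _ _ hX₁ hY₁ hX₂ hY₂ a b a' b' sq ha => by
    rw [isEtaleMor_iff_locP hY₂]
    rw [isEtaleMor_iff_locP hY₁] at ha
    exact bc_locP @Etale etLocal_etale hX₁ hY₁ hX₂ hY₂ a b a' b' sq ha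

theorem bc_isSurjectiveMor : ∀ ⦃X₁ Y₁ X₂ Y₂ : AlgSp.Sp S⦄, AlgSp.IsAlgSpace X₁ →
    AlgSp.IsAlgSpace Y₁ → AlgSp.IsAlgSpace X₂ → AlgSp.IsAlgSpace Y₂ →
    ∀ (a : X₁ ⟶ Y₁) (b : Y₂ ⟶ Y₁) (a' : X₂ ⟶ Y₂) (b' : X₂ ⟶ X₁),
    IsPullback b' a' a b → AlgSp.IsSurjectiveMor a → AlgSp.IsSurjectiveMor a' :=
  fun _ _ _ _ _ _ _ _ _ _ _ _ sq ha => isSurjectiveMor_of_isPullback sq ha

/-- Atlases compose with surjective morphisms having the same property. -/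
theorem hasAtlas_comp (Q : MorphismProperty (AlgSp.Sp S)) (hI : IsoInv Q) (hL : SchemeTestable Q)
    (hQc : ∀ ⦃X Y Z : AlgSp.Sp S⦄, AlgSp.IsAlgSpace X → AlgSp.IsAlgSpace Y → AlgSp.IsAlgSpace Z →
      ∀ (a : X ⟶ Y) (b : Y ⟶ Z), Q a → Q b → Q (a ≫ b))
    {𝒜 𝒲 : AlgSt.Cat S} (h𝒜 : IsFibGrpd 𝒜.p) (m : 𝒜 ⥤ᵇ 𝒲) (hm₁ : AlgSt.RepByAlgSpWith Q m)
    (hm₂ : AlgSt.RepByAlgSpWith AlgSp.IsSurjectiveMor m) (h : AlgSt.HasAtlas Q 𝒜) :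
    AlgSt.HasAtlas Q 𝒲 := by
  obtain ⟨U, x, hx₁, hx₂⟩ := h
  have hU : IsFibGrpd (FibCat.overCat U).p := isFibGrpd_over_forget U
  exact ⟨U, BasedFunctor.comp x m, repWith_comp' hU h𝒜 Q hI hL hQc x m hx₁ hm₁,
    repWith_comp' hU h𝒜 _ isoInv_isSurjectiveMor schemeTestable_isSurjectiveMor
      comp_isSurjectiveMor x m hx₂ hm₂⟩

theorem hasAtlas_smooth_comp {𝒜 𝒲 : AlgSt.Cat S} (h𝒜 : IsFibGrpd 𝒜.p) (m : 𝒜 ⥤ᵇ 𝒲)
    (hm₁ : AlgSt.RepByAlgSpWith (AlgSp.LocP @Smooth) m)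
    (hm₂ : AlgSt.RepByAlgSpWith AlgSp.IsSurjectiveMor m)
    (h : AlgSt.HasAtlas (AlgSp.LocP @Smooth) 𝒜) : AlgSt.HasAtlas (AlgSp.LocP @Smooth) 𝒲 :=
  hasAtlas_comp _ (isoInv_locP _ etLocal_smooth) (schemeTestable_locP _) comp_locP_smooth h𝒜 m
    hm₁ hm₂ h

theorem hasAtlas_etale_comp {𝒜 𝒲 : AlgSt.Cat S} (h𝒜 : IsFibGrpd 𝒜.p) (m : 𝒜 ⥤ᵇ 𝒲)
    (hm₁ : AlgSt.RepByAlgSpWith AlgSp.IsEtaleMor m)
    (hm₂ : AlgSt.RepByAlgSpWith AlgSp.IsSurjectiveMor m)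
    (h : AlgSt.HasAtlas AlgSp.IsEtaleMor 𝒜) : AlgSt.HasAtlas AlgSp.IsEtaleMor 𝒲 :=
  hasAtlas_comp _ isoInv_isEtaleMor schemeTestable_isEtaleMor comp_isEtaleMor h𝒜 m hm₁ hm₂ h

/-- The category of an algebraic space has an étale (hence smooth) surjective atlas. -/
theorem hasAtlas_ofSp (F : AlgSp.Space S) :
    AlgSt.HasAtlas AlgSp.IsEtaleMor (AlgSt.ofSp F.obj) ∧
      AlgSt.HasAtlas (AlgSp.LocP @Smooth) (AlgSt.ofSp F.obj) := by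
  obtain ⟨U, p, hpe, hps⟩ := F.property.atlas
  have hU := AlgSp.IsAlgSpace.yon_obj U
  have hsurj : AlgSp.IsSurjectiveMor p := isSurjectiveMor_of_repWith p hps
  have het : AlgSp.LocP @Etale p := locP_of_repWith @Etale (fun _ _ _ hg => hg) p hpe
  have hsm : AlgSp.LocP @Smooth p :=
    locP_mono (fun _ _ g (hg : Etale g) => (inferInstance : Smooth g)) p het
  have hEt : AlgSp.IsEtaleMor p := (isEtaleMor_iff_locP F.property p).2 het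
  let x : FibCat.overCat U ⥤ᵇ AlgSt.ofSp F.obj :=
    BasedFunctor.comp (AlgSt.ofOverCat U) (AlgSt.ofSpMap p)
  have mk : ∀ (Q : MorphismProperty (AlgSp.Sp S)),
      (∀ ⦃X₁ Y₁ X₂ Y₂ : AlgSp.Sp S⦄, AlgSp.IsAlgSpace X₁ → AlgSp.IsAlgSpace Y₁ →
        AlgSp.IsAlgSpace X₂ → AlgSp.IsAlgSpace Y₂ →
        ∀ (a : X₁ ⟶ Y₁) (b : Y₂ ⟶ Y₁) (a' : X₂ ⟶ Y₂) (b' : X₂ ⟶ X₁),
        IsPullback b' a' a b → Q a → Q a') → Q p → AlgSt.RepByAlgSpWith Q x :=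
    fun Q hQb hQp =>
      repWith_precomp_equiv Q (AlgSt.ofOverCat U) (ofOverCat_isEquivOver U) (AlgSt.ofSpMap p)
        (repByAlgSpWith_of_repBySpWith Q p.hom (repBySpWith_of_bc Q hQb hU F.property p hQp))
  have s := mk _ bc_isSurjectiveMor hsurj
  exact ⟨⟨U, x, mk _ bc_isEtaleMor hEt, s⟩, ⟨U, x, mk _ (bc_locP @Smooth etLocal_smooth) hsm, s⟩⟩

theorem hasAtlas_of_repByAlgSp {𝒜 : AlgSt.Cat S} (h : AlgSt.RepByAlgSp 𝒜) :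
    AlgSt.HasAtlas AlgSp.IsEtaleMor 𝒜 ∧ AlgSt.HasAtlas (AlgSp.LocP @Smooth) 𝒜 := by
  obtain ⟨F, e, he⟩ := h
  exact ⟨hasAtlas_of_equiv _ e he (hasAtlas_ofSp F).1, hasAtlas_of_equiv _ e he (hasAtlas_ofSp F).2⟩

/-- The diagonal of a composite: `Δ_{g ∘ f}` has `P` as soon as `Δ_f` and `Δ_g` have. -/
theorem repWith_diag_comp (h𝒳 : IsFibGrpd 𝒳.p) (h𝒴 : IsFibGrpd 𝒴.p)
    (P : MorphismProperty (AlgSp.Sp S)) (hI : IsoInv P) (hL : SchemeTestable P)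
    (hPc : ∀ ⦃X Y Z : AlgSp.Sp S⦄, AlgSp.IsAlgSpace X → AlgSp.IsAlgSpace Y → AlgSp.IsAlgSpace Z →
      ∀ (a : X ⟶ Y) (b : Y ⟶ Z), P a → P b → P (a ≫ b))
    (f : 𝒳 ⥤ᵇ 𝒴) (g : 𝒴 ⥤ᵇ 𝒵) (hf : AlgSt.RepByAlgSpWith P (FibCat.diag f))
    (hg : AlgSt.RepByAlgSpWith P (FibCat.diag g)) :
    AlgSt.RepByAlgSpWith P (FibCat.diag (BasedFunctor.comp f g)) :=
  repWith_of_iso P (diagCompIso f g)
    (repWith_comp' h𝒳 (isFibGrpd_fp f f h𝒳 h𝒳 h𝒴) P hI hL hPc (FibCat.diag f) (relJ f g) hf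
      (repWith_relJ f g P hg))

/-- The diagonal over the base of the source of a morphism representable by algebraic spaces. -/
theorem repByAlgSp1_diag_toSelf_of_rep (h𝒳 : IsFibGrpd 𝒳.p) (h𝒴 : IsFibGrpd 𝒴.p)
    (j : 𝒳 ⥤ᵇ 𝒴) (hj : AlgSt.RepByAlgSp1 j)
    (hΔ : AlgSt.RepByAlgSp1 (FibCat.diag (toSelf 𝒴))) :
    AlgSt.RepByAlgSp1 (FibCat.diag (toSelf 𝒳)) := by
  have hΔj : AlgSt.RepByAlgSpWith ⊤ (FibCat.diag j) :=
    repWith_mono' (fun _ _ _ _ _ => trivial) _ (repWith_diag_std j hj)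
  have hΔ𝒴 : AlgSt.RepByAlgSpWith ⊤ (FibCat.diag (toSelf 𝒴)) := (repByAlgSp1_iff_top _).1 hΔ
  have h3 := repWith_diag_comp h𝒳 h𝒴 ⊤ isoInv_top schemeTestable_top
    (fun _ _ _ _ _ _ _ _ _ _ => trivial) j (toSelf 𝒴) hΔj hΔ𝒴
  rw [comp_toSelf_eq j] at h3
  exact (repByAlgSp1_iff_top _).2 h3

/-- A category fibred in groupoids with a morphism representable by algebraic spaces to an
algebraic stack is an algebraic stack. -/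
theorem isAlgStack_of_repByAlgSp1 (h𝒳 : IsFibGrpd 𝒳.p)
    (h𝒴 : AlgSt.IsAlgStack Scheme.fppfPrecoverage 𝒴) (j : 𝒳 ⥤ᵇ 𝒴) (hj : AlgSt.RepByAlgSp1 j) :
    AlgSt.IsAlgStack Scheme.fppfPrecoverage 𝒳 := by
  refine ⟨isStack_of_repByAlgSp1 h𝒳 h𝒴.isStack j hj,
    repByAlgSp1_diag_toSelf_of_rep h𝒳 h𝒴.isStack.1 j hj h𝒴.diag, ?_⟩
  obtain ⟨V, v, hv₁, hv₂⟩ := h𝒴.atlas
  have hfp : IsFibGrpd (fp v j).p :=
    isFibGrpd_fp v j (isFibGrpd_over_forget V) h𝒳 h𝒴.isStack.1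
  exact hasAtlas_smooth_comp hfp (fpSnd v j) (repWith_fpSnd _ v j hv₁) (repWith_fpSnd _ v j hv₂)
    (hasAtlas_of_repByAlgSp (hj V v)).2

/-- A category representable by an algebraic space is a Deligne–Mumford stack. -/
theorem isDM_of_repByAlgSp (h𝒳 : IsFibGrpd 𝒳.p) (hr : AlgSt.RepByAlgSp 𝒳) :
    AlgSt.IsDM Scheme.fppfPrecoverage 𝒳 := by
  have hdiag : AlgSt.RepByAlgSp1 (FibCat.diag (toSelf 𝒳)) :=
    (repByAlgSp1_diag_iff h𝒳).2 (fun U x => repByAlgSp1_of_repByAlgSp (repByAlgSp_overCat U) hr x)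
  have hat := hasAtlas_of_repByAlgSp hr
  obtain ⟨F, e, he⟩ := hr
  have hst : Stk.IsStack (AlgSp.J S) 𝒳 :=
    (Groth.Agent.StkEquiv.isStack_iff _ he).1 (isStack_ofSp F.obj)
  exact ⟨⟨hst, hdiag, hat.2⟩, hat.1⟩

end algst

end Groth.Agent.Lib.AlgStAtlas
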