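import Groth.Agent.Lib.FibCatPaste_lead

/-!
# The swap equivalence of 2-fibre products (lead)
-/

set_option autoImplicit false

universe v₆ u₆ v₅ u₅ v₄ u₄ v₃ u₃ v₂ u₂ v u

open CategoryTheory CategoryTheory.Limits FibCat

namespace Groth.Agent.Lib.FibCatSwap

open Groth.Agent.Lib.FibCat_helper6 Groth.Agent.Lib.FibCat3_helper6
  Groth.Agent.Lib.FibCat14_helper6 Groth.Agent.Lib.LiftSqBC Groth.Agent.Lib.FibCatPaste

variable {C : Type u} [Category.{v} C]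
  {𝒳 : BasedCategory.{v₂, u₂} C} {𝒴 : BasedCategory.{v₃, u₃} C}
  {𝒮 : BasedCategory.{v₄, u₄} C} (F : 𝒳 ⥤ᵇ 𝒮) (G : 𝒴 ⥤ᵇ 𝒮)

/-- `(x, y, θ) ↦ (y, x, θ⁻¹)`. -/
def swap : fp F G ⥤ᵇ fp G F := fpLift (fpSnd F G) (fpFst F G) (fpIso F G).symm

theorem swap_comp_fpFst : BasedFunctor.comp (swap F G) (fpFst G F) = fpSnd F G := rfl

theorem swap_comp_fpSnd : BasedFunctor.comp (swap F G) (fpSnd G F) = fpFst F G := rfl

def swapSwapIso : BasedFunctor.comp (swap F G) (swap G F) ≅ BasedFunctor.id (fp F G) :=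
  isoMk2 F G (H := BasedFunctor.comp (swap F G) (swap G F)) (K := BasedFunctor.id (fp F G))
    (Iso.refl (fpFst F G)) (Iso.refl (fpSnd F G)) (fun t => by
      show F.toFunctor.map (𝟙 _) ≫ t.obj.iso.hom = t.obj.iso.hom ≫ G.toFunctor.map (𝟙 _)
      simp)

theorem swap_isEquivOver : IsEquivOver (swap F G) :=
  ⟨swap G F, ⟨swapSwapIso F G⟩, ⟨swapSwapIso G F⟩⟩

end Groth.Agent.Lib.FibCatSwap
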