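import Groth.Agent.Lib.AlgStBC_lead
import Groth.Agent.Lib.FibCatSwap_lead

/-!
# More base change lemmas for `RepByAlgSpWith` (lead)
-/

set_option autoImplicit false

universe u

open CategoryTheory CategoryTheory.Limits AlgebraicGeometry Opposite FibCat

namespace Groth.Agent.Lib.AlgStBC2

open AlgSt Groth.Agent.Lib.AlgStBC Groth.Agent.Lib.FibCatSwap

variable {S : Scheme.{u}}

/-- Base change along the second projection. -/
theorem repWith_baseChange_snd {𝒳 𝒴 𝒵 : AlgSt.Cat S} (P : MorphismProperty (AlgSp.Sp S))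
    (f : 𝒳 ⥤ᵇ 𝒴) (z : 𝒵 ⥤ᵇ 𝒴) (hz : RepByAlgSpWith P z) :
    RepByAlgSpWith P (fpSnd z f) :=
  repWith_precomp_equiv P (swap z f) (swap_isEquivOver z f) (fpFst f z)
    (repWith_baseChange P z f hz)

end Groth.Agent.Lib.AlgStBC2
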