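import Groth.Agent.Lib.FibCatPaste_lead
import Groth.Prelude.Def_AlgSt2

/-!
# Base change of `RepByAlgSpWith` along 2-cartesian squares (lead)
-/

set_option autoImplicit false
set_option backward.isDefEq.respectTransparency false
set_option backward.isDefEq.respectTransparency.types false

universe u

open CategoryTheory CategoryTheory.Limits AlgebraicGeometry Opposite FibCat

namespace Groth.Agent.Lib.AlgStBC

open AlgSt Groth.Agent.Lib.FibCat3_helper6 Groth.Agent.Lib.FibCatPaste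

variable {S : Scheme.{u}}

theorem secHom_congr {F : AlgSp.Sp S} {U : Over S} {Φ Φ' : ofSp F ⥤ᵇ overCat U} (α : Φ ⟶ Φ')
    (a : (ofSp F).obj) : secHom Φ a = secHom Φ' a := by
  have h1 : (α.toNatTrans.app a).left ≫ (Φ'.obj a).hom = (Φ.obj a).hom :=
    Over.w (α.toNatTrans.app a)
  haveI : (overCat U).p.IsHomLift (𝟙 ((ofSp F).p.obj a)) (α.toNatTrans.app a) := α.isHomLift' a
  have h2 : (α.toNatTrans.app a).left =
      eqToHom (Φ.w_obj a) ≫ 𝟙 _ ≫ eqToHom (Φ'.w_obj a).symm :=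
    IsHomLift.fac' (overCat U).p (𝟙 ((ofSp F).p.obj a)) (α.toNatTrans.app a)
  simp only [secHom, ← h1, h2, Category.assoc, Category.id_comp, eqToHom_trans_assoc,
    eqToHom_refl]

theorem spMapOfOver_congr {F : AlgSp.Sp S} {U : Over S} {Φ Φ' : ofSp F ⥤ᵇ overCat U}
    (α : Φ ⟶ Φ') : spMapOfOver Φ = spMapOfOver Φ' := by
  apply ObjectProperty.hom_ext
  apply NatTrans.ext
  funext T
  ext x
  apply ULift.ext
  exact secHom_congr α ⟨T.unop, x⟩

/-- Base change: `RepByAlgSpWith P` passes to the first projection of a 2-fibre product. -/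
theorem repWith_baseChange {𝒳 𝒴 𝒵 : AlgSt.Cat S} (P : MorphismProperty (AlgSp.Sp S))
    (f : 𝒳 ⥤ᵇ 𝒴) (g : 𝒵 ⥤ᵇ 𝒴) (hf : RepByAlgSpWith P f) :
    RepByAlgSpWith P (fpFst g f) := by
  intro U z
  obtain ⟨F, e, he, hP⟩ := hf U (BasedFunctor.comp z g)
  refine ⟨F, BasedFunctor.comp e (paste z g f), isEquivOver_comp he (paste_isEquivOver z g f), ?_⟩
  exact hP

/-- Precomposition with an equivalence over the base. -/
theorem repWith_precomp_equiv {𝒲 ℰ 𝒵 : AlgSt.Cat S} (P : MorphismProperty (AlgSp.Sp S))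
    (L : 𝒲 ⥤ᵇ ℰ) (hL : IsEquivOver L) (π : ℰ ⥤ᵇ 𝒵) (hπ : RepByAlgSpWith P π) :
    RepByAlgSpWith P (BasedFunctor.comp L π) := by
  intro U z
  obtain ⟨F, e₀, he₀, hP⟩ := hπ U z
  obtain ⟨G', ⟨i₁⟩, ⟨i₂⟩⟩ := precomp_isEquivOver z π L hL
  refine ⟨F, BasedFunctor.comp e₀ G', isEquivOver_comp he₀ (isEquivOver_inverse i₁ i₂), ?_⟩
  have iso : BasedFunctor.comp (BasedFunctor.comp e₀ G') (fpFst z (BasedFunctor.comp L π)) ≅
      BasedFunctor.comp e₀ (fpFst z π) :=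
    Groth.Agent.Lib.LiftSqBC.whiskerLeftIso e₀
      (Groth.Agent.Lib.LiftSqComp.whiskerRightIso i₂ (fpFst z π))
  rw [spMapOfOver_congr iso.hom]
  exact hP

/-- `RepByAlgSpWith P` passes to the base change along any 2-cartesian square. -/
theorem repWith_of_twoCart {𝒲 𝒵 𝒳 𝒴 : AlgSt.Cat S} (P : MorphismProperty (AlgSp.Sp S))
    {g : 𝒵 ⥤ᵇ 𝒴} {f : 𝒳 ⥤ᵇ 𝒴} (a : 𝒲 ⥤ᵇ 𝒵) (b : 𝒲 ⥤ᵇ 𝒳)
    (e : BasedFunctor.comp a g ≅ BasedFunctor.comp b f) (h2 : IsEquivOver (fpLift a b e))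
    (hf : RepByAlgSpWith P f) : RepByAlgSpWith P a :=
  repWith_precomp_equiv P (fpLift a b e) h2 (fpFst g f) (repWith_baseChange P f g hf)

end Groth.Agent.Lib.AlgStBC
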