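import Groth.Agent.Lib.AlgStSmoothLocus2_lead
import Groth.Agent.Lib.AlgSpIso_helper7
import Groth.Agent.Lib.AlgSpTop_helper7
import Groth.Agent.Lib.AlgSpUniv_helper7

/-! # Closed substacks of reduced algebraic stacks (lead) -/

set_option autoImplicit false

universe w v₁ v₂ v₃ v₄ v₅ v₆ u₁ u₂ u₃ u₄ u₅ u₆ u

open CategoryTheory CategoryTheory.Limits AlgebraicGeometry Opposite FibCat Stk

namespace Groth.Agent.Lib.AlgStLocQ

open AlgSt Groth.Agent.Lib.FibCat_helper6 Groth.Agent.Lib.FibCat3_helper6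
  Groth.Agent.Lib.FibCat14_helper6 Groth.Agent.Lib.FibCat12_helper6
  Groth.Agent.Lib.FibCatPaste Groth.Agent.Lib.FibCatSwap
  Groth.Agent.Lib.FibCatIsoFun
  Groth.Agent.Lib.OfPshCalc Groth.Agent.Lib.AlgStBC
  Groth.Agent.Lib.AlgStEquiv Groth.Agent.Lib.AlgStEquivP Groth.Agent.Lib.AlgStEquivInv
  Groth.Agent.Lib.OfPshAlgSt Groth.Agent.Lib.LiftSqBC Groth.Agent.Lib.LiftSqComp
  Groth.Agent.Lib.OfPshWith Groth.Agent.Lib.FibCatDiagSec Groth.Agent.Lib.AlgStDiagRep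
  Groth.Agent.Lib.FibCatDiagBC Groth.Agent.Lib.FibCatMagic Groth.Agent.Lib.FibCatProd
  Groth.Agent.Lib.AlgStDiag Groth.Agent.Lib.AlgStLocal
  Groth.Agent.Lib.AlgSpQC_helper7 Groth.Agent.Lib.AlgSpDiag_helper7
  Groth.Agent.Lib.AlgSpPullback_helper7 Groth.Agent.Lib.AlgSpRepBySp_helper7
  Groth.Agent.Lib.AlgSpPoints_helper7 Groth.Agent.Lib.AlgSpLocP_helper7
  Groth.Agent.Lib.AlgSpBasic_helper7 Groth.Agent.Lib.AlgSpSep_helper7
  Groth.Agent.Lib.AlgSpLocP4_helper7 Groth.Agent.Lib.AlgSpLocP5_helper7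
  Groth.Agent.Lib.AlgSpLocP7_helper7 Groth.Agent.Lib.AlgSpQC2_helper7
  Groth.Agent.Lib.AlgSpLocP8_helper7 Groth.Agent.Lib.AlgSpLocP10_helper7
  Groth.Agent.Lib.AlgSpFpqc3_helper7 Groth.Agent.Lib.AlgSpLocP6_helper7
  Groth.Agent.Lib.AlgSpFpqc2_helper7 Groth.Agent.Lib.AlgSpFpqc_helper7
  Groth.Agent.Lib.AlgSpProper_helper7 Groth.Agent.Lib.AlgSpAffineMorH7
  Groth.Agent.Lib.AlgStAtlas Groth.Agent.Lib.AlgStPoints Groth.Agent.Lib.AlgStPtsCmp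
  Groth.Agent.Lib.FibCatYoneda_helper6


variable {S : Scheme.{u}}

section stk

variable {𝒳 𝒴 : AlgSt.Cat S}

/-- If `𝒴` is reduced and `f : 𝒴 ⟶ 𝒳` maps all points into a closed substack, then `f` factors
through the closed substack. -/
theorem mem_closed_of_points
    (h𝒴 : AlgSt.IsAlgStack Scheme.fppfPrecoverage 𝒴)
    (h𝒳 : AlgSt.IsAlgStack Scheme.fppfPrecoverage 𝒳)
    (hred : AlgSt.SmoothLocally (fun X => IsReduced X) 𝒴)
    (Q : 𝒳.obj → Prop) (hQ : AlgSt.IsClosedSubstack 𝒳 Q Scheme.fppfPrecoverage)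
    (f : 𝒴 ⥤ᵇ 𝒳)
    (hpts : Set.range (AlgSt.Points.map f) ⊆
      Set.range (AlgSt.Points.map (AlgSt.subIncl 𝒳 Q))) (y : 𝒴.obj) :
    Q (f.obj y) := by
  obtain ⟨hiso, halg, himm⟩ := hQ
  have h𝒴g : IsFibGrpd 𝒴.p := h𝒴.isStack.1
  have h𝒳g : IsFibGrpd 𝒳.p := h𝒳.isStack.1
  have h𝒬g : IsFibGrpd (AlgSt.fullSub 𝒳 Q).p := halg.isStack.1
  have hfpg : IsFibGrpd (fp f (AlgSt.subIncl 𝒳 Q)).p :=
    isFibGrpd_fp f (AlgSt.subIncl 𝒳 Q) h𝒴g h𝒬g h𝒳g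
  have hπc : AlgSt.RepByAlgSpWith (AlgSp.RepWith @IsClosedImmersion)
      (fpFst f (AlgSt.subIncl 𝒳 Q)) :=
    repWith_baseChange _ (AlgSt.subIncl 𝒳 Q) f himm
  have hπs : AlgSt.IsSurjective (fpFst f (AlgSt.subIncl 𝒳 Q)) := by
    intro z
    obtain ⟨s, hs⟩ := hpts (Set.mem_range_self z)
    obtain ⟨w, hw, -⟩ := exists_fp_point h𝒬g h𝒳g h𝒴g (AlgSt.subIncl 𝒳 Q) f z s hs.symm
    exact ⟨w, hw⟩
  -- Step 1: the projection is an isomorphism after every base change to a scheme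
  have hstep1 : AlgSt.RepByAlgSpWith (MorphismProperty.isomorphisms (AlgSp.Sp S))
      (fpFst f (AlgSt.subIncl 𝒳 Q)) := by
    obtain ⟨U, x, hx, hx'⟩ := h𝒴.atlas
    haveI : IsReduced U.left := hred U x hx
    have hw₁ : AlgSt.RepByAlgSpWith (AlgSp.LocP @Smooth)
        (BasedFunctor.comp (AlgSt.toOverCat U) x) := repWith_toOverCat_comp _ x hx
    have hw₃ : AlgSt.RepByAlgSpWith AlgSp.IsSurjectiveMor
        (BasedFunctor.comp (AlgSt.toOverCat U) x) := repWith_toOverCat_comp _ x hx'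
    have hWg : IsFibGrpd (AlgSt.ofSp ((AlgSp.ofScheme S).obj U).obj).p :=
      Stk.isFibGrpd_ofPsh _
    obtain ⟨V₀, a₀, e₀, he₀, ⟨i₀⟩, hPa⟩ :=
      exists_space_of_repWith' hfpg h𝒴g (AlgSp.RepWith @IsClosedImmersion)
        (isoInv_repWith _) (schemeTestable_repWith _) (fpFst f (AlgSt.subIncl 𝒳 Q)) hπc
        ((AlgSp.ofScheme S).obj U) (BasedFunctor.comp (AlgSt.toOverCat U) x)
    have hs1 : AlgSt.IsSurjective (fpFst (BasedFunctor.comp (AlgSt.toOverCat U) x)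
        (fpFst f (AlgSt.subIncl 𝒳 Q))) :=
      surjective_fpFst hfpg h𝒴g hWg (fpFst f (AlgSt.subIncl 𝒳 Q))
        (BasedFunctor.comp (AlgSt.toOverCat U) x) hπs
    have hs2 : AlgSt.IsSurjective (AlgSt.ofSpMap a₀.hom) := by
      intro z
      obtain ⟨t, rfl⟩ := hs1 z
      obtain ⟨v, rfl⟩ := map_surjective_of_isEquivOver e₀ he₀ t
      refine ⟨v, ?_⟩
      rw [← map_congr_iso i₀ v]
      exact Groth.Agent.Lib.AlgStPoints.map_comp _ _ _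
    have hms : AlgSp.IsSurjectiveMor a₀.hom :=
      isSurjectiveMor_of_isSurjective_ofSpMap a₀.hom hs2
    obtain ⟨hrep, hclosed⟩ := (AlgSp.repWith_iff _ _).1 hPa
    have hsurj := (repWith_surjective_iff _ hrep).2 hms
    obtain ⟨V, snd, fst, sq⟩ := hrep (𝟙 ((AlgSp.yon S).obj U))
    have c1 : IsClosedImmersion snd.left := hclosed (𝟙 _) fst snd sq
    have c2 : Surjective snd.left := ((AlgSp.repWith_iff _ _).1 hsurj).2 (𝟙 _) fst snd sq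
    haveI : IsIso snd.left := isIso_of_isClosedImmersion_of_surjective snd.left
    haveI : IsIso ((Over.forget S).map snd) := (inferInstance : IsIso snd.left)
    haveI : IsIso snd := isIso_of_reflects_iso snd (Over.forget S)
    haveI : IsIso fst := @IsPullback.isIso_fst_of_isIso _ _ _ _ _ _ _ _ _ _ sq (IsIso.id _)
    haveI : IsIso ((AlgSp.yon S).map snd) := Functor.map_isIso _ _
    haveI : IsIso (fst ≫ a₀.hom) := by
      rw [sq.w]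
      exact @IsIso.comp_isIso _ _ _ _ _ _ _ (Functor.map_isIso _ _) (IsIso.id _)
    have hiso_a : IsIso a₀.hom := IsIso.of_isIso_comp_left fst a₀.hom
    exact (repWith_iff_exists_of_cover hfpg h𝒴g (MorphismProperty.isomorphisms (AlgSp.Sp S))
      (fun _ _ _ _ _ _ _ _ a b a' b' sq' (ha : IsIso a) => (sq'.isIso_snd_of_isIso : IsIso a'))
      (isLocalOnBase_fppf_of_fpqc'
        Groth.Agent.Lib.AlgSpIso_helper7.isLocalOnBase_fpqc_isomorphisms)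
      (fpFst f (AlgSt.subIncl 𝒳 Q)) (repByAlgSp1_of_repWith _ hπc)
      ((AlgSp.ofScheme S).obj U) (BasedFunctor.comp (AlgSt.toOverCat U) x)
      (repWith_flat_of_smooth _ hw₁) (repWith_lfp_of_smooth _ hw₁) hw₃).2
      ⟨V₀, a₀, e₀, he₀, ⟨i₀⟩, hiso_a⟩
  -- Step 2: a section over the object `y`
  haveI : 𝒴.p.IsFibered := isFibered_of_isFibGrpd h𝒴g
  have hA : 𝒴.p.obj y = 𝒴.p.obj y := rfl
  let θ₀ : (yonedaFunctor hA).obj (Over.mk (𝟙 (𝒴.p.obj y))) ≅ y :=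
    @asIso _ _ _ _ (Functor.IsPreFibered.pullbackMap hA
      (ohom (𝒴.p.obj y) (Over.mk (𝟙 (𝒴.p.obj y))))) (pullbackMap_id_isIso hA)
  obtain ⟨F, e, he, hP⟩ := hstep1 (𝒴.p.obj y) (yonedaFunctor hA)
  haveI hgi : IsIso (AlgSt.spMapOfOver
      (BasedFunctor.comp e (fpFst (yonedaFunctor hA) (fpFst f (AlgSt.subIncl 𝒳 Q))))) := hP
  have hs : (AlgSt.spMapOfOver
      (BasedFunctor.comp e (fpFst (yonedaFunctor hA) (fpFst f (AlgSt.subIncl 𝒳 Q))))).hom.app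
        (op (𝒴.p.obj y))
        ((inv (AlgSt.spMapOfOver (BasedFunctor.comp e
          (fpFst (yonedaFunctor hA) (fpFst f (AlgSt.subIncl 𝒳 Q)))))).hom.app (op (𝒴.p.obj y))
          (ULift.up (𝟙 (𝒴.p.obj y)))) =
      ULift.up (𝟙 (𝒴.p.obj y)) := by
    have h2 := congrArg (fun η => η.hom.app (op (𝒴.p.obj y)) (ULift.up (𝟙 (𝒴.p.obj y))))
      (IsIso.inv_hom_id (AlgSt.spMapOfOver (BasedFunctor.comp e
        (fpFst (yonedaFunctor hA) (fpFst f (AlgSt.subIncl 𝒳 Q))))))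
    exact h2
  let a₀ : (AlgSt.ofSp F.obj).obj :=
    ⟨𝒴.p.obj y, (inv (AlgSt.spMapOfOver (BasedFunctor.comp e
      (fpFst (yonedaFunctor hA) (fpFst f (AlgSt.subIncl 𝒳 Q)))))).hom.app (op (𝒴.p.obj y))
      (ULift.up (𝟙 (𝒴.p.obj y)))⟩
  have hsec : AlgSt.secHom
      (BasedFunctor.comp e (fpFst (yonedaFunctor hA) (fpFst f (AlgSt.subIncl 𝒳 Q)))) a₀ =
      𝟙 (𝒴.p.obj y) :=
    congrArg ULift.down ((AlgSt.spMapOfOver_app _ (𝒴.p.obj y) _).symm.trans hs)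
  have hB : ((BasedFunctor.comp e
      (fpFst (yonedaFunctor hA) (fpFst f (AlgSt.subIncl 𝒳 Q)))).obj a₀).left = 𝒴.p.obj y :=
    (BasedFunctor.comp e (fpFst (yonedaFunctor hA) (fpFst f (AlgSt.subIncl 𝒳 Q)))).w_obj a₀
  have hBhom : ((BasedFunctor.comp e
      (fpFst (yonedaFunctor hA) (fpFst f (AlgSt.subIncl 𝒳 Q)))).obj a₀).hom = eqToHom hB := by
    have h3 : eqToHom hB.symm ≫ ((BasedFunctor.comp e
        (fpFst (yonedaFunctor hA) (fpFst f (AlgSt.subIncl 𝒳 Q)))).obj a₀).hom =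
        𝟙 (𝒴.p.obj y) := hsec
    calc ((BasedFunctor.comp e
          (fpFst (yonedaFunctor hA) (fpFst f (AlgSt.subIncl 𝒳 Q)))).obj a₀).hom
        = eqToHom hB ≫ eqToHom hB.symm ≫ ((BasedFunctor.comp e
          (fpFst (yonedaFunctor hA) (fpFst f (AlgSt.subIncl 𝒳 Q)))).obj a₀).hom := by
          simp
      _ = eqToHom hB := by rw [h3, Category.comp_id]
  let φ₁ : (BasedFunctor.comp e
      (fpFst (yonedaFunctor hA) (fpFst f (AlgSt.subIncl 𝒳 Q)))).obj a₀ ≅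
      Over.mk (𝟙 (𝒴.p.obj y)) :=
    Over.isoMk (eqToIso hB) (by rw [hBhom]; simp)
  have iso₁ : (e.obj a₀).obj.snd.obj.fst ≅ y :=
    (e.obj a₀).obj.iso.symm ≪≫ (yonedaFunctor hA).toFunctor.mapIso φ₁ ≪≫ θ₀
  have iso₂ : (e.obj a₀).obj.snd.obj.snd.obj ≅ f.obj y :=
    (e.obj a₀).obj.snd.obj.iso.symm ≪≫ f.toFunctor.mapIso iso₁
  exact hiso.of_iso iso₂ (e.obj a₀).obj.snd.obj.snd.property

/-- S12865. -/
theorem closedSubstack_eq_of_reduced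
    (h𝒳 : AlgSt.IsAlgStack Scheme.fppfPrecoverage 𝒳)
    (hred : AlgSt.SmoothLocally (fun X => IsReduced X) 𝒳)
    (Q : 𝒳.obj → Prop) (hQ : AlgSt.IsClosedSubstack 𝒳 Q Scheme.fppfPrecoverage)
    (hpts : Set.range (AlgSt.Points.map (AlgSt.subIncl 𝒳 Q)) = Set.univ) (y : 𝒳.obj) : Q y :=
  mem_closed_of_points h𝒳 h𝒳 hred Q hQ (BasedFunctor.id 𝒳)
    (by rw [hpts]; exact Set.subset_univ _) y

/-- S12866. -/
theorem factors_closed_iff_points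
    (h𝒳 : AlgSt.IsAlgStack Scheme.fppfPrecoverage 𝒳)
    (h𝒴 : AlgSt.IsAlgStack Scheme.fppfPrecoverage 𝒴)
    (hred : AlgSt.SmoothLocally (fun X => IsReduced X) 𝒴)
    (Q : 𝒳.obj → Prop) (hQ : AlgSt.IsClosedSubstack 𝒳 Q Scheme.fppfPrecoverage)
    (f : 𝒴 ⥤ᵇ 𝒳) :
    (∀ y : 𝒴.obj, Q (f.obj y)) ↔
      Set.range (AlgSt.Points.map f) ⊆ Set.range (AlgSt.Points.map (AlgSt.subIncl 𝒳 Q)) := by
  constructor
  · rintro h _ ⟨z, rfl⟩
    obtain ⟨p, rfl⟩ := AlgSt.Points.mk_surjective z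
    exact ⟨AlgSt.Points.mk ⟨p.K, p.str, ⟨f.obj p.obj, h p.obj⟩, (p.map f).lies⟩, rfl⟩
  · intro hpts y
    exact mem_closed_of_points h𝒴 h𝒳 hred Q hQ f hpts y

end stk

end Groth.Agent.Lib.AlgStLocQ
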