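import Groth.Agent.Lib.FibCatProd_lead

/-!
# The magic square `𝒜 ×_𝒳 ℬ ≃ (𝒜 × ℬ) ×_{𝒳 × 𝒳} 𝒳` (lead)
-/

set_option autoImplicit false

universe u v u₂ v₂ u₃ v₃ u₄ v₄

open CategoryTheory CategoryTheory.Limits FibCat

namespace Groth.Agent.Lib.FibCatMagic

open Groth.Agent.Lib.FibCat_helper6 Groth.Agent.Lib.FibCat3_helper6
  Groth.Agent.Lib.FibCat13_helper6 Groth.Agent.Lib.FibCat14_helper6
  Groth.Agent.Lib.FibCatPaste Groth.Agent.Lib.LiftSqBC Groth.Agent.Lib.FibCatProd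

theorem comm_of_inv_comm {E : Type*} [Category E] {A A' B B' : E} (φ : A ≅ B) (φ' : A' ≅ B')
    (x : A ⟶ A') (y : B ⟶ B') (h : y ≫ φ'.inv = φ.inv ≫ x) : x ≫ φ'.hom = φ.hom ≫ y := by
  have h' := congrArg (fun m => φ.hom ≫ m ≫ φ'.hom) h
  simp only [Category.assoc, Iso.inv_hom_id, Category.comp_id, Iso.hom_inv_id_assoc] at h'
  exact h'.symm

theorem aux2 {E : Type*} [Category E] {A B X : E} (Ψ₁ : A ≅ X) (Ψ₂ : B ≅ X) :
    Ψ₂.hom = (Ψ₁ ≪≫ Ψ₂.symm).inv ≫ Ψ₁.hom := by simp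

variable {C : Type u} [Category.{v} C]

/-- The slice over a terminal object is equivalent to the base. -/
theorem toSelf_overCat_isEquivOver (T₀ : C) (hT : IsTerminal T₀) :
    IsEquivOver (toSelf (overCat T₀)) := by
  haveI : (toSelf (overCat T₀)).toFunctor.Faithful :=
    (inferInstance : (Over.forget T₀).Faithful)
  haveI : (toSelf (overCat T₀)).toFunctor.Full :=
    ⟨fun {X Y} g => ⟨Over.homMk g (hT.hom_ext _ _), rfl⟩⟩
  exact isEquivOver_of_fullyFaithful _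
    (fun c => ⟨Over.mk (hT.from c), Iso.refl _, IsHomLift.id rfl⟩)

variable {𝒜 : BasedCategory.{v₂, u₂} C} {ℬ : BasedCategory.{v₃, u₃} C}
  {𝒳 : BasedCategory.{v₄, u₄} C} (a : 𝒜 ⥤ᵇ 𝒳) (b : ℬ ⥤ᵇ 𝒳)

/-- `a × b : 𝒜 × ℬ ⟶ 𝒳 × 𝒳`. -/
def prodMap : fp (toSelf 𝒜) (toSelf ℬ) ⥤ᵇ fp (toSelf 𝒳) (toSelf 𝒳) :=
  fpLift (BasedFunctor.comp (fpFst (toSelf 𝒜) (toSelf ℬ)) a)
    (BasedFunctor.comp (fpSnd (toSelf 𝒜) (toSelf ℬ)) b) (toSelfIso _ _)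

/-- `(pr₁, pr₂) : 𝒜 ×_𝒳 ℬ ⟶ 𝒜 × ℬ`. -/
def pairMap : fp a b ⥤ᵇ fp (toSelf 𝒜) (toSelf ℬ) :=
  fpLift (fpFst a b) (fpSnd a b) (toSelfIso _ _)

theorem pairMap_comp_fpFst :
    BasedFunctor.comp (pairMap a b) (fpFst (toSelf 𝒜) (toSelf ℬ)) = fpFst a b := rfl

theorem pairMap_comp_fpSnd :
    BasedFunctor.comp (pairMap a b) (fpSnd (toSelf 𝒜) (toSelf ℬ)) = fpSnd a b := rfl

def magicIso : BasedFunctor.comp (pairMap a b) (prodMap a b) ≅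
    BasedFunctor.comp (BasedFunctor.comp (fpFst a b) a) (diag (toSelf 𝒳)) :=
  prodIsoMk2 (H := BasedFunctor.comp (pairMap a b) (prodMap a b))
    (K := BasedFunctor.comp (BasedFunctor.comp (fpFst a b) a) (diag (toSelf 𝒳)))
    (Iso.refl (BasedFunctor.comp (fpFst a b) a)) (fpIso a b).symm

/-- The comparison functor of the magic square. -/
def magic : fp a b ⥤ᵇ fp (prodMap a b) (diag (toSelf 𝒳)) :=
  fpLift (pairMap a b) (BasedFunctor.comp (fpFst a b) a) (magicIso a b)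

theorem magic_comp_fpFst :
    BasedFunctor.comp (magic a b) (fpFst (prodMap a b) (diag (toSelf 𝒳))) = pairMap a b := rfl

instance magic_faithful : (magic a b).toFunctor.Faithful where
  map_injective := by
    intro t t' m m' h
    apply fp_hom_ext
    · exact congrArg (fun n => n.hom.fst.hom.fst) h
    · exact congrArg (fun n => n.hom.fst.hom.snd) h

instance magic_full : (magic a b).toFunctor.Full where
  map_surjective := by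
    intro t t' n
    have hw := n.hom.w
    have hw1 : a.toFunctor.map n.hom.fst.hom.fst ≫ 𝟙 _ = 𝟙 _ ≫ n.hom.snd :=
      congrArg (fun m => m.hom.fst) hw
    have hw2 : b.toFunctor.map n.hom.fst.hom.snd ≫ t'.obj.iso.inv =
        t.obj.iso.inv ≫ n.hom.snd := congrArg (fun m => m.hom.snd) hw
    have hw1' : n.hom.snd = a.toFunctor.map n.hom.fst.hom.fst :=
      ((Category.id_comp _).symm.trans hw1.symm).trans (Category.comp_id _)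
    refine ⟨fpHomMk n.hom.fst.hom.fst n.hom.fst.hom.snd ?_, ?_⟩
    · rw [hw1'] at hw2
      exact comm_of_inv_comm t.obj.iso t'.obj.iso _ _ hw2
    · apply fp_hom_ext
      · apply fp_hom_ext
        · rfl
        · rfl
      · exact hw1'.symm

theorem magic_essSurj (w : (fp (prodMap a b) (diag (toSelf 𝒳))).obj) :
    ∃ (t : (fp a b).obj) (φ : (magic a b).obj t ≅ w),
      (fp (prodMap a b) (diag (toSelf 𝒳))).p.IsHomLift
        (𝟙 ((fp (prodMap a b) (diag (toSelf 𝒳))).p.obj w)) φ.hom := by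
  have hw : (fp (toSelf 𝒳) (toSelf 𝒳)).p.IsHomLift (𝟙 (𝒜.p.obj w.obj.fst.obj.fst))
      w.obj.iso.hom := w.property
  have h1 : 𝒳.p.IsHomLift (𝟙 (𝒜.p.obj w.obj.fst.obj.fst)) w.obj.iso.hom.hom.fst :=
    fp_isHomLift_fst w.obj.iso.hom (𝟙 (𝒜.p.obj w.obj.fst.obj.fst))
  have h2 : 𝒳.p.IsHomLift (𝟙 (𝒜.p.obj w.obj.fst.obj.fst)) w.obj.iso.hom.hom.snd :=
    fp_isHomLift_snd' w.obj.iso.hom (𝟙 (𝒜.p.obj w.obj.fst.obj.fst))
  let Ψ₁ : a.obj w.obj.fst.obj.fst ≅ w.obj.snd :=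
    ⟨w.obj.iso.hom.hom.fst, w.obj.iso.inv.hom.fst,
      congrArg (fun m => m.hom.fst) w.obj.iso.hom_inv_id,
      congrArg (fun m => m.hom.fst) w.obj.iso.inv_hom_id⟩
  let Ψ₂ : b.obj w.obj.fst.obj.snd ≅ w.obj.snd :=
    ⟨w.obj.iso.hom.hom.snd, w.obj.iso.inv.hom.snd,
      congrArg (fun m => m.hom.snd) w.obj.iso.hom_inv_id,
      congrArg (fun m => m.hom.snd) w.obj.iso.inv_hom_id⟩
  haveI i1 : 𝒳.p.IsHomLift (𝟙 (𝒜.p.obj w.obj.fst.obj.fst)) Ψ₁.hom := h1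
  haveI i2 : 𝒳.p.IsHomLift (𝟙 (𝒜.p.obj w.obj.fst.obj.fst)) Ψ₂.hom := h2
  haveI i3 : 𝒳.p.IsHomLift (𝟙 (𝒜.p.obj w.obj.fst.obj.fst)) Ψ₂.symm.hom :=
    IsHomLift.lift_id_inv 𝒳.p (𝒜.p.obj w.obj.fst.obj.fst) Ψ₂
  have h3 : 𝒳.p.IsHomLift (𝟙 (𝒜.p.obj w.obj.fst.obj.fst)) (Ψ₁ ≪≫ Ψ₂.symm).hom := by
    show 𝒳.p.IsHomLift (𝟙 (𝒜.p.obj w.obj.fst.obj.fst)) (Ψ₁.hom ≫ Ψ₂.symm.hom)
    infer_instance
  let t : (fp a b).obj := fpObjMk w.obj.fst.obj.fst w.obj.fst.obj.snd (Ψ₁ ≪≫ Ψ₂.symm) h3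
  have hA : 𝒜.p.IsHomLift (𝟙 (𝒜.p.obj w.obj.fst.obj.fst)) (Iso.refl w.obj.fst.obj.fst).hom :=
    IsHomLift.id rfl
  have hB : ℬ.p.IsHomLift (𝟙 (𝒜.p.obj w.obj.fst.obj.fst)) (Iso.refl w.obj.fst.obj.snd).hom :=
    IsHomLift.id (prod_obj_eq w.obj.fst).symm
  let a' : ((magic a b).obj t).obj.fst ≅ w.obj.fst :=
    @prodIsoMk _ _ _ _ ((pairMap a b).obj t) w.obj.fst (𝒜.p.obj w.obj.fst.obj.fst)
      (Iso.refl w.obj.fst.obj.fst) (Iso.refl w.obj.fst.obj.snd) hA hB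
  have ha' : (fp (toSelf 𝒜) (toSelf ℬ)).p.IsHomLift (𝟙 (𝒜.p.obj w.obj.fst.obj.fst)) a'.hom :=
    @prodIsoMk_isHomLift _ _ _ _ ((pairMap a b).obj t) w.obj.fst (𝒜.p.obj w.obj.fst.obj.fst)
      (Iso.refl w.obj.fst.obj.fst) (Iso.refl w.obj.fst.obj.snd) hA hB
  refine ⟨t, fpIsoMk (F := prodMap a b) (G := diag (toSelf 𝒳)) (X := (magic a b).obj t)
    (Y := w) a' Ψ₁ ?_, ?_⟩
  · apply fp_hom_ext
    · have t3 : ((prodMap a b).map a'.hom ≫ w.obj.iso.hom).hom.fst =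
        a.toFunctor.map (𝟙 _) ≫ Ψ₁.hom := rfl
      have t4 : (((magic a b).obj t).obj.iso.hom ≫ (FibCat.diag (toSelf 𝒳)).map Ψ₁.hom).hom.fst =
        𝟙 _ ≫ Ψ₁.hom := rfl
      refine t3.trans (Eq.trans ?_ t4.symm)
      rw [CategoryTheory.Functor.map_id]
    · have t3 : ((prodMap a b).map a'.hom ≫ w.obj.iso.hom).hom.snd =
        b.toFunctor.map (𝟙 _) ≫ Ψ₂.hom := rfl
      have t4 : (((magic a b).obj t).obj.iso.hom ≫ (FibCat.diag (toSelf 𝒳)).map Ψ₁.hom).hom.snd =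
        (Ψ₁ ≪≫ Ψ₂.symm).inv ≫ Ψ₁.hom := rfl
      refine t3.trans (Eq.trans ?_ t4.symm)
      rw [CategoryTheory.Functor.map_id, Category.id_comp]
      exact aux2 Ψ₁ Ψ₂
  · exact fpIsoMk_isHomLift _ _ _ ha'

theorem magic_isEquivOver : IsEquivOver (magic a b) :=
  isEquivOver_of_fullyFaithful (magic a b) (magic_essSurj a b)

end Groth.Agent.Lib.FibCatMagic
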