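import Groth.Agent.Lib.AlgStLocal2_lead
import Groth.Agent.Lib.FibCatMagic_lead
import Groth.Agent.Lib.AlgStGraph_lead
import Groth.Agent.Lib.AlgSpAffineMor_helper7

/-!
# The diagonal of an algebraic stack is locally of finite type (lead)
-/

set_option autoImplicit false

universe u

open CategoryTheory CategoryTheory.Limits AlgebraicGeometry Opposite FibCat Stk

namespace Groth.Agent.Lib.AlgStLocal

open AlgSt Groth.Agent.Lib.FibCat_helper6 Groth.Agent.Lib.FibCat3_helper6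
  Groth.Agent.Lib.FibCat14_helper6 Groth.Agent.Lib.FibCatPaste Groth.Agent.Lib.FibCatSwap
  Groth.Agent.Lib.FibCatIsoFun
  Groth.Agent.Lib.OfPshCalc Groth.Agent.Lib.AlgStBC
  Groth.Agent.Lib.AlgStEquiv Groth.Agent.Lib.AlgStEquivP Groth.Agent.Lib.AlgStEquivInv
  Groth.Agent.Lib.OfPshAlgSt Groth.Agent.Lib.LiftSqBC Groth.Agent.Lib.LiftSqComp
  Groth.Agent.Lib.OfPshWith Groth.Agent.Lib.FibCatDiagSec Groth.Agent.Lib.AlgStDiagRep
  Groth.Agent.Lib.FibCatDiagBC Groth.Agent.Lib.FibCatMagic Groth.Agent.Lib.FibCatProd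
  Groth.Agent.Lib.AlgStDiag
  Groth.Agent.Lib.AlgSpQC_helper7 Groth.Agent.Lib.AlgSpDiag_helper7
  Groth.Agent.Lib.AlgSpPullback_helper7 Groth.Agent.Lib.AlgSpRepBySp_helper7
  Groth.Agent.Lib.AlgSpPoints_helper7 Groth.Agent.Lib.AlgSpLocP_helper7
  Groth.Agent.Lib.AlgSpBasic_helper7 Groth.Agent.Lib.AlgSpSep_helper7
  Groth.Agent.Lib.AlgSpLocP4_helper7 Groth.Agent.Lib.AlgSpLocP5_helper7
  Groth.Agent.Lib.AlgSpLocP7_helper7 Groth.Agent.Lib.AlgSpQC2_helper7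
  Groth.Agent.Lib.AlgSpLocP8_helper7 Groth.Agent.Lib.AlgSpLocP10_helper7
  Groth.Agent.Lib.AlgSpFpqc3_helper7 Groth.Agent.Lib.AlgSpLocP6_helper7
  Groth.Agent.Lib.AlgSpFpqc2_helper7 Groth.Agent.Lib.AlgSpFpqc_helper7
  Groth.Agent.Lib.AlgSpProper_helper7 Groth.Agent.Lib.AlgSpAffineMorH7

variable {S : Scheme.{u}}

theorem repByAlgSp_selfOver : AlgSt.RepByAlgSp (selfOver (Over S)) :=
  ⟨⟨(AlgSp.yon S).obj (Over.mk (𝟙 S)), AlgSp.IsAlgSpace.yon_obj _⟩,
    BasedFunctor.comp (AlgSt.toOverCat (Over.mk (𝟙 S))) (toSelf (FibCat.overCat (Over.mk (𝟙 S)))),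
    isEquivOver_comp (toOverCat_isEquivOver _)
      (toSelf_overCat_isEquivOver (Over.mk (𝟙 S)) Over.mkIdTerminal)⟩

theorem repByAlgSp1_toSelf_overCat (U : Over S) :
    AlgSt.RepByAlgSp1 (toSelf (FibCat.overCat U)) :=
  repByAlgSp1_of_repByAlgSp (repByAlgSp_overCat U) repByAlgSp_selfOver _

theorem locP_mono {P Q : MorphismProperty Scheme.{u}} (hPQ : ∀ ⦃A B : Scheme.{u}⦄ (g : A ⟶ B),
    P g → Q g) {X Y : AlgSp.Sp S} (f : X ⟶ Y) (hf : AlgSp.LocP P f) : AlgSp.LocP Q f :=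
  fun _ _ a b h ha hb comm => hPQ _ (hf a b h ha hb comm)

theorem isLocalOnBase_fppf_isSurjectiveMor :
    AlgSp.IsLocalOnBase (AlgSp.IsFppfCover (S := S)) AlgSp.IsSurjectiveMor := by
  intro ι Y Yi g hY hYi hcov X f hX Xi p q hXi sqs
  constructor
  · intro hf i
    exact isSurjectiveMor_of_isPullback (sqs i) hf
  · intro hp y
    obtain ⟨i, yi, rfl⟩ := hcov.2 y
    obtain ⟨xi, hxi⟩ := hp i yi
    refine ⟨AlgSp.Points.map (q i) xi, ?_⟩
    rw [← AlgSp.Points.map_comp, (sqs i).w, AlgSp.Points.map_comp, hxi]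

section stk

variable {𝒳 𝒴 : AlgSt.Cat S}

/-- The diagonal of a morphism representable by algebraic spaces is locally of finite type. -/
theorem locP_lft_diag_of_repByAlgSp1 (h : 𝒳 ⥤ᵇ 𝒴) (hf : AlgSt.RepByAlgSp1 h) :
    AlgSt.RepByAlgSpWith (AlgSp.LocP @LocallyOfFiniteType) (FibCat.diag h) := by
  have hE : ∀ ⦃A B : Scheme.{u}⦄ (g : A ⟶ B), Etale g → LocallyOfFiniteType g :=
    fun A B g hg => by
      haveI := hg
      infer_instance
  refine repWith_mono' (fun _ _ a _ ha => ?_) _ (repWith_diag_std h hf)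
  exact locP_of_repWith @LocallyOfFiniteType hE a (repWith_mono (fun _ _ g hg => hg.1.1.1) ha)

/-- The diagonal of an algebraic stack over the base is locally of finite type. -/
theorem locP_lft_diag_toSelf (h𝒳 : AlgSt.IsAlgStack Scheme.fppfPrecoverage 𝒳) :
    AlgSt.RepByAlgSpWith (AlgSp.LocP @LocallyOfFiniteType) (FibCat.diag (toSelf 𝒳)) := by
  obtain ⟨U, x, hx₁, hx₂⟩ := h𝒳.atlas
  have h𝒳g : IsFibGrpd 𝒳.p := h𝒳.isStack.1
  have h𝒰 : IsFibGrpd (FibCat.overCat U).p := isFibGrpd_over_forget U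
  have hxF : AlgSt.RepByAlgSpWith (AlgSp.LocP @Flat) x :=
    repWith_mono' (fun _ _ a _ ha => locP_mono (fun _ _ g hg => by
      haveI : Smooth g := hg
      infer_instance) a ha) x hx₁
  have hxP : AlgSt.RepByAlgSpWith (AlgSp.LocP @LocallyOfFinitePresentation) x :=
    repWith_mono' (fun _ _ a _ ha => locP_mono (fun _ _ g hg => by
      haveI : Smooth g := hg
      infer_instance) a ha) x hx₁
  have hxT : AlgSt.RepByAlgSpWith (AlgSp.LocP @LocallyOfFiniteType) x :=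
    repWith_mono' (fun _ _ a _ ha => locP_mono (fun _ _ g hg => by
      haveI : Smooth g := hg
      infer_instance) a ha) x hx₁
  have hUU : IsFibGrpd (fp (toSelf (FibCat.overCat U)) (toSelf (FibCat.overCat U))).p :=
    Groth.Agent.Lib.FibCat12_helper6.isFibGrpd_prod h𝒰 h𝒰
  have hXX : IsFibGrpd (fp (toSelf 𝒳) (toSelf 𝒳)).p :=
    Groth.Agent.Lib.FibCat12_helper6.isFibGrpd_prod h𝒳g h𝒳g
  have hz₁ : AlgSt.RepByAlgSpWith (AlgSp.LocP @Flat) (prodMap x x) :=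
    repWith_prod h𝒰 h𝒰 h𝒳g _ (bc_locP _ etLocal_flat)
      (fun _ _ _ hX hY hZ a b ha hb => locP_comp etLocal_flat hX hY hZ a b ha hb)
      (isLocalOnBase_fppf_of_fpqc' isLocalOnBase_fpqc_locP_flat) x x hxF hxF _
  have hz₂ : AlgSt.RepByAlgSpWith (AlgSp.LocP @LocallyOfFinitePresentation) (prodMap x x) :=
    repWith_prod h𝒰 h𝒰 h𝒳g _ (bc_locP _ etLocal_locallyOfFinitePresentation)
      (fun _ _ _ hX hY hZ a b ha hb =>
        locP_comp etLocal_locallyOfFinitePresentation hX hY hZ a b ha hb)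
      (isLocalOnBase_fppf_of_fpqc' isLocalOnBase_fpqc_locP_locallyOfFinitePresentation)
      x x hxP hxP _
  have hz₃ : AlgSt.RepByAlgSpWith AlgSp.IsSurjectiveMor (prodMap x x) :=
    repWith_prod h𝒰 h𝒰 h𝒳g _
      (fun _ _ _ _ _ _ _ _ _ _ _ _ sq ha => isSurjectiveMor_of_isPullback sq ha)
      (fun _ _ _ _ _ _ a b ha hb => isSurjectiveMor_comp a b ha hb)
      isLocalOnBase_fppf_isSurjectiveMor x x hx₂ hx₂ _
  have hpr : AlgSt.RepByAlgSp1 (toSelf (FibCat.overCat U)) := repByAlgSp1_toSelf_overCat U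
  have hb : AlgSt.RepByAlgSpWith (AlgSp.LocP @LocallyOfFiniteType)
      (FibCat.diag (fpFst (toSelf (FibCat.overCat U)) (toSelf (FibCat.overCat U)))) :=
    repWith_diag_baseChange _ (toSelf (FibCat.overCat U)) (toSelf (FibCat.overCat U))
      (locP_lft_diag_of_repByAlgSp1 _ hpr)
  have ha : AlgSt.RepByAlgSpWith (AlgSp.LocP @LocallyOfFiniteType) (fpFst x x) :=
    repWith_baseChange _ x x hxT
  have hpair : AlgSt.RepByAlgSpWith (AlgSp.LocP @LocallyOfFiniteType) (pairMap x x) :=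
    repWith_of_triangle (Groth.Agent.Lib.FibCat12_helper6.isFibGrpd_fp x x h𝒰 h𝒰 h𝒳g) hUU h𝒰 _
      (isoInv_locP _ etLocal_locallyOfFiniteType) (schemeTestable_locP _)
      (fun _ _ _ hX hY hZ a b ha hb => locP_comp etLocal_locallyOfFiniteType hX hY hZ a b ha hb)
      (pairMap x x) (fpFst x x)
      (fpFst (toSelf (FibCat.overCat U)) (toSelf (FibCat.overCat U))) (Iso.refl _) ha hb
  have H : AlgSt.RepByAlgSpWith (AlgSp.LocP @LocallyOfFiniteType)
      (fpFst (prodMap x x) (FibCat.diag (toSelf 𝒳))) :=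
    repWith_cancel_equiv _ (magic x x) (magic_isEquivOver x x) _ hpair
  exact (repWith_iff_fpFst_of_cover h𝒳g hXX hUU _ (bc_locP _ etLocal_locallyOfFiniteType)
    (isLocalOnBase_fppf_of_fpqc' isLocalOnBase_fpqc_locP_locallyOfFiniteType)
    (FibCat.diag (toSelf 𝒳)) h𝒳.diag (prodMap x x) hz₁ hz₂ hz₃).2 H

/-- The diagonal of a morphism of algebraic stacks is locally of finite type. -/
theorem locP_lft_diag (h𝒳 : AlgSt.IsAlgStack Scheme.fppfPrecoverage 𝒳)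
    (h𝒴 : AlgSt.IsAlgStack Scheme.fppfPrecoverage 𝒴) (f : 𝒳 ⥤ᵇ 𝒴) :
    AlgSt.RepByAlgSpWith (AlgSp.LocP @LocallyOfFiniteType) (FibCat.diag f) := by
  have h3 : AlgSt.RepByAlgSpWith (AlgSp.LocP @LocallyOfFiniteType)
      (FibCat.diag (BasedFunctor.comp f (toSelf 𝒴))) := by
    rw [comp_toSelf_eq f]
    exact locP_lft_diag_toSelf h𝒳
  have h2 : AlgSt.RepByAlgSpWith (AlgSp.LocP @LocallyOfFiniteType)
      (FibCat.diag (relJ f (toSelf 𝒴))) :=
    locP_lft_diag_of_repByAlgSp1 _ (repByAlgSp1_relJ f (toSelf 𝒴) h𝒴.diag)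
  exact repWith_diag_of_comp f (toSelf 𝒴) h𝒳.isStack.1 h𝒴.isStack.1
    Groth.Agent.Lib.FibCat12_helper6.isFibGrpd_selfOver _
    (isoInv_locP _ etLocal_locallyOfFiniteType) (schemeTestable_locP _)
    (fun _ _ _ hX hY hZ a b ha hb => locP_comp etLocal_locallyOfFiniteType hX hY hZ a b ha hb)
    h3 h2

end stk

end Groth.Agent.Lib.AlgStLocal
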