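import Groth.Agent.Lib.AlgStInertia_lead
import Groth.Agent.Lib.AlgSpUnram_helper7
import Groth.Agent.Lib.AlgStDiagLFT_lead
import Groth.Agent.Lib.AlgSpTop_helper7
import Groth.Agent.Lib.AlgSpUniv_helper7

/-! # DM morphisms and the relative inertia (lead) -/

set_option autoImplicit false

universe w v₁ v₂ v₃ v₄ v₅ v₆ u₁ u₂ u₃ u₄ u₅ u₆ u

open CategoryTheory CategoryTheory.Limits AlgebraicGeometry Opposite FibCat Stk

namespace Groth.Agent.Lib.AlgStLocQ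

open AlgSt Groth.Agent.Lib.FibCat_helper6 Groth.Agent.Lib.FibCat3_helper6
  Groth.Agent.Lib.FibCat14_helper6 Groth.Agent.Lib.FibCat12_helper6
  Groth.Agent.Lib.FibCatPaste Groth.Agent.Lib.FibCatSwap
  Groth.Agent.Lib.FibCatIsoFun
  Groth.Agent.Lib.OfPshCalc Groth.Agent.Lib.AlgStBC
  Groth.Agent.Lib.AlgStEquiv Groth.Agent.Lib.AlgStEquivP Groth.Agent.Lib.AlgStEquivInv
  Groth.Agent.Lib.OfPshAlgSt Groth.Agent.Lib.LiftSqBC Groth.Agent.Lib.LiftSqComp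
  Groth.Agent.Lib.OfPshWith Groth.Agent.Lib.FibCatDiagSec Groth.Agent.Lib.AlgStDiagRep
  Groth.Agent.Lib.FibCatDiagBC Groth.Agent.Lib.FibCatMagic Groth.Agent.Lib.FibCatProd
  Groth.Agent.Lib.AlgStDiag Groth.Agent.Lib.AlgStLocal
  Groth.Agent.Lib.AlgSpQC_helper7 Groth.Agent.Lib.AlgSpDiag_helper7
  Groth.Agent.Lib.AlgSpPullback_helper7 Groth.Agent.Lib.AlgSpRepBySp_helper7
  Groth.Agent.Lib.AlgSpPoints_helper7 Groth.Agent.Lib.AlgSpLocP_helper7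
  Groth.Agent.Lib.AlgSpBasic_helper7 Groth.Agent.Lib.AlgSpSep_helper7
  Groth.Agent.Lib.AlgSpLocP4_helper7 Groth.Agent.Lib.AlgSpLocP5_helper7
  Groth.Agent.Lib.AlgSpLocP7_helper7 Groth.Agent.Lib.AlgSpQC2_helper7
  Groth.Agent.Lib.AlgSpLocP8_helper7 Groth.Agent.Lib.AlgSpLocP10_helper7
  Groth.Agent.Lib.AlgSpFpqc3_helper7 Groth.Agent.Lib.AlgSpLocP6_helper7
  Groth.Agent.Lib.AlgSpFpqc2_helper7 Groth.Agent.Lib.AlgSpFpqc_helper7
  Groth.Agent.Lib.AlgSpProper_helper7 Groth.Agent.Lib.AlgSpAffineMorH7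
  Groth.Agent.Lib.AlgStAtlas Groth.Agent.Lib.AlgStPoints Groth.Agent.Lib.AlgStPtsCmp
  Groth.Agent.Lib.FibCatYoneda_helper6



variable {S : Scheme.{u}} {𝒳 𝒴 : AlgSt.Cat S}

/-- A morphism whose diagonal is locally of finite type and has an open immersion as its own
diagonal has an unramified diagonal. -/
theorem isDMMor_of_open_diag_diag (h𝒳 : AlgSt.IsAlgStack Scheme.fppfPrecoverage 𝒳)
    (h𝒴 : AlgSt.IsAlgStack Scheme.fppfPrecoverage 𝒴) (f : 𝒳 ⥤ᵇ 𝒴)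
    (hopen : AlgSt.RepByAlgSpWith (AlgSp.RepWith @IsOpenImmersion)
      (FibCat.diag (FibCat.diag f))) : AlgSt.IsDMMor f := by
  have hlft := locP_lft_diag h𝒳 h𝒴 f
  have hrep : AlgSt.RepByAlgSp1 (FibCat.diag f) := repByAlgSp1_diag_of_isAlgStack h𝒳 h𝒴 f
  intro U y
  obtain ⟨F₁, e₁, he₁⟩ := hrep U y
  exact ⟨F₁, e₁, he₁, Groth.Agent.Lib.AlgSpUnram_helper7.locP_unramified_of_diagonal F₁.property
    (AlgSp.IsAlgSpace.yon_obj U) _
    (prop_of_repWith_of_equiv _ (isoInv_locP _ etLocal_locallyOfFiniteType)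
      (schemeTestable_locP _) (FibCat.diag f) hlft y F₁ e₁ he₁)
    (diagonal_prop_of_repWith_diag' _ (isoInv_repWith _) (schemeTestable_repWith _)
      (FibCat.diag f) hopen U y F₁ e₁ he₁)⟩

/-- The diagonal of a DM morphism has an open immersion as its diagonal. -/
theorem open_diag_of_unramified {𝒳' 𝒴' : AlgSt.Cat S} (g : 𝒳' ⥤ᵇ 𝒴')
    (h : AlgSt.RepByAlgSpWith (AlgSp.LocP (@LocallyOfFiniteType ⊓ @FormallyUnramified)) g) :
    AlgSt.RepByAlgSpWith (AlgSp.RepWith @IsOpenImmersion) (FibCat.diag g) :=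
  repWith_diag_of_repWith _ @IsOpenImmersion
    (fun T _ hF₁ π₀ hQ =>
      Groth.Agent.Lib.AlgSpUnram_helper7.repWith_isOpenImmersion_diagonal hF₁
        (AlgSp.IsAlgSpace.yon_obj T) π₀ hQ) g h

/-- S12974. -/
theorem inertia_unramified_iff_isDMMor (h𝒳 : AlgSt.IsAlgStack Scheme.fppfPrecoverage 𝒳)
    (h𝒴 : AlgSt.IsAlgStack Scheme.fppfPrecoverage 𝒴) (f : 𝒳 ⥤ᵇ 𝒴) :
    AlgSt.RepByAlgSpWith (AlgSp.LocP (@LocallyOfFiniteType ⊓ @FormallyUnramified))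
      (FibCat.inertiaToBase f) ↔ AlgSt.IsDMMor f := by
  constructor
  · intro h
    exact isDMMor_of_open_diag_diag h𝒳 h𝒴 f
      (repWith_diag_diag_of_neutral f _
        (repWith_neutral_of_diag f _ (open_diag_of_unramified (FibCat.inertiaToBase f) h)))
  · exact repWith_inertiaToBase f _

end Groth.Agent.Lib.AlgStLocQ
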