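import Groth.Agent.Lib.AlgStQcQs_lead
import Groth.Agent.Lib.AlgSpTop_helper7
import Groth.Agent.Lib.AlgSpUniv_helper7

/-! # Quasi-separated morphisms and the second diagonal (lead) -/

set_option autoImplicit false

universe w v₁ v₂ v₃ v₄ v₅ v₆ u₁ u₂ u₃ u₄ u₅ u₆ u

open CategoryTheory CategoryTheory.Limits AlgebraicGeometry Opposite FibCat Stk

namespace Groth.Agent.Lib.AlgStLocQ

open AlgSt Groth.Agent.Lib.FibCat_helper6 Groth.Agent.Lib.FibCat3_helper6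
  Groth.Agent.Lib.FibCat14_helper6 Groth.Agent.Lib.FibCat12_helper6
  Groth.Agent.Lib.FibCatPaste Groth.Agent.Lib.FibCatSwap
  Groth.Agent.Lib.FibCatIsoFun
  Groth.Agent.Lib.OfPshCalc Groth.Agent.Lib.AlgStBC
  Groth.Agent.Lib.AlgStEquiv Groth.Agent.Lib.AlgStEquivP Groth.Agent.Lib.AlgStEquivInv
  Groth.Agent.Lib.OfPshAlgSt Groth.Agent.Lib.LiftSqBC Groth.Agent.Lib.LiftSqComp
  Groth.Agent.Lib.OfPshWith Groth.Agent.Lib.FibCatDiagSec Groth.Agent.Lib.AlgStDiagRep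
  Groth.Agent.Lib.FibCatDiagBC Groth.Agent.Lib.FibCatMagic Groth.Agent.Lib.FibCatProd
  Groth.Agent.Lib.AlgStDiag Groth.Agent.Lib.AlgStLocal
  Groth.Agent.Lib.AlgSpQC_helper7 Groth.Agent.Lib.AlgSpDiag_helper7
  Groth.Agent.Lib.AlgSpPullback_helper7 Groth.Agent.Lib.AlgSpRepBySp_helper7
  Groth.Agent.Lib.AlgSpPoints_helper7 Groth.Agent.Lib.AlgSpLocP_helper7
  Groth.Agent.Lib.AlgSpBasic_helper7 Groth.Agent.Lib.AlgSpSep_helper7
  Groth.Agent.Lib.AlgSpLocP4_helper7 Groth.Agent.Lib.AlgSpLocP5_helper7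
  Groth.Agent.Lib.AlgSpLocP7_helper7 Groth.Agent.Lib.AlgSpQC2_helper7
  Groth.Agent.Lib.AlgSpLocP8_helper7 Groth.Agent.Lib.AlgSpLocP10_helper7
  Groth.Agent.Lib.AlgSpFpqc3_helper7 Groth.Agent.Lib.AlgSpLocP6_helper7
  Groth.Agent.Lib.AlgSpFpqc2_helper7 Groth.Agent.Lib.AlgSpFpqc_helper7
  Groth.Agent.Lib.AlgSpProper_helper7 Groth.Agent.Lib.AlgSpAffineMorH7
  Groth.Agent.Lib.AlgStAtlas Groth.Agent.Lib.AlgStPoints Groth.Agent.Lib.AlgStPtsCmp
  Groth.Agent.Lib.FibCatYoneda_helper6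



variable {S : Scheme.{u}}

section dd

variable {𝒳 𝒴 : AlgSt.Cat S}

/-- The property of a morphism representable by algebraic spaces may be read on any
representing space. -/
theorem prop_of_repWith_of_equiv (P : MorphismProperty (AlgSp.Sp S)) (hI : IsoInv P)
    (hL : SchemeTestable P) (f : 𝒳 ⥤ᵇ 𝒴) (hP : AlgSt.RepByAlgSpWith P f) {U : Over S}
    (y : FibCat.overCat U ⥤ᵇ 𝒴) (F : AlgSp.Space S) (e : AlgSt.ofSp F.obj ⥤ᵇ fp y f)
    (he : IsEquivOver e) : P (AlgSt.spMapOfOver (BasedFunctor.comp e (fpFst y f))) := by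
  have h' : AlgSt.RepByAlgSpWith P (BasedFunctor.comp (fpFst y f) (AlgSt.ofOverCat U)) :=
    repWith_postcomp_equiv P (fpFst y f) (AlgSt.ofOverCat U) (ofOverCat_isEquivOver U)
      (repWith_baseChange P f y hP)
  have i1 : BasedFunctor.comp (BasedFunctor.comp e (fpFst y f)) (AlgSt.ofOverCat U) ≅
      Stk.ofPshMap (mapOf (BasedFunctor.comp (BasedFunctor.comp e (fpFst y f))
        (AlgSt.ofOverCat U))) := isoOf _
  have e2 : Stk.ofPshMap (mapOf (BasedFunctor.comp (BasedFunctor.comp e (fpFst y f))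
      (AlgSt.ofOverCat U))) =
      AlgSt.ofSpMap (AlgSt.spMapOfOver (BasedFunctor.comp e (fpFst y f))) :=
    congrArg Stk.ofPshMap (spMapOfOver_hom (BasedFunctor.comp e (fpFst y f))).symm
  exact prop_of_repWith_ofSp P hI hL (V := F) (Z := (AlgSp.ofScheme S).obj U)
    (ObjectProperty.homMk (AlgSt.spMapOfOver (BasedFunctor.comp e (fpFst y f))))
    (BasedFunctor.comp (fpFst y f) (AlgSt.ofOverCat U)) e he (i1 ≪≫ eqToIso e2) h'

/-- Conjunction of two properties of a morphism representable by algebraic spaces. -/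
theorem repWith_and_left (P Q : MorphismProperty (AlgSp.Sp S)) (hI : IsoInv P)
    (hL : SchemeTestable P) (f : 𝒳 ⥤ᵇ 𝒴) (hP : AlgSt.RepByAlgSpWith P f)
    (hQ : AlgSt.RepByAlgSpWith Q f) : AlgSt.RepByAlgSpWith (P ⊓ Q) f := by
  intro U y
  obtain ⟨F, e, he, hq⟩ := hQ U y
  exact ⟨F, e, he, prop_of_repWith_of_equiv P hI hL f hP y F e he, hq⟩

/-- S12980. -/
theorem isQuasiSeparatedMor_iff_qc_diag_diag (f : 𝒳 ⥤ᵇ 𝒴) :
    AlgSt.IsQuasiSeparatedMor f ↔
      AlgSt.RepByAlgSpWith AlgSp.IsQuasiCompactMor (FibCat.diag f) ∧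
        AlgSt.RepByAlgSpWith AlgSp.IsQuasiCompactMor (FibCat.diag (FibCat.diag f)) := by
  constructor
  · intro h
    have h1 : AlgSt.RepByAlgSpWith AlgSp.IsQuasiCompactMor (FibCat.diag f) :=
      repWith_mono' (fun _ _ _ _ ha => ha.1) _ h
    have h2 : AlgSt.RepByAlgSpWith AlgSp.IsQuasiSeparatedMor (FibCat.diag f) :=
      repWith_mono' (fun _ _ _ _ ha => ha.2) _ h
    refine ⟨h1, ?_⟩
    exact repWith_mono' (fun _ _ a _ ha =>
      isQuasiCompactMor_of_repWith a (repWith_mono (fun _ _ _ hg => hg.1.1) ha)) _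
      (qc_sep_diag_of_quasiSeparated (FibCat.diag f) h2)
  · rintro ⟨h1, h2⟩
    have hrep : AlgSt.RepByAlgSp1 (FibCat.diag f) := repByAlgSp1_of_repWith _ h1
    have h3 : AlgSt.RepByAlgSpWith AlgSp.IsQuasiSeparatedMor (FibCat.diag f) :=
      quasiSeparated_of_qc_diag (FibCat.diag f) hrep h2
    exact repWith_and_left _ _ isoInv_qc schemeTestable_qc (FibCat.diag f) h1 h3

end dd

end Groth.Agent.Lib.AlgStLocQ
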