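import Groth.Agent.Lib.AlgStDiagRep_lead
import Groth.Agent.Lib.AlgSpLocP_helper7

/-!
# Consequences for the diagonal of a morphism representable by algebraic spaces (lead)
-/

set_option autoImplicit false

universe u

open CategoryTheory CategoryTheory.Limits AlgebraicGeometry Opposite FibCat Stk

namespace Groth.Agent.Lib.AlgStDiagRep

open AlgSt Groth.Agent.Lib.FibCat_helper6 Groth.Agent.Lib.FibCat3_helper6
  Groth.Agent.Lib.FibCat14_helper6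
  Groth.Agent.Lib.AlgStEquivInv Groth.Agent.Lib.OfPshAlgSt
  Groth.Agent.Lib.OfPshWith
  Groth.Agent.Lib.AlgSpQC_helper7 Groth.Agent.Lib.AlgSpDiag_helper7
  Groth.Agent.Lib.AlgSpPullback_helper7
  Groth.Agent.Lib.AlgSpPoints_helper7 Groth.Agent.Lib.AlgSpLocP_helper7
  Groth.Agent.Lib.AlgSpBasic_helper7 Groth.Agent.Lib.AlgSpSep_helper7

variable {S : Scheme.{u}}

theorem ofSpMap_comp {A B D : AlgSp.Sp S} (a : A ⟶ B) (b : B ⟶ D) :
    BasedFunctor.comp (AlgSt.ofSpMap a) (AlgSt.ofSpMap b) = AlgSt.ofSpMap (a ≫ b) := rfl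

theorem ofSpMap_id (A : AlgSp.Sp S) : AlgSt.ofSpMap (𝟙 A) = BasedFunctor.id (AlgSt.ofSp A) := rfl

theorem isEquivOver_ofSpMap_of_isIso {A B : AlgSp.Sp S} (j : A ⟶ B) [IsIso j] :
    IsEquivOver (AlgSt.ofSpMap j) :=
  ⟨AlgSt.ofSpMap (inv j),
    ⟨eqToIso (by rw [ofSpMap_comp, IsIso.hom_inv_id, ofSpMap_id])⟩,
    ⟨eqToIso (by rw [ofSpMap_comp, IsIso.inv_hom_id, ofSpMap_id])⟩⟩

theorem isRepresentable_of_repWith {𝒲 : AlgSt.Cat S} {T : Over S} (R : MorphismProperty Scheme.{u})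
    (E₀ : AlgSp.Space S) (e₀ : AlgSt.ofSp E₀.obj ⥤ᵇ 𝒲) (he₀ : IsEquivOver e₀)
    (p : E₀.obj ⟶ (AlgSp.yon S).obj T) (hp : AlgSp.RepWith R p) : FibCat.IsRepresentable 𝒲 := by
  obtain ⟨W, s, fst, sqA⟩ := hp.rep (𝟙 _)
  haveI : IsIso fst := sqA.isIso_fst_of_isIso
  have hj : IsEquivOver (AlgSt.ofSpMap fst) := isEquivOver_ofSpMap_of_isIso fst
  have hall : IsEquivOver (BasedFunctor.comp (AlgSt.ofOverCat W)
      (BasedFunctor.comp (AlgSt.ofSpMap fst) e₀)) :=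
    isEquivOver_comp (ofOverCat_isEquivOver W) (isEquivOver_comp hj he₀)
  obtain ⟨F, ⟨η⟩, ⟨ε⟩⟩ := hall
  exact ⟨W, F, isEquivOver_inverse η ε⟩

section stk

variable {𝒳 𝒴 : AlgSt.Cat S}

/-- The four standard properties of the diagonal of a morphism representable by algebraic
spaces, on one representing space. -/
theorem repWith_diag_std (h : 𝒳 ⥤ᵇ 𝒴) (hf : AlgSt.RepByAlgSp1 h) :
    AlgSt.RepByAlgSpWith (AlgSp.RepWith
      (((@LocallyOfFiniteType ⊓ MorphismProperty.monomorphisms Scheme.{u}) ⊓ @IsSeparated) ⊓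
        @LocallyQuasiFinite)) (FibCat.diag h) :=
  repWith_diag_of_repWith ⊤ _ (fun T F₁ hF₁ π₀ _ => by
    obtain ⟨a, b, c, d⟩ := diagonal_properties hF₁ π₀
    exact repWith_inf (repWith_inf (repWith_inf a b) c) d) h ((repByAlgSp1_iff_top h).1 hf)

theorem isRepresentable1_diag (h : 𝒳 ⥤ᵇ 𝒴) (hf : AlgSt.RepByAlgSp1 h) :
    FibCat.IsRepresentable1 (FibCat.diag h) := by
  intro T t
  obtain ⟨E₀, e₀, he₀, hp⟩ := repWith_diag_std h hf T t
  exact isRepresentable_of_repWith _ E₀ e₀ he₀ _ hp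

theorem isMono_diag (h : 𝒳 ⥤ᵇ 𝒴) (hf : AlgSt.RepByAlgSp1 h) : AlgSt.IsMono (FibCat.diag h) :=
  repWith_mono' (fun _ _ a _ ha =>
    mono_of_repWith_le_mono (fun _ _ _ hg => hg.1.1.2) a ha) _ (repWith_diag_std h hf)

theorem isSeparatedMor_diag (h : 𝒳 ⥤ᵇ 𝒴) (hf : AlgSt.RepByAlgSp1 h) :
    AlgSt.RepByAlgSpWith AlgSp.IsSeparatedMor (FibCat.diag h) :=
  repWith_mono' (fun _ _ a _ ha =>
    (isSeparatedMor_iff_of_representable a ha.rep).2
      (repWith_mono (fun _ _ _ hg => hg.1.2) ha)) _ (repWith_diag_std h hf)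

theorem isDMMor_of_repByAlgSp1 (h : 𝒳 ⥤ᵇ 𝒴) (hf : AlgSt.RepByAlgSp1 h) : AlgSt.IsDMMor h := by
  have hE : ∀ ⦃A B : Scheme.{u}⦄ (g : A ⟶ B), Etale g →
      (@LocallyOfFiniteType ⊓ @FormallyUnramified : MorphismProperty Scheme.{u}) g :=
    fun A B g hg => ⟨inferInstance, inferInstance⟩
  refine repWith_mono' (fun _ _ a _ ha => ?_) _ (repWith_diag_std h hf)
  refine locP_of_repWith (@LocallyOfFiniteType ⊓ @FormallyUnramified) hE a
    (repWith_mono (fun _ _ g hg => ?_) ha)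
  have h1 : LocallyOfFiniteType g := hg.1.1.1
  have h2 : Mono g := hg.1.1.2
  exact ⟨h1, inferInstance⟩

end stk

end Groth.Agent.Lib.AlgStDiagRep
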