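import Groth.Agent.Lib.AlgStBC_lead
import Groth.Agent.Lib.FibCatRelDiag_lead
import Groth.Prelude.Def_AlgSt3

/-!
# `𝒳 ×_𝒵 𝒴 ⟶ 𝒳 ×_𝒯 𝒴` inherits the properties of the diagonal of `𝒵 ⟶ 𝒯` (lead)
-/

set_option autoImplicit false

universe u

open CategoryTheory CategoryTheory.Limits AlgebraicGeometry Opposite FibCat

namespace Groth.Agent.Lib.AlgStRelDiag

open AlgSt Groth.Agent.Lib.AlgStBC Groth.Agent.Lib.FibCatRelDiag

variable {S : Scheme.{u}}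

theorem repWith_relI {𝒳 𝒴 𝒵 𝒯 : AlgSt.Cat S} (P : MorphismProperty (AlgSp.Sp S))
    (f : 𝒳 ⥤ᵇ 𝒵) (g : 𝒴 ⥤ᵇ 𝒵) (t : 𝒵 ⥤ᵇ 𝒯)
    (e : BasedFunctor.comp (fpFst f g) (BasedFunctor.comp f t) ≅
      BasedFunctor.comp (fpSnd f g) (BasedFunctor.comp g t))
    (he : ∀ x, e.hom.toNatTrans.app x = t.map x.obj.iso.hom)
    (h : RepByAlgSpWith P (diag t)) :
    RepByAlgSpWith P (fpLift (fpFst f g) (fpSnd f g) e) :=
  repWith_of_twoCart P (g := Psi f g t) (f := diag t) (relI f g t e)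
    (BasedFunctor.comp (fpFst f g) f) (sqIso f g t e he) (relBC_isEquivOver f g t e he) h

end Groth.Agent.Lib.AlgStRelDiag
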