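import Groth.Agent.Lib.OfPshWith2_lead
import Groth.Agent.Lib.AlgStRelDiag_lead
import Groth.Agent.Lib.AlgSpLocP4_helper7
import Groth.Agent.Lib.AlgSpLocP5_helper7
import Groth.Agent.Lib.AlgSpLocP7_helper7
import Groth.Agent.Lib.AlgSpQC2_helper7
import Groth.Agent.Lib.AlgSpSep_helper7
import Groth.Agent.Lib.AlgSpFpqc_helper7
import Groth.Agent.Lib.AlgSpDiag_helper7
import Groth.Agent.Lib.AlgSpQC_helper7

/-!
# Diagonals of composites: DM, quasi-DM, separated, quasi-separated morphisms compose (lead)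
-/

set_option autoImplicit false

universe u

open CategoryTheory CategoryTheory.Limits AlgebraicGeometry Opposite FibCat Stk

namespace Groth.Agent.Lib.OfPshWith

open AlgSt Groth.Agent.Lib.FibCat_helper6 Groth.Agent.Lib.FibCat3_helper6
  Groth.Agent.Lib.FibCat14_helper6 Groth.Agent.Lib.AlgStBC
  Groth.Agent.Lib.AlgStEquiv Groth.Agent.Lib.LiftSqBC Groth.Agent.Lib.LiftSqComp
  Groth.Agent.Lib.AlgSpLocP4_helper7 Groth.Agent.Lib.AlgSpLocP5_helper7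
  Groth.Agent.Lib.AlgSpLocP7_helper7 Groth.Agent.Lib.AlgSpQC2_helper7
  Groth.Agent.Lib.AlgSpSep_helper7 Groth.Agent.Lib.AlgSpFpqc_helper7
  Groth.Agent.Lib.AlgSpDiag_helper7 Groth.Agent.Lib.AlgSpQC_helper7

variable {S : Scheme.{u}}

/-- From `RepBySpWith`, every pullback square in sheaves over a scheme has `Q`. -/
theorem sq_of_repBySpWith (Q : MorphismProperty (AlgSp.Sp S)) {V Z₀ : AlgSp.Sp S} (a : V ⟶ Z₀)
    (ha : AlgSp.RepBySpWith Q a.hom) (Z : Over S) (g : (AlgSp.yon S).obj Z ⟶ Z₀)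
    (P : AlgSp.Sp S) (fst : P ⟶ V) (snd : P ⟶ (AlgSp.yon S).obj Z)
    (sq : IsPullback fst snd a g) : AlgSp.IsAlgSpace P ∧ Q snd := by
  have sq' : IsPullback fst.hom snd.hom a.hom g.hom :=
    sq.map (sheafToPresheaf (AlgSp.J S) (Type (u + 1)))
  obtain ⟨hs, hA, hq⟩ := ha g.hom fst.hom snd.hom sq'
  exact ⟨hA, hq⟩

/-! ### Proper morphisms -/

theorem schemeTestable_isProperMor :
    SchemeTestable (AlgSp.IsProperMor : MorphismProperty (AlgSp.Sp S)) := by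
  intro V Z₀ a hV hZ₀ ha
  exact isProperMor_of_forall_affine hV hZ₀ a
    (fun Z _ g P fst snd sq => (sq_of_repBySpWith _ a ha Z g P fst snd sq).2)

theorem isoInv_isProperMor : IsoInv (AlgSp.IsProperMor : MorphismProperty (AlgSp.Sp S)) :=
  isoInv_of_bc _ (fun _ _ _ _ hX₁ hY₁ _ hY₂ _ _ _ _ sq ha =>
    isProperMor_of_isPullback hX₁ hY₁ hY₂ sq ha)

/-! ### Quasi-compact and quasi-separated morphisms -/

theorem schemeTestable_qcqs :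
    SchemeTestable (AlgSp.IsQuasiCompactMor ⊓ AlgSp.IsQuasiSeparatedMor :
      MorphismProperty (AlgSp.Sp S)) := by
  intro V Z₀ a hV hZ₀ ha
  refine ⟨?_, ?_⟩
  · refine isQuasiCompactMor_of_forall_affine hV hZ₀.diag a fun Z hZ g P fst snd sq => ?_
    haveI := hZ
    have : CompactSpace ↥Z.left := inferInstance
    exact (sq_of_repBySpWith _ a ha Z g P fst snd sq).2.1 (AlgSp.IsAlgSpace.yon_obj Z)
      (isQuasiCompactSp_yon Z) (𝟙 _) (𝟙 _) snd (IsPullback.of_horiz_isIso ⟨by simp⟩)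
  · refine repWith_diagonal_of_forall_affine _ a (diagonal_properties hV a).1.rep ?_
    intro T _ g
    exact ⟨_, _, _, IsPullback.of_hasPullback a g,
      (sq_of_repBySpWith _ a ha T g _ _ _ (IsPullback.of_hasPullback a g)).2.2⟩

theorem isoInv_qcqs :
    IsoInv (AlgSp.IsQuasiCompactMor ⊓ AlgSp.IsQuasiSeparatedMor :
      MorphismProperty (AlgSp.Sp S)) :=
  isoInv_of_bc _ (fun _ _ _ _ _ _ _ _ _ _ _ _ sq ha =>
    ⟨isQuasiCompactMor_of_isPullback sq ha.1, isQuasiSeparatedMor_of_isPullback sq ha.2⟩)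

/-! ### Properties read on etale charts -/

theorem schemeTestable_locP (R : MorphismProperty Scheme.{u}) [IsZariskiLocalAtTarget R] :
    SchemeTestable (AlgSp.LocP R : MorphismProperty (AlgSp.Sp S)) := by
  intro V Z₀ a hV hZ₀ ha
  exact locP_of_forall_affine R a
    (fun Z _ g P fst snd sq => (sq_of_repBySpWith _ a ha Z g P fst snd sq).2)

theorem isoInv_locP (R : MorphismProperty Scheme.{u}) [R.IsStableUnderBaseChange]
    (hR : EtLocal R) : IsoInv (AlgSp.LocP R : MorphismProperty (AlgSp.Sp S)) :=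
  isoInv_of_bc _ (fun _ _ _ _ hX₁ hY₁ _ hY₂ a b a' b' sq ha =>
    locP_baseChange hR hX₁ hY₁ hY₂ a b b' a' sq ha)

section stk

variable {𝒳 𝒴 𝒵 : AlgSt.Cat S}

/-- If the diagonals of `f` and `g` have `P`, so does the diagonal of `g ∘ f`. -/
theorem repWith_diag_comp (h𝒳 : IsFibGrpd 𝒳.p) (h𝒴 : IsFibGrpd 𝒴.p)
    (P : MorphismProperty (AlgSp.Sp S)) (hI : IsoInv P) (hL : SchemeTestable P)
    (hPc : ∀ ⦃X Y Z : AlgSp.Sp S⦄, AlgSp.IsAlgSpace X → AlgSp.IsAlgSpace Y → AlgSp.IsAlgSpace Z →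
      ∀ (a : X ⟶ Y) (b : Y ⟶ Z), P a → P b → P (a ≫ b))
    (f : 𝒳 ⥤ᵇ 𝒴) (g : 𝒴 ⥤ᵇ 𝒵) (hf : AlgSt.RepByAlgSpWith P (FibCat.diag f))
    (hg : AlgSt.RepByAlgSpWith P (FibCat.diag g)) :
    AlgSt.RepByAlgSpWith P (FibCat.diag (BasedFunctor.comp f g)) := by
  let e : BasedFunctor.comp (fpFst f f) (BasedFunctor.comp f g) ≅
      BasedFunctor.comp (fpSnd f f) (BasedFunctor.comp f g) :=
    whiskerRightIso (fpIso f f) g
  have he : ∀ x, e.hom.toNatTrans.app x = g.map x.obj.iso.hom := fun x => rfl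
  have h1 : AlgSt.RepByAlgSpWith P (fpLift (fpFst f f) (fpSnd f f) e) :=
    Groth.Agent.Lib.AlgStRelDiag.repWith_relI P f f g e he hg
  have hfp : IsFibGrpd (fp f f).p :=
    Groth.Agent.Lib.FibCat12_helper6.isFibGrpd_fp f f h𝒳 h𝒳 h𝒴
  have h2 := repWith_comp' h𝒳 hfp P hI hL hPc (FibCat.diag f)
    (fpLift (fpFst f f) (fpSnd f f) e) hf h1
  have ι : BasedFunctor.comp (FibCat.diag f) (fpLift (fpFst f f) (fpSnd f f) e) ≅
      FibCat.diag (BasedFunctor.comp f g) :=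
    isoMk2 (BasedFunctor.comp f g) (BasedFunctor.comp f g)
      (H := BasedFunctor.comp (FibCat.diag f) (fpLift (fpFst f f) (fpSnd f f) e))
      (K := FibCat.diag (BasedFunctor.comp f g)) (Iso.refl _) (Iso.refl _) (fun x => by
        show (BasedFunctor.comp f g).toFunctor.map (𝟙 x) ≫ 𝟙 _ =
          g.toFunctor.map (𝟙 (f.toFunctor.obj x)) ≫ (BasedFunctor.comp f g).toFunctor.map (𝟙 x)
        rw [g.toFunctor.map_id, (BasedFunctor.comp f g).toFunctor.map_id, Category.comp_id,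
          Category.id_comp])
  exact repWith_of_iso P ι h2

theorem isSeparatedMor_comp (h𝒳 : IsFibGrpd 𝒳.p) (h𝒴 : IsFibGrpd 𝒴.p) (f : 𝒳 ⥤ᵇ 𝒴) (g : 𝒴 ⥤ᵇ 𝒵)
    (hf : AlgSt.IsSeparatedMor f) (hg : AlgSt.IsSeparatedMor g) :
    AlgSt.IsSeparatedMor (BasedFunctor.comp f g) :=
  repWith_diag_comp h𝒳 h𝒴 _ isoInv_isProperMor schemeTestable_isProperMor
    (fun _ _ _ hX hY hZ a b ha hb => isProperMor_comp hX hY hZ a b ha hb) f g hf hg

theorem isQuasiSeparatedMor_comp (h𝒳 : IsFibGrpd 𝒳.p) (h𝒴 : IsFibGrpd 𝒴.p) (f : 𝒳 ⥤ᵇ 𝒴)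
    (g : 𝒴 ⥤ᵇ 𝒵) (hf : AlgSt.IsQuasiSeparatedMor f) (hg : AlgSt.IsQuasiSeparatedMor g) :
    AlgSt.IsQuasiSeparatedMor (BasedFunctor.comp f g) :=
  repWith_diag_comp h𝒳 h𝒴 _ isoInv_qcqs schemeTestable_qcqs
    (fun _ _ _ _ hY hZ a b ha hb =>
      ⟨isQuasiCompactMor_comp hY hZ.diag a b ha.1 hb.1,
        Groth.Agent.Lib.AlgSpQC2_helper7.isQuasiSeparatedMor_comp a b ha.2 hb.2⟩) f g hf hg

theorem locP_diag_comp (h𝒳 : IsFibGrpd 𝒳.p) (h𝒴 : IsFibGrpd 𝒴.p)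
    (R : MorphismProperty Scheme.{u}) [R.IsStableUnderBaseChange] [R.IsStableUnderComposition]
    [IsZariskiLocalAtTarget R] (hR : EtLocal R) (f : 𝒳 ⥤ᵇ 𝒴) (g : 𝒴 ⥤ᵇ 𝒵)
    (hf : AlgSt.RepByAlgSpWith (AlgSp.LocP R) (FibCat.diag f))
    (hg : AlgSt.RepByAlgSpWith (AlgSp.LocP R) (FibCat.diag g)) :
    AlgSt.RepByAlgSpWith (AlgSp.LocP R) (FibCat.diag (BasedFunctor.comp f g)) :=
  repWith_diag_comp h𝒳 h𝒴 _ (isoInv_locP R hR) (schemeTestable_locP R)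
    (fun _ _ _ hX hY hZ a b ha hb => locP_comp hR hX hY hZ a b ha hb) f g hf hg

theorem isDMMor_comp (h𝒳 : IsFibGrpd 𝒳.p) (h𝒴 : IsFibGrpd 𝒴.p) (f : 𝒳 ⥤ᵇ 𝒴) (g : 𝒴 ⥤ᵇ 𝒵)
    (hf : AlgSt.IsDMMor f) (hg : AlgSt.IsDMMor g) : AlgSt.IsDMMor (BasedFunctor.comp f g) :=
  locP_diag_comp h𝒳 h𝒴 _ etLocal_unramified f g hf hg

theorem isQuasiDMMor_comp (h𝒳 : IsFibGrpd 𝒳.p) (h𝒴 : IsFibGrpd 𝒴.p) (f : 𝒳 ⥤ᵇ 𝒴) (g : 𝒴 ⥤ᵇ 𝒵)
    (hf : AlgSt.IsQuasiDMMor f) (hg : AlgSt.IsQuasiDMMor g) :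
    AlgSt.IsQuasiDMMor (BasedFunctor.comp f g) :=
  locP_diag_comp h𝒳 h𝒴 _ etLocal_locallyQuasiFinite f g hf hg

end stk

end Groth.Agent.Lib.OfPshWith
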