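import Groth.Agent.Lib.FibCatDiagSec_lead
import Groth.Agent.Lib.OfPshWith5_lead
import Groth.Agent.Lib.AlgSpRepBySp_helper7
import Groth.Agent.Lib.AlgSpPullback_helper7
import Groth.Agent.Lib.AlgSpBasic_helper7
import Mathlib.AlgebraicGeometry.Morphisms.FormallyUnramified

/-!
# The diagonal of a morphism representable by algebraic spaces (lead)
-/

set_option autoImplicit false

universe u

open CategoryTheory CategoryTheory.Limits AlgebraicGeometry Opposite FibCat Stk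

namespace Groth.Agent.Lib.AlgStDiagRep

open AlgSt Groth.Agent.Lib.FibCat_helper6 Groth.Agent.Lib.FibCat3_helper6
  Groth.Agent.Lib.FibCat14_helper6 Groth.Agent.Lib.FibCatPaste Groth.Agent.Lib.FibCatSwap
  Groth.Agent.Lib.FibCatIsoFun
  Groth.Agent.Lib.OfPshCalc Groth.Agent.Lib.AlgStBC
  Groth.Agent.Lib.AlgStEquiv Groth.Agent.Lib.AlgStEquivP Groth.Agent.Lib.AlgStEquivInv
  Groth.Agent.Lib.OfPshAlgSt Groth.Agent.Lib.LiftSqBC Groth.Agent.Lib.LiftSqComp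
  Groth.Agent.Lib.OfPshWith Groth.Agent.Lib.FibCatDiagSec
  Groth.Agent.Lib.AlgSpQC_helper7 Groth.Agent.Lib.AlgSpDiag_helper7
  Groth.Agent.Lib.AlgSpPullback_helper7 Groth.Agent.Lib.AlgSpRepBySp_helper7
  Groth.Agent.Lib.AlgSpPoints_helper7

variable {S : Scheme.{u}}

/-- For a functor `π₁` between categories of presheaves, the diagonal of `π₁` corresponds to the
diagonal of the associated map of presheaves. -/
theorem repWith_ofPshMap_diagonal_iff (P : MorphismProperty (AlgSp.Sp S))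
    {F₀ B₀ D₀ : AlgSp.PSp S} (π₁ : Stk.ofPsh F₀ ⥤ᵇ Stk.ofPsh B₀) {fst snd : D₀ ⟶ F₀}
    (sq : IsPullback fst snd (mapOf π₁) (mapOf π₁)) (δ₀ : F₀ ⟶ D₀) (h1 : δ₀ ≫ fst = 𝟙 _)
    (h2 : δ₀ ≫ snd = 𝟙 _) :
    AlgSt.RepByAlgSpWith P (Stk.ofPshMap δ₀) ↔ AlgSt.RepByAlgSpWith P (FibCat.diag π₁) := by
  let G : Stk.ofPsh D₀ ⥤ᵇ fp π₁ π₁ :=
    BasedFunctor.comp (pbFun sq)
      (BasedFunctor.comp (isoFun (Stk.ofPshMap (mapOf π₁)) (isoOf π₁).symm)
        (isoFun₁ (isoOf π₁).symm π₁))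
  have hG : IsEquivOver G :=
    isEquivOver_comp (pbFun_isEquivOver sq)
      (isEquivOver_comp (isoFun_isEquivOver _ _) (isoFun₁_isEquivOver _ _))
  have hG0 := hG
  obtain ⟨G', ⟨η⟩, ⟨ε⟩⟩ := hG0
  have hG' : IsEquivOver G' := isEquivOver_inverse η ε
  let Ψ : Stk.ofPsh F₀ ⥤ᵇ Stk.ofPsh D₀ := BasedFunctor.comp (FibCat.diag π₁) G'
  have iso1 : BasedFunctor.comp Ψ (Stk.ofPshMap fst) ≅ BasedFunctor.id (Stk.ofPsh F₀) :=
    whiskerLeftIso (FibCat.diag π₁) (whiskerRightIso ε (fpFst π₁ π₁))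
  have iso1' : BasedFunctor.comp Ψ (Stk.ofPshMap snd) ≅ BasedFunctor.id (Stk.ofPsh F₀) :=
    whiskerLeftIso (FibCat.diag π₁) (whiskerRightIso ε (fpSnd π₁ π₁))
  have hΨ : mapOf Ψ = δ₀ := by
    apply sq.hom_ext
    · rw [h1]
      have e1 : mapOf Ψ ≫ fst = mapOf (BasedFunctor.comp Ψ (Stk.ofPshMap fst)) := by
        rw [mapOf_comp, mapOf_ofPshMap]
      rw [e1, mapOf_congr iso1, mapOf_id]
    · rw [h2]
      have e1 : mapOf Ψ ≫ snd = mapOf (BasedFunctor.comp Ψ (Stk.ofPshMap snd)) := by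
        rw [mapOf_comp, mapOf_ofPshMap]
      rw [e1, mapOf_congr iso1', mapOf_id]
  have iso2 : BasedFunctor.comp Ψ G ≅ FibCat.diag π₁ := whiskerLeftIso (FibCat.diag π₁) ε
  constructor
  · intro hδ
    rw [← hΨ] at hδ
    exact repWith_of_iso P iso2
      (repWith_postcomp_equiv P Ψ G hG (repWith_of_iso P (isoOf Ψ).symm hδ))
  · intro hd
    rw [← hΨ]
    exact repWith_of_iso P (isoOf Ψ) (repWith_postcomp_equiv P (FibCat.diag π₁) G' hG' hd)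

/-- The diagonal is insensitive to an equivalence of the source. -/
theorem repWith_diag_precomp_equiv_iff (P : MorphismProperty (AlgSp.Sp S)) {𝒲 ℰ ℬ : AlgSt.Cat S}
    (L : 𝒲 ⥤ᵇ ℰ) (hL : IsEquivOver L) (π : ℰ ⥤ᵇ ℬ) :
    AlgSt.RepByAlgSpWith P (FibCat.diag π) ↔
      AlgSt.RepByAlgSpWith P (FibCat.diag (BasedFunctor.comp L π)) :=
  repWith_equiv_square P (FibCat.diag π) (FibCat.diag (BasedFunctor.comp L π)) L (lamb L π) hL
    (lamb_isEquivOver L π hL) (lambIso L π)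

theorem repBySpWith_repWith_of_repWith (R : MorphismProperty Scheme.{u}) {A D : AlgSp.Sp S}
    (hA : AlgSp.IsAlgSpace A) (hD : AlgSp.IsAlgSpace D) (d : A ⟶ D) (hd : AlgSp.RepWith R d) :
    AlgSp.RepBySpWith (AlgSp.RepWith R) d.hom := by
  intro U ξ F' fst snd sq
  obtain ⟨hs, hAlg⟩ := repBySp_of_isAlgSpaceP ((AlgSp.isAlgSpaceP_obj_iff A).2 hA)
    ((AlgSp.isAlgSpaceP_obj_iff D).2 hD) d.hom ξ fst snd sq
  refine ⟨hs, hAlg, ?_⟩
  have sq' : IsPullback (ObjectProperty.homMk fst : (⟨F', hs⟩ : AlgSp.Sp S) ⟶ A)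
      (ObjectProperty.homMk snd : (⟨F', hs⟩ : AlgSp.Sp S) ⟶ (AlgSp.yon S).obj U) d
      (ObjectProperty.homMk ξ : (AlgSp.yon S).obj U ⟶ D) := isPullback_sheaf sq
  exact repWith_snd_of_isPullback R sq' hd

theorem repWith_mono' {𝒳 𝒴 : AlgSt.Cat S} {P P' : MorphismProperty (AlgSp.Sp S)}
    (hPP : ∀ ⦃X : AlgSp.Sp S⦄ ⦃U : Over S⦄ (a : X ⟶ (AlgSp.yon S).obj U),
      AlgSp.IsAlgSpace X → P a → P' a) (f : 𝒳 ⥤ᵇ 𝒴)
    (h : AlgSt.RepByAlgSpWith P f) : AlgSt.RepByAlgSpWith P' f := fun U y => by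
  obtain ⟨F, e, he, hp⟩ := h U y
  exact ⟨F, e, he, hPP _ F.property hp⟩

/-- The diagonal of a morphism representable by algebraic spaces with `Q`: it has every property
`RepWith R` which the diagonals of morphisms of algebraic spaces with `Q` have. -/
theorem repWith_diag_of_repWith {𝒳 𝒴 : AlgSt.Cat S} (Q : MorphismProperty (AlgSp.Sp S))
    (R : MorphismProperty Scheme.{u})
    (hΔ : ∀ ⦃T : Over S⦄ ⦃F₁ : AlgSp.Sp S⦄, AlgSp.IsAlgSpace F₁ →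
      ∀ π₀ : F₁ ⟶ (AlgSp.yon S).obj T, Q π₀ → AlgSp.RepWith R (pullback.diagonal π₀))
    (h : 𝒳 ⥤ᵇ 𝒴) (hQ : AlgSt.RepByAlgSpWith Q h) :
    AlgSt.RepByAlgSpWith (AlgSp.RepWith R) (FibCat.diag h) := by
  intro T t
  let y₀ : FibCat.overCat T ⥤ᵇ 𝒴 :=
    BasedFunctor.comp (BasedFunctor.comp t (fpFst h h)) h
  let y' : AlgSt.ofSch T ⥤ᵇ 𝒴 := BasedFunctor.comp (AlgSt.toOverCat T) y₀
  obtain ⟨F₁, e₁, he₁, hQ₁⟩ := hQ T (BasedFunctor.comp (AlgSt.ofOverCat T) y')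
  let π₀ : F₁.obj ⟶ (AlgSp.yon S).obj T :=
    AlgSt.spMapOfOver (BasedFunctor.comp e₁ (fpFst (BasedFunctor.comp (AlgSt.ofOverCat T) y') h))
  let e : AlgSt.ofSp F₁.obj ⥤ᵇ fp y' h :=
    BasedFunctor.comp e₁ (precomp₁ (AlgSt.ofOverCat T) y' h)
  have he : IsEquivOver e :=
    isEquivOver_comp he₁ (precomp₁_isEquivOver (AlgSt.ofOverCat T) (ofOverCat_isEquivOver T) y' h)
  let π₁ : Stk.ofPsh F₁.obj.obj ⥤ᵇ Stk.ofPsh ((AlgSp.pyon S).obj T) :=
    BasedFunctor.comp e (fpFst y' h)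
  have hπ₁ : mapOf π₁ = π₀.hom := by
    have e2 : π₁ = BasedFunctor.comp (BasedFunctor.comp e₁
        (fpFst (BasedFunctor.comp (AlgSt.ofOverCat T) y') h)) (AlgSt.ofOverCat T) := by
      show BasedFunctor.comp e₁
        (BasedFunctor.comp (precomp₁ (AlgSt.ofOverCat T) y' h) (fpFst y' h)) = _
      rw [precomp₁_comp_fpFst]
      rfl
    rw [e2]
    exact (spMapOfOver_hom
      (BasedFunctor.comp e₁ (fpFst (BasedFunctor.comp (AlgSt.ofOverCat T) y') h))).symm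
  have sqS := IsPullback.of_hasPullback π₀ π₀
  have hD : AlgSp.IsAlgSpace (pullback π₀ π₀) :=
    isAlgSpace_of_isPullback (AlgSp.IsAlgSpace.yon_obj T).diag F₁.property F₁.property sqS
  have hδ : AlgSp.RepWith R (pullback.diagonal π₀) := hΔ F₁.property π₀ hQ₁
  have r4 := repBySpWith_repWith_of_repWith R F₁.property hD (pullback.diagonal π₀) hδ
  have r5 : AlgSt.RepByAlgSpWith (AlgSp.RepWith R) (Stk.ofPshMap (pullback.diagonal π₀).hom) :=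
    repByAlgSpWith_of_repBySpWith _ _ r4
  have sq : IsPullback (pullback.fst π₀ π₀).hom (pullback.snd π₀ π₀).hom (mapOf π₁) (mapOf π₁) := by
    rw [hπ₁]
    exact sqS.map (sheafToPresheaf (AlgSp.J S) (Type (u + 1)))
  have h1 : (pullback.diagonal π₀).hom ≫ (pullback.fst π₀ π₀).hom = 𝟙 _ :=
    congrArg (fun m => m.hom) (pullback.diagonal_fst π₀)
  have h2 : (pullback.diagonal π₀).hom ≫ (pullback.snd π₀ π₀).hom = 𝟙 _ :=
    congrArg (fun m => m.hom) (pullback.diagonal_snd π₀)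
  have r6 : AlgSt.RepByAlgSpWith (AlgSp.RepWith R) (FibCat.diag π₁) :=
    (repWith_ofPshMap_diagonal_iff _ π₁ sq (pullback.diagonal π₀).hom h1 h2).1 r5
  have r7 : AlgSt.RepByAlgSpWith (AlgSp.RepWith R) (FibCat.diag (fpFst y' h)) :=
    (repWith_diag_precomp_equiv_iff _ e he (fpFst y' h)).2 r6
  have ι₀ : BasedFunctor.comp (AlgSt.ofOverCat T) (AlgSt.toOverCat T) ≅
      BasedFunctor.id (FibCat.overCat T) := Iso.refl _
  let α : BasedFunctor.comp (AlgSt.ofOverCat T) y' ≅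
      BasedFunctor.comp (BasedFunctor.comp t (fpFst h h)) h := whiskerRightIso ι₀ y₀
  obtain ⟨Ξ, hΞ, ⟨i⟩⟩ := exists_equiv_diag h t y' (AlgSt.ofOverCat T) α
  obtain ⟨E₀, e₀, he₀, hP₀⟩ := r7 T (sig h t y' (AlgSt.ofOverCat T) α)
  refine ⟨E₀, BasedFunctor.comp e₀ Ξ, isEquivOver_comp he₀ hΞ, ?_⟩
  have iso : BasedFunctor.comp (BasedFunctor.comp e₀ Ξ) (fpFst t (FibCat.diag h)) ≅
      BasedFunctor.comp e₀ (fpFst (sig h t y' (AlgSt.ofOverCat T) α) (FibCat.diag (fpFst y' h))) :=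
    whiskerLeftIso e₀ i
  rw [spMapOfOver_congr iso.hom]
  exact hP₀

end Groth.Agent.Lib.AlgStDiagRep
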