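import Groth.Agent.Lib.AlgStAtlas_lead

/-!
# 2-fibre products of algebraic stacks are algebraic; charts over a given chart (lead)
-/

set_option autoImplicit false

universe u

open CategoryTheory CategoryTheory.Limits AlgebraicGeometry Opposite FibCat Stk

namespace Groth.Agent.Lib.AlgStAtlas

open AlgSt Groth.Agent.Lib.FibCat_helper6 Groth.Agent.Lib.FibCat3_helper6
  Groth.Agent.Lib.FibCat14_helper6 Groth.Agent.Lib.FibCat12_helper6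
  Groth.Agent.Lib.FibCatPaste Groth.Agent.Lib.FibCatSwap
  Groth.Agent.Lib.FibCatIsoFun
  Groth.Agent.Lib.OfPshCalc Groth.Agent.Lib.AlgStBC
  Groth.Agent.Lib.AlgStEquiv Groth.Agent.Lib.AlgStEquivP Groth.Agent.Lib.AlgStEquivInv
  Groth.Agent.Lib.OfPshAlgSt Groth.Agent.Lib.LiftSqBC Groth.Agent.Lib.LiftSqComp
  Groth.Agent.Lib.OfPshWith Groth.Agent.Lib.FibCatDiagSec Groth.Agent.Lib.AlgStDiagRep
  Groth.Agent.Lib.FibCatDiagBC Groth.Agent.Lib.FibCatMagic Groth.Agent.Lib.FibCatProd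
  Groth.Agent.Lib.AlgStDiag Groth.Agent.Lib.AlgStLocal
  Groth.Agent.Lib.AlgSpQC_helper7 Groth.Agent.Lib.AlgSpDiag_helper7
  Groth.Agent.Lib.AlgSpPullback_helper7 Groth.Agent.Lib.AlgSpRepBySp_helper7
  Groth.Agent.Lib.AlgSpPoints_helper7 Groth.Agent.Lib.AlgSpLocP_helper7
  Groth.Agent.Lib.AlgSpBasic_helper7 Groth.Agent.Lib.AlgSpSep_helper7
  Groth.Agent.Lib.AlgSpLocP4_helper7 Groth.Agent.Lib.AlgSpLocP5_helper7
  Groth.Agent.Lib.AlgSpLocP7_helper7 Groth.Agent.Lib.AlgSpQC2_helper7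
  Groth.Agent.Lib.AlgSpLocP8_helper7 Groth.Agent.Lib.AlgSpLocP10_helper7
  Groth.Agent.Lib.AlgSpFpqc3_helper7 Groth.Agent.Lib.AlgSpLocP6_helper7
  Groth.Agent.Lib.AlgSpFpqc2_helper7 Groth.Agent.Lib.AlgSpFpqc_helper7
  Groth.Agent.Lib.AlgSpProper_helper7 Groth.Agent.Lib.AlgSpAffineMorH7
  Groth.Agent.StkEquiv Groth.Agent.StkFp

variable {S : Scheme.{u}} {𝒳 𝒴 𝒵 : AlgSt.Cat S}

theorem repByAlgSp1_diag_toSelf_of_diag (h𝒳 : IsFibGrpd 𝒳.p) (h𝒴 : IsFibGrpd 𝒴.p)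
    (j : 𝒳 ⥤ᵇ 𝒴) (hΔj : AlgSt.RepByAlgSp1 (FibCat.diag j))
    (hΔ : AlgSt.RepByAlgSp1 (FibCat.diag (toSelf 𝒴))) :
    AlgSt.RepByAlgSp1 (FibCat.diag (toSelf 𝒳)) := by
  have h3 := repWith_diag_comp h𝒳 h𝒴 ⊤ isoInv_top schemeTestable_top
    (fun _ _ _ _ _ _ _ _ _ _ => trivial) j (toSelf 𝒴) ((repByAlgSp1_iff_top _).1 hΔj)
    ((repByAlgSp1_iff_top _).1 hΔ)
  rw [comp_toSelf_eq j] at h3
  exact (repByAlgSp1_iff_top _).2 h3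

/-- The diagonal of a morphism between categories whose diagonals over the base are
representable by algebraic spaces is representable by algebraic spaces. -/
theorem repByAlgSp1_diag_of_diag (h𝒴 : IsFibGrpd 𝒴.p) (h𝒵 : IsFibGrpd 𝒵.p)
    (hΔ𝒴 : AlgSt.RepByAlgSp1 (FibCat.diag (toSelf 𝒴)))
    (hΔ𝒵 : AlgSt.RepByAlgSp1 (FibCat.diag (toSelf 𝒵))) (g : 𝒴 ⥤ᵇ 𝒵) :
    AlgSt.RepByAlgSp1 (FibCat.diag g) := by
  have h1 : AlgSt.RepByAlgSp1 (relJ g (toSelf 𝒵)) := repByAlgSp1_relJ g (toSelf 𝒵) hΔ𝒵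
  have h2 : AlgSt.RepByAlgSpWith ⊤ (FibCat.diag (relJ g (toSelf 𝒵))) :=
    repWith_mono' (fun _ _ _ _ _ => trivial) _ (repWith_diag_std _ h1)
  have h3 : AlgSt.RepByAlgSpWith ⊤ (FibCat.diag (BasedFunctor.comp g (toSelf 𝒵))) := by
    rw [comp_toSelf_eq g]
    exact (repByAlgSp1_iff_top _).1 hΔ𝒴
  have h4 := repWith_diag_of_comp g (toSelf 𝒵) h𝒴 h𝒵 isFibGrpd_selfOver ⊤ isoInv_top
    schemeTestable_top (fun _ _ _ _ _ _ _ _ _ _ => trivial) h3 h2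
  exact (repByAlgSp1_iff_top _).2 h4

/-- Atlases of 2-fibre products. -/
theorem hasAtlas_fp (Q : MorphismProperty (AlgSp.Sp S)) (hI : IsoInv Q) (hL : SchemeTestable Q)
    (hQc : ∀ ⦃X Y Z : AlgSp.Sp S⦄, AlgSp.IsAlgSpace X → AlgSp.IsAlgSpace Y → AlgSp.IsAlgSpace Z →
      ∀ (a : X ⟶ Y) (b : Y ⟶ Z), Q a → Q b → Q (a ≫ b))
    (hQsp : ∀ {𝒜 : AlgSt.Cat S}, AlgSt.RepByAlgSp 𝒜 → AlgSt.HasAtlas Q 𝒜)
    (h𝒳 : IsFibGrpd 𝒳.p) (h𝒴 : IsFibGrpd 𝒴.p) (h𝒵 : IsFibGrpd 𝒵.p)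
    (hΔ : AlgSt.RepByAlgSp1 (FibCat.diag (toSelf 𝒵))) (f : 𝒳 ⥤ᵇ 𝒵) (g : 𝒴 ⥤ᵇ 𝒵)
    (hX : AlgSt.HasAtlas Q 𝒳) (hY : AlgSt.HasAtlas Q 𝒴) : AlgSt.HasAtlas Q (fp f g) := by
  obtain ⟨U, u, hu₁, hu₂⟩ := hX
  obtain ⟨V, v, hv₁, hv₂⟩ := hY
  have hU : IsFibGrpd (FibCat.overCat U).p := isFibGrpd_over_forget U
  have hV : IsFibGrpd (FibCat.overCat V).p := isFibGrpd_over_forget V
  have h𝒲 : IsFibGrpd (fp f g).p := isFibGrpd_fp f g h𝒳 h𝒴 h𝒵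
  have h𝒲₁ : IsFibGrpd (fp u (fpFst f g)).p := isFibGrpd_fp u (fpFst f g) hU h𝒲 h𝒳
  have h𝒲₂ : IsFibGrpd (fp v (BasedFunctor.comp (fpSnd u (fpFst f g)) (fpSnd f g))).p :=
    isFibGrpd_fp v (BasedFunctor.comp (fpSnd u (fpFst f g)) (fpSnd f g)) hV h𝒲₁ h𝒴
  have huf : AlgSt.RepByAlgSpWith ⊤ (BasedFunctor.comp u f) :=
    (repByAlgSp1_iff_top _).1 ((repByAlgSp1_diag_iff h𝒵).1 hΔ U (BasedFunctor.comp u f))
  have hc' : AlgSt.RepByAlgSpWith ⊤ (BasedFunctor.comp (paste u f g)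
      (BasedFunctor.comp (fpSnd u (fpFst f g)) (fpSnd f g))) :=
    repWith_fpSnd ⊤ (BasedFunctor.comp u f) g huf
  have hc : AlgSt.RepByAlgSp1 (BasedFunctor.comp (fpSnd u (fpFst f g)) (fpSnd f g)) :=
    (repByAlgSp1_iff_top _).2
      (repWith_cancel_equiv ⊤ (paste u f g) (paste_isEquivOver u f g) _ hc')
  have hrep : AlgSt.RepByAlgSp (fp v (BasedFunctor.comp (fpSnd u (fpFst f g)) (fpSnd f g))) :=
    repByAlgSp_fp h𝒲₁ h𝒴 _ v hc (repByAlgSp_overCat V)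
  have hat₂ := hQsp hrep
  have hat₁ : AlgSt.HasAtlas Q (fp u (fpFst f g)) :=
    hasAtlas_comp Q hI hL hQc h𝒲₂ (fpSnd v _) (repWith_fpSnd Q v _ hv₁) (repWith_fpSnd _ v _ hv₂)
      hat₂
  exact hasAtlas_comp Q hI hL hQc h𝒲₁ (fpSnd u (fpFst f g)) (repWith_fpSnd Q u _ hu₁)
    (repWith_fpSnd _ u _ hu₂) hat₁

/-- The 2-fibre product of algebraic stacks over a stack with representable diagonal is an
algebraic stack. -/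
theorem isAlgStack_fp {K : Precoverage Scheme.{u}} (h𝒵 : Stk.IsStack (QuotSh.J K S) 𝒵)
    (hΔ : AlgSt.RepByAlgSp1 (FibCat.diag (toSelf 𝒵))) (h𝒳 : AlgSt.IsAlgStack K 𝒳)
    (h𝒴 : AlgSt.IsAlgStack K 𝒴) (f : 𝒳 ⥤ᵇ 𝒵) (g : 𝒴 ⥤ᵇ 𝒵) :
    AlgSt.IsAlgStack K (fp f g) := by
  have hfib : IsFibGrpd (fp f g).p := isFibGrpd_fp f g h𝒳.isStack.1 h𝒴.isStack.1 h𝒵.1
  have hpre : Stk.IsPrestack (QuotSh.J K S) 𝒵 := ⟨h𝒵.1, fun U R hR => by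
    have hE : (Stk.resSieve R 𝒵).IsEquivalence := h𝒵.2 R hR
    exact ⟨hE.full, hE.faithful⟩⟩
  refine ⟨Groth.Agent.StkFp.isStack_fp f g _ h𝒳.isStack h𝒴.isStack hpre, ?_, ?_⟩
  · have hΔg := repByAlgSp1_diag_of_diag h𝒴.isStack.1 h𝒵.1 h𝒴.diag hΔ g
    have hΔfst : AlgSt.RepByAlgSp1 (FibCat.diag (fpFst f g)) :=
      (repByAlgSp1_iff_top _).2
        (repWith_diag_baseChange ⊤ g f ((repByAlgSp1_iff_top _).1 hΔg))
    exact repByAlgSp1_diag_toSelf_of_diag hfib h𝒳.isStack.1 (fpFst f g) hΔfst h𝒳.diag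
  · exact hasAtlas_fp _ (isoInv_locP _ etLocal_smooth) (schemeTestable_locP _) comp_locP_smooth
      (fun h => (hasAtlas_of_repByAlgSp h).2) h𝒳.isStack.1 h𝒴.isStack.1 h𝒵.1 hΔ f g
      h𝒳.atlas h𝒴.atlas

theorem isDM_fp {K : Precoverage Scheme.{u}} (h𝒳 : AlgSt.IsDM K 𝒳) (h𝒴 : AlgSt.IsDM K 𝒴)
    (h𝒵 : AlgSt.IsAlgStack K 𝒵) (f : 𝒳 ⥤ᵇ 𝒵) (g : 𝒴 ⥤ᵇ 𝒵) : AlgSt.IsDM K (fp f g) :=
  ⟨isAlgStack_fp h𝒵.isStack h𝒵.diag h𝒳.1 h𝒴.1 f g,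
    hasAtlas_fp _ isoInv_isEtaleMor schemeTestable_isEtaleMor comp_isEtaleMor
      (fun h => (hasAtlas_of_repByAlgSp h).1) h𝒳.1.isStack.1 h𝒴.1.isStack.1 h𝒵.isStack.1
      h𝒵.diag f g h𝒳.2 h𝒴.2⟩

theorem isDM_selfOver : AlgSt.IsDM Scheme.fppfPrecoverage (selfOver (Over S)) :=
  isDM_of_repByAlgSp isFibGrpd_selfOver repByAlgSp_selfOver

theorem isAlgStack_prod (h𝒳 : AlgSt.IsAlgStack Scheme.fppfPrecoverage 𝒳)
    (h𝒴 : AlgSt.IsAlgStack Scheme.fppfPrecoverage 𝒴) :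
    AlgSt.IsAlgStack Scheme.fppfPrecoverage (fp (toSelf 𝒳) (toSelf 𝒴)) :=
  isAlgStack_fp (isDM_selfOver (S := S)).1.isStack (isDM_selfOver (S := S)).1.diag h𝒳 h𝒴
    (toSelf 𝒳) (toSelf 𝒴)

/-- Every functor `(Sch/U) ⟶ (Sch/V)` over `(Sch/S)` is given by a morphism `U ⟶ V`. -/
theorem exists_overMap_iso {U V : Over S} (Φ : FibCat.overCat U ⥤ᵇ FibCat.overCat V) :
    ∃ a : U ⟶ V, Nonempty (Φ ≅ AlgSt.overMap a) := by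
  obtain ⟨a, ha⟩ := (AlgSp.yon S).map_surjective
    (AlgSt.spMapOfOver (BasedFunctor.comp (AlgSt.toOverCat U) Φ))
  refine ⟨a, ⟨?_⟩⟩
  have i1 : BasedFunctor.comp (BasedFunctor.comp (AlgSt.toOverCat U) Φ) (AlgSt.ofOverCat V) ≅
      Stk.ofPshMap (mapOf (BasedFunctor.comp (BasedFunctor.comp (AlgSt.toOverCat U) Φ)
        (AlgSt.ofOverCat V))) := isoOf _
  have e2 : Stk.ofPshMap (mapOf (BasedFunctor.comp (BasedFunctor.comp (AlgSt.toOverCat U) Φ)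
      (AlgSt.ofOverCat V))) = AlgSt.ofSpMap ((AlgSp.yon S).map a) := by
    rw [ha]
    exact congrArg Stk.ofPshMap (spMapOfOver_hom _).symm
  have i3 : BasedFunctor.comp (AlgSt.ofOverCat U) (BasedFunctor.comp (BasedFunctor.comp
      (BasedFunctor.comp (AlgSt.toOverCat U) Φ) (AlgSt.ofOverCat V)) (AlgSt.toOverCat V)) ≅
      BasedFunctor.comp (AlgSt.ofOverCat U)
        (BasedFunctor.comp (AlgSt.ofSpMap ((AlgSp.yon S).map a)) (AlgSt.toOverCat V)) :=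
    whiskerLeftIso (AlgSt.ofOverCat U) (whiskerRightIso (i1 ≪≫ eqToIso e2) (AlgSt.toOverCat V))
  exact i3

/-- A smooth surjective chart of `𝒳` over a given smooth surjective chart of `𝒴`. -/
theorem exists_chart_over (h𝒳 : AlgSt.IsAlgStack Scheme.fppfPrecoverage 𝒳)
    (h𝒴 : AlgSt.IsAlgStack Scheme.fppfPrecoverage 𝒴) (f : 𝒳 ⥤ᵇ 𝒴) (V : Over S)
    (y : FibCat.overCat V ⥤ᵇ 𝒴) (hy : AlgSt.RepByAlgSpWith (AlgSp.LocP @Smooth) y)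
    (hy' : AlgSt.RepByAlgSpWith AlgSp.IsSurjectiveMor y) :
    ∃ (U : Over S) (a : U ⟶ V) (x : FibCat.overCat U ⥤ᵇ 𝒳),
      AlgSt.RepByAlgSpWith (AlgSp.LocP @Smooth) x ∧ AlgSt.RepByAlgSpWith AlgSp.IsSurjectiveMor x ∧
        Nonempty (BasedFunctor.comp x f ≅ BasedFunctor.comp (AlgSt.overMap a) y) := by
  have hV : IsFibGrpd (FibCat.overCat V).p := isFibGrpd_over_forget V
  have hfib : IsFibGrpd (fp y f).p := isFibGrpd_fp y f hV h𝒳.isStack.1 h𝒴.isStack.1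
  have hat : AlgSt.HasAtlas (AlgSp.LocP @Smooth) (fp y f) :=
    hasAtlas_fp _ (isoInv_locP _ etLocal_smooth) (schemeTestable_locP _) comp_locP_smooth
      (fun h => (hasAtlas_of_repByAlgSp h).2) hV h𝒳.isStack.1 h𝒴.isStack.1 h𝒴.diag y f
      (hasAtlas_of_repByAlgSp (repByAlgSp_overCat V)).2 h𝒳.atlas
  obtain ⟨U, x', hx'₁, hx'₂⟩ := hat
  have hU : IsFibGrpd (FibCat.overCat U).p := isFibGrpd_over_forget U
  obtain ⟨a, ⟨ι⟩⟩ := exists_overMap_iso (BasedFunctor.comp x' (fpFst y f))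
  refine ⟨U, a, BasedFunctor.comp x' (fpSnd y f), ?_, ?_, ⟨?_⟩⟩
  · exact repWith_comp' hU hfib _ (isoInv_locP _ etLocal_smooth) (schemeTestable_locP _)
      comp_locP_smooth x' (fpSnd y f) hx'₁ (repWith_fpSnd _ y f hy)
  · exact repWith_comp' hU hfib _ isoInv_isSurjectiveMor schemeTestable_isSurjectiveMor
      comp_isSurjectiveMor x' (fpSnd y f) hx'₂ (repWith_fpSnd _ y f hy')
  · exact whiskerLeftIso x' (fpIso y f).symm ≪≫ whiskerRightIso ι y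

end Groth.Agent.Lib.AlgStAtlas
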