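import Groth.Agent.Lib.AlgStGenIso_lead

/-! # Quasi-compactness of the diagonal from generic isomorphisms, main theorem (lead) -/

set_option autoImplicit false
set_option linter.style.haveILetI false
set_option backward.isDefEq.respectTransparency false
set_option backward.isDefEq.respectTransparency.types false

universe w v₁ v₂ v₃ v₄ v₅ v₆ u₁ u₂ u₃ u₄ u₅ u₆ u

open CategoryTheory CategoryTheory.Limits AlgebraicGeometry Opposite FibCat Stk

namespace Groth.Agent.Lib.AlgStLocQ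

open AlgSt Groth.Agent.Lib.FibCat_helper6 Groth.Agent.Lib.FibCat3_helper6
  Groth.Agent.Lib.FibCat14_helper6 Groth.Agent.Lib.FibCat12_helper6
  Groth.Agent.Lib.FibCatPaste Groth.Agent.Lib.FibCatSwap
  Groth.Agent.Lib.FibCatIsoFun
  Groth.Agent.Lib.OfPshCalc Groth.Agent.Lib.AlgStBC
  Groth.Agent.Lib.AlgStEquiv Groth.Agent.Lib.AlgStEquivP Groth.Agent.Lib.AlgStEquivInv
  Groth.Agent.Lib.OfPshAlgSt Groth.Agent.Lib.LiftSqBC Groth.Agent.Lib.LiftSqComp
  Groth.Agent.Lib.OfPshWith Groth.Agent.Lib.FibCatDiagSec Groth.Agent.Lib.AlgStDiagRep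
  Groth.Agent.Lib.FibCatDiagBC Groth.Agent.Lib.FibCatMagic Groth.Agent.Lib.FibCatProd
  Groth.Agent.Lib.AlgStDiag Groth.Agent.Lib.AlgStLocal
  Groth.Agent.Lib.AlgSpQC_helper7 Groth.Agent.Lib.AlgSpDiag_helper7
  Groth.Agent.Lib.AlgSpPullback_helper7 Groth.Agent.Lib.AlgSpRepBySp_helper7
  Groth.Agent.Lib.AlgSpPoints_helper7 Groth.Agent.Lib.AlgSpLocP_helper7
  Groth.Agent.Lib.AlgSpBasic_helper7 Groth.Agent.Lib.AlgSpSep_helper7
  Groth.Agent.Lib.AlgSpLocP4_helper7 Groth.Agent.Lib.AlgSpLocP5_helper7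
  Groth.Agent.Lib.AlgSpLocP7_helper7 Groth.Agent.Lib.AlgSpQC2_helper7
  Groth.Agent.Lib.AlgSpLocP8_helper7 Groth.Agent.Lib.AlgSpLocP10_helper7
  Groth.Agent.Lib.AlgSpFpqc3_helper7 Groth.Agent.Lib.AlgSpLocP6_helper7
  Groth.Agent.Lib.AlgSpFpqc2_helper7 Groth.Agent.Lib.AlgSpFpqc_helper7
  Groth.Agent.Lib.AlgSpProper_helper7 Groth.Agent.Lib.AlgSpAffineMorH7
  Groth.Agent.Lib.AlgStAtlas Groth.Agent.Lib.AlgStPoints Groth.Agent.Lib.AlgStPtsCmp
  Groth.Agent.Lib.FibCatYoneda_helper6 Groth.Agent.Lib.AlgSpFieldFlat_helper7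

variable {S : Scheme.{u}} {𝒳 : AlgSt.Cat S}

set_option maxHeartbeats 3200000 in
/-- S15358. -/
theorem repWith_qc_diag_of_generic_iso [IsLocallyNoetherian S]
    (h𝒳 : AlgSt.IsAlgStack Scheme.fppfPrecoverage 𝒳)
    (hlfp : ∀ (U : Over S) (x : FibCat.overCat U ⥤ᵇ 𝒳),
      AlgSt.RepByAlgSpWith (AlgSp.LocP @Smooth) x → LocallyOfFinitePresentation U.hom)
    (hi : ∀ (U : Over S), IsAffine U.left → ∀ (x : FibCat.overCat U ⥤ᵇ 𝒳),
      ∃ (F : AlgSp.Space S) (e : AlgSt.ofSp F.obj ⥤ᵇ FibCat.fp (FibCat.fpLift x x (Iso.refl _)) (FibCat.diag (FibCat.toSelf 𝒳))),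
        FibCat.IsEquivOver e ∧
          AlgSp.IsQuasiCompactMor (AlgSt.spMapOfOver (BasedFunctor.comp e (FibCat.fpFst _ _))))
    (hii : ∀ (U : Over S), IsAffine U.left → IsIntegral U.left → ∀ (x y : FibCat.overCat U ⥤ᵇ 𝒳)
      (D : Set ↥U.left), Dense D →
      (∀ t ∈ D, ∃ (L : Type u) (_ : Field L) (g : Spec (CommRingCat.of L) ⟶ U.left), Set.range g.base = {t} ∧
        Nonempty (BasedFunctor.comp (AlgSt.overMap (Over.homMk g rfl : Over.mk (g ≫ U.hom) ⟶ U)) x ≅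
          BasedFunctor.comp (AlgSt.overMap (Over.homMk g rfl : Over.mk (g ≫ U.hom) ⟶ U)) y)) →
      ∃ V : U.left.Opens, Dense (V : Set ↥U.left) ∧
        Nonempty (BasedFunctor.comp (AlgSt.overMap (Over.homMk V.ι rfl : Over.mk (V.ι ≫ U.hom) ⟶ U)) x ≅
          BasedFunctor.comp (AlgSt.overMap (Over.homMk V.ι rfl : Over.mk (V.ι ≫ U.hom) ⟶ U)) y)) :
    AlgSt.RepByAlgSpWith AlgSp.IsQuasiCompactMor (FibCat.diag (FibCat.toSelf 𝒳)) := by
  have h𝒳g : IsFibGrpd 𝒳.p := h𝒳.isStack.1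
  have h𝒫g : IsFibGrpd (fp (toSelf 𝒳) (toSelf 𝒳)).p :=
    Groth.Agent.Lib.FibCat12_helper6.isFibGrpd_prod h𝒳g h𝒳g
  have hPb : ∀ ⦃X₁ Y₁ X₂ Y₂ : AlgSp.Sp S⦄, AlgSp.IsAlgSpace X₁ → AlgSp.IsAlgSpace Y₁ →
      AlgSp.IsAlgSpace X₂ → AlgSp.IsAlgSpace Y₂ →
      ∀ (a : X₁ ⟶ Y₁) (b : Y₂ ⟶ Y₁) (a' : X₂ ⟶ Y₂) (b' : X₂ ⟶ X₁),
      IsPullback b' a' a b → AlgSp.IsQuasiCompactMor a → AlgSp.IsQuasiCompactMor a' :=
    fun _ _ _ _ _ _ _ _ _ _ _ _ sq ha => isQuasiCompactMor_of_isPullback sq ha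
  obtain ⟨U₀, x₀, hx₀, hx₀'⟩ := h𝒳.atlas
  have hU₀a := isAlgStack_overCat U₀
  have hU₀g : IsFibGrpd (FibCat.overCat U₀).p := isFibGrpd_over_forget U₀
  have hWW := isAlgStack_prod hU₀a hU₀a
  have hWWg : IsFibGrpd (fp (toSelf (FibCat.overCat U₀)) (toSelf (FibCat.overCat U₀))).p :=
    Groth.Agent.Lib.FibCat12_helper6.isFibGrpd_prod hU₀g hU₀g
  obtain ⟨G, g, hg, hg'⟩ := hWW.atlas
  have hGg : IsFibGrpd (FibCat.overCat G).p := isFibGrpd_over_forget G
  -- `G` is locally Noetherian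
  have hIl : IsoInv (AlgSp.LocP @LocallyOfFinitePresentation : MorphismProperty (AlgSp.Sp S)) :=
    isoInv_locP _ etLocal_locallyOfFinitePresentation
  have hLl : SchemeTestable
      (AlgSp.LocP @LocallyOfFinitePresentation : MorphismProperty (AlgSp.Sp S)) :=
    schemeTestable_locP _
  have hU₀lfp : @LocallyOfFinitePresentation U₀.left S U₀.hom := hlfp U₀ x₀ hx₀
  haveI hU₀N : IsLocallyNoetherian U₀.left :=
    @LocallyOfFiniteType.isLocallyNoetherian U₀.left S U₀.hom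
      (by haveI := hU₀lfp; infer_instance) inferInstance
  obtain ⟨a₀, ha₀⟩ : ∃ a₀ : U₀ ⟶ Over.mk (𝟙 S), LocallyOfFinitePresentation a₀.left :=
    ⟨Over.homMk U₀.hom (Category.comp_id _), hU₀lfp⟩
  have h1 : AlgSp.LocP @LocallyOfFinitePresentation ((AlgSp.yon S).map a₀) :=
    locP_yon_map_of @LocallyOfFinitePresentation
      (fun _ _ g (_ : Etale g) => (inferInstance : LocallyOfFinitePresentation g)) a₀ ha₀
  have h2 : AlgSt.RepByAlgSpWith (AlgSp.LocP @LocallyOfFinitePresentation) (AlgSt.overMap a₀) :=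
    repWith_overMap _ (bc_locP _ etLocal_locallyOfFinitePresentation) a₀ h1
  have h3 : AlgSt.RepByAlgSpWith (AlgSp.LocP @LocallyOfFinitePresentation)
      (BasedFunctor.comp (AlgSt.overMap a₀) (toSelf (FibCat.overCat (Over.mk (𝟙 S))))) :=
    repWith_postcomp_equiv _ _ _
      (toSelf_overCat_isEquivOver (Over.mk (𝟙 S)) Over.mkIdTerminal) h2
  rw [comp_toSelf_eq] at h3
  have h4 : AlgSt.RepByAlgSpWith (AlgSp.LocP @LocallyOfFinitePresentation)
      (fpFst (toSelf (FibCat.overCat U₀)) (toSelf (FibCat.overCat U₀))) :=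
    repWith_baseChange _ (toSelf (FibCat.overCat U₀)) (toSelf (FibCat.overCat U₀)) h3
  have h5 : AlgSt.RepByAlgSpWith (AlgSp.LocP @LocallyOfFinitePresentation)
      (BasedFunctor.comp g (fpFst (toSelf (FibCat.overCat U₀)) (toSelf (FibCat.overCat U₀)))) :=
    repWith_comp' hGg hWWg _ hIl hLl comp_locP_lfp g _ (repWith_lfp_of_smooth g hg) h4
  obtain ⟨γ, ⟨ιγ⟩⟩ := exists_overMap_iso
    (BasedFunctor.comp g (fpFst (toSelf (FibCat.overCat U₀)) (toSelf (FibCat.overCat U₀))))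
  have h6 : AlgSp.LocP @LocallyOfFinitePresentation ((AlgSp.yon S).map γ) :=
    prop_of_repWith_overMap _ hIl hLl γ (repWith_of_iso _ ιγ h5)
  haveI hγ : LocallyOfFinitePresentation γ.left := AlgSp.locP_yon_map h6
  haveI hGN : IsLocallyNoetherian G.left := LocallyOfFiniteType.isLocallyNoetherian γ.left
  -- the covering of `𝒳 × 𝒳`
  have hIf : IsoInv (AlgSp.LocP @Flat : MorphismProperty (AlgSp.Sp S)) :=
    isoInv_locP _ etLocal_flat
  have hLf : SchemeTestable (AlgSp.LocP @Flat : MorphismProperty (AlgSp.Sp S)) :=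
    schemeTestable_locP _
  have hz₁ : AlgSt.RepByAlgSpWith (AlgSp.LocP @Flat)
      (Groth.Agent.Lib.FibCatMagic.prodMap x₀ x₀) :=
    repWith_prod hU₀g hU₀g h𝒳g _ (bc_locP _ etLocal_flat)
      (fun _ _ _ hX hY hZ a b ha hb => locP_comp etLocal_flat hX hY hZ a b ha hb)
      (isLocalOnBase_fppf_of_fpqc' isLocalOnBase_fpqc_locP_flat) x₀ x₀
      (repWith_flat_of_smooth x₀ hx₀) (repWith_flat_of_smooth x₀ hx₀) _
  have hz₂ : AlgSt.RepByAlgSpWith (AlgSp.LocP @LocallyOfFinitePresentation)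
      (Groth.Agent.Lib.FibCatMagic.prodMap x₀ x₀) :=
    repWith_prod hU₀g hU₀g h𝒳g _ (bc_locP _ etLocal_locallyOfFinitePresentation)
      (fun _ _ _ hX hY hZ a b ha hb =>
        locP_comp etLocal_locallyOfFinitePresentation hX hY hZ a b ha hb)
      (isLocalOnBase_fppf_of_fpqc' isLocalOnBase_fpqc_locP_locallyOfFinitePresentation)
      x₀ x₀ (repWith_lfp_of_smooth x₀ hx₀) (repWith_lfp_of_smooth x₀ hx₀) _
  have hz₃ : AlgSt.RepByAlgSpWith AlgSp.IsSurjectiveMor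
      (Groth.Agent.Lib.FibCatMagic.prodMap x₀ x₀) :=
    repWith_prod hU₀g hU₀g h𝒳g _
      (fun _ _ _ _ _ _ _ _ _ _ _ _ sq ha => isSurjectiveMor_of_isPullback sq ha)
      (fun _ _ _ _ _ _ a b ha hb => isSurjectiveMor_comp a b ha hb)
      isLocalOnBase_fppf_isSurjectiveMor x₀ x₀ hx₀' hx₀' _
  have hgp₁ : AlgSt.RepByAlgSpWith (AlgSp.LocP @Flat)
      (BasedFunctor.comp g (Groth.Agent.Lib.FibCatMagic.prodMap x₀ x₀)) :=
    repWith_comp' hGg hWWg _ hIf hLf comp_locP_flat g _ (repWith_flat_of_smooth g hg) hz₁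
  have hgp₂ : AlgSt.RepByAlgSpWith (AlgSp.LocP @LocallyOfFinitePresentation)
      (BasedFunctor.comp g (Groth.Agent.Lib.FibCatMagic.prodMap x₀ x₀)) :=
    repWith_comp' hGg hWWg _ hIl hLl comp_locP_lfp g _ (repWith_lfp_of_smooth g hg) hz₂
  have hgp₃ : AlgSt.RepByAlgSpWith AlgSp.IsSurjectiveMor
      (BasedFunctor.comp g (Groth.Agent.Lib.FibCatMagic.prodMap x₀ x₀)) :=
    repWith_comp' hGg hWWg _ isoInv_isSurjectiveMor schemeTestable_isSurjectiveMor
      comp_isSurjectiveMor g _ hg' hz₃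
  obtain ⟨w', hw'⟩ : ∃ w' : FibCat.overCat G ⥤ᵇ fp (toSelf 𝒳) (toSelf 𝒳),
      BasedFunctor.comp g (Groth.Agent.Lib.FibCatMagic.prodMap x₀ x₀) = w' := ⟨_, rfl⟩
  rw [hw'] at hgp₁ hgp₂ hgp₃
  have hw₁ := repWith_toOverCat_comp _ w' hgp₁
  have hw₂ := repWith_toOverCat_comp _ w' hgp₂
  have hw₃ := repWith_toOverCat_comp _ w' hgp₃
  let Gs : AlgSp.Space S := (AlgSp.ofScheme S).obj G
  have hΔtop : AlgSt.RepByAlgSpWith ⊤ (FibCat.diag (toSelf 𝒳)) :=
    (repByAlgSp1_iff_top _).1 h𝒳.diag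
  obtain ⟨V, a, e, he, ⟨i⟩, -⟩ :=
    exists_space_of_repWith' h𝒳g h𝒫g ⊤ isoInv_top schemeTestable_top
      (FibCat.diag (toSelf 𝒳)) hΔtop Gs (BasedFunctor.comp (AlgSt.toOverCat G) w')
  have hGC : GenComp (V := G) a.hom := by
    intro A _ _ sA t P fst snd sq hD
    obtain ⟨(V' : (Spec (CommRingCat.of A)).Opens), hV'd, ⟨ιV'⟩⟩ :=
      hii (Over.mk sA) (inferInstance : IsAffine (Spec (CommRingCat.of A)))
        (inferInstance : IsIntegral (Spec (CommRingCat.of A)))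
        (BasedFunctor.comp (BasedFunctor.comp (AlgSt.overMap t) w')
          (fpFst (toSelf 𝒳) (toSelf 𝒳)))
        (BasedFunctor.comp (BasedFunctor.comp (AlgSt.overMap t) w')
          (fpSnd (toSelf 𝒳) (toSelf 𝒳)))
        (Set.range (toBase snd)) hD (fun p hp => by
          obtain ⟨ξ, rfl⟩ := hp
          obtain ⟨L, _, sL, m, rfl⟩ := mk_surjective' ξ
          obtain ⟨gO, hgO⟩ := (AlgSp.yon S).map_surjective (m ≫ snd)
          obtain ⟨g₀, hg₀, rfl⟩ : ∃ (g₀ : Spec (CommRingCat.of L) ⟶ Spec (CommRingCat.of A))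
              (h : g₀ ≫ sA = sL), gO = Over.homMk g₀ h :=
            ⟨gO.left, Over.w gO, Over.OverMorphism.ext rfl⟩
          subst hg₀
          have hpt : toBase snd (AlgSp.Points.mk (ofHom m)) =
              g₀ (IsLocalRing.closedPoint L) := by
            apply ofScheme_injective (Over.mk sA)
            rw [ofScheme_toBase, map_mk_ofHom, ← hgO]
            exact (ofScheme_eq_mk_ofHom (Over.mk sA)
              (Over.homMk g₀ rfl : Over.mk (g₀ ≫ sA) ⟶ Over.mk sA)).symm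
          refine ⟨L, inferInstance, g₀, ?_, ?_⟩
          · rw [hpt]
            ext q
            constructor
            · rintro ⟨b, rfl⟩
              have hb : b = IsLocalRing.closedPoint L :=
                Subsingleton.elim (α := PrimeSpectrum L) b (IsLocalRing.closedPoint L)
              rw [hb]
              exact Set.mem_singleton _
            · intro hq
              exact ⟨IsLocalRing.closedPoint L, (Set.mem_singleton_iff.1 hq).symm⟩
          · have hsec : a.hom.hom.app (op (Over.mk (g₀ ≫ sA)))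
                (Groth.Agent.Lib.AlgStMono.yE (m ≫ fst)) =
                ULift.up ((Over.homMk g₀ rfl : Over.mk (g₀ ≫ sA) ⟶ Over.mk sA) ≫ t) := by
              have h0 : (m ≫ fst) ≫ a.hom = (AlgSp.yon S).map
                  ((Over.homMk g₀ rfl : Over.mk (g₀ ≫ sA) ⟶ Over.mk sA) ≫ t) := by
                rw [Category.assoc, sq.w, ← Category.assoc, ← hgO, ← Functor.map_comp]
              exact (congrArg Groth.Agent.Lib.AlgStMono.yE h0).trans (yE_yon_map _)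
            have hE1 : EssIm (FibCat.diag (toSelf 𝒳)) (w'.obj (Over.mk (a.hom.hom.app
                (op (Over.mk (g₀ ≫ sA))) (Groth.Agent.Lib.AlgStMono.yE (m ≫ fst))).down)) :=
              essIm_of_section (FibCat.diag (toSelf 𝒳))
                (BasedFunctor.comp (AlgSt.toOverCat G) w') a e i
                ⟨Over.mk (g₀ ≫ sA), Groth.Agent.Lib.AlgStMono.yE (m ≫ fst)⟩
            rw [hsec] at hE1
            have e3 : w'.obj ((Over.map t).obj ((Over.map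
                (Over.homMk g₀ rfl : Over.mk (g₀ ≫ sA) ⟶ Over.mk sA)).obj (Over.mk (𝟙 _)))) ≅
                w'.obj (Over.mk ((Over.homMk g₀ rfl : Over.mk (g₀ ≫ sA) ⟶ Over.mk sA) ≫ t)) :=
              w'.toFunctor.mapIso (Over.isoMk (Iso.refl _) (by simp))
            obtain ⟨yT, ⟨ιT⟩⟩ := exists_lift_of_essIm h𝒳g h𝒫g (FibCat.diag (toSelf 𝒳))
              (BasedFunctor.comp (AlgSt.overMap
                (Over.homMk g₀ rfl : Over.mk (g₀ ≫ sA) ⟶ Over.mk sA))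
                (BasedFunctor.comp (AlgSt.overMap t) w'))
              ((essIm_closed _).of_iso e3.symm hE1)
            have ι₁ : yT ≅ BasedFunctor.comp (BasedFunctor.comp (AlgSt.overMap
                (Over.homMk g₀ rfl : Over.mk (g₀ ≫ sA) ⟶ Over.mk sA))
                (BasedFunctor.comp (AlgSt.overMap t) w')) (fpFst (toSelf 𝒳) (toSelf 𝒳)) :=
              whiskerRightIso ιT (fpFst (toSelf 𝒳) (toSelf 𝒳))
            have ι₂ : yT ≅ BasedFunctor.comp (BasedFunctor.comp (AlgSt.overMap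
                (Over.homMk g₀ rfl : Over.mk (g₀ ≫ sA) ⟶ Over.mk sA))
                (BasedFunctor.comp (AlgSt.overMap t) w')) (fpSnd (toSelf 𝒳) (toSelf 𝒳)) :=
              whiskerRightIso ιT (fpSnd (toSelf 𝒳) (toSelf 𝒳))
            exact ⟨ι₁.symm ≪≫ ι₂⟩)
    have hV'd' : Dense (V' : Set ↥(Spec (CommRingCat.of A))) := hV'd
    haveI : Nonempty ↥(Spec (CommRingCat.of A)) :=
      ⟨(⟨⊥, Ideal.bot_prime⟩ : PrimeSpectrum A)⟩
    obtain ⟨v, hv⟩ := hV'd'.nonempty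
    obtain ⟨W, hW, hvW, hle⟩ : ∃ W : (Spec (CommRingCat.of A)).Opens,
        IsAffineOpen W ∧ v ∈ W ∧ W ≤ V' := by
      obtain ⟨_, ⟨W, hW, rfl⟩, hvW, hWV⟩ :=
        (Spec (CommRingCat.of A)).isBasis_affineOpens.exists_subset_of_mem_open hv V'.isOpen
      exact ⟨W, hW, hvW, hWV⟩
    obtain ⟨k, hkl, ⟨θ''⟩⟩ : ∃ k : Over.mk (W.ι ≫ sA) ⟶ Over.mk sA, k.left = W.ι ∧
        Nonempty (BasedFunctor.comp (AlgSt.overMap k)
          (BasedFunctor.comp (BasedFunctor.comp (AlgSt.overMap t) w')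
            (fpFst (toSelf 𝒳) (toSelf 𝒳))) ≅
          BasedFunctor.comp (AlgSt.overMap k)
            (BasedFunctor.comp (BasedFunctor.comp (AlgSt.overMap t) w')
              (fpSnd (toSelf 𝒳) (toSelf 𝒳)))) := by
      have hw : (Spec (CommRingCat.of A)).homOfLE hle ≫ V'.ι ≫ sA = W.ι ≫ sA := by
        rw [← Category.assoc, Scheme.homOfLE_ι]
      have hjk : (Over.homMk ((Spec (CommRingCat.of A)).homOfLE hle) hw :
          Over.mk (W.ι ≫ sA) ⟶ Over.mk (V'.ι ≫ sA)) ≫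
          (Over.homMk V'.ι rfl : Over.mk (V'.ι ≫ sA) ⟶ Over.mk sA) =
          (Over.homMk W.ι rfl : Over.mk (W.ι ≫ sA) ⟶ Over.mk sA) :=
        Over.OverMorphism.ext (Scheme.homOfLE_ι _ hle)
      refine ⟨Over.homMk W.ι rfl, rfl, ⟨?_⟩⟩
      rw [← hjk, overMap_comp]
      exact whiskerLeftIso (AlgSt.overMap _) ιV'
    have θ₂ : BasedFunctor.comp (BasedFunctor.comp (AlgSt.overMap (k ≫ t)) w')
        (fpFst (toSelf 𝒳) (toSelf 𝒳)) ≅
        BasedFunctor.comp (BasedFunctor.comp (AlgSt.overMap (k ≫ t)) w')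
          (fpSnd (toSelf 𝒳) (toSelf 𝒳)) := by
      rw [overMap_comp]
      exact θ''
    have C3 : AlgSt.RepByAlgSpWith AlgSp.IsQuasiCompactMor
        (fpFst (BasedFunctor.comp (AlgSt.overMap (k ≫ t)) w') (FibCat.diag (toSelf 𝒳))) :=
      repWith_fpFst_diag_of_iso _ hPb _ θ₂ (hi (Over.mk (W.ι ≫ sA)) hW _)
    have C4 := repWith_fpFst_toOverCat _ _ (FibCat.diag (toSelf 𝒳)) C3
    have C5 : AlgSt.RepByAlgSpWith AlgSp.IsQuasiCompactMor (fpFst (BasedFunctor.comp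
        (AlgSt.ofSpMap ((AlgSp.yon S).map (k ≫ t))) (BasedFunctor.comp (AlgSt.toOverCat G) w'))
        (FibCat.diag (toSelf 𝒳))) := C4
    have hq'' : AlgSp.IsQuasiCompactMor (pullback.fst ((AlgSp.yon S).map (k ≫ t)) a.hom) :=
      prop_fst_of_repWith_bc _ isoInv_qc schemeTestable_qc (FibCat.diag (toSelf 𝒳))
        (Z := Gs) (X := V) (W := (AlgSp.ofScheme S).obj (Over.mk (W.ι ≫ sA)))
        (BasedFunctor.comp (AlgSt.toOverCat G) w') a e he i ((AlgSp.ofScheme S).map (k ≫ t)) C5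
    haveI : IsAffine (Over.mk (W.ι ≫ sA)).left := hW
    haveI : CompactSpace ↥(Over.mk (W.ι ≫ sA)).left := inferInstance
    have hP'' : AlgSp.IsAlgSpace (pullback ((AlgSp.yon S).map (k ≫ t)) a.hom) :=
      isAlgSpace_of_isPullback Gs.property.diag (AlgSp.IsAlgSpace.yon_obj _) V.property
        (IsPullback.of_hasPullback _ _)
    have hqsp : AlgSp.IsQuasiCompactSp (pullback ((AlgSp.yon S).map (k ≫ t)) a.hom) :=
      hq'' (AlgSp.IsAlgSpace.yon_obj (Over.mk (W.ι ≫ sA)))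
        (isQuasiCompactSp_yon (Over.mk (W.ι ≫ sA))) (𝟙 _) (𝟙 _) (pullback.fst _ _)
        (IsPullback.of_horiz_isIso ⟨by simp⟩)
    haveI : CompactSpace (AlgSp.Points (pullback ((AlgSp.yon S).map (k ≫ t)) a.hom)) :=
      (isQuasiCompactSp_iff_compactSpace hP'').1 hqsp
    have s' : IsPullback (pullback.snd ((AlgSp.yon S).map (k ≫ t)) a.hom)
        (pullback.fst ((AlgSp.yon S).map (k ≫ t)) a.hom) a.hom
        ((AlgSp.yon S).map k ≫ (AlgSp.yon S).map t) := by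
      rw [← Functor.map_comp]
      exact (IsPullback.of_hasPullback _ _).flip
    have left := IsPullback.of_right' s' sq
    have himg := preimage_image_eq_of_isPullback left
      (Set.univ : Set ↥(Over.mk (W.ι ≫ sA)).left)
    have hWr : (k.left '' (Set.univ : Set ↥(Over.mk (W.ι ≫ sA)).left) :
        Set ↥(Over.mk sA).left) = (W : Set ↥(Spec (CommRingCat.of A))) := by
      rw [hkl, Set.image_univ]
      exact W.range_ι
    have h3 := (congrArg (fun s => toBase snd ⁻¹' s) hWr).symm.trans himg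
    refine ⟨W, ⟨v, hvW⟩, ?_⟩
    refine (congrArg IsCompact h3).mpr ?_
    rw [Set.preimage_univ, Set.image_univ]
    exact isCompact_range (AlgSp.Points.continuous_map _)
  have qc : AlgSp.IsQuasiCompactMor a.hom :=
    isQuasiCompactMor_of_genComp (V := G) V.property a.hom hGC
  exact (repWith_iff_exists_of_cover h𝒳g h𝒫g AlgSp.IsQuasiCompactMor hPb
    (isLocalOnBase_fppf_of_fpqc' isLocalOnBase_fpqc_isQuasiCompactMor)
    (FibCat.diag (toSelf 𝒳)) h𝒳.diag Gs (BasedFunctor.comp (AlgSt.toOverCat G) w')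
    hw₁ hw₂ hw₃).2 ⟨V, a, e, he, ⟨i⟩, qc⟩

end Groth.Agent.Lib.AlgStLocQ
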