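import Groth.Agent.Lib.AlgStLocQ3_lead
import Groth.Agent.Lib.AlgSpLocP9_helper7
import Groth.Agent.Lib.AlgSpNoethDesc_helper7

/-!
# Properties of morphisms of algebraic stacks read on smooth charts: cancellation, descent along
the source, immersions, Noetherian targets (lead)
-/

set_option autoImplicit false

universe w v₁ v₂ v₃ v₄ v₅ v₆ u₁ u₂ u₃ u₄ u₅ u₆ u

open CategoryTheory CategoryTheory.Limits AlgebraicGeometry Opposite FibCat Stk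

namespace Groth.Agent.Lib.AlgStLocQ

open AlgSt Groth.Agent.Lib.FibCat_helper6 Groth.Agent.Lib.FibCat3_helper6
  Groth.Agent.Lib.FibCat14_helper6 Groth.Agent.Lib.FibCat12_helper6
  Groth.Agent.Lib.FibCatPaste Groth.Agent.Lib.FibCatSwap
  Groth.Agent.Lib.FibCatIsoFun
  Groth.Agent.Lib.OfPshCalc Groth.Agent.Lib.AlgStBC
  Groth.Agent.Lib.AlgStEquiv Groth.Agent.Lib.AlgStEquivP Groth.Agent.Lib.AlgStEquivInv
  Groth.Agent.Lib.OfPshAlgSt Groth.Agent.Lib.LiftSqBC Groth.Agent.Lib.LiftSqComp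
  Groth.Agent.Lib.OfPshWith Groth.Agent.Lib.FibCatDiagSec Groth.Agent.Lib.AlgStDiagRep
  Groth.Agent.Lib.FibCatDiagBC Groth.Agent.Lib.FibCatMagic Groth.Agent.Lib.FibCatProd
  Groth.Agent.Lib.AlgStDiag Groth.Agent.Lib.AlgStLocal
  Groth.Agent.Lib.AlgSpQC_helper7 Groth.Agent.Lib.AlgSpDiag_helper7
  Groth.Agent.Lib.AlgSpPullback_helper7 Groth.Agent.Lib.AlgSpRepBySp_helper7
  Groth.Agent.Lib.AlgSpPoints_helper7 Groth.Agent.Lib.AlgSpLocP_helper7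
  Groth.Agent.Lib.AlgSpBasic_helper7 Groth.Agent.Lib.AlgSpSep_helper7
  Groth.Agent.Lib.AlgSpLocP4_helper7 Groth.Agent.Lib.AlgSpLocP5_helper7
  Groth.Agent.Lib.AlgSpLocP7_helper7 Groth.Agent.Lib.AlgSpQC2_helper7
  Groth.Agent.Lib.AlgSpLocP8_helper7 Groth.Agent.Lib.AlgSpLocP10_helper7
  Groth.Agent.Lib.AlgSpFpqc3_helper7 Groth.Agent.Lib.AlgSpLocP6_helper7
  Groth.Agent.Lib.AlgSpFpqc2_helper7 Groth.Agent.Lib.AlgSpFpqc_helper7
  Groth.Agent.Lib.AlgSpProper_helper7 Groth.Agent.Lib.AlgSpAffineMorH7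
  Groth.Agent.Lib.AlgStAtlas Groth.Agent.Lib.AlgStPoints Groth.Agent.Lib.AlgStPtsCmp
  Groth.Agent.Lib.FibCatYoneda_helper6


open Groth.Agent.Lib.AlgSpSmST_helper7 Groth.Agent.Lib.AlgSpSrc_helper7
  Groth.Agent.Lib.SchSrcLocal_helper7 Groth.Agent.Lib.SchSrcLocal2_helper7
  Groth.Agent.Lib.AlgSpLocP9_helper7 Groth.Agent.Lib.AlgSpNoethDesc_helper7

variable {S : Scheme.{u}}

/-! ### smooth locality of the chart-wise classes -/

theorem family_of_single (R : MorphismProperty Scheme.{u}) [IsZariskiLocalAtSource R]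
    (hsrc : ∀ ⦃W U V : Scheme.{u}⦄ (c : W ⟶ U) (h : U ⟶ V), Smooth c → Surjective c →
      R (c ≫ h) → R h)
    {ι : Type u} {U V : Scheme.{u}} (W : ι → Scheme.{u}) (c : ∀ i, W i ⟶ U)
    (h : U ⟶ V) (hc : ∀ i, Smooth (c i)) (hs : ∀ x : U, ∃ i, x ∈ Set.range (c i))
    (hch : ∀ i, R (c i ≫ h)) : R h := by
  let σ : ∐ W ⟶ U := Sigma.desc c
  have hσs : Surjective σ := by
    refine ⟨fun z => ?_⟩
    obtain ⟨j, w, rfl⟩ := hs z
    refine ⟨Sigma.ι W j w, ?_⟩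
    rw [← Scheme.Hom.comp_apply, Sigma.ι_desc]
  have hσe : Smooth σ := IsZariskiLocalAtSource.sigmaDesc hc
  have e : σ ≫ h = Sigma.desc fun i => c i ≫ h := by
    apply Sigma.hom_ext
    intro i
    rw [Sigma.ι_desc, ← Category.assoc, Sigma.ι_desc]
  have h2 : R (σ ≫ h) := by
    rw [e]
    exact IsZariskiLocalAtSource.sigmaDesc hch
  exact hsrc σ h hσe hσs h2

theorem isSmoothLocalST_locP (R : MorphismProperty Scheme.{u}) [R.IsStableUnderBaseChange]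
    [R.IsStableUnderComposition] (hR : EtLocal R)
    (hsm : ∀ ⦃A B : Scheme.{u}⦄ (g : A ⟶ B), Smooth g → R g)
    (hfam : ∀ {ι : Type u} {U V : Scheme.{u}} (W : ι → Scheme.{u}) (c : ∀ i, W i ⟶ U)
      (h : U ⟶ V), (∀ i, Smooth (c i)) → (∀ x : U, ∃ i, x ∈ Set.range (c i)) →
      (∀ i, R (c i ≫ h)) → R h)
    (hbase : AlgSp.IsLocalOnBase (AlgSp.IsFppfCover (S := S)) (AlgSp.LocP R)) :
    AlgSp.IsSmoothLocalST (AlgSp.LocP R : MorphismProperty (AlgSp.Sp S)) := by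
  refine isSmoothLocalST_of _ ?_ ?_ ?_
  · intro ι X Xi g hX hXi hcov Y f hY
    constructor
    · intro hf i
      exact locP_comp hR (hXi i) hX hY (g i) f (locP_mono hsm (g i) (hcov.1 i)) hf
    · intro h
      exact locP_of_cover_source R @Smooth etLocal_smooth
        (fun W c h hc hs hch => hfam W c h hc hs hch) hX f Xi g hXi hcov.1 hcov.2 h
  · intro ι Y Yi g hY hYi hcov X f hX Xi p q hXi sqs
    exact hbase Yi g hY hYi
      ⟨fun i => ⟨locP_mono smooth_le_flat (g i) (hcov.1 i),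
        locP_mono smooth_le_lfp (g i) (hcov.1 i)⟩, hcov.2⟩ f hX Xi p q hXi sqs
  · intro X Y Z hX hY hZ f g hf hg
    exact locP_comp hR hX hY hZ f g hf (locP_mono hsm g hg)

theorem isSmoothLocalST_lft :
    AlgSp.IsSmoothLocalST (AlgSp.LocP @LocallyOfFiniteType : MorphismProperty (AlgSp.Sp S)) :=
  isSmoothLocalST_locP _ etLocal_locallyOfFiniteType
    (fun _ _ g hg => by
      have := smooth_le_lfp g hg
      exact (inferInstance : LocallyOfFiniteType g))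
    (fun W c h hc hs hch => family_of_single _
      (fun _ _ _ c h (_ : Smooth c) (_ : Surjective c) (_ : LocallyOfFiniteType (c ≫ h)) =>
        locallyOfFiniteType_of_comp_smooth_surjective c h) W c h hc hs hch)
    (isLocalOnBase_fppf_of_fpqc' isLocalOnBase_fpqc_locP_locallyOfFiniteType)

theorem isSmoothLocalST_lfp :
    AlgSp.IsSmoothLocalST
      (AlgSp.LocP @LocallyOfFinitePresentation : MorphismProperty (AlgSp.Sp S)) :=
  isSmoothLocalST_locP _ etLocal_locallyOfFinitePresentation smooth_le_lfp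
    (fun W c h hc hs hch => family_of_single _
      (fun _ _ _ c h (_ : Smooth c) (_ : Surjective c)
        (_ : LocallyOfFinitePresentation (c ≫ h)) =>
        locallyOfFinitePresentation_of_comp_smooth_surjective c h) W c h hc hs hch)
    (isLocalOnBase_fppf_of_fpqc' isLocalOnBase_fpqc_locP_locallyOfFinitePresentation)

theorem isSmoothLocalST_flat :
    AlgSp.IsSmoothLocalST (AlgSp.LocP @Flat : MorphismProperty (AlgSp.Sp S)) :=
  isSmoothLocalST_locP _ etLocal_flat smooth_le_flat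
    (fun W c h hc hs hch => flat_of_family W c h (fun i => smooth_le_flat _ (hc i)) hs hch)
    (isLocalOnBase_fppf_of_fpqc' isLocalOnBase_fpqc_locP_flat)

theorem locP_yon_map_of (R : MorphismProperty Scheme.{u}) [R.IsStableUnderBaseChange]
    [R.IsStableUnderComposition] (hE : ∀ ⦃A B : Scheme.{u}⦄ (g : A ⟶ B), Etale g → R g)
    {U V : Over S} (g : U ⟶ V) (h : R g.left) : AlgSp.LocP R ((AlgSp.yon S).map g) :=
  locP_of_repWith R hE _ ((AlgSp.repWith_yon_map_iff R g).2 h)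

theorem isSurjectiveMor_of_isSurjective_ofSpMap {F G : AlgSp.Sp S} (a : F ⟶ G)
    (hs : AlgSt.IsSurjective (AlgSt.ofSpMap a)) : AlgSp.IsSurjectiveMor a := by
  intro z
  obtain ⟨z', rfl⟩ := toSpPoints_surjective z
  obtain ⟨x', rfl⟩ := hs z'
  exact ⟨toSpPoints x', (toSpPoints_map _ x').symm⟩

theorem overMap_id (U : Over S) :
    AlgSt.overMap (𝟙 U) = BasedFunctor.id (FibCat.overCat U) :=
  basedFunctor_ext (Over.mapId_eq U)

theorem isAlgStack_overCat (U : Over S) :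
    AlgSt.IsAlgStack Scheme.fppfPrecoverage (FibCat.overCat U) :=
  (isDM_of_repByAlgSp (𝒳 := FibCat.overCat U) (isFibGrpd_over_forget U)
    (repByAlgSp_overCat U)).1

theorem prop_of_repWith_overMap (P : MorphismProperty (AlgSp.Sp S)) (hI : IsoInv P)
    (hL : SchemeTestable P) {U V : Over S} (b : U ⟶ V)
    (h : AlgSt.RepByAlgSpWith P (AlgSt.overMap b)) : P ((AlgSp.yon S).map b) := by
  have h1 : AlgSt.RepByAlgSpWith P (BasedFunctor.comp (AlgSt.toOverCat U) (AlgSt.overMap b)) :=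
    repWith_precomp_equiv P (AlgSt.toOverCat U) (toOverCat_isEquivOver U) _ h
  have h2 : AlgSt.RepByAlgSpWith P (AlgSt.ofSpMap ((AlgSp.yon S).map b)) :=
    repWith_cancel_postcomp_equiv P (AlgSt.ofSpMap ((AlgSp.yon S).map b)) (AlgSt.toOverCat V)
      (toOverCat_isEquivOver V) h1
  exact prop_of_repWith_ofSp P hI hL ((AlgSp.ofScheme S).map b)
    (AlgSt.ofSpMap ((AlgSp.yon S).map b)) (BasedFunctor.id _) isEquivOver_id (Iso.refl _) h2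

section stk

variable {𝒳 𝒴 𝒵 : AlgSt.Cat S}

/-- The composite of two squares of charts. -/
theorem exists_comp_chart {𝒰 𝒱 𝒲 : AlgSt.Cat S}
    (f : 𝒳 ⥤ᵇ 𝒴) (g : 𝒴 ⥤ᵇ 𝒵) (x : 𝒰 ⥤ᵇ 𝒳) (y : 𝒱 ⥤ᵇ 𝒴) (w : 𝒲 ⥤ᵇ 𝒵)
    (η : 𝒰 ⥤ᵇ 𝒱) (κ : 𝒱 ⥤ᵇ 𝒲)
    (α : BasedFunctor.comp x f ≅ BasedFunctor.comp η y)
    (β : BasedFunctor.comp y g ≅ BasedFunctor.comp κ w)
    (b : 𝒰 ⥤ᵇ 𝒲) (ι₀ : BasedFunctor.comp η κ ≅ b)
    (h𝒰 : IsFibGrpd 𝒰.p) (h𝒱 : IsFibGrpd 𝒱.p)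
    (h𝒲 : IsFibGrpd 𝒲.p) (h𝒳 : IsFibGrpd 𝒳.p) (h𝒴 : IsFibGrpd 𝒴.p) (h𝒵 : IsFibGrpd 𝒵.p) :
    ∃ (x' : 𝒰 ⥤ᵇ 𝒳)
      (γ : BasedFunctor.comp x' (BasedFunctor.comp f g) ≅ BasedFunctor.comp b w),
      ∀ Q : MorphismProperty (AlgSp.Sp S), IsoInv Q → SchemeTestable Q →
        (∀ ⦃X₁ Y₁ Z₁ : AlgSp.Sp S⦄, AlgSp.IsAlgSpace X₁ → AlgSp.IsAlgSpace Y₁ →
          AlgSp.IsAlgSpace Z₁ → ∀ (a : X₁ ⟶ Y₁) (c : Y₁ ⟶ Z₁), Q a → Q c → Q (a ≫ c)) →
        AlgSt.RepByAlgSpWith Q (fpLift x η α) → AlgSt.RepByAlgSpWith Q (fpLift y κ β) →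
        AlgSt.RepByAlgSpWith Q (fpLift x' b γ) := by
  let ℓg : 𝒱 ⥤ᵇ fp g w := fpLift y κ β
  let π : fp g w ⥤ᵇ 𝒴 := fpFst g w
  let ℓf : 𝒰 ⥤ᵇ fp f (BasedFunctor.comp ℓg π) := fpLift x η α
  let Pc : fp f (BasedFunctor.comp ℓg π) ⥤ᵇ fp f π := precomp f π ℓg
  obtain ⟨D, ⟨ηD⟩, ⟨ζD⟩⟩ := paste_isEquivOver f g w
  have hD : IsEquivOver D := isEquivOver_inverse ηD ζD
  let L : 𝒰 ⥤ᵇ fp (BasedFunctor.comp f g) w := BasedFunctor.comp (BasedFunctor.comp ℓf Pc) D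
  have ι : BasedFunctor.comp L (fpSnd (BasedFunctor.comp f g) w) ≅ b :=
    (whiskerLeftIso (BasedFunctor.comp ℓf Pc)
      (whiskerRightIso ζD (BasedFunctor.comp (fpSnd f π) (fpSnd g w)))) ≪≫ ι₀
  have hfp : IsFibGrpd (fp (BasedFunctor.comp f g) w).p :=
    isFibGrpd_fp (BasedFunctor.comp f g) w h𝒳 h𝒲 h𝒵
  obtain ⟨κ'⟩ := fpLift_eta_iso hfp L ι
  refine ⟨BasedFunctor.comp L (fpFst (BasedFunctor.comp f g) w), etaIso L ι,
    fun Q hI hLt hQc hf hg => ?_⟩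
  have hmid : IsFibGrpd (fp f (BasedFunctor.comp ℓg π)).p :=
    isFibGrpd_fp f (BasedFunctor.comp ℓg π) h𝒳 h𝒱 h𝒴
  have h1 : AlgSt.RepByAlgSpWith Q Pc := repWith_precomp_bc Q f π ℓg hg
  have h2 : AlgSt.RepByAlgSpWith Q (BasedFunctor.comp ℓf Pc) :=
    repWith_comp' h𝒰 hmid Q hI hLt hQc ℓf Pc hf h1
  have h3 : AlgSt.RepByAlgSpWith Q L := repWith_postcomp_equiv Q _ D hD h2
  exact repWith_of_iso Q κ'.symm h3

theorem locQ_of_iso (P : MorphismProperty (AlgSp.Sp S)) {F G : 𝒳 ⥤ᵇ 𝒴} (ι : F ≅ G)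
    (H : AlgSt.LocQ P F) : AlgSt.LocQ P G := by
  obtain ⟨U, V, x, y, h, α, hx, hx', hy, hP⟩ := H
  exact ⟨U, V, x, y, h, whiskerLeftIso x ι.symm ≪≫ α, hx, hx', hy, hP⟩

theorem locQ_precomp_equiv {𝒲 ℰ 𝒯 : AlgSt.Cat S} (P : MorphismProperty (AlgSp.Sp S))
    (E : 𝒲 ⥤ᵇ ℰ) (hE : IsEquivOver E) (π : ℰ ⥤ᵇ 𝒯) (H : AlgSt.LocQ P π) :
    AlgSt.LocQ P (BasedFunctor.comp E π) := by
  obtain ⟨E', ⟨η⟩, ⟨ζ⟩⟩ := hE
  have hE' : IsEquivOver E' := isEquivOver_inverse η ζ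
  obtain ⟨U, V, x, y, h, α, hx, hx', hy, hP⟩ := H
  have α' : BasedFunctor.comp (BasedFunctor.comp x E') (BasedFunctor.comp E π) ≅
      BasedFunctor.comp (AlgSt.overMap h) y :=
    (show BasedFunctor.comp (BasedFunctor.comp x E') (BasedFunctor.comp E π) ≅
      BasedFunctor.comp x π from whiskerLeftIso x (whiskerRightIso ζ π)) ≪≫ α
  exact ⟨U, V, BasedFunctor.comp x E', y, h, α', repWith_postcomp_equiv _ x E' hE' hx,
    repWith_postcomp_equiv _ x E' hE' hx', hy, hP⟩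

theorem locQ_id (h𝒳 : AlgSt.IsAlgStack Scheme.fppfPrecoverage 𝒳)
    (P : MorphismProperty (AlgSp.Sp S)) (hid : ∀ U : Over S, P ((AlgSp.yon S).map (𝟙 U))) :
    AlgSt.LocQ P (BasedFunctor.id 𝒳) := by
  obtain ⟨U, x, hx, hx'⟩ := h𝒳.atlas
  have α : BasedFunctor.comp x (BasedFunctor.id 𝒳) ≅
      BasedFunctor.comp (AlgSt.overMap (𝟙 U)) x :=
    eqToIso (congrArg (fun t => BasedFunctor.comp t x) (overMap_id U).symm)
  exact ⟨U, U, x, x, 𝟙 U, α, hx, hx', hx, hid U⟩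

/-- Cancellation: if `f ≫ g` has `P` and `g` has `P'` on charts, and on schemes `P (a ≫ k)`
and `P' k` give `P a`, then `f` has `P`. -/
theorem locQ_cancel (h𝒳 : AlgSt.IsAlgStack Scheme.fppfPrecoverage 𝒳)
    (h𝒴 : AlgSt.IsAlgStack Scheme.fppfPrecoverage 𝒴)
    (h𝒵 : AlgSt.IsAlgStack Scheme.fppfPrecoverage 𝒵) (P P' : MorphismProperty (AlgSp.Sp S))
    (hP : AlgSp.IsSmoothLocalST P)
    (hc : ∀ {U V W : Over S} (a : U ⟶ V) (k : V ⟶ W), P ((AlgSp.yon S).map (a ≫ k)) →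
      P' ((AlgSp.yon S).map k) → P ((AlgSp.yon S).map a))
    (f : 𝒳 ⥤ᵇ 𝒴) (g : 𝒴 ⥤ᵇ 𝒵) (H : AlgSt.LocQ P (BasedFunctor.comp f g))
    (Hg : GoodSch P' g) : AlgSt.LocQ P f := by
  have hIs : IsoInv (AlgSp.LocP @Smooth : MorphismProperty (AlgSp.Sp S)) :=
    isoInv_locP _ etLocal_smooth
  have hLs : SchemeTestable (AlgSp.LocP @Smooth : MorphismProperty (AlgSp.Sp S)) :=
    schemeTestable_locP _
  obtain ⟨W, w, hw, hw'⟩ := h𝒵.atlas
  obtain ⟨V, k, y, β, hy, hy', hℓg, -⟩ := exists_good_chart_over h𝒴 h𝒵 g W w hw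
  obtain ⟨U, a, x, α, hx, hx', hℓf, -⟩ := exists_good_chart_over h𝒳 h𝒴 f V y hy
  obtain ⟨x', γ, hγ⟩ := exists_comp_chart f g x y w (AlgSt.overMap a) (AlgSt.overMap k) α β
    (AlgSt.overMap (a ≫ k)) (eqToIso (overMap_comp a k).symm)
    (isFibGrpd_over_forget U) (isFibGrpd_over_forget V) (isFibGrpd_over_forget W)
    h𝒳.isStack.1 h𝒴.isStack.1 h𝒵.isStack.1
  have hℓ := hγ _ hIs hLs comp_locP_smooth hℓf hℓg
  have Pak : P ((AlgSp.yon S).map (a ≫ k)) :=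
    goodSch_of_locQ h𝒳.isStack.1 h𝒵.isStack.1 P hP _ H U W x' w (a ≫ k) γ hw hℓ
  have Pk : P' ((AlgSp.yon S).map k) := Hg V W y w k β hw hℓg
  exact ⟨U, V, x, y, a, α, hx, hx' (hy' hw'), hy, hc a k Pak Pk⟩

/-- S13002. -/
theorem locQ_lft_of_comp (h𝒳 : AlgSt.IsAlgStack Scheme.fppfPrecoverage 𝒳)
    (h𝒴 : AlgSt.IsAlgStack Scheme.fppfPrecoverage 𝒴)
    (h𝒵 : AlgSt.IsAlgStack Scheme.fppfPrecoverage 𝒵) (f : 𝒳 ⥤ᵇ 𝒴) (g : 𝒴 ⥤ᵇ 𝒵)
    (H : AlgSt.LocQ (AlgSp.LocP @LocallyOfFiniteType) (BasedFunctor.comp f g)) :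
    AlgSt.LocQ (AlgSp.LocP @LocallyOfFiniteType) f := by
  refine locQ_cancel h𝒳 h𝒴 h𝒵 _ ⊤ isSmoothLocalST_lft ?_ f g H
    (fun _ _ _ _ _ _ _ _ => trivial)
  intro U V W a k h _
  have h1 : LocallyOfFiniteType (a.left ≫ k.left) := AlgSp.locP_yon_map h
  have h2 : LocallyOfFiniteType a.left := locallyOfFiniteType_of_comp a.left k.left
  exact locP_yon_map_of _ (fun _ _ g (_ : Etale g) => (inferInstance : LocallyOfFiniteType g))
    a h2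

/-- S13005. -/
theorem locQ_lfp_of_comp (h𝒳 : AlgSt.IsAlgStack Scheme.fppfPrecoverage 𝒳)
    (h𝒴 : AlgSt.IsAlgStack Scheme.fppfPrecoverage 𝒴)
    (h𝒵 : AlgSt.IsAlgStack Scheme.fppfPrecoverage 𝒵) (f : 𝒳 ⥤ᵇ 𝒴) (g : 𝒴 ⥤ᵇ 𝒵)
    (H : AlgSt.LocQ (AlgSp.LocP @LocallyOfFinitePresentation) (BasedFunctor.comp f g))
    (Hg : AlgSt.LocQ (AlgSp.LocP @LocallyOfFiniteType) g) :
    AlgSt.LocQ (AlgSp.LocP @LocallyOfFinitePresentation) f := by
  refine locQ_cancel h𝒳 h𝒴 h𝒵 _ (AlgSp.LocP @LocallyOfFiniteType) isSmoothLocalST_lfp ?_ f g H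
    (goodSch_of_locQ h𝒴.isStack.1 h𝒵.isStack.1 _ isSmoothLocalST_lft g Hg)
  intro U V W a k h hk
  have h1 : LocallyOfFinitePresentation (a.left ≫ k.left) := AlgSp.locP_yon_map h
  have h1' : LocallyOfFiniteType k.left := AlgSp.locP_yon_map hk
  have h2 : LocallyOfFinitePresentation a.left :=
    locallyOfFinitePresentation_of_comp a.left k.left
  exact locP_yon_map_of _
    (fun _ _ g (_ : Etale g) => (inferInstance : LocallyOfFinitePresentation g)) a h2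

/-- The top arrow of a good square of charts of a surjective morphism is surjective. -/
theorem isSurjectiveMor_of_chart (h𝒳 : IsFibGrpd 𝒳.p) (h𝒴 : IsFibGrpd 𝒴.p) (f : 𝒳 ⥤ᵇ 𝒴)
    (hf : AlgSt.IsSurjective f) (U V : AlgSp.Space S) (x : AlgSt.ofSp U.obj ⥤ᵇ 𝒳)
    (y : AlgSt.ofSp V.obj ⥤ᵇ 𝒴) (a : U ⟶ V)
    (α : BasedFunctor.comp x f ≅ BasedFunctor.comp (AlgSt.ofSpMap a.hom) y)
    (hℓ : AlgSt.RepByAlgSpWith AlgSp.IsSurjectiveMor (fpLift x (AlgSt.ofSpMap a.hom) α)) :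
    AlgSp.IsSurjectiveMor a.hom := by
  have hUf : IsFibGrpd (AlgSt.ofSp U.obj).p := Stk.isFibGrpd_ofPsh _
  have hVf : IsFibGrpd (AlgSt.ofSp V.obj).p := Stk.isFibGrpd_ofPsh _
  have hfib : IsFibGrpd (fp f y).p := isFibGrpd_fp f y h𝒳 hVf h𝒴
  have s1 : AlgSt.IsSurjective (fpLift x (AlgSt.ofSpMap a.hom) α) :=
    (isSurjective_iff_repWith hUf hfib _ (repByAlgSp1_of_repWith _ hℓ)).2 hℓ
  apply isSurjectiveMor_of_isSurjective_ofSpMap
  intro v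
  obtain ⟨s, hs⟩ := hf (AlgSt.Points.map y v)
  obtain ⟨w, -, hw⟩ := exists_fp_point hVf h𝒴 h𝒳 y f s v hs
  obtain ⟨t, ht⟩ := s1 w
  refine ⟨t, ?_⟩
  have key : AlgSt.Points.map
      (BasedFunctor.comp (fpLift x (AlgSt.ofSpMap a.hom) α) (fpSnd f y)) t = v := by
    rw [Groth.Agent.Lib.AlgStPoints.map_comp, ht, hw]
  exact key

/-- S13004. -/
theorem locQ_flat_of_comp_surj (h𝒳 : AlgSt.IsAlgStack Scheme.fppfPrecoverage 𝒳)
    (h𝒴 : AlgSt.IsAlgStack Scheme.fppfPrecoverage 𝒴)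
    (h𝒵 : AlgSt.IsAlgStack Scheme.fppfPrecoverage 𝒵) (f : 𝒳 ⥤ᵇ 𝒴) (g : 𝒴 ⥤ᵇ 𝒵)
    (hf₁ : AlgSt.LocQ (AlgSp.LocP @Flat) f) (hf₂ : AlgSt.IsSurjective f)
    (H : AlgSt.LocQ (AlgSp.LocP @Flat) (BasedFunctor.comp f g)) :
    AlgSt.LocQ (AlgSp.LocP @Flat) g := by
  have hIs : IsoInv (AlgSp.LocP @Smooth : MorphismProperty (AlgSp.Sp S)) :=
    isoInv_locP _ etLocal_smooth
  have hLs : SchemeTestable (AlgSp.LocP @Smooth : MorphismProperty (AlgSp.Sp S)) :=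
    schemeTestable_locP _
  obtain ⟨W, w, hw, hw'⟩ := h𝒵.atlas
  obtain ⟨V, k, y, β, hy, hy', hℓg, -⟩ := exists_good_chart_over h𝒴 h𝒵 g W w hw
  obtain ⟨U, a, x, α, hx, hx', hℓf, hℓf'⟩ := exists_good_chart_over h𝒳 h𝒴 f V y hy
  obtain ⟨x', γ, hγ⟩ := exists_comp_chart f g x y w (AlgSt.overMap a) (AlgSt.overMap k) α β
    (AlgSt.overMap (a ≫ k)) (eqToIso (overMap_comp a k).symm)
    (isFibGrpd_over_forget U) (isFibGrpd_over_forget V) (isFibGrpd_over_forget W)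
    h𝒳.isStack.1 h𝒴.isStack.1 h𝒵.isStack.1
  have hℓ := hγ _ hIs hLs comp_locP_smooth hℓf hℓg
  have Pak : AlgSp.LocP @Flat ((AlgSp.yon S).map (a ≫ k)) :=
    goodSch_of_locQ h𝒳.isStack.1 h𝒵.isStack.1 _ isSmoothLocalST_flat _ H U W x' w (a ≫ k) γ hw hℓ
  have Pa : AlgSp.LocP @Flat ((AlgSp.yon S).map a) :=
    goodSch_of_locQ h𝒳.isStack.1 h𝒴.isStack.1 _ isSmoothLocalST_flat f hf₁ U V x y a α hy hℓf
  have sa : AlgSp.IsSurjectiveMor ((AlgSp.yon S).map a) :=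
    isSurjectiveMor_of_chart h𝒳.isStack.1 h𝒴.isStack.1 f hf₂ ((AlgSp.ofScheme S).obj U)
      ((AlgSp.ofScheme S).obj V) (BasedFunctor.comp (AlgSt.toOverCat U) x)
      (BasedFunctor.comp (AlgSt.toOverCat V) y) ((AlgSp.ofScheme S).map a) (convIso x y f a α)
      (good_conv _ x y f a α hℓf')
  have sa' : Surjective a.left :=
    (AlgSp.repWith_yon_map_iff @Surjective a).1
      ((repWith_surjective_iff _ (AlgSp.representable_yon_map a)).2 sa)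
  have fa : Flat a.left := AlgSp.locP_yon_map Pa
  have fak : Flat (a.left ≫ k.left) := AlgSp.locP_yon_map Pak
  have fk : Flat k.left := flat_of_comp_surjective a.left k.left
  exact ⟨V, W, y, w, k, β, hy, hy' hw', hw,
    locP_yon_map_of _ (fun _ _ g (_ : Etale g) => (inferInstance : Flat g)) k fk⟩

/-- S13003. -/
theorem locQ_flat_of_fpFst (h𝒳 : AlgSt.IsAlgStack Scheme.fppfPrecoverage 𝒳)
    (h𝒴 : AlgSt.IsAlgStack Scheme.fppfPrecoverage 𝒴)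
    (h𝒵 : AlgSt.IsAlgStack Scheme.fppfPrecoverage 𝒵) (f : 𝒳 ⥤ᵇ 𝒴) (z : 𝒵 ⥤ᵇ 𝒴)
    (hz₁ : AlgSt.LocQ (AlgSp.LocP @Flat) z) (hz₂ : AlgSt.IsSurjective z)
    (H : AlgSt.LocQ (AlgSp.LocP @Flat) (fpFst z f)) : AlgSt.LocQ (AlgSp.LocP @Flat) f := by
  have hfp : AlgSt.IsAlgStack Scheme.fppfPrecoverage (fp f z) :=
    isAlgStack_fp h𝒴.isStack h𝒴.diag h𝒳 h𝒵 f z
  have hp₁ : AlgSt.LocQ (AlgSp.LocP @Flat) (fpFst f z) :=
    locQ_baseChange h𝒵 h𝒴 h𝒳 _ isSmoothLocalST_flat (bc_locP _ etLocal_flat) z f hz₁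
  have hp₂ : AlgSt.IsSurjective (fpFst f z) :=
    surjective_fpFst h𝒵.isStack.1 h𝒴.isStack.1 h𝒳.isStack.1 z f hz₂
  have h1 : AlgSt.LocQ (AlgSp.LocP @Flat) (fpSnd f z) :=
    locQ_precomp_equiv _ (swap f z) (swap_isEquivOver f z) (fpFst z f) H
  have h2 : AlgSt.LocQ (AlgSp.LocP @Flat) (BasedFunctor.comp (fpSnd f z) z) :=
    locQ_comp hfp h𝒵 h𝒴 _ isSmoothLocalST_flat comp_locP_flat (fpSnd f z) z h1 hz₁
  have h3 : AlgSt.LocQ (AlgSp.LocP @Flat) (BasedFunctor.comp (fpFst f z) f) :=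
    locQ_of_iso _ (fpIso f z).symm h2
  exact locQ_flat_of_comp_surj hfp h𝒳 h𝒴 (fpFst f z) f hp₁ hp₂ h3

/-- S13000. -/
theorem locQ_lft_of_fpFst_space (h𝒳 : AlgSt.IsAlgStack Scheme.fppfPrecoverage 𝒳)
    (h𝒴 : AlgSt.IsAlgStack Scheme.fppfPrecoverage 𝒴) (f : 𝒳 ⥤ᵇ 𝒴)
    (W : AlgSp.Space S) (w : AlgSt.ofSp W.obj ⥤ᵇ 𝒴)
    (hw₁ : AlgSt.RepByAlgSpWith (AlgSp.LocP @Flat) w)
    (hw₂ : AlgSt.RepByAlgSpWith (AlgSp.LocP @LocallyOfFinitePresentation) w)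
    (hw₃ : AlgSt.RepByAlgSpWith AlgSp.IsSurjectiveMor w)
    (H : AlgSt.LocQ (AlgSp.LocP @LocallyOfFiniteType) (fpFst w f)) :
    AlgSt.LocQ (AlgSp.LocP @LocallyOfFiniteType) f := by
  have hW : AlgSt.IsAlgStack Scheme.fppfPrecoverage (AlgSt.ofSp W.obj) := isAlgStack_ofSp W
  have hw1 : AlgSt.RepByAlgSp1 w := repByAlgSp1_of_repWith _ hw₁
  have hz₁ : AlgSt.LocQ (AlgSp.LocP @Flat) w :=
    (locQ_iff_repWith _ isSmoothLocalST_flat (bc_locP _ etLocal_flat)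
      (isLocalOnBase_fppf_of_fpqc' isLocalOnBase_fpqc_locP_flat) hW h𝒴 w hw1).2 hw₁
  have hz₂ : AlgSt.LocQ (AlgSp.LocP @LocallyOfFinitePresentation) w :=
    (locQ_iff_repWith _ isSmoothLocalST_lfp (bc_locP _ etLocal_locallyOfFinitePresentation)
      (isLocalOnBase_fppf_of_fpqc' isLocalOnBase_fpqc_locP_locallyOfFinitePresentation)
      hW h𝒴 w hw1).2 hw₂
  have hz₃ : AlgSt.IsSurjective w :=
    (isSurjective_iff_repWith (Stk.isFibGrpd_ofPsh _) h𝒴.isStack.1 w hw1).2 hw₃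
  exact locQ_of_fppf_cover h𝒳 h𝒴 hW _ isSmoothLocalST_lft
    (isLocalOnBase_fppf_of_fpqc' isLocalOnBase_fpqc_locP_locallyOfFiniteType) f w hz₁ hz₂ hz₃ H

/-- S12996. -/
theorem locQ_lft_of_isImm (h𝒳 : AlgSt.IsAlgStack Scheme.fppfPrecoverage 𝒳)
    (h𝒴 : AlgSt.IsAlgStack Scheme.fppfPrecoverage 𝒴) (f : 𝒳 ⥤ᵇ 𝒴) (H : AlgSt.IsImm f) :
    AlgSt.LocQ (AlgSp.LocP @LocallyOfFiniteType) f := by
  have h1 : AlgSt.RepByAlgSp1 f := repByAlgSp1_of_repWith f H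
  have h2 : AlgSt.RepByAlgSpWith (AlgSp.LocP @LocallyOfFiniteType) f :=
    repWith_mono' (fun X U a _ (ha : AlgSp.RepWith @IsImmersion a) =>
      locP_of_repWith @LocallyOfFiniteType
        (fun _ _ g (_ : Etale g) => (inferInstance : LocallyOfFiniteType g)) a
        (repWith_mono (fun _ _ g (_ : IsImmersion g) => (inferInstance : LocallyOfFiniteType g))
          ha)) f H
  exact (locQ_iff_repWith _ isSmoothLocalST_lft (bc_locP _ etLocal_locallyOfFiniteType)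
    (isLocalOnBase_fppf_of_fpqc' isLocalOnBase_fpqc_locP_locallyOfFiniteType) h𝒳 h𝒴 f h1).2 h2

/-- S12997. -/
theorem locQ_lfp_of_isOpenImm (h𝒳 : AlgSt.IsAlgStack Scheme.fppfPrecoverage 𝒳)
    (h𝒴 : AlgSt.IsAlgStack Scheme.fppfPrecoverage 𝒴) (f : 𝒳 ⥤ᵇ 𝒴) (H : AlgSt.IsOpenImm f) :
    AlgSt.LocQ (AlgSp.LocP @LocallyOfFinitePresentation) f := by
  have h1 : AlgSt.RepByAlgSp1 f := repByAlgSp1_of_repWith f H
  have h2 : AlgSt.RepByAlgSpWith (AlgSp.LocP @LocallyOfFinitePresentation) f :=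
    repWith_mono' (fun X U a _ (ha : AlgSp.RepWith @IsOpenImmersion a) =>
      locP_of_repWith @LocallyOfFinitePresentation
        (fun _ _ g (_ : Etale g) => (inferInstance : LocallyOfFinitePresentation g)) a
        (repWith_mono (fun _ _ g (_ : IsOpenImmersion g) =>
          (inferInstance : LocallyOfFinitePresentation g)) ha)) f H
  exact (locQ_iff_repWith _ isSmoothLocalST_lfp
    (bc_locP _ etLocal_locallyOfFinitePresentation)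
    (isLocalOnBase_fppf_of_fpqc' isLocalOnBase_fpqc_locP_locallyOfFinitePresentation)
    h𝒳 h𝒴 f h1).2 h2

/-- S13006. -/
theorem locQ_lfp_diag (h𝒳 : AlgSt.IsAlgStack Scheme.fppfPrecoverage 𝒳)
    (h𝒴 : AlgSt.IsAlgStack Scheme.fppfPrecoverage 𝒴) (f : 𝒳 ⥤ᵇ 𝒴)
    (H : AlgSt.LocQ (AlgSp.LocP @LocallyOfFiniteType) f) :
    AlgSt.LocQ (AlgSp.LocP @LocallyOfFinitePresentation) (FibCat.diag f) := by
  have hfp : AlgSt.IsAlgStack Scheme.fppfPrecoverage (fp f f) :=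
    isAlgStack_fp h𝒴.isStack h𝒴.diag h𝒳 h𝒳 f f
  have h1 : AlgSt.LocQ (AlgSp.LocP @LocallyOfFiniteType) (fpFst f f) :=
    locQ_baseChange h𝒳 h𝒴 h𝒳 _ isSmoothLocalST_lft (bc_locP _ etLocal_locallyOfFiniteType) f f H
  have h2 : AlgSt.LocQ (AlgSp.LocP @LocallyOfFinitePresentation)
      (BasedFunctor.comp (FibCat.diag f) (fpFst f f)) :=
    locQ_id h𝒳 _ (fun U => locP_yon_map_of _
      (fun _ _ g (_ : Etale g) => (inferInstance : LocallyOfFinitePresentation g)) (𝟙 U)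
      (show LocallyOfFinitePresentation (𝟙 U.left) from inferInstance))
  exact locQ_lfp_of_comp h𝒳 hfp h𝒳 (FibCat.diag f) (fpFst f f) h2 h1

/-- S12999. -/
theorem locQ_lfp_of_noeth (h𝒳 : AlgSt.IsAlgStack Scheme.fppfPrecoverage 𝒳)
    (h𝒴 : AlgSt.IsAlgStack Scheme.fppfPrecoverage 𝒴) (f : 𝒳 ⥤ᵇ 𝒴)
    (hN : AlgSt.SmoothLocally (fun T => IsLocallyNoetherian T) 𝒴)
    (H : AlgSt.LocQ (AlgSp.LocP @LocallyOfFiniteType) f) :
    AlgSt.LocQ (AlgSp.LocP @LocallyOfFinitePresentation) f := by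
  obtain ⟨V, y, hy, hy'⟩ := h𝒴.atlas
  obtain ⟨U, a, x, α, hx, hx', hℓ, -⟩ := exists_good_chart_over h𝒳 h𝒴 f V y hy
  have Pa : AlgSp.LocP @LocallyOfFiniteType ((AlgSp.yon S).map a) :=
    goodSch_of_locQ h𝒳.isStack.1 h𝒴.isStack.1 _ isSmoothLocalST_lft f H U V x y a α hy hℓ
  have hV : IsLocallyNoetherian V.left := hN V y hy
  have h1 : LocallyOfFiniteType a.left := AlgSp.locP_yon_map Pa
  have h2 : LocallyOfFinitePresentation a.left :=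
    LocallyOfFinitePresentation.iff_locallyOfFiniteType.mpr h1
  exact ⟨U, V, x, y, a, α, hx, hx' hy', hy, locP_yon_map_of _
    (fun _ _ g (_ : Etale g) => (inferInstance : LocallyOfFinitePresentation g)) a h2⟩

/-- S12998. -/
theorem smoothLocally_noeth_of_lft (h𝒳 : AlgSt.IsAlgStack Scheme.fppfPrecoverage 𝒳)
    (h𝒴 : AlgSt.IsAlgStack Scheme.fppfPrecoverage 𝒴) (f : 𝒳 ⥤ᵇ 𝒴)
    (H : AlgSt.LocQ (AlgSp.LocP @LocallyOfFiniteType) f)
    (hN : AlgSt.SmoothLocally (fun T => IsLocallyNoetherian T) 𝒴) :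
    AlgSt.SmoothLocally (fun T => IsLocallyNoetherian T) 𝒳 := by
  intro U x hx
  show IsLocallyNoetherian U.left
  have hIs : IsoInv (AlgSp.LocP @Smooth : MorphismProperty (AlgSp.Sp S)) :=
    isoInv_locP _ etLocal_smooth
  have hLs : SchemeTestable (AlgSp.LocP @Smooth : MorphismProperty (AlgSp.Sp S)) :=
    schemeTestable_locP _
  obtain ⟨V, y, hy, hy'⟩ := h𝒴.atlas
  have hUfib : IsFibGrpd (FibCat.overCat U).p := isFibGrpd_over_forget U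
  have hVfib : IsFibGrpd (FibCat.overCat V).p := isFibGrpd_over_forget V
  obtain ⟨U', a, x', α, hx'₁, hx'₂, hℓ', -⟩ :=
    exists_good_chart_over (isAlgStack_overCat U) h𝒴 (BasedFunctor.comp x f) V y hy
  have hU'fib : IsFibGrpd (FibCat.overCat U').p := isFibGrpd_over_forget U'
  have hfib' : IsFibGrpd (fp (BasedFunctor.comp x f) y).p :=
    isFibGrpd_fp (BasedFunctor.comp x f) y hUfib hVfib h𝒴.isStack.1
  have hℓ : AlgSt.RepByAlgSpWith (AlgSp.LocP @Smooth)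
      (fpLift (BasedFunctor.comp x' x) (AlgSt.overMap a) α) :=
    repWith_comp' hU'fib hfib' _ hIs hLs comp_locP_smooth (fpLift x' (AlgSt.overMap a) α)
      (pasteInner x f y) hℓ' (repWith_pasteInner _ x f y hx)
  have Pa : AlgSp.LocP @LocallyOfFiniteType ((AlgSp.yon S).map a) :=
    goodSch_of_locQ h𝒳.isStack.1 h𝒴.isStack.1 _ isSmoothLocalST_lft f H U' V
      (BasedFunctor.comp x' x) y a α hy hℓ
  have hV : IsLocallyNoetherian V.left := hN V y hy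
  have h1 : LocallyOfFiniteType a.left := AlgSp.locP_yon_map Pa
  have hU'N : IsLocallyNoetherian U'.left := LocallyOfFiniteType.isLocallyNoetherian a.left
  obtain ⟨b, ⟨ιb⟩⟩ := exists_overMap_iso x'
  have hb₁ : AlgSt.RepByAlgSpWith (AlgSp.LocP @Smooth) (AlgSt.overMap b) :=
    repWith_of_iso _ ιb hx'₁
  have hb₂ : AlgSt.RepByAlgSpWith AlgSp.IsSurjectiveMor (AlgSt.overMap b) :=
    repWith_of_iso _ ιb (hx'₂ hy')
  have sb : Smooth b.left := AlgSp.locP_yon_map (prop_of_repWith_overMap _ hIs hLs b hb₁)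
  have sj : AlgSp.IsSurjectiveMor ((AlgSp.yon S).map b) :=
    prop_of_repWith_overMap _ isoInv_isSurjectiveMor schemeTestable_isSurjectiveMor b hb₂
  have sj' : Surjective b.left :=
    (AlgSp.repWith_yon_map_iff @Surjective b).1
      ((repWith_surjective_iff _ (AlgSp.representable_yon_map b)).2 sj)
  have fb : Flat b.left := smooth_le_flat _ sb
  have pb : LocallyOfFinitePresentation b.left := smooth_le_lfp _ sb
  exact isLocallyNoetherian_of_flat_of_surjective b.left b.left.isOpenMap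

end stk

end Groth.Agent.Lib.AlgStLocQ
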