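import Groth.Agent.Lib.AlgStDiagLFT_lead

/-!
# Properties of the diagonal over the base read on an fppf cover of the stack; descent of locally
quasi-finite morphisms (lead)
-/

set_option autoImplicit false

universe u

open CategoryTheory CategoryTheory.Limits AlgebraicGeometry Opposite FibCat Stk

namespace Groth.Agent.Lib.AlgStLocal

open AlgSt Groth.Agent.Lib.FibCat_helper6 Groth.Agent.Lib.FibCat3_helper6
  Groth.Agent.Lib.FibCat14_helper6 Groth.Agent.Lib.FibCatPaste Groth.Agent.Lib.FibCatSwap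
  Groth.Agent.Lib.FibCatIsoFun
  Groth.Agent.Lib.OfPshCalc Groth.Agent.Lib.AlgStBC
  Groth.Agent.Lib.AlgStEquiv Groth.Agent.Lib.AlgStEquivP Groth.Agent.Lib.AlgStEquivInv
  Groth.Agent.Lib.OfPshAlgSt Groth.Agent.Lib.LiftSqBC Groth.Agent.Lib.LiftSqComp
  Groth.Agent.Lib.OfPshWith Groth.Agent.Lib.FibCatDiagSec Groth.Agent.Lib.AlgStDiagRep
  Groth.Agent.Lib.FibCatDiagBC Groth.Agent.Lib.FibCatMagic Groth.Agent.Lib.FibCatProd
  Groth.Agent.Lib.AlgStDiag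
  Groth.Agent.Lib.AlgSpQC_helper7 Groth.Agent.Lib.AlgSpDiag_helper7
  Groth.Agent.Lib.AlgSpPullback_helper7 Groth.Agent.Lib.AlgSpRepBySp_helper7
  Groth.Agent.Lib.AlgSpPoints_helper7 Groth.Agent.Lib.AlgSpLocP_helper7
  Groth.Agent.Lib.AlgSpBasic_helper7 Groth.Agent.Lib.AlgSpSep_helper7
  Groth.Agent.Lib.AlgSpLocP4_helper7 Groth.Agent.Lib.AlgSpLocP5_helper7
  Groth.Agent.Lib.AlgSpLocP7_helper7 Groth.Agent.Lib.AlgSpQC2_helper7
  Groth.Agent.Lib.AlgSpLocP8_helper7 Groth.Agent.Lib.AlgSpLocP10_helper7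
  Groth.Agent.Lib.AlgSpFpqc3_helper7 Groth.Agent.Lib.AlgSpLocP6_helper7
  Groth.Agent.Lib.AlgSpFpqc2_helper7 Groth.Agent.Lib.AlgSpFpqc_helper7
  Groth.Agent.Lib.AlgSpProper_helper7 Groth.Agent.Lib.AlgSpAffineMorH7

/-- Locally quasi-finite (and locally of finite type) descends along standard fpqc coverings. -/
theorem descendsFlatCover_lqf :
    DescendsFlatCover (@LocallyQuasiFinite ⊓ @LocallyOfFiniteType : MorphismProperty Scheme.{u}) := by
  intro Z _ m W c hW hc hs V f h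
  have hLFT : LocallyOfFiniteType f :=
    descendsFlatCover_of_descendsAlong @LocallyOfFiniteType W c hW hc hs f (fun j => (h j).2)
  refine ⟨?_, hLFT⟩
  rw [IsZariskiLocalAtSource.iff_of_openCover (P := @LocallyQuasiFinite) V.affineCover]
  intro i
  haveI : LocallyOfFiniteType (V.affineCover.f i ≫ f) := inferInstance
  apply LocallyQuasiFinite.of_finite_preimage_singleton
  intro z
  obtain ⟨j, w, rfl⟩ := hs z
  haveI := hc j
  haveI := hW j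
  haveI : LocallyQuasiFinite (pullback.snd f (c j)) := (h j).1
  have e : pullback.snd (V.affineCover.f i ≫ f) (c j) =
      (pullbackRightPullbackFstIso f (c j) (V.affineCover.f i)).inv ≫
        pullback.snd (V.affineCover.f i) (pullback.fst f (c j)) ≫ pullback.snd f (c j) := by
    rw [← pullbackRightPullbackFstIso_hom_snd, Iso.inv_hom_id_assoc]
  haveI : LocallyQuasiFinite (pullback.snd (V.affineCover.f i ≫ f) (c j)) := by
    rw [e]
    infer_instance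
  haveI : QuasiCompact (V.affineCover.f i ≫ f) := inferInstance
  have hfin := Scheme.Hom.finite_preimage_singleton (pullback.snd (V.affineCover.f i ≫ f) (c j)) w
  refine (hfin.image (pullback.fst (V.affineCover.f i ≫ f) (c j))).subset ?_
  intro v hv
  obtain ⟨x, hx1, hx2⟩ := Scheme.Pullback.exists_preimage_pullback v w hv
  exact ⟨x, hx2, hx1⟩

variable {S : Scheme.{u}}

theorem isLocalOnBase_fppf_lqf : AlgSp.IsLocalOnBase (AlgSp.IsFppfCover (S := S))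
    (AlgSp.LocP (@LocallyQuasiFinite ⊓ @LocallyOfFiniteType)) :=
  isLocalOnBase_fppf_of_fpqc'
    (locP_isLocalOnBase_fpqc _ etLocal_locallyQuasiFinite descendsFlatCover_lqf)

section stk

/-- A property of the diagonal over the base can be read on an fppf covering `w : 𝒲 ⟶ 𝒳`
having the property, when the diagonal of `𝒲` has it. -/
theorem repWith_diag_toSelf_of_cover {𝒳 𝒲 : AlgSt.Cat S} (h𝒳g : IsFibGrpd 𝒳.p)
    (h𝒲 : IsFibGrpd 𝒲.p) (hΔ : AlgSt.RepByAlgSp1 (FibCat.diag (toSelf 𝒳)))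
    (P : MorphismProperty (AlgSp.Sp S))
    (hPb : ∀ ⦃X₁ Y₁ X₂ Y₂ : AlgSp.Sp S⦄, AlgSp.IsAlgSpace X₁ → AlgSp.IsAlgSpace Y₁ →
      AlgSp.IsAlgSpace X₂ → AlgSp.IsAlgSpace Y₂ →
      ∀ (a : X₁ ⟶ Y₁) (b : Y₂ ⟶ Y₁) (a' : X₂ ⟶ Y₂) (b' : X₂ ⟶ X₁),
      IsPullback b' a' a b → P a → P a')
    (hPc : ∀ ⦃X Y Z : AlgSp.Sp S⦄, AlgSp.IsAlgSpace X → AlgSp.IsAlgSpace Y → AlgSp.IsAlgSpace Z →
      ∀ (a : X ⟶ Y) (b : Y ⟶ Z), P a → P b → P (a ≫ b))
    (hP : AlgSp.IsLocalOnBase AlgSp.IsFppfCover P)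
    (w : 𝒲 ⥤ᵇ 𝒳)
    (hw₁ : AlgSt.RepByAlgSpWith (AlgSp.LocP @Flat) w)
    (hw₂ : AlgSt.RepByAlgSpWith (AlgSp.LocP @LocallyOfFinitePresentation) w)
    (hw₃ : AlgSt.RepByAlgSpWith AlgSp.IsSurjectiveMor w)
    (hwP : AlgSt.RepByAlgSpWith P w)
    (hΔW : AlgSt.RepByAlgSpWith P (FibCat.diag (toSelf 𝒲))) :
    AlgSt.RepByAlgSpWith P (FibCat.diag (toSelf 𝒳)) := by
  have hWW : IsFibGrpd (fp (toSelf 𝒲) (toSelf 𝒲)).p :=
    Groth.Agent.Lib.FibCat12_helper6.isFibGrpd_prod h𝒲 h𝒲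
  have hXX : IsFibGrpd (fp (toSelf 𝒳) (toSelf 𝒳)).p :=
    Groth.Agent.Lib.FibCat12_helper6.isFibGrpd_prod h𝒳g h𝒳g
  have hz₁ : AlgSt.RepByAlgSpWith (AlgSp.LocP @Flat) (prodMap w w) :=
    repWith_prod h𝒲 h𝒲 h𝒳g _ (bc_locP _ etLocal_flat)
      (fun _ _ _ hX hY hZ a b ha hb => locP_comp etLocal_flat hX hY hZ a b ha hb)
      (isLocalOnBase_fppf_of_fpqc' isLocalOnBase_fpqc_locP_flat) w w hw₁ hw₁ _
  have hz₂ : AlgSt.RepByAlgSpWith (AlgSp.LocP @LocallyOfFinitePresentation) (prodMap w w) :=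
    repWith_prod h𝒲 h𝒲 h𝒳g _ (bc_locP _ etLocal_locallyOfFinitePresentation)
      (fun _ _ _ hX hY hZ a b ha hb =>
        locP_comp etLocal_locallyOfFinitePresentation hX hY hZ a b ha hb)
      (isLocalOnBase_fppf_of_fpqc' isLocalOnBase_fpqc_locP_locallyOfFinitePresentation)
      w w hw₂ hw₂ _
  have hz₃ : AlgSt.RepByAlgSpWith AlgSp.IsSurjectiveMor (prodMap w w) :=
    repWith_prod h𝒲 h𝒲 h𝒳g _
      (fun _ _ _ _ _ _ _ _ _ _ _ _ sq ha => isSurjectiveMor_of_isPullback sq ha)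
      (fun _ _ _ _ _ _ a b ha hb => isSurjectiveMor_comp a b ha hb)
      isLocalOnBase_fppf_isSurjectiveMor w w hw₃ hw₃ _
  have hb : AlgSt.RepByAlgSpWith P (FibCat.diag (fpFst (toSelf 𝒲) (toSelf 𝒲))) :=
    repWith_diag_baseChange _ (toSelf 𝒲) (toSelf 𝒲) hΔW
  have ha : AlgSt.RepByAlgSpWith P (fpFst w w) := repWith_baseChange _ w w hwP
  have hpair : AlgSt.RepByAlgSpWith P (pairMap w w) :=
    repWith_of_triangle (Groth.Agent.Lib.FibCat12_helper6.isFibGrpd_fp w w h𝒲 h𝒲 h𝒳g) hWW h𝒲 _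
      (isoInv_of_bc P hPb) (schemeTestable_of_local P hP) hPc
      (pairMap w w) (fpFst w w) (fpFst (toSelf 𝒲) (toSelf 𝒲)) (Iso.refl _) ha hb
  have H : AlgSt.RepByAlgSpWith P (fpFst (prodMap w w) (FibCat.diag (toSelf 𝒳))) :=
    repWith_cancel_equiv _ (magic w w) (magic_isEquivOver w w) _ hpair
  exact (repWith_iff_fpFst_of_cover h𝒳g hXX hWW _ hPb hP
    (FibCat.diag (toSelf 𝒳)) hΔ (prodMap w w) hz₁ hz₂ hz₃).2 H

theorem repByAlgSp1_toSelf_ofSp (W : AlgSp.Space S) :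
    AlgSt.RepByAlgSp1 (toSelf (AlgSt.ofSp W.obj)) :=
  repByAlgSp1_of_repByAlgSp ⟨W, BasedFunctor.id _, isEquivOver_id⟩ repByAlgSp_selfOver _

end stk

end Groth.Agent.Lib.AlgStLocal
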