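import Groth.Agent.Lib.OfPshWith2_lead
import Groth.Agent.Lib.AlgSpPullback_helper7
import Mathlib.AlgebraicGeometry.Morphisms.Immersion

/-!
# Composition of immersions of algebraic stacks (lead)
-/

set_option autoImplicit false

universe u

open CategoryTheory CategoryTheory.Limits AlgebraicGeometry Opposite FibCat Stk

namespace Groth.Agent.Lib.OfPshWith

variable {S : Scheme.{u}}

theorem schemeTestable_repWith (R : MorphismProperty Scheme.{u}) :
    SchemeTestable (AlgSp.RepWith R : MorphismProperty (AlgSp.Sp S)) := by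
  intro V Z₀ a hV hZ₀ ha
  have key : ∀ ⦃U : Over S⦄ (g : (AlgSp.yon S).obj U ⟶ Z₀),
      ∃ (X' : AlgSp.Sp S) (q : X' ⟶ V) (r : X' ⟶ (AlgSp.yon S).obj U),
        IsPullback q r a g ∧ AlgSp.RepWith R r := by
    intro U g
    let ξ : (AlgSp.pyon S).obj U ⟶ Z₀.obj := g.hom
    have sq : IsPullback (pullback.fst a.hom ξ) (pullback.snd a.hom ξ) a.hom ξ :=
      IsPullback.of_hasPullback a.hom ξ
    obtain ⟨hs, hA, hq⟩ := ha ξ _ _ sq
    exact ⟨⟨pullback a.hom ξ, hs⟩, ObjectProperty.homMk (pullback.fst a.hom ξ),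
      ObjectProperty.homMk (pullback.snd a.hom ξ), isPullback_sheaf sq, hq⟩
  refine ⟨fun U g => ?_, fun U W g fst snd sq => ?_⟩
  · obtain ⟨X', q, r, sq', hr⟩ := key g
    obtain ⟨b, snd, fst, sqA⟩ := hr.1 (𝟙 _)
    refine ⟨b, snd, fst ≫ q, ?_⟩
    have h2 := sqA.paste_horiz sq'
    rwa [Category.id_comp] at h2
  · obtain ⟨X', q, r, sq', hr⟩ := key g
    have hφ : (sq.isoIsPullback _ _ sq').hom ≫ r = (AlgSp.yon S).map snd :=
      sq.isoIsPullback_hom_snd _ _ sq'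
    have sqB : IsPullback (sq.isoIsPullback _ _ sq').hom ((AlgSp.yon S).map snd) r (𝟙 _) :=
      IsPullback.of_horiz_isIso ⟨by rw [hφ, Category.comp_id]⟩
    exact hr.2 (𝟙 _) _ snd sqB

theorem isoInv_repWith (R : MorphismProperty Scheme.{u}) :
    IsoInv (AlgSp.RepWith R : MorphismProperty (AlgSp.Sp S)) :=
  isoInv_of_respectsIso _

theorem repWith_repWith_comp {𝒳 𝒴 𝒵 : AlgSt.Cat S} (h𝒳 : IsFibGrpd 𝒳.p) (h𝒴 : IsFibGrpd 𝒴.p)
    (R : MorphismProperty Scheme.{u}) [R.IsStableUnderBaseChange] [R.IsMultiplicative]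
    (f : 𝒳 ⥤ᵇ 𝒴) (g : 𝒴 ⥤ᵇ 𝒵) (hf : AlgSt.RepByAlgSpWith (AlgSp.RepWith R) f)
    (hg : AlgSt.RepByAlgSpWith (AlgSp.RepWith R) g) :
    AlgSt.RepByAlgSpWith (AlgSp.RepWith R) (BasedFunctor.comp f g) :=
  repWith_comp' h𝒳 h𝒴 _ (isoInv_repWith R) (schemeTestable_repWith R)
    (fun _ _ _ _ _ _ _ _ ha hb => Groth.Agent.Lib.AlgSpPullback_helper7.repWith_comp R ha hb)
    f g hf hg

end Groth.Agent.Lib.OfPshWith
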