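import Groth.Agent.Lib.AlgStQC2_lead
import Groth.Agent.Lib.OfPshWith3_lead

/-!
# Immersions into locally Noetherian algebraic stacks are quasi-compact (lead)
-/

set_option autoImplicit false

universe w v₁ v₂ v₃ v₄ v₅ v₆ u₁ u₂ u₃ u₄ u₅ u₆ u

open CategoryTheory CategoryTheory.Limits AlgebraicGeometry Opposite FibCat Stk

namespace Groth.Agent.Lib.AlgStLocQ

open AlgSt Groth.Agent.Lib.FibCat_helper6 Groth.Agent.Lib.FibCat3_helper6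
  Groth.Agent.Lib.FibCat14_helper6 Groth.Agent.Lib.FibCat12_helper6
  Groth.Agent.Lib.FibCatPaste Groth.Agent.Lib.FibCatSwap
  Groth.Agent.Lib.FibCatIsoFun
  Groth.Agent.Lib.OfPshCalc Groth.Agent.Lib.AlgStBC
  Groth.Agent.Lib.AlgStEquiv Groth.Agent.Lib.AlgStEquivP Groth.Agent.Lib.AlgStEquivInv
  Groth.Agent.Lib.OfPshAlgSt Groth.Agent.Lib.LiftSqBC Groth.Agent.Lib.LiftSqComp
  Groth.Agent.Lib.OfPshWith Groth.Agent.Lib.FibCatDiagSec Groth.Agent.Lib.AlgStDiagRep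
  Groth.Agent.Lib.FibCatDiagBC Groth.Agent.Lib.FibCatMagic Groth.Agent.Lib.FibCatProd
  Groth.Agent.Lib.AlgStDiag Groth.Agent.Lib.AlgStLocal
  Groth.Agent.Lib.AlgSpQC_helper7 Groth.Agent.Lib.AlgSpDiag_helper7
  Groth.Agent.Lib.AlgSpPullback_helper7 Groth.Agent.Lib.AlgSpRepBySp_helper7
  Groth.Agent.Lib.AlgSpPoints_helper7 Groth.Agent.Lib.AlgSpLocP_helper7
  Groth.Agent.Lib.AlgSpBasic_helper7 Groth.Agent.Lib.AlgSpSep_helper7
  Groth.Agent.Lib.AlgSpLocP4_helper7 Groth.Agent.Lib.AlgSpLocP5_helper7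
  Groth.Agent.Lib.AlgSpLocP7_helper7 Groth.Agent.Lib.AlgSpQC2_helper7
  Groth.Agent.Lib.AlgSpLocP8_helper7 Groth.Agent.Lib.AlgSpLocP10_helper7
  Groth.Agent.Lib.AlgSpFpqc3_helper7 Groth.Agent.Lib.AlgSpLocP6_helper7
  Groth.Agent.Lib.AlgSpFpqc2_helper7 Groth.Agent.Lib.AlgSpFpqc_helper7
  Groth.Agent.Lib.AlgSpProper_helper7 Groth.Agent.Lib.AlgSpAffineMorH7
  Groth.Agent.Lib.AlgStAtlas Groth.Agent.Lib.AlgStPoints Groth.Agent.Lib.AlgStPtsCmp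
  Groth.Agent.Lib.FibCatYoneda_helper6


open Groth.Agent.Lib.AlgSpSmST_helper7

variable {S : Scheme.{u}}

theorem quasiCompact_of_isImmersion_of_locNoeth {T V : Scheme.{u}} (t : T ⟶ V) [IsImmersion t]
    [IsLocallyNoetherian V] : QuasiCompact t := by
  rw [← t.liftCoborder_ι]
  infer_instance

theorem isQuasiCompactMor_of_repWith_isImmersion {X : AlgSp.Sp S} (hX : AlgSp.IsAlgSpace X)
    {V : Over S} [IsLocallyNoetherian V.left] (m : X ⟶ (AlgSp.yon S).obj V)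
    (hm : AlgSp.RepWith @IsImmersion m) : AlgSp.IsQuasiCompactMor m := by
  obtain ⟨T, t, fst, sqA⟩ := hm.1 (𝟙 _)
  haveI : IsIso fst := sqA.isIso_fst_of_isIso
  haveI ht : IsImmersion t.left := hm.2 (𝟙 _) fst t sqA
  have hq : QuasiCompact t.left := quasiCompact_of_isImmersion_of_locNoeth t.left
  have h1 : AlgSp.IsQuasiCompactMor ((AlgSp.yon S).map t) :=
    isQuasiCompactMor_of_repWith _ ((AlgSp.repWith_yon_map_iff @QuasiCompact t).2 hq)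
  have e : fst ≫ m = (AlgSp.yon S).map t := by rw [sqA.w, Category.comp_id]
  refine isoInv_qc (asIso fst) m (AlgSp.IsAlgSpace.yon_obj T) hX (AlgSp.IsAlgSpace.yon_obj V) ?_
  rw [asIso_hom, e]
  exact h1

section stk

variable {𝒳 𝒴 : AlgSt.Cat S}

theorem isQuasiCompactMor_of_isImm_of_noeth (h𝒳 : AlgSt.IsAlgStack Scheme.fppfPrecoverage 𝒳)
    (h𝒴 : AlgSt.IsAlgStack Scheme.fppfPrecoverage 𝒴) (j : 𝒳 ⥤ᵇ 𝒴) (hj : AlgSt.IsImm j)
    (hN : AlgSt.SmoothLocally (fun T => IsLocallyNoetherian T) 𝒴) :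
    AlgSt.IsQuasiCompactMor Scheme.fppfPrecoverage j := by
  refine isQuasiCompactMor_of_repWith_qcMor h𝒳 h𝒴 j ?_
  obtain ⟨V, y, hy, hy'⟩ := h𝒴.atlas
  let Vs : AlgSp.Space S := (AlgSp.ofScheme S).obj V
  let ys : AlgSt.ofSp Vs.obj ⥤ᵇ 𝒴 := BasedFunctor.comp (AlgSt.toOverCat V) y
  have hys : AlgSt.RepByAlgSpWith (AlgSp.LocP @Smooth) ys := repWith_toOverCat_comp _ y hy
  have hys' : AlgSt.RepByAlgSpWith AlgSp.IsSurjectiveMor ys := repWith_toOverCat_comp _ y hy'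
  have hj1 : AlgSt.RepByAlgSp1 j := repByAlgSp1_of_repWith j hj
  obtain ⟨X, c, e, he, ⟨i⟩, hc⟩ :=
    exists_space_of_repWith' h𝒳.isStack.1 h𝒴.isStack.1 (AlgSp.RepWith @IsImmersion)
      (Groth.Agent.Lib.OfPshWith.isoInv_repWith _) (Groth.Agent.Lib.OfPshWith.schemeTestable_repWith _) j hj Vs ys
  haveI hV : IsLocallyNoetherian V.left := hN V y hy
  have qc : AlgSp.IsQuasiCompactMor c.hom :=
    isQuasiCompactMor_of_repWith_isImmersion X.property c.hom hc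
  exact (repWith_iff_exists_of_cover h𝒳.isStack.1 h𝒴.isStack.1 AlgSp.IsQuasiCompactMor
    (fun _ _ _ _ _ _ _ _ _ _ _ _ sq ha => isQuasiCompactMor_of_isPullback sq ha)
    (isLocalOnBase_fppf_of_fpqc' isLocalOnBase_fpqc_isQuasiCompactMor) j hj1 Vs ys
    (repWith_flat_of_smooth ys hys) (repWith_lfp_of_smooth ys hys) hys').2
    ⟨X, c, e, he, ⟨i⟩, qc⟩

/-- S13017. -/
theorem noeth_and_qc_of_isImm (h𝒳 : AlgSt.IsAlgStack Scheme.fppfPrecoverage 𝒳)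
    (h𝒴 : AlgSt.IsAlgStack Scheme.fppfPrecoverage 𝒴) (j : 𝒳 ⥤ᵇ 𝒴) (hj : AlgSt.IsImm j)
    (hN : AlgSt.SmoothLocally (fun T => IsLocallyNoetherian T) 𝒴) :
    AlgSt.SmoothLocally (fun T => IsLocallyNoetherian T) 𝒳 ∧
      AlgSt.IsQuasiCompactMor Scheme.fppfPrecoverage j :=
  ⟨smoothLocally_noeth_of_lft h𝒳 h𝒴 j (locQ_lft_of_isImm h𝒳 h𝒴 j hj) hN,
    isQuasiCompactMor_of_isImm_of_noeth h𝒳 h𝒴 j hj hN⟩

end stk

end Groth.Agent.Lib.AlgStLocQ
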