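import Groth.Agent.Lib.AlgStQC_lead
import Groth.Agent.Lib.AlgStGraph_lead

/-!
# Quasi-compact morphisms of algebraic stacks: representable case, closed immersions,
cancellation (lead)
-/

set_option autoImplicit false

universe w v₁ v₂ v₃ v₄ v₅ v₆ u₁ u₂ u₃ u₄ u₅ u₆ u

open CategoryTheory CategoryTheory.Limits AlgebraicGeometry Opposite FibCat Stk

namespace Groth.Agent.Lib.AlgStLocQ

open AlgSt Groth.Agent.Lib.FibCat_helper6 Groth.Agent.Lib.FibCat3_helper6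
  Groth.Agent.Lib.FibCat14_helper6 Groth.Agent.Lib.FibCat12_helper6
  Groth.Agent.Lib.FibCatPaste Groth.Agent.Lib.FibCatSwap
  Groth.Agent.Lib.FibCatIsoFun
  Groth.Agent.Lib.OfPshCalc Groth.Agent.Lib.AlgStBC
  Groth.Agent.Lib.AlgStEquiv Groth.Agent.Lib.AlgStEquivP Groth.Agent.Lib.AlgStEquivInv
  Groth.Agent.Lib.OfPshAlgSt Groth.Agent.Lib.LiftSqBC Groth.Agent.Lib.LiftSqComp
  Groth.Agent.Lib.OfPshWith Groth.Agent.Lib.FibCatDiagSec Groth.Agent.Lib.AlgStDiagRep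
  Groth.Agent.Lib.FibCatDiagBC Groth.Agent.Lib.FibCatMagic Groth.Agent.Lib.FibCatProd
  Groth.Agent.Lib.AlgStDiag Groth.Agent.Lib.AlgStLocal
  Groth.Agent.Lib.AlgSpQC_helper7 Groth.Agent.Lib.AlgSpDiag_helper7
  Groth.Agent.Lib.AlgSpPullback_helper7 Groth.Agent.Lib.AlgSpRepBySp_helper7
  Groth.Agent.Lib.AlgSpPoints_helper7 Groth.Agent.Lib.AlgSpLocP_helper7
  Groth.Agent.Lib.AlgSpBasic_helper7 Groth.Agent.Lib.AlgSpSep_helper7
  Groth.Agent.Lib.AlgSpLocP4_helper7 Groth.Agent.Lib.AlgSpLocP5_helper7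
  Groth.Agent.Lib.AlgSpLocP7_helper7 Groth.Agent.Lib.AlgSpQC2_helper7
  Groth.Agent.Lib.AlgSpLocP8_helper7 Groth.Agent.Lib.AlgSpLocP10_helper7
  Groth.Agent.Lib.AlgSpFpqc3_helper7 Groth.Agent.Lib.AlgSpLocP6_helper7
  Groth.Agent.Lib.AlgSpFpqc2_helper7 Groth.Agent.Lib.AlgSpFpqc_helper7
  Groth.Agent.Lib.AlgSpProper_helper7 Groth.Agent.Lib.AlgSpAffineMorH7
  Groth.Agent.Lib.AlgStAtlas Groth.Agent.Lib.AlgStPoints Groth.Agent.Lib.AlgStPtsCmp
  Groth.Agent.Lib.FibCatYoneda_helper6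


open Groth.Agent.Lib.AlgSpSmST_helper7 Groth.Agent.Lib.AlgStGraph

variable {S : Scheme.{u}}

/-- An algebraic space whose stack is quasi-compact is quasi-compact. -/
theorem isQuasiCompactSp_of_isQuasiCompact_ofSp (X : AlgSp.Space S)
    (h : AlgSt.IsQuasiCompact (AlgSt.ofSp X.obj)) : AlgSp.IsQuasiCompactSp X.obj := by
  obtain ⟨T, x, hT, hx, hx'⟩ := h
  have hTf : IsFibGrpd (FibCat.overCat T).p := isFibGrpd_over_forget T
  have hXf : IsFibGrpd (AlgSt.ofSp X.obj).p := Stk.isFibGrpd_ofPsh _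
  have hxs : AlgSt.IsSurjective x :=
    (isSurjective_iff_repWith hTf hXf x (repByAlgSp1_of_repWith _ hx')).2 hx'
  let Φ : AlgSt.ofSp ((AlgSp.yon S).obj T) ⥤ᵇ AlgSt.ofSp X.obj :=
    BasedFunctor.comp (AlgSt.toOverCat T) x
  let m : (AlgSp.yon S).obj T ⟶ X.obj := ObjectProperty.homMk (mapOf Φ)
  have i1 : Φ ≅ AlgSt.ofSpMap m := isoOf Φ
  have hs : AlgSt.IsSurjective (AlgSt.ofSpMap m) := by
    intro z
    obtain ⟨w, hw⟩ := hxs z
    obtain ⟨w', rfl⟩ := map_surjective_of_isEquivOver (AlgSt.toOverCat T) (toOverCat_isEquivOver T) w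
    refine ⟨w', ?_⟩
    rw [← map_congr_iso i1, Groth.Agent.Lib.AlgStPoints.map_comp]
    exact hw
  have hm : AlgSp.IsSurjectiveMor m := isSurjectiveMor_of_isSurjective_ofSpMap m hs
  haveI : CompactSpace T.left := inferInstance
  haveI hc : CompactSpace (AlgSp.Points ((AlgSp.yon S).obj T)) :=
    compactSpace_of_isQuasiCompactSp (isQuasiCompactSp_yon T)
  haveI : CompactSpace (AlgSp.Points X.obj) :=
    Function.Surjective.compactSpace (AlgSp.Points.continuous_map m) hm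
  exact isQuasiCompactSp_of_compactSpace X.property

/-- "The source is quasi-compact as soon as the target is". -/
def QcTransfer : MorphismProperty (AlgSp.Sp S) := fun A B _ =>
  AlgSp.IsQuasiCompactSp B → AlgSp.IsQuasiCompactSp A

theorem isoInv_qcTransfer : IsoInv (QcTransfer (S := S)) := by
  intro X X' Y i f hX hX' hY h hYq
  have h1 : AlgSp.IsQuasiCompactSp X := h hYq
  haveI : CompactSpace (AlgSp.Points X) := compactSpace_of_isQuasiCompactSp h1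
  have hs : Function.Surjective (AlgSp.Points.map i.hom) := fun z =>
    ⟨AlgSp.Points.map i.inv z, by
      rw [← AlgSp.Points.map_comp, i.inv_hom_id, AlgSp.Points.map_id]⟩
  haveI : CompactSpace (AlgSp.Points X') :=
    Function.Surjective.compactSpace (AlgSp.Points.continuous_map i.hom) hs
  exact isQuasiCompactSp_of_compactSpace hX'

section stk

variable {𝒳 𝒴 𝒵 : AlgSt.Cat S}

/-- S12981, first half. -/
theorem isQuasiCompactMor_of_repWith_qcMor (h𝒳 : AlgSt.IsAlgStack Scheme.fppfPrecoverage 𝒳)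
    (h𝒴 : AlgSt.IsAlgStack Scheme.fppfPrecoverage 𝒴) (f : 𝒳 ⥤ᵇ 𝒴)
    (H : AlgSt.RepByAlgSpWith AlgSp.IsQuasiCompactMor f) :
    AlgSt.IsQuasiCompactMor Scheme.fppfPrecoverage f := by
  intro 𝒯 h𝒯 hq t
  obtain ⟨Z₀, z₀, hZ₀, hz₀, hz₀'⟩ := hq
  obtain ⟨F, e, he, hQ⟩ := H Z₀ (BasedFunctor.comp z₀ t)
  haveI : CompactSpace Z₀.left := inferInstance
  have hF : AlgSp.IsQuasiCompactSp F.obj :=
    hQ (AlgSp.IsAlgSpace.yon_obj Z₀) (isQuasiCompactSp_yon Z₀) (𝟙 _) (𝟙 _) _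
      (isPullback_id_left _)
  obtain ⟨T, p, hpe, hps, hT⟩ := hF
  obtain ⟨-, c2⟩ := chart_of_etale_atlas F.obj F.property T p hpe hps
  have hTf : IsFibGrpd (FibCat.overCat T).p := isFibGrpd_over_forget T
  have hFf : IsFibGrpd (AlgSt.ofSp F.obj).p := Stk.isFibGrpd_ofPsh _
  have hZf : IsFibGrpd (FibCat.overCat Z₀).p := isFibGrpd_over_forget Z₀
  have hfp : AlgSt.IsAlgStack Scheme.fppfPrecoverage (fp t f) :=
    isAlgStack_fp h𝒴.isStack h𝒴.diag h𝒯 h𝒳 t f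
  have hfp' : IsFibGrpd (fp (BasedFunctor.comp z₀ t) f).p :=
    isFibGrpd_fp _ _ hZf h𝒳.isStack.1 h𝒴.isStack.1
  have s1 : AlgSt.IsSurjective (BasedFunctor.comp (AlgSt.ofOverCat T) (AlgSt.ofSpMap p)) :=
    (isSurjective_iff_repWith hTf hFf _ (repByAlgSp1_of_repWith _ c2)).2 c2
  have s2 := map_surjective_of_isEquivOver e he
  have r3 : AlgSt.RepByAlgSpWith AlgSp.IsSurjectiveMor (pasteInner z₀ t f) :=
    repWith_pasteInner _ z₀ t f hz₀'
  have s3 : AlgSt.IsSurjective (pasteInner z₀ t f) :=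
    (isSurjective_iff_repWith hfp' hfp.isStack.1 _ (repByAlgSp1_of_repWith _ r3)).2 r3
  refine isQuasiCompact_of_surj_chart hfp T hT
    (BasedFunctor.comp (BasedFunctor.comp (AlgSt.ofOverCat T) (AlgSt.ofSpMap p))
      (BasedFunctor.comp e (pasteInner z₀ t f))) ?_
  intro w
  obtain ⟨w₁, rfl⟩ := s3 w
  obtain ⟨w₂, rfl⟩ := s2 w₁
  obtain ⟨w₃, rfl⟩ := s1 w₂
  exact ⟨w₃, by
    rw [Groth.Agent.Lib.AlgStPoints.map_comp, Groth.Agent.Lib.AlgStPoints.map_comp]⟩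

/-- S12981, second half. -/
theorem repWith_qcMor_of_isQuasiCompactMor (h𝒳 : AlgSt.IsAlgStack Scheme.fppfPrecoverage 𝒳)
    (h𝒴 : AlgSt.IsAlgStack Scheme.fppfPrecoverage 𝒴) (f : 𝒳 ⥤ᵇ 𝒴)
    (hf : AlgSt.RepByAlgSp1 f) (H : AlgSt.IsQuasiCompactMor Scheme.fppfPrecoverage f) :
    AlgSt.RepByAlgSpWith AlgSp.IsQuasiCompactMor f := by
  have hQ : AlgSt.RepByAlgSpWith QcTransfer f := by
    intro T y₁
    obtain ⟨F₁, e₁, he₁⟩ := hf T y₁
    refine ⟨F₁, e₁, he₁, ?_⟩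
    show AlgSp.IsQuasiCompactSp _ → AlgSp.IsQuasiCompactSp _
    intro hTq
    have hT : CompactSpace T.left := compactSpace_of_isQuasiCompactSp_yon T hTq
    have h1 : AlgSt.IsQuasiCompact (FibCat.overCat T) :=
      isQuasiCompact_of_surj_chart (isAlgStack_overCat T) T hT (BasedFunctor.id _)
        (fun p => ⟨p, Groth.Agent.Lib.AlgStPoints.map_id p⟩)
    have h2 : AlgSt.IsQuasiCompact (fp y₁ f) := H (FibCat.overCat T) (isAlgStack_overCat T) h1 y₁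
    obtain ⟨e₁', ⟨η⟩, ⟨ζ⟩⟩ := he₁
    have h3 : AlgSt.IsQuasiCompact (AlgSt.ofSp F₁.obj) :=
      isQuasiCompact_of_isEquivOver e₁' (isEquivOver_inverse η ζ) h2
    exact isQuasiCompactSp_of_isQuasiCompact_ofSp F₁ h3
  intro U y
  obtain ⟨F, e, he⟩ := hf U y
  refine ⟨F, e, he, ?_⟩
  let Φ : AlgSt.ofSp F.obj ⥤ᵇ FibCat.overCat U := BasedFunctor.comp e (fpFst y f)
  have r1 : AlgSt.RepByAlgSpWith QcTransfer Φ :=
    repWith_precomp_equiv _ e he _ (repWith_baseChange _ f y hQ)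
  have i1 : BasedFunctor.comp Φ (AlgSt.ofOverCat U) ≅
      Stk.ofPshMap (mapOf (BasedFunctor.comp Φ (AlgSt.ofOverCat U))) := isoOf _
  have e2 : Stk.ofPshMap (mapOf (BasedFunctor.comp Φ (AlgSt.ofOverCat U))) =
      AlgSt.ofSpMap (AlgSt.spMapOfOver Φ) := congrArg Stk.ofPshMap (spMapOfOver_hom Φ).symm
  have r2 : AlgSt.RepByAlgSpWith QcTransfer (AlgSt.ofSpMap (AlgSt.spMapOfOver Φ)) :=
    repWith_of_iso _ (i1 ≪≫ eqToIso e2)
      (repWith_postcomp_equiv _ Φ (AlgSt.ofOverCat U) (ofOverCat_isEquivOver U) r1)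
  have r3 : AlgSp.RepBySpWith QcTransfer (AlgSt.spMapOfOver Φ).hom :=
    repBySpWith_of_repByAlgSpWith _ isoInv_qcTransfer _ r2
  refine isQuasiCompactMor_of_forall_affine F.property (AlgSp.IsAlgSpace.yon_obj U).diag _
    (fun Z hZ g P fst snd sq => ?_)
  haveI : CompactSpace Z.left := inferInstance
  exact (sq_of_repBySpWith _ _ r3 Z g P fst snd sq).2 (isQuasiCompactSp_yon Z)

/-- S12984. -/
theorem isQuasiCompactMor_of_isClosedImm (h𝒳 : AlgSt.IsAlgStack Scheme.fppfPrecoverage 𝒳)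
    (h𝒴 : AlgSt.IsAlgStack Scheme.fppfPrecoverage 𝒴) (f : 𝒳 ⥤ᵇ 𝒴) (H : AlgSt.IsClosedImm f) :
    AlgSt.IsQuasiCompactMor Scheme.fppfPrecoverage f := by
  refine isQuasiCompactMor_of_repWith_qcMor h𝒳 h𝒴 f ?_
  exact repWith_mono' (fun X U a _ (ha : AlgSp.RepWith @IsClosedImmersion a) =>
    isQuasiCompactMor_of_repWith a
      (repWith_mono (fun _ _ g (_ : IsClosedImmersion g) => (inferInstance : QuasiCompact g))
        ha)) f H

theorem isQuasiCompactMor_baseChange {𝒴' : AlgSt.Cat S} (h : 𝒳 ⥤ᵇ 𝒴) (k : 𝒴' ⥤ᵇ 𝒴)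
    (H : AlgSt.IsQuasiCompactMor Scheme.fppfPrecoverage h) :
    AlgSt.IsQuasiCompactMor Scheme.fppfPrecoverage (fpFst k h) := by
  intro 𝒯 h𝒯 hq t
  exact isQuasiCompact_of_isEquivOver (paste t k h) (paste_isEquivOver t k h)
    (H 𝒯 h𝒯 hq (BasedFunctor.comp t k))

theorem isQuasiCompactMor_precomp_equiv {𝒲 : AlgSt.Cat S} (E : 𝒲 ⥤ᵇ 𝒳) (hE : IsEquivOver E)
    (π : 𝒳 ⥤ᵇ 𝒴) (H : AlgSt.IsQuasiCompactMor Scheme.fppfPrecoverage π) :
    AlgSt.IsQuasiCompactMor Scheme.fppfPrecoverage (BasedFunctor.comp E π) := by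
  intro 𝒯 h𝒯 hq t
  obtain ⟨D, ⟨ηD⟩, ⟨ζD⟩⟩ := precomp_isEquivOver t π E hE
  exact isQuasiCompact_of_isEquivOver D (isEquivOver_inverse ηD ζD) (H 𝒯 h𝒯 hq t)

/-- S12986. -/
theorem isQuasiCompactMor_of_comp (h𝒳 : AlgSt.IsAlgStack Scheme.fppfPrecoverage 𝒳)
    (h𝒴 : AlgSt.IsAlgStack Scheme.fppfPrecoverage 𝒴)
    (h𝒵 : AlgSt.IsAlgStack Scheme.fppfPrecoverage 𝒵) (f : 𝒳 ⥤ᵇ 𝒴) (g : 𝒴 ⥤ᵇ 𝒵)
    (H : AlgSt.IsQuasiCompactMor Scheme.fppfPrecoverage (BasedFunctor.comp f g))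
    (Hg : AlgSt.IsQuasiSeparatedMor g) :
    AlgSt.IsQuasiCompactMor Scheme.fppfPrecoverage f := by
  have hfp : AlgSt.IsAlgStack Scheme.fppfPrecoverage (fp (BasedFunctor.comp f g) g) :=
    isAlgStack_fp h𝒵.isStack h𝒵.diag h𝒳 h𝒴 (BasedFunctor.comp f g) g
  let e : BasedFunctor.comp (BasedFunctor.id 𝒳) (BasedFunctor.comp f g) ≅
      BasedFunctor.comp f g := Iso.refl _
  have hΓ : AlgSt.RepByAlgSpWith AlgSp.IsQuasiCompactMor
      (fpLift (BasedFunctor.id 𝒳) f e) :=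
    repWith_mono' (fun _ _ _ _ h => h.1) _
      (repWith_graph _ (BasedFunctor.comp f g) g f e Hg)
  have h1 : AlgSt.IsQuasiCompactMor Scheme.fppfPrecoverage (fpLift (BasedFunctor.id 𝒳) f e) :=
    isQuasiCompactMor_of_repWith_qcMor h𝒳 hfp _ hΓ
  have h2 : AlgSt.IsQuasiCompactMor Scheme.fppfPrecoverage (fpSnd (BasedFunctor.comp f g) g) :=
    isQuasiCompactMor_precomp_equiv (swap (BasedFunctor.comp f g) g)
      (swap_isEquivOver (BasedFunctor.comp f g) g) (fpFst g (BasedFunctor.comp f g))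
      (isQuasiCompactMor_baseChange (BasedFunctor.comp f g) g H)
  exact isQuasiCompactMor_comp h𝒳 hfp h𝒴 (fpLift (BasedFunctor.id 𝒳) f e)
    (fpSnd (BasedFunctor.comp f g) g) h1 h2

end stk

end Groth.Agent.Lib.AlgStLocQ
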