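import Groth.Agent.Lib.AlgStOpenSub3_lead
import Groth.Agent.Lib.AlgStQC2_lead
import Groth.Agent.Lib.AlgStFp_lead
import Groth.Agent.Lib.FibCatMagic_lead
import Groth.Agent.Lib.AlgStImmNoeth_lead
import Groth.Agent.Lib.AlgStDiagRep3_lead
import Groth.Agent.Lib.OfPshWith5_lead
import Groth.Agent.Lib.AlgStDiag_lead
import Groth.Agent.Lib.AlgSpTop_helper7
import Groth.Agent.Lib.AlgSpUniv_helper7

/-! # Quasi-compact source, quasi-separated target: the morphism is quasi-compact (lead) -/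

set_option autoImplicit false

universe w v₁ v₂ v₃ v₄ v₅ v₆ u₁ u₂ u₃ u₄ u₅ u₆ u

open CategoryTheory CategoryTheory.Limits AlgebraicGeometry Opposite FibCat Stk

namespace Groth.Agent.Lib.AlgStLocQ

open AlgSt Groth.Agent.Lib.FibCat_helper6 Groth.Agent.Lib.FibCat3_helper6
  Groth.Agent.Lib.FibCat14_helper6 Groth.Agent.Lib.FibCat12_helper6
  Groth.Agent.Lib.FibCatPaste Groth.Agent.Lib.FibCatSwap
  Groth.Agent.Lib.FibCatIsoFun
  Groth.Agent.Lib.OfPshCalc Groth.Agent.Lib.AlgStBC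
  Groth.Agent.Lib.AlgStEquiv Groth.Agent.Lib.AlgStEquivP Groth.Agent.Lib.AlgStEquivInv
  Groth.Agent.Lib.OfPshAlgSt Groth.Agent.Lib.LiftSqBC Groth.Agent.Lib.LiftSqComp
  Groth.Agent.Lib.OfPshWith Groth.Agent.Lib.FibCatDiagSec Groth.Agent.Lib.AlgStDiagRep
  Groth.Agent.Lib.FibCatDiagBC Groth.Agent.Lib.FibCatMagic Groth.Agent.Lib.FibCatProd
  Groth.Agent.Lib.AlgStDiag Groth.Agent.Lib.AlgStLocal
  Groth.Agent.Lib.AlgSpQC_helper7 Groth.Agent.Lib.AlgSpDiag_helper7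
  Groth.Agent.Lib.AlgSpPullback_helper7 Groth.Agent.Lib.AlgSpRepBySp_helper7
  Groth.Agent.Lib.AlgSpPoints_helper7 Groth.Agent.Lib.AlgSpLocP_helper7
  Groth.Agent.Lib.AlgSpBasic_helper7 Groth.Agent.Lib.AlgSpSep_helper7
  Groth.Agent.Lib.AlgSpLocP4_helper7 Groth.Agent.Lib.AlgSpLocP5_helper7
  Groth.Agent.Lib.AlgSpLocP7_helper7 Groth.Agent.Lib.AlgSpQC2_helper7
  Groth.Agent.Lib.AlgSpLocP8_helper7 Groth.Agent.Lib.AlgSpLocP10_helper7
  Groth.Agent.Lib.AlgSpFpqc3_helper7 Groth.Agent.Lib.AlgSpLocP6_helper7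
  Groth.Agent.Lib.AlgSpFpqc2_helper7 Groth.Agent.Lib.AlgSpFpqc_helper7
  Groth.Agent.Lib.AlgSpProper_helper7 Groth.Agent.Lib.AlgSpAffineMorH7
  Groth.Agent.Lib.AlgStAtlas Groth.Agent.Lib.AlgStPoints Groth.Agent.Lib.AlgStPtsCmp
  Groth.Agent.Lib.FibCatYoneda_helper6



variable {S : Scheme.{u}}

section qc

variable {𝒳 𝒴 𝒵 : AlgSt.Cat S}

/-- The structure morphism of an affine scheme over a quasi-separated base is quasi-compact. -/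
theorem isQuasiCompactMor_toSelf_overCat [QuasiSeparatedSpace S] (U : Over S)
    (hU : IsAffine U.left) :
    AlgSt.IsQuasiCompactMor Scheme.fppfPrecoverage (toSelf (FibCat.overCat U)) := by
  haveI := hU
  let T₀ : Over S := Over.mk (𝟙 S)
  have hT : IsTerminal T₀ := Over.mkIdTerminal
  let a : U ⟶ T₀ := hT.from U
  haveI : QuasiSeparatedSpace ↥T₀.left := (inferInstance : QuasiSeparatedSpace ↥S)
  have hq : QuasiCompact a.left := quasiCompact_of_compactSpace a.left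
  have h1 : AlgSp.IsQuasiCompactMor ((AlgSp.yon S).map a) :=
    isQuasiCompactMor_of_repWith _ ((AlgSp.repWith_yon_map_iff @QuasiCompact a).2 hq)
  have h2 : AlgSt.RepByAlgSpWith AlgSp.IsQuasiCompactMor (AlgSt.overMap a) :=
    repWith_overMap _
      (fun _ _ _ _ _ _ _ _ _ _ _ _ sq h => isQuasiCompactMor_of_isPullback sq h) a h1
  have h3 : AlgSt.RepByAlgSpWith AlgSp.IsQuasiCompactMor
      (BasedFunctor.comp (AlgSt.overMap a) (toSelf (FibCat.overCat T₀))) :=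
    repWith_postcomp_equiv _ _ _ (toSelf_overCat_isEquivOver T₀ hT) h2
  rw [comp_toSelf_eq] at h3
  exact isQuasiCompactMor_of_repWith_qcMor (isAlgStack_overCat U) (isDM_selfOver (S := S)).1 _ h3

/-- Products of quasi-compact algebraic stacks over a quasi-separated base are quasi-compact. -/
theorem isQuasiCompact_prod [QuasiSeparatedSpace S]
    (h𝒵 : AlgSt.IsAlgStack Scheme.fppfPrecoverage 𝒵)
    (h𝒳 : AlgSt.IsAlgStack Scheme.fppfPrecoverage 𝒳)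
    (hq𝒵 : AlgSt.IsQuasiCompact 𝒵) (hq𝒳 : AlgSt.IsQuasiCompact 𝒳) :
    AlgSt.IsQuasiCompact (fp (toSelf 𝒵) (toSelf 𝒳)) := by
  obtain ⟨U, z, hU, hz, hz'⟩ := hq𝒵
  obtain ⟨U', x, hU', hx, hx'⟩ := hq𝒳
  have hUa := isAlgStack_overCat U
  have hU'a := isAlgStack_overCat U'
  have h₀ := isAlgStack_prod h𝒵 h𝒳
  have h₁ := isAlgStack_prod hUa h𝒳
  have h₂ := isAlgStack_prod hUa hU'a
  have hq₂ : AlgSt.IsQuasiCompact
      (fp (toSelf (FibCat.overCat U)) (toSelf (FibCat.overCat U'))) :=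
    isQuasiCompactMor_toSelf_overCat U' hU' (FibCat.overCat U) hUa (isQuasiCompact_overCat U hU)
      (toSelf (FibCat.overCat U))
  obtain ⟨m₁, hm₁⟩ : ∃ m₁ : fp (toSelf (FibCat.overCat U)) (toSelf (FibCat.overCat U')) ⥤ᵇ
      fp (toSelf (FibCat.overCat U)) (toSelf 𝒳), AlgSt.RepByAlgSpWith AlgSp.IsSurjectiveMor m₁ :=
    ⟨_, repWith_of_twoCart (g := fpSnd (toSelf (FibCat.overCat U)) (toSelf 𝒳)) (f := x) _
      (mapR x (toSelfIso (fpFst (toSelf (FibCat.overCat U)) (toSelf (FibCat.overCat U')))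
        (BasedFunctor.comp (fpSnd (toSelf (FibCat.overCat U)) (toSelf (FibCat.overCat U'))) x)))
      (fpSnd (toSelf (FibCat.overCat U)) (toSelf (FibCat.overCat U')))
      (Iso.refl (BasedFunctor.comp
        (fpSnd (toSelf (FibCat.overCat U)) (toSelf (FibCat.overCat U'))) x))
      (cmpR_isEquivOver x _) hx'⟩
  obtain ⟨m₂, hm₂⟩ : ∃ m₂ : fp (toSelf (FibCat.overCat U)) (toSelf 𝒳) ⥤ᵇ
      fp (toSelf 𝒵) (toSelf 𝒳), AlgSt.RepByAlgSpWith AlgSp.IsSurjectiveMor m₂ :=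
    ⟨_, repWith_of_twoCart (g := fpFst (toSelf 𝒵) (toSelf 𝒳)) (f := z) _
      (mapL z (toSelfIso (BasedFunctor.comp (fpFst (toSelf (FibCat.overCat U)) (toSelf 𝒳)) z)
        (fpSnd (toSelf (FibCat.overCat U)) (toSelf 𝒳))))
      (fpFst (toSelf (FibCat.overCat U)) (toSelf 𝒳))
      (Iso.refl (BasedFunctor.comp (fpFst (toSelf (FibCat.overCat U)) (toSelf 𝒳)) z))
      (cmpL_isEquivOver z _) hz'⟩
  have hs₁ := (isSurjective_iff_repWith h₂.isStack.1 h₁.isStack.1 m₁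
    (repByAlgSp1_of_repWith _ hm₁)).2 hm₁
  have hs₂ := (isSurjective_iff_repWith h₁.isStack.1 h₀.isStack.1 m₂
    (repByAlgSp1_of_repWith _ hm₂)).2 hm₂
  haveI : CompactSpace (AlgSt.Points
      (fp (toSelf (FibCat.overCat U)) (toSelf (FibCat.overCat U')))) :=
    (isQuasiCompact_iff_compactSpace_points h₂).1 hq₂
  have hc := (continuous_points_map h₁ h₀ m₂).comp (continuous_points_map h₂ h₁ m₁)
  have hs : Function.Surjective (AlgSt.Points.map m₂ ∘ AlgSt.Points.map m₁) :=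
    Function.Surjective.comp hs₂ hs₁
  exact (isQuasiCompact_iff_compactSpace_points h₀).2 (hs.compactSpace hc)

/-- S12987. -/
theorem isQuasiCompactMor_of_qc_of_qs [QuasiSeparatedSpace S]
    (h𝒳 : AlgSt.IsAlgStack Scheme.fppfPrecoverage 𝒳)
    (h𝒴 : AlgSt.IsAlgStack Scheme.fppfPrecoverage 𝒴) (f : 𝒳 ⥤ᵇ 𝒴)
    (hq : AlgSt.IsQuasiCompact 𝒳) (hs : AlgSt.IsQuasiSeparatedOver 𝒴) :
    AlgSt.IsQuasiCompactMor Scheme.fppfPrecoverage f := by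
  intro 𝒵 h𝒵 hq𝒵 g
  have hΔ : AlgSt.RepByAlgSpWith AlgSp.IsQuasiCompactMor (FibCat.diag (toSelf 𝒴)) :=
    repWith_mono' (fun _ _ a _ ha => ha.1) _ hs
  have hΔq := isQuasiCompactMor_of_repWith_qcMor h𝒴 (isAlgStack_prod h𝒴 h𝒴)
    (FibCat.diag (toSelf 𝒴)) hΔ
  have hprod := isQuasiCompact_prod h𝒵 h𝒳 hq𝒵 hq
  have h1 : AlgSt.IsQuasiCompact
      (fp (Groth.Agent.Lib.FibCatMagic.prodMap g f) (FibCat.diag (toSelf 𝒴))) :=
    hΔq _ (isAlgStack_prod h𝒵 h𝒳) hprod (Groth.Agent.Lib.FibCatMagic.prodMap g f)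
  obtain ⟨k, ⟨η⟩, ⟨ε⟩⟩ := magic_isEquivOver g f
  exact isQuasiCompact_of_equiv k (isEquivOver_inverse η ε) h1

/-- S12988. -/
theorem qcqs_fp [QuasiSeparatedSpace S]
    (h𝒳 : AlgSt.IsAlgStack Scheme.fppfPrecoverage 𝒳)
    (h𝒴 : AlgSt.IsAlgStack Scheme.fppfPrecoverage 𝒴)
    (h𝒵 : AlgSt.IsAlgStack Scheme.fppfPrecoverage 𝒵) (a : 𝒳 ⥤ᵇ 𝒴) (b : 𝒵 ⥤ᵇ 𝒴)
    (hq𝒳 : AlgSt.IsQuasiCompact 𝒳) (hs𝒳 : AlgSt.IsQuasiSeparatedOver 𝒳)
    (hs𝒴 : AlgSt.IsQuasiSeparatedOver 𝒴)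
    (hq𝒵 : AlgSt.IsQuasiCompact 𝒵) (hs𝒵 : AlgSt.IsQuasiSeparatedOver 𝒵) :
    AlgSt.IsQuasiCompact (fp a b) ∧ AlgSt.IsQuasiSeparatedOver (fp a b) := by
  refine ⟨isQuasiCompactMor_of_qc_of_qs h𝒵 h𝒴 b hq𝒵 hs𝒴 𝒳 h𝒳 hq𝒳 a, ?_⟩
  have h𝒳g : IsFibGrpd 𝒳.p := h𝒳.isStack.1
  have h𝒴g : IsFibGrpd 𝒴.p := h𝒴.isStack.1
  have h𝒵g : IsFibGrpd 𝒵.p := h𝒵.isStack.1
  have hSg : IsFibGrpd (selfOver (Over S)).p := isFibGrpd_selfOver
  have hb : AlgSt.IsQuasiSeparatedMor b := by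
    have h0 : AlgSt.IsQuasiSeparatedMor (BasedFunctor.comp b (toSelf 𝒴)) := by
      rw [comp_toSelf_eq]; exact hs𝒵
    exact isQuasiSeparatedMor_of_comp h𝒵g h𝒴g hSg b (toSelf 𝒴) h0
      (repWith_mono' (fun _ _ _ _ ha => ha.2) _ hs𝒴)
  have hfst : AlgSt.IsQuasiSeparatedMor (fpFst a b) := repWith_diag_baseChange _ b a hb
  have hfp : IsFibGrpd (fp a b).p := isFibGrpd_fp a b h𝒳g h𝒵g h𝒴g
  have h1 := Groth.Agent.Lib.OfPshWith.isQuasiSeparatedMor_comp hfp h𝒳g (fpFst a b) (toSelf 𝒳)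
    hfst hs𝒳
  show AlgSt.IsQuasiSeparatedMor (toSelf (fp a b))
  rw [← comp_toSelf_eq (fpFst a b)]
  exact h1

/-- S13018. -/
theorem noetherian_of_isImm (h𝒳 : AlgSt.IsAlgStack Scheme.fppfPrecoverage 𝒳)
    (h𝒴 : AlgSt.IsAlgStack Scheme.fppfPrecoverage 𝒴) (j : 𝒳 ⥤ᵇ 𝒴) (hj : AlgSt.IsImm j)
    (hq : AlgSt.IsQuasiCompact 𝒴) (hs : AlgSt.IsQuasiSeparatedOver 𝒴)
    (hN : AlgSt.SmoothLocally (fun T => IsLocallyNoetherian T) 𝒴) :
    AlgSt.IsQuasiCompact 𝒳 ∧ AlgSt.IsQuasiSeparatedOver 𝒳 ∧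
      AlgSt.SmoothLocally (fun T => IsLocallyNoetherian T) 𝒳 := by
  obtain ⟨hN', hjq⟩ := noeth_and_qc_of_isImm h𝒳 h𝒴 j hj hN
  refine ⟨?_, ?_, hN'⟩
  · have h1 : AlgSt.IsQuasiCompact (fp (BasedFunctor.id 𝒴) j) :=
      hjq 𝒴 h𝒴 hq (BasedFunctor.id 𝒴)
    exact isQuasiCompact_of_equiv (fpSnd (BasedFunctor.id 𝒴) j) (fpSnd_id_isEquivOver j) h1
  · have hjs : AlgSt.RepByAlgSpWith AlgSp.IsQuasiSeparatedMor j :=
      repWith_mono' (fun _ _ a _ (ha : AlgSp.RepWith @IsImmersion a) =>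
        (isQuasiSeparatedMor_iff_of_representable a ha.rep).2
          (repWith_mono (fun _ _ g (hg : IsImmersion g) =>
            (inferInstance : QuasiSeparated g)) ha)) j hj
    have hjq' : AlgSt.IsQuasiSeparatedMor j := isQuasiSeparatedMor_of_quasiSeparated j hjs
    have h1 := Groth.Agent.Lib.OfPshWith.isQuasiSeparatedMor_comp h𝒳.isStack.1 h𝒴.isStack.1 j
      (toSelf 𝒴) hjq' hs
    show AlgSt.IsQuasiSeparatedMor (toSelf 𝒳)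
    rw [← comp_toSelf_eq j]
    exact h1

end qc

end Groth.Agent.Lib.AlgStLocQ
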