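import Groth.Agent.Lib.AlgStFppfLift_lead

/-! # The topology on the points of an algebraic stack (lead) -/

set_option autoImplicit false

universe w v₁ v₂ v₃ v₄ v₅ v₆ u₁ u₂ u₃ u₄ u₅ u₆ u

open CategoryTheory CategoryTheory.Limits AlgebraicGeometry Opposite FibCat Stk

namespace Groth.Agent.Lib.AlgStLocQ

open AlgSt Groth.Agent.Lib.FibCat_helper6 Groth.Agent.Lib.FibCat3_helper6
  Groth.Agent.Lib.FibCat14_helper6 Groth.Agent.Lib.FibCat12_helper6
  Groth.Agent.Lib.FibCatPaste Groth.Agent.Lib.FibCatSwap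
  Groth.Agent.Lib.FibCatIsoFun
  Groth.Agent.Lib.OfPshCalc Groth.Agent.Lib.AlgStBC
  Groth.Agent.Lib.AlgStEquiv Groth.Agent.Lib.AlgStEquivP Groth.Agent.Lib.AlgStEquivInv
  Groth.Agent.Lib.OfPshAlgSt Groth.Agent.Lib.LiftSqBC Groth.Agent.Lib.LiftSqComp
  Groth.Agent.Lib.OfPshWith Groth.Agent.Lib.FibCatDiagSec Groth.Agent.Lib.AlgStDiagRep
  Groth.Agent.Lib.FibCatDiagBC Groth.Agent.Lib.FibCatMagic Groth.Agent.Lib.FibCatProd
  Groth.Agent.Lib.AlgStDiag Groth.Agent.Lib.AlgStLocal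
  Groth.Agent.Lib.AlgSpQC_helper7 Groth.Agent.Lib.AlgSpDiag_helper7
  Groth.Agent.Lib.AlgSpPullback_helper7 Groth.Agent.Lib.AlgSpRepBySp_helper7
  Groth.Agent.Lib.AlgSpPoints_helper7 Groth.Agent.Lib.AlgSpLocP_helper7
  Groth.Agent.Lib.AlgSpBasic_helper7 Groth.Agent.Lib.AlgSpSep_helper7
  Groth.Agent.Lib.AlgSpLocP4_helper7 Groth.Agent.Lib.AlgSpLocP5_helper7
  Groth.Agent.Lib.AlgSpLocP7_helper7 Groth.Agent.Lib.AlgSpQC2_helper7
  Groth.Agent.Lib.AlgSpLocP8_helper7 Groth.Agent.Lib.AlgSpLocP10_helper7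
  Groth.Agent.Lib.AlgSpFpqc3_helper7 Groth.Agent.Lib.AlgSpLocP6_helper7
  Groth.Agent.Lib.AlgSpFpqc2_helper7 Groth.Agent.Lib.AlgSpFpqc_helper7
  Groth.Agent.Lib.AlgSpProper_helper7 Groth.Agent.Lib.AlgSpAffineMorH7
  Groth.Agent.Lib.AlgStAtlas Groth.Agent.Lib.AlgStPoints Groth.Agent.Lib.AlgStPtsCmp
  Groth.Agent.Lib.FibCatYoneda_helper6


variable {S : Scheme.{u}}

section pts

variable {F G : AlgSp.Sp S}

theorem ptOfFPt_mk {K : Type u} [Field K] (str : Spec (CommRingCat.of K) ⟶ S)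
    (s : F.obj.obj (op (Over.mk str)))
    (h : (AlgSt.ofSp F).p.obj ⟨Over.mk str, s⟩ = Over.mk str) :
    ptOfFPt (⟨K, str, ⟨Over.mk str, s⟩, h⟩ : AlgSt.FPt (AlgSt.ofSp F)) = ⟨K, str, s⟩ := by
  show (⟨K, str, F.obj.map (eqToHom rfl).op s⟩ : AlgSp.FieldPt F) = ⟨K, str, s⟩
  congr 1
  simp

theorem toSpPoints_injective : Function.Injective (toSpPoints (F := F)) := by
  intro x y h
  obtain ⟨p, rfl⟩ := AlgSt.Points.mk_surjective x
  obtain ⟨q, rfl⟩ := AlgSt.Points.mk_surjective y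
  obtain ⟨Kp, sp, ⟨bp, secp⟩, lp⟩ := p
  obtain ⟨Kq, sq, ⟨bq, secq⟩, lq⟩ := q
  change bp = Over.mk sp at lp
  change bq = Over.mk sq at lq
  subst lp lq
  rw [toSpPoints_mk, toSpPoints_mk, ptOfFPt_mk, ptOfFPt_mk] at h
  obtain ⟨Ω, _, w, a, b, hab⟩ := AlgSp.Points.mk_eq_mk_iff.1 h
  have hab' : F.obj.map a.op secp = F.obj.map b.op secq := hab
  let r : AlgSt.FPt (AlgSt.ofSp F) := ⟨Ω, w, ⟨Over.mk w, F.obj.map a.op secp⟩, rfl⟩
  exact AlgSt.Points.sound ⟨r, (⟨a, rfl⟩ : r.obj ⟶ _), (⟨b, hab'.symm⟩ : r.obj ⟶ _), trivial⟩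

end pts

section stk

variable {𝒳 𝒴 : AlgSt.Cat S}

theorem map_injective_of_isEquivOver (E : 𝒳 ⥤ᵇ 𝒴) (h : IsEquivOver E) :
    Function.Injective (AlgSt.Points.map E) := by
  obtain ⟨E', ⟨η⟩, -⟩ := h
  intro a b hab
  have h1 := congrArg (AlgSt.Points.map E') hab
  rw [← Groth.Agent.Lib.AlgStPoints.map_comp, ← Groth.Agent.Lib.AlgStPoints.map_comp,
    map_congr_iso η, map_congr_iso η, Groth.Agent.Lib.AlgStPoints.map_id,
    Groth.Agent.Lib.AlgStPoints.map_id] at h1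
  exact h1

/-- The point of `(Sch/U)` attached to a point of the scheme `U`. -/
noncomputable def pt (U : Over S) (t : ↥U.left) : AlgSt.Points (FibCat.overCat U) :=
  AlgSt.Points.ofChart (BasedFunctor.id (FibCat.overCat U)) t

theorem ofChart_eq_map_pt {U : Over S} (x : FibCat.overCat U ⥤ᵇ 𝒳) (t : ↥U.left) :
    AlgSt.Points.ofChart x t = AlgSt.Points.map x (pt U t) := rfl

theorem ofChart_comp {U : Over S} (x : FibCat.overCat U ⥤ᵇ 𝒳) (f : 𝒳 ⥤ᵇ 𝒴) (t : ↥U.left) :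
    AlgSt.Points.ofChart (BasedFunctor.comp x f) t =
      AlgSt.Points.map f (AlgSt.Points.ofChart x t) := rfl

theorem ofChart_congr_iso {U : Over S} {x x' : FibCat.overCat U ⥤ᵇ 𝒳} (ι : x ≅ x')
    (t : ↥U.left) : AlgSt.Points.ofChart x t = AlgSt.Points.ofChart x' t :=
  map_congr_iso ι (pt U t)

theorem toSpPoints_map_ofOverCat_mk (U : Over S) {K : Type u} [Field K]
    (str : Spec (CommRingCat.of K) ⟶ S) (g : Over.mk str ⟶ U)
    (h : (FibCat.overCat U).p.obj (Over.mk g) = Over.mk str) :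
    toSpPoints (AlgSt.Points.map (AlgSt.ofOverCat U)
      (AlgSt.Points.mk (⟨K, str, Over.mk g, h⟩ : AlgSt.FPt (FibCat.overCat U)))) =
      AlgSp.Points.mk (⟨K, str, ⟨g⟩⟩ : AlgSp.FieldPt ((AlgSp.yon S).obj U)) :=
  congrArg AlgSp.Points.mk (ptOfFPt_mk (F := (AlgSp.yon S).obj U) str ⟨g⟩ rfl)

theorem toSpPoints_pt (U : Over S) (t : ↥U.left) :
    toSpPoints (AlgSt.Points.map (AlgSt.ofOverCat U) (pt U t)) = AlgSp.Points.ofScheme U t := by
  have h1 : toSpPoints (AlgSt.Points.map (AlgSt.ofOverCat U) (pt U t)) =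
      AlgSp.Points.mk (⟨↥(U.left.residueField t), U.left.fromSpecResidueField t ≫ U.hom,
        ⟨Over.homMk (U.left.fromSpecResidueField t) rfl⟩⟩ :
          AlgSp.FieldPt ((AlgSp.yon S).obj U)) :=
    toSpPoints_map_ofOverCat_mk U _ (Over.homMk (U.left.fromSpecResidueField t) rfl) _
  refine h1.trans ?_
  refine (AlgSp.Points.ofScheme_toScheme U _).symm.trans ?_
  exact congrArg (AlgSp.Points.ofScheme U)
    (Scheme.fromSpecResidueField_apply t (IsLocalRing.closedPoint _))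

theorem map_ofOverCat_overMap {W U : Over S} (a : W ⟶ U)
    (p : AlgSt.Points (FibCat.overCat W)) :
    AlgSt.Points.map (AlgSt.ofOverCat U) (AlgSt.Points.map (AlgSt.overMap a) p) =
      AlgSt.Points.map (AlgSt.ofSpMap ((AlgSp.yon S).map a))
        (AlgSt.Points.map (AlgSt.ofOverCat W) p) := by
  rw [← Groth.Agent.Lib.AlgStPoints.map_comp, ← Groth.Agent.Lib.AlgStPoints.map_comp]
  rfl

theorem sp_key (U : Over S) : Function.Injective
    (fun p : AlgSt.Points (FibCat.overCat U) =>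
      toSpPoints (AlgSt.Points.map (AlgSt.ofOverCat U) p)) :=
  toSpPoints_injective.comp (map_injective_of_isEquivOver _ (ofOverCat_isEquivOver U))

theorem pt_injective (U : Over S) : Function.Injective (pt U) := by
  intro t t' h
  apply ofScheme_injective U
  rw [← toSpPoints_pt, ← toSpPoints_pt, h]

theorem pt_surjective (U : Over S) : Function.Surjective (pt U) := by
  intro p
  obtain ⟨t, ht⟩ := ofScheme_surjective U (toSpPoints (AlgSt.Points.map (AlgSt.ofOverCat U) p))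
  refine ⟨t, sp_key U ?_⟩
  show toSpPoints (AlgSt.Points.map (AlgSt.ofOverCat U) (pt U t)) =
    toSpPoints (AlgSt.Points.map (AlgSt.ofOverCat U) p)
  rw [toSpPoints_pt, ht]

theorem map_overMap_pt {W U : Over S} (a : W ⟶ U) (w : ↥W.left) :
    AlgSt.Points.map (AlgSt.overMap a) (pt W w) = pt U (a.left w) := by
  apply sp_key U
  show toSpPoints (AlgSt.Points.map (AlgSt.ofOverCat U)
      (AlgSt.Points.map (AlgSt.overMap a) (pt W w))) =
    toSpPoints (AlgSt.Points.map (AlgSt.ofOverCat U) (pt U (a.left w)))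
  rw [toSpPoints_pt, map_ofOverCat_overMap, toSpPoints_map, toSpPoints_pt,
    ← AlgSp.Points.ofPt_eq_map_ofScheme, ofPt_yon_map]

theorem ofChart_overMap_comp {W U : Over S} (a : W ⟶ U) (x : FibCat.overCat U ⥤ᵇ 𝒳)
    (w : ↥W.left) :
    AlgSt.Points.ofChart (BasedFunctor.comp (AlgSt.overMap a) x) w =
      AlgSt.Points.ofChart x (a.left w) := by
  rw [ofChart_eq_map_pt, Groth.Agent.Lib.AlgStPoints.map_comp, map_overMap_pt]
  rfl

theorem ofChart_sq {W U V : Over S} {a : W ⟶ U} {b : W ⟶ V} {x : FibCat.overCat U ⥤ᵇ 𝒳}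
    {y : FibCat.overCat V ⥤ᵇ 𝒳}
    (ι : BasedFunctor.comp (AlgSt.overMap a) x ≅ BasedFunctor.comp (AlgSt.overMap b) y)
    (w : ↥W.left) : AlgSt.Points.ofChart x (a.left w) = AlgSt.Points.ofChart y (b.left w) := by
  rw [← ofChart_overMap_comp a x w, ← ofChart_overMap_comp b y w]
  exact ofChart_congr_iso ι w

theorem ofChart_surjective {U : Over S} (x : FibCat.overCat U ⥤ᵇ 𝒳)
    (hx : AlgSt.IsSurjective x) : Function.Surjective (AlgSt.Points.ofChart x) := by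
  intro p
  obtain ⟨q, rfl⟩ := hx p
  obtain ⟨t, rfl⟩ := pt_surjective U q
  exact ⟨t, rfl⟩

theorem ofChart_surjective_of_repWith (h𝒳 : IsFibGrpd 𝒳.p) {U : Over S}
    (x : FibCat.overCat U ⥤ᵇ 𝒳) (hx : AlgSt.RepByAlgSpWith AlgSp.IsSurjectiveMor x) :
    Function.Surjective (AlgSt.Points.ofChart x) :=
  ofChart_surjective x ((isSurjective_iff_repWith (isFibGrpd_over_forget U) h𝒳 x
    (repByAlgSp1_of_repWith _ hx)).2 hx)

theorem repWith_smooth_id_overCat (U : Over S) :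
    AlgSt.RepByAlgSpWith (AlgSp.LocP @Smooth) (BasedFunctor.id (FibCat.overCat U)) := by
  rw [← overMap_id U]
  exact repWith_overMap _ (bc_locP _ etLocal_smooth) (𝟙 U)
    (locP_yon_map_of @Smooth (fun _ _ g (_ : Etale g) => (inferInstance : Smooth g)) (𝟙 U)
      (show Smooth (𝟙 U.left) from inferInstance))

/-- Properties of morphisms of algebraic spaces that contain the smooth morphisms and are handled
by the chart machinery. -/
structure ChartProp (Q : MorphismProperty (AlgSp.Sp S)) : Prop where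
  isoInv : IsoInv Q
  testable : SchemeTestable Q
  comp : ∀ ⦃X Y Z : AlgSp.Sp S⦄, AlgSp.IsAlgSpace X → AlgSp.IsAlgSpace Y → AlgSp.IsAlgSpace Z →
    ∀ (a : X ⟶ Y) (b : Y ⟶ Z), Q a → Q b → Q (a ≫ b)
  ofSmooth : ∀ {𝒲 𝒵 : AlgSt.Cat S} (t : 𝒲 ⥤ᵇ 𝒵),
    AlgSt.RepByAlgSpWith (AlgSp.LocP @Smooth) t → AlgSt.RepByAlgSpWith Q t

theorem chartProp_smooth :
    ChartProp (AlgSp.LocP @Smooth : MorphismProperty (AlgSp.Sp S)) :=
  ⟨isoInv_locP _ etLocal_smooth, schemeTestable_locP _, comp_locP_smooth, fun _ h => h⟩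

theorem chartProp_flat : ChartProp (AlgSp.LocP @Flat : MorphismProperty (AlgSp.Sp S)) :=
  ⟨isoInv_locP _ etLocal_flat, schemeTestable_locP _, comp_locP_flat,
    fun t h => repWith_flat_of_smooth t h⟩

theorem chartProp_lfp :
    ChartProp (AlgSp.LocP @LocallyOfFinitePresentation : MorphismProperty (AlgSp.Sp S)) :=
  ⟨isoInv_locP _ etLocal_locallyOfFinitePresentation, schemeTestable_locP _, comp_locP_lfp,
    fun t h => repWith_lfp_of_smooth t h⟩

/-- Two morphisms from schemes to an algebraic stack are compared through a smooth atlas of their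
2-fibre product. -/
theorem exists_chart_compare (h𝒳 : AlgSt.IsAlgStack Scheme.fppfPrecoverage 𝒳) {U V : Over S}
    (x : FibCat.overCat U ⥤ᵇ 𝒳) (y : FibCat.overCat V ⥤ᵇ 𝒳) :
    ∃ (W : Over S) (a : W ⟶ U) (b : W ⟶ V),
      Nonempty (BasedFunctor.comp (AlgSt.overMap a) x ≅ BasedFunctor.comp (AlgSt.overMap b) y) ∧
      (∀ (u : ↥U.left) (v : ↥V.left), AlgSt.Points.ofChart x u = AlgSt.Points.ofChart y v →
        ∃ w : ↥W.left, a.left w = u ∧ b.left w = v) ∧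
      (∀ Q : MorphismProperty (AlgSp.Sp S), ChartProp Q → AlgSt.RepByAlgSpWith Q x →
        Q ((AlgSp.yon S).map b)) ∧
      (∀ Q : MorphismProperty (AlgSp.Sp S), ChartProp Q → AlgSt.RepByAlgSpWith Q y →
        Q ((AlgSp.yon S).map a)) := by
  have hIs : IsoInv (AlgSp.LocP @Smooth : MorphismProperty (AlgSp.Sp S)) :=
    isoInv_locP _ etLocal_smooth
  have hLs : SchemeTestable (AlgSp.LocP @Smooth : MorphismProperty (AlgSp.Sp S)) :=
    schemeTestable_locP _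
  have hU : IsFibGrpd (FibCat.overCat U).p := isFibGrpd_over_forget U
  have hV : IsFibGrpd (FibCat.overCat V).p := isFibGrpd_over_forget V
  have hfib : IsFibGrpd (fp x y).p := isFibGrpd_fp x y hU hV h𝒳.isStack.1
  have hat : AlgSt.HasAtlas (AlgSp.LocP @Smooth) (fp x y) :=
    hasAtlas_fp _ hIs hLs comp_locP_smooth
      (fun h => (hasAtlas_of_repByAlgSp h).2) hU hV h𝒳.isStack.1 h𝒳.diag x y
      (hasAtlas_of_repByAlgSp (repByAlgSp_overCat U)).2
      (hasAtlas_of_repByAlgSp (repByAlgSp_overCat V)).2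
  obtain ⟨W, t, ht₁, ht₂⟩ := hat
  have hW : IsFibGrpd (FibCat.overCat W).p := isFibGrpd_over_forget W
  obtain ⟨a, ⟨ιa⟩⟩ := exists_overMap_iso (BasedFunctor.comp t (fpFst x y))
  obtain ⟨b, ⟨ιb⟩⟩ := exists_overMap_iso (BasedFunctor.comp t (fpSnd x y))
  have hts : AlgSt.IsSurjective t :=
    (isSurjective_iff_repWith hW hfib t (repByAlgSp1_of_repWith _ ht₂)).2 ht₂
  refine ⟨W, a, b, ⟨?_⟩, ?_, ?_, ?_⟩
  · exact (whiskerRightIso ιa x).symm ≪≫ whiskerLeftIso t (fpIso x y) ≪≫ whiskerRightIso ιb y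
  · intro u v huv
    obtain ⟨q, hq₁, hq₂⟩ := exists_fp_point hV h𝒳.isStack.1 hU y x (pt U u) (pt V v) huv
    obtain ⟨p, rfl⟩ := hts q
    obtain ⟨w, rfl⟩ := pt_surjective W p
    refine ⟨w, pt_injective U ?_, pt_injective V ?_⟩
    · rw [← map_overMap_pt a w, ← map_congr_iso ιa (pt W w),
        Groth.Agent.Lib.AlgStPoints.map_comp]
      exact hq₁
    · rw [← map_overMap_pt b w, ← map_congr_iso ιb (pt W w),
        Groth.Agent.Lib.AlgStPoints.map_comp]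
      exact hq₂
  · intro Q hQ hx
    have h1 : AlgSt.RepByAlgSpWith Q (fpSnd x y) := repWith_fpSnd Q x y hx
    have h2 : AlgSt.RepByAlgSpWith Q (BasedFunctor.comp t (fpSnd x y)) :=
      repWith_comp' hW hfib Q hQ.isoInv hQ.testable hQ.comp t (fpSnd x y) (hQ.ofSmooth t ht₁) h1
    exact prop_of_repWith_overMap Q hQ.isoInv hQ.testable b (repWith_of_iso Q ιb h2)
  · intro Q hQ hy
    have h1 : AlgSt.RepByAlgSpWith Q (fpFst x y) := repWith_baseChange Q y x hy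
    have h2 : AlgSt.RepByAlgSpWith Q (BasedFunctor.comp t (fpFst x y)) :=
      repWith_comp' hW hfib Q hQ.isoInv hQ.testable hQ.comp t (fpFst x y) (hQ.ofSmooth t ht₁) h1
    exact prop_of_repWith_overMap Q hQ.isoInv hQ.testable a (repWith_of_iso Q ιa h2)

/-- S12820. -/
theorem continuous_points_map (h𝒳 : AlgSt.IsAlgStack Scheme.fppfPrecoverage 𝒳)
    (h𝒴 : AlgSt.IsAlgStack Scheme.fppfPrecoverage 𝒴) (f : 𝒳 ⥤ᵇ 𝒴) :
    Continuous (AlgSt.Points.map f) := by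
  refine continuous_def.2 fun O hO => AlgSt.Points.isOpen_iff.2 fun U x hx => ?_
  obtain ⟨V, y, hy, hy'⟩ := h𝒴.atlas
  obtain ⟨W, a, b, ⟨ι⟩, hpts, -, hQa⟩ := exists_chart_compare h𝒴 (BasedFunctor.comp x f) y
  have sa : Smooth a.left := AlgSp.locP_yon_map (hQa _ chartProp_smooth hy)
  have fa : Flat a.left := smooth_le_flat _ sa
  have pa : LocallyOfFinitePresentation a.left := smooth_le_lfp _ sa
  have hys : Function.Surjective (AlgSt.Points.ofChart y) :=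
    ofChart_surjective_of_repWith h𝒴.isStack.1 y hy'
  have ha_surj : Function.Surjective a.left := fun u => by
    obtain ⟨v, hv⟩ := hys (AlgSt.Points.ofChart (BasedFunctor.comp x f) u)
    obtain ⟨w, hw, -⟩ := hpts u v hv.symm
    exact ⟨w, hw⟩
  have e : a.left ⁻¹' (AlgSt.Points.ofChart x ⁻¹' (AlgSt.Points.map f ⁻¹' O)) =
      b.left ⁻¹' (AlgSt.Points.ofChart y ⁻¹' O) := by
    ext w
    have h3 : AlgSt.Points.map f (AlgSt.Points.ofChart x (a.left w)) =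
        AlgSt.Points.ofChart y (b.left w) := by
      rw [← ofChart_comp]
      exact ofChart_sq ι w
    simp only [Set.mem_preimage, h3]
  have h1 : IsOpen (b.left ⁻¹' (AlgSt.Points.ofChart y ⁻¹' O)) :=
    ((AlgSt.Points.isOpen_iff.1 hO) V y hy).preimage b.left.continuous
  rw [← e] at h1
  have h2 := a.left.isOpenMap _ h1
  rwa [Set.image_preimage_eq _ ha_surj] at h2

theorem continuous_ofChart (h𝒳 : AlgSt.IsAlgStack Scheme.fppfPrecoverage 𝒳) {U : Over S}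
    (x : FibCat.overCat U ⥤ᵇ 𝒳) : Continuous (AlgSt.Points.ofChart x) := by
  have h1 : Continuous (pt U) := continuous_def.2 fun O hO =>
    (AlgSt.Points.isOpen_iff.1 hO) U (BasedFunctor.id _) (repWith_smooth_id_overCat U)
  have h2 : Continuous (AlgSt.Points.map x) :=
    continuous_points_map (isAlgStack_overCat U) h𝒳 x
  exact h2.comp h1

theorem isOpenMap_ofChart (h𝒳 : AlgSt.IsAlgStack Scheme.fppfPrecoverage 𝒳) {U : Over S}
    (x : FibCat.overCat U ⥤ᵇ 𝒳) (hx₁ : AlgSt.RepByAlgSpWith (AlgSp.LocP @Flat) x)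
    (hx₂ : AlgSt.RepByAlgSpWith (AlgSp.LocP @LocallyOfFinitePresentation) x) :
    IsOpenMap (AlgSt.Points.ofChart x) := by
  intro U₀ hU₀
  refine AlgSt.Points.isOpen_iff.2 fun V y hy => ?_
  obtain ⟨W, a, b, ⟨ι⟩, hpts, hQb, -⟩ := exists_chart_compare h𝒳 x y
  have fb : Flat b.left := AlgSp.locP_yon_map (hQb _ chartProp_flat hx₁)
  have pb : LocallyOfFinitePresentation b.left := AlgSp.locP_yon_map (hQb _ chartProp_lfp hx₂)
  have e : AlgSt.Points.ofChart y ⁻¹' (AlgSt.Points.ofChart x '' U₀) =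
      b.left '' (a.left ⁻¹' U₀) := by
    ext v
    constructor
    · rintro ⟨u, hu, huv⟩
      obtain ⟨w, rfl, rfl⟩ := hpts u v huv
      exact ⟨w, hu, rfl⟩
    · rintro ⟨w, hw, rfl⟩
      exact ⟨a.left w, hw, ofChart_sq ι w⟩
  rw [e]
  exact b.left.isOpenMap _ (hU₀.preimage a.left.continuous)

/-- S12822. -/
theorem continuous_and_isOpenMap_ofChart (h𝒳 : AlgSt.IsAlgStack Scheme.fppfPrecoverage 𝒳)
    (U : Over S) (x : FibCat.overCat U ⥤ᵇ 𝒳)
    (hx₁ : AlgSt.RepByAlgSpWith (AlgSp.LocP @Flat) x)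
    (hx₂ : AlgSt.RepByAlgSpWith (AlgSp.LocP @LocallyOfFinitePresentation) x) :
    Continuous (AlgSt.Points.ofChart x) ∧ IsOpenMap (AlgSt.Points.ofChart x) :=
  ⟨continuous_ofChart h𝒳 x, isOpenMap_ofChart h𝒳 x hx₁ hx₂⟩

/-- A flat, locally finitely presented representable morphism of algebraic stacks is open on
points. -/
theorem isOpenMap_points_map {𝒳' : AlgSt.Cat S}
    (h𝒳' : AlgSt.IsAlgStack Scheme.fppfPrecoverage 𝒳')
    (h𝒳 : AlgSt.IsAlgStack Scheme.fppfPrecoverage 𝒳) (f : 𝒳' ⥤ᵇ 𝒳)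
    (hf₁ : AlgSt.RepByAlgSpWith (AlgSp.LocP @Flat) f)
    (hf₂ : AlgSt.RepByAlgSpWith (AlgSp.LocP @LocallyOfFinitePresentation) f) :
    IsOpenMap (AlgSt.Points.map f) := by
  intro O hO
  obtain ⟨U, x, hx, hx'⟩ := h𝒳'.atlas
  have hU : IsFibGrpd (FibCat.overCat U).p := isFibGrpd_over_forget U
  have hxs : Function.Surjective (AlgSt.Points.ofChart x) :=
    ofChart_surjective_of_repWith h𝒳'.isStack.1 x hx'
  have e : AlgSt.Points.map f '' O =
      AlgSt.Points.ofChart (BasedFunctor.comp x f) '' (AlgSt.Points.ofChart x ⁻¹' O) := by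
    ext p
    constructor
    · rintro ⟨q, hq, rfl⟩
      obtain ⟨u, rfl⟩ := hxs q
      exact ⟨u, hq, rfl⟩
    · rintro ⟨u, hu, rfl⟩
      exact ⟨AlgSt.Points.ofChart x u, hu, rfl⟩
  rw [e]
  exact isOpenMap_ofChart h𝒳 (BasedFunctor.comp x f)
    (repWith_comp' hU h𝒳'.isStack.1 _ chartProp_flat.isoInv chartProp_flat.testable
      chartProp_flat.comp x f (repWith_flat_of_smooth x hx) hf₁)
    (repWith_comp' hU h𝒳'.isStack.1 _ chartProp_lfp.isoInv chartProp_lfp.testable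
      chartProp_lfp.comp x f (repWith_lfp_of_smooth x hx) hf₂) _
    ((AlgSt.Points.isOpen_iff.1 hO) U x hx)

/-- S12821. -/
theorem isOpenMap_points_map_space (h𝒳 : AlgSt.IsAlgStack Scheme.fppfPrecoverage 𝒳)
    (U : AlgSp.Space S) (u : AlgSt.ofSp U.obj ⥤ᵇ 𝒳)
    (hu₁ : AlgSt.RepByAlgSpWith (AlgSp.LocP @Flat) u)
    (hu₂ : AlgSt.RepByAlgSpWith (AlgSp.LocP @LocallyOfFinitePresentation) u) :
    IsOpenMap (AlgSt.Points.map u) :=
  isOpenMap_points_map (isAlgStack_ofSp U) h𝒳 u hu₁ hu₂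

/-- S12823. -/
theorem isOpen_iff_preimage_space (h𝒳 : AlgSt.IsAlgStack Scheme.fppfPrecoverage 𝒳)
    (U : AlgSp.Space S) (p : AlgSt.ofSp U.obj ⥤ᵇ 𝒳)
    (hp₁ : AlgSt.RepByAlgSpWith (AlgSp.LocP @Flat) p)
    (hp₂ : AlgSt.RepByAlgSpWith (AlgSp.LocP @LocallyOfFinitePresentation) p)
    (hp₃ : AlgSt.RepByAlgSpWith AlgSp.IsSurjectiveMor p) (W : Set (AlgSt.Points 𝒳)) :
    IsOpen W ↔ IsOpen (AlgSt.Points.map p ⁻¹' W) := by
  have hs : Function.Surjective (AlgSt.Points.map p) :=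
    (isSurjective_iff_repWith (Stk.isFibGrpd_ofPsh _) h𝒳.isStack.1 p
      (repByAlgSp1_of_repWith _ hp₃)).2 hp₃
  constructor
  · intro h
    exact h.preimage (continuous_points_map (isAlgStack_ofSp U) h𝒳 p)
  · intro h
    have h2 := isOpenMap_points_map (isAlgStack_ofSp U) h𝒳 p hp₁ hp₂ _ h
    rwa [Set.image_preimage_eq _ hs] at h2

/-- S12824. -/
theorem exists_isOpen_isCompact_nhd (h𝒳 : AlgSt.IsAlgStack Scheme.fppfPrecoverage 𝒳)
    (x : AlgSt.Points 𝒳) (W : Set (AlgSt.Points 𝒳)) (hW : IsOpen W) (hx : x ∈ W) :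
    ∃ V : Set (AlgSt.Points 𝒳), IsOpen V ∧ IsCompact V ∧ x ∈ V ∧ V ⊆ W := by
  obtain ⟨V, y, hy, hy'⟩ := h𝒳.atlas
  have hys : Function.Surjective (AlgSt.Points.ofChart y) :=
    ofChart_surjective_of_repWith h𝒳.isStack.1 y hy'
  obtain ⟨v, rfl⟩ := hys x
  have hO : IsOpen (AlgSt.Points.ofChart y ⁻¹' W) := (AlgSt.Points.isOpen_iff.1 hW) V y hy
  obtain ⟨_, ⟨V₀, hV₀, rfl⟩, hvV₀, hsub⟩ :=
    V.left.isBasis_affineOpens.exists_subset_of_mem_open
      (show v ∈ AlgSt.Points.ofChart y ⁻¹' W from hx) hO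
  have hV₀' : IsAffineOpen V₀ := hV₀
  refine ⟨AlgSt.Points.ofChart y '' (V₀ : Set ↥V.left), ?_, ?_, ⟨v, hvV₀, rfl⟩,
    Set.image_subset_iff.2 hsub⟩
  · exact isOpenMap_ofChart h𝒳 y (repWith_flat_of_smooth y hy) (repWith_lfp_of_smooth y hy) _
      V₀.2
  · exact hV₀'.isCompact.image (continuous_ofChart h𝒳 y)

/-- S12847. -/
theorem isQuasiCompact_iff_compactSpace_points
    (h𝒳 : AlgSt.IsAlgStack Scheme.fppfPrecoverage 𝒳) :
    AlgSt.IsQuasiCompact 𝒳 ↔ CompactSpace (AlgSt.Points 𝒳) := by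
  constructor
  · rintro ⟨U, x, hU, hx, hx'⟩
    have hxs : Function.Surjective (AlgSt.Points.ofChart x) :=
      ofChart_surjective_of_repWith h𝒳.isStack.1 x hx'
    refine ⟨?_⟩
    rw [← Set.range_eq_univ.2 hxs]
    exact isCompact_range (continuous_ofChart h𝒳 x)
  · intro hc
    obtain ⟨V, y, hy, hy'⟩ := h𝒳.atlas
    have hys : Function.Surjective (AlgSt.Points.ofChart y) :=
      ofChart_surjective_of_repWith h𝒳.isStack.1 y hy'
    let 𝒱 := V.left.affineCover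
    let O : 𝒱.I₀ → Set (AlgSt.Points 𝒳) := fun j =>
      AlgSt.Points.ofChart y '' Set.range (𝒱.f j)
    have hO : ∀ j, IsOpen (O j) := fun j =>
      isOpenMap_ofChart h𝒳 y (repWith_flat_of_smooth y hy) (repWith_lfp_of_smooth y hy) _
        (𝒱.f j).isOpenEmbedding.isOpen_range
    have hcov : (Set.univ : Set (AlgSt.Points 𝒳)) ⊆ ⋃ j, O j := by
      intro p _
      obtain ⟨v, rfl⟩ := hys p
      obtain ⟨j, v₀, hv₀⟩ := 𝒱.exists_eq v
      exact Set.mem_iUnion.2 ⟨j, v, ⟨v₀, hv₀⟩, rfl⟩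
    obtain ⟨t, ht⟩ := isCompact_univ.elim_finite_subcover O hO hcov
    let g : t → Scheme.{u} := fun j => 𝒱.X j.1
    have hg : ∀ j, IsAffine (g j) := fun j => (inferInstance : IsAffine (𝒱.X j.1))
    let i : (∐ g) ⟶ V.left := Sigma.desc (fun j : t => 𝒱.f j.1)
    have hAff : IsAffine (∐ g) := inferInstance
    let U₀ : Over S := Over.mk (i ≫ V.hom)
    let i' : U₀ ⟶ V := Over.homMk i rfl
    have hU₀ : CompactSpace ↥U₀.left := (inferInstance : CompactSpace ↥(∐ g))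
    refine isQuasiCompact_of_surj_chart h𝒳 U₀ hU₀ (BasedFunctor.comp (AlgSt.overMap i') y) ?_
    intro p
    obtain ⟨j, hj, v, ⟨v₀, hv₀⟩, hp⟩ := Set.mem_iUnion₂.1 (ht (Set.mem_univ p))
    have hw : i'.left (Sigma.ι g ⟨j, hj⟩ v₀) = v := by
      show (Sigma.desc (fun j : t => 𝒱.f j.1)) (Sigma.ι g ⟨j, hj⟩ v₀) = v
      rw [← Scheme.Hom.comp_apply, Sigma.ι_desc]
      exact hv₀
    refine ⟨pt U₀ (Sigma.ι g ⟨j, hj⟩ v₀), ?_⟩
    show AlgSt.Points.ofChart (BasedFunctor.comp (AlgSt.overMap i') y) _ = p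
    rw [ofChart_overMap_comp, hw, hp]

end stk

end Groth.Agent.Lib.AlgStLocQ
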