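import Groth.Agent.Lib.AlgStUniv_lead
import Groth.Agent.Lib.AlgStMono_lead
import Groth.Agent.Lib.AlgSpTop_helper7
import Groth.Agent.Lib.AlgSpUniv_helper7

/-! # Universal injectivity and quasi-compactness are fppf local on the target (lead) -/

set_option autoImplicit false

universe w v₁ v₂ v₃ v₄ v₅ v₆ u₁ u₂ u₃ u₄ u₅ u₆ u

open CategoryTheory CategoryTheory.Limits AlgebraicGeometry Opposite FibCat Stk

namespace Groth.Agent.Lib.AlgStLocQ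

open AlgSt Groth.Agent.Lib.FibCat_helper6 Groth.Agent.Lib.FibCat3_helper6
  Groth.Agent.Lib.FibCat14_helper6 Groth.Agent.Lib.FibCat12_helper6
  Groth.Agent.Lib.FibCatPaste Groth.Agent.Lib.FibCatSwap
  Groth.Agent.Lib.FibCatIsoFun
  Groth.Agent.Lib.OfPshCalc Groth.Agent.Lib.AlgStBC
  Groth.Agent.Lib.AlgStEquiv Groth.Agent.Lib.AlgStEquivP Groth.Agent.Lib.AlgStEquivInv
  Groth.Agent.Lib.OfPshAlgSt Groth.Agent.Lib.LiftSqBC Groth.Agent.Lib.LiftSqComp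
  Groth.Agent.Lib.OfPshWith Groth.Agent.Lib.FibCatDiagSec Groth.Agent.Lib.AlgStDiagRep
  Groth.Agent.Lib.FibCatDiagBC Groth.Agent.Lib.FibCatMagic Groth.Agent.Lib.FibCatProd
  Groth.Agent.Lib.AlgStDiag Groth.Agent.Lib.AlgStLocal
  Groth.Agent.Lib.AlgSpQC_helper7 Groth.Agent.Lib.AlgSpDiag_helper7
  Groth.Agent.Lib.AlgSpPullback_helper7 Groth.Agent.Lib.AlgSpRepBySp_helper7
  Groth.Agent.Lib.AlgSpPoints_helper7 Groth.Agent.Lib.AlgSpLocP_helper7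
  Groth.Agent.Lib.AlgSpBasic_helper7 Groth.Agent.Lib.AlgSpSep_helper7
  Groth.Agent.Lib.AlgSpLocP4_helper7 Groth.Agent.Lib.AlgSpLocP5_helper7
  Groth.Agent.Lib.AlgSpLocP7_helper7 Groth.Agent.Lib.AlgSpQC2_helper7
  Groth.Agent.Lib.AlgSpLocP8_helper7 Groth.Agent.Lib.AlgSpLocP10_helper7
  Groth.Agent.Lib.AlgSpFpqc3_helper7 Groth.Agent.Lib.AlgSpLocP6_helper7
  Groth.Agent.Lib.AlgSpFpqc2_helper7 Groth.Agent.Lib.AlgSpFpqc_helper7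
  Groth.Agent.Lib.AlgSpProper_helper7 Groth.Agent.Lib.AlgSpAffineMorH7
  Groth.Agent.Lib.AlgStAtlas Groth.Agent.Lib.AlgStPoints Groth.Agent.Lib.AlgStPtsCmp
  Groth.Agent.Lib.FibCatYoneda_helper6



variable {S : Scheme.{u}}

section twist

variable {𝒳 : BasedCategory.{v₁, u₁} (Over S)} {𝒴 : BasedCategory.{v₂, u₂} (Over S)}
  {𝒵 : BasedCategory.{v₃, u₃} (Over S)}

/-- Transport of a 2-fibre product along a 2-isomorphism of its first functor. -/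
def twist {g₁ g₂ : 𝒵 ⥤ᵇ 𝒴} (α : g₁ ≅ g₂) (f : 𝒳 ⥤ᵇ 𝒴) : fp g₁ f ⥤ᵇ fp g₂ f :=
  fpLift (fpFst g₁ f) (fpSnd g₁ f) ((whiskerLeftIso (fpFst g₁ f) α).symm ≪≫ fpIso g₁ f)

theorem twist_fst {g₁ g₂ : 𝒵 ⥤ᵇ 𝒴} (α : g₁ ≅ g₂) (f : 𝒳 ⥤ᵇ 𝒴)
    (t : AlgSt.Points (fp g₁ f)) :
    AlgSt.Points.map (fpFst g₁ f) t =
      AlgSt.Points.map (fpFst g₂ f) (AlgSt.Points.map (twist α f) t) := by
  obtain ⟨p, rfl⟩ := AlgSt.Points.mk_surjective t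
  rfl

theorem twist_snd {g₁ g₂ : 𝒵 ⥤ᵇ 𝒴} (α : g₁ ≅ g₂) (f : 𝒳 ⥤ᵇ 𝒴)
    (t : AlgSt.Points (fp g₁ f)) :
    AlgSt.Points.map (fpSnd g₁ f) t =
      AlgSt.Points.map (fpSnd g₂ f) (AlgSt.Points.map (twist α f) t) := by
  obtain ⟨p, rfl⟩ := AlgSt.Points.mk_surjective t
  rfl

theorem twist_obj_iso_hom {g₁ g₂ : 𝒵 ⥤ᵇ 𝒴} (α : g₁ ≅ g₂) (f : 𝒳 ⥤ᵇ 𝒴) (X : (fp g₁ f).obj) :
    ((twist α f).obj X).obj.iso.hom = α.inv.toNatTrans.app X.obj.fst ≫ X.obj.iso.hom := rfl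

theorem twist_twist_symm_points {g₁ g₂ : 𝒵 ⥤ᵇ 𝒴} (α : g₁ ≅ g₂) (f : 𝒳 ⥤ᵇ 𝒴)
    (t : AlgSt.Points (fp g₁ f)) :
    AlgSt.Points.map (twist α.symm f) (AlgSt.Points.map (twist α f) t) = t := by
  obtain ⟨p, rfl⟩ := AlgSt.Points.mk_surjective t
  have hz : α.hom.toNatTrans.app p.obj.obj.fst ≫ α.inv.toNatTrans.app p.obj.obj.fst = 𝟙 _ :=
    congrArg (fun t => t.toNatTrans.app p.obj.obj.fst) α.hom_inv_id
  have w : g₁.map (𝟙 p.obj.obj.fst) ≫ p.obj.obj.iso.hom =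
      ((twist α.symm f).obj ((twist α f).obj p.obj)).obj.iso.hom ≫ f.map (𝟙 p.obj.obj.snd) := by
    rw [twist_obj_iso_hom, twist_obj_iso_hom]
    show g₁.map (𝟙 p.obj.obj.fst) ≫ p.obj.obj.iso.hom =
      (α.hom.toNatTrans.app p.obj.obj.fst ≫ α.inv.toNatTrans.app p.obj.obj.fst ≫
        p.obj.obj.iso.hom) ≫ f.map (𝟙 p.obj.obj.snd)
    rw [← Category.assoc (α.hom.toNatTrans.app p.obj.obj.fst), hz]
    simp
  exact AlgSt.Points.sound ⟨(p.map (twist α f)).map (twist α.symm f), 𝟙 _,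
    fpHomMk (F := g₁) (G := f) (X := (twist α.symm f).obj ((twist α f).obj p.obj)) (Y := p.obj)
      (𝟙 p.obj.obj.fst) (𝟙 p.obj.obj.snd) w, trivial⟩

theorem twist_surjective {g₁ g₂ : 𝒵 ⥤ᵇ 𝒴} (α : g₁ ≅ g₂) (f : 𝒳 ⥤ᵇ 𝒴) :
    Function.Surjective (AlgSt.Points.map (twist α f)) := fun t =>
  ⟨AlgSt.Points.map (twist α.symm f) t, twist_twist_symm_points α.symm f t⟩

theorem injective_fpFst_congr {g₁ g₂ : 𝒵 ⥤ᵇ 𝒴} (α : g₁ ≅ g₂) (f : 𝒳 ⥤ᵇ 𝒴)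
    (h : Function.Injective (AlgSt.Points.map (fpFst g₂ f))) :
    Function.Injective (AlgSt.Points.map (fpFst g₁ f)) := by
  intro a b hab
  rw [twist_fst α f a, twist_fst α f b] at hab
  have h1 := congrArg (AlgSt.Points.map (twist α.symm f)) (h hab)
  rwa [twist_twist_symm_points, twist_twist_symm_points] at h1

theorem surjective_fpSnd_of_surjective (h𝒳 : IsFibGrpd 𝒳.p) (h𝒴 : IsFibGrpd 𝒴.p)
    (h𝒵 : IsFibGrpd 𝒵.p) (f : 𝒳 ⥤ᵇ 𝒴) (g : 𝒵 ⥤ᵇ 𝒴) (hg : AlgSt.IsSurjective g) :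
    AlgSt.IsSurjective (fpSnd g f) := by
  intro x
  obtain ⟨z, hz⟩ := hg (AlgSt.Points.map f x)
  obtain ⟨w, -, hw⟩ := exists_fp_point h𝒳 h𝒴 h𝒵 f g z x hz
  exact ⟨w, hw⟩

end twist

section inj

variable (K : Precoverage Scheme.{u})

/-- A universally injective morphism is injective on points. -/
theorem injective_of_univInjective {𝒳 𝒴 : AlgSt.Cat S} (h𝒳 : IsFibGrpd 𝒳.p)
    (h𝒴 : AlgSt.IsAlgStack K 𝒴) (f : 𝒳 ⥤ᵇ 𝒴) (hf : AlgSt.IsUnivInjective K f) :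
    Function.Injective (AlgSt.Points.map f) := by
  have h𝒴' : IsFibGrpd 𝒴.p := h𝒴.isStack.1
  have inj := hf 𝒴 h𝒴 (BasedFunctor.id 𝒴)
  intro t₁ t₂ ht
  obtain ⟨w₁, hw₁, hw₁'⟩ := exists_fp_point h𝒳 h𝒴' h𝒴' f (BasedFunctor.id 𝒴)
    (AlgSt.Points.map f t₁) t₁ (Groth.Agent.Lib.AlgStPoints.map_id _)
  obtain ⟨w₂, hw₂, hw₂'⟩ := exists_fp_point h𝒳 h𝒴' h𝒴' f (BasedFunctor.id 𝒴)
    (AlgSt.Points.map f t₂) t₂ (Groth.Agent.Lib.AlgStPoints.map_id _)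
  have e : w₁ = w₂ := inj (hw₁.trans (ht.trans hw₂.symm))
  rw [← hw₁', ← hw₂', e]

/-- Injectivity on points of a base change may be tested after base changes which together hit
every point. -/
theorem injective_fpFst_of_forall_point {𝒳 𝒴 𝒵 : AlgSt.Cat S} (h𝒳 : IsFibGrpd 𝒳.p)
    (h𝒴 : IsFibGrpd 𝒴.p) (h𝒵 : IsFibGrpd 𝒵.p) (f : 𝒳 ⥤ᵇ 𝒴) (g : 𝒵 ⥤ᵇ 𝒴)
    (H : ∀ ζ : AlgSt.Points 𝒵, ∃ (𝒲 : AlgSt.Cat S) (_ : IsFibGrpd 𝒲.p) (k : 𝒲 ⥤ᵇ 𝒵)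
      (ω : AlgSt.Points 𝒲), AlgSt.Points.map k ω = ζ ∧
        Function.Injective (AlgSt.Points.map (fpFst (BasedFunctor.comp k g) f))) :
    Function.Injective (AlgSt.Points.map (fpFst g f)) := by
  intro w₁ w₂ hw
  obtain ⟨𝒲, h𝒲, k, ω, hω, inj⟩ := H (AlgSt.Points.map (fpFst g f) w₁)
  have hfp : IsFibGrpd (fp g f).p := isFibGrpd_fp g f h𝒵 h𝒳 h𝒴
  obtain ⟨W₁, a₁, b₁⟩ := exists_fp_point hfp h𝒵 h𝒲 (fpFst g f) k ω w₁ hω
  obtain ⟨W₂, a₂, b₂⟩ := exists_fp_point hfp h𝒵 h𝒲 (fpFst g f) k ω w₂ (hω.trans hw)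
  have surj := map_surjective_of_isEquivOver (paste k g f) (paste_isEquivOver k g f)
  have e : ∀ t, AlgSt.Points.map (fpFst (BasedFunctor.comp k g) f) t =
      AlgSt.Points.map (fpFst k (fpFst g f)) (AlgSt.Points.map (paste k g f) t) :=
    fun t => Groth.Agent.Lib.AlgStPoints.map_comp (paste k g f) (fpFst k (fpFst g f)) t
  obtain ⟨A₁, rfl⟩ := surj W₁
  obtain ⟨A₂, rfl⟩ := surj W₂
  have e' : A₁ = A₂ := inj ((e A₁).trans (a₁.trans ((e A₂).trans a₂).symm))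
  rw [← b₁, ← b₂, e']

end inj

section rows

variable {𝒳 𝒴 : AlgSt.Cat S}

/-- S13569. -/
theorem univInjective_of_forall_affine
    (h𝒳 : AlgSt.IsAlgStack Scheme.fppfPrecoverage 𝒳)
    (h𝒴 : AlgSt.IsAlgStack Scheme.fppfPrecoverage 𝒴) (f : 𝒳 ⥤ᵇ 𝒴)
    (h : ∀ (Z : Over S) [IsAffine Z.left] (z : FibCat.overCat Z ⥤ᵇ 𝒴),
      AlgSt.IsUnivInjective Scheme.fppfPrecoverage (FibCat.fpFst z f)) :
    AlgSt.IsUnivInjective Scheme.fppfPrecoverage f := by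
  intro 𝒵 h𝒵 g
  have h𝒵' : IsFibGrpd 𝒵.p := h𝒵.isStack.1
  refine injective_fpFst_of_forall_point h𝒳.isStack.1 h𝒴.isStack.1 h𝒵' f g fun ζ => ?_
  obtain ⟨r, rfl⟩ := AlgSt.Points.mk_surjective ζ
  haveI : 𝒵.p.IsFibered := isFibered_of_isFibGrpd h𝒵'
  have hZ : IsAffine (Over.mk r.str).left :=
    (inferInstance : IsAffine (Spec (CommRingCat.of r.K)))
  let z : FibCat.overCat (Over.mk r.str) ⥤ᵇ 𝒵 := yonedaFunctor r.lies
  let π : AlgSt.FPt (FibCat.overCat (Over.mk r.str)) :=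
    ⟨r.K, r.str, Over.mk (𝟙 (Over.mk r.str)), rfl⟩
  refine ⟨FibCat.overCat (Over.mk r.str), isFibGrpd_over_forget _, z, AlgSt.Points.mk π, ?_, ?_⟩
  · show AlgSt.Points.mk (π.map z) = AlgSt.Points.mk r
    exact AlgSt.Points.sound ⟨π.map z, 𝟙 _,
      Functor.IsPreFibered.pullbackMap r.lies
        (ohom (Over.mk r.str) (Over.mk (𝟙 (Over.mk r.str)))), trivial⟩
  · exact injective_of_univInjective Scheme.fppfPrecoverage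
      (isFibGrpd_fp _ _ (isFibGrpd_over_forget _) h𝒳.isStack.1 h𝒴.isStack.1)
      (isAlgStack_overCat _) _ (@h (Over.mk r.str) hZ (BasedFunctor.comp z g))

/-- S13570. -/
theorem univInjective_of_fppf_cover
    (h𝒳 : AlgSt.IsAlgStack Scheme.fppfPrecoverage 𝒳)
    (h𝒴 : AlgSt.IsAlgStack Scheme.fppfPrecoverage 𝒴) (f : 𝒳 ⥤ᵇ 𝒴)
    (W : AlgSp.Space S) (w : AlgSt.ofSp W.obj ⥤ᵇ 𝒴)
    (hw₃ : AlgSt.RepByAlgSpWith AlgSp.IsSurjectiveMor w)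
    (h : AlgSt.IsUnivInjective Scheme.fppfPrecoverage (FibCat.fpFst w f)) :
    AlgSt.IsUnivInjective Scheme.fppfPrecoverage f := by
  intro 𝒵 h𝒵 g
  have h𝒵' : IsFibGrpd 𝒵.p := h𝒵.isStack.1
  have hW : AlgSt.IsAlgStack Scheme.fppfPrecoverage (AlgSt.ofSp W.obj) := isAlgStack_ofSp W
  have hWg : IsFibGrpd (AlgSt.ofSp W.obj).p := Stk.isFibGrpd_ofPsh _
  have hw1 : AlgSt.RepByAlgSp1 w := repByAlgSp1_of_repWith _ hw₃
  have hws : AlgSt.IsSurjective w :=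
    (isSurjective_iff_repWith hWg h𝒴.isStack.1 w hw1).2 hw₃
  have hks : AlgSt.IsSurjective (fpFst g w) :=
    surjective_fpFst hWg h𝒴.isStack.1 h𝒵' w g hws
  have h𝒫 : AlgSt.IsAlgStack Scheme.fppfPrecoverage (fp g w) :=
    isAlgStack_fp h𝒴.isStack h𝒴.diag h𝒵 hW g w
  refine injective_fpFst_of_forall_point h𝒳.isStack.1 h𝒴.isStack.1 h𝒵' f g fun ζ => ?_
  obtain ⟨ω, hω⟩ := hks ζ
  refine ⟨fp g w, h𝒫.isStack.1, fpFst g w, ω, hω, ?_⟩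
  apply injective_fpFst_congr (fpIso g w) f
  have inj := h (fp g w) h𝒫 (fpSnd g w)
  have e : ∀ t, AlgSt.Points.map (fpFst (BasedFunctor.comp (fpSnd g w) w) f) t =
      AlgSt.Points.map (fpFst (fpSnd g w) (fpFst w f))
        (AlgSt.Points.map (paste (fpSnd g w) w f) t) :=
    fun t => Groth.Agent.Lib.AlgStPoints.map_comp (paste (fpSnd g w) w f)
      (fpFst (fpSnd g w) (fpFst w f)) t
  intro a b hab
  rw [e a, e b] at hab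
  exact map_injective_of_isEquivOver (paste (fpSnd g w) w f) (paste_isEquivOver _ _ _) (inj hab)

end rows

section qc

variable {𝒳 𝒴 𝒵 : AlgSt.Cat S}

theorem isQuasiCompact_overCat (U : Over S) (hU : IsAffine U.left) :
    AlgSt.IsQuasiCompact (FibCat.overCat U) := by
  have h1 := repWith_smooth_id_overCat U
  have hs : AlgSt.IsSurjective (BasedFunctor.id (FibCat.overCat U)) :=
    fun p => ⟨p, Groth.Agent.Lib.AlgStPoints.map_id p⟩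
  exact ⟨U, BasedFunctor.id _, hU, h1,
    (isSurjective_iff_repWith (isFibGrpd_over_forget U) (isFibGrpd_over_forget U) _
      (repByAlgSp1_of_repWith _ h1)).1 hs⟩

/-- An open surjection on points onto a quasi-compact space is already surjective on an affine
chart. -/
theorem exists_affine_chart_surj {𝒜 𝒯 : AlgSt.Cat S}
    (h𝒫 : AlgSt.IsAlgStack Scheme.fppfPrecoverage 𝒜) (k : 𝒜 ⥤ᵇ 𝒯)
    (hko : IsOpenMap (AlgSt.Points.map k)) (hks : Function.Surjective (AlgSt.Points.map k))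
    [CompactSpace (AlgSt.Points 𝒯)] :
    ∃ (U₀ : Over S) (_ : IsAffine U₀.left) (x : FibCat.overCat U₀ ⥤ᵇ 𝒜),
      ∀ τ : AlgSt.Points 𝒯, ∃ u : ↥U₀.left,
        AlgSt.Points.map k (AlgSt.Points.ofChart x u) = τ := by
  obtain ⟨V, y, hy, hy'⟩ := h𝒫.atlas
  have hys : Function.Surjective (AlgSt.Points.ofChart y) :=
    ofChart_surjective_of_repWith h𝒫.isStack.1 y hy'
  let 𝒱 := V.left.affineCover
  let O : 𝒱.I₀ → Set (AlgSt.Points 𝒯) := fun j =>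
    AlgSt.Points.map k '' (AlgSt.Points.ofChart y '' Set.range (𝒱.f j))
  have hO : ∀ j, IsOpen (O j) := fun j =>
    hko _ (isOpenMap_ofChart h𝒫 y (repWith_flat_of_smooth y hy) (repWith_lfp_of_smooth y hy) _
      (𝒱.f j).isOpenEmbedding.isOpen_range)
  have hcov : (Set.univ : Set (AlgSt.Points 𝒯)) ⊆ ⋃ j, O j := by
    intro τ _
    obtain ⟨p, rfl⟩ := hks τ
    obtain ⟨v, rfl⟩ := hys p
    obtain ⟨j, v₀, hv₀⟩ := 𝒱.exists_eq v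
    exact Set.mem_iUnion.2 ⟨j, _, ⟨v, ⟨v₀, hv₀⟩, rfl⟩, rfl⟩
  obtain ⟨t, ht⟩ := isCompact_univ.elim_finite_subcover O hO hcov
  let g : t → Scheme.{u} := fun j => 𝒱.X j.1
  have hg : ∀ j, IsAffine (g j) := fun j => (inferInstance : IsAffine (𝒱.X j.1))
  let i : (∐ g) ⟶ V.left := Sigma.desc (fun j : t => 𝒱.f j.1)
  have hAff : IsAffine (∐ g) := inferInstance
  let U₀ : Over S := Over.mk (i ≫ V.hom)
  let i' : U₀ ⟶ V := Over.homMk i rfl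
  refine ⟨U₀, hAff, BasedFunctor.comp (AlgSt.overMap i') y, fun τ => ?_⟩
  obtain ⟨j, hj, _, ⟨v, ⟨v₀, hv₀⟩, rfl⟩, rfl⟩ := Set.mem_iUnion₂.1 (ht (Set.mem_univ τ))
  have hw : i'.left (Sigma.ι g ⟨j, hj⟩ v₀) = v := by
    show (Sigma.desc (fun j : t => 𝒱.f j.1)) (Sigma.ι g ⟨j, hj⟩ v₀) = v
    rw [← Scheme.Hom.comp_apply, Sigma.ι_desc]
    exact hv₀
  refine ⟨Sigma.ι g ⟨j, hj⟩ v₀, ?_⟩
  rw [ofChart_overMap_comp, hw]

/-- S13009. -/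
theorem isQuasiCompactMor_of_fppf_cover
    (h𝒳 : AlgSt.IsAlgStack Scheme.fppfPrecoverage 𝒳)
    (h𝒴 : AlgSt.IsAlgStack Scheme.fppfPrecoverage 𝒴) (f : 𝒳 ⥤ᵇ 𝒴)
    (h𝒵 : AlgSt.IsAlgStack Scheme.fppfPrecoverage 𝒵) (z : 𝒵 ⥤ᵇ 𝒴)
    (hz₁ : AlgSt.LocQ (AlgSp.LocP @Flat) z)
    (hz₂ : AlgSt.LocQ (AlgSp.LocP @LocallyOfFinitePresentation) z)
    (hz₃ : AlgSt.IsSurjective z)
    (hq : AlgSt.IsQuasiCompactMor Scheme.fppfPrecoverage (FibCat.fpFst z f)) :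
    AlgSt.IsQuasiCompactMor Scheme.fppfPrecoverage f := by
  intro 𝒯 h𝒯 h𝒯qc g
  have h𝒫 : AlgSt.IsAlgStack Scheme.fppfPrecoverage (fp g z) :=
    isAlgStack_fp h𝒴.isStack h𝒴.diag h𝒯 h𝒵 g z
  have hk₁ : AlgSt.LocQ (AlgSp.LocP @Flat) (fpFst g z) :=
    locQ_baseChange h𝒵 h𝒴 h𝒯 _ isSmoothLocalST_flat (bc_locP _ etLocal_flat) z g hz₁
  have hk₂ : AlgSt.LocQ (AlgSp.LocP @LocallyOfFinitePresentation) (fpFst g z) :=
    locQ_baseChange h𝒵 h𝒴 h𝒯 _ isSmoothLocalST_lfp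
      (bc_locP _ etLocal_locallyOfFinitePresentation) z g hz₂
  have hko : IsOpenMap (AlgSt.Points.map (fpFst g z)) :=
    isOpenMor_of_locQ_flat_lfp h𝒫 h𝒯 _ hk₁ hk₂
  have hks : AlgSt.IsSurjective (fpFst g z) :=
    surjective_fpFst h𝒵.isStack.1 h𝒴.isStack.1 h𝒯.isStack.1 z g hz₃
  haveI : CompactSpace (AlgSt.Points 𝒯) := (isQuasiCompact_iff_compactSpace_points h𝒯).1 h𝒯qc
  obtain ⟨U₀, hU₀, x, hx⟩ := exists_affine_chart_surj h𝒫 (fpFst g z) hko hks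
  let c : FibCat.overCat U₀ ⥤ᵇ 𝒯 := BasedFunctor.comp x (fpFst g z)
  let d : FibCat.overCat U₀ ⥤ᵇ 𝒵 := BasedFunctor.comp x (fpSnd g z)
  let α : BasedFunctor.comp c g ≅ BasedFunctor.comp d z := whiskerLeftIso x (fpIso g z)
  have hU₀alg : AlgSt.IsAlgStack Scheme.fppfPrecoverage (FibCat.overCat U₀) :=
    isAlgStack_overCat U₀
  have hU₀qc : AlgSt.IsQuasiCompact (FibCat.overCat U₀) := isQuasiCompact_overCat U₀ hU₀
  have hzf : AlgSt.IsAlgStack Scheme.fppfPrecoverage (fp z f) :=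
    isAlgStack_fp h𝒴.isStack h𝒴.diag h𝒵 h𝒳 z f
  have hgf : AlgSt.IsAlgStack Scheme.fppfPrecoverage (fp g f) :=
    isAlgStack_fp h𝒴.isStack h𝒴.diag h𝒯 h𝒳 g f
  have hA2 : AlgSt.IsAlgStack Scheme.fppfPrecoverage (fp (BasedFunctor.comp d z) f) :=
    isAlgStack_fp h𝒴.isStack h𝒴.diag hU₀alg h𝒳 _ f
  have hA3 : AlgSt.IsAlgStack Scheme.fppfPrecoverage (fp (BasedFunctor.comp c g) f) :=
    isAlgStack_fp h𝒴.isStack h𝒴.diag hU₀alg h𝒳 _ f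
  have hA4 : AlgSt.IsAlgStack Scheme.fppfPrecoverage (fp c (fpFst g f)) :=
    isAlgStack_fp h𝒯.isStack h𝒯.diag hU₀alg hgf c (fpFst g f)
  have q1 : AlgSt.IsQuasiCompact (fp d (fpFst z f)) := hq (FibCat.overCat U₀) hU₀alg hU₀qc d
  have q2 : AlgSt.IsQuasiCompact (fp (BasedFunctor.comp d z) f) := by
    obtain ⟨E', ⟨η⟩, ⟨ε⟩⟩ := paste_isEquivOver d z f
    exact isQuasiCompact_of_isEquivOver E' ⟨paste d z f, ⟨ε⟩, ⟨η⟩⟩ q1
  have q3 : AlgSt.IsQuasiCompact (fp (BasedFunctor.comp c g) f) :=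
    isQuasiCompact_of_isSurjective hA2 hA3 (twist α.symm f) (twist_surjective α.symm f) q2
  have q4 : AlgSt.IsQuasiCompact (fp c (fpFst g f)) :=
    isQuasiCompact_of_isEquivOver (paste c g f) (paste_isEquivOver c g f) q3
  have hcs : AlgSt.IsSurjective c := by
    intro τ
    obtain ⟨u, hu⟩ := hx τ
    refine ⟨pt U₀ u, ?_⟩
    rw [Groth.Agent.Lib.AlgStPoints.map_comp, ← ofChart_eq_map_pt]
    exact hu
  exact isQuasiCompact_of_isSurjective hA4 hgf (fpSnd c (fpFst g f))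
    (surjective_fpSnd_of_surjective (isFibGrpd_fp g f h𝒯.isStack.1 h𝒳.isStack.1 h𝒴.isStack.1)
      h𝒯.isStack.1 (isFibGrpd_over_forget U₀) (fpFst g f) c hcs) q4

/-- S12989. -/
theorem isQuasiCompactMor_of_fppf_cover_space
    (h𝒳 : AlgSt.IsAlgStack Scheme.fppfPrecoverage 𝒳)
    (h𝒴 : AlgSt.IsAlgStack Scheme.fppfPrecoverage 𝒴) (f : 𝒳 ⥤ᵇ 𝒴)
    (W : AlgSp.Space S) (w : AlgSt.ofSp W.obj ⥤ᵇ 𝒴)
    (hw₁ : AlgSt.RepByAlgSpWith (AlgSp.LocP @Flat) w)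
    (hw₂ : AlgSt.RepByAlgSpWith (AlgSp.LocP @LocallyOfFinitePresentation) w)
    (hw₃ : AlgSt.RepByAlgSpWith AlgSp.IsSurjectiveMor w)
    (hq : AlgSt.IsQuasiCompactMor Scheme.fppfPrecoverage (FibCat.fpFst w f)) :
    AlgSt.IsQuasiCompactMor Scheme.fppfPrecoverage f := by
  have hW : AlgSt.IsAlgStack Scheme.fppfPrecoverage (AlgSt.ofSp W.obj) := isAlgStack_ofSp W
  have hw1 : AlgSt.RepByAlgSp1 w := repByAlgSp1_of_repWith _ hw₁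
  have hz₁ : AlgSt.LocQ (AlgSp.LocP @Flat) w :=
    (locQ_iff_repWith _ isSmoothLocalST_flat (bc_locP _ etLocal_flat)
      (isLocalOnBase_fppf_of_fpqc' isLocalOnBase_fpqc_locP_flat) hW h𝒴 w hw1).2 hw₁
  have hz₂ : AlgSt.LocQ (AlgSp.LocP @LocallyOfFinitePresentation) w :=
    (locQ_iff_repWith _ isSmoothLocalST_lfp (bc_locP _ etLocal_locallyOfFinitePresentation)
      (isLocalOnBase_fppf_of_fpqc' isLocalOnBase_fpqc_locP_locallyOfFinitePresentation)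
      hW h𝒴 w hw1).2 hw₂
  have hz₃ : AlgSt.IsSurjective w :=
    (isSurjective_iff_repWith (Stk.isFibGrpd_ofPsh _) h𝒴.isStack.1 w hw1).2 hw₃
  exact isQuasiCompactMor_of_fppf_cover h𝒳 h𝒴 f hW w hz₁ hz₂ hz₃ hq

end qc

end Groth.Agent.Lib.AlgStLocQ
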