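import Groth.Agent.Lib.AlgStDenseLift_lead
import Groth.Agent.Lib.AlgStLocal3_lead
import Groth.Agent.Lib.AlgStFp_lead
import Groth.Agent.Lib.AlgStLocQ4_lead
import Groth.Agent.Lib.AlgStDiagRep3_lead
import Groth.Agent.Lib.AlgStQcQs_lead
import Groth.Agent.Lib.AlgStGenIso2_lead
import Groth.Agent.Lib.AlgStTop_lead
import Groth.Agent.Lib.AlgStUniv2_lead
import Groth.Agent.Lib.AlgStDiagLFT_lead
import Mathlib.AlgebraicGeometry.AlgClosed.Basic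

/-! # Surjectivity of the diagonal and lifting of 2-arrows over algebraically closed fields (lead) -/

set_option autoImplicit false
set_option linter.style.haveILetI false
set_option backward.isDefEq.respectTransparency false
set_option backward.isDefEq.respectTransparency.types false

universe w v₁ v₂ v₃ v₄ v₅ v₆ u₁ u₂ u₃ u₄ u₅ u₆ u

open CategoryTheory CategoryTheory.Limits AlgebraicGeometry Opposite FibCat Stk

namespace Groth.Agent.Lib.AlgStLocQ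

open AlgSt Groth.Agent.Lib.FibCat_helper6 Groth.Agent.Lib.FibCat3_helper6
  Groth.Agent.Lib.FibCat14_helper6 Groth.Agent.Lib.FibCat12_helper6
  Groth.Agent.Lib.FibCatPaste Groth.Agent.Lib.FibCatSwap
  Groth.Agent.Lib.FibCatIsoFun
  Groth.Agent.Lib.OfPshCalc Groth.Agent.Lib.AlgStBC
  Groth.Agent.Lib.AlgStEquiv Groth.Agent.Lib.AlgStEquivP Groth.Agent.Lib.AlgStEquivInv
  Groth.Agent.Lib.OfPshAlgSt Groth.Agent.Lib.LiftSqBC Groth.Agent.Lib.LiftSqComp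
  Groth.Agent.Lib.OfPshWith Groth.Agent.Lib.FibCatDiagSec Groth.Agent.Lib.AlgStDiagRep
  Groth.Agent.Lib.FibCatDiagBC Groth.Agent.Lib.FibCatMagic Groth.Agent.Lib.FibCatProd
  Groth.Agent.Lib.AlgStDiag Groth.Agent.Lib.AlgStLocal
  Groth.Agent.Lib.AlgSpQC_helper7 Groth.Agent.Lib.AlgSpDiag_helper7
  Groth.Agent.Lib.AlgSpPullback_helper7 Groth.Agent.Lib.AlgSpRepBySp_helper7
  Groth.Agent.Lib.AlgSpPoints_helper7 Groth.Agent.Lib.AlgSpLocP_helper7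
  Groth.Agent.Lib.AlgSpBasic_helper7 Groth.Agent.Lib.AlgSpSep_helper7
  Groth.Agent.Lib.AlgSpLocP4_helper7 Groth.Agent.Lib.AlgSpLocP5_helper7
  Groth.Agent.Lib.AlgSpLocP7_helper7 Groth.Agent.Lib.AlgSpQC2_helper7
  Groth.Agent.Lib.AlgSpLocP8_helper7 Groth.Agent.Lib.AlgSpLocP10_helper7
  Groth.Agent.Lib.AlgSpFpqc3_helper7 Groth.Agent.Lib.AlgSpLocP6_helper7
  Groth.Agent.Lib.AlgSpFpqc2_helper7 Groth.Agent.Lib.AlgSpFpqc_helper7
  Groth.Agent.Lib.AlgSpProper_helper7 Groth.Agent.Lib.AlgSpAffineMorH7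
  Groth.Agent.Lib.AlgStAtlas Groth.Agent.Lib.AlgStPoints Groth.Agent.Lib.AlgStPtsCmp
  Groth.Agent.Lib.FibCatYoneda_helper6 Groth.Agent.Lib.AlgSpFieldFlat_helper7


variable {S : Scheme.{u}} {𝒳 𝒴 𝒵 : AlgSt.Cat S}

/-- A nonempty scheme locally of finite type over an algebraically closed field has a rational
point. -/
theorem exists_section_of_lft_algClosed {k : Type u} [Field k] [IsAlgClosed k] {U : Scheme.{u}}
    (g : U ⟶ Spec (CommRingCat.of k)) [LocallyOfFiniteType g] [Nonempty ↥U] :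
    ∃ τ : Spec (CommRingCat.of k) ⟶ U, τ ≫ g = 𝟙 _ := by
  haveI : JacobsonSpace ↥U := LocallyOfFiniteType.jacobsonSpace g
  have hne : (closedPoints ↥U).Nonempty := by
    by_contra h
    rw [Set.not_nonempty_iff_eq_empty] at h
    have h1 : closure (closedPoints ↥U) = Set.univ := closure_closedPoints
    rw [h, closure_empty] at h1
    exact Set.empty_ne_univ h1
  obtain ⟨u₀, hu₀⟩ := hne
  exact ⟨pointOfClosedPoint g u₀ hu₀, pointOfClosedPoint_comp g u₀ hu₀⟩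

/-- A surjective morphism, locally of finite type, from an algebraic space to the spectrum of an
algebraically closed field has a section. -/
theorem exists_section_of_lft_surjective_algClosed {k : Type u} [Field k] [IsAlgClosed k]
    (s : Spec (CommRingCat.of k) ⟶ S) (X : AlgSp.Space S)
    (c : X.obj ⟶ (AlgSp.yon S).obj (Over.mk s))
    (h₁ : AlgSp.LocP @LocallyOfFiniteType c) (h₂ : AlgSp.IsSurjectiveMor c) :
    ∃ σ : (AlgSp.yon S).obj (Over.mk s) ⟶ X.obj, σ ≫ c = 𝟙 _ := by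
  obtain ⟨U, p, hpe, hps⟩ := X.property.atlas
  obtain ⟨g, hg⟩ := (AlgSp.yon S).map_surjective (p ≫ c)
  have hlft : LocallyOfFiniteType g.left :=
    h₁ p (𝟙 _) g hpe (AlgSp.repWith_id _ _) (by rw [hg, Category.comp_id])
  have hne : Nonempty ↥U.left := by
    obtain ⟨x, hx⟩ := h₂ (AlgSp.Points.ofScheme (Over.mk s) (IsLocalRing.closedPoint k))
    obtain ⟨u, hu⟩ := ofPt_surjective p hps x
    exact ⟨u⟩
  obtain ⟨τ, hτ⟩ := @exists_section_of_lft_algClosed k _ _ U.left g.left hlft hne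
  have hw : g.left ≫ s = U.hom := Over.w g
  obtain ⟨τO, hτO⟩ : ∃ τO : Over.mk s ⟶ U, τO.left = τ := by
    refine ⟨Over.homMk τ ?_, rfl⟩
    have e1 : τ ≫ U.hom = (τ ≫ g.left) ≫ s :=
      (congrArg (fun m => τ ≫ m) hw.symm).trans (Category.assoc τ g.left s).symm
    have e2 : (τ ≫ g.left) ≫ s = s :=
      (congrArg (fun m => m ≫ s) hτ).trans (Category.id_comp s)
    exact e1.trans e2
  have h1 : τO ≫ g = 𝟙 (Over.mk s) := by
    apply Over.OverMorphism.ext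
    exact (congrArg (fun m => m ≫ g.left) hτO).trans hτ
  refine ⟨(AlgSp.yon S).map τO ≫ p, ?_⟩
  calc ((AlgSp.yon S).map τO ≫ p) ≫ c = (AlgSp.yon S).map τO ≫ (p ≫ c) := Category.assoc _ _ _
    _ = (AlgSp.yon S).map τO ≫ (AlgSp.yon S).map g := by rw [hg]
    _ = (AlgSp.yon S).map (τO ≫ g) := ((AlgSp.yon S).map_comp _ _).symm
    _ = 𝟙 _ := by rw [h1, CategoryTheory.Functor.map_id]

/-- (⇒) of S12832 in fibre-product form. -/
theorem exists_arrow_of_diag_surjective (h𝒳 : AlgSt.IsAlgStack Scheme.fppfPrecoverage 𝒳)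
    (h𝒴 : AlgSt.IsAlgStack Scheme.fppfPrecoverage 𝒴) (f : 𝒳 ⥤ᵇ 𝒴)
    (hΔ : AlgSt.IsSurjective (FibCat.diag f))
    {k : Type u} [Field k] [IsAlgClosed k] (s : Spec (CommRingCat.of k) ⟶ S)
    (ob : (fp f f).obj) (hx : (fp f f).p.obj ob = Over.mk s) :
    ∃ α : ob.obj.fst ⟶ ob.obj.snd, 𝒳.p.IsHomLift (𝟙 (Over.mk s)) α ∧
      f.toFunctor.map α = ob.obj.iso.hom := by
  have h𝒳g : IsFibGrpd 𝒳.p := h𝒳.isStack.1
  have h𝒴g : IsFibGrpd 𝒴.p := h𝒴.isStack.1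
  have hfp : IsFibGrpd (fp f f).p := isFibGrpd_fp f f h𝒳g h𝒳g h𝒴g
  haveI : (fp f f).p.IsFibered := isFibered_of_isFibGrpd hfp
  have hΔ₁ : AlgSt.RepByAlgSpWith (AlgSp.LocP @LocallyOfFiniteType) (FibCat.diag f) :=
    locP_lft_diag h𝒳 h𝒴 f
  have hΔ₂ : AlgSt.RepByAlgSpWith AlgSp.IsSurjectiveMor (FibCat.diag f) :=
    (isSurjective_iff_repWith h𝒳g hfp (FibCat.diag f) (repByAlgSp1_of_repWith _ hΔ₁)).1 hΔ
  let Z : AlgSp.Space S := (AlgSp.ofScheme S).obj (Over.mk s)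
  let z : AlgSt.ofSp Z.obj ⥤ᵇ fp f f :=
    BasedFunctor.comp (AlgSt.toOverCat (Over.mk s)) (yonedaFunctor hx)
  obtain ⟨X, c, e, he, ⟨i⟩, hc₁⟩ :=
    exists_space_of_repWith' h𝒳g hfp (AlgSp.LocP @LocallyOfFiniteType)
      (isoInv_locP _ etLocal_locallyOfFiniteType) (schemeTestable_locP _) (FibCat.diag f) hΔ₁ Z z
  have hc₂ : AlgSp.IsSurjectiveMor c.hom :=
    prop_of_repWith_ofSp _ isoInv_isSurjectiveMor schemeTestable_isSurjectiveMor c
      (fpFst z (FibCat.diag f)) e he i (repWith_baseChange _ (FibCat.diag f) z hΔ₂)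
  obtain ⟨σ, hσ⟩ := exists_section_of_lft_surjective_algClosed s X c.hom hc₁ hc₂
  have h0 : σ ≫ c.hom = (AlgSp.yon S).map (𝟙 (Over.mk s)) :=
    hσ.trans ((AlgSp.yon S).map_id (Over.mk s)).symm
  have hsec : c.hom.hom.app (op (Over.mk s)) (Groth.Agent.Lib.AlgStMono.yE σ) =
      ULift.up (𝟙 (Over.mk s)) := by
    have h1 := congrArg Groth.Agent.Lib.AlgStMono.yE h0
    exact ((Groth.Agent.Lib.AlgStMono.yE_comp σ c.hom).symm.trans h1).trans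
      (yE_yon_map (𝟙 (Over.mk s)))
  have hE1 : EssIm (FibCat.diag f) ((yonedaFunctor hx).obj (Over.mk (c.hom.hom.app
      (op (Over.mk s)) (Groth.Agent.Lib.AlgStMono.yE σ)).down)) :=
    essIm_of_section (FibCat.diag f) z c e i ⟨Over.mk s, Groth.Agent.Lib.AlgStMono.yE σ⟩
  rw [hsec] at hE1
  haveI := pullbackMap_id_isIso hx
  have hE2 : EssIm (FibCat.diag f) ob :=
    (essIm_closed (FibCat.diag f)).of_iso
      (asIso (Functor.IsPreFibered.pullbackMap hx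
        (ohom (Over.mk s) (Over.mk (𝟙 (Over.mk s)))))) hE1
  obtain ⟨x, ⟨θ⟩⟩ := hE2
  obtain ⟨a, a', b, key1, hw, h1, h2⟩ : ∃ (a : ob.obj.fst ⟶ x) (a' : x ⟶ ob.obj.fst)
      (b : x ⟶ ob.obj.snd), a ≫ a' = 𝟙 ob.obj.fst ∧
      f.toFunctor.map a' ≫ ob.obj.iso.hom = 𝟙 (f.toFunctor.obj x) ≫ f.toFunctor.map b ∧
      𝒳.p.IsHomLift ((fp f f).p.map θ.inv) a ∧ 𝒳.p.IsHomLift ((fp f f).p.map θ.hom) b :=
    ⟨θ.inv.hom.fst, θ.hom.hom.fst, θ.hom.hom.snd,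
      congrArg (fun m : ob ⟶ ob => m.hom.fst) θ.inv_hom_id, θ.hom.hom.w,
      (inferInstance : 𝒳.p.IsHomLift (𝒳.p.map θ.inv.hom.fst) θ.inv.hom.fst),
      FibCat.fp_isHomLift_snd f f θ.hom⟩
  have h3 : 𝒳.p.IsHomLift ((fp f f).p.map θ.inv ≫ (fp f f).p.map θ.hom) (a ≫ b) := by
    haveI := h1
    haveI := h2
    infer_instance
  have hb0 : (fp f f).p.map θ.inv ≫ (fp f f).p.map θ.hom = 𝟙 ((fp f f).p.obj ob) := by
    rw [← CategoryTheory.Functor.map_comp, Iso.inv_hom_id, CategoryTheory.Functor.map_id]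
  have h3' : 𝒳.p.IsHomLift (𝟙 ((fp f f).p.obj ob)) (a ≫ b) := by
    rw [← hb0]
    exact h3
  refine ⟨a ≫ b, isHomLift_id_of_eq hx _ h3', ?_⟩
  have hw' : f.toFunctor.map a' ≫ ob.obj.iso.hom = f.toFunctor.map b :=
    hw.trans (Category.id_comp _)
  have e4 : f.toFunctor.map a ≫ f.toFunctor.map a' = 𝟙 _ := by
    rw [← CategoryTheory.Functor.map_comp, key1, CategoryTheory.Functor.map_id]
  calc f.toFunctor.map (a ≫ b) = f.toFunctor.map a ≫ f.toFunctor.map b :=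
        f.toFunctor.map_comp a b
    _ = f.toFunctor.map a ≫ (f.toFunctor.map a' ≫ ob.obj.iso.hom) := by rw [hw']
    _ = (f.toFunctor.map a ≫ f.toFunctor.map a') ≫ ob.obj.iso.hom :=
        (Category.assoc _ _ _).symm
    _ = ob.obj.iso.hom := by rw [e4, Category.id_comp]

/-- (⇐) of S12832 in fibre-product form. -/
theorem diag_surjective_of_arrows (h𝒳g : IsFibGrpd 𝒳.p) (h𝒴g : IsFibGrpd 𝒴.p) (f : 𝒳 ⥤ᵇ 𝒴)
    (L : ∀ (k : Type u) [Field k] [IsAlgClosed k] (s : Spec (CommRingCat.of k) ⟶ S)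
        (ob : (fp f f).obj) (_ : (fp f f).p.obj ob = Over.mk s),
        ∃ α : ob.obj.fst ⟶ ob.obj.snd, 𝒳.p.IsHomLift (𝟙 (Over.mk s)) α ∧
          f.toFunctor.map α = ob.obj.iso.hom) :
    AlgSt.IsSurjective (FibCat.diag f) := by
  have hfp : IsFibGrpd (fp f f).p := isFibGrpd_fp f f h𝒳g h𝒳g h𝒴g
  intro P
  obtain ⟨pt, rfl⟩ := AlgSt.Points.mk_surjective P
  obtain ⟨j, -⟩ : ∃ j : Spec (CommRingCat.of (AlgebraicClosure pt.K)) ⟶
      Spec (CommRingCat.of pt.K), j = j :=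
    ⟨Spec.map (CommRingCat.ofHom (algebraMap pt.K (AlgebraicClosure pt.K))), rfl⟩
  obtain ⟨jO, -⟩ : ∃ jO : Over.mk (j ≫ pt.str) ⟶ Over.mk pt.str, jO.left = j :=
    ⟨Over.homMk j rfl, rfl⟩
  obtain ⟨ob', φ, hφ⟩ := exists_lift_of_isFibGrpd hfp pt.lies jO
  have hob' : (fp f f).p.obj ob' = Over.mk (j ≫ pt.str) := by
    haveI := hφ
    exact IsHomLift.domain_eq (fp f f).p jO φ
  obtain ⟨α, hα₁, hα₂⟩ := L (AlgebraicClosure pt.K) (j ≫ pt.str) ob' hob'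
  let q₀ : AlgSt.FPt 𝒳 :=
    { K := AlgebraicClosure pt.K, str := j ≫ pt.str, obj := ob'.obj.fst, lies := hob' }
  let q : AlgSt.FPt (fp f f) :=
    { K := AlgebraicClosure pt.K, str := j ≫ pt.str, obj := ob', lies := hob' }
  let m : (FibCat.diag f).obj ob'.obj.fst ⟶ ob' :=
    fpHomMk (F := f) (G := f) (X := (FibCat.diag f).obj ob'.obj.fst) (Y := ob') (𝟙 _) α (by
      show f.toFunctor.map (𝟙 ob'.obj.fst) ≫ ob'.obj.iso.hom = 𝟙 _ ≫ f.toFunctor.map α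
      rw [hα₂, f.toFunctor.map_id])
  have e1 : AlgSt.Points.mk (q₀.map (FibCat.diag f)) = AlgSt.Points.mk q :=
    AlgSt.Points.sound ⟨q₀.map (FibCat.diag f), 𝟙 _, m, trivial⟩
  have e2 : AlgSt.Points.mk q = AlgSt.Points.mk pt :=
    AlgSt.Points.sound ⟨q, 𝟙 _, φ, trivial⟩
  exact ⟨AlgSt.Points.mk q₀, e1.trans e2⟩

/-- S12832. -/
theorem diag_surjective_iff_arrows (h𝒳 : AlgSt.IsAlgStack Scheme.fppfPrecoverage 𝒳)
    (h𝒴 : AlgSt.IsAlgStack Scheme.fppfPrecoverage 𝒴) (f : 𝒳 ⥤ᵇ 𝒴) :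
    AlgSt.IsSurjective (FibCat.diag f) ↔
      ∀ (k : Type u) [Field k] [IsAlgClosed k] (s : Spec (CommRingCat.of k) ⟶ S) (a₁ a₂ : 𝒳.obj)
        (_ : 𝒳.p.obj a₁ = Over.mk s) (_ : 𝒳.p.obj a₂ = Over.mk s) (β : f.obj a₁ ⟶ f.obj a₂),
        𝒴.p.IsHomLift (𝟙 (Over.mk s)) β →
          ∃ α : a₁ ⟶ a₂, 𝒳.p.IsHomLift (𝟙 (Over.mk s)) α ∧ f.map α = β := by
  have h𝒳g : IsFibGrpd 𝒳.p := h𝒳.isStack.1
  have h𝒴g : IsFibGrpd 𝒴.p := h𝒴.isStack.1
  constructor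
  · intro hΔ k _ _ s a₁ a₂ h₁ h₂ β hβ
    haveI := hβ
    haveI : IsIso β := isIso_of_isFibGrpd_id h𝒴g (R := Over.mk s) β
    exact exists_arrow_of_diag_surjective h𝒳 h𝒴 f hΔ s
      (fpObjMk (F := f) (G := f) a₁ a₂ (asIso β) (isHomLift_id_of_eq h₁.symm β hβ)) h₁
  · intro L
    refine diag_surjective_of_arrows h𝒳g h𝒴g f ?_
    intro k _ _ s ob hx
    have h₂ : 𝒳.p.obj ob.obj.snd = Over.mk s := (fp_obj_snd_proj ob).trans hx
    exact L k s ob.obj.fst ob.obj.snd hx h₂ ob.obj.iso.hom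
      (isHomLift_id_of_eq hx _ ob.property)

end Groth.Agent.Lib.AlgStLocQ
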