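import Groth.Agent.Lib.AlgStLocal_lead
import Groth.Agent.Lib.AlgSpFpqc3_helper7
import Groth.Agent.Lib.AlgSpLocP6_helper7
import Groth.Agent.Lib.AlgSpFpqc2_helper7

/-!
# Properties of the diagonal descend along fppf covers of the target (lead)
-/

set_option autoImplicit false

universe u v u₁ v₁ u₂ v₂ u₃ v₃ u₄ v₄

open CategoryTheory CategoryTheory.Limits AlgebraicGeometry Opposite FibCat Stk

namespace Groth.Agent.Lib.AlgStLocal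

open AlgSt Groth.Agent.Lib.FibCat_helper6 Groth.Agent.Lib.FibCat3_helper6
  Groth.Agent.Lib.FibCat14_helper6 Groth.Agent.Lib.FibCatPaste Groth.Agent.Lib.FibCatSwap
  Groth.Agent.Lib.FibCatIsoFun
  Groth.Agent.Lib.OfPshCalc Groth.Agent.Lib.AlgStBC
  Groth.Agent.Lib.AlgStEquiv Groth.Agent.Lib.AlgStEquivP Groth.Agent.Lib.AlgStEquivInv
  Groth.Agent.Lib.OfPshAlgSt Groth.Agent.Lib.LiftSqBC Groth.Agent.Lib.LiftSqComp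
  Groth.Agent.Lib.OfPshWith Groth.Agent.Lib.FibCatDiagSec Groth.Agent.Lib.AlgStDiagRep
  Groth.Agent.Lib.FibCatDiagBC
  Groth.Agent.Lib.AlgSpQC_helper7 Groth.Agent.Lib.AlgSpDiag_helper7
  Groth.Agent.Lib.AlgSpPullback_helper7 Groth.Agent.Lib.AlgSpRepBySp_helper7
  Groth.Agent.Lib.AlgSpPoints_helper7 Groth.Agent.Lib.AlgSpLocP_helper7
  Groth.Agent.Lib.AlgSpBasic_helper7 Groth.Agent.Lib.AlgSpSep_helper7
  Groth.Agent.Lib.AlgSpLocP4_helper7 Groth.Agent.Lib.AlgSpLocP5_helper7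
  Groth.Agent.Lib.AlgSpLocP7_helper7 Groth.Agent.Lib.AlgSpQC2_helper7
  Groth.Agent.Lib.AlgSpLocP8_helper7 Groth.Agent.Lib.AlgSpLocP10_helper7
  Groth.Agent.Lib.AlgSpFpqc3_helper7 Groth.Agent.Lib.AlgSpLocP6_helper7
  Groth.Agent.Lib.AlgSpFpqc2_helper7 Groth.Agent.Lib.AlgSpFpqc_helper7
  Groth.Agent.Lib.AlgSpProper_helper7

section generic

variable {C : Type u₁} [Category.{v₁} C] {𝒳 : BasedCategory.{v₂, u₂} C}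
  {𝒴 : BasedCategory.{v₃, u₃} C} {𝒴' : BasedCategory.{v₄, u₄} C} (f : 𝒳 ⥤ᵇ 𝒴) (g : 𝒴' ⥤ᵇ 𝒴)

local notation "qf" => BasedFunctor.comp (fpFst f f) f

/-- `((x₁, x₂, ψ), y, θ) ↦ (y, x₁, θ⁻¹)`. -/
def lift₁ : fp qf g ⥤ᵇ fp g f :=
  fpLift (fpSnd qf g) (BasedFunctor.comp (fpFst qf g) (fpFst f f))
    ((fpIso qf g).symm : BasedFunctor.comp (fpSnd qf g) g ≅
      BasedFunctor.comp (BasedFunctor.comp (fpFst qf g) (fpFst f f)) f)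

/-- `((x₁, x₂, ψ), y, θ) ↦ (y, x₂, θ⁻¹ ≫ ψ)`. -/
def lift₂ : fp qf g ⥤ᵇ fp g f :=
  fpLift (fpSnd qf g) (BasedFunctor.comp (fpFst qf g) (fpSnd f f))
    (((fpIso qf g).symm : BasedFunctor.comp (fpSnd qf g) g ≅
      BasedFunctor.comp (fpFst qf g) (BasedFunctor.comp (fpFst f f) f)) ≪≫
      (whiskerLeftIso (fpFst qf g) (fpIso f f) :
        BasedFunctor.comp (fpFst qf g) (BasedFunctor.comp (fpFst f f) f) ≅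
        BasedFunctor.comp (BasedFunctor.comp (fpFst qf g) (fpSnd f f)) f))

/-- The lift of `(𝒳 ×_𝒴 𝒳) ×_𝒴 𝒴' ⟶ 𝒳 ×_𝒴 𝒳` through `Φ : 𝒫 ×_{𝒴'} 𝒫 ⟶ 𝒳 ×_𝒴 𝒳`. -/
def liftPhi : fp qf g ⥤ᵇ fp (fpFst g f) (fpFst g f) :=
  fpLift (lift₁ f g) (lift₂ f g)
    (Iso.refl (fpSnd qf g) : BasedFunctor.comp (lift₁ f g) (fpFst g f) ≅
      BasedFunctor.comp (lift₂ f g) (fpFst g f))

def liftPhiIso : fpFst qf g ≅ BasedFunctor.comp (liftPhi f g) (Phi f g) :=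
  isoMk2 f f (H := fpFst qf g) (K := BasedFunctor.comp (liftPhi f g) (Phi f g))
    (Iso.refl _) (Iso.refl _) (fun t => by
      show f.toFunctor.map (𝟙 _) ≫ (t.obj.iso.hom ≫ g.toFunctor.map (𝟙 _) ≫
        t.obj.iso.inv ≫ t.obj.fst.obj.iso.hom) = t.obj.fst.obj.iso.hom ≫ f.toFunctor.map (𝟙 _)
      simp only [CategoryTheory.Functor.map_id, Category.id_comp, Category.comp_id]
      exact Iso.hom_inv_id_assoc t.obj.iso _)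

end generic

variable {S : Scheme.{u}}

/-! ### Stability under base change and fppf locality of the relevant properties -/

theorem isLocalOnBase_fppf_of_fpqc' {Pm : MorphismProperty (AlgSp.Sp S)}
    (h : AlgSp.IsLocalOnBase (AlgSp.IsFpqcCover (S := S)) Pm) :
    AlgSp.IsLocalOnBase (AlgSp.IsFppfCover (S := S)) Pm := by
  intro ι Y Yi g hY hYi hcov X f hX Xi p q hXi sqs
  exact h Yi g hY hYi (isFpqcCover_of_isFppfCover hY Yi g hYi hcov) f hX Xi p q hXi sqs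

theorem bc_locP (R : MorphismProperty Scheme.{u}) [R.IsStableUnderBaseChange] (hR : EtLocal R) :
    ∀ ⦃X₁ Y₁ X₂ Y₂ : AlgSp.Sp S⦄, AlgSp.IsAlgSpace X₁ → AlgSp.IsAlgSpace Y₁ →
      AlgSp.IsAlgSpace X₂ → AlgSp.IsAlgSpace Y₂ →
      ∀ (a : X₁ ⟶ Y₁) (b : Y₂ ⟶ Y₁) (a' : X₂ ⟶ Y₂) (b' : X₂ ⟶ X₁),
      IsPullback b' a' a b → AlgSp.LocP R a → AlgSp.LocP R a' :=
  fun _ _ _ _ hX₁ hY₁ _ hY₂ a b a' b' sq ha => locP_baseChange hR hX₁ hY₁ hY₂ a b b' a' sq ha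

theorem bc_isProperMor :
    ∀ ⦃X₁ Y₁ X₂ Y₂ : AlgSp.Sp S⦄, AlgSp.IsAlgSpace X₁ → AlgSp.IsAlgSpace Y₁ →
      AlgSp.IsAlgSpace X₂ → AlgSp.IsAlgSpace Y₂ →
      ∀ (a : X₁ ⟶ Y₁) (b : Y₂ ⟶ Y₁) (a' : X₂ ⟶ Y₂) (b' : X₂ ⟶ X₁),
      IsPullback b' a' a b → AlgSp.IsProperMor a → AlgSp.IsProperMor a' :=
  fun _ _ _ _ hX₁ hY₁ _ hY₂ _ _ _ _ sq ha => isProperMor_of_isPullback hX₁ hY₁ hY₂ sq ha

theorem bc_qcqs :
    ∀ ⦃X₁ Y₁ X₂ Y₂ : AlgSp.Sp S⦄, AlgSp.IsAlgSpace X₁ → AlgSp.IsAlgSpace Y₁ →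
      AlgSp.IsAlgSpace X₂ → AlgSp.IsAlgSpace Y₂ →
      ∀ (a : X₁ ⟶ Y₁) (b : Y₂ ⟶ Y₁) (a' : X₂ ⟶ Y₂) (b' : X₂ ⟶ X₁),
      IsPullback b' a' a b → (AlgSp.IsQuasiCompactMor ⊓ AlgSp.IsQuasiSeparatedMor) a →
      (AlgSp.IsQuasiCompactMor ⊓ AlgSp.IsQuasiSeparatedMor) a' :=
  fun _ _ _ _ _ _ _ _ _ _ _ _ sq ha =>
    ⟨isQuasiCompactMor_of_isPullback sq ha.1, isQuasiSeparatedMor_of_isPullback sq ha.2⟩

theorem isLocalOnBase_fppf_unramified : AlgSp.IsLocalOnBase (AlgSp.IsFppfCover (S := S))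
    (AlgSp.LocP (@LocallyOfFiniteType ⊓ @FormallyUnramified)) :=
  isLocalOnBase_fppf_of_fpqc' isLocalOnBase_fpqc_locP_unramified

theorem isLocalOnBase_fppf_isProperMor :
    AlgSp.IsLocalOnBase (AlgSp.IsFppfCover (S := S)) AlgSp.IsProperMor :=
  isLocalOnBase_fppf_of_fpqc' isLocalOnBase_fpqc_isProperMor

theorem isLocalOnBase_fppf_qcqs : AlgSp.IsLocalOnBase (AlgSp.IsFppfCover (S := S))
    (AlgSp.IsQuasiCompactMor ⊓ AlgSp.IsQuasiSeparatedMor) :=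
  isLocalOnBase_fppf_of_fpqc'
    (isLocalOnBase_and isLocalOnBase_fpqc_isQuasiCompactMor isLocalOnBase_fpqc_isQuasiSeparatedMor)

section stk

variable {𝒳 𝒴 : AlgSt.Cat S}

/-- If a covering `c : 𝒞 ⟶ 𝒴` factors through `z : 𝒵 ⟶ 𝒴`, then `P` for the base change of `f`
along `z` implies `P` for `f`. -/
theorem repWith_of_factor_cover {𝒵 𝒞 : AlgSt.Cat S} (h𝒳 : IsFibGrpd 𝒳.p) (h𝒴 : IsFibGrpd 𝒴.p)
    (h𝒞 : IsFibGrpd 𝒞.p) (P : MorphismProperty (AlgSp.Sp S))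
    (hPb : ∀ ⦃X₁ Y₁ X₂ Y₂ : AlgSp.Sp S⦄, AlgSp.IsAlgSpace X₁ → AlgSp.IsAlgSpace Y₁ →
      AlgSp.IsAlgSpace X₂ → AlgSp.IsAlgSpace Y₂ →
      ∀ (a : X₁ ⟶ Y₁) (b : Y₂ ⟶ Y₁) (a' : X₂ ⟶ Y₂) (b' : X₂ ⟶ X₁),
      IsPullback b' a' a b → P a → P a')
    (hP : AlgSp.IsLocalOnBase AlgSp.IsFppfCover P)
    (f : 𝒳 ⥤ᵇ 𝒴) (hf : AlgSt.RepByAlgSp1 f) (z : 𝒵 ⥤ᵇ 𝒴) (c : 𝒞 ⥤ᵇ 𝒴)
    (hc₁ : AlgSt.RepByAlgSpWith (AlgSp.LocP @Flat) c)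
    (hc₂ : AlgSt.RepByAlgSpWith (AlgSp.LocP @LocallyOfFinitePresentation) c)
    (hc₃ : AlgSt.RepByAlgSpWith AlgSp.IsSurjectiveMor c)
    (v₁ : 𝒞 ⥤ᵇ 𝒵) (ι₁ : c ≅ BasedFunctor.comp v₁ z)
    (H : AlgSt.RepByAlgSpWith P (fpFst z f)) : AlgSt.RepByAlgSpWith P f := by
  have A1 : AlgSt.RepByAlgSpWith P (fpFst v₁ (fpFst z f)) :=
    repWith_baseChange P (fpFst z f) v₁ H
  have A2 : AlgSt.RepByAlgSpWith P (fpFst (BasedFunctor.comp v₁ z) f) :=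
    repWith_precomp_equiv P (paste v₁ z f) (paste_isEquivOver v₁ z f) (fpFst v₁ (fpFst z f)) A1
  have A3 : AlgSt.RepByAlgSpWith P (fpFst c f) :=
    repWith_precomp_equiv P (isoFun₁ ι₁ f) (isoFun₁_isEquivOver ι₁ f)
      (fpFst (BasedFunctor.comp v₁ z) f) A2
  exact (repWith_iff_fpFst_of_cover h𝒳 h𝒴 h𝒞 P hPb hP f hf c hc₁ hc₂ hc₃).2 A3

/-- Properties of the diagonal descend along an fppf covering of the target. -/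
theorem repWith_diag_of_fpFst_cover (h𝒳 : IsFibGrpd 𝒳.p) (h𝒴 : IsFibGrpd 𝒴.p)
    (P : MorphismProperty (AlgSp.Sp S))
    (hPb : ∀ ⦃X₁ Y₁ X₂ Y₂ : AlgSp.Sp S⦄, AlgSp.IsAlgSpace X₁ → AlgSp.IsAlgSpace Y₁ →
      AlgSp.IsAlgSpace X₂ → AlgSp.IsAlgSpace Y₂ →
      ∀ (a : X₁ ⟶ Y₁) (b : Y₂ ⟶ Y₁) (a' : X₂ ⟶ Y₂) (b' : X₂ ⟶ X₁),
      IsPullback b' a' a b → P a → P a')
    (hP : AlgSp.IsLocalOnBase AlgSp.IsFppfCover P)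
    (f : 𝒳 ⥤ᵇ 𝒴) (hΔ : AlgSt.RepByAlgSp1 (FibCat.diag f)) {𝒲 : AlgSt.Cat S} (h𝒲 : IsFibGrpd 𝒲.p)
    (w : 𝒲 ⥤ᵇ 𝒴)
    (hw₁ : AlgSt.RepByAlgSpWith (AlgSp.LocP @Flat) w)
    (hw₂ : AlgSt.RepByAlgSpWith (AlgSp.LocP @LocallyOfFinitePresentation) w)
    (hw₃ : AlgSt.RepByAlgSpWith AlgSp.IsSurjectiveMor w)
    (hd : AlgSt.RepByAlgSpWith P (FibCat.diag (fpFst w f))) :
    AlgSt.RepByAlgSpWith P (FibCat.diag f) := by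
  have hff : IsFibGrpd (fp f f).p :=
    Groth.Agent.Lib.FibCat12_helper6.isFibGrpd_fp f f h𝒳 h𝒳 h𝒴
  have H : AlgSt.RepByAlgSpWith P (fpFst (Phi f w) (FibCat.diag f)) :=
    repWith_cancel_equiv P (diagBC f w) (diagBC_isEquivOver f w)
      (fpFst (Phi f w) (FibCat.diag f)) hd
  exact repWith_of_factor_cover h𝒳 hff
    (Groth.Agent.Lib.FibCat12_helper6.isFibGrpd_fp (BasedFunctor.comp (fpFst f f) f) w hff h𝒲 h𝒴)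
    P hPb hP (FibCat.diag f) hΔ (Phi f w) (fpFst (BasedFunctor.comp (fpFst f f) f) w)
    (repWith_baseChange _ w _ hw₁) (repWith_baseChange _ w _ hw₂) (repWith_baseChange _ w _ hw₃)
    (liftPhi f w) (liftPhiIso f w) H

end stk

end Groth.Agent.Lib.AlgStLocal
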