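import Mathlib
import Groth.Agent.Lib.SchDescent_helper6

set_option autoImplicit false
universe u
open CategoryTheory CategoryTheory.Limits AlgebraicGeometry TopologicalSpace

namespace Groth.Agent.Lib.ImmDescent

/-- For a quasi-compact morphism, the map to the scheme-theoretic image is scheme-theoretically
dominant. -/
theorem isSchemeTheoreticallyDominant_toImage {X Y : Scheme.{u}} (f : X ⟶ Y) [QuasiCompact f] :
    IsSchemeTheoreticallyDominant f.toImage := by
  rw [isSchemeTheoreticallyDominant_iff]
  refine Scheme.IdealSheafData.ext_of_iSup_eq_top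
    (fun U : Y.affineOpens ↦ ⟨f.imageι ⁻¹ᵁ U.1, U.2.preimage f.imageι⟩) ?_ ?_
  · show ⨆ U : Y.affineOpens, f.imageι ⁻¹ᵁ U.1 = ⊤
    rw [← Scheme.Hom.preimage_iSup, iSup_affineOpens_eq_top, Scheme.Hom.preimage_top]
  · intro U
    rw [Scheme.Hom.ker_apply]
    simp only [Scheme.IdealSheafData.ideal_bot, Pi.bot_apply]
    exact (RingHom.injective_iff_ker_eq_bot _).mp (f.toImage_app_injective U)

/-- If `j ≫ i` is a quasi-compact immersion with `i` a closed immersion and `j`
scheme-theoretically dominant, then `j` is an open immersion. -/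
theorem isOpenImmersion_of_comp_closedImmersion {P I X : Scheme.{u}} (j : P ⟶ I) (i : I ⟶ X)
    [IsClosedImmersion i] [IsSchemeTheoreticallyDominant j] [IsImmersion (j ≫ i)]
    [QuasiCompact (j ≫ i)] : IsOpenImmersion j := by
  have hker : (j ≫ i).ker = i.ker := by
    rw [Scheme.Hom.ker_comp, j.ker_eq_bot, Scheme.IdealSheafData.map_bot]
  have hk2 : (j ≫ i).imageι.ker = i.ker := by
    rw [Scheme.Hom.imageι, Scheme.IdealSheafData.ker_subschemeι, hker]
  let ℓ : (j ≫ i).image ⟶ I := IsClosedImmersion.lift i (j ≫ i).imageι hk2.ge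
  let ℓ' : I ⟶ (j ≫ i).image := IsClosedImmersion.lift (j ≫ i).imageι i hk2.le
  have h1 : ℓ ≫ i = (j ≫ i).imageι := IsClosedImmersion.lift_fac _ _ _
  have h2 : ℓ' ≫ (j ≫ i).imageι = i := IsClosedImmersion.lift_fac _ _ _
  have hℓ : IsIso ℓ := ⟨ℓ', by
    rw [← cancel_mono (j ≫ i).imageι, Category.assoc, h2, h1, Category.id_comp], by
    rw [← cancel_mono i, Category.assoc, h1, h2, Category.id_comp]⟩
  have hj : j = (j ≫ i).toImage ≫ ℓ := by
    rw [← cancel_mono i, Category.assoc, h1, (j ≫ i).toImage_imageι]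
  rw [hj]; infer_instance

attribute [local instance] Groth.Agent.Lib.SchDescent_helper6.descendsAlong_quasiCompact

set_option backward.isDefEq.respectTransparency false in
/-- Quasi-compact immersions descend along fpqc morphisms. -/
theorem descendsAlong_immersion_quasiCompact :
    MorphismProperty.DescendsAlong (@IsImmersion ⊓ @QuasiCompact : MorphismProperty Scheme.{u})
      (@Surjective ⊓ @Flat ⊓ @QuasiCompact : MorphismProperty Scheme.{u}) := by
  apply MorphismProperty.DescendsAlong.mk'
  intro X Y Z f g _ hf hfst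
  have hf' := hf
  obtain ⟨⟨hs, hfl⟩, hqc⟩ := hf
  obtain ⟨himm, hqc'⟩ := hfst
  have hgqc : QuasiCompact g :=
    MorphismProperty.of_pullback_fst_of_descendsAlong (P := @QuasiCompact)
      (Q := (@Surjective ⊓ @Flat ⊓ @QuasiCompact : MorphismProperty Scheme.{u})) (f := f) hf' hqc'
  refine ⟨?_, hgqc⟩
  have hgfac : g.toImage ≫ g.imageι = g := g.toImage_imageι
  let i : pullback f g.imageι ⟶ X := pullback.fst f g.imageι
  let j : pullback f g ⟶ pullback f g.imageι :=
    pullback.map f g f g.imageι (𝟙 _) g.toImage (𝟙 _) (by simp) (by simp [hgfac])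
  have hji : j ≫ i = pullback.fst f g := by simp [j, i]
  have hjs : j ≫ pullback.snd f g.imageι = pullback.snd f g ≫ g.toImage := by simp [j]
  have hpb : IsPullback j (pullback.snd f g) (pullback.snd f g.imageι) g.toImage := by
    refine IsPullback.of_right ?_ hjs (IsPullback.of_hasPullback f g.imageι)
    rw [hji, hgfac]; exact IsPullback.of_hasPullback f g
  haveI := isSchemeTheoreticallyDominant_toImage g
  haveI : IsSchemeTheoreticallyDominant j := .of_isPullback hpb.flip
  haveI : IsImmersion (j ≫ i) := by rw [hji]; exact himm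
  haveI : QuasiCompact (j ≫ i) := by rw [hji]; exact hqc'
  have hjo : IsOpenImmersion j := isOpenImmersion_of_comp_closedImmersion j i
  have hQ : (@Surjective ⊓ @Flat ⊓ @QuasiCompact : MorphismProperty Scheme.{u})
      (pullback.snd f g.imageι) :=
    MorphismProperty.pullback_snd _ _ hf'
  have ht : IsOpenImmersion g.toImage :=
    MorphismProperty.of_isPullback_of_descendsAlong (P := @IsOpenImmersion)
      (Q := (@Surjective ⊓ @Flat ⊓ @QuasiCompact : MorphismProperty Scheme.{u})) hpb hQ hjo
  rw [← hgfac]; infer_instance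

end Groth.Agent.Lib.ImmDescent
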