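import Groth.Agent.Lib.AffDesc8_helper7
import Groth.Agent.Lib.ImmDescent_helper9
import Groth.Agent.Lib.AlgSpGlue2_helper7

/-!
# Quasi-compact immersions are fpqc local on the base (helper7)
-/

set_option autoImplicit false
universe u
open CategoryTheory CategoryTheory.Limits AlgebraicGeometry Opposite TensorProduct MorphismProperty
open AlgSp Groth.Agent.Lib.AlgSpQC2_helper7 Groth.Agent.Lib.AlgSpPoints_helper7
  Groth.Agent.Lib.AlgSpQC_helper7 Groth.Agent.Lib.AlgSpPullback_helper7
  Groth.Agent.Lib.AlgSpLocP_helper7 Groth.Agent.Lib.AlgSpFpqc3_helper7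
  Groth.Agent.Lib.AlgSpIso_helper7 Groth.Agent.Lib.AlgSpAffine_helper7
  Groth.Agent.Lib.AlgSpSmST_helper7 Groth.Agent.Lib.AlgSpSep_helper7
  Groth.Agent.Lib.AlgSpDiag_helper7 Groth.Agent.Lib.AlgSpBasic_helper7
  Groth.Agent.Lib.AlgSpFpqc_helper7 Groth.Agent.Lib.AlgSpFpqc2_helper7
  Groth.Agent.Lib.AlgSpLocP6_helper7 Groth.Agent.Lib.AlgSpGlue2H7

namespace Groth.Agent.Lib.AffDescH7

variable {S : Scheme.{u}}

theorem descendsFlatCover_qcImmersion :
    DescendsFlatCover (@IsImmersion ⊓ @QuasiCompact : MorphismProperty Scheme.{u}) := by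
  haveI := Groth.Agent.Lib.ImmDescent.descendsAlong_immersion_quasiCompact.{u}
  intro Z _ m W c hW hc hs V f h
  exact descendsFlatCover_of_descendsAlong (@IsImmersion ⊓ @QuasiCompact) W c hW hc hs f h

theorem isQuasiAffineMor_of_repWith_qcImmersion {X Y : Sp S} (f : X ⟶ Y)
    (hf : RepWith (@IsImmersion ⊓ @QuasiCompact) f) : IsQuasiAffineMor f := by
  intro Z hZ g
  haveI := hZ
  have hP := hf.property_snd g
  haveI : IsImmersion (hf.rep.snd g).left := hP.1
  haveI : QuasiCompact (hf.rep.snd g).left := hP.2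
  haveI : CompactSpace ↥(hf.rep.pullback g).left :=
    (quasiCompact_iff_compactSpace (hf.rep.snd g).left).1 inferInstance
  exact ⟨_, hf.rep.snd g, hf.rep.fst g, hf.rep.isPullback g,
    Scheme.IsQuasiAffine.of_isImmersion (hf.rep.snd g).left⟩

/-- If `RepWith Q` morphisms are quasi-affine and `Q` descends along standard fpqc coverings, then
`RepWith Q` is fpqc local on the base. -/
theorem repWith_isLocalOnBase_fpqc_of_quasiAffine (Q : MorphismProperty Scheme.{u})
    [IsZariskiLocalAtTarget Q] [Q.IsStableUnderBaseChange] (hQ : DescendsFlatCover Q)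
    (hqa : ∀ ⦃X Y : Sp S⦄ (f : X ⟶ Y), RepWith Q f → IsQuasiAffineMor f) :
    IsLocalOnBase (IsFpqcCover (S := S)) (RepWith Q) := by
  haveI : Q.RespectsIso := MorphismProperty.IsStableUnderBaseChange.respectsIso
  intro ι Y Yi g hY hYi hcov X f hX Xi p q hXi sqs
  constructor
  · intro hf i
    exact repWith_snd_of_isPullback Q (sqs i) hf
  · intro hp
    have hqaf : IsQuasiAffineMor f :=
      (isLocalOnBase_fpqc_isQuasiAffineMor Yi g hY hYi hcov f hX Xi p q hXi sqs).2
        (fun i => hqa _ (hp i))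
    refine repWith_of_affine_local Q f (fun Z hZ t => ?_)
    obtain ⟨W, w, fst, sq, hW⟩ := hqaf hZ t
    refine ⟨W, w, fst, sq, ?_⟩
    haveI := hZ
    obtain ⟨m, T, c, hT, hc, hsurj, hl⟩ := hcov.2 Z hZ t
    refine DescendsFlatCover.of_isPullback hQ (fun j => (T j).left) (fun j => (c j).left) hT hc
      hsurj w.left (fun j => ?_)
    obtain ⟨i, l, hl⟩ := hl j
    have hpi := hp i
    have sqV : IsPullback (hpi.rep.fst l) ((yon S).map (hpi.rep.snd l)) (p i) l :=
      hpi.rep.isPullback l
    have hQv : Q (hpi.rep.snd l).left := hpi.property_snd l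
    have big : IsPullback (hpi.rep.fst l ≫ q i) ((yon S).map (hpi.rep.snd l)) f
        ((yon S).map (c j) ≫ t) := by
      rw [← hl]
      exact sqV.paste_horiz (sqs i)
    have sqO := IsPullback.of_hasPullback w (c j)
    have big' : IsPullback ((yon S).map (pullback.fst w (c j)) ≫ fst)
        ((yon S).map (pullback.snd w (c j))) f ((yon S).map (c j) ≫ t) :=
      (sqO.map (yon S)).paste_horiz sq
    let ε := big.isoIsPullback _ _ big'
    have hε : ε.hom ≫ (yon S).map (pullback.snd w (c j)) = (yon S).map (hpi.rep.snd l) :=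
      big.isoIsPullback_hom_snd _ _ big'
    let ε₀ : hpi.rep.pullback l ≅ pullback w (c j) := (yon S).preimageIso ε
    have hε₀ : ε₀.hom ≫ pullback.snd w (c j) = hpi.rep.snd l := by
      apply (yon S).map_injective
      rw [Functor.map_comp]
      simpa [ε₀] using hε
    haveI : IsIso ε₀.hom.left := inferInstanceAs (IsIso ((Over.forget S).map ε₀.hom))
    refine ⟨_, _, _, sqO.map (Over.forget S), ?_⟩
    have h6 : Q (ε₀.hom.left ≫ (pullback.snd w (c j)).left) := by
      rw [← Over.comp_left, hε₀]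
      exact hQv
    exact (MorphismProperty.cancel_left_of_respectsIso Q ε₀.hom.left
      (pullback.snd w (c j)).left).1 h6

theorem isLocalOnBase_fpqc_repWith_qcImmersion :
    IsLocalOnBase (IsFpqcCover (S := S)) (RepWith (@IsImmersion ⊓ @QuasiCompact)) :=
  repWith_isLocalOnBase_fpqc_of_quasiAffine _ descendsFlatCover_qcImmersion
    (fun _ _ f hf => isQuasiAffineMor_of_repWith_qcImmersion f hf)

end Groth.Agent.Lib.AffDescH7
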