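import Groth.Agent.Lib.AlgSpDvrImm_helper7
import Groth.Agent.Lib.QcImmDesc_helper7
import Groth.Agent.Lib.OfPshWith5_lead
import Groth.Agent.Lib.AlgStDiag2_lead
import Groth.Agent.Lib.AlgStLocal2_lead

/-! # Monomorphisms of algebraic stacks: the DVR criterion for quasi-compact immersions (helper7) -/

set_option autoImplicit false
set_option linter.style.haveILetI false
set_option backward.isDefEq.respectTransparency false
set_option backward.isDefEq.respectTransparency.types false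

universe w v₁ v₂ v₃ v₄ v₅ v₆ u₁ u₂ u₃ u₄ u₅ u₆ u

open CategoryTheory CategoryTheory.Limits AlgebraicGeometry Opposite FibCat Stk

namespace Groth.Agent.Lib.AlgStLocQ

open AlgSt Groth.Agent.Lib.FibCat_helper6 Groth.Agent.Lib.FibCat3_helper6
  Groth.Agent.Lib.FibCat14_helper6 Groth.Agent.Lib.FibCat12_helper6
  Groth.Agent.Lib.FibCatPaste Groth.Agent.Lib.FibCatSwap
  Groth.Agent.Lib.FibCatIsoFun
  Groth.Agent.Lib.OfPshCalc Groth.Agent.Lib.AlgStBC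
  Groth.Agent.Lib.AlgStEquiv Groth.Agent.Lib.AlgStEquivP Groth.Agent.Lib.AlgStEquivInv
  Groth.Agent.Lib.OfPshAlgSt Groth.Agent.Lib.LiftSqBC Groth.Agent.Lib.LiftSqComp
  Groth.Agent.Lib.OfPshWith Groth.Agent.Lib.FibCatDiagSec Groth.Agent.Lib.AlgStDiagRep
  Groth.Agent.Lib.FibCatDiagBC Groth.Agent.Lib.FibCatMagic Groth.Agent.Lib.FibCatProd
  Groth.Agent.Lib.AlgStDiag Groth.Agent.Lib.AlgStLocal
  Groth.Agent.Lib.AlgSpQC_helper7 Groth.Agent.Lib.AlgSpDiag_helper7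
  Groth.Agent.Lib.AlgSpPullback_helper7 Groth.Agent.Lib.AlgSpRepBySp_helper7
  Groth.Agent.Lib.AlgSpPoints_helper7 Groth.Agent.Lib.AlgSpLocP_helper7
  Groth.Agent.Lib.AlgSpBasic_helper7 Groth.Agent.Lib.AlgSpSep_helper7
  Groth.Agent.Lib.AlgSpLocP4_helper7 Groth.Agent.Lib.AlgSpLocP5_helper7
  Groth.Agent.Lib.AlgSpLocP7_helper7 Groth.Agent.Lib.AlgSpQC2_helper7
  Groth.Agent.Lib.AlgSpLocP8_helper7 Groth.Agent.Lib.AlgSpLocP10_helper7
  Groth.Agent.Lib.AlgSpFpqc3_helper7 Groth.Agent.Lib.AlgSpLocP6_helper7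
  Groth.Agent.Lib.AlgSpFpqc2_helper7 Groth.Agent.Lib.AlgSpFpqc_helper7
  Groth.Agent.Lib.AlgSpProper_helper7 Groth.Agent.Lib.AlgSpAffineMorH7
  Groth.Agent.Lib.AlgStAtlas Groth.Agent.Lib.AlgStPoints Groth.Agent.Lib.AlgStPtsCmp
  Groth.Agent.Lib.FibCatYoneda_helper6 Groth.Agent.Lib.AlgSpFieldFlat_helper7
  Groth.Agent.Lib.AlgSpUnramLocal

variable {S : Scheme.{u}}

theorem schemeTestable_inf {P Q : MorphismProperty (AlgSp.Sp S)} (hP : SchemeTestable P)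
    (hQ : SchemeTestable Q) : SchemeTestable (P ⊓ Q) := by
  intro V Z a hV hZ h
  refine ⟨hP a hV hZ ?_, hQ a hV hZ ?_⟩
  · intro U ξ F' fst snd sq
    obtain ⟨h', hA, hpq⟩ := h ξ fst snd sq
    exact ⟨h', hA, hpq.1⟩
  · intro U ξ F' fst snd sq
    obtain ⟨h', hA, hpq⟩ := h ξ fst snd sq
    exact ⟨h', hA, hpq.2⟩

theorem isoInv_inf {P Q : MorphismProperty (AlgSp.Sp S)} (hP : IsoInv P) (hQ : IsoInv Q) :
    IsoInv (P ⊓ Q) :=
  fun _ _ _ i f hX hX' hY h => ⟨hP i f hX hX' hY h.1, hQ i f hX hX' hY h.2⟩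

section stk

variable {𝒳 𝒴 : AlgSt.Cat S} {X : AlgSp.Space S}

/-- A section of `c` over a scheme mapping to the atlas gives a lift to `𝒴`. -/
theorem exists_lift_of_section (h𝒴g : IsFibGrpd 𝒴.p) (h𝒳g : IsFibGrpd 𝒳.p) (f : 𝒴 ⥤ᵇ 𝒳)
    {V : Over S} (y : FibCat.overCat V ⥤ᵇ 𝒳) (c : X ⟶ (AlgSp.ofScheme S).obj V)
    (e : AlgSt.ofSp X.obj ⥤ᵇ FibCat.fp (BasedFunctor.comp (AlgSt.toOverCat V) y) f)
    (i : BasedFunctor.comp e (FibCat.fpFst (BasedFunctor.comp (AlgSt.toOverCat V) y) f) ≅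
      AlgSt.ofSpMap c.hom)
    {T T' : Over S} (φ : T' ⟶ T) (t : T ⟶ V) (σ : (AlgSp.yon S).obj T' ⟶ X.obj)
    (hσ : σ ≫ c.hom = (AlgSp.yon S).map (φ ≫ t)) :
    ∃ yT' : FibCat.overCat T' ⥤ᵇ 𝒴, Nonempty (BasedFunctor.comp yT' f ≅
      BasedFunctor.comp (AlgSt.overMap φ) (BasedFunctor.comp (AlgSt.overMap t) y)) := by
  have hs : c.hom.hom.app (op T') (Groth.Agent.Lib.AlgStMono.yE σ) = ULift.up (φ ≫ t) := by
    have h0 := congrArg Groth.Agent.Lib.AlgStMono.yE hσ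
    rw [Groth.Agent.Lib.AlgStMono.yE_comp] at h0
    exact h0.trans (yE_yon_map (φ ≫ t))
  have h1 : EssIm f (y.obj (Over.mk (c.hom.hom.app (op T')
      (Groth.Agent.Lib.AlgStMono.yE σ)).down)) :=
    essIm_of_section f (BasedFunctor.comp (AlgSt.toOverCat V) y) c e i
      ⟨T', Groth.Agent.Lib.AlgStMono.yE σ⟩
  rw [hs] at h1
  have e3 : y.obj ((Over.map t).obj ((Over.map φ).obj (Over.mk (𝟙 _)))) ≅
      y.obj (Over.mk (φ ≫ t)) :=
    y.toFunctor.mapIso (Over.isoMk (Iso.refl _) (by simp))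
  exact exists_lift_of_essIm h𝒴g h𝒳g f _ ((essIm_closed f).of_iso e3.symm h1)

/-- A lift to `𝒴` of a scheme mapping to the atlas gives a section of `c`. -/
theorem exists_section_of_lift (h𝒴g : IsFibGrpd 𝒴.p) (h𝒳g : IsFibGrpd 𝒳.p) (f : 𝒴 ⥤ᵇ 𝒳)
    {V : Over S} (y : FibCat.overCat V ⥤ᵇ 𝒳) (c : X ⟶ (AlgSp.ofScheme S).obj V)
    (e : AlgSt.ofSp X.obj ⥤ᵇ FibCat.fp (BasedFunctor.comp (AlgSt.toOverCat V) y) f)
    (he : IsEquivOver e)
    (i : BasedFunctor.comp e (FibCat.fpFst (BasedFunctor.comp (AlgSt.toOverCat V) y) f) ≅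
      AlgSt.ofSpMap c.hom)
    {T : Over S} (t : T ⟶ V) (yT : FibCat.overCat T ⥤ᵇ 𝒴)
    (ι : BasedFunctor.comp yT f ≅ BasedFunctor.comp (AlgSt.overMap t) y) :
    ∃ σ : (AlgSp.yon S).obj T ⟶ X.obj, σ ≫ c.hom = (AlgSp.yon S).map t := by
  have h4 : EssIm f ((BasedFunctor.comp (AlgSt.overMap t) y).obj (Over.mk (𝟙 _))) :=
    essIm_of_lift f _ yT ι
  have e5 : y.obj ((Over.map t).obj (Over.mk (𝟙 _))) ≅ y.obj (Over.mk t) :=
    y.toFunctor.mapIso (Over.isoMk (Iso.refl _) (by simp))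
  have h5 : EssIm f ((BasedFunctor.comp (AlgSt.toOverCat V) y).obj
      (⟨T, ULift.up t⟩ : (AlgSt.ofSp ((AlgSp.ofScheme S).obj V).obj).obj)) :=
    (essIm_closed f).of_iso e5 h4
  obtain ⟨s, hs⟩ := exists_section_of_essIm h𝒴g h𝒳g f
    (BasedFunctor.comp (AlgSt.toOverCat V) y) c e he i
    (⟨T, ULift.up t⟩ : (AlgSt.ofSp ((AlgSp.ofScheme S).obj V).obj).obj) h5
  refine ⟨Groth.Agent.Lib.AlgStMono.yE.symm s, ?_⟩
  apply Groth.Agent.Lib.AlgStMono.yE.injective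
  rw [Groth.Agent.Lib.AlgStMono.yE_comp, Equiv.apply_symm_apply]
  exact hs.trans (yE_yon_map t).symm

/-- A lift to `𝒴` of a scheme mapping to the atlas gives a section of `c` (two-step form). -/
theorem exists_section_of_lift₂ (h𝒴g : IsFibGrpd 𝒴.p) (h𝒳g : IsFibGrpd 𝒳.p) (f : 𝒴 ⥤ᵇ 𝒳)
    {V : Over S} (y : FibCat.overCat V ⥤ᵇ 𝒳) (c : X ⟶ (AlgSp.ofScheme S).obj V)
    (e : AlgSt.ofSp X.obj ⥤ᵇ FibCat.fp (BasedFunctor.comp (AlgSt.toOverCat V) y) f)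
    (he : IsEquivOver e)
    (i : BasedFunctor.comp e (FibCat.fpFst (BasedFunctor.comp (AlgSt.toOverCat V) y) f) ≅
      AlgSt.ofSpMap c.hom)
    {T T' : Over S} (φ : T' ⟶ T) (t : T ⟶ V) (yT : FibCat.overCat T' ⥤ᵇ 𝒴)
    (ι : BasedFunctor.comp yT f ≅
      BasedFunctor.comp (AlgSt.overMap φ) (BasedFunctor.comp (AlgSt.overMap t) y)) :
    ∃ σ : (AlgSp.yon S).obj T' ⟶ X.obj, σ ≫ c.hom = (AlgSp.yon S).map (φ ≫ t) := by
  have h4 : EssIm f ((BasedFunctor.comp (AlgSt.overMap φ)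
      (BasedFunctor.comp (AlgSt.overMap t) y)).obj (Over.mk (𝟙 _))) :=
    essIm_of_lift f _ yT ι
  have e5 : y.obj ((Over.map t).obj ((Over.map φ).obj (Over.mk (𝟙 _)))) ≅
      y.obj (Over.mk (φ ≫ t)) :=
    y.toFunctor.mapIso (Over.isoMk (Iso.refl _) (by simp))
  have h5 : EssIm f ((BasedFunctor.comp (AlgSt.toOverCat V) y).obj
      (⟨T', ULift.up (φ ≫ t)⟩ : (AlgSt.ofSp ((AlgSp.ofScheme S).obj V).obj).obj)) :=
    (essIm_closed f).of_iso e5 h4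
  obtain ⟨s, hs⟩ := exists_section_of_essIm h𝒴g h𝒳g f
    (BasedFunctor.comp (AlgSt.toOverCat V) y) c e he i
    (⟨T', ULift.up (φ ≫ t)⟩ : (AlgSt.ofSp ((AlgSp.ofScheme S).obj V).obj).obj) h5
  refine ⟨Groth.Agent.Lib.AlgStMono.yE.symm s, ?_⟩
  apply Groth.Agent.Lib.AlgStMono.yE.injective
  rw [Groth.Agent.Lib.AlgStMono.yE_comp, Equiv.apply_symm_apply]
  exact hs.trans (yE_yon_map (φ ≫ t)).symm

set_option maxHeartbeats 1600000 in
/-- S15356. -/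
theorem repWith_qcImm_of_lifts (h𝒳 : AlgSt.IsAlgStack Scheme.fppfPrecoverage 𝒳)
    (h𝒴 : AlgSt.IsAlgStack Scheme.fppfPrecoverage 𝒴)
    (hnoeth : AlgSt.SmoothLocally (fun X => IsLocallyNoetherian X) 𝒳) (f : 𝒴 ⥤ᵇ 𝒳)
    (hlfp : AlgSt.RepByAlgSpWith (AlgSp.LocP @LocallyOfFinitePresentation) f)
    (ha : AlgSt.IsMono f)
    (hb : ∀ (A : Type u) [CommRing A] [IsDomain A] [IsDiscreteValuationRing A] (K : Type u) [Field K] [Algebra A K]
      [IsFractionRing A K] (sA : Spec (CommRingCat.of A) ⟶ S) (a : FibCat.overCat (Over.mk sA) ⥤ᵇ 𝒳),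
      (∃ yK : FibCat.overCat (Over.mk (Spec.map (CommRingCat.ofHom (algebraMap A K)) ≫ sA)) ⥤ᵇ 𝒴,
          Nonempty (BasedFunctor.comp yK f ≅ BasedFunctor.comp (AlgSt.overMap (Over.homMk (Spec.map (CommRingCat.ofHom (algebraMap A K))) rfl : Over.mk ((Spec.map (CommRingCat.ofHom (algebraMap A K))) ≫ sA) ⟶ Over.mk sA)) a)) →
      (∃ yk : FibCat.overCat (Over.mk (Spec.map (CommRingCat.ofHom (IsLocalRing.residue A)) ≫ sA)) ⥤ᵇ 𝒴,
          Nonempty (BasedFunctor.comp yk f ≅ BasedFunctor.comp (AlgSt.overMap (Over.homMk (Spec.map (CommRingCat.ofHom (IsLocalRing.residue A))) rfl : Over.mk ((Spec.map (CommRingCat.ofHom (IsLocalRing.residue A))) ≫ sA) ⟶ Over.mk sA)) a)) →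
      ∃ y : FibCat.overCat (Over.mk sA) ⥤ᵇ 𝒴, Nonempty (BasedFunctor.comp y f ≅ a))
    (hc : ∀ (A : Type u) [CommRing A] [IsDomain A] (sA : Spec (CommRingCat.of A) ⟶ S)
      (a : FibCat.overCat (Over.mk sA) ⥤ᵇ 𝒳) (D : Set ↥(Spec (CommRingCat.of A))), Dense D →
      (∀ p ∈ D, ∃ yp : FibCat.overCat (Over.mk ((Spec (CommRingCat.of A)).fromSpecResidueField p ≫ sA)) ⥤ᵇ 𝒴,
          Nonempty (BasedFunctor.comp yp f ≅ BasedFunctor.comp (AlgSt.overMap (Over.homMk ((Spec (CommRingCat.of A)).fromSpecResidueField p) rfl : Over.mk (((Spec (CommRingCat.of A)).fromSpecResidueField p) ≫ sA) ⟶ Over.mk sA)) a)) →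
      ∃ U : (Spec (CommRingCat.of A)).Opens, (U : Set ↥(Spec (CommRingCat.of A))).Nonempty ∧
        ∃ yU : FibCat.overCat (Over.mk (U.ι ≫ sA)) ⥤ᵇ 𝒴,
          Nonempty (BasedFunctor.comp yU f ≅ BasedFunctor.comp (AlgSt.overMap (Over.homMk (U.ι) rfl : Over.mk ((U.ι) ≫ sA) ⟶ Over.mk sA)) a)) :
    AlgSt.RepByAlgSpWith (AlgSp.RepWith (@IsImmersion ⊓ @QuasiCompact)) f := by
  have h𝒳g : IsFibGrpd 𝒳.p := h𝒳.isStack.1
  have h𝒴g : IsFibGrpd 𝒴.p := h𝒴.isStack.1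
  obtain ⟨V, y, hy, hy'⟩ := h𝒳.atlas
  have hys : AlgSt.RepByAlgSpWith (AlgSp.LocP @Smooth)
      (BasedFunctor.comp (AlgSt.toOverCat V) y) := repWith_toOverCat_comp _ y hy
  have hys' : AlgSt.RepByAlgSpWith AlgSp.IsSurjectiveMor
      (BasedFunctor.comp (AlgSt.toOverCat V) y) := repWith_toOverCat_comp _ y hy'
  have hf1 : AlgSt.RepByAlgSp1 f := Groth.Agent.Lib.AlgStMono.repByAlgSp1_of_isMono ha
  have hPQ : AlgSt.RepByAlgSpWith (MorphismProperty.monomorphisms (AlgSp.Sp S) ⊓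
      AlgSp.LocP @LocallyOfFinitePresentation) f :=
    repWith_and_left _ _ (isoInv_of_respectsIso _) schemeTestable_mono f ha hlfp
  obtain ⟨X, c, e, he, ⟨i⟩, hcm, hclfp⟩ :=
    exists_space_of_repWith' h𝒴g h𝒳g (MorphismProperty.monomorphisms (AlgSp.Sp S) ⊓
      AlgSp.LocP @LocallyOfFinitePresentation)
      (isoInv_inf (isoInv_of_respectsIso _)
        (isoInv_locP _ Groth.Agent.Lib.AlgSpLocP7_helper7.etLocal_locallyOfFinitePresentation))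
      (schemeTestable_inf schemeTestable_mono (schemeTestable_locP _)) f hPQ
      ((AlgSp.ofScheme S).obj V) (BasedFunctor.comp (AlgSt.toOverCat V) y)
  haveI : Mono c.hom := hcm
  haveI hV : IsLocallyNoetherian V.left := hnoeth V y hy
  have hlft : AlgSp.LocP @LocallyOfFiniteType c.hom := by
    intro U₁ V₁ a₁ b₁ h₁ ha₁ hb₁ comm
    haveI : LocallyOfFinitePresentation h₁.left := hclfp a₁ b₁ h₁ ha₁ hb₁ comm
    infer_instance
  have hDL : DenseLift c.hom := by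
    intro A _ _ sA t D hD hσ
    obtain ⟨U, hU, yU, ⟨ιU⟩⟩ := hc A sA (BasedFunctor.comp (AlgSt.overMap t) y) D hD
      (fun p hp => by
        obtain ⟨σ, hσp⟩ := hσ p hp
        exact exists_lift_of_section h𝒴g h𝒳g f y c e i _ t σ hσp)
    obtain ⟨σ, hσU⟩ := exists_section_of_lift₂ h𝒴g h𝒳g f y c e he i _ t yU ιU
    exact ⟨U, hU, σ, hσU⟩
  have hDV : DvrLift c.hom := by
    intro A _ _ _ K _ _ _ sA t hK hk
    obtain ⟨yA, ⟨ιA⟩⟩ := hb A K sA (BasedFunctor.comp (AlgSt.overMap t) y)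
      (by
        obtain ⟨σ, hσK⟩ := hK
        exact exists_lift_of_section h𝒴g h𝒳g f y c e i _ t σ hσK)
      (by
        obtain ⟨σ, hσk⟩ := hk
        exact exists_lift_of_section h𝒴g h𝒳g f y c e i _ t σ hσk)
    exact exists_section_of_lift h𝒴g h𝒳g f y c e he i t yA ιA
  have main : AlgSp.RepWith (@IsImmersion ⊓ @QuasiCompact) c.hom :=
    repWith_qcImmersion_of_lifts X.property c.hom hlft hDL hDV
  exact (repWith_iff_exists_of_cover h𝒴g h𝒳g (AlgSp.RepWith (@IsImmersion ⊓ @QuasiCompact))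
    (fun _ _ _ _ _ _ _ _ _ _ _ _ sq ha => repWith_snd_of_isPullback _ sq ha)
    (isLocalOnBase_fppf_of_fpqc' Groth.Agent.Lib.AffDescH7.isLocalOnBase_fpqc_repWith_qcImmersion)
    f hf1 ((AlgSp.ofScheme S).obj V) (BasedFunctor.comp (AlgSt.toOverCat V) y)
    (repWith_flat_of_smooth _ hys) (repWith_lfp_of_smooth _ hys) hys').2
    ⟨X, c, e, he, ⟨i⟩, main⟩

end stk

end Groth.Agent.Lib.AlgStLocQ
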