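import Groth.Agent.Lib.AlgStEquiv_lead
import Groth.Agent.Lib.FibCatProd_lead
import Groth.Agent.Lib.StkEquiv_helper9

/-!
# Algebraic stacks and DM stacks are invariant under equivalence over the base (lead)
-/

set_option autoImplicit false

universe v₆ u₆ v₅ u₅ v₄ u₄ v₃ u₃ v₂ u₂ v u

open CategoryTheory CategoryTheory.Limits AlgebraicGeometry Opposite FibCat

namespace Groth.Agent.Lib.AlgStEquivInv

open Groth.Agent.Lib.FibCat_helper6 Groth.Agent.Lib.FibCat3_helper6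
  Groth.Agent.Lib.FibCat13_helper6
  Groth.Agent.Lib.FibCat14_helper6 Groth.Agent.Lib.LiftSqBC Groth.Agent.Lib.FibCatPaste
  Groth.Agent.Lib.FibCatProd

section prodMap

variable {C : Type u} [Category.{v} C] {𝒳 : BasedCategory.{v₂, u₂} C}
  {𝒴 : BasedCategory.{v₃, u₃} C} (e : 𝒳 ⥤ᵇ 𝒴)

/-- `e × e`. -/
def prodMap : fp (toSelf 𝒳) (toSelf 𝒳) ⥤ᵇ fp (toSelf 𝒴) (toSelf 𝒴) :=
  fpLift (BasedFunctor.comp (fpFst (toSelf 𝒳) (toSelf 𝒳)) e)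
    (BasedFunctor.comp (fpSnd (toSelf 𝒳) (toSelf 𝒳)) e) (toSelfIso _ _)

instance prodMap_faithful [e.toFunctor.Faithful] : (prodMap e).toFunctor.Faithful where
  map_injective := by
    intro t t' m m' h
    apply fp_hom_ext
    · exact e.toFunctor.map_injective (congrArg (fun n => n.hom.fst) h)
    · exact e.toFunctor.map_injective (congrArg (fun n => n.hom.snd) h)

instance prodMap_full [e.toFunctor.Full] : (prodMap e).toFunctor.Full where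
  map_surjective := by
    intro t t' n
    obtain ⟨a, ha⟩ := e.toFunctor.map_surjective (X := t.obj.fst) (Y := t'.obj.fst) n.hom.fst
    obtain ⟨b, hb⟩ := e.toFunctor.map_surjective (X := t.obj.snd) (Y := t'.obj.snd) n.hom.snd
    have h1' : 𝒴.p.IsHomLift ((fp (toSelf 𝒴) (toSelf 𝒴)).p.map n) (e.toFunctor.map a) := by
      rw [ha]; exact IsHomLift.map 𝒴.p n.hom.fst
    have h2' : 𝒴.p.IsHomLift ((fp (toSelf 𝒴) (toSelf 𝒴)).p.map n) (e.toFunctor.map b) := by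
      rw [hb]; exact fp_isHomLift_snd _ _ n
    have h1 : 𝒳.p.IsHomLift ((fp (toSelf 𝒴) (toSelf 𝒴)).p.map n) a :=
      BasedFunctor.isHomLift_map e _ a
    have h2 : 𝒳.p.IsHomLift ((fp (toSelf 𝒴) (toSelf 𝒴)).p.map n) b :=
      BasedFunctor.isHomLift_map e _ b
    refine ⟨@prodHomMk _ _ _ _ t t' _ _ ((fp (toSelf 𝒴) (toSelf 𝒴)).p.map n) a b h1 h2, ?_⟩
    apply fp_hom_ext
    · exact ha
    · exact hb

theorem prodMap_essSurj (he : IsEquivOver e) (w : (fp (toSelf 𝒴) (toSelf 𝒴)).obj) :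
    ∃ (t : (fp (toSelf 𝒳) (toSelf 𝒳)).obj) (φ : (prodMap e).obj t ≅ w),
      (fp (toSelf 𝒴) (toSelf 𝒴)).p.IsHomLift
        (𝟙 ((fp (toSelf 𝒴) (toSelf 𝒴)).p.obj w)) φ.hom := by
  obtain ⟨x₁, φ₁, h₁⟩ := essSurjOver_of_isEquivOver he w.obj.fst
  obtain ⟨x₂, φ₂, h₂⟩ := essSurjOver_of_isEquivOver he w.obj.snd
  have e1 : 𝒳.p.obj x₁ = 𝒴.p.obj w.obj.fst :=
    (e.w_obj x₁).symm.trans (IsHomLift.domain_eq 𝒴.p (𝟙 (𝒴.p.obj w.obj.fst)) φ₁.hom)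
  have e2 : 𝒳.p.obj x₂ = 𝒴.p.obj w.obj.snd :=
    (e.w_obj x₂).symm.trans (IsHomLift.domain_eq 𝒴.p (𝟙 (𝒴.p.obj w.obj.snd)) φ₂.hom)
  have hx : 𝒳.p.obj x₁ = 𝒳.p.obj x₂ := e1.trans ((prod_obj_eq w).trans e2.symm)
  let t : (fp (toSelf 𝒳) (toSelf 𝒳)).obj := prodObjMk x₁ x₂ hx
  have h₂' : 𝒴.p.IsHomLift (𝟙 (𝒴.p.obj w.obj.fst)) φ₂.hom :=
    isHomLift_id_of_eq (prod_obj_eq w).symm φ₂.hom h₂
  refine ⟨t, @prodIsoMk _ _ _ _ ((prodMap e).obj t) w (𝒴.p.obj w.obj.fst) φ₁ φ₂ h₁ h₂', ?_⟩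
  exact @prodIsoMk_isHomLift _ _ _ _ ((prodMap e).obj t) w (𝒴.p.obj w.obj.fst) φ₁ φ₂ h₁ h₂'

theorem prodMap_isEquivOver (he : IsEquivOver e) : IsEquivOver (prodMap e) := by
  haveI := full_of_isEquivOver he
  haveI := faithful_of_isEquivOver he
  exact isEquivOver_of_fullyFaithful (prodMap e) (prodMap_essSurj e he)

/-- The diagonal commutes with `e` and `e × e`. -/
def diagSqIso : BasedFunctor.comp (diag (toSelf 𝒳)) (prodMap e) ≅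
    BasedFunctor.comp e (diag (toSelf 𝒴)) :=
  prodIsoMk2 (Iso.refl _) (Iso.refl _)

end prodMap

section algst

open AlgSt Groth.Agent.Lib.AlgStBC Groth.Agent.Lib.AlgStEquiv

variable {S : Scheme.{u}}

theorem repByAlgSp1_iff_top {𝒳 𝒴 : AlgSt.Cat S} (f : 𝒳 ⥤ᵇ 𝒴) :
    RepByAlgSp1 f ↔ RepByAlgSpWith ⊤ f := by
  constructor
  · intro h U y
    obtain ⟨F, e, he⟩ := h U y
    exact ⟨F, e, he, by simp⟩
  · intro h U y
    obtain ⟨F, e, he, -⟩ := h U y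
    exact ⟨F, e, he⟩

theorem hasAtlas_of_equiv (P : MorphismProperty (AlgSp.Sp S)) {𝒳 𝒴 : AlgSt.Cat S}
    (e : 𝒳 ⥤ᵇ 𝒴) (he : IsEquivOver e) (h : HasAtlas P 𝒳) : HasAtlas P 𝒴 := by
  obtain ⟨U, x, h1, h2⟩ := h
  exact ⟨U, BasedFunctor.comp x e, repWith_postcomp_equiv P x e he h1,
    repWith_postcomp_equiv _ x e he h2⟩

theorem isAlgStack_of_equiv (K : Precoverage Scheme.{u}) {𝒳 𝒴 : AlgSt.Cat S}
    (e : 𝒳 ⥤ᵇ 𝒴) (he : IsEquivOver e) (h : IsAlgStack K 𝒳) : IsAlgStack K 𝒴 := by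
  refine ⟨(Groth.Agent.StkEquiv.isStack_iff _ he).1 h.isStack, ?_,
    hasAtlas_of_equiv _ e he h.atlas⟩
  rw [repByAlgSp1_iff_top]
  have h1 := (repByAlgSp1_iff_top _).1 h.diag
  exact (repWith_equiv_square ⊤ (FibCat.diag (toSelf 𝒴)) (FibCat.diag (toSelf 𝒳)) e (prodMap e)
    he (prodMap_isEquivOver e he) (diagSqIso e)).2 h1

theorem isAlgStack_iff_of_equiv (K : Precoverage Scheme.{u}) {𝒳 𝒴 : AlgSt.Cat S}
    (e : 𝒳 ⥤ᵇ 𝒴) (he : IsEquivOver e) : IsAlgStack K 𝒳 ↔ IsAlgStack K 𝒴 := by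
  have he0 := he
  obtain ⟨e', ⟨η⟩, ⟨ε⟩⟩ := he0
  exact ⟨isAlgStack_of_equiv K e he, isAlgStack_of_equiv K e' (isEquivOver_inverse η ε)⟩

theorem isDM_iff_of_equiv (K : Precoverage Scheme.{u}) {𝒳 𝒴 : AlgSt.Cat S}
    (e : 𝒳 ⥤ᵇ 𝒴) (he : IsEquivOver e) : IsDM K 𝒳 ↔ IsDM K 𝒴 := by
  have he0 := he
  obtain ⟨e', ⟨η⟩, ⟨ε⟩⟩ := he0
  have he' : IsEquivOver e' := isEquivOver_inverse η ε
  exact ⟨fun h => ⟨isAlgStack_of_equiv K e he h.1, hasAtlas_of_equiv _ e he h.2⟩,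
    fun h => ⟨isAlgStack_of_equiv K e' he' h.1, hasAtlas_of_equiv _ e' he' h.2⟩⟩

end algst

end Groth.Agent.Lib.AlgStEquivInv
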