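import Groth.Agent.Lib.AlgStMono_lead
import Groth.Agent.Lib.AlgStBC_lead
import Groth.Agent.Lib.AlgSpProper_helper7
import Groth.Agent.Lib.AlgSpLocP_helper7
import Mathlib.AlgebraicGeometry.Morphisms.FormallyUnramified

/-!
# Equivalences have every property satisfied by identities; monomorphisms are separated and DM (lead)
-/

set_option autoImplicit false
set_option backward.isDefEq.respectTransparency false
set_option backward.isDefEq.respectTransparency.types false

universe u v₄ u₄ v₃ u₃ v₂ u₂ v₁ u₁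

open CategoryTheory CategoryTheory.Limits AlgebraicGeometry FibCat Opposite

namespace Groth.Agent.Lib.AlgStEquivP

open Groth.Agent.Lib.FibCat_helper6 Groth.Agent.Lib.FibCat3_helper6
  Groth.Agent.Lib.FibCat14_helper6 Groth.Agent.Lib.FibCatPaste Groth.Agent.Lib.AlgStBC

section general

variable {C : Type u₁} [Category.{v₁} C] {𝒳 : BasedCategory.{v₂, u₂} C}
  {𝒴 : BasedCategory.{v₃, u₃} C}

section diag

variable (f : 𝒳 ⥤ᵇ 𝒴)

instance diag_faithful : (FibCat.diag f).toFunctor.Faithful where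
  map_injective := by
    intro x x' m m' h
    exact congrArg (fun n => n.hom.fst) h

instance diag_full [f.toFunctor.Faithful] : (FibCat.diag f).toFunctor.Full where
  map_surjective := by
    intro x x' n
    have h1 : f.toFunctor.map n.hom.fst ≫ 𝟙 _ = 𝟙 _ ≫ f.toFunctor.map n.hom.snd := n.hom.w
    have h2 : f.toFunctor.map n.hom.fst = f.toFunctor.map n.hom.snd :=
      (Category.comp_id _).symm.trans (h1.trans (Category.id_comp _))
    have h3 : n.hom.fst = n.hom.snd := f.toFunctor.map_injective h2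
    refine ⟨n.hom.fst, ?_⟩
    apply fp_hom_ext
    · rfl
    · exact h3

theorem diag_essSurj [f.toFunctor.Full] [f.toFunctor.Faithful] (V : (fp f f).obj) :
    ∃ (x : 𝒳.obj) (φ : (FibCat.diag f).obj x ≅ V),
      (fp f f).p.IsHomLift (𝟙 ((fp f f).p.obj V)) φ.hom := by
  obtain ⟨α, hα⟩ := f.toFunctor.map_surjective V.obj.iso.hom
  haveI : IsIso (f.toFunctor.map α) := by rw [hα]; infer_instance
  haveI : IsIso α := isIso_of_fully_faithful f.toFunctor α
  refine ⟨V.obj.fst, fpIsoMk (F := f) (G := f) (X := (FibCat.diag f).obj V.obj.fst) (Y := V)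
    (Iso.refl _) (asIso α) ?_, ?_⟩
  · show f.toFunctor.map (𝟙 V.obj.fst) ≫ V.obj.iso.hom = 𝟙 _ ≫ f.toFunctor.map α
    rw [hα, f.toFunctor.map_id]
  · apply fpIsoMk_isHomLift
    exact (inferInstance : 𝒳.p.IsHomLift (𝟙 (𝒳.p.obj V.obj.fst)) (𝟙 V.obj.fst))

/-- The diagonal of a fully faithful functor over the base is an equivalence over the base. -/
theorem diag_isEquivOver [f.toFunctor.Full] [f.toFunctor.Faithful] :
    IsEquivOver (FibCat.diag f) :=
  isEquivOver_of_fullyFaithful (FibCat.diag f) (diag_essSurj f)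

end diag

section idGraph

variable (y : 𝒳 ⥤ᵇ 𝒴)

/-- `a ↦ (a, y a, 𝟙)`, the graph of `y` as a functor to `𝒳 ×_𝒴 𝒴`. -/
def idGraph : 𝒳 ⥤ᵇ fp y (BasedFunctor.id 𝒴) :=
  fpLift (F := y) (G := BasedFunctor.id 𝒴) (BasedFunctor.id 𝒳) y (Iso.refl _)

instance idGraph_faithful : (idGraph y).toFunctor.Faithful where
  map_injective := by
    intro x x' m m' h
    exact congrArg (fun n => n.hom.fst) h

instance idGraph_full : (idGraph y).toFunctor.Full where
  map_surjective := by
    intro x x' n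
    have h1 : y.toFunctor.map n.hom.fst ≫ 𝟙 _ = 𝟙 _ ≫ n.hom.snd := n.hom.w
    have h2 : y.toFunctor.map n.hom.fst = n.hom.snd :=
      (Category.comp_id _).symm.trans (h1.trans (Category.id_comp _))
    refine ⟨n.hom.fst, ?_⟩
    apply fp_hom_ext
    · rfl
    · exact h2

theorem idGraph_essSurj (V : (fp y (BasedFunctor.id 𝒴)).obj) :
    ∃ (x : 𝒳.obj) (φ : (idGraph y).obj x ≅ V),
      (fp y (BasedFunctor.id 𝒴)).p.IsHomLift (𝟙 ((fp y (BasedFunctor.id 𝒴)).p.obj V)) φ.hom := by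
  refine ⟨V.obj.fst, fpIsoMk (F := y) (G := BasedFunctor.id 𝒴) (X := (idGraph y).obj V.obj.fst)
    (Y := V) (Iso.refl _) V.obj.iso ?_, ?_⟩
  · show y.toFunctor.map (𝟙 V.obj.fst) ≫ V.obj.iso.hom = 𝟙 _ ≫ V.obj.iso.hom
    rw [y.toFunctor.map_id]
  · apply fpIsoMk_isHomLift
    exact (inferInstance : 𝒳.p.IsHomLift (𝟙 (𝒳.p.obj V.obj.fst)) (𝟙 V.obj.fst))

theorem idGraph_isEquivOver : IsEquivOver (idGraph y) :=
  isEquivOver_of_fullyFaithful (idGraph y) (idGraph_essSurj y)

end idGraph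

end general

section stk

variable {S : Scheme.{u}}

theorem toOverCat_isEquivOver (U : Over S) : IsEquivOver (AlgSt.toOverCat U) :=
  ⟨AlgSt.ofOverCat U, ⟨Iso.refl _⟩, ⟨Iso.refl _⟩⟩

theorem spMapOfOver_toOverCat (U : Over S) :
    AlgSt.spMapOfOver (AlgSt.toOverCat U) = 𝟙 _ := by
  apply ObjectProperty.hom_ext
  apply NatTrans.ext
  funext T
  ext x
  apply ULift.ext
  show AlgSt.secHom (AlgSt.toOverCat U) ⟨T.unop, x⟩ = x.down
  simp [AlgSt.secHom, AlgSt.toOverCat]

/-- The identity functor is representable with every property satisfied by the identities of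
representable sheaves. -/
theorem repWith_id_of (P : MorphismProperty (AlgSp.Sp S))
    (hP : ∀ U : Over S, P (𝟙 ((AlgSp.yon S).obj U))) (𝒳' : AlgSt.Cat S) :
    AlgSt.RepByAlgSpWith P (BasedFunctor.id 𝒳') := by
  intro U y
  refine ⟨⟨(AlgSp.yon S).obj U, AlgSp.IsAlgSpace.yon_obj U⟩,
    BasedFunctor.comp (AlgSt.toOverCat U) (idGraph y),
    isEquivOver_comp (toOverCat_isEquivOver U) (idGraph_isEquivOver y), ?_⟩
  have h : AlgSt.spMapOfOver (BasedFunctor.comp (BasedFunctor.comp (AlgSt.toOverCat U) (idGraph y))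
      (fpFst y (BasedFunctor.id 𝒳'))) = 𝟙 _ := spMapOfOver_toOverCat U
  rw [h]
  exact hP U

/-- An equivalence over the base is representable with every property satisfied by the identities
of representable sheaves. -/
theorem repWith_of_isEquivOver (P : MorphismProperty (AlgSp.Sp S))
    (hP : ∀ U : Over S, P (𝟙 ((AlgSp.yon S).obj U))) {𝒳 𝒳' : AlgSt.Cat S} (E : 𝒳 ⥤ᵇ 𝒳')
    (hE : IsEquivOver E) : AlgSt.RepByAlgSpWith P E :=
  repWith_precomp_equiv P E hE (BasedFunctor.id 𝒳') (repWith_id_of P hP 𝒳')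

open Groth.Agent.Lib.AlgSpBasic_helper7 in
theorem isProperMor_id (U : Over S) : AlgSp.IsProperMor (𝟙 ((AlgSp.yon S).obj U)) :=
  Groth.Agent.Lib.AlgSpProper_helper7.isProperMor_of_repWith _ (repWith_of_isIso @IsProper _)

open Groth.Agent.Lib.AlgSpBasic_helper7 in
theorem locP_unram_id (U : Over S) :
    AlgSp.LocP (@LocallyOfFiniteType ⊓ @FormallyUnramified) (𝟙 ((AlgSp.yon S).obj U)) :=
  Groth.Agent.Lib.AlgSpLocP_helper7.locP_of_repWith _
    (fun A B g hg => by
      haveI := hg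
      exact ⟨(inferInstance : LocallyOfFiniteType g), (inferInstance : FormallyUnramified g)⟩)
    _ (repWith_of_isIso _ _)

open Groth.Agent.Lib.AlgStMono in
theorem isSeparated_isDM_of_isMono {𝒳 𝒴 : AlgSt.Cat S} (h𝒳 : IsFibGrpd 𝒳.p) (h𝒴 : IsFibGrpd 𝒴.p)
    (f : 𝒳 ⥤ᵇ 𝒴) (hf : AlgSt.IsMono f) : AlgSt.IsSeparatedMor f ∧ AlgSt.IsDMMor f := by
  haveI := full_of_isMono h𝒳 h𝒴 f hf
  haveI := faithful_of_repByAlgSp1 h𝒳 h𝒴 f (repByAlgSp1_of_isMono hf)
  have hΔ := diag_isEquivOver f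
  exact ⟨repWith_of_isEquivOver _ isProperMor_id _ hΔ, repWith_of_isEquivOver _ locP_unram_id _ hΔ⟩

end stk

end Groth.Agent.Lib.AlgStEquivP
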