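import Groth.Agent.Lib.FibCatPaste_lead

/-!
# 2-fibre products and 2-isomorphic functors; the projection `𝒮 ×_𝒮 𝒴 ⟶ 𝒴` (lead)
-/

set_option autoImplicit false

universe v₆ u₆ v₅ u₅ v₄ u₄ v₃ u₃ v₂ u₂ v u

open CategoryTheory CategoryTheory.Limits FibCat

namespace Groth.Agent.Lib.FibCatIsoFun

open Groth.Agent.Lib.FibCat_helper6 Groth.Agent.Lib.FibCat3_helper6
  Groth.Agent.Lib.FibCat14_helper6 Groth.Agent.Lib.LiftSqBC Groth.Agent.Lib.FibCatPaste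
  Groth.Agent.Lib.LiftSqComp

variable {C : Type u} [Category.{v} C]

section isoFun

variable {𝒰 : BasedCategory.{v₂, u₂} C} {𝒲 : BasedCategory.{v₃, u₃} C}
  {𝒳 : BasedCategory.{v₄, u₄} C} (y : 𝒰 ⥤ᵇ 𝒳) {x x' : 𝒲 ⥤ᵇ 𝒳} (ι : x ≅ x')

/-- `(u, a, ψ) ↦ (u, a, ψ ≫ ι_a)`. -/
def isoFun : fp y x ⥤ᵇ fp y x' :=
  fpLift (fpFst y x) (fpSnd y x) (fpIso y x ≪≫ whiskerLeftIso (fpSnd y x) ι)

theorem isoFun_comp_fpFst : BasedFunctor.comp (isoFun y ι) (fpFst y x') = fpFst y x := rfl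

theorem isoFun_obj_iso_hom (t : (fp y x).obj) :
    ((isoFun y ι).obj t).obj.iso.hom = t.obj.iso.hom ≫ ι.hom.toNatTrans.app t.obj.snd := rfl

def isoFunIso : BasedFunctor.comp (isoFun y ι) (isoFun y ι.symm) ≅ BasedFunctor.id (fp y x) :=
  isoMk2 y x (H := BasedFunctor.comp (isoFun y ι) (isoFun y ι.symm))
    (K := BasedFunctor.id (fp y x)) (Iso.refl (fpFst y x)) (Iso.refl (fpSnd y x)) (fun t => by
      show y.toFunctor.map (𝟙 t.obj.fst) ≫ t.obj.iso.hom =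
        ((t.obj.iso.hom ≫ ι.hom.toNatTrans.app t.obj.snd) ≫ ι.inv.toNatTrans.app t.obj.snd) ≫
          x.toFunctor.map (𝟙 t.obj.snd)
      have h : ι.hom.toNatTrans.app t.obj.snd ≫ ι.inv.toNatTrans.app t.obj.snd = 𝟙 _ :=
        app_congr ι.hom_inv_id _
      rw [y.toFunctor.map_id, x.toFunctor.map_id, Category.id_comp, Category.comp_id,
        Category.assoc, h, Category.comp_id])

theorem isoFun_isEquivOver : IsEquivOver (isoFun y ι) := by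
  refine ⟨isoFun y ι.symm, ⟨isoFunIso y ι⟩, ⟨?_⟩⟩
  have h := isoFunIso y ι.symm
  rw [Iso.symm_symm_eq] at h
  exact h

end isoFun

section sndId

variable {𝒴 : BasedCategory.{v₂, u₂} C} {𝒮 : BasedCategory.{v₃, u₃} C} (G : 𝒴 ⥤ᵇ 𝒮)

/-- `y ↦ (G y, y, 𝟙)`. -/
def sndIdInv : 𝒴 ⥤ᵇ fp (BasedFunctor.id 𝒮) G :=
  fpLift G (BasedFunctor.id 𝒴) (Iso.refl G)

theorem sndIdInv_comp_fpSnd :
    BasedFunctor.comp (sndIdInv G) (fpSnd (BasedFunctor.id 𝒮) G) = BasedFunctor.id 𝒴 := rfl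

def sndIdIso : BasedFunctor.comp (fpSnd (BasedFunctor.id 𝒮) G) (sndIdInv G) ≅
    BasedFunctor.id (fp (BasedFunctor.id 𝒮) G) :=
  isoMk2 (BasedFunctor.id 𝒮) G
    (H := BasedFunctor.comp (fpSnd (BasedFunctor.id 𝒮) G) (sndIdInv G))
    (K := BasedFunctor.id (fp (BasedFunctor.id 𝒮) G))
    (fpIso (BasedFunctor.id 𝒮) G).symm (Iso.refl (fpSnd (BasedFunctor.id 𝒮) G)) (fun t => by
      show t.obj.iso.inv ≫ t.obj.iso.hom = 𝟙 _ ≫ G.toFunctor.map (𝟙 t.obj.snd)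
      rw [Iso.inv_hom_id, G.toFunctor.map_id, Category.id_comp])

theorem fpSnd_id_isEquivOver : IsEquivOver (fpSnd (BasedFunctor.id 𝒮) G) :=
  ⟨sndIdInv G, ⟨sndIdIso G⟩, ⟨Iso.refl _⟩⟩

end sndId

end Groth.Agent.Lib.FibCatIsoFun
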