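import Groth.Agent.Lib.FibCatPaste_lead

/-!
# Postcomposition with an equivalence over the base and 2-fibre products (lead)
-/

set_option autoImplicit false

universe v₆ u₆ v₅ u₅ v₄ u₄ v₃ u₃ v₂ u₂ v u

open CategoryTheory CategoryTheory.Limits FibCat

namespace Groth.Agent.Lib.FibCatPostcomp

open Groth.Agent.Lib.FibCat_helper6 Groth.Agent.Lib.FibCat3_helper6
  Groth.Agent.Lib.FibCat14_helper6 Groth.Agent.Lib.LiftSqBC Groth.Agent.Lib.FibCatPaste
  Groth.Agent.Lib.LiftSqComp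

variable {C : Type u} [Category.{v} C]

theorem post_aux {D : Type*} [Category D] {A A' B B' K K' : D} {a : A ⟶ A'} {εi : A ⟶ B}
    {εh : B ⟶ A} {εi' : A' ⟶ B'} {c : B ⟶ B'} {k : B ⟶ K} {k' : B' ⟶ K'} {d : K ⟶ K'}
    (hε : εh ≫ εi = 𝟙 B) (nat : a ≫ εi' = εi ≫ c) (hw : a ≫ (εi' ≫ k') = (εi ≫ k) ≫ d) :
    c ≫ k' = k ≫ d := by
  have h1 : εi ≫ (c ≫ k') = εi ≫ (k ≫ d) := by
    rw [← Category.assoc, ← nat, Category.assoc, hw, Category.assoc]
  have h2 : (εh ≫ εi) ≫ (c ≫ k') = (εh ≫ εi) ≫ (k ≫ d) := by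
    rw [Category.assoc, Category.assoc, h1]
  rwa [hε, Category.id_comp, Category.id_comp] at h2

variable {𝒰 : BasedCategory.{v₂, u₂} C} {𝒲 : BasedCategory.{v₃, u₃} C}
  {𝒳 : BasedCategory.{v₄, u₄} C} {𝒳' : BasedCategory.{v₅, u₅} C}
  (y' : 𝒰 ⥤ᵇ 𝒳') (x : 𝒲 ⥤ᵇ 𝒳) (E : 𝒳 ⥤ᵇ 𝒳') (E' : 𝒳' ⥤ᵇ 𝒳)
  (ε : BasedFunctor.comp E' E ≅ BasedFunctor.id 𝒳')

local notation "yE" => BasedFunctor.comp y' E'

/-- `y' u ≅ E E' y' u ≅ E x a`. -/
def nuIso : BasedFunctor.comp (fpFst yE x) y' ≅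
    BasedFunctor.comp (fpSnd yE x) (BasedFunctor.comp x E) :=
  (whiskerLeftIso (BasedFunctor.comp (fpFst yE x) y') ε.symm :
      BasedFunctor.comp (BasedFunctor.comp (fpFst yE x) y') (BasedFunctor.id 𝒳') ≅
      BasedFunctor.comp (BasedFunctor.comp (fpFst yE x) y') (BasedFunctor.comp E' E)) ≪≫
  (whiskerRightIso (fpIso yE x) E :
      BasedFunctor.comp (BasedFunctor.comp (fpFst yE x) yE) E ≅
      BasedFunctor.comp (BasedFunctor.comp (fpSnd yE x) x) E)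

/-- `(u, a, ψ : E' y' u ≅ x a) ↦ (u, a, y' u ≅ E E' y' u ≅ E x a)`. -/
def postN : fp yE x ⥤ᵇ fp y' (BasedFunctor.comp x E) :=
  fpLift (fpFst yE x) (fpSnd yE x) (nuIso y' x E E' ε)

theorem postN_comp_fpFst :
    BasedFunctor.comp (postN y' x E E' ε) (fpFst y' (BasedFunctor.comp x E)) = fpFst yE x := rfl

theorem postN_obj_iso_hom (t : (fp yE x).obj) :
    ((postN y' x E E' ε).obj t).obj.iso.hom =
      ε.inv.toNatTrans.app (y'.obj t.obj.fst) ≫ E.toFunctor.map t.obj.iso.hom := rfl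

instance postN_faithful : (postN y' x E E' ε).toFunctor.Faithful where
  map_injective := by
    intro t t' m m' h
    apply fp_hom_ext
    · exact congrArg (fun n => n.hom.fst) h
    · exact congrArg (fun n => n.hom.snd) h

instance postN_full [E.toFunctor.Faithful] : (postN y' x E E' ε).toFunctor.Full where
  map_surjective := by
    intro t t' n
    have hw : y'.toFunctor.map n.hom.fst ≫
        (ε.inv.toNatTrans.app (y'.obj t'.obj.fst) ≫ E.toFunctor.map t'.obj.iso.hom) =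
        (ε.inv.toNatTrans.app (y'.obj t.obj.fst) ≫ E.toFunctor.map t.obj.iso.hom) ≫
          E.toFunctor.map (x.toFunctor.map n.hom.snd) := n.hom.w
    have nat : y'.toFunctor.map n.hom.fst ≫ ε.inv.toNatTrans.app (y'.obj t'.obj.fst) =
        ε.inv.toNatTrans.app (y'.obj t.obj.fst) ≫
          E.toFunctor.map (E'.toFunctor.map (y'.toFunctor.map n.hom.fst)) :=
      ε.inv.toNatTrans.naturality (y'.toFunctor.map n.hom.fst)
    have hε : ε.hom.toNatTrans.app (y'.obj t.obj.fst) ≫ ε.inv.toNatTrans.app (y'.obj t.obj.fst) =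
        𝟙 _ := app_congr ε.hom_inv_id _
    have key : E'.toFunctor.map (y'.toFunctor.map n.hom.fst) ≫ t'.obj.iso.hom =
        t.obj.iso.hom ≫ x.toFunctor.map n.hom.snd :=
      E.toFunctor.map_injective ((E.toFunctor.map_comp _ _).trans
        ((post_aux hε nat hw).trans (E.toFunctor.map_comp _ _).symm))
    refine ⟨fpHomMk n.hom.fst n.hom.snd key, ?_⟩
    apply fp_hom_ext
    · rfl
    · rfl

theorem postN_essSurj [E.toFunctor.Full] [E.toFunctor.Faithful]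
    (V : (fp y' (BasedFunctor.comp x E)).obj) :
    ∃ (t : (fp yE x).obj) (φ : (postN y' x E E' ε).obj t ≅ V),
      (fp y' (BasedFunctor.comp x E)).p.IsHomLift
        (𝟙 ((fp y' (BasedFunctor.comp x E)).p.obj V)) φ.hom := by
  let u : 𝒰.obj := V.obj.fst
  let a : 𝒲.obj := V.obj.snd
  let εu : E.obj (E'.obj (y'.obj u)) ≅ y'.obj u :=
    ((BasedNatTrans.forgetful _ _).mapIso ε).app (y'.obj u)
  let ψ : E'.obj (y'.obj u) ≅ x.obj a := E.toFunctor.preimageIso (εu ≪≫ V.obj.iso)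
  have hψ : E.toFunctor.map ψ.hom = ε.hom.toNatTrans.app (y'.obj u) ≫ V.obj.iso.hom :=
    E.toFunctor.map_preimage _
  have hV : 𝒳'.p.IsHomLift (𝟙 (𝒰.p.obj u)) V.obj.iso.hom := V.property
  have hεu : 𝒳'.p.IsHomLift (𝟙 (𝒰.p.obj u)) (ε.hom.toNatTrans.app (y'.obj u)) :=
    BasedNatTrans.isHomLift ε.hom (y'.w_obj u)
  have h1 : 𝒳'.p.IsHomLift (𝟙 (𝒰.p.obj u)) (E.toFunctor.map ψ.hom) := by
    rw [hψ]
    exact isHomLift_comp_of_id _ _ hεu hV
  have h2 : 𝒳.p.IsHomLift (𝟙 (𝒰.p.obj u)) ψ.hom :=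
    (BasedFunctor.isHomLift_iff E _ _).mp h1
  let t : (fp yE x).obj := fpObjMk (F := yE) (G := x) u a ψ h2
  have hε : ε.inv.toNatTrans.app (y'.obj u) ≫ ε.hom.toNatTrans.app (y'.obj u) = 𝟙 _ :=
    app_congr ε.inv_hom_id _
  refine ⟨t, fpIsoMk (F := y') (G := BasedFunctor.comp x E) (X := (postN y' x E E' ε).obj t)
    (Y := V) (Iso.refl u) (Iso.refl a) ?_, ?_⟩
  · show y'.toFunctor.map (𝟙 u) ≫ V.obj.iso.hom =
      (ε.inv.toNatTrans.app (y'.obj u) ≫ E.toFunctor.map ψ.hom) ≫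
        E.toFunctor.map (x.toFunctor.map (𝟙 a))
    rw [hψ, y'.toFunctor.map_id, x.toFunctor.map_id, E.toFunctor.map_id, Category.id_comp,
      Category.comp_id]
    exact (((Category.assoc _ _ _).symm.trans
      (congrArg (fun m => m ≫ V.obj.iso.hom) hε)).trans (Category.id_comp _)).symm
  · exact fpIsoMk_isHomLift _ _ _
      (inferInstance : 𝒰.p.IsHomLift (𝟙 (𝒰.p.obj u)) (𝟙 u))

theorem postN_isEquivOver [E.toFunctor.Full] [E.toFunctor.Faithful] :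
    IsEquivOver (postN y' x E E' ε) :=
  isEquivOver_of_fullyFaithful (postN y' x E E' ε) (postN_essSurj y' x E E' ε)

end Groth.Agent.Lib.FibCatPostcomp
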