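import Groth.Agent.Lib.AlgStBC_lead
import Groth.Agent.Lib.AlgStGraph_lead
import Groth.Agent.Lib.FibCatPostcomp_lead
import Groth.Agent.Lib.FibCatIsoFun_lead
import Groth.Prelude.Def_AlgSt4

/-!
# `RepByAlgSpWith` and equivalences / 2-isomorphisms; sections (lead)
-/

set_option autoImplicit false

universe u

open CategoryTheory CategoryTheory.Limits AlgebraicGeometry Opposite FibCat

namespace Groth.Agent.Lib.AlgStEquiv

open AlgSt Groth.Agent.Lib.AlgStBC Groth.Agent.Lib.FibCat3_helper6 Groth.Agent.Lib.FibCatPaste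
  Groth.Agent.Lib.FibCatPostcomp Groth.Agent.Lib.FibCatIsoFun Groth.Agent.Lib.AlgStGraph

variable {S : Scheme.{u}}

/-- Postcomposition with an equivalence over the base. -/
theorem repWith_postcomp_equiv {𝒲 𝒳 𝒳' : AlgSt.Cat S} (P : MorphismProperty (AlgSp.Sp S))
    (x : 𝒲 ⥤ᵇ 𝒳) (E : 𝒳 ⥤ᵇ 𝒳') (hE : IsEquivOver E) (hx : RepByAlgSpWith P x) :
    RepByAlgSpWith P (BasedFunctor.comp x E) := by
  intro U y'
  have := full_of_isEquivOver hE
  have := faithful_of_isEquivOver hE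
  obtain ⟨E', ⟨η⟩, ⟨ε⟩⟩ := hE
  obtain ⟨F, e₀, he₀, hP⟩ := hx U (BasedFunctor.comp y' E')
  exact ⟨F, BasedFunctor.comp e₀ (postN y' x E E' ε),
    isEquivOver_comp he₀ (postN_isEquivOver y' x E E' ε), hP⟩

/-- Invariance under 2-isomorphism. -/
theorem repWith_of_iso {𝒲 𝒳 : AlgSt.Cat S} (P : MorphismProperty (AlgSp.Sp S))
    {x x' : 𝒲 ⥤ᵇ 𝒳} (ι : x ≅ x') (hx : RepByAlgSpWith P x) : RepByAlgSpWith P x' := by
  intro U y
  obtain ⟨F, e₀, he₀, hP⟩ := hx U y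
  exact ⟨F, BasedFunctor.comp e₀ (isoFun y ι), isEquivOver_comp he₀ (isoFun_isEquivOver y ι), hP⟩

/-- A section of `f` inherits the properties of the diagonal of `f`. -/
theorem repWith_section {𝒳 𝒯 : AlgSt.Cat S} (P : MorphismProperty (AlgSp.Sp S))
    (f : 𝒳 ⥤ᵇ 𝒯) (s : 𝒯 ⥤ᵇ 𝒳) (e : BasedFunctor.comp s f ≅ BasedFunctor.id 𝒯)
    (h : RepByAlgSpWith P (diag f)) : RepByAlgSpWith P s := by
  have h1 : RepByAlgSpWith P (fpLift (F := BasedFunctor.id 𝒯) (G := f) (BasedFunctor.id 𝒯) s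
      e.symm) :=
    repWith_graph P (BasedFunctor.id 𝒯) f s e.symm h
  exact repWith_postcomp_equiv P _ (fpSnd (BasedFunctor.id 𝒯) f) (fpSnd_id_isEquivOver f) h1

/-- Quasi-compactness is invariant under equivalence over the base. -/
theorem isQuasiCompact_of_equiv {𝒳 𝒳' : AlgSt.Cat S} (E : 𝒳 ⥤ᵇ 𝒳') (hE : IsEquivOver E)
    (h : IsQuasiCompact 𝒳) : IsQuasiCompact 𝒳' := by
  obtain ⟨U, x, hU, h1, h2⟩ := h
  exact ⟨U, BasedFunctor.comp x E, hU, repWith_postcomp_equiv _ x E hE h1,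
    repWith_postcomp_equiv _ x E hE h2⟩

/-- Quasi-compact morphisms are stable under base change. -/
theorem quasiCompactMor_baseChange (K : Precoverage Scheme.{u}) {𝒳 𝒴 𝒴' : AlgSt.Cat S}
    (f : 𝒳 ⥤ᵇ 𝒴) (g : 𝒴' ⥤ᵇ 𝒴) (hf : IsQuasiCompactMor K f) :
    IsQuasiCompactMor K (fpFst g f) := by
  intro 𝒵 h𝒵 hqc h
  exact isQuasiCompact_of_equiv (paste h g f) (paste_isEquivOver h g f)
    (hf 𝒵 h𝒵 hqc (BasedFunctor.comp h g))

/-- Invariance of `RepByAlgSpWith` under equivalences of source and target. -/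
theorem repWith_equiv_square {𝒳 𝒴 𝒳' 𝒴' : AlgSt.Cat S} (P : MorphismProperty (AlgSp.Sp S))
    (f : 𝒳 ⥤ᵇ 𝒴) (f' : 𝒳' ⥤ᵇ 𝒴') (a : 𝒳' ⥤ᵇ 𝒳) (b : 𝒴' ⥤ᵇ 𝒴)
    (ha : IsEquivOver a) (hb : IsEquivOver b)
    (e : BasedFunctor.comp f' b ≅ BasedFunctor.comp a f) :
    RepByAlgSpWith P f ↔ RepByAlgSpWith P f' := by
  constructor
  · intro hf
    have h1 : RepByAlgSpWith P (BasedFunctor.comp a f) := repWith_precomp_equiv P a ha f hf
    have h2 : RepByAlgSpWith P (BasedFunctor.comp f' b) := repWith_of_iso P e.symm h1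
    obtain ⟨b', ⟨ηb⟩, ⟨εb⟩⟩ := hb
    have h3 : RepByAlgSpWith P (BasedFunctor.comp (BasedFunctor.comp f' b) b') :=
      repWith_postcomp_equiv P _ b' (isEquivOver_inverse ηb εb) h2
    have iso : BasedFunctor.comp (BasedFunctor.comp f' b) b' ≅ f' :=
      Groth.Agent.Lib.LiftSqBC.whiskerLeftIso f' ηb
    exact repWith_of_iso P iso h3
  · intro hf'
    have h1 : RepByAlgSpWith P (BasedFunctor.comp f' b) := repWith_postcomp_equiv P f' b hb hf'
    have h2 : RepByAlgSpWith P (BasedFunctor.comp a f) := repWith_of_iso P e h1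
    obtain ⟨a', ⟨ηa⟩, ⟨εa⟩⟩ := ha
    have h3 : RepByAlgSpWith P (BasedFunctor.comp a' (BasedFunctor.comp a f)) :=
      repWith_precomp_equiv P a' (isEquivOver_inverse ηa εa) _ h2
    have iso : BasedFunctor.comp a' (BasedFunctor.comp a f) ≅ f :=
      Groth.Agent.Lib.LiftSqComp.whiskerRightIso εa f
    exact repWith_of_iso P iso h3

end Groth.Agent.Lib.AlgStEquiv
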