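import Groth.Agent.Lib.AlgStFp_lead

/-!
# Properties étale local on the base; the diagonal read on base changes to schemes (lead)
-/

set_option autoImplicit false

universe u

open CategoryTheory CategoryTheory.Limits AlgebraicGeometry Opposite FibCat Stk

namespace Groth.Agent.Lib.AlgStAtlas

open AlgSt Groth.Agent.Lib.FibCat_helper6 Groth.Agent.Lib.FibCat3_helper6
  Groth.Agent.Lib.FibCat14_helper6 Groth.Agent.Lib.FibCat12_helper6
  Groth.Agent.Lib.FibCatPaste Groth.Agent.Lib.FibCatSwap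
  Groth.Agent.Lib.FibCatIsoFun
  Groth.Agent.Lib.OfPshCalc Groth.Agent.Lib.AlgStBC
  Groth.Agent.Lib.AlgStEquiv Groth.Agent.Lib.AlgStEquivP Groth.Agent.Lib.AlgStEquivInv
  Groth.Agent.Lib.OfPshAlgSt Groth.Agent.Lib.LiftSqBC Groth.Agent.Lib.LiftSqComp
  Groth.Agent.Lib.OfPshWith Groth.Agent.Lib.FibCatDiagSec Groth.Agent.Lib.AlgStDiagRep
  Groth.Agent.Lib.FibCatDiagBC Groth.Agent.Lib.FibCatMagic Groth.Agent.Lib.FibCatProd
  Groth.Agent.Lib.AlgStDiag Groth.Agent.Lib.AlgStLocal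
  Groth.Agent.Lib.AlgSpQC_helper7 Groth.Agent.Lib.AlgSpDiag_helper7
  Groth.Agent.Lib.AlgSpPullback_helper7 Groth.Agent.Lib.AlgSpRepBySp_helper7
  Groth.Agent.Lib.AlgSpPoints_helper7 Groth.Agent.Lib.AlgSpLocP_helper7
  Groth.Agent.Lib.AlgSpBasic_helper7 Groth.Agent.Lib.AlgSpSep_helper7
  Groth.Agent.Lib.AlgSpLocP4_helper7 Groth.Agent.Lib.AlgSpLocP5_helper7
  Groth.Agent.Lib.AlgSpLocP7_helper7 Groth.Agent.Lib.AlgSpQC2_helper7
  Groth.Agent.Lib.AlgSpLocP8_helper7 Groth.Agent.Lib.AlgSpLocP10_helper7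
  Groth.Agent.Lib.AlgSpFpqc3_helper7 Groth.Agent.Lib.AlgSpLocP6_helper7
  Groth.Agent.Lib.AlgSpFpqc2_helper7 Groth.Agent.Lib.AlgSpFpqc_helper7
  Groth.Agent.Lib.AlgSpProper_helper7 Groth.Agent.Lib.AlgSpAffineMorH7
  Groth.Agent.StkEquiv Groth.Agent.StkFp

variable {S : Scheme.{u}}

theorem prop_of_repBySpWith_et (Q : MorphismProperty (AlgSp.Sp S))
    (hP : AlgSp.IsLocalOnBase AlgSp.IsEtCover Q) {V Z : AlgSp.Sp S} (hV : AlgSp.IsAlgSpace V)
    (hZ : AlgSp.IsAlgSpace Z) (a : V ⟶ Z) (ha : AlgSp.RepBySpWith Q a.hom) : Q a := by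
  obtain ⟨T, p, hpe, hps⟩ := hZ.atlas
  let ξ : (AlgSp.pyon S).obj T ⟶ Z.obj := p.hom
  have sq : IsPullback (pullback.fst a.hom ξ) (pullback.snd a.hom ξ) a.hom ξ :=
    IsPullback.of_hasPullback a.hom ξ
  obtain ⟨hs, hA, hq⟩ := ha ξ _ _ sq
  let X' : AlgSp.Sp S := ⟨pullback a.hom ξ, hs⟩
  let q : X' ⟶ V := ObjectProperty.homMk (pullback.fst a.hom ξ)
  let r : X' ⟶ (AlgSp.yon S).obj T := ObjectProperty.homMk (pullback.snd a.hom ξ)
  have sq' : IsPullback q r a p := by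
    refine IsPullback.of_map (sheafToPresheaf (AlgSp.J S) (Type (u + 1))) ?_ sq
    apply ObjectProperty.hom_ext
    exact sq.w
  have hEt : AlgSp.IsEtaleMor p :=
    (isEtaleMor_iff_locP hZ p).2 (locP_of_repWith @Etale (fun _ _ _ hg => hg) p hpe)
  have hcov : AlgSp.IsEtCover (fun _ : PUnit.{u + 1} => (AlgSp.yon S).obj T) (fun _ => p) :=
    ⟨fun _ => hEt, fun x => ⟨PUnit.unit, isSurjectiveMor_of_repWith p hps x⟩⟩
  exact (hP (fun _ : PUnit.{u + 1} => (AlgSp.yon S).obj T) (fun _ => p) hZ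
    (fun _ => AlgSp.IsAlgSpace.yon_obj T) hcov a hV (fun _ => X') (fun _ => r) (fun _ => q)
    (fun _ => hA) (fun _ => sq')).2 (fun _ => hq)

theorem schemeTestable_of_local_et (P : MorphismProperty (AlgSp.Sp S))
    (hP : AlgSp.IsLocalOnBase AlgSp.IsEtCover P) : SchemeTestable P :=
  fun _ _ a hV hZ h => prop_of_repBySpWith_et P hP hV hZ a h

variable {𝒳 𝒴 𝒵 : AlgSt.Cat S}

/-- The diagonal of `f` has `P` as soon as the diagonals of all base changes of `f` to schemes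
have `P`: pointwise form. -/
theorem repWith_diag_at (P : MorphismProperty (AlgSp.Sp S)) (f : 𝒳 ⥤ᵇ 𝒴) {T : Over S}
    (t : FibCat.overCat T ⥤ᵇ fp f f) (y : FibCat.overCat T ⥤ᵇ 𝒴)
    (κ : BasedFunctor.comp t (BasedFunctor.comp (fpFst f f) f) ≅ y)
    (H : AlgSt.RepByAlgSpWith P (FibCat.diag (fpFst y f))) :
    ∃ (F : AlgSp.Space S) (e : AlgSt.ofSp F.obj ⥤ᵇ fp t (FibCat.diag f)),
      IsEquivOver e ∧ P (AlgSt.spMapOfOver (BasedFunctor.comp e (fpFst t (FibCat.diag f)))) := by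
  have H' : AlgSt.RepByAlgSpWith P (fpFst (Phi f y) (FibCat.diag f)) :=
    repWith_cancel_equiv P (diagBC f y) (diagBC_isEquivOver f y)
      (fpFst (Phi f y) (FibCat.diag f)) H
  let σ : FibCat.overCat T ⥤ᵇ fp (BasedFunctor.comp (fpFst f f) f) y :=
    fpLift t (BasedFunctor.id (FibCat.overCat T)) κ
  let t' : FibCat.overCat T ⥤ᵇ fp (fpFst y f) (fpFst y f) := BasedFunctor.comp σ (liftPhi f y)
  have ι : t ≅ BasedFunctor.comp t' (Phi f y) := whiskerLeftIso σ (liftPhiIso f y)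
  obtain ⟨F, e', he', hP'⟩ := H' T t'
  have hM : IsEquivOver (BasedFunctor.comp (isoFun₁ ι (FibCat.diag f))
      (paste t' (Phi f y) (FibCat.diag f))) :=
    isEquivOver_comp (isoFun₁_isEquivOver ι (FibCat.diag f))
      (paste_isEquivOver t' (Phi f y) (FibCat.diag f))
  obtain ⟨E, ⟨η⟩, ⟨ε⟩⟩ := hM
  refine ⟨F, BasedFunctor.comp e' E, isEquivOver_comp he' (isEquivOver_inverse η ε), ?_⟩
  have iso : BasedFunctor.comp (BasedFunctor.comp e' E) (fpFst t (FibCat.diag f)) ≅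
      BasedFunctor.comp e' (fpFst t' (fpFst (Phi f y) (FibCat.diag f))) :=
    whiskerLeftIso e' (whiskerRightIso ε (fpFst t' (fpFst (Phi f y) (FibCat.diag f))))
  rw [spMapOfOver_congr iso.hom]
  exact hP'

theorem repWith_diag_of_forall_scheme (P : MorphismProperty (AlgSp.Sp S)) (f : 𝒳 ⥤ᵇ 𝒴)
    (H : ∀ (T : Over S) (y : FibCat.overCat T ⥤ᵇ 𝒴),
      AlgSt.RepByAlgSpWith P (FibCat.diag (fpFst y f))) :
    AlgSt.RepByAlgSpWith P (FibCat.diag f) :=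
  fun T t => repWith_diag_at P f t _ (Iso.refl _) (H T _)

end Groth.Agent.Lib.AlgStAtlas
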