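import Groth.Agent.Lib.AlgStEt_lead

/-!
# Algebraicity read on the base changes to schemes (lead)
-/

set_option autoImplicit false

universe u

open CategoryTheory CategoryTheory.Limits AlgebraicGeometry Opposite FibCat Stk

namespace Groth.Agent.Lib.AlgStAtlas

open AlgSt Groth.Agent.Lib.FibCat_helper6 Groth.Agent.Lib.FibCat3_helper6
  Groth.Agent.Lib.FibCat14_helper6 Groth.Agent.Lib.FibCat12_helper6
  Groth.Agent.Lib.FibCatPaste Groth.Agent.Lib.FibCatSwap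
  Groth.Agent.Lib.FibCatIsoFun
  Groth.Agent.Lib.OfPshCalc Groth.Agent.Lib.AlgStBC
  Groth.Agent.Lib.AlgStEquiv Groth.Agent.Lib.AlgStEquivP Groth.Agent.Lib.AlgStEquivInv
  Groth.Agent.Lib.OfPshAlgSt Groth.Agent.Lib.LiftSqBC Groth.Agent.Lib.LiftSqComp
  Groth.Agent.Lib.OfPshWith Groth.Agent.Lib.FibCatDiagSec Groth.Agent.Lib.AlgStDiagRep
  Groth.Agent.Lib.FibCatDiagBC Groth.Agent.Lib.FibCatMagic Groth.Agent.Lib.FibCatProd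
  Groth.Agent.Lib.AlgStDiag Groth.Agent.Lib.AlgStLocal
  Groth.Agent.StkEquiv Groth.Agent.StkFp

variable {S : Scheme.{u}} {𝒳 𝒴 𝒵 : AlgSt.Cat S}

theorem repByAlgSp1_diag_toSelf_overCat (T : Over S) :
    AlgSt.RepByAlgSp1 (FibCat.diag (toSelf (FibCat.overCat T))) :=
  (repByAlgSp1_diag_iff (isFibGrpd_over_forget T)).2
    (fun U x => repByAlgSp1_of_repByAlgSp (repByAlgSp_overCat U) (repByAlgSp_overCat T) x)

/-- If all base changes of `𝒳 ⟶ 𝒴` to schemes have diagonals representable by algebraic spaces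
and so has `𝒴`, then so has `𝒳`. -/
theorem repByAlgSp1_diag_toSelf_of_forall_fp (h𝒳 : IsFibGrpd 𝒳.p) (h𝒴 : IsFibGrpd 𝒴.p)
    (f : 𝒳 ⥤ᵇ 𝒴) (hΔ : AlgSt.RepByAlgSp1 (FibCat.diag (toSelf 𝒴)))
    (hf : ∀ (U : Over S) (g : FibCat.overCat U ⥤ᵇ 𝒴),
      AlgSt.RepByAlgSp1 (FibCat.diag (toSelf (fp g f)))) :
    AlgSt.RepByAlgSp1 (FibCat.diag (toSelf 𝒳)) := by
  have hΔf : AlgSt.RepByAlgSp1 (FibCat.diag f) :=
    (repByAlgSp1_iff_top _).2 (repWith_diag_of_forall_scheme ⊤ f (fun T y =>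
      (repByAlgSp1_iff_top _).1 (repByAlgSp1_diag_of_diag
        (isFibGrpd_fp y f (isFibGrpd_over_forget T) h𝒳 h𝒴) (isFibGrpd_over_forget T) (hf T y)
        (repByAlgSp1_diag_toSelf_overCat T) (fpFst y f))))
  exact repByAlgSp1_diag_toSelf_of_diag h𝒳 h𝒴 f hΔf hΔ

theorem isAlgStack_of_forall_fp {K : Precoverage Scheme.{u}}
    (h𝒳 : Stk.IsStack (QuotSh.J K S) 𝒳) (h𝒴 : AlgSt.IsAlgStack K 𝒴) (f : 𝒳 ⥤ᵇ 𝒴)
    (hf : ∀ (U : Over S) (g : FibCat.overCat U ⥤ᵇ 𝒴), AlgSt.IsAlgStack K (fp g f)) :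
    AlgSt.IsAlgStack K 𝒳 := by
  refine ⟨h𝒳, repByAlgSp1_diag_toSelf_of_forall_fp h𝒳.1 h𝒴.isStack.1 f h𝒴.diag
    (fun U g => (hf U g).diag), ?_⟩
  obtain ⟨V, v, hv₁, hv₂⟩ := h𝒴.atlas
  exact hasAtlas_smooth_comp (hf V v).isStack.1 (fpSnd v f) (repWith_fpSnd _ v f hv₁)
    (repWith_fpSnd _ v f hv₂) (hf V v).atlas

theorem isDM_of_forall_fp {K : Precoverage Scheme.{u}}
    (h𝒳 : Stk.IsStack (QuotSh.J K S) 𝒳) (h𝒴 : AlgSt.IsDM K 𝒴) (f : 𝒳 ⥤ᵇ 𝒴)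
    (hf : ∀ (U : Over S) (g : FibCat.overCat U ⥤ᵇ 𝒴), AlgSt.IsDM K (fp g f)) :
    AlgSt.IsDM K 𝒳 := by
  refine ⟨isAlgStack_of_forall_fp h𝒳 h𝒴.1 f (fun U g => (hf U g).1), ?_⟩
  obtain ⟨V, v, hv₁, hv₂⟩ := h𝒴.2
  exact hasAtlas_etale_comp (hf V v).1.isStack.1 (fpSnd v f) (repWith_fpSnd _ v f hv₁)
    (repWith_fpSnd _ v f hv₂) (hf V v).2

end Groth.Agent.Lib.AlgStAtlas
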