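import Groth.Agent.Lib.AlgStImmNoeth_lead

/-! # Lifting objects fppf-locally along a flat lfp jointly surjective family (lead) -/

set_option autoImplicit false

universe w v₁ v₂ v₃ v₄ v₅ v₆ u₁ u₂ u₃ u₄ u₅ u₆ u

open CategoryTheory CategoryTheory.Limits AlgebraicGeometry Opposite FibCat Stk

namespace Groth.Agent.Lib.AlgStLocQ

open AlgSt Groth.Agent.Lib.FibCat_helper6 Groth.Agent.Lib.FibCat3_helper6
  Groth.Agent.Lib.FibCat14_helper6 Groth.Agent.Lib.FibCat12_helper6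
  Groth.Agent.Lib.FibCatPaste Groth.Agent.Lib.FibCatSwap
  Groth.Agent.Lib.FibCatIsoFun
  Groth.Agent.Lib.OfPshCalc Groth.Agent.Lib.AlgStBC
  Groth.Agent.Lib.AlgStEquiv Groth.Agent.Lib.AlgStEquivP Groth.Agent.Lib.AlgStEquivInv
  Groth.Agent.Lib.OfPshAlgSt Groth.Agent.Lib.LiftSqBC Groth.Agent.Lib.LiftSqComp
  Groth.Agent.Lib.OfPshWith Groth.Agent.Lib.FibCatDiagSec Groth.Agent.Lib.AlgStDiagRep
  Groth.Agent.Lib.FibCatDiagBC Groth.Agent.Lib.FibCatMagic Groth.Agent.Lib.FibCatProd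
  Groth.Agent.Lib.AlgStDiag Groth.Agent.Lib.AlgStLocal
  Groth.Agent.Lib.AlgSpQC_helper7 Groth.Agent.Lib.AlgSpDiag_helper7
  Groth.Agent.Lib.AlgSpPullback_helper7 Groth.Agent.Lib.AlgSpRepBySp_helper7
  Groth.Agent.Lib.AlgSpPoints_helper7 Groth.Agent.Lib.AlgSpLocP_helper7
  Groth.Agent.Lib.AlgSpBasic_helper7 Groth.Agent.Lib.AlgSpSep_helper7
  Groth.Agent.Lib.AlgSpLocP4_helper7 Groth.Agent.Lib.AlgSpLocP5_helper7
  Groth.Agent.Lib.AlgSpLocP7_helper7 Groth.Agent.Lib.AlgSpQC2_helper7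
  Groth.Agent.Lib.AlgSpLocP8_helper7 Groth.Agent.Lib.AlgSpLocP10_helper7
  Groth.Agent.Lib.AlgSpFpqc3_helper7 Groth.Agent.Lib.AlgSpLocP6_helper7
  Groth.Agent.Lib.AlgSpFpqc2_helper7 Groth.Agent.Lib.AlgSpFpqc_helper7
  Groth.Agent.Lib.AlgSpProper_helper7 Groth.Agent.Lib.AlgSpAffineMorH7
  Groth.Agent.Lib.AlgStAtlas Groth.Agent.Lib.AlgStPoints Groth.Agent.Lib.AlgStPtsCmp
  Groth.Agent.Lib.FibCatYoneda_helper6


variable {S : Scheme.{u}}

/-- A scheme point of `U` as a point of `(Sch/U)`, detecting preimages under `overMap`. -/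
theorem exists_point_overCat (U : Over S) (u : ↥U.left) :
    ∃ p : AlgSt.Points (FibCat.overCat U), ∀ {W : Over S} (a : W ⟶ U)
      (v : AlgSt.Points (FibCat.overCat W)), AlgSt.Points.map (AlgSt.overMap a) v = p →
        ∃ w : ↥W.left, a.left w = u := by
  obtain ⟨z, hz⟩ := toSpPoints_surjective (F := (AlgSp.yon S).obj U) (AlgSp.Points.ofScheme U u)
  refine ⟨AlgSt.Points.map (AlgSt.toOverCat U) z, fun {W} a v hv => ?_⟩
  obtain ⟨v', rfl⟩ :=
    map_surjective_of_isEquivOver (AlgSt.toOverCat W) (toOverCat_isEquivOver W) v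
  have e1 : AlgSt.Points.map (AlgSt.ofOverCat U) (AlgSt.Points.map (AlgSt.toOverCat U) z) = z := by
    rw [← Groth.Agent.Lib.AlgStPoints.map_comp]
    exact Groth.Agent.Lib.AlgStPoints.map_id z
  have e2 : AlgSt.Points.map (AlgSt.ofOverCat U) (AlgSt.Points.map (AlgSt.overMap a)
      (AlgSt.Points.map (AlgSt.toOverCat W) v')) =
      AlgSt.Points.map (AlgSt.ofSpMap ((AlgSp.yon S).map a)) v' := by
    rw [← Groth.Agent.Lib.AlgStPoints.map_comp, ← Groth.Agent.Lib.AlgStPoints.map_comp]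
    rfl
  have h1 : AlgSt.Points.map (AlgSt.ofSpMap ((AlgSp.yon S).map a)) v' = z := by
    rw [← e2, hv, e1]
  have h2 : AlgSp.Points.map ((AlgSp.yon S).map a) (toSpPoints v') =
      AlgSp.Points.ofScheme U u := by
    rw [← toSpPoints_map, h1, hz]
  obtain ⟨w, hw⟩ := ofScheme_surjective W (toSpPoints v')
  refine ⟨w, ofScheme_injective U ?_⟩
  rw [← h2, ← hw, ← AlgSp.Points.ofPt_eq_map_ofScheme, ofPt_yon_map]

/-- S13022. -/
theorem exists_fppf_lift {𝒳 : AlgSt.Cat S} (h𝒳 : AlgSt.IsAlgStack Scheme.fppfPrecoverage 𝒳)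
    (J : Type u) (𝒳' : J → AlgSt.Cat S)
    (h𝒳' : ∀ j, AlgSt.IsAlgStack Scheme.fppfPrecoverage (𝒳' j))
    (f : ∀ j, 𝒳' j ⥤ᵇ 𝒳)
    (hf₁ : ∀ j, AlgSt.LocQ (AlgSp.LocP @Flat) (f j))
    (hf₂ : ∀ j, AlgSt.LocQ (AlgSp.LocP @LocallyOfFinitePresentation) (f j))
    (hf₃ : ∀ p : AlgSt.Points 𝒳, ∃ j, p ∈ Set.range (AlgSt.Points.map (f j)))
    (U : Over S) (x : FibCat.overCat U ⥤ᵇ 𝒳) :
    ∃ (ι : Type u) (V : ι → Over S) (g : ∀ i, V i ⟶ U) (c : ι → J),
      (Presieve.ofArrows (fun i ↦ (V i).left) fun i ↦ (g i).left) ∈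
        Scheme.fppfPrecoverage U.left ∧
      ∀ i, ∃ x' : FibCat.overCat (V i) ⥤ᵇ 𝒳' (c i),
        Nonempty (BasedFunctor.comp x' (f (c i)) ≅
          BasedFunctor.comp (AlgSt.overMap (g i)) x) := by
  have hIs : IsoInv (AlgSp.LocP @Smooth : MorphismProperty (AlgSp.Sp S)) :=
    isoInv_locP _ etLocal_smooth
  have hLs : SchemeTestable (AlgSp.LocP @Smooth : MorphismProperty (AlgSp.Sp S)) :=
    schemeTestable_locP _
  have hU : IsFibGrpd (FibCat.overCat U).p := isFibGrpd_over_forget U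
  have hid : AlgSt.RepByAlgSpWith (AlgSp.LocP @Smooth)
      (BasedFunctor.id (FibCat.overCat U)) := by
    rw [← overMap_id U]
    exact repWith_overMap _ (bc_locP _ etLocal_smooth) (𝟙 U)
      (locP_yon_map_of @Smooth (fun _ _ g (_ : Etale g) => (inferInstance : Smooth g)) (𝟙 U)
        (show Smooth (𝟙 U.left) from inferInstance))
  have key : ∀ j, ∃ (W : Over S) (a : W ⟶ U) (t : FibCat.overCat W ⥤ᵇ fp x (f j)),
      Nonempty (BasedFunctor.comp t (fpFst x (f j)) ≅ AlgSt.overMap a) ∧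
      AlgSt.IsSurjective t ∧ Flat a.left ∧ LocallyOfFinitePresentation a.left := by
    intro j
    have hfib : IsFibGrpd (fp x (f j)).p :=
      isFibGrpd_fp x (f j) hU (h𝒳' j).isStack.1 h𝒳.isStack.1
    have hat : AlgSt.HasAtlas (AlgSp.LocP @Smooth) (fp x (f j)) :=
      hasAtlas_fp _ hIs hLs comp_locP_smooth
        (fun h => (hasAtlas_of_repByAlgSp h).2) hU (h𝒳' j).isStack.1 h𝒳.isStack.1 h𝒳.diag x (f j)
        (hasAtlas_of_repByAlgSp (repByAlgSp_overCat U)).2 (h𝒳' j).atlas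
    obtain ⟨W, t, ht₁, ht₂⟩ := hat
    have hW : IsFibGrpd (FibCat.overCat W).p := isFibGrpd_over_forget W
    obtain ⟨a, ⟨ι⟩⟩ := exists_overMap_iso (BasedFunctor.comp t (fpFst x (f j)))
    have hts : AlgSt.IsSurjective t :=
      (isSurjective_iff_repWith hW hfib t (repByAlgSp1_of_repWith _ ht₂)).2 ht₂
    have hπ : IsEquivOver (fpFst (fpFst x (f j)) (BasedFunctor.id (FibCat.overCat U))) :=
      isEquivOver_comp (swap_isEquivOver (fpFst x (f j)) (BasedFunctor.id (FibCat.overCat U)))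
        (fpSnd_id_isEquivOver (fpFst x (f j)))
    let α : BasedFunctor.comp t (fpFst x (f j)) ≅
        BasedFunctor.comp (AlgSt.overMap a) (BasedFunctor.id (FibCat.overCat U)) := ι
    have hℓ : AlgSt.RepByAlgSpWith (AlgSp.LocP @Smooth) (fpLift t (AlgSt.overMap a) α) :=
      repWith_cancel_postcomp_equiv _ _ _ hπ ht₁
    have g1 : GoodSch (AlgSp.LocP @Flat) (fpFst x (f j)) :=
      goodSch_of_locQ hfib hU _ isSmoothLocalST_flat (fpFst x (f j))
        (locQ_baseChange (h𝒳' j) h𝒳 (isAlgStack_overCat U) _ isSmoothLocalST_flat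
          (bc_locP _ etLocal_flat) (f j) x (hf₁ j))
    have g2 : GoodSch (AlgSp.LocP @LocallyOfFinitePresentation) (fpFst x (f j)) :=
      goodSch_of_locQ hfib hU _ isSmoothLocalST_lfp (fpFst x (f j))
        (locQ_baseChange (h𝒳' j) h𝒳 (isAlgStack_overCat U) _ isSmoothLocalST_lfp
          (bc_locP _ etLocal_locallyOfFinitePresentation) (f j) x (hf₂ j))
    exact ⟨W, a, t, ⟨ι⟩, hts,
      AlgSp.locP_yon_map (g1 W U t (BasedFunctor.id _) a α hid hℓ),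
      AlgSp.locP_yon_map (g2 W U t (BasedFunctor.id _) a α hid hℓ)⟩
  choose W a t hι hts hfl hlfp using key
  refine ⟨J, W, a, id, ?_, fun j => ⟨BasedFunctor.comp (t j) (fpSnd x (f j)), ?_⟩⟩
  · show Presieve.ofArrows _ _ ∈
      Scheme.precoverage (@Flat ⊓ @LocallyOfFinitePresentation : MorphismProperty Scheme.{u}) U.left
    refine (Scheme.ofArrows_mem_precoverage_iff
      (P := (@Flat ⊓ @LocallyOfFinitePresentation : MorphismProperty Scheme.{u}))).2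
      ⟨fun u => ?_, fun j => ⟨hfl j, hlfp j⟩⟩
    obtain ⟨p, hp⟩ := exists_point_overCat U u
    obtain ⟨j, q, hq⟩ := hf₃ (AlgSt.Points.map x p)
    obtain ⟨w, hw₁, -⟩ :=
      exists_fp_point (h𝒳' j).isStack.1 h𝒳.isStack.1 hU (f j) x p q hq.symm
    obtain ⟨v, rfl⟩ := hts j w
    obtain ⟨ι⟩ := hι j
    obtain ⟨w', hw'⟩ := hp (a j) v (by
      rw [← map_congr_iso ι v, Groth.Agent.Lib.AlgStPoints.map_comp]; exact hw₁)
    exact ⟨j, w', hw'⟩
  · obtain ⟨ι⟩ := hι j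
    exact ⟨(whiskerLeftIso (t j) (fpIso x (f j))).symm ≪≫ whiskerRightIso ι x⟩

end Groth.Agent.Lib.AlgStLocQ
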