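import Groth.Agent.Lib.AlgStDenseLift_lead
import Groth.Agent.Lib.AlgStLocal3_lead
import Groth.Agent.Lib.AlgStFp_lead
import Groth.Agent.Lib.AlgStLocQ4_lead
import Groth.Agent.Lib.AlgStDiagRep3_lead
import Groth.Agent.Lib.AlgStQcQs_lead

/-! # Quasi-compactness of the diagonal from generic isomorphisms (lead) -/

set_option autoImplicit false
set_option linter.style.haveILetI false
set_option backward.isDefEq.respectTransparency false
set_option backward.isDefEq.respectTransparency.types false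

universe w v₁ v₂ v₃ v₄ v₅ v₆ u₁ u₂ u₃ u₄ u₅ u₆ u

open CategoryTheory CategoryTheory.Limits AlgebraicGeometry Opposite FibCat Stk

namespace Groth.Agent.Lib.AlgStLocQ

open AlgSt Groth.Agent.Lib.FibCat_helper6 Groth.Agent.Lib.FibCat3_helper6
  Groth.Agent.Lib.FibCat14_helper6 Groth.Agent.Lib.FibCat12_helper6
  Groth.Agent.Lib.FibCatPaste Groth.Agent.Lib.FibCatSwap
  Groth.Agent.Lib.FibCatIsoFun
  Groth.Agent.Lib.OfPshCalc Groth.Agent.Lib.AlgStBC
  Groth.Agent.Lib.AlgStEquiv Groth.Agent.Lib.AlgStEquivP Groth.Agent.Lib.AlgStEquivInv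
  Groth.Agent.Lib.OfPshAlgSt Groth.Agent.Lib.LiftSqBC Groth.Agent.Lib.LiftSqComp
  Groth.Agent.Lib.OfPshWith Groth.Agent.Lib.FibCatDiagSec Groth.Agent.Lib.AlgStDiagRep
  Groth.Agent.Lib.FibCatDiagBC Groth.Agent.Lib.FibCatMagic Groth.Agent.Lib.FibCatProd
  Groth.Agent.Lib.AlgStDiag Groth.Agent.Lib.AlgStLocal
  Groth.Agent.Lib.AlgSpQC_helper7 Groth.Agent.Lib.AlgSpDiag_helper7
  Groth.Agent.Lib.AlgSpPullback_helper7 Groth.Agent.Lib.AlgSpRepBySp_helper7
  Groth.Agent.Lib.AlgSpPoints_helper7 Groth.Agent.Lib.AlgSpLocP_helper7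
  Groth.Agent.Lib.AlgSpBasic_helper7 Groth.Agent.Lib.AlgSpSep_helper7
  Groth.Agent.Lib.AlgSpLocP4_helper7 Groth.Agent.Lib.AlgSpLocP5_helper7
  Groth.Agent.Lib.AlgSpLocP7_helper7 Groth.Agent.Lib.AlgSpQC2_helper7
  Groth.Agent.Lib.AlgSpLocP8_helper7 Groth.Agent.Lib.AlgSpLocP10_helper7
  Groth.Agent.Lib.AlgSpFpqc3_helper7 Groth.Agent.Lib.AlgSpLocP6_helper7
  Groth.Agent.Lib.AlgSpFpqc2_helper7 Groth.Agent.Lib.AlgSpFpqc_helper7
  Groth.Agent.Lib.AlgSpProper_helper7 Groth.Agent.Lib.AlgSpAffineMorH7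
  Groth.Agent.Lib.AlgStAtlas Groth.Agent.Lib.AlgStPoints Groth.Agent.Lib.AlgStPtsCmp
  Groth.Agent.Lib.FibCatYoneda_helper6 Groth.Agent.Lib.AlgSpFieldFlat_helper7

variable {S : Scheme.{u}}

section sp

theorem toBase_map_of_comm {X P : AlgSp.Sp S} {V T : Over S} {c : X ⟶ (AlgSp.yon S).obj V}
    {t : T ⟶ V} {fst : P ⟶ X} {snd : P ⟶ (AlgSp.yon S).obj T}
    (w : fst ≫ c = snd ≫ (AlgSp.yon S).map t) (ξ : AlgSp.Points P) :
    toBase c (AlgSp.Points.map fst ξ) = t.left (toBase snd ξ) := by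
  apply ofScheme_injective V
  rw [ofScheme_toBase, ← AlgSp.Points.map_comp, w, AlgSp.Points.map_comp,
    ← ofScheme_toBase snd ξ, ← AlgSp.Points.ofPt_eq_map_ofScheme, ofPt_yon_map]

theorem preimage_image_eq_of_isPullback {X P : AlgSp.Sp S} {V T : Over S}
    {c : X ⟶ (AlgSp.yon S).obj V} {t : T ⟶ V} {fst : P ⟶ X} {snd : P ⟶ (AlgSp.yon S).obj T}
    (sq : IsPullback fst snd c ((AlgSp.yon S).map t)) (U : Set ↥T.left) :
    toBase c ⁻¹' (t.left '' U) = AlgSp.Points.map fst '' (toBase snd ⁻¹' U) := by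
  ext x
  constructor
  · intro hx
    obtain ⟨u, hu, hux⟩ : ∃ u ∈ U, t.left u = toBase c x := hx
    obtain ⟨ξ, hξ1, hξ2⟩ := exists_of_isPullback sq x (AlgSp.Points.ofScheme T u) (by
      rw [← ofScheme_toBase c x, ← hux, ← AlgSp.Points.ofPt_eq_map_ofScheme, ofPt_yon_map])
    refine ⟨ξ, ?_, hξ1⟩
    show toBase snd ξ ∈ U
    have h1 : toBase snd ξ = u := by
      apply ofScheme_injective T
      rw [ofScheme_toBase, hξ2]
    rw [h1]
    exact hu
  · rintro ⟨ξ, hξ, rfl⟩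
    exact ⟨toBase snd ξ, hξ, (toBase_map_of_comm sq.w ξ).symm⟩

/-- The generic compactness hypothesis for a morphism from a sheaf to a scheme. -/
def GenComp {X : AlgSp.Sp S} {V : Over S} (c : X ⟶ (AlgSp.yon S).obj V) : Prop :=
  ∀ (A : Type u) [CommRing A] [IsDomain A] (sA : Spec (CommRingCat.of A) ⟶ S)
    (t : Over.mk sA ⟶ V) (P : AlgSp.Sp S) (fst : P ⟶ X)
    (snd : P ⟶ (AlgSp.yon S).obj (Over.mk sA)), IsPullback fst snd c ((AlgSp.yon S).map t) →
    Dense (Set.range (toBase snd) : Set ↥(Spec (CommRingCat.of A))) →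
    ∃ U : (Spec (CommRingCat.of A)).Opens, (U : Set ↥(Spec (CommRingCat.of A))).Nonempty ∧
      IsCompact (toBase snd ⁻¹' (U : Set ↥(Spec (CommRingCat.of A))))

theorem genComp_of_isPullback {X X' : AlgSp.Sp S} {V V' : Over S}
    {c : X ⟶ (AlgSp.yon S).obj V} {g : V' ⟶ V} {fst : X' ⟶ X}
    {c' : X' ⟶ (AlgSp.yon S).obj V'} (sq : IsPullback fst c' c ((AlgSp.yon S).map g))
    (hc : GenComp c) : GenComp c' := by
  intro A _ _ sA t P fst' snd' sq' hD
  have big : IsPullback (fst' ≫ fst) snd' c ((AlgSp.yon S).map (t ≫ g)) := by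
    rw [Functor.map_comp]
    exact sq'.paste_horiz sq
  exact hc A sA (t ≫ g) P (fst' ≫ fst) snd' big hD

set_option maxHeartbeats 1600000 in
theorem compactSpace_of_genComp (R : CommRingCat.{u}) [IsNoetherianRing R] (sR : Spec R ⟶ S)
    {X : AlgSp.Sp S} (c : X ⟶ (AlgSp.yon S).obj (Over.mk sR))
    (hc : GenComp c) : CompactSpace (AlgSp.Points X) := by
  classical
  have hρc : Continuous (toBase c) := continuous_toBase c
  haveI : TopologicalSpace.NoetherianSpace ↥(Spec R) := inferInstance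
  have key : ∀ Z : TopologicalSpace.Closeds ↥(Spec R),
      IsCompact (toBase c ⁻¹' (Z : Set ↥(Spec R))) := by
    intro Z
    induction Z using WellFoundedLT.induction with
    | ind Z IH =>
    by_cases hirr : IsIrreducible (Z : Set ↥(Spec R))
    swap
    · by_cases hne : (Z : Set ↥(Spec R)).Nonempty
      · have hpre : ¬ IsPreirreducible (Z : Set ↥(Spec R)) := fun h => hirr ⟨hne, h⟩
        simp only [isPreirreducible_iff_isClosed_union_isClosed, not_forall, not_or] at hpre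
        obtain ⟨z₁, z₂, hz₁, hz₂, h, hz₁', hz₂'⟩ := hpre
        lift z₁ to TopologicalSpace.Closeds ↥(Spec R) using hz₁
        lift z₂ to TopologicalSpace.Closeds ↥(Spec R) using hz₂
        have h1 := IH (Z ⊓ z₁) (inf_lt_left.2 hz₁')
        have h2 := IH (Z ⊓ z₂) (inf_lt_left.2 hz₂')
        have hun : toBase c ⁻¹' (Z : Set ↥(Spec R)) =
            toBase c ⁻¹' ((Z ⊓ z₁ : TopologicalSpace.Closeds ↥(Spec R)) : Set ↥(Spec R)) ∪
              toBase c ⁻¹' ((Z ⊓ z₂ : TopologicalSpace.Closeds ↥(Spec R)) : Set ↥(Spec R)) := by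
          ext x
          constructor
          · intro hx
            rcases h hx with h' | h'
            · exact Or.inl (Set.mem_inter hx h')
            · exact Or.inr (Set.mem_inter hx h')
          · rintro (hx | hx)
            · exact hx.1
            · exact hx.1
        rw [hun]
        exact h1.union h2
      · rw [Set.not_nonempty_iff_eq_empty] at hne
        rw [hne, Set.preimage_empty]
        exact isCompact_empty
    · obtain ⟨D, hD⟩ : ∃ D : Set ↥(Spec R), D = (Z : Set ↥(Spec R)) ∩ Set.range (toBase c) :=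
        ⟨_, rfl⟩
      have hDZ : D ⊆ (Z : Set ↥(Spec R)) := by rw [hD]; exact Set.inter_subset_left
      by_cases hcl : closure D = (Z : Set ↥(Spec R))
      swap
      · have hsub : closure D ⊆ (Z : Set ↥(Spec R)) := closure_minimal hDZ Z.isClosed
        obtain ⟨Z', hZ'⟩ : ∃ Z' : TopologicalSpace.Closeds ↥(Spec R),
            (Z' : Set ↥(Spec R)) = closure D := ⟨⟨_, isClosed_closure⟩, rfl⟩
        have hlt : Z' < Z := by
          refine lt_of_le_of_ne (SetLike.coe_subset_coe.1 (by rw [hZ']; exact hsub)) (fun h => ?_)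
          apply hcl
          rw [← hZ', h]
        have hpre : toBase c ⁻¹' (Z : Set ↥(Spec R)) = toBase c ⁻¹' (Z' : Set ↥(Spec R)) := by
          ext x
          constructor
          · intro hx
            show toBase c x ∈ (Z' : Set ↥(Spec R))
            rw [hZ']
            apply subset_closure
            rw [hD]
            exact ⟨hx, x, rfl⟩
          · intro hx
            have hx' : toBase c x ∈ (Z' : Set ↥(Spec R)) := hx
            rw [hZ'] at hx'
            exact hsub hx'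
        rw [hpre]
        exact IH Z' hlt
      · obtain ⟨𝔭, h𝔭⟩ : ∃ 𝔭 : Ideal R, 𝔭 = PrimeSpectrum.vanishingIdeal
            (show Set (PrimeSpectrum R) from (Z : Set ↥(Spec R))) := ⟨_, rfl⟩
        haveI h𝔭prime : 𝔭.IsPrime := by
          rw [h𝔭]
          exact PrimeSpectrum.isIrreducible_iff_vanishingIdeal_isPrime.1 hirr
        have hzl : PrimeSpectrum.zeroLocus (𝔭 : Set R) = (Z : Set ↥(Spec R)) := by
          rw [h𝔭, PrimeSpectrum.zeroLocus_vanishingIdeal_eq_closure]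
          exact Z.isClosed.closure_eq
        have hφ : Function.Surjective (Ideal.Quotient.mk 𝔭) := Ideal.Quotient.mk_surjective
        obtain ⟨t₀, ht₀⟩ : ∃ t₀ : Spec (CommRingCat.of (R ⧸ 𝔭)) ⟶ Spec R,
            t₀ = Spec.map (CommRingCat.ofHom (Ideal.Quotient.mk 𝔭)) := ⟨_, rfl⟩
        haveI : IsClosedImmersion t₀ := by
          rw [ht₀]
          exact IsClosedImmersion.spec_of_surjective _ hφ
        have hrange : Set.range t₀ = (Z : Set ↥(Spec R)) := by
          have h1 := _root_.range_comap_of_surjective _ (Ideal.Quotient.mk 𝔭) hφ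
          rw [Ideal.mk_ker, hzl] at h1
          rw [ht₀]
          exact h1
        have hemb : Topology.IsEmbedding t₀ := t₀.isEmbedding
        have hD' : Dense (t₀ ⁻¹' D) := by
          intro p
          rw [hemb.isInducing.closure_eq_preimage_closure_image]
          have h2 : t₀ '' (t₀ ⁻¹' D) = D := by
            rw [Set.image_preimage_eq_inter_range, hrange]
            exact Set.inter_eq_left.2 hDZ
          rw [h2, hcl]
          show t₀ p ∈ (Z : Set ↥(Spec R))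
          rw [← hrange]
          exact ⟨p, rfl⟩
        obtain ⟨tO, htO⟩ : ∃ tO : Over.mk (t₀ ≫ sR) ⟶ Over.mk sR, tO = Over.homMk t₀ rfl :=
          ⟨_, rfl⟩
        have htOl : tO.left = t₀ := by subst htO; rfl
        have sq := IsPullback.of_hasPullback c ((AlgSp.yon S).map tO)
        have hdense : Dense (Set.range (toBase (pullback.snd c ((AlgSp.yon S).map tO))) :
            Set ↥(Spec (CommRingCat.of (R ⧸ 𝔭)))) := by
          refine hD'.mono ?_
          intro p hp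
          have hp' : t₀ p ∈ D := hp
          rw [hD] at hp'
          obtain ⟨x, hx⟩ := hp'.2
          have hx' : x ∈ toBase c ⁻¹' (tO.left '' ({p} : Set ↥(Over.mk (t₀ ≫ sR)).left)) :=
            ⟨p, rfl, by rw [htOl]; exact hx.symm⟩
          obtain ⟨ξ, hξ, -⟩ := (preimage_image_eq_of_isPullback sq
            ({p} : Set ↥(Over.mk (t₀ ≫ sR)).left)).subset hx'
          exact ⟨ξ, hξ⟩
        obtain ⟨U, hU, hUc⟩ := hc (R ⧸ 𝔭) (t₀ ≫ sR) tO _ _ _ sq hdense
        obtain ⟨O, hO, hOU⟩ := hemb.isInducing.isOpen_iff.1 U.isOpen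
        obtain ⟨Z', hZ'⟩ : ∃ Z' : TopologicalSpace.Closeds ↥(Spec R),
            (Z' : Set ↥(Spec R)) = (Z : Set ↥(Spec R)) ∩ Oᶜ :=
          ⟨⟨_, Z.isClosed.inter hO.isClosed_compl⟩, rfl⟩
        have hlt : Z' < Z := by
          refine lt_of_le_of_ne
            (SetLike.coe_subset_coe.1 (by rw [hZ']; exact Set.inter_subset_left)) (fun h => ?_)
          obtain ⟨u, hu⟩ := hU
          have h1 : t₀ u ∈ (Z : Set ↥(Spec R)) := by rw [← hrange]; exact ⟨u, rfl⟩
          have h2 : t₀ u ∈ O := by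
            have h2' : u ∈ t₀ ⁻¹' O := by rw [hOU]; exact hu
            exact h2'
          have h3 : t₀ u ∈ (Z' : Set ↥(Spec R)) := by rw [h]; exact h1
          rw [hZ'] at h3
          exact h3.2 h2
        have hK : IsCompact (toBase c ⁻¹'
            (t₀ '' (U : Set ↥(Spec (CommRingCat.of (R ⧸ 𝔭)))))) := by
          have h1 := preimage_image_eq_of_isPullback sq
            (U : Set ↥(Spec (CommRingCat.of (R ⧸ 𝔭))))
          rw [htOl] at h1
          exact (congrArg IsCompact h1).mpr (hUc.image (AlgSp.Points.continuous_map _))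
        have hsub : toBase c ⁻¹' (Z : Set ↥(Spec R)) ⊆
            toBase c ⁻¹' (Z' : Set ↥(Spec R)) ∪
              toBase c ⁻¹' (t₀ '' (U : Set ↥(Spec (CommRingCat.of (R ⧸ 𝔭))))) := by
          intro x hx
          by_cases hxO : toBase c x ∈ O
          · right
            have hx' : toBase c x ∈ Set.range t₀ := by rw [hrange]; exact hx
            obtain ⟨a, ha⟩ := hx'
            have haU : a ∈ U := by
              have h4 : a ∈ t₀ ⁻¹' O := by
                show t₀ a ∈ O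
                rw [ha]
                exact hxO
              rw [hOU] at h4
              exact h4
            exact ⟨a, haU, ha⟩
          · left
            show toBase c x ∈ (Z' : Set ↥(Spec R))
            rw [hZ']
            exact ⟨hx, hxO⟩
        exact ((IH Z' hlt).union hK).of_isClosed_subset (Z.isClosed.preimage hρc) hsub
  have h := key ⊤
  rw [TopologicalSpace.Closeds.coe_top, Set.preimage_univ] at h
  exact isCompact_univ_iff.1 h

theorem isQuasiCompactMor_of_genComp {X : AlgSp.Sp S} (hX : AlgSp.IsAlgSpace X) {V : Over S}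
    [IsLocallyNoetherian V.left] (c : X ⟶ (AlgSp.yon S).obj V) (hc : GenComp c) :
    AlgSp.IsQuasiCompactMor c := by
  have hW : ∀ v : ↥V.left, ∃ W : V.left.Opens, IsAffineOpen W ∧ v ∈ W := fun v => by
    obtain ⟨_, ⟨W, hW, rfl⟩, hv, -⟩ :=
      V.left.isBasis_affineOpens.exists_subset_of_mem_open (Set.mem_univ v) isOpen_univ
    exact ⟨W, hW, hv⟩
  choose W hWa hWv using hW
  have hYV := AlgSp.IsAlgSpace.yon_obj V
  have hcov : AlgSp.IsFppfCover
      (fun v : ↥V.left => (AlgSp.yon S).obj (Over.mk ((hWa v).fromSpec ≫ V.hom)))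
      (fun v => (AlgSp.yon S).map
        (Over.homMk (hWa v).fromSpec rfl : Over.mk ((hWa v).fromSpec ≫ V.hom) ⟶ V)) := by
    refine ⟨fun v => ⟨?_, ?_⟩, fun x => ?_⟩
    · exact locP_yon_map_of @Flat (fun _ _ g (hg : Etale g) => (inferInstance : Flat g)) _
        (inferInstance : Flat (hWa v).fromSpec)
    · exact locP_yon_map_of @LocallyOfFinitePresentation
        (fun _ _ g (hg : Etale g) => (inferInstance : LocallyOfFinitePresentation g)) _
        (inferInstance : LocallyOfFinitePresentation (hWa v).fromSpec)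
    · obtain ⟨x₀, rfl⟩ := ofScheme_surjective V x
      have hx₀ : x₀ ∈ Set.range (hWa x₀).fromSpec := by
        rw [(hWa x₀).range_fromSpec]
        exact hWv x₀
      obtain ⟨w, hw⟩ := hx₀
      refine ⟨x₀, AlgSp.Points.ofScheme (Over.mk ((hWa x₀).fromSpec ≫ V.hom)) w, ?_⟩
      rw [← AlgSp.Points.ofPt_eq_map_ofScheme, ofPt_yon_map]
      exact congrArg _ hw
  have hfpqc := isFpqcCover_of_isFppfCover hYV _ _ (fun v => AlgSp.IsAlgSpace.yon_obj _) hcov
  refine (isLocalOnBase_fpqc_isQuasiCompactMor _ _ hYV (fun v => AlgSp.IsAlgSpace.yon_obj _) hfpqc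
    c hX (fun v => pullback c ((AlgSp.yon S).map
      (Over.homMk (hWa v).fromSpec rfl : Over.mk ((hWa v).fromSpec ≫ V.hom) ⟶ V)))
    (fun v => pullback.snd c _) (fun v => pullback.fst c _)
    (fun v => isAlgSpace_of_isPullback hYV.diag hX (AlgSp.IsAlgSpace.yon_obj _)
      (IsPullback.of_hasPullback _ _))
    (fun v => IsPullback.of_hasPullback _ _)).2 fun v => ?_
  haveI : IsNoetherianRing Γ(V.left, W v) :=
    IsLocallyNoetherian.component_noetherian ⟨W v, hWa v⟩
  have sq := IsPullback.of_hasPullback c ((AlgSp.yon S).map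
    (Over.homMk (hWa v).fromSpec rfl : Over.mk ((hWa v).fromSpec ≫ V.hom) ⟶ V))
  have hP := isAlgSpace_of_isPullback hYV.diag hX (AlgSp.IsAlgSpace.yon_obj _) sq
  have hGC : GenComp (pullback.snd c ((AlgSp.yon S).map
      (Over.homMk (hWa v).fromSpec rfl : Over.mk ((hWa v).fromSpec ≫ V.hom) ⟶ V))) :=
    genComp_of_isPullback sq hc
  haveI := compactSpace_of_genComp Γ(V.left, W v) ((hWa v).fromSpec ≫ V.hom) _ hGC
  haveI : IsAffine (Over.mk ((hWa v).fromSpec ≫ V.hom)).left :=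
    (inferInstance : IsAffine (Spec Γ(V.left, W v)))
  exact isQuasiCompactMor_of_isQuasiCompactSp_affine hP _ (isQuasiCompactSp_of_compactSpace hP)

end sp

section stk

variable {𝒳 𝒴 : AlgSt.Cat S}

/-- Base change of a representing space: the property of the projection of the pullback. -/
theorem prop_fst_of_repWith_bc (P : MorphismProperty (AlgSp.Sp S)) (hI : IsoInv P)
    (hL : SchemeTestable P) (f : 𝒳 ⥤ᵇ 𝒴) {Z X W : AlgSp.Space S}
    (z₀ : AlgSt.ofSp Z.obj ⥤ᵇ 𝒴) (c : X ⟶ Z)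
    (eX : AlgSt.ofSp X.obj ⥤ᵇ FibCat.fp z₀ f) (heX : IsEquivOver eX)
    (iX : BasedFunctor.comp eX (FibCat.fpFst z₀ f) ≅ AlgSt.ofSpMap c.hom) (b : W ⟶ Z)
    (A3 : AlgSt.RepByAlgSpWith P (fpFst (BasedFunctor.comp (AlgSt.ofSpMap b.hom) z₀) f)) :
    P (pullback.fst b.hom c.hom) := by
  let bb : AlgSt.ofSp W.obj ⥤ᵇ AlgSt.ofSp Z.obj := AlgSt.ofSpMap b.hom
  let cc : AlgSt.ofSp X.obj ⥤ᵇ AlgSt.ofSp Z.obj := AlgSt.ofSpMap c.hom
  have A4 : AlgSt.RepByAlgSpWith P (fpFst bb (fpFst z₀ f)) :=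
    repWith_cancel_equiv P (paste bb z₀ f) (paste_isEquivOver bb z₀ f) (fpFst bb (fpFst z₀ f)) A3
  have A5 : AlgSt.RepByAlgSpWith P (fpFst bb (BasedFunctor.comp eX (fpFst z₀ f))) :=
    repWith_precomp_equiv P (precomp bb (fpFst z₀ f) eX)
      (precomp_isEquivOver bb (fpFst z₀ f) eX heX) (fpFst bb (fpFst z₀ f)) A4
  have A6 : AlgSt.RepByAlgSpWith P (fpFst bb cc) :=
    repWith_precomp_equiv P (isoFun bb iX.symm) (isoFun_isEquivOver bb iX.symm)
      (fpFst bb (BasedFunctor.comp eX (fpFst z₀ f))) A5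
  have sqS := IsPullback.of_hasPullback b.hom c.hom
  have hX' : AlgSp.IsAlgSpace (pullback b.hom c.hom) :=
    isAlgSpace_of_isPullback Z.property.diag W.property X.property sqS
  have sqP : IsPullback (pullback.fst b.hom c.hom).hom (pullback.snd b.hom c.hom).hom
      b.hom.hom c.hom.hom := sqS.map (sheafToPresheaf (AlgSp.J S) (Type (u + 1)))
  have A7 : AlgSt.RepByAlgSpWith P (Stk.ofPshMap (pullback.fst b.hom c.hom).hom) :=
    repWith_precomp_equiv P (pbFun sqP) (pbFun_isEquivOver sqP) (fpFst bb cc) A6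
  have r4 : AlgSp.RepBySpWith P (pullback.fst b.hom c.hom).hom :=
    repBySpWith_of_repByAlgSpWith P hI _ A7
  exact hL _ hX' W.property r4

/-- A functor to a scheme with a representing space whose structure map has `P` has `P`. -/
theorem repWith_of_space {𝒲 : AlgSt.Cat S} {U : Over S} (P : MorphismProperty (AlgSp.Sp S))
    (hPb : ∀ ⦃X₁ Y₁ X₂ Y₂ : AlgSp.Sp S⦄, AlgSp.IsAlgSpace X₁ → AlgSp.IsAlgSpace Y₁ →
      AlgSp.IsAlgSpace X₂ → AlgSp.IsAlgSpace Y₂ →
      ∀ (a : X₁ ⟶ Y₁) (b : Y₂ ⟶ Y₁) (a' : X₂ ⟶ Y₂) (b' : X₂ ⟶ X₁),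
      IsPullback b' a' a b → P a → P a')
    (π : 𝒲 ⥤ᵇ FibCat.overCat U) (F : AlgSp.Space S) (e : AlgSt.ofSp F.obj ⥤ᵇ 𝒲)
    (he : IsEquivOver e) (hP : P (AlgSt.spMapOfOver (BasedFunctor.comp e π))) :
    AlgSt.RepByAlgSpWith P π := by
  have r1 : AlgSp.RepBySpWith P (AlgSt.spMapOfOver (BasedFunctor.comp e π)).hom :=
    repBySpWith_of_bc P hPb F.property (AlgSp.IsAlgSpace.yon_obj U) _ hP
  have r2 : AlgSt.RepByAlgSpWith P
      (AlgSt.ofSpMap (AlgSt.spMapOfOver (BasedFunctor.comp e π))) :=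
    repByAlgSpWith_of_repBySpWith P _ r1
  have i1 : BasedFunctor.comp (BasedFunctor.comp e π) (AlgSt.ofOverCat U) ≅
      Stk.ofPshMap (mapOf (BasedFunctor.comp (BasedFunctor.comp e π) (AlgSt.ofOverCat U))) :=
    isoOf _
  have e2 : Stk.ofPshMap (mapOf (BasedFunctor.comp (BasedFunctor.comp e π)
      (AlgSt.ofOverCat U))) = AlgSt.ofSpMap (AlgSt.spMapOfOver (BasedFunctor.comp e π)) :=
    congrArg Stk.ofPshMap (spMapOfOver_hom (BasedFunctor.comp e π)).symm
  have r3 : AlgSt.RepByAlgSpWith P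
      (BasedFunctor.comp (BasedFunctor.comp e π) (AlgSt.ofOverCat U)) :=
    repWith_of_iso P (i1 ≪≫ eqToIso e2).symm r2
  have r4 : AlgSt.RepByAlgSpWith P (BasedFunctor.comp e π) :=
    repWith_cancel_postcomp_equiv P _ (AlgSt.ofOverCat U) (ofOverCat_isEquivOver U) r3
  exact repWith_cancel_equiv P e he π r4

theorem repWith_fpFst_toOverCat (P : MorphismProperty (AlgSp.Sp S)) {T : Over S}
    (z : FibCat.overCat T ⥤ᵇ 𝒴) (f : 𝒳 ⥤ᵇ 𝒴) (h : AlgSt.RepByAlgSpWith P (fpFst z f)) :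
    AlgSt.RepByAlgSpWith P (fpFst (BasedFunctor.comp (AlgSt.toOverCat T) z) f) := by
  have h1 : AlgSt.RepByAlgSpWith P (BasedFunctor.comp
      (fpFst (BasedFunctor.comp (AlgSt.toOverCat T) z) f) (AlgSt.toOverCat T)) :=
    repWith_precomp_equiv P (precomp₁ (AlgSt.toOverCat T) z f)
      (precomp₁_isEquivOver _ (toOverCat_isEquivOver T) z f) (fpFst z f) h
  exact repWith_cancel_postcomp_equiv P _ (AlgSt.toOverCat T) (toOverCat_isEquivOver T) h1

/-- If the two components of `z : T ⟶ 𝒳 × 𝒳` are isomorphic and the automorphism space of the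
first component has `P` over `T`, then so does the isomorphism space of `z`. -/
theorem repWith_fpFst_diag_of_iso (P : MorphismProperty (AlgSp.Sp S))
    (hPb : ∀ ⦃X₁ Y₁ X₂ Y₂ : AlgSp.Sp S⦄, AlgSp.IsAlgSpace X₁ → AlgSp.IsAlgSpace Y₁ →
      AlgSp.IsAlgSpace X₂ → AlgSp.IsAlgSpace Y₂ →
      ∀ (a : X₁ ⟶ Y₁) (b : Y₂ ⟶ Y₁) (a' : X₂ ⟶ Y₂) (b' : X₂ ⟶ X₁),
      IsPullback b' a' a b → P a → P a') {T : Over S}
    (z : FibCat.overCat T ⥤ᵇ fp (toSelf 𝒳) (toSelf 𝒳))
    (θ : BasedFunctor.comp z (fpFst (toSelf 𝒳) (toSelf 𝒳)) ≅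
      BasedFunctor.comp z (fpSnd (toSelf 𝒳) (toSelf 𝒳)))
    (hF : ∃ (F : AlgSp.Space S) (e : AlgSt.ofSp F.obj ⥤ᵇ FibCat.fp
        (FibCat.fpLift (BasedFunctor.comp z (fpFst (toSelf 𝒳) (toSelf 𝒳)))
          (BasedFunctor.comp z (fpFst (toSelf 𝒳) (toSelf 𝒳))) (Iso.refl _))
        (FibCat.diag (FibCat.toSelf 𝒳))),
      FibCat.IsEquivOver e ∧
        P (AlgSt.spMapOfOver (BasedFunctor.comp e (FibCat.fpFst _ _)))) :
    AlgSt.RepByAlgSpWith P (fpFst z (FibCat.diag (toSelf 𝒳))) := by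
  obtain ⟨F, eF, heF, hqF⟩ := hF
  have C1 := repWith_of_space P hPb _ F eF heF hqF
  have ζ : z ≅ FibCat.fpLift (BasedFunctor.comp z (fpFst (toSelf 𝒳) (toSelf 𝒳)))
      (BasedFunctor.comp z (fpFst (toSelf 𝒳) (toSelf 𝒳))) (Iso.refl _) :=
    prodIsoMk2 (H := z)
      (K := FibCat.fpLift (BasedFunctor.comp z (fpFst (toSelf 𝒳) (toSelf 𝒳)))
        (BasedFunctor.comp z (fpFst (toSelf 𝒳) (toSelf 𝒳))) (Iso.refl _))
      (Iso.refl _) θ.symm
  have C3 : AlgSt.RepByAlgSpWith P (BasedFunctor.comp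
      (isoFun₁ ζ (FibCat.diag (toSelf 𝒳))) (fpFst _ (FibCat.diag (toSelf 𝒳)))) :=
    repWith_precomp_equiv P _ (isoFun₁_isEquivOver ζ _) _ C1
  exact C3

end stk

end Groth.Agent.Lib.AlgStLocQ
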