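import Groth.Agent.Lib.AlgStDiag2_lead
import Groth.Agent.Lib.AlgSpTop_helper7
import Groth.Agent.Lib.AlgSpUniv_helper7

/-! # The relative inertia as the self-intersection of the diagonal (lead) -/

set_option autoImplicit false

universe w v₁ v₂ v₃ v₄ v₅ v₆ u₁ u₂ u₃ u₄ u₅ u₆ u

open CategoryTheory CategoryTheory.Limits AlgebraicGeometry Opposite FibCat Stk

namespace Groth.Agent.Lib.AlgStLocQ

open AlgSt Groth.Agent.Lib.FibCat_helper6 Groth.Agent.Lib.FibCat3_helper6
  Groth.Agent.Lib.FibCat14_helper6 Groth.Agent.Lib.FibCat12_helper6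
  Groth.Agent.Lib.FibCatPaste Groth.Agent.Lib.FibCatSwap
  Groth.Agent.Lib.FibCatIsoFun
  Groth.Agent.Lib.OfPshCalc Groth.Agent.Lib.AlgStBC
  Groth.Agent.Lib.AlgStEquiv Groth.Agent.Lib.AlgStEquivP Groth.Agent.Lib.AlgStEquivInv
  Groth.Agent.Lib.OfPshAlgSt Groth.Agent.Lib.LiftSqBC Groth.Agent.Lib.LiftSqComp
  Groth.Agent.Lib.OfPshWith Groth.Agent.Lib.FibCatDiagSec Groth.Agent.Lib.AlgStDiagRep
  Groth.Agent.Lib.FibCatDiagBC Groth.Agent.Lib.FibCatMagic Groth.Agent.Lib.FibCatProd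
  Groth.Agent.Lib.AlgStDiag Groth.Agent.Lib.AlgStLocal
  Groth.Agent.Lib.AlgSpQC_helper7 Groth.Agent.Lib.AlgSpDiag_helper7
  Groth.Agent.Lib.AlgSpPullback_helper7 Groth.Agent.Lib.AlgSpRepBySp_helper7
  Groth.Agent.Lib.AlgSpPoints_helper7 Groth.Agent.Lib.AlgSpLocP_helper7
  Groth.Agent.Lib.AlgSpBasic_helper7 Groth.Agent.Lib.AlgSpSep_helper7
  Groth.Agent.Lib.AlgSpLocP4_helper7 Groth.Agent.Lib.AlgSpLocP5_helper7
  Groth.Agent.Lib.AlgSpLocP7_helper7 Groth.Agent.Lib.AlgSpQC2_helper7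
  Groth.Agent.Lib.AlgSpLocP8_helper7 Groth.Agent.Lib.AlgSpLocP10_helper7
  Groth.Agent.Lib.AlgSpFpqc3_helper7 Groth.Agent.Lib.AlgSpLocP6_helper7
  Groth.Agent.Lib.AlgSpFpqc2_helper7 Groth.Agent.Lib.AlgSpFpqc_helper7
  Groth.Agent.Lib.AlgSpProper_helper7 Groth.Agent.Lib.AlgSpAffineMorH7
  Groth.Agent.Lib.AlgStAtlas Groth.Agent.Lib.AlgStPoints Groth.Agent.Lib.AlgStPtsCmp
  Groth.Agent.Lib.FibCatYoneda_helper6



variable {S : Scheme.{u}}

section inertia

variable {𝒳 𝒴 : AlgSt.Cat S} (f : 𝒳 ⥤ᵇ 𝒴)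

/-- The automorphism of an object of the inertia lies over the identity. -/
theorem aut_isHomLift (X : (FibCat.inertia f).obj) :
    𝒳.p.IsHomLift (𝟙 (𝒳.p.obj X.pt)) X.aut.hom := by
  have h : 𝒴.p.IsHomLift (𝟙 (𝒳.p.obj X.pt)) (f.map X.aut.hom) := by
    rw [X.map_aut]; infer_instance
  exact (BasedFunctor.isHomLift_iff f (𝟙 (𝒳.p.obj X.pt)) X.aut.hom).1 h

/-- The automorphism `(α, 𝟙)` of `Δ(x)`. -/
def autIso (X : (FibCat.inertia f).obj) :
    (FibCat.diag f).obj X.pt ≅ (FibCat.diag f).obj X.pt :=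
  fpIsoMk (F := f) (G := f) (X := (FibCat.diag f).obj X.pt) (Y := (FibCat.diag f).obj X.pt)
    X.aut (Iso.refl X.pt)
    ((Category.comp_id _).trans (X.map_aut.trans
      ((Category.id_comp _).trans (f.toFunctor.map_id _)).symm))

/-- The tautological automorphism of the diagonal restricted to the inertia. -/
def inertiaE : BasedFunctor.comp (FibCat.inertiaToBase f) (FibCat.diag f) ≅
    BasedFunctor.comp (FibCat.inertiaToBase f) (FibCat.diag f) :=
  BasedNatIso.mkNatIso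
    (NatIso.ofComponents (fun X => autIso f X) (fun {X Y} m => by
      apply fp_hom_ext
      · exact m.comm.symm
      · exact (Category.comp_id _).trans (Category.id_comp _).symm))
    (fun X => fpIsoMk_isHomLift _ _ _ (aut_isHomLift f X))

/-- The comparison functor from the inertia to the self-intersection of the diagonal. -/
def inertiaCmp : FibCat.inertia f ⥤ᵇ fp (FibCat.diag f) (FibCat.diag f) :=
  fpLift (FibCat.inertiaToBase f) (FibCat.inertiaToBase f) (inertiaE f)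

theorem inertiaCmp_comp_fpFst :
    BasedFunctor.comp (inertiaCmp f) (fpFst (FibCat.diag f) (FibCat.diag f)) =
      FibCat.inertiaToBase f := rfl

instance inertiaCmp_faithful : (inertiaCmp f).toFunctor.Faithful where
  map_injective := by
    intro X Y m m' h
    exact FibCat.InertiaObj.hom_ext (congrArg (fun n => n.hom.fst) h)

instance inertiaCmp_full : (inertiaCmp f).toFunctor.Full where
  map_surjective := by
    intro X Y n
    have hw := n.hom.w
    have h1 : n.hom.fst ≫ Y.aut.hom = X.aut.hom ≫ n.hom.snd :=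
      congrArg (fun k => k.hom.fst) hw
    have h2 : n.hom.fst ≫ 𝟙 _ = 𝟙 _ ≫ n.hom.snd := congrArg (fun k => k.hom.snd) hw
    have h3 : n.hom.fst = n.hom.snd :=
      (Category.comp_id _).symm.trans (h2.trans (Category.id_comp _))
    refine ⟨⟨n.hom.fst, (congrArg (fun t => X.aut.hom ≫ t) h3).trans h1.symm⟩, ?_⟩
    apply fp_hom_ext
    · rfl
    · exact h3

theorem inertiaCmp_essSurj (w : (fp (FibCat.diag f) (FibCat.diag f)).obj) :
    ∃ (X : (FibCat.inertia f).obj) (φ : (inertiaCmp f).obj X ≅ w),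
      (fp (FibCat.diag f) (FibCat.diag f)).p.IsHomLift
        (𝟙 ((fp (FibCat.diag f) (FibCat.diag f)).p.obj w)) φ.hom := by
  let φ₁ : w.obj.fst ≅ w.obj.snd := (fpFst f f).toFunctor.mapIso w.obj.iso
  let φ₂ : w.obj.fst ≅ w.obj.snd := (fpSnd f f).toFunctor.mapIso w.obj.iso
  have hw' : f.toFunctor.map φ₁.hom ≫ 𝟙 _ = 𝟙 _ ≫ f.toFunctor.map φ₂.hom := w.obj.iso.hom.hom.w
  have hfe : f.toFunctor.map φ₁.hom = f.toFunctor.map φ₂.hom :=
    (Category.comp_id _).symm.trans (hw'.trans (Category.id_comp _))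
  let X₀ : (FibCat.inertia f).obj :=
    { pt := w.obj.fst
      aut := φ₁ ≪≫ φ₂.symm
      map_aut := by
        show f.toFunctor.map (φ₁.hom ≫ φ₂.inv) = 𝟙 _
        rw [f.toFunctor.map_comp, hfe, ← f.toFunctor.map_comp, φ₂.hom_inv_id,
          f.toFunctor.map_id] }
  have hlift : 𝒳.p.IsHomLift (𝟙 (𝒳.p.obj w.obj.fst)) (Iso.refl w.obj.fst).hom :=
    IsHomLift.id rfl
  refine ⟨X₀, fpIsoMk (F := FibCat.diag f) (G := FibCat.diag f)
    (X := (inertiaCmp f).obj X₀) (Y := w) (Iso.refl w.obj.fst) φ₂ ?_, ?_⟩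
  · apply fp_hom_ext
    · show 𝟙 w.obj.fst ≫ φ₁.hom = (φ₁.hom ≫ φ₂.inv) ≫ φ₂.hom
      rw [Category.id_comp, Category.assoc, φ₂.inv_hom_id, Category.comp_id]
    · rfl
  · exact fpIsoMk_isHomLift _ _ _ hlift

theorem inertiaCmp_isEquivOver : IsEquivOver (inertiaCmp f) :=
  isEquivOver_of_fullyFaithful (inertiaCmp f) (inertiaCmp_essSurj f)

/-- The neutral section corresponds to the second diagonal. -/
def neutralIso : BasedFunctor.comp (FibCat.inertiaNeutral f) (inertiaCmp f) ≅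
    FibCat.diag (FibCat.diag f) :=
  isoMk2 (FibCat.diag f) (FibCat.diag f)
    (H := BasedFunctor.comp (FibCat.inertiaNeutral f) (inertiaCmp f))
    (K := FibCat.diag (FibCat.diag f)) (Iso.refl _) (Iso.refl _) (fun x => by
      apply fp_hom_ext <;> rfl)

/-- Base change of the diagonal to the inertia. -/
theorem repWith_inertiaToBase (P : MorphismProperty (AlgSp.Sp S))
    (h : AlgSt.RepByAlgSpWith P (FibCat.diag f)) :
    AlgSt.RepByAlgSpWith P (FibCat.inertiaToBase f) :=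
  repWith_precomp_equiv P (inertiaCmp f) (inertiaCmp_isEquivOver f)
    (fpFst (FibCat.diag f) (FibCat.diag f)) (repWith_baseChange P _ _ h)

/-- From the neutral section to the second diagonal. -/
theorem repWith_diag_diag_of_neutral (P : MorphismProperty (AlgSp.Sp S))
    (h : AlgSt.RepByAlgSpWith P (FibCat.inertiaNeutral f)) :
    AlgSt.RepByAlgSpWith P (FibCat.diag (FibCat.diag f)) :=
  repWith_of_iso P (neutralIso f)
    (repWith_postcomp_equiv P _ (inertiaCmp f) (inertiaCmp_isEquivOver f) h)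

/-- The neutral section inherits the properties of the diagonal of the structure functor. -/
theorem repWith_neutral_of_diag (P : MorphismProperty (AlgSp.Sp S))
    (h : AlgSt.RepByAlgSpWith P (FibCat.diag (FibCat.inertiaToBase f))) :
    AlgSt.RepByAlgSpWith P (FibCat.inertiaNeutral f) :=
  repWith_section P (FibCat.inertiaToBase f) (FibCat.inertiaNeutral f) (Iso.refl _) h

/-- S12972. -/
theorem tfae_inertia_separated (h𝒳 : AlgSt.IsAlgStack Scheme.fppfPrecoverage 𝒳)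
    (h𝒴 : AlgSt.IsAlgStack Scheme.fppfPrecoverage 𝒴) :
    [AlgSt.RepByAlgSpWith AlgSp.IsSeparatedMor (FibCat.inertiaToBase f),
      AlgSt.RepByAlgSpWith AlgSp.IsSeparatedMor (FibCat.diag f),
      AlgSt.IsClosedImm (FibCat.inertiaNeutral f)].TFAE := by
  have hrep : AlgSt.RepByAlgSp1 (FibCat.diag f) := repByAlgSp1_diag_of_isAlgStack h𝒳 h𝒴 f
  tfae_have 2 → 1 := repWith_inertiaToBase f _
  tfae_have 1 → 3 := fun h1 =>
    repWith_neutral_of_diag f _ (isClosedImm_diag_of_separated _ h1)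
  tfae_have 3 → 2 := fun h3 =>
    ((tfae_separated (FibCat.diag f) hrep).out 0 1).2 (repWith_diag_diag_of_neutral f _ h3)
  tfae_finish

/-- S12973. -/
theorem tfae_inertia_quasiSeparated (h𝒳 : AlgSt.IsAlgStack Scheme.fppfPrecoverage 𝒳)
    (h𝒴 : AlgSt.IsAlgStack Scheme.fppfPrecoverage 𝒴) :
    [AlgSt.RepByAlgSpWith AlgSp.IsQuasiSeparatedMor (FibCat.inertiaToBase f),
      AlgSt.RepByAlgSpWith AlgSp.IsQuasiSeparatedMor (FibCat.diag f),
      AlgSt.RepByAlgSpWith AlgSp.IsQuasiCompactMor (FibCat.inertiaNeutral f)].TFAE := by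
  have hrep : AlgSt.RepByAlgSp1 (FibCat.diag f) := repByAlgSp1_diag_of_isAlgStack h𝒳 h𝒴 f
  tfae_have 2 → 1 := repWith_inertiaToBase f _
  tfae_have 1 → 3 := fun h1 =>
    repWith_neutral_of_diag f _
      (((tfae_quasiSeparated (FibCat.inertiaToBase f) (repByAlgSp1_of_repWith _ h1)).out 0 1).1
        h1)
  tfae_have 3 → 2 := fun h3 =>
    quasiSeparated_of_qc_diag (FibCat.diag f) hrep (repWith_diag_diag_of_neutral f _ h3)
  tfae_finish

end inertia

end Groth.Agent.Lib.AlgStLocQ
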