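import Groth.Agent.Lib.AlgStDenseLift_lead
import Groth.Agent.Lib.AlgStLocal3_lead
import Groth.Agent.Lib.AlgStFp_lead
import Groth.Agent.Lib.AlgStLocQ4_lead
import Groth.Agent.Lib.AlgStDiagRep3_lead
import Groth.Agent.Lib.AlgStQcQs_lead
import Groth.Agent.Lib.AlgStGenIso2_lead
import Groth.Agent.Lib.AlgSpGlue2_helper7

/-! # Descent of properties along fppf-locally essentially surjective morphisms (lead) -/

set_option autoImplicit false
set_option linter.style.haveILetI false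
set_option backward.isDefEq.respectTransparency false
set_option backward.isDefEq.respectTransparency.types false

universe w v₁ v₂ v₃ v₄ v₅ v₆ u₁ u₂ u₃ u₄ u₅ u₆ u

open CategoryTheory CategoryTheory.Limits AlgebraicGeometry Opposite FibCat Stk

namespace Groth.Agent.Lib.AlgStLocQ

open AlgSt Groth.Agent.Lib.FibCat_helper6 Groth.Agent.Lib.FibCat3_helper6
  Groth.Agent.Lib.FibCat14_helper6 Groth.Agent.Lib.FibCat12_helper6
  Groth.Agent.Lib.FibCatPaste Groth.Agent.Lib.FibCatSwap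
  Groth.Agent.Lib.FibCatIsoFun
  Groth.Agent.Lib.OfPshCalc Groth.Agent.Lib.AlgStBC
  Groth.Agent.Lib.AlgStEquiv Groth.Agent.Lib.AlgStEquivP Groth.Agent.Lib.AlgStEquivInv
  Groth.Agent.Lib.OfPshAlgSt Groth.Agent.Lib.LiftSqBC Groth.Agent.Lib.LiftSqComp
  Groth.Agent.Lib.OfPshWith Groth.Agent.Lib.FibCatDiagSec Groth.Agent.Lib.AlgStDiagRep
  Groth.Agent.Lib.FibCatDiagBC Groth.Agent.Lib.FibCatMagic Groth.Agent.Lib.FibCatProd
  Groth.Agent.Lib.AlgStDiag Groth.Agent.Lib.AlgStLocal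
  Groth.Agent.Lib.AlgSpQC_helper7 Groth.Agent.Lib.AlgSpDiag_helper7
  Groth.Agent.Lib.AlgSpPullback_helper7 Groth.Agent.Lib.AlgSpRepBySp_helper7
  Groth.Agent.Lib.AlgSpPoints_helper7 Groth.Agent.Lib.AlgSpLocP_helper7
  Groth.Agent.Lib.AlgSpBasic_helper7 Groth.Agent.Lib.AlgSpSep_helper7
  Groth.Agent.Lib.AlgSpLocP4_helper7 Groth.Agent.Lib.AlgSpLocP5_helper7
  Groth.Agent.Lib.AlgSpLocP7_helper7 Groth.Agent.Lib.AlgSpQC2_helper7
  Groth.Agent.Lib.AlgSpLocP8_helper7 Groth.Agent.Lib.AlgSpLocP10_helper7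
  Groth.Agent.Lib.AlgSpFpqc3_helper7 Groth.Agent.Lib.AlgSpLocP6_helper7
  Groth.Agent.Lib.AlgSpFpqc2_helper7 Groth.Agent.Lib.AlgSpFpqc_helper7
  Groth.Agent.Lib.AlgSpProper_helper7 Groth.Agent.Lib.AlgSpAffineMorH7
  Groth.Agent.Lib.AlgStAtlas Groth.Agent.Lib.AlgStPoints Groth.Agent.Lib.AlgStPtsCmp
  Groth.Agent.Lib.FibCatYoneda_helper6 Groth.Agent.Lib.AlgSpFieldFlat_helper7


variable {S : Scheme.{u}} {𝒳 𝒴 𝒵 : AlgSt.Cat S}

/-- The base change of the representing space along a chart which lifts to `𝒵` has `P`. -/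
theorem prop_pullback_of_lift (P : MorphismProperty (AlgSp.Sp S))
    (hPb : ∀ ⦃X₁ Y₁ X₂ Y₂ : AlgSp.Sp S⦄, AlgSp.IsAlgSpace X₁ → AlgSp.IsAlgSpace Y₁ →
      AlgSp.IsAlgSpace X₂ → AlgSp.IsAlgSpace Y₂ →
      ∀ (a : X₁ ⟶ Y₁) (b : Y₂ ⟶ Y₁) (a' : X₂ ⟶ Y₂) (b' : X₂ ⟶ X₁),
      IsPullback b' a' a b → P a → P a')
    (hP : AlgSp.IsLocalOnBase AlgSp.IsFppfCover P)
    (f : 𝒳 ⥤ᵇ 𝒴) (g : 𝒵 ⥤ᵇ 𝒴) (H : AlgSt.RepByAlgSpWith P (fpFst g f))
    (Z X : AlgSp.Space S) (z₀ : AlgSt.ofSp Z.obj ⥤ᵇ 𝒴) (c : X ⟶ Z)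
    (eX : AlgSt.ofSp X.obj ⥤ᵇ FibCat.fp z₀ f) (heX : FibCat.IsEquivOver eX)
    (iX : BasedFunctor.comp eX (FibCat.fpFst z₀ f) ≅ AlgSt.ofSpMap c.hom)
    (W : AlgSp.Space S) (b : W ⟶ Z) (v : AlgSt.ofSp W.obj ⥤ᵇ 𝒵)
    (ι : BasedFunctor.comp (AlgSt.ofSpMap b.hom) z₀ ≅ BasedFunctor.comp v g) :
    P (pullback.fst b.hom c.hom) := by
  have hI : IsoInv P := isoInv_of_bc P hPb
  have hL : SchemeTestable P := schemeTestable_of_local P hP
  let bb : AlgSt.ofSp W.obj ⥤ᵇ AlgSt.ofSp Z.obj := AlgSt.ofSpMap b.hom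
  let cc : AlgSt.ofSp X.obj ⥤ᵇ AlgSt.ofSp Z.obj := AlgSt.ofSpMap c.hom
  have A1 : AlgSt.RepByAlgSpWith P (fpFst v (fpFst g f)) := repWith_baseChange P (fpFst g f) v H
  have A2 : AlgSt.RepByAlgSpWith P (fpFst (BasedFunctor.comp v g) f) :=
    repWith_precomp_equiv P (paste v g f) (paste_isEquivOver v g f) (fpFst v (fpFst g f)) A1
  have A3 : AlgSt.RepByAlgSpWith P (fpFst (BasedFunctor.comp bb z₀) f) :=
    repWith_precomp_equiv P (isoFun₁ ι f) (isoFun₁_isEquivOver ι f)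
      (fpFst (BasedFunctor.comp v g) f) A2
  have A4 : AlgSt.RepByAlgSpWith P (fpFst bb (fpFst z₀ f)) :=
    repWith_cancel_equiv P (paste bb z₀ f) (paste_isEquivOver bb z₀ f) (fpFst bb (fpFst z₀ f)) A3
  have A5 : AlgSt.RepByAlgSpWith P (fpFst bb (BasedFunctor.comp eX (fpFst z₀ f))) :=
    repWith_precomp_equiv P (precomp bb (fpFst z₀ f) eX)
      (precomp_isEquivOver bb (fpFst z₀ f) eX heX) (fpFst bb (fpFst z₀ f)) A4
  have A6 : AlgSt.RepByAlgSpWith P (fpFst bb cc) :=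
    repWith_precomp_equiv P (isoFun bb iX.symm) (isoFun_isEquivOver bb iX.symm)
      (fpFst bb (BasedFunctor.comp eX (fpFst z₀ f))) A5
  have sqS := IsPullback.of_hasPullback b.hom c.hom
  have hX' : AlgSp.IsAlgSpace (pullback b.hom c.hom) :=
    isAlgSpace_of_isPullback Z.property.diag W.property X.property sqS
  have sqP : IsPullback (pullback.fst b.hom c.hom).hom (pullback.snd b.hom c.hom).hom
      b.hom.hom c.hom.hom := sqS.map (sheafToPresheaf (AlgSp.J S) (Type (u + 1)))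
  have A7 : AlgSt.RepByAlgSpWith P (Stk.ofPshMap (pullback.fst b.hom c.hom).hom) :=
    repWith_precomp_equiv P (pbFun sqP) (pbFun_isEquivOver sqP) (fpFst bb cc) A6
  have r4 : AlgSp.RepBySpWith P (pullback.fst b.hom c.hom).hom :=
    repBySpWith_of_repByAlgSpWith P hI _ A7
  exact hL _ hX' W.property r4

/-- S12781: descent of `P` along an fppf-locally essentially surjective morphism. -/
theorem repWith_of_fpFst_of_locally_essSurj
    (h𝒳 : FibCat.IsFibGrpd 𝒳.p) (h𝒴 : FibCat.IsFibGrpd 𝒴.p)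
    (P : MorphismProperty (AlgSp.Sp S))
    (hPb : ∀ ⦃X₁ Y₁ X₂ Y₂ : AlgSp.Sp S⦄, AlgSp.IsAlgSpace X₁ → AlgSp.IsAlgSpace Y₁ →
      AlgSp.IsAlgSpace X₂ → AlgSp.IsAlgSpace Y₂ →
      ∀ (a : X₁ ⟶ Y₁) (b : Y₂ ⟶ Y₁) (a' : X₂ ⟶ Y₂) (b' : X₂ ⟶ X₁),
      IsPullback b' a' a b → P a → P a')
    (hP : AlgSp.IsLocalOnBase AlgSp.IsFppfCover P)
    (f : 𝒳 ⥤ᵇ 𝒴) (hf : AlgSt.RepByAlgSp1 f) (g : 𝒵 ⥤ᵇ 𝒴)
    (hg : ∀ (U : Over S) (y : FibCat.overCat U ⥤ᵇ 𝒴),
      ∃ R ∈ (QuotSh.J Scheme.fppfPrecoverage S) U,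
      ∀ ⦃V : Over S⦄ (h : V ⟶ U), R.arrows h →
        ∃ z : FibCat.overCat V ⥤ᵇ 𝒵,
          Nonempty (BasedFunctor.comp z g ≅ BasedFunctor.comp (AlgSt.overMap h) y))
    (h' : AlgSt.RepByAlgSpWith P (FibCat.fpFst g f)) :
    AlgSt.RepByAlgSpWith P f := by
  have hf' : AlgSt.RepByAlgSpWith ⊤ f := (repByAlgSp1_iff_top f).1 hf
  intro U y
  obtain ⟨Z, hZ⟩ : ∃ Z : AlgSp.Space S, Z = (AlgSp.ofScheme S).obj U := ⟨_, rfl⟩
  subst hZ
  obtain ⟨X, c, eX, heX, ⟨iX⟩, -⟩ :=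
    exists_space_of_repWith' h𝒳 h𝒴 ⊤ isoInv_top schemeTestable_top f hf'
      ((AlgSp.ofScheme S).obj U) (BasedFunctor.comp (AlgSt.toOverCat U) y)
  have hPc : P c.hom := by
    obtain ⟨R, hR, hRl⟩ := hg U y
    have hR0 : R ∈ AlgSp.J S U := hR
    rw [AlgSp.J_eq, GrothendieckTopology.mem_over_iff] at hR0
    haveI : (@Flat ⊓ @LocallyOfFinitePresentation :
        MorphismProperty Scheme.{u}).IsMultiplicative :=
      { id_mem := fun X => ⟨inferInstance, inferInstance⟩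
        comp_mem := fun f g hf hg =>
          ⟨by haveI := hf.1; haveI := hg.1; exact (inferInstance : Flat (f ≫ g)),
            by haveI := hf.2; haveI := hg.2
               exact (inferInstance : LocallyOfFinitePresentation (f ≫ g))⟩ }
    have hR' : Sieve.overEquiv U R ∈
        Scheme.grothendieckTopology (@Flat ⊓ @LocallyOfFinitePresentation) U.left := hR0
    obtain ⟨𝒰, h𝒰⟩ := Scheme.exists_cover_of_mem_grothendieckTopology hR'
    have hmem : ∀ i : 𝒰.I₀, R.arrows (Over.homMk (𝒰.f i) rfl :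
        Over.mk (𝒰.f i ≫ U.hom) ⟶ U) := fun i => by
      have h1 : (Sieve.overEquiv U R) (𝒰.f i) := h𝒰 _ _ (Presieve.ofArrows.mk i)
      rw [Sieve.overEquiv_iff] at h1
      exact h1
    choose z hz using fun i => hRl _ (hmem i)
    have r5 : ∀ i : 𝒰.I₀, P (pullback.fst
        ((AlgSp.ofScheme S).map (Over.homMk (𝒰.f i) rfl :
          Over.mk (𝒰.f i ≫ U.hom) ⟶ U)).hom c.hom) := fun i => by
      have ι : BasedFunctor.comp (AlgSt.ofSpMap ((AlgSp.ofScheme S).map (Over.homMk (𝒰.f i) rfl :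
          Over.mk (𝒰.f i ≫ U.hom) ⟶ U)).hom) (BasedFunctor.comp (AlgSt.toOverCat U) y) ≅
          BasedFunctor.comp (BasedFunctor.comp
            (AlgSt.toOverCat (Over.mk (𝒰.f i ≫ U.hom))) (z i)) g :=
        whiskerLeftIso (AlgSt.toOverCat (Over.mk (𝒰.f i ≫ U.hom)))
          (Classical.choice (hz i)).symm
      exact prop_pullback_of_lift P hPb hP f g h' ((AlgSp.ofScheme S).obj U) X
        (BasedFunctor.comp (AlgSt.toOverCat U) y) c eX heX iX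
        ((AlgSp.ofScheme S).obj (Over.mk (𝒰.f i ≫ U.hom)))
        ((AlgSp.ofScheme S).map (Over.homMk (𝒰.f i) rfl : Over.mk (𝒰.f i ≫ U.hom) ⟶ U))
        (BasedFunctor.comp (AlgSt.toOverCat (Over.mk (𝒰.f i ≫ U.hom))) (z i)) ι
    have hcov : AlgSp.IsFppfCover
        (fun i : 𝒰.I₀ => ((AlgSp.ofScheme S).obj (Over.mk (𝒰.f i ≫ U.hom))).obj)
        (fun i => ((AlgSp.ofScheme S).map (Over.homMk (𝒰.f i) rfl :
          Over.mk (𝒰.f i ≫ U.hom) ⟶ U)).hom) := by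
      refine ⟨fun i => ⟨?_, ?_⟩, fun x => ?_⟩
      · exact locP_yon_map_of @Flat (fun _ _ g (hg : Etale g) => (inferInstance : Flat g))
          (Over.homMk (𝒰.f i) rfl : Over.mk (𝒰.f i ≫ U.hom) ⟶ U) (𝒰.map_prop i).1
      · exact locP_yon_map_of @LocallyOfFinitePresentation
          (fun _ _ g (hg : Etale g) => (inferInstance : LocallyOfFinitePresentation g))
          (Over.homMk (𝒰.f i) rfl : Over.mk (𝒰.f i ≫ U.hom) ⟶ U) (𝒰.map_prop i).2
      · obtain ⟨t, rfl⟩ := ofScheme_surjective U x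
        obtain ⟨i, w, hw⟩ := 𝒰.exists_eq t
        refine ⟨i, AlgSp.Points.ofScheme (Over.mk (𝒰.f i ≫ U.hom)) w, ?_⟩
        exact (AlgSp.Points.ofPt_eq_map_ofScheme ((AlgSp.yon S).map
          (Over.homMk (𝒰.f i) rfl : Over.mk (𝒰.f i ≫ U.hom) ⟶ U)) w).symm.trans
          ((ofPt_yon_map (Over.homMk (𝒰.f i) rfl : Over.mk (𝒰.f i ≫ U.hom) ⟶ U) w).trans
            (congrArg (AlgSp.Points.ofScheme U) hw))
    have key := hP (ι := 𝒰.I₀) (Y := ((AlgSp.ofScheme S).obj U).obj)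
      (fun i => ((AlgSp.ofScheme S).obj (Over.mk (𝒰.f i ≫ U.hom))).obj)
      (fun i => ((AlgSp.ofScheme S).map (Over.homMk (𝒰.f i) rfl :
          Over.mk (𝒰.f i ≫ U.hom) ⟶ U)).hom)
      ((AlgSp.ofScheme S).obj U).property
      (fun i => ((AlgSp.ofScheme S).obj (Over.mk (𝒰.f i ≫ U.hom))).property) hcov c.hom X.property
      (fun i => pullback ((AlgSp.ofScheme S).map (Over.homMk (𝒰.f i) rfl :
          Over.mk (𝒰.f i ≫ U.hom) ⟶ U)).hom c.hom)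
      (fun i => pullback.fst _ _) (fun i => pullback.snd _ _)
      (fun i => isAlgSpace_of_isPullback ((AlgSp.ofScheme S).obj U).property.diag
        ((AlgSp.ofScheme S).obj (Over.mk (𝒰.f i ≫ U.hom))).property X.property
        (IsPullback.of_hasPullback _ _))
      (fun i => (IsPullback.of_hasPullback _ _).flip)
    exact key.2 r5
  refine ⟨X, BasedFunctor.comp eX (precomp₁ (AlgSt.toOverCat U) y f),
    isEquivOver_comp heX (precomp₁_isEquivOver _ (toOverCat_isEquivOver U) y f), ?_⟩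
  have iso : BasedFunctor.comp (BasedFunctor.comp eX (precomp₁ (AlgSt.toOverCat U) y f))
      (fpFst y f) ≅ BasedFunctor.comp (AlgSt.ofSpMap c.hom) (AlgSt.toOverCat U) :=
    whiskerRightIso iX (AlgSt.toOverCat U)
  have hk : AlgSt.spMapOfOver (BasedFunctor.comp
      (BasedFunctor.comp eX (precomp₁ (AlgSt.toOverCat U) y f)) (fpFst y f)) = c.hom :=
    (spMapOfOver_congr iso.hom).trans ((spMapOfOver_comp_ofSpMap c.hom _).trans (by
      rw [spMapOfOver_toOverCat]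
      exact Category.comp_id _))
  rw [hk]
  exact hPc

end Groth.Agent.Lib.AlgStLocQ
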