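import Groth.Agent.Lib.AlgStLocQCore_lead

/-!
# Properties of morphisms of algebraic stacks read on smooth charts: basic equivalences (lead)
-/

set_option autoImplicit false

universe w v₁ v₂ v₃ v₄ v₅ v₆ u₁ u₂ u₃ u₄ u₅ u₆ u

open CategoryTheory CategoryTheory.Limits AlgebraicGeometry Opposite FibCat Stk

namespace Groth.Agent.Lib.AlgStLocQ

open AlgSt Groth.Agent.Lib.FibCat_helper6 Groth.Agent.Lib.FibCat3_helper6
  Groth.Agent.Lib.FibCat14_helper6 Groth.Agent.Lib.FibCat12_helper6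
  Groth.Agent.Lib.FibCatPaste Groth.Agent.Lib.FibCatSwap
  Groth.Agent.Lib.FibCatIsoFun
  Groth.Agent.Lib.OfPshCalc Groth.Agent.Lib.AlgStBC
  Groth.Agent.Lib.AlgStEquiv Groth.Agent.Lib.AlgStEquivP Groth.Agent.Lib.AlgStEquivInv
  Groth.Agent.Lib.OfPshAlgSt Groth.Agent.Lib.LiftSqBC Groth.Agent.Lib.LiftSqComp
  Groth.Agent.Lib.OfPshWith Groth.Agent.Lib.FibCatDiagSec Groth.Agent.Lib.AlgStDiagRep
  Groth.Agent.Lib.FibCatDiagBC Groth.Agent.Lib.FibCatMagic Groth.Agent.Lib.FibCatProd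
  Groth.Agent.Lib.AlgStDiag Groth.Agent.Lib.AlgStLocal
  Groth.Agent.Lib.AlgSpQC_helper7 Groth.Agent.Lib.AlgSpDiag_helper7
  Groth.Agent.Lib.AlgSpPullback_helper7 Groth.Agent.Lib.AlgSpRepBySp_helper7
  Groth.Agent.Lib.AlgSpPoints_helper7 Groth.Agent.Lib.AlgSpLocP_helper7
  Groth.Agent.Lib.AlgSpBasic_helper7 Groth.Agent.Lib.AlgSpSep_helper7
  Groth.Agent.Lib.AlgSpLocP4_helper7 Groth.Agent.Lib.AlgSpLocP5_helper7
  Groth.Agent.Lib.AlgSpLocP7_helper7 Groth.Agent.Lib.AlgSpQC2_helper7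
  Groth.Agent.Lib.AlgSpLocP8_helper7 Groth.Agent.Lib.AlgSpLocP10_helper7
  Groth.Agent.Lib.AlgSpFpqc3_helper7 Groth.Agent.Lib.AlgSpLocP6_helper7
  Groth.Agent.Lib.AlgSpFpqc2_helper7 Groth.Agent.Lib.AlgSpFpqc_helper7
  Groth.Agent.Lib.AlgSpProper_helper7 Groth.Agent.Lib.AlgSpAffineMorH7
  Groth.Agent.Lib.AlgStAtlas Groth.Agent.Lib.AlgStPoints Groth.Agent.Lib.AlgStPtsCmp
  Groth.Agent.Lib.FibCatYoneda_helper6

variable {S : Scheme.{u}}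

section stk

variable {𝒳 𝒴 𝒵 : AlgSt.Cat S}

/-- `P` read on one square of smooth charts from algebraic spaces. -/
def LocQS (P : MorphismProperty (AlgSp.Sp S)) (f : 𝒳 ⥤ᵇ 𝒴) : Prop :=
  ∃ (U V : AlgSp.Space S) (x : AlgSt.ofSp U.obj ⥤ᵇ 𝒳) (y : AlgSt.ofSp V.obj ⥤ᵇ 𝒴) (h : U ⟶ V)
    (_ : BasedFunctor.comp x f ≅ BasedFunctor.comp (AlgSt.ofSpMap h.hom) y),
    AlgSt.RepByAlgSpWith (AlgSp.LocP @Smooth) x ∧ AlgSt.RepByAlgSpWith AlgSp.IsSurjectiveMor x ∧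
    AlgSt.RepByAlgSpWith (AlgSp.LocP @Smooth) y ∧ P h.hom

/-- `P` holds on every good square of smooth charts from algebraic spaces. -/
def GoodS (P : MorphismProperty (AlgSp.Sp S)) (f : 𝒳 ⥤ᵇ 𝒴) : Prop :=
  ∀ (U V : AlgSp.Space S) (x : AlgSt.ofSp U.obj ⥤ᵇ 𝒳) (y : AlgSt.ofSp V.obj ⥤ᵇ 𝒴) (h : U ⟶ V)
    (α : BasedFunctor.comp x f ≅ BasedFunctor.comp (AlgSt.ofSpMap h.hom) y),
    AlgSt.RepByAlgSpWith (AlgSp.LocP @Smooth) y →
    AlgSt.RepByAlgSpWith (AlgSp.LocP @Smooth) (fpLift x (AlgSt.ofSpMap h.hom) α) → P h.hom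

/-- `P` holds on every good square of smooth charts from schemes. -/
def GoodSch (P : MorphismProperty (AlgSp.Sp S)) (f : 𝒳 ⥤ᵇ 𝒴) : Prop :=
  ∀ (U V : Over S) (x : FibCat.overCat U ⥤ᵇ 𝒳) (y : FibCat.overCat V ⥤ᵇ 𝒴) (h : U ⟶ V)
    (α : BasedFunctor.comp x f ≅ BasedFunctor.comp (AlgSt.overMap h) y),
    AlgSt.RepByAlgSpWith (AlgSp.LocP @Smooth) y →
    AlgSt.RepByAlgSpWith (AlgSp.LocP @Smooth) (fpLift x (AlgSt.overMap h) α) →
    P ((AlgSp.yon S).map h)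

/-- A square of scheme charts as a square of algebraic-space charts. -/
def convIso {U V : Over S} (x : FibCat.overCat U ⥤ᵇ 𝒳) (y : FibCat.overCat V ⥤ᵇ 𝒴)
    (f : 𝒳 ⥤ᵇ 𝒴) (h : U ⟶ V)
    (α : BasedFunctor.comp x f ≅ BasedFunctor.comp (AlgSt.overMap h) y) :
    BasedFunctor.comp (BasedFunctor.comp (AlgSt.toOverCat U) x) f ≅
      BasedFunctor.comp (AlgSt.ofSpMap ((AlgSp.yon S).map h))
        (BasedFunctor.comp (AlgSt.toOverCat V) y) :=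
  whiskerLeftIso (AlgSt.toOverCat U) α

theorem repWith_toOverCat_comp {U : Over S} (P : MorphismProperty (AlgSp.Sp S))
    (x : FibCat.overCat U ⥤ᵇ 𝒳) (hx : AlgSt.RepByAlgSpWith P x) :
    AlgSt.RepByAlgSpWith P (BasedFunctor.comp (AlgSt.toOverCat U) x) :=
  repWith_precomp_equiv P (AlgSt.toOverCat U) (toOverCat_isEquivOver U) x hx

theorem good_conv {U V : Over S} (Q : MorphismProperty (AlgSp.Sp S))
    (x : FibCat.overCat U ⥤ᵇ 𝒳) (y : FibCat.overCat V ⥤ᵇ 𝒴)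
    (f : 𝒳 ⥤ᵇ 𝒴) (h : U ⟶ V)
    (α : BasedFunctor.comp x f ≅ BasedFunctor.comp (AlgSt.overMap h) y)
    (hℓ : AlgSt.RepByAlgSpWith Q (fpLift x (AlgSt.overMap h) α)) :
    AlgSt.RepByAlgSpWith Q (fpLift (BasedFunctor.comp (AlgSt.toOverCat U) x)
      (AlgSt.ofSpMap ((AlgSp.yon S).map h)) (convIso x y f h α)) := by
  have h1 : AlgSt.RepByAlgSpWith Q (BasedFunctor.comp (AlgSt.toOverCat U)
      (fpLift x (AlgSt.overMap h) α)) :=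
    repWith_precomp_equiv Q (AlgSt.toOverCat U) (toOverCat_isEquivOver U) _ hℓ
  exact repWith_cancel_postcomp_equiv Q _ (precomp f y (AlgSt.toOverCat V))
    (precomp_isEquivOver f y (AlgSt.toOverCat V) (toOverCat_isEquivOver V)) h1

theorem locQS_of_locQ (P : MorphismProperty (AlgSp.Sp S)) (f : 𝒳 ⥤ᵇ 𝒴)
    (H : AlgSt.LocQ P f) : LocQS P f := by
  obtain ⟨U, V, x, y, h, α, hx, hx', hy, hPh⟩ := H
  exact ⟨(AlgSp.ofScheme S).obj U, (AlgSp.ofScheme S).obj V,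
    BasedFunctor.comp (AlgSt.toOverCat U) x, BasedFunctor.comp (AlgSt.toOverCat V) y,
    (AlgSp.ofScheme S).map h, convIso x y f h α, repWith_toOverCat_comp _ x hx,
    repWith_toOverCat_comp _ x hx', repWith_toOverCat_comp _ y hy, hPh⟩

theorem goodS_of_locQS (h𝒳 : IsFibGrpd 𝒳.p) (h𝒴 : IsFibGrpd 𝒴.p)
    (P : MorphismProperty (AlgSp.Sp S)) (hP : AlgSp.IsSmoothLocalST P) (f : 𝒳 ⥤ᵇ 𝒴)
    (H : LocQS P f) : GoodS P f := by
  obtain ⟨U₀, V₀, x₀, y₀, h₀, α₀, hx₀, hx₀', hy₀, hP₀⟩ := H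
  intro U V x y h α hy hℓ
  exact locQ_core h𝒳 h𝒴 P hP f U₀ V₀ x₀ y₀ h₀ α₀ hx₀ hx₀' hy₀ hP₀ U V x y h α hy hℓ

theorem goodSch_of_goodS (P : MorphismProperty (AlgSp.Sp S)) (f : 𝒳 ⥤ᵇ 𝒴)
    (H : GoodS P f) : GoodSch P f := by
  intro U V x y h α hy hℓ
  exact H ((AlgSp.ofScheme S).obj U) ((AlgSp.ofScheme S).obj V)
    (BasedFunctor.comp (AlgSt.toOverCat U) x) (BasedFunctor.comp (AlgSt.toOverCat V) y)
    ((AlgSp.ofScheme S).map h) (convIso x y f h α) (repWith_toOverCat_comp _ y hy)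
    (good_conv _ x y f h α hℓ)

/-- Over a smooth chart of the target there is a good square of charts. -/
theorem exists_good_chart_over (h𝒳 : AlgSt.IsAlgStack Scheme.fppfPrecoverage 𝒳)
    (h𝒴 : AlgSt.IsAlgStack Scheme.fppfPrecoverage 𝒴) (f : 𝒳 ⥤ᵇ 𝒴) (V : Over S)
    (y : FibCat.overCat V ⥤ᵇ 𝒴) (hy : AlgSt.RepByAlgSpWith (AlgSp.LocP @Smooth) y) :
    ∃ (U : Over S) (a : U ⟶ V) (x : FibCat.overCat U ⥤ᵇ 𝒳)
      (α : BasedFunctor.comp x f ≅ BasedFunctor.comp (AlgSt.overMap a) y),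
      AlgSt.RepByAlgSpWith (AlgSp.LocP @Smooth) x ∧
      (AlgSt.RepByAlgSpWith AlgSp.IsSurjectiveMor y → AlgSt.RepByAlgSpWith AlgSp.IsSurjectiveMor x) ∧
      AlgSt.RepByAlgSpWith (AlgSp.LocP @Smooth) (fpLift x (AlgSt.overMap a) α) ∧
      AlgSt.RepByAlgSpWith AlgSp.IsSurjectiveMor (fpLift x (AlgSt.overMap a) α) := by
  have hIs : IsoInv (AlgSp.LocP @Smooth : MorphismProperty (AlgSp.Sp S)) :=
    isoInv_locP _ etLocal_smooth
  have hLs : SchemeTestable (AlgSp.LocP @Smooth : MorphismProperty (AlgSp.Sp S)) :=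
    schemeTestable_locP _
  have hV : IsFibGrpd (FibCat.overCat V).p := isFibGrpd_over_forget V
  have hfib : IsFibGrpd (fp f y).p := isFibGrpd_fp f y h𝒳.isStack.1 hV h𝒴.isStack.1
  have hat : AlgSt.HasAtlas (AlgSp.LocP @Smooth) (fp f y) :=
    hasAtlas_fp _ hIs hLs comp_locP_smooth
      (fun h => (hasAtlas_of_repByAlgSp h).2) h𝒳.isStack.1 hV h𝒴.isStack.1 h𝒴.diag f y
      h𝒳.atlas (hasAtlas_of_repByAlgSp (repByAlgSp_overCat V)).2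
  obtain ⟨U, x'', hx''₁, hx''₂⟩ := hat
  have hU : IsFibGrpd (FibCat.overCat U).p := isFibGrpd_over_forget U
  obtain ⟨a, ⟨ι⟩⟩ := exists_overMap_iso (BasedFunctor.comp x'' (fpSnd f y))
  obtain ⟨κ⟩ := fpLift_eta_iso hfib x'' ι
  refine ⟨U, a, BasedFunctor.comp x'' (fpFst f y), etaIso x'' ι, ?_, ?_, ?_, ?_⟩
  · exact repWith_comp' hU hfib _ hIs hLs comp_locP_smooth x'' (fpFst f y) hx''₁
      (repWith_baseChange _ y f hy)
  · intro hy'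
    exact repWith_comp' hU hfib _ isoInv_isSurjectiveMor schemeTestable_isSurjectiveMor
      comp_isSurjectiveMor x'' (fpFst f y) hx''₂ (repWith_baseChange _ y f hy')
  · exact repWith_of_iso _ κ.symm hx''₁
  · exact repWith_of_iso _ κ.symm hx''₂

theorem locQ_of_goodSch (h𝒳 : AlgSt.IsAlgStack Scheme.fppfPrecoverage 𝒳)
    (h𝒴 : AlgSt.IsAlgStack Scheme.fppfPrecoverage 𝒴) (P : MorphismProperty (AlgSp.Sp S))
    (f : 𝒳 ⥤ᵇ 𝒴) (H : GoodSch P f) : AlgSt.LocQ P f := by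
  obtain ⟨V, y, hy, hy'⟩ := h𝒴.atlas
  obtain ⟨U, a, x, α, hx, hx', hℓ, -⟩ := exists_good_chart_over h𝒳 h𝒴 f V y hy
  exact ⟨U, V, x, y, a, α, hx, hx' hy', hy, H U V x y a α hy hℓ⟩

theorem goodSch_of_locQ (h𝒳 : IsFibGrpd 𝒳.p) (h𝒴 : IsFibGrpd 𝒴.p)
    (P : MorphismProperty (AlgSp.Sp S)) (hP : AlgSp.IsSmoothLocalST P) (f : 𝒳 ⥤ᵇ 𝒴)
    (H : AlgSt.LocQ P f) : GoodSch P f :=
  goodSch_of_goodS P f (goodS_of_locQS h𝒳 h𝒴 P hP f (locQS_of_locQ P f H))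

theorem locQ_of_locQS (h𝒳 : AlgSt.IsAlgStack Scheme.fppfPrecoverage 𝒳)
    (h𝒴 : AlgSt.IsAlgStack Scheme.fppfPrecoverage 𝒴) (P : MorphismProperty (AlgSp.Sp S))
    (hP : AlgSp.IsSmoothLocalST P) (f : 𝒳 ⥤ᵇ 𝒴) (H : LocQS P f) : AlgSt.LocQ P f :=
  locQ_of_goodSch h𝒳 h𝒴 P f
    (goodSch_of_goodS P f (goodS_of_locQS h𝒳.isStack.1 h𝒴.isStack.1 P hP f H))

theorem isAlgStack_ofSp (F : AlgSp.Space S) :
    AlgSt.IsAlgStack Scheme.fppfPrecoverage (AlgSt.ofSp F.obj) :=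
  (isDM_of_repByAlgSp (Stk.isFibGrpd_ofPsh F.obj.obj)
    ⟨F, BasedFunctor.id _, isEquivOver_id⟩).1

/-- For a morphism of algebraic spaces the chart reading of `P` is `P`. -/
theorem locQ_ofSpMap_iff (P : MorphismProperty (AlgSp.Sp S)) (hP : AlgSp.IsSmoothLocalST P)
    (F G : AlgSp.Space S) (a : F ⟶ G) :
    AlgSt.LocQ P (AlgSt.ofSpMap a.hom) ↔ P a.hom := by
  constructor
  · intro H
    have good := goodS_of_locQS (Stk.isFibGrpd_ofPsh F.obj.obj) (Stk.isFibGrpd_ofPsh G.obj.obj) P hP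
      (AlgSt.ofSpMap a.hom) (locQS_of_locQ P _ H)
    refine good F G (BasedFunctor.id _) (BasedFunctor.id _) a (Iso.refl _) (repWith_smooth_id G) ?_
    have hπ : IsEquivOver (fpFst (AlgSt.ofSpMap a.hom) (BasedFunctor.id (AlgSt.ofSp G.obj))) :=
      isEquivOver_comp (swap_isEquivOver (AlgSt.ofSpMap a.hom) (BasedFunctor.id (AlgSt.ofSp G.obj)))
        (fpSnd_id_isEquivOver (AlgSt.ofSpMap a.hom))
    exact repWith_cancel_postcomp_equiv _ _ _ hπ (repWith_smooth_id F)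
  · intro H
    exact locQ_of_locQS (isAlgStack_ofSp F) (isAlgStack_ofSp G) P hP _
      ⟨F, G, BasedFunctor.id _, BasedFunctor.id _, a, Iso.refl _, repWith_smooth_id F,
        repWith_surj_id F, repWith_smooth_id G, H⟩

/-- For a morphism representable by algebraic spaces, the chart reading of `P` agrees with
"every base change to a scheme has `P`". -/
theorem locQ_iff_repWith (P : MorphismProperty (AlgSp.Sp S)) (hP : AlgSp.IsSmoothLocalST P)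
    (hP₁ : ∀ ⦃X₁ Y₁ X₂ Y₂ : AlgSp.Sp S⦄, AlgSp.IsAlgSpace X₁ → AlgSp.IsAlgSpace Y₁ →
      AlgSp.IsAlgSpace X₂ → AlgSp.IsAlgSpace Y₂ →
      ∀ (a : X₁ ⟶ Y₁) (b : Y₂ ⟶ Y₁) (a' : X₂ ⟶ Y₂) (b' : X₂ ⟶ X₁),
      IsPullback b' a' a b → P a → P a')
    (hP₂ : AlgSp.IsLocalOnBase AlgSp.IsFppfCover P)
    (h𝒳 : AlgSt.IsAlgStack Scheme.fppfPrecoverage 𝒳)
    (h𝒴 : AlgSt.IsAlgStack Scheme.fppfPrecoverage 𝒴)
    (f : 𝒳 ⥤ᵇ 𝒴) (hf : AlgSt.RepByAlgSp1 f) :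
    AlgSt.LocQ P f ↔ AlgSt.RepByAlgSpWith P f := by
  have hI : IsoInv P := isoInv_of_bc P hP₁
  have hL : SchemeTestable P := schemeTestable_of_local P hP₂
  obtain ⟨V, y, hy₁, hy₂⟩ := h𝒴.atlas
  let y' : AlgSt.ofSp ((AlgSp.ofScheme S).obj V).obj ⥤ᵇ 𝒴 :=
    BasedFunctor.comp (AlgSt.toOverCat V) y
  have hy'₁ : AlgSt.RepByAlgSpWith (AlgSp.LocP @Smooth) y' := repWith_toOverCat_comp _ y hy₁
  have hy'₂ : AlgSt.RepByAlgSpWith AlgSp.IsSurjectiveMor y' := repWith_toOverCat_comp _ y hy₂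
  have hVf : IsFibGrpd (AlgSt.ofSp ((AlgSp.ofScheme S).obj V).obj).p :=
    Stk.isFibGrpd_ofPsh _
  have hfib : IsFibGrpd (fp f y').p := isFibGrpd_fp f y' h𝒳.isStack.1 hVf h𝒴.isStack.1
  constructor
  · intro H
    have hf' : AlgSt.RepByAlgSpWith ⊤ f := (repByAlgSp1_iff_top f).1 hf
    obtain ⟨X, c, eX, heX, ⟨iX⟩, -⟩ :=
      exists_space_of_repWith' h𝒳.isStack.1 h𝒴.isStack.1 ⊤ isoInv_top schemeTestable_top f hf'
        ((AlgSp.ofScheme S).obj V) y'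
    let w : AlgSt.ofSp X.obj ⥤ᵇ fp f y' := BasedFunctor.comp eX (swap y' f)
    have hw : IsEquivOver w := isEquivOver_comp heX (swap_isEquivOver y' f)
    obtain ⟨κ⟩ := fpLift_eta_iso hfib w (b := AlgSt.ofSpMap c.hom) iX
    have hℓ : AlgSt.RepByAlgSpWith (AlgSp.LocP @Smooth)
        (fpLift (BasedFunctor.comp w (fpFst f y')) (AlgSt.ofSpMap c.hom) (etaIso w iX)) :=
      repWith_of_iso _ κ.symm (repWith_of_isEquivOver _ (repWith_smooth_id X) w hw)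
    have good := goodS_of_locQS h𝒳.isStack.1 h𝒴.isStack.1 P hP f (locQS_of_locQ P f H)
    have Pc : P c.hom := good X ((AlgSp.ofScheme S).obj V) (BasedFunctor.comp w (fpFst f y')) y' c
      (etaIso w iX) hy'₁ hℓ
    exact (repWith_iff_exists_of_cover h𝒳.isStack.1 h𝒴.isStack.1 P hP₁ hP₂ f hf
      ((AlgSp.ofScheme S).obj V) y' (repWith_flat_of_smooth y' hy'₁)
      (repWith_lfp_of_smooth y' hy'₁) hy'₂).2 ⟨X, c, eX, heX, ⟨iX⟩, Pc⟩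
  · intro H
    obtain ⟨X, c, eX, heX, ⟨iX⟩, Pc⟩ :=
      exists_space_of_repWith' h𝒳.isStack.1 h𝒴.isStack.1 P hI hL f H
        ((AlgSp.ofScheme S).obj V) y'
    let w : AlgSt.ofSp X.obj ⥤ᵇ fp f y' := BasedFunctor.comp eX (swap y' f)
    refine locQ_of_locQS h𝒳 h𝒴 P hP f ⟨X, (AlgSp.ofScheme S).obj V,
      BasedFunctor.comp w (fpFst f y'), y', c, etaIso w iX, ?_, ?_, hy'₁, Pc⟩
    · exact repWith_precomp_equiv _ eX heX (fpSnd y' f) (repWith_fpSnd _ y' f hy'₁)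
    · exact repWith_precomp_equiv _ eX heX (fpSnd y' f) (repWith_fpSnd _ y' f hy'₂)

theorem locQ_of_goodSch' (h𝒳 : AlgSt.IsAlgStack Scheme.fppfPrecoverage 𝒳)
    (h𝒴 : AlgSt.IsAlgStack Scheme.fppfPrecoverage 𝒴) (P : MorphismProperty (AlgSp.Sp S))
    (f : 𝒳 ⥤ᵇ 𝒴)
    (H : ∀ (U V : Over S) (x : FibCat.overCat U ⥤ᵇ 𝒳) (y : FibCat.overCat V ⥤ᵇ 𝒴) (h : U ⟶ V)
      (α : BasedFunctor.comp x f ≅ BasedFunctor.comp (AlgSt.overMap h) y),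
      AlgSt.RepByAlgSpWith (AlgSp.LocP @Smooth) x → AlgSt.RepByAlgSpWith (AlgSp.LocP @Smooth) y →
      AlgSt.RepByAlgSpWith (AlgSp.LocP @Smooth) (fpLift x (AlgSt.overMap h) α) →
      P ((AlgSp.yon S).map h)) : AlgSt.LocQ P f := by
  obtain ⟨V, y, hy, hy'⟩ := h𝒴.atlas
  obtain ⟨U, a, x, α, hx, hx', hℓ, -⟩ := exists_good_chart_over h𝒳 h𝒴 f V y hy
  exact ⟨U, V, x, y, a, α, hx, hx' hy', hy, H U V x y a α hx hy hℓ⟩

end stk

end Groth.Agent.Lib.AlgStLocQ
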