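import Groth.Agent.Lib.AlgStLocQ2_lead

/-!
# Properties read on smooth charts: composition, base change, fppf descent (lead)
-/

set_option autoImplicit false

universe w v₁ v₂ v₃ v₄ v₅ v₆ u₁ u₂ u₃ u₄ u₅ u₆ u

open CategoryTheory CategoryTheory.Limits AlgebraicGeometry Opposite FibCat Stk

namespace Groth.Agent.Lib.AlgStLocQ

open AlgSt Groth.Agent.Lib.FibCat_helper6 Groth.Agent.Lib.FibCat3_helper6
  Groth.Agent.Lib.FibCat14_helper6 Groth.Agent.Lib.FibCat12_helper6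
  Groth.Agent.Lib.FibCatPaste Groth.Agent.Lib.FibCatSwap
  Groth.Agent.Lib.FibCatIsoFun
  Groth.Agent.Lib.OfPshCalc Groth.Agent.Lib.AlgStBC
  Groth.Agent.Lib.AlgStEquiv Groth.Agent.Lib.AlgStEquivP Groth.Agent.Lib.AlgStEquivInv
  Groth.Agent.Lib.OfPshAlgSt Groth.Agent.Lib.LiftSqBC Groth.Agent.Lib.LiftSqComp
  Groth.Agent.Lib.OfPshWith Groth.Agent.Lib.FibCatDiagSec Groth.Agent.Lib.AlgStDiagRep
  Groth.Agent.Lib.FibCatDiagBC Groth.Agent.Lib.FibCatMagic Groth.Agent.Lib.FibCatProd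
  Groth.Agent.Lib.AlgStDiag Groth.Agent.Lib.AlgStLocal
  Groth.Agent.Lib.AlgSpQC_helper7 Groth.Agent.Lib.AlgSpDiag_helper7
  Groth.Agent.Lib.AlgSpPullback_helper7 Groth.Agent.Lib.AlgSpRepBySp_helper7
  Groth.Agent.Lib.AlgSpPoints_helper7 Groth.Agent.Lib.AlgSpLocP_helper7
  Groth.Agent.Lib.AlgSpBasic_helper7 Groth.Agent.Lib.AlgSpSep_helper7
  Groth.Agent.Lib.AlgSpLocP4_helper7 Groth.Agent.Lib.AlgSpLocP5_helper7
  Groth.Agent.Lib.AlgSpLocP7_helper7 Groth.Agent.Lib.AlgSpQC2_helper7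
  Groth.Agent.Lib.AlgSpLocP8_helper7 Groth.Agent.Lib.AlgSpLocP10_helper7
  Groth.Agent.Lib.AlgSpFpqc3_helper7 Groth.Agent.Lib.AlgSpLocP6_helper7
  Groth.Agent.Lib.AlgSpFpqc2_helper7 Groth.Agent.Lib.AlgSpFpqc_helper7
  Groth.Agent.Lib.AlgSpProper_helper7 Groth.Agent.Lib.AlgSpAffineMorH7
  Groth.Agent.Lib.AlgStAtlas Groth.Agent.Lib.AlgStPoints Groth.Agent.Lib.AlgStPtsCmp
  Groth.Agent.Lib.FibCatYoneda_helper6

section generic

variable {C : Type u₁} [Category.{v₁} C] {𝒳 : BasedCategory.{v₂, u₂} C}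
  {𝒴 : BasedCategory.{v₃, u₃} C}

theorem basedFunctor_ext {F G : 𝒳 ⥤ᵇ 𝒴} (h : F.toFunctor = G.toFunctor) : F = G := by
  obtain ⟨F', wF⟩ := F
  obtain ⟨G', wG⟩ := G
  dsimp only at h
  subst h
  rfl

end generic

variable {S : Scheme.{u}}

theorem overMap_comp {U V W : Over S} (a : U ⟶ V) (k : V ⟶ W) :
    AlgSt.overMap (a ≫ k) = BasedFunctor.comp (AlgSt.overMap a) (AlgSt.overMap k) :=
  basedFunctor_ext (Over.mapComp_eq a k)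

section stk

variable {𝒳 𝒴 𝒵 : AlgSt.Cat S}

/-- Composition of morphisms with `P` read on smooth charts. -/
theorem locQ_comp (h𝒳 : AlgSt.IsAlgStack Scheme.fppfPrecoverage 𝒳)
    (h𝒴 : AlgSt.IsAlgStack Scheme.fppfPrecoverage 𝒴)
    (h𝒵 : AlgSt.IsAlgStack Scheme.fppfPrecoverage 𝒵) (P : MorphismProperty (AlgSp.Sp S))
    (hP : AlgSp.IsSmoothLocalST P)
    (hPc : ∀ ⦃X₁ Y₁ Z₁ : AlgSp.Sp S⦄, AlgSp.IsAlgSpace X₁ → AlgSp.IsAlgSpace Y₁ →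
      AlgSp.IsAlgSpace Z₁ → ∀ (a : X₁ ⟶ Y₁) (b : Y₁ ⟶ Z₁), P a → P b → P (a ≫ b))
    (f : 𝒳 ⥤ᵇ 𝒴) (g : 𝒴 ⥤ᵇ 𝒵) (Hf : AlgSt.LocQ P f) (Hg : AlgSt.LocQ P g) :
    AlgSt.LocQ P (BasedFunctor.comp f g) := by
  obtain ⟨W, w, hw, hw'⟩ := h𝒵.atlas
  obtain ⟨V, k, y, β, hy, hy', hℓg, -⟩ := exists_good_chart_over h𝒴 h𝒵 g W w hw
  obtain ⟨U, a, x, α, hx, hx', hℓf, -⟩ := exists_good_chart_over h𝒳 h𝒴 f V y hy
  have Pa : P ((AlgSp.yon S).map a) :=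
    goodSch_of_locQ h𝒳.isStack.1 h𝒴.isStack.1 P hP f Hf U V x y a α hy hℓf
  have Pk : P ((AlgSp.yon S).map k) :=
    goodSch_of_locQ h𝒴.isStack.1 h𝒵.isStack.1 P hP g Hg V W y w k β hw hℓg
  let γ : BasedFunctor.comp x (BasedFunctor.comp f g) ≅
      BasedFunctor.comp (AlgSt.overMap (a ≫ k)) w :=
    whiskerRightIso α g ≪≫ whiskerLeftIso (AlgSt.overMap a) β ≪≫
      eqToIso (congrArg (fun t => BasedFunctor.comp t w) (overMap_comp a k).symm)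
  refine ⟨U, W, x, w, a ≫ k, γ, hx, hx' (hy' hw'), hw, ?_⟩
  rw [Functor.map_comp]
  exact hPc (AlgSp.IsAlgSpace.yon_obj U) (AlgSp.IsAlgSpace.yon_obj V) (AlgSp.IsAlgSpace.yon_obj W)
    _ _ Pa Pk

/-- The base change of a good square of charts of `f` along a morphism of target charts
covering `g : 𝒴' ⟶ 𝒴` is a good square of charts of the projection `𝒴' ×_𝒴 𝒳 ⟶ 𝒴'`. -/
theorem exists_bc_chart {𝒴' : AlgSt.Cat S} (h𝒳 : IsFibGrpd 𝒳.p) (h𝒴 : IsFibGrpd 𝒴.p)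
    (h𝒴' : IsFibGrpd 𝒴'.p) (f : 𝒳 ⥤ᵇ 𝒴) (g : 𝒴' ⥤ᵇ 𝒴)
    (U V : AlgSp.Space S) (x : AlgSt.ofSp U.obj ⥤ᵇ 𝒳) (y : AlgSt.ofSp V.obj ⥤ᵇ 𝒴) (a : U ⟶ V)
    (α : BasedFunctor.comp x f ≅ BasedFunctor.comp (AlgSt.ofSpMap a.hom) y)
    (V'' : AlgSp.Space S) (y'' : AlgSt.ofSp V''.obj ⥤ᵇ 𝒴') (k : V'' ⟶ V)
    (β : BasedFunctor.comp y'' g ≅ BasedFunctor.comp (AlgSt.ofSpMap k.hom) y) :
    ∃ (U'' : AlgSp.Space S) (p : U'' ⟶ V'') (q : U'' ⟶ U)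
      (X'' : AlgSt.ofSp U''.obj ⥤ᵇ fp g f)
      (α'' : BasedFunctor.comp X'' (fpFst g f) ≅ BasedFunctor.comp (AlgSt.ofSpMap p.hom) y''),
      IsPullback q.hom p.hom a.hom k.hom ∧
      ∀ Q : MorphismProperty (AlgSp.Sp S),
        AlgSt.RepByAlgSpWith Q (fpLift x (AlgSt.ofSpMap a.hom) α) →
        AlgSt.RepByAlgSpWith Q (fpLift X'' (AlgSt.ofSpMap p.hom) α'') := by
  let ℓ : AlgSt.ofSp U.obj ⥤ᵇ fp f y := fpLift x (AlgSt.ofSpMap a.hom) α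
  let π : fp g f ⥤ᵇ 𝒴' := fpFst g f
  have sqS := IsPullback.of_hasPullback a.hom k.hom
  have hU'' : AlgSp.IsAlgSpace (pullback a.hom k.hom) :=
    isAlgSpace_of_isPullback V.property.diag U.property V''.property sqS
  have sqP : IsPullback (pullback.fst a.hom k.hom).hom (pullback.snd a.hom k.hom).hom
      a.hom.hom k.hom.hom := sqS.map (sheafToPresheaf (AlgSp.J S) (Type (u + 1)))
  let U'' : AlgSp.Space S := ⟨pullback a.hom k.hom, hU''⟩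
  let p : U'' ⟶ V'' := ObjectProperty.homMk (pullback.snd a.hom k.hom)
  let q : U'' ⟶ U := ObjectProperty.homMk (pullback.fst a.hom k.hom)
  let E₀ : AlgSt.ofSp U''.obj ⥤ᵇ fp (BasedFunctor.comp ℓ (fpSnd f y)) (AlgSt.ofSpMap k.hom) :=
    pbFun sqP
  have hE₀ : IsEquivOver E₀ := pbFun_isEquivOver sqP
  let Ψ : fp (BasedFunctor.comp ℓ (fpSnd f y)) (AlgSt.ofSpMap k.hom) ⥤ᵇ
      fp (fpSnd f y) (AlgSt.ofSpMap k.hom) := pasteInner ℓ (fpSnd f y) (AlgSt.ofSpMap k.hom)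
  obtain ⟨T', ⟨ηT⟩, ⟨ζT⟩⟩ := unpaste_isEquivOver f y (AlgSt.ofSpMap k.hom)
  have hT' : IsEquivOver T' := isEquivOver_inverse ηT ζT
  let Θ : fp f (BasedFunctor.comp (AlgSt.ofSpMap k.hom) y) ⥤ᵇ fp π y'' :=
    BasedFunctor.comp (isoFun f β.symm) (BasedFunctor.comp (swap f (BasedFunctor.comp y'' g))
      (BasedFunctor.comp (paste y'' g f) (swap y'' π)))
  have hΘ : IsEquivOver Θ :=
    isEquivOver_comp (isoFun_isEquivOver f β.symm) (isEquivOver_comp (swap_isEquivOver _ _)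
      (isEquivOver_comp (paste_isEquivOver y'' g f) (swap_isEquivOver y'' π)))
  let Λ : AlgSt.ofSp U''.obj ⥤ᵇ fp π y'' :=
    BasedFunctor.comp E₀ (BasedFunctor.comp Ψ (BasedFunctor.comp T' Θ))
  have ι' : BasedFunctor.comp Λ (fpSnd π y'') ≅ AlgSt.ofSpMap p.hom :=
    whiskerLeftIso (BasedFunctor.comp E₀ Ψ)
      (whiskerRightIso ζT (fpSnd (fpSnd f y) (AlgSt.ofSpMap k.hom)))
  have hfib : IsFibGrpd (fp π y'').p :=
    isFibGrpd_fp π y'' (isFibGrpd_fp g f h𝒴' h𝒳 h𝒴) (Stk.isFibGrpd_ofPsh V''.obj.obj) h𝒴'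
  obtain ⟨κ⟩ := fpLift_eta_iso hfib Λ ι'
  refine ⟨U'', p, q, BasedFunctor.comp Λ (fpFst π y''), etaIso Λ ι', sqS, fun Q hℓ => ?_⟩
  have h1 : AlgSt.RepByAlgSpWith Q Ψ :=
    repWith_pasteInner Q ℓ (fpSnd f y) (AlgSt.ofSpMap k.hom) hℓ
  have h2 : AlgSt.RepByAlgSpWith Q (BasedFunctor.comp Ψ (BasedFunctor.comp T' Θ)) :=
    repWith_postcomp_equiv Q Ψ (BasedFunctor.comp T' Θ) (isEquivOver_comp hT' hΘ) h1
  have h3 : AlgSt.RepByAlgSpWith Q Λ := repWith_precomp_equiv Q E₀ hE₀ _ h2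
  exact repWith_of_iso Q κ.symm h3

/-- Base change of morphisms with `P` read on smooth charts. -/
theorem locQ_baseChange {𝒴' : AlgSt.Cat S} (h𝒳 : AlgSt.IsAlgStack Scheme.fppfPrecoverage 𝒳)
    (h𝒴 : AlgSt.IsAlgStack Scheme.fppfPrecoverage 𝒴)
    (h𝒴' : AlgSt.IsAlgStack Scheme.fppfPrecoverage 𝒴') (P : MorphismProperty (AlgSp.Sp S))
    (hP : AlgSp.IsSmoothLocalST P)
    (hPb : ∀ ⦃X₁ Y₁ X₂ Y₂ : AlgSp.Sp S⦄, AlgSp.IsAlgSpace X₁ → AlgSp.IsAlgSpace Y₁ →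
      AlgSp.IsAlgSpace X₂ → AlgSp.IsAlgSpace Y₂ →
      ∀ (a : X₁ ⟶ Y₁) (b : Y₂ ⟶ Y₁) (a' : X₂ ⟶ Y₂) (b' : X₂ ⟶ X₁),
      IsPullback b' a' a b → P a → P a')
    (f : 𝒳 ⥤ᵇ 𝒴) (g : 𝒴' ⥤ᵇ 𝒴) (H : AlgSt.LocQ P f) : AlgSt.LocQ P (fpFst g f) := by
  have hIs : IsoInv (AlgSp.LocP @Smooth : MorphismProperty (AlgSp.Sp S)) :=
    isoInv_locP _ etLocal_smooth
  have hLs : SchemeTestable (AlgSp.LocP @Smooth : MorphismProperty (AlgSp.Sp S)) :=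
    schemeTestable_locP _
  obtain ⟨V, y, hy, hy'⟩ := h𝒴.atlas
  obtain ⟨U, a, x, α, hx, hx', hℓ, hℓ'⟩ := exists_good_chart_over h𝒳 h𝒴 f V y hy
  have Pa : P ((AlgSp.yon S).map a) :=
    goodSch_of_locQ h𝒳.isStack.1 h𝒴.isStack.1 P hP f H U V x y a α hy hℓ
  let Us : AlgSp.Space S := (AlgSp.ofScheme S).obj U
  let Vs : AlgSp.Space S := (AlgSp.ofScheme S).obj V
  let xs : AlgSt.ofSp Us.obj ⥤ᵇ 𝒳 := BasedFunctor.comp (AlgSt.toOverCat U) x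
  let ys : AlgSt.ofSp Vs.obj ⥤ᵇ 𝒴 := BasedFunctor.comp (AlgSt.toOverCat V) y
  let as : Us ⟶ Vs := (AlgSp.ofScheme S).map a
  have hys : AlgSt.RepByAlgSpWith (AlgSp.LocP @Smooth) ys := repWith_toOverCat_comp _ y hy
  have hys' : AlgSt.RepByAlgSpWith AlgSp.IsSurjectiveMor ys := repWith_toOverCat_comp _ y hy'
  have hℓs : AlgSt.RepByAlgSpWith (AlgSp.LocP @Smooth)
      (fpLift xs (AlgSt.ofSpMap as.hom) (convIso x y f a α)) := good_conv _ x y f a α hℓ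
  have hℓs' : AlgSt.RepByAlgSpWith AlgSp.IsSurjectiveMor
      (fpLift xs (AlgSt.ofSpMap as.hom) (convIso x y f a α)) := good_conv _ x y f a α hℓ'
  obtain ⟨V', y', hy'₁, hy'₂⟩ := h𝒴'.atlas
  let V's : AlgSp.Space S := (AlgSp.ofScheme S).obj V'
  let y's : AlgSt.ofSp V's.obj ⥤ᵇ 𝒴' := BasedFunctor.comp (AlgSt.toOverCat V') y'
  have hy's₁ : AlgSt.RepByAlgSpWith (AlgSp.LocP @Smooth) y's := repWith_toOverCat_comp _ y' hy'₁
  have hy's₂ : AlgSt.RepByAlgSpWith AlgSp.IsSurjectiveMor y's := repWith_toOverCat_comp _ y' hy'₂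
  have hVsf : IsFibGrpd (AlgSt.ofSp Vs.obj).p := Stk.isFibGrpd_ofPsh _
  have hV'sf : IsFibGrpd (AlgSt.ofSp V's.obj).p := Stk.isFibGrpd_ofPsh _
  obtain ⟨V'', v₁, e, he, ⟨i⟩, -⟩ :=
    exists_space_of_repWith' hVsf h𝒴.isStack.1 _ hIs hLs ys hys V's (BasedFunctor.comp y's g)
  have hfibW : IsFibGrpd (fp (BasedFunctor.comp y's g) ys).p :=
    isFibGrpd_fp _ _ hV'sf hVsf h𝒴.isStack.1
  let y'' : AlgSt.ofSp V''.obj ⥤ᵇ 𝒴' :=
    BasedFunctor.comp e (BasedFunctor.comp (fpFst (BasedFunctor.comp y's g) ys) y's)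
  have hy''₁ : AlgSt.RepByAlgSpWith (AlgSp.LocP @Smooth) y'' :=
    repWith_precomp_equiv _ e he _ (repWith_comp' hfibW hV'sf _ hIs hLs comp_locP_smooth
      (fpFst (BasedFunctor.comp y's g) ys) y's
      (repWith_baseChange _ ys (BasedFunctor.comp y's g) hys) hy's₁)
  have hy''₂ : AlgSt.RepByAlgSpWith AlgSp.IsSurjectiveMor y'' :=
    repWith_precomp_equiv _ e he _ (repWith_comp' hfibW hV'sf _ isoInv_isSurjectiveMor
      schemeTestable_isSurjectiveMor comp_isSurjectiveMor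
      (fpFst (BasedFunctor.comp y's g) ys) y's
      (repWith_baseChange _ ys (BasedFunctor.comp y's g) hys') hy's₂)
  let kp : V''.obj.obj ⟶ Vs.obj.obj :=
    mapOf (BasedFunctor.comp e (fpSnd (BasedFunctor.comp y's g) ys))
  let k : V'' ⟶ Vs := ObjectProperty.homMk (ObjectProperty.homMk kp)
  let β : BasedFunctor.comp y'' g ≅ BasedFunctor.comp (AlgSt.ofSpMap k.hom) ys :=
    whiskerLeftIso e (fpIso (BasedFunctor.comp y's g) ys) ≪≫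
      whiskerRightIso (isoOf (BasedFunctor.comp e (fpSnd (BasedFunctor.comp y's g) ys))) ys
  obtain ⟨U'', p, q, X'', α'', sq, hΛ⟩ :=
    exists_bc_chart h𝒳.isStack.1 h𝒴.isStack.1 h𝒴'.isStack.1 f g Us Vs xs ys as
      (convIso x y f a α) V'' y'' k β
  have Pp : P p.hom :=
    hPb Us.property Vs.property U''.property V''.property as.hom k.hom p.hom q.hom sq Pa
  have hfibP : IsFibGrpd (fp g f).p :=
    isFibGrpd_fp g f h𝒴'.isStack.1 h𝒳.isStack.1 h𝒴.isStack.1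
  have hfibπ : IsFibGrpd (fp (fpFst g f) y'').p :=
    isFibGrpd_fp _ _ hfibP (Stk.isFibGrpd_ofPsh V''.obj.obj) h𝒴'.isStack.1
  have hU''f : IsFibGrpd (AlgSt.ofSp U''.obj).p := Stk.isFibGrpd_ofPsh _
  have hX''₁ : AlgSt.RepByAlgSpWith (AlgSp.LocP @Smooth) X'' :=
    repWith_comp' hU''f hfibπ _ hIs hLs comp_locP_smooth
      (fpLift X'' (AlgSt.ofSpMap p.hom) α'') (fpFst (fpFst g f) y'') (hΛ _ hℓs)
      (repWith_baseChange _ y'' (fpFst g f) hy''₁)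
  have hX''₂ : AlgSt.RepByAlgSpWith AlgSp.IsSurjectiveMor X'' :=
    repWith_comp' hU''f hfibπ _ isoInv_isSurjectiveMor schemeTestable_isSurjectiveMor
      comp_isSurjectiveMor
      (fpLift X'' (AlgSt.ofSpMap p.hom) α'') (fpFst (fpFst g f) y'') (hΛ _ hℓs')
      (repWith_baseChange _ y'' (fpFst g f) hy''₂)
  have hP𝒫 : AlgSt.IsAlgStack Scheme.fppfPrecoverage (fp g f) :=
    isAlgStack_fp h𝒴.isStack h𝒴.diag h𝒴' h𝒳 g f
  exact locQ_of_locQS hP𝒫 h𝒴' P hP (fpFst g f)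
    ⟨U'', V'', X'', y'', p, α'', hX''₁, hX''₂, hy''₁, Pp⟩

/-- A flat, locally finitely presented, surjective morphism (in the chart sense) is dominated by a
representable fppf covering through a smooth morphism. -/
theorem exists_fppf_cover_of_locQ' (h𝒵 : IsFibGrpd 𝒵.p) (h𝒴 : IsFibGrpd 𝒴.p) (z : 𝒵 ⥤ᵇ 𝒴)
    (hz₁ : AlgSt.LocQ (AlgSp.LocP @Flat) z)
    (hz₂ : AlgSt.LocQ (AlgSp.LocP @LocallyOfFinitePresentation) z)
    (hz₃ : AlgSt.IsSurjective z) :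
    ∃ (𝒞 : AlgSt.Cat S) (_ : IsFibGrpd 𝒞.p) (v : 𝒞 ⥤ᵇ 𝒵),
      AlgSt.RepByAlgSpWith (AlgSp.LocP @Smooth) v ∧
      AlgSt.RepByAlgSpWith (AlgSp.LocP @Flat) (BasedFunctor.comp v z) ∧
      AlgSt.RepByAlgSpWith (AlgSp.LocP @LocallyOfFinitePresentation) (BasedFunctor.comp v z) ∧
      AlgSt.RepByAlgSpWith AlgSp.IsSurjectiveMor (BasedFunctor.comp v z) := by
  have hIs : IsoInv (AlgSp.LocP @Smooth : MorphismProperty (AlgSp.Sp S)) :=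
    isoInv_locP _ etLocal_smooth
  have hLs : SchemeTestable (AlgSp.LocP @Smooth : MorphismProperty (AlgSp.Sp S)) :=
    schemeTestable_locP _
  obtain ⟨U₁, V₁, x₁, y₁, h₁, α₁, hx₁, hx₁', hy₁, hh₁⟩ := hz₁
  obtain ⟨U₂, V₂, x₂, y₂, h₂, α₂, hx₂, hx₂', hy₂, hh₂⟩ := hz₂
  have hU₁ : IsFibGrpd (FibCat.overCat U₁).p := isFibGrpd_over_forget U₁
  have hU₂ : IsFibGrpd (FibCat.overCat U₂).p := isFibGrpd_over_forget U₂
  have hV₁ : IsFibGrpd (FibCat.overCat V₁).p := isFibGrpd_over_forget V₁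
  have hV₂ : IsFibGrpd (FibCat.overCat V₂).p := isFibGrpd_over_forget V₂
  have h𝒞 : IsFibGrpd (fp x₁ x₂).p := isFibGrpd_fp x₁ x₂ hU₁ hU₂ h𝒵
  have f1 : AlgSt.RepByAlgSpWith (AlgSp.LocP @Flat) (BasedFunctor.comp x₁ z) :=
    repWith_of_iso _ α₁.symm (repWith_comp' hU₁ hV₁ _ (isoInv_locP _ etLocal_flat)
      (schemeTestable_locP _) comp_locP_flat (AlgSt.overMap h₁) y₁
      (repWith_overMap _ (bc_locP _ etLocal_flat) h₁ hh₁) (repWith_flat_of_smooth y₁ hy₁))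
  have p2 : AlgSt.RepByAlgSpWith (AlgSp.LocP @LocallyOfFinitePresentation)
      (BasedFunctor.comp x₂ z) :=
    repWith_of_iso _ α₂.symm (repWith_comp' hU₂ hV₂ _
      (isoInv_locP _ etLocal_locallyOfFinitePresentation)
      (schemeTestable_locP _) comp_locP_lfp (AlgSt.overMap h₂) y₂
      (repWith_overMap _ (bc_locP _ etLocal_locallyOfFinitePresentation) h₂ hh₂)
      (repWith_lfp_of_smooth y₂ hy₂))
  have F : AlgSt.RepByAlgSpWith (AlgSp.LocP @Flat)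
      (BasedFunctor.comp (BasedFunctor.comp (fpFst x₁ x₂) x₁) z) :=
    repWith_comp' h𝒞 hU₁ _ (isoInv_locP _ etLocal_flat)
      (schemeTestable_locP _) comp_locP_flat (fpFst x₁ x₂) (BasedFunctor.comp x₁ z)
      (repWith_flat_of_smooth _ (repWith_baseChange _ x₂ x₁ hx₂)) f1
  have L0 : AlgSt.RepByAlgSpWith (AlgSp.LocP @LocallyOfFinitePresentation)
      (BasedFunctor.comp (BasedFunctor.comp (fpSnd x₁ x₂) x₂) z) :=
    repWith_comp' h𝒞 hU₂ _ (isoInv_locP _ etLocal_locallyOfFinitePresentation)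
      (schemeTestable_locP _) comp_locP_lfp (fpSnd x₁ x₂) (BasedFunctor.comp x₂ z)
      (repWith_lfp_of_smooth _ (repWith_fpSnd _ x₁ x₂ hx₁)) p2
  have L : AlgSt.RepByAlgSpWith (AlgSp.LocP @LocallyOfFinitePresentation)
      (BasedFunctor.comp (BasedFunctor.comp (fpFst x₁ x₂) x₁) z) :=
    repWith_of_iso _ (whiskerRightIso (fpIso x₁ x₂) z).symm L0
  have Sm : AlgSt.RepByAlgSpWith (AlgSp.LocP @Smooth) (BasedFunctor.comp (fpFst x₁ x₂) x₁) :=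
    repWith_comp' h𝒞 hU₁ _ hIs hLs comp_locP_smooth (fpFst x₁ x₂) x₁
      (repWith_baseChange _ x₂ x₁ hx₂) hx₁
  refine ⟨fp x₁ x₂, h𝒞, BasedFunctor.comp (fpFst x₁ x₂) x₁, Sm, F, L, ?_⟩
  have A : AlgSt.RepByAlgSpWith AlgSp.IsSurjectiveMor (fpFst x₁ x₂) :=
    repWith_baseChange _ x₂ x₁ hx₂'
  have s1 : AlgSt.IsSurjective (fpFst x₁ x₂) :=
    (isSurjective_iff_repWith h𝒞 hU₁ _ (repByAlgSp1_of_repWith _ A)).2 A
  have s2 : AlgSt.IsSurjective x₁ :=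
    (isSurjective_iff_repWith hU₁ h𝒵 x₁ (repByAlgSp1_of_repWith _ hx₁')).2 hx₁'
  refine (isSurjective_iff_repWith h𝒞 h𝒴 _ (repByAlgSp1_of_repWith _ F)).1 ?_
  intro t
  obtain ⟨a, rfl⟩ := hz₃ t
  obtain ⟨b, rfl⟩ := s2 a
  obtain ⟨c, rfl⟩ := s1 b
  exact ⟨c, by rw [map_comp, map_comp]⟩

/-- Descent of `P` read on smooth charts along a flat, locally finitely presented, surjective
morphism of algebraic stacks. -/
theorem locQ_of_fppf_cover (h𝒳 : AlgSt.IsAlgStack Scheme.fppfPrecoverage 𝒳)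
    (h𝒴 : AlgSt.IsAlgStack Scheme.fppfPrecoverage 𝒴)
    (h𝒵 : AlgSt.IsAlgStack Scheme.fppfPrecoverage 𝒵) (P : MorphismProperty (AlgSp.Sp S))
    (hP : AlgSp.IsSmoothLocalST P) (hP₂ : AlgSp.IsLocalOnBase AlgSp.IsFppfCover P)
    (f : 𝒳 ⥤ᵇ 𝒴) (z : 𝒵 ⥤ᵇ 𝒴)
    (hz₁ : AlgSt.LocQ (AlgSp.LocP @Flat) z)
    (hz₂ : AlgSt.LocQ (AlgSp.LocP @LocallyOfFinitePresentation) z)
    (hz₃ : AlgSt.IsSurjective z) (H : AlgSt.LocQ P (fpFst z f)) : AlgSt.LocQ P f := by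
  have hIs : IsoInv (AlgSp.LocP @Smooth : MorphismProperty (AlgSp.Sp S)) :=
    isoInv_locP _ etLocal_smooth
  have hLs : SchemeTestable (AlgSp.LocP @Smooth : MorphismProperty (AlgSp.Sp S)) :=
    schemeTestable_locP _
  obtain ⟨V, y, hy, hy'⟩ := h𝒴.atlas
  obtain ⟨U, a, x, α, hx, hx', hℓ, -⟩ := exists_good_chart_over h𝒳 h𝒴 f V y hy
  let Us : AlgSp.Space S := (AlgSp.ofScheme S).obj U
  let Vs : AlgSp.Space S := (AlgSp.ofScheme S).obj V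
  let xs : AlgSt.ofSp Us.obj ⥤ᵇ 𝒳 := BasedFunctor.comp (AlgSt.toOverCat U) x
  let ys : AlgSt.ofSp Vs.obj ⥤ᵇ 𝒴 := BasedFunctor.comp (AlgSt.toOverCat V) y
  let as : Us ⟶ Vs := (AlgSp.ofScheme S).map a
  have hys : AlgSt.RepByAlgSpWith (AlgSp.LocP @Smooth) ys := repWith_toOverCat_comp _ y hy
  have hℓs : AlgSt.RepByAlgSpWith (AlgSp.LocP @Smooth)
      (fpLift xs (AlgSt.ofSpMap as.hom) (convIso x y f a α)) := good_conv _ x y f a α hℓ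
  have hVsf : IsFibGrpd (AlgSt.ofSp Vs.obj).p := Stk.isFibGrpd_ofPsh _
  obtain ⟨𝒞, h𝒞, v, hv, c1, c2, c3⟩ :=
    exists_fppf_cover_of_locQ' h𝒵.isStack.1 h𝒴.isStack.1 z hz₁ hz₂ hz₃
  let c : 𝒞 ⥤ᵇ 𝒴 := BasedFunctor.comp v z
  have hc' : AlgSt.RepByAlgSpWith ⊤ c := repWith_mono' (fun _ _ _ _ _ => trivial) _ c1
  obtain ⟨V'', k, e, he, ⟨i⟩, -⟩ :=
    exists_space_of_repWith' h𝒞 h𝒴.isStack.1 ⊤ isoInv_top schemeTestable_top c hc' Vs ys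
  have hk₁ : AlgSp.LocP @Flat k.hom :=
    prop_of_repWith_ofSp _ (isoInv_locP _ etLocal_flat) (schemeTestable_locP _) k (fpFst ys c)
      e he i (repWith_baseChange _ c ys c1)
  have hk₂ : AlgSp.LocP @LocallyOfFinitePresentation k.hom :=
    prop_of_repWith_ofSp _ (isoInv_locP _ etLocal_locallyOfFinitePresentation)
      (schemeTestable_locP _) k (fpFst ys c) e he i (repWith_baseChange _ c ys c2)
  have hk₃ : AlgSp.IsSurjectiveMor k.hom :=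
    prop_of_repWith_ofSp _ isoInv_isSurjectiveMor schemeTestable_isSurjectiveMor k (fpFst ys c)
      e he i (repWith_baseChange _ c ys c3)
  have hfibW : IsFibGrpd (fp ys c).p := isFibGrpd_fp _ _ hVsf h𝒞 h𝒴.isStack.1
  let y'' : AlgSt.ofSp V''.obj ⥤ᵇ 𝒵 :=
    BasedFunctor.comp e (BasedFunctor.comp (fpSnd ys c) v)
  have hy'' : AlgSt.RepByAlgSpWith (AlgSp.LocP @Smooth) y'' :=
    repWith_precomp_equiv _ e he _ (repWith_comp' hfibW h𝒞 _ hIs hLs comp_locP_smooth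
      (fpSnd ys c) v (repWith_fpSnd _ ys c hys) hv)
  let β : BasedFunctor.comp y'' z ≅ BasedFunctor.comp (AlgSt.ofSpMap k.hom) ys :=
    whiskerLeftIso e (fpIso ys c).symm ≪≫ whiskerRightIso i ys
  obtain ⟨U'', p, q, X'', α'', sq, hΛ⟩ :=
    exists_bc_chart h𝒳.isStack.1 h𝒴.isStack.1 h𝒵.isStack.1 f z Us Vs xs ys as
      (convIso x y f a α) V'' y'' k β
  have hfibP : IsFibGrpd (fp z f).p :=
    isFibGrpd_fp z f h𝒵.isStack.1 h𝒳.isStack.1 h𝒴.isStack.1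
  have good := goodS_of_locQS hfibP h𝒵.isStack.1 P hP (fpFst z f) (locQS_of_locQ P _ H)
  have Pp : P p.hom := good U'' V'' X'' y'' p α'' hy'' (hΛ _ hℓs)
  have key := hP₂ (ι := PUnit.{u + 1}) (Y := Vs.obj) (fun _ => V''.obj) (fun _ => k.hom)
    Vs.property (fun _ => V''.property) ⟨fun _ => ⟨hk₁, hk₂⟩, fun t => ⟨PUnit.unit, hk₃ t⟩⟩
    as.hom Us.property (fun _ => U''.obj) (fun _ => p.hom) (fun _ => q.hom)
    (fun _ => U''.property) (fun _ => sq)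
  exact ⟨U, V, x, y, a, α, hx, hx' hy', hy, key.2 (fun _ => Pp)⟩

end stk

end Groth.Agent.Lib.AlgStLocQ
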