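import Groth.Agent.Lib.AlgStLocQ4_lead
import Groth.Agent.Lib.AlgSpLocSurj_helper7
import Groth.Agent.S0114
import Groth.Agent.Lib.AlgSpLocP9_helper7
import Groth.Agent.Lib.AlgSpNoethDesc_helper7

/-!
# Descent of lft / lfp along an fppf source for morphisms of algebraic stacks (helper7, on lead's
AlgStLocQ library)
-/

set_option autoImplicit false

universe w v₁ v₂ v₃ v₄ v₅ v₆ u₁ u₂ u₃ u₄ u₅ u₆ u

open CategoryTheory CategoryTheory.Limits AlgebraicGeometry Opposite FibCat Stk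

namespace Groth.Agent.Lib.AlgStLocQ

open AlgSt Groth.Agent.Lib.FibCat_helper6 Groth.Agent.Lib.FibCat3_helper6
  Groth.Agent.Lib.FibCat14_helper6 Groth.Agent.Lib.FibCat12_helper6
  Groth.Agent.Lib.FibCatPaste Groth.Agent.Lib.FibCatSwap
  Groth.Agent.Lib.FibCatIsoFun
  Groth.Agent.Lib.OfPshCalc Groth.Agent.Lib.AlgStBC
  Groth.Agent.Lib.AlgStEquiv Groth.Agent.Lib.AlgStEquivP Groth.Agent.Lib.AlgStEquivInv
  Groth.Agent.Lib.OfPshAlgSt Groth.Agent.Lib.LiftSqBC Groth.Agent.Lib.LiftSqComp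
  Groth.Agent.Lib.OfPshWith Groth.Agent.Lib.FibCatDiagSec Groth.Agent.Lib.AlgStDiagRep
  Groth.Agent.Lib.FibCatDiagBC Groth.Agent.Lib.FibCatMagic Groth.Agent.Lib.FibCatProd
  Groth.Agent.Lib.AlgStDiag Groth.Agent.Lib.AlgStLocal
  Groth.Agent.Lib.AlgSpQC_helper7 Groth.Agent.Lib.AlgSpDiag_helper7
  Groth.Agent.Lib.AlgSpPullback_helper7 Groth.Agent.Lib.AlgSpRepBySp_helper7
  Groth.Agent.Lib.AlgSpPoints_helper7 Groth.Agent.Lib.AlgSpLocP_helper7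
  Groth.Agent.Lib.AlgSpBasic_helper7 Groth.Agent.Lib.AlgSpSep_helper7
  Groth.Agent.Lib.AlgSpLocP4_helper7 Groth.Agent.Lib.AlgSpLocP5_helper7
  Groth.Agent.Lib.AlgSpLocP7_helper7 Groth.Agent.Lib.AlgSpQC2_helper7
  Groth.Agent.Lib.AlgSpLocP8_helper7 Groth.Agent.Lib.AlgSpLocP10_helper7
  Groth.Agent.Lib.AlgSpFpqc3_helper7 Groth.Agent.Lib.AlgSpLocP6_helper7
  Groth.Agent.Lib.AlgSpFpqc2_helper7 Groth.Agent.Lib.AlgSpFpqc_helper7
  Groth.Agent.Lib.AlgSpProper_helper7 Groth.Agent.Lib.AlgSpAffineMorH7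
  Groth.Agent.Lib.AlgStAtlas Groth.Agent.Lib.AlgStPoints Groth.Agent.Lib.AlgStPtsCmp
  Groth.Agent.Lib.FibCatYoneda_helper6


open Groth.Agent.Lib.AlgSpSmST_helper7 Groth.Agent.Lib.AlgSpSrc_helper7
  Groth.Agent.Lib.SchSrcLocal_helper7 Groth.Agent.Lib.SchSrcLocal2_helper7
  Groth.Agent.Lib.AlgSpLocP9_helper7 Groth.Agent.Lib.AlgSpNoethDesc_helper7

variable {S : Scheme.{u}}

section stk

variable {𝒳 𝒴 𝒵 : AlgSt.Cat S}

/-- S13007. -/
theorem locQ_lfp_of_comp_fppf (h𝒳 : AlgSt.IsAlgStack Scheme.fppfPrecoverage 𝒳)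
    (h𝒴 : AlgSt.IsAlgStack Scheme.fppfPrecoverage 𝒴)
    (h𝒵 : AlgSt.IsAlgStack Scheme.fppfPrecoverage 𝒵) (f : 𝒳 ⥤ᵇ 𝒴) (g : 𝒴 ⥤ᵇ 𝒵)
    (hf₁ : AlgSt.LocQ (AlgSp.LocP @Flat) f)
    (hf₂ : AlgSt.LocQ (AlgSp.LocP @LocallyOfFinitePresentation) f)
    (hf₃ : AlgSt.IsSurjective f)
    (H : AlgSt.LocQ (AlgSp.LocP @LocallyOfFinitePresentation) (BasedFunctor.comp f g)) :
    AlgSt.LocQ (AlgSp.LocP @LocallyOfFinitePresentation) g := by
  have hIs : IsoInv (AlgSp.LocP @Smooth : MorphismProperty (AlgSp.Sp S)) :=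
    isoInv_locP _ etLocal_smooth
  have hLs : SchemeTestable (AlgSp.LocP @Smooth : MorphismProperty (AlgSp.Sp S)) :=
    schemeTestable_locP _
  obtain ⟨W, w, hw, hw'⟩ := h𝒵.atlas
  obtain ⟨V, k, y, β, hy, hy', hℓg, -⟩ := exists_good_chart_over h𝒴 h𝒵 g W w hw
  obtain ⟨U, a, x, α, hx, hx', hℓf, hℓf'⟩ := exists_good_chart_over h𝒳 h𝒴 f V y hy
  obtain ⟨x', γ, hγ⟩ := exists_comp_chart f g x y w (AlgSt.overMap a) (AlgSt.overMap k) α β
    (AlgSt.overMap (a ≫ k)) (eqToIso (overMap_comp a k).symm)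
    (isFibGrpd_over_forget U) (isFibGrpd_over_forget V) (isFibGrpd_over_forget W)
    h𝒳.isStack.1 h𝒴.isStack.1 h𝒵.isStack.1
  have hℓ := hγ _ hIs hLs comp_locP_smooth hℓf hℓg
  have Pak : AlgSp.LocP @LocallyOfFinitePresentation ((AlgSp.yon S).map (a ≫ k)) :=
    goodSch_of_locQ h𝒳.isStack.1 h𝒵.isStack.1 _ isSmoothLocalST_lfp _ H U W x' w (a ≫ k) γ hw hℓ
  have Pa1 : AlgSp.LocP @Flat ((AlgSp.yon S).map a) :=
    goodSch_of_locQ h𝒳.isStack.1 h𝒴.isStack.1 _ isSmoothLocalST_flat f hf₁ U V x y a α hy hℓf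
  have Pa2 : AlgSp.LocP @LocallyOfFinitePresentation ((AlgSp.yon S).map a) :=
    goodSch_of_locQ h𝒳.isStack.1 h𝒴.isStack.1 _ isSmoothLocalST_lfp f hf₂ U V x y a α hy hℓf
  have sa : AlgSp.IsSurjectiveMor ((AlgSp.yon S).map a) :=
    isSurjectiveMor_of_chart h𝒳.isStack.1 h𝒴.isStack.1 f hf₃ ((AlgSp.ofScheme S).obj U)
      ((AlgSp.ofScheme S).obj V) (BasedFunctor.comp (AlgSt.toOverCat U) x)
      (BasedFunctor.comp (AlgSt.toOverCat V) y) ((AlgSp.ofScheme S).map a) (convIso x y f a α)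
      (good_conv _ x y f a α hℓf')
  haveI sa' : Surjective a.left :=
    (AlgSp.repWith_yon_map_iff @Surjective a).1
      ((repWith_surjective_iff _ (AlgSp.representable_yon_map a)).2 sa)
  haveI fa : Flat a.left := AlgSp.locP_yon_map Pa1
  haveI pa : LocallyOfFinitePresentation a.left := AlgSp.locP_yon_map Pa2
  haveI pak : LocallyOfFinitePresentation (a.left ≫ k.left) := AlgSp.locP_yon_map Pak
  have pk : LocallyOfFinitePresentation k.left := Groth.Agent.S0114.result a.left k.left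
  exact ⟨V, W, y, w, k, β, hy, hy' hw', hw,
    locP_yon_map_of _
      (fun _ _ g (_ : Etale g) => (inferInstance : LocallyOfFinitePresentation g)) k pk⟩

/-- Locally of finite type descends along an fppf source (chart reading). -/
theorem locQ_lft_of_comp_fppf (h𝒳 : AlgSt.IsAlgStack Scheme.fppfPrecoverage 𝒳)
    (h𝒴 : AlgSt.IsAlgStack Scheme.fppfPrecoverage 𝒴)
    (h𝒵 : AlgSt.IsAlgStack Scheme.fppfPrecoverage 𝒵) (f : 𝒳 ⥤ᵇ 𝒴) (g : 𝒴 ⥤ᵇ 𝒵)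
    (hf₁ : AlgSt.LocQ (AlgSp.LocP @Flat) f)
    (hf₂ : AlgSt.LocQ (AlgSp.LocP @LocallyOfFinitePresentation) f)
    (hf₃ : AlgSt.IsSurjective f)
    (H : AlgSt.LocQ (AlgSp.LocP @LocallyOfFiniteType) (BasedFunctor.comp f g)) :
    AlgSt.LocQ (AlgSp.LocP @LocallyOfFiniteType) g := by
  have hIs : IsoInv (AlgSp.LocP @Smooth : MorphismProperty (AlgSp.Sp S)) :=
    isoInv_locP _ etLocal_smooth
  have hLs : SchemeTestable (AlgSp.LocP @Smooth : MorphismProperty (AlgSp.Sp S)) :=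
    schemeTestable_locP _
  obtain ⟨W, w, hw, hw'⟩ := h𝒵.atlas
  obtain ⟨V, k, y, β, hy, hy', hℓg, -⟩ := exists_good_chart_over h𝒴 h𝒵 g W w hw
  obtain ⟨U, a, x, α, hx, hx', hℓf, hℓf'⟩ := exists_good_chart_over h𝒳 h𝒴 f V y hy
  obtain ⟨x', γ, hγ⟩ := exists_comp_chart f g x y w (AlgSt.overMap a) (AlgSt.overMap k) α β
    (AlgSt.overMap (a ≫ k)) (eqToIso (overMap_comp a k).symm)
    (isFibGrpd_over_forget U) (isFibGrpd_over_forget V) (isFibGrpd_over_forget W)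
    h𝒳.isStack.1 h𝒴.isStack.1 h𝒵.isStack.1
  have hℓ := hγ _ hIs hLs comp_locP_smooth hℓf hℓg
  have Pak : AlgSp.LocP @LocallyOfFiniteType ((AlgSp.yon S).map (a ≫ k)) :=
    goodSch_of_locQ h𝒳.isStack.1 h𝒵.isStack.1 _ isSmoothLocalST_lft _ H U W x' w (a ≫ k) γ hw hℓ
  have Pa1 : AlgSp.LocP @Flat ((AlgSp.yon S).map a) :=
    goodSch_of_locQ h𝒳.isStack.1 h𝒴.isStack.1 _ isSmoothLocalST_flat f hf₁ U V x y a α hy hℓf
  have Pa2 : AlgSp.LocP @LocallyOfFinitePresentation ((AlgSp.yon S).map a) :=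
    goodSch_of_locQ h𝒳.isStack.1 h𝒴.isStack.1 _ isSmoothLocalST_lfp f hf₂ U V x y a α hy hℓf
  have sa : AlgSp.IsSurjectiveMor ((AlgSp.yon S).map a) :=
    isSurjectiveMor_of_chart h𝒳.isStack.1 h𝒴.isStack.1 f hf₃ ((AlgSp.ofScheme S).obj U)
      ((AlgSp.ofScheme S).obj V) (BasedFunctor.comp (AlgSt.toOverCat U) x)
      (BasedFunctor.comp (AlgSt.toOverCat V) y) ((AlgSp.ofScheme S).map a) (convIso x y f a α)
      (good_conv _ x y f a α hℓf')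
  haveI sa' : Surjective a.left :=
    (AlgSp.repWith_yon_map_iff @Surjective a).1
      ((repWith_surjective_iff _ (AlgSp.representable_yon_map a)).2 sa)
  haveI fa : Flat a.left := AlgSp.locP_yon_map Pa1
  haveI pa : LocallyOfFinitePresentation a.left := AlgSp.locP_yon_map Pa2
  haveI pak : LocallyOfFiniteType (a.left ≫ k.left) := AlgSp.locP_yon_map Pak
  have pk : LocallyOfFiniteType k.left :=
    Groth.Agent.Lib.AlgSpLocSurjH7.lft_of_fppf_comp a.left k.left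
  exact ⟨V, W, y, w, k, β, hy, hy' hw', hw,
    locP_yon_map_of _
      (fun _ _ g (_ : Etale g) => (inferInstance : LocallyOfFiniteType g)) k pk⟩

/-- S13001. -/
theorem locQ_lft_of_precomp_fppf (h𝒳 : AlgSt.IsAlgStack Scheme.fppfPrecoverage 𝒳)
    (h𝒴 : AlgSt.IsAlgStack Scheme.fppfPrecoverage 𝒴)
    (h𝒵 : AlgSt.IsAlgStack Scheme.fppfPrecoverage 𝒵) (f : 𝒳 ⥤ᵇ 𝒴) (g : 𝒴 ⥤ᵇ 𝒵)
    (hf₁ : AlgSt.RepByAlgSpWith (AlgSp.LocP @Flat) f)
    (hf₂ : AlgSt.RepByAlgSpWith (AlgSp.LocP @LocallyOfFinitePresentation) f)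
    (hf₃ : AlgSt.RepByAlgSpWith AlgSp.IsSurjectiveMor f)
    (H : AlgSt.LocQ (AlgSp.LocP @LocallyOfFiniteType) (BasedFunctor.comp f g)) :
    AlgSt.LocQ (AlgSp.LocP @LocallyOfFiniteType) g := by
  have hf1 : AlgSt.RepByAlgSp1 f := repByAlgSp1_of_repWith _ hf₁
  have hz₁ : AlgSt.LocQ (AlgSp.LocP @Flat) f :=
    (locQ_iff_repWith _ isSmoothLocalST_flat (bc_locP _ etLocal_flat)
      (isLocalOnBase_fppf_of_fpqc' isLocalOnBase_fpqc_locP_flat) h𝒳 h𝒴 f hf1).2 hf₁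
  have hz₂ : AlgSt.LocQ (AlgSp.LocP @LocallyOfFinitePresentation) f :=
    (locQ_iff_repWith _ isSmoothLocalST_lfp (bc_locP _ etLocal_locallyOfFinitePresentation)
      (isLocalOnBase_fppf_of_fpqc' isLocalOnBase_fpqc_locP_locallyOfFinitePresentation)
      h𝒳 h𝒴 f hf1).2 hf₂
  have hz₃ : AlgSt.IsSurjective f :=
    (isSurjective_iff_repWith h𝒳.isStack.1 h𝒴.isStack.1 f hf1).2 hf₃
  exact locQ_lft_of_comp_fppf h𝒳 h𝒴 h𝒵 f g hz₁ hz₂ hz₃ H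

end stk

end Groth.Agent.Lib.AlgStLocQ
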