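import Groth.Agent.Lib.AlgStLocQ_lead
import Groth.Agent.Lib.AlgSpSmST_helper7

/-!
# Chart independence for properties smooth local on source and target (lead)
-/

set_option autoImplicit false

universe w v₁ v₂ v₃ v₄ v₅ v₆ u₁ u₂ u₃ u₄ u₅ u₆ u

open CategoryTheory CategoryTheory.Limits AlgebraicGeometry Opposite FibCat Stk

namespace Groth.Agent.Lib.AlgStLocQ

open AlgSt Groth.Agent.Lib.FibCat_helper6 Groth.Agent.Lib.FibCat3_helper6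
  Groth.Agent.Lib.FibCat14_helper6 Groth.Agent.Lib.FibCat12_helper6
  Groth.Agent.Lib.FibCatPaste Groth.Agent.Lib.FibCatSwap
  Groth.Agent.Lib.FibCatIsoFun
  Groth.Agent.Lib.OfPshCalc Groth.Agent.Lib.AlgStBC
  Groth.Agent.Lib.AlgStEquiv Groth.Agent.Lib.AlgStEquivP Groth.Agent.Lib.AlgStEquivInv
  Groth.Agent.Lib.OfPshAlgSt Groth.Agent.Lib.LiftSqBC Groth.Agent.Lib.LiftSqComp
  Groth.Agent.Lib.OfPshWith Groth.Agent.Lib.FibCatDiagSec Groth.Agent.Lib.AlgStDiagRep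
  Groth.Agent.Lib.FibCatDiagBC Groth.Agent.Lib.FibCatMagic Groth.Agent.Lib.FibCatProd
  Groth.Agent.Lib.AlgStDiag Groth.Agent.Lib.AlgStLocal
  Groth.Agent.Lib.AlgSpQC_helper7 Groth.Agent.Lib.AlgSpDiag_helper7
  Groth.Agent.Lib.AlgSpPullback_helper7 Groth.Agent.Lib.AlgSpRepBySp_helper7
  Groth.Agent.Lib.AlgSpPoints_helper7 Groth.Agent.Lib.AlgSpLocP_helper7
  Groth.Agent.Lib.AlgSpBasic_helper7 Groth.Agent.Lib.AlgSpSep_helper7
  Groth.Agent.Lib.AlgSpLocP4_helper7 Groth.Agent.Lib.AlgSpLocP5_helper7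
  Groth.Agent.Lib.AlgSpLocP7_helper7 Groth.Agent.Lib.AlgSpQC2_helper7
  Groth.Agent.Lib.AlgSpLocP8_helper7 Groth.Agent.Lib.AlgSpLocP10_helper7
  Groth.Agent.Lib.AlgSpFpqc3_helper7 Groth.Agent.Lib.AlgSpLocP6_helper7
  Groth.Agent.Lib.AlgSpFpqc2_helper7 Groth.Agent.Lib.AlgSpFpqc_helper7
  Groth.Agent.Lib.AlgSpProper_helper7 Groth.Agent.Lib.AlgSpAffineMorH7
  Groth.Agent.Lib.AlgStAtlas Groth.Agent.Lib.AlgStPoints Groth.Agent.Lib.AlgStPtsCmp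
  Groth.Agent.Lib.FibCatYoneda_helper6

section generic

variable {C : Type u₁} [Category.{v₁} C]

section pb

variable {P Q R K : Cᵒᵖ ⥤ Type w} (a : P ⟶ R) (b : Q ⟶ R) [HasPullback a b]

/-- A presheaf whose category is the 2-fibre product of the categories of `a` and `b` is the
pullback of `a` and `b`. -/
theorem isPullback_of_equiv
    (ε : Stk.ofPsh K ⥤ᵇ fp (Stk.ofPshMap a) (Stk.ofPshMap b)) (hε : IsEquivOver ε) :
    IsPullback (mapOf (BasedFunctor.comp ε (fpFst (Stk.ofPshMap a) (Stk.ofPshMap b))))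
      (mapOf (BasedFunctor.comp ε (fpSnd (Stk.ofPshMap a) (Stk.ofPshMap b)))) a b := by
  have sq := IsPullback.of_hasPullback a b
  obtain ⟨Pj, ⟨η⟩, ⟨ζ⟩⟩ := pbFun_isEquivOver sq
  have hPj : IsEquivOver Pj := isEquivOver_inverse η ζ
  obtain ⟨θ', ⟨i1⟩, ⟨i2⟩⟩ := isEquivOver_comp hε hPj
  let i : K ≅ pullback a b := isoOfEquiv (BasedFunctor.comp ε Pj) θ' i1 i2
  have h₁ : i.hom ≫ pullback.fst a b =
      mapOf (BasedFunctor.comp ε (fpFst (Stk.ofPshMap a) (Stk.ofPshMap b))) := by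
    have e1 : mapOf (BasedFunctor.comp ε Pj) ≫ mapOf (Stk.ofPshMap (pullback.fst a b)) =
        mapOf (BasedFunctor.comp ε (fpFst (Stk.ofPshMap a) (Stk.ofPshMap b))) := by
      rw [← mapOf_comp]
      exact mapOf_congr (whiskerLeftIso ε
        (whiskerRightIso ζ (fpFst (Stk.ofPshMap a) (Stk.ofPshMap b))))
    rw [mapOf_ofPshMap] at e1
    exact e1
  have h₂ : i.hom ≫ pullback.snd a b =
      mapOf (BasedFunctor.comp ε (fpSnd (Stk.ofPshMap a) (Stk.ofPshMap b))) := by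
    have e1 : mapOf (BasedFunctor.comp ε Pj) ≫ mapOf (Stk.ofPshMap (pullback.snd a b)) =
        mapOf (BasedFunctor.comp ε (fpSnd (Stk.ofPshMap a) (Stk.ofPshMap b))) := by
      rw [← mapOf_comp]
      exact mapOf_congr (whiskerLeftIso ε
        (whiskerRightIso ζ (fpSnd (Stk.ofPshMap a) (Stk.ofPshMap b))))
    rw [mapOf_ofPshMap] at e1
    exact e1
  refine IsPullback.of_iso_pullback ⟨?_⟩ i h₁ h₂
  rw [← h₁, ← h₂, Category.assoc, Category.assoc, pullback.condition]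

end pb

section eta

variable {𝒳 : BasedCategory.{v₂, u₂} C} {𝒴 : BasedCategory.{v₃, u₃} C}
  {𝒮 : BasedCategory.{v₄, u₄} C} {𝒲 : BasedCategory.{v₅, u₅} C} {F : 𝒳 ⥤ᵇ 𝒮} {G : 𝒴 ⥤ᵇ 𝒮}

/-- The 2-isomorphism of `fpLift_eta_iso`. -/
def etaIso (w : 𝒲 ⥤ᵇ fp F G) {b : 𝒲 ⥤ᵇ 𝒴} (ι : BasedFunctor.comp w (fpSnd F G) ≅ b) :
    BasedFunctor.comp (BasedFunctor.comp w (fpFst F G)) F ≅ BasedFunctor.comp b G :=
  whiskerLeftIso w (fpIso F G) ≪≫ whiskerRightIso ι G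

/-- A functor into a 2-fibre product is recovered from its components. -/
theorem fpLift_eta_iso (hfp : IsFibGrpd (fp F G).p) (w : 𝒲 ⥤ᵇ fp F G) {b : 𝒲 ⥤ᵇ 𝒴}
    (ι : BasedFunctor.comp w (fpSnd F G) ≅ b) :
    Nonempty (fpLift (BasedFunctor.comp w (fpFst F G)) b (etaIso w ι) ≅ w) := by
  let γ : w ⟶ fpLift (BasedFunctor.comp w (fpFst F G)) b (etaIso w ι) :=
    fpNatMk (H := w) (H' := fpLift (BasedFunctor.comp w (fpFst F G)) b (etaIso w ι))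
      (fun t => 𝟙 _) (fun t => ι.hom.toNatTrans.app t)
      (fun t => by
        show F.toFunctor.map (𝟙 _) ≫ ((w.toFunctor.obj t).obj.iso.hom ≫
          G.toFunctor.map (ι.hom.toNatTrans.app t)) =
          (w.toFunctor.obj t).obj.iso.hom ≫ G.toFunctor.map (ι.hom.toNatTrans.app t)
        rw [F.toFunctor.map_id, Category.id_comp])
      (fun g => (Category.comp_id _).trans (Category.id_comp _).symm)
      (fun g => ι.hom.toNatTrans.naturality g)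
      (fun t => IsHomLift.id (w.w_obj t))
  have : IsIso γ := isIso_basedNatTrans hfp γ
  exact ⟨(asIso γ).symm⟩

end eta

end generic

variable {S : Scheme.{u}}

section stk

variable {𝒳 𝒴 𝒵 : AlgSt.Cat S}

theorem repWith_cancel_postcomp_equiv {𝒲 ℰ 𝒯 : AlgSt.Cat S} (P : MorphismProperty (AlgSp.Sp S))
    (φ : 𝒲 ⥤ᵇ ℰ) (E : ℰ ⥤ᵇ 𝒯) (hE : IsEquivOver E)
    (h : AlgSt.RepByAlgSpWith P (BasedFunctor.comp φ E)) : AlgSt.RepByAlgSpWith P φ := by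
  obtain ⟨E', ⟨η⟩, ⟨ζ⟩⟩ := hE
  have h1 : AlgSt.RepByAlgSpWith P (BasedFunctor.comp (BasedFunctor.comp φ E) E') :=
    repWith_postcomp_equiv P _ E' (isEquivOver_inverse η ζ) h
  exact repWith_of_iso P (whiskerLeftIso φ η) h1

/-- Base change of `L` along the second projection of `fp z π`. -/
theorem repWith_precomp_bc {𝒰 ℰ 𝒲 : AlgSt.Cat S} (P : MorphismProperty (AlgSp.Sp S))
    (z : 𝒰 ⥤ᵇ 𝒵) (π : ℰ ⥤ᵇ 𝒵) (L : 𝒲 ⥤ᵇ ℰ) (hL : AlgSt.RepByAlgSpWith P L) :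
    AlgSt.RepByAlgSpWith P (precomp z π L) :=
  repWith_precomp_equiv P (unpaste z π L) (unpaste_isEquivOver z π L) (fpFst (fpSnd z π) L)
    (repWith_baseChange P L (fpSnd z π) hL)

/-- Base change of `z` along the first projection of `fp g f`. -/
theorem repWith_pasteInner {𝒰 : AlgSt.Cat S} (P : MorphismProperty (AlgSp.Sp S))
    (z : 𝒰 ⥤ᵇ 𝒵) (g : 𝒵 ⥤ᵇ 𝒴) (f : 𝒳 ⥤ᵇ 𝒴) (hz : AlgSt.RepByAlgSpWith P z) :
    AlgSt.RepByAlgSpWith P (pasteInner z g f) :=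
  repWith_precomp_equiv P (paste z g f) (paste_isEquivOver z g f) (fpSnd z (fpFst g f))
    (repWith_fpSnd P z (fpFst g f) hz)

theorem repWith_id (P : MorphismProperty (AlgSp.Sp S))
    (hPb : ∀ ⦃X₁ Y₁ X₂ Y₂ : AlgSp.Sp S⦄, AlgSp.IsAlgSpace X₁ → AlgSp.IsAlgSpace Y₁ →
      AlgSp.IsAlgSpace X₂ → AlgSp.IsAlgSpace Y₂ →
      ∀ (a : X₁ ⟶ Y₁) (b : Y₂ ⟶ Y₁) (a' : X₂ ⟶ Y₂) (b' : X₂ ⟶ X₁),
      IsPullback b' a' a b → P a → P a')
    (hid : ∀ X : AlgSp.Sp S, P (𝟙 X)) (F : AlgSp.Space S) :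
    AlgSt.RepByAlgSpWith P (BasedFunctor.id (AlgSt.ofSp F.obj)) := by
  have r1 : AlgSp.RepBySpWith P (𝟙 F.obj : F.obj ⟶ F.obj).hom :=
    repBySpWith_of_bc P hPb F.property F.property _ (hid F.obj)
  have r2 : AlgSt.RepByAlgSpWith P (AlgSt.ofSpMap (𝟙 F.obj)) :=
    repByAlgSpWith_of_repBySpWith P _ r1
  have e : mapOf (BasedFunctor.id (AlgSt.ofSp F.obj)) = (𝟙 F.obj : F.obj ⟶ F.obj).hom :=
    mapOf_id
  have ι : BasedFunctor.id (AlgSt.ofSp F.obj) ≅ AlgSt.ofSpMap (𝟙 F.obj) :=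
    isoOf _ ≪≫ eqToIso (congrArg Stk.ofPshMap e)
  exact repWith_of_iso P ι.symm r2

theorem repWith_of_isEquivOver {𝒲 ℰ : AlgSt.Cat S} (P : MorphismProperty (AlgSp.Sp S))
    (hid : AlgSt.RepByAlgSpWith P (BasedFunctor.id 𝒲)) (E : 𝒲 ⥤ᵇ ℰ) (hE : IsEquivOver E) :
    AlgSt.RepByAlgSpWith P E :=
  repWith_postcomp_equiv P (BasedFunctor.id 𝒲) E hE hid

theorem repWith_smooth_id (F : AlgSp.Space S) :
    AlgSt.RepByAlgSpWith (AlgSp.LocP @Smooth) (BasedFunctor.id (AlgSt.ofSp F.obj)) :=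
  repWith_id _ (bc_locP _ etLocal_smooth)
    (fun X => Groth.Agent.Lib.AlgSpSmST_helper7.locP_smooth_id X) F

theorem repWith_surj_id (F : AlgSp.Space S) :
    AlgSt.RepByAlgSpWith AlgSp.IsSurjectiveMor (BasedFunctor.id (AlgSt.ofSp F.obj)) :=
  repWith_id _ bc_isSurjectiveMor
    (fun X => Groth.Agent.Lib.AlgSpSmST_helper7.isSurjectiveMor_id X) F

/-- **Chart independence.**  If `P` (smooth local on source and target) holds for the top arrow of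
one square of smooth charts with surjective source chart, it holds for the top arrow of every
square of smooth charts whose source chart is smooth over the fibre product. -/
theorem locQ_core (h𝒳 : IsFibGrpd 𝒳.p) (h𝒴 : IsFibGrpd 𝒴.p) (P : MorphismProperty (AlgSp.Sp S))
    (hP : AlgSp.IsSmoothLocalST P) (f : 𝒳 ⥤ᵇ 𝒴)
    (U₀ V₀ : AlgSp.Space S)
    (x₀ : AlgSt.ofSp U₀.obj ⥤ᵇ 𝒳) (y₀ : AlgSt.ofSp V₀.obj ⥤ᵇ 𝒴) (h₀ : U₀ ⟶ V₀)
    (α₀ : BasedFunctor.comp x₀ f ≅ BasedFunctor.comp (AlgSt.ofSpMap h₀.hom) y₀)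
    (hx₀ : AlgSt.RepByAlgSpWith (AlgSp.LocP @Smooth) x₀)
    (hx₀' : AlgSt.RepByAlgSpWith AlgSp.IsSurjectiveMor x₀)
    (hy₀ : AlgSt.RepByAlgSpWith (AlgSp.LocP @Smooth) y₀) (hP₀ : P h₀.hom)
    (U V : AlgSp.Space S)
    (x : AlgSt.ofSp U.obj ⥤ᵇ 𝒳) (y : AlgSt.ofSp V.obj ⥤ᵇ 𝒴) (h : U ⟶ V)
    (α : BasedFunctor.comp x f ≅ BasedFunctor.comp (AlgSt.ofSpMap h.hom) y)
    (hy : AlgSt.RepByAlgSpWith (AlgSp.LocP @Smooth) y)
    (hℓ : AlgSt.RepByAlgSpWith (AlgSp.LocP @Smooth) (fpLift x (AlgSt.ofSpMap h.hom) α)) :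
    P h.hom := by
  have hIs : IsoInv (AlgSp.LocP @Smooth : MorphismProperty (AlgSp.Sp S)) :=
    isoInv_locP _ etLocal_smooth
  have hLs : SchemeTestable (AlgSp.LocP @Smooth : MorphismProperty (AlgSp.Sp S)) :=
    schemeTestable_locP _
  have hU₀ : IsFibGrpd (AlgSt.ofSp U₀.obj).p := Stk.isFibGrpd_ofPsh U₀.obj.obj
  have hV₀ : IsFibGrpd (AlgSt.ofSp V₀.obj).p := Stk.isFibGrpd_ofPsh V₀.obj.obj
  have hV : IsFibGrpd (AlgSt.ofSp V.obj).p := Stk.isFibGrpd_ofPsh V.obj.obj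
  let π : fp f y ⥤ᵇ 𝒳 := fpFst f y
  let ℓ : AlgSt.ofSp U.obj ⥤ᵇ fp f y := fpLift x (AlgSt.ofSpMap h.hom) α
  -- the space `A = U ×_𝒳 U₀`
  obtain ⟨A, a, eA, heA, ⟨iA⟩, hAsm⟩ :=
    exists_space_of_repWith' hU₀ h𝒳 _ hIs hLs x₀ hx₀ U (BasedFunctor.comp ℓ π)
  have hAsurj : AlgSp.IsSurjectiveMor a.hom :=
    prop_of_repWith_ofSp _ isoInv_isSurjectiveMor schemeTestable_isSurjectiveMor a
      (fpFst (BasedFunctor.comp ℓ π) x₀) eA heA iA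
      (repWith_baseChange _ x₀ (BasedFunctor.comp ℓ π) hx₀')
  -- the space `B = V₀ ×_𝒴 V`
  obtain ⟨B, b₀, eB, heB, ⟨iB⟩, hb₀sm⟩ :=
    exists_space_of_repWith' hV h𝒴 _ hIs hLs y hy V₀ y₀
  obtain ⟨dB, ⟨ηB⟩, ⟨ζB⟩⟩ := id heB
  have hdB : IsEquivOver dB := isEquivOver_inverse ηB ζB
  let bpsh : B.obj.obj ⟶ V.obj.obj := mapOf (BasedFunctor.comp eB (fpSnd y₀ y))
  let b : B ⟶ V := ObjectProperty.homMk (ObjectProperty.homMk bpsh)
  have hbsm : AlgSp.LocP @Smooth b.hom :=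
    prop_of_repWith_ofSp _ hIs hLs b (fpSnd y₀ y) eB heB (isoOf _) (repWith_fpSnd _ y₀ y hy₀)
  -- the space `C = U₀ ×_𝒴 V`
  obtain ⟨Cs, c₁, eC, heC, ⟨iC⟩, hc₁sm⟩ :=
    exists_space_of_repWith' hV h𝒴 _ hIs hLs y hy U₀ (BasedFunctor.comp x₀ f)
  let jB : fpFst y₀ y ≅ BasedFunctor.comp dB (AlgSt.ofSpMap b₀.hom) :=
    (whiskerRightIso ζB (fpFst y₀ y)).symm ≪≫ whiskerLeftIso dB iB
  let ε : AlgSt.ofSp Cs.obj ⥤ᵇ fp (AlgSt.ofSpMap h₀.hom) (AlgSt.ofSpMap b₀.hom) :=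
    BasedFunctor.comp eC (BasedFunctor.comp (isoFun₁ α₀ y)
      (BasedFunctor.comp (paste (AlgSt.ofSpMap h₀.hom) y₀ y)
        (BasedFunctor.comp (isoFun (AlgSt.ofSpMap h₀.hom) jB)
          (precomp (AlgSt.ofSpMap h₀.hom) (AlgSt.ofSpMap b₀.hom) dB))))
  have hε : IsEquivOver ε :=
    isEquivOver_comp heC (isEquivOver_comp (isoFun₁_isEquivOver α₀ y)
      (isEquivOver_comp (paste_isEquivOver _ _ _)
        (isEquivOver_comp (isoFun_isEquivOver _ jB) (precomp_isEquivOver _ _ dB hdB))))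
  have sqP := isPullback_of_equiv h₀.hom.hom b₀.hom.hom ε hε
  let c₁p : Cs.obj.obj ⟶ U₀.obj.obj := mapOf (BasedFunctor.comp ε
    (fpFst (Stk.ofPshMap h₀.hom.hom) (Stk.ofPshMap b₀.hom.hom)))
  let c₂p : Cs.obj.obj ⟶ B.obj.obj := mapOf (BasedFunctor.comp ε
    (fpSnd (Stk.ofPshMap h₀.hom.hom) (Stk.ofPshMap b₀.hom.hom)))
  let c₁s : Cs.obj ⟶ U₀.obj := ObjectProperty.homMk c₁p
  let c₂s : Cs.obj ⟶ B.obj := ObjectProperty.homMk c₂p
  have sqS : IsPullback c₁s c₂s h₀.hom b₀.hom := isPullback_sheaf sqP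
  have hPc₂ : P c₂s :=
    hP.baseChange U₀.property V₀.property Cs.property B.property h₀.hom b₀.hom c₂s c₁s sqS
      hb₀sm hP₀
  -- the morphism `A ⟶ C`
  let EC : AlgSt.ofSp Cs.obj ⥤ᵇ fp π x₀ :=
    BasedFunctor.comp eC (BasedFunctor.comp (paste x₀ f y) (swap x₀ π))
  have hEC : IsEquivOver EC :=
    isEquivOver_comp heC (isEquivOver_comp (paste_isEquivOver x₀ f y) (swap_isEquivOver x₀ π))
  obtain ⟨DC, ⟨ηC⟩, ⟨ζC⟩⟩ := hEC
  have hDC : IsEquivOver DC := isEquivOver_inverse ηC ζC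
  let Ψ : fp (BasedFunctor.comp ℓ π) x₀ ⥤ᵇ fp π x₀ := pasteInner ℓ π x₀
  have hΨ : AlgSt.RepByAlgSpWith (AlgSp.LocP @Smooth) Ψ := repWith_pasteInner _ ℓ π x₀ hℓ
  let gp : A.obj.obj ⟶ Cs.obj.obj := mapOf (BasedFunctor.comp eA (BasedFunctor.comp Ψ DC))
  let g : A ⟶ Cs := ObjectProperty.homMk (ObjectProperty.homMk gp)
  have hgsm : AlgSp.LocP @Smooth g.hom :=
    prop_of_repWith_ofSp _ hIs hLs g (BasedFunctor.comp Ψ DC) eA heA (isoOf _)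
      (repWith_postcomp_equiv _ Ψ DC hDC hΨ)
  -- the commutative square
  have e1 : c₂p ≫ bpsh = mapOf (BasedFunctor.comp eC (fpSnd (BasedFunctor.comp x₀ f) y)) := by
    show mapOf _ ≫ mapOf _ = _
    rw [← mapOf_comp]
    exact mapOf_congr (whiskerLeftIso (BasedFunctor.comp eC (BasedFunctor.comp (isoFun₁ α₀ y)
      (pasteInner (AlgSt.ofSpMap h₀.hom) y₀ y))) (whiskerRightIso ζB (fpSnd y₀ y)))
  have e2 : gp ≫ mapOf (BasedFunctor.comp eC (fpSnd (BasedFunctor.comp x₀ f) y)) =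
      mapOf (BasedFunctor.comp (BasedFunctor.comp eA (fpFst (BasedFunctor.comp ℓ π) x₀))
        (AlgSt.ofSpMap h.hom)) := by
    show mapOf _ ≫ mapOf _ = _
    rw [← mapOf_comp]
    exact mapOf_congr (whiskerLeftIso (BasedFunctor.comp eA Ψ)
      (whiskerRightIso ζC (BasedFunctor.comp (fpFst π x₀) (fpSnd f y))))
  have e3 : a.hom.hom = mapOf (BasedFunctor.comp eA (fpFst (BasedFunctor.comp ℓ π) x₀)) :=
    ((mapOf_congr iA).trans (mapOf_ofPshMap _)).symm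
  have comm : a.hom ≫ h.hom = (g.hom ≫ c₂s) ≫ b.hom := by
    apply ObjectProperty.hom_ext
    show a.hom.hom ≫ h.hom.hom = (gp ≫ c₂p) ≫ bpsh
    rw [Category.assoc, e1, e2, e3, mapOf_comp, mapOf_ofPshMap]
  rw [hP.locality U.property V.property h.hom]
  intro u
  obtain ⟨v, hv⟩ := hAsurj u
  exact ⟨A.obj, B.obj, a.hom, b.hom, g.hom ≫ c₂s, v, A.property, B.property, hAsm, hbsm, comm, hv,
    hP.precomp A.property Cs.property B.property g.hom c₂s hgsm hPc₂⟩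

end stk

end Groth.Agent.Lib.AlgStLocQ
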