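import Groth.Agent.Lib.AlgStPtsCmp_lead

/-!
# Morphisms of algebraic stacks with a property smooth-locally on source and target (lead)
-/

set_option autoImplicit false

universe u

open CategoryTheory CategoryTheory.Limits AlgebraicGeometry Opposite FibCat Stk

namespace Groth.Agent.Lib.AlgStLocQ

open AlgSt Groth.Agent.Lib.FibCat_helper6 Groth.Agent.Lib.FibCat3_helper6
  Groth.Agent.Lib.FibCat14_helper6 Groth.Agent.Lib.FibCat12_helper6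
  Groth.Agent.Lib.FibCatPaste Groth.Agent.Lib.FibCatSwap
  Groth.Agent.Lib.FibCatIsoFun
  Groth.Agent.Lib.OfPshCalc Groth.Agent.Lib.AlgStBC
  Groth.Agent.Lib.AlgStEquiv Groth.Agent.Lib.AlgStEquivP Groth.Agent.Lib.AlgStEquivInv
  Groth.Agent.Lib.OfPshAlgSt Groth.Agent.Lib.LiftSqBC Groth.Agent.Lib.LiftSqComp
  Groth.Agent.Lib.OfPshWith Groth.Agent.Lib.FibCatDiagSec Groth.Agent.Lib.AlgStDiagRep
  Groth.Agent.Lib.FibCatDiagBC Groth.Agent.Lib.FibCatMagic Groth.Agent.Lib.FibCatProd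
  Groth.Agent.Lib.AlgStDiag Groth.Agent.Lib.AlgStLocal
  Groth.Agent.Lib.AlgSpQC_helper7 Groth.Agent.Lib.AlgSpDiag_helper7
  Groth.Agent.Lib.AlgSpPullback_helper7 Groth.Agent.Lib.AlgSpRepBySp_helper7
  Groth.Agent.Lib.AlgSpPoints_helper7 Groth.Agent.Lib.AlgSpLocP_helper7
  Groth.Agent.Lib.AlgSpBasic_helper7 Groth.Agent.Lib.AlgSpSep_helper7
  Groth.Agent.Lib.AlgSpLocP4_helper7 Groth.Agent.Lib.AlgSpLocP5_helper7
  Groth.Agent.Lib.AlgSpLocP7_helper7 Groth.Agent.Lib.AlgSpQC2_helper7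
  Groth.Agent.Lib.AlgSpLocP8_helper7 Groth.Agent.Lib.AlgSpLocP10_helper7
  Groth.Agent.Lib.AlgSpFpqc3_helper7 Groth.Agent.Lib.AlgSpLocP6_helper7
  Groth.Agent.Lib.AlgSpFpqc2_helper7 Groth.Agent.Lib.AlgSpFpqc_helper7
  Groth.Agent.Lib.AlgSpProper_helper7 Groth.Agent.Lib.AlgSpAffineMorH7
  Groth.Agent.Lib.AlgStAtlas Groth.Agent.Lib.AlgStPoints Groth.Agent.Lib.AlgStPtsCmp
  Groth.Agent.Lib.FibCatYoneda_helper6

variable {S : Scheme.{u}}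

/-- The functor `(Sch/U) ⟶ (Sch/V)` of a morphism `h` with `P` has `P`. -/
theorem repWith_overMap (P : MorphismProperty (AlgSp.Sp S))
    (hPb : ∀ ⦃X₁ Y₁ X₂ Y₂ : AlgSp.Sp S⦄, AlgSp.IsAlgSpace X₁ → AlgSp.IsAlgSpace Y₁ →
      AlgSp.IsAlgSpace X₂ → AlgSp.IsAlgSpace Y₂ →
      ∀ (a : X₁ ⟶ Y₁) (b : Y₂ ⟶ Y₁) (a' : X₂ ⟶ Y₂) (b' : X₂ ⟶ X₁),
      IsPullback b' a' a b → P a → P a')
    {U V : Over S} (h : U ⟶ V) (hP : P ((AlgSp.yon S).map h)) :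
    AlgSt.RepByAlgSpWith P (AlgSt.overMap h) := by
  have r1 : AlgSp.RepBySpWith P ((AlgSp.yon S).map h).hom :=
    repBySpWith_of_bc P hPb (AlgSp.IsAlgSpace.yon_obj U) (AlgSp.IsAlgSpace.yon_obj V) _ hP
  have r2 : AlgSt.RepByAlgSpWith P (AlgSt.ofSpMap ((AlgSp.yon S).map h)) :=
    repByAlgSpWith_of_repBySpWith P _ r1
  have r3 := repWith_postcomp_equiv P _ (AlgSt.toOverCat V) (toOverCat_isEquivOver V) r2
  exact repWith_precomp_equiv P (AlgSt.ofOverCat U) (ofOverCat_isEquivOver U) _ r3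

theorem smooth_le_flat : ∀ ⦃A B : Scheme.{u}⦄ (g : A ⟶ B), Smooth g → Flat g :=
  fun _ _ g hg => by have := hg; infer_instance

theorem smooth_le_lfp : ∀ ⦃A B : Scheme.{u}⦄ (g : A ⟶ B), Smooth g →
    LocallyOfFinitePresentation g :=
  fun _ _ g hg => by have := hg; infer_instance

theorem comp_locP_flat : ∀ ⦃X Y Z : AlgSp.Sp S⦄, AlgSp.IsAlgSpace X → AlgSp.IsAlgSpace Y →
    AlgSp.IsAlgSpace Z → ∀ (a : X ⟶ Y) (b : Y ⟶ Z), AlgSp.LocP @Flat a → AlgSp.LocP @Flat b →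
    AlgSp.LocP @Flat (a ≫ b) :=
  fun _ _ _ hX hY hZ a b ha hb => locP_comp etLocal_flat hX hY hZ a b ha hb

theorem comp_locP_lfp : ∀ ⦃X Y Z : AlgSp.Sp S⦄, AlgSp.IsAlgSpace X → AlgSp.IsAlgSpace Y →
    AlgSp.IsAlgSpace Z → ∀ (a : X ⟶ Y) (b : Y ⟶ Z), AlgSp.LocP @LocallyOfFinitePresentation a →
    AlgSp.LocP @LocallyOfFinitePresentation b →
    AlgSp.LocP @LocallyOfFinitePresentation (a ≫ b) :=
  fun _ _ _ hX hY hZ a b ha hb =>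
    locP_comp etLocal_locallyOfFinitePresentation hX hY hZ a b ha hb

section stk

variable {𝒳 𝒴 𝒵 : AlgSt.Cat S}

theorem repWith_flat_of_smooth (g : 𝒳 ⥤ᵇ 𝒴) (h : AlgSt.RepByAlgSpWith (AlgSp.LocP @Smooth) g) :
    AlgSt.RepByAlgSpWith (AlgSp.LocP @Flat) g :=
  repWith_mono' (fun _ _ a _ ha => locP_mono smooth_le_flat a ha) g h

theorem repWith_lfp_of_smooth (g : 𝒳 ⥤ᵇ 𝒴) (h : AlgSt.RepByAlgSpWith (AlgSp.LocP @Smooth) g) :
    AlgSt.RepByAlgSpWith (AlgSp.LocP @LocallyOfFinitePresentation) g :=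
  repWith_mono' (fun _ _ a _ ha => locP_mono smooth_le_lfp a ha) g h

/-- A flat, locally finitely presented, surjective morphism (in the chart sense) is dominated by a
representable fppf covering. -/
theorem exists_fppf_cover_of_locQ (h𝒵 : IsFibGrpd 𝒵.p) (h𝒴 : IsFibGrpd 𝒴.p) (z : 𝒵 ⥤ᵇ 𝒴)
    (hz₁ : AlgSt.LocQ (AlgSp.LocP @Flat) z)
    (hz₂ : AlgSt.LocQ (AlgSp.LocP @LocallyOfFinitePresentation) z)
    (hz₃ : AlgSt.IsSurjective z) :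
    ∃ (𝒞 : AlgSt.Cat S) (_ : IsFibGrpd 𝒞.p) (v : 𝒞 ⥤ᵇ 𝒵),
      AlgSt.RepByAlgSpWith (AlgSp.LocP @Flat) (BasedFunctor.comp v z) ∧
      AlgSt.RepByAlgSpWith (AlgSp.LocP @LocallyOfFinitePresentation) (BasedFunctor.comp v z) ∧
      AlgSt.RepByAlgSpWith AlgSp.IsSurjectiveMor (BasedFunctor.comp v z) := by
  obtain ⟨U₁, V₁, x₁, y₁, h₁, α₁, hx₁, hx₁', hy₁, hh₁⟩ := hz₁
  obtain ⟨U₂, V₂, x₂, y₂, h₂, α₂, hx₂, hx₂', hy₂, hh₂⟩ := hz₂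
  have hU₁ : IsFibGrpd (FibCat.overCat U₁).p := isFibGrpd_over_forget U₁
  have hU₂ : IsFibGrpd (FibCat.overCat U₂).p := isFibGrpd_over_forget U₂
  have hV₁ : IsFibGrpd (FibCat.overCat V₁).p := isFibGrpd_over_forget V₁
  have hV₂ : IsFibGrpd (FibCat.overCat V₂).p := isFibGrpd_over_forget V₂
  have h𝒞 : IsFibGrpd (fp x₁ x₂).p := isFibGrpd_fp x₁ x₂ hU₁ hU₂ h𝒵
  -- the two charts composed to `𝒴`
  have f1 : AlgSt.RepByAlgSpWith (AlgSp.LocP @Flat) (BasedFunctor.comp x₁ z) :=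
    repWith_of_iso _ α₁.symm (repWith_comp' hU₁ hV₁ _ (isoInv_locP _ etLocal_flat)
      (schemeTestable_locP _) comp_locP_flat (AlgSt.overMap h₁) y₁
      (repWith_overMap _ (bc_locP _ etLocal_flat) h₁ hh₁) (repWith_flat_of_smooth y₁ hy₁))
  have p2 : AlgSt.RepByAlgSpWith (AlgSp.LocP @LocallyOfFinitePresentation)
      (BasedFunctor.comp x₂ z) :=
    repWith_of_iso _ α₂.symm (repWith_comp' hU₂ hV₂ _
      (isoInv_locP _ etLocal_locallyOfFinitePresentation)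
      (schemeTestable_locP _) comp_locP_lfp (AlgSt.overMap h₂) y₂
      (repWith_overMap _ (bc_locP _ etLocal_locallyOfFinitePresentation) h₂ hh₂)
      (repWith_lfp_of_smooth y₂ hy₂))
  have F : AlgSt.RepByAlgSpWith (AlgSp.LocP @Flat)
      (BasedFunctor.comp (BasedFunctor.comp (fpFst x₁ x₂) x₁) z) :=
    repWith_comp' h𝒞 hU₁ _ (isoInv_locP _ etLocal_flat)
      (schemeTestable_locP _) comp_locP_flat (fpFst x₁ x₂) (BasedFunctor.comp x₁ z)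
      (repWith_flat_of_smooth _ (repWith_baseChange _ x₂ x₁ hx₂)) f1
  have L0 : AlgSt.RepByAlgSpWith (AlgSp.LocP @LocallyOfFinitePresentation)
      (BasedFunctor.comp (BasedFunctor.comp (fpSnd x₁ x₂) x₂) z) :=
    repWith_comp' h𝒞 hU₂ _ (isoInv_locP _ etLocal_locallyOfFinitePresentation)
      (schemeTestable_locP _) comp_locP_lfp (fpSnd x₁ x₂) (BasedFunctor.comp x₂ z)
      (repWith_lfp_of_smooth _ (repWith_fpSnd _ x₁ x₂ hx₁)) p2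
  have L : AlgSt.RepByAlgSpWith (AlgSp.LocP @LocallyOfFinitePresentation)
      (BasedFunctor.comp (BasedFunctor.comp (fpFst x₁ x₂) x₁) z) :=
    repWith_of_iso _ (whiskerRightIso (fpIso x₁ x₂) z).symm L0
  refine ⟨fp x₁ x₂, h𝒞, BasedFunctor.comp (fpFst x₁ x₂) x₁, F, L, ?_⟩
  have A : AlgSt.RepByAlgSpWith AlgSp.IsSurjectiveMor (fpFst x₁ x₂) :=
    repWith_baseChange _ x₂ x₁ hx₂'
  have s1 : AlgSt.IsSurjective (fpFst x₁ x₂) :=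
    (isSurjective_iff_repWith h𝒞 hU₁ _ (repByAlgSp1_of_repWith _ A)).2 A
  have s2 : AlgSt.IsSurjective x₁ :=
    (isSurjective_iff_repWith hU₁ h𝒵 x₁ (repByAlgSp1_of_repWith _ hx₁')).2 hx₁'
  refine (isSurjective_iff_repWith h𝒞 h𝒴 _ (repByAlgSp1_of_repWith _ F)).1 ?_
  intro t
  obtain ⟨a, rfl⟩ := hz₃ t
  obtain ⟨b, rfl⟩ := s2 a
  obtain ⟨c, rfl⟩ := s1 b
  exact ⟨c, by rw [map_comp, map_comp]⟩

/-- Descent of a property fppf local on the base along a flat, lfp, surjective morphism of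
algebraic stacks (not necessarily representable). -/
theorem repWith_iff_fpFst_of_locQ (h𝒳 : IsFibGrpd 𝒳.p) (h𝒴 : IsFibGrpd 𝒴.p) (h𝒵 : IsFibGrpd 𝒵.p)
    (P : MorphismProperty (AlgSp.Sp S))
    (hPb : ∀ ⦃X₁ Y₁ X₂ Y₂ : AlgSp.Sp S⦄, AlgSp.IsAlgSpace X₁ → AlgSp.IsAlgSpace Y₁ →
      AlgSp.IsAlgSpace X₂ → AlgSp.IsAlgSpace Y₂ →
      ∀ (a : X₁ ⟶ Y₁) (b : Y₂ ⟶ Y₁) (a' : X₂ ⟶ Y₂) (b' : X₂ ⟶ X₁),
      IsPullback b' a' a b → P a → P a')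
    (hP : AlgSp.IsLocalOnBase AlgSp.IsFppfCover P)
    (f : 𝒳 ⥤ᵇ 𝒴) (hf : AlgSt.RepByAlgSp1 f) (z : 𝒵 ⥤ᵇ 𝒴)
    (hz₁ : AlgSt.LocQ (AlgSp.LocP @Flat) z)
    (hz₂ : AlgSt.LocQ (AlgSp.LocP @LocallyOfFinitePresentation) z)
    (hz₃ : AlgSt.IsSurjective z) :
    AlgSt.RepByAlgSpWith P f ↔ AlgSt.RepByAlgSpWith P (FibCat.fpFst z f) := by
  constructor
  · intro h
    exact repWith_baseChange P f z h
  · intro H
    obtain ⟨𝒞, h𝒞, v, c1, c2, c3⟩ := exists_fppf_cover_of_locQ h𝒵 h𝒴 z hz₁ hz₂ hz₃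
    exact Groth.Agent.Lib.AlgStLocal.repWith_of_factor_cover h𝒳 h𝒴 h𝒞 P hPb hP f hf z
      (BasedFunctor.comp v z) c1 c2 c3 v (Iso.refl _) H

end stk

end Groth.Agent.Lib.AlgStLocQ
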