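import Groth.Agent.Lib.AlgStDiagRep3_lead
import Groth.Agent.Lib.AlgSpLocP8_helper7
import Groth.Agent.Lib.AlgSpLocP10_helper7

/-!
# Properties fppf local on the base / local on the source, for morphisms of stacks representable by
algebraic spaces (lead)
-/

set_option autoImplicit false

universe u

open CategoryTheory CategoryTheory.Limits AlgebraicGeometry Opposite FibCat Stk

namespace Groth.Agent.Lib.AlgStLocal

open AlgSt Groth.Agent.Lib.FibCat_helper6 Groth.Agent.Lib.FibCat3_helper6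
  Groth.Agent.Lib.FibCat14_helper6 Groth.Agent.Lib.FibCatPaste Groth.Agent.Lib.FibCatSwap
  Groth.Agent.Lib.FibCatIsoFun
  Groth.Agent.Lib.OfPshCalc Groth.Agent.Lib.AlgStBC
  Groth.Agent.Lib.AlgStEquiv Groth.Agent.Lib.AlgStEquivP Groth.Agent.Lib.AlgStEquivInv
  Groth.Agent.Lib.OfPshAlgSt Groth.Agent.Lib.LiftSqBC Groth.Agent.Lib.LiftSqComp
  Groth.Agent.Lib.OfPshWith Groth.Agent.Lib.FibCatDiagSec Groth.Agent.Lib.AlgStDiagRep
  Groth.Agent.Lib.AlgSpQC_helper7 Groth.Agent.Lib.AlgSpDiag_helper7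
  Groth.Agent.Lib.AlgSpPullback_helper7 Groth.Agent.Lib.AlgSpRepBySp_helper7
  Groth.Agent.Lib.AlgSpPoints_helper7 Groth.Agent.Lib.AlgSpLocP_helper7
  Groth.Agent.Lib.AlgSpBasic_helper7 Groth.Agent.Lib.AlgSpSep_helper7
  Groth.Agent.Lib.AlgSpLocP4_helper7 Groth.Agent.Lib.AlgSpLocP5_helper7
  Groth.Agent.Lib.AlgSpLocP7_helper7 Groth.Agent.Lib.AlgSpQC2_helper7
  Groth.Agent.Lib.AlgSpLocP8_helper7 Groth.Agent.Lib.AlgSpLocP10_helper7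

variable {S : Scheme.{u}}

/-- A property stable under base change, holding for a morphism of algebraic spaces, holds for all
its base changes to schemes. -/
theorem repBySpWith_of_bc (P : MorphismProperty (AlgSp.Sp S))
    (hPb : ∀ ⦃X₁ Y₁ X₂ Y₂ : AlgSp.Sp S⦄, AlgSp.IsAlgSpace X₁ → AlgSp.IsAlgSpace Y₁ →
      AlgSp.IsAlgSpace X₂ → AlgSp.IsAlgSpace Y₂ →
      ∀ (a : X₁ ⟶ Y₁) (b : Y₂ ⟶ Y₁) (a' : X₂ ⟶ Y₂) (b' : X₂ ⟶ X₁),
      IsPullback b' a' a b → P a → P a')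
    {V Z : AlgSp.Sp S} (hV : AlgSp.IsAlgSpace V) (hZ : AlgSp.IsAlgSpace Z) (a : V ⟶ Z)
    (ha : P a) : AlgSp.RepBySpWith P a.hom := by
  intro U ξ F' fst snd sq
  have hs : Presheaf.IsSheaf (AlgSp.J S) F' :=
    AlgSp.isSheaf_of_isPullback (F := V) (G := Z) (H := (AlgSp.yon S).obj U) sq
  let X' : AlgSp.Sp S := ⟨F', hs⟩
  let fst' : X' ⟶ V := ObjectProperty.homMk fst
  let snd' : X' ⟶ (AlgSp.yon S).obj U := ObjectProperty.homMk snd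
  let ξ' : (AlgSp.yon S).obj U ⟶ Z := ObjectProperty.homMk ξ
  have sqS : IsPullback fst' snd' a ξ' := isPullback_sheaf sq
  have hX' : AlgSp.IsAlgSpace X' :=
    isAlgSpace_of_isPullback hZ.diag hV (AlgSp.IsAlgSpace.yon_obj U) sqS
  exact ⟨hs, hX', hPb hV hZ hX' (AlgSp.IsAlgSpace.yon_obj U) a ξ' snd' fst' sqS ha⟩

theorem isoInv_isSurjectiveMor :
    IsoInv (AlgSp.IsSurjectiveMor : MorphismProperty (AlgSp.Sp S)) :=
  isoInv_of_bc _ (fun _ _ _ _ _ _ _ _ _ _ _ _ sq ha => isSurjectiveMor_of_isPullback sq ha)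

theorem schemeTestable_isSurjectiveMor :
    SchemeTestable (AlgSp.IsSurjectiveMor : MorphismProperty (AlgSp.Sp S)) := by
  intro V Z₀ a hV hZ₀ ha z
  obtain ⟨K, _, sK, m, rfl⟩ := mk_surjective' z
  have sq := IsPullback.of_hasPullback a m
  have hs : AlgSp.IsSurjectiveMor (pullback.snd a m) :=
    (sq_of_repBySpWith _ a ha (Over.mk sK) m _ _ _ sq).2
  obtain ⟨w, hw⟩ := hs (AlgSp.Points.mk (ofHom (𝟙 _)))
  refine ⟨AlgSp.Points.map (pullback.fst a m) w, ?_⟩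
  rw [← AlgSp.Points.map_comp, pullback.condition, AlgSp.Points.map_comp, hw, map_mk_ofHom,
    Category.id_comp]

theorem isoInv_isEtaleMor : IsoInv (AlgSp.IsEtaleMor : MorphismProperty (AlgSp.Sp S)) := by
  intro X X' Y i f hX hX' hY h
  rw [isEtaleMor_iff_locP hY] at h ⊢
  exact isoInv_locP _ etLocal_etale i f hX hX' hY h

theorem schemeTestable_isEtaleMor :
    SchemeTestable (AlgSp.IsEtaleMor : MorphismProperty (AlgSp.Sp S)) := by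
  intro V Z a hV hZ ha
  rw [isEtaleMor_iff_locP hZ]
  refine schemeTestable_locP @Etale a hV hZ ?_
  intro U ξ F' fst snd sq
  obtain ⟨hs, hA, hq⟩ := ha ξ fst snd sq
  exact ⟨hs, hA, (isEtaleMor_iff_locP (AlgSp.IsAlgSpace.yon_obj U) _).1 hq⟩

section stk

variable {𝒳 𝒴 𝒵 : AlgSt.Cat S}

/-- If `π : 𝒲 ⟶ Z` has `P` (as a morphism representable by algebraic spaces) and `𝒲` is
equivalent to an algebraic space `V` in such a way that `π` becomes `a : V ⟶ Z`, then `a` has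
`P`. -/
theorem prop_of_repWith_ofSp (P : MorphismProperty (AlgSp.Sp S)) (hI : IsoInv P)
    (hL : SchemeTestable P) {𝒲 : AlgSt.Cat S} {V Z : AlgSp.Space S} (a : V ⟶ Z)
    (π : 𝒲 ⥤ᵇ AlgSt.ofSp Z.obj) (e : AlgSt.ofSp V.obj ⥤ᵇ 𝒲) (he : IsEquivOver e)
    (i : BasedFunctor.comp e π ≅ AlgSt.ofSpMap a.hom) (h : AlgSt.RepByAlgSpWith P π) :
    P a.hom := by
  have r2 : AlgSt.RepByAlgSpWith P (BasedFunctor.comp e π) := repWith_precomp_equiv P e he π h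
  have r3 : AlgSt.RepByAlgSpWith P (Stk.ofPshMap a.hom.hom) := repWith_of_iso P i r2
  have r4 : AlgSp.RepBySpWith P a.hom.hom := repBySpWith_of_repByAlgSpWith P hI a.hom.hom r3
  exact hL a.hom V.property Z.property r4

theorem repWith_cancel_equiv {𝒲 ℰ 𝒯 : AlgSt.Cat S} (P : MorphismProperty (AlgSp.Sp S))
    (L : 𝒲 ⥤ᵇ ℰ) (hL : IsEquivOver L) (π : ℰ ⥤ᵇ 𝒯)
    (h : AlgSt.RepByAlgSpWith P (BasedFunctor.comp L π)) : AlgSt.RepByAlgSpWith P π :=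
  (repWith_equiv_square P π (BasedFunctor.comp L π) L (BasedFunctor.id 𝒯) hL isEquivOver_id
    (Iso.refl _)).2 h

/-- Descent of `P` along an fppf covering of the target. -/
theorem exists_space_of_cover (h𝒳 : IsFibGrpd 𝒳.p) (h𝒴 : IsFibGrpd 𝒴.p) (h𝒵 : IsFibGrpd 𝒵.p)
    (P : MorphismProperty (AlgSp.Sp S))
    (hPb : ∀ ⦃X₁ Y₁ X₂ Y₂ : AlgSp.Sp S⦄, AlgSp.IsAlgSpace X₁ → AlgSp.IsAlgSpace Y₁ →
      AlgSp.IsAlgSpace X₂ → AlgSp.IsAlgSpace Y₂ →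
      ∀ (a : X₁ ⟶ Y₁) (b : Y₂ ⟶ Y₁) (a' : X₂ ⟶ Y₂) (b' : X₂ ⟶ X₁),
      IsPullback b' a' a b → P a → P a')
    (hP : AlgSp.IsLocalOnBase AlgSp.IsFppfCover P)
    (f : 𝒳 ⥤ᵇ 𝒴) (hf : AlgSt.RepByAlgSp1 f) (z : 𝒵 ⥤ᵇ 𝒴)
    (hz₁ : AlgSt.RepByAlgSpWith (AlgSp.LocP @Flat) z)
    (hz₂ : AlgSt.RepByAlgSpWith (AlgSp.LocP @LocallyOfFinitePresentation) z)
    (hz₃ : AlgSt.RepByAlgSpWith AlgSp.IsSurjectiveMor z)
    (H : AlgSt.RepByAlgSpWith P (fpFst z f)) (Z : AlgSp.Space S)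
    (z₀ : AlgSt.ofSp Z.obj ⥤ᵇ 𝒴) :
    ∃ (V : AlgSp.Space S) (a : V ⟶ Z) (e : AlgSt.ofSp V.obj ⥤ᵇ FibCat.fp z₀ f),
      FibCat.IsEquivOver e ∧
        Nonempty (BasedFunctor.comp e (FibCat.fpFst z₀ f) ≅ AlgSt.ofSpMap a.hom) ∧ P a.hom := by
  have hI : IsoInv P := isoInv_of_bc P hPb
  have hL : SchemeTestable P := schemeTestable_of_local P hP
  have hf' : AlgSt.RepByAlgSpWith ⊤ f := (repByAlgSp1_iff_top f).1 hf
  have hz' : AlgSt.RepByAlgSpWith ⊤ z := repWith_mono' (fun _ _ _ _ _ => trivial) _ hz₁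
  obtain ⟨X, c, eX, heX, ⟨iX⟩, -⟩ :=
    exists_space_of_repWith' h𝒳 h𝒴 ⊤ isoInv_top schemeTestable_top f hf' Z z₀
  obtain ⟨W, b, eW, heW, ⟨iW⟩, -⟩ :=
    exists_space_of_repWith' h𝒵 h𝒴 ⊤ isoInv_top schemeTestable_top z hz' Z z₀
  have hb₁ : AlgSp.LocP @Flat b.hom :=
    prop_of_repWith_ofSp _ (isoInv_locP _ etLocal_flat) (schemeTestable_locP _) b (fpFst z₀ z)
      eW heW iW (repWith_baseChange _ z z₀ hz₁)
  have hb₂ : AlgSp.LocP @LocallyOfFinitePresentation b.hom :=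
    prop_of_repWith_ofSp _ (isoInv_locP _ etLocal_locallyOfFinitePresentation)
      (schemeTestable_locP _) b (fpFst z₀ z) eW heW iW (repWith_baseChange _ z z₀ hz₂)
  have hb₃ : AlgSp.IsSurjectiveMor b.hom :=
    prop_of_repWith_ofSp _ isoInv_isSurjectiveMor schemeTestable_isSurjectiveMor b (fpFst z₀ z)
      eW heW iW (repWith_baseChange _ z z₀ hz₃)
  let v : AlgSt.ofSp W.obj ⥤ᵇ 𝒵 := BasedFunctor.comp eW (fpSnd z₀ z)
  let bb : AlgSt.ofSp W.obj ⥤ᵇ AlgSt.ofSp Z.obj := AlgSt.ofSpMap b.hom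
  let cc : AlgSt.ofSp X.obj ⥤ᵇ AlgSt.ofSp Z.obj := AlgSt.ofSpMap c.hom
  have ι₁ : BasedFunctor.comp bb z₀ ≅ BasedFunctor.comp (BasedFunctor.comp eW (fpFst z₀ z)) z₀ :=
    whiskerRightIso iW.symm z₀
  have ι₂ : BasedFunctor.comp eW (BasedFunctor.comp (fpFst z₀ z) z₀) ≅
      BasedFunctor.comp eW (BasedFunctor.comp (fpSnd z₀ z) z) :=
    whiskerLeftIso eW (fpIso z₀ z)
  have ι : BasedFunctor.comp bb z₀ ≅ BasedFunctor.comp v z := ι₁ ≪≫ ι₂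
  have A1 : AlgSt.RepByAlgSpWith P (fpFst v (fpFst z f)) := repWith_baseChange P (fpFst z f) v H
  have A2 : AlgSt.RepByAlgSpWith P (fpFst (BasedFunctor.comp v z) f) :=
    repWith_precomp_equiv P (paste v z f) (paste_isEquivOver v z f) (fpFst v (fpFst z f)) A1
  have A3 : AlgSt.RepByAlgSpWith P (fpFst (BasedFunctor.comp bb z₀) f) :=
    repWith_precomp_equiv P (isoFun₁ ι f) (isoFun₁_isEquivOver ι f)
      (fpFst (BasedFunctor.comp v z) f) A2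
  have A4 : AlgSt.RepByAlgSpWith P (fpFst bb (fpFst z₀ f)) :=
    repWith_cancel_equiv P (paste bb z₀ f) (paste_isEquivOver bb z₀ f) (fpFst bb (fpFst z₀ f)) A3
  have A5 : AlgSt.RepByAlgSpWith P (fpFst bb (BasedFunctor.comp eX (fpFst z₀ f))) :=
    repWith_precomp_equiv P (precomp bb (fpFst z₀ f) eX)
      (precomp_isEquivOver bb (fpFst z₀ f) eX heX) (fpFst bb (fpFst z₀ f)) A4
  have A6 : AlgSt.RepByAlgSpWith P (fpFst bb cc) :=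
    repWith_precomp_equiv P (isoFun bb iX.symm) (isoFun_isEquivOver bb iX.symm)
      (fpFst bb (BasedFunctor.comp eX (fpFst z₀ f))) A5
  have sqS := IsPullback.of_hasPullback b.hom c.hom
  have hX' : AlgSp.IsAlgSpace (pullback b.hom c.hom) :=
    isAlgSpace_of_isPullback Z.property.diag W.property X.property sqS
  have sqP : IsPullback (pullback.fst b.hom c.hom).hom (pullback.snd b.hom c.hom).hom
      b.hom.hom c.hom.hom := sqS.map (sheafToPresheaf (AlgSp.J S) (Type (u + 1)))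
  have A7 : AlgSt.RepByAlgSpWith P (Stk.ofPshMap (pullback.fst b.hom c.hom).hom) :=
    repWith_precomp_equiv P (pbFun sqP) (pbFun_isEquivOver sqP) (fpFst bb cc) A6
  have r4 : AlgSp.RepBySpWith P (pullback.fst b.hom c.hom).hom :=
    repBySpWith_of_repByAlgSpWith P hI _ A7
  have r5 : P (pullback.fst b.hom c.hom) := hL _ hX' W.property r4
  have key := hP (ι := PUnit.{u + 1}) (Y := Z.obj) (fun _ => W.obj) (fun _ => b.hom) Z.property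
    (fun _ => W.property) ⟨fun _ => ⟨hb₁, hb₂⟩, fun x => ⟨PUnit.unit, hb₃ x⟩⟩ c.hom X.property
    (fun _ => pullback b.hom c.hom) (fun _ => pullback.fst b.hom c.hom)
    (fun _ => pullback.snd b.hom c.hom) (fun _ => hX') (fun _ => sqS.flip)
  exact ⟨X, c, eX, heX, ⟨iX⟩, key.2 (fun _ => r5)⟩

theorem repWith_iff_fpFst_of_cover (h𝒳 : IsFibGrpd 𝒳.p) (h𝒴 : IsFibGrpd 𝒴.p)
    (h𝒵 : IsFibGrpd 𝒵.p) (P : MorphismProperty (AlgSp.Sp S))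
    (hPb : ∀ ⦃X₁ Y₁ X₂ Y₂ : AlgSp.Sp S⦄, AlgSp.IsAlgSpace X₁ → AlgSp.IsAlgSpace Y₁ →
      AlgSp.IsAlgSpace X₂ → AlgSp.IsAlgSpace Y₂ →
      ∀ (a : X₁ ⟶ Y₁) (b : Y₂ ⟶ Y₁) (a' : X₂ ⟶ Y₂) (b' : X₂ ⟶ X₁),
      IsPullback b' a' a b → P a → P a')
    (hP : AlgSp.IsLocalOnBase AlgSp.IsFppfCover P)
    (f : 𝒳 ⥤ᵇ 𝒴) (hf : AlgSt.RepByAlgSp1 f) (z : 𝒵 ⥤ᵇ 𝒴)
    (hz₁ : AlgSt.RepByAlgSpWith (AlgSp.LocP @Flat) z)
    (hz₂ : AlgSt.RepByAlgSpWith (AlgSp.LocP @LocallyOfFinitePresentation) z)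
    (hz₃ : AlgSt.RepByAlgSpWith AlgSp.IsSurjectiveMor z) :
    AlgSt.RepByAlgSpWith P f ↔ AlgSt.RepByAlgSpWith P (FibCat.fpFst z f) :=
  ⟨fun h => repWith_baseChange P f z h, fun H => repWith_of_forall_space P f (fun Z z₀ =>
    exists_space_of_cover h𝒳 h𝒴 h𝒵 P hPb hP f hf z hz₁ hz₂ hz₃ H Z z₀)⟩

theorem repWith_iff_exists_of_cover (h𝒳 : IsFibGrpd 𝒳.p) (h𝒴 : IsFibGrpd 𝒴.p)
    (P : MorphismProperty (AlgSp.Sp S))
    (hPb : ∀ ⦃X₁ Y₁ X₂ Y₂ : AlgSp.Sp S⦄, AlgSp.IsAlgSpace X₁ → AlgSp.IsAlgSpace Y₁ →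
      AlgSp.IsAlgSpace X₂ → AlgSp.IsAlgSpace Y₂ →
      ∀ (a : X₁ ⟶ Y₁) (b : Y₂ ⟶ Y₁) (a' : X₂ ⟶ Y₂) (b' : X₂ ⟶ X₁),
      IsPullback b' a' a b → P a → P a')
    (hP : AlgSp.IsLocalOnBase AlgSp.IsFppfCover P)
    (f : 𝒳 ⥤ᵇ 𝒴) (hf : AlgSt.RepByAlgSp1 f) (W : AlgSp.Space S) (w : AlgSt.ofSp W.obj ⥤ᵇ 𝒴)
    (hw₁ : AlgSt.RepByAlgSpWith (AlgSp.LocP @Flat) w)
    (hw₂ : AlgSt.RepByAlgSpWith (AlgSp.LocP @LocallyOfFinitePresentation) w)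
    (hw₃ : AlgSt.RepByAlgSpWith AlgSp.IsSurjectiveMor w) :
    AlgSt.RepByAlgSpWith P f ↔
      ∃ (V : AlgSp.Space S) (a : V ⟶ W) (e : AlgSt.ofSp V.obj ⥤ᵇ FibCat.fp w f),
        FibCat.IsEquivOver e ∧
          Nonempty (BasedFunctor.comp e (FibCat.fpFst w f) ≅ AlgSt.ofSpMap a.hom) ∧ P a.hom := by
  have hI : IsoInv P := isoInv_of_bc P hPb
  have hL : SchemeTestable P := schemeTestable_of_local P hP
  constructor
  · intro h
    exact exists_space_of_repWith' h𝒳 h𝒴 P hI hL f h W w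
  · rintro ⟨V, a, e, he, ⟨i⟩, hPa⟩
    have r1 : AlgSp.RepBySpWith P a.hom.hom :=
      repBySpWith_of_bc P hPb V.property W.property a.hom hPa
    have r2 : AlgSt.RepByAlgSpWith P (Stk.ofPshMap a.hom.hom) :=
      repByAlgSpWith_of_repBySpWith P a.hom.hom r1
    have r3 : AlgSt.RepByAlgSpWith P (BasedFunctor.comp e (fpFst w f)) :=
      repWith_of_iso P i.symm r2
    have r4 : AlgSt.RepByAlgSpWith P (fpFst w f) := repWith_cancel_equiv P e he (fpFst w f) r3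
    exact (repWith_iff_fpFst_of_cover h𝒳 h𝒴 (Stk.isFibGrpd_ofPsh W.obj.obj) P hPb hP f hf w hw₁ hw₂
      hw₃).2 r4

/-- Properties local on the source: descent along a covering of the source. -/
theorem exists_space_of_source_cover (h𝒳 : IsFibGrpd 𝒳.p) (h𝒴 : IsFibGrpd 𝒴.p)
    (h𝒵 : IsFibGrpd 𝒵.p) (P : MorphismProperty (AlgSp.Sp S))
    (hPb : ∀ ⦃X₁ Y₁ X₂ Y₂ : AlgSp.Sp S⦄, AlgSp.IsAlgSpace X₁ → AlgSp.IsAlgSpace Y₁ →
      AlgSp.IsAlgSpace X₂ → AlgSp.IsAlgSpace Y₂ →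
      ∀ (a : X₁ ⟶ Y₁) (b : Y₂ ⟶ Y₁) (a' : X₂ ⟶ Y₂) (b' : X₂ ⟶ X₁),
      IsPullback b' a' a b → P a → P a')
    (hP : AlgSp.IsLocalOnBase AlgSp.IsFppfCover P) (τ : AlgSp.CovNotion S)
    (hP' : AlgSp.IsLocalOnSource τ P)
    (x : 𝒳 ⥤ᵇ 𝒴) (y : 𝒴 ⥤ᵇ 𝒵) (hy : AlgSt.RepByAlgSp1 y) (hx : AlgSt.RepByAlgSp1 x)
    (hcov : ∀ (Y' : AlgSp.Space S) (u : AlgSt.ofSp Y'.obj ⥤ᵇ 𝒴) (X' : AlgSp.Space S)
      (d : X' ⟶ Y') (eX : AlgSt.ofSp X'.obj ⥤ᵇ fp u x), IsEquivOver eX →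
      (BasedFunctor.comp eX (fpFst u x) ≅ AlgSt.ofSpMap d.hom) →
      τ (fun _ : PUnit.{u + 1} => X'.obj) (fun _ => d.hom))
    (h : AlgSt.RepByAlgSpWith P (BasedFunctor.comp x y)) (Z : AlgSp.Space S)
    (t : AlgSt.ofSp Z.obj ⥤ᵇ 𝒵) :
    ∃ (V : AlgSp.Space S) (a : V ⟶ Z) (e : AlgSt.ofSp V.obj ⥤ᵇ FibCat.fp t y),
      FibCat.IsEquivOver e ∧
        Nonempty (BasedFunctor.comp e (FibCat.fpFst t y) ≅ AlgSt.ofSpMap a.hom) ∧ P a.hom := by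
  have hI : IsoInv P := isoInv_of_bc P hPb
  have hL : SchemeTestable P := schemeTestable_of_local P hP
  have hy' : AlgSt.RepByAlgSpWith ⊤ y := (repByAlgSp1_iff_top y).1 hy
  have hx' : AlgSt.RepByAlgSpWith ⊤ x := (repByAlgSp1_iff_top x).1 hx
  obtain ⟨Y', c, eY, heY, ⟨iY⟩, -⟩ :=
    exists_space_of_repWith' h𝒴 h𝒵 ⊤ isoInv_top schemeTestable_top y hy' Z t
  let u : AlgSt.ofSp Y'.obj ⥤ᵇ 𝒴 := BasedFunctor.comp eY (fpSnd t y)
  obtain ⟨X', d, eX, heX, ⟨iX⟩, -⟩ :=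
    exists_space_of_repWith' h𝒳 h𝒴 ⊤ isoInv_top schemeTestable_top x hx' Y' u
  have B1 : AlgSt.RepByAlgSpWith P (fpFst t (BasedFunctor.comp x y)) :=
    repWith_baseChange P (BasedFunctor.comp x y) t h
  have B2 : AlgSt.RepByAlgSpWith P (BasedFunctor.comp (unpaste t y x)
      (BasedFunctor.comp (fpFst (fpSnd t y) x) (fpFst t y))) :=
    repWith_of_iso P (unpasteFstIso t y x).symm B1
  have B3 : AlgSt.RepByAlgSpWith P (BasedFunctor.comp (fpFst (fpSnd t y) x) (fpFst t y)) :=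
    repWith_cancel_equiv P (unpaste t y x) (unpaste_isEquivOver t y x) _ B2
  have B4 : AlgSt.RepByAlgSpWith P (BasedFunctor.comp (precomp₁ eY (fpSnd t y) x)
      (BasedFunctor.comp (fpFst (fpSnd t y) x) (fpFst t y))) :=
    repWith_precomp_equiv P (precomp₁ eY (fpSnd t y) x)
      (precomp₁_isEquivOver eY heY (fpSnd t y) x) _ B3
  have B5 : AlgSt.RepByAlgSpWith P (BasedFunctor.comp eX
      (BasedFunctor.comp (precomp₁ eY (fpSnd t y) x)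
        (BasedFunctor.comp (fpFst (fpSnd t y) x) (fpFst t y)))) :=
    repWith_precomp_equiv P eX heX _ B4
  have B5' : AlgSt.RepByAlgSpWith P (BasedFunctor.comp (BasedFunctor.comp eX (fpFst u x))
      (BasedFunctor.comp eY (fpFst t y))) := B5
  have κ₁ : BasedFunctor.comp (BasedFunctor.comp eX (fpFst u x))
      (BasedFunctor.comp eY (fpFst t y)) ≅
      BasedFunctor.comp (AlgSt.ofSpMap d.hom) (BasedFunctor.comp eY (fpFst t y)) :=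
    whiskerRightIso iX _
  have κ₂ : BasedFunctor.comp (AlgSt.ofSpMap d.hom) (BasedFunctor.comp eY (fpFst t y)) ≅
      BasedFunctor.comp (AlgSt.ofSpMap d.hom) (AlgSt.ofSpMap c.hom) :=
    whiskerLeftIso _ iY
  have B6 : AlgSt.RepByAlgSpWith P (AlgSt.ofSpMap (d.hom ≫ c.hom)) :=
    repWith_of_iso P (κ₁ ≪≫ κ₂) B5'
  have r4 : AlgSp.RepBySpWith P (d.hom ≫ c.hom).hom :=
    repBySpWith_of_repByAlgSpWith P hI _ B6
  have r5 : P (d.hom ≫ c.hom) := hL _ X'.property Z.property r4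
  have key := hP' (ι := PUnit.{u + 1}) (X := Y'.obj) (fun _ => X'.obj) (fun _ => d.hom) Y'.property
    (fun _ => X'.property) (hcov Y' u X' d eX heX iX) c.hom Z.property
  exact ⟨Y', c, eY, heY, ⟨iY⟩, key.2 (fun _ => r5)⟩

theorem repByAlgSp1_of_repWith {P : MorphismProperty (AlgSp.Sp S)} (x : 𝒳 ⥤ᵇ 𝒴)
    (h : AlgSt.RepByAlgSpWith P x) : AlgSt.RepByAlgSp1 x := fun U y => by
  obtain ⟨F, e, he, _⟩ := h U y
  exact ⟨F, e, he⟩

end stk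

end Groth.Agent.Lib.AlgStLocal
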