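import Groth.Agent.Lib.AlgStOpenSub2_lead
import Groth.Agent.Lib.AlgSpTop_helper7
import Groth.Agent.Lib.AlgSpUniv_helper7

/-! # The image of a smooth morphism is an open substack (lead) -/

set_option autoImplicit false

universe w v₁ v₂ v₃ v₄ v₅ v₆ u₁ u₂ u₃ u₄ u₅ u₆ u

open CategoryTheory CategoryTheory.Limits AlgebraicGeometry Opposite FibCat Stk

namespace Groth.Agent.Lib.AlgStLocQ

open AlgSt Groth.Agent.Lib.FibCat_helper6 Groth.Agent.Lib.FibCat3_helper6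
  Groth.Agent.Lib.FibCat14_helper6 Groth.Agent.Lib.FibCat12_helper6
  Groth.Agent.Lib.FibCatPaste Groth.Agent.Lib.FibCatSwap
  Groth.Agent.Lib.FibCatIsoFun
  Groth.Agent.Lib.OfPshCalc Groth.Agent.Lib.AlgStBC
  Groth.Agent.Lib.AlgStEquiv Groth.Agent.Lib.AlgStEquivP Groth.Agent.Lib.AlgStEquivInv
  Groth.Agent.Lib.OfPshAlgSt Groth.Agent.Lib.LiftSqBC Groth.Agent.Lib.LiftSqComp
  Groth.Agent.Lib.OfPshWith Groth.Agent.Lib.FibCatDiagSec Groth.Agent.Lib.AlgStDiagRep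
  Groth.Agent.Lib.FibCatDiagBC Groth.Agent.Lib.FibCatMagic Groth.Agent.Lib.FibCatProd
  Groth.Agent.Lib.AlgStDiag Groth.Agent.Lib.AlgStLocal
  Groth.Agent.Lib.AlgSpQC_helper7 Groth.Agent.Lib.AlgSpDiag_helper7
  Groth.Agent.Lib.AlgSpPullback_helper7 Groth.Agent.Lib.AlgSpRepBySp_helper7
  Groth.Agent.Lib.AlgSpPoints_helper7 Groth.Agent.Lib.AlgSpLocP_helper7
  Groth.Agent.Lib.AlgSpBasic_helper7 Groth.Agent.Lib.AlgSpSep_helper7
  Groth.Agent.Lib.AlgSpLocP4_helper7 Groth.Agent.Lib.AlgSpLocP5_helper7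
  Groth.Agent.Lib.AlgSpLocP7_helper7 Groth.Agent.Lib.AlgSpQC2_helper7
  Groth.Agent.Lib.AlgSpLocP8_helper7 Groth.Agent.Lib.AlgSpLocP10_helper7
  Groth.Agent.Lib.AlgSpFpqc3_helper7 Groth.Agent.Lib.AlgSpLocP6_helper7
  Groth.Agent.Lib.AlgSpFpqc2_helper7 Groth.Agent.Lib.AlgSpFpqc_helper7
  Groth.Agent.Lib.AlgSpProper_helper7 Groth.Agent.Lib.AlgSpAffineMorH7
  Groth.Agent.Lib.AlgStAtlas Groth.Agent.Lib.AlgStPoints Groth.Agent.Lib.AlgStPtsCmp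
  Groth.Agent.Lib.FibCatYoneda_helper6



variable {S : Scheme.{u}}

section img

variable {𝒳 𝒱 : AlgSt.Cat S}

/-- The inclusion of a full subcategory closed under pullback is injective on points. -/
theorem injective_points_subIncl (h𝒳 : IsFibGrpd 𝒳.p) (Q : 𝒳.obj → Prop)
    (hQ : ∀ {a b : 𝒳.obj} (_ : b ⟶ a), Q a → Q b) :
    Function.Injective (AlgSt.Points.map (AlgSt.subIncl 𝒳 Q)) := by
  intro s s' h
  obtain ⟨q, rfl⟩ := AlgSt.Points.mk_surjective s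
  obtain ⟨q', rfl⟩ := AlgSt.Points.mk_surjective s'
  have h' : AlgSt.Points.mk (q.map (AlgSt.subIncl 𝒳 Q)) =
      AlgSt.Points.mk (q'.map (AlgSt.subIncl 𝒳 Q)) := h
  obtain ⟨r, a, b, -⟩ := (mk_eq_mk_iff h𝒳).1 h'
  have ha : r.obj ⟶ q.obj.obj := a
  have hb : r.obj ⟶ q'.obj.obj := b
  let r' : AlgSt.FPt (AlgSt.fullSub 𝒳 Q) :=
    ⟨r.K, r.str, ⟨r.obj, hQ ha q.obj.property⟩, r.lies⟩
  have a' : r'.obj ⟶ q.obj := ObjectProperty.homMk ha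
  have b' : r'.obj ⟶ q'.obj := ObjectProperty.homMk hb
  exact AlgSt.Points.sound ⟨r', a', b', trivial⟩

/-- Objects in the image of a functor have all their points in the image on points. -/
theorem qT_range_obj (h𝒱 : IsFibGrpd 𝒱.p) (h𝒳 : IsFibGrpd 𝒳.p) (G : 𝒱 ⥤ᵇ 𝒳) (v : 𝒱.obj) :
    QT (Set.range (AlgSt.Points.map G)) (G.obj v) := by
  intro p φ
  let γ : Over.mk p.str ⟶ 𝒱.p.obj v := baseHom φ p.lies (G.w_obj v)
  have hγ : 𝒳.p.IsHomLift γ φ := baseHom_isHomLift φ p.lies (G.w_obj v)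
  obtain ⟨v', ψ, hψ⟩ := h𝒱.exists_lift (x := v) γ
  have hm : 𝒳.p.IsHomLift γ (G.map ψ) := (BasedFunctor.isHomLift_iff G γ ψ).2 hψ
  obtain ⟨χ, -, -⟩ := exists_hom_of_lifts h𝒳 γ φ (G.map ψ) hγ hm
  have hv' : 𝒱.p.obj v' = Over.mk p.str := IsHomLift.domain_eq 𝒱.p γ ψ
  exact ⟨AlgSt.Points.mk ⟨p.K, p.str, v', hv'⟩,
    (AlgSt.Points.sound ⟨p, 𝟙 _, χ, trivial⟩).symm⟩

/-- The 2-commutative square of the corestriction. -/
def imgIso (Q : 𝒳.obj → Prop) (G : 𝒱 ⥤ᵇ 𝒳) (hG : ∀ v, Q (G.obj v)) :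
    BasedFunctor.comp (liftSub Q G hG) (AlgSt.subIncl 𝒳 Q) ≅
      BasedFunctor.comp (BasedFunctor.id 𝒱) G :=
  Iso.refl _

/-- The comparison functor from `𝒱` to the 2-fibre product of the inclusion with `G`. -/
def imgLift (Q : 𝒳.obj → Prop) (G : 𝒱 ⥤ᵇ 𝒳) (hG : ∀ v, Q (G.obj v)) :
    𝒱 ⥤ᵇ fp (AlgSt.subIncl 𝒳 Q) G :=
  fpLift (liftSub Q G hG) (BasedFunctor.id 𝒱) (imgIso Q G hG)

instance imgLift_faithful (Q : 𝒳.obj → Prop) (G : 𝒱 ⥤ᵇ 𝒳) (hG : ∀ v, Q (G.obj v)) :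
    (imgLift Q G hG).toFunctor.Faithful where
  map_injective := by
    intro v₁ v₂ m m' h
    exact congrArg (fun n => n.hom.snd) h

instance imgLift_full (Q : 𝒳.obj → Prop) (G : 𝒱 ⥤ᵇ 𝒳) (hG : ∀ v, Q (G.obj v)) :
    (imgLift Q G hG).toFunctor.Full where
  map_surjective := by
    intro v₁ v₂ n
    have hw : n.hom.fst.hom ≫ 𝟙 _ = 𝟙 _ ≫ G.map n.hom.snd := n.hom.w
    refine ⟨n.hom.snd, ?_⟩
    apply fp_hom_ext
    · apply ObjectProperty.hom_ext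
      show G.map n.hom.snd = n.hom.fst.hom
      exact (Category.id_comp _).symm.trans (hw.symm.trans (Category.comp_id _))
    · rfl

theorem imgLift_essSurj (Q : 𝒳.obj → Prop) (G : 𝒱 ⥤ᵇ 𝒳) (hG : ∀ v, Q (G.obj v))
    (w : (fp (AlgSt.subIncl 𝒳 Q) G).obj) :
    ∃ (v : 𝒱.obj) (φ : (imgLift Q G hG).obj v ≅ w),
      (fp (AlgSt.subIncl 𝒳 Q) G).p.IsHomLift
        (𝟙 ((fp (AlgSt.subIncl 𝒳 Q) G).p.obj w)) φ.hom := by
  let φ₁ : (liftSub Q G hG).obj w.obj.snd ≅ w.obj.fst :=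
    ObjectProperty.isoMk (P := Q) w.obj.iso.symm
  have hw : 𝒳.p.IsHomLift (𝟙 ((AlgSt.fullSub 𝒳 Q).p.obj w.obj.fst)) w.obj.iso.hom := w.property
  have hinv : 𝒳.p.IsHomLift (𝟙 ((AlgSt.fullSub 𝒳 Q).p.obj w.obj.fst)) w.obj.iso.inv :=
    haveI := hw
    IsHomLift.lift_id_inv 𝒳.p _ w.obj.iso
  have hlift : (AlgSt.fullSub 𝒳 Q).p.IsHomLift
      (𝟙 ((AlgSt.fullSub 𝒳 Q).p.obj w.obj.fst)) φ₁.hom :=
    (fullSub_isHomLift_iff Q φ₁.hom _).2 hinv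
  refine ⟨w.obj.snd, fpIsoMk (F := AlgSt.subIncl 𝒳 Q) (G := G)
    (X := (imgLift Q G hG).obj w.obj.snd) (Y := w) φ₁ (Iso.refl _) ?_, ?_⟩
  · show w.obj.iso.inv ≫ w.obj.iso.hom = 𝟙 _ ≫ G.toFunctor.map (𝟙 w.obj.snd)
    rw [Iso.inv_hom_id, CategoryTheory.Functor.map_id, Category.id_comp]
  · exact fpIsoMk_isHomLift _ _ _ hlift

theorem imgLift_isEquivOver (Q : 𝒳.obj → Prop) (G : 𝒱 ⥤ᵇ 𝒳) (hG : ∀ v, Q (G.obj v)) :
    IsEquivOver (imgLift Q G hG) :=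
  isEquivOver_of_fullyFaithful (imgLift Q G hG) (imgLift_essSurj Q G hG)

/-- The image of a smooth morphism of algebraic stacks is an open substack, onto which the
morphism is smooth and surjective. -/
theorem exists_image_of_smooth (h𝒱 : AlgSt.IsAlgStack Scheme.fppfPrecoverage 𝒱)
    (h𝒳 : AlgSt.IsAlgStack Scheme.fppfPrecoverage 𝒳) (G : 𝒱 ⥤ᵇ 𝒳)
    (hG : AlgSt.RepByAlgSpWith (AlgSp.LocP @Smooth) G) :
    ∃ (𝒴 : AlgSt.Cat S) (i : 𝒴 ⥤ᵇ 𝒳) (g : 𝒱 ⥤ᵇ 𝒴),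
      AlgSt.IsAlgStack Scheme.fppfPrecoverage 𝒴 ∧ AlgSt.IsOpenImm i ∧
        AlgSt.RepByAlgSpWith (AlgSp.LocP @Smooth) g ∧
        AlgSt.RepByAlgSpWith AlgSp.IsSurjectiveMor g ∧
          Nonempty (BasedFunctor.comp g i ≅ G) := by
  have hT : IsOpen (Set.range (AlgSt.Points.map G)) := by
    rw [← Set.image_univ]
    exact isOpenMap_points_map h𝒱 h𝒳 G (repWith_flat_of_smooth G hG)
      (repWith_lfp_of_smooth G hG) _ isOpen_univ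
  have hQ := isOpenSubstack_QT h𝒳 _ hT
  have hobj : ∀ v, QT (Set.range (AlgSt.Points.map G)) (G.obj v) :=
    qT_range_obj h𝒱.isStack.1 h𝒳.isStack.1 G
  have hg₁ : AlgSt.RepByAlgSpWith (AlgSp.LocP @Smooth)
      (liftSub (QT (Set.range (AlgSt.Points.map G))) G hobj) :=
    repWith_of_twoCart (g := AlgSt.subIncl 𝒳 (QT (Set.range (AlgSt.Points.map G)))) (f := G)
      (AlgSp.LocP @Smooth) (liftSub (QT (Set.range (AlgSt.Points.map G))) G hobj)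
      (BasedFunctor.id 𝒱) (imgIso _ G hobj) (imgLift_isEquivOver _ G hobj) hG
  refine ⟨AlgSt.fullSub 𝒳 (QT (Set.range (AlgSt.Points.map G))),
    AlgSt.subIncl 𝒳 (QT (Set.range (AlgSt.Points.map G))),
    liftSub (QT (Set.range (AlgSt.Points.map G))) G hobj, hQ.2.1, hQ.2.2, hg₁, ?_,
    ⟨Iso.refl _⟩⟩
  refine (isSurjective_iff_repWith h𝒱.isStack.1 hQ.2.1.isStack.1 _
    (repByAlgSp1_of_repWith _ hg₁)).1 ?_
  intro s
  have hmem : AlgSt.Points.map (AlgSt.subIncl 𝒳 (QT (Set.range (AlgSt.Points.map G)))) s ∈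
      Set.range (AlgSt.Points.map G) := by
    have h0 := Set.mem_range_self
      (f := AlgSt.Points.map (AlgSt.subIncl 𝒳 (QT (Set.range (AlgSt.Points.map G))))) s
    rwa [range_subIncl_QT] at h0
  obtain ⟨t, ht⟩ := hmem
  have e1 : AlgSt.Points.map (AlgSt.subIncl 𝒳 (QT (Set.range (AlgSt.Points.map G))))
      (AlgSt.Points.map (liftSub (QT (Set.range (AlgSt.Points.map G))) G hobj) t) =
      AlgSt.Points.map G t := by
    obtain ⟨p, rfl⟩ := AlgSt.Points.mk_surjective t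
    rfl
  exact ⟨t, injective_points_subIncl h𝒳.isStack.1 _ (fun φ h => qT_of_hom φ h)
    (e1.trans ht)⟩

/-- S12860. -/
theorem exists_image_openImm (h𝒳 : AlgSt.IsAlgStack Scheme.fppfPrecoverage 𝒳)
    (U : AlgSp.Space S) (u : AlgSt.ofSp U.obj ⥤ᵇ 𝒳)
    (hu₁ : AlgSt.RepByAlgSpWith (AlgSp.LocP @Smooth) u)
    (V : AlgSp.Space S) (j : V ⟶ U) (hj : AlgSp.RepWith @IsOpenImmersion j.hom) :
    ∃ (𝒴 : AlgSt.Cat S) (i : 𝒴 ⥤ᵇ 𝒳) (g : AlgSt.ofSp V.obj ⥤ᵇ 𝒴),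
      AlgSt.IsAlgStack Scheme.fppfPrecoverage 𝒴 ∧ AlgSt.IsOpenImm i ∧
        AlgSt.RepByAlgSpWith (AlgSp.LocP @Smooth) g ∧
        AlgSt.RepByAlgSpWith AlgSp.IsSurjectiveMor g ∧
          Nonempty (BasedFunctor.comp g i ≅ BasedFunctor.comp (AlgSt.ofSpMap j.hom) u) := by
  have hVf : IsFibGrpd (AlgSt.ofSp V.obj).p := Stk.isFibGrpd_ofPsh _
  have hUf : IsFibGrpd (AlgSt.ofSp U.obj).p := Stk.isFibGrpd_ofPsh _
  have hjs : AlgSp.LocP @Smooth j.hom :=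
    locP_of_repWith @Smooth (fun _ _ g (_ : Etale g) => (inferInstance : Smooth g)) j.hom
      (repWith_mono (fun _ _ g (_ : IsOpenImmersion g) => (inferInstance : Smooth g)) hj)
  have r2 : AlgSt.RepByAlgSpWith (AlgSp.LocP @Smooth) (AlgSt.ofSpMap j.hom) :=
    repByAlgSpWith_of_repBySpWith _ _
      (repBySpWith_of_bc _ (bc_locP _ etLocal_smooth) V.property U.property j.hom hjs)
  exact exists_image_of_smooth (isAlgStack_ofSp V) h𝒳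
    (BasedFunctor.comp (AlgSt.ofSpMap j.hom) u)
    (repWith_comp' hVf hUf _ chartProp_smooth.isoInv chartProp_smooth.testable
      chartProp_smooth.comp (AlgSt.ofSpMap j.hom) u r2 hu₁)

end img

end Groth.Agent.Lib.AlgStLocQ
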