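import Groth.Agent.Lib.AlgStUniv2_lead
import Groth.Agent.Lib.AlgSpTop_helper7
import Groth.Agent.Lib.AlgSpUniv_helper7

/-! # Open substacks of an algebraic stack and open subsets of its space of points (lead) -/

set_option autoImplicit false

universe w v₁ v₂ v₃ v₄ v₅ v₆ u₁ u₂ u₃ u₄ u₅ u₆ u

open CategoryTheory CategoryTheory.Limits AlgebraicGeometry Opposite FibCat Stk

namespace Groth.Agent.Lib.AlgStLocQ

open AlgSt Groth.Agent.Lib.FibCat_helper6 Groth.Agent.Lib.FibCat3_helper6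
  Groth.Agent.Lib.FibCat14_helper6 Groth.Agent.Lib.FibCat12_helper6
  Groth.Agent.Lib.FibCatPaste Groth.Agent.Lib.FibCatSwap
  Groth.Agent.Lib.FibCatIsoFun
  Groth.Agent.Lib.OfPshCalc Groth.Agent.Lib.AlgStBC
  Groth.Agent.Lib.AlgStEquiv Groth.Agent.Lib.AlgStEquivP Groth.Agent.Lib.AlgStEquivInv
  Groth.Agent.Lib.OfPshAlgSt Groth.Agent.Lib.LiftSqBC Groth.Agent.Lib.LiftSqComp
  Groth.Agent.Lib.OfPshWith Groth.Agent.Lib.FibCatDiagSec Groth.Agent.Lib.AlgStDiagRep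
  Groth.Agent.Lib.FibCatDiagBC Groth.Agent.Lib.FibCatMagic Groth.Agent.Lib.FibCatProd
  Groth.Agent.Lib.AlgStDiag Groth.Agent.Lib.AlgStLocal
  Groth.Agent.Lib.AlgSpQC_helper7 Groth.Agent.Lib.AlgSpDiag_helper7
  Groth.Agent.Lib.AlgSpPullback_helper7 Groth.Agent.Lib.AlgSpRepBySp_helper7
  Groth.Agent.Lib.AlgSpPoints_helper7 Groth.Agent.Lib.AlgSpLocP_helper7
  Groth.Agent.Lib.AlgSpBasic_helper7 Groth.Agent.Lib.AlgSpSep_helper7
  Groth.Agent.Lib.AlgSpLocP4_helper7 Groth.Agent.Lib.AlgSpLocP5_helper7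
  Groth.Agent.Lib.AlgSpLocP7_helper7 Groth.Agent.Lib.AlgSpQC2_helper7
  Groth.Agent.Lib.AlgSpLocP8_helper7 Groth.Agent.Lib.AlgSpLocP10_helper7
  Groth.Agent.Lib.AlgSpFpqc3_helper7 Groth.Agent.Lib.AlgSpLocP6_helper7
  Groth.Agent.Lib.AlgSpFpqc2_helper7 Groth.Agent.Lib.AlgSpFpqc_helper7
  Groth.Agent.Lib.AlgSpProper_helper7 Groth.Agent.Lib.AlgSpAffineMorH7
  Groth.Agent.Lib.AlgStAtlas Groth.Agent.Lib.AlgStPoints Groth.Agent.Lib.AlgStPtsCmp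
  Groth.Agent.Lib.FibCatYoneda_helper6



variable {S : Scheme.{u}}

section sub

variable {𝒳 : AlgSt.Cat S}

theorem fullSub_isHomLift_iff (Q : 𝒳.obj → Prop) {a b : (AlgSt.fullSub 𝒳 Q).obj} (ψ : a ⟶ b)
    {R T : Over S} (f : R ⟶ T) :
    (AlgSt.fullSub 𝒳 Q).p.IsHomLift f ψ ↔ 𝒳.p.IsHomLift f ψ.hom := by
  constructor
  · intro h
    exact IsHomLift.of_fac 𝒳.p f ψ.hom (IsHomLift.domain_eq (AlgSt.fullSub 𝒳 Q).p f ψ)
      (IsHomLift.codomain_eq (AlgSt.fullSub 𝒳 Q).p f ψ) (IsHomLift.fac (AlgSt.fullSub 𝒳 Q).p f ψ)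
  · intro h
    exact IsHomLift.of_fac (AlgSt.fullSub 𝒳 Q).p f ψ (IsHomLift.domain_eq 𝒳.p f ψ.hom)
      (IsHomLift.codomain_eq 𝒳.p f ψ.hom) (IsHomLift.fac 𝒳.p f ψ.hom)

/-- The full subcategory on a class of objects stable under pullback is fibred in groupoids. -/
theorem isFibGrpd_fullSub (h𝒳 : IsFibGrpd 𝒳.p) (Q : 𝒳.obj → Prop)
    (hQ : ∀ {a b : 𝒳.obj} (_ : b ⟶ a), Q a → Q b) : IsFibGrpd (AlgSt.fullSub 𝒳 Q).p := by
  refine ⟨?_, ?_⟩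
  · intro x V f
    obtain ⟨b, φ, hφ⟩ := h𝒳.exists_lift (x := x.obj) f
    refine ⟨⟨b, hQ φ x.property⟩, ObjectProperty.homMk φ, ?_⟩
    exact (fullSub_isHomLift_iff Q _ f).2 hφ
  · intro y x ψ
    have hsc : 𝒳.p.IsStronglyCartesian (𝒳.p.map ψ.hom) ψ.hom := h𝒳.isStronglyCartesian ψ.hom
    refine { toIsHomLift := ?_, universal_property' := ?_ }
    · exact (fullSub_isHomLift_iff Q ψ _).2 hsc.toIsHomLift
    · intro a' g φ' hφ'
      have hφ'' : 𝒳.p.IsHomLift (g ≫ 𝒳.p.map ψ.hom) φ'.hom :=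
        (fullSub_isHomLift_iff Q φ' _).1 hφ'
      obtain ⟨χ, ⟨hχ₁, hχ₂⟩, huniq⟩ := hsc.universal_property' g φ'.hom
      refine ⟨ObjectProperty.homMk χ,
        ⟨(fullSub_isHomLift_iff Q _ g).2 hχ₁, ObjectProperty.hom_ext _ hχ₂⟩, ?_⟩
      rintro χ' ⟨h1, h2⟩
      apply ObjectProperty.hom_ext
      exact huniq χ'.hom ⟨(fullSub_isHomLift_iff Q χ' g).1 h1, congrArg (fun m => m.hom) h2⟩

/-- Corestriction of a functor to a full subcategory. -/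
def liftSub {𝒲 : BasedCategory.{v₁, u₁} (Over S)} (Q : 𝒳.obj → Prop) (G : 𝒲 ⥤ᵇ 𝒳)
    (hG : ∀ w, Q (G.obj w)) : 𝒲 ⥤ᵇ AlgSt.fullSub 𝒳 Q where
  toFunctor := ObjectProperty.lift Q G.toFunctor hG
  w := G.w

/-- The objects all of whose field valued points lie in `T`. -/
def QT (T : Set (AlgSt.Points 𝒳)) (a : 𝒳.obj) : Prop :=
  ∀ (p : AlgSt.FPt 𝒳) (_ : p.obj ⟶ a), AlgSt.Points.mk p ∈ T

theorem qT_of_hom {T : Set (AlgSt.Points 𝒳)} {a b : 𝒳.obj} (φ : b ⟶ a) (h : QT T a) : QT T b :=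
  fun p ψ => h p (ψ ≫ φ)

theorem qT_mono {T T' : Set (AlgSt.Points 𝒳)} (h : T ⊆ T') {a : 𝒳.obj} (ha : QT T a) :
    QT T' a := fun p φ => h (ha p φ)

theorem range_subIncl_QT (T : Set (AlgSt.Points 𝒳)) :
    Set.range (AlgSt.Points.map (AlgSt.subIncl 𝒳 (QT T))) = T := by
  ext τ
  constructor
  · rintro ⟨s, rfl⟩
    obtain ⟨q, rfl⟩ := AlgSt.Points.mk_surjective s
    exact q.obj.property (q.map (AlgSt.subIncl 𝒳 (QT T))) (𝟙 _)
  · intro hτ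
    obtain ⟨p, rfl⟩ := AlgSt.Points.mk_surjective τ
    have hp : QT T p.obj := fun p' φ => by
      rw [AlgSt.Points.sound ⟨p', 𝟙 _, φ, trivial⟩]; exact hτ
    exact ⟨AlgSt.Points.mk ⟨p.K, p.str, ⟨p.obj, hp⟩, p.lies⟩, rfl⟩

/-- Objects of an open substack have all their points in the substack. -/
theorem qT_of_mem {Q : 𝒳.obj → Prop} (hfib : IsFibGrpd (AlgSt.fullSub 𝒳 Q).p)
    (h𝒳 : IsFibGrpd 𝒳.p) {a : 𝒳.obj} (ha : Q a) :
    QT (Set.range (AlgSt.Points.map (AlgSt.subIncl 𝒳 Q))) a := by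
  intro p φ
  let γ : Over.mk p.str ⟶ 𝒳.p.obj a := baseHom φ p.lies rfl
  have hφ : 𝒳.p.IsHomLift γ φ := baseHom_isHomLift φ p.lies rfl
  obtain ⟨b, ψ, hψ⟩ := hfib.exists_lift (x := (⟨a, ha⟩ : (AlgSt.fullSub 𝒳 Q).obj)) γ
  have hψ' : 𝒳.p.IsHomLift γ ψ.hom := (fullSub_isHomLift_iff Q ψ γ).1 hψ
  obtain ⟨χ, -, -⟩ := exists_hom_of_lifts h𝒳 γ φ ψ.hom hφ hψ'
  have hb : (AlgSt.fullSub 𝒳 Q).p.obj b = Over.mk p.str :=
    IsHomLift.domain_eq (AlgSt.fullSub 𝒳 Q).p γ ψ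
  refine ⟨AlgSt.Points.mk ⟨p.K, p.str, b, hb⟩, ?_⟩
  exact (AlgSt.Points.sound ⟨p, 𝟙 _, χ, trivial⟩).symm

/-- Points of a chart through an object with all points in `T` lie in `T`. -/
theorem ofChart_mem_of_qT {T : Set (AlgSt.Points 𝒳)} {U : Over S} (y : FibCat.overCat U ⥤ᵇ 𝒳)
    (A' : Over U) {c : 𝒳.obj} (hc : QT T c) (θ : y.obj A' ⟶ c) (t : ↥A'.left.left) :
    AlgSt.Points.ofChart y (A'.hom.left t) ∈ T := by
  rw [← ofChart_overMap_comp A'.hom y t]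
  let fr := A'.left.left.fromSpecResidueField t
  let B : Over A'.left :=
    Over.mk (Over.homMk fr rfl : Over.mk (fr ≫ A'.left.hom) ⟶ A'.left)
  let k : (AlgSt.overMap A'.hom).obj B ⟶ A' := Over.homMk B.hom rfl
  exact hc (⟨↥(A'.left.left.residueField t), fr ≫ A'.left.hom,
    (BasedFunctor.comp (AlgSt.overMap A'.hom) y).obj B,
    (BasedFunctor.comp (AlgSt.overMap A'.hom) y).w_obj B⟩ : AlgSt.FPt 𝒳) (y.map k ≫ θ)

end sub

section openSub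

variable {𝒳 : AlgSt.Cat S}

/-- The open subscheme of a chart lying over `T`. -/
noncomputable def chartOpen (h𝒳 : AlgSt.IsAlgStack Scheme.fppfPrecoverage 𝒳)
    (T : Set (AlgSt.Points 𝒳)) (hT : IsOpen T) {U : Over S} (y : FibCat.overCat U ⥤ᵇ 𝒳) :
    U.left.Opens :=
  ⟨AlgSt.Points.ofChart y ⁻¹' T, (continuous_ofChart h𝒳 y).isOpen_preimage T hT⟩

noncomputable def chartOver (h𝒳 : AlgSt.IsAlgStack Scheme.fppfPrecoverage 𝒳)
    (T : Set (AlgSt.Points 𝒳)) (hT : IsOpen T) {U : Over S} (y : FibCat.overCat U ⥤ᵇ 𝒳) :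
    Over S :=
  Over.mk ((chartOpen h𝒳 T hT y).ι ≫ U.hom)

noncomputable def chartIncl (h𝒳 : AlgSt.IsAlgStack Scheme.fppfPrecoverage 𝒳)
    (T : Set (AlgSt.Points 𝒳)) (hT : IsOpen T) {U : Over S} (y : FibCat.overCat U ⥤ᵇ 𝒳) :
    chartOver h𝒳 T hT y ⟶ U :=
  Over.homMk (chartOpen h𝒳 T hT y).ι rfl

theorem ι_mem_chartOpen (h𝒳 : AlgSt.IsAlgStack Scheme.fppfPrecoverage 𝒳)
    (T : Set (AlgSt.Points 𝒳)) (hT : IsOpen T) {U : Over S} (y : FibCat.overCat U ⥤ᵇ 𝒳)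
    (u₀ : ↥(chartOver h𝒳 T hT y).left) :
    AlgSt.Points.ofChart y ((chartIncl h𝒳 T hT y).left u₀) ∈ T := by
  have hmem : (chartOpen h𝒳 T hT y).ι u₀ ∈ (chartOpen h𝒳 T hT y : Set ↥U.left) := by
    rw [← Scheme.Opens.range_ι]; exact Set.mem_range_self u₀
  exact hmem

theorem qT_chart (h𝒳 : AlgSt.IsAlgStack Scheme.fppfPrecoverage 𝒳)
    (T : Set (AlgSt.Points 𝒳)) (hT : IsOpen T) {U : Over S} (y : FibCat.overCat U ⥤ᵇ 𝒳)
    (A : Over (chartOver h𝒳 T hT y)) :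
    QT T ((BasedFunctor.comp (AlgSt.overMap (chartIncl h𝒳 T hT y)) y).obj A) := by
  intro p φ
  have hGA : 𝒳.p.obj ((BasedFunctor.comp (AlgSt.overMap (chartIncl h𝒳 T hT y)) y).obj A) =
      A.left := (BasedFunctor.comp (AlgSt.overMap (chartIncl h𝒳 T hT y)) y).w_obj A
  let γ : Over.mk p.str ⟶ A.left := baseHom φ p.lies hGA
  have hγ : 𝒳.p.IsHomLift γ φ := baseHom_isHomLift φ p.lies hGA
  let q₀ : AlgSt.FPt (FibCat.overCat (chartOver h𝒳 T hT y)) :=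
    ⟨p.K, p.str, Over.mk (γ ≫ A.hom), rfl⟩
  let m : q₀.obj ⟶ A := Over.homMk γ rfl
  have hm : 𝒳.p.IsHomLift γ
      ((BasedFunctor.comp (AlgSt.overMap (chartIncl h𝒳 T hT y)) y).map m) :=
    map_isHomLift (BasedFunctor.comp (AlgSt.overMap (chartIncl h𝒳 T hT y)) y) m
  obtain ⟨χ, -, -⟩ := exists_hom_of_lifts h𝒳.isStack.1 γ φ _ hγ hm
  have e1 : AlgSt.Points.mk p =
      AlgSt.Points.map (BasedFunctor.comp (AlgSt.overMap (chartIncl h𝒳 T hT y)) y)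
        (AlgSt.Points.mk q₀) :=
    AlgSt.Points.sound ⟨p, 𝟙 _, χ, trivial⟩
  obtain ⟨u₀, hu₀⟩ := pt_surjective (chartOver h𝒳 T hT y) (AlgSt.Points.mk q₀)
  rw [e1, ← hu₀, Groth.Agent.Lib.AlgStPoints.map_comp, map_overMap_pt]
  exact ι_mem_chartOpen h𝒳 T hT y u₀

/-- The comparison functor from the open subscheme of the chart to the 2-fibre product. -/
noncomputable def chartLift (h𝒳 : AlgSt.IsAlgStack Scheme.fppfPrecoverage 𝒳)
    (T : Set (AlgSt.Points 𝒳)) (hT : IsOpen T) {U : Over S} (y : FibCat.overCat U ⥤ᵇ 𝒳) :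
    FibCat.overCat (chartOver h𝒳 T hT y) ⥤ᵇ fp y (AlgSt.subIncl 𝒳 (QT T)) :=
  fpLift (AlgSt.overMap (chartIncl h𝒳 T hT y))
    (liftSub (QT T) (BasedFunctor.comp (AlgSt.overMap (chartIncl h𝒳 T hT y)) y)
      (qT_chart h𝒳 T hT y))
    (Iso.refl _)

instance chartLift_faithful (h𝒳 : AlgSt.IsAlgStack Scheme.fppfPrecoverage 𝒳)
    (T : Set (AlgSt.Points 𝒳)) (hT : IsOpen T) {U : Over S} (y : FibCat.overCat U ⥤ᵇ 𝒳) :
    (chartLift h𝒳 T hT y).toFunctor.Faithful where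
  map_injective := by
    intro A₁ A₂ m m' h
    have h1 : (AlgSt.overMap (chartIncl h𝒳 T hT y)).map m =
        (AlgSt.overMap (chartIncl h𝒳 T hT y)).map m' := congrArg (fun n => n.hom.fst) h
    exact Over.OverMorphism.ext (congrArg (fun n => n.left) h1)

theorem mono_chartIncl (h𝒳 : AlgSt.IsAlgStack Scheme.fppfPrecoverage 𝒳)
    (T : Set (AlgSt.Points 𝒳)) (hT : IsOpen T) {U : Over S} (y : FibCat.overCat U ⥤ᵇ 𝒳) :
    Mono (chartIncl h𝒳 T hT y) := by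
  haveI : Mono ((Over.forget S).map (chartIncl h𝒳 T hT y)) :=
    (inferInstance : Mono (chartOpen h𝒳 T hT y).ι)
  exact (Over.forget S).mono_of_mono_map this

instance chartLift_full (h𝒳 : AlgSt.IsAlgStack Scheme.fppfPrecoverage 𝒳)
    (T : Set (AlgSt.Points 𝒳)) (hT : IsOpen T) {U : Over S} (y : FibCat.overCat U ⥤ᵇ 𝒳) :
    (chartLift h𝒳 T hT y).toFunctor.Full where
  map_surjective := by
    intro A₁ A₂ n
    haveI := mono_chartIncl h𝒳 T hT y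
    have hw0 : n.hom.fst.left ≫ (A₂.hom ≫ chartIncl h𝒳 T hT y) =
        A₁.hom ≫ chartIncl h𝒳 T hT y := Over.w n.hom.fst
    have hw1 : n.hom.fst.left ≫ A₂.hom = A₁.hom := by
      rw [← cancel_mono (chartIncl h𝒳 T hT y), Category.assoc]; exact hw0
    let m : A₁ ⟶ A₂ := Over.homMk n.hom.fst.left hw1
    have hfst : (AlgSt.overMap (chartIncl h𝒳 T hT y)).map m = n.hom.fst :=
      Over.OverMorphism.ext rfl
    have hw : y.map n.hom.fst ≫ 𝟙 _ = 𝟙 _ ≫ n.hom.snd.hom := n.hom.w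
    refine ⟨m, ?_⟩
    apply fp_hom_ext
    · exact hfst
    · apply ObjectProperty.hom_ext
      show y.map ((AlgSt.overMap (chartIncl h𝒳 T hT y)).map m) = n.hom.snd.hom
      rw [hfst]
      exact (Category.comp_id _).symm.trans (hw.trans (Category.id_comp _))

theorem chartLift_essSurj (h𝒳 : AlgSt.IsAlgStack Scheme.fppfPrecoverage 𝒳)
    (T : Set (AlgSt.Points 𝒳)) (hT : IsOpen T) {U : Over S} (y : FibCat.overCat U ⥤ᵇ 𝒳)
    (w : (fp y (AlgSt.subIncl 𝒳 (QT T))).obj) :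
    ∃ (A : (FibCat.overCat (chartOver h𝒳 T hT y)).obj) (φ : (chartLift h𝒳 T hT y).obj A ≅ w),
      (fp y (AlgSt.subIncl 𝒳 (QT T))).p.IsHomLift
        (𝟙 ((fp y (AlgSt.subIncl 𝒳 (QT T))).p.obj w)) φ.hom := by
  let A' : Over U := w.obj.fst
  have hrange : Set.range A'.hom.left ⊆ Set.range (chartOpen h𝒳 T hT y).ι := by
    rintro _ ⟨t, rfl⟩
    rw [Scheme.Opens.range_ι]
    exact ofChart_mem_of_qT y A' w.obj.snd.property w.obj.iso.hom t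
  let k : A'.left.left ⟶ (chartOpen h𝒳 T hT y).toScheme :=
    IsOpenImmersion.lift (chartOpen h𝒳 T hT y).ι A'.hom.left hrange
  have hk : k ≫ (chartOpen h𝒳 T hT y).ι = A'.hom.left := IsOpenImmersion.lift_fac _ _ _
  have hk' : k ≫ (chartOver h𝒳 T hT y).hom = A'.left.hom := by
    show k ≫ ((chartOpen h𝒳 T hT y).ι ≫ U.hom) = A'.left.hom
    rw [← Category.assoc, hk]; exact Over.w A'.hom
  let A₀ : Over (chartOver h𝒳 T hT y) :=
    Over.mk (Over.homMk k hk' : A'.left ⟶ chartOver h𝒳 T hT y)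
  have hA₀ : A₀.hom ≫ chartIncl h𝒳 T hT y = A'.hom := Over.OverMorphism.ext hk
  obtain ⟨φ₁, hφ₁⟩ : ∃ φ₁ : (AlgSt.overMap (chartIncl h𝒳 T hT y)).obj A₀ ≅ A',
      φ₁.hom.left = 𝟙 A'.left :=
    ⟨Over.isoMk (Iso.refl A'.left) ((Category.id_comp A'.hom).trans hA₀.symm), rfl⟩
  let φ₂ : (liftSub (QT T) (BasedFunctor.comp (AlgSt.overMap (chartIncl h𝒳 T hT y)) y)
      (qT_chart h𝒳 T hT y)).obj A₀ ≅ w.obj.snd :=
    ObjectProperty.isoMk (P := QT T) (y.toFunctor.mapIso φ₁ ≪≫ w.obj.iso)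
  have hlift : (FibCat.overCat U).p.IsHomLift (𝟙 A'.left) φ₁.hom := by
    have h0 := over_hom_isHomLift U φ₁.hom
    rw [hφ₁] at h0
    exact h0
  refine ⟨A₀, fpIsoMk (F := y) (G := AlgSt.subIncl 𝒳 (QT T))
    (X := (chartLift h𝒳 T hT y).obj A₀) (Y := w) φ₁ φ₂ ?_, ?_⟩
  · show y.map φ₁.hom ≫ w.obj.iso.hom = 𝟙 _ ≫ (y.map φ₁.hom ≫ w.obj.iso.hom)
    rw [Category.id_comp]
  · exact fpIsoMk_isHomLift _ _ _ hlift

theorem chartLift_isEquivOver (h𝒳 : AlgSt.IsAlgStack Scheme.fppfPrecoverage 𝒳)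
    (T : Set (AlgSt.Points 𝒳)) (hT : IsOpen T) {U : Over S} (y : FibCat.overCat U ⥤ᵇ 𝒳) :
    IsEquivOver (chartLift h𝒳 T hT y) :=
  isEquivOver_of_fullyFaithful (chartLift h𝒳 T hT y) (chartLift_essSurj h𝒳 T hT y)

theorem isOpenImm_subIncl_QT (h𝒳 : AlgSt.IsAlgStack Scheme.fppfPrecoverage 𝒳)
    (T : Set (AlgSt.Points 𝒳)) (hT : IsOpen T) : AlgSt.IsOpenImm (AlgSt.subIncl 𝒳 (QT T)) := by
  intro U y
  refine ⟨⟨(AlgSp.yon S).obj (chartOver h𝒳 T hT y), AlgSp.IsAlgSpace.yon_obj _⟩,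
    BasedFunctor.comp (AlgSt.toOverCat (chartOver h𝒳 T hT y)) (chartLift h𝒳 T hT y),
    isEquivOver_comp (toOverCat_isEquivOver _) (chartLift_isEquivOver h𝒳 T hT y), ?_⟩
  have h0 : AlgSt.spMapOfOver (BasedFunctor.comp
      (AlgSt.ofSpMap ((AlgSp.yon S).map (chartIncl h𝒳 T hT y))) (AlgSt.toOverCat U)) =
      (AlgSp.yon S).map (chartIncl h𝒳 T hT y) := by
    rw [spMapOfOver_comp_ofSpMap, spMapOfOver_toOverCat, Category.comp_id]
  have h1 : AlgSt.spMapOfOver (BasedFunctor.comp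
      (BasedFunctor.comp (AlgSt.toOverCat (chartOver h𝒳 T hT y)) (chartLift h𝒳 T hT y))
      (fpFst y (AlgSt.subIncl 𝒳 (QT T)))) = (AlgSp.yon S).map (chartIncl h𝒳 T hT y) := h0
  rw [h1]
  exact (AlgSp.repWith_yon_map_iff @IsOpenImmersion (chartIncl h𝒳 T hT y)).2
    (inferInstance : IsOpenImmersion (chartOpen h𝒳 T hT y).ι)

theorem isOpenSubstack_QT (h𝒳 : AlgSt.IsAlgStack Scheme.fppfPrecoverage 𝒳)
    (T : Set (AlgSt.Points 𝒳)) (hT : IsOpen T) :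
    AlgSt.IsOpenSubstack 𝒳 (QT T) Scheme.fppfPrecoverage := by
  have himm := isOpenImm_subIncl_QT h𝒳 T hT
  refine ⟨⟨fun e h => qT_of_hom e.inv h⟩, ?_, himm⟩
  exact isAlgStack_of_repByAlgSp1
    (isFibGrpd_fullSub h𝒳.isStack.1 (QT T) (fun φ h => qT_of_hom φ h)) h𝒳
    (AlgSt.subIncl 𝒳 (QT T)) (repByAlgSp1_of_repWith _ himm)

theorem isOpen_range_of_isOpenSubstack (h𝒳 : AlgSt.IsAlgStack Scheme.fppfPrecoverage 𝒳)
    {Q : 𝒳.obj → Prop} (hQ : AlgSt.IsOpenSubstack 𝒳 Q Scheme.fppfPrecoverage) :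
    IsOpen (Set.range (AlgSt.Points.map (AlgSt.subIncl 𝒳 Q))) := by
  obtain ⟨-, halg, himm⟩ := hQ
  have h1 : AlgSt.RepByAlgSpWith (AlgSp.LocP @Flat) (AlgSt.subIncl 𝒳 Q) :=
    repWith_mono' (fun X U a _ (ha : AlgSp.RepWith @IsOpenImmersion a) =>
      locP_of_repWith @Flat (fun _ _ g (_ : Etale g) => (inferInstance : Flat g)) a
        (repWith_mono (fun _ _ g (_ : IsOpenImmersion g) => (inferInstance : Flat g)) ha))
      _ himm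
  have h2 : AlgSt.RepByAlgSpWith (AlgSp.LocP @LocallyOfFinitePresentation)
      (AlgSt.subIncl 𝒳 Q) :=
    repWith_mono' (fun X U a _ (ha : AlgSp.RepWith @IsOpenImmersion a) =>
      locP_of_repWith @LocallyOfFinitePresentation
        (fun _ _ g (_ : Etale g) => (inferInstance : LocallyOfFinitePresentation g)) a
        (repWith_mono (fun _ _ g (_ : IsOpenImmersion g) =>
          (inferInstance : LocallyOfFinitePresentation g)) ha)) _ himm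
  rw [← Set.image_univ]
  exact isOpenMap_points_map halg h𝒳 _ h1 h2 _ isOpen_univ

/-- S12861. -/
theorem exists_isOpenSubstack_union (h𝒳 : AlgSt.IsAlgStack Scheme.fppfPrecoverage 𝒳)
    {ι : Type w} (Q : ι → 𝒳.obj → Prop)
    (hQ : ∀ i, AlgSt.IsOpenSubstack 𝒳 (Q i) Scheme.fppfPrecoverage) :
    ∃ Q' : 𝒳.obj → Prop, AlgSt.IsOpenSubstack 𝒳 Q' Scheme.fppfPrecoverage ∧
      (∀ i y, Q i y → Q' y) ∧
      Set.range (AlgSt.Points.map (AlgSt.subIncl 𝒳 Q')) =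
        ⋃ i, Set.range (AlgSt.Points.map (AlgSt.subIncl 𝒳 (Q i))) := by
  have hT : IsOpen (⋃ i, Set.range (AlgSt.Points.map (AlgSt.subIncl 𝒳 (Q i)))) :=
    isOpen_iUnion fun i => isOpen_range_of_isOpenSubstack h𝒳 (hQ i)
  refine ⟨QT (⋃ i, Set.range (AlgSt.Points.map (AlgSt.subIncl 𝒳 (Q i)))),
    isOpenSubstack_QT h𝒳 _ hT, ?_, range_subIncl_QT _⟩
  intro i y hy p φ
  exact Set.mem_iUnion.2 ⟨i, qT_of_mem (hQ i).2.1.isStack.1 h𝒳.isStack.1 hy p φ⟩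

/-- S12862. -/
theorem exists_finset_subcover_openSubstack
    (h𝒳 : AlgSt.IsAlgStack Scheme.fppfPrecoverage 𝒳) (Q' : 𝒳.obj → Prop)
    (hQ' : AlgSt.IsOpenSubstack 𝒳 Q' Scheme.fppfPrecoverage)
    (hqc : AlgSt.IsQuasiCompact (AlgSt.fullSub 𝒳 Q'))
    {ι : Type w} (Q : ι → 𝒳.obj → Prop)
    (hQ : ∀ i, AlgSt.IsOpenSubstack 𝒳 (Q i) Scheme.fppfPrecoverage)
    (hcov : Set.range (AlgSt.Points.map (AlgSt.subIncl 𝒳 Q')) ⊆
      ⋃ i, Set.range (AlgSt.Points.map (AlgSt.subIncl 𝒳 (Q i)))) :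
    ∃ I' : Finset ι, Set.range (AlgSt.Points.map (AlgSt.subIncl 𝒳 Q')) ⊆
      ⋃ i ∈ I', Set.range (AlgSt.Points.map (AlgSt.subIncl 𝒳 (Q i))) := by
  haveI : CompactSpace (AlgSt.Points (AlgSt.fullSub 𝒳 Q')) :=
    (isQuasiCompact_iff_compactSpace_points hQ'.2.1).1 hqc
  have hc : IsCompact (Set.range (AlgSt.Points.map (AlgSt.subIncl 𝒳 Q'))) :=
    isCompact_range (continuous_points_map hQ'.2.1 h𝒳 _)
  exact hc.elim_finite_subcover _ (fun i => isOpen_range_of_isOpenSubstack h𝒳 (hQ i)) hcov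

end openSub

end Groth.Agent.Lib.AlgStLocQ
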