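import Groth.Agent.Lib.AlgStMono_lead

/-!
# Categories representable by algebraic spaces are fibred in setoids (lead)
-/

set_option autoImplicit false
set_option backward.isDefEq.respectTransparency false
set_option backward.isDefEq.respectTransparency.types false

universe w v u v₁ u₁

open CategoryTheory CategoryTheory.Limits AlgebraicGeometry FibCat Opposite

namespace Groth.Agent.Lib.AlgStSetoid

open Groth.Agent.Lib.FibCat_helper6 Groth.Agent.Lib.FibCat3_helper6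

theorem eltHom_ext_of_lifts {C : Type u₁} [Category.{v₁} C] {P : Cᵒᵖ ⥤ Type w} {a b : Stk.EltObj P}
    (φ ψ : a ⟶ b) {R T : C} (γ : R ⟶ T) (h1 : (Stk.EltObj.forget P).IsHomLift γ φ)
    (h2 : (Stk.EltObj.forget P).IsHomLift γ ψ) : φ = ψ := by
  apply Stk.EltObj.hom_ext
  have e1 := IsHomLift.fac' (Stk.EltObj.forget P) γ φ
  have e2 := IsHomLift.fac' (Stk.EltObj.forget P) γ ψ
  exact e1.trans e2.symm

variable {S : Scheme.{u}}

theorem isFibSetoid_of_repByAlgSp {𝒳 : BasedCategory.{v, w} (Over S)} (h𝒳 : IsFibGrpd 𝒳.p)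
    (hr : AlgSt.RepByAlgSp 𝒳) : IsFibSetoid 𝒳.p := by
  refine ⟨h𝒳, fun U => fun a b => ⟨fun φ ψ => ?_⟩⟩
  obtain ⟨F, e, he⟩ := hr
  obtain ⟨G, ⟨e₁⟩, ⟨e₂⟩⟩ := he
  have hG : IsEquivOver G := isEquivOver_inverse e₁ e₂
  haveI := faithful_of_isEquivOver hG
  apply Functor.Fiber.hom_ext
  have hφ : 𝒳.p.IsHomLift (𝟙 U) φ.1 := φ.2
  have hψ : 𝒳.p.IsHomLift (𝟙 U) ψ.1 := ψ.2
  have h1 : (AlgSt.ofSp F.obj).p.IsHomLift (𝟙 U) (G.map φ.1) :=
    BasedFunctor.preserves_isHomLift G (𝟙 U) φ.1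
  have h2 : (AlgSt.ofSp F.obj).p.IsHomLift (𝟙 U) (G.map ψ.1) :=
    BasedFunctor.preserves_isHomLift G (𝟙 U) ψ.1
  exact G.toFunctor.map_injective (eltHom_ext_of_lifts _ _ (𝟙 U) h1 h2)

end Groth.Agent.Lib.AlgStSetoid
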