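import Groth.Agent.Lib.FibCatPaste_lead
import Groth.Agent.Lib.FibCat12_helper6
import Groth.Prelude.Def_AlgSt4
import Mathlib.AlgebraicGeometry.PullbackCarrier
import Mathlib.AlgebraicGeometry.ResidueField

/-!
# Points of categories fibred in groupoids over `(Sch/S)` (lead)

The relation on field valued points is an equivalence relation, points of 2-fibre products,
base change of surjective / universally injective morphisms, and the characterisation of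
universally injective morphisms through the diagonal.
-/

set_option autoImplicit false
set_option backward.isDefEq.respectTransparency false
set_option backward.isDefEq.respectTransparency.types false

universe w''' v''' w'' v'' w' v' w v u v₄ u₄ v₃ u₃ v₂ u₂ v₁ u₁

open CategoryTheory CategoryTheory.Limits AlgebraicGeometry FibCat

namespace Groth.Agent.Lib.AlgStPoints

open Groth.Agent.Lib.FibCat_helper6 Groth.Agent.Lib.FibCat3_helper6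
  Groth.Agent.Lib.FibCat14_helper6 Groth.Agent.Lib.FibCatPaste Groth.Agent.Lib.FibCat12_helper6

section general

variable {C : Type u₁} [Category.{v₁} C] {𝒳 : BasedCategory.{v₂, u₂} C}
  {𝒴 : BasedCategory.{v₃, u₃} C} {𝒵 : BasedCategory.{v₄, u₄} C}

/-- The morphism of the base under a morphism with prescribed endpoints. -/
def baseHom {a b : 𝒳.obj} (φ : a ⟶ b) {R T : C} (ha : 𝒳.p.obj a = R) (hb : 𝒳.p.obj b = T) :
    R ⟶ T :=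
  eqToHom ha.symm ≫ 𝒳.p.map φ ≫ eqToHom hb

theorem baseHom_isHomLift {a b : 𝒳.obj} (φ : a ⟶ b) {R T : C} (ha : 𝒳.p.obj a = R)
    (hb : 𝒳.p.obj b = T) : 𝒳.p.IsHomLift (baseHom φ ha hb) φ := by
  subst ha hb
  simp only [baseHom, eqToHom_refl, Category.id_comp, Category.comp_id]
  infer_instance

/-- Two lifts of the same morphism of the base with the same target are connected by a morphism
over the identity. -/
theorem exists_hom_of_lifts (h : IsFibGrpd 𝒳.p) {R T : C} (γ : R ⟶ T) {a b x : 𝒳.obj}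
    (φ : a ⟶ x) (ψ : b ⟶ x) (hφ : 𝒳.p.IsHomLift γ φ) (hψ : 𝒳.p.IsHomLift γ ψ) :
    ∃ χ : a ⟶ b, 𝒳.p.IsHomLift (𝟙 R) χ ∧ χ ≫ ψ = φ := by
  haveI := isStronglyCartesian_of_isFibGrpd h γ ψ
  exact ⟨Functor.IsStronglyCartesian.map 𝒳.p γ ψ (g := 𝟙 R) (f' := γ)
    (Category.id_comp γ).symm φ, inferInstance, Functor.IsStronglyCartesian.fac _ _ _ _ _⟩

/-- Transport of the comparison isomorphism of an object of a 2-fibre product along lifts. -/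
theorem exists_iso_of_lifts (h𝒴 : IsFibGrpd 𝒴.p) (f : 𝒳 ⥤ᵇ 𝒴) (g : 𝒵 ⥤ᵇ 𝒴) {z z' : 𝒵.obj}
    {x x' : 𝒳.obj} (θ : g.obj z ≅ f.obj x) {R T : C} (γ : R ⟶ T)
    (hθ : 𝒴.p.IsHomLift (𝟙 T) θ.hom) (a : z' ⟶ z) (ψ : x' ⟶ x) (ha : 𝒵.p.IsHomLift γ a)
    (hψ : 𝒳.p.IsHomLift γ ψ) :
    ∃ θ' : g.obj z' ≅ f.obj x', 𝒴.p.IsHomLift (𝟙 R) θ'.hom ∧
      g.map a ≫ θ.hom = θ'.hom ≫ f.map ψ := by
  have h0 : 𝒴.p.IsHomLift γ (g.map a) := inferInstance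
  have h1 : 𝒴.p.IsHomLift γ (g.map a ≫ θ.hom) := inferInstance
  have h2 : 𝒴.p.IsHomLift γ (f.map ψ) := inferInstance
  obtain ⟨χ, hχ, e⟩ := exists_hom_of_lifts h𝒴 γ (g.map a ≫ θ.hom) (f.map ψ) h1 h2
  haveI : IsIso χ := isIso_of_isFibGrpd_id h𝒴 (R := R) χ
  exact ⟨asIso χ, hχ, e.symm⟩

end general

section amalgam

variable {S : Scheme.{u}}

/-- Amalgamation of fields, in the form of spectra over `S`. -/
theorem exists_amalgam {K₁ K₂ K₀ : Type u} [Field K₁] [Field K₂] [Field K₀]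
    (s₁ : Spec (CommRingCat.of K₁) ⟶ S) (s₂ : Spec (CommRingCat.of K₂) ⟶ S)
    (s₀ : Spec (CommRingCat.of K₀) ⟶ S)
    (α : Over.mk s₁ ⟶ Over.mk s₀) (β : Over.mk s₂ ⟶ Over.mk s₀) :
    ∃ (M : Type u) (_ : Field M) (s : Spec (CommRingCat.of M) ⟶ S)
      (γ₁ : Over.mk s ⟶ Over.mk s₁) (γ₂ : Over.mk s ⟶ Over.mk s₂), γ₁ ≫ α = γ₂ ≫ β := by
  let a : Spec (CommRingCat.of K₁) ⟶ Spec (CommRingCat.of K₀) := α.left
  let b : Spec (CommRingCat.of K₂) ⟶ Spec (CommRingCat.of K₀) := β.left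
  have ha : a ≫ s₀ = s₁ := Over.w α
  have hb : b ≫ s₀ = s₂ := Over.w β
  obtain ⟨t, -, -⟩ := Scheme.Pullback.exists_preimage_pullback (f := a) (g := b) default default
    (Subsingleton.elim _ _)
  refine ⟨↥((pullback a b).residueField t), inferInstance,
    (pullback a b).fromSpecResidueField t ≫ pullback.fst a b ≫ s₁,
    Over.homMk ((pullback a b).fromSpecResidueField t ≫ pullback.fst a b) (by simp),
    Over.homMk ((pullback a b).fromSpecResidueField t ≫ pullback.snd a b) ?_, ?_⟩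
  · simp only [Over.mk_hom, Category.assoc]
    rw [← hb, ← ha, pullback.condition_assoc]
  · ext
    simp only [Over.comp_left, Over.homMk_left, Category.assoc]
    exact congrArg _ pullback.condition

end amalgam

section points

variable {S : Scheme.{u}} {𝒳 : BasedCategory.{v, w} (Over S)}
  {𝒴 : BasedCategory.{v', w'} (Over S)} {𝒵 : BasedCategory.{v'', w''} (Over S)}

theorem rel_trans (h : IsFibGrpd 𝒳.p) {p q s : AlgSt.FPt 𝒳} (h1 : AlgSt.FPt.Rel p q)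
    (h2 : AlgSt.FPt.Rel q s) : AlgSt.FPt.Rel p s := by
  obtain ⟨r, a, b, -⟩ := h1
  obtain ⟨r', a', b', -⟩ := h2
  obtain ⟨M, _, str, γ₁, γ₂, hγ⟩ := exists_amalgam r.str r'.str q.str
    (baseHom b r.lies q.lies) (baseHom a' r'.lies q.lies)
  obtain ⟨c, φ, hφ⟩ := exists_lift_of_isFibGrpd h r.lies γ₁
  obtain ⟨c', φ', hφ'⟩ := exists_lift_of_isFibGrpd h r'.lies γ₂
  have hb := baseHom_isHomLift b r.lies q.lies
  have ha' := baseHom_isHomLift a' r'.lies q.lies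
  have l1 : 𝒳.p.IsHomLift (γ₁ ≫ baseHom b r.lies q.lies) (φ ≫ b) := inferInstance
  have l2 : 𝒳.p.IsHomLift (γ₁ ≫ baseHom b r.lies q.lies) (φ' ≫ a') := by
    rw [hγ]; infer_instance
  obtain ⟨χ, -, -⟩ := exists_hom_of_lifts h _ (φ ≫ b) (φ' ≫ a') l1 l2
  exact ⟨⟨M, str, c, IsHomLift.domain_eq 𝒳.p γ₁ φ⟩, φ ≫ a, χ ≫ φ' ≫ b', trivial⟩

/-- The relation on field valued points of a category fibred in groupoids is an equivalence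
relation. -/
theorem rel_equivalence (h : IsFibGrpd 𝒳.p) : _root_.Equivalence (@AlgSt.FPt.Rel S 𝒳) :=
  ⟨fun p => ⟨p, 𝟙 _, 𝟙 _, trivial⟩, fun ⟨r, a, b, _⟩ => ⟨r, b, a, trivial⟩,
    fun h1 h2 => rel_trans h h1 h2⟩

theorem mk_eq_mk_iff (h : IsFibGrpd 𝒳.p) {p q : AlgSt.FPt 𝒳} :
    AlgSt.Points.mk p = AlgSt.Points.mk q ↔ AlgSt.FPt.Rel p q :=
  ⟨fun e => (rel_equivalence h).eqvGen_iff.1 (Quot.eqvGen_exact e), AlgSt.Points.sound⟩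

theorem map_comp (F : 𝒳 ⥤ᵇ 𝒴) (G : 𝒴 ⥤ᵇ 𝒵) (x : AlgSt.Points 𝒳) :
    AlgSt.Points.map (BasedFunctor.comp F G) x = AlgSt.Points.map G (AlgSt.Points.map F x) := by
  obtain ⟨p, rfl⟩ := AlgSt.Points.mk_surjective x
  rfl

theorem map_id (x : AlgSt.Points 𝒳) : AlgSt.Points.map (BasedFunctor.id 𝒳) x = x := by
  obtain ⟨p, rfl⟩ := AlgSt.Points.mk_surjective x
  rfl

theorem map_surjective_of_isEquivOver (F : 𝒳 ⥤ᵇ 𝒴) (h : IsEquivOver F) :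
    Function.Surjective (AlgSt.Points.map F) := by
  intro y
  obtain ⟨q, rfl⟩ := AlgSt.Points.mk_surjective y
  obtain ⟨x, φ, hφ⟩ := essSurjOver_of_isEquivOver h q.obj
  have hx : 𝒳.p.obj x = Over.mk q.str := by
    rw [← F.w_obj x, IsHomLift.domain_eq 𝒴.p (𝟙 (𝒴.p.obj q.obj)) φ.hom]; exact q.lies
  refine ⟨AlgSt.Points.mk ⟨q.K, q.str, x, hx⟩, ?_⟩
  show AlgSt.Points.mk _ = AlgSt.Points.mk q
  exact AlgSt.Points.sound ⟨_, 𝟙 _, φ.hom, trivial⟩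

/-- A point of `𝒵` and a point of `𝒳` with the same image in `|𝒴|` come from a point of the
2-fibre product. -/
theorem exists_fp_point (h𝒳 : IsFibGrpd 𝒳.p) (h𝒴 : IsFibGrpd 𝒴.p) (h𝒵 : IsFibGrpd 𝒵.p)
    (f : 𝒳 ⥤ᵇ 𝒴) (g : 𝒵 ⥤ᵇ 𝒴) (z : AlgSt.Points 𝒵) (x : AlgSt.Points 𝒳)
    (h : AlgSt.Points.map g z = AlgSt.Points.map f x) :
    ∃ w : AlgSt.Points (fp g f),
      AlgSt.Points.map (fpFst g f) w = z ∧ AlgSt.Points.map (fpSnd g f) w = x := by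
  obtain ⟨p, rfl⟩ := AlgSt.Points.mk_surjective z
  obtain ⟨q, rfl⟩ := AlgSt.Points.mk_surjective x
  obtain ⟨r, a, b, -⟩ := (mk_eq_mk_iff h𝒴).1 h
  have hp : 𝒴.p.obj (g.obj p.obj) = Over.mk p.str := (p.map g).lies
  have hq : 𝒴.p.obj (f.obj q.obj) = Over.mk q.str := (q.map f).lies
  have hα : 𝒴.p.IsHomLift (baseHom a r.lies hp) a := baseHom_isHomLift a r.lies hp
  have hβ : 𝒴.p.IsHomLift (baseHom b r.lies hq) b := baseHom_isHomLift b r.lies hq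
  obtain ⟨z', φ, hφ⟩ := exists_lift_of_isFibGrpd h𝒵 p.lies (baseHom a r.lies hp)
  obtain ⟨x', ψ, hψ⟩ := exists_lift_of_isFibGrpd h𝒳 q.lies (baseHom b r.lies hq)
  have hgφ : 𝒴.p.IsHomLift (baseHom a r.lies hp) (g.map φ) := inferInstance
  have hfψ : 𝒴.p.IsHomLift (baseHom b r.lies hq) (f.map ψ) := inferInstance
  obtain ⟨χ₁, hχ₁, -⟩ := exists_hom_of_lifts h𝒴 _ (g.map φ) a hgφ hα
  obtain ⟨χ₂, hχ₂, -⟩ := exists_hom_of_lifts h𝒴 _ b (f.map ψ) hβ hfψ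
  have hz' : 𝒵.p.obj z' = Over.mk r.str := IsHomLift.domain_eq 𝒵.p (baseHom a r.lies hp) φ
  have hθ : 𝒴.p.IsHomLift (𝟙 (Over.mk r.str)) (χ₁ ≫ χ₂) := isHomLift_comp_of_id χ₁ χ₂ hχ₁ hχ₂
  haveI : IsIso (χ₁ ≫ χ₂) := isIso_of_isFibGrpd_id h𝒴 (R := Over.mk r.str) (χ₁ ≫ χ₂)
  let w₀ : (fp g f).obj := fpObjMk z' x' (asIso (χ₁ ≫ χ₂)) (isHomLift_id_of_eq hz'.symm _ hθ)
  let W : AlgSt.FPt (fp g f) := ⟨r.K, r.str, w₀, hz'⟩
  refine ⟨AlgSt.Points.mk W, ?_, ?_⟩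
  · show AlgSt.Points.mk (W.map (fpFst g f)) = AlgSt.Points.mk p
    exact AlgSt.Points.sound ⟨W.map (fpFst g f), 𝟙 _, φ, trivial⟩
  · show AlgSt.Points.mk (W.map (fpSnd g f)) = AlgSt.Points.mk q
    exact AlgSt.Points.sound ⟨W.map (fpSnd g f), 𝟙 _, ψ, trivial⟩

theorem surjective_fpFst (h𝒳 : IsFibGrpd 𝒳.p) (h𝒴 : IsFibGrpd 𝒴.p) (h𝒵 : IsFibGrpd 𝒵.p)
    (f : 𝒳 ⥤ᵇ 𝒴) (g : 𝒵 ⥤ᵇ 𝒴) (hf : AlgSt.IsSurjective f) :
    AlgSt.IsSurjective (fpFst g f) := by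
  intro z
  obtain ⟨x, hx⟩ := hf (AlgSt.Points.map g z)
  obtain ⟨w, hw, -⟩ := exists_fp_point h𝒳 h𝒴 h𝒵 f g z x hx.symm
  exact ⟨w, hw⟩

theorem map_diag_fst (f : 𝒳 ⥤ᵇ 𝒴) (t : AlgSt.Points 𝒳) :
    AlgSt.Points.map (fpFst f f) (AlgSt.Points.map (FibCat.diag f) t) = t := by
  obtain ⟨p, rfl⟩ := AlgSt.Points.mk_surjective t
  rfl

end points

section univ

variable {S : Scheme.{u}} (K : Precoverage Scheme.{u})

theorem univInjective_baseChange {𝒳 𝒴 𝒵 : AlgSt.Cat S} (f : 𝒳 ⥤ᵇ 𝒴) (g : 𝒵 ⥤ᵇ 𝒴)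
    (hf : AlgSt.IsUnivInjective K f) : AlgSt.IsUnivInjective K (fpFst g f) := by
  intro 𝒲 h𝒲 h
  have inj := hf 𝒲 h𝒲 (BasedFunctor.comp h g)
  have surj := map_surjective_of_isEquivOver (paste h g f) (paste_isEquivOver h g f)
  have e : ∀ t, AlgSt.Points.map (fpFst (BasedFunctor.comp h g) f) t =
      AlgSt.Points.map (fpFst h (fpFst g f)) (AlgSt.Points.map (paste h g f) t) :=
    fun t => map_comp (paste h g f) (fpFst h (fpFst g f)) t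
  intro a b hab
  obtain ⟨a', rfl⟩ := surj a
  obtain ⟨b', rfl⟩ := surj b
  exact congrArg _ (inj ((e a').trans (hab.trans (e b').symm)))

theorem diag_surjective_of_univInjective {𝒳 𝒴 : AlgSt.Cat S} (h𝒳 : AlgSt.IsAlgStack K 𝒳)
    (f : 𝒳 ⥤ᵇ 𝒴) (hf : AlgSt.IsUnivInjective K f) : AlgSt.IsSurjective (FibCat.diag f) := by
  intro w
  refine ⟨AlgSt.Points.map (fpFst f f) w, ?_⟩
  apply hf 𝒳 h𝒳 f
  exact map_diag_fst f _

theorem univInjective_of_diag_surjective {𝒳 𝒴 : AlgSt.Cat S} (h𝒳 : IsFibGrpd 𝒳.p)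
    (h𝒴 : IsFibGrpd 𝒴.p) (f : 𝒳 ⥤ᵇ 𝒴) (hΔ : AlgSt.IsSurjective (FibCat.diag f)) :
    AlgSt.IsUnivInjective K f := by
  intro 𝒵 h𝒵alg g
  have h𝒵 : IsFibGrpd 𝒵.p := h𝒵alg.isStack.1
  intro w₁ w₂ hw
  obtain ⟨P₁, rfl⟩ := AlgSt.Points.mk_surjective w₁
  obtain ⟨P₂, rfl⟩ := AlgSt.Points.mk_surjective w₂
  obtain ⟨r, a₁, a₂, -⟩ := (mk_eq_mk_iff h𝒵).1 hw
  -- step 1: pull both points back to `r`
  have hP₁ : 𝒵.p.obj P₁.obj.obj.fst = Over.mk P₁.str := P₁.lies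
  have hP₂ : 𝒵.p.obj P₂.obj.obj.fst = Over.mk P₂.str := P₂.lies
  have hα₁ : 𝒵.p.IsHomLift (baseHom a₁ r.lies hP₁) a₁ := baseHom_isHomLift a₁ r.lies hP₁
  have hα₂ : 𝒵.p.IsHomLift (baseHom a₂ r.lies hP₂) a₂ := baseHom_isHomLift a₂ r.lies hP₂
  obtain ⟨x₁', ψ₁, hψ₁⟩ := exists_lift_of_isFibGrpd h𝒳
    ((fp_obj_snd_proj P₁.obj).trans hP₁) (baseHom a₁ r.lies hP₁)
  obtain ⟨x₂', ψ₂, hψ₂⟩ := exists_lift_of_isFibGrpd h𝒳
    ((fp_obj_snd_proj P₂.obj).trans hP₂) (baseHom a₂ r.lies hP₂)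
  obtain ⟨θ₁', hθ₁', e₁⟩ := exists_iso_of_lifts h𝒴 f g P₁.obj.obj.iso (baseHom a₁ r.lies hP₁)
    (fp_obj_iso_isHomLift' P₁.obj hP₁) a₁ ψ₁ hα₁ hψ₁
  obtain ⟨θ₂', hθ₂', e₂⟩ := exists_iso_of_lifts h𝒴 f g P₂.obj.obj.iso (baseHom a₂ r.lies hP₂)
    (fp_obj_iso_isHomLift' P₂.obj hP₂) a₂ ψ₂ hα₂ hψ₂
  let Q₁ : (fp g f).obj := fpObjMk r.obj x₁' θ₁' (isHomLift_id_of_eq r.lies.symm _ hθ₁')
  let Q₂ : (fp g f).obj := fpObjMk r.obj x₂' θ₂' (isHomLift_id_of_eq r.lies.symm _ hθ₂')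
  let m₁ : Q₁ ⟶ P₁.obj := fpHomMk a₁ ψ₁ e₁
  let m₂ : Q₂ ⟶ P₂.obj := fpHomMk a₂ ψ₂ e₂
  -- step 2: the point of `𝒳 ×_𝒴 𝒳`
  have hx₁' : 𝒳.p.obj x₁' = Over.mk r.str := IsHomLift.domain_eq 𝒳.p (baseHom a₁ r.lies hP₁) ψ₁
  have hθ₁'inv : 𝒴.p.IsHomLift (𝟙 (Over.mk r.str)) θ₁'.inv := inferInstance
  have hτ : 𝒴.p.IsHomLift (𝟙 (Over.mk r.str)) (θ₁'.symm ≪≫ θ₂').hom :=
    isHomLift_comp_of_id θ₁'.inv θ₂'.hom hθ₁'inv hθ₂'
  let D : (fp f f).obj := fpObjMk x₁' x₂' (θ₁'.symm ≪≫ θ₂') (isHomLift_id_of_eq hx₁'.symm _ hτ)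
  let 𝒟 : AlgSt.FPt (fp f f) := ⟨r.K, r.str, D, hx₁'⟩
  obtain ⟨y, hy⟩ := hΔ (AlgSt.Points.mk 𝒟)
  obtain ⟨Y, rfl⟩ := AlgSt.Points.mk_surjective y
  have hfp : IsFibGrpd (fp f f).p := isFibGrpd_fp f f h𝒳 h𝒳 h𝒴
  obtain ⟨t, n₁, n₂, -⟩ := (mk_eq_mk_iff hfp).1 hy
  have ht : 𝒳.p.obj t.obj.obj.fst = Over.mk t.str := t.lies
  have hY : (fp f f).p.obj ((FibCat.diag f).obj Y.obj) = Over.mk Y.str := (Y.map (FibCat.diag f)).lies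
  have hδ : (fp f f).p.IsHomLift (baseHom n₁ t.lies hY) n₁ := baseHom_isHomLift n₁ t.lies hY
  have hu₁ : 𝒳.p.IsHomLift (baseHom n₁ t.lies hY) n₁.hom.fst := fp_isHomLift_fst n₁ _
  have hu₂ : 𝒳.p.IsHomLift (baseHom n₁ t.lies hY) n₁.hom.snd := fp_isHomLift_snd' n₁ _
  have w₁ : f.map n₁.hom.fst = t.obj.obj.iso.hom ≫ f.map n₁.hom.snd :=
    (Category.comp_id _).symm.trans n₁.hom.w
  obtain ⟨χ, hχ, eχ⟩ := exists_hom_of_lifts h𝒳 _ n₁.hom.fst n₁.hom.snd hu₁ hu₂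
  have hσ : 𝒴.p.IsHomLift (𝟙 (Over.mk t.str)) t.obj.obj.iso.hom := fp_obj_iso_isHomLift' t.obj ht
  have fχ : f.map χ = t.obj.obj.iso.hom := by
    have hc : 𝒴.p.IsHomLift (baseHom n₁ t.lies hY) (f.map n₁.hom.snd) := inferInstance
    haveI := isStronglyCartesian_of_isFibGrpd h𝒴 (baseHom n₁ t.lies hY) (f.map n₁.hom.snd)
    have hfχ : 𝒴.p.IsHomLift (𝟙 (Over.mk t.str)) (f.map χ) := inferInstance
    apply Functor.IsStronglyCartesian.ext 𝒴.p (baseHom n₁ t.lies hY) (f.map n₁.hom.snd)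
      (𝟙 (Over.mk t.str))
    rw [← f.map_comp, eχ, w₁]
  -- step 3: the common refinement
  have h𝒟 : (fp f f).p.obj D = Over.mk r.str := hx₁'
  have hγ : (fp f f).p.IsHomLift (baseHom n₂ t.lies h𝒟) n₂ := baseHom_isHomLift n₂ t.lies h𝒟
  have hv₁ : 𝒳.p.IsHomLift (baseHom n₂ t.lies h𝒟) n₂.hom.fst := fp_isHomLift_fst n₂ _
  obtain ⟨zt, ζ, hζ⟩ := exists_lift_of_isFibGrpd h𝒵 r.lies (baseHom n₂ t.lies h𝒟)
  obtain ⟨ε₁, hε₁, eε₁⟩ := exists_iso_of_lifts h𝒴 f g θ₁' (baseHom n₂ t.lies h𝒟) hθ₁' ζ n₂.hom.fst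
    hζ hv₁
  have hzt : 𝒵.p.obj zt = Over.mk t.str := IsHomLift.domain_eq 𝒵.p (baseHom n₂ t.lies h𝒟) ζ
  let E : (fp g f).obj := fpObjMk zt t.obj.obj.fst ε₁ (isHomLift_id_of_eq hzt.symm _ hε₁)
  let ℰ : AlgSt.FPt (fp g f) := ⟨t.K, t.str, E, hzt⟩
  let k₁ : E ⟶ Q₁ := fpHomMk ζ n₂.hom.fst eε₁
  have w₂ : f.map n₂.hom.fst ≫ (θ₁'.inv ≫ θ₂'.hom) = t.obj.obj.iso.hom ≫ f.map n₂.hom.snd :=
    n₂.hom.w
  have ek₂ : g.map ζ ≫ θ₂'.hom = ε₁.hom ≫ f.map (χ ≫ n₂.hom.snd) := by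
    rw [f.map_comp, fχ, ← w₂, ← Category.assoc ε₁.hom, ← eε₁, Category.assoc,
      Iso.hom_inv_id_assoc]
  let k₂ : E ⟶ Q₂ := fpHomMk ζ (χ ≫ n₂.hom.snd) ek₂
  exact AlgSt.Points.sound ⟨ℰ, k₁ ≫ m₁, k₂ ≫ m₂, trivial⟩

end univ

end Groth.Agent.Lib.AlgStPoints
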