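import Groth.Agent.Lib.OfPshCalc_lead
import Groth.Agent.Lib.AlgStPoints_lead

/-!
# A category fibred in setoids is equivalent to the category of its presheaf of isomorphism
classes (lead)
-/

set_option autoImplicit false

universe w v₆ u₆ v₅ u₅ v₄ u₄ v₃ u₃ v₂ u₂ v u

open CategoryTheory CategoryTheory.Limits Opposite FibCat Stk

namespace Groth.Agent.Lib.OfPshIso

open Groth.Agent.Lib.FibCat_helper6 Groth.Agent.Lib.FibCat3_helper6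
  Groth.Agent.Lib.FibCat14_helper6 Groth.Agent.Lib.FibCatPaste Groth.Agent.Lib.AlgStPoints
  Groth.Agent.Lib.OfPshCalc

variable {C : Type u} [Category.{v} C] {𝒲 : BasedCategory.{v₂, u₂} C}

/-- In a category fibred in setoids two morphisms over the same identity are equal. -/
theorem eq_of_lifts_id (hs : IsFibSetoid 𝒲.p) {R : C} {a b : 𝒲.obj} (φ ψ : a ⟶ b)
    (hφ : 𝒲.p.IsHomLift (𝟙 R) φ) (hψ : 𝒲.p.IsHomLift (𝟙 R) ψ) : φ = ψ := by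
  have ha : 𝒲.p.obj a = R := IsHomLift.domain_eq 𝒲.p (𝟙 R) φ
  have hb : 𝒲.p.obj b = R := IsHomLift.codomain_eq 𝒲.p (𝟙 R) φ
  let A : 𝒲.p.Fiber R := ⟨a, ha⟩
  let B : 𝒲.p.Fiber R := ⟨b, hb⟩
  let φ' : A ⟶ B := ⟨φ, hφ⟩
  let ψ' : A ⟶ B := ⟨ψ, hψ⟩
  have h : φ' = ψ' := (hs.2 R A B).elim φ' ψ'
  exact congrArg Subtype.val h

variable (𝒲) in
/-- Objects over `T`. -/
def Ob (T : C) : Type u₂ := {w : 𝒲.obj // 𝒲.p.obj w = T}

variable (𝒲) in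
/-- Two objects over `T` are related when there is a morphism between them over `𝟙 T`. -/
def rel (T : C) (w w' : Ob 𝒲 T) : Prop := ∃ φ : w.1 ⟶ w'.1, 𝒲.p.IsHomLift (𝟙 T) φ

theorem rel_refl (T : C) (w : Ob 𝒲 T) : rel 𝒲 T w w := ⟨𝟙 w.1, IsHomLift.id w.2⟩

theorem rel_symm (h : IsFibGrpd 𝒲.p) {T : C} {w w' : Ob 𝒲 T} (hr : rel 𝒲 T w w') :
    rel 𝒲 T w' w := by
  obtain ⟨φ, hφ⟩ := hr
  obtain ⟨χ, hχ, -⟩ := exists_hom_of_lifts h (𝟙 T) (𝟙 w'.1) φ (IsHomLift.id w'.2) hφ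
  exact ⟨χ, hχ⟩

theorem rel_trans {T : C} {w w' w'' : Ob 𝒲 T} (h1 : rel 𝒲 T w w') (h2 : rel 𝒲 T w' w'') :
    rel 𝒲 T w w'' := by
  obtain ⟨φ, hφ⟩ := h1
  obtain ⟨ψ, hψ⟩ := h2
  exact ⟨φ ≫ ψ, isHomLift_comp_of_id φ ψ hφ hψ⟩

/-- The setoid of objects over `T` up to isomorphism over `𝟙 T`. -/
def setoid (h : IsFibGrpd 𝒲.p) (T : C) : Setoid (Ob 𝒲 T) :=
  ⟨rel 𝒲 T, rel_refl T, rel_symm h, rel_trans⟩

/-- The class of an object. -/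
def cls (h : IsFibGrpd 𝒲.p) {T : C} (w : Ob 𝒲 T) : Quotient (setoid h T) :=
  Quotient.mk (setoid h T) w

theorem rel_of_lifts (h : IsFibGrpd 𝒲.p) {T' T : C} (t : T' ⟶ T) {w w' : Ob 𝒲 T}
    (hr : rel 𝒲 T w w') {y y' : Ob 𝒲 T'} (φ : y.1 ⟶ w.1) (φ' : y'.1 ⟶ w'.1)
    (hφ : 𝒲.p.IsHomLift t φ) (hφ' : 𝒲.p.IsHomLift t φ') : rel 𝒲 T' y y' := by
  obtain ⟨ψ, hψ⟩ := hr
  have h1 : 𝒲.p.IsHomLift t (φ ≫ ψ) := IsHomLift.comp_lift_id_right' 𝒲.p t φ T ψ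
  obtain ⟨χ, hχ, -⟩ := exists_hom_of_lifts h t (φ ≫ ψ) φ' h1 hφ'
  exact ⟨χ, hχ⟩

theorem exists_pull (h : IsFibGrpd 𝒲.p) {T' T : C} (t : T' ⟶ T) (w : Ob 𝒲 T) :
    ∃ (y : Ob 𝒲 T') (φ : y.1 ⟶ w.1), 𝒲.p.IsHomLift t φ := by
  obtain ⟨y, φ, hφ⟩ := exists_lift_of_isFibGrpd h w.2 t
  exact ⟨⟨y, IsHomLift.domain_eq 𝒲.p t φ⟩, φ, hφ⟩

/-- A chosen pullback. -/
noncomputable def pull (h : IsFibGrpd 𝒲.p) {T' T : C} (t : T' ⟶ T) (w : Ob 𝒲 T) : Ob 𝒲 T' :=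
  (exists_pull h t w).choose

noncomputable def pullHom (h : IsFibGrpd 𝒲.p) {T' T : C} (t : T' ⟶ T) (w : Ob 𝒲 T) :
    (pull h t w).1 ⟶ w.1 :=
  (exists_pull h t w).choose_spec.choose

theorem pullHom_isHomLift (h : IsFibGrpd 𝒲.p) {T' T : C} (t : T' ⟶ T) (w : Ob 𝒲 T) :
    𝒲.p.IsHomLift t (pullHom h t w) :=
  (exists_pull h t w).choose_spec.choose_spec

/-- Restriction of classes. -/
noncomputable def res (h : IsFibGrpd 𝒲.p) {T' T : C} (t : T' ⟶ T) :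
    Quotient (setoid h T) → Quotient (setoid h T') :=
  @Quotient.map _ _ (setoid h T) (setoid h T') (pull h t) (fun w w' hr =>
    rel_of_lifts h t hr (pullHom h t w) (pullHom h t w') (pullHom_isHomLift h t w)
      (pullHom_isHomLift h t w'))

theorem res_cls (h : IsFibGrpd 𝒲.p) {T' T : C} (t : T' ⟶ T) (w : Ob 𝒲 T) :
    res h t (cls h w) = cls h (pull h t w) := rfl

theorem res_eq_of_lift (h : IsFibGrpd 𝒲.p) {T' T : C} (t : T' ⟶ T) (w : Ob 𝒲 T)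
    (y : Ob 𝒲 T') (φ : y.1 ⟶ w.1) (hφ : 𝒲.p.IsHomLift t φ) : res h t (cls h w) = cls h y :=
  Quotient.sound (s := setoid h T')
    (rel_of_lifts h t (rel_refl T w) (pullHom h t w) φ (pullHom_isHomLift h t w) hφ)

/-- The presheaf of isomorphism classes of objects. -/
noncomputable def isoPsh (h : IsFibGrpd 𝒲.p) : Cᵒᵖ ⥤ Type u₂ where
  obj T := Quotient (setoid h T.unop)
  map {T T'} g := ↾(res h g.unop)
  map_id T := by
    ext c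
    obtain ⟨w, rfl⟩ := Quotient.exists_rep c
    exact res_eq_of_lift h (𝟙 T.unop) w w (𝟙 w.1) (IsHomLift.id w.2)
  map_comp {T T' T''} g g' := by
    ext c
    obtain ⟨w, rfl⟩ := Quotient.exists_rep c
    have h1 : 𝒲.p.IsHomLift g.unop (pullHom h g.unop w) := pullHom_isHomLift h g.unop w
    have h2 : 𝒲.p.IsHomLift g'.unop (pullHom h g'.unop (pull h g.unop w)) :=
      pullHom_isHomLift h g'.unop (pull h g.unop w)
    have h3 : 𝒲.p.IsHomLift (g'.unop ≫ g.unop)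
        (pullHom h g'.unop (pull h g.unop w) ≫ pullHom h g.unop w) := inferInstance
    exact res_eq_of_lift h (g'.unop ≫ g.unop) w (pull h g'.unop (pull h g.unop w))
      (pullHom h g'.unop (pull h g.unop w) ≫ pullHom h g.unop w) h3

/-- The functor to the category of the presheaf of isomorphism classes. -/
noncomputable def toIsoPsh (h : IsFibGrpd 𝒲.p) : 𝒲 ⥤ᵇ ofPsh (isoPsh h) where
  toFunctor :=
    { obj := fun w => ⟨𝒲.p.obj w, cls h ⟨w, rfl⟩⟩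
      map := fun {w' w} φ => ⟨𝒲.p.map φ,
        res_eq_of_lift h (𝒲.p.map φ) ⟨w, rfl⟩ ⟨w', rfl⟩ φ (IsHomLift.map _ φ)⟩
      map_id := fun w => EltObj.hom_ext (𝒲.p.map_id w)
      map_comp := fun φ ψ => EltObj.hom_ext (𝒲.p.map_comp φ ψ) }
  w := rfl

theorem toIsoPsh_faithful (hs : IsFibSetoid 𝒲.p) : (toIsoPsh hs.1).toFunctor.Faithful where
  map_injective := by
    intro w' w φ φ' hh
    have ht : 𝒲.p.map φ = 𝒲.p.map φ' := congrArg EltObj.Hom.hom hh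
    have h1 : 𝒲.p.IsHomLift (𝒲.p.map φ) φ := IsHomLift.map _ φ
    have h2 : 𝒲.p.IsHomLift (𝒲.p.map φ) φ' := by rw [ht]; exact IsHomLift.map _ φ'
    obtain ⟨χ, hχ, hc⟩ := exists_hom_of_lifts hs.1 (𝒲.p.map φ) φ' φ h2 h1
    have h3 : χ = 𝟙 w' := eq_of_lifts_id hs χ (𝟙 w') hχ (IsHomLift.id rfl)
    rw [← hc, h3, Category.id_comp]

theorem toIsoPsh_full (h : IsFibGrpd 𝒲.p) : (toIsoPsh h).toFunctor.Full where
  map_surjective := by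
    intro w' w m
    have hm : cls h (pull h m.hom ⟨w, rfl⟩) = cls h ⟨w', rfl⟩ := m.map_sec
    obtain ⟨ψ, hψ⟩ := Quotient.exact (s := setoid h _) hm.symm
    have h1 : 𝒲.p.IsHomLift m.hom (pullHom h m.hom ⟨w, rfl⟩) := pullHom_isHomLift h m.hom ⟨w, rfl⟩
    have hψ' : 𝒲.p.IsHomLift (𝟙 (𝒲.p.obj w')) ψ := hψ
    have h2 : 𝒲.p.IsHomLift m.hom (ψ ≫ pullHom h m.hom ⟨w, rfl⟩) :=
      IsHomLift.comp_lift_id_left' 𝒲.p (𝒲.p.obj w') ψ m.hom (pullHom h m.hom ⟨w, rfl⟩)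
    refine ⟨ψ ≫ pullHom h m.hom ⟨w, rfl⟩, ?_⟩
    apply EltObj.hom_ext
    exact (@IsHomLift.eq_of_isHomLift _ _ _ _ 𝒲.p w' w m.hom
      (ψ ≫ pullHom h m.hom ⟨w, rfl⟩) h2).symm

theorem toIsoPsh_essSurj_aux (h : IsFibGrpd 𝒲.p) : ∀ (T : C) (y : Ob 𝒲 T),
    ∃ (w : 𝒲.obj) (φ : (toIsoPsh h).obj w ≅ (⟨T, cls h y⟩ : EltObj (isoPsh h))),
      (ofPsh (isoPsh h)).p.IsHomLift (𝟙 T) φ.hom := by
  rintro T ⟨w, rfl⟩
  exact ⟨w, Iso.refl _, IsHomLift.id rfl⟩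

theorem toIsoPsh_essSurj (h : IsFibGrpd 𝒲.p) (a : (ofPsh (isoPsh h)).obj) :
    ∃ (w : 𝒲.obj) (φ : (toIsoPsh h).obj w ≅ a),
      (ofPsh (isoPsh h)).p.IsHomLift (𝟙 ((ofPsh (isoPsh h)).p.obj a)) φ.hom := by
  obtain ⟨T, c⟩ := a
  obtain ⟨y, rfl⟩ := Quotient.exists_rep c
  exact toIsoPsh_essSurj_aux h T y

theorem toIsoPsh_isEquivOver (hs : IsFibSetoid 𝒲.p) : IsEquivOver (toIsoPsh hs.1) := by
  have := toIsoPsh_faithful hs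
  have := toIsoPsh_full hs.1
  exact isEquivOver_of_fullyFaithful (toIsoPsh hs.1) (toIsoPsh_essSurj hs.1)

end Groth.Agent.Lib.OfPshIso
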