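import Mathlib
import Groth.Prelude.Def_AlgSt
import Groth.Agent.Lib.FibCatYoneda_helper6
import Groth.Agent.Lib.FibCat14_helper6

/-!
# Morphisms of a prestack are determined locally
-/

set_option autoImplicit false

universe v₆ u₆ v₅ u₅ v₄ u₄ v₃ u₃ v₂ u₂ v u

open CategoryTheory FibCat

namespace Groth.Agent.StkLocal

open Groth.Agent.Lib.FibCat_helper6 Groth.Agent.Lib.FibCatYoneda_helper6
  Groth.Agent.Lib.FibCat14_helper6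
open Functor.IsPreFibered

variable {C : Type u} [Category.{v} C] {𝒳 : BasedCategory.{v₂, u₂} C}

/-- Two morphisms over an identity of a prestack that agree after restriction along every arrow of
a sieve for which restriction is faithful are equal. -/
theorem eq_of_locally_eq (hfib : IsFibGrpd 𝒳.p) {V : C} (R : Sieve V)
    (hR : (Stk.resSieve R 𝒳).Faithful) {a b : 𝒳.obj} (ha : 𝒳.p.obj a = V) (hb : 𝒳.p.obj b = V)
    (θ θ' : a ⟶ b) (hθ : 𝒳.p.IsHomLift (𝟙 V) θ) (hθ' : 𝒳.p.IsHomLift (𝟙 V) θ')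
    (h : ∀ ⦃V' : C⦄ (g : V' ⟶ V), R g → ∀ (a' : 𝒳.obj) (κ : a' ⟶ a), 𝒳.p.IsHomLift g κ →
      κ ≫ θ = κ ≫ θ') : θ = θ' := by
  have : 𝒳.p.IsFibered := isFibered_of_isFibGrpd hfib
  let A : overCat V ⥤ᵇ 𝒳 := yonedaFunctor ha
  let B : overCat V ⥤ᵇ 𝒳 := yonedaFunctor hb
  have hB : PreservesStronglyCartesian B := yonedaFunctor_preserves hb
  let πA : A.obj (Over.mk (𝟙 V)) ⟶ a := pullbackMap ha (ohom V (Over.mk (𝟙 V)))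
  let πB : B.obj (Over.mk (𝟙 V)) ⟶ b := pullbackMap hb (ohom V (Over.mk (𝟙 V)))
  have hπA : 𝒳.p.IsHomLift (𝟙 V) πA := pullbackMap_id_isHomLift ha
  have hπB : 𝒳.p.IsHomLift (𝟙 V) πB := pullbackMap_id_isHomLift hb
  let ιB : b ⟶ B.obj (Over.mk (𝟙 V)) := pullbackMapIdInv hb
  have hιB : 𝒳.p.IsHomLift (𝟙 V) ιB := pullbackMapIdInv_isHomLift hb
  have e2 : ιB ≫ πB = 𝟙 _ := idInv_comp_pullbackMap hb
  let τ : A.obj (Over.mk (𝟙 V)) ⟶ B.obj (Over.mk (𝟙 V)) := πA ≫ θ ≫ ιB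
  let τ' : A.obj (Over.mk (𝟙 V)) ⟶ B.obj (Over.mk (𝟙 V)) := πA ≫ θ' ≫ ιB
  have hτ : 𝒳.p.IsHomLift (𝟙 V) τ := inferInstance
  have hτ' : 𝒳.p.IsHomLift (𝟙 V) τ' := inferInstance
  let Θ : A ⟶ B := liftNatTrans hB τ hτ
  let Θ' : A ⟶ B := liftNatTrans hB τ' hτ'
  have hres : (Stk.resSieve R 𝒳).map Θ = (Stk.resSieve R 𝒳).map Θ' := by
    apply BasedNatTrans.homCategory.ext
    ext c
    change liftApp hB τ hτ c.obj = liftApp hB τ' hτ' c.obj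
    have hsc := map_toId_isStronglyCartesian B hB c.obj
    have l1 := liftApp_isHomLift hB τ hτ c.obj
    have l2 := liftApp_isHomLift hB τ' hτ' c.obj
    apply Functor.IsStronglyCartesian.ext 𝒳.p (ohom V c.obj) (B.map (toId V c.obj))
      (𝟙 c.obj.left)
    rw [liftApp_fac, liftApp_fac]
    have hκ : 𝒳.p.IsHomLift c.obj.hom (A.map (toId V c.obj) ≫ πA) := by
      have := map_toId_isHomLift A c.obj
      exact IsHomLift.comp_lift_id_right' 𝒳.p (ohom V c.obj) (A.map (toId V c.obj)) V πA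
    have hh := h c.obj.hom c.property _ (A.map (toId V c.obj) ≫ πA) hκ
    change A.map (toId V c.obj) ≫ πA ≫ θ ≫ ιB = A.map (toId V c.obj) ≫ πA ≫ θ' ≫ ιB
    rw [← Category.assoc, ← Category.assoc, hh, Category.assoc, Category.assoc]
  have hΘ : Θ = Θ' := (Stk.resSieve R 𝒳).map_injective hres
  have hττ' : τ = τ' := by
    have h1 : Θ.toNatTrans.app (Over.mk (𝟙 V)) = τ := liftNatTrans_app_id hB τ hτ
    have h2 : Θ'.toNatTrans.app (Over.mk (𝟙 V)) = τ' := liftNatTrans_app_id hB τ' hτ'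
    rw [← h1, ← h2, hΘ]
  have hiso : IsIso πA := pullbackMap_id_isIso ha
  have h3 : θ ≫ ιB = θ' ≫ ιB := (cancel_epi πA).1 hττ'
  calc θ = (θ ≫ ιB) ≫ πB := by rw [Category.assoc, e2, Category.comp_id]
    _ = (θ' ≫ ιB) ≫ πB := by rw [h3]
    _ = θ' := by rw [Category.assoc, e2, Category.comp_id]


section FibreProduct

variable {𝒮₁ : BasedCategory.{v₃, u₃} C} {𝒮₂ : BasedCategory.{v₄, u₄} C}
  {𝒯₁ : BasedCategory.{v₂, u₂} C} (F : 𝒮₂ ⥤ᵇ 𝒮₁) (G : 𝒯₁ ⥤ᵇ 𝒮₁)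

/-- An automorphism over an identity of an object of `𝒯₁` which is killed by `G` and whose object
lifts to the fibre product is trivial, when the first projection of the fibre product is
faithful. -/
lemma aut_eq_id_of_fpFst_faithful (h₁ : IsFibGrpd 𝒮₁.p)
    (hG' : (fpFst F G).toFunctor.Faithful) {a' : 𝒯₁.obj} {V' : C}
    (θ' : a' ⟶ a') (hGθ' : G.map θ' = 𝟙 (G.obj a')) (x : 𝒮₂.obj) (φ' : F.obj x ⟶ G.obj a')
    (hφ' : 𝒮₁.p.IsHomLift (𝟙 V') φ') : θ' = 𝟙 a' := by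
  have hiso : IsIso φ' := isIso_of_isFibGrpd_id h₁ (R := V') φ'
  have hx : 𝒮₂.p.obj x = V' :=
    (F.w_obj x).symm.trans (IsHomLift.domain_eq 𝒮₁.p (𝟙 V') φ')
  have hφ'' : 𝒮₁.p.IsHomLift (𝟙 (𝒮₂.p.obj x)) (asIso φ').hom := by
    rw [hx]
    exact hφ'
  let X : (fp F G).obj := fpObjMk x a' (asIso φ') hφ''
  let m₁ : X ⟶ X := fpHomMk (F := F) (G := G) (X := X) (Y := X) (𝟙 x) θ' (by
    change F.map (𝟙 x) ≫ φ' = φ' ≫ G.map θ'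
    rw [hGθ']
    simp)
  have hm : (fpFst F G).toFunctor.map m₁ = (fpFst F G).toFunctor.map (𝟙 X) := by
    change (𝟙 x : x ⟶ x) = (𝟙 X : X ⟶ X).hom.fst
    rfl
  have := (fpFst F G).toFunctor.map_injective hm
  have h2 : m₁.hom.snd = (𝟙 X : X ⟶ X).hom.snd := by rw [this]
  exact h2

/-- Local essential surjectivity, reformulated with an arbitrary base object. -/
lemma locEss_flex (J : GrothendieckTopology C)
    (hF : ∀ y : 𝒮₁.obj, ∃ R ∈ J (𝒮₁.p.obj y), ∀ ⦃V : C⦄ (f : V ⟶ 𝒮₁.p.obj y), R f →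
      ∃ (x : 𝒮₂.obj) (φ : F.obj x ⟶ y), 𝒮₁.p.IsHomLift f φ) (W : C) (y : 𝒮₁.obj)
    (hy : 𝒮₁.p.obj y = W) :
    ∃ R ∈ J W, ∀ ⦃V : C⦄ (f : V ⟶ W), R f →
      ∃ (x : 𝒮₂.obj) (φ : F.obj x ⟶ y), 𝒮₁.p.IsHomLift f φ := by
  subst hy
  exact hF y

theorem faithful_of_fpFst_faithful (J : GrothendieckTopology C) (h₁ : IsFibGrpd 𝒮₁.p)
    (h₃ : IsFibGrpd 𝒯₁.p)
    (h₃f : ∀ ⦃U : C⦄ (R : Sieve U), R ∈ J U → (Stk.resSieve R 𝒯₁).Faithful)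
    (hF : ∀ y : 𝒮₁.obj, ∃ R ∈ J (𝒮₁.p.obj y), ∀ ⦃V : C⦄ (f : V ⟶ 𝒮₁.p.obj y), R f →
      ∃ (x : 𝒮₂.obj) (φ : F.obj x ⟶ y), 𝒮₁.p.IsHomLift f φ)
    (hG' : (fpFst F G).toFunctor.Faithful) : G.toFunctor.Faithful := by
  refine ⟨fun {a b} m m' hmm => ?_⟩
  have hmm' : G.map m = G.map m' := hmm
  let f := 𝒯₁.p.map m
  have hm : 𝒯₁.p.IsHomLift f m := inferInstance
  have hGm : 𝒮₁.p.IsHomLift f (G.map m) := inferInstance
  have hGm' : 𝒮₁.p.IsHomLift f (G.map m') := by rw [← hmm']; exact hGm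
  have hm' : 𝒯₁.p.IsHomLift f m' := BasedFunctor.isHomLift_map G f m'
  have hc : 𝒯₁.p.IsStronglyCartesian f m := isStronglyCartesian_of_isFibGrpd h₃ f m
  have hh : f = 𝟙 _ ≫ f := (Category.id_comp f).symm
  let θ : a ⟶ a := Functor.IsStronglyCartesian.map 𝒯₁.p f m hh m'
  have hθ : 𝒯₁.p.IsHomLift (𝟙 (𝒯₁.p.obj a)) θ :=
    Functor.IsStronglyCartesian.map_isHomLift 𝒯₁.p f m hh m'
  have hfac : θ ≫ m = m' := Functor.IsStronglyCartesian.fac 𝒯₁.p f m hh m'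
  have hcG : 𝒮₁.p.IsStronglyCartesian f (G.map m) :=
    isStronglyCartesian_of_isFibGrpd h₁ f (G.map m)
  have hGθ : G.map θ = 𝟙 (G.obj a) := by
    have l1 : 𝒮₁.p.IsHomLift (𝟙 (𝒯₁.p.obj a)) (G.map θ) := inferInstance
    have l2 : 𝒮₁.p.IsHomLift (𝟙 (𝒯₁.p.obj a)) (𝟙 (G.obj a)) := IsHomLift.id (G.w_obj a)
    apply Functor.IsStronglyCartesian.ext 𝒮₁.p f (G.map m) (𝟙 (𝒯₁.p.obj a))
    rw [← G.map_comp, hfac, ← hmm', Category.id_comp]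
  suffices hsuff : θ = 𝟙 a by rw [← hfac, hsuff, Category.id_comp]
  obtain ⟨R, hR, hloc⟩ := locEss_flex F J hF (𝒯₁.p.obj a) (G.obj a) (G.w_obj a)
  apply eq_of_locally_eq h₃ R (h₃f R hR) rfl rfl θ (𝟙 a) hθ (IsHomLift.id rfl)
  intro V' g hg a' κ hκ
  rw [Category.comp_id]
  obtain ⟨x, φ, hφ⟩ := hloc g hg
  have hGκ : 𝒮₁.p.IsHomLift g (G.map κ) := inferInstance
  have hcGκ : 𝒮₁.p.IsStronglyCartesian g (G.map κ) :=
    isStronglyCartesian_of_isFibGrpd h₁ g (G.map κ)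
  have hg' : g = 𝟙 V' ≫ g := (Category.id_comp g).symm
  let φ' : F.obj x ⟶ G.obj a' := Functor.IsStronglyCartesian.map 𝒮₁.p g (G.map κ) hg' φ
  have hφ' : 𝒮₁.p.IsHomLift (𝟙 V') φ' :=
    Functor.IsStronglyCartesian.map_isHomLift 𝒮₁.p g (G.map κ) hg' φ
  have hcκ : 𝒯₁.p.IsStronglyCartesian g κ := isStronglyCartesian_of_isFibGrpd h₃ g κ
  have hκθ : 𝒯₁.p.IsHomLift g (κ ≫ θ) :=
    IsHomLift.comp_lift_id_right' 𝒯₁.p g κ (𝒯₁.p.obj a) θ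
  let θ' : a' ⟶ a' := Functor.IsStronglyCartesian.map 𝒯₁.p g κ hg' (κ ≫ θ)
  have hθ' : 𝒯₁.p.IsHomLift (𝟙 V') θ' :=
    Functor.IsStronglyCartesian.map_isHomLift 𝒯₁.p g κ hg' (κ ≫ θ)
  have hfac' : θ' ≫ κ = κ ≫ θ := Functor.IsStronglyCartesian.fac 𝒯₁.p g κ hg' (κ ≫ θ)
  have hGθ' : G.map θ' = 𝟙 (G.obj a') := by
    have l1 : 𝒮₁.p.IsHomLift (𝟙 V') (G.map θ') := inferInstance
    have l2 : 𝒮₁.p.IsHomLift (𝟙 V') (𝟙 (G.obj a')) :=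
      IsHomLift.id ((G.w_obj a').trans (IsHomLift.domain_eq 𝒯₁.p g κ))
    apply Functor.IsStronglyCartesian.ext 𝒮₁.p g (G.map κ) (𝟙 V')
    rw [← G.map_comp, hfac', G.map_comp, hGθ, Category.comp_id, Category.id_comp]
  have hid := aut_eq_id_of_fpFst_faithful F G h₁ hG' θ' hGθ' x φ' hφ'
  rw [← hfac', hid, Category.id_comp]

theorem isFibSetoid_of_fp (J : GrothendieckTopology C) (h₁ : IsFibGrpd 𝒮₁.p)
    (h₃ : IsFibGrpd 𝒯₁.p)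
    (h₃f : ∀ ⦃U : C⦄ (R : Sieve U), R ∈ J U → (Stk.resSieve R 𝒯₁).Faithful)
    [F.toFunctor.Full]
    (hF : ∀ y : 𝒮₁.obj, ∃ R ∈ J (𝒮₁.p.obj y), ∀ ⦃V : C⦄ (f : V ⟶ 𝒮₁.p.obj y), R f →
      ∃ (x : 𝒮₂.obj) (φ : F.obj x ⟶ y), 𝒮₁.p.IsHomLift f φ)
    (h : IsFibSetoid (fp F G).p) : IsFibSetoid 𝒯₁.p := by
  refine ⟨h₃, fun U => fun a b => ⟨fun θ₁ θ₂ => ?_⟩⟩
  apply Functor.Fiber.hom_ext
  have hθ₁ : 𝒯₁.p.IsHomLift (𝟙 U) θ₁.1 := θ₁.2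
  have hθ₂ : 𝒯₁.p.IsHomLift (𝟙 U) θ₂.1 := θ₂.2
  obtain ⟨R, hR, hloc⟩ := locEss_flex F J hF U (G.obj a.1) ((G.w_obj a.1).trans a.2)
  apply eq_of_locally_eq h₃ R (h₃f R hR) a.2 b.2 θ₁.1 θ₂.1 hθ₁ hθ₂
  intro V' g hg a' κ hκ
  obtain ⟨x, φ, hφ⟩ := hloc g hg
  have hGκ : 𝒮₁.p.IsHomLift g (G.map κ) := inferInstance
  have hcGκ : 𝒮₁.p.IsStronglyCartesian g (G.map κ) :=
    isStronglyCartesian_of_isFibGrpd h₁ g (G.map κ)
  have hg' : g = 𝟙 V' ≫ g := (Category.id_comp g).symm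
  let φ' : F.obj x ⟶ G.obj a' := Functor.IsStronglyCartesian.map 𝒮₁.p g (G.map κ) hg' φ
  have hφ' : 𝒮₁.p.IsHomLift (𝟙 V') φ' :=
    Functor.IsStronglyCartesian.map_isHomLift 𝒮₁.p g (G.map κ) hg' φ
  have hiso : IsIso φ' := isIso_of_isFibGrpd_id h₁ (R := V') φ'
  have hκ₁ : 𝒯₁.p.IsHomLift g (κ ≫ θ₁.1) := IsHomLift.comp_lift_id_right' 𝒯₁.p g κ U θ₁.1
  have hκ₂ : 𝒯₁.p.IsHomLift g (κ ≫ θ₂.1) := IsHomLift.comp_lift_id_right' 𝒯₁.p g κ U θ₂.1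
  have hc₁ : 𝒯₁.p.IsStronglyCartesian g (κ ≫ θ₁.1) :=
    isStronglyCartesian_of_isFibGrpd h₃ g (κ ≫ θ₁.1)
  let σ : a' ⟶ a' := Functor.IsStronglyCartesian.map 𝒯₁.p g (κ ≫ θ₁.1) hg' (κ ≫ θ₂.1)
  have hσ : 𝒯₁.p.IsHomLift (𝟙 V') σ :=
    Functor.IsStronglyCartesian.map_isHomLift 𝒯₁.p g (κ ≫ θ₁.1) hg' (κ ≫ θ₂.1)
  have hfac : σ ≫ κ ≫ θ₁.1 = κ ≫ θ₂.1 :=
    Functor.IsStronglyCartesian.fac 𝒯₁.p g (κ ≫ θ₁.1) hg' (κ ≫ θ₂.1)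
  suffices hsuff : σ = 𝟙 a' by rw [← hfac, hsuff, Category.id_comp]
  -- the automorphism `(s, σ)` of the object `(x, a', φ')` of the fibre product
  have hx : 𝒮₂.p.obj x = V' :=
    (F.w_obj x).symm.trans (IsHomLift.domain_eq 𝒮₁.p (𝟙 V') φ')
  have hφ'' : 𝒮₁.p.IsHomLift (𝟙 (𝒮₂.p.obj x)) (asIso φ').hom := by
    rw [hx]
    exact hφ'
  let X : (fp F G).obj := fpObjMk x a' (asIso φ') hφ''
  let s : x ⟶ x := F.toFunctor.preimage (φ' ≫ G.map σ ≫ inv φ')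
  have hFs : F.map s = φ' ≫ G.map σ ≫ inv φ' := F.toFunctor.map_preimage _
  have hs : 𝒮₂.p.IsHomLift (𝟙 V') s := by
    have hinv : 𝒮₁.p.IsHomLift (𝟙 V') (inv φ') := inferInstance
    have hGσ : 𝒮₁.p.IsHomLift (𝟙 V') (G.map σ) := inferInstance
    have : 𝒮₁.p.IsHomLift (𝟙 V') (F.map s) := by
      rw [hFs]
      infer_instance
    exact BasedFunctor.isHomLift_map F _ _
  let m₁ : X ⟶ X := fpHomMk (F := F) (G := G) (X := X) (Y := X) s σ (by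
    change F.map s ≫ φ' = φ' ≫ G.map σ
    rw [hFs]
    simp)
  have hm₁ : (fp F G).p.IsHomLift (𝟙 V') m₁ := by
    apply fp_isHomLift_of_fst
    exact hs
  have hm₂ : (fp F G).p.IsHomLift (𝟙 V') (𝟙 X) := IsHomLift.id hx
  have hmm : m₁ = 𝟙 X :=
    Groth.Agent.Lib.FibCat2_helper6.eq_of_isFibSetoid h (U := V') m₁ (𝟙 X)
  have h2 : m₁.hom.snd = (𝟙 X : X ⟶ X).hom.snd := by rw [hmm]
  exact h2

end FibreProduct

end Groth.Agent.StkLocal
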