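import Groth.Agent.Lib.AlgStDenseLift_lead
import Groth.Agent.Lib.AlgStLocal3_lead
import Groth.Agent.Lib.AlgStFp_lead
import Groth.Agent.Lib.AlgStLocQ4_lead
import Groth.Agent.Lib.AlgStDiagRep3_lead
import Groth.Agent.Lib.AlgStQcQs_lead
import Groth.Agent.Lib.AlgStGenIso2_lead
import Groth.Agent.Lib.AlgStTop_lead
import Groth.Agent.Lib.AlgStUniv2_lead
import Groth.Agent.Lib.AlgStOpenSub_lead
import Groth.Agent.Lib.AlgStOpenSub2_lead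
import Groth.Agent.Lib.AlgStOpenSub3_lead
import Groth.Agent.Lib.AlgStSetoid_lead
import Groth.Agent.Lib.OfPshIso_lead
import Groth.Agent.Lib.StkPsh_helper9
import Groth.Agent.Lib.StkEquiv_helper9
import Groth.Agent.Lib.StkLocal_helper9
import Groth.Agent.Lib.SpCoprod5_helper7
import Groth.Agent.Lib.AlgSpGlue3_helper7
import Groth.Agent.Lib.AlgStDiagRep2_lead
import Groth.Agent.S9877

/-! # An algebraic stack covered by open substacks which are algebraic spaces (schemes) (lead) -/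

set_option autoImplicit false
set_option linter.style.haveILetI false
set_option backward.isDefEq.respectTransparency false
set_option backward.isDefEq.respectTransparency.types false

universe w v₁ v₂ v₃ v₄ v₅ v₆ u₁ u₂ u₃ u₄ u₅ u₆ u

open CategoryTheory CategoryTheory.Limits AlgebraicGeometry Opposite FibCat Stk

namespace Groth.Agent.Lib.AlgStLocQ

open AlgSt Groth.Agent.Lib.FibCat_helper6 Groth.Agent.Lib.FibCat3_helper6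
  Groth.Agent.Lib.FibCat14_helper6 Groth.Agent.Lib.FibCat12_helper6
  Groth.Agent.Lib.FibCatPaste Groth.Agent.Lib.FibCatSwap
  Groth.Agent.Lib.FibCatIsoFun
  Groth.Agent.Lib.OfPshCalc Groth.Agent.Lib.AlgStBC
  Groth.Agent.Lib.AlgStEquiv Groth.Agent.Lib.AlgStEquivP Groth.Agent.Lib.AlgStEquivInv
  Groth.Agent.Lib.OfPshAlgSt Groth.Agent.Lib.LiftSqBC Groth.Agent.Lib.LiftSqComp
  Groth.Agent.Lib.OfPshWith Groth.Agent.Lib.FibCatDiagSec Groth.Agent.Lib.AlgStDiagRep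
  Groth.Agent.Lib.FibCatDiagBC Groth.Agent.Lib.FibCatMagic Groth.Agent.Lib.FibCatProd
  Groth.Agent.Lib.AlgStDiag Groth.Agent.Lib.AlgStLocal
  Groth.Agent.Lib.AlgSpQC_helper7 Groth.Agent.Lib.AlgSpDiag_helper7
  Groth.Agent.Lib.AlgSpPullback_helper7 Groth.Agent.Lib.AlgSpRepBySp_helper7
  Groth.Agent.Lib.AlgSpPoints_helper7 Groth.Agent.Lib.AlgSpLocP_helper7
  Groth.Agent.Lib.AlgSpBasic_helper7 Groth.Agent.Lib.AlgSpSep_helper7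
  Groth.Agent.Lib.AlgSpLocP4_helper7 Groth.Agent.Lib.AlgSpLocP5_helper7
  Groth.Agent.Lib.AlgSpLocP7_helper7 Groth.Agent.Lib.AlgSpQC2_helper7
  Groth.Agent.Lib.AlgSpLocP8_helper7 Groth.Agent.Lib.AlgSpLocP10_helper7
  Groth.Agent.Lib.AlgSpFpqc3_helper7 Groth.Agent.Lib.AlgSpLocP6_helper7
  Groth.Agent.Lib.AlgSpFpqc2_helper7 Groth.Agent.Lib.AlgSpFpqc_helper7
  Groth.Agent.Lib.AlgSpProper_helper7 Groth.Agent.Lib.AlgSpAffineMorH7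
  Groth.Agent.Lib.AlgStAtlas Groth.Agent.Lib.AlgStPoints Groth.Agent.Lib.AlgStPtsCmp
  Groth.Agent.Lib.FibCatYoneda_helper6 Groth.Agent.Lib.AlgSpFieldFlat_helper7


open Groth.Agent.Lib.OfPshIso Groth.Agent.Lib.AlgStSetoid Groth.Agent.Lib.AlgSpCov_helper7

variable {S : Scheme.{u}} {𝒳 : AlgSt.Cat S}

/-- Restriction of classes along an equality of bases. -/
theorem res_eqToHom_cls {C : Type u₁} [Category.{v₁} C] {𝒲 : BasedCategory.{v₂, u₂} C}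
    (h : IsFibGrpd 𝒲.p) {T' T : C} (e : T' = T) (w : Ob 𝒲 T) :
    res h (eqToHom e) (cls h w) = cls h ⟨w.1, w.2.trans e.symm⟩ := by
  subst e
  exact res_eq_of_lift h (𝟙 _) w ⟨w.1, w.2⟩ (𝟙 w.1) (IsHomLift.id w.2)

/-- Membership in a substack fibred in groupoids is inherited by a further pullback. -/
theorem exists_Q_comp {Qi : 𝒳.obj → Prop} (hfib : IsFibGrpd (AlgSt.fullSub 𝒳 Qi).p)
    {T T' T'' : Over S} {a a' : 𝒳.obj} (m : T' ⟶ T) (κ : a' ⟶ a)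
    (hκ : 𝒳.p.IsHomLift m κ) (hQa : Qi a') (n : T'' ⟶ T') :
    ∃ (a'' : 𝒳.obj) (κ' : a'' ⟶ a), 𝒳.p.IsHomLift (n ≫ m) κ' ∧ Qi a'' := by
  haveI := hκ
  have hdom : (AlgSt.fullSub 𝒳 Qi).p.obj ⟨a', hQa⟩ = T' := IsHomLift.domain_eq 𝒳.p m κ
  obtain ⟨b, ψ, hψ⟩ := exists_lift_of_isFibGrpd hfib hdom n
  have hψ' : 𝒳.p.IsHomLift n ψ.hom := (fullSub_isHomLift_iff Qi ψ n).1 hψ
  haveI := hψ'
  exact ⟨b.obj, ψ.hom ≫ κ, inferInstance, b.property⟩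

/-- Every object lies, locally for the fppf topology, in one of the open substacks of a cover;
the members are indexed by the points of an atlas. -/
theorem exists_cover_Q (h𝒳 : AlgSt.IsAlgStack Scheme.fppfPrecoverage 𝒳) {ι : Type w}
    (Q : ι → 𝒳.obj → Prop)
    (hQ : ∀ i, AlgSt.IsOpenSubstack 𝒳 (Q i) Scheme.fppfPrecoverage)
    {U₀ : Over S} (x₀ : FibCat.overCat U₀ ⥤ᵇ 𝒳)
    (hx₀ : Function.Surjective (AlgSt.Points.ofChart x₀)) (σ : ↥U₀.left → ι)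
    (hσ : ∀ u, AlgSt.Points.ofChart x₀ u ∈
      Set.range (AlgSt.Points.map (AlgSt.subIncl 𝒳 (Q (σ u)))))
    (a : 𝒳.obj) :
    ∃ R ∈ AlgSp.J S (𝒳.p.obj a), ∀ ⦃T' : Over S⦄ (m : T' ⟶ 𝒳.p.obj a), R m →
      ∃ (k : ↥U₀.left) (a' : 𝒳.obj) (κ : a' ⟶ a), 𝒳.p.IsHomLift m κ ∧ Q (σ k) a' := by
  have h𝒳g : IsFibGrpd 𝒳.p := h𝒳.isStack.1
  haveI : 𝒳.p.IsFibered := isFibered_of_isFibGrpd h𝒳g
  have ha : 𝒳.p.obj a = 𝒳.p.obj a := rfl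
  let y : FibCat.overCat (𝒳.p.obj a) ⥤ᵇ 𝒳 := yonedaFunctor ha
  have hopen : ∀ i, IsOpen (Set.range (AlgSt.Points.map (AlgSt.subIncl 𝒳 (Q i)))) :=
    fun i => isOpen_range_of_isOpenSubstack h𝒳 (hQ i)
  have hk : ∀ t : ↥(𝒳.p.obj a).left, ∃ k : ↥U₀.left,
      AlgSt.Points.ofChart y t ∈
        Set.range (AlgSt.Points.map (AlgSt.subIncl 𝒳 (Q (σ k)))) := by
    intro t
    obtain ⟨k, hk⟩ := hx₀ (AlgSt.Points.ofChart y t)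
    exact ⟨k, hk ▸ hσ k⟩
  choose kt hkt using hk
  let Tk : ↥(𝒳.p.obj a).left → Over S := fun t => chartOver h𝒳 _ (hopen (σ (kt t))) y
  let c : ∀ t, Tk t ⟶ 𝒳.p.obj a := fun t => chartIncl h𝒳 _ (hopen (σ (kt t))) y
  have hmem : Sieve.ofArrows Tk c ∈ AlgSp.J S (𝒳.p.obj a) := by
    apply ofArrows_mem_J
    · intro t
      show Flat (chartOpen h𝒳 _ (hopen (σ (kt t))) y).ι
      infer_instance
    · intro t
      show LocallyOfFinitePresentation (chartOpen h𝒳 _ (hopen (σ (kt t))) y).ι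
      infer_instance
    · intro t
      refine ⟨t, ?_⟩
      show t ∈ Set.range (chartOpen h𝒳 _ (hopen (σ (kt t))) y).ι
      rw [Scheme.Opens.range_ι]
      exact hkt t
  refine ⟨Sieve.ofArrows Tk c, hmem, ?_⟩
  rintro T' m ⟨T₀, n, b, ⟨t⟩, rfl⟩
  let A : Over (Tk t) := Over.mk (𝟙 (Tk t))
  have hqT := qT_chart h𝒳 _ (hopen (σ (kt t))) y A
  have hQ₀ : Q (σ (kt t)) ((BasedFunctor.comp (AlgSt.overMap (c t)) y).obj A) :=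
    mem_of_qT_range h𝒳 (hQ (σ (kt t))) hqT
  let B : Over (𝒳.p.obj a) := (AlgSt.overMap (c t)).obj A
  let κ₀ : y.obj B ⟶ a := Functor.IsPreFibered.pullbackMap ha (ohom (𝒳.p.obj a) B)
  have hκ₀ : 𝒳.p.IsHomLift (ohom (𝒳.p.obj a) B) κ₀ := inferInstance
  have hB : ohom (𝒳.p.obj a) B = c t := Category.id_comp _
  have hκ₀' : 𝒳.p.IsHomLift (c t) κ₀ := by
    have h := hκ₀
    rw [hB] at h
    exact h
  obtain ⟨a'', κ', hκ', hQ''⟩ :=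
    exists_Q_comp (hQ (σ (kt t))).2.1.isStack.1 (c t) κ₀ hκ₀' hQ₀ n
  exact ⟨kt t, a'', κ', hκ', hQ''⟩

/-- A stack which is locally covered by substacks fibred in setoids is fibred in setoids. -/
theorem isFibSetoid_of_openCover (h𝒳 : AlgSt.IsAlgStack Scheme.fppfPrecoverage 𝒳) {ι : Type w}
    (Q : ι → 𝒳.obj → Prop)
    (hQ : ∀ i, AlgSt.IsOpenSubstack 𝒳 (Q i) Scheme.fppfPrecoverage)
    (hset : ∀ i, IsFibSetoid (AlgSt.fullSub 𝒳 (Q i)).p)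
    (hloc : ∀ a : 𝒳.obj, ∃ R ∈ AlgSp.J S (𝒳.p.obj a),
      ∀ ⦃T' : Over S⦄ (m : T' ⟶ 𝒳.p.obj a), R m →
        ∃ (i : ι) (a' : 𝒳.obj) (κ : a' ⟶ a), 𝒳.p.IsHomLift m κ ∧ Q i a') :
    IsFibSetoid 𝒳.p := by
  have h𝒳g : IsFibGrpd 𝒳.p := h𝒳.isStack.1
  refine ⟨h𝒳g, ?_⟩
  rintro U ⟨a, ha⟩ ⟨b, hb⟩
  subst ha
  refine ⟨fun θ₁ θ₂ => ?_⟩
  apply Functor.Fiber.hom_ext
  show θ₁.1 = θ₂.1
  have hθ₁ : 𝒳.p.IsHomLift (𝟙 (𝒳.p.obj a)) θ₁.1 := θ₁.2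
  have hθ₂ : 𝒳.p.IsHomLift (𝟙 (𝒳.p.obj a)) θ₂.1 := θ₂.2
  obtain ⟨R, hR, hloc'⟩ := hloc a
  have hfaith : (Stk.resSieve R 𝒳).Faithful := by
    haveI : (Stk.resSieve R 𝒳).IsEquivalence := h𝒳.isStack.2 R hR
    infer_instance
  apply Groth.Agent.StkLocal.eq_of_locally_eq h𝒳g R hfaith rfl hb θ₁.1 θ₂.1 hθ₁ hθ₂
  intro V' g hg a' κ hκ
  obtain ⟨i, a₀, κ₀, hκ₀, hQ₀⟩ := hloc' g hg
  haveI := hκ
  haveI := hκ₀
  obtain ⟨χ, hχ, -⟩ := exists_hom_of_lifts h𝒳g g κ κ₀ hκ hκ₀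
  haveI := hχ
  haveI : IsIso χ := isIso_of_isFibGrpd_id h𝒳g (R := V') χ
  have hQa' : Q i a' := (hQ i).1.of_iso (asIso χ).symm hQ₀
  obtain ⟨b', κb, hκb⟩ := exists_lift_of_isFibGrpd h𝒳g hb g
  haveI := hκb
  have hcart : 𝒳.p.IsStronglyCartesian g κb := isStronglyCartesian_of_isFibGrpd h𝒳g g κb
  have hg' : g = 𝟙 V' ≫ g := (Category.id_comp g).symm
  have l₁ : 𝒳.p.IsHomLift g (κ ≫ θ₁.1) :=
    IsHomLift.comp_lift_id_right' 𝒳.p g κ (𝒳.p.obj a) θ₁.1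
  have l₂ : 𝒳.p.IsHomLift g (κ ≫ θ₂.1) :=
    IsHomLift.comp_lift_id_right' 𝒳.p g κ (𝒳.p.obj a) θ₂.1
  let σ₁ : a' ⟶ b' := Functor.IsStronglyCartesian.map 𝒳.p g κb hg' (κ ≫ θ₁.1)
  let σ₂ : a' ⟶ b' := Functor.IsStronglyCartesian.map 𝒳.p g κb hg' (κ ≫ θ₂.1)
  have hσ₁ : 𝒳.p.IsHomLift (𝟙 V') σ₁ :=
    Functor.IsStronglyCartesian.map_isHomLift 𝒳.p g κb hg' (κ ≫ θ₁.1)
  have hσ₂ : 𝒳.p.IsHomLift (𝟙 V') σ₂ :=
    Functor.IsStronglyCartesian.map_isHomLift 𝒳.p g κb hg' (κ ≫ θ₂.1)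
  have f₁ : σ₁ ≫ κb = κ ≫ θ₁.1 := Functor.IsStronglyCartesian.fac 𝒳.p g κb hg' (κ ≫ θ₁.1)
  have f₂ : σ₂ ≫ κb = κ ≫ θ₂.1 := Functor.IsStronglyCartesian.fac 𝒳.p g κb hg' (κ ≫ θ₂.1)
  haveI : IsIso σ₁ := isIso_of_isFibGrpd_id h𝒳g (R := V') σ₁
  have hQb' : Q i b' := (hQ i).1.of_iso (asIso σ₁) hQa'
  let A' : (AlgSt.fullSub 𝒳 (Q i)).obj := ⟨a', hQa'⟩
  let B' : (AlgSt.fullSub 𝒳 (Q i)).obj := ⟨b', hQb'⟩
  let s₁ : A' ⟶ B' := ObjectProperty.homMk σ₁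
  let s₂ : A' ⟶ B' := ObjectProperty.homMk σ₂
  have es : s₁ = s₂ := eq_of_lifts_id (hset i) s₁ s₂
    ((fullSub_isHomLift_iff (Q i) s₁ (𝟙 V')).2 hσ₁)
    ((fullSub_isHomLift_iff (Q i) s₂ (𝟙 V')).2 hσ₂)
  have es' : σ₁ = σ₂ := congrArg (fun s => s.hom) es
  exact f₁.symm.trans ((congrArg (fun s => s ≫ κb) es').trans f₂)

/-- The presheaf of isomorphism classes of a stack fibred in setoids is an fppf sheaf. -/
theorem isSheaf_isoPsh (h𝒳 : AlgSt.IsAlgStack Scheme.fppfPrecoverage 𝒳) (hs : IsFibSetoid 𝒳.p) :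
    Presheaf.IsSheaf (AlgSp.J S) (isoPsh hs.1) := by
  rw [isSheaf_iff_isSheaf_of_type]
  have h1 : Stk.IsStack (AlgSp.J S) (Stk.ofPsh (isoPsh hs.1)) :=
    (Groth.Agent.StkEquiv.isStack_iff (AlgSp.J S) (toIsoPsh_isEquivOver hs)).1 h𝒳.isStack
  exact (Groth.Agent.StkPsh.isStack_ofPsh_iff (isoPsh hs.1) (AlgSp.J S)).1 h1

/-- The sheaf of isomorphism classes. -/
noncomputable def isoSheaf (h𝒳 : AlgSt.IsAlgStack Scheme.fppfPrecoverage 𝒳)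
    (hs : IsFibSetoid 𝒳.p) : AlgSp.Sp S :=
  ⟨isoPsh hs.1, isSheaf_isoPsh h𝒳 hs⟩

/-- The functor from a sheaf equivalent to a substack to the category of isomorphism classes. -/
noncomputable def coverFun (hs : IsFibSetoid 𝒳.p) (Qi : 𝒳.obj → Prop) {G : AlgSp.Sp S}
    (e : AlgSt.ofSp G ⥤ᵇ AlgSt.fullSub 𝒳 Qi) : Stk.ofPsh G.obj ⥤ᵇ Stk.ofPsh (isoPsh hs.1) :=
  BasedFunctor.comp (BasedFunctor.comp e (AlgSt.subIncl 𝒳 Qi)) (toIsoPsh hs.1)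

/-- The corresponding map of sheaves. -/
noncomputable def coverMap (h𝒳 : AlgSt.IsAlgStack Scheme.fppfPrecoverage 𝒳)
    (hs : IsFibSetoid 𝒳.p) (Qi : 𝒳.obj → Prop) {G : AlgSp.Sp S}
    (e : AlgSt.ofSp G ⥤ᵇ AlgSt.fullSub 𝒳 Qi) : G ⟶ isoSheaf h𝒳 hs :=
  ObjectProperty.homMk (mapOf (coverFun hs Qi e))

theorem repWith_openImm_coverMap (h𝒳 : AlgSt.IsAlgStack Scheme.fppfPrecoverage 𝒳)
    (hs : IsFibSetoid 𝒳.p) (Qi : 𝒳.obj → Prop) {G : AlgSp.Sp S}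
    (e : AlgSt.ofSp G ⥤ᵇ AlgSt.fullSub 𝒳 Qi) (he : IsEquivOver e)
    (himm : AlgSt.IsOpenImm (AlgSt.subIncl 𝒳 Qi)) :
    AlgSp.RepWith @IsOpenImmersion (coverMap h𝒳 hs Qi e) := by
  have r1 : AlgSt.RepByAlgSpWith (AlgSp.RepWith @IsOpenImmersion)
      (BasedFunctor.comp e (AlgSt.subIncl 𝒳 Qi)) := repWith_precomp_equiv _ e he _ himm
  have r2 : AlgSt.RepByAlgSpWith (AlgSp.RepWith @IsOpenImmersion) (coverFun hs Qi e) :=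
    repWith_postcomp_equiv _ _ (toIsoPsh hs.1) (toIsoPsh_isEquivOver hs) r1
  have r3 : AlgSt.RepByAlgSpWith (AlgSp.RepWith @IsOpenImmersion)
      (Stk.ofPshMap (mapOf (coverFun hs Qi e))) :=
    repWith_of_iso _ (isoOf (coverFun hs Qi e)) r2
  have r4 : AlgSp.RepBySpWith (AlgSp.RepWith @IsOpenImmersion) (mapOf (coverFun hs Qi e)) :=
    repBySpWith_of_repByAlgSpWith _ (isoInv_of_respectsIso _) _ r3
  apply MorphismProperty.relative.of_exists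
  intro T a
  have sq := IsPullback.of_hasPullback (coverMap h𝒳 hs Qi e) a
  obtain ⟨-, hsnd⟩ := sq_of_repBySpWith (AlgSp.RepWith @IsOpenImmersion)
    (coverMap h𝒳 hs Qi e) r4 T a _ _ _ sq
  have sq2 := hsnd.rep.isPullback (𝟙 ((AlgSp.yon S).obj T))
  refine ⟨hsnd.rep.pullback (𝟙 _), hsnd.rep.fst (𝟙 _) ≫ pullback.fst _ _,
    hsnd.rep.snd (𝟙 _), ?_, hsnd.property_snd (𝟙 _)⟩
  have h := sq2.paste_horiz sq
  rwa [Category.id_comp] at h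

theorem coverMap_jointly_surjective (h𝒳 : AlgSt.IsAlgStack Scheme.fppfPrecoverage 𝒳)
    (hs : IsFibSetoid 𝒳.p) {ι' : Type u} (Qk : ι' → 𝒳.obj → Prop) (G : ι' → AlgSp.Sp S)
    (e : ∀ k, AlgSt.ofSp (G k) ⥤ᵇ AlgSt.fullSub 𝒳 (Qk k)) (he : ∀ k, IsEquivOver (e k))
    (hloc : ∀ a : 𝒳.obj, ∃ R ∈ AlgSp.J S (𝒳.p.obj a),
      ∀ ⦃T' : Over S⦄ (m : T' ⟶ 𝒳.p.obj a), R m →
        ∃ (k : ι') (a' : 𝒳.obj) (κ : a' ⟶ a), 𝒳.p.IsHomLift m κ ∧ Qk k a')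
    (T : Over S) (s : (AlgSp.yon S).obj T ⟶ isoSheaf h𝒳 hs) :
    ∃ R ∈ AlgSp.J S T, ∀ ⦃T' : Over S⦄ (m : T' ⟶ T), R m →
      ∃ (k : ι') (y : (AlgSp.yon S).obj T' ⟶ G k),
        y ≫ coverMap h𝒳 hs (Qk k) (e k) = (AlgSp.yon S).map m ≫ s := by
  obtain ⟨⟨a, ha⟩, hw⟩ : ∃ w : Ob 𝒳 T, cls hs.1 w = Groth.Agent.Lib.AlgStMono.yE s :=
    Quotient.exists_rep (s := setoid hs.1 T) (Groth.Agent.Lib.AlgStMono.yE s)
  subst ha
  obtain ⟨R, hR, hloc'⟩ := hloc a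
  refine ⟨R, hR, fun T' m hm => ?_⟩
  obtain ⟨k, a', κ, hκ, hQa'⟩ := hloc' m hm
  obtain ⟨⟨xb, xs⟩, φ, hφ⟩ := essSurjOver_of_isEquivOver (he k)
    (⟨a', hQa'⟩ : (AlgSt.fullSub 𝒳 (Qk k)).obj)
  haveI := hκ
  have ha' : 𝒳.p.obj a' = T' := IsHomLift.domain_eq 𝒳.p m κ
  have hφ' : 𝒳.p.IsHomLift (𝟙 (𝒳.p.obj a')) φ.hom.hom :=
    (fullSub_isHomLift_iff (Qk k) φ.hom _).1 hφ
  have hz : 𝒳.p.obj ((e k).obj ⟨xb, xs⟩).obj = xb := (e k).w_obj ⟨xb, xs⟩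
  have hxb : xb = T' := by
    haveI := hφ'
    exact hz.symm.trans ((IsHomLift.domain_eq 𝒳.p (𝟙 (𝒳.p.obj a')) φ.hom.hom).trans ha')
  subst hxb
  refine ⟨k, Groth.Agent.Lib.AlgStMono.yE.symm xs, ?_⟩
  apply Groth.Agent.Lib.AlgStMono.yE.injective
  have L1 : Groth.Agent.Lib.AlgStMono.yE
      (Groth.Agent.Lib.AlgStMono.yE.symm xs ≫ coverMap h𝒳 hs (Qk k) (e k)) =
      cls hs.1 ⟨((e k).obj ⟨xb, xs⟩).obj, hz⟩ := by
    rw [Groth.Agent.Lib.AlgStMono.yE_comp, Equiv.apply_symm_apply]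
    exact res_eqToHom_cls hs.1 hz.symm ⟨((e k).obj ⟨xb, xs⟩).obj, rfl⟩
  have L2 : cls hs.1 (⟨((e k).obj ⟨xb, xs⟩).obj, hz⟩ : Ob 𝒳 xb) = cls hs.1 ⟨a', ha'⟩ :=
    Quotient.sound (s := setoid hs.1 xb)
      (show rel 𝒳 xb _ _ from ⟨φ.hom.hom, isHomLift_id_of_eq ha' _ hφ'⟩)
  have n1 : Groth.Agent.Lib.AlgStMono.yE ((AlgSp.yon S).map m ≫ s) =
      (isoSheaf h𝒳 hs).obj.map m.op (Groth.Agent.Lib.AlgStMono.yE s) :=
    (GrothendieckTopology.uliftYonedaEquiv_naturality.{u + 1} (AlgSp.J S) s _).symm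
  have L3 : Groth.Agent.Lib.AlgStMono.yE ((AlgSp.yon S).map m ≫ s) = cls hs.1 ⟨a', ha'⟩ :=
    n1.trans ((congrArg (res hs.1 m) hw.symm).trans
      (res_eq_of_lift hs.1 m ⟨a, rfl⟩ ⟨a', ha'⟩ κ hκ))
  exact L1.trans (L2.trans L3.symm)

/-- The common core of S12863 and S12864. -/
theorem openCover_core (h𝒳 : AlgSt.IsAlgStack Scheme.fppfPrecoverage 𝒳) {ι : Type w}
    (Q : ι → 𝒳.obj → Prop)
    (hQ : ∀ i, AlgSt.IsOpenSubstack 𝒳 (Q i) Scheme.fppfPrecoverage)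
    (hcov : ⋃ i, Set.range (AlgSt.Points.map (AlgSt.subIncl 𝒳 (Q i))) = Set.univ)
    (G : ι → AlgSp.Space S) (e : ∀ i, AlgSt.ofSp (G i).obj ⥤ᵇ AlgSt.fullSub 𝒳 (Q i))
    (he : ∀ i, IsEquivOver (e i)) :
    ∃ (hs : IsFibSetoid 𝒳.p) (ι' : Type u) (σ : ι' → ι),
      (∀ k, AlgSp.RepWith @IsOpenImmersion (coverMap h𝒳 hs (Q (σ k)) (e (σ k)))) ∧
      ∀ (T : Over S) (s : (AlgSp.yon S).obj T ⟶ isoSheaf h𝒳 hs), ∃ R ∈ AlgSp.J S T,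
        ∀ ⦃T' : Over S⦄ (m : T' ⟶ T), R m →
          ∃ (k : ι') (y : (AlgSp.yon S).obj T' ⟶ (G (σ k)).obj),
            y ≫ coverMap h𝒳 hs (Q (σ k)) (e (σ k)) = (AlgSp.yon S).map m ≫ s := by
  have h𝒳g : IsFibGrpd 𝒳.p := h𝒳.isStack.1
  obtain ⟨U₀, x₀, hx₁, hx₂⟩ := h𝒳.atlas
  have hsurj₀ : Function.Surjective (AlgSt.Points.ofChart x₀) :=
    ofChart_surjective_of_repWith h𝒳g x₀ hx₂
  have hσ : ∀ u : ↥U₀.left, ∃ i, AlgSt.Points.ofChart x₀ u ∈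
      Set.range (AlgSt.Points.map (AlgSt.subIncl 𝒳 (Q i))) := by
    intro u
    have hu : AlgSt.Points.ofChart x₀ u ∈
        ⋃ i, Set.range (AlgSt.Points.map (AlgSt.subIncl 𝒳 (Q i))) := by
      rw [hcov]; exact Set.mem_univ _
    exact Set.mem_iUnion.1 hu
  choose σ hσ' using hσ
  have hset : ∀ i, IsFibSetoid (AlgSt.fullSub 𝒳 (Q i)).p := fun i =>
    isFibSetoid_of_repByAlgSp (hQ i).2.1.isStack.1 ⟨G i, e i, he i⟩
  have hloc := exists_cover_Q h𝒳 Q hQ x₀ hsurj₀ σ hσ'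
  have hs : IsFibSetoid 𝒳.p := isFibSetoid_of_openCover h𝒳 Q hQ hset (fun a => by
    obtain ⟨R, hR, h⟩ := hloc a
    refine ⟨R, hR, fun T' m hm => ?_⟩
    obtain ⟨k, a', κ, h1, h2⟩ := h m hm
    exact ⟨σ k, a', κ, h1, h2⟩)
  refine ⟨hs, ↥U₀.left, σ, fun k => repWith_openImm_coverMap h𝒳 hs (Q (σ k)) (e (σ k))
    (he (σ k)) (hQ (σ k)).2.2, ?_⟩
  exact coverMap_jointly_surjective h𝒳 hs (fun k => Q (σ k)) (fun k => (G (σ k)).obj)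
    (fun k => e (σ k)) (fun k => he (σ k)) hloc

/-- S12863. -/
theorem repByAlgSp_of_openSubstack_cover (h𝒳 : AlgSt.IsAlgStack Scheme.fppfPrecoverage 𝒳)
    {ι : Type w} (Q : ι → 𝒳.obj → Prop)
    (hQ : ∀ i, AlgSt.IsOpenSubstack 𝒳 (Q i) Scheme.fppfPrecoverage)
    (hcov : ⋃ i, Set.range (AlgSt.Points.map (AlgSt.subIncl 𝒳 (Q i))) = Set.univ)
    (hsp : ∀ i, AlgSt.RepByAlgSp (AlgSt.fullSub 𝒳 (Q i))) : AlgSt.RepByAlgSp 𝒳 := by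
  have hsp' : ∀ i, ∃ (F : AlgSp.Space S) (e : AlgSt.ofSp F.obj ⥤ᵇ AlgSt.fullSub 𝒳 (Q i)),
      IsEquivOver e := hsp
  choose G e he using hsp'
  obtain ⟨hs, ι', σ, hopen, hsurj⟩ := openCover_core h𝒳 Q hQ hcov G e he
  have hc : IsColimit (Cofan.mk (∐ fun k => (G (σ k)).obj) (Sigma.ι fun k => (G (σ k)).obj)) :=
    coproductIsCoproduct _
  have hls : Sheaf.IsLocallySurjective (Cofan.IsColimit.desc hc
      (fun k => coverMap h𝒳 hs (Q (σ k)) (e (σ k)))) := by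
    refine ⟨fun {T} t => ?_⟩
    obtain ⟨R, hR, hR'⟩ := hsurj T (Groth.Agent.Lib.AlgStMono.yE.symm t)
    refine (AlgSp.J S).superset_covering ?_ hR
    intro T' m hm
    obtain ⟨k, y, hy⟩ := hR' m hm
    refine ⟨Groth.Agent.Lib.AlgStMono.yE
      (y ≫ (Cofan.mk (∐ fun k => (G (σ k)).obj) (Sigma.ι fun k => (G (σ k)).obj)).inj k), ?_⟩
    have h1 : Groth.Agent.Lib.AlgStMono.yE
        ((y ≫ (Cofan.mk (∐ fun k => (G (σ k)).obj) (Sigma.ι fun k => (G (σ k)).obj)).inj k) ≫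
          Cofan.IsColimit.desc hc (fun k => coverMap h𝒳 hs (Q (σ k)) (e (σ k)))) =
        Groth.Agent.Lib.AlgStMono.yE
          ((AlgSp.yon S).map m ≫ Groth.Agent.Lib.AlgStMono.yE.symm t) :=
      congrArg Groth.Agent.Lib.AlgStMono.yE ((Category.assoc _ _ _).trans
        ((congrArg (fun z => y ≫ z) (Cofan.IsColimit.fac hc
          (fun k => coverMap h𝒳 hs (Q (σ k)) (e (σ k))) k)).trans hy))
    have h2 : Groth.Agent.Lib.AlgStMono.yE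
        ((AlgSp.yon S).map m ≫ Groth.Agent.Lib.AlgStMono.yE.symm t) =
        (isoSheaf h𝒳 hs).obj.map m.op t := by
      have h3 := (GrothendieckTopology.uliftYonedaEquiv_naturality.{u + 1} (AlgSp.J S)
        (Groth.Agent.Lib.AlgStMono.yE.symm t) m).symm
      rw [Equiv.apply_symm_apply] at h3
      exact h3
    exact ((Groth.Agent.Lib.AlgStMono.yE_comp _ _).symm.trans h1).trans h2
  have hF : AlgSp.IsAlgSpace (isoSheaf h𝒳 hs) :=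
    Groth.Agent.S9877.result S (isoSheaf h𝒳 hs) (fun k => (G (σ k)).obj)
      (fun k => coverMap h𝒳 hs (Q (σ k)) (e (σ k))) (fun k => (G (σ k)).property) hopen _ hc hls
      (Groth.Agent.Lib.SpCoprod5H7.isAlgSpace_cofan_pt _ hc (fun k => (G (σ k)).property))
  obtain ⟨E', hE'⟩ := Groth.Agent.StkEquiv.isEquivOver_symm (toIsoPsh_isEquivOver hs)
  exact ⟨⟨isoSheaf h𝒳 hs, hF⟩, E', hE'⟩

/-- S12864. -/
theorem isRepresentable_of_openSubstack_cover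
    (h𝒳 : AlgSt.IsAlgStack Scheme.fppfPrecoverage 𝒳)
    {ι : Type w} (Q : ι → 𝒳.obj → Prop)
    (hQ : ∀ i, AlgSt.IsOpenSubstack 𝒳 (Q i) Scheme.fppfPrecoverage)
    (hcov : ⋃ i, Set.range (AlgSt.Points.map (AlgSt.subIncl 𝒳 (Q i))) = Set.univ)
    (hsch : ∀ i, FibCat.IsRepresentable (AlgSt.fullSub 𝒳 (Q i))) : FibCat.IsRepresentable 𝒳 := by
  have hsch' : ∀ i, ∃ (U : Over S) (Φ : AlgSt.fullSub 𝒳 (Q i) ⥤ᵇ FibCat.overCat U),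
      IsEquivOver Φ := hsch
  choose U Φ hΦ using hsch'
  have hinv : ∀ i, ∃ Ψ : FibCat.overCat (U i) ⥤ᵇ AlgSt.fullSub 𝒳 (Q i), IsEquivOver Ψ :=
    fun i => Groth.Agent.StkEquiv.isEquivOver_symm (hΦ i)
  choose Ψ hΨ using hinv
  obtain ⟨hs, ι', σ, hopen, hsurj⟩ := openCover_core h𝒳 Q hQ hcov
    (fun i => (AlgSp.ofScheme S).obj (U i))
    (fun i => BasedFunctor.comp (AlgSt.toOverCat (U i)) (Ψ i))
    (fun i => isEquivOver_comp (toOverCat_isEquivOver (U i)) (hΨ i))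
  obtain ⟨Y, eY, j, -, -, -⟩ := Groth.Agent.Lib.AlgSpGlueH7.exists_iso_of_openCover
    (F := isoSheaf h𝒳 hs) (X := fun k => U (σ k))
    (f := fun k => coverMap h𝒳 hs (Q (σ k))
      (BasedFunctor.comp (AlgSt.toOverCat (U (σ k))) (Ψ (σ k)))) hopen (fun T a => by
      obtain ⟨R, hR, hR'⟩ := hsurj T a
      refine ⟨R, hR, fun T' m hm => ?_⟩
      obtain ⟨k, y, hy⟩ := hR' m hm
      refine ⟨k, (AlgSp.yon S).preimage (X := T') (Y := U (σ k)) y, ?_⟩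
      rw [(AlgSp.yon S).map_preimage]
      exact hy.symm)
  haveI : IsIso eY.inv := inferInstance
  exact ⟨Y, BasedFunctor.comp (toIsoPsh hs.1)
      (BasedFunctor.comp (AlgSt.ofSpMap eY.inv) (AlgSt.toOverCat Y)),
    isEquivOver_comp (toIsoPsh_isEquivOver hs)
      (isEquivOver_comp (isEquivOver_ofSpMap_of_isIso eY.inv) (toOverCat_isEquivOver Y))⟩

end Groth.Agent.Lib.AlgStLocQ
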