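import Groth.Agent.Lib.AlgStOpenSub_lead
import Groth.Agent.Lib.AlgSpTop_helper7
import Groth.Agent.Lib.AlgSpUniv_helper7

/-! # Open substacks correspond bijectively to open subsets of the space of points (lead) -/

set_option autoImplicit false

universe w v₁ v₂ v₃ v₄ v₅ v₆ u₁ u₂ u₃ u₄ u₅ u₆ u

open CategoryTheory CategoryTheory.Limits AlgebraicGeometry Opposite FibCat Stk

namespace Groth.Agent.Lib.AlgStLocQ

open AlgSt Groth.Agent.Lib.FibCat_helper6 Groth.Agent.Lib.FibCat3_helper6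
  Groth.Agent.Lib.FibCat14_helper6 Groth.Agent.Lib.FibCat12_helper6
  Groth.Agent.Lib.FibCatPaste Groth.Agent.Lib.FibCatSwap
  Groth.Agent.Lib.FibCatIsoFun
  Groth.Agent.Lib.OfPshCalc Groth.Agent.Lib.AlgStBC
  Groth.Agent.Lib.AlgStEquiv Groth.Agent.Lib.AlgStEquivP Groth.Agent.Lib.AlgStEquivInv
  Groth.Agent.Lib.OfPshAlgSt Groth.Agent.Lib.LiftSqBC Groth.Agent.Lib.LiftSqComp
  Groth.Agent.Lib.OfPshWith Groth.Agent.Lib.FibCatDiagSec Groth.Agent.Lib.AlgStDiagRep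
  Groth.Agent.Lib.FibCatDiagBC Groth.Agent.Lib.FibCatMagic Groth.Agent.Lib.FibCatProd
  Groth.Agent.Lib.AlgStDiag Groth.Agent.Lib.AlgStLocal
  Groth.Agent.Lib.AlgSpQC_helper7 Groth.Agent.Lib.AlgSpDiag_helper7
  Groth.Agent.Lib.AlgSpPullback_helper7 Groth.Agent.Lib.AlgSpRepBySp_helper7
  Groth.Agent.Lib.AlgSpPoints_helper7 Groth.Agent.Lib.AlgSpLocP_helper7
  Groth.Agent.Lib.AlgSpBasic_helper7 Groth.Agent.Lib.AlgSpSep_helper7
  Groth.Agent.Lib.AlgSpLocP4_helper7 Groth.Agent.Lib.AlgSpLocP5_helper7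
  Groth.Agent.Lib.AlgSpLocP7_helper7 Groth.Agent.Lib.AlgSpQC2_helper7
  Groth.Agent.Lib.AlgSpLocP8_helper7 Groth.Agent.Lib.AlgSpLocP10_helper7
  Groth.Agent.Lib.AlgSpFpqc3_helper7 Groth.Agent.Lib.AlgSpLocP6_helper7
  Groth.Agent.Lib.AlgSpFpqc2_helper7 Groth.Agent.Lib.AlgSpFpqc_helper7
  Groth.Agent.Lib.AlgSpProper_helper7 Groth.Agent.Lib.AlgSpAffineMorH7
  Groth.Agent.Lib.AlgStAtlas Groth.Agent.Lib.AlgStPoints Groth.Agent.Lib.AlgStPtsCmp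
  Groth.Agent.Lib.FibCatYoneda_helper6



variable {S : Scheme.{u}}

section bij

variable {𝒳 : AlgSt.Cat S}

/-- An object all of whose points lie in an open substack belongs to the substack. -/
theorem mem_of_qT_range (h𝒳 : AlgSt.IsAlgStack Scheme.fppfPrecoverage 𝒳) {Q : 𝒳.obj → Prop}
    (hQ : AlgSt.IsOpenSubstack 𝒳 Q Scheme.fppfPrecoverage) {a : 𝒳.obj}
    (ha : QT (Set.range (AlgSt.Points.map (AlgSt.subIncl 𝒳 Q))) a) : Q a := by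
  obtain ⟨hiso, halg, himm⟩ := hQ
  have h𝒳g : IsFibGrpd 𝒳.p := h𝒳.isStack.1
  haveI : 𝒳.p.IsFibered := isFibered_of_isFibGrpd h𝒳g
  have hA : 𝒳.p.obj a = 𝒳.p.obj a := rfl
  let θ₀ : (yonedaFunctor hA).obj (Over.mk (𝟙 (𝒳.p.obj a))) ≅ a :=
    @asIso _ _ _ _ (Functor.IsPreFibered.pullbackMap hA
      (ohom (𝒳.p.obj a) (Over.mk (𝟙 (𝒳.p.obj a))))) (pullbackMap_id_isIso hA)
  obtain ⟨F, e, he, hP⟩ := himm (𝒳.p.obj a) (yonedaFunctor hA)
  have hfull : IsFibGrpd (AlgSt.fullSub 𝒳 Q).p := halg.isStack.1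
  have hπs : AlgSt.IsSurjective (fpFst (yonedaFunctor hA) (AlgSt.subIncl 𝒳 Q)) := by
    intro z
    obtain ⟨t, rfl⟩ := pt_surjective (𝒳.p.obj a) z
    have hmem : AlgSt.Points.ofChart (yonedaFunctor hA) t ∈
        Set.range (AlgSt.Points.map (AlgSt.subIncl 𝒳 Q)) :=
      ofChart_mem_of_qT (yonedaFunctor hA) (Over.mk (𝟙 (𝒳.p.obj a))) ha θ₀.hom t
    obtain ⟨s, hs⟩ := hmem
    obtain ⟨w, hw, -⟩ := exists_fp_point hfull h𝒳g (isFibGrpd_over_forget (𝒳.p.obj a))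
      (AlgSt.subIncl 𝒳 Q) (yonedaFunctor hA) (pt (𝒳.p.obj a) t) s hs.symm
    exact ⟨w, hw⟩
  have hΦs : AlgSt.IsSurjective
      (BasedFunctor.comp e (fpFst (yonedaFunctor hA) (AlgSt.subIncl 𝒳 Q))) := by
    intro z
    obtain ⟨w, rfl⟩ := hπs z
    obtain ⟨v, rfl⟩ := map_surjective_of_isEquivOver e he w
    exact ⟨v, Groth.Agent.Lib.AlgStPoints.map_comp _ _ _⟩
  have hms := isSurjectiveMor_spMapOfOver _ hΦs
  obtain ⟨hrep, hopen⟩ := (AlgSp.repWith_iff _ _).1 hP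
  have hsurj := (repWith_surjective_iff _ hrep).2 hms
  obtain ⟨V, snd, fst, sq⟩ := hrep (𝟙 ((AlgSp.yon S).obj (𝒳.p.obj a)))
  have o1 : IsOpenImmersion snd.left := hopen (𝟙 _) fst snd sq
  have o2 : Surjective snd.left := ((AlgSp.repWith_iff _ _).1 hsurj).2 (𝟙 _) fst snd sq
  haveI : IsIso ((Over.forget S).map snd) :=
    (isIso_iff_isOpenImmersion_and_surjective snd.left).2 ⟨o1, o2⟩
  haveI : IsIso snd := isIso_of_reflects_iso snd (Over.forget S)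
  have h1 : fst ≫ AlgSt.spMapOfOver
      (BasedFunctor.comp e (fpFst (yonedaFunctor hA) (AlgSt.subIncl 𝒳 Q))) =
      (AlgSp.yon S).map snd := by rw [sq.w, Category.comp_id]
  have hs : (AlgSt.spMapOfOver
      (BasedFunctor.comp e (fpFst (yonedaFunctor hA) (AlgSt.subIncl 𝒳 Q)))).hom.app
        (op (𝒳.p.obj a)) (fst.hom.app (op (𝒳.p.obj a)) (ULift.up (inv snd))) =
      ULift.up (𝟙 (𝒳.p.obj a)) := by
    have h2 := congrArg (fun η => η.hom.app (op (𝒳.p.obj a)) (ULift.up (inv snd))) h1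
    refine h2.trans ?_
    show (ULift.up (inv snd ≫ snd) : ULift (𝒳.p.obj a ⟶ 𝒳.p.obj a)) = ULift.up (𝟙 _)
    rw [IsIso.inv_hom_id]
  let a₀ : (AlgSt.ofSp F.obj).obj :=
    ⟨𝒳.p.obj a, fst.hom.app (op (𝒳.p.obj a)) (ULift.up (inv snd))⟩
  have hsec : AlgSt.secHom
      (BasedFunctor.comp e (fpFst (yonedaFunctor hA) (AlgSt.subIncl 𝒳 Q))) a₀ =
      𝟙 (𝒳.p.obj a) :=
    congrArg ULift.down ((AlgSt.spMapOfOver_app _ (𝒳.p.obj a) _).symm.trans hs)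
  have hB : ((BasedFunctor.comp e (fpFst (yonedaFunctor hA) (AlgSt.subIncl 𝒳 Q))).obj a₀).left =
      𝒳.p.obj a :=
    (BasedFunctor.comp e (fpFst (yonedaFunctor hA) (AlgSt.subIncl 𝒳 Q))).w_obj a₀
  have hBhom : ((BasedFunctor.comp e (fpFst (yonedaFunctor hA) (AlgSt.subIncl 𝒳 Q))).obj a₀).hom =
      eqToHom hB := by
    have h3 : eqToHom hB.symm ≫
        ((BasedFunctor.comp e (fpFst (yonedaFunctor hA) (AlgSt.subIncl 𝒳 Q))).obj a₀).hom =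
        𝟙 (𝒳.p.obj a) := hsec
    calc ((BasedFunctor.comp e (fpFst (yonedaFunctor hA) (AlgSt.subIncl 𝒳 Q))).obj a₀).hom
        = eqToHom hB ≫ eqToHom hB.symm ≫
          ((BasedFunctor.comp e (fpFst (yonedaFunctor hA) (AlgSt.subIncl 𝒳 Q))).obj a₀).hom := by
          simp
      _ = eqToHom hB := by rw [h3, Category.comp_id]
  let φ₁ : (BasedFunctor.comp e (fpFst (yonedaFunctor hA) (AlgSt.subIncl 𝒳 Q))).obj a₀ ≅
      Over.mk (𝟙 (𝒳.p.obj a)) :=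
    Over.isoMk (eqToIso hB) (by rw [hBhom]; simp)
  have iso : (e.obj a₀).obj.snd.obj ≅ a :=
    (e.obj a₀).obj.iso.symm ≪≫ (yonedaFunctor hA).toFunctor.mapIso φ₁ ≪≫ θ₀
  exact hiso.of_iso iso (e.obj a₀).obj.snd.property

/-- S12859. -/
theorem isOpenSubstack_bijOn (h𝒳 : AlgSt.IsAlgStack Scheme.fppfPrecoverage 𝒳) :
    Set.BijOn (fun Q : 𝒳.obj → Prop => Set.range (AlgSt.Points.map (AlgSt.subIncl 𝒳 Q)))
        {Q | AlgSt.IsOpenSubstack 𝒳 Q Scheme.fppfPrecoverage} {T | IsOpen T} ∧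
      ∀ (Q Q' : 𝒳.obj → Prop), AlgSt.IsOpenSubstack 𝒳 Q Scheme.fppfPrecoverage →
        AlgSt.IsOpenSubstack 𝒳 Q' Scheme.fppfPrecoverage →
        ((∀ y, Q y → Q' y) ↔ Set.range (AlgSt.Points.map (AlgSt.subIncl 𝒳 Q)) ⊆
          Set.range (AlgSt.Points.map (AlgSt.subIncl 𝒳 Q'))) := by
  have key : ∀ Q : 𝒳.obj → Prop, AlgSt.IsOpenSubstack 𝒳 Q Scheme.fppfPrecoverage → ∀ a,
      Q a ↔ QT (Set.range (AlgSt.Points.map (AlgSt.subIncl 𝒳 Q))) a := fun Q hQ a =>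
    ⟨fun ha => qT_of_mem hQ.2.1.isStack.1 h𝒳.isStack.1 ha, fun ha => mem_of_qT_range h𝒳 hQ ha⟩
  refine ⟨⟨?_, ?_, ?_⟩, ?_⟩
  · intro Q hQ
    exact isOpen_range_of_isOpenSubstack h𝒳 hQ
  · intro Q hQ Q' hQ' hEq
    have hEq' : Set.range (AlgSt.Points.map (AlgSt.subIncl 𝒳 Q)) =
        Set.range (AlgSt.Points.map (AlgSt.subIncl 𝒳 Q')) := hEq
    funext a
    apply propext
    have h1 := key Q hQ a
    have h2 := key Q' hQ' a
    rw [hEq'] at h1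
    exact h1.trans h2.symm
  · intro T hT
    exact ⟨QT T, isOpenSubstack_QT h𝒳 T hT, range_subIncl_QT T⟩
  · intro Q Q' hQ hQ'
    constructor
    · intro h
      rintro _ ⟨s, rfl⟩
      obtain ⟨q, rfl⟩ := AlgSt.Points.mk_surjective s
      exact ⟨AlgSt.Points.mk ⟨q.K, q.str, ⟨q.obj.obj, h _ q.obj.property⟩, q.lies⟩, rfl⟩
    · intro h y hy
      exact (key Q' hQ' y).2 (qT_mono h ((key Q hQ y).1 hy))

end bij

end Groth.Agent.Lib.AlgStLocQ
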