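import Groth.Agent.Lib.AlgStPoints_lead
import Groth.Agent.Lib.FibCatRelDiag_lead

/-!
# Composition of universally injective morphisms (lead)
-/

set_option autoImplicit false
set_option backward.isDefEq.respectTransparency false
set_option backward.isDefEq.respectTransparency.types false

universe w'' v'' w' v' w v u v₄ u₄ v₃ u₃ v₂ u₂ v₁ u₁

open CategoryTheory CategoryTheory.Limits AlgebraicGeometry FibCat

namespace Groth.Agent.Lib.AlgStPoints2

open Groth.Agent.Lib.FibCat_helper6 Groth.Agent.Lib.FibCat3_helper6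
  Groth.Agent.Lib.FibCat14_helper6 Groth.Agent.Lib.FibCatPaste Groth.Agent.Lib.FibCat12_helper6
  Groth.Agent.Lib.FibCatRelDiag Groth.Agent.Lib.AlgStPoints

section general

variable {C : Type u₁} [Category.{v₁} C] {𝒳 : BasedCategory.{v₂, u₂} C}
  {𝒴 : BasedCategory.{v₃, u₃} C} {𝒵 : BasedCategory.{v₄, u₄} C}
  (f : 𝒳 ⥤ᵇ 𝒴) (g : 𝒴 ⥤ᵇ 𝒵)

/-- The 2-isomorphism obtained by applying `g` to the canonical one of `𝒳 ×_𝒴 𝒳`. -/
def compIso : BasedFunctor.comp (fpFst f f) (BasedFunctor.comp f g) ≅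
    BasedFunctor.comp (fpSnd f f) (BasedFunctor.comp f g) :=
  BasedNatIso.mkNatIso
    (NatIso.ofComponents (fun x => g.toFunctor.mapIso x.obj.iso) (fun {x y} m => by
      show g.toFunctor.map (f.toFunctor.map m.hom.fst) ≫ g.toFunctor.map y.obj.iso.hom =
        g.toFunctor.map x.obj.iso.hom ≫ g.toFunctor.map (f.toFunctor.map m.hom.snd)
      rw [← g.toFunctor.map_comp, ← g.toFunctor.map_comp, m.hom.w]))
    (fun x => by
      have hx : 𝒴.p.IsHomLift (𝟙 (𝒳.p.obj x.obj.fst)) x.obj.iso.hom := x.property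
      show 𝒵.p.IsHomLift (𝟙 (𝒳.p.obj x.obj.fst)) (g.map x.obj.iso.hom)
      infer_instance)

theorem compIso_app (x : (fp f f).obj) :
    (compIso f g).hom.toNatTrans.app x = g.map x.obj.iso.hom := rfl

theorem id_sq_aux {E : Type*} [Category E] {A : E} (a b : A ⟶ A) (ha : a = 𝟙 A) (hb : b = 𝟙 A) :
    a ≫ b = 𝟙 A ≫ a := by
  subst ha hb; rfl

/-- The comparison morphism between the two descriptions of the diagonal of a composition. -/
def diagCompHom (x : 𝒳.obj) :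
    (FibCat.diag (BasedFunctor.comp f g)).obj x ⟶
      (relI f f g (compIso f g)).obj ((FibCat.diag f).obj x) :=
  fpHomMk (𝟙 x) (𝟙 x)
    (id_sq_aux (A := g.obj (f.obj x)) _ _ ((BasedFunctor.comp f g).toFunctor.map_id x)
      (g.toFunctor.map_id (f.obj x)))

end general

section points

variable {S : Scheme.{u}} {𝒳 : BasedCategory.{v, w} (Over S)}
  {𝒴 : BasedCategory.{v', w'} (Over S)} {𝒵 : BasedCategory.{v'', w''} (Over S)}

theorem diag_comp_surjective (h𝒳 : IsFibGrpd 𝒳.p) (h𝒴 : IsFibGrpd 𝒴.p) (h𝒵 : IsFibGrpd 𝒵.p)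
    (f : 𝒳 ⥤ᵇ 𝒴) (g : 𝒴 ⥤ᵇ 𝒵) (hf : AlgSt.IsSurjective (FibCat.diag f))
    (hg : AlgSt.IsSurjective (FibCat.diag g)) :
    AlgSt.IsSurjective (FibCat.diag (BasedFunctor.comp f g)) := by
  have h1 : Function.Surjective (AlgSt.Points.map (relBC f f g (compIso f g) (compIso_app f g))) :=
    map_surjective_of_isEquivOver _ (relBC_isEquivOver f f g (compIso f g) (compIso_app f g))
  have h2 : AlgSt.IsSurjective (fpFst (Psi f f g) (FibCat.diag g)) :=
    surjective_fpFst h𝒴 (isFibGrpd_fp g g h𝒴 h𝒴 h𝒵)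
      (isFibGrpd_fp (BasedFunctor.comp f g) (BasedFunctor.comp f g) h𝒳 h𝒳 h𝒵)
      (FibCat.diag g) (Psi f f g) hg
  have e : ∀ t, AlgSt.Points.map (relI f f g (compIso f g)) t =
      AlgSt.Points.map (fpFst (Psi f f g) (FibCat.diag g))
        (AlgSt.Points.map (relBC f f g (compIso f g) (compIso_app f g)) t) :=
    fun t => map_comp (relBC f f g (compIso f g) (compIso_app f g))
      (fpFst (Psi f f g) (FibCat.diag g)) t
  intro w
  obtain ⟨w', rfl⟩ := h2 w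
  obtain ⟨t, rfl⟩ := h1 w'
  obtain ⟨s, rfl⟩ := hf t
  obtain ⟨p, rfl⟩ := AlgSt.Points.mk_surjective s
  refine ⟨AlgSt.Points.mk p, ?_⟩
  rw [← e]
  show AlgSt.Points.mk (p.map (FibCat.diag (BasedFunctor.comp f g))) =
    AlgSt.Points.mk ((p.map (FibCat.diag f)).map (relI f f g (compIso f g)))
  exact AlgSt.Points.sound ⟨_, 𝟙 _, diagCompHom f g p.obj, trivial⟩

end points

section univ

variable {S : Scheme.{u}} (K : Precoverage Scheme.{u})

theorem univInjective_comp {𝒳 𝒴 𝒵 : AlgSt.Cat S} (h𝒳 : AlgSt.IsAlgStack K 𝒳)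
    (h𝒴 : AlgSt.IsAlgStack K 𝒴) (h𝒵 : IsFibGrpd 𝒵.p) (f : 𝒳 ⥤ᵇ 𝒴) (g : 𝒴 ⥤ᵇ 𝒵)
    (hf : AlgSt.IsUnivInjective K f) (hg : AlgSt.IsUnivInjective K g) :
    AlgSt.IsUnivInjective K (BasedFunctor.comp f g) :=
  univInjective_of_diag_surjective K h𝒳.isStack.1 h𝒵 (BasedFunctor.comp f g)
    (diag_comp_surjective h𝒳.isStack.1 h𝒴.isStack.1 h𝒵 f g
      (diag_surjective_of_univInjective K h𝒳 f hf) (diag_surjective_of_univInjective K h𝒴 g hg))

end univ

end Groth.Agent.Lib.AlgStPoints2
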