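import Groth.Agent.Lib.AlgStFp2_lead
import Groth.Agent.Lib.AlgStPoints2_lead
import Groth.Agent.Lib.FibCatYoneda_helper6

/-!
# Points of the category of a sheaf versus points of the sheaf; surjectivity (lead)
-/

set_option autoImplicit false

universe u

open CategoryTheory CategoryTheory.Limits AlgebraicGeometry Opposite FibCat Stk

namespace Groth.Agent.Lib.AlgStPtsCmp

open AlgSt Groth.Agent.Lib.FibCat_helper6 Groth.Agent.Lib.FibCat3_helper6
  Groth.Agent.Lib.FibCat14_helper6 Groth.Agent.Lib.FibCat12_helper6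
  Groth.Agent.Lib.FibCatPaste Groth.Agent.Lib.FibCatSwap
  Groth.Agent.Lib.FibCatIsoFun
  Groth.Agent.Lib.OfPshCalc Groth.Agent.Lib.AlgStBC
  Groth.Agent.Lib.AlgStEquiv Groth.Agent.Lib.AlgStEquivP Groth.Agent.Lib.AlgStEquivInv
  Groth.Agent.Lib.OfPshAlgSt Groth.Agent.Lib.LiftSqBC Groth.Agent.Lib.LiftSqComp
  Groth.Agent.Lib.OfPshWith Groth.Agent.Lib.AlgStLocal Groth.Agent.Lib.AlgStAtlas
  Groth.Agent.Lib.AlgStPoints Groth.Agent.Lib.FibCatYoneda_helper6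

variable {S : Scheme.{u}}

section cmp

variable {F G : AlgSp.Sp S}

/-- The field-valued point of the sheaf `F` given by a field-valued point of its category. -/
noncomputable def ptOfFPt (p : AlgSt.FPt (AlgSt.ofSp F)) : AlgSp.FieldPt F :=
  ⟨p.K, p.str, F.obj.map (eqToHom p.lies.symm).op p.obj.sec⟩

/-- The field-valued point of the category of `F` given by a field-valued point of `F`. -/
noncomputable def fptOfPt (q : AlgSp.FieldPt F) : AlgSt.FPt (AlgSt.ofSp F) :=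
  ⟨q.K, q.str, ⟨Over.mk q.str, q.val⟩, rfl⟩

theorem ptOfFPt_fptOfPt (q : AlgSp.FieldPt F) : ptOfFPt (fptOfPt q) = q := by
  obtain ⟨K, str, val⟩ := q
  show (⟨K, str, F.obj.map (eqToHom rfl).op val⟩ : AlgSp.FieldPt F) = ⟨K, str, val⟩
  congr 1
  simp

theorem rel_ptOfFPt {p q : AlgSt.FPt (AlgSt.ofSp F)} (h : AlgSt.FPt.Rel p q) :
    AlgSp.FieldPt.Rel (ptOfFPt p) (ptOfFPt q) := by
  obtain ⟨r, a, b, -⟩ := h
  obtain ⟨Kp, sp, ⟨bp, secp⟩, lp⟩ := p
  obtain ⟨Kq, sq, ⟨bq, secq⟩, lq⟩ := q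
  obtain ⟨Kr, sr, ⟨br, secr⟩, lr⟩ := r
  change bp = Over.mk sp at lp
  change bq = Over.mk sq at lq
  change br = Over.mk sr at lr
  subst lp lq lr
  refine ⟨Kr, inferInstance, sr, a.hom, b.hom, ?_⟩
  show F.obj.map a.hom.op (F.obj.map (eqToHom rfl).op secp) =
    F.obj.map b.hom.op (F.obj.map (eqToHom rfl).op secq)
  have ha : F.obj.map a.hom.op secp = secr := a.map_sec
  have hb : F.obj.map b.hom.op secq = secr := b.map_sec
  simp only [eqToHom_refl, op_id, Functor.map_id_apply]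
  rw [ha, hb]

/-- The comparison map `|ofSp F| ⟶ |F|`. -/
noncomputable def toSpPoints : AlgSt.Points (AlgSt.ofSp F) → AlgSp.Points F :=
  Quot.lift (fun p => AlgSp.Points.mk (ptOfFPt p)) (fun _ _ h => AlgSp.Points.sound (rel_ptOfFPt h))

theorem toSpPoints_mk (p : AlgSt.FPt (AlgSt.ofSp F)) :
    toSpPoints (AlgSt.Points.mk p) = AlgSp.Points.mk (ptOfFPt p) := rfl

theorem toSpPoints_surjective : Function.Surjective (toSpPoints (F := F)) := by
  intro z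
  obtain ⟨q, rfl⟩ := AlgSp.Points.mk_surjective z
  exact ⟨AlgSt.Points.mk (fptOfPt q), by rw [toSpPoints_mk, ptOfFPt_fptOfPt]⟩

theorem toSpPoints_map (a : F ⟶ G) (x : AlgSt.Points (AlgSt.ofSp F)) :
    toSpPoints (AlgSt.Points.map (AlgSt.ofSpMap a) x) = AlgSp.Points.map a (toSpPoints x) := by
  obtain ⟨p, rfl⟩ := AlgSt.Points.mk_surjective x
  obtain ⟨Kp, sp, ⟨bp, secp⟩, lp⟩ := p
  change bp = Over.mk sp at lp
  subst lp
  show AlgSp.Points.mk (⟨Kp, sp, G.obj.map (eqToHom rfl).op (a.hom.app _ secp)⟩ : AlgSp.FieldPt G) =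
    AlgSp.Points.mk (⟨Kp, sp, a.hom.app _ (F.obj.map (eqToHom rfl).op secp)⟩ : AlgSp.FieldPt G)
  congr 2
  simp

end cmp

section stk

variable {𝒳 𝒴 : AlgSt.Cat S}

/-- Isomorphic functors induce the same map on points. -/
theorem map_congr_iso {F G : 𝒳 ⥤ᵇ 𝒴} (ι : F ≅ G) (x : AlgSt.Points 𝒳) :
    AlgSt.Points.map F x = AlgSt.Points.map G x := by
  obtain ⟨p, rfl⟩ := AlgSt.Points.mk_surjective x
  exact AlgSt.Points.sound ⟨p.map F, 𝟙 _, ι.hom.toNatTrans.app p.obj, trivial⟩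

/-- A functor `ofSp F ⟶ (Sch/T)` which is surjective on points induces a surjective morphism of
sheaves. -/
theorem isSurjectiveMor_spMapOfOver {F : AlgSp.Sp S} {T : Over S}
    (Φ : AlgSt.ofSp F ⥤ᵇ FibCat.overCat T) (h : AlgSt.IsSurjective Φ) :
    AlgSp.IsSurjectiveMor (AlgSt.spMapOfOver Φ) := by
  have i1 : BasedFunctor.comp Φ (AlgSt.ofOverCat T) ≅
      Stk.ofPshMap (mapOf (BasedFunctor.comp Φ (AlgSt.ofOverCat T))) := isoOf _
  have e2 : Stk.ofPshMap (mapOf (BasedFunctor.comp Φ (AlgSt.ofOverCat T))) =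
      AlgSt.ofSpMap (AlgSt.spMapOfOver Φ) := congrArg Stk.ofPshMap (spMapOfOver_hom Φ).symm
  have hs : Function.Surjective (AlgSt.Points.map (AlgSt.ofSpMap (AlgSt.spMapOfOver Φ))) := by
    intro z
    obtain ⟨x, hx⟩ := h (AlgSt.Points.map (AlgSt.toOverCat T) z)
    refine ⟨x, ?_⟩
    rw [← map_congr_iso (i1 ≪≫ eqToIso e2) x, Groth.Agent.Lib.AlgStPoints.map_comp, hx,
      ← Groth.Agent.Lib.AlgStPoints.map_comp]
    exact Groth.Agent.Lib.AlgStPoints.map_id z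
  intro z
  obtain ⟨z', rfl⟩ := toSpPoints_surjective z
  obtain ⟨x', rfl⟩ := hs z'
  exact ⟨toSpPoints x', (toSpPoints_map _ x').symm⟩

theorem isFibered_of (h : IsFibGrpd 𝒴.p) : 𝒴.p.IsFibered := isFibered_of_isFibGrpd h

/-- For a morphism representable by algebraic spaces, surjectivity on points is surjectivity of
all base changes to schemes. -/
theorem isSurjective_iff_repWith (h𝒳 : IsFibGrpd 𝒳.p) (h𝒴 : IsFibGrpd 𝒴.p) (f : 𝒳 ⥤ᵇ 𝒴)
    (hf : AlgSt.RepByAlgSp1 f) :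
    AlgSt.IsSurjective f ↔ AlgSt.RepByAlgSpWith AlgSp.IsSurjectiveMor f := by
  constructor
  · intro hs T y
    obtain ⟨F, e, he⟩ := hf T y
    refine ⟨F, e, he, isSurjectiveMor_spMapOfOver _ ?_⟩
    intro z
    obtain ⟨w, hw⟩ := surjective_fpFst h𝒳 h𝒴 (isFibGrpd_over_forget T) f y hs z
    obtain ⟨a, rfl⟩ := map_surjective_of_isEquivOver e he w
    exact ⟨a, by rw [Groth.Agent.Lib.AlgStPoints.map_comp]; exact hw⟩
  · intro h q
    obtain ⟨q₀, rfl⟩ := AlgSt.Points.mk_surjective q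
    haveI : 𝒴.p.IsFibered := isFibered_of_isFibGrpd h𝒴
    obtain ⟨F, e, he, hs⟩ := h (Over.mk q₀.str) (yonedaFunctor (x := q₀.obj) q₀.lies)
    obtain ⟨p, -⟩ := hs (AlgSp.Points.mk ⟨q₀.K, q₀.str, ⟨𝟙 _⟩⟩)
    obtain ⟨p₀, rfl⟩ := AlgSp.Points.mk_surjective p
    have hw : (fp (yonedaFunctor (x := q₀.obj) q₀.lies) f).p.obj
        (e.toFunctor.obj ⟨Over.mk p₀.str, p₀.val⟩) = Over.mk p₀.str :=
      e.w_obj ⟨Over.mk p₀.str, p₀.val⟩
    have hx : 𝒳.p.obj (e.toFunctor.obj ⟨Over.mk p₀.str, p₀.val⟩).obj.snd = Over.mk p₀.str :=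
      (fp_obj_snd_proj _).trans hw
    refine ⟨AlgSt.Points.mk ⟨p₀.K, p₀.str, _, hx⟩, ?_⟩
    exact AlgSt.Points.sound ⟨_, 𝟙 _,
      (e.toFunctor.obj ⟨Over.mk p₀.str, p₀.val⟩).obj.iso.inv ≫
        Functor.IsPreFibered.pullbackMap q₀.lies _, trivial⟩

end stk

end Groth.Agent.Lib.AlgStPtsCmp
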