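import Groth.Agent.Lib.AlgStSmLoc_lead

/-!
# Quasi-compact algebraic stacks and quasi-compact morphisms (lead)
-/

set_option autoImplicit false

universe w v₁ v₂ v₃ v₄ v₅ v₆ u₁ u₂ u₃ u₄ u₅ u₆ u

open CategoryTheory CategoryTheory.Limits AlgebraicGeometry Opposite FibCat Stk

namespace Groth.Agent.Lib.AlgStLocQ

open AlgSt Groth.Agent.Lib.FibCat_helper6 Groth.Agent.Lib.FibCat3_helper6
  Groth.Agent.Lib.FibCat14_helper6 Groth.Agent.Lib.FibCat12_helper6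
  Groth.Agent.Lib.FibCatPaste Groth.Agent.Lib.FibCatSwap
  Groth.Agent.Lib.FibCatIsoFun
  Groth.Agent.Lib.OfPshCalc Groth.Agent.Lib.AlgStBC
  Groth.Agent.Lib.AlgStEquiv Groth.Agent.Lib.AlgStEquivP Groth.Agent.Lib.AlgStEquivInv
  Groth.Agent.Lib.OfPshAlgSt Groth.Agent.Lib.LiftSqBC Groth.Agent.Lib.LiftSqComp
  Groth.Agent.Lib.OfPshWith Groth.Agent.Lib.FibCatDiagSec Groth.Agent.Lib.AlgStDiagRep
  Groth.Agent.Lib.FibCatDiagBC Groth.Agent.Lib.FibCatMagic Groth.Agent.Lib.FibCatProd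
  Groth.Agent.Lib.AlgStDiag Groth.Agent.Lib.AlgStLocal
  Groth.Agent.Lib.AlgSpQC_helper7 Groth.Agent.Lib.AlgSpDiag_helper7
  Groth.Agent.Lib.AlgSpPullback_helper7 Groth.Agent.Lib.AlgSpRepBySp_helper7
  Groth.Agent.Lib.AlgSpPoints_helper7 Groth.Agent.Lib.AlgSpLocP_helper7
  Groth.Agent.Lib.AlgSpBasic_helper7 Groth.Agent.Lib.AlgSpSep_helper7
  Groth.Agent.Lib.AlgSpLocP4_helper7 Groth.Agent.Lib.AlgSpLocP5_helper7
  Groth.Agent.Lib.AlgSpLocP7_helper7 Groth.Agent.Lib.AlgSpQC2_helper7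
  Groth.Agent.Lib.AlgSpLocP8_helper7 Groth.Agent.Lib.AlgSpLocP10_helper7
  Groth.Agent.Lib.AlgSpFpqc3_helper7 Groth.Agent.Lib.AlgSpLocP6_helper7
  Groth.Agent.Lib.AlgSpFpqc2_helper7 Groth.Agent.Lib.AlgSpFpqc_helper7
  Groth.Agent.Lib.AlgSpProper_helper7 Groth.Agent.Lib.AlgSpAffineMorH7
  Groth.Agent.Lib.AlgStAtlas Groth.Agent.Lib.AlgStPoints Groth.Agent.Lib.AlgStPtsCmp
  Groth.Agent.Lib.FibCatYoneda_helper6


open Groth.Agent.Lib.AlgSpSmST_helper7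

variable {S : Scheme.{u}}

/-- Finitely many affine opens of `V` suffice to catch a point over every point of a quasi-compact
scheme `B` receiving an open surjection from the source of `a : A ⟶ V`. -/
theorem exists_affine_etale_of_open_surj {A B V : Scheme.{u}} (b : A ⟶ B) (hb : IsOpenMap b)
    (hbs : Surjective b) [CompactSpace B] (a : A ⟶ V) :
    ∃ (W : Scheme.{u}) (i : W ⟶ V), IsAffine W ∧ Etale i ∧
      ∀ y : B, ∃ x : A, b x = y ∧ a x ∈ Set.range i := by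
  let 𝒱 := V.affineCover
  let O : 𝒱.I₀ → Set B := fun j => b '' (a ⁻¹' Set.range (𝒱.f j))
  have hO : ∀ j, IsOpen (O j) := fun j =>
    hb _ ((𝒱.f j).isOpenEmbedding.isOpen_range.preimage a.continuous)
  have hcov : (Set.univ : Set B) ⊆ ⋃ j, O j := by
    intro y _
    obtain ⟨x, rfl⟩ := b.surjective y
    obtain ⟨j, v, hv⟩ := 𝒱.exists_eq (a x)
    exact Set.mem_iUnion.2 ⟨j, x, ⟨v, hv⟩, rfl⟩
  obtain ⟨t, ht⟩ := isCompact_univ.elim_finite_subcover O hO hcov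
  let g : t → Scheme.{u} := fun j => 𝒱.X j.1
  have hg : ∀ j, IsAffine (g j) := fun j => (inferInstance : IsAffine (𝒱.X j.1))
  refine ⟨∐ g, Sigma.desc (fun j : t => 𝒱.f j.1), inferInstance,
    IsZariskiLocalAtSource.sigmaDesc (fun j => (inferInstance : Etale (𝒱.f j.1))), fun y => ?_⟩
  obtain ⟨j, hj, x, ⟨v, hv⟩, rfl⟩ := Set.mem_iUnion₂.1 (ht (Set.mem_univ y))
  refine ⟨x, rfl, Sigma.ι g ⟨j, hj⟩ v, ?_⟩
  rw [← Scheme.Hom.comp_apply, Sigma.ι_desc]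
  exact hv

theorem isSurjective_overMap_of_surjective {U V : Over S} (h : U ⟶ V)
    (hs : Surjective h.left) : AlgSt.IsSurjective (AlgSt.overMap h) := by
  have h1 : AlgSp.IsSurjectiveMor ((AlgSp.yon S).map h) :=
    (repWith_surjective_iff _ (AlgSp.representable_yon_map h)).1
      ((AlgSp.repWith_yon_map_iff @Surjective h).2 hs)
  have h2 : AlgSt.RepByAlgSpWith AlgSp.IsSurjectiveMor (AlgSt.overMap h) :=
    repWith_overMap _ bc_isSurjectiveMor h h1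
  exact (isSurjective_iff_repWith (isFibGrpd_over_forget U) (isFibGrpd_over_forget V) _
    (repByAlgSp1_of_repWith _ h2)).2 h2

theorem isQuasiCompact_of_isEquivOver {𝒜 ℬ : AlgSt.Cat S} (E : 𝒜 ⥤ᵇ ℬ) (hE : IsEquivOver E)
    (h : AlgSt.IsQuasiCompact 𝒜) : AlgSt.IsQuasiCompact ℬ := by
  obtain ⟨U, x, hU, hx, hx'⟩ := h
  exact ⟨U, BasedFunctor.comp x E, hU, repWith_postcomp_equiv _ x E hE hx,
    repWith_postcomp_equiv _ x E hE hx'⟩

section stk

variable {𝒳 𝒴 𝒵 : AlgSt.Cat S}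

/-- An algebraic stack receiving a morphism surjective on points from a quasi-compact scheme is
quasi-compact. -/
theorem isQuasiCompact_of_surj_chart (h𝒳 : AlgSt.IsAlgStack Scheme.fppfPrecoverage 𝒳)
    (U₀ : Over S) (hU₀ : CompactSpace U₀.left) (φ : FibCat.overCat U₀ ⥤ᵇ 𝒳)
    (hφ : AlgSt.IsSurjective φ) : AlgSt.IsQuasiCompact 𝒳 := by
  have hIs : IsoInv (AlgSp.LocP @Smooth : MorphismProperty (AlgSp.Sp S)) :=
    isoInv_locP _ etLocal_smooth
  have hLs : SchemeTestable (AlgSp.LocP @Smooth : MorphismProperty (AlgSp.Sp S)) :=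
    schemeTestable_locP _
  obtain ⟨V, x, hx, hx'⟩ := h𝒳.atlas
  obtain ⟨U', a, x', α, hx'₁, hx'₂, -, -⟩ :=
    exists_good_chart_over (isAlgStack_overCat U₀) h𝒳 φ V x hx
  obtain ⟨b, ⟨ιb⟩⟩ := exists_overMap_iso x'
  have hb₁ : AlgSt.RepByAlgSpWith (AlgSp.LocP @Smooth) (AlgSt.overMap b) :=
    repWith_of_iso _ ιb hx'₁
  have hb₂ : AlgSt.RepByAlgSpWith AlgSp.IsSurjectiveMor (AlgSt.overMap b) :=
    repWith_of_iso _ ιb (hx'₂ hx')
  have sb : Smooth b.left := AlgSp.locP_yon_map (prop_of_repWith_overMap _ hIs hLs b hb₁)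
  have sj : AlgSp.IsSurjectiveMor ((AlgSp.yon S).map b) :=
    prop_of_repWith_overMap _ isoInv_isSurjectiveMor schemeTestable_isSurjectiveMor b hb₂
  have sj' : Surjective b.left :=
    (AlgSp.repWith_yon_map_iff @Surjective b).1
      ((repWith_surjective_iff _ (AlgSp.representable_yon_map b)).2 sj)
  have fb : Flat b.left := smooth_le_flat _ sb
  have pb : LocallyOfFinitePresentation b.left := smooth_le_lfp _ sb
  obtain ⟨W, i, hW, hi, hcov⟩ :=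
    exists_affine_etale_of_open_surj b.left b.left.isOpenMap sj' a.left
  let W' : Over S := Over.mk (i ≫ V.hom)
  let i' : W' ⟶ V := Over.homMk i rfl
  obtain ⟨U'', c, a', sq⟩ : ∃ (U'' : Over S) (c : U'' ⟶ U') (a' : U'' ⟶ W'),
      IsPullback c a' a i' := ⟨_, _, _, IsPullback.of_hasPullback a i'⟩
  have sqS : IsPullback c.left a'.left a.left i'.left := sq.map (Over.forget S)
  have hs : Surjective (c ≫ b).left := by
    refine ⟨fun y => ?_⟩
    obtain ⟨u, hu, w, hw⟩ := hcov y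
    obtain ⟨z, hz, -⟩ := Scheme.exists_preimage_of_isPullback sqS u w hw.symm
    have hz' : c.left z = u := hz
    refine ⟨z, ?_⟩
    show (c.left ≫ b.left) z = y
    rw [Scheme.Hom.comp_apply, hz', hu]
  have hcb : AlgSt.IsSurjective (AlgSt.overMap (c ≫ b)) :=
    isSurjective_overMap_of_surjective _ hs
  have si : Smooth i := inferInstance
  have hi' : AlgSt.RepByAlgSpWith (AlgSp.LocP @Smooth) (AlgSt.overMap i') :=
    repWith_overMap _ (bc_locP _ etLocal_smooth) i'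
      (locP_yon_map_of @Smooth (fun _ _ g (_ : Etale g) => (inferInstance : Smooth g)) i' si)
  have hsm : AlgSt.RepByAlgSpWith (AlgSp.LocP @Smooth)
      (BasedFunctor.comp (AlgSt.overMap i') x) :=
    repWith_comp' (isFibGrpd_over_forget W') (isFibGrpd_over_forget V) _ hIs hLs
      comp_locP_smooth (AlgSt.overMap i') x hi' hx
  have hsurj : AlgSt.IsSurjective (BasedFunctor.comp (AlgSt.overMap i') x) := by
    intro p
    obtain ⟨q, rfl⟩ := hφ p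
    obtain ⟨r, rfl⟩ := hcb q
    refine ⟨AlgSt.Points.map (AlgSt.overMap a') r, ?_⟩
    have e1 : AlgSt.Points.map x' (AlgSt.Points.map (AlgSt.overMap c) r) =
        AlgSt.Points.map (AlgSt.overMap (c ≫ b)) r := by
      rw [overMap_comp, Groth.Agent.Lib.AlgStPoints.map_comp, map_congr_iso ιb]
    have e2 : AlgSt.Points.map x
        (AlgSt.Points.map (AlgSt.overMap a) (AlgSt.Points.map (AlgSt.overMap c) r)) =
        AlgSt.Points.map φ (AlgSt.Points.map x' (AlgSt.Points.map (AlgSt.overMap c) r)) := by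
      rw [← Groth.Agent.Lib.AlgStPoints.map_comp (AlgSt.overMap a) x,
        ← Groth.Agent.Lib.AlgStPoints.map_comp x' φ]
      exact (map_congr_iso α _).symm
    have e3 : AlgSt.Points.map (AlgSt.overMap a) (AlgSt.Points.map (AlgSt.overMap c) r) =
        AlgSt.Points.map (AlgSt.overMap i') (AlgSt.Points.map (AlgSt.overMap a') r) := by
      rw [← Groth.Agent.Lib.AlgStPoints.map_comp (AlgSt.overMap c) (AlgSt.overMap a),
        ← Groth.Agent.Lib.AlgStPoints.map_comp (AlgSt.overMap a') (AlgSt.overMap i'),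
        ← overMap_comp, ← overMap_comp, sq.w]
    rw [Groth.Agent.Lib.AlgStPoints.map_comp, ← e3, e2, e1]
  exact ⟨W', BasedFunctor.comp (AlgSt.overMap i') x, hW, hsm,
    (isSurjective_iff_repWith (isFibGrpd_over_forget W') h𝒳.isStack.1 _
      (repByAlgSp1_of_repWith _ hsm)).1 hsurj⟩

/-- S12858. -/
theorem isQuasiCompact_of_isSurjective {𝒰 : AlgSt.Cat S}
    (h𝒰 : AlgSt.IsAlgStack Scheme.fppfPrecoverage 𝒰)
    (h𝒳 : AlgSt.IsAlgStack Scheme.fppfPrecoverage 𝒳) (f : 𝒰 ⥤ᵇ 𝒳)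
    (hf : AlgSt.IsSurjective f) (h𝒰' : AlgSt.IsQuasiCompact 𝒰) : AlgSt.IsQuasiCompact 𝒳 := by
  obtain ⟨U₀, u₀, hU₀, hu₀, hu₀'⟩ := h𝒰'
  have hu₀s : AlgSt.IsSurjective u₀ :=
    (isSurjective_iff_repWith (isFibGrpd_over_forget U₀) h𝒰.isStack.1 u₀
      (repByAlgSp1_of_repWith _ hu₀')).2 hu₀'
  refine isQuasiCompact_of_surj_chart h𝒳 U₀ inferInstance (BasedFunctor.comp u₀ f) ?_
  intro p
  obtain ⟨q, rfl⟩ := hf p
  obtain ⟨r, rfl⟩ := hu₀s q
  exact ⟨r, Groth.Agent.Lib.AlgStPoints.map_comp _ _ _⟩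

/-- S12857. -/
theorem isQuasiCompact_iff_exists_compact_scheme
    (h𝒳 : AlgSt.IsAlgStack Scheme.fppfPrecoverage 𝒳) :
    AlgSt.IsQuasiCompact 𝒳 ↔
      ∃ (U : Over S) (x : FibCat.overCat U ⥤ᵇ 𝒳), CompactSpace ↥U.left ∧
        AlgSt.RepByAlgSpWith (AlgSp.LocP @Smooth) x ∧
        AlgSt.RepByAlgSpWith AlgSp.IsSurjectiveMor x := by
  constructor
  · rintro ⟨U, x, hU, hx, hx'⟩
    exact ⟨U, x, inferInstance, hx, hx'⟩
  · rintro ⟨U, x, hU, hx, hx'⟩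
    exact isQuasiCompact_of_surj_chart h𝒳 U hU x
      ((isSurjective_iff_repWith (isFibGrpd_over_forget U) h𝒳.isStack.1 x
        (repByAlgSp1_of_repWith _ hx')).2 hx')

/-- S12856. -/
theorem isQuasiCompact_iff_exists_qc_space
    (h𝒳 : AlgSt.IsAlgStack Scheme.fppfPrecoverage 𝒳) :
    AlgSt.IsQuasiCompact 𝒳 ↔
      ∃ (U : AlgSp.Space S) (x : AlgSt.ofSp U.obj ⥤ᵇ 𝒳), AlgSp.IsQuasiCompactSp U.obj ∧
        AlgSt.RepByAlgSpWith (AlgSp.LocP @Smooth) x ∧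
        AlgSt.RepByAlgSpWith AlgSp.IsSurjectiveMor x := by
  constructor
  · rintro ⟨U, x, hU, hx, hx'⟩
    exact ⟨(AlgSp.ofScheme S).obj U, BasedFunctor.comp (AlgSt.toOverCat U) x,
      ⟨U, 𝟙 _, AlgSp.repWith_id _ U, AlgSp.repWith_id _ U, inferInstance⟩,
      repWith_toOverCat_comp _ x hx, repWith_toOverCat_comp _ x hx'⟩
  · rintro ⟨U, x, ⟨T, p, hpe, hps, hT⟩, hx, hx'⟩
    obtain ⟨-, c2⟩ := chart_of_etale_atlas U.obj U.property T p hpe hps
    have hc : AlgSt.RepByAlgSpWith AlgSp.IsSurjectiveMor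
        (BasedFunctor.comp (BasedFunctor.comp (AlgSt.ofOverCat T) (AlgSt.ofSpMap p)) x) :=
      repWith_comp' (isFibGrpd_over_forget T) (Stk.isFibGrpd_ofPsh _) _
        isoInv_isSurjectiveMor schemeTestable_isSurjectiveMor comp_isSurjectiveMor _ x c2 hx'
    exact isQuasiCompact_of_surj_chart h𝒳 T hT _
      ((isSurjective_iff_repWith (isFibGrpd_over_forget T) h𝒳.isStack.1 _
        (repByAlgSp1_of_repWith _ hc)).2 hc)

/-- S12983. -/
theorem isQuasiCompactMor_comp (h𝒳 : AlgSt.IsAlgStack Scheme.fppfPrecoverage 𝒳)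
    (h𝒴 : AlgSt.IsAlgStack Scheme.fppfPrecoverage 𝒴)
    (h𝒵 : AlgSt.IsAlgStack Scheme.fppfPrecoverage 𝒵) (f : 𝒳 ⥤ᵇ 𝒴) (g : 𝒴 ⥤ᵇ 𝒵)
    (hf : AlgSt.IsQuasiCompactMor Scheme.fppfPrecoverage f)
    (hg : AlgSt.IsQuasiCompactMor Scheme.fppfPrecoverage g) :
    AlgSt.IsQuasiCompactMor Scheme.fppfPrecoverage (BasedFunctor.comp f g) := by
  intro 𝒯 h𝒯 hq t
  have h1 : AlgSt.IsQuasiCompact (fp t g) := hg 𝒯 h𝒯 hq t
  have h1' : AlgSt.IsQuasiCompact (fp g t) :=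
    isQuasiCompact_of_isEquivOver (swap t g) (swap_isEquivOver t g) h1
  have hst' : AlgSt.IsAlgStack Scheme.fppfPrecoverage (fp g t) :=
    isAlgStack_fp h𝒵.isStack h𝒵.diag h𝒴 h𝒯 g t
  have h2 : AlgSt.IsQuasiCompact (fp (fpFst g t) f) := hf (fp g t) hst' h1' (fpFst g t)
  obtain ⟨D, ⟨ηD⟩, ⟨ζD⟩⟩ := paste_isEquivOver f g t
  have hD : IsEquivOver D := isEquivOver_inverse ηD ζD
  exact isQuasiCompact_of_isEquivOver _
    (isEquivOver_comp (swap_isEquivOver (fpFst g t) f)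
      (isEquivOver_comp hD (swap_isEquivOver (BasedFunctor.comp f g) t))) h2

/-- S12985. -/
theorem isQuasiCompactMor_of_triangle (h𝒳 : AlgSt.IsAlgStack Scheme.fppfPrecoverage 𝒳)
    (h𝒴 : AlgSt.IsAlgStack Scheme.fppfPrecoverage 𝒴)
    (h𝒵 : AlgSt.IsAlgStack Scheme.fppfPrecoverage 𝒵) (f : 𝒳 ⥤ᵇ 𝒴) (p : 𝒳 ⥤ᵇ 𝒵) (q : 𝒴 ⥤ᵇ 𝒵)
    (e : BasedFunctor.comp f q ≅ p) (hf : AlgSt.IsSurjective f)
    (hp : AlgSt.IsQuasiCompactMor Scheme.fppfPrecoverage p) :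
    AlgSt.IsQuasiCompactMor Scheme.fppfPrecoverage q := by
  intro 𝒯 h𝒯 hq t
  have h1 : AlgSt.IsQuasiCompact (fp t p) := hp 𝒯 h𝒯 hq t
  have hE : IsEquivOver (BasedFunctor.comp (isoFun t e.symm)
      (BasedFunctor.comp (swap t (BasedFunctor.comp f q))
        (BasedFunctor.comp (paste f q t) (swap f (fpFst q t))))) :=
    isEquivOver_comp (isoFun_isEquivOver t e.symm)
      (isEquivOver_comp (swap_isEquivOver t (BasedFunctor.comp f q))
        (isEquivOver_comp (paste_isEquivOver f q t) (swap_isEquivOver f (fpFst q t))))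
  have h2 : AlgSt.IsQuasiCompact (fp (fpFst q t) f) := isQuasiCompact_of_isEquivOver _ hE h1
  have hqt : AlgSt.IsAlgStack Scheme.fppfPrecoverage (fp q t) :=
    isAlgStack_fp h𝒵.isStack h𝒵.diag h𝒴 h𝒯 q t
  have hqtf : AlgSt.IsAlgStack Scheme.fppfPrecoverage (fp (fpFst q t) f) :=
    isAlgStack_fp h𝒴.isStack h𝒴.diag hqt h𝒳 (fpFst q t) f
  have hs : AlgSt.IsSurjective (fpFst (fpFst q t) f) :=
    surjective_fpFst h𝒳.isStack.1 h𝒴.isStack.1 hqt.isStack.1 f (fpFst q t) hf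
  have h3 : AlgSt.IsQuasiCompact (fp q t) :=
    isQuasiCompact_of_isSurjective hqtf hqt (fpFst (fpFst q t) f) hs h2
  exact isQuasiCompact_of_isEquivOver (swap q t) (swap_isEquivOver q t) h3

end stk

end Groth.Agent.Lib.AlgStLocQ
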