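import Groth.Agent.Lib.AlgStDiag2_lead
import Groth.Agent.Lib.AlgStDiagLFT_lead
import Groth.Agent.Lib.AlgSpUCQC_lead

/-! # Universally closed first and second diagonals imply separated (lead) -/


set_option autoImplicit false

universe w v₁ v₂ v₃ v₄ v₅ v₆ u₁ u₂ u₃ u₄ u₅ u₆ u

open CategoryTheory CategoryTheory.Limits AlgebraicGeometry Opposite FibCat Stk

namespace Groth.Agent.Lib.AlgStLocQ

open AlgSt Groth.Agent.Lib.FibCat_helper6 Groth.Agent.Lib.FibCat3_helper6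
  Groth.Agent.Lib.FibCat14_helper6 Groth.Agent.Lib.FibCat12_helper6
  Groth.Agent.Lib.FibCatPaste Groth.Agent.Lib.FibCatSwap
  Groth.Agent.Lib.FibCatIsoFun
  Groth.Agent.Lib.OfPshCalc Groth.Agent.Lib.AlgStBC
  Groth.Agent.Lib.AlgStEquiv Groth.Agent.Lib.AlgStEquivP Groth.Agent.Lib.AlgStEquivInv
  Groth.Agent.Lib.OfPshAlgSt Groth.Agent.Lib.LiftSqBC Groth.Agent.Lib.LiftSqComp
  Groth.Agent.Lib.OfPshWith Groth.Agent.Lib.FibCatDiagSec Groth.Agent.Lib.AlgStDiagRep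
  Groth.Agent.Lib.FibCatDiagBC Groth.Agent.Lib.FibCatMagic Groth.Agent.Lib.FibCatProd
  Groth.Agent.Lib.AlgStDiag Groth.Agent.Lib.AlgStLocal
  Groth.Agent.Lib.AlgSpQC_helper7 Groth.Agent.Lib.AlgSpDiag_helper7
  Groth.Agent.Lib.AlgSpPullback_helper7 Groth.Agent.Lib.AlgSpRepBySp_helper7
  Groth.Agent.Lib.AlgSpPoints_helper7 Groth.Agent.Lib.AlgSpLocP_helper7
  Groth.Agent.Lib.AlgSpBasic_helper7 Groth.Agent.Lib.AlgSpSep_helper7
  Groth.Agent.Lib.AlgSpLocP4_helper7 Groth.Agent.Lib.AlgSpLocP5_helper7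
  Groth.Agent.Lib.AlgSpLocP7_helper7 Groth.Agent.Lib.AlgSpQC2_helper7
  Groth.Agent.Lib.AlgSpLocP8_helper7 Groth.Agent.Lib.AlgSpLocP10_helper7
  Groth.Agent.Lib.AlgSpFpqc3_helper7 Groth.Agent.Lib.AlgSpLocP6_helper7
  Groth.Agent.Lib.AlgSpFpqc2_helper7 Groth.Agent.Lib.AlgSpFpqc_helper7
  Groth.Agent.Lib.AlgSpProper_helper7 Groth.Agent.Lib.AlgSpAffineMorH7
  Groth.Agent.Lib.AlgStAtlas Groth.Agent.Lib.AlgStPoints Groth.Agent.Lib.AlgStPtsCmp
  Groth.Agent.Lib.FibCatYoneda_helper6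



variable {S : Scheme.{u}}

variable {𝒳 𝒴 : AlgSt.Cat S}

/-- S12979. -/
theorem isSeparatedMor_of_univClosed_diag_diag
    (h𝒳 : AlgSt.IsAlgStack Scheme.fppfPrecoverage 𝒳)
    (h𝒴 : AlgSt.IsAlgStack Scheme.fppfPrecoverage 𝒴) (f : 𝒳 ⥤ᵇ 𝒴)
    (h1 : AlgSt.RepByAlgSpWith AlgSp.IsUnivClosedMor (FibCat.diag f))
    (h2 : AlgSt.RepByAlgSpWith AlgSp.IsUnivClosedMor (FibCat.diag (FibCat.diag f))) :
    AlgSt.IsSeparatedMor f := by
  have hlft := locP_lft_diag h𝒳 h𝒴 f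
  intro U y
  obtain ⟨F, e, he, huc⟩ := h1 U y
  have hs : AlgSp.IsSeparatedMor (AlgSt.spMapOfOver (BasedFunctor.comp e (fpFst y (FibCat.diag f)))) :=
    isSeparatedMor_of_isUnivClosedMor_diagonal F.property _
      (diagonal_prop_of_repWith_diag' _ isoInv_univClosed schemeTestable_univClosed (FibCat.diag f)
        h2 U y F e he)
  have hl : AlgSp.LocP @LocallyOfFiniteType
      (AlgSt.spMapOfOver (BasedFunctor.comp e (fpFst y (FibCat.diag f)))) :=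
    prop_of_repWith_of_equiv _ (isoInv_locP _ etLocal_locallyOfFiniteType) (schemeTestable_locP _)
      (FibCat.diag f) hlft y F e he
  have hq : AlgSp.IsQuasiCompactMor
      (AlgSt.spMapOfOver (BasedFunctor.comp e (fpFst y (FibCat.diag f)))) :=
    Groth.Agent.Lib.AlgSpUCQC.isQuasiCompactMor_of_isUnivClosedMor F.property
      (AlgSp.IsAlgSpace.yon_obj U) _ huc
  exact ⟨F, e, he, hs, ⟨hl, hq⟩, huc⟩

end Groth.Agent.Lib.AlgStLocQ
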