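import Groth.Agent.Lib.AlgStLocQ4_lead
import Mathlib.AlgebraicGeometry.Sites.MorphismProperty

/-!
# Properties of algebraic stacks read smooth locally (lead)
-/

set_option autoImplicit false

universe w v₁ v₂ v₃ v₄ v₅ v₆ u₁ u₂ u₃ u₄ u₅ u₆ u

open CategoryTheory CategoryTheory.Limits AlgebraicGeometry Opposite FibCat Stk

namespace Groth.Agent.Lib.AlgStLocQ

open AlgSt Groth.Agent.Lib.FibCat_helper6 Groth.Agent.Lib.FibCat3_helper6
  Groth.Agent.Lib.FibCat14_helper6 Groth.Agent.Lib.FibCat12_helper6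
  Groth.Agent.Lib.FibCatPaste Groth.Agent.Lib.FibCatSwap
  Groth.Agent.Lib.FibCatIsoFun
  Groth.Agent.Lib.OfPshCalc Groth.Agent.Lib.AlgStBC
  Groth.Agent.Lib.AlgStEquiv Groth.Agent.Lib.AlgStEquivP Groth.Agent.Lib.AlgStEquivInv
  Groth.Agent.Lib.OfPshAlgSt Groth.Agent.Lib.LiftSqBC Groth.Agent.Lib.LiftSqComp
  Groth.Agent.Lib.OfPshWith Groth.Agent.Lib.FibCatDiagSec Groth.Agent.Lib.AlgStDiagRep
  Groth.Agent.Lib.FibCatDiagBC Groth.Agent.Lib.FibCatMagic Groth.Agent.Lib.FibCatProd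
  Groth.Agent.Lib.AlgStDiag Groth.Agent.Lib.AlgStLocal
  Groth.Agent.Lib.AlgSpQC_helper7 Groth.Agent.Lib.AlgSpDiag_helper7
  Groth.Agent.Lib.AlgSpPullback_helper7 Groth.Agent.Lib.AlgSpRepBySp_helper7
  Groth.Agent.Lib.AlgSpPoints_helper7 Groth.Agent.Lib.AlgSpLocP_helper7
  Groth.Agent.Lib.AlgSpBasic_helper7 Groth.Agent.Lib.AlgSpSep_helper7
  Groth.Agent.Lib.AlgSpLocP4_helper7 Groth.Agent.Lib.AlgSpLocP5_helper7
  Groth.Agent.Lib.AlgSpLocP7_helper7 Groth.Agent.Lib.AlgSpQC2_helper7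
  Groth.Agent.Lib.AlgSpLocP8_helper7 Groth.Agent.Lib.AlgSpLocP10_helper7
  Groth.Agent.Lib.AlgSpFpqc3_helper7 Groth.Agent.Lib.AlgSpLocP6_helper7
  Groth.Agent.Lib.AlgSpFpqc2_helper7 Groth.Agent.Lib.AlgSpFpqc_helper7
  Groth.Agent.Lib.AlgSpProper_helper7 Groth.Agent.Lib.AlgSpAffineMorH7
  Groth.Agent.Lib.AlgStAtlas Groth.Agent.Lib.AlgStPoints Groth.Agent.Lib.AlgStPtsCmp
  Groth.Agent.Lib.FibCatYoneda_helper6


open Groth.Agent.Lib.AlgSpSmST_helper7

variable {S : Scheme.{u}}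

theorem prop_of_cover_of_local (P : Scheme.{u} → Prop)
    (hP : ∀ (U : Scheme.{u}) (R : Presieve U), R ∈ Scheme.precoverage @Smooth U →
      (P U ↔ ∀ ⦃V : Scheme.{u}⦄ (g : V ⟶ U), R g → P V))
    {A T : Scheme.{u}} (b : A ⟶ T) (hb : Smooth b) (hb' : Surjective b) (h : P A) : P T := by
  have hmem : Presieve.ofArrows (fun _ : PUnit.{1} => A) (fun _ => b) ∈
      Scheme.precoverage @Smooth T :=
    (Scheme.ofArrows_mem_precoverage_iff (P := @Smooth)).2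
      ⟨fun x => ⟨PUnit.unit, b.surjective x⟩, fun _ => hb⟩
  refine (hP T _ hmem).2 (fun V g hg => ?_)
  cases hg
  exact h

theorem prop_of_smooth_of_local (P : Scheme.{u} → Prop)
    (hP : ∀ (U : Scheme.{u}) (R : Presieve U), R ∈ Scheme.precoverage @Smooth U →
      (P U ↔ ∀ ⦃V : Scheme.{u}⦄ (g : V ⟶ U), R g → P V))
    {A T : Scheme.{u}} (a : A ⟶ T) (ha : Smooth a) (h : P T) : P A := by
  let X : Bool → Scheme.{u} := fun i => bif i then A else T
  let f : ∀ i, X i ⟶ T := fun i => match i with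
    | true => a
    | false => 𝟙 T
  have hmem : Presieve.ofArrows X f ∈ Scheme.precoverage @Smooth T :=
    (Scheme.ofArrows_mem_precoverage_iff (P := @Smooth)).2
      ⟨fun x => ⟨false, x, by
          show (𝟙 T : T ⟶ T) x = x
          simp⟩,
        fun i => match i with
          | true => ha
          | false => (inferInstance : Smooth (𝟙 T))⟩
  exact (hP T _ hmem).1 h (f true) (Presieve.ofArrows.mk true)

theorem repWith_ofSpMap_of (P : MorphismProperty (AlgSp.Sp S))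
    (hPb : ∀ ⦃X₁ Y₁ X₂ Y₂ : AlgSp.Sp S⦄, AlgSp.IsAlgSpace X₁ → AlgSp.IsAlgSpace Y₁ →
      AlgSp.IsAlgSpace X₂ → AlgSp.IsAlgSpace Y₂ →
      ∀ (a : X₁ ⟶ Y₁) (b : Y₂ ⟶ Y₁) (a' : X₂ ⟶ Y₂) (b' : X₂ ⟶ X₁),
      IsPullback b' a' a b → P a → P a')
    {V Z : AlgSp.Sp S} (hV : AlgSp.IsAlgSpace V) (hZ : AlgSp.IsAlgSpace Z) (a : V ⟶ Z)
    (ha : P a) : AlgSt.RepByAlgSpWith P (AlgSt.ofSpMap a) :=
  repByAlgSpWith_of_repBySpWith P _ (repBySpWith_of_bc P hPb hV hZ a ha)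

theorem repWith_ofOverCat (P : MorphismProperty (AlgSp.Sp S))
    (hPb : ∀ ⦃X₁ Y₁ X₂ Y₂ : AlgSp.Sp S⦄, AlgSp.IsAlgSpace X₁ → AlgSp.IsAlgSpace Y₁ →
      AlgSp.IsAlgSpace X₂ → AlgSp.IsAlgSpace Y₂ →
      ∀ (a : X₁ ⟶ Y₁) (b : Y₂ ⟶ Y₁) (a' : X₂ ⟶ Y₂) (b' : X₂ ⟶ X₁),
      IsPullback b' a' a b → P a → P a')
    (hid : ∀ X : AlgSp.Sp S, P (𝟙 X)) (U : Over S) :
    AlgSt.RepByAlgSpWith P (AlgSt.ofOverCat U) :=
  repWith_cancel_equiv P (AlgSt.toOverCat U) (toOverCat_isEquivOver U) (AlgSt.ofOverCat U)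
    (repWith_id P hPb hid ((AlgSp.ofScheme S).obj U))

/-- An étale atlas of an algebraic space, as a smooth surjective chart of its stack. -/
theorem chart_of_etale_atlas (X : AlgSp.Sp S) (hX : AlgSp.IsAlgSpace X) (T : Over S)
    (p : (AlgSp.yon S).obj T ⟶ X) (hpe : AlgSp.RepWith @Etale p)
    (hps : AlgSp.RepWith @Surjective p) :
    AlgSt.RepByAlgSpWith (AlgSp.LocP @Smooth)
      (BasedFunctor.comp (AlgSt.ofOverCat T) (AlgSt.ofSpMap p)) ∧
    AlgSt.RepByAlgSpWith AlgSp.IsSurjectiveMor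
      (BasedFunctor.comp (AlgSt.ofOverCat T) (AlgSt.ofSpMap p)) := by
  have hIs : IsoInv (AlgSp.LocP @Smooth : MorphismProperty (AlgSp.Sp S)) :=
    isoInv_locP _ etLocal_smooth
  have hLs : SchemeTestable (AlgSp.LocP @Smooth : MorphismProperty (AlgSp.Sp S)) :=
    schemeTestable_locP _
  have hT : IsFibGrpd (FibCat.overCat T).p := isFibGrpd_over_forget T
  have hTs : IsFibGrpd (AlgSt.ofSp ((AlgSp.yon S).obj T)).p := Stk.isFibGrpd_ofPsh _
  have hp₁ : AlgSp.LocP @Smooth p :=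
    locP_of_repWith @Smooth (fun _ _ g (_ : Etale g) => (inferInstance : Smooth g)) p
      (repWith_mono (fun _ _ g (_ : Etale g) => (inferInstance : Smooth g)) hpe)
  have hp₂ : AlgSp.IsSurjectiveMor p := isSurjectiveMor_of_repWith p hps
  constructor
  · exact repWith_comp' hT hTs _ hIs hLs comp_locP_smooth (AlgSt.ofOverCat T) (AlgSt.ofSpMap p)
      (repWith_ofOverCat _ (bc_locP _ etLocal_smooth) locP_smooth_id T)
      (repWith_ofSpMap_of _ (bc_locP _ etLocal_smooth) (AlgSp.IsAlgSpace.yon_obj T) hX p hp₁)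
  · exact repWith_comp' hT hTs _ isoInv_isSurjectiveMor schemeTestable_isSurjectiveMor
      comp_isSurjectiveMor (AlgSt.ofOverCat T) (AlgSt.ofSpMap p)
      (repWith_ofOverCat _ bc_isSurjectiveMor isSurjectiveMor_id T)
      (repWith_ofSpMap_of _ bc_isSurjectiveMor (AlgSp.IsAlgSpace.yon_obj T) hX p hp₂)

section stk

variable {𝒳 : AlgSt.Cat S}

/-- A smooth-local property of schemes which holds on one smooth surjective chart holds on every
smooth chart. -/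
theorem smoothLocally_transfer (h𝒳 : AlgSt.IsAlgStack Scheme.fppfPrecoverage 𝒳)
    (P : Scheme.{u} → Prop)
    (hP : ∀ (U : Scheme.{u}) (R : Presieve U), R ∈ Scheme.precoverage @Smooth U →
      (P U ↔ ∀ ⦃V : Scheme.{u}⦄ (g : V ⟶ U), R g → P V))
    (U₁ : Over S) (x₁ : FibCat.overCat U₁ ⥤ᵇ 𝒳)
    (hx₁ : AlgSt.RepByAlgSpWith (AlgSp.LocP @Smooth) x₁)
    (hx₁' : AlgSt.RepByAlgSpWith AlgSp.IsSurjectiveMor x₁) (hP₁ : P U₁.left) :
    AlgSt.SmoothLocally P 𝒳 := by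
  intro U x hx
  have hIs : IsoInv (AlgSp.LocP @Smooth : MorphismProperty (AlgSp.Sp S)) :=
    isoInv_locP _ etLocal_smooth
  have hLs : SchemeTestable (AlgSp.LocP @Smooth : MorphismProperty (AlgSp.Sp S)) :=
    schemeTestable_locP _
  have hUfib : IsFibGrpd (FibCat.overCat U).p := isFibGrpd_over_forget U
  have hU₁fib : IsFibGrpd (FibCat.overCat U₁).p := isFibGrpd_over_forget U₁
  obtain ⟨U', a, x', α, hx'₁, hx'₂, hℓ, -⟩ :=
    exists_good_chart_over (isAlgStack_overCat U) h𝒳 x U₁ x₁ hx₁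
  have hU'fib : IsFibGrpd (FibCat.overCat U').p := isFibGrpd_over_forget U'
  have hfib : IsFibGrpd (fp x x₁).p := isFibGrpd_fp x x₁ hUfib hU₁fib h𝒳.isStack.1
  have ha : AlgSt.RepByAlgSpWith (AlgSp.LocP @Smooth) (AlgSt.overMap a) :=
    repWith_comp' hU'fib hfib _ hIs hLs comp_locP_smooth (fpLift x' (AlgSt.overMap a) α)
      (fpSnd x x₁) hℓ (repWith_fpSnd _ x x₁ hx)
  have sa : Smooth a.left := AlgSp.locP_yon_map (prop_of_repWith_overMap _ hIs hLs a ha)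
  have PU' : P U'.left := prop_of_smooth_of_local P hP a.left sa hP₁
  obtain ⟨b, ⟨ιb⟩⟩ := exists_overMap_iso x'
  have hb₁ : AlgSt.RepByAlgSpWith (AlgSp.LocP @Smooth) (AlgSt.overMap b) :=
    repWith_of_iso _ ιb hx'₁
  have hb₂ : AlgSt.RepByAlgSpWith AlgSp.IsSurjectiveMor (AlgSt.overMap b) :=
    repWith_of_iso _ ιb (hx'₂ hx₁')
  have sb : Smooth b.left := AlgSp.locP_yon_map (prop_of_repWith_overMap _ hIs hLs b hb₁)
  have sj : AlgSp.IsSurjectiveMor ((AlgSp.yon S).map b) :=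
    prop_of_repWith_overMap _ isoInv_isSurjectiveMor schemeTestable_isSurjectiveMor b hb₂
  have sj' : Surjective b.left :=
    (AlgSp.repWith_yon_map_iff @Surjective b).1
      ((repWith_surjective_iff _ (AlgSp.representable_yon_map b)).2 sj)
  exact prop_of_cover_of_local P hP b.left sb sj' PU'

/-- S12846. -/
theorem smoothLocally_iff_exists_chart (h𝒳 : AlgSt.IsAlgStack Scheme.fppfPrecoverage 𝒳)
    (P : Scheme.{u} → Prop)
    (hP : ∀ (U : Scheme.{u}) (R : Presieve U), R ∈ Scheme.precoverage @Smooth U →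
      (P U ↔ ∀ ⦃V : Scheme.{u}⦄ (g : V ⟶ U), R g → P V)) :
    AlgSt.SmoothLocally P 𝒳 ↔
      ∃ (U : Over S) (x : FibCat.overCat U ⥤ᵇ 𝒳),
        AlgSt.RepByAlgSpWith (AlgSp.LocP @Smooth) x ∧
        AlgSt.RepByAlgSpWith AlgSp.IsSurjectiveMor x ∧ P U.left := by
  constructor
  · intro H
    obtain ⟨U, x, hx, hx'⟩ := h𝒳.atlas
    exact ⟨U, x, hx, hx', H U x hx⟩
  · rintro ⟨U, x, hx, hx', hPU⟩
    exact smoothLocally_transfer h𝒳 P hP U x hx hx' hPU

/-- S12852. -/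
theorem smoothLocally_iff_forall_space (h𝒳 : AlgSt.IsAlgStack Scheme.fppfPrecoverage 𝒳)
    (P : Scheme.{u} → Prop)
    (hP : ∀ (U : Scheme.{u}) (R : Presieve U), R ∈ Scheme.precoverage @Smooth U →
      (P U ↔ ∀ ⦃V : Scheme.{u}⦄ (g : V ⟶ U), R g → P V)) :
    AlgSt.SmoothLocally P 𝒳 ↔
      ∀ (U : AlgSp.Space S) (x : AlgSt.ofSp U.obj ⥤ᵇ 𝒳),
        AlgSt.RepByAlgSpWith (AlgSp.LocP @Smooth) x → AlgSp.EtaleLocally P U.obj := by
  have hIs : IsoInv (AlgSp.LocP @Smooth : MorphismProperty (AlgSp.Sp S)) :=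
    isoInv_locP _ etLocal_smooth
  have hLs : SchemeTestable (AlgSp.LocP @Smooth : MorphismProperty (AlgSp.Sp S)) :=
    schemeTestable_locP _
  constructor
  · intro H U x hx
    obtain ⟨T, p, hpe, hps⟩ := U.property.atlas
    obtain ⟨c1, -⟩ := chart_of_etale_atlas U.obj U.property T p hpe hps
    refine ⟨T, p, hpe, hps,
      H T (BasedFunctor.comp (BasedFunctor.comp (AlgSt.ofOverCat T) (AlgSt.ofSpMap p)) x) ?_⟩
    exact repWith_comp' (isFibGrpd_over_forget T) (Stk.isFibGrpd_ofPsh _) _ hIs hLs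
      comp_locP_smooth _ x c1 hx
  · intro H U x hx
    obtain ⟨T, p, hpe, hps, hPT⟩ := H ((AlgSp.ofScheme S).obj U)
      (BasedFunctor.comp (AlgSt.toOverCat U) x) (repWith_toOverCat_comp _ x hx)
    obtain ⟨g, rfl⟩ := (AlgSp.yon S).map_surjective p
    have ge : Etale g.left := (AlgSp.repWith_yon_map_iff @Etale g).1 hpe
    have gs : Surjective g.left := (AlgSp.repWith_yon_map_iff @Surjective g).1 hps
    exact prop_of_cover_of_local P hP g.left inferInstance gs hPT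

/-- S12853. -/
theorem smoothLocally_iff_exists_space (h𝒳 : AlgSt.IsAlgStack Scheme.fppfPrecoverage 𝒳)
    (P : Scheme.{u} → Prop)
    (hP : ∀ (U : Scheme.{u}) (R : Presieve U), R ∈ Scheme.precoverage @Smooth U →
      (P U ↔ ∀ ⦃V : Scheme.{u}⦄ (g : V ⟶ U), R g → P V)) :
    AlgSt.SmoothLocally P 𝒳 ↔
      ∃ (U : AlgSp.Space S) (x : AlgSt.ofSp U.obj ⥤ᵇ 𝒳),
        AlgSt.RepByAlgSpWith (AlgSp.LocP @Smooth) x ∧
        AlgSt.RepByAlgSpWith AlgSp.IsSurjectiveMor x ∧ AlgSp.EtaleLocally P U.obj := by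
  have hIs : IsoInv (AlgSp.LocP @Smooth : MorphismProperty (AlgSp.Sp S)) :=
    isoInv_locP _ etLocal_smooth
  have hLs : SchemeTestable (AlgSp.LocP @Smooth : MorphismProperty (AlgSp.Sp S)) :=
    schemeTestable_locP _
  constructor
  · intro H
    obtain ⟨U, x, hx, hx'⟩ := h𝒳.atlas
    exact ⟨(AlgSp.ofScheme S).obj U, BasedFunctor.comp (AlgSt.toOverCat U) x,
      repWith_toOverCat_comp _ x hx, repWith_toOverCat_comp _ x hx',
      ⟨U, 𝟙 _, AlgSp.repWith_id _ U, AlgSp.repWith_id _ U, H U x hx⟩⟩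
  · rintro ⟨U, x, hx, hx', ⟨T, p, hpe, hps, hPT⟩⟩
    obtain ⟨c1, c2⟩ := chart_of_etale_atlas U.obj U.property T p hpe hps
    refine smoothLocally_transfer h𝒳 P hP T
      (BasedFunctor.comp (BasedFunctor.comp (AlgSt.ofOverCat T) (AlgSt.ofSpMap p)) x) ?_ ?_ hPT
    · exact repWith_comp' (isFibGrpd_over_forget T) (Stk.isFibGrpd_ofPsh _) _ hIs hLs
        comp_locP_smooth _ x c1 hx
    · exact repWith_comp' (isFibGrpd_over_forget T) (Stk.isFibGrpd_ofPsh _) _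
        isoInv_isSurjectiveMor schemeTestable_isSurjectiveMor comp_isSurjectiveMor _ x c2 hx'

end stk

/-- S12854. -/
theorem smoothLocally_ofSch_iff (U : Over S) (P : Scheme.{u} → Prop)
    (hP : ∀ (U : Scheme.{u}) (R : Presieve U), R ∈ Scheme.precoverage @Smooth U →
      (P U ↔ ∀ ⦃V : Scheme.{u}⦄ (g : V ⟶ U), R g → P V)) :
    AlgSt.SmoothLocally P (AlgSt.ofSch U) ↔ P U.left := by
  have o₁ : AlgSt.RepByAlgSpWith (AlgSp.LocP @Smooth) (AlgSt.ofOverCat U) :=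
    repWith_ofOverCat _ (bc_locP _ etLocal_smooth) locP_smooth_id U
  have o₂ : AlgSt.RepByAlgSpWith AlgSp.IsSurjectiveMor (AlgSt.ofOverCat U) :=
    repWith_ofOverCat _ bc_isSurjectiveMor isSurjectiveMor_id U
  constructor
  · intro H
    exact H U (AlgSt.ofOverCat U) o₁
  · intro h
    exact smoothLocally_transfer (isAlgStack_ofSp ((AlgSp.ofScheme S).obj U)) P hP U
      (AlgSt.ofOverCat U) o₁ o₂ h

/-- S12855. -/
theorem smoothLocally_ofSp_iff (X : AlgSp.Space S) (P : Scheme.{u} → Prop)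
    (hP : ∀ (U : Scheme.{u}) (R : Presieve U), R ∈ Scheme.precoverage @Smooth U →
      (P U ↔ ∀ ⦃V : Scheme.{u}⦄ (g : V ⟶ U), R g → P V)) :
    AlgSt.SmoothLocally P (AlgSt.ofSp X.obj) ↔ AlgSp.EtaleLocally P X.obj := by
  constructor
  · intro H
    obtain ⟨T, p, hpe, hps⟩ := X.property.atlas
    obtain ⟨c1, -⟩ := chart_of_etale_atlas X.obj X.property T p hpe hps
    exact ⟨T, p, hpe, hps, H T _ c1⟩
  · rintro ⟨T, p, hpe, hps, hPT⟩
    obtain ⟨c1, c2⟩ := chart_of_etale_atlas X.obj X.property T p hpe hps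
    exact smoothLocally_transfer (isAlgStack_ofSp X) P hP T _ c1 c2 hPT

end Groth.Agent.Lib.AlgStLocQ
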