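import Groth.Agent.Lib.SchSrcLocal2_helper7
import Mathlib.RingTheory.Smooth.StandardSmoothOfFree
import Mathlib.RingTheory.Extension.Presentation.Core
import Mathlib.RingTheory.Smooth.Flat
import Mathlib.RingTheory.Kaehler.JacobiZariski
import Mathlib.RingTheory.Flat.EquationalCriterion
import Mathlib.RingTheory.Flat.FaithfullyFlat.Algebra
import Mathlib.RingTheory.Derivation.ToSquareZero
import Mathlib.RingTheory.Smooth.Kaehler
import Mathlib.AlgebraicGeometry.Morphisms.Smooth
import Mathlib.AlgebraicGeometry.Morphisms.Flat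

/-! # Smoothness descends along smooth coverings of the source (lead)

Ring level: if `S → T` is smooth and faithfully flat, `R → S` is of finite presentation and
`R → T` is formally smooth, then `R → S` is formally smooth.  The vanishing of `H¹(L_{S/R})` is
proved by deforming (pieces of) `T` over the square-zero extension `P/I² → S` (`P` a polynomial
ring) and splitting the deformation with the formal smoothness of `T` over `R`.
-/

set_option autoImplicit false
universe u
open TensorProduct CategoryTheory AlgebraicGeometry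

namespace Groth.Agent.Lib.SmoothSrcDesc

theorem mem_smul_top_of_one_tmul_eq_zero {B S M : Type*} [CommRing B] [CommRing S] [Algebra B S]
    [AddCommGroup M] [Module B M] (hs : Function.Surjective (algebraMap B S)) (x : M)
    (h : (1 : S) ⊗ₜ[B] x = 0) :
    x ∈ (RingHom.ker (algebraMap B S)) • (⊤ : Submodule B M) := by
  let f : B →ₗ[B] S := Algebra.linearMap B S
  have hf : Function.Surjective f := hs
  have hex : Function.Exact (LinearMap.ker f).subtype f := f.exact_subtype_ker_map
  have hex' := rTensor_exact M hex hf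
  have h1 : (f.rTensor M) ((1 : B) ⊗ₜ[B] x) = 0 := by
    rw [LinearMap.rTensor_tmul]
    show (algebraMap B S 1) ⊗ₜ[B] x = 0
    rw [map_one]
    exact h
  obtain ⟨z, hz⟩ := (hex' _).mp h1
  have key : ∀ z : (LinearMap.ker f) ⊗[B] M,
      TensorProduct.lid B M (((LinearMap.ker f).subtype.rTensor M) z) ∈
        (RingHom.ker (algebraMap B S)) • (⊤ : Submodule B M) := by
    intro z
    induction z with
    | zero => simp
    | tmul k m =>
      rw [LinearMap.rTensor_tmul, TensorProduct.lid_tmul]
      refine Submodule.smul_mem_smul ?_ Submodule.mem_top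
      have hk := k.2
      rw [LinearMap.mem_ker] at hk
      exact RingHom.mem_ker.mpr hk
    | add a b ha hb =>
      rw [map_add, map_add]
      exact add_mem ha hb
  have h2 := key z
  rw [hz, TensorProduct.lid_tmul, one_smul] at h2
  exact h2

/-- The annihilator of an element, as an ideal. -/
def annIdeal {B : Type*} [CommRing B] (n : B) : Ideal B :=
  LinearMap.ker (LinearMap.toSpanSingleton B B n)

theorem mem_annIdeal {B : Type*} [CommRing B] {n b : B} : b ∈ annIdeal n ↔ b * n = 0 := by
  simp [annIdeal, LinearMap.mem_ker, LinearMap.toSpanSingleton_apply]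

section deform

variable {R B S T' : Type u} [CommRing R] [CommRing B] [CommRing S] [CommRing T']
  [Algebra R B] [Algebra R S] [Algebra B S] [IsScalarTower R B S]
  [Algebra S T'] [Algebra R T'] [IsScalarTower R S T']
  [Algebra B T'] [IsScalarTower B S T'] [IsScalarTower R B T']
  {ι σ : Type} [Finite ι] [Finite σ] (P : Algebra.SubmersivePresentation S T' ι σ)
  [P.HasCoeffs B]

/-- The projection from the model over `B` onto `T'`. -/
noncomputable def modelProj : P.toPresentation.ModelOfHasCoeffs B →ₐ[B] T' :=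
  Ideal.Quotient.liftₐ _ (MvPolynomial.aeval P.val) (by
    simp_rw [← RingHom.mem_ker, ← SetLike.le_def, Ideal.span_le]
    rintro a ⟨i, rfl⟩
    simp)

theorem modelProj_mk (y : MvPolynomial ι B) :
    modelProj P (Ideal.Quotient.mk _ y) = MvPolynomial.aeval P.val y := rfl

theorem equiv_one_tmul (x : P.toPresentation.ModelOfHasCoeffs B) :
    P.toPresentation.tensorModelOfHasCoeffsEquiv B ((1 : S) ⊗ₜ[B] x) = modelProj P x := by
  obtain ⟨y, rfl⟩ := Ideal.Quotient.mk_surjective x
  have h := Algebra.Presentation.tensorModelOfHasCoeffsEquiv_tmul (P := P.toPresentation) B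
    (1 : S) y
  rw [map_one, one_mul] at h
  exact h

theorem modelProj_surjective (hs : Function.Surjective (algebraMap B S)) :
    Function.Surjective (modelProj (B := B) P) := by
  intro t
  obtain ⟨p, rfl⟩ := P.algebraMap_surjective t
  obtain ⟨q, rfl⟩ := MvPolynomial.map_surjective (algebraMap B S) hs p
  refine ⟨Ideal.Quotient.mk _ q, ?_⟩
  rw [modelProj_mk, Algebra.Generators.algebraMap_apply, MvPolynomial.aeval_map_algebraMap]

theorem ker_modelProj_le (hs : Function.Surjective (algebraMap B S)) :
    RingHom.ker (modelProj (B := B) P).toRingHom ≤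
      (RingHom.ker (algebraMap B S)).map
        (algebraMap B (P.toPresentation.ModelOfHasCoeffs B)) := by
  intro x hx
  have h0 : (1 : S) ⊗ₜ[B] x = 0 := by
    apply (P.toPresentation.tensorModelOfHasCoeffsEquiv B).injective
    rw [equiv_one_tmul, map_zero]
    exact hx
  have h1 := mem_smul_top_of_one_tmul_eq_zero hs x h0
  rw [Ideal.smul_top_eq_map] at h1
  exact h1

theorem ker_modelProj_sq (hs : Function.Surjective (algebraMap B S))
    (hN : (RingHom.ker (algebraMap B S)) ^ 2 = ⊥) :
    (RingHom.ker (modelProj (B := B) P).toRingHom) ^ 2 = ⊥ := by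
  rw [eq_bot_iff]
  calc (RingHom.ker (modelProj (B := B) P).toRingHom) ^ 2
      ≤ ((RingHom.ker (algebraMap B S)).map
        (algebraMap B (P.toPresentation.ModelOfHasCoeffs B))) ^ 2 :=
        Ideal.pow_right_mono (ker_modelProj_le P hs) 2
    _ = ((RingHom.ker (algebraMap B S)) ^ 2).map
        (algebraMap B (P.toPresentation.ModelOfHasCoeffs B)) := (Ideal.map_pow _ _ _).symm
    _ = ⊥ := by rw [hN, Ideal.map_bot]

theorem aeval_naive_val (p : MvPolynomial ι B) :
    MvPolynomial.aeval (P.toPreSubmersivePresentation.ofHasCoeffs B).val p =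
      Ideal.Quotient.mk (Ideal.span (Set.range (P.toPresentation.relationOfHasCoeffs B))) p := by
  have h2 := MvPolynomial.aeval_unique (Ideal.Quotient.mkₐ B
    (Ideal.span (Set.range (P.toPresentation.relationOfHasCoeffs B))))
  exact (DFunLike.congr_fun h2 p).symm

theorem isUnit_jacobian_model (hs : Function.Surjective (algebraMap B S))
    (hN : (RingHom.ker (algebraMap B S)) ^ 2 = ⊥) :
    IsUnit (P.toPreSubmersivePresentation.ofHasCoeffs B).jacobian := by
  classical
  let _ : Fintype σ := Fintype.ofFinite _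
  have e1 : (P.toPreSubmersivePresentation.ofHasCoeffs B).jacobian =
      Ideal.Quotient.mk _ (P.jacobianOfHasCoeffs B) := by
    rw [Algebra.PreSubmersivePresentation.jacobian_eq_jacobiMatrix_det]
    simp [Algebra.SubmersivePresentation.jacobianOfHasCoeffs]
    exact aeval_naive_val P _
  have h1 : modelProj P (P.toPreSubmersivePresentation.ofHasCoeffs B).jacobian = P.jacobian := by
    rw [e1, modelProj_mk]
    exact P.aeval_jacobianOfHasCoeffs B
  obtain ⟨v, hv⟩ := modelProj_surjective P hs (↑(P.jacobian_isUnit.unit⁻¹) : T')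
  set u := (P.toPreSubmersivePresentation.ofHasCoeffs B).jacobian with hu
  have hk : u * v - 1 ∈ RingHom.ker (modelProj (B := B) P).toRingHom := by
    rw [RingHom.mem_ker]
    show modelProj P (u * v - 1) = 0
    rw [map_sub, map_mul, map_one, h1, hv, IsUnit.mul_val_inv, sub_self]
  have hsq : (u * v - 1) * (u * v - 1) = 0 := by
    have h2 : (u * v - 1) * (u * v - 1) ∈ (RingHom.ker (modelProj (B := B) P).toRingHom) ^ 2 := by
      rw [pow_two]
      exact Ideal.mul_mem_mul hk hk
    rwa [ker_modelProj_sq P hs hN, Ideal.mem_bot] at h2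
  refine IsUnit.of_mul_eq_one (v * (2 - u * v)) ?_
  linear_combination (-1 : P.toPresentation.ModelOfHasCoeffs B) * hsq

theorem flat_model (hs : Function.Surjective (algebraMap B S))
    (hN : (RingHom.ker (algebraMap B S)) ^ 2 = ⊥) :
    Module.Flat B (P.toPresentation.ModelOfHasCoeffs B) := by
  let subm : Algebra.SubmersivePresentation B (P.toPresentation.ModelOfHasCoeffs B) ι σ :=
    { toPreSubmersivePresentation := P.toPreSubmersivePresentation.ofHasCoeffs B
      jacobian_isUnit := isUnit_jacobian_model P hs hN }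
  haveI : Algebra.IsStandardSmooth B (P.toPresentation.ModelOfHasCoeffs B) :=
    subm.isStandardSmooth
  haveI : Algebra.Smooth B (P.toPresentation.ModelOfHasCoeffs B) := inferInstance
  exact inferInstance

include P in
theorem map_annIdeal_eq_top_of_submersive [Algebra.FormallySmooth R T']
    (hs : Function.Surjective (algebraMap B S))
    (hN : (RingHom.ker (algebraMap B S)) ^ 2 = ⊥)
    (n : B) (hn : algebraMap B S n = 0)
    (h : (1 : S) ⊗ₜ[B] KaehlerDifferential.D R B n = 0) :
    (annIdeal n).map (algebraMap B T') = ⊤ := by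
  classical
  have hK2 := ker_modelProj_sq P hs hN
  have hker := ker_modelProj_le P hs
  have hψs := modelProj_surjective P hs
  haveI : Module.Flat B (P.toPresentation.ModelOfHasCoeffs B) := flat_model P hs hN
  let ψR : P.toPresentation.ModelOfHasCoeffs B →ₐ[R] T' := (modelProj P).restrictScalars R
  have hnil : IsNilpotent (RingHom.ker (ψR : P.toPresentation.ModelOfHasCoeffs B →+* T')) :=
    ⟨2, hK2⟩
  let s : T' →ₐ[R] P.toPresentation.ModelOfHasCoeffs B :=
    Algebra.FormallySmooth.liftOfSurjective (AlgHom.id R T') ψR hψs hnil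
  have hs' : ∀ t, modelProj P (s t) = t := fun t =>
    Algebra.FormallySmooth.liftOfSurjective_apply (AlgHom.id R T') ψR hψs hnil t
  let f : B →ₐ[R] P.toPresentation.ModelOfHasCoeffs B :=
    s.comp (IsScalarTower.toAlgHom R B T')
  have he : (Ideal.Quotient.mkₐ R (RingHom.ker (modelProj (B := B) P).toRingHom)).comp f =
      IsScalarTower.toAlgHom R B
        (P.toPresentation.ModelOfHasCoeffs B ⧸ RingHom.ker (modelProj (B := B) P).toRingHom) := by
    refine AlgHom.ext fun b => ?_
    refine (Ideal.Quotient.eq).mpr ?_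
    rw [RingHom.mem_ker, map_sub]
    show modelProj P (s (algebraMap B T' b)) -
      modelProj P (algebraMap B (P.toPresentation.ModelOfHasCoeffs B) b) = 0
    rw [hs', (modelProj P).commutes, sub_self]
  let D := derivationToSquareZeroOfLift (RingHom.ker (modelProj (B := B) P).toRingHom) hK2 f he
  have hD : ∀ z ∈ (RingHom.ker (algebraMap B S)) • (⊤ : Submodule B (Ω[B⁄R])),
      ((D.liftKaehlerDifferential z : RingHom.ker (modelProj (B := B) P).toRingHom) :
        P.toPresentation.ModelOfHasCoeffs B) = 0 := by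
    intro z hz
    refine Submodule.smul_induction_on hz (fun r hr m _ => ?_) (fun x y hx hy => ?_)
    · have h1 : algebraMap B (P.toPresentation.ModelOfHasCoeffs B) r ∈
          (RingHom.ker (algebraMap B S)).map
            (algebraMap B (P.toPresentation.ModelOfHasCoeffs B)) := Ideal.mem_map_of_mem _ hr
      have h2 : ((D.liftKaehlerDifferential m : RingHom.ker (modelProj (B := B) P).toRingHom) :
          P.toPresentation.ModelOfHasCoeffs B) ∈ (RingHom.ker (algebraMap B S)).map
            (algebraMap B (P.toPresentation.ModelOfHasCoeffs B)) :=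
        hker (D.liftKaehlerDifferential m).2
      have h3 : algebraMap B (P.toPresentation.ModelOfHasCoeffs B) r *
          ((D.liftKaehlerDifferential m : RingHom.ker (modelProj (B := B) P).toRingHom) :
          P.toPresentation.ModelOfHasCoeffs B) ∈ ((RingHom.ker (algebraMap B S)).map
            (algebraMap B (P.toPresentation.ModelOfHasCoeffs B))) ^ 2 := by
        rw [pow_two]
        exact Ideal.mul_mem_mul h1 h2
      rw [← Ideal.map_pow, hN, Ideal.map_bot, Ideal.mem_bot] at h3
      rw [map_smul, Submodule.coe_smul_of_tower,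
        ← algebraMap_smul (P.toPresentation.ModelOfHasCoeffs B) r, smul_eq_mul]
      exact h3
    · rw [map_add, Submodule.coe_add, hx, hy, add_zero]
  have hDn := hD _ (mem_smul_top_of_one_tmul_eq_zero hs _ h)
  have hval : ((D.liftKaehlerDifferential (KaehlerDifferential.D R B n) :
      RingHom.ker (modelProj (B := B) P).toRingHom) : P.toPresentation.ModelOfHasCoeffs B) =
      f n - algebraMap B (P.toPresentation.ModelOfHasCoeffs B) n := by
    rw [Derivation.liftKaehlerDifferential_comp_D]
    exact derivationToSquareZeroOfLift_apply _ hK2 f he n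
  have hfn : f n = 0 := by
    show s (algebraMap B T' n) = 0
    rw [IsScalarTower.algebraMap_apply B S T', hn, map_zero, map_zero]
  have hzero : algebraMap B (P.toPresentation.ModelOfHasCoeffs B) n = 0 := by
    rw [hval, hfn, zero_sub, neg_eq_zero] at hDn
    exact hDn
  have hrel : ∑ i : Unit, (fun _ : Unit => n) i •
      (fun _ : Unit => (1 : P.toPresentation.ModelOfHasCoeffs B)) i = 0 := by
    rw [Fintype.sum_unique]
    show n • (1 : P.toPresentation.ModelOfHasCoeffs B) = 0
    rw [← algebraMap_smul (P.toPresentation.ModelOfHasCoeffs B) n, hzero, smul_eq_mul, zero_mul]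
  obtain ⟨k, a, y, hy, ha⟩ := Module.Flat.isTrivialRelation_of_sum_smul_eq_zero
    (f := fun _ : Unit => n) (x := fun _ : Unit => (1 : P.toPresentation.ModelOfHasCoeffs B)) hrel
  have h1 : (1 : P.toPresentation.ModelOfHasCoeffs B) = ∑ j, a () j • y j := hy ()
  have h1M : (1 : P.toPresentation.ModelOfHasCoeffs B) ∈
      (annIdeal n).map (algebraMap B (P.toPresentation.ModelOfHasCoeffs B)) := by
    rw [h1]
    refine Ideal.sum_mem _ fun j _ => ?_
    rw [← algebraMap_smul (P.toPresentation.ModelOfHasCoeffs B) (a () j), smul_eq_mul]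
    refine Ideal.mul_mem_right _ _ (Ideal.mem_map_of_mem _ ?_)
    rw [mem_annIdeal, mul_comm]
    have h2 := ha j
    rw [Fintype.sum_unique] at h2
    exact h2
  have h1T : (1 : T') ∈ (annIdeal n).map (algebraMap B T') := by
    have h2 := Ideal.mem_map_of_mem (modelProj (B := B) P).toRingHom h1M
    rw [Ideal.map_map, map_one] at h2
    have e : (modelProj (B := B) P).toRingHom.comp
        (algebraMap B (P.toPresentation.ModelOfHasCoeffs B)) = algebraMap B T' :=
      (modelProj (B := B) P).comp_algebraMap
    rwa [e] at h2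
  exact (Ideal.eq_top_iff_one _).mpr h1T

end deform

theorem map_map_annIdeal_eq_top {R B S T T' : Type u} [CommRing R] [CommRing B] [CommRing S]
    [CommRing T] [CommRing T'] [Algebra R B] [Algebra R S] [Algebra B S] [IsScalarTower R B S]
    [Algebra S T] [Algebra R T] [IsScalarTower R S T] [Algebra B T] [IsScalarTower B S T]
    [Algebra T T'] [Algebra S T'] [IsScalarTower S T T'] [Algebra R T'] [IsScalarTower R T T']
    [IsScalarTower R S T'] (g : T) [IsLocalization.Away g T'] [Algebra.IsStandardSmooth S T']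
    [Algebra.FormallySmooth R T]
    (hs : Function.Surjective (algebraMap B S))
    (hN : (RingHom.ker (algebraMap B S)) ^ 2 = ⊥) (n : B) (hn : algebraMap B S n = 0)
    (h : (1 : S) ⊗ₜ[B] KaehlerDifferential.D R B n = 0) :
    ((annIdeal n).map (algebraMap B T)).map (algebraMap T T') = ⊤ := by
  letI : Algebra B T' := ((algebraMap S T').comp (algebraMap B S)).toAlgebra
  haveI : IsScalarTower B S T' := .of_algebraMap_eq' rfl
  haveI : IsScalarTower R B T' := .of_algebraMap_eq' (by
    ext r
    show algebraMap R T' r = algebraMap S T' (algebraMap B S (algebraMap R B r))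
    rw [← IsScalarTower.algebraMap_apply R B S, ← IsScalarTower.algebraMap_apply R S T'])
  haveI : Algebra.FormallySmooth T T' :=
    Algebra.FormallySmooth.of_isLocalization (Submonoid.powers g)
  haveI : Algebra.FormallySmooth R T' := Algebra.FormallySmooth.comp R T T'
  obtain ⟨ι, σ, hσ, hι, ⟨P⟩⟩ := (inferInstance : Algebra.IsStandardSmooth S T').out
  haveI : P.HasCoeffs B := ⟨fun x _ => RingHom.mem_range.mpr (hs x)⟩
  have key := map_annIdeal_eq_top_of_submersive (R := R) P hs hN n hn h
  have e : algebraMap B T' = (algebraMap T T').comp (algebraMap B T) := by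
    ext b
    show algebraMap S T' (algebraMap B S b) = algebraMap T T' (algebraMap B T b)
    rw [IsScalarTower.algebraMap_apply B S T, ← IsScalarTower.algebraMap_apply S T T']
  rw [e, ← Ideal.map_map] at key
  exact key

/-- Key lemma: over a square-zero extension `B → S`, an element of the kernel whose differential
dies in `S ⊗ Ω_{B/R}` is zero, provided some `T` smooth and faithfully flat over `S` is formally
smooth over `R`. -/
theorem eq_zero_of_one_tmul_D_eq_zero {R B S T : Type u} [CommRing R] [CommRing B] [CommRing S]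
    [CommRing T] [Algebra R B] [Algebra R S] [Algebra B S] [IsScalarTower R B S]
    [Algebra S T] [Algebra R T] [IsScalarTower R S T]
    [Algebra.Smooth S T] [Module.FaithfullyFlat S T] [Algebra.FormallySmooth R T]
    (hs : Function.Surjective (algebraMap B S))
    (hN : (RingHom.ker (algebraMap B S)) ^ 2 = ⊥) (n : B) (hn : algebraMap B S n = 0)
    (h : (1 : S) ⊗ₜ[B] KaehlerDifferential.D R B n = 0) : n = 0 := by
  letI : Algebra B T := ((algebraMap S T).comp (algebraMap B S)).toAlgebra
  haveI : IsScalarTower B S T := .of_algebraMap_eq' rfl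
  obtain ⟨s, hs1, hs2⟩ := Algebra.Smooth.exists_span_eq_top_isStandardSmooth S T
  have htop : (annIdeal n).map (algebraMap B T) = ⊤ := by
    by_contra hne
    obtain ⟨m, hm, hle⟩ := Ideal.exists_le_maximal _ hne
    have hex : ∃ g ∈ s, g ∉ m := by
      by_contra hall
      push_neg at hall
      have h1 : Ideal.span s ≤ m := Ideal.span_le.mpr hall
      rw [hs1] at h1
      exact hm.ne_top (top_le_iff.mp h1)
    obtain ⟨g, hg, hgm⟩ := hex
    haveI := hs2 g hg
    have key := map_map_annIdeal_eq_top (R := R) (B := B) (S := S) (T := T)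
      (T' := Localization.Away g) g hs hN n hn h
    have hmne : m.map (algebraMap T (Localization.Away g)) ≠ ⊤ := by
      rw [IsLocalization.map_algebraMap_ne_top_iff_disjoint (M := Submonoid.powers g)
        (S := Localization.Away g), Set.disjoint_left]
      rintro x ⟨k, rfl⟩ hx
      exact hgm (hm.isPrime.mem_of_pow_mem k hx)
    have h5 := Ideal.map_mono (f := algebraMap T (Localization.Away g)) hle
    rw [key] at h5
    exact hmne (top_le_iff.mp h5)
  have h2 : (annIdeal n).map (algebraMap B S) = ⊤ := by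
    have e : algebraMap B T = (algebraMap S T).comp (algebraMap B S) := rfl
    rw [e, ← Ideal.map_map] at htop
    have h3 := Ideal.comap_map_eq_self_of_faithfullyFlat (B := T)
      ((annIdeal n).map (algebraMap B S))
    rw [htop, Ideal.comap_top] at h3
    exact h3.symm
  have h3 : (1 : S) ∈ (annIdeal n).map (algebraMap B S) := by
    rw [h2]
    trivial
  rw [Ideal.mem_map_iff_of_surjective _ hs] at h3
  obtain ⟨a, ha, ha1⟩ := h3
  have h4 : (1 - a) * n = 0 := by
    have h1a : (1 - a) ∈ RingHom.ker (algebraMap B S) := by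
      rw [RingHom.mem_ker, map_sub, map_one, ha1, sub_self]
    have hnk : n ∈ RingHom.ker (algebraMap B S) := hn
    have h5 : (1 - a) * n ∈ (RingHom.ker (algebraMap B S)) ^ 2 := by
      rw [pow_two]
      exact Ideal.mul_mem_mul h1a hnk
    rwa [hN, Ideal.mem_bot] at h5
  have h5 : a * n = 0 := mem_annIdeal.mp ha
  calc n = (1 - a) * n + a * n := by ring
    _ = 0 := by rw [h4, h5, add_zero]

section main

variable {R S T : Type u} [CommRing R] [CommRing S] [CommRing T] [Algebra R S] [Algebra S T]
  [Algebra R T] [IsScalarTower R S T]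

theorem subsingleton_h1Cotangent [Algebra.Smooth S T] [Module.FaithfullyFlat S T]
    [Algebra.FormallySmooth R T] : Subsingleton (Algebra.H1Cotangent R S) := by
  let P := (Algebra.Generators.self R S).toExtension
  have hbij := Algebra.Extension.H1Cotangent.map_toInfinitesimal_bijective P
  suffices hE : Subsingleton P.infinitesimal.H1Cotangent from hbij.injective.subsingleton
  show Subsingleton (LinearMap.ker P.infinitesimal.cotangentComplex)
  rw [Submodule.subsingleton_iff_eq_bot, LinearMap.ker_eq_bot, injective_iff_map_eq_zero]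
  intro x hx
  obtain ⟨⟨n, hn⟩, rfl⟩ := Algebra.Extension.Cotangent.mk_surjective x
  rw [Algebra.Extension.cotangentComplex_mk] at hx
  have hN : (RingHom.ker (algebraMap P.infinitesimal.Ring S)) ^ 2 = ⊥ := by
    have h1 := P.ker_infinitesimal
    rw [Algebra.Extension.ker] at h1
    rw [h1]
    exact Ideal.cotangentIdeal_square _
  have h0 : n = 0 := eq_zero_of_one_tmul_D_eq_zero (R := R) (T := T)
    P.infinitesimal.algebraMap_surjective hN n (RingHom.mem_ker.mp hn) hx
  rw [Algebra.Extension.Cotangent.mk_eq_zero_iff]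
  show n ∈ P.infinitesimal.ker ^ 2
  rw [h0]
  exact zero_mem _

theorem projective_kaehlerDifferential [Algebra.FinitePresentation R S]
    [Algebra.FormallySmooth S T] [Module.FaithfullyFlat S T] [Algebra.FormallySmooth R T] :
    Module.Projective S Ω[S⁄R] := by
  have hex := KaehlerDifferential.exact_mapBaseChange_map R S T
  have hsurj := KaehlerDifferential.map_surjective R S T
  have hinj : Function.Injective (KaehlerDifferential.mapBaseChange R S T) := by
    rw [injective_iff_map_eq_zero]
    intro x hx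
    obtain ⟨y, rfl⟩ := (Algebra.H1Cotangent.exact_δ_mapBaseChange R S T x).mp hx
    rw [Subsingleton.elim y 0, map_zero]
  obtain ⟨l, hl⟩ := ((hex.split_tfae'.out 0 1 rfl rfl).mp
    ⟨hinj, Module.projective_lifting_property _ _ hsurj⟩).2
  haveI : Module.Projective T (T ⊗[S] Ω[S⁄R]) :=
    Module.Projective.of_split (KaehlerDifferential.mapBaseChange R S T) l hl
  haveI : Module.Flat T (T ⊗[S] Ω[S⁄R]) := inferInstance
  haveI : Module.Flat S Ω[S⁄R] := Module.Flat.of_flat_tensorProduct S _ T
  exact Module.Flat.projective_of_finitePresentation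

/-- Formal smoothness descends along smooth faithfully flat maps of the source. -/
theorem formallySmooth_of_smooth_of_faithfullyFlat [Algebra.FinitePresentation R S]
    [Algebra.Smooth S T] [Module.FaithfullyFlat S T] [Algebra.FormallySmooth R T] :
    Algebra.FormallySmooth R S :=
  ⟨projective_kaehlerDifferential (T := T), subsingleton_h1Cotangent (T := T)⟩

end main

theorem ringHom_smooth_of_comp {R A B : Type u} [CommRing R] [CommRing A] [CommRing B]
    (f : R →+* A) (g : A →+* B) (hg : g.Smooth) (hgf : g.FaithfullyFlat)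
    (hc : (g.comp f).Smooth) (hf : f.FinitePresentation) : f.Smooth := by
  algebraize [f, g, g.comp f]
  haveI : Algebra.FormallySmooth R A := formallySmooth_of_smooth_of_faithfullyFlat (T := B)
  show Algebra.Smooth R A
  exact ⟨inferInstance, inferInstance⟩

/-- Affine-local step: smoothness of the middle map between affine opens. -/
theorem smooth_resLE_of_affine {W U V : Scheme.{u}} (c : W ⟶ U) (h : U ⟶ V) [Smooth c]
    [Smooth (c ≫ h)] [LocallyOfFinitePresentation h]
    {V₀ : V.Opens} {U₁ : U.Opens} {W₁ : W.Opens} (hV₀ : IsAffineOpen V₀)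
    (hU₁ : IsAffineOpen U₁) (hW₁ : IsAffineOpen W₁)
    (e₁ : W₁ ≤ c ⁻¹ᵁ U₁) (e₂ : U₁ ≤ h ⁻¹ᵁ V₀) (hsurj : ∀ x ∈ U₁, ∃ w ∈ W₁, c w = x) :
    Smooth (h.resLE V₀ U₁ e₂) := by
  haveI : IsAffine V₀.toScheme := hV₀
  haveI : IsAffine U₁.toScheme := hU₁
  haveI : IsAffine W₁.toScheme := hW₁
  have hc₁ : Smooth (c.resLE U₁ W₁ e₁) := IsZariskiLocalAtSource.resLE e₁ inferInstance
  have hh₁ : LocallyOfFinitePresentation (h.resLE V₀ U₁ e₂) :=
    IsZariskiLocalAtSource.resLE e₂ inferInstance
  have hsm : Smooth (c.resLE U₁ W₁ e₁ ≫ h.resLE V₀ U₁ e₂) := by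
    rw [Scheme.Hom.resLE_comp_resLE]
    exact IsZariskiLocalAtSource.resLE _ inferInstance
  have hs : Surjective (c.resLE U₁ W₁ e₁) := ⟨fun x => by
    obtain ⟨w', hw'1, hw'⟩ := hsurj x.1 x.2
    refine ⟨⟨w', hw'1⟩, ?_⟩
    apply U₁.ι.injective
    rw [← Scheme.Hom.comp_apply, Scheme.Hom.resLE_comp_ι, Scheme.Hom.comp_apply]
    exact hw'⟩
  have hγ : (c.resLE U₁ W₁ e₁).appTop.hom.Smooth :=
    HasRingHomProperty.appTop (P := @Smooth) _ hc₁
  have hγff : (c.resLE U₁ W₁ e₁).appTop.hom.FaithfullyFlat :=
    (AlgebraicGeometry.Flat.flat_and_surjective_iff_faithfullyFlat_of_isAffine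
      (f := c.resLE U₁ W₁ e₁)).mp ⟨inferInstance, hs⟩
  have hφγ : ((c.resLE U₁ W₁ e₁).appTop.hom.comp (h.resLE V₀ U₁ e₂).appTop.hom).Smooth := by
    have h1 := HasRingHomProperty.appTop (P := @Smooth) _ hsm
    rwa [Scheme.Hom.comp_appTop, CommRingCat.hom_comp] at h1
  have hφfp : (h.resLE V₀ U₁ e₂).appTop.hom.FinitePresentation :=
    HasRingHomProperty.appTop (P := @LocallyOfFinitePresentation) _ hh₁
  rw [HasRingHomProperty.iff_of_isAffine (P := @Smooth)]
  exact ringHom_smooth_of_comp _ _ hγ hγff hφγ hφfp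

/-- **Smoothness is smooth local on the source**: if `c` is smooth and surjective and `c ≫ h` is
smooth, then `h` is smooth. -/
theorem smooth_of_comp_smooth_surjective {W U V : Scheme.{u}} (c : W ⟶ U) (h : U ⟶ V)
    [Smooth c] [Surjective c] [Smooth (c ≫ h)] : Smooth h := by
  haveI hlfp : LocallyOfFinitePresentation h :=
    Groth.Agent.Lib.SchSrcLocal2_helper7.locallyOfFinitePresentation_of_comp_smooth_surjective c h
  haveI : MorphismProperty.RespectsRight @Smooth @IsOpenImmersion :=
    ⟨fun i (_ : IsOpenImmersion i) f (_ : Smooth f) => (inferInstance : Smooth (f ≫ i))⟩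
  refine (IsZariskiLocalAtSource.iff_exists_resLE (P := @Smooth)).mpr fun u => ?_
  obtain ⟨w, rfl⟩ := c.surjective u
  obtain ⟨V₀, hV₀, hv, -⟩ := TopologicalSpace.Opens.isBasis_iff_nbhd.mp V.isBasis_affineOpens
    (TopologicalSpace.Opens.mem_top (h (c w)))
  obtain ⟨U₀, hU₀, hu, eU⟩ := TopologicalSpace.Opens.isBasis_iff_nbhd.mp U.isBasis_affineOpens
    (show c w ∈ h ⁻¹ᵁ V₀ from hv)
  obtain ⟨W₀, hW₀, hw, eW⟩ := TopologicalSpace.Opens.isBasis_iff_nbhd.mp W.isBasis_affineOpens
    (show w ∈ c ⁻¹ᵁ U₀ from hu)
  replace hV₀ : IsAffineOpen V₀ := hV₀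
  replace hU₀ : IsAffineOpen U₀ := hU₀
  replace hW₀ : IsAffineOpen W₀ := hW₀
  let O : U.Opens := ⟨c '' (W₀ : Set W), c.isOpenMap _ W₀.isOpen⟩
  obtain ⟨a, ha1, ha2⟩ := hU₀.exists_basicOpen_le (V := O) ⟨c w, ⟨w, hw, rfl⟩⟩ hu
  have hU₁ : IsAffineOpen (U.basicOpen a) := hU₀.basicOpen a
  have hW₁ : IsAffineOpen (W.basicOpen (c.appLE U₀ W₀ eW a)) := hW₀.basicOpen _
  have hW₁eq : W.basicOpen (c.appLE U₀ W₀ eW a) = W₀ ⊓ c ⁻¹ᵁ (U.basicOpen a) :=
    Scheme.basicOpen_appLE c W₀ U₀ eW a
  have e₁ : W.basicOpen (c.appLE U₀ W₀ eW a) ≤ c ⁻¹ᵁ (U.basicOpen a) := by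
    rw [hW₁eq]
    exact inf_le_right
  have e₂ : U.basicOpen a ≤ h ⁻¹ᵁ V₀ := (U.basicOpen_le a).trans eU
  refine ⟨V₀, U.basicOpen a, ha2, e₂, ?_⟩
  refine smooth_resLE_of_affine c h hV₀ hU₁ hW₁ e₁ e₂ (fun x hx => ?_)
  obtain ⟨w', hw'0, hw'⟩ := ha1 hx
  refine ⟨w', ?_, hw'⟩
  rw [hW₁eq]
  refine ⟨hw'0, ?_⟩
  show c w' ∈ U.basicOpen a
  rw [hw']
  exact hx

end Groth.Agent.Lib.SmoothSrcDesc
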