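import Groth.Agent.Lib.AlgStLocQ4_lead
import Groth.Agent.Lib.SmoothSrcDesc_lead
import Groth.Agent.Lib.AlgSpSmST_helper7
import Groth.Agent.Lib.AlgSpLocP8_helper7
import Groth.Agent.Lib.AlgSpLocP10_helper7
import Groth.Agent.Lib.AlgSpTop_helper7
import Groth.Agent.Lib.AlgSpUniv_helper7

/-! # Smoothness is smooth local on the source-and-target, for algebraic spaces (lead) -/

set_option autoImplicit false

universe w v₁ v₂ v₃ v₄ v₅ v₆ u₁ u₂ u₃ u₄ u₅ u₆ u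

open CategoryTheory CategoryTheory.Limits AlgebraicGeometry Opposite FibCat Stk

namespace Groth.Agent.Lib.AlgStLocQ

open AlgSt Groth.Agent.Lib.FibCat_helper6 Groth.Agent.Lib.FibCat3_helper6
  Groth.Agent.Lib.FibCat14_helper6 Groth.Agent.Lib.FibCat12_helper6
  Groth.Agent.Lib.FibCatPaste Groth.Agent.Lib.FibCatSwap
  Groth.Agent.Lib.FibCatIsoFun
  Groth.Agent.Lib.OfPshCalc Groth.Agent.Lib.AlgStBC
  Groth.Agent.Lib.AlgStEquiv Groth.Agent.Lib.AlgStEquivP Groth.Agent.Lib.AlgStEquivInv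
  Groth.Agent.Lib.OfPshAlgSt Groth.Agent.Lib.LiftSqBC Groth.Agent.Lib.LiftSqComp
  Groth.Agent.Lib.OfPshWith Groth.Agent.Lib.FibCatDiagSec Groth.Agent.Lib.AlgStDiagRep
  Groth.Agent.Lib.FibCatDiagBC Groth.Agent.Lib.FibCatMagic Groth.Agent.Lib.FibCatProd
  Groth.Agent.Lib.AlgStDiag Groth.Agent.Lib.AlgStLocal
  Groth.Agent.Lib.AlgSpQC_helper7 Groth.Agent.Lib.AlgSpDiag_helper7
  Groth.Agent.Lib.AlgSpPullback_helper7 Groth.Agent.Lib.AlgSpRepBySp_helper7
  Groth.Agent.Lib.AlgSpPoints_helper7 Groth.Agent.Lib.AlgSpLocP_helper7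
  Groth.Agent.Lib.AlgSpBasic_helper7 Groth.Agent.Lib.AlgSpSep_helper7
  Groth.Agent.Lib.AlgSpLocP4_helper7 Groth.Agent.Lib.AlgSpLocP5_helper7
  Groth.Agent.Lib.AlgSpLocP7_helper7 Groth.Agent.Lib.AlgSpQC2_helper7
  Groth.Agent.Lib.AlgSpLocP8_helper7 Groth.Agent.Lib.AlgSpLocP10_helper7
  Groth.Agent.Lib.AlgSpFpqc3_helper7 Groth.Agent.Lib.AlgSpLocP6_helper7
  Groth.Agent.Lib.AlgSpFpqc2_helper7 Groth.Agent.Lib.AlgSpFpqc_helper7
  Groth.Agent.Lib.AlgSpProper_helper7 Groth.Agent.Lib.AlgSpAffineMorH7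
  Groth.Agent.Lib.AlgStAtlas Groth.Agent.Lib.AlgStPoints Groth.Agent.Lib.AlgStPtsCmp
  Groth.Agent.Lib.FibCatYoneda_helper6



variable {S : Scheme.{u}}

/-- Smoothness of morphisms of algebraic spaces is smooth local on the source-and-target. -/
theorem isSmoothLocalST_smooth :
    AlgSp.IsSmoothLocalST (AlgSp.LocP @Smooth : MorphismProperty (AlgSp.Sp S)) :=
  isSmoothLocalST_locP _ etLocal_smooth (fun _ _ _ hg => hg)
    (fun W c h hc hs hch => family_of_single _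
      (fun _ _ _ c h (_ : Smooth c) (_ : Surjective c) (_ : Smooth (c ≫ h)) =>
        Groth.Agent.Lib.SmoothSrcDesc.smooth_of_comp_smooth_surjective c h) W c h hc hs hch)
    (isLocalOnBase_fppf_of_fpqc' isLocalOnBase_fpqc_locP_smooth)

/-- S10553. -/
theorem isLocalOnSource_smooth_locP_smooth :
    AlgSp.IsLocalOnSource (AlgSp.IsSmCover (S := S)) (AlgSp.LocP @Smooth) :=
  Groth.Agent.Lib.AlgSpSmST_helper7.smoothLocalST_localOnSource isSmoothLocalST_smooth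

/-- S10559. -/
theorem smooth_etale_of_surjective_comp {X Y B : AlgSp.Space S} (f : X ⟶ Y) (q : Y ⟶ B)
    (hs : AlgSp.IsSurjectiveMor f.hom) :
    (AlgSp.LocP @Smooth f.hom → AlgSp.LocP @Smooth (f ≫ q).hom → AlgSp.LocP @Smooth q.hom) ∧
    (AlgSp.IsEtaleMor f.hom → AlgSp.IsEtaleMor (f ≫ q).hom → AlgSp.IsEtaleMor q.hom) := by
  constructor
  · intro hf hfq
    exact (isLocalOnSource_smooth_locP_smooth (ι := PUnit.{u+1}) (fun _ => X.obj)
      (fun _ => f.hom) Y.property (fun _ => X.property)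
      ⟨fun _ => hf, fun y => ⟨PUnit.unit, hs y⟩⟩ q.hom B.property).2 (fun _ => hfq)
  · intro hf hfq
    exact (Groth.Agent.Lib.AlgSpLocP8_helper7.isLocalOnSource_etale_isEtaleMor
      (ι := PUnit.{u+1}) (fun _ => X.obj)
      (fun _ => f.hom) Y.property (fun _ => X.property)
      ⟨fun _ => hf, fun y => ⟨PUnit.unit, hs y⟩⟩ q.hom B.property).2 (fun _ => hfq)

end Groth.Agent.Lib.AlgStLocQ
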