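import Groth.Agent.Lib.AlgStOpenSub2_lead
import Groth.Agent.Lib.AlgStSmoothLoc_lead
import Groth.Agent.Lib.AlgSpTop_helper7
import Groth.Agent.Lib.AlgSpUniv_helper7

/-! # The largest open substack on which a morphism of algebraic stacks is smooth (lead) -/

set_option autoImplicit false

universe w v₁ v₂ v₃ v₄ v₅ v₆ u₁ u₂ u₃ u₄ u₅ u₆ u

open CategoryTheory CategoryTheory.Limits AlgebraicGeometry Opposite FibCat Stk

namespace Groth.Agent.Lib.AlgStLocQ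

open AlgSt Groth.Agent.Lib.FibCat_helper6 Groth.Agent.Lib.FibCat3_helper6
  Groth.Agent.Lib.FibCat14_helper6 Groth.Agent.Lib.FibCat12_helper6
  Groth.Agent.Lib.FibCatPaste Groth.Agent.Lib.FibCatSwap
  Groth.Agent.Lib.FibCatIsoFun
  Groth.Agent.Lib.OfPshCalc Groth.Agent.Lib.AlgStBC
  Groth.Agent.Lib.AlgStEquiv Groth.Agent.Lib.AlgStEquivP Groth.Agent.Lib.AlgStEquivInv
  Groth.Agent.Lib.OfPshAlgSt Groth.Agent.Lib.LiftSqBC Groth.Agent.Lib.LiftSqComp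
  Groth.Agent.Lib.OfPshWith Groth.Agent.Lib.FibCatDiagSec Groth.Agent.Lib.AlgStDiagRep
  Groth.Agent.Lib.FibCatDiagBC Groth.Agent.Lib.FibCatMagic Groth.Agent.Lib.FibCatProd
  Groth.Agent.Lib.AlgStDiag Groth.Agent.Lib.AlgStLocal
  Groth.Agent.Lib.AlgSpQC_helper7 Groth.Agent.Lib.AlgSpDiag_helper7
  Groth.Agent.Lib.AlgSpPullback_helper7 Groth.Agent.Lib.AlgSpRepBySp_helper7
  Groth.Agent.Lib.AlgSpPoints_helper7 Groth.Agent.Lib.AlgSpLocP_helper7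
  Groth.Agent.Lib.AlgSpBasic_helper7 Groth.Agent.Lib.AlgSpSep_helper7
  Groth.Agent.Lib.AlgSpLocP4_helper7 Groth.Agent.Lib.AlgSpLocP5_helper7
  Groth.Agent.Lib.AlgSpLocP7_helper7 Groth.Agent.Lib.AlgSpQC2_helper7
  Groth.Agent.Lib.AlgSpLocP8_helper7 Groth.Agent.Lib.AlgSpLocP10_helper7
  Groth.Agent.Lib.AlgSpFpqc3_helper7 Groth.Agent.Lib.AlgSpLocP6_helper7
  Groth.Agent.Lib.AlgSpFpqc2_helper7 Groth.Agent.Lib.AlgSpFpqc_helper7
  Groth.Agent.Lib.AlgSpProper_helper7 Groth.Agent.Lib.AlgSpAffineMorH7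
  Groth.Agent.Lib.AlgStAtlas Groth.Agent.Lib.AlgStPoints Groth.Agent.Lib.AlgStPtsCmp
  Groth.Agent.Lib.FibCatYoneda_helper6


variable {S : Scheme.{u}}

theorem repWith_surj_id_overCat (U : Over S) :
    AlgSt.RepByAlgSpWith AlgSp.IsSurjectiveMor (BasedFunctor.id (FibCat.overCat U)) := by
  rw [← overMap_id U]
  refine repWith_overMap _ bc_isSurjectiveMor (𝟙 U) ?_
  rw [CategoryTheory.Functor.map_id]
  exact Groth.Agent.Lib.AlgSpSmST_helper7.isSurjectiveMor_id _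

section stk

variable {𝒳 𝒴 : AlgSt.Cat S}

/-- A good square of charts of `f` restricts, over an open subset `T` of the points of the source,
to a good square of charts of the restriction of `f` to the open substack on `T`. -/
theorem exists_restricted_chart
    (h𝒳 : AlgSt.IsAlgStack Scheme.fppfPrecoverage 𝒳)
    (h𝒴 : AlgSt.IsAlgStack Scheme.fppfPrecoverage 𝒴) (f : 𝒳 ⥤ᵇ 𝒴)
    (T : Set (AlgSt.Points 𝒳)) (hT : IsOpen T) {U V : Over S}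
    (x : FibCat.overCat U ⥤ᵇ 𝒳) (y : FibCat.overCat V ⥤ᵇ 𝒴) (a : U ⟶ V)
    (α : BasedFunctor.comp x f ≅ BasedFunctor.comp (AlgSt.overMap a) y) :
    ∃ (x' : FibCat.overCat (chartOver h𝒳 T hT x) ⥤ᵇ AlgSt.fullSub 𝒳 (QT T))
      (γ : BasedFunctor.comp x' (BasedFunctor.comp (AlgSt.subIncl 𝒳 (QT T)) f) ≅
        BasedFunctor.comp (AlgSt.overMap (chartIncl h𝒳 T hT x ≫ a)) y),
      ∀ Q : MorphismProperty (AlgSp.Sp S), IsoInv Q → SchemeTestable Q →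
        (∀ ⦃X₁ Y₁ Z₁ : AlgSp.Sp S⦄, AlgSp.IsAlgSpace X₁ → AlgSp.IsAlgSpace Y₁ →
          AlgSp.IsAlgSpace Z₁ → ∀ (p : X₁ ⟶ Y₁) (c : Y₁ ⟶ Z₁), Q p → Q c → Q (p ≫ c)) →
        AlgSt.RepByAlgSpWith Q (BasedFunctor.id (FibCat.overCat (chartOver h𝒳 T hT x))) →
        AlgSt.RepByAlgSpWith Q (fpLift x (AlgSt.overMap a) α) →
        AlgSt.RepByAlgSpWith Q
          (fpLift x' (AlgSt.overMap (chartIncl h𝒳 T hT x ≫ a)) γ) := by
  have h𝒬 : AlgSt.IsAlgStack Scheme.fppfPrecoverage (AlgSt.fullSub 𝒳 (QT T)) :=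
    (isOpenSubstack_QT h𝒳 T hT).2.1
  let L : FibCat.overCat (chartOver h𝒳 T hT x) ⥤ᵇ fp (AlgSt.subIncl 𝒳 (QT T)) x :=
    BasedFunctor.comp (chartLift h𝒳 T hT x) (swap x (AlgSt.subIncl 𝒳 (QT T)))
  have hL : IsEquivOver L :=
    isEquivOver_comp (chartLift_isEquivOver h𝒳 T hT x)
      (swap_isEquivOver x (AlgSt.subIncl 𝒳 (QT T)))
  let ι : BasedFunctor.comp L (fpSnd (AlgSt.subIncl 𝒳 (QT T)) x) ≅
      AlgSt.overMap (chartIncl h𝒳 T hT x) := Iso.refl _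
  have hfp : IsFibGrpd (fp (AlgSt.subIncl 𝒳 (QT T)) x).p :=
    isFibGrpd_fp _ _ h𝒬.isStack.1 (isFibGrpd_over_forget U) h𝒳.isStack.1
  obtain ⟨κ⟩ := fpLift_eta_iso hfp L ι
  obtain ⟨x', γ, hγ⟩ := exists_comp_chart (AlgSt.subIncl 𝒳 (QT T)) f
    (BasedFunctor.comp L (fpFst (AlgSt.subIncl 𝒳 (QT T)) x)) x y
    (AlgSt.overMap (chartIncl h𝒳 T hT x)) (AlgSt.overMap a) (etaIso L ι) α
    (AlgSt.overMap (chartIncl h𝒳 T hT x ≫ a))
    (eqToIso (overMap_comp (chartIncl h𝒳 T hT x) a).symm)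
    (isFibGrpd_over_forget _) (isFibGrpd_over_forget U) (isFibGrpd_over_forget V)
    h𝒬.isStack.1 h𝒳.isStack.1 h𝒴.isStack.1
  refine ⟨x', γ, fun Q hI hLt hQc hid hℓ => hγ Q hI hLt hQc ?_ hℓ⟩
  exact repWith_of_iso Q κ.symm (repWith_of_isEquivOver Q hid L hL)

theorem locQ_subIncl_congr (f : 𝒳 ⥤ᵇ 𝒴) {Q Q' : 𝒳.obj → Prop} (h : Q = Q')
    (P : MorphismProperty (AlgSp.Sp S))
    (H : AlgSt.LocQ P (BasedFunctor.comp (AlgSt.subIncl 𝒳 Q) f)) :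
    AlgSt.LocQ P (BasedFunctor.comp (AlgSt.subIncl 𝒳 Q') f) := by
  subst h; exact H

/-- S13037. -/
theorem exists_largest_smooth_open
    (h𝒳 : AlgSt.IsAlgStack Scheme.fppfPrecoverage 𝒳)
    (h𝒴 : AlgSt.IsAlgStack Scheme.fppfPrecoverage 𝒴) (f : 𝒳 ⥤ᵇ 𝒴) :
    ∃ Q : 𝒳.obj → Prop, AlgSt.IsOpenSubstack 𝒳 Q Scheme.fppfPrecoverage ∧
      AlgSt.LocQ (AlgSp.LocP @Smooth) (BasedFunctor.comp (AlgSt.subIncl 𝒳 Q) f) ∧
      ∀ Q' : 𝒳.obj → Prop, AlgSt.IsOpenSubstack 𝒳 Q' Scheme.fppfPrecoverage →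
        AlgSt.LocQ (AlgSp.LocP @Smooth) (BasedFunctor.comp (AlgSt.subIncl 𝒳 Q') f) →
        ∀ a, Q' a → Q a := by
  have hIs : IsoInv (AlgSp.LocP @Smooth : MorphismProperty (AlgSp.Sp S)) :=
    isoInv_locP _ etLocal_smooth
  have hLs : SchemeTestable (AlgSp.LocP @Smooth : MorphismProperty (AlgSp.Sp S)) :=
    schemeTestable_locP _
  let 𝔉 : Set (Set (AlgSt.Points 𝒳)) := {T' | IsOpen T' ∧
    AlgSt.LocQ (AlgSp.LocP @Smooth) (BasedFunctor.comp (AlgSt.subIncl 𝒳 (QT T')) f)}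
  have hT : IsOpen (⋃₀ 𝔉) := isOpen_sUnion fun t ht => ht.1
  refine ⟨QT (⋃₀ 𝔉), isOpenSubstack_QT h𝒳 _ hT, ?_, ?_⟩
  · obtain ⟨V, y, hy, hy'⟩ := h𝒴.atlas
    obtain ⟨U, a, x, α, hx, hx', hℓ, hℓ'⟩ := exists_good_chart_over h𝒳 h𝒴 f V y hy
    obtain ⟨xT, γT, hR⟩ := exists_restricted_chart h𝒳 h𝒴 f (⋃₀ 𝔉) hT x y a α
    have h𝒬 : AlgSt.IsAlgStack Scheme.fppfPrecoverage (AlgSt.fullSub 𝒳 (QT (⋃₀ 𝔉))) :=
      (isOpenSubstack_QT h𝒳 _ hT).2.1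
    have hℓT := hR _ hIs hLs comp_locP_smooth (repWith_smooth_id_overCat _) hℓ
    have hℓT' := hR _ isoInv_isSurjectiveMor schemeTestable_isSurjectiveMor
      comp_isSurjectiveMor (repWith_surj_id_overCat _) hℓ'
    have hfib : IsFibGrpd
        (fp (BasedFunctor.comp (AlgSt.subIncl 𝒳 (QT (⋃₀ 𝔉))) f) y).p :=
      isFibGrpd_fp _ _ h𝒬.isStack.1 (isFibGrpd_over_forget V) h𝒴.isStack.1
    have hU' : IsFibGrpd (FibCat.overCat (chartOver h𝒳 (⋃₀ 𝔉) hT x)).p :=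
      isFibGrpd_over_forget _
    have hxT : AlgSt.RepByAlgSpWith (AlgSp.LocP @Smooth) xT :=
      repWith_comp' hU' hfib _ hIs hLs comp_locP_smooth _
        (fpFst (BasedFunctor.comp (AlgSt.subIncl 𝒳 (QT (⋃₀ 𝔉))) f) y) hℓT
        (repWith_baseChange _ y _ hy)
    have hxT' : AlgSt.RepByAlgSpWith AlgSp.IsSurjectiveMor xT :=
      repWith_comp' hU' hfib _ isoInv_isSurjectiveMor schemeTestable_isSurjectiveMor
        comp_isSurjectiveMor _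
        (fpFst (BasedFunctor.comp (AlgSt.subIncl 𝒳 (QT (⋃₀ 𝔉))) f) y) hℓT'
        (repWith_baseChange _ y _ hy')
    have key : ∀ z : ↥(chartOver h𝒳 (⋃₀ 𝔉) hT x).left, ∃ O : U.left.Opens,
        (chartIncl h𝒳 (⋃₀ 𝔉) hT x).left z ∈ O ∧ Smooth (O.ι ≫ a.left) := by
      intro z
      obtain ⟨T', ⟨hT'o, hT'loc⟩, hzT'⟩ :=
        Set.mem_sUnion.1 (ι_mem_chartOpen h𝒳 (⋃₀ 𝔉) hT x z)
      refine ⟨chartOpen h𝒳 T' hT'o x, hzT', ?_⟩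
      obtain ⟨x', γ', hR'⟩ := exists_restricted_chart h𝒳 h𝒴 f T' hT'o x y a α
      have hℓ'' := hR' _ hIs hLs comp_locP_smooth (repWith_smooth_id_overCat _) hℓ
      have h𝒬' : AlgSt.IsAlgStack Scheme.fppfPrecoverage (AlgSt.fullSub 𝒳 (QT T')) :=
        (isOpenSubstack_QT h𝒳 T' hT'o).2.1
      have hP := goodSch_of_locQ h𝒬'.isStack.1 h𝒴.isStack.1 _ isSmoothLocalST_smooth _ hT'loc
        _ V x' y (chartIncl h𝒳 T' hT'o x ≫ a) γ' hy hℓ''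
      exact AlgSp.locP_yon_map hP
    choose O hO hOs using key
    have hsup : (⨆ z, (chartOpen h𝒳 (⋃₀ 𝔉) hT x).ι ⁻¹ᵁ O z) = ⊤ :=
      top_le_iff.mp fun z _ => TopologicalSpace.Opens.mem_iSup.2 ⟨z, hO z⟩
    have hsm : Smooth ((chartOpen h𝒳 (⋃₀ 𝔉) hT x).ι ≫ a.left) := by
      refine IsZariskiLocalAtSource.of_iSup_eq_top (P := @Smooth) _ hsup fun z => ?_
      rw [← Category.assoc, ← morphismRestrict_ι, Category.assoc]
      have := hOs z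
      infer_instance
    exact ⟨chartOver h𝒳 (⋃₀ 𝔉) hT x, V, xT, y, chartIncl h𝒳 (⋃₀ 𝔉) hT x ≫ a, γT, hxT, hxT', hy,
      locP_yon_map_of @Smooth (fun _ _ g (_ : Etale g) => (inferInstance : Smooth g)) _ hsm⟩
  · intro Q' hQ' hLoc b hb
    have hQeq : Q' = QT (Set.range (AlgSt.Points.map (AlgSt.subIncl 𝒳 Q'))) :=
      funext fun c => propext ⟨fun hc => qT_of_mem hQ'.2.1.isStack.1 h𝒳.isStack.1 hc,
        fun hc => mem_of_qT_range h𝒳 hQ' hc⟩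
    have hmem : Set.range (AlgSt.Points.map (AlgSt.subIncl 𝒳 Q')) ∈ 𝔉 :=
      ⟨isOpen_range_of_isOpenSubstack h𝒳 hQ', locQ_subIncl_congr f hQeq _ hLoc⟩
    exact qT_mono (Set.subset_sUnion_of_mem hmem)
      (qT_of_mem hQ'.2.1.isStack.1 h𝒳.isStack.1 hb)

end stk

end Groth.Agent.Lib.AlgStLocQ
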