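import Groth.Agent.Lib.AlgStOpenSub3_lead
import Groth.Agent.Lib.AlgStSmoothLocus_lead
import Groth.Agent.Lib.AlgSpTop_helper7
import Groth.Agent.Lib.AlgSpUniv_helper7

/-! # The largest smooth open substack and precomposition with smooth morphisms (lead) -/

set_option autoImplicit false

universe w v₁ v₂ v₃ v₄ v₅ v₆ u₁ u₂ u₃ u₄ u₅ u₆ u

open CategoryTheory CategoryTheory.Limits AlgebraicGeometry Opposite FibCat Stk

namespace Groth.Agent.Lib.AlgStLocQ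

open AlgSt Groth.Agent.Lib.FibCat_helper6 Groth.Agent.Lib.FibCat3_helper6
  Groth.Agent.Lib.FibCat14_helper6 Groth.Agent.Lib.FibCat12_helper6
  Groth.Agent.Lib.FibCatPaste Groth.Agent.Lib.FibCatSwap
  Groth.Agent.Lib.FibCatIsoFun
  Groth.Agent.Lib.OfPshCalc Groth.Agent.Lib.AlgStBC
  Groth.Agent.Lib.AlgStEquiv Groth.Agent.Lib.AlgStEquivP Groth.Agent.Lib.AlgStEquivInv
  Groth.Agent.Lib.OfPshAlgSt Groth.Agent.Lib.LiftSqBC Groth.Agent.Lib.LiftSqComp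
  Groth.Agent.Lib.OfPshWith Groth.Agent.Lib.FibCatDiagSec Groth.Agent.Lib.AlgStDiagRep
  Groth.Agent.Lib.FibCatDiagBC Groth.Agent.Lib.FibCatMagic Groth.Agent.Lib.FibCatProd
  Groth.Agent.Lib.AlgStDiag Groth.Agent.Lib.AlgStLocal
  Groth.Agent.Lib.AlgSpQC_helper7 Groth.Agent.Lib.AlgSpDiag_helper7
  Groth.Agent.Lib.AlgSpPullback_helper7 Groth.Agent.Lib.AlgSpRepBySp_helper7
  Groth.Agent.Lib.AlgSpPoints_helper7 Groth.Agent.Lib.AlgSpLocP_helper7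
  Groth.Agent.Lib.AlgSpBasic_helper7 Groth.Agent.Lib.AlgSpSep_helper7
  Groth.Agent.Lib.AlgSpLocP4_helper7 Groth.Agent.Lib.AlgSpLocP5_helper7
  Groth.Agent.Lib.AlgSpLocP7_helper7 Groth.Agent.Lib.AlgSpQC2_helper7
  Groth.Agent.Lib.AlgSpLocP8_helper7 Groth.Agent.Lib.AlgSpLocP10_helper7
  Groth.Agent.Lib.AlgSpFpqc3_helper7 Groth.Agent.Lib.AlgSpLocP6_helper7
  Groth.Agent.Lib.AlgSpFpqc2_helper7 Groth.Agent.Lib.AlgSpFpqc_helper7
  Groth.Agent.Lib.AlgSpProper_helper7 Groth.Agent.Lib.AlgSpAffineMorH7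
  Groth.Agent.Lib.AlgStAtlas Groth.Agent.Lib.AlgStPoints Groth.Agent.Lib.AlgStPtsCmp
  Groth.Agent.Lib.FibCatYoneda_helper6


/-! ### A scheme-level lemma -/

/-- For a smooth `b`, the composite `b ≫ a` is smooth near `u'` iff `a` is smooth near `b u'`. -/
theorem exists_smooth_nhd_comp_iff {X' X Y : Scheme.{u}} (b : X' ⟶ X) [Smooth b] (a : X ⟶ Y)
    (u' : ↥X') :
    (∃ N : X'.Opens, u' ∈ N ∧ Smooth (N.ι ≫ b ≫ a)) ↔
      (∃ O : X.Opens, b u' ∈ O ∧ Smooth (O.ι ≫ a)) := by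
  constructor
  · rintro ⟨N, hN, hs⟩
    have hc : Smooth (N.ι ≫ b) := inferInstance
    have hopen : IsOpen (Set.range (N.ι ≫ b)) := (N.ι ≫ b).isOpenMap.isOpen_range
    let O : X.Opens := ⟨Set.range (N.ι ≫ b), hopen⟩
    have hsub : Set.range (N.ι ≫ b) ⊆ Set.range O.ι := by
      rw [Scheme.Opens.range_ι]; exact subset_rfl
    let c' : N.toScheme ⟶ O.toScheme := IsOpenImmersion.lift O.ι (N.ι ≫ b) hsub
    have hc' : c' ≫ O.ι = N.ι ≫ b := IsOpenImmersion.lift_fac _ _ _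
    have hc's : Smooth c' :=
      MorphismProperty.of_postcomp (W := @Smooth) (W' := @IsOpenImmersion) c' O.ι
        inferInstance (by rw [hc']; exact hc)
    have hsurj : Surjective c' := by
      refine ⟨fun z => ?_⟩
      have hz : O.ι z ∈ (O : Set ↥X) := by
        rw [← Scheme.Opens.range_ι]; exact Set.mem_range_self z
      obtain ⟨n, hn⟩ := hz
      refine ⟨n, ?_⟩
      apply O.ι.isOpenEmbedding.injective
      rw [← Scheme.Hom.comp_apply, hc']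
      exact hn
    have hcomp : Smooth (c' ≫ O.ι ≫ a) := by
      rw [← Category.assoc, hc', Category.assoc]; exact hs
    refine ⟨O, ?_, Groth.Agent.Lib.SmoothSrcDesc.smooth_of_comp_smooth_surjective c' (O.ι ≫ a)⟩
    obtain ⟨n, rfl⟩ : u' ∈ Set.range N.ι := by
      rw [Scheme.Opens.range_ι]; exact hN
    exact ⟨n, Scheme.Hom.comp_apply _ _ _⟩
  · rintro ⟨O, hO, hs⟩
    refine ⟨b ⁻¹ᵁ O, hO, ?_⟩
    rw [← Category.assoc, ← morphismRestrict_ι, Category.assoc]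
    infer_instance

variable {S : Scheme.{u}}

section stk

variable {𝒳 𝒴 𝒵 : AlgSt.Cat S}

/-- The points of the full substack on `Q`. -/
abbrev ptsOf (𝒳 : AlgSt.Cat S) (Q : 𝒳.obj → Prop) : Set (AlgSt.Points 𝒳) :=
  Set.range (AlgSt.Points.map (AlgSt.subIncl 𝒳 Q))

/-- `exists_comp_chart` together with an isomorphism of the new chart with the old one. -/
theorem exists_comp_chart' {𝒰 𝒱 𝒲 : AlgSt.Cat S}
    (f : 𝒳 ⥤ᵇ 𝒴) (g : 𝒴 ⥤ᵇ 𝒵) (x : 𝒰 ⥤ᵇ 𝒳) (y : 𝒱 ⥤ᵇ 𝒴) (w : 𝒲 ⥤ᵇ 𝒵)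
    (η : 𝒰 ⥤ᵇ 𝒱) (κ : 𝒱 ⥤ᵇ 𝒲)
    (α : BasedFunctor.comp x f ≅ BasedFunctor.comp η y)
    (β : BasedFunctor.comp y g ≅ BasedFunctor.comp κ w)
    (b : 𝒰 ⥤ᵇ 𝒲) (ι₀ : BasedFunctor.comp η κ ≅ b)
    (h𝒰 : IsFibGrpd 𝒰.p) (h𝒱 : IsFibGrpd 𝒱.p)
    (h𝒲 : IsFibGrpd 𝒲.p) (h𝒳 : IsFibGrpd 𝒳.p) (h𝒴 : IsFibGrpd 𝒴.p) (h𝒵 : IsFibGrpd 𝒵.p) :
    ∃ (x' : 𝒰 ⥤ᵇ 𝒳)
      (γ : BasedFunctor.comp x' (BasedFunctor.comp f g) ≅ BasedFunctor.comp b w),
      Nonempty (x' ≅ x) ∧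
      ∀ Q : MorphismProperty (AlgSp.Sp S), IsoInv Q → SchemeTestable Q →
        (∀ ⦃X₁ Y₁ Z₁ : AlgSp.Sp S⦄, AlgSp.IsAlgSpace X₁ → AlgSp.IsAlgSpace Y₁ →
          AlgSp.IsAlgSpace Z₁ → ∀ (a : X₁ ⟶ Y₁) (c : Y₁ ⟶ Z₁), Q a → Q c → Q (a ≫ c)) →
        AlgSt.RepByAlgSpWith Q (fpLift x η α) → AlgSt.RepByAlgSpWith Q (fpLift y κ β) →
        AlgSt.RepByAlgSpWith Q (fpLift x' b γ) := by
  let ℓg : 𝒱 ⥤ᵇ fp g w := fpLift y κ β
  let π : fp g w ⥤ᵇ 𝒴 := fpFst g w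
  let ℓf : 𝒰 ⥤ᵇ fp f (BasedFunctor.comp ℓg π) := fpLift x η α
  let Pc : fp f (BasedFunctor.comp ℓg π) ⥤ᵇ fp f π := precomp f π ℓg
  obtain ⟨D, ⟨ηD⟩, ⟨ζD⟩⟩ := paste_isEquivOver f g w
  have hD : IsEquivOver D := isEquivOver_inverse ηD ζD
  let L : 𝒰 ⥤ᵇ fp (BasedFunctor.comp f g) w := BasedFunctor.comp (BasedFunctor.comp ℓf Pc) D
  have ι : BasedFunctor.comp L (fpSnd (BasedFunctor.comp f g) w) ≅ b :=
    (whiskerLeftIso (BasedFunctor.comp ℓf Pc)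
      (whiskerRightIso ζD (BasedFunctor.comp (fpSnd f π) (fpSnd g w)))) ≪≫ ι₀
  have ιx : BasedFunctor.comp L (fpFst (BasedFunctor.comp f g) w) ≅ x :=
    whiskerLeftIso (BasedFunctor.comp ℓf Pc) (whiskerRightIso ζD (fpFst f π))
  have hfp : IsFibGrpd (fp (BasedFunctor.comp f g) w).p :=
    isFibGrpd_fp (BasedFunctor.comp f g) w h𝒳 h𝒲 h𝒵
  obtain ⟨κ'⟩ := fpLift_eta_iso hfp L ι
  refine ⟨BasedFunctor.comp L (fpFst (BasedFunctor.comp f g) w), etaIso L ι, ⟨ιx⟩,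
    fun Q hI hLt hQc hf hg => ?_⟩
  have hmid : IsFibGrpd (fp f (BasedFunctor.comp ℓg π)).p :=
    isFibGrpd_fp f (BasedFunctor.comp ℓg π) h𝒳 h𝒱 h𝒴
  have h1 : AlgSt.RepByAlgSpWith Q Pc := repWith_precomp_bc Q f π ℓg hg
  have h2 : AlgSt.RepByAlgSpWith Q (BasedFunctor.comp ℓf Pc) :=
    repWith_comp' h𝒰 hmid Q hI hLt hQc ℓf Pc hf h1
  have h3 : AlgSt.RepByAlgSpWith Q L := repWith_postcomp_equiv Q _ D hD h2
  exact repWith_of_iso Q κ'.symm h3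

/-- Points of `g a'` and points of `a'`. -/
theorem qT_map_obj_iff {𝒳' : AlgSt.Cat S} (h𝒳' : IsFibGrpd 𝒳'.p) (h𝒳 : IsFibGrpd 𝒳.p)
    (g : 𝒳' ⥤ᵇ 𝒳) (T : Set (AlgSt.Points 𝒳)) (a' : 𝒳'.obj) :
    QT T (g.obj a') ↔ QT (AlgSt.Points.map g ⁻¹' T) a' := by
  constructor
  · intro h p' φ'
    exact h (p'.map g) (g.map φ')
  · intro h p φ
    let γ : Over.mk p.str ⟶ 𝒳'.p.obj a' := baseHom φ p.lies (g.w_obj a')
    have hγ : 𝒳.p.IsHomLift γ φ := baseHom_isHomLift φ p.lies (g.w_obj a')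
    obtain ⟨v', ψ, hψ⟩ := h𝒳'.exists_lift (x := a') γ
    have hm : 𝒳.p.IsHomLift γ (g.map ψ) := (BasedFunctor.isHomLift_iff g γ ψ).2 hψ
    obtain ⟨χ, -, -⟩ := exists_hom_of_lifts h𝒳 γ φ (g.map ψ) hγ hm
    have hv' : 𝒳'.p.obj v' = Over.mk p.str := IsHomLift.domain_eq 𝒳'.p γ ψ
    have h1 : AlgSt.Points.map g (AlgSt.Points.mk ⟨p.K, p.str, v', hv'⟩) ∈ T :=
      h ⟨p.K, p.str, v', hv'⟩ ψ
    have e : AlgSt.Points.mk p =
        AlgSt.Points.map g (AlgSt.Points.mk ⟨p.K, p.str, v', hv'⟩) :=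
      AlgSt.Points.sound ⟨p, 𝟙 _, χ, trivial⟩
    rw [e]
    exact h1

/-- The image of a smooth morphism: openness, and smoothness and surjectivity of the
corestriction. -/
theorem liftSub_range_props {𝒱 : AlgSt.Cat S}
    (h𝒱 : AlgSt.IsAlgStack Scheme.fppfPrecoverage 𝒱)
    (h𝒳 : AlgSt.IsAlgStack Scheme.fppfPrecoverage 𝒳) (G : 𝒱 ⥤ᵇ 𝒳)
    (hG : AlgSt.RepByAlgSpWith (AlgSp.LocP @Smooth) G) :
    IsOpen (Set.range (AlgSt.Points.map G)) ∧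
      AlgSt.RepByAlgSpWith (AlgSp.LocP @Smooth)
        (liftSub (QT (Set.range (AlgSt.Points.map G))) G
          (qT_range_obj h𝒱.isStack.1 h𝒳.isStack.1 G)) ∧
      AlgSt.RepByAlgSpWith AlgSp.IsSurjectiveMor
        (liftSub (QT (Set.range (AlgSt.Points.map G))) G
          (qT_range_obj h𝒱.isStack.1 h𝒳.isStack.1 G)) := by
  have hT : IsOpen (Set.range (AlgSt.Points.map G)) := by
    rw [← Set.image_univ]
    exact isOpenMap_points_map h𝒱 h𝒳 G (repWith_flat_of_smooth G hG)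
      (repWith_lfp_of_smooth G hG) _ isOpen_univ
  have hQ := isOpenSubstack_QT h𝒳 _ hT
  have hobj : ∀ v, QT (Set.range (AlgSt.Points.map G)) (G.obj v) :=
    qT_range_obj h𝒱.isStack.1 h𝒳.isStack.1 G
  have hg₁ : AlgSt.RepByAlgSpWith (AlgSp.LocP @Smooth)
      (liftSub (QT (Set.range (AlgSt.Points.map G))) G hobj) :=
    repWith_of_twoCart (g := AlgSt.subIncl 𝒳 (QT (Set.range (AlgSt.Points.map G)))) (f := G)
      (AlgSp.LocP @Smooth) (liftSub (QT (Set.range (AlgSt.Points.map G))) G hobj)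
      (BasedFunctor.id 𝒱) (imgIso _ G hobj) (imgLift_isEquivOver _ G hobj) hG
  refine ⟨hT, hg₁, ?_⟩
  refine (isSurjective_iff_repWith h𝒱.isStack.1 hQ.2.1.isStack.1 _
    (repByAlgSp1_of_repWith _ hg₁)).1 ?_
  intro s
  have hmem : AlgSt.Points.map (AlgSt.subIncl 𝒳 (QT (Set.range (AlgSt.Points.map G)))) s ∈
      Set.range (AlgSt.Points.map G) := by
    have h0 := Set.mem_range_self
      (f := AlgSt.Points.map (AlgSt.subIncl 𝒳 (QT (Set.range (AlgSt.Points.map G))))) s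
    rwa [range_subIncl_QT] at h0
  obtain ⟨t, ht⟩ := hmem
  have e1 : AlgSt.Points.map (AlgSt.subIncl 𝒳 (QT (Set.range (AlgSt.Points.map G))))
      (AlgSt.Points.map (liftSub (QT (Set.range (AlgSt.Points.map G))) G hobj) t) =
      AlgSt.Points.map G t := by
    obtain ⟨p, rfl⟩ := AlgSt.Points.mk_surjective t
    rfl
  exact ⟨t, injective_points_subIncl h𝒳.isStack.1 _ (fun φ h => qT_of_hom φ h)
    (e1.trans ht)⟩

/-- On a good square of charts of `f`, the top arrow is smooth on the preimage of an open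
substack on which `f` is smooth. -/
theorem smooth_on_chartOpen (h𝒳 : AlgSt.IsAlgStack Scheme.fppfPrecoverage 𝒳)
    (h𝒴 : AlgSt.IsAlgStack Scheme.fppfPrecoverage 𝒴) (f : 𝒳 ⥤ᵇ 𝒴) (Q : 𝒳.obj → Prop)
    (hQ₁ : AlgSt.IsOpenSubstack 𝒳 Q Scheme.fppfPrecoverage)
    (hQ₂ : AlgSt.LocQ (AlgSp.LocP @Smooth) (BasedFunctor.comp (AlgSt.subIncl 𝒳 Q) f))
    {U V : Over S} (x : FibCat.overCat U ⥤ᵇ 𝒳) (y : FibCat.overCat V ⥤ᵇ 𝒴) (a : U ⟶ V)
    (α : BasedFunctor.comp x f ≅ BasedFunctor.comp (AlgSt.overMap a) y)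
    (hy : AlgSt.RepByAlgSpWith (AlgSp.LocP @Smooth) y)
    (hℓ : AlgSt.RepByAlgSpWith (AlgSp.LocP @Smooth) (fpLift x (AlgSt.overMap a) α)) :
    Smooth ((chartOpen h𝒳 (ptsOf 𝒳 Q) (isOpen_range_of_isOpenSubstack h𝒳 hQ₁) x).ι ≫
      a.left) := by
  have hIs : IsoInv (AlgSp.LocP @Smooth : MorphismProperty (AlgSp.Sp S)) :=
    isoInv_locP _ etLocal_smooth
  have hLs : SchemeTestable (AlgSp.LocP @Smooth : MorphismProperty (AlgSp.Sp S)) :=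
    schemeTestable_locP _
  have hQeq : Q = QT (ptsOf 𝒳 Q) :=
    funext fun c => propext ⟨fun hc => qT_of_mem hQ₁.2.1.isStack.1 h𝒳.isStack.1 hc,
      fun hc => mem_of_qT_range h𝒳 hQ₁ hc⟩
  have hLoc : AlgSt.LocQ (AlgSp.LocP @Smooth)
      (BasedFunctor.comp (AlgSt.subIncl 𝒳 (QT (ptsOf 𝒳 Q))) f) :=
    locQ_subIncl_congr f hQeq _ hQ₂
  obtain ⟨x', γ', hR'⟩ := exists_restricted_chart h𝒳 h𝒴 f (ptsOf 𝒳 Q)
    (isOpen_range_of_isOpenSubstack h𝒳 hQ₁) x y a α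
  have hℓ'' := hR' _ hIs hLs comp_locP_smooth (repWith_smooth_id_overCat _) hℓ
  have h𝒬' : AlgSt.IsAlgStack Scheme.fppfPrecoverage (AlgSt.fullSub 𝒳 (QT (ptsOf 𝒳 Q))) :=
    (isOpenSubstack_QT h𝒳 _ (isOpen_range_of_isOpenSubstack h𝒳 hQ₁)).2.1
  have hP := goodSch_of_locQ h𝒬'.isStack.1 h𝒴.isStack.1 _ isSmoothLocalST_smooth _ hLoc
    _ V x' y (chartIncl h𝒳 (ptsOf 𝒳 Q) (isOpen_range_of_isOpenSubstack h𝒳 hQ₁) x ≫ a) γ' hy hℓ''
  exact AlgSp.locP_yon_map hP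

/-- If the top arrow of a square of smooth charts of `f` is smooth near `u`, then the point of
`u` lies in every open substack that contains all open substacks on which `f` is smooth. -/
theorem mem_ptsOf_of_smooth_nhd (h𝒳 : AlgSt.IsAlgStack Scheme.fppfPrecoverage 𝒳)
    (f : 𝒳 ⥤ᵇ 𝒴) (Q : 𝒳.obj → Prop)
    (hQ₃ : ∀ Q' : 𝒳.obj → Prop, AlgSt.IsOpenSubstack 𝒳 Q' Scheme.fppfPrecoverage →
      AlgSt.LocQ (AlgSp.LocP @Smooth) (BasedFunctor.comp (AlgSt.subIncl 𝒳 Q') f) →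
      ∀ a, Q' a → Q a)
    {U V : Over S} (x : FibCat.overCat U ⥤ᵇ 𝒳) (y : FibCat.overCat V ⥤ᵇ 𝒴) (a : U ⟶ V)
    (α : BasedFunctor.comp x f ≅ BasedFunctor.comp (AlgSt.overMap a) y)
    (hx : AlgSt.RepByAlgSpWith (AlgSp.LocP @Smooth) x)
    (hy : AlgSt.RepByAlgSpWith (AlgSp.LocP @Smooth) y)
    (O : U.left.Opens) (hO : Smooth (O.ι ≫ a.left)) (u : ↥U.left) (hu : u ∈ O) :
    AlgSt.Points.ofChart x u ∈ ptsOf 𝒳 Q := by
  have hIs : IsoInv (AlgSp.LocP @Smooth : MorphismProperty (AlgSp.Sp S)) :=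
    isoInv_locP _ etLocal_smooth
  have hLs : SchemeTestable (AlgSp.LocP @Smooth : MorphismProperty (AlgSp.Sp S)) :=
    schemeTestable_locP _
  let O' : Over S := Over.mk (O.ι ≫ U.hom)
  let jO : O' ⟶ U := Over.homMk O.ι rfl
  have hjO : AlgSt.RepByAlgSpWith (AlgSp.LocP @Smooth) (AlgSt.overMap jO) :=
    repWith_overMap _ (bc_locP _ etLocal_smooth) jO
      (locP_yon_map_of @Smooth (fun _ _ g (_ : Etale g) => (inferInstance : Smooth g)) jO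
        (show Smooth O.ι from inferInstance))
  have hG : AlgSt.RepByAlgSpWith (AlgSp.LocP @Smooth) (BasedFunctor.comp (AlgSt.overMap jO) x) :=
    repWith_comp' (isFibGrpd_over_forget O') (isFibGrpd_over_forget U) _ hIs hLs
      comp_locP_smooth (AlgSt.overMap jO) x hjO hx
  obtain ⟨hT, hg₁, hg₂⟩ := liftSub_range_props (isAlgStack_overCat O') h𝒳
    (BasedFunctor.comp (AlgSt.overMap jO) x) hG
  have αO : BasedFunctor.comp
      (liftSub (QT (Set.range (AlgSt.Points.map (BasedFunctor.comp (AlgSt.overMap jO) x))))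
        (BasedFunctor.comp (AlgSt.overMap jO) x)
        (qT_range_obj (isAlgStack_overCat O').isStack.1 h𝒳.isStack.1 _))
      (BasedFunctor.comp (AlgSt.subIncl 𝒳
        (QT (Set.range (AlgSt.Points.map (BasedFunctor.comp (AlgSt.overMap jO) x))))) f) ≅
      BasedFunctor.comp (AlgSt.overMap (jO ≫ a)) y :=
    (show _ ≅ BasedFunctor.comp (AlgSt.overMap jO) (BasedFunctor.comp (AlgSt.overMap a) y) from
      whiskerLeftIso (AlgSt.overMap jO) α) ≪≫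
      eqToIso (congrArg (fun t => BasedFunctor.comp t y) (overMap_comp jO a).symm)
  have hLoc : AlgSt.LocQ (AlgSp.LocP @Smooth) (BasedFunctor.comp (AlgSt.subIncl 𝒳
      (QT (Set.range (AlgSt.Points.map (BasedFunctor.comp (AlgSt.overMap jO) x))))) f) :=
    ⟨O', V, _, y, jO ≫ a, αO, hg₁, hg₂, hy,
      locP_yon_map_of @Smooth (fun _ _ g (_ : Etale g) => (inferInstance : Smooth g))
        (jO ≫ a) hO⟩
  have hsub := hQ₃ _ (isOpenSubstack_QT h𝒳 _ hT) hLoc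
  obtain ⟨o, rfl⟩ : u ∈ Set.range O.ι := by
    rw [Scheme.Opens.range_ι]; exact hu
  have h1 : AlgSt.Points.ofChart x (O.ι o) ∈
      Set.range (AlgSt.Points.map (BasedFunctor.comp (AlgSt.overMap jO) x)) := by
    refine ⟨pt O' o, ?_⟩
    rw [← ofChart_eq_map_pt, ofChart_overMap_comp]
    rfl
  rw [← range_subIncl_QT
    (Set.range (AlgSt.Points.map (BasedFunctor.comp (AlgSt.overMap jO) x)))] at h1
  obtain ⟨s, hs⟩ := h1
  obtain ⟨q, rfl⟩ := AlgSt.Points.mk_surjective s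
  exact ⟨AlgSt.Points.mk ⟨q.K, q.str, ⟨q.obj.obj, hsub _ q.obj.property⟩, q.lies⟩, hs⟩

/-- S19902. -/
theorem largest_smooth_open_precomp {𝒳' : AlgSt.Cat S}
    (h𝒳' : AlgSt.IsAlgStack Scheme.fppfPrecoverage 𝒳')
    (h𝒳 : AlgSt.IsAlgStack Scheme.fppfPrecoverage 𝒳)
    (h𝒴 : AlgSt.IsAlgStack Scheme.fppfPrecoverage 𝒴)
    (g : 𝒳' ⥤ᵇ 𝒳) (hg : AlgSt.LocQ (AlgSp.LocP @Smooth) g) (f : 𝒳 ⥤ᵇ 𝒴)
    (Q : 𝒳.obj → Prop) (hQ₁ : AlgSt.IsOpenSubstack 𝒳 Q Scheme.fppfPrecoverage)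
    (hQ₂ : AlgSt.LocQ (AlgSp.LocP @Smooth) (BasedFunctor.comp (AlgSt.subIncl 𝒳 Q) f))
    (hQ₃ : ∀ Q' : 𝒳.obj → Prop, AlgSt.IsOpenSubstack 𝒳 Q' Scheme.fppfPrecoverage →
      AlgSt.LocQ (AlgSp.LocP @Smooth) (BasedFunctor.comp (AlgSt.subIncl 𝒳 Q') f) →
      ∀ a, Q' a → Q a) :
    AlgSt.IsOpenSubstack 𝒳' (fun a ↦ Q (g.obj a)) Scheme.fppfPrecoverage ∧
      AlgSt.LocQ (AlgSp.LocP @Smooth)
        (BasedFunctor.comp (AlgSt.subIncl 𝒳' (fun a ↦ Q (g.obj a))) (BasedFunctor.comp g f)) ∧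
      ∀ Q' : 𝒳'.obj → Prop, AlgSt.IsOpenSubstack 𝒳' Q' Scheme.fppfPrecoverage →
        AlgSt.LocQ (AlgSp.LocP @Smooth)
          (BasedFunctor.comp (AlgSt.subIncl 𝒳' Q') (BasedFunctor.comp g f)) →
        ∀ a, Q' a → Q (g.obj a) := by
  have hIs : IsoInv (AlgSp.LocP @Smooth : MorphismProperty (AlgSp.Sp S)) :=
    isoInv_locP _ etLocal_smooth
  have hLs : SchemeTestable (AlgSp.LocP @Smooth : MorphismProperty (AlgSp.Sp S)) :=
    schemeTestable_locP _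
  obtain ⟨Q₀, hQ₀₁, hQ₀₂, hQ₀₃⟩ := exists_largest_smooth_open h𝒳' h𝒴 (BasedFunctor.comp g f)
  obtain ⟨V, y, hy, hy'⟩ := h𝒴.atlas
  obtain ⟨U, a, x, α, hx, hxs, hℓ, -⟩ := exists_good_chart_over h𝒳 h𝒴 f V y hy
  obtain ⟨U', b, x', β, hx', hxs', hℓg, -⟩ := exists_good_chart_over h𝒳' h𝒳 g U x hx
  have hb : Smooth b.left :=
    AlgSp.locP_yon_map (goodSch_of_locQ h𝒳'.isStack.1 h𝒳.isStack.1 _ isSmoothLocalST_smooth g hg
      U' U x' x b β hx hℓg)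
  obtain ⟨x'', γ, ⟨ιx⟩, hγ⟩ := exists_comp_chart' g f x' x y (AlgSt.overMap b) (AlgSt.overMap a)
    β α (AlgSt.overMap (b ≫ a)) (eqToIso (overMap_comp b a).symm)
    (isFibGrpd_over_forget U') (isFibGrpd_over_forget U) (isFibGrpd_over_forget V)
    h𝒳'.isStack.1 h𝒳.isStack.1 h𝒴.isStack.1
  have hℓ'' := hγ _ hIs hLs comp_locP_smooth hℓg hℓ
  have hx'' : AlgSt.RepByAlgSpWith (AlgSp.LocP @Smooth) x'' := repWith_of_iso _ ιx.symm hx'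
  have hsurj : Function.Surjective (AlgSt.Points.ofChart x') :=
    ofChart_surjective_of_repWith h𝒳'.isStack.1 x' (hxs' (hxs hy'))
  have hP : ∀ u' : ↥U'.left, AlgSt.Points.ofChart x' u' ∈ ptsOf 𝒳' Q₀ ↔
      AlgSt.Points.map g (AlgSt.Points.ofChart x' u') ∈ ptsOf 𝒳 Q := by
    intro u'
    have e1 : AlgSt.Points.map g (AlgSt.Points.ofChart x' u') =
        AlgSt.Points.ofChart x (b.left u') := by
      rw [← ofChart_comp, ofChart_congr_iso β, ofChart_overMap_comp]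
    rw [e1, ofChart_congr_iso ιx.symm u']
    constructor
    · intro h
      have h1 : ∃ N : U'.left.Opens, u' ∈ N ∧ Smooth (N.ι ≫ b.left ≫ a.left) :=
        ⟨chartOpen h𝒳' (ptsOf 𝒳' Q₀) (isOpen_range_of_isOpenSubstack h𝒳' hQ₀₁) x'', h,
          smooth_on_chartOpen h𝒳' h𝒴 (BasedFunctor.comp g f) Q₀ hQ₀₁ hQ₀₂ x'' y (b ≫ a) γ hy hℓ''⟩
      obtain ⟨O, hO, hOs⟩ := (exists_smooth_nhd_comp_iff b.left a.left u').1 h1
      exact mem_ptsOf_of_smooth_nhd h𝒳 f Q hQ₃ x y a α hx hy O hOs (b.left u') hO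
    · intro h
      have h1 : ∃ O : U.left.Opens, b.left u' ∈ O ∧ Smooth (O.ι ≫ a.left) :=
        ⟨chartOpen h𝒳 (ptsOf 𝒳 Q) (isOpen_range_of_isOpenSubstack h𝒳 hQ₁) x, h,
          smooth_on_chartOpen h𝒳 h𝒴 f Q hQ₁ hQ₂ x y a α hy hℓ⟩
      obtain ⟨N, hN, hNs⟩ := (exists_smooth_nhd_comp_iff b.left a.left u').2 h1
      exact mem_ptsOf_of_smooth_nhd h𝒳' (BasedFunctor.comp g f) Q₀ hQ₀₃ x'' y (b ≫ a) γ hx'' hy
        N hNs u' hN
  have hTeq : ptsOf 𝒳' Q₀ = AlgSt.Points.map g ⁻¹' ptsOf 𝒳 Q := by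
    ext p'
    obtain ⟨u', rfl⟩ := hsurj p'
    exact hP u'
  have hEq : Q₀ = fun a' => Q (g.obj a') := by
    funext a'
    apply propext
    constructor
    · intro h
      have h1 : QT (ptsOf 𝒳' Q₀) a' := qT_of_mem hQ₀₁.2.1.isStack.1 h𝒳'.isStack.1 h
      rw [hTeq] at h1
      exact mem_of_qT_range h𝒳 hQ₁
        ((qT_map_obj_iff h𝒳'.isStack.1 h𝒳.isStack.1 g _ a').2 h1)
    · intro h
      have h1 : QT (ptsOf 𝒳 Q) (g.obj a') := qT_of_mem hQ₁.2.1.isStack.1 h𝒳.isStack.1 h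
      have h2 := (qT_map_obj_iff h𝒳'.isStack.1 h𝒳.isStack.1 g _ a').1 h1
      rw [← hTeq] at h2
      exact mem_of_qT_range h𝒳' hQ₀₁ h2
  subst hEq
  exact ⟨hQ₀₁, hQ₀₂, hQ₀₃⟩

end stk

end Groth.Agent.Lib.AlgStLocQ
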