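import Groth.Agent.Lib.AlgStTop_lead
import Mathlib.Topology.NoetherianSpace
import Mathlib.Topology.Sober
import Mathlib.AlgebraicGeometry.Noetherian

/-! # Topological properties of the points of an algebraic stack (lead) -/

set_option autoImplicit false

universe w v₁ v₂ v₃ v₄ v₅ v₆ u₁ u₂ u₃ u₄ u₅ u₆ u

open CategoryTheory CategoryTheory.Limits AlgebraicGeometry Opposite FibCat Stk

namespace Groth.Agent.Lib.AlgStLocQ

open AlgSt Groth.Agent.Lib.FibCat_helper6 Groth.Agent.Lib.FibCat3_helper6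
  Groth.Agent.Lib.FibCat14_helper6 Groth.Agent.Lib.FibCat12_helper6
  Groth.Agent.Lib.FibCatPaste Groth.Agent.Lib.FibCatSwap
  Groth.Agent.Lib.FibCatIsoFun
  Groth.Agent.Lib.OfPshCalc Groth.Agent.Lib.AlgStBC
  Groth.Agent.Lib.AlgStEquiv Groth.Agent.Lib.AlgStEquivP Groth.Agent.Lib.AlgStEquivInv
  Groth.Agent.Lib.OfPshAlgSt Groth.Agent.Lib.LiftSqBC Groth.Agent.Lib.LiftSqComp
  Groth.Agent.Lib.OfPshWith Groth.Agent.Lib.FibCatDiagSec Groth.Agent.Lib.AlgStDiagRep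
  Groth.Agent.Lib.FibCatDiagBC Groth.Agent.Lib.FibCatMagic Groth.Agent.Lib.FibCatProd
  Groth.Agent.Lib.AlgStDiag Groth.Agent.Lib.AlgStLocal
  Groth.Agent.Lib.AlgSpQC_helper7 Groth.Agent.Lib.AlgSpDiag_helper7
  Groth.Agent.Lib.AlgSpPullback_helper7 Groth.Agent.Lib.AlgSpRepBySp_helper7
  Groth.Agent.Lib.AlgSpPoints_helper7 Groth.Agent.Lib.AlgSpLocP_helper7
  Groth.Agent.Lib.AlgSpBasic_helper7 Groth.Agent.Lib.AlgSpSep_helper7
  Groth.Agent.Lib.AlgSpLocP4_helper7 Groth.Agent.Lib.AlgSpLocP5_helper7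
  Groth.Agent.Lib.AlgSpLocP7_helper7 Groth.Agent.Lib.AlgSpQC2_helper7
  Groth.Agent.Lib.AlgSpLocP8_helper7 Groth.Agent.Lib.AlgSpLocP10_helper7
  Groth.Agent.Lib.AlgSpFpqc3_helper7 Groth.Agent.Lib.AlgSpLocP6_helper7
  Groth.Agent.Lib.AlgSpFpqc2_helper7 Groth.Agent.Lib.AlgSpFpqc_helper7
  Groth.Agent.Lib.AlgSpProper_helper7 Groth.Agent.Lib.AlgSpAffineMorH7
  Groth.Agent.Lib.AlgStAtlas Groth.Agent.Lib.AlgStPoints Groth.Agent.Lib.AlgStPtsCmp
  Groth.Agent.Lib.FibCatYoneda_helper6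


variable {S : Scheme.{u}}

/-- A space locally covered by open continuous images of noetherian quasi-sober spaces is
quasi-sober. -/
theorem quasiSober_of_local_noetherian_images {X : Type*} [TopologicalSpace X]
    (h : ∀ x : X, ∃ (Y : Type u) (_ : TopologicalSpace Y)
      (_ : TopologicalSpace.NoetherianSpace Y) (_ : QuasiSober Y) (g : Y → X),
      Continuous g ∧ IsOpen (Set.range g) ∧ x ∈ Set.range g) :
    QuasiSober X := by
  classical
  refine ⟨fun {T} hT hTc => ?_⟩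
  obtain ⟨t, ht⟩ := hT.1
  obtain ⟨Y, _, _, _, g, hg, hO, ⟨y₀, rfl⟩⟩ := h t
  have hC : IsClosed (g ⁻¹' T) := hTc.preimage hg
  obtain ⟨𝒮, h𝒮f, h𝒮c, h𝒮i, h𝒮U⟩ :=
    TopologicalSpace.NoetherianSpace.exists_finite_set_isClosed_irreducible hC
  have hdense : T ⊆ closure (T ∩ Set.range g) := by
    intro z hz
    rw [mem_closure_iff]
    intro o ho hzo
    obtain ⟨w, hwT, hwo, hwr⟩ := hT.2 o (Set.range g) ho hO ⟨z, hz, hzo⟩ ⟨g y₀, ht, y₀, rfl⟩
    exact ⟨w, hwo, hwT, hwr⟩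
  have himg : T ∩ Set.range g = ⋃ Z ∈ 𝒮, g '' Z := by
    rw [← Set.image_preimage_eq_inter_range, h𝒮U, Set.image_sUnion, Set.sUnion_image]
  have hcl : closure (T ∩ Set.range g) = ⋃ Z ∈ 𝒮, closure (g '' Z) := by
    rw [himg]
    exact h𝒮f.closure_biUnion _
  let F : Finset (Set X) := h𝒮f.toFinset.image (fun Z => closure (g '' Z))
  obtain ⟨z, hz, hTz⟩ := isIrreducible_iff_sUnion_isClosed.1 hT F
    (fun z hz => by
      obtain ⟨Z, -, rfl⟩ := Finset.mem_image.1 hz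
      exact isClosed_closure)
    (fun p hp => by
      have hp' := hdense hp
      rw [hcl] at hp'
      obtain ⟨Z, hZ, hpZ⟩ := Set.mem_iUnion₂.1 hp'
      exact Set.mem_sUnion.2 ⟨closure (g '' Z),
        Finset.mem_coe.2 (Finset.mem_image.2 ⟨Z, h𝒮f.mem_toFinset.2 hZ, rfl⟩), hpZ⟩)
  obtain ⟨Z, hZ', rfl⟩ := Finset.mem_image.1 hz
  have hZ : Z ∈ 𝒮 := h𝒮f.mem_toFinset.1 hZ'
  obtain ⟨ξ, hξ⟩ := QuasiSober.sober (h𝒮i Z hZ) (h𝒮c Z hZ)
  have hξZ : ξ ∈ Z := hξ.mem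
  have hξT : g ξ ∈ T := by
    have h0 : ξ ∈ g ⁻¹' T := by
      rw [h𝒮U]
      exact Set.mem_sUnion.2 ⟨Z, hZ, hξZ⟩
    exact h0
  refine ⟨g ξ, ?_⟩
  show closure {g ξ} = T
  apply Set.Subset.antisymm
  · exact closure_minimal (Set.singleton_subset_iff.2 hξT) hTc
  · refine hTz.trans ?_
    have h1 : g '' Z ⊆ closure {g ξ} := by
      have h2 : Z = closure {ξ} := hξ.def.symm
      rw [h2, ← Set.image_singleton (f := g) (a := ξ)]
      exact image_closure_subset_closure_image hg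
    exact closure_minimal h1 isClosed_closure

section stk

variable {𝒳 𝒴 : AlgSt.Cat S}

theorem map_ofChart_of_square {U V : Over S} {x : FibCat.overCat U ⥤ᵇ 𝒳}
    {y : FibCat.overCat V ⥤ᵇ 𝒴} {f : 𝒳 ⥤ᵇ 𝒴} {a : U ⟶ V}
    (α : BasedFunctor.comp x f ≅ BasedFunctor.comp (AlgSt.overMap a) y) (u : ↥U.left) :
    AlgSt.Points.map f (AlgSt.Points.ofChart x u) = AlgSt.Points.ofChart y (a.left u) := by
  rw [← ofChart_comp, ofChart_congr_iso α u, ofChart_overMap_comp]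

/-- S13008. -/
theorem isOpenMor_of_locQ_flat_lfp (h𝒳 : AlgSt.IsAlgStack Scheme.fppfPrecoverage 𝒳)
    (h𝒴 : AlgSt.IsAlgStack Scheme.fppfPrecoverage 𝒴) (f : 𝒳 ⥤ᵇ 𝒴)
    (hf₁ : AlgSt.LocQ (AlgSp.LocP @Flat) f)
    (hf₂ : AlgSt.LocQ (AlgSp.LocP @LocallyOfFinitePresentation) f) : AlgSt.IsOpenMor f := by
  obtain ⟨V, y, hy, hy'⟩ := h𝒴.atlas
  obtain ⟨U, a, x, α, hx, hx', hℓ, -⟩ := exists_good_chart_over h𝒳 h𝒴 f V y hy
  have fa : Flat a.left := AlgSp.locP_yon_map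
    (goodSch_of_locQ h𝒳.isStack.1 h𝒴.isStack.1 _ isSmoothLocalST_flat f hf₁ U V x y a α hy hℓ)
  have pa : LocallyOfFinitePresentation a.left := AlgSp.locP_yon_map
    (goodSch_of_locQ h𝒳.isStack.1 h𝒴.isStack.1 _ isSmoothLocalST_lfp f hf₂ U V x y a α hy hℓ)
  have hxs : Function.Surjective (AlgSt.Points.ofChart x) :=
    ofChart_surjective_of_repWith h𝒳.isStack.1 x (hx' hy')
  intro O hO
  have e : AlgSt.Points.map f '' O =
      AlgSt.Points.ofChart y '' (a.left '' (AlgSt.Points.ofChart x ⁻¹' O)) := by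
    ext p
    constructor
    · rintro ⟨q, hq, rfl⟩
      obtain ⟨u, rfl⟩ := hxs q
      exact ⟨a.left u, ⟨u, hq, rfl⟩, (map_ofChart_of_square α u).symm⟩
    · rintro ⟨v, ⟨u, hu, rfl⟩, rfl⟩
      exact ⟨AlgSt.Points.ofChart x u, hu, map_ofChart_of_square α u⟩
  rw [e]
  exact isOpenMap_ofChart h𝒴 y (repWith_flat_of_smooth y hy) (repWith_lfp_of_smooth y hy) _
    (a.left.isOpenMap _ ((AlgSt.Points.isOpen_iff.1 hO) U x hx))

/-- S13020. -/
theorem noetherianSpace_points (h𝒳 : AlgSt.IsAlgStack Scheme.fppfPrecoverage 𝒳)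
    (hqc : AlgSt.IsQuasiCompact 𝒳)
    (hN : AlgSt.SmoothLocally (fun T => IsLocallyNoetherian T) 𝒳) :
    TopologicalSpace.NoetherianSpace (AlgSt.Points 𝒳) := by
  obtain ⟨U, x, hU, hx, hx'⟩ := hqc
  haveI : IsLocallyNoetherian U.left := hN U x hx
  haveI : IsAffine U.left := hU
  haveI : IsNoetherian U.left := {}
  exact TopologicalSpace.noetherianSpace_of_surjective _ (continuous_ofChart h𝒳 x)
    (ofChart_surjective_of_repWith h𝒳.isStack.1 x hx')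

/-- Around every point of a locally noetherian algebraic stack there is an affine noetherian
chart whose image is open. -/
theorem exists_noetherian_chart (h𝒳 : AlgSt.IsAlgStack Scheme.fppfPrecoverage 𝒳)
    (hN : AlgSt.SmoothLocally (fun T => IsLocallyNoetherian T) 𝒳) (x : AlgSt.Points 𝒳) :
    ∃ (Y : Type u) (_ : TopologicalSpace Y) (_ : TopologicalSpace.NoetherianSpace Y)
      (_ : QuasiSober Y) (g : Y → AlgSt.Points 𝒳),
      Continuous g ∧ IsOpen (Set.range g) ∧ x ∈ Set.range g := by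
  obtain ⟨V, y, hy, hy'⟩ := h𝒳.atlas
  haveI : IsLocallyNoetherian V.left := hN V y hy
  have hys : Function.Surjective (AlgSt.Points.ofChart y) :=
    ofChart_surjective_of_repWith h𝒳.isStack.1 y hy'
  obtain ⟨v, rfl⟩ := hys x
  obtain ⟨_, ⟨V₀, hV₀, rfl⟩, hvV₀, -⟩ :=
    V.left.isBasis_affineOpens.exists_subset_of_mem_open (Set.mem_univ v) isOpen_univ
  have hV₀' : IsAffineOpen V₀ := hV₀
  haveI : IsNoetherianRing Γ(V.left, V₀) :=
    IsLocallyNoetherian.component_noetherian ⟨V₀, hV₀'⟩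
  have i1 : TopologicalSpace.NoetherianSpace ↥(V₀ : Set ↥V.left) :=
    noetherianSpace_of_isAffineOpen V₀ hV₀'
  have i2 : QuasiSober ↥(V₀ : Set ↥V.left) := V₀.2.isOpenEmbedding_subtypeVal.quasiSober
  refine ⟨↥(V₀ : Set ↥V.left), inferInstance, i1, i2,
    fun z => AlgSt.Points.ofChart y z.1,
    (continuous_ofChart h𝒳 y).comp continuous_subtype_val, ?_, ⟨⟨v, hvV₀⟩, rfl⟩⟩
  have e : Set.range (fun z : ↥(V₀ : Set ↥V.left) => AlgSt.Points.ofChart y z.1) =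
      AlgSt.Points.ofChart y '' (V₀ : Set ↥V.left) := (Set.image_eq_range _ _).symm
  rw [e]
  exact isOpenMap_ofChart h𝒳 y (repWith_flat_of_smooth y hy) (repWith_lfp_of_smooth y hy) _ V₀.2

/-- S13019. -/
theorem exists_noetherianSpace_nhd (h𝒳 : AlgSt.IsAlgStack Scheme.fppfPrecoverage 𝒳)
    (hN : AlgSt.SmoothLocally (fun T => IsLocallyNoetherian T) 𝒳) (x : AlgSt.Points 𝒳) :
    ∃ U : Set (AlgSt.Points 𝒳), IsOpen U ∧ x ∈ U ∧ TopologicalSpace.NoetherianSpace U := by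
  obtain ⟨Y, _, _, _, g, hg, hO, hx⟩ := exists_noetherian_chart h𝒳 hN x
  exact ⟨Set.range g, hO, hx, TopologicalSpace.NoetherianSpace.range g hg⟩

/-- S13021. -/
theorem quasiSober_points (h𝒳 : AlgSt.IsAlgStack Scheme.fppfPrecoverage 𝒳)
    (hN : AlgSt.SmoothLocally (fun T => IsLocallyNoetherian T) 𝒳) :
    QuasiSober (AlgSt.Points 𝒳) :=
  quasiSober_of_local_noetherian_images fun x => exists_noetherian_chart h𝒳 hN x

end stk

end Groth.Agent.Lib.AlgStLocQ
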