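import Groth.Agent.Lib.AlgStTop2_lead
import Groth.Agent.Lib.AlgSpTop_helper7
import Groth.Agent.Lib.AlgSpUniv_helper7

/-! # Universally open / closed / injective / submersive morphisms and universal homeomorphisms of algebraic stacks (lead) -/

set_option autoImplicit false

universe w v₁ v₂ v₃ v₄ v₅ v₆ u₁ u₂ u₃ u₄ u₅ u₆ u

open CategoryTheory CategoryTheory.Limits AlgebraicGeometry Opposite FibCat Stk

namespace Groth.Agent.Lib.AlgStLocQ

open AlgSt Groth.Agent.Lib.FibCat_helper6 Groth.Agent.Lib.FibCat3_helper6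
  Groth.Agent.Lib.FibCat14_helper6 Groth.Agent.Lib.FibCat12_helper6
  Groth.Agent.Lib.FibCatPaste Groth.Agent.Lib.FibCatSwap
  Groth.Agent.Lib.FibCatIsoFun
  Groth.Agent.Lib.OfPshCalc Groth.Agent.Lib.AlgStBC
  Groth.Agent.Lib.AlgStEquiv Groth.Agent.Lib.AlgStEquivP Groth.Agent.Lib.AlgStEquivInv
  Groth.Agent.Lib.OfPshAlgSt Groth.Agent.Lib.LiftSqBC Groth.Agent.Lib.LiftSqComp
  Groth.Agent.Lib.OfPshWith Groth.Agent.Lib.FibCatDiagSec Groth.Agent.Lib.AlgStDiagRep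
  Groth.Agent.Lib.FibCatDiagBC Groth.Agent.Lib.FibCatMagic Groth.Agent.Lib.FibCatProd
  Groth.Agent.Lib.AlgStDiag Groth.Agent.Lib.AlgStLocal
  Groth.Agent.Lib.AlgSpQC_helper7 Groth.Agent.Lib.AlgSpDiag_helper7
  Groth.Agent.Lib.AlgSpPullback_helper7 Groth.Agent.Lib.AlgSpRepBySp_helper7
  Groth.Agent.Lib.AlgSpPoints_helper7 Groth.Agent.Lib.AlgSpLocP_helper7
  Groth.Agent.Lib.AlgSpBasic_helper7 Groth.Agent.Lib.AlgSpSep_helper7
  Groth.Agent.Lib.AlgSpLocP4_helper7 Groth.Agent.Lib.AlgSpLocP5_helper7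
  Groth.Agent.Lib.AlgSpLocP7_helper7 Groth.Agent.Lib.AlgSpQC2_helper7
  Groth.Agent.Lib.AlgSpLocP8_helper7 Groth.Agent.Lib.AlgSpLocP10_helper7
  Groth.Agent.Lib.AlgSpFpqc3_helper7 Groth.Agent.Lib.AlgSpLocP6_helper7
  Groth.Agent.Lib.AlgSpFpqc2_helper7 Groth.Agent.Lib.AlgSpFpqc_helper7
  Groth.Agent.Lib.AlgSpProper_helper7 Groth.Agent.Lib.AlgSpAffineMorH7
  Groth.Agent.Lib.AlgStAtlas Groth.Agent.Lib.AlgStPoints Groth.Agent.Lib.AlgStPtsCmp
  Groth.Agent.Lib.FibCatYoneda_helper6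


open Groth.Agent.Lib.AlgSpTop_helper7 Groth.Agent.Lib.AlgSpUniv_helper7

variable {S : Scheme.{u}}

/-- A commutative square of maps with the lifting property of a fibre product over a
surjection. -/
structure GoodSq {A' A B' B : Type*} (q' : A' → A) (φ' : A' → B') (q : B' → B) (φ : A → B) :
    Prop where
  comm : ∀ a', φ (q' a') = q (φ' a')
  lift : ∀ a b', φ a = q b' → ∃ a', q' a' = a ∧ φ' a' = b'
  surj : Function.Surjective q

/-- Properties of maps of topological spaces which are invariant under homeomorphisms and descend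
along good squares whose horizontal maps are continuous and open. -/
structure DescProp
    (PP : ∀ {X Y : Type (u + 1)} [TopologicalSpace X] [TopologicalSpace Y], (X → Y) → Prop) :
    Prop where
  homeo : ∀ {A A₂ B B₂ : Type (u + 1)} [TopologicalSpace A] [TopologicalSpace A₂]
    [TopologicalSpace B] [TopologicalSpace B₂] (hA : A ≃ₜ A₂) (hB : B ≃ₜ B₂) (φ : A → B)
    (ψ : A₂ → B₂), (∀ a, hB (φ a) = ψ (hA a)) → PP ψ → PP φ
  descent : ∀ {A' A B' B : Type (u + 1)} [TopologicalSpace A'] [TopologicalSpace A]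
    [TopologicalSpace B'] [TopologicalSpace B] (q' : A' → A) (φ' : A' → B') (q : B' → B)
    (φ : A → B), GoodSq q' φ' q φ → Continuous q' → Continuous q → IsOpenMap q → Continuous φ →
    PP φ' → PP φ

theorem DescProp.homeo'
    {PP : ∀ {X Y : Type (u + 1)} [TopologicalSpace X] [TopologicalSpace Y], (X → Y) → Prop}
    (hPP : DescProp PP) {A A₂ B B₂ : Type (u + 1)} [TopologicalSpace A] [TopologicalSpace A₂]
    [TopologicalSpace B] [TopologicalSpace B₂] (hA : A ≃ₜ A₂) (hB : B ≃ₜ B₂) (φ : A → B)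
    (ψ : A₂ → B₂) (h : ∀ a, hB (φ a) = ψ (hA a)) (hφ : PP φ) : PP ψ := by
  refine hPP.homeo hA.symm hB.symm ψ φ (fun a₂ => ?_) hφ
  rw [Homeomorph.symm_apply_eq, h, Homeomorph.apply_symm_apply]

theorem comp_eq_of_homeo {A A₂ B B₂ : Type*} [TopologicalSpace A] [TopologicalSpace A₂]
    [TopologicalSpace B] [TopologicalSpace B₂] (hA : A ≃ₜ A₂) (hB : B ≃ₜ B₂) (φ : A → B)
    (ψ : A₂ → B₂) (h : ∀ a, hB (φ a) = ψ (hA a)) : φ = hB.symm ∘ ψ ∘ hA :=
  funext fun a => by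
    simp only [Function.comp_apply, ← h a, Homeomorph.symm_apply_apply]

theorem descProp_open : DescProp.{u} (fun f => IsOpenMap f) where
  homeo := by
    intro A A₂ B B₂ _ _ _ _ hA hB φ ψ h hψ
    have hψ' : IsOpenMap ψ := hψ
    show IsOpenMap φ
    rw [comp_eq_of_homeo hA hB φ ψ h]
    exact hB.symm.isOpenMap.comp (hψ'.comp hA.isOpenMap)
  descent := by
    intro A' A B' B _ _ _ _ q' φ' q φ h hq' _ hq _ hφ'
    have hφ'' : IsOpenMap φ' := hφ'
    show IsOpenMap φ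
    intro O hO
    have e : φ '' O = q '' (φ' '' (q' ⁻¹' O)) := by
      ext b
      constructor
      · rintro ⟨a, ha, rfl⟩
        obtain ⟨b', hb'⟩ := h.surj (φ a)
        obtain ⟨a', rfl, rfl⟩ := h.lift a b' hb'.symm
        exact ⟨φ' a', ⟨a', ha, rfl⟩, (h.comm a').symm⟩
      · rintro ⟨b', ⟨a', ha', rfl⟩, rfl⟩
        exact ⟨q' a', ha', h.comm a'⟩
    rw [e]
    exact hq _ (hφ'' _ (hO.preimage hq'))

theorem descProp_closed : DescProp.{u} (fun f => IsClosedMap f) where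
  homeo := by
    intro A A₂ B B₂ _ _ _ _ hA hB φ ψ h hψ
    have hψ' : IsClosedMap ψ := hψ
    show IsClosedMap φ
    rw [comp_eq_of_homeo hA hB φ ψ h]
    exact hB.symm.isClosedMap.comp (hψ'.comp hA.isClosedMap)
  descent := by
    intro A' A B' B _ _ _ _ q' φ' q φ h hq' _ hq _ hφ'
    have hφ'' : IsClosedMap φ' := hφ'
    show IsClosedMap φ
    intro C hC
    have e : q ⁻¹' (φ '' C) = φ' '' (q' ⁻¹' C) := by
      ext b'
      constructor
      · rintro ⟨a, ha, hab⟩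
        obtain ⟨a', rfl, rfl⟩ := h.lift a b' hab
        exact ⟨a', ha, rfl⟩
      · rintro ⟨a', ha', rfl⟩
        exact ⟨q' a', ha', h.comm a'⟩
    have h1 : IsClosed (q ⁻¹' (φ '' C)) := by
      rw [e]
      exact hφ'' _ (hC.preimage hq')
    have h2 : (φ '' C)ᶜ = q '' (q ⁻¹' (φ '' C))ᶜ := by
      rw [← Set.preimage_compl, Set.image_preimage_eq _ h.surj]
    rw [← isOpen_compl_iff, h2]
    exact hq _ h1.isOpen_compl

theorem descProp_injective : DescProp.{u} (fun f => Function.Injective f) where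
  homeo := by
    intro A A₂ B B₂ _ _ _ _ hA hB φ ψ h hψ
    have hψ' : Function.Injective ψ := hψ
    show Function.Injective φ
    intro a₁ a₂ e
    apply hA.injective
    apply hψ'
    rw [← h a₁, ← h a₂, e]
  descent := by
    intro A' A B' B _ _ _ _ q' φ' q φ h _ _ _ _ hφ'
    have hφ'' : Function.Injective φ' := hφ'
    show Function.Injective φ
    intro a₁ a₂ e
    obtain ⟨b', hb'⟩ := h.surj (φ a₁)
    obtain ⟨a₁', h1, h1'⟩ := h.lift a₁ b' hb'.symm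
    obtain ⟨a₂', h2, h2'⟩ := h.lift a₂ b' (e ▸ hb'.symm)
    have : a₁' = a₂' := hφ'' (h1'.trans h2'.symm)
    rw [← h1, ← h2, this]

theorem descProp_surjective : DescProp.{u} (fun f => Function.Surjective f) where
  homeo := by
    intro A A₂ B B₂ _ _ _ _ hA hB φ ψ h hψ
    have hψ' : Function.Surjective ψ := hψ
    show Function.Surjective φ
    intro b
    obtain ⟨a₂, ha₂⟩ := hψ' (hB b)
    refine ⟨hA.symm a₂, hB.injective ?_⟩
    rw [h, Homeomorph.apply_symm_apply, ha₂]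
  descent := by
    intro A' A B' B _ _ _ _ q' φ' q φ h _ _ _ _ hφ'
    have hφ'' : Function.Surjective φ' := hφ'
    show Function.Surjective φ
    intro b
    obtain ⟨b', rfl⟩ := h.surj b
    obtain ⟨a', rfl⟩ := hφ'' b'
    exact ⟨q' a', h.comm a'⟩

theorem descProp_quotient : DescProp.{u} (fun f => Topology.IsQuotientMap f) where
  homeo := by
    intro A A₂ B B₂ _ _ _ _ hA hB φ ψ h hψ
    have hψ' : Topology.IsQuotientMap ψ := hψ
    show Topology.IsQuotientMap φ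
    rw [comp_eq_of_homeo hA hB φ ψ h]
    exact hB.symm.isQuotientMap.comp (hψ'.comp hA.isQuotientMap)
  descent := by
    intro A' A B' B _ _ _ _ q' φ' q φ h hq' hqc hq hφc hφ'
    have hφ'' : Topology.IsQuotientMap φ' := hφ'
    show Topology.IsQuotientMap φ
    have hqq : Topology.IsQuotientMap q := hq.isQuotientMap hqc h.surj
    have hsurj : Function.Surjective φ := by
      intro b
      obtain ⟨b', rfl⟩ := h.surj b
      obtain ⟨a', rfl⟩ := hφ''.surjective b'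
      exact ⟨q' a', h.comm a'⟩
    refine ⟨Topology.isCoinducing_iff.2 fun s => ⟨fun hs => ?_, fun hs => hs.preimage hφc⟩, hsurj⟩
    have h1 : IsOpen (q' ⁻¹' (φ ⁻¹' s)) := hs.preimage hq'
    have h2 : q' ⁻¹' (φ ⁻¹' s) = φ' ⁻¹' (q ⁻¹' s) := by
      ext a'
      simp only [Set.mem_preimage, h.comm a']
    rw [h2] at h1
    exact hqq.isOpen_preimage.1 (hφ''.isOpen_preimage.1 h1)

/-- The property of morphisms of sheaves attached to a property of maps on points. -/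
def QP (PP : ∀ {X Y : Type (u + 1)} [TopologicalSpace X] [TopologicalSpace Y], (X → Y) → Prop) :
    MorphismProperty (AlgSp.Sp S) := fun _ _ a => PP (AlgSp.Points.map a)

/-- The homeomorphism on points induced by an isomorphism of sheaves. -/
noncomputable def spIsoHomeo {X X' : AlgSp.Sp S} (i : X ≅ X') :
    AlgSp.Points X ≃ₜ AlgSp.Points X' where
  toFun := AlgSp.Points.map i.hom
  invFun := AlgSp.Points.map i.inv
  left_inv x := by rw [← AlgSp.Points.map_comp, i.hom_inv_id, AlgSp.Points.map_id]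
  right_inv x := by rw [← AlgSp.Points.map_comp, i.inv_hom_id, AlgSp.Points.map_id]
  continuous_toFun := AlgSp.Points.continuous_map _
  continuous_invFun := AlgSp.Points.continuous_map _

theorem isoInv_QP
    {PP : ∀ {X Y : Type (u + 1)} [TopologicalSpace X] [TopologicalSpace Y], (X → Y) → Prop}
    (hPP : DescProp PP) : IsoInv (QP PP : MorphismProperty (AlgSp.Sp S)) := by
  intro X X' Y i f _ _ _ h
  exact hPP.homeo (spIsoHomeo i).symm (Homeomorph.refl _) (AlgSp.Points.map f)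
    (AlgSp.Points.map (i.hom ≫ f))
    (fun a => by
      show AlgSp.Points.map f a = AlgSp.Points.map (i.hom ≫ f) (AlgSp.Points.map i.inv a)
      rw [← AlgSp.Points.map_comp, Iso.inv_hom_id_assoc]) h

section stk

variable {𝒳 𝒴 : AlgSt.Cat S}

theorem isHomeomorph_map_of_isEquivOver {𝒜 ℬ : AlgSt.Cat S}
    (h𝒜 : AlgSt.IsAlgStack Scheme.fppfPrecoverage 𝒜)
    (hℬ : AlgSt.IsAlgStack Scheme.fppfPrecoverage ℬ) (E : 𝒜 ⥤ᵇ ℬ) (hE : IsEquivOver E) :
    IsHomeomorph (AlgSt.Points.map E) := by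
  refine ⟨continuous_points_map h𝒜 hℬ E, ?_, map_injective_of_isEquivOver E hE,
    map_surjective_of_isEquivOver E hE⟩
  obtain ⟨E', ⟨η⟩, ⟨ε⟩⟩ := hE
  intro O hO
  have e : AlgSt.Points.map E '' O = AlgSt.Points.map E' ⁻¹' O := by
    ext b
    constructor
    · rintro ⟨a, ha, rfl⟩
      show AlgSt.Points.map E' (AlgSt.Points.map E a) ∈ O
      rw [← Groth.Agent.Lib.AlgStPoints.map_comp, map_congr_iso η,
        Groth.Agent.Lib.AlgStPoints.map_id]
      exact ha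
    · intro hb
      refine ⟨AlgSt.Points.map E' b, hb, ?_⟩
      rw [← Groth.Agent.Lib.AlgStPoints.map_comp, map_congr_iso ε,
        Groth.Agent.Lib.AlgStPoints.map_id]
  rw [e]
  exact hO.preimage (continuous_points_map hℬ h𝒜 E')

theorem toSpPoints_ofChart_spMap {F : AlgSp.Sp S} {T : Over S}
    (g : (AlgSp.yon S).obj T ⟶ F) (t : ↥T.left) :
    toSpPoints (AlgSt.Points.ofChart
      (BasedFunctor.comp (AlgSt.ofOverCat T) (AlgSt.ofSpMap g)) t) = AlgSp.Points.ofPt g t := by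
  rw [ofChart_eq_map_pt, Groth.Agent.Lib.AlgStPoints.map_comp, toSpPoints_map, toSpPoints_pt,
    ← AlgSp.Points.ofPt_eq_map_ofScheme]

theorem exists_toSpPoints_ofChart {F : AlgSp.Sp S} {U : Over S}
    (x : FibCat.overCat U ⥤ᵇ AlgSt.ofSp F) :
    ∃ g : (AlgSp.yon S).obj U ⟶ F,
      ∀ t, toSpPoints (AlgSt.Points.ofChart x t) = AlgSp.Points.ofPt g t := by
  let Φ : AlgSt.ofSp ((AlgSp.yon S).obj U) ⥤ᵇ AlgSt.ofSp F :=
    BasedFunctor.comp (AlgSt.toOverCat U) x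
  let g : (AlgSp.yon S).obj U ⟶ F := ObjectProperty.homMk (mapOf Φ)
  refine ⟨g, fun t => ?_⟩
  have ι : x ≅ BasedFunctor.comp (AlgSt.ofOverCat U) (AlgSt.ofSpMap g) :=
    whiskerLeftIso (AlgSt.ofOverCat U) (isoOf Φ)
  rw [ofChart_congr_iso ι t]
  exact toSpPoints_ofChart_spMap g t

theorem continuous_toSpPoints (F : AlgSp.Sp S) : Continuous (toSpPoints (F := F)) := by
  refine continuous_def.2 fun W hW => AlgSt.Points.isOpen_iff.2 fun U x _ => ?_
  obtain ⟨g, hg⟩ := exists_toSpPoints_ofChart x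
  have e : AlgSt.Points.ofChart x ⁻¹' (toSpPoints ⁻¹' W) = AlgSp.Points.ofPt g ⁻¹' W := by
    ext t
    simp only [Set.mem_preimage, hg t]
  rw [e]
  exact AlgSp.Points.isOpen_iff.1 hW U g

theorem isOpenMap_toSpPoints (F : AlgSp.Space S) : IsOpenMap (toSpPoints (F := F.obj)) := by
  intro O hO
  refine AlgSp.Points.isOpen_iff.2 fun T g => ?_
  have e : AlgSp.Points.ofPt g ⁻¹' (toSpPoints '' O) =
      AlgSt.Points.ofChart (BasedFunctor.comp (AlgSt.ofOverCat T) (AlgSt.ofSpMap g)) ⁻¹' O := by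
    ext t
    simp only [Set.mem_preimage, Set.mem_image]
    constructor
    · rintro ⟨p, hp, hpt⟩
      rw [← toSpPoints_ofChart_spMap g t] at hpt
      rwa [← toSpPoints_injective hpt]
    · intro h
      exact ⟨_, h, toSpPoints_ofChart_spMap g t⟩
  rw [e]
  exact hO.preimage (continuous_ofChart (isAlgStack_ofSp F) _)

theorem isHomeomorph_toSpPoints (F : AlgSp.Space S) :
    IsHomeomorph (toSpPoints (F := F.obj)) :=
  ⟨continuous_toSpPoints _, isOpenMap_toSpPoints F, toSpPoints_injective, toSpPoints_surjective⟩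

/-- `|ofSp F| ≃ₜ |F|` for an algebraic space `F`. -/
noncomputable def toSpHomeo (F : AlgSp.Space S) :
    AlgSt.Points (AlgSt.ofSp F.obj) ≃ₜ AlgSp.Points F.obj :=
  (isHomeomorph_toSpPoints F).homeomorph _

/-- `|(Sch/U)| ≃ₜ |h_U|`. -/
noncomputable def overHomeo (U : Over S) :
    AlgSt.Points (FibCat.overCat U) ≃ₜ AlgSp.Points ((AlgSp.yon S).obj U) :=
  ((isHomeomorph_map_of_isEquivOver (isAlgStack_overCat U)
    (isAlgStack_ofSp ((AlgSp.ofScheme S).obj U)) (AlgSt.ofOverCat U)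
    (ofOverCat_isEquivOver U)).homeomorph _).trans (toSpHomeo ((AlgSp.ofScheme S).obj U))

theorem toSpPoints_map_spMapOfOver {F : AlgSp.Sp S} {U : Over S}
    (Φ : AlgSt.ofSp F ⥤ᵇ FibCat.overCat U) (p : AlgSt.Points (AlgSt.ofSp F)) :
    toSpPoints (AlgSt.Points.map (AlgSt.ofOverCat U) (AlgSt.Points.map Φ p)) =
      AlgSp.Points.map (AlgSt.spMapOfOver Φ) (toSpPoints p) := by
  have i1 : BasedFunctor.comp Φ (AlgSt.ofOverCat U) ≅
      Stk.ofPshMap (mapOf (BasedFunctor.comp Φ (AlgSt.ofOverCat U))) := isoOf _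
  have e2 : Stk.ofPshMap (mapOf (BasedFunctor.comp Φ (AlgSt.ofOverCat U))) =
      AlgSt.ofSpMap (AlgSt.spMapOfOver Φ) := congrArg Stk.ofPshMap (spMapOfOver_hom Φ).symm
  rw [← Groth.Agent.Lib.AlgStPoints.map_comp, map_congr_iso (i1 ≪≫ eqToIso e2), toSpPoints_map]

theorem prop_map_iff
    {PP : ∀ {X Y : Type (u + 1)} [TopologicalSpace X] [TopologicalSpace Y], (X → Y) → Prop}
    (hPP : DescProp PP) (F : AlgSp.Space S) {U : Over S}
    (Φ : AlgSt.ofSp F.obj ⥤ᵇ FibCat.overCat U) :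
    PP (AlgSt.Points.map Φ) ↔ PP (AlgSp.Points.map (AlgSt.spMapOfOver Φ)) :=
  ⟨fun h => hPP.homeo' (toSpHomeo F) (overHomeo U) _ _
      (fun a => toSpPoints_map_spMapOfOver Φ a) h,
    fun h => hPP.homeo (toSpHomeo F) (overHomeo U) _ _
      (fun a => toSpPoints_map_spMapOfOver Φ a) h⟩

/-- A property of maps on points descends from the base change to an atlas. -/
theorem prop_map_of_repWith
    {PP : ∀ {X Y : Type (u + 1)} [TopologicalSpace X] [TopologicalSpace Y], (X → Y) → Prop}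
    (hPP : DescProp PP) {𝒲 𝒵 : AlgSt.Cat S}
    (h𝒲 : AlgSt.IsAlgStack Scheme.fppfPrecoverage 𝒲)
    (h𝒵 : AlgSt.IsAlgStack Scheme.fppfPrecoverage 𝒵) (π : 𝒲 ⥤ᵇ 𝒵)
    (hπ : AlgSt.RepByAlgSpWith (QP PP) π) : PP (AlgSt.Points.map π) := by
  obtain ⟨Z, z, hz, hz'⟩ := h𝒵.atlas
  have hZ : IsFibGrpd (FibCat.overCat Z).p := isFibGrpd_over_forget Z
  obtain ⟨F, e, he, hc⟩ := hπ Z z
  have hzs : AlgSt.IsSurjective z :=
    (isSurjective_iff_repWith hZ h𝒵.isStack.1 z (repByAlgSp1_of_repWith _ hz')).2 hz'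
  have good : GoodSq (AlgSt.Points.map (BasedFunctor.comp e (fpSnd z π)))
      (AlgSt.Points.map (BasedFunctor.comp e (fpFst z π))) (AlgSt.Points.map z)
      (AlgSt.Points.map π) := by
    refine ⟨fun a' => ?_, fun a b' hab => ?_, hzs⟩
    · rw [Groth.Agent.Lib.AlgStPoints.map_comp e (fpSnd z π),
        Groth.Agent.Lib.AlgStPoints.map_comp e (fpFst z π),
        ← Groth.Agent.Lib.AlgStPoints.map_comp (fpSnd z π) π,
        ← Groth.Agent.Lib.AlgStPoints.map_comp (fpFst z π) z]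
      exact (map_congr_iso (fpIso z π) _).symm
    · obtain ⟨w, hw₁, hw₂⟩ :=
        exists_fp_point h𝒲.isStack.1 h𝒵.isStack.1 hZ π z b' a hab.symm
      obtain ⟨a', rfl⟩ := map_surjective_of_isEquivOver e he w
      exact ⟨a', by rw [Groth.Agent.Lib.AlgStPoints.map_comp]; exact hw₂,
        by rw [Groth.Agent.Lib.AlgStPoints.map_comp]; exact hw₁⟩
  have hφ' : PP (AlgSt.Points.map (BasedFunctor.comp e (fpFst z π))) :=
    (prop_map_iff hPP F _).2 hc
  exact hPP.descent _ _ _ _ good (continuous_points_map (isAlgStack_ofSp F) h𝒲 _)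
    (continuous_points_map (isAlgStack_overCat Z) h𝒵 z)
    (isOpenMap_points_map (isAlgStack_overCat Z) h𝒵 z (repWith_flat_of_smooth z hz)
      (repWith_lfp_of_smooth z hz))
    (continuous_points_map h𝒲 h𝒵 π) hφ'

/-- From the representable-with-universal-property notion to all base changes to algebraic
stacks. -/
theorem univ_of_repWith
    {PP : ∀ {X Y : Type (u + 1)} [TopologicalSpace X] [TopologicalSpace Y], (X → Y) → Prop}
    (hPP : DescProp PP) (h𝒳 : AlgSt.IsAlgStack Scheme.fppfPrecoverage 𝒳)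
    (h𝒴 : AlgSt.IsAlgStack Scheme.fppfPrecoverage 𝒴) (f : 𝒳 ⥤ᵇ 𝒴)
    (hf : AlgSt.RepByAlgSpWith (AlgSp.UnivSp (QP PP)) f) (𝒵 : AlgSt.Cat S)
    (h𝒵 : AlgSt.IsAlgStack Scheme.fppfPrecoverage 𝒵) (g : 𝒵 ⥤ᵇ 𝒴) :
    PP (AlgSt.Points.map (fpFst g f)) := by
  have h1 : AlgSt.RepByAlgSpWith (AlgSp.UnivSp (QP PP)) (fpFst g f) :=
    repWith_baseChange _ f g hf
  have h2 : AlgSt.RepByAlgSpWith (QP PP) (fpFst g f) :=
    repWith_mono' (fun X U a _ ha => ha (AlgSp.IsAlgSpace.yon_obj U) (𝟙 _) (𝟙 _) a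
      (IsPullback.of_horiz_isIso ⟨by simp⟩)) _ h1
  exact prop_map_of_repWith hPP (isAlgStack_fp h𝒴.isStack h𝒴.diag h𝒵 h𝒳 g f) h𝒵 _ h2

/-- A universal property of maps on points may be tested on base changes to schemes. -/
theorem univSp_of_forall_scheme
    {PP : ∀ {X Y : Type (u + 1)} [TopologicalSpace X] [TopologicalSpace Y], (X → Y) → Prop}
    (hPP : DescProp PP) {X Y : AlgSp.Sp S} (f : X ⟶ Y)
    (h : ∀ (T : Over S) (g : (AlgSp.yon S).obj T ⟶ Y) (P : AlgSp.Sp S) (fst : P ⟶ X)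
      (snd : P ⟶ (AlgSp.yon S).obj T), IsPullback fst snd f g → PP (AlgSp.Points.map snd)) :
    AlgSp.UnivSp (QP PP) f := by
  intro Z Z' hZ g fst snd sq
  obtain ⟨T, p, hpe, hps⟩ := hZ.atlas
  have sq' := IsPullback.of_hasPullback snd p
  have hφ' : PP (AlgSp.Points.map (pullback.snd snd p)) :=
    h T (p ≫ g) _ _ _ (sq'.flip.paste_vert sq.flip).flip
  have good : GoodSq (AlgSp.Points.map (pullback.fst snd p))
      (AlgSp.Points.map (pullback.snd snd p)) (AlgSp.Points.map p) (AlgSp.Points.map snd) := by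
    refine ⟨fun a' => ?_, fun a b' hab => exists_of_isPullback sq' a b' hab,
      isSurjectiveMor_of_repWith p hps⟩
    rw [← AlgSp.Points.map_comp, ← AlgSp.Points.map_comp, sq'.w]
  exact hPP.descent _ _ _ _ good (AlgSp.Points.continuous_map _) (AlgSp.Points.continuous_map p)
    (isOpenMap_map_of_repWith p (repWith_universallyOpen_of_etale hpe))
    (AlgSp.Points.continuous_map snd) hφ'

/-- From all base changes to algebraic stacks to the representable-with-universal-property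
notion. -/
theorem univSp_of_stack
    {PP : ∀ {X Y : Type (u + 1)} [TopologicalSpace X] [TopologicalSpace Y], (X → Y) → Prop}
    (hPP : DescProp PP) (h𝒳 : AlgSt.IsAlgStack Scheme.fppfPrecoverage 𝒳)
    (h𝒴 : AlgSt.IsAlgStack Scheme.fppfPrecoverage 𝒴) (f : 𝒳 ⥤ᵇ 𝒴) (hf : AlgSt.RepByAlgSp1 f)
    (hU : ∀ (𝒵 : AlgSt.Cat S), AlgSt.IsAlgStack Scheme.fppfPrecoverage 𝒵 → ∀ g : 𝒵 ⥤ᵇ 𝒴,
      PP (AlgSt.Points.map (fpFst g f)))
    (U : Over S) (y : FibCat.overCat U ⥤ᵇ 𝒴) (F : AlgSp.Space S)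
    (e : AlgSt.ofSp F.obj ⥤ᵇ fp y f) (he : IsEquivOver e) :
    AlgSp.UnivSp (QP PP) (AlgSt.spMapOfOver (BasedFunctor.comp e (fpFst y f))) := by
  have ha : AlgSt.RepByAlgSpWith (QP PP) f := by
    intro T g
    obtain ⟨F', e', he'⟩ := hf T g
    refine ⟨F', e', he', (prop_map_iff hPP F' _).1 ?_⟩
    have hfp : AlgSt.IsAlgStack Scheme.fppfPrecoverage (fp g f) :=
      isAlgStack_fp h𝒴.isStack h𝒴.diag (isAlgStack_overCat T) h𝒳 g f
    have hh := isHomeomorph_map_of_isEquivOver (isAlgStack_ofSp F') hfp e' he'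
    exact hPP.homeo (hh.homeomorph _) (Homeomorph.refl _) _ _
      (fun a => Groth.Agent.Lib.AlgStPoints.map_comp e' (fpFst g f) a)
      (hU _ (isAlgStack_overCat T) g)
  have r1 : AlgSt.RepByAlgSpWith (QP PP) (fpFst y f) := repWith_baseChange _ f y ha
  have r2 : AlgSt.RepByAlgSpWith (QP PP) (BasedFunctor.comp e (fpFst y f)) :=
    repWith_precomp_equiv _ e he _ r1
  have i1 : BasedFunctor.comp (BasedFunctor.comp e (fpFst y f)) (AlgSt.ofOverCat U) ≅
      Stk.ofPshMap (mapOf (BasedFunctor.comp (BasedFunctor.comp e (fpFst y f))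
        (AlgSt.ofOverCat U))) := isoOf _
  have e2 : Stk.ofPshMap (mapOf (BasedFunctor.comp (BasedFunctor.comp e (fpFst y f))
        (AlgSt.ofOverCat U))) =
      AlgSt.ofSpMap (AlgSt.spMapOfOver (BasedFunctor.comp e (fpFst y f))) :=
    congrArg Stk.ofPshMap (spMapOfOver_hom _).symm
  have ι : BasedFunctor.comp e (fpFst y f) ≅
      BasedFunctor.comp (AlgSt.ofSpMap (AlgSt.spMapOfOver (BasedFunctor.comp e (fpFst y f))))
        (AlgSt.toOverCat U) :=
    whiskerRightIso (i1 ≪≫ eqToIso e2) (AlgSt.toOverCat U)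
  have r3 := repWith_of_iso (QP PP) ι r2
  have r4 : AlgSt.RepByAlgSpWith (QP PP)
      (AlgSt.ofSpMap (AlgSt.spMapOfOver (BasedFunctor.comp e (fpFst y f)))) :=
    repWith_cancel_postcomp_equiv _ _ (AlgSt.toOverCat U) (toOverCat_isEquivOver U) r3
  have r5 : AlgSp.RepBySpWith (QP PP)
      (AlgSt.spMapOfOver (BasedFunctor.comp e (fpFst y f))).hom :=
    repBySpWith_of_repByAlgSpWith _ (isoInv_QP hPP) _ r4
  exact univSp_of_forall_scheme hPP _ fun T g P fst snd sq =>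
    (sq_of_repBySpWith _ _ r5 T g P fst snd sq).2

/-- The generic equivalence. -/
theorem repWith_univSp_iff
    {PP : ∀ {X Y : Type (u + 1)} [TopologicalSpace X] [TopologicalSpace Y], (X → Y) → Prop}
    (hPP : DescProp PP) (h𝒳 : AlgSt.IsAlgStack Scheme.fppfPrecoverage 𝒳)
    (h𝒴 : AlgSt.IsAlgStack Scheme.fppfPrecoverage 𝒴) (f : 𝒳 ⥤ᵇ 𝒴) (hf : AlgSt.RepByAlgSp1 f) :
    AlgSt.RepByAlgSpWith (AlgSp.UnivSp (QP PP)) f ↔
      ∀ (𝒵 : AlgSt.Cat S), AlgSt.IsAlgStack Scheme.fppfPrecoverage 𝒵 → ∀ g : 𝒵 ⥤ᵇ 𝒴,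
        PP (AlgSt.Points.map (fpFst g f)) :=
  ⟨fun h 𝒵 h𝒵 g => univ_of_repWith hPP h𝒳 h𝒴 f h 𝒵 h𝒵 g, fun h U y => by
    obtain ⟨F, e, he⟩ := hf U y
    exact ⟨F, e, he, univSp_of_stack hPP h𝒳 h𝒴 f hf h U y F e he⟩⟩

/-- S12826. -/
theorem repWith_isUnivOpenMor_iff (h𝒳 : AlgSt.IsAlgStack Scheme.fppfPrecoverage 𝒳)
    (h𝒴 : AlgSt.IsAlgStack Scheme.fppfPrecoverage 𝒴) (f : 𝒳 ⥤ᵇ 𝒴) (hf : AlgSt.RepByAlgSp1 f) :
    AlgSt.RepByAlgSpWith AlgSp.IsUnivOpenMor f ↔ AlgSt.IsUnivOpen Scheme.fppfPrecoverage f :=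
  repWith_univSp_iff descProp_open h𝒳 h𝒴 f hf

/-- S12828. -/
theorem repWith_isUnivClosedMor_iff (h𝒳 : AlgSt.IsAlgStack Scheme.fppfPrecoverage 𝒳)
    (h𝒴 : AlgSt.IsAlgStack Scheme.fppfPrecoverage 𝒴) (f : 𝒳 ⥤ᵇ 𝒴) (hf : AlgSt.RepByAlgSp1 f) :
    AlgSt.RepByAlgSpWith AlgSp.IsUnivClosedMor f ↔ AlgSt.IsUnivClosed Scheme.fppfPrecoverage f :=
  repWith_univSp_iff descProp_closed h𝒳 h𝒴 f hf

/-- S12829. -/
theorem repWith_isUnivInjectiveMor_iff (h𝒳 : AlgSt.IsAlgStack Scheme.fppfPrecoverage 𝒳)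
    (h𝒴 : AlgSt.IsAlgStack Scheme.fppfPrecoverage 𝒴) (f : 𝒳 ⥤ᵇ 𝒴) (hf : AlgSt.RepByAlgSp1 f) :
    AlgSt.RepByAlgSpWith AlgSp.IsUnivInjectiveMor f ↔
      AlgSt.IsUnivInjective Scheme.fppfPrecoverage f :=
  repWith_univSp_iff descProp_injective h𝒳 h𝒴 f hf

/-- S12827. -/
theorem repWith_isUnivSubmersiveMor_iff (h𝒳 : AlgSt.IsAlgStack Scheme.fppfPrecoverage 𝒳)
    (h𝒴 : AlgSt.IsAlgStack Scheme.fppfPrecoverage 𝒴) (f : 𝒳 ⥤ᵇ 𝒴) (hf : AlgSt.RepByAlgSp1 f) :
    AlgSt.RepByAlgSpWith AlgSp.IsUnivSubmersiveMor f ↔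
      ∀ (𝒵 : AlgSt.Cat S), AlgSt.IsAlgStack Scheme.fppfPrecoverage 𝒵 → ∀ (g : 𝒵 ⥤ᵇ 𝒴),
        Topology.IsQuotientMap (AlgSt.Points.map (FibCat.fpFst g f)) :=
  repWith_univSp_iff descProp_quotient h𝒳 h𝒴 f hf

/-- S12830. -/
theorem repWith_isUnivHomeoMor_iff (h𝒳 : AlgSt.IsAlgStack Scheme.fppfPrecoverage 𝒳)
    (h𝒴 : AlgSt.IsAlgStack Scheme.fppfPrecoverage 𝒴) (f : 𝒳 ⥤ᵇ 𝒴) (hf : AlgSt.RepByAlgSp1 f) :
    AlgSt.RepByAlgSpWith AlgSp.IsUnivHomeoMor f ↔ AlgSt.IsUnivHomeo Scheme.fppfPrecoverage f := by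
  constructor
  · intro h 𝒵 h𝒵 g
    have h1 : AlgSt.RepByAlgSpWith (AlgSp.UnivSp (QP (fun f => IsOpenMap f))) f :=
      repWith_mono' (fun X U a _ ha Z Z' hZ g fst snd sq => (ha hZ g fst snd sq).isOpenMap) _ h
    have h2 : AlgSt.RepByAlgSpWith (AlgSp.UnivSp (QP (fun f => Function.Injective f))) f :=
      repWith_mono' (fun X U a _ ha Z Z' hZ g fst snd sq => (ha hZ g fst snd sq).injective) _ h
    have h3 : AlgSt.RepByAlgSpWith (AlgSp.UnivSp (QP (fun f => Function.Surjective f))) f :=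
      repWith_mono' (fun X U a _ ha Z Z' hZ g fst snd sq => (ha hZ g fst snd sq).surjective) _ h
    exact ⟨continuous_points_map (isAlgStack_fp h𝒴.isStack h𝒴.diag h𝒵 h𝒳 g f) h𝒵 _,
      univ_of_repWith descProp_open h𝒳 h𝒴 f h1 𝒵 h𝒵 g,
      univ_of_repWith descProp_injective h𝒳 h𝒴 f h2 𝒵 h𝒵 g,
      univ_of_repWith descProp_surjective h𝒳 h𝒴 f h3 𝒵 h𝒵 g⟩
  · intro h U y
    obtain ⟨F, e, he⟩ := hf U y
    refine ⟨F, e, he, fun Z Z' hZ g fst snd sq => ?_⟩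
    exact ⟨AlgSp.Points.continuous_map snd,
      univSp_of_stack descProp_open h𝒳 h𝒴 f hf (fun 𝒵 h𝒵 g => (h 𝒵 h𝒵 g).isOpenMap) U y F e he
        hZ g fst snd sq,
      univSp_of_stack descProp_injective h𝒳 h𝒴 f hf (fun 𝒵 h𝒵 g => (h 𝒵 h𝒵 g).injective) U y F
        e he hZ g fst snd sq,
      univSp_of_stack descProp_surjective h𝒳 h𝒴 f hf (fun 𝒵 h𝒵 g => (h 𝒵 h𝒵 g).surjective) U y
        F e he hZ g fst snd sq⟩

end stk

end Groth.Agent.Lib.AlgStLocQ
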