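import Groth.Agent.Lib.AlgStDenseLift_lead
import Groth.Agent.Lib.AlgStLocal3_lead
import Groth.Agent.Lib.AlgStFp_lead
import Groth.Agent.Lib.AlgStLocQ4_lead
import Groth.Agent.Lib.AlgStDiagRep3_lead
import Groth.Agent.Lib.AlgStQcQs_lead
import Groth.Agent.Lib.AlgStGenIso2_lead
import Groth.Agent.Lib.AlgStTop_lead
import Groth.Agent.Lib.AlgStUniv2_lead

/-! # Valuative witnesses for points in the closure of the image (lead) -/

set_option autoImplicit false
set_option linter.style.haveILetI false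
set_option backward.isDefEq.respectTransparency false
set_option backward.isDefEq.respectTransparency.types false

universe w v₁ v₂ v₃ v₄ v₅ v₆ u₁ u₂ u₃ u₄ u₅ u₆ u

open CategoryTheory CategoryTheory.Limits AlgebraicGeometry Opposite FibCat Stk

namespace Groth.Agent.Lib.AlgStLocQ

open AlgSt Groth.Agent.Lib.FibCat_helper6 Groth.Agent.Lib.FibCat3_helper6
  Groth.Agent.Lib.FibCat14_helper6 Groth.Agent.Lib.FibCat12_helper6
  Groth.Agent.Lib.FibCatPaste Groth.Agent.Lib.FibCatSwap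
  Groth.Agent.Lib.FibCatIsoFun
  Groth.Agent.Lib.OfPshCalc Groth.Agent.Lib.AlgStBC
  Groth.Agent.Lib.AlgStEquiv Groth.Agent.Lib.AlgStEquivP Groth.Agent.Lib.AlgStEquivInv
  Groth.Agent.Lib.OfPshAlgSt Groth.Agent.Lib.LiftSqBC Groth.Agent.Lib.LiftSqComp
  Groth.Agent.Lib.OfPshWith Groth.Agent.Lib.FibCatDiagSec Groth.Agent.Lib.AlgStDiagRep
  Groth.Agent.Lib.FibCatDiagBC Groth.Agent.Lib.FibCatMagic Groth.Agent.Lib.FibCatProd
  Groth.Agent.Lib.AlgStDiag Groth.Agent.Lib.AlgStLocal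
  Groth.Agent.Lib.AlgSpQC_helper7 Groth.Agent.Lib.AlgSpDiag_helper7
  Groth.Agent.Lib.AlgSpPullback_helper7 Groth.Agent.Lib.AlgSpRepBySp_helper7
  Groth.Agent.Lib.AlgSpPoints_helper7 Groth.Agent.Lib.AlgSpLocP_helper7
  Groth.Agent.Lib.AlgSpBasic_helper7 Groth.Agent.Lib.AlgSpSep_helper7
  Groth.Agent.Lib.AlgSpLocP4_helper7 Groth.Agent.Lib.AlgSpLocP5_helper7
  Groth.Agent.Lib.AlgSpLocP7_helper7 Groth.Agent.Lib.AlgSpQC2_helper7
  Groth.Agent.Lib.AlgSpLocP8_helper7 Groth.Agent.Lib.AlgSpLocP10_helper7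
  Groth.Agent.Lib.AlgSpFpqc3_helper7 Groth.Agent.Lib.AlgSpLocP6_helper7
  Groth.Agent.Lib.AlgSpFpqc2_helper7 Groth.Agent.Lib.AlgSpFpqc_helper7
  Groth.Agent.Lib.AlgSpProper_helper7 Groth.Agent.Lib.AlgSpAffineMorH7
  Groth.Agent.Lib.AlgStAtlas Groth.Agent.Lib.AlgStPoints Groth.Agent.Lib.AlgStPtsCmp
  Groth.Agent.Lib.FibCatYoneda_helper6 Groth.Agent.Lib.AlgSpFieldFlat_helper7


variable {S : Scheme.{u}} {𝒳 𝒴 : AlgSt.Cat S}

section alg

/-- A prime in the closure of the image of `Spec B → Spec R` is a specialization of a point of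
the image. -/
theorem exists_comap_specializes {R B : Type u} [CommRing R] [CommRing B] (φ : R →+* B)
    (p : PrimeSpectrum R) (hp : p ∈ closure (Set.range (PrimeSpectrum.comap φ))) :
    ∃ q : PrimeSpectrum B, PrimeSpectrum.comap φ q ⤳ p := by
  rw [PrimeSpectrum.closure_range_comap, PrimeSpectrum.mem_zeroLocus] at hp
  have hdisj : Disjoint ((⊥ : Ideal B) : Set B)
      (Submonoid.map φ p.asIdeal.primeCompl : Set B) := by
    rw [Set.disjoint_left]
    rintro b hb ⟨r, hr, rfl⟩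
    have hb0 : φ r = 0 := Ideal.mem_bot.1 hb
    exact hr (hp (RingHom.mem_ker.2 hb0))
  obtain ⟨q, hq, -, hqd⟩ := Ideal.exists_le_prime_disjoint (⊥ : Ideal B)
    (Submonoid.map φ p.asIdeal.primeCompl) hdisj
  refine ⟨⟨q, hq⟩, (PrimeSpectrum.le_iff_specializes _ _).1 ?_⟩
  show (PrimeSpectrum.comap φ ⟨q, hq⟩).asIdeal ≤ p.asIdeal
  intro r hr
  by_contra hrp
  exact (Set.disjoint_left.1 hqd) (show φ r ∈ (q : Set B) from hr) ⟨r, hrp, rfl⟩

theorem exists_specializes_of_mem_closure_range_spec {X : Scheme.{u}} [IsAffine X]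
    {R : CommRingCat.{u}} (g : X ⟶ Spec R) (p : ↥(Spec R))
    (hp : p ∈ closure (Set.range g)) : ∃ t : ↥X, g t ⤳ p := by
  obtain ⟨φ, hφ⟩ : ∃ φ : R ⟶ Γ(X, ⊤), Spec.map φ = X.isoSpec.inv ≫ g :=
    ⟨Spec.preimage (X.isoSpec.inv ≫ g), Spec.map_preimage _⟩
  have hpt : ∀ q : ↥(Spec Γ(X, ⊤)), PrimeSpectrum.comap φ.hom q = g (X.isoSpec.inv q) := by
    intro q
    have h1 : (Spec.map φ) q = g (X.isoSpec.inv q) := by rw [hφ, Scheme.Hom.comp_apply]
    exact h1
  have hsub : Set.range g ⊆ Set.range (PrimeSpectrum.comap φ.hom) := by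
    rintro _ ⟨t, rfl⟩
    exact ⟨X.isoSpec.hom t, (hpt _).trans (congrArg g (Scheme.hom_inv_apply X.isoSpec t))⟩
  obtain ⟨q, hq⟩ := exists_comap_specializes φ.hom p (closure_mono hsub hp)
  exact ⟨X.isoSpec.inv q, (congrArg (fun z => z ⤳ p) (hpt q)).mp hq⟩

theorem exists_specializes_of_mem_closure_range {X Y : Scheme.{u}} [IsAffine X] [IsAffine Y]
    (g : X ⟶ Y) (p : ↥Y) (hp : p ∈ closure (Set.range g)) : ∃ t : ↥X, g t ⤳ p := by
  have h1 : Y.isoSpec.hom p ∈ closure (Set.range (g ≫ Y.isoSpec.hom)) := by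
    refine map_mem_closure Y.isoSpec.hom.continuous hp ?_
    rintro _ ⟨t, rfl⟩
    exact ⟨t, Scheme.Hom.comp_apply g Y.isoSpec.hom t⟩
  obtain ⟨t, ht⟩ := exists_specializes_of_mem_closure_range_spec (g ≫ Y.isoSpec.hom) _ h1
  refine ⟨t, ?_⟩
  have h2 := ht.map Y.isoSpec.inv.continuous
  simpa only [Scheme.Hom.comp_apply, Scheme.hom_inv_apply] using h2

open IsLocalRing in
/-- A specialization `f x' ⤳ y` is witnessed by a valuation ring (as in the valuative criterion). -/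
theorem exists_valuationRing_of_specializes {X Y : Scheme.{u}} (f : X ⟶ Y) (x' : ↥X) (y : ↥Y)
    (h : f x' ⤳ y) :
    ∃ (A : Type u) (_ : CommRing A) (_ : IsDomain A) (_ : ValuationRing A)
      (i₂ : Spec (CommRingCat.of A) ⟶ Y) (i₁ : Spec (CommRingCat.of (FractionRing A)) ⟶ X),
      Spec.map (CommRingCat.ofHom (algebraMap A (FractionRing A))) ≫ i₂ = i₁ ≫ f ∧
      i₂ (IsLocalRing.closedPoint A) = y := by
  let φ : Y.presheaf.stalk y ⟶ X.residueField x' :=
    Y.presheaf.stalkSpecializes h ≫ f.stalkMap x' ≫ X.residue x'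
  obtain ⟨A, hA, hA_local⟩ := exists_factor_valuationRing φ.hom
  let ψ : Y.presheaf.stalk y ⟶ .of A := CommRingCat.ofHom (φ.hom.codRestrict _ hA)
  have w : X.fromSpecResidueField x' ≫ f =
      Spec.map (CommRingCat.ofHom (algebraMap A (X.residueField x'))) ≫
        Spec.map ψ ≫ Y.fromSpecStalk y := by
    rw [Scheme.fromSpecResidueField, Category.assoc, ← Scheme.SpecMap_stalkMap_fromSpecStalk,
      ← Scheme.SpecMap_stalkSpecializes_fromSpecStalk h]
    simp_rw [← Spec.map_comp_assoc]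
    rfl
  let e : FractionRing A ≃ₐ[A] (X.residueField x') :=
    FractionRing.algEquiv A (X.residueField x')
  have hcomp : CommRingCat.ofHom (algebraMap A (X.residueField x')) ≫
      CommRingCat.ofHom e.symm.toRingEquiv.toRingHom =
      CommRingCat.ofHom (algebraMap A (FractionRing A)) := by
    apply CommRingCat.hom_ext
    apply RingHom.ext
    intro a
    exact e.symm.commutes a
  refine ⟨↥A, inferInstance, inferInstance, inferInstance, ?_⟩
  refine ⟨Spec.map ψ ≫ Y.fromSpecStalk y,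
    Spec.map (CommRingCat.ofHom e.symm.toRingEquiv.toRingHom) ≫ X.fromSpecResidueField x', ?_, ?_⟩
  · rw [Category.assoc, w, ← hcomp, Spec.map_comp, Category.assoc]
  · have h1 : Spec.map ψ (closedPoint A) = closedPoint (Y.presheaf.stalk y) :=
      comap_closedPoint (S := A) (φ.hom.codRestrict A.toSubring hA)
    rw [Scheme.Hom.comp_apply, h1, Y.fromSpecStalk_closedPoint]

end alg

section stk

/-- The valuative witness, on an affine smooth chart of the target. -/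
theorem exists_valuative_of_affine_chart
    (h𝒳 : AlgSt.IsAlgStack Scheme.fppfPrecoverage 𝒳)
    (h𝒴 : AlgSt.IsAlgStack Scheme.fppfPrecoverage 𝒴)
    (f : 𝒳 ⥤ᵇ 𝒴) (hf : AlgSt.IsQuasiCompactMor Scheme.fppfPrecoverage f)
    {V : Over S} (hVaff : IsAffine V.left) (v : FibCat.overCat V ⥤ᵇ 𝒴)
    (hv : AlgSt.RepByAlgSpWith (AlgSp.LocP @Smooth) v) (p : ↥V.left)
    (hp : AlgSt.Points.ofChart v p ∈ closure (Set.range (AlgSt.Points.map f))) :
    ∃ (A : Type u) (_ : CommRing A) (_ : IsDomain A) (_ : ValuationRing A)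
      (sA : Spec (CommRingCat.of A) ⟶ S)
      (a : FibCat.overCat (Over.mk sA) ⥤ᵇ 𝒴)
      (x : FibCat.overCat (Over.mk (Spec.map (CommRingCat.ofHom
        (algebraMap A (FractionRing A))) ≫ sA)) ⥤ᵇ 𝒳),
      Nonempty (BasedFunctor.comp x f ≅
        BasedFunctor.comp (AlgSt.overMap (Over.homMk (Spec.map (CommRingCat.ofHom
          (algebraMap A (FractionRing A)))) rfl :
          Over.mk (Spec.map (CommRingCat.ofHom (algebraMap A (FractionRing A))) ≫ sA) ⟶
            Over.mk sA)) a) ∧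
      AlgSt.Points.ofChart a (IsLocalRing.closedPoint A) = AlgSt.Points.ofChart v p := by
  have h𝒳g : IsFibGrpd 𝒳.p := h𝒳.isStack.1
  have h𝒴g : IsFibGrpd 𝒴.p := h𝒴.isStack.1
  have hVg : IsFibGrpd (FibCat.overCat V).p := isFibGrpd_over_forget V
  obtain ⟨U, u, hUaff, hu, hu'⟩ :=
    hf (FibCat.overCat V) (isAlgStack_overCat V) (isQuasiCompact_overCat V hVaff) v
  have h𝒲g : IsFibGrpd (fp v f).p := isFibGrpd_fp v f hVg h𝒳g h𝒴g
  obtain ⟨η, ⟨ιη⟩⟩ := exists_overMap_iso (BasedFunctor.comp u (fpFst v f))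
  obtain ⟨hcont, hopen⟩ := continuous_and_isOpenMap_ofChart h𝒴 V v
    (repWith_flat_of_smooth v hv) (repWith_lfp_of_smooth v hv)
  have hsurj := ofChart_surjective_of_repWith h𝒲g u hu'
  have hpre : AlgSt.Points.ofChart v ⁻¹' (Set.range (AlgSt.Points.map f)) ⊆
      Set.range η.left := by
    rintro q ⟨xpt, hx⟩
    obtain ⟨w, hw₁, hw₂⟩ := exists_fp_point h𝒳g h𝒴g hVg f v (pt V q) xpt hx.symm
    obtain ⟨t, rfl⟩ := hsurj w
    have e1 : pt V (η.left t) = AlgSt.Points.map (AlgSt.overMap η) (pt U t) :=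
      (map_overMap_pt η t).symm
    have e2 : AlgSt.Points.map (AlgSt.overMap η) (pt U t) =
        AlgSt.Points.map (BasedFunctor.comp u (fpFst v f)) (pt U t) :=
      (map_congr_iso ιη (pt U t)).symm
    have e3 : AlgSt.Points.map (BasedFunctor.comp u (fpFst v f)) (pt U t) =
        AlgSt.Points.map (fpFst v f) (AlgSt.Points.ofChart u t) :=
      Groth.Agent.Lib.AlgStPoints.map_comp u (fpFst v f) (pt U t)
    exact ⟨t, pt_injective V (e1.trans (e2.trans (e3.trans hw₁)))⟩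
  have hp' : p ∈ closure (Set.range η.left) := by
    have h1 : p ∈ AlgSt.Points.ofChart v ⁻¹' closure (Set.range (AlgSt.Points.map f)) := hp
    rw [hopen.preimage_closure_eq_closure_preimage hcont] at h1
    exact closure_mono hpre h1
  haveI : IsAffine U.left := hUaff
  haveI : IsAffine V.left := hVaff
  obtain ⟨t, ht⟩ := exists_specializes_of_mem_closure_range η.left p hp'
  obtain ⟨A, iA, iD, iV, i₂, i₁, hcomm, hcl⟩ :=
    exists_valuationRing_of_specializes η.left t p ht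
  have hi₁ : i₁ ≫ U.hom =
      Spec.map (CommRingCat.ofHom (algebraMap A (FractionRing A))) ≫ i₂ ≫ V.hom := by
    rw [← Over.w η, ← Category.assoc, ← hcomm, Category.assoc]
  obtain ⟨i₂O, hi₂O⟩ : ∃ i₂O : Over.mk (i₂ ≫ V.hom) ⟶ V, i₂O.left = i₂ :=
    ⟨Over.homMk i₂ rfl, rfl⟩
  obtain ⟨i₁O, hi₁O⟩ : ∃ i₁O : Over.mk (Spec.map (CommRingCat.ofHom
      (algebraMap A (FractionRing A))) ≫ i₂ ≫ V.hom) ⟶ U, i₁O.left = i₁ :=
    ⟨Over.homMk i₁ hi₁, rfl⟩
  have hO : i₁O ≫ η = (Over.homMk (Spec.map (CommRingCat.ofHom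
      (algebraMap A (FractionRing A)))) rfl :
        Over.mk (Spec.map (CommRingCat.ofHom (algebraMap A (FractionRing A))) ≫ i₂ ≫ V.hom) ⟶
          Over.mk (i₂ ≫ V.hom)) ≫ i₂O := by
    apply Over.OverMorphism.ext
    show i₁O.left ≫ η.left = Spec.map (CommRingCat.ofHom
      (algebraMap A (FractionRing A))) ≫ i₂O.left
    rw [hi₁O, hi₂O]
    exact hcomm.symm
  have hE : BasedFunctor.comp (AlgSt.overMap i₁O) (BasedFunctor.comp (AlgSt.overMap η) v) =
      BasedFunctor.comp (AlgSt.overMap (Over.homMk (Spec.map (CommRingCat.ofHom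
        (algebraMap A (FractionRing A)))) rfl :
        Over.mk (Spec.map (CommRingCat.ofHom (algebraMap A (FractionRing A))) ≫ i₂ ≫ V.hom) ⟶
          Over.mk (i₂ ≫ V.hom))) (BasedFunctor.comp (AlgSt.overMap i₂O) v) := by
    have h1 := congrArg (fun F => BasedFunctor.comp F v)
      ((overMap_comp i₁O η).symm.trans ((congrArg AlgSt.overMap hO).trans (overMap_comp _ i₂O)))
    exact h1
  refine ⟨A, iA, iD, iV, i₂ ≫ V.hom, BasedFunctor.comp (AlgSt.overMap i₂O) v,
    BasedFunctor.comp (AlgSt.overMap i₁O) (BasedFunctor.comp u (fpSnd v f)), ⟨?_⟩, ?_⟩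
  · have j1 : BasedFunctor.comp (BasedFunctor.comp (AlgSt.overMap i₁O)
        (BasedFunctor.comp u (fpSnd v f))) f ≅
        BasedFunctor.comp (AlgSt.overMap i₁O)
          (BasedFunctor.comp u (BasedFunctor.comp (fpFst v f) v)) :=
      whiskerLeftIso (AlgSt.overMap i₁O) (whiskerLeftIso u (fpIso v f).symm)
    have j2 : BasedFunctor.comp (AlgSt.overMap i₁O)
          (BasedFunctor.comp u (BasedFunctor.comp (fpFst v f) v)) ≅
        BasedFunctor.comp (AlgSt.overMap i₁O) (BasedFunctor.comp (AlgSt.overMap η) v) :=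
      whiskerLeftIso (AlgSt.overMap i₁O) (whiskerRightIso ιη v)
    exact j1 ≪≫ j2 ≪≫ eqToIso hE
  · have h1 := ofChart_overMap_comp i₂O v (IsLocalRing.closedPoint A)
    rw [hi₂O] at h1
    exact h1.trans (congrArg (AlgSt.Points.ofChart v) hcl)

/-- **Valuative witnesses for the closure of the image** of a quasi-compact morphism of
algebraic stacks. -/
theorem exists_valuative_of_mem_closure
    (h𝒳 : AlgSt.IsAlgStack Scheme.fppfPrecoverage 𝒳)
    (h𝒴 : AlgSt.IsAlgStack Scheme.fppfPrecoverage 𝒴)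
    (f : 𝒳 ⥤ᵇ 𝒴) (hf : AlgSt.IsQuasiCompactMor Scheme.fppfPrecoverage f)
    (y : AlgSt.Points 𝒴) (hy : y ∈ closure (Set.range (AlgSt.Points.map f))) :
    ∃ (A : Type u) (_ : CommRing A) (_ : IsDomain A) (_ : ValuationRing A)
      (sA : Spec (CommRingCat.of A) ⟶ S)
      (a : FibCat.overCat (Over.mk sA) ⥤ᵇ 𝒴)
      (x : FibCat.overCat (Over.mk (Spec.map (CommRingCat.ofHom
        (algebraMap A (FractionRing A))) ≫ sA)) ⥤ᵇ 𝒳),
      Nonempty (BasedFunctor.comp x f ≅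
        BasedFunctor.comp (AlgSt.overMap (Over.homMk (Spec.map (CommRingCat.ofHom
          (algebraMap A (FractionRing A)))) rfl :
          Over.mk (Spec.map (CommRingCat.ofHom (algebraMap A (FractionRing A))) ≫ sA) ⟶
            Over.mk sA)) a) ∧
      AlgSt.Points.ofChart a (IsLocalRing.closedPoint A) = y := by
  have h𝒴g : IsFibGrpd 𝒴.p := h𝒴.isStack.1
  obtain ⟨V₀, v₀, hv₀, hv₀'⟩ := h𝒴.atlas
  obtain ⟨p₀, rfl⟩ := ofChart_surjective_of_repWith h𝒴g v₀ hv₀' y
  obtain ⟨W, hW, hpW, -⟩ := exists_isAffineOpen_mem_and_subset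
    (x := p₀) (U := (⊤ : V₀.left.Opens)) trivial
  obtain ⟨p', hp'⟩ : ∃ p' : ↥(Spec Γ(V₀.left, W)), hW.fromSpec p' = p₀ := by
    have h1 : p₀ ∈ Set.range hW.fromSpec := by
      rw [hW.range_fromSpec]
      exact hpW
    exact h1
  obtain ⟨jW, hjWl⟩ : ∃ jW : Over.mk (hW.fromSpec ≫ V₀.hom) ⟶ V₀, jW.left = hW.fromSpec :=
    ⟨Over.homMk hW.fromSpec rfl, rfl⟩
  have hIs : IsoInv (AlgSp.LocP @Smooth : MorphismProperty (AlgSp.Sp S)) :=
    isoInv_locP _ etLocal_smooth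
  have hLs : SchemeTestable (AlgSp.LocP @Smooth : MorphismProperty (AlgSp.Sp S)) :=
    schemeTestable_locP _
  have hjW : AlgSt.RepByAlgSpWith (AlgSp.LocP @Smooth) (AlgSt.overMap jW) :=
    repWith_overMap _ (bc_locP _ etLocal_smooth) jW
      (locP_yon_map_of @Smooth (fun _ _ g (_ : Etale g) => (inferInstance : Smooth g)) jW
        (by rw [hjWl]; infer_instance))
  have hv : AlgSt.RepByAlgSpWith (AlgSp.LocP @Smooth)
      (BasedFunctor.comp (AlgSt.overMap jW) v₀) :=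
    repWith_comp' (isFibGrpd_over_forget _) (isFibGrpd_over_forget V₀) _ hIs hLs
      comp_locP_smooth _ _ hjW hv₀
  have hpt : AlgSt.Points.ofChart (BasedFunctor.comp (AlgSt.overMap jW) v₀) p' =
      AlgSt.Points.ofChart v₀ p₀ := by
    have hpj : jW.left p' = p₀ := by rw [hjWl]; exact hp'
    exact (ofChart_overMap_comp jW v₀ p').trans (congrArg (AlgSt.Points.ofChart v₀) hpj)
  have hVaff : IsAffine (Over.mk (hW.fromSpec ≫ V₀.hom)).left :=
    (inferInstance : IsAffine (Spec Γ(V₀.left, W)))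
  obtain ⟨A, iA, iD, iV, sA, a, x, hiso, hcl⟩ :=
    exists_valuative_of_affine_chart h𝒳 h𝒴 f hf hVaff
      (BasedFunctor.comp (AlgSt.overMap jW) v₀) hv p' (by rw [hpt]; exact hy)
  exact ⟨A, iA, iD, iV, sA, a, x, hiso, hcl.trans hpt⟩

end stk

end Groth.Agent.Lib.AlgStLocQ
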