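import Groth.Agent.Lib.AlgStDenseLift_lead
import Groth.Agent.Lib.AlgStLocal3_lead
import Groth.Agent.Lib.AlgStFp_lead
import Groth.Agent.Lib.AlgStLocQ4_lead
import Groth.Agent.Lib.AlgStDiagRep3_lead
import Groth.Agent.Lib.AlgStQcQs_lead
import Groth.Agent.Lib.AlgStGenIso2_lead
import Groth.Agent.Lib.AlgStTop_lead
import Groth.Agent.Lib.AlgStUniv2_lead
import Groth.Agent.Lib.AlgStValWit_lead
import Groth.Agent.Lib.AlgStFppfLift_lead

/-! # Lifting valuation rings along flat morphisms of algebraic stacks (lead) -/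

set_option autoImplicit false
set_option linter.style.haveILetI false
set_option backward.isDefEq.respectTransparency false
set_option backward.isDefEq.respectTransparency.types false

universe w v₁ v₂ v₃ v₄ v₅ v₆ u₁ u₂ u₃ u₄ u₅ u₆ u

open CategoryTheory CategoryTheory.Limits AlgebraicGeometry Opposite FibCat Stk

namespace Groth.Agent.Lib.AlgStLocQ

open AlgSt Groth.Agent.Lib.FibCat_helper6 Groth.Agent.Lib.FibCat3_helper6
  Groth.Agent.Lib.FibCat14_helper6 Groth.Agent.Lib.FibCat12_helper6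
  Groth.Agent.Lib.FibCatPaste Groth.Agent.Lib.FibCatSwap
  Groth.Agent.Lib.FibCatIsoFun
  Groth.Agent.Lib.OfPshCalc Groth.Agent.Lib.AlgStBC
  Groth.Agent.Lib.AlgStEquiv Groth.Agent.Lib.AlgStEquivP Groth.Agent.Lib.AlgStEquivInv
  Groth.Agent.Lib.OfPshAlgSt Groth.Agent.Lib.LiftSqBC Groth.Agent.Lib.LiftSqComp
  Groth.Agent.Lib.OfPshWith Groth.Agent.Lib.FibCatDiagSec Groth.Agent.Lib.AlgStDiagRep
  Groth.Agent.Lib.FibCatDiagBC Groth.Agent.Lib.FibCatMagic Groth.Agent.Lib.FibCatProd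
  Groth.Agent.Lib.AlgStDiag Groth.Agent.Lib.AlgStLocal
  Groth.Agent.Lib.AlgSpQC_helper7 Groth.Agent.Lib.AlgSpDiag_helper7
  Groth.Agent.Lib.AlgSpPullback_helper7 Groth.Agent.Lib.AlgSpRepBySp_helper7
  Groth.Agent.Lib.AlgSpPoints_helper7 Groth.Agent.Lib.AlgSpLocP_helper7
  Groth.Agent.Lib.AlgSpBasic_helper7 Groth.Agent.Lib.AlgSpSep_helper7
  Groth.Agent.Lib.AlgSpLocP4_helper7 Groth.Agent.Lib.AlgSpLocP5_helper7
  Groth.Agent.Lib.AlgSpLocP7_helper7 Groth.Agent.Lib.AlgSpQC2_helper7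
  Groth.Agent.Lib.AlgSpLocP8_helper7 Groth.Agent.Lib.AlgSpLocP10_helper7
  Groth.Agent.Lib.AlgSpFpqc3_helper7 Groth.Agent.Lib.AlgSpLocP6_helper7
  Groth.Agent.Lib.AlgSpFpqc2_helper7 Groth.Agent.Lib.AlgSpFpqc_helper7
  Groth.Agent.Lib.AlgSpProper_helper7 Groth.Agent.Lib.AlgSpAffineMorH7
  Groth.Agent.Lib.AlgStAtlas Groth.Agent.Lib.AlgStPoints Groth.Agent.Lib.AlgStPtsCmp
  Groth.Agent.Lib.FibCatYoneda_helper6 Groth.Agent.Lib.AlgSpFieldFlat_helper7


variable {S : Scheme.{u}} {𝒳 𝒴 : AlgSt.Cat S}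

section alg

open IsLocalRing in
/-- A specialization `f x' ⤳ y` is witnessed by a valuation ring (as in the valuative criterion);
the generic point goes to `x'`. -/
theorem exists_valuationRing_of_specializes' {X Y : Scheme.{u}} (f : X ⟶ Y) (x' : ↥X) (y : ↥Y)
    (h : f x' ⤳ y) :
    ∃ (A : Type u) (_ : CommRing A) (_ : IsDomain A) (_ : ValuationRing A)
      (i₂ : Spec (CommRingCat.of A) ⟶ Y) (i₁ : Spec (CommRingCat.of (FractionRing A)) ⟶ X),
      Spec.map (CommRingCat.ofHom (algebraMap A (FractionRing A))) ≫ i₂ = i₁ ≫ f ∧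
      i₂ (IsLocalRing.closedPoint A) = y ∧ ∀ z, i₁ z = x' := by
  let φ : Y.presheaf.stalk y ⟶ X.residueField x' :=
    Y.presheaf.stalkSpecializes h ≫ f.stalkMap x' ≫ X.residue x'
  obtain ⟨A, hA, hA_local⟩ := exists_factor_valuationRing φ.hom
  let ψ : Y.presheaf.stalk y ⟶ .of A := CommRingCat.ofHom (φ.hom.codRestrict _ hA)
  have w : X.fromSpecResidueField x' ≫ f =
      Spec.map (CommRingCat.ofHom (algebraMap A (X.residueField x'))) ≫
        Spec.map ψ ≫ Y.fromSpecStalk y := by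
    rw [Scheme.fromSpecResidueField, Category.assoc, ← Scheme.SpecMap_stalkMap_fromSpecStalk,
      ← Scheme.SpecMap_stalkSpecializes_fromSpecStalk h]
    simp_rw [← Spec.map_comp_assoc]
    rfl
  let e : FractionRing A ≃ₐ[A] (X.residueField x') :=
    FractionRing.algEquiv A (X.residueField x')
  have hcomp : CommRingCat.ofHom (algebraMap A (X.residueField x')) ≫
      CommRingCat.ofHom e.symm.toRingEquiv.toRingHom =
      CommRingCat.ofHom (algebraMap A (FractionRing A)) := by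
    apply CommRingCat.hom_ext
    apply RingHom.ext
    intro a
    exact e.symm.commutes a
  refine ⟨↥A, inferInstance, inferInstance, inferInstance, ?_⟩
  refine ⟨Spec.map ψ ≫ Y.fromSpecStalk y,
    Spec.map (CommRingCat.ofHom e.symm.toRingEquiv.toRingHom) ≫ X.fromSpecResidueField x',
    ?_, ?_, ?_⟩
  · rw [Category.assoc, w, ← hcomp, Spec.map_comp, Category.assoc]
  · have h1 : Spec.map ψ (closedPoint A) = closedPoint (Y.presheaf.stalk y) :=
      comap_closedPoint (S := A) (φ.hom.codRestrict A.toSubring hA)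
    rw [Scheme.Hom.comp_apply, h1, Y.fromSpecStalk_closedPoint]
  · intro z
    rw [Scheme.Hom.comp_apply]
    exact Scheme.fromSpecResidueField_apply x' _

/-- Lifting a valuation ring along a flat morphism of schemes through a point over the closed
point. -/
theorem exists_valuationRing_lift_of_flat {X : Scheme.{u}} {A : Type u} [CommRing A] [IsDomain A]
    [ValuationRing A] (g : X ⟶ Spec (CommRingCat.of A)) [Flat g] (x₀ : ↥X)
    (hx₀ : g x₀ = IsLocalRing.closedPoint A) :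
    ∃ (A' : Type u) (_ : CommRing A') (_ : IsDomain A') (_ : ValuationRing A') (φ : A →+* A')
      (i : Spec (CommRingCat.of A') ⟶ X),
      Function.Injective φ ∧ IsLocalHom φ ∧ i ≫ g = Spec.map (CommRingCat.ofHom φ) := by
  obtain ⟨ξ, hξ⟩ : ∃ ξ : PrimeSpectrum A, ξ.asIdeal = ⊥ := ⟨⟨⊥, Ideal.isPrime_bot⟩, rfl⟩
  have hspec : ξ ⤳ g x₀ := by
    rw [hx₀]
    exact IsLocalRing.specializes_closedPoint ξ
  obtain ⟨x', hx'₁, hx'₂⟩ := (Flat.generalizingMap g) hspec
  obtain ⟨A', iA, iD, iV, i₂, i₁, hcomm, hcl, hi₁⟩ :=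
    exists_valuationRing_of_specializes' (𝟙 X) x' x₀ hx'₁
  obtain ⟨φ, hφ⟩ : ∃ φ : A →+* A', Spec.map (CommRingCat.ofHom φ) = i₂ ≫ g :=
    ⟨(Spec.preimage (i₂ ≫ g)).hom, Spec.map_preimage (i₂ ≫ g)⟩
  have hpt : ∀ z : PrimeSpectrum A', PrimeSpectrum.comap φ z = g (i₂ z) := by
    intro z
    have h1 : (Spec.map (CommRingCat.ofHom φ)) z = g (i₂ z) := by
      rw [hφ, Scheme.Hom.comp_apply]
    exact h1
  refine ⟨A', iA, iD, iV, φ, i₂, ?_, ?_, hφ.symm⟩
  · have hcomm' : Spec.map (CommRingCat.ofHom (algebraMap A' (FractionRing A'))) ≫ i₂ = i₁ :=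
      hcomm.trans (Category.comp_id i₁)
    obtain ⟨z₀⟩ : Nonempty (PrimeSpectrum (FractionRing A')) := ⟨⟨⊥, Ideal.isPrime_bot⟩⟩
    obtain ⟨η', hη'⟩ : ∃ η' : PrimeSpectrum A',
        η' = Spec.map (CommRingCat.ofHom (algebraMap A' (FractionRing A'))) z₀ := ⟨_, rfl⟩
    have h1 : i₂ η' = x' := by
      rw [hη', ← Scheme.Hom.comp_apply, hcomm']
      exact hi₁ z₀
    have h2 : PrimeSpectrum.comap φ η' = ξ := by
      rw [hpt, h1]
      exact hx'₂
    refine (injective_iff_map_eq_zero φ).2 fun r hr => ?_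
    have hmem : r ∈ (PrimeSpectrum.comap φ η').asIdeal := by
      show φ r ∈ η'.asIdeal
      rw [hr]
      exact zero_mem _
    rw [h2, hξ] at hmem
    exact Ideal.mem_bot.1 hmem
  · refine (IsLocalRing.isLocalHom_iff_comap_closedPoint φ).2 ?_
    rw [hpt]
    have h3 : i₂ (IsLocalRing.closedPoint A') = x₀ := hcl
    rw [h3]
    exact hx₀

end alg

section stk

/-- A flat chart of the base change of a flat morphism along a morphism from a scheme. -/
theorem exists_flat_chart_fp (h𝒳 : AlgSt.IsAlgStack Scheme.fppfPrecoverage 𝒳)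
    (h𝒴 : AlgSt.IsAlgStack Scheme.fppfPrecoverage 𝒴) (f : 𝒳 ⥤ᵇ 𝒴)
    (hf : AlgSt.LocQ (AlgSp.LocP @Flat) f) (T : Over S) (a : FibCat.overCat T ⥤ᵇ 𝒴) :
    ∃ (W : Over S) (g : W ⟶ T) (t : FibCat.overCat W ⥤ᵇ fp a f),
      Nonempty (BasedFunctor.comp t (fpFst a f) ≅ AlgSt.overMap g) ∧
      AlgSt.IsSurjective t ∧ Flat g.left := by
  have hIs : IsoInv (AlgSp.LocP @Smooth : MorphismProperty (AlgSp.Sp S)) :=
    isoInv_locP _ etLocal_smooth
  have hLs : SchemeTestable (AlgSp.LocP @Smooth : MorphismProperty (AlgSp.Sp S)) :=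
    schemeTestable_locP _
  have hU : IsFibGrpd (FibCat.overCat T).p := isFibGrpd_over_forget T
  have hid : AlgSt.RepByAlgSpWith (AlgSp.LocP @Smooth)
      (BasedFunctor.id (FibCat.overCat T)) := repWith_smooth_id_overCat T
  have hfib : IsFibGrpd (fp a f).p := isFibGrpd_fp a f hU h𝒳.isStack.1 h𝒴.isStack.1
  have hat : AlgSt.HasAtlas (AlgSp.LocP @Smooth) (fp a f) :=
    hasAtlas_fp _ hIs hLs comp_locP_smooth
      (fun h => (hasAtlas_of_repByAlgSp h).2) hU h𝒳.isStack.1 h𝒴.isStack.1 h𝒴.diag a f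
      (hasAtlas_of_repByAlgSp (repByAlgSp_overCat T)).2 h𝒳.atlas
  obtain ⟨W, t, ht₁, ht₂⟩ := hat
  have hW : IsFibGrpd (FibCat.overCat W).p := isFibGrpd_over_forget W
  obtain ⟨g, ⟨ι⟩⟩ := exists_overMap_iso (BasedFunctor.comp t (fpFst a f))
  have hts : AlgSt.IsSurjective t :=
    (isSurjective_iff_repWith hW hfib t (repByAlgSp1_of_repWith _ ht₂)).2 ht₂
  have hπ : IsEquivOver (fpFst (fpFst a f) (BasedFunctor.id (FibCat.overCat T))) :=
    isEquivOver_comp (swap_isEquivOver (fpFst a f) (BasedFunctor.id (FibCat.overCat T)))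
      (fpSnd_id_isEquivOver (fpFst a f))
  let α : BasedFunctor.comp t (fpFst a f) ≅
      BasedFunctor.comp (AlgSt.overMap g) (BasedFunctor.id (FibCat.overCat T)) := ι
  have hℓ : AlgSt.RepByAlgSpWith (AlgSp.LocP @Smooth) (fpLift t (AlgSt.overMap g) α) :=
    repWith_cancel_postcomp_equiv _ _ _ hπ ht₁
  have g1 : GoodSch (AlgSp.LocP @Flat) (fpFst a f) :=
    goodSch_of_locQ hfib hU _ isSmoothLocalST_flat (fpFst a f)
      (locQ_baseChange h𝒳 h𝒴 (isAlgStack_overCat T) _ isSmoothLocalST_flat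
        (bc_locP _ etLocal_flat) f a hf)
  exact ⟨W, g, t, ⟨ι⟩, hts, AlgSp.locP_yon_map (g1 W T t (BasedFunctor.id _) g α hid hℓ)⟩

/-- **Lifting valuation rings along flat morphisms** of algebraic stacks. -/
theorem exists_valuationRing_lift
    (h𝒳 : AlgSt.IsAlgStack Scheme.fppfPrecoverage 𝒳)
    (h𝒴 : AlgSt.IsAlgStack Scheme.fppfPrecoverage 𝒴)
    (f : 𝒳 ⥤ᵇ 𝒴) (hf : AlgSt.LocQ (AlgSp.LocP @Flat) f)
    (A : Type u) [CommRing A] [IsDomain A] [ValuationRing A]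
    (sA : Spec (CommRingCat.of A) ⟶ S)
    (a : FibCat.overCat (Over.mk sA) ⥤ᵇ 𝒴)
    (ha : AlgSt.Points.ofChart a (IsLocalRing.closedPoint A) ∈
      Set.range (AlgSt.Points.map f)) :
    ∃ (A' : Type u) (_ : CommRing A') (_ : IsDomain A') (_ : ValuationRing A') (φ : A →+* A'),
      Function.Injective φ ∧ IsLocalHom φ ∧
      ∃ x : FibCat.overCat (Over.mk (Spec.map (CommRingCat.ofHom φ) ≫ sA)) ⥤ᵇ 𝒳,
        Nonempty (BasedFunctor.comp x f ≅
          BasedFunctor.comp (AlgSt.overMap (Over.homMk (Spec.map (CommRingCat.ofHom φ)) rfl :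
            Over.mk (Spec.map (CommRingCat.ofHom φ) ≫ sA) ⟶ Over.mk sA)) a) := by
  have h𝒳g : IsFibGrpd 𝒳.p := h𝒳.isStack.1
  have h𝒴g : IsFibGrpd 𝒴.p := h𝒴.isStack.1
  have hTg : IsFibGrpd (FibCat.overCat (Over.mk sA)).p := isFibGrpd_over_forget _
  obtain ⟨W, g, t, ⟨ι⟩, hts, hflat⟩ := exists_flat_chart_fp h𝒳 h𝒴 f hf (Over.mk sA) a
  obtain ⟨xpt, hx⟩ := ha
  obtain ⟨z, hz₁, hz₂⟩ := exists_fp_point h𝒳g h𝒴g hTg f a
    (pt (Over.mk sA) (IsLocalRing.closedPoint A)) xpt hx.symm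
  obtain ⟨q, rfl⟩ := hts z
  obtain ⟨w₀, rfl⟩ := pt_surjective W q
  have hgw : g.left w₀ = IsLocalRing.closedPoint A := by
    apply pt_injective (Over.mk sA)
    have e1 : pt (Over.mk sA) (g.left w₀) = AlgSt.Points.map (AlgSt.overMap g) (pt W w₀) :=
      (map_overMap_pt g w₀).symm
    have e2 : AlgSt.Points.map (AlgSt.overMap g) (pt W w₀) =
        AlgSt.Points.map (BasedFunctor.comp t (fpFst a f)) (pt W w₀) :=
      (map_congr_iso ι (pt W w₀)).symm
    have e3 : AlgSt.Points.map (BasedFunctor.comp t (fpFst a f)) (pt W w₀) =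
        AlgSt.Points.map (fpFst a f) (AlgSt.Points.map t (pt W w₀)) :=
      Groth.Agent.Lib.AlgStPoints.map_comp t (fpFst a f) (pt W w₀)
    exact e1.trans (e2.trans (e3.trans hz₁))
  haveI : Flat g.left := hflat
  obtain ⟨A', iA, iD, iV, φ, i, hinj, hloc, hi⟩ :=
    exists_valuationRing_lift_of_flat (A := A) g.left w₀ hgw
  have hiw : i ≫ W.hom = Spec.map (CommRingCat.ofHom φ) ≫ sA := by
    have h1 : g.left ≫ sA = W.hom := Over.w g
    calc i ≫ W.hom = i ≫ g.left ≫ sA := by rw [h1]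
      _ = (i ≫ g.left) ≫ sA := (Category.assoc _ _ _).symm
      _ = Spec.map (CommRingCat.ofHom φ) ≫ sA := congrArg (fun k => k ≫ sA) hi
  obtain ⟨iO, hiO⟩ : ∃ iO : Over.mk (Spec.map (CommRingCat.ofHom φ) ≫ sA) ⟶ W, iO.left = i :=
    ⟨Over.homMk i hiw, rfl⟩
  have hO : iO ≫ g = (Over.homMk (Spec.map (CommRingCat.ofHom φ)) rfl :
      Over.mk (Spec.map (CommRingCat.ofHom φ) ≫ sA) ⟶ Over.mk sA) := by
    apply Over.OverMorphism.ext
    show iO.left ≫ g.left = Spec.map (CommRingCat.ofHom φ)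
    rw [hiO]
    exact hi
  refine ⟨A', iA, iD, iV, φ, hinj, hloc,
    BasedFunctor.comp (AlgSt.overMap iO) (BasedFunctor.comp t (fpSnd a f)), ⟨?_⟩⟩
  have j1 : BasedFunctor.comp (BasedFunctor.comp (AlgSt.overMap iO)
      (BasedFunctor.comp t (fpSnd a f))) f ≅
      BasedFunctor.comp (AlgSt.overMap iO)
        (BasedFunctor.comp t (BasedFunctor.comp (fpFst a f) a)) :=
    whiskerLeftIso (AlgSt.overMap iO) (whiskerLeftIso t (fpIso a f).symm)
  have j2 : BasedFunctor.comp (AlgSt.overMap iO)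
        (BasedFunctor.comp t (BasedFunctor.comp (fpFst a f) a)) ≅
      BasedFunctor.comp (AlgSt.overMap iO) (BasedFunctor.comp (AlgSt.overMap g) a) :=
    whiskerLeftIso (AlgSt.overMap iO) (whiskerRightIso ι a)
  have hE : BasedFunctor.comp (AlgSt.overMap iO) (BasedFunctor.comp (AlgSt.overMap g) a) =
      BasedFunctor.comp (AlgSt.overMap (Over.homMk (Spec.map (CommRingCat.ofHom φ)) rfl :
        Over.mk (Spec.map (CommRingCat.ofHom φ) ≫ sA) ⟶ Over.mk sA)) a := by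
    have h1 := congrArg (fun F => BasedFunctor.comp F a)
      ((overMap_comp iO g).symm.trans (congrArg AlgSt.overMap hO))
    exact h1
  exact j1 ≪≫ j2 ≪≫ eqToIso hE

end stk

end Groth.Agent.Lib.AlgStLocQ
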