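import Groth.Agent.Lib.AlgStOpenSub3_lead
import Groth.Agent.Lib.AlgStDiagRep2_lead
import Groth.Prelude.Def_W4stkstmodspWNA
import Groth.Agent.Lib.AlgSpTop_helper7
import Groth.Agent.Lib.AlgSpUniv_helper7

/-! # Well-nigh affine stacks: affine morphisms (lead) -/

set_option autoImplicit false

universe w v₁ v₂ v₃ v₄ v₅ v₆ u₁ u₂ u₃ u₄ u₅ u₆ u

open CategoryTheory CategoryTheory.Limits AlgebraicGeometry Opposite FibCat Stk

namespace Groth.Agent.Lib.AlgStLocQ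

open AlgSt Groth.Agent.Lib.FibCat_helper6 Groth.Agent.Lib.FibCat3_helper6
  Groth.Agent.Lib.FibCat14_helper6 Groth.Agent.Lib.FibCat12_helper6
  Groth.Agent.Lib.FibCatPaste Groth.Agent.Lib.FibCatSwap
  Groth.Agent.Lib.FibCatIsoFun
  Groth.Agent.Lib.OfPshCalc Groth.Agent.Lib.AlgStBC
  Groth.Agent.Lib.AlgStEquiv Groth.Agent.Lib.AlgStEquivP Groth.Agent.Lib.AlgStEquivInv
  Groth.Agent.Lib.OfPshAlgSt Groth.Agent.Lib.LiftSqBC Groth.Agent.Lib.LiftSqComp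
  Groth.Agent.Lib.OfPshWith Groth.Agent.Lib.FibCatDiagSec Groth.Agent.Lib.AlgStDiagRep
  Groth.Agent.Lib.FibCatDiagBC Groth.Agent.Lib.FibCatMagic Groth.Agent.Lib.FibCatProd
  Groth.Agent.Lib.AlgStDiag Groth.Agent.Lib.AlgStLocal
  Groth.Agent.Lib.AlgSpQC_helper7 Groth.Agent.Lib.AlgSpDiag_helper7
  Groth.Agent.Lib.AlgSpPullback_helper7 Groth.Agent.Lib.AlgSpRepBySp_helper7
  Groth.Agent.Lib.AlgSpPoints_helper7 Groth.Agent.Lib.AlgSpLocP_helper7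
  Groth.Agent.Lib.AlgSpBasic_helper7 Groth.Agent.Lib.AlgSpSep_helper7
  Groth.Agent.Lib.AlgSpLocP4_helper7 Groth.Agent.Lib.AlgSpLocP5_helper7
  Groth.Agent.Lib.AlgSpLocP7_helper7 Groth.Agent.Lib.AlgSpQC2_helper7
  Groth.Agent.Lib.AlgSpLocP8_helper7 Groth.Agent.Lib.AlgSpLocP10_helper7
  Groth.Agent.Lib.AlgSpFpqc3_helper7 Groth.Agent.Lib.AlgSpLocP6_helper7
  Groth.Agent.Lib.AlgSpFpqc2_helper7 Groth.Agent.Lib.AlgSpFpqc_helper7
  Groth.Agent.Lib.AlgSpProper_helper7 Groth.Agent.Lib.AlgSpAffineMorH7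
  Groth.Agent.Lib.AlgStAtlas Groth.Agent.Lib.AlgStPoints Groth.Agent.Lib.AlgStPtsCmp
  Groth.Agent.Lib.FibCatYoneda_helper6



variable {S : Scheme.{u}}

section wna

variable {𝒳 𝒳' : AlgSt.Cat S}

/-- S16699. -/
theorem isWellNighAffine_of_isAffineMor (hw : AlgSt.IsWellNighAffine 𝒳) (f : 𝒳' ⥤ᵇ 𝒳)
    (hf : AlgSt.RepByAlgSpWith AlgSp.IsAffineMor f) : AlgSt.IsWellNighAffine 𝒳' := by
  obtain ⟨U, x, hUaff, hx⟩ := hw
  obtain ⟨F, e, he, hP⟩ := hf U x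
  obtain ⟨W, i, fst, sq, hW⟩ := hP hUaff (𝟙 _)
  haveI : IsIso fst := sq.isIso_fst_of_isIso
  have hj : IsEquivOver (AlgSt.ofSpMap fst) := isEquivOver_ofSpMap_of_isIso fst
  have hE : IsEquivOver (BasedFunctor.comp (AlgSt.ofOverCat W)
      (BasedFunctor.comp (AlgSt.ofSpMap fst) e)) :=
    isEquivOver_comp (ofOverCat_isEquivOver W) (isEquivOver_comp hj he)
  exact ⟨W, BasedFunctor.comp (BasedFunctor.comp (AlgSt.ofOverCat W)
      (BasedFunctor.comp (AlgSt.ofSpMap fst) e)) (fpSnd x f), hW,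
    repWith_precomp_equiv _ _ hE (fpSnd x f) (repWith_fpSnd _ x f hx)⟩

end wna

end Groth.Agent.Lib.AlgStLocQ
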