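import Mathlib

/-!
# Algebraization of versal formal deformations, part 1 (helper5): commutative algebra
* `initial_le`: approximating generators of an ideal together with generators of their relations
  does not enlarge initial ideals (Artin–Rees);
* `surj_pow`, `inj_pow`: neighbourhoods which are isomorphisms modulo `J` are so modulo `J^n`;
* `finrank_le_of_initial_le`: comparison of Hilbert functions from comparison of initial ideals.
-/

set_option autoImplicit false
set_option linter.style.haveILetI false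
set_option linter.unusedVariables false
set_option maxHeartbeats 1600000

universe u

open TensorProduct

namespace Groth.Agent.Lib.AlgzH5


/-- elements of `J • span (range f)` as explicit combinations -/
theorem exists_coeffs {R M : Type*} [CommRing R] [AddCommGroup M] [Module R M] (J : Ideal R)
    {s : ℕ} (f : Fin s → M) (x : M) (hx : x ∈ J • Submodule.span R (Set.range f)) :
    ∃ b : Fin s → R, (∀ i, b i ∈ J) ∧ ∑ i, b i • f i = x := by
  obtain ⟨a, ha, rfl⟩ := (Submodule.mem_ideal_smul_span_iff_exists_sum J f x).mp hx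
  refine ⟨fun i => a i, ha, ?_⟩
  rw [Finsupp.sum_fintype]
  intro i
  exact zero_smul _ _

/-- membership in `J • ⊤` for function modules -/
theorem mem_smul_top_pi {R : Type*} [CommRing R] (J : Ideal R) {s : ℕ} (a : Fin s → R) :
    a ∈ J • (⊤ : Submodule R (Fin s → R)) ↔ ∀ i, a i ∈ J := by
  constructor
  · intro h
    refine Submodule.smul_induction_on h (fun r hr v _ i => ?_) (fun x y hx hy i => ?_)
    · exact J.mul_mem_right _ hr
    · exact J.add_mem (hx i) (hy i)
  · intro h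
    have : a = ∑ i, a i • (Pi.single i (1 : R) : Fin s → R) := by
      ext j
      simp [Finset.sum_apply, Pi.single_apply]
    rw [this]
    exact Submodule.sum_mem _ fun i _ => Submodule.smul_mem_smul (h i) Submodule.mem_top


/-- **Initial ideals do not grow under approximation preserving relations** (Artin–Rees). -/
theorem initial_le {B : Type u} [CommRing B] [IsNoetherianRing B] (𝔪 : Ideal B) {s u : ℕ}
    (f : Fin s → B) (ρ : Fin u → Fin s → B)
    (hgen : ∀ a : Fin s → B, ∑ i, a i * f i = 0 → a ∈ Submodule.span B (Set.range ρ)) :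
    ∃ N₀ : ℕ, ∀ N, N₀ ≤ N → ∀ (f' : Fin s → B) (ρ' : Fin u → Fin s → B),
      (∀ i, f' i - f i ∈ 𝔪 ^ N) → (∀ l i, ρ' l i - ρ l i ∈ 𝔪 ^ N) →
      (∀ l, ∑ i, ρ' l i * f' i = 0) →
      ∀ (n : ℕ) (g' : B), g' ∈ Ideal.span (Set.range f') → g' ∈ 𝔪 ^ n →
        ∃ g ∈ Ideal.span (Set.range f), g ∈ 𝔪 ^ n ∧ g' - g ∈ 𝔪 ^ (n + 1) := by
  classical
  obtain ⟨c, hc⟩ := Ideal.exists_pow_inf_eq_pow_smul 𝔪
    (Ideal.span (Set.range f) : Submodule B B)
  let L : (Fin s → B) →ₗ[B] B := Fintype.linearCombination B f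
  have hL : ∀ a : Fin s → B, L a = ∑ i, a i * f i := fun a => by
    show Fintype.linearCombination B f a = _
    rw [Fintype.linearCombination_apply]
    rfl
  obtain ⟨c₂, hc₂⟩ := Ideal.exists_pow_inf_eq_pow_smul 𝔪 (LinearMap.ker L)
  have hRel : LinearMap.ker L ≤ Submodule.span B (Set.range ρ) := by
    intro a ha
    rw [LinearMap.mem_ker, hL] at ha
    exact hgen a ha
  -- K1
  have K1 : ∀ n, c ≤ n → ∀ g ∈ Ideal.span (Set.range f), g ∈ 𝔪 ^ n →
      ∃ b : Fin s → B, (∀ i, b i ∈ 𝔪 ^ (n - c)) ∧ ∑ i, b i * f i = g := by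
    intro n hn g hg hgn
    have h1 : g ∈ 𝔪 ^ n • (⊤ : Submodule B B) ⊓ (Ideal.span (Set.range f) : Submodule B B) := by
      refine ⟨?_, hg⟩
      have : 𝔪 ^ n • (⊤ : Submodule B B) = 𝔪 ^ n := by
        show 𝔪 ^ n • (⊤ : Ideal B) = 𝔪 ^ n
        rw [smul_eq_mul, Ideal.mul_top]
      rw [this]
      exact hgn
    rw [hc n hn] at h1
    have h2 : g ∈ 𝔪 ^ (n - c) • (Submodule.span B (Set.range f) : Submodule B B) :=
      Submodule.smul_mono le_rfl inf_le_right h1
    obtain ⟨b, hb, hbs⟩ := exists_coeffs _ f g h2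
    exact ⟨b, hb, hbs⟩
  -- K2
  have K2 : ∀ e, ∀ v ∈ LinearMap.ker L, (∀ i, v i ∈ 𝔪 ^ e) →
      ∃ cc : Fin u → B, (∀ l, cc l ∈ 𝔪 ^ (e - c₂)) ∧ ∑ l, cc l • ρ l = v := by
    intro e v hv hve
    by_cases hec : c₂ ≤ e
    · have h1 : v ∈ 𝔪 ^ e • (⊤ : Submodule B (Fin s → B)) ⊓ LinearMap.ker L :=
        ⟨(mem_smul_top_pi _ v).mpr hve, hv⟩
      rw [hc₂ e hec] at h1
      have h2 : v ∈ 𝔪 ^ (e - c₂) • Submodule.span B (Set.range ρ) :=
        Submodule.smul_mono le_rfl (inf_le_right.trans hRel) h1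
      exact exists_coeffs _ ρ v h2
    · have h0 : e - c₂ = 0 := by omega
      have h2 : v ∈ 𝔪 ^ (e - c₂) • Submodule.span B (Set.range ρ) := by
        rw [h0, pow_zero, Ideal.one_eq_top, Submodule.top_smul]
        exact hRel hv
      exact exists_coeffs _ ρ v h2
  refine ⟨max c c₂ + 1, fun N hN f' ρ' hf' hρ' hrel n => ?_⟩
  have hNc : c + 1 ≤ N := by
    have := le_max_left c c₂
    omega
  have hNc₂ : c₂ + 1 ≤ N := by
    have := le_max_right c c₂
    omega
  -- the difference estimate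
  have hdiff : ∀ (e : ℕ) (a : Fin s → B), (∀ i, a i ∈ 𝔪 ^ e) →
      ∑ i, a i * f' i - ∑ i, a i * f i ∈ 𝔪 ^ (e + N) := by
    intro e a ha
    rw [← Finset.sum_sub_distrib]
    refine Ideal.sum_mem _ fun i _ => ?_
    rw [← mul_sub, pow_add]
    exact Ideal.mul_mem_mul (ha i) (hf' i)
  have hI : ∀ a : Fin s → B, ∑ i, a i * f i ∈ Ideal.span (Set.range f) := fun a =>
    Ideal.sum_mem _ fun i _ => Ideal.mul_mem_left _ _ (Ideal.subset_span ⟨i, rfl⟩)
  have main : ∀ (k e : ℕ) (a : Fin s → B), (∀ i, a i ∈ 𝔪 ^ e) → n + 1 ≤ e + N + k →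
      ∑ i, a i * f' i ∈ 𝔪 ^ n →
      ∃ g ∈ Ideal.span (Set.range f), g ∈ 𝔪 ^ n ∧ ∑ i, a i * f' i - g ∈ 𝔪 ^ (n + 1) := by
    -- direct case
    have direct : ∀ (e : ℕ) (a : Fin s → B), (∀ i, a i ∈ 𝔪 ^ e) → n + 1 ≤ e + N →
        ∑ i, a i * f' i ∈ 𝔪 ^ n →
        ∃ g ∈ Ideal.span (Set.range f), g ∈ 𝔪 ^ n ∧ ∑ i, a i * f' i - g ∈ 𝔪 ^ (n + 1) := by
      intro e a ha hle hg'
      have h1 : ∑ i, a i * f' i - ∑ i, a i * f i ∈ 𝔪 ^ (n + 1) :=
        Ideal.pow_le_pow_right hle (hdiff e a ha)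
      refine ⟨∑ i, a i * f i, hI a, ?_, h1⟩
      have h2 : ∑ i, a i * f i = ∑ i, a i * f' i - (∑ i, a i * f' i - ∑ i, a i * f i) := by ring
      rw [h2]
      exact Ideal.sub_mem _ hg' (Ideal.pow_le_pow_right (Nat.le_succ n) h1)
    intro k
    induction k with
    | zero =>
      intro e a ha hle hg'
      exact direct e a ha (by omega) hg'
    | succ k ih =>
      intro e a ha hle hg'
      by_cases hd : n + 1 ≤ e + N
      · exact direct e a ha hd hg'
      · have hen : e + N ≤ n := by omega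
        have hg : ∑ i, a i * f i ∈ 𝔪 ^ (e + N) := by
          have h2 : ∑ i, a i * f i = ∑ i, a i * f' i - (∑ i, a i * f' i - ∑ i, a i * f i) := by
            ring
          rw [h2]
          exact Ideal.sub_mem _ (Ideal.pow_le_pow_right hen hg') (hdiff e a ha)
        obtain ⟨b, hb, hbs⟩ := K1 (e + N) (by omega) _ (hI a) hg
        have hv : (fun i => a i - b i) ∈ LinearMap.ker L := by
          rw [LinearMap.mem_ker, hL]
          simp only [sub_mul, Finset.sum_sub_distrib]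
          rw [hbs, sub_self]
        have hve : ∀ i, a i - b i ∈ 𝔪 ^ e := fun i =>
          Ideal.sub_mem _ (ha i) (Ideal.pow_le_pow_right (by omega) (hb i))
        obtain ⟨cc, hcc, hccs⟩ := K2 e _ hv hve
        have hccs' : ∀ i, ∑ l, cc l * ρ l i = a i - b i := by
          intro i
          have := congrFun hccs i
          simpa [Finset.sum_apply] using this
        let a' : Fin s → B := fun i => a i - ∑ l, cc l * ρ' l i
        have ha's : ∑ i, a' i * f' i = ∑ i, a i * f' i := by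
          have h3 : ∑ i, (∑ l, cc l * ρ' l i) * f' i = 0 := by
            simp only [Finset.sum_mul]
            rw [Finset.sum_comm]
            refine Finset.sum_eq_zero fun l _ => ?_
            have : ∑ i, cc l * ρ' l i * f' i = cc l * ∑ i, ρ' l i * f' i := by
              rw [Finset.mul_sum]
              exact Finset.sum_congr rfl fun i _ => by ring
            rw [this, hrel l, mul_zero]
          show ∑ i, (a i - ∑ l, cc l * ρ' l i) * f' i = _
          simp only [sub_mul, Finset.sum_sub_distrib]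
          rw [h3, sub_zero]
        have ha'e : ∀ i, a' i ∈ 𝔪 ^ (e + 1) := by
          intro i
          have h4 : a' i = b i - ∑ l, cc l * (ρ' l i - ρ l i) := by
            show a i - ∑ l, cc l * ρ' l i = _
            simp only [mul_sub, Finset.sum_sub_distrib]
            rw [hccs' i]
            ring
          rw [h4]
          refine Ideal.sub_mem _ (Ideal.pow_le_pow_right (by omega) (hb i)) ?_
          refine Ideal.sum_mem _ fun l _ => ?_
          have h5 : cc l * (ρ' l i - ρ l i) ∈ 𝔪 ^ (e - c₂ + N) := by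
            rw [pow_add]
            exact Ideal.mul_mem_mul (hcc l) (hρ' l i)
          exact Ideal.pow_le_pow_right (by omega) h5
        obtain ⟨g, hgI, hgn, hgd⟩ := ih (e + 1) a' ha'e (by omega) (by rw [ha's]; exact hg')
        exact ⟨g, hgI, hgn, by rw [← ha's]; exact hgd⟩
  intro g' hg' hg'n
  obtain ⟨a, rfl⟩ := Ideal.mem_span_range_iff_exists_fun.mp hg'
  exact main (n + 1) 0 a (fun i => by simp) (by omega) hg'n



section FlatNbhd

variable {A A' : Type*} [CommRing A] [CommRing A'] [Algebra A A'] (J : Ideal A)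

/-- approximating elements of `K A'` by elements of `K`, modulo `J K A'` -/
theorem approx_mem_map
    (hs : ∀ x : A', ∃ a : A, x - algebraMap A A' a ∈ J.map (algebraMap A A'))
    (K : Ideal A) (y : A') (hy : y ∈ K.map (algebraMap A A')) :
    ∃ b ∈ K, y - algebraMap A A' b ∈ (J * K).map (algebraMap A A') := by
  refine Submodule.span_induction (p := fun y _ => ∃ b ∈ K, y - algebraMap A A' b ∈
      (J * K).map (algebraMap A A')) ?_ ?_ ?_ ?_ hy
  · rintro _ ⟨κ, hκ, rfl⟩
    exact ⟨κ, hκ, by simp⟩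
  · exact ⟨0, K.zero_mem, by simp⟩
  · rintro x y _ _ ⟨b, hb, hbx⟩ ⟨b', hb', hby⟩
    refine ⟨b + b', K.add_mem hb hb', ?_⟩
    have : x + y - algebraMap A A' (b + b') =
        (x - algebraMap A A' b) + (y - algebraMap A A' b') := by
      rw [map_add]; ring
    rw [this]
    exact Ideal.add_mem _ hbx hby
  · rintro x y _ ⟨b, hb, hby⟩
    obtain ⟨a₀, ha₀⟩ := hs x
    refine ⟨a₀ * b, K.mul_mem_left _ hb, ?_⟩
    have : x • y - algebraMap A A' (a₀ * b) =
        (x - algebraMap A A' a₀) * algebraMap A A' b + x * (y - algebraMap A A' b) := by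
      rw [map_mul, smul_eq_mul]; ring
    rw [this]
    refine Ideal.add_mem _ ?_ (Ideal.mul_mem_left _ _ hby)
    rw [Ideal.map_mul]
    exact Ideal.mul_mem_mul ha₀ (Ideal.mem_map_of_mem _ hb)

/-- surjectivity modulo powers -/
theorem surj_pow
    (hs : ∀ x : A', ∃ a : A, x - algebraMap A A' a ∈ J.map (algebraMap A A')) (n : ℕ) :
    ∀ x : A', ∃ a : A, x - algebraMap A A' a ∈ (J ^ n).map (algebraMap A A') := by
  induction n with
  | zero =>
    intro x
    exact ⟨0, by simp [Ideal.one_eq_top, Ideal.map_top]⟩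
  | succ n ih =>
    intro x
    obtain ⟨a, ha⟩ := ih x
    obtain ⟨b, hb, hbx⟩ := approx_mem_map J hs (J ^ n) _ ha
    refine ⟨a + b, ?_⟩
    have : x - algebraMap A A' (a + b) = x - algebraMap A A' a - algebraMap A A' b := by
      rw [map_add]; ring
    rw [this]
    have h2 : J * J ^ n = J ^ (n + 1) := (pow_succ' J n).symm
    rw [← h2]
    exact hbx

/-- contraction of extended ideals containing `J` -/
theorem mem_of_map_mem
    (hs : ∀ x : A', ∃ a : A, x - algebraMap A A' a ∈ J.map (algebraMap A A'))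
    (hi : ∀ a : A, algebraMap A A' a ∈ J.map (algebraMap A A') → a ∈ J)
    (K : Ideal A) (hJK : J ≤ K) (a : A) (ha : algebraMap A A' a ∈ K.map (algebraMap A A')) :
    a ∈ K := by
  obtain ⟨b, hb, hba⟩ := approx_mem_map J hs K _ ha
  have h1 : algebraMap A A' (a - b) ∈ J.map (algebraMap A A') := by
    rw [map_sub]
    exact Ideal.map_mono (Ideal.mul_le_left : J * K ≤ J) hba
  have h2 := hJK (hi _ h1)
  have : a = (a - b) + b := by ring
  rw [this]
  exact K.add_mem h2 hb

/-- injectivity modulo powers, using flatness -/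
theorem inj_pow [Module.Flat A A']
    (hs : ∀ x : A', ∃ a : A, x - algebraMap A A' a ∈ J.map (algebraMap A A'))
    (hi : ∀ a : A, algebraMap A A' a ∈ J.map (algebraMap A A') → a ∈ J) (n : ℕ)
    (a : A) (ha : algebraMap A A' a ∈ (J ^ n).map (algebraMap A A')) : a ∈ J ^ n := by
  classical
  -- the colon ideal
  let 𝔞 : Ideal A := Submodule.comap (LinearMap.mulLeft A a) (J ^ n)
  have h𝔞 : ∀ b, b ∈ 𝔞 ↔ a * b ∈ J ^ n := fun b => Iff.rfl
  -- the injective map A/𝔞 → A/J^n
  let μ : (A ⧸ 𝔞) →ₗ[A] (A ⧸ J ^ n) :=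
    Submodule.liftQ 𝔞 ((J ^ n).mkQ ∘ₗ LinearMap.mulLeft A a) (by
      intro b hb
      rw [LinearMap.mem_ker]
      show Submodule.Quotient.mk (a * b) = 0
      exact (Submodule.Quotient.mk_eq_zero _).mpr ((h𝔞 b).mp hb))
  have hμ : Function.Injective μ := by
    rw [← LinearMap.ker_eq_bot]
    apply Submodule.ker_liftQ_eq_bot
    intro b hb
    rw [LinearMap.mem_ker] at hb
    have : Submodule.Quotient.mk (a * b) = (0 : A ⧸ J ^ n) := hb
    exact (h𝔞 b).mpr ((Submodule.Quotient.mk_eq_zero _).mp this)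
  have hinj := Module.Flat.lTensor_preserves_injective_linearMap (M := A') μ hμ
  -- `y ⊗ 1 = 0` for `y ∈ J^n A'`
  have hz : ∀ y ∈ (J ^ n).map (algebraMap A A'),
      y ⊗ₜ[A] (Submodule.Quotient.mk 1 : A ⧸ J ^ n) = 0 := by
    intro y hy
    refine Submodule.span_induction (p := fun y _ =>
      y ⊗ₜ[A] (Submodule.Quotient.mk 1 : A ⧸ J ^ n) = 0) ?_ ?_ ?_ ?_ hy
    · rintro _ ⟨g, hg, rfl⟩
      have : (algebraMap A A' g) ⊗ₜ[A] (Submodule.Quotient.mk 1 : A ⧸ J ^ n) =
          (1 : A') ⊗ₜ[A] (g • (Submodule.Quotient.mk 1 : A ⧸ J ^ n)) := by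
        rw [← TensorProduct.smul_tmul, Algebra.smul_def, mul_one]
      rw [this, ← Submodule.Quotient.mk_smul, smul_eq_mul, mul_one,
        (Submodule.Quotient.mk_eq_zero _).mpr hg, TensorProduct.tmul_zero]
    · exact TensorProduct.zero_tmul _ _
    · intro x y _ _ hx hy
      rw [TensorProduct.add_tmul, hx, hy, add_zero]
    · intro x y _ hy
      have : (x • y) ⊗ₜ[A] (Submodule.Quotient.mk 1 : A ⧸ J ^ n) =
          x • (y ⊗ₜ[A] (Submodule.Quotient.mk 1 : A ⧸ J ^ n)) := rfl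
      rw [this, hy, smul_zero]
  have h1 : (μ.lTensor A') ((1 : A') ⊗ₜ[A] (Submodule.Quotient.mk 1 : A ⧸ 𝔞)) = 0 := by
    rw [LinearMap.lTensor_tmul]
    have : μ (Submodule.Quotient.mk 1) = a • (Submodule.Quotient.mk 1 : A ⧸ J ^ n) := by
      show Submodule.Quotient.mk (a * 1) = _
      rw [← Submodule.Quotient.mk_smul, smul_eq_mul]
    rw [this, ← TensorProduct.smul_tmul, Algebra.smul_def, mul_one]
    exact hz _ ha
  have h2 : (1 : A') ⊗ₜ[A] (Submodule.Quotient.mk 1 : A ⧸ 𝔞) = 0 :=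
    hinj (by rw [h1, map_zero])
  have h3 : (1 : A') ∈ 𝔞.map (algebraMap A A') := by
    have := congrArg (TensorProduct.tensorQuotEquivQuotSMul A' 𝔞) h2
    rw [map_zero] at this
    have h4 : TensorProduct.tensorQuotEquivQuotSMul A' 𝔞
        ((1 : A') ⊗ₜ[A] (Submodule.Quotient.mk 1 : A ⧸ 𝔞)) =
        Submodule.Quotient.mk ((1 : A) • (1 : A')) :=
      TensorProduct.tensorQuotEquivQuotSMul_tmul_mk 𝔞 (1 : A') (1 : A)
    rw [h4, one_smul, Submodule.Quotient.mk_eq_zero, Ideal.smul_top_eq_map] at this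
    exact this
  have h5 : (1 : A) ∈ 𝔞 ⊔ J := by
    apply mem_of_map_mem J hs hi (𝔞 ⊔ J) le_sup_right
    rw [map_one]
    exact Ideal.map_mono le_sup_left h3
  have h6 : 𝔞 ⊔ J ^ n = ⊤ := Ideal.sup_pow_eq_top ((Ideal.eq_top_iff_one _).mpr h5)
  have h7 : J ^ n ≤ 𝔞 := fun b hb => (h𝔞 b).mpr (Ideal.mul_mem_left _ _ hb)
  have h8 : (1 : A) ∈ 𝔞 := by
    rw [sup_eq_left.mpr h7] at h6
    rw [h6]
    trivial
  have := (h𝔞 1).mp h8
  rwa [mul_one] at this

end FlatNbhd



section Dim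

variable {k B : Type*} [Field k] [CommRing B] [Algebra k B]

/-- rank–nullity for a quotient of a finite-dimensional quotient -/
theorem finrank_quot_eq {J₁ J₂ : Ideal B} (h : J₁ ≤ J₂) [Module.Finite k (B ⧸ J₁)] :
    Module.finrank k (B ⧸ J₁) = Module.finrank k (B ⧸ J₂) +
      Module.finrank k (LinearMap.ker (Ideal.Quotient.factorₐ k h).toLinearMap) := by
  have hs : Function.Surjective (Ideal.Quotient.factorₐ k h).toLinearMap :=
    Ideal.Quotient.factor_surjective h
  have h1 := LinearMap.finrank_range_add_finrank_ker (Ideal.Quotient.factorₐ k h).toLinearMap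
  rw [LinearMap.range_eq_top.mpr hs, finrank_top] at h1
  exact h1.symm

/-- comparison of ranges of two maps with comparable kernels -/
theorem finrank_range_le_of_ker_le {V W W' : Type*} [AddCommGroup V] [Module k V]
    [AddCommGroup W] [Module k W] [AddCommGroup W'] [Module k W'] [Module.Finite k W']
    (Φ : V →ₗ[k] W) (Φ' : V →ₗ[k] W') (h : LinearMap.ker Φ' ≤ LinearMap.ker Φ) :
    Module.finrank k (LinearMap.range Φ) ≤ Module.finrank k (LinearMap.range Φ') := by
  have e := Φ.quotKerEquivRange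
  have e' := Φ'.quotKerEquivRange
  haveI : Module.Finite k (V ⧸ LinearMap.ker Φ') := Module.Finite.equiv e'.symm
  rw [← e.finrank_eq, ← e'.finrank_eq]
  exact LinearMap.finrank_le_finrank_of_surjective
    (f := Submodule.factor h) (Submodule.factor_surjective h)


/-- the map `𝔪^n → B/(J + 𝔪^(n+1))` -/
noncomputable def grMap (𝔪 J : Ideal B) (n : ℕ) : ↥(𝔪 ^ n) →ₗ[k] B ⧸ (J ⊔ 𝔪 ^ (n + 1)) :=
  (Ideal.Quotient.mkₐ k (J ⊔ 𝔪 ^ (n + 1))).toLinearMap ∘ₗ ((𝔪 ^ n).subtype.restrictScalars k)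

theorem grMap_apply (𝔪 J : Ideal B) (n : ℕ) (x : ↥(𝔪 ^ n)) :
    grMap (k := k) 𝔪 J n x = Ideal.Quotient.mk (J ⊔ 𝔪 ^ (n + 1)) (x : B) := rfl

theorem sup_pow_succ_le (𝔪 J : Ideal B) (n : ℕ) : J ⊔ 𝔪 ^ (n + 1) ≤ J ⊔ 𝔪 ^ n :=
  sup_le_sup_left (Ideal.pow_le_pow_right (Nat.le_succ n)) J

theorem range_grMap (𝔪 J : Ideal B) (n : ℕ) :
    LinearMap.range (grMap (k := k) 𝔪 J n) =
      LinearMap.ker (Ideal.Quotient.factorₐ k (sup_pow_succ_le 𝔪 J n)).toLinearMap := by
  apply le_antisymm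
  · rintro _ ⟨x, rfl⟩
    rw [LinearMap.mem_ker, grMap_apply]
    show Ideal.Quotient.factor (sup_pow_succ_le 𝔪 J n) (Ideal.Quotient.mk _ (x : B)) = 0
    rw [Ideal.Quotient.factor_mk, Ideal.Quotient.eq_zero_iff_mem]
    exact Ideal.mem_sup_right x.2
  · intro z hz
    obtain ⟨b, rfl⟩ := Ideal.Quotient.mk_surjective z
    rw [LinearMap.mem_ker] at hz
    have hz' : Ideal.Quotient.factor (sup_pow_succ_le 𝔪 J n) (Ideal.Quotient.mk _ b) = 0 := hz
    rw [Ideal.Quotient.factor_mk, Ideal.Quotient.eq_zero_iff_mem] at hz'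
    obtain ⟨i, hi, y, hy, rfl⟩ := Submodule.mem_sup.mp hz'
    refine ⟨⟨y, hy⟩, ?_⟩
    rw [grMap_apply]
    show Ideal.Quotient.mk _ y = Ideal.Quotient.mk _ (i + y)
    apply Ideal.Quotient.eq.mpr
    have : y - (i + y) = -i := by ring
    rw [this]
    exact Ideal.neg_mem_iff _ |>.mpr (Ideal.mem_sup_left hi)

/-- **Dimension comparison from comparison of initial ideals.** -/
theorem finrank_le_of_initial_le (𝔪 I I' : Ideal B)
    (hfin : ∀ n, Module.Finite k (B ⧸ 𝔪 ^ n))
    (H : ∀ (n : ℕ) (g' : B), g' ∈ I' → g' ∈ 𝔪 ^ n →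
      ∃ g ∈ I, g ∈ 𝔪 ^ n ∧ g' - g ∈ 𝔪 ^ (n + 1)) (n : ℕ) :
    Module.finrank k (B ⧸ (I ⊔ 𝔪 ^ n)) ≤ Module.finrank k (B ⧸ (I' ⊔ 𝔪 ^ n)) := by
  have hfin' : ∀ (J : Ideal B) n, Module.Finite k (B ⧸ (J ⊔ 𝔪 ^ n)) := by
    intro J n
    haveI := hfin n
    exact Module.Finite.of_surjective
      (Ideal.Quotient.factorₐ k (le_sup_right : 𝔪 ^ n ≤ J ⊔ 𝔪 ^ n)).toLinearMap
      (Ideal.Quotient.factor_surjective le_sup_right)
  induction n with
  | zero =>
    have h0 : ∀ J : Ideal B, Module.finrank k (B ⧸ (J ⊔ 𝔪 ^ 0)) = 0 := by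
      intro J
      have : J ⊔ 𝔪 ^ 0 = ⊤ := by rw [pow_zero, Ideal.one_eq_top, sup_top_eq]
      haveI : Subsingleton (B ⧸ (J ⊔ 𝔪 ^ 0)) := by
        rw [this]
        exact Ideal.Quotient.subsingleton_iff.mpr rfl
      exact Module.finrank_zero_of_subsingleton
    rw [h0, h0]
  | succ n ih =>
    haveI := hfin' I (n + 1)
    haveI := hfin' I' (n + 1)
    rw [finrank_quot_eq (k := k) (sup_pow_succ_le 𝔪 I n),
      finrank_quot_eq (k := k) (sup_pow_succ_le 𝔪 I' n), ← range_grMap, ← range_grMap]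
    refine Nat.add_le_add ih (finrank_range_le_of_ker_le _ _ ?_)
    intro x hx
    rw [LinearMap.mem_ker, grMap_apply, Ideal.Quotient.eq_zero_iff_mem] at hx ⊢
    obtain ⟨g', hg', y, hy, hxy⟩ := Submodule.mem_sup.mp hx
    have hg'n : g' ∈ 𝔪 ^ n := by
      have : g' = (x : B) - y := by rw [← hxy]; ring
      rw [this]
      exact Ideal.sub_mem _ x.2 (Ideal.pow_le_pow_right (Nat.le_succ n) hy)
    obtain ⟨g, hg, hgn, hgd⟩ := H n g' hg' hg'n
    have : (x : B) = g + ((g' - g) + y) := by rw [← hxy]; ring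
    rw [this]
    exact Ideal.add_mem _ (Ideal.mem_sup_left hg)
      (Ideal.mem_sup_right (Ideal.add_mem _ hgd hy))

end Dim

end Groth.Agent.Lib.AlgzH5
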