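import Mathlib
import Groth.Prelude.Def_Found
import Groth.Agent.Lib.RegHomBC_helper3

/-!
# Regularity of a ring map is local (helper3)

* `isRegularHom_localRingHom` : `R → Λ` regular ⇒ `R_p → Λ_q` regular.
* `isRegularHom_of_forall_maximal` : all `R_{n ∩ R} → Λ_n` (n maximal) regular, `Λ` Noetherian ⇒
  `R → Λ` regular.
APPEND-ONLY once landed.
-/

set_option autoImplicit false
set_option maxSynthPendingDepth 3

namespace Groth.Agent.Lib.RegHomLocalH3

open TensorProduct IsLocalRing Groth.Agent.Lib.RegFlatH3 Groth.Agent.Lib.RegHomBCH3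

universe u

variable (R Λ : Type u) [CommRing R] [CommRing Λ] [Algebra R Λ]

theorem isScalarTower_localRingHom (q : Ideal Λ) [q.IsPrime] :
    letI := (Localization.localRingHom (Ideal.comap (algebraMap R Λ) q) q
      (algebraMap R Λ) rfl).toAlgebra
    IsScalarTower R (Localization.AtPrime (Ideal.comap (algebraMap R Λ) q))
      (Localization.AtPrime q) := by
  letI := (Localization.localRingHom (Ideal.comap (algebraMap R Λ) q) q
      (algebraMap R Λ) rfl).toAlgebra
  refine IsScalarTower.of_algebraMap_eq (fun x => ?_)
  show algebraMap R (Localization.AtPrime q) x =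
    Localization.localRingHom (Ideal.comap (algebraMap R Λ) q) q (algebraMap R Λ) rfl
      (algebraMap R (Localization.AtPrime (Ideal.comap (algebraMap R Λ) q)) x)
  rw [Localization.localRingHom_to_map, ← IsScalarTower.algebraMap_apply]

theorem isRegularHom_localRingHom [IsNoetherianRing Λ] (h : CAlg.IsRegularHom R Λ)
    (q : Ideal Λ) [q.IsPrime] :
    letI := (Localization.localRingHom (Ideal.comap (algebraMap R Λ) q) q
      (algebraMap R Λ) rfl).toAlgebra
    CAlg.IsRegularHom (Localization.AtPrime (Ideal.comap (algebraMap R Λ) q))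
      (Localization.AtPrime q) := by
  letI := (Localization.localRingHom (Ideal.comap (algebraMap R Λ) q) q
      (algebraMap R Λ) rfl).toAlgebra
  haveI := isScalarTower_localRingHom R Λ q
  set p := Ideal.comap (algebraMap R Λ) q with hp
  have h1 : CAlg.IsRegularHom R (Localization.AtPrime q) :=
    isRegularHom_localization_target R Λ h q.primeCompl (Localization.AtPrime q)
  haveI : IsNoetherianRing (Localization.AtPrime q) :=
    IsLocalization.isNoetherianRing q.primeCompl _ inferInstance
  haveI : Module.Flat R (Localization.AtPrime q) := h1.1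
  have hflat : Module.Flat (Localization.AtPrime p) (Localization.AtPrime q) :=
    (Module.flat_iff_of_isLocalization (Localization.AtPrime p) p.primeCompl
      (Localization.AtPrime q)).mpr inferInstance
  apply isRegularHom_of_forall_finite _ _ hflat
    (fun p' _ => isNoetherianRing_fiber _ _ p')
  intro p' hp' K _ _ _ _ hfin
  haveI := hfin
  haveI : IsNoetherianRing (p'.Fiber (Localization.AtPrime q)) := isNoetherianRing_fiber _ _ p'
  haveI : IsNoetherianRing (K ⊗[Localization.AtPrime p] Localization.AtPrime q) :=
    isNoetherianRing_tensor_of_finite_residueField _ _ p' K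
  letI : Algebra R K := Algebra.compHom K (algebraMap R (Localization.AtPrime p))
  haveI : IsScalarTower R (Localization.AtPrime p) K :=
    IsScalarTower.of_algebraMap_eq (fun _ => rfl)
  let e : K ⊗[Localization.AtPrime p] Localization.AtPrime q ≃ₐ[Localization.AtPrime p]
      K ⊗[R] Localization.AtPrime q :=
    IsLocalization.algebraTensorEquiv p.primeCompl (Localization.AtPrime p) K
      (Localization.AtPrime q)
  haveI : IsNoetherianRing (K ⊗[R] Localization.AtPrime q) :=
    isNoetherianRing_of_ringEquiv _ e.toRingEquiv
  haveI := isRegularRing_tensor_of_isRegularHom R (Localization.AtPrime q) h1 K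
  exact IsRegularRing.of_ringEquiv e.symm.toRingEquiv

theorem isRegularHom_of_forall_maximal [IsNoetherianRing Λ]
    (H : ∀ (n : Ideal Λ) [n.IsMaximal],
      letI := (Localization.localRingHom (Ideal.comap (algebraMap R Λ) n) n
        (algebraMap R Λ) rfl).toAlgebra
      CAlg.IsRegularHom (Localization.AtPrime (Ideal.comap (algebraMap R Λ) n))
        (Localization.AtPrime n)) :
    CAlg.IsRegularHom R Λ := by
  -- flatness
  have hflat : Module.Flat R Λ := by
    refine Module.flat_of_isLocalized_maximal Λ Λ (fun P _ => Localization.AtPrime P)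
      (fun P _ => Algebra.linearMap Λ (Localization.AtPrime P)) ?_
    intro n hn
    letI := (Localization.localRingHom (Ideal.comap (algebraMap R Λ) n) n
      (algebraMap R Λ) rfl).toAlgebra
    haveI := isScalarTower_localRingHom R Λ n
    haveI : Module.Flat (Localization.AtPrime (Ideal.comap (algebraMap R Λ) n))
        (Localization.AtPrime n) := (H n).1
    exact Module.Flat.trans R (Localization.AtPrime (Ideal.comap (algebraMap R Λ) n)) _
  apply isRegularHom_of_forall_finite R Λ hflat (fun p _ => isNoetherianRing_fiber R Λ p)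
  intro p hp K _ _ _ _ hfin
  haveI := hfin
  haveI : IsNoetherianRing (p.Fiber Λ) := isNoetherianRing_fiber R Λ p
  haveI : IsNoetherianRing (K ⊗[R] Λ) := isNoetherianRing_tensor_of_finite_residueField R Λ p K
  letI algT : Algebra Λ (K ⊗[R] Λ) := Algebra.TensorProduct.rightAlgebra
  apply isRegularRing_of_forall_maximal_localization Λ (K ⊗[R] Λ)
  intro n hn
  letI algn := (Localization.localRingHom (Ideal.comap (algebraMap R Λ) n) n
      (algebraMap R Λ) rfl).toAlgebra
  haveI := isScalarTower_localRingHom R Λ n
  have Hn : CAlg.IsRegularHom (Localization.AtPrime (Ideal.comap (algebraMap R Λ) n))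
      (Localization.AtPrime n) := H n
  set pn := Ideal.comap (algebraMap R Λ) n with hpn
  haveI : IsNoetherianRing (K ⊗[R] Localization.AtPrime n) :=
    isNoetherianRing_tensor_localization R K Λ n.primeCompl (Localization.AtPrime n)
  letI : Algebra (Localization.AtPrime pn) (K ⊗[R] Localization.AtPrime pn) :=
    Algebra.TensorProduct.rightAlgebra
  haveI : Algebra.IsPushout R K (Localization.AtPrime pn) (K ⊗[R] Localization.AtPrime pn) :=
    TensorProduct.isPushout
  let e : (K ⊗[R] Localization.AtPrime pn) ⊗[Localization.AtPrime pn] Localization.AtPrime n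
      ≃ₐ[K] K ⊗[R] Localization.AtPrime n :=
    Algebra.IsPushout.cancelBaseChangeAlg R K (Localization.AtPrime pn)
      (K ⊗[R] Localization.AtPrime pn) (Localization.AtPrime n)
  haveI : IsNoetherianRing
      ((K ⊗[R] Localization.AtPrime pn) ⊗[Localization.AtPrime pn] Localization.AtPrime n) :=
    isNoetherianRing_of_ringEquiv _ e.symm.toRingEquiv
  haveI : IsRegularRing K := inferInstance
  haveI : IsRegularRing (K ⊗[R] Localization.AtPrime pn) :=
    Groth.Agent.Lib.RegLocH3.isRegularRing_of_isLocalization
      (Algebra.algebraMapSubmonoid K pn.primeCompl) (K ⊗[R] Localization.AtPrime pn)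
  haveI := isRegularRing_baseChange (Localization.AtPrime pn) (Localization.AtPrime n) Hn
    (K ⊗[R] Localization.AtPrime pn)
  haveI : IsRegularRing (K ⊗[R] Localization.AtPrime n) := IsRegularRing.of_ringEquiv e.toRingEquiv
  obtain ⟨alg, hloc, -⟩ := exists_isLocalization_tensor R K Λ n.primeCompl (Localization.AtPrime n)
  letI := alg
  haveI hloc' : IsLocalization (Algebra.algebraMapSubmonoid (K ⊗[R] Λ) n.primeCompl)
      (K ⊗[R] Localization.AtPrime n) := hloc
  exact IsRegularRing.of_ringEquiv
    (IsLocalization.algEquiv (Algebra.algebraMapSubmonoid (K ⊗[R] Λ) n.primeCompl)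
      (K ⊗[R] Localization.AtPrime n)
      (Localization (Algebra.algebraMapSubmonoid (K ⊗[R] Λ) n.primeCompl))).toRingEquiv

end Groth.Agent.Lib.RegHomLocalH3
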