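import Mathlib
import Groth.Prelude.Def_Found
import Groth.Prelude.Def_EGA4b
import Groth.Agent.Lib.GRingComplete_helper3
import Groth.Agent.Lib.FFTransfer_helper3
import Groth.Agent.Lib.RegHomLocal_helper3

/-!
# G-rings can be tested at maximal ideals (helper3)
-/

set_option autoImplicit false

namespace Groth.Agent.Lib.GRingMaximalH3

universe u

open TensorProduct IsLocalRing Groth.Agent.Lib.RegFlatH3 Groth.Agent.Lib.RegHomBCH3

/-- A regular homomorphism factoring through a localization of the source is regular over that
localization. -/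
theorem isRegularHom_localization_source (R T : Type u) [CommRing R] [CommRing T] [Algebra R T]
    [IsNoetherianRing T] (h : CAlg.IsRegularHom R T) (M : Submonoid R) (A' : Type u)
    [CommRing A'] [Algebra R A'] [IsLocalization M A'] [Algebra A' T] [IsScalarTower R A' T] :
    CAlg.IsRegularHom A' T := by
  haveI : Module.Flat R T := h.1
  have hflat : Module.Flat A' T := (Module.flat_iff_of_isLocalization A' M T).mpr inferInstance
  apply isRegularHom_of_forall_finite _ _ hflat (fun p' _ => isNoetherianRing_fiber _ _ p')
  intro p' hp' K _ _ _ _ hfin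
  haveI := hfin
  haveI : IsNoetherianRing (p'.Fiber T) := isNoetherianRing_fiber _ _ p'
  haveI : IsNoetherianRing (K ⊗[A'] T) := isNoetherianRing_tensor_of_finite_residueField _ _ p' K
  letI : Algebra R K := Algebra.compHom K (algebraMap R A')
  haveI : IsScalarTower R A' K := IsScalarTower.of_algebraMap_eq (fun _ => rfl)
  let e : K ⊗[A'] T ≃ₐ[A'] K ⊗[R] T := IsLocalization.algebraTensorEquiv M A' K T
  haveI : IsNoetherianRing (K ⊗[R] T) := isNoetherianRing_of_ringEquiv _ e.toRingEquiv
  haveI := isRegularRing_tensor_of_isRegularHom R T h K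
  exact IsRegularRing.of_ringEquiv (R := K ⊗[R] T) e.symm.toRingEquiv

section Main

variable {R : Type u} [CommRing R] [IsNoetherianRing R]

theorem isRegularHom_cpl_of_le (m : Ideal R) [m.IsMaximal]
    (H : CAlg.IsRegularHom (Localization.AtPrime m) (EGA4.Cpl (Localization.AtPrime m)))
    (𝔭 : Ideal R) [𝔭.IsPrime] (hle : 𝔭 ≤ m) :
    CAlg.IsRegularHom (Localization.AtPrime 𝔭) (EGA4.Cpl (Localization.AtPrime 𝔭)) := by
  obtain ⟨hloc, hnoeth, hcompl, hff, hlh, hmap⟩ :=
    AnUnramH3.completion_facts (Localization.AtPrime m)
  haveI := hloc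
  haveI := hnoeth
  haveI := hcompl
  haveI := hff
  -- the prime `p'` of `A = R_m`
  have hdisj : Disjoint (m.primeCompl : Set R) (𝔭 : Set R) := by
    rw [Set.disjoint_left]
    intro x hx hx'
    exact hx (hle hx')
  haveI hp'prime : (𝔭.map (algebraMap R (Localization.AtPrime m))).IsPrime :=
    IsLocalization.isPrime_of_isPrime_disjoint m.primeCompl _ 𝔭 inferInstance hdisj
  have hp'comap : (𝔭.map (algebraMap R (Localization.AtPrime m))).comap
      (algebraMap R (Localization.AtPrime m)) = 𝔭 :=
    IsLocalization.comap_map_of_isPrime_disjoint m.primeCompl _ inferInstance hdisj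
  -- a prime `P` of `Â` over `p'`
  obtain ⟨P, hPprime, hPover⟩ := Ideal.exists_isPrime_liesOver_of_faithfullyFlat
    (B := EGA4.Cpl (Localization.AtPrime m)) (𝔭.map (algebraMap R (Localization.AtPrime m)))
  haveI := hPprime
  have hPcomap : P.comap (algebraMap (Localization.AtPrime m)
      (EGA4.Cpl (Localization.AtPrime m))) = 𝔭.map (algebraMap R (Localization.AtPrime m)) :=
    hPover.over.symm
  haveI : IsNoetherianRing (Localization.AtPrime P) :=
    IsLocalization.isNoetherianRing P.primeCompl _ inferInstance
  haveI towRAÂ : IsScalarTower R (Localization.AtPrime m) (EGA4.Cpl (Localization.AtPrime m)) :=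
    IsScalarTower.of_algebraMap_eq (fun _ => rfl)
  have hPcomapR : P.comap (algebraMap R (EGA4.Cpl (Localization.AtPrime m))) = 𝔭 := by
    rw [IsScalarTower.algebraMap_eq R (Localization.AtPrime m)
      (EGA4.Cpl (Localization.AtPrime m)), ← Ideal.comap_comap, hPcomap, hp'comap]
  have hAT : CAlg.IsRegularHom (Localization.AtPrime m) (Localization.AtPrime P) :=
    isRegularHom_localization_target (Localization.AtPrime m)
      (EGA4.Cpl (Localization.AtPrime m)) H P.primeCompl (Localization.AtPrime P)
  haveI towRAT : IsScalarTower R (Localization.AtPrime m) (Localization.AtPrime P) :=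
    IsScalarTower.of_algebraMap_eq (fun r => by
      rw [IsScalarTower.algebraMap_apply R (EGA4.Cpl (Localization.AtPrime m))
          (Localization.AtPrime P),
        IsScalarTower.algebraMap_apply (Localization.AtPrime m)
          (EGA4.Cpl (Localization.AtPrime m)) (Localization.AtPrime P),
        ← IsScalarTower.algebraMap_apply R (Localization.AtPrime m)
          (EGA4.Cpl (Localization.AtPrime m))])
  -- `R_𝔭 → T`
  have hunitT : ∀ s : 𝔭.primeCompl, IsUnit (algebraMap R (Localization.AtPrime P) s) := by
    intro s
    rw [IsScalarTower.algebraMap_apply R (EGA4.Cpl (Localization.AtPrime m))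
      (Localization.AtPrime P)]
    refine IsLocalization.map_units (Localization.AtPrime P)
      (⟨algebraMap R (EGA4.Cpl (Localization.AtPrime m)) s, ?_⟩ : P.primeCompl)
    intro hs
    have : (s : R) ∈ P.comap (algebraMap R (EGA4.Cpl (Localization.AtPrime m))) := hs
    rw [hPcomapR] at this
    exact s.2 this
  letI algRpT : Algebra (Localization.AtPrime 𝔭) (Localization.AtPrime P) :=
    (IsLocalization.lift (M := 𝔭.primeCompl)
      (g := algebraMap R (Localization.AtPrime P)) hunitT).toAlgebra
  haveI towRRpT : IsScalarTower R (Localization.AtPrime 𝔭) (Localization.AtPrime P) :=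
    IsScalarTower.of_algebraMap_eq (fun r =>
      (IsLocalization.lift_eq (M := 𝔭.primeCompl) hunitT r).symm)
  -- `A → R_𝔭`
  have hmle : m.primeCompl ≤ 𝔭.primeCompl := fun x hx hx' => hx (hle hx')
  have hunitA : ∀ s : m.primeCompl, IsUnit (algebraMap R (Localization.AtPrime 𝔭) s) :=
    fun s => IsLocalization.map_units (Localization.AtPrime 𝔭) (⟨s, hmle s.2⟩ : 𝔭.primeCompl)
  letI algARp : Algebra (Localization.AtPrime m) (Localization.AtPrime 𝔭) :=
    (IsLocalization.lift (M := m.primeCompl)
      (g := algebraMap R (Localization.AtPrime 𝔭)) hunitA).toAlgebra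
  haveI towRARp : IsScalarTower R (Localization.AtPrime m) (Localization.AtPrime 𝔭) :=
    IsScalarTower.of_algebraMap_eq (fun r =>
      (IsLocalization.lift_eq (M := m.primeCompl) hunitA r).symm)
  haveI hlocRp : IsLocalization (𝔭.primeCompl.map (algebraMap R (Localization.AtPrime m)))
      (Localization.AtPrime 𝔭) :=
    IsLocalization.isLocalization_of_submonoid_le (Localization.AtPrime m)
      (Localization.AtPrime 𝔭) m.primeCompl 𝔭.primeCompl hmle
  haveI towARpT : IsScalarTower (Localization.AtPrime m) (Localization.AtPrime 𝔭)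
      (Localization.AtPrime P) := by
    refine IsScalarTower.of_algebraMap_eq' ?_
    apply IsLocalization.ringHom_ext m.primeCompl
    ext r
    simp only [RingHom.comp_apply]
    rw [← IsScalarTower.algebraMap_apply R (Localization.AtPrime m) (Localization.AtPrime P),
      ← IsScalarTower.algebraMap_apply R (Localization.AtPrime m) (Localization.AtPrime 𝔭),
      ← IsScalarTower.algebraMap_apply R (Localization.AtPrime 𝔭) (Localization.AtPrime P)]
  have hRT : CAlg.IsRegularHom (Localization.AtPrime 𝔭) (Localization.AtPrime P) :=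
    isRegularHom_localization_source (Localization.AtPrime m) (Localization.AtPrime P) hAT
      (𝔭.primeCompl.map (algebraMap R (Localization.AtPrime m))) (Localization.AtPrime 𝔭)
  -- local homomorphism
  haveI : IsLocalHom (algebraMap (Localization.AtPrime 𝔭) (Localization.AtPrime P)) := by
    apply ((IsLocalRing.local_hom_TFAE
      (algebraMap (Localization.AtPrime 𝔭) (Localization.AtPrime P))).out 0 2).mpr
    have h𝔭max : maximalIdeal (Localization.AtPrime 𝔭) =
        𝔭.map (algebraMap R (Localization.AtPrime 𝔭)) :=
      (Localization.AtPrime.map_eq_maximalIdeal (I := 𝔭)).symm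
    have hPmax : maximalIdeal (Localization.AtPrime P) =
        P.map (algebraMap (EGA4.Cpl (Localization.AtPrime m)) (Localization.AtPrime P)) :=
      (Localization.AtPrime.map_eq_maximalIdeal (I := P)).symm
    rw [h𝔭max, Ideal.map_map,
      ← IsScalarTower.algebraMap_eq R (Localization.AtPrime 𝔭) (Localization.AtPrime P),
      Ideal.map_le_iff_le_comap]
    intro r hr
    rw [Ideal.mem_comap, IsScalarTower.algebraMap_apply R (EGA4.Cpl (Localization.AtPrime m))
      (Localization.AtPrime P), hPmax]
    apply Ideal.mem_map_of_mem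
    have : r ∈ P.comap (algebraMap R (EGA4.Cpl (Localization.AtPrime m))) := by
      rw [hPcomapR]; exact hr
    exact this
  -- `T → T^` is regular since `Â` is a complete local ring
  have hT : CAlg.IsRegularHom (Localization.AtPrime P) (EGA4.Cpl (Localization.AtPrime P)) :=
    Groth.Agent.Lib.GRingCompleteH3.isRegularHom_localization_cpl
      (EGA4.Cpl (Localization.AtPrime m)) P
  haveI : IsNoetherianRing (Localization.AtPrime 𝔭) :=
    IsLocalization.isNoetherianRing 𝔭.primeCompl _ inferInstance
  exact Groth.Agent.Lib.FFTransferH3.isRegularHom_cpl (Localization.AtPrime 𝔭)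
    (Localization.AtPrime P) hRT hT

theorem isGRing_iff_maximal :
    CAlg.IsGRing R ↔ ∀ (m : Ideal R) [m.IsMaximal],
      CAlg.IsRegularHom (Localization.AtPrime m)
        (AdicCompletion (IsLocalRing.maximalIdeal (Localization.AtPrime m))
          (Localization.AtPrime m)) := by
  constructor
  · intro h m hm
    exact h.2 m
  · intro H
    refine ⟨inferInstance, fun 𝔭 h𝔭 => ?_⟩
    obtain ⟨m, hm, hle⟩ := Ideal.exists_le_maximal 𝔭 h𝔭.ne_top
    haveI := hm
    exact isRegularHom_cpl_of_le m (H m) 𝔭 hle

end Main

end Groth.Agent.Lib.GRingMaximalH3
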