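import Mathlib
import Groth.Prelude.Def_EGA4b
import Groth.Agent.Lib.GRingCore_helper3
import Groth.Agent.Lib.GRingMaximal_helper3
import Groth.Agent.Lib.RegFlat_helper3
import Groth.Agent.Lib.AnUnram_helper3

/-!
# Transport of regularity of the completion map along surjections and isomorphisms (helper3)
-/

set_option autoImplicit false

namespace Groth.Agent.Lib.GRingIsoH3

universe u

open TensorProduct IsLocalRing

section Surj

variable (A C : Type u) [CommRing A] [CommRing C] [IsLocalRing A] [IsNoetherianRing A]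
  [IsLocalRing C] [IsNoetherianRing C] [Algebra A C]

/-- (L1) If `A → C` is surjective and `A → Â` is regular then `C → Ĉ` is regular. -/
theorem isRegularHom_cpl_of_surjective (hsurj : Function.Surjective (algebraMap A C))
    (hA : CAlg.IsRegularHom A (EGA4.Cpl A)) : CAlg.IsRegularHom C (EGA4.Cpl C) := by
  obtain ⟨hloc, hnoeth, hcompl, hff, hlh, hmap⟩ := Groth.Agent.Lib.AnUnramH3.completion_facts C
  obtain ⟨-, hnoethA, -, -, -, -⟩ := Groth.Agent.Lib.AnUnramH3.completion_facts A
  haveI := hnoeth
  haveI := hnoethA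
  haveI := hff
  refine Groth.Agent.Lib.RegFlatH3.isRegularHom_of_forall_finite C (EGA4.Cpl C)
    inferInstance (fun p _ => Groth.Agent.Lib.RegFlatH3.isNoetherianRing_fiber _ _ p) ?_
  intro p hp K _ _ _ _ hfin
  haveI := hfin
  letI : Algebra A K := Algebra.compHom K (algebraMap A C)
  haveI : IsScalarTower A C K := IsScalarTower.of_algebraMap_eq (fun _ => rfl)
  obtain ⟨e⟩ := Groth.Agent.Lib.GRingCoreH3.exists_ringEquiv_tensor_cpl_of_surjective A C hsurj K
  haveI : Module.Finite A C := Module.Finite.of_surjective (Algebra.linearMap A C) hsurj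
  haveI : Algebra.EssFiniteType p.ResidueField K := inferInstance
  haveI : Algebra.EssFiniteType C p.ResidueField :=
    haveI : Algebra.EssFiniteType (C ⧸ p) p.ResidueField :=
      Algebra.EssFiniteType.of_isLocalization p.ResidueField (nonZeroDivisors (C ⧸ p))
    Algebra.EssFiniteType.comp C (C ⧸ p) p.ResidueField
  haveI : Algebra.EssFiniteType C K := Algebra.EssFiniteType.comp C p.ResidueField K
  haveI : Algebra.EssFiniteType A K := Algebra.EssFiniteType.comp A C K
  haveI : IsNoetherianRing (TensorProduct A K (EGA4.Cpl A)) :=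
    Groth.Agent.Lib.RegFlatH3.isNoetherianRing_tensor_of_essFiniteType' A (EGA4.Cpl A) K
  haveI := Groth.Agent.Lib.RegFlatH3.isRegularRing_tensor_of_isRegularHom A (EGA4.Cpl A) hA K
  exact IsRegularRing.of_ringEquiv e

end Surj

section Iso

/-- Transport along a ring isomorphism of local rings. -/
theorem isRegularHom_cpl_of_ringEquiv {A C : Type u} [CommRing A] [CommRing C] [IsLocalRing A]
    [IsNoetherianRing A] [IsLocalRing C] [IsNoetherianRing C] (e : A ≃+* C)
    (hA : CAlg.IsRegularHom A (EGA4.Cpl A)) : CAlg.IsRegularHom C (EGA4.Cpl C) := by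
  letI : Algebra A C := e.toRingHom.toAlgebra
  exact isRegularHom_cpl_of_surjective A C e.surjective hA

end Iso

section LocMax

variable (S : Type u) [CommRing S] [IsLocalRing S] [IsNoetherianRing S]

theorem isUnit_of_notMem_maximal (m : Ideal S) [hm : m.IsMaximal] (s : m.primeCompl) :
    IsUnit (s : S) := by
  have hmeq : m = maximalIdeal S := IsLocalRing.eq_maximalIdeal hm
  by_contra h
  exact s.2 (hmeq.ge ((mem_maximalIdeal _).2 h))

theorem isRegularHom_cpl_localization_maximal (m : Ideal S) [hm : m.IsMaximal]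
    (h : CAlg.IsRegularHom S (EGA4.Cpl S)) :
    CAlg.IsRegularHom (Localization.AtPrime m) (EGA4.Cpl (Localization.AtPrime m)) := by
  refine isRegularHom_cpl_of_surjective S (Localization.AtPrime m) ?_ h
  intro x
  obtain ⟨a, s, rfl⟩ := IsLocalization.exists_mk'_eq m.primeCompl x
  obtain ⟨u, hu⟩ := isUnit_of_notMem_maximal S m s
  refine ⟨a * ((u⁻¹ : Sˣ) : S), ?_⟩
  rw [eq_comm, IsLocalization.mk'_eq_iff_eq_mul, map_mul, mul_assoc, ← map_mul, ← hu,
    Units.inv_mul, map_one, mul_one]

theorem isRegularHom_cpl_of_localization_maximal (m : Ideal S) [hm : m.IsMaximal]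
    (h : CAlg.IsRegularHom (Localization.AtPrime m) (EGA4.Cpl (Localization.AtPrime m))) :
    CAlg.IsRegularHom S (EGA4.Cpl S) := by
  have hunit : ∀ s : m.primeCompl, IsUnit (RingHom.id S s) := fun s =>
    isUnit_of_notMem_maximal S m s
  letI alg : Algebra (Localization.AtPrime m) S :=
    (IsLocalization.lift (M := m.primeCompl) (g := RingHom.id S) hunit).toAlgebra
  refine isRegularHom_cpl_of_surjective (Localization.AtPrime m) S ?_ h
  intro s
  exact ⟨algebraMap S (Localization.AtPrime m) s, IsLocalization.lift_eq hunit s⟩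

theorem isGRing_of_isRegularHom_cpl (h : CAlg.IsRegularHom S (EGA4.Cpl S)) : CAlg.IsGRing S := by
  rw [Groth.Agent.Lib.GRingMaximalH3.isGRing_iff_maximal]
  intro m hm
  exact isRegularHom_cpl_localization_maximal S m h

theorem isRegularHom_cpl_of_isGRing (h : CAlg.IsGRing S) : CAlg.IsRegularHom S (EGA4.Cpl S) :=
  isRegularHom_cpl_of_localization_maximal S (maximalIdeal S) (h.2 (maximalIdeal S))

end LocMax

end Groth.Agent.Lib.GRingIsoH3
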