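import Mathlib
import Groth.Agent.Lib.GabberIdem_lead

/-!
# Homomorphisms of finite étale algebras over a henselian pair
-/

namespace Groth.Agent.Lib.GabberFEt
open TensorProduct Groth.Agent.Lib.HenselPair

universe u
variable {A : Type u} [CommRing A]

theorem linearMap_mem_smul_top {M N : Type*} [AddCommGroup M] [Module A M] [AddCommGroup N]
    [Module A N] (I : Ideal A) (l : M →ₗ[A] N) {y : M} (hy : y ∈ I • (⊤ : Submodule A M)) :
    l y ∈ I • (⊤ : Submodule A N) := by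
  refine Submodule.smul_induction_on hy ?_ ?_
  · intro r hr t _
    rw [map_smul]
    exact Submodule.smul_mem_smul hr Submodule.mem_top
  · intro y z hy hz
    rw [map_add]; exact Submodule.add_mem _ hy hz

section
variable {B₁ B₂ : Type u} [CommRing B₁] [CommRing B₂] [Algebra A B₁] [Algebra A B₂]

/-- the retraction of `B₂ → B₂ ⊗ B₁` attached to `φ` -/
noncomputable def tau (φ : B₁ →ₐ[A] B₂) : B₂ ⊗[A] B₁ →ₐ[A] B₂ :=
  Algebra.TensorProduct.productMap (AlgHom.id A B₂) φ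

theorem tau_tmul (φ : B₁ →ₐ[A] B₂) (x : B₂) (y : B₁) : tau φ (x ⊗ₜ[A] y) = x * φ y := rfl

variable [Algebra.FormallyUnramified A B₁] [Algebra.EssFiniteType A B₁]

/-- the idempotent attached to `φ` -/
noncomputable def idem (φ : B₁ →ₐ[A] B₂) : B₂ ⊗[A] B₁ :=
  Algebra.TensorProduct.map φ (AlgHom.id A B₁) (Algebra.FormallyUnramified.elem A B₁)

theorem tau_idem (φ : B₁ →ₐ[A] B₂) : tau φ (idem φ) = 1 := by
  have h : ∀ z : B₁ ⊗[A] B₁, tau φ (Algebra.TensorProduct.map φ (AlgHom.id A B₁) z) =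
      φ (Algebra.TensorProduct.lmul' A z) := by
    intro z
    induction z using TensorProduct.induction_on with
    | zero => simp
    | tmul x y =>
      rw [Algebra.TensorProduct.map_tmul, tau_tmul, Algebra.TensorProduct.lmul'_apply_tmul,
        map_mul]
      rfl
    | add x y hx hy => rw [map_add, map_add, hx, hy, map_add, map_add]
  rw [idem, h, Algebra.FormallyUnramified.lmul_elem, map_one]

theorem tmul_mul_idem (φ : B₁ →ₐ[A] B₂) (s : B₁) :
    ((1 : B₂) ⊗ₜ[A] s) * idem φ = (φ s ⊗ₜ[A] (1 : B₁)) * idem φ := by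
  have h := congrArg (Algebra.TensorProduct.map φ (AlgHom.id A B₁))
    (Algebra.FormallyUnramified.one_tmul_mul_elem (R := A) (S := B₁) s)
  simp only [map_mul, Algebra.TensorProduct.map_tmul, map_one, AlgHom.coe_id, id_eq] at h
  exact h

theorem mul_idem (φ : B₁ →ₐ[A] B₂) (c : B₂ ⊗[A] B₁) :
    c * idem φ = (tau φ c ⊗ₜ[A] (1 : B₁)) * idem φ := by
  induction c using TensorProduct.induction_on with
  | zero => rw [zero_mul, map_zero, TensorProduct.zero_tmul, zero_mul]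
  | tmul x s =>
    have h1 : x ⊗ₜ[A] s = (x ⊗ₜ[A] (1 : B₁)) * ((1 : B₂) ⊗ₜ[A] s) := by
      rw [Algebra.TensorProduct.tmul_mul_tmul, mul_one, one_mul]
    have h2 : (x * φ s) ⊗ₜ[A] (1 : B₁) = (x ⊗ₜ[A] (1 : B₁)) * (φ s ⊗ₜ[A] (1 : B₁)) := by
      rw [Algebra.TensorProduct.tmul_mul_tmul, mul_one]
    rw [tau_tmul, h2, mul_assoc, ← tmul_mul_idem, ← mul_assoc, ← h1]
  | add x y hx hy => rw [add_mul, hx, hy, map_add, TensorProduct.add_tmul, add_mul]

theorem idem_isIdempotent (φ : B₁ →ₐ[A] B₂) : IsIdempotentElem (idem φ) := by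
  show idem φ * idem φ = idem φ
  rw [mul_idem φ (idem φ), tau_idem, ← Algebra.TensorProduct.one_def, one_mul]

theorem idem_sub_mem (I : Ideal A) (φ φ' : B₁ →ₐ[A] B₂)
    (h : ∀ b, φ b - φ' b ∈ I • (⊤ : Submodule A B₂)) :
    idem φ - idem φ' ∈ I • (⊤ : Submodule A (B₂ ⊗[A] B₁)) := by
  have key : ∀ z : B₁ ⊗[A] B₁, Algebra.TensorProduct.map φ (AlgHom.id A B₁) z -
      Algebra.TensorProduct.map φ' (AlgHom.id A B₁) z ∈
        I • (⊤ : Submodule A (B₂ ⊗[A] B₁)) := by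
    intro z
    induction z using TensorProduct.induction_on with
    | zero => rw [map_zero, map_zero, sub_zero]; exact Submodule.zero_mem _
    | tmul x y =>
      rw [Algebra.TensorProduct.map_tmul, Algebra.TensorProduct.map_tmul,
        ← TensorProduct.sub_tmul]
      exact linearMap_mem_smul_top I ((TensorProduct.mk A B₂ B₁).flip ((AlgHom.id A B₁) y)) (h x)
    | add x y hx hy =>
      rw [map_add, map_add, add_sub_add_comm]
      exact Submodule.add_mem _ hx hy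
  exact key _

theorem eq_of_idem_eq (φ φ' : B₁ →ₐ[A] B₂) (h : idem φ = idem φ') : φ = φ' := by
  apply AlgHom.ext
  intro b
  have h1 : tau φ' (((1 : B₂) ⊗ₜ[A] b) * idem φ') = φ' b := by
    rw [map_mul, tau_idem, mul_one, tau_tmul, one_mul]
  have h2 : tau φ' (((1 : B₂) ⊗ₜ[A] b) * idem φ') = φ b := by
    rw [← h, tmul_mul_idem, map_mul, h, tau_idem, mul_one, tau_tmul, map_one, mul_one]
  rw [← h2, h1]

end

theorem exists_hom_lift {I : Ideal A} (hI : HenselianRing A I) {B₁ B₂ : Type u} [CommRing B₁]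
    [CommRing B₂] [Algebra A B₁] [Algebra A B₂] [Module.Finite A B₂] [Algebra.Etale A B₁]
    (ψ : (A ⧸ I) ⊗[A] B₁ →ₐ[A ⧸ I] (A ⧸ I) ⊗[A] B₂) :
    ∃ φ : B₁ →ₐ[A] B₂, Algebra.TensorProduct.map (AlgHom.id (A ⧸ I) (A ⧸ I)) φ = ψ := by
  haveI : Algebra.IsIntegral A B₂ := Algebra.IsIntegral.of_finite A B₂
  have hJ : HenselianRing B₂ (I.map (algebraMap A B₂)) := GabberIdem.henselian_of_integral hI B₂
  let θ := Algebra.TensorProduct.quotIdealMapEquivQuotTensor B₂ I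
  let ρ : B₁ →ₐ[A] B₂ ⧸ I.map (algebraMap A B₂) :=
    ((θ.symm : (A ⧸ I) ⊗[A] B₂ →ₐ[A ⧸ I] B₂ ⧸ I.map (algebraMap A B₂)).restrictScalars A).comp
      ((ψ.restrictScalars A).comp
        (Algebra.TensorProduct.includeRight : B₁ →ₐ[A] (A ⧸ I) ⊗[A] B₁))
  let σ : B₂ ⊗[A] B₁ →ₐ[B₂] B₂ ⧸ I.map (algebraMap A B₂) :=
    Algebra.TensorProduct.lift (Algebra.ofId B₂ (B₂ ⧸ I.map (algebraMap A B₂))) ρ
      (fun _ _ => Commute.all _ _)
  obtain ⟨τ, hτ⟩ := GabberEtale.exists_lift hJ (B₂ ⊗[A] B₁) σ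
  let φ : B₁ →ₐ[A] B₂ :=
    (τ.restrictScalars A).comp (Algebra.TensorProduct.includeRight : B₁ →ₐ[A] B₂ ⊗[A] B₁)
  have hone : ∀ b : B₁, (1 : A ⧸ I) ⊗ₜ[A] φ b = ψ (1 ⊗ₜ[A] b) := by
    intro b
    apply θ.symm.injective
    have h1 : θ.symm ((1 : A ⧸ I) ⊗ₜ[A] φ b) =
        Ideal.Quotient.mk (I.map (algebraMap A B₂)) (φ b) := by
      rw [AlgEquiv.symm_apply_eq]; rfl
    rw [h1]
    have h2 := AlgHom.congr_fun hτ ((1 : B₂) ⊗ₜ[A] b)
    have h3 : σ ((1 : B₂) ⊗ₜ[A] b) = ρ b := by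
      show Algebra.TensorProduct.lift (Algebra.ofId B₂ (B₂ ⧸ I.map (algebraMap A B₂))) ρ
        (fun _ _ => Commute.all _ _) ((1 : B₂) ⊗ₜ[A] b) = ρ b
      rw [Algebra.TensorProduct.lift_tmul, map_one, one_mul]
    rw [h3] at h2
    exact h2
  refine ⟨φ, ?_⟩
  apply Algebra.TensorProduct.ext'
  intro a b
  have ha : a ⊗ₜ[A] b = a • ((1 : A ⧸ I) ⊗ₜ[A] b) := by
    rw [TensorProduct.smul_tmul', smul_eq_mul, mul_one]
  rw [ha, map_smul, map_smul, Algebra.TensorProduct.map_tmul, map_one, hone]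

theorem hom_bijective {I : Ideal A} (hI : HenselianRing A I) (B₁ B₂ : Type u) [CommRing B₁]
    [CommRing B₂] [Algebra A B₁] [Algebra A B₂] [Module.Finite A B₁] [Algebra.Etale A B₁]
    [Module.Finite A B₂] [Algebra.Etale A B₂] :
    Function.Bijective (fun φ : B₁ →ₐ[A] B₂ =>
      Algebra.TensorProduct.map (AlgHom.id (A ⧸ I) (A ⧸ I)) φ) := by
  refine ⟨fun φ φ' h => ?_, fun ψ => exists_hom_lift hI ψ⟩
  have h' : Algebra.TensorProduct.map (AlgHom.id (A ⧸ I) (A ⧸ I)) φ =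
      Algebra.TensorProduct.map (AlgHom.id (A ⧸ I) (A ⧸ I)) φ' := h
  have hsub : ∀ b, φ b - φ' b ∈ I • (⊤ : Submodule A B₂) := by
    intro b
    have h1 := AlgHom.congr_fun h' ((1 : A ⧸ I) ⊗ₜ[A] b)
    simp only [Algebra.TensorProduct.map_tmul, map_one] at h1
    rw [← mem_map_iff_mem_smul_top, ← Ideal.Quotient.eq]
    apply (Algebra.TensorProduct.quotIdealMapEquivQuotTensor B₂ I).injective
    exact h1
  haveI : Algebra.IsIntegral A (B₂ ⊗[A] B₁) := Algebra.IsIntegral.of_finite A _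
  have h2 := idem_sub_mem I φ φ' hsub
  have h3 := (GabberIdem.bijOn_of_integral hI (B₂ ⊗[A] B₁)).injOn (idem_isIdempotent φ)
    (idem_isIdempotent φ') (Ideal.Quotient.eq.mpr ((mem_map_iff_mem_smul_top I _).mpr h2))
  exact eq_of_idem_eq φ φ' h3

end Groth.Agent.Lib.GabberFEt
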