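import Mathlib
import Groth.Agent.Lib.HenselPairOps_lead

/-!
# Henselian pairs pass to arbitrary quotients; connectedness of `V(p + I)`
-/

namespace Groth.Agent.Lib.HenselQuotLead

open Polynomial Groth.Agent.Lib.HenselPairOpsLead

variable {A : Type*} [CommRing A]

/-- If `(A, I)` is a Henselian pair then so is `(A/K, I(A/K))` for every ideal `K`. -/
theorem henselian_map_mk {I : Ideal A} (hI : HenselianRing A I) (K : Ideal A) :
    HenselianRing (A ⧸ K) (I.map (Ideal.Quotient.mk K)) := by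
  classical
  set φ := Ideal.Quotient.mk K with hφ
  set J := I.map φ with hJ
  have hJrad : J ≤ Ideal.jacobson ⊥ := map_mk_le_jacobson K I hI.jac
  have hlift : ∀ y ∈ J, ∃ x ∈ I, φ x = y := fun y hy =>
    (Ideal.mem_map_iff_of_surjective φ Ideal.Quotient.mk_surjective).1 hy
  refine ⟨hJrad, ?_⟩
  intro f hf b₀ h₁ h₂
  by_cases hd : f.natDegree = 0
  · have hf1 : f = 1 := (Polynomial.Monic.natDegree_eq_zero hf).1 hd
    rw [hf1, Polynomial.eval_one] at h₁
    have h3 := Ideal.mem_jacobson_bot.1 (hJrad h₁) (-1)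
    have h0 : IsUnit (0 : A ⧸ K) := by simpa using h3
    have hss : Subsingleton (A ⧸ K) := by
      rw [isUnit_zero_iff] at h0
      exact subsingleton_of_zero_eq_one h0
    exact ⟨b₀, Subsingleton.elim _ _, by rw [Subsingleton.elim (b₀ - b₀) 0]; exact zero_mem _⟩
  obtain ⟨m, hm⟩ : ∃ m, f.natDegree = m + 1 := Nat.exists_eq_succ_of_ne_zero hd
  set g := taylor b₀ f with hg
  have hgdeg : g.natDegree = m + 1 := by rw [hg, natDegree_taylor, hm]
  set c₀ := f.eval b₀ with hc₀
  set u := f.derivative.eval b₀ with hu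
  have hg0 : g.coeff 0 = c₀ := taylor_coeff_zero _ _
  have hg1 : g.coeff 1 = u := taylor_coeff_one _ _
  have huu : IsUnit u := isUnit_of_isUnit_mk J hJrad h₂
  obtain ⟨w₀, hw₀⟩ := huu.exists_right_inv
  set w := -w₀ with hw
  have huw : u * w = -1 := by rw [hw, mul_neg, hw₀]
  -- the coefficients of Gabber's polynomial
  have hdbar : ∀ i : ℕ, g.coeff (i + 2) * c₀ ^ (i + 1) * w ^ (i + 2) ∈ J := by
    intro i
    rw [pow_succ]
    have : g.coeff (i + 2) * (c₀ ^ i * c₀) * w ^ (i + 2) =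
        (g.coeff (i + 2) * c₀ ^ i * w ^ (i + 2)) * c₀ := by ring
    rw [this]
    exact Ideal.mul_mem_left _ _ h₁
  choose d hdI hd using fun i => hlift _ (hdbar i)
  set P : A[X] := -X ^ m + ∑ i ∈ Finset.range m, C (d i) * X ^ (m - 1 - i) with hP
  set G : A[X] := X ^ (m + 1) + P with hG
  have hPdeg : P.degree < ((m + 1 : ℕ) : WithBot ℕ) := by
    rw [Polynomial.degree_lt_iff_coeff_zero]
    intro N hN
    simp only [hP, coeff_add, coeff_neg, coeff_X_pow, finset_sum_coeff, coeff_C_mul]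
    rw [if_neg (by omega), neg_zero, zero_add]
    apply Finset.sum_eq_zero
    intro i hi
    rw [if_neg (by have := Finset.mem_range.1 hi; omega), mul_zero]
  have hGmonic : G.Monic := monic_X_pow_add hPdeg
  have hG1 : G.eval 1 = ∑ i ∈ Finset.range m, d i := by
    simp only [hG, hP, eval_add, eval_neg, eval_pow, eval_X, one_pow, eval_finset_sum, eval_mul,
      eval_C, mul_one]
    ring
  have hG'1 : G.derivative.eval 1 = 1 + ∑ i ∈ Finset.range m, d i * ((m - 1 - i : ℕ) : A) := by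
    simp only [hG, hP, derivative_add, derivative_neg, derivative_X_pow, derivative_sum,
      derivative_mul, derivative_C, zero_mul, zero_add, eval_add, eval_neg, eval_mul, eval_C,
      eval_pow, eval_X, one_pow, mul_one, eval_finset_sum, eval_natCast, Nat.cast_add,
      Nat.cast_one, Nat.add_sub_cancel]
    ring
  have hGI : G.eval 1 ∈ I := by
    rw [hG1]; exact Ideal.sum_mem _ fun i _ => hdI i
  have hG'unit : IsUnit (Ideal.Quotient.mk I (G.derivative.eval 1)) := by
    rw [isUnit_mk_iff]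
    refine ⟨1, ?_⟩
    rw [hG'1, mul_one, add_sub_cancel_left]
    exact Ideal.sum_mem _ fun i _ => Ideal.mul_mem_right _ _ (hdI i)
  obtain ⟨τ, hτroot, hτI⟩ := hI.is_henselian G hGmonic 1 hGI hG'unit
  have hτunit : IsUnit τ := by
    have := Ideal.mem_jacobson_bot.1 (hI.jac hτI) 1
    have e : (τ - 1) * 1 + 1 = τ := by ring
    rwa [e] at this
  obtain ⟨σ, hσ⟩ := hτunit.exists_right_inv
  set t := φ τ with ht
  set s := φ σ with hs
  have hts : t * s = 1 := by rw [ht, hs, ← map_mul, hσ, map_one]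
  -- the image of `G(τ) = 0`
  have hE2 : t ^ (m + 1) - t ^ m +
      ∑ i ∈ Finset.range m, (g.coeff (i + 2) * c₀ ^ (i + 1) * w ^ (i + 2)) * t ^ (m - 1 - i) = 0 := by
    have h0 : G.eval τ = 0 := hτroot
    have h1 := congrArg φ h0
    simp only [hG, hP, eval_add, eval_neg, eval_pow, eval_X, eval_finset_sum, eval_mul, eval_C,
      map_add, map_neg, map_pow, map_sum, map_mul, map_zero, hd] at h1
    rw [← h1]; ring
  have hE3 : 1 - s +
      ∑ i ∈ Finset.range m, (g.coeff (i + 2) * c₀ ^ (i + 1) * w ^ (i + 2)) * s ^ (i + 2) = 0 := by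
    have h2 : s ^ (m + 1) * (t ^ (m + 1) - t ^ m +
        ∑ i ∈ Finset.range m, (g.coeff (i + 2) * c₀ ^ (i + 1) * w ^ (i + 2)) * t ^ (m - 1 - i)) = 0 := by
      rw [hE2, mul_zero]
    rw [← h2, mul_add, mul_sub, Finset.mul_sum]
    have e1 : s ^ (m + 1) * t ^ (m + 1) = 1 := by rw [← mul_pow, mul_comm, hts, one_pow]
    have e2 : s ^ (m + 1) * t ^ m = s := by
      rw [pow_succ, mul_assoc, mul_comm s, ← mul_assoc, ← mul_pow, mul_comm s t, hts, one_pow, one_mul]
    rw [e1, e2]
    congr 1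
    refine Finset.sum_congr rfl fun i hi => ?_
    have him : i < m := Finset.mem_range.1 hi
    have e3 : s ^ (m + 1) = s ^ (i + 2) * s ^ (m - 1 - i) := by
      rw [← pow_add]; congr 1; omega
    have e4 : s ^ (m - 1 - i) * t ^ (m - 1 - i) = 1 := by rw [← mul_pow, mul_comm, hts, one_pow]
    calc g.coeff (i + 2) * c₀ ^ (i + 1) * w ^ (i + 2) * s ^ (i + 2)
        = g.coeff (i + 2) * c₀ ^ (i + 1) * w ^ (i + 2) * s ^ (i + 2) *
            (s ^ (m - 1 - i) * t ^ (m - 1 - i)) := by rw [e4, mul_one]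
      _ = s ^ (m + 1) * (g.coeff (i + 2) * c₀ ^ (i + 1) * w ^ (i + 2) * t ^ (m - 1 - i)) := by
          rw [e3]; ring
  set x := c₀ * w * s with hx
  have hxJ : x ∈ J := by
    rw [hx, mul_assoc]; exact Ideal.mul_mem_right _ _ h₁
  have hE1 : g.eval x = c₀ * (1 - s +
      ∑ i ∈ Finset.range m, (g.coeff (i + 2) * c₀ ^ (i + 1) * w ^ (i + 2)) * s ^ (i + 2)) := by
    rw [eval_eq_sum_range, hgdeg, Finset.sum_range_succ', Finset.sum_range_succ', hg0, hg1]
    rw [mul_add, mul_sub, Finset.mul_sum]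
    have e1 : u * x ^ (0 + 1) = -(c₀ * s) := by
      rw [zero_add, pow_one, hx]
      have : u * (c₀ * w * s) = (u * w) * (c₀ * s) := by ring
      rw [this, huw]; ring
    rw [e1]
    have e2 : ∀ i ∈ Finset.range m, g.coeff (i + 1 + 1) * x ^ (i + 1 + 1) =
        c₀ * (g.coeff (i + 2) * c₀ ^ (i + 1) * w ^ (i + 2) * s ^ (i + 2)) := by
      intro i _
      rw [hx]
      have : i + 1 + 1 = i + 2 := rfl
      rw [this, mul_pow, mul_pow, pow_succ c₀ (i + 1)]
      ring
    rw [Finset.sum_congr rfl e2]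
    ring
  refine ⟨x + b₀, ?_, ?_⟩
  · show f.eval (x + b₀) = 0
    rw [← taylor_eval, ← hg, hE1, hE3, mul_zero]
  · rw [add_sub_cancel_right]; exact hxJ

/-- If `(A, I)` is Henselian and `p` is prime then `Spec A/(p + I)` is connected. -/
theorem connectedSpace_of_henselian {I : Ideal A} (hI : HenselianRing A I) (p : Ideal A)
    [p.IsPrime] : ConnectedSpace (PrimeSpectrum (A ⧸ p ⊔ I)) := by
  classical
  have hD : HenselianRing (A ⧸ p) (I.map (Ideal.Quotient.mk p)) := henselian_map_mk hI p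
  -- `p ⊔ I ≠ ⊤`
  have hne : p ⊔ I ≠ ⊤ := by
    intro htop
    obtain ⟨M, hM, hpM⟩ := Ideal.exists_le_maximal p (Ideal.IsPrime.ne_top inferInstance)
    have hIM : I ≤ M := by
      exact hI.jac.trans (sInf_le ⟨bot_le, hM⟩)
    exact hM.ne_top (top_le_iff.1 (htop ▸ sup_le hpM hIM))
  haveI : Nontrivial (A ⧸ p ⊔ I) := Ideal.Quotient.nontrivial_iff.2 hne
  -- idempotents are trivial
  have hidem : ∀ ε : A ⧸ p ⊔ I, IsIdempotentElem ε → ε = 0 ∨ ε = 1 := by
    intro ε hε
    obtain ⟨e₀, rfl⟩ := Ideal.Quotient.mk_surjective ε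
    have h1 : e₀ * e₀ - e₀ ∈ p ⊔ I := by
      rw [← Ideal.Quotient.eq_zero_iff_mem, map_sub, map_mul, hε.eq, sub_self]
    -- in `D = A/p`
    have hmapmem : ∀ a : A, a ∈ p ⊔ I ↔
        Ideal.Quotient.mk p a ∈ I.map (Ideal.Quotient.mk p) := by
      intro a
      rw [Ideal.mem_quotient_iff_mem_sup, sup_comm]
    set ē := Ideal.Quotient.mk p e₀ with hē
    have h2 : (X ^ 2 - X : (A ⧸ p)[X]).eval ē ∈ I.map (Ideal.Quotient.mk p) := by
      have : (X ^ 2 - X : (A ⧸ p)[X]).eval ē = Ideal.Quotient.mk p (e₀ * e₀ - e₀) := by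
        simp only [eval_sub, eval_pow, eval_X, hē, map_sub, map_mul]; ring
      rw [this, ← hmapmem]; exact h1
    have h3 : IsUnit (Ideal.Quotient.mk (I.map (Ideal.Quotient.mk p))
        ((X ^ 2 - X : (A ⧸ p)[X]).derivative.eval ē)) := by
      rw [isUnit_mk_iff]
      refine ⟨2 * ē - 1, ?_⟩
      have : (X ^ 2 - X : (A ⧸ p)[X]).derivative.eval ē * (2 * ē - 1) - 1 =
          4 * (X ^ 2 - X : (A ⧸ p)[X]).eval ē := by
        simp only [derivative_sub, derivative_X_pow, derivative_X, eval_sub, eval_mul, eval_pow,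
          eval_X, eval_one, eval_natCast, Nat.cast_ofNat, eval_C]
        ring
      rw [this]; exact Ideal.mul_mem_left _ _ h2
    have hmonic : (X ^ 2 - X : (A ⧸ p)[X]).Monic := by
      apply monic_X_pow_sub
      rw [degree_X]; norm_num
    obtain ⟨e, he, hee⟩ := hD.is_henselian _ hmonic ē h2 h3
    have he' : e * (e - 1) = 0 := by
      have : (X ^ 2 - X : (A ⧸ p)[X]).eval e = 0 := he
      simp only [eval_sub, eval_pow, eval_X] at this
      rw [← this]; ring
    rcases mul_eq_zero.1 he' with h0 | h0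
    · left
      rw [h0, zero_sub, neg_mem_iff, ← hmapmem] at hee
      exact Ideal.Quotient.eq_zero_iff_mem.2 hee
    · right
      have h4 : e = 1 := sub_eq_zero.1 h0
      rw [h4] at hee
      have h5 : Ideal.Quotient.mk p (e₀ - 1) ∈ I.map (Ideal.Quotient.mk p) := by
        rw [map_sub, map_one, ← neg_mem_iff, neg_sub]; exact hee
      rw [← hmapmem] at h5
      have := Ideal.Quotient.eq_zero_iff_mem.2 h5
      rw [map_sub, map_one, sub_eq_zero] at this
      exact this
  rw [connectedSpace_iff_clopen]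
  refine ⟨inferInstance, fun s hs => ?_⟩
  obtain ⟨e, he, rfl⟩ := PrimeSpectrum.isClopen_iff.1 hs
  rcases hidem e he with rfl | rfl
  · left; simp
  · right; simp

end Groth.Agent.Lib.HenselQuotLead
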