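import Mathlib
import Groth.Agent.Lib.HenselPairOps_lead

/-!
# Existence of the henselization of a pair

Term model: inside the product `P` of *all* henselian pairs `(C, J)` (in the universe of `A`) under
`(A, I)` we take the smallest subring containing the image of `A` and closed under inverses of units
and under Hensel roots.  Its `Shrink` is the henselization of `(A, I)`.
-/

namespace Groth.Agent.Lib.PairHensExists

open Polynomial Groth.Agent.Lib.HenselPairOpsLead

universe u v w

section Basic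

variable {R : Type*} [CommRing R]

/-- the monic polynomial `X^n + ∑_{i<n} c i X^i` -/
noncomputable def poly (n : ℕ) (c : ℕ → R) : R[X] :=
  X ^ n + ∑ i ∈ Finset.range n, C (c i) * X ^ i

lemma poly_monic (n : ℕ) (c : ℕ → R) : (poly n c).Monic := by
  unfold poly
  apply Polynomial.monic_X_pow_add
  rw [Polynomial.degree_lt_iff_coeff_zero]
  intro m hm
  rw [Polynomial.finset_sum_coeff]
  apply Finset.sum_eq_zero
  intro i hi
  have hi' := Finset.mem_range.1 hi
  rw [Polynomial.coeff_C_mul_X_pow, if_neg (by omega)]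

lemma poly_map {R' : Type*} [CommRing R'] (f : R →+* R') (n : ℕ) (c : ℕ → R) :
    (poly n c).map f = poly n (fun i => f (c i)) := by
  simp [poly, Polynomial.map_sum]

lemma poly_coeff_eq {F : R[X]} (hF : F.Monic) : poly F.natDegree (fun i => F.coeff i) = F :=
  hF.as_sum.symm

/-- uniqueness of Hensel roots -/
theorem root_unique {J : Ideal R} (hJ : J ≤ Ideal.jacobson ⊥) (F : R[X]) {a₀ b b' : R}
    (hb : F.eval b = 0) (hb' : F.eval b' = 0) (hba : b - a₀ ∈ J) (hba' : b' - a₀ ∈ J)
    (hu : IsUnit (Ideal.Quotient.mk J (F.derivative.eval a₀))) : b = b' := by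
  obtain ⟨c, hc⟩ := Polynomial.exists_mul_sq_add_linear_part_eq_eval_add F b (b' - b)
  rw [add_sub_cancel, hb, hb', add_zero] at hc
  have hbb : b' - b ∈ J := by
    have : b' - b = (b' - a₀) - (b - a₀) := by ring
    rw [this]; exact J.sub_mem hba' hba
  have hw : IsUnit (c * (b' - b) + F.derivative.eval b) := by
    apply isUnit_of_isUnit_mk J hJ
    have h1 : F.derivative.eval a₀ - (c * (b' - b) + F.derivative.eval b) ∈ J := by
      have h2 : F.derivative.eval a₀ - F.derivative.eval b ∈ J := by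
        have := eval_sub_mem J F.derivative hba
        rw [← neg_sub]; exact J.neg_mem this
      have h3 : F.derivative.eval a₀ - (c * (b' - b) + F.derivative.eval b)
          = (F.derivative.eval a₀ - F.derivative.eval b) - c * (b' - b) := by ring
      rw [h3]; exact J.sub_mem h2 (J.mul_mem_left _ hbb)
    exact isUnit_mk_of_sub_mem J h1 hu
  have h0 : (c * (b' - b) + F.derivative.eval b) * (b' - b) = 0 := by rw [← hc]; ring
  have := (hw.mul_right_eq_zero).1 h0
  exact (sub_eq_zero.1 this).symm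

/-- a product of henselian pairs is a henselian pair -/
theorem henselian_pi {ι : Type*} (R : ι → Type*) [∀ i, CommRing (R i)] (J : ∀ i, Ideal (R i))
    (h : ∀ i, HenselianRing (R i) (J i)) : HenselianRing (∀ i, R i) (Ideal.pi J) := by
  refine ⟨?_, ?_⟩
  · intro x hx
    rw [Ideal.mem_jacobson_bot]
    intro y
    rw [Pi.isUnit_iff]
    intro i
    show IsUnit (x i * y i + 1)
    exact Ideal.mem_jacobson_bot.1 ((h i).jac ((Ideal.mem_pi _ _).1 hx i)) (y i)
  · intro F hF a₀ h₁ h₂
    obtain ⟨y, hy⟩ := (isUnit_mk_iff _ _).1 h₂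
    have key : ∀ i, ∃ b : R i, (F.map (Pi.evalRingHom R i)).eval b = 0 ∧ b - a₀ i ∈ J i := by
      intro i
      have e1 : (F.map (Pi.evalRingHom R i)).eval (a₀ i) = (F.eval a₀) i :=
        Polynomial.eval_map_apply (Pi.evalRingHom R i) a₀
      have e2 : (F.map (Pi.evalRingHom R i)).derivative.eval (a₀ i)
          = (F.derivative.eval a₀) i := by
        rw [Polynomial.derivative_map]
        exact Polynomial.eval_map_apply (Pi.evalRingHom R i) a₀
      apply (h i).is_henselian _ (hF.map _) (a₀ i)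
      · rw [e1]; exact (Ideal.mem_pi _ _).1 h₁ i
      · rw [e2]
        refine (isUnit_mk_iff _ _).2 ⟨y i, ?_⟩
        exact (Ideal.mem_pi _ _).1 hy i
    choose b hb hba using key
    refine ⟨b, ?_, (Ideal.mem_pi _ _).2 hba⟩
    show F.eval b = 0
    funext i
    have e3 : (F.map (Pi.evalRingHom R i)).eval (b i) = (F.eval b) i :=
      Polynomial.eval_map_apply (Pi.evalRingHom R i) b
    rw [← e3]; exact hb i

end Basic

section Closure

variable {P : Type v} [CommRing P] (JP : Ideal P)

/-- `ι : B → P` is injective and its image is closed under inverses and Hensel roots. -/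
structure Closed {B : Type w} [CommRing B] (ι : B →+* P) : Prop where
  inj : Function.Injective ι
  unit : ∀ s : B, IsUnit (ι s) → IsUnit s
  root : ∀ F : B[X], F.Monic → ∀ a₀ : B, (F.map ι).eval (ι a₀) ∈ JP →
    IsUnit (Ideal.Quotient.mk JP ((F.map ι).derivative.eval (ι a₀))) →
    ∃ b : B, F.eval b = 0 ∧ ι b - ι a₀ ∈ JP

variable {JP} {B : Type w} [CommRing B] {ι : B →+* P}

lemma sub_eq_of_root (hc : Closed JP ι) (hjac : JP ≤ Ideal.jacobson ⊥) (F : B[X]) {a₀ b : B}
    (hb : F.eval b = 0) (hba : ι b - ι a₀ ∈ JP)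
    (hu : IsUnit (Ideal.Quotient.mk JP (ι (F.derivative.eval a₀)))) :
    ∃ t : B, b - a₀ = -(F.eval a₀) * t := by
  obtain ⟨k, hk⟩ := Polynomial.exists_mul_sq_add_linear_part_eq_eval_add F a₀ (b - a₀)
  rw [add_sub_cancel, hb] at hk
  obtain ⟨w, hw⟩ : ∃ w, w = k * (b - a₀) + F.derivative.eval a₀ := ⟨_, rfl⟩
  have hwu : IsUnit w := by
    apply hc.unit
    apply isUnit_of_isUnit_mk JP hjac
    refine isUnit_mk_of_sub_mem JP ?_ hu
    have : ι (F.derivative.eval a₀) - ι w = -(ι k * (ι b - ι a₀)) := by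
      rw [hw]; simp only [map_add, map_mul, map_sub]; ring
    rw [this]
    exact JP.neg_mem (JP.mul_mem_left _ hba)
  obtain ⟨t, ht⟩ := hwu.exists_right_inv
  refine ⟨t, ?_⟩
  linear_combination (-(b - a₀)) * ht + t * hk + (t * (b - a₀)) * hw

theorem henselian_of_closed (hc : Closed JP ι) (hjac : JP ≤ Ideal.jacobson ⊥) (K : Ideal B)
    (hK : ∀ x ∈ K, ι x ∈ JP) : HenselianRing B K := by
  refine ⟨?_, ?_⟩
  · intro x hx
    rw [Ideal.mem_jacobson_bot]
    intro y
    apply hc.unit
    rw [map_add, map_mul, map_one]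
    exact Ideal.mem_jacobson_bot.1 (hjac (hK x hx)) (ι y)
  · intro F hF a₀ h₁ h₂
    have hu : IsUnit (Ideal.Quotient.mk JP (ι (F.derivative.eval a₀))) := by
      obtain ⟨y, hy⟩ := (isUnit_mk_iff K _).1 h₂
      refine (isUnit_mk_iff JP _).2 ⟨ι y, ?_⟩
      have := hK _ hy
      rwa [map_sub, map_mul, map_one] at this
    obtain ⟨b, hb, hba⟩ := hc.root F hF a₀
      (by rw [Polynomial.eval_map_apply]; exact hK _ h₁)
      (by rw [Polynomial.derivative_map, Polynomial.eval_map_apply]; exact hu)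
    obtain ⟨t, ht⟩ := sub_eq_of_root hc hjac F hb hba hu
    refine ⟨b, hb, ?_⟩
    rw [ht]
    exact K.mul_mem_right _ (K.neg_mem h₁)

end Closure

/-- terms for elements of the henselian closure -/
inductive T (A : Type u) : Type u
  | of : A → T A
  | add : T A → T A → T A
  | mul : T A → T A → T A
  | neg : T A → T A
  | root : ℕ → (ℕ → T A) → T A → T A
  | inv : T A → T A

section Eval

variable {P : Type v} [CommRing P] (JP : Ideal P) [hP : HenselianRing P JP]
  {A : Type u} [CommRing A] (φ : A →+* P)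

/-- the Hensel conditions -/
def HC (F : P[X]) (a₀ : P) : Prop :=
  F.eval a₀ ∈ JP ∧ IsUnit (Ideal.Quotient.mk JP (F.derivative.eval a₀))

open Classical in
/-- a chosen Hensel root (or `0`) -/
noncomputable def rootVal (n : ℕ) (c : ℕ → P) (a₀ : P) : P :=
  if h : HC JP (poly n c) a₀ then
    Classical.choose (hP.is_henselian (poly n c) (poly_monic n c) a₀ h.1 h.2)
  else 0

lemma rootVal_spec {n : ℕ} {c : ℕ → P} {a₀ : P} (h : HC JP (poly n c) a₀) :
    (poly n c).eval (rootVal JP n c a₀) = 0 ∧ rootVal JP n c a₀ - a₀ ∈ JP := by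
  unfold rootVal
  rw [dif_pos h]
  exact Classical.choose_spec (hP.is_henselian (poly n c) (poly_monic n c) a₀ h.1 h.2)

/-- evaluation of terms in `P` -/
noncomputable def ev : T A → P
  | .of a => φ a
  | .add s t => ev s + ev t
  | .mul s t => ev s * ev t
  | .neg t => - ev t
  | .root n cs a₀ => rootVal JP n (fun i => ev (cs i)) (ev a₀)
  | .inv t => Ring.inverse (ev t)

lemma ev_of (a : A) : ev JP φ (.of a) = φ a := rfl
lemma ev_add (s t : T A) : ev JP φ (.add s t) = ev JP φ s + ev JP φ t := rfl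
lemma ev_mul (s t : T A) : ev JP φ (.mul s t) = ev JP φ s * ev JP φ t := rfl
lemma ev_neg (t : T A) : ev JP φ (.neg t) = - ev JP φ t := rfl
lemma ev_root (n : ℕ) (cs : ℕ → T A) (a₀ : T A) :
    ev JP φ (.root n cs a₀) = rootVal JP n (fun i => ev JP φ (cs i)) (ev JP φ a₀) := rfl
lemma ev_inv (t : T A) : ev JP φ (.inv t) = Ring.inverse (ev JP φ t) := rfl

theorem ev_induction {M : P → Prop} (h0 : M 0) (hof : ∀ a, M (φ a))
    (hadd : ∀ x y, M x → M y → M (x + y)) (hmul : ∀ x y, M x → M y → M (x * y))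
    (hneg : ∀ x, M x → M (-x)) (hinv : ∀ x, M x → IsUnit x → M (Ring.inverse x))
    (hroot : ∀ (n : ℕ) (c : ℕ → P) (a₀ b : P), (∀ i, M (c i)) → M a₀ → HC JP (poly n c) a₀ →
      (poly n c).eval b = 0 → b - a₀ ∈ JP → M b) (t : T A) : M (ev JP φ t) := by
  induction t with
  | of a => exact hof a
  | add s t ihs iht => rw [ev_add]; exact hadd _ _ ihs iht
  | mul s t ihs iht => rw [ev_mul]; exact hmul _ _ ihs iht
  | neg t ih => rw [ev_neg]; exact hneg _ ih
  | root n cs a₀ ihcs iha =>
    rw [ev_root]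
    by_cases h : HC JP (poly n (fun i => ev JP φ (cs i))) (ev JP φ a₀)
    · obtain ⟨h1, h2⟩ := rootVal_spec JP h
      exact hroot n _ _ _ ihcs iha h h1 h2
    · unfold rootVal
      rw [dif_neg h]
      exact h0
  | inv t ih =>
    rw [ev_inv]
    by_cases hu : IsUnit (ev JP φ t)
    · exact hinv _ ih hu
    · rw [Ring.inverse_non_unit _ hu]
      exact h0

theorem closed_of_range {B : Type w} [CommRing B] (ι : B →+* P) (hinj : Function.Injective ι)
    (hr : Set.range ι = Set.range (ev JP φ)) : Closed JP ι := by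
  have mem : ∀ t : T A, ∃ s : B, ι s = ev JP φ t := fun t => by
    have : ev JP φ t ∈ Set.range ι := by rw [hr]; exact ⟨t, rfl⟩
    exact this
  have mem' : ∀ s : B, ∃ t : T A, ev JP φ t = ι s := fun s => by
    have : ι s ∈ Set.range (ev JP φ) := by rw [← hr]; exact ⟨s, rfl⟩
    exact this
  refine ⟨hinj, ?_, ?_⟩
  · intro s hs
    obtain ⟨t, ht⟩ := mem' s
    obtain ⟨s', hs'⟩ := mem (.inv t)
    rw [ev_inv, ht] at hs'
    refine isUnit_iff_exists_inv.2 ⟨s', hinj ?_⟩
    rw [map_mul, hs', map_one, Ring.mul_inverse_cancel _ hs]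
  · intro F hF a₀ h₁ h₂
    have hco : ∀ i, ∃ t : T A, ev JP φ t = ι (F.coeff i) := fun i => mem' _
    choose cs hcs using hco
    obtain ⟨t₀, ht₀⟩ := mem' a₀
    have hFe : poly F.natDegree (fun i => ev JP φ (cs i)) = F.map ι := by
      have h := poly_map ι F.natDegree (fun i => F.coeff i)
      rw [poly_coeff_eq hF] at h
      rw [h]
      congr 1
      funext i
      exact hcs i
    have hHC : HC JP (poly F.natDegree (fun i => ev JP φ (cs i))) (ev JP φ t₀) := by
      rw [hFe, ht₀]; exact ⟨h₁, h₂⟩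
    obtain ⟨h1, h2⟩ := rootVal_spec JP hHC
    obtain ⟨b, hb⟩ := mem (.root F.natDegree cs t₀)
    rw [ev_root] at hb
    rw [← hb, hFe] at h1
    rw [← hb, ht₀] at h2
    refine ⟨b, hinj ?_, h2⟩
    rw [map_zero, ← Polynomial.eval_map_apply ι b]; exact h1

theorem hom_ext_of_closed {B : Type w} [CommRing B] (ι : B →+* P) (hinj : Function.Injective ι)
    (hr : Set.range ι = Set.range (ev JP φ))
    {C : Type*} [CommRing C] (J : Ideal C) (hJ : J ≤ Ideal.jacobson ⊥) (g g' : B →+* C)
    (hg : ∀ s : B, ι s ∈ JP → g s ∈ J)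
    (hφ : ∀ a : A, ∃ s : B, ι s = φ a ∧ g s = g' s) : g = g' := by
  have hc : Closed JP ι := closed_of_range JP φ ι hinj hr
  have hjac : JP ≤ Ideal.jacobson ⊥ := hP.jac
  have key : ∀ t : T A, ∃ s : B, ι s = ev JP φ t ∧ g s = g' s := by
    intro t
    refine ev_induction JP φ (M := fun x => ∃ s : B, ι s = x ∧ g s = g' s) ?_ ?_ ?_ ?_ ?_ ?_ ?_ t
    · exact ⟨0, map_zero ι, by rw [map_zero, map_zero]⟩
    · exact hφ
    · rintro x y ⟨s₁, h₁, e₁⟩ ⟨s₂, h₂, e₂⟩
      exact ⟨s₁ + s₂, by rw [map_add, h₁, h₂], by rw [map_add, map_add, e₁, e₂]⟩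
    · rintro x y ⟨s₁, h₁, e₁⟩ ⟨s₂, h₂, e₂⟩
      exact ⟨s₁ * s₂, by rw [map_mul, h₁, h₂], by rw [map_mul, map_mul, e₁, e₂]⟩
    · rintro x ⟨s, h, e⟩
      exact ⟨-s, by rw [map_neg, h], by rw [map_neg, map_neg, e]⟩
    · rintro x ⟨s, h, e⟩ hu
      have hsu : IsUnit s := hc.unit s (by rw [h]; exact hu)
      obtain ⟨s', hs'⟩ := hsu.exists_right_inv
      refine ⟨s', ?_, ?_⟩
      · have h2 : x * ι s' = 1 := by rw [← h, ← map_mul, hs', map_one]
        exact (left_inv_eq_right_inv (Ring.inverse_mul_cancel x hu) h2).symm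
      · have h1 : g s' * g s = 1 := by rw [← map_mul, mul_comm, hs', map_one]
        have h2 : g s * g' s' = 1 := by rw [e, ← map_mul, hs', map_one]
        exact left_inv_eq_right_inv h1 h2
    · intro n c a₀ b hcM haM hHC hb hba
      choose cB hcB ecB using hcM
      obtain ⟨sa, hsa, esa⟩ := haM
      have hFι : (poly n cB).map ι = poly n c := by
        rw [poly_map]; congr 1; funext i; exact hcB i
      have hFg : (poly n cB).map g = (poly n cB).map g' := by
        rw [poly_map, poly_map]; congr 1; funext i; exact ecB i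
      obtain ⟨sb, hsb, hsba⟩ := hc.root (poly n cB) (poly_monic n cB) sa
        (by rw [hFι, hsa]; exact hHC.1) (by rw [hFι, hsa]; exact hHC.2)
      have hsb' : (poly n c).eval (ι sb) = 0 := by
        rw [← hFι, Polynomial.eval_map_apply, hsb, map_zero]
      have hιsb : ι sb = b := by
        refine root_unique hjac (poly n c) hsb' hb (a₀ := a₀) ?_ hba hHC.2
        rw [← hsa]; exact hsba
      have hu : IsUnit (Ideal.Quotient.mk JP (ι ((poly n cB).derivative.eval sa))) := by
        rw [← Polynomial.eval_map_apply ι sa, ← Polynomial.derivative_map, hFι, hsa]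
        exact hHC.2
      obtain ⟨t, ht⟩ := sub_eq_of_root hc hjac (poly n cB) hsb hsba hu
      have hdu : IsUnit ((poly n cB).derivative.eval sa) :=
        hc.unit _ (isUnit_of_isUnit_mk JP hjac hu)
      have hFa : ι ((poly n cB).eval sa) ∈ JP := by
        rw [← Polynomial.eval_map_apply ι sa, hFι, hsa]; exact hHC.1
      have hgF : g' ((poly n cB).eval sa) = g ((poly n cB).eval sa) := by
        rw [← Polynomial.eval_map_apply g' sa, ← Polynomial.eval_map_apply g sa, hFg, esa]
      refine ⟨sb, hιsb, ?_⟩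
      refine root_unique hJ ((poly n cB).map g) (a₀ := g sa) ?_ ?_ ?_ ?_ ?_
      · rw [Polynomial.eval_map_apply, hsb, map_zero]
      · rw [hFg, Polynomial.eval_map_apply, hsb, map_zero]
      · rw [← map_sub]; apply hg; rw [map_sub]; exact hsba
      · rw [esa, ← map_sub, ht, map_mul, map_neg, hgF]
        exact J.mul_mem_right _ (J.neg_mem (hg _ hFa))
      · rw [Polynomial.derivative_map, Polynomial.eval_map_apply]
        exact (hdu.map g).map (Ideal.Quotient.mk J)
  ext s
  have hs : ι s ∈ Set.range (ev JP φ) := by rw [← hr]; exact ⟨s, rfl⟩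
  obtain ⟨t, ht⟩ := hs
  obtain ⟨s', hs', es'⟩ := key t
  have : s' = s := hinj (by rw [hs', ht])
  rw [← this]; exact es'

end Eval

section Exists

variable (A : Type u) [CommRing A] (I : Ideal A)

/-- a henselian pair under `(A, I)` -/
structure HP : Type (u + 1) where
  C : Type u
  [ring : CommRing C]
  J : Ideal C
  f : A →+* C
  hens : HenselianRing C J
  le : I.map f ≤ J

attribute [instance] HP.ring

/-- the product of all henselian pairs under `(A, I)` -/
abbrev BigP : Type (u + 1) := ∀ p : HP A I, p.C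

noncomputable def bigJ : Ideal (BigP A I) := Ideal.pi (fun p : HP A I => p.J)

noncomputable def bigφ : A →+* BigP A I := Pi.ringHom (fun p => p.f)

instance bigHens : HenselianRing (BigP A I) (bigJ A I) :=
  henselian_pi _ _ (fun p => p.hens)

noncomputable def bigS : Subring (BigP A I) where
  carrier := Set.range (ev (bigJ A I) (bigφ A I))
  mul_mem' := by rintro _ _ ⟨s, rfl⟩ ⟨t, rfl⟩; exact ⟨.mul s t, rfl⟩
  one_mem' := ⟨.of 1, map_one (bigφ A I)⟩
  add_mem' := by rintro _ _ ⟨s, rfl⟩ ⟨t, rfl⟩; exact ⟨.add s t, rfl⟩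
  zero_mem' := ⟨.of 0, map_zero (bigφ A I)⟩
  neg_mem' := by rintro _ ⟨s, rfl⟩; exact ⟨.neg s, rfl⟩

instance bigS_small : Small.{u} (bigS A I) :=
  small_of_surjective
    (f := fun t : T A => (⟨ev (bigJ A I) (bigφ A I) t, t, rfl⟩ : bigS A I))
    (by rintro ⟨_, t, rfl⟩; exact ⟨t, rfl⟩)

/-- the henselization -/
abbrev Hz : Type u := Shrink.{u} (bigS A I)

noncomputable def hzEquiv : Hz A I ≃+* bigS A I := Shrink.ringEquiv _

noncomputable def hzι : Hz A I →+* BigP A I :=
  (bigS A I).subtype.comp (hzEquiv A I).toRingHom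

noncomputable def hzφ : A →+* Hz A I :=
  (hzEquiv A I).symm.toRingHom.comp
    ((bigφ A I).codRestrict (bigS A I) (fun a => ⟨.of a, rfl⟩))

theorem hzι_injective : Function.Injective (hzι A I) := fun x y h =>
  (hzEquiv A I).injective (Subtype.ext (a1 := hzEquiv A I x) (a2 := hzEquiv A I y) h)

theorem hzι_range : Set.range (hzι A I) = Set.range (ev (bigJ A I) (bigφ A I)) := by
  ext x
  constructor
  · rintro ⟨a, rfl⟩
    exact (hzEquiv A I a).2
  · rintro ⟨t, rfl⟩
    refine ⟨(hzEquiv A I).symm ⟨_, t, rfl⟩, ?_⟩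
    show (((hzEquiv A I) ((hzEquiv A I).symm ⟨_, t, rfl⟩) : bigS A I) : BigP A I) = _
    rw [RingEquiv.apply_symm_apply]

theorem hzι_hzφ (a : A) : hzι A I (hzφ A I a) = bigφ A I a := by
  show (((hzEquiv A I) ((hzEquiv A I).symm ⟨bigφ A I a, .of a, rfl⟩) : bigS A I) : BigP A I) = _
  rw [RingEquiv.apply_symm_apply]

theorem exists_henselization :
    ∃ (Ah : Type u) (_ : CommRing Ah) (_ : Algebra A Ah),
      HenselianRing Ah (I.map (algebraMap A Ah)) ∧
      ∀ (C : Type u) [CommRing C] (J : Ideal C) (f : A →+* C), HenselianRing C J → I.map f ≤ J →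
        ∃! g : Ah →+* C, g.comp (algebraMap A Ah) = f := by
  letI alg : Algebra A (Hz A I) := (hzφ A I).toAlgebra
  refine ⟨Hz A I, inferInstance, alg, ?_, ?_⟩
  · have hc := closed_of_range (bigJ A I) (bigφ A I) (hzι A I) (hzι_injective A I) (hzι_range A I)
    refine henselian_of_closed hc (bigHens A I).jac _ ?_
    intro x hx
    have hle : I.map (hzφ A I) ≤ (bigJ A I).comap (hzι A I) := by
      rw [Ideal.map_le_iff_le_comap]
      intro a ha
      rw [Ideal.mem_comap, Ideal.mem_comap, hzι_hzφ]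
      exact (Ideal.mem_pi _ _).2 fun p => p.le (Ideal.mem_map_of_mem p.f ha)
    exact hle hx
  · intro C _ J f hJ hle
    let p : HP A I := ⟨C, J, f, hJ, hle⟩
    let g : Hz A I →+* C := (Pi.evalRingHom (fun p : HP A I => p.C) p).comp (hzι A I)
    have hgφ : ∀ a, g (hzφ A I a) = f a := fun a => by
      show (hzι A I (hzφ A I a)) p = f a
      rw [hzι_hzφ]; rfl
    refine ⟨g, RingHom.ext hgφ, ?_⟩
    intro g₁ hg₁
    symm
    refine hom_ext_of_closed (bigJ A I) (bigφ A I) (hzι A I) (hzι_injective A I) (hzι_range A I)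
      J hJ.jac g g₁ ?_ ?_
    · intro s hs
      exact (Ideal.mem_pi _ _).1 hs p
    · intro a
      refine ⟨hzφ A I a, hzι_hzφ A I a, ?_⟩
      exact (hgφ a).trans (RingHom.congr_fun hg₁ a).symm

end Exists

end Groth.Agent.Lib.PairHensExists
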