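import Mathlib
import Groth.Agent.Lib.HenselPairOps_lead
import Groth.Agent.Lib.HenselQuot_lead
import Groth.Agent.Lib.PairHensExists_lead

/-!
# Chinese remainder theorem for henselizations of pairs
-/

namespace Groth.Agent.Lib.PairHensCRT

open Polynomial Groth.Agent.Lib.HenselPairOpsLead

universe u

lemma idem_lift {R : Type*} [CommRing R] {K : Ideal R} (hK : HenselianRing R K) (b : R)
    (hb : b * b - b ∈ K) : ∃ ε : R, IsIdempotentElem ε ∧ ε - b ∈ K := by
  have hmon : (X * (X - C 1) : R[X]).Monic := monic_X.mul (monic_X_sub_C 1)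
  have he : (X * (X - C 1) : R[X]).eval b = b * b - b := by
    simp only [eval_mul, eval_X, eval_sub, eval_C]; ring
  have hd : (X * (X - C 1) : R[X]).derivative.eval b = 2 * b - 1 := by
    simp only [derivative_mul, derivative_X, derivative_sub, derivative_C, eval_add, eval_mul,
      eval_X, eval_sub, eval_C, eval_one, eval_zero, sub_zero, one_mul, mul_one]
    ring
  obtain ⟨ε, hε, hεb⟩ := hK.is_henselian _ hmon b (by rw [he]; exact hb) (by
    rw [hd]
    refine (isUnit_mk_iff K _).2 ⟨2 * b - 1, ?_⟩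
    have : (2 * b - 1) * (2 * b - 1) - 1 = 4 * (b * b - b) := by ring
    rw [this]; exact K.mul_mem_left _ hb)
  refine ⟨ε, ?_, hεb⟩
  have h1 : (X * (X - C 1) : R[X]).eval ε = 0 := hε
  simp only [eval_mul, eval_X, eval_sub, eval_C] at h1
  show ε * ε = ε
  linear_combination h1

lemma idem_eq_zero_of_mem_jacobson {R : Type*} [CommRing R] {x : R} (hx : IsIdempotentElem x)
    (hj : x ∈ Ideal.jacobson (⊥ : Ideal R)) : x = 0 := by
  have hu : IsUnit (x * (-1) + 1) := Ideal.mem_jacobson_bot.1 hj (-1)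
  have h0 : (x * (-1) + 1) * x = 0 := by
    have := hx.eq
    linear_combination (-1 : R) * this
  exact (hu.mul_right_eq_zero).1 h0

lemma mk_idem_eq_one {R : Type*} [CommRing R] (ε : R) :
    Ideal.Quotient.mk (Ideal.span {1 - ε} : Ideal R) ε = 1 := by
  have h1 : Ideal.Quotient.mk (Ideal.span {1 - ε} : Ideal R) (1 - ε) = 0 :=
    Ideal.Quotient.eq_zero_iff_mem.2 (Ideal.mem_span_singleton_self _)
  rw [map_sub, map_one, sub_eq_zero] at h1
  exact h1.symm

theorem pi_mk_bijective {ι : Type*} [Fintype ι] [DecidableEq ι] {R : Type*} [CommRing R]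
    (ε : ι → R) (h1 : ∀ i, IsIdempotentElem (ε i)) (h2 : ∀ i j, i ≠ j → ε i * ε j = 0)
    (h3 : ∏ i, (1 - ε i) = 0) :
    Function.Bijective
      (Pi.ringHom fun i => Ideal.Quotient.mk (Ideal.span {1 - ε i} : Ideal R)) := by
  have hmem : ∀ i x, x ∈ (Ideal.span {1 - ε i} : Ideal R) → x * ε i = 0 := by
    intro i x hx
    obtain ⟨c, rfl⟩ := Ideal.mem_span_singleton'.1 hx
    have := (h1 i).eq
    linear_combination (-c) * this
  have hmkε' : ∀ i k, k ≠ i →
      Ideal.Quotient.mk (Ideal.span {1 - ε i} : Ideal R) (ε k) = 0 := by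
    intro i k hki
    apply Ideal.Quotient.eq_zero_iff_mem.2
    have : ε k = ε k * (1 - ε i) := by rw [mul_sub, mul_one, h2 k i hki, sub_zero]
    rw [this]; exact Ideal.mul_mem_left _ _ (Ideal.mem_span_singleton_self _)
  constructor
  · rw [injective_iff_map_eq_zero]
    intro x hx
    have hx' : ∀ i, x * ε i = 0 := fun i => by
      apply hmem i
      apply Ideal.Quotient.eq_zero_iff_mem.1
      exact congrFun hx i
    have hprod : ∀ s : Finset ι, x * ∏ i ∈ s, (1 - ε i) = x := by
      intro s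
      induction s using Finset.induction_on with
      | empty => simp
      | insert a s ha ih =>
        rw [Finset.prod_insert ha, ← mul_assoc, mul_sub, mul_one, hx' a, sub_zero, ih]
    have := hprod Finset.univ
    rw [h3, mul_zero] at this
    exact this.symm
  · intro c
    choose y hy using fun i => Ideal.Quotient.mk_surjective (c i)
    refine ⟨∑ k, ε k * y k, ?_⟩
    funext i
    show Ideal.Quotient.mk (Ideal.span {1 - ε i} : Ideal R) (∑ k, ε k * y k) = c i
    rw [map_sum, Finset.sum_eq_single i]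
    · rw [map_mul, mk_idem_eq_one, one_mul, hy]
    · intro k _ hki
      rw [map_mul, hmkε' i k hki, zero_mul]
    · intro h; exact absurd (Finset.mem_univ i) h

theorem crt {A : Type u} [CommRing A] {n : ℕ} (I : Fin n → Ideal A)
    (hI : Pairwise fun i j => I i ⊔ I j = ⊤) (B : Type u) [CommRing B] [Algebra A B]
    (hB1 : HenselianRing B ((⨅ i, I i).map (algebraMap A B)))
    (hB2 : ∀ (C : Type u) [CommRing C] (J : Ideal C) (f : A →+* C), HenselianRing C J →
      (⨅ i, I i).map f ≤ J → ∃! g : B →+* C, g.comp (algebraMap A B) = f)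
    (Bi : Fin n → Type u) [∀ i, CommRing (Bi i)] [∀ i, Algebra A (Bi i)]
    (hBi1 : ∀ i, HenselianRing (Bi i) ((I i).map (algebraMap A (Bi i))))
    (hBi2 : ∀ i (C : Type u) [CommRing C] (J : Ideal C) (f : A →+* C), HenselianRing C J →
      (I i).map f ≤ J → ∃! g : Bi i →+* C, g.comp (algebraMap A (Bi i)) = f) :
    Nonempty (B ≃ₐ[A] ∀ i, Bi i) := by
  classical
  obtain ⟨K, hK⟩ : ∃ K : Ideal A, K = ⨅ i, I i := ⟨_, rfl⟩
  rw [← hK] at hB1 hB2
  have hKle : ∀ i, K ≤ I i := fun i => by rw [hK]; exact iInf_le _ i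
  have hKmem : ∀ a : A, (∀ j, a ∈ I j) → a ∈ K := fun a h => by
    rw [hK]; exact Ideal.mem_iInf.2 h
  -- CRT elements
  have hcrt : ∀ i, ∃ e : A, e - 1 ∈ I i ∧ ∀ j, j ≠ i → e ∈ I j := by
    intro i
    have h1 : I i ⊔ ⨅ j ∈ (Finset.univ.erase i : Finset (Fin n)), I j = ⊤ :=
      Ideal.sup_iInf_eq_top fun j hj => hI (Finset.ne_of_mem_erase hj).symm
    have h2 : (1 : A) ∈ I i ⊔ ⨅ j ∈ (Finset.univ.erase i : Finset (Fin n)), I j := by
      rw [h1]; exact Submodule.mem_top
    obtain ⟨u, hu, v, hv, huv⟩ := Submodule.mem_sup.1 h2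
    refine ⟨v, ?_, fun j hj => ?_⟩
    · have : v - 1 = -u := by rw [← huv]; ring
      rw [this]; exact (I i).neg_mem hu
    · rw [Ideal.mem_iInf] at hv
      have h3 := hv j
      rw [Ideal.mem_iInf] at h3
      exact h3 (Finset.mem_erase.2 ⟨hj, Finset.mem_univ j⟩)
  choose e he1 he2 using hcrt
  have hF1 : ∀ i, e i * e i - e i ∈ K := by
    intro i
    apply hKmem
    intro j
    by_cases hj : j = i
    · subst hj
      have : e j * e j - e j = e j * (e j - 1) := by ring
      rw [this]; exact (I j).mul_mem_left _ (he1 j)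
    · have : e i * e i - e i = (e i - 1) * e i := by ring
      rw [this]; exact (I j).mul_mem_left _ (he2 i j hj)
  have hF2 : ∀ i, ∀ a ∈ I i, a * e i ∈ K := by
    intro i a ha
    apply hKmem
    intro j
    by_cases hj : j = i
    · subst hj; exact (I j).mul_mem_right _ ha
    · exact (I j).mul_mem_left _ (he2 i j hj)
  have hF3 : ∀ i j, i ≠ j → e i * e j ∈ K := by
    intro i j hij
    apply hKmem
    intro k
    by_cases hk : k = i
    · subst hk
      exact (I k).mul_mem_left _ (he2 j k hij)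
    · exact (I k).mul_mem_right _ (he2 i k hk)
  have hF4 : ∏ i, (1 - e i) ∈ K := by
    apply hKmem
    intro j
    refine (I j).mem_of_dvd (Finset.dvd_prod_of_mem (fun i => 1 - e i) (Finset.mem_univ j)) ?_
    have : 1 - e j = -(e j - 1) := by ring
    rw [this]; exact (I j).neg_mem (he1 j)
  -- idempotents of `B`
  have hqK : ∀ a ∈ K, Ideal.Quotient.mk (K.map (algebraMap A B)) (algebraMap A B a) = 0 :=
    fun a ha => Ideal.Quotient.eq_zero_iff_mem.2 (Ideal.mem_map_of_mem _ ha)
  have hlift : ∀ i, ∃ ε : B, IsIdempotentElem ε ∧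
      ε - algebraMap A B (e i) ∈ K.map (algebraMap A B) := by
    intro i
    apply idem_lift hB1
    have : algebraMap A B (e i) * algebraMap A B (e i) - algebraMap A B (e i)
        = algebraMap A B (e i * e i - e i) := by rw [map_sub, map_mul]
    rw [this]; exact Ideal.mem_map_of_mem _ (hF1 i)
  choose ε hε1 hε2 using hlift
  have hqε : ∀ i, Ideal.Quotient.mk (K.map (algebraMap A B)) (ε i)
      = Ideal.Quotient.mk (K.map (algebraMap A B)) (algebraMap A B (e i)) :=
    fun i => Ideal.Quotient.eq.2 (hε2 i)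
  have hjacB : ∀ x : B, IsIdempotentElem x →
      Ideal.Quotient.mk (K.map (algebraMap A B)) x = 0 → x = 0 := fun x hx hq =>
    idem_eq_zero_of_mem_jacobson hx (hB1.jac (Ideal.Quotient.eq_zero_iff_mem.1 hq))
  have hG1 : ∀ i j, i ≠ j → ε i * ε j = 0 := by
    intro i j hij
    apply hjacB _ ((hε1 i).mul (hε1 j))
    rw [map_mul, hqε, hqε, ← map_mul, ← map_mul]
    exact hqK _ (hF3 i j hij)
  have hp : ∏ i, (1 - ε i) = 0 := by
    apply hjacB
    · exact Finset.prod_induction _ IsIdempotentElem (fun a b ha hb => ha.mul hb)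
        IsIdempotentElem.one (fun i _ => (hε1 i).one_sub)
    · have : Ideal.Quotient.mk (K.map (algebraMap A B)) (∏ i, (1 - ε i))
          = Ideal.Quotient.mk (K.map (algebraMap A B)) (algebraMap A B (∏ i, (1 - e i))) := by
        simp only [map_prod, map_sub, map_one, hqε]
      rw [this]; exact hqK _ hF4
  have hbij := pi_mk_bijective ε hε1 hG1 hp
  -- henselian quotient pairs
  have hQ : ∀ i, HenselianRing (B ⧸ (Ideal.span {1 - ε i} : Ideal B))
      ((I i).map (algebraMap A (B ⧸ (Ideal.span {1 - ε i} : Ideal B)))) := by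
    intro i
    have h0 := Groth.Agent.Lib.HenselQuotLead.henselian_map_mk hB1
      (Ideal.span {1 - ε i} : Ideal B)
    refine henselian_of_le ?_ h0
    rw [Ideal.map_le_iff_le_comap]
    intro a ha
    rw [Ideal.mem_comap]
    have h1 : algebraMap A (B ⧸ (Ideal.span {1 - ε i} : Ideal B)) a
        = Ideal.Quotient.mk _ (algebraMap A B a * ε i) := by
      rw [map_mul, mk_idem_eq_one, mul_one]; rfl
    rw [h1]
    apply Ideal.mem_map_of_mem
    apply Ideal.Quotient.eq_zero_iff_mem.1
    rw [map_mul, hqε, ← map_mul, ← map_mul]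
    exact hqK _ (hF2 i a ha)
  choose h hh using fun i =>
    (hBi2 i (B ⧸ (Ideal.span {1 - ε i} : Ideal B)) _ (algebraMap A _) (hQ i) le_rfl).exists
  -- the product is henselian along `K`
  have hP : HenselianRing (∀ i, Bi i) (K.map (algebraMap A (∀ i, Bi i))) := by
    refine henselian_of_le ?_ (Groth.Agent.Lib.PairHensExists.henselian_pi _ _ hBi1)
    rw [Ideal.map_le_iff_le_comap]
    intro a ha
    rw [Ideal.mem_comap]
    exact (Ideal.mem_pi _ _).2 fun i => Ideal.mem_map_of_mem _ (hKle i ha)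
  obtain ⟨ν, hν, -⟩ := hB2 (∀ i, Bi i) _ (algebraMap A (∀ i, Bi i)) hP le_rfl
  have hν' : ∀ a i, ν (algebraMap A B a) i = algebraMap A (Bi i) a := fun a i =>
    congrFun (RingHom.congr_fun hν a) i
  have hνε : ∀ i, ν (ε i) i = 1 := by
    intro i
    have hidem : IsIdempotentElem (1 - ν (ε i) i) := by
      have h1 : IsIdempotentElem (ν (ε i) i) := by
        have := (hε1 i).map ν
        exact congrFun this.eq i
      exact h1.one_sub
    have hmemI : 1 - ν (ε i) i ∈ (I i).map (algebraMap A (Bi i)) := by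
      have h2 : 1 - ν (ε i) i = -(algebraMap A (Bi i) (e i - 1))
          + ((Pi.evalRingHom (fun i => Bi i) i).comp ν) (algebraMap A B (e i) - ε i) := by
        simp only [RingHom.comp_apply, Pi.evalRingHom_apply, map_sub, map_one, Pi.sub_apply, hν']
        ring
      rw [h2]
      refine Ideal.add_mem _ (neg_mem (Ideal.mem_map_of_mem _ (he1 i))) ?_
      have h3 : (K.map (algebraMap A B)).map ((Pi.evalRingHom (fun i => Bi i) i).comp ν)
          ≤ (I i).map (algebraMap A (Bi i)) := by
        rw [Ideal.map_map]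
        have : ((Pi.evalRingHom (fun i => Bi i) i).comp ν).comp (algebraMap A B)
            = algebraMap A (Bi i) := RingHom.ext fun a => hν' a i
        rw [this]
        exact Ideal.map_mono (hKle i)
      apply h3
      apply Ideal.mem_map_of_mem
      have := hε2 i
      rw [← neg_sub]; exact neg_mem this
    have := idem_eq_zero_of_mem_jacobson hidem ((hBi1 i).jac hmemI)
    exact (sub_eq_zero.1 this).symm
  have hker : ∀ i, ∀ a ∈ (Ideal.span {1 - ε i} : Ideal B),
      ((Pi.evalRingHom (fun i => Bi i) i).comp ν) a = 0 := by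
    intro i a ha
    obtain ⟨c, rfl⟩ := Ideal.mem_span_singleton'.1 ha
    rw [map_mul, map_sub, map_one]
    show _ * (1 - ν (ε i) i) = 0
    rw [hνε i, sub_self, mul_zero]
  let νbar : ∀ i, (B ⧸ (Ideal.span {1 - ε i} : Ideal B)) →+* Bi i := fun i =>
    Ideal.Quotient.lift _ ((Pi.evalRingHom (fun i => Bi i) i).comp ν) (hker i)
  have hνbar : ∀ i x, νbar i (Ideal.Quotient.mk _ x) = ν x i := fun i x =>
    Ideal.Quotient.lift_mk _ _ _
  have hid : ∀ i (x : Bi i), νbar i (h i x) = x := by
    intro i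
    obtain ⟨g₀, -, hu⟩ := hBi2 i (Bi i) _ (algebraMap A (Bi i)) (hBi1 i) le_rfl
    have e1 : (νbar i).comp (h i) = g₀ := hu _ (by
      show ((νbar i).comp (h i)).comp (algebraMap A (Bi i)) = algebraMap A (Bi i)
      rw [RingHom.comp_assoc, hh i]
      ext a
      show νbar i (Ideal.Quotient.mk _ (algebraMap A B a)) = _
      rw [hνbar, hν'])
    have e2 : RingHom.id (Bi i) = g₀ := hu _ (RingHom.id_comp _)
    intro x
    exact RingHom.congr_fun (e1.trans e2.symm) x
  let Φ : B ≃+* (∀ i, B ⧸ (Ideal.span {1 - ε i} : Ideal B)) := RingEquiv.ofBijective _ hbij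
  have hΦ : ∀ x i, Φ x i = Ideal.Quotient.mk _ x := fun x i => rfl
  let μ : (∀ i, Bi i) →+* B := (Φ.symm : _ →+* B).comp
    (Pi.ringHom fun i => (h i).comp (Pi.evalRingHom (fun i => Bi i) i))
  have hμ : ∀ x i, Ideal.Quotient.mk (Ideal.span {1 - ε i} : Ideal B) (μ x) = h i (x i) := by
    intro x i
    have : Φ (μ x) = fun i => h i (x i) := Φ.apply_symm_apply _
    exact congrFun this i
  have hνμ : ∀ x, ν (μ x) = x := by
    intro x
    funext i
    rw [← hνbar i (μ x), hμ, hid]
  have hμν : ∀ x, μ (ν x) = x := by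
    obtain ⟨g₀, -, hu⟩ := hB2 B _ (algebraMap A B) hB1 le_rfl
    have e1 : μ.comp ν = g₀ := hu _ (by
      show (μ.comp ν).comp (algebraMap A B) = algebraMap A B
      ext a
      show μ (ν (algebraMap A B a)) = algebraMap A B a
      apply Φ.injective
      funext i
      rw [hΦ, hΦ, hμ, hν']
      exact (RingHom.congr_fun (hh i) a))
    have e2 : RingHom.id B = g₀ := hu _ (RingHom.id_comp _)
    intro x
    exact RingHom.congr_fun (e1.trans e2.symm) x
  let νA : B →ₐ[A] (∀ i, Bi i) := { ν with commutes' := fun a => RingHom.congr_fun hν a }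
  refine ⟨AlgEquiv.ofBijective νA ⟨?_, ?_⟩⟩
  · intro x y hxy
    have : ν x = ν y := hxy
    rw [← hμν x, ← hμν y, this]
  · intro x
    exact ⟨μ x, hνμ x⟩

end Groth.Agent.Lib.PairHensCRT
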