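import Mathlib
import Groth.Agent.Lib.GabberFEt_lead
import Groth.Agent.Lib.GabberEtale_lead
import Groth.Agent.Lib.PairHensCRT_lead

/-!
# Sections of étale algebras over a henselian pair: uniqueness and existence of lifts
-/

namespace Groth.Agent.Lib.EtaleSection
open TensorProduct Groth.Agent.Lib.GabberFEt

universe u
variable {A : Type u} [CommRing A]

/-- two algebra maps out of an unramified algebra which agree modulo an ideal contained in the
Jacobson radical are equal -/
theorem algHom_eq_of_sub_mem {B₁ B₂ : Type u} [CommRing B₁] [CommRing B₂] [Algebra A B₁]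
    [Algebra A B₂] [Algebra.FormallyUnramified A B₁] [Algebra.EssFiniteType A B₁]
    (J : Ideal B₂) (hJ : J ≤ Ideal.jacobson ⊥) (φ φ' : B₁ →ₐ[A] B₂)
    (h : ∀ b, φ b - φ' b ∈ J) : φ = φ' := by
  have key : ∀ c : B₂ ⊗[A] B₁, tau φ' c - tau φ c ∈ J := by
    intro c
    induction c using TensorProduct.induction_on with
    | zero => rw [map_zero, map_zero, sub_zero]; exact J.zero_mem
    | tmul x y =>
      rw [tau_tmul, tau_tmul, ← mul_sub]
      refine J.mul_mem_left _ ?_
      rw [← neg_sub]; exact neg_mem (h y)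
    | add x y hx hy =>
      rw [map_add, map_add, add_sub_add_comm]; exact J.add_mem hx hy
  have hx : tau φ' (idem φ) = 1 := by
    have hid : IsIdempotentElem (1 - tau φ' (idem φ)) :=
      ((idem_isIdempotent φ).map (tau φ')).one_sub
    have hmem : 1 - tau φ' (idem φ) ∈ J := by
      have := key (idem φ)
      rw [tau_idem] at this
      rw [← neg_sub]; exact neg_mem this
    have := Groth.Agent.Lib.PairHensCRT.idem_eq_zero_of_mem_jacobson hid (hJ hmem)
    exact (sub_eq_zero.1 this).symm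
  apply AlgHom.ext
  intro b
  have h1 : tau φ' (((1 : B₂) ⊗ₜ[A] b) * idem φ) = φ' b := by
    rw [map_mul, hx, mul_one, tau_tmul, one_mul]
  have h2 : tau φ' (((1 : B₂) ⊗ₜ[A] b) * idem φ) = φ b := by
    rw [tmul_mul_idem, map_mul, hx, mul_one, tau_tmul, map_one, mul_one]
  rw [← h2, h1]

/-- lifting an algebra map from an étale algebra to a henselian pair -/
theorem exists_algHom_lift {R C : Type u} [CommRing R] [CommRing C] [Algebra A R] [Algebra A C]
    [Algebra.Etale A R] {J : Ideal C} (hJ : HenselianRing C J) (ρ : R →ₐ[A] C ⧸ J) :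
    ∃ φ : R →ₐ[A] C, ∀ r, Ideal.Quotient.mk J (φ r) = ρ r := by
  let σ : C ⊗[A] R →ₐ[C] C ⧸ J :=
    Algebra.TensorProduct.lift (Algebra.ofId C (C ⧸ J)) ρ (fun _ _ => Commute.all _ _)
  obtain ⟨τ, hτ⟩ := GabberEtale.exists_lift hJ (C ⊗[A] R) σ
  refine ⟨(τ.restrictScalars A).comp
    (Algebra.TensorProduct.includeRight : R →ₐ[A] C ⊗[A] R), fun r => ?_⟩
  have h2 := AlgHom.congr_fun hτ ((1 : C) ⊗ₜ[A] r)
  have h3 : σ ((1 : C) ⊗ₜ[A] r) = ρ r := by
    show Algebra.TensorProduct.lift (Algebra.ofId C (C ⧸ J)) ρ (fun _ _ => Commute.all _ _)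
      ((1 : C) ⊗ₜ[A] r) = ρ r
    rw [Algebra.TensorProduct.lift_tmul, map_one, one_mul]
  rw [h3] at h2
  exact h2

end Groth.Agent.Lib.EtaleSection
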