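import Mathlib

/-!
# Smooth lifting over henselian pairs, part 2: an étaleness criterion (helper8)
APPEND-ONLY once landed.
-/

set_option autoImplicit false
universe u

namespace HensPairSmH8

open TensorProduct KaehlerDifferential

section

variable {A C : Type u} [CommRing A] [CommRing C] [Algebra A C]

/-- Kähler differentials of `C ⧸ J` are killed by `g` when `g • (1 ⊗ ω)` is always of the
form `1 ⊗ D j` with `j ∈ J`. -/
theorem smul_kaehler_quotient_eq_zero (J : Ideal C) (g : C)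
    (hS : ∀ ω : Ω[C⁄A], ∃ j ∈ J,
      g • ((1 : C ⧸ J) ⊗ₜ[C] ω) = (1 : C ⧸ J) ⊗ₜ[C] (D A C j))
    (ω₀ : Ω[(C ⧸ J)⁄A]) : (Ideal.Quotient.mk J g) • ω₀ = 0 := by
  have hmem : ω₀ ∈ Submodule.span (C ⧸ J) (Set.range (D A (C ⧸ J))) := by
    rw [KaehlerDifferential.span_range_derivation]; trivial
  refine Submodule.span_induction ?_ ?_ ?_ ?_ hmem
  · rintro _ ⟨e, rfl⟩
    obtain ⟨c, rfl⟩ := Ideal.Quotient.mk_surjective e
    obtain ⟨j, hj, hjeq⟩ := hS (D A C c)
    have h1 : mapBaseChange A C (C ⧸ J) ((1 : C ⧸ J) ⊗ₜ[C] (D A C c)) =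
        D A (C ⧸ J) (Ideal.Quotient.mk J c) := by
      rw [mapBaseChange_tmul, one_smul, map_D]; rfl
    have h2 : mapBaseChange A C (C ⧸ J) ((1 : C ⧸ J) ⊗ₜ[C] (D A C j)) = 0 := by
      rw [mapBaseChange_tmul, one_smul, map_D]
      have : algebraMap C (C ⧸ J) j = 0 := Ideal.Quotient.eq_zero_iff_mem.mpr hj
      rw [this, map_zero]
    rw [← h1, ← map_smul]
    have h3 : (Ideal.Quotient.mk J g) • ((1 : C ⧸ J) ⊗ₜ[C] (D A C c)) =
        g • ((1 : C ⧸ J) ⊗ₜ[C] (D A C c)) := by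
      rw [← algebraMap_smul (C ⧸ J) g ((1 : C ⧸ J) ⊗ₜ[C] (D A C c))]; rfl
    rw [h3, hjeq, h2]
  · exact smul_zero _
  · intro x y _ _ hx hy
    rw [smul_add, hx, hy, add_zero]
  · intro a x _ hx
    rw [smul_comm, hx, smul_zero]

/-- `H¹(L_{(C/J)/A})` is killed by `g` when `1 ⊗ D j = 0` forces `g j ∈ J²`. -/
theorem smul_h1Cotangent_quotient_eq_zero [Algebra.FormallySmooth A C] (J : Ideal C) (g : C)
    (hI : ∀ j ∈ J, (1 : C ⧸ J) ⊗ₜ[C] (D A C j) = 0 → g * j ∈ J ^ 2)
    (x : Algebra.H1Cotangent A (C ⧸ J)) : (Ideal.Quotient.mk J g) • x = 0 := by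
  let P' : Algebra.Extension A (C ⧸ J) :=
    ⟨C, _, Function.surjInv_eq Ideal.Quotient.mk_surjective⟩
  haveI : Algebra.FormallySmooth A P'.Ring := ‹_›
  have hker : P'.ker = J := Ideal.mk_ker
  obtain ⟨y, rfl⟩ := (P'.equivH1CotangentOfFormallySmooth).surjective x
  rw [← map_smul]
  suffices h : (Ideal.Quotient.mk J g) • y = 0 by rw [h, map_zero]
  apply Algebra.Extension.h1Cotangentι_ext
  rw [Algebra.Extension.H1Cotangent.val_smul, Algebra.Extension.H1Cotangent.val_zero]
  obtain ⟨j, hj⟩ := Algebra.Extension.Cotangent.mk_surjective y.1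
  have hy : P'.cotangentComplex y.1 = 0 := y.2
  rw [← hj, Algebra.Extension.cotangentComplex_mk] at hy
  have hle : P'.ker ≤ J := hker.le
  have hjJ : j.1 ∈ J := hle j.2
  have h2 : g * j.1 ∈ J ^ 2 := hI j.1 hjJ hy
  have h3 : (Ideal.Quotient.mk J g) • (Algebra.Extension.Cotangent.mk j : P'.Cotangent) =
      Algebra.Extension.Cotangent.mk (g • j) := by
    rw [map_smul]
    exact (algebraMap_smul (C ⧸ J) g (Algebra.Extension.Cotangent.mk j : P'.Cotangent))
  rw [← hj, h3, Algebra.Extension.Cotangent.mk_eq_zero_iff]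
  show g * j.1 ∈ P'.ker ^ 2
  have hk2 : P'.ker ^ 2 = J ^ 2 := by rw [hker]
  rw [hk2]
  exact h2

end

/-- A localization at the powers of `g₀` of a module killed by `g₀` is trivial. -/
theorem subsingleton_of_isLocalizedModule {R M M' : Type*} [CommRing R] [AddCommGroup M]
    [Module R M] [AddCommGroup M'] [Module R M'] (g₀ : R) (f : M →ₗ[R] M')
    [IsLocalizedModule (Submonoid.powers g₀) f] (h : ∀ m : M, g₀ • m = 0) : Subsingleton M' := by
  refine ⟨fun x y => ?_⟩
  suffices H : ∀ z : M', z = 0 by rw [H x, H y]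
  intro z
  obtain ⟨⟨m, s⟩, hs⟩ := IsLocalizedModule.surj (Submonoid.powers g₀) f z
  have hm : f m = 0 :=
    (IsLocalizedModule.eq_zero_iff (Submonoid.powers g₀) f).mpr
      ⟨⟨g₀, Submonoid.mem_powers g₀⟩, h m⟩
  have h0 : s • z = 0 := by rw [← hm]; exact hs
  have hinj := IsLocalizedModule.smul_injective f s
  apply hinj
  show s • z = s • (0 : M')
  rw [h0, smul_zero]

section

variable {A C : Type u} [CommRing A] [CommRing C] [Algebra A C]

/-- The étaleness criterion: `C` smooth over `A`, `J` a finitely generated ideal, `g ∈ C` such that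
the conormal map `J/J² → (C/J) ⊗ Ω` is bijective up to `g`-torsion. Then `(C/J)_g` is étale. -/
theorem etale_away_quotient [Algebra.Smooth A C] (J : Ideal C) (hJ : J.FG) (g : C)
    (hS : ∀ ω : Ω[C⁄A], ∃ j ∈ J,
      g • ((1 : C ⧸ J) ⊗ₜ[C] ω) = (1 : C ⧸ J) ⊗ₜ[C] (D A C j))
    (hI : ∀ j ∈ J, (1 : C ⧸ J) ⊗ₜ[C] (D A C j) = 0 → g * j ∈ J ^ 2) :
    Algebra.Etale A (Localization.Away (Ideal.Quotient.mk J g)) := by
  haveI : Algebra.FormallySmooth A C := inferInstance
  haveI h1 : Subsingleton Ω[Localization.Away (Ideal.Quotient.mk J g)⁄A] :=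
    subsingleton_of_isLocalizedModule (Ideal.Quotient.mk J g)
      (KaehlerDifferential.map A A (C ⧸ J) (Localization.Away (Ideal.Quotient.mk J g)))
      (smul_kaehler_quotient_eq_zero J g hS)
  haveI h2 : Subsingleton
      (Algebra.H1Cotangent A (Localization.Away (Ideal.Quotient.mk J g))) :=
    subsingleton_of_isLocalizedModule (Ideal.Quotient.mk J g)
      (Algebra.H1Cotangent.map A A (C ⧸ J) (Localization.Away (Ideal.Quotient.mk J g)))
      (smul_h1Cotangent_quotient_eq_zero J g hI)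
  haveI : Algebra.FormallyEtale A (Localization.Away (Ideal.Quotient.mk J g)) := ⟨h1, h2⟩
  haveI : Algebra.FinitePresentation A (C ⧸ J) := Algebra.FinitePresentation.quotient hJ
  haveI : Algebra.FinitePresentation (C ⧸ J) (Localization.Away (Ideal.Quotient.mk J g)) :=
    IsLocalization.Away.finitePresentation (Ideal.Quotient.mk J g)
  haveI : Algebra.FinitePresentation A (Localization.Away (Ideal.Quotient.mk J g)) :=
    Algebra.FinitePresentation.trans A (C ⧸ J) _
  exact {}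

end

end HensPairSmH8
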