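import Mathlib

/-!
# Smooth lifting over henselian pairs, part 1: module-theoretic lemmas (helper8)
APPEND-ONLY once landed.
-/

set_option autoImplicit false
universe u

namespace HensPairSmH8

open Polynomial

/-- An endomorphism of a finite module congruent to the identity modulo `K` is invertible up to an
element `g ≡ 1 mod K`. -/
theorem exists_quasi_inverse {R N : Type*} [CommRing R] [AddCommGroup N] [Module R N]
    [Module.Finite R N] (K : Ideal R) (φ : N →ₗ[R] N)
    (h : ∀ n, φ n - n ∈ K • (⊤ : Submodule R N)) :
    ∃ (g : R) (χ : N →ₗ[R] N), g - 1 ∈ K ∧ (∀ n, φ (χ n) = g • n) ∧ (∀ n, χ (φ n) = g • n) := by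
  have hrange : LinearMap.range ((1 : Module.End R N) - φ) ≤ K • ⊤ := by
    rintro _ ⟨n, rfl⟩
    have := h n
    rw [← neg_sub] at this
    have h2 := (Submodule.neg_mem_iff _).mp this
    simpa using h2
  obtain ⟨p, hmonic, -, hcoeff, hp⟩ :=
    LinearMap.exists_monic_and_natDegree_eq_and_coeff_mem_pow_and_aeval_eq_zero R
      ((1 : Module.End R N) - φ) K hrange
  let q : R[X] := p.comp (C 1 - X)
  have hq : aeval φ q = 0 := by
    show aeval φ (p.comp (C 1 - X)) = 0
    rw [aeval_comp]
    have : aeval φ (C 1 - X : R[X]) = 1 - φ := by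
      rw [map_sub, aeval_C, aeval_X, map_one]
    rw [this, hp]
  have hq0 : q.coeff 0 - 1 ∈ K := by
    have e1 : q.coeff 0 = p.eval 1 := by
      show (p.comp (C 1 - X)).coeff 0 = _
      rw [coeff_zero_eq_eval_zero, eval_comp]
      congr 1
      simp
    rw [e1, eval_eq_sum_range, Finset.sum_range_succ, hmonic.coeff_natDegree, one_pow, mul_one,
      add_sub_cancel_right]
    refine Ideal.sum_mem _ fun i hi => ?_
    rw [one_pow, mul_one]
    have hi' : i < p.natDegree := Finset.mem_range.mp hi
    have h1 : K ^ (p.natDegree - i) ≤ K := by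
      have : p.natDegree - i ≠ 0 := by omega
      exact Ideal.pow_le_self this
    exact h1 (hcoeff i)
  have hdecomp : q = q.divX * X + C (q.coeff 0) := (divX_mul_X_add q).symm
  have hsum : aeval φ q.divX * φ + (q.coeff 0) • (1 : Module.End R N) = 0 := by
    have := hq
    rw [hdecomp, map_add, map_mul, aeval_X, aeval_C, Algebra.algebraMap_eq_smul_one] at this
    exact this
  have hcomm : aeval φ q.divX * φ = φ * aeval φ q.divX := by
    have h1 : aeval φ (q.divX * X) = aeval φ q.divX * φ := by rw [map_mul, aeval_X]
    have h2 : aeval φ (X * q.divX) = φ * aeval φ q.divX := by rw [map_mul, aeval_X]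
    rw [← h1, ← h2, mul_comm]
  refine ⟨q.coeff 0, - aeval φ q.divX, hq0, fun n => ?_, fun n => ?_⟩
  · have h3 : φ * aeval φ q.divX + (q.coeff 0) • (1 : Module.End R N) = 0 := by
      rw [← hcomm]; exact hsum
    have := LinearMap.congr_fun h3 n
    simp only [LinearMap.add_apply, Module.End.mul_apply, LinearMap.smul_apply,
      Module.End.one_apply, LinearMap.zero_apply] at this
    rw [LinearMap.neg_apply, map_neg]
    exact (neg_eq_of_add_eq_zero_right this)
  · have := LinearMap.congr_fun hsum n
    simp only [LinearMap.add_apply, Module.End.mul_apply, LinearMap.smul_apply,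
      Module.End.one_apply, LinearMap.zero_apply] at this
    rw [LinearMap.neg_apply]
    exact (neg_eq_of_add_eq_zero_right this)

end HensPairSmH8
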