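import Mathlib
import Groth.Agent.Lib.HensPairSm1_helper8

/-!
# Smooth lifting over henselian pairs, part 3: constructing an étale slice (helper8)
APPEND-ONLY once landed.
-/

set_option autoImplicit false
universe u

namespace HensPairSmH8

open TensorProduct KaehlerDifferential

theorem one_tmul_eq_zero_iff {R M : Type*} [CommRing R] [AddCommGroup M] [Module R M]
    (I : Ideal R) (x : M) :
    (1 : R ⧸ I) ⊗ₜ[R] x = 0 ↔ x ∈ I • (⊤ : Submodule R M) := by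
  rw [← (TensorProduct.quotTensorEquivQuotSMul M I).map_eq_zero_iff,
    TensorProduct.quotTensorEquivQuotSMul_mk_one_tmul, Submodule.Quotient.mk_eq_zero]

theorem exists_one_tmul {R M : Type*} [CommRing R] [AddCommGroup M] [Module R M]
    (I : Ideal R) (z : (R ⧸ I) ⊗[R] M) : ∃ x : M, z = (1 : R ⧸ I) ⊗ₜ[R] x := by
  obtain ⟨y, hy⟩ := (TensorProduct.quotTensorEquivQuotSMul M I).symm.surjective z
  obtain ⟨x, rfl⟩ := Submodule.Quotient.mk_surjective _ y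
  exact ⟨x, by rw [← hy, TensorProduct.quotTensorEquivQuotSMul_symm_mk]⟩

section

variable {A C : Type u} [CommRing A] [CommRing C] [Algebra A C]

/-- The conormal map `K → (C/K) ⊗ Ω` is surjective when `A → C/K` is. -/
theorem kerToTensor_surjective (K : Ideal C) (hK : ∀ c : C, ∃ a : A, c - algebraMap A C a ∈ K) :
    Function.Surjective (kerToTensor A C (C ⧸ K)) := by
  intro z
  obtain ⟨ω, rfl⟩ := exists_one_tmul K z
  have hmem : ω ∈ Submodule.span C (Set.range (D A C)) := by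
    rw [KaehlerDifferential.span_range_derivation]; trivial
  suffices h : (TensorProduct.mk C (C ⧸ K) Ω[C⁄A] 1) ω ∈ LinearMap.range (kerToTensor A C (C ⧸ K)) by
    exact h
  refine Submodule.span_induction ?_ ?_ ?_ ?_ hmem
  · rintro _ ⟨c, rfl⟩
    obtain ⟨a, ha⟩ := hK c
    have hk : c - algebraMap A C a ∈ RingHom.ker (algebraMap C (C ⧸ K)) := by
      rw [RingHom.mem_ker]; exact Ideal.Quotient.eq_zero_iff_mem.mpr ha
    refine ⟨⟨c - algebraMap A C a, hk⟩, ?_⟩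
    rw [kerToTensor_apply]
    show (1 : C ⧸ K) ⊗ₜ[C] D A C (c - algebraMap A C a) = (1 : C ⧸ K) ⊗ₜ[C] D A C c
    rw [map_sub, Derivation.map_algebraMap, sub_zero]
  · rw [map_zero]; exact Submodule.zero_mem _
  · intro x y _ _ hx hy
    rw [map_add]; exact Submodule.add_mem _ hx hy
  · intro c x _ hx
    rw [map_smul]; exact Submodule.smul_mem _ c hx

/-- Construction of the étale slice: for `C` smooth over `A` and an ideal `K` with `A → C/K`
surjective, there are a finitely generated ideal `J ≤ K` and `g ≡ 1 mod K` such that the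
conormal map of `J` is bijective up to `g`-torsion. -/
theorem exists_slice [Algebra.Smooth A C] (K : Ideal C)
    (hK : ∀ c : C, ∃ a : A, c - algebraMap A C a ∈ K) :
    ∃ (J : Ideal C) (g : C), J ≤ K ∧ J.FG ∧ g - 1 ∈ K ∧
      (∀ ω : Ω[C⁄A], ∃ j ∈ J,
        g • ((1 : C ⧸ J) ⊗ₜ[C] ω) = (1 : C ⧸ J) ⊗ₜ[C] (D A C j)) ∧
      (∀ j ∈ J, (1 : C ⧸ J) ⊗ₜ[C] (D A C j) = 0 → g * j ∈ J ^ 2) := by
  haveI : Algebra.FormallySmooth A C := inferInstance
  haveI : Module.Projective C Ω[C⁄A] := inferInstance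
  haveI : Module.Finite C Ω[C⁄A] := inferInstance
  obtain ⟨θ₀, hθ₀⟩ := Module.projective_lifting_property (kerToTensor A C (C ⧸ K))
    (TensorProduct.mk C (C ⧸ K) Ω[C⁄A] 1) (kerToTensor_surjective K hK)
  let θ : Ω[C⁄A] →ₗ[C] C := (Submodule.subtype (RingHom.ker (algebraMap C (C ⧸ K)))).comp θ₀
  have hθK : ∀ ω, θ ω ∈ K := fun ω => by
    have := (θ₀ ω).2
    rw [RingHom.mem_ker] at this
    exact Ideal.Quotient.eq_zero_iff_mem.mp this
  have hcong : ∀ ω, D A C (θ ω) - ω ∈ K • (⊤ : Submodule C Ω[C⁄A]) := by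
    intro ω
    have h1 := LinearMap.congr_fun hθ₀ ω
    rw [LinearMap.comp_apply, kerToTensor_apply] at h1
    rw [← one_tmul_eq_zero_iff, TensorProduct.tmul_sub, sub_eq_zero]
    exact h1
  let J : Ideal C := LinearMap.range θ
  have hJK : J ≤ K := by
    rintro _ ⟨ω, rfl⟩
    exact hθK ω
  have hJfg : J.FG := by
    have : (⊤ : Submodule C Ω[C⁄A]).FG := Module.Finite.fg_top
    have h2 := this.map θ
    rwa [Submodule.map_top] at h2
  have hmemJ : ∀ ω, θ ω ∈ RingHom.ker (algebraMap C (C ⧸ J)) := fun ω => by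
    rw [RingHom.mem_ker]
    exact Ideal.Quotient.eq_zero_iff_mem.mpr ⟨ω, rfl⟩
  let ℓ : Ω[C⁄A] →ₗ[C] (C ⧸ J) ⊗[C] Ω[C⁄A] :=
    (kerToTensor A C (C ⧸ J)).comp (θ.codRestrict (RingHom.ker (algebraMap C (C ⧸ J))) hmemJ)
  have hℓ : ∀ ω, ℓ ω = (1 : C ⧸ J) ⊗ₜ[C] D A C (θ ω) := fun ω => by
    show kerToTensor A C (C ⧸ J) _ = _
    rw [kerToTensor_apply]
    rfl
  let φ₀ : (C ⧸ J) ⊗[C] Ω[C⁄A] →ₗ[C ⧸ J] (C ⧸ J) ⊗[C] Ω[C⁄A] :=
    LinearMap.liftBaseChange (C ⧸ J) ℓ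
  let φ : (C ⧸ J) ⊗[C] Ω[C⁄A] →ₗ[C] (C ⧸ J) ⊗[C] Ω[C⁄A] := φ₀.restrictScalars C
  have hφ1 : ∀ ω, φ ((1 : C ⧸ J) ⊗ₜ[C] ω) = (1 : C ⧸ J) ⊗ₜ[C] D A C (θ ω) := fun ω => by
    show LinearMap.liftBaseChange (C ⧸ J) ℓ ((1 : C ⧸ J) ⊗ₜ[C] ω) = _
    rw [LinearMap.liftBaseChange_tmul, one_smul, hℓ]
  have hφ : ∀ n, φ n - n ∈ K • (⊤ : Submodule C ((C ⧸ J) ⊗[C] Ω[C⁄A])) := by
    intro n
    obtain ⟨ω, rfl⟩ := exists_one_tmul J n
    rw [hφ1, ← TensorProduct.tmul_sub]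
    have hmap : (K • (⊤ : Submodule C Ω[C⁄A])).map (TensorProduct.mk C (C ⧸ J) Ω[C⁄A] 1) ≤
        K • ⊤ := by
      rw [Submodule.map_smul'']
      exact smul_mono_right _ le_top
    exact hmap ⟨_, hcong ω, rfl⟩
  obtain ⟨g, χ, hg, h1, h2⟩ := exists_quasi_inverse K φ hφ
  refine ⟨J, g, hJK, hJfg, hg, fun ω => ?_, fun j hj h0 => ?_⟩
  · obtain ⟨ω', hω'⟩ := exists_one_tmul J (χ ((1 : C ⧸ J) ⊗ₜ[C] ω))
    refine ⟨θ ω', ⟨ω', rfl⟩, ?_⟩
    rw [← h1, hω', hφ1]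
  · obtain ⟨ω', rfl⟩ := hj
    have h3 : φ ((1 : C ⧸ J) ⊗ₜ[C] ω') = 0 := by rw [hφ1]; exact h0
    have h4 : g • ((1 : C ⧸ J) ⊗ₜ[C] ω') = 0 := by rw [← h2, h3, map_zero]
    rw [← TensorProduct.tmul_smul, one_tmul_eq_zero_iff] at h4
    have hmap : (J • (⊤ : Submodule C Ω[C⁄A])).map θ = J * J := by
      rw [Submodule.map_smul'', Submodule.map_top]
      rfl
    have h5 : θ (g • ω') ∈ J * J := by
      rw [← hmap]; exact ⟨_, h4, rfl⟩
    rw [map_smul, smul_eq_mul] at h5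
    rw [pow_two]
    exact h5

end

end HensPairSmH8
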