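import Mathlib
import Groth.Agent.Lib.HensPairSm2_helper8
import Groth.Agent.Lib.HensPairSm3_helper8
import Groth.Agent.Lib.EtaleSection_lead

/-!
# Smooth lifting over henselian pairs, part 4: the lifting theorem (helper8)
APPEND-ONLY once landed.
-/

set_option autoImplicit false
universe u

namespace HensPairSmH8

open TensorProduct

/-- Sections modulo `I` of smooth algebras over a henselian pair lift. -/
theorem exists_lift_of_smooth {A C : Type u} [CommRing A] [CommRing C] [Algebra A C]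
    [Algebra.Smooth A C] (I : Ideal A) (hI : HenselianRing A I) (σ' : C →ₐ[A] A ⧸ I) :
    ∃ τ' : C →ₐ[A] A, ∀ c, Ideal.Quotient.mk I (τ' c) = σ' c := by
  let K : Ideal C := RingHom.ker σ'.toRingHom
  have hK : ∀ c : C, ∃ a : A, c - algebraMap A C a ∈ K := by
    intro c
    obtain ⟨a, ha⟩ := Ideal.Quotient.mk_surjective (σ' c)
    refine ⟨a, ?_⟩
    show σ' (c - algebraMap A C a) = 0
    rw [map_sub, σ'.commutes, ← ha]
    exact sub_self _
  obtain ⟨J, g, hJK, hJfg, hg, hS, hI'⟩ := exists_slice K hK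
  haveI : Algebra.Etale A (Localization.Away (Ideal.Quotient.mk J g)) :=
    etale_away_quotient J hJfg g hS hI'
  have hσg : σ' g = 1 := by
    have : σ' (g - 1) = 0 := hg
    rw [map_sub, map_one, sub_eq_zero] at this
    exact this
  let ρ₀ : C ⧸ J →ₐ[A] A ⧸ I := Ideal.Quotient.liftₐ J σ' (fun j hj => hJK hj)
  have hρ₀ : ∀ c, ρ₀ (Ideal.Quotient.mk J c) = σ' c := fun c => rfl
  let ρ : Localization.Away (Ideal.Quotient.mk J g) →ₐ[A] A ⧸ I :=
    IsLocalization.liftAlgHom (M := Submonoid.powers (Ideal.Quotient.mk J g)) (f := ρ₀) (by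
      rintro ⟨y, n, rfl⟩
      show IsUnit (ρ₀ ((Ideal.Quotient.mk J g) ^ n))
      rw [map_pow, hρ₀, hσg, one_pow]
      exact isUnit_one)
  obtain ⟨φE, hφE⟩ := Groth.Agent.Lib.EtaleSection.exists_algHom_lift hI ρ
  let f : C →ₐ[A] Localization.Away (Ideal.Quotient.mk J g) :=
    (IsScalarTower.toAlgHom A (C ⧸ J) (Localization.Away (Ideal.Quotient.mk J g))).comp
      (Ideal.Quotient.mkₐ A J)
  refine ⟨φE.comp f, fun c => ?_⟩
  show Ideal.Quotient.mk I (φE (f c)) = σ' c
  rw [hφE]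
  show ρ (algebraMap (C ⧸ J) _ (Ideal.Quotient.mk J c)) = σ' c
  have : ρ (algebraMap (C ⧸ J) _ (Ideal.Quotient.mk J c)) = ρ₀ (Ideal.Quotient.mk J c) :=
    IsLocalization.lift_eq _ _
  rw [this, hρ₀]

/-- S0536: smooth algebras lift along henselian pairs. -/
theorem main (R : Type u) [CommRing R] (S : Type u) [CommRing S]
    [Algebra R S] [Algebra.Smooth R S] (A : Type u) [CommRing A] [Algebra R A] (I : Ideal A)
    [hI : HenselianRing A I] (σ : S →ₐ[R] A ⧸ I) :
    ∃ τ : S →ₐ[R] A, (Ideal.Quotient.mkₐ R I).comp τ = σ := by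
  let σ' : A ⊗[R] S →ₐ[A] A ⧸ I :=
    Algebra.TensorProduct.lift (Algebra.ofId A (A ⧸ I)) σ (fun _ _ => Commute.all _ _)
  obtain ⟨τ', hτ'⟩ := exists_lift_of_smooth I hI σ'
  refine ⟨(τ'.restrictScalars R).comp Algebra.TensorProduct.includeRight, ?_⟩
  ext s
  show Ideal.Quotient.mk I (τ' ((1 : A) ⊗ₜ[R] s)) = σ s
  rw [hτ']
  show Algebra.TensorProduct.lift (Algebra.ofId A (A ⧸ I)) σ (fun _ _ => Commute.all _ _)
      ((1 : A) ⊗ₜ[R] s) = σ s
  rw [Algebra.TensorProduct.lift_tmul, map_one, one_mul]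

end HensPairSmH8
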