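import Groth.Agent.Lib.FSNilp_helper3
import Groth.Agent.Lib.SepSmooth_helper3

/-!
# Lifting homomorphisms out of Cohen rings (EGA 0_IV 19.8)
-/

set_option autoImplicit false
set_option maxSynthPendingDepth 3

namespace Groth.Agent.Lib.CohenLiftH3

universe u v

open TensorProduct IsLocalRing EGA41

section Perfect

variable (p : ℕ) [hp : Fact p.Prime] (k K : Type u) [Field k] [Field K] [Algebra k K] [CharP k p]

theorem linearIndependent_pow_of_perfect [PerfectRing k p] {J : Type*} (s : J → K)
    (hs : LinearIndependent k s) : LinearIndependent k (fun j => s j ^ p) := by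
  classical
  haveI : CharP K p := charP_of_injective_algebraMap (algebraMap k K).injective p
  rw [linearIndependent_iff'] at hs ⊢
  intro t g hg i hi
  set h : J → k := fun j => (frobeniusEquiv k p).symm (g j) with hh_def
  have hh : ∀ j, h j ^ p = g j := fun j => frobeniusEquiv_symm_pow_p k p (g j)
  have h1 : (∑ j ∈ t, h j • s j) ^ p = 0 := by
    rw [sum_pow_char, ← hg]
    refine Finset.sum_congr rfl fun j _ => ?_
    rw [smul_pow, hh]
  have h2 : ∑ j ∈ t, h j • s j = 0 := (pow_eq_zero_iff hp.out.ne_zero).1 h1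
  have h3 := hs t h h2 i hi
  rw [← hh i, h3, zero_pow hp.out.ne_zero]

/-- MacLane: if `p`-th powers of `k`-linearly independent families stay independent, `K/k` is
geometrically reduced. -/
theorem isGeometricallyReduced_of_linearIndependent_pow
    (H : ∀ s : Module.Basis.ofVectorSpaceIndex k K → K,
      LinearIndependent k s → LinearIndependent k (fun j => s j ^ p)) :
    Algebra.IsGeometricallyReduced k K := by
  classical
  rw [Algebra.isGeometricallyReduced_field_iff]
  let b := Module.Basis.ofVectorSpace k K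
  haveI : Nontrivial (AlgebraicClosure k ⊗[k] K) :=
    (Algebra.TensorProduct.includeLeft_injective (S := k)
      (algebraMap k K).injective : Function.Injective
        (Algebra.TensorProduct.includeLeft : AlgebraicClosure k →ₐ[k] _)).nontrivial
  haveI : CharP (AlgebraicClosure k ⊗[k] K) p :=
    charP_of_injective_algebraMap (algebraMap k (AlgebraicClosure k ⊗[k] K)).injective p
  refine ⟨fun θ hθ => ?_⟩
  obtain ⟨N, hN⟩ := hθ
  obtain ⟨m, hm⟩ : ∃ m, N ≤ p ^ m := ⟨N, (Nat.lt_pow_self hp.out.one_lt).le⟩
  have hθm : θ ^ (p ^ m) = 0 := pow_eq_zero_of_le hm hN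
  let B := b.baseChange (AlgebraicClosure k)
  have hθ' : θ = ∑ j ∈ (B.repr θ).support,
      (B.repr θ j) • ((1 : AlgebraicClosure k) ⊗ₜ[k] b j) := by
    conv_lhs => rw [← B.linearCombination_repr θ, Finsupp.linearCombination_apply, Finsupp.sum]
    refine Finset.sum_congr rfl fun j _ => ?_
    rw [Module.Basis.baseChange_apply]
  have hli : ∀ m : ℕ, LinearIndependent k (fun j => b j ^ (p ^ m)) := by
    intro m
    induction m with
    | zero => simpa using b.linearIndependent
    | succ m ih =>
      have := H _ ih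
      convert this using 2
      rw [pow_succ, pow_mul]
  have hli' := Module.Flat.linearIndependent_one_tmul (S := AlgebraicClosure k) (hli m)
  have h1 : θ ^ (p ^ m) = ∑ j ∈ (B.repr θ).support,
      (B.repr θ j) ^ (p ^ m) • ((1 : AlgebraicClosure k) ⊗ₜ[k] (b j ^ (p ^ m))) := by
    conv_lhs => rw [hθ']
    rw [sum_pow_char_pow]
    refine Finset.sum_congr rfl fun j _ => ?_
    rw [smul_pow, Algebra.TensorProduct.tmul_pow, one_pow]
  rw [h1] at hθm
  have h2 := (linearIndependent_iff'.1 hli') _ _ hθm
  have h3 : B.repr θ = 0 := by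
    ext j
    by_cases hj : j ∈ (B.repr θ).support
    · have := h2 j hj
      exact (pow_eq_zero_iff (pow_ne_zero m hp.out.ne_zero)).1 this
    · simpa using hj
  rw [← B.linearCombination_repr θ, h3]
  simp

theorem isGeometricallyReduced_of_perfect [PerfectRing k p] :
    Algebra.IsGeometricallyReduced k K :=
  isGeometricallyReduced_of_linearIndependent_pow p k K
    fun s hs => linearIndependent_pow_of_perfect p k K s hs

end Perfect

section CharZero

theorem formallySmooth_of_charZero' (k : Type u) (K : Type v) [Field k] [Field K] [Algebra k K]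
    [CharZero k] : Algebra.FormallySmooth k K := by
  obtain ⟨s, hs⟩ := exists_isTranscendenceBasis k K
  haveI : Algebra.IsAlgebraic (IntermediateField.adjoin k (Set.range ((↑) : s → K))) K := by
    have := hs.isAlgebraic_field
    simpa using this
  exact Algebra.FormallySmooth.of_algebraicIndependent_of_isSeparable hs.1

end CharZero

section ULiftInt

/-- the `ULift ℤ`-algebra structure on any ring of the same universe -/
noncomputable def ulAlg (R : Type u) [CommRing R] : Algebra (ULift.{u} ℤ) R :=
  ((Int.castRingHom R).comp (ULift.ringEquiv : ULift.{u} ℤ ≃+* ℤ).toRingHom).toAlgebra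

theorem ringHom_ulift_apply {R : Type*} [Ring R] (φ : ULift.{u} ℤ →+* R) (x : ULift.{u} ℤ) :
    φ x = (x.down : R) := by
  have hx : x = ((x.down : ℤ) : ULift.{u} ℤ) := by
    apply ULift.ext
    simp
  conv_lhs => rw [hx]
  rw [map_intCast]

/-- any ring hom between `ULift ℤ`-algebras is an algebra hom -/
def toULAlgHom {X Y : Type*} [Ring X] [Ring Y] [Algebra (ULift.{u} ℤ) X]
    [Algebra (ULift.{u} ℤ) Y] (f : X →+* Y) : X →ₐ[ULift.{u} ℤ] Y :=
  { f with
    commutes' := fun x => by
      show f (algebraMap _ X x) = algebraMap _ Y x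
      rw [ringHom_ulift_apply (algebraMap _ X) x, ringHom_ulift_apply (algebraMap _ Y) x,
        map_intCast] }

@[simp]
theorem toULAlgHom_apply {X Y : Type*} [Ring X] [Ring Y] [Algebra (ULift.{u} ℤ) X]
    [Algebra (ULift.{u} ℤ) Y] (f : X →+* Y) (x : X) : toULAlgHom f x = f x := rfl

end ULiftInt

section Lift

variable {W : Type u} [CommRing W] [IsLocalRing W]

/-- residue characteristic of a Cohen DVR is the prime spanning the maximal ideal; the ring
has characteristic zero -/
theorem cohen_facts [IsDomain W] [IsDiscreteValuationRing W] (q : ℕ) (hq : q.Prime)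
    (hmax : maximalIdeal W = Ideal.span {(q : W)}) (p : ℕ) [CharP (ResidueField W) p] :
    p = q ∧ CharZero W := by
  have hqK : (q : ResidueField W) = 0 := by
    have : (q : W) ∈ maximalIdeal W := by
      rw [hmax]
      exact Ideal.subset_span rfl
    rw [← map_natCast (residue W)]
    exact (residue_eq_zero_iff _).2 this
  have hpq : p = q := by
    have h1 : p ∣ q := (CharP.cast_eq_zero_iff (ResidueField W) p q).1 hqK
    rcases (Nat.dvd_prime hq).1 h1 with h | h
    · exact absurd h (CharP.char_ne_one (ResidueField W) p)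
    · exact h
  refine ⟨hpq, ?_⟩
  obtain ⟨c, hc⟩ := CharP.exists W
  rcases CharP.char_is_prime_or_zero W c with h | h
  · exfalso
    have hcK : (c : ResidueField W) = 0 := by
      rw [← map_natCast (residue W), CharP.cast_eq_zero W c, map_zero]
    have h1 : p ∣ c := (CharP.cast_eq_zero_iff (ResidueField W) p c).1 hcK
    have h2 : p = c := by
      rcases (Nat.dvd_prime h).1 h1 with h' | h'
      · exact absurd h' (CharP.char_ne_one (ResidueField W) p)
      · exact h'
    have h3 : (q : W) = 0 := by
      rw [← hpq, h2]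
      exact CharP.cast_eq_zero W c
    apply IsDiscreteValuationRing.not_a_field W
    rw [hmax, h3]
    simp
  · subst h
    exact CharP.charP_to_charZero W

/-- **Key lifting property of Cohen rings** (ring hom form). -/
theorem exists_lift_ringHom (hW : IsCohenRingEGA W) (p : ℕ) [CharP (ResidueField W) p]
    (C : Type u) [CommRing C] (J : Ideal C) (hJ : IsNilpotent J) (k : ℕ)
    (hk : (p : C) ^ k = 0) (u : W →+* C ⧸ J) :
    ∃ v : W →+* C, (Ideal.Quotient.mk J).comp v = u := by
  classical
  rcases hW with ⟨hfield, hchar⟩ | ⟨hdom, hdvr, hcomp, q, hq, hmax⟩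
  · -- field of characteristic zero
    letI := hfield.toField
    haveI := hchar
    haveI : Algebra.FormallySmooth ℤ ℚ := by
      haveI : Algebra.FormallyEtale ℤ ℚ :=
        Algebra.FormallyEtale.of_isLocalization (nonZeroDivisors ℤ)
      infer_instance
    haveI : Algebra.FormallySmooth ℚ W := formallySmooth_of_charZero' ℚ W
    haveI : Algebra.FormallySmooth ℤ W := Algebra.FormallySmooth.comp ℤ ℚ W
    obtain ⟨f, hf⟩ := Algebra.FormallySmooth.exists_lift J hJ u.toIntAlgHom
    exact ⟨f, RingHom.ext fun x => AlgHom.congr_fun hf x⟩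
  · haveI := hdom
    haveI := hdvr
    obtain ⟨hpq, hcz⟩ := cohen_facts q hq hmax p
    subst hpq
    haveI : Fact p.Prime := ⟨hq⟩
    haveI := hcz
    haveI : Module.Flat ℤ W := inferInstance
    let qA : ℤ →+* ULift.{u} (ZMod p) :=
      (ULift.ringEquiv : ULift.{u} (ZMod p) ≃+* ZMod p).symm.toRingHom.comp
        (Int.castRingHom (ZMod p))
    have surjA : Function.Surjective qA :=
      (ULift.ringEquiv : ULift.{u} (ZMod p) ≃+* ZMod p).symm.surjective.comp
        (ZMod.intCast_surjective)
    have hkA : RingHom.ker qA = Ideal.span {(p : ℤ)} := by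
      rw [← ZMod.ker_intCastRingHom p]
      ext x
      rw [RingHom.mem_ker, RingHom.mem_ker]
      show (ULift.ringEquiv : ULift.{u} (ZMod p) ≃+* ZMod p).symm (Int.castRingHom (ZMod p) x) = 0 ↔ _
      rw [map_eq_zero_iff _ (ULift.ringEquiv : ULift.{u} (ZMod p) ≃+* ZMod p).symm.injective]
    letI : Algebra (ULift.{u} (ZMod p)) (ResidueField W) :=
      ((ZMod.castHom (dvd_refl p) (ResidueField W)).comp
        (ULift.ringEquiv : ULift.{u} (ZMod p) ≃+* ZMod p).toRingHom).toAlgebra
    have comm : (residue W).comp (algebraMap ℤ W) =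
        (algebraMap (ULift.{u} (ZMod p)) (ResidueField W)).comp qA := RingHom.ext_int _ _
    have hkB : RingHom.ker (residue W) = (Ideal.span {(p : ℤ)}).map (algebraMap ℤ W) := by
      rw [ker_residue, hmax, Ideal.map_span, Set.image_singleton]
      simp
    haveI : Algebra.IsGeometricallyReduced (ULift.{u} (ZMod p)) (ResidueField W) :=
      isGeometricallyReduced_of_perfect p _ _
    have smoothq : (algebraMap (ULift.{u} (ZMod p)) (ResidueField W)).FormallySmooth := by
      rw [RingHom.formallySmooth_algebraMap]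
      exact Groth.Agent.Lib.SepSmoothH3.formallySmooth_of_isGeometricallyReduced _ _
    haveI := Groth.Agent.Lib.FSNilpH3.formallySmooth_quot_pow (A := ℤ) (B := W)
      (Ideal.span {(p : ℤ)}) qA (residue W) (algebraMap (ULift.{u} (ZMod p)) (ResidueField W))
      surjA residue_surjective comm hkA hkB smoothq k
    have hn : ((Ideal.span {(p : ℤ)}) ^ k).map (algebraMap ℤ C) = ⊥ := by
      rw [Ideal.span_singleton_pow, Ideal.map_span, Set.image_singleton]
      simp [hk]
    obtain ⟨f, hf⟩ := Groth.Agent.Lib.FSNilpH3.exists_lift_of_formallySmooth_quot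
      (A := ℤ) (B := W) (Ideal.span {(p : ℤ)}) k C J hJ hn u.toIntAlgHom
    exact ⟨f, RingHom.ext fun x => AlgHom.congr_fun hf x⟩

/-- Cohen rings are formally smooth over `ℤ` for the `p`-adic topologies. -/
theorem cohen_isFormallySmoothAdic (hW : IsCohenRingEGA W) (p : ℕ) [CharP (ResidueField W) p]
    (𝔟 : Ideal W) :
    letI := ulAlg W
    IsFormallySmoothAdic (ULift.{u} ℤ) (Ideal.span {(p : ULift.{u} ℤ)}) W 𝔟 := by
  letI := ulAlg W
  intro C _ _ J hJ ⟨k, hk⟩ u _
  have hk' : (p : C) ^ k = 0 := by
    have hp0 : (p : ULift.{u} ℤ) ∈ Ideal.span {(p : ULift.{u} ℤ)} :=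
      Ideal.subset_span (Set.mem_singleton _)
    have hp1 : (p : ULift.{u} ℤ) ^ k ∈ (Ideal.span {(p : ULift.{u} ℤ)}) ^ k :=
      Ideal.pow_mem_pow hp0 k
    have h1 : algebraMap (ULift.{u} ℤ) C ((p : ULift.{u} ℤ) ^ k) ∈
        ((Ideal.span {(p : ULift.{u} ℤ)}) ^ k).map (algebraMap (ULift.{u} ℤ) C) :=
      Ideal.mem_map_of_mem _ hp1
    rw [hk] at h1
    have h2 : algebraMap (ULift.{u} ℤ) C ((p : ULift.{u} ℤ) ^ k) = 0 := h1
    rwa [map_pow, map_natCast] at h2
  obtain ⟨v, hv⟩ := exists_lift_ringHom hW p C J hJ k hk' u.toRingHom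
  refine ⟨toULAlgHom v, AlgHom.ext fun x => ?_⟩
  exact RingHom.congr_fun hv x

end Lift

end Groth.Agent.Lib.CohenLiftH3
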