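import Mathlib

/-!
Helper library (helper1): the Jacobian criterion for a quotient of a smooth local algebra in
terms of generators with linearly independent differentials.  APPEND-ONLY once landed.
-/

set_option autoImplicit false

namespace Groth.Agent.Lib.JacCritH1

open TensorProduct IsLocalRing KaehlerDifferential

universe u

section LinAlg

/-- A linear map sending a spanning family to a linearly independent family is injective. -/
theorem injective_of_span_of_li {K V W : Type*} [Field K] [AddCommGroup V] [Module K V]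
    [AddCommGroup W] [Module K W] {ι : Type*} [Fintype ι] (c : V →ₗ[K] W) (w : ι → V)
    (hw : Submodule.span K (Set.range w) = ⊤) (hli : LinearIndependent K (fun i => c (w i))) :
    Function.Injective c := by
  rw [injective_iff_map_eq_zero]
  intro x hx
  have hx' : x ∈ Submodule.span K (Set.range w) := by rw [hw]; trivial
  obtain ⟨a, rfl⟩ := (Submodule.mem_span_range_iff_exists_fun K).mp hx'
  rw [map_sum] at hx
  have h0 : ∀ i, a i = 0 := by
    apply Fintype.linearIndependent_iff.mp hli
    rw [← hx]
    refine Finset.sum_congr rfl fun i _ => ?_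
    rw [map_smul]
  refine Finset.sum_eq_zero fun i _ => ?_
  rw [h0 i, zero_smul]

theorem span_one_tmul_eq_top {P : Type*} [CommRing P] [IsLocalRing P] {M : Type*}
    [AddCommGroup M] [Module P M] {ι : Type*} (a : ι → M)
    (ha : Submodule.span P (Set.range a) = ⊤) :
    Submodule.span (ResidueField P)
      (Set.range fun i => (1 : ResidueField P) ⊗ₜ[P] a i) = ⊤ := by
  have key : ∀ x : M, (1 : ResidueField P) ⊗ₜ[P] x ∈
      Submodule.span (ResidueField P) (Set.range fun i => (1 : ResidueField P) ⊗ₜ[P] a i) := by
    intro x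
    have hx : x ∈ Submodule.span P (Set.range a) := by rw [ha]; trivial
    induction hx using Submodule.span_induction with
    | mem y hy =>
      obtain ⟨i, rfl⟩ := hy
      exact Submodule.subset_span ⟨i, rfl⟩
    | zero =>
      rw [tmul_zero]
      exact Submodule.zero_mem _
    | add y z _ _ hy hz =>
      rw [tmul_add]
      exact Submodule.add_mem _ hy hz
    | smul p y _ hy =>
      have h1 : (1 : ResidueField P) ⊗ₜ[P] (p • y) =
          (residue P p) • ((1 : ResidueField P) ⊗ₜ[P] y) := by
        rw [← smul_tmul, smul_tmul', smul_eq_mul, mul_one, Algebra.smul_def, mul_one]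
        rfl
      rw [h1]
      exact Submodule.smul_mem _ _ hy
  rw [eq_top_iff]
  rintro z -
  induction z using TensorProduct.induction_on with
  | zero => exact Submodule.zero_mem _
  | tmul k x =>
    have h1 : k ⊗ₜ[P] x = k • ((1 : ResidueField P) ⊗ₜ[P] x) := by
      rw [smul_tmul', smul_eq_mul, mul_one]
    rw [h1]
    exact Submodule.smul_mem _ _ (key x)
  | add z1 z2 h1 h2 => exact Submodule.add_mem _ h1 h2

/-- Finite sets versus finite families, for linear independence statements. -/
theorem exists_finset_iff_exists_fin {A V K : Type*} [Field K] [AddCommGroup V] [Module K V]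
    (F : A → V) (Q₁ Q₂ : Set A → Prop) :
    (∃ s : Finset A, Q₁ ↑s ∧ Q₂ ↑s ∧ LinearIndependent K (fun g : ↥s => F g)) ↔
      ∃ (n : ℕ) (a : Fin n → A), Q₁ (Set.range a) ∧ Q₂ (Set.range a) ∧
        LinearIndependent K (fun i => F (a i)) := by
  classical
  constructor
  · rintro ⟨s, h1, h2, hli⟩
    let e : ↥s ≃ Fin s.card := s.equivFin
    have hr : Set.range (fun j : Fin s.card => ((e.symm j : ↥s) : A)) = ↑s := by
      ext x
      constructor
      · rintro ⟨j, rfl⟩
        exact (e.symm j).2
      · intro hx
        refine ⟨e ⟨x, hx⟩, ?_⟩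
        show ((e.symm (e ⟨x, hx⟩) : ↥s) : A) = x
        rw [Equiv.symm_apply_apply]
    refine ⟨s.card, fun j => ((e.symm j : ↥s) : A), ?_, ?_, ?_⟩
    · rw [hr]; exact h1
    · rw [hr]; exact h2
    · exact hli.comp e.symm e.symm.injective
  · rintro ⟨n, a, h1, h2, hli⟩
    have hinj : Function.Injective a := by
      intro i j hij
      apply hli.injective
      show F (a i) = F (a j)
      rw [hij]
    have hr : (↑(Finset.univ.image a) : Set A) = Set.range a := by
      rw [Finset.coe_image, Finset.coe_univ, Set.image_univ]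
    let e : Fin n ≃ ↥(Finset.univ.image a) :=
      Equiv.ofBijective (fun i => ⟨a i, Finset.mem_image_of_mem a (Finset.mem_univ i)⟩)
        ⟨fun i j h => hinj (Subtype.ext_iff.mp h), fun ⟨x, hx⟩ => by
          obtain ⟨i, _, rfl⟩ := Finset.mem_image.mp hx
          exact ⟨i, rfl⟩⟩
    refine ⟨Finset.univ.image a, ?_, ?_, ?_⟩
    · rw [hr]; exact h1
    · rw [hr]; exact h2
    · exact (linearIndependent_equiv e
        (f := fun g : ↥(Finset.univ.image a) => F g)).mp hli

end LinAlg

section JC

variable {R P S : Type u} [CommRing R] [CommRing P] [CommRing S] [IsLocalRing P] [IsLocalRing S]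
  [Algebra R P] [Algebra P S] [Algebra R S] [IsScalarTower R P S]

theorem ker_le_maximalIdeal : RingHom.ker (algebraMap P S) ≤ maximalIdeal P :=
  IsLocalRing.le_maximalIdeal (RingHom.ker_ne_top _)

variable (h₁ : Function.Surjective (algebraMap P S))

/-- `S → κ(P)`. -/
noncomputable def toK : S →+* ResidueField P :=
  RingHom.liftOfSurjective (algebraMap P S) h₁
    ⟨IsLocalRing.residue P, by
      rw [IsLocalRing.ker_residue]
      exact ker_le_maximalIdeal⟩

theorem toK_algebraMap (x : P) : toK h₁ (algebraMap P S x) = IsLocalRing.residue P x :=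
  RingHom.liftOfRightInverse_comp_apply _ _ _ _ x

theorem maximalIdeal_le_ker_toK : maximalIdeal S ≤ RingHom.ker (toK h₁) := by
  intro y hy
  obtain ⟨x, rfl⟩ := h₁ y
  rw [RingHom.mem_ker, toK_algebraMap, IsLocalRing.residue_eq_zero_iff]
  rw [IsLocalRing.mem_maximalIdeal, mem_nonunits_iff] at hy ⊢
  intro hu
  exact hy (hu.map _)

include h₁ in
/-- Jacobian criterion in generator form. -/
theorem jc [Algebra.FormallySmooth R P] [Module.Free P Ω[P⁄R]] [Module.Finite P Ω[P⁄R]]
    (h₂ : (RingHom.ker (algebraMap P S)).FG) :
    Algebra.FormallySmooth R S ↔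
      ∃ (n : ℕ) (g : Fin n → P), (∀ i, g i ∈ RingHom.ker (algebraMap P S)) ∧
        RingHom.ker (algebraMap P S) = Ideal.span (Set.range g) ∧
        LinearIndependent (ResidueField P)
          (fun i => (1 : ResidueField P) ⊗ₜ[P] D R P (g i)) := by
  letI : Algebra S (ResidueField P) := (toK h₁).toAlgebra
  haveI : IsScalarTower P S (ResidueField P) :=
    IsScalarTower.of_algebraMap_eq (fun x => (toK_algebraMap h₁ x).symm)
  have h₃ : maximalIdeal S ≤ RingHom.ker (algebraMap S (ResidueField P)) :=
    maximalIdeal_le_ker_toK h₁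
  rw [Algebra.FormallySmooth.iff_injective_cotangentComplexBaseChange (R := R) (S := S) P
    (ResidueField P) h₁ h₂ h₃]
  have hA : ∀ x : RingHom.ker (algebraMap P S),
      cotangentComplexBaseChange R S P (ResidueField P) ((1 : ResidueField P) ⊗ₜ[P] x) =
        (1 : ResidueField P) ⊗ₜ[P] D R P (x : P) := by
    intro x
    rw [cotangentComplexBaseChange_tmul, one_smul, kerToTensor_apply]
  haveI : Module.Finite P (RingHom.ker (algebraMap P S)) := Module.Finite.iff_fg.mpr h₂
  constructor
  · intro hinj
    obtain ⟨κ, a, -, hsp, hli⟩ := exists_linearIndependent' (ResidueField P)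
      (fun x : RingHom.ker (algebraMap P S) => (1 : ResidueField P) ⊗ₜ[P] x)
    have htop : Submodule.span (ResidueField P) (Set.range
        ((fun x : RingHom.ker (algebraMap P S) => (1 : ResidueField P) ⊗ₜ[P] x) ∘ a)) = ⊤ := by
      rw [hsp]
      exact span_one_tmul_eq_top (fun x : RingHom.ker (algebraMap P S) => x)
        (by rw [Set.range_id']; exact Submodule.span_univ)
    let b : Module.Basis κ (ResidueField P) (ResidueField P ⊗[P] RingHom.ker (algebraMap P S)) :=
      Module.Basis.mk hli (by rw [htop])
    haveI : Finite κ := Module.Finite.finite_basis b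
    have hgen : Submodule.span P (Set.range a) = ⊤ :=
      IsLocalRing.span_eq_top_of_tmul_eq_basis a b
        (fun i => (Module.Basis.mk_apply hli _ i).symm)
    let e : κ ≃ Fin (Nat.card κ) := Finite.equivFin κ
    refine ⟨Nat.card κ, fun j => ((a (e.symm j) : RingHom.ker (algebraMap P S)) : P),
      fun j => (a (e.symm j)).2, ?_, ?_⟩
    · apply le_antisymm
      · intro x hx
        have h1 : (⟨x, hx⟩ : RingHom.ker (algebraMap P S)) ∈ Submodule.span P (Set.range a) := by
          rw [hgen]; trivial
        have h2 := Submodule.apply_mem_span_image_of_mem_span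
          (Submodule.subtype (RingHom.ker (algebraMap P S))) h1
        refine Submodule.span_mono ?_ h2
        rintro _ ⟨_, ⟨i, rfl⟩, rfl⟩
        refine ⟨e i, ?_⟩
        show ((a (e.symm (e i)) : RingHom.ker (algebraMap P S)) : P) = _
        rw [Equiv.symm_apply_apply]
        rfl
      · rw [Ideal.span_le]
        rintro _ ⟨j, rfl⟩
        exact (a (e.symm j)).2
    · have h1 := hli.map' (cotangentComplexBaseChange R S P (ResidueField P))
        (LinearMap.ker_eq_bot.mpr hinj)
      have h2 := h1.comp e.symm e.symm.injective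
      have h3 : ((cotangentComplexBaseChange R S P (ResidueField P)) ∘
          ((fun x : RingHom.ker (algebraMap P S) => (1 : ResidueField P) ⊗ₜ[P] x) ∘ a)) ∘ e.symm =
          fun j => (1 : ResidueField P) ⊗ₜ[P]
            D R P ((a (e.symm j) : RingHom.ker (algebraMap P S)) : P) := by
        funext j
        exact hA _
      rw [h3] at h2
      exact h2
  · rintro ⟨n, g, hg, hspan, hli⟩
    have hgen : Submodule.span P (Set.range fun i =>
        (⟨g i, hg i⟩ : RingHom.ker (algebraMap P S))) = ⊤ := by
      rw [eq_top_iff]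
      rintro ⟨x, hx⟩ -
      have hx' : x ∈ Ideal.span (Set.range g) := hspan ▸ hx
      obtain ⟨p, hp⟩ := (Submodule.mem_span_range_iff_exists_fun P).mp hx'
      have h1 : (⟨x, hx⟩ : RingHom.ker (algebraMap P S)) =
          ∑ i, p i • (⟨g i, hg i⟩ : RingHom.ker (algebraMap P S)) := by
        apply Subtype.ext
        show x = ((∑ i, p i • (⟨g i, hg i⟩ : RingHom.ker (algebraMap P S)) :
          RingHom.ker (algebraMap P S)) : P)
        rw [Submodule.coe_sum]
        exact hp.symm
      rw [h1]
      exact Submodule.sum_mem _ fun i _ => Submodule.smul_mem _ _ (Submodule.subset_span ⟨i, rfl⟩)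
    apply injective_of_span_of_li (cotangentComplexBaseChange R S P (ResidueField P))
      (fun i => (1 : ResidueField P) ⊗ₜ[P] (⟨g i, hg i⟩ : RingHom.ker (algebraMap P S)))
      (span_one_tmul_eq_top _ hgen)
    have h3 : (fun i => cotangentComplexBaseChange R S P (ResidueField P)
        ((1 : ResidueField P) ⊗ₜ[P] (⟨g i, hg i⟩ : RingHom.ker (algebraMap P S)))) =
        fun i => (1 : ResidueField P) ⊗ₜ[P] D R P (g i) := by
      funext i
      exact hA _
    rw [h3]
    exact hli

end JC

section Phi

variable (R : Type u) {A : Type u} [CommRing R] [CommRing A] [Algebra R A] (q : Ideal A)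
  [q.IsPrime]

/-- `κ(q) ⊗_A Ω_{A/R} ≃ κ(q) ⊗_{A_q} Ω_{A_q/R}`. -/
noncomputable def Phi :
    q.ResidueField ⊗[A] Ω[A⁄R] ≃ₗ[q.ResidueField]
      q.ResidueField ⊗[Localization.AtPrime q] Ω[Localization.AtPrime q⁄R] :=
  haveI : Algebra.FormallyEtale A (Localization.AtPrime q) :=
    Algebra.FormallyEtale.of_isLocalization q.primeCompl
  (AlgebraTensorModule.cancelBaseChange A (Localization.AtPrime q) q.ResidueField q.ResidueField
    Ω[A⁄R]).symm ≪≫ₗ
  AlgebraTensorModule.congr (LinearEquiv.refl q.ResidueField q.ResidueField)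
    (tensorKaehlerEquivOfFormallyEtale R A (Localization.AtPrime q))

theorem Phi_one_tmul_D (a : A) :
    Phi R q ((1 : q.ResidueField) ⊗ₜ[A] D R A a) =
      (1 : q.ResidueField) ⊗ₜ[Localization.AtPrime q]
        D R (Localization.AtPrime q) (algebraMap A (Localization.AtPrime q) a) := by
  unfold Phi
  rw [LinearEquiv.trans_apply, AlgebraTensorModule.cancelBaseChange_symm_tmul,
    AlgebraTensorModule.congr_tmul, LinearEquiv.refl_apply, tensorKaehlerEquivOfFormallyEtale_apply,
    mapBaseChange_tmul, one_smul, map_D]

end Phi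

section Glue

variable {R A : Type u} [CommRing R] [CommRing A] [Algebra R A] (I : Ideal A)
  (P : Ideal (A ⧸ I)) [P.IsPrime]

/-- The prime of `A` below `P`. -/
abbrev qOf : Ideal A := P.comap (Ideal.Quotient.mk I)

/-- The local ring hom `A_q → (A/I)_P`. -/
noncomputable abbrev locHom : Localization.AtPrime (qOf I P) →+* Localization.AtPrime P :=
  Localization.localRingHom (qOf I P) P (Ideal.Quotient.mk I) rfl

theorem locHom_surjective : Function.Surjective (locHom I P) :=
  RingHom.surjective_localRingHom_of_surjective (Ideal.Quotient.mk I)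
    Ideal.Quotient.mk_surjective P

theorem ker_locHom : RingHom.ker (locHom I P) =
    I.map (algebraMap A (Localization.AtPrime (qOf I P))) := by
  apply le_antisymm
  · intro y hy
    obtain ⟨x, s, rfl⟩ := IsLocalization.mk'_surjective (qOf I P).primeCompl y
    rw [RingHom.mem_ker, Localization.localRingHom_mk', IsLocalization.mk'_eq_zero_iff] at hy
    obtain ⟨m, hm⟩ := hy
    obtain ⟨t, ht⟩ := Ideal.Quotient.mk_surjective (m : A ⧸ I)
    rw [IsLocalization.mk'_mem_map_algebraMap_iff]
    refine ⟨t, ?_, ?_⟩
    · show t ∉ P.comap (Ideal.Quotient.mk I)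
      rw [Ideal.mem_comap, ht]
      exact m.2
    · rw [← Ideal.Quotient.eq_zero_iff_mem, map_mul, ht]
      exact hm
  · rw [Ideal.map_le_iff_le_comap]
    intro x hx
    rw [Ideal.mem_comap, RingHom.mem_ker, Localization.localRingHom_to_map,
      Ideal.Quotient.eq_zero_iff_mem.mpr hx, map_zero]

theorem glue' [Algebra.FormallySmooth R (Localization.AtPrime (qOf I P))]
    [IsNoetherianRing (Localization.AtPrime (qOf I P))]
    [Module.Finite (Localization.AtPrime (qOf I P)) Ω[Localization.AtPrime (qOf I P)⁄R]] :
    Algebra.IsSmoothAt R P ↔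
      ∃ (n : ℕ) (a : Fin n → A), (∀ i, a i ∈ I) ∧
        I.map (algebraMap A (Localization.AtPrime (qOf I P))) =
          Ideal.span (Set.range fun i => algebraMap A (Localization.AtPrime (qOf I P)) (a i)) ∧
        LinearIndependent (qOf I P).ResidueField
          (fun i => (1 : (qOf I P).ResidueField) ⊗ₜ[A] D R A (a i)) := by
  letI : Algebra (Localization.AtPrime (qOf I P)) (Localization.AtPrime P) :=
    (locHom I P).toAlgebra
  haveI : IsScalarTower R (Localization.AtPrime (qOf I P)) (Localization.AtPrime P) :=
    IsScalarTower.of_algebraMap_eq (fun r => by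
      show algebraMap R (Localization.AtPrime P) r = locHom I P (algebraMap R _ r)
      rw [IsScalarTower.algebraMap_apply R A (Localization.AtPrime (qOf I P)),
        Localization.localRingHom_to_map,
        IsScalarTower.algebraMap_apply R (A ⧸ I) (Localization.AtPrime P)]
      rfl)
  haveI : Module.Free (Localization.AtPrime (qOf I P)) Ω[Localization.AtPrime (qOf I P)⁄R] :=
    Module.free_of_flat_of_isLocalRing
  have h₁ : Function.Surjective
      (algebraMap (Localization.AtPrime (qOf I P)) (Localization.AtPrime P)) :=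
    locHom_surjective I P
  have hker : RingHom.ker (algebraMap (Localization.AtPrime (qOf I P)) (Localization.AtPrime P)) =
      I.map (algebraMap A (Localization.AtPrime (qOf I P))) := ker_locHom I P
  have h₂ : (RingHom.ker
      (algebraMap (Localization.AtPrime (qOf I P)) (Localization.AtPrime P))).FG :=
    IsNoetherian.noetherian _
  refine (jc (R := R) h₁ h₂).trans ?_
  rw [hker]
  constructor
  · rintro ⟨n, g, hg, hspan, hli⟩
    choose x hx using fun i =>
      (IsLocalization.mem_map_algebraMap_iff (qOf I P).primeCompl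
        (Localization.AtPrime (qOf I P))).mp (hg i)
    have hu : ∀ i, IsUnit (algebraMap A (Localization.AtPrime (qOf I P)) ((x i).2 : A)) :=
      fun i => IsLocalization.map_units _ (x i).2
    refine ⟨n, fun i => ((x i).1 : A), fun i => (x i).1.2, ?_, ?_⟩
    · rw [hspan]
      apply le_antisymm
      · rw [Ideal.span_le]
        rintro _ ⟨i, rfl⟩
        apply (Ideal.mul_unit_mem_iff_mem _ (hu i)).mp
        rw [hx i]
        exact Ideal.subset_span ⟨i, rfl⟩
      · rw [Ideal.span_le]
        rintro _ ⟨i, rfl⟩
        show algebraMap A (Localization.AtPrime (qOf I P)) ((x i).1 : A) ∈ _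
        rw [← hx i]
        exact Ideal.mul_mem_right _ _ (Ideal.subset_span ⟨i, rfl⟩)
    · have hres : ∀ i, algebraMap (Localization.AtPrime (qOf I P)) (qOf I P).ResidueField
          (g i) = 0 := by
        intro i
        have h1 : g i ∈ maximalIdeal (Localization.AtPrime (qOf I P)) :=
          ker_le_maximalIdeal (S := Localization.AtPrime P) (hker ▸ hg i)
        exact (IsLocalRing.residue_eq_zero_iff _).mpr h1
      let u : Fin n → ((qOf I P).ResidueField)ˣ := fun i =>
        ((hu i).map (algebraMap (Localization.AtPrime (qOf I P)) (qOf I P).ResidueField)).unit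
      have hΦ : (⇑(Phi R (qOf I P)).toLinearMap ∘ fun i =>
          (1 : (qOf I P).ResidueField) ⊗ₜ[A] D R A ((x i).1 : A)) =
          u • fun i => (1 : (qOf I P).ResidueField) ⊗ₜ[Localization.AtPrime (qOf I P)]
            D R (Localization.AtPrime (qOf I P)) (g i) := by
        funext i
        rw [Function.comp_apply, LinearEquiv.coe_coe, Phi_one_tmul_D, ← hx i, Derivation.leibniz,
          tmul_add, tmul_smul, tmul_smul, smul_tmul', smul_tmul', Algebra.smul_def,
          Algebra.smul_def, hres i, zero_mul, zero_tmul, zero_add, mul_one, Pi.smul_apply',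
          Units.smul_def, smul_tmul', smul_eq_mul, mul_one]
        rfl
      apply LinearIndependent.of_comp (Phi R (qOf I P)).toLinearMap
      rw [hΦ]
      exact hli.units_smul u
  · rintro ⟨n, a, ha, hspan, hli⟩
    refine ⟨n, fun i => algebraMap A (Localization.AtPrime (qOf I P)) (a i),
      fun i => Ideal.mem_map_of_mem _ (ha i), hspan, ?_⟩
    have h1 := hli.map' (Phi R (qOf I P)).toLinearMap (LinearEquiv.ker _)
    have h2 : (⇑(Phi R (qOf I P)).toLinearMap ∘ fun i =>
        (1 : (qOf I P).ResidueField) ⊗ₜ[A] D R A (a i)) =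
        fun i => (1 : (qOf I P).ResidueField) ⊗ₜ[Localization.AtPrime (qOf I P)]
          D R (Localization.AtPrime (qOf I P))
            (algebraMap A (Localization.AtPrime (qOf I P)) (a i)) := by
      funext i
      rw [Function.comp_apply, LinearEquiv.coe_coe, Phi_one_tmul_D]
    rw [h2] at h1
    exact h1

theorem glue [Algebra.FormallySmooth R (Localization.AtPrime (qOf I P))]
    [IsNoetherianRing (Localization.AtPrime (qOf I P))]
    [Module.Finite (Localization.AtPrime (qOf I P)) Ω[Localization.AtPrime (qOf I P)⁄R]] :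
    Algebra.IsSmoothAt R P ↔ ∃ s : Finset A, (↑s : Set A) ⊆ (I : Set A) ∧
      Ideal.map (algebraMap A (Localization.AtPrime (qOf I P))) I =
        Ideal.span ((algebraMap A (Localization.AtPrime (qOf I P))) '' (↑s : Set A)) ∧
      LinearIndependent (qOf I P).ResidueField
        (fun g : ↥s => (1 : (qOf I P).ResidueField) ⊗ₜ[A] KaehlerDifferential.D R A (g : A)) := by
  refine (glue' I P).trans ?_
  refine Iff.trans ?_ (exists_finset_iff_exists_fin (K := (qOf I P).ResidueField)
    (fun x : A => (1 : (qOf I P).ResidueField) ⊗ₜ[A] D R A x)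
    (fun T => T ⊆ (I : Set A))
    (fun T => Ideal.map (algebraMap A (Localization.AtPrime (qOf I P))) I =
      Ideal.span ((algebraMap A (Localization.AtPrime (qOf I P))) '' T))).symm
  refine exists_congr fun n => exists_congr fun a => ?_
  rw [Set.range_subset_iff, ← Set.range_comp]
  rfl

end Glue

section Final

theorem main5998 (R A : Type u) [CommRing R] [CommRing A] [IsNoetherianRing R] [Algebra R A]
    [Algebra.Smooth R A] (I : Ideal A) (P : Ideal (A ⧸ I)) [P.IsPrime] :
    letI q : Ideal A := P.comap (Ideal.Quotient.mk I)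
    Algebra.IsSmoothAt R P ↔ ∃ s : Finset A, (↑s : Set A) ⊆ (I : Set A) ∧
      Ideal.map (algebraMap A (Localization.AtPrime q)) I =
        Ideal.span ((algebraMap A (Localization.AtPrime q)) '' (↑s : Set A)) ∧
      LinearIndependent q.ResidueField
        (fun g : ↥s => (1 : q.ResidueField) ⊗ₜ[A] KaehlerDifferential.D R A (g : A)) := by
  haveI : Algebra.FormallySmooth A (Localization.AtPrime (qOf I P)) :=
    Algebra.FormallySmooth.of_isLocalization (qOf I P).primeCompl
  haveI : Algebra.FormallySmooth R (Localization.AtPrime (qOf I P)) :=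
    Algebra.FormallySmooth.comp R A _
  haveI : IsNoetherianRing A := Algebra.FiniteType.isNoetherianRing R A
  haveI : IsNoetherianRing (Localization.AtPrime (qOf I P)) :=
    IsLocalization.isNoetherianRing (qOf I P).primeCompl _ inferInstance
  exact glue I P

theorem main5999 (R A : Type u) [CommRing R] [CommRing A] [IsNoetherianRing R] [Algebra R A]
    [Algebra.FiniteType R A]
    (F : A) (P : Ideal (A ⧸ Ideal.span ({F} : Set A))) [P.IsPrime]
    (hX : Algebra.IsSmoothAt R (P.comap (Ideal.Quotient.mk (Ideal.span ({F} : Set A))))) :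
    letI q : Ideal A := P.comap (Ideal.Quotient.mk (Ideal.span ({F} : Set A)))
    Algebra.IsSmoothAt R P ↔ algebraMap A (Localization.AtPrime q) F = 0 ∨
      (1 : q.ResidueField) ⊗ₜ[A] KaehlerDifferential.D R A F ≠ 0 := by
  haveI : Algebra.FormallySmooth R (Localization.AtPrime (qOf (Ideal.span ({F} : Set A)) P)) := hX
  haveI : IsNoetherianRing A := Algebra.FiniteType.isNoetherianRing R A
  haveI : IsNoetherianRing (Localization.AtPrime (qOf (Ideal.span ({F} : Set A)) P)) :=
    IsLocalization.isNoetherianRing (qOf (Ideal.span ({F} : Set A)) P).primeCompl _ inferInstance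
  refine (glue' (Ideal.span ({F} : Set A)) P).trans ?_
  have hFq : algebraMap A (qOf (Ideal.span ({F} : Set A)) P).ResidueField F = 0 := by
    rw [Ideal.algebraMap_residueField_eq_zero, Ideal.mem_comap,
      Ideal.Quotient.eq_zero_iff_mem.mpr (Ideal.mem_span_singleton_self F)]
    exact Ideal.zero_mem _
  have hmul : ∀ c : A, (1 : (qOf (Ideal.span ({F} : Set A)) P).ResidueField) ⊗ₜ[A]
      D R A (c * F) = algebraMap A (qOf (Ideal.span ({F} : Set A)) P).ResidueField c •
        ((1 : (qOf (Ideal.span ({F} : Set A)) P).ResidueField) ⊗ₜ[A] D R A F) := by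
    intro c
    rw [Derivation.leibniz, tmul_add, tmul_smul, tmul_smul, smul_tmul' F, Algebra.smul_def F,
      hFq, zero_mul, zero_tmul, add_zero, algebraMap_smul]
  constructor
  · rintro ⟨n, a, ha, hspan, hli⟩
    by_cases hF0 : algebraMap A
        (Localization.AtPrime (qOf (Ideal.span ({F} : Set A)) P)) F = 0
    · exact Or.inl hF0
    · right
      rcases Nat.eq_zero_or_pos n with rfl | hn
      · exfalso
        apply hF0
        have h1 : algebraMap A (Localization.AtPrime (qOf (Ideal.span ({F} : Set A)) P)) F ∈
            Ideal.map (algebraMap A _) (Ideal.span ({F} : Set A)) :=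
          Ideal.mem_map_of_mem _ (Ideal.mem_span_singleton_self F)
        rw [hspan, Set.range_eq_empty, Ideal.span_empty] at h1
        exact h1
      · obtain ⟨c, hc⟩ := Ideal.mem_span_singleton'.mp (ha ⟨0, hn⟩)
        intro h0
        apply hli.ne_zero ⟨0, hn⟩
        show (1 : (qOf (Ideal.span ({F} : Set A)) P).ResidueField) ⊗ₜ[A] D R A (a ⟨0, hn⟩) = 0
        rw [← hc, hmul, h0, smul_zero]
  · rintro (h0 | h1)
    · refine ⟨0, Fin.elim0, fun i => i.elim0, ?_, linearIndependent_empty_type⟩
      rw [Set.range_eq_empty, Ideal.span_empty, Ideal.map_span, Set.image_singleton, h0]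
      exact Ideal.span_singleton_eq_bot.mpr rfl
    · refine ⟨1, fun _ => F, fun _ => Ideal.mem_span_singleton_self F, ?_, ?_⟩
      · rw [Ideal.map_span, Set.image_singleton, Set.range_const]
      · exact linearIndependent_unique_iff.mpr h1

end Final

end Groth.Agent.Lib.JacCritH1
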