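import Mathlib
import Groth.Agent.Lib.JacCrit_helper1
import Groth.Prelude.Def_Smoothing

/-!
Helper library (helper1): Jacobian criterion, refined: extraction of a sub-family of relations and
of a non-vanishing Jacobian minor at a smooth point.  APPEND-ONLY once landed.
-/

set_option autoImplicit false

namespace Groth.Agent.Lib.JacCrit2H1

open TensorProduct IsLocalRing KaehlerDifferential Groth.Agent.Lib.JacCritH1

universe u

section Mat

/-- A `c × n` matrix over a field with linearly independent rows has a non-vanishing maximal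
minor. -/
theorem exists_cols_det_ne_zero {K : Type*} [Field K] {c n : ℕ} (M : Matrix (Fin c) (Fin n) K)
    (h : LinearIndependent K M.row) :
    ∃ cols : Fin c ↪ Fin n, (M.submatrix id cols).det ≠ 0 := by
  have hr : M.rank = c := by
    rw [h.rank_matrix, Fintype.card_fin]
  have hspan : Submodule.span K (Set.range M.col) = ⊤ := by
    apply Submodule.eq_top_of_finrank_eq
    rw [← Matrix.rank_eq_finrank_span_cols, hr, Module.finrank_fin_fun]
  obtain ⟨κ, a, ha, hsp, hli⟩ := exists_linearIndependent' K M.col
  let b : Module.Basis κ K (Fin c → K) := Module.Basis.mk hli (by rw [hsp, hspan])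
  haveI : Finite κ := Module.Finite.finite_basis b
  have hcard : Nat.card κ = c := by
    rw [← Module.finrank_eq_nat_card_basis b, Module.finrank_fin_fun]
  let e : Fin c ≃ κ := (finCongr hcard.symm).trans (Finite.equivFin κ).symm
  refine ⟨⟨a ∘ e, ha.comp e.injective⟩, ?_⟩
  have h1 : LinearIndependent K (M.submatrix id (a ∘ e)).col := hli.comp e e.injective
  have h2 := Matrix.linearIndependent_cols_iff_isUnit.mp h1
  have h3 := (Matrix.isUnit_iff_isUnit_det _).mp h2
  exact h3.ne_zero

end Mat

section LocKer

variable {P A : Type u} [CommRing P] [CommRing A] (φ : P →+* A) (hφ : Function.Surjective φ)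
  (q : Ideal A) [q.IsPrime]

include hφ in
theorem ker_localRingHom :
    RingHom.ker (Localization.localRingHom (q.comap φ) q φ rfl) =
      (RingHom.ker φ).map (algebraMap P (Localization.AtPrime (q.comap φ))) := by
  apply le_antisymm
  · intro y hy
    obtain ⟨x, s, rfl⟩ := IsLocalization.mk'_surjective (q.comap φ).primeCompl y
    rw [RingHom.mem_ker, Localization.localRingHom_mk', IsLocalization.mk'_eq_zero_iff] at hy
    obtain ⟨m, hm⟩ := hy
    obtain ⟨t, ht⟩ := hφ (m : A)
    rw [IsLocalization.mk'_mem_map_algebraMap_iff]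
    refine ⟨t, ?_, ?_⟩
    · show t ∉ q.comap φ
      rw [Ideal.mem_comap, ht]
      exact m.2
    · rw [RingHom.mem_ker, map_mul, ht]
      exact hm
  · rw [Ideal.map_le_iff_le_comap]
    intro x hx
    rw [Ideal.mem_comap, RingHom.mem_ker, Localization.localRingHom_to_map,
      RingHom.mem_ker.mp hx, map_zero]

end LocKer

section JCSub

variable {R P S : Type u} [CommRing R] [CommRing P] [CommRing S] [IsLocalRing P] [IsLocalRing S]
  [Algebra R P] [Algebra P S] [Algebra R S] [IsScalarTower R P S]
  (h₁ : Function.Surjective (algebraMap P S))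

include h₁ in
/-- At a smooth point, a sub-family of any finite generating family of the kernel generates the
kernel and has linearly independent differentials. -/
theorem jc_sub [Algebra.FormallySmooth R P] [Module.Free P Ω[P⁄R]] [Module.Finite P Ω[P⁄R]]
    (h₂ : (RingHom.ker (algebraMap P S)).FG) {m : ℕ} (w : Fin m → P)
    (hw : ∀ j, w j ∈ RingHom.ker (algebraMap P S))
    (hspan : RingHom.ker (algebraMap P S) = Ideal.span (Set.range w))
    (hsm : Algebra.FormallySmooth R S) :
    ∃ (c : ℕ) (rows : Fin c ↪ Fin m),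
      RingHom.ker (algebraMap P S) = Ideal.span (Set.range (w ∘ rows)) ∧
      LinearIndependent (ResidueField P)
        (fun i => (1 : ResidueField P) ⊗ₜ[P] D R P (w (rows i))) := by
  letI : Algebra S (ResidueField P) := (toK h₁).toAlgebra
  haveI : IsScalarTower P S (ResidueField P) :=
    IsScalarTower.of_algebraMap_eq (fun x => (toK_algebraMap h₁ x).symm)
  have h₃ : maximalIdeal S ≤ RingHom.ker (algebraMap S (ResidueField P)) :=
    maximalIdeal_le_ker_toK h₁
  have hinj := (Algebra.FormallySmooth.iff_injective_cotangentComplexBaseChange (R := R) (S := S) P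
    (ResidueField P) h₁ h₂ h₃).mp hsm
  have hA : ∀ x : RingHom.ker (algebraMap P S),
      cotangentComplexBaseChange R S P (ResidueField P) ((1 : ResidueField P) ⊗ₜ[P] x) =
        (1 : ResidueField P) ⊗ₜ[P] D R P (x : P) := by
    intro x
    rw [cotangentComplexBaseChange_tmul, one_smul, kerToTensor_apply]
  haveI : Module.Finite P (RingHom.ker (algebraMap P S)) := Module.Finite.iff_fg.mpr h₂
  have hgen : Submodule.span P (Set.range fun j =>
      (⟨w j, hw j⟩ : RingHom.ker (algebraMap P S))) = ⊤ := by
    rw [eq_top_iff]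
    rintro ⟨x, hx⟩ -
    have hx' : x ∈ Ideal.span (Set.range w) := hspan ▸ hx
    obtain ⟨p, hp⟩ := (Submodule.mem_span_range_iff_exists_fun P).mp hx'
    have h1 : (⟨x, hx⟩ : RingHom.ker (algebraMap P S)) =
        ∑ i, p i • (⟨w i, hw i⟩ : RingHom.ker (algebraMap P S)) := by
      apply Subtype.ext
      show x = ((∑ i, p i • (⟨w i, hw i⟩ : RingHom.ker (algebraMap P S)) :
        RingHom.ker (algebraMap P S)) : P)
      rw [Submodule.coe_sum]
      exact hp.symm
    rw [h1]
    exact Submodule.sum_mem _ fun i _ => Submodule.smul_mem _ _ (Submodule.subset_span ⟨i, rfl⟩)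
  obtain ⟨κ, a, ha, hsp, hli⟩ := exists_linearIndependent' (ResidueField P)
    (fun j : Fin m => (1 : ResidueField P) ⊗ₜ[P] (⟨w j, hw j⟩ : RingHom.ker (algebraMap P S)))
  have htop : Submodule.span (ResidueField P) (Set.range
      ((fun j : Fin m => (1 : ResidueField P) ⊗ₜ[P]
        (⟨w j, hw j⟩ : RingHom.ker (algebraMap P S))) ∘ a)) = ⊤ := by
    rw [hsp]
    exact span_one_tmul_eq_top _ hgen
  let b : Module.Basis κ (ResidueField P) (ResidueField P ⊗[P] RingHom.ker (algebraMap P S)) :=
    Module.Basis.mk hli (by rw [htop])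
  haveI : Finite κ := Finite.of_injective a ha
  have hgen' : Submodule.span P (Set.range fun i =>
      (⟨w (a i), hw (a i)⟩ : RingHom.ker (algebraMap P S))) = ⊤ :=
    IsLocalRing.span_eq_top_of_tmul_eq_basis
      (fun i => (⟨w (a i), hw (a i)⟩ : RingHom.ker (algebraMap P S))) b
      (fun i => (Module.Basis.mk_apply hli _ i).symm)
  let e : κ ≃ Fin (Nat.card κ) := Finite.equivFin κ
  refine ⟨Nat.card κ, ⟨a ∘ e.symm, ha.comp e.symm.injective⟩, ?_, ?_⟩
  · apply le_antisymm
    · intro x hx
      have h1 : (⟨x, hx⟩ : RingHom.ker (algebraMap P S)) ∈ Submodule.span P (Set.range fun i =>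
          (⟨w (a i), hw (a i)⟩ : RingHom.ker (algebraMap P S))) := by
        rw [hgen']; trivial
      have h2 := Submodule.apply_mem_span_image_of_mem_span
        (Submodule.subtype (RingHom.ker (algebraMap P S))) h1
      refine Submodule.span_mono ?_ h2
      rintro _ ⟨_, ⟨i, rfl⟩, rfl⟩
      refine ⟨e i, ?_⟩
      show w (a (e.symm (e i))) = _
      rw [Equiv.symm_apply_apply]
      rfl
    · rw [Ideal.span_le]
      rintro _ ⟨j, rfl⟩
      exact hw _
  · have h1 := hli.map' (cotangentComplexBaseChange R S P (ResidueField P))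
      (LinearMap.ker_eq_bot.mpr hinj)
    have h2 := h1.comp e.symm e.symm.injective
    have h3 : ((cotangentComplexBaseChange R S P (ResidueField P)) ∘
        ((fun j : Fin m => (1 : ResidueField P) ⊗ₜ[P]
          (⟨w j, hw j⟩ : RingHom.ker (algebraMap P S))) ∘ a)) ∘ e.symm =
        fun j => (1 : ResidueField P) ⊗ₜ[P] D R P (w (a (e.symm j))) := by
      funext j
      exact hA _
    rw [h3] at h2
    exact h2

end JCSub

section Main

open MvPolynomial

theorem main2108 {R A : Type u} [CommRing R] [CommRing A] [Algebra R A] {n m : ℕ}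
    (f : Fin m → MvPolynomial (Fin n) R) (φ : MvPolynomial (Fin n) R →ₐ[R] A)
    (hφ : Function.Surjective φ)
    (hker : RingHom.ker φ.toRingHom = Ideal.span (Set.range f)) (q : Ideal A) [q.IsPrime]
    [Algebra.IsSmoothAt R q] :
    ∃ a : A, a ∉ q ∧ ∃ (c : ℕ) (rows : Fin c ↪ Fin m) (cols : Fin c ↪ Fin n) (a' : A),
      a = a' * φ (Smoothing.jacobianMinor f rows cols) ∧
      ∀ a₁ : MvPolynomial (Fin n) R, φ a₁ = a → ∀ ℓ : Fin m,
        a₁ * f ℓ ∈ Ideal.span (Set.range (f ∘ rows)) ⊔ Ideal.span (Set.range f) ^ 2 := by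
  classical
  have hψ : Function.Surjective φ.toRingHom := hφ
  letI : Algebra (Localization.AtPrime (q.comap φ.toRingHom)) (Localization.AtPrime q) :=
    (Localization.localRingHom (q.comap φ.toRingHom) q φ.toRingHom rfl).toAlgebra
  haveI : IsScalarTower R (Localization.AtPrime (q.comap φ.toRingHom)) (Localization.AtPrime q) :=
    IsScalarTower.of_algebraMap_eq (fun r => by
      show algebraMap R (Localization.AtPrime q) r =
        Localization.localRingHom (q.comap φ.toRingHom) q φ.toRingHom rfl (algebraMap R _ r)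
      rw [IsScalarTower.algebraMap_apply R (MvPolynomial (Fin n) R)
          (Localization.AtPrime (q.comap φ.toRingHom)),
        Localization.localRingHom_to_map,
        IsScalarTower.algebraMap_apply R A (Localization.AtPrime q)]
      congr 1
      exact (φ.commutes r).symm)
  haveI : Algebra.FormallySmooth (MvPolynomial (Fin n) R)
      (Localization.AtPrime (q.comap φ.toRingHom)) :=
    Algebra.FormallySmooth.of_isLocalization (q.comap φ.toRingHom).primeCompl
  haveI : Algebra.FormallySmooth R (Localization.AtPrime (q.comap φ.toRingHom)) :=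
    Algebra.FormallySmooth.comp R (MvPolynomial (Fin n) R) _
  haveI : Module.Free (Localization.AtPrime (q.comap φ.toRingHom))
      Ω[Localization.AtPrime (q.comap φ.toRingHom)⁄R] :=
    Module.free_of_flat_of_isLocalRing
  have h₁ : Function.Surjective
      (algebraMap (Localization.AtPrime (q.comap φ.toRingHom)) (Localization.AtPrime q)) :=
    RingHom.surjective_localRingHom_of_surjective φ.toRingHom hψ q
  have hkl : RingHom.ker
      (algebraMap (Localization.AtPrime (q.comap φ.toRingHom)) (Localization.AtPrime q)) =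
      Ideal.span (Set.range fun j => algebraMap (MvPolynomial (Fin n) R)
        (Localization.AtPrime (q.comap φ.toRingHom)) (f j)) := by
    have h0 := ker_localRingHom φ.toRingHom hψ q
    rw [hker, Ideal.map_span, ← Set.range_comp] at h0
    exact h0
  have h₂ : (RingHom.ker
      (algebraMap (Localization.AtPrime (q.comap φ.toRingHom)) (Localization.AtPrime q))).FG := by
    rw [hkl]
    exact Submodule.fg_span (Set.finite_range _)
  have hw : ∀ j, algebraMap (MvPolynomial (Fin n) R)
      (Localization.AtPrime (q.comap φ.toRingHom)) (f j) ∈ RingHom.ker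
        (algebraMap (Localization.AtPrime (q.comap φ.toRingHom)) (Localization.AtPrime q)) := by
    intro j
    rw [hkl]
    exact Ideal.subset_span ⟨j, rfl⟩
  have hsm : Algebra.FormallySmooth R (Localization.AtPrime q) := ‹Algebra.IsSmoothAt R q›
  obtain ⟨c, rows, hgen, hli⟩ := jc_sub (R := R) h₁ h₂
    (fun j => algebraMap (MvPolynomial (Fin n) R)
      (Localization.AtPrime (q.comap φ.toRingHom)) (f j)) hw hkl hsm
  -- transfer to `κ ⊗ Ω_{R[x]/R}`
  have hli2 : LinearIndependent (q.comap φ.toRingHom).ResidueField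
      (fun i => (1 : (q.comap φ.toRingHom).ResidueField) ⊗ₜ[MvPolynomial (Fin n) R]
        D R (MvPolynomial (Fin n) R) (f (rows i))) := by
    apply LinearIndependent.of_comp (Phi R (q.comap φ.toRingHom)).toLinearMap
    have h3 : (⇑(Phi R (q.comap φ.toRingHom)).toLinearMap ∘ fun i =>
        (1 : (q.comap φ.toRingHom).ResidueField) ⊗ₜ[MvPolynomial (Fin n) R]
          D R (MvPolynomial (Fin n) R) (f (rows i))) =
        fun i => (1 : (q.comap φ.toRingHom).ResidueField) ⊗ₜ[
          Localization.AtPrime (q.comap φ.toRingHom)]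
          D R (Localization.AtPrime (q.comap φ.toRingHom))
            (algebraMap (MvPolynomial (Fin n) R)
              (Localization.AtPrime (q.comap φ.toRingHom)) (f (rows i))) := by
      funext i
      rw [Function.comp_apply, LinearEquiv.coe_coe, Phi_one_tmul_D]
    rw [h3]
    exact hli
  -- the matrix
  let M : Matrix (Fin c) (Fin n) (q.comap φ.toRingHom).ResidueField :=
    Matrix.of fun i j => algebraMap (MvPolynomial (Fin n) R) (q.comap φ.toRingHom).ResidueField
      (pderiv j (f (rows i)))
  have hrow : LinearIndependent (q.comap φ.toRingHom).ResidueField M.row := by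
    have h4 := hli2.map'
      ((mvPolynomialBasis R (Fin n)).baseChange
        (q.comap φ.toRingHom).ResidueField).equivFun.toLinearMap (LinearEquiv.ker _)
    have h5 : (⇑((mvPolynomialBasis R (Fin n)).baseChange
        (q.comap φ.toRingHom).ResidueField).equivFun.toLinearMap ∘ fun i =>
        (1 : (q.comap φ.toRingHom).ResidueField) ⊗ₜ[MvPolynomial (Fin n) R]
          D R (MvPolynomial (Fin n) R) (f (rows i))) = M.row := by
      funext i
      funext j
      rw [Function.comp_apply, LinearEquiv.coe_coe, Module.Basis.equivFun_apply,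
        Module.Basis.baseChange_repr_tmul, mvPolynomialBasis_repr_apply, Algebra.smul_def, mul_one]
      rfl
    rw [h5] at h4
    exact h4
  obtain ⟨cols, hdet⟩ := exists_cols_det_ne_zero M hrow
  have hminor : Smoothing.jacobianMinor f rows cols ∉ q.comap φ.toRingHom := by
    intro hmem
    apply hdet
    have h6 : (M.submatrix id cols).det =
        algebraMap (MvPolynomial (Fin n) R) (q.comap φ.toRingHom).ResidueField
          (Smoothing.jacobianMinor f rows cols) := by
      unfold Smoothing.jacobianMinor
      rw [RingHom.map_det]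
      rfl
    rw [h6, Ideal.algebraMap_residueField_eq_zero]
    exact hmem
  -- clearing denominators
  have hℓ : ∀ ℓ, ∃ s : MvPolynomial (Fin n) R, s ∉ q.comap φ.toRingHom ∧
      s * f ℓ ∈ Ideal.span (Set.range (f ∘ rows)) := by
    intro ℓ
    have h1 : algebraMap (MvPolynomial (Fin n) R)
        (Localization.AtPrime (q.comap φ.toRingHom)) (f ℓ) ∈
        Ideal.map (algebraMap (MvPolynomial (Fin n) R)
          (Localization.AtPrime (q.comap φ.toRingHom))) (Ideal.span (Set.range (f ∘ rows))) := by
      rw [Ideal.map_span, ← Set.range_comp]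
      have h7 := hw ℓ
      rw [hgen] at h7
      exact h7
    obtain ⟨⟨y, s⟩, hys⟩ := (IsLocalization.mem_map_algebraMap_iff
      (q.comap φ.toRingHom).primeCompl _).mp h1
    have h2 : algebraMap (MvPolynomial (Fin n) R)
        (Localization.AtPrime (q.comap φ.toRingHom)) (f ℓ * s - y) = 0 := by
      rw [map_sub, map_mul, hys, sub_self]
    obtain ⟨t, ht⟩ := (IsLocalization.map_eq_zero_iff (q.comap φ.toRingHom).primeCompl _ _).mp h2
    refine ⟨t * s, (q.comap φ.toRingHom).primeCompl.mul_mem t.2 s.2, ?_⟩
    have h3 : (t : MvPolynomial (Fin n) R) * s * f ℓ = t * y := by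
      linear_combination ht
    rw [h3]
    exact Ideal.mul_mem_left _ _ y.2
  choose s hs hsf using hℓ
  refine ⟨φ ((∏ ℓ, s ℓ) * Smoothing.jacobianMinor f rows cols), ?_, c, rows, cols,
    φ (∏ ℓ, s ℓ), map_mul _ _ _, ?_⟩
  · intro hmem
    have h1 : (∏ ℓ, s ℓ) * Smoothing.jacobianMinor f rows cols ∈ q.comap φ.toRingHom := hmem
    rcases (Ideal.IsPrime.mem_or_mem inferInstance h1) with h2 | h2
    · obtain ⟨ℓ, -, h3⟩ := Ideal.IsPrime.prod_mem_iff.mp h2
      exact hs ℓ h3
    · exact hminor h2
  · intro a₁ ha₁ ℓ
    have hd : a₁ - (∏ ℓ, s ℓ) * Smoothing.jacobianMinor f rows cols ∈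
        Ideal.span (Set.range f) := by
      rw [← hker, RingHom.mem_ker, map_sub]
      exact sub_eq_zero.mpr ha₁
    have h1 : a₁ * f ℓ = (Smoothing.jacobianMinor f rows cols * ∏ ℓ' ∈ Finset.univ.erase ℓ, s ℓ') *
        (s ℓ * f ℓ) + (a₁ - (∏ ℓ, s ℓ) * Smoothing.jacobianMinor f rows cols) * f ℓ := by
      rw [← Finset.mul_prod_erase Finset.univ s (Finset.mem_univ ℓ)]
      ring
    rw [h1]
    apply Ideal.add_mem
    · exact Ideal.mem_sup_left (Ideal.mul_mem_left _ _ (hsf ℓ))
    · apply Ideal.mem_sup_right
      rw [sq]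
      exact Ideal.mul_mem_mul hd (Ideal.subset_span ⟨ℓ, rfl⟩)

end Main

end Groth.Agent.Lib.JacCrit2H1
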