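import Mathlib
import Groth.Agent.Lib.JacCrit2_helper1
import Groth.Prelude.Def_Smoothing

/-!
Helper library (helper1): the singular ideal of a finitely presented algebra is the radical of the
ideal of strictly standard (resp. elementary standard) elements.  APPEND-ONLY once landed.
-/

set_option autoImplicit false

namespace Groth.Agent.Lib.Smoothing1H1

open TensorProduct IsLocalRing KaehlerDifferential MvPolynomial
  Groth.Agent.Lib.JacCritH1 Groth.Agent.Lib.JacCrit2H1

universe u

section Perm

/-- Two injections from the same type into a finite type differ by a permutation of the target. -/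
theorem exists_perm_extend {α β : Type*} [Finite α] (e₁ e₂ : β → α)
    (h₁ : Function.Injective e₁) (h₂ : Function.Injective e₂) :
    ∃ σ : Equiv.Perm α, ∀ i, σ (e₁ i) = e₂ i := by
  classical
  let E₁ : β ≃ {x // x ∈ Set.range e₁} := Equiv.ofInjective e₁ h₁
  let E₂ : β ≃ {x // x ∈ Set.range e₂} := Equiv.ofInjective e₂ h₂
  let e : {x // x ∈ Set.range e₁} ≃ {x // x ∈ Set.range e₂} := E₁.symm.trans E₂
  refine ⟨e.extendSubtype, fun i => ?_⟩
  rw [Equiv.extendSubtype_apply_of_mem e (e₁ i) ⟨i, rfl⟩]
  have h3 : E₁.symm ⟨e₁ i, ⟨i, rfl⟩⟩ = i := by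
    rw [Equiv.symm_apply_eq]
    rfl
  show ((E₂ (E₁.symm ⟨e₁ i, ⟨i, rfl⟩⟩) : {x // x ∈ Set.range e₂}) : α) = e₂ i
  rw [h3]
  rfl

end Perm

section SmoothAt

variable {R A : Type u} [CommRing R] [CommRing A] [Algebra R A] {n : ℕ}

/-- Sufficient criterion for smoothness at a prime: the kernel of a presentation is, locally at
the prime, generated by elements whose differentials are linearly independent in the fibre. -/
theorem smoothAt_of_generators (φ : MvPolynomial (Fin n) R →ₐ[R] A)
    (hφ : Function.Surjective φ)
    (hfg : (RingHom.ker φ.toRingHom).FG) (q : Ideal A) [q.IsPrime] {c : ℕ}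
    (g : Fin c → MvPolynomial (Fin n) R) (hg : ∀ i, g i ∈ RingHom.ker φ.toRingHom)
    (hspan : (RingHom.ker φ.toRingHom).map
        (algebraMap (MvPolynomial (Fin n) R) (Localization.AtPrime (q.comap φ.toRingHom))) =
      Ideal.span (Set.range fun i => algebraMap (MvPolynomial (Fin n) R)
        (Localization.AtPrime (q.comap φ.toRingHom)) (g i)))
    (hli : LinearIndependent (q.comap φ.toRingHom).ResidueField
      (fun i => (1 : (q.comap φ.toRingHom).ResidueField) ⊗ₜ[MvPolynomial (Fin n) R]
        D R (MvPolynomial (Fin n) R) (g i))) :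
    Algebra.IsSmoothAt R q := by
  classical
  have hψ : Function.Surjective φ.toRingHom := hφ
  letI : Algebra (Localization.AtPrime (q.comap φ.toRingHom)) (Localization.AtPrime q) :=
    (Localization.localRingHom (q.comap φ.toRingHom) q φ.toRingHom rfl).toAlgebra
  haveI : IsScalarTower R (Localization.AtPrime (q.comap φ.toRingHom)) (Localization.AtPrime q) :=
    IsScalarTower.of_algebraMap_eq (fun r => by
      show algebraMap R (Localization.AtPrime q) r =
        Localization.localRingHom (q.comap φ.toRingHom) q φ.toRingHom rfl (algebraMap R _ r)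
      rw [IsScalarTower.algebraMap_apply R (MvPolynomial (Fin n) R)
          (Localization.AtPrime (q.comap φ.toRingHom)),
        Localization.localRingHom_to_map,
        IsScalarTower.algebraMap_apply R A (Localization.AtPrime q)]
      congr 1
      exact (φ.commutes r).symm)
  haveI : Algebra.FormallySmooth (MvPolynomial (Fin n) R)
      (Localization.AtPrime (q.comap φ.toRingHom)) :=
    Algebra.FormallySmooth.of_isLocalization (q.comap φ.toRingHom).primeCompl
  haveI : Algebra.FormallySmooth R (Localization.AtPrime (q.comap φ.toRingHom)) :=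
    Algebra.FormallySmooth.comp R (MvPolynomial (Fin n) R) _
  haveI : Module.Free (Localization.AtPrime (q.comap φ.toRingHom))
      Ω[Localization.AtPrime (q.comap φ.toRingHom)⁄R] :=
    Module.free_of_flat_of_isLocalRing
  have h₁ : Function.Surjective
      (algebraMap (Localization.AtPrime (q.comap φ.toRingHom)) (Localization.AtPrime q)) :=
    RingHom.surjective_localRingHom_of_surjective φ.toRingHom hψ q
  have hkl : RingHom.ker
      (algebraMap (Localization.AtPrime (q.comap φ.toRingHom)) (Localization.AtPrime q)) =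
      (RingHom.ker φ.toRingHom).map (algebraMap (MvPolynomial (Fin n) R)
        (Localization.AtPrime (q.comap φ.toRingHom))) :=
    ker_localRingHom φ.toRingHom hψ q
  have h₂ : (RingHom.ker
      (algebraMap (Localization.AtPrime (q.comap φ.toRingHom)) (Localization.AtPrime q))).FG := by
    rw [hkl]
    exact hfg.map _
  show Algebra.FormallySmooth R (Localization.AtPrime q)
  refine (jc (R := R) h₁ h₂).mpr ⟨c, fun i => algebraMap (MvPolynomial (Fin n) R)
    (Localization.AtPrime (q.comap φ.toRingHom)) (g i), ?_, ?_, ?_⟩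
  · intro i
    rw [hkl]
    exact Ideal.mem_map_of_mem _ (hg i)
  · exact hkl.trans hspan
  · have h1 := hli.map' (Phi R (q.comap φ.toRingHom)).toLinearMap (LinearEquiv.ker _)
    have h2 : (⇑(Phi R (q.comap φ.toRingHom)).toLinearMap ∘ fun i =>
        (1 : (q.comap φ.toRingHom).ResidueField) ⊗ₜ[MvPolynomial (Fin n) R]
          D R (MvPolynomial (Fin n) R) (g i)) =
        fun i => (1 : (q.comap φ.toRingHom).ResidueField) ⊗ₜ[
          Localization.AtPrime (q.comap φ.toRingHom)]
          D R (Localization.AtPrime (q.comap φ.toRingHom))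
            (algebraMap (MvPolynomial (Fin n) R)
              (Localization.AtPrime (q.comap φ.toRingHom)) (g i)) := by
      funext i
      rw [Function.comp_apply, LinearEquiv.coe_coe, Phi_one_tmul_D]
    rw [h2] at h1
    exact h1

/-- Core of the "strictly standard ⇒ smooth" direction, with unbundled data. -/
theorem smoothAt_core {m c : ℕ} (hcm : c ≤ m) (f : Fin m → MvPolynomial (Fin n) R)
    (φ : MvPolynomial (Fin n) R →ₐ[R] A) (hφ : Function.Surjective φ)
    (hker : RingHom.ker φ.toRingHom = Ideal.span (Set.range f))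
    (q : Ideal A) [q.IsPrime] (cols : Fin c → Fin n)
    (hminor : φ (Smoothing.jacobianMinor f (Fin.castLE hcm) cols) ∉ q)
    (a₁ : MvPolynomial (Fin n) R) (ha₁ : φ a₁ ∉ q)
    (htail : ∀ j : Fin m, c ≤ (j : ℕ) →
      a₁ * f j ∈ Ideal.span (f '' {j' : Fin m | (j' : ℕ) < c}) ⊔
        Ideal.span (Set.range f) ^ 2) :
    Algebra.IsSmoothAt R q := by
  classical
  have hfg : (RingHom.ker φ.toRingHom).FG := by
    rw [hker]
    exact Submodule.fg_span (Set.finite_range _)
  have hg : ∀ i : Fin c, f (Fin.castLE hcm i) ∈ RingHom.ker φ.toRingHom := by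
    intro i
    rw [hker]
    exact Ideal.subset_span ⟨_, rfl⟩
  refine smoothAt_of_generators φ hφ hfg q (fun i => f (Fin.castLE hcm i)) hg ?_ ?_
  · -- generation, by Nakayama
    rw [hker]
    have hunit : IsUnit (algebraMap (MvPolynomial (Fin n) R)
        (Localization.AtPrime (q.comap φ.toRingHom)) a₁) :=
      (IsLocalization.AtPrime.isUnit_to_map_iff _ (q.comap φ.toRingHom) a₁).mpr ha₁
    have hKm : Ideal.map (algebraMap (MvPolynomial (Fin n) R)
        (Localization.AtPrime (q.comap φ.toRingHom))) (Ideal.span (Set.range f)) ≤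
        maximalIdeal (Localization.AtPrime (q.comap φ.toRingHom)) := by
      refine le_trans (Ideal.map_mono ?_)
        (Localization.AtPrime.map_eq_maximalIdeal (I := q.comap φ.toRingHom)).le
      rw [← hker]
      intro x hx
      rw [Ideal.mem_comap, RingHom.mem_ker.mp hx]
      exact q.zero_mem
    have hsub : Ideal.map (algebraMap (MvPolynomial (Fin n) R)
        (Localization.AtPrime (q.comap φ.toRingHom)))
          (Ideal.span (f '' {j' : Fin m | (j' : ℕ) < c})) ≤
        Ideal.span (Set.range fun i : Fin c => algebraMap (MvPolynomial (Fin n) R)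
          (Localization.AtPrime (q.comap φ.toRingHom)) (f (Fin.castLE hcm i))) := by
      rw [Ideal.map_span]
      apply Ideal.span_mono
      rintro _ ⟨_, ⟨j', hj', rfl⟩, rfl⟩
      exact ⟨⟨j', hj'⟩, rfl⟩
    have hle : Ideal.map (algebraMap (MvPolynomial (Fin n) R)
        (Localization.AtPrime (q.comap φ.toRingHom))) (Ideal.span (Set.range f)) ≤
        Ideal.span (Set.range fun i : Fin c => algebraMap (MvPolynomial (Fin n) R)
          (Localization.AtPrime (q.comap φ.toRingHom)) (f (Fin.castLE hcm i))) ⊔
        maximalIdeal (Localization.AtPrime (q.comap φ.toRingHom)) •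
          Ideal.map (algebraMap (MvPolynomial (Fin n) R)
            (Localization.AtPrime (q.comap φ.toRingHom))) (Ideal.span (Set.range f)) := by
      rw [Ideal.map_le_iff_le_comap, Ideal.span_le]
      rintro _ ⟨j, rfl⟩
      rw [SetLike.mem_coe, Ideal.mem_comap]
      by_cases hj : (j : ℕ) < c
      · apply Ideal.mem_sup_left
        apply Ideal.subset_span
        exact ⟨⟨j, hj⟩, rfl⟩
      · push Not at hj
        have h1 := htail j hj
        have h2 := Ideal.mem_map_of_mem (algebraMap (MvPolynomial (Fin n) R)
          (Localization.AtPrime (q.comap φ.toRingHom))) h1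
        rw [map_mul, Ideal.map_sup, Ideal.map_pow] at h2
        rw [← Ideal.unit_mul_mem_iff_mem _ hunit]
        refine (sup_le_sup hsub ?_) h2
        rw [sq, smul_eq_mul]
        exact Ideal.mul_mono_left hKm
    apply le_antisymm
    · exact Submodule.le_of_le_smul_of_le_jacobson_bot
        (Ideal.FG.map (show (Ideal.span (Set.range f)).FG from
          Submodule.fg_span (Set.finite_range f)) _)
        (IsLocalRing.maximalIdeal_le_jacobson ⊥) hle
    · rw [Ideal.span_le]
      rintro _ ⟨i, rfl⟩
      exact Ideal.mem_map_of_mem _ (Ideal.subset_span ⟨_, rfl⟩)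
  · -- linear independence from the non-vanishing minor
    let M : Matrix (Fin c) (Fin n) (q.comap φ.toRingHom).ResidueField :=
      Matrix.of fun i j => algebraMap (MvPolynomial (Fin n) R) (q.comap φ.toRingHom).ResidueField
        (pderiv j (f (Fin.castLE hcm i)))
    have h5 : (⇑((mvPolynomialBasis R (Fin n)).baseChange
        (q.comap φ.toRingHom).ResidueField).equivFun.toLinearMap ∘ fun i : Fin c =>
        (1 : (q.comap φ.toRingHom).ResidueField) ⊗ₜ[MvPolynomial (Fin n) R]
          D R (MvPolynomial (Fin n) R) (f (Fin.castLE hcm i))) = M.row := by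
      funext i
      funext j
      rw [Function.comp_apply, LinearEquiv.coe_coe, Module.Basis.equivFun_apply,
        Module.Basis.baseChange_repr_tmul, mvPolynomialBasis_repr_apply, Algebra.smul_def, mul_one]
      rfl
    have h6 : (M.submatrix id cols).det =
        algebraMap (MvPolynomial (Fin n) R) (q.comap φ.toRingHom).ResidueField
          (Smoothing.jacobianMinor f (Fin.castLE hcm) cols) := by
      unfold Smoothing.jacobianMinor
      rw [RingHom.map_det]
      rfl
    have hdet : (M.submatrix id cols).det ≠ 0 := by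
      rw [h6, Ne, Ideal.algebraMap_residueField_eq_zero]
      exact hminor
    have hrowsub : LinearIndependent (q.comap φ.toRingHom).ResidueField
        (M.submatrix id cols).row :=
      Matrix.linearIndependent_rows_iff_isUnit.mpr
        ((Matrix.isUnit_iff_isUnit_det _).mpr hdet.isUnit)
    have hrow : LinearIndependent (q.comap φ.toRingHom).ResidueField M.row := by
      apply LinearIndependent.of_comp (LinearMap.funLeft (q.comap φ.toRingHom).ResidueField
        (q.comap φ.toRingHom).ResidueField cols)
      exact hrowsub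
    apply LinearIndependent.of_comp ((mvPolynomialBasis R (Fin n)).baseChange
      (q.comap φ.toRingHom).ResidueField).equivFun.toLinearMap
    rw [h5]
    exact hrow

/-- A strictly standard element is invertible only at smooth points. -/
theorem smoothAt_of_isStrictlyStandard {a : A} (ha : Smoothing.IsStrictlyStandard R A a)
    (q : Ideal A) [q.IsPrime] (haq : a ∉ q) : Algebra.IsSmoothAt R q := by
  obtain ⟨P, hmem, hkt⟩ := ha
  have hcols : ∃ cols : Fin P.c → Fin P.n,
      P.hom (Smoothing.jacobianMinor P.rel (Fin.castLE P.hcm) cols) ∉ q := by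
    by_contra hcon
    push Not at hcon
    apply haq
    have h1 : Ideal.span (Set.range fun cols : Fin P.c → Fin P.n =>
        P.hom (Smoothing.jacobianMinor P.rel (Fin.castLE P.hcm) cols)) ≤ q := by
      rw [Ideal.span_le]
      rintro _ ⟨cols, rfl⟩
      exact hcon cols
    exact h1 hmem
  obtain ⟨cols, hcols⟩ := hcols
  obtain ⟨a₁, ha₁⟩ := P.surj a
  exact smoothAt_core P.hcm P.rel P.hom P.surj P.ker_eq q cols hcols a₁
    (by rw [ha₁]; exact haq) (fun j hj => hkt a₁ ha₁ j hj)

end SmoothAt

section Elementary

variable {R A : Type u} [CommRing R] [CommRing A] [Algebra R A]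

/-- At a smooth point of a finitely presented algebra there is an elementary standard element not
in the prime. -/
theorem exists_isElementaryStandard [Algebra.FinitePresentation R A] (q : Ideal A) [q.IsPrime]
    [Algebra.IsSmoothAt R q] : ∃ a : A, a ∉ q ∧ Smoothing.IsElementaryStandard R A a := by
  classical
  obtain ⟨n, φ, hφ, hfg⟩ := Algebra.FinitePresentation.out (R := R) (A := A)
  obtain ⟨m, f, hf⟩ := Submodule.fg_iff_exists_fin_generating_family.mp hfg
  have hker : RingHom.ker φ.toRingHom = Ideal.span (Set.range f) := hf.symm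
  obtain ⟨a, haq, c, rows, cols, a', haa', htail⟩ := main2108 f φ hφ hker q
  refine ⟨a, haq, ?_⟩
  have hcm : c ≤ m := by simpa using Fintype.card_le_of_embedding rows
  have hcn : c ≤ n := by simpa using Fintype.card_le_of_embedding cols
  obtain ⟨σ, hσ⟩ := exists_perm_extend (Fin.castLE hcm) (⇑rows)
    (Fin.castLE_injective hcm) rows.injective
  obtain ⟨τ, hτ⟩ := exists_perm_extend (Fin.castLE hcn) (⇑cols)
    (Fin.castLE_injective hcn) cols.injective
  have hτ' : ∀ k, τ.symm (cols k) = Fin.castLE hcn k := by
    intro k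
    rw [Equiv.symm_apply_eq]
    exact (hτ k).symm
  let E : MvPolynomial (Fin n) R →ₐ[R] MvPolynomial (Fin n) R := rename τ
  let E' : MvPolynomial (Fin n) R →ₐ[R] MvPolynomial (Fin n) R := rename τ.symm
  have hEE' : ∀ p, E (E' p) = p := by
    intro p
    show rename τ (rename τ.symm p) = p
    rw [rename_rename, Equiv.self_comp_symm, rename_id_apply]
  have hE'E : ∀ p, E' (E p) = p := by
    intro p
    show rename τ.symm (rename τ p) = p
    rw [rename_rename, Equiv.symm_comp_self, rename_id_apply]
  let rel' : Fin m → MvPolynomial (Fin n) R := fun j => E' (f (σ j))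
  have hA : Ideal.map E' (Ideal.span (Set.range f)) ≤ Ideal.span (Set.range rel') := by
    rw [Ideal.map_span]
    apply Ideal.span_mono
    rintro _ ⟨_, ⟨j, rfl⟩, rfl⟩
    refine ⟨σ.symm j, ?_⟩
    show E' (f (σ (σ.symm j))) = E' (f j)
    rw [Equiv.apply_symm_apply]
  have hB : Ideal.map E' (Ideal.span (Set.range (f ∘ rows))) ≤
      Ideal.span (rel' '' {j' : Fin m | (j' : ℕ) < c}) := by
    rw [Ideal.map_span]
    apply Ideal.span_mono
    rintro _ ⟨_, ⟨i, rfl⟩, rfl⟩
    refine ⟨Fin.castLE hcm i, i.2, ?_⟩
    show E' (f (σ (Fin.castLE hcm i))) = E' (f (rows i))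
    rw [hσ]
  have surj' : Function.Surjective (φ.comp E) :=
    hφ.comp (fun p => ⟨E' p, hEE' p⟩)
  have ker' : RingHom.ker (φ.comp E).toRingHom = Ideal.span (Set.range rel') := by
    apply le_antisymm
    · intro x hx
      have h1 : E x ∈ Ideal.span (Set.range f) := by
        rw [← hker]
        rw [RingHom.mem_ker] at hx ⊢
        exact hx
      have h2 := Ideal.mem_map_of_mem E' h1
      rw [hE'E] at h2
      exact hA h2
    · rw [Ideal.span_le]
      rintro _ ⟨j, rfl⟩
      have h1 : f (σ j) ∈ RingHom.ker φ.toRingHom := by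
        rw [hker]
        exact Ideal.subset_span ⟨_, rfl⟩
      rw [RingHom.mem_ker] at h1
      rw [SetLike.mem_coe, RingHom.mem_ker]
      show φ (E (E' (f (σ j)))) = 0
      rw [hEE']
      exact h1
  have hminor' : Smoothing.jacobianMinor rel' (Fin.castLE hcm) (Fin.castLE hcn) =
      E' (Smoothing.jacobianMinor f rows cols) := by
    unfold Smoothing.jacobianMinor
    rw [AlgHom.map_det]
    congr 1
    refine Matrix.ext fun j k => ?_
    show pderiv (Fin.castLE hcn k) (E' (f (σ (Fin.castLE hcm j)))) =
      E' (pderiv (cols k) (f (rows j)))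
    rw [hσ j, ← hτ' k]
    exact pderiv_rename τ.symm.injective (cols k) (f (rows j))
  refine ⟨⟨n, m, c, hcn, hcm, rel', φ.comp E, surj', ker'⟩, ⟨a', ?_⟩, ?_⟩
  · show a = a' * φ (E (Smoothing.jacobianMinor rel' (Fin.castLE hcm) (Fin.castLE hcn)))
    rw [hminor', hEE']
    exact haa'
  · intro a₁ ha₁ j hj
    have h1 := htail (E a₁) ha₁ (σ j)
    have h2 := Ideal.mem_map_of_mem E' h1
    rw [map_mul, hE'E, Ideal.map_sup, Ideal.map_pow] at h2
    exact (sup_le_sup hB (Ideal.pow_right_mono hA 2)) h2

end Elementary

section Main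

theorem main2026 {R A : Type u} [CommRing R] [CommRing A]
    [Algebra R A] [Algebra.FinitePresentation R A] :
    Smoothing.singularIdeal R A =
        (Ideal.span {a : A | Smoothing.IsStrictlyStandard R A a}).radical ∧
      Smoothing.singularIdeal R A =
        (Ideal.span {a : A | Smoothing.IsElementaryStandard R A a}).radical := by
  have h1 : Ideal.span {a : A | Smoothing.IsElementaryStandard R A a} ≤
      Ideal.span {a : A | Smoothing.IsStrictlyStandard R A a} := by
    apply Ideal.span_mono
    rintro a ⟨P, ⟨a', rfl⟩, hkt⟩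
    exact ⟨P, Ideal.mul_mem_left _ _ (Ideal.subset_span ⟨Fin.castLE P.hcn, rfl⟩), hkt⟩
  have h2 : (Ideal.span {a : A | Smoothing.IsStrictlyStandard R A a}).radical ≤
      Smoothing.singularIdeal R A := by
    unfold Smoothing.singularIdeal
    rw [(PrimeSpectrum.isRadical_vanishingIdeal _).radical_le_iff, Ideal.span_le]
    intro a ha
    rw [SetLike.mem_coe, PrimeSpectrum.mem_vanishingIdeal]
    intro p hp
    by_contra hap
    exact hp (smoothAt_of_isStrictlyStandard ha p.asIdeal hap)
  have h3 : Smoothing.singularIdeal R A ≤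
      (Ideal.span {a : A | Smoothing.IsElementaryStandard R A a}).radical := by
    unfold Smoothing.singularIdeal
    rw [← PrimeSpectrum.vanishingIdeal_zeroLocus_eq_radical]
    apply PrimeSpectrum.vanishingIdeal_anti_mono
    intro p hp hsm
    have : Algebra.IsSmoothAt R p.asIdeal := hsm
    obtain ⟨a, haq, hel⟩ := exists_isElementaryStandard (R := R) p.asIdeal
    apply haq
    rw [PrimeSpectrum.mem_zeroLocus] at hp
    exact hp (Ideal.subset_span hel)
  exact ⟨le_antisymm (h3.trans (Ideal.radical_mono h1)) h2,
    le_antisymm h3 ((Ideal.radical_mono h1).trans h2)⟩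

end Main

end Groth.Agent.Lib.Smoothing1H1
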