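import Mathlib
import Groth.Prelude.Def_Smoothing

set_option autoImplicit false
set_option maxHeartbeats 1000000

/-!
# Strictly standard elements give smooth localizations with stably free differentials

(Stacks 07ER / 07ES direction (5) ⇒ (2).)
-/

namespace Groth.Agent.Lib.StrictStdH1

open MvPolynomial TensorProduct KaehlerDifferential

universe u

section Mat

variable {B : Type*} [CommRing B] {n c : ℕ}

/-- selection matrix -/
def selMat (B : Type*) [CommRing B] {n c : ℕ} (I : Fin c → Fin n) : Matrix (Fin n) (Fin c) B :=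
  Matrix.of fun i k => if I k = i then 1 else 0

lemma mul_selMat (J : Matrix (Fin c) (Fin n) B) (I : Fin c → Fin n) :
    J * (selMat B I : Matrix (Fin n) (Fin c) B) = J.submatrix id I := by
  ext j k
  rw [Matrix.mul_apply]
  simp [selMat]

lemma exists_rightInv (J : Matrix (Fin c) (Fin n) B) (b : (Fin c → Fin n) → B)
    (hb : ∑ I, b I * (J.submatrix id I).det = 1) :
    ∃ L : Matrix (Fin n) (Fin c) B, J * L = 1 := by
  refine ⟨∑ I, b I • ((selMat B I : Matrix (Fin n) (Fin c) B) *
    (Matrix.adjugate (J.submatrix id I) : Matrix (Fin c) (Fin c) B)), ?_⟩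
  rw [Matrix.mul_sum]
  have : ∀ I : Fin c → Fin n, J * (b I • ((selMat B I : Matrix (Fin n) (Fin c) B) *
      (Matrix.adjugate (J.submatrix id I) : Matrix (Fin c) (Fin c) B))) =
      (b I * (J.submatrix id I).det) • (1 : Matrix (Fin c) (Fin c) B) := by
    intro I
    rw [Matrix.mul_smul, ← Matrix.mul_assoc, mul_selMat, Matrix.mul_adjugate, smul_smul]
  rw [Finset.sum_congr rfl (fun I _ => this I), ← Finset.sum_smul, hb, one_smul]

end Mat

section Main

variable {R A : Type u} [CommRing R] [CommRing A] [Algebra R A]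
variable (B : Type u) [CommRing B] [Algebra A B] [Algebra R B] [IsScalarTower R A B]
variable {n : ℕ} (π : MvPolynomial (Fin n) R →ₐ[R] A) (a : A) [IsLocalization.Away a B]

/-- values of the generators of `B = A_a` -/
noncomputable def gval : Option (Fin n) → B
  | some i => algebraMap A B (π (X i))
  | none => IsLocalization.Away.invSelf a

/-- the presentation map -/
noncomputable def phi : MvPolynomial (Option (Fin n)) R →ₐ[R] B := aeval (gval B π a)

lemma alg_mul_inv : algebraMap A B a * IsLocalization.Away.invSelf a = 1 :=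
  IsLocalization.Away.mul_invSelf a

lemma phi_rename (q : MvPolynomial (Fin n) R) :
    phi B π a (rename some q) = algebraMap A B (π q) := by
  unfold phi
  rw [aeval_rename]
  have h : (IsScalarTower.toAlgHom R A B).comp π = aeval (gval B π a ∘ some) := by
    rw [aeval_unique ((IsScalarTower.toAlgHom R A B).comp π)]
    rfl
  rw [← h]; rfl

lemma phi_X_none : phi B π a (X none) = IsLocalization.Away.invSelf a := by
  unfold phi; rw [aeval_X]; rfl

lemma phi_surjective (hπ : Function.Surjective π) : Function.Surjective (phi B π a) := by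
  intro z
  obtain ⟨⟨a', k⟩, hz⟩ : ∃ p : A × ℕ, z * algebraMap A B (a ^ p.2) = algebraMap A B p.1 :=
    ⟨IsLocalization.Away.sec a z, IsLocalization.Away.sec_spec a z⟩
  obtain ⟨q', rfl⟩ := hπ a'
  refine ⟨rename some q' * X none ^ k, ?_⟩
  simp only at hz
  rw [map_mul, map_pow, phi_rename, phi_X_none, ← hz, map_pow, mul_assoc, ← mul_pow, alg_mul_inv,
    one_pow, mul_one]

variable {m : ℕ} (f : Fin m → MvPolynomial (Fin n) R) (g : MvPolynomial (Fin n) R)

/-- generators of the kernel -/
noncomputable def kgen : Option (Fin m) → MvPolynomial (Option (Fin n)) R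
  | some j => rename some (f j)
  | none => rename some g * X none - 1

lemma phi_kgen (hker : RingHom.ker π.toRingHom = Ideal.span (Set.range f)) (hg : π g = a)
    (j : Option (Fin m)) : phi B π a (kgen f g j) = 0 := by
  cases j with
  | some j =>
    show phi B π a (rename some (f j)) = 0
    rw [phi_rename]
    have : f j ∈ RingHom.ker π.toRingHom := by rw [hker]; exact Ideal.subset_span ⟨j, rfl⟩
    rw [show π (f j) = 0 from this, map_zero]
  | none =>
    show phi B π a (rename some g * X none - 1) = 0
    rw [map_sub, map_mul, phi_rename, phi_X_none, hg, map_one, alg_mul_inv, sub_self]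

lemma ker_phi (hπ : Function.Surjective π)
    (hker : RingHom.ker π.toRingHom = Ideal.span (Set.range f)) (hg : π g = a) :
    RingHom.ker (phi B π a).toRingHom = Ideal.span (Set.range (kgen f g)) := by
  apply le_antisymm
  · intro q hq
    set K := Ideal.span (Set.range (kgen f g)) with hK
    let θ₀ : MvPolynomial (Fin n) R →+* (MvPolynomial (Option (Fin n)) R ⧸ K) :=
      (Ideal.Quotient.mk K).comp
        (rename some : MvPolynomial (Fin n) R →ₐ[R] MvPolynomial (Option (Fin n)) R).toRingHom
    have hθ₀ : RingHom.ker π.toRingHom ≤ RingHom.ker θ₀ := by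
      rw [hker, Ideal.span_le]
      rintro _ ⟨j, rfl⟩
      show θ₀ (f j) = 0
      exact Ideal.Quotient.eq_zero_iff_mem.mpr (Ideal.subset_span ⟨some j, rfl⟩)
    let θ : A →+* (MvPolynomial (Option (Fin n)) R ⧸ K) :=
      RingHom.liftOfSurjective π.toRingHom hπ ⟨θ₀, hθ₀⟩
    have hθ : ∀ q, θ (π q) = θ₀ q := fun q =>
      RingHom.liftOfSurjective_comp_apply π.toRingHom hπ ⟨θ₀, hθ₀⟩ q
    have hunit : θ a * Ideal.Quotient.mk K (X none) = 1 := by
      rw [← hg, hθ]
      show Ideal.Quotient.mk K (rename some g) * Ideal.Quotient.mk K (X none) = 1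
      rw [← map_mul, ← sub_eq_zero, ← map_one (Ideal.Quotient.mk K), ← map_sub]
      exact Ideal.Quotient.eq_zero_iff_mem.mpr (Ideal.subset_span ⟨none, rfl⟩)
    have hu : IsUnit (θ a) := IsUnit.of_mul_eq_one _ hunit
    let Θ : B →+* (MvPolynomial (Option (Fin n)) R ⧸ K) := IsLocalization.Away.lift a hu
    have hΘ : ∀ x, Θ (algebraMap A B x) = θ x := fun x => IsLocalization.Away.lift_eq a hu x
    have hΘinv : Θ (IsLocalization.Away.invSelf a) = Ideal.Quotient.mk K (X none) := by
      have h1 : θ a * Θ (IsLocalization.Away.invSelf a) = 1 := by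
        rw [← hΘ, ← map_mul, alg_mul_inv, map_one]
      calc Θ (IsLocalization.Away.invSelf a)
          = Θ (IsLocalization.Away.invSelf a) * (θ a * Ideal.Quotient.mk K (X none)) := by
            rw [hunit, mul_one]
        _ = (θ a * Θ (IsLocalization.Away.invSelf a)) * Ideal.Quotient.mk K (X none) := by ring
        _ = _ := by rw [h1, one_mul]
    have hcomp : Θ.comp (phi B π a).toRingHom = Ideal.Quotient.mk K := by
      apply MvPolynomial.ringHom_ext
      · intro r
        show Θ (phi B π a (C r)) = _
        have : (C r : MvPolynomial (Option (Fin n)) R) =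
            rename some (C r : MvPolynomial (Fin n) R) := by rw [rename_C]
        rw [this, phi_rename, hΘ, hθ]; rfl
      · intro i
        cases i with
        | some i =>
          show Θ (phi B π a (X (some i))) = _
          have : (X (some i) : MvPolynomial (Option (Fin n)) R) =
              rename some (X i : MvPolynomial (Fin n) R) := by rw [rename_X]
          rw [this, phi_rename, hΘ, hθ]; rfl
        | none =>
          show Θ (phi B π a (X none)) = _
          rw [phi_X_none, hΘinv]
    have : Ideal.Quotient.mk K q = 0 := by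
      rw [← hcomp]
      show Θ (phi B π a q) = 0
      rw [show phi B π a q = 0 from hq, map_zero]
    exact Ideal.Quotient.eq_zero_iff_mem.mp this
  · rw [Ideal.span_le]
    rintro _ ⟨j, rfl⟩
    exact phi_kgen B π a f g hker hg j

end Main

section Cot

variable {R A : Type u} [CommRing R] [CommRing A] [Algebra R A]
variable (B : Type u) [CommRing B] [Algebra A B] [Algebra R B] [IsScalarTower R A B]
variable {n : ℕ} (π : MvPolynomial (Fin n) R →ₐ[R] A) (a : A) [IsLocalization.Away a B]
variable {m : ℕ} (f : Fin m → MvPolynomial (Fin n) R) (g : MvPolynomial (Fin n) R)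
variable (G : Algebra.Generators R B (Option (Fin n)))

/-- the hypotheses, bundled -/
structure Setup : Prop where
  surj : Function.Surjective π
  ker : RingHom.ker π.toRingHom = Ideal.span (Set.range f)
  hg : π g = a
  hG : ∀ x : MvPolynomial (Option (Fin n)) R, aeval G.val x = phi B π a x

variable {B π a f g G}

lemma Setup.mem_ker_iff (S : Setup B π a f g G) (x : MvPolynomial (Option (Fin n)) R) :
    x ∈ G.toExtension.ker ↔ phi B π a x = 0 := by
  rw [← S.hG]
  show x ∈ G.ker ↔ _
  rw [G.ker_eq_ker_aeval_val, RingHom.mem_ker]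

/-- the classes of the kernel generators in the cotangent module -/
noncomputable def Setup.cgen (S : Setup B π a f g G) (j : Option (Fin m)) :
    G.toExtension.Cotangent :=
  Algebra.Extension.Cotangent.mk
    ⟨kgen f g j, (S.mem_ker_iff _).mpr (phi_kgen B π a f g S.ker S.hg j)⟩

set_option backward.isDefEq.respectTransparency false in
lemma Setup.span_cgen (S : Setup B π a f g G) : Submodule.span B (Set.range S.cgen) = ⊤ := by
  have hs : (Ideal.span (Set.range (kgen f g : Option (Fin m) → G.toExtension.Ring)) :
      Ideal G.toExtension.Ring) = G.toExtension.ker := by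
    refine SetLike.ext fun x => ?_
    have h1 : x ∈ Ideal.span (Set.range (kgen f g)) ↔ phi B π a x = 0 := by
      rw [← ker_phi B π a f g S.surj S.ker S.hg]
      rfl
    exact h1.trans (S.mem_ker_iff x).symm
  exact Algebra.Extension.Cotangent.span_eq_top_of_span_eq_ker (P := G.toExtension)
    (kgen f g : Option (Fin m) → G.toExtension.Ring) hs

lemma image_lt_eq_range {M' : Type*} {c : ℕ} (hcm : c ≤ m) (F : Fin m → M') :
    F '' {j' : Fin m | (j' : ℕ) < c} = Set.range fun k : Fin c => F (Fin.castLE hcm k) := by
  ext x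
  constructor
  · rintro ⟨j', hj', rfl⟩
    exact ⟨⟨j', hj'⟩, rfl⟩
  · rintro ⟨k, rfl⟩
    exact ⟨Fin.castLE hcm k, k.2, rfl⟩

set_option backward.isDefEq.respectTransparency false in
lemma mk_mul (r z : G.toExtension.Ring) (hz : z ∈ G.toExtension.ker) :
    Algebra.Extension.Cotangent.mk (P := G.toExtension) ⟨r * z, Ideal.mul_mem_left _ r hz⟩ =
      (algebraMap G.toExtension.Ring B r) •
        Algebra.Extension.Cotangent.mk (P := G.toExtension) ⟨z, hz⟩ := by
  have : (⟨r * z, Ideal.mul_mem_left _ r hz⟩ : G.toExtension.ker) =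
      r • (⟨z, hz⟩ : G.toExtension.ker) := rfl
  rw [this, map_smul]
  rfl

set_option backward.isDefEq.respectTransparency false in
lemma Setup.algebraMap_eq (S : Setup B π a f g G) (r : G.toExtension.Ring) :
    algebraMap G.toExtension.Ring B r = phi B π a r := by
  rw [← S.hG]
  exact G.algebraMap_apply r

set_option backward.isDefEq.respectTransparency false in
lemma Setup.cgen_tail (S : Setup B π a f g G) {c : ℕ} (hcm : c ≤ m)
    (htail : ∀ j : Fin m, c ≤ (j : ℕ) → g * f j ∈
      Ideal.span (f '' {j' : Fin m | (j' : ℕ) < c}) ⊔ Ideal.span (Set.range f) ^ 2)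
    (j : Fin m) (hj : c ≤ (j : ℕ)) :
    S.cgen (some j) ∈
      Submodule.span B (Set.range fun k : Fin c => S.cgen (some (Fin.castLE hcm k))) := by
  set T := Submodule.span B (Set.range fun k : Fin c => S.cgen (some (Fin.castLE hcm k))) with hT
  have hρker : ∀ j : Fin m,
      (rename some (f j) : MvPolynomial (Option (Fin n)) R) ∈ G.toExtension.ker := fun j =>
    (S.mem_ker_iff _).mpr (phi_kgen B π a f g S.ker S.hg (some j))
  let N : Ideal G.toExtension.Ring :=
    Submodule.map (Submodule.subtype G.toExtension.ker)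
      (Submodule.comap (Algebra.Extension.Cotangent.mk (P := G.toExtension))
        (T.restrictScalars G.toExtension.Ring))
  have hN : ∀ z : G.toExtension.Ring, z ∈ N ↔ ∃ hz : z ∈ G.toExtension.ker,
      Algebra.Extension.Cotangent.mk (P := G.toExtension) ⟨z, hz⟩ ∈ T := by
    intro z
    constructor
    · rintro ⟨⟨z', hz'⟩, hmem, rfl⟩
      exact ⟨hz', hmem⟩
    · rintro ⟨hz, hmem⟩
      exact ⟨⟨z, hz⟩, hmem, rfl⟩
  have h1 : Ideal.map (rename some :
      MvPolynomial (Fin n) R →ₐ[R] MvPolynomial (Option (Fin n)) R)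
      (Ideal.span (f '' {j' : Fin m | (j' : ℕ) < c})) ≤ N := by
    rw [image_lt_eq_range hcm f, Ideal.map_span, Ideal.span_le]
    rintro _ ⟨_, ⟨k, rfl⟩, rfl⟩
    exact (hN _).mpr ⟨hρker _, Submodule.subset_span ⟨k, rfl⟩⟩
  have h2 : G.toExtension.ker ^ 2 ≤ N := by
    intro z hz
    refine (hN z).mpr ⟨Ideal.pow_le_self two_ne_zero hz, ?_⟩
    rw [(Algebra.Extension.Cotangent.mk_eq_zero_iff _).mpr hz]
    exact zero_mem _
  have h3 : Ideal.map (rename some :
      MvPolynomial (Fin n) R →ₐ[R] MvPolynomial (Option (Fin n)) R)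
      (Ideal.span (Set.range f) ^ 2) ≤ G.toExtension.ker ^ 2 := by
    have h1 : Ideal.map (rename some :
        MvPolynomial (Fin n) R →ₐ[R] MvPolynomial (Option (Fin n)) R)
        (Ideal.span (Set.range f)) ≤ G.toExtension.ker := by
      rw [Ideal.map_span, Ideal.span_le]
      rintro _ ⟨_, ⟨j, rfl⟩, rfl⟩
      exact hρker j
    rw [Ideal.map_pow]
    exact Ideal.pow_right_mono h1 2
  have h4 : (rename some (g * f j) : MvPolynomial (Option (Fin n)) R) ∈ N := by
    have := Ideal.mem_map_of_mem (rename some :
      MvPolynomial (Fin n) R →ₐ[R] MvPolynomial (Option (Fin n)) R) (htail j hj)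
    rw [Ideal.map_sup] at this
    exact (sup_le h1 (h3.trans h2)) this
  obtain ⟨hz, hmem⟩ := (hN _).mp h4
  have h5 : algebraMap A B a • S.cgen (some j) ∈ T := by
    have e1 := mk_mul (G := G) (rename some g) (rename some (f j)) (hρker j)
    rw [S.algebraMap_eq, phi_rename, S.hg] at e1
    have e2 : (⟨rename some (g * f j), hz⟩ : G.toExtension.ker) =
        ⟨rename some g * rename some (f j), Ideal.mul_mem_left _ _ (hρker j)⟩ :=
      Subtype.ext (map_mul _ _ _)
    rw [e2, e1] at hmem
    exact hmem
  have : S.cgen (some j) =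
      (IsLocalization.Away.invSelf a : B) • (algebraMap A B a • S.cgen (some j)) := by
    rw [smul_smul, mul_comm, alg_mul_inv B a, one_smul]
  rw [this]
  exact Submodule.smul_mem _ _ h5

omit [IsLocalization.Away a B] in
lemma pderiv_none_rename (q : MvPolynomial (Fin n) R) :
    pderiv (none : Option (Fin n)) (rename some q) = 0 := by
  classical
  apply pderiv_eq_zero_of_notMem_vars
  intro h
  have := vars_rename some q h
  simp at this

lemma pderiv_some_rename (i : Fin n) (q : MvPolynomial (Fin n) R) :
    pderiv (some i) (rename some q) = rename some (pderiv i q) :=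
  pderiv_rename (Option.some_injective _) i q

lemma Setup.repr_cc_cgen (S : Setup B π a f g G) (j : Option (Fin m)) (i : Option (Fin n)) :
    G.cotangentSpaceBasis.repr (G.toExtension.cotangentComplex (S.cgen j)) i =
      phi B π a (pderiv i (kgen f g j)) := by
  unfold Setup.cgen
  rw [Algebra.Extension.cotangentComplex_mk, G.cotangentSpaceBasis_repr_one_tmul, S.hG]

variable (B π a f g)

lemma phi_pderiv_kgen_some_some (i : Fin n) (j : Fin m) :
    phi B π a (pderiv (some i) (kgen f g (some j))) = algebraMap A B (π (pderiv i (f j))) := by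
  show phi B π a (pderiv (some i) (rename some (f j))) = _
  rw [pderiv_some_rename, phi_rename]

lemma phi_pderiv_kgen_none_some (j : Fin m) :
    phi B π a (pderiv none (kgen f g (some j))) = 0 := by
  show phi B π a (pderiv none (rename some (f j))) = _
  rw [pderiv_none_rename, map_zero]

lemma phi_pderiv_kgen_some_none (i : Fin n) :
    phi B π a (pderiv (some i) (kgen f g none)) =
      algebraMap A B (π (pderiv i g)) * IsLocalization.Away.invSelf a := by
  show phi B π a (pderiv (some i) (rename some g * X none - 1)) = _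
  rw [map_sub, pderiv_mul, pderiv_one, pderiv_some_rename, pderiv_X_of_ne (by simp), mul_zero,
    add_zero, sub_zero, map_mul, phi_rename, phi_X_none]

lemma phi_pderiv_kgen_none_none (hg : π g = a) :
    phi B π a (pderiv none (kgen f g none)) = algebraMap A B a := by
  show phi B π a (pderiv none (rename some g * X none - 1)) = _
  rw [map_sub, pderiv_mul, pderiv_one, pderiv_none_rename, pderiv_X_self, zero_mul, zero_add,
    mul_one, sub_zero, phi_rename, hg]

variable {B π a f g}

/-- row of `L` extended by zero -/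
def rowL {c : ℕ} (L : Matrix (Fin n) (Fin c) B) (i : Fin n) : Option (Fin c) → B :=
  fun k => k.elim 0 (L i)

/-- columns of the retraction -/
noncomputable def lamCol {c : ℕ} (L : Matrix (Fin n) (Fin c) B) (v : Fin n → B) (ainv : B) :
    Option (Fin n) → (Option (Fin c) → B)
  | some i => rowL L i
  | none => ainv • (Pi.single none 1 - ∑ i, v i • rowL L i)

/-- the retraction to `B^{c+1}` -/
noncomputable def Lam (G : Algebra.Generators R B (Option (Fin n))) {c : ℕ}
    (L : Matrix (Fin n) (Fin c) B) (v : Fin n → B) (ainv : B) :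
    G.toExtension.CotangentSpace →ₗ[B] (Option (Fin c) → B) :=
  G.cotangentSpaceBasis.constr B (lamCol L v ainv)

lemma Lam_apply {c : ℕ} (L : Matrix (Fin n) (Fin c) B) (v : Fin n → B) (ainv : B)
    (x : G.toExtension.CotangentSpace) :
    Lam G L v ainv x = G.cotangentSpaceBasis.repr x none •
        (ainv • (Pi.single none 1 - ∑ i, v i • rowL L i)) +
      ∑ i, G.cotangentSpaceBasis.repr x (some i) • rowL L i := by
  unfold Lam
  rw [Module.Basis.constr_apply_fintype, Fintype.sum_option]
  rfl

lemma Setup.Lam_cc_cgen (S : Setup B π a f g G) {c : ℕ} (hcm : c ≤ m)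
    (L : Matrix (Fin n) (Fin c) B)
    (hL : (Matrix.of fun (k : Fin c) (i : Fin n) =>
      algebraMap A B (π (pderiv i (f (Fin.castLE hcm k))))) * L = 1)
    (k : Option (Fin c)) :
    Lam G L (fun i => algebraMap A B (π (pderiv i g)) * IsLocalization.Away.invSelf a)
      (IsLocalization.Away.invSelf a)
      (G.toExtension.cotangentComplex (S.cgen (k.map (Fin.castLE hcm)))) = Pi.single k 1 := by
  rw [Lam_apply]
  simp only [S.repr_cc_cgen]
  cases k with
  | none =>
    simp only [Option.map_none]
    rw [phi_pderiv_kgen_none_none B π a f g S.hg]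
    simp only [phi_pderiv_kgen_some_none]
    rw [smul_smul, alg_mul_inv B a, one_smul, sub_add_cancel]
  | some k =>
    simp only [Option.map_some]
    rw [phi_pderiv_kgen_none_some, zero_smul, zero_add]
    simp only [phi_pderiv_kgen_some_some]
    funext k'
    rw [Finset.sum_apply]
    cases k' with
    | none => simp [rowL]
    | some k' =>
      have := congrFun (congrFun hL k) k'
      rw [Matrix.mul_apply] at this
      simp only [Pi.smul_apply, rowL, Option.elim_some, smul_eq_mul]
      simp only [Matrix.of_apply] at this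
      rw [this, Matrix.one_apply, Pi.single_apply]
      simp [eq_comm]

/-- the basis candidates of the cotangent module -/
noncomputable def Setup.gen (S : Setup B π a f g G) {c : ℕ} (hcm : c ≤ m) (k : Option (Fin c)) :
    G.toExtension.Cotangent :=
  S.cgen (k.map (Fin.castLE hcm))

lemma Setup.span_gen (S : Setup B π a f g G) {c : ℕ} (hcm : c ≤ m)
    (htail : ∀ j : Fin m, c ≤ (j : ℕ) → g * f j ∈
      Ideal.span (f '' {j' : Fin m | (j' : ℕ) < c}) ⊔ Ideal.span (Set.range f) ^ 2) :
    Submodule.span B (Set.range (S.gen hcm)) = ⊤ := by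
  rw [eq_top_iff, ← S.span_cgen, Submodule.span_le]
  rintro _ ⟨j, rfl⟩
  cases j with
  | none => exact Submodule.subset_span ⟨none, rfl⟩
  | some j =>
    by_cases hj : (j : ℕ) < c
    · exact Submodule.subset_span ⟨some ⟨j, hj⟩, rfl⟩
    · have := S.cgen_tail hcm htail j (not_lt.mp hj)
      refine Submodule.span_mono ?_ this
      rintro _ ⟨k, rfl⟩
      exact ⟨some k, rfl⟩


set_option backward.isDefEq.respectTransparency false in
theorem main_aux (S : Setup B π a f g G) {c : ℕ} (hcm : c ≤ m)
    (htail : ∀ j : Fin m, c ≤ (j : ℕ) → g * f j ∈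
      Ideal.span (f '' {j' : Fin m | (j' : ℕ) < c}) ⊔ Ideal.span (Set.range f) ^ 2)
    (b : (Fin c → Fin n) → A)
    (hb : ∑ I, b I * π (Matrix.det (Matrix.of fun j k : Fin c =>
      pderiv (I k) (f (Fin.castLE hcm j)))) = a) :
    Algebra.FormallySmooth R B ∧
      Nonempty ((Ω[B⁄R] × (Fin (c + 1) → B)) ≃ₗ[B] (Fin (n + 1) → B)) := by
  classical
  -- the Jacobian matrix over `B`
  set J₀ : Matrix (Fin c) (Fin n) B := Matrix.of fun (k : Fin c) (i : Fin n) =>
      algebraMap A B (π (pderiv i (f (Fin.castLE hcm k)))) with hJ₀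
  have hdet : ∀ I : Fin c → Fin n, (J₀.submatrix id I).det =
      algebraMap A B (π (Matrix.det (Matrix.of fun j k : Fin c =>
        pderiv (I k) (f (Fin.castLE hcm j))))) := by
    intro I
    have := RingHom.map_det ((algebraMap A B).comp π.toRingHom)
      (Matrix.of fun j k : Fin c => pderiv (I k) (f (Fin.castLE hcm j)))
    rw [show algebraMap A B (π (Matrix.det (Matrix.of fun j k : Fin c =>
        pderiv (I k) (f (Fin.castLE hcm j))))) = ((algebraMap A B).comp π.toRingHom)
        (Matrix.det (Matrix.of fun j k : Fin c => pderiv (I k) (f (Fin.castLE hcm j)))) from rfl,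
      this]
    congr 1
  have hsum : ∑ I : Fin c → Fin n, ((IsLocalization.Away.invSelf a : B) * algebraMap A B (b I)) *
      (J₀.submatrix id I).det = 1 := by
    simp_rw [hdet, mul_assoc, ← map_mul]
    rw [← Finset.mul_sum, ← map_sum, hb, mul_comm, alg_mul_inv B a]
  obtain ⟨L, hL⟩ := exists_rightInv J₀ _ hsum
  set Λ := Lam G L (fun i => algebraMap A B (π (pderiv i g)) * IsLocalization.Away.invSelf a)
    (IsLocalization.Away.invSelf a) with hΛdef
  have hΛ : ∀ k : Option (Fin c),
      Λ (G.toExtension.cotangentComplex (S.gen hcm k)) = Pi.single k 1 :=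
    fun k => S.Lam_cc_cgen hcm L hL k
  set ψ : (Option (Fin c) → B) →ₗ[B] G.toExtension.Cotangent :=
    Fintype.linearCombination B (S.gen hcm) with hψdef
  have hψ : ∀ k : Option (Fin c), ψ (Pi.single k 1) = S.gen hcm k := by
    intro k
    rw [hψdef, Fintype.linearCombination_apply_single, one_smul]
  set l : G.toExtension.CotangentSpace →ₗ[B] G.toExtension.Cotangent := ψ ∘ₗ Λ with hldef
  have hl : l ∘ₗ G.toExtension.cotangentComplex = LinearMap.id := by
    apply LinearMap.ext_on (S.span_gen hcm htail)
    rintro _ ⟨k, rfl⟩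
    show ψ (Λ (G.toExtension.cotangentComplex (S.gen hcm k))) = S.gen hcm k
    rw [hΛ, hψ]
  have hl' : ∀ y, l (G.toExtension.cotangentComplex y) = y := fun y =>
    LinearMap.congr_fun hl y
  refine ⟨?_, ?_⟩
  · haveI : Algebra.FormallySmooth R G.toExtension.Ring :=
      inferInstanceAs (Algebra.FormallySmooth R (MvPolynomial (Option (Fin n)) R))
    exact (G.toExtension.formallySmooth_iff_split_injection).mpr ⟨l, hl⟩
  · -- `ψ` is bijective
    have hΛψ : ∀ x, Λ (G.toExtension.cotangentComplex (ψ x)) = x := by
      have : Λ ∘ₗ G.toExtension.cotangentComplex ∘ₗ ψ = LinearMap.id := by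
        apply LinearMap.pi_ext'
        intro k
        apply LinearMap.ext_ring
        show Λ (G.toExtension.cotangentComplex (ψ (Pi.single k 1))) = Pi.single k 1
        rw [hψ, hΛ]
      exact fun x => LinearMap.congr_fun this x
    have hψinj : Function.Injective ψ := by
      intro x y hxy
      rw [← hΛψ x, ← hΛψ y, hxy]
    have hψsurj : Function.Surjective ψ := by
      rw [← LinearMap.range_eq_top, hψdef, Fintype.range_linearCombination]
      exact S.span_gen hcm htail
    let e2 : (Option (Fin c) → B) ≃ₗ[B] G.toExtension.Cotangent :=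
      LinearEquiv.ofBijective ψ ⟨hψinj, hψsurj⟩
    -- the splitting
    have hex := G.toExtension.exact_cotangentComplex_toKaehler
    have hinj1 : Function.Injective (l.prod G.toExtension.toKaehler) := by
      rw [injective_iff_map_eq_zero]
      intro x hx
      have hx1 : l x = 0 := congrArg Prod.fst hx
      have hx2 : G.toExtension.toKaehler x = 0 := congrArg Prod.snd hx
      obtain ⟨y, rfl⟩ := (hex x).mp hx2
      rw [hl'] at hx1
      rw [hx1, map_zero]
    have hsurj1 : Function.Surjective (l.prod G.toExtension.toKaehler) := by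
      rintro ⟨y, ω⟩
      obtain ⟨x₀, rfl⟩ := G.toExtension.toKaehler_surjective ω
      refine ⟨x₀ + G.toExtension.cotangentComplex (y - l x₀), ?_⟩
      apply Prod.ext
      · show l (x₀ + G.toExtension.cotangentComplex (y - l x₀)) = y
        rw [map_add, hl', add_sub_cancel]
      · show G.toExtension.toKaehler (x₀ + G.toExtension.cotangentComplex (y - l x₀)) = _
        rw [map_add, hex.apply_apply_eq_zero, add_zero]
    let e1 : G.toExtension.CotangentSpace ≃ₗ[B] (G.toExtension.Cotangent × Ω[B⁄R]) :=
      LinearEquiv.ofBijective (l.prod G.toExtension.toKaehler) ⟨hinj1, hsurj1⟩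
    exact ⟨(LinearEquiv.prodCongr (LinearEquiv.refl B (Ω[B⁄R]))
        (LinearEquiv.funCongrLeft B B (finSuccEquiv c).symm)) ≪≫ₗ
      (LinearEquiv.prodCongr (LinearEquiv.refl B (Ω[B⁄R])) e2) ≪≫ₗ
      (LinearEquiv.prodComm B _ _) ≪≫ₗ e1.symm ≪≫ₗ G.cotangentSpaceBasis.equivFun ≪≫ₗ
      (LinearEquiv.funCongrLeft B B (finSuccEquiv n))⟩

end Cot

/-- **S2030**. -/
theorem main {R A : Type u} [CommRing R] [CommRing A] [Algebra R A] (a : A)
    (ha : Smoothing.IsStrictlyStandard R A a) :
    Algebra.Smooth R (Localization.Away a) ∧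
      ∃ p q : ℕ, Nonempty ((Ω[Localization.Away a⁄R] × (Fin p → Localization.Away a))
        ≃ₗ[Localization.Away a] (Fin q → Localization.Away a)) := by
  obtain ⟨P, hmem, hkill⟩ := ha
  obtain ⟨g, hg⟩ := P.surj a
  obtain ⟨b, hb⟩ := (Submodule.mem_span_range_iff_exists_fun _).mp hmem
  have hsurj := phi_surjective (Localization.Away a) P.hom a P.surj
  let G : Algebra.Generators R (Localization.Away a) (Option (Fin P.n)) :=
    Algebra.Generators.ofSurjective (gval (Localization.Away a) P.hom a) hsurj
  have S : Setup (Localization.Away a) P.hom a P.rel g G := ⟨P.surj, P.ker_eq, hg, fun x => rfl⟩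
  have htail := hkill g hg
  obtain ⟨h1, h2⟩ := main_aux S P.hcm htail b hb
  refine ⟨⟨h1, ?_⟩, P.c + 1, P.n + 1, h2⟩
  refine Algebra.FinitePresentation.of_surjective (f := phi (Localization.Away a) P.hom a) hsurj ?_
  rw [ker_phi (Localization.Away a) P.hom a P.rel g P.surj P.ker_eq hg]
  exact Submodule.fg_span (Set.finite_range _)

end Groth.Agent.Lib.StrictStdH1
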