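import Mathlib
import Groth.Prelude.Def_Smoothing
import Groth.Agent.Lib.Smoothing1_helper1
import Groth.Agent.Lib.StrictStd_helper1

/-!
Helper library (helper4): the lifting lemma of Néron–Popescu desingularization
(Stacks, "Smoothing ring maps", the lifting lemma).  APPEND-ONLY once landed.
-/

set_option autoImplicit false
set_option linter.unusedVariables false
set_option linter.unusedTactic false
set_option linter.unreachableTactic false
set_option linter.unusedSectionVars false
set_option linter.style.haveILetI false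
set_option maxHeartbeats 800000

universe u

namespace Groth.Agent.Lib.LiftLemmaH4

open MvPolynomial

section Generic

variable {R : Type*} [CommRing R]

/-- Second order Taylor expansion at a point. -/
theorem taylor {σ : Type*} [Fintype σ] (r : σ → R) (f : MvPolynomial σ R) :
    f - C (eval r f) - ∑ i, C (eval r (pderiv i f)) * (X i - C (r i)) ∈
      (Ideal.span (Set.range fun i : σ => (X i - C (r i) : MvPolynomial σ R))) ^ 2 := by
  classical
  induction f using MvPolynomial.induction_on with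
  | C a =>
    have h0 : (C a : MvPolynomial σ R) - C (eval r (C a)) -
        ∑ i, C (eval r (pderiv i (C a))) * (X i - C (r i)) = 0 := by
      have h1 : ∀ i : σ, C (eval r (pderiv i (C a : MvPolynomial σ R))) * (X i - C (r i)) = 0 := by
        intro i
        rw [pderiv_C, map_zero, map_zero, zero_mul]
      rw [Finset.sum_congr rfl (fun i _ => h1 i), Finset.sum_const_zero, eval_C, sub_self,
        sub_zero]
    rw [h0]
    exact Ideal.zero_mem _
  | add p q hp hq =>
    have h0 : (p + q) - C (eval r (p + q)) -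
        ∑ i, C (eval r (pderiv i (p + q))) * (X i - C (r i)) =
        (p - C (eval r p) - ∑ i, C (eval r (pderiv i p)) * (X i - C (r i))) +
        (q - C (eval r q) - ∑ i, C (eval r (pderiv i q)) * (X i - C (r i))) := by
      have h1 : ∀ i : σ, C (eval r (pderiv i (p + q))) * (X i - C (r i)) =
          C (eval r (pderiv i p)) * (X i - C (r i)) +
            C (eval r (pderiv i q)) * (X i - C (r i)) := by
        intro i
        rw [map_add, map_add, map_add, add_mul]
      rw [Finset.sum_congr rfl (fun i _ => h1 i), Finset.sum_add_distrib, map_add, map_add]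
      ring
    rw [h0]
    exact Ideal.add_mem _ hp hq
  | mul_X p k hp =>
    have hd : ∀ i : σ, eval r (pderiv i (p * X k)) =
        eval r (pderiv i p) * r k + (if i = k then eval r p else 0) := by
      intro i
      rw [pderiv_mul, map_add, map_mul, map_mul, eval_X]
      congr 1
      split_ifs with h
      · rw [h, pderiv_X_self, map_one, mul_one]
      · rw [pderiv_X_of_ne (Ne.symm h), map_zero, mul_zero]
    have hsum : ∑ i, C (eval r (pderiv i (p * X k))) * (X i - C (r i)) =
        C (r k) * ∑ i, C (eval r (pderiv i p)) * (X i - C (r i)) +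
          C (eval r p) * (X k - C (r k)) := by
      have h1 : ∀ i : σ, C (eval r (pderiv i (p * X k))) * (X i - C (r i)) =
          C (r k) * (C (eval r (pderiv i p)) * (X i - C (r i))) +
            (if i = k then C (eval r p) * (X k - C (r k)) else 0) := by
        intro i
        rw [hd i, map_add, map_mul, add_mul]
        congr 1
        · ring
        · split_ifs with h
          · rw [h]
          · rw [map_zero, zero_mul]
      rw [Finset.sum_congr rfl (fun i _ => h1 i), Finset.sum_add_distrib, ← Finset.mul_sum,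
        Finset.sum_ite_eq' Finset.univ k (fun _ => C (eval r p) * (X k - C (r k))),
        if_pos (Finset.mem_univ k)]
    have key : (p * X k) - C (eval r (p * X k)) -
        ∑ i, C (eval r (pderiv i (p * X k))) * (X i - C (r i)) =
        (p - C (eval r p) - ∑ i, C (eval r (pderiv i p)) * (X i - C (r i))) * X k +
          (X k - C (r k)) * ∑ i, C (eval r (pderiv i p)) * (X i - C (r i)) := by
      rw [hsum, map_mul (eval r), eval_X, map_mul C]
      ring
    rw [key]
    have hk : ∀ i : σ, (X i - C (r i) : MvPolynomial σ R) ∈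
        Ideal.span (Set.range fun i : σ => (X i - C (r i) : MvPolynomial σ R)) :=
      fun i => Ideal.subset_span ⟨i, rfl⟩
    have hS : ∑ i, C (eval r (pderiv i p)) * (X i - C (r i)) ∈
        Ideal.span (Set.range fun i : σ => (X i - C (r i) : MvPolynomial σ R)) :=
      Ideal.sum_mem _ (fun i _ => Ideal.mul_mem_left _ _ (hk i))
    refine Ideal.add_mem _ (Ideal.mul_mem_right _ _ hp) ?_
    rw [pow_two]
    exact Ideal.mul_mem_mul (hk k) hS

/-- Chain rule for partial derivatives along an algebra map of polynomial rings. -/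
theorem pderiv_algHom {σ τ : Type*} [Fintype σ]
    (θ : MvPolynomial σ R →ₐ[R] MvPolynomial τ R) (t : τ) (f : MvPolynomial σ R) :
    pderiv t (θ f) = ∑ i, θ (pderiv i f) * pderiv t (θ (X i)) := by
  classical
  induction f using MvPolynomial.induction_on with
  | C a =>
    have h1 : θ (C a) = C a := by
      have h := θ.commutes a
      rw [algebraMap_eq, algebraMap_eq] at h
      exact h
    have h2 : ∀ i : σ, θ (pderiv i (C a : MvPolynomial σ R)) * pderiv t (θ (X i)) = 0 := by
      intro i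
      rw [pderiv_C, map_zero, zero_mul]
    rw [h1, pderiv_C, Finset.sum_congr rfl (fun i _ => h2 i), Finset.sum_const_zero]
  | add p q hp hq =>
    have h1 : ∀ i : σ, θ (pderiv i (p + q)) * pderiv t (θ (X i)) =
        θ (pderiv i p) * pderiv t (θ (X i)) + θ (pderiv i q) * pderiv t (θ (X i)) := by
      intro i
      rw [map_add, map_add, add_mul]
    rw [map_add, map_add, hp, hq, Finset.sum_congr rfl (fun i _ => h1 i),
      Finset.sum_add_distrib]
  | mul_X p k hp =>
    have h1 : ∀ i : σ, θ (pderiv i (p * X k)) * pderiv t (θ (X i)) =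
        θ (X k) * (θ (pderiv i p) * pderiv t (θ (X i))) +
          (if i = k then θ p * pderiv t (θ (X k)) else 0) := by
      intro i
      rw [pderiv_mul, map_add, map_mul, map_mul, add_mul]
      congr 1
      · ring
      · split_ifs with h
        · rw [h, pderiv_X_self, map_one, mul_one]
        · rw [pderiv_X_of_ne (Ne.symm h), map_zero, mul_zero, zero_mul]
    rw [map_mul θ, pderiv_mul, hp, Finset.sum_congr rfl (fun i _ => h1 i),
      Finset.sum_add_distrib, ← Finset.mul_sum,
      Finset.sum_ite_eq' Finset.univ k (fun _ => θ p * pderiv t (θ (X k))),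
      if_pos (Finset.mem_univ k)]
    ring

/-- A matrix whose maximal minors generate `d` has a right inverse up to `d`. -/
theorem exists_rightInv_smul {B : Type*} [CommRing B] {n c : ℕ} (J : Matrix (Fin c) (Fin n) B)
    (b : (Fin c → Fin n) → B) (d : B) (hb : ∑ I, b I * (J.submatrix id I).det = d) :
    ∃ L : Matrix (Fin n) (Fin c) B, J * L = d • (1 : Matrix (Fin c) (Fin c) B) := by
  refine ⟨∑ I, b I • ((StrictStdH1.selMat B I : Matrix (Fin n) (Fin c) B) *
    (Matrix.adjugate (J.submatrix id I) : Matrix (Fin c) (Fin c) B)), ?_⟩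
  rw [Matrix.mul_sum]
  have h : ∀ I : Fin c → Fin n, J * (b I • ((StrictStdH1.selMat B I : Matrix (Fin n) (Fin c) B) *
      (Matrix.adjugate (J.submatrix id I) : Matrix (Fin c) (Fin c) B))) =
      (b I * (J.submatrix id I).det) • (1 : Matrix (Fin c) (Fin c) B) := by
    intro I
    rw [Matrix.mul_smul, ← Matrix.mul_assoc, StrictStdH1.mul_selMat, Matrix.mul_adjugate,
      smul_smul]
  rw [Finset.sum_congr rfl (fun I _ => h I), ← Finset.sum_smul, hb]

/-- Cancelling powers of `π` in a polynomial ring, at the price of `r ^ 2`. -/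
theorem ann_poly {σ : Type*} (π r : R) (hr : ∀ x : R, π ^ 2 * x = 0 → π * (r * x) = 0)
    (G : MvPolynomial σ R) (hG : C (π ^ 3) * G = 0) : C (π * r ^ 2) * G = 0 := by
  ext m
  have h1 : π ^ 3 * coeff m G = 0 := by
    have h := congrArg (coeff m) hG
    rw [coeff_C_mul, coeff_zero] at h
    exact h
  rw [coeff_C_mul, coeff_zero]
  have h2 : π ^ 2 * (π * coeff m G) = 0 := by
    calc π ^ 2 * (π * coeff m G) = π ^ 3 * coeff m G := by ring
      _ = 0 := h1
  have h3 : π * (r * (π * coeff m G)) = 0 := hr _ h2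
  have h4 : π ^ 2 * (r * coeff m G) = 0 := by
    calc π ^ 2 * (r * coeff m G) = π * (r * (π * coeff m G)) := by ring
      _ = 0 := h3
  have h5 : π * (r * (r * coeff m G)) = 0 := hr _ h4
  calc π * r ^ 2 * coeff m G = π * (r * (r * coeff m G)) := by ring
    _ = 0 := h5

/-- If `π` and `π ^ 2` have the same annihilator, so do `π` and `π ^ (k + 1)`. -/
theorem smul_pow_ann {Λ : Type*} [CommRing Λ] [Algebra R Λ] (π : R)
    (hΛ : ∀ x : Λ, π ^ 2 • x = 0 → π • x = 0) (k : ℕ) (x : Λ) (h : π ^ (k + 1) • x = 0) :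
    π • x = 0 := by
  induction k with
  | zero =>
    rw [zero_add, pow_one] at h
    exact h
  | succ k ih =>
    apply ih
    have h1 : π ^ 2 • (π ^ k • x) = 0 := by
      rw [smul_smul, ← pow_add]
      have h2 : 2 + k = k + 1 + 1 := by omega
      rw [h2]
      exact h
    have h2 := hΛ _ h1
    rw [smul_smul, ← pow_succ'] at h2
    exact h2

end Generic

section Core

/-- The lifting lemma with unbundled presentation data. -/
theorem core {R Λ A : Type u} [CommRing R] [CommRing Λ] [Algebra R Λ] (π : R)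
    (hΛ : ∀ x : Λ, π ^ 2 • x = 0 → π • x = 0) [CommRing A] [Algebra R A] (φ : A →ₐ[R] Λ)
    (ρ : A →ₐ[R] R ⧸ Ideal.span {π ^ 4})
    (hρ : ∀ (a : A) (r : R), Ideal.Quotient.mk (Ideal.span {π ^ 4}) r = ρ a →
      algebraMap R Λ r - φ a ∈ Ideal.span {algebraMap R Λ (π ^ 4)})
    {n m c : ℕ} (hcm : c ≤ m) (rel : Fin m → MvPolynomial (Fin n) R)
    (hom : MvPolynomial (Fin n) R →ₐ[R] A) (surj : Function.Surjective hom)
    (ker_eq : RingHom.ker hom.toRingHom = Ideal.span (Set.range rel))
    (hmem : algebraMap R A π ∈ Ideal.span (Set.range fun cols : Fin c → Fin n =>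
      hom (Smoothing.jacobianMinor rel (Fin.castLE hcm) cols)))
    (htail : ∀ j : Fin m, c ≤ (j : ℕ) → C π * rel j ∈
      Ideal.span (rel '' {j' : Fin m | (j' : ℕ) < c}) ⊔ Ideal.span (Set.range rel) ^ 2) :
    ∃ (B : Type u) (_ : CommRing B) (_ : Algebra R B), Algebra.FinitePresentation R B ∧
      ∃ (α : A →ₐ[R] B) (β : B →ₐ[R] Λ), β.comp α = φ ∧
        ∀ r : R, (∀ x : R, π ^ 2 * x = 0 → π * (r * x) = 0) →
          algebraMap R B r ∈ Smoothing.singularIdeal R B := by
  classical
  -- Step 1: the point `r0` and the elements `lam`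
  have hr_ex : ∀ i : Fin n, ∃ s : R,
      Ideal.Quotient.mk (Ideal.span {π ^ 4}) s = ρ (hom (X i)) :=
    fun i => Ideal.Quotient.mk_surjective _
  choose r0 hr0 using hr_ex
  have hl_ex : ∀ i : Fin n, ∃ l : Λ,
      algebraMap R Λ (r0 i) - φ (hom (X i)) = algebraMap R Λ (π ^ 4) * l := by
    intro i
    have h1 := hρ (hom (X i)) (r0 i) (hr0 i)
    rw [Ideal.mem_span_singleton'] at h1
    obtain ⟨l, hl⟩ := h1
    exact ⟨l, by rw [← hl, mul_comm]⟩
  choose lam hlam using hl_ex
  -- Step 2: `ρ ∘ hom` is evaluation at `r0`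
  have hρev : ∀ g : MvPolynomial (Fin n) R,
      ρ (hom g) = Ideal.Quotient.mk (Ideal.span {π ^ 4}) (eval r0 g) := by
    have h1 : ρ.comp hom = (Ideal.Quotient.mkₐ R (Ideal.span {π ^ 4})).comp
        (aeval r0 : MvPolynomial (Fin n) R →ₐ[R] R) := by
      apply MvPolynomial.algHom_ext
      intro i
      rw [AlgHom.comp_apply, AlgHom.comp_apply, aeval_X, Ideal.Quotient.mkₐ_eq_mk, ← hr0 i]
    intro g
    have h2 := DFunLike.congr_fun h1 g
    rw [AlgHom.comp_apply, AlgHom.comp_apply, Ideal.Quotient.mkₐ_eq_mk] at h2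
    exact h2
  have hrel0 : ∀ j : Fin m, hom (rel j) = 0 := by
    intro j
    have h1 : rel j ∈ RingHom.ker hom.toRingHom := by
      rw [ker_eq]
      exact Ideal.subset_span ⟨j, rfl⟩
    exact (RingHom.mem_ker).mp h1
  have he_ex : ∀ j : Fin m, ∃ e : R, eval r0 (rel j) = π ^ 4 * e := by
    intro j
    have h1 := hρev (rel j)
    rw [hrel0 j, map_zero] at h1
    have h2 : eval r0 (rel j) ∈ Ideal.span {π ^ 4} :=
      Ideal.Quotient.eq_zero_iff_mem.mp h1.symm
    rw [Ideal.mem_span_singleton'] at h2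
    obtain ⟨e, he⟩ := h2
    exact ⟨e, by rw [← he, mul_comm]⟩
  choose e he using he_ex
  -- Step 3: the Jacobian matrix at `r0`
  obtain ⟨rr, hrr⟩ : ∃ rr : Fin m → Fin n → R, ∀ j i, rr j i = eval r0 (pderiv i (rel j)) :=
    ⟨fun j i => eval r0 (pderiv i (rel j)), fun _ _ => rfl⟩
  obtain ⟨J, hJ⟩ : ∃ J : Matrix (Fin c) (Fin n) R, ∀ k i, J k i = rr (Fin.castLE hcm k) i :=
    ⟨Matrix.of fun k i => rr (Fin.castLE hcm k) i, fun _ _ => rfl⟩
  have hminor0 : ∀ cols : Fin c → Fin n,
      eval r0 (Smoothing.jacobianMinor rel (Fin.castLE hcm) cols) =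
        (J.submatrix id cols).det := by
    intro cols
    unfold Smoothing.jacobianMinor
    rw [RingHom.map_det]
    congr 1
    ext j k
    simp only [RingHom.mapMatrix_apply, Matrix.map_apply, Matrix.of_apply,
      Matrix.submatrix_apply, id_eq, hJ, hrr]
  obtain ⟨a, ha⟩ := Ideal.mem_span_range_iff_exists_fun.mp hmem
  beta_reduce at ha
  have hb_ex : ∀ cols : Fin c → Fin n, ∃ b : R,
      Ideal.Quotient.mk (Ideal.span {π ^ 4}) b = ρ (a cols) :=
    fun cols => Ideal.Quotient.mk_surjective _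
  choose b hb using hb_ex
  have h2b : ∀ cols : Fin c → Fin n,
      ρ (a cols * hom (Smoothing.jacobianMinor rel (Fin.castLE hcm) cols)) =
        Ideal.Quotient.mk (Ideal.span {π ^ 4}) (b cols * (J.submatrix id cols).det) := by
    intro cols
    rw [map_mul ρ, ← hb cols, hρev, hminor0 cols, ← map_mul]
  have hsumb : Ideal.Quotient.mk (Ideal.span {π ^ 4})
      (∑ cols, b cols * (J.submatrix id cols).det) =
        Ideal.Quotient.mk (Ideal.span {π ^ 4}) π := by
    have h1 := congrArg ρ ha
    rw [map_sum, AlgHom.commutes, Finset.sum_congr rfl (fun cols _ => h2b cols),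
      ← map_sum] at h1
    exact h1
  obtain ⟨t, ht⟩ : ∃ t : R, π - ∑ cols, b cols * (J.submatrix id cols).det = t * π ^ 4 := by
    have h1 : π - ∑ cols, b cols * (J.submatrix id cols).det ∈ Ideal.span {π ^ 4} := by
      rw [← Ideal.Quotient.eq_zero_iff_mem, map_sub, hsumb, sub_self]
    rw [Ideal.mem_span_singleton'] at h1
    obtain ⟨t, ht⟩ := h1
    exact ⟨t, ht.symm⟩
  obtain ⟨u, hu1, huπ⟩ : ∃ u : R, u = 1 + π * (-(t * π ^ 2)) ∧
      ∑ cols, b cols * (J.submatrix id cols).det = u * π :=
    ⟨1 + π * (-(t * π ^ 2)), rfl, by linear_combination (-1 : R) * ht⟩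
  obtain ⟨S, hS0⟩ := exists_rightInv_smul J b (u * π) huπ
  have hS : ∀ k k' : Fin c,
      ∑ i, rr (Fin.castLE hcm k) i * S i k' = if k = k' then u * π else 0 := by
    intro k k'
    have h1 := congrFun (congrFun hS0 k) k'
    rw [Matrix.mul_apply, Matrix.smul_apply, Matrix.one_apply] at h1
    simp only [hJ] at h1
    rw [h1]
    split_ifs
    · rw [smul_eq_mul, mul_one]
    · rw [smul_zero]
  -- Step 4: the new polynomial ring
  obtain ⟨Y, hY⟩ : ∃ Y : Fin c → MvPolynomial (Fin (c + n)) R,
      ∀ k, Y k = X (Fin.castAdd n k) := ⟨fun k => X (Fin.castAdd n k), fun _ => rfl⟩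
  obtain ⟨W, hW⟩ : ∃ W : Fin n → MvPolynomial (Fin (c + n)) R,
      ∀ i, W i = X (Fin.natAdd c i) := ⟨fun i => X (Fin.natAdd c i), fun _ => rfl⟩
  obtain ⟨ℓ, hℓ⟩ : ∃ ℓ : Fin n → MvPolynomial (Fin (c + n)) R,
      ∀ i, ℓ i = ∑ k, C (S i k) * Y k + C π * W i :=
    ⟨fun i => ∑ k, C (S i k) * Y k + C π * W i, fun _ => rfl⟩
  obtain ⟨θ, hθ⟩ : ∃ θ : MvPolynomial (Fin n) R →ₐ[R] MvPolynomial (Fin (c + n)) R,
      ∀ i, θ (X i) = C (r0 i) + C π ^ 2 * ℓ i :=
    ⟨aeval fun i => C (r0 i) + C π ^ 2 * ℓ i, fun i => aeval_X _ _⟩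
  have hθC : ∀ s : R, θ (C s) = C s := by
    intro s
    have h1 := θ.commutes s
    rw [algebraMap_eq, algebraMap_eq] at h1
    exact h1
  have hp2 : (C π : MvPolynomial (Fin (c + n)) R) ^ 2 = C (π ^ 2) := (map_pow C π 2).symm
  have hp3 : (C π : MvPolynomial (Fin (c + n)) R) ^ 3 = C (π ^ 3) := (map_pow C π 3).symm
  have hθX : ∀ i, θ (X i - C (r0 i)) = C π ^ 2 * ℓ i := by
    intro i
    rw [map_sub, hθ, hθC]
    ring
  have hθm : ∀ z ∈ (Ideal.span (Set.range fun i : Fin n =>
      (X i - C (r0 i) : MvPolynomial (Fin n) R))) ^ 2,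
      θ z ∈ Ideal.span {(C π : MvPolynomial (Fin (c + n)) R) ^ 4} := by
    intro z hz
    have h1 : Ideal.map θ (Ideal.span (Set.range fun i : Fin n =>
        (X i - C (r0 i) : MvPolynomial (Fin n) R))) ≤
        Ideal.span {(C π : MvPolynomial (Fin (c + n)) R) ^ 2} := by
      rw [Ideal.map_span, Ideal.span_le]
      rintro _ ⟨_, ⟨i, rfl⟩, rfl⟩
      show θ (X i - C (r0 i)) ∈ Ideal.span {(C π : MvPolynomial (Fin (c + n)) R) ^ 2}
      rw [hθX i]
      exact Ideal.mul_mem_right _ _ (Ideal.subset_span (Set.mem_singleton _))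
    have h2 := Ideal.mem_map_of_mem θ hz
    rw [Ideal.map_pow] at h2
    have h3 := Ideal.pow_right_mono h1 2 h2
    rw [Ideal.span_singleton_pow,
      show ((C π : MvPolynomial (Fin (c + n)) R) ^ 2) ^ 2 = C π ^ 4 from by ring] at h3
    exact h3
  have hq_ex : ∀ j : Fin m, ∃ q : MvPolynomial (Fin (c + n)) R,
      θ (rel j) = C π ^ 4 * C (e j) + ∑ i, C (rr j i) * (C π ^ 2 * ℓ i) + C π ^ 4 * q := by
    intro j
    have h1 := hθm _ (taylor r0 (rel j))
    rw [Ideal.mem_span_singleton'] at h1
    obtain ⟨q, hq⟩ := h1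
    refine ⟨q, ?_⟩
    rw [map_sub, map_sub, map_sum, hθC, he j] at hq
    have h2 : ∀ i : Fin n, θ (C (eval r0 (pderiv i (rel j))) * (X i - C (r0 i))) =
        C (rr j i) * (C π ^ 2 * ℓ i) := by
      intro i
      rw [map_mul, hθC, hθX, hrr]
    rw [Finset.sum_congr rfl (fun i _ => h2 i)] at hq
    have h3 : (C (π ^ 4 * e j) : MvPolynomial (Fin (c + n)) R) = C π ^ 4 * C (e j) := by
      rw [map_mul, map_pow]
    rw [h3] at hq
    linear_combination (-1 : MvPolynomial (Fin (c + n)) R) * hq
  choose q hq using hq_ex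
  obtain ⟨h', hh'⟩ : ∃ h' : Fin m → MvPolynomial (Fin (c + n)) R, ∀ j, h' j =
      C π ^ 2 * C (e j) + ∑ i, C (rr j i) * ℓ i + C π ^ 2 * q j :=
    ⟨fun j => C π ^ 2 * C (e j) + ∑ i, C (rr j i) * ℓ i + C π ^ 2 * q j, fun _ => rfl⟩
  have hT : ∀ j, θ (rel j) = C π ^ 2 * h' j := by
    intro j
    rw [hq j, hh' j, mul_add, mul_add, Finset.mul_sum]
    have h1 : ∀ i : Fin n, C (rr j i) * (C π ^ 2 * ℓ i) = C π ^ 2 * (C (rr j i) * ℓ i) :=
      fun i => by ring
    rw [Finset.sum_congr rfl (fun i _ => h1 i)]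
    ring
  obtain ⟨hh, hhh⟩ : ∃ hh : Fin c → MvPolynomial (Fin (c + n)) R, ∀ k, hh k =
      C π * C (e (Fin.castLE hcm k)) + C u * Y k + ∑ i, C (rr (Fin.castLE hcm k) i) * W i
        + C π * q (Fin.castLE hcm k) :=
    ⟨fun k => C π * C (e (Fin.castLE hcm k)) + C u * Y k +
      ∑ i, C (rr (Fin.castLE hcm k) i) * W i + C π * q (Fin.castLE hcm k), fun _ => rfl⟩
  have hmid : ∀ k : Fin c,
      ∑ i, C (rr (Fin.castLE hcm k) i) * (∑ k', C (S i k') * Y k') = C u * C π * Y k := by
    intro k
    calc ∑ i, C (rr (Fin.castLE hcm k) i) * (∑ k', C (S i k') * Y k')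
        = ∑ i, ∑ k', C (rr (Fin.castLE hcm k) i * S i k') * Y k' := by
          apply Finset.sum_congr rfl
          intro i _
          rw [Finset.mul_sum]
          apply Finset.sum_congr rfl
          intro k' _
          rw [map_mul]
          ring
      _ = ∑ k', ∑ i, C (rr (Fin.castLE hcm k) i * S i k') * Y k' := Finset.sum_comm
      _ = ∑ k', C (∑ i, rr (Fin.castLE hcm k) i * S i k') * Y k' := by
          apply Finset.sum_congr rfl
          intro k' _
          rw [map_sum, Finset.sum_mul]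
      _ = ∑ k', (if k = k' then C (u * π) * Y k' else 0) := by
          apply Finset.sum_congr rfl
          intro k' _
          rw [hS k k']
          split_ifs
          · rfl
          · rw [map_zero, zero_mul]
      _ = C (u * π) * Y k := by
          rw [Finset.sum_ite_eq Finset.univ k (fun k' => C (u * π) * Y k'),
            if_pos (Finset.mem_univ k)]
      _ = C u * C π * Y k := by rw [map_mul]
  have hh'k : ∀ k : Fin c, h' (Fin.castLE hcm k) = C π * hh k := by
    intro k
    rw [hh', hhh k]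
    have h1 : ∑ i, C (rr (Fin.castLE hcm k) i) * ℓ i =
        C u * C π * Y k + C π * ∑ i, C (rr (Fin.castLE hcm k) i) * W i := by
      rw [← hmid k, Finset.mul_sum, ← Finset.sum_add_distrib]
      apply Finset.sum_congr rfl
      intro i _
      rw [hℓ i]
      ring
    rw [h1]
    ring
  obtain ⟨F, hFlt, hFge⟩ : ∃ F : Fin m → MvPolynomial (Fin (c + n)) R,
      (∀ (j : Fin m) (h : (j : ℕ) < c), F j = hh ⟨j, h⟩) ∧
        (∀ j : Fin m, c ≤ (j : ℕ) → F j = C π * h' j) :=
      by
    refine ⟨fun j => if h : (j : ℕ) < c then hh ⟨j, h⟩ else C π * h' j, ?_, ?_⟩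
    · intro j h
      show (if h : (j : ℕ) < c then hh ⟨j, h⟩ else C π * h' j) = hh ⟨j, h⟩
      rw [dif_pos h]
    · intro j h
      show (if h : (j : ℕ) < c then hh ⟨j, h⟩ else C π * h' j) = C π * h' j
      rw [dif_neg (not_lt.mpr h)]
  have hFk : ∀ k : Fin c, F (Fin.castLE hcm k) = hh k := by
    intro k
    have h1 : ((Fin.castLE hcm k : Fin m) : ℕ) < c := k.2
    rw [hFlt _ h1]
    exact congrArg hh (Fin.ext rfl)
  have hh'lt : ∀ (j : Fin m) (h : (j : ℕ) < c), h' j = C π * F j := by
    intro j h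
    have h1 : Fin.castLE hcm ⟨j, h⟩ = j := Fin.ext rfl
    have h2 := hh'k ⟨j, h⟩
    rw [h1] at h2
    rw [h2, hFlt j h]
  have hTmem : ∀ j : Fin m, θ (rel j) ∈ Ideal.span (Set.range F) := by
    intro j
    by_cases h : (j : ℕ) < c
    · rw [hT j, hh'lt j h]
      exact Ideal.mul_mem_left _ _ (Ideal.mul_mem_left _ _ (Ideal.subset_span ⟨j, rfl⟩))
    · rw [hT j, pow_two, mul_assoc, ← hFge j (not_lt.mp h)]
      exact Ideal.mul_mem_left _ _ (Ideal.subset_span ⟨j, rfl⟩)
  -- Step 5: the decomposition of the tail relations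
  have hD : ∀ j : Fin m, c ≤ (j : ℕ) →
      ∃ z₁ ∈ Ideal.span (F '' {j' : Fin m | (j' : ℕ) < c}),
      ∃ z₂ ∈ Ideal.span (Set.range h') ^ 2, C π ^ 3 * h' j = C π ^ 3 * z₁ + C π ^ 4 * z₂ := by
    intro j hj
    have h1 := Ideal.mem_map_of_mem θ (htail j hj)
    rw [Ideal.map_sup, Ideal.map_pow, Ideal.map_span, Ideal.map_span] at h1
    have h2 : Ideal.span (θ '' (rel '' {j' : Fin m | (j' : ℕ) < c})) ≤
        Ideal.span {(C π : MvPolynomial (Fin (c + n)) R) ^ 3} *
          Ideal.span (F '' {j' : Fin m | (j' : ℕ) < c}) := by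
      rw [Ideal.span_le]
      rintro _ ⟨_, ⟨j', hj', rfl⟩, rfl⟩
      rw [SetLike.mem_coe, Ideal.mem_span_singleton_mul]
      refine ⟨F j', Ideal.subset_span ⟨j', hj', rfl⟩, ?_⟩
      rw [hT j', hh'lt j' hj']
      ring
    have h3 : Ideal.span (θ '' Set.range rel) ≤
        Ideal.span {(C π : MvPolynomial (Fin (c + n)) R) ^ 2} *
          Ideal.span (Set.range h') := by
      rw [Ideal.span_le]
      rintro _ ⟨_, ⟨j', rfl⟩, rfl⟩
      rw [SetLike.mem_coe, Ideal.mem_span_singleton_mul]
      exact ⟨h' j', Ideal.subset_span ⟨j', rfl⟩, (hT j').symm⟩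
    have h4 : (Ideal.span {(C π : MvPolynomial (Fin (c + n)) R) ^ 2} *
        Ideal.span (Set.range h')) ^ 2 =
        Ideal.span {(C π : MvPolynomial (Fin (c + n)) R) ^ 4} *
          Ideal.span (Set.range h') ^ 2 := by
      rw [mul_pow, Ideal.span_singleton_pow,
        show ((C π : MvPolynomial (Fin (c + n)) R) ^ 2) ^ 2 = C π ^ 4 from by ring]
    have h5 := sup_le_sup h2 ((Ideal.pow_right_mono h3 2).trans (le_of_eq h4)) h1
    obtain ⟨y, hy, z, hz, hyz⟩ := Submodule.mem_sup.mp h5
    obtain ⟨z₁, hz₁, rfl⟩ := Ideal.mem_span_singleton_mul.mp hy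
    obtain ⟨z₂, hz₂, rfl⟩ := Ideal.mem_span_singleton_mul.mp hz
    refine ⟨z₁, hz₁, z₂, hz₂, ?_⟩
    rw [hyz, map_mul, hθC, hT j]
    ring
  have hE : Ideal.span {(C π : MvPolynomial (Fin (c + n)) R)} * Ideal.span (Set.range h') ≤
      Ideal.span (Set.range F) := by
    rw [Ideal.span_mul_span', Ideal.span_le]
    rintro _ ⟨x, hx, _, ⟨j', rfl⟩, rfl⟩
    rw [Set.mem_singleton_iff] at hx
    rw [hx, SetLike.mem_coe]
    show C π * h' j' ∈ Ideal.span (Set.range F)
    by_cases h : (j' : ℕ) < c
    · rw [hh'lt j' h]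
      exact Ideal.mul_mem_left _ _ (Ideal.mul_mem_left _ _ (Ideal.subset_span ⟨j', rfl⟩))
    · rw [← hFge j' (not_lt.mp h)]
      exact Ideal.subset_span ⟨j', rfl⟩
  have hE2 : Ideal.span {(C π : MvPolynomial (Fin (c + n)) R) ^ 2} *
      Ideal.span (Set.range h') ^ 2 ≤ Ideal.span (Set.range F) ^ 2 := by
    have h1 := Ideal.pow_right_mono hE 2
    rw [mul_pow, Ideal.span_singleton_pow] at h1
    exact h1
  have htail1 : ∀ j : Fin m, c ≤ (j : ℕ) → C (π ^ 2) * F j ∈
      Ideal.span (F '' {j' : Fin m | (j' : ℕ) < c}) ⊔ Ideal.span (Set.range F) ^ 2 := by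
    intro j hj
    obtain ⟨z₁, hz₁, z₂, hz₂, hz⟩ := hD j hj
    have h1 : C (π ^ 2) * F j = C π ^ 3 * z₁ + C π ^ 2 * (C π ^ 2 * z₂) := by
      rw [hFge j hj, map_pow]
      linear_combination hz
    rw [h1]
    refine Ideal.add_mem _ (Ideal.mem_sup_left (Ideal.mul_mem_left _ _ hz₁))
      (Ideal.mem_sup_right ?_)
    exact Ideal.mul_mem_left _ _
      (hE2 (Ideal.mul_mem_mul (Ideal.subset_span (Set.mem_singleton _)) hz₂))
  -- Step 6: the minors
  have hpd : ∀ j k : Fin c, pderiv (Fin.castAdd n k) (hh j) =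
      C u * (if j = k then 1 else 0) +
        C π * pderiv (Fin.castAdd n k) (q (Fin.castLE hcm j)) := by
    intro j k
    rw [hhh j, map_add, map_add, map_add, map_sum]
    have e1 : pderiv (Fin.castAdd n k)
        (C π * C (e (Fin.castLE hcm j)) : MvPolynomial (Fin (c + n)) R) = 0 := by
      rw [← map_mul, pderiv_C]
    have e2 : pderiv (Fin.castAdd n k) (C u * Y j) = C u * (if j = k then 1 else 0) := by
      rw [pderiv_C_mul, hY j]
      split_ifs with h
      · rw [h, pderiv_X_self]
      · have hne : Fin.castAdd n j ≠ Fin.castAdd n k := by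
          intro h2
          have h3 : (Fin.castAdd n j).val = (Fin.castAdd n k).val := congrArg Fin.val h2
          exact h (Fin.ext h3)
        rw [pderiv_X_of_ne hne]
    have e3 : ∀ i : Fin n,
        pderiv (Fin.castAdd n k) (C (rr (Fin.castLE hcm j) i) * W i) = 0 := by
      intro i
      have hne : Fin.natAdd c i ≠ Fin.castAdd n k :=
        Fin.ne_of_val_ne (by show c + i.val ≠ k.val; have := k.2; omega)
      rw [pderiv_C_mul, hW i, pderiv_X_of_ne hne, mul_zero]
    rw [e1, e2, Finset.sum_congr rfl (fun i _ => e3 i), Finset.sum_const_zero, pderiv_C_mul]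
    ring
  have hΔ : ∃ d : MvPolynomial (Fin (c + n)) R,
      Smoothing.jacobianMinor F (Fin.castLE hcm) (fun k : Fin c => Fin.castAdd n k) =
        1 + C π * d := by
    have e4 : Ideal.Quotient.mk (Ideal.span {(C π : MvPolynomial (Fin (c + n)) R)}) (C π) = 0 :=
      Ideal.Quotient.eq_zero_iff_mem.mpr (Ideal.subset_span (Set.mem_singleton _))
    have e5 : Ideal.Quotient.mk (Ideal.span {(C π : MvPolynomial (Fin (c + n)) R)}) (C u) = 1 := by
      have e6 : (C u : MvPolynomial (Fin (c + n)) R) = 1 + C π * C (-(t * π ^ 2)) := by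
        rw [hu1, map_add, map_one, map_mul]
      rw [e6, map_add, map_one, map_mul, e4, zero_mul, add_zero]
    have hmk : ∀ j k : Fin c,
        Ideal.Quotient.mk (Ideal.span {(C π : MvPolynomial (Fin (c + n)) R)})
          (pderiv (Fin.castAdd n k) (F (Fin.castLE hcm j))) = if j = k then 1 else 0 := by
      intro j k
      rw [hFk j, hpd j k, map_add, map_mul, map_mul, e4, e5, zero_mul, add_zero, one_mul,
        apply_ite (Ideal.Quotient.mk _), map_one, map_zero]
    have hmat : (Ideal.Quotient.mk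
        (Ideal.span {(C π : MvPolynomial (Fin (c + n)) R)})).mapMatrix
        (Matrix.of fun j k : Fin c => pderiv (Fin.castAdd n k) (F (Fin.castLE hcm j))) = 1 := by
      ext j k
      exact (hmk j k).trans (Matrix.one_apply).symm
    have hdet : Ideal.Quotient.mk (Ideal.span {(C π : MvPolynomial (Fin (c + n)) R)})
        (Smoothing.jacobianMinor F (Fin.castLE hcm) (fun k : Fin c => Fin.castAdd n k)) =
        Ideal.Quotient.mk (Ideal.span {(C π : MvPolynomial (Fin (c + n)) R)}) 1 := by
      calc Ideal.Quotient.mk (Ideal.span {(C π : MvPolynomial (Fin (c + n)) R)})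
            (Smoothing.jacobianMinor F (Fin.castLE hcm) (fun k : Fin c => Fin.castAdd n k))
          = Matrix.det ((Ideal.Quotient.mk
              (Ideal.span {(C π : MvPolynomial (Fin (c + n)) R)})).mapMatrix
              (Matrix.of fun j k : Fin c =>
                pderiv (Fin.castAdd n k) (F (Fin.castLE hcm j)))) := RingHom.map_det _ _
        _ = Matrix.det (1 : Matrix (Fin c) (Fin c) _) := by rw [hmat]
        _ = 1 := Matrix.det_one
        _ = _ := (map_one _).symm
    have h1 := Ideal.Quotient.eq.mp hdet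
    rw [Ideal.mem_span_singleton'] at h1
    obtain ⟨d, hd⟩ := h1
    exact ⟨d, by linear_combination (-1 : MvPolynomial (Fin (c + n)) R) * hd⟩
  have hW1 : ∀ (k : Fin c) (i : Fin n), C π ^ 3 * pderiv (Fin.natAdd c i) (hh k) =
      C π ^ 3 * θ (pderiv i (rel (Fin.castLE hcm k))) := by
    intro k i
    have h1 : C π ^ 3 * hh k = θ (rel (Fin.castLE hcm k)) := by
      rw [hT, hh'k k]
      ring
    have h2 : pderiv (Fin.natAdd c i) (C π ^ 3 * hh k) =
        C π ^ 3 * pderiv (Fin.natAdd c i) (hh k) := by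
      rw [hp3, pderiv_C_mul]
    have h3 : ∀ i' : Fin n, pderiv (Fin.natAdd c i) (θ (X i')) =
        if i' = i then C π ^ 3 else 0 := by
      intro i'
      rw [hθ i', hℓ i', map_add, pderiv_C, zero_add, hp2, pderiv_C_mul, map_add, map_sum,
        pderiv_C_mul, hW i']
      have h4 : ∀ k' : Fin c, pderiv (Fin.natAdd c i) (C (S i' k') * Y k') = 0 := by
        intro k'
        have hne : Fin.castAdd n k' ≠ Fin.natAdd c i :=
          Fin.ne_of_val_ne (by show k'.val ≠ c + i.val; have := k'.2; omega)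
        rw [pderiv_C_mul, hY k', pderiv_X_of_ne hne, mul_zero]
      rw [Finset.sum_congr rfl (fun k' _ => h4 k'), Finset.sum_const_zero, zero_add]
      split_ifs with h
      · rw [h, pderiv_X_self, mul_one, map_pow]
        ring
      · have hne : Fin.natAdd c i' ≠ Fin.natAdd c i :=
          fun h2 => h (Fin.ext (Nat.add_left_cancel (congrArg Fin.val h2)))
        rw [pderiv_X_of_ne hne, mul_zero, mul_zero]
    have h5 : ∀ i' : Fin n, θ (pderiv i' (rel (Fin.castLE hcm k))) *
        pderiv (Fin.natAdd c i) (θ (X i')) =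
        if i' = i then C π ^ 3 * θ (pderiv i (rel (Fin.castLE hcm k))) else 0 := by
      intro i'
      rw [h3 i']
      split_ifs with h
      · rw [h]
        ring
      · rw [mul_zero]
    rw [← h2, h1, pderiv_algHom θ (Fin.natAdd c i) (rel (Fin.castLE hcm k)),
      Finset.sum_congr rfl (fun i' _ => h5 i'),
      Finset.sum_ite_eq' Finset.univ i
        (fun _ => C π ^ 3 * θ (pderiv i (rel (Fin.castLE hcm k)))),
      if_pos (Finset.mem_univ i)]
  have hW2 : ∀ I : Fin c → Fin n, (C π ^ 3) ^ c *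
      Smoothing.jacobianMinor F (Fin.castLE hcm) (fun k => Fin.natAdd c (I k)) =
      (C π ^ 3) ^ c * θ (Smoothing.jacobianMinor rel (Fin.castLE hcm) I) := by
    intro I
    have h1 : (C π ^ 3 : MvPolynomial (Fin (c + n)) R) •
        (Matrix.of fun j k : Fin c => pderiv (Fin.natAdd c (I k)) (F (Fin.castLE hcm j))) =
        (C π ^ 3 : MvPolynomial (Fin (c + n)) R) •
          (θ.toRingHom.mapMatrix
            (Matrix.of fun j k : Fin c => pderiv (I k) (rel (Fin.castLE hcm j)))) := by
      refine Matrix.ext (fun j k => ?_)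
      simp only [Matrix.smul_apply, Matrix.of_apply, RingHom.mapMatrix_apply, Matrix.map_apply,
        smul_eq_mul, hFk]
      exact hW1 j (I k)
    have h2 := congrArg Matrix.det h1
    rw [Matrix.det_smul, Matrix.det_smul, Fintype.card_fin, ← RingHom.map_det] at h2
    exact h2
  -- Step 7: the algebra `B`
  refine ⟨MvPolynomial (Fin (c + n)) R ⧸ Ideal.span (Set.range F), inferInstance, inferInstance,
    ?_, ?_⟩
  · exact Algebra.FinitePresentation.quotient (Submodule.fg_span (Set.finite_range F))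
  · obtain ⟨φ', hφ'mk, hφ'surj, hφ'ker⟩ : ∃ φ' : MvPolynomial (Fin (c + n)) R →ₐ[R]
        (MvPolynomial (Fin (c + n)) R ⧸ Ideal.span (Set.range F)),
        (∀ z, φ' z = Ideal.Quotient.mk _ z) ∧ Function.Surjective φ' ∧
          RingHom.ker φ'.toRingHom = Ideal.span (Set.range F) :=
      ⟨Ideal.Quotient.mkₐ R _, fun _ => rfl, Ideal.Quotient.mkₐ_surjective R _, by
        ext z
        rw [RingHom.mem_ker]
        exact Ideal.Quotient.eq_zero_iff_mem⟩
    obtain ⟨β₀, hβY, hβW⟩ : ∃ β₀ : MvPolynomial (Fin (c + n)) R →ₐ[R] Λ,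
        (∀ k, β₀ (Y k) = 0) ∧ (∀ i, β₀ (W i) = -(algebraMap R Λ π * lam i)) :=
      ⟨aeval (Fin.append (fun _ : Fin c => (0 : Λ))
          (fun i : Fin n => -(algebraMap R Λ π * lam i))),
        fun k => by rw [hY k, aeval_X, Fin.append_left],
        fun i => by rw [hW i, aeval_X, Fin.append_right]⟩
    have hβC : ∀ s : R, β₀ (C s) = algebraMap R Λ s := by
      intro s
      have h1 := β₀.commutes s
      rw [algebraMap_eq] at h1
      exact h1
    have hβp : β₀ (C π) = algebraMap R Λ π := hβC π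
    have hβθ : ∀ g, β₀ (θ g) = φ (hom g) := by
      have h1 : β₀.comp θ = φ.comp hom := by
        apply MvPolynomial.algHom_ext
        intro i
        rw [AlgHom.comp_apply, AlgHom.comp_apply, hθ i, hℓ i, map_add, map_mul, map_pow, hβC,
          hβC, map_add, map_sum, map_mul, hβC, hβW i]
        have h2 : ∀ k : Fin c, β₀ (C (S i k) * Y k) = 0 := by
          intro k
          rw [map_mul, hβY k, mul_zero]
        rw [Finset.sum_congr rfl (fun k _ => h2 k), Finset.sum_const_zero]
        have h3 := hlam i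
        rw [map_pow] at h3
        linear_combination h3
      intro g
      exact DFunLike.congr_fun h1 g
    have hβT : ∀ j, β₀ (θ (rel j)) = 0 := fun j => by rw [hβθ, hrel0 j, map_zero]
    have hβh' : ∀ j, β₀ (C π * h' j) = 0 := by
      intro j
      have h1 := hβT j
      rw [hT j, map_mul, map_pow, hβp] at h1
      have h2 : π ^ 2 • β₀ (h' j) = 0 := by
        rw [Algebra.smul_def, map_pow]
        exact h1
      have h3 := hΛ _ h2
      rw [Algebra.smul_def] at h3
      rw [map_mul, hβp]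
      exact h3
    have hβhh : ∀ k : Fin c, β₀ (hh k) = 0 := by
      intro k
      have h1 := hβT (Fin.castLE hcm k)
      rw [hT, hh'k k, map_mul, map_mul, map_pow, hβp] at h1
      obtain ⟨μ, hμ⟩ : ∃ μ : Λ, β₀ (hh k) = π • μ := by
        refine ⟨algebraMap R Λ (e (Fin.castLE hcm k)) +
          ∑ i, algebraMap R Λ (rr (Fin.castLE hcm k) i) * (-(lam i)) +
            β₀ (q (Fin.castLE hcm k)), ?_⟩
        rw [hhh k, map_add, map_add, map_add, map_mul, map_mul, map_mul, map_sum, hβp, hβC,
          hβC, hβY k, Algebra.smul_def]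
        have h2 : ∀ i : Fin n, β₀ (C (rr (Fin.castLE hcm k) i) * W i) =
            algebraMap R Λ π * (algebraMap R Λ (rr (Fin.castLE hcm k) i) * (-(lam i))) := by
          intro i
          rw [map_mul, hβC, hβW i]
          ring
        rw [Finset.sum_congr rfl (fun i _ => h2 i), ← Finset.mul_sum]
        ring
      have h2 : π ^ (3 + 1) • μ = 0 := by
        rw [Algebra.smul_def, map_pow]
        rw [hμ, Algebra.smul_def] at h1
        linear_combination h1
      have h3 := smul_pow_ann π hΛ 3 μ h2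
      rw [hμ, h3]
    have hβF : ∀ j, β₀ (F j) = 0 := by
      intro j
      by_cases h : (j : ℕ) < c
      · rw [hFlt j h]
        exact hβhh _
      · rw [hFge j (not_lt.mp h)]
        exact hβh' j
    have hβI : ∀ z ∈ Ideal.span (Set.range F), β₀ z = 0 := by
      have h1 : Ideal.span (Set.range F) ≤ RingHom.ker β₀.toRingHom := by
        rw [Ideal.span_le]
        rintro _ ⟨j, rfl⟩
        exact (RingHom.mem_ker).mpr (hβF j)
      intro z hz
      exact (RingHom.mem_ker).mp (h1 hz)
    obtain ⟨β, hβ⟩ : ∃ β : (MvPolynomial (Fin (c + n)) R ⧸ Ideal.span (Set.range F)) →ₐ[R] Λ,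
        ∀ z, β (φ' z) = β₀ z :=
      ⟨Ideal.Quotient.liftₐ _ β₀ hβI, fun z => by rw [hφ'mk z]; rfl⟩
    have hkerα : RingHom.ker hom.toRingHom ≤ RingHom.ker (φ'.comp θ).toRingHom := by
      rw [ker_eq, Ideal.span_le]
      rintro _ ⟨j, rfl⟩
      refine (RingHom.mem_ker).mpr ?_
      show φ' (θ (rel j)) = 0
      rw [hφ'mk]
      exact Ideal.Quotient.eq_zero_iff_mem.mpr (hTmem j)
    obtain ⟨α, hα⟩ : ∃ α : A →ₐ[R] (MvPolynomial (Fin (c + n)) R ⧸ Ideal.span (Set.range F)),
        ∀ g, α (hom g) = φ' (θ g) :=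
      ⟨AlgHom.liftOfSurjective hom surj (φ'.comp θ) hkerα,
        fun g => AlgHom.liftOfSurjective_apply hom surj (φ'.comp θ) hkerα g⟩
    refine ⟨α, β, ?_, ?_⟩
    · apply AlgHom.ext
      intro x
      obtain ⟨g, rfl⟩ := surj x
      rw [AlgHom.comp_apply, hα, hβ, hβθ]
    · intro r hr
      unfold Smoothing.singularIdeal
      rw [PrimeSpectrum.mem_vanishingIdeal]
      intro x hx
      by_contra hrx
      apply hx
      show Algebra.IsSmoothAt R x.asIdeal
      have hrφ : φ' (C r) ∉ x.asIdeal := by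
        intro h1
        apply hrx
        have h2 := φ'.commutes r
        rw [algebraMap_eq] at h2
        rw [← h2]
        exact h1
      have htail2 : ∀ j : Fin m, c ≤ (j : ℕ) → C (r ^ 2) * F j ∈
          Ideal.span (F '' {j' : Fin m | (j' : ℕ) < c}) ⊔ Ideal.span (Set.range F) ^ 2 := by
        intro j hj
        obtain ⟨z₁, hz₁, z₂, hz₂, hz⟩ := hD j hj
        have h1 : C (π ^ 3) * (h' j - z₁ - C π * z₂) = 0 := by
          rw [map_pow]
          linear_combination hz
        have h2 := ann_poly π r hr _ h1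
        have h3 : C (r ^ 2) * F j = C (π * r ^ 2) * z₁ + C (r ^ 2) * (C π ^ 2 * z₂) := by
          rw [hFge j hj]
          rw [map_mul C π (r ^ 2)] at h2 ⊢
          linear_combination h2
        rw [h3]
        refine Ideal.add_mem _ (Ideal.mem_sup_left (Ideal.mul_mem_left _ _ hz₁))
          (Ideal.mem_sup_right ?_)
        exact Ideal.mul_mem_left _ _
          (hE2 (Ideal.mul_mem_mul (Ideal.subset_span (Set.mem_singleton _)) hz₂))
      by_cases hπx : φ' (C π) ∈ x.asIdeal
      · obtain ⟨d, hd⟩ := hΔ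
        refine Smoothing1H1.smoothAt_core hcm F φ' hφ'surj hφ'ker x.asIdeal
          (fun k => Fin.castAdd n k) ?_ (C (r ^ 2)) ?_ htail2
        · rw [hd, map_add, map_one, map_mul]
          intro h1
          have h2 : (1 : MvPolynomial (Fin (c + n)) R ⧸ Ideal.span (Set.range F)) ∈
              x.asIdeal := by
            have h3 := x.asIdeal.sub_mem h1 (Ideal.mul_mem_right (φ' d) _ hπx)
            rw [add_sub_cancel_right] at h3
            exact h3
          exact x.isPrime.ne_top ((Ideal.eq_top_iff_one _).mpr h2)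
        · rw [map_pow, map_pow]
          intro h1
          exact hrφ (x.isPrime.mem_of_pow_mem _ h1)
      · have hcols : ∃ I : Fin c → Fin n, φ' (Smoothing.jacobianMinor F (Fin.castLE hcm)
            (fun k => Fin.natAdd c (I k))) ∉ x.asIdeal := by
          by_contra hcon
          push Not at hcon
          apply hπx
          have h1 := congrArg α ha
          rw [map_sum, AlgHom.commutes] at h1
          have h2 : ∀ I : Fin c → Fin n, φ' ((C π ^ 3) ^ c) *
              α (a I * hom (Smoothing.jacobianMinor rel (Fin.castLE hcm) I)) ∈ x.asIdeal := by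
            intro I
            rw [map_mul α, hα, mul_left_comm, ← map_mul, ← hW2 I, map_mul]
            exact Ideal.mul_mem_left _ _ (Ideal.mul_mem_left _ _ (hcon I))
          have h3 : φ' ((C π ^ 3) ^ c) * algebraMap R _ π ∈ x.asIdeal := by
            rw [← h1, Finset.mul_sum]
            exact Ideal.sum_mem _ (fun I _ => h2 I)
          have h4 : φ' (C π) ^ (3 * c + 1) ∈ x.asIdeal := by
            have h5 : φ' (C π) ^ (3 * c + 1) = φ' ((C π ^ 3) ^ c) * algebraMap R _ π := by
              rw [← φ'.commutes π, algebraMap_eq, map_pow, map_pow]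
              ring
            rw [h5]
            exact h3
          exact x.isPrime.mem_of_pow_mem _ h4
        obtain ⟨I, hI⟩ := hcols
        refine Smoothing1H1.smoothAt_core hcm F φ' hφ'surj hφ'ker x.asIdeal
          (fun k => Fin.natAdd c (I k)) hI (C (π ^ 2)) ?_ htail1
        rw [map_pow, map_pow]
        intro h1
        exact hπx (x.isPrime.mem_of_pow_mem _ h1)

/-- The lifting lemma. -/
theorem main {R Λ A : Type u} [CommRing R] [CommRing Λ] [Algebra R Λ] (π : R)
    (hΛ : ∀ x : Λ, π ^ 2 • x = 0 → π • x = 0) [CommRing A] [Algebra R A] (φ : A →ₐ[R] Λ)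
    (hπ : Smoothing.IsStrictlyStandard R A (algebraMap R A π))
    (ρ : A →ₐ[R] R ⧸ Ideal.span {π ^ 4})
    (hρ : ∀ (a : A) (r : R), Ideal.Quotient.mk (Ideal.span {π ^ 4}) r = ρ a →
      algebraMap R Λ r - φ a ∈ Ideal.span {algebraMap R Λ (π ^ 4)}) :
    ∃ (B : Type u) (_ : CommRing B) (_ : Algebra R B), Algebra.FinitePresentation R B ∧
      ∃ (α : A →ₐ[R] B) (β : B →ₐ[R] Λ), β.comp α = φ ∧
        ∀ r : R, (∀ x : R, π ^ 2 * x = 0 → π * (r * x) = 0) →
          algebraMap R B r ∈ Smoothing.singularIdeal R B := by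
  obtain ⟨P, hmem, hkt⟩ := hπ
  have hC : P.hom (C π) = algebraMap R A π := by
    rw [← algebraMap_eq, AlgHom.commutes]
  exact core π hΛ φ ρ hρ P.hcm P.rel P.hom P.surj P.ker_eq hmem
    (fun j hj => hkt (C π) hC j hj)

end Core

end Groth.Agent.Lib.LiftLemmaH4
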