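import Mathlib
import Groth.Prelude

set_option autoImplicit false
set_option linter.style.haveILetI false
set_option linter.unusedVariables false

universe u
open TensorProduct MvPolynomial

namespace Groth.Agent.Lib.StdBaseChangeH4

variable {R A R' : Type u} [CommRing R] [CommRing A] [Algebra R A] [CommRing R'] [Algebra R R']

theorem aux_tmul (r : R) :
    (algebraMap R R' r) ⊗ₜ[R] (1 : A) = (1 : R') ⊗ₜ[R] (algebraMap R A r) := by
  rw [Algebra.algebraMap_eq_smul_one, Algebra.algebraMap_eq_smul_one, TensorProduct.smul_tmul]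

/-- base-changed hom -/
noncomputable def hom' (P : Smoothing.MarkedPresentation R A) :
    MvPolynomial (Fin P.n) R' →ₐ[R'] R' ⊗[R] A :=
  MvPolynomial.aeval (fun i => (1 : R') ⊗ₜ[R] P.hom (X i))

theorem hom'_X (P : Smoothing.MarkedPresentation R A) (i : Fin P.n) :
    hom' (R' := R') P (X i) = (1 : R') ⊗ₜ[R] P.hom (X i) := by
  rw [hom', MvPolynomial.aeval_X]

theorem hom'_C (P : Smoothing.MarkedPresentation R A) (r' : R') :
    hom' (R' := R') P (C r') = r' ⊗ₜ[R] (1 : A) := by
  rw [hom', MvPolynomial.aeval_C, Algebra.TensorProduct.algebraMap_apply]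
  simp

theorem hom'_map (P : Smoothing.MarkedPresentation R A) (p : MvPolynomial (Fin P.n) R) :
    hom' (R' := R') P (MvPolynomial.map (algebraMap R R') p) = (1 : R') ⊗ₜ[R] P.hom p := by
  have h : ((hom' (R' := R') P).toRingHom.comp (MvPolynomial.map (algebraMap R R'))) =
      ((Algebra.TensorProduct.includeRight : A →ₐ[R] R' ⊗[R] A).toRingHom.comp
        P.hom.toRingHom) := by
    apply MvPolynomial.ringHom_ext
    · intro r
      show hom' P (MvPolynomial.map (algebraMap R R') (C r)) = (1 : R') ⊗ₜ[R] P.hom (C r)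
      rw [MvPolynomial.map_C, hom'_C, MvPolynomial.algHom_C, aux_tmul]
    · intro i
      show hom' P (MvPolynomial.map (algebraMap R R') (X i)) = (1 : R') ⊗ₜ[R] P.hom (X i)
      rw [MvPolynomial.map_X, hom'_X]
  exact RingHom.congr_fun h p

theorem hom'_surj (P : Smoothing.MarkedPresentation R A) :
    Function.Surjective (hom' (R' := R') P) := by
  intro z
  induction z using TensorProduct.induction_on with
  | zero => exact ⟨0, map_zero _⟩
  | tmul r' a =>
    obtain ⟨p, rfl⟩ := P.surj a
    refine ⟨C r' * MvPolynomial.map (algebraMap R R') p, ?_⟩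
    rw [map_mul, hom'_map, hom'_C, Algebra.TensorProduct.tmul_mul_tmul, mul_one, one_mul]
  | add x y hx hy =>
    obtain ⟨p, rfl⟩ := hx
    obtain ⟨q, rfl⟩ := hy
    exact ⟨p + q, map_add _ _ _⟩

theorem hom_rel (P : Smoothing.MarkedPresentation R A) (j : Fin P.m) : P.hom (P.rel j) = 0 := by
  have h1 : P.rel j ∈ RingHom.ker P.hom.toRingHom := by
    rw [P.ker_eq]; exact Ideal.subset_span ⟨j, rfl⟩
  exact (RingHom.mem_ker).mp h1

theorem hom'_rel (P : Smoothing.MarkedPresentation R A) (j : Fin P.m) :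
    hom' (R' := R') P (MvPolynomial.map (algebraMap R R') (P.rel j)) = 0 := by
  rw [hom'_map, hom_rel, TensorProduct.tmul_zero]

theorem exists_retraction (P : Smoothing.MarkedPresentation R A) :
    ∃ Ψ : R' ⊗[R] A →ₐ[R'] (MvPolynomial (Fin P.n) R' ⧸
        Ideal.span (Set.range fun j => MvPolynomial.map (algebraMap R R') (P.rel j))),
      ∀ p, Ψ (hom' P p) = Ideal.Quotient.mk _ p := by
  have H : RingHom.ker P.hom.toRingHom ≤ RingHom.ker
      ((Ideal.Quotient.mkₐ R (Ideal.span (Set.range fun j =>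
        MvPolynomial.map (algebraMap R R') (P.rel j)))).comp
        (MvPolynomial.mapAlgHom (σ := Fin P.n) (Algebra.ofId R R'))).toRingHom := by
    rw [P.ker_eq, Ideal.span_le]
    rintro _ ⟨j, rfl⟩
    rw [SetLike.mem_coe, RingHom.mem_ker]
    show Ideal.Quotient.mk _ (MvPolynomial.map (algebraMap R R') (P.rel j)) = 0
    exact Ideal.Quotient.eq_zero_iff_mem.mpr (Ideal.subset_span ⟨j, rfl⟩)
  refine ⟨Algebra.TensorProduct.lift (Algebra.ofId R' _)
    (AlgHom.liftOfSurjective P.hom P.surj _ H) (fun _ _ => Commute.all _ _), ?_⟩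
  intro p
  have h2 : (Algebra.TensorProduct.lift (Algebra.ofId R' _)
      (AlgHom.liftOfSurjective P.hom P.surj _ H) (fun _ _ => Commute.all _ _)).comp (hom' P) =
      Ideal.Quotient.mkₐ R' (Ideal.span (Set.range fun j =>
        MvPolynomial.map (algebraMap R R') (P.rel j))) := by
    apply MvPolynomial.algHom_ext
    intro i
    rw [AlgHom.comp_apply, hom'_X, Algebra.TensorProduct.lift_tmul, map_one, one_mul,
      AlgHom.liftOfSurjective_apply]
    show Ideal.Quotient.mk _ (MvPolynomial.map (algebraMap R R') (X i)) = Ideal.Quotient.mk _ (X i)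
    rw [MvPolynomial.map_X]
  exact AlgHom.congr_fun h2 p

theorem ker_hom' (P : Smoothing.MarkedPresentation R A) :
    RingHom.ker (hom' (R' := R') P).toRingHom =
      Ideal.span (Set.range fun j => MvPolynomial.map (algebraMap R R') (P.rel j)) := by
  apply le_antisymm
  · intro x hx
    obtain ⟨Ψ, hΨ⟩ := exists_retraction (R' := R') P
    have h0 : hom' (R' := R') P x = 0 := (RingHom.mem_ker).mp hx
    have h1 := hΨ x
    rw [h0, map_zero] at h1
    exact Ideal.Quotient.eq_zero_iff_mem.mp h1.symm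
  · rw [Ideal.span_le]
    rintro _ ⟨j, rfl⟩
    rw [SetLike.mem_coe, RingHom.mem_ker]
    exact hom'_rel P j

theorem jacobianMinor_map {n m c : ℕ} (f : Fin m → MvPolynomial (Fin n) R)
    (rows : Fin c → Fin m) (cols : Fin c → Fin n) :
    Smoothing.jacobianMinor (fun j => MvPolynomial.map (algebraMap R R') (f j)) rows cols =
      MvPolynomial.map (algebraMap R R') (Smoothing.jacobianMinor f rows cols) := by
  unfold Smoothing.jacobianMinor
  rw [RingHom.map_det]
  congr 1
  ext j k
  simp [MvPolynomial.pderiv_map]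

/-- base-changed marked presentation -/
noncomputable def bc (P : Smoothing.MarkedPresentation R A) :
    Smoothing.MarkedPresentation R' (R' ⊗[R] A) where
  n := P.n
  m := P.m
  c := P.c
  hcn := P.hcn
  hcm := P.hcm
  rel := fun j => MvPolynomial.map (algebraMap R R') (P.rel j)
  hom := hom' P
  surj := hom'_surj P
  ker_eq := ker_hom' P

theorem killsTail_bc (P : Smoothing.MarkedPresentation R A) (a : A)
    (h : Smoothing.KillsTail P a) :
    Smoothing.KillsTail (bc (R' := R') P) ((1 : R') ⊗ₜ[R] a) := by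
  intro (a'' : MvPolynomial (Fin P.n) R') (ha'' : hom' (R' := R') P a'' = (1 : R') ⊗ₜ[R] a)
    (j : Fin P.m) (hj : P.c ≤ (j : ℕ))
  obtain ⟨a', ha'⟩ := P.surj a
  have h1 := h a' ha' j hj
  have h2 : MvPolynomial.map (algebraMap R R') (a' * P.rel j) ∈
      Ideal.map (MvPolynomial.map (algebraMap R R'))
        (Ideal.span (P.rel '' {j' : Fin P.m | (j' : ℕ) < P.c}) ⊔
          Ideal.span (Set.range P.rel) ^ 2) :=
    Ideal.mem_map_of_mem _ h1
  rw [Ideal.map_sup, Ideal.map_pow, Ideal.map_span, Ideal.map_span, Set.image_image,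
    ← Set.range_comp] at h2
  have h3 : a'' - MvPolynomial.map (algebraMap R R') a' ∈
      Ideal.span (Set.range fun j => MvPolynomial.map (algebraMap R R') (P.rel j)) := by
    rw [← ker_hom' P, RingHom.mem_ker]
    show (hom' P) (a'' - MvPolynomial.map (algebraMap R R') a') = 0
    rw [map_sub, hom'_map, ha', sub_eq_zero]
    exact ha''
  have h4 : (a'' - MvPolynomial.map (algebraMap R R') a') *
      MvPolynomial.map (algebraMap R R') (P.rel j) ∈
      Ideal.span (Set.range fun j => MvPolynomial.map (algebraMap R R') (P.rel j)) ^ 2 := by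
    rw [pow_two]
    exact Ideal.mul_mem_mul h3 (Ideal.subset_span ⟨j, rfl⟩)
  have h5 : a'' * MvPolynomial.map (algebraMap R R') (P.rel j) =
      MvPolynomial.map (algebraMap R R') (a' * P.rel j) +
      (a'' - MvPolynomial.map (algebraMap R R') a') *
        MvPolynomial.map (algebraMap R R') (P.rel j) := by
    rw [map_mul]; ring
  show a'' * MvPolynomial.map (algebraMap R R') (P.rel j) ∈ _
  rw [h5]
  exact Ideal.add_mem _ h2 (Ideal.mem_sup_right h4)

theorem elem_bc (a : A) (h : Smoothing.IsElementaryStandard R A a) :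
    Smoothing.IsElementaryStandard R' (R' ⊗[R] A) ((1 : R') ⊗ₜ[R] a) := by
  obtain ⟨P, ⟨a', ha'⟩, hk⟩ := h
  refine ⟨bc P, ⟨(1 : R') ⊗ₜ[R] a', ?_⟩, killsTail_bc P a hk⟩
  show (1 : R') ⊗ₜ[R] a = (1 : R') ⊗ₜ[R] a' * hom' P (Smoothing.jacobianMinor
    (fun j => MvPolynomial.map (algebraMap R R') (P.rel j)) (Fin.castLE P.hcm) (Fin.castLE P.hcn))
  rw [jacobianMinor_map, hom'_map, Algebra.TensorProduct.tmul_mul_tmul, mul_one, ← ha']

theorem strict_bc (a : A) (h : Smoothing.IsStrictlyStandard R A a) :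
    Smoothing.IsStrictlyStandard R' (R' ⊗[R] A) ((1 : R') ⊗ₜ[R] a) := by
  obtain ⟨P, hmem, hk⟩ := h
  refine ⟨bc P, ?_, killsTail_bc P a hk⟩
  have key : ∀ cols : Fin P.c → Fin P.n, hom' (R' := R') P (Smoothing.jacobianMinor
      (fun j => MvPolynomial.map (algebraMap R R') (P.rel j)) (Fin.castLE P.hcm) cols) =
      (Algebra.TensorProduct.includeRight : A →ₐ[R] R' ⊗[R] A)
        (P.hom (Smoothing.jacobianMinor P.rel (Fin.castLE P.hcm) cols)) := by
    intro cols
    rw [jacobianMinor_map, hom'_map]; rfl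
  have hset : (Set.range fun cols : Fin P.c → Fin P.n => hom' (R' := R') P
      (Smoothing.jacobianMinor (fun j => MvPolynomial.map (algebraMap R R') (P.rel j))
        (Fin.castLE P.hcm) cols)) =
      (Algebra.TensorProduct.includeRight : A →ₐ[R] R' ⊗[R] A) ''
        (Set.range fun cols : Fin P.c → Fin P.n =>
          P.hom (Smoothing.jacobianMinor P.rel (Fin.castLE P.hcm) cols)) := by
    ext z
    constructor
    · rintro ⟨cols, rfl⟩
      exact ⟨_, ⟨cols, rfl⟩, (key cols).symm⟩
    · rintro ⟨_, ⟨cols, rfl⟩, rfl⟩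
      exact ⟨cols, key cols⟩
  show (1 : R') ⊗ₜ[R] a ∈ Ideal.span (Set.range fun cols : Fin P.c → Fin P.n =>
    hom' (R' := R') P (Smoothing.jacobianMinor
      (fun j => MvPolynomial.map (algebraMap R R') (P.rel j)) (Fin.castLE P.hcm) cols))
  rw [hset, ← Ideal.map_span]
  exact Ideal.mem_map_of_mem _ hmem

end Groth.Agent.Lib.StdBaseChangeH4
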