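import Mathlib
import Groth.Prelude.Def_Smoothing
import Groth.Agent.Lib.LiftLemma_helper4
import Groth.Agent.Lib.StdBaseChange_helper4

/-!
Helper library (helper4): the desingularization lemma of Néron–Popescu desingularization
(Stacks, "Smoothing ring maps"), deduced from the lifting lemma.  APPEND-ONLY once landed.
-/

set_option autoImplicit false
set_option linter.unusedVariables false
set_option linter.unusedTactic false
set_option linter.unreachableTactic false
set_option linter.unusedSectionVars false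
set_option linter.style.haveILetI false
set_option maxHeartbeats 800000

universe u

namespace Groth.Agent.Lib.DesingLemmaH4

open TensorProduct

section Flat

/-- In a flat module the annihilators of `π` and `π ^ 2` agree if they do in the ring. -/
theorem flat_ann {R M : Type*} [CommRing R] [AddCommGroup M] [Module R M] [Module.Flat R M]
    (π : R) (hR : ∀ r : R, π ^ 2 * r = 0 → π * r = 0) (y : M) (hy : π ^ 2 • y = 0) :
    π • y = 0 := by
  have h0 : ∑ i : Fin 1, (fun _ : Fin 1 => π ^ 2) i • (fun _ : Fin 1 => y) i = 0 := by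
    rw [Fin.sum_univ_one]
    exact hy
  obtain ⟨k, a, y', h1, h2⟩ := Module.Flat.isTrivialRelation_of_sum_smul_eq_zero h0
  have h3 : y = ∑ j, a 0 j • y' j := h1 0
  have h4 : ∀ j, π * a 0 j = 0 := by
    intro j
    have h5 := h2 j
    rw [Fin.sum_univ_one] at h5
    exact hR _ h5
  rw [h3, Finset.smul_sum]
  apply Finset.sum_eq_zero
  intro j _
  rw [smul_smul, h4 j, zero_smul]

/-- Over a Noetherian ring `D`, if `D_f` is flat over `R`, a power of `f` multiplies the
annihilator of `π ^ 2` into the annihilator of `π`. -/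
theorem exists_pow_ann {R D : Type*} [CommRing R] [CommRing D] [Algebra R D] [IsNoetherianRing D]
    (π : R) (hR : ∀ r : R, π ^ 2 * r = 0 → π * r = 0) (f : D)
    [Module.Flat R (Localization.Away f)] :
    ∃ N : ℕ, ∀ x : D, algebraMap R D π ^ 2 * x = 0 → algebraMap R D π * (f ^ N * x) = 0 := by
  classical
  obtain ⟨I, hI⟩ : ∃ I : Ideal D, ∀ x, x ∈ I ↔ algebraMap R D π ^ 2 * x = 0 :=
    ⟨LinearMap.ker (LinearMap.mulLeft D (algebraMap R D π ^ 2)), fun x => by
      rw [LinearMap.mem_ker, LinearMap.mulLeft_apply]⟩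
  have key : ∀ x ∈ I, ∃ k : ℕ, f ^ k * (algebraMap R D π * x) = 0 := by
    intro x hx
    rw [hI] at hx
    have h1 : π ^ 2 • algebraMap D (Localization.Away f) x = 0 := by
      rw [Algebra.smul_def, IsScalarTower.algebraMap_apply R D (Localization.Away f), ← map_mul,
        map_pow, hx, map_zero]
    have h2 := flat_ann π hR _ h1
    rw [Algebra.smul_def, IsScalarTower.algebraMap_apply R D (Localization.Away f),
      ← map_mul] at h2
    obtain ⟨⟨m, k, rfl⟩, hm⟩ :=
      (IsLocalization.map_eq_zero_iff (Submonoid.powers f) (Localization.Away f) _).mp h2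
    exact ⟨k, hm⟩
  have hfin : ∀ S : Finset D, (∀ x ∈ S, x ∈ I) →
      ∃ N : ℕ, ∀ x ∈ S, f ^ N * (algebraMap R D π * x) = 0 := by
    intro S
    induction S using Finset.induction_on with
    | empty =>
      intro _
      exact ⟨0, fun x hx => by simp at hx⟩
    | insert a S ha ih =>
      intro h
      obtain ⟨N, hN⟩ := ih (fun x hx => h x (Finset.mem_insert_of_mem hx))
      obtain ⟨k, hk⟩ := key a (h a (Finset.mem_insert_self a S))
      refine ⟨N + k, fun x hx => ?_⟩
      rcases Finset.mem_insert.mp hx with hxa | hx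
      · rw [hxa, pow_add, mul_assoc, hk, mul_zero]
      · rw [pow_add, mul_comm (f ^ N), mul_assoc, hN x hx, mul_zero]
  obtain ⟨S, hS⟩ := (IsNoetherian.noetherian I : I.FG)
  obtain ⟨N, hN⟩ := hfin S (fun x hx => by rw [← hS]; exact Submodule.subset_span hx)
  refine ⟨N, fun x hx => ?_⟩
  have hxI : x ∈ I := (hI x).mpr hx
  have h1 : ∀ z ∈ I, f ^ N * (algebraMap R D π * z) = 0 := by
    intro z hz
    rw [← hS] at hz
    refine Submodule.span_induction
      (p := fun z _ => f ^ N * (algebraMap R D π * z) = 0) ?_ ?_ ?_ ?_ hz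
    · intro z hz
      exact hN z hz
    · rw [mul_zero, mul_zero]
    · intro z w _ _ hz hw
      rw [mul_add, mul_add, hz, hw, add_zero]
    · intro a z _ hz
      rw [smul_eq_mul, mul_left_comm (algebraMap R D π) a z, mul_left_comm (f ^ N) a _, hz,
        mul_zero]
  rw [mul_left_comm]
  exact h1 x hxI

end Flat

section Main

/-- The desingularization lemma, with the quotient of `D` written by `(π) ^ 4`. -/
theorem desing_aux {R Λ A D : Type u} [CommRing R] [IsNoetherianRing R]
    [CommRing Λ] [Algebra R Λ] (π : R) (hR : ∀ r : R, π ^ 2 * r = 0 → π * r = 0)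
    (hΛ : ∀ x : Λ, π ^ 2 • x = 0 → π • x = 0) [CommRing A] [Algebra R A]
    [CommRing D] [Algebra R D] [Algebra.FinitePresentation R D]
    (φ : A →ₐ[R] Λ) (δ : D →ₐ[R] Λ)
    (hπ : Smoothing.IsStrictlyStandard R A (algebraMap R A π))
    (ψ : A →ₐ[R] D ⧸ Ideal.span {algebraMap R D π ^ 4})
    (hψ : ∀ (a : A) (d : D), Ideal.Quotient.mk (Ideal.span {algebraMap R D π ^ 4}) d = ψ a →
      δ d - φ a ∈ Ideal.span {algebraMap R Λ (π ^ 4)}) :
    ∃ (B : Type u) (_ : CommRing B) (_ : Algebra R B) (_ : Algebra D B) (_ : IsScalarTower R D B),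
      Algebra.FinitePresentation R B ∧
      ∃ (α : A →ₐ[R] B) (β : B →ₐ[R] Λ), β.comp α = φ ∧
        β.comp (IsScalarTower.toAlgHom R D B) = δ ∧
        (Smoothing.singularIdeal R D).map (algebraMap D B) ≤ Smoothing.singularIdeal D B ∧
        (Smoothing.singularIdeal R D).map (algebraMap D B) ≤ Smoothing.singularIdeal R B := by
  classical
  haveI : IsNoetherianRing D := Algebra.FiniteType.isNoetherianRing R D
  letI algDΛ : Algebra D Λ := δ.toRingHom.toAlgebra
  haveI towerΛ : IsScalarTower R D Λ :=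
    IsScalarTower.of_algebraMap_eq (fun r => (δ.commutes r).symm)
  have hδ : ∀ d : D, algebraMap D Λ d = δ d := fun d => rfl
  obtain ⟨φ', hφ'⟩ : ∃ φ' : D ⊗[R] A →ₐ[D] Λ, ∀ d a, φ' (d ⊗ₜ[R] a) = δ d * φ a :=
    ⟨Algebra.TensorProduct.lift (Algebra.ofId D Λ) φ (fun _ _ => Commute.all _ _),
      fun d a => by rw [Algebra.TensorProduct.lift_tmul]; rfl⟩
  have hπ' : Smoothing.IsStrictlyStandard D (D ⊗[R] A)
      (algebraMap D (D ⊗[R] A) (algebraMap R D π)) := by
    have h1 := StdBaseChangeH4.strict_bc (R' := D) (algebraMap R A π) hπ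
    have h2 : algebraMap D (D ⊗[R] A) (algebraMap R D π) =
        (1 : D) ⊗ₜ[R] (algebraMap R A π) := by
      rw [Algebra.TensorProduct.algebraMap_apply, Algebra.algebraMap_self_apply]
      exact StdBaseChangeH4.aux_tmul π
    rw [h2]
    exact h1
  obtain ⟨ρ', hρ'⟩ : ∃ ρ' : D ⊗[R] A →ₐ[D] D ⧸ Ideal.span {algebraMap R D π ^ 4},
      ∀ d a, ρ' (d ⊗ₜ[R] a) = Ideal.Quotient.mk _ d * ψ a :=
    ⟨Algebra.TensorProduct.lift (Algebra.ofId D _) ψ (fun _ _ => Commute.all _ _),
      fun d a => by rw [Algebra.TensorProduct.lift_tmul]; rfl⟩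
  have hJ : algebraMap D Λ (algebraMap R D π ^ 4) = algebraMap R Λ (π ^ 4) := by
    rw [← map_pow, ← IsScalarTower.algebraMap_apply]
  have K1 : ∀ d ∈ Ideal.span {algebraMap R D π ^ 4}, δ d ∈ Ideal.span {algebraMap R Λ (π ^ 4)} := by
    intro d hd
    rw [Ideal.mem_span_singleton'] at hd
    obtain ⟨c, rfl⟩ := hd
    have h1 : δ (algebraMap R D π ^ 4) = algebraMap R Λ (π ^ 4) := hJ
    rw [map_mul, h1]
    exact Ideal.mul_mem_left _ _ (Ideal.subset_span (Set.mem_singleton _))
  have hρ'' : ∀ (a' : D ⊗[R] A) (d : D),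
      Ideal.Quotient.mk (Ideal.span {algebraMap R D π ^ 4}) d = ρ' a' →
        algebraMap D Λ d - φ' a' ∈ Ideal.span {algebraMap D Λ (algebraMap R D π ^ 4)} := by
    rw [hJ]
    intro a'
    induction a' using TensorProduct.induction_on with
    | zero =>
      intro d hd
      rw [map_zero] at hd
      rw [map_zero, sub_zero]
      exact K1 d (Ideal.Quotient.eq_zero_iff_mem.mp hd)
    | tmul d0 a =>
      intro d hd
      obtain ⟨da, hda⟩ := Ideal.Quotient.mk_surjective (ψ a)
      have h1 := hψ a da hda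
      rw [hρ', ← hda, ← map_mul] at hd
      have h2 := K1 _ (Ideal.Quotient.eq.mp hd)
      rw [hφ']
      have h3 : algebraMap D Λ d - δ d0 * φ a = δ (d - d0 * da) + δ d0 * (δ da - φ a) := by
        rw [map_sub, map_mul, hδ]
        ring
      rw [h3]
      exact Ideal.add_mem _ h2 (Ideal.mul_mem_left _ _ h1)
    | add x y hx hy =>
      intro d hd
      obtain ⟨dx, hdx⟩ := Ideal.Quotient.mk_surjective (ρ' x)
      have h1 := hx dx hdx
      have h2 := hy (d - dx) (by rw [map_sub, hd, hdx, map_add, add_sub_cancel_left])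
      have h3 : algebraMap D Λ d - φ' (x + y) =
          (algebraMap D Λ dx - φ' x) + (algebraMap D Λ (d - dx) - φ' y) := by
        rw [map_add, map_sub]
        ring
      rw [h3]
      exact Ideal.add_mem _ h1 h2
  have hΛ' : ∀ x : Λ, algebraMap R D π ^ 2 • x = 0 → algebraMap R D π • x = 0 := by
    intro x hx
    rw [← map_pow, algebraMap_smul] at hx
    rw [algebraMap_smul]
    exact hΛ x hx
  obtain ⟨B, instCR, instDB, hfp, α', β', hcomp, hsing⟩ :=
    LiftLemmaH4.main (R := D) (algebraMap R D π) hΛ' φ' hπ' ρ' hρ''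
  letI algRB : Algebra R B := Algebra.compHom B (algebraMap R D)
  haveI towerB : IsScalarTower R D B := IsScalarTower.of_algebraMap_eq (fun r => rfl)
  haveI hfpR : Algebra.FinitePresentation R B := Algebra.FinitePresentation.trans R D B
  have incl1 : ∀ d ∈ Smoothing.singularIdeal R D,
      algebraMap D B d ∈ Smoothing.singularIdeal D B := by
    intro d hd
    unfold Smoothing.singularIdeal at hd ⊢
    rw [PrimeSpectrum.mem_vanishingIdeal] at hd ⊢
    intro x hx
    by_contra hdx
    have h𝔭 : (⟨x.asIdeal.under D, inferInstance⟩ : PrimeSpectrum D) ∈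
        Algebra.smoothLocus R D := by
      by_contra h
      exact hdx (hd _ h)
    haveI : Algebra.IsSmoothAt R (x.asIdeal.under D) := h𝔭
    obtain ⟨f, hf𝔭, hfsm⟩ := Algebra.IsSmoothAt.exists_notMem_smooth R (x.asIdeal.under D)
    haveI := hfsm
    obtain ⟨N, hN⟩ := exists_pow_ann π hR f
    have h1 : algebraMap D B (f ^ N) ∈ Smoothing.singularIdeal D B :=
      hsing (f ^ N) (fun y hy => hN y hy)
    unfold Smoothing.singularIdeal at h1
    rw [PrimeSpectrum.mem_vanishingIdeal] at h1
    have h2 : f ^ N ∈ x.asIdeal.under D := h1 x hx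
    exact hf𝔭 (Ideal.IsPrime.mem_of_pow_mem inferInstance _ h2)
  have incl2 : ∀ d ∈ Smoothing.singularIdeal R D,
      algebraMap D B d ∈ Smoothing.singularIdeal R B := by
    intro d hd
    have hdB := incl1 d hd
    unfold Smoothing.singularIdeal at hd hdB ⊢
    rw [PrimeSpectrum.mem_vanishingIdeal] at hd hdB ⊢
    intro x hx
    by_contra hdx
    apply hx
    show Algebra.IsSmoothAt R x.asIdeal
    have hxD : x ∈ Algebra.smoothLocus D B := by
      by_contra h
      exact hdx (hdB x h)
    have h𝔭 : (⟨x.asIdeal.under D, inferInstance⟩ : PrimeSpectrum D) ∈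
        Algebra.smoothLocus R D := by
      by_contra h
      exact hdx (hd _ h)
    letI := Localization.AtPrime.algebraOfLiesOver (x.asIdeal.under D) x.asIdeal
    haveI h1 : Algebra.FormallySmooth R (Localization.AtPrime (x.asIdeal.under D)) := h𝔭
    haveI h2 : Algebra.FormallySmooth D (Localization.AtPrime x.asIdeal) := hxD
    haveI h3 : Algebra.FormallySmooth (Localization.AtPrime (x.asIdeal.under D))
        (Localization.AtPrime x.asIdeal) :=
      (Algebra.FormallySmooth.iff_restrictScalars (R := D)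
        (A := Localization.AtPrime (x.asIdeal.under D))).mp h2
    exact Algebra.FormallySmooth.comp R (Localization.AtPrime (x.asIdeal.under D))
      (Localization.AtPrime x.asIdeal)
  refine ⟨B, instCR, algRB, instDB, towerB, hfpR,
    (α'.restrictScalars R).comp Algebra.TensorProduct.includeRight, β'.restrictScalars R,
    ?_, ?_, ?_, ?_⟩
  · ext a
    show β' (α' ((1 : D) ⊗ₜ[R] a)) = φ a
    have h1 := DFunLike.congr_fun hcomp ((1 : D) ⊗ₜ[R] a)
    rw [AlgHom.comp_apply] at h1
    rw [h1, hφ', map_one, one_mul]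
  · ext d
    show β' (algebraMap D B d) = δ d
    rw [β'.commutes]
    rfl
  · rw [Ideal.map_le_iff_le_comap]
    intro d hd
    exact incl1 d hd
  · rw [Ideal.map_le_iff_le_comap]
    intro d hd
    exact incl2 d hd

/-- The desingularization lemma. -/
theorem desing {R Λ A D : Type u} [CommRing R] [IsNoetherianRing R]
    [CommRing Λ] [Algebra R Λ] (π : R) (hR : ∀ r : R, π ^ 2 * r = 0 → π * r = 0)
    (hΛ : ∀ x : Λ, π ^ 2 • x = 0 → π • x = 0) [CommRing A] [Algebra R A]
    [CommRing D] [Algebra R D] [Algebra.FinitePresentation R D]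
    (φ : A →ₐ[R] Λ) (δ : D →ₐ[R] Λ)
    (hπ : Smoothing.IsStrictlyStandard R A (algebraMap R A π))
    (ψ : A →ₐ[R] D ⧸ Ideal.span {algebraMap R D (π ^ 4)})
    (hψ : ∀ (a : A) (d : D), Ideal.Quotient.mk (Ideal.span {algebraMap R D (π ^ 4)}) d = ψ a →
      δ d - φ a ∈ Ideal.span {algebraMap R Λ (π ^ 4)}) :
    ∃ (B : Type u) (_ : CommRing B) (_ : Algebra R B) (_ : Algebra D B) (_ : IsScalarTower R D B),
      Algebra.FinitePresentation R B ∧
      ∃ (α : A →ₐ[R] B) (β : B →ₐ[R] Λ), β.comp α = φ ∧
        β.comp (IsScalarTower.toAlgHom R D B) = δ ∧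
        (Smoothing.singularIdeal R D).map (algebraMap D B) ≤ Smoothing.singularIdeal D B ∧
        (Smoothing.singularIdeal R D).map (algebraMap D B) ≤ Smoothing.singularIdeal R B := by
  revert ψ
  rw [map_pow (algebraMap R D) π 4]
  intro ψ hψ
  exact desing_aux π hR hΛ φ δ hπ ψ hψ

end Main

end Groth.Agent.Lib.DesingLemmaH4
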