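import Mathlib
import Groth.Agent.Lib.HensPairSm1_helper8

/-!
# Elkik's lemma (smooth algebras are retracts of standard smooth ones), part 1 (helper8)
Module-theoretic lemmas.  APPEND-ONLY once landed.
-/

set_option autoImplicit false

open TensorProduct

namespace ElkikSmH8

universe u

/-- A linear map into a finite projective module which is bijective modulo `K` becomes bijective
after inverting some `g ≡ 1 mod K` (stated without localizations). -/
theorem exists_away_bijective {B₀ : Type*} [CommRing B₀] {M N : Type*} [AddCommGroup M]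
    [Module B₀ M] [AddCommGroup N] [Module B₀ N] [Module.Finite B₀ M] [Module.Finite B₀ N]
    [Module.Projective B₀ N] (K : Ideal B₀) (Ψ : M →ₗ[B₀] N)
    (hsurj : ∀ ω : N, ω ∈ LinearMap.range Ψ ⊔ K • (⊤ : Submodule B₀ N))
    (hinj : ∀ v : M, Ψ v ∈ K • (⊤ : Submodule B₀ N) → v ∈ K • (⊤ : Submodule B₀ M)) :
    ∃ g : B₀, g - 1 ∈ K ∧ (∀ ω : N, g • ω ∈ LinearMap.range Ψ) ∧
      (∀ v : M, Ψ v = 0 → g • v = 0) := by
  -- Step 1: Nakayama on the cokernel
  have htop : (⊤ : Submodule B₀ (N ⧸ LinearMap.range Ψ)) ≤ K • ⊤ := by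
    intro q _
    obtain ⟨ω, rfl⟩ := Submodule.Quotient.mk_surjective _ q
    obtain ⟨y, hy, z, hz, hyz⟩ := Submodule.mem_sup.mp (hsurj ω)
    have h1 : (Submodule.Quotient.mk ω : N ⧸ LinearMap.range Ψ) =
        (LinearMap.range Ψ).mkQ z := by
      rw [← hyz, Submodule.Quotient.mk_add, (Submodule.Quotient.mk_eq_zero _).mpr hy, zero_add]
      rfl
    rw [h1]
    have h2 : (LinearMap.range Ψ).mkQ z ∈ Submodule.map (LinearMap.range Ψ).mkQ
        (K • (⊤ : Submodule B₀ N)) := Submodule.mem_map_of_mem hz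
    rw [Submodule.map_smul''] at h2
    have h3 : K • Submodule.map (LinearMap.range Ψ).mkQ (⊤ : Submodule B₀ N) ≤
        K • (⊤ : Submodule B₀ (N ⧸ LinearMap.range Ψ)) := smul_mono_right K le_top
    exact h3 h2
  obtain ⟨g₁, hg₁, hg₁'⟩ := Submodule.exists_sub_one_mem_and_smul_eq_zero_of_fg_of_le_smul K
    (⊤ : Submodule B₀ (N ⧸ LinearMap.range Ψ)) Module.Finite.fg_top htop
  have hg₁r : ∀ ω : N, g₁ • ω ∈ LinearMap.range Ψ := by
    intro ω
    have := hg₁' (Submodule.Quotient.mk ω) trivial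
    rwa [← Submodule.Quotient.mk_smul, Submodule.Quotient.mk_eq_zero] at this
  -- Step 2: lift `g₁ • id`
  let tgt : N →ₗ[B₀] LinearMap.range Ψ :=
    LinearMap.codRestrict (LinearMap.range Ψ) (g₁ • (LinearMap.id : N →ₗ[B₀] N)) hg₁r
  obtain ⟨Θ, hΘ⟩ := Module.projective_lifting_property Ψ.rangeRestrict tgt
    Ψ.surjective_rangeRestrict
  have hΘ' : ∀ ω : N, Ψ (Θ ω) = g₁ • ω := by
    intro ω
    have := congrArg Subtype.val (LinearMap.congr_fun hΘ ω)
    simpa [tgt] using this
  -- Step 3: quasi-inverse of `Θ ∘ Ψ`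
  have hφ : ∀ v : M, (Θ ∘ₗ Ψ) v - v ∈ K • (⊤ : Submodule B₀ M) := by
    intro v
    have h1 : (Θ ∘ₗ Ψ) v - g₁ • v ∈ K • (⊤ : Submodule B₀ M) := by
      apply hinj
      rw [map_sub, LinearMap.comp_apply, hΘ', map_smul, sub_self]
      exact Submodule.zero_mem _
    have h2 : (g₁ - 1) • v ∈ K • (⊤ : Submodule B₀ M) :=
      Submodule.smul_mem_smul hg₁ trivial
    have : (Θ ∘ₗ Ψ) v - v = ((Θ ∘ₗ Ψ) v - g₁ • v) + (g₁ - 1) • v := by
      rw [sub_smul, one_smul]; abel
    rw [this]
    exact Submodule.add_mem _ h1 h2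
  obtain ⟨g₂, χ, hg₂, -, hχ⟩ := HensPairSmH8.exists_quasi_inverse K (Θ ∘ₗ Ψ) hφ
  refine ⟨g₁ * g₂, ?_, ?_, ?_⟩
  · have : g₁ * g₂ - 1 = g₁ * (g₂ - 1) + (g₁ - 1) := by ring
    rw [this]
    exact K.add_mem (K.mul_mem_left _ hg₂) hg₁
  · intro ω
    rw [mul_comm, mul_smul]
    exact Submodule.smul_mem _ _ (hg₁r ω)
  · intro v hv
    have := hχ v
    rw [LinearMap.comp_apply, hv, map_zero, map_zero] at this
    rw [mul_smul, ← this, smul_zero]

/-- A basis of `Ω[B⁄R]`, `B = B₀[1/g]`, from elements of `B₀` whose differentials form a basis of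
`Ω[B₀⁄R]` up to `g`. -/
theorem exists_basis_away {R B₀ B : Type*} [CommRing R] [CommRing B₀] [Algebra R B₀] [CommRing B]
    [Algebra R B] [Algebra B₀ B] [IsScalarTower R B₀ B] (g : B₀) [IsLocalization.Away g B]
    {n : ℕ} (b : Fin n → B₀)
    (h1 : ∀ ω : Ω[B₀⁄R], ∃ v : Fin n → B₀,
      g • ω = ∑ i, v i • KaehlerDifferential.D R B₀ (b i))
    (h2 : ∀ v : Fin n → B₀, ∑ i, v i • KaehlerDifferential.D R B₀ (b i) = 0 →
      ∀ i, g * v i = 0) :
    ∃ bas : Module.Basis (Fin n) B Ω[B⁄R],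
      ∀ i, bas i = KaehlerDifferential.D R B (algebraMap B₀ B (b i)) := by
  classical
  have hloc : IsLocalizedModule (Submonoid.powers g) (KaehlerDifferential.map R R B₀ B) :=
    KaehlerDifferential.isLocalizedModule_map R B₀ B (Submonoid.powers g)
  have hμD : ∀ x : B₀, KaehlerDifferential.map R R B₀ B (KaehlerDifferential.D R B₀ x) =
      KaehlerDifferential.D R B (algebraMap B₀ B x) := fun x => KaehlerDifferential.map_D R R B₀ B x
  have hunit : ∀ k : ℕ, IsUnit (algebraMap B₀ B (g ^ k)) := fun k => by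
    rw [map_pow]
    exact (IsLocalization.Away.algebraMap_isUnit g).pow k
  have hμsum : ∀ c : Fin n → B₀, KaehlerDifferential.map R R B₀ B
      (∑ i, c i • KaehlerDifferential.D R B₀ (b i)) =
      ∑ i, algebraMap B₀ B (c i) • KaehlerDifferential.D R B (algebraMap B₀ B (b i)) := by
    intro c
    rw [map_sum]
    refine Finset.sum_congr rfl fun i _ => ?_
    rw [map_smul, hμD, algebraMap_smul]
  have hli : LinearIndependent B
      (fun i => KaehlerDifferential.D R B (algebraMap B₀ B (b i))) := by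
    rw [Fintype.linearIndependent_iff]
    intro c hc i
    obtain ⟨s, hs⟩ := IsLocalization.exist_integer_multiples (Submonoid.powers g)
      (Finset.univ : Finset (Fin n)) c
    choose c' hc' using fun i => hs i (Finset.mem_univ i)
    obtain ⟨k, hk⟩ := s.2
    have h3 : KaehlerDifferential.map R R B₀ B
        (∑ i, c' i • KaehlerDifferential.D R B₀ (b i)) = 0 := by
      rw [hμsum]
      have : ∀ i, algebraMap B₀ B (c' i) • KaehlerDifferential.D R B (algebraMap B₀ B (b i)) =
          algebraMap B₀ B (s : B₀) •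
            (c i • KaehlerDifferential.D R B (algebraMap B₀ B (b i))) := by
        intro i
        rw [hc' i, Algebra.smul_def, mul_smul]
      simp_rw [this]
      rw [← Finset.smul_sum, hc, smul_zero]
    rw [IsLocalizedModule.eq_zero_iff (Submonoid.powers g)] at h3
    obtain ⟨⟨_, m, rfl⟩, hm⟩ := h3
    rw [Submonoid.smul_def, Finset.smul_sum] at hm
    simp only [smul_smul] at hm
    have h4 := h2 (fun i => g ^ m * c' i) hm i
    have h5 : algebraMap B₀ B (g ^ (m + 1)) * algebraMap B₀ B (c' i) = 0 := by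
      rw [← map_mul, pow_succ', mul_assoc, h4, map_zero]
    have h6 : algebraMap B₀ B (c' i) = 0 := (hunit (m + 1)).mul_right_eq_zero.mp h5
    rw [hc' i, Algebra.smul_def, ← hk] at h6
    exact (hunit k).mul_right_eq_zero.mp h6
  have hsp : ⊤ ≤ Submodule.span B
      (Set.range fun i => KaehlerDifferential.D R B (algebraMap B₀ B (b i))) := by
    intro ω' _
    obtain ⟨⟨ω, ⟨_, k, rfl⟩⟩, hω⟩ := IsLocalizedModule.surj (Submonoid.powers g)
      (KaehlerDifferential.map R R B₀ B) ω'
    obtain ⟨v, hv⟩ := h1 ω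
    have h3 : algebraMap B₀ B (g ^ (k + 1)) • ω' =
        ∑ i, algebraMap B₀ B (v i) • KaehlerDifferential.D R B (algebraMap B₀ B (b i)) := by
      rw [← hμsum, ← hv, map_smul, pow_succ', map_mul, mul_smul, algebraMap_smul,
        algebraMap_smul]
      have hω' : g ^ k • ω' = KaehlerDifferential.map R R B₀ B ω := hω
      rw [hω']
    have h4 : algebraMap B₀ B (g ^ (k + 1)) • ω' ∈ Submodule.span B
        (Set.range fun i => KaehlerDifferential.D R B (algebraMap B₀ B (b i))) := by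
      rw [h3]
      exact Submodule.sum_mem _ fun i _ =>
        Submodule.smul_mem _ _ (Submodule.subset_span ⟨i, rfl⟩)
    obtain ⟨u, hu⟩ := hunit (k + 1)
    have h5 : ω' = (↑u⁻¹ : B) • (algebraMap B₀ B (g ^ (k + 1)) • ω') := by
      rw [← hu, smul_smul, Units.inv_mul, one_smul]
    rw [h5]
    exact Submodule.smul_mem _ _ h4
  exact ⟨Module.Basis.mk hli hsp, fun i => Module.Basis.mk_apply hli hsp i⟩

end ElkikSmH8
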