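import Mathlib
import Groth.Agent.Lib.ElkikSm1_helper8

/-!
# Elkik's lemma, part 2: from a smooth algebra with retraction and good elements to the statement
(helper8)  APPEND-ONLY once landed.
-/

set_option autoImplicit false

open TensorProduct

namespace ElkikSmH8

universe u

theorem main_of_data {R A B₀ : Type u} [CommRing R] [CommRing A] [Algebra R A]
    [Algebra.Smooth R A] [CommRing B₀] [Algebra R B₀] [Algebra A B₀] [IsScalarTower R A B₀]
    [Algebra.Smooth A B₀] (ε : B₀ →ₐ[A] A) {n : ℕ} (b : Fin n → B₀)
    (hsurj : ∀ ω : Ω[B₀⁄R], ω ∈ LinearMap.range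
        (Fintype.linearCombination B₀ (fun i => KaehlerDifferential.D R B₀ (b i))) ⊔
        (RingHom.ker ε) • (⊤ : Submodule B₀ Ω[B₀⁄R]))
    (hinj : ∀ v : Fin n → B₀, (∑ i, v i • KaehlerDifferential.D R B₀ (b i)) ∈
        (RingHom.ker ε) • (⊤ : Submodule B₀ Ω[B₀⁄R]) → ∀ i, ε (v i) = 0) :
    ∃ (B : Type u) (_ : CommRing B) (_ : Algebra R B) (_ : Algebra A B)
      (_ : IsScalarTower R A B),
      Algebra.Smooth A B ∧ Nonempty (B →ₐ[A] A) ∧ Algebra.IsStandardSmooth R B := by
  classical
  haveI : Algebra.Smooth R B₀ := Algebra.Smooth.comp R A B₀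
  have hinj' : ∀ v : Fin n → B₀,
      Fintype.linearCombination B₀ (fun i => KaehlerDifferential.D R B₀ (b i)) v ∈
        (RingHom.ker ε) • (⊤ : Submodule B₀ Ω[B₀⁄R]) →
      v ∈ (RingHom.ker ε) • (⊤ : Submodule B₀ (Fin n → B₀)) := by
    intro v hv
    rw [Fintype.linearCombination_apply] at hv
    have h := hinj v hv
    have hv' : v = ∑ i, v i • (Pi.single i 1 : Fin n → B₀) := by
      ext j
      simp [Finset.sum_apply, Pi.single_apply]
    rw [hv']
    exact Submodule.sum_mem _ fun i _ =>
      Submodule.smul_mem_smul ((RingHom.mem_ker).mpr (h i)) trivial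
  obtain ⟨g, hg, hg1, hg2⟩ := exists_away_bijective (RingHom.ker ε)
    (Fintype.linearCombination B₀ (fun i => KaehlerDifferential.D R B₀ (b i))) hsurj hinj'
  have hεg : ε g = 1 := by
    have := (RingHom.mem_ker).mp hg
    rw [map_sub, map_one, sub_eq_zero] at this
    exact this
  haveI : Algebra.Smooth B₀ (Localization.Away g) := Algebra.Smooth.of_isLocalization_Away g
  haveI : Algebra.Smooth A (Localization.Away g) := Algebra.Smooth.comp A B₀ (Localization.Away g)
  haveI : Algebra.Smooth R (Localization.Away g) := Algebra.Smooth.comp R B₀ (Localization.Away g)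
  refine ⟨Localization.Away g, inferInstance, inferInstance, inferInstance, inferInstance,
    inferInstance, ?_, ?_⟩
  · refine ⟨IsLocalization.liftAlgHom (M := Submonoid.powers g) (f := ε) ?_⟩
    rintro ⟨_, k, rfl⟩
    rw [map_pow, hεg, one_pow]
    exact isUnit_one
  · obtain ⟨bas, hbas⟩ := exists_basis_away (R := R) (B := Localization.Away g) g b
      (fun ω => by
        obtain ⟨v, hv⟩ := hg1 ω
        exact ⟨v, by rw [← hv, Fintype.linearCombination_apply]⟩)
      (fun v hv i => by
        have := hg2 v (by rw [Fintype.linearCombination_apply]; exact hv)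
        have h2 := congrFun this i
        simpa using h2)
    haveI : Algebra.FinitePresentation R (Localization.Away g) :=
      Algebra.Smooth.finitePresentation
    exact Algebra.IsStandardSmooth.of_basis_kaehlerDifferential bas (by
      rintro _ ⟨i, rfl⟩
      exact ⟨_, (hbas i).symm⟩)

end ElkikSmH8
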