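import Mathlib

/-!
# Elkik's lemma, part 3: differentials of a symmetric algebra over a base (helper8)
APPEND-ONLY once landed.
-/

set_option autoImplicit false

open TensorProduct

namespace ElkikSmH8

universe u

/-- Chain rule for polynomial expressions in an algebra. -/
theorem D_aeval {R C : Type*} [CommRing R] [CommRing C] [Algebra R C] {n : ℕ} (c : Fin n → C)
    (f : MvPolynomial (Fin n) R) :
    KaehlerDifferential.D R C (MvPolynomial.aeval c f) =
      ∑ i, MvPolynomial.aeval c (MvPolynomial.pderiv i f) • KaehlerDifferential.D R C (c i) := by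
  classical
  induction f using MvPolynomial.induction_on with
  | C r =>
    simp only [MvPolynomial.aeval_C, MvPolynomial.pderiv_C, map_zero, zero_smul,
      Finset.sum_const_zero]
    exact (KaehlerDifferential.D R C).map_algebraMap r
  | add p q hp hq =>
    simp only [map_add, hp, hq, add_smul, Finset.sum_add_distrib]
  | mul_X p j hp =>
    rw [map_mul, MvPolynomial.aeval_X, Derivation.leibniz, hp]
    have key : ∀ i, MvPolynomial.aeval c (MvPolynomial.pderiv i (p * MvPolynomial.X j)) •
        KaehlerDifferential.D R C (c i) =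
        c j • (MvPolynomial.aeval c (MvPolynomial.pderiv i p) • KaehlerDifferential.D R C (c i)) +
          (if j = i then MvPolynomial.aeval c p • KaehlerDifferential.D R C (c i) else 0) := by
      intro i
      rw [Derivation.leibniz, MvPolynomial.pderiv_X, smul_eq_mul, smul_eq_mul, map_add, map_mul,
        map_mul, MvPolynomial.aeval_X, add_smul, add_comm]
      congr 1
      · rw [mul_comm, mul_smul, smul_comm]
      · by_cases h : j = i
        · subst h
          simp
        · simp [h]
    simp_rw [key]
    rw [Finset.sum_add_distrib, ← Finset.smul_sum, Finset.sum_ite_eq Finset.univ j,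
      if_pos (Finset.mem_univ j), add_comm]

section SymDiff

variable {R A : Type u} [CommRing R] [CommRing A] [Algebra R A]
  (P : Type u) [AddCommGroup P] [Module A P] [Module R P] [IsScalarTower R A P]

/-- The map `Ω[Sym_A P⁄R] → Ω[A⁄R]` induced by the augmentation. -/
theorem exists_T1 : ∃ T : Ω[SymmetricAlgebra A P⁄R] →+ Ω[A⁄R],
    (∀ b b' : SymmetricAlgebra A P, T (b • KaehlerDifferential.D R (SymmetricAlgebra A P) b') =
      (SymmetricAlgebra.algebraMapInv b : A) •
        KaehlerDifferential.D R A (SymmetricAlgebra.algebraMapInv b')) ∧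
    (∀ k : SymmetricAlgebra A P, (SymmetricAlgebra.algebraMapInv k : A) = 0 →
      ∀ ω, T (k • ω) = 0) := by
  let ε : SymmetricAlgebra A P →ₐ[A] A := SymmetricAlgebra.algebraMapInv
  letI : Algebra (SymmetricAlgebra A P) A := ε.toRingHom.toAlgebra
  haveI : IsScalarTower R (SymmetricAlgebra A P) A := .of_algebraMap_eq (fun r => by
    show algebraMap R A r = ε (algebraMap R _ r)
    rw [IsScalarTower.algebraMap_apply R A (SymmetricAlgebra A P), ε.commutes]
    rfl)
  refine ⟨(KaehlerDifferential.map R R (SymmetricAlgebra A P) A).toAddMonoidHom, ?_, ?_⟩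
  · intro b b'
    show KaehlerDifferential.map R R (SymmetricAlgebra A P) A
      (b • KaehlerDifferential.D R (SymmetricAlgebra A P) b') = _
    rw [map_smul, KaehlerDifferential.map_D, ← algebraMap_smul A b]
    rfl
  · intro k hk ω
    show KaehlerDifferential.map R R (SymmetricAlgebra A P) A (k • ω) = 0
    rw [map_smul, ← algebraMap_smul A k]
    have : algebraMap (SymmetricAlgebra A P) A k = 0 := hk
    rw [this, zero_smul]

/-- The map `Ω[Sym_A P⁄R] → P` given by the degree-one part. -/
theorem exists_T2 : ∃ T : Ω[SymmetricAlgebra A P⁄R] →+ P,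
    (∀ (b : SymmetricAlgebra A P) (p : P),
      T (b • KaehlerDifferential.D R (SymmetricAlgebra A P) (SymmetricAlgebra.ι A P p)) =
        (SymmetricAlgebra.algebraMapInv b : A) • p) ∧
    (∀ (b : SymmetricAlgebra A P) (a : A),
      T (b • KaehlerDifferential.D R (SymmetricAlgebra A P)
        (algebraMap A (SymmetricAlgebra A P) a)) = 0) ∧
    (∀ k : SymmetricAlgebra A P, (SymmetricAlgebra.algebraMapInv k : A) = 0 →
      ∀ ω, T (k • ω) = 0) := by
  let ε : SymmetricAlgebra A P →ₐ[A] A := SymmetricAlgebra.algebraMapInv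
  letI : Module Aᵐᵒᵖ P := Module.compHom _ ((RingHom.id A).fromOpposite mul_comm)
  haveI : IsCentralScalar A P := ⟨fun r m => rfl⟩
  let τ : SymmetricAlgebra A P →ₐ[A] TrivSqZeroExt A P :=
    SymmetricAlgebra.lift (TrivSqZeroExt.inrHom A P)
  have hτι : ∀ p, τ (SymmetricAlgebra.ι A P p) = TrivSqZeroExt.inr p := fun p =>
    SymmetricAlgebra.lift_ι_apply _ p
  have hfst : ∀ b, (τ b).fst = ε b := by
    intro b
    have : (TrivSqZeroExt.fstHom A A P).comp τ = ε := by
      apply SymmetricAlgebra.algHom_ext
      ext p
      simp [hτι, ε, SymmetricAlgebra.algebraMapInv_ι]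
    exact AlgHom.congr_fun this b
  letI : Module (SymmetricAlgebra A P) P := Module.compHom P ε.toRingHom
  have hsmul : ∀ (b : SymmetricAlgebra A P) (p : P), b • p = ε b • p := fun _ _ => rfl
  haveI : IsScalarTower R (SymmetricAlgebra A P) P := ⟨fun r b p => by
    have h1 : ε (r • b) = r • ε b := by
      rw [← algebraMap_smul A r b, map_smul, algebraMap_smul]
    rw [hsmul, hsmul, h1, smul_assoc]⟩
  let D₁ : Derivation R (SymmetricAlgebra A P) P := Derivation.mk'
    (((TrivSqZeroExt.sndHom A P).comp τ.toLinearMap).restrictScalars R) (fun a b => by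
      show (τ (a * b)).snd = a • (τ b).snd + b • (τ a).snd
      rw [map_mul, TrivSqZeroExt.snd_mul, hsmul, hsmul, hfst, hfst, op_smul_eq_smul])
  have hD₁ : ∀ b, D₁ b = (τ b).snd := fun b => rfl
  refine ⟨D₁.liftKaehlerDifferential.toAddMonoidHom, ?_, ?_, ?_⟩
  · intro b p
    show D₁.liftKaehlerDifferential (b • KaehlerDifferential.D R (SymmetricAlgebra A P)
      (SymmetricAlgebra.ι A P p)) = _
    rw [map_smul, Derivation.liftKaehlerDifferential_comp_D, hD₁, hτι, TrivSqZeroExt.snd_inr,
      hsmul]
  · intro b a
    show D₁.liftKaehlerDifferential (b • KaehlerDifferential.D R (SymmetricAlgebra A P)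
      (algebraMap A (SymmetricAlgebra A P) a)) = _
    rw [map_smul, Derivation.liftKaehlerDifferential_comp_D, hD₁, τ.commutes,
      TrivSqZeroExt.algebraMap_eq_inl, TrivSqZeroExt.snd_inl, smul_zero]
  · intro k hk ω
    show D₁.liftKaehlerDifferential (k • ω) = 0
    rw [map_smul, hsmul]
    have : ε k = 0 := hk
    rw [this, zero_smul]

end SymDiff

end ElkikSmH8
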