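import Mathlib

/-!
# The symmetric algebra is smooth iff the module is finite projective (helper7, S2094)
-/

namespace Groth.Agent.Lib.SymSmoothH7

universe u

lemma ι_eq_zero_imp {A X : Type*} [CommRing A] [AddCommGroup X] [Module A X] (x : X)
    (h : SymmetricAlgebra.ι A X x = 0) : x = 0 := by
  letI : Module Aᵐᵒᵖ X := Module.compHom _ ((RingHom.id A).fromOpposite mul_comm)
  haveI : IsCentralScalar A X := ⟨fun r m => rfl⟩
  have h1 := congrArg (SymmetricAlgebra.lift (TrivSqZeroExt.inrHom A X)) h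
  rw [SymmetricAlgebra.lift_ι_apply, map_zero] at h1
  have h2 : (TrivSqZeroExt.inr x : TrivSqZeroExt A X) = TrivSqZeroExt.inr 0 := by
    rw [TrivSqZeroExt.inr_zero]
    exact h1
  exact TrivSqZeroExt.inr_injective h2

lemma exists_section {A : Type u} [CommRing A] {M F : Type u} [AddCommGroup M] [Module A M]
    [AddCommGroup F] [Module A F] [Algebra.FormallySmooth A (SymmetricAlgebra A M)]
    (π : F →ₗ[A] M) (hπ : Function.Surjective π) :
    ∃ s : M →ₗ[A] F, π ∘ₗ s = LinearMap.id := by
  letI : Module Aᵐᵒᵖ M := Module.compHom _ ((RingHom.id A).fromOpposite mul_comm)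
  haveI : IsCentralScalar A M := ⟨fun r m => rfl⟩
  letI : Module Aᵐᵒᵖ F := Module.compHom _ ((RingHom.id A).fromOpposite mul_comm)
  haveI : IsCentralScalar A F := ⟨fun r m => rfl⟩
  let g : TrivSqZeroExt A F →ₐ[A] TrivSqZeroExt A M := TrivSqZeroExt.map π
  have hg : Function.Surjective g := by
    intro x
    obtain ⟨y, hy⟩ := hπ x.snd
    refine ⟨TrivSqZeroExt.inl x.fst + TrivSqZeroExt.inr y, ?_⟩
    apply TrivSqZeroExt.ext
    · simp [g, TrivSqZeroExt.fst_map]
    · simp [g, TrivSqZeroExt.snd_map, hy]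
  have hnil : IsNilpotent (RingHom.ker (g : TrivSqZeroExt A F →+* TrivSqZeroExt A M)) := by
    refine ⟨2, ?_⟩
    rw [pow_two, Ideal.zero_eq_bot, eq_bot_iff, Ideal.mul_le]
    intro x hx y hy
    rw [RingHom.mem_ker] at hx hy
    have hx1 : x.fst = 0 := by
      have := congrArg TrivSqZeroExt.fst hx
      simpa [g, TrivSqZeroExt.fst_map] using this
    have hy1 : y.fst = 0 := by
      have := congrArg TrivSqZeroExt.fst hy
      simpa [g, TrivSqZeroExt.fst_map] using this
    rw [Ideal.mem_bot]
    apply TrivSqZeroExt.ext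
    · simp [hx1]
    · simp [hx1, hy1]
  let f : SymmetricAlgebra A M →ₐ[A] TrivSqZeroExt A M :=
    SymmetricAlgebra.lift (TrivSqZeroExt.inrHom A M)
  let h := Algebra.FormallySmooth.liftOfSurjective f g hg hnil
  have hh : g.comp h = f := Algebra.FormallySmooth.comp_liftOfSurjective f g hg hnil
  refine ⟨(TrivSqZeroExt.sndHom A F) ∘ₗ h.toLinearMap ∘ₗ SymmetricAlgebra.ι A M, ?_⟩
  ext m
  have h1 := congrArg (fun φ : SymmetricAlgebra A M →ₐ[A] TrivSqZeroExt A M =>
    (φ (SymmetricAlgebra.ι A M m)).snd) hh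
  simp only [AlgHom.comp_apply, f, SymmetricAlgebra.lift_ι_apply] at h1
  have h2 : (g (h (SymmetricAlgebra.ι A M m))).snd = π ((h (SymmetricAlgebra.ι A M m)).snd) :=
    TrivSqZeroExt.snd_map π _
  rw [h2] at h1
  simpa using h1

lemma formallySmooth_of_projective {A M : Type u} [CommRing A] [AddCommGroup M] [Module A M]
    [Module.Projective A M] : Algebra.FormallySmooth A (SymmetricAlgebra A M) := by
  rw [Algebra.FormallySmooth.iff_comp_surjective]
  intro B _ _ I hI g
  obtain ⟨l, hl⟩ := Module.projective_lifting_property (Ideal.Quotient.mkₐ A I).toLinearMap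
    (g.toLinearMap ∘ₗ SymmetricAlgebra.ι A M) (Ideal.Quotient.mkₐ_surjective A I)
  refine ⟨SymmetricAlgebra.lift l, ?_⟩
  apply SymmetricAlgebra.algHom_ext
  ext m
  have := LinearMap.congr_fun hl m
  simpa using this

lemma ker_fg_of_retract {A C B : Type*} [CommRing A] [CommRing C] [Algebra A C] [CommRing B]
    [Algebra A B] [Algebra.FiniteType A C] (r : C →ₐ[A] B) (i : B →ₐ[A] C)
    (hri : r.comp i = AlgHom.id A B) : (RingHom.ker r.toRingHom).FG := by
  classical
  obtain ⟨G, hG⟩ := (Algebra.FiniteType.out : (⊤ : Subalgebra A C).FG)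
  let J : Ideal C := Ideal.span ((fun c => c - i (r c)) '' (G : Set C))
  have hJfg : J.FG := ⟨G.image (fun c => c - i (r c)), by rw [Finset.coe_image]⟩
  have hJ : RingHom.ker r.toRingHom = J := by
    apply le_antisymm
    · intro c hc
      have hc' : r c = 0 := hc
      let q := Ideal.Quotient.mkₐ A J
      have heq : q = q.comp (i.comp r) := by
        apply AlgHom.ext_of_adjoin_eq_top hG
        intro c hcG
        show q c = q (i (r c))
        rw [← sub_eq_zero, ← map_sub]
        exact (Ideal.Quotient.eq_zero_iff_mem).2 (Ideal.subset_span ⟨c, hcG, rfl⟩)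
      have h1 := AlgHom.congr_fun heq c
      rw [AlgHom.comp_apply, AlgHom.comp_apply, hc', map_zero, map_zero] at h1
      exact Ideal.Quotient.eq_zero_iff_mem.1 h1
    · rw [Ideal.span_le]
      rintro _ ⟨c, _, rfl⟩
      show r (c - i (r c)) = 0
      rw [map_sub, sub_eq_zero]
      exact (AlgHom.congr_fun hri (r c)).symm
  rw [hJ]
  exact hJfg

lemma fp_of_finite_projective {A M : Type u} [CommRing A] [AddCommGroup M] [Module A M]
    [Module.Finite A M] [Module.Projective A M] :
    Algebra.FinitePresentation A (SymmetricAlgebra A M) := by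
  obtain ⟨n, p, s, hp, hs, hps⟩ := Module.Finite.exists_comp_eq_id_of_projective A M
  haveI : Algebra.FinitePresentation A (SymmetricAlgebra A (Fin n → A)) :=
    Algebra.FinitePresentation.equiv
      (SymmetricAlgebra.equivMvPolynomial (Pi.basisFun A (Fin n))).symm
  let r : SymmetricAlgebra A (Fin n → A) →ₐ[A] SymmetricAlgebra A M :=
    SymmetricAlgebra.lift (SymmetricAlgebra.ι A M ∘ₗ p)
  let i : SymmetricAlgebra A M →ₐ[A] SymmetricAlgebra A (Fin n → A) :=
    SymmetricAlgebra.lift (SymmetricAlgebra.ι A _ ∘ₗ s)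
  have hri : r.comp i = AlgHom.id A _ := by
    apply SymmetricAlgebra.algHom_ext
    ext m
    have h1 : p (s m) = m := LinearMap.congr_fun hps m
    simp [r, i, SymmetricAlgebra.lift_ι_apply, h1]
  have hsurj : Function.Surjective r := fun x => ⟨i x, AlgHom.congr_fun hri x⟩
  haveI : Algebra.FiniteType A (SymmetricAlgebra A (Fin n → A)) :=
    Algebra.FiniteType.of_finitePresentation
  exact Algebra.FinitePresentation.of_surjective hsurj (ker_fg_of_retract r i hri)

lemma finite_of_finiteType {A M : Type u} [CommRing A] [AddCommGroup M] [Module A M]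
    [Algebra.FiniteType A (SymmetricAlgebra A M)] : Module.Finite A M := by
  classical
  obtain ⟨G, hG⟩ := (Algebra.FiniteType.out : (⊤ : Subalgebra A (SymmetricAlgebra A M)).FG)
  have key : ∀ g : SymmetricAlgebra A M, ∃ T : Finset M,
      g ∈ Algebra.adjoin A (SymmetricAlgebra.ι A M '' (T : Set M)) := by
    intro g
    refine SymmetricAlgebra.induction A M (motive := fun g => ∃ T : Finset M,
      g ∈ Algebra.adjoin A (SymmetricAlgebra.ι A M '' (T : Set M))) ?_ ?_ ?_ ?_ g
    · intro r
      exact ⟨∅, Subalgebra.algebraMap_mem _ r⟩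
    · intro x
      exact ⟨{x}, Algebra.subset_adjoin ⟨x, by simp, rfl⟩⟩
    · rintro a b ⟨Ta, ha⟩ ⟨Tb, hb⟩
      refine ⟨Ta ∪ Tb, Subalgebra.mul_mem _
        (Algebra.adjoin_mono (Set.image_mono (by simp)) ha)
        (Algebra.adjoin_mono (Set.image_mono (by simp)) hb)⟩
    · rintro a b ⟨Ta, ha⟩ ⟨Tb, hb⟩
      refine ⟨Ta ∪ Tb, Subalgebra.add_mem _
        (Algebra.adjoin_mono (Set.image_mono (by simp)) ha)
        (Algebra.adjoin_mono (Set.image_mono (by simp)) hb)⟩
  choose T hT using key
  let T₀ : Finset M := G.biUnion T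
  have htop : Algebra.adjoin A (SymmetricAlgebra.ι A M '' (T₀ : Set M)) = ⊤ := by
    rw [eq_top_iff, ← hG]
    apply Algebra.adjoin_le
    intro g hg
    refine Algebra.adjoin_mono (Set.image_mono ?_) (hT g)
    intro t ht
    exact Finset.mem_biUnion.2 ⟨g, hg, ht⟩
  let M' : Submodule A M := Submodule.span A (T₀ : Set M)
  let φ : SymmetricAlgebra A M →ₐ[A] SymmetricAlgebra A (M ⧸ M') :=
    SymmetricAlgebra.lift (SymmetricAlgebra.ι A (M ⧸ M') ∘ₗ M'.mkQ)
  let φ₀ : SymmetricAlgebra A M →ₐ[A] SymmetricAlgebra A (M ⧸ M') :=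
    SymmetricAlgebra.lift 0
  have hφ : φ = φ₀ := by
    apply AlgHom.ext_of_adjoin_eq_top htop
    rintro _ ⟨t, ht, rfl⟩
    have h0 : M'.mkQ t = 0 := (Submodule.Quotient.mk_eq_zero M').2 (Submodule.subset_span ht)
    show φ (SymmetricAlgebra.ι A M t) = φ₀ (SymmetricAlgebra.ι A M t)
    rw [SymmetricAlgebra.lift_ι_apply, SymmetricAlgebra.lift_ι_apply, LinearMap.comp_apply, h0,
      map_zero, LinearMap.zero_apply]
  have hall : ∀ m : M, m ∈ M' := by
    intro m
    have h1 := AlgHom.congr_fun hφ (SymmetricAlgebra.ι A M m)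
    rw [SymmetricAlgebra.lift_ι_apply, SymmetricAlgebra.lift_ι_apply, LinearMap.comp_apply,
      LinearMap.zero_apply] at h1
    exact (Submodule.Quotient.mk_eq_zero M').1 (ι_eq_zero_imp _ h1)
  exact Module.finite_def.2 ⟨T₀, eq_top_iff.2 (fun m _ => hall m)⟩

theorem main {A M : Type u} [CommRing A] [AddCommGroup M] [Module A M] :
    Algebra.Smooth A (SymmetricAlgebra A M) ↔ Module.Finite A M ∧ Module.Projective A M := by
  constructor
  · intro h
    haveI := h.formallySmooth
    haveI := h.finitePresentation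
    haveI : Algebra.FiniteType A (SymmetricAlgebra A M) :=
      Algebra.FiniteType.of_finitePresentation
    refine ⟨finite_of_finiteType, ?_⟩
    obtain ⟨s, hs⟩ := exists_section (Finsupp.linearCombination A (id : M → M))
      (Finsupp.linearCombination_id_surjective A M)
    exact Module.Projective.of_split s _ hs
  · rintro ⟨hf, hp⟩
    exact { formallySmooth := formallySmooth_of_projective
            finitePresentation := fp_of_finite_projective }

end Groth.Agent.Lib.SymSmoothH7
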