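import Mathlib
import Groth.Agent.Lib.ElkikSm2_helper8
import Groth.Agent.Lib.ElkikSm3_helper8
import Groth.Agent.Lib.SymSmooth_helper7

/-!
# Elkik's lemma, part 4: the symmetric algebra of the conormal module (helper8)
APPEND-ONLY once landed.
-/

set_option autoImplicit false

open TensorProduct

namespace ElkikSmH8

universe u

theorem main_of_coords {R A : Type u} [CommRing R] [CommRing A] [Algebra R A]
    [Algebra.Smooth R A] {n : ℕ} (x : Fin n → A)
    (hx : Function.Surjective (MvPolynomial.aeval x : MvPolynomial (Fin n) R →ₐ[R] A))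
    (P : Type u) [AddCommGroup P] [Module A P] [Module R P] [IsScalarTower R A P]
    [Module.Finite A P] [Module.Projective A P] (πe : Fin n → P)
    (H1 : ∀ p : P, ∃ f : MvPolynomial (Fin n) R, MvPolynomial.aeval x f = 0 ∧
      p = ∑ i, (MvPolynomial.aeval x (MvPolynomial.pderiv i f)) • πe i)
    (H2 : ∀ a : Fin n → A, ∑ i, a i • KaehlerDifferential.D R A (x i) = 0 →
      ∑ i, a i • πe i = 0 → a = 0) :
    ∃ (B : Type u) (_ : CommRing B) (_ : Algebra R B) (_ : Algebra A B)
      (_ : IsScalarTower R A B),
      Algebra.Smooth A B ∧ Nonempty (B →ₐ[A] A) ∧ Algebra.IsStandardSmooth R B := by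
  classical
  haveI : Algebra.Smooth A (SymmetricAlgebra A P) :=
    (Groth.Agent.Lib.SymSmoothH7.main).mpr ⟨inferInstance, inferInstance⟩
  let ε : SymmetricAlgebra A P →ₐ[A] A := SymmetricAlgebra.algebraMapInv
  let b : Fin n → SymmetricAlgebra A P := fun i =>
    algebraMap A (SymmetricAlgebra A P) (x i) + SymmetricAlgebra.ι A P (πe i)
  have hει : ∀ p, ε (SymmetricAlgebra.ι A P p) = 0 := SymmetricAlgebra.algebraMapInv_ι
  have hεb : ∀ i, ε (b i) = x i := by
    intro i
    show ε (algebraMap A (SymmetricAlgebra A P) (x i) + SymmetricAlgebra.ι A P (πe i)) = x i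
    rw [map_add, hει, add_zero, ε.commutes]
    rfl
  refine main_of_data ε b ?_ ?_
  · -- surjectivity modulo the augmentation ideal
    let S : Submodule (SymmetricAlgebra A P) Ω[SymmetricAlgebra A P⁄R] :=
      LinearMap.range (Fintype.linearCombination (SymmetricAlgebra A P)
        (fun i => KaehlerDifferential.D R (SymmetricAlgebra A P) (b i))) ⊔
      (RingHom.ker ε) • (⊤ : Submodule (SymmetricAlgebra A P) Ω[SymmetricAlgebra A P⁄R])
    have hDb : ∀ i, KaehlerDifferential.D R (SymmetricAlgebra A P) (b i) ∈ S := by
      intro i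
      refine Submodule.mem_sup_left ⟨Pi.single i 1, ?_⟩
      simp [Fintype.linearCombination_apply, Pi.single_apply]
    have hK : ∀ (k : SymmetricAlgebra A P) (ω : Ω[SymmetricAlgebra A P⁄R]), ε k = 0 →
        k • ω ∈ S := fun k ω hk =>
      Submodule.mem_sup_right (Submodule.smul_mem_smul (RingHom.mem_ker.mpr hk) trivial)
    -- Step A
    have hA : ∀ p : P, KaehlerDifferential.D R (SymmetricAlgebra A P)
        (SymmetricAlgebra.ι A P p) ∈ S := by
      intro p
      obtain ⟨f, hf0, hp⟩ := H1 p
      let c : Fin n → SymmetricAlgebra A P := fun i => algebraMap A (SymmetricAlgebra A P) (x i)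
      have hc : ∀ g : MvPolynomial (Fin n) R, MvPolynomial.aeval c g =
          algebraMap A (SymmetricAlgebra A P) (MvPolynomial.aeval x g) := by
        intro g
        have := MvPolynomial.comp_aeval_apply (R := R) x
          (IsScalarTower.toAlgHom R A (SymmetricAlgebra A P)) g
        exact this.symm
      have h0 : ∑ i, MvPolynomial.aeval c (MvPolynomial.pderiv i f) •
          KaehlerDifferential.D R (SymmetricAlgebra A P) (c i) = 0 := by
        rw [← D_aeval, hc, hf0, map_zero, map_zero]
      have hιp : SymmetricAlgebra.ι A P p = ∑ i, MvPolynomial.aeval c (MvPolynomial.pderiv i f) *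
          SymmetricAlgebra.ι A P (πe i) := by
        conv_lhs => rw [hp]
        rw [map_sum]
        refine Finset.sum_congr rfl fun i _ => ?_
        rw [map_smul, hc, Algebra.smul_def]
      have hD : KaehlerDifferential.D R (SymmetricAlgebra A P) (SymmetricAlgebra.ι A P p) =
          ∑ i, MvPolynomial.aeval c (MvPolynomial.pderiv i f) •
            KaehlerDifferential.D R (SymmetricAlgebra A P) (b i) +
          ∑ i, SymmetricAlgebra.ι A P (πe i) •
            KaehlerDifferential.D R (SymmetricAlgebra A P)
              (MvPolynomial.aeval c (MvPolynomial.pderiv i f)) := by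
        have hbi : ∀ i, KaehlerDifferential.D R (SymmetricAlgebra A P) (b i) =
            KaehlerDifferential.D R (SymmetricAlgebra A P) (c i) +
            KaehlerDifferential.D R (SymmetricAlgebra A P) (SymmetricAlgebra.ι A P (πe i)) :=
          fun i => map_add _ _ _
        simp_rw [hbi, smul_add, Finset.sum_add_distrib]
        rw [h0, zero_add, hιp, map_sum, ← Finset.sum_add_distrib]
        refine Finset.sum_congr rfl fun i _ => ?_
        rw [Derivation.leibniz]
      rw [hD]
      refine Submodule.add_mem _ ?_ ?_
      · exact Submodule.sum_mem _ fun i _ => Submodule.smul_mem _ _ (hDb i)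
      · exact Submodule.sum_mem _ fun i _ => hK _ _ (hει _)
    -- Step B
    have hB : ∀ a : A, KaehlerDifferential.D R (SymmetricAlgebra A P)
        (algebraMap A (SymmetricAlgebra A P) a) ∈ S := by
      intro a
      obtain ⟨f, rfl⟩ := hx a
      let c : Fin n → SymmetricAlgebra A P := fun i => algebraMap A (SymmetricAlgebra A P) (x i)
      have hc : MvPolynomial.aeval c f =
          algebraMap A (SymmetricAlgebra A P) (MvPolynomial.aeval x f) := by
        have := MvPolynomial.comp_aeval_apply (R := R) x
          (IsScalarTower.toAlgHom R A (SymmetricAlgebra A P)) f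
        exact this.symm
      rw [← hc, D_aeval]
      refine Submodule.sum_mem _ fun i _ => Submodule.smul_mem _ _ ?_
      have : KaehlerDifferential.D R (SymmetricAlgebra A P) (c i) =
          KaehlerDifferential.D R (SymmetricAlgebra A P) (b i) -
          KaehlerDifferential.D R (SymmetricAlgebra A P) (SymmetricAlgebra.ι A P (πe i)) := by
        rw [← map_sub]
        congr 1
        simp [b, c]
      rw [this]
      exact Submodule.sub_mem _ (hDb i) (hA _)
    -- Step C
    have hC : ∀ z : SymmetricAlgebra A P,
        KaehlerDifferential.D R (SymmetricAlgebra A P) z ∈ S := by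
      intro z
      induction z using SymmetricAlgebra.induction with
      | algebraMap r => exact hB r
      | ι p => exact hA p
      | mul a b ha hb =>
        rw [Derivation.leibniz]
        exact Submodule.add_mem _ (Submodule.smul_mem _ _ hb) (Submodule.smul_mem _ _ ha)
      | add a b ha hb =>
        rw [map_add]
        exact Submodule.add_mem _ ha hb
    intro ω
    have htop : (⊤ : Submodule (SymmetricAlgebra A P) Ω[SymmetricAlgebra A P⁄R]) ≤ S := by
      rw [← KaehlerDifferential.span_range_derivation, Submodule.span_le]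
      rintro _ ⟨z, rfl⟩
      exact hC z
    exact htop trivial
  · -- injectivity modulo the augmentation ideal
    intro v hv
    obtain ⟨T1, hT1, hT1K⟩ := exists_T1 (R := R) (A := A) P
    obtain ⟨T2, hT2ι, hT2a, hT2K⟩ := exists_T2 (R := R) (A := A) P
    have hK1 : ∀ ω ∈ (RingHom.ker ε) • (⊤ : Submodule (SymmetricAlgebra A P)
        Ω[SymmetricAlgebra A P⁄R]), T1 ω = 0 := by
      intro ω hω
      refine Submodule.smul_induction_on hω (fun k hk ω _ => hT1K k (RingHom.mem_ker.mp hk) ω)
        (fun y z hy hz => by rw [map_add, hy, hz, add_zero])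
    have hK2 : ∀ ω ∈ (RingHom.ker ε) • (⊤ : Submodule (SymmetricAlgebra A P)
        Ω[SymmetricAlgebra A P⁄R]), T2 ω = 0 := by
      intro ω hω
      refine Submodule.smul_induction_on hω (fun k hk ω _ => hT2K k (RingHom.mem_ker.mp hk) ω)
        (fun y z hy hz => by rw [map_add, hy, hz, add_zero])
    have h1 := hK1 _ hv
    have h2 := hK2 _ hv
    rw [map_sum] at h1 h2
    have e1 : ∑ i, ε (v i) • KaehlerDifferential.D R A (x i) = 0 := by
      rw [← h1]
      refine Finset.sum_congr rfl fun i _ => ?_
      rw [hT1, hεb]
    have e2 : ∑ i, ε (v i) • πe i = 0 := by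
      rw [← h2]
      refine Finset.sum_congr rfl fun i _ => ?_
      show _ = T2 (v i • KaehlerDifferential.D R (SymmetricAlgebra A P)
        (algebraMap A (SymmetricAlgebra A P) (x i) + SymmetricAlgebra.ι A P (πe i)))
      rw [map_add, smul_add, map_add, hT2a, hT2ι, zero_add]
    have := H2 (fun i => ε (v i)) e1 e2
    intro i
    exact congrFun this i

end ElkikSmH8
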