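import Mathlib
import Groth.Agent.Lib.ElkikSm4_helper8

/-!
# Elkik's lemma, part 5: smooth algebras are retracts of standard smooth ones (helper8)
APPEND-ONLY once landed.
-/

set_option autoImplicit false

open TensorProduct

namespace ElkikSmH8

universe u

theorem main {R A : Type u} [CommRing R] [CommRing A] [Algebra R A] [Algebra.Smooth R A] :
    ∃ (B : Type u) (_ : CommRing B) (_ : Algebra R B) (_ : Algebra A B)
      (_ : IsScalarTower R A B),
      Algebra.Smooth A B ∧ Nonempty (B →ₐ[A] A) ∧ Algebra.IsStandardSmooth R B := by
  classical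
  obtain ⟨n, ⟨G⟩⟩ := (Algebra.FiniteType.iff_exists_generators (R := R) (S := A)).mp
    inferInstance
  haveI : Algebra.FormallySmooth R G.toExtension.Ring :=
    inferInstanceAs (Algebra.FormallySmooth R (MvPolynomial (Fin n) R))
  obtain ⟨l, hl⟩ := (Algebra.Extension.formallySmooth_iff_split_injection G.toExtension).mp
    inferInstance
  have hl' : ∀ p, l (G.toExtension.cotangentComplex p) = p := fun p => LinearMap.congr_fun hl p
  have hlsurj : Function.Surjective l := fun p => ⟨_, hl' p⟩
  haveI : Module.Finite A G.toExtension.CotangentSpace :=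
    Module.Finite.of_basis G.cotangentSpaceBasis
  haveI : Module.Finite A G.toExtension.Cotangent := Module.Finite.of_surjective l hlsurj
  haveI : Module.Projective A G.toExtension.Cotangent :=
    Module.Projective.of_split G.toExtension.cotangentComplex l hl
  have hrepr : ∀ (f : G.toExtension.ker) (i : Fin n),
      G.cotangentSpaceBasis.repr (G.toExtension.cotangentComplex
        (Algebra.Extension.Cotangent.mk f)) i =
      MvPolynomial.aeval G.val (MvPolynomial.pderiv i f.1) := by
    intro f i
    rw [Algebra.Extension.cotangentComplex_mk]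
    exact G.cotangentSpaceBasis_repr_one_tmul f.1 i
  refine main_of_coords G.val ?_ G.toExtension.Cotangent
    (fun i => l (G.cotangentSpaceBasis i)) ?_ ?_
  · intro a
    obtain ⟨f, hf⟩ := G.algebraMap_surjective a
    exact ⟨f, by rw [← hf, G.algebraMap_apply]⟩
  · intro p
    obtain ⟨f, rfl⟩ := Algebra.Extension.Cotangent.mk_surjective p
    refine ⟨f.1, ?_, ?_⟩
    · have h0 : (f : G.toExtension.Ring) ∈ G.ker := f.2
      rw [Algebra.Generators.ker_eq_ker_aeval_val] at h0
      exact h0
    · conv_lhs => rw [← hl' (Algebra.Extension.Cotangent.mk f),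
        ← G.cotangentSpaceBasis.sum_repr (G.toExtension.cotangentComplex
          (Algebra.Extension.Cotangent.mk f))]
      rw [map_sum]
      refine Finset.sum_congr rfl fun i _ => ?_
      rw [map_smul, hrepr]
  · intro a h1 h2
    have hK : G.toExtension.toKaehler (∑ i, a i • G.cotangentSpaceBasis i) = 0 := by
      rw [map_sum, ← h1]
      refine Finset.sum_congr rfl fun i _ => ?_
      rw [map_smul, Algebra.Generators.toKaehler_cotangentSpaceBasis]
    obtain ⟨p, hp⟩ := (G.toExtension.exact_cotangentComplex_toKaehler _).mp hK
    have hlw : l (∑ i, a i • G.cotangentSpaceBasis i) = 0 := by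
      rw [map_sum, ← h2]
      refine Finset.sum_congr rfl fun i _ => ?_
      rw [map_smul]
    have hp0 : p = 0 := by rw [← hl' p, hp, hlw]
    have hw : ∑ i, a i • G.cotangentSpaceBasis i = 0 := by rw [← hp, hp0, map_zero]
    have hli := G.cotangentSpaceBasis.linearIndependent
    rw [Fintype.linearIndependent_iff] at hli
    funext i
    exact hli a hw i

end ElkikSmH8
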