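import Mathlib
import Groth.Prelude.Def_Smoothing

/-!
# Elementary standard elements give standard smooth localizations (helper4)
-/

namespace Groth.Agent.Lib.ElemStdH4

open MvPolynomial Matrix

universe u

/-- A localization `T = B_h` of an algebra `B` with a pre-submersive presentation whose
Jacobian becomes a unit in `T` is standard smooth. -/
theorem isStandardSmooth_of_away {R B T : Type*} [CommRing R] [CommRing B] [CommRing T]
    [Algebra R B] [Algebra R T] [Algebra B T] [IsScalarTower R B T]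
    {ι σ : Type*} [Finite ι] [Finite σ] (P : Algebra.PreSubmersivePresentation R B ι σ) (h : B)
    [IsLocalization.Away h T] (hu : IsUnit (algebraMap B T P.jacobian)) :
    Algebra.IsStandardSmooth R T := by
  let Q : Algebra.PreSubmersivePresentation B T Unit Unit :=
    Algebra.PreSubmersivePresentation.localizationAway T h
  let S : Algebra.SubmersivePresentation R T (Unit ⊕ ι) (Unit ⊕ σ) :=
    { toPreSubmersivePresentation := Q.comp P
      jacobian_isUnit := by
        rw [Algebra.PreSubmersivePresentation.comp_jacobian_eq_jacobian_smul_jacobian,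
          Algebra.smul_def, IsUnit.mul_iff]
        refine ⟨hu, ?_⟩
        rw [Algebra.PreSubmersivePresentation.localizationAway_jacobian]
        exact IsLocalization.Away.algebraMap_isUnit h }
  exact S.isStandardSmooth

/-- The localization `A_a` of a quotient `A = P/I` is also a localization of `P/Ic` when some
`g ≡ a^m` multiplies `I` into `Ic`. -/
theorem away_of_quotient {P A T : Type*} [CommRing P] [CommRing A] [CommRing T]
    (π : P →+* A) (hπ : Function.Surjective π) (Ic : Ideal P) (a₀ g : P) (a : A) (m : ℕ)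
    [Algebra A T] [IsLocalization.Away a T] [Algebra (P ⧸ Ic) T]
    (hcompat : ∀ p, algebraMap (P ⧸ Ic) T (Ideal.Quotient.mk Ic p) = algebraMap A T (π p))
    (ha : π a₀ = a) (hg : ∀ x, π x = 0 → g * x ∈ Ic) (hπg : π g = a ^ m) :
    IsLocalization.Away (Ideal.Quotient.mk Ic (a₀ * g)) T := by
  have hunit : IsUnit (algebraMap A T a) := IsLocalization.Away.algebraMap_isUnit a
  have hh : algebraMap (P ⧸ Ic) T (Ideal.Quotient.mk Ic (a₀ * g)) =
      algebraMap A T a ^ (m + 1) := by
    rw [hcompat, map_mul, ha, hπg, ← pow_succ', map_pow]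
  refine (isLocalization_iff _ _).mpr ⟨?_, ?_, ?_⟩
  · rintro ⟨_, k, rfl⟩
    show IsUnit (algebraMap (P ⧸ Ic) T ((Ideal.Quotient.mk Ic (a₀ * g)) ^ k))
    rw [map_pow, hh]
    exact (hunit.pow _).pow _
  · intro z
    obtain ⟨⟨x, ⟨_, k, rfl⟩⟩, hx⟩ := IsLocalization.surj (Submonoid.powers a) z
    obtain ⟨p, rfl⟩ := hπ x
    have hx' : z * algebraMap A T (a ^ k) = algebraMap A T (π p) := hx
    refine ⟨⟨Ideal.Quotient.mk Ic (p * g ^ k), ⟨_, k, rfl⟩⟩, ?_⟩
    show z * algebraMap (P ⧸ Ic) T ((Ideal.Quotient.mk Ic (a₀ * g)) ^ k) =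
      algebraMap (P ⧸ Ic) T (Ideal.Quotient.mk Ic (p * g ^ k))
    rw [map_pow, hh, hcompat]
    simp only [map_mul, map_pow, hπg]
    rw [← hx', map_pow]
    ring
  · intro x y hxy
    obtain ⟨p, rfl⟩ := Ideal.Quotient.mk_surjective x
    obtain ⟨q, rfl⟩ := Ideal.Quotient.mk_surjective y
    rw [hcompat, hcompat] at hxy
    obtain ⟨⟨_, k, rfl⟩, hk⟩ := (IsLocalization.eq_iff_exists (Submonoid.powers a) T).mp hxy
    have hk' : a ^ k * π p = a ^ k * π q := hk
    refine ⟨⟨_, k + 1, rfl⟩, ?_⟩
    show (Ideal.Quotient.mk Ic (a₀ * g)) ^ (k + 1) * Ideal.Quotient.mk Ic p =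
      (Ideal.Quotient.mk Ic (a₀ * g)) ^ (k + 1) * Ideal.Quotient.mk Ic q
    rw [← map_pow, ← map_mul, ← map_mul, Ideal.Quotient.eq]
    have e : (a₀ * g) ^ (k + 1) * p - (a₀ * g) ^ (k + 1) * q =
        (a₀ * g ^ k) * (g * (a₀ ^ k * (p - q))) := by ring
    rw [e]
    apply Ideal.mul_mem_left
    apply hg
    rw [map_mul, map_pow, ha, map_sub, mul_sub, hk', sub_self]

/-- Core: assemble the standard smooth structure. -/
theorem core {R A : Type u} [CommRing R] [CommRing A] [Algebra R A] {n c : ℕ} (hcn : c ≤ n)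
    (fc : Fin c → MvPolynomial (Fin n) R) (π : MvPolynomial (Fin n) R →ₐ[R] A)
    (hπ : Function.Surjective π) (hfc : ∀ j, π (fc j) = 0)
    (a a' : A) (a₀ g : MvPolynomial (Fin n) R) (m : ℕ)
    (ha' : a = a' * π (Matrix.det
      (Matrix.of fun j k : Fin c => pderiv (Fin.castLE hcn k) (fc j))))
    (ha₀ : π a₀ = a) (hg : ∀ x, π x = 0 → g * x ∈ Ideal.span (Set.range fc))
    (hπg : π g = a ^ m) :
    Algebra.IsStandardSmooth R (Localization.Away a) := by
  classical
  have hle : ∀ x ∈ Ideal.span (Set.range fc), π x = 0 := by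
    intro x hx
    have : Ideal.span (Set.range fc) ≤ RingHom.ker (π : MvPolynomial (Fin n) R →+* A) := by
      rw [Ideal.span_le]
      rintro _ ⟨j, rfl⟩
      exact hfc j
    exact this hx
  let ψ : (MvPolynomial (Fin n) R ⧸ Ideal.span (Set.range fc)) →ₐ[R] Localization.Away a :=
    (IsScalarTower.toAlgHom R A (Localization.Away a)).comp
      (Ideal.Quotient.liftₐ (Ideal.span (Set.range fc)) π hle)
  letI : Algebra (MvPolynomial (Fin n) R ⧸ Ideal.span (Set.range fc)) (Localization.Away a) :=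
    ψ.toRingHom.toAlgebra
  have hcompat : ∀ p, algebraMap (MvPolynomial (Fin n) R ⧸ Ideal.span (Set.range fc))
      (Localization.Away a) (Ideal.Quotient.mk (Ideal.span (Set.range fc)) p) =
      algebraMap A (Localization.Away a) ((π : MvPolynomial (Fin n) R →+* A) p) := by
    intro p; rfl
  haveI : IsScalarTower R (MvPolynomial (Fin n) R ⧸ Ideal.span (Set.range fc))
      (Localization.Away a) := IsScalarTower.of_algHom ψ
  haveI : IsLocalization.Away (Ideal.Quotient.mk (Ideal.span (Set.range fc)) (a₀ * g))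
      (Localization.Away a) :=
    away_of_quotient (π : MvPolynomial (Fin n) R →+* A) hπ (Ideal.span (Set.range fc)) a₀ g a m
      hcompat ha₀ hg hπg
  let P₀ : Algebra.PreSubmersivePresentation R
      (MvPolynomial (Fin n) R ⧸ Ideal.span (Set.range fc)) (Fin n) (Fin c) :=
    Algebra.PreSubmersivePresentation.naive (v := fc) (Fin.castLE hcn) (Fin.castLE_injective _)
  apply isStandardSmooth_of_away P₀ (Ideal.Quotient.mk (Ideal.span (Set.range fc)) (a₀ * g))
  have hjac : P₀.jacobian = Ideal.Quotient.mk (Ideal.span (Set.range fc)) (Matrix.det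
      (Matrix.of fun j k : Fin c => pderiv (Fin.castLE hcn k) (fc j))) := by
    rw [Algebra.PreSubmersivePresentation.jacobian_eq_jacobiMatrix_det]
    have h3 : P₀.jacobiMatrix =
        (Matrix.of fun j k : Fin c => pderiv (Fin.castLE hcn k) (fc j))ᵀ := by
      ext i j
      rw [Algebra.PreSubmersivePresentation.jacobiMatrix_naive]
      rfl
    rw [h3, Matrix.det_transpose]
    rfl
  rw [hjac, hcompat]
  have hunit : IsUnit (algebraMap A (Localization.Away a) a) :=
    IsLocalization.Away.algebraMap_isUnit a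
  have e := congrArg (algebraMap A (Localization.Away a)) ha'
  rw [map_mul] at e
  rw [e] at hunit
  exact isUnit_of_mul_isUnit_right hunit

theorem main {R A : Type u} [CommRing R] [CommRing A] [Algebra R A] (a : A)
    (ha : Smoothing.IsElementaryStandard R A a) :
    Algebra.IsStandardSmooth R (Localization.Away a) := by
  classical
  obtain ⟨P, ⟨a', ha'⟩, hkill⟩ := ha
  obtain ⟨n, m, c, hcn, hcm, rel, hom, surj, ker_eq⟩ := P
  simp only at ha' hkill
  have hker : ∀ x, hom x = 0 ↔ x ∈ Ideal.span (Set.range rel) := by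
    intro x
    rw [← ker_eq]
    exact RingHom.mem_ker.symm
  obtain ⟨a₁, ha₁⟩ := surj a'
  have ha₀ : hom (a₁ * Smoothing.jacobianMinor rel (Fin.castLE hcm) (Fin.castLE hcn)) = a := by
    rw [map_mul, ha₁, ← ha']
  obtain ⟨a₀, ha₀def⟩ : ∃ x, x = a₁ * Smoothing.jacobianMinor rel (Fin.castLE hcm)
    (Fin.castLE hcn) := ⟨_, rfl⟩
  rw [← ha₀def] at ha₀
  -- Step 2
  have hstep2 : ∀ j : Fin m, a₀ * rel j ∈
      Ideal.span (Set.range fun j : Fin c => rel (Fin.castLE hcm j)) ⊔
        Ideal.span (Set.range rel) ^ 2 := by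
    intro j
    by_cases hj : (j : ℕ) < c
    · apply Ideal.mem_sup_left
      apply Ideal.mul_mem_left
      apply Ideal.subset_span
      exact ⟨⟨j, hj⟩, by simp [Fin.castLE]⟩
    · have h1 := hkill a₀ ha₀ j (not_lt.mp hj)
      have hmono : Ideal.span (rel '' {j' : Fin m | (j' : ℕ) < c}) ≤
          Ideal.span (Set.range fun j : Fin c => rel (Fin.castLE hcm j)) := by
        apply Ideal.span_mono
        rintro _ ⟨j', hj', rfl⟩
        exact ⟨⟨j', hj'⟩, by simp [Fin.castLE]⟩
      exact sup_le_sup_right hmono _ h1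
  -- Step 3
  have hstep3 : ∀ j : Fin m, ∃ (y : MvPolynomial (Fin n) R)
      (q : Fin m → MvPolynomial (Fin n) R),
      y ∈ Ideal.span (Set.range fun j : Fin c => rel (Fin.castLE hcm j)) ∧
      (∀ l, q l ∈ Ideal.span (Set.range rel)) ∧ a₀ * rel j = y + ∑ l, q l * rel l := by
    intro j
    obtain ⟨y, hy, z, hz, hyz⟩ := Submodule.mem_sup.mp (hstep2 j)
    have hz' : z ∈ Ideal.span (Set.range rel) •
        Submodule.span (MvPolynomial (Fin n) R) (Set.range rel) := by
      rw [pow_two] at hz
      exact hz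
    obtain ⟨cf, hcf, hsum⟩ :=
      (Submodule.mem_ideal_smul_span_iff_exists_sum (Ideal.span (Set.range rel)) rel z).mp hz'
    refine ⟨y, fun l => cf l, hy, hcf, ?_⟩
    rw [← hyz, ← hsum, Finsupp.sum_fintype]
    · simp [smul_eq_mul]
    · intro i; simp
  choose y q hy hq hyq using hstep3
  -- Step 4
  obtain ⟨Mx, hMxdef⟩ : ∃ M : Matrix (Fin m) (Fin m) (MvPolynomial (Fin n) R),
      M = a₀ • (1 : Matrix (Fin m) (Fin m) (MvPolynomial (Fin n) R)) - Matrix.of q := ⟨_, rfl⟩
  have hMx : Mx.mulVec rel = y := by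
    ext j
    rw [hMxdef, Matrix.sub_mulVec, Matrix.smul_mulVec, Matrix.one_mulVec]
    simp only [Pi.sub_apply, Pi.smul_apply, smul_eq_mul]
    rw [hyq j]
    simp [Matrix.mulVec, dotProduct]
  have hg1 : ∀ j, Mx.det * rel j ∈
      Ideal.span (Set.range fun j : Fin c => rel (Fin.castLE hcm j)) := by
    intro j
    have h1 : (Mx.adjugate * Mx).mulVec rel = Mx.det • rel := by
      rw [Matrix.adjugate_mul, Matrix.smul_mulVec, Matrix.one_mulVec]
    rw [← Matrix.mulVec_mulVec, hMx] at h1
    have h2 := congrFun h1 j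
    simp only [Pi.smul_apply, smul_eq_mul] at h2
    rw [← h2]
    simp only [Matrix.mulVec, dotProduct]
    exact Ideal.sum_mem _ (fun l _ => Ideal.mul_mem_left _ _ (hy l))
  have hg : ∀ x, hom x = 0 → Mx.det * x ∈
      Ideal.span (Set.range fun j : Fin c => rel (Fin.castLE hcm j)) := by
    intro x hx
    have hxI : x ∈ Ideal.span (Set.range rel) := (hker x).mp hx
    refine Submodule.span_induction (p := fun x _ => Mx.det * x ∈
      Ideal.span (Set.range fun j : Fin c => rel (Fin.castLE hcm j))) ?_ ?_ ?_ ?_ hxI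
    · rintro _ ⟨j, rfl⟩; exact hg1 j
    · simp
    · intro x y _ _ hx hy; rw [mul_add]; exact add_mem hx hy
    · intro r x _ hx; rw [smul_eq_mul, mul_left_comm]; exact Ideal.mul_mem_left _ _ hx
  have hπg : hom Mx.det = a ^ m := by
    have h1 : (hom : MvPolynomial (Fin n) R →+* A) Mx.det =
        Matrix.det ((hom : MvPolynomial (Fin n) R →+* A).mapMatrix Mx) := RingHom.map_det _ _
    have h2 : (hom : MvPolynomial (Fin n) R →+* A).mapMatrix Mx =
        a • (1 : Matrix (Fin m) (Fin m) A) := by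
      ext j l
      rw [hMxdef]
      simp only [RingHom.mapMatrix_apply, Matrix.map_apply, Matrix.sub_apply, Matrix.smul_apply,
        Matrix.of_apply, map_sub, smul_eq_mul, map_mul, RingHom.coe_coe, ha₀]
      rw [(hker (q j l)).mpr (hq j l), sub_zero]
      by_cases hjl : j = l
      · subst hjl; simp
      · simp [hjl]
    rw [h2, Matrix.det_smul, Matrix.det_one, mul_one, Fintype.card_fin] at h1
    exact h1
  refine core hcn (fun j : Fin c => rel (Fin.castLE hcm j)) hom surj ?_ a a' a₀ Mx.det m ?_ ha₀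
    hg hπg
  · intro j
    exact (hker _).mpr (Ideal.subset_span ⟨_, rfl⟩)
  · exact ha'

end Groth.Agent.Lib.ElemStdH4
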