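import Mathlib
import Groth.Agent.Lib.ElemStd_helper4

/-!
# Lifting standard smooth algebras along `R → R/I` (helper8)
APPEND-ONLY once landed.
-/

set_option autoImplicit false

open TensorProduct

namespace IndSmLiftH8

universe u

theorem exists_lift_standardSmooth {R : Type u} [CommRing R] (I : Ideal R) (Cb : Type u)
    [CommRing Cb] [Algebra (R ⧸ I) Cb] [Algebra R Cb] [IsScalarTower R (R ⧸ I) Cb]
    [Algebra.IsStandardSmooth (R ⧸ I) Cb] :
    ∃ (C : Type u) (_ : CommRing C) (_ : Algebra R C) (θ : C →ₐ[R] Cb),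
      Algebra.IsStandardSmooth R C ∧ Function.Surjective θ ∧
        RingHom.ker θ.toRingHom ≤ I.map (algebraMap R C) := by
  classical
  obtain ⟨ι, σ, hσ, hι, ⟨P⟩⟩ := Algebra.IsStandardSmooth.out (R := R ⧸ I) (S := Cb)
  haveI := hσ
  haveI := hι
  cases nonempty_fintype σ
  have hmapsurj : Function.Surjective
      (MvPolynomial.map (Ideal.Quotient.mk I) : MvPolynomial ι R → MvPolynomial ι (R ⧸ I)) :=
    MvPolynomial.map_surjective _ Ideal.Quotient.mk_surjective
  choose f hf using fun s => hmapsurj (P.relation s)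
  have hev : ∀ p : MvPolynomial ι R, MvPolynomial.aeval P.val p =
      MvPolynomial.aeval P.val (MvPolynomial.map (Ideal.Quotient.mk I) p) := by
    intro p
    exact (MvPolynomial.aeval_map_algebraMap (R ⧸ I) P.val p).symm
  have hevf : ∀ s, MvPolynomial.aeval (R := R) P.val (f s) = 0 := by
    intro s
    rw [hev, hf]
    exact P.aeval_val_relation s
  have hK : ∀ a ∈ Ideal.span (Set.range f), MvPolynomial.aeval (R := R) P.val a = 0 := by
    intro a ha
    have : Ideal.span (Set.range f) ≤
        RingHom.ker (MvPolynomial.aeval (R := R) P.val : MvPolynomial ι R →ₐ[R] Cb).toRingHom := by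
      rw [Ideal.span_le]
      rintro _ ⟨s, rfl⟩
      exact hevf s
    exact this ha
  let θ₀ : (MvPolynomial ι R ⧸ Ideal.span (Set.range f)) →ₐ[R] Cb :=
    Ideal.Quotient.liftₐ (Ideal.span (Set.range f)) (MvPolynomial.aeval (R := R) P.val) hK
  have hθ₀mk : ∀ p, θ₀ (Ideal.Quotient.mk _ p) = MvPolynomial.aeval (R := R) P.val p := fun p => rfl
  -- surjectivity
  have hθ₀surj : Function.Surjective θ₀ := by
    intro c
    obtain ⟨p, hp⟩ := P.algebraMap_surjective c
    obtain ⟨q, rfl⟩ := hmapsurj p
    refine ⟨Ideal.Quotient.mk _ q, ?_⟩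
    rw [hθ₀mk, hev, ← hp, P.algebraMap_apply]
  -- kernel
  have hθ₀ker : ∀ z, θ₀ z = 0 → z ∈ I.map (algebraMap R (MvPolynomial ι R ⧸ Ideal.span (Set.range f))) := by
    intro z hz
    obtain ⟨p, rfl⟩ := Ideal.Quotient.mk_surjective z
    rw [hθ₀mk, hev] at hz
    have h1 : MvPolynomial.map (Ideal.Quotient.mk I) p ∈ Ideal.span (Set.range P.relation) := by
      rw [P.span_range_relation_eq_ker, Algebra.Generators.ker_eq_ker_aeval_val]
      exact hz
    have h2 : Ideal.span (Set.range P.relation) =
        Ideal.map (MvPolynomial.map (Ideal.Quotient.mk I)) (Ideal.span (Set.range f)) := by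
      rw [Ideal.map_span, ← Set.range_comp]
      congr 2
      funext s
      exact (hf s).symm
    rw [h2, Ideal.mem_map_iff_of_surjective _ hmapsurj] at h1
    obtain ⟨q, hq, hqp⟩ := h1
    have h3 : p - q ∈ RingHom.ker (MvPolynomial.map (Ideal.Quotient.mk I) :
        MvPolynomial ι R →+* MvPolynomial ι (R ⧸ I)) := by
      rw [RingHom.mem_ker, map_sub, hqp, sub_self]
    rw [MvPolynomial.ker_map, Ideal.mk_ker] at h3
    have h4 : Ideal.Quotient.mk (Ideal.span (Set.range f)) p =
        Ideal.Quotient.mk (Ideal.span (Set.range f)) (p - q) := by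
      rw [map_sub, Ideal.Quotient.eq_zero_iff_mem.mpr hq, sub_zero]
    rw [h4]
    have h5 := Ideal.mem_map_of_mem (Ideal.Quotient.mk (Ideal.span (Set.range f))) h3
    rw [Ideal.map_map] at h5
    exact h5
  let P₀ : Algebra.PreSubmersivePresentation R
      (MvPolynomial ι R ⧸ Ideal.span (Set.range f)) ι σ :=
    Algebra.PreSubmersivePresentation.naive (v := f) P.map P.map_inj
  have hjac : θ₀ P₀.jacobian = P.jacobian := by
    rw [Algebra.PreSubmersivePresentation.jacobian_eq_jacobiMatrix_det,
      Algebra.PreSubmersivePresentation.jacobian_eq_jacobiMatrix_det]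
    show θ₀ (Ideal.Quotient.mk _ P₀.jacobiMatrix.det) = algebraMap P.Ring Cb P.jacobiMatrix.det
    have hM : (MvPolynomial.map (Ideal.Quotient.mk I)).mapMatrix P₀.jacobiMatrix =
        P.jacobiMatrix := by
      refine Matrix.ext fun i j => ?_
      rw [RingHom.mapMatrix_apply, Matrix.map_apply,
        Algebra.PreSubmersivePresentation.jacobiMatrix_naive,
        Algebra.PreSubmersivePresentation.jacobiMatrix_apply, ← MvPolynomial.pderiv_map, hf]
    rw [hθ₀mk, hev, P.algebraMap_apply, RingHom.map_det, hM]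
  have hunit : IsUnit (θ₀ P₀.jacobian) := hjac ▸ P.jacobian_isUnit
  haveI : Algebra.IsStandardSmooth R (Localization.Away P₀.jacobian) :=
    Groth.Agent.Lib.ElemStdH4.isStandardSmooth_of_away P₀ P₀.jacobian
      (IsLocalization.Away.algebraMap_isUnit P₀.jacobian)
  let θ : Localization.Away P₀.jacobian →ₐ[R] Cb :=
    IsLocalization.liftAlgHom (M := Submonoid.powers P₀.jacobian) (f := θ₀) (by
      rintro ⟨_, k, rfl⟩
      rw [map_pow]
      exact hunit.pow k)
  have hθ : ∀ z, θ (algebraMap _ (Localization.Away P₀.jacobian) z) = θ₀ z := fun z =>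
    IsLocalization.lift_eq _ z
  refine ⟨Localization.Away P₀.jacobian, inferInstance, inferInstance, θ, inferInstance, ?_, ?_⟩
  · intro c
    obtain ⟨z, rfl⟩ := hθ₀surj c
    exact ⟨algebraMap _ _ z, hθ z⟩
  · intro w hw
    obtain ⟨⟨z, ⟨_, k, rfl⟩⟩, hz⟩ := IsLocalization.surj (Submonoid.powers P₀.jacobian) w
    have hz' : w * algebraMap _ (Localization.Away P₀.jacobian) (P₀.jacobian ^ k) =
        algebraMap _ (Localization.Away P₀.jacobian) z := hz
    have hw' : θ w = 0 := hw
    have h1 : θ₀ z = 0 := by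
      rw [← hθ, ← hz', map_mul, hw', zero_mul]
    have h2 := hθ₀ker z h1
    have h3 : algebraMap _ (Localization.Away P₀.jacobian) z ∈
        I.map (algebraMap R (Localization.Away P₀.jacobian)) := by
      have := Ideal.mem_map_of_mem (algebraMap (MvPolynomial ι R ⧸ Ideal.span (Set.range f))
        (Localization.Away P₀.jacobian)) h2
      rw [Ideal.map_map, ← IsScalarTower.algebraMap_eq] at this
      exact this
    have hu : IsUnit (algebraMap (MvPolynomial ι R ⧸ Ideal.span (Set.range f))
        (Localization.Away P₀.jacobian) (P₀.jacobian ^ k)) := by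
      rw [map_pow]
      exact (IsLocalization.Away.algebraMap_isUnit P₀.jacobian).pow k
    obtain ⟨u, hu'⟩ := hu
    have h4 : w = algebraMap _ (Localization.Away P₀.jacobian) z * (↑u⁻¹ : Localization.Away P₀.jacobian) := by
      rw [← hz', ← hu', mul_assoc, Units.mul_inv, mul_one]
    rw [h4]
    exact Ideal.mul_mem_right _ _ h3

end IndSmLiftH8
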