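import Mathlib

/-!
# Factoring through a quotient of a smooth algebra by an ideal inside `I B` (helper8)
APPEND-ONLY once landed.
-/

set_option autoImplicit false

open TensorProduct

namespace IndSmLiftH8

universe u

theorem trick {R Λ A C : Type u} [CommRing R] [CommRing Λ] [Algebra R Λ] [CommRing A]
    [Algebra R A] [CommRing C] [Algebra R C] [Algebra.Smooth R C] (I : Ideal R)
    (φ : A →ₐ[R] Λ) {n : ℕ} (π : MvPolynomial (Fin n) R →ₐ[R] A)
    (hπ : Function.Surjective π) (s : Finset (MvPolynomial (Fin n) R))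
    (hs : Ideal.span (s : Set (MvPolynomial (Fin n) R)) = RingHom.ker π.toRingHom)
    (ψ₀ : C →ₐ[R] Λ) (c : Fin n → C)
    (ha : ∀ j, ψ₀ (c j) - φ (π (MvPolynomial.X j)) ∈ I.map (algebraMap R Λ))
    (hb : ∀ p, π p = 0 → MvPolynomial.aeval c p ∈ I.map (algebraMap R C)) :
    ∃ (B : Type u) (_ : CommRing B) (_ : Algebra R B), Algebra.Smooth R B ∧
      ∃ J : Ideal B, J ≤ I.map (algebraMap R B) ∧ J.FG ∧
        ∃ (g : A →ₐ[R] B ⧸ J) (k : (B ⧸ J) →ₐ[R] Λ), k.comp g = φ := by
  classical
  have hdec : ∀ j, ∃ l : R →₀ Λ, (∀ ε ∈ l.support, ε ∈ I) ∧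
      ψ₀ (c j) - φ (π (MvPolynomial.X j)) = ∑ e : l.support, l e.1 * algebraMap R Λ e.1 := by
    intro j
    have h1 := ha j
    rw [Ideal.map, ← Ideal.submodule_span_eq,
      Finsupp.mem_span_image_iff_linearCombination] at h1
    obtain ⟨l, hl, hsum⟩ := h1
    refine ⟨l, fun ε hε => ?_, ?_⟩
    · exact (Finsupp.mem_supported _ l).mp hl hε
    · rw [← hsum, Finsupp.linearCombination_apply, Finsupp.sum, ← Finset.sum_coe_sort]
      rfl
  choose l hlI hlsum using hdec
  let τ := (j : Fin n) × (l j).support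
  let c' : Fin n → MvPolynomial τ C := fun j =>
    MvPolynomial.C (c j) - ∑ e : (l j).support,
      MvPolynomial.C (algebraMap R C e.1) * MvPolynomial.X (⟨j, e⟩ : τ)
  let ψ' : MvPolynomial τ C →ₐ[R] Λ := MvPolynomial.aevalTower ψ₀ (fun t : τ => l t.1 t.2.1)
  have hψ'c' : ∀ j, ψ' (c' j) = φ (π (MvPolynomial.X j)) := by
    intro j
    have h2 : ψ' (c' j) = ψ₀ (c j) - ∑ e : (l j).support, l j e.1 * algebraMap R Λ e.1 := by
      show ψ' (MvPolynomial.C (c j) - ∑ e : (l j).support,
        MvPolynomial.C (algebraMap R C e.1) * MvPolynomial.X (⟨j, e⟩ : τ)) = _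
      rw [map_sub, map_sum, MvPolynomial.aevalTower_C]
      congr 1
      refine Finset.sum_congr rfl fun e _ => ?_
      rw [map_mul, MvPolynomial.aevalTower_C, MvPolynomial.aevalTower_X, ψ₀.commutes, mul_comm]
    rw [h2, ← hlsum j]
    ring
  -- the ideal `J`
  let J : Ideal (MvPolynomial τ C) :=
    Ideal.span ((s.image (MvPolynomial.aeval c') : Finset (MvPolynomial τ C)) : Set _)
  have hskerπ : ∀ r ∈ s, π r = 0 := by
    intro r hr
    have : r ∈ RingHom.ker π.toRingHom := by
      rw [← hs]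
      exact Ideal.subset_span hr
    exact this
  haveI : Algebra.Smooth C (MvPolynomial τ C) := ⟨inferInstance, inferInstance⟩
  haveI : Algebra.Smooth R (MvPolynomial τ C) := Algebra.Smooth.comp R C (MvPolynomial τ C)
  refine ⟨MvPolynomial τ C, inferInstance, inferInstance, inferInstance, J, ?_, ⟨_, rfl⟩, ?_⟩
  · -- `J ≤ I B`
    rw [Ideal.span_le]
    intro x hx
    rw [Finset.coe_image] at hx
    obtain ⟨r, hr, rfl⟩ := hx
    rw [SetLike.mem_coe, ← Ideal.Quotient.eq_zero_iff_mem]
    set IB := I.map (algebraMap R (MvPolynomial τ C)) with hIB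
    have h1 : Ideal.Quotient.mk IB (MvPolynomial.aeval c' r) =
        MvPolynomial.aeval (fun j => Ideal.Quotient.mk IB (c' j)) r :=
      MvPolynomial.comp_aeval_apply (R := R) c' (Ideal.Quotient.mkₐ R IB) r
    have h2 : ∀ j, Ideal.Quotient.mk IB (c' j) =
        Ideal.Quotient.mk IB (MvPolynomial.C (c j)) := by
      intro j
      rw [Ideal.Quotient.eq]
      show MvPolynomial.C (c j) - ∑ e : (l j).support,
        MvPolynomial.C (algebraMap R C e.1) * MvPolynomial.X (⟨j, e⟩ : τ) -
          MvPolynomial.C (c j) ∈ IB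
      rw [sub_sub_cancel_left]
      refine IB.neg_mem (IB.sum_mem fun e _ => IB.mul_mem_right _ ?_)
      have : MvPolynomial.C (algebraMap R C e.1) =
          algebraMap R (MvPolynomial τ C) e.1 := by
        rw [IsScalarTower.algebraMap_apply R C (MvPolynomial τ C), MvPolynomial.algebraMap_eq]
      rw [this]
      exact Ideal.mem_map_of_mem _ (hlI j e.1 e.2)
    have h3 : MvPolynomial.aeval (fun j => Ideal.Quotient.mk IB (MvPolynomial.C (c j))) r =
        Ideal.Quotient.mk IB (MvPolynomial.C (MvPolynomial.aeval c r)) :=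
      (MvPolynomial.comp_aeval_apply (R := R) c
        ((Ideal.Quotient.mkₐ R IB).comp (IsScalarTower.toAlgHom R C (MvPolynomial τ C))) r).symm
    rw [h1]
    simp_rw [h2]
    rw [h3, Ideal.Quotient.eq_zero_iff_mem]
    have h4 := Ideal.mem_map_of_mem (algebraMap C (MvPolynomial τ C)) (hb r (hskerπ r hr))
    rw [Ideal.map_map, ← IsScalarTower.algebraMap_eq] at h4
    exact h4
  · -- the maps
    have hψ'aeval : ∀ p, ψ' (MvPolynomial.aeval c' p) = φ (π p) := by
      intro p
      have e1 := MvPolynomial.comp_aeval_apply (R := R) c' ψ' p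
      have e2 := MvPolynomial.comp_aeval_apply (R := R)
        (MvPolynomial.X : Fin n → MvPolynomial (Fin n) R) (φ.comp π) p
      rw [MvPolynomial.aeval_X_left_apply] at e2
      rw [e1]
      simp_rw [hψ'c']
      exact e2.symm
    have hJψ : ∀ x ∈ J, ψ' x = 0 := by
      intro x hx
      have : J ≤ RingHom.ker ψ'.toRingHom := by
        rw [Ideal.span_le]
        intro y hy
        rw [Finset.coe_image] at hy
        obtain ⟨r, hr, rfl⟩ := hy
        show ψ' (MvPolynomial.aeval c' r) = 0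
        rw [hψ'aeval, hskerπ r hr, map_zero]
      exact this hx
    let k : (MvPolynomial τ C ⧸ J) →ₐ[R] Λ := Ideal.Quotient.liftₐ J ψ' hJψ
    let γ : MvPolynomial (Fin n) R →ₐ[R] (MvPolynomial τ C ⧸ J) :=
      (Ideal.Quotient.mkₐ R J).comp (MvPolynomial.aeval c')
    have hγ : ∀ p, p ∈ RingHom.ker π.toRingHom → γ p = 0 := by
      intro p hp
      rw [← hs] at hp
      show Ideal.Quotient.mk J (MvPolynomial.aeval c' p) = 0
      rw [Ideal.Quotient.eq_zero_iff_mem]
      have h1 := Ideal.mem_map_of_mem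
        (MvPolynomial.aeval c' : MvPolynomial (Fin n) R →ₐ[R] MvPolynomial τ C).toRingHom hp
      rw [Ideal.map_span] at h1
      have h2 : ((MvPolynomial.aeval c' : MvPolynomial (Fin n) R →ₐ[R]
          MvPolynomial τ C).toRingHom '' (s : Set (MvPolynomial (Fin n) R))) =
          ((s.image (MvPolynomial.aeval c') : Finset (MvPolynomial τ C)) : Set _) := by
        rw [Finset.coe_image]
        rfl
      rw [h2] at h1
      exact h1
    let g₀ : (MvPolynomial (Fin n) R ⧸ RingHom.ker π.toRingHom) →ₐ[R] (MvPolynomial τ C ⧸ J) :=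
      Ideal.Quotient.liftₐ (RingHom.ker π.toRingHom) γ hγ
    let g : A →ₐ[R] (MvPolynomial τ C ⧸ J) :=
      g₀.comp (Ideal.quotientKerAlgEquivOfSurjective hπ).symm.toAlgHom
    refine ⟨g, k, ?_⟩
    refine AlgHom.ext fun a => ?_
    obtain ⟨p, rfl⟩ := hπ a
    have h1 : (Ideal.quotientKerAlgEquivOfSurjective hπ).symm (π p) =
        Ideal.Quotient.mk (RingHom.ker π.toRingHom) p := by
      rw [AlgEquiv.symm_apply_eq]
      rfl
    show k (g₀ ((Ideal.quotientKerAlgEquivOfSurjective hπ).symm (π p))) = φ (π p)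
    rw [h1]
    show ψ' (MvPolynomial.aeval c' p) = φ (π p)
    exact hψ'aeval p

end IndSmLiftH8
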