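import Mathlib
import Groth.Prelude.Def_Smoothing
import Groth.Agent.Lib.ElkikSm5_helper8
import Groth.Agent.Lib.IndSmLift1_helper8
import Groth.Agent.Lib.IndSmLift2_helper8

/-!
# Ind-smoothness modulo a square-zero ideal: first factorization (helper8)
APPEND-ONLY once landed.
-/

set_option autoImplicit false

open TensorProduct

namespace IndSmLiftH8

universe u

/-- An ind-smooth algebra also has the factorization property through standard smooth algebras
(by Elkik's lemma). -/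
theorem exists_standardSmooth_factor {R Λ A : Type u} [CommRing R] [CommRing Λ] [Algebra R Λ]
    (h : Smoothing.IndSmooth R Λ) [CommRing A] [Algebra R A] [Algebra.FinitePresentation R A]
    (f : A →ₐ[R] Λ) :
    ∃ (C : Type u) (_ : CommRing C) (_ : Algebra R C), Algebra.IsStandardSmooth R C ∧
      ∃ (g : A →ₐ[R] C) (k : C →ₐ[R] Λ), k.comp g = f := by
  obtain ⟨B, _, _, hsm, g₁, h₁, hgh⟩ := h A inferInstance f
  obtain ⟨C, _, _, _, _, -, ⟨ρ⟩, hstd⟩ := ElkikSmH8.main (R := R) (A := B)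
  refine ⟨C, inferInstance, inferInstance, hstd, (IsScalarTower.toAlgHom R B C).comp g₁,
    h₁.comp (ρ.restrictScalars R), ?_⟩
  refine AlgHom.ext fun a => ?_
  show h₁ (ρ (algebraMap B C (g₁ a))) = f a
  rw [ρ.commutes, ← hgh]
  rfl

theorem main2023 {R Λ A : Type u} [CommRing R] [CommRing Λ] [Algebra R Λ] (I : Ideal R)
    (hI : I ^ 2 = ⊥) (h : Smoothing.IndSmooth (R ⧸ I) (Λ ⧸ I.map (algebraMap R Λ)))
    [CommRing A] [Algebra R A] [Algebra.FinitePresentation R A] (φ : A →ₐ[R] Λ) :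
    ∃ (B : Type u) (_ : CommRing B) (_ : Algebra R B), Algebra.Smooth R B ∧
      ∃ J : Ideal B, J ≤ I.map (algebraMap R B) ∧ J.FG ∧
        ∃ (g : A →ₐ[R] B ⧸ J) (k : (B ⧸ J) →ₐ[R] Λ), k.comp g = φ := by
  classical
  let f₁ : (R ⧸ I) ⊗[R] A →ₐ[R ⧸ I] (Λ ⧸ I.map (algebraMap R Λ)) :=
    Algebra.TensorProduct.lift (Algebra.ofId (R ⧸ I) (Λ ⧸ I.map (algebraMap R Λ)))
      ((Ideal.Quotient.mkₐ R (I.map (algebraMap R Λ))).comp φ) (fun _ _ => Commute.all _ _)
  obtain ⟨Cb, _, _, hstd, g₂, h₂, hgh⟩ := exists_standardSmooth_factor h f₁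
  letI : Algebra R Cb := ((algebraMap (R ⧸ I) Cb).comp (algebraMap R (R ⧸ I))).toAlgebra
  haveI : IsScalarTower R (R ⧸ I) Cb := .of_algebraMap_eq (fun _ => rfl)
  obtain ⟨C, _, _, θ, hCstd, hθsurj, hθker⟩ := exists_lift_standardSmooth I Cb
  haveI : Algebra.Smooth R C := inferInstance
  have hnil : IsNilpotent (I.map (algebraMap R Λ)) := ⟨2, by
    rw [← Ideal.map_pow, hI, Ideal.map_bot]
    rfl⟩
  obtain ⟨ψ₀, hψ₀⟩ := Algebra.FormallySmooth.exists_lift (I.map (algebraMap R Λ)) hnil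
    ((h₂.restrictScalars R).comp θ)
  have hψ₀' : ∀ z, Ideal.Quotient.mk (I.map (algebraMap R Λ)) (ψ₀ z) = h₂ (θ z) := fun z =>
    AlgHom.congr_fun hψ₀ z
  obtain ⟨n, π, hπ, hfg⟩ := Algebra.FinitePresentation.out (R := R) (A := A)
  obtain ⟨s, hs⟩ := hfg
  have hcomp : ∀ z, h₂ (g₂ z) = f₁ z := fun z => AlgHom.congr_fun hgh z
  choose c hc using fun j : Fin n => hθsurj (g₂ ((1 : R ⧸ I) ⊗ₜ[R] π (MvPolynomial.X j)))
  refine trick I φ π hπ s hs ψ₀ c ?_ ?_
  · intro j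
    rw [← Ideal.Quotient.eq, hψ₀', hc, hcomp]
    show Algebra.TensorProduct.lift _ _ _ ((1 : R ⧸ I) ⊗ₜ[R] π (MvPolynomial.X j)) = _
    rw [Algebra.TensorProduct.lift_tmul, map_one, one_mul]
    rfl
  · intro p hp
    apply hθker
    rw [RingHom.mem_ker]
    show θ (MvPolynomial.aeval c p) = 0
    rw [MvPolynomial.comp_aeval_apply (R := R) c θ p]
    simp_rw [hc]
    have e := MvPolynomial.comp_aeval_apply (R := R)
      (MvPolynomial.X : Fin n → MvPolynomial (Fin n) R)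
      (((g₂.restrictScalars R).comp
        (Algebra.TensorProduct.includeRight : A →ₐ[R] (R ⧸ I) ⊗[R] A)).comp π) p
    rw [MvPolynomial.aeval_X_left_apply] at e
    have e' : MvPolynomial.aeval (fun j => g₂ ((1 : R ⧸ I) ⊗ₜ[R] π (MvPolynomial.X j))) p =
        g₂ ((1 : R ⧸ I) ⊗ₜ[R] π p) := e.symm
    rw [e', hp, TensorProduct.tmul_zero, map_zero]

end IndSmLiftH8
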