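import Mathlib
import Groth.Prelude.Def_Smoothing
import Groth.Agent.Lib.IndSmLift3_helper8

/-!
# Ind-smoothness modulo a square-zero ideal: killing `J ⊆ IB` (helper8)
APPEND-ONLY once landed.
-/

set_option autoImplicit false

open TensorProduct

namespace IndSmLiftH8

universe u

theorem algebraMap_mul_eq_zero {R C : Type*} [CommRing R] [CommRing C] [Algebra R C]
    (I : Ideal R) (hI : I ^ 2 = ⊥) {e : R} (he : e ∈ I) {z : C}
    (hz : z ∈ I.map (algebraMap R C)) : algebraMap R C e * z = 0 := by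
  rw [Ideal.map, ← Ideal.submodule_span_eq] at hz
  induction hz using Submodule.span_induction with
  | mem x hx =>
    obtain ⟨e', he', rfl⟩ := hx
    rw [← map_mul]
    have : e * e' ∈ I ^ 2 := by
      rw [pow_two]
      exact Ideal.mul_mem_mul he he'
    rw [hI] at this
    rw [(Ideal.mem_bot).mp this, map_zero]
  | zero => rw [mul_zero]
  | add x y _ _ hx hy => rw [mul_add, hx, hy, add_zero]
  | smul a x _ hx => rw [smul_eq_mul, mul_left_comm, hx, mul_zero]

theorem mul_eq_zero_of_mem_map {R C : Type*} [CommRing R] [CommRing C] [Algebra R C]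
    (I : Ideal R) (hI : I ^ 2 = ⊥) {w z : C} (hw : w ∈ I.map (algebraMap R C))
    (hz : z ∈ I.map (algebraMap R C)) : w * z = 0 := by
  rw [Ideal.map, ← Ideal.submodule_span_eq] at hw
  induction hw using Submodule.span_induction with
  | mem x hx =>
    obtain ⟨e, he, rfl⟩ := hx
    exact algebraMap_mul_eq_zero I hI he hz
  | zero => rw [zero_mul]
  | add x y _ _ hx hy => rw [add_mul, hx, hy, add_zero]
  | smul a x _ hx => rw [smul_eq_mul, mul_assoc, hx, mul_zero]

theorem isNilpotent_of_le_map {R C : Type*} [CommRing R] [CommRing C] [Algebra R C]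
    (I : Ideal R) (hI : I ^ 2 = ⊥) (K : Ideal C) (hK : K ≤ I.map (algebraMap R C)) :
    IsNilpotent K := by
  refine ⟨2, ?_⟩
  rw [pow_two, Ideal.zero_eq_bot, eq_bot_iff, Ideal.mul_le]
  intro x hx y hy
  rw [Ideal.mem_bot]
  exact mul_eq_zero_of_mem_map I hI (hK hx) (hK hy)

theorem main6821 {R Λ B : Type u} [CommRing R] [CommRing Λ] [Algebra R Λ] [Module.Flat R Λ]
    (I : Ideal R) (hI : I ^ 2 = ⊥)
    (h : Smoothing.IndSmooth (R ⧸ I) (Λ ⧸ I.map (algebraMap R Λ)))
    [CommRing B] [Algebra R B] [Algebra.Smooth R B] (φ : B →ₐ[R] Λ) (J : Ideal B)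
    (hJ : J ≤ I.map (algebraMap R B)) (hJfg : J.FG) (hφJ : ∀ x ∈ J, φ x = 0) :
    ∃ (B' : Type u) (_ : CommRing B') (_ : Algebra R B'), Algebra.Smooth R B' ∧
      ∃ (α : B →ₐ[R] B') (β : B' →ₐ[R] Λ), (∀ x ∈ J, α x = 0) ∧
        ∀ b : B, β (α b) - φ b ∈ I.map (algebraMap R Λ) := by
  classical
  obtain ⟨s, hs⟩ := hJfg
  have hsJ : ∀ j : s, (j : B) ∈ J := fun j => hs ▸ Ideal.subset_span j.2
  -- decomposition of the generators
  have hdec : ∀ j : s, ∃ l : R →₀ B, (∀ ε ∈ l.support, ε ∈ I) ∧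
      (j : B) = ∑ e : l.support, l e.1 * algebraMap R B e.1 := by
    intro j
    have h1 : (j : B) ∈ I.map (algebraMap R B) := hJ (hsJ j)
    rw [Ideal.map, ← Ideal.submodule_span_eq,
      Finsupp.mem_span_image_iff_linearCombination] at h1
    obtain ⟨l, hl, hsum⟩ := h1
    refine ⟨l, fun ε hε => (Finsupp.mem_supported _ l).mp hl hε, ?_⟩
    rw [← hsum, Finsupp.linearCombination_apply, Finsupp.sum, ← Finset.sum_coe_sort]
    rfl
  choose l hlI hlsum using hdec
  have hrel : ∀ j : s, ∑ e : (l j).support, (e.1 : R) • φ (l j e.1) = 0 := by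
    intro j
    have h1 := hφJ j (hsJ j)
    rw [hlsum j, map_sum] at h1
    rw [← h1]
    refine Finset.sum_congr rfl fun e _ => ?_
    rw [map_mul, φ.commutes, Algebra.smul_def, mul_comm]
  have htriv : ∀ j : s, Module.IsTrivialRelation (fun e : (l j).support => (e.1 : R))
      (fun e : (l j).support => φ (l j e.1)) := fun j =>
    Module.Flat.isTrivialRelation_of_sum_smul_eq_zero (R := R) (M := Λ)
      (f := fun e : (l j).support => (e.1 : R)) (x := fun e : (l j).support => φ (l j e.1))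
      (hrel j)
  choose k a y hx0 ha0 using htriv
  have hx : ∀ (j : s) (e : (l j).support), φ (l j e.1) = ∑ κ, a j e κ • y j κ := hx0
  have ha : ∀ (j : s) (κ : Fin (k j)), ∑ e : (l j).support, (e.1 : R) * a j e κ = 0 := ha0
  -- the finitely presented algebra `D`
  let T := (j : s) × Fin (k j)
  let U := (j : s) × (l j).support
  let rel : U → MvPolynomial T B := fun u =>
    MvPolynomial.C (l u.1 u.2.1) - ∑ κ : Fin (k u.1),
      MvPolynomial.C (algebraMap R B (a u.1 u.2 κ)) * MvPolynomial.X (⟨u.1, κ⟩ : T)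
  let ev : MvPolynomial T B →ₐ[R] Λ := MvPolynomial.aevalTower φ (fun t : T => y t.1 t.2)
  have hevrel : ∀ u, ev (rel u) = 0 := by
    intro u
    show ev (MvPolynomial.C (l u.1 u.2.1) - ∑ κ : Fin (k u.1),
      MvPolynomial.C (algebraMap R B (a u.1 u.2 κ)) * MvPolynomial.X (⟨u.1, κ⟩ : T)) = 0
    rw [map_sub, map_sum, MvPolynomial.aevalTower_C, hx u.1 u.2, sub_eq_zero]
    refine Finset.sum_congr rfl fun κ _ => ?_
    rw [map_mul, MvPolynomial.aevalTower_C, MvPolynomial.aevalTower_X, φ.commutes,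
      Algebra.smul_def]
  have hevK : ∀ x ∈ Ideal.span (Set.range rel), ev x = 0 := by
    intro x hx
    have : Ideal.span (Set.range rel) ≤ RingHom.ker ev.toRingHom := by
      rw [Ideal.span_le]
      rintro _ ⟨u, rfl⟩
      exact hevrel u
    exact this hx
  let δ : (MvPolynomial T B ⧸ Ideal.span (Set.range rel)) →ₐ[R] Λ :=
    Ideal.Quotient.liftₐ (Ideal.span (Set.range rel)) ev hevK
  haveI : Algebra.FinitePresentation B (MvPolynomial T B ⧸ Ideal.span (Set.range rel)) :=
    Algebra.FinitePresentation.quotient (Submodule.fg_span (Set.finite_range rel))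
  haveI : Algebra.FinitePresentation R (MvPolynomial T B ⧸ Ideal.span (Set.range rel)) :=
    Algebra.FinitePresentation.trans R B _
  -- apply ind-smoothness
  let f₁ : (R ⧸ I) ⊗[R] (MvPolynomial T B ⧸ Ideal.span (Set.range rel)) →ₐ[R ⧸ I]
      (Λ ⧸ I.map (algebraMap R Λ)) :=
    Algebra.TensorProduct.lift (Algebra.ofId (R ⧸ I) (Λ ⧸ I.map (algebraMap R Λ)))
      ((Ideal.Quotient.mkₐ R (I.map (algebraMap R Λ))).comp δ) (fun _ _ => Commute.all _ _)
  obtain ⟨Cb, _, _, hstd, g₂, h₂, hgh⟩ := exists_standardSmooth_factor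
    (A := (R ⧸ I) ⊗[R] (MvPolynomial T B ⧸ Ideal.span (Set.range rel))) h f₁
  letI : Algebra R Cb := ((algebraMap (R ⧸ I) Cb).comp (algebraMap R (R ⧸ I))).toAlgebra
  haveI : IsScalarTower R (R ⧸ I) Cb := .of_algebraMap_eq (fun _ => rfl)
  obtain ⟨C, _, _, θ, hCstd, hθsurj, hθker⟩ := exists_lift_standardSmooth I Cb
  haveI : Algebra.Smooth R C := inferInstance
  have hcomp : ∀ z, h₂ (g₂ z) = f₁ z := fun z => AlgHom.congr_fun hgh z
  -- the map `B → D → Cb`
  let γ : B →ₐ[R] Cb := ((g₂.restrictScalars R).comp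
    (Algebra.TensorProduct.includeRight : (MvPolynomial T B ⧸ Ideal.span (Set.range rel)) →ₐ[R]
      (R ⧸ I) ⊗[R] (MvPolynomial T B ⧸ Ideal.span (Set.range rel)))).comp
    (IsScalarTower.toAlgHom R B (MvPolynomial T B ⧸ Ideal.span (Set.range rel)))
  have hγ : ∀ b, γ b = g₂ ((1 : R ⧸ I) ⊗ₜ[R]
      (Ideal.Quotient.mk (Ideal.span (Set.range rel)) (MvPolynomial.C b))) := fun b => rfl
  have hθnil : IsNilpotent (RingHom.ker (θ : C →+* Cb)) :=
    isNilpotent_of_le_map I hI _ hθker
  let α : B →ₐ[R] C := Algebra.FormallySmooth.liftOfSurjective γ θ hθsurj hθnil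
  have hα : ∀ b, θ (α b) = γ b := Algebra.FormallySmooth.liftOfSurjective_apply γ θ hθsurj hθnil
  have hnil : IsNilpotent (I.map (algebraMap R Λ)) := ⟨2, by
    rw [← Ideal.map_pow, hI, Ideal.map_bot]
    rfl⟩
  obtain ⟨β, hβ⟩ := Algebra.FormallySmooth.exists_lift (I.map (algebraMap R Λ)) hnil
    ((h₂.restrictScalars R).comp θ)
  have hβ' : ∀ z, Ideal.Quotient.mk (I.map (algebraMap R Λ)) (β z) = h₂ (θ z) := fun z =>
    AlgHom.congr_fun hβ z
  refine ⟨C, inferInstance, inferInstance, inferInstance, α, β, ?_, ?_⟩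
  · -- `α` kills `J`
    choose Y hY using fun t : T => hθsurj (g₂ ((1 : R ⧸ I) ⊗ₜ[R]
      (Ideal.Quotient.mk (Ideal.span (Set.range rel)) (MvPolynomial.X t))))
    have hkey : ∀ (j : s) (e : (l j).support),
        α (l j e.1) - ∑ κ : Fin (k j), algebraMap R C (a j e κ) * Y ⟨j, κ⟩ ∈
          I.map (algebraMap R C) := by
      intro j e
      apply hθker
      rw [RingHom.mem_ker]
      show θ (α (l j e.1) - ∑ κ : Fin (k j), algebraMap R C (a j e κ) * Y ⟨j, κ⟩) = 0
      rw [map_sub, hα, hγ, map_sum, sub_eq_zero]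
      have h1 : Ideal.Quotient.mk (Ideal.span (Set.range rel)) (MvPolynomial.C (l j e.1)) =
          ∑ κ : Fin (k j), algebraMap R (MvPolynomial T B ⧸ Ideal.span (Set.range rel))
            (a j e κ) * Ideal.Quotient.mk (Ideal.span (Set.range rel))
              (MvPolynomial.X (⟨j, κ⟩ : T)) := by
        have h2 : rel ⟨j, e⟩ ∈ Ideal.span (Set.range rel) := Ideal.subset_span ⟨_, rfl⟩
        rw [← Ideal.Quotient.eq_zero_iff_mem] at h2
        have h3 : Ideal.Quotient.mk (Ideal.span (Set.range rel)) (rel ⟨j, e⟩) =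
            Ideal.Quotient.mk (Ideal.span (Set.range rel)) (MvPolynomial.C (l j e.1)) -
            ∑ κ : Fin (k j), algebraMap R (MvPolynomial T B ⧸ Ideal.span (Set.range rel))
              (a j e κ) * Ideal.Quotient.mk (Ideal.span (Set.range rel))
                (MvPolynomial.X (⟨j, κ⟩ : T)) := by
          show Ideal.Quotient.mk (Ideal.span (Set.range rel)) (MvPolynomial.C (l j e.1) -
            ∑ κ : Fin (k j), MvPolynomial.C (algebraMap R B (a j e κ)) *
              MvPolynomial.X (⟨j, κ⟩ : T)) = _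
          rw [map_sub, map_sum]
          congr 1
        rw [h3, sub_eq_zero] at h2
        exact h2
      rw [h1, TensorProduct.tmul_sum, map_sum]
      refine Finset.sum_congr rfl fun κ _ => ?_
      rw [map_mul, hY, AlgHom.commutes, Algebra.algebraMap_eq_smul_one (a j e κ), smul_mul_assoc,
        one_mul, TensorProduct.tmul_smul, ← Algebra.smul_def]
      exact (map_smul (g₂.restrictScalars R) _ _)
    have hαs : ∀ j : s, α (j : B) = 0 := by
      intro j
      rw [hlsum j, map_sum]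
      have h1 : ∀ e : (l j).support, α (l j e.1 * algebraMap R B e.1) =
          ∑ κ : Fin (k j), algebraMap R C (e.1 * a j e κ) * Y ⟨j, κ⟩ := by
        intro e
        have h2 := algebraMap_mul_eq_zero I hI (hlI j e.1 e.2) (hkey j e)
        rw [mul_sub, sub_eq_zero] at h2
        rw [map_mul, α.commutes, mul_comm, h2, Finset.mul_sum]
        refine Finset.sum_congr rfl fun κ _ => ?_
        rw [map_mul, mul_assoc]
      simp_rw [h1]
      rw [Finset.sum_comm]
      refine Finset.sum_eq_zero fun κ _ => ?_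
      rw [← Finset.sum_mul, ← map_sum, ha j κ, map_zero, zero_mul]
    intro x hx
    have : J ≤ RingHom.ker α.toRingHom := by
      rw [← hs, Ideal.span_le]
      intro j hj
      exact hαs ⟨j, hj⟩
    exact this hx
  · intro b
    rw [← Ideal.Quotient.eq, hβ', hα, hγ, hcomp]
    show Algebra.TensorProduct.lift _ _ _ ((1 : R ⧸ I) ⊗ₜ[R]
      (Ideal.Quotient.mk (Ideal.span (Set.range rel)) (MvPolynomial.C b))) = _
    rw [Algebra.TensorProduct.lift_tmul, map_one, one_mul]
    show Ideal.Quotient.mk _ (ev (MvPolynomial.C b)) = _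
    rw [MvPolynomial.aevalTower_C]

end IndSmLiftH8
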