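import Mathlib
import Groth.Prelude.Def_Smoothing
import Groth.Agent.Lib.IndSmLift4_helper8

/-!
# Ind-smoothness modulo a square-zero ideal: exact factorization (helper8)
APPEND-ONLY once landed.
-/

set_option autoImplicit false

open TensorProduct

namespace IndSmLiftH8

universe u

/-- Two algebra maps congruent modulo `I` agree on `I B` when `I² = 0`. -/
theorem eq_of_congr_of_mem_map {R B C : Type*} [CommRing R] [CommRing B] [Algebra R B]
    [CommRing C] [Algebra R C] (I : Ideal R) (hI : I ^ 2 = ⊥) (α₁ α₂ : B →ₐ[R] C)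
    (h : ∀ b, α₁ b - α₂ b ∈ I.map (algebraMap R C)) {j : B}
    (hj : j ∈ I.map (algebraMap R B)) : α₁ j = α₂ j := by
  rw [Ideal.map, ← Ideal.submodule_span_eq] at hj
  induction hj using Submodule.span_induction with
  | mem x hx =>
    obtain ⟨e, he, rfl⟩ := hx
    rw [α₁.commutes, α₂.commutes]
  | zero => rw [map_zero, map_zero]
  | add x y _ _ hx hy => rw [map_add, map_add, hx, hy]
  | smul a x hxm hx =>
    rw [smul_eq_mul, map_mul, map_mul, hx, ← sub_eq_zero, ← sub_mul, mul_comm]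
    have hx2 : α₂ x ∈ I.map (algebraMap R C) := by
      have h3 : I.map (algebraMap R B) ≤
          Ideal.comap α₂.toRingHom (I.map (algebraMap R C)) := by
        rw [Ideal.map_le_iff_le_comap]
        intro e he
        show α₂ (algebraMap R B e) ∈ I.map (algebraMap R C)
        rw [α₂.commutes]
        exact Ideal.mem_map_of_mem _ he
      have h4 : x ∈ I.map (algebraMap R B) := by
        rw [Ideal.map, ← Ideal.submodule_span_eq]
        exact hxm
      exact h3 h4
    exact mul_eq_zero_of_mem_map I hI hx2 (h a)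

/-- Lifting along an algebra map with nilpotent kernel, when the target map lands in
the range. -/
theorem exists_lift_of_range {R B P Q : Type*} [CommRing R] [CommRing B] [Algebra R B]
    [Algebra.FormallySmooth R B] [CommRing P] [Algebra R P] [CommRing Q] [Algebra R Q]
    (q : P →ₐ[R] Q) (σ : B →ₐ[R] Q) (hσ : ∀ b, σ b ∈ q.range)
    (hnil : IsNilpotent (RingHom.ker (q.rangeRestrict : P →+* q.range))) :
    ∃ α : B →ₐ[R] P, ∀ b, q (α b) = σ b := by
  let σ' : B →ₐ[R] q.range := σ.codRestrict q.range hσ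
  refine ⟨Algebra.FormallySmooth.liftOfSurjective σ' q.rangeRestrict
    q.rangeRestrict_surjective hnil, fun b => ?_⟩
  have := Algebra.FormallySmooth.liftOfSurjective_apply σ' q.rangeRestrict
    q.rangeRestrict_surjective hnil b
  exact congrArg Subtype.val this

theorem exact_fix_aux {R Λ B P : Type*} [CommRing R] [CommRing Λ] [Algebra R Λ] [CommRing B]
    [Algebra R B] [Algebra.FormallySmooth R B] [CommRing P] [Algebra R P]
    (I : Ideal R) (hI : I ^ 2 = ⊥) (ψ : B →ₐ[R] Λ) (β'' : P →ₐ[R] Λ) (ι : B →ₐ[R] P)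
    (G : Set B) (hG : Algebra.adjoin R G = ⊤)
    (hgen : ∀ b ∈ G, ∃ p : P, p - ι b ∈ I.map (algebraMap R P) ∧ β'' p = ψ b) :
    ∃ α'' : B →ₐ[R] P, (∀ b, β'' (α'' b) = ψ b) ∧
      ∀ b, α'' b - ι b ∈ I.map (algebraMap R P) := by
  let σ₀ : B →ₐ[R] (P ⧸ I.map (algebraMap R P)) × Λ :=
    ((Ideal.Quotient.mkₐ R (I.map (algebraMap R P))).comp ι).prod ψ
  let q₀ : P →ₐ[R] (P ⧸ I.map (algebraMap R P)) × Λ :=
    (Ideal.Quotient.mkₐ R (I.map (algebraMap R P))).prod β''
  have hgen' : ∀ b ∈ G, σ₀ b ∈ q₀.range := by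
    intro b hb
    obtain ⟨p, hp1, hp2⟩ := hgen b hb
    refine ⟨p, Prod.ext ?_ hp2⟩
    show Ideal.Quotient.mk (I.map (algebraMap R P)) p =
      Ideal.Quotient.mk (I.map (algebraMap R P)) (ι b)
    exact Ideal.Quotient.eq.mpr hp1
  have hall : ∀ b : B, σ₀ b ∈ q₀.range := by
    intro b
    have h1 : Algebra.adjoin R G ≤ q₀.range.comap σ₀ := by
      rw [Algebra.adjoin_le_iff]
      intro x hx
      exact hgen' x hx
    rw [hG] at h1
    exact h1 (Algebra.mem_top : b ∈ (⊤ : Subalgebra R B))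
  have hker : RingHom.ker (q₀.rangeRestrict : P →+* q₀.range) ≤ I.map (algebraMap R P) := by
    intro x hx
    have h1 : q₀.rangeRestrict x = 0 := hx
    have h2 : q₀ x = 0 := congrArg Subtype.val h1
    have h3 : Ideal.Quotient.mk (I.map (algebraMap R P)) x = 0 := congrArg Prod.fst h2
    exact Ideal.Quotient.eq_zero_iff_mem.mp h3
  have hnil : IsNilpotent (RingHom.ker (q₀.rangeRestrict : P →+* q₀.range)) :=
    isNilpotent_of_le_map I hI _ hker
  obtain ⟨α'', hα''⟩ := exists_lift_of_range q₀ σ₀ hall hnil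
  refine ⟨α'', fun b => congrArg Prod.snd (hα'' b), fun b => ?_⟩
  have h1 : Ideal.Quotient.mk (I.map (algebraMap R P)) (α'' b) =
      Ideal.Quotient.mk (I.map (algebraMap R P)) (ι b) := congrArg Prod.fst (hα'' b)
  exact Ideal.Quotient.eq.mp h1

theorem exact_fix {R Λ B B' : Type u} [CommRing R] [CommRing Λ] [Algebra R Λ] [CommRing B]
    [Algebra R B] [Algebra.Smooth R B] [CommRing B'] [Algebra R B'] [Algebra.Smooth R B']
    (I : Ideal R) (hI : I ^ 2 = ⊥) (ψ : B →ₐ[R] Λ) (α : B →ₐ[R] B') (β : B' →ₐ[R] Λ)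
    (hcong : ∀ b, β (α b) - ψ b ∈ I.map (algebraMap R Λ)) :
    ∃ (B'' : Type u) (_ : CommRing B'') (_ : Algebra R B''), Algebra.Smooth R B'' ∧
      ∃ (α'' : B →ₐ[R] B'') (β'' : B'' →ₐ[R] Λ) (ι' : B' →ₐ[R] B''),
        (∀ b, β'' (α'' b) = ψ b) ∧ ∀ b, α'' b - ι' (α b) ∈ I.map (algebraMap R B'') := by
  classical
  -- generators of `B`
  obtain ⟨G, hG⟩ := (Algebra.FiniteType.out : (⊤ : Subalgebra R B).FG)
  -- decompositions of the errors on generators
  have hdec : ∀ b : G, ∃ l : R →₀ Λ, (∀ ε ∈ l.support, ε ∈ I) ∧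
      β (α b) - ψ b = ∑ e : l.support, l e.1 * algebraMap R Λ e.1 := by
    intro b
    have h1 := hcong b
    rw [Ideal.map, ← Ideal.submodule_span_eq,
      Finsupp.mem_span_image_iff_linearCombination] at h1
    obtain ⟨l, hl, hsum⟩ := h1
    refine ⟨l, fun ε hε => (Finsupp.mem_supported _ l).mp hl hε, ?_⟩
    rw [← hsum, Finsupp.linearCombination_apply, Finsupp.sum, ← Finset.sum_coe_sort]
    rfl
  choose l hlI hlsum using hdec
  let τ := (b : G) × (l b).support
  haveI : Algebra.Smooth B' (MvPolynomial τ B') := ⟨inferInstance, inferInstance⟩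
  haveI : Algebra.Smooth R (MvPolynomial τ B') := Algebra.Smooth.comp R B' (MvPolynomial τ B')
  let β'' : MvPolynomial τ B' →ₐ[R] Λ := MvPolynomial.aevalTower β (fun t : τ => l t.1 t.2.1)
  let ι' : B' →ₐ[R] MvPolynomial τ B' := IsScalarTower.toAlgHom R B' (MvPolynomial τ B')
  have hι' : ∀ x, ι' x = MvPolynomial.C x := fun x => rfl
  have hgen : ∀ b ∈ (G : Set B), ∃ p : MvPolynomial τ B',
      p - (ι'.comp α) b ∈ I.map (algebraMap R (MvPolynomial τ B')) ∧ β'' p = ψ b := by
    intro b hb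
    refine ⟨MvPolynomial.C (α b) - ∑ e : (l ⟨b, hb⟩).support,
      MvPolynomial.C (algebraMap R B' e.1) * MvPolynomial.X (⟨⟨b, hb⟩, e⟩ : τ), ?_, ?_⟩
    · show _ - MvPolynomial.C (α b) ∈ _
      rw [sub_sub_cancel_left]
      refine neg_mem (Ideal.sum_mem _ fun e _ => Ideal.mul_mem_right _ _ ?_)
      have : MvPolynomial.C (algebraMap R B' e.1) =
          algebraMap R (MvPolynomial τ B') e.1 := by
        rw [IsScalarTower.algebraMap_apply R B' (MvPolynomial τ B'), MvPolynomial.algebraMap_eq]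
      rw [this]
      exact Ideal.mem_map_of_mem _ (hlI ⟨b, hb⟩ e.1 e.2)
    · rw [map_sub, map_sum, MvPolynomial.aevalTower_C]
      have h2 : ∑ e : (l ⟨b, hb⟩).support, β'' (MvPolynomial.C (algebraMap R B' e.1) *
          MvPolynomial.X (⟨⟨b, hb⟩, e⟩ : τ)) = β (α b) - ψ b := by
        rw [hlsum ⟨b, hb⟩]
        refine Finset.sum_congr rfl fun e _ => ?_
        rw [map_mul, MvPolynomial.aevalTower_C, MvPolynomial.aevalTower_X, β.commutes, mul_comm]
      rw [h2]
      ring
  obtain ⟨α'', h1, h2⟩ := exact_fix_aux I hI ψ β'' (ι'.comp α) (G : Set B) hG hgen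
  exact ⟨MvPolynomial τ B', inferInstance, inferInstance, inferInstance, α'', β'', ι', h1, h2⟩

end IndSmLiftH8
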