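import Mathlib
import Groth.Prelude.Def_Smoothing
import Groth.Agent.Lib.IndSmLift5_helper8

/-!
# Ind-smoothness modulo a square-zero ideal (helper8)
APPEND-ONLY once landed.
-/

set_option autoImplicit false

open TensorProduct

namespace IndSmLiftH8

universe u

/-- Square-zero case, concrete quotients. -/
theorem indSmooth_of_sq_zero {R Λ : Type u} [CommRing R] [CommRing Λ] [Algebra R Λ]
    [Module.Flat R Λ] (I : Ideal R) (hI : I ^ 2 = ⊥)
    (h : Smoothing.IndSmooth (R ⧸ I) (Λ ⧸ I.map (algebraMap R Λ))) :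
    Smoothing.IndSmooth R Λ := by
  intro A _ _ hA φ
  obtain ⟨B, _, _, hB, J, hJ, hJfg, g, k, hgk⟩ := main2023 I hI h φ
  let ψ : B →ₐ[R] Λ := k.comp (Ideal.Quotient.mkₐ R J)
  have hψJ : ∀ x ∈ J, ψ x = 0 := by
    intro x hx
    show k (Ideal.Quotient.mk J x) = 0
    rw [Ideal.Quotient.eq_zero_iff_mem.mpr hx, map_zero]
  obtain ⟨B', _, _, hB', α, β, hαJ, hcong⟩ := main6821 I hI h ψ J hJ hJfg hψJ
  obtain ⟨B'', _, _, hB'', α'', β'', ι', h1, h2⟩ := exact_fix I hI ψ α β hcong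
  have hα''J : ∀ x ∈ J, α'' x = 0 := by
    intro x hx
    have := eq_of_congr_of_mem_map I hI α'' (ι'.comp α) h2 (hJ hx)
    rw [this]
    show ι' (α x) = 0
    rw [hαJ x hx, map_zero]
  let α₃ : B ⧸ J →ₐ[R] B'' := Ideal.Quotient.liftₐ J α'' hα''J
  refine ⟨B'', inferInstance, inferInstance, hB'', α₃.comp g, β'', ?_⟩
  rw [← hgk]
  have : β''.comp α₃ = k := by
    apply AlgHom.ext
    intro x
    obtain ⟨b, rfl⟩ := Ideal.Quotient.mk_surjective x
    show β'' (α'' b) = k (Ideal.Quotient.mk J b)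
    exact h1 b
  rw [← this]
  rfl

end IndSmLiftH8
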