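import Mathlib
import Groth.Prelude.Def_Smoothing
import Groth.Agent.Lib.IndSmLift6_helper8

/-!
# Ind-smoothness: transport along ring isomorphisms (helper8)
APPEND-ONLY once landed.
-/

set_option autoImplicit false

open TensorProduct

namespace IndSmLiftH8

universe u

theorem finitePresentation_of_ringEquiv {R₁ R₂ A : Type*} [CommRing R₁] [CommRing R₂]
    [CommRing A] [Algebra R₁ A] [Algebra R₂ A] (e : R₂ ≃+* R₁)
    (he : ∀ r, algebraMap R₂ A r = algebraMap R₁ A (e r))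
    [Algebra.FinitePresentation R₁ A] : Algebra.FinitePresentation R₂ A := by
  letI : Algebra R₂ R₁ := e.toRingHom.toAlgebra
  haveI : IsScalarTower R₂ R₁ A := .of_algebraMap_eq he
  haveI : Algebra.FinitePresentation R₂ R₁ :=
    Algebra.FinitePresentation.equiv (A := R₂)
      ({ e with commutes' := fun _ => rfl } : R₂ ≃ₐ[R₂] R₁)
  exact Algebra.FinitePresentation.trans R₂ R₁ A

theorem smooth_of_ringEquiv {R₁ R₂ A : Type*} [CommRing R₁] [CommRing R₂]
    [CommRing A] [Algebra R₁ A] [Algebra R₂ A] (e : R₂ ≃+* R₁)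
    (he : ∀ r, algebraMap R₂ A r = algebraMap R₁ A (e r))
    [Algebra.Smooth R₁ A] : Algebra.Smooth R₂ A := by
  letI : Algebra R₂ R₁ := e.toRingHom.toAlgebra
  haveI : IsScalarTower R₂ R₁ A := .of_algebraMap_eq he
  haveI : Algebra.Smooth R₂ R₁ :=
    Algebra.Smooth.of_equiv (A := R₂)
      ({ e with commutes' := fun _ => rfl } : R₂ ≃ₐ[R₂] R₁)
  exact Algebra.Smooth.comp R₂ R₁ A

theorem indSmooth_of_ringEquiv {R₁ Λ₁ R₂ Λ₂ : Type u} [CommRing R₁] [CommRing Λ₁]
    [Algebra R₁ Λ₁] [CommRing R₂] [CommRing Λ₂] [Algebra R₂ Λ₂] (e : R₁ ≃+* R₂)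
    (e' : Λ₁ ≃+* Λ₂) (hc : ∀ r, e' (algebraMap R₁ Λ₁ r) = algebraMap R₂ Λ₂ (e r))
    (h : Smoothing.IndSmooth R₂ Λ₂) : Smoothing.IndSmooth R₁ Λ₁ := by
  intro A _ _ hA φ
  letI algR₂A : Algebra R₂ A := ((algebraMap R₁ A).comp e.symm.toRingHom).toAlgebra
  haveI : Algebra.FinitePresentation R₂ A :=
    finitePresentation_of_ringEquiv (R₁ := R₁) e.symm (fun _ => rfl)
  let φ₂ : A →ₐ[R₂] Λ₂ :=
    { (e'.toRingHom.comp φ.toRingHom) with
      commutes' := fun r => by
        show e' (φ (algebraMap R₁ A (e.symm r))) = _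
        rw [φ.commutes, hc, e.apply_symm_apply] }
  have hφ₂ : ∀ a, φ₂ a = e' (φ a) := fun _ => rfl
  obtain ⟨B, _, _, hB, g, k, hgk⟩ := h A inferInstance φ₂
  letI : Algebra R₁ B := ((algebraMap R₂ B).comp e.toRingHom).toAlgebra
  haveI : Algebra.Smooth R₁ B := smooth_of_ringEquiv (R₁ := R₂) e (fun _ => rfl)
  have hA₂ : ∀ r : R₁, algebraMap R₁ A r = algebraMap R₂ A (e r) := by
    intro r
    show _ = algebraMap R₁ A (e.symm (e r))
    rw [e.symm_apply_apply]
  let g₁ : A →ₐ[R₁] B :=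
    { g.toRingHom with
      commutes' := fun r => by
        show g (algebraMap R₁ A r) = algebraMap R₂ B (e r)
        rw [hA₂, g.commutes] }
  let k₁ : B →ₐ[R₁] Λ₁ :=
    { (e'.symm.toRingHom.comp k.toRingHom) with
      commutes' := fun r => by
        show e'.symm (k (algebraMap R₂ B (e r))) = _
        rw [k.commutes, ← hc, e'.symm_apply_apply] }
  refine ⟨B, inferInstance, inferInstance, inferInstance, g₁, k₁, ?_⟩
  apply AlgHom.ext
  intro a
  show e'.symm (k (g a)) = φ a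
  have : k (g a) = φ₂ a := AlgHom.congr_fun hgk a
  rw [this, hφ₂, e'.symm_apply_apply]

end IndSmLiftH8
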