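import Mathlib
import Groth.Prelude.Def_Smoothing
import Groth.Agent.Lib.IndSmLift7_helper8

/-!
# Ind-smoothness modulo a nilpotent ideal (helper8)
APPEND-ONLY once landed.
-/

set_option autoImplicit false

open TensorProduct

namespace IndSmLiftH8

universe u

theorem indSmooth_of_pow_eq_bot (n : ℕ) : ∀ {R Λ R₀ Λ₀ : Type u} [CommRing R] [CommRing Λ]
    [Algebra R Λ] [CommRing R₀] [CommRing Λ₀] [Algebra R₀ Λ₀] [Module.Flat R Λ]
    (p : R →+* R₀) (q : Λ →+* Λ₀) (_ : Function.Surjective p) (_ : Function.Surjective q)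
    (_ : ∀ r, q (algebraMap R Λ r) = algebraMap R₀ Λ₀ (p r))
    (_ : RingHom.ker q = (RingHom.ker p).map (algebraMap R Λ))
    (_ : (RingHom.ker p) ^ (n + 1) = ⊥) (_ : Smoothing.IndSmooth R₀ Λ₀),
    Smoothing.IndSmooth R Λ := by
  induction n with
  | zero =>
    intro R Λ R₀ Λ₀ _ _ _ _ _ _ _ p q hp hq hpq hker hn h
    rw [zero_add, pow_one] at hn
    have hpi : Function.Injective p := (RingHom.injective_iff_ker_eq_bot p).mpr hn
    have hqi : Function.Injective q := by
      rw [RingHom.injective_iff_ker_eq_bot, hker, hn, Ideal.map_bot]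
    exact indSmooth_of_ringEquiv (RingEquiv.ofBijective p ⟨hpi, hp⟩)
      (RingEquiv.ofBijective q ⟨hqi, hq⟩) hpq h
  | succ n ih =>
    intro R Λ R₀ Λ₀ _ _ _ _ _ _ _ p q hp hq hpq hker hn h
    have hKI : (RingHom.ker p) ^ (n + 1) ≤ RingHom.ker p :=
      Ideal.pow_le_self (Nat.succ_ne_zero n)
    have hK2 : ((RingHom.ker p) ^ (n + 1)) ^ 2 = ⊥ := by
      rw [← pow_mul]
      apply le_bot_iff.mp
      rw [← hn]
      exact Ideal.pow_le_pow_right (by omega)
    have hKΛ : ((RingHom.ker p) ^ (n + 1)).map (algebraMap R Λ) ≤ RingHom.ker q := by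
      rw [hker]
      exact Ideal.map_mono hKI
    let p' : R ⧸ (RingHom.ker p) ^ (n + 1) →+* R₀ :=
      Ideal.Quotient.lift _ p (fun x hx => hKI hx)
    let q' : Λ ⧸ ((RingHom.ker p) ^ (n + 1)).map (algebraMap R Λ) →+* Λ₀ :=
      Ideal.Quotient.lift _ q (fun x hx => hKΛ hx)
    haveI : Module.Flat (R ⧸ (RingHom.ker p) ^ (n + 1))
        (Λ ⧸ ((RingHom.ker p) ^ (n + 1)).map (algebraMap R Λ)) :=
      Module.Flat.of_linearEquiv
        (Algebra.TensorProduct.quotIdealMapEquivQuotTensor Λ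
          ((RingHom.ker p) ^ (n + 1))).toLinearEquiv
    have h' : Smoothing.IndSmooth (R ⧸ (RingHom.ker p) ^ (n + 1))
        (Λ ⧸ ((RingHom.ker p) ^ (n + 1)).map (algebraMap R Λ)) := by
      refine ih p' q' ?_ ?_ ?_ ?_ ?_ h
      · exact Ideal.Quotient.lift_surjective_of_surjective _ _ hp
      · exact Ideal.Quotient.lift_surjective_of_surjective _ _ hq
      · intro r
        obtain ⟨r, rfl⟩ := Ideal.Quotient.mk_surjective r
        exact hpq r
      · rw [Ideal.ker_quotient_lift, Ideal.ker_quotient_lift, hker, Ideal.map_map,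
          Ideal.map_map]
        rfl
      · rw [Ideal.ker_quotient_lift, ← Ideal.map_pow, Ideal.map_quotient_self]
    exact indSmooth_of_sq_zero _ hK2 h'

theorem main2022 {R Λ : Type u} [CommRing R] [CommRing Λ]
    [Algebra R Λ] (I : Ideal R) (hI : IsNilpotent I) [Module.Flat R Λ]
    (h : Smoothing.IndSmooth (R ⧸ I) (Λ ⧸ I.map (algebraMap R Λ))) :
    Smoothing.IndSmooth R Λ := by
  obtain ⟨n, hn⟩ := hI
  refine indSmooth_of_pow_eq_bot n (Ideal.Quotient.mk I)
    (Ideal.Quotient.mk (I.map (algebraMap R Λ))) Ideal.Quotient.mk_surjective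
    Ideal.Quotient.mk_surjective (fun _ => rfl) ?_ ?_ h
  · rw [Ideal.mk_ker, Ideal.mk_ker]
  · rw [Ideal.mk_ker, pow_succ, hn]
    exact Ideal.bot_mul I

end IndSmLiftH8
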