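import Mathlib
import Groth.Prelude.Def_Smoothing

/-!
Helper library (helper4): delocalization of resolutions (Stacks, Smoothing ring maps, local tricks):
from a smooth `R_𝔭`-algebra `B` with `A → B → Λ_𝔮` build a finitely presented `R`-algebra `C` with
`A → C → Λ` which is smooth over `R` at the prime under `𝔮`.  APPEND-ONLY once landed.
-/

set_option autoImplicit false
set_option linter.unusedVariables false
set_option linter.unusedTactic false
set_option linter.unreachableTactic false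
set_option linter.unusedSectionVars false
set_option linter.style.haveILetI false
set_option maxHeartbeats 800000

universe u

open scoped LaurentPolynomial
open scoped Polynomial
open scoped TensorProduct

namespace Groth.Agent.Lib.DelocH4

section Scale

theorem aeval_scale {A K σ : Type*} [CommRing A] [CommRing K] [Algebra A K] (v : σ → K) (c : K)
    (F : MvPolynomial σ A) (k : ℕ) (hF : F.IsHomogeneous k) :
    MvPolynomial.aeval (fun o => c * v o) F = c ^ k * MvPolynomial.aeval v F := by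
  classical
  have key : ∀ d ∈ F.support,
      MvPolynomial.aeval (fun o => c * v o) (MvPolynomial.monomial d (MvPolynomial.coeff d F)) =
        c ^ k * MvPolynomial.aeval v (MvPolynomial.monomial d (MvPolynomial.coeff d F)) := by
    intro d hd
    rw [MvPolynomial.aeval_monomial, MvPolynomial.aeval_monomial]
    have hk : k = ∑ i ∈ d.support, d i := hF.degree_eq_sum_deg_support hd
    have hprod : (d.prod fun i e => (c * v i) ^ e) = c ^ k * d.prod fun i e => v i ^ e := by
      simp only [mul_pow]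
      rw [Finsupp.prod_mul]
      congr 1
      show ∏ i ∈ d.support, c ^ d i = c ^ k
      rw [Finset.prod_pow_eq_pow_sum, hk]
    rw [hprod]
    ring
  calc MvPolynomial.aeval (fun o => c * v o) F
      = MvPolynomial.aeval (fun o => c * v o)
          (∑ d ∈ F.support, MvPolynomial.monomial d (MvPolynomial.coeff d F)) := by
        rw [MvPolynomial.support_sum_monomial_coeff]
    _ = ∑ d ∈ F.support,
          c ^ k * MvPolynomial.aeval v (MvPolynomial.monomial d (MvPolynomial.coeff d F)) := by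
        rw [map_sum]
        exact Finset.sum_congr rfl key
    _ = c ^ k * MvPolynomial.aeval v
          (∑ d ∈ F.support, MvPolynomial.monomial d (MvPolynomial.coeff d F)) := by
        rw [map_sum, Finset.mul_sum]
    _ = c ^ k * MvPolynomial.aeval v F := by rw [MvPolynomial.support_sum_monomial_coeff]

theorem coeff_extract {B : Type*} [CommRing B] (β : ℕ → B) (n : ℕ)
    (h : ∑ k ∈ Finset.range n,
      (LaurentPolynomial.C (β k) * LaurentPolynomial.T (k : ℤ) : B[T;T⁻¹]) = 0) :
    ∀ k < n, β k = 0 := by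
  classical
  intro k hk
  have h1 := congrArg (fun p : B[T;T⁻¹] => p.coeff (k : ℤ)) h
  simp only [← LaurentPolynomial.single_eq_C_mul_T, AddMonoidAlgebra.coeff_sum,
    AddMonoidAlgebra.coeff_single, Finsupp.coe_finsetSum, Finset.sum_apply,
    Finsupp.single_apply, Nat.cast_inj, AddMonoidAlgebra.coeff_zero, Finsupp.coe_zero,
    Pi.zero_apply] at h1
  rw [Finset.sum_ite_eq'] at h1
  simpa [hk] using h1

theorem exists_kill {Λ Λq : Type*} [CommRing Λ] [CommRing Λq] [Algebra Λ Λq] (M : Submonoid Λ)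
    [IsLocalization M Λq] (Z : Finset Λ) (hZ : ∀ z ∈ Z, algebraMap Λ Λq z = 0) :
    ∃ ν ∈ M, ∀ z ∈ Z, ν * z = 0 := by
  classical
  induction Z using Finset.induction_on with
  | empty => exact ⟨1, M.one_mem, by simp⟩
  | insert a Z ha ih =>
    obtain ⟨ν, hν, hνz⟩ := ih (fun z hz => hZ z (Finset.mem_insert_of_mem hz))
    obtain ⟨m, hm⟩ := (IsLocalization.map_eq_zero_iff M Λq a).mp
      (hZ a (Finset.mem_insert_self a Z))
    refine ⟨m * ν, M.mul_mem m.2 hν, ?_⟩
    intro z hz
    rcases Finset.mem_insert.mp hz with rfl | hz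
    · rw [mul_right_comm, hm, zero_mul]
    · rw [mul_assoc, hνz z hz, mul_zero]

theorem isSmoothAt_congr' {R A : Type*} [CommRing R] [CommRing A] [Algebra R A]
    (P Q : Ideal A) [P.IsPrime] [Q.IsPrime] (h : P = Q) (hs : Algebra.IsSmoothAt R P) :
    Algebra.IsSmoothAt R Q := by
  subst h
  exact hs

end Scale

section Setup

variable {A B : Type u} [CommRing A] [CommRing B] [Algebra A B] {ι₀ : Type u}

/-- the base point `t = 1`, `w = x`. -/
def pt (x : ι₀ → B) : Option ι₀ → B := fun o => o.elim 1 x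

/-- dehomogenisation -/
noncomputable def eps (x : ι₀ → B) : MvPolynomial (Option ι₀) A →ₐ[A] B :=
  MvPolynomial.aeval (pt x)

/-- the map to the Laurent polynomial ring: `t ↦ T`, `w_i ↦ x_i T`. -/
noncomputable def pi2 (x : ι₀ → B) : MvPolynomial (Option ι₀) A →ₐ[A] B[T;T⁻¹] :=
  MvPolynomial.aeval (fun o => LaurentPolynomial.T 1 * LaurentPolynomial.C (pt x o))

/-- the constant term. -/
noncomputable def pi1 : MvPolynomial (Option ι₀) A →ₐ[A] A :=
  MvPolynomial.aeval (fun _ => (0 : A))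

/-- the product map. -/
noncomputable def piP (x : ι₀ → B) : MvPolynomial (Option ι₀) A →ₐ[A] A × B[T;T⁻¹] :=
  AlgHom.prod pi1 (pi2 x)

theorem piP_apply (x : ι₀ → B) (F : MvPolynomial (Option ι₀) A) :
    piP x F = (pi1 F, pi2 x F) := rfl

theorem pi1_C (a : A) : pi1 (ι₀ := ι₀) (MvPolynomial.C a) = a := by
  unfold pi1
  rw [MvPolynomial.aeval_C]
  rfl

theorem pi1_X (o : Option ι₀) : pi1 (A := A) (MvPolynomial.X o) = 0 := by
  unfold pi1
  rw [MvPolynomial.aeval_X]

theorem pi1_eq (F : MvPolynomial (Option ι₀) A) : pi1 F = MvPolynomial.coeff 0 F := by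
  unfold pi1
  rw [MvPolynomial.aeval_zero', MvPolynomial.constantCoeff_eq]
  rfl

theorem pi2_C (x : ι₀ → B) (a : A) :
    pi2 x (MvPolynomial.C a) = algebraMap A B[T;T⁻¹] a := by
  unfold pi2
  rw [MvPolynomial.aeval_C]

theorem pi2_X_none (x : ι₀ → B) :
    pi2 (A := A) x (MvPolynomial.X none) = LaurentPolynomial.T 1 := by
  unfold pi2
  rw [MvPolynomial.aeval_X]
  show LaurentPolynomial.T 1 * LaurentPolynomial.C (1 : B) = LaurentPolynomial.T 1
  rw [map_one, mul_one]

theorem pi2_X_some (x : ι₀ → B) (i : ι₀) :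
    pi2 (A := A) x (MvPolynomial.X (some i)) =
      LaurentPolynomial.T 1 * LaurentPolynomial.C (x i) := by
  unfold pi2
  rw [MvPolynomial.aeval_X]
  rfl

theorem pi2_hom (x : ι₀ → B) (F : MvPolynomial (Option ι₀) A) (k : ℕ) (hF : F.IsHomogeneous k) :
    pi2 x F = LaurentPolynomial.C (eps x F) * LaurentPolynomial.T (k : ℤ) := by
  unfold pi2 eps
  rw [aeval_scale (fun o => (LaurentPolynomial.C (pt x o) : B[T;T⁻¹])) (LaurentPolynomial.T 1) F k hF]
  have h1 : MvPolynomial.aeval (fun o => (LaurentPolynomial.C (pt x o) : B[T;T⁻¹])) F =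
      LaurentPolynomial.C (MvPolynomial.aeval (pt x) F) :=
    MvPolynomial.aeval_algebraMap_apply B[T;T⁻¹] (pt x) F
  rw [h1, LaurentPolynomial.T_pow, mul_one, mul_comm]

theorem pi2_sum (x : ι₀ → B) (F : MvPolynomial (Option ι₀) A) :
    pi2 x F = ∑ k ∈ Finset.range (F.totalDegree + 1),
      LaurentPolynomial.C (eps x (MvPolynomial.homogeneousComponent k F)) *
        LaurentPolynomial.T (k : ℤ) := by
  conv_lhs => rw [← MvPolynomial.sum_homogeneousComponent F]
  rw [map_sum]
  exact Finset.sum_congr rfl (fun k _ =>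
    pi2_hom x _ k (MvPolynomial.homogeneousComponent_isHomogeneous k F))

theorem comp_ker (x : ι₀ → B) (F : MvPolynomial (Option ι₀) A) (hF : piP x F = 0) (k : ℕ) :
    piP x (MvPolynomial.homogeneousComponent k F) = 0 := by
  classical
  have h1 : pi1 F = 0 := congrArg Prod.fst hF
  have h2 : pi2 x F = 0 := congrArg Prod.snd hF
  rw [piP_apply]
  refine Prod.ext ?_ ?_
  · show pi1 (MvPolynomial.homogeneousComponent k F) = 0
    rw [pi1_eq, MvPolynomial.coeff_homogeneousComponent]
    split_ifs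
    · rw [← pi1_eq]
      exact h1
    · rfl
  · show pi2 x (MvPolynomial.homogeneousComponent k F) = 0
    rw [pi2_hom x _ k (MvPolynomial.homogeneousComponent_isHomogeneous k F)]
    by_cases hk : k < F.totalDegree + 1
    · rw [pi2_sum] at h2
      have hz : eps x (MvPolynomial.homogeneousComponent k F) = 0 :=
        coeff_extract (fun k => eps x (MvPolynomial.homogeneousComponent k F)) _ h2 k hk
      rw [hz, map_zero, zero_mul]
    · rw [MvPolynomial.homogeneousComponent_eq_zero k F (by omega), map_zero, map_zero, zero_mul]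

theorem piP_X_none_mul (x : ι₀ → B) (F : MvPolynomial (Option ι₀) A) :
    piP x (MvPolynomial.X none * F) = (0, LaurentPolynomial.T 1 * pi2 x F) := by
  rw [piP_apply, map_mul, map_mul, pi1_X, pi2_X_none, zero_mul]

variable (A) in
/-- the kernel ideal. -/
noncomputable def Kx (x : ι₀ → B) : Ideal (MvPolynomial (Option ι₀) A) :=
  RingHom.ker (piP (A := A) x)

theorem mem_Kx {x : ι₀ → B} {F : MvPolynomial (Option ι₀) A} : F ∈ Kx A x ↔ piP x F = 0 :=
  RingHom.mem_ker

/-- the induced map on the quotient. -/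
noncomputable def p2' (x : ι₀ → B) : (MvPolynomial (Option ι₀) A ⧸ Kx A x) →ₐ[A] B[T;T⁻¹] :=
  Ideal.Quotient.liftₐ (Kx A x) (pi2 x) (fun F hF => congrArg Prod.snd (mem_Kx.mp hF))

theorem p2'_mk (x : ι₀ → B) (F : MvPolynomial (Option ι₀) A) :
    p2' x (Ideal.Quotient.mk (Kx A x) F) = pi2 x F := rfl

end Setup

section Ev

variable {A B Λ Λq : Type u} {ι₀ : Type u} [CommRing A] [CommRing B] [Algebra A B]
  [CommRing Λ] [CommRing Λq] [Algebra A Λ] [Algebra Λ Λq] [Algebra A Λq] [IsScalarTower A Λ Λq]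

theorem ev_comm (x : ι₀ → B) (h : B →ₐ[A] Λq) (v : Option ι₀ → Λ) (u : Λqˣ)
    (hu : (u : Λq) = algebraMap Λ Λq (v none))
    (hv : ∀ i, algebraMap Λ Λq (v (some i)) = algebraMap Λ Λq (v none) * h (x i))
    (F : MvPolynomial (Option ι₀) A) :
    algebraMap Λ Λq (MvPolynomial.aeval v F) =
      LaurentPolynomial.eval₂ h.toRingHom u (pi2 x F) := by
  have key : (algebraMap Λ Λq).comp
      (MvPolynomial.aeval v : MvPolynomial (Option ι₀) A →ₐ[A] Λ).toRingHom =
      (LaurentPolynomial.eval₂ h.toRingHom u).comp (pi2 x).toRingHom := by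
    refine MvPolynomial.ringHom_ext (fun a => ?_) (fun o => ?_)
    · show algebraMap Λ Λq (MvPolynomial.aeval v (MvPolynomial.C a)) =
        LaurentPolynomial.eval₂ h.toRingHom u (pi2 x (MvPolynomial.C a))
      rw [MvPolynomial.aeval_C, pi2_C, ← IsScalarTower.algebraMap_apply A Λ Λq,
        IsScalarTower.algebraMap_apply A B B[T;T⁻¹]]
      show _ = LaurentPolynomial.eval₂ h.toRingHom u (LaurentPolynomial.C (algebraMap A B a))
      rw [LaurentPolynomial.eval₂_C]
      exact (h.commutes a).symm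
    · show algebraMap Λ Λq (MvPolynomial.aeval v (MvPolynomial.X o)) =
        LaurentPolynomial.eval₂ h.toRingHom u (pi2 x (MvPolynomial.X o))
      rw [MvPolynomial.aeval_X]
      cases o with
      | none =>
        rw [pi2_X_none, LaurentPolynomial.eval₂_T, zpow_one, hu]
      | some i =>
        rw [pi2_X_some, map_mul, LaurentPolynomial.eval₂_T, zpow_one,
          LaurentPolynomial.eval₂_C, hu, hv i]
        rfl
  exact RingHom.congr_fun key F

theorem exists_ev [Finite ι₀] [IsNoetherianRing A]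
    (𝔮 : Ideal Λ) [𝔮.IsPrime] [IsLocalization.AtPrime Λq 𝔮] (x : ι₀ → B) (h : B →ₐ[A] Λq) :
    ∃ v : Option ι₀ → Λ, v none ∉ 𝔮 ∧
      (∀ i, algebraMap Λ Λq (v (some i)) = algebraMap Λ Λq (v none) * h (x i)) ∧
      ∀ F : MvPolynomial (Option ι₀) A, piP x F = 0 → MvPolynomial.aeval v F = 0 := by
  classical
  haveI : Fintype ι₀ := Fintype.ofFinite ι₀
  obtain ⟨μ, hμ⟩ := IsLocalization.exist_integer_multiples 𝔮.primeCompl
    (Finset.univ : Finset ι₀) (fun i => h (x i))
  have hμ' : ∀ i, ∃ l : Λ, algebraMap Λ Λq l = algebraMap Λ Λq (μ : Λ) * h (x i) := by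
    intro i
    obtain ⟨l, hl⟩ := RingHom.mem_rangeS.mp (hμ i (Finset.mem_univ i))
    exact ⟨l, by rw [hl, Algebra.smul_def]⟩
  choose l hl using hμ'
  obtain ⟨v₀, hv₀n, hv₀s⟩ : ∃ v₀ : Option ι₀ → Λ, v₀ none = (μ : Λ) ∧ ∀ i, v₀ (some i) = l i :=
    ⟨fun o => o.elim (μ : Λ) l, rfl, fun _ => rfl⟩
  have hunit : IsUnit (algebraMap Λ Λq (v₀ none)) := by
    rw [hv₀n]
    exact IsLocalization.map_units Λq μ
  obtain ⟨u, hu⟩ := hunit
  have hcomm₀ := ev_comm x h v₀ u hu (fun i => by rw [hv₀s, hv₀n]; exact hl i)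
  have hfg : (Kx A x).FG := IsNoetherian.noetherian _
  obtain ⟨G, hG⟩ := hfg
  obtain ⟨Z, hZdef⟩ : ∃ Z : Finset Λ, Z = G.biUnion (fun F =>
      (Finset.range (F.totalDegree + 1)).image
        (fun k => MvPolynomial.aeval v₀ (MvPolynomial.homogeneousComponent k F))) := ⟨_, rfl⟩
  have hGker : ∀ F ∈ G, piP x F = 0 := by
    intro F hF
    have : F ∈ Kx A x := by
      rw [← hG]
      exact Ideal.subset_span hF
    exact mem_Kx.mp this
  have hZ0 : ∀ z ∈ Z, algebraMap Λ Λq z = 0 := by
    intro z hz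
    rw [hZdef, Finset.mem_biUnion] at hz
    obtain ⟨F, hF, hz⟩ := hz
    obtain ⟨k, -, rfl⟩ := Finset.mem_image.mp hz
    rw [hcomm₀]
    have h2 : pi2 x (MvPolynomial.homogeneousComponent k F) = 0 :=
      congrArg Prod.snd (comp_ker x F (hGker F hF) k)
    rw [h2, map_zero]
  obtain ⟨ν, hν, hνZ⟩ := exists_kill 𝔮.primeCompl Z hZ0
  refine ⟨fun o => ν * v₀ o, ?_, ?_, ?_⟩
  · show ν * v₀ none ∉ 𝔮
    rw [hv₀n]
    exact 𝔮.primeCompl.mul_mem hν μ.2
  · intro i
    show algebraMap Λ Λq (ν * v₀ (some i)) = algebraMap Λ Λq (ν * v₀ none) * h (x i)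
    rw [map_mul, map_mul, hv₀s, hv₀n, hl i, mul_assoc]
  · intro F hF
    have hFmem : F ∈ Ideal.span (G : Set (MvPolynomial (Option ι₀) A)) := by
      rw [hG]
      exact mem_Kx.mpr hF
    have hle : Ideal.span (G : Set (MvPolynomial (Option ι₀) A)) ≤
        RingHom.ker (MvPolynomial.aeval (fun o => ν * v₀ o) :
          MvPolynomial (Option ι₀) A →ₐ[A] Λ) := by
      rw [Ideal.span_le]
      intro F' hF'
      show MvPolynomial.aeval (fun o => ν * v₀ o) F' = 0
      have hF'k := hGker F' hF'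
      conv_lhs => rw [← MvPolynomial.sum_homogeneousComponent F']
      rw [map_sum]
      refine Finset.sum_eq_zero (fun k hk => ?_)
      rw [aeval_scale v₀ ν _ k (MvPolynomial.homogeneousComponent_isHomogeneous k F')]
      rcases Nat.eq_zero_or_pos k with rfl | hkpos
      · have h0 : pi1 (MvPolynomial.homogeneousComponent 0 F') = 0 :=
          congrArg Prod.fst (comp_ker x F' hF'k 0)
        rw [MvPolynomial.homogeneousComponent_zero, pi1_C] at h0
        rw [MvPolynomial.homogeneousComponent_zero, h0, map_zero, map_zero, mul_zero]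
      · have hz : MvPolynomial.aeval v₀ (MvPolynomial.homogeneousComponent k F') ∈ Z := by
          rw [hZdef, Finset.mem_biUnion]
          exact ⟨F', hF', Finset.mem_image.mpr ⟨k, hk, rfl⟩⟩
        obtain ⟨k', rfl⟩ : ∃ k', k = k' + 1 := ⟨k - 1, by omega⟩
        rw [pow_succ, mul_assoc, hνZ _ hz, mul_zero]
    exact hle hFmem

end Ev

section Loc

variable {R Rₚ A B : Type u} [CommRing R] [CommRing Rₚ] [CommRing A] [CommRing B]
  [Algebra R Rₚ] [Algebra R A] [Algebra Rₚ B] [Algebra R B] [IsScalarTower R Rₚ B] [Algebra A B]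
  [IsScalarTower R A B] (S : Submonoid R) [IsLocalization S Rₚ] {ι₀ : Type u} (x : ι₀ → B)

variable (A) in
/-- elements of the Laurent ring which are fractions of elements coming from the polynomial ring -/
def Good (x : ι₀ → B) (z : B[T;T⁻¹]) : Prop :=
  ∃ F G : MvPolynomial (Option ι₀) A, IsUnit (pi2 x G) ∧ z * pi2 x G = pi2 x F

theorem good_add {z z' : B[T;T⁻¹]} (h : Good A x z) (h' : Good A x z') : Good A x (z + z') := by
  obtain ⟨F, G, hG, e⟩ := h
  obtain ⟨F', G', hG', e'⟩ := h'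
  refine ⟨F * G' + F' * G, G * G', ?_, ?_⟩
  · rw [map_mul]
    exact hG.mul hG'
  · rw [map_mul, map_add, map_mul, map_mul, ← e, ← e']
    ring

theorem good_mul {z z' : B[T;T⁻¹]} (h : Good A x z) (h' : Good A x z') : Good A x (z * z') := by
  obtain ⟨F, G, hG, e⟩ := h
  obtain ⟨F', G', hG', e'⟩ := h'
  refine ⟨F * F', G * G', ?_, ?_⟩
  · rw [map_mul]
    exact hG.mul hG'
  · rw [map_mul, map_mul, ← e, ← e']
    ring

include S in
theorem good_algebraMap (r' : Rₚ) : Good A x (algebraMap Rₚ B[T;T⁻¹] r') := by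
  obtain ⟨⟨r, s⟩, hrs⟩ := IsLocalization.surj S r'
  have e1 : ∀ t : R, pi2 x (MvPolynomial.C (algebraMap R A t) : MvPolynomial (Option ι₀) A) =
      algebraMap Rₚ B[T;T⁻¹] (algebraMap R Rₚ t) := by
    intro t
    rw [pi2_C, ← IsScalarTower.algebraMap_apply R A B[T;T⁻¹],
      IsScalarTower.algebraMap_apply R Rₚ B[T;T⁻¹]]
  refine ⟨MvPolynomial.C (algebraMap R A r), MvPolynomial.C (algebraMap R A (s : R)), ?_, ?_⟩
  · rw [e1]
    exact (IsLocalization.map_units Rₚ s).map (algebraMap Rₚ B[T;T⁻¹])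
  · rw [e1, e1, ← map_mul]
    exact congrArg _ hrs

theorem good_C_x (i : ι₀) : Good A x (LaurentPolynomial.C (x i)) := by
  refine ⟨MvPolynomial.X (some i), MvPolynomial.X none, ?_, ?_⟩
  · rw [pi2_X_none]
    exact LaurentPolynomial.isUnit_T 1
  · rw [pi2_X_none, pi2_X_some, mul_comm]

theorem pi2_X_none_pow (m : ℕ) :
    pi2 (A := A) x (MvPolynomial.X none ^ m) = LaurentPolynomial.T (m : ℤ) := by
  rw [map_pow, pi2_X_none, LaurentPolynomial.T_pow, mul_one]

theorem good_T (n : ℤ) : Good A x (LaurentPolynomial.T n : B[T;T⁻¹]) := by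
  rcases le_total 0 n with hn | hn
  · obtain ⟨m, rfl⟩ := Int.eq_ofNat_of_zero_le hn
    refine ⟨MvPolynomial.X none ^ m, 1, ?_, ?_⟩
    · rw [map_one]
      exact isUnit_one
    · rw [map_one, mul_one, pi2_X_none_pow]
  · obtain ⟨m, rfl⟩ := Int.exists_eq_neg_ofNat hn
    refine ⟨1, MvPolynomial.X none ^ m, ?_, ?_⟩
    · rw [pi2_X_none_pow]
      exact LaurentPolynomial.isUnit_T _
    · rw [pi2_X_none_pow, map_one, ← LaurentPolynomial.T_add, neg_add_cancel,
        LaurentPolynomial.T_zero]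

include S in
theorem good_top (hx : Algebra.adjoin Rₚ (Set.range x) = ⊤) (z : B[T;T⁻¹]) : Good A x z := by
  let Sg : Subalgebra Rₚ B[T;T⁻¹] :=
    { carrier := {z | Good A x z}
      mul_mem' := fun h h' => good_mul x h h'
      add_mem' := fun h h' => good_add x h h'
      algebraMap_mem' := fun r => good_algebraMap S x r }
  have hC : ∀ b : B, Good A x (LaurentPolynomial.C b) := by
    intro b
    have hle : Algebra.adjoin Rₚ (Set.range x) ≤
        Sg.comap (IsScalarTower.toAlgHom Rₚ B B[T;T⁻¹]) := by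
      refine Algebra.adjoin_le ?_
      rintro _ ⟨i, rfl⟩
      exact good_C_x x i
    have hb : b ∈ Sg.comap (IsScalarTower.toAlgHom Rₚ B B[T;T⁻¹]) :=
      hle (by rw [hx]; exact Algebra.mem_top)
    exact hb
  induction z using LaurentPolynomial.induction_on' with
  | add p q hp hq => exact good_add x hp hq
  | C_mul_T n a => exact good_mul x (hC a) (good_T x n)

end Loc

section Core

variable {R Rₚ A B Λ Λq : Type u} [CommRing R] [IsNoetherianRing R] [CommRing Rₚ] [CommRing A]
  [CommRing B] [CommRing Λ] [CommRing Λq]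
  [Algebra R Rₚ] [Algebra R A] [Algebra.FinitePresentation R A] [Algebra Rₚ B] [Algebra R B]
  [IsScalarTower R Rₚ B] [Algebra A B] [IsScalarTower R A B] [Algebra.Smooth Rₚ B]
  [Algebra R Λ] [Algebra A Λ] [IsScalarTower R A Λ] [Algebra Λ Λq] [Algebra A Λq]
  [IsScalarTower A Λ Λq]

theorem deloc_core (S : Submonoid R) [IsLocalization S Rₚ] (𝔮 : Ideal Λ) [𝔮.IsPrime]
    [IsLocalization.AtPrime Λq 𝔮] (h : B →ₐ[A] Λq)
    {ι₀ : Type u} [Finite ι₀] (x : ι₀ → B) (hx : Algebra.adjoin Rₚ (Set.range x) = ⊤)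
    (v : Option ι₀ → Λ) (hvn : v none ∉ 𝔮)
    (hvs : ∀ i, algebraMap Λ Λq (v (some i)) = algebraMap Λ Λq (v none) * h (x i))
    (hvker : ∀ F : MvPolynomial (Option ι₀) A, piP x F = 0 → MvPolynomial.aeval v F = 0) :
    ∃ (C : Type u) (_ : CommRing C) (_ : Algebra R C), Algebra.FinitePresentation R C ∧
      ∃ (g' : A →ₐ[R] C) (h' : C →ₐ[R] Λ), h'.comp g' = IsScalarTower.toAlgHom R A Λ ∧
        ¬ (Smoothing.singularIdeal R C).map h' ≤ 𝔮 := by
  classical
  haveI hAN : IsNoetherianRing A := Algebra.FiniteType.isNoetherianRing R A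
  haveI hfpQ : Algebra.FinitePresentation R (MvPolynomial (Option ι₀) A) :=
    Algebra.FinitePresentation.trans R A (MvPolynomial (Option ι₀) A)
  have hfp : Algebra.FinitePresentation R (MvPolynomial (Option ι₀) A ⧸ Kx A x) :=
    Algebra.FinitePresentation.quotient (IsNoetherian.noetherian (Kx A x))
  haveI := hfp
  obtain ⟨h'A, hh'A⟩ : ∃ h'A : (MvPolynomial (Option ι₀) A ⧸ Kx A x) →ₐ[A] Λ,
      ∀ F, h'A (Ideal.Quotient.mk (Kx A x) F) = MvPolynomial.aeval v F :=
    ⟨Ideal.Quotient.liftₐ (Kx A x) (MvPolynomial.aeval v) (fun F hF => hvker F (mem_Kx.mp hF)),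
      fun F => rfl⟩
  refine ⟨MvPolynomial (Option ι₀) A ⧸ Kx A x, inferInstance, inferInstance, hfp,
    IsScalarTower.toAlgHom R A _, h'A.restrictScalars R, ?_, ?_⟩
  · refine AlgHom.ext (fun a => ?_)
    show h'A (algebraMap A _ a) = algebraMap A Λ a
    exact h'A.commutes a
  · haveI hloc : IsLocalRing Λq := IsLocalization.AtPrime.isLocalRing Λq 𝔮
    have hunit : IsUnit (algebraMap Λ Λq (v none)) :=
      IsLocalization.map_units Λq (⟨v none, hvn⟩ : 𝔮.primeCompl)
    obtain ⟨u, hu⟩ := hunit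
    obtain ⟨hL, hLdef⟩ : ∃ hL : B[T;T⁻¹] →+* Λq, hL = LaurentPolynomial.eval₂ h.toRingHom u :=
      ⟨_, rfl⟩
    have hcomm : ∀ c : MvPolynomial (Option ι₀) A ⧸ Kx A x,
        algebraMap Λ Λq (h'A c) = hL (p2' x c) := by
      intro c
      obtain ⟨F, rfl⟩ := Ideal.Quotient.mk_surjective c
      rw [hh'A, p2'_mk, hLdef]
      exact ev_comm x h v u hu hvs F
    intro hle
    have hle' : Smoothing.singularIdeal R (MvPolynomial (Option ι₀) A ⧸ Kx A x) ≤
        Ideal.comap (h'A.restrictScalars R) 𝔮 := Ideal.map_le_iff_le_comap.mp hle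
    haveI hPprime : (Ideal.comap (h'A.restrictScalars R) 𝔮).IsPrime := Ideal.IsPrime.comap _
    have hsm : Algebra.IsSmoothAt R (Ideal.comap (h'A.restrictScalars R) 𝔮) := by
      letI algCL : Algebra (MvPolynomial (Option ι₀) A ⧸ Kx A x) B[T;T⁻¹] :=
        (p2' x).toRingHom.toAlgebra
      let M : Submonoid (MvPolynomial (Option ι₀) A ⧸ Kx A x) :=
        { carrier := {c | IsUnit (p2' x c)}
          mul_mem' := fun {a b} ha hb => by
            show IsUnit (p2' x (a * b))
            rw [map_mul]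
            exact ha.mul hb
          one_mem' := by
            show IsUnit (p2' x 1)
            rw [map_one]
            exact isUnit_one }
      haveI hMloc : IsLocalization M B[T;T⁻¹] :=
        { map_units := by
            rintro ⟨c, hc⟩
            exact hc
          surj := by
            intro z
            obtain ⟨F, G, hG, e⟩ := good_top (A := A) S x hx z
            exact ⟨(Ideal.Quotient.mk _ F, ⟨Ideal.Quotient.mk _ G, hG⟩), e⟩
          exists_of_eq := by
            intro c c' hcc'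
            obtain ⟨F, rfl⟩ := Ideal.Quotient.mk_surjective c
            obtain ⟨F', rfl⟩ := Ideal.Quotient.mk_surjective c'
            have hFF' : pi2 x F = pi2 x F' := hcc'
            refine ⟨⟨Ideal.Quotient.mk _ (MvPolynomial.X none), ?_⟩, ?_⟩
            · show IsUnit (pi2 x (MvPolynomial.X none))
              rw [pi2_X_none]
              exact LaurentPolynomial.isUnit_T 1
            · show Ideal.Quotient.mk (Kx A x) (MvPolynomial.X none) * Ideal.Quotient.mk _ F =
                Ideal.Quotient.mk _ (MvPolynomial.X none) * Ideal.Quotient.mk _ F'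
              rw [← map_mul, ← map_mul, Ideal.Quotient.eq, mem_Kx, map_sub, piP_X_none_mul,
                piP_X_none_mul, hFF', sub_self] }
      obtain ⟨PL, hPLdef⟩ : ∃ PL : Ideal B[T;T⁻¹],
          PL = Ideal.comap hL (IsLocalRing.maximalIdeal Λq) := ⟨_, rfl⟩
      haveI hPL : PL.IsPrime := by
        rw [hPLdef]
        exact Ideal.IsPrime.comap _
      haveI hAt : IsLocalization.AtPrime (Localization.AtPrime PL)
          (PL.comap (algebraMap (MvPolynomial (Option ι₀) A ⧸ Kx A x) B[T;T⁻¹])) :=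
        IsLocalization.isLocalization_isLocalization_atPrime_isLocalization M
          (Localization.AtPrime PL) PL
      have hPeq : PL.comap (algebraMap (MvPolynomial (Option ι₀) A ⧸ Kx A x) B[T;T⁻¹]) =
          Ideal.comap (h'A.restrictScalars R) 𝔮 := by
        ext c
        rw [Ideal.mem_comap, Ideal.mem_comap, hPLdef, Ideal.mem_comap]
        show hL (p2' x c) ∈ IsLocalRing.maximalIdeal Λq ↔ h'A c ∈ 𝔮
        rw [← hcomm c]
        exact IsLocalization.AtPrime.to_map_mem_maximal_iff Λq 𝔮 (h'A c)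
      haveI fs1 : Algebra.FormallySmooth R Rₚ := Algebra.FormallySmooth.of_isLocalization S
      haveI fs2 : Algebra.FormallySmooth R B := Algebra.FormallySmooth.comp R Rₚ B
      haveI tw : IsScalarTower B B[X] B[T;T⁻¹] :=
        IsScalarTower.of_algebraMap_eq (fun b => (Polynomial.toLaurent_C b).symm)
      haveI fs3 : Algebra.FormallySmooth B[X] B[T;T⁻¹] :=
        Algebra.FormallySmooth.of_isLocalization (Submonoid.powers (Polynomial.X : B[X]))
      haveI fs4 : Algebra.FormallySmooth B B[T;T⁻¹] := Algebra.FormallySmooth.comp B B[X] B[T;T⁻¹]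
      haveI fs5 : Algebra.FormallySmooth R B[T;T⁻¹] := Algebra.FormallySmooth.comp R B B[T;T⁻¹]
      haveI fs6 : Algebra.FormallySmooth B[T;T⁻¹] (Localization.AtPrime PL) :=
        Algebra.FormallySmooth.of_isLocalization PL.primeCompl
      haveI fs7 : Algebra.FormallySmooth R (Localization.AtPrime PL) :=
        Algebra.FormallySmooth.comp R B[T;T⁻¹] (Localization.AtPrime PL)
      haveI twRCL : IsScalarTower R (MvPolynomial (Option ι₀) A ⧸ Kx A x) B[T;T⁻¹] :=
        IsScalarTower.of_algebraMap_eq (fun r => by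
          show algebraMap R B[T;T⁻¹] r =
            p2' x (algebraMap R (MvPolynomial (Option ι₀) A ⧸ Kx A x) r)
          rw [IsScalarTower.algebraMap_apply R A (MvPolynomial (Option ι₀) A ⧸ Kx A x),
            AlgHom.commutes, ← IsScalarTower.algebraMap_apply R A B[T;T⁻¹]])
      haveI twRCT : IsScalarTower R (MvPolynomial (Option ι₀) A ⧸ Kx A x)
          (Localization.AtPrime PL) := inferInstance
      haveI hP'prime : (PL.comap (algebraMap (MvPolynomial (Option ι₀) A ⧸ Kx A x)
          B[T;T⁻¹])).IsPrime := Ideal.IsPrime.comap _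
      have e : Localization.AtPrime PL ≃ₐ[MvPolynomial (Option ι₀) A ⧸ Kx A x]
          Localization.AtPrime (PL.comap (algebraMap (MvPolynomial (Option ι₀) A ⧸ Kx A x)
            B[T;T⁻¹])) :=
        IsLocalization.algEquiv (PL.comap (algebraMap (MvPolynomial (Option ι₀) A ⧸ Kx A x)
            B[T;T⁻¹])).primeCompl _ _
      haveI hfsP : Algebra.FormallySmooth R (Localization.AtPrime
          (PL.comap (algebraMap (MvPolynomial (Option ι₀) A ⧸ Kx A x) B[T;T⁻¹]))) :=
        Algebra.FormallySmooth.of_equiv (e.restrictScalars R)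
      have hsm' : Algebra.IsSmoothAt R
          (PL.comap (algebraMap (MvPolynomial (Option ι₀) A ⧸ Kx A x) B[T;T⁻¹])) := hfsP
      exact isSmoothAt_congr' _ _ hPeq hsm'
    have hcl : IsClosed (Algebra.smoothLocus R (MvPolynomial (Option ι₀) A ⧸ Kx A x))ᶜ :=
      Algebra.isOpen_smoothLocus.isClosed_compl
    have hmem : (⟨Ideal.comap (h'A.restrictScalars R) 𝔮, hPprime⟩ :
        PrimeSpectrum (MvPolynomial (Option ι₀) A ⧸ Kx A x)) ∈
        PrimeSpectrum.zeroLocus ((PrimeSpectrum.vanishingIdeal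
          (Algebra.smoothLocus R (MvPolynomial (Option ι₀) A ⧸ Kx A x))ᶜ :
            Ideal (MvPolynomial (Option ι₀) A ⧸ Kx A x)) :
              Set (MvPolynomial (Option ι₀) A ⧸ Kx A x)) := by
      rw [PrimeSpectrum.mem_zeroLocus]
      exact hle'
    rw [PrimeSpectrum.zeroLocus_vanishingIdeal_eq_closure, hcl.closure_eq] at hmem
    exact hmem hsm

theorem deloc (S : Submonoid R) [IsLocalization S Rₚ] (𝔮 : Ideal Λ) [𝔮.IsPrime]
    [IsLocalization.AtPrime Λq 𝔮] (h : B →ₐ[A] Λq) :
    ∃ (C : Type u) (_ : CommRing C) (_ : Algebra R C), Algebra.FinitePresentation R C ∧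
      ∃ (g' : A →ₐ[R] C) (h' : C →ₐ[R] Λ), h'.comp g' = IsScalarTower.toAlgHom R A Λ ∧
        ¬ (Smoothing.singularIdeal R C).map h' ≤ 𝔮 := by
  classical
  haveI hAN : IsNoetherianRing A := Algebra.FiniteType.isNoetherianRing R A
  obtain ⟨s, hs⟩ := (Algebra.FiniteType.out : (⊤ : Subalgebra Rₚ B).FG)
  have hx : Algebra.adjoin Rₚ (Set.range (Subtype.val : {b // b ∈ s} → B)) = ⊤ := by
    rw [Subtype.range_coe_subtype]
    exact hs
  obtain ⟨v, hvn, hvs, hvker⟩ := exists_ev (A := A) 𝔮 (Subtype.val : {b // b ∈ s} → B) h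
  exact deloc_core S 𝔮 h Subtype.val hx v hvn hvs hvker

end Core

section Main

/-- From a resolution of the localized problem, find a smooth `R_𝔭`-algebra `B₁` through which the
localized map factors. -/
theorem main2033 {R A Λ Rₚ Λq : Type u} [CommRing R] [IsNoetherianRing R] [CommRing A]
    [Algebra R A] [Algebra.FinitePresentation R A] [CommRing Λ] [Algebra R Λ] (φ : A →ₐ[R] Λ)
    (𝔮 : Ideal Λ) [𝔮.IsPrime]
    [CommRing Rₚ] [Algebra R Rₚ] [IsLocalization.AtPrime Rₚ (𝔮.comap (algebraMap R Λ))]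
    [CommRing Λq] [Algebra Λ Λq] [IsLocalization.AtPrime Λq 𝔮] [Algebra R Λq] [IsScalarTower R Λ Λq]
    [Algebra Rₚ Λq] [IsScalarTower R Rₚ Λq]
    (hres : Smoothing.Resolvable Rₚ
      (Algebra.TensorProduct.lift (Algebra.ofId Rₚ Λq) ((IsScalarTower.toAlgHom R Λ Λq).comp φ)
        (fun _ _ => Commute.all _ _) : Rₚ ⊗[R] A →ₐ[Rₚ] Λq) (𝔮.map (algebraMap Λ Λq))) :
    ∃ (C : Type u) (_ : CommRing C) (_ : Algebra R C), Algebra.FinitePresentation R C ∧
      ∃ (g : A →ₐ[R] C) (h : C →ₐ[R] Λ), h.comp g = φ ∧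
        ¬ (Smoothing.singularIdeal R C).map h ≤ 𝔮 := by
  classical
  obtain ⟨B, _, _, hBfp, g, h, hgh, -, hns⟩ := hres
  haveI := hBfp
  haveI hloc : IsLocalRing Λq := IsLocalization.AtPrime.isLocalRing Λq 𝔮
  have hmax : 𝔮.map (algebraMap Λ Λq) = IsLocalRing.maximalIdeal Λq :=
    IsLocalization.AtPrime.map_eq_maximalIdeal 𝔮 Λq
  rw [hmax] at hns
  have h1 : ¬ (Smoothing.singularIdeal Rₚ B).map h ≤ IsLocalRing.maximalIdeal Λq := by
    intro hle
    apply hns
    unfold Smoothing.singRad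
    exact (Ideal.IsPrime.radical_le_iff (IsLocalRing.maximalIdeal.isMaximal Λq).isPrime).mpr hle
  rw [Ideal.map_le_iff_le_comap] at h1
  obtain ⟨b, hb, hbn⟩ := SetLike.not_le_iff_exists.mp h1
  haveI h𝔯 : (Ideal.comap h (IsLocalRing.maximalIdeal Λq)).IsPrime := Ideal.IsPrime.comap _
  have hsm : Algebra.IsSmoothAt Rₚ (Ideal.comap h (IsLocalRing.maximalIdeal Λq)) := by
    by_contra hcon
    unfold Smoothing.singularIdeal at hb
    rw [PrimeSpectrum.mem_vanishingIdeal] at hb
    exact hbn (hb ⟨Ideal.comap h (IsLocalRing.maximalIdeal Λq), h𝔯⟩ hcon)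
  haveI := hsm
  obtain ⟨f, hf, hfsm⟩ := Algebra.IsSmoothAt.exists_notMem_smooth Rₚ
    (Ideal.comap h (IsLocalRing.maximalIdeal Λq))
  haveI := hfsm
  have hfu : IsUnit (h f) := by
    by_contra hcon
    exact hf (show h f ∈ IsLocalRing.maximalIdeal Λq from
      (IsLocalRing.mem_maximalIdeal _).mpr (mem_nonunits_iff.mpr hcon))
  letI aRB₁ : Algebra R (Localization.Away f) :=
    Algebra.compHom (Localization.Away f) (algebraMap R Rₚ)
  haveI tw1 : IsScalarTower R Rₚ (Localization.Away f) :=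
    IsScalarTower.of_algebraMap_eq (fun _ => rfl)
  letI aAB₁ : Algebra A (Localization.Away f) :=
    ((algebraMap B (Localization.Away f)).comp (g.toRingHom.comp
      (Algebra.TensorProduct.includeRight : A →ₐ[R] Rₚ ⊗[R] A).toRingHom)).toAlgebra
  haveI tw2 : IsScalarTower R A (Localization.Away f) := by
    refine IsScalarTower.of_algebraMap_eq (fun r => ?_)
    show algebraMap Rₚ (Localization.Away f) (algebraMap R Rₚ r) =
      algebraMap B (Localization.Away f)
        (g ((Algebra.TensorProduct.includeRight : A →ₐ[R] Rₚ ⊗[R] A) (algebraMap R A r)))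
    rw [AlgHom.commutes, IsScalarTower.algebraMap_apply R Rₚ (Rₚ ⊗[R] A), AlgHom.commutes,
      ← IsScalarTower.algebraMap_apply Rₚ B (Localization.Away f)]
  letI aAΛ : Algebra A Λ := φ.toRingHom.toAlgebra
  haveI tw3 : IsScalarTower R A Λ :=
    IsScalarTower.of_algebraMap_eq (fun r => (φ.commutes r).symm)
  letI aAΛq : Algebra A Λq := ((algebraMap Λ Λq).comp φ.toRingHom).toAlgebra
  haveI tw4 : IsScalarTower A Λ Λq := IsScalarTower.of_algebraMap_eq (fun _ => rfl)
  have hunits : ∀ y : Submonoid.powers f, IsUnit (h.toRingHom y) := by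
    rintro ⟨_, n, rfl⟩
    show IsUnit (h (f ^ n))
    rw [map_pow]
    exact hfu.pow n
  obtain ⟨h₁r, hh₁r⟩ : ∃ h₁r : Localization.Away f →+* Λq,
      ∀ b : B, h₁r (algebraMap B (Localization.Away f) b) = h b :=
    ⟨IsLocalization.lift hunits, fun b => IsLocalization.lift_eq hunits b⟩
  have hcommA : ∀ a : A, h₁r (algebraMap A (Localization.Away f) a) = algebraMap A Λq a := by
    intro a
    show h₁r (algebraMap B (Localization.Away f)
      (g ((Algebra.TensorProduct.includeRight : A →ₐ[R] Rₚ ⊗[R] A) a))) = algebraMap Λ Λq (φ a)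
    rw [hh₁r]
    have h3 := AlgHom.congr_fun hgh ((Algebra.TensorProduct.includeRight : A →ₐ[R] Rₚ ⊗[R] A) a)
    rw [AlgHom.comp_apply] at h3
    rw [h3, Algebra.TensorProduct.includeRight_apply, Algebra.TensorProduct.lift_tmul, map_one,
      one_mul]
    rfl
  obtain ⟨h₁, hh₁⟩ : ∃ h₁ : Localization.Away f →ₐ[A] Λq, ∀ z, h₁ z = h₁r z :=
    ⟨{ h₁r with commutes' := hcommA }, fun _ => rfl⟩
  obtain ⟨C, iC, aC, hfpC, g', h', hcomp, hC⟩ := deloc (R := R) (Rₚ := Rₚ) (A := A)
    (B := Localization.Away f) (Λ := Λ) (Λq := Λq) (𝔮.comap (algebraMap R Λ)).primeCompl 𝔮 h₁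
  refine ⟨C, iC, aC, hfpC, g', h', ?_, hC⟩
  rw [hcomp]
  exact AlgHom.ext (fun a => rfl)

end Main

end Groth.Agent.Lib.DelocH4
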