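import Mathlib
import Groth.Prelude.Def_Smoothing
import Groth.Agent.Lib.LiftLemma_helper4
import Groth.Agent.Lib.DesingLemma_helper4

/-!
Helper library (helper4): charts and polynomial identities for the lifting lemma
(`C` over `R/π²` lifts to `D` over `R`, Stacks "Smoothing ring maps").  APPEND-ONLY once landed.
-/

set_option autoImplicit false
set_option linter.unusedVariables false
set_option linter.unusedTactic false
set_option linter.unreachableTactic false
set_option linter.unusedSectionVars false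
set_option linter.style.haveILetI false
set_option maxHeartbeats 800000

universe u

namespace Groth.Agent.Lib.LiftChartH4

open MvPolynomial

section Defs

variable {R : Type u} [CommRing R] {n m : ℕ}

/-- A chart: a set `S` of relations with a chosen column for each, an element `a` which is a
multiple of the corresponding Jacobian minor modulo the relations, and an exact expression of
`a f_ℓ` through the relations in `S` modulo `π ^ 2`. -/
structure Chart (f : Fin m → MvPolynomial (Fin n) R) (π : R) where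
  S : Finset (Fin m)
  κ : {ℓ // ℓ ∈ S} → Fin n
  a : MvPolynomial (Fin n) R
  a' : MvPolynomial (Fin n) R
  H : Fin m → Fin m → MvPolynomial (Fin n) R
  g : Fin m → MvPolynomial (Fin n) R
  hHS : ∀ ℓ j, j ∉ S → H ℓ j = 0
  hHdiag : ∀ ℓ, ℓ ∈ S → ∀ j, H ℓ j = if ℓ = j then a else 0
  hg : ∀ ℓ, ℓ ∈ S → g ℓ = 0
  h4 : ∀ ℓ, a * f ℓ = ∑ j, H ℓ j * f j + C (π ^ 2) * g ℓ
  hΔ : a - a' * Matrix.det (Matrix.of fun (j j' : {ℓ // ℓ ∈ S}) => pderiv (κ j') (f j.1)) ∈
    Ideal.span (Set.range f)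

variable (f : Fin m → MvPolynomial (Fin n) R) (π : R)

/-- inclusion of the `x`-variables -/
noncomputable def ι (m : ℕ) : MvPolynomial (Fin n) R →ₐ[R] MvPolynomial (Fin (n + m)) R :=
  rename (Fin.castAdd m)

/-- the `z`-variables -/
noncomputable def Z (ℓ : Fin m) : MvPolynomial (Fin (n + m)) R := X (Fin.natAdd n ℓ)

/-- the relations `f_ℓ - π z_ℓ` -/
noncomputable def F (ℓ : Fin m) : MvPolynomial (Fin (n + m)) R := ι m (f ℓ) - C π * Z ℓ

/-- the relations `p_{k,ℓ}` -/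
noncomputable def pp (ch : Chart f π) (ℓ : Fin m) : MvPolynomial (Fin (n + m)) R :=
  ι m ch.a * Z ℓ - ∑ j, ι m (ch.H ℓ j) * Z j - C π * ι m (ch.g ℓ)

/-- the leading relations of a chart -/
noncomputable def lead (ch : Chart f π) (ℓ : Fin m) : MvPolynomial (Fin (n + m)) R :=
  if ℓ ∈ ch.S then F f π ℓ else pp f π ch ℓ

/-- the ideal `(π) + (leading relations)` -/
noncomputable def NN (ch : Chart f π) : Ideal (MvPolynomial (Fin (n + m)) R) :=
  Ideal.span {C π} ⊔ Ideal.span (Set.range (lead f π ch))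

theorem ι_C (r : R) : ι m (C r : MvPolynomial (Fin n) R) = C r := rename_C _ r

theorem ι_X (i : Fin n) : ι m (X i : MvPolynomial (Fin n) R) = X (Fin.castAdd m i) :=
  rename_X _ i

theorem ι_h4 (ch : Chart f π) (ℓ : Fin m) :
    ι m ch.a * ι m (f ℓ) =
      ∑ j, ι m (ch.H ℓ j) * ι m (f j) + C π ^ 2 * ι m (ch.g ℓ) := by
  have h := congrArg (ι m) (ch.h4 ℓ)
  rw [map_mul, map_add, map_sum, map_mul, ι_C, map_pow] at h
  have e0 : ∀ j, ι m (ch.H ℓ j * f j) = ι m (ch.H ℓ j) * ι m (f j) := fun j => map_mul _ _ _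
  rw [Finset.sum_congr rfl (fun j _ => e0 j)] at h
  exact h

theorem key_id (ch : Chart f π) (ℓ : Fin m) :
    C π * pp f π ch ℓ = -(ι m ch.a) * F f π ℓ + ∑ j, ι m (ch.H ℓ j) * F f π j := by
  have h := ι_h4 f π ch ℓ
  have e1 : ∑ j, ι m (ch.H ℓ j) * F f π j =
      ∑ j, ι m (ch.H ℓ j) * ι m (f j) - C π * ∑ j, ι m (ch.H ℓ j) * Z j := by
    rw [Finset.mul_sum, ← Finset.sum_sub_distrib]
    apply Finset.sum_congr rfl
    intro j _
    unfold F
    ring
  rw [e1]
  unfold pp F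
  linear_combination h

theorem pp_of_mem (ch : Chart f π) (ℓ : Fin m) (hℓ : ℓ ∈ ch.S) : pp f π ch ℓ = 0 := by
  unfold pp
  have e1 : ∑ j, ι m (ch.H ℓ j) * (Z j : MvPolynomial (Fin (n + m)) R) =
      ι m ch.a * (Z ℓ : MvPolynomial (Fin (n + m)) R) := by
    have e2 : ∀ j, ι m (ch.H ℓ j) * (Z j : MvPolynomial (Fin (n + m)) R) =
        if ℓ = j then ι m ch.a * Z j else 0 := by
      intro j
      rw [ch.hHdiag ℓ hℓ j]
      split_ifs with h
      · rfl
      · rw [map_zero, zero_mul]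
    rw [Finset.sum_congr rfl (fun j _ => e2 j),
      Finset.sum_ite_eq Finset.univ ℓ (fun j => ι m ch.a * Z j), if_pos (Finset.mem_univ ℓ)]
  rw [e1, ch.hg ℓ hℓ, map_zero, mul_zero, sub_self, sub_zero]

theorem F_mem_lead (ch : Chart f π) (j : Fin m) (hj : j ∈ ch.S) :
    F f π j ∈ Ideal.span (Set.range (lead f π ch)) := by
  have h : lead f π ch j = F f π j := if_pos hj
  rw [← h]
  exact Ideal.subset_span ⟨j, rfl⟩

theorem pp_mem_lead (ch : Chart f π) (ℓ : Fin m) :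
    pp f π ch ℓ ∈ Ideal.span (Set.range (lead f π ch)) := by
  by_cases h : ℓ ∈ ch.S
  · rw [pp_of_mem f π ch ℓ h]
    exact Ideal.zero_mem _
  · have h2 : lead f π ch ℓ = pp f π ch ℓ := if_neg h
    rw [← h2]
    exact Ideal.subset_span ⟨ℓ, rfl⟩

theorem a_mul_F_mem (ch : Chart f π) (ℓ : Fin m) :
    ι m ch.a * F f π ℓ ∈ Ideal.span (Set.range (lead f π ch)) := by
  have h := key_id f π ch ℓ
  have e : ι m ch.a * F f π ℓ = ∑ j, ι m (ch.H ℓ j) * F f π j - C π * pp f π ch ℓ := by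
    linear_combination h
  rw [e]
  refine Ideal.sub_mem _ (Ideal.sum_mem _ (fun j _ => ?_))
    (Ideal.mul_mem_left _ _ (pp_mem_lead f π ch ℓ))
  by_cases hj : j ∈ ch.S
  · exact Ideal.mul_mem_left _ _ (F_mem_lead f π ch j hj)
  · rw [ch.hHS ℓ j hj, map_zero, zero_mul]
    exact Ideal.zero_mem _

theorem Cπ_mem_NN (ch : Chart f π) : (C π : MvPolynomial (Fin (n + m)) R) ∈ NN f π ch :=
  Ideal.mem_sup_left (Ideal.subset_span (Set.mem_singleton _))

theorem lead_le_NN (ch : Chart f π) : Ideal.span (Set.range (lead f π ch)) ≤ NN f π ch :=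
  le_sup_right

theorem N1 (ch : Chart f π) (j : Fin m) (hj : j ∈ ch.S) : ι m (f j) ∈ NN f π ch := by
  have e : ι m (f j) = F f π j + C π * Z j := by
    unfold F
    ring
  rw [e]
  exact Ideal.add_mem _ (lead_le_NN f π ch (F_mem_lead f π ch j hj))
    (Ideal.mul_mem_right _ _ (Cπ_mem_NN f π ch))

theorem N2 (ch : Chart f π) (ℓ : Fin m) :
    ι m ch.a * Z ℓ - ∑ j, ι m (ch.H ℓ j) * Z j ∈ NN f π ch := by
  have e : ι m ch.a * Z ℓ - ∑ j, ι m (ch.H ℓ j) * Z j =
      pp f π ch ℓ + C π * ι m (ch.g ℓ) := by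
    unfold pp
    ring
  rw [e]
  exact Ideal.add_mem _ (lead_le_NN f π ch (pp_mem_lead f π ch ℓ))
    (Ideal.mul_mem_right _ _ (Cπ_mem_NN f π ch))

theorem N3 (ch : Chart f π) (ℓ : Fin m) : ι m ch.a * ι m (f ℓ) ∈ NN f π ch := by
  rw [ι_h4 f π ch ℓ]
  refine Ideal.add_mem _ (Ideal.sum_mem _ (fun j _ => ?_)) ?_
  · by_cases hj : j ∈ ch.S
    · exact Ideal.mul_mem_left _ _ (N1 f π ch j hj)
    · rw [ch.hHS ℓ j hj, map_zero, zero_mul]
      exact Ideal.zero_mem _
  · rw [pow_two, mul_assoc]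
    exact Ideal.mul_mem_right _ _ (Cπ_mem_NN f π ch)

theorem N4 (ch : Chart f π) (x : MvPolynomial (Fin n) R) (hx : x ∈ Ideal.span (Set.range f)) :
    ι m ch.a * ι m x ∈ NN f π ch := by
  refine Submodule.span_induction (p := fun x _ => ι m ch.a * ι m x ∈ NN f π ch)
    ?_ ?_ ?_ ?_ hx
  · rintro _ ⟨ℓ, rfl⟩
    exact N3 f π ch ℓ
  · rw [map_zero, mul_zero]
    exact Ideal.zero_mem _
  · intro x y _ _ hx hy
    rw [map_add, mul_add]
    exact Ideal.add_mem _ hx hy
  · intro c x _ hx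
    rw [smul_eq_mul, map_mul, mul_left_comm]
    exact Ideal.mul_mem_left _ _ hx

/-- the comparison matrix of two charts -/
noncomputable def W (ch ch' : Chart f π) (ℓ j : Fin m) : MvPolynomial (Fin n) R :=
  ch'.a * ch.H ℓ j - ∑ j', ch'.H ℓ j' * ch.H j' j

theorem W_of_notMem (ch ch' : Chart f π) (ℓ j : Fin m) (hj : j ∉ ch.S) :
    W f π ch ch' ℓ j = 0 := by
  unfold W
  rw [ch.hHS ℓ j hj, mul_zero, zero_sub, neg_eq_zero]
  apply Finset.sum_eq_zero
  intro j' _
  rw [ch.hHS j' j hj, mul_zero]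

/-- auxiliary polynomial -/
noncomputable def vv (ch ch' : Chart f π) (ℓ : Fin m) : MvPolynomial (Fin n) R :=
  ch.a * ch'.g ℓ - ch'.a * ch.g ℓ + ∑ j', ch'.H ℓ j' * ch.g j'

theorem W_sum (ch ch' : Chart f π) (ℓ : Fin m) :
    ∑ j, W f π ch ch' ℓ j * f j = C (π ^ 2) * vv f π ch ch' ℓ := by
  have hA := ch.h4 ℓ
  have hB := ch'.h4 ℓ
  have hC : ∀ j', ∑ j, ch.H j' j * f j = ch.a * f j' - C (π ^ 2) * ch.g j' := by
    intro j'
    have h := ch.h4 j'
    linear_combination (-1 : MvPolynomial (Fin n) R) * h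
  have e1 : ∑ j, W f π ch ch' ℓ j * f j =
      ch'.a * ∑ j, ch.H ℓ j * f j - ∑ j', ch'.H ℓ j' * ∑ j, ch.H j' j * f j := by
    have e2 : ∀ j, W f π ch ch' ℓ j * f j =
        ch'.a * (ch.H ℓ j * f j) - ∑ j', ch'.H ℓ j' * (ch.H j' j * f j) := by
      intro j
      unfold W
      rw [sub_mul, Finset.sum_mul]
      congr 1
      · ring
      · apply Finset.sum_congr rfl
        intro j' _
        ring
    rw [Finset.sum_congr rfl (fun j _ => e2 j), Finset.sum_sub_distrib, ← Finset.mul_sum,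
      Finset.sum_comm]
    congr 1
    apply Finset.sum_congr rfl
    intro j' _
    rw [Finset.mul_sum]
  have e3 : ∑ j', ch'.H ℓ j' * ∑ j, ch.H j' j * f j =
      ch.a * ∑ j', ch'.H ℓ j' * f j' - C (π ^ 2) * ∑ j', ch'.H ℓ j' * ch.g j' := by
    rw [Finset.mul_sum, Finset.mul_sum, ← Finset.sum_sub_distrib]
    apply Finset.sum_congr rfl
    intro j' _
    rw [hC j']
    ring
  rw [e1, e3]
  unfold vv
  linear_combination (-ch'.a) * hA + ch.a * hB

theorem W_jac (ch ch' : Chart f π) (ℓ : Fin m) (s' : {ℓ // ℓ ∈ ch.S}) :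
    ∑ j, W f π ch ch' ℓ j * pderiv (ch.κ s') (f j) ∈
      Ideal.span {(C π : MvPolynomial (Fin n) R)} ⊔ Ideal.span (f '' (ch.S : Set (Fin m))) := by
  have h := congrArg (pderiv (ch.κ s')) (W_sum f π ch ch' ℓ)
  rw [map_sum, pderiv_C_mul] at h
  have e1 : ∀ j, pderiv (ch.κ s') (W f π ch ch' ℓ j * f j) =
      pderiv (ch.κ s') (W f π ch ch' ℓ j) * f j +
        W f π ch ch' ℓ j * pderiv (ch.κ s') (f j) := fun j => pderiv_mul
  rw [Finset.sum_congr rfl (fun j _ => e1 j), Finset.sum_add_distrib] at h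
  have e2 : ∑ j, W f π ch ch' ℓ j * pderiv (ch.κ s') (f j) =
      C (π ^ 2) * pderiv (ch.κ s') (vv f π ch ch' ℓ) -
        ∑ j, pderiv (ch.κ s') (W f π ch ch' ℓ j) * f j := by
    linear_combination h
  rw [e2]
  refine Ideal.sub_mem _ (Ideal.mem_sup_left ?_) (Ideal.sum_mem _ (fun j _ => ?_))
  · rw [map_pow, pow_two, mul_assoc]
    exact Ideal.mul_mem_right _ _ (Ideal.subset_span (Set.mem_singleton _))
  · by_cases hj : j ∈ ch.S
    · exact Ideal.mem_sup_right (Ideal.mul_mem_left _ _ (Ideal.subset_span ⟨j, hj, rfl⟩))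
    · rw [W_of_notMem f π ch ch' ℓ j hj, map_zero, zero_mul]
      exact Ideal.zero_mem _

theorem det_mul_W (ch ch' : Chart f π) (ℓ : Fin m) (s : {ℓ // ℓ ∈ ch.S}) :
    Matrix.det (Matrix.of fun (j j' : {ℓ // ℓ ∈ ch.S}) => pderiv (ch.κ j') (f j.1)) *
      W f π ch ch' ℓ s.1 ∈
      Ideal.span {(C π : MvPolynomial (Fin n) R)} ⊔ Ideal.span (f '' (ch.S : Set (Fin m))) := by
  classical
  obtain ⟨Jac, hJac⟩ : ∃ Jac : Matrix {ℓ // ℓ ∈ ch.S} {ℓ // ℓ ∈ ch.S} (MvPolynomial (Fin n) R),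
      Jac = Matrix.of fun (j j' : {ℓ // ℓ ∈ ch.S}) => pderiv (ch.κ j') (f j.1) := ⟨_, rfl⟩
  rw [← hJac]
  obtain ⟨w, hw⟩ : ∃ w : {ℓ // ℓ ∈ ch.S} → MvPolynomial (Fin n) R,
      ∀ t, w t = W f π ch ch' ℓ t.1 := ⟨fun t => W f π ch ch' ℓ t.1, fun _ => rfl⟩
  have h1 : ∀ s', Matrix.vecMul w Jac s' ∈
      Ideal.span {(C π : MvPolynomial (Fin n) R)} ⊔ Ideal.span (f '' (ch.S : Set (Fin m))) := by
    intro s'
    have h2 := W_jac f π ch ch' ℓ s'
    have e : ∑ j, W f π ch ch' ℓ j * pderiv (ch.κ s') (f j) = Matrix.vecMul w Jac s' := by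
      have e3 : Matrix.vecMul w Jac s' =
          ∑ t : {ℓ // ℓ ∈ ch.S}, W f π ch ch' ℓ t.1 * pderiv (ch.κ s') (f t.1) := by
        show ∑ t, w t * Jac t s' = _
        apply Finset.sum_congr rfl
        intro t _
        rw [hw t, hJac]
        rfl
      rw [e3, Finset.sum_coe_sort ch.S (fun j => W f π ch ch' ℓ j * pderiv (ch.κ s') (f j))]
      symm
      apply Finset.sum_subset (Finset.subset_univ _)
      intro j _ hj
      rw [W_of_notMem f π ch ch' ℓ j hj, zero_mul]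
    rw [← e]
    exact h2
  have key : Matrix.vecMul (Matrix.vecMul w Jac) (Matrix.adjugate Jac) = Jac.det • w := by
    rw [Matrix.vecMul_vecMul, Matrix.mul_adjugate, Matrix.vecMul_smul, Matrix.vecMul_one]
  have h3 := congrFun key s
  rw [Pi.smul_apply, smul_eq_mul, hw s] at h3
  rw [← h3]
  show ∑ t, Matrix.vecMul w Jac t * Matrix.adjugate Jac t s ∈ _
  exact Ideal.sum_mem _ (fun t _ => Ideal.mul_mem_right _ _ (h1 t))

theorem ι_aa_mem (ch : Chart f π) (x : MvPolynomial (Fin n) R)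
    (hx : x ∈ Ideal.span {(C π : MvPolynomial (Fin n) R)} ⊔
      Ideal.span (f '' (ch.S : Set (Fin m)))) : ι m x ∈ NN f π ch := by
  have h : Ideal.span {(C π : MvPolynomial (Fin n) R)} ⊔
      Ideal.span (f '' (ch.S : Set (Fin m))) ≤ (NN f π ch).comap (ι m) := by
    refine sup_le ?_ ?_
    · rw [Ideal.span_le]
      intro y hy
      rw [Set.mem_singleton_iff] at hy
      rw [hy]
      show ι m (C π) ∈ NN f π ch
      rw [ι_C]
      exact Cπ_mem_NN f π ch
    · rw [Ideal.span_le]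
      rintro _ ⟨j, hj, rfl⟩
      exact N1 f π ch j hj
  exact h hx

theorem a_sq_W_mem (ch ch' : Chart f π) (ℓ j : Fin m) :
    ι m ch.a ^ 2 * ι m (W f π ch ch' ℓ j) ∈ NN f π ch := by
  by_cases hj : j ∈ ch.S
  · have h1 := ι_aa_mem f π ch _ (det_mul_W f π ch ch' ℓ ⟨j, hj⟩)
    have h2 := N4 f π ch _ ch.hΔ
    rw [map_mul] at h1
    have e : ι m ch.a ^ 2 * ι m (W f π ch ch' ℓ j) =
        ι m ch.a * ι m ch.a' *
          (ι m (Matrix.det (Matrix.of fun (j j' : {ℓ // ℓ ∈ ch.S}) =>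
            pderiv (ch.κ j') (f j.1))) * ι m (W f π ch ch' ℓ j)) +
        ι m (W f π ch ch' ℓ j) *
          (ι m ch.a * ι m (ch.a - ch.a' * Matrix.det (Matrix.of
            fun (j j' : {ℓ // ℓ ∈ ch.S}) => pderiv (ch.κ j') (f j.1)))) := by
      rw [map_sub, map_mul]
      ring
    rw [e]
    exact Ideal.add_mem _ (Ideal.mul_mem_left _ _ h1) (Ideal.mul_mem_left _ _ h2)
  · rw [W_of_notMem f π ch ch' ℓ j hj, map_zero, mul_zero]
    exact Ideal.zero_mem _

theorem a_cube_pp_mem (ch ch' : Chart f π) (ℓ : Fin m) :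
    ι m ch.a ^ 3 * pp f π ch' ℓ ∈ NN f π ch := by
  have eW : ∀ j, ι m (W f π ch ch' ℓ j) =
      ι m ch'.a * ι m (ch.H ℓ j) - ∑ j', ι m (ch'.H ℓ j') * ι m (ch.H j' j) := by
    intro j
    unfold W
    rw [map_sub, map_mul, map_sum]
    congr 1
    apply Finset.sum_congr rfl
    intro j' _
    rw [map_mul]
  have e1 : ∑ j, ι m (W f π ch ch' ℓ j) * (Z j : MvPolynomial (Fin (n + m)) R) =
      ι m ch'.a * ∑ j, ι m (ch.H ℓ j) * Z j -
        ∑ j', ι m (ch'.H ℓ j') * ∑ j, ι m (ch.H j' j) * Z j := by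
    have e2 : ∀ j, ι m (W f π ch ch' ℓ j) * (Z j : MvPolynomial (Fin (n + m)) R) =
        ι m ch'.a * (ι m (ch.H ℓ j) * Z j) -
          ∑ j', ι m (ch'.H ℓ j') * (ι m (ch.H j' j) * Z j) := by
      intro j
      rw [eW j, sub_mul, Finset.sum_mul]
      congr 1
      · ring
      · apply Finset.sum_congr rfl
        intro j' _
        ring
    rw [Finset.sum_congr rfl (fun j _ => e2 j), Finset.sum_sub_distrib, ← Finset.mul_sum,
      Finset.sum_comm]
    congr 1
    apply Finset.sum_congr rfl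
    intro j' _
    rw [Finset.mul_sum]
  have hE : ι m ch.a * pp f π ch' ℓ -
      ∑ j, ι m (W f π ch ch' ℓ j) * (Z j : MvPolynomial (Fin (n + m)) R) ∈ NN f π ch := by
    have e3 : ι m ch.a * pp f π ch' ℓ -
        ∑ j, ι m (W f π ch ch' ℓ j) * (Z j : MvPolynomial (Fin (n + m)) R) =
        ι m ch'.a * (ι m ch.a * Z ℓ - ∑ j, ι m (ch.H ℓ j) * Z j) -
          ∑ j', ι m (ch'.H ℓ j') * (ι m ch.a * Z j' - ∑ j, ι m (ch.H j' j) * Z j) -
          C π * (ι m ch.a * ι m (ch'.g ℓ)) := by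
      have e4 : ∑ j', ι m (ch'.H ℓ j') *
          (ι m ch.a * (Z j' : MvPolynomial (Fin (n + m)) R) - ∑ j, ι m (ch.H j' j) * Z j) =
          ι m ch.a * ∑ j', ι m (ch'.H ℓ j') * Z j' -
            ∑ j', ι m (ch'.H ℓ j') * ∑ j, ι m (ch.H j' j) * Z j := by
        rw [Finset.mul_sum, ← Finset.sum_sub_distrib]
        apply Finset.sum_congr rfl
        intro j' _
        ring
      rw [e1, e4]
      unfold pp
      ring
    rw [e3]
    refine Ideal.sub_mem _ (Ideal.sub_mem _ (Ideal.mul_mem_left _ _ (N2 f π ch ℓ))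
      (Ideal.sum_mem _ (fun j' _ => Ideal.mul_mem_left _ _ (N2 f π ch j'))))
      (Ideal.mul_mem_right _ _ (Cπ_mem_NN f π ch))
  have e5 : ι m ch.a ^ 3 * pp f π ch' ℓ =
      ι m ch.a ^ 2 * (ι m ch.a * pp f π ch' ℓ -
        ∑ j, ι m (W f π ch ch' ℓ j) * (Z j : MvPolynomial (Fin (n + m)) R)) +
      ∑ j, (ι m ch.a ^ 2 * ι m (W f π ch ch' ℓ j)) * (Z j : MvPolynomial (Fin (n + m)) R) := by
    have e6 : ∑ j, (ι m ch.a ^ 2 * ι m (W f π ch ch' ℓ j)) *
        (Z j : MvPolynomial (Fin (n + m)) R) =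
        ι m ch.a ^ 2 * ∑ j, ι m (W f π ch ch' ℓ j) * Z j := by
      rw [Finset.mul_sum]
      apply Finset.sum_congr rfl
      intro j _
      ring
    rw [e6]
    ring
  rw [e5]
  exact Ideal.add_mem _ (Ideal.mul_mem_left _ _ hE)
    (Ideal.sum_mem _ (fun j _ => Ideal.mul_mem_right _ _ (a_sq_W_mem f π ch ch' ℓ j)))

end Defs

section FlatKill

/-- In a ring with a flat localization, an element `w = π y` with `π w = 0` dies after
multiplication by a power of the localizing element. -/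
theorem flat_kill {R A : Type*} [CommRing R] [CommRing A] [Algebra R A] (π : R)
    (hR : ∀ r : R, π ^ 2 * r = 0 → π * r = 0) (u : A) [Module.Flat R (Localization.Away u)]
    (w y : A) (hw : w = algebraMap R A π * y) (hπw : algebraMap R A π * w = 0) :
    ∃ N : ℕ, u ^ N * w = 0 := by
  have h1 : π ^ 2 • algebraMap A (Localization.Away u) y = 0 := by
    rw [Algebra.smul_def, IsScalarTower.algebraMap_apply R A (Localization.Away u), ← map_mul,
      map_pow]
    have e : algebraMap R A π ^ 2 * y = algebraMap R A π * w := by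
      rw [hw]
      ring
    rw [e, hπw, map_zero]
  have h2 := DesingLemmaH4.flat_ann π hR _ h1
  rw [Algebra.smul_def, IsScalarTower.algebraMap_apply R A (Localization.Away u), ← map_mul,
    ← hw] at h2
  obtain ⟨⟨_, N, rfl⟩, hm⟩ :=
    (IsLocalization.map_eq_zero_iff (Submonoid.powers u) (Localization.Away u) _).mp h2
  exact ⟨N, hm⟩

end FlatKill

end Groth.Agent.Lib.LiftChartH4
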