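import Mathlib
import Groth.Prelude.Def_Smoothing
import Groth.Agent.Lib.LiftChart_helper4
import Groth.Agent.Lib.Smoothing1_helper1

/-!
Helper library (helper4): the algebra `D = R[x,z]/(f - π z, p_{k,ℓ})` of the lifting lemma and its
smoothness at primes not containing `π` and at primes over chart points.  APPEND-ONLY once landed.
-/

set_option autoImplicit false
set_option linter.unusedVariables false
set_option linter.unusedTactic false
set_option linter.unreachableTactic false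
set_option linter.unusedSectionVars false
set_option linter.style.haveILetI false
set_option maxHeartbeats 800000

universe u

namespace Groth.Agent.Lib.LiftDH4

open MvPolynomial Groth.Agent.Lib.LiftChartH4

section Append

theorem range_append {α : Type*} {a b : ℕ} (u : Fin a → α) (v : Fin b → α) :
    Set.range (Fin.append u v) = Set.range u ∪ Set.range v := by
  ext x
  constructor
  · rintro ⟨i, rfl⟩
    refine Fin.addCases (motive := fun i => Fin.append u v i ∈ Set.range u ∪ Set.range v)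
      (fun i => ?_) (fun i => ?_) i
    · rw [Fin.append_left]
      exact Or.inl ⟨i, rfl⟩
    · rw [Fin.append_right]
      exact Or.inr ⟨i, rfl⟩
  · rintro (⟨i, rfl⟩ | ⟨i, rfl⟩)
    · exact ⟨Fin.castAdd b i, Fin.append_left u v i⟩
    · exact ⟨Fin.natAdd a i, Fin.append_right u v i⟩

theorem ker_mkₐ {R P : Type*} [CommRing R] [CommRing P] [Algebra R P] (I : Ideal P) :
    RingHom.ker (Ideal.Quotient.mkₐ R I).toRingHom = I := by
  ext x
  rw [RingHom.mem_ker]
  exact Ideal.Quotient.eq_zero_iff_mem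

variable {R A : Type u} [CommRing R] [CommRing A] [Algebra R A]

/-- Smoothness at a prime from a presentation whose relations split into leading relations with
invertible Jacobian minor and remaining relations which locally lie in the leading ones. -/
theorem smoothAt_append {σ : Type*} [Finite σ] {N m : ℕ}
    (lead : Fin m → MvPolynomial (Fin N) R) (rest : σ → MvPolynomial (Fin N) R)
    (φ : MvPolynomial (Fin N) R →ₐ[R] A) (hφ : Function.Surjective φ)
    (hker : RingHom.ker φ.toRingHom =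
      Ideal.span (Set.range lead) ⊔ Ideal.span (Set.range rest))
    (q : Ideal A) [q.IsPrime] (cols : Fin m → Fin N)
    (hminor : φ (Matrix.det (Matrix.of fun j k : Fin m => pderiv (cols k) (lead j))) ∉ q)
    (a₁ : MvPolynomial (Fin N) R) (ha₁ : φ a₁ ∉ q)
    (htail : ∀ s, a₁ * rest s ∈ Ideal.span (Set.range lead)) :
    Algebra.IsSmoothAt R q := by
  obtain ⟨M, ⟨e⟩⟩ := Finite.exists_equiv_fin σ
  have hcm : m ≤ m + M := Nat.le_add_right m M
  obtain ⟨f', hf'⟩ : ∃ f' : Fin (m + M) → MvPolynomial (Fin N) R,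
      f' = Fin.append lead (rest ∘ e.symm) := ⟨_, rfl⟩
  have hL : ∀ j : Fin m, f' (Fin.castLE hcm j) = lead j := by
    intro j
    have e1 : Fin.castLE hcm j = Fin.castAdd M j := Fin.ext rfl
    rw [hf', e1, Fin.append_left]
  have hR' : ∀ j : Fin M, f' (Fin.natAdd m j) = rest (e.symm j) := by
    intro j
    rw [hf', Fin.append_right]
    rfl
  have hrange : Set.range f' = Set.range lead ∪ Set.range rest := by
    rw [hf', range_append, e.symm.surjective.range_comp]
  have hker' : RingHom.ker φ.toRingHom = Ideal.span (Set.range f') := by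
    rw [hker, hrange, Ideal.span_union]
  have hminor' : φ (Smoothing.jacobianMinor f' (Fin.castLE hcm) cols) ∉ q := by
    have e2 : Smoothing.jacobianMinor f' (Fin.castLE hcm) cols =
        Matrix.det (Matrix.of fun j k : Fin m => pderiv (cols k) (lead j)) := by
      unfold Smoothing.jacobianMinor
      congr 1
      refine Matrix.ext (fun j k => ?_)
      show pderiv (cols k) (f' (Fin.castLE hcm j)) = pderiv (cols k) (lead j)
      rw [hL j]
    rw [e2]
    exact hminor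
  refine Smoothing1H1.smoothAt_core hcm f' φ hφ hker' q cols hminor' a₁ ha₁ ?_
  intro j hj
  have hjlt : (j : ℕ) < m + M := j.isLt
  obtain ⟨j', hj'⟩ : ∃ j' : Fin M, j = Fin.natAdd m j' :=
    ⟨⟨(j : ℕ) - m, by omega⟩, Fin.ext (by show (j : ℕ) = m + ((j : ℕ) - m); omega)⟩
  rw [hj', hR' j']
  refine Ideal.mem_sup_left (Ideal.span_mono ?_ (htail (e.symm j')))
  rintro _ ⟨i, rfl⟩
  exact ⟨Fin.castLE hcm i, (i.isLt : (i : ℕ) < m), hL i⟩

end Append

section Deriv

variable {R : Type u} [CommRing R] {n m : ℕ}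
variable (f : Fin m → MvPolynomial (Fin n) R) (π : R)

theorem pderiv_cast_ι (i : Fin n) (q : MvPolynomial (Fin n) R) :
    pderiv (Fin.castAdd m i) (ι m q) = ι m (pderiv i q) :=
  pderiv_rename (Fin.castAdd_injective n m) i q

theorem pderiv_nat_ι (k : Fin m) (q : MvPolynomial (Fin n) R) :
    pderiv (Fin.natAdd n k) (ι m q) = 0 := by
  classical
  apply pderiv_eq_zero_of_notMem_vars
  intro h
  have h2 := vars_rename (Fin.castAdd m) q h
  rw [Finset.mem_image] at h2
  obtain ⟨i, _, hi⟩ := h2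
  have h3 : (i : ℕ) = n + (k : ℕ) := congrArg Fin.val hi
  have := i.isLt
  omega

theorem pderiv_nat_Z (k ℓ : Fin m) :
    pderiv (Fin.natAdd n k) (Z ℓ : MvPolynomial (Fin (n + m)) R) = if ℓ = k then 1 else 0 := by
  unfold Z
  split_ifs with h
  · rw [h, pderiv_X_self]
  · apply pderiv_X_of_ne
    intro h2
    exact h (Fin.natAdd_injective _ _ h2)

theorem pderiv_cast_Z (i : Fin n) (ℓ : Fin m) :
    pderiv (Fin.castAdd m i) (Z ℓ : MvPolynomial (Fin (n + m)) R) = 0 := by
  unfold Z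
  apply pderiv_X_of_ne
  intro h
  have h3 : n + (ℓ : ℕ) = (i : ℕ) := congrArg Fin.val h
  have := i.isLt
  omega

theorem pderiv_nat_F (k ℓ : Fin m) :
    pderiv (Fin.natAdd n k) (F f π ℓ) = if ℓ = k then -C π else 0 := by
  unfold F
  rw [map_sub, pderiv_nat_ι, pderiv_C_mul, pderiv_nat_Z, zero_sub]
  split_ifs with h
  · rw [mul_one]
  · rw [mul_zero, neg_zero]

theorem pderiv_cast_F (i : Fin n) (ℓ : Fin m) :
    pderiv (Fin.castAdd m i) (F f π ℓ) = ι m (pderiv i (f ℓ)) := by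
  unfold F
  rw [map_sub, pderiv_cast_ι, pderiv_C_mul, pderiv_cast_Z, mul_zero, sub_zero]

theorem pderiv_nat_pp (ch : Chart f π) (k ℓ : Fin m) :
    pderiv (Fin.natAdd n k) (pp f π ch ℓ) =
      (if ℓ = k then ι m ch.a else 0) - ι m (ch.H ℓ k) := by
  have t1 : pderiv (Fin.natAdd n k) (ι m ch.a * (Z ℓ : MvPolynomial (Fin (n + m)) R)) =
      if ℓ = k then ι m ch.a else 0 := by
    rw [pderiv_mul, pderiv_nat_ι, pderiv_nat_Z, zero_mul, zero_add]
    split_ifs with h
    · rw [mul_one]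
    · rw [mul_zero]
  have e1 : ∀ j, pderiv (Fin.natAdd n k)
      (ι m (ch.H ℓ j) * (Z j : MvPolynomial (Fin (n + m)) R)) =
      if j = k then ι m (ch.H ℓ j) else 0 := by
    intro j
    rw [pderiv_mul, pderiv_nat_ι, pderiv_nat_Z, zero_mul, zero_add]
    split_ifs with h
    · rw [mul_one]
    · rw [mul_zero]
  have t2 : pderiv (Fin.natAdd n k)
      (∑ j, ι m (ch.H ℓ j) * (Z j : MvPolynomial (Fin (n + m)) R)) = ι m (ch.H ℓ k) := by
    rw [map_sum, Finset.sum_congr rfl (fun j _ => e1 j),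
      Finset.sum_ite_eq' Finset.univ k (fun j => ι m (ch.H ℓ j)), if_pos (Finset.mem_univ k)]
  have t3 : pderiv (Fin.natAdd n k) (C π * ι m (ch.g ℓ)) = 0 := by
    rw [pderiv_C_mul, pderiv_nat_ι, mul_zero]
  unfold pp
  rw [map_sub, map_sub, t1, t2, t3, sub_zero]

theorem det_F :
    Matrix.det (Matrix.of fun j k : Fin m => pderiv (Fin.natAdd n k) (F f π j)) =
      (-C π) ^ m := by
  have e : (Matrix.of fun j k : Fin m => pderiv (Fin.natAdd n k) (F f π j)) =
      Matrix.diagonal (fun _ : Fin m => (-C π : MvPolynomial (Fin (n + m)) R)) := by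
    refine Matrix.ext (fun j k => ?_)
    show pderiv (Fin.natAdd n k) (F f π j) = _
    rw [pderiv_nat_F, Matrix.diagonal_apply]
  rw [e, Matrix.det_diagonal, Finset.prod_const, Finset.card_univ, Fintype.card_fin]

/-- the columns of the Jacobian minor of a chart -/
noncomputable def colsOf (ch : Chart f π) (ℓ : Fin m) : Fin (n + m) :=
  if h : ℓ ∈ ch.S then Fin.castAdd m (ch.κ ⟨ℓ, h⟩) else Fin.natAdd n ℓ

theorem det_lead (ch : Chart f π) :
    ∃ e : ℕ, Matrix.det (Matrix.of fun j k : Fin m =>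
        pderiv (colsOf f π ch k) (lead f π ch j)) =
      ι m (Matrix.det (Matrix.of fun (j j' : {ℓ // ℓ ∈ ch.S}) => pderiv (ch.κ j') (f j.1))) *
        ι m ch.a ^ e := by
  classical
  obtain ⟨Mx, hMx⟩ : ∃ Mx : Matrix (Fin m) (Fin m) (MvPolynomial (Fin (n + m)) R),
      Mx = Matrix.of fun j k : Fin m => pderiv (colsOf f π ch k) (lead f π ch j) := ⟨_, rfl⟩
  rw [← hMx]
  have hent : ∀ j k, Mx j k = pderiv (colsOf f π ch k) (lead f π ch j) := by
    intro j k
    rw [hMx]
    rfl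
  have h0 : ∀ i, i ∈ ch.S → ∀ j, ¬ j ∈ ch.S → Mx i j = 0 := by
    intro i hi j hj
    rw [hent]
    have e1 : colsOf f π ch j = Fin.natAdd n j := dif_neg hj
    have e2 : lead f π ch i = F f π i := if_pos hi
    rw [e1, e2, pderiv_nat_F, if_neg]
    rintro rfl
    exact hj hi
  have hB1 : (Matrix.toSquareBlockProp Mx (fun i => i ∈ ch.S)).det =
      ι m (Matrix.det (Matrix.of fun (j j' : {ℓ // ℓ ∈ ch.S}) =>
        pderiv (ch.κ j') (f j.1))) := by
    rw [AlgHom.map_det]
    congr 1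
    refine Matrix.ext (fun j k => ?_)
    show Mx j.1 k.1 = ι m (pderiv (ch.κ k) (f j.1))
    rw [hent]
    have e1 : colsOf f π ch k.1 = Fin.castAdd m (ch.κ k) := dif_pos k.2
    have e2 : lead f π ch j.1 = F f π j.1 := if_pos j.2
    rw [e1, e2, pderiv_cast_F]
  have hB2 : (Matrix.toSquareBlockProp Mx (fun i => ¬ i ∈ ch.S)).det =
      ι m ch.a ^ Fintype.card {ℓ // ¬ ℓ ∈ ch.S} := by
    have e : Matrix.toSquareBlockProp Mx (fun i => ¬ i ∈ ch.S) =
        Matrix.diagonal (fun _ : {ℓ // ¬ ℓ ∈ ch.S} => ι m ch.a) := by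
      refine Matrix.ext (fun j k => ?_)
      show Mx j.1 k.1 = _
      rw [hent, Matrix.diagonal_apply]
      have e1 : colsOf f π ch k.1 = Fin.natAdd n k.1 := dif_neg k.2
      have e2 : lead f π ch j.1 = pp f π ch j.1 := if_neg j.2
      rw [e1, e2, pderiv_nat_pp, ch.hHS j.1 k.1 k.2, map_zero, sub_zero]
      by_cases h : j = k
      · rw [if_pos h, if_pos (congrArg Subtype.val h)]
      · rw [if_neg h, if_neg (fun h' => h (Subtype.ext h'))]
    rw [e, Matrix.det_diagonal, Finset.prod_const, Finset.card_univ]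
  refine ⟨Fintype.card {ℓ // ¬ ℓ ∈ ch.S}, ?_⟩
  have h := Matrix.twoBlockTriangular_det' Mx (fun i => i ∈ ch.S) h0
  rw [h]
  refine congrArg₂ (· * ·) ?_ ?_
  · convert hB1
  · convert hB2

end Deriv

section DLevel

variable {R : Type u} [CommRing R] {n m : ℕ}
variable (f : Fin m → MvPolynomial (Fin n) R) (π : R)
variable {K : Type*} [Finite K] (chart : K → Chart f π)

/-- all relations of the algebra `D` -/
noncomputable def Gen : Fin m ⊕ (K × Fin m) → MvPolynomial (Fin (n + m)) R :=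
  Sum.elim (F f π) (fun p => pp f π (chart p.1) p.2)

/-- the ideal of relations of `D` -/
noncomputable def FF : Ideal (MvPolynomial (Fin (n + m)) R) :=
  Ideal.span (Set.range (Gen f π chart))

theorem F_mem_FF (ℓ : Fin m) : F f π ℓ ∈ FF f π chart :=
  Ideal.subset_span ⟨Sum.inl ℓ, rfl⟩

theorem pp_mem_FF (k : K) (ℓ : Fin m) : pp f π (chart k) ℓ ∈ FF f π chart :=
  Ideal.subset_span ⟨Sum.inr (k, ℓ), rfl⟩

theorem span_F_le : Ideal.span (Set.range (F f π)) ≤ FF f π chart := by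
  rw [Ideal.span_le]
  rintro _ ⟨ℓ, rfl⟩
  exact F_mem_FF f π chart ℓ

theorem span_lead_le (k : K) :
    Ideal.span (Set.range (lead f π (chart k))) ≤ FF f π chart := by
  rw [Ideal.span_le]
  rintro _ ⟨ℓ, rfl⟩
  show lead f π (chart k) ℓ ∈ FF f π chart
  unfold lead
  split_ifs
  · exact F_mem_FF f π chart ℓ
  · exact pp_mem_FF f π chart k ℓ

theorem FF_fg : (FF f π chart).FG := Submodule.fg_span (Set.finite_range _)

theorem mk_ι_mem (x : MvPolynomial (Fin n) R) (hx : x ∈ Ideal.span (Set.range f)) :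
    Ideal.Quotient.mk (FF f π chart) (ι m x) ∈
      Ideal.span {algebraMap R (MvPolynomial (Fin (n + m)) R ⧸ FF f π chart) π} := by
  refine Submodule.span_induction (p := fun x _ => Ideal.Quotient.mk (FF f π chart) (ι m x) ∈
      Ideal.span {algebraMap R (MvPolynomial (Fin (n + m)) R ⧸ FF f π chart) π}) ?_ ?_ ?_ ?_ hx
  · rintro _ ⟨ℓ, rfl⟩
    have e : ι m (f ℓ) = F f π ℓ + C π * Z ℓ := by
      unfold F
      ring
    rw [e, map_add, map_mul, Ideal.Quotient.eq_zero_iff_mem.mpr (F_mem_FF f π chart ℓ), zero_add]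
    exact Ideal.mul_mem_right _ _ (Ideal.subset_span (Set.mem_singleton_iff.mpr rfl))
  · rw [map_zero, map_zero]
    exact Ideal.zero_mem _
  · intro x y _ _ hx hy
    rw [map_add, map_add]
    exact Ideal.add_mem _ hx hy
  · intro c x _ hx
    rw [smul_eq_mul, map_mul, map_mul]
    exact Ideal.mul_mem_left _ _ hx

/-- `D` is smooth over `R` at the primes not containing `π`. -/
theorem smooth_b (Q : Ideal (MvPolynomial (Fin (n + m)) R ⧸ FF f π chart)) [Q.IsPrime]
    (hπ : algebraMap R (MvPolynomial (Fin (n + m)) R ⧸ FF f π chart) π ∉ Q) :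
    Algebra.IsSmoothAt R Q := by
  have hmk : ∀ r : R, algebraMap R (MvPolynomial (Fin (n + m)) R ⧸ FF f π chart) r =
      Ideal.Quotient.mk (FF f π chart) (C r) := fun r => rfl
  rw [hmk] at hπ
  refine smoothAt_append (F f π) (Gen f π chart) (Ideal.Quotient.mkₐ R (FF f π chart))
    (Ideal.Quotient.mkₐ_surjective R _) ?_ Q (Fin.natAdd n) ?_ (C π) hπ ?_
  · rw [ker_mkₐ]
    exact (sup_eq_right.mpr (span_F_le f π chart)).symm
  · show Ideal.Quotient.mk (FF f π chart) _ ∉ Q
    rw [det_F, map_pow, map_neg]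
    intro h
    have h1 := Ideal.IsPrime.mem_of_pow_mem ‹Q.IsPrime› _ h
    exact hπ (neg_mem_iff.mp h1)
  · rintro (ℓ | ⟨k', ℓ⟩)
    · exact Ideal.mul_mem_left _ _ (Ideal.subset_span ⟨ℓ, rfl⟩)
    · show C π * pp f π (chart k') ℓ ∈ _
      rw [key_id]
      exact Ideal.add_mem _ (Ideal.mul_mem_left _ _ (Ideal.subset_span ⟨ℓ, rfl⟩))
        (Ideal.sum_mem _ (fun j _ => Ideal.mul_mem_left _ _ (Ideal.subset_span ⟨j, rfl⟩)))

/-- `D` is smooth over `R` at the primes containing `π` at which some chart element is a unit. -/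
theorem smooth_c (hR : ∀ r : R, π ^ 2 * r = 0 → π * r = 0)
    (Q : Ideal (MvPolynomial (Fin (n + m)) R ⧸ FF f π chart)) [Q.IsPrime]
    (hπ : algebraMap R (MvPolynomial (Fin (n + m)) R ⧸ FF f π chart) π ∈ Q)
    (k : K) (hk : Ideal.Quotient.mk (FF f π chart) (ι m (chart k).a) ∉ Q) :
    Algebra.IsSmoothAt R Q := by
  classical
  obtain ⟨ch, hch⟩ : ∃ ch : Chart f π, ch = chart k := ⟨_, rfl⟩
  rw [← hch] at hk
  have hL0 : Ideal.span (Set.range (lead f π ch)) ≤ FF f π chart := by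
    rw [hch]
    exact span_lead_le f π chart k
  have hIQ : ∀ x ∈ Ideal.span (Set.range f),
      Ideal.Quotient.mk (FF f π chart) (ι m x) ∈ Q := by
    intro x hx
    exact ((Ideal.span_singleton_le_iff_mem Q).mpr hπ) (mk_ι_mem f π chart x hx)
  obtain ⟨Δ, hΔdef⟩ : ∃ Δ : MvPolynomial (Fin n) R, Δ = Matrix.det (Matrix.of
      fun (j j' : {ℓ // ℓ ∈ ch.S}) => pderiv (ch.κ j') (f j.1)) := ⟨_, rfl⟩
  have hΔ : ch.a - ch.a' * Δ ∈ Ideal.span (Set.range f) := by
    rw [hΔdef]
    exact ch.hΔ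
  have hdet : Ideal.Quotient.mk (FF f π chart) (ι m Δ) ∉ Q := by
    intro h
    apply hk
    have h1 := hIQ _ hΔ
    have e : ι m ch.a = ι m (ch.a - ch.a' * Δ) + ι m ch.a' * ι m Δ := by
      rw [map_sub, map_mul]
      ring
    rw [e, map_add, map_mul]
    exact Q.add_mem h1 (Q.mul_mem_left _ h)
  obtain ⟨e, he⟩ := det_lead f π ch
  rw [← hΔdef] at he
  have hminor : Ideal.Quotient.mk (FF f π chart) (Matrix.det (Matrix.of fun j k : Fin m =>
      pderiv (colsOf f π ch k) (lead f π ch j))) ∉ Q := by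
    rw [he, map_mul, map_pow]
    intro h
    rcases Ideal.IsPrime.mem_or_mem ‹Q.IsPrime› h with h1 | h1
    · exact hdet h1
    · exact hk (Ideal.IsPrime.mem_of_pow_mem ‹Q.IsPrime› _ h1)
  -- the intermediate algebra
  obtain ⟨L, hLdef⟩ : ∃ L : Ideal (MvPolynomial (Fin (n + m)) R),
      L = Ideal.span (Set.range (lead f π ch)) := ⟨_, rfl⟩
  have hL : L ≤ FF f π chart := by
    rw [hLdef]
    exact hL0
  have hLfg : L.FG := by
    rw [hLdef]
    exact Submodule.fg_span (Set.finite_range _)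
  haveI : Algebra.FinitePresentation R (MvPolynomial (Fin (n + m)) R ⧸ L) :=
    Algebra.FinitePresentation.quotient hLfg
  obtain ⟨𝔮, h𝔮⟩ : ∃ 𝔮 : Ideal (MvPolynomial (Fin (n + m)) R ⧸ L),
      𝔮 = Q.comap (Ideal.Quotient.factor hL) := ⟨_, rfl⟩
  haveI : 𝔮.IsPrime := by
    rw [h𝔮]
    exact Ideal.comap_isPrime _ _
  have hmem𝔮 : ∀ x, Ideal.Quotient.mk L x ∈ 𝔮 ↔ Ideal.Quotient.mk (FF f π chart) x ∈ Q := by
    intro x
    rw [h𝔮, Ideal.mem_comap, Ideal.Quotient.factor_mk]
  have hmkL : ∀ r : R, algebraMap R (MvPolynomial (Fin (n + m)) R ⧸ L) r =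
      Ideal.Quotient.mk L (C r) := fun r => rfl
  have hsm𝔮 : Algebra.IsSmoothAt R 𝔮 := by
    refine smoothAt_append (lead f π ch) (fun s : Fin 0 => s.elim0) (Ideal.Quotient.mkₐ R L)
      (Ideal.Quotient.mkₐ_surjective R L) ?_ 𝔮 (colsOf f π ch) ?_ 1 ?_ (fun s => s.elim0)
    · rw [ker_mkₐ, hLdef]
      have h0 : Set.range (fun s : Fin 0 => (s.elim0 : MvPolynomial (Fin (n + m)) R)) = ∅ :=
        Set.range_eq_empty _
      rw [h0, Ideal.span_empty, sup_bot_eq]
    · exact (hmem𝔮 _).not.mpr hminor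
    · rw [map_one]
      exact (Ideal.ne_top_iff_one 𝔮).mp (Ideal.IsPrime.ne_top ‹_›)
  haveI := hsm𝔮
  obtain ⟨u₀, hu₀, hsm⟩ := Algebra.IsSmoothAt.exists_notMem_smooth R 𝔮
  haveI := hsm
  haveI : Module.Flat R (Localization.Away u₀) := inferInstance
  obtain ⟨u, rfl⟩ := Ideal.Quotient.mk_surjective u₀
  have huQ : Ideal.Quotient.mk (FF f π chart) u ∉ Q := (hmem𝔮 u).not.mp hu₀
  have hkill : ∀ (k' : K) (ℓ : Fin m), ∃ N : ℕ,
      u ^ N * (ι m ch.a ^ 3 * pp f π (chart k') ℓ) ∈ L := by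
    intro k' ℓ
    have h1 := a_cube_pp_mem f π ch (chart k') ℓ
    unfold NN at h1
    rw [← hLdef] at h1
    obtain ⟨y, hy, z, hz, hyz⟩ := Submodule.mem_sup.mp h1
    obtain ⟨y₀, rfl⟩ := Ideal.mem_span_singleton'.mp hy
    have hw : Ideal.Quotient.mk L (ι m ch.a ^ 3 * pp f π (chart k') ℓ) =
        Ideal.Quotient.mk L (C π) * Ideal.Quotient.mk L y₀ := by
      rw [← hyz, map_add, map_mul, Ideal.Quotient.eq_zero_iff_mem.mpr hz, add_zero, mul_comm]
    have hπw : Ideal.Quotient.mk L (C π) *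
        Ideal.Quotient.mk L (ι m ch.a ^ 3 * pp f π (chart k') ℓ) = 0 := by
      rw [← map_mul, Ideal.Quotient.eq_zero_iff_mem, hLdef]
      have e' : C π * (ι m ch.a ^ 3 * pp f π (chart k') ℓ) =
          ι m ch.a ^ 2 * (-(ι m (chart k').a) * (ι m ch.a * F f π ℓ) +
            ∑ j, ι m ((chart k').H ℓ j) * (ι m ch.a * F f π j)) := by
        have h2 := key_id f π (chart k') ℓ
        have e2 : ∑ j, ι m ((chart k').H ℓ j) * (ι m ch.a * F f π j) =
            ι m ch.a * ∑ j, ι m ((chart k').H ℓ j) * F f π j := by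
          rw [Finset.mul_sum]
          apply Finset.sum_congr rfl
          intro j _
          ring
        rw [e2]
        linear_combination (ι m ch.a ^ 3) * h2
      rw [e']
      exact Ideal.mul_mem_left _ _ (Ideal.add_mem _
        (Ideal.mul_mem_left _ _ (a_mul_F_mem f π ch ℓ))
        (Ideal.sum_mem _ (fun j _ => Ideal.mul_mem_left _ _ (a_mul_F_mem f π ch j))))
    obtain ⟨N, hN⟩ := flat_kill π hR (Ideal.Quotient.mk L u)
      (Ideal.Quotient.mk L (ι m ch.a ^ 3 * pp f π (chart k') ℓ)) (Ideal.Quotient.mk L y₀)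
      (by rw [hmkL]; exact hw) (by rw [hmkL]; exact hπw)
    refine ⟨N, ?_⟩
    rw [← map_pow, ← map_mul, Ideal.Quotient.eq_zero_iff_mem] at hN
    exact hN
  choose Nf hNf using hkill
  obtain ⟨Nmax, hNmax⟩ := (Set.finite_range (fun p : K × Fin m => Nf p.1 p.2)).bddAbove
  have hle : ∀ k' ℓ, Nf k' ℓ ≤ Nmax := fun k' ℓ => hNmax ⟨(k', ℓ), rfl⟩
  refine smoothAt_append (lead f π ch) (Gen f π chart) (Ideal.Quotient.mkₐ R (FF f π chart))
    (Ideal.Quotient.mkₐ_surjective R _) ?_ Q (colsOf f π ch) hminor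
    (u ^ Nmax * ι m ch.a ^ 3) ?_ ?_
  · rw [ker_mkₐ]
    have h3 := sup_eq_right.mpr hL
    rw [hLdef] at h3
    exact h3.symm
  · show Ideal.Quotient.mk (FF f π chart) (u ^ Nmax * ι m ch.a ^ 3) ∉ Q
    rw [map_mul, map_pow, map_pow]
    intro h
    rcases Ideal.IsPrime.mem_or_mem ‹Q.IsPrime› h with h1 | h1
    · exact huQ (Ideal.IsPrime.mem_of_pow_mem ‹Q.IsPrime› _ h1)
    · exact hk (Ideal.IsPrime.mem_of_pow_mem ‹Q.IsPrime› _ h1)
  · rintro (ℓ | ⟨k', ℓ⟩)
    · show u ^ Nmax * ι m ch.a ^ 3 * F f π ℓ ∈ _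
      have e' : u ^ Nmax * ι m ch.a ^ 3 * F f π ℓ =
          u ^ Nmax * ι m ch.a ^ 2 * (ι m ch.a * F f π ℓ) := by
        ring
      rw [e']
      exact Ideal.mul_mem_left _ _ (a_mul_F_mem f π ch ℓ)
    · show u ^ Nmax * ι m ch.a ^ 3 * pp f π (chart k') ℓ ∈ _
      have e' : u ^ Nmax * ι m ch.a ^ 3 * pp f π (chart k') ℓ =
          u ^ (Nmax - Nf k' ℓ) * (u ^ Nf k' ℓ * (ι m ch.a ^ 3 * pp f π (chart k') ℓ)) := by
        rw [← mul_assoc (u ^ (Nmax - Nf k' ℓ)), ← pow_add, Nat.sub_add_cancel (hle k' ℓ)]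
        ring
      rw [e', ← hLdef]
      exact Ideal.mul_mem_left _ _ (hNf k' ℓ)

end DLevel

end Groth.Agent.Lib.LiftDH4
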