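import Mathlib
import Groth.Prelude.Def_Smoothing
import Groth.Agent.Lib.LiftChart_helper4
import Groth.Agent.Lib.LiftD_helper4
import Groth.Agent.Lib.JacCrit2_helper1

/-!
Helper library (helper4): the lifting lemma of "Smoothing ring maps": a finitely presented algebra
`C` over `R/π²` with a map to `Λ/π²Λ` lifts to a finitely presented `R`-algebra `D` with a map to
`Λ`, smooth where `π` is invertible and over the smooth points of `C`.  APPEND-ONLY once landed.
-/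

set_option autoImplicit false
set_option linter.unusedVariables false
set_option linter.unusedTactic false
set_option linter.unreachableTactic false
set_option linter.unusedSectionVars false
set_option linter.style.haveILetI false
set_option maxHeartbeats 800000

universe u

namespace Groth.Agent.Lib.LiftMainH4

open MvPolynomial Groth.Agent.Lib.LiftChartH4 Groth.Agent.Lib.LiftDH4

section LinAlg

theorem cramer_rel {S : Type*} [CommRing S] {m c : ℕ} (v : Fin m → S) (rows : Fin c → Fin m)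
    (a₀ : S) (B : Fin m → Fin m → S) (cc : Fin m → Fin c → S)
    (h : ∀ ℓ, a₀ * v ℓ = ∑ i, cc ℓ i * v (rows i) + ∑ j, B ℓ j * v j) :
    ∃ (N : Matrix (Fin m) (Fin m) S) (dd : Fin m → Fin c → S),
      (∀ ℓ j, N ℓ j = (if ℓ = j then a₀ else 0) - B ℓ j) ∧
      ∀ ℓ, N.det * v ℓ = ∑ i, dd ℓ i * v (rows i) := by
  classical
  obtain ⟨N, hN⟩ : ∃ N : Matrix (Fin m) (Fin m) S,
      ∀ ℓ j, N ℓ j = (if ℓ = j then a₀ else 0) - B ℓ j :=
    ⟨Matrix.of fun ℓ j => (if ℓ = j then a₀ else 0) - B ℓ j, fun _ _ => rfl⟩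
  refine ⟨N, fun ℓ i => ∑ ℓ', Matrix.adjugate N ℓ ℓ' * cc ℓ' i, hN, ?_⟩
  have h1 : ∀ ℓ, Matrix.mulVec N v ℓ = ∑ i, cc ℓ i * v (rows i) := by
    intro ℓ
    show ∑ j, N ℓ j * v j = _
    have e1 : ∀ j, N ℓ j * v j = (if ℓ = j then a₀ * v j else 0) - B ℓ j * v j := by
      intro j
      rw [hN, sub_mul, ite_mul, zero_mul]
    rw [Finset.sum_congr rfl (fun j _ => e1 j), Finset.sum_sub_distrib,
      Finset.sum_ite_eq Finset.univ ℓ (fun j => a₀ * v j), if_pos (Finset.mem_univ ℓ), h ℓ]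
    ring
  have key : Matrix.mulVec (Matrix.adjugate N) (Matrix.mulVec N v) = N.det • v := by
    rw [Matrix.mulVec_mulVec, Matrix.adjugate_mul, Matrix.smul_mulVec, Matrix.one_mulVec]
  intro ℓ
  have h2 := congrFun key ℓ
  rw [Pi.smul_apply, smul_eq_mul] at h2
  rw [← h2]
  show ∑ ℓ', Matrix.adjugate N ℓ ℓ' * Matrix.mulVec N v ℓ' = _
  have e2 : ∀ ℓ', Matrix.adjugate N ℓ ℓ' * Matrix.mulVec N v ℓ' =
      ∑ i, Matrix.adjugate N ℓ ℓ' * cc ℓ' i * v (rows i) := by
    intro ℓ'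
    rw [h1, Finset.mul_sum]
    apply Finset.sum_congr rfl
    intro i _
    ring
  rw [Finset.sum_congr rfl (fun ℓ' _ => e2 ℓ'), Finset.sum_comm]
  apply Finset.sum_congr rfl
  intro i _
  rw [Finset.sum_mul]

theorem map_det_scalar {S T : Type*} [CommRing S] [CommRing T] (ρ : S →+* T) {m : ℕ}
    (N : Matrix (Fin m) (Fin m) S) (a : T) (h : ∀ ℓ j, ρ (N ℓ j) = if ℓ = j then a else 0) :
    ρ N.det = a ^ m := by
  rw [RingHom.map_det]
  have e : ρ.mapMatrix N = Matrix.diagonal (fun _ => a) := by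
    refine Matrix.ext (fun ℓ j => ?_)
    show ρ (N ℓ j) = _
    rw [h, Matrix.diagonal_apply]
  rw [e, Matrix.det_diagonal, Finset.prod_const, Finset.card_univ, Fintype.card_fin]

theorem decompose {S : Type*} [CommRing S] {m c : ℕ} (v : Fin m → S) (rows : Fin c → Fin m)
    (x : S)
    (hx : x ∈ Ideal.span (Set.range (v ∘ rows)) ⊔ Ideal.span (Set.range v) ^ 2) :
    ∃ (cc : Fin c → S) (B : Fin m → S), (∀ j, B j ∈ Ideal.span (Set.range v)) ∧
      x = ∑ i, cc i * v (rows i) + ∑ j, B j * v j := by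
  obtain ⟨y, hy, z, hz, rfl⟩ := Submodule.mem_sup.mp hx
  obtain ⟨cc, rfl⟩ := Ideal.mem_span_range_iff_exists_fun.mp hy
  have hz' : z ∈ Ideal.span (Set.range v) • Submodule.span S (Set.range v) := by
    rw [pow_two] at hz
    exact hz
  obtain ⟨B, hB, rfl⟩ :=
    (Submodule.mem_ideal_smul_span_iff_exists_sum (Ideal.span (Set.range v)) v z).mp hz'
  refine ⟨cc, fun j => B j, hB, ?_⟩
  rw [Finsupp.sum_fintype B (fun i c => c • v i) (fun i => zero_smul _ _)]
  rfl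

end LinAlg

section Reduction

variable {R C : Type u} [CommRing R] [CommRing C] [Algebra R C] (I₀ : Ideal R)
  [Algebra (R ⧸ I₀) C] [IsScalarTower R (R ⧸ I₀) C]
  {n m : ℕ} (f : Fin m → MvPolynomial (Fin n) R) (φ : MvPolynomial (Fin n) R →ₐ[R] C)

/-- reduction of coefficients -/
noncomputable def red : MvPolynomial (Fin n) R →+* MvPolynomial (Fin n) (R ⧸ I₀) :=
  MvPolynomial.map (Ideal.Quotient.mk I₀)

/-- the induced presentation over the quotient ring -/
noncomputable def φbar : MvPolynomial (Fin n) (R ⧸ I₀) →ₐ[R ⧸ I₀] C :=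
  aeval (fun i => φ (X i))

theorem red_surj : Function.Surjective (red I₀ (n := n)) :=
  MvPolynomial.map_surjective (Ideal.Quotient.mk I₀) Ideal.Quotient.mk_surjective

theorem red_pderiv (i : Fin n) (p : MvPolynomial (Fin n) R) :
    pderiv i (red I₀ p) = red I₀ (pderiv i p) := by
  unfold red
  exact pderiv_map

theorem red_ker_singleton (e : R) (x : MvPolynomial (Fin n) R)
    (hx : red (Ideal.span {e}) x = 0) : ∃ y, x = MvPolynomial.C e * y := by
  have h1 : x ∈ RingHom.ker (red (Ideal.span {e}) (n := n)) := RingHom.mem_ker.mpr hx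
  unfold red at h1
  rw [MvPolynomial.ker_map, Ideal.mk_ker, Ideal.map_span, Set.image_singleton] at h1
  obtain ⟨y, hy⟩ := Ideal.mem_span_singleton'.mp h1
  exact ⟨y, by rw [← hy, mul_comm]⟩

theorem φbar_red (p : MvPolynomial (Fin n) R) : φbar I₀ φ (red I₀ p) = φ p := by
  have h : (φbar I₀ φ).toRingHom.comp (red I₀) = φ.toRingHom := by
    apply MvPolynomial.ringHom_ext
    · intro r
      show φbar I₀ φ (red I₀ (MvPolynomial.C r)) = φ (MvPolynomial.C r)
      unfold red φbar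
      rw [MvPolynomial.map_C, MvPolynomial.aeval_C]
      have e1 : φ (MvPolynomial.C r) = algebraMap R C r := by
        rw [← MvPolynomial.algebraMap_eq]
        exact φ.commutes r
      rw [e1]
      exact (IsScalarTower.algebraMap_apply R (R ⧸ I₀) C r).symm
    · intro i
      show φbar I₀ φ (red I₀ (X i)) = φ (X i)
      unfold red φbar
      rw [MvPolynomial.map_X, MvPolynomial.aeval_X]
  exact RingHom.congr_fun h p

theorem φbar_surj (hφ : Function.Surjective φ) : Function.Surjective (φbar I₀ φ) := by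
  intro c
  obtain ⟨p, rfl⟩ := hφ c
  exact ⟨red I₀ p, φbar_red I₀ φ p⟩

theorem φbar_ker (hker : RingHom.ker φ.toRingHom = Ideal.span (Set.range f)) :
    RingHom.ker (φbar I₀ φ).toRingHom = Ideal.span (Set.range (fun ℓ => red I₀ (f ℓ))) := by
  apply le_antisymm
  · intro x hx
    obtain ⟨p, rfl⟩ := red_surj I₀ x
    have hp : p ∈ Ideal.span (Set.range f) := by
      rw [← hker, RingHom.mem_ker]
      have h0 := RingHom.mem_ker.mp hx
      show φ p = 0
      rw [← φbar_red I₀ φ p]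
      exact h0
    have h2 := Ideal.mem_map_of_mem (red I₀) hp
    rw [Ideal.map_span, ← Set.range_comp] at h2
    exact h2
  · rw [Ideal.span_le]
    rintro _ ⟨ℓ, rfl⟩
    refine RingHom.mem_ker.mpr ?_
    show φbar I₀ φ (red I₀ (f ℓ)) = 0
    rw [φbar_red]
    have h0 : f ℓ ∈ RingHom.ker φ.toRingHom := by
      rw [hker]
      exact Ideal.subset_span ⟨ℓ, rfl⟩
    exact RingHom.mem_ker.mp h0

end Reduction

section Charts

variable {R C : Type u} [CommRing R] [CommRing C] [Algebra R C] (π : R)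
  [Algebra (R ⧸ Ideal.span {π ^ 2}) C] [IsScalarTower R (R ⧸ Ideal.span {π ^ 2}) C]
  {n m : ℕ} (f : Fin m → MvPolynomial (Fin n) R) (φ : MvPolynomial (Fin n) R →ₐ[R] C)

/-- Chart extraction: at a smooth point of `C` over `R/π²` there is a chart whose element `a` is
invertible at the point. -/
theorem exists_chart (hφ : Function.Surjective φ)
    (hker : RingHom.ker φ.toRingHom = Ideal.span (Set.range f))
    (𝔮 : Ideal C) [𝔮.IsPrime] (hsm : Algebra.IsSmoothAt (R ⧸ Ideal.span {π ^ 2}) 𝔮) :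
    ∃ ch : Chart f π, φ ch.a ∉ 𝔮 := by
  classical
  haveI := hsm
  obtain ⟨ρ, hρred⟩ : ∃ ρ : MvPolynomial (Fin n) R →+*
      MvPolynomial (Fin n) (R ⧸ Ideal.span {π ^ 2}), ρ = red (Ideal.span {π ^ 2}) := ⟨_, rfl⟩
  obtain ⟨φb, hφb⟩ : ∃ φb : MvPolynomial (Fin n) (R ⧸ Ideal.span {π ^ 2}) →ₐ[R ⧸ Ideal.span {π ^ 2}] C,
      φb = φbar (Ideal.span {π ^ 2}) φ := ⟨_, rfl⟩
  obtain ⟨fb, hfb⟩ : ∃ fb : Fin m → MvPolynomial (Fin n) (R ⧸ Ideal.span {π ^ 2}),
      fb = fun ℓ => red (Ideal.span {π ^ 2}) (f ℓ) := ⟨_, rfl⟩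
  have hρf : ∀ ℓ, ρ (f ℓ) = fb ℓ := by
    intro ℓ
    rw [hρred, hfb]
  have hρφ : ∀ p, φb (ρ p) = φ p := by
    intro p
    rw [hρred, hφb]
    exact φbar_red _ φ p
  have hρsurj : Function.Surjective ρ := by
    rw [hρred]
    exact red_surj _
  have hρker : ∀ x, ρ x = 0 → ∃ y, x = MvPolynomial.C (π ^ 2) * y := by
    intro x hx
    rw [hρred] at hx
    exact red_ker_singleton _ x hx
  have hρpd : ∀ i p, pderiv i (ρ p) = ρ (pderiv i p) := by
    intro i p
    rw [hρred]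
    exact red_pderiv _ i p
  have hφbsurj : Function.Surjective φb := by
    rw [hφb]
    exact φbar_surj _ φ hφ
  have hφbker : RingHom.ker φb.toRingHom = Ideal.span (Set.range fb) := by
    rw [hφb, hfb]
    exact φbar_ker _ f φ hker
  obtain ⟨a, ha, c, rows, cols, a', hEq, hrel⟩ :=
    JacCrit2H1.main2108 fb φb hφbsurj hφbker 𝔮
  obtain ⟨a₀, ha₀⟩ := hφbsurj a
  choose cc B hB heq using fun ℓ => decompose fb rows (a₀ * fb ℓ) (hrel a₀ ha₀ ℓ)
  obtain ⟨N, dd, hN, hdd⟩ := cramer_rel fb rows a₀ B cc heq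
  have hNφ : ∀ ℓ j, φb.toRingHom (N ℓ j) = if ℓ = j then a else 0 := by
    intro ℓ j
    show φb (N ℓ j) = _
    have hBker : φb (B ℓ j) = 0 := by
      have h0 : B ℓ j ∈ RingHom.ker φb.toRingHom := by
        rw [hφbker]
        exact hB ℓ j
      exact RingHom.mem_ker.mp h0
    rw [hN, map_sub, hBker, sub_zero]
    split_ifs
    · exact ha₀
    · exact map_zero _
  have hdetφ : φb N.det = a ^ m := map_det_scalar φb.toRingHom N a hNφ
  have hrelb : ∀ ℓ, a₀ * N.det * fb ℓ = ∑ i, a₀ * dd ℓ i * fb (rows i) := by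
    intro ℓ
    rw [mul_assoc, hdd ℓ, Finset.mul_sum]
    apply Finset.sum_congr rfl
    intro i _
    ring
  -- lifts
  obtain ⟨aR, haR⟩ := hρsurj (a₀ * N.det)
  choose dR hdR using fun ℓ i => hρsurj (a₀ * dd ℓ i)
  obtain ⟨a'R, ha'R⟩ := hφ (a' * a ^ m)
  have hφaR : φ aR = a * a ^ m := by
    rw [← hρφ, haR, map_mul, ha₀, hdetφ]
  have hg0 : ∀ ℓ, ∃ y, aR * f ℓ - ∑ i, dR ℓ i * f (rows i) = MvPolynomial.C (π ^ 2) * y := by
    intro ℓ
    apply hρker
    have e0 : ∀ i, ρ (dR ℓ i * f (rows i)) = a₀ * dd ℓ i * fb (rows i) := by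
      intro i
      rw [map_mul, hdR, hρf]
    rw [map_sub, map_mul, map_sum, haR, hρf, Finset.sum_congr rfl (fun i _ => e0 i), hrelb ℓ,
      sub_self]
  choose g0 hg0 using hg0
  -- the index set
  obtain ⟨S, hSdef⟩ : ∃ S : Finset (Fin m), S = Finset.univ.map rows := ⟨_, rfl⟩
  have hS : ∀ j, j ∈ S ↔ ∃ i, rows i = j := by
    intro j
    rw [hSdef, Finset.mem_map]
    exact ⟨fun ⟨i, _, h⟩ => ⟨i, h⟩, fun ⟨i, h⟩ => ⟨i, Finset.mem_univ i, h⟩⟩
  have hrowsS : ∀ i, rows i ∈ S := fun i => (hS _).mpr ⟨i, rfl⟩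
  have hidx0 : ∀ s : {ℓ // ℓ ∈ S}, ∃ i, rows i = s.1 := fun s => (hS s.1).mp s.2
  choose idx hidx using hidx0
  have idx_rows : ∀ i (h : rows i ∈ S), idx ⟨rows i, h⟩ = i :=
    fun i h => rows.injective (hidx ⟨rows i, h⟩)
  obtain ⟨H0, hH0⟩ : ∃ H0 : Fin m → Fin m → MvPolynomial (Fin n) R,
      ∀ ℓ j, H0 ℓ j = if h : j ∈ S then dR ℓ (idx ⟨j, h⟩) else 0 := ⟨_, fun _ _ => rfl⟩
  have hsumH0 : ∀ ℓ, ∑ j, H0 ℓ j * f j = ∑ i, dR ℓ i * f (rows i) := by
    intro ℓ
    have e1 : ∑ i, dR ℓ i * f (rows i) = ∑ i, H0 ℓ (rows i) * f (rows i) := by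
      apply Finset.sum_congr rfl
      intro i _
      rw [hH0, dif_pos (hrowsS i), idx_rows]
    rw [e1, ← Finset.sum_map Finset.univ rows (fun j => H0 ℓ j * f j), ← hSdef]
    symm
    apply Finset.sum_subset (Finset.subset_univ _)
    intro j _ hj
    rw [hH0, dif_neg hj, zero_mul]
  obtain ⟨H, hH⟩ : ∃ H : Fin m → Fin m → MvPolynomial (Fin n) R,
      ∀ ℓ j, H ℓ j = if ℓ ∈ S then (if ℓ = j then aR else 0) else H0 ℓ j :=
    ⟨_, fun _ _ => rfl⟩
  obtain ⟨g, hg⟩ : ∃ g : Fin m → MvPolynomial (Fin n) R,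
      ∀ ℓ, g ℓ = if ℓ ∈ S then 0 else g0 ℓ := ⟨_, fun _ => rfl⟩
  obtain ⟨κ, hκ⟩ : ∃ κ : {ℓ // ℓ ∈ S} → Fin n, ∀ s, κ s = cols (idx s) := ⟨_, fun _ => rfl⟩
  obtain ⟨eqv, heqv⟩ : ∃ eqv : Fin c ≃ {ℓ // ℓ ∈ S}, ∀ i, (eqv i).1 = rows i :=
    ⟨⟨fun i => ⟨rows i, hrowsS i⟩, idx, fun i => idx_rows i _, fun s => Subtype.ext (hidx s)⟩,
      fun _ => rfl⟩
  have hidxe : ∀ i, idx (eqv i) = i := fun i => rows.injective ((hidx (eqv i)).trans (heqv i))
  have hdetS : Matrix.det (Matrix.of fun (j j' : {ℓ // ℓ ∈ S}) => pderiv (κ j') (fb j.1)) =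
      Smoothing.jacobianMinor fb rows cols := by
    unfold Smoothing.jacobianMinor
    rw [← Matrix.det_submatrix_equiv_self eqv]
    congr 1
    refine Matrix.ext (fun i i' => ?_)
    show pderiv (κ (eqv i')) (fb (eqv i).1) = pderiv (cols i') (fb (rows i))
    rw [hκ, hidxe, heqv]
  have hρdet : ρ (Matrix.det (Matrix.of fun (j j' : {ℓ // ℓ ∈ S}) => pderiv (κ j') (f j.1))) =
      Matrix.det (Matrix.of fun (j j' : {ℓ // ℓ ∈ S}) => pderiv (κ j') (fb j.1)) := by
    rw [RingHom.map_det]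
    congr 1
    refine Matrix.ext (fun j j' => ?_)
    show ρ (pderiv (κ j') (f j.1)) = pderiv (κ j') (fb j.1)
    rw [← hρf, hρpd]
  refine ⟨⟨S, κ, aR, a'R, H, g, ?_, ?_, ?_, ?_, ?_⟩, ?_⟩
  · intro ℓ j hj
    rw [hH]
    by_cases hℓ : ℓ ∈ S
    · rw [if_pos hℓ, if_neg]
      rintro rfl
      exact hj hℓ
    · rw [if_neg hℓ, hH0, dif_neg hj]
  · intro ℓ hℓ j
    rw [hH, if_pos hℓ]
  · intro ℓ hℓ
    rw [hg, if_pos hℓ]
  · intro ℓ
    by_cases hℓ : ℓ ∈ S
    · have e1 : ∀ j, H ℓ j * f j = if ℓ = j then aR * f j else 0 := by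
        intro j
        rw [hH, if_pos hℓ, ite_mul, zero_mul]
      rw [Finset.sum_congr rfl (fun j _ => e1 j),
        Finset.sum_ite_eq Finset.univ ℓ (fun j => aR * f j), if_pos (Finset.mem_univ ℓ), hg,
        if_pos hℓ, mul_zero, add_zero]
    · have e1 : ∀ j, H ℓ j * f j = H0 ℓ j * f j := by
        intro j
        rw [hH, if_neg hℓ]
      rw [Finset.sum_congr rfl (fun j _ => e1 j), hsumH0, hg, if_neg hℓ, ← hg0 ℓ]
      ring
  · rw [← hker, RingHom.mem_ker]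
    show φ (aR - a'R * Matrix.det (Matrix.of fun (j j' : {ℓ // ℓ ∈ S}) =>
      pderiv (κ j') (f j.1))) = 0
    rw [map_sub, map_mul, ha'R, hφaR, ← hρφ (Matrix.det _), hρdet, hdetS]
    linear_combination (a ^ m) * hEq
  · show φ aR ∉ 𝔮
    rw [hφaR]
    intro h
    rcases Ideal.IsPrime.mem_or_mem ‹𝔮.IsPrime› h with h1 | h1
    · exact ha h1
    · exact ha (Ideal.IsPrime.mem_of_pow_mem ‹𝔮.IsPrime› _ h1)

/-- Finitely many charts cover the smooth locus. -/
theorem exists_charts [IsNoetherianRing C] (hφ : Function.Surjective φ)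
    (hker : RingHom.ker φ.toRingHom = Ideal.span (Set.range f)) :
    ∃ (K : Type u) (_ : Finite K) (chart : K → Chart f π),
      ∀ (𝔮 : Ideal C) [𝔮.IsPrime], Algebra.IsSmoothAt (R ⧸ Ideal.span {π ^ 2}) 𝔮 →
        ∃ k, φ (chart k).a ∉ 𝔮 := by
  classical
  obtain ⟨U, hU⟩ : ∃ U : Set C, U = Set.range (fun ch : Chart f π => φ ch.a) := ⟨_, rfl⟩
  have hfg : (Submodule.span C U).FG := IsNoetherian.noetherian _
  obtain ⟨T, hTU, hTspan⟩ := (Submodule.fg_span_iff_fg_span_finset_subset U).mp hfg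
  have hT : ∀ t : {t // t ∈ T}, ∃ ch : Chart f π, φ ch.a = t.1 := by
    intro t
    have h0 := hTU (Finset.mem_coe.mpr t.2)
    rw [hU] at h0
    exact h0
  choose chart hchart using hT
  refine ⟨{t // t ∈ T}, inferInstance, chart, ?_⟩
  intro 𝔮 h𝔮 hsm
  haveI := h𝔮
  obtain ⟨ch₀, hch₀⟩ := exists_chart π f φ hφ hker 𝔮 hsm
  by_contra hcon
  have hcon' : ∀ k, φ (chart k).a ∈ 𝔮 :=
    fun k => Classical.byContradiction (fun h => hcon ⟨k, h⟩)
  apply hch₀
  have h1 : Submodule.span C U ≤ 𝔮 := by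
    rw [hTspan, Submodule.span_le]
    intro t ht
    have h0 := hcon' ⟨t, Finset.mem_coe.mp ht⟩
    rw [hchart ⟨t, Finset.mem_coe.mp ht⟩] at h0
    exact h0
  apply h1
  apply Submodule.subset_span
  rw [hU]
  exact ⟨ch₀, rfl⟩

end Charts

section LiftSurj

theorem exists_lift_of_surjective {R A B D : Type*} [CommRing R] [CommRing A] [CommRing B]
    [CommRing D] [Algebra R A] [Algebra R B] [Algebra R D] (φ : A →ₐ[R] B)
    (hφ : Function.Surjective φ) (θ : A →ₐ[R] D) (H : ∀ x, φ x = 0 → θ x = 0) :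
    ∃ ψ : B →ₐ[R] D, ∀ p, ψ (φ p) = θ p := by
  have H' : RingHom.ker φ.toRingHom ≤ RingHom.ker θ.toRingHom := by
    intro x hx
    exact RingHom.mem_ker.mpr (H x (RingHom.mem_ker.mp hx))
  exact ⟨AlgHom.liftOfSurjective φ hφ θ H',
    fun p => AlgHom.liftOfSurjective_apply φ hφ θ H' p⟩

end LiftSurj

section Main

/-- The lifting lemma (Stacks, Smoothing ring maps): `e` is `π ^ 2`. -/
theorem lifting {R Λ C : Type u} [CommRing R] [IsNoetherianRing R] [CommRing Λ] [Algebra R Λ]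
    (π e : R) (he : e = π ^ 2) (hR : ∀ r : R, π ^ 2 * r = 0 → π * r = 0)
    (hΛ : ∀ x : Λ, π ^ 2 • x = 0 → π • x = 0) [CommRing C] [Algebra R C]
    [Algebra (R ⧸ Ideal.span {e}) C] [IsScalarTower R (R ⧸ Ideal.span {e}) C]
    [Algebra.FinitePresentation (R ⧸ Ideal.span {e}) C]
    (g : C →ₐ[R] Λ ⧸ Ideal.span {algebraMap R Λ e}) :
    ∃ (D : Type u) (_ : CommRing D) (_ : Algebra R D), Algebra.FinitePresentation R D ∧
      ∃ (δ : D →ₐ[R] Λ) (ψ : C →ₐ[R] D ⧸ Ideal.span {algebraMap R D π}),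
        (∀ (c : C) (d : D) (l : Λ), Ideal.Quotient.mk (Ideal.span {algebraMap R D π}) d = ψ c →
          Ideal.Quotient.mk (Ideal.span {algebraMap R Λ e}) l = g c →
            δ d - l ∈ Ideal.span {algebraMap R Λ π}) ∧
        (∀ (Q : Ideal D) [Q.IsPrime], algebraMap R D π ∉ Q → Algebra.IsSmoothAt R Q) ∧
        (∀ (Q : Ideal (D ⧸ Ideal.span {algebraMap R D π})) [Q.IsPrime],
          Algebra.IsSmoothAt (R ⧸ Ideal.span {e}) (Q.comap ψ) →
            Algebra.IsSmoothAt R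
              (Q.comap (Ideal.Quotient.mk (Ideal.span {algebraMap R D π})))) := by
  subst he
  haveI : Algebra.FinitePresentation R (R ⧸ Ideal.span {π ^ 2}) :=
    Algebra.FinitePresentation.quotient (Submodule.fg_span_singleton _)
  haveI : Algebra.FinitePresentation R C :=
    Algebra.FinitePresentation.trans R (R ⧸ Ideal.span {π ^ 2}) C
  haveI : IsNoetherianRing C := Algebra.FiniteType.isNoetherianRing R C
  obtain ⟨n, φ, hφ, hfg⟩ := Algebra.FinitePresentation.out (R := R) (A := C)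
  obtain ⟨m, f, hf⟩ := Submodule.fg_iff_exists_fin_generating_family.mp hfg
  have hker : RingHom.ker φ.toRingHom = Ideal.span (Set.range f) := hf.symm
  obtain ⟨K, hK, chart, hcover⟩ := exists_charts π f φ hφ hker
  haveI := hK
  -- the map to `Λ`
  have hlam : ∀ i : Fin n, ∃ l : Λ,
      Ideal.Quotient.mk (Ideal.span {algebraMap R Λ (π ^ 2)}) l = g (φ (X i)) :=
    fun i => Ideal.Quotient.mk_surjective _
  choose lam hlam using hlam
  obtain ⟨ev, hev⟩ : ∃ ev : MvPolynomial (Fin n) R →ₐ[R] Λ, ∀ i, ev (X i) = lam i :=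
    ⟨aeval lam, fun i => aeval_X lam i⟩
  have hevC : ∀ r, ev (MvPolynomial.C r) = algebraMap R Λ r := by
    intro r
    rw [← MvPolynomial.algebraMap_eq]
    exact ev.commutes r
  have hevg : ∀ p, Ideal.Quotient.mk (Ideal.span {algebraMap R Λ (π ^ 2)}) (ev p) = g (φ p) := by
    have h : (Ideal.Quotient.mkₐ R (Ideal.span {algebraMap R Λ (π ^ 2)})).comp ev = g.comp φ := by
      apply MvPolynomial.algHom_ext
      intro i
      show Ideal.Quotient.mk _ (ev (X i)) = g (φ (X i))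
      rw [hev, hlam]
    intro p
    exact AlgHom.congr_fun h p
  have hnu : ∀ ℓ : Fin m, ∃ ν : Λ, ev (f ℓ) = algebraMap R Λ (π ^ 2) * ν := by
    intro ℓ
    have h1 : Ideal.Quotient.mk (Ideal.span {algebraMap R Λ (π ^ 2)}) (ev (f ℓ)) = 0 := by
      rw [hevg]
      have h0 : f ℓ ∈ RingHom.ker φ.toRingHom := by
        rw [hker]
        exact Ideal.subset_span ⟨ℓ, rfl⟩
      have h2 : φ (f ℓ) = 0 := RingHom.mem_ker.mp h0
      rw [h2, map_zero]
    obtain ⟨ν, hν⟩ := Ideal.mem_span_singleton'.mp (Ideal.Quotient.eq_zero_iff_mem.mp h1)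
    exact ⟨ν, by rw [← hν, mul_comm]⟩
  choose ν hν using hnu
  obtain ⟨δ₀, hδX, hδZ⟩ : ∃ δ₀ : MvPolynomial (Fin (n + m)) R →ₐ[R] Λ,
      (∀ i, δ₀ (X (Fin.castAdd m i)) = lam i) ∧
        (∀ ℓ, δ₀ (Z ℓ) = algebraMap R Λ π * ν ℓ) := by
    refine ⟨aeval (Fin.append lam (fun ℓ => algebraMap R Λ π * ν ℓ)), fun i => ?_, fun ℓ => ?_⟩
    · rw [aeval_X, Fin.append_left]
    · unfold Z
      rw [aeval_X, Fin.append_right]
  have hδC : ∀ r, δ₀ (MvPolynomial.C r) = algebraMap R Λ r := by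
    intro r
    rw [← MvPolynomial.algebraMap_eq]
    exact δ₀.commutes r
  have hδι : ∀ p, δ₀ (ι m p) = ev p := by
    have h : δ₀.comp (ι m) = ev := by
      apply MvPolynomial.algHom_ext
      intro i
      show δ₀ (ι m (X i)) = ev (X i)
      rw [ι_X, hδX, hev]
    intro p
    exact AlgHom.congr_fun h p
  have hδF : ∀ ℓ, δ₀ (F f π ℓ) = 0 := by
    intro ℓ
    unfold F
    rw [map_sub, map_mul, hδι, hδC, hδZ, hν, map_pow]
    ring
  have hδpp : ∀ k ℓ, δ₀ (pp f π (chart k) ℓ) = 0 := by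
    intro k ℓ
    obtain ⟨ch, hch⟩ : ∃ ch : Chart f π, ch = chart k := ⟨_, rfl⟩
    rw [← hch]
    have h4 := congrArg ev (ch.h4 ℓ)
    rw [map_mul, map_add, map_sum, map_mul] at h4
    rw [hevC, hν] at h4
    have e0 : ∀ j, ev (ch.H ℓ j * f j) = algebraMap R Λ (π ^ 2) * (ev (ch.H ℓ j) * ν j) := by
      intro j
      rw [map_mul, hν]
      ring
    rw [Finset.sum_congr rfl (fun j _ => e0 j), ← Finset.mul_sum] at h4
    obtain ⟨t, ht⟩ : ∃ t : Λ,
        t = ev ch.a * ν ℓ - ∑ j, ev (ch.H ℓ j) * ν j - ev (ch.g ℓ) := ⟨_, rfl⟩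
    have h5 : π ^ 2 • t = 0 := by
      rw [Algebra.smul_def, ht]
      linear_combination h4
    have h6 := hΛ t h5
    rw [Algebra.smul_def, ht] at h6
    unfold pp
    rw [map_sub, map_sub, map_mul, map_sum, map_mul, hδι, hδZ, hδC, hδι]
    have e1 : ∀ j, δ₀ (ι m (ch.H ℓ j) * Z j) =
        algebraMap R Λ π * (ev (ch.H ℓ j) * ν j) := by
      intro j
      rw [map_mul, hδι, hδZ]
      ring
    rw [Finset.sum_congr rfl (fun j _ => e1 j), ← Finset.mul_sum]
    linear_combination h6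
  have hδFF : ∀ x ∈ FF f π chart, δ₀ x = 0 := by
    have h1 : FF f π chart ≤ RingHom.ker δ₀.toRingHom := by
      unfold FF
      rw [Ideal.span_le]
      rintro _ ⟨s, rfl⟩
      refine RingHom.mem_ker.mpr ?_
      rcases s with ℓ | ⟨k, ℓ⟩
      · exact hδF ℓ
      · exact hδpp k ℓ
    intro x hx
    exact RingHom.mem_ker.mp (h1 hx)
  obtain ⟨δ, hδ⟩ : ∃ δ : (MvPolynomial (Fin (n + m)) R ⧸ FF f π chart) →ₐ[R] Λ,
      ∀ z, δ (Ideal.Quotient.mk (FF f π chart) z) = δ₀ z :=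
    ⟨Ideal.Quotient.liftₐ _ δ₀ hδFF, fun z => rfl⟩
  obtain ⟨θ, hθ⟩ : ∃ θ : MvPolynomial (Fin n) R →ₐ[R]
      ((MvPolynomial (Fin (n + m)) R ⧸ FF f π chart) ⧸
        Ideal.span {algebraMap R (MvPolynomial (Fin (n + m)) R ⧸ FF f π chart) π}),
      ∀ p, θ p = Ideal.Quotient.mk _ (Ideal.Quotient.mk (FF f π chart) (ι m p)) :=
    ⟨(Ideal.Quotient.mkₐ R _).comp ((Ideal.Quotient.mkₐ R (FF f π chart)).comp (ι m)),
      fun p => rfl⟩
  obtain ⟨ψ, hψ⟩ : ∃ ψ : C →ₐ[R]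
      ((MvPolynomial (Fin (n + m)) R ⧸ FF f π chart) ⧸
        Ideal.span {algebraMap R (MvPolynomial (Fin (n + m)) R ⧸ FF f π chart) π}),
      ∀ p, ψ (φ p) = θ p := by
    refine exists_lift_of_surjective (D := (MvPolynomial (Fin (n + m)) R ⧸ FF f π chart) ⧸
        Ideal.span {algebraMap R (MvPolynomial (Fin (n + m)) R ⧸ FF f π chart) π}) φ hφ θ ?_
    intro x hx
    have hx' : x ∈ Ideal.span (Set.range f) := by
      rw [← hker]
      exact RingHom.mem_ker.mpr hx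
    rw [hθ]
    exact Ideal.Quotient.eq_zero_iff_mem.mpr (mk_ι_mem f π chart x hx')
  refine ⟨MvPolynomial (Fin (n + m)) R ⧸ FF f π chart, inferInstance, inferInstance, ?_, δ, ψ,
    ?_, ?_, ?_⟩
  · exact Algebra.FinitePresentation.quotient (FF_fg f π chart)
  · intro c d l hd hl
    obtain ⟨p, rfl⟩ := hφ c
    rw [hψ, hθ] at hd
    have h1 : d - Ideal.Quotient.mk (FF f π chart) (ι m p) ∈
        Ideal.span {algebraMap R (MvPolynomial (Fin (n + m)) R ⧸ FF f π chart) π} :=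
      Ideal.Quotient.eq.mp hd
    obtain ⟨y, hy⟩ := Ideal.mem_span_singleton'.mp h1
    have h2 : ev p - l ∈ Ideal.span {algebraMap R Λ (π ^ 2)} := by
      apply Ideal.Quotient.eq.mp
      rw [hevg, hl]
    obtain ⟨z, hz⟩ := Ideal.mem_span_singleton'.mp h2
    have e1 : δ d - l = δ y * algebraMap R Λ π + z * algebraMap R Λ π * algebraMap R Λ π := by
      have h3 := congrArg δ hy
      rw [map_mul, map_sub, hδ, hδι, AlgHom.commutes] at h3
      rw [map_pow] at hz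
      linear_combination (-1 : Λ) * h3 - hz
    rw [e1]
    exact Ideal.add_mem _ (Ideal.mul_mem_left _ _ (Ideal.subset_span (Set.mem_singleton _)))
      (Ideal.mul_mem_left _ _ (Ideal.subset_span (Set.mem_singleton _)))
  · intro Q hQ hπQ
    haveI := hQ
    exact smooth_b f π chart Q hπQ
  · intro Q hQ hsm
    haveI := hQ
    obtain ⟨k, hk⟩ := hcover (Q.comap ψ) hsm
    have hk' : Ideal.Quotient.mk (FF f π chart) (ι m (chart k).a) ∉
        Q.comap (Ideal.Quotient.mk (Ideal.span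
          {algebraMap R (MvPolynomial (Fin (n + m)) R ⧸ FF f π chart) π})) := by
      intro h
      apply hk
      rw [Ideal.mem_comap, hψ, hθ]
      exact Ideal.mem_comap.mp h
    have hπQ : algebraMap R (MvPolynomial (Fin (n + m)) R ⧸ FF f π chart) π ∈
        Q.comap (Ideal.Quotient.mk (Ideal.span
          {algebraMap R (MvPolynomial (Fin (n + m)) R ⧸ FF f π chart) π})) := by
      rw [Ideal.mem_comap,
        Ideal.Quotient.eq_zero_iff_mem.mpr (Ideal.subset_span (Set.mem_singleton _))]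
      exact Q.zero_mem
    exact smooth_c f π chart hR _ hπQ k hk'

end Main

end Groth.Agent.Lib.LiftMainH4
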