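import Mathlib
import Groth.Prelude.Def_Smoothing
import Groth.Agent.Lib.LiftLemma_helper4
import Groth.Agent.Lib.DesingLemma_helper4
import Groth.Agent.Lib.LiftMain_helper4

/-!
Helper library (helper4): lifting lemma + desingularization lemma combined (Stacks, Smoothing ring
maps, the step `A → C → Λ/π⁸Λ` to `A → B → Λ`).  APPEND-ONLY once landed.
-/

set_option autoImplicit false
set_option linter.unusedVariables false
set_option linter.unusedTactic false
set_option linter.unreachableTactic false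
set_option linter.unusedSectionVars false
set_option linter.style.haveILetI false
set_option maxHeartbeats 800000

universe u

namespace Groth.Agent.Lib.LiftDesingH4

section Sing

theorem mem_singularIdeal_iff {R A : Type u} [CommRing R] [CommRing A] [Algebra R A] (x : A) :
    x ∈ Smoothing.singularIdeal R A ↔
      ∀ (Q : Ideal A) [Q.IsPrime], ¬ Algebra.IsSmoothAt R Q → x ∈ Q := by
  unfold Smoothing.singularIdeal
  rw [PrimeSpectrum.mem_vanishingIdeal]
  constructor
  · intro h Q hQ hns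
    exact h ⟨Q, hQ⟩ hns
  · intro h p hp
    exact h p.asIdeal hp

theorem isSmoothAt_congr {R A : Type*} [CommRing R] [CommRing A] [Algebra R A]
    (P Q : Ideal A) [P.IsPrime] [Q.IsPrime] (h : P = Q) (hs : Algebra.IsSmoothAt R P) :
    Algebra.IsSmoothAt R Q := by
  subst h
  exact hs

end Sing

section Main

theorem main19959 {R Λ A C : Type u} [CommRing R] [IsNoetherianRing R] [CommRing Λ]
    [Algebra R Λ] (π : R) (hR : ∀ r : R, π ^ 2 * r = 0 → π * r = 0)
    (hΛ : ∀ x : Λ, π ^ 2 • x = 0 → π • x = 0) [CommRing A] [Algebra R A]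
    [Algebra.FinitePresentation R A] (φ : A →ₐ[R] Λ)
    (hπ : Smoothing.IsStrictlyStandard R A (algebraMap R A π))
    [CommRing C] [Algebra R C] [Algebra (R ⧸ Ideal.span {π ^ 8}) C]
    [IsScalarTower R (R ⧸ Ideal.span {π ^ 8}) C]
    [Algebra.FinitePresentation (R ⧸ Ideal.span {π ^ 8}) C]
    (γ : A →ₐ[R] C) (g : C →ₐ[R] Λ ⧸ Ideal.span {algebraMap R Λ (π ^ 8)})
    (hfac : ∀ a : A, g (γ a) = Ideal.Quotient.mk (Ideal.span {algebraMap R Λ (π ^ 8)}) (φ a)) :
    ∃ (B : Type u) (_ : CommRing B) (_ : Algebra R B), Algebra.FinitePresentation R B ∧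
      ∃ (α : A →ₐ[R] B) (β : B →ₐ[R] Λ), β.comp α = φ ∧
        (∀ (Q : Ideal B) [Q.IsPrime], algebraMap R B π ∉ Q → Algebra.IsSmoothAt R Q) ∧
        (Smoothing.singularIdeal (R ⧸ Ideal.span {π ^ 8}) C).map g ≤
          ((Smoothing.singularIdeal R B).map β).radical.map
            (Ideal.Quotient.mk (Ideal.span {algebraMap R Λ (π ^ 8)})) := by
  have hR4 : ∀ r : R, (π ^ 4) ^ 2 * r = 0 → π ^ 4 * r = 0 := by
    intro r h
    have h1 : π ^ (7 + 1) • r = 0 := by
      rw [smul_eq_mul]
      have e : π ^ (7 + 1) = (π ^ 4) ^ 2 := by ring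
      rw [e]
      exact h
    have h2 : π • r = 0 := LiftLemmaH4.smul_pow_ann (Λ := R) π hR 7 r h1
    rw [smul_eq_mul] at h2
    calc π ^ 4 * r = π ^ 3 * (π * r) := by ring
      _ = 0 := by rw [h2, mul_zero]
  have hΛ4 : ∀ x : Λ, (π ^ 4) ^ 2 • x = 0 → π ^ 4 • x = 0 := by
    intro x h
    have h1 : π ^ (7 + 1) • x = 0 := by
      have e : π ^ (7 + 1) = (π ^ 4) ^ 2 := by ring
      rw [e]
      exact h
    have h2 : π • x = 0 := LiftLemmaH4.smul_pow_ann π hΛ 7 x h1
    have e4 : π ^ 4 = π ^ 3 * π := by ring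
    rw [e4, mul_smul, h2, smul_zero]
  obtain ⟨D, iD1, iD2, hDfp, δ, ψ, hcompat, hb, hc⟩ :=
    LiftMainH4.lifting (π ^ 4) (π ^ 8) (by ring) hR4 hΛ4 g
  haveI := hDfp
  have hψA : ∀ (a : A) (d : D),
      Ideal.Quotient.mk (Ideal.span {algebraMap R D (π ^ 4)}) d = (ψ.comp γ) a →
        δ d - φ a ∈ Ideal.span {algebraMap R Λ (π ^ 4)} :=
    fun a d hd => hcompat (γ a) d (φ a) hd (hfac a).symm
  obtain ⟨B, iB1, iB2, iB3, iB4, hBfp, α, β, hβα, hβδ, -, hHB⟩ :=
    DesingLemmaH4.desing π hR hΛ φ δ hπ (ψ.comp γ) hψA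
  have hπD : algebraMap R D π ∈ Smoothing.singularIdeal R D := by
    rw [mem_singularIdeal_iff]
    intro Q hQ hns
    haveI := hQ
    by_contra hn
    apply hns
    apply hb Q
    intro h4
    rw [map_pow] at h4
    exact hn (Ideal.IsPrime.mem_of_pow_mem hQ _ h4)
  have hπB : algebraMap R B π ∈ Smoothing.singularIdeal R B := by
    apply hHB
    rw [IsScalarTower.algebraMap_apply R D B]
    exact Ideal.mem_map_of_mem _ hπD
  refine ⟨B, iB1, iB2, hBfp, α, β, hβα, ?_, ?_⟩
  · intro Q hQ hπQ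
    haveI := hQ
    by_contra hns
    exact hπQ ((mem_singularIdeal_iff _).mp hπB Q hns)
  · rw [Ideal.map_le_iff_le_comap]
    intro c hcH
    rw [Ideal.mem_comap]
    obtain ⟨d, hd⟩ := Ideal.Quotient.mk_surjective (ψ c)
    obtain ⟨l, hl⟩ := Ideal.Quotient.mk_surjective (g c)
    have hdH : d ∈ Smoothing.singularIdeal R D := by
      rw [mem_singularIdeal_iff]
      intro Q hQ hns
      haveI := hQ
      have hπQ : algebraMap R D (π ^ 4) ∈ Q := by
        by_contra h
        exact hns (hb Q h)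
      have hker : RingHom.ker (Ideal.Quotient.mk (Ideal.span {algebraMap R D (π ^ 4)})) ≤ Q := by
        rw [Ideal.mk_ker]
        exact (Ideal.span_singleton_le_iff_mem Q).mpr hπQ
      haveI hQ' : (Q.map (Ideal.Quotient.mk (Ideal.span {algebraMap R D (π ^ 4)}))).IsPrime :=
        Ideal.map_isPrime_of_surjective Ideal.Quotient.mk_surjective hker
      have hcomap : (Q.map (Ideal.Quotient.mk (Ideal.span {algebraMap R D (π ^ 4)}))).comap
          (Ideal.Quotient.mk (Ideal.span {algebraMap R D (π ^ 4)})) = Q := by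
        rw [Ideal.comap_map_of_surjective _ Ideal.Quotient.mk_surjective,
          ← RingHom.ker_eq_comap_bot, sup_eq_left]
        exact hker
      have hnsC : ¬ Algebra.IsSmoothAt (R ⧸ Ideal.span {π ^ 8})
          ((Q.map (Ideal.Quotient.mk (Ideal.span {algebraMap R D (π ^ 4)}))).comap ψ) := by
        intro hsm
        apply hns
        exact isSmoothAt_congr _ Q hcomap (hc _ hsm)
      have h1 : c ∈ (Q.map (Ideal.Quotient.mk (Ideal.span {algebraMap R D (π ^ 4)}))).comap ψ :=
        (mem_singularIdeal_iff c).mp hcH _ hnsC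
      rw [Ideal.mem_comap, ← hd] at h1
      rw [← hcomap]
      exact Ideal.mem_comap.mpr h1
    have hδd : δ d ∈ (Smoothing.singularIdeal R B).map β := by
      have e : δ d = β (algebraMap D B d) := by
        rw [← hβδ]
        rfl
      rw [e]
      exact Ideal.mem_map_of_mem β (hHB (Ideal.mem_map_of_mem (algebraMap D B) hdH))
    have hπ4 : algebraMap R Λ (π ^ 4) ∈ (Smoothing.singularIdeal R B).map β := by
      have e : algebraMap R Λ (π ^ 4) = β (algebraMap R B π ^ 4) := by
        rw [← map_pow, AlgHom.commutes]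
      rw [e]
      exact Ideal.mem_map_of_mem β (Ideal.pow_mem_of_mem _ hπB 4 (by norm_num))
    have hcomp := hcompat c d l hd hl
    have hl' : l ∈ (Smoothing.singularIdeal R B).map β := by
      have e : l = δ d - (δ d - l) := by ring
      rw [e]
      exact Ideal.sub_mem _ hδd
        (((Ideal.span_singleton_le_iff_mem _).mpr hπ4) hcomp)
    rw [← hl]
    exact Ideal.mem_map_of_mem _ (Ideal.le_radical hl')

end Main

end Groth.Agent.Lib.LiftDesingH4
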