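import Mathlib
import Groth.Prelude.Def_Smoothing
import Groth.Agent.Lib.LiftDesing_helper4
import Groth.Agent.Lib.Deloc_helper4

/-!
Helper library (helper4): the zero-dimensional local trick (Stacks, Smoothing ring maps): glue a
delocalized resolution `A → C → Λ` (good near `𝔮`) with `A` itself (good where the singular ideal
of `A` does not vanish) when `Λ_𝔮` has dimension zero.  APPEND-ONLY once landed.
-/

set_option autoImplicit false
set_option linter.unusedVariables false
set_option linter.unusedTactic false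
set_option linter.unreachableTactic false
set_option linter.unusedSectionVars false
set_option linter.style.haveILetI false
set_option maxHeartbeats 800000

universe u

open scoped TensorProduct

namespace Groth.Agent.Lib.Deloc2H4

open Groth.Agent.Lib.DelocH4 (exists_kill main2033)
open Groth.Agent.Lib.LiftDesingH4 (mem_singularIdeal_iff)

section General

/-- Formal smoothness of a local ring of `B` from a lifting property formulated on `B`. -/
theorem formallySmooth_of_lift {K B : Type u} [CommRing K] [CommRing B] (P : Ideal B) [P.IsPrime]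
    [Algebra K (Localization.AtPrime P)]
    (H : ∀ (T : Type u) [CommRing T] [Algebra K T] (I : Ideal T) (hI : I ^ 2 = ⊥)
      (u : Localization.AtPrime P →ₐ[K] T ⧸ I),
      ∃ ψ : B →+* T, (∀ b, Ideal.Quotient.mk I (ψ b) = u (algebraMap B (Localization.AtPrime P) b)) ∧
        ∀ k : K, ∃ b : B, algebraMap B (Localization.AtPrime P) b =
          algebraMap K (Localization.AtPrime P) k ∧ ψ b = algebraMap K T k) :
    Algebra.FormallySmooth K (Localization.AtPrime P) := by
  refine Algebra.FormallySmooth.of_comp_surjective (fun T _ _ I hI u => ?_)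
  obtain ⟨ψ, hψ, hψK⟩ := H T I hI u
  have hnil : IsNilpotent I := ⟨2, hI⟩
  have hunits : ∀ s : P.primeCompl, IsUnit (ψ s) := by
    intro s
    apply (IsNilpotent.isUnit_quotient_mk_iff hnil).mp
    rw [hψ]
    exact (IsLocalization.map_units (Localization.AtPrime P) s).map u
  obtain ⟨ut, hut⟩ : ∃ ut : Localization.AtPrime P →+* T,
      ∀ b, ut (algebraMap B (Localization.AtPrime P) b) = ψ b :=
    ⟨IsLocalization.lift hunits, IsLocalization.lift_eq hunits⟩
  have hcomm : ∀ k : K, ut (algebraMap K (Localization.AtPrime P) k) = algebraMap K T k := by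
    intro k
    obtain ⟨b, hb1, hb2⟩ := hψK k
    rw [← hb1, hut, hb2]
  refine ⟨{ ut with commutes' := hcomm }, ?_⟩
  apply AlgHom.coe_ringHom_injective
  refine IsLocalization.ringHom_ext P.primeCompl ?_
  ext b
  show Ideal.Quotient.mk I (ut (algebraMap B (Localization.AtPrime P) b)) =
    u (algebraMap B (Localization.AtPrime P) b)
  rw [hut, hψ]

/-- Transitivity of smoothness along `R → C → E` when `E` is local over the prime `𝔠` of `C`. -/
theorem formallySmooth_trans_local {R C E : Type u} [CommRing R] [CommRing C] [CommRing E]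
    [Algebra R C] [Algebra C E] [Algebra R E] [IsScalarTower R C E]
    (𝔠 : Ideal C) [𝔠.IsPrime] (hunits : ∀ s : 𝔠.primeCompl, IsUnit (algebraMap C E s))
    (h1 : Algebra.FormallySmooth C E) (h2 : Algebra.IsSmoothAt R 𝔠) :
    Algebra.FormallySmooth R E := by
  letI : Algebra (Localization.AtPrime 𝔠) E := (IsLocalization.lift hunits).toAlgebra
  haveI tw1 : IsScalarTower C (Localization.AtPrime 𝔠) E :=
    IsScalarTower.of_algebraMap_eq (fun c => (IsLocalization.lift_eq hunits c).symm)
  haveI tw2 : IsScalarTower R (Localization.AtPrime 𝔠) E := by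
    refine IsScalarTower.of_algebraMap_eq (fun r => ?_)
    have e1 : algebraMap R E r = algebraMap C E (algebraMap R C r) :=
      IsScalarTower.algebraMap_apply R C E r
    have e2 : algebraMap R (Localization.AtPrime 𝔠) r =
        algebraMap C (Localization.AtPrime 𝔠) (algebraMap R C r) :=
      IsScalarTower.algebraMap_apply R C (Localization.AtPrime 𝔠) r
    have e3 : algebraMap C E (algebraMap R C r) =
        algebraMap (Localization.AtPrime 𝔠) E
          (algebraMap C (Localization.AtPrime 𝔠) (algebraMap R C r)) :=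
      IsScalarTower.algebraMap_apply C (Localization.AtPrime 𝔠) E _
    rw [e1, e2, e3]
  haveI : Algebra.FormallySmooth R (Localization.AtPrime 𝔠) := h2
  haveI := h1
  haveI : Algebra.FormallySmooth (Localization.AtPrime 𝔠) E :=
    Algebra.FormallySmooth.localization_base 𝔠.primeCompl
  exact Algebra.FormallySmooth.comp R (Localization.AtPrime 𝔠) E

theorem aeval_gen {A C T : Type*} {n : ℕ} [CommRing A] [CommRing C] [CommRing T] [Algebra A C]
    [Algebra A T] (πC : MvPolynomial (Fin n) A →ₐ[A] C) (ψ : C →ₐ[A] T)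
    (p : MvPolynomial (Fin n) A) :
    MvPolynomial.aeval (fun l => ψ (πC (MvPolynomial.X l))) p = ψ (πC p) :=
  (AlgHom.congr_fun (MvPolynomial.aeval_unique (ψ.comp πC)) p).symm

end General

/-- The variables of the glued algebra. -/
inductive Var (n r m : ℕ) : Type
  | x (l : Fin n) : Var n r m
  | y (i : Fin r) : Var n r m
  | z : Var n r m
  | t (i : Fin r) (j : Fin m) : Var n r m
  deriving DecidableEq, Fintype

section Glue

variable {A : Type u} [CommRing A] {n m : ℕ} (r : ℕ)

/-- embedding of the `x`-polynomials. -/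
noncomputable def emb : MvPolynomial (Fin n) A →ₐ[A] MvPolynomial (Var n r m) A :=
  MvPolynomial.rename Var.x

/-- first family of relations. -/
noncomputable def rel1 (f : Fin m → MvPolynomial (Fin n) A) (j : Fin m) :
    MvPolynomial (Var n r m) A :=
  emb r (f j) - ∑ i : Fin r, MvPolynomial.X (Var.y i) * MvPolynomial.X (Var.t i j)

/-- second family of relations. -/
noncomputable def rel2 (i : Fin r) : MvPolynomial (Var n r m) A :=
  MvPolynomial.X Var.z * MvPolynomial.X (Var.y i)

/-- the relation ideal. -/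
noncomputable def J1 (f : Fin m → MvPolynomial (Fin n) A) : Ideal (MvPolynomial (Var n r m) A) :=
  Ideal.span (Set.range (rel1 r f)) ⊔ Ideal.span (Set.range (rel2 r))

/-- the glued algebra. -/
abbrev BB (f : Fin m → MvPolynomial (Fin n) A) := MvPolynomial (Var n r m) A ⧸ J1 r f

theorem rel1_mem (f : Fin m → MvPolynomial (Fin n) A) (j : Fin m) : rel1 r f j ∈ J1 r f :=
  Ideal.mem_sup_left (Ideal.subset_span ⟨j, rfl⟩)

theorem rel2_mem (f : Fin m → MvPolynomial (Fin n) A) (i : Fin r) :
    (rel2 r i : MvPolynomial (Var n r m) A) ∈ J1 r f :=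
  Ideal.mem_sup_right (Ideal.subset_span ⟨i, rfl⟩)

theorem J1_fg (f : Fin m → MvPolynomial (Fin n) A) : (J1 r f).FG :=
  Submodule.FG.sup (Submodule.fg_span (Set.finite_range _)) (Submodule.fg_span (Set.finite_range _))

theorem exists_lift_J1 (f : Fin m → MvPolynomial (Fin n) A) {T : Type*} [CommRing T] [Algebra A T]
    (val : Var n r m → T)
    (h1 : ∀ j, MvPolynomial.aeval (fun l => val (Var.x l)) (f j) =
      ∑ i, val (Var.y i) * val (Var.t i j))
    (h2 : ∀ i, val Var.z * val (Var.y i) = 0) :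
    ∃ ψ : BB r f →ₐ[A] T,
      ∀ F, ψ (Ideal.Quotient.mk (J1 r f) F) = MvPolynomial.aeval val F := by
  have hle : ∀ F ∈ J1 r f, MvPolynomial.aeval val F = 0 := by
    intro F hF
    have hle' : J1 r f ≤
        RingHom.ker (MvPolynomial.aeval val : MvPolynomial (Var n r m) A →ₐ[A] T) := by
      unfold J1
      refine sup_le (Ideal.span_le.mpr ?_) (Ideal.span_le.mpr ?_)
      · rintro _ ⟨j, rfl⟩
        show MvPolynomial.aeval val (rel1 r f j) = 0
        unfold rel1 emb
        rw [map_sub, MvPolynomial.aeval_rename, map_sum]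
        simp only [map_mul, MvPolynomial.aeval_X]
        rw [sub_eq_zero]
        exact h1 j
      · rintro _ ⟨i, rfl⟩
        show MvPolynomial.aeval val (rel2 r i) = 0
        unfold rel2
        rw [map_mul, MvPolynomial.aeval_X, MvPolynomial.aeval_X]
        exact h2 i
    exact hle' hF
  exact ⟨Ideal.Quotient.liftₐ (J1 r f) (MvPolynomial.aeval val) hle, fun F => rfl⟩

theorem rels_of_hom (f : Fin m → MvPolynomial (Fin n) A) {T : Type*} [CommRing T] [Algebra A T]
    (Θ : BB r f →ₐ[A] T) :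
    (∀ j, MvPolynomial.aeval
        (fun l => Θ (Ideal.Quotient.mk (J1 r f) (MvPolynomial.X (Var.x l)))) (f j) =
      ∑ k, Θ (Ideal.Quotient.mk (J1 r f) (MvPolynomial.X (Var.y k))) *
        Θ (Ideal.Quotient.mk (J1 r f) (MvPolynomial.X (Var.t k j)))) ∧
    (∀ k, Θ (Ideal.Quotient.mk (J1 r f) (MvPolynomial.X Var.z)) *
      Θ (Ideal.Quotient.mk (J1 r f) (MvPolynomial.X (Var.y k))) = 0) := by
  constructor
  · intro j
    have h0 : Θ (Ideal.Quotient.mk (J1 r f) (rel1 r f j)) = 0 := by
      rw [Ideal.Quotient.eq_zero_iff_mem.mpr (rel1_mem r f j), map_zero]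
    have e : ∀ p : MvPolynomial (Fin n) A, Θ (Ideal.Quotient.mk (J1 r f) (emb r p)) =
        MvPolynomial.aeval
          (fun l => Θ (Ideal.Quotient.mk (J1 r f) (MvPolynomial.X (Var.x l)))) p := by
      intro p
      have h3 : (Θ.comp ((Ideal.Quotient.mkₐ A (J1 r f)).comp (emb r))) =
          MvPolynomial.aeval
            (fun l => Θ (Ideal.Quotient.mk (J1 r f) (MvPolynomial.X (Var.x l)))) := by
        refine MvPolynomial.algHom_ext (fun l => ?_)
        show Θ (Ideal.Quotient.mk (J1 r f) (emb r (MvPolynomial.X l))) = _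
        unfold emb
        rw [MvPolynomial.rename_X, MvPolynomial.aeval_X]
      exact AlgHom.congr_fun h3 p
    unfold rel1 at h0
    rw [map_sub, map_sub, e, sub_eq_zero] at h0
    rw [h0, map_sum, map_sum]
    refine Finset.sum_congr rfl (fun k _ => ?_)
    rw [map_mul, map_mul]
  · intro k
    have h0 : Θ (Ideal.Quotient.mk (J1 r f) (rel2 r k)) = 0 := by
      rw [Ideal.Quotient.eq_zero_iff_mem.mpr (rel2_mem r f k), map_zero]
    unfold rel2 at h0
    rw [map_mul, map_mul] at h0
    exact h0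

end Glue

section Smooth

variable {A : Type u} [CommRing A] {n m : ℕ} (r : ℕ)

open MvPolynomial in
theorem smooth_y (f : Fin m → MvPolynomial (Fin n) A) (P : Ideal (BB r f)) [P.IsPrime] (i : Fin r)
    (hyi : Ideal.Quotient.mk (J1 r f) (X (Var.y i)) ∉ P) :
    Algebra.FormallySmooth A (Localization.AtPrime P) := by
  classical
  refine formallySmooth_of_lift P (fun T _ _ I hI u => ?_)
  have hnil : IsNilpotent I := ⟨2, hI⟩
  obtain ⟨Θ, hΘ⟩ : ∃ Θ : BB r f →ₐ[A] T ⧸ I, ∀ b, Θ b = u (algebraMap (BB r f) _ b) :=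
    ⟨u.comp (IsScalarTower.toAlgHom A (BB r f) (Localization.AtPrime P)), fun _ => rfl⟩
  obtain ⟨relT1, relT2⟩ := rels_of_hom r f Θ
  choose lift hlift using fun v : Var n r m =>
    Ideal.Quotient.mk_surjective (Θ (Ideal.Quotient.mk (J1 r f) (X v)))
  have hunitT : IsUnit (Θ (Ideal.Quotient.mk (J1 r f) (X (Var.y i)))) := by
    rw [hΘ]
    exact (IsLocalization.map_units (Localization.AtPrime P) (⟨_, hyi⟩ : P.primeCompl)).map u
  have hy_unit : IsUnit (lift (Var.y i)) := by
    apply (IsNilpotent.isUnit_quotient_mk_iff hnil).mp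
    rw [hlift]
    exact hunitT
  obtain ⟨w, hw⟩ := hy_unit.exists_left_inv
  have hz0 : Θ (Ideal.Quotient.mk (J1 r f) (X Var.z)) = 0 :=
    (IsUnit.mul_left_eq_zero hunitT).mp (relT2 i)
  obtain ⟨ε, hε⟩ : ∃ ε : Fin m → T, ∀ j, ε j = aeval (fun l => lift (Var.x l)) (f j) -
      ∑ k, lift (Var.y k) * lift (Var.t k j) := ⟨_, fun _ => rfl⟩
  have hεI : ∀ j, ε j ∈ I := by
    intro j
    rw [← Ideal.Quotient.eq_zero_iff_mem, hε, map_sub, map_sum]
    have h1 : Ideal.Quotient.mk I (aeval (fun l => lift (Var.x l)) (f j)) =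
        aeval (fun l => Θ (Ideal.Quotient.mk (J1 r f) (X (Var.x l)))) (f j) := by
      have h2 := MvPolynomial.comp_aeval_apply (f := fun l => lift (Var.x l))
        (Ideal.Quotient.mkₐ A I) (f j)
      have h3 : (fun l => (Ideal.Quotient.mkₐ A I) (lift (Var.x l))) =
          fun l => Θ (Ideal.Quotient.mk (J1 r f) (X (Var.x l))) :=
        funext (fun l => hlift (Var.x l))
      rw [h3] at h2
      exact h2
    rw [h1, relT1 j, sub_eq_zero]
    refine Finset.sum_congr rfl (fun k _ => ?_)
    rw [map_mul, hlift, hlift]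
  obtain ⟨val, hvx, hvy, hvz, hvt⟩ : ∃ val : Var n r m → T,
      (∀ l, val (Var.x l) = lift (Var.x l)) ∧ (∀ k, val (Var.y k) = lift (Var.y k)) ∧
      val Var.z = 0 ∧
      (∀ k j, val (Var.t k j) = lift (Var.t k j) + (if k = i then w * ε j else 0)) :=
    ⟨fun v => match v with
      | Var.x l => lift (Var.x l)
      | Var.y k => lift (Var.y k)
      | Var.z => 0
      | Var.t k j => lift (Var.t k j) + (if k = i then w * ε j else 0),
      fun _ => rfl, fun _ => rfl, rfl, fun _ _ => rfl⟩
  have h1 : ∀ j, aeval (fun l => val (Var.x l)) (f j) = ∑ k, val (Var.y k) * val (Var.t k j) := by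
    intro j
    have hfun : (fun l => val (Var.x l)) = fun l => lift (Var.x l) := funext hvx
    rw [hfun]
    have hsum : ∑ k, val (Var.y k) * val (Var.t k j) =
        ∑ k, lift (Var.y k) * lift (Var.t k j) + ε j := by
      simp only [hvy, hvt, mul_add, Finset.sum_add_distrib, mul_ite, mul_zero,
        Finset.sum_ite_eq', Finset.mem_univ, if_true]
      congr 1
      rw [← mul_assoc, mul_comm (lift (Var.y i)) w, hw, one_mul]
    rw [hsum, hε j]
    ring
  have h2 : ∀ k, val Var.z * val (Var.y k) = 0 := by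
    intro k
    rw [hvz, zero_mul]
  obtain ⟨ψ, hψ⟩ := exists_lift_J1 r f val h1 h2
  refine ⟨ψ.toRingHom, ?_, ?_⟩
  · have key : (Ideal.Quotient.mkₐ A I).comp (ψ.comp (Ideal.Quotient.mkₐ A (J1 r f))) =
        Θ.comp (Ideal.Quotient.mkₐ A (J1 r f)) := by
      refine MvPolynomial.algHom_ext (fun v => ?_)
      show Ideal.Quotient.mk I (ψ (Ideal.Quotient.mk (J1 r f) (X v))) =
        Θ (Ideal.Quotient.mk (J1 r f) (X v))
      rw [hψ, aeval_X]
      cases v with
      | x l => rw [hvx, hlift]
      | y k => rw [hvy, hlift]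
      | z => rw [hvz, map_zero, hz0]
      | t k j =>
        rw [hvt, map_add, hlift]
        have h0 : Ideal.Quotient.mk I (if k = i then w * ε j else 0) = 0 := by
          split_ifs
          · exact Ideal.Quotient.eq_zero_iff_mem.mpr (I.mul_mem_left w (hεI j))
          · exact map_zero _
        rw [h0, add_zero]
    intro b
    obtain ⟨F, rfl⟩ := Ideal.Quotient.mk_surjective b
    rw [← hΘ]
    exact AlgHom.congr_fun key F
  · intro k
    exact ⟨algebraMap A (BB r f) k,
      (IsScalarTower.algebraMap_apply A (BB r f) (Localization.AtPrime P) k).symm, ψ.commutes k⟩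

open MvPolynomial in
theorem smooth_z {C : Type u} [CommRing C] [Algebra A C] (f : Fin m → MvPolynomial (Fin n) A)
    (πC : MvPolynomial (Fin n) A →ₐ[A] C) (hπ : Function.Surjective πC)
    (hker : ∀ p, πC p = 0 → p ∈ Ideal.span (Set.range f)) (hfker : ∀ j, πC (f j) = 0)
    (P : Ideal (BB r f)) [P.IsPrime]
    (hz : Ideal.Quotient.mk (J1 r f) (X Var.z) ∉ P) :
    ∃ ι : C →ₐ[A] Localization.AtPrime P,
      (∀ p, ι (πC p) = algebraMap (BB r f) (Localization.AtPrime P)
        (Ideal.Quotient.mk (J1 r f) (emb r p))) ∧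
      @Algebra.FormallySmooth C (Localization.AtPrime P) _ _ ι.toRingHom.toAlgebra := by
  classical
  obtain ⟨Θ, hΘ⟩ : ∃ Θ : BB r f →ₐ[A] Localization.AtPrime P,
      ∀ b, Θ b = algebraMap (BB r f) _ b :=
    ⟨IsScalarTower.toAlgHom A (BB r f) (Localization.AtPrime P), fun _ => rfl⟩
  obtain ⟨relE1, relE2⟩ := rels_of_hom r f (T := Localization.AtPrime P) Θ
  have hzunit : IsUnit (Θ (Ideal.Quotient.mk (J1 r f) (X Var.z))) := by
    rw [hΘ]
    exact IsLocalization.map_units (Localization.AtPrime P) (⟨_, hz⟩ : P.primeCompl)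
  have hy0 : ∀ k, Θ (Ideal.Quotient.mk (J1 r f) (X (Var.y k))) = 0 :=
    fun k => (IsUnit.mul_right_eq_zero hzunit).mp (relE2 k)
  obtain ⟨θ, hθ⟩ : ∃ θ : MvPolynomial (Fin n) A →ₐ[A] Localization.AtPrime P,
      ∀ p, θ p = Θ (Ideal.Quotient.mk (J1 r f) (emb r p)) :=
    ⟨Θ.comp ((Ideal.Quotient.mkₐ A (J1 r f)).comp (emb r)), fun _ => rfl⟩
  have hθf : ∀ j, θ (f j) = 0 := by
    intro j
    have h1 : Ideal.Quotient.mk (J1 r f) (emb r (f j)) =
        Ideal.Quotient.mk (J1 r f) (∑ k : Fin r, X (Var.y k) * X (Var.t k j)) :=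
      Ideal.Quotient.eq.mpr (rel1_mem r f j)
    rw [hθ, h1, map_sum, map_sum]
    refine Finset.sum_eq_zero (fun k _ => ?_)
    rw [map_mul, map_mul, hy0 k, zero_mul]
  have hθker : ∀ p, πC p = 0 → θ p = 0 := by
    intro p hp
    have hle : Ideal.span (Set.range f) ≤ RingHom.ker θ := by
      rw [Ideal.span_le]
      rintro _ ⟨j, rfl⟩
      exact RingHom.mem_ker.mpr (hθf j)
    exact RingHom.mem_ker.mp (hle (hker p hp))
  obtain ⟨ι, hι⟩ := Groth.Agent.Lib.LiftMainH4.exists_lift_of_surjective
    (D := Localization.AtPrime P) πC hπ θ hθker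
  refine ⟨ι, fun p => by rw [hι, hθ, hΘ], ?_⟩
  letI algCE : Algebra C (Localization.AtPrime P) := ι.toRingHom.toAlgebra
  haveI twACE : IsScalarTower A C (Localization.AtPrime P) :=
    IsScalarTower.of_algebraMap_eq (fun a => (ι.commutes a).symm)
  refine formallySmooth_of_lift P (fun T _ _ I hI u => ?_)
  letI algAT : Algebra A T := Algebra.compHom T (algebraMap A C)
  haveI twACT : IsScalarTower A C T := IsScalarTower.of_algebraMap_eq (fun _ => rfl)
  obtain ⟨Θu, hΘu⟩ : ∃ Θu : BB r f →ₐ[A] T ⧸ I, ∀ b, Θu b = u (Θ b) :=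
    ⟨(u.restrictScalars A).comp Θ, fun _ => rfl⟩
  choose lift hlift using fun v : Var n r m =>
    Ideal.Quotient.mk_surjective (Θu (Ideal.Quotient.mk (J1 r f) (X v)))
  obtain ⟨val, hvx, hvy, hvz, hvt⟩ : ∃ val : Var n r m → T,
      (∀ l, val (Var.x l) = algebraMap C T (πC (X l))) ∧ (∀ k, val (Var.y k) = 0) ∧
      val Var.z = lift Var.z ∧ (∀ k j, val (Var.t k j) = lift (Var.t k j)) :=
    ⟨fun v => match v with
      | Var.x l => algebraMap C T (πC (X l))
      | Var.y k => 0
      | Var.z => lift Var.z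
      | Var.t k j => lift (Var.t k j),
      fun _ => rfl, fun _ => rfl, rfl, fun _ _ => rfl⟩
  have haux : ∀ p : MvPolynomial (Fin n) A,
      aeval (fun l => val (Var.x l)) p = algebraMap C T (πC p) := by
    intro p
    have hfun : (fun l => val (Var.x l)) =
        fun l => (IsScalarTower.toAlgHom A C T) (πC (X l)) := funext hvx
    rw [hfun, aeval_gen πC (IsScalarTower.toAlgHom A C T) p]
    rfl
  have h1 : ∀ j, aeval (fun l => val (Var.x l)) (f j) = ∑ k, val (Var.y k) * val (Var.t k j) := by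
    intro j
    rw [haux, hfker j, map_zero]
    symm
    refine Finset.sum_eq_zero (fun k _ => ?_)
    rw [hvy, zero_mul]
  have h2 : ∀ k, val Var.z * val (Var.y k) = 0 := by
    intro k
    rw [hvy, mul_zero]
  obtain ⟨ψ, hψ⟩ := exists_lift_J1 r f val h1 h2
  refine ⟨ψ.toRingHom, ?_, ?_⟩
  · have key : (Ideal.Quotient.mkₐ A I).comp (ψ.comp (Ideal.Quotient.mkₐ A (J1 r f))) =
        Θu.comp (Ideal.Quotient.mkₐ A (J1 r f)) := by
      refine MvPolynomial.algHom_ext (fun v => ?_)
      show Ideal.Quotient.mk I (ψ (Ideal.Quotient.mk (J1 r f) (X v))) =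
        Θu (Ideal.Quotient.mk (J1 r f) (X v))
      rw [hψ, aeval_X]
      cases v with
      | x l =>
        rw [hvx, hΘu]
        have e1 : Θ (Ideal.Quotient.mk (J1 r f) (X (Var.x l))) = ι (πC (X l)) := by
          rw [hι, hθ]
          unfold emb
          rw [rename_X]
        rw [e1]
        exact (u.commutes (πC (X l))).symm
      | y k => rw [hvy, map_zero, hΘu, hy0 k, map_zero]
      | z => rw [hvz, hlift]
      | t k j => rw [hvt, hlift]
    intro b
    obtain ⟨F, rfl⟩ := Ideal.Quotient.mk_surjective b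
    rw [← hΘ, ← hΘu]
    exact AlgHom.congr_fun key F
  · intro c
    obtain ⟨p, rfl⟩ := hπ c
    refine ⟨Ideal.Quotient.mk (J1 r f) (emb r p), ?_, ?_⟩
    · show _ = ι (πC p)
      rw [hι, hθ, hΘ]
    · show ψ (Ideal.Quotient.mk (J1 r f) (emb r p)) = algebraMap C T (πC p)
      rw [hψ]
      unfold emb
      rw [aeval_rename]
      exact haux p

end Smooth

section Main

open MvPolynomial in
theorem main2034 {R A Λ Rₚ Λq : Type u} [CommRing R] [IsNoetherianRing R] [CommRing A]
    [Algebra R A] [Algebra.FinitePresentation R A] [CommRing Λ] [Algebra R Λ] (φ : A →ₐ[R] Λ)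
    (𝔮 : Ideal Λ) [𝔮.IsPrime] (hmin : 𝔮 ∈ (Smoothing.singRad R φ).minimalPrimes)
    [CommRing Rₚ] [Algebra R Rₚ] [IsLocalization.AtPrime Rₚ (𝔮.comap (algebraMap R Λ))]
    [CommRing Λq] [Algebra Λ Λq] [IsLocalization.AtPrime Λq 𝔮] [Algebra R Λq] [IsScalarTower R Λ Λq]
    [Algebra Rₚ Λq] [IsScalarTower R Rₚ Λq] (hdim : ringKrullDim Λq = 0)
    (hres : Smoothing.Resolvable Rₚ
      (Algebra.TensorProduct.lift (Algebra.ofId Rₚ Λq) ((IsScalarTower.toAlgHom R Λ Λq).comp φ)
        (fun _ _ => Commute.all _ _) : Rₚ ⊗[R] A →ₐ[Rₚ] Λq) (𝔮.map (algebraMap Λ Λq))) :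
    Smoothing.Resolvable R φ 𝔮 := by
  classical
  obtain ⟨C, _, _, hCfp, gC, hC, hcomp, hCns⟩ := main2033 φ 𝔮 hres
  haveI := hCfp
  rw [Ideal.map_le_iff_le_comap] at hCns
  obtain ⟨c, hcH, hcn⟩ := SetLike.not_le_iff_exists.mp hCns
  have hcn' : hC c ∉ 𝔮 := hcn
  haveI hAN : IsNoetherianRing A := Algebra.FiniteType.isNoetherianRing R A
  obtain ⟨r, a, ha0⟩ := Submodule.fg_iff_exists_fin_generating_family.mp
    (IsNoetherian.noetherian (Smoothing.singularIdeal R A))
  have ha : Ideal.span (Set.range a) = Smoothing.singularIdeal R A := ha0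
  have haH : ∀ i, a i ∈ Smoothing.singularIdeal R A := by
    intro i
    rw [← ha]
    exact Ideal.subset_span ⟨i, rfl⟩
  haveI hloc : IsLocalRing Λq := IsLocalization.AtPrime.isLocalRing Λq 𝔮
  haveI hK : Ring.KrullDimLE 0 Λq := Ring.krullDimLE_iff.mpr (by rw [hdim]; simp)
  have haq : ∀ i, φ (a i) ∈ 𝔮 := by
    intro i
    have h2 : φ (a i) ∈ Smoothing.singRad R φ :=
      Ideal.le_radical (Ideal.mem_map_of_mem φ (haH i))
    exact hmin.1.2 h2
  have hnilp : ∀ i, ∃ N : ℕ, algebraMap Λ Λq (φ (a i)) ^ N = 0 := by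
    intro i
    have h1 : algebraMap Λ Λq (φ (a i)) ∈ IsLocalRing.maximalIdeal Λq :=
      (IsLocalization.AtPrime.to_map_mem_maximal_iff Λq 𝔮 _).mpr (haq i)
    exact Ring.KrullDimLE.isNilpotent_iff_mem_maximalIdeal.mpr h1
  choose Ni hNi using hnilp
  obtain ⟨N, hN⟩ : ∃ N, ∀ i, Ni i ≤ N :=
    ⟨Finset.univ.sup Ni, fun i => Finset.le_sup (Finset.mem_univ i)⟩
  have hZ0 : ∀ z ∈ (Finset.univ.image (fun i => φ (a i) ^ N) : Finset Λ),
      algebraMap Λ Λq z = 0 := by
    intro z hz
    obtain ⟨i, -, rfl⟩ := Finset.mem_image.mp hz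
    rw [map_pow]
    exact pow_eq_zero_of_le (hN i) (hNi i)
  obtain ⟨lam, hlam, hlamZ⟩ := exists_kill (Λq := Λq) 𝔮.primeCompl _ hZ0
  have hlam' : lam ∉ 𝔮 := hlam
  have hlamN : ∀ i, lam * φ (a i) ^ N = 0 :=
    fun i => hlamZ _ (Finset.mem_image.mpr ⟨i, Finset.mem_univ i, rfl⟩)
  -- `C` as an `A`-algebra
  letI aAC : Algebra A C := gC.toRingHom.toAlgebra
  haveI twRAC : IsScalarTower R A C :=
    IsScalarTower.of_algebraMap_eq (fun r => (gC.commutes r).symm)
  haveI hCfpA : Algebra.FinitePresentation A C :=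
    Algebra.FinitePresentation.of_restrict_scalars_finitePresentation R A C
  obtain ⟨n, πC, hπ, hkerfg⟩ := Algebra.FinitePresentation.out (R := A) (A := C)
  obtain ⟨m, f, hf0⟩ := Submodule.fg_iff_exists_fin_generating_family.mp hkerfg
  have hf : Ideal.span (Set.range f) = RingHom.ker πC.toRingHom := hf0
  have hfker : ∀ j, πC (f j) = 0 := by
    intro j
    have h1 : f j ∈ RingHom.ker πC.toRingHom := by
      rw [← hf]
      exact Ideal.subset_span ⟨j, rfl⟩
    exact RingHom.mem_ker.mp h1
  have hker : ∀ p, πC p = 0 → p ∈ Ideal.span (Set.range f) := by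
    intro p hp
    rw [hf]
    exact RingHom.mem_ker.mpr hp
  -- `Λ` as an `A`-algebra
  letI aAΛ : Algebra A Λ := φ.toRingHom.toAlgebra
  haveI twRAΛ : IsScalarTower R A Λ :=
    IsScalarTower.of_algebraMap_eq (fun r => (φ.commutes r).symm)
  obtain ⟨hCA, hhCA⟩ : ∃ hCA : C →ₐ[A] Λ, ∀ c, hCA c = hC c :=
    ⟨{ hC.toRingHom with commutes' := fun a => AlgHom.congr_fun hcomp a }, fun _ => rfl⟩
  obtain ⟨valΛ, hvx, hvy, hvz, hvt⟩ : ∃ valΛ : Var n r m → Λ,
      (∀ l, valΛ (Var.x l) = hCA (πC (X l))) ∧ (∀ i, valΛ (Var.y i) = φ (a i) ^ N) ∧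
      valΛ Var.z = lam ∧ (∀ i j, valΛ (Var.t i j) = 0) :=
    ⟨fun v => match v with
      | Var.x l => hCA (πC (X l))
      | Var.y i => φ (a i) ^ N
      | Var.z => lam
      | Var.t i j => 0,
      fun _ => rfl, fun _ => rfl, rfl, fun _ _ => rfl⟩
  have hauxΛ : ∀ p : MvPolynomial (Fin n) A,
      aeval (fun l => valΛ (Var.x l)) p = hCA (πC p) := by
    intro p
    have hfun : (fun l => valΛ (Var.x l)) = fun l => hCA (πC (X l)) := funext hvx
    rw [hfun, aeval_gen πC hCA p]
  have h1Λ : ∀ j, aeval (fun l => valΛ (Var.x l)) (f j) =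
      ∑ i, valΛ (Var.y i) * valΛ (Var.t i j) := by
    intro j
    rw [hauxΛ, hfker j, map_zero]
    symm
    refine Finset.sum_eq_zero (fun k _ => ?_)
    rw [hvt, mul_zero]
  have h2Λ : ∀ i, valΛ Var.z * valΛ (Var.y i) = 0 := by
    intro i
    rw [hvz, hvy]
    exact hlamN i
  obtain ⟨hB, hhB⟩ := exists_lift_J1 r f valΛ h1Λ h2Λ
  haveI hQfp : Algebra.FinitePresentation R (MvPolynomial (Var n r m) A) :=
    Algebra.FinitePresentation.trans R A (MvPolynomial (Var n r m) A)
  have hBfp : Algebra.FinitePresentation R (BB r f) :=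
    Algebra.FinitePresentation.quotient (J1_fg r f)
  -- elements of the singular ideal of `B`
  have hY : ∀ i, (Ideal.Quotient.mk (J1 r f) (X (Var.y i)) : BB r f) *
      algebraMap A (BB r f) (a i) ∈ Smoothing.singularIdeal R (BB r f) := by
    intro i
    rw [mem_singularIdeal_iff]
    intro P hP hns
    by_contra hnot
    apply hns
    have hyi : Ideal.Quotient.mk (J1 r f) (X (Var.y i)) ∉ P :=
      fun h => hnot (P.mul_mem_right _ h)
    have hai : algebraMap A (BB r f) (a i) ∉ P := fun h => hnot (P.mul_mem_left _ h)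
    have fsA : Algebra.FormallySmooth A (Localization.AtPrime P) := smooth_y r f P i hyi
    have hsmA : Algebra.IsSmoothAt R (P.comap (algebraMap A (BB r f))) := by
      by_contra hcon
      exact hai ((mem_singularIdeal_iff (a i)).mp (haH i) _ hcon)
    have hunits : ∀ s : (P.comap (algebraMap A (BB r f))).primeCompl,
        IsUnit (algebraMap A (Localization.AtPrime P) s) := by
      intro s
      rw [IsScalarTower.algebraMap_apply A (BB r f) (Localization.AtPrime P)]
      exact IsLocalization.map_units (Localization.AtPrime P)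
        (⟨algebraMap A (BB r f) s, s.2⟩ : P.primeCompl)
    exact formallySmooth_trans_local (P.comap (algebraMap A (BB r f))) hunits fsA hsmA
  obtain ⟨pc, hpc⟩ := hπ c
  have hZ : (Ideal.Quotient.mk (J1 r f) (X Var.z) : BB r f) *
      Ideal.Quotient.mk (J1 r f) (emb r pc) ∈ Smoothing.singularIdeal R (BB r f) := by
    rw [mem_singularIdeal_iff]
    intro P hP hns
    by_contra hnot
    apply hns
    have hz : Ideal.Quotient.mk (J1 r f) (X Var.z) ∉ P := fun h => hnot (P.mul_mem_right _ h)
    have hcP : Ideal.Quotient.mk (J1 r f) (emb r pc) ∉ P := fun h => hnot (P.mul_mem_left _ h)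
    obtain ⟨ι, hι, hfs⟩ := smooth_z r f πC hπ hker hfker P hz
    letI algCE : Algebra C (Localization.AtPrime P) := ι.toRingHom.toAlgebra
    haveI twRCE : IsScalarTower R C (Localization.AtPrime P) := by
      refine IsScalarTower.of_algebraMap_eq (fun x => ?_)
      show algebraMap R (Localization.AtPrime P) x = ι (algebraMap R C x)
      rw [IsScalarTower.algebraMap_apply R A C, AlgHom.commutes,
        IsScalarTower.algebraMap_apply R (BB r f) (Localization.AtPrime P),
        IsScalarTower.algebraMap_apply A (BB r f) (Localization.AtPrime P),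
        IsScalarTower.algebraMap_apply R A (BB r f)]
    have hunits : ∀ s : (Ideal.comap ι (IsLocalRing.maximalIdeal (Localization.AtPrime P))).primeCompl,
        IsUnit (algebraMap C (Localization.AtPrime P) s) := by
      intro s
      exact IsLocalRing.notMem_maximalIdeal.mp s.2
    have hsmC : Algebra.IsSmoothAt R
        (Ideal.comap ι (IsLocalRing.maximalIdeal (Localization.AtPrime P))) := by
      by_contra hcon
      have h1 : c ∈ Ideal.comap ι (IsLocalRing.maximalIdeal (Localization.AtPrime P)) :=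
        (mem_singularIdeal_iff c).mp hcH _ hcon
      have h2 : ι c ∈ IsLocalRing.maximalIdeal (Localization.AtPrime P) := h1
      rw [← hpc, hι] at h2
      exact (IsLocalRing.notMem_maximalIdeal.mpr
        (IsLocalization.map_units (Localization.AtPrime P) (⟨_, hcP⟩ : P.primeCompl))) h2
    exact formallySmooth_trans_local
      (Ideal.comap ι (IsLocalRing.maximalIdeal (Localization.AtPrime P))) hunits hfs hsmC
  refine ⟨BB r f, inferInstance, inferInstance, hBfp, IsScalarTower.toAlgHom R A (BB r f),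
    hB.restrictScalars R, ?_, ?_, ?_⟩
  · refine AlgHom.ext (fun x => ?_)
    show hB (algebraMap A (BB r f) x) = φ x
    exact hB.commutes x
  · unfold Smoothing.singRad
    rw [Ideal.radical_le_radical_iff, ← ha, Ideal.map_span, Ideal.span_le]
    rintro _ ⟨_, ⟨i, rfl⟩, rfl⟩
    refine ⟨N + 1, ?_⟩
    have h3 : (hB.restrictScalars R) (Ideal.Quotient.mk (J1 r f) (X (Var.y i)) *
        algebraMap A (BB r f) (a i)) = φ (a i) ^ (N + 1) := by
      show hB (Ideal.Quotient.mk (J1 r f) (X (Var.y i)) * algebraMap A (BB r f) (a i)) = _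
      rw [map_mul, hhB, aeval_X, hvy, AlgHom.commutes, pow_succ]
      rfl
    rw [← h3]
    exact Ideal.mem_map_of_mem _ (hY i)
  · intro hle
    have h4 : (hB.restrictScalars R) (Ideal.Quotient.mk (J1 r f) (X Var.z) *
        Ideal.Quotient.mk (J1 r f) (emb r pc)) ∈ 𝔮 :=
      hle (Ideal.le_radical (Ideal.mem_map_of_mem _ hZ))
    have h5 : (hB.restrictScalars R) (Ideal.Quotient.mk (J1 r f) (X Var.z) *
        Ideal.Quotient.mk (J1 r f) (emb r pc)) = lam * hC c := by
      show hB (Ideal.Quotient.mk (J1 r f) (X Var.z) * Ideal.Quotient.mk (J1 r f) (emb r pc)) = _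
      rw [map_mul, hhB, hhB, aeval_X, hvz]
      congr 1
      unfold emb
      rw [aeval_rename]
      show aeval (fun l => valΛ (Var.x l)) pc = hC c
      rw [hauxΛ, hpc, hhCA]
    rw [h5] at h4
    rcases (‹𝔮.IsPrime›).mem_or_mem h4 with h | h
    · exact hlam' h
    · exact hcn' h

end Main

end Groth.Agent.Lib.Deloc2H4
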