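import Mathlib
import Groth.Prelude.Def_Smoothing
import Groth.Agent.Lib.Deloc2_helper4

/-!
Helper library (helper4): the algebra `B = A[z₁,…,z_r]/(u - Σⱼ zⱼ aⱼ)` over `R` (with `u ∈ R`): it
is smooth over `R` at all primes not containing some `aⱼ` as soon as the `A_{aⱼ}` are smooth over
`R`.  APPEND-ONLY once landed.
-/

set_option autoImplicit false
set_option linter.unusedVariables false
set_option linter.unusedTactic false
set_option linter.unreachableTactic false
set_option linter.unusedSectionVars false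
set_option linter.style.haveILetI false
set_option maxHeartbeats 800000

universe u

namespace Groth.Agent.Lib.NeronAlg2H4

open MvPolynomial

section Def

variable {R A : Type u} [CommRing R] [CommRing A] [Algebra R A] (r : ℕ) (a : Fin r → A) (u : R)

/-- the relation `u - Σⱼ zⱼ aⱼ`. -/
noncomputable def rel : MvPolynomial (Fin r) A :=
  C (algebraMap R A u) - ∑ j, X j * C (a j)

/-- the relation ideal. -/
noncomputable def JJ : Ideal (MvPolynomial (Fin r) A) := Ideal.span {rel r a u}

/-- the algebra. -/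
abbrev BB := MvPolynomial (Fin r) A ⧸ JJ r a u

theorem JJ_fg : (JJ r a u).FG := Submodule.fg_span_singleton _

theorem rel_mem : rel r a u ∈ JJ r a u := Ideal.mem_span_singleton_self _

/-- the structure map from `A`. -/
noncomputable def α : A →ₐ[R] BB r a u := IsScalarTower.toAlgHom R A (BB r a u)

theorem α_apply (x : A) : α r a u x = Ideal.Quotient.mk (JJ r a u) (C x) := rfl

theorem u_eq : Ideal.Quotient.mk (JJ r a u) (C (algebraMap R A u)) =
    ∑ j, Ideal.Quotient.mk (JJ r a u) (X j) * Ideal.Quotient.mk (JJ r a u) (C (a j)) := by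
  have h0 : Ideal.Quotient.mk (JJ r a u) (rel r a u) = 0 :=
    Ideal.Quotient.eq_zero_iff_mem.mpr (rel_mem r a u)
  unfold rel at h0
  rw [map_sub, map_sum, sub_eq_zero] at h0
  rw [h0]
  exact Finset.sum_congr rfl (fun j _ => map_mul _ _ _)

theorem algebraMap_eq (c : R) : algebraMap R (BB r a u) c =
    Ideal.Quotient.mk (JJ r a u) (C (algebraMap R A c)) := rfl

theorem u_mem : algebraMap R (BB r a u) u ∈
    Ideal.span (Set.range fun j => α r a u (a j)) := by
  rw [algebraMap_eq, u_eq]
  refine Ideal.sum_mem _ (fun j _ => ?_)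
  exact Ideal.mul_mem_left _ _ (Ideal.subset_span ⟨j, rfl⟩)

instance fpB [Algebra.FinitePresentation R A] : Algebra.FinitePresentation R (BB r a u) :=
  Algebra.FinitePresentation.quotient (JJ_fg r a u)

theorem exists_algHom {T : Type*} [CommRing T] [Algebra R T] (v : A →ₐ[R] T) (val : Fin r → T)
    (h : v (algebraMap R A u) = ∑ j, val j * v (a j)) :
    ∃ ψ : BB r a u →ₐ[R] T, (∀ x, ψ (Ideal.Quotient.mk _ (C x)) = v x) ∧
      (∀ j, ψ (Ideal.Quotient.mk _ (X j)) = val j) := by
  have hrel0 : MvPolynomial.eval₂Hom v.toRingHom val (rel r a u) = 0 := by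
    unfold rel
    rw [map_sub, map_sum, eval₂Hom_C, sub_eq_zero]
    show v (algebraMap R A u) = _
    rw [h]
    refine Finset.sum_congr rfl (fun j _ => ?_)
    rw [map_mul, eval₂Hom_X', eval₂Hom_C]
    rfl
  have hle : JJ r a u ≤ RingHom.ker (MvPolynomial.eval₂Hom v.toRingHom val) := by
    unfold JJ
    rw [Ideal.span_le, Set.singleton_subset_iff]
    exact hrel0
  obtain ⟨ψ₀, hψ₀⟩ : ∃ ψ₀ : BB r a u →+* T,
      ∀ F, ψ₀ (Ideal.Quotient.mk _ F) = MvPolynomial.eval₂Hom v.toRingHom val F :=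
    ⟨Ideal.Quotient.lift (JJ r a u) (MvPolynomial.eval₂Hom v.toRingHom val)
      (fun F hF => RingHom.mem_ker.mp (hle hF)), fun F => rfl⟩
  have hcomm : ∀ c : R, ψ₀ (algebraMap R (BB r a u) c) = algebraMap R T c := by
    intro c
    rw [algebraMap_eq, hψ₀, eval₂Hom_C]
    exact v.commutes c
  refine ⟨{ ψ₀ with commutes' := hcomm }, fun x => ?_, fun j => ?_⟩
  · show ψ₀ (Ideal.Quotient.mk _ (C x)) = v x
    rw [hψ₀, eval₂Hom_C]
    rfl
  · show ψ₀ (Ideal.Quotient.mk _ (X j)) = val j
    rw [hψ₀, eval₂Hom_X']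

end Def

section Smooth

variable {R A : Type u} [CommRing R] [CommRing A] [Algebra R A] (r : ℕ) (a : Fin r → A) (u : R)

theorem smooth_at (j : Fin r) [Algebra.FormallySmooth R (Localization.Away (a j))]
    (Q : Ideal (BB r a u)) [Q.IsPrime]
    (hQ : Ideal.Quotient.mk (JJ r a u) (C (a j)) ∉ Q) :
    Algebra.FormallySmooth R (Localization.AtPrime Q) := by
  classical
  refine Groth.Agent.Lib.Deloc2H4.formallySmooth_of_lift Q (fun T _ _ I hI u' => ?_)
  have hnil : IsNilpotent I := ⟨2, hI⟩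
  obtain ⟨Θ, hΘ⟩ : ∃ Θ : BB r a u →ₐ[R] T ⧸ I,
      ∀ b, Θ b = u' (algebraMap (BB r a u) (Localization.AtPrime Q) b) :=
    ⟨u'.comp (IsScalarTower.toAlgHom R (BB r a u) (Localization.AtPrime Q)), fun _ => rfl⟩
  have hunitT : IsUnit (Θ (Ideal.Quotient.mk (JJ r a u) (C (a j)))) := by
    rw [hΘ]
    exact (IsLocalization.map_units (Localization.AtPrime Q) (⟨_, hQ⟩ : Q.primeCompl)).map u'
  obtain ⟨θA, hθA⟩ : ∃ θA : A →ₐ[R] T ⧸ I,
      ∀ x, θA x = Θ (Ideal.Quotient.mk (JJ r a u) (C x)) :=
    ⟨Θ.comp (α r a u), fun _ => rfl⟩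
  have hunits : ∀ y : Submonoid.powers (a j), IsUnit (θA (y : A)) := by
    rintro ⟨_, m, rfl⟩
    show IsUnit (θA (a j ^ m))
    rw [map_pow, hθA]
    exact hunitT.pow m
  obtain ⟨w, hw⟩ : ∃ w : Localization.Away (a j) →ₐ[R] T ⧸ I,
      ∀ x, w (algebraMap A (Localization.Away (a j)) x) = θA x :=
    ⟨IsLocalization.liftAlgHom (M := Submonoid.powers (a j)) (f := θA) hunits,
      fun x => IsLocalization.lift_eq hunits x⟩
  obtain ⟨v', hv'⟩ := Algebra.FormallySmooth.exists_lift I hnil w
  have hv'mk : ∀ x, Ideal.Quotient.mk I (v' x) = w x := fun x => AlgHom.congr_fun hv' x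
  obtain ⟨v, hv⟩ : ∃ v : A →ₐ[R] T, ∀ x, v x = v' (algebraMap A (Localization.Away (a j)) x) :=
    ⟨v'.comp (IsScalarTower.toAlgHom R A (Localization.Away (a j))), fun _ => rfl⟩
  have hvmk : ∀ x, Ideal.Quotient.mk I (v x) =
      Θ (Ideal.Quotient.mk (JJ r a u) (C x)) := by
    intro x
    rw [hv, hv'mk, hw, hθA]
  have hvunit : IsUnit (v (a j)) := by
    apply (IsNilpotent.isUnit_quotient_mk_iff hnil).mp
    rw [hvmk]
    exact hunitT
  obtain ⟨winv, hwinv⟩ := hvunit.exists_left_inv
  choose t ht using fun j' : Fin r =>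
    Ideal.Quotient.mk_surjective (Θ (Ideal.Quotient.mk (JJ r a u) (X j')))
  obtain ⟨ε, hε⟩ : ∃ ε : T, ε = v (algebraMap R A u) - ∑ j', t j' * v (a j') := ⟨_, rfl⟩
  have hεI : ε ∈ I := by
    have h0 : Θ (Ideal.Quotient.mk (JJ r a u) (C (algebraMap R A u))) =
        ∑ j', Θ (Ideal.Quotient.mk (JJ r a u) (X j')) *
          Θ (Ideal.Quotient.mk (JJ r a u) (C (a j'))) := by
      rw [u_eq, map_sum]
      exact Finset.sum_congr rfl (fun j' _ => map_mul _ _ _)
    rw [← Ideal.Quotient.eq_zero_iff_mem, hε, map_sub, map_sum, hvmk, h0, sub_eq_zero]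
    refine Finset.sum_congr rfl (fun j' _ => ?_)
    rw [map_mul, ht, hvmk]
  obtain ⟨val, hval⟩ : ∃ val : Fin r → T,
      ∀ j', val j' = t j' + (if j' = j then winv * ε else 0) := ⟨_, fun _ => rfl⟩
  have hrel : v (algebraMap R A u) = ∑ j', val j' * v (a j') := by
    have hsum : ∑ j', val j' * v (a j') = ∑ j', t j' * v (a j') + ε := by
      simp only [hval, add_mul, Finset.sum_add_distrib, ite_mul, zero_mul,
        Finset.sum_ite_eq', Finset.mem_univ, if_true]
      congr 1
      calc winv * ε * v (a j) = (winv * v (a j)) * ε := by ring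
        _ = ε := by rw [hwinv, one_mul]
    rw [hsum, hε]
    ring
  obtain ⟨ψ, hψC, hψX⟩ := exists_algHom r a u v val hrel
  refine ⟨ψ.toRingHom, ?_, ?_⟩
  · intro b
    obtain ⟨F, rfl⟩ := Ideal.Quotient.mk_surjective b
    rw [← hΘ]
    have key : ((Ideal.Quotient.mk I).comp ψ.toRingHom).comp (Ideal.Quotient.mk (JJ r a u)) =
        Θ.toRingHom.comp (Ideal.Quotient.mk (JJ r a u)) := by
      apply MvPolynomial.ringHom_ext
      · intro x
        show Ideal.Quotient.mk I (ψ (Ideal.Quotient.mk (JJ r a u) (C x))) =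
          Θ (Ideal.Quotient.mk (JJ r a u) (C x))
        rw [hψC, hvmk]
      · intro j'
        show Ideal.Quotient.mk I (ψ (Ideal.Quotient.mk (JJ r a u) (X j'))) =
          Θ (Ideal.Quotient.mk (JJ r a u) (X j'))
        rw [hψX, hval, map_add, ht]
        have h0 : Ideal.Quotient.mk I (if j' = j then winv * ε else 0) = 0 := by
          split_ifs
          · exact Ideal.Quotient.eq_zero_iff_mem.mpr (I.mul_mem_left winv hεI)
          · exact map_zero _
        rw [h0, add_zero]
    exact RingHom.congr_fun key F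
  · intro c
    exact ⟨algebraMap R (BB r a u) c,
      (IsScalarTower.algebraMap_apply R (BB r a u) (Localization.AtPrime Q) c).symm,
      ψ.commutes c⟩

theorem smooth_away [Algebra.FinitePresentation R A]
    (ha : ∀ j, Algebra.FormallySmooth R (Localization.Away (a j)))
    (b : BB r a u)
    (hb : b ∈ (Ideal.span (Set.range fun j => α r a u (a j))).radical) :
    Algebra.Smooth R (Localization.Away b) := by
  refine Algebra.basicOpen_subset_smoothLocus_iff_smooth.mp (fun Q hQ => ?_)
  have hbQ : b ∉ Q.asIdeal := (PrimeSpectrum.mem_basicOpen b Q).mp hQ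
  have hex : ∃ j, α r a u (a j) ∉ Q.asIdeal := by
    by_contra hcon
    apply hbQ
    have hcon' : ∀ j, α r a u (a j) ∈ Q.asIdeal := by
      intro j
      by_contra hj
      exact hcon ⟨j, hj⟩
    have hle : Ideal.span (Set.range fun j => α r a u (a j)) ≤ Q.asIdeal :=
      Ideal.span_le.mpr (by
        rintro _ ⟨j, rfl⟩
        exact hcon' j)
    exact (Q.isPrime.radical_le_iff.mpr hle) hb
  obtain ⟨j, hj⟩ := hex
  haveI := ha j
  show Algebra.IsSmoothAt R Q.asIdeal
  exact smooth_at r a u j Q.asIdeal hj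

theorem smooth_of_isUnit [Algebra.FinitePresentation R A]
    (ha : ∀ j, Algebra.FormallySmooth R (Localization.Away (a j)))
    (hu : IsUnit (algebraMap R (BB r a u) u)) : Algebra.Smooth R (BB r a u) := by
  haveI : Algebra.FormallySmooth R (BB r a u) := by
    rw [← Algebra.smoothLocus_eq_univ_iff, Set.eq_univ_iff_forall]
    intro Q
    have hex : ∃ j, α r a u (a j) ∉ Q.asIdeal := by
      by_contra hcon
      have hcon' : ∀ j, α r a u (a j) ∈ Q.asIdeal := by
        intro j
        by_contra hj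
        exact hcon ⟨j, hj⟩
      have hle : Ideal.span (Set.range fun j => α r a u (a j)) ≤ Q.asIdeal :=
        Ideal.span_le.mpr (by
          rintro _ ⟨j, rfl⟩
          exact hcon' j)
      exact Q.isPrime.ne_top (Ideal.eq_top_of_isUnit_mem _ (hle (u_mem r a u)) hu)
    obtain ⟨j, hj⟩ := hex
    haveI := ha j
    show Algebra.IsSmoothAt R Q.asIdeal
    exact smooth_at r a u j Q.asIdeal hj
  exact ⟨inferInstance, inferInstance⟩

end Smooth

end Groth.Agent.Lib.NeronAlg2H4
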