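import Mathlib
import Groth.Agent.Lib.StrictStd_helper1

set_option autoImplicit false
set_option maxHeartbeats 1000000

/-!
# Smooth with stably free differentials ⇒ powers are strictly standard (S2031)
-/

namespace Groth.Agent.Lib.StrictStdH1

open MvPolynomial TensorProduct KaehlerDifferential

universe u

section Gen

lemma loc_mem {P L : Type*} [CommRing P] [CommRing L] [Algebra P L] (g : P)
    [IsLocalization.Away g L] (𝔟 : Ideal P) (u : P)
    (h : algebraMap P L u ∈ Ideal.map (algebraMap P L) 𝔟) :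
    ∃ N : ℕ, ∀ N' : ℕ, N ≤ N' → g ^ N' * u ∈ 𝔟 := by
  rw [IsLocalization.mem_map_algebraMap_iff (Submonoid.powers g) L] at h
  obtain ⟨⟨⟨x, hx⟩, ⟨_, N₁, rfl⟩⟩, h⟩ := h
  simp only at h
  rw [← map_mul] at h
  obtain ⟨⟨_, N₂, rfl⟩, h2⟩ := (IsLocalization.eq_iff_exists (Submonoid.powers g) L).mp h
  simp only at h2
  refine ⟨N₁ + N₂, fun N' hN' => ?_⟩
  obtain ⟨d, rfl⟩ := Nat.exists_eq_add_of_le hN'
  have : g ^ (N₁ + N₂ + d) * u = g ^ d * (g ^ N₂ * (u * g ^ N₁)) := by ring
  rw [this, h2]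
  exact 𝔟.mul_mem_left _ (𝔟.mul_mem_left _ hx)

lemma one_mem_span_minors {B : Type*} [CommRing B] {n c : ℕ} (J : Matrix (Fin c) (Fin n) B)
    (L : Matrix (Fin n) (Fin c) B) (hJL : J * L = 1) :
    (1 : B) ∈ Ideal.span (Set.range fun I : Fin c → Fin n => (J.submatrix id I).det) := by
  classical
  have h1 : (J * L).det = 1 := by rw [hJL, Matrix.det_one]
  rw [← h1, ← Matrix.det_transpose, Matrix.transpose_mul]
  have h2 : (L.transpose * J.transpose : Matrix (Fin c) (Fin c) B) =
      Matrix.of fun k' => ∑ i, L.transpose k' i • J.transpose i := by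
    ext k' k
    simp [Matrix.mul_apply, Finset.sum_apply]
  rw [h2]
  show Matrix.detRowAlternating (fun k' => ∑ i, L.transpose k' i • J.transpose i) ∈ _
  have h3 := (Matrix.detRowAlternating (R := B) (n := Fin c)).toMultilinearMap.map_sum
    (fun (k' : Fin c) (i : Fin n) => L.transpose k' i • J.transpose i)
  rw [show Matrix.detRowAlternating (fun k' => ∑ i, L.transpose k' i • J.transpose i) =
    (Matrix.detRowAlternating (R := B) (n := Fin c)).toMultilinearMap
      (fun k' => ∑ i, L.transpose k' i • J.transpose i) from rfl, h3]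
  refine Ideal.sum_mem _ fun I _ => ?_
  rw [MultilinearMap.map_smul_univ]
  refine Ideal.mul_mem_left _ _ (Ideal.subset_span ⟨I, ?_⟩)
  show (J.submatrix id I).det = Matrix.det (Matrix.of fun k' => J.transpose (I k'))
  rw [← Matrix.det_transpose]
  rfl

end Gen

section LA

/-- linear algebra data -/
structure LAData (B : Type*) [CommRing B] (C Ω : Type*) [AddCommGroup C] [Module B C]
    [AddCommGroup Ω] [Module B Ω] (n₀ q p : ℕ) where
  cc : C →ₗ[B] (Option (Fin (n₀ + q)) → B)
  l : (Option (Fin (n₀ + q)) → B) →ₗ[B] C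
  κ : (Option (Fin (n₀ + q)) → B) →ₗ[B] Ω
  γ : Fin q → C
  η : C
  uinv : B
  e : (Ω × (Fin p → B)) ≃ₗ[B] (Fin q → B)
  lcc : ∀ x, l (cc x) = x
  exact : Function.Exact cc κ
  surj : Function.Surjective κ
  hγ : ∀ k, cc (γ k) = Pi.single (some (Fin.natAdd n₀ k)) 1
  hη : cc η none * uinv = 1

/-- inclusion of the x-coordinates -/
def ix (B : Type*) [CommRing B] (n₀ q : ℕ) :
    (Fin n₀ → B) →ₗ[B] (Option (Fin (n₀ + q)) → B) :=
  LinearMap.pi fun o => Option.elim o 0 (fun j =>
    Fin.addCases (motive := fun _ => (Fin n₀ → B) →ₗ[B] B)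
      (fun i => LinearMap.proj i) (fun _ => 0) j)

section ixl
variable {B : Type*} [CommRing B] {n₀ q : ℕ}

lemma ix_none (u : Fin n₀ → B) : ix B n₀ q u none = 0 := rfl

lemma ix_castAdd (u : Fin n₀ → B) (i : Fin n₀) :
    ix B n₀ q u (some (Fin.castAdd q i)) = u i := by
  simp [ix]

lemma ix_natAdd (u : Fin n₀ → B) (k : Fin q) : ix B n₀ q u (some (Fin.natAdd n₀ k)) = 0 := by
  simp [ix]

lemma eq_ix (v : Option (Fin (n₀ + q)) → B) (h0 : v none = 0)
    (h1 : ∀ k, v (some (Fin.natAdd n₀ k)) = 0) :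
    ix B n₀ q (fun i => v (some (Fin.castAdd q i))) = v := by
  funext o
  cases o with
  | none => rw [ix_none, h0]
  | some j =>
    refine Fin.addCases (fun i => ?_) (fun k => ?_) j
    · rw [ix_castAdd]
    · rw [ix_natAdd, h1]

end ixl

namespace LAData

variable {B : Type*} [CommRing B] {C Ω : Type*} [AddCommGroup C] [Module B C]
  [AddCommGroup Ω] [Module B Ω] {n₀ q p : ℕ} (D : LAData B C Ω n₀ q p)

/-- coefficient of `η` -/
noncomputable def sfun : C →ₗ[B] B := D.uinv • ((LinearMap.proj none).comp D.cc)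

lemma sfun_apply (x : C) : D.sfun x = D.uinv * D.cc x none := rfl

/-- remove the `η`-component -/
noncomputable def pi1 : C →ₗ[B] C := LinearMap.id - D.sfun.smulRight D.η

lemma pi1_apply (x : C) : D.pi1 x = x - D.sfun x • D.η := rfl

/-- `y`-coordinates -/
noncomputable def tfun : C →ₗ[B] (Fin q → B) :=
  LinearMap.pi fun k => (LinearMap.proj (some (Fin.natAdd n₀ k))).comp (D.cc.comp D.pi1)

lemma tfun_apply (x : C) (k : Fin q) :
    D.tfun x k = D.cc (D.pi1 x) (some (Fin.natAdd n₀ k)) := rfl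

/-- combination of the `γ` -/
noncomputable def Gam : (Fin q → B) →ₗ[B] C := Fintype.linearCombination B D.γ

lemma Gam_apply (t : Fin q → B) : D.Gam t = ∑ k, t k • D.γ k :=
  Fintype.linearCombination_apply B D.γ t

/-- projection to `C₁°` -/
noncomputable def pi10 : C →ₗ[B] C := D.pi1 - D.Gam.comp D.tfun

lemma pi10_apply (x : C) : D.pi10 x = D.pi1 x - D.Gam (D.tfun x) := rfl

lemma cc_Gam_none (t : Fin q → B) : D.cc (D.Gam t) none = 0 := by
  rw [Gam_apply, map_sum, Finset.sum_apply]
  refine Finset.sum_eq_zero fun k _ => ?_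
  rw [map_smul, D.hγ, Pi.smul_apply, Pi.single_apply, if_neg (by simp), smul_zero]

lemma cc_Gam_natAdd (t : Fin q → B) (k' : Fin q) :
    D.cc (D.Gam t) (some (Fin.natAdd n₀ k')) = t k' := by
  rw [Gam_apply, map_sum, Finset.sum_apply, Finset.sum_eq_single k']
  · rw [map_smul, D.hγ, Pi.smul_apply, Pi.single_eq_same, smul_eq_mul, mul_one]
  · intro k _ hk
    rw [map_smul, D.hγ, Pi.smul_apply, Pi.single_apply, if_neg, smul_zero]
    intro h
    apply hk
    have := Option.some_injective _ h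
    exact (Fin.natAdd_injective _ _ this).symm
  · intro h
    exact absurd (Finset.mem_univ _) h

lemma sfun_eta : D.sfun D.η = 1 := by
  rw [sfun_apply, mul_comm]
  exact D.hη

lemma sfun_Gam (t : Fin q → B) : D.sfun (D.Gam t) = 0 := by
  rw [sfun_apply, cc_Gam_none, mul_zero]

lemma pi1_eta : D.pi1 D.η = 0 := by
  rw [pi1_apply, sfun_eta, one_smul, sub_self]

lemma pi1_Gam (t : Fin q → B) : D.pi1 (D.Gam t) = D.Gam t := by
  rw [pi1_apply, sfun_Gam, zero_smul, sub_zero]

lemma cc_pi1_none (x : C) : D.cc (D.pi1 x) none = 0 := by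
  rw [pi1_apply, map_sub, map_smul, Pi.sub_apply, Pi.smul_apply, sfun_apply, smul_eq_mul]
  linear_combination (-(D.cc x none)) * D.hη

lemma tfun_eta : D.tfun D.η = 0 := by
  funext k
  rw [tfun_apply, pi1_eta, map_zero]
  rfl

lemma tfun_Gam (t : Fin q → B) : D.tfun (D.Gam t) = t := by
  funext k
  rw [tfun_apply, pi1_Gam, cc_Gam_natAdd]

lemma pi10_eta : D.pi10 D.η = 0 := by
  rw [pi10_apply, pi1_eta, tfun_eta, map_zero, sub_zero]

lemma pi10_Gam (t : Fin q → B) : D.pi10 (D.Gam t) = 0 := by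
  rw [pi10_apply, pi1_Gam, tfun_Gam, sub_self]

lemma pi10_of (d : C) (h0 : D.cc d none = 0)
    (h1 : ∀ k, D.cc d (some (Fin.natAdd n₀ k)) = 0) : D.pi10 d = d := by
  have hp : D.pi1 d = d := by rw [pi1_apply, sfun_apply, h0, mul_zero, zero_smul, sub_zero]
  have ht : D.tfun d = 0 := by
    funext k
    rw [tfun_apply, hp, h1]
    rfl
  rw [pi10_apply, hp, ht, map_zero, sub_zero]

lemma cc_pi10_none (x : C) : D.cc (D.pi10 x) none = 0 := by
  rw [pi10_apply, map_sub, Pi.sub_apply, cc_pi1_none, cc_Gam_none, sub_zero]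

lemma cc_pi10_natAdd (x : C) (k : Fin q) : D.cc (D.pi10 x) (some (Fin.natAdd n₀ k)) = 0 := by
  rw [pi10_apply, map_sub, Pi.sub_apply, cc_Gam_natAdd, tfun_apply, sub_self]

lemma decomp (x : C) : x = D.pi10 x + D.Gam (D.tfun x) + D.sfun x • D.η := by
  rw [pi10_apply, pi1_apply]
  abel

/-- the parametrisation of `C₁` -/
noncomputable def Theta : ((Fin n₀ → B) × (Fin p → B)) →ₗ[B] C :=
  (D.pi10.comp (D.l.comp (ix B n₀ q))).comp (LinearMap.fst B _ _) +
    D.Gam.comp (D.e.toLinearMap.comp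
      (LinearMap.prodMap (D.κ.comp (ix B n₀ q)) LinearMap.id))

lemma Theta_apply (u : Fin n₀ → B) (w : Fin p → B) :
    D.Theta (u, w) = D.pi10 (D.l (ix B n₀ q u)) + D.Gam (D.e (D.κ (ix B n₀ q u), w)) := rfl

lemma psi_inj (u : Fin n₀ → B) (h1 : D.pi10 (D.l (ix B n₀ q u)) = 0)
    (h2 : D.κ (ix B n₀ q u) = 0) : u = 0 := by
  obtain ⟨z, hz⟩ := (D.exact _).mp h2
  have hlz : D.l (ix B n₀ q u) = z := by rw [← hz, D.lcc]
  rw [hlz] at h1
  have hdec := D.decomp z
  rw [h1, zero_add] at hdec
  have hcc : D.cc z = D.cc (D.Gam (D.tfun z)) + D.sfun z • D.cc D.η := by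
    conv_lhs => rw [hdec]
    rw [map_add, map_smul]
  have hs : D.sfun z = 0 := by
    have := congrFun hcc none
    rw [hz, ix_none, Pi.add_apply, cc_Gam_none, zero_add, Pi.smul_apply, smul_eq_mul] at this
    calc D.sfun z = D.sfun z * (D.cc D.η none * D.uinv) := by rw [D.hη, mul_one]
      _ = (D.sfun z * D.cc D.η none) * D.uinv := by ring
      _ = 0 := by rw [← this, zero_mul]
  have ht : D.tfun z = 0 := by
    funext k
    have := congrFun hcc (some (Fin.natAdd n₀ k))
    rw [hz, ix_natAdd, Pi.add_apply, cc_Gam_natAdd, hs, zero_smul, Pi.zero_apply, add_zero] at this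
    exact this.symm
  have hz0 : z = 0 := by rw [hdec, ht, hs, map_zero, zero_smul, add_zero]
  funext i
  have := congrFun hz (some (Fin.castAdd q i))
  rw [hz0, map_zero, ix_castAdd] at this
  exact this.symm

lemma psi_surj (d : C) (h0 : D.cc d none = 0)
    (h1 : ∀ k, D.cc d (some (Fin.natAdd n₀ k)) = 0) (ω : Ω) :
    ∃ u : Fin n₀ → B, D.pi10 (D.l (ix B n₀ q u)) = d ∧ D.κ (ix B n₀ q u) = ω := by
  obtain ⟨v₀, rfl⟩ := D.surj ω
  have hκcc : ∀ y, D.κ (D.cc y) = 0 := fun y => D.exact.apply_apply_eq_zero y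
  obtain ⟨v, hv⟩ : ∃ v, v = v₀ - D.cc (D.l v₀) + D.cc d := ⟨_, rfl⟩
  obtain ⟨s', hs'⟩ : ∃ s', s' = D.uinv * v none := ⟨_, rfl⟩
  obtain ⟨v', hv'⟩ : ∃ v', v' = v - s' • D.cc D.η := ⟨_, rfl⟩
  obtain ⟨t', ht'⟩ : ∃ t' : Fin q → B, t' = fun k => v' (some (Fin.natAdd n₀ k)) := ⟨_, rfl⟩
  obtain ⟨v'', hv''⟩ : ∃ v'', v'' = v' - D.cc (D.Gam t') := ⟨_, rfl⟩
  have e1 : v'' none = 0 := by
    rw [hv'', Pi.sub_apply, cc_Gam_none, sub_zero, hv', Pi.sub_apply, Pi.smul_apply, smul_eq_mul,
      hs']
    linear_combination (-(v none)) * D.hη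
  have e2 : ∀ k, v'' (some (Fin.natAdd n₀ k)) = 0 := by
    intro k
    rw [hv'', Pi.sub_apply, cc_Gam_natAdd, ht', sub_self]
  have hlv : D.l v'' = d - s' • D.η - D.Gam t' := by
    rw [hv'', map_sub, D.lcc, hv', map_sub, map_smul, D.lcc, hv, map_add, map_sub, D.lcc, D.lcc,
      sub_self, zero_add]
  have hκv : D.κ v'' = D.κ v₀ := by
    rw [hv'', map_sub, hκcc, sub_zero, hv', map_sub, map_smul, hκcc, smul_zero, sub_zero, hv,
      map_add, map_sub, hκcc, hκcc, sub_zero, add_zero]
  refine ⟨fun i => v'' (some (Fin.castAdd q i)), ?_, ?_⟩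
  · rw [eq_ix v'' e1 e2, hlv, map_sub, map_sub, map_smul, pi10_eta, pi10_Gam, smul_zero, sub_zero,
      sub_zero, D.pi10_of d h0 h1]
  · rw [eq_ix v'' e1 e2, hκv]

lemma Theta_mem (x : (Fin n₀ → B) × (Fin p → B)) : D.cc (D.Theta x) none = 0 := by
  obtain ⟨u, w⟩ := x
  rw [Theta_apply, map_add, Pi.add_apply, cc_pi10_none, cc_Gam_none, add_zero]

lemma Theta_injective : Function.Injective D.Theta := by
  rw [injective_iff_map_eq_zero]
  rintro ⟨u, w⟩ h
  rw [Theta_apply] at h
  have ht : D.e (D.κ (ix B n₀ q u), w) = 0 := by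
    funext k
    have := congrFun (congrArg D.cc h) (some (Fin.natAdd n₀ k))
    rw [map_add, Pi.add_apply, cc_pi10_natAdd, zero_add, cc_Gam_natAdd, map_zero] at this
    exact this
  have h2 := D.e.injective (ht.trans (map_zero D.e).symm)
  have hκ : D.κ (ix B n₀ q u) = 0 := congrArg Prod.fst h2
  have hw : w = 0 := congrArg Prod.snd h2
  rw [ht, map_zero, add_zero] at h
  have hu := D.psi_inj u h hκ
  rw [hu, hw]
  rfl

lemma Theta_surj (x : C) (hx : D.cc x none = 0) : ∃ y, D.Theta y = x := by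
  obtain ⟨t, ht⟩ : ∃ t : Fin q → B, t = fun k => D.cc x (some (Fin.natAdd n₀ k)) := ⟨_, rfl⟩
  have hd0 : D.cc (x - D.Gam t) none = 0 := by
    rw [map_sub, Pi.sub_apply, hx, cc_Gam_none, sub_zero]
  have hd1 : ∀ k, D.cc (x - D.Gam t) (some (Fin.natAdd n₀ k)) = 0 := by
    intro k
    rw [map_sub, Pi.sub_apply, cc_Gam_natAdd, ht, sub_self]
  obtain ⟨u, hu1, hu2⟩ := D.psi_surj (x - D.Gam t) hd0 hd1 (D.e.symm t).1
  refine ⟨(u, (D.e.symm t).2), ?_⟩
  rw [Theta_apply, hu1, hu2, Prod.mk.eta, D.e.apply_symm_apply, sub_add_cancel]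

/-- the equivalence with `C₁` -/
noncomputable def thetaEquiv : ((Fin n₀ → B) × (Fin p → B)) ≃ₗ[B]
    LinearMap.ker ((LinearMap.proj (R := B) (φ := fun _ : Option (Fin (n₀ + q)) => B) none).comp
      D.cc) :=
  LinearEquiv.ofBijective (D.Theta.codRestrict _ (fun x => LinearMap.mem_ker.mpr (D.Theta_mem x)))
    ⟨fun x y h => D.Theta_injective (congrArg Subtype.val h), fun ⟨x, hx⟩ => by
      obtain ⟨y, hy⟩ := D.Theta_surj x (LinearMap.mem_ker.mp hx)
      exact ⟨y, Subtype.ext hy⟩⟩

theorem exists_basis :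
    ∃ (z : Fin (n₀ + p) → C) (Λ : (Option (Fin (n₀ + q)) → B) →ₗ[B] (Fin (n₀ + p) → B)),
      (∀ k, D.cc (z k) none = 0) ∧
      (∀ x, D.cc x none = 0 → x ∈ Submodule.span B (Set.range z)) ∧
      (∀ k, Λ (D.cc (z k)) = fun j => if k = j then 1 else 0) := by
  classical
  let ρ : (Fin (n₀ + p) → B) ≃ₗ[B] ((Fin n₀ → B) × (Fin p → B)) :=
    (LinearEquiv.funCongrLeft B B finSumFinEquiv).trans
      (LinearEquiv.sumArrowLequivProdArrow (Fin n₀) (Fin p) B B)
  let Φ : (Fin (n₀ + p) → B) →ₗ[B] C := D.Theta.comp ρ.toLinearMap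
  let Λ : (Option (Fin (n₀ + q)) → B) →ₗ[B] (Fin (n₀ + p) → B) :=
    ρ.symm.toLinearMap.comp (D.thetaEquiv.symm.toLinearMap.comp
      ((D.pi1.codRestrict _ (fun x => LinearMap.mem_ker.mpr (D.cc_pi1_none x))).comp D.l))
  have hΛ : ∀ v, Λ (D.cc (Φ v)) = v := by
    intro v
    show ρ.symm (D.thetaEquiv.symm ⟨D.pi1 (D.l (D.cc (Φ v))), _⟩) = v
    have h1 : D.pi1 (D.l (D.cc (Φ v))) = D.Theta (ρ v) := by
      rw [D.lcc, pi1_apply, sfun_apply]
      show D.Theta (ρ v) - (D.uinv * D.cc (D.Theta (ρ v)) none) • D.η = _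
      rw [D.Theta_mem, mul_zero, zero_smul, sub_zero]
    have h2 : (⟨D.pi1 (D.l (D.cc (Φ v))), LinearMap.mem_ker.mpr (D.cc_pi1_none _)⟩ :
        LinearMap.ker ((LinearMap.proj (R := B) (φ := fun _ : Option (Fin (n₀ + q)) => B) none).comp
          D.cc)) = D.thetaEquiv (ρ v) := Subtype.ext h1
    rw [h2, LinearEquiv.symm_apply_apply, LinearEquiv.symm_apply_apply]
  refine ⟨fun k => Φ (fun j => if k = j then 1 else 0), Λ, ?_, ?_, ?_⟩
  · intro k
    exact D.Theta_mem _
  · intro x hx
    obtain ⟨y, rfl⟩ := D.Theta_surj x hx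
    have : D.Theta y = Φ (ρ.symm y) := by
      show _ = D.Theta (ρ (ρ.symm y))
      rw [LinearEquiv.apply_symm_apply]
    rw [this, LinearMap.pi_apply_eq_sum_univ Φ (ρ.symm y)]
    exact Submodule.sum_mem _ fun k _ => Submodule.smul_mem _ _ (Submodule.subset_span ⟨k, rfl⟩)
  · intro k
    exact hΛ _

end LAData

end LA

section Ext

variable {R A : Type u} [CommRing R] [CommRing A] [Algebra R A] {n₀ m₀ : ℕ} (q : ℕ)
  (π₀ : MvPolynomial (Fin n₀) R →ₐ[R] A) (f₀ : Fin m₀ → MvPolynomial (Fin n₀) R)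

/-- presentation with `q` extra variables mapping to zero -/
noncomputable def piExt : MvPolynomial (Fin (n₀ + q)) R →ₐ[R] A :=
  aeval (Fin.addCases (motive := fun _ => A) (fun i => π₀ (X i)) (fun _ => 0))

/-- its relations -/
noncomputable def relExt : Fin (m₀ + q) → MvPolynomial (Fin (n₀ + q)) R :=
  Fin.addCases (motive := fun _ => MvPolynomial (Fin (n₀ + q)) R)
    (fun j => rename (Fin.castAdd q) (f₀ j)) (fun k => X (Fin.natAdd n₀ k))

/-- retraction `y ↦ 0` -/
noncomputable def retr : MvPolynomial (Fin (n₀ + q)) R →ₐ[R] MvPolynomial (Fin n₀) R :=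
  aeval (Fin.addCases (motive := fun _ => MvPolynomial (Fin n₀) R) (fun i => X i) (fun _ => 0))

lemma piExt_eq_comp : piExt q π₀ = π₀.comp (retr (R := R) (n₀ := n₀) q) := by
  apply MvPolynomial.algHom_ext
  intro j
  refine Fin.addCases (fun i => ?_) (fun k => ?_) j
  · simp [piExt, retr]
  · simp [piExt, retr]

lemma piExt_eq (z : MvPolynomial (Fin (n₀ + q)) R) : piExt q π₀ z = π₀ (retr q z) := by
  rw [piExt_eq_comp]
  rfl

lemma retr_rename (v : MvPolynomial (Fin n₀) R) :
    retr (R := R) q (rename (Fin.castAdd q) v) = v := by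
  unfold retr
  rw [aeval_rename]
  have : (fun i : Fin n₀ => (X i : MvPolynomial (Fin n₀) R)) =
      (Fin.addCases (motive := fun _ => MvPolynomial (Fin n₀) R) (fun i => X i) (fun _ => 0)) ∘
        Fin.castAdd q := by
    funext i
    simp
  rw [← this]
  exact aeval_X_left_apply v

lemma piExt_rename (v : MvPolynomial (Fin n₀) R) :
    piExt q π₀ (rename (Fin.castAdd q) v) = π₀ v := by
  rw [piExt_eq, retr_rename]

lemma piExt_X_natAdd (k : Fin q) : piExt q π₀ (X (Fin.natAdd n₀ k)) = 0 := by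
  unfold piExt
  rw [aeval_X]
  simp

lemma piExt_surjective (h : Function.Surjective π₀) : Function.Surjective (piExt q π₀) := by
  intro y
  obtain ⟨v, hv⟩ := h y
  exact ⟨rename (Fin.castAdd q) v, by rw [piExt_rename, hv]⟩

lemma sub_rename_retr_mem (z : MvPolynomial (Fin (n₀ + q)) R) :
    z - rename (Fin.castAdd q) (retr q z) ∈ Ideal.span (Set.range fun k : Fin q =>
      (X (Fin.natAdd n₀ k) : MvPolynomial (Fin (n₀ + q)) R)) := by
  obtain ⟨K, hK⟩ : ∃ K, K = Ideal.span (Set.range fun k : Fin q =>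
      (X (Fin.natAdd n₀ k) : MvPolynomial (Fin (n₀ + q)) R)) := ⟨_, rfl⟩
  rw [← hK]
  have h : (Ideal.Quotient.mkₐ R K).comp
      ((rename (Fin.castAdd q) : MvPolynomial (Fin n₀) R →ₐ[R] _).comp (retr q)) =
      Ideal.Quotient.mkₐ R K := by
    apply MvPolynomial.algHom_ext
    intro j
    refine Fin.addCases (fun i => ?_) (fun k => ?_) j
    · simp [retr]
    · have : (X (Fin.natAdd n₀ k) : MvPolynomial (Fin (n₀ + q)) R) ∈ K := by
        rw [hK]
        exact Ideal.subset_span ⟨k, rfl⟩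
      simp only [retr, AlgHom.coe_comp, Function.comp_apply, aeval_X, Fin.addCases_right, map_zero,
        Ideal.Quotient.mkₐ_eq_mk]
      exact (Ideal.Quotient.eq_zero_iff_mem.mpr this).symm
  have h2 := AlgHom.congr_fun h z
  rw [← Ideal.Quotient.eq_zero_iff_mem, map_sub, sub_eq_zero]
  exact h2.symm

lemma ker_piExt (hker : RingHom.ker π₀.toRingHom = Ideal.span (Set.range f₀)) :
    RingHom.ker (piExt q π₀).toRingHom = Ideal.span (Set.range (relExt q f₀)) := by
  apply le_antisymm
  · intro z hz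
    have h1 : retr q z ∈ Ideal.span (Set.range f₀) := by
      rw [← hker]
      show π₀ (retr q z) = 0
      rw [← piExt_eq]
      exact hz
    have h2 : rename (Fin.castAdd q) (retr q z) ∈ Ideal.span (Set.range (relExt q f₀)) := by
      have := Ideal.mem_map_of_mem (rename (Fin.castAdd q) :
        MvPolynomial (Fin n₀) R →ₐ[R] MvPolynomial (Fin (n₀ + q)) R) h1
      rw [Ideal.map_span] at this
      refine Ideal.span_mono ?_ this
      rintro _ ⟨_, ⟨j, rfl⟩, rfl⟩
      exact ⟨Fin.castAdd q j, by simp [relExt]⟩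
    have h3 := sub_rename_retr_mem q z
    have h4 : Ideal.span (Set.range fun k : Fin q =>
        (X (Fin.natAdd n₀ k) : MvPolynomial (Fin (n₀ + q)) R)) ≤
        Ideal.span (Set.range (relExt q f₀)) := by
      refine Ideal.span_mono ?_
      rintro _ ⟨k, rfl⟩
      exact ⟨Fin.natAdd m₀ k, by simp [relExt]⟩
    have := Ideal.add_mem _ (h4 h3) h2
    rwa [sub_add_cancel] at this
  · rw [Ideal.span_le]
    rintro _ ⟨j, rfl⟩
    refine Fin.addCases (fun j => ?_) (fun k => ?_) j
    · show piExt q π₀ (relExt q f₀ (Fin.castAdd q j)) = 0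
      have h1 : relExt q f₀ (Fin.castAdd q j) = rename (Fin.castAdd q) (f₀ j) := by simp [relExt]
      rw [h1, piExt_rename]
      have : f₀ j ∈ RingHom.ker π₀.toRingHom := by
        rw [hker]
        exact Ideal.subset_span ⟨j, rfl⟩
      exact this
    · show piExt q π₀ (relExt q f₀ (Fin.natAdd m₀ k)) = 0
      have h1 : relExt q f₀ (Fin.natAdd m₀ k) = X (Fin.natAdd n₀ k) := by simp [relExt]
      rw [h1, piExt_X_natAdd]

end Ext

section Cot2

variable {R A : Type u} [CommRing R] [CommRing A] [Algebra R A]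
variable {B : Type u} [CommRing B] [Algebra A B] [Algebra R B] [IsScalarTower R A B]
variable {n : ℕ} {π : MvPolynomial (Fin n) R →ₐ[R] A} {a : A} [IsLocalization.Away a B]
variable {m : ℕ} {f : Fin m → MvPolynomial (Fin n) R} {g : MvPolynomial (Fin n) R}
variable {G : Algebra.Generators R B (Option (Fin n))}

/-- cotangent complex in coordinates -/
noncomputable def cc0 (G : Algebra.Generators R B (Option (Fin n))) :
    G.toExtension.Cotangent →ₗ[B] (Option (Fin n) → B) :=
  G.cotangentSpaceBasis.equivFun.toLinearMap ∘ₗ G.toExtension.cotangentComplex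

lemma Setup.cc0_cgen (S : Setup B π a f g G) (j : Option (Fin m)) (i : Option (Fin n)) :
    cc0 G (S.cgen j) i = phi B π a (pderiv i (kgen f g j)) :=
  S.repr_cc_cgen j i

/-- class of `rename some v` for `v` in the kernel of `π` -/
noncomputable def Setup.mkr (S : Setup B π a f g G) (v : MvPolynomial (Fin n) R) (hv : π v = 0) :
    G.toExtension.Cotangent :=
  Algebra.Extension.Cotangent.mk
    ⟨rename some v, (S.mem_ker_iff _).mpr (by rw [phi_rename, hv, map_zero])⟩

lemma Setup.pi_f (S : Setup B π a f g G) (j : Fin m) : π (f j) = 0 := by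
  have : f j ∈ RingHom.ker π.toRingHom := by
    rw [S.ker]
    exact Ideal.subset_span ⟨j, rfl⟩
  exact this

lemma Setup.mkr_f (S : Setup B π a f g G) (j : Fin m) :
    S.mkr (f j) (S.pi_f j) = S.cgen (some j) := rfl

lemma Setup.cc0_mkr_some (S : Setup B π a f g G) (v : MvPolynomial (Fin n) R) (hv : π v = 0)
    (i : Fin n) : cc0 G (S.mkr v hv) (some i) = algebraMap A B (π (pderiv i v)) := by
  unfold Setup.mkr cc0
  rw [LinearMap.comp_apply, Algebra.Extension.cotangentComplex_mk]
  show G.cotangentSpaceBasis.repr _ (some i) = _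
  rw [G.cotangentSpaceBasis_repr_one_tmul, S.hG, pderiv_some_rename, phi_rename]

lemma Setup.cc0_mkr_none (S : Setup B π a f g G) (v : MvPolynomial (Fin n) R) (hv : π v = 0) :
    cc0 G (S.mkr v hv) none = 0 := by
  unfold Setup.mkr cc0
  rw [LinearMap.comp_apply, Algebra.Extension.cotangentComplex_mk]
  show G.cotangentSpaceBasis.repr _ none = _
  rw [G.cotangentSpaceBasis_repr_one_tmul, S.hG, pderiv_none_rename, map_zero]

set_option backward.isDefEq.respectTransparency false in
lemma mk_sum_mul {κ : Type*} (s : Finset κ) (r : κ → G.toExtension.Ring)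
    (z : κ → G.toExtension.Ring) (hz : ∀ k, z k ∈ G.toExtension.ker)
    (hsum : ∑ k ∈ s, r k * z k ∈ G.toExtension.ker) :
    Algebra.Extension.Cotangent.mk (P := G.toExtension) ⟨∑ k ∈ s, r k * z k, hsum⟩ =
      ∑ k ∈ s, algebraMap G.toExtension.Ring B (r k) •
        Algebra.Extension.Cotangent.mk (P := G.toExtension) ⟨z k, hz k⟩ := by
  have : (⟨∑ k ∈ s, r k * z k, hsum⟩ : G.toExtension.ker) =
      ∑ k ∈ s, r k • (⟨z k, hz k⟩ : G.toExtension.ker) := by
    apply Subtype.ext
    rw [Submodule.coe_sum]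
    rfl
  rw [this, map_sum]
  refine Finset.sum_congr rfl fun k _ => ?_
  rw [map_smul]
  rfl

set_option backward.isDefEq.respectTransparency false in
lemma Setup.mkr_sum_mul (S : Setup B π a f g G) {κ : Type*} [Fintype κ]
    (r : κ → MvPolynomial (Fin n) R) (v : κ → MvPolynomial (Fin n) R) (hv : ∀ j, π (v j) = 0)
    (h : π (∑ j, r j * v j) = 0) :
    S.mkr (∑ j, r j * v j) h = ∑ j, algebraMap A B (π (r j)) • S.mkr (v j) (hv j) := by
  have hz : ∀ j, (rename some (v j) : G.toExtension.Ring) ∈ G.toExtension.ker := fun j =>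
    (S.mem_ker_iff _).mpr (by rw [phi_rename, hv, map_zero])
  have hsum : (∑ j, rename some (r j) * rename some (v j) : G.toExtension.Ring) ∈
      G.toExtension.ker :=
    Ideal.sum_mem _ fun j _ => Ideal.mul_mem_left _ _ (hz j)
  have h1 := mk_sum_mul (G := G) Finset.univ (fun j => (rename some (r j) : G.toExtension.Ring))
    (fun j => rename some (v j)) hz hsum
  have h2 : S.mkr (∑ j, r j * v j) h =
      Algebra.Extension.Cotangent.mk (P := G.toExtension)
        ⟨∑ j, rename some (r j) * rename some (v j), hsum⟩ := by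
    unfold Setup.mkr
    congr 1
    apply Subtype.ext
    show rename some (∑ j, r j * v j) = ∑ j, rename some (r j) * rename some (v j)
    rw [map_sum]
    simp only [map_mul]
  rw [h2, h1]
  refine Finset.sum_congr rfl fun j _ => ?_
  rw [S.algebraMap_eq, phi_rename]
  rfl

lemma Setup.mem_span_cgen_some (S : Setup B π a f g G) (x : G.toExtension.Cotangent)
    (hx : cc0 G x none = 0) :
    x ∈ Submodule.span B (Set.range fun j : Fin m => S.cgen (some j)) := by
  have hx' : x ∈ Submodule.span B (Set.range S.cgen) := by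
    rw [S.span_cgen]
    trivial
  obtain ⟨β, rfl⟩ := (Submodule.mem_span_range_iff_exists_fun B).mp hx'
  rw [Fintype.sum_option] at hx ⊢
  have h0 : β none = 0 := by
    rw [map_add, map_smul, map_sum, Pi.add_apply, Pi.smul_apply, Finset.sum_apply,
      S.cc0_cgen, phi_pderiv_kgen_none_none B π a f g S.hg] at hx
    have h1 : ∑ j : Fin m, cc0 G (β (some j) • S.cgen (some j)) none = 0 := by
      refine Finset.sum_eq_zero fun j _ => ?_
      rw [map_smul, Pi.smul_apply, S.cc0_cgen, phi_pderiv_kgen_none_some, smul_zero]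
    rw [h1, add_zero, smul_eq_mul] at hx
    calc β none = β none * (algebraMap A B a * IsLocalization.Away.invSelf a) := by
          rw [alg_mul_inv B a, mul_one]
      _ = (β none * algebraMap A B a) * IsLocalization.Away.invSelf a := by ring
      _ = 0 := by rw [hx, zero_mul]
  rw [h0, zero_smul, zero_add]
  exact Submodule.sum_mem _ fun j _ => Submodule.smul_mem _ _ (Submodule.subset_span ⟨j, rfl⟩)

/-- evaluation `Y ↦ 1/g` into the localized polynomial ring -/
noncomputable def evalLoc (g : MvPolynomial (Fin n) R) :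
    MvPolynomial (Option (Fin n)) R →ₐ[R] Localization.Away g :=
  aeval (fun o : Option (Fin n) => Option.elim o (IsLocalization.Away.invSelf g)
    (fun i => algebraMap (MvPolynomial (Fin n) R) (Localization.Away g) (X i)))

lemma evalLoc_rename (g v : MvPolynomial (Fin n) R) :
    evalLoc g (rename some v) = algebraMap (MvPolynomial (Fin n) R) (Localization.Away g) v := by
  unfold evalLoc
  rw [aeval_rename]
  have h : IsScalarTower.toAlgHom R (MvPolynomial (Fin n) R) (Localization.Away g) =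
      aeval ((fun o : Option (Fin n) => Option.elim o (IsLocalization.Away.invSelf g)
        (fun i => algebraMap (MvPolynomial (Fin n) R) (Localization.Away g) (X i))) ∘ some) := by
    rw [aeval_unique (IsScalarTower.toAlgHom R (MvPolynomial (Fin n) R) (Localization.Away g))]
    rfl
  rw [← h]
  rfl

lemma evalLoc_X_none (g : MvPolynomial (Fin n) R) :
    evalLoc g (X none) = IsLocalization.Away.invSelf g := by
  unfold evalLoc
  rw [aeval_X]
  rfl

set_option backward.isDefEq.respectTransparency false in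
lemma Setup.desc (S : Setup B π a f g G) {c : ℕ} (F : Fin c → MvPolynomial (Fin n) R)
    (hF : ∀ k, π (F k) = 0) (u : MvPolynomial (Fin n) R) (hu : π u = 0)
    (hmem : S.mkr u hu ∈ Submodule.span B (Set.range fun k => S.mkr (F k) (hF k))) :
    ∃ N : ℕ, ∀ N' : ℕ, N ≤ N' →
      g ^ N' * u ∈ Ideal.span (Set.range F) ⊔ (RingHom.ker π.toRingHom) ^ 2 := by
  obtain ⟨β, hβ⟩ := (Submodule.mem_span_range_iff_exists_fun B).mp hmem
  choose b hb using fun k => phi_surjective B π a S.surj (β k)
  have hρF : ∀ k, (rename some (F k) : G.toExtension.Ring) ∈ G.toExtension.ker := fun k =>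
    (S.mem_ker_iff _).mpr (by rw [phi_rename, hF, map_zero])
  have hWker : (∑ k, b k * rename some (F k) : G.toExtension.Ring) ∈ G.toExtension.ker :=
    Ideal.sum_mem _ fun k _ => Ideal.mul_mem_left _ _ (hρF k)
  have h1 := mk_sum_mul (G := G) Finset.univ (fun k => (b k : G.toExtension.Ring))
    (fun k => rename some (F k)) hρF hWker
  have h2 : S.mkr u hu = Algebra.Extension.Cotangent.mk (P := G.toExtension)
      ⟨∑ k, b k * rename some (F k), hWker⟩ := by
    rw [h1, ← hβ]
    refine Finset.sum_congr rfl fun k _ => ?_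
    rw [S.algebraMap_eq, hb]
    rfl
  have h3 := (Algebra.Extension.Cotangent.mk_eq_mk_iff_sub_mem _ _).mp h2
  -- evaluate in the localization
  have hεker : ∀ z : MvPolynomial (Option (Fin n)) R, z ∈ G.toExtension.ker →
      evalLoc g z ∈ Ideal.map (algebraMap (MvPolynomial (Fin n) R) (Localization.Away g))
        (RingHom.ker π.toRingHom) := by
    intro z hz
    have hz' : z ∈ Ideal.span (Set.range (kgen f g)) := by
      rw [← ker_phi B π a f g S.surj S.ker S.hg]
      exact (S.mem_ker_iff z).mp hz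
    refine Submodule.span_induction (p := fun z _ => evalLoc g z ∈
      Ideal.map (algebraMap (MvPolynomial (Fin n) R) (Localization.Away g))
        (RingHom.ker π.toRingHom)) ?_ ?_ ?_ ?_ hz'
    · rintro _ ⟨o, rfl⟩
      cases o with
      | none =>
        show evalLoc g (rename some g * X none - 1) ∈ _
        rw [map_sub, map_mul, evalLoc_rename, evalLoc_X_none, map_one,
          IsLocalization.Away.mul_invSelf, sub_self]
        exact zero_mem _
      | some j =>
        show evalLoc g (rename some (f j)) ∈ _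
        rw [evalLoc_rename]
        exact Ideal.mem_map_of_mem _ (S.pi_f j)
    · rw [map_zero]
      exact zero_mem _
    · intro x y _ _ hx hy
      rw [map_add]
      exact add_mem hx hy
    · intro r x _ hx
      rw [smul_eq_mul, map_mul]
      exact Ideal.mul_mem_left _ _ hx
  have hεsq : ∀ z : MvPolynomial (Option (Fin n)) R, z ∈ G.toExtension.ker ^ 2 →
      evalLoc g z ∈ Ideal.map (algebraMap (MvPolynomial (Fin n) R) (Localization.Away g))
        ((RingHom.ker π.toRingHom) ^ 2) := by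
    intro z hz
    have hle : Ideal.map (evalLoc g) G.toExtension.ker ≤
        Ideal.map (algebraMap (MvPolynomial (Fin n) R) (Localization.Away g))
          (RingHom.ker π.toRingHom) :=
      Ideal.map_le_iff_le_comap.mpr (fun z hz => hεker z hz)
    have := Ideal.mem_map_of_mem (evalLoc g) hz
    rw [Ideal.map_pow] at this ⊢
    exact Ideal.pow_right_mono hle 2 this
  have h4 := hεsq _ h3
  rw [map_sub, evalLoc_rename, map_sum] at h4
  simp only [map_mul, evalLoc_rename] at h4
  have h5 : algebraMap (MvPolynomial (Fin n) R) (Localization.Away g) u ∈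
      Ideal.map (algebraMap (MvPolynomial (Fin n) R) (Localization.Away g))
        (Ideal.span (Set.range F) ⊔ (RingHom.ker π.toRingHom) ^ 2) := by
    rw [Ideal.map_sup]
    rw [← sub_add_cancel (algebraMap (MvPolynomial (Fin n) R) (Localization.Away g) u)
      (∑ k, evalLoc g (b k) *
        algebraMap (MvPolynomial (Fin n) R) (Localization.Away g) (F k))]
    exact Ideal.add_mem _ (Ideal.mem_sup_right h4)
      (Ideal.mem_sup_left (Ideal.sum_mem _ fun k _ => Ideal.mul_mem_left _ _
        (Ideal.mem_map_of_mem _ (Ideal.subset_span ⟨k, rfl⟩))))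
  exact loc_mem g _ u h5

end Cot2

section Final

variable {R A : Type u} [CommRing R] [CommRing A] [Algebra R A]

theorem strictlyStandard_zero {n₀ m₀ : ℕ} (π₀ : MvPolynomial (Fin n₀) R →ₐ[R] A)
    (hπ₀ : Function.Surjective π₀) (f₀ : Fin m₀ → MvPolynomial (Fin n₀) R)
    (hf₀ : RingHom.ker π₀.toRingHom = Ideal.span (Set.range f₀)) :
    Smoothing.IsStrictlyStandard R A 0 := by
  refine ⟨⟨n₀, m₀, 0, Nat.zero_le _, Nat.zero_le _, f₀, π₀, hπ₀, hf₀⟩, zero_mem _, ?_⟩
  intro a' ha' j _
  refine Ideal.mem_sup_right ?_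
  rw [sq]
  have h1 : a' ∈ Ideal.span (Set.range f₀) := by
    rw [← hf₀]
    exact ha'
  exact Ideal.mul_mem_mul h1 (Ideal.subset_span ⟨j, rfl⟩)

variable (B : Type u) [CommRing B] [Algebra A B] [Algebra R B] [IsScalarTower R A B]

/-- the linear algebra data attached to an extended presentation -/
noncomputable def mkLAData (a : A) [IsLocalization.Away a B] {n₀ m₀ q p : ℕ}
    {π₀ : MvPolynomial (Fin n₀) R →ₐ[R] A} {f₀ : Fin m₀ → MvPolynomial (Fin n₀) R}
    {g : MvPolynomial (Fin (n₀ + q)) R} {G : Algebra.Generators R B (Option (Fin (n₀ + q)))}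
    (S : Setup B (piExt q π₀) a (relExt q f₀) g G)
    (l : G.toExtension.CotangentSpace →ₗ[B] G.toExtension.Cotangent)
    (hl : l ∘ₗ G.toExtension.cotangentComplex = LinearMap.id)
    (e : (Ω[B⁄R] × (Fin p → B)) ≃ₗ[B] (Fin q → B)) :
    LAData B G.toExtension.Cotangent (Ω[B⁄R]) n₀ q p where
  cc := cc0 G
  l := l ∘ₗ G.cotangentSpaceBasis.equivFun.symm.toLinearMap
  κ := G.toExtension.toKaehler ∘ₗ G.cotangentSpaceBasis.equivFun.symm.toLinearMap
  γ := fun k => S.cgen (some (Fin.natAdd m₀ k))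
  η := S.cgen none
  uinv := IsLocalization.Away.invSelf a
  e := e
  lcc := by
    intro x
    show l (G.cotangentSpaceBasis.equivFun.symm
      (G.cotangentSpaceBasis.equivFun (G.toExtension.cotangentComplex x))) = x
    rw [LinearEquiv.symm_apply_apply]
    exact LinearMap.congr_fun hl x
  exact := by
    intro y
    constructor
    · intro h
      obtain ⟨x, hx⟩ := (G.toExtension.exact_cotangentComplex_toKaehler _).mp h
      refine ⟨x, ?_⟩
      show G.cotangentSpaceBasis.equivFun (G.toExtension.cotangentComplex x) = y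
      rw [hx]
      exact G.cotangentSpaceBasis.equivFun.apply_symm_apply y
    · rintro ⟨x, rfl⟩
      show G.toExtension.toKaehler (G.cotangentSpaceBasis.equivFun.symm
        (G.cotangentSpaceBasis.equivFun (G.toExtension.cotangentComplex x))) = 0
      rw [LinearEquiv.symm_apply_apply]
      exact G.toExtension.exact_cotangentComplex_toKaehler.apply_apply_eq_zero x
  surj := G.toExtension.toKaehler_surjective.comp G.cotangentSpaceBasis.equivFun.symm.surjective
  hγ := by
    classical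
    intro k
    funext i
    rw [S.cc0_cgen]
    show phi B (piExt q π₀) a (pderiv i (rename some (relExt q f₀ (Fin.natAdd m₀ k)))) = _
    have h1 : relExt q f₀ (Fin.natAdd m₀ k) = X (Fin.natAdd n₀ k) := by simp [relExt]
    rw [h1, rename_X, pderiv_X]
    by_cases hi : i = some (Fin.natAdd n₀ k)
    · subst hi
      rw [Pi.single_eq_same, Pi.single_eq_same, map_one]
    · rw [Pi.single_eq_of_ne (Ne.symm hi), Pi.single_eq_of_ne hi, map_zero]
  hη := by
    show cc0 G (S.cgen none) none * _ = 1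
    rw [S.cc0_cgen, phi_pderiv_kgen_none_none B _ a _ g S.hg, alg_mul_inv B a]

theorem main2_aux (a : A) [IsLocalization.Away a B] [Nontrivial B] [Algebra.FormallySmooth R B]
    (p q : ℕ) (e : (Ω[B⁄R] × (Fin p → B)) ≃ₗ[B] (Fin q → B))
    {n₀ m₀ : ℕ} (π₀ : MvPolynomial (Fin n₀) R →ₐ[R] A) (hπ₀ : Function.Surjective π₀)
    (f₀ : Fin m₀ → MvPolynomial (Fin n₀) R)
    (hker₀ : RingHom.ker π₀.toRingHom = Ideal.span (Set.range f₀)) :
    ∃ e₀ : ℕ, ∀ N : ℕ, e₀ ≤ N → Smoothing.IsStrictlyStandard R A (a ^ N) := by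
  classical
  have hpq : p ≤ q := by
    refine le_of_fin_injective B (e.toLinearMap.comp (LinearMap.inr B (Ω[B⁄R]) (Fin p → B))) ?_
    exact e.injective.comp LinearMap.inr_injective
  obtain ⟨π, hπdef⟩ : ∃ π, π = piExt q π₀ := ⟨_, rfl⟩
  obtain ⟨f, hfdef⟩ : ∃ f, f = relExt q f₀ := ⟨_, rfl⟩
  have hπ : Function.Surjective π := by rw [hπdef]; exact piExt_surjective q π₀ hπ₀
  have hker : RingHom.ker π.toRingHom = Ideal.span (Set.range f) := by
    rw [hπdef, hfdef]; exact ker_piExt q π₀ f₀ hker₀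
  obtain ⟨g₀, hg₀⟩ := hπ₀ a
  obtain ⟨g, hgdef⟩ : ∃ g, g = rename (Fin.castAdd q) g₀ := ⟨_, rfl⟩
  have hg : π g = a := by rw [hgdef, hπdef, piExt_rename, hg₀]
  have hsurj := phi_surjective B π a hπ
  let G : Algebra.Generators R B (Option (Fin (n₀ + q))) :=
    Algebra.Generators.ofSurjective (gval B π a) hsurj
  have S : Setup B π a f g G := ⟨hπ, hker, hg, fun x => rfl⟩
  haveI : Algebra.FormallySmooth R G.toExtension.Ring :=
    inferInstanceAs (Algebra.FormallySmooth R (MvPolynomial (Option (Fin (n₀ + q))) R))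
  obtain ⟨l, hl⟩ := (G.toExtension.formallySmooth_iff_split_injection).mp inferInstance
  -- linear algebra
  subst hπdef hfdef
  obtain ⟨z, Λ, hz0, hzspan, hΛ⟩ := (mkLAData B a S l hl e).exists_basis
  change ∀ k, cc0 G (z k) none = 0 at hz0
  change ∀ x, cc0 G x none = 0 → x ∈ Submodule.span B (Set.range z) at hzspan
  change ∀ k, Λ (cc0 G (z k)) = fun j => if k = j then 1 else 0 at hΛ
  -- coefficients
  have hzmem : ∀ k, z k ∈ Submodule.span B
      (Set.range fun j : Fin (m₀ + q) => S.cgen (some j)) :=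
    fun k => S.mem_span_cgen_some (z k) (hz0 k)
  choose β hβ using fun k => (Submodule.mem_span_range_iff_exists_fun B).mp (hzmem k)
  obtain ⟨⟨_, s, rfl⟩, hs⟩ := IsLocalization.exist_integer_multiples (Submonoid.powers a)
    (Finset.univ : Finset (Fin (n₀ + p) × Fin (m₀ + q))) (fun kj => β kj.1 kj.2)
  choose α hα using fun kj => hs kj (Finset.mem_univ _)
  choose αt hαt using fun kj => piExt_surjective q π₀ hπ₀ (α kj)
  simp only at hα
  -- the new relations
  obtain ⟨F, hFdef⟩ : ∃ F : Fin (n₀ + p) → MvPolynomial (Fin (n₀ + q)) R,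
      F = fun k => ∑ j, αt (k, j) * relExt q f₀ j := ⟨_, rfl⟩
  have hFker : ∀ k, piExt q π₀ (F k) = 0 := by
    intro k
    rw [hFdef, map_sum]
    refine Finset.sum_eq_zero fun j _ => ?_
    rw [map_mul, S.pi_f, mul_zero]
  have hFspan : ∀ k, F k ∈ Ideal.span (Set.range (relExt q f₀)) := by
    intro k
    rw [hFdef]
    exact Ideal.sum_mem _ fun j _ => Ideal.mul_mem_left _ _ (Ideal.subset_span ⟨j, rfl⟩)
  have hkey : ∀ k, S.mkr (F k) (hFker k) = (algebraMap A B a) ^ s • z k := by
    intro k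
    have h1 : S.mkr (F k) (hFker k) = S.mkr (∑ j, αt (k, j) * relExt q f₀ j)
        (by have := hFker k; rw [hFdef] at this; exact this) := by
      congr 1
      rw [hFdef]
    rw [h1, S.mkr_sum_mul (fun j => αt (k, j)) (relExt q f₀) S.pi_f, ← hβ k, Finset.smul_sum]
    refine Finset.sum_congr rfl fun j _ => ?_
    rw [hαt, hα, Algebra.smul_def, map_pow, mul_smul]
    rfl
  have hzF : ∀ k, z k = (IsLocalization.Away.invSelf a : B) ^ s • S.mkr (F k) (hFker k) := by
    intro k
    rw [hkey, smul_smul, ← mul_pow, mul_comm, alg_mul_inv B a, one_pow, one_smul]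
  -- the marked presentation
  let P : Smoothing.MarkedPresentation R A :=
    { n := n₀ + q
      m := (n₀ + p) + (m₀ + q)
      c := n₀ + p
      hcn := Nat.add_le_add_left hpq n₀
      hcm := Nat.le_add_right _ _
      rel := Fin.addCases (motive := fun _ => MvPolynomial (Fin (n₀ + q)) R) F (relExt q f₀)
      hom := piExt q π₀
      surj := hπ
      ker_eq := by
        rw [hker]
        apply le_antisymm
        · rw [Ideal.span_le]
          rintro _ ⟨j, rfl⟩
          refine Ideal.subset_span ⟨Fin.natAdd (n₀ + p) j, ?_⟩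
          simp
        · rw [Ideal.span_le]
          rintro _ ⟨j, rfl⟩
          refine Fin.addCases (fun k => ?_) (fun j => ?_) j
          · simp only [Fin.addCases_left]
            exact hFspan k
          · simp only [Fin.addCases_right]
            exact Ideal.subset_span ⟨j, rfl⟩ }
  have hrelF : ∀ k : Fin (n₀ + p), P.rel (Fin.castLE P.hcm k) = F k := by
    intro k
    show Fin.addCases (motive := fun _ => MvPolynomial (Fin (n₀ + q)) R) F (relExt q f₀)
      (Fin.castAdd (m₀ + q) k) = F k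
    simp
  -- the minors
  obtain ⟨NM, hNM⟩ : ∃ NM : ℕ, ∀ N : ℕ, NM ≤ N → a ^ N * 1 ∈
      Ideal.span (Set.range fun cols : Fin P.c → Fin P.n =>
        P.hom (Smoothing.jacobianMinor P.rel (Fin.castLE P.hcm) cols)) := by
    apply loc_mem (L := B) a
    rw [map_one]
    -- Jacobian matrix
    obtain ⟨JF, hJF⟩ : ∃ JF : Matrix (Fin (n₀ + p)) (Fin (n₀ + q)) B,
        JF = Matrix.of fun k i => algebraMap A B (piExt q π₀ (pderiv i (F k))) := ⟨_, rfl⟩
    obtain ⟨L, hL⟩ : ∃ L : Matrix (Fin (n₀ + q)) (Fin (n₀ + p)) B,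
        L = Matrix.of fun i k' => (IsLocalization.Away.invSelf a : B) ^ s *
          Λ (fun o => if some i = o then 1 else 0) k' := ⟨_, rfl⟩
    have hJL : JF * L = 1 := by
      ext k k'
      rw [Matrix.mul_apply, Matrix.one_apply]
      have h1 := congrFun (hΛ k) k'
      rw [hzF k, map_smul, map_smul, Pi.smul_apply,
        LinearMap.pi_apply_eq_sum_univ Λ (cc0 G (S.mkr (F k) (hFker k))), Fintype.sum_option,
        S.cc0_mkr_none, zero_smul, zero_add, Finset.sum_apply, smul_eq_mul, Finset.mul_sum] at h1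
      rw [← h1]
      refine Finset.sum_congr rfl fun i _ => ?_
      rw [hJF, hL, Matrix.of_apply, Matrix.of_apply, Pi.smul_apply, S.cc0_mkr_some, smul_eq_mul]
      ring
    have h1 := one_mem_span_minors JF L hJL
    refine (Ideal.span_le.mpr ?_) h1
    rintro _ ⟨I, rfl⟩
    have hdet : (JF.submatrix id I).det = algebraMap A B
        (P.hom (Smoothing.jacobianMinor P.rel (Fin.castLE P.hcm) I)) := by
      unfold Smoothing.jacobianMinor
      have := RingHom.map_det ((algebraMap A B).comp P.hom.toRingHom)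
        (Matrix.of fun j k : Fin P.c => pderiv (I k) (P.rel (Fin.castLE P.hcm j)))
      rw [show algebraMap A B (P.hom (Matrix.det (Matrix.of fun j k : Fin P.c =>
          pderiv (I k) (P.rel (Fin.castLE P.hcm j))))) = ((algebraMap A B).comp P.hom.toRingHom)
          (Matrix.det (Matrix.of fun j k : Fin P.c => pderiv (I k) (P.rel (Fin.castLE P.hcm j))))
        from rfl, this]
      congr 1
      ext j k
      rw [hJF]
      simp only [Matrix.submatrix_apply, id_eq, Matrix.of_apply, RingHom.mapMatrix_apply,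
        Matrix.map_apply, hrelF]
      rfl
    show (JF.submatrix id I).det ∈ _
    rw [hdet]
    exact Ideal.mem_map_of_mem _ (Ideal.subset_span ⟨I, rfl⟩)
  -- the tail
  have hT : ∀ j : Fin (m₀ + q), ∃ N : ℕ, ∀ N' : ℕ, N ≤ N' →
      g ^ N' * relExt q f₀ j ∈ Ideal.span (Set.range F) ⊔
        (RingHom.ker (piExt q π₀).toRingHom) ^ 2 := by
    intro j
    refine S.desc F hFker (relExt q f₀ j) (S.pi_f j) ?_
    rw [S.mkr_f]
    have h1 := hzspan (S.cgen (some j)) (by
      rw [S.cc0_cgen, phi_pderiv_kgen_none_some])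
    refine (Submodule.span_le.mpr ?_) h1
    rintro _ ⟨k, rfl⟩
    rw [hzF k]
    exact Submodule.smul_mem _ _ (Submodule.subset_span ⟨k, rfl⟩)
  choose NT hNT using hT
  refine ⟨max NM (Finset.univ.sup NT), fun N hN => ?_⟩
  have hN1 : NM ≤ N := le_trans (le_max_left _ _) hN
  have hN2 : ∀ j, NT j ≤ N := fun j =>
    le_trans (Finset.le_sup (f := NT) (Finset.mem_univ j)) (le_trans (le_max_right _ _) hN)
  refine ⟨P, ?_, ?_⟩
  · have := hNM N hN1
    rwa [mul_one] at this
  · intro a' ha' j hj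
    obtain ⟨j₀, rfl⟩ : ∃ j₀ : Fin (m₀ + q), j = Fin.natAdd (n₀ + p) j₀ := by
      refine ⟨⟨(j : ℕ) - (n₀ + p), ?_⟩, Fin.ext ?_⟩
      · have := j.2
        change (j : ℕ) < (n₀ + p) + (m₀ + q) at this
        change n₀ + p ≤ (j : ℕ) at hj
        omega
      · change n₀ + p ≤ (j : ℕ) at hj
        simp only [Fin.natAdd_mk]
        omega
    have hrel : P.rel (Fin.natAdd (n₀ + p) j₀) = relExt q f₀ j₀ := by
      show Fin.addCases (motive := fun _ => MvPolynomial (Fin (n₀ + q)) R) F (relExt q f₀)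
        (Fin.natAdd (n₀ + p) j₀) = _
      simp
    have e1 : Ideal.span (P.rel '' {j' : Fin P.m | (j' : ℕ) < P.c}) = Ideal.span (Set.range F) := by
      rw [image_lt_eq_range P.hcm P.rel]
      congr 2
      funext k
      exact hrelF k
    have e2 : Ideal.span (Set.range P.rel) = RingHom.ker (piExt q π₀).toRingHom := P.ker_eq.symm
    rw [hrel, e1, e2]
    have h1 := hNT j₀ N (hN2 j₀)
    have h2 : a' - g ^ N ∈ RingHom.ker (piExt q π₀).toRingHom := by
      show piExt q π₀ (a' - g ^ N) = 0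
      rw [map_sub, map_pow, hg, sub_eq_zero]
      exact ha'
    have h3 : relExt q f₀ j₀ ∈ RingHom.ker (piExt q π₀).toRingHom := S.pi_f j₀
    have h4 : (a' - g ^ N) * relExt q f₀ j₀ ∈ (RingHom.ker (piExt q π₀).toRingHom) ^ 2 := by
      rw [sq]
      exact Ideal.mul_mem_mul h2 h3
    have h5 : a' * relExt q f₀ j₀ = g ^ N * relExt q f₀ j₀ + (a' - g ^ N) * relExt q f₀ j₀ := by
      ring
    rw [h5]
    exact Ideal.add_mem _ h1 (Ideal.mem_sup_right h4)

/-- **S2031**. -/
theorem main2 [Algebra.FinitePresentation R A] (a : A)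
    [Algebra.Smooth R (Localization.Away a)] (p q : ℕ)
    (e : (Ω[Localization.Away a⁄R] × (Fin p → Localization.Away a)) ≃ₗ[Localization.Away a]
      (Fin q → Localization.Away a)) :
    ∃ e₀ : ℕ, ∀ n : ℕ, e₀ ≤ n → Smoothing.IsStrictlyStandard R A (a ^ n) := by
  obtain ⟨n₀, π₀, hπ₀, hfg⟩ := Algebra.FinitePresentation.out (R := R) (A := A)
  obtain ⟨m₀, f₀, hf₀⟩ := Submodule.fg_iff_exists_fin_generating_family.mp hfg
  have hker₀ : RingHom.ker π₀.toRingHom = Ideal.span (Set.range f₀) := hf₀.symm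
  by_cases hB : Subsingleton (Localization.Away a)
  · have h01 : algebraMap A (Localization.Away a) 1 = algebraMap A (Localization.Away a) 0 :=
      Subsingleton.elim _ _
    obtain ⟨⟨_, N, rfl⟩, hN⟩ :=
      (IsLocalization.eq_iff_exists (Submonoid.powers a) (Localization.Away a)).mp h01
    simp only [mul_one, mul_zero] at hN
    refine ⟨N, fun n hn => ?_⟩
    obtain ⟨d, rfl⟩ := Nat.exists_eq_add_of_le hn
    rw [pow_add, hN, zero_mul]
    exact strictlyStandard_zero π₀ hπ₀ f₀ hker₀
  · rw [not_subsingleton_iff_nontrivial] at hB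
    exact main2_aux (Localization.Away a) a p q e π₀ hπ₀ f₀ hker₀

end Final

end Groth.Agent.Lib.StrictStdH1
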