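import Mathlib

/-!
# Kähler differentials of a symmetric algebra (helper8)
APPEND-ONLY once landed.
-/

set_option autoImplicit false

open TensorProduct

namespace SymKaeH8

universe u

section X1

variable (S : Type u) [CommRing S] (Q : Type u) [AddCommGroup Q] [Module S Q]

/-- `Ω_{Sym_S(Q)/S} ≅ Sym_S(Q) ⊗_S Q`. -/
theorem exists_symKaehlerEquiv :
    ∃ e : (SymmetricAlgebra S Q ⊗[S] Q) ≃ₗ[SymmetricAlgebra S Q] Ω[SymmetricAlgebra S Q⁄S],
      ∀ (b : SymmetricAlgebra S Q) (q : Q), e (b ⊗ₜ[S] q) =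
        b • KaehlerDifferential.D S (SymmetricAlgebra S Q) (SymmetricAlgebra.ι S Q q) := by
  let fwd : (SymmetricAlgebra S Q ⊗[S] Q) →ₗ[SymmetricAlgebra S Q] Ω[SymmetricAlgebra S Q⁄S] :=
    LinearMap.liftBaseChange (SymmetricAlgebra S Q)
      ((KaehlerDifferential.D S (SymmetricAlgebra S Q)).toLinearMap ∘ₗ SymmetricAlgebra.ι S Q)
  have hfwd : ∀ (b : SymmetricAlgebra S Q) (q : Q), fwd (b ⊗ₜ[S] q) =
      b • KaehlerDifferential.D S (SymmetricAlgebra S Q) (SymmetricAlgebra.ι S Q q) := by
    intro b q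
    show LinearMap.liftBaseChange _ _ (b ⊗ₜ[S] q) = _
    rw [LinearMap.liftBaseChange_tmul]
    rfl
  let lin : Q →ₗ[S] TrivSqZeroExt (SymmetricAlgebra S Q) (SymmetricAlgebra S Q ⊗[S] Q) :=
    { toFun := fun q => TrivSqZeroExt.inl (SymmetricAlgebra.ι S Q q) +
        TrivSqZeroExt.inr ((1 : SymmetricAlgebra S Q) ⊗ₜ[S] q)
      map_add' := fun q q' => by
        rw [map_add, TrivSqZeroExt.inl_add, TensorProduct.tmul_add, TrivSqZeroExt.inr_add]
        abel
      map_smul' := fun s q => by
        rw [map_smul, TensorProduct.tmul_smul, RingHom.id_apply, smul_add,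
          TrivSqZeroExt.inl_smul, TrivSqZeroExt.inr_smul] }
  let τ : SymmetricAlgebra S Q →ₐ[S]
      TrivSqZeroExt (SymmetricAlgebra S Q) (SymmetricAlgebra S Q ⊗[S] Q) :=
    SymmetricAlgebra.lift lin
  have hτι : ∀ q, τ (SymmetricAlgebra.ι S Q q) = TrivSqZeroExt.inl (SymmetricAlgebra.ι S Q q) +
      TrivSqZeroExt.inr ((1 : SymmetricAlgebra S Q) ⊗ₜ[S] q) := fun q =>
    SymmetricAlgebra.lift_ι_apply _ q
  have hfst : ∀ b, (τ b).fst = b := by
    intro b
    induction b using SymmetricAlgebra.induction with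
    | algebraMap r =>
      rw [τ.commutes]
      rfl
    | ι x =>
      rw [hτι, TrivSqZeroExt.fst_add, TrivSqZeroExt.fst_inl, TrivSqZeroExt.fst_inr, add_zero]
    | mul a b ha hb => rw [map_mul, TrivSqZeroExt.fst_mul, ha, hb]
    | add a b ha hb => rw [map_add, TrivSqZeroExt.fst_add, ha, hb]
  let δ : Derivation S (SymmetricAlgebra S Q) (SymmetricAlgebra S Q ⊗[S] Q) := Derivation.mk'
    ((TrivSqZeroExt.sndHom (SymmetricAlgebra S Q) (SymmetricAlgebra S Q ⊗[S] Q)).restrictScalars S
      ∘ₗ τ.toLinearMap) (fun a b => by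
      show (τ (a * b)).snd = a • (τ b).snd + b • (τ a).snd
      rw [map_mul, TrivSqZeroExt.snd_mul, hfst, hfst, op_smul_eq_smul])
  have hδ : ∀ b, δ b = (τ b).snd := fun b => rfl
  have hδι : ∀ q, δ (SymmetricAlgebra.ι S Q q) = (1 : SymmetricAlgebra S Q) ⊗ₜ[S] q := by
    intro q
    rw [hδ, hτι, TrivSqZeroExt.snd_add, TrivSqZeroExt.snd_inl, TrivSqZeroExt.snd_inr, zero_add]
  have h1 : ∀ x, δ.liftKaehlerDifferential (fwd x) = x := by
    intro x
    induction x using TensorProduct.induction_on with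
    | zero => rw [map_zero, map_zero]
    | tmul b q =>
      rw [hfwd, map_smul, Derivation.liftKaehlerDifferential_comp_D, hδι,
        TensorProduct.smul_tmul', smul_eq_mul, mul_one]
    | add x y hx hy => rw [map_add, map_add, hx, hy]
  have h2D : ∀ b : SymmetricAlgebra S Q,
      fwd (δ b) = KaehlerDifferential.D S (SymmetricAlgebra S Q) b := by
    intro b
    induction b using SymmetricAlgebra.induction with
    | algebraMap r =>
      rw [Derivation.map_algebraMap, Derivation.map_algebraMap, map_zero]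
    | ι x => rw [hδι, hfwd, one_smul]
    | mul a b ha hb =>
      rw [Derivation.leibniz, Derivation.leibniz, map_add, map_smul, map_smul, ha, hb]
    | add a b ha hb => rw [map_add, map_add, map_add, ha, hb]
  have h2 : ∀ ω, fwd (δ.liftKaehlerDifferential ω) = ω := by
    intro ω
    have hω : ω ∈ Submodule.span (SymmetricAlgebra S Q)
        (Set.range (KaehlerDifferential.D S (SymmetricAlgebra S Q))) := by
      rw [KaehlerDifferential.span_range_derivation]
      trivial
    induction hω using Submodule.span_induction with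
    | mem x hx =>
      obtain ⟨b, rfl⟩ := hx
      rw [Derivation.liftKaehlerDifferential_comp_D, h2D]
    | zero => rw [map_zero, map_zero]
    | add x y _ _ hx hy => rw [map_add, map_add, hx, hy]
    | smul a x _ hx => rw [map_smul, map_smul, hx]
  exact ⟨LinearEquiv.ofLinear fwd δ.liftKaehlerDifferential (LinearMap.ext h2) (LinearMap.ext h1),
    hfwd⟩

end X1

end SymKaeH8
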