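import Mathlib
import Groth.Agent.Lib.SymKae1_helper8
import Groth.Agent.Lib.SymSmooth_helper7

/-!
# Kähler differentials of a symmetric algebra over a base (helper8)
APPEND-ONLY once landed.
-/

set_option autoImplicit false

open TensorProduct

namespace SymKaeH8

universe u

theorem exists_kaehler_split (R S B : Type u) [CommRing R] [CommRing S] [CommRing B]
    [Algebra R S] [Algebra S B] [Algebra R B] [IsScalarTower R S B]
    [Algebra.FormallySmooth S B] :
    Nonempty (Ω[B⁄R] ≃ₗ[B] (B ⊗[S] Ω[S⁄R]) × Ω[B⁄S]) := by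
  have hinj : Function.Injective (KaehlerDifferential.mapBaseChange R S B) := by
    rw [injective_iff_map_eq_zero]
    intro x hx
    obtain ⟨y, rfl⟩ := (Algebra.H1Cotangent.exact_δ_mapBaseChange R S B x).mp hx
    rw [Subsingleton.elim y 0, map_zero]
  have hexact := KaehlerDifferential.exact_mapBaseChange_map R S B
  have hsurj : Function.Surjective (KaehlerDifferential.map R S B B) :=
    KaehlerDifferential.map_surjective R S B
  obtain ⟨l, hl⟩ := Module.projective_lifting_property (KaehlerDifferential.map R S B B)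
    LinearMap.id hsurj
  exact ⟨(hexact.splitSurjectiveEquiv hinj ⟨l, hl⟩).1⟩

theorem free_kaehler_sym (R S : Type u) [CommRing R] [CommRing S] [Algebra R S] (Q : Type u)
    [AddCommGroup Q] [Module S Q] [Algebra R (SymmetricAlgebra S Q)]
    [IsScalarTower R S (SymmetricAlgebra S Q)] [Module.Finite S Q]
    [Module.Projective S Q] (n : ℕ) (θ : (Ω[S⁄R] × Q) ≃ₗ[S] (Fin n → S)) :
    Module.Free (SymmetricAlgebra S Q) Ω[SymmetricAlgebra S Q⁄R] := by
  haveI : Algebra.Smooth S (SymmetricAlgebra S Q) :=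
    (Groth.Agent.Lib.SymSmoothH7.main).mpr ⟨inferInstance, inferInstance⟩
  obtain ⟨e1⟩ := exists_kaehler_split R S (SymmetricAlgebra S Q)
  obtain ⟨e2, _⟩ := exists_symKaehlerEquiv S Q
  let e3 : (SymmetricAlgebra S Q ⊗[S] (Ω[S⁄R] × Q)) ≃ₗ[SymmetricAlgebra S Q]
      (SymmetricAlgebra S Q ⊗[S] (Fin n → S)) :=
    TensorProduct.AlgebraTensorModule.congr (LinearEquiv.refl _ _) θ
  let e4 : (SymmetricAlgebra S Q ⊗[S] (Ω[S⁄R] × Q)) ≃ₗ[SymmetricAlgebra S Q]
      (SymmetricAlgebra S Q ⊗[S] Ω[S⁄R]) × (SymmetricAlgebra S Q ⊗[S] Q) :=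
    TensorProduct.prodRight S (SymmetricAlgebra S Q) (SymmetricAlgebra S Q) _ _
  exact Module.Free.of_equiv
    (e3.symm ≪≫ₗ e4 ≪≫ₗ (LinearEquiv.prodCongr (LinearEquiv.refl _ _) e2) ≪≫ₗ e1.symm)

end SymKaeH8
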