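import Mathlib
import Groth.Agent.Lib.SymKae2_helper8

/-!
# Splitting the relation module of differentials after a smooth localization (helper8)
APPEND-ONLY once landed.
-/

set_option autoImplicit false

open TensorProduct

namespace SymKaeH8

universe u

theorem exists_theta (R A : Type u) [CommRing R] [CommRing A] [Algebra R A] (n : ℕ)
    (π : (Fin n → A) →ₗ[A] Ω[A⁄R]) (hπ : Function.Surjective π)
    (S : Type u) [CommRing S] [Algebra A S] [Algebra R S] [IsScalarTower R A S]
    [Algebra.FormallyEtale A S] [Module.Flat A S] [Algebra.FormallySmooth R S] :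
    Nonempty ((Ω[S⁄R] × (S ⊗[A] (LinearMap.ker π))) ≃ₗ[S] (Fin n → S)) := by
  classical
  let f : S ⊗[A] (LinearMap.ker π) →ₗ[S] S ⊗[A] (Fin n → A) :=
    (LinearMap.ker π).subtype.baseChange S
  let g' : S ⊗[A] (Fin n → A) →ₗ[S] S ⊗[A] Ω[A⁄R] := π.baseChange S
  let ek : S ⊗[A] Ω[A⁄R] ≃ₗ[S] Ω[S⁄R] :=
    KaehlerDifferential.tensorKaehlerEquivOfFormallyEtale R A S
  let g : S ⊗[A] (Fin n → A) →ₗ[S] Ω[S⁄R] := ek.toLinearMap ∘ₗ g'
  have hf : Function.Injective f := by
    show Function.Injective ((LinearMap.ker π).subtype.baseChange S)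
    rw [LinearMap.baseChange_eq_ltensor]
    exact Module.Flat.lTensor_preserves_injective_linearMap _ (Submodule.injective_subtype _)
  have hex0 : Function.Exact (LinearMap.ker π).subtype π := LinearMap.exact_subtype_ker_map π
  have hex' : Function.Exact f g' := by
    have := lTensor_exact S hex0 hπ
    intro x
    exact this x
  have hex : Function.Exact f g := by
    intro x
    rw [← hex' x]
    show ek (g' x) = 0 ↔ g' x = 0
    exact ek.map_eq_zero_iff
  have hg : Function.Surjective g := by
    have h1 : Function.Surjective g' := by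
      show Function.Surjective (π.baseChange S)
      rw [LinearMap.baseChange_eq_ltensor]
      exact LinearMap.lTensor_surjective S hπ
    exact ek.surjective.comp h1
  obtain ⟨l, hl⟩ := Module.projective_lifting_property g LinearMap.id hg
  let e := (hex.splitSurjectiveEquiv hf ⟨l, hl⟩).1
  let e5 : S ⊗[A] (Fin n → A) ≃ₗ[S] (Fin n → S) := TensorProduct.piScalarRight A S S (Fin n)
  exact ⟨(LinearEquiv.prodComm S _ _) ≪≫ₗ e.symm ≪≫ₗ e5⟩

end SymKaeH8
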