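import Mathlib
import Groth.Agent.Lib.SymKae3_helper8

/-!
# Localizing a symmetric algebra (helper8)
APPEND-ONLY once landed.
-/

set_option autoImplicit false

open TensorProduct

namespace SymKaeH8

universe u

theorem exists_ringEquiv_sym_away (A : Type u) [CommRing A] (N : Type u) [AddCommGroup N]
    [Module A N] (a : A) (S : Type u) [CommRing S] [Algebra A S] [IsLocalization.Away a S]
    (T : Type u) [CommRing T] [Algebra (SymmetricAlgebra A N) T] [Algebra A T]
    [IsScalarTower A (SymmetricAlgebra A N) T]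
    [IsLocalization.Away (algebraMap A (SymmetricAlgebra A N) a) T] :
    ∃ Φ : SymmetricAlgebra S (S ⊗[A] N) ≃+* T,
      ∀ r : A, Φ (algebraMap A (SymmetricAlgebra S (S ⊗[A] N)) r) = algebraMap A T r := by
  have hunit : IsUnit (algebraMap A T a) := by
    rw [IsScalarTower.algebraMap_apply A (SymmetricAlgebra A N) T]
    exact IsLocalization.Away.algebraMap_isUnit _
  letI : Algebra S T := (IsLocalization.Away.lift a (g := algebraMap A T) hunit).toAlgebra
  haveI : IsScalarTower A S T := .of_algebraMap_eq (fun r =>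
    (IsLocalization.Away.lift_eq a (g := algebraMap A T) hunit r).symm)
  -- the map `φ : C → B`
  let lin₁ : N →ₗ[A] SymmetricAlgebra S (S ⊗[A] N) :=
    (SymmetricAlgebra.ι S (S ⊗[A] N)).restrictScalars A ∘ₗ TensorProduct.mk A S N 1
  let φ : SymmetricAlgebra A N →ₐ[A] SymmetricAlgebra S (S ⊗[A] N) := SymmetricAlgebra.lift lin₁
  have hφι : ∀ n, φ (SymmetricAlgebra.ι A N n) =
      SymmetricAlgebra.ι S (S ⊗[A] N) ((1 : S) ⊗ₜ[A] n) := fun n =>
    SymmetricAlgebra.lift_ι_apply _ n
  have hφa : IsUnit (φ.toRingHom (algebraMap A (SymmetricAlgebra A N) a)) := by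
    show IsUnit (φ (algebraMap A (SymmetricAlgebra A N) a))
    rw [φ.commutes, IsScalarTower.algebraMap_apply A S (SymmetricAlgebra S (S ⊗[A] N))]
    exact (IsLocalization.Away.algebraMap_isUnit a).map _
  let F : T →+* SymmetricAlgebra S (S ⊗[A] N) :=
    IsLocalization.Away.lift (algebraMap A (SymmetricAlgebra A N) a) (g := φ.toRingHom) hφa
  have hF : ∀ c, F (algebraMap (SymmetricAlgebra A N) T c) = φ c := fun c =>
    IsLocalization.Away.lift_eq _ hφa c
  -- the map `G : B → T`
  let ℓ₀ : N →ₗ[A] T :=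
    (Algebra.linearMap (SymmetricAlgebra A N) T).restrictScalars A ∘ₗ SymmetricAlgebra.ι A N
  have hℓ₀ : ∀ n, ℓ₀ n = algebraMap (SymmetricAlgebra A N) T (SymmetricAlgebra.ι A N n) :=
    fun n => rfl
  let ℓ : (S ⊗[A] N) →ₗ[S] T := LinearMap.liftBaseChange S ℓ₀
  have hℓ : ∀ (s : S) (n : N), ℓ (s ⊗ₜ[A] n) = s • ℓ₀ n := fun s n =>
    LinearMap.liftBaseChange_tmul _ _ _ _
  let G : SymmetricAlgebra S (S ⊗[A] N) →ₐ[S] T := SymmetricAlgebra.lift ℓ
  have hGι : ∀ q, G (SymmetricAlgebra.ι S (S ⊗[A] N) q) = ℓ q := fun q =>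
    SymmetricAlgebra.lift_ι_apply _ q
  -- `F` is `S`-linear
  have hFA : ∀ r : A, F (algebraMap A T r) =
      algebraMap A (SymmetricAlgebra S (S ⊗[A] N)) r := by
    intro r
    rw [IsScalarTower.algebraMap_apply A (SymmetricAlgebra A N) T, hF, φ.commutes]
  have hFS : ∀ s : S, F (algebraMap S T s) = algebraMap S (SymmetricAlgebra S (S ⊗[A] N)) s := by
    have : F.comp (algebraMap S T) = algebraMap S (SymmetricAlgebra S (S ⊗[A] N)) := by
      apply IsLocalization.ringHom_ext (Submonoid.powers a)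
      ext r
      show F (algebraMap S T (algebraMap A S r)) =
        algebraMap S (SymmetricAlgebra S (S ⊗[A] N)) (algebraMap A S r)
      rw [← IsScalarTower.algebraMap_apply A S T,
        ← IsScalarTower.algebraMap_apply A S (SymmetricAlgebra S (S ⊗[A] N)), hFA]
    exact fun s => RingHom.congr_fun this s
  -- `G ∘ φ = algebraMap`
  have hGφ : ∀ c, G (φ c) = algebraMap (SymmetricAlgebra A N) T c := by
    have : (G.restrictScalars A).comp φ = IsScalarTower.toAlgHom A (SymmetricAlgebra A N) T := by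
      apply SymmetricAlgebra.algHom_ext
      ext n
      show G (φ (SymmetricAlgebra.ι A N n)) =
        algebraMap (SymmetricAlgebra A N) T (SymmetricAlgebra.ι A N n)
      rw [hφι, hGι, hℓ, one_smul, hℓ₀]
    exact fun c => AlgHom.congr_fun this c
  have hGF : G.toRingHom.comp F = RingHom.id T := by
    apply IsLocalization.ringHom_ext (Submonoid.powers (algebraMap A (SymmetricAlgebra A N) a))
    ext c
    show G (F (algebraMap (SymmetricAlgebra A N) T c)) = algebraMap (SymmetricAlgebra A N) T c
    rw [hF, hGφ]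
  let F' : T →ₐ[S] SymmetricAlgebra S (S ⊗[A] N) := { F with commutes' := hFS }
  have hFG : F.comp G.toRingHom = RingHom.id (SymmetricAlgebra S (S ⊗[A] N)) := by
    have : F'.comp G = AlgHom.id S (SymmetricAlgebra S (S ⊗[A] N)) := by
      apply SymmetricAlgebra.algHom_ext
      refine LinearMap.ext fun q => ?_
      show F (G (SymmetricAlgebra.ι S (S ⊗[A] N) q)) = SymmetricAlgebra.ι S (S ⊗[A] N) q
      rw [hGι]
      induction q using TensorProduct.induction_on with
      | zero => rw [map_zero, map_zero, map_zero]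
      | tmul s n =>
        rw [hℓ, Algebra.smul_def, map_mul, hFS, hℓ₀, hF, hφι, ← Algebra.smul_def, ← map_smul,
          TensorProduct.smul_tmul', smul_eq_mul, mul_one]
      | add x y hx hy => rw [map_add, map_add, map_add, hx, hy]
    ext b
    exact AlgHom.congr_fun this b
  refine ⟨RingEquiv.ofRingHom G.toRingHom F hGF hFG, fun r => ?_⟩
  show G (algebraMap A (SymmetricAlgebra S (S ⊗[A] N)) r) = algebraMap A T r
  rw [IsScalarTower.algebraMap_apply A S (SymmetricAlgebra S (S ⊗[A] N)), G.commutes,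
    ← IsScalarTower.algebraMap_apply A S T]

end SymKaeH8
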