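import Mathlib
import Groth.Agent.Lib.SymKae4_helper8

/-!
# A finite type algebra with retraction whose smooth localizations have free differentials
(helper8)  APPEND-ONLY once landed.
-/

set_option autoImplicit false

open TensorProduct

namespace SymKaeH8

universe u

theorem finiteType_symmetricAlgebra (A : Type u) [CommRing A] (N : Type u) [AddCommGroup N]
    [Module A N] [Module.Finite A N] : Algebra.FiniteType A (SymmetricAlgebra A N) := by
  classical
  obtain ⟨s, hs⟩ := (Module.Finite.fg_top : (⊤ : Submodule A N).FG)
  refine ⟨⟨s.image (SymmetricAlgebra.ι A N), ?_⟩⟩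
  rw [eq_top_iff]
  intro b _
  have hι : ∀ x : N, SymmetricAlgebra.ι A N x ∈
      Algebra.adjoin A ((s.image (SymmetricAlgebra.ι A N) : Finset _) : Set (SymmetricAlgebra A N)) := by
    intro x
    have hx : x ∈ Submodule.span A (s : Set N) := by
      rw [hs]
      trivial
    induction hx using Submodule.span_induction with
    | mem y hy =>
      apply Algebra.subset_adjoin
      rw [Finset.coe_image]
      exact ⟨y, hy, rfl⟩
    | zero =>
      rw [map_zero]
      exact Subalgebra.zero_mem _
    | add y z _ _ hy hz =>
      rw [map_add]
      exact Subalgebra.add_mem _ hy hz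
    | smul r y _ hy =>
      rw [map_smul]
      exact Subalgebra.smul_mem _ hy r
  induction b using SymmetricAlgebra.induction with
  | algebraMap r => exact Subalgebra.algebraMap_mem _ r
  | ι x => exact hι x
  | mul a b ha hb => exact Subalgebra.mul_mem _ (ha trivial) (hb trivial)
  | add a b ha hb => exact Subalgebra.add_mem _ (ha trivial) (hb trivial)

theorem main2110 {R A : Type u} [CommRing R] [CommRing A] [Algebra R A]
    [Algebra.FinitePresentation R A] :
    ∃ (C : Type u) (_ : CommRing C) (_ : Algebra A C) (_ : Algebra R C) (_ : IsScalarTower R A C),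
      Algebra.FiniteType A C ∧ Nonempty (C →ₐ[A] A) ∧
      ∀ a : A, Algebra.Smooth R (Localization.Away a) →
        Module.Free (Localization.Away (algebraMap A C a))
          Ω[Localization.Away (algebraMap A C a)⁄R] := by
  classical
  obtain ⟨n, π, hπ⟩ := Module.Finite.exists_fin' A Ω[A⁄R]
  haveI : Module.Finite A (LinearMap.ker π) :=
    Module.Finite.iff_fg.mpr (Module.FinitePresentation.fg_ker π hπ)
  refine ⟨SymmetricAlgebra A (LinearMap.ker π), inferInstance, inferInstance, inferInstance,
    inferInstance, finiteType_symmetricAlgebra A _, ⟨SymmetricAlgebra.algebraMapInv⟩, ?_⟩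
  intro a hsm
  haveI : Algebra.FormallyEtale A (Localization.Away a) :=
    Algebra.FormallyEtale.of_isLocalization (Submonoid.powers a)
  haveI : Module.Flat A (Localization.Away a) := IsLocalization.flat _ (Submonoid.powers a)
  obtain ⟨θ⟩ := exists_theta R A n π hπ (Localization.Away a)
  haveI : Module.Projective (Localization.Away a)
      (Ω[Localization.Away a⁄R] × (Localization.Away a ⊗[A] (LinearMap.ker π))) :=
    Module.Projective.of_equiv θ.symm
  haveI : Module.Projective (Localization.Away a)
      (Localization.Away a ⊗[A] (LinearMap.ker π)) :=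
    Module.Projective.of_split
      (LinearMap.inr (Localization.Away a) Ω[Localization.Away a⁄R]
        (Localization.Away a ⊗[A] (LinearMap.ker π)))
      (LinearMap.snd (Localization.Away a) Ω[Localization.Away a⁄R]
        (Localization.Away a ⊗[A] (LinearMap.ker π)))
      (LinearMap.ext fun _ => rfl)
  have hfree := free_kaehler_sym R (Localization.Away a)
    (Localization.Away a ⊗[A] (LinearMap.ker π)) n θ
  obtain ⟨Φ, hΦ⟩ := exists_ringEquiv_sym_away A (LinearMap.ker π) a (Localization.Away a)
    (Localization.Away (algebraMap A (SymmetricAlgebra A (LinearMap.ker π)) a))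
  letI : Algebra (SymmetricAlgebra (Localization.Away a)
      (Localization.Away a ⊗[A] (LinearMap.ker π)))
      (Localization.Away (algebraMap A (SymmetricAlgebra A (LinearMap.ker π)) a)) :=
    Φ.toRingHom.toAlgebra
  haveI : IsScalarTower R (SymmetricAlgebra (Localization.Away a)
      (Localization.Away a ⊗[A] (LinearMap.ker π)))
      (Localization.Away (algebraMap A (SymmetricAlgebra A (LinearMap.ker π)) a)) :=
    .of_algebraMap_eq (fun r => by
      show _ = Φ _
      rw [IsScalarTower.algebraMap_apply R A (SymmetricAlgebra (Localization.Away a)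
        (Localization.Away a ⊗[A] (LinearMap.ker π))), hΦ,
        ← IsScalarTower.algebraMap_apply R A])
  haveI : Algebra.FormallyEtale (SymmetricAlgebra (Localization.Away a)
      (Localization.Away a ⊗[A] (LinearMap.ker π)))
      (Localization.Away (algebraMap A (SymmetricAlgebra A (LinearMap.ker π)) a)) :=
    Algebra.FormallyEtale.of_equiv
      ({ Φ with commutes' := fun _ => rfl } :
        (SymmetricAlgebra (Localization.Away a) (Localization.Away a ⊗[A] (LinearMap.ker π)))
          ≃ₐ[SymmetricAlgebra (Localization.Away a)
            (Localization.Away a ⊗[A] (LinearMap.ker π))]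
        (Localization.Away (algebraMap A (SymmetricAlgebra A (LinearMap.ker π)) a)))
  exact Module.Free.of_equiv (KaehlerDifferential.tensorKaehlerEquivOfFormallyEtale R
    (SymmetricAlgebra (Localization.Away a) (Localization.Away a ⊗[A] (LinearMap.ker π)))
    (Localization.Away (algebraMap A (SymmetricAlgebra A (LinearMap.ker π)) a)))

end SymKaeH8
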