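import Mathlib
import Groth.Prelude.Def_Smoothing
import Groth.Agent.Lib.SymKae5_helper8
import Groth.Agent.Lib.SymSmooth_helper7
import Groth.Agent.Lib.StrictStd2_helper1

/-!
Helper library (helper4): Elkik's trick packaged for "Smoothing ring maps": over a Noetherian base
`R`, every finitely presented `R`-algebra `B` has a finitely presented `R`-algebra `C` with a
retraction `C → B` such that whenever `B_b` is smooth over `R`, `C_b` is smooth over `R` and all
large powers of `b` are strictly standard in `C` over `R`.  APPEND-ONLY once landed.
-/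

set_option autoImplicit false
set_option linter.unusedVariables false
set_option linter.unusedTactic false
set_option linter.unreachableTactic false
set_option linter.unusedSectionVars false
set_option linter.style.haveILetI false
set_option maxHeartbeats 1000000

universe u

open TensorProduct

namespace Groth.Agent.Lib.ElkikFreeH4

open SymKaeH8

theorem exists_equiv_fin {S M : Type u} [CommRing S] [AddCommGroup M] [Module S M]
    [Module.Free S M] [Module.Finite S M] :
    ∃ (q : ℕ), Nonempty ((M × (Fin 0 → S)) ≃ₗ[S] (Fin q → S)) := by
  by_cases hS : Subsingleton S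
  · haveI := hS
    haveI : Subsingleton (M × (Fin 0 → S)) := Module.subsingleton S _
    haveI : Subsingleton (Fin 0 → S) := Module.subsingleton S _
    exact ⟨0, ⟨LinearEquiv.ofSubsingleton _ _⟩⟩
  · rw [not_subsingleton_iff_nontrivial] at hS
    haveI := hS
    exact ⟨Module.finrank S M,
      ⟨(LinearEquiv.prodUnique).trans (Module.finBasis S M).equivFun⟩⟩

theorem main_elkik {R A : Type u} [CommRing R] [IsNoetherianRing R] [CommRing A] [Algebra R A]
    [Algebra.FinitePresentation R A] :
    ∃ (C : Type u) (_ : CommRing C) (_ : Algebra A C) (_ : Algebra R C) (_ : IsScalarTower R A C),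
      Algebra.FinitePresentation R C ∧ Nonempty (C →ₐ[A] A) ∧
      ∀ a : A, Algebra.Smooth R (Localization.Away a) →
        Algebra.Smooth R (Localization.Away (algebraMap A C a)) ∧
        ∃ e₀ : ℕ, ∀ n : ℕ, e₀ ≤ n →
          Smoothing.IsStrictlyStandard R C (algebraMap A C a ^ n) := by
  classical
  obtain ⟨n, π, hπ⟩ := Module.Finite.exists_fin' A Ω[A⁄R]
  haveI : Module.Finite A (LinearMap.ker π) :=
    Module.Finite.iff_fg.mpr (Module.FinitePresentation.fg_ker π hπ)
  haveI hCft : Algebra.FiniteType A (SymmetricAlgebra A (LinearMap.ker π)) :=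
    finiteType_symmetricAlgebra A _
  haveI hCftR : Algebra.FiniteType R (SymmetricAlgebra A (LinearMap.ker π)) :=
    Algebra.FiniteType.trans (inferInstance : Algebra.FiniteType R A) hCft
  haveI hCfp : Algebra.FinitePresentation R (SymmetricAlgebra A (LinearMap.ker π)) :=
    Algebra.FinitePresentation.of_finiteType.mp hCftR
  refine ⟨SymmetricAlgebra A (LinearMap.ker π), inferInstance, inferInstance, inferInstance,
    inferInstance, hCfp, ⟨SymmetricAlgebra.algebraMapInv⟩, ?_⟩
  intro a hsm
  haveI := hsm
  haveI : Algebra.FormallyEtale A (Localization.Away a) :=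
    Algebra.FormallyEtale.of_isLocalization (Submonoid.powers a)
  haveI : Module.Flat A (Localization.Away a) := IsLocalization.flat _ (Submonoid.powers a)
  obtain ⟨θ⟩ := exists_theta R A n π hπ (Localization.Away a)
  haveI : Module.Projective (Localization.Away a)
      (Ω[Localization.Away a⁄R] × (Localization.Away a ⊗[A] (LinearMap.ker π))) :=
    Module.Projective.of_equiv θ.symm
  haveI : Module.Projective (Localization.Away a)
      (Localization.Away a ⊗[A] (LinearMap.ker π)) :=
    Module.Projective.of_split
      (LinearMap.inr (Localization.Away a) Ω[Localization.Away a⁄R]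
        (Localization.Away a ⊗[A] (LinearMap.ker π)))
      (LinearMap.snd (Localization.Away a) Ω[Localization.Away a⁄R]
        (Localization.Away a ⊗[A] (LinearMap.ker π)))
      (LinearMap.ext fun _ => rfl)
  have hfree := free_kaehler_sym R (Localization.Away a)
    (Localization.Away a ⊗[A] (LinearMap.ker π)) n θ
  obtain ⟨Φ, hΦ⟩ := exists_ringEquiv_sym_away A (LinearMap.ker π) a (Localization.Away a)
    (Localization.Away (algebraMap A (SymmetricAlgebra A (LinearMap.ker π)) a))
  letI : Algebra (SymmetricAlgebra (Localization.Away a)
      (Localization.Away a ⊗[A] (LinearMap.ker π)))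
      (Localization.Away (algebraMap A (SymmetricAlgebra A (LinearMap.ker π)) a)) :=
    Φ.toRingHom.toAlgebra
  haveI : IsScalarTower R (SymmetricAlgebra (Localization.Away a)
      (Localization.Away a ⊗[A] (LinearMap.ker π)))
      (Localization.Away (algebraMap A (SymmetricAlgebra A (LinearMap.ker π)) a)) :=
    .of_algebraMap_eq (fun r => by
      show _ = Φ _
      rw [IsScalarTower.algebraMap_apply R A (SymmetricAlgebra (Localization.Away a)
        (Localization.Away a ⊗[A] (LinearMap.ker π))), hΦ,
        ← IsScalarTower.algebraMap_apply R A])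
  haveI : Algebra.FormallyEtale (SymmetricAlgebra (Localization.Away a)
      (Localization.Away a ⊗[A] (LinearMap.ker π)))
      (Localization.Away (algebraMap A (SymmetricAlgebra A (LinearMap.ker π)) a)) :=
    Algebra.FormallyEtale.of_equiv
      ({ Φ with commutes' := fun _ => rfl } :
        (SymmetricAlgebra (Localization.Away a) (Localization.Away a ⊗[A] (LinearMap.ker π)))
          ≃ₐ[SymmetricAlgebra (Localization.Away a)
            (Localization.Away a ⊗[A] (LinearMap.ker π))]
        (Localization.Away (algebraMap A (SymmetricAlgebra A (LinearMap.ker π)) a)))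
  have hfreeC : Module.Free (Localization.Away (algebraMap A (SymmetricAlgebra A (LinearMap.ker π)) a))
      Ω[Localization.Away (algebraMap A (SymmetricAlgebra A (LinearMap.ker π)) a)⁄R] :=
    Module.Free.of_equiv (KaehlerDifferential.tensorKaehlerEquivOfFormallyEtale R
      (SymmetricAlgebra (Localization.Away a) (Localization.Away a ⊗[A] (LinearMap.ker π)))
      (Localization.Away (algebraMap A (SymmetricAlgebra A (LinearMap.ker π)) a)))
  -- smoothness of the localization of `C`
  haveI hfs1 : Algebra.FormallySmooth (Localization.Away a)
      (SymmetricAlgebra (Localization.Away a) (Localization.Away a ⊗[A] (LinearMap.ker π))) :=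
    Groth.Agent.Lib.SymSmoothH7.formallySmooth_of_projective
  haveI hfs2 : Algebra.FormallySmooth R
      (SymmetricAlgebra (Localization.Away a) (Localization.Away a ⊗[A] (LinearMap.ker π))) :=
    Algebra.FormallySmooth.comp R (Localization.Away a) _
  haveI hfs3 : Algebra.FormallySmooth R
      (Localization.Away (algebraMap A (SymmetricAlgebra A (LinearMap.ker π)) a)) :=
    Algebra.FormallySmooth.comp R
      (SymmetricAlgebra (Localization.Away a) (Localization.Away a ⊗[A] (LinearMap.ker π))) _
  haveI hfp1 : Algebra.FinitePresentation (SymmetricAlgebra A (LinearMap.ker π))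
      (Localization.Away (algebraMap A (SymmetricAlgebra A (LinearMap.ker π)) a)) :=
    IsLocalization.Away.finitePresentation
      (algebraMap A (SymmetricAlgebra A (LinearMap.ker π)) a)
  haveI hfp2 : Algebra.FinitePresentation R
      (Localization.Away (algebraMap A (SymmetricAlgebra A (LinearMap.ker π)) a)) :=
    Algebra.FinitePresentation.trans R (SymmetricAlgebra A (LinearMap.ker π)) _
  haveI hsmC : Algebra.Smooth R
      (Localization.Away (algebraMap A (SymmetricAlgebra A (LinearMap.ker π)) a)) :=
    ⟨hfs3, hfp2⟩
  refine ⟨hsmC, ?_⟩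
  haveI := hfreeC
  obtain ⟨q, ⟨e⟩⟩ := exists_equiv_fin
    (S := Localization.Away (algebraMap A (SymmetricAlgebra A (LinearMap.ker π)) a))
    (M := Ω[Localization.Away (algebraMap A (SymmetricAlgebra A (LinearMap.ker π)) a)⁄R])
  exact Groth.Agent.Lib.StrictStdH1.main2
    (algebraMap A (SymmetricAlgebra A (LinearMap.ker π)) a) 0 q e

end Groth.Agent.Lib.ElkikFreeH4
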