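import Mathlib
import Groth.Prelude.Def_Smoothing
import Groth.Agent.Lib.Deloc2_helper4

/-!
Helper library (helper4): the algebra `B = A[x₁,…,x_d, z_{ij}]/(xᵢⁿ - Σⱼ z_{ij} aⱼ)` over
`R = k[x₁,…,x_d]` used in "Smoothing ring maps" (separable residue field case): it is smooth over
`R` at all primes not containing some `aⱼ` as soon as the `A_{aⱼ}` are smooth over `k`.
APPEND-ONLY once landed.
-/

set_option autoImplicit false
set_option linter.unusedVariables false
set_option linter.unusedTactic false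
set_option linter.unreachableTactic false
set_option linter.unusedSectionVars false
set_option linter.style.haveILetI false
set_option maxHeartbeats 800000

universe u

namespace Groth.Agent.Lib.NeronAlgH4

open MvPolynomial

section Def

variable {A : Type u} [CommRing A] (d n r : ℕ) (a : Fin r → A)

/-- the relations `xᵢⁿ - Σⱼ zᵢⱼ aⱼ`. -/
noncomputable def rel (i : Fin d) : MvPolynomial (Fin d ⊕ Fin d × Fin r) A :=
  X (Sum.inl i) ^ n - ∑ j, X (Sum.inr (i, j)) * C (a j)

/-- the relation ideal. -/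
noncomputable def JJ : Ideal (MvPolynomial (Fin d ⊕ Fin d × Fin r) A) :=
  Ideal.span (Set.range (rel d n r a))

/-- the algebra. -/
abbrev BB := MvPolynomial (Fin d ⊕ Fin d × Fin r) A ⧸ JJ d n r a

theorem JJ_fg : (JJ d n r a).FG := Submodule.fg_span (Set.finite_range _)

theorem rel_mem (i : Fin d) : rel d n r a i ∈ JJ d n r a := Ideal.subset_span ⟨i, rfl⟩

theorem x_pow (i : Fin d) :
    (Ideal.Quotient.mk (JJ d n r a) (X (Sum.inl i))) ^ n =
      ∑ j, Ideal.Quotient.mk (JJ d n r a) (X (Sum.inr (i, j))) *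
        Ideal.Quotient.mk (JJ d n r a) (C (a j)) := by
  have h0 : Ideal.Quotient.mk (JJ d n r a) (rel d n r a i) = 0 :=
    Ideal.Quotient.eq_zero_iff_mem.mpr (rel_mem d n r a i)
  unfold rel at h0
  rw [map_sub, map_pow, map_sum, sub_eq_zero] at h0
  rw [h0]
  exact Finset.sum_congr rfl (fun j _ => map_mul _ _ _)

theorem exists_hom {T : Type*} [CommRing T] (v : A →+* T) (val : Fin d ⊕ Fin d × Fin r → T)
    (h : ∀ i, val (Sum.inl i) ^ n = ∑ j, val (Sum.inr (i, j)) * v (a j)) :
    ∃ ψ : BB d n r a →+* T, (∀ x, ψ (Ideal.Quotient.mk _ (C x)) = v x) ∧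
      (∀ s, ψ (Ideal.Quotient.mk _ (X s)) = val s) := by
  have hrel0 : ∀ i, MvPolynomial.eval₂Hom v val (rel d n r a i) = 0 := by
    intro i
    unfold rel
    rw [map_sub, map_pow, map_sum, eval₂Hom_X', sub_eq_zero, h i]
    refine Finset.sum_congr rfl (fun j _ => ?_)
    rw [map_mul, eval₂Hom_X', eval₂Hom_C]
  have hle : JJ d n r a ≤ RingHom.ker (MvPolynomial.eval₂Hom v val) := by
    unfold JJ
    rw [Ideal.span_le]
    rintro _ ⟨i, rfl⟩
    exact hrel0 i
  refine ⟨Ideal.Quotient.lift (JJ d n r a) (MvPolynomial.eval₂Hom v val)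
    (fun F hF => RingHom.mem_ker.mp (hle hF)), fun x => ?_, fun s => ?_⟩
  · show MvPolynomial.eval₂Hom v val (C x) = v x
    exact eval₂Hom_C _ _ x
  · show MvPolynomial.eval₂Hom v val (X s) = val s
    exact eval₂Hom_X' _ _ s

end Def

section Alg

variable {k A : Type u} [CommRing k] [CommRing A] [Algebra k A] (d n r : ℕ) (a : Fin r → A)

/-- the images of the `xᵢ`. -/
noncomputable def xB (i : Fin d) : BB d n r a := Ideal.Quotient.mk _ (X (Sum.inl i))

noncomputable instance algR : Algebra (MvPolynomial (Fin d) k) (BB d n r a) :=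
  (MvPolynomial.aeval (R := k) (xB d n r a)).toRingHom.toAlgebra

theorem algebraMap_X (i : Fin d) :
    algebraMap (MvPolynomial (Fin d) k) (BB d n r a) (X i) =
      Ideal.Quotient.mk _ (X (Sum.inl i)) := by
  show MvPolynomial.aeval (R := k) (xB d n r a) (X i) = _
  rw [aeval_X]
  rfl

theorem algebraMap_C (c : k) :
    algebraMap (MvPolynomial (Fin d) k) (BB d n r a) (C c) =
      Ideal.Quotient.mk _ (C (algebraMap k A c)) := by
  show MvPolynomial.aeval (R := k) (xB d n r a) (C c) = _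
  rw [aeval_C]
  rfl

instance towerR : IsScalarTower k (MvPolynomial (Fin d) k) (BB d n r a) := by
  refine IsScalarTower.of_algebraMap_eq (fun c => ?_)
  have e1 : algebraMap k (MvPolynomial (Fin d) k) c = C c := rfl
  rw [e1, algebraMap_C]
  rfl

/-- the structure map from `A`. -/
noncomputable def α : A →ₐ[k] BB d n r a :=
  (Ideal.Quotient.mkₐ k (JJ d n r a)).comp
    (IsScalarTower.toAlgHom k A (MvPolynomial (Fin d ⊕ Fin d × Fin r) A))

theorem α_apply (x : A) : α (k := k) d n r a x = Ideal.Quotient.mk _ (C x) := rfl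

instance fpR [Algebra.FinitePresentation k A] :
    Algebra.FinitePresentation (MvPolynomial (Fin d) k) (BB d n r a) := by
  haveI : Algebra.FinitePresentation k (BB d n r a) :=
    Algebra.FinitePresentation.quotient (JJ_fg d n r a)
  exact Algebra.FinitePresentation.of_restrict_scalars_finitePresentation k
    (MvPolynomial (Fin d) k) (BB d n r a)

theorem x_pow_mem (i : Fin d) :
    algebraMap (MvPolynomial (Fin d) k) (BB d n r a) (X i) ^ n ∈
      Ideal.span (Set.range fun j => α (k := k) d n r a (a j)) := by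
  rw [algebraMap_X, x_pow]
  refine Ideal.sum_mem _ (fun j _ => ?_)
  exact Ideal.mul_mem_left _ _ (Ideal.subset_span ⟨j, rfl⟩)

theorem hom_algebraMap {T : Type*} [CommRing T] [Algebra k T]
    [Algebra (MvPolynomial (Fin d) k) T] [IsScalarTower k (MvPolynomial (Fin d) k) T]
    (ψ : BB d n r a →+* T)
    (hC : ∀ c : k, ψ (Ideal.Quotient.mk _ (C (algebraMap k A c))) = algebraMap k T c)
    (hX : ∀ i, ψ (Ideal.Quotient.mk _ (X (Sum.inl i))) =
      algebraMap (MvPolynomial (Fin d) k) T (X i)) :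
    ∀ f, ψ (algebraMap (MvPolynomial (Fin d) k) (BB d n r a) f) =
      algebraMap (MvPolynomial (Fin d) k) T f := by
  have key : ψ.comp (algebraMap (MvPolynomial (Fin d) k) (BB d n r a)) =
      algebraMap (MvPolynomial (Fin d) k) T := by
    apply MvPolynomial.ringHom_ext
    · intro c
      show ψ (algebraMap _ (BB d n r a) (C c)) = algebraMap _ T (C c)
      rw [algebraMap_C, hC]
      have e1 : (C c : MvPolynomial (Fin d) k) = algebraMap k (MvPolynomial (Fin d) k) c := rfl
      rw [e1, ← IsScalarTower.algebraMap_apply]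
    · intro i
      show ψ (algebraMap _ (BB d n r a) (X i)) = algebraMap _ T (X i)
      rw [algebraMap_X, hX]
  intro f
  exact RingHom.congr_fun key f

theorem exists_algHom {Λ : Type u} [CommRing Λ] [Algebra k Λ]
    [Algebra (MvPolynomial (Fin d) k) Λ] [IsScalarTower k (MvPolynomial (Fin d) k) Λ]
    (φ : A →ₐ[k] Λ) (lam : Fin d → Fin r → Λ)
    (h : ∀ i, algebraMap (MvPolynomial (Fin d) k) Λ (X i) ^ n = ∑ j, lam i j * φ (a j)) :
    ∃ β : BB d n r a →ₐ[MvPolynomial (Fin d) k] Λ, ∀ x, β (α (k := k) d n r a x) = φ x := by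
  obtain ⟨val, hvl, hvr⟩ : ∃ val : Fin d ⊕ Fin d × Fin r → Λ,
      (∀ i, val (Sum.inl i) = algebraMap (MvPolynomial (Fin d) k) Λ (X i)) ∧
      (∀ i j, val (Sum.inr (i, j)) = lam i j) :=
    ⟨Sum.elim (fun i => algebraMap (MvPolynomial (Fin d) k) Λ (X i)) (fun ij => lam ij.1 ij.2),
      fun _ => rfl, fun _ _ => rfl⟩
  obtain ⟨ψ, hψC, hψX⟩ := exists_hom d n r a φ.toRingHom val (by
    intro i
    rw [hvl, h i]
    refine Finset.sum_congr rfl (fun j _ => ?_)
    rw [hvr]
    rfl)
  have hlin := hom_algebraMap d n r a ψ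
    (fun c => by rw [hψC]; exact φ.commutes c) (fun i => by rw [hψX, hvl])
  refine ⟨{ ψ with commutes' := hlin }, fun x => ?_⟩
  show ψ (Ideal.Quotient.mk _ (C x)) = φ x
  exact hψC x

end Alg

section Smooth

variable {k A : Type u} [CommRing k] [CommRing A] [Algebra k A] (d n r : ℕ) (a : Fin r → A)

theorem smooth_at (j : Fin r) [Algebra.FormallySmooth k (Localization.Away (a j))]
    (Q : Ideal (BB d n r a)) [Q.IsPrime]
    (hQ : Ideal.Quotient.mk (JJ d n r a) (C (a j)) ∉ Q) :
    Algebra.FormallySmooth (MvPolynomial (Fin d) k) (Localization.AtPrime Q) := by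
  classical
  refine Groth.Agent.Lib.Deloc2H4.formallySmooth_of_lift Q (fun T _ _ I hI u => ?_)
  have hnil : IsNilpotent I := ⟨2, hI⟩
  letI algkT : Algebra k T :=
    ((algebraMap (MvPolynomial (Fin d) k) T).comp
      (algebraMap k (MvPolynomial (Fin d) k))).toAlgebra
  haveI twT : IsScalarTower k (MvPolynomial (Fin d) k) T :=
    IsScalarTower.of_algebraMap_eq (fun _ => rfl)
  obtain ⟨Θ, hΘ⟩ : ∃ Θ : BB d n r a →+* T ⧸ I,
      ∀ b, Θ b = u (algebraMap (BB d n r a) (Localization.AtPrime Q) b) :=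
    ⟨u.toRingHom.comp (algebraMap (BB d n r a) (Localization.AtPrime Q)), fun _ => rfl⟩
  have hΘR : ∀ f : MvPolynomial (Fin d) k,
      Θ (algebraMap _ (BB d n r a) f) = Ideal.Quotient.mk I (algebraMap _ T f) := by
    intro f
    rw [hΘ, ← IsScalarTower.algebraMap_apply (MvPolynomial (Fin d) k) (BB d n r a)
      (Localization.AtPrime Q), u.commutes]
    rfl
  have hunitT : IsUnit (Θ (Ideal.Quotient.mk (JJ d n r a) (C (a j)))) := by
    rw [hΘ]
    exact (IsLocalization.map_units (Localization.AtPrime Q) (⟨_, hQ⟩ : Q.primeCompl)).map u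
  obtain ⟨θA, hθA⟩ : ∃ θA : A →+* T ⧸ I,
      ∀ x, θA x = Θ (Ideal.Quotient.mk (JJ d n r a) (C x)) :=
    ⟨Θ.comp ((Ideal.Quotient.mk (JJ d n r a)).comp C), fun _ => rfl⟩
  have hunits : ∀ y : Submonoid.powers (a j), IsUnit (θA (y : A)) := by
    rintro ⟨_, m, rfl⟩
    show IsUnit (θA (a j ^ m))
    rw [map_pow, hθA]
    exact hunitT.pow m
  obtain ⟨w₀, hw₀⟩ : ∃ w₀ : Localization.Away (a j) →+* T ⧸ I,
      ∀ x, w₀ (algebraMap A (Localization.Away (a j)) x) = θA x :=
    ⟨IsLocalization.lift hunits, IsLocalization.lift_eq hunits⟩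
  have hw₀k : ∀ c : k, w₀ (algebraMap k (Localization.Away (a j)) c) =
      algebraMap k (T ⧸ I) c := by
    intro c
    rw [IsScalarTower.algebraMap_apply k A (Localization.Away (a j)), hw₀, hθA,
      ← algebraMap_C (k := k) d n r a c, hΘR]
    rfl
  obtain ⟨w, hw⟩ : ∃ w : Localization.Away (a j) →ₐ[k] T ⧸ I, ∀ x, w x = w₀ x :=
    ⟨{ w₀ with commutes' := hw₀k }, fun _ => rfl⟩
  obtain ⟨v', hv'⟩ := Algebra.FormallySmooth.exists_lift I hnil w
  have hv'mk : ∀ x, Ideal.Quotient.mk I (v' x) = w x := fun x => AlgHom.congr_fun hv' x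
  obtain ⟨v, hv⟩ : ∃ v : A →+* T, ∀ x, v x = v' (algebraMap A (Localization.Away (a j)) x) :=
    ⟨v'.toRingHom.comp (algebraMap A (Localization.Away (a j))), fun _ => rfl⟩
  have hvmk : ∀ x, Ideal.Quotient.mk I (v x) =
      Θ (Ideal.Quotient.mk (JJ d n r a) (C x)) := by
    intro x
    rw [hv, hv'mk, hw, hw₀, hθA]
  have hvk : ∀ c : k, v (algebraMap k A c) = algebraMap k T c := by
    intro c
    rw [hv, ← IsScalarTower.algebraMap_apply k A (Localization.Away (a j)), v'.commutes]
  have hvunit : IsUnit (v (a j)) := by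
    apply (IsNilpotent.isUnit_quotient_mk_iff hnil).mp
    rw [hvmk]
    exact hunitT
  obtain ⟨winv, hwinv⟩ := hvunit.exists_left_inv
  choose t ht using fun ij : Fin d × Fin r =>
    Ideal.Quotient.mk_surjective (Θ (Ideal.Quotient.mk (JJ d n r a) (X (Sum.inr ij))))
  obtain ⟨ξ, hξ⟩ : ∃ ξ : Fin d → T, ∀ i, ξ i = algebraMap (MvPolynomial (Fin d) k) T (X i) :=
    ⟨_, fun _ => rfl⟩
  have hξmk : ∀ i, Ideal.Quotient.mk I (ξ i) =
      Θ (Ideal.Quotient.mk (JJ d n r a) (X (Sum.inl i))) := by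
    intro i
    rw [hξ, ← hΘR, algebraMap_X]
  obtain ⟨ε, hε⟩ : ∃ ε : Fin d → T, ∀ i, ε i = ξ i ^ n - ∑ j', t (i, j') * v (a j') :=
    ⟨_, fun _ => rfl⟩
  have hεI : ∀ i, ε i ∈ I := by
    intro i
    have h0 : Θ (Ideal.Quotient.mk (JJ d n r a) (X (Sum.inl i))) ^ n =
        ∑ j', Θ (Ideal.Quotient.mk (JJ d n r a) (X (Sum.inr (i, j')))) *
          Θ (Ideal.Quotient.mk (JJ d n r a) (C (a j'))) := by
      rw [← map_pow, x_pow, map_sum]
      exact Finset.sum_congr rfl (fun j' _ => map_mul _ _ _)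
    rw [← Ideal.Quotient.eq_zero_iff_mem, hε, map_sub, map_pow, map_sum, hξmk, h0, sub_eq_zero]
    refine Finset.sum_congr rfl (fun j' _ => ?_)
    rw [map_mul, ht, hvmk]
  obtain ⟨val, hvl, hvr⟩ : ∃ val : Fin d ⊕ Fin d × Fin r → T,
      (∀ i, val (Sum.inl i) = ξ i) ∧
      (∀ i j', val (Sum.inr (i, j')) = t (i, j') + (if j' = j then winv * ε i else 0)) :=
    ⟨Sum.elim ξ (fun ij => t ij + (if ij.2 = j then winv * ε ij.1 else 0)),
      fun _ => rfl, fun _ _ => rfl⟩
  have hrel : ∀ i, val (Sum.inl i) ^ n = ∑ j', val (Sum.inr (i, j')) * v (a j') := by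
    intro i
    rw [hvl]
    have hsum : ∑ j', val (Sum.inr (i, j')) * v (a j') =
        ∑ j', t (i, j') * v (a j') + ε i := by
      simp only [hvr, add_mul, Finset.sum_add_distrib, ite_mul, zero_mul,
        Finset.sum_ite_eq', Finset.mem_univ, if_true]
      congr 1
      calc winv * ε i * v (a j) = (winv * v (a j)) * ε i := by ring
        _ = ε i := by rw [hwinv, one_mul]
    rw [hsum, hε i]
    ring
  obtain ⟨ψ, hψC, hψX⟩ := exists_hom d n r a v val hrel
  refine ⟨ψ, ?_, ?_⟩
  · intro b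
    obtain ⟨F, rfl⟩ := Ideal.Quotient.mk_surjective b
    rw [← hΘ]
    have key : ((Ideal.Quotient.mk I).comp ψ).comp (Ideal.Quotient.mk (JJ d n r a)) =
        Θ.comp (Ideal.Quotient.mk (JJ d n r a)) := by
      apply MvPolynomial.ringHom_ext
      · intro x
        show Ideal.Quotient.mk I (ψ (Ideal.Quotient.mk (JJ d n r a) (C x))) =
          Θ (Ideal.Quotient.mk (JJ d n r a) (C x))
        rw [hψC, hvmk]
      · intro s
        show Ideal.Quotient.mk I (ψ (Ideal.Quotient.mk (JJ d n r a) (X s))) =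
          Θ (Ideal.Quotient.mk (JJ d n r a) (X s))
        rw [hψX]
        rcases s with i | ⟨i, j'⟩
        · rw [hvl, hξmk]
        · rw [hvr, map_add, ht]
          have h0 : Ideal.Quotient.mk I (if j' = j then winv * ε i else 0) = 0 := by
            split_ifs
            · exact Ideal.Quotient.eq_zero_iff_mem.mpr (I.mul_mem_left winv (hεI i))
            · exact map_zero _
          rw [h0, add_zero]
    exact RingHom.congr_fun key F
  · intro f
    refine ⟨algebraMap (MvPolynomial (Fin d) k) (BB d n r a) f,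
      (IsScalarTower.algebraMap_apply (MvPolynomial (Fin d) k) (BB d n r a)
        (Localization.AtPrime Q) f).symm, ?_⟩
    exact hom_algebraMap d n r a ψ (fun c => by rw [hψC, hvk])
      (fun i => by rw [hψX, hvl, hξ]) f

theorem smooth_away [Algebra.FinitePresentation k A]
    (ha : ∀ j, Algebra.FormallySmooth k (Localization.Away (a j)))
    (b : BB d n r a)
    (hb : b ∈ (Ideal.span (Set.range fun j => α (k := k) d n r a (a j))).radical) :
    Algebra.Smooth (MvPolynomial (Fin d) k) (Localization.Away b) := by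
  refine Algebra.basicOpen_subset_smoothLocus_iff_smooth.mp (fun Q hQ => ?_)
  have hbQ : b ∉ Q.asIdeal := (PrimeSpectrum.mem_basicOpen b Q).mp hQ
  have hex : ∃ j, α (k := k) d n r a (a j) ∉ Q.asIdeal := by
    by_contra hcon
    apply hbQ
    have hcon' : ∀ j, α (k := k) d n r a (a j) ∈ Q.asIdeal := by
      intro j
      by_contra hj
      exact hcon ⟨j, hj⟩
    have hle : Ideal.span (Set.range fun j => α (k := k) d n r a (a j)) ≤ Q.asIdeal :=
      Ideal.span_le.mpr (by
        rintro _ ⟨j, rfl⟩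
        exact hcon' j)
    exact (Q.isPrime.radical_le_iff.mpr hle) hb
  obtain ⟨j, hj⟩ := hex
  haveI := ha j
  show Algebra.IsSmoothAt (MvPolynomial (Fin d) k) Q.asIdeal
  exact smooth_at d n r a j Q.asIdeal hj

end Smooth

end Groth.Agent.Lib.NeronAlgH4
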