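import Mathlib
import Groth.Agent.Lib.Regular2_helper5

/-!
# Powers of regular parameters in a regular local ring (helper8)
APPEND-ONLY once landed.
-/

set_option autoImplicit false

namespace RegPowH8

universe u

open IsLocalRing

theorem regular_mul {R : Type*} [CommRing R] (J : Ideal R) (a b c : R)
    (hb : ∀ y, b * y ∈ J → y ∈ J)
    (hab : ∀ y, a * y ∈ J ⊔ Ideal.span {b} → y ∈ J ⊔ Ideal.span {b})
    (hac : ∀ y, a * y ∈ J ⊔ Ideal.span {c} → y ∈ J ⊔ Ideal.span {c}) :
    ∀ y, a * y ∈ J ⊔ Ideal.span {b * c} → y ∈ J ⊔ Ideal.span {b * c} := by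
  intro y hy
  have h1 : a * y ∈ J ⊔ Ideal.span {b} := by
    refine (sup_le_sup_left ?_ J) hy
    rw [Ideal.span_singleton_le_span_singleton]
    exact Dvd.intro c rfl
  obtain ⟨j, hj, z', hz', hyz⟩ := Submodule.mem_sup.mp (hab y h1)
  obtain ⟨z, rfl⟩ := Ideal.mem_span_singleton'.mp hz'
  have h2 : a * (z * b) ∈ J ⊔ Ideal.span {b * c} := by
    have : a * (z * b) = a * y - a * j := by rw [← hyz]; ring
    rw [this]
    exact Ideal.sub_mem _ hy (Ideal.mem_sup_left (J.mul_mem_left a hj))
  obtain ⟨j', hj', w', hw', h3⟩ := Submodule.mem_sup.mp h2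
  obtain ⟨w, rfl⟩ := Ideal.mem_span_singleton'.mp hw'
  have h4 : b * (a * z - c * w) ∈ J := by
    have : b * (a * z - c * w) = j' := by linear_combination (-1 : R) * h3
    rw [this]
    exact hj'
  have h5 : a * z ∈ J ⊔ Ideal.span {c} := by
    have : a * z = (a * z - c * w) + w * c := by ring
    rw [this]
    exact Ideal.add_mem _ (Ideal.mem_sup_left (hb _ h4))
      (Ideal.mem_sup_right (Ideal.mem_span_singleton'.mpr ⟨w, rfl⟩))
  obtain ⟨j'', hj'', v', hv', h6⟩ := Submodule.mem_sup.mp (hac z h5)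
  obtain ⟨v, rfl⟩ := Ideal.mem_span_singleton'.mp hv'
  have : y = (j + j'' * b) + v * (b * c) := by
    rw [← hyz, ← h6]
    ring
  rw [this]
  exact Ideal.add_mem _ (Ideal.mem_sup_left (J.add_mem hj (J.mul_mem_right b hj'')))
    (Ideal.mem_sup_right (Ideal.mem_span_singleton'.mpr ⟨v, rfl⟩))

/-- base case: regular parameters, any subset, next parameter is a nonzerodivisor -/
theorem regular_mod_subset (R : Type u) [CommRing R] [IsRegularLocalRing R] (d : ℕ)
    (x : Fin d → R) (hx : Ideal.span (Set.range x) = maximalIdeal R)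
    (hd : (maximalIdeal R).spanFinrank = d) (S : Finset (Fin d)) (i : Fin d) (hi : i ∉ S)
    (y : R) (hy : x i * y ∈ Ideal.span (x '' (S : Set (Fin d)))) :
    y ∈ Ideal.span (x '' (S : Set (Fin d))) := by
  classical
  let rest : Finset (Fin d) := (insert i S)ᶜ
  let l : List (Fin d) := S.toList ++ (i :: rest.toList)
  have hlen : (l.map x).length = (maximalIdeal R).spanFinrank := by
    rw [List.length_map, List.length_append, List.length_cons, Finset.length_toList,
      Finset.length_toList, hd]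
    have h1 := Finset.card_add_card_compl (insert i S)
    rw [Finset.card_insert_of_notMem hi, Fintype.card_fin] at h1
    show S.card + ((insert i S)ᶜ.card + 1) = d
    omega
  have hspan : Ideal.ofList (l.map x) = maximalIdeal R := by
    rw [← hx]
    unfold Ideal.ofList
    congr 1
    ext r
    simp only [Set.mem_ofPred_eq, List.mem_map, Set.mem_range]
    constructor
    · rintro ⟨j, _, rfl⟩
      exact ⟨j, rfl⟩
    · rintro ⟨j, rfl⟩
      refine ⟨j, ?_, rfl⟩
      simp only [l, List.mem_append, Finset.mem_toList, List.mem_cons, rest,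
        Finset.mem_compl, Finset.mem_insert]
      tauto
  have hreg := Groth.Agent.RegularLib.isRegular_of_ofList_eq R (l.map x) hspan hlen
  have hw := hreg.toIsWeaklyRegular
  rw [List.map_append, List.map_cons, RingTheory.Sequence.isWeaklyRegular_append_iff,
    RingTheory.Sequence.isWeaklyRegular_cons_iff] at hw
  have hsm := hw.2.1
  have hI : Ideal.ofList (S.toList.map x) = Ideal.span (x '' (S : Set (Fin d))) := by
    unfold Ideal.ofList
    congr 1
    ext r
    simp only [Set.mem_ofPred_eq, List.mem_map, Finset.mem_toList, Set.mem_image,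
      Finset.mem_coe]
  have htop : (Ideal.ofList (S.toList.map x) • ⊤ : Submodule R R) =
      Ideal.span (x '' (S : Set (Fin d))) := by
    rw [hI, smul_eq_mul, Ideal.mul_top]
  have h0 : x i • (Submodule.Quotient.mk y :
      R ⧸ (Ideal.ofList (S.toList.map x) • ⊤ : Submodule R R)) = x i • 0 := by
    rw [smul_zero, ← Submodule.Quotient.mk_smul, Submodule.Quotient.mk_eq_zero, htop,
      smul_eq_mul]
    exact hy
  have h1 := hsm h0
  rw [Submodule.Quotient.mk_eq_zero, htop] at h1
  exact h1

theorem span_image_insert {R : Type*} [CommRing R] {d : ℕ} (x : Fin d → R) (e : Fin d → ℕ)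
    (S' : Finset (Fin d)) (j₀ : Fin d) [DecidableEq (Fin d)] :
    Ideal.span ((fun j => x j ^ e j) '' ((insert j₀ S' : Finset (Fin d)) : Set (Fin d))) =
      Ideal.span ((fun j => x j ^ e j) '' (S' : Set (Fin d))) ⊔ Ideal.span {x j₀ ^ e j₀} := by
  rw [Finset.coe_insert, Set.image_insert_eq, Ideal.span_insert, sup_comm]

theorem span_image_update {R : Type*} [CommRing R] {d : ℕ} (x : Fin d → R) (e : Fin d → ℕ)
    (S' : Finset (Fin d)) (j₀ : Fin d) (hj₀ : j₀ ∉ S') (k : ℕ) [DecidableEq (Fin d)] :
    Ideal.span ((fun j => x j ^ (Function.update e j₀ k) j) ''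
        ((insert j₀ S' : Finset (Fin d)) : Set (Fin d))) =
      Ideal.span ((fun j => x j ^ e j) '' (S' : Set (Fin d))) ⊔ Ideal.span {x j₀ ^ k} := by
  rw [span_image_insert, Function.update_self]
  congr 2
  apply Set.image_congr
  intro j hj
  have : j ≠ j₀ := fun h => hj₀ (h ▸ hj)
  rw [Function.update_of_ne this]

theorem sum_update {d : ℕ} (e : Fin d → ℕ) (S' : Finset (Fin d)) (j₀ : Fin d) (hj₀ : j₀ ∉ S')
    (k : ℕ) [DecidableEq (Fin d)] :
    ∑ j ∈ insert j₀ S', Function.update e j₀ k j = k + ∑ j ∈ S', e j := by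
  rw [Finset.sum_insert hj₀, Function.update_self]
  congr 1
  apply Finset.sum_congr rfl
  intro j hj
  have : j ≠ j₀ := fun h => hj₀ (h ▸ hj)
  rw [Function.update_of_ne this]

theorem regular_mod_pow (R : Type u) [CommRing R] [IsRegularLocalRing R] (d : ℕ) (x : Fin d → R)
    (hx : Ideal.span (Set.range x) = maximalIdeal R) (hd : (maximalIdeal R).spanFinrank = d) :
    ∀ (n : ℕ) (S : Finset (Fin d)) (e : Fin d → ℕ) (i : Fin d), i ∉ S → (∀ j ∈ S, 1 ≤ e j) →
      ∑ j ∈ S, e j = n → ∀ y, x i * y ∈ Ideal.span ((fun j => x j ^ e j) '' (S : Set (Fin d))) →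
        y ∈ Ideal.span ((fun j => x j ^ e j) '' (S : Set (Fin d))) := by
  classical
  intro n
  induction n using Nat.strong_induction_on with
  | _ n ih =>
  intro S e i hi he hsum y hy
  by_cases hall : ∀ j ∈ S, e j = 1
  · have himg : (fun j => x j ^ e j) '' (S : Set (Fin d)) = x '' (S : Set (Fin d)) := by
      apply Set.image_congr
      intro j hj
      rw [hall j hj, pow_one]
    rw [himg] at hy ⊢
    exact regular_mod_subset R d x hx hd S i hi y hy
  · push_neg at hall
    obtain ⟨j₀, hj₀, hne⟩ := hall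
    have h2 : 2 ≤ e j₀ := by
      have := he j₀ hj₀
      omega
    have hS : S = insert j₀ (S.erase j₀) := (Finset.insert_erase hj₀).symm
    have hj₀' : j₀ ∉ S.erase j₀ := Finset.notMem_erase j₀ S
    have hsum' : ∑ j ∈ S.erase j₀, e j + e j₀ = n := by
      rw [← hsum]
      exact Finset.sum_erase_add S e hj₀
    have hiS' : i ∉ insert j₀ (S.erase j₀) := by
      rw [← hS]
      exact hi
    have hgen : ∀ k : ℕ, 1 ≤ k → k < e j₀ → ∀ z,
        x i * z ∈ Ideal.span ((fun j => x j ^ e j) '' ((S.erase j₀ : Finset (Fin d)) :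
          Set (Fin d))) ⊔ Ideal.span {x j₀ ^ k} →
        z ∈ Ideal.span ((fun j => x j ^ e j) '' ((S.erase j₀ : Finset (Fin d)) :
          Set (Fin d))) ⊔ Ideal.span {x j₀ ^ k} := by
      intro k hk1 hk2 z hz
      rw [← span_image_update x e (S.erase j₀) j₀ hj₀' k] at hz ⊢
      refine ih (k + ∑ j ∈ S.erase j₀, e j) (by omega) (insert j₀ (S.erase j₀))
        (Function.update e j₀ k) i hiS' ?_ (sum_update e _ j₀ hj₀' k) z hz
      intro j hj
      rcases Finset.mem_insert.mp hj with rfl | hj
      · rw [Function.update_self]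
        exact hk1
      · have : j ≠ j₀ := fun h => hj₀' (h ▸ hj)
        rw [Function.update_of_ne this]
        exact he j (Finset.mem_of_mem_erase hj)
    rw [hS, span_image_insert] at hy ⊢
    have hpow : x j₀ ^ e j₀ = x j₀ * x j₀ ^ (e j₀ - 1) := by
      rw [← pow_succ']
      congr 1
      omega
    rw [hpow] at hy ⊢
    refine regular_mul _ (x i) (x j₀) (x j₀ ^ (e j₀ - 1)) ?_ ?_ ?_ y hy
    · intro z hz
      exact ih (∑ j ∈ S.erase j₀, e j) (by omega) (S.erase j₀) e j₀ hj₀'
        (fun j hj => he j (Finset.mem_of_mem_erase hj)) rfl z hz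
    · intro z hz
      have := hgen 1 le_rfl (by omega) z
      rw [pow_one] at this
      exact this hz
    · intro z hz
      exact hgen (e j₀ - 1) (by omega) (by omega) z hz

end RegPowH8
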