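import Mathlib
import Groth.Agent.Lib.RegPow1_helper8

/-!
# Regular parameters with `Ann(π) = Ann(π²)` modulo powers (helper8)
APPEND-ONLY once landed.
-/

set_option autoImplicit false

namespace RegPowH8

universe u

open IsLocalRing

theorem exists_mul_mem_of_map {Λ : Type*} [CommRing Λ] (q : Ideal Λ) [q.IsPrime] (J : Ideal Λ)
    (y : Λ) (hy : algebraMap Λ (Localization.AtPrime q) y ∈
      J.map (algebraMap Λ (Localization.AtPrime q))) :
    ∃ u, u ∉ q ∧ u * y ∈ J := by
  rw [IsLocalization.mem_map_algebraMap_iff q.primeCompl] at hy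
  obtain ⟨⟨a, m⟩, h⟩ := hy
  rw [← map_mul, IsLocalization.eq_iff_exists q.primeCompl] at h
  obtain ⟨c, hc⟩ := h
  refine ⟨(c : Λ) * (m : Λ), ?_, ?_⟩
  · exact (c * m).2
  · have : (c : Λ) * (m : Λ) * y = c * a := by
      rw [← hc]
      ring
    rw [this]
    exact J.mul_mem_left _ a.2

theorem exists_uniform {Λ : Type*} [CommRing Λ] [IsNoetherianRing Λ] (q : Ideal Λ) [q.IsPrime]
    (J : Ideal Λ) :
    ∃ s, s ∉ q ∧ ∀ y, algebraMap Λ (Localization.AtPrime q) y ∈
      J.map (algebraMap Λ (Localization.AtPrime q)) → s * y ∈ J := by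
  classical
  obtain ⟨G, hG⟩ := (IsNoetherian.noetherian
    ((J.map (algebraMap Λ (Localization.AtPrime q))).comap
      (algebraMap Λ (Localization.AtPrime q))) : Submodule.FG _)
  have hGT : ∀ g ∈ G, algebraMap Λ (Localization.AtPrime q) g ∈
      J.map (algebraMap Λ (Localization.AtPrime q)) := by
    intro g hg
    have : g ∈ (J.map (algebraMap Λ (Localization.AtPrime q))).comap
        (algebraMap Λ (Localization.AtPrime q)) := by
      rw [← hG]
      exact Submodule.subset_span hg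
    exact this
  choose! u hu1 hu2 using fun g (hg : g ∈ G) => exists_mul_mem_of_map q J g (hGT g hg)
  refine ⟨∏ g ∈ G, u g, ?_, ?_⟩
  · intro h
    obtain ⟨g, hg, hgq⟩ := (Ideal.IsPrime.prod_mem_iff).mp h
    exact hu1 g hg hgq
  · intro y hy
    have hyT : y ∈ Submodule.span Λ (G : Set Λ) := by
      rw [hG]
      exact hy
    clear hy
    induction hyT using Submodule.span_induction with
    | mem g hg =>
      have hg' : g ∈ G := hg
      rw [← Finset.mul_prod_erase G u hg']
      have : u g * (∏ x ∈ G.erase g, u x) * g = (∏ x ∈ G.erase g, u x) * (u g * g) := by ring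
      rw [this]
      exact J.mul_mem_left _ (hu2 g hg')
    | zero => rw [mul_zero]; exact J.zero_mem
    | add a b _ _ ha hb => rw [mul_add]; exact J.add_mem ha hb
    | smul a b _ hb =>
      rw [smul_eq_mul, mul_left_comm]
      exact J.mul_mem_left _ hb

theorem span_range_unit_mul {A ι : Type*} [CommRing A] (y z : ι → A)
    (h : ∀ i, ∃ u : A, IsUnit u ∧ z i = u * y i) :
    Ideal.span (Set.range z) = Ideal.span (Set.range y) := by
  apply le_antisymm
  · rw [Ideal.span_le]
    rintro _ ⟨i, rfl⟩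
    obtain ⟨u, _, hu⟩ := h i
    show z i ∈ Ideal.span (Set.range y)
    rw [hu]
    exact Ideal.mul_mem_left _ _ (Ideal.subset_span ⟨i, rfl⟩)
  · rw [Ideal.span_le]
    rintro _ ⟨i, rfl⟩
    obtain ⟨u, hu1, hu⟩ := h i
    obtain ⟨v, hv⟩ := hu1.exists_left_inv
    have : y i = v * z i := by
      rw [hu, ← mul_assoc, hv, one_mul]
    show y i ∈ Ideal.span (Set.range z)
    rw [this]
    exact Ideal.mul_mem_left _ _ (Ideal.subset_span ⟨i, rfl⟩)

/-- the ideal generated by the `e`-th powers of the earlier elements -/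
def Jt {Λ : Type*} [CommRing Λ] {d : ℕ} (e : ℕ) (π : Fin d → Λ) (i : Fin d) : Ideal Λ :=
  Ideal.span (Set.range fun j : {j : Fin d // (j : ℕ) < (i : ℕ)} => π j ^ e)

theorem Jt_congr {Λ : Type*} [CommRing Λ] {d : ℕ} (e : ℕ) (π π' : Fin d → Λ) (i : Fin d)
    (h : ∀ j : Fin d, (j : ℕ) < (i : ℕ) → π' j = π j) : Jt e π' i = Jt e π i := by
  unfold Jt
  congr 2
  funext j
  rw [h j.1 j.2]

theorem map_Jt {Λ : Type*} [CommRing Λ] {A : Type*} [CommRing A] [Algebra Λ A] {d : ℕ} (e : ℕ)
    (π : Fin d → Λ) (i : Fin d) :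
    (Jt e π i).map (algebraMap Λ A) =
      Ideal.span ((fun j => algebraMap Λ A (π j) ^ (fun _ : Fin d => e) j) ''
        ((Finset.univ.filter fun j : Fin d => (j : ℕ) < (i : ℕ) : Finset (Fin d)) :
          Set (Fin d))) := by
  unfold Jt
  rw [Ideal.map_span]
  congr 1
  ext r
  constructor
  · rintro ⟨_, ⟨⟨j, hj⟩, rfl⟩, rfl⟩
    refine ⟨j, ?_, (map_pow _ _ _).symm⟩
    simp only [Finset.coe_filter, Finset.mem_univ, true_and, Set.mem_ofPred_eq]
    exact hj
  · rintro ⟨j, hj, rfl⟩
    simp only [Finset.coe_filter, Finset.mem_univ, true_and, Set.mem_ofPred_eq] at hj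
    exact ⟨π j ^ e, ⟨⟨j, hj⟩, rfl⟩, map_pow _ _ _⟩

theorem exists_step {Λ : Type u} [CommRing Λ] [IsNoetherianRing Λ] (q : Ideal Λ) [q.IsPrime]
    [IsRegularLocalRing (Localization.AtPrime q)] (d : ℕ)
    (hd : (maximalIdeal (Localization.AtPrime q)).spanFinrank = d) (e : ℕ) (he : 0 < e)
    (π : Fin d → Λ)
    (hπ : Ideal.span (Set.range fun i => algebraMap Λ (Localization.AtPrime q) (π i)) =
      maximalIdeal (Localization.AtPrime q)) (t : Fin d) :
    ∃ s, s ∉ q ∧ ∀ y, (s * π t) ^ 2 * y ∈ Jt e π t → (s * π t) * y ∈ Jt e π t := by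
  classical
  obtain ⟨s, hs, hsJ⟩ := exists_uniform q (Jt e π t)
  refine ⟨s, hs, fun y hy => ?_⟩
  have hsu : IsUnit (algebraMap Λ (Localization.AtPrime q) s) :=
    IsLocalization.map_units (Localization.AtPrime q) (⟨s, hs⟩ : q.primeCompl)
  have h1 : algebraMap Λ (Localization.AtPrime q) ((s * π t) ^ 2 * y) ∈
      (Jt e π t).map (algebraMap Λ (Localization.AtPrime q)) := Ideal.mem_map_of_mem _ hy
  have h2 : algebraMap Λ (Localization.AtPrime q) ((s * π t) ^ 2 * y) =
      algebraMap Λ (Localization.AtPrime q) s ^ 2 *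
        (algebraMap Λ (Localization.AtPrime q) (π t) *
          (algebraMap Λ (Localization.AtPrime q) (π t) *
            algebraMap Λ (Localization.AtPrime q) y)) := by
    simp only [map_mul, map_pow]
    ring
  rw [h2, Ideal.unit_mul_mem_iff_mem _ (hsu.pow 2), map_Jt] at h1
  have hnotin : t ∉ (Finset.univ.filter fun j : Fin d => (j : ℕ) < (t : ℕ)) := by
    simp
  have key := regular_mod_pow (Localization.AtPrime q) d
    (fun i => algebraMap Λ (Localization.AtPrime q) (π i)) hπ hd _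
    (Finset.univ.filter fun j : Fin d => (j : ℕ) < (t : ℕ)) (fun _ => e) t hnotin
    (fun _ _ => he) rfl
  have h3 := key _ (key _ h1)
  rw [← map_Jt] at h3
  have h4 := hsJ y h3
  have : s * π t * y = π t * (s * y) := by ring
  rw [this]
  exact Ideal.mul_mem_left _ _ h4

end RegPowH8
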