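import Mathlib
import Groth.Agent.Lib.RegPow2_helper8

/-!
# Regular parameters with `Ann(π) = Ann(π²)` modulo powers: main theorem (helper8)
APPEND-ONLY once landed.
-/

set_option autoImplicit false

namespace RegPowH8

universe u

open IsLocalRing

theorem exists_ind {Λ : Type u} [CommRing Λ] [IsNoetherianRing Λ] (I q : Ideal Λ) [q.IsPrime]
    [IsRegularLocalRing (Localization.AtPrime q)] (d : ℕ)
    (hd : (maximalIdeal (Localization.AtPrime q)).spanFinrank = d) (n e : ℕ) (he : 0 < e)
    (π₀ : Fin d → Λ)
    (hπ₀ : Ideal.span (Set.range fun i => algebraMap Λ (Localization.AtPrime q) (π₀ i)) =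
      maximalIdeal (Localization.AtPrime q)) (hπ₀I : ∀ i, π₀ i ^ n ∈ I) :
    ∀ t, t ≤ d → ∃ π : Fin d → Λ,
      Ideal.span (Set.range fun i => algebraMap Λ (Localization.AtPrime q) (π i)) =
        maximalIdeal (Localization.AtPrime q) ∧ (∀ i, π i ^ n ∈ I) ∧
      ∀ i : Fin d, (i : ℕ) < t → ∀ y, π i ^ 2 * y ∈ Jt e π i → π i * y ∈ Jt e π i := by
  classical
  intro t
  induction t with
  | zero =>
    intro _
    exact ⟨π₀, hπ₀, hπ₀I, fun i hi => absurd hi (Nat.not_lt_zero _)⟩
  | succ t ih =>
    intro ht
    obtain ⟨π, h1, h2, h3⟩ := ih (by omega)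
    obtain ⟨tt, htt⟩ : ∃ tt : Fin d, (tt : ℕ) = t := ⟨⟨t, by omega⟩, rfl⟩
    obtain ⟨s, hs, hstep⟩ := exists_step q d hd e he π h1 tt
    have hsu : IsUnit (algebraMap Λ (Localization.AtPrime q) s) :=
      IsLocalization.map_units (Localization.AtPrime q) (⟨s, hs⟩ : q.primeCompl)
    refine ⟨Function.update π tt (s * π tt), ?_, ?_, ?_⟩
    · rw [← h1]
      apply span_range_unit_mul
      intro i
      by_cases hi : i = tt
      · subst hi
        refine ⟨_, hsu, ?_⟩
        rw [Function.update_self, map_mul]
      · refine ⟨1, isUnit_one, ?_⟩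
        rw [Function.update_of_ne hi, one_mul]
    · intro i
      by_cases hi : i = tt
      · subst hi
        rw [Function.update_self, mul_pow]
        exact I.mul_mem_left _ (h2 _)
      · rw [Function.update_of_ne hi]
        exact h2 i
    · intro i hi y hy
      have hJ : Jt e (Function.update π tt (s * π tt)) i = Jt e π i := by
        apply Jt_congr
        intro j hj
        have : j ≠ tt := by
          intro h
          have := congrArg Fin.val h
          omega
        rw [Function.update_of_ne this]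
      rw [hJ] at hy ⊢
      by_cases hit : i = tt
      · subst hit
        rw [Function.update_self] at hy ⊢
        exact hstep y hy
      · rw [Function.update_of_ne hit] at hy ⊢
        refine h3 i ?_ y hy
        have : (i : ℕ) ≠ t := fun h => hit (Fin.ext (h.trans htt.symm))
        omega

theorem main2109 {Λ : Type u} [CommRing Λ] [IsNoetherianRing Λ] (I q : Ideal Λ)
    [q.IsPrime] (n e d : ℕ) (hn : 0 < n) (he : 0 < e)
    (hpow : (q ^ n).map (algebraMap Λ (Localization.AtPrime q)) ≤
      I.map (algebraMap Λ (Localization.AtPrime q)))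
    [IsRegularLocalRing (Localization.AtPrime q)]
    (hd : ringKrullDim (Localization.AtPrime q) = d) :
    ∃ (N : ℕ) (π : Fin d → Λ), 0 < N ∧
      Ideal.span (Set.range fun i => algebraMap Λ (Localization.AtPrime q) (π i)) =
        q.map (algebraMap Λ (Localization.AtPrime q)) ∧
      (∀ i, π i ^ N ∈ I) ∧
      ∀ i : Fin d, ∀ x : Λ ⧸ Ideal.span (Set.range fun j : {j : Fin d // (j : ℕ) < (i : ℕ)} =>
          π j ^ e),
        Ideal.Quotient.mk _ (π i) ^ 2 * x = 0 → Ideal.Quotient.mk _ (π i) * x = 0 := by
  classical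
  have hmax : q.map (algebraMap Λ (Localization.AtPrime q)) =
      maximalIdeal (Localization.AtPrime q) := Localization.AtPrime.map_eq_maximalIdeal
  have hd' : (maximalIdeal (Localization.AtPrime q)).spanFinrank = d := by
    have h1 := IsRegularLocalRing.spanFinrank_maximalIdeal (R := Localization.AtPrime q)
    rw [hd] at h1
    exact_mod_cast h1
  obtain ⟨s₀, hcard, hspan⟩ := Submodule.FG.exists_span_finset_card_eq_spanFinrank
    (IsNoetherian.noetherian (maximalIdeal (Localization.AtPrime q)))
  rw [hd'] at hcard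
  have hcard' : Fintype.card s₀ = d := by
    rw [Fintype.card_coe]
    exact hcard
  let eqv : s₀ ≃ Fin d := Fintype.equivFinOfCardEq hcard'
  let y : Fin d → Localization.AtPrime q := fun i => ((eqv.symm i : s₀) : Localization.AtPrime q)
  have hy : Ideal.span (Set.range y) = maximalIdeal (Localization.AtPrime q) := by
    rw [← hspan]
    show Submodule.span _ _ = Submodule.span _ _
    congr 1
    ext r
    constructor
    · rintro ⟨i, rfl⟩
      exact (eqv.symm i).2
    · intro hr
      refine ⟨eqv ⟨r, hr⟩, ?_⟩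
      show ((eqv.symm (eqv ⟨r, hr⟩) : s₀) : Localization.AtPrime q) = r
      rw [Equiv.symm_apply_apply]
  choose p hp using fun i => IsLocalization.surj q.primeCompl (y i)
  have ha : Ideal.span (Set.range fun i => algebraMap Λ (Localization.AtPrime q) (p i).1) =
      maximalIdeal (Localization.AtPrime q) := by
    rw [← hy]
    apply span_range_unit_mul
    intro i
    refine ⟨algebraMap Λ (Localization.AtPrime q) (p i).2,
      IsLocalization.map_units (Localization.AtPrime q) (p i).2, ?_⟩
    rw [← hp i, mul_comm]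
  have haq : ∀ i, (p i).1 ∈ q := by
    intro i
    rw [← IsLocalization.AtPrime.to_map_mem_maximal_iff (Localization.AtPrime q) q, ← ha]
    exact Ideal.subset_span ⟨i, rfl⟩
  have haI : ∀ i, ∃ u, u ∉ q ∧ u * (p i).1 ^ n ∈ I := by
    intro i
    apply exists_mul_mem_of_map
    apply hpow
    exact Ideal.mem_map_of_mem _ (Ideal.pow_mem_pow (haq i) n)
  choose u hu1 hu2 using haI
  have hπ₀ : Ideal.span (Set.range fun i => algebraMap Λ (Localization.AtPrime q)
      (u i * (p i).1)) = maximalIdeal (Localization.AtPrime q) := by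
    rw [← ha]
    apply span_range_unit_mul
    intro i
    refine ⟨algebraMap Λ (Localization.AtPrime q) (u i),
      IsLocalization.map_units (Localization.AtPrime q) (⟨u i, hu1 i⟩ : q.primeCompl), ?_⟩
    rw [map_mul]
  have hπ₀I : ∀ i, (u i * (p i).1) ^ n ∈ I := by
    intro i
    obtain ⟨k, rfl⟩ := Nat.exists_eq_succ_of_ne_zero (Nat.pos_iff_ne_zero.mp hn)
    have : (u i * (p i).1) ^ (k + 1) = u i ^ k * (u i * (p i).1 ^ (k + 1)) := by ring
    rw [this]
    exact I.mul_mem_left _ (hu2 i)
  obtain ⟨π, h1, h2, h3⟩ := exists_ind I q d hd' n e he _ hπ₀ hπ₀I d le_rfl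
  refine ⟨n, π, hn, ?_, h2, ?_⟩
  · rw [hmax]
    exact h1
  · intro i x hx
    obtain ⟨z, rfl⟩ := Ideal.Quotient.mk_surjective x
    rw [← map_pow, ← map_mul, Ideal.Quotient.eq_zero_iff_mem] at hx
    rw [← map_mul, Ideal.Quotient.eq_zero_iff_mem]
    exact h3 i i.2 z hx

end RegPowH8
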