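import Mathlib
import Groth.Prelude.Def_Smoothing
import Groth.Agent.Lib.StdBaseChange_helper4
import Groth.Agent.Lib.Smoothing1_helper1
import Groth.Agent.Lib.LiftMain_helper4
import Groth.Agent.Lib.LiftDesing_helper4

/-!
Helper library (helper4): one step of the resolution induction in "Smoothing ring maps": if the
problem reduced modulo `π ^ 8` can be resolved then so can the problem itself (reduced data given
flexibly as quotients with prescribed kernels).  APPEND-ONLY once landed.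
-/

set_option autoImplicit false
set_option linter.unusedVariables false
set_option linter.unusedTactic false
set_option linter.unreachableTactic false
set_option linter.unusedSectionVars false
set_option linter.style.haveILetI false
set_option maxHeartbeats 800000

universe u

namespace Groth.Agent.Lib.ResolveStepH4

open TensorProduct Groth.Agent.Lib.LiftDesingH4

section Transfer

variable {R' A₁ A₂ : Type u} [CommRing R'] [CommRing A₁] [CommRing A₂] [Algebra R' A₁]
  [Algebra R' A₂]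

theorem strict_of_bijective (e : A₁ →ₐ[R'] A₂) (he : Function.Bijective e) (a : A₁)
    (h : Smoothing.IsStrictlyStandard R' A₁ a) : Smoothing.IsStrictlyStandard R' A₂ (e a) := by
  obtain ⟨P, hmem, hk⟩ := h
  have hker : RingHom.ker (e.comp P.hom).toRingHom = Ideal.span (Set.range P.rel) := by
    rw [← P.ker_eq]
    ext x
    rw [RingHom.mem_ker, RingHom.mem_ker]
    show e (P.hom x) = 0 ↔ P.hom x = 0
    constructor
    · intro h0
      exact he.1 (h0.trans (map_zero e).symm)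
    · intro h0
      rw [h0, map_zero]
  refine ⟨⟨P.n, P.m, P.c, P.hcn, P.hcm, P.rel, e.comp P.hom, he.2.comp P.surj, hker⟩, ?_, ?_⟩
  · show e a ∈ Ideal.span (Set.range fun cols : Fin P.c → Fin P.n =>
      e (P.hom (Smoothing.jacobianMinor P.rel (Fin.castLE P.hcm) cols)))
    have h1 := Ideal.mem_map_of_mem e hmem
    rw [Ideal.map_span, ← Set.range_comp] at h1
    exact h1
  · intro a' ha' j hj
    have h2 : P.hom a' = a := he.1 ha'
    exact hk a' h2 j hj

end Transfer

section Flex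

variable {R Rb A Ab : Type u} [CommRing R] [CommRing Rb] [CommRing A] [CommRing Ab]
  [Algebra R Rb] [Algebra R A] [Algebra R Ab] [Algebra Rb Ab] [IsScalarTower R Rb Ab]

/-- the comparison map from the base change to a quotient -/
noncomputable def fwd (pA : A →ₐ[R] Ab) : Rb ⊗[R] A →ₐ[Rb] Ab :=
  Algebra.TensorProduct.lift (Algebra.ofId Rb Ab) pA (fun _ _ => Commute.all _ _)

theorem fwd_tmul (pA : A →ₐ[R] Ab) (s : Rb) (a : A) :
    fwd pA (s ⊗ₜ[R] a) = algebraMap Rb Ab s * pA a := by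
  unfold fwd
  rw [Algebra.TensorProduct.lift_tmul]
  rfl

theorem tmul_eq_zero_of_mem (x : A)
    (hx : x ∈ (RingHom.ker (algebraMap R Rb)).map (algebraMap R A)) :
    (1 : Rb) ⊗ₜ[R] x = 0 := by
  refine Submodule.span_induction (p := fun x _ => (1 : Rb) ⊗ₜ[R] x = 0) ?_ ?_ ?_ ?_ hx
  · rintro _ ⟨k, hk, rfl⟩
    rw [← StdBaseChangeH4.aux_tmul k, RingHom.mem_ker.mp hk, TensorProduct.zero_tmul]
  · exact TensorProduct.tmul_zero _ _
  · intro x y _ _ hx hy
    rw [TensorProduct.tmul_add, hx, hy, add_zero]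
  · intro c x _ hx
    have e : (1 : Rb) ⊗ₜ[R] (c • x) = ((1 : Rb) ⊗ₜ[R] c) * ((1 : Rb) ⊗ₜ[R] x) := by
      rw [Algebra.TensorProduct.tmul_mul_tmul, one_mul, smul_eq_mul]
    rw [e, hx, mul_zero]

theorem fwd_bijective (hRb : Function.Surjective (algebraMap R Rb)) (pA : A →ₐ[R] Ab)
    (hpA : Function.Surjective pA)
    (hker : ∀ a, pA a = 0 → a ∈ (RingHom.ker (algebraMap R Rb)).map (algebraMap R A)) :
    Function.Bijective (fwd (Rb := Rb) pA) := by
  obtain ⟨bwd, hbwd⟩ := LiftMainH4.exists_lift_of_surjective pA hpA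
    (Algebra.TensorProduct.includeRight : A →ₐ[R] Rb ⊗[R] A)
    (fun x hx => tmul_eq_zero_of_mem x (hker x hx))
  have hleft : ∀ t, bwd (fwd (Rb := Rb) pA t) = t := by
    intro t
    induction t using TensorProduct.induction_on with
    | zero => rw [map_zero, map_zero]
    | tmul s a =>
      obtain ⟨r, rfl⟩ := hRb s
      have e1 : fwd (Rb := Rb) pA (algebraMap R Rb r ⊗ₜ[R] a) = pA (r • a) := by
        rw [fwd_tmul, ← IsScalarTower.algebraMap_apply R Rb Ab r, ← Algebra.smul_def, map_smul]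
      rw [e1, hbwd]
      show (1 : Rb) ⊗ₜ[R] (r • a) = algebraMap R Rb r ⊗ₜ[R] a
      rw [TensorProduct.tmul_smul, TensorProduct.smul_tmul', Algebra.algebraMap_eq_smul_one]
    | add x y hx hy => rw [map_add, map_add, hx, hy]
  refine ⟨?_, ?_⟩
  · intro t₁ t₂ h
    rw [← hleft t₁, ← hleft t₂, h]
  · intro y
    obtain ⟨a, rfl⟩ := hpA y
    exact ⟨(1 : Rb) ⊗ₜ[R] a, by rw [fwd_tmul, map_one, one_mul]⟩

theorem strict_flex (hRb : Function.Surjective (algebraMap R Rb)) (pA : A →ₐ[R] Ab)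
    (hpA : Function.Surjective pA)
    (hker : ∀ a, pA a = 0 → a ∈ (RingHom.ker (algebraMap R Rb)).map (algebraMap R A))
    (s : A) (hs : Smoothing.IsStrictlyStandard R A s) :
    Smoothing.IsStrictlyStandard Rb Ab (pA s) := by
  have h1 := StdBaseChangeH4.strict_bc (R' := Rb) s hs
  have h2 := strict_of_bijective (fwd (Rb := Rb) pA) (fwd_bijective hRb pA hpA hker) _ h1
  rw [fwd_tmul, map_one, one_mul] at h2
  exact h2

theorem fp_flex [Algebra.FinitePresentation R A] (hRb : Function.Surjective (algebraMap R Rb))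
    (pA : A →ₐ[R] Ab) (hpA : Function.Surjective pA)
    (hker : ∀ a, pA a = 0 → a ∈ (RingHom.ker (algebraMap R Rb)).map (algebraMap R A)) :
    Algebra.FinitePresentation Rb Ab :=
  Algebra.FinitePresentation.equiv
    (AlgEquiv.ofBijective (fwd (Rb := Rb) pA) (fwd_bijective hRb pA hpA hker))

theorem sing_flex [Algebra.FinitePresentation R A]
    (hRb : Function.Surjective (algebraMap R Rb)) (pA : A →ₐ[R] Ab)
    (hpA : Function.Surjective pA)
    (hker : ∀ a, pA a = 0 → a ∈ (RingHom.ker (algebraMap R Rb)).map (algebraMap R A))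
    (a : A) (ha : a ∈ Smoothing.singularIdeal R A) :
    pA a ∈ Smoothing.singularIdeal Rb Ab := by
  rw [(Smoothing1H1.main2026 (R := R) (A := A)).1] at ha
  obtain ⟨k, hk⟩ := Ideal.mem_radical_iff.mp ha
  have h1 : Ideal.span {s : A | Smoothing.IsStrictlyStandard R A s} ≤
      (Smoothing.singularIdeal Rb Ab).comap pA := by
    rw [Ideal.span_le]
    intro s hs
    rw [SetLike.mem_coe, Ideal.mem_comap]
    have hs' := strict_flex hRb pA hpA hker s hs
    rw [mem_singularIdeal_iff]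
    intro Q hQ hns
    by_contra hsQ
    exact hns (Smoothing1H1.smoothAt_of_isStrictlyStandard hs' Q hsQ)
  have h2 := h1 hk
  rw [Ideal.mem_comap, map_pow] at h2
  unfold Smoothing.singularIdeal at h2 ⊢
  exact (PrimeSpectrum.isRadical_vanishingIdeal _) ⟨k, h2⟩

end Flex

section Step

theorem flex_step {R A Λ : Type u} [CommRing R] [IsNoetherianRing R] [CommRing A] [Algebra R A]
    [Algebra.FinitePresentation R A] [CommRing Λ] [Algebra R Λ] (φ : A →ₐ[R] Λ) (𝔮 : Ideal Λ)
    [𝔮.IsPrime] (π : R) (hπ𝔮 : algebraMap R Λ π ∈ 𝔮)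
    (hR : ∀ r : R, π ^ 2 * r = 0 → π * r = 0) (hΛ : ∀ x : Λ, π ^ 2 • x = 0 → π • x = 0)
    (hstd : Smoothing.IsStrictlyStandard R A (algebraMap R A π))
    {Rb Ab Λb : Type u} [CommRing Rb] [CommRing Ab] [CommRing Λb] [Algebra R Rb] [Algebra R Ab]
    [Algebra R Λb] [Algebra Rb Ab] [Algebra Rb Λb] [IsScalarTower R Rb Ab]
    [IsScalarTower R Rb Λb]
    (hRb : Function.Surjective (algebraMap R Rb))
    (hRbker : RingHom.ker (algebraMap R Rb) = Ideal.span {π ^ 8})
    (pA : A →ₐ[R] Ab) (hpA : Function.Surjective pA)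
    (hpAker : ∀ a, pA a = 0 → a ∈ Ideal.span {algebraMap R A (π ^ 8)})
    (pΛ : Λ →ₐ[R] Λb) (hpΛ : Function.Surjective pΛ)
    (hpΛker : ∀ l, pΛ l = 0 → l ∈ Ideal.span {algebraMap R Λ (π ^ 8)})
    (φb : Ab →ₐ[Rb] Λb) (hφb : ∀ a, φb (pA a) = pΛ (φ a))
    (hres : Smoothing.Resolvable Rb φb (𝔮.map pΛ)) : Smoothing.Resolvable R φ 𝔮 := by
  classical
  obtain ⟨Bb, iB1, iB2, hBbfp, gb, hb, hgh, hle, hnle⟩ := hres
  haveI := hBbfp
  letI iRB : Algebra R Bb := ((algebraMap Rb Bb).comp (algebraMap R Rb)).toAlgebra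
  haveI : IsScalarTower R Rb Bb := IsScalarTower.of_algebraMap_eq (fun _ => rfl)
  have hle0 : Ideal.span {π ^ 8} ≤ RingHom.ker (algebraMap R Rb) := le_of_eq hRbker.symm
  obtain ⟨ι₀, hι₀⟩ : ∃ ι₀ : (R ⧸ Ideal.span {π ^ 8}) →+* Rb,
      ∀ r, ι₀ (Ideal.Quotient.mk _ r) = algebraMap R Rb r :=
    ⟨Ideal.Quotient.lift _ (algebraMap R Rb) (fun a ha => RingHom.mem_ker.mp (hle0 ha)),
      fun r => rfl⟩
  letI iR0Rb : Algebra (R ⧸ Ideal.span {π ^ 8}) Rb := ι₀.toAlgebra
  letI iR0B : Algebra (R ⧸ Ideal.span {π ^ 8}) Bb := ((algebraMap Rb Bb).comp ι₀).toAlgebra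
  haveI : IsScalarTower (R ⧸ Ideal.span {π ^ 8}) Rb Bb :=
    IsScalarTower.of_algebraMap_eq (fun _ => rfl)
  haveI : IsScalarTower R (R ⧸ Ideal.span {π ^ 8}) Bb :=
    IsScalarTower.of_algebraMap_eq (fun r => by
      show algebraMap Rb Bb (algebraMap R Rb r) = algebraMap Rb Bb (ι₀ (Ideal.Quotient.mk _ r))
      rw [hι₀])
  have hι₀inj : Function.Injective ι₀ := by
    rw [injective_iff_map_eq_zero]
    intro x hx
    obtain ⟨r, rfl⟩ := Ideal.Quotient.mk_surjective x
    rw [hι₀] at hx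
    have h1 : r ∈ RingHom.ker (algebraMap R Rb) := RingHom.mem_ker.mpr hx
    rw [hRbker] at h1
    exact Ideal.Quotient.eq_zero_iff_mem.mpr h1
  have hι₀surj : Function.Surjective ι₀ := by
    intro y
    obtain ⟨r, rfl⟩ := hRb y
    exact ⟨Ideal.Quotient.mk _ r, hι₀ r⟩
  have hofId : ∀ x, Algebra.ofId (R ⧸ Ideal.span {π ^ 8}) Rb x = ι₀ x := fun x => rfl
  haveI : Algebra.FinitePresentation (R ⧸ Ideal.span {π ^ 8}) Rb := by
    refine Algebra.FinitePresentation.of_surjective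
      (f := Algebra.ofId (R ⧸ Ideal.span {π ^ 8}) Rb) hι₀surj ?_
    have hbot : RingHom.ker (Algebra.ofId (R ⧸ Ideal.span {π ^ 8}) Rb).toRingHom = ⊥ :=
      (RingHom.injective_iff_ker_eq_bot _).mp hι₀inj
    rw [hbot]
    exact Submodule.fg_bot
  haveI : Algebra.FinitePresentation (R ⧸ Ideal.span {π ^ 8}) Bb :=
    Algebra.FinitePresentation.trans (R ⧸ Ideal.span {π ^ 8}) Rb Bb
  haveI : Algebra.FormallySmooth (R ⧸ Ideal.span {π ^ 8}) Rb :=
    Algebra.FormallySmooth.of_equiv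
      (AlgEquiv.ofBijective (Algebra.ofId (R ⧸ Ideal.span {π ^ 8}) Rb) ⟨hι₀inj, hι₀surj⟩)
  -- the maps
  obtain ⟨ε, hε⟩ : ∃ ε : Λb →ₐ[R] Λ ⧸ Ideal.span {algebraMap R Λ (π ^ 8)},
      ∀ l, ε (pΛ l) = Ideal.Quotient.mk _ l := by
    refine LiftMainH4.exists_lift_of_surjective
      (D := Λ ⧸ Ideal.span {algebraMap R Λ (π ^ 8)}) pΛ hpΛ (Ideal.Quotient.mkₐ R _) ?_
    intro x hx
    exact Ideal.Quotient.eq_zero_iff_mem.mpr (hpΛker x hx)
  obtain ⟨g, hg⟩ : ∃ g : Bb →ₐ[R] Λ ⧸ Ideal.span {algebraMap R Λ (π ^ 8)},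
      ∀ x, g x = ε (hb x) := ⟨ε.comp (hb.restrictScalars R), fun _ => rfl⟩
  obtain ⟨γ, hγ⟩ : ∃ γ : A →ₐ[R] Bb, ∀ a, γ a = gb (pA a) :=
    ⟨(gb.restrictScalars R).comp pA, fun _ => rfl⟩
  have hfac : ∀ a : A, g (γ a) =
      Ideal.Quotient.mk (Ideal.span {algebraMap R Λ (π ^ 8)}) (φ a) := by
    intro a
    have h1 : hb (gb (pA a)) = φb (pA a) := AlgHom.congr_fun hgh (pA a)
    rw [hg, hγ, h1, hφb, hε]
  obtain ⟨B, iB1', iB2', hBfp, α, β, hβα, hsmB, hincl⟩ :=
    main19959 π hR hΛ φ hstd γ g hfac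
  have hπB : algebraMap R B π ∈ Smoothing.singularIdeal R B := by
    rw [mem_singularIdeal_iff]
    intro Q hQ hns
    haveI := hQ
    by_contra hn
    exact hns (hsmB Q hn)
  have hπrad : algebraMap R Λ π ∈ ((Smoothing.singularIdeal R B).map β).radical := by
    apply Ideal.le_radical
    rw [← β.commutes]
    exact Ideal.mem_map_of_mem β hπB
  have hspan_le : Ideal.span {algebraMap R Λ (π ^ 8)} ≤
      ((Smoothing.singularIdeal R B).map β).radical := by
    rw [Ideal.span_singleton_le_iff_mem, map_pow]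
    exact Ideal.pow_mem_of_mem _ hπrad 8 (by norm_num)
  have hF1 : Smoothing.singularIdeal Rb Bb ≤
      Smoothing.singularIdeal (R ⧸ Ideal.span {π ^ 8}) Bb := by
    intro x hx
    rw [mem_singularIdeal_iff] at hx ⊢
    intro Q hQ hns
    haveI := hQ
    apply hx Q
    intro hsm
    apply hns
    haveI : Algebra.FormallySmooth Rb (Localization.AtPrime Q) := hsm
    haveI : IsScalarTower (R ⧸ Ideal.span {π ^ 8}) Rb (Localization.AtPrime Q) :=
      IsScalarTower.of_algebraMap_eq (fun x => by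
        rw [IsScalarTower.algebraMap_apply (R ⧸ Ideal.span {π ^ 8}) Bb (Localization.AtPrime Q),
          IsScalarTower.algebraMap_apply Rb Bb (Localization.AtPrime Q),
          IsScalarTower.algebraMap_apply (R ⧸ Ideal.span {π ^ 8}) Rb Bb])
    exact Algebra.FormallySmooth.comp (R ⧸ Ideal.span {π ^ 8}) Rb (Localization.AtPrime Q)
  have hkey : (Smoothing.singularIdeal Rb Bb).map hb ≤
      (((Smoothing.singularIdeal R B).map β).radical).map pΛ := by
    rw [Ideal.map_le_iff_le_comap]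
    intro x hx
    rw [Ideal.mem_comap]
    have h1 : g x ∈ (((Smoothing.singularIdeal R B).map β).radical).map
        (Ideal.Quotient.mk (Ideal.span {algebraMap R Λ (π ^ 8)})) :=
      hincl (Ideal.mem_map_of_mem g (hF1 hx))
    obtain ⟨y, hy, hyx⟩ :=
      (Ideal.mem_map_iff_of_surjective _ Ideal.Quotient.mk_surjective).mp h1
    obtain ⟨l, hl⟩ := hpΛ (hb x)
    have h2 : g x = Ideal.Quotient.mk (Ideal.span {algebraMap R Λ (π ^ 8)}) l := by
      rw [hg, ← hl, hε]
    have h3 : l - y ∈ Ideal.span {algebraMap R Λ (π ^ 8)} := by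
      apply Ideal.Quotient.eq.mp
      rw [← h2, hyx]
    have hlrad : l ∈ ((Smoothing.singularIdeal R B).map β).radical := by
      have e : l = (l - y) + y := by ring
      rw [e]
      exact Ideal.add_mem _ (hspan_le h3) hy
    rw [← hl]
    exact Ideal.mem_map_of_mem pΛ hlrad
  have hkerq : RingHom.ker pΛ ≤ 𝔮 := by
    intro x hx
    have h1 := hpΛker x (RingHom.mem_ker.mp hx)
    have h2 : Ideal.span {algebraMap R Λ (π ^ 8)} ≤ 𝔮 := by
      rw [Ideal.span_singleton_le_iff_mem, map_pow]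
      exact Ideal.pow_mem_of_mem 𝔮 hπ𝔮 8 (by norm_num)
    exact h2 h1
  haveI hqb : (𝔮.map pΛ).IsPrime := Ideal.map_isPrime_of_surjective hpΛ hkerq
  refine ⟨B, iB1', iB2', hBfp, α, β, hβα, ?_, ?_⟩
  · unfold Smoothing.singRad
    rw [Ideal.radical_le_radical_iff, Ideal.map_le_iff_le_comap]
    intro a ha
    rw [Ideal.mem_comap]
    have hker' : ∀ a, pA a = 0 →
        a ∈ (RingHom.ker (algebraMap R Rb)).map (algebraMap R A) := by
      intro a ha
      rw [hRbker, Ideal.map_span, Set.image_singleton]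
      exact hpAker a ha
    have h1 : pA a ∈ Smoothing.singularIdeal Rb Ab := sing_flex hRb pA hpA hker' a ha
    have h2 : φb (pA a) ∈ Smoothing.singRad Rb hb :=
      hle (Ideal.le_radical (Ideal.mem_map_of_mem φb h1))
    unfold Smoothing.singRad at h2
    obtain ⟨k, hk⟩ := Ideal.mem_radical_iff.mp h2
    have h3 := hkey hk
    rw [hφb, ← map_pow] at h3
    obtain ⟨y, hy, hyx⟩ := (Ideal.mem_map_iff_of_surjective pΛ hpΛ).mp h3
    have h4 : φ a ^ k - y ∈ Ideal.span {algebraMap R Λ (π ^ 8)} :=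
      hpΛker _ (by rw [map_sub, hyx, sub_self])
    have h5 : φ a ^ k ∈ ((Smoothing.singularIdeal R B).map β).radical := by
      have e : φ a ^ k = (φ a ^ k - y) + y := by ring
      rw [e]
      exact Ideal.add_mem _ (hspan_le h4) hy
    exact Ideal.mem_radical_of_pow_mem h5
  · intro hle'
    apply hnle
    unfold Smoothing.singRad at hle' ⊢
    rw [Ideal.IsPrime.radical_le_iff hqb]
    exact hkey.trans (Ideal.map_mono hle')

end Step

end Groth.Agent.Lib.ResolveStepH4
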