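import Mathlib
import Groth.Prelude.Def_Smoothing
import Groth.Agent.Lib.ResolveStep_helper4

/-!
Helper library (helper4): the induction on the number of elements `π₁, …, π_r` in the resolution
lemma of "Smoothing ring maps" (reduction modulo `(π₁⁸, …, π_r⁸)`).  APPEND-ONLY once landed.
-/

set_option autoImplicit false
set_option linter.unusedVariables false
set_option linter.unusedTactic false
set_option linter.unreachableTactic false
set_option linter.unusedSectionVars false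
set_option linter.style.haveILetI false
set_option maxHeartbeats 800000

universe u

namespace Groth.Agent.Lib.ResolveIndH4

open Groth.Agent.Lib.ResolveStepH4

section Ideals

variable {X : Type*} [CommRing X]

theorem quot_sup_singleton (M : Ideal X) (t r : X) :
    r ∈ M ⊔ Ideal.span {t} ↔ Ideal.Quotient.mk M r ∈ Ideal.span {Ideal.Quotient.mk M t} := by
  constructor
  · intro h
    obtain ⟨y, hy, z, hz, rfl⟩ := Submodule.mem_sup.mp h
    obtain ⟨c, rfl⟩ := Ideal.mem_span_singleton'.mp hz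
    rw [map_add, Ideal.Quotient.eq_zero_iff_mem.mpr hy, zero_add, map_mul]
    exact Ideal.mul_mem_left _ _ (Ideal.subset_span (Set.mem_singleton _))
  · intro h
    obtain ⟨cb, hcb⟩ := Ideal.mem_span_singleton'.mp h
    obtain ⟨c, rfl⟩ := Ideal.Quotient.mk_surjective cb
    rw [← map_mul] at hcb
    have h1 : c * t - r ∈ M := Ideal.Quotient.eq.mp hcb
    have e : r = -(c * t - r) + c * t := by ring
    rw [e]
    exact Ideal.add_mem _ (Ideal.mem_sup_left (M.neg_mem h1))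
      (Ideal.mem_sup_right (Ideal.mul_mem_left _ _ (Ideal.subset_span (Set.mem_singleton _))))

/-- ideal generated by the eighth powers of the first `i` elements -/
def JJ (π : ℕ → X) (i : ℕ) : Ideal X := Ideal.span ((fun j => π j ^ 8) '' Set.Iio i)

theorem JJ_succ (π : ℕ → X) (i : ℕ) : JJ π (i + 1) = JJ π i ⊔ Ideal.span {π i ^ 8} := by
  unfold JJ
  rw [← Ideal.span_union]
  congr 1
  ext x
  constructor
  · rintro ⟨j, hj, rfl⟩
    rcases Nat.lt_succ_iff_lt_or_eq.mp hj with h | h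
    · exact Or.inl ⟨j, h, rfl⟩
    · right
      rw [h]
      exact Set.mem_singleton _
  · rintro (⟨j, hj, rfl⟩ | h)
    · exact ⟨j, Nat.lt_succ_of_lt hj, rfl⟩
    · rw [Set.mem_singleton_iff.mp h]
      exact ⟨i, Nat.lt_succ_self i, rfl⟩

theorem JJ_zero (π : ℕ → X) : JJ π 0 = ⊥ := by
  unfold JJ
  have h : Set.Iio (0 : ℕ) = ∅ := by
    ext x
    simp
  rw [h, Set.image_empty, Ideal.span_empty]

theorem JJ_one (π : ℕ → X) : JJ π 1 = Ideal.span {π 0 ^ 8} := by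
  rw [JJ_succ, JJ_zero, bot_sup_eq]

theorem JJ_map_le {Y : Type*} [CommRing Y] (f : X →+* Y) (π : ℕ → X) (i : ℕ) (𝔮 : Ideal Y)
    (h : ∀ j < i, f (π j) ∈ 𝔮) : (JJ π i).map f ≤ 𝔮 := by
  rw [Ideal.map_le_iff_le_comap]
  unfold JJ
  rw [Ideal.span_le]
  rintro _ ⟨j, hj, rfl⟩
  show f (π j ^ 8) ∈ 𝔮
  rw [map_pow]
  exact Ideal.pow_mem_of_mem 𝔮 (h j hj) 8 (by norm_num)

end Ideals

section Quot

variable {R A Λ : Type u} [CommRing R] [CommRing A] [Algebra R A] [CommRing Λ] [Algebra R Λ]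

theorem exists_φQ (φ : A →ₐ[R] Λ) (J : Ideal R) :
    ∃ φJ : A ⧸ J.map (algebraMap R A) →ₐ[R ⧸ J] Λ ⧸ J.map (algebraMap R Λ),
      ∀ a, φJ (Ideal.Quotient.mk _ a) = Ideal.Quotient.mk _ (φ a) := by
  have h : J.map (algebraMap R A) ≤ (J.map (algebraMap R Λ)).comap φ.toRingHom := by
    rw [Ideal.map_le_iff_le_comap]
    intro k hk
    rw [Ideal.mem_comap, Ideal.mem_comap]
    show φ (algebraMap R A k) ∈ _
    rw [φ.commutes]
    exact Ideal.mem_map_of_mem _ hk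
  refine ⟨{ toRingHom := Ideal.quotientMap _ φ.toRingHom h, commutes' := ?_ }, fun a => ?_⟩
  · intro rb
    obtain ⟨r, rfl⟩ := Ideal.Quotient.mk_surjective rb
    show Ideal.quotientMap _ φ.toRingHom h (Ideal.Quotient.mk _ (algebraMap R A r)) =
      Ideal.Quotient.mk _ (algebraMap R Λ r)
    rw [Ideal.quotientMap_mk]
    show Ideal.Quotient.mk _ (φ (algebraMap R A r)) = _
    rw [φ.commutes]
  · exact Ideal.quotientMap_mk (H := h)

end Quot

section StepQ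

theorem stepQ {R A Λ : Type u} [CommRing R] [IsNoetherianRing R] [CommRing A] [Algebra R A]
    [Algebra.FinitePresentation R A] [CommRing Λ] [Algebra R Λ] (φ : A →ₐ[R] Λ) (𝔮 : Ideal Λ)
    [𝔮.IsPrime] (J J' : Ideal R) (x : R) (hJ' : J' = J ⊔ Ideal.span {x ^ 8})
    (hJ𝔮 : J.map (algebraMap R Λ) ≤ 𝔮) (hx𝔮 : algebraMap R Λ x ∈ 𝔮)
    (hR : ∀ y : R, x ^ 2 * y ∈ J → x * y ∈ J)
    (hΛ : ∀ y : Λ, algebraMap R Λ x ^ 2 * y ∈ J.map (algebraMap R Λ) →
      algebraMap R Λ x * y ∈ J.map (algebraMap R Λ))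
    (hstd : Smoothing.IsStrictlyStandard R A (algebraMap R A x))
    (φJ : A ⧸ J.map (algebraMap R A) →ₐ[R ⧸ J] Λ ⧸ J.map (algebraMap R Λ))
    (hφJ : ∀ a, φJ (Ideal.Quotient.mk _ a) = Ideal.Quotient.mk _ (φ a))
    (φJ' : A ⧸ J'.map (algebraMap R A) →ₐ[R ⧸ J'] Λ ⧸ J'.map (algebraMap R Λ))
    (hφJ' : ∀ a, φJ' (Ideal.Quotient.mk _ a) = Ideal.Quotient.mk _ (φ a))
    (hres : Smoothing.Resolvable (R ⧸ J') φJ'
      (𝔮.map (Ideal.Quotient.mk (J'.map (algebraMap R Λ))))) :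
    Smoothing.Resolvable (R ⧸ J) φJ
      (𝔮.map (Ideal.Quotient.mk (J.map (algebraMap R Λ)))) := by
  have hJJ' : J ≤ J' := by
    rw [hJ']
    exact le_sup_left
  have hAJJ' : J.map (algebraMap R A) ≤ J'.map (algebraMap R A) := Ideal.map_mono hJJ'
  have hΛJJ' : J.map (algebraMap R Λ) ≤ J'.map (algebraMap R Λ) := Ideal.map_mono hJJ'
  letI i1 : Algebra (R ⧸ J) (R ⧸ J') := (Ideal.Quotient.factor hJJ').toAlgebra
  letI i2 : Algebra (R ⧸ J) (A ⧸ J'.map (algebraMap R A)) :=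
    ((algebraMap (R ⧸ J') (A ⧸ J'.map (algebraMap R A))).comp
      (Ideal.Quotient.factor hJJ')).toAlgebra
  letI i3 : Algebra (R ⧸ J) (Λ ⧸ J'.map (algebraMap R Λ)) :=
    ((algebraMap (R ⧸ J') (Λ ⧸ J'.map (algebraMap R Λ))).comp
      (Ideal.Quotient.factor hJJ')).toAlgebra
  haveI : IsScalarTower (R ⧸ J) (R ⧸ J') (A ⧸ J'.map (algebraMap R A)) :=
    IsScalarTower.of_algebraMap_eq (fun _ => rfl)
  haveI : IsScalarTower (R ⧸ J) (R ⧸ J') (Λ ⧸ J'.map (algebraMap R Λ)) :=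
    IsScalarTower.of_algebraMap_eq (fun _ => rfl)
  have hsurjR : Function.Surjective (algebraMap R (R ⧸ J)) := Ideal.Quotient.mk_surjective
  have hkerA : ∀ a, Ideal.Quotient.mkₐ R (J.map (algebraMap R A)) a = 0 →
      a ∈ (RingHom.ker (algebraMap R (R ⧸ J))).map (algebraMap R A) := by
    intro a ha
    have e : RingHom.ker (algebraMap R (R ⧸ J)) = J := Ideal.mk_ker
    rw [e]
    exact Ideal.Quotient.eq_zero_iff_mem.mp ha
  haveI : Algebra.FinitePresentation (R ⧸ J) (A ⧸ J.map (algebraMap R A)) :=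
    fp_flex hsurjR (Ideal.Quotient.mkₐ R (J.map (algebraMap R A)))
      (Ideal.Quotient.mkₐ_surjective R _) hkerA
  haveI hqJ : (𝔮.map (Ideal.Quotient.mk (J.map (algebraMap R Λ)))).IsPrime :=
    Ideal.map_isPrime_of_surjective Ideal.Quotient.mk_surjective (by
      rw [Ideal.mk_ker]
      exact hJ𝔮)
  have hstdJ : Smoothing.IsStrictlyStandard (R ⧸ J) (A ⧸ J.map (algebraMap R A))
      (algebraMap (R ⧸ J) (A ⧸ J.map (algebraMap R A)) (Ideal.Quotient.mk J x)) :=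
    strict_flex hsurjR (Ideal.Quotient.mkₐ R (J.map (algebraMap R A)))
      (Ideal.Quotient.mkₐ_surjective R _) hkerA _ hstd
  have hRJ : ∀ r : R ⧸ J, Ideal.Quotient.mk J x ^ 2 * r = 0 → Ideal.Quotient.mk J x * r = 0 := by
    intro r hr
    obtain ⟨y, rfl⟩ := Ideal.Quotient.mk_surjective r
    rw [← map_pow, ← map_mul, Ideal.Quotient.eq_zero_iff_mem] at hr
    rw [← map_mul, Ideal.Quotient.eq_zero_iff_mem]
    exact hR y hr
  have eΛ : ∀ r : R, algebraMap (R ⧸ J) (Λ ⧸ J.map (algebraMap R Λ)) (Ideal.Quotient.mk J r) =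
      Ideal.Quotient.mk _ (algebraMap R Λ r) := fun r => rfl
  have eA : ∀ r : R, algebraMap (R ⧸ J) (A ⧸ J.map (algebraMap R A)) (Ideal.Quotient.mk J r) =
      Ideal.Quotient.mk _ (algebraMap R A r) := fun r => rfl
  have hΛJ : ∀ y : Λ ⧸ J.map (algebraMap R Λ),
      Ideal.Quotient.mk J x ^ 2 • y = 0 → Ideal.Quotient.mk J x • y = 0 := by
    intro y hy
    obtain ⟨l, rfl⟩ := Ideal.Quotient.mk_surjective y
    rw [Algebra.smul_def] at hy ⊢
    rw [← map_pow (Ideal.Quotient.mk J) x 2, eΛ, ← map_mul, Ideal.Quotient.eq_zero_iff_mem,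
      map_pow] at hy
    rw [eΛ, ← map_mul, Ideal.Quotient.eq_zero_iff_mem]
    exact hΛ l hy
  have hx𝔮J : algebraMap (R ⧸ J) (Λ ⧸ J.map (algebraMap R Λ)) (Ideal.Quotient.mk J x) ∈
      𝔮.map (Ideal.Quotient.mk (J.map (algebraMap R Λ))) := by
    rw [eΛ]
    exact Ideal.mem_map_of_mem _ hx𝔮
  have hRb : Function.Surjective (algebraMap (R ⧸ J) (R ⧸ J')) := by
    intro y
    obtain ⟨r, rfl⟩ := Ideal.Quotient.mk_surjective y
    exact ⟨Ideal.Quotient.mk J r, rfl⟩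
  have hRbker : RingHom.ker (algebraMap (R ⧸ J) (R ⧸ J')) =
      Ideal.span {Ideal.Quotient.mk J x ^ 8} := by
    ext z
    obtain ⟨r, rfl⟩ := Ideal.Quotient.mk_surjective z
    rw [RingHom.mem_ker, ← map_pow (Ideal.Quotient.mk J) x 8, ← quot_sup_singleton, ← hJ']
    show Ideal.Quotient.mk J' r = 0 ↔ r ∈ J'
    exact Ideal.Quotient.eq_zero_iff_mem
  obtain ⟨pA, hpA⟩ : ∃ pA : (A ⧸ J.map (algebraMap R A)) →ₐ[R ⧸ J]
      (A ⧸ J'.map (algebraMap R A)), ∀ a, pA (Ideal.Quotient.mk _ a) = Ideal.Quotient.mk _ a := by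
    refine ⟨{ toRingHom := Ideal.Quotient.factor hAJJ', commutes' := ?_ }, fun a => rfl⟩
    intro rb
    obtain ⟨r, rfl⟩ := Ideal.Quotient.mk_surjective rb
    rfl
  obtain ⟨pΛ, hpΛ⟩ : ∃ pΛ : (Λ ⧸ J.map (algebraMap R Λ)) →ₐ[R ⧸ J]
      (Λ ⧸ J'.map (algebraMap R Λ)), ∀ l, pΛ (Ideal.Quotient.mk _ l) = Ideal.Quotient.mk _ l := by
    refine ⟨{ toRingHom := Ideal.Quotient.factor hΛJJ', commutes' := ?_ }, fun a => rfl⟩
    intro rb
    obtain ⟨r, rfl⟩ := Ideal.Quotient.mk_surjective rb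
    rfl
  have hpAsurj : Function.Surjective pA := by
    intro y
    obtain ⟨a, rfl⟩ := Ideal.Quotient.mk_surjective y
    exact ⟨Ideal.Quotient.mk _ a, hpA a⟩
  have hpΛsurj : Function.Surjective pΛ := by
    intro y
    obtain ⟨l, rfl⟩ := Ideal.Quotient.mk_surjective y
    exact ⟨Ideal.Quotient.mk _ l, hpΛ l⟩
  have hpAker : ∀ a₁, pA a₁ = 0 → a₁ ∈ Ideal.span
      {algebraMap (R ⧸ J) (A ⧸ J.map (algebraMap R A)) (Ideal.Quotient.mk J x ^ 8)} := by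
    intro a₁ h
    obtain ⟨a, rfl⟩ := Ideal.Quotient.mk_surjective a₁
    rw [hpA] at h
    have h1 : a ∈ J'.map (algebraMap R A) := Ideal.Quotient.eq_zero_iff_mem.mp h
    rw [hJ', Ideal.map_sup, Ideal.map_span, Set.image_singleton, quot_sup_singleton] at h1
    rw [← map_pow (Ideal.Quotient.mk J) x 8, eA]
    exact h1
  have hpΛker : ∀ l₁, pΛ l₁ = 0 → l₁ ∈ Ideal.span
      {algebraMap (R ⧸ J) (Λ ⧸ J.map (algebraMap R Λ)) (Ideal.Quotient.mk J x ^ 8)} := by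
    intro l₁ h
    obtain ⟨l, rfl⟩ := Ideal.Quotient.mk_surjective l₁
    rw [hpΛ] at h
    have h1 : l ∈ J'.map (algebraMap R Λ) := Ideal.Quotient.eq_zero_iff_mem.mp h
    rw [hJ', Ideal.map_sup, Ideal.map_span, Set.image_singleton, quot_sup_singleton] at h1
    rw [← map_pow (Ideal.Quotient.mk J) x 8, eΛ]
    exact h1
  have hφb : ∀ a₁, φJ' (pA a₁) = pΛ (φJ a₁) := by
    intro a₁
    obtain ⟨a, rfl⟩ := Ideal.Quotient.mk_surjective a₁
    rw [hpA, hφJ', hφJ, hpΛ]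
  have hq : (𝔮.map (Ideal.Quotient.mk (J.map (algebraMap R Λ)))).map pΛ =
      𝔮.map (Ideal.Quotient.mk (J'.map (algebraMap R Λ))) := by
    apply le_antisymm
    · rw [Ideal.map_le_iff_le_comap, Ideal.map_le_iff_le_comap]
      intro l hl
      rw [Ideal.mem_comap, Ideal.mem_comap, hpΛ]
      exact Ideal.mem_map_of_mem _ hl
    · rw [Ideal.map_le_iff_le_comap]
      intro l hl
      rw [Ideal.mem_comap, ← hpΛ]
      exact Ideal.mem_map_of_mem pΛ (Ideal.mem_map_of_mem _ hl)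
  rw [← hq] at hres
  exact flex_step φJ _ (Ideal.Quotient.mk J x) hx𝔮J hRJ hΛJ hstdJ hRb hRbker pA hpAsurj hpAker
    pΛ hpΛsurj hpΛker φJ' hφb hres

end StepQ

section Induction

variable {R A Λ : Type u} [CommRing R] [IsNoetherianRing R] [CommRing A] [Algebra R A]
  [Algebra.FinitePresentation R A] [CommRing Λ] [Algebra R Λ]

theorem down (φ : A →ₐ[R] Λ) (𝔮 : Ideal Λ) [𝔮.IsPrime] (π : ℕ → R) (r : ℕ)
    (hπ𝔮 : ∀ i < r, algebraMap R Λ (π i) ∈ 𝔮)
    (hR : ∀ i < r, ∀ y : R, π i ^ 2 * y ∈ JJ π i → π i * y ∈ JJ π i)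
    (hΛ : ∀ i < r, ∀ y : Λ, algebraMap R Λ (π i) ^ 2 * y ∈ (JJ π i).map (algebraMap R Λ) →
      algebraMap R Λ (π i) * y ∈ (JJ π i).map (algebraMap R Λ))
    (hstd : ∀ i < r, Smoothing.IsStrictlyStandard R A (algebraMap R A (π i)))
    (hres : ∀ (φK : A ⧸ (JJ π r).map (algebraMap R A) →ₐ[R ⧸ JJ π r]
        Λ ⧸ (JJ π r).map (algebraMap R Λ)),
      (∀ a, φK (Ideal.Quotient.mk _ a) = Ideal.Quotient.mk _ (φ a)) →
        Smoothing.Resolvable (R ⧸ JJ π r) φK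
          (𝔮.map (Ideal.Quotient.mk ((JJ π r).map (algebraMap R Λ))))) :
    ∀ d i, i + d = r → ∀ (φK : A ⧸ (JJ π i).map (algebraMap R A) →ₐ[R ⧸ JJ π i]
        Λ ⧸ (JJ π i).map (algebraMap R Λ)),
      (∀ a, φK (Ideal.Quotient.mk _ a) = Ideal.Quotient.mk _ (φ a)) →
        Smoothing.Resolvable (R ⧸ JJ π i) φK
          (𝔮.map (Ideal.Quotient.mk ((JJ π i).map (algebraMap R Λ)))) := by
  intro d
  induction d with
  | zero =>
    intro i hi
    have hir : i = r := by omega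
    subst hir
    exact hres
  | succ d ih =>
    intro i hi φK hφK
    obtain ⟨φK', hφK'⟩ := exists_φQ φ (JJ π (i + 1))
    have h1 := ih (i + 1) (by omega) φK' hφK'
    have hi' : i < r := by omega
    have hJq : (JJ π i).map (algebraMap R Λ) ≤ 𝔮 :=
      JJ_map_le (algebraMap R Λ) π i 𝔮 (fun j hj => hπ𝔮 j (lt_trans hj hi'))
    exact stepQ φ 𝔮 (JJ π i) (JJ π (i + 1)) (π i) (JJ_succ π i) hJq (hπ𝔮 i hi') (hR i hi')
      (hΛ i hi') (hstd i hi') φK hφK φK' hφK' h1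

theorem resolve_of_level_one (φ : A →ₐ[R] Λ) (𝔮 : Ideal Λ) [𝔮.IsPrime] (π : ℕ → R)
    (h0π𝔮 : algebraMap R Λ (π 0) ∈ 𝔮)
    (hR0 : ∀ y : R, π 0 ^ 2 * y ∈ JJ π 0 → π 0 * y ∈ JJ π 0)
    (hΛ0 : ∀ y : Λ, algebraMap R Λ (π 0) ^ 2 * y ∈ (JJ π 0).map (algebraMap R Λ) →
      algebraMap R Λ (π 0) * y ∈ (JJ π 0).map (algebraMap R Λ))
    (hstd0 : Smoothing.IsStrictlyStandard R A (algebraMap R A (π 0)))
    (hres1 : ∀ (φK : A ⧸ (JJ π 1).map (algebraMap R A) →ₐ[R ⧸ JJ π 1]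
        Λ ⧸ (JJ π 1).map (algebraMap R Λ)),
      (∀ a, φK (Ideal.Quotient.mk _ a) = Ideal.Quotient.mk _ (φ a)) →
        Smoothing.Resolvable (R ⧸ JJ π 1) φK
          (𝔮.map (Ideal.Quotient.mk ((JJ π 1).map (algebraMap R Λ))))) :
    Smoothing.Resolvable R φ 𝔮 := by
  obtain ⟨φK, hφK⟩ := exists_φQ φ (JJ π 1)
  have h1 := hres1 φK hφK
  have hR' : ∀ y : R, π 0 ^ 2 * y = 0 → π 0 * y = 0 := by
    intro y hy
    have h2 := hR0 y (by rw [hy]; exact Ideal.zero_mem _)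
    rw [JJ_zero] at h2
    exact Ideal.mem_bot.mp h2
  have hΛ' : ∀ y : Λ, π 0 ^ 2 • y = 0 → π 0 • y = 0 := by
    intro y hy
    rw [Algebra.smul_def, map_pow] at hy
    rw [Algebra.smul_def]
    have h2 := hΛ0 y (by rw [hy]; exact Ideal.zero_mem _)
    rw [JJ_zero, Ideal.map_bot] at h2
    exact Ideal.mem_bot.mp h2
  have hq : 𝔮.map (Ideal.Quotient.mkₐ R ((JJ π 1).map (algebraMap R Λ))) =
      𝔮.map (Ideal.Quotient.mk ((JJ π 1).map (algebraMap R Λ))) := rfl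
  rw [← hq] at h1
  refine flex_step φ 𝔮 (π 0) h0π𝔮 hR' hΛ' hstd0 (Rb := R ⧸ JJ π 1)
    (Ab := A ⧸ (JJ π 1).map (algebraMap R A)) (Λb := Λ ⧸ (JJ π 1).map (algebraMap R Λ))
    Ideal.Quotient.mk_surjective ?_ (Ideal.Quotient.mkₐ R _) (Ideal.Quotient.mkₐ_surjective R _) ?_
    (Ideal.Quotient.mkₐ R _) (Ideal.Quotient.mkₐ_surjective R _) ?_ φK ?_ h1
  · have e : RingHom.ker (algebraMap R (R ⧸ JJ π 1)) = JJ π 1 := Ideal.mk_ker
    rw [e, JJ_one]
  · intro a ha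
    have h2 : a ∈ (JJ π 1).map (algebraMap R A) := Ideal.Quotient.eq_zero_iff_mem.mp ha
    rw [JJ_one, Ideal.map_span, Set.image_singleton] at h2
    exact h2
  · intro l hl
    have h2 : l ∈ (JJ π 1).map (algebraMap R Λ) := Ideal.Quotient.eq_zero_iff_mem.mp hl
    rw [JJ_one, Ideal.map_span, Set.image_singleton] at h2
    exact h2
  · intro a
    exact hφK a

end Induction

section Main

theorem main6822 {R A Λ : Type u} [CommRing R] [IsNoetherianRing R]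
    [CommRing A] [Algebra R A] [Algebra.FinitePresentation R A] [CommRing Λ] [Algebra R Λ]
    (φ : A →ₐ[R] Λ) (𝔮 : Ideal Λ) [𝔮.IsPrime] {r : ℕ} (hr : 0 < r) (π : Fin r → R)
    (hπ𝔮 : ∀ i, algebraMap R Λ (π i) ∈ 𝔮)
    (hR : ∀ i : Fin r, ∀ x : R ⧸ Ideal.span
        (Set.range fun j : {j : Fin r // (j : ℕ) < (i : ℕ)} => π j ^ 8),
      Ideal.Quotient.mk _ (π i) ^ 2 * x = 0 → Ideal.Quotient.mk _ (π i) * x = 0)
    (hΛ : ∀ i : Fin r, ∀ x : Λ ⧸ Ideal.span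
        (Set.range fun j : {j : Fin r // (j : ℕ) < (i : ℕ)} => algebraMap R Λ (π j) ^ 8),
      Ideal.Quotient.mk _ (algebraMap R Λ (π i)) ^ 2 * x = 0 →
        Ideal.Quotient.mk _ (algebraMap R Λ (π i)) * x = 0)
    (hstd : ∀ i, Smoothing.IsStrictlyStandard R A (algebraMap R A (π i)))
    (K : Ideal R) (hK : K = Ideal.span (Set.range fun i => π i ^ 8))
    (φK : (A ⧸ K.map (algebraMap R A)) →ₐ[R ⧸ K] (Λ ⧸ K.map (algebraMap R Λ)))
    (hφK : ∀ a : A, φK (Ideal.Quotient.mk _ a) = Ideal.Quotient.mk _ (φ a))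
    (hres : Smoothing.Resolvable (R ⧸ K) φK
      (𝔮.map (Ideal.Quotient.mk (K.map (algebraMap R Λ))))) :
    Smoothing.Resolvable R φ 𝔮 := by
  classical
  obtain ⟨π', hπ'⟩ : ∃ π' : ℕ → R, ∀ i : Fin r, π' i.val = π i :=
    ⟨fun j => if h : j < r then π ⟨j, h⟩ else 0, fun i => by
      show (if h : i.val < r then π ⟨i.val, h⟩ else 0) = π i
      rw [dif_pos i.isLt]⟩
  have hJeq : ∀ i : Fin r, JJ π' i.val = Ideal.span
      (Set.range fun j : {j : Fin r // (j : ℕ) < (i : ℕ)} => π j ^ 8) := by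
    intro i
    unfold JJ
    apply le_antisymm
    · rw [Ideal.span_le]
      rintro _ ⟨j, hj, rfl⟩
      have hji : j < i.val := hj
      have hjr : j < r := lt_trans hji i.isLt
      have e : π' j = π ⟨j, hjr⟩ := hπ' ⟨j, hjr⟩
      show π' j ^ 8 ∈ _
      rw [e]
      exact Ideal.subset_span ⟨⟨⟨j, hjr⟩, hji⟩, rfl⟩
    · rw [Ideal.span_le]
      rintro _ ⟨⟨j, hj⟩, rfl⟩
      show π j ^ 8 ∈ _
      rw [← hπ' j]
      exact Ideal.subset_span ⟨j.val, hj, rfl⟩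
  have hKeq : JJ π' r = Ideal.span (Set.range fun i : Fin r => π i ^ 8) := by
    unfold JJ
    apply le_antisymm
    · rw [Ideal.span_le]
      rintro _ ⟨j, hj, rfl⟩
      have hjr : j < r := hj
      have e : π' j = π ⟨j, hjr⟩ := hπ' ⟨j, hjr⟩
      show π' j ^ 8 ∈ _
      rw [e]
      exact Ideal.subset_span ⟨⟨j, hjr⟩, rfl⟩
    · rw [Ideal.span_le]
      rintro _ ⟨j, rfl⟩
      show π j ^ 8 ∈ _
      rw [← hπ' j]
      exact Ideal.subset_span ⟨j.val, j.isLt, rfl⟩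
  have hJΛeq : ∀ i : Fin r, (JJ π' i.val).map (algebraMap R Λ) = Ideal.span
      (Set.range fun j : {j : Fin r // (j : ℕ) < (i : ℕ)} => algebraMap R Λ (π j) ^ 8) := by
    intro i
    rw [hJeq i, Ideal.map_span, ← Set.range_comp]
    have e : (⇑(algebraMap R Λ) ∘ fun j : {j : Fin r // (j : ℕ) < (i : ℕ)} => π j ^ 8) =
        fun j : {j : Fin r // (j : ℕ) < (i : ℕ)} => algebraMap R Λ (π j) ^ 8 :=
      funext fun j => map_pow _ _ _
    rw [e]
  have hπ𝔮' : ∀ i < r, algebraMap R Λ (π' i) ∈ 𝔮 := by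
    intro i hi
    have h0 := hπ𝔮 ⟨i, hi⟩
    rw [← hπ' ⟨i, hi⟩] at h0
    exact h0
  have hstd' : ∀ i < r, Smoothing.IsStrictlyStandard R A (algebraMap R A (π' i)) := by
    intro i hi
    have h0 := hstd ⟨i, hi⟩
    rw [← hπ' ⟨i, hi⟩] at h0
    exact h0
  have hR' : ∀ i < r, ∀ y : R, π' i ^ 2 * y ∈ JJ π' i → π' i * y ∈ JJ π' i := by
    intro i hi y hy
    have e := hJeq ⟨i, hi⟩
    have eπ : π' i = π ⟨i, hi⟩ := hπ' ⟨i, hi⟩
    change JJ π' i = _ at e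
    rw [e, eπ] at hy ⊢
    have h1 := hR ⟨i, hi⟩ (Ideal.Quotient.mk _ y) (by
      rw [← map_pow, ← map_mul]
      exact Ideal.Quotient.eq_zero_iff_mem.mpr hy)
    rw [← map_mul] at h1
    exact Ideal.Quotient.eq_zero_iff_mem.mp h1
  have hΛ' : ∀ i < r, ∀ y : Λ, algebraMap R Λ (π' i) ^ 2 * y ∈
      (JJ π' i).map (algebraMap R Λ) →
        algebraMap R Λ (π' i) * y ∈ (JJ π' i).map (algebraMap R Λ) := by
    intro i hi y hy
    have e := hJΛeq ⟨i, hi⟩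
    have eπ : π' i = π ⟨i, hi⟩ := hπ' ⟨i, hi⟩
    change (JJ π' i).map (algebraMap R Λ) = _ at e
    rw [e, eπ] at hy ⊢
    have h1 := hΛ ⟨i, hi⟩ (Ideal.Quotient.mk _ y) (by
      rw [← map_pow, ← map_mul]
      exact Ideal.Quotient.eq_zero_iff_mem.mpr hy)
    rw [← map_mul] at h1
    exact Ideal.Quotient.eq_zero_iff_mem.mp h1
  obtain rfl : K = JJ π' r := hK.trans hKeq.symm
  have hlevel_r : ∀ (φK' : A ⧸ (JJ π' r).map (algebraMap R A) →ₐ[R ⧸ JJ π' r]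
      Λ ⧸ (JJ π' r).map (algebraMap R Λ)),
      (∀ a, φK' (Ideal.Quotient.mk _ a) = Ideal.Quotient.mk _ (φ a)) →
        Smoothing.Resolvable (R ⧸ JJ π' r) φK'
          (𝔮.map (Ideal.Quotient.mk ((JJ π' r).map (algebraMap R Λ)))) := by
    intro φK' hφK'
    have e : φK' = φK := by
      apply AlgHom.ext
      intro z
      obtain ⟨a, rfl⟩ := Ideal.Quotient.mk_surjective z
      rw [hφK', hφK]
    rw [e]
    exact hres
  have hlevel1 := down φ 𝔮 π' r hπ𝔮' hR' hΛ' hstd' hlevel_r (r - 1) 1 (by omega)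
  exact resolve_of_level_one φ 𝔮 π' (hπ𝔮' 0 hr) (hR' 0 hr) (hΛ' 0 hr) (hstd' 0 hr) hlevel1

end Main

end Groth.Agent.Lib.ResolveIndH4
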