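import Mathlib
import Groth.Prelude.Def_Smoothing
import Groth.Agent.Lib.FSGeomRed_helper3

/-!
Helper library (helper4): a separable (geometrically reduced) field extension is ind-smooth;
factorizations through smooth algebras resolve local problems; monotonicity of the singular ideal
in the base.  APPEND-ONLY once landed.
-/

set_option autoImplicit false
set_option linter.unusedVariables false
set_option linter.unusedTactic false
set_option linter.unreachableTactic false
set_option linter.unusedSectionVars false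
set_option linter.style.haveILetI false
set_option maxHeartbeats 800000

universe u

namespace Groth.Agent.Lib.SepIndSmH4

section Resolve

/-- A factorization through a smooth algebra resolves every local problem. -/
theorem resolvable_of_smooth_factor {R A Λ D : Type u} [CommRing R] [CommRing A] [Algebra R A]
    [CommRing Λ] [Algebra R Λ] [CommRing D] [Algebra R D] [Algebra.Smooth R D]
    (φ : A →ₐ[R] Λ) (g : A →ₐ[R] D) (h : D →ₐ[R] Λ) (hgh : h.comp g = φ)
    (𝔮 : Ideal Λ) [h𝔮 : 𝔮.IsPrime] : Smoothing.Resolvable R φ 𝔮 := by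
  have hsing : Smoothing.singularIdeal R D = ⊤ := by
    unfold Smoothing.singularIdeal
    rw [Algebra.smoothLocus_eq_univ, Set.compl_univ, PrimeSpectrum.vanishingIdeal_empty]
  have hrad : Smoothing.singRad R h = ⊤ := by
    unfold Smoothing.singRad
    rw [hsing, Ideal.map_top, Ideal.radical_top]
  refine ⟨D, inferInstance, inferInstance, inferInstance, g, h, hgh, ?_, ?_⟩
  · rw [hrad]
    exact le_top
  · rw [hrad, top_le_iff]
    exact h𝔮.ne_top

/-- Ind-smooth algebras resolve every local problem. -/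
theorem resolvable_of_indSmooth {R A Λ : Type u} [CommRing R] [CommRing A] [Algebra R A]
    [Algebra.FinitePresentation R A] [CommRing Λ] [Algebra R Λ] (hΛ : Smoothing.IndSmooth R Λ)
    (φ : A →ₐ[R] Λ) (𝔮 : Ideal Λ) [𝔮.IsPrime] : Smoothing.Resolvable R φ 𝔮 := by
  obtain ⟨D, _, _, hsm, g, h, hgh⟩ := hΛ A inferInstance φ
  haveI := hsm
  exact resolvable_of_smooth_factor φ g h hgh 𝔮

/-- The singular ideal grows when the base shrinks along a formally smooth map. -/
theorem singularIdeal_le_of_tower {k R D : Type u} [CommRing k] [CommRing R] [CommRing D]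
    [Algebra k R] [Algebra R D] [Algebra k D] [IsScalarTower k R D] [Algebra.FormallySmooth k R] :
    Smoothing.singularIdeal R D ≤ Smoothing.singularIdeal k D := by
  unfold Smoothing.singularIdeal
  apply PrimeSpectrum.vanishingIdeal_anti_mono
  rw [Set.compl_subset_compl]
  intro p hp
  have hp' : Algebra.FormallySmooth R (Localization.AtPrime p.asIdeal) := hp
  show Algebra.FormallySmooth k (Localization.AtPrime p.asIdeal)
  haveI := hp'
  exact Algebra.FormallySmooth.comp k R (Localization.AtPrime p.asIdeal)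

end Resolve

section Field

/-- A separable (geometrically reduced) field extension is ind-smooth. -/
theorem indSmooth_of_isGeometricallyReduced {k K : Type u} [Field k] [Field K] [Algebra k K]
    [Algebra.IsGeometricallyReduced k K] : Smoothing.IndSmooth k K := by
  intro A _ _ hfp f
  classical
  haveI := hfp
  haveI hAN : IsNoetherianRing A := Algebra.FiniteType.isNoetherianRing k A
  obtain ⟨𝔭, h𝔭⟩ : ∃ 𝔭 : Ideal A, 𝔭 = RingHom.ker f.toRingHom := ⟨_, rfl⟩
  haveI h𝔭prime : 𝔭.IsPrime := by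
    rw [h𝔭]
    exact RingHom.ker_isPrime f.toRingHom
  haveI : Algebra.FinitePresentation k (A ⧸ 𝔭) :=
    Algebra.FinitePresentation.quotient (IsNoetherian.noetherian 𝔭)
  have hker : ∀ a : A, a ∈ 𝔭 → f a = 0 := by
    intro a ha
    rw [h𝔭] at ha
    exact RingHom.mem_ker.mp ha
  obtain ⟨f₀, hf₀⟩ : ∃ f₀ : (A ⧸ 𝔭) →ₐ[k] K, ∀ a, f₀ (Ideal.Quotient.mk 𝔭 a) = f a :=
    ⟨Ideal.Quotient.liftₐ 𝔭 f hker,
      fun a => AlgHom.congr_fun (Ideal.Quotient.liftₐ_comp 𝔭 f hker) a⟩
  have hf₀inj : Function.Injective f₀ := by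
    rw [injective_iff_map_eq_zero]
    intro x hx
    obtain ⟨a, rfl⟩ := Ideal.Quotient.mk_surjective x
    rw [hf₀] at hx
    have : a ∈ 𝔭 := by
      rw [h𝔭]
      exact RingHom.mem_ker.mpr hx
    exact Ideal.Quotient.eq_zero_iff_mem.mpr this
  obtain ⟨f', hf'⟩ : ∃ f' : FractionRing (A ⧸ 𝔭) →ₐ[k] K, True :=
    ⟨IsFractionRing.liftAlgHom (K := FractionRing (A ⧸ 𝔭)) hf₀inj, trivial⟩
  haveI : Algebra.IsGeometricallyReduced k (FractionRing (A ⧸ 𝔭)) :=
    Algebra.IsGeometricallyReduced.of_injective f' f'.toRingHom.injective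
  haveI : Algebra.FormallySmooth k (FractionRing (A ⧸ 𝔭)) :=
    (Groth.Agent.Lib.FSGRH3.formallySmooth_iff_isGeometricallyReduced k
      (FractionRing (A ⧸ 𝔭))).mpr inferInstance
  haveI : (⊥ : Ideal (A ⧸ 𝔭)).IsPrime := Ideal.bot_prime
  haveI hloc : IsFractionRing (A ⧸ 𝔭) (Localization.AtPrime (⊥ : Ideal (A ⧸ 𝔭))) := by
    simpa [Ideal.primeCompl_bot] using
      Localization.isLocalization (M := (⊥ : Ideal (A ⧸ 𝔭)).primeCompl)
  haveI : Algebra.IsSmoothAt k (⊥ : Ideal (A ⧸ 𝔭)) :=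
    Algebra.FormallySmooth.of_equiv
      ((IsLocalization.algEquiv (nonZeroDivisors (A ⧸ 𝔭)) (FractionRing (A ⧸ 𝔭))
        (Localization.AtPrime (⊥ : Ideal (A ⧸ 𝔭)))).restrictScalars k)
  obtain ⟨g₀, hg₀, hsm⟩ := Algebra.IsSmoothAt.exists_notMem_smooth k (⊥ : Ideal (A ⧸ 𝔭))
  have hg0 : g₀ ≠ 0 := fun h => hg₀ (by rw [h]; exact Ideal.zero_mem _)
  have hfg : f₀ g₀ ≠ 0 := fun h => hg0 (hf₀inj (by rw [h, map_zero]))
  have hunit : ∀ y : Submonoid.powers g₀, IsUnit (f₀ (y : A ⧸ 𝔭)) := by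
    rintro ⟨y, n, rfl⟩
    apply IsUnit.mk0
    rw [map_pow]
    exact pow_ne_zero n hfg
  obtain ⟨β, hβ⟩ : ∃ β : Localization.Away g₀ →ₐ[k] K,
      ∀ x : A ⧸ 𝔭, β (algebraMap (A ⧸ 𝔭) (Localization.Away g₀) x) = f₀ x :=
    ⟨IsLocalization.liftAlgHom (M := Submonoid.powers g₀) (f := f₀) hunit,
      fun x => IsLocalization.lift_eq hunit x⟩
  refine ⟨Localization.Away g₀, inferInstance, inferInstance, hsm,
    (IsScalarTower.toAlgHom k (A ⧸ 𝔭) (Localization.Away g₀)).comp (Ideal.Quotient.mkₐ k 𝔭),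
    β, ?_⟩
  apply AlgHom.ext
  intro a
  show β (algebraMap (A ⧸ 𝔭) (Localization.Away g₀) (Ideal.Quotient.mk 𝔭 a)) = f a
  rw [hβ, hf₀]

end Field

end Groth.Agent.Lib.SepIndSmH4
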