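import Mathlib
import Groth.Prelude.Def_Smoothing
import Groth.Agent.Lib.Deloc2_helper4
import Groth.Agent.Lib.SepIndSm_helper4
import Groth.Agent.Lib.IndSmLift8_helper8

/-!
Helper library (helper4): resolving a local problem `R̄ → C̄ → Λ̄ ⊇ 𝔮̄` when `R̄` is a local Artinian
ring with residue field `k`, the localization `Λ̄_𝔮̄` is flat over `R̄` with fibre a field `K` which
is ind-smooth over `k`.  APPEND-ONLY once landed.
-/

set_option autoImplicit false
set_option linter.unusedVariables false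
set_option linter.unusedTactic false
set_option linter.unreachableTactic false
set_option linter.unusedSectionVars false
set_option linter.style.haveILetI false
set_option maxHeartbeats 800000

universe u

open scoped TensorProduct

namespace Groth.Agent.Lib.ResolveLocalH4

section Q

/-- The quotient of a localization at a prime is the localization of the quotient at the image
prime. -/
theorem isLocalization_quot {Λ T : Type*} [CommRing Λ] [CommRing T] [Algebra Λ T] (𝔮 : Ideal Λ)
    [𝔮.IsPrime] [IsLocalization.AtPrime T 𝔮] (J : Ideal Λ) (hJ : J ≤ 𝔮)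
    [h𝔮b : (𝔮.map (Ideal.Quotient.mk J)).IsPrime] :
    IsLocalization.AtPrime (T ⧸ J.map (algebraMap Λ T)) (𝔮.map (Ideal.Quotient.mk J)) := by
  have hsub : Algebra.algebraMapSubmonoid (Λ ⧸ J) 𝔮.primeCompl =
      (𝔮.map (Ideal.Quotient.mk J)).primeCompl := by
    ext x
    obtain ⟨y, rfl⟩ := Ideal.Quotient.mk_surjective x
    constructor
    · rintro ⟨z, hz, hzy⟩
      show Ideal.Quotient.mk J y ∉ 𝔮.map (Ideal.Quotient.mk J)
      rw [← hzy]
      show Ideal.Quotient.mk J z ∉ _
      rw [Ideal.mem_quotient_iff_mem hJ]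
      exact hz
    · intro hy
      have hy' : Ideal.Quotient.mk J y ∉ 𝔮.map (Ideal.Quotient.mk J) := hy
      rw [Ideal.mem_quotient_iff_mem hJ] at hy'
      exact ⟨y, hy', rfl⟩
  have h := (inferInstance : IsLocalization (Algebra.algebraMapSubmonoid (Λ ⧸ J) 𝔮.primeCompl)
    (T ⧸ J.map (algebraMap Λ T)))
  rw [hsub] at h
  exact h

end Q

section F

theorem resolvable_local {Rb k Cb Lb Lq K : Type u} [CommRing Rb] [IsNoetherianRing Rb] [Field k]
    [CommRing Cb] [Algebra Rb Cb] [Algebra.FinitePresentation Rb Cb] [CommRing Lb] [Algebra Rb Lb]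
    (ψ : Cb →ₐ[Rb] Lb) (qb : Ideal Lb) [qb.IsPrime]
    [CommRing Lq] [Algebra Lb Lq] [IsLocalization.AtPrime Lq qb] [Algebra Rb Lq]
    [IsScalarTower Rb Lb Lq] [Module.Flat Rb Lq] [Field K] [Algebra k K]
    (p : Rb →+* k) (hp : Function.Surjective p) (hnil : IsNilpotent (RingHom.ker p))
    (hpq0 : ∀ r, p r = 0 → algebraMap Rb Lb r ∈ qb)
    (q : Lq →+* K) (hq : Function.Surjective q)
    (hpq : ∀ r, q (algebraMap Rb Lq r) = algebraMap k K (p r))
    (hker : RingHom.ker q = (RingHom.ker p).map (algebraMap Rb Lq))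
    (hind : Smoothing.IndSmooth k K) : Smoothing.Resolvable Rb ψ qb := by
  classical
  haveI hloc : IsLocalRing Lq := IsLocalization.AtPrime.isLocalRing Lq qb
  obtain ⟨N, hN⟩ := hnil
  have hN0 : RingHom.ker p ^ N = ⊥ := hN
  -- units
  have hunit : ∀ r : Rb, algebraMap Rb Lb r ∉ qb → IsUnit r := by
    intro r hr
    have hpr : p r ≠ 0 := fun h => hr (hpq0 r h)
    obtain ⟨s, hs⟩ := hp ((p r)⁻¹)
    have h1 : p (r * s - 1) = 0 := by
      rw [map_sub, map_mul, hs, map_one, mul_inv_cancel₀ hpr, sub_self]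
    have h2 : IsNilpotent (r * s - 1) := by
      refine ⟨N, ?_⟩
      have h3 : (r * s - 1) ^ N ∈ RingHom.ker p ^ N :=
        Ideal.pow_mem_pow (RingHom.mem_ker.mpr h1) N
      rw [hN0] at h3
      exact Ideal.mem_bot.mp h3
    have h3 : IsUnit (r * s) := by
      have h4 := h2.isUnit_add_one
      rwa [sub_add_cancel] at h4
    exact isUnit_of_mul_isUnit_left h3
  -- dimension zero
  have hmaxq : RingHom.ker q = IsLocalRing.maximalIdeal Lq := by
    haveI : (RingHom.ker q).IsMaximal := RingHom.ker_isMaximal_of_surjective q hq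
    exact IsLocalRing.eq_maximalIdeal inferInstance
  have hnilq : ∀ x ∈ IsLocalRing.maximalIdeal Lq, IsNilpotent x := by
    intro x hx
    rw [← hmaxq, hker] at hx
    refine ⟨N, ?_⟩
    have h1 : x ^ N ∈ ((RingHom.ker p).map (algebraMap Rb Lq)) ^ N := Ideal.pow_mem_pow hx N
    rw [← Ideal.map_pow, hN0, Ideal.map_bot] at h1
    exact Ideal.mem_bot.mp h1
  haveI hK0 : Ring.KrullDimLE 0 Lq := by
    rw [Ring.krullDimLE_zero_iff]
    intro P hP
    have h1 : IsLocalRing.maximalIdeal Lq ≤ P := by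
      intro x hx
      obtain ⟨M, hM⟩ := hnilq x hx
      exact hP.mem_of_pow_mem M (by rw [hM]; exact P.zero_mem)
    have h2 : P = IsLocalRing.maximalIdeal Lq :=
      le_antisymm (IsLocalRing.le_maximalIdeal hP.ne_top) h1
    rw [h2]
    exact IsLocalRing.maximalIdeal.isMaximal Lq
  have hdim : ringKrullDim Lq = 0 := ringKrullDimZero_iff_ringKrullDim_eq_zero.mp hK0
  -- ind-smoothness
  have hN' : RingHom.ker p ^ (N + 1) = ⊥ := by
    rw [pow_succ, hN0, Ideal.bot_mul]
  have hindq : Smoothing.IndSmooth Rb Lq :=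
    IndSmLiftH8.indSmooth_of_pow_eq_bot N p q hp hq hpq hker hN' hind
  by_cases hle : Smoothing.singRad Rb ψ ≤ qb
  · have hmin : qb ∈ (Smoothing.singRad Rb ψ).minimalPrimes := by
      show Minimal (fun I : Ideal Lb => I.IsPrime ∧ Smoothing.singRad Rb ψ ≤ I) qb
      refine ⟨⟨inferInstance, hle⟩, ?_⟩
      intro P hP hPq a ha
      have hPprime : P.IsPrime := hP.1
      have h1 : algebraMap Lb Lq a ∈ IsLocalRing.maximalIdeal Lq :=
        (IsLocalization.AtPrime.to_map_mem_maximal_iff Lq qb _).mpr ha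
      obtain ⟨M, hM⟩ := hnilq _ h1
      rw [← map_pow] at hM
      obtain ⟨s, hs⟩ := (IsLocalization.map_eq_zero_iff qb.primeCompl Lq (a ^ M)).mp hM
      have h2 : (s : Lb) * a ^ M ∈ P := by
        rw [hs]
        exact P.zero_mem
      rcases hPprime.mem_or_mem h2 with h3 | h3
      · exact absurd (hPq h3) s.2
      · exact hPprime.mem_of_pow_mem M h3
    haveI : (qb.comap (algebraMap Rb Lb)).IsPrime := Ideal.comap_isPrime _ _
    haveI : IsLocalization.AtPrime Rb (qb.comap (algebraMap Rb Lb)) :=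
      IsLocalization.self (fun r hr => hunit r hr)
    haveI : (qb.map (algebraMap Lb Lq)).IsPrime := by
      rw [IsLocalization.AtPrime.map_eq_maximalIdeal qb Lq]
      exact (IsLocalRing.maximalIdeal.isMaximal Lq).isPrime
    haveI : Algebra.FinitePresentation Rb (Rb ⊗[Rb] Cb) :=
      Algebra.FinitePresentation.equiv (Algebra.TensorProduct.lid Rb Cb).symm
    exact Groth.Agent.Lib.Deloc2H4.main2034 (Rₚ := Rb) (Λq := Lq) ψ qb hmin hdim
      (Groth.Agent.Lib.SepIndSmH4.resolvable_of_indSmooth hindq _ _)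
  · exact ⟨Cb, inferInstance, inferInstance, inferInstance, AlgHom.id Rb Cb, ψ,
      AlgHom.comp_id ψ, le_rfl, hle⟩

end F

end Groth.Agent.Lib.ResolveLocalH4
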