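import Mathlib
import Groth.Prelude.Def_Smoothing
import Groth.Agent.Lib.SepIndSm_helper4
import Groth.Agent.Lib.RegFlatPow_helper4
import Groth.Agent.Lib.ResolveLocal_helper4
import Groth.Agent.Lib.NeronAlg_helper4
import Groth.Agent.Lib.ElkikFree_helper4
import Groth.Agent.Lib.ResolveInd_helper4
import Groth.Agent.Lib.RegPow3_helper8

/-!
Helper library (helper4): "Smoothing ring maps", the separable residue field case: `k` a field,
`A` finitely presented over `k`, `A → Λ` with `Λ` Noetherian, `𝔮` minimal over the singular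
radical with `Λ_𝔮` regular and `κ(𝔮)/k` separable: the local problem can be resolved.
APPEND-ONLY once landed.
-/

set_option autoImplicit false
set_option linter.unusedVariables false
set_option linter.unusedTactic false
set_option linter.unreachableTactic false
set_option linter.unusedSectionVars false
set_option linter.style.haveILetI false
set_option maxHeartbeats 1600000

universe u

open TensorProduct

namespace Groth.Agent.Lib.ResolveSepH4

open MvPolynomial

section Small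

theorem smooth_away_of_mem {R A : Type u} [CommRing R] [CommRing A] [Algebra R A]
    [Algebra.FinitePresentation R A] (x : A) (hx : x ∈ Smoothing.singularIdeal R A) :
    Algebra.Smooth R (Localization.Away x) := by
  refine Algebra.basicOpen_subset_smoothLocus_iff_smooth.mp (fun Q hQ => ?_)
  have hxQ : x ∉ Q.asIdeal := (PrimeSpectrum.mem_basicOpen x Q).mp hQ
  by_contra hns
  exact hxQ ((Groth.Agent.Lib.LiftDesingH4.mem_singularIdeal_iff x).mp hx Q.asIdeal hns)

theorem mem_of_smooth_away {R A : Type u} [CommRing R] [CommRing A] [Algebra R A]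
    [Algebra.FinitePresentation R A] (x : A) (h : Algebra.Smooth R (Localization.Away x)) :
    x ∈ Smoothing.singularIdeal R A := by
  rw [Groth.Agent.Lib.LiftDesingH4.mem_singularIdeal_iff]
  intro Q hQ hns
  by_contra hxQ
  apply hns
  have hsub := Algebra.basicOpen_subset_smoothLocus_iff_smooth.mpr h
  exact hsub (show (⟨Q, hQ⟩ : PrimeSpectrum A) ∈
    (PrimeSpectrum.basicOpen x : Set (PrimeSpectrum A)) from hxQ)

theorem mul_mem_of_pow_mul_mem {X : Type*} [CommRing X] (M : Ideal X) (p : X)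
    (h : ∀ y, p ^ 2 * y ∈ M → p * y ∈ M) :
    ∀ (m : ℕ) (y : X), p ^ (m + 1) * y ∈ M → p * y ∈ M := by
  intro m
  induction m with
  | zero =>
    intro y hy
    rwa [zero_add, pow_one] at hy
  | succ m ih =>
    intro y hy
    apply ih
    have e : p ^ (m + 1 + 1) * y = p ^ 2 * (p ^ m * y) := by ring
    rw [e] at hy
    have h2 := h _ hy
    have e2 : p * (p ^ m * y) = p ^ (m + 1) * y := by ring
    rw [e2] at h2
    exact h2

theorem pow_mul_mem_of_sq {X : Type*} [CommRing X] (M : Ideal X) (p : X)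
    (h : ∀ y, p ^ 2 * y ∈ M → p * y ∈ M) (c : ℕ) (hc : 1 ≤ c) (y : X)
    (hy : (p ^ c) ^ 2 * y ∈ M) : p ^ c * y ∈ M := by
  obtain ⟨c', rfl⟩ : ∃ c', c = c' + 1 := ⟨c - 1, by omega⟩
  have e : (p ^ (c' + 1)) ^ 2 * y = p ^ ((2 * c' + 1) + 1) * y := by ring
  rw [e] at hy
  have h1 := mul_mem_of_pow_mul_mem M p h _ y hy
  have e2 : p ^ (c' + 1) * y = p ^ c' * (p * y) := by ring
  rw [e2]
  exact M.mul_mem_left _ h1

theorem flat_congr_ideal {R T : Type u} [CommRing R] [CommRing T] [Algebra R T] (K K' : Ideal R)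
    (h : K = K') (hfl : Module.Flat (R ⧸ K) ((R ⧸ K) ⊗[R] T)) :
    Module.Flat (R ⧸ K') ((R ⧸ K') ⊗[R] T) := by
  subst h
  exact hfl

/-- multiplication by a variable is injective modulo a monomial ideal not involving it -/
theorem poly_X_mul_mem {k : Type*} [CommRing k] {d : ℕ} (N : ℕ) (i : Fin d)
    (f : MvPolynomial (Fin d) k)
    (h : X i * f ∈ Ideal.span (Set.range fun j : {j : Fin d // (j : ℕ) < (i : ℕ)} =>
      (X (j : Fin d) : MvPolynomial (Fin d) k) ^ N)) :
    f ∈ Ideal.span (Set.range fun j : {j : Fin d // (j : ℕ) < (i : ℕ)} =>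
      (X (j : Fin d) : MvPolynomial (Fin d) k) ^ N) := by
  classical
  obtain ⟨S, hS⟩ : ∃ S : Set (Fin d →₀ ℕ),
      S = {s | ∃ j : Fin d, (j : ℕ) < (i : ℕ) ∧ s = Finsupp.single j N} := ⟨_, rfl⟩
  have hM : Ideal.span (Set.range fun j : {j : Fin d // (j : ℕ) < (i : ℕ)} =>
      (X (j : Fin d) : MvPolynomial (Fin d) k) ^ N) =
      Ideal.span ((fun s => monomial s (1 : k)) '' S) := by
    congr 1
    ext p
    constructor
    · rintro ⟨⟨j, hj⟩, rfl⟩
      refine ⟨Finsupp.single j N, ?_, ?_⟩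
      · rw [hS]
        exact ⟨j, hj, rfl⟩
      · show monomial (Finsupp.single j N) (1 : k) = X j ^ N
        rw [X_pow_eq_monomial]
    · rintro ⟨s, hs, rfl⟩
      rw [hS] at hs
      obtain ⟨j, hj, rfl⟩ := hs
      refine ⟨⟨j, hj⟩, ?_⟩
      show X j ^ N = monomial (Finsupp.single j N) (1 : k)
      rw [X_pow_eq_monomial]
  rw [hM] at h ⊢
  rw [mem_ideal_span_monomial_image] at h ⊢
  intro xi hxi
  have hmem : Finsupp.single i 1 + xi ∈ (X i * f).support := by
    rw [support_X_mul]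
    exact Finset.mem_map_of_mem _ hxi
  obtain ⟨si, hsi, hle⟩ := h _ hmem
  rw [hS] at hsi
  obtain ⟨j, hj, rfl⟩ := hsi
  refine ⟨Finsupp.single j N, ?_, ?_⟩
  · rw [hS]
    exact ⟨j, hj, rfl⟩
  · rw [Finsupp.le_def] at hle ⊢
    intro b
    have hb := hle b
    rw [Finsupp.add_apply] at hb
    by_cases hbj : b = j
    · have hbi : b ≠ i := by
        intro hbi
        rw [hbj] at hbi
        rw [hbi] at hj
        exact lt_irrefl _ hj
      rw [Finsupp.single_eq_of_ne hbi, zero_add] at hb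
      exact hb
    · rw [Finsupp.single_eq_of_ne hbj]
      exact Nat.zero_le _

theorem poly_X_pow_mul_mem {k : Type*} [CommRing k] {d : ℕ} (N : ℕ) (i : Fin d) :
    ∀ (m : ℕ) (f : MvPolynomial (Fin d) k),
      X i ^ m * f ∈ Ideal.span (Set.range fun j : {j : Fin d // (j : ℕ) < (i : ℕ)} =>
        (X (j : Fin d) : MvPolynomial (Fin d) k) ^ N) →
      f ∈ Ideal.span (Set.range fun j : {j : Fin d // (j : ℕ) < (i : ℕ)} =>
        (X (j : Fin d) : MvPolynomial (Fin d) k) ^ N) := by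
  intro m
  induction m with
  | zero =>
    intro f hf
    rwa [pow_zero, one_mul] at hf
  | succ m ih =>
    intro f hf
    apply ih
    apply poly_X_mul_mem N i
    have e : X i * (X i ^ m * f) = X i ^ (m + 1) * f := by ring
    rw [e]
    exact hf

end Small

section Pi0

open IsLocalRing

theorem exists_pi0 {Λ : Type u} [CommRing Λ] [IsNoetherianRing Λ] (I 𝔮 : Ideal Λ) [𝔮.IsPrime]
    [IsRegularLocalRing (Localization.AtPrime 𝔮)]
    (hmin : 𝔮 ∈ I.minimalPrimes) (d : ℕ)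
    (hd : (maximalIdeal (Localization.AtPrime 𝔮)).spanFinrank = d) :
    ∃ (n : ℕ) (π₀ : Fin d → Λ), 0 < n ∧
      Ideal.span (Set.range fun i => algebraMap Λ (Localization.AtPrime 𝔮) (π₀ i)) =
        maximalIdeal (Localization.AtPrime 𝔮) ∧ ∀ i, π₀ i ^ n ∈ I := by
  classical
  have hmax : 𝔮.map (algebraMap Λ (Localization.AtPrime 𝔮)) =
      maximalIdeal (Localization.AtPrime 𝔮) :=
    IsLocalization.AtPrime.map_eq_maximalIdeal 𝔮 (Localization.AtPrime 𝔮)
  have hrad : maximalIdeal (Localization.AtPrime 𝔮) ≤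
      (I.map (algebraMap Λ (Localization.AtPrime 𝔮))).radical := by
    rw [Ideal.radical_eq_sInf]
    apply le_sInf
    rintro P' ⟨hIP', hP'⟩
    haveI := hP'
    have hIP : I ≤ P'.comap (algebraMap Λ (Localization.AtPrime 𝔮)) :=
      Ideal.map_le_iff_le_comap.mp hIP'
    have hPq : P'.comap (algebraMap Λ (Localization.AtPrime 𝔮)) ≤ 𝔮 := by
      intro x hx
      have h1 : algebraMap Λ (Localization.AtPrime 𝔮) x ∈ maximalIdeal (Localization.AtPrime 𝔮) :=
        IsLocalRing.le_maximalIdeal hP'.ne_top hx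
      exact (IsLocalization.AtPrime.to_map_mem_maximal_iff (Localization.AtPrime 𝔮) 𝔮 x).mp h1
    have hPP : (P'.comap (algebraMap Λ (Localization.AtPrime 𝔮))).IsPrime ∧
        I ≤ P'.comap (algebraMap Λ (Localization.AtPrime 𝔮)) := ⟨Ideal.comap_isPrime _ _, hIP⟩
    have hqP : 𝔮 ≤ P'.comap (algebraMap Λ (Localization.AtPrime 𝔮)) := hmin.2 hPP hPq
    rw [← hmax]
    exact (Ideal.map_mono hqP).trans Ideal.map_comap_le
  obtain ⟨n₀, hn₀⟩ := Ideal.exists_pow_le_of_le_radical_of_fg hrad (IsNoetherian.noetherian _)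
  have hpow : (𝔮 ^ (n₀ + 1)).map (algebraMap Λ (Localization.AtPrime 𝔮)) ≤
      I.map (algebraMap Λ (Localization.AtPrime 𝔮)) := by
    rw [Ideal.map_pow, hmax]
    exact (Ideal.pow_le_pow_right (Nat.le_succ n₀)).trans hn₀
  obtain ⟨s₀, hcard, hspan⟩ := Submodule.FG.exists_span_finset_card_eq_spanFinrank
    (IsNoetherian.noetherian (maximalIdeal (Localization.AtPrime 𝔮)))
  rw [hd] at hcard
  have hcard' : Fintype.card s₀ = d := by
    rw [Fintype.card_coe]
    exact hcard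
  let eqv : s₀ ≃ Fin d := Fintype.equivFinOfCardEq hcard'
  let y : Fin d → Localization.AtPrime 𝔮 := fun i => ((eqv.symm i : s₀) : Localization.AtPrime 𝔮)
  have hy : Ideal.span (Set.range y) = maximalIdeal (Localization.AtPrime 𝔮) := by
    rw [← hspan]
    show Submodule.span _ _ = Submodule.span _ _
    congr 1
    ext r
    constructor
    · rintro ⟨i, rfl⟩
      exact (eqv.symm i).2
    · intro hr
      refine ⟨eqv ⟨r, hr⟩, ?_⟩
      show ((eqv.symm (eqv ⟨r, hr⟩) : s₀) : Localization.AtPrime 𝔮) = r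
      rw [Equiv.symm_apply_apply]
  choose p hp using fun i => IsLocalization.surj 𝔮.primeCompl (y i)
  have ha : Ideal.span (Set.range fun i => algebraMap Λ (Localization.AtPrime 𝔮) (p i).1) =
      maximalIdeal (Localization.AtPrime 𝔮) := by
    rw [← hy]
    apply RegPowH8.span_range_unit_mul
    intro i
    refine ⟨algebraMap Λ (Localization.AtPrime 𝔮) (p i).2,
      IsLocalization.map_units (Localization.AtPrime 𝔮) (p i).2, ?_⟩
    rw [← hp i, mul_comm]
  have haq : ∀ i, (p i).1 ∈ 𝔮 := by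
    intro i
    rw [← IsLocalization.AtPrime.to_map_mem_maximal_iff (Localization.AtPrime 𝔮) 𝔮, ← ha]
    exact Ideal.subset_span ⟨i, rfl⟩
  have haI : ∀ i, ∃ u, u ∉ 𝔮 ∧ u * (p i).1 ^ (n₀ + 1) ∈ I := by
    intro i
    apply RegPowH8.exists_mul_mem_of_map
    apply hpow
    exact Ideal.mem_map_of_mem _ (Ideal.pow_mem_pow (haq i) (n₀ + 1))
  choose u hu1 hu2 using haI
  have hπ₀ : Ideal.span (Set.range fun i => algebraMap Λ (Localization.AtPrime 𝔮)
      (u i * (p i).1)) = maximalIdeal (Localization.AtPrime 𝔮) := by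
    rw [← ha]
    apply RegPowH8.span_range_unit_mul
    intro i
    refine ⟨algebraMap Λ (Localization.AtPrime 𝔮) (u i),
      IsLocalization.map_units (Localization.AtPrime 𝔮) (⟨u i, hu1 i⟩ : 𝔮.primeCompl), ?_⟩
    rw [map_mul]
  have hπ₀I : ∀ i, (u i * (p i).1) ^ (n₀ + 1) ∈ I := by
    intro i
    have e : (u i * (p i).1) ^ (n₀ + 1) = u i ^ n₀ * (u i * (p i).1 ^ (n₀ + 1)) := by ring
    rw [e]
    exact I.mul_mem_left _ (hu2 i)
  exact ⟨n₀ + 1, fun i => u i * (p i).1, Nat.succ_pos _, hπ₀, hπ₀I⟩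

end Pi0

section HRes

variable {k R Λ C : Type u} [Field k] [CommRing R] [Algebra k R] [IsNoetherianRing R]
  [CommRing Λ] [Algebra k Λ] [Algebra R Λ] [IsScalarTower k R Λ]
  (𝔮 : Ideal Λ) [𝔮.IsPrime] [IsRegularLocalRing (Localization.AtPrime 𝔮)] (K : Ideal R)

local notation "TT" => Localization.AtPrime 𝔮
local notation "JL" => Ideal.map (algebraMap R Λ) K
local notation "JT" => Ideal.map (algebraMap Λ (Localization.AtPrime 𝔮)) (Ideal.map (algebraMap R Λ) K)

theorem hres_pos (d : ℕ) (hd : (IsLocalRing.maximalIdeal TT).spanFinrank = d)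
    (hindK : Smoothing.IndSmooth k 𝔮.ResidueField)
    (p₀ : R →ₐ[k] k) (g : Fin d → R) (hg : RingHom.ker p₀.toRingHom = Ideal.span (Set.range g))
    (π : Fin d → Λ) (halgX : ∀ i, algebraMap R Λ (g i) = π i)
    (hπ1 : Ideal.span (Set.range fun i => algebraMap Λ TT (π i)) = IsLocalRing.maximalIdeal TT)
    (e : ℕ) (he : 1 ≤ e) [CommRing C] [Algebra R C] [Algebra.FinitePresentation R C]
    (hK : K = Ideal.span (Set.range fun i : Fin d => g i ^ e))
    (φK : (C ⧸ K.map (algebraMap R C)) →ₐ[R ⧸ K] (Λ ⧸ JL)) :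
    Smoothing.Resolvable (R ⧸ K) φK (𝔮.map (Ideal.Quotient.mk JL)) := by
  classical
  have hπ𝔮 : ∀ i, π i ∈ 𝔮 := by
    intro i
    rw [← IsLocalization.AtPrime.to_map_mem_maximal_iff TT 𝔮, ← hπ1]
    exact Ideal.subset_span ⟨i, rfl⟩
  have hpX : ∀ i, algebraMap R TT (g i) = algebraMap Λ TT (π i) := fun i => by
    rw [IsScalarTower.algebraMap_apply R Λ TT, halgX]
  obtain ⟨mX, hmX⟩ : ∃ mX : Ideal R, mX = Ideal.span (Set.range g) := ⟨_, rfl⟩
  have hmXker : ∀ f, f ∈ mX ↔ p₀ f = 0 := by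
    intro f
    rw [hmX, ← hg]
    exact RingHom.mem_ker
  have hp₀k : ∀ c' : k, p₀ (algebraMap k R c') = c' := fun c' => by
    rw [AlgHom.commutes]
    rfl
  have hsub : ∀ f : R, f - algebraMap k R (p₀ f) ∈ mX := by
    intro f
    rw [hmXker, map_sub, hp₀k, sub_self]
  have hKmX : K ≤ mX := by
    rw [hK, Ideal.span_le]
    rintro _ ⟨i, rfl⟩
    show g i ^ e ∈ mX
    rw [hmX]
    exact Ideal.pow_mem_of_mem (Ideal.span (Set.range g)) (Ideal.subset_span ⟨i, rfl⟩) e
      (by omega)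
  have hmX𝔮 : ∀ f ∈ mX, algebraMap R Λ f ∈ 𝔮 := by
    have h1 : mX ≤ 𝔮.comap (algebraMap R Λ) := by
      rw [hmX, Ideal.span_le]
      rintro _ ⟨i, rfl⟩
      show algebraMap R Λ (g i) ∈ 𝔮
      rw [halgX]
      exact hπ𝔮 i
    exact fun f hf => h1 hf
  have hJ𝔮 : JL ≤ 𝔮 := by
    rw [Ideal.map_le_iff_le_comap]
    exact fun f hf => hmX𝔮 f (hKmX hf)
  haveI hqb : (𝔮.map (Ideal.Quotient.mk JL)).IsPrime :=
    Ideal.map_isPrime_of_surjective Ideal.Quotient.mk_surjective (by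
      rw [Ideal.mk_ker]
      exact hJ𝔮)
  haveI hloc : IsLocalization.AtPrime (TT ⧸ JT) (𝔮.map (Ideal.Quotient.mk JL)) :=
    Groth.Agent.Lib.ResolveLocalH4.isLocalization_quot 𝔮 _ hJ𝔮
  letI algRbLq : Algebra (R ⧸ K) (TT ⧸ JT) :=
    ((algebraMap (Λ ⧸ JL) (TT ⧸ JT)).comp (algebraMap (R ⧸ K) (Λ ⧸ JL))).toAlgebra
  haveI twq : IsScalarTower (R ⧸ K) (Λ ⧸ JL) (TT ⧸ JT) :=
    IsScalarTower.of_algebraMap_eq (fun _ => rfl)
  have halg : ∀ f : R, algebraMap (R ⧸ K) (TT ⧸ JT) (Ideal.Quotient.mk K f) =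
      Ideal.Quotient.mk JT (algebraMap R TT f) := by
    intro f
    show Ideal.Quotient.mk JT (algebraMap Λ TT (algebraMap R Λ f)) = _
    rw [← IsScalarTower.algebraMap_apply R Λ TT]
  -- flatness
  obtain ⟨pp, hpp⟩ : ∃ pp : Fin d → TT, ∀ i, pp i = algebraMap Λ TT (π i) := ⟨_, fun _ => rfl⟩
  have hpp1 : Ideal.span (Set.range pp) = IsLocalRing.maximalIdeal TT := by
    have h1 : pp = fun i => algebraMap Λ TT (π i) := funext hpp
    rw [h1]
    exact hπ1
  have H0 : Module.Flat (R ⧸ Ideal.span (Set.range g))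
      ((R ⧸ Ideal.span (Set.range g)) ⊗[R] TT) := by
    apply Groth.Agent.Lib.RegFlatPowH4.flat_of_isField
    rw [← hg]
    haveI : (RingHom.ker p₀.toRingHom).IsMaximal :=
      RingHom.ker_isMaximal_of_surjective _ (fun c' => ⟨algebraMap k R c', hp₀k c'⟩)
    exact (Ideal.Quotient.maximal_ideal_iff_isField_quotient _).mp inferInstance
  have H1 : ∀ (ε : Fin d → ℕ) (i : Fin d), (∀ j, 1 ≤ ε j) → ∀ y : TT,
      pp i * y ∈ Ideal.span ((fun j => pp j ^ ε j) ''
        ((Finset.univ.erase i : Finset (Fin d)) : Set (Fin d))) →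
      y ∈ Ideal.span ((fun j => pp j ^ ε j) ''
        ((Finset.univ.erase i : Finset (Fin d)) : Set (Fin d))) := by
    intro ε i hε y hy
    exact RegPowH8.regular_mod_pow TT d pp hpp1 hd _ (Finset.univ.erase i) ε i
      (Finset.notMem_erase i _) (fun j _ => hε j) rfl y hy
  have hflat0 := Groth.Agent.Lib.RegFlatPowH4.flat_pow g pp
    (fun j => by rw [hpp]; exact hpX j) H0 H1 _ (fun _ => e) (fun _ => he) rfl
  have hflat1 : Module.Flat (R ⧸ K) ((R ⧸ K) ⊗[R] TT) :=
    flat_congr_ideal _ K hK.symm hflat0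
  haveI hflat : Module.Flat (R ⧸ K) (TT ⧸ JT) :=
    Groth.Agent.Lib.RegFlatPowH4.flat_quot_of_flat_tensor K JT
      (by rw [Ideal.map_map, ← IsScalarTower.algebraMap_eq]) halg hflat1
  -- the residue map of `R ⧸ K`
  obtain ⟨p, hp_mk⟩ : ∃ p : (R ⧸ K) →+* k, ∀ f, p (Ideal.Quotient.mk K f) = p₀ f :=
    ⟨Ideal.Quotient.lift K p₀.toRingHom (fun f hf => (hmXker f).mp (hKmX hf)), fun f => rfl⟩
  have hp : Function.Surjective p := fun c' =>
    ⟨Ideal.Quotient.mk K (algebraMap k R c'), by rw [hp_mk, hp₀k]⟩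
  have hkerp : RingHom.ker p = mX.map (Ideal.Quotient.mk K) := by
    apply le_antisymm
    · intro x hx
      obtain ⟨f, rfl⟩ := Ideal.Quotient.mk_surjective x
      have h1 : p₀ f = 0 := by
        rw [← hp_mk]
        exact RingHom.mem_ker.mp hx
      exact Ideal.mem_map_of_mem _ ((hmXker f).mpr h1)
    · rw [Ideal.map_le_iff_le_comap]
      intro f hf
      rw [Ideal.mem_comap, RingHom.mem_ker, hp_mk]
      exact (hmXker f).mp hf
  have hnil : IsNilpotent (RingHom.ker p) := by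
    rw [Ideal.FG.isNilpotent_iff_le_nilradical (IsNoetherian.noetherian _), hkerp, hmX,
      Ideal.map_span, Ideal.span_le]
    rintro _ ⟨_, ⟨i, rfl⟩, rfl⟩
    show Ideal.Quotient.mk K (g i) ∈ nilradical (R ⧸ K)
    rw [mem_nilradical]
    refine ⟨e, ?_⟩
    rw [← map_pow, Ideal.Quotient.eq_zero_iff_mem, hK]
    exact Ideal.subset_span ⟨i, rfl⟩
  have hpq0 : ∀ x, p x = 0 → algebraMap (R ⧸ K) (Λ ⧸ JL) x ∈ 𝔮.map (Ideal.Quotient.mk JL) := by
    intro x hx
    obtain ⟨f, rfl⟩ := Ideal.Quotient.mk_surjective x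
    rw [hp_mk] at hx
    have h1 : f ∈ mX := (hmXker f).mpr hx
    show Ideal.Quotient.mk JL (algebraMap R Λ f) ∈ _
    exact Ideal.mem_map_of_mem _ (hmX𝔮 f h1)
  -- the residue map of `TT ⧸ JT`
  have hJmax : JT ≤ IsLocalRing.maximalIdeal TT := by
    rw [← IsLocalization.AtPrime.map_eq_maximalIdeal 𝔮 TT]
    exact Ideal.map_mono hJ𝔮
  obtain ⟨q, hq_mk⟩ : ∃ q : (TT ⧸ JT) →+* 𝔮.ResidueField,
      ∀ t, q (Ideal.Quotient.mk JT t) = IsLocalRing.residue TT t :=
    ⟨Ideal.Quotient.lift JT (IsLocalRing.residue TT)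
      (fun t ht => (IsLocalRing.residue_eq_zero_iff t).mpr (hJmax ht)), fun t => rfl⟩
  have hq : Function.Surjective q := by
    intro z
    obtain ⟨t, rfl⟩ := IsLocalRing.residue_surjective z
    exact ⟨Ideal.Quotient.mk JT t, hq_mk t⟩
  have hresR : ∀ f : R, IsLocalRing.residue TT (algebraMap R TT f) =
      algebraMap k 𝔮.ResidueField (p₀ f) := by
    intro f
    have h2 : IsLocalRing.residue TT (algebraMap R TT (f - algebraMap k R (p₀ f))) = 0 := by
      rw [IsLocalRing.residue_eq_zero_iff, IsScalarTower.algebraMap_apply R Λ TT,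
        IsLocalization.AtPrime.to_map_mem_maximal_iff TT 𝔮]
      exact hmX𝔮 _ (hsub f)
    have h3 : algebraMap R TT (algebraMap k R (p₀ f)) = algebraMap k TT (p₀ f) := by
      rw [IsScalarTower.algebraMap_apply R Λ TT, ← IsScalarTower.algebraMap_apply k R Λ,
        ← IsScalarTower.algebraMap_apply k Λ TT]
    rw [map_sub, map_sub, sub_eq_zero, h3] at h2
    rw [h2]
    rfl
  have hpq : ∀ x, q (algebraMap (R ⧸ K) (TT ⧸ JT) x) = algebraMap k 𝔮.ResidueField (p x) := by
    intro x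
    obtain ⟨f, rfl⟩ := Ideal.Quotient.mk_surjective x
    rw [halg, hq_mk, hp_mk]
    exact hresR f
  have hkerq : RingHom.ker q = (IsLocalRing.maximalIdeal TT).map (Ideal.Quotient.mk JT) := by
    ext x
    obtain ⟨t, rfl⟩ := Ideal.Quotient.mk_surjective x
    rw [RingHom.mem_ker, hq_mk, IsLocalRing.residue_eq_zero_iff,
      Ideal.mem_quotient_iff_mem hJmax]
  have hmXT : mX.map (algebraMap R TT) = IsLocalRing.maximalIdeal TT := by
    rw [← hpp1, hmX, Ideal.map_span, ← Set.range_comp]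
    have h1 : (⇑(algebraMap R TT) ∘ g) = pp :=
      funext (fun i => by rw [Function.comp_apply, hpp]; exact hpX i)
    rw [h1]
  have hcomp : (algebraMap (R ⧸ K) (TT ⧸ JT)).comp (Ideal.Quotient.mk K) =
      (Ideal.Quotient.mk JT).comp (algebraMap R TT) := RingHom.ext halg
  have hker : RingHom.ker q = (RingHom.ker p).map (algebraMap (R ⧸ K) (TT ⧸ JT)) := by
    rw [hkerq, hkerp]
    have e1 : Ideal.map (algebraMap (R ⧸ K) (TT ⧸ JT)) (Ideal.map (Ideal.Quotient.mk K) mX) =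
        Ideal.map ((algebraMap (R ⧸ K) (TT ⧸ JT)).comp (Ideal.Quotient.mk K)) mX :=
      Ideal.map_map _ _
    have e2 : Ideal.map (Ideal.Quotient.mk JT) (Ideal.map (algebraMap R TT) mX) =
        Ideal.map ((Ideal.Quotient.mk JT).comp (algebraMap R TT)) mX := Ideal.map_map _ _
    rw [e1, hcomp, ← e2, hmXT]
  -- finite presentation of the quotient
  have hsurjR : Function.Surjective (algebraMap R (R ⧸ K)) := Ideal.Quotient.mk_surjective
  have hkerA : ∀ x, Ideal.Quotient.mkₐ R (K.map (algebraMap R C)) x = 0 →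
      x ∈ (RingHom.ker (algebraMap R (R ⧸ K))).map (algebraMap R C) := by
    intro x hx
    have e1 : RingHom.ker (algebraMap R (R ⧸ K)) = K := Ideal.mk_ker
    rw [e1]
    exact Ideal.Quotient.eq_zero_iff_mem.mp hx
  haveI : Algebra.FinitePresentation (R ⧸ K) (C ⧸ K.map (algebraMap R C)) :=
    Groth.Agent.Lib.ResolveStepH4.fp_flex hsurjR (Ideal.Quotient.mkₐ R (K.map (algebraMap R C)))
      (Ideal.Quotient.mkₐ_surjective R _) hkerA
  exact Groth.Agent.Lib.ResolveLocalH4.resolvable_local φK _ p hp hnil hpq0 q hq hpq hker hindK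

end HRes

section Main

variable {k A Λ : Type u} [Field k] [CommRing A] [Algebra k A] [Algebra.FinitePresentation k A]
  [CommRing Λ] [Algebra k Λ]

theorem case_zero (φ : A →ₐ[k] Λ) (𝔮 : Ideal Λ) [𝔮.IsPrime]
    [IsRegularLocalRing (Localization.AtPrime 𝔮)]
    (hd0 : (IsLocalRing.maximalIdeal (Localization.AtPrime 𝔮)).spanFinrank = 0)
    (hindK : Smoothing.IndSmooth k 𝔮.ResidueField) : Smoothing.Resolvable k φ 𝔮 := by
  have hbot : IsLocalRing.maximalIdeal (Localization.AtPrime 𝔮) = ⊥ :=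
    (Submodule.spanFinrank_eq_zero_iff_eq_bot (IsNoetherian.noetherian _)).mp hd0
  have hker0 : RingHom.ker (RingHom.id k) = ⊥ :=
    (RingHom.injective_iff_ker_eq_bot (RingHom.id k)).mp (fun _ _ h => h)
  have hnil : IsNilpotent (RingHom.ker (RingHom.id k)) := ⟨1, by rw [pow_one, hker0]; rfl⟩
  refine Groth.Agent.Lib.ResolveLocalH4.resolvable_local (Rb := k) (k := k)
    (Lq := Localization.AtPrime 𝔮) (K := 𝔮.ResidueField) φ 𝔮 (RingHom.id k)
    (fun x => ⟨x, rfl⟩) hnil ?_ (IsLocalRing.residue _) IsLocalRing.residue_surjective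
    (fun r => rfl) ?_ hindK
  · intro r hr
    have h1 : r = 0 := hr
    rw [h1, map_zero]
    exact 𝔮.zero_mem
  · rw [IsLocalRing.ker_residue, hbot, hker0, Ideal.map_bot]

theorem case_pos [IsNoetherianRing Λ] (φ : A →ₐ[k] Λ) (𝔮 : Ideal Λ) [𝔮.IsPrime]
    (hmin : 𝔮 ∈ (Smoothing.singRad k φ).minimalPrimes)
    [IsRegularLocalRing (Localization.AtPrime 𝔮)] (d : ℕ)
    (hd : (IsLocalRing.maximalIdeal (Localization.AtPrime 𝔮)).spanFinrank = d) (hdpos : 0 < d)
    (hindK : Smoothing.IndSmooth k 𝔮.ResidueField) : Smoothing.Resolvable k φ 𝔮 := by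
  classical
  haveI hAN : IsNoetherianRing A := Algebra.FiniteType.isNoetherianRing k A
  obtain ⟨r, a, ha0⟩ := Submodule.fg_iff_exists_fin_generating_family.mp
    (IsNoetherian.noetherian (Smoothing.singularIdeal k A))
  have ha : Ideal.span (Set.range a) = Smoothing.singularIdeal k A := ha0
  have haH : ∀ j, a j ∈ Smoothing.singularIdeal k A := by
    intro j
    rw [← ha]
    exact Ideal.subset_span ⟨j, rfl⟩
  have hasm : ∀ j, Algebra.FormallySmooth k (Localization.Away (a j)) := fun j =>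
    (smooth_away_of_mem (a j) (haH j)).formallySmooth
  obtain ⟨I, hI⟩ : ∃ I : Ideal Λ, I = (Smoothing.singularIdeal k A).map φ := ⟨_, rfl⟩
  have hminI : 𝔮 ∈ I.minimalPrimes := by
    rw [hI, ← Ideal.radical_minimalPrimes]
    exact hmin
  have hIspan : I = Ideal.span (Set.range fun j => φ (a j)) := by
    rw [hI, ← ha, Ideal.map_span, ← Set.range_comp]
    rfl
  obtain ⟨n, π₀, hn, hπ₀, hπ₀I⟩ := exists_pi0 I 𝔮 hminI d hd
  -- the algebras `B` and `C`
  have hBsm : ∀ b : NeronAlgH4.BB d n r a,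
      b ∈ (Ideal.span (Set.range fun j => NeronAlgH4.α (k := k) d n r a (a j))).radical →
      Algebra.Smooth (MvPolynomial (Fin d) k) (Localization.Away b) :=
    fun b hb => NeronAlgH4.smooth_away d n r a hasm b hb
  obtain ⟨C, iC1, iC2, iC3, iC4, hCfp, ⟨ρ⟩, hC⟩ :=
    ElkikFreeH4.main_elkik (R := MvPolynomial (Fin d) k) (A := NeronAlgH4.BB d n r a)
  haveI := hCfp
  have hxrad : ∀ i : Fin d,
      algebraMap (MvPolynomial (Fin d) k) (NeronAlgH4.BB d n r a) (X i) ∈
        (Ideal.span (Set.range fun j => NeronAlgH4.α (k := k) d n r a (a j))).radical :=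
    fun i => ⟨n, NeronAlgH4.x_pow_mem d n r a i⟩
  have hstd0 : ∀ i : Fin d, ∃ e₀ : ℕ, ∀ m : ℕ, e₀ ≤ m →
      Smoothing.IsStrictlyStandard (MvPolynomial (Fin d) k) C
        (algebraMap (NeronAlgH4.BB d n r a) C
          (algebraMap (MvPolynomial (Fin d) k) (NeronAlgH4.BB d n r a) (X i)) ^ m) :=
    fun i => (hC _ (hBsm _ (hxrad i))).2
  choose e₀ he₀ using hstd0
  obtain ⟨c, hc1, hce⟩ : ∃ c : ℕ, 1 ≤ c ∧ ∀ i, e₀ i ≤ c :=
    ⟨Finset.univ.sup e₀ + 1, by omega, fun i =>
      (Finset.le_sup (Finset.mem_univ i)).trans (Nat.le_succ _)⟩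
  obtain ⟨π', hπ'⟩ : ∃ π' : Fin d → MvPolynomial (Fin d) k, ∀ i, π' i = X i ^ c :=
    ⟨_, fun _ => rfl⟩
  have hstd : ∀ i : Fin d, Smoothing.IsStrictlyStandard (MvPolynomial (Fin d) k) C
      (algebraMap (MvPolynomial (Fin d) k) C (π' i)) := by
    intro i
    have h1 := he₀ i c (hce i)
    rw [← IsScalarTower.algebraMap_apply (MvPolynomial (Fin d) k) (NeronAlgH4.BB d n r a) C,
      ← map_pow] at h1
    rw [hπ']
    exact h1
  -- the parameters
  obtain ⟨π, hπ1, hπ2, hπ3⟩ :=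
    RegPowH8.exists_ind I 𝔮 d hd n (c * 8) (by omega) π₀ hπ₀ hπ₀I d le_rfl
  have hπ𝔮 : ∀ i, π i ∈ 𝔮 := by
    intro i
    rw [← IsLocalization.AtPrime.to_map_mem_maximal_iff (Localization.AtPrime 𝔮) 𝔮, ← hπ1]
    exact Ideal.subset_span ⟨i, rfl⟩
  letI algRΛ : Algebra (MvPolynomial (Fin d) k) Λ :=
    (MvPolynomial.aeval (R := k) π).toRingHom.toAlgebra
  haveI twΛ : IsScalarTower k (MvPolynomial (Fin d) k) Λ :=
    IsScalarTower.of_algebraMap_eq (fun c' => by
      show algebraMap k Λ c' =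
        MvPolynomial.aeval (R := k) π (algebraMap k (MvPolynomial (Fin d) k) c')
      rw [AlgHom.commutes])
  have halgX : ∀ i, algebraMap (MvPolynomial (Fin d) k) Λ (X i) = π i := fun i => by
    show MvPolynomial.aeval (R := k) π (X i) = π i
    exact aeval_X _ i
  have hlam : ∀ i, ∃ lam : Fin r → Λ, ∑ j, lam j * φ (a j) = π i ^ n := fun i => by
    have h1 := hπ2 i
    rw [hIspan] at h1
    exact Ideal.mem_span_range_iff_exists_fun.mp h1
  choose lam hlam' using hlam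
  obtain ⟨φB, hφB⟩ := NeronAlgH4.exists_algHom d n r a φ lam (fun i => by
    rw [halgX]
    exact (hlam' i).symm)
  obtain ⟨φC, hφC⟩ : ∃ φC : C →ₐ[MvPolynomial (Fin d) k] Λ, ∀ x, φC x = φB (ρ x) :=
    ⟨φB.comp (ρ.restrictScalars (MvPolynomial (Fin d) k)), fun _ => rfl⟩
  have hρ : ∀ b, ρ (algebraMap (NeronAlgH4.BB d n r a) C b) = b := fun b => ρ.commutes b
  have hφCα : ∀ x : A, φC (algebraMap (NeronAlgH4.BB d n r a) C
      (NeronAlgH4.α (k := k) d n r a x)) = φ x := by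
    intro x
    rw [hφC, hρ, hφB]
  -- the ideal `K`
  obtain ⟨K, hK⟩ : ∃ K : Ideal (MvPolynomial (Fin d) k),
      K = Ideal.span (Set.range fun i => π' i ^ 8) := ⟨_, rfl⟩
  have hK' : K = Ideal.span (Set.range fun i : Fin d =>
      (X i : MvPolynomial (Fin d) k) ^ (c * 8)) := by
    rw [hK]
    have h1 : (fun i => π' i ^ 8) =
        fun i : Fin d => (X i : MvPolynomial (Fin d) k) ^ (c * 8) :=
      funext (fun i => by rw [hπ', ← pow_mul])
    rw [h1]
  obtain ⟨φK, hφK⟩ := ResolveIndH4.exists_φQ φC K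
  obtain ⟨p₀, hp₀⟩ : ∃ p₀ : MvPolynomial (Fin d) k →ₐ[k] k, p₀.toRingHom = constantCoeff :=
    ⟨{ (constantCoeff : MvPolynomial (Fin d) k →+* k) with
        commutes' := fun c' => constantCoeff_C _ c' }, rfl⟩
  have hg : RingHom.ker p₀.toRingHom =
      Ideal.span (Set.range (X : Fin d → MvPolynomial (Fin d) k)) := by
    rw [hp₀]
    exact (RegFlatPowH4.span_X_eq_ker k (Fin d)).symm
  have hresK := hres_pos 𝔮 K d hd hindK p₀ X hg π halgX hπ1 (c * 8) (by omega) hK' φK
  have hR : ∀ i : Fin d, ∀ x : MvPolynomial (Fin d) k ⧸ Ideal.span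
        (Set.range fun j : {j : Fin d // (j : ℕ) < (i : ℕ)} => π' j ^ 8),
      Ideal.Quotient.mk _ (π' i) ^ 2 * x = 0 → Ideal.Quotient.mk _ (π' i) * x = 0 := by
    intro i x hx
    obtain ⟨f, rfl⟩ := Ideal.Quotient.mk_surjective x
    rw [← map_pow, ← map_mul, Ideal.Quotient.eq_zero_iff_mem] at hx
    rw [← map_mul, Ideal.Quotient.eq_zero_iff_mem]
    have hfun : (fun j : {j : Fin d // (j : ℕ) < (i : ℕ)} => π' j ^ 8) =
        fun j : {j : Fin d // (j : ℕ) < (i : ℕ)} =>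
          (X (j : Fin d) : MvPolynomial (Fin d) k) ^ (c * 8) :=
      funext (fun j => by rw [hπ', ← pow_mul])
    rw [hfun] at hx ⊢
    rw [hπ'] at hx ⊢
    have e1 : (X i ^ c) ^ 2 * f = X i ^ (2 * c) * f := by ring
    rw [e1] at hx
    exact Ideal.mul_mem_left _ _ (poly_X_pow_mul_mem (c * 8) i (2 * c) f hx)
  have hΛ : ∀ i : Fin d, ∀ x : Λ ⧸ Ideal.span
        (Set.range fun j : {j : Fin d // (j : ℕ) < (i : ℕ)} =>
          algebraMap (MvPolynomial (Fin d) k) Λ (π' j) ^ 8),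
      Ideal.Quotient.mk _ (algebraMap (MvPolynomial (Fin d) k) Λ (π' i)) ^ 2 * x = 0 →
        Ideal.Quotient.mk _ (algebraMap (MvPolynomial (Fin d) k) Λ (π' i)) * x = 0 := by
    intro i x hx
    obtain ⟨y, rfl⟩ := Ideal.Quotient.mk_surjective x
    rw [← map_pow, ← map_mul, Ideal.Quotient.eq_zero_iff_mem] at hx
    rw [← map_mul, Ideal.Quotient.eq_zero_iff_mem]
    have hval : ∀ j, algebraMap (MvPolynomial (Fin d) k) Λ (π' j) = π j ^ c := fun j => by
      rw [hπ', map_pow, halgX]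
    have hfun : (fun j : {j : Fin d // (j : ℕ) < (i : ℕ)} =>
        algebraMap (MvPolynomial (Fin d) k) Λ (π' j) ^ 8) =
        fun j : {j : Fin d // (j : ℕ) < (i : ℕ)} => π (j : Fin d) ^ (c * 8) :=
      funext (fun j => by rw [hval, ← pow_mul])
    rw [hfun] at hx ⊢
    rw [hval] at hx ⊢
    exact pow_mul_mem_of_sq _ (π i) (hπ3 i i.2) c hc1 y hx
  have hπ𝔮' : ∀ i, algebraMap (MvPolynomial (Fin d) k) Λ (π' i) ∈ 𝔮 := by
    intro i
    rw [hπ', map_pow, halgX]
    exact Ideal.pow_mem_of_mem 𝔮 (hπ𝔮 i) c (by omega)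
  obtain ⟨D, iD1, iD2, hDfp, g, h, hgh, hle, hnle⟩ :=
    ResolveIndH4.main6822 φC 𝔮 hdpos π' hπ𝔮' hR hΛ hstd K hK φK hφK hresK
  -- transfer to `k`
  letI algkD : Algebra k D :=
    ((algebraMap (MvPolynomial (Fin d) k) D).comp
      (algebraMap k (MvPolynomial (Fin d) k))).toAlgebra
  haveI twD : IsScalarTower k (MvPolynomial (Fin d) k) D :=
    IsScalarTower.of_algebraMap_eq (fun _ => rfl)
  haveI := hDfp
  haveI hDfpk : Algebra.FinitePresentation k D :=
    Algebra.FinitePresentation.trans k (MvPolynomial (Fin d) k) D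
  obtain ⟨gA₀, hgA₀⟩ : ∃ gA₀ : A →+* D, ∀ x, gA₀ x =
      g (algebraMap (NeronAlgH4.BB d n r a) C (NeronAlgH4.α (k := k) d n r a x)) :=
    ⟨g.toRingHom.comp ((algebraMap (NeronAlgH4.BB d n r a) C).comp
      (NeronAlgH4.α (k := k) d n r a).toRingHom), fun _ => rfl⟩
  have hgAk : ∀ c' : k, gA₀ (algebraMap k A c') = algebraMap k D c' := by
    intro c'
    rw [hgA₀, AlgHom.commutes,
      IsScalarTower.algebraMap_apply k (MvPolynomial (Fin d) k) (NeronAlgH4.BB d n r a),
      ← IsScalarTower.algebraMap_apply (MvPolynomial (Fin d) k) (NeronAlgH4.BB d n r a) C,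
      AlgHom.commutes]
    rfl
  obtain ⟨gA, hgA⟩ : ∃ gA : A →ₐ[k] D, ∀ x, gA x = gA₀ x :=
    ⟨{ gA₀ with commutes' := hgAk }, fun _ => rfl⟩
  obtain ⟨hk, hhk⟩ : ∃ hk : D →ₐ[k] Λ, ∀ x, hk x = h x :=
    ⟨h.restrictScalars k, fun _ => rfl⟩
  have hsingDk : Smoothing.singularIdeal (MvPolynomial (Fin d) k) D ≤
      Smoothing.singularIdeal k D := SepIndSmH4.singularIdeal_le_of_tower
  have hmapeq : ∀ J : Ideal D, J.map hk = J.map h := by
    intro J
    apply le_antisymm
    · rw [Ideal.map_le_iff_le_comap]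
      intro x hx
      rw [Ideal.mem_comap, hhk]
      exact Ideal.mem_map_of_mem h hx
    · rw [Ideal.map_le_iff_le_comap]
      intro x hx
      rw [Ideal.mem_comap, ← hhk]
      exact Ideal.mem_map_of_mem hk hx
  have hRk : Smoothing.singRad (MvPolynomial (Fin d) k) h ≤ Smoothing.singRad k hk := by
    unfold Smoothing.singRad
    rw [hmapeq]
    exact Ideal.radical_mono (Ideal.map_mono hsingDk)
  refine ⟨D, iD1, algkD, hDfpk, gA, hk, ?_, ?_, ?_⟩
  · apply AlgHom.ext
    intro x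
    show hk (gA x) = φ x
    rw [hhk, hgA, hgA₀]
    have h2 : h (g (algebraMap (NeronAlgH4.BB d n r a) C (NeronAlgH4.α (k := k) d n r a x))) =
        φC (algebraMap (NeronAlgH4.BB d n r a) C (NeronAlgH4.α (k := k) d n r a x)) :=
      AlgHom.congr_fun hgh _
    rw [h2, hφCα]
  · refine le_trans ?_ (le_trans hle hRk)
    unfold Smoothing.singRad
    rw [Ideal.radical_le_radical_iff, Ideal.map_le_iff_le_comap]
    intro x hx
    rw [Ideal.mem_comap]
    apply Ideal.le_radical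
    rw [← hφCα x]
    apply Ideal.mem_map_of_mem
    apply mem_of_smooth_away
    refine (hC _ (hBsm _ ?_)).1
    apply Ideal.le_radical
    have h1 : x ∈ Ideal.span (Set.range a) := by
      rw [ha]
      exact hx
    have h2 := Ideal.mem_map_of_mem (NeronAlgH4.α (k := k) d n r a) h1
    rw [Ideal.map_span, ← Set.range_comp] at h2
    exact h2
  · intro hcon
    exact hnle (le_trans hRk hcon)

theorem main6823 [IsNoetherianRing Λ] (φ : A →ₐ[k] Λ) (𝔮 : Ideal Λ) [𝔮.IsPrime]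
    (hmin : 𝔮 ∈ (Smoothing.singRad k φ).minimalPrimes)
    [IsRegularLocalRing (Localization.AtPrime 𝔮)]
    [Algebra.IsGeometricallyReduced k 𝔮.ResidueField] : Smoothing.Resolvable k φ 𝔮 := by
  have hindK : Smoothing.IndSmooth k 𝔮.ResidueField :=
    SepIndSmH4.indSmooth_of_isGeometricallyReduced
  obtain ⟨d, hd⟩ : ∃ d : ℕ,
      (IsLocalRing.maximalIdeal (Localization.AtPrime 𝔮)).spanFinrank = d := ⟨_, rfl⟩
  rcases Nat.eq_zero_or_pos d with hd0 | hdpos
  · exact case_zero φ 𝔮 (hd.trans hd0) hindK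
  · exact case_pos φ 𝔮 hmin d hd hdpos hindK

end Main

end Groth.Agent.Lib.ResolveSepH4
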