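import Mathlib
import Groth.Prelude.Def_Smoothing
import Groth.Agent.Lib.ResolveSep_helper4
import Groth.Agent.Lib.NeronAlg2_helper4

/-!
Helper library (helper4): Noetherian induction on the singular radical: if every local problem
`R → A → Λ ⊇ 𝔮` with `𝔮` minimal over the singular radical can be resolved, then `Λ` is ind-smooth
over `R`.  APPEND-ONLY once landed.
-/

set_option autoImplicit false
set_option linter.unusedVariables false
set_option linter.unusedTactic false
set_option linter.unreachableTactic false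
set_option linter.unusedSectionVars false
set_option linter.style.haveILetI false
set_option maxHeartbeats 800000

universe u

namespace Groth.Agent.Lib.IndSmResH4

theorem factor_of_singRad_top {R A Λ : Type u} [CommRing R] [IsNoetherianRing R] [CommRing A]
    [Algebra R A] [Algebra.FinitePresentation R A] [CommRing Λ] [Algebra R Λ] (φ : A →ₐ[R] Λ)
    (htop : Smoothing.singRad R φ = ⊤) :
    ∃ (B : Type u) (_ : CommRing B) (_ : Algebra R B), Algebra.Smooth R B ∧
      ∃ (g : A →ₐ[R] B) (h : B →ₐ[R] Λ), h.comp g = φ := by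
  classical
  haveI hAN : IsNoetherianRing A := Algebra.FiniteType.isNoetherianRing R A
  obtain ⟨r, a, ha0⟩ := Submodule.fg_iff_exists_fin_generating_family.mp
    (IsNoetherian.noetherian (Smoothing.singularIdeal R A))
  have ha : Ideal.span (Set.range a) = Smoothing.singularIdeal R A := ha0
  have haH : ∀ j, a j ∈ Smoothing.singularIdeal R A := by
    intro j
    rw [← ha]
    exact Ideal.subset_span ⟨j, rfl⟩
  have hasm : ∀ j, Algebra.FormallySmooth R (Localization.Away (a j)) := fun j =>
    (ResolveSepH4.smooth_away_of_mem (a j) (haH j)).formallySmooth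
  have hItop : (Smoothing.singularIdeal R A).map φ = ⊤ := by
    unfold Smoothing.singRad at htop
    exact Ideal.radical_eq_top.mp htop
  have hIspan : (Smoothing.singularIdeal R A).map φ =
      Ideal.span (Set.range fun j => φ (a j)) := by
    rw [← ha, Ideal.map_span, ← Set.range_comp]
    rfl
  have h1 : (1 : Λ) ∈ Ideal.span (Set.range fun j => φ (a j)) := by
    rw [← hIspan, hItop]
    exact Submodule.mem_top
  obtain ⟨lam, hlam⟩ := Ideal.mem_span_range_iff_exists_fun.mp h1
  have h0 : φ (algebraMap R A (1 : R)) = 1 := by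
    rw [map_one, map_one]
  obtain ⟨β, hβC, hβX⟩ := NeronAlg2H4.exists_algHom r a (1 : R) φ lam (by
    rw [h0]
    exact hlam.symm)
  have hu : IsUnit (algebraMap R (NeronAlg2H4.BB r a (1 : R)) (1 : R)) := by
    rw [map_one]
    exact isUnit_one
  have hsm : Algebra.Smooth R (NeronAlg2H4.BB r a (1 : R)) :=
    NeronAlg2H4.smooth_of_isUnit r a 1 hasm hu
  refine ⟨NeronAlg2H4.BB r a (1 : R), inferInstance, inferInstance, hsm,
    NeronAlg2H4.α r a 1, β, ?_⟩
  apply AlgHom.ext
  intro x
  show β (NeronAlg2H4.α r a 1 x) = φ x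
  rw [NeronAlg2H4.α_apply, hβC]

theorem indSmooth_of_resolvable {R Λ : Type u} [CommRing R] [IsNoetherianRing R] [CommRing Λ]
    [Algebra R Λ] [IsNoetherianRing Λ]
    (H : ∀ (A : Type u) [CommRing A] [Algebra R A] [Algebra.FinitePresentation R A]
      (φ : A →ₐ[R] Λ) (𝔮 : Ideal Λ) [𝔮.IsPrime],
      𝔮 ∈ (Smoothing.singRad R φ).minimalPrimes → Smoothing.Resolvable R φ 𝔮) :
    Smoothing.IndSmooth R Λ := by
  have key : ∀ J : Ideal Λ, ∀ (A : Type u) [CommRing A] [Algebra R A]
      [Algebra.FinitePresentation R A] (φ : A →ₐ[R] Λ), Smoothing.singRad R φ = J →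
      ∃ (B : Type u) (_ : CommRing B) (_ : Algebra R B), Algebra.Smooth R B ∧
        ∃ (g : A →ₐ[R] B) (h : B →ₐ[R] Λ), h.comp g = φ := by
    intro J
    refine IsNoetherian.induction (P := fun J : Ideal Λ => ∀ (A : Type u) [CommRing A]
      [Algebra R A] [Algebra.FinitePresentation R A] (φ : A →ₐ[R] Λ),
      Smoothing.singRad R φ = J →
      ∃ (B : Type u) (_ : CommRing B) (_ : Algebra R B), Algebra.Smooth R B ∧
        ∃ (g : A →ₐ[R] B) (h : B →ₐ[R] Λ), h.comp g = φ) ?_ J
    intro J IH A _ _ _ φ hJ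
    by_cases htop : Smoothing.singRad R φ = ⊤
    · exact factor_of_singRad_top φ htop
    · obtain ⟨𝔮, h𝔮⟩ := Ideal.nonempty_minimalPrimes htop
      haveI : 𝔮.IsPrime := h𝔮.1.1
      obtain ⟨B, iB1, iB2, hBfp, g, h, hgh, hle, hnle⟩ := H A φ 𝔮 h𝔮
      haveI := hBfp
      have hne : Smoothing.singRad R φ ≠ Smoothing.singRad R h := by
        intro heq
        apply hnle
        rw [← heq]
        exact h𝔮.1.2
      have hlt : J < Smoothing.singRad R h := by
        rw [← hJ]
        exact lt_of_le_of_ne hle hne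
      obtain ⟨D, iD1, iD2, hDsm, g', h', hgh'⟩ := IH _ hlt B h rfl
      refine ⟨D, iD1, iD2, hDsm, g'.comp g, h', ?_⟩
      rw [← AlgHom.comp_assoc, hgh', hgh]
  intro A _ _ hfp f
  haveI := hfp
  exact key _ A f rfl

end Groth.Agent.Lib.IndSmResH4
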