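import Mathlib
import Groth.Agent.Lib.Regular_helper5

/-!
# Fixed locus of a finite linearly reductive group acting on a local ring (helper4)

`A` a Noetherian local `k`-algebra with residue field `k`, `G` finite with `|G|` invertible in `k`
acting by `k`-algebra automorphisms.

* `exists_equivariant_proj`: a `G`-equivariant `k`-linear projector `P` on `A` with kernel `m²`
  (modulo `m²` the identity).
* `S19448_main`: an element acting trivially on `m/m²` acts trivially.
* `S19445_main`: if `A` is regular then so is `A/J`, `J` the ideal generated by all `g•a - a`.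
-/

set_option autoImplicit false
universe u

namespace Groth.Agent.Lib.FixedLocusH4

open IsLocalRing

section Action

variable {A : Type u} [CommRing A] {G : Type u} [Group G] [MulSemiringAction G A]

theorem isUnit_smul_iff' (g : G) (a : A) : IsUnit (g • a) ↔ IsUnit a := by
  constructor
  · intro h
    have := h.map (MulSemiringAction.toRingHom G A g⁻¹)
    simpa using this
  · intro h
    exact h.map (MulSemiringAction.toRingHom G A g)

variable [IsLocalRing A]

theorem smul_mem_maximalIdeal {g : G} {a : A} (ha : a ∈ maximalIdeal A) :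
    g • a ∈ maximalIdeal A := by
  rw [mem_maximalIdeal, mem_nonunits_iff] at ha ⊢
  rwa [isUnit_smul_iff']

theorem smul_mem_pow (g : G) (n : ℕ) {a : A} (ha : a ∈ maximalIdeal A ^ n) :
    g • a ∈ maximalIdeal A ^ n := by
  have hle : Ideal.map (MulSemiringAction.toRingHom G A g) (maximalIdeal A) ≤ maximalIdeal A := by
    rw [Ideal.map_le_iff_le_comap]
    intro x hx
    show g • x ∈ maximalIdeal A
    exact smul_mem_maximalIdeal hx
  have h1 : (MulSemiringAction.toRingHom G A g) a ∈
      Ideal.map (MulSemiringAction.toRingHom G A g) (maximalIdeal A ^ n) :=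
    Ideal.mem_map_of_mem _ ha
  rw [Ideal.map_pow] at h1
  exact Ideal.pow_right_mono hle n h1

end Action

theorem ncard_range_le {α : Type*} {d : ℕ} (φ : Fin d → α) : (Set.range φ).ncard ≤ d := by
  calc (Set.range φ).ncard = (φ '' Set.univ).ncard := by rw [Set.image_univ]
    _ ≤ (Set.univ : Set (Fin d)).ncard := Set.ncard_image_le Set.finite_univ
    _ = d := by rw [Set.ncard_univ, Nat.card_eq_fintype_card, Fintype.card_fin]

section Avg

variable (k : Type u) [Field k] (A : Type u) [CommRing A] [Algebra k A]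
  (G : Type u) [Group G] [MulSemiringAction G A]

/-- The ideal defining the fixed locus. -/
def fixIdeal : Ideal A := Ideal.span {x : A | ∃ (g : G) (a : A), x = g • a - a}

theorem smul_sub_mem_fixIdeal (g : G) (a : A) : g • a - a ∈ fixIdeal A G :=
  Ideal.subset_span ⟨g, a, rfl⟩

variable [Finite G] [SMulCommClass G k A]

theorem exists_avg (hG : (Nat.card G : k) ≠ 0) :
    ∃ π : A →ₗ[k] A, (∀ (h : G) (a : A), h • π a = π a) ∧ (∀ a, a - π a ∈ fixIdeal A G) ∧
      (∀ a, (∀ g : G, g • a = a) → π a = a) ∧ (∀ (h : G) (a : A), π (h • a) = π a) ∧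
      (∀ P : A →ₗ[k] A, (∀ (h : G) (a : A), P (h • a) = h • P a) →
        ∀ a, π (P a) = P (π a)) := by
  classical
  cases nonempty_fintype G
  rw [Nat.card_eq_fintype_card] at hG
  let π : A →ₗ[k] A := (Fintype.card G : k)⁻¹ • ∑ g : G, DistribSMul.toLinearMap k A g
  have hπ : ∀ a, π a = (Fintype.card G : k)⁻¹ • ∑ g : G, g • a := by
    intro a
    simp [π, LinearMap.sum_apply]
  refine ⟨π, ?_, ?_, ?_, ?_, ?_⟩
  · intro h a
    rw [hπ, smul_comm, Finset.smul_sum]
    congr 1
    refine Fintype.sum_equiv (Equiv.mulLeft h) _ _ (fun g => ?_)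
    simp [mul_smul]
  · intro a
    have : a - π a = (Fintype.card G : k)⁻¹ • ∑ g : G, (a - g • a) := by
      rw [hπ, Finset.sum_sub_distrib, smul_sub, Finset.sum_const, Finset.card_univ,
        ← Nat.cast_smul_eq_nsmul k, inv_smul_smul₀ hG]
    rw [this]
    refine Submodule.smul_of_tower_mem _ _ (Ideal.sum_mem _ fun g _ => ?_)
    have h1 := smul_sub_mem_fixIdeal A G g a
    have e : a - g • a = -(g • a - a) := by ring
    rw [e]
    exact neg_mem h1
  · intro a ha
    rw [hπ]
    simp_rw [ha]
    rw [Finset.sum_const, Finset.card_univ, ← Nat.cast_smul_eq_nsmul k, inv_smul_smul₀ hG]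
  · intro h a
    rw [hπ, hπ]
    congr 1
    refine Fintype.sum_equiv (Equiv.mulRight h) _ _ (fun g => ?_)
    simp [mul_smul]
  · intro P hP a
    rw [hπ, hπ, map_smul, map_sum]
    congr 1
    exact Finset.sum_congr rfl fun g _ => (hP g a).symm

variable [IsLocalRing A]

theorem exists_proj₀ : ∃ P₀ : A →ₗ[k] A, (∀ a, P₀ a - a ∈ maximalIdeal A ^ 2) ∧
    (∀ a ∈ maximalIdeal A ^ 2, P₀ a = 0) := by
  obtain ⟨C, hC⟩ := Submodule.exists_isCompl ((maximalIdeal A ^ 2).restrictScalars k)
  refine ⟨C.projection _ hC.symm, ?_, ?_⟩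
  · intro a
    have h2 : a - C.projection _ hC.symm a ∈ (maximalIdeal A ^ 2).restrictScalars k :=
      Submodule.sub_projection_mem hC.symm a
    have h3 : a - C.projection _ hC.symm a ∈ maximalIdeal A ^ 2 := h2
    have := neg_mem h3
    rwa [neg_sub] at this
  · intro a ha
    exact Submodule.projection_apply_of_mem_right hC.symm ha

theorem exists_equivariant_proj (hG : (Nat.card G : k) ≠ 0) :
    ∃ P : A →ₗ[k] A, (∀ a, P a - a ∈ maximalIdeal A ^ 2) ∧
      (∀ a ∈ maximalIdeal A ^ 2, P a = 0) ∧ (∀ (h : G) (a : A), P (h • a) = h • P a) := by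
  classical
  obtain ⟨P₀, hP₀a, hP₀b⟩ := exists_proj₀ k A
  cases nonempty_fintype G
  rw [Nat.card_eq_fintype_card] at hG
  let T : G → (A →ₗ[k] A) := fun g =>
    DistribSMul.toLinearMap k A g ∘ₗ P₀ ∘ₗ DistribSMul.toLinearMap k A g⁻¹
  have hT : ∀ g a, T g a = g • P₀ (g⁻¹ • a) := fun g a => rfl
  let P : A →ₗ[k] A := (Fintype.card G : k)⁻¹ • ∑ g : G, T g
  have hP : ∀ a, P a = (Fintype.card G : k)⁻¹ • ∑ g : G, g • P₀ (g⁻¹ • a) := by
    intro a
    simp [P, LinearMap.sum_apply, hT]
  refine ⟨P, ?_, ?_, ?_⟩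
  · intro a
    have : P a - a = (Fintype.card G : k)⁻¹ • ∑ g : G, (g • P₀ (g⁻¹ • a) - a) := by
      rw [hP, Finset.sum_sub_distrib, smul_sub, Finset.sum_const, Finset.card_univ,
        ← Nat.cast_smul_eq_nsmul k, inv_smul_smul₀ hG]
    rw [this]
    refine Submodule.smul_of_tower_mem _ _ (Ideal.sum_mem _ fun g _ => ?_)
    have e : g • P₀ (g⁻¹ • a) - a = g • (P₀ (g⁻¹ • a) - g⁻¹ • a) := by
      rw [smul_sub, smul_inv_smul]
    rw [e]
    exact smul_mem_pow g 2 (hP₀a _)
  · intro a ha
    rw [hP]
    have : ∀ g : G, g • P₀ (g⁻¹ • a) = 0 := fun g => by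
      rw [hP₀b _ (smul_mem_pow g⁻¹ 2 ha), smul_zero]
    simp [this]
  · intro h a
    rw [hP, hP]
    have e : h • ((Fintype.card G : k)⁻¹ • ∑ g : G, g • P₀ (g⁻¹ • a)) =
        (Fintype.card G : k)⁻¹ • ∑ g : G, h • g • P₀ (g⁻¹ • a) := by
      rw [smul_comm, Finset.smul_sum]
    rw [e]
    congr 1
    refine Fintype.sum_equiv (Equiv.mulLeft h⁻¹) (fun g : G => g • P₀ (g⁻¹ • h • a))
      (fun g : G => h • g • P₀ (g⁻¹ • a)) (fun g => ?_)
    simp only [Equiv.coe_mulLeft, mul_inv_rev, inv_inv, mul_smul, smul_inv_smul]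

theorem exists_sub_mem (hres : Function.Surjective (algebraMap k (ResidueField A))) (a : A) :
    ∃ c : k, a - algebraMap k A c ∈ maximalIdeal A := by
  obtain ⟨c, hc⟩ := hres (residue A a)
  refine ⟨c, ?_⟩
  have h : residue A (a - algebraMap k A c) = 0 := by
    rw [map_sub, sub_eq_zero, ← hc]
    exact (IsScalarTower.algebraMap_apply k A (ResidueField A) c)
  exact (residue_eq_zero_iff _).mp h

end Avg

section S19448

theorem S19448_main (k : Type u) [Field k] (A : Type u) [CommRing A]
    [Algebra k A] [IsLocalRing A] [IsNoetherianRing A]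
    (hres : Function.Surjective (algebraMap k (IsLocalRing.ResidueField A)))
    (G : Type u) [Group G] [Finite G] [MulSemiringAction G A] [SMulCommClass G k A]
    (hG : (Nat.card G : k) ≠ 0) (g : G)
    (hg : ∀ a ∈ IsLocalRing.maximalIdeal A, g • a - a ∈ IsLocalRing.maximalIdeal A ^ 2) (a : A) :
    g • a = a := by
  obtain ⟨P, hPa, hPb, hPc⟩ := exists_equivariant_proj k A G hG
  have hfix : ∀ m ∈ maximalIdeal A, g • P m = P m := by
    intro m hm
    have : P (g • m - m) = 0 := hPb _ (hg m hm)
    rw [map_sub, hPc, sub_eq_zero] at this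
    exact this
  have key : ∀ n : ℕ, ∀ a : A, g • a - a ∈ maximalIdeal A ^ n := by
    intro n
    induction n with
    | zero => intro a; simp
    | succ n ih =>
      have hsq : ∀ m₂ ∈ maximalIdeal A ^ 2, g • m₂ - m₂ ∈ maximalIdeal A ^ (n + 1) := by
        intro m₂ hm₂
        rw [pow_two] at hm₂
        refine Submodule.mul_induction_on hm₂ ?_ ?_
        · intro x hx y hy
          have e : g • (x * y) - x * y = (g • x - x) * (g • y) + (g • y - y) * x := by
            rw [smul_mul']; ring
          rw [e, pow_succ]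
          exact Ideal.add_mem _ (Ideal.mul_mem_mul (ih x) (smul_mem_maximalIdeal hy))
            (Ideal.mul_mem_mul (ih y) hx)
        · intro x y hx hy
          have e : g • (x + y) - (x + y) = (g • x - x) + (g • y - y) := by
            rw [smul_add]; ring
          rw [e]; exact Ideal.add_mem _ hx hy
      intro a
      obtain ⟨c, hc⟩ := exists_sub_mem k A hres a
      have e1 : g • a - a = g • (a - algebraMap k A c) - (a - algebraMap k A c) := by
        rw [smul_sub, smul_algebraMap]; ring
      have e2 : g • (a - algebraMap k A c) - (a - algebraMap k A c) =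
          -(g • (P (a - algebraMap k A c) - (a - algebraMap k A c)) -
            (P (a - algebraMap k A c) - (a - algebraMap k A c))) := by
        simp only [smul_sub]
        rw [hfix _ hc]; ring
      rw [e1, e2]
      exact neg_mem (hsq _ (hPa _))
  have hbot := Ideal.iInf_pow_eq_bot_of_isLocalRing (maximalIdeal A)
    (Ideal.IsPrime.ne_top inferInstance)
  have hmem : g • a - a ∈ (⨅ i : ℕ, maximalIdeal A ^ i) := by
    rw [Ideal.mem_iInf]; intro n; exact key n a
  rw [hbot, Ideal.mem_bot, sub_eq_zero] at hmem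
  exact hmem

end S19448

section Split

/-- Linear algebra: a finite-dimensional subspace `W` stable under an idempotent `π` splits as
`ker ⊕ range`, with adapted finite spanning sets. -/
theorem exists_split {k V : Type u} [Field k] [AddCommGroup V] [Module k V] (W : Submodule k V)
    [FiniteDimensional k W] (π : V →ₗ[k] V) (hπW : ∀ w ∈ W, π w ∈ W)
    (hidem : ∀ w ∈ W, π (π w) = π w) :
    ∃ S T : Set V, S.Finite ∧ T.Finite ∧ S.ncard + T.ncard ≤ Module.finrank k W ∧
      (∀ x ∈ S, x ∈ W ∧ π x = 0) ∧ (∀ x ∈ T, x ∈ W) ∧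
      (∀ w ∈ W, π w = 0 → w ∈ Submodule.span k S) ∧
      (∀ w ∈ W, w ∈ Submodule.span k (S ∪ T)) := by
  classical
  let f : W →ₗ[k] W := π.restrict hπW
  let f' : W →ₗ[k] LinearMap.range f := f.rangeRestrict
  have hf'coe : ∀ w : W, ((f' w : W) : V) = π (w : V) := fun w => rfl
  have hf' : ∀ x : LinearMap.range f, f' x = x := by
    rintro ⟨x, w, rfl⟩
    apply Subtype.ext
    apply Subtype.ext
    show π (π (w : V)) = π (w : V)
    exact hidem _ w.2
  have hcompl : IsCompl (LinearMap.range f) (LinearMap.ker f') := LinearMap.isCompl_of_proj hf'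
  have hrank := Submodule.finrank_add_eq_of_isCompl hcompl
  let bp := Module.finBasis k (LinearMap.range f)
  let bq := Module.finBasis k (LinearMap.ker f')
  let ιp : LinearMap.range f →ₗ[k] V := W.subtype ∘ₗ (LinearMap.range f).subtype
  let ιq : LinearMap.ker f' →ₗ[k] V := W.subtype ∘ₗ (LinearMap.ker f').subtype
  have hp_mem : ∀ y : LinearMap.range f,
      ιp y ∈ Submodule.span k (Set.range fun i => ιp (bp i)) := by
    intro y
    have h := congrArg ιp (bp.sum_repr y)
    rw [map_sum] at h
    simp only [map_smul] at h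
    rw [← h]
    exact Submodule.sum_mem _ fun i _ =>
      Submodule.smul_mem _ _ (Submodule.subset_span ⟨i, rfl⟩)
  have hq_mem : ∀ z : LinearMap.ker f',
      ιq z ∈ Submodule.span k (Set.range fun j => ιq (bq j)) := by
    intro z
    have h := congrArg ιq (bq.sum_repr z)
    rw [map_sum] at h
    simp only [map_smul] at h
    rw [← h]
    exact Submodule.sum_mem _ fun j _ =>
      Submodule.smul_mem _ _ (Submodule.subset_span ⟨j, rfl⟩)
  refine ⟨Set.range (fun j => ιq (bq j)), Set.range (fun i => ιp (bp i)),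
    Set.finite_range _, Set.finite_range _, ?_, ?_, ?_, ?_, ?_⟩
  · have h1 := ncard_range_le (fun j => ιq (bq j))
    have h2 := ncard_range_le (fun i => ιp (bp i))
    omega
  · rintro _ ⟨j, rfl⟩
    refine ⟨((bq j : LinearMap.ker f') : W).2, ?_⟩
    have h0 : f' ((bq j : LinearMap.ker f') : W) = 0 := (bq j).2
    have h1 := congrArg (fun z : LinearMap.range f => ((z : W) : V)) h0
    exact h1
  · rintro _ ⟨i, rfl⟩
    exact ((bp i : LinearMap.range f) : W).2
  · intro w hw hπw
    have hk : (⟨w, hw⟩ : W) ∈ LinearMap.ker f' := by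
      rw [LinearMap.mem_ker]
      apply Subtype.ext
      apply Subtype.ext
      exact hπw
    exact hq_mem ⟨⟨w, hw⟩, hk⟩
  · intro w hw
    have hk : (⟨w, hw⟩ : W) - ((f' ⟨w, hw⟩ : LinearMap.range f) : W) ∈ LinearMap.ker f' := by
      rw [LinearMap.mem_ker, map_sub, hf', sub_self]
    have e : w = ιp (f' ⟨w, hw⟩) +
        ιq ⟨(⟨w, hw⟩ : W) - ((f' ⟨w, hw⟩ : LinearMap.range f) : W), hk⟩ := by
      show w = π w + (w - π w)
      abel
    rw [e]
    exact add_mem (Submodule.span_mono Set.subset_union_right (hp_mem _))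
      (Submodule.span_mono Set.subset_union_left (hq_mem _))

end Split

section Regular

theorem isRegularLocalRing_quotient_span (R : Type u) [CommRing R] [IsRegularLocalRing R]
    (S T : Set R) (hS : S.Finite) (hT : T.Finite)
    (hspan : Ideal.span (S ∪ T) = maximalIdeal R)
    (hcard : S.ncard + T.ncard ≤ (maximalIdeal R).spanFinrank) :
    IsRegularLocalRing (R ⧸ Ideal.span S) := by
  classical
  have hSm : S ⊆ (maximalIdeal R : Set R) := fun x hx => by
    have : x ∈ Ideal.span (S ∪ T) := Ideal.subset_span (Set.mem_union_left _ hx)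
    rwa [hspan] at this
  have hle : Ideal.span S ≤ maximalIdeal R := Ideal.span_le.mpr hSm
  have hne : Ideal.span S ≠ ⊤ := fun h => by
    rw [h] at hle
    exact (maximalIdeal.isMaximal R).ne_top (top_le_iff.mp hle)
  haveI : IsLocalRing (R ⧸ Ideal.span S) := Groth.Agent.RegularLib.isLocalRing_quotient _ hne
  have hm' : maximalIdeal (R ⧸ Ideal.span S) =
      Ideal.span ((Ideal.Quotient.mk (Ideal.span S)) '' T) := by
    rw [← IsLocalRing.map_maximalIdeal_of_surjective (Ideal.Quotient.mk (Ideal.span S))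
      Ideal.Quotient.mk_surjective, ← hspan, Ideal.map_span, Set.image_union, Ideal.span_union]
    have : Ideal.span ((Ideal.Quotient.mk (Ideal.span S)) '' S) = ⊥ := by
      rw [Ideal.span_eq_bot]
      rintro _ ⟨x, hx, rfl⟩
      exact Ideal.Quotient.eq_zero_iff_mem.mpr (Ideal.subset_span hx)
    rw [this, bot_sup_eq]
  have h1 : (maximalIdeal (R ⧸ Ideal.span S)).spanFinrank ≤ T.ncard := by
    rw [hm']
    calc _ ≤ ((Ideal.Quotient.mk (Ideal.span S)) '' T).ncard :=
          Submodule.spanFinrank_span_le_ncard_of_finite (hT.image _)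
      _ ≤ T.ncard := Set.ncard_image_le hT
  have h2 : ringKrullDim (R ⧸ Ideal.span S) ≤
      (maximalIdeal (R ⧸ Ideal.span S)).spanFinrank :=
    ringKrullDim_le_spanFinrank_maximalIdeal _
  have h3 : ringKrullDim R ≤ ringKrullDim (R ⧸ Ideal.span S) + ((S.ncard : ℕ∞) : WithBot ℕ∞) := by
    have := ringKrullDim_le_ringKrullDim_quotient_add_encard S (by
      intro y hy
      rw [IsLocalRing.ringJacobson_eq_maximalIdeal]
      exact hSm hy)
    rwa [← hS.cast_ncard_eq] at this
  have h4 := Groth.Agent.RegularLib.spanFinrank_eq_dim R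
  obtain ⟨k', hk, hke⟩ :=
    Groth.Agent.RegularLib.exists_nat_eq_of_le ringKrullDim_nonneg_of_nontrivial h2
  rw [hk] at h3
  rw [← h4] at h3
  have h5 : (maximalIdeal R).spanFinrank ≤ k' + S.ncard := by exact_mod_cast h3
  refine IsRegularLocalRing.of_spanFinrank_maximalIdeal_le _ ?_
  rw [hk]
  have : (maximalIdeal (R ⧸ Ideal.span S)).spanFinrank ≤ k' := by omega
  exact_mod_cast this

end Regular

section W

variable {k : Type u} [Field k] {A : Type u} [CommRing A] [Algebra k A] [IsLocalRing A]
  {G : Type u} [Group G] [MulSemiringAction G A]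

/-- `W = P(m)` as a `k`-subspace. -/
def Wsp (P : A →ₗ[k] A) : Submodule k A :=
  Submodule.map P ((maximalIdeal A).restrictScalars k)

theorem mem_Wsp_iff (P : A →ₗ[k] A) {w : A} : w ∈ Wsp P ↔ ∃ m ∈ maximalIdeal A, P m = w := by
  simp [Wsp, Submodule.mem_map]

theorem P_mem_max (P : A →ₗ[k] A) (hPa : ∀ a, P a - a ∈ maximalIdeal A ^ 2) {m : A}
    (hm : m ∈ maximalIdeal A) : P m ∈ maximalIdeal A := by
  have h1 : P m - m ∈ maximalIdeal A := Ideal.pow_le_self two_ne_zero (hPa m)
  have := Ideal.add_mem _ h1 hm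
  rwa [sub_add_cancel] at this

theorem Wsp_le_max (P : A →ₗ[k] A) (hPa : ∀ a, P a - a ∈ maximalIdeal A ^ 2) {w : A}
    (hw : w ∈ Wsp P) : w ∈ maximalIdeal A := by
  obtain ⟨m, hm, rfl⟩ := (mem_Wsp_iff P).mp hw
  exact P_mem_max P hPa hm

theorem P_eq_self (P : A →ₗ[k] A) (hPa : ∀ a, P a - a ∈ maximalIdeal A ^ 2)
    (hPb : ∀ a ∈ maximalIdeal A ^ 2, P a = 0) {w : A} (hw : w ∈ Wsp P) : P w = w := by
  obtain ⟨m, hm, rfl⟩ := (mem_Wsp_iff P).mp hw
  have h := hPb _ (hPa m)
  rw [map_sub, sub_eq_zero] at h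
  exact h

theorem smul_mem_Wsp (P : A →ₗ[k] A) (hPc : ∀ (h : G) (a : A), P (h • a) = h • P a) (g : G)
    {w : A} (hw : w ∈ Wsp P) : g • w ∈ Wsp P := by
  obtain ⟨m, hm, rfl⟩ := (mem_Wsp_iff P).mp hw
  exact (mem_Wsp_iff P).mpr ⟨g • m, smul_mem_maximalIdeal hm, hPc g m⟩

theorem span_Wsp_eq [IsNoetherianRing A] (P : A →ₗ[k] A)
    (hPa : ∀ a, P a - a ∈ maximalIdeal A ^ 2) :
    Ideal.span (Wsp P : Set A) = maximalIdeal A := by
  apply le_antisymm
  · exact Ideal.span_le.mpr fun w hw => Wsp_le_max P hPa hw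
  · have hjac : maximalIdeal A ≤ Ideal.jacobson ⊥ :=
      (IsLocalRing.jacobson_eq_maximalIdeal ⊥ bot_ne_top).ge
    refine Submodule.le_of_le_smul_of_le_jacobson_bot (IsNoetherian.noetherian _) hjac ?_
    intro m hm
    have e : m = P m + (m - P m) := by ring
    rw [e]
    refine Submodule.add_mem_sup (Ideal.subset_span ((mem_Wsp_iff P).mpr ⟨m, hm, rfl⟩)) ?_
    have h2 : m - P m ∈ maximalIdeal A ^ 2 := by
      have := neg_mem (hPa m)
      rwa [neg_sub] at this
    rwa [pow_two] at h2

variable (k)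

theorem fixIdeal_le_max (hres : Function.Surjective (algebraMap k (ResidueField A)))
    [SMulCommClass G k A] : fixIdeal A G ≤ maximalIdeal A := by
  refine Ideal.span_le.mpr ?_
  rintro _ ⟨g, a, rfl⟩
  obtain ⟨c, hc⟩ := exists_sub_mem k A hres a
  have e : g • a - a = g • (a - algebraMap k A c) - (a - algebraMap k A c) := by
    rw [smul_sub, smul_algebraMap]; ring
  show g • a - a ∈ maximalIdeal A
  rw [e]
  exact Ideal.sub_mem _ (smul_mem_maximalIdeal hc) hc

theorem fixIdeal_le_of_generators [IsNoetherianRing A] [SMulCommClass G k A]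
    (hres : Function.Surjective (algebraMap k (ResidueField A)))
    (I : Ideal A) (X : Set A) (hX : Ideal.span X = maximalIdeal A)
    (hI : ∀ (g : G), ∀ x ∈ X, g • x - x ∈ I) : fixIdeal A G ≤ I := by
  have hjac : maximalIdeal A ≤ Ideal.jacobson ⊥ :=
    (IsLocalRing.jacobson_eq_maximalIdeal ⊥ bot_ne_top).ge
  have key : ∀ (g : G) (m : A), m ∈ Ideal.span X →
      g • m - m ∈ I ⊔ maximalIdeal A • fixIdeal A G := by
    intro g m hm
    induction hm using Submodule.span_induction with
    | mem x hx => exact Submodule.mem_sup_left (hI g x hx)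
    | zero => simp
    | add x y _ _ ihx ihy =>
      have e : g • (x + y) - (x + y) = (g • x - x) + (g • y - y) := by rw [smul_add]; ring
      rw [e]; exact add_mem ihx ihy
    | smul a x hx ih =>
      have e : g • (a • x) - a • x = (g • x) * (g • a - a) + a * (g • x - x) := by
        rw [smul_eq_mul, smul_mul']; ring
      rw [e]
      refine add_mem (Submodule.mem_sup_right ?_) (Ideal.mul_mem_left _ _ ih)
      have hgx : g • x ∈ maximalIdeal A := smul_mem_maximalIdeal (by rw [← hX]; exact hx)
      exact Submodule.smul_mem_smul hgx (smul_sub_mem_fixIdeal A G g a)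
  refine Submodule.le_of_le_smul_of_le_jacobson_bot (IsNoetherian.noetherian _) hjac ?_
  refine Ideal.span_le.mpr ?_
  rintro _ ⟨g, a, rfl⟩
  obtain ⟨c, hc⟩ := exists_sub_mem k A hres a
  have e : g • a - a = g • (a - algebraMap k A c) - (a - algebraMap k A c) := by
    rw [smul_sub, smul_algebraMap]; ring
  show g • a - a ∈ I ⊔ maximalIdeal A • fixIdeal A G
  rw [e]
  exact key g _ (by rw [hX]; exact hc)

theorem Wsp_le_span [DecidableEq A]
    (hres : Function.Surjective (algebraMap k (ResidueField A)))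
    (P : A →ₗ[k] A) (hPb : ∀ a ∈ maximalIdeal A ^ 2, P a = 0) (s : Finset A)
    (hs : Submodule.span A (s : Set A) = maximalIdeal A) :
    Wsp P ≤ Submodule.span k ((s.image P : Finset A) : Set A) := by
  classical
  intro w hw
  obtain ⟨m, hm, rfl⟩ := (mem_Wsp_iff P).mp hw
  have key : ∀ m : A, m ∈ Submodule.span A (s : Set A) →
      P m ∈ Submodule.span k ((s.image P : Finset A) : Set A) := by
    intro m hm
    induction hm using Submodule.span_induction with
    | mem x hx =>
      exact Submodule.subset_span (by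
        rw [Finset.coe_image]; exact ⟨x, hx, rfl⟩)
    | zero => simp
    | add x y _ _ ihx ihy => rw [map_add]; exact add_mem ihx ihy
    | smul a x hx ih =>
      obtain ⟨c, hc⟩ := exists_sub_mem k A hres a
      have hxm : x ∈ maximalIdeal A := by rw [← hs]; exact hx
      have e : a • x = c • x + (a - algebraMap k A c) * x := by
        rw [smul_eq_mul, Algebra.smul_def]; ring
      have h0 : P ((a - algebraMap k A c) * x) = 0 := by
        apply hPb
        rw [pow_two]
        exact Ideal.mul_mem_mul hc hxm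
      rw [e, map_add, map_smul, h0, add_zero]
      exact Submodule.smul_mem _ _ ih
  exact key m (by rw [hs]; exact hm)

theorem avg_mem_max [SMulCommClass G k A]
    (hres : Function.Surjective (algebraMap k (ResidueField A)))
    (π : A →ₗ[k] A) (hπ2 : ∀ a, a - π a ∈ fixIdeal A G) {m : A} (hm : m ∈ maximalIdeal A) :
    π m ∈ maximalIdeal A := by
  have h1 : m - π m ∈ maximalIdeal A := fixIdeal_le_max k hres (hπ2 m)
  have := Ideal.sub_mem _ hm h1
  rwa [sub_sub_cancel] at this

end W

section Main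

theorem S19445_main (k : Type u) [Field k] (A : Type u) [CommRing A]
    [Algebra k A] [IsRegularLocalRing A]
    (hres : Function.Surjective (algebraMap k (IsLocalRing.ResidueField A)))
    (G : Type u) [Group G] [Finite G] [MulSemiringAction G A] [SMulCommClass G k A]
    (hG : (Nat.card G : k) ≠ 0) :
    IsRegularLocalRing (A ⧸ Ideal.span {x : A | ∃ (g : G) (a : A), x = g • a - a}) := by
  classical
  obtain ⟨P, hPa, hPb, hPc⟩ := exists_equivariant_proj k A G hG
  obtain ⟨π, hπ1, hπ2, hπ3, hπ4, hπ6⟩ := exists_avg k A G hG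
  have hπP := hπ6 P hPc
  obtain ⟨s, hscard, hsspan⟩ := Submodule.FG.exists_span_finset_card_eq_spanFinrank
    (IsNoetherian.noetherian (maximalIdeal A))
  have hWV := Wsp_le_span k hres P hPb s hsspan
  haveI : FiniteDimensional k (Wsp P) := Submodule.finiteDimensional_of_le hWV
  have hWrank : Module.finrank k (Wsp P) ≤ (maximalIdeal A).spanFinrank := by
    calc Module.finrank k (Wsp P)
        ≤ Module.finrank k (Submodule.span k ((s.image P : Finset A) : Set A)) :=
          Submodule.finrank_mono hWV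
      _ ≤ (s.image P).card := finrank_span_finset_le_card _
      _ ≤ s.card := Finset.card_image_le
      _ = _ := hscard
  have hπW : ∀ w ∈ Wsp P, π w ∈ Wsp P := by
    intro w hw
    obtain ⟨m, hm, rfl⟩ := (mem_Wsp_iff P).mp hw
    rw [hπP]
    exact (mem_Wsp_iff P).mpr ⟨π m, avg_mem_max k hres π hπ2 hm, rfl⟩
  have hidem : ∀ w ∈ Wsp P, π (π w) = π w := fun w _ => hπ3 (π w) (fun g => hπ1 g w)
  obtain ⟨S, T, hSfin, hTfin, hcard, hS, hT, hker, hall⟩ := exists_split (Wsp P) π hπW hidem
  have hSJ : Ideal.span S ≤ fixIdeal A G := by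
    refine Ideal.span_le.mpr fun x hx => ?_
    have := hπ2 x
    rwa [(hS x hx).2, sub_zero] at this
  have hkS : ∀ (X : Set A) (x : A), x ∈ Submodule.span k X → x ∈ Ideal.span X := fun X x hx =>
    Submodule.span_le_restrictScalars k A X hx
  have hspan : Ideal.span (S ∪ T) = maximalIdeal A := by
    apply le_antisymm
    · refine Ideal.span_le.mpr ?_
      rintro x (hx | hx)
      · exact Wsp_le_max P hPa (hS x hx).1
      · exact Wsp_le_max P hPa (hT x hx)
    · rw [← span_Wsp_eq P hPa]
      exact Ideal.span_le.mpr fun w hw => hkS _ _ (hall w hw)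
  have hgS : ∀ (g : G), ∀ x ∈ S ∪ T, g • x - x ∈ Ideal.span S := by
    intro g x hx
    have hxW : x ∈ Wsp P := by
      rcases hx with hx | hx
      · exact (hS x hx).1
      · exact hT x hx
    have hv : g • x - x ∈ Wsp P := sub_mem (smul_mem_Wsp P hPc g hxW) hxW
    have hπv : π (g • x - x) = 0 := by rw [map_sub, hπ4, sub_self]
    exact hkS _ _ (hker _ hv hπv)
  have hJ : fixIdeal A G = Ideal.span S :=
    le_antisymm (fixIdeal_le_of_generators k hres _ _ hspan hgS) hSJ
  have hfinal : IsRegularLocalRing (A ⧸ Ideal.span S) :=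
    isRegularLocalRing_quotient_span A S T hSfin hTfin hspan (hcard.trans hWrank)
  have hJ' : Ideal.span {x : A | ∃ (g : G) (a : A), x = g • a - a} = Ideal.span S := hJ
  rw [hJ']
  exact hfinal

end Main

end Groth.Agent.Lib.FixedLocusH4
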