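import Mathlib
import Groth.Prelude.Def_CAlg
import Groth.Agent.Lib.DepthTensor_helper5
import Groth.Agent.Lib.CM_helper5

/-!
# Lifting regular sequences from the closed fibre (helper5)

For a local homomorphism `R → S` of Noetherian local rings and a finite `S`-module `N` flat over
`R`: a sequence in `S` which is weakly regular on `N / m_R N` is weakly regular on `N`.
Application: `depth_I S ≥ dim F - dim F/IF` when the closed fibre `F` is Cohen–Macaulay.
-/

set_option autoImplicit false
universe u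

namespace Groth.Agent.FibreLift

open TensorProduct IsLocalRing Pointwise RingTheory.Sequence Groth.Agent.DepthLib
  Groth.Agent.DepthTensor

section FibQuot

variable {R S : Type u} [CommRing R] [CommRing S] [IsLocalRing R] [IsLocalRing S]
  [IsNoetherianRing S] [Algebra R S]
  (N : Type u) [AddCommGroup N] [Module S N] [Module.Finite S N]

/-- the comparison map `Fib N → Fib (N/yN)` -/
noncomputable def fibMap (y : S) : Fib R S N →ₗ[S] Fib R S (QuotSMulTop y N) :=
  Submodule.mapQ _ _ (Submodule.mkQ (y • (⊤ : Submodule S N))) (by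
    rw [← Submodule.map_le_iff_le_comap, Submodule.map_smul'', Submodule.map_top,
      Submodule.range_mkQ])

theorem fibMap_mk (y : S) (n : N) :
    fibMap (R := R) N y (Submodule.Quotient.mk n) =
      Submodule.Quotient.mk (Submodule.Quotient.mk n : QuotSMulTop y N) := rfl

theorem fibMap_surjective (y : S) : Function.Surjective (fibMap (R := R) N y) := by
  intro z
  obtain ⟨z', rfl⟩ := Submodule.mkQ_surjective _ z
  obtain ⟨n, rfl⟩ := Submodule.mkQ_surjective _ z'
  exact ⟨Submodule.Quotient.mk n, rfl⟩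

theorem fibMap_exact (y : S) :
    Function.Exact (y • LinearMap.id : Fib R S N →ₗ[S] Fib R S N) (fibMap (R := R) N y) := by
  set I : Ideal S := (maximalIdeal R).map (algebraMap R S) with hI
  let q : N →ₗ[S] QuotSMulTop y N := Submodule.mkQ (y • (⊤ : Submodule S N))
  have hmap : (I • (⊤ : Submodule S N)).map q = I • (⊤ : Submodule S (QuotSMulTop y N)) := by
    rw [Submodule.map_smul'', Submodule.map_top, Submodule.range_mkQ]
  intro z
  obtain ⟨n, rfl⟩ := Submodule.mkQ_surjective _ z
  constructor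
  · intro hz
    have h1 : q n ∈ I • (⊤ : Submodule S (QuotSMulTop y N)) := by
      rw [← Submodule.Quotient.mk_eq_zero]; exact hz
    rw [← hmap] at h1
    obtain ⟨n₀, hn₀, hn₀'⟩ := h1
    have h3 : n₀ - n ∈ y • (⊤ : Submodule S N) := by
      rw [← Submodule.Quotient.mk_eq_zero, Submodule.Quotient.mk_sub, sub_eq_zero]
      exact hn₀'
    obtain ⟨n₁, _, hn₁⟩ := (Submodule.mem_smul_pointwise_iff_exists _ _ _).1 h3
    refine ⟨(Submodule.Quotient.mk (-n₁) : Fib R S N), ?_⟩
    show y • (Submodule.Quotient.mk (-n₁) : Fib R S N) = (Submodule.Quotient.mk n : Fib R S N)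
    rw [← Submodule.Quotient.mk_smul, smul_neg, hn₁, neg_sub, eq_comm,
      ← sub_eq_zero, ← Submodule.Quotient.mk_sub, Submodule.Quotient.mk_eq_zero]
    simpa using hn₀
  · rintro ⟨z', hz'⟩
    obtain ⟨n', rfl⟩ := Submodule.mkQ_surjective _ z'
    rw [← hz']
    show fibMap (R := R) N y (y • (Submodule.Quotient.mk n' : Fib R S N)) = 0
    rw [map_smul]
    show y • (Submodule.Quotient.mk (q n') : Fib R S (QuotSMulTop y N)) = 0
    rw [← Submodule.Quotient.mk_smul, Submodule.Quotient.mk_eq_zero, ← map_smul]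
    have : q (y • n') = 0 := by
      show Submodule.Quotient.mk (y • n') = 0
      rw [Submodule.Quotient.mk_eq_zero]
      exact Submodule.smul_mem_pointwise_smul _ _ _ Submodule.mem_top
    rw [this]
    exact zero_mem _

/-- `Fib(N)/y Fib(N) ≅ Fib(N/yN)` -/
noncomputable def fibQuotEquiv (y : S) :
    QuotSMulTop y (Fib R S N) ≃ₗ[S] Fib R S (QuotSMulTop y N) :=
  quotSMulTopEquivOfExact (Fib R S N) (Fib R S (QuotSMulTop y N)) (fibMap (R := R) N y)
    (fibMap_surjective N y) (fibMap_exact N y)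

end FibQuot

section Lift

variable {R S : Type u} [CommRing R] [CommRing S] [IsLocalRing R] [IsLocalRing S]
  [IsNoetherianRing R] [IsNoetherianRing S] [Algebra R S] [IsLocalHom (algebraMap R S)]

/-- a sequence weakly regular on the closed fibre of a flat module is weakly regular on the
module, and the quotient stays flat -/
theorem isWeaklyRegular_of_fib (ys : List S) :
    ∀ (N : Type u) [AddCommGroup N] [Module S N] [Module R N] [IsScalarTower R S N]
      [Module.Finite S N] [Module.Flat R N],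
      IsWeaklyRegular (Fib R S N) ys →
        IsWeaklyRegular N ys ∧ Module.Flat R (N ⧸ (Ideal.ofList ys • (⊤ : Submodule S N))) := by
  induction ys with
  | nil =>
    intro N _ _ _ _ _ _ _
    refine ⟨IsWeaklyRegular.nil S N, ?_⟩
    have h : (Ideal.ofList ([] : List S) • (⊤ : Submodule S N)) = ⊥ := by
      rw [Ideal.ofList_nil, Submodule.bot_smul]
    let e : (N ⧸ (Ideal.ofList ([] : List S) • (⊤ : Submodule S N))) ≃ₗ[R] N :=
      ((Submodule.quotEquivOfEqBot _ h).restrictScalars R)
    exact Module.Flat.of_linearEquiv e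
  | cons y ys ih =>
    intro N _ _ _ _ _ _ h
    rw [isWeaklyRegular_cons_iff] at h ⊢
    obtain ⟨h1, h2⟩ := h
    haveI := flat_quotSMulTop N h1
    have h3 := ih (QuotSMulTop y N) (((fibQuotEquiv N y).isWeaklyRegular_congr ys).1 h2)
    refine ⟨⟨fun a b hab => smulR_injective N h1 hab, h3.1⟩, ?_⟩
    haveI := h3.2
    let e : (N ⧸ (Ideal.ofList (y :: ys) • (⊤ : Submodule S N))) ≃ₗ[R]
        (QuotSMulTop y N ⧸ (Ideal.ofList ys • (⊤ : Submodule S (QuotSMulTop y N)))) :=
      (Submodule.quotOfListConsSMulTopEquivQuotSMulTopInner N y ys).restrictScalars R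
    exact Module.Flat.of_linearEquiv e

end Lift

section CMFibre

theorem exists_lift_list {A : Type u} [CommRing A] (J I : Ideal A) (l : List (A ⧸ J))
    (hl : ∀ x ∈ l, x ∈ I.map (Ideal.Quotient.mk J)) :
    ∃ l' : List A, (∀ x ∈ l', x ∈ I) ∧ l'.map (Ideal.Quotient.mk J) = l := by
  induction l with
  | nil => exact ⟨[], by simp, rfl⟩
  | cons x l ih =>
    obtain ⟨l', h1, h2⟩ := ih (fun z hz => hl z (List.mem_cons_of_mem _ hz))
    have hx := hl x List.mem_cons_self
    rw [Ideal.mem_map_iff_of_surjective _ Ideal.Quotient.mk_surjective] at hx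
    obtain ⟨a, ha, rfl⟩ := hx
    refine ⟨a :: l', ?_, ?_⟩
    · intro z hz
      rcases List.mem_cons.1 hz with rfl | hz
      · exact ha
      · exact h1 z hz
    · rw [List.map_cons, h2]

variable (R : Type u) [CommRing R] [IsLocalRing R] [IsNoetherianRing R] (S : Type u) [CommRing S]
  [IsLocalRing S] [IsNoetherianRing S] [Algebra R S] [IsLocalHom (algebraMap R S)]
  [Module.Flat R S]

/-- the closed fibre ring as an `S`-module is `Fib R S S` -/
noncomputable def fibRingEquiv :
    (S ⧸ (maximalIdeal R).map (algebraMap R S)) ≃ₗ[S] Fib R S S :=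
  Submodule.quotEquivOfEq _ _ (by
    rw [smul_eq_mul, Ideal.mul_top])

/-- an `F`-regular sequence in `IF` lifts to an `S`-regular sequence in `I` -/
theorem le_idealDepth_of_fibre (I : Ideal S) (hI : I ≠ ⊤) (n : ℕ)
    (h : (n : ℕ∞) ≤ LocCoh.idealDepth
      (I.map (Ideal.Quotient.mk ((maximalIdeal R).map (algebraMap R S))))
      (S ⧸ (maximalIdeal R).map (algebraMap R S))) :
    (n : ℕ∞) ≤ LocCoh.idealDepth I S := by
  set J := (maximalIdeal R).map (algebraMap R S) with hJ
  have hJle : J ≤ maximalIdeal S := map_maximalIdeal_le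
  have hIle : I ≤ maximalIdeal S := IsLocalRing.le_maximalIdeal hI
  rw [le_idealDepth_iff] at h ⊢
  rcases h with h | ⟨rs, hreg, hmem, hlen⟩
  · exfalso
    rw [smul_eq_mul, Ideal.mul_top] at h
    have h1 : (1 : S ⧸ J) ∈ I.map (Ideal.Quotient.mk J) := by rw [h]; trivial
    rw [Ideal.mem_map_iff_of_surjective _ Ideal.Quotient.mk_surjective] at h1
    obtain ⟨a, ha, ha1⟩ := h1
    have h2 : a - 1 ∈ J := by
      rw [← Ideal.Quotient.eq_zero_iff_mem, map_sub, ha1, map_one, sub_self]
    have h3 : (1 : S) ∈ maximalIdeal S := by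
      have := (maximalIdeal S).sub_mem (hIle ha) (hJle h2)
      simpa using this
    exact (Ideal.ne_top_iff_one _).1 (IsLocalRing.maximalIdeal.isMaximal S).ne_top h3
  · right
    obtain ⟨ys, hys, hmap⟩ := exists_lift_list J I rs hmem
    refine ⟨ys, ?_, hys, ?_⟩
    · have h1 : IsWeaklyRegular (S ⧸ J) ys := by
        rw [← isWeaklyRegular_map_algebraMap_iff (S ⧸ J) (S ⧸ J) ys]
        rw [Ideal.Quotient.algebraMap_eq, hmap]
        exact hreg
      have h2 : IsWeaklyRegular (Fib R S S) ys :=
        ((fibRingEquiv R S).isWeaklyRegular_congr ys).1 h1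
      exact (isWeaklyRegular_of_fib ys S h2).1
    · rw [← hlen, ← hmap, List.length_map]

end CMFibre

section Main

variable (R : Type u) [CommRing R] [IsLocalRing R] [IsNoetherianRing R] (S : Type u) [CommRing S]
  [IsLocalRing S] [IsNoetherianRing S] [Algebra R S] [IsLocalHom (algebraMap R S)]
  [Module.Flat R S]

theorem map_mk_ne_top (I : Ideal S) (hI : I ≠ ⊤) :
    I.map (Ideal.Quotient.mk ((maximalIdeal R).map (algebraMap R S))) ≠ ⊤ := by
  set J := (maximalIdeal R).map (algebraMap R S) with hJ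
  have hJle : J ≤ maximalIdeal S := map_maximalIdeal_le
  have hIle : I ≤ maximalIdeal S := IsLocalRing.le_maximalIdeal hI
  intro h
  have h1 : (1 : S ⧸ J) ∈ I.map (Ideal.Quotient.mk J) := by rw [h]; trivial
  rw [Ideal.mem_map_iff_of_surjective _ Ideal.Quotient.mk_surjective] at h1
  obtain ⟨a, ha, ha1⟩ := h1
  have h2 : a - 1 ∈ J := by
    rw [← Ideal.Quotient.eq_zero_iff_mem, map_sub, ha1, map_one, sub_self]
  have h3 : (1 : S) ∈ maximalIdeal S := by
    have := (maximalIdeal S).sub_mem (hIle ha) (hJle h2)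
    simpa using this
  exact (Ideal.ne_top_iff_one _).1 (IsLocalRing.maximalIdeal.isMaximal S).ne_top h3

/-- **`depth_I S ≥ dim F - dim F/IF`** for a flat local homomorphism with Cohen–Macaulay closed
fibre `F`. -/
theorem dim_fibre_le
    (hCM : LocCoh.IsCohenMacaulayLocalRing (S ⧸ (maximalIdeal R).map (algebraMap R S)))
    (I : Ideal S) (hI : I ≠ ⊤) :
    ringKrullDim (S ⧸ (maximalIdeal R).map (algebraMap R S)) ≤
      ringKrullDim (S ⧸ ((maximalIdeal R).map (algebraMap R S) ⊔ I)) +
        ((LocCoh.idealDepth I S : ℕ∞) : WithBot ℕ∞) := by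
  set J := (maximalIdeal R).map (algebraMap R S) with hJ
  haveI := hCM
  haveI : IsNoetherianRing (S ⧸ J) := inferInstance
  haveI : IsLocalRing (S ⧸ J) := inferInstance
  set I' := I.map (Ideal.Quotient.mk J) with hI'
  have hI'ne : I' ≠ ⊤ := map_mk_ne_top R S I hI
  have hsm : I' • (⊤ : Submodule (S ⧸ J) (S ⧸ J)) ≠ ⊤ := by
    rw [smul_eq_mul, Ideal.mul_top]; exact hI'ne
  have hfin := idealDepth_ne_top I' (S ⧸ J) hsm
  obtain ⟨n, hn⟩ := ENat.ne_top_iff_exists.1 hfin
  have hCMmod : LocCoh.IsCohenMacaulayModule (S ⧸ J) (S ⧸ J) := hCM.supportDim_eq_depth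
  have key := supportDim_eq_add_idealDepth_of_isCM I' hI'ne n (S ⧸ J) hCMmod hn.symm
  rw [Module.supportDim_self_eq_ringKrullDim] at key
  have e1 : Module.supportDim (S ⧸ J) ((S ⧸ J) ⧸ (I' • (⊤ : Submodule (S ⧸ J) (S ⧸ J)))) =
      ringKrullDim ((S ⧸ J) ⧸ I') := by
    rw [← Module.supportDim_quotient_eq_ringKrullDim]
    exact Module.supportDim_eq_of_equiv
      (Submodule.quotEquivOfEq _ _ (by rw [smul_eq_mul, Ideal.mul_top]))
  have e2 : ringKrullDim ((S ⧸ J) ⧸ I') = ringKrullDim (S ⧸ (J ⊔ I)) :=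
    ringKrullDim_eq_of_ringEquiv (DoubleQuot.quotQuotEquivQuotSup J I)
  rw [key, e1, e2]
  have hle := le_idealDepth_of_fibre R S I hI n (by rw [hn])
  exact add_le_add_right (WithBot.coe_le_coe.2 hle) _

end Main

end Groth.Agent.FibreLift
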