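import Mathlib
import Groth.Prelude.Def_CAlg
import Groth.Agent.Lib.FibreLift_helper5
import Groth.Agent.Lib.FiniteFree_helper5

/-!
# Cotangent space dimension for a flat local homomorphism with regular closed fibre (helper3)
-/

set_option autoImplicit false
universe u

namespace Groth.Agent.Lib.CotFlatH3

open IsLocalRing RingTheory.Sequence Module

section good

variable {R : Type u} [CommRing R] [IsLocalRing R]

/-- independence criterion modulo `m²` -/
def Indep {ι : Type*} [Fintype ι] (z : ι → R) : Prop :=
  ∀ c : ι → R, ∑ i, c i * z i ∈ maximalIdeal R ^ 2 → ∀ i, c i ∈ maximalIdeal R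

variable {ι : Type*} [Fintype ι] (z : ι → R) (hz : ∀ i, z i ∈ maximalIdeal R)

/-- the images in the cotangent space -/
noncomputable def cot (i : ι) : CotangentSpace R :=
  (maximalIdeal R).toCotangent ⟨z i, hz i⟩

theorem sum_residue_smul_cot (c : ι → R) :
    ∑ i, residue R (c i) • cot z hz i =
      (maximalIdeal R).toCotangent (∑ i, c i • (⟨z i, hz i⟩ : maximalIdeal R)) := by
  rw [map_sum]
  refine Finset.sum_congr rfl fun i _ => ?_
  rw [map_smul]
  unfold cot
  rw [← ResidueField.algebraMap_eq, algebraMap_smul]

theorem coe_sum_smul (c : ι → R) :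
    ((∑ i, c i • (⟨z i, hz i⟩ : maximalIdeal R) : maximalIdeal R) : R) = ∑ i, c i * z i := by
  rw [Submodule.coe_sum]
  refine Finset.sum_congr rfl fun i _ => ?_
  rfl

theorem indep_iff : Indep z ↔ LinearIndependent (ResidueField R) (cot z hz) := by
  rw [Fintype.linearIndependent_iff]
  constructor
  · intro h g hg i
    choose c hc using fun i => residue_surjective (R := R) (g i)
    have h1 : ∑ i, residue R (c i) • cot z hz i = 0 := by
      simp only [hc]; exact hg
    rw [sum_residue_smul_cot, Ideal.toCotangent_eq_zero, coe_sum_smul] at h1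
    have := h c h1 i
    rw [← hc i]
    exact (residue_eq_zero_iff _).2 this
  · intro h c hc i
    have h1 : ∑ i, residue R (c i) • cot z hz i = 0 := by
      rw [sum_residue_smul_cot, Ideal.toCotangent_eq_zero, coe_sum_smul]
      exact hc
    exact (residue_eq_zero_iff _).1 (h _ h1 i)

theorem span_iff [IsNoetherianRing R] :
    Ideal.span (Set.range z) = maximalIdeal R ↔
      Submodule.span (ResidueField R) (Set.range (cot z hz)) = ⊤ := by
  have hr : Set.range (cot z hz) =
      (maximalIdeal R).toCotangent '' Set.range (fun i => (⟨z i, hz i⟩ : maximalIdeal R)) := by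
    rw [← Set.range_comp]; rfl
  rw [hr, CotangentSpace.span_image_eq_top_iff]
  have h2 : Submodule.map (maximalIdeal R).subtype
      (Submodule.span R (Set.range (fun i => (⟨z i, hz i⟩ : maximalIdeal R)))) =
      Ideal.span (Set.range z) := by
    rw [Submodule.map_span, ← Set.range_comp]; rfl
  constructor
  · intro h
    apply Submodule.map_injective_of_injective (maximalIdeal R).injective_subtype
    rw [h2, h, Submodule.map_top, Submodule.range_subtype]
  · intro h
    rw [← h2, h, Submodule.map_top, Submodule.range_subtype]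

theorem exists_good (R : Type u) [CommRing R] [IsLocalRing R] [IsNoetherianRing R] :
    ∃ x : Fin (finrank (ResidueField R) (CotangentSpace R)) → R,
      (∀ i, x i ∈ maximalIdeal R) ∧ Ideal.span (Set.range x) = maximalIdeal R ∧ Indep x := by
  let b := Module.finBasis (ResidueField R) (CotangentSpace R)
  choose x' hx' using fun i => (maximalIdeal R).toCotangent_surjective (b i)
  have hx : ∀ i, (x' i : R) ∈ maximalIdeal R := fun i => (x' i).2
  have hcot : cot (fun i => (x' i : R)) hx = b := by
    funext i
    exact hx' i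
  refine ⟨fun i => (x' i : R), hx, ?_, ?_⟩
  · rw [span_iff _ hx, hcot]
    exact b.span_eq
  · rw [indep_iff _ hx, hcot]
    exact b.linearIndependent

include hz in
theorem finrank_eq_card_of_good [IsNoetherianRing R]
    (hspan : Ideal.span (Set.range z) = maximalIdeal R) (hind : Indep z) :
    finrank (ResidueField R) (CotangentSpace R) = Fintype.card ι := by
  have hli := (indep_iff z hz).1 hind
  have hsp := (span_iff z hz).1 hspan
  exact Module.finrank_eq_card_basis (Basis.mk hli (le_of_eq hsp.symm))

include hz in
theorem indep_of_span_of_card [IsNoetherianRing R]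
    (hspan : Ideal.span (Set.range z) = maximalIdeal R)
    (hcard : Fintype.card ι = finrank (ResidueField R) (CotangentSpace R)) : Indep z := by
  rw [indep_iff z hz]
  exact linearIndependent_of_top_le_span_of_card_eq_finrank
    (le_of_eq ((span_iff z hz).1 hspan).symm) hcard

end good

section mulspan

variable {B : Type u} [CommRing B]

/-- elements of `span (range f) * K` -/
theorem exists_sum_of_mem_span_mul {ι : Type*} [Fintype ι] (f : ι → B) (K : Ideal B) (a : B)
    (ha : a ∈ Ideal.span (Set.range f) * K) :
    ∃ n : ι → B, (∀ i, n i ∈ K) ∧ a = ∑ i, f i * n i := by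
  refine Submodule.mul_induction_on ha ?_ ?_
  · intro u hu v hv
    obtain ⟨c, rfl⟩ := Ideal.mem_span_range_iff_exists_fun.1 hu
    refine ⟨fun i => c i * v, fun i => K.mul_mem_left _ hv, ?_⟩
    rw [Finset.sum_mul]
    refine Finset.sum_congr rfl fun i _ => ?_
    ring
  · rintro _ _ ⟨n, hn, rfl⟩ ⟨n', hn', rfl⟩
    refine ⟨fun i => n i + n' i, fun i => K.add_mem (hn i) (hn' i), ?_⟩
    rw [← Finset.sum_add_distrib]
    refine Finset.sum_congr rfl fun i _ => ?_
    ring

end mulspan

section flat

variable {A B : Type u} [CommRing A] [CommRing B] [IsLocalRing A] [Algebra A B]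

/-- consequence of flatness of `B ⧸ Y` over `A` -/
theorem mem_sup_of_flat (Y : Ideal B)
    (hflat : Module.Flat A (B ⧸ (Y • (⊤ : Submodule B B))))
    {r : ℕ} (x : Fin r → A) (hxind : Indep x) (a : Fin r → B)
    (h : ∑ i, algebraMap A B (x i) * a i ∈ Y) :
    ∀ i, a i ∈ (maximalIdeal A).map (algebraMap A B) ⊔ Y := by
  have hY : (Y • (⊤ : Submodule B B)) = Y := by rw [smul_eq_mul, Ideal.mul_top]
  let q : B →ₗ[B] (B ⧸ (Y • (⊤ : Submodule B B))) := Submodule.mkQ _
  have hq0 : ∀ t : B, q t = 0 ↔ t ∈ Y := by
    intro t
    change Submodule.Quotient.mk t = 0 ↔ _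
    rw [Submodule.Quotient.mk_eq_zero, hY]
  have hqsmul : ∀ (s : A) (t : B), s • q t = q (algebraMap A B s * t) := by
    intro s t
    rw [← Algebra.smul_def]
    rfl
  have hrel : ∑ i, x i • q (a i) = 0 := by
    have : ∑ i, x i • q (a i) = q (∑ i, algebraMap A B (x i) * a i) := by
      rw [map_sum]
      exact Finset.sum_congr rfl fun i _ => hqsmul _ _
    rw [this, hq0]
    exact h
  obtain ⟨k, α, w, hw, hα⟩ := Module.Flat.isTrivialRelation_of_sum_smul_eq_zero
    (R := A) (M := B ⧸ (Y • (⊤ : Submodule B B))) (f := x) (x := fun i => q (a i)) hrel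
  have hαm : ∀ i j, α i j ∈ maximalIdeal A := by
    intro i j
    refine hxind (fun i => α i j) ?_ i
    have : ∑ i, α i j * x i = 0 := by
      rw [← hα j]
      refine Finset.sum_congr rfl fun i _ => ?_
      ring
    rw [this]
    exact zero_mem _
  choose b hb using fun j => Submodule.mkQ_surjective (Y • (⊤ : Submodule B B)) (w j)
  intro i
  have h1 : q (a i - ∑ j, algebraMap A B (α i j) * b j) = 0 := by
    have hwi : q (a i) = ∑ j, α i j • w j := hw i
    rw [map_sub, hwi, map_sum, sub_eq_zero]
    refine Finset.sum_congr rfl fun j _ => ?_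
    rw [← hb j]
    exact hqsmul _ _
  rw [hq0] at h1
  have h2 : ∑ j, algebraMap A B (α i j) * b j ∈ (maximalIdeal A).map (algebraMap A B) := by
    refine Ideal.sum_mem _ fun j _ => ?_
    exact Ideal.mul_mem_right _ _ (Ideal.mem_map_of_mem _ (hαm i j))
  have : a i = (∑ j, algebraMap A B (α i j) * b j) + (a i - ∑ j, algebraMap A B (α i j) * b j) := by
    ring
  rw [this]
  exact Ideal.add_mem _ (Ideal.mem_sup_left h2) (Ideal.mem_sup_right h1)

end flat

section regular

/-- a regular local ring has a regular sequence generating the maximal ideal which is independent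
modulo `m²` -/
theorem exists_good_regular (C : Type u) [CommRing C] [IsRegularLocalRing C] :
    ∃ l : List C, IsWeaklyRegular C l ∧ Ideal.ofList l = maximalIdeal C ∧
      l.length = finrank (ResidueField C) (CotangentSpace C) ∧
      Indep (fun j : Fin l.length => l.get j) := by
  obtain ⟨l, hreg, hspan, hlen⟩ := Groth.Agent.FiniteFree.exists_regular_sop C
  have hlen' : l.length = finrank (ResidueField C) (CotangentSpace C) := by
    rw [hlen, spanFinrank_maximalIdeal_eq_finrank_cotangentSpace]
  have hrange : Set.range (fun j : Fin l.length => l.get j) = {c | c ∈ l} := by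
    ext c
    simp only [Set.mem_range, Set.mem_setOf_eq]
    exact (List.mem_iff_get).symm
  have hspan' : Ideal.span (Set.range (fun j : Fin l.length => l.get j)) = maximalIdeal C := by
    rw [hrange]
    exact hspan
  have hmem : ∀ j : Fin l.length, l.get j ∈ maximalIdeal C := by
    intro j
    rw [← hspan']
    exact Ideal.subset_span ⟨j, rfl⟩
  refine ⟨l, hreg.toIsWeaklyRegular, hspan, hlen', ?_⟩
  exact indep_of_span_of_card _ hmem hspan' (by rw [Fintype.card_fin, hlen'])

end regular

section main

variable (A B : Type u) [CommRing A] [CommRing B] [IsLocalRing A] [IsNoetherianRing A]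
  [IsLocalRing B] [IsNoetherianRing B] [Algebra A B] [IsLocalHom (algebraMap A B)]
  [Module.Flat A B]

theorem main [IsRegularLocalRing (B ⧸ Ideal.map (algebraMap A B) (maximalIdeal A))] :
    finrank (ResidueField B) (CotangentSpace B) =
      finrank (ResidueField (B ⧸ Ideal.map (algebraMap A B) (maximalIdeal A)))
          (CotangentSpace (B ⧸ Ideal.map (algebraMap A B) (maximalIdeal A))) +
        finrank (ResidueField A) (CotangentSpace A) := by
  set I := Ideal.map (algebraMap A B) (maximalIdeal A) with hI
  set C := B ⧸ I with hC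
  set π : B →+* C := Ideal.Quotient.mk I with hπ
  have hπsurj : Function.Surjective π := Ideal.Quotient.mk_surjective
  haveI : IsLocalHom π := IsLocalHom.of_surjective π hπsurj
  have hcomap : (maximalIdeal C).comap π = maximalIdeal B :=
    ((IsLocalRing.local_hom_TFAE π).out 0 4 rfl rfl).mp ‹_›
  have hIle : I ≤ maximalIdeal B :=
    ((IsLocalRing.local_hom_TFAE (algebraMap A B)).out 0 2 rfl rfl).mp ‹_›
  have hker : RingHom.ker π = I := Ideal.mk_ker
  obtain ⟨x, hxm, hxspan, hxind⟩ := exists_good A
  obtain ⟨l, hlreg, hlspan, hllen, hlind⟩ := exists_good_regular C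
  obtain ⟨ys, hys⟩ := (List.map_surjective_iff.2 hπsurj) l
  subst hys
  have hyslen : (ys.map π).length = ys.length := List.length_map _
  let y : Fin (ys.map π).length → B := fun j => ys[j.1]'(hyslen ▸ j.2)
  have hπy : ∀ j, π (y j) = (ys.map π).get j := by
    intro j
    simp [y]
  set Y := Ideal.ofList ys with hY
  have hrangey : Set.range y = {b | b ∈ ys} := by
    ext b
    simp only [Set.mem_range, Set.mem_setOf_eq, y]
    constructor
    · rintro ⟨j, rfl⟩
      exact List.getElem_mem _
    · intro hb
      obtain ⟨n, hn, rfl⟩ := List.getElem_of_mem hb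
      exact ⟨⟨n, hyslen ▸ hn⟩, rfl⟩
  have hYspan : Ideal.span (Set.range y) = Y := by
    rw [hY, Ideal.ofList, hrangey]
  have hmapY : Y.map π = maximalIdeal C := by
    rw [← hYspan, Ideal.map_span, ← Set.range_comp, ← hlspan, Ideal.ofList]
    congr 1
    ext c
    simp only [Set.mem_range, Function.comp_apply, Set.mem_setOf_eq, hπy]
    exact (List.mem_iff_get).symm
  have hmB : maximalIdeal B = I ⊔ Y := by
    rw [← hcomap, ← hmapY, Ideal.comap_map_of_surjective π hπsurj, sup_comm]
    congr 1
  have hym : ∀ j, y j ∈ maximalIdeal B := by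
    intro j
    rw [hmB]
    exact Ideal.mem_sup_right (hYspan ▸ Ideal.subset_span ⟨j, rfl⟩)
  have hxB : ∀ i, algebraMap A B (x i) ∈ I := fun i => Ideal.mem_map_of_mem _ (hxm i)
  have hIspan : Ideal.span (Set.range (fun i => algebraMap A B (x i))) = I := by
    have h := Ideal.map_span (algebraMap A B) (Set.range x)
    rw [hxspan, ← Set.range_comp] at h
    exact h.symm
  -- flatness of `B ⧸ Y`
  have hflat : Module.Flat A (B ⧸ (Y • (⊤ : Submodule B B))) := by
    have h1 : IsWeaklyRegular C (ys.map (algebraMap B C)) := hlreg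
    have h2 : IsWeaklyRegular C ys :=
      (isWeaklyRegular_map_algebraMap_iff (S := C) (M := C) ys).1 h1
    have hItop : (I • (⊤ : Submodule B B)) = I := by rw [smul_eq_mul, Ideal.mul_top]
    let e : C ≃ₗ[B] Groth.Agent.DepthTensor.Fib A B B :=
      Submodule.quotEquivOfEq _ _ hItop.symm
    have h3 : IsWeaklyRegular (Groth.Agent.DepthTensor.Fib A B B) ys :=
      (e.isWeaklyRegular_congr ys).1 h2
    exact (Groth.Agent.FibreLift.isWeaklyRegular_of_fib ys B h3).2
  -- the family
  let z : Fin (finrank (ResidueField A) (CotangentSpace A)) ⊕ Fin (ys.map π).length → B :=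
    Sum.elim (fun i => algebraMap A B (x i)) y
  have hzm : ∀ s, z s ∈ maximalIdeal B := by
    rintro (i | j)
    · exact hIle (hxB i)
    · exact hym j
  have hzspan : Ideal.span (Set.range z) = maximalIdeal B := by
    rw [Set.Sum.elim_range, Ideal.span_union, hIspan, hYspan, hmB]
  have hzind : Indep z := by
    intro c hc
    rw [Fintype.sum_sum_type] at hc
    simp only [z, Sum.elim_inl, Sum.elim_inr] at hc
    -- step 1
    have hb : ∀ j, c (Sum.inr j) ∈ maximalIdeal B := by
      have h1 : π (∑ i, c (Sum.inl i) * algebraMap A B (x i) + ∑ j, c (Sum.inr j) * y j) ∈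
          maximalIdeal C ^ 2 := by
        have h2 : (maximalIdeal B ^ 2).map π ≤ maximalIdeal C ^ 2 := by
          rw [Ideal.map_pow]
          exact Ideal.pow_right_mono (Ideal.map_le_iff_le_comap.2 (le_of_eq hcomap.symm)) 2
        exact h2 (Ideal.mem_map_of_mem π hc)
      have h3 : π (∑ i, c (Sum.inl i) * algebraMap A B (x i) + ∑ j, c (Sum.inr j) * y j) =
          ∑ j, π (c (Sum.inr j)) * (ys.map π).get j := by
        rw [map_add, map_sum, map_sum]
        have : ∑ i, π (c (Sum.inl i) * algebraMap A B (x i)) = 0 := by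
          refine Finset.sum_eq_zero fun i _ => ?_
          rw [map_mul, Ideal.Quotient.eq_zero_iff_mem.2 (hxB i), mul_zero]
        rw [this, zero_add]
        refine Finset.sum_congr rfl fun j _ => ?_
        rw [map_mul, hπy]
      rw [h3] at h1
      intro j
      have := hlind (fun j => π (c (Sum.inr j))) h1 j
      rw [← hcomap]
      exact this
    -- step 2
    have hT : ∑ i, c (Sum.inl i) * algebraMap A B (x i) ∈ maximalIdeal B ^ 2 := by
      have h1 : ∑ j, c (Sum.inr j) * y j ∈ maximalIdeal B ^ 2 := by
        refine Ideal.sum_mem _ fun j _ => ?_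
        rw [pow_two]
        exact Ideal.mul_mem_mul (hb j) (hym j)
      have := Ideal.sub_mem _ hc h1
      simpa using this
    have hsq : maximalIdeal B ^ 2 ≤ I * maximalIdeal B ⊔ Y := by
      rw [pow_two]
      nth_rewrite 1 [hmB]
      rw [Ideal.sup_mul]
      exact sup_le_sup le_rfl Ideal.mul_le_left
    obtain ⟨α, hα, γ, hγ, hαγ⟩ := Submodule.mem_sup.1 (hsq hT)
    rw [← hIspan] at hα
    obtain ⟨n, hn, rfl⟩ := exists_sum_of_mem_span_mul _ _ α hα
    have hrel : ∑ i, algebraMap A B (x i) * (c (Sum.inl i) - n i) ∈ Y := by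
      have : ∑ i, algebraMap A B (x i) * (c (Sum.inl i) - n i) = γ := by
        have h5 : ∑ i, algebraMap A B (x i) * (c (Sum.inl i) - n i) =
            ∑ i, c (Sum.inl i) * algebraMap A B (x i) - ∑ i, algebraMap A B (x i) * n i := by
          rw [← Finset.sum_sub_distrib]
          refine Finset.sum_congr rfl fun i _ => ?_
          ring
        rw [h5, ← hαγ]
        ring
      rw [this]
      exact hγ
    have hmem := mem_sup_of_flat Y hflat x hxind _ hrel
    rintro (i | j)
    · have h6 := hmem i
      rw [← hmB] at h6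
      have : c (Sum.inl i) = (c (Sum.inl i) - n i) + n i := by ring
      rw [this]
      exact Ideal.add_mem _ h6 (hn i)
    · exact hb j
  rw [finrank_eq_card_of_good z hzm hzspan hzind, Fintype.card_sum, Fintype.card_fin,
    Fintype.card_fin, hllen, add_comm]

end main

end Groth.Agent.Lib.CotFlatH3
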