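import Mathlib
import Groth.Agent.Lib.CotFlat_helper3

/-!
# Geometric regularity and flatness over polynomial subrings, part 1 (helper5)

* `exists_dual_derivations`: for a local ring `B` formally smooth over a base `k₀` with residue
  field formally smooth over `k₀`, elements of `m_B` independent modulo `m_B²` admit a dual family
  of `k₀`-derivations `B → κ(B)`.
* `derivation_eq_zero_of_pderiv`: a linear derivation on a polynomial ring vanishes at `g` as soon
  as all partial derivatives of `g` act as zero on the target.
-/

set_option autoImplicit false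
set_option linter.style.haveILetI false

namespace Groth.Agent.Lib.GeomRegFlatH5

open IsLocalRing TensorProduct KaehlerDifferential
open Groth.Agent.Lib.CotFlatH3

universe u v

section Dual

variable {k₀ : Type v} {B : Type u} [CommRing k₀] [CommRing B] [IsLocalRing B] [Algebra k₀ B]

theorem exists_dual_derivations [Algebra.FormallySmooth k₀ B]
    [Algebra.FormallySmooth k₀ (ResidueField B)]
    {d : ℕ} (x : Fin d → B) (hx : ∀ i, x i ∈ maximalIdeal B) (hind : Indep x) :
    ∃ δ : Fin d → Derivation k₀ B (ResidueField B),
      ∀ a i, δ a (x i) = if a = i then 1 else 0 := by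
  classical
  have hsurj : Function.Surjective (algebraMap B (ResidueField B)) := by
    rw [ResidueField.algebraMap_eq]
    exact residue_surjective
  have hinj : Function.Injective (kerCotangentToTensor k₀ B (ResidueField B)) :=
    (Algebra.FormallySmooth.kerCotangentToTensor_injective_iff hsurj).mpr inferInstance
  have hker : RingHom.ker (algebraMap B (ResidueField B)) = maximalIdeal B := by
    rw [ResidueField.algebraMap_eq]
    exact ker_residue
  have hmem : ∀ i, x i ∈ RingHom.ker (algebraMap B (ResidueField B)) := by
    rw [hker]
    exact hx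
  let v : Fin d → (ResidueField B) ⊗[B] Ω[B⁄k₀] := fun i => 1 ⊗ₜ D k₀ B (x i)
  have hli : LinearIndependent (ResidueField B) v := by
    rw [Fintype.linearIndependent_iff]
    intro l hl i
    choose b hb using fun i => residue_surjective (l i)
    have h1 : kerCotangentToTensor k₀ B (ResidueField B)
        (Ideal.toCotangent _ (∑ i, b i • (⟨x i, hmem i⟩ :
          RingHom.ker (algebraMap B (ResidueField B))))) = 0 := by
      rw [map_sum, map_sum, ← hl]
      refine Finset.sum_congr rfl fun i _ => ?_
      rw [map_smul, map_smul, kerCotangentToTensor_toCotangent, ← hb i,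
        ← ResidueField.algebraMap_eq, algebraMap_smul]
    have h2 := (injective_iff_map_eq_zero _).mp hinj _ h1
    rw [Ideal.toCotangent_eq_zero] at h2
    have h3 : ((∑ i, b i • (⟨x i, hmem i⟩ : RingHom.ker (algebraMap B (ResidueField B))) :
        RingHom.ker (algebraMap B (ResidueField B))) : B) = ∑ i, b i * x i := by
      rw [Submodule.coe_sum]
      rfl
    rw [h3, hker] at h2
    have h4 := hind b h2 i
    rw [← hb i]
    exact (residue_eq_zero_iff _).mpr h4
  have hf : Function.Injective (Fintype.linearCombination (ResidueField B) v) :=
    linearIndependent_iff_injective_fintypeLinearCombination.mp hli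
  obtain ⟨g, hg⟩ := LinearMap.exists_leftInverse_of_injective
    (Fintype.linearCombination (ResidueField B) v) (LinearMap.ker_eq_bot.mpr hf)
  refine ⟨fun a => (((LinearMap.proj a ∘ₗ g).restrictScalars B) ∘ₗ
    (TensorProduct.mk B (ResidueField B) Ω[B⁄k₀] 1)).compDer (D k₀ B), fun a i => ?_⟩
  show (g (v i)) a = _
  have h5 : v i = Fintype.linearCombination (ResidueField B) v (Pi.single i 1) := by
    rw [Fintype.linearCombination_apply_single, one_smul]
  have h6 : g (Fintype.linearCombination (ResidueField B) v (Pi.single i 1)) = Pi.single i 1 :=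
    LinearMap.congr_fun hg _
  rw [h5, h6, Pi.single_apply]

end Dual

section PDeriv

open MvPolynomial

theorem derivation_eq_sum_pderiv {k : Type*} [CommRing k] {σ : Type*} [Fintype σ] {M : Type*}
    [AddCommGroup M] [Module k M] [Module (MvPolynomial σ k) M]
    [IsScalarTower k (MvPolynomial σ k) M]
    (η : Derivation k (MvPolynomial σ k) M) (g : MvPolynomial σ k) :
    η g = ∑ j, pderiv j g • η (X j) := by
  classical
  have h1 := (mvPolynomialBasis k σ).sum_repr (D k (MvPolynomial σ k) g)
  have h2 : η g = η.liftKaehlerDifferential (D k (MvPolynomial σ k) g) :=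
    (Derivation.liftKaehlerDifferential_comp_D η g).symm
  rw [h2, ← h1, map_sum]
  refine Finset.sum_congr rfl fun j _ => ?_
  rw [map_smul, mvPolynomialBasis_repr_apply, mvPolynomialBasis_apply,
    Derivation.liftKaehlerDifferential_comp_D]

theorem derivation_eq_zero_of_pderiv {k : Type*} [CommRing k] {σ : Type*} [Fintype σ] {M : Type*}
    [AddCommGroup M] [Module k M] [Module (MvPolynomial σ k) M]
    [IsScalarTower k (MvPolynomial σ k) M]
    (η : Derivation k (MvPolynomial σ k) M) (g : MvPolynomial σ k)
    (h : ∀ j, ∀ m : M, pderiv j g • m = 0) : η g = 0 := by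
  rw [derivation_eq_sum_pderiv η g]
  exact Finset.sum_eq_zero fun j _ => h j _

end PDeriv

end Groth.Agent.Lib.GeomRegFlatH5
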