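import Mathlib
import Groth.Agent.Lib.GeomRegFlat1_helper5
import Groth.Agent.Lib.AdicFSField_helper3
import Groth.Agent.Lib.SepSmooth_helper3
import Groth.Agent.Lib.PerfectGR_helper3

/-!
# Geometric regularity and flatness over polynomial subrings, part 2 (helper5)

The key independence statement: for `k` of characteristic `p`, `A` a local `k`-algebra which is
adically formally smooth over `k`, and `P = k[y] → A₀ → A` with `A₀` local, formally smooth over
`P`, such that partial derivatives preserve the kernel of `P → κ(A)`: elements of `P` whose images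
in `A₀` are independent modulo `m₀²` have images in `A` independent modulo `m²`.
-/

set_option autoImplicit false
set_option linter.style.haveILetI false
set_option maxSynthPendingDepth 3

namespace Groth.Agent.Lib.GeomRegFlatH5

open IsLocalRing TensorProduct KaehlerDifferential MvPolynomial
open Groth.Agent.Lib.CotFlatH3

universe u

section Gen

/-- a derivation into the residue field kills `m²` -/
theorem derivation_sq_eq_zero {A : Type*} [CommRing A] [IsLocalRing A]
    (δ : Derivation ℤ A (ResidueField A)) (y : A) (hy : y ∈ maximalIdeal A ^ 2) : δ y = 0 := by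
  rw [pow_two] at hy
  refine Submodule.mul_induction_on hy (fun a ha b hb => ?_) (fun x y hx hy => ?_)
  · rw [δ.leibniz, Algebra.smul_def, Algebra.smul_def, ResidueField.algebraMap_eq,
      (residue_eq_zero_iff a).mpr ha, (residue_eq_zero_iff b).mpr hb, zero_mul, zero_mul, add_zero]
  · rw [map_add, hx, hy, add_zero]

/-- an additive derivation of a polynomial ring killing the constants is linear -/
theorem exists_linear_derivation {k : Type*} [CommRing k] {σ : Type*} {M : Type*}
    [AddCommGroup M] [Module k M] [Module (MvPolynomial σ k) M]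
    [IsScalarTower k (MvPolynomial σ k) M]
    (η : Derivation ℤ (MvPolynomial σ k) M) (h : ∀ c : k, η (C c) = 0) :
    ∃ η' : Derivation k (MvPolynomial σ k) M, ∀ f, η' f = η f := by
  have hsm : ∀ (c : k) (f : MvPolynomial σ k), η (c • f) = c • η f := by
    intro c f
    rw [MvPolynomial.smul_eq_C_mul, η.leibniz, h c, smul_zero, add_zero,
      ← algebraMap_smul (MvPolynomial σ k) c (η f)]
    rfl
  let l : MvPolynomial σ k →ₗ[k] M :=
    { toFun := fun f => η f
      map_add' := fun a b => map_add η a b
      map_smul' := fun c f => hsm c f }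
  exact ⟨Derivation.mk' l (fun a b => η.leibniz a b), fun f => rfl⟩

end Gen

section Main

variable (p : ℕ) [hp : Fact p.Prime] {k A₀ A : Type u} [Field k] [CharP k p]
  [CommRing A₀] [IsLocalRing A₀] [CommRing A] [IsLocalRing A] {m : ℕ}
  [Algebra k A₀] [Algebra (MvPolynomial (Fin m) k) A₀] [IsScalarTower k (MvPolynomial (Fin m) k) A₀]
  [Algebra.FormallySmooth (MvPolynomial (Fin m) k) A₀]
  [Algebra k A] [Algebra (MvPolynomial (Fin m) k) A] [IsScalarTower k (MvPolynomial (Fin m) k) A]
  [Algebra A₀ A] [IsScalarTower (MvPolynomial (Fin m) k) A₀ A] [IsScalarTower k A₀ A]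
  [IsLocalHom (algebraMap A₀ A)]

include p in
theorem indep_map (hA : CAlgX.IsAdicFormallySmooth k A (maximalIdeal A))
    (hpd : ∀ f : MvPolynomial (Fin m) k, algebraMap (MvPolynomial (Fin m) k) A f ∈ maximalIdeal A →
      ∀ j, algebraMap (MvPolynomial (Fin m) k) A (pderiv j f) ∈ maximalIdeal A)
    {d : ℕ} (g : Fin d → MvPolynomial (Fin m) k)
    (hg : ∀ i, algebraMap (MvPolynomial (Fin m) k) A₀ (g i) ∈ maximalIdeal A₀)
    (hind : Indep (fun i => algebraMap (MvPolynomial (Fin m) k) A₀ (g i))) :
    Indep (fun i => algebraMap (MvPolynomial (Fin m) k) A (g i)) := by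
  classical
  -- the prime field
  letI algk : Algebra (ULift.{u} (ZMod p)) k :=
    ((ZMod.castHom (dvd_refl p) k).comp
      (ULift.ringEquiv : ULift.{u} (ZMod p) ≃+* ZMod p).toRingHom).toAlgebra
  letI algP : Algebra (ULift.{u} (ZMod p)) (MvPolynomial (Fin m) k) :=
    ((algebraMap k (MvPolynomial (Fin m) k)).comp (algebraMap (ULift.{u} (ZMod p)) k)).toAlgebra
  haveI twP : IsScalarTower (ULift.{u} (ZMod p)) k (MvPolynomial (Fin m) k) :=
    IsScalarTower.of_algebraMap_eq (fun _ => rfl)
  letI algA₀ : Algebra (ULift.{u} (ZMod p)) A₀ :=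
    ((algebraMap (MvPolynomial (Fin m) k) A₀).comp
      (algebraMap (ULift.{u} (ZMod p)) (MvPolynomial (Fin m) k))).toAlgebra
  haveI twA₀ : IsScalarTower (ULift.{u} (ZMod p)) (MvPolynomial (Fin m) k) A₀ :=
    IsScalarTower.of_algebraMap_eq (fun _ => rfl)
  haveI : PerfectField (ULift.{u} (ZMod p)) := PerfectField.ofFinite
  haveI : Algebra.IsGeometricallyReduced (ULift.{u} (ZMod p)) k :=
    Groth.Agent.Lib.PerfectGRH3.isGeometricallyReduced_of_perfectField _ _
  haveI fsk : Algebra.FormallySmooth (ULift.{u} (ZMod p)) k :=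
    Groth.Agent.Lib.SepSmoothH3.formallySmooth_of_isGeometricallyReduced _ _
  haveI fsP : Algebra.FormallySmooth (ULift.{u} (ZMod p)) (MvPolynomial (Fin m) k) :=
    Algebra.FormallySmooth.comp (ULift.{u} (ZMod p)) k (MvPolynomial (Fin m) k)
  haveI fsA₀ : Algebra.FormallySmooth (ULift.{u} (ZMod p)) A₀ :=
    Algebra.FormallySmooth.comp (ULift.{u} (ZMod p)) (MvPolynomial (Fin m) k) A₀
  haveI : Algebra.IsGeometricallyReduced (ULift.{u} (ZMod p)) (ResidueField A₀) :=
    Groth.Agent.Lib.PerfectGRH3.isGeometricallyReduced_of_perfectField _ _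
  haveI fsK₀ : Algebra.FormallySmooth (ULift.{u} (ZMod p)) (ResidueField A₀) :=
    Groth.Agent.Lib.SepSmoothH3.formallySmooth_of_isGeometricallyReduced _ _
  obtain ⟨δ₀, hδ₀⟩ := exists_dual_derivations (k₀ := ULift.{u} (ZMod p))
    (fun i => algebraMap (MvPolynomial (Fin m) k) A₀ (g i)) hg hind
  have hzm : ∀ i, algebraMap (MvPolynomial (Fin m) k) A (g i) ∈ maximalIdeal A := by
    intro i
    rw [IsScalarTower.algebraMap_apply (MvPolynomial (Fin m) k) A₀ A]
    exact ((IsLocalRing.local_hom_TFAE (algebraMap A₀ A)).out 0 2 rfl rfl).mp inferInstance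
      (Ideal.mem_map_of_mem _ (hg i))
  have key : ∀ a : Fin d, ∃ δ : Derivation ℤ A (ResidueField A),
      ∀ i, δ (algebraMap (MvPolynomial (Fin m) k) A (g i)) = if a = i then 1 else 0 := by
    intro a
    let jl : ResidueField A₀ →ₗ[A₀] ResidueField A :=
      (Algebra.linearMap (ResidueField A₀) (ResidueField A)).restrictScalars A₀
    let d₂' : Derivation ℤ A₀ (ResidueField A) := jl.compDer ((δ₀ a).restrictScalars ℤ)
    let Dk : Derivation ℤ k (ResidueField A) := d₂'.compAlgebraMap k
    obtain ⟨δ, hδ⟩ := Groth.Agent.Lib.AdicFSFieldH3.exists_derivation_extension (ResidueField A)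
      (maximalIdeal A) hA ⟨1, fun x hx => by
        rw [pow_one] at hx
        exact (residue_eq_zero_iff x).mpr hx⟩ Dk
    refine ⟨δ, fun i => ?_⟩
    let d₁ : Derivation ℤ (MvPolynomial (Fin m) k) (ResidueField A) :=
      δ.compAlgebraMap (MvPolynomial (Fin m) k)
    let d₂ : Derivation ℤ (MvPolynomial (Fin m) k) (ResidueField A) :=
      d₂'.compAlgebraMap (MvPolynomial (Fin m) k)
    obtain ⟨η, hη⟩ := exists_linear_derivation (d₁ - d₂) (fun c => by
      show δ (algebraMap (MvPolynomial (Fin m) k) A (C c)) -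
        d₂' (algebraMap (MvPolynomial (Fin m) k) A₀ (C c)) = 0
      rw [sub_eq_zero]
      have e1 : algebraMap (MvPolynomial (Fin m) k) A (C c) = algebraMap k A c :=
        (IsScalarTower.algebraMap_apply k (MvPolynomial (Fin m) k) A c).symm
      have e2 : algebraMap (MvPolynomial (Fin m) k) A₀ (C c) = algebraMap k A₀ c :=
        (IsScalarTower.algebraMap_apply k (MvPolynomial (Fin m) k) A₀ c).symm
      rw [e1, e2, hδ]
      rfl)
    have h0 : η (g i) = 0 := derivation_eq_zero_of_pderiv η (g i) (fun j v => by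
      rw [Algebra.smul_def, IsScalarTower.algebraMap_apply (MvPolynomial (Fin m) k) A
        (ResidueField A), ResidueField.algebraMap_eq,
        (residue_eq_zero_iff _).mpr (hpd (g i) (hzm i) j), zero_mul])
    have h1 : δ (algebraMap (MvPolynomial (Fin m) k) A (g i)) = η (g i) + d₂ (g i) := by
      rw [hη]
      show _ = (d₁ (g i) - d₂ (g i)) + d₂ (g i)
      rw [sub_add_cancel]
      rfl
    rw [h1, h0, zero_add]
    show algebraMap (ResidueField A₀) (ResidueField A)
      (δ₀ a (algebraMap (MvPolynomial (Fin m) k) A₀ (g i))) = _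
    rw [hδ₀ a i]
    split_ifs
    · rw [map_one]
    · rw [map_zero]
  intro c hc a
  obtain ⟨δ, hδ⟩ := key a
  have h1 := derivation_sq_eq_zero δ _ hc
  rw [map_sum] at h1
  have h2 : ∀ i, δ (c i * algebraMap (MvPolynomial (Fin m) k) A (g i)) =
      residue A (c i) * (if a = i then 1 else 0) := by
    intro i
    rw [δ.leibniz, hδ, Algebra.smul_def, Algebra.smul_def, ResidueField.algebraMap_eq,
      (residue_eq_zero_iff _).mpr (hzm i), zero_mul, add_zero]
  simp only [h2, mul_ite, mul_one, mul_zero, Finset.sum_ite_eq, Finset.mem_univ, if_true] at h1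
  exact (residue_eq_zero_iff _).mp h1

end Main

end Groth.Agent.Lib.GeomRegFlatH5
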