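import Mathlib
import Groth.Agent.Lib.GeomRegFlat2_helper5
import Groth.Agent.Lib.FixedLocus_helper4
import Groth.Agent.Lib.RegFlat_helper3
import Groth.Agent.Lib.Regular_helper5
import Groth.Agent.S2470

/-!
# Geometric regularity and flatness over polynomial subrings, part 3 (helper5)

`flat_and_regular_of_indep`: a local homomorphism `A₀ → A` of regular local rings carrying a
minimal system of generators of `m₀` to elements independent modulo `m²` is flat with regular
closed fibre.
-/

set_option autoImplicit false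
set_option linter.style.haveILetI false
set_option maxHeartbeats 800000

namespace Groth.Agent.Lib.GeomRegFlatH5

open IsLocalRing Module
open Groth.Agent.Lib.CotFlatH3

universe u

theorem flat_and_regular_of_indep {A₀ A : Type u} [CommRing A₀] [IsRegularLocalRing A₀]
    [CommRing A] [IsRegularLocalRing A] [Algebra A₀ A] [IsLocalHom (algebraMap A₀ A)]
    {d : ℕ} (x : Fin d → A₀) (hxspan : Ideal.span (Set.range x) = maximalIdeal A₀)
    (hd : d = finrank (ResidueField A₀) (CotangentSpace A₀))
    (hind : Indep (fun i => algebraMap A₀ A (x i))) :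
    Module.Flat A₀ A ∧ IsRegularLocalRing (A ⧸ (maximalIdeal A₀).map (algebraMap A₀ A)) := by
  classical
  have hle : (maximalIdeal A₀).map (algebraMap A₀ A) ≤ maximalIdeal A :=
    ((IsLocalRing.local_hom_TFAE (algebraMap A₀ A)).out 0 2 rfl rfl).1 ‹_›
  have hxm : ∀ i, x i ∈ maximalIdeal A₀ := by
    intro i
    rw [← hxspan]
    exact Ideal.subset_span ⟨i, rfl⟩
  let z : Fin d → A := fun i => algebraMap A₀ A (x i)
  have hz : ∀ i, z i ∈ maximalIdeal A := fun i => hle (Ideal.mem_map_of_mem _ (hxm i))
  have hli : LinearIndependent (ResidueField A) (cot z hz) := (indep_iff z hz).1 hind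
  let V' : Submodule (ResidueField A) (CotangentSpace A) :=
    Submodule.span (ResidueField A) (Set.range (cot z hz))
  have hV' : finrank (ResidueField A) V' = d := by
    rw [finrank_span_eq_card hli, Fintype.card_fin]
  set n := finrank (ResidueField A) (CotangentSpace A ⧸ V') with hn
  have hsum : n + d = finrank (ResidueField A) (CotangentSpace A) := by
    rw [hn, ← hV']
    exact Submodule.finrank_quotient_add_finrank V'
  let bq : Basis (Fin n) (ResidueField A) (CotangentSpace A ⧸ V') :=
    Module.finBasis (ResidueField A) (CotangentSpace A ⧸ V')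
  choose w hw using fun i => Submodule.mkQ_surjective V' (bq i)
  choose g' hg' using fun i => (maximalIdeal A).toCotangent_surjective (w i)
  let g : Fin n → A := fun i => (g' i : A)
  have hg : ∀ i, g i ∈ maximalIdeal A := fun i => (g' i).2
  have hcotg : cot g hg = w := by
    funext i
    exact hg' i
  let zz : Fin d ⊕ Fin n → A := Sum.elim z g
  have hzzm : ∀ s, zz s ∈ maximalIdeal A := by
    rintro (i | j)
    · exact hz i
    · exact hg j
  have hcotz : Set.range (cot zz hzzm) = Set.range (cot z hz) ∪ Set.range (cot g hg) := by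
    ext v
    constructor
    · rintro ⟨(i | j), rfl⟩
      · exact Or.inl ⟨i, rfl⟩
      · exact Or.inr ⟨j, rfl⟩
    · rintro (⟨i, rfl⟩ | ⟨j, rfl⟩)
      · exact ⟨Sum.inl i, rfl⟩
      · exact ⟨Sum.inr j, rfl⟩
  have hspanz : Submodule.span (ResidueField A) (Set.range (cot zz hzzm)) = ⊤ := by
    rw [hcotz, Submodule.span_union, hcotg]
    show V' ⊔ Submodule.span (ResidueField A) (Set.range w) = ⊤
    rw [← Submodule.map_mkQ_eq_top, Submodule.map_span, ← Set.range_comp]
    have : (⇑V'.mkQ ∘ w) = ⇑bq := by
      funext i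
      exact hw i
    rw [this]
    exact bq.span_eq
  have hzzspan : Ideal.span (Set.range zz) = maximalIdeal A := (span_iff zz hzzm).2 hspanz
  have hunion : Ideal.span (Set.range z ∪ Set.range g) = maximalIdeal A := by
    rw [← hzzspan, Set.Sum.elim_range]
  have hI : (maximalIdeal A₀).map (algebraMap A₀ A) = Ideal.span (Set.range z) := by
    rw [← hxspan, Ideal.map_span, ← Set.range_comp]
    rfl
  have hcardz : (Set.range z).ncard ≤ d := by
    have := Set.ncard_image_le (f := z) (Set.finite_univ)
    rw [Set.image_univ] at this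
    refine this.trans ?_
    rw [Set.ncard_univ, Nat.card_eq_fintype_card, Fintype.card_fin]
  have hcardg : (Set.range g).ncard ≤ n := by
    have := Set.ncard_image_le (f := g) (Set.finite_univ)
    rw [Set.image_univ] at this
    refine this.trans ?_
    rw [Set.ncard_univ, Nat.card_eq_fintype_card, Fintype.card_fin]
  have hsf : (maximalIdeal A).spanFinrank = n + d := by
    rw [spanFinrank_maximalIdeal_eq_finrank_cotangentSpace, hsum]
  have hreg0 : IsRegularLocalRing (A ⧸ (maximalIdeal A₀).map (algebraMap A₀ A)) := by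
    rw [hI]
    exact Groth.Agent.Lib.FixedLocusH4.isRegularLocalRing_quotient_span A (Set.range z) (Set.range g) (Set.finite_range z)
      (Set.finite_range g) hunion (by rw [hsf]; omega)
  refine ⟨?_, hreg0⟩
  set I := (maximalIdeal A₀).map (algebraMap A₀ A) with hIdef
  haveI : IsLocalRing (A ⧸ I) := hreg0.toIsLocalRing
  -- dimensions
  have hdimA : ringKrullDim A = ((n + d : ℕ) : WithBot ℕ∞) := by
    rw [← Groth.Agent.RegularLib.spanFinrank_eq_dim A, hsf]
  have hdimA₀ : ringKrullDim A₀ = ((d : ℕ) : WithBot ℕ∞) := by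
    rw [← Groth.Agent.RegularLib.spanFinrank_eq_dim A₀,
      spanFinrank_maximalIdeal_eq_finrank_cotangentSpace, ← hd]
  have hP' : maximalIdeal (A ⧸ I) = Ideal.span (Set.range ((Ideal.Quotient.mk I) ∘ g)) := by
    rw [← Groth.Agent.Lib.RegFlatH3.map_mk_maximalIdeal I, ← hunion, Ideal.span_union, ← hI,
      Ideal.map_sup, Ideal.map_quotient_self, bot_sup_eq, Ideal.map_span, ← Set.range_comp]
  have hn0 : (maximalIdeal (A ⧸ I)).spanFinrank ≤ n := by
    rw [hP']
    have h3 := Submodule.spanFinrank_span_le_ncard_of_finite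
      (R := A ⧸ I) (Set.finite_range ((Ideal.Quotient.mk I) ∘ g))
    have h4 : (Set.range ((Ideal.Quotient.mk I) ∘ g)).ncard ≤ n := by
      have := Set.ncard_image_le (f := (Ideal.Quotient.mk I) ∘ g) (Set.finite_univ)
      rw [Set.image_univ] at this
      refine this.trans ?_
      rw [Set.ncard_univ, Nat.card_eq_fintype_card, Fintype.card_fin]
    exact h3.trans h4
  have hdim0 : ringKrullDim (A ⧸ I) =
      (((maximalIdeal (A ⧸ I)).spanFinrank : ℕ) : WithBot ℕ∞) :=
    (Groth.Agent.RegularLib.spanFinrank_eq_dim (A ⧸ I)).symm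
  have hle2 := Groth.Agent.Lib.RegFlatH3.ringKrullDim_le_add (A := A₀) I rfl
  rw [hdimA, hdimA₀, hdim0] at hle2
  have hle3 : n + d ≤ d + (maximalIdeal (A ⧸ I)).spanFinrank := by exact_mod_cast hle2
  have hn0' : (maximalIdeal (A ⧸ I)).spanFinrank = n := by omega
  have hdim : ringKrullDim A = ringKrullDim A₀ + ringKrullDim (A ⧸ I) := by
    rw [hdimA, hdimA₀, hdim0, hn0']
    push_cast
    ring
  have h2470 := (Groth.Agent.S2470.result (A := A₀) (B := A)).out 3 1
  have hA₀reg : IsRegularLocalRing A₀ := inferInstance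
  exact (h2470.mp ⟨hA₀reg, hreg0, hdim⟩).2.2

end Groth.Agent.Lib.GeomRegFlatH5
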