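import Mathlib
import Groth.Agent.Lib.RegPow2_helper8

set_option autoImplicit false
set_option linter.style.haveILetI false

universe u

namespace Groth.Agent.Lib.InsepGlobH5

/-- the ideal generated by the `e`-th powers of the members of a family indexed by a finset -/
def JS {Λ : Type*} [CommRing Λ] {d : ℕ} (e : ℕ) (z : Fin d → Λ) (S : Finset (Fin d)) : Ideal Λ :=
  Ideal.span ((fun j => z j ^ e) '' (S : Set (Fin d)))

theorem JS_congr {Λ : Type*} [CommRing Λ] {d : ℕ} (e : ℕ) (z z' : Fin d → Λ) (S : Finset (Fin d))
    (h : ∀ j ∈ S, z' j = z j) : JS e z' S = JS e z S := by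
  unfold JS
  congr 1
  apply Set.image_congr
  intro j hj
  rw [h j (Finset.mem_coe.mp hj)]

theorem JS_unit_mul {A : Type*} [CommRing A] {d : ℕ} (e : ℕ) (z : Fin d → A) (v : Fin d → A)
    (hv : ∀ j, IsUnit (v j)) (S : Finset (Fin d)) :
    JS e (fun j => v j * z j) S = JS e z S := by
  unfold JS
  apply le_antisymm
  · rw [Ideal.span_le]
    rintro _ ⟨j, hj, rfl⟩
    show (v j * z j) ^ e ∈ _
    rw [mul_pow]
    exact Ideal.mul_mem_left _ _ (Ideal.subset_span ⟨j, hj, rfl⟩)
  · rw [Ideal.span_le]
    rintro _ ⟨j, hj, rfl⟩
    show z j ^ e ∈ _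
    obtain ⟨w, hw⟩ := (hv j).exists_left_inv
    have : z j ^ e = w ^ e * (v j * z j) ^ e := by
      rw [mul_pow, ← mul_assoc, ← mul_pow, hw, one_pow, one_mul]
    rw [this]
    exact Ideal.mul_mem_left _ _ (Ideal.subset_span ⟨j, hj, rfl⟩)

theorem map_JS {Λ A : Type*} [CommRing Λ] [CommRing A] (f : Λ →+* A) {d : ℕ} (e : ℕ)
    (z : Fin d → Λ) (S : Finset (Fin d)) : (JS e z S).map f = JS e (fun j => f (z j)) S := by
  unfold JS
  rw [Ideal.map_span, Set.image_image]
  congr 1
  apply Set.image_congr
  intro j _
  exact map_pow f _ _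

theorem exists_mult {Λ : Type u} [CommRing Λ] [IsNoetherianRing Λ] (q : Ideal Λ) [q.IsPrime]
    {d : ℕ} (e : ℕ) (x : Fin d → Λ)
    (H : ∀ (i : Fin d) (S : Finset (Fin d)), i ∉ S → ∀ y : Localization.AtPrime q,
      algebraMap Λ (Localization.AtPrime q) (x i) * y ∈
        JS e (fun j => algebraMap Λ (Localization.AtPrime q) (x j)) S →
      y ∈ JS e (fun j => algebraMap Λ (Localization.AtPrime q) (x j)) S) :
    ∃ s : Fin d → Λ, (∀ i, s i ∉ q) ∧ ∀ (i : Fin d) (S : Finset (Fin d)),
      (∀ j ∈ S, (j : ℕ) < (i : ℕ)) → ∀ y, (s i * x i) ^ 2 * y ∈ JS e (fun j => s j * x j) S →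
        (s i * x i) * y ∈ JS e (fun j => s j * x j) S := by
  classical
  suffices hmain : ∀ t, t ≤ d → ∃ s : Fin d → Λ, (∀ i, s i ∉ q) ∧
      ∀ (i : Fin d), (i : ℕ) < t → ∀ (S : Finset (Fin d)),
      (∀ j ∈ S, (j : ℕ) < (i : ℕ)) → ∀ y, (s i * x i) ^ 2 * y ∈ JS e (fun j => s j * x j) S →
        (s i * x i) * y ∈ JS e (fun j => s j * x j) S by
    obtain ⟨s, hs1, hs2⟩ := hmain d le_rfl
    exact ⟨s, hs1, fun i S hS y hy => hs2 i i.2 S hS y hy⟩
  intro t
  induction t with
  | zero =>
    intro _
    exact ⟨fun _ => 1, fun _ => by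
      intro h
      exact (Ideal.IsPrime.ne_top inferInstance) ((Ideal.eq_top_iff_one q).mpr h),
      fun i hi => absurd hi (Nat.not_lt_zero _)⟩
  | succ t ih =>
    intro ht
    obtain ⟨s, hs1, hs2⟩ := ih (by omega)
    obtain ⟨tt, htt⟩ : ∃ tt : Fin d, (tt : ℕ) = t := ⟨⟨t, by omega⟩, rfl⟩
    let below : Finset (Fin d) := Finset.univ.filter fun j : Fin d => (j : ℕ) < t
    choose κ hκ1 hκ2 using fun S : Finset (Fin d) =>
      RegPowH8.exists_uniform q (JS e (fun j => s j * x j) S)
    let σ : Λ := ∏ S ∈ below.powerset, κ S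
    have hσ : σ ∉ q := by
      intro h
      obtain ⟨S, _, hS⟩ := (Ideal.IsPrime.prod_mem_iff).mp h
      exact hκ1 S hS
    have hsu : ∀ j, IsUnit (algebraMap Λ (Localization.AtPrime q) (s j)) := fun j =>
      IsLocalization.map_units (Localization.AtPrime q) (⟨s j, hs1 j⟩ : q.primeCompl)
    have hσu : IsUnit (algebraMap Λ (Localization.AtPrime q) σ) :=
      IsLocalization.map_units (Localization.AtPrime q) (⟨σ, hσ⟩ : q.primeCompl)
    refine ⟨Function.update s tt (σ * s tt), ?_, ?_⟩
    · intro i
      by_cases hi : i = tt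
      · subst hi
        rw [Function.update_self]
        intro h
        rcases (Ideal.IsPrime.mem_or_mem inferInstance h) with h | h
        · exact hσ h
        · exact hs1 _ h
      · rw [Function.update_of_ne hi]
        exact hs1 i
    · intro i hi S hS y hy
      have hJ : JS e (fun j => Function.update s tt (σ * s tt) j * x j) S =
          JS e (fun j => s j * x j) S := by
        apply JS_congr
        intro j hj
        have : j ≠ tt := by
          intro h
          have h1 := hS j hj
          rw [h, htt] at h1
          omega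
        show Function.update s tt (σ * s tt) j * x j = s j * x j
        rw [Function.update_of_ne this]
      rw [hJ] at hy ⊢
      by_cases hit : i = tt
      · subst hit
        rw [Function.update_self] at hy ⊢
        have hSb : S ∈ below.powerset := by
          rw [Finset.mem_powerset]
          intro j hj
          simp only [below, Finset.mem_filter, Finset.mem_univ, true_and]
          rw [← htt]
          exact hS j hj
        have hiS : i ∉ S := fun h => lt_irrefl _ (hS i h)
        -- pass to the localization
        have hJmap : (JS e (fun j => s j * x j) S).map (algebraMap Λ (Localization.AtPrime q)) =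
            JS e (fun j => algebraMap Λ (Localization.AtPrime q) (x j)) S := by
          rw [map_JS]
          have : (fun j => algebraMap Λ (Localization.AtPrime q) (s j * x j)) =
              fun j => algebraMap Λ (Localization.AtPrime q) (s j) *
                algebraMap Λ (Localization.AtPrime q) (x j) := funext (fun j => map_mul _ _ _)
          rw [this, JS_unit_mul e _ _ hsu S]
        have h1 := Ideal.mem_map_of_mem (algebraMap Λ (Localization.AtPrime q)) hy
        rw [hJmap] at h1
        have h2 : algebraMap Λ (Localization.AtPrime q) ((σ * s i * x i) ^ 2 * y) =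
            (algebraMap Λ (Localization.AtPrime q) σ * algebraMap Λ (Localization.AtPrime q) (s i)) ^ 2 *
              (algebraMap Λ (Localization.AtPrime q) (x i) *
                (algebraMap Λ (Localization.AtPrime q) (x i) *
                  algebraMap Λ (Localization.AtPrime q) y)) := by
          simp only [map_mul, map_pow]
          ring
        rw [h2, Ideal.unit_mul_mem_iff_mem _ ((hσu.mul (hsu i)).pow 2)] at h1
        have h3 := H i S hiS _ (H i S hiS _ h1)
        rw [← hJmap] at h3
        have h4 := hκ2 S y h3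
        have h5 : σ * y ∈ JS e (fun j => s j * x j) S := by
          have : σ = (∏ S' ∈ below.powerset.erase S, κ S') * κ S := by
            rw [mul_comm]
            exact (Finset.mul_prod_erase _ _ hSb).symm
          rw [this, mul_assoc]
          exact Ideal.mul_mem_left _ _ h4
        have : σ * s i * x i * y = (s i * x i) * (σ * y) := by ring
        rw [this]
        exact Ideal.mul_mem_left _ _ h5
      · rw [Function.update_of_ne hit] at hy ⊢
        refine hs2 i ?_ S hS y hy
        have : (i : ℕ) ≠ t := fun h => hit (Fin.ext (h.trans htt.symm))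
        omega

end Groth.Agent.Lib.InsepGlobH5
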