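import Mathlib
import Groth.Agent.Lib.InsepGlob1_helper5

set_option autoImplicit false
set_option linter.style.haveILetI false

universe u

open MvPolynomial

namespace Groth.Agent.Lib.InsepGlobH5

theorem JS_filter_lt {Λ : Type*} [CommRing Λ] {d : ℕ} (e : ℕ) (z : Fin d → Λ) (i : Fin d) :
    JS e z (Finset.univ.filter fun j : Fin d => (j : ℕ) < (i : ℕ)) =
      Ideal.span (Set.range fun j : {j : Fin d // (j : ℕ) < (i : ℕ)} => z j ^ e) := by
  unfold JS
  congr 1
  ext y
  constructor
  · rintro ⟨j, hj, rfl⟩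
    have hj' : (j : ℕ) < (i : ℕ) := by
      have := Finset.mem_coe.mp hj
      simpa using this
    exact ⟨⟨j, hj'⟩, rfl⟩
  · rintro ⟨⟨j, hj⟩, rfl⟩
    refine ⟨j, ?_, rfl⟩
    rw [Finset.mem_coe]
    simpa using hj

theorem JS_mono {Λ : Type*} [CommRing Λ] {d : ℕ} (e : ℕ) (z : Fin d → Λ) {S S' : Finset (Fin d)}
    (h : S ⊆ S') : JS e z S ≤ JS e z S' := by
  unfold JS
  apply Ideal.span_mono
  apply Set.image_mono
  exact Finset.coe_subset.mpr h

section CW

variable {R₁ : Type*} [CommRing R₁] {d : ℕ} (E : ℕ) (π : Fin d → R₁)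

/-- the elements `γ i = π i • X i` of the polynomial ring -/
noncomputable def gam (i : Fin d) : MvPolynomial (Fin d) R₁ := C (π i) * X i

theorem gam_pow (i : Fin d) (m : ℕ) :
    gam π i ^ m = monomial (Finsupp.single i m) (π i ^ m) := by
  unfold gam
  rw [mul_pow, ← C_pow, C_mul_X_pow_eq_monomial]

theorem coeff_mem_of_mem (B : Finset (Fin d)) (f : MvPolynomial (Fin d) R₁)
    (hf : f ∈ Ideal.span (Set.range fun j : {j : Fin d // j ∈ B} => gam π j ^ E))
    (α : Fin d →₀ ℕ) : coeff α f ∈ JS E π (B.filter fun j => E ≤ α j) := by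
  classical
  obtain ⟨c, rfl⟩ := Ideal.mem_span_range_iff_exists_fun.mp hf
  rw [coeff_sum]
  apply Ideal.sum_mem
  rintro ⟨j, hj⟩ -
  show coeff α (c ⟨j, hj⟩ * gam π j ^ E) ∈ _
  rw [gam_pow, coeff_mul_monomial']
  split_ifs with h
  · apply Ideal.mul_mem_left
    apply Ideal.subset_span
    refine ⟨j, ?_, rfl⟩
    rw [Finset.mem_coe, Finset.mem_filter]
    refine ⟨hj, ?_⟩
    have := h j
    rwa [Finsupp.single_eq_same] at this
  · exact Ideal.zero_mem _

theorem mem_of_coeff_mem (B : Finset (Fin d)) (f : MvPolynomial (Fin d) R₁)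
    (hf : ∀ α : Fin d →₀ ℕ, coeff α f ∈ JS E π (B.filter fun j => E ≤ α j)) :
    f ∈ Ideal.span (Set.range fun j : {j : Fin d // j ∈ B} => gam π j ^ E) := by
  classical
  rw [f.as_sum]
  apply Ideal.sum_mem
  intro α _
  have h1 := hf α
  unfold JS at h1
  -- induction on the span
  have key : ∀ y ∈ Ideal.span ((fun j => π j ^ E) '' ((B.filter fun j => E ≤ α j : Finset (Fin d)) :
      Set (Fin d))), monomial α y ∈
      Ideal.span (Set.range fun j : {j : Fin d // j ∈ B} => gam π j ^ E) := by
    intro y hy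
    induction hy using Submodule.span_induction with
    | mem y hy =>
      obtain ⟨j, hj, rfl⟩ := hy
      rw [Finset.mem_coe, Finset.mem_filter] at hj
      have hle : Finsupp.single j E ≤ α := by
        rw [Finsupp.le_def]
        intro b
        by_cases hb : b = j
        · subst hb
          rw [Finsupp.single_eq_same]
          exact hj.2
        · rw [Finsupp.single_eq_of_ne hb]
          exact Nat.zero_le _
      have e1 : monomial α (π j ^ E) = monomial (α - Finsupp.single j E) (1 : R₁) * gam π j ^ E := by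
        rw [gam_pow, monomial_mul, one_mul, tsub_add_cancel_of_le hle]
      show monomial α (π j ^ E) ∈ _
      rw [e1]
      exact Ideal.mul_mem_left _ _ (Ideal.subset_span ⟨⟨j, hj.1⟩, rfl⟩)
    | zero => rw [map_zero]; exact Ideal.zero_mem _
    | add a b _ _ ha hb => rw [map_add]; exact Ideal.add_mem _ ha hb
    | smul a b _ hb =>
      have e1 : monomial α (a • b) = C a * monomial α b := by
        rw [C_mul_monomial, smul_eq_mul]
      rw [e1]
      exact Ideal.mul_mem_left _ _ hb
  exact key _ h1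

theorem gam_mul_mem (i : Fin d)
    (hπ : ∀ S : Finset (Fin d), (∀ j ∈ S, (j : ℕ) < (i : ℕ)) → ∀ y,
      π i ^ 2 * y ∈ JS E π S → π i * y ∈ JS E π S)
    (f : MvPolynomial (Fin d) R₁)
    (hf : gam π i ^ 2 * f ∈ Ideal.span
      (Set.range fun j : {j : Fin d // (j : ℕ) < (i : ℕ)} => gam π j ^ E)) :
    gam π i * f ∈ Ideal.span
      (Set.range fun j : {j : Fin d // (j : ℕ) < (i : ℕ)} => gam π j ^ E) := by
  classical
  obtain ⟨B, hB⟩ : ∃ B : Finset (Fin d), ∀ j, j ∈ B ↔ (j : ℕ) < (i : ℕ) :=
    ⟨Finset.univ.filter fun j : Fin d => (j : ℕ) < (i : ℕ), fun j => by simp⟩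
  have hset : (Set.range fun j : {j : Fin d // (j : ℕ) < (i : ℕ)} => gam π j ^ E) =
      Set.range fun j : {j : Fin d // j ∈ B} => gam π j ^ E := by
    ext y
    constructor
    · rintro ⟨⟨j, hj⟩, rfl⟩
      exact ⟨⟨j, (hB j).mpr hj⟩, rfl⟩
    · rintro ⟨⟨j, hj⟩, rfl⟩
      exact ⟨⟨j, (hB j).mp hj⟩, rfl⟩
  rw [hset] at hf ⊢
  apply mem_of_coeff_mem
  intro β
  have e1 : gam π i * f = monomial (Finsupp.single i 1) (π i) * f := by
    rw [← pow_one (gam π i), gam_pow, pow_one]
  rw [e1, coeff_monomial_mul']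
  split_ifs with h
  · have h2 := coeff_mem_of_mem E π B _ hf (β + Finsupp.single i 1)
    rw [gam_pow, coeff_monomial_mul'] at h2
    have hle : Finsupp.single i 2 ≤ β + Finsupp.single i 1 := by
      rw [Finsupp.le_def]
      intro b
      have hb := (Finsupp.le_def.mp h) b
      rw [Finsupp.add_apply]
      by_cases hbi : b = i
      · subst hbi
        rw [Finsupp.single_eq_same] at hb ⊢
        rw [Finsupp.single_eq_same]
        omega
      · rw [Finsupp.single_eq_of_ne hbi]
        exact Nat.zero_le _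
    rw [if_pos hle] at h2
    have hsub : β + Finsupp.single i 1 - Finsupp.single i 2 = β - Finsupp.single i 1 := by
      ext b
      have hb := (Finsupp.le_def.mp h) b
      rw [Finsupp.tsub_apply, Finsupp.tsub_apply, Finsupp.add_apply]
      by_cases hbi : b = i
      · subst hbi
        rw [Finsupp.single_eq_same] at hb ⊢
        rw [Finsupp.single_eq_same]
        omega
      · rw [Finsupp.single_eq_of_ne hbi, Finsupp.single_eq_of_ne hbi]
        omega
    rw [hsub] at h2
    have hfil : (B.filter fun j => E ≤ (β + Finsupp.single i 1 : Fin d →₀ ℕ) j) =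
        B.filter fun j => E ≤ β j := by
      apply Finset.filter_congr
      intro j hj
      have hji : j ≠ i := by
        intro hji
        have := (hB j).mp hj
        rw [hji] at this
        exact lt_irrefl _ this
      rw [Finsupp.add_apply, Finsupp.single_eq_of_ne hji, add_zero]
    rw [hfil] at h2
    exact hπ _ (fun j hj => (hB j).mp (Finset.mem_filter.mp hj).1) _ h2
  · exact Ideal.zero_mem _

end CW

end Groth.Agent.Lib.InsepGlobH5
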