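import Mathlib
import Groth.Agent.Lib.InsepGlob2_helper5
import Groth.Agent.Lib.RegPow1_helper8

set_option autoImplicit false
set_option linter.style.haveILetI false

universe u

open IsLocalRing

namespace Groth.Agent.Lib.InsepGlobH5

/-- regularity of powers of a regular system of parameters, in `JS` form -/
theorem H_of_regular {T : Type u} [CommRing T] [IsRegularLocalRing T] {d : ℕ} (z : Fin d → T)
    (hz : Ideal.span (Set.range z) = maximalIdeal T) (hd : (maximalIdeal T).spanFinrank = d)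
    (e : ℕ) (he : 1 ≤ e) (i : Fin d) (S : Finset (Fin d)) (hi : i ∉ S) (y : T)
    (hy : z i * y ∈ JS e z S) : y ∈ JS e z S :=
  RegPowH8.regular_mod_pow T d z hz hd _ S (fun _ => e) i hi (fun _ _ => he) rfl y hy

/-- clearing denominators in a relation `pⁿ = ∑ c_j a_j` -/
theorem exists_lam {Λ : Type u} [CommRing Λ] (q : Ideal Λ) [q.IsPrime] {r : ℕ} (a' : Fin r → Λ)
    (n : ℕ) (hn : 0 < n) (p : Λ) (c : Fin r → Localization.AtPrime q)
    (h : algebraMap Λ (Localization.AtPrime q) p ^ n =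
      ∑ j, c j * algebraMap Λ (Localization.AtPrime q) (a' j)) :
    ∃ (δ : Λ) (lam : Fin r → Λ), δ ∉ q ∧ (δ * p) ^ n = ∑ j, lam j * a' j ∧
      ∀ j, algebraMap Λ (Localization.AtPrime q) (lam j) =
        algebraMap Λ (Localization.AtPrime q) δ ^ n * c j := by
  classical
  obtain ⟨e, he⟩ := IsLocalization.exist_integer_multiples_of_finite q.primeCompl c
  choose l hl using he
  have hl' : ∀ j, algebraMap Λ (Localization.AtPrime q) (l j) =
      algebraMap Λ (Localization.AtPrime q) (e : Λ) * c j := by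
    intro j
    rw [hl j, Algebra.smul_def]
  have h0 : algebraMap Λ (Localization.AtPrime q) ((e : Λ) * p ^ n - ∑ j, l j * a' j) = 0 := by
    rw [map_sub, map_mul, map_pow, h, map_sum, Finset.mul_sum, sub_eq_zero]
    apply Finset.sum_congr rfl
    intro j _
    rw [map_mul, hl', mul_assoc]
  obtain ⟨e', he'⟩ := (IsLocalization.map_eq_zero_iff q.primeCompl (Localization.AtPrime q) _).mp h0
  obtain ⟨n₀, rfl⟩ : ∃ n₀, n = n₀ + 1 := ⟨n - 1, by omega⟩
  have he'2 : (e' : Λ) * ((e : Λ) * p ^ (n₀ + 1)) = (e' : Λ) * ∑ j, l j * a' j := by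
    have := he'
    rw [mul_sub, sub_eq_zero] at this
    exact this
  refine ⟨(e : Λ) * (e' : Λ), fun j => ((e : Λ) * (e' : Λ)) ^ n₀ * ((e' : Λ) * l j), ?_, ?_, ?_⟩
  · exact (e * e').2
  · have e1 : ((e : Λ) * (e' : Λ) * p) ^ (n₀ + 1) =
        ((e : Λ) * (e' : Λ)) ^ n₀ * ((e' : Λ) * ((e : Λ) * p ^ (n₀ + 1))) := by ring
    rw [e1, he'2, Finset.mul_sum, Finset.mul_sum]
    apply Finset.sum_congr rfl
    intro j _
    ring
  · intro j
    rw [map_mul, map_mul, hl', map_pow, map_mul]
    ring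

/-- the `Λ`-side data: exact relations in `Λ` and the annihilator conditions -/
theorem exists_lam_mult {Λ : Type u} [CommRing Λ] [IsNoetherianRing Λ] (q : Ideal Λ) [q.IsPrime]
    [IsRegularLocalRing (Localization.AtPrime q)] {d r : ℕ} (a' : Fin r → Λ)
    (n : ℕ) (hn : 0 < n) (E : ℕ) (hE : 1 ≤ E) (p : Fin d → Λ)
    (c : Fin d → Fin r → Localization.AtPrime q)
    (h : ∀ i, algebraMap Λ (Localization.AtPrime q) (p i) ^ n =
      ∑ j, c i j * algebraMap Λ (Localization.AtPrime q) (a' j))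
    (hspan : Ideal.span (Set.range fun i => algebraMap Λ (Localization.AtPrime q) (p i)) =
      maximalIdeal (Localization.AtPrime q))
    (hd : (maximalIdeal (Localization.AtPrime q)).spanFinrank = d) :
    ∃ (Δ : Fin d → Λ) (lam : Fin d → Fin r → Λ), (∀ i, Δ i ∉ q) ∧
      (∀ i, (Δ i * p i) ^ n = ∑ j, lam i j * a' j) ∧
      (∀ i j, algebraMap Λ (Localization.AtPrime q) (lam i j) =
        algebraMap Λ (Localization.AtPrime q) (Δ i) ^ n * c i j) ∧
      ∀ (i : Fin d) (S : Finset (Fin d)), (∀ j ∈ S, (j : ℕ) < (i : ℕ)) → ∀ y,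
        (Δ i * p i) ^ 2 * y ∈ JS E (fun j => Δ j * p j) S →
          (Δ i * p i) * y ∈ JS E (fun j => Δ j * p j) S := by
  classical
  choose δ lam0 hδ hrel hlam using fun i => exists_lam q a' n hn (p i) (c i) (h i)
  have hδu : ∀ i, IsUnit (algebraMap Λ (Localization.AtPrime q) (δ i)) := fun i =>
    IsLocalization.map_units (Localization.AtPrime q) (⟨δ i, hδ i⟩ : q.primeCompl)
  have hspan' : Ideal.span (Set.range fun i =>
      algebraMap Λ (Localization.AtPrime q) (δ i * p i)) =
      maximalIdeal (Localization.AtPrime q) := by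
    rw [← hspan]
    apply RegPowH8.span_range_unit_mul
    intro i
    exact ⟨_, hδu i, map_mul _ _ _⟩
  obtain ⟨s, hs1, hs2⟩ := exists_mult q E (fun i => δ i * p i)
    (fun i S hi y hy => H_of_regular _ hspan' hd E hE i S hi y hy)
  refine ⟨fun i => s i * δ i, fun i j => s i ^ n * lam0 i j, ?_, ?_, ?_, ?_⟩
  · intro i hi
    rcases Ideal.IsPrime.mem_or_mem inferInstance hi with h1 | h1
    · exact hs1 i h1
    · exact hδ i h1
  · intro i
    have e1 : (s i * δ i * p i) ^ n = s i ^ n * (δ i * p i) ^ n := by ring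
    rw [e1, hrel, Finset.mul_sum]
    apply Finset.sum_congr rfl
    intro j _
    ring
  · intro i j
    rw [map_mul, hlam, map_pow, map_mul]
    ring
  · intro i S hS y hy
    have e1 : ∀ j, s j * δ j * p j = s j * (δ j * p j) := fun j => mul_assoc _ _ _
    simp only [e1] at hy ⊢
    exact hs2 i S hS y hy

end Groth.Agent.Lib.InsepGlobH5
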