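import Mathlib
import Groth.Agent.Lib.InsepGlob3_helper5
import Groth.Agent.Lib.GeomRegFlat3_helper5

set_option autoImplicit false
set_option linter.style.haveILetI false

universe u

open IsLocalRing Module
open Groth.Agent.Lib.CotFlatH3 Groth.Agent.Lib.GeomRegFlatH5

namespace Groth.Agent.Lib.InsepGlobH5

/-- colon ideals and flat base change -/
theorem flat_colon {A B : Type*} [CommRing A] [CommRing B] [Algebra A B] [Module.Flat A B]
    {ι : Type*} [Fintype ι] (x : A) (w : ι → A)
    (hreg : ∀ y : A, x * y ∈ Ideal.span (Set.range w) → y ∈ Ideal.span (Set.range w))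
    (y : B) (hy : algebraMap A B x * y ∈ Ideal.span (Set.range fun i => algebraMap A B (w i))) :
    y ∈ Ideal.span (Set.range fun i => algebraMap A B (w i)) := by
  classical
  obtain ⟨c, hc⟩ := Ideal.mem_span_range_iff_exists_fun.mp hy
  let f : Option ι → A := fun o => o.elim x (fun i => - w i)
  let xx : Option ι → B := fun o => o.elim y c
  have hrel : ∑ o, f o • xx o = 0 := by
    rw [Fintype.sum_option]
    show x • y + ∑ i, (- w i) • c i = 0
    rw [Algebra.smul_def, ← hc, ← Finset.sum_add_distrib]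
    apply Finset.sum_eq_zero
    intro i _
    rw [Algebra.smul_def, map_neg]
    ring
  obtain ⟨k, a, yy, h1, h2⟩ := Module.Flat.isTrivialRelation_of_sum_smul_eq_zero (R := A) (M := B)
    (f := f) (x := xx) hrel
  have h3 : ∀ j, a none j ∈ Ideal.span (Set.range w) := by
    intro j
    apply hreg
    have := h2 j
    rw [Fintype.sum_option] at this
    have e1 : x * a none j = ∑ i, a (some i) j * w i := by
      have e2 : x * a none j + ∑ i, (- w i) * a (some i) j = 0 := this
      rw [← sub_eq_zero, ← e2, sub_eq_add_neg, ← Finset.sum_neg_distrib]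
      congr 1
      apply Finset.sum_congr rfl
      intro i _
      ring
    rw [e1]
    exact Ideal.sum_mem _ (fun i _ => Ideal.mul_mem_left _ _ (Ideal.subset_span ⟨i, rfl⟩))
  have h4 : y = ∑ j, a none j • yy j := h1 none
  rw [h4]
  apply Ideal.sum_mem
  intro j _
  rw [Algebra.smul_def]
  apply Ideal.mul_mem_right
  have := Ideal.mem_map_of_mem (algebraMap A B) (h3 j)
  rw [Ideal.map_span, ← Set.range_comp] at this
  exact this

theorem JS_eq_range {Λ : Type*} [CommRing Λ] {d : ℕ} (e : ℕ) (z : Fin d → Λ)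
    (S : Finset (Fin d)) :
    JS e z S = Ideal.span (Set.range fun j : {j : Fin d // j ∈ S} => z j ^ e) := by
  unfold JS
  congr 1
  ext y
  constructor
  · rintro ⟨j, hj, rfl⟩
    exact ⟨⟨j, Finset.mem_coe.mp hj⟩, rfl⟩
  · rintro ⟨⟨j, hj⟩, rfl⟩
    exact ⟨j, Finset.mem_coe.mpr hj, rfl⟩

/-- `JS`-regularity passes to flat extensions -/
theorem flat_JS {A B : Type*} [CommRing A] [CommRing B] [Algebra A B] [Module.Flat A B]
    {d : ℕ} (e : ℕ) (x : Fin d → A) (i : Fin d) (S : Finset (Fin d))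
    (hreg : ∀ y : A, x i * y ∈ JS e x S → y ∈ JS e x S)
    (y : B) (hy : algebraMap A B (x i) * y ∈ JS e (fun j => algebraMap A B (x j)) S) :
    y ∈ JS e (fun j => algebraMap A B (x j)) S := by
  rw [JS_eq_range] at hy ⊢
  have e1 : (fun j : {j : Fin d // j ∈ S} => algebraMap A B (x j) ^ e) =
      fun j : {j : Fin d // j ∈ S} => algebraMap A B (x j ^ e) :=
    funext (fun j => (map_pow _ _ _).symm)
  rw [e1] at hy ⊢
  apply flat_colon (x i) (fun j : {j : Fin d // j ∈ S} => x j ^ e) _ y hy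
  intro y' hy'
  rw [← JS_eq_range] at hy' ⊢
  exact hreg y' hy'

theorem indep_of_isLocalHom {A B : Type*} [CommRing A] [CommRing B] [IsLocalRing A] [IsLocalRing B]
    (τ : A →+* B) [IsLocalHom τ] {ι : Type*} [Fintype ι] (z : ι → A)
    (h : Indep (fun i => τ (z i))) : Indep z := by
  intro c hc i
  have hle : (maximalIdeal A).map τ ≤ maximalIdeal B :=
    ((IsLocalRing.local_hom_TFAE τ).out 0 2 rfl rfl).1 ‹_›
  have h1 : τ (∑ i, c i * z i) ∈ maximalIdeal B ^ 2 := by
    have := Ideal.mem_map_of_mem τ hc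
    rw [Ideal.map_pow] at this
    exact Ideal.pow_right_mono hle 2 this
  rw [map_sum] at h1
  simp only [map_mul] at h1
  have h2 := h (fun i => τ (c i)) h1 i
  by_contra hci
  have h3 : IsUnit (c i) := by
    rw [mem_maximalIdeal, mem_nonunits_iff, not_not] at hci
    exact hci
  exact ((mem_maximalIdeal _).mp h2) (h3.map _)


/-- the generic `R₁`-side lemma -/
theorem GYgen {Q Q₀ R₁ T : Type u} [CommRing Q] [CommRing Q₀] [IsRegularLocalRing Q₀]
    [Algebra Q Q₀] (PQ : Ideal Q) [PQ.IsPrime] [IsLocalization.AtPrime Q₀ PQ]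
    [CommRing R₁] [IsNoetherianRing R₁] (P₁ : Ideal R₁) [P₁.IsPrime]
    [IsRegularLocalRing (Localization.AtPrime P₁)] [CommRing T] [IsLocalRing T]
    (χ : Q →+* Localization.AtPrime P₁) (τ : Localization.AtPrime P₁ →+* T) [IsLocalHom τ]
    (hPQ : ∀ f, f ∈ PQ ↔ τ (χ f) ∈ maximalIdeal T)
    {d : ℕ} (g : Fin d → Q)
    (hspanQ : Ideal.span (Set.range fun i => algebraMap Q Q₀ (g i)) = maximalIdeal Q₀)
    (hd : d = finrank (ResidueField Q₀) (CotangentSpace Q₀))
    (hind : Indep (fun i => τ (χ (g i))))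
    (e : ℕ) (he : 1 ≤ e) :
    ∃ (πh sh : Fin d → R₁), (∀ i, sh i ∉ P₁) ∧
      (∀ i, χ (g i) * algebraMap R₁ (Localization.AtPrime P₁) (sh i) =
        algebraMap R₁ (Localization.AtPrime P₁) (πh i)) ∧
      ∀ (i : Fin d) (S : Finset (Fin d)), (∀ j ∈ S, (j : ℕ) < (i : ℕ)) → ∀ y,
        πh i ^ 2 * y ∈ JS e πh S → πh i * y ∈ JS e πh S := by
  classical
  have hunits : ∀ y : PQ.primeCompl, IsUnit (χ y) := by
    intro y
    have h1 : τ (χ (y : Q)) ∉ maximalIdeal T := fun h => y.2 ((hPQ _).mpr h)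
    rw [mem_maximalIdeal, mem_nonunits_iff, not_not] at h1
    exact isUnit_of_map_unit τ _ h1
  let χp : Q₀ →+* Localization.AtPrime P₁ := IsLocalization.lift hunits
  letI algQR : Algebra Q₀ (Localization.AtPrime P₁) := χp.toAlgebra
  have hχp : ∀ f, algebraMap Q₀ (Localization.AtPrime P₁) (algebraMap Q Q₀ f) = χ f :=
    fun f => IsLocalization.lift_eq hunits f
  haveI hloc : IsLocalHom (algebraMap Q₀ (Localization.AtPrime P₁)) := by
    constructor
    intro x hx
    obtain ⟨⟨g₁, s⟩, hgs⟩ := IsLocalization.surj PQ.primeCompl x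
    simp only at hgs
    have h1 : algebraMap Q₀ (Localization.AtPrime P₁) x * χ (s : Q) = χ g₁ := by
      have := congrArg (algebraMap Q₀ (Localization.AtPrime P₁)) hgs
      rw [map_mul, hχp, hχp] at this
      exact this
    have h2 : IsUnit (χ g₁) := by
      rw [← h1]
      exact hx.mul (hunits s)
    have h3 : g₁ ∉ PQ := by
      intro hg
      have := (hPQ g₁).mp hg
      exact ((mem_maximalIdeal _).mp this) (h2.map τ)
    have h4 : IsUnit (algebraMap Q Q₀ g₁) :=
      IsLocalization.map_units Q₀ (⟨g₁, h3⟩ : PQ.primeCompl)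
    rw [← hgs] at h4
    exact isUnit_of_mul_isUnit_left h4
  have hindR : Indep (fun i => algebraMap Q₀ (Localization.AtPrime P₁)
      (algebraMap Q Q₀ (g i))) := by
    apply indep_of_isLocalHom τ
    convert hind using 2 with i
    rw [hχp]
  obtain ⟨hflat, -⟩ := flat_and_regular_of_indep
    (fun i => algebraMap Q Q₀ (g i)) hspanQ hd hindR
  haveI := hflat
  have hdQ : (maximalIdeal Q₀).spanFinrank = d := by
    rw [IsLocalRing.spanFinrank_maximalIdeal_eq_finrank_cotangentSpace, ← hd]
  -- regularity in `R'`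
  have HR : ∀ (i : Fin d) (S : Finset (Fin d)), i ∉ S → ∀ y : Localization.AtPrime P₁,
      χ (g i) * y ∈ JS e (fun j => χ (g j)) S → y ∈ JS e (fun j => χ (g j)) S := by
    intro i S hi y hy
    have e1 : (fun j => χ (g j)) = fun j => algebraMap Q₀ (Localization.AtPrime P₁)
        (algebraMap Q Q₀ (g j)) := funext (fun j => (hχp _).symm)
    rw [e1] at hy ⊢
    rw [← hχp] at hy
    exact flat_JS e (fun j => algebraMap Q Q₀ (g j)) i S
      (fun y' hy' => H_of_regular _ hspanQ hdQ e he i S hi y' hy') y hy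
  choose ps hps using fun i => IsLocalization.surj P₁.primeCompl (χ (g i))
  have hsu : ∀ j, IsUnit (algebraMap R₁ (Localization.AtPrime P₁) ((ps j).2 : R₁)) := fun j =>
    IsLocalization.map_units (Localization.AtPrime P₁) (ps j).2
  have hfam : (fun j => algebraMap R₁ (Localization.AtPrime P₁) (ps j).1) =
      fun j => algebraMap R₁ (Localization.AtPrime P₁) ((ps j).2 : R₁) * χ (g j) :=
    funext (fun j => by rw [← hps j, mul_comm])
  obtain ⟨s, hs1, hs2⟩ := exists_mult P₁ e (fun i => (ps i).1) (by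
    intro i S hi y hy
    rw [hfam, JS_unit_mul e _ _ hsu S] at hy ⊢
    have e2 : algebraMap R₁ (Localization.AtPrime P₁) (ps i).1 =
        algebraMap R₁ (Localization.AtPrime P₁) ((ps i).2 : R₁) * χ (g i) := congrFun hfam i
    rw [e2, mul_assoc] at hy
    rw [Ideal.unit_mul_mem_iff_mem _ (hsu i)] at hy
    exact HR i S hi y hy)
  refine ⟨fun i => s i * (ps i).1, fun i => s i * ((ps i).2 : R₁), ?_, ?_, hs2⟩
  · intro i hi
    rcases Ideal.IsPrime.mem_or_mem inferInstance hi with h1 | h1
    · exact hs1 i h1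
    · exact (ps i).2.2 h1
  · intro i
    rw [map_mul, map_mul, ← hps i]
    ring

end Groth.Agent.Lib.InsepGlobH5
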