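import Mathlib

/-!
# Adjusting a derivation `k → N` by a derivation of `K` up to a finite-dimensional error

For a field extension `K/k` with `H_1(L_{K/k})` finite-dimensional, any derivation `θ : k → N` into a
`K`-vector space agrees, up to a finite `k`-span of vectors, with the restriction of a derivation of `K`.
-/

set_option linter.style.haveILetI false
set_option autoImplicit false

universe u v

open TensorProduct

namespace Groth.Agent.Lib.ArtUnionH5

section DerAdjust

variable {k K : Type u} [Field k] [Field K] [Algebra k K]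

/-- A linear map vanishing on the kernel of `α` factors through `α` (vector spaces). -/
theorem exists_comp_eq_of_ker_le {V W N : Type*} [AddCommGroup V] [Module K V] [AddCommGroup W]
    [Module K W] [AddCommGroup N] [Module K N] (α : V →ₗ[K] W) (φ : V →ₗ[K] N)
    (h : LinearMap.ker α ≤ LinearMap.ker φ) : ∃ ψ : W →ₗ[K] N, ψ ∘ₗ α = φ := by
  let f : LinearMap.range α →ₗ[K] N :=
    ((LinearMap.ker α).liftQ φ h) ∘ₗ (α.quotKerEquivRange.symm : _ →ₗ[K] _)
  obtain ⟨g, hg⟩ := LinearMap.exists_extend f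
  refine ⟨g, LinearMap.ext fun t => ?_⟩
  have h1 : g (α t) = f ⟨α t, LinearMap.mem_range_self α t⟩ := by
    rw [← hg]; rfl
  rw [LinearMap.comp_apply, h1]
  change ((LinearMap.ker α).liftQ φ h) (α.quotKerEquivRange.symm ⟨α t, _⟩) = φ t
  rw [LinearMap.quotKerEquivRange_symm_apply_image]
  rfl

theorem derAdjust (hH : Module.Finite K (Algebra.H1Cotangent k K))
    {N : Type v} [AddCommGroup N] [Module K N] (θ : k →+ N)
    (hθ : ∀ a b, θ (a * b) = algebraMap k K a • θ b + algebraMap k K b • θ a) :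
    ∃ D : K →+ N, (∀ x y, D (x * y) = x • D y + y • D x) ∧ ∃ (r : ℕ) (Φ : Fin r → N), ∀ a : k,
      ∃ c : Fin r → k, θ a - D (algebraMap k K a) = ∑ j, algebraMap k K (c j) • Φ j := by
  classical
  letI : Module k N := Module.compHom N (algebraMap k K)
  haveI : IsScalarTower k K N := ⟨fun a c x => by
    change (a • c) • x = algebraMap k K a • (c • x)
    rw [Algebra.smul_def, mul_smul]⟩
  have smul_def' : ∀ (a : k) (x : N), a • x = algebraMap k K a • x := fun _ _ => rfl
  -- θ as a derivation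
  let θD : Derivation ℤ k N := Derivation.mk' θ.toIntLinearMap (fun a b => by
    change θ (a * b) = a • θ b + b • θ a
    rw [hθ, smul_def', smul_def'])
  let θt : Ω[k⁄ℤ] →ₗ[k] N := θD.liftKaehlerDifferential
  have hθt : ∀ a, θt (KaehlerDifferential.D ℤ k a) = θ a := fun a =>
    θD.liftKaehlerDifferential_comp_D a
  let α : K ⊗[k] Ω[k⁄ℤ] →ₗ[K] Ω[K⁄ℤ] := KaehlerDifferential.mapBaseChange ℤ k K
  -- kernel of α is finitely generated
  have hex := Algebra.H1Cotangent.exact_δ_mapBaseChange ℤ k K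
  have hker : LinearMap.ker α = LinearMap.range (Algebra.H1Cotangent.δ ℤ k K) :=
    (LinearMap.exact_iff.mp hex)
  have hfg : (LinearMap.ker α).FG := by
    rw [hker]
    exact Module.Finite.iff_fg.mp (Module.Finite.range _)
  obtain ⟨s, hs⟩ := hfg
  obtain ⟨W₀, hW₀fin, hsW₀⟩ :=
    TensorProduct.exists_finite_submodule_right_of_setFinite (s : Set (K ⊗[k] Ω[k⁄ℤ]))
      s.finite_toSet
  obtain ⟨q, hq⟩ := Submodule.exists_isCompl W₀
  let π₀ : Ω[k⁄ℤ] →ₗ[k] Ω[k⁄ℤ] := W₀.subtype ∘ₗ Submodule.projectionOnto W₀ q hq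
  let π₁ : Ω[k⁄ℤ] →ₗ[k] Ω[k⁄ℤ] := LinearMap.id - π₀
  have hπ₁ : ∀ w : W₀, π₁ (w : Ω[k⁄ℤ]) = 0 := fun w => by
    change (w : Ω[k⁄ℤ]) - ((Submodule.projectionOnto W₀ q hq (w : Ω[k⁄ℤ]) : W₀) : Ω[k⁄ℤ]) = 0
    rw [Submodule.projectionOnto_apply_left, sub_self]
  let θ₁ : Ω[k⁄ℤ] →ₗ[k] N := θt ∘ₗ π₁
  let φ : K ⊗[k] Ω[k⁄ℤ] →ₗ[K] N := θ₁.liftBaseChange K
  have key : ∀ t' : K ⊗[k] W₀, φ (W₀.subtype.lTensor K t') = 0 := by
    intro t'
    induction t' using TensorProduct.induction_on with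
    | zero => simp
    | tmul c w =>
      simp only [LinearMap.lTensor_tmul, Submodule.subtype_apply, φ,
        LinearMap.liftBaseChange_tmul, θ₁, LinearMap.comp_apply, hπ₁, map_zero, smul_zero]
    | add x y hx hy => rw [map_add, map_add, hx, hy, add_zero]
  have hφ : LinearMap.ker α ≤ LinearMap.ker φ := by
    rw [← hs, Submodule.span_le]
    intro t ht
    obtain ⟨t', rfl⟩ := hsW₀ ht
    exact key t'
  obtain ⟨ψ, hψ⟩ := exists_comp_eq_of_ker_le α φ hφ
  let DD : Derivation ℤ K N := ψ.compDer (KaehlerDifferential.D ℤ K)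
  have hDD : ∀ a : k, DD (algebraMap k K a) =
      θ a - θt ((Submodule.projectionOnto W₀ q hq (KaehlerDifferential.D ℤ k a) : W₀) :
        Ω[k⁄ℤ]) := by
    intro a
    have h1 : α ((1 : K) ⊗ₜ[k] KaehlerDifferential.D ℤ k a) =
        KaehlerDifferential.D ℤ K (algebraMap k K a) := by
      change KaehlerDifferential.mapBaseChange ℤ k K _ = _
      rw [KaehlerDifferential.mapBaseChange_tmul, one_smul, KaehlerDifferential.map_D]
    change ψ (KaehlerDifferential.D ℤ K (algebraMap k K a)) = _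
    rw [← h1, ← LinearMap.comp_apply, hψ]
    change θ₁.liftBaseChange K _ = _
    rw [LinearMap.liftBaseChange_tmul, one_smul]
    change θt (KaehlerDifferential.D ℤ k a - π₀ (KaehlerDifferential.D ℤ k a)) = _
    rw [map_sub, hθt]
    rfl
  obtain ⟨r, S, hS⟩ := Module.Finite.exists_fin (R := k) (M := W₀)
  refine ⟨(DD : K →ₗ[ℤ] N).toAddMonoidHom, fun x y => DD.leibniz x y, r,
    fun j => θt (S j : Ω[k⁄ℤ]), fun a => ?_⟩
  have hw : (Submodule.projectionOnto W₀ q hq (KaehlerDifferential.D ℤ k a) : W₀) ∈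
      Submodule.span k (Set.range S) := by rw [hS]; trivial
  obtain ⟨c, hc⟩ := (Submodule.mem_span_range_iff_exists_fun k).mp hw
  refine ⟨c, ?_⟩
  change θ a - DD (algebraMap k K a) = _
  rw [hDD, sub_sub_cancel, ← hc]
  simp only [Submodule.coe_sum, Submodule.coe_smul, map_sum, map_smul, smul_def']

end DerAdjust

end Groth.Agent.Lib.ArtUnionH5
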