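import Mathlib
import Groth.Agent.Lib.CoeffFieldP_helper3

/-!
# Lifting ring homomorphisms from fields of characteristic `p` along nilpotent surjections;
subrings of rings with a nilpotent ideal
-/

set_option linter.style.haveILetI false
set_option autoImplicit false
set_option maxSynthPendingDepth 3

universe u

namespace Groth.Agent.Lib.ArtUnionH5

/-- A ring homomorphism from a field of characteristic `p` lifts along a surjection with nilpotent
kernel (formal smoothness of fields over the prime field). -/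
theorem liftRingHom (p : ℕ) [hp : Fact p.Prime] {L B C : Type u} [Field L] [CharP L p]
    [CommRing B] [CharP B p] [CommRing C]
    (g : B →+* C) (hg : Function.Surjective g) (hnil : IsNilpotent (RingHom.ker g))
    (f : L →+* C) : ∃ f' : L →+* B, g.comp f' = f := by
  classical
  letI : Algebra (ULift.{u} (ZMod p)) B :=
    ((ZMod.castHom (dvd_refl p) B).comp
      (ULift.ringEquiv : ULift.{u} (ZMod p) ≃+* ZMod p).toRingHom).toAlgebra
  letI : Algebra (ULift.{u} (ZMod p)) L :=
    ((ZMod.castHom (dvd_refl p) L).comp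
      (ULift.ringEquiv : ULift.{u} (ZMod p) ≃+* ZMod p).toRingHom).toAlgebra
  letI : Algebra (ULift.{u} (ZMod p)) C :=
    (g.comp (algebraMap (ULift.{u} (ZMod p)) B)).toAlgebra
  haveI : PerfectField (ULift.{u} (ZMod p)) := PerfectField.ofFinite
  haveI : Algebra.IsGeometricallyReduced (ULift.{u} (ZMod p)) L :=
    Groth.Agent.Lib.PerfectGRH3.isGeometricallyReduced_of_perfectField _ _
  haveI : Algebra.FormallySmooth (ULift.{u} (ZMod p)) L :=
    Groth.Agent.Lib.SepSmoothH3.formallySmooth_of_isGeometricallyReduced _ _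
  let gA : B →ₐ[ULift.{u} (ZMod p)] C := { g with commutes' := fun _ => rfl }
  let fA : L →ₐ[ULift.{u} (ZMod p)] C :=
    { f with
      commutes' := fun a => RingHom.congr_fun
        (Groth.Agent.Lib.CoeffFieldPH3.ringHom_ulift_zmod_ext
          (f.comp (algebraMap (ULift.{u} (ZMod p)) L)) (algebraMap (ULift.{u} (ZMod p)) C)) a }
  have hg' : Function.Surjective gA := hg
  have hnil' : IsNilpotent (RingHom.ker (gA : B →+* C)) := hnil
  refine ⟨(Algebra.FormallySmooth.liftOfSurjective fA gA hg' hnil').toRingHom, RingHom.ext fun x => ?_⟩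
  exact Algebra.FormallySmooth.liftOfSurjective_apply fA gA hg' hnil' x


section Nilpotent

variable {Λ : Type*} [CommRing Λ]

/-- If a subring `D` surjects onto `Λ/m` and contains generators of the nilpotent ideal `m`, then
`D = Λ`. -/
theorem subring_eq_top_of_nilpotent (m : Ideal Λ) (n : ℕ) (hn : m ^ n = ⊥)
    (D : Subring Λ) (G : Set Λ) (hGD : G ⊆ D) (hG : Ideal.span G = m)
    (h1 : ∀ x, ∃ y ∈ D, x - y ∈ m) : D = ⊤ := by
  -- Step A
  have stepA : ∀ a ∈ m, ∃ y ∈ D, y ∈ m ∧ a - y ∈ m ^ 2 := by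
    intro a ha
    rw [← hG] at ha
    induction ha using Submodule.span_induction with
    | mem g hg =>
      exact ⟨g, hGD hg, hG ▸ Ideal.subset_span hg, by rw [sub_self]; exact zero_mem _⟩
    | zero => exact ⟨0, zero_mem _, zero_mem _, by rw [sub_self]; exact zero_mem _⟩
    | add a b _ _ iha ihb =>
      obtain ⟨y₁, hy₁, hy₁m, h₁⟩ := iha
      obtain ⟨y₂, hy₂, hy₂m, h₂⟩ := ihb
      refine ⟨y₁ + y₂, add_mem hy₁ hy₂, add_mem hy₁m hy₂m, ?_⟩
      have : a + b - (y₁ + y₂) = (a - y₁) + (b - y₂) := by ring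
      rw [this]
      exact add_mem h₁ h₂
    | smul w a haG iha =>
      obtain ⟨ya, hya, hyam, h₂⟩ := iha
      obtain ⟨yw, hyw, hw⟩ := h1 w
      have ham : a ∈ m := hG ▸ haG
      refine ⟨yw * ya, mul_mem hyw hya, Ideal.mul_mem_left _ _ hyam, ?_⟩
      have : w • a - yw * ya = (w - yw) * a + yw * (a - ya) := by
        rw [smul_eq_mul]; ring
      rw [this]
      refine add_mem ?_ (Ideal.mul_mem_left _ _ h₂)
      rw [pow_two]
      exact Ideal.mul_mem_mul hw ham
  -- Step B
  have stepB : ∀ j : ℕ, ∀ x ∈ m ^ j, ∃ y ∈ D, x - y ∈ m ^ (j + 1) := by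
    intro j
    induction j with
    | zero =>
      intro x _
      obtain ⟨y, hy, hxy⟩ := h1 x
      exact ⟨y, hy, by simpa using hxy⟩
    | succ j ih =>
      intro x hx
      rw [pow_succ] at hx
      induction hx using Submodule.mul_induction_on' with
      | mem_mul_mem b hb a ha =>
        obtain ⟨yb, hyb, hb'⟩ := ih b hb
        obtain ⟨ya, hya, hyam, ha'⟩ := stepA a ha
        refine ⟨yb * ya, mul_mem hyb hya, ?_⟩
        have e : b * a - yb * ya = (b - yb) * a + yb * (a - ya) := by ring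
        have hybm : yb ∈ m ^ j := by
          have : yb = b - (b - yb) := by ring
          rw [this]
          exact sub_mem hb (Ideal.pow_le_pow_right (Nat.le_succ j) hb')
        rw [e]
        refine add_mem ?_ ?_
        · have := Ideal.mul_mem_mul hb' ha
          rwa [← pow_succ] at this
        · have := Ideal.mul_mem_mul hybm ha'
          rwa [← pow_add] at this
      | add x _ y _ ihx ihy =>
        obtain ⟨y₁, hy₁, h₁⟩ := ihx
        obtain ⟨y₂, hy₂, h₂⟩ := ihy
        refine ⟨y₁ + y₂, add_mem hy₁ hy₂, ?_⟩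
        have : x + y - (y₁ + y₂) = (x - y₁) + (y - y₂) := by ring
        rw [this]
        exact add_mem h₁ h₂
  -- Step C
  have stepC : ∀ j : ℕ, ∀ x : Λ, ∃ y ∈ D, x - y ∈ m ^ j := by
    intro j
    induction j with
    | zero => exact fun x => ⟨0, zero_mem _, by simp⟩
    | succ j ih =>
      intro x
      obtain ⟨y, hy, hxy⟩ := ih x
      obtain ⟨y', hy', h'⟩ := stepB j _ hxy
      refine ⟨y + y', add_mem hy hy', ?_⟩
      have : x - (y + y') = x - y - y' := by ring
      rwa [this]
  rw [eq_top_iff]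
  intro x _
  obtain ⟨y, hy, hxy⟩ := stepC n x
  rw [hn, Ideal.mem_bot, sub_eq_zero] at hxy
  exact hxy ▸ hy

end Nilpotent

section ClosureFinite

variable (k : Type*) {K Λ : Type*} [Field k] [Field K] [Algebra k K] [CommRing Λ]

/-- The subring generated by `σ(k(T))` and `G`. -/
def genRing (σ : K →+* Λ) (G : Set Λ) (T : Set K) : Subring Λ :=
  Subring.closure (σ '' (IntermediateField.adjoin k T : Set K) ∪ G)

theorem genRing_mono (σ : K →+* Λ) (G : Set Λ) {T T' : Set K} (h : T ⊆ T') :
    genRing k σ G T ≤ genRing k σ G T' := by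
  apply Subring.closure_mono
  apply Set.union_subset_union_left
  apply Set.image_mono
  exact IntermediateField.adjoin.mono k _ _ h

theorem sigma_mem_genRing (σ : K →+* Λ) (G : Set Λ) (T : Set K) {c : K}
    (hc : c ∈ IntermediateField.adjoin k T) : σ c ∈ genRing k σ G T :=
  Subring.subset_closure (Or.inl ⟨c, hc, rfl⟩)

theorem mem_genRing_of_mem (σ : K →+* Λ) (G : Set Λ) (T : Set K) {g : Λ} (hg : g ∈ G) :
    g ∈ genRing k σ G T :=
  Subring.subset_closure (Or.inr hg)

theorem exists_finset_mem_genRing (σ : K →+* Λ) (G : Set Λ) (x : Λ)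
    (hx : x ∈ Subring.closure (Set.range σ ∪ G)) :
    ∃ T : Finset K, x ∈ genRing k σ G (T : Set K) := by
  classical
  induction hx using Subring.closure_induction with
  | mem x hx =>
    rcases hx with ⟨c, rfl⟩ | hx
    · exact ⟨{c}, sigma_mem_genRing k σ G _
        (IntermediateField.subset_adjoin k _ (by simp))⟩
    · exact ⟨∅, mem_genRing_of_mem k σ G _ hx⟩
  | zero => exact ⟨∅, zero_mem _⟩
  | one => exact ⟨∅, one_mem _⟩
  | add x y _ _ ihx ihy =>
    obtain ⟨T₁, h₁⟩ := ihx
    obtain ⟨T₂, h₂⟩ := ihy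
    refine ⟨T₁ ∪ T₂, add_mem (genRing_mono k σ G ?_ h₁) (genRing_mono k σ G ?_ h₂)⟩
    · exact_mod_cast Finset.subset_union_left
    · exact_mod_cast Finset.subset_union_right
  | neg x _ ih =>
    obtain ⟨T, h⟩ := ih
    exact ⟨T, neg_mem h⟩
  | mul x y _ _ ihx ihy =>
    obtain ⟨T₁, h₁⟩ := ihx
    obtain ⟨T₂, h₂⟩ := ihy
    refine ⟨T₁ ∪ T₂, mul_mem (genRing_mono k σ G ?_ h₁) (genRing_mono k σ G ?_ h₂)⟩
    · exact_mod_cast Finset.subset_union_left
    · exact_mod_cast Finset.subset_union_right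

end ClosureFinite

end Groth.Agent.Lib.ArtUnionH5
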