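import Mathlib
import Groth.Agent.Lib.ArtUnion1_helper5
import Groth.Agent.Lib.ArtUnion2_helper5

/-!
# The claim: a section `σ` of the residue map and a finitely generated subfield `F` with
`k → Λ` landing in `σ(F)[G]`
-/

set_option linter.style.haveILetI false
set_option autoImplicit false
set_option maxSynthPendingDepth 3

universe u

namespace Groth.Agent.Lib.ArtUnionH5

variable {k K : Type u} [Field k] [Field K] [Algebra k K]

/-- The inductive step: from `Λ/I` to `Λ` for an ideal `I ≤ m` with `I * m = 0`. -/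
theorem claim_step (p : ℕ) [hp : Fact p.Prime] [CharP k p]
    (hH : Module.Finite K (Algebra.H1Cotangent k K))
    (Λ : Type u) [CommRing Λ] [Algebra k Λ] (ρ : Λ →ₐ[k] K) (hρ : Function.Surjective ρ)
    (G : Set Λ) (hG : Ideal.span G = RingHom.ker ρ) (N : ℕ) (hN : (RingHom.ker ρ) ^ N = ⊥)
    (I : Ideal Λ) (hIm : I ≤ RingHom.ker ρ) (hI : I * RingHom.ker ρ = ⊥)
    (σ' : K →+* Λ ⧸ I)
    (hσ' : ∀ x, Ideal.Quotient.lift I (ρ : Λ →+* K) (fun a ha => hIm ha) (σ' x) = x)
    (T' : Finset K)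
    (hT' : ∀ a : k, algebraMap k (Λ ⧸ I) a ∈
      genRing k σ' ((Ideal.Quotient.mk I) '' G) (T' : Set K)) :
    ∃ σ : K →+* Λ, (∀ x, ρ (σ x) = x) ∧ ∃ T : Finset K, ∀ a : k,
      algebraMap k Λ a ∈ genRing k σ G (T : Set K) := by
  classical
  have hmem_m : ∀ x, x ∈ RingHom.ker ρ ↔ ρ x = 0 := fun x => RingHom.mem_ker
  have hI2 : I * I = ⊥ := le_bot_iff.mp (hI ▸ Ideal.mul_mono_right hIm)
  have hII : ∀ x ∈ I, ∀ y ∈ I, x * y = 0 := fun x hx y hy => by
    have := Ideal.mul_mem_mul hx hy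
    rwa [hI2, Ideal.mem_bot] at this
  have hIm' : ∀ x ∈ I, ∀ y ∈ RingHom.ker ρ, y * x = 0 := fun x hx y hy => by
    have := Ideal.mul_mem_mul hx hy
    rw [hI, Ideal.mem_bot] at this
    rw [mul_comm]; exact this
  haveI : Nontrivial Λ := by
    refine ⟨⟨0, 1, fun h => ?_⟩⟩
    have := congrArg ρ h
    simp at this
  haveI : CharP Λ p := charP_of_injective_algebraMap (algebraMap k Λ).injective p
  haveI : CharP K p := charP_of_injective_algebraMap (algebraMap k K).injective p
  -- lift σ'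
  have hnilI : IsNilpotent (RingHom.ker (Ideal.Quotient.mk I)) := by
    refine ⟨2, ?_⟩
    rw [Ideal.mk_ker, pow_two, hI2]; rfl
  obtain ⟨σ₀, hσ₀⟩ := liftRingHom p (Ideal.Quotient.mk I) Ideal.Quotient.mk_surjective hnilI σ'
  have hσ₀' : ∀ x, Ideal.Quotient.mk I (σ₀ x) = σ' x := fun x => RingHom.congr_fun hσ₀ x
  have hρσ₀ : ∀ x, ρ (σ₀ x) = x := fun x => by
    have := hσ' x
    rw [← hσ₀', Ideal.Quotient.lift_mk] at this
    exact this
  -- the subrings
  let S₀ : Subring Λ := genRing k σ₀ G (T' : Set K)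
  let S' : Subring (Λ ⧸ I) := genRing k σ' ((Ideal.Quotient.mk I) '' G) (T' : Set K)
  have hmap : S₀.map (Ideal.Quotient.mk I) = S' := by
    change (Subring.closure _).map _ = Subring.closure _
    rw [RingHom.map_closure, Set.image_union, Set.image_image]
    congr 2
    ext y
    simp only [Set.mem_image, hσ₀']
  let g : S₀ →+* S' := ((Ideal.Quotient.mk I).comp S₀.subtype).codRestrict S' (fun x => by
    rw [← hmap]; exact ⟨x, x.2, rfl⟩)
  have hg_apply : ∀ x : S₀, ((g x : S') : Λ ⧸ I) = Ideal.Quotient.mk I (x : Λ) := fun _ => rfl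
  have hgsurj : Function.Surjective g := by
    rintro ⟨y, hy⟩
    rw [← hmap] at hy
    obtain ⟨x, hx, rfl⟩ := hy
    exact ⟨⟨x, hx⟩, rfl⟩
  have hgker : ∀ x : S₀, x ∈ RingHom.ker g → (x : Λ) ∈ I := by
    intro x hx
    rw [RingHom.mem_ker] at hx
    have := congrArg (Subtype.val) hx
    rw [hg_apply] at this
    exact Ideal.Quotient.eq_zero_iff_mem.mp this
  have hgnil : IsNilpotent (RingHom.ker g) := by
    refine ⟨2, ?_⟩
    rw [pow_two, Ideal.zero_eq_bot, eq_bot_iff, Ideal.mul_le]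
    intro x hx y hy
    rw [Ideal.mem_bot]
    exact Subtype.ext (hII _ (hgker x hx) _ (hgker y hy))
  haveI : CharP S₀ p := RingHom.charP S₀.subtype Subtype.val_injective p
  let τ' : k →+* S' := (algebraMap k (Λ ⧸ I)).codRestrict S' hT'
  obtain ⟨τ, hτ⟩ := liftRingHom p g hgsurj hgnil τ'
  have hτ' : ∀ a : k, Ideal.Quotient.mk I (τ a : Λ) = algebraMap k (Λ ⧸ I) a := fun a => by
    have := RingHom.congr_fun hτ a
    exact congrArg Subtype.val this
  have hθmem : ∀ a : k, algebraMap k Λ a - (τ a : Λ) ∈ I := fun a => by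
    rw [← Ideal.Quotient.eq_zero_iff_mem, map_sub, hτ', sub_eq_zero]
    rfl
  have hρτ : ∀ a : k, ρ (τ a : Λ) = algebraMap k K a := fun a => by
    have h1 : ρ (algebraMap k Λ a - (τ a : Λ)) = 0 := (hmem_m _).mp (hIm (hθmem a))
    rw [map_sub, sub_eq_zero, AlgHom.commutes] at h1
    exact h1.symm
  -- `I` is killed by `m`, so multiplication on `I` only depends on residues
  have hmulI : ∀ (s : Λ) (x : Λ), x ∈ I → s * x = σ₀ (ρ s) * x := fun s x hx => by
    have h1 : s - σ₀ (ρ s) ∈ RingHom.ker ρ := by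
      rw [hmem_m, map_sub, hρσ₀, sub_self]
    have := hIm' x hx _ h1
    rw [sub_mul, sub_eq_zero] at this
    exact this
  letI : Module K I := Module.compHom I σ₀
  have hsmul : ∀ (c : K) (x : I), ((c • x : I) : Λ) = σ₀ c * (x : Λ) := fun _ _ => rfl
  let θ : k →+ I :=
    { toFun := fun a => ⟨algebraMap k Λ a - (τ a : Λ), hθmem a⟩
      map_zero' := by
        apply Subtype.ext
        simp
      map_add' := fun a b => by
        apply Subtype.ext
        simp only [map_add, Subring.coe_add, Submodule.coe_add]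
        ring }
  have hθval : ∀ a, ((θ a : I) : Λ) = algebraMap k Λ a - (τ a : Λ) := fun _ => rfl
  have hθ : ∀ a b, θ (a * b) = algebraMap k K a • θ b + algebraMap k K b • θ a := by
    intro a b
    apply Subtype.ext
    rw [Submodule.coe_add, hsmul, hsmul, hθval, hθval, hθval, map_mul, map_mul, Subring.coe_mul]
    have e1 : algebraMap k Λ a * (algebraMap k Λ b - (τ b : Λ)) =
        σ₀ (algebraMap k K a) * (algebraMap k Λ b - (τ b : Λ)) := by
      rw [hmulI _ _ (hθmem b), AlgHom.commutes]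
    have e2 : (τ b : Λ) * (algebraMap k Λ a - (τ a : Λ)) =
        σ₀ (algebraMap k K b) * (algebraMap k Λ a - (τ a : Λ)) := by
      rw [hmulI _ _ (hθmem a), hρτ]
    rw [← e1, ← e2]
    ring
  obtain ⟨D, hD, r, Φ, hΦ⟩ := derAdjust hH θ hθ
  have hD1 : D 1 = 0 := by
    have := hD 1 1
    rw [mul_one, one_smul] at this
    exact left_eq_add.mp this
  have hDI : ∀ x, ((D x : I) : Λ) ∈ I := fun x => (D x).2
  have hρD : ∀ x, ρ ((D x : I) : Λ) = 0 := fun x => (hmem_m _).mp (hIm (hDI x))
  have hDmul : ∀ x y, ((D (x * y) : I) : Λ) = σ₀ x * (D y : Λ) + σ₀ y * (D x : Λ) := fun x y => by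
    rw [hD, Submodule.coe_add, hsmul, hsmul]
  -- the new section
  let σ : K →+* Λ :=
    { toFun := fun x => σ₀ x + (D x : Λ)
      map_one' := by rw [map_one, hD1]; simp
      map_mul' := fun x y => by
        rw [hDmul, map_mul]
        have := hII _ (hDI x) _ (hDI y)
        linear_combination -this
      map_zero' := by rw [map_zero, map_zero]; simp
      map_add' := fun x y => by
        rw [map_add, map_add, Submodule.coe_add]; ring }
  have hσval : ∀ x, σ x = σ₀ x + (D x : Λ) := fun _ => rfl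
  have hρσ : ∀ x, ρ (σ x) = x := fun x => by
    rw [hσval, map_add, hρσ₀, hρD, add_zero]
  -- the ring endomorphism `s ↦ s + D (ρ s)`
  let Ψ : Λ →+* Λ :=
    { toFun := fun s => s + (D (ρ s) : Λ)
      map_one' := by rw [map_one, hD1]; simp
      map_mul' := fun s t => by
        rw [map_mul, hDmul, ← hmulI s _ (hDI _), ← hmulI t _ (hDI _)]
        have := hII _ (hDI (ρ s)) _ (hDI (ρ t))
        linear_combination -this
      map_zero' := by rw [map_zero, map_zero]; simp
      map_add' := fun s t => by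
        rw [map_add, map_add, Submodule.coe_add]; ring }
  have hΨval : ∀ s, Ψ s = s + (D (ρ s) : Λ) := fun _ => rfl
  -- everything is generated by `σ(K)` and `G`
  have htop : Subring.closure (Set.range σ ∪ G) = ⊤ := by
    refine subring_eq_top_of_nilpotent (RingHom.ker ρ) N hN _ G
      (fun g hg => Subring.subset_closure (Or.inr hg)) hG (fun x => ?_)
    refine ⟨σ (ρ x), Subring.subset_closure (Or.inl ⟨_, rfl⟩), ?_⟩
    rw [hmem_m, map_sub, hρσ, sub_self]
  have hΦmem : ∀ j : Fin r, ∃ T : Finset K, ((Φ j : I) : Λ) ∈ genRing k σ G (T : Set K) :=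
    fun j => exists_finset_mem_genRing k σ G _ (by rw [htop]; trivial)
  choose Tj hTj using hΦmem
  refine ⟨σ, hρσ, T' ∪ Finset.univ.biUnion Tj, fun a => ?_⟩
  have hT'sub : (T' : Set K) ⊆ ((T' ∪ Finset.univ.biUnion Tj : Finset K) : Set K) := by
    exact_mod_cast Finset.subset_union_left
  have hTjsub : ∀ j, (Tj j : Set K) ⊆ ((T' ∪ Finset.univ.biUnion Tj : Finset K) : Set K) := by
    intro j
    have : Tj j ⊆ T' ∪ Finset.univ.biUnion Tj :=
      (Finset.subset_biUnion_of_mem Tj (Finset.mem_univ j)).trans Finset.subset_union_right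
    exact_mod_cast this
  -- decomposition
  have hdecomp : algebraMap k Λ a = Ψ (τ a : Λ) +
      (((θ a - D (algebraMap k K a) : I)) : Λ) := by
    rw [hΨval, hρτ, Submodule.coe_sub, hθval]
    ring
  rw [hdecomp]
  refine add_mem ?_ ?_
  · -- first part
    have hle : S₀ ≤ (genRing k σ G (T' : Set K)).comap Ψ := by
      refine Subring.closure_le.mpr ?_
      rintro x (⟨c, hc, rfl⟩ | hx)
      · change Ψ (σ₀ c) ∈ genRing k σ G (T' : Set K)
        rw [hΨval, hρσ₀, ← hσval]
        exact sigma_mem_genRing k σ G _ hc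
      · change Ψ x ∈ genRing k σ G (T' : Set K)
        have hx0 : ρ x = 0 := (hmem_m x).mp (hG ▸ Ideal.subset_span hx)
        rw [hΨval, hx0, map_zero]
        simpa using mem_genRing_of_mem k σ G _ hx
    exact genRing_mono k σ G hT'sub (hle (τ a).2)
  · obtain ⟨c, hc⟩ := hΦ a
    rw [hc, Submodule.coe_sum]
    refine sum_mem fun j _ => ?_
    rw [hsmul]
    have e : σ₀ (algebraMap k K (c j)) * ((Φ j : I) : Λ) =
        σ (algebraMap k K (c j)) * ((Φ j : I) : Λ) := by
      rw [hσval, add_mul, hII _ (hDI _) _ (Φ j).2, add_zero]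
    rw [e]
    exact mul_mem (sigma_mem_genRing k σ G _ (IntermediateField.algebraMap_mem _ _))
      (genRing_mono k σ G (hTjsub j) (hTj j))


/-- The claim (Stacks, proof of Lemma 07EU): there are a section `σ` of `ρ` and a finite set `T ⊆ K`
with `k → Λ` landing in the subring generated by `σ(k(T))` and the generators `G` of `ker ρ`. -/
theorem claim (p : ℕ) [hp : Fact p.Prime] [CharP k p]
    (hH : Module.Finite K (Algebra.H1Cotangent k K)) (n : ℕ) :
    ∀ (Λ : Type u) [CommRing Λ] [Algebra k Λ] (ρ : Λ →ₐ[k] K) (_ : Function.Surjective ρ)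
      (G : Set Λ) (_ : Ideal.span G = RingHom.ker ρ) (_ : (RingHom.ker ρ) ^ n = ⊥),
      ∃ σ : K →+* Λ, (∀ x, ρ (σ x) = x) ∧ ∃ T : Finset K, ∀ a : k,
        algebraMap k Λ a ∈ genRing k σ G (T : Set K) := by
  induction n with
  | zero =>
    intro Λ _ _ ρ hρ G hG hn
    exfalso
    rw [pow_zero, Ideal.one_eq_top] at hn
    have h1 : (1 : Λ) ∈ (⊥ : Ideal Λ) := hn ▸ Submodule.mem_top
    rw [Ideal.mem_bot] at h1
    have := congrArg ρ h1
    simp at this
  | succ n ih =>
    intro Λ _ _ ρ hρ G hG hn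
    rcases Nat.eq_zero_or_pos n with rfl | hnpos
    · rw [zero_add, pow_one] at hn
      have hinj : Function.Injective ρ := (RingHom.injective_iff_ker_eq_bot _).mpr hn
      let e : Λ ≃+* K := RingEquiv.ofBijective (ρ : Λ →+* K) ⟨hinj, hρ⟩
      refine ⟨e.symm.toRingHom, fun x => e.apply_symm_apply x, ∅, fun a => ?_⟩
      have h1 : algebraMap k Λ a = e.symm.toRingHom (algebraMap k K a) := by
        change _ = e.symm _
        rw [RingEquiv.eq_symm_apply]
        exact ρ.commutes a
      rw [h1]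
      exact sigma_mem_genRing k _ G _ (IntermediateField.algebraMap_mem _ a)
    · -- the main step
      have hIm : (RingHom.ker ρ) ^ n ≤ RingHom.ker ρ := Ideal.pow_le_self hnpos.ne'
      have hI : (RingHom.ker ρ) ^ n * RingHom.ker ρ = ⊥ := by rw [← pow_succ]; exact hn
      let I : Ideal Λ := (RingHom.ker ρ) ^ n
      let ρ' : Λ ⧸ I →ₐ[k] K := Ideal.Quotient.liftₐ I ρ (fun a ha => hIm ha)
      have hρ' : Function.Surjective ρ' := fun x => by
        obtain ⟨y, rfl⟩ := hρ x
        exact ⟨Ideal.Quotient.mk I y, rfl⟩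
      have hker : RingHom.ker ρ' = (RingHom.ker ρ).map (Ideal.Quotient.mk I) :=
        Ideal.ker_quotient_lift (ρ : Λ →+* K) (fun a ha => hIm ha)
      have hG' : Ideal.span ((Ideal.Quotient.mk I) '' G) = RingHom.ker ρ' := by
        rw [hker, ← hG, Ideal.map_span]
      have hn' : (RingHom.ker ρ') ^ n = ⊥ := by
        rw [hker, ← Ideal.map_pow]
        exact Ideal.map_quotient_self I
      obtain ⟨σ', hσ', T', hT'⟩ := ih (Λ ⧸ I) ρ' hρ' _ hG' hn'
      exact claim_step p hH Λ ρ hρ G hG (n + 1) hn I hIm hI σ' hσ' T' hT'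

end Groth.Agent.Lib.ArtUnionH5
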