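import Mathlib

/-!
# `F`-forms of a finite-dimensional `K`-algebra

For a `K`-algebra `Λ` with a finite basis `b` whose structure constants lie in a subfield `F`, the
`F`-span of `b` is a subring over which `Λ` is free.
-/

set_option linter.style.haveILetI false
set_option autoImplicit false

universe u

namespace Groth.Agent.Lib.ArtUnionH5

open Module

section Form

variable {k K Λ : Type*} [Field k] [Field K] [Algebra k K] [CommRing Λ] [Algebra K Λ]
  {ι : Type*} [Fintype ι] (b : Basis ι K Λ) (F : IntermediateField k K)

theorem repr_mul_mem (hmul : ∀ i j l, b.repr (b i * b j) l ∈ F) {x y : Λ}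
    (hx : ∀ l, b.repr x l ∈ F) (hy : ∀ l, b.repr y l ∈ F) (l : ι) : b.repr (x * y) l ∈ F := by
  classical
  have hxy : x * y = ∑ i, ∑ j, (b.repr x i * b.repr y j) • (b i * b j) := by
    conv_lhs => rw [← b.sum_repr x, ← b.sum_repr y]
    rw [Finset.sum_mul_sum]
    refine Finset.sum_congr rfl fun i _ => Finset.sum_congr rfl fun j _ => ?_
    rw [smul_mul_smul_comm]
  rw [hxy]
  simp only [map_sum, map_smul, Finsupp.coe_finsetSum, Finset.sum_apply, Finsupp.smul_apply,
    smul_eq_mul]
  exact sum_mem fun i _ => sum_mem fun j _ => mul_mem (mul_mem (hx i) (hy j)) (hmul i j l)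

/-- The `F`-form: elements all of whose coordinates lie in `F`. -/
def formSubring (hmul : ∀ i j l, b.repr (b i * b j) l ∈ F) (hone : ∀ l, b.repr 1 l ∈ F) :
    Subring Λ where
  carrier := {x | ∀ l, b.repr x l ∈ F}
  mul_mem' := fun hx hy l => repr_mul_mem b F hmul hx hy l
  one_mem' := hone
  add_mem' := fun hx hy l => by
    rw [map_add, Finsupp.add_apply]; exact add_mem (hx l) (hy l)
  zero_mem' := fun l => by rw [map_zero, Finsupp.zero_apply]; exact zero_mem _
  neg_mem' := fun hx l => by rw [map_neg, Finsupp.neg_apply]; exact neg_mem (hx l)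

theorem mem_formSubring (hmul : ∀ i j l, b.repr (b i * b j) l ∈ F) (hone : ∀ l, b.repr 1 l ∈ F)
    {x : Λ} : x ∈ formSubring b F hmul hone ↔ ∀ l, b.repr x l ∈ F := Iff.rfl

theorem algebraMap_mem_formSubring (hmul : ∀ i j l, b.repr (b i * b j) l ∈ F)
    (hone : ∀ l, b.repr 1 l ∈ F) {c : K} (hc : c ∈ F) :
    algebraMap K Λ c ∈ formSubring b F hmul hone := fun l => by
  rw [Algebra.algebraMap_eq_smul_one, map_smul, Finsupp.smul_apply, smul_eq_mul]
  exact mul_mem hc (hone l)


/-- `Λ` is free, hence flat, over a subalgebra which is the `F`-form of a `K`-basis. -/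
theorem flat_of_form {k₀ : Type*} [CommRing k₀] [Algebra k₀ Λ] (A : Subalgebra k₀ Λ)
    (hA : ∀ x, x ∈ A ↔ ∀ l, b.repr x l ∈ F) : Module.Flat A Λ := by
  classical
  let c := Basis.ofVectorSpace F K
  let v : Basis.ofVectorSpaceIndex F K → Λ := fun j => algebraMap K Λ (c j)
  have hbi : ∀ i, b i ∈ A := fun i => (hA _).mpr fun l => by
    rw [b.repr_self, Finsupp.single_apply]
    split_ifs
    · exact one_mem _
    · exact zero_mem _
  have hsmulA : ∀ (f : F) (i : ι), (f : K) • b i ∈ A := fun f i => (hA _).mpr fun l => by
    rw [map_smul, Finsupp.smul_apply, smul_eq_mul]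
    exact mul_mem f.2 ((hA _).mp (hbi i) l)
  have hli : LinearIndependent A v := by
    rw [linearIndependent_iff]
    intro l hl
    rw [Finsupp.linearCombination_apply] at hl
    -- coordinates
    have hcoord : ∀ i : ι, ∀ j, b.repr (l j : Λ) i = 0 := by
      intro i
      let g : Basis.ofVectorSpaceIndex F K →₀ F :=
        l.mapRange (fun a : A => (⟨b.repr (a : Λ) i, (hA _).mp a.2 i⟩ : F))
          (by apply Subtype.ext; simp)
      have hg : Finsupp.linearCombination F c g = 0 := by
        rw [Finsupp.linearCombination_apply, Finsupp.sum_mapRange_index (by intro j; simp)]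
        have := congrArg (fun x => b.repr x i) hl
        simp only [Finsupp.sum, map_sum, Finsupp.coe_finsetSum, Finset.sum_apply, map_zero,
          Finsupp.zero_apply] at this
        rw [Finsupp.sum]
        rw [← this]
        refine Finset.sum_congr rfl fun j _ => ?_
        have e : (l j) • v j = (c j) • (l j : Λ) := by
          change (l j : Λ) * algebraMap K Λ (c j) = _
          rw [Algebra.smul_def, mul_comm]
        rw [e, map_smul, Finsupp.smul_apply, smul_eq_mul, mul_comm]
        rfl
      have hg0 := (linearIndependent_iff.mp c.linearIndependent) g hg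
      intro j
      have := DFunLike.congr_fun hg0 j
      rw [Finsupp.mapRange_apply, Finsupp.zero_apply] at this
      exact congrArg Subtype.val this
    ext j
    rw [Finsupp.zero_apply, ZeroMemClass.coe_zero]
    apply b.repr.injective
    ext i
    rw [hcoord i j, map_zero, Finsupp.zero_apply]
  have hsp : ⊤ ≤ Submodule.span A (Set.range v) := by
    intro x _
    rw [← b.sum_repr x]
    refine Submodule.sum_mem _ fun i _ => ?_
    -- κ • b i ∈ span
    set κ := b.repr x i with hκ
    have hκsum : κ = ∑ j ∈ (c.repr κ).support, ((c.repr κ j : F) : K) * c j := by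
      conv_lhs => rw [← c.linearCombination_repr κ, Finsupp.linearCombination_apply, Finsupp.sum]
      rfl
    rw [hκsum, Finset.sum_smul]
    refine Submodule.sum_mem _ fun j _ => ?_
    have e : (((c.repr κ j : F) : K) * c j) • b i =
        (⟨((c.repr κ j : F) : K) • b i, hsmulA _ i⟩ : A) • v j := by
      change _ = (((c.repr κ j : F) : K) • b i) * algebraMap K Λ (c j)
      rw [mul_smul, Algebra.smul_def (c j), mul_comm (algebraMap K Λ (c j)), smul_mul_assoc]
    rw [e]
    exact Submodule.smul_mem _ _ (Submodule.subset_span ⟨j, rfl⟩)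
  haveI : Module.Free A Λ := Module.Free.of_basis (Basis.mk hli hsp)
  infer_instance

end Form

end Groth.Agent.Lib.ArtUnionH5
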