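import Mathlib
import Groth.Agent.Lib.ArtUnion3_helper5
import Groth.Agent.Lib.ArtUnion4_helper5

/-!
# Artinian local algebras in characteristic `p` as unions of flat essentially finite type subalgebras
-/

set_option linter.style.haveILetI false
set_option autoImplicit false
set_option maxSynthPendingDepth 3

universe u

namespace Groth.Agent.Lib.ArtUnionH5

open Module IsLocalRing

/-- A local algebra over a field with nilpotent finitely generated maximal ideal whose residue field
is generated, as a field, by finitely many residues is essentially of finite type. -/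
theorem essFiniteType_of_nilpotent {k A K : Type*} [Field k] [CommRing A] [Algebra k A]
    [IsLocalRing A] [Field K] [Algebra k K]
    (n : ℕ) (hn : (maximalIdeal A) ^ n = ⊥) (hfg : (maximalIdeal A).FG)
    (ρ : A →ₐ[k] K) (hρ : ∀ a, ρ a = 0 ↔ a ∈ maximalIdeal A)
    (T : Finset K) (lift : K → A) (hlift : ∀ c ∈ T, ρ (lift c) = c)
    (hF : ∀ a, ρ a ∈ IntermediateField.adjoin k (T : Set K)) : Algebra.EssFiniteType k A := by
  classical
  obtain ⟨Gm, hGm⟩ := hfg
  rw [Algebra.essFiniteType_iff]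
  refine ⟨T.image lift ∪ Gm, ?_⟩
  set B := Algebra.adjoin k ((T.image lift ∪ Gm : Finset A) : Set A) with hB
  let D : Subring A :=
    { carrier := {s | ∃ t ∈ B, IsUnit t ∧ s * t ∈ B}
      zero_mem' := ⟨1, one_mem _, isUnit_one, by rw [zero_mul]; exact zero_mem _⟩
      one_mem' := ⟨1, one_mem _, isUnit_one, by rw [one_mul]; exact one_mem _⟩
      add_mem' := by
        rintro s₁ s₂ ⟨t₁, ht₁, hu₁, h₁⟩ ⟨t₂, ht₂, hu₂, h₂⟩
        refine ⟨t₁ * t₂, mul_mem ht₁ ht₂, hu₁.mul hu₂, ?_⟩
        have : (s₁ + s₂) * (t₁ * t₂) = (s₁ * t₁) * t₂ + (s₂ * t₂) * t₁ := by ring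
        rw [this]
        exact add_mem (mul_mem h₁ ht₂) (mul_mem h₂ ht₁)
      mul_mem' := by
        rintro s₁ s₂ ⟨t₁, ht₁, hu₁, h₁⟩ ⟨t₂, ht₂, hu₂, h₂⟩
        refine ⟨t₁ * t₂, mul_mem ht₁ ht₂, hu₁.mul hu₂, ?_⟩
        have : (s₁ * s₂) * (t₁ * t₂) = (s₁ * t₁) * (s₂ * t₂) := by ring
        rw [this]
        exact mul_mem h₁ h₂
      neg_mem' := by
        rintro s ⟨t, ht, hu, h⟩
        refine ⟨t, ht, hu, ?_⟩
        rw [neg_mul]
        exact neg_mem h }
  have hBD : ∀ x ∈ B, x ∈ D := fun x hx =>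
    ⟨1, one_mem _, isUnit_one, by rw [mul_one]; exact hx⟩
  have hD : D = ⊤ := by
    refine subring_eq_top_of_nilpotent (maximalIdeal A) n hn D (Gm : Set A)
      (fun g hg => hBD g (Algebra.subset_adjoin (by simp [hg]))) hGm (fun x => ?_)
    obtain ⟨r, s, hrs⟩ := (IntermediateField.mem_adjoin_iff k (ρ x)).mp (hF x)
    let v : ((T : Set K) : Type _) → A := fun c => lift c.1
    have hvB : ∀ q : MvPolynomial ((T : Set K) : Type _) k, MvPolynomial.aeval v q ∈ B := by
      intro q
      have h1 : MvPolynomial.aeval v q ∈ (MvPolynomial.aeval v : _ →ₐ[k] A).range := ⟨q, rfl⟩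
      rw [← Algebra.adjoin_range_eq_range_aeval] at h1
      refine Algebra.adjoin_mono ?_ h1
      rintro _ ⟨c, rfl⟩
      simp only [Finset.coe_union, Finset.coe_image, Set.mem_union, Set.mem_image]
      exact Or.inl ⟨c.1, c.2, rfl⟩
    have hρv : ∀ q : MvPolynomial ((T : Set K) : Type _) k,
        ρ (MvPolynomial.aeval v q) = MvPolynomial.aeval Subtype.val q := by
      intro q
      rw [MvPolynomial.comp_aeval_apply]
      have : (fun i => ρ (v i)) = (Subtype.val : ((T : Set K) : Type _) → K) :=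
        funext fun c => hlift c.1 c.2
      rw [this]
    by_cases hs0 : MvPolynomial.aeval (Subtype.val : ((T : Set K) : Type _) → K) s = 0
    · refine ⟨0, zero_mem _, ?_⟩
      rw [sub_zero, ← hρ, hrs, hs0, div_zero]
    · have hQ : IsUnit (MvPolynomial.aeval v s) := by
        by_contra h
        apply hs0
        rw [← hρv, hρ]
        exact h
      refine ⟨MvPolynomial.aeval v r * ↑(hQ.unit⁻¹),
        ⟨MvPolynomial.aeval v s, hvB s, hQ, ?_⟩, ?_⟩
      · rw [mul_assoc, IsUnit.val_inv_mul, mul_one]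
        exact hvB r
      · have hinv : ρ ↑(hQ.unit⁻¹) =
            (MvPolynomial.aeval (Subtype.val : ((T : Set K) : Type _) → K) s)⁻¹ := by
          rw [← hρv]
          apply eq_inv_of_mul_eq_one_left
          rw [← map_mul, IsUnit.val_inv_mul, map_one]
        rw [← hρ, map_sub, map_mul, hρv, hinv, hrs, div_eq_mul_inv, sub_self]
  intro s
  have hs : s ∈ D := by rw [hD]; trivial
  exact hs

theorem main6854 {k Λ : Type u} [Field k] (p : ℕ) [Fact p.Prime]
    [CharP k p] [CommRing Λ] [Algebra k Λ] [IsArtinianRing Λ] [IsLocalRing Λ]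
    (hH : Module.Finite (IsLocalRing.ResidueField Λ)
      (Algebra.H1Cotangent k (IsLocalRing.ResidueField Λ)))
    (E : Finset Λ) :
    ∃ (A : Subalgebra k Λ) (_ : IsLocalRing A), (↑E : Set Λ) ⊆ A ∧ IsArtinianRing A ∧
      Module.Flat A Λ ∧ Algebra.EssFiniteType k A ∧
      (IsLocalRing.maximalIdeal A).map (algebraMap A Λ) = IsLocalRing.maximalIdeal Λ := by
  classical
  let ρ : Λ →ₐ[k] ResidueField Λ := IsScalarTower.toAlgHom k Λ (ResidueField Λ)
  have hρ_apply : ∀ x, ρ x = residue Λ x := fun _ => rfl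
  have hρsurj : Function.Surjective ρ := residue_surjective
  have hker : RingHom.ker ρ = maximalIdeal Λ := by
    ext x
    rw [RingHom.mem_ker, hρ_apply, residue_eq_zero_iff]
  -- nilpotency and finite generation of the maximal ideal
  obtain ⟨n, hn⟩ : ∃ n : ℕ, (maximalIdeal Λ) ^ n = ⊥ := by
    have := IsArtinianRing.isNilpotent_jacobson_bot (R := Λ)
    rw [IsLocalRing.jacobson_eq_maximalIdeal _ bot_ne_top] at this
    exact this
  obtain ⟨G, hG⟩ : (maximalIdeal Λ).FG := IsNoetherian.noetherian _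
  obtain ⟨σ, hσ, T₀, hT₀⟩ := claim p hH n Λ ρ hρsurj (G : Set Λ) (by rw [hG, hker])
    (by rw [hker, hn])
  have hGm : ∀ g ∈ G, g ∈ maximalIdeal Λ := fun g hg => hG ▸ Ideal.subset_span hg
  -- `Λ` as a `K`-algebra through `σ`
  letI : Algebra (ResidueField Λ) Λ := σ.toAlgebra
  have halg : ∀ c : ResidueField Λ, algebraMap (ResidueField Λ) Λ c = σ c := fun _ => rfl
  have hadj : Algebra.adjoin (ResidueField Λ) (G : Set Λ) = ⊤ := by
    have h := subring_eq_top_of_nilpotent (maximalIdeal Λ) n hn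
      (Algebra.adjoin (ResidueField Λ) (G : Set Λ)).toSubring (G : Set Λ)
      (fun g hg => Algebra.subset_adjoin hg) hG (fun x => ?_)
    · rw [eq_top_iff]
      intro x _
      have : x ∈ (Algebra.adjoin (ResidueField Λ) (G : Set Λ)).toSubring := by rw [h]; trivial
      exact this
    · refine ⟨σ (ρ x), Subalgebra.algebraMap_mem _ (ρ x), ?_⟩
      rw [← hker, RingHom.mem_ker, map_sub, hσ, sub_self]
  haveI : Algebra.FiniteType (ResidueField Λ) Λ := ⟨⟨G, hadj⟩⟩
  haveI : Module.Finite (ResidueField Λ) Λ := Module.finite_of_isArtinianRing (ResidueField Λ) Λ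
  let b := Module.finBasis (ResidueField Λ) Λ
  -- the finite set of coefficients
  let T : Finset (ResidueField Λ) :=
    T₀ ∪ (Finset.univ.image fun t : _ × _ × _ => b.repr (b t.1 * b t.2.1) t.2.2) ∪
      (Finset.univ.image fun l => b.repr 1 l) ∪
      ((G ×ˢ Finset.univ).image fun t => b.repr t.1 t.2) ∪
      ((E ×ˢ Finset.univ).image fun t => b.repr t.1 t.2) ∪
      (Finset.univ.image fun i => ρ (b i))
  let F : IntermediateField k (ResidueField Λ) := IntermediateField.adjoin k (T : Set _)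
  have hTF : ∀ c ∈ T, c ∈ F := fun c hc => IntermediateField.subset_adjoin k _ hc
  have hT₀F : IntermediateField.adjoin k (T₀ : Set (ResidueField Λ)) ≤ F := by
    apply IntermediateField.adjoin.mono
    intro c hc
    simp only [T, Finset.coe_union, Set.mem_union]
    exact Or.inl (Or.inl (Or.inl (Or.inl (Or.inl hc))))
  have hmul : ∀ i j l, b.repr (b i * b j) l ∈ F := fun i j l => hTF _ (by
    simp only [T, Finset.mem_union, Finset.mem_image, Finset.mem_univ, true_and]
    exact Or.inl (Or.inl (Or.inl (Or.inl (Or.inr ⟨(i, j, l), rfl⟩)))))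
  have hone : ∀ l, b.repr 1 l ∈ F := fun l => hTF _ (by
    simp only [T, Finset.mem_union, Finset.mem_image, Finset.mem_univ, true_and]
    exact Or.inl (Or.inl (Or.inl (Or.inr ⟨l, rfl⟩))))
  have hGF : ∀ g ∈ G, ∀ l, b.repr g l ∈ F := fun g hg l => hTF _ (by
    simp only [T, Finset.mem_union, Finset.mem_image, Finset.mem_product, Finset.mem_univ,
      and_true, true_and]
    exact Or.inl (Or.inl (Or.inr ⟨(g, l), hg, rfl⟩)))
  have hEF : ∀ e ∈ E, ∀ l, b.repr e l ∈ F := fun e he l => hTF _ (by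
    simp only [T, Finset.mem_union, Finset.mem_image, Finset.mem_product, Finset.mem_univ,
      and_true, true_and]
    exact Or.inl (Or.inr ⟨(e, l), he, rfl⟩))
  have hρb : ∀ i, ρ (b i) ∈ F := fun i => hTF _ (by
    simp only [T, Finset.mem_union, Finset.mem_image, Finset.mem_univ, true_and]
    exact Or.inr ⟨i, rfl⟩)
  -- the subring and the subalgebra
  let A₀ : Subring Λ := formSubring b F hmul hone
  have hσA₀ : ∀ c ∈ F, σ c ∈ A₀ := fun c hc => algebraMap_mem_formSubring b F hmul hone hc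
  have hGA₀ : ∀ g ∈ G, g ∈ A₀ := fun g hg => hGF g hg
  have hkA₀ : ∀ a : k, algebraMap k Λ a ∈ A₀ := by
    intro a
    have hle : genRing k σ (G : Set Λ) (T₀ : Set (ResidueField Λ)) ≤ A₀ := by
      refine Subring.closure_le.mpr ?_
      rintro x (⟨c, hc, rfl⟩ | hx)
      · exact hσA₀ c (hT₀F hc)
      · exact hGA₀ x hx
    exact hle (hT₀ a)
  let A : Subalgebra k Λ :=
    { A₀.toSubsemiring with algebraMap_mem' := hkA₀ }
  have hA : ∀ x, x ∈ A ↔ ∀ l, b.repr x l ∈ F := fun _ => Iff.rfl
  have hσA : ∀ c ∈ F, σ c ∈ A := hσA₀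
  have hGA : ∀ g ∈ G, g ∈ A := hGA₀
  -- residues of elements of `A` lie in `F`
  have hρA : ∀ x ∈ A, ρ x ∈ F := by
    intro x hx
    rw [← b.sum_repr x, map_sum]
    refine sum_mem fun l _ => ?_
    rw [Algebra.smul_def, halg, map_mul, hσ]
    exact mul_mem ((hA x).mp hx l) (hρb l)
  -- nilpotent elements
  have hnilA : ∀ ν : A, (ν : Λ) ∈ maximalIdeal Λ → IsNilpotent ν := by
    intro ν hν
    refine ⟨n, Subtype.ext ?_⟩
    have : (ν : Λ) ^ n ∈ (maximalIdeal Λ) ^ n := Ideal.pow_mem_pow hν n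
    rw [hn, Ideal.mem_bot] at this
    simpa using this
  -- the inclusion is a local homomorphism
  haveI hloc : IsLocalHom (algebraMap A Λ) := by
    constructor
    intro a ha
    have ha' : IsUnit (a : Λ) := ha
    have hf0 : ρ (a : Λ) ≠ 0 := by
      rw [hρ_apply]; exact (residue_ne_zero_iff_isUnit _).mpr ha'
    have hfF : ρ (a : Λ) ∈ F := hρA _ a.2
    let u : A := ⟨σ (ρ (a : Λ))⁻¹, hσA _ (inv_mem hfF)⟩
    have hν : ((1 - a * u : A) : Λ) ∈ maximalIdeal Λ := by
      rw [← hker, RingHom.mem_ker]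
      change ρ (1 - (a : Λ) * σ (ρ (a : Λ))⁻¹) = 0
      rw [map_sub, map_one, map_mul, hσ, mul_inv_cancel₀ hf0, sub_self]
    have h1 : IsUnit (1 - (1 - a * u)) := (hnilA _ hν).isUnit_one_sub
    rw [sub_sub_cancel] at h1
    exact isUnit_of_mul_isUnit_left h1
  haveI hlocal : IsLocalRing A := (algebraMap A Λ).domain_isLocalRing
  have hmaxA : ∀ a : A, a ∈ maximalIdeal A ↔ (a : Λ) ∈ maximalIdeal Λ := by
    intro a
    rw [mem_maximalIdeal, mem_maximalIdeal, mem_nonunits_iff, mem_nonunits_iff]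
    exact not_congr ⟨fun h => h.map (algebraMap A Λ), fun h => hloc.map_nonunit a h⟩
  have hmaple : (maximalIdeal A).map (algebraMap A Λ) ≤ maximalIdeal Λ := by
    rw [Ideal.map_le_iff_le_comap]
    intro a ha
    exact (hmaxA a).mp ha
  haveI hflat : Module.Flat A Λ := flat_of_form b F A hA
  haveI hff : Module.FaithfullyFlat A Λ := Module.FaithfullyFlat.of_flat_of_isLocalHom
  haveI hart : IsArtinianRing A := by
    have hmono : Monotone (Ideal.map (algebraMap A Λ)) := fun _ _ h => Ideal.map_mono h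
    have hsm : StrictMono (Ideal.map (algebraMap A Λ)) :=
      hmono.strictMono_of_injective Ideal.map_injective_of_faithfullyFlat
    exact hsm.wellFoundedLT
  have hnA : (maximalIdeal A) ^ n = ⊥ := by
    rw [eq_bot_iff]
    intro x hx
    have h1 : algebraMap A Λ x ∈ ((maximalIdeal A) ^ n).map (algebraMap A Λ) :=
      Ideal.mem_map_of_mem _ hx
    rw [Ideal.map_pow] at h1
    have h2 := Ideal.pow_right_mono hmaple n h1
    rw [hn, Ideal.mem_bot] at h2
    rw [Ideal.mem_bot]
    exact Subtype.ext h2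
  refine ⟨A, hlocal, ?_, hart, hflat, ?_, ?_⟩
  · intro e he
    exact (hA e).mpr (hEF e he)
  · -- essentially of finite type
    let ρA : A →ₐ[k] ResidueField Λ := ρ.comp A.val
    have hρA0 : ∀ a : A, ρA a = 0 ↔ a ∈ maximalIdeal A := fun a => by
      rw [hmaxA, ← hker, RingHom.mem_ker]
      rfl
    let lift : ResidueField Λ → A := fun c => if h : c ∈ F then ⟨σ c, hσA c h⟩ else 0
    have hlift : ∀ c ∈ T, ρA (lift c) = c := fun c hc => by
      simp only [lift, dif_pos (hTF c hc)]
      exact hσ c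
    exact essFiniteType_of_nilpotent n hnA (IsNoetherian.noetherian _) ρA hρA0 T lift hlift
      (fun a => hρA _ a.2)
  · apply le_antisymm hmaple
    rw [← hG, Ideal.span_le]
    intro g hg
    exact Ideal.mem_map_of_mem (algebraMap A Λ)
      (show (⟨g, hGA g hg⟩ : A) ∈ maximalIdeal A from (hmaxA _).mpr (hGm g hg))

end Groth.Agent.Lib.ArtUnionH5
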