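import Mathlib
import Groth.Agent.Lib.ArtUnion1_helper5
import Groth.Agent.Lib.ArtUnion2_helper5
import Groth.Agent.Lib.ArtUnion3_helper5
import Groth.Agent.Lib.ArtUnion4_helper5
import Groth.Agent.Lib.ArtUnion5_helper5

/-!
# Variant of the Artinian-union lemma (S6854) with the hypothesis on `H_1(L_{K/k})` replaced by
finite generation of `ker (K ⊗ Ω_k → Ω_K)` (helper5).  Copies of `derAdjust`, `claim_step`, `claim`,
`main6854` with the weaker hypothesis.  APPEND-ONLY once landed.
-/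

set_option linter.style.haveILetI false
set_option autoImplicit false
set_option maxSynthPendingDepth 3

universe u v

open TensorProduct IsLocalRing Module

namespace Groth.Agent.Lib.ArtUnionFGH5

open Groth.Agent.Lib.ArtUnionH5

section DerAdjust

variable {k K : Type u} [Field k] [Field K] [Algebra k K]

theorem derAdjustFG
    (hfg0 : (LinearMap.ker (KaehlerDifferential.mapBaseChange ℤ k K)).FG)
    {N : Type v} [AddCommGroup N] [Module K N] (θ : k →+ N)
    (hθ : ∀ a b, θ (a * b) = algebraMap k K a • θ b + algebraMap k K b • θ a) :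
    ∃ D : K →+ N, (∀ x y, D (x * y) = x • D y + y • D x) ∧ ∃ (r : ℕ) (Φ : Fin r → N), ∀ a : k,
      ∃ c : Fin r → k, θ a - D (algebraMap k K a) = ∑ j, algebraMap k K (c j) • Φ j := by
  classical
  letI : Module k N := Module.compHom N (algebraMap k K)
  haveI : IsScalarTower k K N := ⟨fun a c x => by
    change (a • c) • x = algebraMap k K a • (c • x)
    rw [Algebra.smul_def, mul_smul]⟩
  have smul_def' : ∀ (a : k) (x : N), a • x = algebraMap k K a • x := fun _ _ => rfl
  -- θ as a derivation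
  let θD : Derivation ℤ k N := Derivation.mk' θ.toIntLinearMap (fun a b => by
    change θ (a * b) = a • θ b + b • θ a
    rw [hθ, smul_def', smul_def'])
  let θt : Ω[k⁄ℤ] →ₗ[k] N := θD.liftKaehlerDifferential
  have hθt : ∀ a, θt (KaehlerDifferential.D ℤ k a) = θ a := fun a =>
    θD.liftKaehlerDifferential_comp_D a
  let α : K ⊗[k] Ω[k⁄ℤ] →ₗ[K] Ω[K⁄ℤ] := KaehlerDifferential.mapBaseChange ℤ k K
  have hfg : (LinearMap.ker α).FG := hfg0
  obtain ⟨s, hs⟩ := hfg
  obtain ⟨W₀, hW₀fin, hsW₀⟩ :=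
    TensorProduct.exists_finite_submodule_right_of_setFinite (s : Set (K ⊗[k] Ω[k⁄ℤ]))
      s.finite_toSet
  obtain ⟨q, hq⟩ := Submodule.exists_isCompl W₀
  let π₀ : Ω[k⁄ℤ] →ₗ[k] Ω[k⁄ℤ] := W₀.subtype ∘ₗ Submodule.projectionOnto W₀ q hq
  let π₁ : Ω[k⁄ℤ] →ₗ[k] Ω[k⁄ℤ] := LinearMap.id - π₀
  have hπ₁ : ∀ w : W₀, π₁ (w : Ω[k⁄ℤ]) = 0 := fun w => by
    change (w : Ω[k⁄ℤ]) - ((Submodule.projectionOnto W₀ q hq (w : Ω[k⁄ℤ]) : W₀) : Ω[k⁄ℤ]) = 0
    rw [Submodule.projectionOnto_apply_left, sub_self]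
  let θ₁ : Ω[k⁄ℤ] →ₗ[k] N := θt ∘ₗ π₁
  let φ : K ⊗[k] Ω[k⁄ℤ] →ₗ[K] N := θ₁.liftBaseChange K
  have key : ∀ t' : K ⊗[k] W₀, φ (W₀.subtype.lTensor K t') = 0 := by
    intro t'
    induction t' using TensorProduct.induction_on with
    | zero => simp
    | tmul c w =>
      simp only [LinearMap.lTensor_tmul, Submodule.subtype_apply, φ,
        LinearMap.liftBaseChange_tmul, θ₁, LinearMap.comp_apply, hπ₁, map_zero, smul_zero]
    | add x y hx hy => rw [map_add, map_add, hx, hy, add_zero]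
  have hφ : LinearMap.ker α ≤ LinearMap.ker φ := by
    rw [← hs, Submodule.span_le]
    intro t ht
    obtain ⟨t', rfl⟩ := hsW₀ ht
    exact key t'
  obtain ⟨ψ, hψ⟩ := exists_comp_eq_of_ker_le α φ hφ
  let DD : Derivation ℤ K N := ψ.compDer (KaehlerDifferential.D ℤ K)
  have hDD : ∀ a : k, DD (algebraMap k K a) =
      θ a - θt ((Submodule.projectionOnto W₀ q hq (KaehlerDifferential.D ℤ k a) : W₀) :
        Ω[k⁄ℤ]) := by
    intro a
    have h1 : α ((1 : K) ⊗ₜ[k] KaehlerDifferential.D ℤ k a) =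
        KaehlerDifferential.D ℤ K (algebraMap k K a) := by
      change KaehlerDifferential.mapBaseChange ℤ k K _ = _
      rw [KaehlerDifferential.mapBaseChange_tmul, one_smul, KaehlerDifferential.map_D]
    change ψ (KaehlerDifferential.D ℤ K (algebraMap k K a)) = _
    rw [← h1, ← LinearMap.comp_apply, hψ]
    change θ₁.liftBaseChange K _ = _
    rw [LinearMap.liftBaseChange_tmul, one_smul]
    change θt (KaehlerDifferential.D ℤ k a - π₀ (KaehlerDifferential.D ℤ k a)) = _
    rw [map_sub, hθt]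
    rfl
  obtain ⟨r, S, hS⟩ := Module.Finite.exists_fin (R := k) (M := W₀)
  refine ⟨(DD : K →ₗ[ℤ] N).toAddMonoidHom, fun x y => DD.leibniz x y, r,
    fun j => θt (S j : Ω[k⁄ℤ]), fun a => ?_⟩
  have hw : (Submodule.projectionOnto W₀ q hq (KaehlerDifferential.D ℤ k a) : W₀) ∈
      Submodule.span k (Set.range S) := by rw [hS]; trivial
  obtain ⟨c, hc⟩ := (Submodule.mem_span_range_iff_exists_fun k).mp hw
  refine ⟨c, ?_⟩
  change θ a - DD (algebraMap k K a) = _
  rw [hDD, sub_sub_cancel, ← hc]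
  simp only [Submodule.coe_sum, Submodule.coe_smul, map_sum, map_smul, smul_def']

end DerAdjust

section Claim

variable {k K : Type u} [Field k] [Field K] [Algebra k K]

/-- The inductive step: from `Λ/I` to `Λ` for an ideal `I ≤ m` with `I * m = 0`. -/
theorem claim_stepFG (p : ℕ) [hp : Fact p.Prime] [CharP k p]
    (hH : (LinearMap.ker (KaehlerDifferential.mapBaseChange ℤ k K)).FG)
    (Λ : Type u) [CommRing Λ] [Algebra k Λ] (ρ : Λ →ₐ[k] K) (hρ : Function.Surjective ρ)
    (G : Set Λ) (hG : Ideal.span G = RingHom.ker ρ) (N : ℕ) (hN : (RingHom.ker ρ) ^ N = ⊥)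
    (I : Ideal Λ) (hIm : I ≤ RingHom.ker ρ) (hI : I * RingHom.ker ρ = ⊥)
    (σ' : K →+* Λ ⧸ I)
    (hσ' : ∀ x, Ideal.Quotient.lift I (ρ : Λ →+* K) (fun a ha => hIm ha) (σ' x) = x)
    (T' : Finset K)
    (hT' : ∀ a : k, algebraMap k (Λ ⧸ I) a ∈
      genRing k σ' ((Ideal.Quotient.mk I) '' G) (T' : Set K)) :
    ∃ σ : K →+* Λ, (∀ x, ρ (σ x) = x) ∧ ∃ T : Finset K, ∀ a : k,
      algebraMap k Λ a ∈ genRing k σ G (T : Set K) := by
  classical
  have hmem_m : ∀ x, x ∈ RingHom.ker ρ ↔ ρ x = 0 := fun x => RingHom.mem_ker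
  have hI2 : I * I = ⊥ := le_bot_iff.mp (hI ▸ Ideal.mul_mono_right hIm)
  have hII : ∀ x ∈ I, ∀ y ∈ I, x * y = 0 := fun x hx y hy => by
    have := Ideal.mul_mem_mul hx hy
    rwa [hI2, Ideal.mem_bot] at this
  have hIm' : ∀ x ∈ I, ∀ y ∈ RingHom.ker ρ, y * x = 0 := fun x hx y hy => by
    have := Ideal.mul_mem_mul hx hy
    rw [hI, Ideal.mem_bot] at this
    rw [mul_comm]; exact this
  haveI : Nontrivial Λ := by
    refine ⟨⟨0, 1, fun h => ?_⟩⟩
    have := congrArg ρ h
    simp at this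
  haveI : CharP Λ p := charP_of_injective_algebraMap (algebraMap k Λ).injective p
  haveI : CharP K p := charP_of_injective_algebraMap (algebraMap k K).injective p
  -- lift σ'
  have hnilI : IsNilpotent (RingHom.ker (Ideal.Quotient.mk I)) := by
    refine ⟨2, ?_⟩
    rw [Ideal.mk_ker, pow_two, hI2]; rfl
  obtain ⟨σ₀, hσ₀⟩ := liftRingHom p (Ideal.Quotient.mk I) Ideal.Quotient.mk_surjective hnilI σ'
  have hσ₀' : ∀ x, Ideal.Quotient.mk I (σ₀ x) = σ' x := fun x => RingHom.congr_fun hσ₀ x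
  have hρσ₀ : ∀ x, ρ (σ₀ x) = x := fun x => by
    have := hσ' x
    rw [← hσ₀', Ideal.Quotient.lift_mk] at this
    exact this
  -- the subrings
  let S₀ : Subring Λ := genRing k σ₀ G (T' : Set K)
  let S' : Subring (Λ ⧸ I) := genRing k σ' ((Ideal.Quotient.mk I) '' G) (T' : Set K)
  have hmap : S₀.map (Ideal.Quotient.mk I) = S' := by
    change (Subring.closure _).map _ = Subring.closure _
    rw [RingHom.map_closure, Set.image_union, Set.image_image]
    congr 2
    ext y
    simp only [Set.mem_image, hσ₀']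
  let g : S₀ →+* S' := ((Ideal.Quotient.mk I).comp S₀.subtype).codRestrict S' (fun x => by
    rw [← hmap]; exact ⟨x, x.2, rfl⟩)
  have hg_apply : ∀ x : S₀, ((g x : S') : Λ ⧸ I) = Ideal.Quotient.mk I (x : Λ) := fun _ => rfl
  have hgsurj : Function.Surjective g := by
    rintro ⟨y, hy⟩
    rw [← hmap] at hy
    obtain ⟨x, hx, rfl⟩ := hy
    exact ⟨⟨x, hx⟩, rfl⟩
  have hgker : ∀ x : S₀, x ∈ RingHom.ker g → (x : Λ) ∈ I := by
    intro x hx
    rw [RingHom.mem_ker] at hx
    have := congrArg (Subtype.val) hx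
    rw [hg_apply] at this
    exact Ideal.Quotient.eq_zero_iff_mem.mp this
  have hgnil : IsNilpotent (RingHom.ker g) := by
    refine ⟨2, ?_⟩
    rw [pow_two, Ideal.zero_eq_bot, eq_bot_iff, Ideal.mul_le]
    intro x hx y hy
    rw [Ideal.mem_bot]
    exact Subtype.ext (hII _ (hgker x hx) _ (hgker y hy))
  haveI : CharP S₀ p := RingHom.charP S₀.subtype Subtype.val_injective p
  let τ' : k →+* S' := (algebraMap k (Λ ⧸ I)).codRestrict S' hT'
  obtain ⟨τ, hτ⟩ := liftRingHom p g hgsurj hgnil τ'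
  have hτ' : ∀ a : k, Ideal.Quotient.mk I (τ a : Λ) = algebraMap k (Λ ⧸ I) a := fun a => by
    have := RingHom.congr_fun hτ a
    exact congrArg Subtype.val this
  have hθmem : ∀ a : k, algebraMap k Λ a - (τ a : Λ) ∈ I := fun a => by
    rw [← Ideal.Quotient.eq_zero_iff_mem, map_sub, hτ', sub_eq_zero]
    rfl
  have hρτ : ∀ a : k, ρ (τ a : Λ) = algebraMap k K a := fun a => by
    have h1 : ρ (algebraMap k Λ a - (τ a : Λ)) = 0 := (hmem_m _).mp (hIm (hθmem a))
    rw [map_sub, sub_eq_zero, AlgHom.commutes] at h1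
    exact h1.symm
  -- `I` is killed by `m`, so multiplication on `I` only depends on residues
  have hmulI : ∀ (s : Λ) (x : Λ), x ∈ I → s * x = σ₀ (ρ s) * x := fun s x hx => by
    have h1 : s - σ₀ (ρ s) ∈ RingHom.ker ρ := by
      rw [hmem_m, map_sub, hρσ₀, sub_self]
    have := hIm' x hx _ h1
    rw [sub_mul, sub_eq_zero] at this
    exact this
  letI : Module K I := Module.compHom I σ₀
  have hsmul : ∀ (c : K) (x : I), ((c • x : I) : Λ) = σ₀ c * (x : Λ) := fun _ _ => rfl
  let θ : k →+ I :=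
    { toFun := fun a => ⟨algebraMap k Λ a - (τ a : Λ), hθmem a⟩
      map_zero' := by
        apply Subtype.ext
        simp
      map_add' := fun a b => by
        apply Subtype.ext
        simp only [map_add, Subring.coe_add, Submodule.coe_add]
        ring }
  have hθval : ∀ a, ((θ a : I) : Λ) = algebraMap k Λ a - (τ a : Λ) := fun _ => rfl
  have hθ : ∀ a b, θ (a * b) = algebraMap k K a • θ b + algebraMap k K b • θ a := by
    intro a b
    apply Subtype.ext
    rw [Submodule.coe_add, hsmul, hsmul, hθval, hθval, hθval, map_mul, map_mul, Subring.coe_mul]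
    have e1 : algebraMap k Λ a * (algebraMap k Λ b - (τ b : Λ)) =
        σ₀ (algebraMap k K a) * (algebraMap k Λ b - (τ b : Λ)) := by
      rw [hmulI _ _ (hθmem b), AlgHom.commutes]
    have e2 : (τ b : Λ) * (algebraMap k Λ a - (τ a : Λ)) =
        σ₀ (algebraMap k K b) * (algebraMap k Λ a - (τ a : Λ)) := by
      rw [hmulI _ _ (hθmem a), hρτ]
    rw [← e1, ← e2]
    ring
  obtain ⟨D, hD, r, Φ, hΦ⟩ := derAdjustFG hH θ hθ
  have hD1 : D 1 = 0 := by
    have := hD 1 1
    rw [mul_one, one_smul] at this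
    exact left_eq_add.mp this
  have hDI : ∀ x, ((D x : I) : Λ) ∈ I := fun x => (D x).2
  have hρD : ∀ x, ρ ((D x : I) : Λ) = 0 := fun x => (hmem_m _).mp (hIm (hDI x))
  have hDmul : ∀ x y, ((D (x * y) : I) : Λ) = σ₀ x * (D y : Λ) + σ₀ y * (D x : Λ) := fun x y => by
    rw [hD, Submodule.coe_add, hsmul, hsmul]
  -- the new section
  let σ : K →+* Λ :=
    { toFun := fun x => σ₀ x + (D x : Λ)
      map_one' := by rw [map_one, hD1]; simp
      map_mul' := fun x y => by
        rw [hDmul, map_mul]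
        have := hII _ (hDI x) _ (hDI y)
        linear_combination -this
      map_zero' := by rw [map_zero, map_zero]; simp
      map_add' := fun x y => by
        rw [map_add, map_add, Submodule.coe_add]; ring }
  have hσval : ∀ x, σ x = σ₀ x + (D x : Λ) := fun _ => rfl
  have hρσ : ∀ x, ρ (σ x) = x := fun x => by
    rw [hσval, map_add, hρσ₀, hρD, add_zero]
  -- the ring endomorphism `s ↦ s + D (ρ s)`
  let Ψ : Λ →+* Λ :=
    { toFun := fun s => s + (D (ρ s) : Λ)
      map_one' := by rw [map_one, hD1]; simp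
      map_mul' := fun s t => by
        rw [map_mul, hDmul, ← hmulI s _ (hDI _), ← hmulI t _ (hDI _)]
        have := hII _ (hDI (ρ s)) _ (hDI (ρ t))
        linear_combination -this
      map_zero' := by rw [map_zero, map_zero]; simp
      map_add' := fun s t => by
        rw [map_add, map_add, Submodule.coe_add]; ring }
  have hΨval : ∀ s, Ψ s = s + (D (ρ s) : Λ) := fun _ => rfl
  -- everything is generated by `σ(K)` and `G`
  have htop : Subring.closure (Set.range σ ∪ G) = ⊤ := by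
    refine subring_eq_top_of_nilpotent (RingHom.ker ρ) N hN _ G
      (fun g hg => Subring.subset_closure (Or.inr hg)) hG (fun x => ?_)
    refine ⟨σ (ρ x), Subring.subset_closure (Or.inl ⟨_, rfl⟩), ?_⟩
    rw [hmem_m, map_sub, hρσ, sub_self]
  have hΦmem : ∀ j : Fin r, ∃ T : Finset K, ((Φ j : I) : Λ) ∈ genRing k σ G (T : Set K) :=
    fun j => exists_finset_mem_genRing k σ G _ (by rw [htop]; trivial)
  choose Tj hTj using hΦmem
  refine ⟨σ, hρσ, T' ∪ Finset.univ.biUnion Tj, fun a => ?_⟩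
  have hT'sub : (T' : Set K) ⊆ ((T' ∪ Finset.univ.biUnion Tj : Finset K) : Set K) := by
    exact_mod_cast Finset.subset_union_left
  have hTjsub : ∀ j, (Tj j : Set K) ⊆ ((T' ∪ Finset.univ.biUnion Tj : Finset K) : Set K) := by
    intro j
    have : Tj j ⊆ T' ∪ Finset.univ.biUnion Tj :=
      (Finset.subset_biUnion_of_mem Tj (Finset.mem_univ j)).trans Finset.subset_union_right
    exact_mod_cast this
  -- decomposition
  have hdecomp : algebraMap k Λ a = Ψ (τ a : Λ) +
      (((θ a - D (algebraMap k K a) : I)) : Λ) := by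
    rw [hΨval, hρτ, Submodule.coe_sub, hθval]
    ring
  rw [hdecomp]
  refine add_mem ?_ ?_
  · -- first part
    have hle : S₀ ≤ (genRing k σ G (T' : Set K)).comap Ψ := by
      refine Subring.closure_le.mpr ?_
      rintro x (⟨c, hc, rfl⟩ | hx)
      · change Ψ (σ₀ c) ∈ genRing k σ G (T' : Set K)
        rw [hΨval, hρσ₀, ← hσval]
        exact sigma_mem_genRing k σ G _ hc
      · change Ψ x ∈ genRing k σ G (T' : Set K)
        have hx0 : ρ x = 0 := (hmem_m x).mp (hG ▸ Ideal.subset_span hx)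
        rw [hΨval, hx0, map_zero]
        simpa using mem_genRing_of_mem k σ G _ hx
    exact genRing_mono k σ G hT'sub (hle (τ a).2)
  · obtain ⟨c, hc⟩ := hΦ a
    rw [hc, Submodule.coe_sum]
    refine sum_mem fun j _ => ?_
    rw [hsmul]
    have e : σ₀ (algebraMap k K (c j)) * ((Φ j : I) : Λ) =
        σ (algebraMap k K (c j)) * ((Φ j : I) : Λ) := by
      rw [hσval, add_mul, hII _ (hDI _) _ (Φ j).2, add_zero]
    rw [e]
    exact mul_mem (sigma_mem_genRing k σ G _ (IntermediateField.algebraMap_mem _ _))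
      (genRing_mono k σ G (hTjsub j) (hTj j))


/-- The claim (Stacks, proof of Lemma 07EU): there are a section `σ` of `ρ` and a finite set `T ⊆ K`
with `k → Λ` landing in the subring generated by `σ(k(T))` and the generators `G` of `ker ρ`. -/
theorem claimFG (p : ℕ) [hp : Fact p.Prime] [CharP k p]
    (hH : (LinearMap.ker (KaehlerDifferential.mapBaseChange ℤ k K)).FG) (n : ℕ) :
    ∀ (Λ : Type u) [CommRing Λ] [Algebra k Λ] (ρ : Λ →ₐ[k] K) (_ : Function.Surjective ρ)
      (G : Set Λ) (_ : Ideal.span G = RingHom.ker ρ) (_ : (RingHom.ker ρ) ^ n = ⊥),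
      ∃ σ : K →+* Λ, (∀ x, ρ (σ x) = x) ∧ ∃ T : Finset K, ∀ a : k,
        algebraMap k Λ a ∈ genRing k σ G (T : Set K) := by
  induction n with
  | zero =>
    intro Λ _ _ ρ hρ G hG hn
    exfalso
    rw [pow_zero, Ideal.one_eq_top] at hn
    have h1 : (1 : Λ) ∈ (⊥ : Ideal Λ) := hn ▸ Submodule.mem_top
    rw [Ideal.mem_bot] at h1
    have := congrArg ρ h1
    simp at this
  | succ n ih =>
    intro Λ _ _ ρ hρ G hG hn
    rcases Nat.eq_zero_or_pos n with rfl | hnpos
    · rw [zero_add, pow_one] at hn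
      have hinj : Function.Injective ρ := (RingHom.injective_iff_ker_eq_bot _).mpr hn
      let e : Λ ≃+* K := RingEquiv.ofBijective (ρ : Λ →+* K) ⟨hinj, hρ⟩
      refine ⟨e.symm.toRingHom, fun x => e.apply_symm_apply x, ∅, fun a => ?_⟩
      have h1 : algebraMap k Λ a = e.symm.toRingHom (algebraMap k K a) := by
        change _ = e.symm _
        rw [RingEquiv.eq_symm_apply]
        exact ρ.commutes a
      rw [h1]
      exact sigma_mem_genRing k _ G _ (IntermediateField.algebraMap_mem _ a)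
    · -- the main step
      have hIm : (RingHom.ker ρ) ^ n ≤ RingHom.ker ρ := Ideal.pow_le_self hnpos.ne'
      have hI : (RingHom.ker ρ) ^ n * RingHom.ker ρ = ⊥ := by rw [← pow_succ]; exact hn
      let I : Ideal Λ := (RingHom.ker ρ) ^ n
      let ρ' : Λ ⧸ I →ₐ[k] K := Ideal.Quotient.liftₐ I ρ (fun a ha => hIm ha)
      have hρ' : Function.Surjective ρ' := fun x => by
        obtain ⟨y, rfl⟩ := hρ x
        exact ⟨Ideal.Quotient.mk I y, rfl⟩
      have hker : RingHom.ker ρ' = (RingHom.ker ρ).map (Ideal.Quotient.mk I) :=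
        Ideal.ker_quotient_lift (ρ : Λ →+* K) (fun a ha => hIm ha)
      have hG' : Ideal.span ((Ideal.Quotient.mk I) '' G) = RingHom.ker ρ' := by
        rw [hker, ← hG, Ideal.map_span]
      have hn' : (RingHom.ker ρ') ^ n = ⊥ := by
        rw [hker, ← Ideal.map_pow]
        exact Ideal.map_quotient_self I
      obtain ⟨σ', hσ', T', hT'⟩ := ih (Λ ⧸ I) ρ' hρ' _ hG' hn'
      exact claim_stepFG p hH Λ ρ hρ G hG (n + 1) hn I hIm hI σ' hσ' T' hT'

end Claim

section Main

theorem main6854FG {k Λ : Type u} [Field k] (p : ℕ) [Fact p.Prime]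
    [CharP k p] [CommRing Λ] [Algebra k Λ] [IsArtinianRing Λ] [IsLocalRing Λ]
    (hH : (LinearMap.ker
      (KaehlerDifferential.mapBaseChange ℤ k (IsLocalRing.ResidueField Λ))).FG)
    (E : Finset Λ) :
    ∃ (A : Subalgebra k Λ) (_ : IsLocalRing A), (↑E : Set Λ) ⊆ A ∧ IsArtinianRing A ∧
      Module.Flat A Λ ∧ Algebra.EssFiniteType k A ∧
      (IsLocalRing.maximalIdeal A).map (algebraMap A Λ) = IsLocalRing.maximalIdeal Λ := by
  classical
  let ρ : Λ →ₐ[k] ResidueField Λ := IsScalarTower.toAlgHom k Λ (ResidueField Λ)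
  have hρ_apply : ∀ x, ρ x = residue Λ x := fun _ => rfl
  have hρsurj : Function.Surjective ρ := residue_surjective
  have hker : RingHom.ker ρ = maximalIdeal Λ := by
    ext x
    rw [RingHom.mem_ker, hρ_apply, residue_eq_zero_iff]
  -- nilpotency and finite generation of the maximal ideal
  obtain ⟨n, hn⟩ : ∃ n : ℕ, (maximalIdeal Λ) ^ n = ⊥ := by
    have := IsArtinianRing.isNilpotent_jacobson_bot (R := Λ)
    rw [IsLocalRing.jacobson_eq_maximalIdeal _ bot_ne_top] at this
    exact this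
  obtain ⟨G, hG⟩ : (maximalIdeal Λ).FG := IsNoetherian.noetherian _
  obtain ⟨σ, hσ, T₀, hT₀⟩ := claimFG p hH n Λ ρ hρsurj (G : Set Λ) (by rw [hG, hker])
    (by rw [hker, hn])
  have hGm : ∀ g ∈ G, g ∈ maximalIdeal Λ := fun g hg => hG ▸ Ideal.subset_span hg
  -- `Λ` as a `K`-algebra through `σ`
  letI : Algebra (ResidueField Λ) Λ := σ.toAlgebra
  have halg : ∀ c : ResidueField Λ, algebraMap (ResidueField Λ) Λ c = σ c := fun _ => rfl
  have hadj : Algebra.adjoin (ResidueField Λ) (G : Set Λ) = ⊤ := by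
    have h := subring_eq_top_of_nilpotent (maximalIdeal Λ) n hn
      (Algebra.adjoin (ResidueField Λ) (G : Set Λ)).toSubring (G : Set Λ)
      (fun g hg => Algebra.subset_adjoin hg) hG (fun x => ?_)
    · rw [eq_top_iff]
      intro x _
      have : x ∈ (Algebra.adjoin (ResidueField Λ) (G : Set Λ)).toSubring := by rw [h]; trivial
      exact this
    · refine ⟨σ (ρ x), Subalgebra.algebraMap_mem _ (ρ x), ?_⟩
      rw [← hker, RingHom.mem_ker, map_sub, hσ, sub_self]
  haveI : Algebra.FiniteType (ResidueField Λ) Λ := ⟨⟨G, hadj⟩⟩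
  haveI : Module.Finite (ResidueField Λ) Λ := Module.finite_of_isArtinianRing (ResidueField Λ) Λ
  let b := Module.finBasis (ResidueField Λ) Λ
  -- the finite set of coefficients
  let T : Finset (ResidueField Λ) :=
    T₀ ∪ (Finset.univ.image fun t : _ × _ × _ => b.repr (b t.1 * b t.2.1) t.2.2) ∪
      (Finset.univ.image fun l => b.repr 1 l) ∪
      ((G ×ˢ Finset.univ).image fun t => b.repr t.1 t.2) ∪
      ((E ×ˢ Finset.univ).image fun t => b.repr t.1 t.2) ∪
      (Finset.univ.image fun i => ρ (b i))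
  let F : IntermediateField k (ResidueField Λ) := IntermediateField.adjoin k (T : Set _)
  have hTF : ∀ c ∈ T, c ∈ F := fun c hc => IntermediateField.subset_adjoin k _ hc
  have hT₀F : IntermediateField.adjoin k (T₀ : Set (ResidueField Λ)) ≤ F := by
    apply IntermediateField.adjoin.mono
    intro c hc
    simp only [T, Finset.coe_union, Set.mem_union]
    exact Or.inl (Or.inl (Or.inl (Or.inl (Or.inl hc))))
  have hmul : ∀ i j l, b.repr (b i * b j) l ∈ F := fun i j l => hTF _ (by
    simp only [T, Finset.mem_union, Finset.mem_image, Finset.mem_univ, true_and]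
    exact Or.inl (Or.inl (Or.inl (Or.inl (Or.inr ⟨(i, j, l), rfl⟩)))))
  have hone : ∀ l, b.repr 1 l ∈ F := fun l => hTF _ (by
    simp only [T, Finset.mem_union, Finset.mem_image, Finset.mem_univ, true_and]
    exact Or.inl (Or.inl (Or.inl (Or.inr ⟨l, rfl⟩))))
  have hGF : ∀ g ∈ G, ∀ l, b.repr g l ∈ F := fun g hg l => hTF _ (by
    simp only [T, Finset.mem_union, Finset.mem_image, Finset.mem_product, Finset.mem_univ,
      and_true, true_and]
    exact Or.inl (Or.inl (Or.inr ⟨(g, l), hg, rfl⟩)))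
  have hEF : ∀ e ∈ E, ∀ l, b.repr e l ∈ F := fun e he l => hTF _ (by
    simp only [T, Finset.mem_union, Finset.mem_image, Finset.mem_product, Finset.mem_univ,
      and_true, true_and]
    exact Or.inl (Or.inr ⟨(e, l), he, rfl⟩))
  have hρb : ∀ i, ρ (b i) ∈ F := fun i => hTF _ (by
    simp only [T, Finset.mem_union, Finset.mem_image, Finset.mem_univ, true_and]
    exact Or.inr ⟨i, rfl⟩)
  -- the subring and the subalgebra
  let A₀ : Subring Λ := formSubring b F hmul hone
  have hσA₀ : ∀ c ∈ F, σ c ∈ A₀ := fun c hc => algebraMap_mem_formSubring b F hmul hone hc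
  have hGA₀ : ∀ g ∈ G, g ∈ A₀ := fun g hg => hGF g hg
  have hkA₀ : ∀ a : k, algebraMap k Λ a ∈ A₀ := by
    intro a
    have hle : genRing k σ (G : Set Λ) (T₀ : Set (ResidueField Λ)) ≤ A₀ := by
      refine Subring.closure_le.mpr ?_
      rintro x (⟨c, hc, rfl⟩ | hx)
      · exact hσA₀ c (hT₀F hc)
      · exact hGA₀ x hx
    exact hle (hT₀ a)
  let A : Subalgebra k Λ :=
    { A₀.toSubsemiring with algebraMap_mem' := hkA₀ }
  have hA : ∀ x, x ∈ A ↔ ∀ l, b.repr x l ∈ F := fun _ => Iff.rfl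
  have hσA : ∀ c ∈ F, σ c ∈ A := hσA₀
  have hGA : ∀ g ∈ G, g ∈ A := hGA₀
  -- residues of elements of `A` lie in `F`
  have hρA : ∀ x ∈ A, ρ x ∈ F := by
    intro x hx
    rw [← b.sum_repr x, map_sum]
    refine sum_mem fun l _ => ?_
    rw [Algebra.smul_def, halg, map_mul, hσ]
    exact mul_mem ((hA x).mp hx l) (hρb l)
  -- nilpotent elements
  have hnilA : ∀ ν : A, (ν : Λ) ∈ maximalIdeal Λ → IsNilpotent ν := by
    intro ν hν
    refine ⟨n, Subtype.ext ?_⟩
    have : (ν : Λ) ^ n ∈ (maximalIdeal Λ) ^ n := Ideal.pow_mem_pow hν n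
    rw [hn, Ideal.mem_bot] at this
    simpa using this
  -- the inclusion is a local homomorphism
  haveI hloc : IsLocalHom (algebraMap A Λ) := by
    constructor
    intro a ha
    have ha' : IsUnit (a : Λ) := ha
    have hf0 : ρ (a : Λ) ≠ 0 := by
      rw [hρ_apply]; exact (residue_ne_zero_iff_isUnit _).mpr ha'
    have hfF : ρ (a : Λ) ∈ F := hρA _ a.2
    let u : A := ⟨σ (ρ (a : Λ))⁻¹, hσA _ (inv_mem hfF)⟩
    have hν : ((1 - a * u : A) : Λ) ∈ maximalIdeal Λ := by
      rw [← hker, RingHom.mem_ker]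
      change ρ (1 - (a : Λ) * σ (ρ (a : Λ))⁻¹) = 0
      rw [map_sub, map_one, map_mul, hσ, mul_inv_cancel₀ hf0, sub_self]
    have h1 : IsUnit (1 - (1 - a * u)) := (hnilA _ hν).isUnit_one_sub
    rw [sub_sub_cancel] at h1
    exact isUnit_of_mul_isUnit_left h1
  haveI hlocal : IsLocalRing A := (algebraMap A Λ).domain_isLocalRing
  have hmaxA : ∀ a : A, a ∈ maximalIdeal A ↔ (a : Λ) ∈ maximalIdeal Λ := by
    intro a
    rw [mem_maximalIdeal, mem_maximalIdeal, mem_nonunits_iff, mem_nonunits_iff]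
    exact not_congr ⟨fun h => h.map (algebraMap A Λ), fun h => hloc.map_nonunit a h⟩
  have hmaple : (maximalIdeal A).map (algebraMap A Λ) ≤ maximalIdeal Λ := by
    rw [Ideal.map_le_iff_le_comap]
    intro a ha
    exact (hmaxA a).mp ha
  haveI hflat : Module.Flat A Λ := flat_of_form b F A hA
  haveI hff : Module.FaithfullyFlat A Λ := Module.FaithfullyFlat.of_flat_of_isLocalHom
  haveI hart : IsArtinianRing A := by
    have hmono : Monotone (Ideal.map (algebraMap A Λ)) := fun _ _ h => Ideal.map_mono h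
    have hsm : StrictMono (Ideal.map (algebraMap A Λ)) :=
      hmono.strictMono_of_injective Ideal.map_injective_of_faithfullyFlat
    exact hsm.wellFoundedLT
  have hnA : (maximalIdeal A) ^ n = ⊥ := by
    rw [eq_bot_iff]
    intro x hx
    have h1 : algebraMap A Λ x ∈ ((maximalIdeal A) ^ n).map (algebraMap A Λ) :=
      Ideal.mem_map_of_mem _ hx
    rw [Ideal.map_pow] at h1
    have h2 := Ideal.pow_right_mono hmaple n h1
    rw [hn, Ideal.mem_bot] at h2
    rw [Ideal.mem_bot]
    exact Subtype.ext h2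
  refine ⟨A, hlocal, ?_, hart, hflat, ?_, ?_⟩
  · intro e he
    exact (hA e).mpr (hEF e he)
  · -- essentially of finite type
    let ρA : A →ₐ[k] ResidueField Λ := ρ.comp A.val
    have hρA0 : ∀ a : A, ρA a = 0 ↔ a ∈ maximalIdeal A := fun a => by
      rw [hmaxA, ← hker, RingHom.mem_ker]
      rfl
    let lift : ResidueField Λ → A := fun c => if h : c ∈ F then ⟨σ c, hσA c h⟩ else 0
    have hlift : ∀ c ∈ T, ρA (lift c) = c := fun c hc => by
      simp only [lift, dif_pos (hTF c hc)]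
      exact hσ c
    exact essFiniteType_of_nilpotent n hnA (IsNoetherian.noetherian _) ρA hρA0 T lift hlift
      (fun a => hρA _ a.2)
  · apply le_antisymm hmaple
    rw [← hG, Ideal.span_le]
    intro g hg
    exact Ideal.mem_map_of_mem (algebraMap A Λ)
      (show (⟨g, hGA g hg⟩ : A) ∈ maximalIdeal A from (hmaxA _).mpr (hGm g hg))

end Main

end Groth.Agent.Lib.ArtUnionFGH5
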