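import Mathlib
import Groth.Agent.Lib.AdicFSField_helper3

/-!
# Finite generation of `ker (K ⊗_k Ω_k → Ω_K)` for the residue field of an adically formally smooth
Noetherian local algebra (helper5).  APPEND-ONLY once landed.
-/

set_option linter.style.haveILetI false
set_option autoImplicit false
set_option maxSynthPendingDepth 3

universe u

open TensorProduct IsLocalRing

namespace Groth.Agent.Lib.InsepKerH5

theorem fg_ker {k T K : Type u} [Field k] [CommRing T] [IsLocalRing T] [IsNoetherianRing T]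
    [Algebra k T] (hT : CAlgX.IsAdicFormallySmooth k T (maximalIdeal T)) [Field K] [Algebra k K]
    (ρ : T →ₐ[k] K) (hρ : Function.Surjective ρ) (hker : RingHom.ker ρ = maximalIdeal T) :
    (LinearMap.ker (KaehlerDifferential.mapBaseChange ℤ k K)).FG := by
  classical
  letI algTK : Algebra T K := ρ.toRingHom.toAlgebra
  haveI tw : IsScalarTower k T K := IsScalarTower.of_algebraMap_eq (fun c => (ρ.commutes c).symm)
  have halg : ∀ t, algebraMap T K t = ρ t := fun _ => rfl
  have hsurj : Function.Surjective (algebraMap T K) := hρ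
  let α : K ⊗[k] Ω[k⁄ℤ] →ₗ[K] Ω[K⁄ℤ] := KaehlerDifferential.mapBaseChange ℤ k K
  let β : K ⊗[T] Ω[T⁄ℤ] →ₗ[K] Ω[K⁄ℤ] := KaehlerDifferential.mapBaseChange ℤ T K
  -- the comparison map
  let ι₀ : Ω[k⁄ℤ] →ₗ[k] K ⊗[T] Ω[T⁄ℤ] :=
    { toFun := fun ω => (1 : K) ⊗ₜ[T] (KaehlerDifferential.map ℤ ℤ k T ω)
      map_add' := fun x y => by rw [map_add, tmul_add]
      map_smul' := fun c x => by
        rw [map_smul, RingHom.id_apply, ← algebraMap_smul T c (KaehlerDifferential.map ℤ ℤ k T x),
          tmul_smul, algebraMap_smul] }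
  let ι' : K ⊗[k] Ω[k⁄ℤ] →ₗ[K] K ⊗[T] Ω[T⁄ℤ] := ι₀.liftBaseChange K
  have hι'D : ∀ (c : K) (a : k), ι' (c ⊗ₜ[k] KaehlerDifferential.D ℤ k a) =
      c ⊗ₜ[T] KaehlerDifferential.D ℤ T (algebraMap k T a) := by
    intro c a
    show ι₀.liftBaseChange K (c ⊗ₜ[k] KaehlerDifferential.D ℤ k a) = _
    rw [LinearMap.liftBaseChange_tmul]
    show c • ((1 : K) ⊗ₜ[T] (KaehlerDifferential.map ℤ ℤ k T (KaehlerDifferential.D ℤ k a))) = _
    rw [KaehlerDifferential.map_D, smul_tmul', smul_eq_mul, mul_one]
  -- maps out of `K ⊗ Ω_k` agree if they agree on `1 ⊗ da`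
  have hext : ∀ {N : Type u} [AddCommGroup N] [Module K N] (f g : K ⊗[k] Ω[k⁄ℤ] →ₗ[K] N),
      (∀ a : k, f ((1 : K) ⊗ₜ[k] KaehlerDifferential.D ℤ k a) =
        g ((1 : K) ⊗ₜ[k] KaehlerDifferential.D ℤ k a)) → f = g := by
    intro N _ _ f g hfg
    letI : Module k N := Module.compHom N (algebraMap k K)
    haveI : IsScalarTower k K N := ⟨fun a c x => by
      change (a • c) • x = algebraMap k K a • (c • x)
      rw [Algebra.smul_def, mul_smul]⟩
    apply (LinearMap.liftBaseChangeEquiv (R := k) (M := Ω[k⁄ℤ]) (N := N) K).symm.injective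
    apply Derivation.liftKaehlerDifferential_unique (R := ℤ)
    ext a
    exact hfg a
  -- `β ∘ ι' = α`
  have hcomp : β ∘ₗ ι' = α := by
    apply hext
    intro a
    rw [LinearMap.comp_apply, hι'D]
    show KaehlerDifferential.mapBaseChange ℤ T K _ = KaehlerDifferential.mapBaseChange ℤ k K _
    rw [KaehlerDifferential.mapBaseChange_tmul, KaehlerDifferential.mapBaseChange_tmul,
      KaehlerDifferential.map_D, KaehlerDifferential.map_D,
      ← IsScalarTower.algebraMap_apply k T K]
  -- injectivity of `ι'`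
  have hinj : Function.Injective ι' := by
    rw [injective_iff_map_eq_zero]
    intro v hv
    rw [← Module.forall_dual_apply_eq_zero_iff K]
    intro φ
    let f₀ : Ω[k⁄ℤ] →ₗ[k] K := (φ.restrictScalars k) ∘ₗ (TensorProduct.mk k K Ω[k⁄ℤ] 1)
    let Dk : Derivation ℤ k K := f₀.compDer (KaehlerDifferential.D ℤ k)
    have hDk : ∀ a, Dk a = φ ((1 : K) ⊗ₜ[k] KaehlerDifferential.D ℤ k a) := fun a => rfl
    obtain ⟨δ, hδ⟩ := Groth.Agent.Lib.AdicFSFieldH3.exists_derivation_extension K
      (maximalIdeal T) hT ⟨1, fun x hx => by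
        rw [pow_one, ← hker] at hx
        exact hx⟩ Dk
    let φ' : K ⊗[T] Ω[T⁄ℤ] →ₗ[K] K := (δ.liftKaehlerDifferential).liftBaseChange K
    have h1 : φ' ∘ₗ ι' = φ := by
      apply hext
      intro a
      rw [LinearMap.comp_apply, hι'D]
      show (δ.liftKaehlerDifferential).liftBaseChange K _ = _
      rw [LinearMap.liftBaseChange_tmul, Derivation.liftKaehlerDifferential_comp_D, hδ, hDk,
        one_smul]
    rw [← h1, LinearMap.comp_apply, hv, map_zero]
  -- the kernel of `β` is finitely generated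
  haveI : IsNoetherian T (RingHom.ker (algebraMap T K)) := isNoetherian_of_isNoetherianRing_of_finite _ _
  obtain ⟨s, hs⟩ : (⊤ : Submodule T (RingHom.ker (algebraMap T K)).Cotangent).FG := by
    have h1 : (⊤ : Submodule T (RingHom.ker (algebraMap T K))).FG := Module.Finite.fg_top
    have h2 := Submodule.FG.map (RingHom.ker (algebraMap T K)).toCotangent h1
    rwa [Submodule.map_top, LinearMap.range_eq_top.mpr (Ideal.toCotangent_surjective _)] at h2
  let X : Set (K ⊗[T] Ω[T⁄ℤ]) := (KaehlerDifferential.kerCotangentToTensor ℤ T K) '' (s : Set _)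
  have hXfin : X.Finite := s.finite_toSet.image _
  have hkerβ : LinearMap.ker β ≤ Submodule.span K X := by
    intro x hx
    have hx' : β x = 0 := hx
    obtain ⟨y, rfl⟩ :=
      (KaehlerDifferential.exact_kerCotangentToTensor_mapBaseChange ℤ T K hsurj x).mp hx'
    have hy : y ∈ Submodule.span T (s : Set _) := by rw [hs]; trivial
    have h1 : KaehlerDifferential.kerCotangentToTensor ℤ T K y ∈
        Submodule.span T X := by
      have := Submodule.mem_map_of_mem (f := KaehlerDifferential.kerCotangentToTensor ℤ T K) hy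
      rwa [Submodule.map_span] at this
    exact Submodule.span_le_restrictScalars T K X h1
  have hN : IsNoetherian K (Submodule.span K X) :=
    isNoetherian_of_fg_of_noetherian _ (Submodule.fg_span hXfin)
  have hle : (LinearMap.ker α).map ι' ≤ Submodule.span K X := by
    rintro _ ⟨v, hv, rfl⟩
    apply hkerβ
    show β (ι' v) = 0
    rw [← LinearMap.comp_apply, hcomp]
    exact hv
  have hfgmap : ((LinearMap.ker α).map ι').FG := isNoetherian_submodule.mp hN _ hle
  exact Submodule.fg_of_fg_map_injective ι' hinj hfgmap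

end Groth.Agent.Lib.InsepKerH5
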