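import Mathlib
import Groth.Prelude.Def_Found
import Groth.Agent.Lib.GeomRegFlat3_helper5
import Groth.Agent.Lib.RegPow2_helper8
import Groth.Agent.S4573

/-!
# Geometric regularity and flatness over polynomial subrings, part 4 (helper5)

`main9288`: Stacks-type lemma (More on Algebra, "geometrically regular ⇒ flat over `k[y]`").
-/

set_option autoImplicit false
set_option linter.style.haveILetI false
set_option maxHeartbeats 800000
set_option maxSynthPendingDepth 3

namespace Groth.Agent.Lib.GeomRegFlatH5

open IsLocalRing MvPolynomial KaehlerDifferential Module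
open Groth.Agent.Lib.CotFlatH3

universe u

section PD

theorem pderiv_mem_of_basis {k : Type u} [Field k] {A : Type u} [CommRing A] [IsLocalRing A]
    [Algebra k A] (F : IntermediateField k (ResidueField A)) {m : ℕ}
    (φ : MvPolynomial (Fin m) k →ₐ[k] A) (hφ : ∀ i, residue A (φ (X i)) ∈ F)
    (hli : LinearIndependent F (fun i : Fin m => D k F ⟨residue A (φ (X i)), hφ i⟩))
    (f : MvPolynomial (Fin m) k) (hf : φ f ∈ maximalIdeal A) (j : Fin m) :
    φ (pderiv j f) ∈ maximalIdeal A := by
  classical
  let ev : MvPolynomial (Fin m) k →ₐ[k] F :=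
    aeval (fun i => (⟨residue A (φ (X i)), hφ i⟩ : F))
  have hev : ∀ f, ((ev f : F) : ResidueField A) = residue A (φ f) := by
    intro f
    have : (F.val.comp ev) = (IsScalarTower.toAlgHom k A (ResidueField A)).comp φ := by
      apply MvPolynomial.algHom_ext
      intro i
      simp [ev]
    exact AlgHom.congr_fun this f
  have hev0 : ∀ f, φ f ∈ maximalIdeal A ↔ ev f = 0 := by
    intro f
    rw [← residue_eq_zero_iff, ← hev f]
    exact ⟨fun h => Subtype.ext h, fun h => by rw [h]; rfl⟩
  letI algPF : Algebra (MvPolynomial (Fin m) k) F := ev.toRingHom.toAlgebra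
  haveI : IsScalarTower k (MvPolynomial (Fin m) k) F :=
    IsScalarTower.of_algebraMap_eq (fun c => (ev.commutes c).symm)
  have h1 := (mvPolynomialBasis k (Fin m)).sum_repr (D k (MvPolynomial (Fin m) k) f)
  have h2 := congrArg (KaehlerDifferential.map k k (MvPolynomial (Fin m) k) F) h1
  rw [map_sum, KaehlerDifferential.map_D] at h2
  have h3 : algebraMap (MvPolynomial (Fin m) k) F f = 0 := (hev0 f).mp hf
  rw [h3, map_zero] at h2
  have h4 : ∀ j, KaehlerDifferential.map k k (MvPolynomial (Fin m) k) F
      ((mvPolynomialBasis k (Fin m)).repr (D k _ f) j • (mvPolynomialBasis k (Fin m)) j) =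
      (ev (pderiv j f)) • D k F ⟨residue A (φ (X j)), hφ j⟩ := by
    intro j
    rw [map_smul, mvPolynomialBasis_repr_apply, mvPolynomialBasis_apply,
      KaehlerDifferential.map_D, ← algebraMap_smul F (pderiv j f)]
    have e1 : algebraMap (MvPolynomial (Fin m) k) F (X j) = ⟨residue A (φ (X j)), hφ j⟩ := by
      show ev (X j) = _
      simp [ev]
    rw [e1]
    rfl
  simp_rw [h4] at h2
  have h5 := Fintype.linearIndependent_iff.mp hli (fun j => ev (pderiv j f)) h2 j
  exact (hev0 _).mpr h5

end PD

section Main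

theorem main9288 (p : ℕ) [Fact p.Prime] (k : Type u) [Field k] [CharP k p] (A : Type u)
    [CommRing A] [IsLocalRing A] [IsNoetherianRing A] [Algebra k A]
    (hA : CAlg.IsGeometricallyRegular k A)
    (F : IntermediateField k (IsLocalRing.ResidueField A)) (m : ℕ)
    (φ : MvPolynomial (Fin m) k →ₐ[k] A)
    (hφ : ∀ i : Fin m, IsLocalRing.residue A (φ (MvPolynomial.X i)) ∈ F)
    (hli : LinearIndependent F
        (fun i : Fin m => KaehlerDifferential.D k F ⟨IsLocalRing.residue A (φ (MvPolynomial.X i)), hφ i⟩)) :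
    letI := φ.toRingHom.toAlgebra
    Module.Flat (MvPolynomial (Fin m) k) A ∧
      IsRegularLocalRing (A ⧸ Ideal.map φ.toRingHom
        (Ideal.comap φ.toRingHom (IsLocalRing.maximalIdeal A))) := by
  classical
  letI algPA : Algebra (MvPolynomial (Fin m) k) A := φ.toRingHom.toAlgebra
  haveI twkPA : IsScalarTower k (MvPolynomial (Fin m) k) A :=
    IsScalarTower.of_algebraMap_eq (fun c => (φ.commutes c).symm)
  have halgPA : ∀ f, algebraMap (MvPolynomial (Fin m) k) A f = φ f := fun f => rfl
  set 𝔭 : Ideal (MvPolynomial (Fin m) k) := Ideal.comap φ.toRingHom (maximalIdeal A) with h𝔭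
  haveI h𝔭prime : 𝔭.IsPrime := Ideal.comap_isPrime _ _
  have hmem𝔭 : ∀ f, f ∈ 𝔭 ↔ φ f ∈ maximalIdeal A := fun f => Iff.rfl
  have hunits : ∀ y : 𝔭.primeCompl, IsUnit (φ.toRingHom y) := fun y => by
    have h1 : φ (y : MvPolynomial (Fin m) k) ∉ maximalIdeal A := y.2
    rw [mem_maximalIdeal, mem_nonunits_iff, not_not] at h1
    exact h1
  let φ₀ : Localization.AtPrime 𝔭 →+* A := IsLocalization.lift hunits
  letI algA₀A : Algebra (Localization.AtPrime 𝔭) A := φ₀.toAlgebra
  haveI tw1 : IsScalarTower (MvPolynomial (Fin m) k) (Localization.AtPrime 𝔭) A :=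
    IsScalarTower.of_algebraMap_eq (fun x => (IsLocalization.lift_eq hunits x).symm)
  haveI tw2 : IsScalarTower k (Localization.AtPrime 𝔭) A :=
    IsScalarTower.of_algebraMap_eq (fun c => by
      rw [IsScalarTower.algebraMap_apply k (MvPolynomial (Fin m) k) (Localization.AtPrime 𝔭),
        ← IsScalarTower.algebraMap_apply (MvPolynomial (Fin m) k) (Localization.AtPrime 𝔭) A,
        ← IsScalarTower.algebraMap_apply k (MvPolynomial (Fin m) k) A])
  haveI hloc : IsLocalHom (algebraMap (Localization.AtPrime 𝔭) A) := by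
    constructor
    intro x hx
    obtain ⟨⟨g, s⟩, hgs⟩ := IsLocalization.surj 𝔭.primeCompl x
    have h1 : algebraMap (Localization.AtPrime 𝔭) A x * φ (s : MvPolynomial (Fin m) k) = φ g := by
      have := congrArg (algebraMap (Localization.AtPrime 𝔭) A) hgs
      rw [map_mul, ← IsScalarTower.algebraMap_apply, ← IsScalarTower.algebraMap_apply] at this
      exact this
    have h2 : IsUnit (φ g) := by
      rw [← h1]
      exact hx.mul (hunits s)
    have h3 : g ∉ 𝔭 := by
      intro hg
      exact ((hmem𝔭 g).mp hg) h2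
    have h4 : IsUnit (algebraMap (MvPolynomial (Fin m) k) (Localization.AtPrime 𝔭) g) :=
      IsLocalization.map_units (Localization.AtPrime 𝔭) (⟨g, h3⟩ : 𝔭.primeCompl)
    simp only at hgs
    rw [← hgs] at h4
    exact isUnit_of_mul_isUnit_left h4
  haveI : Algebra.FormallySmooth (MvPolynomial (Fin m) k) (Localization.AtPrime 𝔭) :=
    Algebra.FormallySmooth.of_isLocalization 𝔭.primeCompl
  haveI hregA₀ : IsRegularLocalRing (Localization.AtPrime 𝔭) := inferInstance
  have hH : ∀ (k' : Type u) [Field k'] [Algebra k k'], Module.Finite k k' →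
      (∀ x : k', x ^ p ∈ (algebraMap k k').range) → IsRegularRing (TensorProduct k k' A) :=
    fun k' _ _ hfin _ => hA k' hfin
  haveI hregA : IsRegularLocalRing A :=
    Groth.Agent.Lib.PRootCotH3.isRegularLocalRing_of_forall_regular p hH
  have hAdic : CAlgX.IsAdicFormallySmooth k A (maximalIdeal A) := by
    haveI : ExpChar k p := ExpChar.prime Fact.out
    exact (Groth.Agent.S4573.result (k := k) (A := A) p).mpr hH
  -- good generators of `m₀` coming from `𝔭`
  obtain ⟨x, hxm, hxspan, hxind⟩ := exists_good (Localization.AtPrime 𝔭)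
  choose gs hgs using fun i => IsLocalization.surj 𝔭.primeCompl (x i)
  let g := fun i => (gs i).1
  have hgx : ∀ i, algebraMap (MvPolynomial (Fin m) k) (Localization.AtPrime 𝔭) (g i) =
      algebraMap (MvPolynomial (Fin m) k) (Localization.AtPrime 𝔭) ((gs i).2 : _) * x i := by
    intro i
    rw [mul_comm]
    exact (hgs i).symm
  have hu : ∀ i, IsUnit (algebraMap (MvPolynomial (Fin m) k) (Localization.AtPrime 𝔭)
      ((gs i).2 : MvPolynomial (Fin m) k)) :=
    fun i => IsLocalization.map_units (Localization.AtPrime 𝔭) (gs i).2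
  have hgspan : Ideal.span (Set.range fun i =>
      algebraMap (MvPolynomial (Fin m) k) (Localization.AtPrime 𝔭) (g i)) =
      maximalIdeal (Localization.AtPrime 𝔭) := by
    refine (RegPowH8.span_range_unit_mul x _ (fun i => ?_)).trans hxspan
    exact ⟨_, hu i, hgx i⟩
  have hgm : ∀ i, algebraMap (MvPolynomial (Fin m) k) (Localization.AtPrime 𝔭) (g i) ∈
      maximalIdeal (Localization.AtPrime 𝔭) := by
    intro i
    rw [← hgspan]
    exact Ideal.subset_span ⟨i, rfl⟩
  have hgind : Indep (fun i =>
      algebraMap (MvPolynomial (Fin m) k) (Localization.AtPrime 𝔭) (g i)) := by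
    intro c hc i
    have h1 : ∑ i, (c i * algebraMap (MvPolynomial (Fin m) k) (Localization.AtPrime 𝔭)
        ((gs i).2 : _)) * x i ∈ maximalIdeal (Localization.AtPrime 𝔭) ^ 2 := by
      convert hc using 2 with i
      show _ = c i * algebraMap (MvPolynomial (Fin m) k) (Localization.AtPrime 𝔭) (g i)
      rw [hgx i, mul_assoc]
    have h2 := hxind _ h1 i
    rcases (Ideal.IsPrime.mem_or_mem (maximalIdeal.isMaximal _).isPrime h2) with h3 | h3
    · exact h3
    · exact absurd (hu i) ((mem_maximalIdeal _).mp h3)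
  have hpd := fun f hf j => pderiv_mem_of_basis F φ hφ hli f hf j
  have hzind := indep_map p (A₀ := Localization.AtPrime 𝔭) (A := A) hAdic hpd g hgm hgind
  have hzind' : Indep (fun i => algebraMap (Localization.AtPrime 𝔭) A
      (algebraMap (MvPolynomial (Fin m) k) (Localization.AtPrime 𝔭) (g i))) := by
    convert hzind using 2 with i
    rw [← IsScalarTower.algebraMap_apply]
  obtain ⟨hflat, hreg⟩ := flat_and_regular_of_indep
    (fun i => algebraMap (MvPolynomial (Fin m) k) (Localization.AtPrime 𝔭) (g i)) hgspan rfl hzind'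
  refine ⟨?_, ?_⟩
  · haveI := hflat
    exact Module.Flat.trans (MvPolynomial (Fin m) k) (Localization.AtPrime 𝔭) A
  · have hI : (maximalIdeal (Localization.AtPrime 𝔭)).map (algebraMap (Localization.AtPrime 𝔭) A) =
        Ideal.map φ.toRingHom 𝔭 := by
      rw [← IsLocalization.AtPrime.map_eq_maximalIdeal 𝔭 (Localization.AtPrime 𝔭), Ideal.map_map,
        ← IsScalarTower.algebraMap_eq]
      rfl
    rw [hI] at hreg
    exact hreg

end Main

end Groth.Agent.Lib.GeomRegFlatH5
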