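import Mathlib
import Groth.Prelude.Def_Smoothing
import Groth.Agent.Lib.IndSmLift8_helper8
import Groth.Agent.Lib.CotFlat_helper3
import Groth.Agent.Lib.GeomRegFlat4_helper5

/-!
# Inseparable residue fields (Smoothing ring maps, local part), preliminaries (helper5)

* `pderiv_mem_gen`: partial derivatives stay in the prime when the differentials are independent
* `indSmooth_of_formallyUnramified_field`, `indSmooth_of_flat_unramified`
* `flat_of_faithfullyFlat_tower`: descent of flatness along a faithfully flat extension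
* `exists_completion`: completing an independent family to a regular system of parameters from a
  given generating set
* `exists_indep_gens`: generators of the contracted prime with independent images
APPEND-ONLY once landed.
-/

set_option autoImplicit false
set_option linter.style.haveILetI false
set_option maxHeartbeats 800000
set_option maxSynthPendingDepth 3

universe u

open TensorProduct IsLocalRing MvPolynomial KaehlerDifferential Module
open Groth.Agent.Lib.CotFlatH3 Groth.Agent.Lib.GeomRegFlatH5

namespace Groth.Agent.Lib.InsepLocH5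

theorem pderiv_mem_gen {k : Type u} [Field k] {A F : Type u} [CommRing A] [Algebra k A]
    [Field F] [Algebra k F] {m : ℕ} (φ : MvPolynomial (Fin m) k →ₐ[k] A) (I : Ideal A)
    (ev : MvPolynomial (Fin m) k →ₐ[k] F) (hev0 : ∀ f, φ f ∈ I ↔ ev f = 0)
    (hli : LinearIndependent F (fun i : Fin m => D k F (ev (X i))))
    (f : MvPolynomial (Fin m) k) (hf : φ f ∈ I) (j : Fin m) : φ (pderiv j f) ∈ I := by
  classical
  letI algPF : Algebra (MvPolynomial (Fin m) k) F := ev.toRingHom.toAlgebra
  haveI : IsScalarTower k (MvPolynomial (Fin m) k) F :=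
    IsScalarTower.of_algebraMap_eq (fun c => (ev.commutes c).symm)
  have h1 := (mvPolynomialBasis k (Fin m)).sum_repr (D k (MvPolynomial (Fin m) k) f)
  have h2 := congrArg (KaehlerDifferential.map k k (MvPolynomial (Fin m) k) F) h1
  rw [map_sum, KaehlerDifferential.map_D] at h2
  have h3 : algebraMap (MvPolynomial (Fin m) k) F f = 0 := (hev0 f).mp hf
  rw [h3, map_zero] at h2
  have h4 : ∀ j, KaehlerDifferential.map k k (MvPolynomial (Fin m) k) F
      ((mvPolynomialBasis k (Fin m)).repr (D k _ f) j • (mvPolynomialBasis k (Fin m)) j) =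
      (ev (pderiv j f)) • D k F (ev (X j)) := by
    intro j
    rw [map_smul, mvPolynomialBasis_repr_apply, mvPolynomialBasis_apply,
      KaehlerDifferential.map_D, ← algebraMap_smul F (pderiv j f)]
    rfl
  simp_rw [h4] at h2
  have h5 := Fintype.linearIndependent_iff.mp hli (fun j => ev (pderiv j f)) h2 j
  exact (hev0 _).mpr h5

theorem indSmooth_of_formallyUnramified_field {κ F : Type u} [Field κ] [Field F] [Algebra κ F]
    [Algebra.EssFiniteType κ F] [Algebra.FormallyUnramified κ F] : Smoothing.IndSmooth κ F := by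
  haveI : Algebra.FormallyEtale κ F := Algebra.FormallyEtale.of_formallyUnramified_of_field κ F
  haveI : Module.Finite κ F := Algebra.FormallyUnramified.finite_of_free κ F
  haveI : Algebra.FinitePresentation κ F := Algebra.FinitePresentation.of_finiteType.mp inferInstance
  haveI : Algebra.Smooth κ F := ⟨inferInstance, inferInstance⟩
  intro A _ _ _ f
  exact ⟨F, inferInstance, inferInstance, inferInstance, f, AlgHom.id κ F, AlgHom.id_comp f⟩

theorem indSmooth_of_flat_unramified {Qb D : Type u} [CommRing Qb] [IsLocalRing Qb] [CommRing D]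
    [IsLocalRing D] [Algebra Qb D] [IsLocalHom (algebraMap Qb D)] [Module.Flat Qb D] (N : ℕ)
    (hN : maximalIdeal Qb ^ (N + 1) = ⊥)
    (hm : (maximalIdeal Qb).map (algebraMap Qb D) = maximalIdeal D)
    [Algebra.EssFiniteType (ResidueField Qb) (ResidueField D)]
    [Algebra.FormallyUnramified (ResidueField Qb) (ResidueField D)] : Smoothing.IndSmooth Qb D :=
  IndSmLiftH8.indSmooth_of_pow_eq_bot N (residue Qb) (residue D) residue_surjective
    residue_surjective (fun r => rfl) (by rw [ker_residue, ker_residue, hm])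
    (by rw [ker_residue]; exact hN) indSmooth_of_formallyUnramified_field

theorem flat_of_faithfullyFlat_tower {A B C : Type u} [CommRing A] [CommRing B] [CommRing C]
    [Algebra A B] [Algebra B C] [Algebra A C] [IsScalarTower A B C] [Module.Flat A C]
    [Module.FaithfullyFlat B C] : Module.Flat A B := by
  rw [Module.Flat.iff_lTensor_preserves_injective_linearMap]
  intro N P _ _ _ _ f hf
  have h1 : Function.Injective (f.lTensor C) :=
    Module.Flat.lTensor_preserves_injective_linearMap f hf
  have h2 : (f.lTensor B : B ⊗[A] N → B ⊗[A] P) = (f.baseChange B : B ⊗[A] N → B ⊗[A] P) :=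
    (LinearMap.baseChange_eq_ltensor f).symm
  rw [h2, ← Module.FaithfullyFlat.lTensor_injective_iff_injective B C]
  have h3 := TensorProduct.AlgebraTensorModule.lTensor_comp_cancelBaseChange
    (R := A) (A := B) (B := C) (M := C) f
  have h4 : ∀ x, (TensorProduct.AlgebraTensorModule.cancelBaseChange A B C C P)
      ((f.baseChange B).lTensor C x) =
      f.lTensor C (TensorProduct.AlgebraTensorModule.cancelBaseChange A B C C N x) := by
    intro x
    have := LinearMap.congr_fun h3 x
    simp only [LinearMap.coe_comp, Function.comp_apply, LinearEquiv.coe_coe] at this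
    exact this.symm
  intro x y hxy
  apply (TensorProduct.AlgebraTensorModule.cancelBaseChange A B C C N).injective
  apply h1
  rw [← h4, ← h4, hxy]

theorem exists_completion {T : Type u} [CommRing T] [IsLocalRing T] [IsNoetherianRing T] {d' : ℕ}
    (z : Fin d' → T) (hz : ∀ i, z i ∈ maximalIdeal T) (hind : Indep z) (S : Set T)
    (hS : S ⊆ maximalIdeal T) (hspan : maximalIdeal T ≤ Ideal.span S ⊔ maximalIdeal T ^ 2) :
    ∃ (d'' : ℕ) (v : Fin d'' → T), (∀ l, v l ∈ S) ∧
      Ideal.span (Set.range (Sum.elim z v)) = maximalIdeal T ∧ Indep (Sum.elim z v) ∧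
      d' + d'' = finrank (ResidueField T) (CotangentSpace T) := by
  classical
  have hli : LinearIndependent (ResidueField T) (cot z hz) := (indep_iff z hz).1 hind
  let V' : Submodule (ResidueField T) (CotangentSpace T) :=
    Submodule.span (ResidueField T) (Set.range (cot z hz))
  have hV' : finrank (ResidueField T) V' = d' := by
    rw [finrank_span_eq_card hli, Fintype.card_fin]
  let w₀ : S → CotangentSpace T ⧸ V' := fun s =>
    V'.mkQ ((maximalIdeal T).toCotangent ⟨(s : T), hS s.2⟩)
  have hSle : Ideal.span S ≤ maximalIdeal T := Ideal.span_le.mpr hS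
  -- the images of `S` span the quotient
  have hw₀ : Submodule.span (ResidueField T) (Set.range w₀) = ⊤ := by
    rw [eq_top_iff]
    rintro x -
    obtain ⟨x', rfl⟩ := V'.mkQ_surjective x
    obtain ⟨⟨x, hx⟩, rfl⟩ := (maximalIdeal T).toCotangent_surjective x'
    obtain ⟨y, hy, w, hw, rfl⟩ := Submodule.mem_sup.mp (hspan hx)
    have hym : y ∈ maximalIdeal T := hSle hy
    have hwm : w ∈ maximalIdeal T := Ideal.pow_le_self two_ne_zero hw
    have e1 : (⟨y + w, hx⟩ : maximalIdeal T) = ⟨y, hym⟩ + ⟨w, hwm⟩ := rfl
    have e2 : (maximalIdeal T).toCotangent ⟨w, hwm⟩ = 0 := by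
      rw [Ideal.toCotangent_eq_zero]
      exact hw
    rw [e1, map_add, e2, add_zero]
    have key : ∀ y (hy : y ∈ Ideal.span S) (hym : y ∈ maximalIdeal T),
        V'.mkQ ((maximalIdeal T).toCotangent ⟨y, hym⟩) ∈
          Submodule.span (ResidueField T) (Set.range w₀) := by
      intro y hy
      induction hy using Submodule.span_induction with
      | mem s hs =>
        intro hym
        exact Submodule.subset_span ⟨⟨s, hs⟩, rfl⟩
      | zero =>
        intro hym
        have : (⟨0, hym⟩ : maximalIdeal T) = 0 := rfl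
        rw [this, map_zero, map_zero]
        exact Submodule.zero_mem _
      | add a b ha hb iha ihb =>
        intro hym
        have ham : a ∈ maximalIdeal T := hSle ha
        have hbm : b ∈ maximalIdeal T := hSle hb
        have : (⟨a + b, hym⟩ : maximalIdeal T) = ⟨a, ham⟩ + ⟨b, hbm⟩ := rfl
        rw [this, map_add, map_add]
        exact Submodule.add_mem _ (iha ham) (ihb hbm)
      | smul a b hb ihb =>
        intro hym
        have hbm : b ∈ maximalIdeal T := hSle hb
        have : (⟨a • b, hym⟩ : maximalIdeal T) = a • ⟨b, hbm⟩ := rfl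
        rw [this, map_smul, ← algebraMap_smul (ResidueField T) a, map_smul]
        exact Submodule.smul_mem _ _ (ihb hbm)
    exact key y hy hym
  obtain ⟨κ, a, hainj, hasp, hali⟩ := exists_linearIndependent' (ResidueField T) w₀
  haveI : Finite κ := hali.finite
  haveI : Fintype κ := Fintype.ofFinite κ
  let e : Fin (Fintype.card κ) ≃ κ := (Fintype.equivFin κ).symm
  let v : Fin (Fintype.card κ) → T := fun l => ((a (e l) : S) : T)
  have hvS : ∀ l, v l ∈ S := fun l => (a (e l)).2
  have hv : ∀ l, v l ∈ maximalIdeal T := fun l => hS (hvS l)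
  have hmkv : ∀ l, V'.mkQ (cot v hv l) = (w₀ ∘ a) (e l) := fun l => rfl
  let bq : Basis (Fin (Fintype.card κ)) (ResidueField T) (CotangentSpace T ⧸ V') :=
    Basis.mk (v := (w₀ ∘ a) ∘ e) (hali.comp e e.injective) (by
      rw [Set.range_comp, e.range_eq_univ, Set.image_univ, hasp, hw₀])
  have hbq : ∀ l, bq l = V'.mkQ (cot v hv l) := fun l => by
    rw [Basis.mk_apply]
    rfl
  have hW : finrank (ResidueField T) (CotangentSpace T ⧸ V') = Fintype.card κ := by
    rw [Module.finrank_eq_card_basis bq, Fintype.card_fin]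
  have hsum : Fintype.card κ + d' = finrank (ResidueField T) (CotangentSpace T) := by
    rw [← hW, ← hV']
    exact Submodule.finrank_quotient_add_finrank V'
  let zz : Fin d' ⊕ Fin (Fintype.card κ) → T := Sum.elim z v
  have hzzm : ∀ s, zz s ∈ maximalIdeal T := by
    rintro (i | j)
    · exact hz i
    · exact hv j
  have hcotz : Set.range (cot zz hzzm) = Set.range (cot z hz) ∪ Set.range (cot v hv) := by
    ext x
    constructor
    · rintro ⟨(i | j), rfl⟩
      · exact Or.inl ⟨i, rfl⟩
      · exact Or.inr ⟨j, rfl⟩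
    · rintro (⟨i, rfl⟩ | ⟨j, rfl⟩)
      · exact ⟨Sum.inl i, rfl⟩
      · exact ⟨Sum.inr j, rfl⟩
  have hspanz : Submodule.span (ResidueField T) (Set.range (cot zz hzzm)) = ⊤ := by
    rw [hcotz, Submodule.span_union]
    show V' ⊔ Submodule.span (ResidueField T) (Set.range (cot v hv)) = ⊤
    rw [← Submodule.map_mkQ_eq_top, Submodule.map_span, ← Set.range_comp]
    have : (⇑V'.mkQ ∘ cot v hv) = ⇑bq := by
      funext l
      exact (hbq l).symm
    rw [this]
    exact bq.span_eq
  have hzzspan : Ideal.span (Set.range zz) = maximalIdeal T := (span_iff zz hzzm).2 hspanz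
  refine ⟨Fintype.card κ, v, hvS, hzzspan, ?_, by omega⟩
  apply indep_of_span_of_card zz hzzm hzzspan
  rw [Fintype.card_sum, Fintype.card_fin, Fintype.card_fin]
  omega

theorem exists_indep_gens (p : ℕ) [Fact p.Prime] {k : Type u} [Field k] [CharP k p] {T : Type u}
    [CommRing T] [IsLocalRing T] [IsNoetherianRing T] [Algebra k T]
    (hAdic : CAlgX.IsAdicFormallySmooth k T (maximalIdeal T)) {m : ℕ}
    (φ : MvPolynomial (Fin m) k →ₐ[k] T)
    (hpd : ∀ f, φ f ∈ maximalIdeal T → ∀ j, φ (pderiv j f) ∈ maximalIdeal T) :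
    ∃ (d' : ℕ) (g : Fin d' → MvPolynomial (Fin m) k), (∀ i, φ (g i) ∈ maximalIdeal T) ∧
      Indep (fun i => φ (g i)) ∧
      ∀ f, φ f ∈ maximalIdeal T → ∃ s, φ s ∉ maximalIdeal T ∧ s * f ∈ Ideal.span (Set.range g) := by
  classical
  letI algPA : Algebra (MvPolynomial (Fin m) k) T := φ.toRingHom.toAlgebra
  haveI twkPA : IsScalarTower k (MvPolynomial (Fin m) k) T :=
    IsScalarTower.of_algebraMap_eq (fun c => (φ.commutes c).symm)
  have halgPA : ∀ f, algebraMap (MvPolynomial (Fin m) k) T f = φ f := fun f => rfl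
  set 𝔭 : Ideal (MvPolynomial (Fin m) k) := Ideal.comap φ.toRingHom (maximalIdeal T) with h𝔭
  haveI h𝔭prime : 𝔭.IsPrime := Ideal.comap_isPrime _ _
  have hmem𝔭 : ∀ f, f ∈ 𝔭 ↔ φ f ∈ maximalIdeal T := fun f => Iff.rfl
  have hunits : ∀ y : 𝔭.primeCompl, IsUnit (φ.toRingHom y) := fun y => by
    have h1 : φ (y : MvPolynomial (Fin m) k) ∉ maximalIdeal T := y.2
    rw [mem_maximalIdeal, mem_nonunits_iff, not_not] at h1
    exact h1
  let φ₀ : Localization.AtPrime 𝔭 →+* T := IsLocalization.lift hunits
  letI algA₀A : Algebra (Localization.AtPrime 𝔭) T := φ₀.toAlgebra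
  haveI tw1 : IsScalarTower (MvPolynomial (Fin m) k) (Localization.AtPrime 𝔭) T :=
    IsScalarTower.of_algebraMap_eq (fun x => (IsLocalization.lift_eq hunits x).symm)
  haveI tw2 : IsScalarTower k (Localization.AtPrime 𝔭) T :=
    IsScalarTower.of_algebraMap_eq (fun c => by
      rw [IsScalarTower.algebraMap_apply k (MvPolynomial (Fin m) k) (Localization.AtPrime 𝔭),
        ← IsScalarTower.algebraMap_apply (MvPolynomial (Fin m) k) (Localization.AtPrime 𝔭) T,
        ← IsScalarTower.algebraMap_apply k (MvPolynomial (Fin m) k) T])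
  haveI hloc : IsLocalHom (algebraMap (Localization.AtPrime 𝔭) T) := by
    constructor
    intro x hx
    obtain ⟨⟨g, s⟩, hgs⟩ := IsLocalization.surj 𝔭.primeCompl x
    have h1 : algebraMap (Localization.AtPrime 𝔭) T x * φ (s : MvPolynomial (Fin m) k) = φ g := by
      have := congrArg (algebraMap (Localization.AtPrime 𝔭) T) hgs
      rw [map_mul, ← IsScalarTower.algebraMap_apply, ← IsScalarTower.algebraMap_apply] at this
      exact this
    have h2 : IsUnit (φ g) := by
      rw [← h1]
      exact hx.mul (hunits s)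
    have h3 : g ∉ 𝔭 := by
      intro hg
      exact ((hmem𝔭 g).mp hg) h2
    have h4 : IsUnit (algebraMap (MvPolynomial (Fin m) k) (Localization.AtPrime 𝔭) g) :=
      IsLocalization.map_units (Localization.AtPrime 𝔭) (⟨g, h3⟩ : 𝔭.primeCompl)
    simp only at hgs
    rw [← hgs] at h4
    exact isUnit_of_mul_isUnit_left h4
  haveI : Algebra.FormallySmooth (MvPolynomial (Fin m) k) (Localization.AtPrime 𝔭) :=
    Algebra.FormallySmooth.of_isLocalization 𝔭.primeCompl
  haveI hregA₀ : IsRegularLocalRing (Localization.AtPrime 𝔭) := inferInstance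
  obtain ⟨x, hxm, hxspan, hxind⟩ := exists_good (Localization.AtPrime 𝔭)
  choose gs hgs using fun i => IsLocalization.surj 𝔭.primeCompl (x i)
  let g := fun i => (gs i).1
  have hgx : ∀ i, algebraMap (MvPolynomial (Fin m) k) (Localization.AtPrime 𝔭) (g i) =
      algebraMap (MvPolynomial (Fin m) k) (Localization.AtPrime 𝔭) ((gs i).2 : _) * x i := by
    intro i
    rw [mul_comm]
    exact (hgs i).symm
  have hu : ∀ i, IsUnit (algebraMap (MvPolynomial (Fin m) k) (Localization.AtPrime 𝔭)
      ((gs i).2 : MvPolynomial (Fin m) k)) :=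
    fun i => IsLocalization.map_units (Localization.AtPrime 𝔭) (gs i).2
  have hgspan : Ideal.span (Set.range fun i =>
      algebraMap (MvPolynomial (Fin m) k) (Localization.AtPrime 𝔭) (g i)) =
      maximalIdeal (Localization.AtPrime 𝔭) := by
    refine (RegPowH8.span_range_unit_mul x _ (fun i => ?_)).trans hxspan
    exact ⟨_, hu i, hgx i⟩
  have hgm : ∀ i, algebraMap (MvPolynomial (Fin m) k) (Localization.AtPrime 𝔭) (g i) ∈
      maximalIdeal (Localization.AtPrime 𝔭) := by
    intro i
    rw [← hgspan]
    exact Ideal.subset_span ⟨i, rfl⟩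
  have hgind : Indep (fun i =>
      algebraMap (MvPolynomial (Fin m) k) (Localization.AtPrime 𝔭) (g i)) := by
    intro c hc i
    have h1 : ∑ i, (c i * algebraMap (MvPolynomial (Fin m) k) (Localization.AtPrime 𝔭)
        ((gs i).2 : _)) * x i ∈ maximalIdeal (Localization.AtPrime 𝔭) ^ 2 := by
      convert hc using 2 with i
      show _ = c i * algebraMap (MvPolynomial (Fin m) k) (Localization.AtPrime 𝔭) (g i)
      rw [hgx i, mul_assoc]
    have h2 := hxind _ h1 i
    rcases (Ideal.IsPrime.mem_or_mem (maximalIdeal.isMaximal _).isPrime h2) with h3 | h3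
    · exact h3
    · exact absurd (hu i) ((mem_maximalIdeal _).mp h3)
  have hzind := indep_map p (A₀ := Localization.AtPrime 𝔭) (A := T) hAdic hpd g hgm hgind
  refine ⟨_, g, ?_, hzind, ?_⟩
  · intro i
    have := (IsLocalization.AtPrime.to_map_mem_maximal_iff (Localization.AtPrime 𝔭) 𝔭 (g i)).mp
      (hgm i)
    exact this
  · intro f hf
    have hf' : f ∈ 𝔭 := hf
    have h1 : algebraMap (MvPolynomial (Fin m) k) (Localization.AtPrime 𝔭) f ∈
        (Ideal.span (Set.range g)).map
          (algebraMap (MvPolynomial (Fin m) k) (Localization.AtPrime 𝔭)) := by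
      rw [Ideal.map_span, ← Set.range_comp]
      show _ ∈ Ideal.span (Set.range fun i =>
        algebraMap (MvPolynomial (Fin m) k) (Localization.AtPrime 𝔭) (g i))
      rw [hgspan]
      exact (IsLocalization.AtPrime.to_map_mem_maximal_iff (Localization.AtPrime 𝔭) 𝔭 f).mpr hf'
    obtain ⟨s, hs, hsf⟩ := RegPowH8.exists_mul_mem_of_map 𝔭 _ f h1
    exact ⟨s, hs, hsf⟩

end Groth.Agent.Lib.InsepLocH5
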