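import Mathlib
import Groth.Agent.Lib.InsepLoc1_helper5
import Groth.Agent.Lib.RegFlatPow_helper4

/-!
# Inseparable residue fields, local part 2 (helper5): ind-smoothness of a flat subalgebra of the
Artinian quotient over the truncated base.  APPEND-ONLY once landed.
-/

set_option autoImplicit false
set_option linter.style.haveILetI false
set_option maxHeartbeats 800000
set_option maxSynthPendingDepth 3

universe u

open TensorProduct IsLocalRing MvPolynomial KaehlerDifferential Module

namespace Groth.Agent.Lib.InsepLocH5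

theorem map_mk_maximalIdeal' {B : Type*} [CommRing B] [IsLocalRing B] (I : Ideal B)
    [IsLocalRing (B ⧸ I)] :
    (maximalIdeal B).map (Ideal.Quotient.mk I) = maximalIdeal (B ⧸ I) := by
  haveI : IsLocalHom (Ideal.Quotient.mk I) :=
    IsLocalHom.of_surjective _ Ideal.Quotient.mk_surjective
  rw [← IsLocalRing.maximalIdeal_comap (Ideal.Quotient.mk I),
    Ideal.map_comap_of_surjective _ Ideal.Quotient.mk_surjective]

theorem isLocalRing_quot_pow {B : Type*} [CommRing B] [IsLocalRing B] (n : ℕ) (hn : 1 ≤ n) :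
    IsLocalRing (B ⧸ maximalIdeal B ^ n) := by
  haveI : Nontrivial (B ⧸ maximalIdeal B ^ n) := by
    apply Ideal.Quotient.nontrivial_iff.mpr
    intro h
    have h1 : maximalIdeal B ^ n ≤ maximalIdeal B := Ideal.pow_le_self (by omega)
    rw [h] at h1
    exact (maximalIdeal.isMaximal B).ne_top (top_le_iff.mp h1)
  exact IsLocalRing.of_surjective' (Ideal.Quotient.mk _) Ideal.Quotient.mk_surjective

theorem mk_mem_maximalIdeal_iff {B : Type*} [CommRing B] [IsLocalRing B] (n : ℕ) (hn : 1 ≤ n)
    [IsLocalRing (B ⧸ maximalIdeal B ^ n)] (x : B) :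
    Ideal.Quotient.mk (maximalIdeal B ^ n) x ∈ maximalIdeal (B ⧸ maximalIdeal B ^ n) ↔
      x ∈ maximalIdeal B := by
  rw [← map_mk_maximalIdeal' (maximalIdeal B ^ n)]
  exact Ideal.mem_quotient_iff_mem (Ideal.pow_le_self (by omega))

theorem maximalIdeal_quot_pow {B : Type*} [CommRing B] [IsLocalRing B] (n : ℕ)
    [IsLocalRing (B ⧸ maximalIdeal B ^ n)] :
    maximalIdeal (B ⧸ maximalIdeal B ^ n) ^ n = ⊥ := by
  rw [← map_mk_maximalIdeal' (maximalIdeal B ^ n), ← Ideal.map_pow, Ideal.map_quotient_self]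

theorem isLocalHom_of_map_eq {k L : Type*} [CommRing k] [CommRing L] [IsLocalRing L] [Algebra k L]
    (D : Subalgebra k L) [IsLocalRing D]
    (h : (maximalIdeal D).map (algebraMap D L) = maximalIdeal L) :
    IsLocalHom (algebraMap D L) := by
  constructor
  intro a ha
  by_contra hna
  have h1 : a ∈ maximalIdeal D := (mem_maximalIdeal a).mpr hna
  have h2 : algebraMap D L a ∈ maximalIdeal L := by
    rw [← h]
    exact Ideal.mem_map_of_mem _ h1
  exact ((mem_maximalIdeal _).mp h2) ha

theorem indSmooth_sub {k P T : Type u} [Field k] [CommRing P] [IsLocalRing P] [Algebra k P]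
    [CommRing T] [IsLocalRing T] [Algebra k T] [Algebra P T] [IsScalarTower k P T]
    [IsLocalHom (algebraMap P T)] [Module.Flat P T]
    (hmap : (maximalIdeal P).map (algebraMap P T) = maximalIdeal T) (n' : ℕ) (hn' : 1 ≤ n')
    (D : Subalgebra k (T ⧸ maximalIdeal T ^ n')) [IsLocalRing D]
    [IsLocalRing (T ⧸ maximalIdeal T ^ n')]
    (hDflat : Module.Flat D (T ⧸ maximalIdeal T ^ n')) (hDess : Algebra.EssFiniteType k D)
    (hDmax : (maximalIdeal D).map (algebraMap D (T ⧸ maximalIdeal T ^ n')) =
      maximalIdeal (T ⧸ maximalIdeal T ^ n'))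
    (hPD : ∀ y : P, Ideal.Quotient.mk (maximalIdeal T ^ n') (algebraMap P T y) ∈ D)
    {ι : Type} (y : ι → P)
    (hΩ : Submodule.span (ResidueField D) (Set.range fun i =>
      KaehlerDifferential.D k (ResidueField D)
        (residue D ⟨Ideal.Quotient.mk (maximalIdeal T ^ n') (algebraMap P T (y i)), hPD (y i)⟩)) =
        ⊤) :
    ∃ (_ : Algebra (P ⧸ maximalIdeal P ^ n') D),
      (∀ z : P, algebraMap (P ⧸ maximalIdeal P ^ n') D (Ideal.Quotient.mk _ z) =
        ⟨Ideal.Quotient.mk (maximalIdeal T ^ n') (algebraMap P T z), hPD z⟩) ∧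
      Smoothing.IndSmooth (P ⧸ maximalIdeal P ^ n') D := by
  classical
  haveI hPloc : IsLocalRing (P ⧸ maximalIdeal P ^ n') := isLocalRing_quot_pow n' hn'
  -- `T̄` as a `P̄`-algebra
  have hkill : ∀ a ∈ maximalIdeal P ^ n',
      ((Ideal.Quotient.mk (maximalIdeal T ^ n')).comp (algebraMap P T)) a = 0 := by
    intro a ha
    rw [RingHom.comp_apply, Ideal.Quotient.eq_zero_iff_mem, ← hmap, ← Ideal.map_pow]
    exact Ideal.mem_map_of_mem _ ha
  letI algPT : Algebra (P ⧸ maximalIdeal P ^ n') (T ⧸ maximalIdeal T ^ n') :=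
    (Ideal.Quotient.lift (maximalIdeal P ^ n')
      ((Ideal.Quotient.mk (maximalIdeal T ^ n')).comp (algebraMap P T)) hkill).toAlgebra
  have halg : ∀ z : P, algebraMap (P ⧸ maximalIdeal P ^ n') (T ⧸ maximalIdeal T ^ n')
      (Ideal.Quotient.mk _ z) = Ideal.Quotient.mk _ (algebraMap P T z) := fun z => rfl
  haveI hflatPT : Module.Flat (P ⧸ maximalIdeal P ^ n') (T ⧸ maximalIdeal T ^ n') :=
    Groth.Agent.Lib.RegFlatPowH4.flat_quot_of_flat_tensor (maximalIdeal P ^ n')
      (maximalIdeal T ^ n') (by rw [Ideal.map_pow, hmap]) halg inferInstance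
  -- `D → T̄` is faithfully flat
  haveI hlocD : IsLocalHom (algebraMap D (T ⧸ maximalIdeal T ^ n')) :=
    isLocalHom_of_map_eq D hDmax
  haveI := hDflat
  haveI hff : Module.FaithfullyFlat D (T ⧸ maximalIdeal T ^ n') :=
    Module.FaithfullyFlat.of_flat_of_isLocalHom
  -- `D` as a `P̄`-algebra
  have hmemD : ∀ x : P ⧸ maximalIdeal P ^ n',
      algebraMap (P ⧸ maximalIdeal P ^ n') (T ⧸ maximalIdeal T ^ n') x ∈ D.toSubring := by
    intro x
    obtain ⟨z, rfl⟩ := Ideal.Quotient.mk_surjective x
    rw [halg]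
    exact hPD z
  letI algPD : Algebra (P ⧸ maximalIdeal P ^ n') D :=
    (RingHom.codRestrict (algebraMap (P ⧸ maximalIdeal P ^ n') (T ⧸ maximalIdeal T ^ n'))
      D.toSubring hmemD).toAlgebra
  have halgD : ∀ z : P, algebraMap (P ⧸ maximalIdeal P ^ n') D (Ideal.Quotient.mk _ z) =
      ⟨Ideal.Quotient.mk (maximalIdeal T ^ n') (algebraMap P T z), hPD z⟩ := fun z => rfl
  haveI tw : IsScalarTower (P ⧸ maximalIdeal P ^ n') D (T ⧸ maximalIdeal T ^ n') :=
    IsScalarTower.of_algebraMap_eq (fun x => rfl)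
  haveI hflatPD : Module.Flat (P ⧸ maximalIdeal P ^ n') D :=
    flat_of_faithfullyFlat_tower (A := P ⧸ maximalIdeal P ^ n') (B := D)
      (C := T ⧸ maximalIdeal T ^ n')
  -- local homomorphism
  have hnilP : maximalIdeal (P ⧸ maximalIdeal P ^ n') ^ n' = ⊥ := maximalIdeal_quot_pow n'
  haveI hlocPD : IsLocalHom (algebraMap (P ⧸ maximalIdeal P ^ n') D) := by
    constructor
    intro x hx
    by_contra hnx
    have h1 : x ∈ maximalIdeal (P ⧸ maximalIdeal P ^ n') := (mem_maximalIdeal x).mpr hnx
    have h2 : x ^ n' = 0 := by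
      have := Ideal.pow_mem_pow h1 n'
      rw [hnilP] at this
      exact this
    have h3 : algebraMap (P ⧸ maximalIdeal P ^ n') D x ^ n' = 0 := by
      rw [← map_pow, h2, map_zero]
    have h4 : IsUnit (algebraMap (P ⧸ maximalIdeal P ^ n') D x ^ n') := hx.pow n'
    rw [h3] at h4
    exact not_isUnit_zero h4
  -- the maximal ideals
  have hm : (maximalIdeal (P ⧸ maximalIdeal P ^ n')).map
      (algebraMap (P ⧸ maximalIdeal P ^ n') D) = maximalIdeal D := by
    apply Ideal.map_injective_of_faithfullyFlat (A := D) (B := T ⧸ maximalIdeal T ^ n')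
    rw [hDmax, Ideal.map_map, ← IsScalarTower.algebraMap_eq,
      ← map_mk_maximalIdeal' (maximalIdeal P ^ n'), Ideal.map_map]
    have key : (algebraMap (P ⧸ maximalIdeal P ^ n') (T ⧸ maximalIdeal T ^ n')).comp
        (Ideal.Quotient.mk (maximalIdeal P ^ n')) =
        (Ideal.Quotient.mk (maximalIdeal T ^ n')).comp (algebraMap P T) := rfl
    rw [key, ← Ideal.map_map, hmap, map_mk_maximalIdeal']
  -- scalar towers over `k`
  haveI twk : IsScalarTower k (P ⧸ maximalIdeal P ^ n') D :=
    IsScalarTower.of_algebraMap_eq (fun c => by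
      apply Subtype.ext
      show algebraMap k (T ⧸ maximalIdeal T ^ n') c =
        algebraMap (P ⧸ maximalIdeal P ^ n') (T ⧸ maximalIdeal T ^ n')
          (algebraMap k (P ⧸ maximalIdeal P ^ n') c)
      rw [IsScalarTower.algebraMap_apply k P (P ⧸ maximalIdeal P ^ n')]
      show _ = Ideal.Quotient.mk _ (algebraMap P T (algebraMap k P c))
      rw [← IsScalarTower.algebraMap_apply k P T]
      rfl)
  -- residue fields
  haveI : Algebra.EssFiniteType k (ResidueField D) :=
    Algebra.EssFiniteType.of_surjective (IsScalarTower.toAlgHom k D (ResidueField D))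
      residue_surjective
  haveI : Algebra.EssFiniteType (ResidueField (P ⧸ maximalIdeal P ^ n')) (ResidueField D) :=
    Algebra.EssFiniteType.of_comp k _ _
  haveI : Algebra.FormallyUnramified (ResidueField (P ⧸ maximalIdeal P ^ n')) (ResidueField D) := by
    constructor
    have hsurj := KaehlerDifferential.map_surjective k
      (ResidueField (P ⧸ maximalIdeal P ^ n')) (ResidueField D)
    have hzero : ∀ ω : Ω[ResidueField D⁄k], KaehlerDifferential.map k
        (ResidueField (P ⧸ maximalIdeal P ^ n')) (ResidueField D) (ResidueField D) ω = 0 := by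
      intro ω
      have hω : ω ∈ Submodule.span (ResidueField D) (Set.range fun i =>
        KaehlerDifferential.D k (ResidueField D)
          (residue D ⟨Ideal.Quotient.mk (maximalIdeal T ^ n') (algebraMap P T (y i)),
            hPD (y i)⟩)) := by
        rw [hΩ]; trivial
      induction hω using Submodule.span_induction with
      | mem x hx =>
        obtain ⟨i, rfl⟩ := hx
        rw [KaehlerDifferential.map_D]
        have e1 : (algebraMap (ResidueField D) (ResidueField D))
            (residue D ⟨Ideal.Quotient.mk (maximalIdeal T ^ n') (algebraMap P T (y i)),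
              hPD (y i)⟩) =
            algebraMap (ResidueField (P ⧸ maximalIdeal P ^ n')) (ResidueField D)
              (residue _ (Ideal.Quotient.mk _ (y i))) := rfl
        rw [e1, Derivation.map_algebraMap]
      | zero => rw [map_zero]
      | add a b _ _ ha hb => rw [map_add, ha, hb, add_zero]
      | smul c a _ ha => rw [map_smul, ha, smul_zero]
    refine ⟨fun a b => ?_⟩
    obtain ⟨a', rfl⟩ := hsurj a
    obtain ⟨b', rfl⟩ := hsurj b
    rw [hzero, hzero]
  obtain ⟨N, hN⟩ : ∃ N, n' = N + 1 := ⟨n' - 1, by omega⟩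
  refine ⟨algPD, halgD, ?_⟩
  exact indSmooth_of_flat_unramified N (by rw [← hN]; exact hnilP) hm

end Groth.Agent.Lib.InsepLocH5
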