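import Mathlib
import Groth.Agent.Lib.InsepLoc2_helper5
import Groth.Agent.Lib.InsepKer_helper5
import Groth.Agent.Lib.ArtUnionFG_helper5

/-!
# Inseparable residue fields, local part 3 (helper5): choice of coordinates `k[U, V] → T` and of the
flat essentially finite type subalgebra `D` of `T/m^n'`.  APPEND-ONLY once landed.
-/

set_option autoImplicit false
set_option linter.style.haveILetI false
set_option maxHeartbeats 1600000
set_option maxSynthPendingDepth 3

universe u

open TensorProduct IsLocalRing MvPolynomial KaehlerDifferential Module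
open Groth.Agent.Lib.CotFlatH3

namespace Groth.Agent.Lib.InsepLocH5

/-- a polynomial minus its specialisation at `V = 0` lies in the ideal generated by the `V`s -/
theorem sub_rename_mem {k : Type*} [CommRing k] {σ τ : Type*} (f : MvPolynomial (σ ⊕ τ) k) :
    f - rename Sum.inl (aeval (R := k) (Sum.elim X (fun _ => 0) : σ ⊕ τ → MvPolynomial σ k) f) ∈
      Ideal.span (Set.range fun l : τ => (X (Sum.inr l) : MvPolynomial (σ ⊕ τ) k)) := by
  induction f using MvPolynomial.induction_on with
  | C a =>
    rw [aeval_C, MvPolynomial.algebraMap_eq, rename_C, sub_self]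
    exact Ideal.zero_mem _
  | add p q hp hq =>
    rw [map_add, map_add]
    have : p + q - (rename Sum.inl (aeval (R := k) (Sum.elim X (fun _ => 0) : σ ⊕ τ →
        MvPolynomial σ k) p) + rename Sum.inl (aeval (R := k) (Sum.elim X (fun _ => 0) : σ ⊕ τ →
        MvPolynomial σ k) q)) = (p - rename Sum.inl (aeval (R := k) (Sum.elim X (fun _ => 0) :
        σ ⊕ τ → MvPolynomial σ k) p)) + (q - rename Sum.inl (aeval (R := k)
        (Sum.elim X (fun _ => 0) : σ ⊕ τ → MvPolynomial σ k) q)) := by ring
    rw [this]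
    exact Ideal.add_mem _ hp hq
  | mul_X p i hp =>
    rw [map_mul, map_mul, aeval_X]
    rcases i with i | l
    · rw [Sum.elim_inl, rename_X]
      have : p * X (Sum.inl i) - rename Sum.inl (aeval (R := k) (Sum.elim X (fun _ => 0) :
          σ ⊕ τ → MvPolynomial σ k) p) * X (Sum.inl i) =
          X (Sum.inl i) * (p - rename Sum.inl (aeval (R := k) (Sum.elim X (fun _ => 0) :
          σ ⊕ τ → MvPolynomial σ k) p)) := by ring
      rw [this]
      exact Ideal.mul_mem_left _ _ hp
    · rw [Sum.elim_inr, map_zero, mul_zero, sub_zero]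
      exact Ideal.mul_mem_left _ _ (Ideal.subset_span ⟨l, rfl⟩)

theorem exists_coords (p : ℕ) [Fact p.Prime] {k : Type u} [Field k] [CharP k p] {T : Type u}
    [CommRing T] [IsLocalRing T] [IsNoetherianRing T] [Algebra k T]
    (hAdic : CAlgX.IsAdicFormallySmooth k T (maximalIdeal T)) (d : ℕ)
    (hd : finrank (ResidueField T) (CotangentSpace T) = d) (n' : ℕ) (hn' : 2 ≤ n')
    [IsLocalRing (T ⧸ maximalIdeal T ^ n')] (E : Finset (T ⧸ maximalIdeal T ^ n')) :
    ∃ (t d'' : ℕ) (u : Fin t ⊕ Fin d'' → T) (g : Fin d → MvPolynomial (Fin t ⊕ Fin d'') k)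
      (D : Subalgebra k (T ⧸ maximalIdeal T ^ n')) (_ : IsLocalRing D),
      (↑E : Set (T ⧸ maximalIdeal T ^ n')) ⊆ D ∧ Module.Flat D (T ⧸ maximalIdeal T ^ n') ∧
      Algebra.EssFiniteType k D ∧
      (maximalIdeal D).map (algebraMap D (T ⧸ maximalIdeal T ^ n')) =
        maximalIdeal (T ⧸ maximalIdeal T ^ n') ∧
      ∃ (hu : ∀ s, Ideal.Quotient.mk (maximalIdeal T ^ n') (u s) ∈ D),
      Submodule.span (ResidueField D) (Set.range fun i : Fin t =>
        KaehlerDifferential.D k (ResidueField D)
          (residue D ⟨Ideal.Quotient.mk (maximalIdeal T ^ n') (u (Sum.inl i)), hu _⟩)) = ⊤ ∧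
      (∀ i, aeval u (g i) ∈ maximalIdeal T) ∧
      Ideal.span (Set.range fun i => aeval u (g i)) = maximalIdeal T ∧
      ∀ f, aeval u f ∈ maximalIdeal T →
        ∃ s, aeval u s ∉ maximalIdeal T ∧ s * f ∈ Ideal.span (Set.range g) := by
  classical
  have hn1 : 1 ≤ n' := by omega
  -- the Artinian quotient
  haveI hart : IsArtinianRing (T ⧸ maximalIdeal T ^ n') :=
    (isArtinianRing_iff_isNilpotent_maximalIdeal _).mpr ⟨n', maximalIdeal_quot_pow n'⟩
  let ρ : T →ₐ[k] ResidueField (T ⧸ maximalIdeal T ^ n') :=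
    (IsScalarTower.toAlgHom k (T ⧸ maximalIdeal T ^ n')
      (ResidueField (T ⧸ maximalIdeal T ^ n'))).comp (Ideal.Quotient.mkₐ k (maximalIdeal T ^ n'))
  have hρ_apply : ∀ x, ρ x = residue _ (Ideal.Quotient.mk (maximalIdeal T ^ n') x) := fun _ => rfl
  have hρsurj : Function.Surjective ρ := by
    intro z
    obtain ⟨y, rfl⟩ := residue_surjective z
    obtain ⟨x, rfl⟩ := Ideal.Quotient.mk_surjective y
    exact ⟨x, rfl⟩
  have hρker : RingHom.ker ρ = maximalIdeal T := by
    ext x
    rw [RingHom.mem_ker, hρ_apply, residue_eq_zero_iff, mk_mem_maximalIdeal_iff n' hn1]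
  have hfg := Groth.Agent.Lib.InsepKerH5.fg_ker hAdic ρ hρsurj hρker
  obtain ⟨D, hDloc, hED, hDart, hDflat, hDess, hDmax⟩ :=
    Groth.Agent.Lib.ArtUnionFGH5.main6854FG p hfg E
  haveI := hDloc
  haveI hlocD : IsLocalHom (algebraMap D (T ⧸ maximalIdeal T ^ n')) :=
    isLocalHom_of_map_eq D hDmax
  have hmaxD : ∀ a : D, a ∈ maximalIdeal D ↔
      (a : T ⧸ maximalIdeal T ^ n') ∈ maximalIdeal (T ⧸ maximalIdeal T ^ n') := by
    intro a
    constructor
    · intro ha
      rw [← hDmax]
      exact Ideal.mem_map_of_mem (algebraMap D (T ⧸ maximalIdeal T ^ n')) ha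
    · intro ha
      rw [mem_maximalIdeal, mem_nonunits_iff] at ha ⊢
      exact fun h => ha (h.map (algebraMap D (T ⧸ maximalIdeal T ^ n')))
  -- the residue field of `D`
  haveI : Algebra.EssFiniteType k D := hDess
  haveI : Algebra.EssFiniteType k (ResidueField D) :=
    Algebra.EssFiniteType.of_surjective (IsScalarTower.toAlgHom k D (ResidueField D))
      residue_surjective
  obtain ⟨κ', a', ha'inj, ha'sp, ha'li⟩ := exists_linearIndependent' (ResidueField D)
    (KaehlerDifferential.D k (ResidueField D) : ResidueField D → Ω[ResidueField D⁄k])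
  haveI : Finite κ' := ha'li.finite
  haveI : Fintype κ' := Fintype.ofFinite κ'
  let e' : Fin (Fintype.card κ') ≃ κ' := (Fintype.equivFin κ').symm
  let fF : Fin (Fintype.card κ') → ResidueField D := fun i => a' (e' i)
  have hfli : LinearIndependent (ResidueField D)
      (fun i => KaehlerDifferential.D k (ResidueField D) (fF i)) :=
    ha'li.comp e' e'.injective
  have hfspan : Submodule.span (ResidueField D) (Set.range fun i =>
      KaehlerDifferential.D k (ResidueField D) (fF i)) = ⊤ := by
    have h1 : (Set.range fun i => KaehlerDifferential.D k (ResidueField D) (fF i)) =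
        Set.range ((KaehlerDifferential.D k (ResidueField D) : ResidueField D → _) ∘ a') := by
      have : (fun i => KaehlerDifferential.D k (ResidueField D) (fF i)) =
          ((KaehlerDifferential.D k (ResidueField D) : ResidueField D → _) ∘ a') ∘ e' := rfl
      rw [this, Set.range_comp, e'.range_eq_univ, Set.image_univ]
    rw [h1, ha'sp, KaehlerDifferential.span_range_derivation]
  choose xD hxD using fun i => residue_surjective (R := D) (fF i)
  choose u' hu' using fun i => Ideal.Quotient.mk_surjective (xD i : T ⧸ maximalIdeal T ^ n')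
  -- the first polynomial ring
  let φ' : MvPolynomial (Fin (Fintype.card κ')) k →ₐ[k] T := aeval u'
  let ψD' : MvPolynomial (Fin (Fintype.card κ')) k →ₐ[k] D := aeval xD
  have hcompat' : ∀ f, ((ψD' f : D) : T ⧸ maximalIdeal T ^ n') =
      Ideal.Quotient.mk (maximalIdeal T ^ n') (φ' f) := by
    intro f
    have : (D.val.comp ψD') = (Ideal.Quotient.mkₐ k (maximalIdeal T ^ n')).comp φ' := by
      apply MvPolynomial.algHom_ext
      intro i
      simp only [AlgHom.comp_apply, ψD', φ', aeval_X, Subalgebra.coe_val, Ideal.Quotient.mkₐ_eq_mk]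
      exact (hu' i).symm
    exact AlgHom.congr_fun this f
  let ev : MvPolynomial (Fin (Fintype.card κ')) k →ₐ[k] ResidueField D :=
    (IsScalarTower.toAlgHom k D (ResidueField D)).comp ψD'
  have hevX : ∀ i, ev (X i) = fF i := by
    intro i
    show residue D (aeval xD (X i)) = fF i
    rw [aeval_X, hxD]
  have hev0 : ∀ f, φ' f ∈ maximalIdeal T ↔ ev f = 0 := by
    intro f
    show _ ↔ residue D (ψD' f) = 0
    rw [residue_eq_zero_iff, hmaxD, hcompat', mk_mem_maximalIdeal_iff n' hn1]
  have hpd : ∀ f, φ' f ∈ maximalIdeal T → ∀ j, φ' (pderiv j f) ∈ maximalIdeal T := by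
    intro f hf j
    refine pderiv_mem_gen φ' (maximalIdeal T) ev hev0 ?_ f hf j
    have : (fun i => KaehlerDifferential.D k (ResidueField D) (ev (X i))) =
        fun i => KaehlerDifferential.D k (ResidueField D) (fF i) := funext (fun i => by rw [hevX])
    rw [this]
    exact hfli
  obtain ⟨d', g', hg'm, hg'ind, hg'gen⟩ := exists_indep_gens p hAdic φ' hpd
  -- completing to a regular system of parameters
  let S : Set T := {x | x ∈ maximalIdeal T ∧ Ideal.Quotient.mk (maximalIdeal T ^ n') x ∈ D}
  have hSm : S ⊆ maximalIdeal T := fun x hx => hx.1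
  have hSspan : maximalIdeal T ≤ Ideal.span S ⊔ maximalIdeal T ^ 2 := by
    have key : ∀ y ∈ (maximalIdeal D).map (algebraMap D (T ⧸ maximalIdeal T ^ n')),
        ∃ x' ∈ Ideal.span S, Ideal.Quotient.mk (maximalIdeal T ^ n') x' = y := by
      intro y hy
      induction hy using Submodule.span_induction with
      | mem y hy =>
        obtain ⟨δ, hδ, rfl⟩ := hy
        obtain ⟨x', hx'⟩ := Ideal.Quotient.mk_surjective (algebraMap D (T ⧸ maximalIdeal T ^ n') δ)
        refine ⟨x', Ideal.subset_span ⟨?_, ?_⟩, hx'⟩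
        · rw [← mk_mem_maximalIdeal_iff n' hn1, hx']
          exact (hmaxD δ).mp hδ
        · rw [hx']
          exact δ.2
      | zero => exact ⟨0, Ideal.zero_mem _, map_zero _⟩
      | add a b _ _ ha hb =>
        obtain ⟨xa, hxa, rfl⟩ := ha
        obtain ⟨xb, hxb, rfl⟩ := hb
        exact ⟨xa + xb, Ideal.add_mem _ hxa hxb, map_add _ _ _⟩
      | smul c a _ ha =>
        obtain ⟨xa, hxa, rfl⟩ := ha
        obtain ⟨c', rfl⟩ := Ideal.Quotient.mk_surjective c
        exact ⟨c' * xa, Ideal.mul_mem_left _ _ hxa, map_mul _ _ _⟩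
    intro x hx
    have h1 : Ideal.Quotient.mk (maximalIdeal T ^ n') x ∈
        (maximalIdeal D).map (algebraMap D (T ⧸ maximalIdeal T ^ n')) := by
      rw [hDmax, mk_mem_maximalIdeal_iff n' hn1]
      exact hx
    obtain ⟨x', hx'S, hx'⟩ := key _ h1
    have h2 : x - x' ∈ maximalIdeal T ^ n' := by
      rw [← Ideal.Quotient.eq_zero_iff_mem, map_sub, hx', sub_self]
    have h3 : x - x' ∈ maximalIdeal T ^ 2 := Ideal.pow_le_pow_right hn' h2
    have h4 : x = x' + (x - x') := by ring
    rw [h4]
    exact Submodule.add_mem_sup hx'S h3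
  obtain ⟨d'', v, hvS, hzzspan, hzzind, hcard⟩ :=
    exists_completion (fun i => φ' (g' i)) hg'm hg'ind S hSm hSspan
  -- the second polynomial ring
  let u : Fin (Fintype.card κ') ⊕ Fin d'' → T := Sum.elim u' v
  let ψ : MvPolynomial (Fin (Fintype.card κ') ⊕ Fin d'') k →ₐ[k] T := aeval u
  have hψrename : ∀ f, ψ (rename Sum.inl f) = φ' f := by
    intro f
    show aeval u (rename Sum.inl f) = aeval u' f
    rw [aeval_rename]
    rfl
  have hψX : ∀ l, ψ (X (Sum.inr l)) = v l := fun l => by
    show aeval u (X (Sum.inr l)) = v l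
    rw [aeval_X]
    rfl
  let gp : Fin d' ⊕ Fin d'' → MvPolynomial (Fin (Fintype.card κ') ⊕ Fin d'') k :=
    Sum.elim (fun i => rename Sum.inl (g' i)) (fun l => X (Sum.inr l))
  have hψgp : ∀ s, ψ (gp s) = Sum.elim (fun i => φ' (g' i)) v s := by
    rintro (i | l)
    · exact hψrename _
    · exact hψX l
  have hcard' : d = d' + d'' := by omega
  let eqv : Fin d ≃ Fin d' ⊕ Fin d'' := (finCongr hcard').trans finSumFinEquiv.symm
  let g : Fin d → MvPolynomial (Fin (Fintype.card κ') ⊕ Fin d'') k := fun i => gp (eqv i)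
  have hrange_g : Set.range g = Set.range gp := by
    show Set.range (gp ∘ eqv) = _
    rw [Set.range_comp, eqv.range_eq_univ, Set.image_univ]
  have hu : ∀ s, Ideal.Quotient.mk (maximalIdeal T ^ n') (u s) ∈ D := by
    rintro (i | l)
    · show Ideal.Quotient.mk (maximalIdeal T ^ n') (u' i) ∈ D
      rw [hu']
      exact (xD i).2
    · exact (hvS l).2
  have hvm : ∀ l, v l ∈ maximalIdeal T := fun l => (hvS l).1
  refine ⟨_, d'', u, g, D, hDloc, hED, hDflat, hDess, hDmax, hu, ?_, ?_, ?_, ?_⟩
  · -- differentials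
    have : (fun i : Fin (Fintype.card κ') => KaehlerDifferential.D k (ResidueField D)
        (residue D ⟨Ideal.Quotient.mk (maximalIdeal T ^ n') (u (Sum.inl i)), hu _⟩)) =
        fun i => KaehlerDifferential.D k (ResidueField D) (fF i) := by
      funext i
      congr 1
      rw [← hxD i]
      congr 1
      apply Subtype.ext
      show Ideal.Quotient.mk (maximalIdeal T ^ n') (u' i) = _
      exact hu' i
    rw [this]
    exact hfspan
  · intro i
    show ψ (gp (eqv i)) ∈ maximalIdeal T
    rw [hψgp]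
    rcases eqv i with j | l
    · exact hg'm j
    · exact hvm l
  · have h1 : (Set.range fun i => aeval u (g i)) =
        Set.range (Sum.elim (fun i => φ' (g' i)) v) := by
      have : (fun i => aeval u (g i)) = (Sum.elim (fun i => φ' (g' i)) v) ∘ eqv := by
        funext i
        exact hψgp (eqv i)
      rw [this, Set.range_comp, eqv.range_eq_univ, Set.image_univ]
    rw [h1]
    exact hzzspan
  · intro f hf
    let f₀ : MvPolynomial (Fin (Fintype.card κ')) k :=
      aeval (R := k) (Sum.elim X (fun _ => 0) : Fin (Fintype.card κ') ⊕ Fin d'' →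
        MvPolynomial (Fin (Fintype.card κ')) k) f
    have hdiff := sub_rename_mem (k := k) f
    have hVle : Ideal.span (Set.range fun l : Fin d'' =>
        (X (Sum.inr l) : MvPolynomial (Fin (Fintype.card κ') ⊕ Fin d'') k)) ≤
        (maximalIdeal T).comap ψ.toRingHom := by
      rw [Ideal.span_le]
      rintro _ ⟨l, rfl⟩
      show ψ (X (Sum.inr l)) ∈ maximalIdeal T
      rw [hψX]
      exact hvm l
    have h1 : ψ (f - rename Sum.inl f₀) ∈ maximalIdeal T := hVle hdiff
    have h2 : φ' f₀ ∈ maximalIdeal T := by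
      rw [← hψrename]
      have : rename Sum.inl f₀ = f - (f - rename Sum.inl f₀) := by ring
      rw [this, map_sub]
      exact Ideal.sub_mem _ hf h1
    obtain ⟨s₀, hs₀, hs₀f⟩ := hg'gen f₀ h2
    refine ⟨rename Sum.inl s₀, ?_, ?_⟩
    · show ψ (rename Sum.inl s₀) ∉ maximalIdeal T
      rw [hψrename]
      exact hs₀
    · have e1 : rename Sum.inl s₀ * f = rename Sum.inl s₀ * (f - rename Sum.inl f₀) +
          rename Sum.inl (s₀ * f₀) := by
        rw [map_mul]
        ring
      rw [e1, hrange_g]
      apply Ideal.add_mem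
      · apply Ideal.mul_mem_left
        refine Ideal.span_mono ?_ hdiff
        rintro _ ⟨l, rfl⟩
        exact ⟨Sum.inr l, rfl⟩
      · have h3 := Ideal.mem_map_of_mem (rename (R := k) (Sum.inl : Fin (Fintype.card κ') →
            Fin (Fintype.card κ') ⊕ Fin d'')).toRingHom hs₀f
        rw [Ideal.map_span] at h3
        refine Ideal.span_mono ?_ h3
        rintro _ ⟨_, ⟨i, rfl⟩, rfl⟩
        exact ⟨Sum.inl i, rfl⟩

end Groth.Agent.Lib.InsepLocH5
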