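import Mathlib
import Groth.Agent.Lib.InsepLoc3_helper5

/-!
# Inseparable residue fields, local part 4 (helper5): the local ring `Qp` of the polynomial ring,
its truncation `Qbar`, and ind-smoothness of `D` over `Qbar`.  APPEND-ONLY once landed.
-/

set_option autoImplicit false
set_option linter.style.haveILetI false
set_option maxHeartbeats 1600000
set_option maxSynthPendingDepth 3

universe u

open TensorProduct IsLocalRing MvPolynomial KaehlerDifferential Module
open Groth.Agent.Lib.CotFlatH3 Groth.Agent.Lib.GeomRegFlatH5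

namespace Groth.Agent.Lib.InsepLocH5

section Defs

variable {k T : Type u} [Field k] [CommRing T] [IsLocalRing T] [Algebra k T] {σ : Type}
  (u : σ → T)

/-- the contraction of the maximal ideal to the polynomial ring -/
noncomputable abbrev PP : Ideal (MvPolynomial σ k) :=
  Ideal.comap (aeval u : MvPolynomial σ k →ₐ[k] T) (maximalIdeal T)

/-- the local ring of the polynomial ring at the contracted prime -/
abbrev Qp : Type u := Localization.AtPrime (PP (k := k) u)

/-- its truncation -/
abbrev Qbar (n' : ℕ) : Type u := Qp (k := k) u ⧸ maximalIdeal (Qp (k := k) u) ^ n'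

end Defs

theorem indSmooth_D {k : Type u} [Field k] {T : Type u}
    [CommRing T] [IsRegularLocalRing T] [Algebra k T] (d : ℕ)
    (hd : finrank (ResidueField T) (CotangentSpace T) = d) (n' : ℕ) (hn' : 1 ≤ n')
    [IsLocalRing (T ⧸ maximalIdeal T ^ n')] {t d'' : ℕ} (u : Fin t ⊕ Fin d'' → T)
    (g : Fin d → MvPolynomial (Fin t ⊕ Fin d'') k)
    (D : Subalgebra k (T ⧸ maximalIdeal T ^ n')) [IsLocalRing D]
    (hDflat : Module.Flat D (T ⧸ maximalIdeal T ^ n')) (hDess : Algebra.EssFiniteType k D)
    (hDmax : (maximalIdeal D).map (algebraMap D (T ⧸ maximalIdeal T ^ n')) =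
      maximalIdeal (T ⧸ maximalIdeal T ^ n'))
    (hu : ∀ s, Ideal.Quotient.mk (maximalIdeal T ^ n') (u s) ∈ D)
    (hΩ : Submodule.span (ResidueField D) (Set.range fun i : Fin t =>
        KaehlerDifferential.D k (ResidueField D)
          (residue D ⟨Ideal.Quotient.mk (maximalIdeal T ^ n') (u (Sum.inl i)), hu _⟩)) = ⊤)
    (hgm : ∀ i, aeval u (g i) ∈ maximalIdeal T)
    (hgspan : Ideal.span (Set.range fun i => aeval u (g i)) = maximalIdeal T)
    (hgen : ∀ f, aeval u f ∈ maximalIdeal T →
        ∃ s, aeval u s ∉ maximalIdeal T ∧ s * f ∈ Ideal.span (Set.range g)) :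
    ∃ (hψD : ∀ f : MvPolynomial (Fin t ⊕ Fin d'') k,
        Ideal.Quotient.mk (maximalIdeal T ^ n') (aeval u f) ∈ D)
      (_ : Algebra (Qbar (k := k) u n') D),
      (∀ f : MvPolynomial (Fin t ⊕ Fin d'') k, algebraMap (Qbar (k := k) u n') D
        (Ideal.Quotient.mk _ (algebraMap _ (Qp (k := k) u) f)) =
          ⟨Ideal.Quotient.mk (maximalIdeal T ^ n') (aeval u f), hψD f⟩) ∧
      Smoothing.IndSmooth (Qbar (k := k) u n') D := by
  classical
  let ψ : MvPolynomial (Fin t ⊕ Fin d'') k →ₐ[k] T := aeval u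
  letI algPA : Algebra (MvPolynomial (Fin t ⊕ Fin d'') k) T := ψ.toRingHom.toAlgebra
  haveI twkPA : IsScalarTower k (MvPolynomial (Fin t ⊕ Fin d'') k) T :=
    IsScalarTower.of_algebraMap_eq (fun c => (ψ.commutes c).symm)
  have halgPA : ∀ f, algebraMap (MvPolynomial (Fin t ⊕ Fin d'') k) T f = ψ f := fun f => rfl
  have hmem𝔭 : ∀ f, f ∈ PP (k := k) u ↔ ψ f ∈ maximalIdeal T := fun f => Iff.rfl
  have hunits : ∀ y : (PP (k := k) u).primeCompl, IsUnit (ψ.toRingHom y) := fun y => by
    have h1 : ψ (y : MvPolynomial (Fin t ⊕ Fin d'') k) ∉ maximalIdeal T := y.2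
    rw [mem_maximalIdeal, mem_nonunits_iff, not_not] at h1
    exact h1
  let ψp : Qp (k := k) u →+* T := IsLocalization.lift hunits
  letI algA₀A : Algebra (Qp (k := k) u) T := ψp.toAlgebra
  haveI tw1 : IsScalarTower (MvPolynomial (Fin t ⊕ Fin d'') k) (Qp (k := k) u) T :=
    IsScalarTower.of_algebraMap_eq (fun x => (IsLocalization.lift_eq hunits x).symm)
  haveI tw2 : IsScalarTower k (Qp (k := k) u) T :=
    IsScalarTower.of_algebraMap_eq (fun c => by
      rw [IsScalarTower.algebraMap_apply k (MvPolynomial (Fin t ⊕ Fin d'') k) (Qp (k := k) u),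
        ← IsScalarTower.algebraMap_apply (MvPolynomial (Fin t ⊕ Fin d'') k) (Qp (k := k) u) T,
        ← IsScalarTower.algebraMap_apply k (MvPolynomial (Fin t ⊕ Fin d'') k) T])
  have hψp : ∀ f, algebraMap (Qp (k := k) u) T
      (algebraMap (MvPolynomial (Fin t ⊕ Fin d'') k) (Qp (k := k) u) f) = ψ f := fun f => by
    rw [← IsScalarTower.algebraMap_apply]
    rfl
  haveI hloc : IsLocalHom (algebraMap (Qp (k := k) u) T) := by
    constructor
    intro x hx
    obtain ⟨⟨g₁, s⟩, hgs⟩ := IsLocalization.surj (PP (k := k) u).primeCompl x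
    have h1 : algebraMap (Qp (k := k) u) T x * ψ (s : MvPolynomial (Fin t ⊕ Fin d'') k) = ψ g₁ := by
      have := congrArg (algebraMap (Qp (k := k) u) T) hgs
      rw [map_mul, ← IsScalarTower.algebraMap_apply, ← IsScalarTower.algebraMap_apply] at this
      exact this
    have h2 : IsUnit (ψ g₁) := by
      rw [← h1]
      exact hx.mul (hunits s)
    have h3 : g₁ ∉ PP (k := k) u := by
      intro hg
      exact ((hmem𝔭 g₁).mp hg) h2
    have h4 : IsUnit (algebraMap (MvPolynomial (Fin t ⊕ Fin d'') k) (Qp (k := k) u) g₁) :=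
      IsLocalization.map_units (Qp (k := k) u) (⟨g₁, h3⟩ : (PP (k := k) u).primeCompl)
    simp only at hgs
    rw [← hgs] at h4
    exact isUnit_of_mul_isUnit_left h4
  haveI : Algebra.FormallySmooth (MvPolynomial (Fin t ⊕ Fin d'') k) (Qp (k := k) u) :=
    Algebra.FormallySmooth.of_isLocalization (PP (k := k) u).primeCompl
  haveI hregA₀ : IsRegularLocalRing (Qp (k := k) u) := inferInstance
  -- generators of the maximal ideal of `Qp`
  have hgmP : ∀ i, algebraMap (MvPolynomial (Fin t ⊕ Fin d'') k) (Qp (k := k) u) (g i) ∈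
      maximalIdeal (Qp (k := k) u) := fun i =>
    (IsLocalization.AtPrime.to_map_mem_maximal_iff (Qp (k := k) u) (PP (k := k) u) (g i)).mpr
      (hgm i)
  have hspanQ : Ideal.span (Set.range fun i =>
      algebraMap (MvPolynomial (Fin t ⊕ Fin d'') k) (Qp (k := k) u) (g i)) =
      maximalIdeal (Qp (k := k) u) := by
    apply le_antisymm
    · rw [Ideal.span_le]
      rintro _ ⟨i, rfl⟩
      exact hgmP i
    · rw [← IsLocalization.AtPrime.map_eq_maximalIdeal (PP (k := k) u) (Qp (k := k) u),
        Ideal.map_le_iff_le_comap]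
      intro f hf
      obtain ⟨s, hs, hsf⟩ := hgen f hf
      rw [Ideal.mem_comap]
      have h1 : algebraMap (MvPolynomial (Fin t ⊕ Fin d'') k) (Qp (k := k) u) (s * f) ∈
          Ideal.span (Set.range fun i =>
            algebraMap (MvPolynomial (Fin t ⊕ Fin d'') k) (Qp (k := k) u) (g i)) := by
        have := Ideal.mem_map_of_mem
          (algebraMap (MvPolynomial (Fin t ⊕ Fin d'') k) (Qp (k := k) u)) hsf
        rw [Ideal.map_span, ← Set.range_comp] at this
        exact this
      rw [map_mul] at h1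
      have hsu : IsUnit (algebraMap (MvPolynomial (Fin t ⊕ Fin d'') k) (Qp (k := k) u) s) :=
        IsLocalization.map_units (Qp (k := k) u) (⟨s, hs⟩ : (PP (k := k) u).primeCompl)
      exact (Ideal.unit_mul_mem_iff_mem _ hsu).mp h1
  have hmap : (maximalIdeal (Qp (k := k) u)).map (algebraMap (Qp (k := k) u) T) =
      maximalIdeal T := by
    rw [← hspanQ, Ideal.map_span, ← Set.range_comp, ← hgspan]
    congr 2
    funext i
    exact hψp (g i)
  -- independence
  have hcardd : Fintype.card (Fin d) = finrank (ResidueField T) (CotangentSpace T) := by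
    rw [Fintype.card_fin, hd]
  have hindT : Indep (fun i => ψ (g i)) :=
    indep_of_span_of_card (fun i => ψ (g i)) hgm hgspan hcardd
  have hindP : Indep (fun i =>
      algebraMap (MvPolynomial (Fin t ⊕ Fin d'') k) (Qp (k := k) u) (g i)) := by
    intro c hc i
    have h1 : algebraMap (Qp (k := k) u) T (∑ i, c i *
        algebraMap (MvPolynomial (Fin t ⊕ Fin d'') k) (Qp (k := k) u) (g i)) ∈
        maximalIdeal T ^ 2 := by
      have := Ideal.mem_map_of_mem (algebraMap (Qp (k := k) u) T) hc
      rwa [Ideal.map_pow, hmap] at this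
    rw [map_sum] at h1
    simp only [map_mul, hψp] at h1
    have h2 := hindT (fun i => algebraMap (Qp (k := k) u) T (c i)) h1 i
    by_contra hci
    have h3 : IsUnit (c i) := by
      rw [mem_maximalIdeal, mem_nonunits_iff, not_not] at hci
      exact hci
    exact ((mem_maximalIdeal _).mp h2) (h3.map _)
  have hd' : d = finrank (ResidueField (Qp (k := k) u)) (CotangentSpace (Qp (k := k) u)) := by
    rw [finrank_eq_card_of_good _ hgmP hspanQ hindP, Fintype.card_fin]
  have hindT' : Indep (fun i => algebraMap (Qp (k := k) u) T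
      (algebraMap (MvPolynomial (Fin t ⊕ Fin d'') k) (Qp (k := k) u) (g i))) := by
    convert hindT using 2 with i
    exact hψp (g i)
  obtain ⟨hflat, -⟩ := flat_and_regular_of_indep
    (fun i => algebraMap (MvPolynomial (Fin t ⊕ Fin d'') k) (Qp (k := k) u) (g i)) hspanQ hd' hindT'
  haveI := hflat
  -- elements of `Qp` land in `D`
  haveI hlocD : IsLocalHom (algebraMap D (T ⧸ maximalIdeal T ^ n')) :=
    isLocalHom_of_map_eq D hDmax
  let ψD : MvPolynomial (Fin t ⊕ Fin d'') k →ₐ[k] D :=
    aeval (fun s => (⟨Ideal.Quotient.mk (maximalIdeal T ^ n') (u s), hu s⟩ : D))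
  have hψDval : ∀ f, ((ψD f : D) : T ⧸ maximalIdeal T ^ n') =
      Ideal.Quotient.mk (maximalIdeal T ^ n') (ψ f) := by
    intro f
    have : (D.val.comp ψD) = (Ideal.Quotient.mkₐ k (maximalIdeal T ^ n')).comp ψ := by
      apply MvPolynomial.algHom_ext
      intro i
      simp only [AlgHom.comp_apply, ψD, ψ, aeval_X, Subalgebra.coe_val, Ideal.Quotient.mkₐ_eq_mk]
    exact AlgHom.congr_fun this f
  have hψD : ∀ f : MvPolynomial (Fin t ⊕ Fin d'') k,
      Ideal.Quotient.mk (maximalIdeal T ^ n') (aeval u f) ∈ D := by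
    intro f
    have := (ψD f).2
    rw [hψDval] at this
    exact this
  have hPD : ∀ y : Qp (k := k) u,
      Ideal.Quotient.mk (maximalIdeal T ^ n') (algebraMap (Qp (k := k) u) T y) ∈ D := by
    intro y
    obtain ⟨⟨a, s⟩, hys⟩ := IsLocalization.surj (PP (k := k) u).primeCompl y
    simp only at hys
    have h1 : Ideal.Quotient.mk (maximalIdeal T ^ n') (algebraMap (Qp (k := k) u) T y) *
        Ideal.Quotient.mk (maximalIdeal T ^ n') (ψ (s : MvPolynomial (Fin t ⊕ Fin d'') k)) =
        Ideal.Quotient.mk (maximalIdeal T ^ n') (ψ a) := by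
      rw [← map_mul, ← hψp, ← hψp a, ← map_mul, hys]
    have h2 : IsUnit (ψD (s : MvPolynomial (Fin t ⊕ Fin d'') k)) := by
      apply hlocD.map_nonunit
      show IsUnit ((ψD (s : MvPolynomial (Fin t ⊕ Fin d'') k) : D) : T ⧸ maximalIdeal T ^ n')
      rw [hψDval]
      exact (hunits s).map (Ideal.Quotient.mk (maximalIdeal T ^ n'))
    obtain ⟨dinv, hdinv⟩ := h2.exists_right_inv
    have h3 : Ideal.Quotient.mk (maximalIdeal T ^ n') (algebraMap (Qp (k := k) u) T y) =
        ((ψD a * dinv : D) : T ⧸ maximalIdeal T ^ n') := by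
      have e1 : ((ψD (s : MvPolynomial (Fin t ⊕ Fin d'') k) * dinv : D) :
          T ⧸ maximalIdeal T ^ n') = 1 := by rw [hdinv]; rfl
      rw [Subalgebra.coe_mul, hψDval] at e1
      rw [Subalgebra.coe_mul, hψDval, ← h1, mul_assoc, e1, mul_one]
    rw [h3]
    exact (ψD a * dinv).2
  -- the differentials
  have hΩ' : Submodule.span (ResidueField D) (Set.range fun i : Fin t =>
      KaehlerDifferential.D k (ResidueField D)
        (residue D ⟨Ideal.Quotient.mk (maximalIdeal T ^ n') (algebraMap (Qp (k := k) u) T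
          (algebraMap (MvPolynomial (Fin t ⊕ Fin d'') k) (Qp (k := k) u) (X (Sum.inl i)))),
            hPD _⟩)) = ⊤ := by
    have : (fun i : Fin t => KaehlerDifferential.D k (ResidueField D)
        (residue D ⟨Ideal.Quotient.mk (maximalIdeal T ^ n') (algebraMap (Qp (k := k) u) T
          (algebraMap (MvPolynomial (Fin t ⊕ Fin d'') k) (Qp (k := k) u) (X (Sum.inl i)))),
            hPD _⟩)) = fun i : Fin t => KaehlerDifferential.D k (ResidueField D)
          (residue D ⟨Ideal.Quotient.mk (maximalIdeal T ^ n') (u (Sum.inl i)), hu _⟩) := by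
      funext i
      congr 2
      apply Subtype.ext
      show Ideal.Quotient.mk (maximalIdeal T ^ n') _ = Ideal.Quotient.mk (maximalIdeal T ^ n') _
      rw [hψp]
      show Ideal.Quotient.mk (maximalIdeal T ^ n') (aeval u (X (Sum.inl i))) = _
      rw [aeval_X]
    rw [this]
    exact hΩ
  obtain ⟨algPD, halgD, hIS⟩ := indSmooth_sub (k := k) (P := Qp (k := k) u) (T := T) hmap n' hn' D
    hDflat hDess hDmax hPD
    (fun i : Fin t => algebraMap (MvPolynomial (Fin t ⊕ Fin d'') k) (Qp (k := k) u) (X (Sum.inl i)))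
    hΩ'
  refine ⟨hψD, algPD, fun f => ?_, hIS⟩
  rw [halgD]
  apply Subtype.ext
  show Ideal.Quotient.mk (maximalIdeal T ^ n') _ = Ideal.Quotient.mk (maximalIdeal T ^ n') _
  rw [hψp]

end Groth.Agent.Lib.InsepLocH5
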