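import Mathlib
import Groth.Agent.Lib.InsepGlob4_helper5
import Groth.Agent.Lib.InsepLoc4_helper5

set_option autoImplicit false
set_option linter.style.haveILetI false
set_option maxHeartbeats 1600000
set_option maxSynthPendingDepth 3

universe u

open IsLocalRing Module MvPolynomial
open Groth.Agent.Lib.CotFlatH3 Groth.Agent.Lib.GeomRegFlatH5 Groth.Agent.Lib.InsepLocH5

namespace Groth.Agent.Lib.InsepGlobH5

/-- facts about the local ring `Qp` of the polynomial ring -/
theorem Qp_facts {k : Type u} [Field k] {T : Type u}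
    [CommRing T] [IsRegularLocalRing T] [Algebra k T] (d : ℕ)
    (hd : finrank (ResidueField T) (CotangentSpace T) = d) {σ : Type} [Finite σ] (u : σ → T)
    (g : Fin d → MvPolynomial σ k)
    (hgm : ∀ i, aeval u (g i) ∈ maximalIdeal T)
    (hgspan : Ideal.span (Set.range fun i => aeval u (g i)) = maximalIdeal T)
    (hgen : ∀ f, aeval u f ∈ maximalIdeal T →
        ∃ s, aeval u s ∉ maximalIdeal T ∧ s * f ∈ Ideal.span (Set.range g)) :
    IsRegularLocalRing (Qp (k := k) u) ∧
    Ideal.span (Set.range fun i =>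
      algebraMap (MvPolynomial σ k) (Qp (k := k) u) (g i)) = maximalIdeal (Qp (k := k) u) ∧
    Indep (fun i => aeval (R := k) u (g i)) ∧
    d = finrank (ResidueField (Qp (k := k) u)) (CotangentSpace (Qp (k := k) u)) := by
  classical
  haveI : Algebra.FormallySmooth (MvPolynomial σ k) (Qp (k := k) u) :=
    Algebra.FormallySmooth.of_isLocalization (PP (k := k) u).primeCompl
  haveI hregA₀ : IsRegularLocalRing (Qp (k := k) u) := inferInstance
  have hgmP : ∀ i, algebraMap (MvPolynomial σ k) (Qp (k := k) u) (g i) ∈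
      maximalIdeal (Qp (k := k) u) := fun i =>
    (IsLocalization.AtPrime.to_map_mem_maximal_iff (Qp (k := k) u) (PP (k := k) u) (g i)).mpr
      (hgm i)
  have hspanQ : Ideal.span (Set.range fun i =>
      algebraMap (MvPolynomial σ k) (Qp (k := k) u) (g i)) =
      maximalIdeal (Qp (k := k) u) := by
    apply le_antisymm
    · rw [Ideal.span_le]
      rintro _ ⟨i, rfl⟩
      exact hgmP i
    · rw [← IsLocalization.AtPrime.map_eq_maximalIdeal (PP (k := k) u) (Qp (k := k) u),
        Ideal.map_le_iff_le_comap]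
      intro f hf
      obtain ⟨s, hs, hsf⟩ := hgen f hf
      rw [Ideal.mem_comap]
      have h1 : algebraMap (MvPolynomial σ k) (Qp (k := k) u) (s * f) ∈
          Ideal.span (Set.range fun i =>
            algebraMap (MvPolynomial σ k) (Qp (k := k) u) (g i)) := by
        have := Ideal.mem_map_of_mem
          (algebraMap (MvPolynomial σ k) (Qp (k := k) u)) hsf
        rw [Ideal.map_span, ← Set.range_comp] at this
        exact this
      rw [map_mul] at h1
      have hsu : IsUnit (algebraMap (MvPolynomial σ k) (Qp (k := k) u) s) :=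
        IsLocalization.map_units (Qp (k := k) u) (⟨s, hs⟩ : (PP (k := k) u).primeCompl)
      exact (Ideal.unit_mul_mem_iff_mem _ hsu).mp h1
  have hcardd : Fintype.card (Fin d) = finrank (ResidueField T) (CotangentSpace T) := by
    rw [Fintype.card_fin, hd]
  have hindT : Indep (fun i => aeval (R := k) u (g i)) :=
    indep_of_span_of_card (fun i => aeval (R := k) u (g i)) hgm hgspan hcardd
  -- the local homomorphism `Qp → T`
  have hunits : ∀ y : (PP (k := k) u).primeCompl,
      IsUnit ((aeval u : MvPolynomial σ k →ₐ[k] T).toRingHom y) := fun y => by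
    have h1 : aeval (R := k) u (y : MvPolynomial σ k) ∉ maximalIdeal T := y.2
    rw [mem_maximalIdeal, mem_nonunits_iff, not_not] at h1
    exact h1
  let ψp : Qp (k := k) u →+* T := IsLocalization.lift hunits
  have hψp : ∀ f, ψp (algebraMap (MvPolynomial σ k) (Qp (k := k) u) f) = aeval u f :=
    fun f => IsLocalization.lift_eq hunits f
  haveI hloc : IsLocalHom ψp := by
    constructor
    intro x hx
    obtain ⟨⟨g₁, s⟩, hgs⟩ := IsLocalization.surj (PP (k := k) u).primeCompl x
    simp only at hgs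
    have h1 : ψp x * aeval u (s : MvPolynomial σ k) = aeval u g₁ := by
      have := congrArg ψp hgs
      rw [map_mul, hψp, hψp] at this
      exact this
    have h2 : IsUnit (aeval (R := k) u g₁) := by
      rw [← h1]
      exact hx.mul (hunits s)
    have h3 : g₁ ∉ PP (k := k) u := by
      intro hg
      have hg' : aeval (R := k) u g₁ ∈ maximalIdeal T := hg
      exact ((mem_maximalIdeal _).mp hg') h2
    have h4 : IsUnit (algebraMap (MvPolynomial σ k) (Qp (k := k) u) g₁) :=
      IsLocalization.map_units (Qp (k := k) u) (⟨g₁, h3⟩ : (PP (k := k) u).primeCompl)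
    rw [← hgs] at h4
    exact isUnit_of_mul_isUnit_left h4
  have hindP : Indep (fun i => algebraMap (MvPolynomial σ k) (Qp (k := k) u) (g i)) := by
    apply indep_of_isLocalHom ψp
    convert hindT using 2 with i
    exact hψp (g i)
  have hd' : d = finrank (ResidueField (Qp (k := k) u)) (CotangentSpace (Qp (k := k) u)) := by
    rw [finrank_eq_card_of_good _ hgmP hspanQ hindP, Fintype.card_fin]
  exact ⟨hregA₀, hspanQ, hindT, hd'⟩


/-- the `R₁`-side data -/
theorem GYconc {k Λ : Type u} [Field k] [CommRing Λ] [Algebra k Λ] (𝔮 : Ideal Λ) [𝔮.IsPrime]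
    [IsRegularLocalRing (Localization.AtPrime 𝔮)] (d : ℕ)
    (hd : finrank (ResidueField (Localization.AtPrime 𝔮))
      (CotangentSpace (Localization.AtPrime 𝔮)) = d)
    {σ : Type} [Finite σ] (u : σ → Localization.AtPrime 𝔮) (g : Fin d → MvPolynomial σ k)
    (hgm : ∀ i, aeval u (g i) ∈ maximalIdeal (Localization.AtPrime 𝔮))
    (hgspan : Ideal.span (Set.range fun i => aeval u (g i)) =
      maximalIdeal (Localization.AtPrime 𝔮))
    (hgen : ∀ f, aeval u f ∈ maximalIdeal (Localization.AtPrime 𝔮) →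
        ∃ s, aeval u s ∉ maximalIdeal (Localization.AtPrime 𝔮) ∧ s * f ∈ Ideal.span (Set.range g))
    (e : ℕ) (he : 1 ≤ e) :
    ∃ (ϕ₁ : MvPolynomial (σ ⊕ σ) k →ₐ[k] Λ) (πh sh : Fin d → MvPolynomial (σ ⊕ σ) k),
      (∀ s, ϕ₁ (X (Sum.inr s)) ∉ 𝔮) ∧
      (∀ s, u s * algebraMap Λ (Localization.AtPrime 𝔮) (ϕ₁ (X (Sum.inr s))) =
        algebraMap Λ (Localization.AtPrime 𝔮) (ϕ₁ (X (Sum.inl s)))) ∧
      (∀ i, ϕ₁ (sh i) ∉ 𝔮) ∧
      (∀ (i : Fin d) (S : Finset (Fin d)), (∀ j ∈ S, (j : ℕ) < (i : ℕ)) → ∀ y,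
        πh i ^ 2 * y ∈ JS e πh S → πh i * y ∈ JS e πh S) ∧
      ∀ (E' : Type u) [CommRing E'] (f₁ : MvPolynomial (σ ⊕ σ) k →+* E')
        (fQ : MvPolynomial σ k →+* E'),
        (∀ c, fQ (C c) = f₁ (C c)) →
        (∀ s, fQ (X s) * f₁ (X (Sum.inr s)) = f₁ (X (Sum.inl s))) →
        (∀ r, ϕ₁ r ∉ 𝔮 → IsUnit (f₁ r)) →
        (∀ i, fQ (g i) * f₁ (sh i) = f₁ (πh i)) ∧
          (∀ s, aeval u s ∉ maximalIdeal (Localization.AtPrime 𝔮) → IsUnit (fQ s)) := by
  classical
  haveI : Fintype σ := Fintype.ofFinite σ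
  obtain ⟨hregQ, hspanQ, hindT, hd'⟩ := Qp_facts (k := k) d hd u g hgm hgspan hgen
  haveI := hregQ
  choose yw hyw using fun s => IsLocalization.surj 𝔮.primeCompl (u s)
  obtain ⟨ϕ₁, hϕY, hϕW⟩ : ∃ ϕ₁ : MvPolynomial (σ ⊕ σ) k →ₐ[k] Λ,
      (∀ s, ϕ₁ (X (Sum.inl s)) = (yw s).1) ∧ (∀ s, ϕ₁ (X (Sum.inr s)) = ((yw s).2 : Λ)) := by
    refine ⟨aeval (Sum.elim (fun s => (yw s).1) (fun s => ((yw s).2 : Λ))), fun s => ?_, fun s => ?_⟩
    · rw [aeval_X]
      rfl
    · rw [aeval_X]
      rfl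
  obtain ⟨P₁, hP₁⟩ : ∃ P₁ : Ideal (MvPolynomial (σ ⊕ σ) k), P₁ = 𝔮.comap ϕ₁.toRingHom := ⟨_, rfl⟩
  haveI hP₁prime : P₁.IsPrime := by
    rw [hP₁]
    exact Ideal.comap_isPrime _ _
  have hmemP : ∀ r, r ∈ P₁ ↔ ϕ₁ r ∈ 𝔮 := fun r => by
    rw [hP₁]
    rfl
  haveI : Algebra.FormallySmooth (MvPolynomial (σ ⊕ σ) k) (Localization.AtPrime P₁) :=
    Algebra.FormallySmooth.of_isLocalization P₁.primeCompl
  haveI hregR' : IsRegularLocalRing (Localization.AtPrime P₁) := inferInstance
  obtain ⟨τ, hτloc, hτ⟩ : ∃ τ : Localization.AtPrime P₁ →+* Localization.AtPrime 𝔮,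
      IsLocalHom τ ∧ ∀ r, τ (algebraMap _ _ r) = algebraMap Λ (Localization.AtPrime 𝔮) (ϕ₁ r) :=
    ⟨Localization.localRingHom P₁ 𝔮 ϕ₁.toRingHom hP₁,
      Localization.isLocalHom_localRingHom P₁ 𝔮 ϕ₁.toRingHom hP₁,
      fun r => Localization.localRingHom_to_map P₁ 𝔮 ϕ₁.toRingHom hP₁ r⟩
  haveI := hτloc
  have hW : ∀ s, (X (Sum.inr s) : MvPolynomial (σ ⊕ σ) k) ∉ P₁ := fun s => by
    rw [hmemP, hϕW]
    exact (yw s).2.2
  obtain ⟨χ, hχX⟩ : ∃ χ : MvPolynomial σ k →ₐ[k] Localization.AtPrime P₁,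
      ∀ s, χ (X s) * algebraMap _ (Localization.AtPrime P₁)
        (X (Sum.inr s) : MvPolynomial (σ ⊕ σ) k) =
        algebraMap _ (Localization.AtPrime P₁) (X (Sum.inl s) : MvPolynomial (σ ⊕ σ) k) := by
    refine ⟨aeval (fun s => IsLocalization.mk' (Localization.AtPrime P₁)
      (X (Sum.inl s) : MvPolynomial (σ ⊕ σ) k) (⟨X (Sum.inr s), hW s⟩ : P₁.primeCompl)),
      fun s => ?_⟩
    rw [aeval_X]
    exact IsLocalization.mk'_spec _ _ (⟨X (Sum.inr s), hW s⟩ : P₁.primeCompl)
  have hχC : ∀ c, χ (C c) = algebraMap _ (Localization.AtPrime P₁)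
      (C c : MvPolynomial (σ ⊕ σ) k) := by
    intro c
    have e1 : χ (C c) = algebraMap k (Localization.AtPrime P₁) c := χ.commutes c
    rw [e1]
    exact IsScalarTower.algebraMap_apply k (MvPolynomial (σ ⊕ σ) k) (Localization.AtPrime P₁) c
  have hτχ : ∀ f, τ (χ f) = aeval u f := by
    have : τ.comp χ.toRingHom = (aeval u : MvPolynomial σ k →ₐ[k] Localization.AtPrime 𝔮).toRingHom := by
      apply MvPolynomial.ringHom_ext
      · intro c
        show τ (χ (C c)) = aeval u (C c)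
        have e1 : ϕ₁ (C c) = algebraMap k Λ c := ϕ₁.commutes c
        have e2 : aeval u (C c) = algebraMap k (Localization.AtPrime 𝔮) c :=
          (aeval u : MvPolynomial σ k →ₐ[k] Localization.AtPrime 𝔮).commutes c
        rw [hχC, hτ, e1, e2, ← IsScalarTower.algebraMap_apply]
      · intro s
        show τ (χ (X s)) = aeval u (X s)
        rw [aeval_X]
        have hu : IsUnit (algebraMap Λ (Localization.AtPrime 𝔮) ((yw s).2 : Λ)) :=
          IsLocalization.map_units _ (yw s).2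
        apply hu.mul_right_cancel
        rw [hyw s, ← hϕW, ← hτ, ← map_mul, hχX, hτ, hϕY]
    exact fun f => RingHom.congr_fun this f
  have hPQ : ∀ f, f ∈ PP (k := k) u ↔ τ (χ.toRingHom f) ∈ maximalIdeal (Localization.AtPrime 𝔮) := by
    intro f
    show _ ↔ τ (χ f) ∈ _
    rw [hτχ]
    rfl
  have hindT' : Indep (fun i => τ (χ.toRingHom (g i))) := by
    convert hindT using 2 with i
    exact hτχ (g i)
  obtain ⟨πh, sh, hsh, hrel, hann⟩ := GYgen (Q₀ := Qp (k := k) u) (PP (k := k) u) P₁ χ.toRingHom τ hPQ g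
    hspanQ hd' hindT' e he
  refine ⟨ϕ₁, πh, sh, ?_, ?_, ?_, hann, ?_⟩
  · intro s
    rw [hϕW]
    exact (yw s).2.2
  · intro s
    rw [hϕW, hϕY]
    exact hyw s
  · intro i hi
    exact hsh i ((hmemP _).mpr hi)
  · intro E' _ f₁ fQ hC hX hun
    have hunits : ∀ y : P₁.primeCompl, IsUnit (f₁ y) := fun y =>
      hun _ (fun h => y.2 ((hmemP _).mpr h))
    obtain ⟨f', hf'⟩ : ∃ f' : Localization.AtPrime P₁ →+* E', ∀ r, f' (algebraMap _ _ r) = f₁ r :=
      ⟨IsLocalization.lift hunits, fun r => IsLocalization.lift_eq hunits r⟩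
    have hcomp : ∀ f, f' (χ f) = fQ f := by
      have : f'.comp χ.toRingHom = fQ := by
        apply MvPolynomial.ringHom_ext
        · intro c
          show f' (χ (C c)) = fQ (C c)
          rw [hχC, hf', hC]
        · intro s
          show f' (χ (X s)) = fQ (X s)
          have hu : IsUnit (f₁ (X (Sum.inr s))) := hunits ⟨_, hW s⟩
          apply hu.mul_right_cancel
          rw [hX, ← hf' (X (Sum.inr s)), ← map_mul, hχX, hf']
      exact fun f => RingHom.congr_fun this f
    constructor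
    · intro i
      have := congrArg f' (hrel i)
      rw [map_mul, hf', hf'] at this
      rw [← hcomp]
      exact this
    · intro s hs
      rw [← hcomp]
      apply IsUnit.map
      apply isUnit_of_map_unit τ
      rw [hτχ]
      rw [mem_maximalIdeal, mem_nonunits_iff, not_not] at hs
      exact hs

end Groth.Agent.Lib.InsepGlobH5
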