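import Mathlib
import Groth.Prelude.Def_Smoothing
import Groth.Agent.Lib.NeronAlg_helper4

/-!
# Inseparable residue fields, local part 5 (helper5): from ind-smoothness of `D` over `Qb` to a
smooth `Qb`-algebra receiving `A` and the coefficients of the relations `g_i^n = Σ ζ_ij a_j`.
APPEND-ONLY once landed.
-/

set_option autoImplicit false
set_option linter.style.haveILetI false
set_option maxHeartbeats 1600000
set_option maxSynthPendingDepth 3

universe u

open TensorProduct MvPolynomial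

namespace Groth.Agent.Lib.InsepLocH5

theorem smooth_factor_of_indSmooth {k Qb Dd Tb A : Type u} [Field k] [CommRing Qb] [Algebra k Qb]
    [CommRing Dd] [Algebra k Dd] [Algebra Qb Dd] [IsScalarTower k Qb Dd] [CommRing Tb]
    [Algebra Dd Tb] [Module.FaithfullyFlat Dd Tb] (hIS : Smoothing.IndSmooth Qb Dd)
    [CommRing A] [Algebra k A] [Algebra.FinitePresentation k A] (φD : A →ₐ[k] Dd) {d r : ℕ}
    (a : Fin r → A) (n : ℕ) (gq : Fin d → Qb)
    (hrel : ∀ i, algebraMap Dd Tb (algebraMap Qb Dd (gq i)) ^ n ∈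
      Ideal.span (Set.range fun j => algebraMap Dd Tb (φD (a j)))) :
    ∃ (S₀ : Type u) (_ : CommRing S₀) (_ : Algebra Qb S₀), Algebra.Smooth Qb S₀ ∧
      ∃ (h₀' : S₀ →ₐ[Qb] Dd) (α₀ : A →+* S₀) (ζ : Fin d → Fin r → S₀),
        (∀ c : k, α₀ (algebraMap k A c) = algebraMap Qb S₀ (algebraMap k Qb c)) ∧
        (∀ x, h₀' (α₀ x) = φD x) ∧
        ∀ i, algebraMap Qb S₀ (gq i) ^ n = ∑ j, ζ i j * α₀ (a j) := by
  classical
  letI algXQ : Algebra (MvPolynomial (Fin d) k) Qb :=
    (aeval gq : MvPolynomial (Fin d) k →ₐ[k] Qb).toRingHom.toAlgebra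
  haveI twXQ : IsScalarTower k (MvPolynomial (Fin d) k) Qb :=
    IsScalarTower.of_algebraMap_eq (fun c =>
      ((aeval gq : MvPolynomial (Fin d) k →ₐ[k] Qb).commutes c).symm)
  have halgXQ : ∀ i, algebraMap (MvPolynomial (Fin d) k) Qb (X i) = gq i :=
    fun i => aeval_X _ i
  letI algXD : Algebra (MvPolynomial (Fin d) k) Dd :=
    ((algebraMap Qb Dd).comp (algebraMap (MvPolynomial (Fin d) k) Qb)).toAlgebra
  haveI twXQD : IsScalarTower (MvPolynomial (Fin d) k) Qb Dd :=
    IsScalarTower.of_algebraMap_eq (fun _ => rfl)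
  haveI twkXD : IsScalarTower k (MvPolynomial (Fin d) k) Dd :=
    IsScalarTower.of_algebraMap_eq (fun c => by
      rw [IsScalarTower.algebraMap_apply (MvPolynomial (Fin d) k) Qb Dd,
        ← IsScalarTower.algebraMap_apply k (MvPolynomial (Fin d) k) Qb,
        ← IsScalarTower.algebraMap_apply k Qb Dd])
  have hlam : ∀ i, ∃ lam : Fin r → Dd,
      ∑ j, lam j * φD (a j) = algebraMap (MvPolynomial (Fin d) k) Dd (X i) ^ n := by
    intro i
    apply Ideal.mem_span_range_iff_exists_fun.mp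
    rw [← Ideal.comap_map_eq_self_of_faithfullyFlat (B := Tb)
      (Ideal.span (Set.range fun j => φD (a j))), Ideal.mem_comap, Ideal.map_span,
      ← Set.range_comp, map_pow,
      IsScalarTower.algebraMap_apply (MvPolynomial (Fin d) k) Qb Dd, halgXQ]
    exact hrel i
  choose lam hlam' using hlam
  obtain ⟨β, hβ⟩ := NeronAlgH4.exists_algHom d n r a φD lam (fun i => (hlam' i).symm)
  let f : Qb ⊗[MvPolynomial (Fin d) k] (NeronAlgH4.BB d n r a) →ₐ[Qb] Dd :=
    Algebra.TensorProduct.lift (Algebra.ofId Qb Dd) β (fun _ _ => Commute.all _ _)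
  obtain ⟨S₀, iS1, iS2, hsm, g₀, h₀', hgh⟩ := hIS _ inferInstance f
  let ν : NeronAlgH4.BB d n r a →+* S₀ := g₀.toRingHom.comp
    (Algebra.TensorProduct.includeRight : NeronAlgH4.BB d n r a →ₐ[MvPolynomial (Fin d) k]
      Qb ⊗[MvPolynomial (Fin d) k] (NeronAlgH4.BB d n r a)).toRingHom
  have hν : ∀ b, ν b = g₀ ((1 : Qb) ⊗ₜ[MvPolynomial (Fin d) k] b) := fun _ => rfl
  have hνalg : ∀ q : MvPolynomial (Fin d) k,
      ν (algebraMap (MvPolynomial (Fin d) k) (NeronAlgH4.BB d n r a) q) =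
        algebraMap Qb S₀ (algebraMap (MvPolynomial (Fin d) k) Qb q) := by
    intro q
    rw [hν, ← AlgHom.commutes g₀]
    congr 1
    rw [Algebra.TensorProduct.algebraMap_apply, Algebra.algebraMap_eq_smul_one,
      Algebra.algebraMap_eq_smul_one (A := Qb), TensorProduct.tmul_smul,
      TensorProduct.smul_tmul']
    rfl
  have hh₀' : ∀ z, h₀' (g₀ z) = f z := fun z => AlgHom.congr_fun hgh z
  refine ⟨S₀, iS1, iS2, hsm, h₀', ν.comp (NeronAlgH4.α (k := k) d n r a).toRingHom,
    fun i j => ν (Ideal.Quotient.mk _ (X (Sum.inr (i, j)))), ?_, ?_, ?_⟩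
  · intro c
    show ν (NeronAlgH4.α (k := k) d n r a (algebraMap k A c)) = _
    rw [AlgHom.commutes, IsScalarTower.algebraMap_apply k (MvPolynomial (Fin d) k)
      (NeronAlgH4.BB d n r a), hνalg,
      ← IsScalarTower.algebraMap_apply k (MvPolynomial (Fin d) k) Qb]
  · intro x
    show h₀' (ν (NeronAlgH4.α (k := k) d n r a x)) = _
    rw [hν, hh₀']
    show Algebra.TensorProduct.lift (Algebra.ofId Qb Dd) β
        (fun _ _ => Commute.all _ _) ((1 : Qb) ⊗ₜ[MvPolynomial (Fin d) k]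
          (NeronAlgH4.α (k := k) d n r a x)) = _
    rw [Algebra.TensorProduct.lift_tmul, map_one, one_mul, hβ]
  · intro i
    have h1 := congrArg ν (NeronAlgH4.x_pow d n r a i)
    rw [map_pow, map_sum, ← NeronAlgH4.algebraMap_X (k := k), hνalg, halgXQ] at h1
    rw [h1]
    refine Finset.sum_congr rfl (fun j _ => ?_)
    rw [map_mul]
    rfl

end Groth.Agent.Lib.InsepLocH5
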