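import Mathlib
import Groth.Agent.Lib.InsepLoc4_helper5
import Groth.Agent.Lib.InsepLoc5_helper5

/-!
# Inseparable residue fields, local part 6 (helper5): the local lemma.  For a geometrically regular
(adically formally smooth) regular local `k`-algebra `T` in characteristic `p`, coordinates
`k[U,V] → T` with `𝔭T = m_T`, and a smooth algebra over the truncated local ring `Qbar` through which
`A → T/m^n'` and the relations `g_i^n = Σ ζ_ij a_j` factor.  APPEND-ONLY once landed.
-/

set_option autoImplicit false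
set_option linter.style.haveILetI false
set_option maxHeartbeats 1600000
set_option maxSynthPendingDepth 3

universe u

open TensorProduct IsLocalRing MvPolynomial KaehlerDifferential Module
open Groth.Agent.Lib.CotFlatH3 Groth.Agent.Lib.GeomRegFlatH5

namespace Groth.Agent.Lib.InsepLocH5

theorem local_lemma (p : ℕ) [Fact p.Prime] {k : Type u} [Field k] [CharP k p] {T : Type u}
    [CommRing T] [IsRegularLocalRing T] [Algebra k T]
    (hAdic : CAlgX.IsAdicFormallySmooth k T (maximalIdeal T)) (d : ℕ)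
    (hd : finrank (ResidueField T) (CotangentSpace T) = d) (n' : ℕ) (hn' : 2 ≤ n')
    {A : Type u} [CommRing A] [Algebra k A] [Algebra.FinitePresentation k A] (φT : A →ₐ[k] T)
    {r : ℕ} (a : Fin r → A) (n : ℕ)
    (hpow : maximalIdeal T ^ n ≤ Ideal.span (Set.range fun j => φT (a j))) :
    ∃ (t d'' : ℕ) (u : Fin t ⊕ Fin d'' → T) (g : Fin d → MvPolynomial (Fin t ⊕ Fin d'') k),
      (∀ i, aeval u (g i) ∈ maximalIdeal T) ∧
      Ideal.span (Set.range fun i => aeval u (g i)) = maximalIdeal T ∧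
      (∀ f, aeval u f ∈ maximalIdeal T →
        ∃ s, aeval u s ∉ maximalIdeal T ∧ s * f ∈ Ideal.span (Set.range g)) ∧
      ∃ (S₀ : Type u) (_ : CommRing S₀) (_ : Algebra (Qbar (k := k) u n') S₀),
        Algebra.Smooth (Qbar (k := k) u n') S₀ ∧
        ∃ (h₀ : S₀ →+* T ⧸ maximalIdeal T ^ n') (α₀ : A →+* S₀) (ζ : Fin d → Fin r → S₀),
          (∀ q : MvPolynomial (Fin t ⊕ Fin d'') k,
            h₀ (algebraMap (Qbar (k := k) u n') S₀
              (Ideal.Quotient.mk _ (algebraMap _ (Qp (k := k) u) q))) =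
              Ideal.Quotient.mk _ (aeval u q)) ∧
          (∀ c : k, α₀ (algebraMap k A c) = algebraMap (Qbar (k := k) u n') S₀
            (Ideal.Quotient.mk _ (algebraMap (MvPolynomial (Fin t ⊕ Fin d'') k)
              (Qp (k := k) u) (C c)))) ∧
          (∀ x, h₀ (α₀ x) = Ideal.Quotient.mk _ (φT x)) ∧
          ∀ i, algebraMap (Qbar (k := k) u n') S₀
              (Ideal.Quotient.mk _ (algebraMap _ (Qp (k := k) u) (g i))) ^ n =
            ∑ j, ζ i j * α₀ (a j) := by
  classical
  have hn1 : 1 ≤ n' := by omega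
  haveI hTloc : IsLocalRing (T ⧸ maximalIdeal T ^ n') := isLocalRing_quot_pow n' hn1
  obtain ⟨sA, hsA⟩ := (Algebra.FiniteType.out : (⊤ : Subalgebra k A).FG)
  let F : A →ₐ[k] T ⧸ maximalIdeal T ^ n' := (Ideal.Quotient.mkₐ k (maximalIdeal T ^ n')).comp φT
  have hF : ∀ x, F x = Ideal.Quotient.mk (maximalIdeal T ^ n') (φT x) := fun _ => rfl
  obtain ⟨t, d'', u, g, D, hDloc, hED, hDflat, hDess, hDmax, hu, hΩ, hgm, hgspan, hgen⟩ :=
    exists_coords p hAdic d hd n' hn' (sA.image F)
  haveI := hDloc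
  obtain ⟨hψD, algPD, halgD, hIS⟩ :=
    indSmooth_D d hd n' hn1 u g D hDflat hDess hDmax hu hΩ hgm hgspan hgen
  letI := algPD
  haveI hlocD : IsLocalHom (algebraMap D (T ⧸ maximalIdeal T ^ n')) :=
    isLocalHom_of_map_eq D hDmax
  haveI := hDflat
  haveI hff : Module.FaithfullyFlat D (T ⧸ maximalIdeal T ^ n') :=
    Module.FaithfullyFlat.of_flat_of_isLocalHom
  -- `A` maps into `D`
  have hFD : ∀ x : A, F x ∈ D := by
    intro x
    have hx : x ∈ Algebra.adjoin k (sA : Set A) := by rw [hsA]; trivial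
    induction hx using Algebra.adjoin_induction with
    | mem x hx => exact hED (Finset.mem_coe.mpr (Finset.mem_image_of_mem F hx))
    | algebraMap c =>
      rw [AlgHom.commutes]
      exact D.algebraMap_mem c
    | add x y _ _ hx hy =>
      rw [map_add]
      exact D.add_mem hx hy
    | mul x y _ _ hx hy =>
      rw [map_mul]
      exact D.mul_mem hx hy
  let φD : A →ₐ[k] D := F.codRestrict D hFD
  have hφD : ∀ x, ((φD x : D) : T ⧸ maximalIdeal T ^ n') = F x := fun _ => rfl
  have hkQ : ∀ c : k, algebraMap k (Qbar (k := k) u n') c =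
      Ideal.Quotient.mk _ (algebraMap (MvPolynomial (Fin t ⊕ Fin d'') k) (Qp (k := k) u) (C c)) := by
    intro c
    rw [IsScalarTower.algebraMap_apply k (Qp (k := k) u) (Qbar (k := k) u n'),
      IsScalarTower.algebraMap_apply k (MvPolynomial (Fin t ⊕ Fin d'') k) (Qp (k := k) u)]
    rfl
  haveI twkQD : IsScalarTower k (Qbar (k := k) u n') D :=
    IsScalarTower.of_algebraMap_eq (fun c => by
      rw [hkQ, halgD]
      apply Subtype.ext
      show algebraMap k (T ⧸ maximalIdeal T ^ n') c = Ideal.Quotient.mk _ (aeval u (C c))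
      rw [aeval_C]
      rfl)
  let gq : Fin d → Qbar (k := k) u n' := fun i =>
    Ideal.Quotient.mk _ (algebraMap _ (Qp (k := k) u) (g i))
  have hrel : ∀ i, algebraMap D (T ⧸ maximalIdeal T ^ n')
      (algebraMap (Qbar (k := k) u n') D (gq i)) ^ n ∈
      Ideal.span (Set.range fun j => algebraMap D (T ⧸ maximalIdeal T ^ n') (φD (a j))) := by
    intro i
    show ((algebraMap (Qbar (k := k) u n') D (Ideal.Quotient.mk _
      (algebraMap _ (Qp (k := k) u) (g i))) : D) : T ⧸ maximalIdeal T ^ n') ^ n ∈ _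
    rw [halgD]
    show Ideal.Quotient.mk (maximalIdeal T ^ n') (aeval u (g i)) ^ n ∈ _
    rw [← map_pow]
    have h1 : aeval u (g i) ^ n ∈ Ideal.span (Set.range fun j => φT (a j)) :=
      hpow (Ideal.pow_mem_pow (hgm i) n)
    have h2 := Ideal.mem_map_of_mem (Ideal.Quotient.mk (maximalIdeal T ^ n')) h1
    rw [Ideal.map_span, ← Set.range_comp] at h2
    exact h2
  obtain ⟨S₀, iS1, iS2, hsm, h₀', α₀, ζ, hα₀k, hα₀, hζ⟩ :=
    smooth_factor_of_indSmooth (k := k) (Qb := Qbar (k := k) u n') (Dd := D)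
      (Tb := T ⧸ maximalIdeal T ^ n') hIS φD a n gq hrel
  refine ⟨t, d'', u, g, hgm, hgspan, hgen, S₀, iS1, iS2, hsm,
    (D.val.toRingHom).comp h₀'.toRingHom, α₀, ζ, ?_, ?_, ?_, hζ⟩
  · intro q
    show ((h₀' (algebraMap (Qbar (k := k) u n') S₀ _) : D) : T ⧸ maximalIdeal T ^ n') = _
    rw [AlgHom.commutes, halgD]
  · intro c
    rw [hα₀k, hkQ]
  · intro x
    show ((h₀' (α₀ x) : D) : T ⧸ maximalIdeal T ^ n') = _
    rw [hα₀, hφD, hF]

end Groth.Agent.Lib.InsepLocH5
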