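import Mathlib
import Groth.Agent.Lib.InsepGlob5_helper5
import Groth.Agent.Lib.InsepLoc6_helper5

set_option autoImplicit false
set_option linter.style.haveILetI false
set_option maxHeartbeats 1600000
set_option maxSynthPendingDepth 3

universe u

open IsLocalRing Module MvPolynomial
open Groth.Agent.Lib.CotFlatH3 Groth.Agent.Lib.GeomRegFlatH5 Groth.Agent.Lib.InsepLocH5

namespace Groth.Agent.Lib.InsepGlobH5

/-- powers of a finitely generated ideal and the ideal of powers of the generators -/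
theorem span_pow_le {X : Type*} [CommRing X] {ι : Type*} (x : ι → X) (e : ℕ) (S : Finset ι) :
    Ideal.span (x '' (S : Set ι)) ^ (S.card * e + 1) ≤
      Ideal.span ((fun j => x j ^ e) '' (S : Set ι)) := by
  classical
  induction S using Finset.induction_on with
  | empty =>
    simp
  | insert a S ha ih =>
    rw [Finset.card_insert_of_notMem ha, Finset.coe_insert, Set.image_insert_eq,
      Set.image_insert_eq, Ideal.span_insert, Ideal.span_insert]
    have e1 : (S.card + 1) * e + 1 = e + (S.card * e + 1) := by ring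
    rw [e1]
    refine (Ideal.sup_pow_add_le_pow_sup_pow).trans ?_
    rw [Ideal.span_singleton_pow]
    exact sup_le_sup le_rfl ih

theorem span_range_pow_le {X : Type*} [CommRing X] {d : ℕ} (x : Fin d → X) (e : ℕ) :
    Ideal.span (Set.range x) ^ (d * e + 1) ≤ Ideal.span (Set.range fun j => x j ^ e) := by
  have := span_pow_le x e (Finset.univ : Finset (Fin d))
  rw [Finset.card_univ, Fintype.card_fin, Finset.coe_univ, Set.image_univ, Set.image_univ] at this
  exact this


/-- the universal properties of the truncated local ring `Qbar` -/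
theorem Qbar_univ {k : Type u} [Field k] {T : Type u}
    [CommRing T] [IsRegularLocalRing T] [Algebra k T] (d : ℕ)
    (hd : finrank (ResidueField T) (CotangentSpace T) = d) {σ : Type} [Finite σ] (u : σ → T)
    (g : Fin d → MvPolynomial σ k)
    (hgm : ∀ i, aeval u (g i) ∈ maximalIdeal T)
    (hgspan : Ideal.span (Set.range fun i => aeval u (g i)) = maximalIdeal T)
    (hgen : ∀ f, aeval u f ∈ maximalIdeal T →
        ∃ s, aeval u s ∉ maximalIdeal T ∧ s * f ∈ Ideal.span (Set.range g)) (n' : ℕ) :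
    (∀ (E : Type u) [CommRing E] (f : MvPolynomial σ k →+* E),
      (∀ s, aeval u s ∉ maximalIdeal T → IsUnit (f s)) →
      Ideal.span (Set.range fun i => f (g i)) ^ n' = ⊥ →
      ∃ ι : Qbar (k := k) u n' →+* E, ∀ q,
        ι (Ideal.Quotient.mk _ (algebraMap _ (Qp (k := k) u) q)) = f q) ∧
    (∀ (E : Type u) [CommRing E] (f₁ f₂ : Qbar (k := k) u n' →+* E),
      (∀ q : MvPolynomial σ k, f₁ (Ideal.Quotient.mk _ (algebraMap _ (Qp (k := k) u) q)) =
        f₂ (Ideal.Quotient.mk _ (algebraMap _ (Qp (k := k) u) q))) → f₁ = f₂) := by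
  classical
  obtain ⟨hregQ, hspanQ, -, -⟩ := Qp_facts (k := k) d hd u g hgm hgspan hgen
  constructor
  · intro E _ f hun hnil
    have hunits : ∀ y : (PP (k := k) u).primeCompl, IsUnit (f y) := fun y => hun _ y.2
    obtain ⟨fp, hfp⟩ : ∃ fp : Qp (k := k) u →+* E, ∀ q, fp (algebraMap _ _ q) = f q :=
      ⟨IsLocalization.lift hunits, fun q => IsLocalization.lift_eq hunits q⟩
    have hkill : ∀ x ∈ maximalIdeal (Qp (k := k) u) ^ n', fp x = 0 := by
      intro x hx
      have h1 := Ideal.mem_map_of_mem fp hx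
      rw [Ideal.map_pow, ← hspanQ, Ideal.map_span, ← Set.range_comp] at h1
      have e1 : (⇑fp ∘ fun i => algebraMap (MvPolynomial σ k) (Qp (k := k) u) (g i)) =
          fun i => f (g i) := funext (fun i => hfp _)
      rw [e1, hnil] at h1
      exact h1
    exact ⟨Ideal.Quotient.lift _ fp hkill, fun q => by rw [Ideal.Quotient.lift_mk, hfp]⟩
  · intro E _ f₁ f₂ h
    apply Ideal.Quotient.ringHom_ext
    apply IsLocalization.ringHom_ext (PP (k := k) u).primeCompl
    apply RingHom.ext
    intro q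
    exact h q


/-- the local lemma with the truncated local ring hidden behind its universal properties -/
theorem local_lemma' (p : ℕ) [Fact p.Prime] {k : Type u} [Field k] [CharP k p] {T : Type u}
    [CommRing T] [IsRegularLocalRing T] [Algebra k T]
    (hAdic : CAlgX.IsAdicFormallySmooth k T (maximalIdeal T)) (d : ℕ)
    (hd : finrank (ResidueField T) (CotangentSpace T) = d) (n' : ℕ) (hn' : 2 ≤ n')
    {A : Type u} [CommRing A] [Algebra k A] [Algebra.FinitePresentation k A] (φT : A →ₐ[k] T)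
    {r : ℕ} (a : Fin r → A) (n : ℕ)
    (hpow : maximalIdeal T ^ n ≤ Ideal.span (Set.range fun j => φT (a j))) :
    ∃ (t d'' : ℕ) (u : Fin t ⊕ Fin d'' → T) (g : Fin d → MvPolynomial (Fin t ⊕ Fin d'') k),
      (∀ i, aeval u (g i) ∈ maximalIdeal T) ∧
      Ideal.span (Set.range fun i => aeval u (g i)) = maximalIdeal T ∧
      (∀ f, aeval u f ∈ maximalIdeal T →
        ∃ s, aeval u s ∉ maximalIdeal T ∧ s * f ∈ Ideal.span (Set.range g)) ∧
      ∃ (Qb : Type u) (_ : CommRing Qb) (κ : MvPolynomial (Fin t ⊕ Fin d'') k →+* Qb),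
        (∀ (E : Type u) [CommRing E] (f : MvPolynomial (Fin t ⊕ Fin d'') k →+* E),
          (∀ s, aeval u s ∉ maximalIdeal T → IsUnit (f s)) →
          Ideal.span (Set.range fun i => f (g i)) ^ n' = ⊥ →
          ∃ ι : Qb →+* E, ∀ q, ι (κ q) = f q) ∧
        (∀ (E : Type u) [CommRing E] (f₁ f₂ : Qb →+* E),
          (∀ q, f₁ (κ q) = f₂ (κ q)) → f₁ = f₂) ∧
        ∃ (S₀ : Type u) (_ : CommRing S₀) (_ : Algebra Qb S₀), Algebra.Smooth Qb S₀ ∧
          ∃ (h₀ : S₀ →+* T ⧸ maximalIdeal T ^ n') (α₀ : A →+* S₀) (ζ : Fin d → Fin r → S₀),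
            (∀ q, h₀ (algebraMap Qb S₀ (κ q)) = Ideal.Quotient.mk _ (aeval u q)) ∧
            (∀ c : k, α₀ (algebraMap k A c) = algebraMap Qb S₀ (κ (C c))) ∧
            (∀ x, h₀ (α₀ x) = Ideal.Quotient.mk _ (φT x)) ∧
            ∀ i, algebraMap Qb S₀ (κ (g i)) ^ n = ∑ j, ζ i j * α₀ (a j) := by
  obtain ⟨t, d'', u, g, hgm, hgspan, hgen, S₀, iS1, iS2, hsm, h₀, α₀, ζ, h1, h2, h3, h4⟩ :=
    local_lemma p hAdic d hd n' hn' φT a n hpow
  obtain ⟨hUP, hEPI⟩ := Qbar_univ (k := k) d hd u g hgm hgspan hgen n'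
  exact ⟨t, d'', u, g, hgm, hgspan, hgen, Qbar (k := k) u n', inferInstance,
    (Ideal.Quotient.mk _).comp (algebraMap _ (Qp (k := k) u)), hUP, hEPI, S₀, iS1, iS2, hsm,
    h₀, α₀, ζ, h1, h2, h3, h4⟩

end Groth.Agent.Lib.InsepGlobH5
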