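import Mathlib
import Groth.Prelude.Def_Smoothing
import Groth.Agent.Lib.Deloc2_helper4
import Groth.Agent.Lib.SepIndSm_helper4
import Groth.Agent.Lib.ResolveLocal_helper4
import Groth.Agent.Lib.ResolveStep_helper4

set_option autoImplicit false
set_option linter.style.haveILetI false
set_option maxHeartbeats 1600000

universe u

open TensorProduct

namespace Groth.Agent.Lib.InsepGlobH5

/-- resolving a zero-dimensional local problem from a smooth factor over the localized base -/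
theorem resolvable_of_factor {Rb Cb Lb Lq Rp G : Type u} [CommRing Rb] [IsNoetherianRing Rb]
    [CommRing Cb] [Algebra Rb Cb] [Algebra.FinitePresentation Rb Cb] [CommRing Lb] [Algebra Rb Lb]
    (ψ : Cb →ₐ[Rb] Lb) (qb : Ideal Lb) [qb.IsPrime]
    [CommRing Lq] [Algebra Lb Lq] [IsLocalization.AtPrime Lq qb] [Algebra Rb Lq]
    [IsScalarTower Rb Lb Lq]
    [CommRing Rp] [Algebra Rb Rp] [IsLocalization.AtPrime Rp (qb.comap (algebraMap Rb Lb))]
    [Algebra Rp Lq] [IsScalarTower Rb Rp Lq]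
    (hnilq' : ∀ x : Lq, ¬ IsUnit x → IsNilpotent x)
    [CommRing G] [Algebra Rp G] [Algebra.Smooth Rp G]
    (β : Cb →+* G) (hβ : ∀ r, β (algebraMap Rb Cb r) = algebraMap Rp G (algebraMap Rb Rp r))
    (hG : G →+* Lq) (hGlin : ∀ x, hG (algebraMap Rp G x) = algebraMap Rp Lq x)
    (hcomp : ∀ c, hG (β c) = algebraMap Lb Lq (ψ c)) :
    Smoothing.Resolvable Rb ψ qb := by
  classical
  haveI hloc : IsLocalRing Lq := IsLocalization.AtPrime.isLocalRing Lq qb
  have hnilq : ∀ x ∈ IsLocalRing.maximalIdeal Lq, IsNilpotent x := fun x hx =>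
    hnilq' x ((IsLocalRing.mem_maximalIdeal x).mp hx)
  haveI hK0 : Ring.KrullDimLE 0 Lq := by
    rw [Ring.krullDimLE_zero_iff]
    intro P hP
    have h1 : IsLocalRing.maximalIdeal Lq ≤ P := by
      intro x hx
      obtain ⟨M, hM⟩ := hnilq x hx
      exact hP.mem_of_pow_mem M (by rw [hM]; exact P.zero_mem)
    have h2 : P = IsLocalRing.maximalIdeal Lq :=
      le_antisymm (IsLocalRing.le_maximalIdeal hP.ne_top) h1
    rw [h2]
    exact IsLocalRing.maximalIdeal.isMaximal Lq
  have hdim : ringKrullDim Lq = 0 := ringKrullDimZero_iff_ringKrullDim_eq_zero.mp hK0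
  by_cases hle : Smoothing.singRad Rb ψ ≤ qb
  · have hmin : qb ∈ (Smoothing.singRad Rb ψ).minimalPrimes := by
      show Minimal (fun I : Ideal Lb => I.IsPrime ∧ Smoothing.singRad Rb ψ ≤ I) qb
      refine ⟨⟨inferInstance, hle⟩, ?_⟩
      intro P hP hPq a ha
      have hPprime : P.IsPrime := hP.1
      have h1 : algebraMap Lb Lq a ∈ IsLocalRing.maximalIdeal Lq :=
        (IsLocalization.AtPrime.to_map_mem_maximal_iff Lq qb _).mpr ha
      obtain ⟨M, hM⟩ := hnilq _ h1
      rw [← map_pow] at hM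
      obtain ⟨s, hs⟩ := (IsLocalization.map_eq_zero_iff qb.primeCompl Lq (a ^ M)).mp hM
      have h2 : (s : Lb) * a ^ M ∈ P := by
        rw [hs]
        exact P.zero_mem
      rcases hPprime.mem_or_mem h2 with h3 | h3
      · exact absurd (hPq h3) s.2
      · exact hPprime.mem_of_pow_mem M h3
    haveI : (qb.map (algebraMap Lb Lq)).IsPrime := by
      rw [IsLocalization.AtPrime.map_eq_maximalIdeal qb Lq]
      exact (IsLocalRing.maximalIdeal.isMaximal Lq).isPrime
    letI algRbG : Algebra Rb G := ((algebraMap Rp G).comp (algebraMap Rb Rp)).toAlgebra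
    haveI twG : IsScalarTower Rb Rp G := IsScalarTower.of_algebraMap_eq (fun _ => rfl)
    let βa : Cb →ₐ[Rb] G := { β with commutes' := hβ }
    let hGa : G →ₐ[Rp] Lq := { hG with commutes' := hGlin }
    let gg : Rp ⊗[Rb] Cb →ₐ[Rp] G :=
      Algebra.TensorProduct.lift (Algebra.ofId Rp G) βa (fun _ _ => Commute.all _ _)
    refine Groth.Agent.Lib.Deloc2H4.main2034 (Rₚ := Rp) (Λq := Lq) ψ qb hmin hdim
      (Groth.Agent.Lib.SepIndSmH4.resolvable_of_smooth_factor _ gg hGa ?_ _)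
    apply Algebra.TensorProduct.ext'
    intro x c
    show hG (gg (x ⊗ₜ c)) = _
    rw [Algebra.TensorProduct.lift_tmul, Algebra.TensorProduct.lift_tmul]
    show hG (algebraMap Rp G x * β c) = algebraMap Rp Lq x * algebraMap Lb Lq (ψ c)
    rw [map_mul, hGlin, hcomp]
  · exact ⟨Cb, inferInstance, inferInstance, inferInstance, AlgHom.id Rb Cb, ψ,
      AlgHom.comp_id ψ, le_rfl, hle⟩


/-- the reduced problem modulo `K`, from a universal smooth factor -/
theorem resolvable_quot {R C Λ : Type u} [CommRing R] [IsNoetherianRing R] [CommRing C]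
    [Algebra R C] [Algebra.FinitePresentation R C] [CommRing Λ] [Algebra R Λ] (φC : C →ₐ[R] Λ)
    (𝔮 : Ideal Λ) [𝔮.IsPrime] (K : Ideal R) (hJ𝔮 : K.map (algebraMap R Λ) ≤ 𝔮)
    (φK : (C ⧸ K.map (algebraMap R C)) →ₐ[R ⧸ K] (Λ ⧸ K.map (algebraMap R Λ)))
    (hφK : ∀ c, φK (Ideal.Quotient.mk _ c) = Ideal.Quotient.mk _ (φC c))
    (N : ℕ) (hN : IsLocalRing.maximalIdeal (Localization.AtPrime 𝔮) ^ N ≤
      (K.map (algebraMap R Λ)).map (algebraMap Λ (Localization.AtPrime 𝔮)))
    (hfacK : ∀ (E : Type u) [CommRing E] (f : R →+* E)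
      (θ : E →+* Localization.AtPrime 𝔮 ⧸
        (K.map (algebraMap R Λ)).map (algebraMap Λ (Localization.AtPrime 𝔮))),
      (∀ r, θ (f r) = Ideal.Quotient.mk _
        (algebraMap Λ (Localization.AtPrime 𝔮) (algebraMap R Λ r))) →
      (∀ r, algebraMap R Λ r ∉ 𝔮 → IsUnit (f r)) →
      (∀ x ∈ K, f x = 0) →
      ∃ (G : Type u) (_ : CommRing G) (_ : Algebra E G), Algebra.Smooth E G ∧
        ∃ (β : C →+* G) (hG : G →+* Localization.AtPrime 𝔮 ⧸
            (K.map (algebraMap R Λ)).map (algebraMap Λ (Localization.AtPrime 𝔮))),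
          (∀ r, β (algebraMap R C r) = algebraMap E G (f r)) ∧
          (∀ x, hG (algebraMap E G x) = θ x) ∧
          (∀ c, hG (β c) = Ideal.Quotient.mk _
            (algebraMap Λ (Localization.AtPrime 𝔮) (φC c)))) :
    Smoothing.Resolvable (R ⧸ K) φK (𝔮.map (Ideal.Quotient.mk (K.map (algebraMap R Λ)))) := by
  classical
  obtain ⟨JL, hJL⟩ : ∃ JL : Ideal Λ, JL = K.map (algebraMap R Λ) := ⟨_, rfl⟩
  obtain ⟨JT, hJT⟩ : ∃ JT : Ideal (Localization.AtPrime 𝔮),
      JT = JL.map (algebraMap Λ (Localization.AtPrime 𝔮)) := ⟨_, rfl⟩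
  subst hJL
  subst hJT
  haveI hqb : (𝔮.map (Ideal.Quotient.mk (K.map (algebraMap R Λ)))).IsPrime :=
    Ideal.map_isPrime_of_surjective Ideal.Quotient.mk_surjective (by
      rw [Ideal.mk_ker]
      exact hJ𝔮)
  haveI hloc : IsLocalization.AtPrime (Localization.AtPrime 𝔮 ⧸
      (K.map (algebraMap R Λ)).map (algebraMap Λ (Localization.AtPrime 𝔮)))
      (𝔮.map (Ideal.Quotient.mk (K.map (algebraMap R Λ)))) :=
    Groth.Agent.Lib.ResolveLocalH4.isLocalization_quot 𝔮 _ hJ𝔮
  letI algRbLq : Algebra (R ⧸ K) (Localization.AtPrime 𝔮 ⧸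
      (K.map (algebraMap R Λ)).map (algebraMap Λ (Localization.AtPrime 𝔮))) :=
    ((algebraMap (Λ ⧸ K.map (algebraMap R Λ)) (Localization.AtPrime 𝔮 ⧸
      (K.map (algebraMap R Λ)).map (algebraMap Λ (Localization.AtPrime 𝔮)))).comp
        (algebraMap (R ⧸ K) (Λ ⧸ K.map (algebraMap R Λ)))).toAlgebra
  haveI twq : IsScalarTower (R ⧸ K) (Λ ⧸ K.map (algebraMap R Λ)) (Localization.AtPrime 𝔮 ⧸
      (K.map (algebraMap R Λ)).map (algebraMap Λ (Localization.AtPrime 𝔮))) :=
    IsScalarTower.of_algebraMap_eq (fun _ => rfl)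
  have halg : ∀ r : R, algebraMap (R ⧸ K) (Localization.AtPrime 𝔮 ⧸
      (K.map (algebraMap R Λ)).map (algebraMap Λ (Localization.AtPrime 𝔮)))
      (Ideal.Quotient.mk K r) =
      Ideal.Quotient.mk _ (algebraMap Λ (Localization.AtPrime 𝔮) (algebraMap R Λ r)) :=
    fun r => rfl
  -- finite presentation of the quotient
  have hsurjR : Function.Surjective (algebraMap R (R ⧸ K)) := Ideal.Quotient.mk_surjective
  have hkerA : ∀ x, Ideal.Quotient.mkₐ R (K.map (algebraMap R C)) x = 0 →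
      x ∈ (RingHom.ker (algebraMap R (R ⧸ K))).map (algebraMap R C) := by
    intro x hx
    have e1 : RingHom.ker (algebraMap R (R ⧸ K)) = K := Ideal.mk_ker
    rw [e1]
    exact Ideal.Quotient.eq_zero_iff_mem.mp hx
  haveI : Algebra.FinitePresentation (R ⧸ K) (C ⧸ K.map (algebraMap R C)) :=
    Groth.Agent.Lib.ResolveStepH4.fp_flex hsurjR (Ideal.Quotient.mkₐ R (K.map (algebraMap R C)))
      (Ideal.Quotient.mkₐ_surjective R _) hkerA
  -- the localized base
  have hunits : ∀ y : ((𝔮.map (Ideal.Quotient.mk (K.map (algebraMap R Λ)))).comap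
      (algebraMap (R ⧸ K) (Λ ⧸ K.map (algebraMap R Λ)))).primeCompl,
      IsUnit (algebraMap (R ⧸ K) (Localization.AtPrime 𝔮 ⧸
        (K.map (algebraMap R Λ)).map (algebraMap Λ (Localization.AtPrime 𝔮))) y) := by
    intro y
    exact IsLocalization.map_units (Localization.AtPrime 𝔮 ⧸
        (K.map (algebraMap R Λ)).map (algebraMap Λ (Localization.AtPrime 𝔮)))
      (⟨algebraMap (R ⧸ K) (Λ ⧸ K.map (algebraMap R Λ)) y, y.2⟩ :
        (𝔮.map (Ideal.Quotient.mk (K.map (algebraMap R Λ)))).primeCompl)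
  letI algRpLq : Algebra (Localization.AtPrime
      ((𝔮.map (Ideal.Quotient.mk (K.map (algebraMap R Λ)))).comap
        (algebraMap (R ⧸ K) (Λ ⧸ K.map (algebraMap R Λ)))))
      (Localization.AtPrime 𝔮 ⧸
        (K.map (algebraMap R Λ)).map (algebraMap Λ (Localization.AtPrime 𝔮))) :=
    (IsLocalization.lift hunits).toAlgebra
  haveI twRp : IsScalarTower (R ⧸ K) (Localization.AtPrime
      ((𝔮.map (Ideal.Quotient.mk (K.map (algebraMap R Λ)))).comap
        (algebraMap (R ⧸ K) (Λ ⧸ K.map (algebraMap R Λ)))))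
      (Localization.AtPrime 𝔮 ⧸
        (K.map (algebraMap R Λ)).map (algebraMap Λ (Localization.AtPrime 𝔮))) :=
    IsScalarTower.of_algebraMap_eq (fun x => (IsLocalization.lift_eq hunits x).symm)
  -- nilpotency
  have hnilq : ∀ x : Localization.AtPrime 𝔮 ⧸
      (K.map (algebraMap R Λ)).map (algebraMap Λ (Localization.AtPrime 𝔮)),
      ¬ IsUnit x → IsNilpotent x := by
    intro x hx
    obtain ⟨t, rfl⟩ := Ideal.Quotient.mk_surjective x
    have ht : t ∈ IsLocalRing.maximalIdeal (Localization.AtPrime 𝔮) := by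
      rw [IsLocalRing.mem_maximalIdeal, mem_nonunits_iff]
      intro htu
      exact hx (htu.map _)
    refine ⟨N, ?_⟩
    rw [← map_pow, Ideal.Quotient.eq_zero_iff_mem]
    exact hN (Ideal.pow_mem_pow ht N)
  -- the smooth factor
  obtain ⟨G, iG1, iG2, hGsm, β, hG, h1, h2, h3⟩ := hfacK
    (Localization.AtPrime ((𝔮.map (Ideal.Quotient.mk (K.map (algebraMap R Λ)))).comap
        (algebraMap (R ⧸ K) (Λ ⧸ K.map (algebraMap R Λ)))))
    ((algebraMap (R ⧸ K) _).comp (Ideal.Quotient.mk K)) (algebraMap _ _)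
    (by
      intro r
      show algebraMap _ _ (algebraMap (R ⧸ K) _ (Ideal.Quotient.mk K r)) = _
      rw [← IsScalarTower.algebraMap_apply, halg])
    (by
      intro r hr
      show IsUnit (algebraMap (R ⧸ K) _ (Ideal.Quotient.mk K r))
      refine IsLocalization.map_units _ (⟨Ideal.Quotient.mk K r, ?_⟩ :
        ((𝔮.map (Ideal.Quotient.mk (K.map (algebraMap R Λ)))).comap
          (algebraMap (R ⧸ K) (Λ ⧸ K.map (algebraMap R Λ)))).primeCompl)
      show ¬ (Ideal.Quotient.mk (K.map (algebraMap R Λ)) (algebraMap R Λ r) ∈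
        𝔮.map (Ideal.Quotient.mk (K.map (algebraMap R Λ))))
      rw [Ideal.mem_quotient_iff_mem hJ𝔮]
      exact hr)
    (by
      intro x hx
      show algebraMap (R ⧸ K) _ (Ideal.Quotient.mk K x) = 0
      rw [Ideal.Quotient.eq_zero_iff_mem.mpr hx, map_zero])
  haveI := hGsm
  have hkill : ∀ c ∈ K.map (algebraMap R C), β c = 0 := by
    have hle : K.map (algebraMap R C) ≤ RingHom.ker β := by
      rw [Ideal.map_le_iff_le_comap]
      intro r hr
      rw [Ideal.mem_comap, RingHom.mem_ker, h1]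
      show algebraMap _ G (algebraMap (R ⧸ K) _ (Ideal.Quotient.mk K r)) = 0
      rw [Ideal.Quotient.eq_zero_iff_mem.mpr hr, map_zero, map_zero]
    exact fun c hc => RingHom.mem_ker.mp (hle hc)
  refine resolvable_of_factor φK _ hnilq (Ideal.Quotient.lift _ β hkill) ?_ hG h2 ?_
  · intro rb
    obtain ⟨r, rfl⟩ := Ideal.Quotient.mk_surjective rb
    show Ideal.Quotient.lift _ β hkill (Ideal.Quotient.mk _ (algebraMap R C r)) = _
    rw [Ideal.Quotient.lift_mk, h1]
    rfl
  · intro cb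
    obtain ⟨c, rfl⟩ := Ideal.Quotient.mk_surjective cb
    rw [Ideal.Quotient.lift_mk, h3, hφK]
    rfl

end Groth.Agent.Lib.InsepGlobH5
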