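import Mathlib
import Groth.Prelude.Def_Smoothing
import Groth.Agent.Lib.InsepGlob7_helper5
import Groth.Agent.Lib.ResolveSep_helper4
import Groth.Agent.Lib.StdBaseChange_helper4

set_option autoImplicit false
set_option linter.style.haveILetI false
set_option linter.unusedVariables false
set_option maxHeartbeats 1600000

universe u

open TensorProduct MvPolynomial

namespace Groth.Agent.Lib.InsepGlobH5

/-- smoothness of principal localizations under base change -/
theorem smooth_away_baseChange {P R C₀ : Type u} [CommRing P] [CommRing R] [Algebra P R]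
    [CommRing C₀] [Algebra P C₀] (x : C₀) (h : Algebra.Smooth P (Localization.Away x)) :
    Algebra.Smooth R (Localization.Away ((1 : R) ⊗ₜ[P] x)) := by
  haveI := h
  haveI : Algebra.Smooth R (R ⊗[P] Localization.Away x) := inferInstance
  exact Algebra.Smooth.of_equiv
    (IsLocalization.Away.tensorProductEquivTMulRight P R x (Localization.Away x))


section Assemble

variable {k A Λ : Type u} [Field k] [CommRing A] [Algebra k A] [Algebra.FinitePresentation k A]
  [CommRing Λ] [Algebra k Λ]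

open Groth.Agent.Lib in
theorem assemble (φ : A →ₐ[k] Λ) (𝔮 : Ideal Λ) [𝔮.IsPrime]
    {d n r : ℕ} (hdpos : 0 < d) (a : Fin r → A)
    {C₀ : Type u} [CommRing C₀] [Algebra (MvPolynomial (Fin d) k) C₀]
    [Algebra (NeronAlgH4.BB d n r a) C₀]
    [IsScalarTower (MvPolynomial (Fin d) k) (NeronAlgH4.BB d n r a) C₀]
    [Algebra.FinitePresentation (MvPolynomial (Fin d) k) C₀]
    (ρ : C₀ →ₐ[NeronAlgH4.BB d n r a] NeronAlgH4.BB d n r a)
    (c : ℕ) (hc : 1 ≤ c)
    (hstd0 : ∀ i : Fin d, Smoothing.IsStrictlyStandard (MvPolynomial (Fin d) k) C₀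
      (algebraMap (MvPolynomial (Fin d) k) C₀ (X i ^ c)))
    (hsm0 : ∀ x ∈ Smoothing.singularIdeal k A, Algebra.Smooth (MvPolynomial (Fin d) k)
      (Localization.Away (algebraMap (NeronAlgH4.BB d n r a) C₀
        (NeronAlgH4.α (k := k) d n r a x))))
    {R : Type u} [CommRing R] [IsNoetherianRing R] [Algebra k R] [Algebra.FormallySmooth k R]
    [Algebra.FinitePresentation k R] [Algebra R Λ] [IsScalarTower k R Λ] (γ : Fin d → R)
    (lam : Fin d → Fin r → Λ) (hlam : ∀ i, algebraMap R Λ (γ i) ^ n = ∑ j, lam i j * φ (a j))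
    (hγ𝔮 : ∀ i, algebraMap R Λ (γ i) ∈ 𝔮)
    (hR : ∀ (i : Fin d) (f : R), γ i ^ 2 * f ∈ Ideal.span
        (Set.range fun j : {j : Fin d // (j : ℕ) < (i : ℕ)} => γ j ^ (c * 8)) →
      γ i * f ∈ Ideal.span (Set.range fun j : {j : Fin d // (j : ℕ) < (i : ℕ)} => γ j ^ (c * 8)))
    (hΛ : ∀ (i : Fin d) (y : Λ), algebraMap R Λ (γ i) ^ 2 * y ∈ Ideal.span
        (Set.range fun j : {j : Fin d // (j : ℕ) < (i : ℕ)} => algebraMap R Λ (γ j) ^ (c * 8)) →
      algebraMap R Λ (γ i) * y ∈ Ideal.span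
        (Set.range fun j : {j : Fin d // (j : ℕ) < (i : ℕ)} => algebraMap R Λ (γ j) ^ (c * 8)))
    (N : ℕ) (hN : IsLocalRing.maximalIdeal (Localization.AtPrime 𝔮) ^ N ≤
      ((Ideal.span (Set.range fun i : Fin d => (γ i ^ c) ^ 8)).map (algebraMap R Λ)).map
        (algebraMap Λ (Localization.AtPrime 𝔮)))
    (hfac : ∀ (E : Type u) [CommRing E] (f : R →+* E)
      (θ : E →+* Localization.AtPrime 𝔮 ⧸
        ((Ideal.span (Set.range fun i : Fin d => (γ i ^ c) ^ 8)).map (algebraMap R Λ)).map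
          (algebraMap Λ (Localization.AtPrime 𝔮))),
      (∀ r, θ (f r) = Ideal.Quotient.mk _
        (algebraMap Λ (Localization.AtPrime 𝔮) (algebraMap R Λ r))) →
      (∀ r, algebraMap R Λ r ∉ 𝔮 → IsUnit (f r)) →
      (∀ i, f (γ i) ^ (c * 8) = 0) →
      ∃ (G : Type u) (_ : CommRing G) (_ : Algebra E G), Algebra.Smooth E G ∧
        ∃ (αG : A →+* G) (Z : Fin d → Fin r → G) (hG : G →+* Localization.AtPrime 𝔮 ⧸
            ((Ideal.span (Set.range fun i : Fin d => (γ i ^ c) ^ 8)).map (algebraMap R Λ)).map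
              (algebraMap Λ (Localization.AtPrime 𝔮))),
          (∀ x, hG (algebraMap E G x) = θ x) ∧
          (∀ c' : k, αG (algebraMap k A c') = algebraMap E G (f (algebraMap k R c'))) ∧
          (∀ x, hG (αG x) = Ideal.Quotient.mk _ (algebraMap Λ (Localization.AtPrime 𝔮) (φ x))) ∧
          (∀ i, algebraMap E G (f (γ i)) ^ n = ∑ j, Z i j * αG (a j)) ∧
          (∀ i j, hG (Z i j) =
            Ideal.Quotient.mk _ (algebraMap Λ (Localization.AtPrime 𝔮) (lam i j)))) :
    Smoothing.Resolvable k φ 𝔮 := by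
  classical
  -- algebra structures over the polynomial ring
  letI algPR : Algebra (MvPolynomial (Fin d) k) R := (aeval (R := k) γ).toRingHom.toAlgebra
  haveI twPR : IsScalarTower k (MvPolynomial (Fin d) k) R :=
    IsScalarTower.of_algebraMap_eq (fun c' => ((aeval (R := k) γ).commutes c').symm)
  have halgPR : ∀ i, algebraMap (MvPolynomial (Fin d) k) R (X i) = γ i := fun i => by
    show aeval (R := k) γ (X i) = γ i
    exact aeval_X _ i
  letI algPΛ : Algebra (MvPolynomial (Fin d) k) Λ :=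
    ((algebraMap R Λ).comp (algebraMap (MvPolynomial (Fin d) k) R)).toAlgebra
  haveI twPRΛ : IsScalarTower (MvPolynomial (Fin d) k) R Λ :=
    IsScalarTower.of_algebraMap_eq (fun _ => rfl)
  haveI twkPΛ : IsScalarTower k (MvPolynomial (Fin d) k) Λ :=
    IsScalarTower.of_algebraMap_eq (fun c' => by
      show algebraMap k Λ c' = algebraMap R Λ (algebraMap (MvPolynomial (Fin d) k) R
        (algebraMap k (MvPolynomial (Fin d) k) c'))
      rw [← IsScalarTower.algebraMap_apply k (MvPolynomial (Fin d) k) R,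
        ← IsScalarTower.algebraMap_apply k R Λ])
  have halgX : ∀ i, algebraMap (MvPolynomial (Fin d) k) Λ (X i) = algebraMap R Λ (γ i) :=
    fun i => by
      show algebraMap R Λ (algebraMap (MvPolynomial (Fin d) k) R (X i)) = _
      rw [halgPR]
  -- the map from `B`
  obtain ⟨val, hvl, hvr⟩ : ∃ val : Fin d ⊕ Fin d × Fin r → Λ,
      (∀ i, val (Sum.inl i) = algebraMap R Λ (γ i)) ∧
      (∀ i j, val (Sum.inr (i, j)) = lam i j) :=
    ⟨Sum.elim (fun i => algebraMap R Λ (γ i)) (fun ij => lam ij.1 ij.2),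
      fun _ => rfl, fun _ _ => rfl⟩
  obtain ⟨ψB, hψC, hψX⟩ := NeronAlgH4.exists_hom d n r a φ.toRingHom val (by
    intro i
    rw [hvl, hlam i]
    refine Finset.sum_congr rfl (fun j _ => ?_)
    rw [hvr]
    rfl)
  have hlinB := NeronAlgH4.hom_algebraMap d n r a ψB
    (fun c' => by rw [hψC]; exact φ.commutes c') (fun i => by rw [hψX, hvl, halgX])
  obtain ⟨φB, hφB⟩ : ∃ φB : NeronAlgH4.BB d n r a →ₐ[MvPolynomial (Fin d) k] Λ,
      ∀ b, φB b = ψB b := ⟨{ ψB with commutes' := hlinB }, fun _ => rfl⟩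
  obtain ⟨φC₀, hφC₀⟩ : ∃ φC₀ : C₀ →ₐ[MvPolynomial (Fin d) k] Λ, ∀ x, φC₀ x = φB (ρ x) :=
    ⟨φB.comp (ρ.restrictScalars (MvPolynomial (Fin d) k)), fun _ => rfl⟩
  have hρ : ∀ b, ρ (algebraMap (NeronAlgH4.BB d n r a) C₀ b) = b := fun b => ρ.commutes b
  -- the base change
  obtain ⟨φC, hφC⟩ : ∃ φC : R ⊗[MvPolynomial (Fin d) k] C₀ →ₐ[R] Λ,
      ∀ (x : R) (y : C₀), φC (x ⊗ₜ y) = algebraMap R Λ x * φC₀ y :=
    ⟨Algebra.TensorProduct.lift (Algebra.ofId R Λ) φC₀ (fun _ _ => Commute.all _ _),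
      fun x y => Algebra.TensorProduct.lift_tmul _ _ _ x y⟩
  have htens : ∀ p : MvPolynomial (Fin d) k,
      (algebraMap (MvPolynomial (Fin d) k) R p) ⊗ₜ[MvPolynomial (Fin d) k] (1 : C₀) =
        (1 : R) ⊗ₜ[MvPolynomial (Fin d) k] (algebraMap (MvPolynomial (Fin d) k) C₀ p) := by
    intro p
    rw [Algebra.algebraMap_eq_smul_one, Algebra.algebraMap_eq_smul_one, TensorProduct.smul_tmul]
  obtain ⟨π', hπ'⟩ : ∃ π' : Fin d → R, ∀ i, π' i = γ i ^ c := ⟨_, fun _ => rfl⟩
  have hstd : ∀ i : Fin d, Smoothing.IsStrictlyStandard R (R ⊗[MvPolynomial (Fin d) k] C₀)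
      (algebraMap R (R ⊗[MvPolynomial (Fin d) k] C₀) (π' i)) := by
    intro i
    have h1 := StdBaseChangeH4.strict_bc (R' := R) _ (hstd0 i)
    have e1 : algebraMap R (R ⊗[MvPolynomial (Fin d) k] C₀) (π' i) =
        (1 : R) ⊗ₜ[MvPolynomial (Fin d) k] (algebraMap (MvPolynomial (Fin d) k) C₀ (X i ^ c)) := by
      rw [Algebra.TensorProduct.algebraMap_apply, ← htens, map_pow, halgPR, hπ']
      rfl
    rw [e1]
    exact h1
  -- the ideal `K`
  obtain ⟨K, hK⟩ : ∃ K : Ideal R, K = Ideal.span (Set.range fun i => π' i ^ 8) := ⟨_, rfl⟩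
  have hK' : K = Ideal.span (Set.range fun i : Fin d => (γ i ^ c) ^ 8) := by
    rw [hK]
    have h1 : (fun i => π' i ^ 8) = fun i : Fin d => (γ i ^ c) ^ 8 :=
      funext (fun i => by rw [hπ'])
    rw [h1]
  obtain ⟨φK, hφK⟩ := ResolveIndH4.exists_φQ φC K
  have hJ𝔮 : K.map (algebraMap R Λ) ≤ 𝔮 := by
    rw [Ideal.map_le_iff_le_comap, hK', Ideal.span_le]
    rintro _ ⟨i, rfl⟩
    show algebraMap R Λ ((γ i ^ c) ^ 8) ∈ 𝔮
    rw [map_pow, map_pow, ← pow_mul]
    exact Ideal.pow_mem_of_mem 𝔮 (hγ𝔮 i) _ (by omega)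
  have hresK : Smoothing.Resolvable (R ⧸ K) φK
      (𝔮.map (Ideal.Quotient.mk (K.map (algebraMap R Λ)))) := by
    subst hK'
    refine resolvable_quot φC 𝔮 _ hJ𝔮 φK hφK N hN ?_
    intro E _ f θ hE1 hE2 hE3
    obtain ⟨G, iG1, iG2, hGsm, αG, Z, hG, g1, g2, g3, g4, g5⟩ := hfac E f θ hE1 hE2 (by
      intro i
      have h1 : (γ i ^ c) ^ 8 ∈ Ideal.span (Set.range fun i : Fin d => (γ i ^ c) ^ 8) :=
        Ideal.subset_span ⟨i, rfl⟩
      have h2 := hE3 _ h1
      rw [map_pow, map_pow, ← pow_mul] at h2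
      exact h2)
    refine ⟨G, iG1, iG2, hGsm, ?_⟩
    -- the map from `B` to `G`
    obtain ⟨valG, hvGl, hvGr⟩ : ∃ valG : Fin d ⊕ Fin d × Fin r → G,
        (∀ i, valG (Sum.inl i) = algebraMap E G (f (γ i))) ∧
        (∀ i j, valG (Sum.inr (i, j)) = Z i j) :=
      ⟨Sum.elim (fun i => algebraMap E G (f (γ i))) (fun ij => Z ij.1 ij.2),
        fun _ => rfl, fun _ _ => rfl⟩
    obtain ⟨βB, hβC, hβX⟩ := NeronAlgH4.exists_hom d n r a αG valG (by
      intro i
      rw [hvGl, g4 i]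
      refine Finset.sum_congr rfl (fun j _ => ?_)
      rw [hvGr])
    letI algPG : Algebra (MvPolynomial (Fin d) k) G :=
      ((algebraMap E G).comp (f.comp (algebraMap (MvPolynomial (Fin d) k) R))).toAlgebra
    letI algkG : Algebra k G :=
      ((algebraMap (MvPolynomial (Fin d) k) G).comp
        (algebraMap k (MvPolynomial (Fin d) k))).toAlgebra
    haveI twkPG : IsScalarTower k (MvPolynomial (Fin d) k) G :=
      IsScalarTower.of_algebraMap_eq (fun _ => rfl)
    have halgPG : ∀ p, algebraMap (MvPolynomial (Fin d) k) G p =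
        algebraMap E G (f (algebraMap (MvPolynomial (Fin d) k) R p)) := fun _ => rfl
    have hlinG := NeronAlgH4.hom_algebraMap d n r a βB
      (fun c' => by
        rw [hβC, g2]
        show _ = algebraMap (MvPolynomial (Fin d) k) G (algebraMap k (MvPolynomial (Fin d) k) c')
        rw [halgPG, ← IsScalarTower.algebraMap_apply k (MvPolynomial (Fin d) k) R])
      (fun i => by rw [hβX, hvGl, halgPG, halgPR])
    obtain ⟨β₀, hβ₀⟩ : ∃ β₀ : C₀ →ₐ[MvPolynomial (Fin d) k] G, ∀ x, β₀ x = βB (ρ x) := by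
      refine ⟨{ βB.comp ρ.toRingHom with commutes' := ?_ }, fun _ => rfl⟩
      intro p
      show βB (ρ (algebraMap (MvPolynomial (Fin d) k) C₀ p)) = _
      rw [IsScalarTower.algebraMap_apply (MvPolynomial (Fin d) k) (NeronAlgH4.BB d n r a) C₀,
        hρ, hlinG]
    obtain ⟨βR, hβR⟩ : ∃ βR : R →ₐ[MvPolynomial (Fin d) k] G, ∀ x, βR x = algebraMap E G (f x) :=
      ⟨{ (algebraMap E G).comp f with commutes' := fun _ => rfl }, fun _ => rfl⟩
    obtain ⟨β, hβ⟩ : ∃ β : R ⊗[MvPolynomial (Fin d) k] C₀ →+* G,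
        ∀ (x : R) (y : C₀), β (x ⊗ₜ y) = algebraMap E G (f x) * βB (ρ y) := by
      refine ⟨(Algebra.TensorProduct.lift βR β₀ (fun _ _ => Commute.all _ _)).toRingHom, ?_⟩
      intro x y
      show Algebra.TensorProduct.lift βR β₀ _ (x ⊗ₜ y) = _
      rw [Algebra.TensorProduct.lift_tmul, hβR, hβ₀]
    -- compatibility on `B`
    have hkey : ∀ b, hG (βB b) = Ideal.Quotient.mk _
        (algebraMap Λ (Localization.AtPrime 𝔮) (φB b)) := by
      have h0 : hG.comp βB = ((Ideal.Quotient.mk _).comp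
          (algebraMap Λ (Localization.AtPrime 𝔮))).comp φB.toRingHom := by
        apply Ideal.Quotient.ringHom_ext
        apply MvPolynomial.ringHom_ext
        · intro x
          show hG (βB (Ideal.Quotient.mk _ (C x))) = Ideal.Quotient.mk _
            (algebraMap Λ (Localization.AtPrime 𝔮) (φB (Ideal.Quotient.mk _ (C x))))
          rw [hβC, g3, hφB, hψC]
          rfl
        · intro s
          show hG (βB (Ideal.Quotient.mk _ (X s))) = Ideal.Quotient.mk _
            (algebraMap Λ (Localization.AtPrime 𝔮) (φB (Ideal.Quotient.mk _ (X s))))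
          rw [hβX, hφB, hψX]
          rcases s with i | ⟨i, j⟩
          · rw [hvGl, g1, hE1, hvl]
          · rw [hvGr, g5, hvr]
      exact fun b => RingHom.congr_fun h0 b
    refine ⟨β, hG, ?_, g1, ?_⟩
    · intro x
      rw [Algebra.TensorProduct.algebraMap_apply, hβ, map_one, map_one, mul_one]
      rfl
    · intro x
      induction x using TensorProduct.induction_on with
      | zero => rw [map_zero, map_zero, map_zero, map_zero, map_zero]
      | tmul x y =>
        rw [hβ, map_mul, g1, hE1, hkey, hφC, hφC₀, map_mul, map_mul]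
      | add x y hx hy =>
        rw [map_add, map_add, hx, hy, map_add, map_add, map_add]
  -- the annihilator conditions
  have hval : ∀ j, algebraMap R Λ (π' j) = algebraMap R Λ (γ j) ^ c := fun j => by
    rw [hπ', map_pow]
  have hRq : ∀ i : Fin d, ∀ x : R ⧸ Ideal.span
        (Set.range fun j : {j : Fin d // (j : ℕ) < (i : ℕ)} => π' j ^ 8),
      Ideal.Quotient.mk _ (π' i) ^ 2 * x = 0 → Ideal.Quotient.mk _ (π' i) * x = 0 := by
    intro i x hx
    obtain ⟨f, rfl⟩ := Ideal.Quotient.mk_surjective x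
    rw [← map_pow, ← map_mul, Ideal.Quotient.eq_zero_iff_mem] at hx
    rw [← map_mul, Ideal.Quotient.eq_zero_iff_mem]
    have hfun : (fun j : {j : Fin d // (j : ℕ) < (i : ℕ)} => π' j ^ 8) =
        fun j : {j : Fin d // (j : ℕ) < (i : ℕ)} => γ (j : Fin d) ^ (c * 8) :=
      funext (fun j => by rw [hπ', ← pow_mul])
    rw [hfun] at hx ⊢
    rw [hπ'] at hx ⊢
    exact ResolveSepH4.pow_mul_mem_of_sq _ (γ i) (hR i) c hc f hx
  have hΛq : ∀ i : Fin d, ∀ x : Λ ⧸ Ideal.span
        (Set.range fun j : {j : Fin d // (j : ℕ) < (i : ℕ)} => algebraMap R Λ (π' j) ^ 8),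
      Ideal.Quotient.mk _ (algebraMap R Λ (π' i)) ^ 2 * x = 0 →
        Ideal.Quotient.mk _ (algebraMap R Λ (π' i)) * x = 0 := by
    intro i x hx
    obtain ⟨y, rfl⟩ := Ideal.Quotient.mk_surjective x
    rw [← map_pow, ← map_mul, Ideal.Quotient.eq_zero_iff_mem] at hx
    rw [← map_mul, Ideal.Quotient.eq_zero_iff_mem]
    have hfun : (fun j : {j : Fin d // (j : ℕ) < (i : ℕ)} => algebraMap R Λ (π' j) ^ 8) =
        fun j : {j : Fin d // (j : ℕ) < (i : ℕ)} => algebraMap R Λ (γ (j : Fin d)) ^ (c * 8) :=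
      funext (fun j => by rw [hval, ← pow_mul])
    rw [hfun] at hx ⊢
    rw [hval] at hx ⊢
    exact ResolveSepH4.pow_mul_mem_of_sq _ (algebraMap R Λ (γ i)) (hΛ i) c hc y hx
  have hπ𝔮' : ∀ i, algebraMap R Λ (π' i) ∈ 𝔮 := by
    intro i
    rw [hval]
    exact Ideal.pow_mem_of_mem 𝔮 (hγ𝔮 i) c (by omega)
  obtain ⟨D, iD1, iD2, hDfp, g, h, hgh, hle, hnle⟩ :=
    ResolveIndH4.main6822 φC 𝔮 hdpos π' hπ𝔮' hRq hΛq hstd K hK φK hφK hresK
  -- transfer to `k`
  letI algkD : Algebra k D := ((algebraMap R D).comp (algebraMap k R)).toAlgebra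
  haveI twD : IsScalarTower k R D := IsScalarTower.of_algebraMap_eq (fun _ => rfl)
  haveI := hDfp
  haveI hDfpk : Algebra.FinitePresentation k D := Algebra.FinitePresentation.trans k R D
  obtain ⟨ι, hι⟩ : ∃ ι : A →+* R ⊗[MvPolynomial (Fin d) k] C₀, ∀ x, ι x =
      (1 : R) ⊗ₜ[MvPolynomial (Fin d) k] (algebraMap (NeronAlgH4.BB d n r a) C₀
        (NeronAlgH4.α (k := k) d n r a x)) :=
    ⟨(Algebra.TensorProduct.includeRight :
        C₀ →ₐ[MvPolynomial (Fin d) k] R ⊗[MvPolynomial (Fin d) k] C₀).toRingHom.comp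
      ((algebraMap (NeronAlgH4.BB d n r a) C₀).comp
        (NeronAlgH4.α (k := k) d n r a).toRingHom), fun _ => rfl⟩
  have hφCι : ∀ x, φC (ι x) = φ x := by
    intro x
    rw [hι, hφC, map_one, one_mul, hφC₀, hρ, hφB]
    exact hψC x
  obtain ⟨gA₀, hgA₀⟩ : ∃ gA₀ : A →+* D, ∀ x, gA₀ x = g (ι x) :=
    ⟨g.toRingHom.comp ι, fun _ => rfl⟩
  have hgAk : ∀ c' : k, gA₀ (algebraMap k A c') = algebraMap k D c' := by
    intro c'
    rw [hgA₀, hι, AlgHom.commutes,
      IsScalarTower.algebraMap_apply k (MvPolynomial (Fin d) k) (NeronAlgH4.BB d n r a),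
      ← IsScalarTower.algebraMap_apply (MvPolynomial (Fin d) k) (NeronAlgH4.BB d n r a) C₀,
      ← htens, ← IsScalarTower.algebraMap_apply k (MvPolynomial (Fin d) k) R]
    have e1 : (algebraMap k R c') ⊗ₜ[MvPolynomial (Fin d) k] (1 : C₀) =
        algebraMap R (R ⊗[MvPolynomial (Fin d) k] C₀) (algebraMap k R c') :=
      (Algebra.TensorProduct.algebraMap_apply _).symm
    rw [e1, AlgHom.commutes]
    rfl
  obtain ⟨gA, hgA⟩ : ∃ gA : A →ₐ[k] D, ∀ x, gA x = gA₀ x :=
    ⟨{ gA₀ with commutes' := hgAk }, fun _ => rfl⟩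
  obtain ⟨hk, hhk⟩ : ∃ hk : D →ₐ[k] Λ, ∀ x, hk x = h x :=
    ⟨h.restrictScalars k, fun _ => rfl⟩
  have hsingDk : Smoothing.singularIdeal R D ≤ Smoothing.singularIdeal k D :=
    SepIndSmH4.singularIdeal_le_of_tower
  have hmapeq : ∀ J : Ideal D, J.map hk = J.map h := by
    intro J
    apply le_antisymm
    · rw [Ideal.map_le_iff_le_comap]
      intro x hx
      rw [Ideal.mem_comap, hhk]
      exact Ideal.mem_map_of_mem h hx
    · rw [Ideal.map_le_iff_le_comap]
      intro x hx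
      rw [Ideal.mem_comap, ← hhk]
      exact Ideal.mem_map_of_mem hk hx
  have hRk : Smoothing.singRad R h ≤ Smoothing.singRad k hk := by
    unfold Smoothing.singRad
    rw [hmapeq]
    exact Ideal.radical_mono (Ideal.map_mono hsingDk)
  refine ⟨D, iD1, algkD, hDfpk, gA, hk, ?_, ?_, ?_⟩
  · apply AlgHom.ext
    intro x
    show hk (gA x) = φ x
    rw [hhk, hgA, hgA₀]
    have h2 : h (g (ι x)) = φC (ι x) := AlgHom.congr_fun hgh _
    rw [h2, hφCι]
  · refine le_trans ?_ (le_trans hle hRk)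
    unfold Smoothing.singRad
    rw [Ideal.radical_le_radical_iff, Ideal.map_le_iff_le_comap]
    intro x hx
    rw [Ideal.mem_comap]
    apply Ideal.le_radical
    rw [← hφCι x]
    apply Ideal.mem_map_of_mem
    apply ResolveSepH4.mem_of_smooth_away
    rw [hι]
    exact smooth_away_baseChange _ (hsm0 x hx)
  · intro hcon
    exact hnle (le_trans hRk hcon)

end Assemble

end Groth.Agent.Lib.InsepGlobH5
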