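import Mathlib
import Groth.Agent.Lib.InsepGlob8_helper5
import Groth.Agent.Lib.InsepGlob6_helper5

set_option autoImplicit false
set_option linter.style.haveILetI false
set_option linter.unusedVariables false
set_option maxHeartbeats 1600000

universe u

open TensorProduct MvPolynomial IsLocalRing

namespace Groth.Agent.Lib.InsepGlobH5

/-- lifting the relations `ϖᵢⁿ = Σ zᵢⱼ aⱼ` from `T/m^n'` to `T`, modulo an ideal containing
`m^(n'-n)` -/
theorem exists_cij {T : Type u} [CommRing T] [IsLocalRing T] (n n' : ℕ) (hle : n ≤ n')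
    (JT : Ideal T) (hJT : maximalIdeal T ^ (n' - n) ≤ JT) {d r : ℕ} (ϖ : Fin d → T)
    (a' : Fin r → T) (hpow : maximalIdeal T ^ n ≤ Ideal.span (Set.range a'))
    (zc : Fin d → Fin r → T ⧸ maximalIdeal T ^ n')
    (hrel : ∀ i, Ideal.Quotient.mk (maximalIdeal T ^ n') (ϖ i) ^ n =
      ∑ j, zc i j * Ideal.Quotient.mk (maximalIdeal T ^ n') (a' j)) :
    ∃ z' : Fin d → Fin r → T, (∀ i, ϖ i ^ n = ∑ j, z' i j * a' j) ∧
      ∀ i j, ∃ z₀ : T, Ideal.Quotient.mk (maximalIdeal T ^ n') z₀ = zc i j ∧ z' i j - z₀ ∈ JT := by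
  classical
  choose z₀ hz₀ using fun i j => Ideal.Quotient.mk_surjective (zc i j)
  have herr : ∀ i, ϖ i ^ n - ∑ j, z₀ i j * a' j ∈ maximalIdeal T ^ n' := by
    intro i
    rw [← Ideal.Quotient.eq_zero_iff_mem, map_sub, map_pow, hrel i, map_sum, sub_eq_zero]
    apply Finset.sum_congr rfl
    intro j _
    rw [map_mul, hz₀]
  have hsplit : maximalIdeal T ^ n' ≤ Ideal.span (Set.range a') * maximalIdeal T ^ (n' - n) := by
    have e1 : n' = n + (n' - n) := by omega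
    conv_lhs => rw [e1, pow_add]
    exact Ideal.mul_mono_left hpow
  choose ε hε1 hε2 using fun i =>
    Groth.Agent.Lib.CotFlatH3.exists_sum_of_mem_span_mul a' _ _ (hsplit (herr i))
  refine ⟨fun i j => z₀ i j + ε i j, ?_, ?_⟩
  · intro i
    have h1 := hε2 i
    have e2 : ∑ j, (z₀ i j + ε i j) * a' j = ∑ j, z₀ i j * a' j + ∑ j, a' j * ε i j := by
      rw [← Finset.sum_add_distrib]
      apply Finset.sum_congr rfl
      intro j _
      ring
    rw [e2, ← h1]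
    ring
  · intro i j
    refine ⟨z₀ i j, hz₀ i j, ?_⟩
    have : z₀ i j + ε i j - z₀ i j = ε i j := by ring
    rw [this]
    exact hJT (hε1 i j)


/-- the smooth factor over an arbitrary base `E` receiving the truncated local ring -/
theorem hfac_core {k : Type u} [Field k] {T : Type u} [CommRing T] [Algebra k T]
    {σ : Type} (u : σ → T) {d r : ℕ} (g : Fin d → MvPolynomial σ k)
    {A : Type u} [CommRing A] [Algebra k A] (a : Fin r → A) (φT : A →+* T) (n n' : ℕ)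
    (Pu : MvPolynomial σ k → Prop)
    {Qb : Type u} [CommRing Qb] (κ : MvPolynomial σ k →+* Qb)
    (UP : ∀ (E : Type u) [CommRing E] (f : MvPolynomial σ k →+* E),
      (∀ s, Pu s → IsUnit (f s)) → Ideal.span (Set.range fun i => f (g i)) ^ n' = ⊥ →
      ∃ ι : Qb →+* E, ∀ q, ι (κ q) = f q)
    (EPI : ∀ (E : Type u) [CommRing E] (f₁ f₂ : Qb →+* E),
      (∀ q, f₁ (κ q) = f₂ (κ q)) → f₁ = f₂)
    {S₀ : Type u} [CommRing S₀] [Algebra Qb S₀] [Algebra.Smooth Qb S₀]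
    {L : Type u} [CommRing L] (mkL : T →+* L)
    (h₀L : S₀ →+* L) (α₀ : A →+* S₀) (ζ : Fin d → Fin r → S₀)
    (l1 : ∀ q, h₀L (algebraMap Qb S₀ (κ q)) = mkL (aeval u q))
    (l2 : ∀ c : k, α₀ (algebraMap k A c) = algebraMap Qb S₀ (κ (C c)))
    (l3 : ∀ x, h₀L (α₀ x) = mkL (φT x))
    (l4 : ∀ i, algebraMap Qb S₀ (κ (g i)) ^ n = ∑ j, ζ i j * α₀ (a j))
    (z' : Fin d → Fin r → T) (l5 : ∀ i j, h₀L (ζ i j) = mkL (z' i j))
    {E : Type u} [CommRing E] (θ : E →+* L) (fQ : MvPolynomial σ k →+* E)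
    (hθQ : ∀ q, θ (fQ q) = mkL (aeval u q))
    (hfQu : ∀ s, Pu s → IsUnit (fQ s))
    (hnil : Ideal.span (Set.range fun i => fQ (g i)) ^ n' = ⊥)
    (Υ : Fin d → E) :
    ∃ (G : Type u) (_ : CommRing G) (_ : Algebra E G), Algebra.Smooth E G ∧
      ∃ (αG : A →+* G) (Z : Fin d → Fin r → G) (hG : G →+* L),
        (∀ x, hG (algebraMap E G x) = θ x) ∧
        (∀ c' : k, αG (algebraMap k A c') = algebraMap E G (fQ (C c'))) ∧
        (∀ x, hG (αG x) = mkL (φT x)) ∧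
        (∀ i, algebraMap E G (Υ i * fQ (g i)) ^ n = ∑ j, Z i j * αG (a j)) ∧
        (∀ i j, hG (Z i j) = θ (Υ i) ^ n * mkL (z' i j)) := by
  classical
  obtain ⟨ι, hι⟩ := UP E fQ hfQu hnil
  letI algQE : Algebra Qb E := ι.toAlgebra
  letI algQL : Algebra Qb L := (θ.comp ι).toAlgebra
  have hcompat : h₀L.comp (algebraMap Qb S₀) = θ.comp ι := by
    apply EPI
    intro q
    show h₀L (algebraMap Qb S₀ (κ q)) = θ (ι (κ q))
    rw [l1, hι, hθQ]
  obtain ⟨θa, hθa⟩ : ∃ θa : E →ₐ[Qb] L, ∀ x, θa x = θ x :=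
    ⟨{ θ with commutes' := fun _ => rfl }, fun _ => rfl⟩
  obtain ⟨h₀a, hh₀a⟩ : ∃ h₀a : S₀ →ₐ[Qb] L, ∀ x, h₀a x = h₀L x :=
    ⟨{ h₀L with commutes' := fun q => RingHom.congr_fun hcompat q }, fun _ => rfl⟩
  obtain ⟨hG, hhG⟩ : ∃ hG : E ⊗[Qb] S₀ →+* L, ∀ (x : E) (y : S₀), hG (x ⊗ₜ y) = θ x * h₀L y := by
    refine ⟨(Algebra.TensorProduct.lift θa h₀a (fun _ _ => Commute.all _ _)).toRingHom, ?_⟩
    intro x y
    show Algebra.TensorProduct.lift θa h₀a _ (x ⊗ₜ y) = _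
    rw [Algebra.TensorProduct.lift_tmul, hθa, hh₀a]
  have hmove : ∀ (q : Qb) (x : E) (y : S₀),
      x ⊗ₜ[Qb] (algebraMap Qb S₀ q * y) = (ι q * x) ⊗ₜ[Qb] y := by
    intro q x y
    have e1 : ι q * x = q • x := by
      rw [Algebra.smul_def]
      rfl
    rw [e1, TensorProduct.smul_tmul, Algebra.smul_def]
  refine ⟨E ⊗[Qb] S₀, inferInstance, inferInstance, inferInstance,
    (Algebra.TensorProduct.includeRight : S₀ →ₐ[Qb] E ⊗[Qb] S₀).toRingHom.comp α₀,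
    fun i j => (Υ i ^ n) ⊗ₜ[Qb] ζ i j, hG, ?_, ?_, ?_, ?_, ?_⟩
  · intro x
    rw [Algebra.TensorProduct.algebraMap_apply, hhG, map_one, mul_one]
    rfl
  · intro c'
    show (1 : E) ⊗ₜ[Qb] α₀ (algebraMap k A c') = _
    rw [l2, Algebra.TensorProduct.algebraMap_apply]
    have := hmove (κ (C c')) 1 1
    rw [mul_one, mul_one, hι] at this
    rw [this]
    rfl
  · intro x
    show hG ((1 : E) ⊗ₜ[Qb] α₀ x) = _
    rw [hhG, map_one, one_mul, l3]
  · intro i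
    rw [Algebra.TensorProduct.algebraMap_apply, Algebra.TensorProduct.tmul_pow, one_pow]
    have e1 : (algebraMap E E (Υ i * fQ (g i))) ^ n = ι (κ (g i) ^ n) * Υ i ^ n := by
      rw [map_pow, hι]
      show (Υ i * fQ (g i)) ^ n = _
      ring
    rw [e1, ← hmove, mul_one, map_pow, l4, TensorProduct.tmul_sum]
    apply Finset.sum_congr rfl
    intro j _
    show _ = (Υ i ^ n) ⊗ₜ[Qb] ζ i j * ((1 : E) ⊗ₜ[Qb] α₀ (a j))
    rw [Algebra.TensorProduct.tmul_mul_tmul, mul_one]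
  · intro i j
    show hG ((Υ i ^ n) ⊗ₜ[Qb] ζ i j) = _
    rw [hhG, map_pow, l5]

end Groth.Agent.Lib.InsepGlobH5
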