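import Mathlib
import Groth.Prelude.Def_Smoothing
import Groth.Prelude.Def_Found
import Groth.Agent.Lib.InsepGlob9_helper5
import Groth.Agent.Lib.GeomRegFS_helper3
import Groth.Agent.Lib.FSGeomRed_helper3

set_option autoImplicit false
set_option linter.style.haveILetI false
set_option linter.unusedVariables false
set_option maxHeartbeats 3200000

universe u

open TensorProduct MvPolynomial IsLocalRing Module

namespace Groth.Agent.Lib.InsepGlobH5

open Groth.Agent.Lib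

/-- a power of the maximal ideal of the local ring at a minimal prime lies in the extended ideal -/
theorem exists_pow_le_map {Λ : Type u} [CommRing Λ] [IsNoetherianRing Λ] (I 𝔮 : Ideal Λ)
    [𝔮.IsPrime] (hmin : 𝔮 ∈ I.minimalPrimes) :
    ∃ n : ℕ, 0 < n ∧ maximalIdeal (Localization.AtPrime 𝔮) ^ n ≤
      I.map (algebraMap Λ (Localization.AtPrime 𝔮)) := by
  classical
  have hmax : 𝔮.map (algebraMap Λ (Localization.AtPrime 𝔮)) =
      maximalIdeal (Localization.AtPrime 𝔮) :=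
    IsLocalization.AtPrime.map_eq_maximalIdeal 𝔮 (Localization.AtPrime 𝔮)
  have hrad : maximalIdeal (Localization.AtPrime 𝔮) ≤
      (I.map (algebraMap Λ (Localization.AtPrime 𝔮))).radical := by
    rw [Ideal.radical_eq_sInf]
    apply le_sInf
    rintro P' ⟨hIP', hP'⟩
    haveI := hP'
    have hIP : I ≤ P'.comap (algebraMap Λ (Localization.AtPrime 𝔮)) :=
      Ideal.map_le_iff_le_comap.mp hIP'
    have hPq : P'.comap (algebraMap Λ (Localization.AtPrime 𝔮)) ≤ 𝔮 := by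
      intro x hx
      have h1 : algebraMap Λ (Localization.AtPrime 𝔮) x ∈ maximalIdeal (Localization.AtPrime 𝔮) :=
        IsLocalRing.le_maximalIdeal hP'.ne_top hx
      exact (IsLocalization.AtPrime.to_map_mem_maximal_iff (Localization.AtPrime 𝔮) 𝔮 x).mp h1
    have hPP : (P'.comap (algebraMap Λ (Localization.AtPrime 𝔮))).IsPrime ∧
        I ≤ P'.comap (algebraMap Λ (Localization.AtPrime 𝔮)) := ⟨Ideal.comap_isPrime _ _, hIP⟩
    have hqP : 𝔮 ≤ P'.comap (algebraMap Λ (Localization.AtPrime 𝔮)) := hmin.2 hPP hPq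
    rw [← hmax]
    exact (Ideal.map_mono hqP).trans Ideal.map_comap_le
  obtain ⟨n₀, hn₀⟩ := Ideal.exists_pow_le_of_le_radical_of_fg hrad (IsNoetherian.noetherian _)
  exact ⟨n₀ + 1, Nat.succ_pos _, (Ideal.pow_le_pow_right (Nat.le_succ n₀)).trans hn₀⟩

/-- the case of a zero-dimensional local ring -/
theorem case_d0 {k A Λ : Type u} [Field k] [CommRing A] [Algebra k A]
    [Algebra.FinitePresentation k A] [CommRing Λ] [Algebra k Λ] (φ : A →ₐ[k] Λ) (𝔮 : Ideal Λ)
    [𝔮.IsPrime] [IsRegularLocalRing (Localization.AtPrime 𝔮)]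
    (hAdic : CAlgX.IsAdicFormallySmooth k (Localization.AtPrime 𝔮)
      (maximalIdeal (Localization.AtPrime 𝔮)))
    (hd0 : (maximalIdeal (Localization.AtPrime 𝔮)).spanFinrank = 0) :
    Smoothing.Resolvable k φ 𝔮 := by
  have hbot : maximalIdeal (Localization.AtPrime 𝔮) = ⊥ :=
    (Submodule.spanFinrank_eq_zero_iff_eq_bot (IsNoetherian.noetherian _)).mp hd0
  haveI hFS : Algebra.FormallySmooth k (Localization.AtPrime 𝔮) := by
    apply Algebra.FormallySmooth.of_comp_surjective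
    intro B _ _ J hJ ψ
    obtain ⟨χ, hχ⟩ := hAdic B J hJ ψ ⟨1, fun x hx => by
      rw [pow_one, hbot] at hx
      rw [Ideal.mem_bot.mp hx, map_zero]⟩
    exact ⟨χ, hχ⟩
  have hbij : Function.Bijective (IsScalarTower.toAlgHom k (Localization.AtPrime 𝔮)
      (ResidueField (Localization.AtPrime 𝔮))) := by
    constructor
    · rw [injective_iff_map_eq_zero]
      intro x hx
      have h1 : residue (Localization.AtPrime 𝔮) x = 0 := hx
      rw [residue_eq_zero_iff, hbot] at h1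
      exact Ideal.mem_bot.mp h1
    · exact residue_surjective
  haveI : Algebra.FormallySmooth k 𝔮.ResidueField :=
    Algebra.FormallySmooth.of_equiv (AlgEquiv.ofBijective _ hbij)
  haveI : Algebra.IsGeometricallyReduced k 𝔮.ResidueField :=
    (FSGRH3.formallySmooth_iff_isGeometricallyReduced k 𝔮.ResidueField).mp inferInstance
  exact ResolveSepH4.case_zero φ 𝔮 hd0 SepIndSmH4.indSmooth_of_isGeometricallyReduced


/-- the case of a positive-dimensional local ring -/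
theorem case_dpos {k A Λ : Type u} [Field k] (p : ℕ) [Fact p.Prime] [CharP k p] [CommRing A]
    [Algebra k A] [Algebra.FinitePresentation k A] [CommRing Λ] [Algebra k Λ]
    [IsNoetherianRing Λ] (φ : A →ₐ[k] Λ) (𝔮 : Ideal Λ)
    [𝔮.IsPrime] [IsRegularLocalRing (Localization.AtPrime 𝔮)]
    (hmin : 𝔮 ∈ (Smoothing.singRad k φ).minimalPrimes)
    (hAdic : CAlgX.IsAdicFormallySmooth k (Localization.AtPrime 𝔮)
      (maximalIdeal (Localization.AtPrime 𝔮)))
    (d : ℕ) (hd : (maximalIdeal (Localization.AtPrime 𝔮)).spanFinrank = d) (hdpos : 0 < d) :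
    Smoothing.Resolvable k φ 𝔮 := by
  classical
  have hdcot : finrank (ResidueField (Localization.AtPrime 𝔮))
      (CotangentSpace (Localization.AtPrime 𝔮)) = d := by
    rw [← hd, IsLocalRing.spanFinrank_maximalIdeal_eq_finrank_cotangentSpace]
  haveI hAN : IsNoetherianRing A := Algebra.FiniteType.isNoetherianRing k A
  obtain ⟨r, a, ha0⟩ := Submodule.fg_iff_exists_fin_generating_family.mp
    (IsNoetherian.noetherian (Smoothing.singularIdeal k A))
  have ha : Ideal.span (Set.range a) = Smoothing.singularIdeal k A := ha0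
  have haH : ∀ j, a j ∈ Smoothing.singularIdeal k A := by
    intro j
    rw [← ha]
    exact Ideal.subset_span ⟨j, rfl⟩
  have hasm : ∀ j, Algebra.FormallySmooth k (Localization.Away (a j)) := fun j =>
    (ResolveSepH4.smooth_away_of_mem (a j) (haH j)).formallySmooth
  obtain ⟨I, hI⟩ : ∃ I : Ideal Λ, I = (Smoothing.singularIdeal k A).map φ := ⟨_, rfl⟩
  have hminI : 𝔮 ∈ I.minimalPrimes := by
    rw [hI, ← Ideal.radical_minimalPrimes]
    exact hmin
  have hIspan : I = Ideal.span (Set.range fun j => φ (a j)) := by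
    rw [hI, ← ha, Ideal.map_span, ← Set.range_comp]
    rfl
  obtain ⟨n, hn, hpowI⟩ := exists_pow_le_map I 𝔮 hminI
  obtain ⟨φT, hφT⟩ : ∃ φT : A →ₐ[k] Localization.AtPrime 𝔮,
      ∀ x, φT x = algebraMap Λ (Localization.AtPrime 𝔮) (φ x) :=
    ⟨(IsScalarTower.toAlgHom k Λ (Localization.AtPrime 𝔮)).comp φ, fun _ => rfl⟩
  have hpow : maximalIdeal (Localization.AtPrime 𝔮) ^ n ≤
      Ideal.span (Set.range fun j => φT (a j)) := by
    refine hpowI.trans (le_of_eq ?_)
    rw [hIspan, Ideal.map_span, ← Set.range_comp]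
    congr 2
    funext j
    exact (hφT _).symm
  -- the algebras `B` and `C₀`
  have hBsm : ∀ b : NeronAlgH4.BB d n r a,
      b ∈ (Ideal.span (Set.range fun j => NeronAlgH4.α (k := k) d n r a (a j))).radical →
      Algebra.Smooth (MvPolynomial (Fin d) k) (Localization.Away b) :=
    fun b hb => NeronAlgH4.smooth_away d n r a hasm b hb
  obtain ⟨C₀, iC1, iC2, iC3, iC4, hCfp, ⟨ρ⟩, hC⟩ :=
    ElkikFreeH4.main_elkik (R := MvPolynomial (Fin d) k) (A := NeronAlgH4.BB d n r a)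
  haveI := hCfp
  have hxrad : ∀ i : Fin d,
      algebraMap (MvPolynomial (Fin d) k) (NeronAlgH4.BB d n r a) (X i) ∈
        (Ideal.span (Set.range fun j => NeronAlgH4.α (k := k) d n r a (a j))).radical :=
    fun i => ⟨n, NeronAlgH4.x_pow_mem d n r a i⟩
  have hstd00 : ∀ i : Fin d, ∃ e₀ : ℕ, ∀ m : ℕ, e₀ ≤ m →
      Smoothing.IsStrictlyStandard (MvPolynomial (Fin d) k) C₀
        (algebraMap (NeronAlgH4.BB d n r a) C₀
          (algebraMap (MvPolynomial (Fin d) k) (NeronAlgH4.BB d n r a) (X i)) ^ m) :=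
    fun i => (hC _ (hBsm _ (hxrad i))).2
  choose e₀ he₀ using hstd00
  obtain ⟨c, hc1, hce⟩ : ∃ c : ℕ, 1 ≤ c ∧ ∀ i, e₀ i ≤ c :=
    ⟨Finset.univ.sup e₀ + 1, by omega, fun i =>
      (Finset.le_sup (Finset.mem_univ i)).trans (Nat.le_succ _)⟩
  have hstd0 : ∀ i : Fin d, Smoothing.IsStrictlyStandard (MvPolynomial (Fin d) k) C₀
      (algebraMap (MvPolynomial (Fin d) k) C₀ (X i ^ c)) := by
    intro i
    have h1 := he₀ i c (hce i)
    rw [← IsScalarTower.algebraMap_apply (MvPolynomial (Fin d) k) (NeronAlgH4.BB d n r a) C₀,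
      ← map_pow] at h1
    exact h1
  have hsm0 : ∀ x ∈ Smoothing.singularIdeal k A, Algebra.Smooth (MvPolynomial (Fin d) k)
      (Localization.Away (algebraMap (NeronAlgH4.BB d n r a) C₀
        (NeronAlgH4.α (k := k) d n r a x))) := by
    intro x hx
    refine (hC _ (hBsm _ ?_)).1
    apply Ideal.le_radical
    have h1 : x ∈ Ideal.span (Set.range a) := by
      rw [ha]
      exact hx
    have h2 := Ideal.mem_map_of_mem (NeronAlgH4.α (k := k) d n r a) h1
    rw [Ideal.map_span, ← Set.range_comp] at h2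
    exact h2
  -- the local lemma
  obtain ⟨n', hn'⟩ : ∃ n' : ℕ, n' = n + (d * (c * 8) + 1) := ⟨_, rfl⟩
  obtain ⟨t, d'', u, g, hgm, hgspan, hgen, Qb, iQ, κ, UP, EPI, S₀, iS1, iS2, hS₀sm, h₀, α₀, ζ,
    l1, l2, l3, l4⟩ := local_lemma' p hAdic d hdcot n' (by omega) φT a n hpow
  haveI := hS₀sm
  obtain ⟨ϕ₁, πh, sh, hW, hYW, hsh, hannR, hL⟩ :=
    GYconc (k := k) 𝔮 d hdcot u g hgm hgspan hgen (c * 8) (by omega)
  -- the `T`-side
  obtain ⟨pp, hpp⟩ : ∃ pp : Fin d → Λ, ∀ i, pp i = ϕ₁ (πh i) := ⟨_, fun _ => rfl⟩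
  have hunitT : ∀ x : Λ, x ∉ 𝔮 → IsUnit (algebraMap Λ (Localization.AtPrime 𝔮) x) := fun x hx =>
    IsLocalization.map_units (Localization.AtPrime 𝔮) (⟨x, hx⟩ : 𝔮.primeCompl)
  have hp : ∀ i, aeval u (g i) * algebraMap Λ (Localization.AtPrime 𝔮) (ϕ₁ (sh i)) =
      algebraMap Λ (Localization.AtPrime 𝔮) (pp i) := by
    have h1 := (hL (Localization.AtPrime 𝔮)
      ((algebraMap Λ (Localization.AtPrime 𝔮)).comp ϕ₁.toRingHom)
      (aeval u : MvPolynomial (Fin t ⊕ Fin d'') k →ₐ[k] Localization.AtPrime 𝔮).toRingHom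
      (by
        intro c'
        show aeval u (C c') = algebraMap Λ (Localization.AtPrime 𝔮) (ϕ₁ (C c'))
        have e1 : ϕ₁ (C c') = algebraMap k Λ c' := ϕ₁.commutes c'
        have e2 : aeval u (C c') = algebraMap k (Localization.AtPrime 𝔮) c' :=
          (aeval u : MvPolynomial (Fin t ⊕ Fin d'') k →ₐ[k] Localization.AtPrime 𝔮).commutes c'
        rw [e1, e2, ← IsScalarTower.algebraMap_apply])
      (by
        intro s
        show aeval u (X s) * algebraMap Λ (Localization.AtPrime 𝔮) (ϕ₁ (X (Sum.inr s))) =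
          algebraMap Λ (Localization.AtPrime 𝔮) (ϕ₁ (X (Sum.inl s)))
        rw [aeval_X]
        exact hYW s)
      (fun r₁ hr₁ => hunitT _ hr₁)).1
    intro i
    rw [hpp]
    exact h1 i
  have hspanp : Ideal.span (Set.range fun i => algebraMap Λ (Localization.AtPrime 𝔮) (pp i)) =
      maximalIdeal (Localization.AtPrime 𝔮) := by
    rw [← hgspan]
    apply RegPowH8.span_range_unit_mul
    intro i
    exact ⟨_, hunitT _ (hsh i), by rw [← hp i, mul_comm]⟩
  obtain ⟨JT₀, hJT₀⟩ : ∃ JT₀ : Ideal (Localization.AtPrime 𝔮), JT₀ = Ideal.span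
      (Set.range fun i => algebraMap Λ (Localization.AtPrime 𝔮) (pp i) ^ (c * 8)) := ⟨_, rfl⟩
  have hmJT₀ : maximalIdeal (Localization.AtPrime 𝔮) ^ (d * (c * 8) + 1) ≤ JT₀ := by
    rw [hJT₀, ← hspanp]
    exact span_range_pow_le _ _
  obtain ⟨z', hz'rel, hz'JT⟩ := exists_cij n n' (by omega) JT₀
    (by
      have e1 : n' - n = d * (c * 8) + 1 := by omega
      rw [e1]
      exact hmJT₀)
    (fun i => aeval u (g i)) (fun j => φT (a j)) hpow (fun i j => h₀ (ζ i j))
    (by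
      intro i
      have h1 := congrArg h₀ (l4 i)
      rw [map_pow, l1, map_sum] at h1
      rw [h1]
      apply Finset.sum_congr rfl
      intro j _
      rw [map_mul, l3])
  obtain ⟨cT, hcTdef⟩ : ∃ cT : Fin d → Fin r → Localization.AtPrime 𝔮, ∀ i j, cT i j =
      algebraMap Λ (Localization.AtPrime 𝔮) (ϕ₁ (sh i)) ^ n * z' i j := ⟨_, fun _ _ => rfl⟩
  have hcT : ∀ i, algebraMap Λ (Localization.AtPrime 𝔮) (pp i) ^ n =
      ∑ j, cT i j * algebraMap Λ (Localization.AtPrime 𝔮) (φ (a j)) := by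
    intro i
    rw [← hp i, mul_pow, hz'rel i, Finset.sum_mul]
    apply Finset.sum_congr rfl
    intro j _
    rw [hcTdef, hφT]
    ring
  obtain ⟨Δ, lam, hΔ, hrelΛ, hlamT, hannΛ⟩ := exists_lam_mult 𝔮 (fun j => φ (a j)) n hn (c * 8)
    (by omega) pp cT hcT hspanp hd
  -- the base ring `R`
  letI algRΛ : Algebra (MvPolynomial (Fin d)
      (MvPolynomial ((Fin t ⊕ Fin d'') ⊕ (Fin t ⊕ Fin d'')) k)) Λ :=
    (eval₂Hom (ϕ₁ : MvPolynomial ((Fin t ⊕ Fin d'') ⊕ (Fin t ⊕ Fin d'')) k →+* Λ) Δ).toAlgebra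
  have halgC : ∀ r₁ : MvPolynomial ((Fin t ⊕ Fin d'') ⊕ (Fin t ⊕ Fin d'')) k,
      algebraMap (MvPolynomial (Fin d)
        (MvPolynomial ((Fin t ⊕ Fin d'') ⊕ (Fin t ⊕ Fin d'')) k)) Λ (C r₁) = ϕ₁ r₁ := fun r₁ => by
    show eval₂Hom _ Δ (C r₁) = _
    rw [eval₂Hom_C]
    rfl
  have halgXR : ∀ i : Fin d, algebraMap (MvPolynomial (Fin d)
        (MvPolynomial ((Fin t ⊕ Fin d'') ⊕ (Fin t ⊕ Fin d'')) k)) Λ (X i) = Δ i := fun i => by
    show eval₂Hom _ Δ (X i) = _
    rw [eval₂Hom_X']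
  haveI twkRΛ : IsScalarTower k (MvPolynomial (Fin d)
      (MvPolynomial ((Fin t ⊕ Fin d'') ⊕ (Fin t ⊕ Fin d'')) k)) Λ :=
    IsScalarTower.of_algebraMap_eq (fun c' => by
      rw [MvPolynomial.algebraMap_apply, halgC]
      exact (ϕ₁.commutes c').symm)
  have hγval : ∀ i, algebraMap (MvPolynomial (Fin d)
      (MvPolynomial ((Fin t ⊕ Fin d'') ⊕ (Fin t ⊕ Fin d'')) k)) Λ (gam πh i) = Δ i * pp i := by
    intro i
    unfold gam
    rw [map_mul, halgC, halgXR, hpp, mul_comm]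
  have hppq : ∀ i, pp i ∈ 𝔮 := by
    intro i
    rw [← IsLocalization.AtPrime.to_map_mem_maximal_iff (Localization.AtPrime 𝔮) 𝔮, ← hspanp]
    exact Ideal.subset_span ⟨i, rfl⟩
  have hJTeq : ((Ideal.span (Set.range fun i : Fin d => (gam πh i ^ c) ^ 8)).map
      (algebraMap (MvPolynomial (Fin d)
        (MvPolynomial ((Fin t ⊕ Fin d'') ⊕ (Fin t ⊕ Fin d'')) k)) Λ)).map
      (algebraMap Λ (Localization.AtPrime 𝔮)) = JT₀ := by
    rw [Ideal.map_span, Ideal.map_span, ← Set.range_comp, ← Set.range_comp, hJT₀]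
    apply RegPowH8.span_range_unit_mul
    intro i
    refine ⟨algebraMap Λ (Localization.AtPrime 𝔮) (Δ i) ^ (c * 8), (hunitT _ (hΔ i)).pow _, ?_⟩
    show algebraMap Λ (Localization.AtPrime 𝔮) (algebraMap _ Λ ((gam πh i ^ c) ^ 8)) = _
    have e1 : algebraMap (MvPolynomial (Fin d)
        (MvPolynomial ((Fin t ⊕ Fin d'') ⊕ (Fin t ⊕ Fin d'')) k)) Λ ((gam πh i ^ c) ^ 8) =
        (Δ i * pp i) ^ (c * 8) := by
      rw [map_pow, map_pow, hγval, ← pow_mul]
    rw [e1, map_pow, map_mul, mul_pow]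
  haveI hFSR : Algebra.FormallySmooth k (MvPolynomial (Fin d)
      (MvPolynomial ((Fin t ⊕ Fin d'') ⊕ (Fin t ⊕ Fin d'')) k)) :=
    Algebra.FormallySmooth.comp k (MvPolynomial ((Fin t ⊕ Fin d'') ⊕ (Fin t ⊕ Fin d'')) k) _
  refine assemble φ 𝔮 hdpos a ρ c hc1 hstd0 hsm0 (gam πh) lam ?_ ?_ ?_ ?_ (d * (c * 8) + 1) ?_ ?_
  · intro i
    rw [hγval, hrelΛ]
  · intro i
    rw [hγval]
    exact Ideal.mul_mem_left _ _ (hppq i)
  · intro i f hf
    exact gam_mul_mem (c * 8) πh i (hannR i) f hf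
  · intro i y hy
    have e1 : (fun j : {j : Fin d // (j : ℕ) < (i : ℕ)} =>
        algebraMap (MvPolynomial (Fin d)
          (MvPolynomial ((Fin t ⊕ Fin d'') ⊕ (Fin t ⊕ Fin d'')) k)) Λ (gam πh j) ^ (c * 8)) =
        fun j : {j : Fin d // (j : ℕ) < (i : ℕ)} => (Δ j * pp j) ^ (c * 8) :=
      funext (fun j => by rw [hγval])
    rw [e1, hγval, ← JS_filter_lt (c * 8) (fun j => Δ j * pp j) i] at hy ⊢
    exact hannΛ i _ (fun j hj => by simpa using hj) y hy
  · rw [hJTeq]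
    exact hmJT₀
  · intro E _ f θ hE1 hE2 hE3
    obtain ⟨f₁, hf₁⟩ : ∃ f₁ : MvPolynomial ((Fin t ⊕ Fin d'') ⊕ (Fin t ⊕ Fin d'')) k →+* E,
        ∀ r₁, f₁ r₁ = f (C r₁) := ⟨f.comp C, fun _ => rfl⟩
    have hf₁u : ∀ r₁, ϕ₁ r₁ ∉ 𝔮 → IsUnit (f₁ r₁) := fun r₁ h => by
      rw [hf₁]
      exact hE2 (C r₁) (by rw [halgC]; exact h)
    have hWu : ∀ s, IsUnit (f₁ (X (Sum.inr s))) := fun s => hf₁u _ (hW s)
    obtain ⟨fQ, hfQC, hfQX⟩ : ∃ fQ : MvPolynomial (Fin t ⊕ Fin d'') k →+* E,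
        (∀ c', fQ (C c') = f₁ (C c')) ∧
        (∀ s, fQ (X s) * f₁ (X (Sum.inr s)) = f₁ (X (Sum.inl s))) := by
      refine ⟨eval₂Hom (f₁.comp C) (fun s => f₁ (X (Sum.inl s)) * (((hWu s).unit⁻¹ : Eˣ) : E)),
        fun c' => ?_, fun s => ?_⟩
      · rw [eval₂Hom_C]
        rfl
      · rw [eval₂Hom_X', mul_assoc, IsUnit.val_inv_mul, mul_one]
    obtain ⟨hL1, hL2⟩ := hL E f₁ fQ hfQC hfQX hf₁u
    have hXu : ∀ i, IsUnit (f (X i)) := fun i => hE2 (X i) (by rw [halgXR]; exact hΔ i)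
    obtain ⟨Υ, hΥ⟩ : ∃ Υ : Fin d → E, ∀ i, Υ i = f (X i) * f₁ (sh i) := ⟨_, fun _ => rfl⟩
    have hΥu : ∀ i, IsUnit (Υ i) := fun i => by
      rw [hΥ]
      exact (hXu i).mul (hf₁u _ (hsh i))
    have hfγ : ∀ i, f (gam πh i) = Υ i * fQ (g i) := by
      intro i
      unfold gam
      rw [map_mul, ← hf₁, ← hL1 i, hΥ]
      ring
    have hgnil : ∀ i, fQ (g i) ^ (c * 8) = 0 := by
      intro i
      have h1 := hE3 i
      rw [hfγ, mul_pow] at h1
      exact (((hΥu i).pow _).mul_right_eq_zero).mp h1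
    have hnil : Ideal.span (Set.range fun i => fQ (g i)) ^ n' = ⊥ := by
      rw [← le_bot_iff]
      have h1 : Ideal.span (Set.range fun i => fQ (g i)) ^ n' ≤
          Ideal.span (Set.range fun i => fQ (g i)) ^ (d * (c * 8) + 1) :=
        Ideal.pow_le_pow_right (by omega)
      refine h1.trans ((span_range_pow_le _ _).trans ?_)
      rw [Ideal.span_le]
      rintro _ ⟨i, rfl⟩
      show fQ (g i) ^ (c * 8) ∈ (⊥ : Ideal E)
      rw [hgnil]
      exact Ideal.zero_mem _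
    have hle' : maximalIdeal (Localization.AtPrime 𝔮) ^ n' ≤
        ((Ideal.span (Set.range fun i : Fin d => (gam πh i ^ c) ^ 8)).map
          (algebraMap (MvPolynomial (Fin d)
            (MvPolynomial ((Fin t ⊕ Fin d'') ⊕ (Fin t ⊕ Fin d'')) k)) Λ)).map
          (algebraMap Λ (Localization.AtPrime 𝔮)) := by
      rw [hJTeq]
      exact (Ideal.pow_le_pow_right (by omega)).trans hmJT₀
    obtain ⟨h₀L, hh₀L⟩ : ∃ h₀L : S₀ →+* Localization.AtPrime 𝔮 ⧸
          ((Ideal.span (Set.range fun i : Fin d => (gam πh i ^ c) ^ 8)).map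
            (algebraMap (MvPolynomial (Fin d)
              (MvPolynomial ((Fin t ⊕ Fin d'') ⊕ (Fin t ⊕ Fin d'')) k)) Λ)).map
            (algebraMap Λ (Localization.AtPrime 𝔮)),
        ∀ x t', h₀ x = Ideal.Quotient.mk _ t' → h₀L x = Ideal.Quotient.mk _ t' :=
      ⟨(Ideal.Quotient.factor hle').comp h₀, fun x t' hx => by
        show Ideal.Quotient.factor hle' (h₀ x) = _
        rw [hx, Ideal.Quotient.factor_mk]⟩
    have hθC : ∀ r₁, θ (f₁ r₁) = Ideal.Quotient.mk _
        (algebraMap Λ (Localization.AtPrime 𝔮) (ϕ₁ r₁)) := fun r₁ => by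
      rw [hf₁, hE1, halgC]
    have hθQ : ∀ q, θ (fQ q) = Ideal.Quotient.mk _ (aeval u q) := by
      have h0 : θ.comp fQ = (Ideal.Quotient.mk _).comp
          (aeval u : MvPolynomial (Fin t ⊕ Fin d'') k →ₐ[k] Localization.AtPrime 𝔮).toRingHom := by
        apply MvPolynomial.ringHom_ext
        · intro c'
          show θ (fQ (C c')) = Ideal.Quotient.mk _ (aeval u (C c'))
          have e1 : ϕ₁ (C c') = algebraMap k Λ c' := ϕ₁.commutes c'
          have e2 : aeval u (C c') = algebraMap k (Localization.AtPrime 𝔮) c' :=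
            (aeval u : MvPolynomial (Fin t ⊕ Fin d'') k →ₐ[k] Localization.AtPrime 𝔮).commutes c'
          rw [hfQC, hθC, e1, e2, ← IsScalarTower.algebraMap_apply]
        · intro s
          show θ (fQ (X s)) = Ideal.Quotient.mk _ (aeval u (X s))
          rw [aeval_X]
          have hu : IsUnit (Ideal.Quotient.mk
              (((Ideal.span (Set.range fun i : Fin d => (gam πh i ^ c) ^ 8)).map
                (algebraMap (MvPolynomial (Fin d)
                  (MvPolynomial ((Fin t ⊕ Fin d'') ⊕ (Fin t ⊕ Fin d'')) k)) Λ)).map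
                (algebraMap Λ (Localization.AtPrime 𝔮)))
              (algebraMap Λ (Localization.AtPrime 𝔮) (ϕ₁ (X (Sum.inr s))))) :=
            (hunitT _ (hW s)).map _
          apply hu.mul_right_cancel
          rw [← map_mul, hYW s, ← hθC, ← hθC, ← map_mul, hfQX]
      exact fun q => RingHom.congr_fun h0 q
    obtain ⟨G, iG1, iG2, hGsm, αG, Z, hG, g1, g2, g3, g4, g5⟩ := hfac_core u g a φT.toRingHom n n'
      (fun s => aeval u s ∉ maximalIdeal (Localization.AtPrime 𝔮)) κ UP EPI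
      (Ideal.Quotient.mk _) h₀L α₀ ζ (fun q => hh₀L _ _ (l1 q)) l2 (fun x => hh₀L _ _ (l3 x)) l4 z'
      (by
        intro i j
        obtain ⟨z₀, hz₀, hz₀JT⟩ := hz'JT i j
        rw [hh₀L _ z₀ hz₀.symm]
        symm
        rw [Ideal.Quotient.eq, hJTeq]
        exact hz₀JT)
      θ fQ hθQ hL2 hnil Υ
    refine ⟨G, iG1, iG2, hGsm, αG, Z, hG, g1, ?_, ?_, ?_, ?_⟩
    · intro c'
      rw [g2, hfQC, hf₁]
      rfl
    · intro x
      rw [g3]
      show Ideal.Quotient.mk _ (φT x) = _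
      rw [hφT]
    · intro i
      rw [hfγ]
      exact g4 i
    · intro i j
      rw [g5, hΥ, map_mul, hθC, hE1, halgXR, hlamT, hcTdef, map_mul, map_pow, map_mul, map_pow]
      ring


/-- Stacks "Smoothing ring maps", the case of inseparable residue fields. -/
theorem main6824 {k A Λ : Type u} [Field k] (p : ℕ) [Fact p.Prime] [CharP k p] [CommRing A]
    [Algebra k A] [Algebra.FinitePresentation k A] [CommRing Λ] [Algebra k Λ]
    [IsNoetherianRing Λ] (hreg : CAlg.IsGeometricallyRegular k Λ) (φ : A →ₐ[k] Λ) (𝔮 : Ideal Λ)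
    [𝔮.IsPrime] (hmin : 𝔮 ∈ (Smoothing.singRad k φ).minimalPrimes) :
    Smoothing.Resolvable k φ 𝔮 := by
  classical
  haveI : ExpChar k p := ExpChar.prime Fact.out
  have hAdic := GeomRegFSH3.adic_localization_of_forall_regular p
    (fun k' _ _ hfin _ => hreg k' hfin) 𝔮
  haveI hregΛ : IsRegularRing Λ := by
    haveI := hreg k (Module.Finite.self k)
    exact IsRegularRing.of_ringEquiv (Algebra.TensorProduct.lid k Λ).toRingEquiv
  haveI hregT : IsRegularLocalRing (Localization.AtPrime 𝔮) := inferInstance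
  obtain ⟨d, hd⟩ : ∃ d : ℕ, (maximalIdeal (Localization.AtPrime 𝔮)).spanFinrank = d := ⟨_, rfl⟩
  rcases Nat.eq_zero_or_pos d with hd0 | hdpos
  · exact case_d0 φ 𝔮 hAdic (hd.trans hd0)
  · exact case_dpos p φ 𝔮 hmin hAdic d hd hdpos

end Groth.Agent.Lib.InsepGlobH5
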