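import Mathlib
import Groth.Prelude.Def_Smoothing
import Groth.Agent.Lib.Smoothing1_helper1
import Groth.Agent.Lib.ElkikSm5_helper8

/-!
Helper library (helper4): descent of a smooth factorization over a localization `R_S` to a
factorization over `R` through an algebra in which an element of `S` is elementary standard
(Stacks, Smoothing ring maps, "presentation descent").  APPEND-ONLY once landed.
-/

set_option autoImplicit false
set_option linter.unusedVariables false
set_option linter.unusedTactic false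
set_option linter.unreachableTactic false
set_option linter.unusedSectionVars false
set_option linter.style.haveILetI false
set_option maxHeartbeats 800000

universe u

namespace Groth.Agent.Lib.PresDescH4

open MvPolynomial TensorProduct

section Elem

/-- Elementary standard from a general choice of rows and columns (helper1's permutation
argument, extracted). -/
theorem elem_of_general {R A : Type u} [CommRing R] [CommRing A] [Algebra R A] {n m c : ℕ}
    (f : Fin m → MvPolynomial (Fin n) R) (φ : MvPolynomial (Fin n) R →ₐ[R] A)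
    (hφ : Function.Surjective φ) (hker : RingHom.ker φ.toRingHom = Ideal.span (Set.range f))
    (rows : Fin c → Fin m) (hrows : Function.Injective rows)
    (cols : Fin c → Fin n) (hcols : Function.Injective cols) (a a' : A)
    (haa' : a = a' * φ (Smoothing.jacobianMinor f rows cols))
    (htail : ∀ a₁ : MvPolynomial (Fin n) R, φ a₁ = a → ∀ ℓ : Fin m,
        a₁ * f ℓ ∈ Ideal.span (Set.range (f ∘ rows)) ⊔ Ideal.span (Set.range f) ^ 2) :
    Smoothing.IsElementaryStandard R A a := by
  classical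
  have hcm : c ≤ m := by simpa using Fintype.card_le_of_injective rows hrows
  have hcn : c ≤ n := by simpa using Fintype.card_le_of_injective cols hcols
  obtain ⟨σ, hσ⟩ := Groth.Agent.Lib.Smoothing1H1.exists_perm_extend (Fin.castLE hcm) rows
    (Fin.castLE_injective hcm) hrows
  obtain ⟨τ, hτ⟩ := Groth.Agent.Lib.Smoothing1H1.exists_perm_extend (Fin.castLE hcn) cols
    (Fin.castLE_injective hcn) hcols
  have hτ' : ∀ k, τ.symm (cols k) = Fin.castLE hcn k := by
    intro k
    rw [Equiv.symm_apply_eq]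
    exact (hτ k).symm
  let E : MvPolynomial (Fin n) R →ₐ[R] MvPolynomial (Fin n) R := rename τ
  let E' : MvPolynomial (Fin n) R →ₐ[R] MvPolynomial (Fin n) R := rename τ.symm
  have hEE' : ∀ p, E (E' p) = p := by
    intro p
    show rename τ (rename τ.symm p) = p
    rw [rename_rename, Equiv.self_comp_symm, rename_id_apply]
  have hE'E : ∀ p, E' (E p) = p := by
    intro p
    show rename τ.symm (rename τ p) = p
    rw [rename_rename, Equiv.symm_comp_self, rename_id_apply]
  let rel' : Fin m → MvPolynomial (Fin n) R := fun j => E' (f (σ j))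
  have hA : Ideal.map E' (Ideal.span (Set.range f)) ≤ Ideal.span (Set.range rel') := by
    rw [Ideal.map_span]
    apply Ideal.span_mono
    rintro _ ⟨_, ⟨j, rfl⟩, rfl⟩
    refine ⟨σ.symm j, ?_⟩
    show E' (f (σ (σ.symm j))) = E' (f j)
    rw [Equiv.apply_symm_apply]
  have hB : Ideal.map E' (Ideal.span (Set.range (f ∘ rows))) ≤
      Ideal.span (rel' '' {j' : Fin m | (j' : ℕ) < c}) := by
    rw [Ideal.map_span]
    apply Ideal.span_mono
    rintro _ ⟨_, ⟨i, rfl⟩, rfl⟩
    refine ⟨Fin.castLE hcm i, i.2, ?_⟩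
    show E' (f (σ (Fin.castLE hcm i))) = E' (f (rows i))
    rw [hσ]
  have surj' : Function.Surjective (φ.comp E) :=
    hφ.comp (fun p => ⟨E' p, hEE' p⟩)
  have ker' : RingHom.ker (φ.comp E).toRingHom = Ideal.span (Set.range rel') := by
    apply le_antisymm
    · intro x hx
      have h1 : E x ∈ Ideal.span (Set.range f) := by
        rw [← hker]
        rw [RingHom.mem_ker] at hx ⊢
        exact hx
      have h2 := Ideal.mem_map_of_mem E' h1
      rw [hE'E] at h2
      exact hA h2
    · rw [Ideal.span_le]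
      rintro _ ⟨j, rfl⟩
      have h1 : f (σ j) ∈ RingHom.ker φ.toRingHom := by
        rw [hker]
        exact Ideal.subset_span ⟨_, rfl⟩
      rw [RingHom.mem_ker] at h1
      rw [SetLike.mem_coe, RingHom.mem_ker]
      show φ (E (E' (f (σ j)))) = 0
      rw [hEE']
      exact h1
  have hminor' : Smoothing.jacobianMinor rel' (Fin.castLE hcm) (Fin.castLE hcn) =
      E' (Smoothing.jacobianMinor f rows cols) := by
    unfold Smoothing.jacobianMinor
    rw [AlgHom.map_det]
    congr 1
    refine Matrix.ext fun j k => ?_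
    show pderiv (Fin.castLE hcn k) (E' (f (σ (Fin.castLE hcm j)))) =
      E' (pderiv (cols k) (f (rows j)))
    rw [hσ j, ← hτ' k]
    exact pderiv_rename τ.symm.injective (cols k) (f (rows j))
  refine ⟨⟨n, m, c, hcn, hcm, rel', φ.comp E, surj', ker'⟩, ⟨a', ?_⟩, ?_⟩
  · show a = a' * φ (E (Smoothing.jacobianMinor rel' (Fin.castLE hcm) (Fin.castLE hcn)))
    rw [hminor', hEE']
    exact haa'
  · intro a₁ ha₁ j hj
    have h1 := htail (E a₁) ha₁ (σ j)
    have h2 := Ideal.mem_map_of_mem E' h1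
    rw [map_mul, hE'E, Ideal.map_sup, Ideal.map_pow] at h2
    exact (sup_le_sup hB (Ideal.pow_right_mono hA 2)) h2

end Elem

section Clearing

attribute [local instance] MvPolynomial.algebraMvPolynomial in
/-- An element of the polynomial ring over `R` whose image lies in the extension of an ideal to
the polynomial ring over `R_S` is multiplied into the ideal by an element of `S`. -/
theorem clear_mem {R Rₛ : Type*} [CommRing R] [CommRing Rₛ] [Algebra R Rₛ] (S : Submonoid R)
    [IsLocalization S Rₛ] {σ : Type*} (I : Ideal (MvPolynomial σ R)) (x : MvPolynomial σ R)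
    (hx : MvPolynomial.map (algebraMap R Rₛ) x ∈ I.map (MvPolynomial.map (algebraMap R Rₛ))) :
    ∃ s ∈ S, C s * x ∈ I := by
  have h := (IsLocalization.algebraMap_mem_map_algebraMap_iff
    (S.map (C (R := R) (σ := σ))) (MvPolynomial σ Rₛ) I x).mp hx
  obtain ⟨m, hm, hmx⟩ := h
  obtain ⟨s, hs, rfl⟩ := Submonoid.mem_map.mp hm
  exact ⟨s, hs, hmx⟩

attribute [local instance] MvPolynomial.algebraMvPolynomial in
/-- Clearing denominators of a finite family of polynomials over `R_S`. -/
theorem clear_denoms {R Rₛ : Type*} [CommRing R] [CommRing Rₛ] [Algebra R Rₛ] (S : Submonoid R)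
    [IsLocalization S Rₛ] {σ ι : Type*} [Finite ι] (f : ι → MvPolynomial σ Rₛ) :
    ∃ u ∈ S, ∃ F : ι → MvPolynomial σ R,
      ∀ i, MvPolynomial.map (algebraMap R Rₛ) (F i) = C (algebraMap R Rₛ u) * f i := by
  obtain ⟨b, hb⟩ := IsLocalization.exist_integer_multiples_of_finite
    (S.map (C (R := R) (σ := σ))) f
  obtain ⟨u, hu, hub⟩ := Submonoid.mem_map.mp b.2
  have hb' : ∀ i, ∃ Fi : MvPolynomial σ R,
      MvPolynomial.map (algebraMap R Rₛ) Fi = C (algebraMap R Rₛ u) * f i := by
    intro i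
    obtain ⟨Fi, hFi⟩ := RingHom.mem_rangeS.mp (hb i)
    refine ⟨Fi, ?_⟩
    rw [Algebra.smul_def, ← hub] at hFi
    have e : algebraMap (MvPolynomial σ R) (MvPolynomial σ Rₛ) (C u) = C (algebraMap R Rₛ u) :=
      MvPolynomial.map_C _ u
    rw [e] at hFi
    exact hFi
  choose F hF using hb'
  exact ⟨u, hu, F, hF⟩

theorem exists_common_kill {R : Type*} [CommRing R] (S : Submonoid R) {M : Type*}
    [AddCommGroup M] [Module R M] {ι : Type*} [Finite ι] (m : ι → M)
    (h : ∀ i, ∃ c ∈ S, c • m i = 0) : ∃ c ∈ S, ∀ i, c • m i = 0 := by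
  classical
  cases nonempty_fintype ι
  choose c hc hcm using h
  refine ⟨∏ i, c i, Submonoid.prod_mem S (fun i _ => hc i), fun i => ?_⟩
  rw [← Finset.prod_erase_mul Finset.univ c (Finset.mem_univ i), mul_smul, hcm i, smul_zero]

theorem exists_common_mul_mem {R : Type*} [CommRing R] (S : Submonoid R) {σ : Type*}
    (I : Ideal (MvPolynomial σ R)) {ι : Type*} [Finite ι] (G : ι → MvPolynomial σ R)
    (h : ∀ i, ∃ c ∈ S, C c * G i ∈ I) : ∃ c ∈ S, ∀ i, C c * G i ∈ I := by
  classical
  cases nonempty_fintype ι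
  choose c hc hcm using h
  refine ⟨∏ i, c i, Submonoid.prod_mem S (fun i _ => hc i), fun i => ?_⟩
  rw [← Finset.prod_erase_mul Finset.univ c (Finset.mem_univ i), map_mul, mul_assoc]
  exact Ideal.mul_mem_left _ _ (hcm i)

theorem mul_mem_span_mul {P : Type*} [CommRing P] {ι : Type*} (d : P) (F : ι → P) (x : P)
    (hx : x ∈ Ideal.span (Set.range F)) : d * x ∈ Ideal.span (Set.range fun j => d * F j) := by
  refine Submodule.span_induction
    (p := fun x _ => d * x ∈ Ideal.span (Set.range fun j => d * F j)) ?_ ?_ ?_ ?_ hx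
  · rintro _ ⟨j, rfl⟩
    exact Ideal.subset_span ⟨j, rfl⟩
  · rw [mul_zero]
    exact Ideal.zero_mem _
  · intro x y _ _ hx hy
    rw [mul_add]
    exact Ideal.add_mem _ hx hy
  · intro a x _ hx
    rw [smul_eq_mul, mul_left_comm]
    exact Ideal.mul_mem_left _ _ hx

end Clearing

section Scaling

theorem pderiv_scale {K : Type*} [CommRing K] {σ : Type*} (w : K)
    (θ : MvPolynomial σ K →ₐ[K] MvPolynomial σ K) (hθ : ∀ k, θ (X k) = C w * X k) (k : σ)
    (F : MvPolynomial σ K) : pderiv k (θ F) = C w * θ (pderiv k F) := by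
  classical
  induction F using MvPolynomial.induction_on with
  | C a =>
    have e : θ (C a) = C a := algHom_C θ a
    rw [e, pderiv_C, map_zero, mul_zero]
  | add f g hf hg => rw [map_add, map_add, hf, hg, map_add, map_add, mul_add]
  | mul_X f i hf =>
    have e1 : pderiv k (θ (f * X i)) =
        θ f * (C w * pderiv k (X i)) + (C w * X i) * (C w * θ (pderiv k f)) := by
      rw [map_mul, hθ, Derivation.leibniz, pderiv_C_mul, hf, smul_eq_mul, smul_eq_mul]
    have e2 : θ (pderiv k (f * X i)) =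
        θ f * θ (pderiv k (X i)) + (C w * X i) * θ (pderiv k f) := by
      rw [Derivation.leibniz, smul_eq_mul, smul_eq_mul, map_add, map_mul, map_mul, hθ]
    rw [e1, e2]
    by_cases hik : i = k
    · subst hik
      rw [pderiv_X_self, map_one]
      ring
    · rw [pderiv_X_of_ne hik, map_zero]
      ring

/-- Rescaling the generators of a presentation with unit Jacobian minor by a unit. -/
theorem scale_data {K B : Type u} [CommRing K] [CommRing B] [Algebra K B] {p q : ℕ}
    (rel : Fin q → MvPolynomial (Fin p) K) (cols : Fin q → Fin p)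
    (ψ : MvPolynomial (Fin p) K →ₐ[K] B) (hψ : Function.Surjective ψ)
    (hker : RingHom.ker ψ.toRingHom = Ideal.span (Set.range rel))
    (hunit : IsUnit (ψ (Matrix.det (Matrix.of fun j k : Fin q => pderiv (cols k) (rel j)))))
    (u w : K) (huw : u * w = 1) :
    ∃ (rel₂ : Fin q → MvPolynomial (Fin p) K) (ψ₂ : MvPolynomial (Fin p) K →ₐ[K] B),
      Function.Surjective ψ₂ ∧ RingHom.ker ψ₂.toRingHom = Ideal.span (Set.range rel₂) ∧
      IsUnit (ψ₂ (Matrix.det (Matrix.of fun j k : Fin q => pderiv (cols k) (rel₂ j)))) ∧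
      ∀ k, ψ₂ (X k) = u • ψ (X k) := by
  classical
  obtain ⟨θ, hθ⟩ : ∃ θ : MvPolynomial (Fin p) K →ₐ[K] MvPolynomial (Fin p) K,
      ∀ k, θ (X k) = C w * X k := by
    refine ⟨aeval (fun k => (C w * X k : MvPolynomial (Fin p) K)), fun k => ?_⟩
    exact aeval_X (fun k => (C w * X k : MvPolynomial (Fin p) K)) k
  obtain ⟨θ', hθ'⟩ : ∃ θ' : MvPolynomial (Fin p) K →ₐ[K] MvPolynomial (Fin p) K,
      ∀ k, θ' (X k) = C u * X k := by
    refine ⟨aeval (fun k => (C u * X k : MvPolynomial (Fin p) K)), fun k => ?_⟩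
    exact aeval_X (fun k => (C u * X k : MvPolynomial (Fin p) K)) k
  have hC : ∀ (η : MvPolynomial (Fin p) K →ₐ[K] MvPolynomial (Fin p) K) (a : K),
      η (C a) = C a := fun η a => algHom_C η a
  have hwu : (C w : MvPolynomial (Fin p) K) * C u = 1 := by
    rw [← C_mul, mul_comm w u, huw, C_1]
  have huw' : (C u : MvPolynomial (Fin p) K) * C w = 1 := by
    rw [← C_mul, huw, C_1]
  have h1 : ∀ F, θ (θ' F) = F := by
    intro F
    have e : θ.comp θ' = AlgHom.id K _ := by
      apply MvPolynomial.algHom_ext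
      intro k
      rw [AlgHom.comp_apply, hθ', map_mul, hC, hθ, AlgHom.id_apply, ← mul_assoc, huw', one_mul]
    exact AlgHom.congr_fun e F
  have h2 : ∀ F, θ' (θ F) = F := by
    intro F
    have e : θ'.comp θ = AlgHom.id K _ := by
      apply MvPolynomial.algHom_ext
      intro k
      rw [AlgHom.comp_apply, hθ, map_mul, hC, hθ', AlgHom.id_apply, ← mul_assoc, hwu, one_mul]
    exact AlgHom.congr_fun e F
  have hrel0 : ∀ j, ψ (rel j) = 0 := by
    intro j
    have : rel j ∈ RingHom.ker ψ.toRingHom := by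
      rw [hker]
      exact Ideal.subset_span ⟨j, rfl⟩
    exact RingHom.mem_ker.mp this
  refine ⟨fun j => θ (rel j), ψ.comp θ', ?_, ?_, ?_, ?_⟩
  · intro b
    obtain ⟨x, rfl⟩ := hψ b
    exact ⟨θ x, by rw [AlgHom.comp_apply, h2]⟩
  · apply le_antisymm
    · intro x hx
      have hx' : ψ (θ' x) = 0 := RingHom.mem_ker.mp hx
      have h3 : θ' x ∈ Ideal.span (Set.range rel) := by
        rw [← hker]
        exact RingHom.mem_ker.mpr hx'
      have h4 := Ideal.mem_map_of_mem θ h3
      rw [h1, Ideal.map_span] at h4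
      refine Ideal.span_mono ?_ h4
      rintro _ ⟨_, ⟨j, rfl⟩, rfl⟩
      exact ⟨j, rfl⟩
    · rw [Ideal.span_le]
      rintro _ ⟨j, rfl⟩
      rw [SetLike.mem_coe, RingHom.mem_ker]
      show ψ (θ' (θ (rel j))) = 0
      rw [h2]
      exact hrel0 j
  · have hM : (Matrix.of fun j k : Fin q => pderiv (cols k) (θ (rel j))) =
        (C w : MvPolynomial (Fin p) K) •
          θ.mapMatrix (Matrix.of fun j k : Fin q => pderiv (cols k) (rel j)) := by
      refine Matrix.ext fun j k => ?_
      rw [Matrix.smul_apply]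
      show pderiv (cols k) (θ (rel j)) = C w • θ (pderiv (cols k) (rel j))
      rw [pderiv_scale w θ hθ, smul_eq_mul]
    rw [hM, Matrix.det_smul, ← AlgHom.map_det, Fintype.card_fin]
    show IsUnit (ψ (θ' (C w ^ q *
      θ (Matrix.det (Matrix.of fun j k : Fin q => pderiv (cols k) (rel j))))))
    rw [map_mul, h2, map_pow, hC, map_mul, map_pow]
    refine IsUnit.mul (IsUnit.pow _ ?_) hunit
    rw [algHom_C]
    exact (IsUnit.of_mul_eq_one_right u huw).map (algebraMap K B)
  · intro k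
    rw [AlgHom.comp_apply, hθ', map_mul, algHom_C, Algebra.smul_def]

end Scaling

section Extension

/-- the embedding of the polynomial ring in the last `p` variables -/
noncomputable def embY (K : Type*) [CommRing K] (n p : ℕ) :
    MvPolynomial (Fin p) K →ₐ[K] MvPolynomial (Fin (n + p)) K :=
  rename (Fin.natAdd n)

theorem embY_X {K : Type*} [CommRing K] {n p : ℕ} (k : Fin p) :
    embY K n p (X k) = X (Fin.natAdd n k) :=
  rename_X _ _

theorem pderiv_nat_embY {K : Type*} [CommRing K] {n p : ℕ} (k : Fin p)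
    (F : MvPolynomial (Fin p) K) :
    pderiv (Fin.natAdd n k) (embY K n p F) = embY K n p (pderiv k F) :=
  pderiv_rename (Fin.natAdd_injective _ _) k F

theorem pderiv_cast_embY {K : Type*} [CommRing K] {n p : ℕ} (i : Fin n)
    (F : MvPolynomial (Fin p) K) : pderiv (Fin.castAdd p i) (embY K n p F) = 0 := by
  classical
  apply pderiv_eq_zero_of_notMem_vars
  intro h
  have h2 := vars_rename (Fin.natAdd n) F h
  rw [Finset.mem_image] at h2
  obtain ⟨k, _, hk⟩ := h2
  have h3 : n + (k : ℕ) = (i : ℕ) := congrArg Fin.val hk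
  have := i.isLt
  omega

/-- Adding `n` new generators (with prescribed images) to a presentation with unit Jacobian
minor. -/
theorem extend_data {K B : Type u} [CommRing K] [CommRing B] [Algebra K B] {n p q : ℕ}
    (rel : Fin q → MvPolynomial (Fin p) K) (cols : Fin q → Fin p)
    (hcols : Function.Injective cols)
    (ψ : MvPolynomial (Fin p) K →ₐ[K] B) (hψ : Function.Surjective ψ)
    (hker : RingHom.ker ψ.toRingHom = Ideal.span (Set.range rel))
    (hunit : IsUnit (ψ (Matrix.det (Matrix.of fun j k : Fin q => pderiv (cols k) (rel j)))))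
    (b : Fin n → B) :
    ∃ (rel' : Fin (n + q) → MvPolynomial (Fin (n + p)) K) (cols' : Fin (n + q) → Fin (n + p))
      (Ψ : MvPolynomial (Fin (n + p)) K →ₐ[K] B),
      Function.Injective cols' ∧ Function.Surjective Ψ ∧
      RingHom.ker Ψ.toRingHom = Ideal.span (Set.range rel') ∧
      IsUnit (Ψ (Matrix.det (Matrix.of fun j k : Fin (n + q) => pderiv (cols' k) (rel' j)))) ∧
      (∀ i, Ψ (X (Fin.castAdd p i)) = b i) ∧ (∀ k, Ψ (X (Fin.natAdd n k)) = ψ (X k)) := by
  classical
  choose Pb hPb using fun i => hψ (b i)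
  obtain ⟨Ψ, hΨa, hΨy⟩ : ∃ Ψ : MvPolynomial (Fin (n + p)) K →ₐ[K] B,
      (∀ i, Ψ (X (Fin.castAdd p i)) = b i) ∧ (∀ k, Ψ (X (Fin.natAdd n k)) = ψ (X k)) :=
    ⟨aeval (Fin.append b (fun k => ψ (X k))),
      fun i => by rw [aeval_X, Fin.append_left],
      fun k => by rw [aeval_X, Fin.append_right]⟩
  obtain ⟨ρ, hρa, hρy⟩ : ∃ ρ : MvPolynomial (Fin (n + p)) K →ₐ[K] MvPolynomial (Fin p) K,
      (∀ i, ρ (X (Fin.castAdd p i)) = Pb i) ∧ (∀ k, ρ (X (Fin.natAdd n k)) = X k) :=
    ⟨aeval (Fin.append Pb (fun k => (X k : MvPolynomial (Fin p) K))),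
      fun i => by rw [aeval_X, Fin.append_left],
      fun k => by rw [aeval_X, Fin.append_right]⟩
  obtain ⟨rel', hrelL, hrelR⟩ : ∃ rel' : Fin (n + q) → MvPolynomial (Fin (n + p)) K,
      (∀ i, rel' (Fin.castAdd q i) = X (Fin.castAdd p i) - embY K n p (Pb i)) ∧
      (∀ j, rel' (Fin.natAdd n j) = embY K n p (rel j)) :=
    ⟨Fin.append (fun i => X (Fin.castAdd p i) - embY K n p (Pb i)) (fun j => embY K n p (rel j)),
      fun i => Fin.append_left _ _ i, fun j => Fin.append_right _ _ j⟩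
  obtain ⟨cols', hcl, hcr⟩ : ∃ cols' : Fin (n + q) → Fin (n + p),
      (∀ i, cols' (Fin.castAdd q i) = Fin.castAdd p i) ∧
      (∀ k, cols' (Fin.natAdd n k) = Fin.natAdd n (cols k)) :=
    ⟨Fin.append (fun i => Fin.castAdd p i) (fun k => Fin.natAdd n (cols k)),
      fun i => Fin.append_left _ _ i, fun k => Fin.append_right _ _ k⟩
  have hΨι : ∀ F, Ψ (embY K n p F) = ψ F := by
    intro F
    have e : Ψ.comp (embY K n p) = ψ := by
      apply MvPolynomial.algHom_ext
      intro k
      rw [AlgHom.comp_apply, embY_X, hΨy]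
    exact AlgHom.congr_fun e F
  have hrel0 : ∀ j, ψ (rel j) = 0 := by
    intro j
    have : rel j ∈ RingHom.ker ψ.toRingHom := by
      rw [hker]
      exact Ideal.subset_span ⟨j, rfl⟩
    exact RingHom.mem_ker.mp this
  have hgen0 : ∀ x, Ψ (rel' x) = 0 := by
    intro x
    refine Fin.addCases (motive := fun x => Ψ (rel' x) = 0) (fun i => ?_) (fun j => ?_) x
    · rw [hrelL, map_sub, hΨa, hΨι, hPb, sub_self]
    · rw [hrelR, hΨι]
      exact hrel0 j
  obtain ⟨J₁, hJ₁⟩ : ∃ J₁ : Ideal (MvPolynomial (Fin (n + p)) K),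
      J₁ = Ideal.span (Set.range fun i : Fin n => X (Fin.castAdd p i) - embY K n p (Pb i)) :=
    ⟨_, rfl⟩
  have hJ₁le : J₁ ≤ Ideal.span (Set.range rel') := by
    rw [hJ₁, Ideal.span_le]
    rintro _ ⟨i, rfl⟩
    exact Ideal.subset_span ⟨Fin.castAdd q i, hrelL i⟩
  have hsub : ∀ F : MvPolynomial (Fin (n + p)) K, F - embY K n p (ρ F) ∈ J₁ := by
    intro F
    have e : (Ideal.Quotient.mkₐ K J₁) =
        (Ideal.Quotient.mkₐ K J₁).comp ((embY K n p).comp ρ) := by
      apply MvPolynomial.algHom_ext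
      intro v
      refine Fin.addCases (motive := fun v => (Ideal.Quotient.mkₐ K J₁) (X v) =
        ((Ideal.Quotient.mkₐ K J₁).comp ((embY K n p).comp ρ)) (X v)) (fun i => ?_) (fun k => ?_) v
      · show Ideal.Quotient.mk J₁ (X (Fin.castAdd p i)) =
          Ideal.Quotient.mk J₁ (embY K n p (ρ (X (Fin.castAdd p i))))
        rw [hρa, Ideal.Quotient.eq, hJ₁]
        exact Ideal.subset_span ⟨i, rfl⟩
      · show Ideal.Quotient.mk J₁ (X (Fin.natAdd n k)) =
          Ideal.Quotient.mk J₁ (embY K n p (ρ (X (Fin.natAdd n k))))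
        rw [hρy, embY_X]
    have e2 := AlgHom.congr_fun e F
    have e3 : Ideal.Quotient.mk J₁ F = Ideal.Quotient.mk J₁ (embY K n p (ρ F)) := e2
    exact Ideal.Quotient.eq.mp e3
  have hspanker : Ideal.span (Set.range rel') ≤ RingHom.ker Ψ.toRingHom := by
    rw [Ideal.span_le]
    rintro _ ⟨x, rfl⟩
    exact RingHom.mem_ker.mpr (hgen0 x)
  have hkerΨ : RingHom.ker Ψ.toRingHom = Ideal.span (Set.range rel') := by
    apply le_antisymm
    · intro F hF
      have hF' : Ψ F = 0 := RingHom.mem_ker.mp hF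
      have h1 := hsub F
      have h2 : Ψ (F - embY K n p (ρ F)) = 0 := RingHom.mem_ker.mp (hspanker (hJ₁le h1))
      have h3 : ψ (ρ F) = 0 := by
        rw [← hΨι]
        rw [map_sub, hF', zero_sub, neg_eq_zero] at h2
        exact h2
      have h4 : ρ F ∈ Ideal.span (Set.range rel) := by
        rw [← hker]
        exact RingHom.mem_ker.mpr h3
      have h5 : embY K n p (ρ F) ∈ Ideal.span (Set.range rel') := by
        have h6 := Ideal.mem_map_of_mem (embY K n p) h4
        rw [Ideal.map_span] at h6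
        refine Ideal.span_mono ?_ h6
        rintro _ ⟨_, ⟨j, rfl⟩, rfl⟩
        exact ⟨Fin.natAdd n j, hrelR j⟩
      have h7 : F = (F - embY K n p (ρ F)) + embY K n p (ρ F) := by ring
      rw [h7]
      exact Ideal.add_mem _ (hJ₁le h1) h5
    · exact hspanker
  have hcols' : Function.Injective cols' := by
    intro x y
    refine Fin.addCases (motive := fun x => cols' x = cols' y → x = y) (fun i => ?_) (fun k => ?_) x
    · refine Fin.addCases (motive := fun y => cols' (Fin.castAdd q i) = cols' y →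
        Fin.castAdd q i = y) (fun i' => ?_) (fun k' => ?_) y
      · intro h
        rw [hcl, hcl] at h
        rw [Fin.castAdd_injective n p h]
      · intro h
        rw [hcl, hcr] at h
        exfalso
        have h3 : (i : ℕ) = n + (cols k' : ℕ) := congrArg Fin.val h
        have := i.isLt
        omega
    · refine Fin.addCases (motive := fun y => cols' (Fin.natAdd n k) = cols' y →
        Fin.natAdd n k = y) (fun i' => ?_) (fun k' => ?_) y
      · intro h
        rw [hcr, hcl] at h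
        exfalso
        have h3 : n + (cols k : ℕ) = (i' : ℕ) := congrArg Fin.val h
        have := i'.isLt
        omega
      · intro h
        rw [hcr, hcr] at h
        rw [hcols (Fin.natAdd_injective _ _ h)]
  have hdet : Matrix.det (Matrix.of fun j k : Fin (n + q) => pderiv (cols' k) (rel' j)) =
      embY K n p (Matrix.det (Matrix.of fun j k : Fin q => pderiv (cols k) (rel j))) := by
    obtain ⟨M', hM'⟩ : ∃ M' : Matrix (Fin (n + q)) (Fin (n + q)) (MvPolynomial (Fin (n + p)) K),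
        M' = Matrix.of fun j k : Fin (n + q) => pderiv (cols' k) (rel' j) := ⟨_, rfl⟩
    rw [← hM']
    have hent : ∀ j k, M' j k = pderiv (cols' k) (rel' j) := by
      intro j k
      rw [hM']
      rfl
    have h1 : M'.det = (M'.submatrix finSumFinEquiv finSumFinEquiv).det :=
      (Matrix.det_submatrix_equiv_self finSumFinEquiv M').symm
    have h2 : M'.submatrix finSumFinEquiv finSumFinEquiv =
        Matrix.fromBlocks (1 : Matrix (Fin n) (Fin n) (MvPolynomial (Fin (n + p)) K))
          (Matrix.of fun (i : Fin n) (k : Fin q) =>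
            pderiv (Fin.natAdd n (cols k)) (X (Fin.castAdd p i) - embY K n p (Pb i)))
          (0 : Matrix (Fin q) (Fin n) (MvPolynomial (Fin (n + p)) K))
          ((embY K n p).mapMatrix (Matrix.of fun j k : Fin q => pderiv (cols k) (rel j))) := by
      refine Matrix.ext fun x y => ?_
      rcases x with i | j <;> rcases y with i' | k
      · rw [Matrix.submatrix_apply, Matrix.fromBlocks_apply₁₁, finSumFinEquiv_apply_left,
          finSumFinEquiv_apply_left, hent, hcl, hrelL, map_sub, pderiv_cast_embY, sub_zero,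
          Matrix.one_apply]
        by_cases h : i = i'
        · subst h
          rw [if_pos rfl, pderiv_X_self]
        · rw [if_neg h, pderiv_X_of_ne]
          intro h2
          exact h (Fin.castAdd_injective n p h2)
      · rw [Matrix.submatrix_apply, Matrix.fromBlocks_apply₁₂, finSumFinEquiv_apply_left,
          finSumFinEquiv_apply_right, hent, hcr, hrelL]
        rfl
      · rw [Matrix.submatrix_apply, Matrix.fromBlocks_apply₂₁, finSumFinEquiv_apply_right,
          finSumFinEquiv_apply_left, hent, hcl, hrelR, pderiv_cast_embY]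
        rfl
      · rw [Matrix.submatrix_apply, Matrix.fromBlocks_apply₂₂, finSumFinEquiv_apply_right,
          finSumFinEquiv_apply_right, hent, hcr, hrelR, pderiv_nat_embY]
        rfl
    rw [h1, h2, Matrix.det_fromBlocks_zero₂₁, Matrix.det_one, one_mul, ← AlgHom.map_det]
  refine ⟨rel', cols', Ψ, hcols', ?_, hkerΨ, ?_, hΨa, hΨy⟩
  · intro b₀
    obtain ⟨x, rfl⟩ := hψ b₀
    exact ⟨embY K n p x, hΨι x⟩
  · rw [hdet, hΨι]
    exact hunit

end Extension

section Descent

/-- Clearing denominators in a family of relations generating, together with a Jacobian minor,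
the unit ideal. -/
theorem descend_jac {R Rₛ : Type u} [CommRing R] [CommRing Rₛ] [Algebra R Rₛ] (S : Submonoid R)
    [IsLocalization S Rₛ] {N c : ℕ} (f' : Fin c → MvPolynomial (Fin N) Rₛ) (cols : Fin c → Fin N)
    (htop : Ideal.span (Set.range f') ⊔
      Ideal.span {Matrix.det (Matrix.of fun j k : Fin c => pderiv (cols k) (f' j))} = ⊤) :
    ∃ u ∈ S, ∃ F : Fin c → MvPolynomial (Fin N) R,
      (∀ j, MvPolynomial.map (algebraMap R Rₛ) (F j) = C (algebraMap R Rₛ u) * f' j) ∧
      ∃ s₀ ∈ S, ∃ A₀ : MvPolynomial (Fin N) R,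
        C s₀ - A₀ * Matrix.det (Matrix.of fun j k : Fin c => pderiv (cols k) (F j)) ∈
          Ideal.span (Set.range F) := by
  classical
  obtain ⟨u, hu, F, hF⟩ := clear_denoms S f'
  refine ⟨u, hu, F, hF, ?_⟩
  obtain ⟨w, hw0⟩ := (IsLocalization.map_units Rₛ (⟨u, hu⟩ : S)).exists_right_inv
  have hw : algebraMap R Rₛ u * w = 1 := hw0
  obtain ⟨DetF, hDetF⟩ : ∃ D : MvPolynomial (Fin N) R,
      D = Matrix.det (Matrix.of fun j k : Fin c => pderiv (cols k) (F j)) := ⟨_, rfl⟩
  obtain ⟨Det', hDet'⟩ : ∃ D : MvPolynomial (Fin N) Rₛ,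
      D = Matrix.det (Matrix.of fun j k : Fin c => pderiv (cols k) (f' j)) := ⟨_, rfl⟩
  have hCw : (C w : MvPolynomial (Fin N) Rₛ) * C (algebraMap R Rₛ u) = 1 := by
    rw [← C_mul, mul_comm, hw, C_1]
  have hmapDet : MvPolynomial.map (algebraMap R Rₛ) DetF =
      C (algebraMap R Rₛ u) ^ c * Det' := by
    rw [hDetF, hDet', RingHom.map_det]
    have hM : (MvPolynomial.map (algebraMap R Rₛ)).mapMatrix
        (Matrix.of fun j k : Fin c => pderiv (cols k) (F j)) =
        (C (algebraMap R Rₛ u) : MvPolynomial (Fin N) Rₛ) •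
          (Matrix.of fun j k : Fin c => pderiv (cols k) (f' j)) := by
      refine Matrix.ext fun j k => ?_
      rw [Matrix.smul_apply]
      show MvPolynomial.map (algebraMap R Rₛ) (pderiv (cols k) (F j)) =
        C (algebraMap R Rₛ u) • pderiv (cols k) (f' j)
      rw [← pderiv_map, hF, pderiv_C_mul, smul_eq_mul]
    rw [hM, Matrix.det_smul, Fintype.card_fin]
  obtain ⟨I, hI⟩ : ∃ I : Ideal (MvPolynomial (Fin N) R),
      I = Ideal.span (Set.range F) ⊔ Ideal.span {DetF} := ⟨_, rfl⟩
  have hImap : I.map (MvPolynomial.map (algebraMap R Rₛ)) = ⊤ := by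
    rw [eq_top_iff, ← htop, sup_le_iff]
    constructor
    · rw [Ideal.span_le]
      rintro _ ⟨j, rfl⟩
      have h1 : MvPolynomial.map (algebraMap R Rₛ) (F j) ∈
          I.map (MvPolynomial.map (algebraMap R Rₛ)) :=
        Ideal.mem_map_of_mem _ (by
          rw [hI]
          exact Ideal.mem_sup_left (Ideal.subset_span ⟨j, rfl⟩))
      have h2 := Ideal.mul_mem_left _ (C w) h1
      rw [hF, ← mul_assoc, hCw, one_mul] at h2
      exact h2
    · rw [Ideal.span_le, Set.singleton_subset_iff, SetLike.mem_coe, ← hDet']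
      have h1 : MvPolynomial.map (algebraMap R Rₛ) DetF ∈
          I.map (MvPolynomial.map (algebraMap R Rₛ)) :=
        Ideal.mem_map_of_mem _ (by
          rw [hI]
          exact Ideal.mem_sup_right (Ideal.subset_span rfl))
      have h2 := Ideal.mul_mem_left _ (C w ^ c) h1
      rw [hmapDet, ← mul_assoc, ← mul_pow, hCw, one_pow, one_mul] at h2
      exact h2
  have h1mem : MvPolynomial.map (algebraMap R Rₛ) (1 : MvPolynomial (Fin N) R) ∈
      I.map (MvPolynomial.map (algebraMap R Rₛ)) := by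
    rw [hImap]
    exact Submodule.mem_top
  obtain ⟨s₀, hs₀, hs₀I⟩ := clear_mem S I 1 h1mem
  rw [mul_one, hI] at hs₀I
  obtain ⟨x, hx, y, hy, hxy⟩ := Submodule.mem_sup.mp hs₀I
  obtain ⟨A₀, hA₀⟩ := Ideal.mem_span_singleton'.mp hy
  refine ⟨s₀, hs₀, A₀, ?_⟩
  rw [← hDetF]
  have e : C s₀ - A₀ * DetF = x := by
    rw [← hxy, hA₀]
    ring
  rw [e]
  exact hx

end Descent

section Main

/-- Standard smooth algebras have a `Fin`-indexed presentation with unit Jacobian minor. -/
theorem exists_std_data {K B : Type u} [CommRing K] [CommRing B] [Algebra K B]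
    [Algebra.IsStandardSmooth K B] :
    ∃ (p q : ℕ) (rel : Fin q → MvPolynomial (Fin p) K) (cols : Fin q → Fin p)
      (ψ : MvPolynomial (Fin p) K →ₐ[K] B),
      Function.Injective cols ∧ Function.Surjective ψ ∧
      RingHom.ker ψ.toRingHom = Ideal.span (Set.range rel) ∧
      IsUnit (ψ (Matrix.det (Matrix.of fun j k : Fin q => pderiv (cols k) (rel j)))) := by
  classical
  obtain ⟨ι, σ, hσ, hι, ⟨P0⟩⟩ := Algebra.IsStandardSmooth.out (R := K) (S := B)
  haveI := hσ
  haveI := hι
  haveI : Fintype ι := Fintype.ofFinite ι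
  haveI : Fintype σ := Fintype.ofFinite σ
  obtain ⟨P, hP⟩ : ∃ P : Algebra.SubmersivePresentation K B (Fin (Fintype.card ι))
      (Fin (Fintype.card σ)), True :=
    ⟨P0.reindex (Fintype.equivFin ι).symm (Fintype.equivFin σ).symm, trivial⟩
  refine ⟨Fintype.card ι, Fintype.card σ, P.relation, P.map, aeval P.val, P.map_inj,
    P.aeval_val_surjective, ?_, ?_⟩
  · have h1 : Ideal.span (Set.range P.relation) = RingHom.ker (aeval (R := K) P.val) :=
      P.span_range_relation_eq_ker.trans P.ker_eq_ker_aeval_val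
    rw [h1]
    rfl
  · have h3 := P.jacobian_isUnit
    rw [Algebra.PreSubmersivePresentation.jacobian_eq_jacobiMatrix_det,
      P.algebraMap_apply] at h3
    have h4 : P.jacobiMatrix =
        (Matrix.of fun j k => pderiv (P.map k) (P.relation j)).transpose := by
      refine Matrix.ext fun i j => ?_
      rw [Algebra.PreSubmersivePresentation.jacobiMatrix_apply]
      rfl
    rw [h4, Matrix.det_transpose] at h3
    exact h3

/-- The descent statement for an algebra over `R_S` given by a presentation with unit Jacobian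
minor. -/
theorem core {R A Λ Rₛ B' : Type u} [CommRing R] [CommRing A] [Algebra R A]
    [Algebra.FinitePresentation R A] [CommRing Λ] [Algebra R Λ] (φ : A →ₐ[R] Λ) (S : Submonoid R)
    [CommRing Rₛ] [Algebra R Rₛ] [IsLocalization S Rₛ] [CommRing B'] [Algebra Rₛ B']
    (g : Rₛ ⊗[R] A →ₐ[Rₛ] B') (h : B' →ₐ[Rₛ] Rₛ ⊗[R] Λ)
    (hgh : h.comp g = Algebra.TensorProduct.map (AlgHom.id Rₛ Rₛ) φ)
    {p q : ℕ} (rel : Fin q → MvPolynomial (Fin p) Rₛ) (cols : Fin q → Fin p)
    (hcols : Function.Injective cols)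
    (ψ : MvPolynomial (Fin p) Rₛ →ₐ[Rₛ] B') (hψ : Function.Surjective ψ)
    (hker : RingHom.ker ψ.toRingHom = Ideal.span (Set.range rel))
    (hunit : IsUnit (ψ (Matrix.det (Matrix.of fun j k : Fin q => pderiv (cols k) (rel j))))) :
    ∃ (B : Type u) (_ : CommRing B) (_ : Algebra R B) (α : A →ₐ[R] B) (β : B →ₐ[R] Λ),
      β.comp α = φ ∧ ∃ s ∈ S, Smoothing.IsElementaryStandard R B (algebraMap R B s) := by
  classical
  -- presentation of A
  obtain ⟨n, π, hπ, hfg⟩ := Algebra.FinitePresentation.out (R := R) (A := A)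
  obtain ⟨t, gA, hgA⟩ := Submodule.fg_iff_exists_fin_generating_family.mp hfg
  have hkerA : RingHom.ker π.toRingHom = Ideal.span (Set.range gA) := hgA.symm
  have hπg : ∀ l, π (gA l) = 0 := by
    intro l
    have : gA l ∈ RingHom.ker π.toRingHom := by
      rw [hkerA]
      exact Ideal.subset_span ⟨l, rfl⟩
    exact RingHom.mem_ker.mp this
  -- denominators of the images of the generators
  haveI hloc : IsLocalizedModule S (TensorProduct.mk R Rₛ Λ 1) :=
    (isLocalizedModule_iff_isBaseChange S Rₛ (TensorProduct.mk R Rₛ Λ 1)).mpr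
      (TensorProduct.isBaseChange R Λ Rₛ)
  obtain ⟨bb, hbb⟩ := IsLocalizedModule.exist_integer_multiples_of_finite S
    (TensorProduct.mk R Rₛ Λ 1) (fun k : Fin p => h (ψ (X k)))
  have hμ : ∀ k : Fin p, ∃ μk : Λ,
      (1 : Rₛ) ⊗ₜ[R] μk = algebraMap R Rₛ (bb : R) • h (ψ (X k)) := by
    intro k
    obtain ⟨μk, hμk⟩ := LinearMap.mem_range.mp (hbb k)
    refine ⟨μk, ?_⟩
    rw [algebraMap_smul]
    exact hμk
  choose μ hμ' using hμ
  obtain ⟨w, hw⟩ := (IsLocalization.map_units Rₛ bb).exists_right_inv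
  obtain ⟨rel₂, ψ₂, hψ₂, hker₂, hunit₂, hψ₂X⟩ :=
    scale_data rel cols ψ hψ hker hunit (algebraMap R Rₛ (bb : R)) w hw
  have hhψ₂ : ∀ k, h (ψ₂ (X k)) = (1 : Rₛ) ⊗ₜ[R] μ k := by
    intro k
    rw [hψ₂X, map_smul, hμ']
  -- extension of the presentation by the generators of A
  obtain ⟨f', cols', Ψ, hcols', hΨ, hkerΨ, hunitΨ, hΨa, hΨy⟩ :=
    extend_data rel₂ cols hcols ψ₂ hψ₂ hker₂ hunit₂
      (fun i : Fin n => g ((1 : Rₛ) ⊗ₜ[R] π (X i)))
  have hFker : ∀ j, Ψ (f' j) = 0 := by
    intro j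
    have : f' j ∈ RingHom.ker Ψ.toRingHom := by
      rw [hkerΨ]
      exact Ideal.subset_span ⟨j, rfl⟩
    exact RingHom.mem_ker.mp this
  obtain ⟨Det', hDet'⟩ : ∃ D : MvPolynomial (Fin (n + p)) Rₛ,
      D = Matrix.det (Matrix.of fun j k : Fin (n + q) => pderiv (cols' k) (f' j)) := ⟨_, rfl⟩
  rw [← hDet'] at hunitΨ
  have htop : Ideal.span (Set.range f') ⊔ Ideal.span {Det'} = ⊤ := by
    rw [Ideal.eq_top_iff_one]
    obtain ⟨v, hv⟩ := hunitΨ.exists_right_inv
    obtain ⟨V, rfl⟩ := hΨ v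
    have h1 : Det' * V - 1 ∈ Ideal.span (Set.range f') := by
      rw [← hkerΨ, RingHom.mem_ker]
      show Ψ (Det' * V - 1) = 0
      rw [map_sub, map_mul, hv, map_one, sub_self]
    have h2 : (1 : MvPolynomial (Fin (n + p)) Rₛ) = Det' * V - (Det' * V - 1) := by ring
    rw [h2]
    exact Ideal.sub_mem _
      (Ideal.mem_sup_right (Ideal.mul_mem_right _ _ (Ideal.subset_span rfl)))
      (Ideal.mem_sup_left h1)
  rw [hDet'] at htop
  obtain ⟨u, hu, F, hF, s₀, hs₀, A₀, hA₀⟩ := descend_jac S f' cols' htop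
  obtain ⟨DetF, hDetF⟩ : ∃ D : MvPolynomial (Fin (n + p)) R,
      D = Matrix.det (Matrix.of fun j k : Fin (n + q) => pderiv (cols' k) (F j)) := ⟨_, rfl⟩
  rw [← hDetF] at hA₀
  -- compatibilities of the tensor product
  have hincA : ∀ r : R, (1 : Rₛ) ⊗ₜ[R] (algebraMap R A r) =
      algebraMap Rₛ (Rₛ ⊗[R] A) (algebraMap R Rₛ r) := by
    intro r
    rw [← Algebra.TensorProduct.algebraMap_apply',
      IsScalarTower.algebraMap_apply R Rₛ (Rₛ ⊗[R] A)]
  have hincΛ : ∀ r : R, (1 : Rₛ) ⊗ₜ[R] (algebraMap R Λ r) =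
      algebraMap Rₛ (Rₛ ⊗[R] Λ) (algebraMap R Rₛ r) := by
    intro r
    rw [← Algebra.TensorProduct.algebraMap_apply',
      IsScalarTower.algebraMap_apply R Rₛ (Rₛ ⊗[R] Λ)]
  have hΨemb : ∀ x : MvPolynomial (Fin n) R,
      Ψ (MvPolynomial.map (algebraMap R Rₛ) (rename (Fin.castAdd p) x)) =
        g ((1 : Rₛ) ⊗ₜ[R] π x) := by
    intro x
    induction x using MvPolynomial.induction_on with
    | C r =>
      have e1 : π (C r) = algebraMap R A r := algHom_C π r
      have e2 : Ψ (C (algebraMap R Rₛ r)) = algebraMap Rₛ B' (algebraMap R Rₛ r) :=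
        algHom_C Ψ _
      rw [rename_C, MvPolynomial.map_C, e1, e2, hincA, AlgHom.commutes]
    | add x y hx hy =>
      rw [map_add, map_add, map_add, hx, hy, map_add, TensorProduct.tmul_add, map_add]
    | mul_X x i hx =>
      have e : (1 : Rₛ) ⊗ₜ[R] (π x * π (X i)) =
          ((1 : Rₛ) ⊗ₜ[R] π x) * ((1 : Rₛ) ⊗ₜ[R] π (X i)) := by
        rw [Algebra.TensorProduct.tmul_mul_tmul, one_mul]
      calc Ψ (MvPolynomial.map (algebraMap R Rₛ) (rename (Fin.castAdd p) (x * X i)))
          = Ψ (MvPolynomial.map (algebraMap R Rₛ) (rename (Fin.castAdd p) x)) *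
              Ψ (X (Fin.castAdd p i)) := by
            rw [map_mul, map_mul, map_mul, rename_X, MvPolynomial.map_X]
        _ = g ((1 : Rₛ) ⊗ₜ[R] π x) * g ((1 : Rₛ) ⊗ₜ[R] π (X i)) := by rw [hx, hΨa]
        _ = g ((1 : Rₛ) ⊗ₜ[R] π (x * X i)) := by rw [map_mul π, e, map_mul]
  -- the evaluation into Λ
  obtain ⟨lam, hlamL, hlamR⟩ : ∃ lam : Fin (n + p) → Λ,
      (∀ i, lam (Fin.castAdd p i) = φ (π (X i))) ∧ (∀ k, lam (Fin.natAdd n k) = μ k) :=
    ⟨Fin.append (fun i => φ (π (X i))) μ, fun i => Fin.append_left _ _ i,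
      fun k => Fin.append_right _ _ k⟩
  obtain ⟨ev, hevX⟩ : ∃ ev : MvPolynomial (Fin (n + p)) R →ₐ[R] Λ, ∀ v, ev (X v) = lam v :=
    ⟨aeval lam, fun v => aeval_X lam v⟩
  have hXv : ∀ v : Fin (n + p), h (Ψ (X v)) = (1 : Rₛ) ⊗ₜ[R] ev (X v) := by
    intro v
    refine Fin.addCases (motive := fun v => h (Ψ (X v)) = (1 : Rₛ) ⊗ₜ[R] ev (X v))
      (fun i => ?_) (fun k => ?_) v
    · rw [hΨa, hevX, hlamL]
      have h1 := AlgHom.congr_fun hgh ((1 : Rₛ) ⊗ₜ[R] π (X i))
      rw [AlgHom.comp_apply, Algebra.TensorProduct.map_tmul, AlgHom.id_apply] at h1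
      exact h1
    · rw [hΨy, hevX, hlamR, hhψ₂]
  have hcompat : ∀ F₀ : MvPolynomial (Fin (n + p)) R,
      h (Ψ (MvPolynomial.map (algebraMap R Rₛ) F₀)) = (1 : Rₛ) ⊗ₜ[R] ev F₀ := by
    intro F₀
    induction F₀ using MvPolynomial.induction_on with
    | C r =>
      have e1 : ev (C r) = algebraMap R Λ r := algHom_C ev r
      have e2 : Ψ (C (algebraMap R Rₛ r)) = algebraMap Rₛ B' (algebraMap R Rₛ r) :=
        algHom_C Ψ _
      rw [MvPolynomial.map_C, e1, e2, AlgHom.commutes, hincΛ]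
    | add x y hx hy =>
      rw [map_add, map_add, map_add, hx, hy, map_add, TensorProduct.tmul_add]
    | mul_X x v hx =>
      have e : (1 : Rₛ) ⊗ₜ[R] (ev x * ev (X v)) =
          ((1 : Rₛ) ⊗ₜ[R] ev x) * ((1 : Rₛ) ⊗ₜ[R] ev (X v)) := by
        rw [Algebra.TensorProduct.tmul_mul_tmul, one_mul]
      calc h (Ψ (MvPolynomial.map (algebraMap R Rₛ) (x * X v)))
          = h (Ψ (MvPolynomial.map (algebraMap R Rₛ) x)) * h (Ψ (X v)) := by
            rw [map_mul, map_mul, map_mul, MvPolynomial.map_X]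
        _ = (1 : Rₛ) ⊗ₜ[R] ev (x * X v) := by rw [hx, hXv v, map_mul ev, e]
  have hevA : ∀ x : MvPolynomial (Fin n) R, ev (rename (Fin.castAdd p) x) = φ (π x) := by
    intro x
    have e : ev.comp (rename (Fin.castAdd p)) = φ.comp π := by
      apply MvPolynomial.algHom_ext
      intro i
      rw [AlgHom.comp_apply, rename_X, hevX, hlamL, AlgHom.comp_apply]
    exact AlgHom.congr_fun e x
  -- the relations of A, embedded
  obtain ⟨G, hG⟩ : ∃ G : Fin t → MvPolynomial (Fin (n + p)) R,
      ∀ l, G l = rename (Fin.castAdd p) (gA l) :=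
    ⟨fun l => rename (Fin.castAdd p) (gA l), fun _ => rfl⟩
  obtain ⟨w', hw'0⟩ := (IsLocalization.map_units Rₛ (⟨u, hu⟩ : S)).exists_right_inv
  have hw'1 : algebraMap R Rₛ u * w' = 1 := hw'0
  have hw' : (C w' : MvPolynomial (Fin (n + p)) Rₛ) * C (algebraMap R Rₛ u) = 1 := by
    rw [← C_mul, mul_comm, hw'1, C_1]
  have hspan_le : Ideal.span (Set.range f') ≤
      (Ideal.span (Set.range F)).map (MvPolynomial.map (algebraMap R Rₛ)) := by
    rw [Ideal.span_le]
    rintro _ ⟨j, rfl⟩
    have h1 : MvPolynomial.map (algebraMap R Rₛ) (F j) ∈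
        (Ideal.span (Set.range F)).map (MvPolynomial.map (algebraMap R Rₛ)) :=
      Ideal.mem_map_of_mem _ (Ideal.subset_span ⟨j, rfl⟩)
    have h2 := Ideal.mul_mem_left _ (C w') h1
    rw [hF, ← mul_assoc, hw', one_mul] at h2
    exact h2
  have hGS : ∀ l, ∃ s ∈ S, C s * G l ∈ Ideal.span (Set.range F) := by
    intro l
    refine clear_mem S (Ideal.span (Set.range F)) (G l) (hspan_le ?_)
    rw [← hkerΨ, RingHom.mem_ker]
    show Ψ (MvPolynomial.map (algebraMap R Rₛ) (G l)) = 0
    rw [hG, hΨemb, hπg, TensorProduct.tmul_zero, map_zero]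
  obtain ⟨sG, hsG, hsGmem⟩ := exists_common_mul_mem S (Ideal.span (Set.range F)) G hGS
  -- killing the values of the leading relations in Λ
  have hevF : ∀ j, ∃ c ∈ S, c • ev (F j) = 0 := by
    intro j
    have h1 : (1 : Rₛ) ⊗ₜ[R] ev (F j) = 0 := by
      rw [← hcompat, hF, map_mul, hFker, mul_zero, map_zero]
    have h2 : (TensorProduct.mk R Rₛ Λ 1) (ev (F j)) = 0 := h1
    obtain ⟨c, hc⟩ := (IsLocalizedModule.eq_zero_iff S (TensorProduct.mk R Rₛ Λ 1)).mp h2
    exact ⟨c.1, c.2, hc⟩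
  obtain ⟨s', hs', hs'ev⟩ := exists_common_kill S (fun j => ev (F j)) hevF
  -- the algebra B
  obtain ⟨relB, hrelBL, hrelBR⟩ : ∃ relB : Fin ((n + q) + t) → MvPolynomial (Fin (n + p)) R,
      (∀ j, relB (Fin.castAdd t j) = C s' * F j) ∧ (∀ l, relB (Fin.natAdd (n + q) l) = G l) :=
    ⟨Fin.append (fun j => C s' * F j) G, fun j => Fin.append_left _ _ j,
      fun l => Fin.append_right _ _ l⟩
  obtain ⟨IB, hIB⟩ : ∃ IB : Ideal (MvPolynomial (Fin (n + p)) R),
      IB = Ideal.span (Set.range relB) := ⟨_, rfl⟩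
  have hlead_eq : (relB ∘ Fin.castAdd t) = fun j => C s' * F j := funext (fun j => hrelBL j)
  have hleadIB : Ideal.span (Set.range (relB ∘ Fin.castAdd t)) ≤ IB := by
    rw [hIB]
    apply Ideal.span_mono
    rintro _ ⟨j, rfl⟩
    exact ⟨_, rfl⟩
  have hs'F : ∀ x ∈ Ideal.span (Set.range F),
      C s' * x ∈ Ideal.span (Set.range (relB ∘ Fin.castAdd t)) := by
    intro x hx
    rw [hlead_eq]
    exact mul_mem_span_mul (C s') F x hx
  have hβ0 : ∀ x ∈ IB, ev x = 0 := by
    intro x hx
    have hle : IB ≤ RingHom.ker ev.toRingHom := by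
      rw [hIB, Ideal.span_le]
      rintro _ ⟨i, rfl⟩
      rw [SetLike.mem_coe, RingHom.mem_ker]
      refine Fin.addCases (motive := fun i => ev.toRingHom (relB i) = 0)
        (fun j => ?_) (fun l => ?_) i
      · rw [hrelBL]
        show ev (C s' * F j) = 0
        rw [map_mul, algHom_C, ← Algebra.smul_def]
        exact hs'ev j
      · rw [hrelBR, hG]
        show ev (rename (Fin.castAdd p) (gA l)) = 0
        rw [hevA, hπg, map_zero]
    exact RingHom.mem_ker.mp (hle hx)
  obtain ⟨mk, hmk⟩ : ∃ mk : MvPolynomial (Fin (n + p)) R →ₐ[R]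
      (MvPolynomial (Fin (n + p)) R ⧸ IB), ∀ x, mk x = Ideal.Quotient.mk IB x :=
    ⟨Ideal.Quotient.mkₐ R IB, fun _ => rfl⟩
  have hmk0 : ∀ x, mk x = 0 ↔ x ∈ IB := by
    intro x
    rw [hmk]
    exact Ideal.Quotient.eq_zero_iff_mem
  have hmksurj : Function.Surjective mk := by
    intro y
    obtain ⟨x, rfl⟩ := Ideal.Quotient.mk_surjective y
    exact ⟨x, hmk x⟩
  have hmkker : RingHom.ker mk.toRingHom = Ideal.span (Set.range relB) := by
    rw [← hIB]
    ext x
    rw [RingHom.mem_ker]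
    exact hmk0 x
  have hα0 : RingHom.ker π.toRingHom ≤
      RingHom.ker (mk.comp (rename (Fin.castAdd p))).toRingHom := by
    rw [hkerA, Ideal.span_le]
    rintro _ ⟨l, rfl⟩
    rw [SetLike.mem_coe, RingHom.mem_ker]
    show mk (rename (Fin.castAdd p) (gA l)) = 0
    rw [hmk0, ← hG, ← hrelBR, hIB]
    exact Ideal.subset_span ⟨_, rfl⟩
  obtain ⟨α, hα⟩ : ∃ α : A →ₐ[R] (MvPolynomial (Fin (n + p)) R ⧸ IB),
      ∀ x, α (π x) = mk (rename (Fin.castAdd p) x) :=
    ⟨AlgHom.liftOfSurjective π hπ (mk.comp (rename (Fin.castAdd p))) hα0,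
      fun x => AlgHom.liftOfSurjective_apply π hπ _ hα0 x⟩
  obtain ⟨β, hβ⟩ : ∃ β : (MvPolynomial (Fin (n + p)) R ⧸ IB) →ₐ[R] Λ,
      ∀ x, β (mk x) = ev x := by
    refine ⟨Ideal.Quotient.liftₐ IB ev hβ0, fun x => ?_⟩
    rw [hmk]
    exact AlgHom.congr_fun (Ideal.Quotient.liftₐ_comp IB ev hβ0) x
  have hβα : β.comp α = φ := by
    apply AlgHom.ext
    intro a
    obtain ⟨x, rfl⟩ := hπ a
    rw [AlgHom.comp_apply, hα, hβ, hevA]
  obtain ⟨stot, hstot⟩ : ∃ s : R, s = sG * s' ^ (n + q) * s' * s₀ := ⟨_, rfl⟩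
  have hstotS : stot ∈ S := by
    rw [hstot]
    exact S.mul_mem (S.mul_mem (S.mul_mem hsG (S.pow_mem hs' _)) hs') hs₀
  refine ⟨_, inferInstance, inferInstance, α, β, hβα, stot, hstotS, ?_⟩
  have halg : algebraMap R (MvPolynomial (Fin (n + p)) R ⧸ IB) stot = mk (C stot) := by
    rw [← MvPolynomial.algebraMap_eq, AlgHom.commutes]
  rw [halg]
  refine elem_of_general relB mk hmksurj hmkker (Fin.castAdd t) (Fin.castAdd_injective _ _)
    cols' hcols' _ (mk (C sG * (C s' * A₀))) ?_ ?_
  · have hminor : Smoothing.jacobianMinor relB (Fin.castAdd t) cols' =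
        C s' ^ (n + q) * DetF := by
      unfold Smoothing.jacobianMinor
      have hM : (Matrix.of fun j k : Fin (n + q) =>
          pderiv (cols' k) (relB (Fin.castAdd t j))) =
          (C s' : MvPolynomial (Fin (n + p)) R) •
            (Matrix.of fun j k : Fin (n + q) => pderiv (cols' k) (F j)) := by
        refine Matrix.ext fun j k => ?_
        rw [Matrix.smul_apply]
        show pderiv (cols' k) (relB (Fin.castAdd t j)) = C s' • pderiv (cols' k) (F j)
        rw [hrelBL, pderiv_C_mul, smul_eq_mul]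
      rw [hM, Matrix.det_smul, Fintype.card_fin, hDetF]
    rw [hminor, ← map_mul, ← sub_eq_zero, ← map_sub, hmk0]
    have hid : C stot - C sG * (C s' * A₀) * (C s' ^ (n + q) * DetF) =
        (C sG * C s' ^ (n + q)) * (C s' * (C s₀ - A₀ * DetF)) := by
      rw [hstot]
      simp only [map_mul, map_pow]
      ring
    rw [hid]
    exact Ideal.mul_mem_left _ _ (hleadIB (hs'F _ hA₀))
  · intro a₁ ha₁ ℓ
    have h1 : a₁ - C stot ∈ IB := by
      rw [← hmk0, map_sub, ha₁, sub_self]
    have h2 : a₁ * relB ℓ = C stot * relB ℓ + (a₁ - C stot) * relB ℓ := by ring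
    rw [h2]
    refine Ideal.add_mem _ (Ideal.mem_sup_left ?_) (Ideal.mem_sup_right ?_)
    · refine Fin.addCases (motive := fun ℓ => C stot * relB ℓ ∈
        Ideal.span (Set.range (relB ∘ Fin.castAdd t))) (fun j => ?_) (fun l => ?_) ℓ
      · exact Ideal.mul_mem_left _ _ (Ideal.subset_span ⟨j, rfl⟩)
      · rw [hrelBR]
        have hid : C stot * G l = (C (s' ^ (n + q)) * C s₀) * (C s' * (C sG * G l)) := by
          rw [hstot]
          simp only [map_mul]
          ring
        rw [hid]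
        exact Ideal.mul_mem_left _ _ (hs'F _ (hsGmem l))
    · rw [pow_two, ← hIB]
      exact Ideal.mul_mem_mul h1 (by
        rw [hIB]
        exact Ideal.subset_span ⟨ℓ, rfl⟩)

/-- Presentation descent (Stacks, Smoothing ring maps). -/
theorem main2029 {R A Λ Rₛ B' : Type u} [CommRing R] [CommRing A] [Algebra R A]
    [Algebra.FinitePresentation R A] [CommRing Λ] [Algebra R Λ] (φ : A →ₐ[R] Λ) (S : Submonoid R)
    [CommRing Rₛ] [Algebra R Rₛ] [IsLocalization S Rₛ] [CommRing B'] [Algebra Rₛ B']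
    [Algebra.Smooth Rₛ B'] (g : Rₛ ⊗[R] A →ₐ[Rₛ] B') (h : B' →ₐ[Rₛ] Rₛ ⊗[R] Λ)
    (hgh : h.comp g = Algebra.TensorProduct.map (AlgHom.id Rₛ Rₛ) φ) :
    ∃ (B : Type u) (_ : CommRing B) (_ : Algebra R B) (α : A →ₐ[R] B) (β : B →ₐ[R] Λ),
      β.comp α = φ ∧ ∃ s ∈ S, Smoothing.IsElementaryStandard R B (algebraMap R B s) := by
  obtain ⟨B'', _, _, _, _, _, ⟨r⟩, hstd⟩ := ElkikSmH8.main (R := Rₛ) (A := B')
  haveI := hstd
  obtain ⟨p, q, rel, cols, ψ, hcols, hψ, hker, hunit⟩ := exists_std_data (K := Rₛ) (B := B'')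
  obtain ⟨g'', hg''⟩ : ∃ g'' : Rₛ ⊗[R] A →ₐ[Rₛ] B'', ∀ x, g'' x = algebraMap B' B'' (g x) :=
    ⟨(IsScalarTower.toAlgHom Rₛ B' B'').comp g, fun _ => rfl⟩
  obtain ⟨h'', hh''⟩ : ∃ h'' : B'' →ₐ[Rₛ] Rₛ ⊗[R] Λ, ∀ x, h'' x = h (r x) :=
    ⟨h.comp (r.restrictScalars Rₛ), fun _ => rfl⟩
  have hgh'' : h''.comp g'' = Algebra.TensorProduct.map (AlgHom.id Rₛ Rₛ) φ := by
    rw [← hgh]
    apply AlgHom.ext
    intro x
    rw [AlgHom.comp_apply, hh'', hg'', AlgHom.commutes, Algebra.algebraMap_self_apply,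
      AlgHom.comp_apply]
  exact core φ S g'' h'' hgh'' rel cols hcols ψ hψ hker hunit

end Main

end Groth.Agent.Lib.PresDescH4
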