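import Mathlib
import Groth.Prelude.Def_Smoothing
import Groth.Prelude.Def_Found
import Groth.Agent.Lib.InsepGlob10_helper5
import Groth.Agent.Lib.IndSmRes_helper4
import Groth.Agent.Lib.CohenLift_helper3
import Groth.Agent.Lib.IndSmLift8_helper8
import Groth.Agent.Lib.PresDescent_helper4
import Groth.Agent.Lib.LiftDesing_helper4
import Groth.Agent.Lib.DesingLemma_helper4

set_option autoImplicit false
set_option linter.style.haveILetI false
set_option linter.unusedVariables false
set_option maxHeartbeats 1600000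

universe u

open TensorProduct IsLocalRing

namespace Groth.Agent.Lib.PopescuH5

open Groth.Agent.Lib

/-- Popescu's theorem over a field: a Noetherian geometrically regular algebra is ind-smooth. -/
theorem indSmooth_field {k Λ : Type u} [Field k] [CommRing Λ] [Algebra k Λ] [IsNoetherianRing Λ]
    (hreg : CAlg.IsGeometricallyRegular k Λ) : Smoothing.IndSmooth k Λ := by
  classical
  apply IndSmResH4.indSmooth_of_resolvable
  intro A _ _ _ φ 𝔮 _ hmin
  obtain ⟨p, hp⟩ := CharP.exists k
  rcases CharP.char_is_prime_or_zero k p with hpp | rfl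
  · haveI : Fact p.Prime := ⟨hpp⟩
    exact InsepGlobH5.main6824 p hreg φ 𝔮 hmin
  · haveI : CharZero k := CharP.charP_to_charZero k
    haveI hregΛ : IsRegularRing Λ := by
      haveI := hreg k (Module.Finite.self k)
      exact IsRegularRing.of_ringEquiv (Algebra.TensorProduct.lid k Λ).toRingEquiv
    haveI hregT : IsRegularLocalRing (Localization.AtPrime 𝔮) := inferInstance
    haveI : Algebra.FormallySmooth k 𝔮.ResidueField :=
      CohenLiftH3.formallySmooth_of_charZero' k 𝔮.ResidueField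
    haveI : Algebra.IsGeometricallyReduced k 𝔮.ResidueField :=
      (FSGRH3.formallySmooth_iff_isGeometricallyReduced k 𝔮.ResidueField).mp inferInstance
    exact ResolveSepH4.main6823 φ 𝔮 hmin

/-- elementary standard elements are strictly standard -/
theorem strict_of_elementary {R A : Type u} [CommRing R] [CommRing A] [Algebra R A] (a : A)
    (h : Smoothing.IsElementaryStandard R A a) : Smoothing.IsStrictlyStandard R A a := by
  obtain ⟨P, ⟨a', ha'⟩, hk⟩ := h
  refine ⟨P, ?_, hk⟩
  rw [ha']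
  exact Ideal.mul_mem_left _ _ (Ideal.subset_span ⟨Fin.castLE P.hcn, rfl⟩)

/-- an algebra with a marked presentation is finitely presented -/
theorem fp_of_markedPresentation {R A : Type u} [CommRing R] [CommRing A] [Algebra R A]
    (P : Smoothing.MarkedPresentation R A) : Algebra.FinitePresentation R A := by
  apply Algebra.FinitePresentation.of_surjective (f := P.hom) P.surj
  rw [P.ker_eq]
  exact Submodule.fg_span (Set.finite_range _)


/-- the inductive step: a reduced base, a minimal prime with ind-smooth generic fibre, and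
ind-smoothness modulo `s ^ 8` for all `s` outside the prime -/
theorem step {R Λ K : Type u} [CommRing R] [IsNoetherianRing R] [IsReduced R] [CommRing Λ]
    [Algebra R Λ] [Module.Flat R Λ] (p : Ideal R) [p.IsPrime] [CommRing K] [Algebra R K]
    [IsLocalization.AtPrime K p] (h1 : Smoothing.IndSmooth K (K ⊗[R] Λ))
    (h2 : ∀ s : R, s ∉ p → Smoothing.IndSmooth (R ⧸ Ideal.span {s ^ 8})
      (Λ ⧸ (Ideal.span {s ^ 8}).map (algebraMap R Λ))) :
    Smoothing.IndSmooth R Λ := by
  classical
  intro A _ _ hfp φ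
  haveI := hfp
  obtain ⟨B', iB'1, iB'2, hsm, g, h, hgh⟩ := h1 (K ⊗[R] A) inferInstance
    (Algebra.TensorProduct.map (AlgHom.id K K) φ)
  haveI := hsm
  obtain ⟨B, iB1, iB2, α, β, hαβ, s, hs, hstd⟩ :=
    PresDescH4.main2029 φ p.primeCompl g h hgh
  have hstrict := strict_of_elementary _ hstd
  haveI hBfp : Algebra.FinitePresentation R B := by
    obtain ⟨P, -⟩ := hstd
    exact fp_of_markedPresentation P
  have hsp : s ∉ p := hs
  -- the problem modulo `s ^ 8`
  obtain ⟨φK, hφK⟩ := ResolveIndH4.exists_φQ β (Ideal.span {s ^ 8})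
  have hsurjR : Function.Surjective (algebraMap R (R ⧸ Ideal.span {s ^ 8})) :=
    Ideal.Quotient.mk_surjective
  have hkerA : ∀ x, Ideal.Quotient.mkₐ R ((Ideal.span {s ^ 8}).map (algebraMap R B)) x = 0 →
      x ∈ (RingHom.ker (algebraMap R (R ⧸ Ideal.span {s ^ 8}))).map (algebraMap R B) := by
    intro x hx
    have e1 : RingHom.ker (algebraMap R (R ⧸ Ideal.span {s ^ 8})) = Ideal.span {s ^ 8} :=
      Ideal.mk_ker
    rw [e1]
    exact Ideal.Quotient.eq_zero_iff_mem.mp hx
  haveI : Algebra.FinitePresentation (R ⧸ Ideal.span {s ^ 8})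
      (B ⧸ (Ideal.span {s ^ 8}).map (algebraMap R B)) :=
    ResolveStepH4.fp_flex hsurjR (Ideal.Quotient.mkₐ R ((Ideal.span {s ^ 8}).map (algebraMap R B)))
      (Ideal.Quotient.mkₐ_surjective R _) hkerA
  obtain ⟨C, iC1, iC2, hCsm, gC, hC, hgC⟩ := h2 s hsp
    (B ⧸ (Ideal.span {s ^ 8}).map (algebraMap R B)) inferInstance φK
  haveI := hCsm
  letI algRC : Algebra R C :=
    ((algebraMap (R ⧸ Ideal.span {s ^ 8}) C).comp (Ideal.Quotient.mk _)).toAlgebra
  haveI twC : IsScalarTower R (R ⧸ Ideal.span {s ^ 8}) C :=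
    IsScalarTower.of_algebraMap_eq (fun _ => rfl)
  obtain ⟨γ, hγ⟩ : ∃ γ : B →ₐ[R] C, ∀ b, γ b = gC (Ideal.Quotient.mk _ b) := by
    refine ⟨{ gC.toRingHom.comp (Ideal.Quotient.mk _) with commutes' := ?_ }, fun _ => rfl⟩
    intro r
    show gC (Ideal.Quotient.mk _ (algebraMap R B r)) = _
    have e1 : Ideal.Quotient.mk ((Ideal.span {s ^ 8}).map (algebraMap R B)) (algebraMap R B r) =
        algebraMap (R ⧸ Ideal.span {s ^ 8}) (B ⧸ (Ideal.span {s ^ 8}).map (algebraMap R B))
          (Ideal.Quotient.mk _ r) := rfl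
    rw [e1, AlgHom.commutes]
    rfl
  have hideq : (Ideal.span {s ^ 8}).map (algebraMap R Λ) =
      Ideal.span {algebraMap R Λ (s ^ 8)} := by
    rw [Ideal.map_span, Set.image_singleton]
  obtain ⟨g', hg'⟩ : ∃ g' : C →ₐ[R] Λ ⧸ Ideal.span {algebraMap R Λ (s ^ 8)},
      ∀ (c : C) (l : Λ), hC c = Ideal.Quotient.mk _ l → g' c = Ideal.Quotient.mk _ l := by
    refine ⟨{ (Ideal.quotEquivOfEq hideq).toRingHom.comp hC.toRingHom with commutes' := ?_ },
      fun c l hcl => ?_⟩
    · intro r
      show Ideal.quotEquivOfEq hideq (hC (algebraMap R C r)) = _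
      have e1 : algebraMap R C r = algebraMap (R ⧸ Ideal.span {s ^ 8}) C
          (Ideal.Quotient.mk _ r) := rfl
      rw [e1, AlgHom.commutes]
      rfl
    · show Ideal.quotEquivOfEq hideq (hC c) = _
      rw [hcl]
      rfl
  have hfac : ∀ b : B, g' (γ b) = Ideal.Quotient.mk _ (β b) := by
    intro b
    apply hg'
    rw [hγ]
    have := AlgHom.congr_fun hgC (Ideal.Quotient.mk _ b)
    rw [AlgHom.comp_apply] at this
    rw [this, hφK]
  have hR : ∀ r : R, s ^ 2 * r = 0 → s * r = 0 := by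
    intro r hr
    have h3 : (s * r) ^ 2 = 0 := by
      have : (s * r) ^ 2 = s ^ 2 * r * r := by ring
      rw [this, hr, zero_mul]
    exact IsReduced.eq_zero _ ⟨2, h3⟩
  have hΛ : ∀ x : Λ, s ^ 2 • x = 0 → s • x = 0 := fun x hx =>
    DesingLemmaH4.flat_ann s hR x hx
  obtain ⟨B₂, iB₂1, iB₂2, hB₂fp, α₂, β₂, hαβ₂, hsmooth, hsing⟩ :=
    LiftDesingH4.main19959 s hR hΛ β hstrict γ g' hfac
  haveI := hB₂fp
  -- the singular radical is everything
  have hs_mem : algebraMap R B₂ s ∈ Smoothing.singularIdeal R B₂ := by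
    rw [LiftDesingH4.mem_singularIdeal_iff]
    intro Q hQ hns
    by_contra hsQ
    exact hns (hsmooth Q hsQ)
  have hsΛ : algebraMap R Λ s ∈ Smoothing.singRad R β₂ := by
    apply Ideal.le_radical
    have := Ideal.mem_map_of_mem β₂ hs_mem
    rwa [AlgHom.commutes] at this
  have hCtop : Smoothing.singularIdeal (R ⧸ Ideal.span {s ^ 8}) C = ⊤ := by
    unfold Smoothing.singularIdeal
    rw [Algebra.smoothLocus_eq_univ, Set.compl_univ, PrimeSpectrum.vanishingIdeal_empty]
  have h1mem : (1 : Λ ⧸ Ideal.span {algebraMap R Λ (s ^ 8)}) ∈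
      (Smoothing.singRad R β₂).map (Ideal.Quotient.mk (Ideal.span {algebraMap R Λ (s ^ 8)})) := by
    apply hsing
    rw [hCtop]
    have : g' 1 ∈ (⊤ : Ideal C).map g' := Ideal.mem_map_of_mem g' Submodule.mem_top
    rwa [map_one] at this
  have htop : Smoothing.singRad R β₂ = ⊤ := by
    rw [Ideal.eq_top_iff_one]
    obtain ⟨x, hx, hx1⟩ := (Ideal.mem_map_iff_of_surjective _ Ideal.Quotient.mk_surjective).mp h1mem
    have h4 : x - 1 ∈ Ideal.span {algebraMap R Λ (s ^ 8)} := by
      rw [← Ideal.Quotient.eq_zero_iff_mem, map_sub, hx1, map_one, sub_self]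
    have h5 : Ideal.span {algebraMap R Λ (s ^ 8)} ≤ Smoothing.singRad R β₂ := by
      rw [Ideal.span_le, Set.singleton_subset_iff, map_pow]
      exact Ideal.pow_mem_of_mem _ hsΛ 8 (by norm_num)
    have h6 : (1 : Λ) = x - (x - 1) := by ring
    rw [h6]
    exact Ideal.sub_mem _ hx (h5 h4)
  obtain ⟨D, iD1, iD2, hDsm, g₃, h₃, hgh₃⟩ := IndSmResH4.factor_of_singRad_top β₂ htop
  refine ⟨D, iD1, iD2, hDsm, g₃.comp (α₂.comp α), h₃, ?_⟩
  rw [← AlgHom.comp_assoc, hgh₃, ← AlgHom.comp_assoc, hαβ₂, hαβ]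

end Groth.Agent.Lib.PopescuH5
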