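import Mathlib
import Groth.Prelude.Def_Smoothing
import Groth.Prelude.Def_Found
import Groth.Agent.Lib.Popescu1_helper5

set_option autoImplicit false
set_option linter.style.haveILetI false
set_option linter.unusedVariables false
set_option maxHeartbeats 1600000

universe u

open TensorProduct IsLocalRing

namespace Groth.Agent.Lib.PopescuH5

/-- two surjections with the same kernel have isomorphic targets -/
theorem exists_ringEquiv_of_surj {A B C : Type u} [CommRing A] [CommRing B] [CommRing C]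
    (f : A →+* B) (g : A →+* C) (hf : Function.Surjective f) (hg : Function.Surjective g)
    (hk : RingHom.ker f = RingHom.ker g) : ∃ e : B ≃+* C, ∀ a, e (f a) = g a := by
  refine ⟨(RingHom.quotientKerEquivOfSurjective hf).symm.trans
    ((Ideal.quotEquivOfEq hk).trans (RingHom.quotientKerEquivOfSurjective hg)), fun a => ?_⟩
  have h1 : (RingHom.quotientKerEquivOfSurjective hf).symm (f a) = Ideal.Quotient.mk _ a := by
    rw [RingEquiv.symm_apply_eq]
    exact (RingHom.quotientKerEquivOfSurjective_apply_mk hf a).symm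
  simp only [RingEquiv.trans_apply, h1, Ideal.quotEquivOfEq_mk]
  exact RingHom.quotientKerEquivOfSurjective_apply_mk hg a

theorem indSmooth_of_surj_surj {R Λ R₁ Λ₁ R₂ Λ₂ : Type u} [CommRing R] [CommRing Λ] [Algebra R Λ]
    [CommRing R₁] [CommRing Λ₁] [Algebra R₁ Λ₁] [CommRing R₂] [CommRing Λ₂] [Algebra R₂ Λ₂]
    (f₁ : R →+* R₁) (q₁ : Λ →+* Λ₁) (f₂ : R →+* R₂) (q₂ : Λ →+* Λ₂)
    (hf₁ : Function.Surjective f₁) (hq₁ : Function.Surjective q₁)
    (hf₂ : Function.Surjective f₂) (hq₂ : Function.Surjective q₂)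
    (hc₁ : ∀ r, q₁ (algebraMap R Λ r) = algebraMap R₁ Λ₁ (f₁ r))
    (hc₂ : ∀ r, q₂ (algebraMap R Λ r) = algebraMap R₂ Λ₂ (f₂ r))
    (hk : RingHom.ker f₁ = RingHom.ker f₂) (hk' : RingHom.ker q₁ = RingHom.ker q₂)
    (h : Smoothing.IndSmooth R₂ Λ₂) : Smoothing.IndSmooth R₁ Λ₁ := by
  obtain ⟨e, he⟩ := exists_ringEquiv_of_surj f₁ f₂ hf₁ hf₂ hk
  obtain ⟨e', he'⟩ := exists_ringEquiv_of_surj q₁ q₂ hq₁ hq₂ hk'
  refine IndSmLiftH8.indSmooth_of_ringEquiv e e' (fun r₁ => ?_) h
  obtain ⟨r, rfl⟩ := hf₁ r₁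
  rw [← hc₁, he', hc₂, he]

theorem indSmooth_of_subsingleton {R Λ : Type u} [CommRing R] [CommRing Λ] [Algebra R Λ]
    [Subsingleton R] : Smoothing.IndSmooth R Λ := by
  intro A _ _ hfp f
  haveI : Subsingleton A := by
    refine subsingleton_of_zero_eq_one ?_
    rw [← map_one (algebraMap R A), ← map_zero (algebraMap R A)]
    congr 1
    exact Subsingleton.elim _ _
  exact ⟨A, inferInstance, inferInstance, inferInstance, AlgHom.id R A, f, AlgHom.comp_id f⟩

theorem exists_mul_eq_zero_of_mem_minimalPrimes {R : Type u} [CommRing R] [IsReduced R]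
    (p : Ideal R) [p.IsPrime] (hmin : p ∈ minimalPrimes R) {x : R} (hx : x ∈ p) :
    ∃ c : R, c ∉ p ∧ c * x = 0 := by
  have h1 := IsLocalization.AtPrime.radical_map_of_mem_minimalPrimes
    (A := Localization.AtPrime p) p ⊥ hmin
  rw [Ideal.map_bot] at h1
  have h2 : (⊥ : Ideal (Localization.AtPrime p)).radical = ⊥ := nilradical_eq_zero _
  have h3 : algebraMap R (Localization.AtPrime p) x = 0 := by
    have : algebraMap R (Localization.AtPrime p) x ∈ p.map (algebraMap R _) :=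
      Ideal.mem_map_of_mem _ hx
    rw [← h1, h2] at this
    simpa using this
  obtain ⟨⟨c, hc⟩, hcx⟩ := (IsLocalization.map_eq_zero_iff p.primeCompl _ x).mp h3
  exact ⟨c, hc, hcx⟩

theorem isLocalization_atPrime_of_field {R K : Type u} [CommRing R] [IsReduced R] [Field K]
    [Algebra R K] (p : Ideal R) [p.IsPrime] (hmin : p ∈ minimalPrimes R)
    (hker : RingHom.ker (algebraMap R K) = p)
    (hsurj : ∀ x : K, ∃ a b : R, b ∉ p ∧ x * algebraMap R K b = algebraMap R K a) :
    IsLocalization.AtPrime K p := by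
  refine ⟨?_, ?_, ?_⟩
  · rintro ⟨y, hy⟩
    apply IsUnit.mk0
    intro h0
    apply hy
    rw [← hker]
    exact h0
  · intro z
    obtain ⟨a, b, hb, hab⟩ := hsurj z
    exact ⟨(a, ⟨b, hb⟩), hab⟩
  · intro x y hxy
    have hmem : x - y ∈ p := by
      rw [← hker, RingHom.mem_ker, map_sub, hxy, sub_self]
    obtain ⟨c, hc, hcx⟩ := exists_mul_eq_zero_of_mem_minimalPrimes p hmin hmem
    refine ⟨⟨c, hc⟩, ?_⟩
    have : c * x - c * y = 0 := by rw [← mul_sub]; exact hcx
    exact sub_eq_zero.mp this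


theorem fibre_indSmooth {R Λ : Type u} [CommRing R] [CommRing Λ] [Algebra R Λ]
    [IsNoetherianRing R] [IsNoetherianRing Λ]
    (hreg : CAlg.IsRegularHom R Λ) (I : Ideal R) (p : Ideal R) [p.IsPrime]
    [Algebra (R ⧸ I) p.ResidueField] [IsScalarTower R (R ⧸ I) p.ResidueField] :
    Smoothing.IndSmooth p.ResidueField
      (p.ResidueField ⊗[R ⧸ I] (Λ ⧸ I.map (algebraMap R Λ))) := by
  haveI : IsNoetherianRing (p.Fiber Λ) := (hreg.2 p).1
  have h := indSmooth_field (hreg.2 p).2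
  let e₁ : p.ResidueField ⊗[R ⧸ I] (Λ ⧸ I.map (algebraMap R Λ)) ≃ₐ[p.ResidueField]
      p.ResidueField ⊗[R ⧸ I] ((R ⧸ I) ⊗[R] Λ) :=
    Algebra.TensorProduct.congr AlgEquiv.refl
      (Algebra.TensorProduct.quotIdealMapEquivQuotTensor Λ I)
  let e₂ : p.ResidueField ⊗[R ⧸ I] ((R ⧸ I) ⊗[R] Λ) ≃ₐ[p.ResidueField]
      p.ResidueField ⊗[R] Λ :=
    Algebra.TensorProduct.cancelBaseChange R (R ⧸ I) p.ResidueField p.ResidueField Λ
  exact IndSmLiftH8.indSmooth_of_ringEquiv (RingEquiv.refl p.ResidueField)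
    (e₁.trans e₂).toRingEquiv (fun r => (e₁.trans e₂).commutes r) h

theorem residueField_isLocalization {R : Type u} [CommRing R] (I : Ideal R) [IsReduced (R ⧸ I)]
    (pbar : Ideal (R ⧸ I)) [pbar.IsPrime] (hmin : pbar ∈ minimalPrimes (R ⧸ I))
    (p : Ideal R) [p.IsPrime] (hp : p = pbar.comap (Ideal.Quotient.mk I))
    [Algebra (R ⧸ I) p.ResidueField] [IsScalarTower R (R ⧸ I) p.ResidueField] :
    IsLocalization.AtPrime p.ResidueField pbar := by
  have e1 : ∀ x : R, algebraMap (R ⧸ I) p.ResidueField (Ideal.Quotient.mk I x) =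
      algebraMap R p.ResidueField x := fun x => by
    rw [← Ideal.Quotient.algebraMap_eq, ← IsScalarTower.algebraMap_apply]
  apply isLocalization_atPrime_of_field pbar hmin
  · ext xbar
    obtain ⟨x, rfl⟩ := Ideal.Quotient.mk_surjective xbar
    rw [RingHom.mem_ker, e1, Ideal.algebraMap_residueField_eq_zero, hp, Ideal.mem_comap]
  · intro z
    obtain ⟨l, rfl⟩ := IsLocalRing.residue_surjective (R := Localization.AtPrime p) z
    obtain ⟨⟨a, ⟨b, hb⟩⟩, hab⟩ := IsLocalization.surj p.primeCompl l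
    refine ⟨Ideal.Quotient.mk I a, Ideal.Quotient.mk I b, ?_, ?_⟩
    · intro hmem
      apply hb
      rw [hp]
      exact hmem
    · rw [e1, e1, IsScalarTower.algebraMap_apply R (Localization.AtPrime p) p.ResidueField,
        IsScalarTower.algebraMap_apply R (Localization.AtPrime p) p.ResidueField]
      change IsLocalRing.residue _ l * IsLocalRing.residue _ _ = IsLocalRing.residue _ _
      rw [← map_mul, hab]


theorem ker_factor {R : Type u} [CommRing R] (I J : Ideal R) (hIJ : I ≤ J) :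
    RingHom.ker (Ideal.Quotient.factor hIJ) = J.map (Ideal.Quotient.mk I) := by
  have h1 : (RingHom.ker (Ideal.Quotient.factor hIJ)).comap (Ideal.Quotient.mk I) = J := by
    rw [RingHom.comap_ker, Ideal.Quotient.factor_comp_mk, Ideal.mk_ker]
  conv_rhs => rw [← h1]
  rw [Ideal.map_comap_of_surjective _ Ideal.Quotient.mk_surjective]

theorem algebraMap_comp_mk {R Λ : Type u} [CommRing R] [CommRing Λ] [Algebra R Λ] (I : Ideal R) :
    (algebraMap (R ⧸ I) (Λ ⧸ I.map (algebraMap R Λ))).comp (Ideal.Quotient.mk I) =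
      (Ideal.Quotient.mk (I.map (algebraMap R Λ))).comp (algebraMap R Λ) := by
  ext r
  rfl

theorem flat_quot {R Λ : Type u} [CommRing R] [CommRing Λ] [Algebra R Λ] [Module.Flat R Λ]
    (I : Ideal R) : Module.Flat (R ⧸ I) (Λ ⧸ I.map (algebraMap R Λ)) :=
  Module.Flat.of_linearEquiv (Algebra.TensorProduct.quotIdealMapEquivQuotTensor Λ I).toLinearEquiv

theorem indSmooth_quot_of_pow_le {R Λ : Type u} [CommRing R] [CommRing Λ] [Algebra R Λ]
    [Module.Flat R Λ] (I J : Ideal R) (hIJ : I ≤ J) (n : ℕ) (hn : J ^ (n + 1) ≤ I)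
    (h : Smoothing.IndSmooth (R ⧸ J) (Λ ⧸ J.map (algebraMap R Λ))) :
    Smoothing.IndSmooth (R ⧸ I) (Λ ⧸ I.map (algebraMap R Λ)) := by
  haveI := flat_quot (Λ := Λ) I
  refine IndSmLiftH8.indSmooth_of_pow_eq_bot n (Ideal.Quotient.factor hIJ)
    (Ideal.Quotient.factor (Ideal.map_mono hIJ)) (Ideal.Quotient.factor_surjective _)
    (Ideal.Quotient.factor_surjective _) ?_ ?_ ?_ h
  · intro rbar
    obtain ⟨r, rfl⟩ := Ideal.Quotient.mk_surjective rbar
    rfl
  · rw [ker_factor, ker_factor, Ideal.map_map, Ideal.map_map, algebraMap_comp_mk]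
  · rw [ker_factor, ← Ideal.map_pow, Ideal.map_eq_bot_iff_le_ker, Ideal.mk_ker]
    exact hn

theorem indSmooth_quot_quot {R Λ : Type u} [CommRing R] [CommRing Λ] [Algebra R Λ]
    (I K : Ideal R)
    (h : Smoothing.IndSmooth (R ⧸ (I ⊔ K)) (Λ ⧸ (I ⊔ K).map (algebraMap R Λ))) :
    Smoothing.IndSmooth ((R ⧸ I) ⧸ K.map (Ideal.Quotient.mk I))
      ((Λ ⧸ I.map (algebraMap R Λ)) ⧸ (K.map (Ideal.Quotient.mk I)).map
        (algebraMap (R ⧸ I) (Λ ⧸ I.map (algebraMap R Λ)))) := by
  refine indSmooth_of_surj_surj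
    ((Ideal.Quotient.mk (K.map (Ideal.Quotient.mk I))).comp (Ideal.Quotient.mk I))
    ((Ideal.Quotient.mk ((K.map (Ideal.Quotient.mk I)).map
        (algebraMap (R ⧸ I) (Λ ⧸ I.map (algebraMap R Λ))))).comp
      (Ideal.Quotient.mk (I.map (algebraMap R Λ))))
    (Ideal.Quotient.mk (I ⊔ K)) (Ideal.Quotient.mk ((I ⊔ K).map (algebraMap R Λ)))
    (Ideal.Quotient.mk_surjective.comp Ideal.Quotient.mk_surjective)
    (Ideal.Quotient.mk_surjective.comp Ideal.Quotient.mk_surjective)
    Ideal.Quotient.mk_surjective Ideal.Quotient.mk_surjective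
    (fun r => rfl) (fun r => rfl) ?_ ?_ h
  · rw [← RingHom.comap_ker, Ideal.mk_ker, Ideal.mk_ker,
      Ideal.comap_map_of_surjective _ Ideal.Quotient.mk_surjective, ← RingHom.ker_eq_comap_bot,
      Ideal.mk_ker, sup_comm]
  · rw [← RingHom.comap_ker, Ideal.mk_ker, Ideal.mk_ker, Ideal.map_map, algebraMap_comp_mk,
      ← Ideal.map_map, Ideal.comap_map_of_surjective _ Ideal.Quotient.mk_surjective,
      ← RingHom.ker_eq_comap_bot, Ideal.mk_ker, Ideal.map_sup, sup_comm]


theorem indSmooth_congr_ideal {R Λ : Type u} [CommRing R] [CommRing Λ] [Algebra R Λ]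
    (X Y : Ideal R) (hXY : X = Y)
    (h : Smoothing.IndSmooth (R ⧸ X) (Λ ⧸ X.map (algebraMap R Λ))) :
    Smoothing.IndSmooth (R ⧸ Y) (Λ ⧸ Y.map (algebraMap R Λ)) := by
  subst hXY
  exact h

theorem popescu_quot {R Λ : Type u} [CommRing R] [IsNoetherianRing R] [CommRing Λ]
    [IsNoetherianRing Λ] [Algebra R Λ] (hreg : CAlg.IsRegularHom R Λ) (I : Ideal R) :
    Smoothing.IndSmooth (R ⧸ I) (Λ ⧸ I.map (algebraMap R Λ)) := by
  classical
  haveI := hreg.1
  refine IsNoetherian.induction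
    (P := fun I : Ideal R => Smoothing.IndSmooth (R ⧸ I) (Λ ⧸ I.map (algebraMap R Λ)))
    (fun (I : Ideal R) ih => ?_) I
  by_cases htop : I = ⊤
  · subst htop
    haveI : Subsingleton (R ⧸ (⊤ : Ideal R)) := Ideal.Quotient.subsingleton_iff.mpr rfl
    exact indSmooth_of_subsingleton
  by_cases hrad : I.IsRadical
  · haveI : IsReduced (R ⧸ I) := (Ideal.isRadical_iff_quotient_reduced I).mp hrad
    haveI : Nontrivial (R ⧸ I) := Ideal.Quotient.nontrivial_iff.mpr htop
    haveI := flat_quot (Λ := Λ) I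
    obtain ⟨⟨pbar, hpbar⟩⟩ := Ideal.nonempty_minimalPrimes (I := (⊥ : Ideal (R ⧸ I))) bot_ne_top
    haveI : pbar.IsPrime := hpbar.1.1
    obtain ⟨p, hp⟩ : ∃ p : Ideal R, p = pbar.comap (Ideal.Quotient.mk I) := ⟨_, rfl⟩
    haveI : p.IsPrime := by rw [hp]; exact Ideal.comap_isPrime _ _
    have hIp : I ≤ p := by
      intro x hx
      rw [hp, Ideal.mem_comap, Ideal.Quotient.eq_zero_iff_mem.mpr hx]
      exact zero_mem _
    letI alg : Algebra (R ⧸ I) p.ResidueField :=
      (Ideal.Quotient.lift I (algebraMap R p.ResidueField)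
        (fun x hx => (Ideal.algebraMap_residueField_eq_zero).mpr (hIp hx))).toAlgebra
    haveI : IsScalarTower R (R ⧸ I) p.ResidueField :=
      IsScalarTower.of_algebraMap_eq (fun x => rfl)
    haveI := residueField_isLocalization I pbar hpbar p hp
    refine step pbar (K := p.ResidueField) (fibre_indSmooth hreg I p) ?_
    intro sbar hs
    obtain ⟨s, rfl⟩ := Ideal.Quotient.mk_surjective sbar
    have hsI : s ^ 8 ∉ I := by
      intro hmem
      apply hs
      have : (Ideal.Quotient.mk I s) ^ 8 ∈ pbar := by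
        rw [← map_pow, Ideal.Quotient.eq_zero_iff_mem.mpr hmem]
        exact zero_mem _
      exact Ideal.IsPrime.mem_of_pow_mem inferInstance _ this
    have hJ : I < I ⊔ Ideal.span {s ^ 8} := by
      refine lt_of_le_of_ne le_sup_left (fun heq => hsI ?_)
      rw [heq]
      exact Ideal.mem_sup_right (Ideal.subset_span rfl)
    have h2 := indSmooth_quot_quot (Λ := Λ) I (Ideal.span {s ^ 8}) (ih _ hJ)
    have e : (Ideal.span {s ^ 8}).map (Ideal.Quotient.mk I) =
        Ideal.span {(Ideal.Quotient.mk I s) ^ 8} := by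
      rw [Ideal.map_span, Set.image_singleton, map_pow]
    exact indSmooth_congr_ideal _ _ e h2
  · obtain ⟨n, hn⟩ := Ideal.exists_radical_pow_le_of_fg I (IsNoetherian.noetherian _)
    have hlt : I < I.radical :=
      lt_of_le_of_ne Ideal.le_radical (fun h => hrad (Ideal.radical_eq_iff.mp h.symm))
    exact indSmooth_quot_of_pow_le I I.radical Ideal.le_radical n
      (le_trans (Ideal.pow_le_pow_right (Nat.le_succ n)) hn) (ih _ hlt)

/-- **Popescu's theorem** (general Néron–Popescu desingularisation): a regular homomorphism of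
Noetherian rings is ind-smooth. -/
theorem popescu {R Λ : Type u} [CommRing R] [IsNoetherianRing R] [CommRing Λ]
    [IsNoetherianRing Λ] [Algebra R Λ] (hreg : CAlg.IsRegularHom R Λ) :
    Smoothing.IndSmooth R Λ := by
  haveI := hreg.1
  have h := popescu_quot hreg ⊥
  refine IndSmLiftH8.indSmooth_of_pow_eq_bot 0 (Ideal.Quotient.mk (⊥ : Ideal R))
    (Ideal.Quotient.mk ((⊥ : Ideal R).map (algebraMap R Λ))) Ideal.Quotient.mk_surjective
    Ideal.Quotient.mk_surjective (fun r => rfl) ?_ ?_ h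
  · rw [Ideal.mk_ker, Ideal.mk_ker]
  · rw [Ideal.mk_ker, zero_add, pow_one]

end Groth.Agent.Lib.PopescuH5
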