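import Mathlib
import Groth.Prelude.Def_Smoothing
import Groth.Prelude.Def_Found
import Groth.Agent.Lib.Popescu2_helper5
import Groth.Agent.Lib.HensPairSm4_helper8
import Groth.Agent.Lib.HenselPairOps_lead
import Groth.Agent.Lib.GRingIso_helper3
import Groth.Agent.S0543

set_option autoImplicit false
set_option linter.style.haveILetI false
set_option linter.unusedVariables false
set_option maxHeartbeats 1600000

universe u

open TensorProduct IsLocalRing

namespace Groth.Agent.Lib.ArtinApxH5

/-- the kernel of `evalₐ` is the extended ideal (finitely generated ideal) -/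
theorem mem_map_of_evalₐ_eq_zero {A : Type u} [CommRing A] (I : Ideal A) (hfg : I.FG) (N : ℕ)
    (x : AdicCompletion I A) (hx : AdicCompletion.evalₐ I N x = 0) :
    x ∈ (I ^ N).map (algebraMap A (AdicCompletion I A)) := by
  have h1 : AdicCompletion.eval I A N x = 0 := by
    rw [← AdicCompletion.factor_evalₐ_eq_eval I x (by simp), hx, map_zero]
  have h2 : x ∈ (I ^ N • ⊤ : Submodule A (AdicCompletion I A)) := by
    rw [AdicCompletion.pow_smul_top_eq_ker_eval hfg]
    exact h1
  rw [Ideal.smul_top_eq_map] at h2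
  exact h2

/-- **Artin approximation** for a Noetherian henselian pair whose completion map is regular. -/
theorem artin_approx (A : Type u) [CommRing A] [IsNoetherianRing A]
    (I : Ideal A) (hI : HenselianRing A I) (hreg : CAlg.IsRegularHom A (AdicCompletion I A))
    (n m : ℕ) (F : Fin m → MvPolynomial (Fin n) A) (a : Fin n → (AdicCompletion I A))
    (ha : ∀ j, MvPolynomial.eval a
      (MvPolynomial.map (algebraMap A (AdicCompletion I A)) (F j)) = 0) (N : ℕ) :
    ∃ b : Fin n → A, (∀ j, MvPolynomial.eval b (F j) = 0) ∧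
      ∀ i, a i - algebraMap A (AdicCompletion I A) (b i) ∈
        (I ^ N).map (algebraMap A (AdicCompletion I A)) := by
  classical
  haveI : IsNoetherianRing (AdicCompletion I A) := Groth.Agent.S0543.result A I
  have hJ : HenselianRing A (I ^ (N + 1)) :=
    Groth.Agent.Lib.HenselPairOpsLead.henselian_of_le (Ideal.pow_le_self (Nat.succ_ne_zero N)) hI
  -- the algebra of the system
  let K : Ideal (MvPolynomial (Fin n) A) := Ideal.span (Set.range F)
  haveI : Algebra.FinitePresentation A (MvPolynomial (Fin n) A ⧸ K) :=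
    Algebra.FinitePresentation.quotient (Submodule.fg_span (Set.finite_range F))
  have hK : ∀ p ∈ K, MvPolynomial.aeval a p = 0 := by
    intro p hp
    have : K ≤ RingHom.ker (MvPolynomial.aeval a : MvPolynomial (Fin n) A →ₐ[A] _).toRingHom := by
      rw [Ideal.span_le]
      rintro _ ⟨j, rfl⟩
      show MvPolynomial.aeval a (F j) = 0
      rw [MvPolynomial.aeval_def, ← MvPolynomial.eval_map]
      exact ha j
    exact this hp
  let f : (MvPolynomial (Fin n) A ⧸ K) →ₐ[A] AdicCompletion I A :=
    Ideal.Quotient.liftₐ K (MvPolynomial.aeval a) hK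
  obtain ⟨B, iB1, iB2, hsm, g, h, hgh⟩ :=
    Groth.Agent.Lib.PopescuH5.popescu hreg (MvPolynomial (Fin n) A ⧸ K) inferInstance f
  haveI := hsm
  let σ' : B →ₐ[A] A ⧸ I ^ (N + 1) := (AdicCompletion.evalₐ I (N + 1)).comp h
  obtain ⟨τ, hτ⟩ := HensPairSmH8.exists_lift_of_smooth (I ^ (N + 1)) hJ σ'
  let ψ : MvPolynomial (Fin n) A →ₐ[A] A := (τ.comp g).comp (Ideal.Quotient.mkₐ A K)
  refine ⟨fun i => ψ (MvPolynomial.X i), fun j => ?_, fun i => ?_⟩
  · have h1 : ψ = MvPolynomial.aeval (fun i => ψ (MvPolynomial.X i)) :=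
      MvPolynomial.aeval_unique ψ
    have h2 : MvPolynomial.eval (fun i => ψ (MvPolynomial.X i)) (F j) = ψ (F j) := by
      conv_rhs => rw [h1]
      rfl
    rw [h2]
    have h3 : Ideal.Quotient.mkₐ A K (F j) = 0 :=
      Ideal.Quotient.eq_zero_iff_mem.mpr (Ideal.subset_span ⟨j, rfl⟩)
    show τ (g (Ideal.Quotient.mkₐ A K (F j))) = 0
    rw [h3, map_zero, map_zero]
  · apply Ideal.map_mono (Ideal.pow_le_pow_right (Nat.le_succ N))
    apply mem_map_of_evalₐ_eq_zero I (IsNoetherian.noetherian I)
    set c : B := g (Ideal.Quotient.mkₐ A K (MvPolynomial.X i)) with hc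
    have h1 : a i = h c := by
      have : f (Ideal.Quotient.mkₐ A K (MvPolynomial.X i)) = a i := by
        show MvPolynomial.aeval a (MvPolynomial.X i) = a i
        exact MvPolynomial.aeval_X a i
      rw [← this, ← hgh]
      rfl
    have h2 : ψ (MvPolynomial.X i) = τ c := rfl
    show AdicCompletion.evalₐ I (N + 1)
      (a i - algebraMap A (AdicCompletion I A) (ψ (MvPolynomial.X i))) = 0
    rw [h1, h2, map_sub, AdicCompletion.algebraMap_apply, AdicCompletion.evalₐ_of,
      Algebra.algebraMap_self, RingHom.id_apply, hτ c]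
    show σ' c - σ' c = 0
    exact sub_self _

end Groth.Agent.Lib.ArtinApxH5
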