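import Mathlib
import Groth.Agent.Lib.HenselPairOps_lead

/-!
# The henselization of a pair `(A, I)` has the same quotient `A/I`
(pure universal-property argument, via the fibre product `B ×_{B/IB} A/I`).
-/

namespace Groth.Agent.Lib.PairHensQuot

open Polynomial Groth.Agent.Lib.HenselPairOpsLead

universe u

section Quot

variable {A : Type u} (B : Type u) [CommRing A] [CommRing B] [Algebra A B] (I : Ideal A)

/-- the comparison map `A/I → B/IB` -/
noncomputable abbrev psi : A ⧸ I →+* B ⧸ I.map (algebraMap A B) :=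
  Ideal.quotientMap (I.map (algebraMap A B)) (algebraMap A B) Ideal.le_comap_map

/-- the fibre product `B ×_{B/IB} A/I` -/
noncomputable def fib : Subring (B × (A ⧸ I)) :=
  RingHom.eqLocus ((Ideal.Quotient.mk (I.map (algebraMap A B))).comp (RingHom.fst B (A ⧸ I)))
    ((psi B I).comp (RingHom.snd B (A ⧸ I)))

noncomputable def pr₁ : fib B I →+* B := (RingHom.fst B (A ⧸ I)).comp (fib B I).subtype

noncomputable def pr₂ : fib B I →+* A ⧸ I := (RingHom.snd B (A ⧸ I)).comp (fib B I).subtype

lemma fib_mem (c : fib B I) :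
    Ideal.Quotient.mk (I.map (algebraMap A B)) (pr₁ B I c) = psi B I (pr₂ B I c) := c.2

/-- constructor of elements of the fibre product -/
noncomputable def mkC (x : B) (a : A ⧸ I)
    (h : Ideal.Quotient.mk (I.map (algebraMap A B)) x = psi B I a) : fib B I := ⟨(x, a), h⟩

@[simp] lemma pr₁_mkC (x : B) (a : A ⧸ I)
    (h : Ideal.Quotient.mk (I.map (algebraMap A B)) x = psi B I a) :
    pr₁ B I (mkC B I x a h) = x := rfl

@[simp] lemma pr₂_mkC (x : B) (a : A ⧸ I)
    (h : Ideal.Quotient.mk (I.map (algebraMap A B)) x = psi B I a) :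
    pr₂ B I (mkC B I x a h) = a := rfl

lemma fib_ext {c c' : fib B I} (h1 : pr₁ B I c = pr₁ B I c') (h2 : pr₂ B I c = pr₂ B I c') :
    c = c' :=
  Subtype.ext (Prod.ext h1 h2)

theorem fib_henselian (h1 : HenselianRing B (I.map (algebraMap A B))) :
    HenselianRing (fib B I) (RingHom.ker (pr₂ B I)) := by
  have hJ1 : ∀ c : fib B I, c ∈ RingHom.ker (pr₂ B I) →
      pr₁ B I c ∈ I.map (algebraMap A B) := by
    intro c hc
    rw [RingHom.mem_ker] at hc
    rw [← Ideal.Quotient.eq_zero_iff_mem, fib_mem B I c, hc, map_zero]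
  refine ⟨?_, ?_⟩
  · intro c hc
    rw [Ideal.mem_jacobson_bot]
    intro y
    have hx := hJ1 c hc
    have hu : IsUnit (pr₁ B I c * pr₁ B I y + 1) := Ideal.mem_jacobson_bot.1 (h1.jac hx) _
    obtain ⟨u, hu'⟩ := hu.exists_right_inv
    have hmk : Ideal.Quotient.mk (I.map (algebraMap A B)) u = 1 := by
      have h3 := congrArg (Ideal.Quotient.mk (I.map (algebraMap A B))) hu'
      simp only [map_mul, map_add, map_one, Ideal.Quotient.eq_zero_iff_mem.2 hx, zero_mul,
        zero_add, one_mul] at h3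
      exact h3
    refine isUnit_iff_exists_inv.2 ⟨mkC B I u 1 (by rw [hmk, map_one]), ?_⟩
    apply fib_ext
    · simp only [map_mul, map_add, map_one, pr₁_mkC]
      exact hu'
    · simp only [map_mul, map_add, map_one, pr₂_mkC, RingHom.mem_ker.1 hc]
      ring
  · intro F hF a₀ h₁ h₂
    obtain ⟨y, hy⟩ := (isUnit_mk_iff _ _).1 h₂
    have e1 : (F.map (pr₁ B I)).eval (pr₁ B I a₀) = pr₁ B I (F.eval a₀) :=
      Polynomial.eval_map_apply _ _
    have e1' : (F.map (pr₁ B I)).derivative.eval (pr₁ B I a₀)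
        = pr₁ B I (F.derivative.eval a₀) := by
      rw [Polynomial.derivative_map, Polynomial.eval_map_apply]
    obtain ⟨b, hb, hba⟩ := h1.is_henselian (F.map (pr₁ B I)) (hF.map _) (pr₁ B I a₀)
      (by rw [e1]; exact hJ1 _ h₁)
      (by
        rw [e1']
        refine (isUnit_mk_iff _ _).2 ⟨pr₁ B I y, ?_⟩
        have := hJ1 _ hy
        rwa [map_sub, map_mul, map_one] at this)
    have hbm : Ideal.Quotient.mk (I.map (algebraMap A B)) b = psi B I (pr₂ B I a₀) := by
      rw [← fib_mem B I a₀]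
      exact Ideal.Quotient.eq.2 hba
    refine ⟨mkC B I b (pr₂ B I a₀) hbm, ?_, ?_⟩
    · show F.eval (mkC B I b (pr₂ B I a₀) hbm) = 0
      apply fib_ext
      · rw [← Polynomial.eval_map_apply (pr₁ B I), pr₁_mkC, map_zero]
        exact hb
      · rw [← Polynomial.eval_map_apply (pr₂ B I), pr₂_mkC, map_zero, Polynomial.eval_map_apply]
        exact RingHom.mem_ker.1 h₁
    · rw [RingHom.mem_ker, map_sub, pr₂_mkC, sub_self]

/-- `A/I → B/IB` is bijective for the henselization `B` of `(A, I)`. -/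
theorem quotientMap_bijective (h1 : HenselianRing B (I.map (algebraMap A B)))
    (h2 : ∀ (C : Type u) [CommRing C] (J : Ideal C) (f : A →+* C), HenselianRing C J →
      I.map f ≤ J → ∃! g : B →+* C, g.comp (algebraMap A B) = f) :
    Function.Bijective (psi B I) := by
  let f : A →+* fib B I :=
    RingHom.codRestrict ((algebraMap A B).prod (Ideal.Quotient.mk I)) (fib B I)
      (fun a => by
        show Ideal.Quotient.mk (I.map (algebraMap A B)) (algebraMap A B a)
          = psi B I (Ideal.Quotient.mk I a)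
        rw [Ideal.quotientMap_mk])
  have hf1 : ∀ a, pr₁ B I (f a) = algebraMap A B a := fun a => rfl
  have hf2 : ∀ a, pr₂ B I (f a) = Ideal.Quotient.mk I a := fun a => rfl
  have hle : I.map f ≤ RingHom.ker (pr₂ B I) := by
    rw [Ideal.map_le_iff_le_comap]
    intro a ha
    rw [Ideal.mem_comap, RingHom.mem_ker, hf2]
    exact Ideal.Quotient.eq_zero_iff_mem.2 ha
  obtain ⟨g, hg, -⟩ := h2 (fib B I) (RingHom.ker (pr₂ B I)) f (fib_henselian B I h1) hle
  have hg' : ∀ a, g (algebraMap A B a) = f a := fun a => RingHom.congr_fun hg a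
  have hid : (pr₁ B I).comp g = RingHom.id B := by
    obtain ⟨g₀, -, hu⟩ := h2 B (I.map (algebraMap A B)) (algebraMap A B) h1 le_rfl
    refine (hu ((pr₁ B I).comp g) (RingHom.ext fun a => ?_)).trans
      (hu (RingHom.id B) (RingHom.id_comp _)).symm
    rw [RingHom.comp_apply, RingHom.comp_apply, hg', hf1]
  have hid' : ∀ x, pr₁ B I (g x) = x := fun x => RingHom.congr_fun hid x
  have hθ : ∀ a, pr₂ B I (g (algebraMap A B a)) = Ideal.Quotient.mk I a := fun a => by
    rw [hg', hf2]
  have hθψ : ∀ x, Ideal.Quotient.mk (I.map (algebraMap A B)) x = psi B I (pr₂ B I (g x)) :=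
    fun x => by
      have := fib_mem B I (g x)
      rw [hid' x] at this
      exact this
  have hker : I.map (algebraMap A B) ≤ RingHom.ker ((pr₂ B I).comp g) := by
    rw [Ideal.map_le_iff_le_comap]
    intro a ha
    rw [Ideal.mem_comap, RingHom.mem_ker, RingHom.comp_apply, hθ]
    exact Ideal.Quotient.eq_zero_iff_mem.2 ha
  constructor
  · rw [injective_iff_map_eq_zero]
    intro z hz
    obtain ⟨a, rfl⟩ := Ideal.Quotient.mk_surjective z
    rw [Ideal.quotientMap_mk, Ideal.Quotient.eq_zero_iff_mem] at hz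
    have := hker hz
    rw [RingHom.mem_ker, RingHom.comp_apply, hθ] at this
    exact this
  · intro z
    obtain ⟨x, rfl⟩ := Ideal.Quotient.mk_surjective z
    exact ⟨pr₂ B I (g x), (hθψ x).symm⟩

theorem isMaximal_of_bijective [hI : I.IsMaximal] (hbij : Function.Bijective (psi B I)) :
    (I.map (algebraMap A B)).IsMaximal := by
  have e : (A ⧸ I) ≃+* (B ⧸ I.map (algebraMap A B)) := RingEquiv.ofBijective _ hbij
  have hf : IsField (A ⧸ I) := (Ideal.Quotient.maximal_ideal_iff_isField_quotient I).1 hI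
  exact Ideal.Quotient.maximal_of_isField _ (MulEquiv.isField hf e.symm.toMulEquiv)

end Quot

theorem isLocalRing_of_isMaximal {R : Type*} [CommRing R] {M : Ideal R}
    (hjac : M ≤ Ideal.jacobson ⊥) (hmax : M.IsMaximal) :
    ∃ (_ : IsLocalRing R), IsLocalRing.maximalIdeal R = M := by
  have hloc : IsLocalRing R := by
    refine IsLocalRing.of_unique_max_ideal ⟨M, hmax, fun N hN => ?_⟩
    have hjN : Ideal.jacobson (⊥ : Ideal R) ≤ N := by
      unfold Ideal.jacobson
      exact sInf_le ⟨bot_le, hN⟩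
    exact (hmax.eq_of_le hN.ne_top (hjac.trans hjN)).symm
  haveI := hloc
  exact ⟨hloc, (IsLocalRing.eq_maximalIdeal hmax).symm⟩

theorem henselianLocalRing_of {R : Type*} [CommRing R] [hl : IsLocalRing R]
    (h : HenselianRing R (IsLocalRing.maximalIdeal R)) : HenselianLocalRing R :=
  { hl with
    is_henselian := fun f hf a₀ h₁ h₂ => h.is_henselian f hf a₀ h₁ (h₂.map _) }

end Groth.Agent.Lib.PairHensQuot
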