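import Mathlib
import Groth.Prelude.Def_Hens2
import Groth.Agent.Lib.PairHensExists_lead
import Groth.Agent.Lib.PairHensQuot_lead
import Groth.Agent.Lib.EtaleSection_lead
import Groth.Agent.Lib.Henselization6_helper3
import Groth.Agent.Lib.IndEtale4_helper3

/-!
# Etale neighbourhoods of a pair `(A, I)` and the henselization as their filtered colimit (lead)

For a henselization `B` of `(A, I)` (in the sense of `Hens2.IsPairHenselization`):
* every étale neighbourhood `A'` (étale with `A/I ≃ A'/IA'`) has exactly one `A`-algebra map to `B`;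
* every element of `B` comes from an étale neighbourhood;
* an element of an étale neighbourhood dying in `B` dies in a further étale neighbourhood;
* `B` is flat over `A` and `A/I^n ≃ B/I^n B`.
-/

set_option autoImplicit false
universe u

namespace Groth.Agent.Lib.EtaleNbhd

open Polynomial TensorProduct Groth.Agent.Lib.HenselPairOpsLead
open Groth.Agent.Lib

section Crit

variable {A : Type u} [CommRing A] (I : Ideal A)

/-- `A/I → C/IC` is surjective -/
def SurjMod (C : Type u) [CommRing C] [Algebra A C] : Prop :=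
  ∀ x : C, ∃ a : A, x - algebraMap A C a ∈ I.map (algebraMap A C)

/-- `A/I → C/IC` is injective -/
def InjMod (C : Type u) [CommRing C] [Algebra A C] : Prop :=
  ∀ a : A, algebraMap A C a ∈ I.map (algebraMap A C) → a ∈ I

theorem bijective_iff (C : Type u) [CommRing C] [Algebra A C] :
    Function.Bijective
      (Ideal.quotientMap (I.map (algebraMap A C)) (algebraMap A C) Ideal.le_comap_map)
      ↔ SurjMod I C ∧ InjMod I C := by
  constructor
  · rintro ⟨hinj, hsurj⟩
    refine ⟨fun x => ?_, fun a ha => ?_⟩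
    · obtain ⟨z, hz⟩ := hsurj (Ideal.Quotient.mk _ x)
      obtain ⟨a, rfl⟩ := Ideal.Quotient.mk_surjective z
      rw [Ideal.quotientMap_mk] at hz
      exact ⟨a, Ideal.Quotient.eq.1 hz.symm⟩
    · have h1 : Ideal.quotientMap (I.map (algebraMap A C)) (algebraMap A C) Ideal.le_comap_map
          (Ideal.Quotient.mk I a) = 0 := by
        rw [Ideal.quotientMap_mk]; exact Ideal.Quotient.eq_zero_iff_mem.2 ha
      exact Ideal.Quotient.eq_zero_iff_mem.1 ((map_eq_zero_iff _ hinj).1 h1)
  · rintro ⟨hS, hI⟩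
    refine ⟨(injective_iff_map_eq_zero _).2 fun z hz => ?_, fun z => ?_⟩
    · obtain ⟨a, rfl⟩ := Ideal.Quotient.mk_surjective z
      rw [Ideal.quotientMap_mk] at hz
      exact Ideal.Quotient.eq_zero_iff_mem.2 (hI a (Ideal.Quotient.eq_zero_iff_mem.1 hz))
    · obtain ⟨x, rfl⟩ := Ideal.Quotient.mk_surjective z
      obtain ⟨a, ha⟩ := hS x
      exact ⟨Ideal.Quotient.mk I a, by
        rw [Ideal.quotientMap_mk]; exact (Ideal.Quotient.eq.2 ha).symm⟩

theorem algHom_mem_map {C D : Type u} [CommRing C] [CommRing D] [Algebra A C] [Algebra A D]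
    (ψ : C →ₐ[A] D) {c : C} (hc : c ∈ I.map (algebraMap A C)) :
    ψ c ∈ I.map (algebraMap A D) := by
  have e : ψ.toRingHom.comp (algebraMap A C) = algebraMap A D :=
    RingHom.ext fun r => ψ.commutes r
  have h := Ideal.mem_map_of_mem ψ.toRingHom hc
  rw [Ideal.map_map, e] at h
  exact h

theorem surj_trans {C D : Type u} [CommRing C] [CommRing D] [Algebra A C] [Algebra C D]
    [Algebra A D] [IsScalarTower A C D] (hC : SurjMod I C)
    (hD : ∀ d : D, ∃ c : C,
      d - algebraMap C D c ∈ (I.map (algebraMap A C)).map (algebraMap C D)) : SurjMod I D := by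
  intro d
  obtain ⟨c, hc⟩ := hD d
  obtain ⟨a, ha⟩ := hC c
  refine ⟨a, ?_⟩
  have hmap : (I.map (algebraMap A C)).map (algebraMap C D) = I.map (algebraMap A D) := by
    rw [Ideal.map_map, ← IsScalarTower.algebraMap_eq]
  have e : d - algebraMap A D a
      = (d - algebraMap C D c) + algebraMap C D (c - algebraMap A C a) := by
    rw [map_sub, ← IsScalarTower.algebraMap_apply]; ring
  rw [e, ← hmap]
  exact add_mem hc (Ideal.mem_map_of_mem _ ha)

theorem tmul_mem_left {C₁ C₂ : Type u} [CommRing C₁] [CommRing C₂] [Algebra A C₁] [Algebra A C₂]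
    {c : C₁} (hc : c ∈ I.map (algebraMap A C₁)) (y : C₂) :
    c ⊗ₜ[A] y ∈ I.map (algebraMap A (C₁ ⊗[A] C₂)) := by
  have h1 := algHom_mem_map I (Algebra.TensorProduct.includeLeft : C₁ →ₐ[A] C₁ ⊗[A] C₂) hc
  have h2 : c ⊗ₜ[A] y
      = (Algebra.TensorProduct.includeLeft : C₁ →ₐ[A] C₁ ⊗[A] C₂) c * ((1 : C₁) ⊗ₜ[A] y) := by
    rw [Algebra.TensorProduct.includeLeft_apply, Algebra.TensorProduct.tmul_mul_tmul, mul_one,
      one_mul]
  rw [h2]; exact Ideal.mul_mem_right _ _ h1

theorem tmul_mem_right {C₁ C₂ : Type u} [CommRing C₁] [CommRing C₂] [Algebra A C₁]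
    [Algebra A C₂] (x : C₁) {c : C₂} (hc : c ∈ I.map (algebraMap A C₂)) :
    x ⊗ₜ[A] c ∈ I.map (algebraMap A (C₁ ⊗[A] C₂)) := by
  have h1 := algHom_mem_map I (Algebra.TensorProduct.includeRight : C₂ →ₐ[A] C₁ ⊗[A] C₂) hc
  have h2 : x ⊗ₜ[A] c
      = (Algebra.TensorProduct.includeRight : C₂ →ₐ[A] C₁ ⊗[A] C₂) c * (x ⊗ₜ[A] (1 : C₂)) := by
    rw [Algebra.TensorProduct.includeRight_apply, Algebra.TensorProduct.tmul_mul_tmul, mul_one,
      one_mul]
  rw [h2]; exact Ideal.mul_mem_right _ _ h1

/-- localizing at an element invertible modulo `I` (with inverse from `A`) -/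
theorem away_rel {C : Type u} [CommRing C] [Algebra A C] (s : C) (β : A)
    (hβ : 1 - s * algebraMap A C β ∈ I.map (algebraMap A C)) (D : Type u) [CommRing D]
    [Algebra C D] [IsLocalization.Away s D] (d : D) :
    ∃ c : C, d - algebraMap C D c ∈ (I.map (algebraMap A C)).map (algebraMap C D) := by
  obtain ⟨v, hvdef⟩ : ∃ v : D, v = IsLocalization.Away.invSelf s := ⟨_, rfl⟩
  have hv : algebraMap C D s * v = 1 := by rw [hvdef]; exact IsLocalization.Away.mul_invSelf s
  have h1 : v - algebraMap C D (algebraMap A C β)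
      ∈ (I.map (algebraMap A C)).map (algebraMap C D) := by
    have e : v - algebraMap C D (algebraMap A C β)
        = v * algebraMap C D (1 - s * algebraMap A C β) := by
      rw [map_sub, map_one, map_mul]
      linear_combination (algebraMap C D (algebraMap A C β)) * hv
    rw [e]; exact Ideal.mul_mem_left _ _ (Ideal.mem_map_of_mem _ hβ)
  obtain ⟨c, m, rfl⟩ := IsLocalization.exists_mk'_eq (Submonoid.powers s) d
  obtain ⟨n, hn⟩ := (Submonoid.mem_powers_iff _ _).1 m.2
  have hcm := IsLocalization.mk'_spec D c m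
  have hmv : algebraMap C D (m : C) * v ^ n = 1 := by
    rw [← hn, map_pow, ← mul_pow, hv, one_pow]
  have hd : IsLocalization.mk' D c m = algebraMap C D c * v ^ n := by
    rw [← hcm, mul_assoc, hmv, mul_one]
  refine ⟨c * algebraMap A C β ^ n, ?_⟩
  have e : IsLocalization.mk' D c m - algebraMap C D (c * algebraMap A C β ^ n)
      = algebraMap C D c * (v ^ n - (algebraMap C D (algebraMap A C β)) ^ n) := by
    rw [hd, map_mul, map_pow]; ring
  rw [e]
  exact Ideal.mul_mem_left _ _ (Ideal.mem_of_dvd _ (sub_dvd_pow_sub_pow _ _ n) h1)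

end Crit

section Gen

variable {A : Type u} [CommRing A] {I : Ideal A} {B : Type u} [CommRing B] [Algebra A B]

theorem injMod_of_algHom (hB : Hens2.IsPairHenselization A I B) {C : Type u} [CommRing C]
    [Algebra A C] (φ : C →ₐ[A] B) : InjMod I C := by
  intro a ha
  have h1 : algebraMap A B a ∈ I.map (algebraMap A B) := by
    have := algHom_mem_map I φ ha
    rwa [φ.commutes] at this
  have hbij := PairHensQuot.quotientMap_bijective B I hB.1 hB.2
  exact ((bijective_iff I B).1 hbij).2 a h1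

theorem mem_of_map_mem (hB : Hens2.IsPairHenselization A I B) {C : Type u} [CommRing C]
    [Algebra A C] (hS : SurjMod I C) (φ : C →ₐ[A] B) {x : C}
    (hx : φ x ∈ I.map (algebraMap A B)) : x ∈ I.map (algebraMap A C) := by
  obtain ⟨a, ha⟩ := hS x
  have h1 : algebraMap A B a ∈ I.map (algebraMap A B) := by
    have h2 := algHom_mem_map I φ ha
    rw [map_sub, φ.commutes] at h2
    have : algebraMap A B a = φ x - (φ x - algebraMap A B a) := by ring
    rw [this]; exact sub_mem hx h2
  have hbij := PairHensQuot.quotientMap_bijective B I hB.1 hB.2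
  have h3 : a ∈ I := ((bijective_iff I B).1 hbij).2 a h1
  have : x = (x - algebraMap A C a) + algebraMap A C a := by ring
  rw [this]; exact add_mem ha (Ideal.mem_map_of_mem _ h3)

theorem exists_inv_mod (hB : Hens2.IsPairHenselization A I B) {C : Type u} [CommRing C]
    [Algebra A C] (hS : SurjMod I C) (φ : C →ₐ[A] B) (c : C)
    (hu : IsUnit (Ideal.Quotient.mk (I.map (algebraMap A B)) (φ c))) :
    ∃ β : A, 1 - c * algebraMap A C β ∈ I.map (algebraMap A C) := by
  obtain ⟨α, hα⟩ := hS c
  have hbij := PairHensQuot.quotientMap_bijective B I hB.1 hB.2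
  have h2 : φ c - algebraMap A B α ∈ I.map (algebraMap A B) := by
    have := algHom_mem_map I φ hα
    rwa [map_sub, φ.commutes] at this
  have hu2 : IsUnit (Ideal.Quotient.mk (I.map (algebraMap A B)) (algebraMap A B α)) :=
    isUnit_mk_of_sub_mem _ h2 hu
  have hu3 : IsUnit (Ideal.Quotient.mk I α) := by
    let e := RingEquiv.ofBijective (PairHensQuot.psi B I) hbij
    have he : e (Ideal.Quotient.mk I α) = Ideal.Quotient.mk _ (algebraMap A B α) := by
      show Ideal.quotientMap (I.map (algebraMap A B)) (algebraMap A B) Ideal.le_comap_map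
        (Ideal.Quotient.mk I α) = _
      rw [Ideal.quotientMap_mk]
    rw [← he] at hu2
    have := hu2.map e.symm
    rwa [RingEquiv.symm_apply_apply] at this
  obtain ⟨y, hy⟩ := (isUnit_mk_iff I α).1 hu3
  refine ⟨y, ?_⟩
  have : 1 - c * algebraMap A C y
      = -((c - algebraMap A C α) * algebraMap A C y) - algebraMap A C (α * y - 1) := by
    rw [map_sub, map_mul, map_one]; ring
  rw [this]
  exact sub_mem (neg_mem (Ideal.mul_mem_right _ _ hα)) (Ideal.mem_map_of_mem _ hy)

/-- a subalgebra of the henselization closed under inverses and Hensel roots is everything -/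
theorem subalgebra_eq_top (hB : Hens2.IsPairHenselization A I B) (S : Subalgebra A B)
    (hinv : ∀ x ∈ S, IsUnit x → ∃ y ∈ S, x * y = 1)
    (hroot : ∀ F : B[X], F.Monic → (∀ i, F.coeff i ∈ S) → ∀ a₀ ∈ S,
      F.eval a₀ ∈ I.map (algebraMap A B) →
      IsUnit (Ideal.Quotient.mk (I.map (algebraMap A B)) (F.derivative.eval a₀)) →
      ∀ b : B, F.eval b = 0 → b - a₀ ∈ I.map (algebraMap A B) → b ∈ S) : S = ⊤ := by
  obtain ⟨h1, h2⟩ := hB
  let ι : S →+* B := S.val.toRingHom
  have hιinj : Function.Injective ι := fun x y h => Subtype.ext h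
  have hc : PairHensExists.Closed (I.map (algebraMap A B)) ι := by
    refine ⟨hιinj, ?_, ?_⟩
    · intro s hs
      obtain ⟨y, hy, hxy⟩ := hinv s.1 s.2 hs
      exact isUnit_iff_exists_inv.2 ⟨⟨y, hy⟩, Subtype.ext hxy⟩
    · intro F hF a₀ h₁ h₂
      obtain ⟨b, hb, hba⟩ := h1.is_henselian (F.map ι) (hF.map ι) (ι a₀) h₁ h₂
      have hbS : b ∈ S := hroot (F.map ι) (hF.map ι)
        (fun i => by rw [Polynomial.coeff_map]; exact (F.coeff i).2) (ι a₀) a₀.2 h₁ h₂ b hb hba
      refine ⟨⟨b, hbS⟩, ?_, hba⟩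
      have h0 : ι (F.eval (⟨b, hbS⟩ : S)) = 0 := by
        rw [← Polynomial.eval_map_apply ι]; exact hb
      exact (map_eq_zero_iff ι hιinj).1 h0
  have hK : HenselianRing S ((I.map (algebraMap A B)).comap ι) :=
    PairHensExists.henselian_of_closed hc h1.jac _ (fun x hx => hx)
  have hle : I.map (algebraMap A S) ≤ (I.map (algebraMap A B)).comap ι := by
    rw [Ideal.map_le_iff_le_comap]
    intro a ha
    show ι (algebraMap A S a) ∈ I.map (algebraMap A B)
    exact Ideal.mem_map_of_mem (algebraMap A B) ha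
  obtain ⟨g, hg, -⟩ := h2 S _ (algebraMap A S) hK hle
  obtain ⟨g₀, -, hu⟩ := h2 B _ (algebraMap A B) h1 le_rfl
  have e1 : ι.comp g = g₀ := hu _ (by
    show (ι.comp g).comp (algebraMap A B) = algebraMap A B
    rw [RingHom.comp_assoc, hg]
    exact RingHom.ext fun a => rfl)
  have e2 : RingHom.id B = g₀ := hu _ (by
    show (RingHom.id B).comp (algebraMap A B) = algebraMap A B
    exact RingHom.id_comp _)
  rw [eq_top_iff]
  intro x _
  have hx : ι (g x) = x := RingHom.congr_fun (e1.trans e2.symm) x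
  rw [← hx]
  exact (g x).2

end Gen

section Nbhd

variable (A : Type u) [CommRing A] (I : Ideal A) (B : Type u) [CommRing B] [Algebra A B]

/-- an étale `A`-algebra `C` with `A/I → C/IC` surjective, together with an `A`-map to `B` -/
structure Nb : Type (u + 1) where
  C : Type u
  [cr : CommRing C]
  [alg : Algebra A C]
  [et : Algebra.Etale A C]
  φ : C →ₐ[A] B
  surj : SurjMod I C

attribute [instance] Nb.cr Nb.alg Nb.et

variable {A I B}

noncomputable def Nb.self : Nb A I B where
  C := A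
  φ := Algebra.ofId A B
  surj := fun x => ⟨x, by show x - x ∈ _; rw [sub_self]; exact Ideal.zero_mem _⟩

theorem tensor_surj (N₁ N₂ : Nb A I B) : SurjMod I (N₁.C ⊗[A] N₂.C) := by
  intro z
  induction z using TensorProduct.induction_on with
  | zero => exact ⟨0, by rw [map_zero, sub_zero]; exact Ideal.zero_mem _⟩
  | tmul x y =>
    obtain ⟨a₁, h₁⟩ := N₁.surj x
    obtain ⟨a₂, h₂⟩ := N₂.surj y
    refine ⟨a₁ * a₂, ?_⟩
    have e3 : algebraMap A (N₁.C ⊗[A] N₂.C) (a₁ * a₂)
        = (algebraMap A N₁.C a₁) ⊗ₜ[A] (algebraMap A N₂.C a₂) := by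
      simp only [Algebra.algebraMap_eq_smul_one, TensorProduct.smul_tmul_smul,
        Algebra.TensorProduct.one_def]
    have e : x ⊗ₜ[A] y - algebraMap A (N₁.C ⊗[A] N₂.C) (a₁ * a₂)
        = (x - algebraMap A N₁.C a₁) ⊗ₜ[A] y
          + (algebraMap A N₁.C a₁) ⊗ₜ[A] (y - algebraMap A N₂.C a₂) := by
      rw [e3, TensorProduct.sub_tmul, TensorProduct.tmul_sub]; abel
    rw [e]
    exact add_mem (tmul_mem_left I h₁ y) (tmul_mem_right I _ h₂)
  | add z₁ z₂ h₁ h₂ =>
    obtain ⟨a₁, h₁⟩ := h₁
    obtain ⟨a₂, h₂⟩ := h₂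
    exact ⟨a₁ + a₂, by rw [map_add, add_sub_add_comm]; exact add_mem h₁ h₂⟩

noncomputable def Nb.tensor (N₁ N₂ : Nb A I B) : Nb A I B where
  C := N₁.C ⊗[A] N₂.C
  et := Algebra.Etale.comp A N₁.C _
  φ := Algebra.TensorProduct.productMap N₁.φ N₂.φ
  surj := tensor_surj N₁ N₂

theorem Nb.le_tensor_left (N₁ N₂ : Nb A I B) : N₁.φ.range ≤ (N₁.tensor N₂).φ.range := by
  intro x hx
  obtain ⟨c, rfl⟩ := (AlgHom.mem_range _).1 hx
  exact (AlgHom.mem_range _).2 ⟨c ⊗ₜ 1, Algebra.TensorProduct.productMap_left_apply _ _ c⟩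

theorem Nb.le_tensor_right (N₁ N₂ : Nb A I B) : N₂.φ.range ≤ (N₁.tensor N₂).φ.range := by
  intro x hx
  obtain ⟨c, rfl⟩ := (AlgHom.mem_range _).1 hx
  exact (AlgHom.mem_range _).2 ⟨1 ⊗ₜ c, Algebra.TensorProduct.productMap_right_apply _ _ c⟩

theorem Nb.directed : Directed (· ≤ ·) (fun N : Nb A I B => N.φ.range) :=
  fun N₁ N₂ => ⟨N₁.tensor N₂, N₁.le_tensor_left N₂, N₁.le_tensor_right N₂⟩

/-- extend a neighbourhood by a further algebra which is a neighbourhood of it -/
noncomputable def Nb.extend (N : Nb A I B) (D : Type u) [CommRing D] [Algebra N.C D]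
    [Algebra A D] [IsScalarTower A N.C D] [Algebra.Etale A D] (χ : D →ₐ[A] B)
    (hD : ∀ d : D, ∃ c : N.C,
      d - algebraMap N.C D c ∈ (I.map (algebraMap A N.C)).map (algebraMap N.C D)) :
    Nb A I B where
  C := D
  φ := χ
  surj := surj_trans I N.surj hD

theorem inv_mem (hB : Hens2.IsPairHenselization A I B) (N : Nb A I B) (s : N.C)
    (hs : IsUnit (N.φ s)) :
    ∃ M : Nb A I B, N.φ.range ≤ M.φ.range ∧ ∃ y ∈ M.φ.range, N.φ s * y = 1 := by
  obtain ⟨β, hβ⟩ := exists_inv_mod hB N.surj N.φ s (hs.map (Ideal.Quotient.mk _))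
  let χ : Localization.Away s →ₐ[A] B := IsLocalization.Away.liftAlgHom s (f := N.φ) hs
  have hχ : ∀ c, χ (algebraMap N.C (Localization.Away s) c) = N.φ c := fun c =>
    IsLocalization.Away.lift_eq s hs c
  refine ⟨N.extend (Localization.Away s) χ (away_rel I s β hβ (Localization.Away s)), ?_,
    χ (IsLocalization.Away.invSelf s), (AlgHom.mem_range _).2 ⟨_, rfl⟩, ?_⟩
  · intro x hx
    obtain ⟨c, rfl⟩ := (AlgHom.mem_range _).1 hx
    exact (AlgHom.mem_range _).2 ⟨algebraMap N.C (Localization.Away s) c, hχ c⟩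
  · rw [← hχ s, ← map_mul, IsLocalization.Away.mul_invSelf, map_one]

theorem root_mem (hB : Hens2.IsPairHenselization A I B) (N : Nb A I B) (F : N.C[X])
    (hF : F.Monic) (a₀ : N.C) (b : B) (hb : (F.map N.φ.toRingHom).eval b = 0)
    (hba : b - N.φ.toRingHom a₀ ∈ I.map (algebraMap A B))
    (hu : IsUnit (Ideal.Quotient.mk (I.map (algebraMap A B))
      ((F.map N.φ.toRingHom).derivative.eval (N.φ.toRingHom a₀)))) :
    ∃ M : Nb A I B, N.φ.range ≤ M.φ.range ∧ b ∈ M.φ.range := by
  obtain ⟨φr, hφr⟩ : ∃ φr : N.C →+* B, φr = N.φ.toRingHom := ⟨_, rfl⟩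
  rw [← hφr] at hb hba hu
  have hjac : I.map (algebraMap A B) ≤ Ideal.jacobson ⊥ := hB.1.jac
  obtain ⟨G, hG⟩ : ∃ G : N.C[X], G = F /ₘ (X - C a₀) := ⟨_, rfl⟩
  have hFG : C (F.eval a₀) + (X - C a₀) * G = F := by
    have := Polynomial.modByMonic_add_div F (X - C a₀)
    rwa [Polynomial.modByMonic_X_sub_C_eq_C_eval, ← hG] at this
  have hder : F.derivative = G + (X - C a₀) * G.derivative := by
    have := congrArg Polynomial.derivative hFG
    simp only [derivative_add, derivative_C, zero_add, derivative_mul, derivative_sub,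
      derivative_X, sub_zero, one_mul] at this
    exact this.symm
  have hGa : G.eval a₀ = F.derivative.eval a₀ := by
    rw [hder, Polynomial.eval_add, Polynomial.eval_mul, Polynomial.eval_sub, Polynomial.eval_X,
      Polynomial.eval_C, sub_self, zero_mul, add_zero]
  -- units in `B`
  have hu1 : IsUnit ((F.map φr).derivative.eval b) := by
    apply isUnit_of_isUnit_mk _ hjac
    refine isUnit_mk_of_sub_mem _ ?_ hu
    have := eval_sub_mem (I.map (algebraMap A B)) (F.map φr).derivative hba
    rw [← neg_sub]; exact neg_mem this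
  have hGb : IsUnit ((G.map φr).eval b) := by
    apply isUnit_of_isUnit_mk _ hjac
    have h1 : (G.map φr).eval (φr a₀) = (F.map φr).derivative.eval (φr a₀) := by
      rw [Polynomial.eval_map_apply, hGa, Polynomial.derivative_map, Polynomial.eval_map_apply]
    rw [← h1] at hu
    refine isUnit_mk_of_sub_mem _ ?_ hu
    have := eval_sub_mem (I.map (algebraMap A B)) (G.map φr) hba
    rw [← neg_sub]; exact neg_mem this
  have hFa : F.eval a₀ ∈ I.map (algebraMap A N.C) := by
    apply mem_of_map_mem hB N.surj N.φ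
    have h1 : (F.map φr).eval (φr a₀) = φr (F.eval a₀) := Polynomial.eval_map_apply _ _
    have h2 := eval_sub_mem (I.map (algebraMap A B)) (F.map φr) hba
    rw [hb, zero_sub, h1] at h2
    have h3 : φr (F.eval a₀) ∈ I.map (algebraMap A B) := neg_mem_iff.1 h2
    rw [hφr] at h3
    exact h3
  -- the standard étale algebra
  let P : StandardEtalePair N.C := ⟨F, hF, F.derivative * G, ⟨G, 0, 1, by ring⟩⟩
  letI algCB : Algebra N.C B := φr.toAlgebra
  haveI : IsScalarTower A N.C B := IsScalarTower.of_algebraMap_eq (fun a => by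
    show algebraMap A B a = φr (algebraMap A N.C a)
    rw [hφr]; exact (N.φ.commutes a).symm)
  letI algAD : Algebra A P.Ring := ((algebraMap N.C P.Ring).comp (algebraMap A N.C)).toAlgebra
  haveI : IsScalarTower A N.C P.Ring := IsScalarTower.of_algebraMap_eq (fun _ => rfl)
  haveI : Algebra.Etale A P.Ring := Algebra.Etale.comp A N.C P.Ring
  have haeval : ∀ p : N.C[X], Polynomial.aeval b p = (p.map φr).eval b := fun p =>
    (Polynomial.aeval_def b p).trans (Polynomial.eval₂_eq_eval_map _)
  have hmapB : P.HasMap b := by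
    refine ⟨?_, ?_⟩
    · show Polynomial.aeval b F = 0
      rw [haeval]; exact hb
    · show IsUnit (Polynomial.aeval b (F.derivative * G))
      rw [haeval, Polynomial.map_mul, Polynomial.eval_mul, ← Polynomial.derivative_map]
      exact hu1.mul hGb
  let χ : P.Ring →ₐ[A] B := (P.lift b hmapB).restrictScalars A
  have hχX : χ P.X = b := P.lift_X b hmapB
  have hχalg : ∀ c : N.C, χ (algebraMap N.C P.Ring c) = N.φ c := fun c => by
    have := (P.lift b hmapB).commutes c
    rw [show N.φ c = φr c from by rw [hφr]; rfl]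
    exact this
  have hGt : IsUnit (Polynomial.aeval P.X G) := by
    have h := (StandardEtalePair.hasMap_X (P := P)).2
    have e : Polynomial.aeval P.X P.g
        = Polynomial.aeval P.X F.derivative * Polynomial.aeval P.X G := by
      show Polynomial.aeval P.X (F.derivative * G) = _
      rw [map_mul]
    rw [e] at h
    exact isUnit_of_mul_isUnit_right h
  have hXa : P.X - algebraMap N.C P.Ring a₀
      ∈ (I.map (algebraMap A N.C)).map (algebraMap N.C P.Ring) := by
    have h0 : Polynomial.aeval P.X F = 0 := (StandardEtalePair.hasMap_X (P := P)).1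
    have h1 : (P.X - algebraMap N.C P.Ring a₀) * Polynomial.aeval P.X G
        = - algebraMap N.C P.Ring (F.eval a₀) := by
      have := congrArg (Polynomial.aeval P.X) hFG
      rw [map_add, map_mul, map_sub, Polynomial.aeval_C, Polynomial.aeval_X, Polynomial.aeval_C,
        h0] at this
      linear_combination this
    rw [← Ideal.mul_unit_mem_iff_mem _ hGt, h1]
    exact neg_mem (Ideal.mem_map_of_mem _ hFa)
  have hD : ∀ d : P.Ring, ∃ c : N.C,
      d - algebraMap N.C P.Ring c ∈ (I.map (algebraMap A N.C)).map (algebraMap N.C P.Ring) := by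
    obtain ⟨β, hβ⟩ := exists_inv_mod hB N.surj N.φ (F.derivative.eval a₀) (by
      have : N.φ (F.derivative.eval a₀) = (F.map φr).derivative.eval (φr a₀) := by
        rw [Polynomial.derivative_map, Polynomial.eval_map_apply, hφr]; rfl
      rw [this]; exact hu)
    have hdu : IsUnit (Ideal.Quotient.mk (I.map (algebraMap A N.C)) (F.derivative.eval a₀)) :=
      (isUnit_mk_iff _ _).2 ⟨algebraMap A N.C β, by
        have : F.derivative.eval a₀ * algebraMap A N.C β - 1
            = -(1 - F.derivative.eval a₀ * algebraMap A N.C β) := by ring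
        rw [this]; exact neg_mem hβ⟩
    have hmapQ : P.HasMap (algebraMap N.C (N.C ⧸ I.map (algebraMap A N.C)) a₀) := by
      refine ⟨?_, ?_⟩
      · show Polynomial.aeval (algebraMap N.C (N.C ⧸ I.map (algebraMap A N.C)) a₀) F = 0
        rw [Polynomial.aeval_algebraMap_apply_eq_algebraMap_eval]
        exact Ideal.Quotient.eq_zero_iff_mem.2 hFa
      · show IsUnit (Polynomial.aeval (algebraMap N.C (N.C ⧸ I.map (algebraMap A N.C)) a₀)
          (F.derivative * G))
        rw [Polynomial.aeval_algebraMap_apply_eq_algebraMap_eval, Polynomial.eval_mul, hGa,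
          map_mul]
        exact hdu.mul hdu
    let ρ : P.Ring →ₐ[N.C] N.C ⧸ I.map (algebraMap A N.C) := P.lift _ hmapQ
    let ι : (N.C ⧸ I.map (algebraMap A N.C)) →ₐ[N.C]
        (P.Ring ⧸ (I.map (algebraMap A N.C)).map (algebraMap N.C P.Ring)) :=
      Ideal.quotientMapₐ _ (Algebra.ofId N.C P.Ring)
        (fun x hx => Ideal.mem_map_of_mem (algebraMap N.C P.Ring) hx)
    let q : P.Ring →ₐ[N.C] P.Ring ⧸ (I.map (algebraMap A N.C)).map (algebraMap N.C P.Ring) :=
      Ideal.Quotient.mkₐ N.C _
    have hq : q = ι.comp ρ := by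
      apply StandardEtalePair.hom_ext
      show Ideal.Quotient.mk _ P.X = ι (ρ P.X)
      rw [show ρ P.X = algebraMap N.C (N.C ⧸ I.map (algebraMap A N.C)) a₀ from
        P.lift_X _ hmapQ]
      show _ = Ideal.Quotient.mk _ (algebraMap N.C P.Ring a₀)
      exact Ideal.Quotient.eq.2 hXa
    intro d
    obtain ⟨c, hc⟩ := Ideal.Quotient.mk_surjective (ρ d)
    refine ⟨c, Ideal.Quotient.eq.1 ?_⟩
    have h3 : q d = ι (ρ d) := AlgHom.congr_fun hq d
    rw [← hc] at h3
    exact h3
  refine ⟨N.extend P.Ring χ hD, ?_, (AlgHom.mem_range _).2 ⟨P.X, hχX⟩⟩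
  intro x hx
  obtain ⟨c, rfl⟩ := (AlgHom.mem_range _).1 hx
  exact (AlgHom.mem_range _).2 ⟨algebraMap N.C P.Ring c, hχalg c⟩

variable (A I B) in
/-- the union of the images of the étale neighbourhoods -/
noncomputable def bigS : Subalgebra A B := ⨆ N : Nb A I B, N.φ.range

theorem mem_bigS {x : B} : x ∈ bigS A I B ↔ ∃ N : Nb A I B, x ∈ N.φ.range := by
  haveI : Nonempty (Nb A I B) := ⟨Nb.self⟩
  have h := Subalgebra.coe_iSup_of_directed (Nb.directed (A := A) (I := I) (B := B))
  rw [← SetLike.mem_coe]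
  show x ∈ (↑(⨆ N : Nb A I B, N.φ.range) : Set B) ↔ _
  rw [h]
  simp only [Set.mem_iUnion, SetLike.mem_coe]

theorem exists_common (n : ℕ) (c : ℕ → B) (hc : ∀ i, ∃ N : Nb A I B, c i ∈ N.φ.range) :
    ∃ N : Nb A I B, ∀ i < n, c i ∈ N.φ.range := by
  induction n with
  | zero => exact ⟨Nb.self, fun i hi => absurd hi (Nat.not_lt_zero i)⟩
  | succ n ih =>
    obtain ⟨N, hN⟩ := ih
    obtain ⟨N', hN'⟩ := hc n
    obtain ⟨M, h1, h2⟩ := Nb.directed N N'
    refine ⟨M, fun i hi => ?_⟩
    rcases Nat.lt_succ_iff_lt_or_eq.1 hi with h | rfl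
    · exact h1 (hN i h)
    · exact h2 hN'

theorem bigS_eq_top (hB : Hens2.IsPairHenselization A I B) : bigS A I B = ⊤ := by
  apply subalgebra_eq_top hB
  · intro x hx hu
    obtain ⟨N, hN⟩ := mem_bigS.1 hx
    obtain ⟨s, rfl⟩ := (AlgHom.mem_range _).1 hN
    obtain ⟨M, -, y, hy, hxy⟩ := inv_mem hB N s hu
    exact ⟨y, mem_bigS.2 ⟨M, hy⟩, hxy⟩
  · intro F hF hcoef a₀ ha₀ h₁ h₂ b hb hba
    obtain ⟨N₁, hN₁⟩ := exists_common (F.natDegree + 1) (fun i => F.coeff i)
      (fun i => mem_bigS.1 (hcoef i))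
    obtain ⟨N₂, hN₂⟩ := mem_bigS.1 ha₀
    obtain ⟨M, hM₁, hM₂⟩ := Nb.directed N₁ N₂
    have hco : ∀ i, ∃ c : M.C, M.φ.toRingHom c = F.coeff i := fun i => by
      by_cases hi : i < F.natDegree + 1
      · exact (AlgHom.mem_range _).1 (hM₁ (hN₁ i hi))
      · exact ⟨0, by
          rw [map_zero, Polynomial.coeff_eq_zero_of_natDegree_lt (by omega)]⟩
    choose c' hc' using hco
    obtain ⟨a₀', ha₀'⟩ := (AlgHom.mem_range _).1 (hM₂ hN₂)
    have ha₀'' : M.φ.toRingHom a₀' = a₀ := ha₀'
    have hFe : (PairHensExists.poly F.natDegree c').map M.φ.toRingHom = F := by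
      rw [PairHensExists.poly_map]
      have : (fun i => M.φ.toRingHom (c' i)) = fun i => F.coeff i := funext hc'
      rw [this, PairHensExists.poly_coeff_eq hF]
    obtain ⟨M', -, hbM⟩ := root_mem hB M (PairHensExists.poly F.natDegree c')
      (PairHensExists.poly_monic _ _) a₀' b
      (by rw [hFe]; exact hb) (by rw [ha₀'']; exact hba)
      (by rw [hFe, ha₀'']; exact h₂)
    exact mem_bigS.2 ⟨M', hbM⟩

theorem exists_nb (hB : Hens2.IsPairHenselization A I B) (x : B) :
    ∃ N : Nb A I B, x ∈ N.φ.range :=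
  mem_bigS.1 (by rw [bigS_eq_top hB]; exact Algebra.mem_top)

theorem exists_common_fin (hB : Hens2.IsPairHenselization A I B) {l : ℕ} (x : Fin l → B) :
    ∃ N : Nb A I B, ∀ k, x k ∈ N.φ.range := by
  obtain ⟨N, hN⟩ := exists_common l (fun i => if h : i < l then x ⟨i, h⟩ else 0)
    (fun i => exists_nb hB _)
  refine ⟨N, fun k => ?_⟩
  have h := hN k.1 k.2
  beta_reduce at h
  rw [dif_pos k.2] at h
  exact h

theorem Nb.bijective (hB : Hens2.IsPairHenselization A I B) (N : Nb A I B) :
    Function.Bijective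
      (Ideal.quotientMap (I.map (algebraMap A N.C)) (algebraMap A N.C) Ideal.le_comap_map) :=
  (bijective_iff I N.C).2 ⟨N.surj, injMod_of_algHom hB N.φ⟩

end Nbhd

section Main

variable {A : Type u} [CommRing A] {I : Ideal A} {B : Type u} [CommRing B] [Algebra A B]

theorem unique_algHom (hB : Hens2.IsPairHenselization A I B) (A' : Type u) [CommRing A']
    [Algebra A A'] [Algebra.Etale A A']
    (hq : Function.Bijective
      (Ideal.quotientMap (I.map (algebraMap A A')) (algebraMap A A') Ideal.le_comap_map)) :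
    Nonempty (Unique (A' →ₐ[A] B)) := by
  obtain ⟨hS, -⟩ := (bijective_iff I A').1 hq
  let e : (A ⧸ I) ≃+* (A' ⧸ I.map (algebraMap A A')) := RingEquiv.ofBijective _ hq
  let ρ₀ : A' →+* B ⧸ I.map (algebraMap A B) :=
    (Ideal.quotientMap (I.map (algebraMap A B)) (algebraMap A B) Ideal.le_comap_map).comp
      (e.symm.toRingHom.comp (Ideal.Quotient.mk _))
  have hρ₀ : ∀ r, ρ₀ (algebraMap A A' r) = algebraMap A (B ⧸ I.map (algebraMap A B)) r :=
    fun r => by
    show Ideal.quotientMap (I.map (algebraMap A B)) (algebraMap A B) Ideal.le_comap_map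
      (e.symm (Ideal.Quotient.mk _ (algebraMap A A' r))) = _
    have : Ideal.Quotient.mk (I.map (algebraMap A A')) (algebraMap A A' r)
        = e (Ideal.Quotient.mk I r) := by
      show _ = Ideal.quotientMap (I.map (algebraMap A A')) (algebraMap A A') Ideal.le_comap_map
        (Ideal.Quotient.mk I r)
      rw [Ideal.quotientMap_mk]
    rw [this, e.symm_apply_apply, Ideal.quotientMap_mk]
    rfl
  let ρ : A' →ₐ[A] B ⧸ I.map (algebraMap A B) := { ρ₀ with commutes' := hρ₀ }
  obtain ⟨φ, -⟩ := EtaleSection.exists_algHom_lift hB.1 ρ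
  refine ⟨{ default := φ, uniq := fun φ' => ?_ }⟩
  refine EtaleSection.algHom_eq_of_sub_mem _ hB.1.jac φ' φ (fun x => ?_)
  obtain ⟨a, ha⟩ := hS x
  have hx : x = algebraMap A A' a + (x - algebraMap A A' a) := by ring
  rw [hx, map_add, map_add, AlgHom.commutes, AlgHom.commutes, add_sub_add_left_eq_sub]
  exact sub_mem (algHom_mem_map I φ' ha) (algHom_mem_map I φ ha)

theorem exists_kill (hB : Hens2.IsPairHenselization A I B) (A' : Type u) [CommRing A']
    [Algebra A A'] [Algebra.Etale A A']
    (hq : Function.Bijective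
      (Ideal.quotientMap (I.map (algebraMap A A')) (algebraMap A A') Ideal.le_comap_map))
    (φ : A' →ₐ[A] B) (s : A') (hs : φ s = 0) :
    ∃ (A'' : Type u) (_ : CommRing A'') (_ : Algebra A A'') (_ : Algebra.Etale A A''),
      Function.Bijective (Ideal.quotientMap (I.map (algebraMap A A'')) (algebraMap A A'')
        Ideal.le_comap_map) ∧ ∃ ψ : A' →ₐ[A] A'', ψ s = 0 := by
  obtain ⟨hS, hI⟩ := (bijective_iff I A').1 hq
  have key : ∃ i ∈ I.map (algebraMap A A'), (1 - i) * s = 0 := by
    by_contra hcon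
    push Not at hcon
    let ann : Ideal A' :=
      { carrier := {x | x * s = 0}
        add_mem' := fun {a b} ha hb => by
          have ha' : a * s = 0 := ha
          have hb' : b * s = 0 := hb
          show (a + b) * s = 0
          rw [add_mul, ha', hb', add_zero]
        zero_mem' := zero_mul s
        smul_mem' := fun c x hx => by
          have hx' : x * s = 0 := hx
          show c • x * s = 0
          rw [smul_eq_mul, mul_assoc, hx', mul_zero] }
    have hne : ann ⊔ I.map (algebraMap A A') ≠ ⊤ := by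
      intro htop
      have h1 : (1 : A') ∈ ann ⊔ I.map (algebraMap A A') := by rw [htop]; exact Submodule.mem_top
      obtain ⟨x, hx, i, hi, hxi⟩ := Submodule.mem_sup.1 h1
      apply hcon i hi
      have hx' : x * s = 0 := hx
      have : 1 - i = x := by rw [← hxi]; ring
      rw [this]; exact hx'
    obtain ⟨𝔪, hmax, hle⟩ := Ideal.exists_le_maximal _ hne
    haveI := hmax.isPrime
    have hsR : algebraMap A' (Localization.AtPrime 𝔪) s ≠ 0 := by
      intro h0
      obtain ⟨m, hm⟩ := (IsLocalization.map_eq_zero_iff 𝔪.primeCompl _ s).1 h0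
      exact m.2 (hle (Ideal.mem_sup_left (show (m : A') ∈ ann from hm)))
    have hsH : algebraMap (Localization.AtPrime 𝔪) (HenselizationH3.Hens (Localization.AtPrime 𝔪))
        (algebraMap A' (Localization.AtPrime 𝔪) s) ≠ 0 := fun h0 =>
      hsR ((map_eq_zero_iff _ (FaithfulSMul.algebraMap_injective _ _)).1 h0)
    let f : A →+* HenselizationH3.Hens (Localization.AtPrime 𝔪) :=
      ((algebraMap (Localization.AtPrime 𝔪) (HenselizationH3.Hens (Localization.AtPrime 𝔪))).comp
        (algebraMap A' (Localization.AtPrime 𝔪))).comp (algebraMap A A')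
    have hfle : I.map f ≤ IsLocalRing.maximalIdeal (HenselizationH3.Hens (Localization.AtPrime 𝔪)) := by
      rw [Ideal.map_le_iff_le_comap]
      intro a ha
      rw [Ideal.mem_comap, IsLocalRing.mem_maximalIdeal, mem_nonunits_iff]
      intro hunit
      have h1 : IsUnit (algebraMap A' (Localization.AtPrime 𝔪) (algebraMap A A' a)) :=
        (isUnit_map_iff (algebraMap (Localization.AtPrime 𝔪)
          (HenselizationH3.Hens (Localization.AtPrime 𝔪))) _).1 hunit
      have h2 := (IsLocalization.AtPrime.isUnit_to_map_iff (Localization.AtPrime 𝔪) 𝔪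
        (algebraMap A A' a)).1 h1
      exact h2 (hle (Ideal.mem_sup_right (Ideal.mem_map_of_mem _ ha)))
    obtain ⟨g, hg, -⟩ := hB.2 (HenselizationH3.Hens (Localization.AtPrime 𝔪))
      (IsLocalRing.maximalIdeal _) f inferInstance hfle
    letI : Algebra A (HenselizationH3.Hens (Localization.AtPrime 𝔪)) := f.toAlgebra
    have hc2 : ∀ a, (g.comp φ.toRingHom) (algebraMap A A' a)
        = algebraMap A (HenselizationH3.Hens (Localization.AtPrime 𝔪)) a := fun a => by
      show g (φ (algebraMap A A' a)) = f a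
      rw [φ.commutes]; exact RingHom.congr_fun hg a
    let θ₁ : A' →ₐ[A] HenselizationH3.Hens (Localization.AtPrime 𝔪) :=
      { (algebraMap (Localization.AtPrime 𝔪) (HenselizationH3.Hens (Localization.AtPrime 𝔪))).comp
          (algebraMap A' (Localization.AtPrime 𝔪)) with commutes' := fun a => rfl }
    let θ₂ : A' →ₐ[A] HenselizationH3.Hens (Localization.AtPrime 𝔪) :=
      { g.comp φ.toRingHom with commutes' := hc2 }
    have hθ : θ₁ = θ₂ := by
      refine EtaleSection.algHom_eq_of_sub_mem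
        (IsLocalRing.maximalIdeal (HenselizationH3.Hens (Localization.AtPrime 𝔪)))
        (IsLocalRing.jacobson_eq_maximalIdeal ⊥ bot_ne_top).ge θ₁ θ₂ (fun x => ?_)
      obtain ⟨a, ha⟩ := hS x
      have hx : x = algebraMap A A' a + (x - algebraMap A A' a) := by ring
      rw [hx, map_add, map_add, AlgHom.commutes, AlgHom.commutes, add_sub_add_left_eq_sub]
      have hm : ∀ θ : A' →ₐ[A] HenselizationH3.Hens (Localization.AtPrime 𝔪),
          θ (x - algebraMap A A' a)
            ∈ IsLocalRing.maximalIdeal (HenselizationH3.Hens (Localization.AtPrime 𝔪)) :=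
        fun θ => hfle (algHom_mem_map I θ ha)
      exact sub_mem (hm θ₁) (hm θ₂)
    apply hsH
    have h3 : θ₁ s = θ₂ s := by rw [hθ]
    show θ₁ s = 0
    rw [h3]
    show g (φ s) = 0
    rw [hs, map_zero]
  obtain ⟨i, hi, his⟩ := key
  have hφu : IsUnit (φ (1 - i)) := by
    have h1 : φ i ∈ I.map (algebraMap A B) := algHom_mem_map I φ hi
    have h2 := Ideal.mem_jacobson_bot.1 (hB.1.jac h1) (-1)
    have : φ (1 - i) = φ i * -1 + 1 := by rw [map_sub, map_one]; ring
    rw [this]; exact h2
  let φ'' : Localization.Away (1 - i) →ₐ[A] B :=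
    IsLocalization.Away.liftAlgHom (1 - i) (f := φ) hφu
  refine ⟨Localization.Away (1 - i), inferInstance, inferInstance, inferInstance, ?_,
    IsScalarTower.toAlgHom A A' _, ?_⟩
  · rw [bijective_iff]
    refine ⟨surj_trans I hS (away_rel I (1 - i) 1 ?_ _), injMod_of_algHom hB φ''⟩
    rw [map_one, mul_one, sub_sub_cancel]; exact hi
  · show algebraMap A' (Localization.Away (1 - i)) s = 0
    exact (IsLocalization.map_eq_zero_iff (Submonoid.powers (1 - i)) _ s).2
      ⟨⟨1 - i, Submonoid.mem_powers _⟩, his⟩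

theorem flat (hB : Hens2.IsPairHenselization A I B) : Module.Flat A B := by
  classical
  apply IndEtaleH3.flat_of_forall_exists_lift.{u}
  intro l s x hsx
  obtain ⟨N, hN⟩ := exists_common_fin hB x
  choose y hy using fun k => (AlgHom.mem_range _).1 (hN k)
  have h0 : N.φ (∑ k, s k • y k) = 0 := by
    rw [map_sum, ← hsx]
    exact Finset.sum_congr rfl fun k _ => by rw [map_smul, hy]
  obtain ⟨C', _, _, _, hbij, ψ, hψ⟩ := exists_kill hB N.C (N.bijective hB) N.φ _ h0
  obtain ⟨⟨⟨φ'⟩, -⟩⟩ := unique_algHom hB C' hbij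
  obtain ⟨⟨⟨d⟩, huniq⟩⟩ := unique_algHom hB N.C (N.bijective hB)
  have hfac : φ'.comp ψ = N.φ := (huniq _).trans (huniq _).symm
  haveI : Module.Flat A C' := Algebra.Smooth.flat A C'
  refine ⟨A, C', inferInstance, inferInstance, inferInstance, inferInstance, RingHom.id A,
    φ'.toLinearMap.toAddMonoidHom, fun a m => map_smul φ' a m, s, fun k => ψ (y k),
    fun _ => rfl, fun k => ?_, ?_⟩
  · show φ' (ψ (y k)) = x k
    rw [← hy k, ← hfac]
    rfl
  · rw [← hψ, map_sum]
    exact Finset.sum_congr rfl fun k _ => by rw [map_smul]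

theorem quotient_pow_bijective (hB : Hens2.IsPairHenselization A I B) (n : ℕ) :
    Function.Bijective (Ideal.quotientMap ((I ^ n).map (algebraMap A B)) (algebraMap A B)
      Ideal.le_comap_map) := by
  rcases Nat.eq_zero_or_pos n with rfl | hn
  · haveI : Subsingleton (A ⧸ I ^ 0) :=
      Ideal.Quotient.subsingleton_iff.2 (by rw [pow_zero, Ideal.one_eq_top])
    haveI : Subsingleton (B ⧸ (I ^ 0).map (algebraMap A B)) :=
      Ideal.Quotient.subsingleton_iff.2 (by rw [pow_zero, Ideal.one_eq_top, Ideal.map_top])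
    exact ⟨fun x y _ => Subsingleton.elim x y, fun y => ⟨0, Subsingleton.elim _ _⟩⟩
  obtain ⟨h1, h2⟩ := hB
  have hA : HenselianRing (A ⧸ I ^ n) (I.map (Ideal.Quotient.mk (I ^ n))) := by
    refine henselian_of_le ?_ (henselian_radical henselian_bot)
    intro x hx
    refine Ideal.mem_radical_iff.2 ⟨n, ?_⟩
    have := Ideal.pow_mem_pow hx n
    rw [← Ideal.map_pow, Ideal.map_quotient_self] at this
    exact this
  have hKJ : (I ^ n).map (algebraMap A B) ≤ I.map (algebraMap A B) :=
    Ideal.map_mono (Ideal.pow_le_self (Nat.pos_iff_ne_zero.1 hn))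
  have hBq : HenselianRing (B ⧸ (I ^ n).map (algebraMap A B))
      ((I.map (algebraMap A B)).map (Ideal.Quotient.mk ((I ^ n).map (algebraMap A B)))) :=
    henselian_quotient hKJ h1
  obtain ⟨g, hg, -⟩ := h2 (A ⧸ I ^ n) _ (Ideal.Quotient.mk (I ^ n)) hA le_rfl
  have hgK : ∀ x ∈ (I ^ n).map (algebraMap A B), g x = 0 := by
    have hle : (I ^ n).map (algebraMap A B) ≤ RingHom.ker g := by
      rw [Ideal.map_le_iff_le_comap]
      intro a ha
      rw [Ideal.mem_comap, RingHom.mem_ker]
      have := RingHom.congr_fun hg a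
      rw [RingHom.comp_apply] at this
      rw [this]; exact Ideal.Quotient.eq_zero_iff_mem.2 ha
    exact fun x hx => hle hx
  let gbar : B ⧸ (I ^ n).map (algebraMap A B) →+* A ⧸ I ^ n :=
    Ideal.Quotient.lift _ g hgK
  have h1' : ∀ z, gbar (Ideal.quotientMap ((I ^ n).map (algebraMap A B)) (algebraMap A B)
      Ideal.le_comap_map z) = z := by
    intro z
    obtain ⟨a, rfl⟩ := Ideal.Quotient.mk_surjective z
    rw [Ideal.quotientMap_mk]
    show g (algebraMap A B a) = _
    exact RingHom.congr_fun hg a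
  obtain ⟨g₀, -, hu⟩ := h2 (B ⧸ (I ^ n).map (algebraMap A B)) _
    ((Ideal.Quotient.mk ((I ^ n).map (algebraMap A B))).comp (algebraMap A B)) hBq
    (Ideal.map_map _ _).ge
  have e1 : Ideal.Quotient.mk ((I ^ n).map (algebraMap A B)) = g₀ := hu _ (by
    show (Ideal.Quotient.mk ((I ^ n).map (algebraMap A B))).comp (algebraMap A B) = _
    rfl)
  have e2 : (Ideal.quotientMap ((I ^ n).map (algebraMap A B)) (algebraMap A B)
      Ideal.le_comap_map).comp g = g₀ := hu _ (by
    show ((Ideal.quotientMap ((I ^ n).map (algebraMap A B)) (algebraMap A B)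
      Ideal.le_comap_map).comp g).comp (algebraMap A B) = _
    rw [RingHom.comp_assoc, hg]
    refine RingHom.ext fun a => ?_
    show Ideal.quotientMap ((I ^ n).map (algebraMap A B)) (algebraMap A B)
      Ideal.le_comap_map (Ideal.Quotient.mk _ a) = _
    rw [Ideal.quotientMap_mk]
    rfl)
  have h2' : ∀ w, Ideal.quotientMap ((I ^ n).map (algebraMap A B)) (algebraMap A B)
      Ideal.le_comap_map (gbar w) = w := by
    intro w
    obtain ⟨b, rfl⟩ := Ideal.Quotient.mk_surjective w
    show Ideal.quotientMap ((I ^ n).map (algebraMap A B)) (algebraMap A B)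
      Ideal.le_comap_map (g b) = _
    exact RingHom.congr_fun (e2.trans e1.symm) b
  exact ⟨Function.LeftInverse.injective h1', Function.RightInverse.surjective h2'⟩

end Main

end Groth.Agent.Lib.EtaleNbhd
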