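import Mathlib
import Groth.Agent.Lib.EtaleNbhd_lead

/-!
# Killing finitely many elements in étale neighbourhoods (lead)
-/

set_option autoImplicit false
universe u

namespace Groth.Agent.Lib.EtaleNbhd

variable {A : Type u} [CommRing A] {I : Ideal A} {B : Type u} [CommRing B] [Algebra A B]

theorem algHom_eq (hB : Hens2.IsPairHenselization A I B) (A' : Type u) [CommRing A']
    [Algebra A A'] [Algebra.Etale A A']
    (hq : Function.Bijective
      (Ideal.quotientMap (I.map (algebraMap A A')) (algebraMap A A') Ideal.le_comap_map))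
    (φ ψ : A' →ₐ[A] B) : φ = ψ := by
  obtain ⟨u'⟩ := unique_algHom hB A' hq
  exact (u'.uniq φ).trans (u'.uniq ψ).symm

theorem exists_kill_many (hB : Hens2.IsPairHenselization A I B) (n : ℕ) :
    ∀ (A' : Type u) [CommRing A'] [Algebra A A'] [Algebra.Etale A A']
      (_ : Function.Bijective
        (Ideal.quotientMap (I.map (algebraMap A A')) (algebraMap A A') Ideal.le_comap_map))
      (φ : A' →ₐ[A] B) (s : ℕ → A') (_ : ∀ i < n, φ (s i) = 0),
      ∃ (A'' : Type u) (_ : CommRing A'') (_ : Algebra A A'') (_ : Algebra.Etale A A''),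
        Function.Bijective (Ideal.quotientMap (I.map (algebraMap A A'')) (algebraMap A A'')
          Ideal.le_comap_map) ∧ ∃ ψ : A' →ₐ[A] A'', ∀ i < n, ψ (s i) = 0 := by
  induction n with
  | zero =>
    intro A' _ _ _ hq φ s hs
    exact ⟨A', inferInstance, inferInstance, inferInstance, hq, AlgHom.id A A',
      fun i hi => absurd hi (Nat.not_lt_zero i)⟩
  | succ n ih =>
    intro A' _ _ _ hq φ s hs
    obtain ⟨A₁, _, _, _, hq₁, ψ₁, hψ₁⟩ :=
      ih A' hq φ s (fun i hi => hs i (Nat.lt_succ_of_lt hi))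
    obtain ⟨u₁⟩ := unique_algHom hB A₁ hq₁
    have hcomp : (u₁.default).comp ψ₁ = φ := algHom_eq hB A' hq _ _
    have h0 : u₁.default (ψ₁ (s n)) = 0 := by
      have h1 := DFunLike.congr_fun hcomp (s n)
      rw [AlgHom.comp_apply] at h1
      rw [h1]
      exact hs n (Nat.lt_succ_self n)
    obtain ⟨A₂, _, _, _, hq₂, ψ₂, hψ₂⟩ := exists_kill hB A₁ hq₁ u₁.default (ψ₁ (s n)) h0
    refine ⟨A₂, inferInstance, inferInstance, inferInstance, hq₂, ψ₂.comp ψ₁, fun i hi => ?_⟩
    rw [AlgHom.comp_apply]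
    rcases Nat.lt_succ_iff_lt_or_eq.1 hi with h | rfl
    · rw [hψ₁ i h, map_zero]
    · exact hψ₂

end Groth.Agent.Lib.EtaleNbhd
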