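import Mathlib
import Groth.Agent.Lib.EtaleNbhd_lead
import Groth.Agent.Lib.EtaleNbhdKill_lead
import Groth.Agent.Lib.PairHensExists_lead
import Groth.Agent.Lib.HenselQuot_lead

/-!
# Core lemmas on henselizations of finitely presented algebras (lead)

`recenter`: if `C` is the henselization of `(S, J)` and `S'` is an étale neighbourhood of `(S, J)`
mapping to `C`, then `C` is the henselization of `(S', JS')`.
`exists_nbhd_mem`, `exists_nbhd_kill`, `nbhd_trans`, `fp_factor`.
-/

set_option autoImplicit false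
universe u

namespace Groth.Agent.Lib.HfpCore

open Groth.Agent.Lib Groth.Agent.Lib.EtaleNbhd

section Recenter

variable {S : Type u} [CommRing S] {J : Ideal S} {C : Type u} [CommRing C] [Algebra S C]

theorem map_map_eq (J : Ideal S) (S' : Type u) [CommRing S'] [Algebra S S'] [Algebra S' C]
    [IsScalarTower S S' C] :
    (J.map (algebraMap S S')).map (algebraMap S' C) = J.map (algebraMap S C) := by
  rw [Ideal.map_map, ← IsScalarTower.algebraMap_eq]

theorem recenter (hC : Hens2.IsPairHenselization S J C) (S' : Type u) [CommRing S']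
    [Algebra S S'] [Algebra.Etale S S'] [Algebra S' C] [IsScalarTower S S' C]
    (hS : SurjMod J S') :
    Hens2.IsPairHenselization S' (J.map (algebraMap S S')) C := by
  refine ⟨?_, ?_⟩
  · rw [map_map_eq J S']
    exact hC.1
  · intro E _ K f hE hfK
    have h0 : J.map (f.comp (algebraMap S S')) ≤ K := by
      rw [← Ideal.map_map]; exact hfK
    obtain ⟨g, hg, hguniq⟩ := hC.2 E K (f.comp (algebraMap S S')) hE h0
    have hg' : g.comp (algebraMap S C) = f.comp (algebraMap S S') := hg
    letI : Algebra S E := (f.comp (algebraMap S S')).toAlgebra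
    have hc₁ : ∀ r : S, (g.comp (algebraMap S' C)) (algebraMap S S' r) = algebraMap S E r := by
      intro r
      show g (algebraMap S' C (algebraMap S S' r)) = f (algebraMap S S' r)
      rw [← IsScalarTower.algebraMap_apply S S' C]
      exact RingHom.congr_fun hg' r
    let φ₁ : S' →ₐ[S] E := { g.comp (algebraMap S' C) with commutes' := hc₁ }
    let φ₂ : S' →ₐ[S] E := { f with commutes' := fun r => rfl }
    have hEK : J.map (algebraMap S E) ≤ K := h0
    have h12 : φ₁ = φ₂ := by
      refine EtaleSection.algHom_eq_of_sub_mem K hE.jac φ₁ φ₂ (fun x => ?_)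
      obtain ⟨a, ha⟩ := hS x
      have hx : x = algebraMap S S' a + (x - algebraMap S S' a) := by ring
      rw [hx, map_add, map_add, AlgHom.commutes, AlgHom.commutes, add_sub_add_left_eq_sub]
      exact sub_mem (hEK (algHom_mem_map J φ₁ ha)) (hEK (algHom_mem_map J φ₂ ha))
    have hcomp : g.comp (algebraMap S' C) = f := by
      ext x
      exact AlgHom.congr_fun h12 x
    refine ⟨g, hcomp, fun g' hg'' => ?_⟩
    apply hguniq
    show g'.comp (algebraMap S C) = f.comp (algebraMap S S')
    have h3 : g'.comp (algebraMap S' C) = f := hg''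
    rw [IsScalarTower.algebraMap_eq S S' C, ← RingHom.comp_assoc, h3]

theorem exists_nbhd_mem (hC : Hens2.IsPairHenselization S J C) {l : ℕ} (c : Fin l → C) :
    ∃ (S' : Type u) (_ : CommRing S') (_ : Algebra S S') (_ : Algebra.Etale S S')
      (_ : Algebra S' C) (_ : IsScalarTower S S' C),
      SurjMod J S' ∧ Hens2.IsPairHenselization S' (J.map (algebraMap S S')) C ∧
      ∃ s : Fin l → S', ∀ k, algebraMap S' C (s k) = c k := by
  obtain ⟨N, hN⟩ := exists_common_fin hC c
  letI algC : Algebra N.C C := N.φ.toRingHom.toAlgebra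
  haveI tower : IsScalarTower S N.C C :=
    IsScalarTower.of_algebraMap_eq (fun r => (N.φ.commutes r).symm)
  choose s hs using fun k => (AlgHom.mem_range _).1 (hN k)
  have hs' : ∀ k, algebraMap N.C C (s k) = c k := fun k => hs k
  exact ⟨N.C, inferInstance, inferInstance, inferInstance, algC, tower, N.surj,
    recenter hC N.C N.surj, s, hs'⟩

theorem self_bijective (J : Ideal S) : Function.Bijective
    (Ideal.quotientMap (J.map (algebraMap S S)) (algebraMap S S) Ideal.le_comap_map) := by
  rw [bijective_iff]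
  refine ⟨fun x => ⟨x, ?_⟩, fun a ha => ?_⟩
  · show x - x ∈ _
    rw [sub_self]; exact Ideal.zero_mem _
  · have hJ : J.map (algebraMap S S) = J := Ideal.map_id J
    rw [hJ] at ha
    exact ha

theorem exists_nbhd_kill (hC : Hens2.IsPairHenselization S J C) {l : ℕ} (s : Fin l → S)
    (hs : ∀ k, algebraMap S C (s k) = 0) :
    ∃ (S' : Type u) (_ : CommRing S') (_ : Algebra S S') (_ : Algebra.Etale S S')
      (_ : Algebra S' C) (_ : IsScalarTower S S' C),
      SurjMod J S' ∧ Hens2.IsPairHenselization S' (J.map (algebraMap S S')) C ∧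
      ∀ k, algebraMap S S' (s k) = 0 := by
  obtain ⟨S', _, _, _, hq', ψ, hψ⟩ := exists_kill_many hC l S (self_bijective J)
    (Algebra.ofId S C) (fun i => if h : i < l then s ⟨i, h⟩ else 0) (fun i hi => by
      show (Algebra.ofId S C) (if h : i < l then s ⟨i, h⟩ else 0) = 0
      rw [dif_pos hi]
      exact hs ⟨i, hi⟩)
  obtain ⟨u'⟩ := unique_algHom hC S' hq'
  letI algC : Algebra S' C := (u'.default : S' →ₐ[S] C).toRingHom.toAlgebra
  haveI tower : IsScalarTower S S' C :=
    IsScalarTower.of_algebraMap_eq (fun r => ((u'.default : S' →ₐ[S] C).commutes r).symm)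
  have hsurj : SurjMod J S' := ((bijective_iff J S').1 hq').1
  refine ⟨S', inferInstance, inferInstance, inferInstance, algC, tower, hsurj,
    recenter hC S' hsurj, fun k => ?_⟩
  have h1 := hψ k.1 k.2
  beta_reduce at h1
  rw [dif_pos k.2] at h1
  have h2 : ψ (s k) = algebraMap S S' (s k) := ψ.commutes (s k)
  rw [← h2]
  exact h1

theorem nbhd_trans (S' : Type u) [CommRing S'] [Algebra S S'] [Algebra.Etale S S']
    [Algebra S' C] [IsScalarTower S S' C] (hS' : SurjMod J S')
    (S'' : Type u) [CommRing S''] [Algebra S' S''] [Algebra.Etale S' S''] [Algebra S'' C]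
    [IsScalarTower S' S'' C] (hS'' : SurjMod (J.map (algebraMap S S')) S'')
    (hens : Hens2.IsPairHenselization S'' ((J.map (algebraMap S S')).map (algebraMap S' S'')) C)
    [Algebra S S''] [IsScalarTower S S' S''] :
    Algebra.Etale S S'' ∧ IsScalarTower S S'' C ∧ SurjMod J S'' ∧
      Hens2.IsPairHenselization S'' (J.map (algebraMap S S'')) C := by
  have hJ : (J.map (algebraMap S S')).map (algebraMap S' S'') = J.map (algebraMap S S'') := by
    rw [Ideal.map_map, ← IsScalarTower.algebraMap_eq]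
  refine ⟨Algebra.Etale.comp S S' S'', ?_, ?_, ?_⟩
  · refine IsScalarTower.of_algebraMap_eq (fun r => ?_)
    rw [IsScalarTower.algebraMap_apply S S' C, IsScalarTower.algebraMap_apply S' S'' C,
      ← IsScalarTower.algebraMap_apply S S' S'']
  · exact surj_trans J hS' (fun d => hS'' d)
  · rw [← hJ]; exact hens

theorem fp_factor {A : Type u} [CommRing A] [Algebra A S] [Algebra A C] [IsScalarTower A S C]
    (hC : Hens2.IsPairHenselization S J C) (R : Type u) [CommRing R] [Algebra A R]
    [Algebra.FinitePresentation A R] (χ : R →ₐ[A] C) :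
    ∃ (S' : Type u) (_ : CommRing S') (_ : Algebra S S') (_ : Algebra.Etale S S')
      (_ : Algebra S' C) (_ : IsScalarTower S S' C),
      SurjMod J S' ∧ Hens2.IsPairHenselization S' (J.map (algebraMap S S')) C ∧
      ∃ ρ : R →+* S', (∀ a : A, ρ (algebraMap A R a) = algebraMap S S' (algebraMap A S a)) ∧
        ∀ r, algebraMap S' C (ρ r) = χ r := by
  classical
  obtain ⟨n, f, hfsurj, hfker⟩ := (Algebra.FinitePresentation.out :
    ∃ (n : ℕ) (f : MvPolynomial (Fin n) A →ₐ[A] R), Function.Surjective f ∧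
      (RingHom.ker f.toRingHom).FG)
  obtain ⟨T, hT⟩ := hfker
  have hfC : ∀ a : A, f (MvPolynomial.C a) = algebraMap A R a := fun a => by
    rw [← MvPolynomial.algebraMap_eq]; exact f.commutes a
  obtain ⟨S₁, _, _, _, _, _, hsurj₁, hhens₁, s₁, hs₁⟩ :=
    exists_nbhd_mem hC (fun i : Fin n => χ (f (MvPolynomial.X i)))
  obtain ⟨ev₁, hev₁def⟩ : ∃ ev₁ : MvPolynomial (Fin n) A →+* S₁,
      ev₁ = MvPolynomial.eval₂Hom ((algebraMap S S₁).comp (algebraMap A S)) s₁ := ⟨_, rfl⟩
  have hev₁C : ∀ a, ev₁ (MvPolynomial.C a) = algebraMap S S₁ (algebraMap A S a) := fun a => by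
    rw [hev₁def, MvPolynomial.eval₂Hom_C]; rfl
  have hev₁X : ∀ i, ev₁ (MvPolynomial.X i) = s₁ i := fun i => by
    rw [hev₁def, MvPolynomial.eval₂Hom_X']
  have hev₁ : ∀ p, algebraMap S₁ C (ev₁ p) = χ (f p) := by
    intro p
    have h : (algebraMap S₁ C).comp ev₁ = χ.toRingHom.comp f.toRingHom := by
      apply MvPolynomial.ringHom_ext
      · intro a
        show algebraMap S₁ C (ev₁ (MvPolynomial.C a)) = χ (f (MvPolynomial.C a))
        rw [hev₁C, hfC, χ.commutes, ← IsScalarTower.algebraMap_apply S S₁ C,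
          ← IsScalarTower.algebraMap_apply A S C]
      · intro i
        show algebraMap S₁ C (ev₁ (MvPolynomial.X i)) = χ (f (MvPolynomial.X i))
        rw [hev₁X]
        exact hs₁ i
    exact RingHom.congr_fun h p
  obtain ⟨S₂, _, _, _, _, _, hsurj₂, hhens₂, hkill⟩ :=
    exists_nbhd_kill hhens₁ (fun k : Fin T.toList.length => ev₁ (T.toList.get k)) (fun k => by
      show algebraMap S₁ C (ev₁ (T.toList.get k)) = 0
      rw [hev₁]
      have hmem : T.toList.get k ∈ RingHom.ker f.toRingHom := by
        rw [← hT]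
        exact Ideal.subset_span (Finset.mem_coe.2 (Finset.mem_toList.1 (List.get_mem _ _)))
      have h0 : f (T.toList.get k) = 0 := hmem
      rw [h0, map_zero])
  letI algS : Algebra S S₂ := ((algebraMap S₁ S₂).comp (algebraMap S S₁)).toAlgebra
  haveI tw : IsScalarTower S S₁ S₂ := IsScalarTower.of_algebraMap_eq (fun _ => rfl)
  obtain ⟨het, htower, hsurj, hhens⟩ :=
    nbhd_trans (J := J) (C := C) S₁ hsurj₁ S₂ hsurj₂ hhens₂
  have hker : RingHom.ker f.toRingHom ≤ RingHom.ker ((algebraMap S₁ S₂).comp ev₁) := by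
    rw [← hT, Ideal.span_le]
    intro t ht
    obtain ⟨k, hk⟩ := List.mem_iff_get.1 (Finset.mem_toList.2 (Finset.mem_coe.1 ht))
    show (algebraMap S₁ S₂) (ev₁ t) = 0
    rw [← hk]
    exact hkill k
  obtain ⟨ρ, hρdef⟩ : ∃ ρ : R →+* S₂, ρ = RingHom.liftOfSurjective f.toRingHom hfsurj
      ⟨(algebraMap S₁ S₂).comp ev₁, hker⟩ := ⟨_, rfl⟩
  have hρ : ∀ p, ρ (f p) = algebraMap S₁ S₂ (ev₁ p) := fun p => by
    rw [hρdef]
    exact RingHom.liftOfSurjective_comp_apply f.toRingHom hfsurj
      ⟨(algebraMap S₁ S₂).comp ev₁, hker⟩ p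
  refine ⟨S₂, inferInstance, algS, het, inferInstance, htower, hsurj, hhens, ρ, ?_, ?_⟩
  · intro a
    rw [← hfC, hρ, hev₁C]
    rfl
  · intro r
    obtain ⟨p, rfl⟩ := hfsurj r
    rw [hρ, ← IsScalarTower.algebraMap_apply S₁ S₂ C, hev₁]

end Recenter

end Groth.Agent.Lib.HfpCore
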