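import Mathlib
import Groth.Agent.Lib.EtaleNbhd_lead
import Groth.Agent.Lib.PairHensExists_lead
import Groth.Agent.Lib.HfpCore_lead
import Groth.Agent.Lib.HensPairSm4_helper8

/-!
# Lifting sections of smooth algebras to étale neighbourhoods (helper3)

`main2043`: `B` smooth over `A`, `σ : B →ₐ[A] A/I`. Then there is an étale neighbourhood `A'` of
`(A, I)` and a lift `B →ₐ[A] A'` of `σ`.
-/

set_option autoImplicit false
universe u

namespace Groth.Agent.Lib.EtNbhdSmoothLiftH3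

open Groth.Agent.Lib Groth.Agent.Lib.EtaleNbhd

theorem main2043 {A B : Type u} [CommRing A] [CommRing B] [Algebra A B]
    [Algebra.Smooth A B] (I : Ideal A) (σ : B →ₐ[A] A ⧸ I) :
    ∃ (A' : Type u) (_ : CommRing A') (_ : Algebra A A'), Algebra.Etale A A' ∧
      Function.Bijective (algebraMap (A ⧸ I) (A' ⧸ I.map (algebraMap A A'))) ∧
      ∃ τ : B →ₐ[A] A', ∀ b : B,
        Ideal.Quotient.mk (I.map (algebraMap A A')) (τ b) =
          algebraMap (A ⧸ I) (A' ⧸ I.map (algebraMap A A')) (σ b) := by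
  obtain ⟨Ah, _, _, hH, huniv⟩ := Groth.Agent.Lib.PairHensExists.exists_henselization A I
  have hB : Hens2.IsPairHenselization A I Ah := ⟨hH, huniv⟩
  haveI := hH
  let ι : A ⧸ I →ₐ[A] Ah ⧸ I.map (algebraMap A Ah) :=
    Ideal.quotientMapₐ _ (Algebra.ofId A Ah) Ideal.le_comap_map
  obtain ⟨τ, hτ⟩ := HensPairSmH8.main A B Ah (I.map (algebraMap A Ah)) (ι.comp σ)
  haveI : Algebra.FinitePresentation A B := inferInstance
  obtain ⟨S', _, _, _, _, _, hsurj, hhens, ρ, hρA, hρ⟩ :=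
    Groth.Agent.Lib.HfpCore.fp_factor (A := A) (S := A) hB B τ
  let τ' : B →ₐ[A] S' := { ρ with commutes' := fun a => hρA a }
  let φ : S' →ₐ[A] Ah := IsScalarTower.toAlgHom A S' Ah
  refine ⟨S', inferInstance, inferInstance, inferInstance, ?_, τ', fun b => ?_⟩
  · exact (EtaleNbhd.bijective_iff I S').2 ⟨hsurj, EtaleNbhd.injMod_of_algHom hB φ⟩
  · obtain ⟨a, ha⟩ := Ideal.Quotient.mk_surjective (σ b)
    rw [← ha]
    show _ = Ideal.Quotient.mk _ (algebraMap A S' a)
    rw [Ideal.Quotient.eq]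
    refine EtaleNbhd.mem_of_map_mem hB hsurj φ ?_
    rw [map_sub, φ.commutes]
    have h1 : φ (τ' b) = τ b := hρ b
    rw [h1, ← Ideal.Quotient.eq]
    have h2 := AlgHom.congr_fun hτ b
    have h3 : Ideal.Quotient.mk (I.map (algebraMap A Ah)) (τ b) = ι (σ b) := h2
    rw [h3, ← ha]
    rfl

end Groth.Agent.Lib.EtNbhdSmoothLiftH3
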