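import Mathlib
import Groth.Prelude.Def_Smoothing
import Groth.Prelude.Def_Found
import Groth.Agent.Lib.ArtinApx_helper5
import Groth.Agent.Lib.EtNbhdSmoothLift_helper3

set_option autoImplicit false
set_option linter.style.haveILetI false
set_option linter.unusedVariables false
set_option maxHeartbeats 1600000

universe u

open TensorProduct IsLocalRing

namespace Groth.Agent.Lib.ArtinApxH5

/-- abstract étale approximation: a point of a smooth algebra in a henselian pair `(Λ, J)` over `A`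
whose truncation `Λ/J` is controlled by `A/I'` comes, modulo `J`, from an étale neighbourhood
of `(A, I')`. -/
theorem etale_lift_abstract {A B Λ : Type u} [CommRing A] [CommRing B] [Algebra A B]
    [Algebra.Smooth A B] [CommRing Λ] [Algebra A Λ] (I' : Ideal A) (J : Ideal Λ)
    (hJ : HenselianRing Λ J) (hIJ : I'.map (algebraMap A Λ) ≤ J) (ev : Λ →ₐ[A] A ⧸ I')
    (hev : ∀ x, ev x = 0 → x ∈ J) (h : B →ₐ[A] Λ) :
    ∃ (A' : Type u) (_ : CommRing A') (_ : Algebra A A'), Algebra.Etale A A' ∧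
      Function.Bijective (algebraMap (A ⧸ I') (A' ⧸ I'.map (algebraMap A A'))) ∧
      ∃ (ψ : A' →ₐ[A] Λ) (τ : B →ₐ[A] A'), (∀ c, h c - ψ (τ c) ∈ J) ∧
        ∀ (x : A') (r : A), Ideal.Quotient.mk (I'.map (algebraMap A A')) x =
          algebraMap (A ⧸ I') (A' ⧸ I'.map (algebraMap A A')) (Ideal.Quotient.mk I' r) →
          ψ x - algebraMap A Λ r ∈ J := by
  classical
  obtain ⟨A', iA1, iA2, het, hbij, τ, hτ⟩ :=
    Groth.Agent.Lib.EtNbhdSmoothLiftH3.main2043 I' (ev.comp h)
  haveI := het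
  -- ι : A/I' → Λ/J
  let ι : A ⧸ I' →+* Λ ⧸ J := Ideal.Quotient.lift I'
    ((Ideal.Quotient.mk J).comp (algebraMap A Λ)) (fun x hx => by
      show Ideal.Quotient.mk J (algebraMap A Λ x) = 0
      exact Ideal.Quotient.eq_zero_iff_mem.mpr (hIJ (Ideal.mem_map_of_mem _ hx)))
  have hι : ∀ x : Λ, ι (ev x) = Ideal.Quotient.mk J x := by
    intro x
    obtain ⟨r, hr⟩ := Ideal.Quotient.mk_surjective (ev x)
    have h1 : ev (x - algebraMap A Λ r) = 0 := by
      rw [map_sub, AlgHom.commutes, ← hr]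
      exact sub_self _
    have h2 := hev _ h1
    rw [← hr]
    show Ideal.Quotient.mk J (algebraMap A Λ r) = _
    exact (Ideal.Quotient.eq.mpr h2).symm
  let e : A ⧸ I' ≃+* A' ⧸ I'.map (algebraMap A A') := RingEquiv.ofBijective _ hbij
  have he : ∀ y, algebraMap (A ⧸ I') (A' ⧸ I'.map (algebraMap A A')) y = e y := fun y => rfl
  let σr : A' →+* Λ ⧸ J :=
    (ι.comp e.symm.toRingHom).comp (Ideal.Quotient.mk (I'.map (algebraMap A A')))
  have hσr : ∀ (x : A') (r : A), Ideal.Quotient.mk (I'.map (algebraMap A A')) x =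
      algebraMap (A ⧸ I') (A' ⧸ I'.map (algebraMap A A')) (Ideal.Quotient.mk I' r) →
      σr x = Ideal.Quotient.mk J (algebraMap A Λ r) := by
    intro x r hxr
    show ι (e.symm (Ideal.Quotient.mk _ x)) = _
    rw [hxr, he, e.symm_apply_apply]
    rfl
  let σ'' : A' →ₐ[A] Λ ⧸ J :=
    { σr with
      commutes' := fun r => hσr (algebraMap A A' r) r rfl }
  haveI := hJ
  obtain ⟨ψ, hψ⟩ := HensPairSmH8.main A A' Λ J σ''
  have hψ' : ∀ x, Ideal.Quotient.mk J (ψ x) = σr x := fun x => by
    have := congrArg (fun φ : A' →ₐ[A] Λ ⧸ J => φ x) hψ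
    exact this
  refine ⟨A', iA1, iA2, het, hbij, ψ, τ, fun c => ?_, fun x r hxr => ?_⟩
  · apply Ideal.Quotient.eq.mp
    rw [hψ', ← hι]
    show ι (ev (h c)) = ι (e.symm (Ideal.Quotient.mk _ (τ c)))
    rw [hτ c, he, e.symm_apply_apply]
    rfl
  · apply Ideal.Quotient.eq.mp
    rw [hψ', hσr x r hxr]


/-- étale approximation of formal solutions (general ideal): a solution in the completion comes,
modulo `I ^ (N+1)`, from a solution in an étale neighbourhood of `(A, I ^ (N+1))`. -/
theorem etale_approx {A : Type u} [CommRing A] [IsNoetherianRing A] (I : Ideal A)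
    (hreg : CAlg.IsRegularHom A (AdicCompletion I A)) {n m : ℕ}
    (F : Fin m → MvPolynomial (Fin n) A) (a : Fin n → AdicCompletion I A)
    (ha : ∀ j, MvPolynomial.aeval a (F j) = 0) (N : ℕ) :
    ∃ (A' : Type u) (_ : CommRing A') (_ : Algebra A A'), Algebra.Etale A A' ∧
      Function.Bijective
        (algebraMap (A ⧸ I ^ (N + 1)) (A' ⧸ (I ^ (N + 1)).map (algebraMap A A'))) ∧
      ∃ (ψ : A' →ₐ[A] AdicCompletion I A),
        (∀ (x : A') (r : A), Ideal.Quotient.mk ((I ^ (N + 1)).map (algebraMap A A')) x =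
          algebraMap (A ⧸ I ^ (N + 1)) (A' ⧸ (I ^ (N + 1)).map (algebraMap A A'))
            (Ideal.Quotient.mk (I ^ (N + 1)) r) →
          ψ x - algebraMap A (AdicCompletion I A) r ∈
            (I ^ (N + 1)).map (algebraMap A (AdicCompletion I A))) ∧
        ∃ b : Fin n → A', (∀ j, MvPolynomial.aeval b (F j) = 0) ∧
          ∀ i, a i - ψ (b i) ∈ (I ^ (N + 1)).map (algebraMap A (AdicCompletion I A)) := by
  classical
  haveI : IsNoetherianRing (AdicCompletion I A) := Groth.Agent.S0543.result A I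
  haveI : IsAdicComplete (I.map (algebraMap A (AdicCompletion I A))) (AdicCompletion I A) :=
    AdicCompletion.isAdicComplete_self I (IsNoetherian.noetherian I)
  have hH : HenselianRing (AdicCompletion I A) (I.map (algebraMap A (AdicCompletion I A))) :=
    inferInstance
  have hJ : HenselianRing (AdicCompletion I A)
      ((I ^ (N + 1)).map (algebraMap A (AdicCompletion I A))) :=
    Groth.Agent.Lib.HenselPairOpsLead.henselian_of_le
      (Ideal.map_mono (Ideal.pow_le_self (Nat.succ_ne_zero N))) hH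
  -- the algebra of the system
  let K : Ideal (MvPolynomial (Fin n) A) := Ideal.span (Set.range F)
  haveI : Algebra.FinitePresentation A (MvPolynomial (Fin n) A ⧸ K) :=
    Algebra.FinitePresentation.quotient (Submodule.fg_span (Set.finite_range F))
  have hK : ∀ p ∈ K, MvPolynomial.aeval a p = 0 := by
    intro p hp
    have : K ≤ RingHom.ker (MvPolynomial.aeval a : MvPolynomial (Fin n) A →ₐ[A] _).toRingHom := by
      rw [Ideal.span_le]
      rintro _ ⟨j, rfl⟩
      exact ha j
    exact this hp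
  let f : (MvPolynomial (Fin n) A ⧸ K) →ₐ[A] AdicCompletion I A :=
    Ideal.Quotient.liftₐ K (MvPolynomial.aeval a) hK
  obtain ⟨B, iB1, iB2, hsm, g, h, hgh⟩ :=
    Groth.Agent.Lib.PopescuH5.popescu hreg (MvPolynomial (Fin n) A ⧸ K) inferInstance f
  haveI := hsm
  obtain ⟨A', iA1, iA2, het, hbij, ψ, τ, h1, h2⟩ :=
    etale_lift_abstract (I ^ (N + 1)) ((I ^ (N + 1)).map (algebraMap A (AdicCompletion I A)))
      hJ le_rfl (AdicCompletion.evalₐ I (N + 1))
      (mem_map_of_evalₐ_eq_zero I (IsNoetherian.noetherian I) (N + 1)) h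
  refine ⟨A', iA1, iA2, het, hbij, ψ, h2, ?_⟩
  let φ : MvPolynomial (Fin n) A →ₐ[A] A' := (τ.comp g).comp (Ideal.Quotient.mkₐ A K)
  refine ⟨fun i => φ (MvPolynomial.X i), fun j => ?_, fun i => ?_⟩
  · have e1 : φ = MvPolynomial.aeval (fun i => φ (MvPolynomial.X i)) :=
      MvPolynomial.aeval_unique φ
    rw [← e1]
    have e3 : Ideal.Quotient.mkₐ A K (F j) = 0 :=
      Ideal.Quotient.eq_zero_iff_mem.mpr (Ideal.subset_span ⟨j, rfl⟩)
    show τ (g (Ideal.Quotient.mkₐ A K (F j))) = 0
    rw [e3, map_zero, map_zero]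
  · have e1 : a i = h (g (Ideal.Quotient.mkₐ A K (MvPolynomial.X i))) := by
      have : f (Ideal.Quotient.mkₐ A K (MvPolynomial.X i)) = a i := by
        show MvPolynomial.aeval a (MvPolynomial.X i) = a i
        exact MvPolynomial.aeval_X a i
      rw [← this, ← hgh]
      rfl
    rw [e1]
    exact h1 _

/-- **Étale approximation over a Noetherian local ring with regular completion map** (form of
S6825). -/
theorem etale_approx_local {R : Type u} [CommRing R] [IsLocalRing R] [IsNoetherianRing R]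
    (hreg : CAlg.IsRegularHom R (AdicCompletion (maximalIdeal R) R)) {n m : ℕ}
    (F : Fin m → MvPolynomial (Fin n) R) (a : Fin n → AdicCompletion (maximalIdeal R) R)
    (ha : ∀ j, MvPolynomial.aeval a (F j) = 0) (N : ℕ) :
    ∃ (R' : Type u) (_ : CommRing R') (_ : Algebra R R'), Algebra.Etale R R' ∧
      ∃ (ψ : R' →ₐ[R] AdicCompletion (maximalIdeal R) R) (m' : Ideal R'), m'.IsMaximal ∧
        m'.comap (algebraMap R R') = maximalIdeal R ∧
        (∀ x : R', ∃ r : R, x - algebraMap R R' r ∈ m') ∧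
        (∀ x ∈ m', ψ x ∈ (maximalIdeal R).map
          (algebraMap R (AdicCompletion (maximalIdeal R) R))) ∧
        ∃ b : Fin n → R', (∀ j, MvPolynomial.aeval b (F j) = 0) ∧
          ∀ i, a i - ψ (b i) ∈ (maximalIdeal R ^ N).map
            (algebraMap R (AdicCompletion (maximalIdeal R) R)) := by
  classical
  obtain ⟨R', iR1, iR2, het, hbij, ψ, hcompat, b, hb, hab⟩ :=
    etale_approx (maximalIdeal R) hreg F a ha N
  refine ⟨R', iR1, iR2, het, ψ, ?_⟩
  let e : R ⧸ maximalIdeal R ^ (N + 1) ≃+*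
      R' ⧸ (maximalIdeal R ^ (N + 1)).map (algebraMap R R') := RingEquiv.ofBijective _ hbij
  have he : ∀ y, algebraMap (R ⧸ maximalIdeal R ^ (N + 1))
      (R' ⧸ (maximalIdeal R ^ (N + 1)).map (algebraMap R R')) y = e y := fun y => rfl
  have hle : maximalIdeal R ^ (N + 1) ≤ maximalIdeal R := Ideal.pow_le_self (Nat.succ_ne_zero N)
  let ρ : R' →+* R ⧸ maximalIdeal R :=
    ((Ideal.Quotient.factor hle).comp e.symm.toRingHom).comp
      (Ideal.Quotient.mk ((maximalIdeal R ^ (N + 1)).map (algebraMap R R')))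
  have hρ : ∀ r : R, ρ (algebraMap R R' r) = Ideal.Quotient.mk (maximalIdeal R) r := by
    intro r
    show Ideal.Quotient.factor hle (e.symm (Ideal.Quotient.mk _ (algebraMap R R' r))) = _
    have : Ideal.Quotient.mk ((maximalIdeal R ^ (N + 1)).map (algebraMap R R'))
        (algebraMap R R' r) = e (Ideal.Quotient.mk _ r) := rfl
    rw [this, e.symm_apply_apply, Ideal.Quotient.factor_mk]
  have hρs : Function.Surjective ρ := by
    intro y
    obtain ⟨r, rfl⟩ := Ideal.Quotient.mk_surjective y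
    exact ⟨algebraMap R R' r, hρ r⟩
  have hmax : (RingHom.ker ρ).IsMaximal := by
    letI := Ideal.Quotient.field (maximalIdeal R)
    exact RingHom.ker_isMaximal_of_surjective ρ hρs
  refine ⟨RingHom.ker ρ, hmax, ?_, ?_, ?_, b, hb, ?_⟩
  · ext r
    rw [Ideal.mem_comap, RingHom.mem_ker, hρ, Ideal.Quotient.eq_zero_iff_mem]
  · intro x
    obtain ⟨r, hr⟩ := Ideal.Quotient.mk_surjective (ρ x)
    refine ⟨r, ?_⟩
    rw [RingHom.mem_ker, map_sub, hρ, hr, sub_self]
  · intro x hx
    obtain ⟨r, hr⟩ := Ideal.Quotient.mk_surjective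
      (e.symm (Ideal.Quotient.mk ((maximalIdeal R ^ (N + 1)).map (algebraMap R R')) x))
    have h1 : Ideal.Quotient.mk ((maximalIdeal R ^ (N + 1)).map (algebraMap R R')) x =
        algebraMap (R ⧸ maximalIdeal R ^ (N + 1))
          (R' ⧸ (maximalIdeal R ^ (N + 1)).map (algebraMap R R'))
          (Ideal.Quotient.mk (maximalIdeal R ^ (N + 1)) r) := by
      rw [he, hr, e.apply_symm_apply]
    have h2 := hcompat x r h1
    have h3 : r ∈ maximalIdeal R := by
      have : ρ x = Ideal.Quotient.mk (maximalIdeal R) r := by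
        show Ideal.Quotient.factor hle (e.symm (Ideal.Quotient.mk _ x)) = _
        rw [← hr, Ideal.Quotient.factor_mk]
      rw [RingHom.mem_ker, this, Ideal.Quotient.eq_zero_iff_mem] at hx
      exact hx
    have h4 : ψ x = (ψ x - algebraMap R (AdicCompletion (maximalIdeal R) R) r) +
        algebraMap R (AdicCompletion (maximalIdeal R) R) r := by ring
    rw [h4]
    exact Ideal.add_mem _ (Ideal.map_mono hle h2) (Ideal.mem_map_of_mem _ h3)
  · intro i
    exact Ideal.map_mono (Ideal.pow_le_pow_right (Nat.le_succ N)) (hab i)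

end Groth.Agent.Lib.ArtinApxH5
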