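import Mathlib
import Groth.Agent.Lib.IndEtale1_helper3

/-!
# Every algebra is a filtered colimit of finitely presented algebras (helper5)
Adaptation of helper3's `EtOver` construction (`IndEtale1_helper3`) to finitely presented algebras.
-/

set_option autoImplicit false
set_option linter.style.haveILetI false
set_option linter.unusedVariables false
universe u

open CategoryTheory Limits TensorProduct

namespace Groth.Agent.Lib.FpColimH5

open Groth.Agent.Lib.IndEtaleH3

section Cat

variable (A B : Type u) [CommRing A] [CommRing B] [Algebra A B]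

/-- Presented finitely presented `A`-algebras with a map to `B`. -/
structure FpOver where
  n : ℕ
  I : Ideal (MvPolynomial (Fin n) A)
  fp : Algebra.FinitePresentation A (MvPolynomial (Fin n) A ⧸ I)
  f : (MvPolynomial (Fin n) A ⧸ I) →ₐ[A] B

variable {A B}

/-- underlying algebra -/
abbrev FpOver.C (X : FpOver A B) : Type u := MvPolynomial (Fin X.n) A ⧸ X.I

instance (X : FpOver A B) : Algebra.FinitePresentation A X.C := X.fp

noncomputable instance : Category.{u} (FpOver A B) where
  Hom X Y := {g : X.C →ₐ[A] Y.C // Y.f.comp g = X.f}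
  id X := ⟨AlgHom.id A _, by simp⟩
  comp g h := ⟨h.1.comp g.1, by rw [← AlgHom.comp_assoc, h.2, g.2]⟩

theorem FpOver.hom_ext {X Y : FpOver A B} (g h : X ⟶ Y) (e : g.1 = h.1) : g = h := Subtype.ext e

@[simp] theorem FpOver.comp_val {X Y Z : FpOver A B} (g : X ⟶ Y) (h : Y ⟶ Z) :
    (g ≫ h).1 = h.1.comp g.1 := rfl

@[simp] theorem FpOver.id_val (X : FpOver A B) : (𝟙 X : X ⟶ X).1 = AlgHom.id A _ := rfl

theorem exists_obj (C : Type u) [CommRing C] [Algebra A C] [Algebra.FinitePresentation A C]
    (f : C →ₐ[A] B) :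
    ∃ (X : FpOver A B) (e : C ≃ₐ[A] X.C), X.f.comp e.toAlgHom = f := by
  obtain ⟨n, π, hπ, -⟩ := (Algebra.FinitePresentation.out : ∃ n, ∃ π :
    MvPolynomial (Fin n) A →ₐ[A] C, Function.Surjective π ∧ (RingHom.ker π.toRingHom).FG)
  let e := Ideal.quotientKerAlgEquivOfSurjective hπ
  refine ⟨⟨n, RingHom.ker π, Algebra.FinitePresentation.equiv e.symm, f.comp e.toAlgHom⟩,
    e.symm, ?_⟩
  ext x
  simp

instance : IsFiltered (FpOver A B) where
  nonempty := by
    obtain ⟨X, -, -⟩ := exists_obj A (Algebra.ofId A B)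
    exact ⟨X⟩
  cocone_objs X Y := by
    have : Algebra.FinitePresentation A (X.C ⊗[A] Y.C) :=
      Algebra.FinitePresentation.trans (R := A) (A := X.C) (B := X.C ⊗[A] Y.C)
    obtain ⟨Z, e, he⟩ := exists_obj (X.C ⊗[A] Y.C) (Algebra.TensorProduct.productMap X.f Y.f)
    refine ⟨Z, ⟨e.toAlgHom.comp Algebra.TensorProduct.includeLeft, ?_⟩,
      ⟨e.toAlgHom.comp Algebra.TensorProduct.includeRight, ?_⟩, trivial⟩
    · rw [← AlgHom.comp_assoc, he]; simp
    · rw [← AlgHom.comp_assoc, he]; simp
  cocone_maps {X Y} g h := by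
    have hK : ∀ a ∈ coeqIdeal g.1 h.1, Y.f a = 0 := by
      intro a ha
      have : coeqIdeal g.1 h.1 ≤ RingHom.ker Y.f.toRingHom := by
        rw [coeqIdeal, Ideal.span_le]
        rintro _ ⟨c, rfl⟩
        have h1 := congr($(g.2) c)
        have h2 := congr($(h.2) c)
        simp only [AlgHom.coe_comp, Function.comp_apply] at h1 h2
        simp [RingHom.mem_ker, h1, h2]
      exact this ha
    have : Algebra.FinitePresentation A (Y.C ⧸ coeqIdeal g.1 h.1) :=
      Algebra.FinitePresentation.quotient (coeqIdeal_fg g.1 h.1)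
    obtain ⟨Z, e, he⟩ := exists_obj (Y.C ⧸ coeqIdeal g.1 h.1)
      (Ideal.Quotient.liftₐ (coeqIdeal g.1 h.1) Y.f hK)
    refine ⟨Z, ⟨e.toAlgHom.comp (Ideal.Quotient.mkₐ A _), ?_⟩, ?_⟩
    · rw [← AlgHom.comp_assoc, he]
      ext x
      simp
    · apply FpOver.hom_ext
      ext c
      simp only [FpOver.comp_val, AlgHom.coe_comp, Ideal.Quotient.mkₐ_eq_mk,
        Function.comp_apply]
      congr 1
      rw [Ideal.Quotient.eq]
      exact Ideal.subset_span ⟨c, rfl⟩

end Cat

section Diag

variable (A B : Type u) [CommRing A] [CommRing B] [Algebra A B]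

/-- The canonical diagram of finitely presented algebras over `B`. -/
noncomputable def fpDiag : FpOver A B ⥤ Under (CommRingCat.of A) where
  obj X := Under.mk (CommRingCat.ofHom (algebraMap A X.C))
  map {X Y} g := Under.homMk (CommRingCat.ofHom g.1.toRingHom) (by
    ext x
    simp)
  map_id X := by
    ext x
    rfl
  map_comp g h := by
    ext x
    rfl

/-- The canonical cocone. -/
noncomputable def fpCocone : Cocone (fpDiag A B) where
  pt := Under.mk (CommRingCat.ofHom (algebraMap A B))
  ι :=
    { app := fun X => Under.homMk (CommRingCat.ofHom X.f.toRingHom) (by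
        ext x
        simp [fpDiag])
      naturality := fun X Y g => by
        ext x
        exact congr($(g.2) x) }

/-- every algebra is the filtered colimit of the finitely presented algebras mapping to it -/
noncomputable def fpIsColimit : IsColimit (fpCocone A B) := by
  apply isColimitOfSurjInj
  · intro b
    -- the polynomial ring in one variable
    let f : MvPolynomial (Fin 1) A →ₐ[A] B := MvPolynomial.aeval (fun _ => (b : B))
    obtain ⟨X, e, he⟩ := exists_obj (MvPolynomial (Fin 1) A) f
    refine ⟨X, e (MvPolynomial.X 0), ?_⟩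
    have := congr($he (MvPolynomial.X 0))
    simp only [AlgHom.coe_comp, Function.comp_apply] at this
    show X.f (e (MvPolynomial.X 0)) = b
    rw [show X.f (e (MvPolynomial.X 0)) = f (MvPolynomial.X 0) from this]
    exact MvPolynomial.aeval_X _ _
  · intro X (y : X.C) hy
    have hy' : X.f y = 0 := hy
    have hK : ∀ a ∈ Ideal.span {y}, X.f a = 0 := by
      intro a ha
      obtain ⟨c, rfl⟩ := Ideal.mem_span_singleton'.mp ha
      rw [map_mul, hy', mul_zero]
    have : Algebra.FinitePresentation A (X.C ⧸ Ideal.span {y}) :=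
      Algebra.FinitePresentation.quotient ⟨{y}, by simp⟩
    obtain ⟨Z, e, he⟩ := exists_obj (X.C ⧸ Ideal.span {y})
      (Ideal.Quotient.liftₐ (Ideal.span {y}) X.f hK)
    refine ⟨Z, ⟨e.toAlgHom.comp (Ideal.Quotient.mkₐ A _), ?_⟩, ?_⟩
    · rw [← AlgHom.comp_assoc, he]
      ext x
      simp
    · show e (Ideal.Quotient.mk _ y) = 0
      have h0 : Ideal.Quotient.mk (Ideal.span {y}) y = 0 :=
        Ideal.Quotient.eq_zero_iff_mem.mpr (Ideal.subset_span rfl)
      rw [h0, map_zero]

end Diag

end Groth.Agent.Lib.FpColimH5
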