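import Mathlib
import Groth.Agent.Lib.FFTransfer_helper3
import Groth.Agent.Lib.ComplTensor_helper3

/-!
# Maps between completions of local rings (helper3)

* `ringHom_ext`: a ring map out of an adic completion into a Hausdorff ring is determined by its
  restriction to the base ring.
* `flat_iff`: `Â → B̂` flat iff `A → B` flat.
* `bijective_of_comp`: `Â → B̂` bijective when `A → B` is flat, `𝔪_A B = 𝔪_B` and the residue
  fields agree.
APPEND-ONLY once landed.
-/

set_option autoImplicit false
universe u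

namespace Groth.Agent.Lib.ComplMapIsoH3

open IsLocalRing TensorProduct

section Uniq

theorem ringHom_ext {A : Type u} [CommRing A] (I : Ideal A) (fg : I.FG) {W : Type u} [CommRing W]
    [Algebra A W] (hH : IsHausdorff (I.map (algebraMap A W)) W)
    (ψ₁ ψ₂ : AdicCompletion I A →+* W)
    (h₁ : ψ₁.comp (algebraMap A (AdicCompletion I A)) = algebraMap A W)
    (h₂ : ψ₂.comp (algebraMap A (AdicCompletion I A)) = algebraMap A W) : ψ₁ = ψ₂ := by
  have key : ∀ (ψ : AdicCompletion I A →+* W),
      ψ.comp (algebraMap A (AdicCompletion I A)) = algebraMap A W →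
      ∀ (n : ℕ) (y : AdicCompletion I A),
        y ∈ (I.map (algebraMap A (AdicCompletion I A))) ^ n →
        ψ y ∈ (I.map (algebraMap A W)) ^ n := by
    intro ψ h n y hy
    have h0 : ((I.map (algebraMap A (AdicCompletion I A))) ^ n).map ψ =
        (I.map (algebraMap A W)) ^ n := by
      rw [Ideal.map_pow, Ideal.map_map, h]
    rw [← h0]
    exact Ideal.mem_map_of_mem _ hy
  ext x
  rw [← sub_eq_zero]
  apply hH.haus'
  intro n
  rw [SModEq.zero, smul_eq_mul, Ideal.mul_top]
  obtain ⟨a, ha⟩ := Groth.Agent.Lib.ComplFlatH3.exists_sub_mem_pow I fg n x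
  have c1 : ψ₁ (algebraMap A (AdicCompletion I A) a) = algebraMap A W a := RingHom.congr_fun h₁ a
  have c2 : ψ₂ (algebraMap A (AdicCompletion I A) a) = algebraMap A W a := RingHom.congr_fun h₂ a
  have e1 : ψ₁ x - ψ₂ x = ψ₁ (x - algebraMap A (AdicCompletion I A) a) -
      ψ₂ (x - algebraMap A (AdicCompletion I A) a) := by
    rw [map_sub, map_sub, c1, c2]; ring
  rw [e1]
  exact Ideal.sub_mem _ (key ψ₁ h₁ n _ ha) (key ψ₂ h₂ n _ ha)

end Uniq

section Main

variable (A B : Type u) [CommRing A] [CommRing B] [IsLocalRing A] [IsLocalRing B]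
  [IsNoetherianRing A] [IsNoetherianRing B] [Algebra A B] [IsLocalHom (algebraMap A B)]

theorem sup_pow_smul_top
    (hm : Ideal.map (algebraMap A B) (maximalIdeal A) = maximalIdeal B)
    (hk : Function.Surjective (IsLocalRing.ResidueField.map (algebraMap A B))) (n : ℕ) :
    LinearMap.range (Algebra.linearMap A B) ⊔ ((maximalIdeal A) ^ n • ⊤ : Submodule A B) = ⊤ := by
  have h1 : LinearMap.range (Algebra.linearMap A B) ⊔
      ((maximalIdeal A) • ⊤ : Submodule A B) = ⊤ := by
    rw [eq_top_iff]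
    intro b _
    obtain ⟨x, hx⟩ := hk (residue B b)
    obtain ⟨a, rfl⟩ := IsLocalRing.residue_surjective x
    rw [IsLocalRing.ResidueField.map_residue] at hx
    have h2 : b - algebraMap A B a ∈ maximalIdeal B := by
      rw [← IsLocalRing.residue_eq_zero_iff, map_sub, hx, sub_self]
    rw [← hm] at h2
    have h3 : b = algebraMap A B a + (b - algebraMap A B a) := by ring
    rw [h3]
    refine Submodule.add_mem _ (Submodule.mem_sup_left ⟨a, rfl⟩) (Submodule.mem_sup_right ?_)
    rw [Ideal.smul_top_eq_map]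
    exact h2
  induction n with
  | zero => rw [pow_zero, Ideal.one_eq_top, Submodule.top_smul, sup_top_eq]
  | succ n ih =>
    refine eq_top_iff.mpr (ih.ge.trans (sup_le le_sup_left ?_))
    calc ((maximalIdeal A) ^ n • ⊤ : Submodule A B)
        = (maximalIdeal A) ^ n • (LinearMap.range (Algebra.linearMap A B) ⊔
            ((maximalIdeal A) • ⊤ : Submodule A B)) := by rw [h1]
      _ = (maximalIdeal A) ^ n • LinearMap.range (Algebra.linearMap A B) ⊔
            (maximalIdeal A) ^ n • ((maximalIdeal A) • ⊤ : Submodule A B) :=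
          Submodule.smul_sup _ _ _
      _ ≤ LinearMap.range (Algebra.linearMap A B) ⊔
            ((maximalIdeal A) ^ (n + 1) • ⊤ : Submodule A B) := by
          refine sup_le_sup Submodule.smul_le_right ?_
          rw [pow_succ, Submodule.mul_smul]

theorem isLocalHom_base : IsLocalHom (algebraMap A (EGA4.Cpl B)) :=
  ((IsLocalRing.local_hom_TFAE (algebraMap A (EGA4.Cpl B))).out 0 2).mpr
    (Groth.Agent.Lib.FFTransferH3.map_le_cpl A B)

theorem flat_iff
    (ψ : AdicCompletion (maximalIdeal A) A →+* AdicCompletion (maximalIdeal B) B)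
    (hψ : ψ.comp (algebraMap A (AdicCompletion (maximalIdeal A) A)) =
      (algebraMap B (AdicCompletion (maximalIdeal B) B)).comp (algebraMap A B)) :
    ψ.Flat ↔ (algebraMap A B).Flat := by
  letI : Algebra (EGA4.Cpl A) (EGA4.Cpl B) := ψ.toAlgebra
  haveI := Groth.Agent.Lib.FFTransferH3.tower' A B
  haveI : IsScalarTower A (EGA4.Cpl A) (EGA4.Cpl B) :=
    IsScalarTower.of_algebraMap_eq fun a => (RingHom.congr_fun hψ a).symm
  haveI := Groth.Agent.Lib.FFTransferH3.noeth_cpl A
  haveI := Groth.Agent.Lib.FFTransferH3.noeth_cpl B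
  constructor
  · intro h
    haveI : Module.Flat (EGA4.Cpl A) (EGA4.Cpl B) := h
    haveI : Module.Flat A (EGA4.Cpl B) := Module.Flat.trans A (EGA4.Cpl A) (EGA4.Cpl B)
    haveI : Module.FaithfullyFlat B (EGA4.Cpl B) := Module.FaithfullyFlat.of_flat_of_isLocalHom
    rw [RingHom.flat_algebraMap_iff]
    exact Groth.Agent.Lib.RegHomBCH3.flat_of_faithfullyFlat_comp A B (EGA4.Cpl B)
  · intro h
    haveI : Module.Flat A B := RingHom.flat_algebraMap_iff.mp h
    haveI := Groth.Agent.Lib.FFTransferH3.flat_base A B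
    show Module.Flat (EGA4.Cpl A) (EGA4.Cpl B)
    refine Groth.Agent.Lib.ComplFlatH3.flat_of_complete_like (P := A) (R := EGA4.Cpl A)
      (T := EGA4.Cpl B) (maximalIdeal A) ?_ ?_
    · rw [IsLocalRing.jacobson_eq_maximalIdeal ⊥ bot_ne_top]
      exact Groth.Agent.Lib.FFTransferH3.map_le_cpl A B
    · intro n x
      exact Groth.Agent.Lib.ComplFlatH3.exists_sub_mem_pow (maximalIdeal A)
        (maximalIdeal A).fg_of_isNoetherianRing n x

theorem bijective_of_comp [Module.Flat A B]
    (hm : Ideal.map (algebraMap A B) (maximalIdeal A) = maximalIdeal B)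
    (hk : Function.Bijective (IsLocalRing.ResidueField.map (algebraMap A B)))
    (ψ : AdicCompletion (maximalIdeal A) A →+* AdicCompletion (maximalIdeal B) B)
    (hψ : ψ.comp (algebraMap A (AdicCompletion (maximalIdeal A) A)) =
      (algebraMap B (AdicCompletion (maximalIdeal B) B)).comp (algebraMap A B)) :
    Function.Bijective ψ := by
  haveI := Groth.Agent.Lib.FFTransferH3.tower' A B
  haveI := Groth.Agent.Lib.FFTransferH3.noeth_cpl B
  have hmW : (maximalIdeal A).map (algebraMap A (EGA4.Cpl B)) = maximalIdeal (EGA4.Cpl B) := by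
    rw [IsScalarTower.algebraMap_eq A B (EGA4.Cpl B), ← Ideal.map_map, hm,
      AdicCompletion.maximalIdeal_eq_map]
  haveI hc : IsAdicComplete ((maximalIdeal A).map (algebraMap A (EGA4.Cpl B))) (EGA4.Cpl B) := by
    rw [hmW]; infer_instance
  haveI := Groth.Agent.Lib.FFTransferH3.flat_base A B
  haveI := isLocalHom_base A B
  haveI : Module.FaithfullyFlat A (EGA4.Cpl B) := Module.FaithfullyFlat.of_flat_of_isLocalHom
  have hcomap : ∀ n : ℕ, (((maximalIdeal A) ^ n).map (algebraMap A (EGA4.Cpl B))).comap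
      (algebraMap A (EGA4.Cpl B)) ≤ (maximalIdeal A) ^ n :=
    fun n => (Ideal.comap_map_eq_self_of_faithfullyFlat _).le
  have hsurj : ∀ (n : ℕ) (w : EGA4.Cpl B), ∃ a : A,
      w - algebraMap A (EGA4.Cpl B) a ∈ ((maximalIdeal A) ^ n).map (algebraMap A (EGA4.Cpl B)) := by
    intro n w
    obtain ⟨b, hb⟩ := Groth.Agent.Lib.ComplFlatH3.exists_sub_mem_pow (maximalIdeal B)
      (maximalIdeal B).fg_of_isNoetherianRing n w
    have hb' : w - algebraMap B (EGA4.Cpl B) b ∈
        ((maximalIdeal A) ^ n).map (algebraMap A (EGA4.Cpl B)) := by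
      rw [Ideal.map_pow, hmW, AdicCompletion.maximalIdeal_eq_map]; exact hb
    have h2 : b ∈ LinearMap.range (Algebra.linearMap A B) ⊔
        ((maximalIdeal A) ^ n • ⊤ : Submodule A B) := by
      rw [sup_pow_smul_top A B hm hk.2 n]; trivial
    obtain ⟨y, ⟨a, rfl⟩, z, hz, rfl⟩ := Submodule.mem_sup.1 h2
    refine ⟨a, ?_⟩
    have hz' : algebraMap B (EGA4.Cpl B) z ∈
        ((maximalIdeal A) ^ n).map (algebraMap A (EGA4.Cpl B)) := by
      rw [Ideal.smul_top_eq_map] at hz
      rw [IsScalarTower.algebraMap_eq A B (EGA4.Cpl B), ← Ideal.map_map]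
      exact Ideal.mem_map_of_mem _ hz
    have e : w - algebraMap A (EGA4.Cpl B) a =
        (w - algebraMap B (EGA4.Cpl B) (Algebra.linearMap A B a + z)) +
          algebraMap B (EGA4.Cpl B) z := by
      rw [IsScalarTower.algebraMap_apply A B (EGA4.Cpl B), map_add, Algebra.linearMap_apply]; ring
    rw [e]
    exact Ideal.add_mem _ hb' hz'
  have hbij := Groth.Agent.Lib.ComplTensorH3.psi_bijective (maximalIdeal A) (EGA4.Cpl B)
    hcomap hsurj
  have hψ' : ψ.comp (algebraMap A (AdicCompletion (maximalIdeal A) A)) =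
      algebraMap A (EGA4.Cpl B) := by
    rw [hψ]; exact (IsScalarTower.algebraMap_eq A B (EGA4.Cpl B)).symm
  have heq : ψ = Groth.Agent.Lib.ComplTensorH3.psi (maximalIdeal A) (EGA4.Cpl B) :=
    ringHom_ext (maximalIdeal A) (maximalIdeal A).fg_of_isNoetherianRing inferInstance ψ _ hψ'
      (RingHom.ext fun a =>
        Groth.Agent.Lib.ComplTensorH3.psi_of (maximalIdeal A) (EGA4.Cpl B) a)
  rw [heq]
  exact hbij

end Main

end Groth.Agent.Lib.ComplMapIsoH3
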