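import Mathlib
import Groth.Prelude.Def_Found
import Groth.Prelude.Def_EGA4b
import Groth.Agent.Lib.FFNagata_helper3
import Groth.Agent.Lib.QENagata_helper3
import Groth.Agent.Lib.NagataCrit_helper3
import Groth.Agent.Lib.Japanese2_helper9

/-!
# Geometrically reduced formal fibres, tested on finite domains (helper3)
APPEND-ONLY once landed.
-/

set_option autoImplicit false
universe u

namespace Groth.Agent.Lib.FFIffDomainsH3

open TensorProduct IsLocalRing

/-- a ring all of whose localizations at primes are reduced is reduced -/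
theorem isReduced_of_forall_localization (W : Type*) [CommRing W]
    (h : ∀ (Q : Ideal W) [Q.IsPrime], IsReduced (Localization.AtPrime Q)) : IsReduced W := by
  constructor
  intro x hx
  apply eq_zero_of_localization
  intro J hJ
  haveI := h J
  exact (hx.map (algebraMap W (Localization.AtPrime J))).eq_zero

section

variable (A : Type u) [CommRing A] [IsNoetherianRing A] [IsLocalRing A]

set_option maxSynthPendingDepth 3 in
theorem isReduced_tensor_of_domains
    (H : ∀ (B : Type u) [CommRing B] [IsDomain B] [Algebra A B] [Module.Finite A B]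
        (q : Ideal (B ⊗[A] EGA4.Cpl A)) [q.IsPrime],
        q.comap (algebraMap B (B ⊗[A] EGA4.Cpl A)) = ⊥ → IsReduced (Localization.AtPrime q))
    (p : Ideal A) [p.IsPrime] (k' : Type u) [Field k'] [Algebra p.ResidueField k']
    (hfin : Module.Finite p.ResidueField k') :
    IsReduced (k' ⊗[p.ResidueField] (p.ResidueField ⊗[A] EGA4.Cpl A)) := by
  letI : Algebra (A ⧸ p) k' :=
    ((algebraMap p.ResidueField k').comp (algebraMap (A ⧸ p) p.ResidueField)).toAlgebra
  haveI : IsScalarTower (A ⧸ p) p.ResidueField k' := IsScalarTower.of_algebraMap_eq (fun _ => rfl)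
  letI : Algebra A k' :=
    ((algebraMap p.ResidueField k').comp (algebraMap A p.ResidueField)).toAlgebra
  haveI : IsScalarTower A p.ResidueField k' := IsScalarTower.of_algebraMap_eq (fun _ => rfl)
  haveI : IsScalarTower A (A ⧸ p) k' := IsScalarTower.of_algebraMap_eq (fun a => by
    show algebraMap p.ResidueField k' (algebraMap A p.ResidueField a) =
      algebraMap p.ResidueField k' (algebraMap (A ⧸ p) p.ResidueField (algebraMap A (A ⧸ p) a))
    rw [← IsScalarTower.algebraMap_apply A (A ⧸ p) p.ResidueField])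
  haveI := hfin
  obtain ⟨s, b, hb⟩ := FiniteDimensional.exists_is_basis_integral (A ⧸ p) p.ResidueField k'
  obtain ⟨B, hB⟩ : ∃ B : Subalgebra (A ⧸ p) k', B = Algebra.adjoin (A ⧸ p) (Set.range b) :=
    ⟨_, rfl⟩
  have hfg : Module.Finite (A ⧸ p) B := by
    rw [hB]
    exact (Module.Finite.iff_fg
      (N := (Algebra.adjoin (A ⧸ p) (Set.range b)).toSubmodule)).mpr
      (fg_adjoin_of_finite (Set.finite_range b) (by rintro _ ⟨i, rfl⟩; exact hb i))
  haveI : IsFractionRing B k' :=
    Groth.Agent.Lib.Japanese.isFractionRing_of_basis_mem (A ⧸ p) p.ResidueField k' b B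
      (fun i => by rw [hB]; exact Algebra.subset_adjoin ⟨i, rfl⟩)
  haveI : IsScalarTower A (A ⧸ p) B := IsScalarTower.of_algebraMap_eq (fun a => by
    apply Subtype.ext
    exact IsScalarTower.algebraMap_apply A (A ⧸ p) k' a)
  haveI : IsScalarTower A B k' := IsScalarTower.of_algebraMap_eq (fun a => rfl)
  haveI : Module.Finite A B := Module.Finite.trans (A ⧸ p) B
  -- `W = T ⊗[B] k'` is a localization of `T = B ⊗[A] Â`
  haveI hloc : IsLocalization
      (Algebra.algebraMapSubmonoid (B ⊗[A] EGA4.Cpl A) (nonZeroDivisors B))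
      ((B ⊗[A] EGA4.Cpl A) ⊗[B] k') := IsLocalization.tensor k' (nonZeroDivisors B)
  have hW : IsReduced ((B ⊗[A] EGA4.Cpl A) ⊗[B] k') := by
    apply isReduced_of_forall_localization
    intro Q hQ
    have e := Groth.Agent.Lib.NagataCritH3.atPrimeUnderEquiv (B ⊗[A] EGA4.Cpl A)
      (Algebra.algebraMapSubmonoid (B ⊗[A] EGA4.Cpl A) (nonZeroDivisors B))
      ((B ⊗[A] EGA4.Cpl A) ⊗[B] k') Q
    have hcomap : (Q.under (B ⊗[A] EGA4.Cpl A)).comap (algebraMap B (B ⊗[A] EGA4.Cpl A)) = ⊥ := by
      rw [eq_bot_iff]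
      intro x hx
      rw [Ideal.mem_bot]
      by_contra hx0
      have hxm : algebraMap B (B ⊗[A] EGA4.Cpl A) x ∈
          Algebra.algebraMapSubmonoid (B ⊗[A] EGA4.Cpl A) (nonZeroDivisors B) :=
        ⟨x, mem_nonZeroDivisors_of_ne_zero hx0, rfl⟩
      have hu := IsLocalization.map_units ((B ⊗[A] EGA4.Cpl A) ⊗[B] k') ⟨_, hxm⟩
      have hxQ : algebraMap (B ⊗[A] EGA4.Cpl A) ((B ⊗[A] EGA4.Cpl A) ⊗[B] k')
          (algebraMap B (B ⊗[A] EGA4.Cpl A) x) ∈ Q := hx
      exact hQ.ne_top (Ideal.eq_top_of_isUnit_mem _ hxQ hu)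
    haveI := H B (Q.under (B ⊗[A] EGA4.Cpl A)) hcomap
    exact isReduced_of_injective e.symm e.symm.injective
  haveI := hW
  have h1 : IsReduced (k' ⊗[B] (B ⊗[A] EGA4.Cpl A)) :=
    isReduced_of_injective (Algebra.TensorProduct.comm B k' (B ⊗[A] EGA4.Cpl A))
      (AlgEquiv.injective _)
  haveI := h1
  have h2 : IsReduced (k' ⊗[A] EGA4.Cpl A) :=
    isReduced_of_injective
      (Algebra.TensorProduct.cancelBaseChange A B B k' (EGA4.Cpl A)).symm (AlgEquiv.injective _)
  haveI := h2
  exact isReduced_of_injective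
    (Algebra.TensorProduct.cancelBaseChange A p.ResidueField p.ResidueField k' (EGA4.Cpl A))
    (AlgEquiv.injective _)

theorem hasGeomReducedFormalFibres_iff :
    EGA4.HasGeomReducedFormalFibres A ↔
      ∀ (B : Type u) [CommRing B] [IsDomain B] [Algebra A B] [Module.Finite A B]
        (q : Ideal (B ⊗[A] EGA4.Cpl A)) [q.IsPrime],
        q.comap (algebraMap B (B ⊗[A] EGA4.Cpl A)) = ⊥ → IsReduced (Localization.AtPrime q) := by
  constructor
  · intro hA B _ _ _ _ q _ _
    haveI : IsReduced (B ⊗[A] EGA4.Cpl A) := FFNagataH3.isReduced_tensor_completion A B hA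
    infer_instance
  · intro H p hp
    apply QENagataH3.isGeometricallyReduced_of_forall_finite
    intro k' _ _ hfin
    exact isReduced_tensor_of_domains A H p k' hfin

end

end Groth.Agent.Lib.FFIffDomainsH3
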