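import Mathlib
import Groth.Prelude.Def_EGA4b
import Groth.Agent.Lib.GeomNormal2_helper3
import Groth.Agent.Lib.RegHomBC_helper3
import Groth.Agent.Lib.NorLocus_helper3

/-!
# Geometric normality and separable algebraic extensions of the base field (helper3)

For `k'/k` separable algebraic and `A` a `k'`-algebra, `A` is geometrically normal over `k` iff it is
so over `k'` (no Noetherian hypothesis).
APPEND-ONLY once landed.
-/

set_option autoImplicit false
set_option maxSynthPendingDepth 3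
universe u

open TensorProduct

namespace Groth.Agent.Lib.GeomNormalSepH3

open Groth.Agent.Lib

/-- A localization of a normal ring is normal. -/
theorem isNormalRing_of_isLocalization (A : Type u) [CommRing A] (T : Submonoid A) (S : Type u)
    [CommRing S] [Algebra A S] [IsLocalization T S] (h : EGA4.IsNormalRing A) :
    EGA4.IsNormalRing S := by
  intro Q hQ
  have h1 : PrimeSpectrum.comap (algebraMap A S) ⟨Q, hQ⟩ ∈ EGA4.norLocus A :=
    h (PrimeSpectrum.comap (algebraMap A S) ⟨Q, hQ⟩).asIdeal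
  exact (NorLocusH3.mem_norLocus_under_iff A T S ⟨Q, hQ⟩).1 h1

/-- In a reduced ring of Krull dimension `0`, the residue field at a prime is the localization. -/
theorem isLocalization_atPrime_of_krullDimLE_zero (R F : Type*) [CommRing R] [Field F]
    [Algebra R F] [IsReduced R] [Ring.KrullDimLE 0 R]
    (hsurj : Function.Surjective (algebraMap R F))
    (𝔫 : Ideal R) [𝔫.IsPrime] (h𝔫 : 𝔫 = RingHom.ker (algebraMap R F)) :
    IsLocalization.AtPrime F 𝔫 := by
  have key : ∀ z ∈ 𝔫, ∃ s : 𝔫.primeCompl, (s : R) * z = 0 := by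
    intro z hz
    haveI : Ring.KrullDimLE 0 (Localization.AtPrime 𝔫) :=
      Ring.KrullDimLE.of_isLocalization 𝔫 (Ideal.mem_minimalPrimes_of_krullDimLE_zero 𝔫) _
    have hfield : IsField (Localization.AtPrime 𝔫) := Ring.KrullDimLE.isField_of_isReduced
    have hmax : IsLocalRing.maximalIdeal (Localization.AtPrime 𝔫) = ⊥ :=
      IsLocalRing.isField_iff_maximalIdeal_eq.1 hfield
    have h1 : algebraMap R (Localization.AtPrime 𝔫) z ∈
        IsLocalRing.maximalIdeal (Localization.AtPrime 𝔫) := by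
      rw [← Localization.AtPrime.map_eq_maximalIdeal]
      exact Ideal.mem_map_of_mem _ hz
    rw [hmax, Ideal.mem_bot] at h1
    exact (IsLocalization.map_eq_zero_iff 𝔫.primeCompl _ z).1 h1
  have hmem : ∀ r : R, algebraMap R F r = 0 → r ∈ 𝔫 := by
    intro r hr
    rw [h𝔫]
    exact RingHom.mem_ker.2 hr
  refine (isLocalization_iff _ _).2 ⟨?_, ?_, ?_⟩
  · intro y
    have : algebraMap R F y ≠ 0 := by
      intro h0
      exact y.2 (hmem _ h0)
    exact this.isUnit
  · intro z
    obtain ⟨r, rfl⟩ := hsurj z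
    exact ⟨(r, 1), by simp⟩
  · intro x y hxy
    have hz : x - y ∈ 𝔫 := by
      rw [h𝔫, RingHom.mem_ker, map_sub, hxy, sub_self]
    obtain ⟨s, hs⟩ := key _ hz
    exact ⟨s, by rw [← sub_eq_zero, ← mul_sub, hs]⟩

/-- `k' ⊗[k] K` is reduced for `k'/k` separable algebraic and `K` any field. -/
theorem isReduced_tensor_of_isSeparable (k k' K : Type u) [Field k] [Field k'] [Field K]
    [Algebra k k'] [Algebra k K] [Algebra.IsSeparable k k'] : IsReduced (k' ⊗[k] K) := by
  have h1 : IsReduced (K ⊗[k] k') := by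
    apply IsReduced.tensorProduct_of_flat_of_forall_fg
    intro B hB
    have hfield : IsField B := Subalgebra.isField_of_algebraic B
    letI := hfield.toField
    haveI : Algebra.IsSeparable k B := Algebra.isSeparable_tower_bot_of_isSeparable k B k'
    haveI : Algebra.FormallyUnramified k B := Algebra.FormallyUnramified.of_isSeparable k B
    haveI : Algebra.FiniteType k B := (Subalgebra.fg_iff_finiteType B).1 hB
    exact Algebra.FormallyUnramified.isReduced_of_field K (K ⊗[k] B)
  exact isReduced_of_injective (Algebra.TensorProduct.comm k k' K).toAlgHom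
    (Algebra.TensorProduct.comm k k' K).injective

/-- a ring integral over a field has Krull dimension `≤ 0`. -/
theorem krullDimLE_zero_of_isIntegral (F R : Type*) [Field F] [CommRing R] [Algebra F R]
    [Algebra.IsIntegral F R] : Ring.KrullDimLE 0 R := by
  refine Ring.KrullDimLE.mk₀ fun P hP => ?_
  haveI := hP
  apply Ideal.isMaximal_of_isIntegral_of_isMaximal_comap (R := F) P
  have : P.comap (algebraMap F R) = ⊥ := Ideal.eq_bot_of_prime _
  rw [this]
  exact Ideal.bot_isMaximal

/-- If `R` is a reduced `k`-algebra of Krull dimension `0` all of whose residue fields give normal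
rings after tensoring with `A`, then `A ⊗[k] R` is normal. -/
theorem isNormalRing_tensor_of_forall_quotient (k A R : Type u) [Field k] [CommRing A] [CommRing R]
    [Algebra k A] [Algebra k R] [IsReduced R] [Ring.KrullDimLE 0 R]
    (h : ∀ (𝔪 : Ideal R) [𝔪.IsMaximal], EGA4.IsNormalRing (A ⊗[k] (R ⧸ 𝔪))) :
    EGA4.IsNormalRing (A ⊗[k] R) := by
  intro P hP
  let ι : R →+* A ⊗[k] R := (Algebra.TensorProduct.includeRight : R →ₐ[k] A ⊗[k] R).toRingHom
  let 𝔪 : Ideal R := P.comap ι
  haveI : 𝔪.IsPrime := Ideal.comap_isPrime ι P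
  haveI : 𝔪.IsMaximal := inferInstance
  letI : Field (R ⧸ 𝔪) := Ideal.Quotient.field 𝔪
  haveI : IsLocalization.AtPrime (R ⧸ 𝔪) 𝔪 :=
    isLocalization_atPrime_of_krullDimLE_zero R (R ⧸ 𝔪) Ideal.Quotient.mk_surjective 𝔪
      (by rw [Ideal.Quotient.algebraMap_eq, Ideal.mk_ker])
  obtain ⟨alg, hloc, -⟩ := RegHomBCH3.exists_isLocalization_tensor k A R 𝔪.primeCompl (R ⧸ 𝔪)
  letI := alg
  haveI := hloc
  have hdisj : Disjoint
      (↑(𝔪.primeCompl.map (Algebra.TensorProduct.includeRight (R := k) (A := A))) :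
        Set (A ⊗[k] R)) (P : Set (A ⊗[k] R)) := by
    rw [Set.disjoint_left]
    rintro _ ⟨r, hr, rfl⟩ hrP
    exact hr hrP
  have hQprime := IsLocalization.isPrime_of_isPrime_disjoint
    (𝔪.primeCompl.map (Algebra.TensorProduct.includeRight (R := k) (A := A)))
    (A ⊗[k] (R ⧸ 𝔪)) P hP hdisj
  have hcomap := IsLocalization.under_map_of_isPrime_disjoint
    (𝔪.primeCompl.map (Algebra.TensorProduct.includeRight (R := k) (A := A)))
    (A ⊗[k] (R ⧸ 𝔪)) hP hdisj
  have h1 := (NorLocusH3.mem_norLocus_under_iff (A ⊗[k] R)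
    (𝔪.primeCompl.map (Algebra.TensorProduct.includeRight (R := k) (A := A)))
    (A ⊗[k] (R ⧸ 𝔪)) ⟨_, hQprime⟩).2 (h 𝔪 _)
  have h2 : PrimeSpectrum.comap (algebraMap (A ⊗[k] R) (A ⊗[k] (R ⧸ 𝔪)))
      ⟨_, hQprime⟩ = ⟨P, hP⟩ := PrimeSpectrum.ext hcomap
  rw [h2] at h1
  exact h1

section Main

variable (k k' A : Type u) [Field k] [Field k'] [Algebra k k'] [Algebra.IsSeparable k k']
  [CommRing A] [Algebra k' A] [Algebra k A] [IsScalarTower k k' A]

theorem forward (hA : EGA4.IsGeomNormal k A) : EGA4.IsGeomNormal k' A := by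
  intro K' _ _ hfin
  haveI := hfin
  letI : Algebra k K' := ((algebraMap k' K').comp (algebraMap k k')).toAlgebra
  haveI : IsScalarTower k k' K' := IsScalarTower.of_algebraMap_eq (fun x => rfl)
  haveI : Algebra.IsAlgebraic k k' := inferInstance
  haveI : Algebra.IsAlgebraic k' K' := inferInstance
  haveI : Algebra.IsAlgebraic k K' := Algebra.IsAlgebraic.trans k k' K'
  haveI : Algebra.IsIntegral k K' := inferInstance
  have h1 : EGA4.IsNormalRing (K' ⊗[k] A) := by
    apply GeomNormal2H3.isNormalRing_tensor_of_forall_fg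
    intro L hL
    obtain ⟨t, ht, rfl⟩ := IntermediateField.fg_def.1 hL
    haveI : Finite t := ht.to_subtype
    haveI : FiniteDimensional k (IntermediateField.adjoin k t) :=
      IntermediateField.finiteDimensional_adjoin (fun x _ => Algebra.IsIntegral.isIntegral x)
    exact hA _ inferInstance
  let μ : k' ⊗[k] K' →ₐ[k'] K' :=
    Algebra.TensorProduct.lift (Algebra.ofId k' K') (AlgHom.id k K') (fun _ _ => Commute.all _ _)
  letI : Algebra (k' ⊗[k] K') K' := μ.toRingHom.toAlgebra
  haveI : IsScalarTower k' (k' ⊗[k] K') K' :=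
    IsScalarTower.of_algebraMap_eq (fun x => (μ.commutes x).symm)
  have hsurj : Function.Surjective (algebraMap (k' ⊗[k] K') K') := fun b =>
    ⟨1 ⊗ₜ b, by
      show μ (1 ⊗ₜ b) = b
      simp [μ]⟩
  haveI : IsReduced (k' ⊗[k] K') := isReduced_tensor_of_isSeparable k k' K'
  haveI : Algebra.IsIntegral k' (k' ⊗[k] K') := inferInstance
  haveI : Ring.KrullDimLE 0 (k' ⊗[k] K') := krullDimLE_zero_of_isIntegral k' _
  let 𝔫 : Ideal (k' ⊗[k] K') := RingHom.ker (algebraMap (k' ⊗[k] K') K')
  haveI : 𝔫.IsPrime := RingHom.ker_isPrime _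
  haveI : IsLocalization.AtPrime K' 𝔫 :=
    isLocalization_atPrime_of_krullDimLE_zero _ _ hsurj 𝔫 rfl
  obtain ⟨alg, hloc, -⟩ :=
    RegHomBCH3.exists_isLocalization_tensor k' A (k' ⊗[k] K') 𝔫.primeCompl K'
  letI := alg
  haveI := hloc
  have h2 : EGA4.IsNormalRing (A ⊗[k'] (k' ⊗[k] K')) := by
    have e1 : A ⊗[k'] (k' ⊗[k] K') ≃+* A ⊗[k] K' :=
      (Algebra.TensorProduct.cancelBaseChange k k' A A K').toRingEquiv
    have e2 : A ⊗[k] K' ≃+* K' ⊗[k] A := (Algebra.TensorProduct.comm k A K').toRingEquiv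
    exact GeomNormalH3.isNormalRing_of_ringEquiv (e1.trans e2).symm h1
  have h3 : EGA4.IsNormalRing (A ⊗[k'] K') :=
    isNormalRing_of_isLocalization _
      (𝔫.primeCompl.map (Algebra.TensorProduct.includeRight (R := k') (A := A))) _ h2
  exact GeomNormalH3.isNormalRing_of_ringEquiv (Algebra.TensorProduct.comm k' A K').toRingEquiv h3

theorem backward (hA : EGA4.IsGeomNormal k' A) : EGA4.IsGeomNormal k A := by
  intro K _ _ hfin
  haveI := hfin
  haveI : IsReduced (k' ⊗[k] K) := isReduced_tensor_of_isSeparable k k' K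
  haveI : Algebra.IsIntegral k K := inferInstance
  haveI : Algebra.IsIntegral k' (k' ⊗[k] K) := inferInstance
  haveI : Ring.KrullDimLE 0 (k' ⊗[k] K) := krullDimLE_zero_of_isIntegral k' _
  have h2 : EGA4.IsNormalRing (A ⊗[k'] (k' ⊗[k] K)) := by
    apply isNormalRing_tensor_of_forall_quotient
    intro 𝔪 h𝔪
    letI : Field ((k' ⊗[k] K) ⧸ 𝔪) := Ideal.Quotient.field 𝔪
    have hfin' : Module.Finite k' ((k' ⊗[k] K) ⧸ 𝔪) := inferInstance
    have := hA ((k' ⊗[k] K) ⧸ 𝔪) hfin'
    exact GeomNormalH3.isNormalRing_of_ringEquiv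
      (Algebra.TensorProduct.comm k' _ A).toRingEquiv this
  have e1 : A ⊗[k'] (k' ⊗[k] K) ≃+* A ⊗[k] K :=
    (Algebra.TensorProduct.cancelBaseChange k k' A A K).toRingEquiv
  have e2 : A ⊗[k] K ≃+* K ⊗[k] A := (Algebra.TensorProduct.comm k A K).toRingEquiv
  exact GeomNormalH3.isNormalRing_of_ringEquiv (e1.trans e2) h2

theorem main : EGA4.IsGeomNormal k A ↔ EGA4.IsGeomNormal k' A :=
  ⟨forward k k' A, backward k k' A⟩

end Main

end Groth.Agent.Lib.GeomNormalSepH3
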