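import Mathlib
import Groth.Agent.Lib.FFTransfer_helper3
import Groth.Agent.Lib.ComplMapIso_helper3
import Groth.Agent.Lib.RegHomLocal_helper3
import Groth.Agent.Lib.GeomNormalSep_helper3
import Groth.Agent.Lib.FFIffDomains_helper3
import Groth.Agent.Lib.ComplReg_helper3

/-!
# Regularity (normality, reducedness) of `A → Â` for the `I`-adic completion (helper3)

If all local rings of the Noetherian ring `A` have geometrically regular (normal, reduced) formal
fibres then `A → Â` (`I`-adic completion) is flat with geometrically regular (normal, reduced)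
fibres.  Tools: transport along algebra isomorphisms, faithfully flat descent, and a local-global
principle over the maximal ideals of the target.
APPEND-ONLY once landed.
-/

set_option autoImplicit false
universe u

namespace Groth.Agent.Lib.IAdicRegularH3

open IsLocalRing TensorProduct

/-- flat with geometrically reduced fibres -/
def IsGRHom (R S : Type u) [CommRing R] [CommRing S] [Algebra R S] : Prop :=
  Module.Flat R S ∧
    ∀ (p : Ideal R) [p.IsPrime], Algebra.IsGeometricallyReduced p.ResidueField (p.Fiber S)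

section Transport

variable {R S S' : Type u} [CommRing R] [CommRing S] [CommRing S'] [Algebra R S] [Algebra R S']

theorem isRegularHom_of_algEquiv (e : S ≃ₐ[R] S') (h : CAlg.IsRegularHom R S) :
    CAlg.IsRegularHom R S' := by
  haveI := h.1
  refine ⟨Module.Flat.of_linearEquiv e.symm.toLinearEquiv, fun p hp => ?_⟩
  obtain ⟨hN, hG⟩ := h.2 p
  let eF : p.Fiber S ≃ₐ[p.ResidueField] p.Fiber S' :=
    Algebra.TensorProduct.congr AlgEquiv.refl e
  refine ⟨isNoetherianRing_of_ringEquiv _ eF.toRingEquiv, fun k' _ _ hfin => ?_⟩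
  haveI : IsRegularRing (k' ⊗[p.ResidueField] p.Fiber S) := hG k' hfin
  let e2 : k' ⊗[p.ResidueField] p.Fiber S ≃ₐ[k'] k' ⊗[p.ResidueField] p.Fiber S' :=
    Algebra.TensorProduct.congr (AlgEquiv.refl : k' ≃ₐ[k'] k') eF
  exact IsRegularRing.of_ringEquiv (R := k' ⊗[p.ResidueField] p.Fiber S) e2.toRingEquiv

theorem isNormalHom_of_algEquiv (e : S ≃ₐ[R] S') (h : EGA4.IsNormalHom R S) :
    EGA4.IsNormalHom R S' := by
  haveI := h.1
  refine ⟨Module.Flat.of_linearEquiv e.symm.toLinearEquiv, fun p hp k' _ _ hfin => ?_⟩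
  let eF : p.Fiber S ≃ₐ[p.ResidueField] p.Fiber S' :=
    Algebra.TensorProduct.congr AlgEquiv.refl e
  let e2 : k' ⊗[p.ResidueField] p.Fiber S ≃ₐ[k'] k' ⊗[p.ResidueField] p.Fiber S' :=
    Algebra.TensorProduct.congr (AlgEquiv.refl : k' ≃ₐ[k'] k') eF
  exact Groth.Agent.Lib.GeomNormalH3.isNormalRing_of_ringEquiv e2.toRingEquiv (h.2 p k' hfin)

theorem isGRHom_of_algEquiv (e : S ≃ₐ[R] S') (h : IsGRHom R S) : IsGRHom R S' := by
  haveI := h.1
  refine ⟨Module.Flat.of_linearEquiv e.symm.toLinearEquiv, fun p hp => ?_⟩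
  let eF : p.Fiber S ≃ₐ[p.ResidueField] p.Fiber S' :=
    Algebra.TensorProduct.congr AlgEquiv.refl e
  haveI := h.2 p
  exact Algebra.IsGeometricallyReduced.of_injective eF.symm.toAlgHom eF.symm.injective

end Transport

section Descent

variable (A B C : Type u) [CommRing A] [CommRing B] [CommRing C]
  [Algebra A B] [Algebra B C] [Algebra A C] [IsScalarTower A B C] [Module.FaithfullyFlat B C]

theorem isNormalHom_of_faithfullyFlat (h : EGA4.IsNormalHom A C) : EGA4.IsNormalHom A B := by
  haveI : Module.Flat A C := h.1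
  refine ⟨Groth.Agent.Lib.RegHomBCH3.flat_of_faithfullyFlat_comp A B C,
    fun p hp k' _ _ hfin => ?_⟩
  letI : Algebra A k' :=
    ((algebraMap p.ResidueField k').comp (algebraMap A p.ResidueField)).toAlgebra
  haveI : IsScalarTower A p.ResidueField k' := IsScalarTower.of_algebraMap_eq fun _ => rfl
  have h3 : EGA4.IsNormalRing (k' ⊗[A] C) :=
    Groth.Agent.Lib.GeomNormalH3.isNormalRing_of_ringEquiv
      (Algebra.TensorProduct.cancelBaseChange A p.ResidueField k' k' C).toRingEquiv
      (h.2 p k' hfin)
  have h4 := Groth.Agent.Lib.FFTransferH3.descent_isNormalRing A B C k' h3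
  exact Groth.Agent.Lib.GeomNormalH3.isNormalRing_of_ringEquiv
    (Algebra.TensorProduct.cancelBaseChange A p.ResidueField k' k' B).symm.toRingEquiv h4

theorem isGRHom_of_faithfullyFlat (h : IsGRHom A C) : IsGRHom A B := by
  haveI : Module.Flat A C := h.1
  refine ⟨Groth.Agent.Lib.RegHomBCH3.flat_of_faithfullyFlat_comp A B C, fun p hp => ?_⟩
  apply Groth.Agent.Lib.QENagataH3.isGeometricallyReduced_of_forall_finite
  intro k' _ _ hfin
  haveI := hfin
  letI : Algebra A k' :=
    ((algebraMap p.ResidueField k').comp (algebraMap A p.ResidueField)).toAlgebra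
  haveI : IsScalarTower A p.ResidueField k' := IsScalarTower.of_algebraMap_eq fun _ => rfl
  haveI : Algebra.IsAlgebraic p.ResidueField k' := Algebra.IsAlgebraic.of_finite _ _
  haveI := h.2 p
  have h2 : IsReduced (k' ⊗[p.ResidueField] p.Fiber C) := inferInstance
  have h3 : IsReduced (k' ⊗[A] C) :=
    Groth.Agent.Lib.FFTransferH3.isReduced_of_ringEquiv
      (Algebra.TensorProduct.cancelBaseChange A p.ResidueField k' k' C).toRingEquiv h2
  have h4 := Groth.Agent.Lib.FFTransferH3.descent_isReduced A B C k' h3
  exact Groth.Agent.Lib.FFTransferH3.isReduced_of_ringEquiv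
    (Algebra.TensorProduct.cancelBaseChange A p.ResidueField k' k' B).symm.toRingEquiv h4

end Descent

section P3

/-- Normality of a `Λ`-algebra can be checked after localizing at the maximal ideals of `Λ`. -/
theorem isNormalRing_of_forall_maximal_localization (Λ T : Type u) [CommRing Λ] [CommRing T]
    [Algebra Λ T]
    (h : ∀ (n : Ideal Λ) [n.IsMaximal],
      EGA4.IsNormalRing (Localization (Algebra.algebraMapSubmonoid T n.primeCompl))) :
    EGA4.IsNormalRing T := by
  intro Q hQ
  let q : Ideal Λ := Q.comap (algebraMap Λ T)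
  have hq : q ≠ ⊤ := Ideal.comap_ne_top _ hQ.ne_top
  obtain ⟨n, hn, hqn⟩ := Ideal.exists_le_maximal q hq
  haveI := hn
  obtain ⟨M, hM⟩ : ∃ M : Submonoid T, M = Algebra.algebraMapSubmonoid T n.primeCompl := ⟨_, rfl⟩
  have hdisj : Disjoint (M : Set T) (Q : Set T) := by
    rw [Set.disjoint_left, hM]
    rintro _ ⟨s, hs, rfl⟩ hmem
    exact hs (hqn hmem)
  haveI hQ' : (Q.map (algebraMap T (Localization M))).IsPrime :=
    IsLocalization.isPrime_of_isPrime_disjoint M _ Q hQ hdisj
  have hcomap : (Q.map (algebraMap T (Localization M))).comap (algebraMap T (Localization M)) = Q :=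
    IsLocalization.comap_map_of_isPrime_disjoint M _ hQ hdisj
  have hnorm : EGA4.IsNormalRing (Localization M) := by rw [hM]; exact h n
  have h1 : (⟨Q.map (algebraMap T (Localization M)), hQ'⟩ : PrimeSpectrum (Localization M)) ∈
      EGA4.norLocus (Localization M) := hnorm _
  have h2 := (Groth.Agent.Lib.NorLocusH3.mem_norLocus_under_iff T M (Localization M)
    ⟨Q.map (algebraMap T (Localization M)), hQ'⟩).2 h1
  have tr : ∀ (r : Ideal T) [r.IsPrime], r = Q →
      (IsDomain (Localization.AtPrime r) ∧ IsIntegrallyClosed (Localization.AtPrime r)) →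
      (IsDomain (Localization.AtPrime Q) ∧ IsIntegrallyClosed (Localization.AtPrime Q)) := by
    intro r _ e h
    subst e
    exact h
  exact tr _ hcomap h2

/-- Reducedness of a `Λ`-algebra can be checked after localizing at the maximal ideals of `Λ`. -/
theorem isReduced_of_forall_maximal_localization (Λ T : Type u) [CommRing Λ] [CommRing T]
    [Algebra Λ T]
    (h : ∀ (n : Ideal Λ) [n.IsMaximal],
      IsReduced (Localization (Algebra.algebraMapSubmonoid T n.primeCompl))) :
    IsReduced T := by
  constructor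
  intro x hx
  let Ann : Ideal Λ := (Ideal.span {x}).annihilator.comap (algebraMap Λ T)
  by_contra hx0
  have hAnn : Ann ≠ ⊤ := by
    intro htop
    have h1 : (1 : Λ) ∈ Ann := htop ▸ Submodule.mem_top
    have h2 : algebraMap Λ T 1 ∈ (Ideal.span {x}).annihilator := h1
    rw [map_one, Submodule.mem_annihilator_span_singleton, one_smul] at h2
    exact hx0 h2
  obtain ⟨n, hn, hle⟩ := Ideal.exists_le_maximal Ann hAnn
  haveI := hn
  haveI := h n
  have h0 : algebraMap T (Localization (Algebra.algebraMapSubmonoid T n.primeCompl)) x = 0 :=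
    (hx.map _).eq_zero
  rw [IsLocalization.map_eq_zero_iff (Algebra.algebraMapSubmonoid T n.primeCompl)] at h0
  obtain ⟨⟨_, s, hs, rfl⟩, hm⟩ := h0
  apply hs
  apply hle
  show algebraMap Λ T s ∈ (Ideal.span {x}).annihilator
  rw [Submodule.mem_annihilator_span_singleton]
  exact hm

end P3

section LG

variable (R Λ : Type u) [CommRing R] [CommRing Λ] [Algebra R Λ]

/-- A local-global principle for properties of `K ⊗[R] Λ` over the maximal ideals of `Λ`. -/
theorem tensor_of_forall_maximal (P : ∀ (X : Type u) [CommRing X], Prop)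
    (P0 : ∀ (X : Type u) [CommRing X], Subsingleton X → P X)
    (P1 : ∀ (X Y : Type u) [CommRing X] [CommRing Y], (X ≃+* Y) → P X → P Y)
    (P3 : ∀ (Λ T : Type u) [CommRing Λ] [CommRing T] [Algebra Λ T],
      (∀ (n : Ideal Λ) [n.IsMaximal],
        P (Localization (Algebra.algebraMapSubmonoid T n.primeCompl))) → P T)
    (K : Type u) [Field K] [Algebra R K]
    (Hloc : ∀ (n : Ideal Λ) [n.IsMaximal],
      letI := (Localization.localRingHom (Ideal.comap (algebraMap R Λ) n) n
        (algebraMap R Λ) rfl).toAlgebra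
      ∀ [Algebra (Localization.AtPrime (Ideal.comap (algebraMap R Λ) n)) K]
        [IsScalarTower R (Localization.AtPrime (Ideal.comap (algebraMap R Λ) n)) K],
        P (K ⊗[Localization.AtPrime (Ideal.comap (algebraMap R Λ) n)] Localization.AtPrime n)) :
    P (K ⊗[R] Λ) := by
  letI algT : Algebra Λ (K ⊗[R] Λ) := Algebra.TensorProduct.rightAlgebra
  apply P3 Λ (K ⊗[R] Λ)
  intro n hn
  letI algn := (Localization.localRingHom (Ideal.comap (algebraMap R Λ) n) n
      (algebraMap R Λ) rfl).toAlgebra
  haveI := Groth.Agent.Lib.RegHomLocalH3.isScalarTower_localRingHom R Λ n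
  set pn := Ideal.comap (algebraMap R Λ) n with hpn
  obtain ⟨alg, hloc, -⟩ := Groth.Agent.Lib.RegHomBCH3.exists_isLocalization_tensor R K Λ
    n.primeCompl (Localization.AtPrime n)
  letI := alg
  haveI hloc' : IsLocalization (Algebra.algebraMapSubmonoid (K ⊗[R] Λ) n.primeCompl)
      (K ⊗[R] Localization.AtPrime n) := hloc
  suffices hP : P (K ⊗[R] Localization.AtPrime n) from
    P1 _ _ (IsLocalization.algEquiv (Algebra.algebraMapSubmonoid (K ⊗[R] Λ) n.primeCompl)
      (K ⊗[R] Localization.AtPrime n)
      (Localization (Algebra.algebraMapSubmonoid (K ⊗[R] Λ) n.primeCompl))).toRingEquiv hP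
  by_cases hs : ∃ s ∈ pn.primeCompl, algebraMap R K s = 0
  · obtain ⟨s, hs, hs0⟩ := hs
    apply P0
    have hu : IsUnit (algebraMap R (Localization.AtPrime n) s) := by
      rw [IsScalarTower.algebraMap_apply R Λ (Localization.AtPrime n)]
      exact IsLocalization.map_units (Localization.AtPrime n) (⟨algebraMap R Λ s, hs⟩ : n.primeCompl)
    obtain ⟨u, hu⟩ := hu
    have h1 : (1 : K ⊗[R] Localization.AtPrime n) = 0 := by
      have e1 : (1 : Localization.AtPrime n) = s • (↑u⁻¹ : Localization.AtPrime n) := by
        rw [Algebra.smul_def, ← hu, Units.mul_inv]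
      calc (1 : K ⊗[R] Localization.AtPrime n)
          = (1 : K) ⊗ₜ[R] (1 : Localization.AtPrime n) := Algebra.TensorProduct.one_def
        _ = (1 : K) ⊗ₜ[R] (s • (↑u⁻¹ : Localization.AtPrime n)) := by rw [← e1]
        _ = (s • (1 : K)) ⊗ₜ[R] (↑u⁻¹ : Localization.AtPrime n) :=
            (TensorProduct.smul_tmul s 1 _).symm
        _ = 0 := by rw [Algebra.smul_def, mul_one, hs0, TensorProduct.zero_tmul]
    exact subsingleton_of_zero_eq_one h1.symm
  · push Not at hs
    letI algK : Algebra (Localization.AtPrime pn) K :=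
      (IsLocalization.lift (M := pn.primeCompl) (g := algebraMap R K)
        (fun s => isUnit_iff_ne_zero.2 (hs s.1 s.2))).toAlgebra
    haveI : IsScalarTower R (Localization.AtPrime pn) K :=
      IsScalarTower.of_algebraMap_eq fun x => (IsLocalization.lift_eq _ x).symm
    let e : K ⊗[Localization.AtPrime pn] Localization.AtPrime n ≃ₐ[Localization.AtPrime pn]
        K ⊗[R] Localization.AtPrime n :=
      IsLocalization.algebraTensorEquiv pn.primeCompl (Localization.AtPrime pn) K
        (Localization.AtPrime n)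
    exact P1 _ _ e.toRingEquiv (Hloc n)

end LG


section Alg

/-- Algebraicity over the residue field of a prime of a larger ring. -/
theorem isAlgebraic_residueField (R : Type u) [CommRing R] (p : Ideal R) [p.IsPrime]
    (R' : Type u) [CommRing R'] [Algebra R R'] (p' : Ideal R') [p'.IsPrime]
    (K : Type u) [Field K] [Algebra R K] [Algebra R' K] [IsScalarTower R R' K]
    [Algebra p.ResidueField K] [IsScalarTower R p.ResidueField K]
    [Algebra p'.ResidueField K] [IsScalarTower R' p'.ResidueField K]
    [Algebra.IsAlgebraic p.ResidueField K] : Algebra.IsAlgebraic p'.ResidueField K := by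
  have hR : ∀ a : R, algebraMap R K a ∈ Set.range (algebraMap p'.ResidueField K) := by
    intro a
    refine ⟨algebraMap R' p'.ResidueField (algebraMap R R' a), ?_⟩
    rw [← IsScalarTower.algebraMap_apply R' p'.ResidueField K,
      ← IsScalarTower.algebraMap_apply R R' K]
  have hrange : ∀ c : p.ResidueField,
      algebraMap p.ResidueField K c ∈ Set.range (algebraMap p'.ResidueField K) := by
    intro c
    obtain ⟨a, s, -, rfl⟩ := IsFractionRing.div_surjective (A := R ⧸ p) c
    obtain ⟨a, rfl⟩ := Ideal.Quotient.mk_surjective a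
    obtain ⟨s, rfl⟩ := Ideal.Quotient.mk_surjective s
    have e : ∀ t : R, algebraMap p.ResidueField K
        (algebraMap (R ⧸ p) p.ResidueField (Ideal.Quotient.mk p t)) = algebraMap R K t := by
      intro t
      rw [← Ideal.Quotient.algebraMap_eq, ← IsScalarTower.algebraMap_apply R (R ⧸ p) p.ResidueField,
        ← IsScalarTower.algebraMap_apply R p.ResidueField K]
    obtain ⟨a', ha'⟩ := hR a
    obtain ⟨s', hs'⟩ := hR s
    refine ⟨a' / s', ?_⟩
    rw [map_div₀, map_div₀, e, e, ha', hs']
  constructor
  intro x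
  have hx : IsIntegral p.ResidueField x := (Algebra.IsAlgebraic.isAlgebraic x).isIntegral
  obtain ⟨f, hf, hfx⟩ := hx
  have hl : f.map (algebraMap p.ResidueField K) ∈
      Polynomial.lifts (algebraMap p'.ResidueField K) := by
    rw [Polynomial.lifts_iff_coeff_lifts]
    intro n
    rw [Polynomial.coeff_map]
    exact hrange _
  obtain ⟨g, hg1, -, hg3⟩ := Polynomial.lifts_and_degree_eq_and_monic hl (hf.map _)
  refine IsIntegral.isAlgebraic ⟨g, hg3, ?_⟩
  rw [← Polynomial.eval_map, hg1, Polynomial.eval_map]
  exact hfx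

end Alg

section HomLG

variable (R Λ : Type u) [CommRing R] [CommRing Λ] [Algebra R Λ]

theorem flat_of_forall_maximal
    (H : ∀ (n : Ideal Λ) [n.IsMaximal],
      letI := (Localization.localRingHom (Ideal.comap (algebraMap R Λ) n) n
        (algebraMap R Λ) rfl).toAlgebra
      Module.Flat (Localization.AtPrime (Ideal.comap (algebraMap R Λ) n))
        (Localization.AtPrime n)) : Module.Flat R Λ := by
  refine Module.flat_of_isLocalized_maximal Λ Λ (fun P _ => Localization.AtPrime P)
    (fun P _ => Algebra.linearMap Λ (Localization.AtPrime P)) ?_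
  intro n hn
  letI := (Localization.localRingHom (Ideal.comap (algebraMap R Λ) n) n
    (algebraMap R Λ) rfl).toAlgebra
  haveI := Groth.Agent.Lib.RegHomLocalH3.isScalarTower_localRingHom R Λ n
  haveI : Module.Flat (Localization.AtPrime (Ideal.comap (algebraMap R Λ) n))
      (Localization.AtPrime n) := H n
  exact Module.Flat.trans R (Localization.AtPrime (Ideal.comap (algebraMap R Λ) n)) _

theorem isNormalHom_of_forall_maximal [IsNoetherianRing Λ]
    (H : ∀ (n : Ideal Λ) [n.IsMaximal],
      letI := (Localization.localRingHom (Ideal.comap (algebraMap R Λ) n) n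
        (algebraMap R Λ) rfl).toAlgebra
      EGA4.IsNormalHom (Localization.AtPrime (Ideal.comap (algebraMap R Λ) n))
        (Localization.AtPrime n)) : EGA4.IsNormalHom R Λ := by
  refine ⟨flat_of_forall_maximal R Λ (fun n hn => (H n).1), fun p hp k' _ _ hfin => ?_⟩
  letI : Algebra R k' :=
    ((algebraMap p.ResidueField k').comp (algebraMap R p.ResidueField)).toAlgebra
  haveI : IsScalarTower R p.ResidueField k' := IsScalarTower.of_algebraMap_eq fun _ => rfl
  have h1 : EGA4.IsNormalRing (k' ⊗[R] Λ) := by
    apply tensor_of_forall_maximal R Λ (fun (X : Type u) [CommRing X] => EGA4.IsNormalRing X)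
      (fun X _ hX Q hQ => absurd ((Ideal.eq_top_iff_one Q).2
        (by rw [Subsingleton.elim (1 : X) 0]; exact Q.zero_mem)) hQ.ne_top)
      (fun _ _ _ _ e h => Groth.Agent.Lib.GeomNormalH3.isNormalRing_of_ringEquiv e h)
      (fun Λ' T _ _ _ h => isNormalRing_of_forall_maximal_localization Λ' T h) k'
    intro n hn
    letI := (Localization.localRingHom (Ideal.comap (algebraMap R Λ) n) n
      (algebraMap R Λ) rfl).toAlgebra
    intro algK tower
    haveI : IsNoetherianRing (Localization.AtPrime n) :=
      IsLocalization.isNoetherianRing n.primeCompl _ inferInstance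
    exact Groth.Agent.Lib.GeomNormal2H3.isNormalRing_tensor_of_isNormalHom' _ _ (H n) k'
  exact Groth.Agent.Lib.GeomNormalH3.isNormalRing_of_ringEquiv
    (Algebra.TensorProduct.cancelBaseChange R p.ResidueField k' k' Λ).symm.toRingEquiv h1

theorem isGRHom_of_forall_maximal [IsNoetherianRing Λ]
    (H : ∀ (n : Ideal Λ) [n.IsMaximal],
      letI := (Localization.localRingHom (Ideal.comap (algebraMap R Λ) n) n
        (algebraMap R Λ) rfl).toAlgebra
      IsGRHom (Localization.AtPrime (Ideal.comap (algebraMap R Λ) n))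
        (Localization.AtPrime n)) : IsGRHom R Λ := by
  refine ⟨flat_of_forall_maximal R Λ (fun n hn => (H n).1), fun p hp => ?_⟩
  apply Groth.Agent.Lib.QENagataH3.isGeometricallyReduced_of_forall_finite
  intro k' _ _ hfin
  haveI := hfin
  letI : Algebra R k' :=
    ((algebraMap p.ResidueField k').comp (algebraMap R p.ResidueField)).toAlgebra
  haveI : IsScalarTower R p.ResidueField k' := IsScalarTower.of_algebraMap_eq fun _ => rfl
  haveI : Algebra.IsAlgebraic p.ResidueField k' := Algebra.IsAlgebraic.of_finite _ _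
  have h1 : IsReduced (k' ⊗[R] Λ) := by
    apply tensor_of_forall_maximal R Λ (fun (X : Type u) [CommRing X] => IsReduced X)
      (fun X _ hX => ⟨fun x _ => Subsingleton.elim x 0⟩)
      (fun _ _ _ _ e h => Groth.Agent.Lib.FFTransferH3.isReduced_of_ringEquiv e h)
      (fun Λ' T _ _ _ h => isReduced_of_forall_maximal_localization Λ' T h) k'
    intro n hn
    letI := (Localization.localRingHom (Ideal.comap (algebraMap R Λ) n) n
      (algebraMap R Λ) rfl).toAlgebra
    intro algK tower
    obtain ⟨p', hp', alg', tower'⟩ := Groth.Agent.Lib.RegHomBCH3.exists_algebra_residueField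
      (Localization.AtPrime (Ideal.comap (algebraMap R Λ) n)) k'
    letI := alg'
    haveI := tower'
    haveI := hp'
    haveI : Algebra.IsAlgebraic p'.ResidueField k' :=
      isAlgebraic_residueField R p (Localization.AtPrime (Ideal.comap (algebraMap R Λ) n)) p' k'
    haveI := (H n).2 p'
    have h2 : IsReduced (k' ⊗[p'.ResidueField] p'.Fiber (Localization.AtPrime n)) := inferInstance
    exact Groth.Agent.Lib.FFTransferH3.isReduced_of_ringEquiv
      (Algebra.TensorProduct.cancelBaseChange (Localization.AtPrime (Ideal.comap (algebraMap R Λ) n))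
        p'.ResidueField k' k' (Localization.AtPrime n)).toRingEquiv h2
  exact Groth.Agent.Lib.FFTransferH3.isReduced_of_ringEquiv
    (Algebra.TensorProduct.cancelBaseChange R p.ResidueField k' k' Λ).symm.toRingEquiv h1

end HomLG


section Compl

variable (A : Type u) [CommRing A] [IsNoetherianRing A] (I : Ideal A)

theorem exists_sub_mem (b : AdicCompletion I A) :
    ∃ a : A, b - algebraMap A (AdicCompletion I A) a ∈
      I.map (algebraMap A (AdicCompletion I A)) := by
  obtain ⟨a, ha⟩ := Groth.Agent.Lib.ComplFlatH3.exists_sub_mem_pow I (IsNoetherian.noetherian I) 1 b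
  exact ⟨a, by rwa [pow_one] at ha⟩

variable (𝔫 : Ideal (AdicCompletion I A)) [h𝔫 : 𝔫.IsMaximal]

theorem map_le : I.map (algebraMap A (AdicCompletion I A)) ≤ 𝔫 := by
  haveI := AdicCompletion.isAdicComplete_self I (IsNoetherian.noetherian I)
  exact (IsAdicComplete.le_jacobson_bot _).trans (sInf_le ⟨bot_le, h𝔫⟩)

theorem exists_sub_mem' (b : AdicCompletion I A) :
    ∃ a : A, b - algebraMap A (AdicCompletion I A) a ∈ 𝔫 :=
  (exists_sub_mem A I b).imp fun _ h => map_le A I 𝔫 h

theorem comap_isMaximal : (𝔫.comap (algebraMap A (AdicCompletion I A))).IsMaximal := by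
  have hsurj : Function.Surjective
      ((Ideal.Quotient.mk 𝔫).comp (algebraMap A (AdicCompletion I A))) := by
    intro y
    obtain ⟨b, rfl⟩ := Ideal.Quotient.mk_surjective y
    obtain ⟨a, ha⟩ := exists_sub_mem' A I 𝔫 b
    refine ⟨a, ?_⟩
    rw [RingHom.comp_apply, Ideal.Quotient.eq, ← Ideal.neg_mem_iff, neg_sub]
    exact ha
  letI := Ideal.Quotient.field 𝔫
  have h1 := Ideal.comap_isMaximal_of_surjective _ hsurj (K := ⊥)
  rw [← Ideal.comap_comap, ← RingHom.ker_eq_comap_bot, Ideal.mk_ker] at h1
  exact h1

theorem map_comap_eq :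
    (𝔫.comap (algebraMap A (AdicCompletion I A))).map (algebraMap A (AdicCompletion I A)) = 𝔫 := by
  haveI := comap_isMaximal A I 𝔫
  have hI : I ≤ 𝔫.comap (algebraMap A (AdicCompletion I A)) :=
    fun x hx => map_le A I 𝔫 (Ideal.mem_map_of_mem _ hx)
  have hmax := AdicCompletion.isMaximal_map_of_le I (𝔫.comap (algebraMap A (AdicCompletion I A)))
    hI (IsNoetherian.noetherian I)
  exact hmax.eq_of_le h𝔫.ne_top Ideal.map_comap_le

theorem local_facts :
    letI := (Localization.localRingHom (𝔫.comap (algebraMap A (AdicCompletion I A))) 𝔫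
      (algebraMap A (AdicCompletion I A)) rfl).toAlgebra
    (maximalIdeal (Localization.AtPrime (𝔫.comap (algebraMap A (AdicCompletion I A))))).map
        (algebraMap (Localization.AtPrime (𝔫.comap (algebraMap A (AdicCompletion I A))))
          (Localization.AtPrime 𝔫)) = maximalIdeal (Localization.AtPrime 𝔫) ∧
      ∀ y : Localization.AtPrime 𝔫,
        ∃ x : Localization.AtPrime (𝔫.comap (algebraMap A (AdicCompletion I A))),
          y - algebraMap _ (Localization.AtPrime 𝔫) x ∈ maximalIdeal (Localization.AtPrime 𝔫) := by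
  letI := (Localization.localRingHom (𝔫.comap (algebraMap A (AdicCompletion I A))) 𝔫
      (algebraMap A (AdicCompletion I A)) rfl).toAlgebra
  haveI := Groth.Agent.Lib.RegHomLocalH3.isScalarTower_localRingHom A (AdicCompletion I A) 𝔫
  obtain ⟨𝔪, h𝔪⟩ : ∃ 𝔪 : Ideal A, 𝔪 = 𝔫.comap (algebraMap A (AdicCompletion I A)) := ⟨_, rfl⟩
  constructor
  · rw [← Localization.AtPrime.map_eq_maximalIdeal, Ideal.map_map,
      ← IsScalarTower.algebraMap_eq A (Localization.AtPrime
        (𝔫.comap (algebraMap A (AdicCompletion I A)))) (Localization.AtPrime 𝔫),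
      IsScalarTower.algebraMap_eq A (AdicCompletion I A) (Localization.AtPrime 𝔫),
      ← Ideal.map_map, map_comap_eq, Localization.AtPrime.map_eq_maximalIdeal]
  · intro y
    obtain ⟨b, s, rfl⟩ := IsLocalization.exists_mk'_eq 𝔫.primeCompl y
    obtain ⟨a, ha⟩ := exists_sub_mem' A I 𝔫 b
    obtain ⟨t, ht⟩ := exists_sub_mem' A I 𝔫 (s : AdicCompletion I A)
    have ht𝔪 : t ∈ (𝔫.comap (algebraMap A (AdicCompletion I A))).primeCompl := by
      intro h
      have h1 : algebraMap A (AdicCompletion I A) t ∈ 𝔫 := h
      apply s.2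
      have h2 : (s : AdicCompletion I A) =
          ((s : AdicCompletion I A) - algebraMap A (AdicCompletion I A) t) +
            algebraMap A (AdicCompletion I A) t := by ring
      rw [h2]
      exact 𝔫.add_mem ht h1
    refine ⟨IsLocalization.mk' _ a ⟨t, ht𝔪⟩, ?_⟩
    -- multiply by the unit `s * t`
    have hus : IsUnit (algebraMap (AdicCompletion I A) (Localization.AtPrime 𝔫)
        (s : AdicCompletion I A)) := IsLocalization.map_units _ s
    have hut : IsUnit (algebraMap (AdicCompletion I A) (Localization.AtPrime 𝔫)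
        (algebraMap A (AdicCompletion I A) t)) :=
      IsLocalization.map_units (Localization.AtPrime 𝔫)
        (⟨algebraMap A (AdicCompletion I A) t, ht𝔪⟩ : 𝔫.primeCompl)
    rw [← Ideal.mul_unit_mem_iff_mem _ (hus.mul hut)]
    have e1 : IsLocalization.mk' (Localization.AtPrime 𝔫) b s *
        algebraMap (AdicCompletion I A) (Localization.AtPrime 𝔫) (s : AdicCompletion I A) =
        algebraMap (AdicCompletion I A) (Localization.AtPrime 𝔫) b :=
      IsLocalization.mk'_spec _ b s
    have e2 : algebraMap (Localization.AtPrime (𝔫.comap (algebraMap A (AdicCompletion I A))))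
        (Localization.AtPrime 𝔫) (IsLocalization.mk' _ a ⟨t, ht𝔪⟩) *
        algebraMap (AdicCompletion I A) (Localization.AtPrime 𝔫)
          (algebraMap A (AdicCompletion I A) t) =
        algebraMap (AdicCompletion I A) (Localization.AtPrime 𝔫)
          (algebraMap A (AdicCompletion I A) a) := by
      rw [← IsScalarTower.algebraMap_apply A (AdicCompletion I A) (Localization.AtPrime 𝔫),
        ← IsScalarTower.algebraMap_apply A (AdicCompletion I A) (Localization.AtPrime 𝔫),
        IsScalarTower.algebraMap_apply A (Localization.AtPrime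
          (𝔫.comap (algebraMap A (AdicCompletion I A)))) (Localization.AtPrime 𝔫) t,
        IsScalarTower.algebraMap_apply A (Localization.AtPrime
          (𝔫.comap (algebraMap A (AdicCompletion I A)))) (Localization.AtPrime 𝔫) a,
        ← map_mul]
      congr 1
      exact IsLocalization.mk'_spec _ a (⟨t, ht𝔪⟩ : (𝔫.comap
        (algebraMap A (AdicCompletion I A))).primeCompl)
    have e3 : (IsLocalization.mk' (Localization.AtPrime 𝔫) b s -
        algebraMap (Localization.AtPrime (𝔫.comap (algebraMap A (AdicCompletion I A))))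
          (Localization.AtPrime 𝔫) (IsLocalization.mk' _ a ⟨t, ht𝔪⟩)) *
        (algebraMap (AdicCompletion I A) (Localization.AtPrime 𝔫) (s : AdicCompletion I A) *
          algebraMap (AdicCompletion I A) (Localization.AtPrime 𝔫)
            (algebraMap A (AdicCompletion I A) t)) =
        algebraMap (AdicCompletion I A) (Localization.AtPrime 𝔫)
          (b * algebraMap A (AdicCompletion I A) t -
            algebraMap A (AdicCompletion I A) a * (s : AdicCompletion I A)) := by
      rw [map_sub, map_mul, map_mul, ← e1, ← e2]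
      ring
    rw [e3, IsLocalization.AtPrime.to_map_mem_maximal_iff (Localization.AtPrime 𝔫) 𝔫]
    have e4 : b * algebraMap A (AdicCompletion I A) t -
        algebraMap A (AdicCompletion I A) a * (s : AdicCompletion I A) =
        (b - algebraMap A (AdicCompletion I A) a) * (s : AdicCompletion I A) -
          b * ((s : AdicCompletion I A) - algebraMap A (AdicCompletion I A) t) := by ring
    rw [e4]
    exact 𝔫.sub_mem (𝔫.mul_mem_right _ ha) (𝔫.mul_mem_left _ ht)

/-- The local transfer: a property of `A_𝔪 → (A_𝔪)^` stable under isomorphism and faithfully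
flat descent passes to `A_𝔪 → Â_𝔫`. -/
theorem local_transfer
    (Q : ∀ (X Y : Type u) [CommRing X] [CommRing Y] [Algebra X Y], Prop)
    (Qequiv : ∀ (X Y Y' : Type u) [CommRing X] [CommRing Y] [CommRing Y'] [Algebra X Y]
      [Algebra X Y'], (Y ≃ₐ[X] Y') → Q X Y → Q X Y')
    (Qdesc : ∀ (X Y Z : Type u) [CommRing X] [CommRing Y] [CommRing Z] [Algebra X Y]
      [Algebra Y Z] [Algebra X Z] [IsScalarTower X Y Z] [Module.FaithfullyFlat Y Z],
      Q X Z → Q X Y)
    (h : Q (Localization.AtPrime (𝔫.comap (algebraMap A (AdicCompletion I A))))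
      (EGA4.Cpl (Localization.AtPrime (𝔫.comap (algebraMap A (AdicCompletion I A)))))) :
    letI := (Localization.localRingHom (𝔫.comap (algebraMap A (AdicCompletion I A))) 𝔫
      (algebraMap A (AdicCompletion I A)) rfl).toAlgebra
    Q (Localization.AtPrime (𝔫.comap (algebraMap A (AdicCompletion I A))))
      (Localization.AtPrime 𝔫) := by
  letI alg := (Localization.localRingHom (𝔫.comap (algebraMap A (AdicCompletion I A))) 𝔫
      (algebraMap A (AdicCompletion I A)) rfl).toAlgebra
  haveI hloc : IsLocalHom (algebraMap (Localization.AtPrime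
      (𝔫.comap (algebraMap A (AdicCompletion I A)))) (Localization.AtPrime 𝔫)) :=
    Localization.isLocalHom_localRingHom _ _ _ rfl
  haveI : IsNoetherianRing (AdicCompletion I A) :=
    Groth.Agent.Lib.ComplRegH3.isNoetherianRing_adicCompletion A I
  haveI : Module.Flat A (AdicCompletion I A) := inferInstance
  haveI hflat : Module.Flat (Localization.AtPrime (𝔫.comap (algebraMap A (AdicCompletion I A))))
      (Localization.AtPrime 𝔫) :=
    RingHom.Flat.localRingHom (RingHom.flat_algebraMap_iff.mpr inferInstance) 𝔫 _ rfl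
  haveI : IsNoetherianRing (Localization.AtPrime 𝔫) :=
    IsLocalization.isNoetherianRing 𝔫.primeCompl _ inferInstance
  haveI : IsNoetherianRing (Localization.AtPrime (𝔫.comap (algebraMap A (AdicCompletion I A)))) :=
    IsLocalization.isNoetherianRing (𝔫.comap (algebraMap A (AdicCompletion I A))).primeCompl _
      inferInstance
  obtain ⟨hm, hres⟩ := local_facts A I 𝔫
  have hk : Function.Bijective (IsLocalRing.ResidueField.map (algebraMap
      (Localization.AtPrime (𝔫.comap (algebraMap A (AdicCompletion I A))))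
      (Localization.AtPrime 𝔫))) := by
    refine ⟨RingHom.injective _, fun y => ?_⟩
    obtain ⟨y, rfl⟩ := IsLocalRing.residue_surjective y
    obtain ⟨x, hx⟩ := hres y
    refine ⟨IsLocalRing.residue _ x, ?_⟩
    rw [IsLocalRing.ResidueField.map_residue, eq_comm, ← sub_eq_zero, ← map_sub,
      IsLocalRing.residue_eq_zero_iff]
    exact hx
  have hbij := Groth.Agent.Lib.ComplMapIsoH3.bijective_of_comp
    (Localization.AtPrime (𝔫.comap (algebraMap A (AdicCompletion I A))))
    (Localization.AtPrime 𝔫) hm hk
    (Groth.Agent.Lib.FFTransferH3.psi _ _)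
    (RingHom.ext fun a => Groth.Agent.Lib.FFTransferH3.psi_of _ _ a)
  haveI := Groth.Agent.Lib.FFTransferH3.tower'
    (Localization.AtPrime (𝔫.comap (algebraMap A (AdicCompletion I A)))) (Localization.AtPrime 𝔫)
  let e : EGA4.Cpl (Localization.AtPrime (𝔫.comap (algebraMap A (AdicCompletion I A))))
      ≃ₐ[Localization.AtPrime (𝔫.comap (algebraMap A (AdicCompletion I A)))]
      EGA4.Cpl (Localization.AtPrime 𝔫) :=
    AlgEquiv.ofBijective
      { Groth.Agent.Lib.FFTransferH3.psi
          (Localization.AtPrime (𝔫.comap (algebraMap A (AdicCompletion I A))))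
          (Localization.AtPrime 𝔫) with
        commutes' := fun a => Groth.Agent.Lib.FFTransferH3.psi_of _ _ a } hbij
  have h2 := Qequiv _ _ _ e h
  haveI : Module.FaithfullyFlat (Localization.AtPrime 𝔫) (EGA4.Cpl (Localization.AtPrime 𝔫)) :=
    Module.FaithfullyFlat.of_flat_of_isLocalHom
  exact Qdesc _ (Localization.AtPrime 𝔫) (EGA4.Cpl (Localization.AtPrime 𝔫)) h2

/-- S0600 -/
theorem isRegularHom_adicCompletion (hA : CAlg.IsGRing A) :
    CAlg.IsRegularHom A (AdicCompletion I A) := by
  haveI : IsNoetherianRing (AdicCompletion I A) :=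
    Groth.Agent.Lib.ComplRegH3.isNoetherianRing_adicCompletion A I
  apply Groth.Agent.Lib.RegHomLocalH3.isRegularHom_of_forall_maximal
  intro 𝔫 h𝔫
  exact local_transfer A I 𝔫
    (fun (X Y : Type u) [CommRing X] [CommRing Y] [Algebra X Y] => CAlg.IsRegularHom X Y)
    (fun _ _ _ _ _ _ _ _ e h => isRegularHom_of_algEquiv e h)
    (fun X Y Z _ _ _ _ _ _ _ _ h => Groth.Agent.S9295.result X Y Z h
      PrimeSpectrum.comap_surjective_of_faithfullyFlat)
    (hA.2 _)

/-- S2686 -/
theorem isNormalHom_adicCompletion
    (hA : ∀ (p : Ideal A) [p.IsPrime], EGA4.HasGeomNormalFormalFibres (Localization.AtPrime p)) :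
    EGA4.IsNormalHom A (AdicCompletion I A) := by
  haveI : IsNoetherianRing (AdicCompletion I A) :=
    Groth.Agent.Lib.ComplRegH3.isNoetherianRing_adicCompletion A I
  apply isNormalHom_of_forall_maximal
  intro 𝔫 h𝔫
  haveI : IsNoetherianRing (Localization.AtPrime (𝔫.comap (algebraMap A (AdicCompletion I A)))) :=
    IsLocalization.isNoetherianRing (𝔫.comap (algebraMap A (AdicCompletion I A))).primeCompl _
      inferInstance
  exact local_transfer A I 𝔫
    (fun (X Y : Type u) [CommRing X] [CommRing Y] [Algebra X Y] => EGA4.IsNormalHom X Y)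
    (fun _ _ _ _ _ _ _ _ e h => isNormalHom_of_algEquiv e h)
    (fun X Y Z _ _ _ _ _ _ _ _ h => isNormalHom_of_faithfullyFlat X Y Z h)
    ⟨inferInstance, hA _⟩

/-- S2687 -/
theorem isGRHom_adicCompletion
    (hA : ∀ (p : Ideal A) [p.IsPrime], EGA4.HasGeomReducedFormalFibres (Localization.AtPrime p)) :
    IsGRHom A (AdicCompletion I A) := by
  haveI : IsNoetherianRing (AdicCompletion I A) :=
    Groth.Agent.Lib.ComplRegH3.isNoetherianRing_adicCompletion A I
  apply isGRHom_of_forall_maximal
  intro 𝔫 h𝔫
  haveI : IsNoetherianRing (Localization.AtPrime (𝔫.comap (algebraMap A (AdicCompletion I A)))) :=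
    IsLocalization.isNoetherianRing (𝔫.comap (algebraMap A (AdicCompletion I A))).primeCompl _
      inferInstance
  exact local_transfer A I 𝔫
    (fun (X Y : Type u) [CommRing X] [CommRing Y] [Algebra X Y] => IsGRHom X Y)
    (fun _ _ _ _ _ _ _ _ e h => isGRHom_of_algEquiv e h)
    (fun X Y Z _ _ _ _ _ _ _ _ h => isGRHom_of_faithfullyFlat X Y Z h)
    ⟨inferInstance, hA _⟩

end Compl

end Groth.Agent.Lib.IAdicRegularH3
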