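import Mathlib
import Groth.Prelude.Def_Smoothing
import Groth.Prelude.Def_Found
import Groth.Agent.Lib.ArtinApx_helper5
import Groth.Agent.Lib.FpColim_helper5
import Groth.Agent.Lib.IAdicRegular_helper3

set_option autoImplicit false
set_option linter.style.haveILetI false
set_option linter.unusedVariables false
set_option maxHeartbeats 1600000

universe u

open TensorProduct IsLocalRing CategoryTheory Limits

namespace Groth.Agent.Lib.ArtinApxH5

/-- Artin approximation for points of finitely presented algebras -/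
theorem artin_approx_hom (A : Type u) [CommRing A] [IsNoetherianRing A] (I : Ideal A)
    (hI : HenselianRing A I) (hreg : CAlg.IsRegularHom A (AdicCompletion I A))
    (C : Type u) [CommRing C] [Algebra A C] [Algebra.FinitePresentation A C]
    (f : C →ₐ[A] AdicCompletion I A) (N : ℕ) :
    ∃ t : C →ₐ[A] A, ∀ c, Ideal.Quotient.mk (I ^ (N + 1)) (t c) =
      AdicCompletion.evalₐ I (N + 1) (f c) := by
  classical
  haveI : IsNoetherianRing (AdicCompletion I A) := Groth.Agent.S0543.result A I
  have hJ : HenselianRing A (I ^ (N + 1)) :=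
    Groth.Agent.Lib.HenselPairOpsLead.henselian_of_le (Ideal.pow_le_self (Nat.succ_ne_zero N)) hI
  obtain ⟨B, iB1, iB2, hsm, g, h, hgh⟩ :=
    Groth.Agent.Lib.PopescuH5.popescu hreg C inferInstance f
  haveI := hsm
  obtain ⟨τ, hτ⟩ := HensPairSmH8.exists_lift_of_smooth (I ^ (N + 1)) hJ
    ((AdicCompletion.evalₐ I (N + 1)).comp h)
  refine ⟨τ.comp g, fun c => ?_⟩
  show Ideal.Quotient.mk (I ^ (N + 1)) (τ (g c)) = _
  rw [hτ, ← hgh]
  rfl

open Groth.Agent.Lib.FpColimH5 in
/-- **Artin approximation for functors preserving filtered colimits** (form of S14050). -/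
theorem artin_functor (A : Type u) [CommRing A]
    (I : Ideal A) [HenselianRing A I] (hG : CAlg.IsGRing A)
    (F : Under (CommRingCat.of A) ⥤ Type u)
    (hF : ∀ (J : Type u) [SmallCategory J] [IsFiltered J], PreservesColimitsOfShape J F)
    (n : ℕ)
    (π : Under.mk (CommRingCat.ofHom (algebraMap A (AdicCompletion I A))) ⟶
      Under.mk (CommRingCat.ofHom (algebraMap A (A ⧸ I ^ (n + 1)))))
    (hπ : π.right = CommRingCat.ofHom
      (AdicCompletion.evalₐ I (n + 1) : AdicCompletion I A →ₐ[A] A ⧸ I ^ (n + 1)).toRingHom)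
    (ρ : Under.mk (𝟙 (CommRingCat.of A)) ⟶
      Under.mk (CommRingCat.ofHom (algebraMap A (A ⧸ I ^ (n + 1)))))
    (ξ : F.obj (Under.mk (CommRingCat.ofHom (algebraMap A (AdicCompletion I A))))) :
    ∃ η : F.obj (Under.mk (𝟙 (CommRingCat.of A))), F.map ρ η = F.map π ξ := by
  classical
  haveI := hG.1
  have hreg : CAlg.IsRegularHom A (AdicCompletion I A) :=
    Groth.Agent.Lib.IAdicRegularH3.isRegularHom_adicCompletion A I hG
  haveI := hF (FpOver A (AdicCompletion I A))
  have hc := isColimitOfPreserves F (fpIsColimit A (AdicCompletion I A))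
  obtain ⟨X, ξX, hξ⟩ := Types.jointly_surjective_of_isColimit hc ξ
  obtain ⟨t, ht⟩ := artin_approx_hom A I inferInstance hreg X.C X.f n
  let tU : (fpDiag A (AdicCompletion I A)).obj X ⟶ Under.mk (𝟙 (CommRingCat.of A)) :=
    Under.homMk (CommRingCat.ofHom t.toRingHom) (by
      ext x
      simp [fpDiag])
  refine ⟨F.map tU ξX, ?_⟩
  have hξ' : F.map ((fpCocone A (AdicCompletion I A)).ι.app X) ξX = ξ := hξ
  have hρ : ρ.right = CommRingCat.ofHom (algebraMap A (A ⧸ I ^ (n + 1))) := by
    have := Under.w ρ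
    simpa using this
  have key : tU ≫ ρ = (fpCocone A (AdicCompletion I A)).ι.app X ≫ π := by
    apply Under.UnderMorphism.ext
    rw [Under.comp_right, Under.comp_right, hρ, hπ]
    ext c
    exact ht c
  have e1 : F.map ρ (F.map tU ξX) = F.map (tU ≫ ρ) ξX :=
    (FunctorToTypes.map_comp_apply F tU ρ ξX).symm
  have e2 : F.map π (F.map ((fpCocone A (AdicCompletion I A)).ι.app X) ξX) =
      F.map ((fpCocone A (AdicCompletion I A)).ι.app X ≫ π) ξX :=
    (FunctorToTypes.map_comp_apply F _ π ξX).symm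
  rw [e1, key, ← e2, hξ']

end Groth.Agent.Lib.ArtinApxH5
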