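import Mathlib
import Groth.Prelude.Def_Smoothing
import Groth.Prelude.Def_Found
import Groth.Agent.Lib.ArtinApx4_helper5

set_option autoImplicit false
set_option linter.style.haveILetI false
set_option linter.unusedVariables false
set_option linter.deprecated false
set_option maxHeartbeats 1600000

universe u

open TensorProduct IsLocalRing CategoryTheory Limits

namespace Groth.Agent.Lib.FpColimH5

open Groth.Agent.Lib.IndEtaleH3

section DiagAlg

variable (A B : Type u) [CommRing A] [CommRing B] [Algebra A B]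

/-- The canonical diagram of finitely presented algebras over `B`, in `CommAlgCat A`. -/
noncomputable def fpDiagAlg : FpOver A B ⥤ CommAlgCat.{u} A where
  obj X := CommAlgCat.of A X.C
  map {X Y} g := CommAlgCat.ofHom g.1
  map_id X := rfl
  map_comp g h := rfl

/-- The canonical cocone in `CommAlgCat A`. -/
noncomputable def fpCoconeAlg : Cocone (fpDiagAlg A B) where
  pt := CommAlgCat.of A B
  ι :=
    { app := fun X => CommAlgCat.ofHom X.f
      naturality := fun X Y g => by
        ext x
        exact congr($(g.2) x) }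

/-- every algebra is the filtered colimit, in `CommAlgCat A`, of the finitely presented algebras
mapping to it -/
noncomputable def fpIsColimitAlg : IsColimit (fpCoconeAlg A B) := by
  apply isColimitOfReflects (commAlgCatEquivUnder (CommRingCat.of A)).functor
  apply isColimitOfSurjInj
  · intro (b : B)
    let f : MvPolynomial (Fin 1) A →ₐ[A] B := MvPolynomial.aeval (fun _ => (b : B))
    obtain ⟨X, e, he⟩ := exists_obj (MvPolynomial (Fin 1) A) f
    refine ⟨X, e (MvPolynomial.X 0), ?_⟩
    have := congr($he (MvPolynomial.X 0))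
    simp only [AlgHom.coe_comp, Function.comp_apply] at this
    show X.f (e (MvPolynomial.X 0)) = b
    rw [show X.f (e (MvPolynomial.X 0)) = f (MvPolynomial.X 0) from this]
    exact MvPolynomial.aeval_X _ _
  · intro X (y : X.C) hy
    have hy' : X.f y = 0 := hy
    have hK : ∀ a ∈ Ideal.span {y}, X.f a = 0 := by
      intro a ha
      obtain ⟨c, rfl⟩ := Ideal.mem_span_singleton'.mp ha
      rw [map_mul, hy', mul_zero]
    have : Algebra.FinitePresentation A (X.C ⧸ Ideal.span {y}) :=
      Algebra.FinitePresentation.quotient ⟨{y}, by simp⟩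
    obtain ⟨Z, e, he⟩ := exists_obj (X.C ⧸ Ideal.span {y})
      (Ideal.Quotient.liftₐ (Ideal.span {y}) X.f hK)
    refine ⟨Z, ⟨e.toAlgHom.comp (Ideal.Quotient.mkₐ A _), ?_⟩, ?_⟩
    · rw [← AlgHom.comp_assoc, he]
      ext x
      simp
    · show e (Ideal.Quotient.mk _ y) = 0
      have h0 : Ideal.Quotient.mk (Ideal.span {y}) y = 0 :=
        Ideal.Quotient.eq_zero_iff_mem.mpr (Ideal.subset_span rfl)
      rw [h0, map_zero]

end DiagAlg

end Groth.Agent.Lib.FpColimH5

namespace Groth.Agent.Lib.ArtinApxH5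

open Groth.Agent.Lib.FpColimH5

/-- Artin approximation for functors on `CommAlgCat A` (form of S15755). -/
theorem artin_functor_alg (A : Type u) [CommRing A]
    [IsNoetherianRing A] (I : Ideal A) [HenselianRing A I]
    (hreg : CAlg.IsRegularHom A (AdicCompletion I A))
    (F : CommAlgCat.{u} A ⥤ Type u) [PreservesFilteredColimitsOfSize.{u, u} F] :
    Function.Injective (F.map (CommAlgCat.ofHom (Algebra.ofId A (AdicCompletion I A)))) ∧
    ∀ xbar : F.obj (CommAlgCat.of A (A ⧸ I)),
      (∃ x : F.obj (CommAlgCat.of A A),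
        F.map (CommAlgCat.ofHom (Ideal.Quotient.mkₐ A I)) x = xbar) ↔
      (∃ y : F.obj (CommAlgCat.of A (AdicCompletion I A)),
        F.map (CommAlgCat.ofHom (AdicCompletion.evalOneₐ I)) y = xbar) := by
  classical
  haveI : PreservesColimitsOfShape (FpOver A (AdicCompletion I A)) F :=
    PreservesFilteredColimitsOfSize.preserves_filtered_colimits _
  have hc := isColimitOfPreserves F (fpIsColimitAlg A (AdicCompletion I A))
  have hI : HenselianRing A I := inferInstance
  refine ⟨?_, fun xbar => ⟨?_, ?_⟩⟩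
  · -- injectivity
    intro x₁ x₂ h12
    obtain ⟨X₀, e₀, he₀⟩ := exists_obj A (Algebra.ofId A (AdicCompletion I A))
    let u : CommAlgCat.of A A ⟶ (fpDiagAlg A (AdicCompletion I A)).obj X₀ :=
      CommAlgCat.ofHom e₀.toAlgHom
    have hu : u ≫ (fpCoconeAlg A (AdicCompletion I A)).ι.app X₀ =
        CommAlgCat.ofHom (Algebra.ofId A (AdicCompletion I A)) := by
      ext
    have h3 : (F.mapCocone (fpCoconeAlg A (AdicCompletion I A))).ι.app X₀ (F.map u x₁) =
        (F.mapCocone (fpCoconeAlg A (AdicCompletion I A))).ι.app X₀ (F.map u x₂) := by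
      show F.map ((fpCoconeAlg A (AdicCompletion I A)).ι.app X₀) (F.map u x₁) =
        F.map ((fpCoconeAlg A (AdicCompletion I A)).ι.app X₀) (F.map u x₂)
      rw [← FunctorToTypes.map_comp_apply, ← FunctorToTypes.map_comp_apply, hu]
      exact h12
    obtain ⟨X, g₁, g₂, hg⟩ := (Types.FilteredColimit.isColimit_eq_iff _ hc).mp h3
    obtain ⟨t, -⟩ := artin_approx_hom A I hI hreg X.C X.f 0
    have hg' : F.map ((fpDiagAlg A (AdicCompletion I A)).map g₁) (F.map u x₁) =
        F.map ((fpDiagAlg A (AdicCompletion I A)).map g₂) (F.map u x₂) := hg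
    let tA : (fpDiagAlg A (AdicCompletion I A)).obj X ⟶ CommAlgCat.of A A := CommAlgCat.ofHom t
    have hid : ∀ g : X₀ ⟶ X, u ≫ (fpDiagAlg A (AdicCompletion I A)).map g ≫ tA =
        𝟙 (CommAlgCat.of A A) := by
      intro g
      ext
    have e1 : ∀ (g : X₀ ⟶ X) (x : F.obj (CommAlgCat.of A A)),
        F.map tA (F.map ((fpDiagAlg A (AdicCompletion I A)).map g) (F.map u x)) = x := by
      intro g x
      have h1 : F.map tA (F.map ((fpDiagAlg A (AdicCompletion I A)).map g) (F.map u x)) =
          F.map (u ≫ (fpDiagAlg A (AdicCompletion I A)).map g ≫ tA) x := by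
        rw [FunctorToTypes.map_comp_apply, FunctorToTypes.map_comp_apply]
      rw [h1, hid g, FunctorToTypes.map_id_apply]
    rw [← e1 g₁ x₁, hg', e1 g₂ x₂]
  · -- F(A) ⇒ F(Â)
    rintro ⟨x, rfl⟩
    refine ⟨F.map (CommAlgCat.ofHom (Algebra.ofId A (AdicCompletion I A))) x, ?_⟩
    rw [← FunctorToTypes.map_comp_apply]
    congr 2
  · -- F(Â) ⇒ F(A)
    rintro ⟨y, rfl⟩
    obtain ⟨X, yX, hy⟩ := Types.jointly_surjective_of_isColimit hc y
    have hy' : F.map ((fpCoconeAlg A (AdicCompletion I A)).ι.app X) yX = y := hy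
    obtain ⟨t, ht⟩ := artin_approx_hom A I hI hreg X.C X.f 0
    let tA : (fpDiagAlg A (AdicCompletion I A)).obj X ⟶ CommAlgCat.of A A := CommAlgCat.ofHom t
    refine ⟨F.map tA yX, ?_⟩
    have key : tA ≫ CommAlgCat.ofHom (Ideal.Quotient.mkₐ A I) =
        (fpCoconeAlg A (AdicCompletion I A)).ι.app X ≫
          CommAlgCat.ofHom (AdicCompletion.evalOneₐ I) := by
      ext c
      show Ideal.Quotient.mk I (t c) = AdicCompletion.evalOneₐ I (X.f c)
      have h1 := ht c
      rw [← AdicCompletion.factorₐ_evalₐ_one, ← h1, Ideal.Quotient.factor_mk]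
    have e1 : F.map (CommAlgCat.ofHom (Ideal.Quotient.mkₐ A I)) (F.map tA yX) =
        F.map (tA ≫ CommAlgCat.ofHom (Ideal.Quotient.mkₐ A I)) yX :=
      (FunctorToTypes.map_comp_apply F tA _ yX).symm
    have e2 : F.map (CommAlgCat.ofHom (AdicCompletion.evalOneₐ I))
        (F.map ((fpCoconeAlg A (AdicCompletion I A)).ι.app X) yX) =
        F.map ((fpCoconeAlg A (AdicCompletion I A)).ι.app X ≫
          CommAlgCat.ofHom (AdicCompletion.evalOneₐ I)) yX :=
      (FunctorToTypes.map_comp_apply F _ _ yX).symm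
    rw [e1, key, ← e2, hy']

end Groth.Agent.Lib.ArtinApxH5
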