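import Mathlib
import Groth.Prelude.Def_Smoothing
import Groth.Prelude.Def_Found
import Groth.Agent.Lib.ArtinApx8_helper5
import Groth.Agent.Lib.ArtinApx2_helper5

/-!
# Algebraization of versal formal deformations, part 2 (helper5): set-up
finite type models of elements of `F(R)`, residue fields, finite dimensionality of truncations,
the map from the completion, étale approximation for finitely presented algebras.
-/

set_option autoImplicit false
set_option linter.style.haveILetI false
set_option linter.unusedVariables false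
set_option linter.deprecated false
set_option maxHeartbeats 1600000

universe u

open IsLocalRing CategoryTheory Limits

namespace Groth.Agent.Lib.AlgzH5

open Groth.Agent.Lib.FpColimH5 Groth.Agent.Lib.ArtinApxH5



/-- adjoin finitely many elements of the target to a finite type algebra mapping to it -/
theorem extend_model {k : Type u} [Field k] {R : Type u} [CommRing R] [Algebra k R]
    (C : Type u) [CommRing C] [Algebra k C] [Algebra.FiniteType k C] (f : C →ₐ[k] R) {r : ℕ}
    (x : Fin r → R) :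
    ∃ (A₁ : Type u) (_ : CommRing A₁) (_ : Algebra k A₁) (_ : Algebra.FiniteType k A₁)
      (g₁ : A₁ →ₐ[k] R) (ι : C →ₐ[k] A₁), g₁.comp ι = f ∧ ∀ i, ∃ a, g₁ a = x i := by
  let g₁ : MvPolynomial (Fin r) C →ₐ[k] R :=
    { MvPolynomial.eval₂Hom (f : C →+* R) x with
      commutes' := fun c => by
        show MvPolynomial.eval₂ (f : C →+* R) x (algebraMap k _ c) = _
        rw [MvPolynomial.algebraMap_apply, MvPolynomial.eval₂_C]
        exact f.commutes c }
  have hg₁X : ∀ i, g₁ (MvPolynomial.X i) = x i := fun i =>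
    MvPolynomial.eval₂_X (f : C →+* R) x i
  have hg₁C : ∀ c : C, g₁ (MvPolynomial.C c) = f c := fun c =>
    MvPolynomial.eval₂_C (f : C →+* R) x c
  haveI : Algebra.FiniteType k (MvPolynomial (Fin r) C) :=
    Algebra.FiniteType.trans (inferInstance : Algebra.FiniteType k C) inferInstance
  let ι : C →ₐ[k] MvPolynomial (Fin r) C := IsScalarTower.toAlgHom k C _
  have hι : ∀ c, ι c = MvPolynomial.C c := fun c => rfl
  refine ⟨MvPolynomial (Fin r) C, inferInstance, inferInstance, inferInstance, g₁, ι, ?_, ?_⟩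
  · ext c
    show g₁ (ι c) = f c
    rw [hι, hg₁C]
  · intro i
    exact ⟨MvPolynomial.X i, hg₁X i⟩

/-- a finite type model of an element of `F(R)` whose image contains generators of the maximal
ideal -/
theorem exists_ft_model (k : Type u) [Field k] (F : CommAlgCat.{u} k ⥤ Type u)
    (hF : ∀ (J : Type u) [SmallCategory J] [IsFiltered J], PreservesColimitsOfShape J F)
    (R : Type u) [CommRing R] [Algebra k R] [IsLocalRing R] [IsNoetherianRing R]
    (ξ : F.obj (CommAlgCat.of k R)) :
    ∃ (A₁ : Type u) (_ : CommRing A₁) (_ : Algebra k A₁) (_ : Algebra.FiniteType k A₁)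
      (g₁ : A₁ →ₐ[k] R) (ξ₁ : F.obj (CommAlgCat.of k A₁)),
      F.map (CommAlgCat.ofHom g₁) ξ₁ = ξ ∧
      maximalIdeal R ≤ ((maximalIdeal R).comap g₁).map g₁ := by
  classical
  haveI := hF (FpOver k R)
  have hc := isColimitOfPreserves F (fpIsColimitAlg k R)
  obtain ⟨X, ξX, hξ⟩ := Types.jointly_surjective_of_isColimit hc ξ
  have hξ' : F.map ((fpCoconeAlg k R).ι.app X) ξX = ξ := hξ
  obtain ⟨r, x, hx⟩ := (Submodule.fg_iff_exists_fin_generating_family).mp
    (IsNoetherian.noetherian (maximalIdeal R))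
  haveI : Algebra.FiniteType k X.C := inferInstance
  obtain ⟨A₁, i1, i2, i3, g₁, ι, hgι, hgx⟩ := extend_model X.C X.f x
  refine ⟨A₁, i1, i2, i3, g₁, F.map (CommAlgCat.ofHom ι) ξX, ?_, ?_⟩
  · have key : CommAlgCat.ofHom ι ≫ CommAlgCat.ofHom g₁ = (fpCoconeAlg k R).ι.app X := by
      ext c
      exact congr($hgι c)
    have e1 : F.map (CommAlgCat.ofHom g₁) (F.map (CommAlgCat.ofHom ι) ξX) =
        F.map (CommAlgCat.ofHom ι ≫ CommAlgCat.ofHom g₁) ξX :=
      (FunctorToTypes.map_comp_apply F _ _ ξX).symm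
    rw [e1, key]
    exact hξ'
  · have hm : maximalIdeal R = Ideal.span (Set.range x) := hx.symm
    rw [hm, Ideal.span_le]
    rintro _ ⟨i, rfl⟩
    obtain ⟨a, ha⟩ := hgx i
    rw [← ha]
    apply Ideal.mem_map_of_mem
    rw [Ideal.mem_comap, ha, ← hm]
    have : x i ∈ Ideal.span (Set.range x) := Ideal.subset_span ⟨i, rfl⟩
    rwa [← hm] at this

section Residue

variable {k A₁ R : Type*} [Field k] [CommRing A₁] [Algebra k A₁] [CommRing R] [Algebra k R]
  [IsLocalRing R]

theorem exists_scalar (hres : Function.Surjective (fun c : k => residue R (algebraMap k R c)))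
    (r : R) : ∃ c : k, r - algebraMap k R c ∈ maximalIdeal R := by
  obtain ⟨c, hc⟩ := hres (residue R r)
  refine ⟨c, ?_⟩
  have h1 : residue R (r - algebraMap k R c) = 0 := by
    rw [map_sub]
    have : residue R (algebraMap k R c) = residue R r := hc
    rw [this, sub_self]
  exact (residue_eq_zero_iff _).mp h1

theorem exists_scalar_comap
    (hres : Function.Surjective (fun c : k => residue R (algebraMap k R c)))
    (g₁ : A₁ →ₐ[k] R) (a : A₁) :
    ∃ c : k, a - algebraMap k A₁ c ∈ (maximalIdeal R).comap g₁ := by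
  obtain ⟨c, hc⟩ := exists_scalar hres (g₁ a)
  refine ⟨c, ?_⟩
  rw [Ideal.mem_comap, map_sub, AlgHom.commutes]
  exact hc

end Residue

/-- an ideal modulo which every element is a scalar is maximal (if proper) -/
theorem isMaximal_of_scalars {k A : Type*} [Field k] [CommRing A] [Algebra k A] (m : Ideal A)
    (hm : ∀ a : A, ∃ c : k, a - algebraMap k A c ∈ m) (h1 : (1 : A) ∉ m) : m.IsMaximal := by
  rw [Ideal.isMaximal_iff]
  refine ⟨h1, fun J x hJ hx hxJ => ?_⟩
  obtain ⟨c, hc⟩ := hm x
  have hc0 : c ≠ 0 := by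
    rintro rfl
    rw [map_zero, sub_zero] at hc
    exact hx hc
  have h2 : algebraMap k A c ∈ J := by
    have : algebraMap k A c = x - (x - algebraMap k A c) := by ring
    rw [this]
    exact J.sub_mem hxJ (hJ hc)
  have h3 : (1 : A) = algebraMap k A c⁻¹ * algebraMap k A c := by
    rw [← map_mul, inv_mul_cancel₀ hc0, map_one]
  rw [h3]
  exact J.mul_mem_left _ h2

/-- finite dimensionality of the truncations -/
theorem finite_quot_pow {k A : Type*} [Field k] [CommRing A] [Algebra k A] [IsNoetherianRing A]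
    (m : Ideal A) (hm : ∀ a : A, ∃ c : k, a - algebraMap k A c ∈ m) (n : ℕ) :
    Module.Finite k (A ⧸ m ^ n) := by
  induction n with
  | zero =>
    haveI : Subsingleton (A ⧸ m ^ 0) := by
      rw [pow_zero, Ideal.one_eq_top]
      exact Ideal.Quotient.subsingleton_iff.mpr rfl
    infer_instance
  | succ n ih =>
    obtain ⟨r, g, hg⟩ := (Submodule.fg_iff_exists_fin_generating_family).mp
      (IsNoetherian.noetherian (m ^ n))
    have hgm : ∀ i, g i ∈ m ^ n := fun i => by
      rw [← hg]
      exact Submodule.subset_span ⟨i, rfl⟩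
    let f : (Fin r → k) →ₗ[k] A ⧸ m ^ (n + 1) :=
      Fintype.linearCombination k (fun i => Ideal.Quotient.mk (m ^ (n + 1)) (g i))
    have hf : ∀ c : Fin r → k, f c = ∑ i, c i • Ideal.Quotient.mk (m ^ (n + 1)) (g i) :=
      fun c => Fintype.linearCombination_apply k _ c
    have hle : m ^ (n + 1) ≤ m ^ n := Ideal.pow_le_pow_right (Nat.le_succ n)
    let π : (A ⧸ m ^ (n + 1)) →ₗ[k] A ⧸ m ^ n := (Ideal.Quotient.factorₐ k hle).toLinearMap
    have hπ : ∀ a : A, π (Ideal.Quotient.mk _ a) = Ideal.Quotient.mk _ a := fun a => rfl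
    have hex : Function.Exact f π := by
      intro y
      constructor
      · intro hy
        obtain ⟨b, rfl⟩ := Ideal.Quotient.mk_surjective y
        rw [hπ, Ideal.Quotient.eq_zero_iff_mem, ← hg] at hy
        obtain ⟨a, rfl⟩ := (Submodule.mem_span_range_iff_exists_fun A).mp hy
        choose c hc using fun i => hm (a i)
        refine ⟨c, ?_⟩
        rw [hf, map_sum]
        refine Finset.sum_congr rfl fun i _ => ?_
        rw [Algebra.smul_def, ← Ideal.Quotient.mk_algebraMap, ← map_mul]
        apply Ideal.Quotient.eq.mpr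
        have : algebraMap k A (c i) * g i - a i • g i = -((a i - algebraMap k A (c i)) * g i) := by
          rw [smul_eq_mul]; ring
        rw [this, neg_mem_iff, pow_succ']
        exact Ideal.mul_mem_mul (hc i) (hgm i)
      · rintro ⟨c, rfl⟩
        rw [hf, map_sum]
        refine Finset.sum_eq_zero fun i _ => ?_
        rw [map_smul, hπ, Ideal.Quotient.eq_zero_iff_mem.mpr (hgm i), smul_zero]
    exact Module.Finite.of_exact hex (Ideal.Quotient.factor_surjective hle)



/-- compatibility of the truncation maps of the completion -/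
theorem factor_evalₐ {A : Type*} [CommRing A] (I : Ideal A) {a b : ℕ} (hab : a ≤ b)
    (x : AdicCompletion I A) :
    Ideal.Quotient.factor (Ideal.pow_le_pow_right hab) (AdicCompletion.evalₐ I b x) =
      AdicCompletion.evalₐ I a x := by
  obtain ⟨y, rfl⟩ := AdicCompletion.mk_surjective I A x
  rw [AdicCompletion.evalₐ_mk, AdicCompletion.evalₐ_mk, Ideal.Quotient.factor_mk]
  exact AdicCompletion.Ideal.mk_eq_mk I hab y

/-- the map from the completion of a ring to a complete local ring -/
theorem exists_completion_map {A₁ R : Type u} [CommRing A₁] [IsNoetherianRing A₁] [CommRing R]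
    [IsLocalRing R] [IsAdicComplete (maximalIdeal R) R] (g₁ : A₁ →+* R)
    (hgen : maximalIdeal R ≤ ((maximalIdeal R).comap g₁).map g₁)
    (hres : ∀ r : R, ∃ a : A₁, r - g₁ a ∈ maximalIdeal R) :
    ∃ ĝ : AdicCompletion ((maximalIdeal R).comap g₁) A₁ →+* R,
      (∀ a, ĝ (algebraMap A₁ _ a) = g₁ a) ∧ Function.Surjective ĝ := by
  classical
  set m₁ : Ideal A₁ := (maximalIdeal R).comap g₁ with hm₁
  have hle : ∀ n, m₁ ^ n ≤ (maximalIdeal R ^ n).comap g₁ := fun n => Ideal.le_comap_pow g₁ n
  let f : (n : ℕ) → AdicCompletion m₁ A₁ →+* R ⧸ maximalIdeal R ^ n := fun n =>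
    (Ideal.quotientMap (maximalIdeal R ^ n) g₁ (hle n)).comp
      (AdicCompletion.evalₐ m₁ n).toRingHom
  have hf : ∀ {a b : ℕ} (hab : a ≤ b),
      (Ideal.Quotient.factorPow (maximalIdeal R) hab).comp (f b) = f a := by
    intro a b hab
    ext x
    show Ideal.Quotient.factor (Ideal.pow_le_pow_right hab)
      (Ideal.quotientMap (maximalIdeal R ^ b) g₁ (hle b) (AdicCompletion.evalₐ m₁ b x)) =
      Ideal.quotientMap (maximalIdeal R ^ a) g₁ (hle a) (AdicCompletion.evalₐ m₁ a x)
    rw [← factor_evalₐ m₁ hab x]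
    obtain ⟨y, hy⟩ := Ideal.Quotient.mk_surjective (AdicCompletion.evalₐ m₁ b x)
    rw [← hy, Ideal.quotientMap_mk, Ideal.Quotient.factor_mk, Ideal.Quotient.factor_mk,
      Ideal.quotientMap_mk]
  let ĝ : AdicCompletion m₁ A₁ →+* R := IsAdicComplete.liftRingHom (maximalIdeal R) f hf
  have hĝ : ∀ n x, Ideal.Quotient.mk (maximalIdeal R ^ n) (ĝ x) = f n x := fun n x =>
    IsAdicComplete.mk_liftRingHom (maximalIdeal R) f hf n x
  have hĝof : ∀ a, ĝ (algebraMap A₁ _ a) = g₁ a := by
    intro a
    rw [← sub_eq_zero]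
    apply IsHausdorff.haus (IsAdicComplete.toIsHausdorff (I := maximalIdeal R) (M := R))
    intro n
    rw [SModEq.zero, smul_eq_mul, Ideal.mul_top, ← Ideal.Quotient.eq, hĝ]
    show Ideal.quotientMap (maximalIdeal R ^ n) g₁ (hle n)
      (AdicCompletion.evalₐ m₁ n (algebraMap A₁ _ a)) = _
    rw [AlgHom.commutes]
    rfl
  refine ⟨ĝ, hĝof, ?_⟩
  have hfg : m₁.FG := IsNoetherian.noetherian m₁
  haveI : IsAdicComplete (m₁.map (algebraMap A₁ (AdicCompletion m₁ A₁))) (AdicCompletion m₁ A₁) :=
    AdicCompletion.isAdicComplete_self m₁ hfg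
  have hmap : (m₁.map (algebraMap A₁ (AdicCompletion m₁ A₁))).map ĝ = maximalIdeal R := by
    rw [Ideal.map_map]
    have : ĝ.comp (algebraMap A₁ (AdicCompletion m₁ A₁)) = g₁ := RingHom.ext hĝof
    rw [this]
    exact le_antisymm (Ideal.map_le_iff_le_comap.mpr le_rfl) hgen
  haveI : IsHausdorff ((m₁.map (algebraMap A₁ (AdicCompletion m₁ A₁))).map ĝ) R := by
    rw [hmap]
    infer_instance
  apply surjective_of_mk_map_comp_surjective (I := m₁.map (algebraMap A₁ (AdicCompletion m₁ A₁))) ĝ
  intro y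
  obtain ⟨r, rfl⟩ := Ideal.Quotient.mk_surjective y
  obtain ⟨a, ha⟩ := hres r
  refine ⟨algebraMap A₁ _ a, ?_⟩
  show Ideal.Quotient.mk _ (ĝ (algebraMap A₁ _ a)) = Ideal.Quotient.mk _ r
  rw [hĝof]
  apply Ideal.Quotient.eq.mpr
  rw [hmap]
  have : g₁ a - r = -(r - g₁ a) := by ring
  rw [this]
  exact neg_mem ha




/-- étale approximation for points of finitely presented algebras, with the map of the étale
neighbourhood to the completion -/
theorem etale_approx_fp {A : Type u} [CommRing A] [IsNoetherianRing A] (I : Ideal A)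
    (hreg : CAlg.IsRegularHom A (AdicCompletion I A))
    (C : Type u) [CommRing C] [Algebra A C] [Algebra.FinitePresentation A C]
    (f : C →ₐ[A] AdicCompletion I A) (N : ℕ) :
    ∃ (A' : Type u) (_ : CommRing A') (_ : Algebra A A'), Algebra.Etale A A' ∧
      Function.Bijective
        (algebraMap (A ⧸ I ^ (N + 1)) (A' ⧸ (I ^ (N + 1)).map (algebraMap A A'))) ∧
      ∃ (ψ : A' →ₐ[A] AdicCompletion I A) (t : C →ₐ[A] A'),
        ∀ c, f c - ψ (t c) ∈ (I ^ (N + 1)).map (algebraMap A (AdicCompletion I A)) := by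
  classical
  haveI : IsNoetherianRing (AdicCompletion I A) := Groth.Agent.S0543.result A I
  haveI : IsAdicComplete (I.map (algebraMap A (AdicCompletion I A))) (AdicCompletion I A) :=
    AdicCompletion.isAdicComplete_self I (IsNoetherian.noetherian I)
  have hH : HenselianRing (AdicCompletion I A) (I.map (algebraMap A (AdicCompletion I A))) :=
    inferInstance
  have hJ : HenselianRing (AdicCompletion I A)
      ((I ^ (N + 1)).map (algebraMap A (AdicCompletion I A))) :=
    Groth.Agent.Lib.HenselPairOpsLead.henselian_of_le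
      (Ideal.map_mono (Ideal.pow_le_self (Nat.succ_ne_zero N))) hH
  obtain ⟨B, iB1, iB2, hsm, g, h, hgh⟩ :=
    Groth.Agent.Lib.PopescuH5.popescu hreg C inferInstance f
  haveI := hsm
  obtain ⟨A', iA1, iA2, het, hbij, ψ, τ, h1, h2⟩ :=
    etale_lift_abstract (I ^ (N + 1)) ((I ^ (N + 1)).map (algebraMap A (AdicCompletion I A)))
      hJ le_rfl (AdicCompletion.evalₐ I (N + 1))
      (mem_map_of_evalₐ_eq_zero I (IsNoetherian.noetherian I) (N + 1)) h
  refine ⟨A', iA1, iA2, het, hbij, ψ, τ.comp g, fun c => ?_⟩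
  have : f c = h (g c) := by rw [← hgh]; rfl
  rw [this]
  exact h1 (g c)

end Groth.Agent.Lib.AlgzH5
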