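import Mathlib
import Groth.Prelude.Def_Smoothing
import Groth.Prelude.Def_Found
import Groth.Agent.Lib.ArtinApx2_helper5
import Groth.Agent.Lib.ElemStd_helper4

set_option autoImplicit false
set_option linter.style.haveILetI false
set_option linter.unusedVariables false
set_option maxHeartbeats 1600000

universe u

open TensorProduct IsLocalRing

namespace Groth.Agent.Lib.ArtinApxH5

/-- ind-smoothness over a localization of the base implies ind-smoothness over the base -/
theorem indSmooth_of_isLocalization {R K Λ : Type u} [CommRing R] [CommRing K] [Algebra R K]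
    (S : Submonoid R) [IsLocalization S K] [CommRing Λ] [Algebra R Λ] [Algebra K Λ]
    [IsScalarTower R K Λ] (h : Smoothing.IndSmooth K Λ) : Smoothing.IndSmooth R Λ := by
  classical
  intro A _ _ hfp φ
  haveI := hfp
  let e : K ⊗[R] Λ ≃ₐ[K] Λ := IsLocalization.algebraLid S K Λ
  have h1 : Smoothing.IndSmooth K (K ⊗[R] Λ) :=
    IndSmLiftH8.indSmooth_of_ringEquiv (RingEquiv.refl K) e.toRingEquiv (fun r => e.commutes r) h
  obtain ⟨B', iB'1, iB'2, hsm, g, h', hgh⟩ := h1 (K ⊗[R] A) inferInstance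
    (Algebra.TensorProduct.map (AlgHom.id K K) φ)
  haveI := hsm
  obtain ⟨B, iB1, iB2, α, β, hαβ, s, hs, hstd⟩ := PresDescH4.main2029 φ S g h' hgh
  haveI : Algebra.IsStandardSmooth R (Localization.Away (algebraMap R B s)) :=
    ElemStdH4.main _ hstd
  have hunit : IsUnit (β (algebraMap R B s)) := by
    rw [AlgHom.commutes, IsScalarTower.algebraMap_apply R K Λ]
    exact (IsLocalization.map_units K ⟨s, hs⟩).map _
  have hunit' : ∀ y : Submonoid.powers (algebraMap R B s), IsUnit (β y) := by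
    rintro ⟨_, n, rfl⟩
    rw [map_pow]
    exact hunit.pow n
  let βs : Localization.Away (algebraMap R B s) →ₐ[R] Λ :=
    IsLocalization.liftAlgHom (M := Submonoid.powers (algebraMap R B s)) (f := β) hunit'
  refine ⟨Localization.Away (algebraMap R B s), inferInstance, inferInstance, inferInstance,
    (IsScalarTower.toAlgHom R B _).comp α, βs, ?_⟩
  ext a
  show βs (algebraMap B _ (α a)) = φ a
  rw [IsLocalization.liftAlgHom_apply, IsLocalization.lift_eq]
  exact AlgHom.congr_fun hαβ a


section Spread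

variable {R Λ : Type u} [CommRing R] [CommRing Λ] [Algebra R Λ] (M : Submonoid R)
  (I : Ideal R) (J : Ideal Λ)

/-- finitely many elements of `Λ` are, modulo `J`, images of elements of some `R_d`, `d ∈ M` -/
theorem spread_tuple (H1 : ∀ m ∈ M, IsUnit (algebraMap R Λ m))
    (H2 : ∀ l : Λ, ∃ r : R, ∃ m ∈ M, algebraMap R Λ m * l - algebraMap R Λ r ∈ J)
    {k : ℕ} (t : Fin k → Λ) :
    ∃ d ∈ M, ∃ L : Localization.Away d →+* Λ,
      (∀ a, L (algebraMap R (Localization.Away d) a) = algebraMap R Λ a) ∧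
      ∃ y : Fin k → Localization.Away d, ∀ i, t i - L (y i) ∈ J := by
  classical
  choose r m hm hrm using fun i => H2 (t i)
  obtain ⟨d, hd⟩ : ∃ d : R, d = ∏ i, m i := ⟨_, rfl⟩
  have hdM : d ∈ M := by
    rw [hd]
    exact Submonoid.prod_mem _ (fun i _ => hm i)
  have hL : ∀ a, IsLocalization.Away.lift d (g := algebraMap R Λ) (H1 d hdM)
      (algebraMap R (Localization.Away d) a) = algebraMap R Λ a :=
    fun a => IsLocalization.Away.lift_eq d _ a
  have hmunit : ∀ i, IsUnit (algebraMap R (Localization.Away d) (m i)) := by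
    intro i
    have h1 : m i ∣ d := by
      rw [hd]
      exact Finset.dvd_prod_of_mem m (Finset.mem_univ i)
    exact isUnit_of_dvd_unit (map_dvd (algebraMap R _) h1)
      (IsLocalization.Away.algebraMap_isUnit d)
  choose v hv using fun i => (hmunit i).exists_right_inv
  refine ⟨d, hdM, IsLocalization.Away.lift d (g := algebraMap R Λ) (H1 d hdM), hL,
    fun i => algebraMap R _ (r i) * v i, fun i => ?_⟩
  obtain ⟨L, hL'⟩ : ∃ L : Localization.Away d →+* Λ,
      L = IsLocalization.Away.lift d (g := algebraMap R Λ) (H1 d hdM) := ⟨_, rfl⟩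
  rw [← hL'] at hL ⊢
  have h1 : algebraMap R Λ (m i) * L (v i) = 1 := by
    rw [← hL, ← map_mul, hv, map_one]
  have h2 : t i - L (algebraMap R _ (r i) * v i) =
      L (v i) * (algebraMap R Λ (m i) * t i - algebraMap R Λ (r i)) := by
    rw [map_mul, hL]
    calc t i - algebraMap R Λ (r i) * L (v i)
        = (algebraMap R Λ (m i) * L (v i)) * t i - algebraMap R Λ (r i) * L (v i) := by
          rw [h1, one_mul]
      _ = L (v i) * (algebraMap R Λ (m i) * t i - algebraMap R Λ (r i)) := by ring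
  rw [h2]
  exact J.mul_mem_left _ (hrm i)

/-- finitely many elements of `R_d` which die in `Λ/J` lie in `I R_{dn}` for some `n ∈ M` -/
theorem spread_kill (H3 : ∀ r : R, algebraMap R Λ r ∈ J → ∃ m ∈ M, m * r ∈ I)
    (d : R) (L : Localization.Away d →+* Λ)
    (hL : ∀ a, L (algebraMap R (Localization.Away d) a) = algebraMap R Λ a)
    (Z : Finset (Localization.Away d)) (hZ : ∀ z ∈ Z, L z ∈ J) :
    ∃ n ∈ M, ∃ ι : Localization.Away d →ₐ[R] Localization.Away (d * n),
      ∀ z ∈ Z, ι z ∈ I.map (algebraMap R (Localization.Away (d * n))) := by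
  classical
  have key : ∀ z : Z, ∃ (e : ℕ) (u : R) (n : R), n ∈ M ∧
      (z : Localization.Away d) * algebraMap R (Localization.Away d) d ^ e =
        algebraMap R (Localization.Away d) u ∧ n * u ∈ I := by
    intro z
    obtain ⟨e, u, hu⟩ := IsLocalization.Away.surj d (z : Localization.Away d)
    have h1 : algebraMap R Λ u ∈ J := by
      rw [← hL, ← hu, map_mul, map_pow, hL]
      exact J.mul_mem_right _ (hZ z z.2)
    obtain ⟨n, hn, hnu⟩ := H3 u h1
    exact ⟨e, u, n, hn, hu, hnu⟩
  choose e u n hn hu hnu using key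
  obtain ⟨N, hN⟩ : ∃ N : R, N = ∏ z : Z, n z := ⟨_, rfl⟩
  have hNM : N ∈ M := by
    rw [hN]
    exact Submonoid.prod_mem _ (fun z _ => hn z)
  have hNu : ∀ z : Z, N * u z ∈ I := by
    intro z
    have h1 : n z ∣ N := by
      rw [hN]
      exact Finset.dvd_prod_of_mem n (Finset.mem_univ z)
    obtain ⟨c, hc⟩ := h1
    rw [hc, mul_comm (n z) c, mul_assoc]
    exact I.mul_mem_left _ (hnu z)
  have hdN : IsUnit (algebraMap R (Localization.Away (d * N)) (d * N)) :=
    IsLocalization.Away.algebraMap_isUnit (d * N)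
  have hdunit : IsUnit (algebraMap R (Localization.Away (d * N)) d) :=
    isUnit_of_dvd_unit (map_dvd (algebraMap R _) (Dvd.intro N rfl)) hdN
  have hNunit : IsUnit (algebraMap R (Localization.Away (d * N)) N) :=
    isUnit_of_dvd_unit (map_dvd (algebraMap R _) (Dvd.intro_left d rfl)) hdN
  have hpow : ∀ y : Submonoid.powers d,
      IsUnit (Algebra.ofId R (Localization.Away (d * N)) y) := by
    rintro ⟨_, k, rfl⟩
    show IsUnit (algebraMap R (Localization.Away (d * N)) (d ^ k))
    rw [map_pow]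
    exact hdunit.pow k
  obtain ⟨ι, hι⟩ : ∃ ι : Localization.Away d →ₐ[R] Localization.Away (d * N), True :=
    ⟨IsLocalization.liftAlgHom (M := Submonoid.powers d)
      (f := Algebra.ofId R (Localization.Away (d * N))) hpow, trivial⟩
  refine ⟨N, hNM, ι, fun z hz => ?_⟩
  have h2 := congrArg ι (hu ⟨z, hz⟩)
  rw [map_mul, map_pow, AlgHom.commutes, AlgHom.commutes] at h2
  obtain ⟨v, hv⟩ := (hdunit.pow (e ⟨z, hz⟩)).exists_right_inv
  obtain ⟨w, hw⟩ := hNunit.exists_right_inv
  have h3 : ι z = algebraMap R _ (N * u ⟨z, hz⟩) * (w * v) := by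
    rw [map_mul, ← h2]
    calc ι z = ι z * (algebraMap R (Localization.Away (d * N)) d ^ e ⟨z, hz⟩ * v) *
          (algebraMap R (Localization.Away (d * N)) N * w) := by rw [hv, hw, mul_one, mul_one]
      _ = _ := by ring
  rw [h3]
  exact Ideal.mul_mem_right _ _ (Ideal.mem_map_of_mem _ (hNu _))

end Spread


/-- **spreading out**: a point of a finitely presented `R`-algebra `B` in `Λ`, where `Λ/J` is
the localization of `R/I` at `M`, is congruent modulo `J` to a point in `R_s / I R_s`, `s ∈ M`. -/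
theorem spread {R B Λ : Type u} [CommRing R] [CommRing B] [Algebra R B]
    [Algebra.FinitePresentation R B] [CommRing Λ] [Algebra R Λ] (M : Submonoid R)
    (I : Ideal R) (J : Ideal Λ) (H1 : ∀ m ∈ M, IsUnit (algebraMap R Λ m))
    (H2 : ∀ l : Λ, ∃ r : R, ∃ m ∈ M, algebraMap R Λ m * l - algebraMap R Λ r ∈ J)
    (H3 : ∀ r : R, algebraMap R Λ r ∈ J → ∃ m ∈ M, m * r ∈ I)
    (H4 : I.map (algebraMap R Λ) ≤ J) (h : B →ₐ[R] Λ) :
    ∃ s ∈ M, ∃ L : Localization.Away s →+* Λ,
      (∀ a, L (algebraMap R (Localization.Away s) a) = algebraMap R Λ a) ∧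
      ∃ σ : B →ₐ[R] (Localization.Away s ⧸ I.map (algebraMap R (Localization.Away s))),
        ∀ (c : B) (x : Localization.Away s), σ c = Ideal.Quotient.mk _ x → h c - L x ∈ J := by
  classical
  obtain ⟨k, f, hf, G, hG⟩ := Algebra.FinitePresentation.out (R := R) (A := B)
  obtain ⟨d, hd, L₀, hL₀, y, hy⟩ :=
    spread_tuple M J H1 H2 (fun i => h (f (MvPolynomial.X i)))
  have hP : ∀ P : MvPolynomial (Fin k) R, h (f P) - L₀ (MvPolynomial.aeval y P) ∈ J := by
    intro P
    have h1 : (Ideal.Quotient.mk J).comp ((h.comp f).toRingHom) =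
        (Ideal.Quotient.mk J).comp (L₀.comp (MvPolynomial.aeval y).toRingHom) := by
      apply MvPolynomial.ringHom_ext
      · intro a
        show Ideal.Quotient.mk J (h (f (MvPolynomial.C a))) =
          Ideal.Quotient.mk J (L₀ (MvPolynomial.aeval y (MvPolynomial.C a)))
        rw [← MvPolynomial.algebraMap_eq, AlgHom.commutes, AlgHom.commutes, AlgHom.commutes, hL₀]
      · intro i
        show Ideal.Quotient.mk J (h (f (MvPolynomial.X i))) =
          Ideal.Quotient.mk J (L₀ (MvPolynomial.aeval y (MvPolynomial.X i)))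
        rw [MvPolynomial.aeval_X]
        exact Ideal.Quotient.eq.mpr (hy i)
    have h2 := RingHom.congr_fun h1 P
    exact Ideal.Quotient.eq.mp h2
  obtain ⟨Z, hZdef⟩ : ∃ Z : Finset (Localization.Away d),
      Z = G.image (fun P => MvPolynomial.aeval y P) := ⟨_, rfl⟩
  have hZ : ∀ z ∈ Z, L₀ z ∈ J := by
    intro z hz
    rw [hZdef] at hz
    obtain ⟨P, hPG, rfl⟩ := Finset.mem_image.mp hz
    have hfP : f P = 0 := by
      have : P ∈ RingHom.ker f.toRingHom := by
        rw [← hG]
        exact Ideal.subset_span hPG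
      exact this
    have := hP P
    rw [hfP, map_zero, zero_sub] at this
    exact (Ideal.neg_mem_iff J).mp this
  obtain ⟨n, hn, ι, hι⟩ := spread_kill M I J H3 d L₀ hL₀ Z hZ
  have hs : d * n ∈ M := M.mul_mem hd hn
  obtain ⟨L, hL⟩ : ∃ L : Localization.Away (d * n) →+* Λ,
      ∀ a, L (algebraMap R (Localization.Away (d * n)) a) = algebraMap R Λ a :=
    ⟨IsLocalization.Away.lift (d * n) (g := algebraMap R Λ) (H1 _ hs),
      fun a => IsLocalization.Away.lift_eq _ _ a⟩
  have hLι : ∀ x, L (ι x) = L₀ x := by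
    have h1 : L.comp ι.toRingHom = L₀ := by
      apply IsLocalization.ringHom_ext (Submonoid.powers d)
      ext a
      show L (ι (algebraMap R _ a)) = L₀ (algebraMap R _ a)
      rw [AlgHom.commutes, hL, hL₀]
    intro x
    exact RingHom.congr_fun h1 x
  have hy' : ∀ P : MvPolynomial (Fin k) R,
      MvPolynomial.aeval (fun i => ι (y i)) P = ι (MvPolynomial.aeval y P) := fun P =>
    (MvPolynomial.comp_aeval_apply y ι P).symm
  obtain ⟨φ, hφ⟩ : ∃ φ : MvPolynomial (Fin k) R →ₐ[R]
      (Localization.Away (d * n) ⧸ I.map (algebraMap R (Localization.Away (d * n)))),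
      ∀ P, φ P = Ideal.Quotient.mk _ (ι (MvPolynomial.aeval y P)) :=
    ⟨(Ideal.Quotient.mkₐ R _).comp (MvPolynomial.aeval (fun i => ι (y i))), fun P => by
      show Ideal.Quotient.mk _ (MvPolynomial.aeval (fun i => ι (y i)) P) = _
      rw [hy']⟩
  have hker : RingHom.ker f.toRingHom ≤ RingHom.ker φ.toRingHom := by
    rw [← hG, Ideal.span_le]
    intro Q hQ
    show φ Q = 0
    rw [hφ, Ideal.Quotient.eq_zero_iff_mem]
    apply hι
    rw [hZdef]
    exact Finset.mem_image_of_mem _ hQ
  refine ⟨d * n, hs, L, hL, AlgHom.liftOfSurjective f hf φ hker, fun c x hcx => ?_⟩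
  obtain ⟨P, rfl⟩ := hf c
  rw [AlgHom.liftOfSurjective_apply, hφ] at hcx
  have h1 : ι (MvPolynomial.aeval y P) - x ∈ I.map (algebraMap R (Localization.Away (d * n))) :=
    Ideal.Quotient.eq.mp hcx
  have h2 : L (ι (MvPolynomial.aeval y P) - x) ∈ J := by
    have h3 : (I.map (algebraMap R (Localization.Away (d * n)))).map L ≤ J := by
      rw [Ideal.map_map]
      have : L.comp (algebraMap R (Localization.Away (d * n))) = algebraMap R Λ := by
        ext a
        exact hL a
      rw [this]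
      exact H4
    exact h3 (Ideal.mem_map_of_mem L h1)
  rw [map_sub, hLι] at h2
  have h4 : h (f P) - L x = (h (f P) - L₀ (MvPolynomial.aeval y P)) +
      (L₀ (MvPolynomial.aeval y P) - L x) := by ring
  rw [h4]
  exact J.add_mem (hP P) h2

/-- abstract étale approximation, second form: the truncated point is given as a datum. -/
theorem etale_lift_abstract' {A B Λ : Type u} [CommRing A] [CommRing B] [Algebra A B]
    [Algebra.Smooth A B] [CommRing Λ] [Algebra A Λ] (I' : Ideal A) (J : Ideal Λ)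
    (hJ : HenselianRing Λ J) (hIJ : I'.map (algebraMap A Λ) ≤ J) (σ : B →ₐ[A] A ⧸ I')
    (h : B →ₐ[A] Λ)
    (hσ : ∀ (c : B) (r : A), σ c = Ideal.Quotient.mk I' r → h c - algebraMap A Λ r ∈ J) :
    ∃ (A' : Type u) (_ : CommRing A') (_ : Algebra A A'), Algebra.Etale A A' ∧
      Function.Bijective (algebraMap (A ⧸ I') (A' ⧸ I'.map (algebraMap A A'))) ∧
      ∃ (ψ : A' →ₐ[A] Λ) (τ : B →ₐ[A] A'), (∀ c, h c - ψ (τ c) ∈ J) ∧
        ∀ (x : A') (r : A), Ideal.Quotient.mk (I'.map (algebraMap A A')) x =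
          algebraMap (A ⧸ I') (A' ⧸ I'.map (algebraMap A A')) (Ideal.Quotient.mk I' r) →
          ψ x - algebraMap A Λ r ∈ J := by
  classical
  obtain ⟨A', iA1, iA2, het, hbij, τ, hτ⟩ :=
    Groth.Agent.Lib.EtNbhdSmoothLiftH3.main2043 I' σ
  haveI := het
  let ι : A ⧸ I' →+* Λ ⧸ J := Ideal.Quotient.lift I'
    ((Ideal.Quotient.mk J).comp (algebraMap A Λ)) (fun x hx => by
      show Ideal.Quotient.mk J (algebraMap A Λ x) = 0
      exact Ideal.Quotient.eq_zero_iff_mem.mpr (hIJ (Ideal.mem_map_of_mem _ hx)))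
  have hι : ∀ c : B, ι (σ c) = Ideal.Quotient.mk J (h c) := by
    intro c
    obtain ⟨r, hr⟩ := Ideal.Quotient.mk_surjective (σ c)
    have h2 := hσ c r hr.symm
    rw [← hr]
    show Ideal.Quotient.mk J (algebraMap A Λ r) = _
    exact (Ideal.Quotient.eq.mpr h2).symm
  let e : A ⧸ I' ≃+* A' ⧸ I'.map (algebraMap A A') := RingEquiv.ofBijective _ hbij
  have he : ∀ y, algebraMap (A ⧸ I') (A' ⧸ I'.map (algebraMap A A')) y = e y := fun y => rfl
  let σr : A' →+* Λ ⧸ J :=
    (ι.comp e.symm.toRingHom).comp (Ideal.Quotient.mk (I'.map (algebraMap A A')))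
  have hσr : ∀ (x : A') (r : A), Ideal.Quotient.mk (I'.map (algebraMap A A')) x =
      algebraMap (A ⧸ I') (A' ⧸ I'.map (algebraMap A A')) (Ideal.Quotient.mk I' r) →
      σr x = Ideal.Quotient.mk J (algebraMap A Λ r) := by
    intro x r hxr
    show ι (e.symm (Ideal.Quotient.mk _ x)) = _
    rw [hxr, he, e.symm_apply_apply]
    rfl
  let σ'' : A' →ₐ[A] Λ ⧸ J :=
    { σr with
      commutes' := fun r => hσr (algebraMap A A' r) r rfl }
  haveI := hJ
  obtain ⟨ψ, hψ⟩ := HensPairSmH8.main A A' Λ J σ''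
  have hψ' : ∀ x, Ideal.Quotient.mk J (ψ x) = σr x := fun x => by
    have := congrArg (fun φ : A' →ₐ[A] Λ ⧸ J => φ x) hψ
    exact this
  refine ⟨A', iA1, iA2, het, hbij, ψ, τ, fun c => ?_, fun x r hxr => ?_⟩
  · apply Ideal.Quotient.eq.mp
    rw [hψ', ← hι]
    show ι (σ c) = ι (e.symm (Ideal.Quotient.mk _ (τ c)))
    rw [hτ c, he, e.symm_apply_apply]
  · apply Ideal.Quotient.eq.mp
    rw [hψ', hσr x r hxr]


/-- final assembly over an étale `R`-algebra `A` mapping to the local ring `K = R_p` -/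
theorem final_abs_aux {R K Λ A B : Type u} [CommRing R] [CommRing K] [Algebra R K] (p : Ideal R)
    [p.IsPrime] [IsLocalization.AtPrime K p] [IsLocalRing K] [CommRing Λ] [Algebra K Λ]
    [Algebra R Λ] [IsScalarTower R K Λ] [CommRing A] [Algebra R A] [Algebra.Etale R A]
    [Algebra A Λ] [IsScalarTower R A Λ] [Algebra A K] [IsScalarTower R A K] [IsScalarTower A K Λ]
    [CommRing B] [Algebra R B] [Algebra.Smooth R B] (N : ℕ)
    (J : Ideal Λ) (hJdef : J = (maximalIdeal K ^ (N + 1)).map (algebraMap K Λ))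
    (I' : Ideal A) (hI' : I' = (p ^ (N + 1)).map (algebraMap R A))
    (hJ : HenselianRing Λ J)
    (σ : B →ₐ[R] A ⧸ I') (h : B →ₐ[R] Λ)
    (hσ : ∀ (c : B) (x : A), σ c = Ideal.Quotient.mk _ x → h c - algebraMap A Λ x ∈ J) :
    ∃ (R' : Type u) (_ : CommRing R') (_ : Algebra R R'), Algebra.Etale R R' ∧
      ∃ (ψ : R' →+* Λ) (p' : Ideal R'), p'.IsPrime ∧
        (∀ r : R, ψ (algebraMap R R' r) = algebraMap R Λ r) ∧
        p'.comap (algebraMap R R') = p ∧
        (∀ x : R', ∃ r s : R, s ∉ p ∧ algebraMap R R' s * x - algebraMap R R' r ∈ p') ∧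
        (∀ x ∈ p', ψ x ∈ (maximalIdeal K).map (algebraMap K Λ)) ∧
        ∃ τ : B →ₐ[R] R', ∀ c, h c - ψ (τ c) ∈ J := by
  classical
  have hpm : p.map (algebraMap R K) = maximalIdeal K :=
    IsLocalization.AtPrime.map_eq_maximalIdeal p K
  have hIJ : I'.map (algebraMap A Λ) ≤ J := by
    rw [hI', hJdef, Ideal.map_map, ← IsScalarTower.algebraMap_eq R A Λ,
      IsScalarTower.algebraMap_eq R K Λ, ← Ideal.map_map, Ideal.map_pow, hpm]
  have hIK : ∀ x ∈ I', algebraMap A K x ∈ maximalIdeal K := by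
    intro x hx
    have h1 : I'.map (algebraMap A K) ≤ maximalIdeal K := by
      rw [hI', Ideal.map_map, ← IsScalarTower.algebraMap_eq R A K, Ideal.map_pow, hpm]
      exact Ideal.pow_le_self (Nat.succ_ne_zero N)
    exact h1 (Ideal.mem_map_of_mem _ hx)
  have hJm : J ≤ (maximalIdeal K).map (algebraMap K Λ) := by
    rw [hJdef]
    exact Ideal.map_mono (Ideal.pow_le_self (Nat.succ_ne_zero N))
  -- base change to `A`
  let σs : A ⊗[R] B →ₐ[A] A ⧸ I' :=
    Algebra.TensorProduct.lift (Algebra.ofId A (A ⧸ I')) σ (fun _ _ => Commute.all _ _)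
  let hs : A ⊗[R] B →ₐ[A] Λ :=
    Algebra.TensorProduct.lift (Algebra.ofId A Λ) h (fun _ _ => Commute.all _ _)
  let ιJ : A ⧸ I' →+* Λ ⧸ J := Ideal.Quotient.lift I'
    ((Ideal.Quotient.mk J).comp (algebraMap A Λ)) (fun x hx => by
      show Ideal.Quotient.mk J (algebraMap A Λ x) = 0
      exact Ideal.Quotient.eq_zero_iff_mem.mpr (hIJ (Ideal.mem_map_of_mem _ hx)))
  have hΦ : ∀ c : A ⊗[R] B, ιJ (σs c) = Ideal.Quotient.mk J (hs c) := by
    intro c
    induction c using TensorProduct.induction_on with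
    | zero => rw [map_zero, map_zero, map_zero, map_zero]
    | tmul a b =>
      rw [Algebra.TensorProduct.lift_tmul, Algebra.TensorProduct.lift_tmul, map_mul, map_mul]
      congr 1
      obtain ⟨x, hx⟩ := Ideal.Quotient.mk_surjective (σ b)
      rw [← hx]
      show Ideal.Quotient.mk J (algebraMap A Λ x) = Ideal.Quotient.mk J (h b)
      exact (Ideal.Quotient.eq.mpr (hσ b x hx.symm)).symm
    | add x y hx hy => rw [map_add, map_add, map_add, map_add, hx, hy]
  have hσs : ∀ (c : A ⊗[R] B) (r : A), σs c = Ideal.Quotient.mk I' r →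
      hs c - algebraMap A Λ r ∈ J := by
    intro c r hcr
    apply Ideal.Quotient.eq.mp
    rw [← hΦ, hcr]
    rfl
  obtain ⟨A', iA1, iA2, het, hbij, ψ, τ, h1, h2⟩ :=
    etale_lift_abstract' I' J hJ hIJ σs hs hσs
  haveI := het
  letI algRA' : Algebra R A' := ((algebraMap A A').comp (algebraMap R A)).toAlgebra
  haveI tw : IsScalarTower R A A' := IsScalarTower.of_algebraMap_eq (fun _ => rfl)
  haveI hetR : Algebra.Etale R A' := Algebra.Etale.comp R A A'
  -- the prime
  let ρ₀ : A ⧸ I' →+* K ⧸ maximalIdeal K := Ideal.Quotient.lift I'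
    ((Ideal.Quotient.mk (maximalIdeal K)).comp (algebraMap A K)) (fun x hx => by
      show Ideal.Quotient.mk (maximalIdeal K) (algebraMap A K x) = 0
      exact Ideal.Quotient.eq_zero_iff_mem.mpr (hIK x hx))
  let e : A ⧸ I' ≃+* A' ⧸ I'.map (algebraMap A A') := RingEquiv.ofBijective _ hbij
  have he : ∀ y, algebraMap (A ⧸ I') (A' ⧸ I'.map (algebraMap A A')) y = e y := fun y => rfl
  let ρ : A' →+* K ⧸ maximalIdeal K :=
    (ρ₀.comp e.symm.toRingHom).comp (Ideal.Quotient.mk (I'.map (algebraMap A A')))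
  have hρ : ∀ y : A, ρ (algebraMap A A' y) =
      Ideal.Quotient.mk (maximalIdeal K) (algebraMap A K y) := by
    intro y
    show ρ₀ (e.symm (Ideal.Quotient.mk _ (algebraMap A A' y))) = _
    have : Ideal.Quotient.mk (I'.map (algebraMap A A')) (algebraMap A A' y) =
        e (Ideal.Quotient.mk I' y) := rfl
    rw [this, e.symm_apply_apply]
    rfl
  have hρR : ∀ r : R, ρ (algebraMap R A' r) =
      Ideal.Quotient.mk (maximalIdeal K) (algebraMap R K r) := by
    intro r
    rw [IsScalarTower.algebraMap_apply R A A', hρ, ← IsScalarTower.algebraMap_apply R A K]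
  refine ⟨A', iA1, algRA', hetR, ψ.toRingHom, RingHom.ker ρ, RingHom.ker_isPrime ρ, ?_, ?_, ?_,
    ?_, (τ.restrictScalars R).comp Algebra.TensorProduct.includeRight, ?_⟩
  · intro r
    show ψ (algebraMap R A' r) = _
    rw [IsScalarTower.algebraMap_apply R A A', AlgHom.commutes,
      ← IsScalarTower.algebraMap_apply R A Λ]
  · ext r
    rw [Ideal.mem_comap, RingHom.mem_ker, hρR, Ideal.Quotient.eq_zero_iff_mem]
    exact IsLocalization.AtPrime.to_map_mem_maximal_iff K p r
  · intro x
    obtain ⟨k, hk⟩ := Ideal.Quotient.mk_surjective (ρ x)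
    obtain ⟨⟨r, ⟨t, ht⟩⟩, hrt⟩ := IsLocalization.surj p.primeCompl k
    refine ⟨r, t, ht, ?_⟩
    rw [RingHom.mem_ker, map_sub, map_mul, hρR, hρR, ← hk, ← map_mul, ← map_sub]
    have : algebraMap R K t * k - algebraMap R K r = 0 := by
      rw [mul_comm]
      exact sub_eq_zero.mpr hrt
    rw [this, map_zero]
  · intro x hx
    show ψ x ∈ _
    obtain ⟨y, hy⟩ := Ideal.Quotient.mk_surjective
      (e.symm (Ideal.Quotient.mk (I'.map (algebraMap A A')) x))
    have hx1 : Ideal.Quotient.mk (I'.map (algebraMap A A')) x =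
        algebraMap (A ⧸ I') (A' ⧸ I'.map (algebraMap A A')) (Ideal.Quotient.mk I' y) := by
      rw [he, hy, e.apply_symm_apply]
    have h3 := h2 x y hx1
    have h4 : algebraMap A K y ∈ maximalIdeal K := by
      have : ρ x = Ideal.Quotient.mk (maximalIdeal K) (algebraMap A K y) := by
        show ρ₀ (e.symm (Ideal.Quotient.mk _ x)) = _
        rw [← hy]
        rfl
      rw [RingHom.mem_ker, this, Ideal.Quotient.eq_zero_iff_mem] at hx
      exact hx
    have h5 : ψ x = (ψ x - algebraMap A Λ y) + algebraMap K Λ (algebraMap A K y) := by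
      rw [← IsScalarTower.algebraMap_apply A K Λ]
      ring
    rw [h5]
    exact Ideal.add_mem _ (hJm h3) (Ideal.mem_map_of_mem _ h4)
  · intro c
    show h c - ψ (τ ((1 : A) ⊗ₜ[R] c)) ∈ J
    have h6 := h1 ((1 : A) ⊗ₜ[R] c)
    have h7 : hs ((1 : A) ⊗ₜ[R] c) = h c := by
      show Algebra.TensorProduct.lift (Algebra.ofId A Λ) h (fun _ _ => Commute.all _ _)
        ((1 : A) ⊗ₜ[R] c) = h c
      rw [Algebra.TensorProduct.lift_tmul, map_one, one_mul]
    rw [h7] at h6
    exact h6

theorem final_abs {R K Λ A B : Type u} [CommRing R] [CommRing K] [Algebra R K] (p : Ideal R)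
    [p.IsPrime] [IsLocalization.AtPrime K p] [IsLocalRing K] [CommRing Λ] [Algebra K Λ]
    [Algebra R Λ] [IsScalarTower R K Λ] [CommRing A] [Algebra R A] [Algebra.Etale R A]
    [Algebra A Λ] [IsScalarTower R A Λ] [Algebra A K] [IsScalarTower R A K] [IsScalarTower A K Λ]
    [CommRing B] [Algebra R B] [Algebra.Smooth R B] (N : ℕ)
    (hJ : HenselianRing Λ ((maximalIdeal K ^ (N + 1)).map (algebraMap K Λ)))
    (σ : B →ₐ[R] A ⧸ (p ^ (N + 1)).map (algebraMap R A)) (h : B →ₐ[R] Λ)
    (hσ : ∀ (c : B) (x : A), σ c = Ideal.Quotient.mk _ x →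
      h c - algebraMap A Λ x ∈ (maximalIdeal K ^ (N + 1)).map (algebraMap K Λ)) :
    ∃ (R' : Type u) (_ : CommRing R') (_ : Algebra R R'), Algebra.Etale R R' ∧
      ∃ (ψ : R' →+* Λ) (p' : Ideal R'), p'.IsPrime ∧
        (∀ r : R, ψ (algebraMap R R' r) = algebraMap R Λ r) ∧
        p'.comap (algebraMap R R') = p ∧
        (∀ x : R', ∃ r s : R, s ∉ p ∧ algebraMap R R' s * x - algebraMap R R' r ∈ p') ∧
        (∀ x ∈ p', ψ x ∈ (maximalIdeal K).map (algebraMap K Λ)) ∧
        ∃ τ : B →ₐ[R] R', ∀ c, h c - ψ (τ c) ∈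
          (maximalIdeal K ^ (N + 1)).map (algebraMap K Λ) :=
  final_abs_aux p N _ rfl _ rfl hJ σ h hσ


/-- passage from the spreading-out data to the final étale neighbourhood -/
theorem final_of_spread {R K Λ B : Type u} [CommRing R] [CommRing K] [Algebra R K] (p : Ideal R)
    [p.IsPrime] [IsLocalization.AtPrime K p] [IsLocalRing K] [CommRing Λ] [Algebra K Λ]
    [Algebra R Λ] [IsScalarTower R K Λ] [CommRing B] [Algebra R B] [Algebra.Smooth R B] (N : ℕ)
    (hJ : HenselianRing Λ ((maximalIdeal K ^ (N + 1)).map (algebraMap K Λ)))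
    (s : R) (hs : s ∈ p.primeCompl) (L : Localization.Away s →+* Λ)
    (hL : ∀ a, L (algebraMap R (Localization.Away s) a) = algebraMap R Λ a)
    (σ : B →ₐ[R] Localization.Away s ⧸ (p ^ (N + 1)).map (algebraMap R (Localization.Away s)))
    (h : B →ₐ[R] Λ)
    (hσ : ∀ (c : B) (x : Localization.Away s), σ c = Ideal.Quotient.mk _ x →
      h c - L x ∈ (maximalIdeal K ^ (N + 1)).map (algebraMap K Λ)) :
    ∃ (R' : Type u) (_ : CommRing R') (_ : Algebra R R'), Algebra.Etale R R' ∧
      ∃ (ψ : R' →+* Λ) (p' : Ideal R'), p'.IsPrime ∧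
        (∀ r : R, ψ (algebraMap R R' r) = algebraMap R Λ r) ∧
        p'.comap (algebraMap R R') = p ∧
        (∀ x : R', ∃ r s : R, s ∉ p ∧ algebraMap R R' s * x - algebraMap R R' r ∈ p') ∧
        (∀ x ∈ p', ψ x ∈ (maximalIdeal K).map (algebraMap K Λ)) ∧
        ∃ τ : B →ₐ[R] R', ∀ c, h c - ψ (τ c) ∈
          (maximalIdeal K ^ (N + 1)).map (algebraMap K Λ) := by
  classical
  letI algAΛ : Algebra (Localization.Away s) Λ := L.toAlgebra
  haveI tw1 : IsScalarTower R (Localization.Away s) Λ :=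
    IsScalarTower.of_algebraMap_eq (fun a => (hL a).symm)
  have hsK : IsUnit (algebraMap R K s) := IsLocalization.map_units K (⟨s, hs⟩ : p.primeCompl)
  letI algAK : Algebra (Localization.Away s) K :=
    (IsLocalization.Away.lift s (g := algebraMap R K) hsK).toAlgebra
  haveI tw2 : IsScalarTower R (Localization.Away s) K :=
    IsScalarTower.of_algebraMap_eq (fun a => (IsLocalization.Away.lift_eq s hsK a).symm)
  haveI tw3 : IsScalarTower (Localization.Away s) K Λ := by
    apply IsScalarTower.of_algebraMap_eq'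
    apply IsLocalization.ringHom_ext (Submonoid.powers s)
    ext a
    show L (algebraMap R _ a) = algebraMap K Λ (IsLocalization.Away.lift s hsK (algebraMap R _ a))
    rw [hL, IsLocalization.Away.lift_eq, ← IsScalarTower.algebraMap_apply R K Λ]
  exact final_abs p N hJ σ h hσ


/-- **étale approximation at a prime**, abstract form (`K = R_p`, `Λ` its completion). -/
theorem etale_approx_abs {R K Λ : Type u} [CommRing R] [CommRing K] [Algebra R K] (p : Ideal R)
    [p.IsPrime] [IsLocalization.AtPrime K p] [IsLocalRing K] [CommRing Λ] [Algebra K Λ]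
    [Algebra R Λ] [IsScalarTower R K Λ] (N : ℕ) (hind : Smoothing.IndSmooth R Λ)
    (hJ : HenselianRing Λ ((maximalIdeal K ^ (N + 1)).map (algebraMap K Λ)))
    (ev : Λ →ₐ[K] K ⧸ maximalIdeal K ^ (N + 1))
    (hev : ∀ x, ev x = 0 → x ∈ (maximalIdeal K ^ (N + 1)).map (algebraMap K Λ))
    {n m : ℕ} (F : Fin m → MvPolynomial (Fin n) R) (a : Fin n → Λ)
    (ha : ∀ j, MvPolynomial.aeval a (F j) = 0) :
    ∃ (R' : Type u) (_ : CommRing R') (_ : Algebra R R'), Algebra.Etale R R' ∧
      ∃ (ψ : R' →+* Λ) (p' : Ideal R'), p'.IsPrime ∧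
        (∀ r : R, ψ (algebraMap R R' r) = algebraMap R Λ r) ∧
        p'.comap (algebraMap R R') = p ∧
        (∀ x : R', ∃ r s : R, s ∉ p ∧ algebraMap R R' s * x - algebraMap R R' r ∈ p') ∧
        (∀ x ∈ p', ψ x ∈ (maximalIdeal K).map (algebraMap K Λ)) ∧
        ∃ b : Fin n → R', (∀ j, MvPolynomial.aeval b (F j) = 0) ∧
          ∀ i, a i - ψ (b i) ∈ (maximalIdeal K ^ (N + 1)).map (algebraMap K Λ) := by
  classical
  have hpm : p.map (algebraMap R K) = maximalIdeal K :=
    IsLocalization.AtPrime.map_eq_maximalIdeal p K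
  -- the algebra of the system
  let Kf : Ideal (MvPolynomial (Fin n) R) := Ideal.span (Set.range F)
  haveI : Algebra.FinitePresentation R (MvPolynomial (Fin n) R ⧸ Kf) :=
    Algebra.FinitePresentation.quotient (Submodule.fg_span (Set.finite_range F))
  have hK : ∀ q ∈ Kf, MvPolynomial.aeval a q = 0 := by
    intro q hq
    have : Kf ≤ RingHom.ker (MvPolynomial.aeval a : MvPolynomial (Fin n) R →ₐ[R] _).toRingHom := by
      rw [Ideal.span_le]
      rintro _ ⟨j, rfl⟩
      exact ha j
    exact this hq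
  let f : (MvPolynomial (Fin n) R ⧸ Kf) →ₐ[R] Λ :=
    Ideal.Quotient.liftₐ Kf (MvPolynomial.aeval a) hK
  obtain ⟨B, iB1, iB2, hsm, g, h, hgh⟩ := hind (MvPolynomial (Fin n) R ⧸ Kf) inferInstance f
  haveI := hsm
  haveI : Algebra.FinitePresentation R B := hsm.finitePresentation
  -- the four hypotheses of `spread`
  have H1 : ∀ t ∈ p.primeCompl, IsUnit (algebraMap R Λ t) := by
    intro t ht
    rw [IsScalarTower.algebraMap_apply R K Λ]
    exact (IsLocalization.map_units K (⟨t, ht⟩ : p.primeCompl)).map _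
  have hJker : ∀ x ∈ (maximalIdeal K ^ (N + 1)).map (algebraMap K Λ), ev x = 0 := by
    intro x hx
    have h1 : (maximalIdeal K ^ (N + 1)).map (algebraMap K Λ) ≤ RingHom.ker ev.toRingHom := by
      rw [Ideal.map_le_iff_le_comap]
      intro k hk
      rw [Ideal.mem_comap]
      show ev (algebraMap K Λ k) = 0
      rw [AlgHom.commutes]
      exact Ideal.Quotient.eq_zero_iff_mem.mpr hk
    exact h1 hx
  have H2 : ∀ l : Λ, ∃ r : R, ∃ t ∈ p.primeCompl, algebraMap R Λ t * l - algebraMap R Λ r ∈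
      (maximalIdeal K ^ (N + 1)).map (algebraMap K Λ) := by
    intro l
    obtain ⟨k, hk⟩ := Ideal.Quotient.mk_surjective (ev l)
    have h1 : l - algebraMap K Λ k ∈ (maximalIdeal K ^ (N + 1)).map (algebraMap K Λ) := by
      apply hev
      rw [map_sub, AlgHom.commutes, ← hk]
      exact sub_self _
    obtain ⟨⟨r, ⟨t, ht⟩⟩, hrt⟩ := IsLocalization.surj p.primeCompl k
    refine ⟨r, t, ht, ?_⟩
    have h2 : algebraMap R Λ t * l - algebraMap R Λ r =
        algebraMap R Λ t * (l - algebraMap K Λ k) := by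
      have h3 : algebraMap R Λ r = algebraMap R Λ t * algebraMap K Λ k := by
        rw [IsScalarTower.algebraMap_apply R K Λ, IsScalarTower.algebraMap_apply R K Λ t,
          ← map_mul, mul_comm]
        exact congrArg _ hrt.symm
      rw [h3]
      ring
    rw [h2]
    exact Ideal.mul_mem_left _ _ h1
  have H3 : ∀ r : R, algebraMap R Λ r ∈ (maximalIdeal K ^ (N + 1)).map (algebraMap K Λ) →
      ∃ t ∈ p.primeCompl, t * r ∈ p ^ (N + 1) := by
    intro r hr
    have h1 := hJker _ hr
    rw [IsScalarTower.algebraMap_apply R K Λ, AlgHom.commutes] at h1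
    have h2 : algebraMap R K r ∈ (p ^ (N + 1)).map (algebraMap R K) := by
      rw [Ideal.map_pow, hpm]
      exact Ideal.Quotient.eq_zero_iff_mem.mp h1
    rw [IsLocalization.mem_map_algebraMap_iff p.primeCompl K] at h2
    obtain ⟨⟨⟨i, hi⟩, ⟨t, ht⟩⟩, hit⟩ := h2
    rw [← map_mul] at hit
    obtain ⟨⟨c, hc⟩, hcc⟩ := (IsLocalization.eq_iff_exists p.primeCompl K).mp hit
    refine ⟨c * t, p.primeCompl.mul_mem hc ht, ?_⟩
    have h3 : c * t * r = c * i := by
      have : c * (r * t) = c * i := hcc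
      rw [← this]
      ring
    rw [h3]
    exact Ideal.mul_mem_left _ _ hi
  have H4 : (p ^ (N + 1)).map (algebraMap R Λ) ≤
      (maximalIdeal K ^ (N + 1)).map (algebraMap K Λ) := by
    rw [IsScalarTower.algebraMap_eq R K Λ, ← Ideal.map_map, Ideal.map_pow, hpm]
  obtain ⟨s, hs, L, hL, σ, hσ⟩ := spread p.primeCompl (p ^ (N + 1))
    ((maximalIdeal K ^ (N + 1)).map (algebraMap K Λ)) H1 H2 H3 H4 h
  obtain ⟨R', iR1, iR2, het, ψ, p', hp', hψ, hcomap, hfrac, hψp, τ, hτ⟩ :=
    final_of_spread p N hJ s hs L hL σ h hσ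
  refine ⟨R', iR1, iR2, het, ψ, p', hp', hψ, hcomap, hfrac, hψp, ?_⟩
  let φ : MvPolynomial (Fin n) R →ₐ[R] R' := (τ.comp g).comp (Ideal.Quotient.mkₐ R Kf)
  refine ⟨fun i => φ (MvPolynomial.X i), fun j => ?_, fun i => ?_⟩
  · have e1 : φ = MvPolynomial.aeval (fun i => φ (MvPolynomial.X i)) :=
      MvPolynomial.aeval_unique φ
    rw [← e1]
    have e3 : Ideal.Quotient.mkₐ R Kf (F j) = 0 :=
      Ideal.Quotient.eq_zero_iff_mem.mpr (Ideal.subset_span ⟨j, rfl⟩)
    show τ (g (Ideal.Quotient.mkₐ R Kf (F j))) = 0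
    rw [e3, map_zero, map_zero]
  · have e1 : a i = h (g (Ideal.Quotient.mkₐ R Kf (MvPolynomial.X i))) := by
      have : f (Ideal.Quotient.mkₐ R Kf (MvPolynomial.X i)) = a i := by
        show MvPolynomial.aeval a (MvPolynomial.X i) = a i
        exact MvPolynomial.aeval_X a i
      rw [← this, ← hgh]
      rfl
    rw [e1]
    exact hτ _


/-- **Étale approximation at a prime of a Noetherian ring whose local ring is a G-ring**
(form of S6843). -/
theorem etale_approx_prime {R : Type u} [CommRing R] [IsNoetherianRing R]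
    (p : Ideal R) [p.IsPrime] (hG : CAlg.IsGRing (Localization.AtPrime p)) {n m : ℕ}
    (F : Fin m → MvPolynomial (Fin n) R)
    (a : Fin n → AdicCompletion (IsLocalRing.maximalIdeal (Localization.AtPrime p))
      (Localization.AtPrime p))
    (ha : ∀ j, MvPolynomial.aeval a
      (MvPolynomial.map (algebraMap R (Localization.AtPrime p)) (F j)) = 0) (N : ℕ) :
    ∃ (R' : Type u) (_ : CommRing R') (_ : Algebra R R'), Algebra.Etale R R' ∧
      ∃ (ψ : R' →+* AdicCompletion (IsLocalRing.maximalIdeal (Localization.AtPrime p))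
          (Localization.AtPrime p))
        (p' : Ideal R'), p'.IsPrime ∧
        (∀ r : R, ψ (algebraMap R R' r) =
          algebraMap (Localization.AtPrime p) _ (algebraMap R (Localization.AtPrime p) r)) ∧
        p'.comap (algebraMap R R') = p ∧
        (∀ x : R', ∃ r s : R, s ∉ p ∧ algebraMap R R' s * x - algebraMap R R' r ∈ p') ∧
        (∀ x ∈ p', ψ x ∈ (IsLocalRing.maximalIdeal (Localization.AtPrime p)).map
          (algebraMap (Localization.AtPrime p)
            (AdicCompletion (IsLocalRing.maximalIdeal (Localization.AtPrime p))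
              (Localization.AtPrime p)))) ∧
        ∃ b : Fin n → R', (∀ j, MvPolynomial.aeval b (F j) = 0) ∧
          ∀ i, a i - ψ (b i) ∈ (IsLocalRing.maximalIdeal (Localization.AtPrime p) ^ N).map
            (algebraMap (Localization.AtPrime p)
              (AdicCompletion (IsLocalRing.maximalIdeal (Localization.AtPrime p))
                (Localization.AtPrime p))) := by
  classical
  haveI hKN : IsNoetherianRing (Localization.AtPrime p) := hG.1
  have hreg : CAlg.IsRegularHom (Localization.AtPrime p)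
      (AdicCompletion (IsLocalRing.maximalIdeal (Localization.AtPrime p))
        (Localization.AtPrime p)) :=
    Groth.Agent.Lib.GRingIsoH3.isRegularHom_cpl_of_isGRing (Localization.AtPrime p) hG
  haveI : IsNoetherianRing (AdicCompletion (IsLocalRing.maximalIdeal (Localization.AtPrime p))
      (Localization.AtPrime p)) := Groth.Agent.S0543.result _ _
  haveI tw : IsScalarTower R (Localization.AtPrime p)
      (AdicCompletion (IsLocalRing.maximalIdeal (Localization.AtPrime p))
        (Localization.AtPrime p)) := IsScalarTower.of_algebraMap_eq (fun _ => rfl)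
  have hindK := Groth.Agent.Lib.PopescuH5.popescu hreg
  have hind := indSmooth_of_isLocalization p.primeCompl hindK
  haveI : IsAdicComplete ((IsLocalRing.maximalIdeal (Localization.AtPrime p)).map
      (algebraMap (Localization.AtPrime p)
        (AdicCompletion (IsLocalRing.maximalIdeal (Localization.AtPrime p))
          (Localization.AtPrime p))))
      (AdicCompletion (IsLocalRing.maximalIdeal (Localization.AtPrime p))
        (Localization.AtPrime p)) :=
    AdicCompletion.isAdicComplete_self _ (IsNoetherian.noetherian _)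
  have hH : HenselianRing (AdicCompletion (IsLocalRing.maximalIdeal (Localization.AtPrime p))
      (Localization.AtPrime p))
      ((IsLocalRing.maximalIdeal (Localization.AtPrime p)).map
        (algebraMap (Localization.AtPrime p)
          (AdicCompletion (IsLocalRing.maximalIdeal (Localization.AtPrime p))
            (Localization.AtPrime p)))) := inferInstance
  have hJ := Groth.Agent.Lib.HenselPairOpsLead.henselian_of_le
    (Ideal.map_mono (Ideal.pow_le_self (Nat.succ_ne_zero N))) hH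
  have ha' : ∀ j, MvPolynomial.aeval a (F j) = 0 := by
    intro j
    rw [← MvPolynomial.aeval_map_algebraMap (Localization.AtPrime p)]
    exact ha j
  obtain ⟨R', iR1, iR2, het, ψ, p', hp', hψ, hcomap, hfrac, hψp, b, hb, hab⟩ :=
    etale_approx_abs p N hind hJ
      (AdicCompletion.evalₐ (IsLocalRing.maximalIdeal (Localization.AtPrime p)) (N + 1))
      (mem_map_of_evalₐ_eq_zero _ (IsNoetherian.noetherian _) (N + 1)) F a ha'
  refine ⟨R', iR1, iR2, het, ψ, p', hp', fun r => ?_, hcomap, hfrac, hψp, b, hb, fun i => ?_⟩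
  · rw [hψ r]
    rfl
  · exact Ideal.map_mono (Ideal.pow_le_pow_right (Nat.le_succ N)) (hab i)

end Groth.Agent.Lib.ArtinApxH5
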