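import Mathlib
import Groth.Prelude.Def_EGA41
import Groth.Prelude.Def_CAlgX

/-!
# Flat + adically formally smooth fibre ⇒ adically formally smooth (EGA 0_IV 19.7.1, (b) ⇒ (a))

`LiftKilled A B 𝔟 𝔫`: the `𝔫`-adic lifting property of `B` over `A` against square-zero extensions of
`A`-algebras killed by `𝔟` (i.e. adic formal smoothness of `B/𝔟B` over `A/𝔟`).
Main results: `LiftKilled.mul` and `LiftKilled.pow` for `B` Noetherian and flat over `A`.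
APPEND-ONLY once landed.
-/

set_option autoImplicit false
set_option maxSynthPendingDepth 3

namespace Groth.Agent.Lib.FSFiberH3

universe u

open TensorProduct

/-- the `𝔫`-adic lifting property against `A`-algebras killed by `𝔟` -/
def LiftKilled (A B : Type u) [CommRing A] [CommRing B] [Algebra A B] (𝔟 : Ideal A)
    (𝔫 : Ideal B) : Prop :=
  ∀ (C : Type u) [CommRing C] [Algebra A C], (∀ a ∈ 𝔟, algebraMap A C a = 0) →
    ∀ J : Ideal C, J ^ 2 = ⊥ → ∀ ψ : B →ₐ[A] C ⧸ J, (∃ k : ℕ, ∀ x ∈ 𝔫 ^ k, ψ x = 0) →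
      ∃ χ : B →ₐ[A] C, (Ideal.Quotient.mkₐ A J).comp χ = ψ

section FlatInter

variable {A B E : Type*} [CommRing A] [CommRing B] [CommRing E] [Algebra A B] [Algebra A E]

/-- For `B` flat, `E → B` surjective with kernel killed by `𝔞`: `𝔞E ∩ ker = 0`. -/
theorem flat_inter [Module.Flat A B] (π : E →ₐ[A] B) (hπ : Function.Surjective π) (𝔞 : Ideal A)
    (h𝔞L : ∀ a ∈ 𝔞, ∀ x : E, π x = 0 → a • x = 0) (x : E)
    (hx : x ∈ 𝔞.map (algebraMap A E)) (hπx : π x = 0) : x = 0 := by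
  classical
  let μE : 𝔞 ⊗[A] E →ₗ[A] E := (TensorProduct.lid A E).toLinearMap ∘ₗ 𝔞.subtype.rTensor E
  let μB : 𝔞 ⊗[A] B →ₗ[A] B := (TensorProduct.lid A B).toLinearMap ∘ₗ 𝔞.subtype.rTensor B
  have hμE : ∀ (a : 𝔞) (e : E), μE (a ⊗ₜ[A] e) = (a : A) • e := fun a e => by
    simp [μE]
  have hμB : ∀ (a : 𝔞) (b : B), μB (a ⊗ₜ[A] b) = (a : A) • b := fun a b => by
    simp [μB]
  have hμBinj : Function.Injective μB := by
    have h1 : Function.Injective (𝔞.subtype.rTensor B) :=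
      Module.Flat.rTensor_preserves_injective_linearMap 𝔞.subtype Subtype.val_injective
    exact (TensorProduct.lid A B).injective.comp h1
  -- `x = μE z`
  have hz : ∃ z : 𝔞 ⊗[A] E, μE z = x := by
    have hx' : x ∈ (𝔞 • ⊤ : Submodule A E) := by
      rw [Ideal.smul_top_eq_map]
      exact hx
    refine Submodule.smul_induction_on hx' ?_ ?_
    · intro a ha e _
      exact ⟨(⟨a, ha⟩ : 𝔞) ⊗ₜ[A] e, hμE _ _⟩
    · rintro y y' ⟨z, rfl⟩ ⟨z', rfl⟩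
      exact ⟨z + z', map_add _ _ _⟩
  obtain ⟨z, rfl⟩ := hz
  have hcomm : ∀ z : 𝔞 ⊗[A] E, μB (π.toLinearMap.lTensor 𝔞 z) = π (μE z) := by
    intro z
    induction z using TensorProduct.induction_on with
    | zero => simp
    | tmul a e =>
      rw [LinearMap.lTensor_tmul, hμB, hμE, map_smul]
      rfl
    | add y y' hy hy' => simp only [map_add, hy, hy']
  have hz0 : π.toLinearMap.lTensor 𝔞 z = 0 := by
    apply hμBinj
    rw [hcomm, hπx, map_zero]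
  have hex := lTensor_exact 𝔞 (LinearMap.exact_subtype_ker_map π.toLinearMap) hπ
  obtain ⟨w, rfl⟩ := (hex z).1 hz0
  have hw : ∀ w : 𝔞 ⊗[A] (LinearMap.ker π.toLinearMap),
      μE ((LinearMap.ker π.toLinearMap).subtype.lTensor 𝔞 w) = 0 := by
    intro w
    induction w using TensorProduct.induction_on with
    | zero => simp
    | tmul a l =>
      rw [LinearMap.lTensor_tmul, hμE]
      exact h𝔞L a a.2 l.1 l.2
    | add y y' hy hy' => simp only [map_add, hy, hy', add_zero]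
  exact hw w

end FlatInter

section Split

variable {A B E : Type u} [CommRing A] [CommRing B] [CommRing E] [Algebra A B] [Algebra A E]

/-- Splitting an extension of a flat Noetherian `A`-algebra `B` by an ideal killed by `𝔞`, using
the lifting property of `B/𝔞B` over `A/𝔞`. -/
theorem exists_section [Module.Flat A B] [IsNoetherianRing B] (π : E →ₐ[A] B)
    (hπ : Function.Surjective π) (𝔞 : Ideal A) (𝔫 : Ideal B)
    (hP : LiftKilled A B 𝔞 𝔫)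
    (hL2 : ∀ x y : E, π x = 0 → π y = 0 → x * y = 0)
    (h𝔞L : ∀ a ∈ 𝔞, ∀ x : E, π x = 0 → a • x = 0)
    (𝔘 : Ideal E) (h𝔘 : ∀ x ∈ 𝔘, π x = 0 → x = 0) (m : ℕ)
    (h𝔘m : ∀ b ∈ 𝔫 ^ m, ∃ u ∈ 𝔘, π u = b) :
    ∃ s : B →ₐ[A] E, ∀ b, π (s b) = b := by
  classical
  -- Artin–Rees
  obtain ⟨k, hk⟩ := Ideal.exists_pow_inf_eq_pow_smul 𝔫
    (𝔞.map (algebraMap A B) : Submodule B B)
  have hAR : ∀ b : B, b ∈ 𝔫 ^ (k + m) → b ∈ 𝔞.map (algebraMap A B) →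
      b ∈ 𝔫 ^ m * 𝔞.map (algebraMap A B) := by
    intro b hb1 hb2
    have h1 : b ∈ (𝔫 ^ (k + m) • ⊤ ⊓ (𝔞.map (algebraMap A B)) : Submodule B B) :=
      ⟨by simpa using hb1, hb2⟩
    rw [hk (k + m) (Nat.le_add_right k m), Nat.add_sub_cancel_left] at h1
    exact (Submodule.smul_mono (le_refl _) inf_le_right) h1
  have hπalg : π.toRingHom.comp (algebraMap A E) = algebraMap A B :=
    RingHom.ext fun a => π.commutes a
  have hπmap : (𝔞.map (algebraMap A E)).map π.toRingHom = 𝔞.map (algebraMap A B) := by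
    rw [Ideal.map_map, hπalg]
  let 𝔘r : Ideal E := 𝔘 ⊓ (𝔫 ^ (k + m)).comap π.toRingHom
  let K : Ideal E := 𝔞.map (algebraMap A E) ⊔ 𝔘r
  have hKL : ∀ x ∈ K, π x = 0 → x = 0 := by
    intro x hx hπx
    obtain ⟨y, hy, u, hu, rfl⟩ := Submodule.mem_sup.1 hx
    have hπu : π u ∈ 𝔫 ^ (k + m) := hu.2
    have hπy : π y ∈ 𝔞.map (algebraMap A B) := by
      rw [← hπmap]
      exact Ideal.mem_map_of_mem π.toRingHom hy
    have hπu' : π u ∈ 𝔞.map (algebraMap A B) := by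
      have h0 : π u = - π y := by
        rw [map_add] at hπx
        exact eq_neg_of_add_eq_zero_right hπx
      rw [h0]
      exact (Ideal.neg_mem_iff _).2 hπy
    have h3 := hAR _ hπu hπu'
    have h4 : ∃ u' ∈ 𝔘, u' ∈ 𝔞.map (algebraMap A E) ∧ π u' = π u := by
      refine Submodule.mul_induction_on h3 ?_ ?_
      · intro b hb c hc
        obtain ⟨ub, hub, rfl⟩ := h𝔘m b hb
        rw [← hπmap] at hc
        obtain ⟨c', hc', rfl⟩ := (Ideal.mem_map_iff_of_surjective π.toRingHom hπ).1 hc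
        exact ⟨ub * c', 𝔘.mul_mem_right _ hub, Ideal.mul_mem_left _ _ hc', map_mul _ _ _⟩
      · rintro b b' ⟨v, hv1, hv2, hv3⟩ ⟨v', hv1', hv2', hv3'⟩
        exact ⟨v + v', 𝔘.add_mem hv1 hv1', Ideal.add_mem _ hv2 hv2',
          by rw [map_add, hv3, hv3']⟩
    obtain ⟨u', hu'1, hu'2, hu'3⟩ := h4
    have h5 : u = u' := by
      have h6 : u - u' = 0 :=
        h𝔘 _ (𝔘.sub_mem hu.1 hu'1) (by rw [map_sub, hu'3, sub_self])
      exact sub_eq_zero.1 h6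
    apply flat_inter π hπ 𝔞 h𝔞L _ _ hπx
    rw [h5]
    exact Ideal.add_mem _ hy hu'2
  let E₀ := E ⧸ K
  let q : E →ₐ[A] E₀ := Ideal.Quotient.mkₐ A K
  let L₀ : Ideal E₀ := (RingHom.ker π).map (Ideal.Quotient.mk K)
  have hL₀ : L₀ ^ 2 = ⊥ := by
    have h1 : (RingHom.ker π) ^ 2 = ⊥ := by
      rw [eq_bot_iff, sq, Ideal.mul_le]
      intro x hx y hy
      rw [Ideal.mem_bot]
      exact hL2 x y hx hy
    show ((RingHom.ker π).map (Ideal.Quotient.mk K)) ^ 2 = ⊥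
    rw [← Ideal.map_pow, h1, Ideal.map_bot]
  have hkill : ∀ a ∈ 𝔞, algebraMap A E₀ a = 0 := by
    intro a ha
    show Ideal.Quotient.mk K (algebraMap A E a) = 0
    rw [Ideal.Quotient.eq_zero_iff_mem]
    exact Ideal.mem_sup_left (Ideal.mem_map_of_mem _ ha)
  let q₂ : E →ₐ[A] E₀ ⧸ L₀ := (Ideal.Quotient.mkₐ A L₀).comp q
  have hq₂ : ∀ x ∈ RingHom.ker π, q₂ x = 0 := fun x hx => by
    show Ideal.Quotient.mk L₀ (Ideal.Quotient.mk K x) = 0
    rw [Ideal.Quotient.eq_zero_iff_mem]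
    exact Ideal.mem_map_of_mem _ hx
  let eπ : (E ⧸ RingHom.ker π) ≃ₐ[A] B := Ideal.quotientKerAlgEquivOfSurjective hπ
  let ψ₀ : B →ₐ[A] E₀ ⧸ L₀ :=
    (Ideal.Quotient.liftₐ (RingHom.ker π) q₂ hq₂).comp (eπ.symm : B →ₐ[A] E ⧸ RingHom.ker π)
  have hψ₀ : ∀ e : E, ψ₀ (π e) = q₂ e := fun e => by
    show Ideal.Quotient.liftₐ _ q₂ hq₂ (eπ.symm (π e)) = _
    rw [Ideal.quotientKerAlgEquivOfSurjective_symm_apply]
    rfl
  have hψ₀k : ∃ k' : ℕ, ∀ x ∈ 𝔫 ^ k', ψ₀ x = 0 := by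
    refine ⟨k + m, fun b hb => ?_⟩
    obtain ⟨u, hu, rfl⟩ := h𝔘m b (Ideal.pow_le_pow_right (Nat.le_add_left m k) hb)
    rw [hψ₀]
    have hK : u ∈ K := Ideal.mem_sup_right ⟨hu, hb⟩
    show Ideal.Quotient.mk L₀ (Ideal.Quotient.mk K u) = 0
    rw [Ideal.Quotient.eq_zero_iff_mem.2 hK, map_zero]
  obtain ⟨χ₀, hχ₀⟩ := hP E₀ hkill L₀ hL₀ ψ₀ hψ₀k
  have hχ₀' : ∀ e : E, Ideal.Quotient.mk L₀ (χ₀ (π e)) = Ideal.Quotient.mk L₀ (q e) := fun e => by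
    have h1 := AlgHom.congr_fun hχ₀ (π e)
    rw [hψ₀] at h1
    exact h1
  let E' : Subalgebra A E := AlgHom.equalizer q (χ₀.comp π)
  let π' : E' →ₐ[A] B := π.comp E'.val
  have hinj : Function.Injective π' := by
    rw [injective_iff_map_eq_zero]
    rintro ⟨e, he⟩ hπe
    have he' : q e = χ₀ (π e) := he
    have hπe' : π e = 0 := hπe
    rw [hπe', map_zero] at he'
    have hK : e ∈ K := Ideal.Quotient.eq_zero_iff_mem.1 he'
    exact Subtype.ext (hKL e hK hπe')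
  have hsurj : Function.Surjective π' := by
    intro b
    obtain ⟨e, rfl⟩ := hπ b
    have h1 : q e - χ₀ (π e) ∈ L₀ := by
      rw [← Ideal.Quotient.eq_zero_iff_mem, map_sub, sub_eq_zero]
      exact (hχ₀' e).symm
    obtain ⟨l, hl, hl'⟩ :=
      (Ideal.mem_map_iff_of_surjective (Ideal.Quotient.mk K) Ideal.Quotient.mk_surjective).1 h1
    have hπl : π l = 0 := hl
    have hl'' : q l = q e - χ₀ (π e) := hl'
    refine ⟨⟨e - l, ?_⟩, ?_⟩
    · show q (e - l) = χ₀ (π (e - l))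
      rw [map_sub, map_sub, hπl, sub_zero, hl'']
      ring
    · show π (e - l) = π e
      rw [map_sub, hπl, sub_zero]
  let eq' := AlgEquiv.ofBijective π' ⟨hinj, hsurj⟩
  refine ⟨E'.val.comp (eq'.symm : B →ₐ[A] E'), fun b => ?_⟩
  show π' (eq'.symm b) = b
  exact eq'.apply_symm_apply b

end Split

section Step

variable {A B : Type u} [CommRing A] [CommRing B] [Algebra A B]

theorem LiftKilled.mul [Module.Flat A B] [IsNoetherianRing B] {𝔞 𝔟 : Ideal A} {𝔫 : Ideal B}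
    (h𝔞 : LiftKilled A B 𝔞 𝔫) (h𝔟 : LiftKilled A B 𝔟 𝔫) : LiftKilled A B (𝔞 * 𝔟) 𝔫 := by
  classical
  intro C _ _ hC J hJ ψ ⟨k, hk⟩
  let 𝔟C : Ideal C := 𝔟.map (algebraMap A C)
  let C₁ := C ⧸ 𝔟C
  let J₁ : Ideal C₁ := J.map (Ideal.Quotient.mk 𝔟C)
  have hJ₁ : J₁ ^ 2 = ⊥ := by
    show (J.map (Ideal.Quotient.mk 𝔟C)) ^ 2 = ⊥
    rw [← Ideal.map_pow, hJ, Ideal.map_bot]
  have hC₁ : ∀ a ∈ 𝔟, algebraMap A C₁ a = 0 := fun a ha => by
    show Ideal.Quotient.mk 𝔟C (algebraMap A C a) = 0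
    rw [Ideal.Quotient.eq_zero_iff_mem]
    exact Ideal.mem_map_of_mem _ ha
  let ρ : C ⧸ J →ₐ[A] C₁ ⧸ J₁ :=
    Ideal.quotientMapₐ J₁ (Ideal.Quotient.mkₐ A 𝔟C) Ideal.le_comap_map
  have hρ : ∀ c : C, ρ (Ideal.Quotient.mk J c) =
      Ideal.Quotient.mk J₁ (Ideal.Quotient.mk 𝔟C c) := fun c => rfl
  let ψ₁ : B →ₐ[A] C₁ ⧸ J₁ := ρ.comp ψ
  obtain ⟨χ₁, hχ₁⟩ := h𝔟 C₁ hC₁ J₁ hJ₁ ψ₁
    ⟨k, fun x hx => by show ρ (ψ x) = 0; rw [hk x hx, map_zero]⟩
  have hχ₁ψ : ∀ b, Ideal.Quotient.mk J₁ (χ₁ b) = ρ (ψ b) := fun b => AlgHom.congr_fun hχ₁ b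
  have hχ₁k : ∀ x ∈ 𝔫 ^ (2 * k), χ₁ x = 0 := by
    intro x hx
    rw [two_mul, pow_add] at hx
    refine Submodule.mul_induction_on hx ?_ ?_
    · intro y hy z hz
      have hy' : χ₁ y ∈ J₁ := by
        rw [← Ideal.Quotient.eq_zero_iff_mem, hχ₁ψ, hk y hy, map_zero]
      have hz' : χ₁ z ∈ J₁ := by
        rw [← Ideal.Quotient.eq_zero_iff_mem, hχ₁ψ, hk z hz, map_zero]
      rw [map_mul]
      have h1 : χ₁ y * χ₁ z ∈ J₁ ^ 2 := by
        rw [sq]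
        exact Ideal.mul_mem_mul hy' hz'
      rwa [hJ₁, Ideal.mem_bot] at h1
    · intro y z hy hz
      rw [map_add, hy, hz, add_zero]
  have hψk : ∀ x ∈ 𝔫 ^ (2 * k), ψ x = 0 := fun x hx =>
    hk x (Ideal.pow_le_pow_right (by omega) hx)
  -- the extension `E`
  let f₁ : C × B →ₐ[A] (C ⧸ J) × C₁ :=
    ((Ideal.Quotient.mkₐ A J).comp (AlgHom.fst A C B)).prod
      ((Ideal.Quotient.mkₐ A 𝔟C).comp (AlgHom.fst A C B))
  let f₂ : C × B →ₐ[A] (C ⧸ J) × C₁ :=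
    (ψ.comp (AlgHom.snd A C B)).prod (χ₁.comp (AlgHom.snd A C B))
  let E : Subalgebra A (C × B) := AlgHom.equalizer f₁ f₂
  have hE : ∀ x : C × B, x ∈ E ↔
      Ideal.Quotient.mk J x.1 = ψ x.2 ∧ Ideal.Quotient.mk 𝔟C x.1 = χ₁ x.2 := by
    intro x
    rw [AlgHom.mem_equalizer]
    exact Prod.ext_iff
  let π : E →ₐ[A] B := (AlgHom.snd A C B).comp E.val
  have hπ : ∀ x : E, π x = x.1.2 := fun x => rfl
  have hπsurj : Function.Surjective π := by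
    intro b
    obtain ⟨c₁, hc₁⟩ := Ideal.Quotient.mk_surjective (ψ b)
    obtain ⟨c₂, hc₂⟩ := Ideal.Quotient.mk_surjective (χ₁ b)
    have h1 : Ideal.Quotient.mk 𝔟C (c₁ - c₂) ∈ J₁ := by
      rw [← Ideal.Quotient.eq_zero_iff_mem, map_sub, map_sub, sub_eq_zero, hc₂, hχ₁ψ, ← hc₁, hρ]
    obtain ⟨j, hj, hj'⟩ := (Ideal.mem_map_iff_of_surjective (Ideal.Quotient.mk 𝔟C)
      Ideal.Quotient.mk_surjective).1 h1
    refine ⟨⟨(c₁ - j, b), (hE _).2 ⟨?_, ?_⟩⟩, rfl⟩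
    · show Ideal.Quotient.mk J (c₁ - j) = ψ b
      rw [map_sub, Ideal.Quotient.eq_zero_iff_mem.2 hj, sub_zero, hc₁]
    · show Ideal.Quotient.mk 𝔟C (c₁ - j) = χ₁ b
      rw [map_sub, hj', map_sub, hc₂]
      ring
  have hker : ∀ x : E, π x = 0 → x.1.1 ∈ J ∧ x.1.1 ∈ 𝔟C := by
    intro x hx
    have h1 := (hE x.1).1 x.2
    rw [hπ] at hx
    rw [hx, map_zero, map_zero] at h1
    exact ⟨Ideal.Quotient.eq_zero_iff_mem.1 h1.1, Ideal.Quotient.eq_zero_iff_mem.1 h1.2⟩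
  have hL2 : ∀ x y : E, π x = 0 → π y = 0 → x * y = 0 := by
    intro x y hx hy
    apply Subtype.ext
    apply Prod.ext
    · show x.1.1 * y.1.1 = 0
      have h1 : x.1.1 * y.1.1 ∈ J ^ 2 := by
        rw [sq]
        exact Ideal.mul_mem_mul (hker x hx).1 (hker y hy).1
      rwa [hJ, Ideal.mem_bot] at h1
    · show x.1.2 * y.1.2 = 0
      rw [hπ] at hx
      rw [hx, zero_mul]
  have hkillC : ∀ a ∈ 𝔞, ∀ c ∈ 𝔟C, algebraMap A C a * c = 0 := by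
    intro a ha c hc
    refine Submodule.span_induction ?_ ?_ ?_ ?_ hc
    · rintro _ ⟨b, hb, rfl⟩
      rw [← map_mul]
      exact hC _ (Ideal.mul_mem_mul ha hb)
    · rw [mul_zero]
    · intro y z _ _ hy hz
      rw [mul_add, hy, hz, add_zero]
    · intro c' y _ hy
      rw [smul_eq_mul, mul_left_comm, hy, mul_zero]
  have h𝔞L : ∀ a ∈ 𝔞, ∀ x : E, π x = 0 → a • x = 0 := by
    intro a ha x hx
    apply Subtype.ext
    apply Prod.ext
    · show a • x.1.1 = 0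
      rw [Algebra.smul_def]
      exact hkillC a ha _ (hker x hx).2
    · show a • x.1.2 = 0
      rw [hπ] at hx
      rw [hx, smul_zero]
  let 𝔘 : Ideal E := RingHom.ker ((AlgHom.fst A C B).comp E.val)
  have h𝔘 : ∀ x ∈ 𝔘, π x = 0 → x = 0 := by
    intro x hx hπx
    have h1 : x.1.1 = 0 := hx
    rw [hπ] at hπx
    exact Subtype.ext (Prod.ext h1 hπx)
  have h𝔘m : ∀ b ∈ 𝔫 ^ (2 * k), ∃ u ∈ 𝔘, π u = b := by
    intro b hb
    refine ⟨⟨(0, b), (hE _).2 ⟨?_, ?_⟩⟩, ?_, rfl⟩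
    · show Ideal.Quotient.mk J 0 = ψ b
      rw [map_zero, hψk b hb]
    · show Ideal.Quotient.mk 𝔟C 0 = χ₁ b
      rw [map_zero, hχ₁k b hb]
    · show (0 : C) = 0
      rfl
  obtain ⟨s, hs⟩ := exists_section π hπsurj 𝔞 𝔫 h𝔞 hL2 h𝔞L 𝔘 h𝔘 (2 * k) h𝔘m
  refine ⟨(AlgHom.fst A C B).comp (E.val.comp s), ?_⟩
  ext b
  show Ideal.Quotient.mk J (s b).1.1 = ψ b
  rw [((hE (s b).1).1 (s b).2).1, ← hπ, hs]

theorem LiftKilled.pow [Module.Flat A B] [IsNoetherianRing B] {𝔞 : Ideal A} {𝔫 : Ideal B}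
    (h𝔞 : LiftKilled A B 𝔞 𝔫) (n : ℕ) : LiftKilled A B (𝔞 ^ (n + 1)) 𝔫 := by
  induction n with
  | zero => rwa [zero_add, pow_one]
  | succ n ih =>
    rw [pow_succ']
    exact h𝔞.mul ih

end Step

end Groth.Agent.Lib.FSFiberH3
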