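import Mathlib
import Groth.Agent.Lib.FSFiber_helper3

/-!
# Flat + adically formally smooth closed fibre ⇒ adically formally smooth: consequences

* `adic_of_flat_of_liftKilled`
* local case, closed fibre `κ(𝔪_A) ⊗_A B`: `liftKilled_of_fiber`, `fiber_adic_of_adic`.
APPEND-ONLY once landed.
-/

set_option autoImplicit false
set_option maxSynthPendingDepth 3

namespace Groth.Agent.Lib.FSFiberH3

universe u

open TensorProduct IsLocalRing

section General

variable {A B : Type u} [CommRing A] [CommRing B] [Algebra A B]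

theorem LiftKilled.mono {𝔞 𝔟 : Ideal A} {𝔫 : Ideal B} (hle : 𝔞 ≤ 𝔟)
    (h : LiftKilled A B 𝔞 𝔫) : LiftKilled A B 𝔟 𝔫 := by
  intro C _ _ hC J hJ ψ hψ
  exact h C (fun a ha => hC a (hle ha)) J hJ ψ hψ

/-- **EGA 0_IV 19.7.1, (b) ⇒ (a)** in the lifting form. -/
theorem adic_of_flat_of_liftKilled [Module.Flat A B] [IsNoetherianRing B] {𝔞 : Ideal A}
    {𝔫 : Ideal B} (h : LiftKilled A B 𝔞 𝔫) (hle : 𝔞.map (algebraMap A B) ≤ 𝔫) :
    CAlgX.IsAdicFormallySmooth A B 𝔫 := by
  intro C _ _ J hJ ψ ⟨k, hk⟩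
  -- `C` is killed by `𝔞 ^ (2 * k)`
  have h1 : ∀ a ∈ 𝔞 ^ k, algebraMap A C a ∈ J := by
    intro a ha
    have h2 : algebraMap A B a ∈ 𝔫 ^ k := by
      have h3 : algebraMap A B a ∈ (𝔞 ^ k).map (algebraMap A B) := Ideal.mem_map_of_mem _ ha
      rw [Ideal.map_pow] at h3
      exact Ideal.pow_right_mono hle k h3
    have h4 := hk _ h2
    rw [AlgHom.commutes] at h4
    exact Ideal.Quotient.eq_zero_iff_mem.1 h4
  have h2 : ∀ a ∈ 𝔞 ^ (2 * k + 1), algebraMap A C a = 0 := by
    intro a ha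
    have ha' : a ∈ 𝔞 ^ k * 𝔞 ^ k := by
      rw [← pow_add, ← two_mul]
      exact Ideal.pow_le_pow_right (Nat.le_succ _) ha
    refine Submodule.mul_induction_on ha' ?_ ?_
    · intro x hx y hy
      have h3 : algebraMap A C x * algebraMap A C y ∈ J ^ 2 := by
        rw [sq]
        exact Ideal.mul_mem_mul (h1 x hx) (h1 y hy)
      rw [hJ, Ideal.mem_bot] at h3
      rw [map_mul, h3]
    · intro x y hx hy
      rw [map_add, hx, hy, add_zero]
  exact (h.pow (2 * k)) C h2 J hJ ψ ⟨k, hk⟩

end General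

section Fiber

variable {A B : Type u} [CommRing A] [CommRing B] [IsLocalRing A] [IsLocalRing B] [Algebra A B]
  [IsLocalHom (algebraMap A B)]

local notation "κ" => Ideal.ResidueField (maximalIdeal A)
local notation "F" => Ideal.Fiber (maximalIdeal A) B

theorem fiber_includeRight_surjective :
    Function.Surjective (Algebra.TensorProduct.includeRight : B →ₐ[A] F) := by
  intro z
  induction z using TensorProduct.induction_on with
  | zero => exact ⟨0, map_zero _⟩
  | tmul c b =>
    obtain ⟨a, rfl⟩ := Ideal.algebraMap_residueField_surjective (maximalIdeal A) c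
    refine ⟨a • b, ?_⟩
    show (1 : κ) ⊗ₜ[A] (a • b) = algebraMap A κ a ⊗ₜ[A] b
    rw [← TensorProduct.smul_tmul, Algebra.smul_def, mul_one]
  | add x y hx hy =>
    obtain ⟨b, rfl⟩ := hx
    obtain ⟨b', rfl⟩ := hy
    exact ⟨b + b', map_add _ _ _⟩

theorem fiber_nontrivial [Module.Flat A B] : Nontrivial F := by
  haveI : Module.FaithfullyFlat A B := Module.FaithfullyFlat.of_flat_of_isLocalHom
  exact (Module.FaithfullyFlat.nontrivial_tensorProduct_iff_left A κ (N := B)).2 inferInstance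

theorem fiber_isLocalRing [Module.Flat A B] : IsLocalRing F := by
  haveI := fiber_nontrivial (A := A) (B := B)
  exact IsLocalRing.of_surjective' (Algebra.TensorProduct.includeRight : B →ₐ[A] F).toRingHom
    fiber_includeRight_surjective

theorem fiber_isNoetherianRing [IsNoetherianRing B] : IsNoetherianRing F :=
  isNoetherianRing_of_surjective B F
    (Algebra.TensorProduct.includeRight : B →ₐ[A] F).toRingHom fiber_includeRight_surjective

theorem fiber_map_maximalIdeal [IsLocalRing F] :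
    (maximalIdeal B).map (Algebra.TensorProduct.includeRight : B →ₐ[A] F).toRingHom =
      maximalIdeal F := by
  haveI : IsLocalHom (Algebra.TensorProduct.includeRight : B →ₐ[A] F).toRingHom :=
    IsLocalHom.of_surjective _ fiber_includeRight_surjective
  rw [← IsLocalRing.maximalIdeal_comap
    (Algebra.TensorProduct.includeRight : B →ₐ[A] F).toRingHom,
    Ideal.map_comap_of_surjective
      (Algebra.TensorProduct.includeRight : B →ₐ[A] F).toRingHom fiber_includeRight_surjective]

/-- the closed fibre adically formally smooth ⇒ lifting property against algebras killed by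
`𝔪_A` -/
theorem liftKilled_of_fiber [IsLocalRing F]
    (h : CAlgX.IsAdicFormallySmooth κ F (maximalIdeal F)) :
    LiftKilled A B (maximalIdeal A) (maximalIdeal B) := by
  intro C _ _ hC J hJ ψ ⟨k, hk⟩
  let φ : κ →+* C := Ideal.ResidueField.lift (maximalIdeal A) (algebraMap A C)
    (fun a ha => hC a ha) (fun a ha => by
      have hu : IsUnit a := by
        by_contra hna
        exact ha ((mem_maximalIdeal a).2 hna)
      exact hu.map (algebraMap A C))
  letI : Algebra κ C := φ.toAlgebra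
  haveI : IsScalarTower A κ C := IsScalarTower.of_algebraMap_eq (fun a => by
    show algebraMap A C a = φ (algebraMap A κ a)
    rw [Ideal.ResidueField.lift_algebraMap])
  let ψF : F →ₐ[κ] C ⧸ J :=
    Algebra.TensorProduct.lift (Algebra.ofId κ (C ⧸ J)) ψ (fun _ _ => Commute.all _ _)
  have hψF : ∀ b : B, ψF ((1 : κ) ⊗ₜ[A] b) = ψ b := fun b => by
    show Algebra.TensorProduct.lift (Algebra.ofId κ (C ⧸ J)) ψ _ ((1 : κ) ⊗ₜ[A] b) = _
    rw [Algebra.TensorProduct.lift_tmul, map_one, one_mul]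
  have hψFk : ∃ j : ℕ, ∀ x ∈ maximalIdeal F ^ j, ψF x = 0 := by
    refine ⟨k, fun x hx => ?_⟩
    rw [← fiber_map_maximalIdeal, ← Ideal.map_pow] at hx
    obtain ⟨b, hb, rfl⟩ := (Ideal.mem_map_iff_of_surjective _ fiber_includeRight_surjective).1 hx
    show ψF ((1 : κ) ⊗ₜ[A] b) = 0
    rw [hψF, hk b hb]
  obtain ⟨χF, hχF⟩ := h C J hJ ψF hψFk
  refine ⟨(χF.restrictScalars A).comp (Algebra.TensorProduct.includeRight : B →ₐ[A] F), ?_⟩
  ext b
  have h1 := AlgHom.congr_fun hχF ((1 : κ) ⊗ₜ[A] b)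
  rw [hψF] at h1
  exact h1

/-- base change to the closed fibre -/
theorem fiber_adic_of_adic [IsLocalRing F]
    (h : CAlgX.IsAdicFormallySmooth A B (maximalIdeal B)) :
    CAlgX.IsAdicFormallySmooth κ F (maximalIdeal F) := by
  intro C _ _ J hJ ψF ⟨k, hk⟩
  letI : Algebra A C := Algebra.compHom C (algebraMap A κ)
  haveI : IsScalarTower A κ C := IsScalarTower.of_algebraMap_eq (fun _ => rfl)
  let ψ : B →ₐ[A] C ⧸ J :=
    (ψF.restrictScalars A).comp (Algebra.TensorProduct.includeRight : B →ₐ[A] F)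
  have hψk : ∃ j : ℕ, ∀ x ∈ maximalIdeal B ^ j, ψ x = 0 := by
    refine ⟨k, fun x hx => ?_⟩
    show ψF ((Algebra.TensorProduct.includeRight : B →ₐ[A] F).toRingHom x) = 0
    apply hk
    rw [← fiber_map_maximalIdeal, ← Ideal.map_pow]
    exact Ideal.mem_map_of_mem _ hx
  obtain ⟨χ, hχ⟩ := h C J hJ ψ hψk
  let χF : F →ₐ[κ] C :=
    Algebra.TensorProduct.lift (Algebra.ofId κ C) χ (fun _ _ => Commute.all _ _)
  refine ⟨χF, ?_⟩
  apply Algebra.TensorProduct.ext
  · ext
  · ext b
    show Ideal.Quotient.mk J (χF ((1 : κ) ⊗ₜ[A] b)) = ψF ((1 : κ) ⊗ₜ[A] b)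
    have h1 : χF ((1 : κ) ⊗ₜ[A] b) = χ b := by
      show Algebra.TensorProduct.lift (Algebra.ofId κ C) χ _ ((1 : κ) ⊗ₜ[A] b) = _
      rw [Algebra.TensorProduct.lift_tmul, map_one, one_mul]
    rw [h1]
    exact AlgHom.congr_fun hχ b

end Fiber

end Groth.Agent.Lib.FSFiberH3
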