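import Mathlib
import Groth.Prelude.Def_Found
import Groth.Prelude.Def_EGA4b
import Groth.Prelude.Def_EGA41
import Groth.Prelude.Def_CAlgX
import Groth.Agent.Lib.GRingMaximal_helper3
import Groth.Agent.Lib.FSFiber2_helper3
import Groth.Agent.Lib.FSRegular_helper3
import Groth.Agent.S4537

/-!
# Formal smoothness consequences of regularity of completion maps (helper3)
-/

set_option autoImplicit false
set_option maxSynthPendingDepth 3

namespace Groth.Agent.Lib.GRingFSH3

universe u

open TensorProduct IsLocalRing Groth.Agent.Lib.RegFlatH3 Groth.Agent.Lib.RegHomBCH3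

/-- a Noetherian local algebra over a field that is geometrically regular is adically formally
smooth -/
theorem adic_of_isGeometricallyRegular_local (k T : Type u) [Field k] [CommRing T] [IsLocalRing T]
    [IsNoetherianRing T] [Algebra k T] (h : CAlg.IsGeometricallyRegular k T) :
    CAlgX.IsAdicFormallySmooth k T (maximalIdeal T) := by
  have h1 := (Groth.Agent.Lib.GeomRegFSH3.isGeometricallyRegular_iff_forall_adic).1 h
    (maximalIdeal T)
  have hunits : ∀ x : T, x ∈ (maximalIdeal T).primeCompl → IsUnit x := by
    intro x hx
    by_contra hx'
    exact hx ((mem_maximalIdeal x).2 hx')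
  let e : T ≃ₐ[T] Localization.AtPrime (maximalIdeal T) :=
    IsLocalization.atUnits T (maximalIdeal T).primeCompl hunits
  exact Groth.Agent.Lib.FSRegularH3.isAdicFormallySmooth_of_algEquiv (e.restrictScalars k) h1

/-- a regular local homomorphism of Noetherian local rings is formally smooth for the adic
topologies -/
theorem isFormallySmoothAdic_of_isRegularHom (A B : Type u) [CommRing A] [CommRing B]
    [IsLocalRing A] [IsLocalRing B] [IsNoetherianRing B] [Algebra A B]
    [IsLocalHom (algebraMap A B)] (h : CAlg.IsRegularHom A B) :
    CAlgX.IsAdicFormallySmooth A B (maximalIdeal B) ∧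
      EGA41.IsFormallySmoothAdic A (maximalIdeal A) B (maximalIdeal B) := by
  haveI : Module.Flat A B := h.1
  haveI := Groth.Agent.Lib.FSFiberH3.fiber_isLocalRing (A := A) (B := B)
  haveI : IsNoetherianRing ((maximalIdeal A).Fiber B) := (h.2 (maximalIdeal A)).1
  have h1 : CAlgX.IsAdicFormallySmooth (maximalIdeal A).ResidueField ((maximalIdeal A).Fiber B)
      (maximalIdeal ((maximalIdeal A).Fiber B)) :=
    adic_of_isGeometricallyRegular_local _ _ (h.2 (maximalIdeal A)).2
  have hAB : (maximalIdeal A).map (algebraMap A B) ≤ maximalIdeal B :=
    ((local_hom_TFAE (algebraMap A B)).out 0 2).1 ‹IsLocalHom (algebraMap A B)›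
  have h2 : CAlgX.IsAdicFormallySmooth A B (maximalIdeal B) :=
    Groth.Agent.Lib.FSFiberH3.adic_of_flat_of_liftKilled
      (Groth.Agent.Lib.FSFiberH3.liftKilled_of_fiber h1) hAB
  refine ⟨h2, ?_⟩
  have h0 : EGA41.IsFormallySmoothAdic A ⊥ B (maximalIdeal B) :=
    (Groth.Agent.S4537.result _).1 h2
  intro C _ _ J hJ _ u hu
  exact h0 C J hJ ⟨1, by rw [pow_one, Ideal.map_bot]⟩ u hu

section S4582

variable {A : Type u} [CommRing A] [IsLocalRing A] [IsNoetherianRing A]
  [IsAdicComplete (maximalIdeal A) A] (p : Ideal A) [p.IsPrime]
  (q : Ideal (AdicCompletion (maximalIdeal (Localization.AtPrime p)) (Localization.AtPrime p)))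
  [q.IsPrime]

theorem isRegularHom_localization_localization
    [Algebra (Localization.AtPrime (q.comap (algebraMap (Localization.AtPrime p)
        (AdicCompletion (maximalIdeal (Localization.AtPrime p)) (Localization.AtPrime p)))))
      (Localization.AtPrime q)]
    [IsScalarTower (Localization.AtPrime p)
      (Localization.AtPrime (q.comap (algebraMap (Localization.AtPrime p)
        (AdicCompletion (maximalIdeal (Localization.AtPrime p)) (Localization.AtPrime p)))))
      (Localization.AtPrime q)] :
    CAlg.IsRegularHom
      (Localization.AtPrime (q.comap (algebraMap (Localization.AtPrime p)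
        (AdicCompletion (maximalIdeal (Localization.AtPrime p)) (Localization.AtPrime p)))))
      (Localization.AtPrime q) := by
  obtain ⟨hloc, hnoeth, hcompl, hff, hlh, hmap⟩ :=
    AnUnramH3.completion_facts (Localization.AtPrime p)
  haveI := hnoeth
  have hB := Groth.Agent.Lib.GRingCompleteH3.isRegularHom_localization_cpl A p
  have h1 : CAlg.IsRegularHom (Localization.AtPrime p) (Localization.AtPrime q) :=
    isRegularHom_localization_target (Localization.AtPrime p)
      (EGA4.Cpl (Localization.AtPrime p)) hB q.primeCompl (Localization.AtPrime q)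
  haveI : IsNoetherianRing (Localization.AtPrime q) :=
    IsLocalization.isNoetherianRing q.primeCompl _ inferInstance
  exact Groth.Agent.Lib.GRingMaximalH3.isRegularHom_localization_source
    (Localization.AtPrime p) (Localization.AtPrime q) h1
    (q.comap (algebraMap (Localization.AtPrime p)
      (AdicCompletion (maximalIdeal (Localization.AtPrime p))
        (Localization.AtPrime p)))).primeCompl _

theorem isLocalHom_localization_localization
    [Algebra (Localization.AtPrime (q.comap (algebraMap (Localization.AtPrime p)
        (AdicCompletion (maximalIdeal (Localization.AtPrime p)) (Localization.AtPrime p)))))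
      (Localization.AtPrime q)]
    [IsScalarTower (Localization.AtPrime p)
      (Localization.AtPrime (q.comap (algebraMap (Localization.AtPrime p)
        (AdicCompletion (maximalIdeal (Localization.AtPrime p)) (Localization.AtPrime p)))))
      (Localization.AtPrime q)] :
    IsLocalHom (algebraMap
      (Localization.AtPrime (q.comap (algebraMap (Localization.AtPrime p)
        (AdicCompletion (maximalIdeal (Localization.AtPrime p)) (Localization.AtPrime p)))))
      (Localization.AtPrime q)) := by
  obtain ⟨r, hr⟩ : ∃ r : Ideal (Localization.AtPrime p), r = q.comap (algebraMap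
      (Localization.AtPrime p)
      (AdicCompletion (maximalIdeal (Localization.AtPrime p)) (Localization.AtPrime p))) :=
    ⟨_, rfl⟩
  apply ((IsLocalRing.local_hom_TFAE _).out 0 2).mpr
  have hrmax : maximalIdeal (Localization.AtPrime (q.comap (algebraMap (Localization.AtPrime p)
        (AdicCompletion (maximalIdeal (Localization.AtPrime p)) (Localization.AtPrime p))))) =
      (q.comap (algebraMap (Localization.AtPrime p)
        (AdicCompletion (maximalIdeal (Localization.AtPrime p)) (Localization.AtPrime p)))).map
        (algebraMap (Localization.AtPrime p) _) :=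
    (Localization.AtPrime.map_eq_maximalIdeal).symm
  have hqmax : maximalIdeal (Localization.AtPrime q) =
      q.map (algebraMap (AdicCompletion (maximalIdeal (Localization.AtPrime p))
        (Localization.AtPrime p)) (Localization.AtPrime q)) :=
    (Localization.AtPrime.map_eq_maximalIdeal (I := q)).symm
  rw [hrmax, Ideal.map_map, ← IsScalarTower.algebraMap_eq (Localization.AtPrime p) _
    (Localization.AtPrime q), Ideal.map_le_iff_le_comap]
  intro b hb
  rw [Ideal.mem_comap, IsScalarTower.algebraMap_apply (Localization.AtPrime p)
    (AdicCompletion (maximalIdeal (Localization.AtPrime p)) (Localization.AtPrime p))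
    (Localization.AtPrime q), hqmax]
  exact Ideal.mem_map_of_mem _ hb

end S4582

end Groth.Agent.Lib.GRingFSH3
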