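import Mathlib
import Groth.Agent.Lib.FSFlat_helper3

/-!
# Adic formal smoothness implies flatness: the core retract argument (EGA 0_IV 19.7.1)
APPEND-ONLY once landed.
-/

set_option autoImplicit false
set_option maxSynthPendingDepth 3

namespace Groth.Agent.Lib.FSFlatH3

universe u

open IsLocalRing TensorProduct EGA41 Groth.Agent.Lib.CohenLiftH3 Groth.Agent.Lib.CohenStructH3

theorem flat_aux {A B : Type u} [CommRing A] [IsLocalRing A] [IsNoetherianRing A]
    [CommRing B] [IsLocalRing B] [IsNoetherianRing B]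
    [Algebra A B] [IsLocalHom (algebraMap A B)] (t : ℕ) (ht : maximalIdeal A ^ t = ⊥)
    (h : IsFormallySmoothAdic A ⊥ B (maximalIdeal B))
    {Λ : Type u} [CommRing Λ] [IsLocalRing Λ] (hΛ : IsCohenRingEGA Λ) (v : Λ →+* A)
    (hvsurj : Function.Surjective ((residue A).comp v))
    (hvloc : ∀ a ∈ maximalIdeal Λ, v a ∈ maximalIdeal A)
    {S : Type u} [CommRing S] [IsDomain S] [CharZero S] [IsLocalRing S] [IsNoetherianRing S]
    [IsAdicComplete (maximalIdeal S) S]
    (f : S →+* B) (hf : Function.Surjective f) : Module.Flat A B := by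
  classical
  obtain ⟨hΛdom, hΛpid, hΛnoeth, hΛcomp, hΛchar⟩ := cohenEGA_facts hΛ
  haveI := hΛdom
  haveI := hΛpid
  haveI := hΛnoeth
  haveI := hΛcomp
  -- the lift `φ : Λ → S`
  let e := RingHom.quotientKerEquivOfSurjective hf
  haveI : IsLocalRing (S ⧸ RingHom.ker f) := e.symm.isLocalRing
  let u : Λ →+* S ⧸ RingHom.ker f :=
    (e.symm : B →+* S ⧸ RingHom.ker f).comp ((algebraMap A B).comp v)
  have hu : ∀ a, e (u a) = algebraMap A B (v a) := fun a => by
    show e (e.symm (algebraMap A B (v a))) = _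
    rw [RingEquiv.apply_symm_apply]
  haveI : IsLocalHom u := ⟨fun a ha => by
    by_contra hna
    have h1 : v a ∈ maximalIdeal A := hvloc a ((mem_maximalIdeal a).2 hna)
    have h2 : IsUnit (algebraMap A B (v a)) := by
      rw [← hu]
      exact ha.map (e : S ⧸ RingHom.ker f →+* B)
    exact ((mem_maximalIdeal _).1 h1) (isUnit_of_map_unit (algebraMap A B) _ h2)⟩
  obtain ⟨φ, hφloc, hφ⟩ := exists_lift_to_complete hΛ (RingHom.ker f) (RingHom.ker_ne_top f) u
  have hfφ : ∀ a, f (φ a) = algebraMap A B (v a) := fun a => by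
    rw [← hu, ← RingHom.congr_fun hφ a]
    rfl
  -- injectivity of `φ`
  have hφinj : Function.Injective φ := by
    rw [injective_iff_map_eq_zero]
    intro a ha
    by_contra hne
    obtain ⟨p, hp⟩ := CharP.exists (ResidueField Λ)
    haveI := hp
    obtain ⟨-, -, hmax, -⟩ := cohen_basic hΛ p
    obtain ⟨m, y, hy, hay⟩ := exists_unit_mul_pow p hmax a hne
    rw [hay, map_mul, map_pow, map_natCast] at ha
    have hy' : IsUnit (φ y) := hy.map φ
    have hpm : ((p : S)) ^ m = 0 := by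
      rcases mul_eq_zero.1 ha with h0 | h0
      · exact h0
      · exact absurd h0 hy'.ne_zero
    rcases Nat.eq_zero_or_pos m with hm | hm
    · rw [hm, pow_zero] at hpm
      exact one_ne_zero hpm
    · have hp0 : (p : S) = 0 := (pow_eq_zero_iff (Nat.pos_iff_ne_zero.1 hm)).1 hpm
      have hp0' : p = 0 := Nat.cast_eq_zero.1 hp0
      apply hne
      rw [hay, hp0', Nat.cast_zero, zero_pow (Nat.pos_iff_ne_zero.1 hm), zero_mul]
  -- algebra structures
  letI algΛA : Algebra Λ A := v.toAlgebra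
  letI algΛS : Algebra Λ S := φ.toAlgebra
  letI algΛB : Algebra Λ B := ((algebraMap A B).comp v).toAlgebra
  haveI : IsScalarTower Λ A B := IsScalarTower.of_algebraMap_eq (fun a => rfl)
  let fΛ : S →ₐ[Λ] B := { f with commutes' := fun a => hfφ a }
  -- `S` is flat over `Λ`
  haveI : Module.Flat Λ S := by
    rw [Module.Flat.flat_iff_torsion_eq_bot_of_isBezout]
    haveI : FaithfulSMul Λ S := (faithfulSMul_iff_algebraMap_injective Λ S).2 hφinj
    exact Submodule.isTorsionFree_iff_torsion_eq_bot.1 inferInstance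
  -- `A` is finite over `Λ`
  haveI : Module.Finite Λ A := by
    let r : A →ₐ[Λ] ResidueField A := { residue A with commutes' := fun a => rfl }
    haveI : Module.Finite Λ (ResidueField A) :=
      Module.Finite.of_surjective (Algebra.linearMap Λ (ResidueField A)) hvsurj
    have hker : RingHom.ker r = maximalIdeal A := IsLocalRing.ker_residue
    refine Module.finite_of_surjective_of_ker_le_nilradical r residue_surjective ?_ ?_
    · rw [hker]
      intro x hx
      rw [mem_nilradical]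
      refine ⟨t, ?_⟩
      have : x ^ t ∈ maximalIdeal A ^ t := Ideal.pow_mem_pow hx t
      rwa [ht, Ideal.mem_bot] at this
    · rw [hker]
      exact IsNoetherian.noetherian _
  -- the flat `A`-algebra `D`
  let D := A ⊗[Λ] S
  let ρ : D →ₐ[A] B := Algebra.TensorProduct.lift (Algebra.ofId A B) fΛ (fun _ _ => Commute.all _ _)
  have hρtmul : ∀ (a : A) (s : S), ρ (a ⊗ₜ[Λ] s) = algebraMap A B a * f s := fun a s => by
    show Algebra.TensorProduct.lift (Algebra.ofId A B) fΛ _ (a ⊗ₜ[Λ] s) = _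
    rw [Algebra.TensorProduct.lift_tmul]
    rfl
  have hρsurj : Function.Surjective ρ := fun b => by
    obtain ⟨s, rfl⟩ := hf b
    exact ⟨(1 : A) ⊗ₜ[Λ] s, by rw [hρtmul, map_one, one_mul]⟩
  let D' := S ⊗[Λ] A
  haveI : IsNoetherianRing D' := IsNoetherianRing.of_finite S D'
  let e' : D' ≃+* D := (Algebra.TensorProduct.comm Λ S A).toRingEquiv
  haveI : IsNoetherianRing D := isNoetherianRing_of_ringEquiv D' e'
  let ιS : S →+* D := (Algebra.TensorProduct.includeRight : S →ₐ[Λ] A ⊗[Λ] S).toRingHom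
  have hιS : ∀ s, ιS s = (1 : A) ⊗ₜ[Λ] s := fun s => rfl
  let 𝔠 : Ideal D := (maximalIdeal S).map ιS
  haveI hcD : IsAdicComplete 𝔠 D := by
    haveI hc1 : IsAdicComplete (maximalIdeal S) D' :=
      Groth.Agent.S3866.result S (maximalIdeal S) D'
    haveI hc2 : IsAdicComplete ((maximalIdeal S).map (algebraMap S D')) D' :=
      (IsAdicComplete.map_algebraMap_iff (I := maximalIdeal S) (S := D') (M := D')).mpr hc1
    have h𝔠 : 𝔠 = ((maximalIdeal S).map (algebraMap S D')).map e' := by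
      show _ = ((maximalIdeal S).map (algebraMap S D')).map (e' : D' →+* D)
      rw [Ideal.map_map]
      congr 1
    rw [h𝔠]
    exact (IsAdicComplete.congr_ringEquiv _ e').mpr hc2
  let N : Ideal D := (maximalIdeal A).map (algebraMap A D)
  have hN : N ^ t = ⊥ := by
    show ((maximalIdeal A).map (algebraMap A D)) ^ t = ⊥
    rw [← Ideal.map_pow, ht, Ideal.map_bot]
  let J : Ideal D := RingHom.ker ρ
  have hdec : ∀ d : D, ∃ s : S, d - (1 : A) ⊗ₜ[Λ] s ∈ N := by
    intro d
    induction d using TensorProduct.induction_on with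
    | zero => exact ⟨0, by rw [TensorProduct.tmul_zero, sub_zero]; exact Ideal.zero_mem _⟩
    | tmul a s =>
      obtain ⟨l, hl⟩ := hvsurj (residue A a)
      have hm : a - v l ∈ maximalIdeal A := by
        rw [← residue_eq_zero_iff, map_sub, sub_eq_zero]
        exact hl.symm
      refine ⟨φ l * s, ?_⟩
      have h1 : (1 : A) ⊗ₜ[Λ] (φ l * s) = (v l) ⊗ₜ[Λ] s := by
        have h2 : φ l * s = l • s := (Algebra.smul_def l s).symm
        have h3 : v l = l • (1 : A) := by
          rw [Algebra.smul_def, mul_one]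
          rfl
        rw [h2, h3, TensorProduct.smul_tmul]
      have h4 : a ⊗ₜ[Λ] s - (1 : A) ⊗ₜ[Λ] (φ l * s) =
          algebraMap A D (a - v l) * ((1 : A) ⊗ₜ[Λ] s) := by
        rw [h1, Algebra.TensorProduct.algebraMap_apply, Algebra.TensorProduct.tmul_mul_tmul,
          mul_one, one_mul, ← TensorProduct.sub_tmul]
        rfl
      rw [h4]
      exact Ideal.mul_mem_right _ _ (Ideal.mem_map_of_mem _ hm)
    | add x y hx hy =>
      obtain ⟨s1, h1⟩ := hx
      obtain ⟨s2, h2⟩ := hy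
      refine ⟨s1 + s2, ?_⟩
      rw [TensorProduct.tmul_add]
      have h3 : x + y - ((1 : A) ⊗ₜ[Λ] s1 + (1 : A) ⊗ₜ[Λ] s2) =
          (x - (1 : A) ⊗ₜ[Λ] s1) + (y - (1 : A) ⊗ₜ[Λ] s2) := by ring
      rw [h3]
      exact Ideal.add_mem _ h1 h2
  have hmA : ∀ a ∈ maximalIdeal A, algebraMap A B a ∈ maximalIdeal B := fun a ha =>
    (mem_maximalIdeal _).2 (fun hu' =>
      ((mem_maximalIdeal _).1 ha) (isUnit_of_map_unit (algebraMap A B) a hu'))
  have hρN : ∀ z ∈ N, ρ z ∈ maximalIdeal B := by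
    have hle : N ≤ (maximalIdeal B).comap ρ.toRingHom := by
      show (maximalIdeal A).map (algebraMap A D) ≤ _
      rw [Ideal.map_le_iff_le_comap]
      intro a ha
      show ρ (algebraMap A D a) ∈ maximalIdeal B
      rw [AlgHom.commutes]
      exact hmA a ha
    exact fun z hz => hle hz
  haveI : IsLocalHom f := IsLocalHom.of_surjective f hf
  have hfloc : ∀ s : S, f s ∈ maximalIdeal B → s ∈ maximalIdeal S := fun s hs => by
    rw [mem_maximalIdeal, mem_nonunits_iff]
    intro hu'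
    exact ((mem_maximalIdeal _).1 hs) (hu'.map f)
  have hJle : J ≤ 𝔠 ⊔ N := by
    intro d hd
    obtain ⟨s, hs⟩ := hdec d
    have hd0 : ρ d = 0 := hd
    have h2 : f s ∈ maximalIdeal B := by
      have h3 := hρN _ hs
      rw [map_sub, hd0, zero_sub, hρtmul, map_one, one_mul] at h3
      exact (Ideal.neg_mem_iff _).1 h3
    have h3 : s ∈ maximalIdeal S := hfloc s h2
    have h4 : d = ιS s + (d - (1 : A) ⊗ₜ[Λ] s) := by
      rw [hιS]
      ring
    rw [h4]
    exact Ideal.add_mem _ (Ideal.mem_sup_left (Ideal.mem_map_of_mem _ h3))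
      (Ideal.mem_sup_right hs)
  have hJ : J ^ t ≤ 𝔠 := by
    refine (Ideal.pow_right_mono hJle t).trans ((sup_pow_le 𝔠 N t).trans ?_)
    rw [hN, sup_bot_eq]
  -- the isomorphism `D/J ≃ B`
  let eρ : (D ⧸ J) ≃ₐ[A] B := Ideal.quotientKerAlgEquivOfSurjective hρsurj
  have heρ : ∀ d : D, eρ (Ideal.Quotient.mk J d) = ρ d := fun d => rfl
  have h𝔠B : (𝔠.map (Ideal.Quotient.mk J)).map (eρ : D ⧸ J →+* B) ≤ maximalIdeal B := by
    rw [Ideal.map_map, Ideal.map_map, Ideal.map_le_iff_le_comap]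
    intro s hs
    show eρ (Ideal.Quotient.mk J (ιS s)) ∈ maximalIdeal B
    rw [heρ, hιS, hρtmul, map_one, one_mul]
    rw [mem_maximalIdeal, mem_nonunits_iff]
    intro hu'
    exact ((mem_maximalIdeal _).1 hs) (isUnit_of_map_unit f s hu')
  haveI hHaus : IsHausdorff (𝔠.map (Ideal.Quotient.mk J)) (D ⧸ J) := by
    have h1 : IsHausdorff ((𝔠.map (Ideal.Quotient.mk J)).map eρ.toRingEquiv) B :=
      IsHausdorff.of_isLocalRing _ _ (fun htop => by
        have : (⊤ : Ideal B) ≤ maximalIdeal B := htop ▸ h𝔠B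
        exact (maximalIdeal.isMaximal B).ne_top (top_le_iff.1 this))
    exact (IsHausdorff.congr_ringEquiv _ eρ.toRingEquiv).mp h1
  -- the section
  let u' : B →ₐ[A] D ⧸ J := (eρ.symm : B →ₐ[A] D ⧸ J)
  have hu' : ∃ k : ℕ, (maximalIdeal B ^ k).map u'.toRingHom ≤ 𝔠.map (Ideal.Quotient.mk J) := by
    refine ⟨1, ?_⟩
    rw [pow_one, Ideal.map_le_iff_le_comap]
    intro b hb
    obtain ⟨s, rfl⟩ := hf b
    have hs : s ∈ maximalIdeal S := hfloc s hb
    have h1 : u' (f s) = Ideal.Quotient.mk J (ιS s) := by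
      apply eρ.injective
      show eρ (eρ.symm (f s)) = _
      rw [AlgEquiv.apply_symm_apply, heρ, hιS, hρtmul, map_one, one_mul]
    rw [Ideal.mem_comap]
    show u' (f s) ∈ _
    rw [h1]
    exact Ideal.mem_map_of_mem _ (Ideal.mem_map_of_mem _ hs)
  obtain ⟨σ, -, hσ⟩ := Groth.Agent.S4542.result (A := A) (B := B) (C := D) ⊥ (maximalIdeal B) 𝔠 h
    ⟨1, by rw [pow_one, Ideal.map_bot]; exact bot_le⟩ J ⟨t, hJ⟩ u' hu'
  have hρσ : ∀ b, ρ (σ b) = b := fun b => by
    have h1 : Ideal.Quotient.mk J (σ b) = u' b := AlgHom.congr_fun hσ b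
    rw [← heρ, h1]
    exact eρ.apply_symm_apply b
  exact Module.Flat.of_retract σ.toLinearMap ρ.toLinearMap (LinearMap.ext hρσ)

end Groth.Agent.Lib.FSFlatH3
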