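import Mathlib
import Groth.Agent.Lib.FSFlat2_helper3
import Groth.Agent.Lib.FSAdicCompl_helper3
import Groth.Agent.Lib.CompletionRegular_helper5
import Groth.Agent.Lib.RegHomBC_helper3
import Groth.Agent.Lib.LocalCrit5_helper9
import Groth.Agent.S4536
import Groth.Agent.S4537

/-!
# Adic formal smoothness implies flatness (EGA 0_IV 19.7.1, (a) ⇒ flat)

`flat_of_isAdicFormallySmooth`: a local homomorphism `A → B` of Noetherian local rings which is
formally smooth for the `𝔪_B`-adic topology is flat.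
APPEND-ONLY once landed.
-/

set_option autoImplicit false
set_option maxSynthPendingDepth 3

namespace Groth.Agent.Lib.FSFlatH3

universe u

open IsLocalRing TensorProduct EGA41 Groth.Agent.Lib.CohenLiftH3 Groth.Agent.Lib.CohenStructH3

theorem flat_of_complete_of_nilpotent {A B : Type u} [CommRing A] [IsLocalRing A]
    [IsNoetherianRing A] [CommRing B] [IsLocalRing B] [IsNoetherianRing B]
    [IsAdicComplete (maximalIdeal B) B]
    [Algebra A B] [IsLocalHom (algebraMap A B)] (t : ℕ) (ht : maximalIdeal A ^ t = ⊥)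
    (h : IsFormallySmoothAdic A ⊥ B (maximalIdeal B)) : Module.Flat A B := by
  classical
  haveI : IsAdicComplete (maximalIdeal A) A :=
    Groth.Agent.Lib.CompleteFiniteH3.isAdicComplete_of_pow_le ⊥ (maximalIdeal A) t bot_le ht.le
  obtain ⟨Λ, _, _, v, hΛ, hvsurj, hvloc⟩ := exists_cohen_to A
  obtain ⟨W, _, _, w, hW, hwsurj, hwloc⟩ := exists_cohen_to B
  obtain ⟨hWdom, hWpid, hWnoeth, hWcomp, hWchar⟩ := cohenEGA_facts hW
  haveI := hWdom
  haveI := hWnoeth
  haveI := hWcomp
  haveI := hWchar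
  obtain ⟨n, x, hx⟩ := Submodule.fg_iff_exists_fin_generating_family.1
    (IsNoetherian.noetherian (maximalIdeal B))
  obtain ⟨f, hf⟩ := exists_surjective_mvPowerSeries w hwsurj hwloc n x hx
  haveI : IsAdicComplete (maximalIdeal (MvPowerSeries (Fin n) W)) (MvPowerSeries (Fin n) W) :=
    Groth.Agent.Lib.PSCompleteH1.isAdicComplete_maximalIdeal
  haveI : CharZero (MvPowerSeries (Fin n) W) :=
    charZero_of_injective_ringHom (f := (MvPowerSeries.C : W →+* MvPowerSeries (Fin n) W))
      MvPowerSeries.C_injective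
  haveI : IsDomain (MvPowerSeries (Fin n) W) := NoZeroDivisors.to_isDomain _
  exact flat_aux t ht h hΛ v hvsurj hvloc f hf

theorem flat_of_nilpotent {A B : Type u} [CommRing A] [IsLocalRing A]
    [IsNoetherianRing A] [CommRing B] [IsLocalRing B] [IsNoetherianRing B]
    [Algebra A B] [IsLocalHom (algebraMap A B)] (t : ℕ) (ht : maximalIdeal A ^ t = ⊥)
    (h : IsFormallySmoothAdic A ⊥ B (maximalIdeal B)) : Module.Flat A B := by
  haveI : IsNoetherianRing (AdicCompletion (maximalIdeal B) B) :=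
    Groth.Agent.RegularLib.isNoetherianRing_adicCompletion B (maximalIdeal B)
  have h' := Groth.Agent.Lib.FSAdicComplH3.isFormallySmoothAdic_adicCompletion ⊥ (maximalIdeal B) h
  rw [← AdicCompletion.maximalIdeal_eq_map] at h'
  haveI : IsLocalHom (algebraMap A (AdicCompletion (maximalIdeal B) B)) := by
    rw [IsScalarTower.algebraMap_eq A B (AdicCompletion (maximalIdeal B) B)]
    infer_instance
  haveI : Module.Flat A (AdicCompletion (maximalIdeal B) B) :=
    flat_of_complete_of_nilpotent t ht h'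
  haveI : Module.Flat B (AdicCompletion (maximalIdeal B) B) := AdicCompletion.flat_of_isNoetherian _
  haveI : Module.FaithfullyFlat B (AdicCompletion (maximalIdeal B) B) :=
    Module.FaithfullyFlat.of_flat_of_isLocalHom
  exact Groth.Agent.Lib.RegHomBCH3.flat_of_faithfullyFlat_comp A B
    (AdicCompletion (maximalIdeal B) B)

/-- **EGA 0_IV 19.7.1 (a) ⇒ flat**. -/
theorem flat_of_isAdicFormallySmooth {A B : Type u} [CommRing A] [IsLocalRing A]
    [IsNoetherianRing A] [CommRing B] [IsLocalRing B] [IsNoetherianRing B]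
    [Algebra A B] [IsLocalHom (algebraMap A B)]
    (h : CAlgX.IsAdicFormallySmooth A B (maximalIdeal B)) : Module.Flat A B := by
  have h0 : IsFormallySmoothAdic A ⊥ B (maximalIdeal B) := (Groth.Agent.S4537.result _).1 h
  have h1 : IsFormallySmoothAdic A (maximalIdeal A) B (maximalIdeal B) := by
    intro C _ _ J hJ _ u hu
    exact h0 C J hJ ⟨1, by rw [pow_one, Ideal.map_bot]⟩ u hu
  have hAB : (maximalIdeal A).map (algebraMap A B) ≤ maximalIdeal B :=
    ((local_hom_TFAE (algebraMap A B)).out 0 2).1 ‹IsLocalHom (algebraMap A B)›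
  have h2 := (Groth.Agent.S4536.result (maximalIdeal A) (maximalIdeal B)
    ⟨1, by rwa [pow_one]⟩).1 h1
  apply Groth.Agent.Lib.LocalCrit3.flat_of_forall_flat_quot_pow (maximalIdeal A)
    (hAB.trans (maximalIdeal_le_jacobson _)) B
  intro n
  rw [Groth.Agent.Lib.LocalCrit5.flat_tensor_iff_flat_quot]
  have hI : maximalIdeal A ^ (n + 1) ≠ ⊤ := fun htop =>
    (maximalIdeal.isMaximal A).ne_top
      (top_le_iff.1 (htop ▸ Ideal.pow_le_self (Nat.succ_ne_zero n)))
  have hIB : (maximalIdeal A ^ (n + 1)).map (algebraMap A B) ≠ ⊤ := fun htop =>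
    (maximalIdeal.isMaximal B).ne_top
      (top_le_iff.1 (htop ▸ (Ideal.map_mono (Ideal.pow_le_self (Nat.succ_ne_zero n))).trans hAB))
  haveI : Nontrivial (A ⧸ maximalIdeal A ^ (n + 1)) := Ideal.Quotient.nontrivial_iff.2 hI
  haveI : IsLocalRing (A ⧸ maximalIdeal A ^ (n + 1)) :=
    IsLocalRing.of_surjective' (Ideal.Quotient.mk _) Ideal.Quotient.mk_surjective
  haveI : Nontrivial (B ⧸ (maximalIdeal A ^ (n + 1)).map (algebraMap A B)) :=
    Ideal.Quotient.nontrivial_iff.2 hIB
  haveI : IsLocalRing (B ⧸ (maximalIdeal A ^ (n + 1)).map (algebraMap A B)) :=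
    IsLocalRing.of_surjective' (Ideal.Quotient.mk _) Ideal.Quotient.mk_surjective
  haveI : IsLocalHom (algebraMap (A ⧸ maximalIdeal A ^ (n + 1))
      (B ⧸ (maximalIdeal A ^ (n + 1)).map (algebraMap A B))) := ⟨fun x hx => by
    obtain ⟨a, rfl⟩ := Ideal.Quotient.mk_surjective x
    by_contra hna
    have ha : a ∈ maximalIdeal A := by
      rw [mem_maximalIdeal, mem_nonunits_iff]
      exact fun hu => hna (hu.map _)
    have hb : algebraMap A B a ∈ maximalIdeal B := hAB (Ideal.mem_map_of_mem _ ha)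
    have hb' : Ideal.Quotient.mk ((maximalIdeal A ^ (n + 1)).map (algebraMap A B))
        (algebraMap A B a) ∈ maximalIdeal _ := by
      rw [← map_mk_maximalIdeal]
      exact Ideal.mem_map_of_mem _ hb
    exact ((mem_maximalIdeal _).1 hb') hx⟩
  have hmax : maximalIdeal (A ⧸ maximalIdeal A ^ (n + 1)) ^ (n + 1) = ⊥ := by
    rw [← map_mk_maximalIdeal, ← Ideal.map_pow, Ideal.map_quotient_self]
  have h3 := h2 (n + 1)
  rw [map_mk_maximalIdeal] at h3
  exact flat_of_nilpotent (n + 1) hmax h3

end Groth.Agent.Lib.FSFlatH3
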