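import Mathlib
import Groth.Agent.Lib.FlatPS3_helper3
import Groth.Agent.Lib.Regular_helper5
import Groth.Agent.S3866

/-!
# Existence of flat complete lifts with prescribed regular closed fibre (EGA 0_IV 19.7.2,
existence, closed-fibre case) (helper3)
-/

set_option autoImplicit false
set_option maxSynthPendingDepth 3
universe u

namespace Groth.Agent.Lib.FlatLiftH3

open MvPowerSeries IsLocalRing EGA41 TensorProduct

/-- a quotient of a complete Noetherian local ring (by a surjective ring map onto a nontrivial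
ring) is a complete Noetherian local ring -/
theorem complete_of_surjective {S B : Type u} [CommRing S] [IsLocalRing S] [IsNoetherianRing S]
    [IsAdicComplete (maximalIdeal S) S] [CommRing B] [Nontrivial B] (f : S →+* B)
    (hf : Function.Surjective f) :
    ∃ (_ : IsLocalRing B), IsNoetherianRing B ∧ IsAdicComplete (maximalIdeal B) B := by
  haveI : IsLocalRing B := IsLocalRing.of_surjective' f hf
  haveI : IsLocalHom f := IsLocalHom.of_surjective f hf
  refine ⟨inferInstance, isNoetherianRing_of_surjective S B f hf, ?_⟩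
  letI : Algebra S B := f.toAlgebra
  haveI : Module.Finite S B := Module.Finite.of_surjective (Algebra.linearMap S B) hf
  have h1 : IsAdicComplete (maximalIdeal S) B := Groth.Agent.S3866.result S (maximalIdeal S) B
  have h2 : (maximalIdeal S).map (algebraMap S B) = maximalIdeal B := by
    have h3 : (maximalIdeal B).comap f = maximalIdeal S := IsLocalRing.maximalIdeal_comap f
    show (maximalIdeal S).map f = maximalIdeal B
    rw [← h3, Ideal.map_comap_of_surjective f hf]
  rw [← h2]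
  exact (IsAdicComplete.map_algebraMap_iff (I := maximalIdeal S) (M := B) (S := B)).2 h1

theorem exists_flat_lift {A' B₀ : Type u} [CommRing A'] [IsLocalRing A'] [IsNoetherianRing A']
    [IsAdicComplete (maximalIdeal A') A'] [CommRing B₀] [IsRegularLocalRing B₀]
    [IsAdicComplete (maximalIdeal B₀) B₀] (θ : A' →+* B₀) (hθ : ∀ z ∈ maximalIdeal A', θ z = 0) :
    ∃ (B : Type u) (_ : CommRing B) (_ : IsLocalRing B) (_ : IsNoetherianRing B)
      (_ : Algebra A' B) (_ : IsLocalHom (algebraMap A' B)),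
      IsAdicComplete (maximalIdeal B) B ∧ Module.Flat A' B ∧
        ∃ Φ₀ : B →+* B₀, Function.Surjective Φ₀ ∧ (∀ z, Φ₀ (algebraMap A' B z) = θ z) ∧
          RingHom.ker Φ₀ = (maximalIdeal A').map (algebraMap A' B) := by
  classical
  haveI : IsLocalHom θ := ⟨fun z hz => by
    by_contra hnu
    have h1 : θ z = 0 := hθ z ((mem_maximalIdeal z).2 hnu)
    rw [h1] at hz
    exact not_isUnit_zero hz⟩
  -- the Cohen ring of `A'`
  obtain ⟨Λ, _, _, vΛ, hΛ, hvΛsurj, hvΛloc⟩ := Groth.Agent.Lib.FSFlatH3.exists_cohen_to A'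
  obtain ⟨hΛdom, hΛpid, hΛnoeth, hΛcomp, hΛchar0⟩ := Groth.Agent.Lib.FSFlatH3.cohenEGA_facts hΛ
  haveI := hΛcomp
  haveI := hΛnoeth
  haveI : IsLocalHom vΛ :=
    ((IsLocalRing.local_hom_TFAE vΛ).out 0 3).2 (fun a ha => hvΛloc a ha)
  obtain ⟨n, x, hx⟩ := Submodule.fg_iff_exists_fin_generating_family.1
    (IsNoetherian.noetherian (maximalIdeal A'))
  have hx' : Ideal.span (Set.range x) = maximalIdeal A' := hx
  have hxm : ∀ i, x i ∈ maximalIdeal A' := fun i => by
    rw [← hx']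
    exact Ideal.subset_span ⟨i, rfl⟩
  letI algΛA : Algebra Λ A' := vΛ.toAlgebra
  obtain ⟨ρa, hρa⟩ := Groth.Agent.Lib.RegPSH3.exists_algHom_X (Λ := Λ) (R := A') n x hxm
  have hρsurj : Function.Surjective ρa := by
    refine Groth.Agent.Lib.RegPSH3.surjective_of_span_eq n ρa ?_ hvΛsurj hvΛloc
    have h1 : (fun i => ρa (X i)) = x := funext hρa
    rw [h1]
    exact hx'
  -- generators of `𝔪_{B₀}`
  obtain ⟨s, hs, hspans⟩ := Submodule.FG.exists_span_finset_card_eq_spanFinrank
    (IsNoetherian.noetherian (maximalIdeal B₀))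
  set d := (maximalIdeal B₀).spanFinrank with hd
  have hdim : (d : WithBot ℕ∞) = ringKrullDim B₀ := IsRegularLocalRing.spanFinrank_maximalIdeal
  let e : s ≃ Fin d := Finset.equivFinOfCardEq hs
  let t : Fin d → B₀ := fun i => ((e.symm i : s) : B₀)
  have hrange : Set.range t = (s : Set B₀) := by
    ext r
    constructor
    · rintro ⟨i, rfl⟩
      exact (e.symm i).2
    · intro hr
      exact ⟨e ⟨r, hr⟩, by simp [t]⟩
  have ht : Ideal.span (Set.range t) = maximalIdeal B₀ := by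
    rw [hrange]
    exact hspans
  let ψ : Λ →+* B₀ := θ.comp vΛ
  haveI : IsLocalHom ψ := ⟨fun c hc => by
    have h1 : IsUnit (vΛ c) := isUnit_of_map_unit θ _ hc
    exact isUnit_of_map_unit vΛ c h1⟩
  let y : Fin n → B₀ := fun _ => 0
  have hy : ∀ i, y i ∈ maximalIdeal B₀ := fun i => Ideal.zero_mem _
  have hspan : Ideal.span (Set.range y ∪ Set.range t) = maximalIdeal B₀ := by
    apply le_antisymm
    · rw [Ideal.span_le]
      rintro _ (⟨i, rfl⟩ | ⟨j, rfl⟩)
      · exact hy i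
      · rw [← ht]
        exact Ideal.subset_span ⟨j, rfl⟩
    · rw [← ht]
      exact Ideal.span_mono Set.subset_union_right
  obtain ⟨Q, _, _, hQ, σ, τ, hσsurj, hσy, hσt, hτX, hστ, hflat, hτloc, hreg, hdimq⟩ :=
    Groth.Agent.Lib.FlatPSH3.exists_flat_package hΛ ψ n d y t hy hspan
  obtain ⟨hQdom, hQpid, hQnoeth, hQcomp, hQchar0⟩ := Groth.Agent.Lib.FSFlatH3.cohenEGA_facts hQ
  haveI := hQnoeth
  haveI := hQcomp
  -- `σ ∘ τ = θ ∘ ρ`
  have hcomm : σ.comp τ = θ.comp ρa.toRingHom := by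
    apply Groth.Agent.Lib.FlatPSH3.ringHom_ext_of_X n
    · intro c
      show σ (τ (C c)) = θ (ρa (C c))
      rw [hστ, c_eq_algebraMap, AlgHom.commutes]
      rfl
    · intro i
      show σ (τ (X i)) = θ (ρa (X i))
      rw [hτX, hσy, hρa, hθ _ (hxm i)]
    · intro i
      show θ (ρa (X i)) ∈ _
      rw [hρa, hθ _ (hxm i)]
      exact Ideal.zero_mem _
  have hcomm' : ∀ r, σ (τ r) = θ (ρa r) := fun r => RingHom.congr_fun hcomm r
  -- `ρ` is local
  haveI : IsLocalHom ρa.toRingHom := IsLocalHom.of_surjective _ hρsurj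
  have hρ𝔪 : ∀ r ∈ maximalIdeal (MvPowerSeries (Fin n) Λ), ρa r ∈ maximalIdeal A' := by
    intro r hr
    have h1 : maximalIdeal (MvPowerSeries (Fin n) Λ) ≤ (maximalIdeal A').comap ρa.toRingHom :=
      ((IsLocalRing.local_hom_TFAE ρa.toRingHom).out 0 3).1 ‹IsLocalHom ρa.toRingHom›
    exact h1 hr
  -- `ker σ = 𝔪_R S`
  set I : Ideal (MvPowerSeries (Fin (n + d)) Q) :=
    (maximalIdeal (MvPowerSeries (Fin n) Λ)).map τ with hI
  have hIker : I ≤ RingHom.ker σ := by
    rw [hI, Ideal.map_le_iff_le_comap]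
    intro r hr
    rw [Ideal.mem_comap, RingHom.mem_ker, hcomm', hθ _ (hρ𝔪 r hr)]
  have hkerI : RingHom.ker σ ≤ I := by
    haveI := hreg
    haveI : IsDomain (MvPowerSeries (Fin (n + d)) Q ⧸ I) := Groth.Agent.RegularLib.isDomain _
    let σbar : MvPowerSeries (Fin (n + d)) Q ⧸ I →+* B₀ :=
      Ideal.Quotient.lift I σ (fun a ha => RingHom.mem_ker.1 (hIker ha))
    have hσbarsurj : Function.Surjective σbar := by
      intro b
      obtain ⟨a, rfl⟩ := hσsurj b
      exact ⟨Ideal.Quotient.mk I a, rfl⟩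
    have hinj : Function.Injective σbar :=
      Groth.Agent.Lib.RegPSH3.injective_of_surjective_of_dim σbar hσbarsurj d hdimq hdim.le
    intro a ha
    rw [← Ideal.Quotient.eq_zero_iff_mem]
    apply hinj
    rw [map_zero]
    exact RingHom.mem_ker.1 ha
  have hker : RingHom.ker σ = I := le_antisymm hkerI hIker
  -- the lift
  letI algRA : Algebra (MvPowerSeries (Fin n) Λ) A' := ρa.toRingHom.toAlgebra
  letI algRS : Algebra (MvPowerSeries (Fin n) Λ) (MvPowerSeries (Fin (n + d)) Q) := τ.toAlgebra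
  haveI : Module.Flat (MvPowerSeries (Fin n) Λ) (MvPowerSeries (Fin (n + d)) Q) := hflat
  letI algRB₀ : Algebra (MvPowerSeries (Fin n) Λ) B₀ := (θ.comp ρa.toRingHom).toAlgebra
  let θ' : A' →ₐ[MvPowerSeries (Fin n) Λ] B₀ := { θ with commutes' := fun r => rfl }
  let σ' : MvPowerSeries (Fin (n + d)) Q →ₐ[MvPowerSeries (Fin n) Λ] B₀ :=
    { σ with commutes' := fun r => hcomm' r }
  let Φ : A' ⊗[MvPowerSeries (Fin n) Λ] MvPowerSeries (Fin (n + d)) Q →ₐ[MvPowerSeries (Fin n) Λ] B₀ :=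
    Algebra.TensorProduct.productMap θ' σ'
  have hΦ : ∀ a s, Φ (a ⊗ₜ s) = θ a * σ s := fun a s =>
    Algebra.TensorProduct.productMap_apply_tmul θ' σ' a s
  let incl : MvPowerSeries (Fin (n + d)) Q →+*
      A' ⊗[MvPowerSeries (Fin n) Λ] MvPowerSeries (Fin (n + d)) Q :=
    (Algebra.TensorProduct.includeRight :
      MvPowerSeries (Fin (n + d)) Q →ₐ[MvPowerSeries (Fin n) Λ] _).toRingHom
  have hincl : ∀ s, incl s = (1 : A') ⊗ₜ s := fun s => rfl
  have hinclsurj : Function.Surjective incl := by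
    intro z
    induction z using TensorProduct.induction_on with
    | zero => exact ⟨0, map_zero _⟩
    | tmul a s =>
      obtain ⟨r, rfl⟩ := hρsurj a
      refine ⟨τ r * s, ?_⟩
      rw [hincl]
      have h1 : (ρa r : A') = r • (1 : A') := by
        rw [Algebra.smul_def, mul_one]
        rfl
      have h2 : τ r * s = r • s := by
        rw [Algebra.smul_def]
        rfl
      rw [h1, h2, TensorProduct.smul_tmul]
    | add z₁ z₂ h₁ h₂ =>
      obtain ⟨s₁, rfl⟩ := h₁
      obtain ⟨s₂, rfl⟩ := h₂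
      exact ⟨s₁ + s₂, map_add _ _ _⟩
  have hΦincl : ∀ s, Φ (incl s) = σ s := fun s => by
    rw [hincl, hΦ, map_one, one_mul]
  have hΦsurj : Function.Surjective Φ := by
    intro b
    obtain ⟨s, rfl⟩ := hσsurj b
    exact ⟨incl s, hΦincl s⟩
  haveI : Nontrivial (A' ⊗[MvPowerSeries (Fin n) Λ] MvPowerSeries (Fin (n + d)) Q) :=
    ⟨⟨0, 1, fun h01 => by
      have h1 := congrArg Φ h01
      rw [map_zero, map_one] at h1
      exact zero_ne_one h1⟩⟩
  haveI : IsAdicComplete (maximalIdeal (MvPowerSeries (Fin (n + d)) Q))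
      (MvPowerSeries (Fin (n + d)) Q) :=
    Groth.Agent.Lib.PSCompleteH1.isAdicComplete_maximalIdeal
  obtain ⟨hBloc, hBnoeth, hBcomp⟩ := complete_of_surjective incl hinclsurj
  haveI := hBloc
  have hΦalg : ∀ z : A', Φ (algebraMap A' _ z) = θ z := by
    intro z
    rw [Algebra.TensorProduct.algebraMap_apply, hΦ, map_one, mul_one]
    rfl
  have hBlocal : IsLocalHom (algebraMap A'
      (A' ⊗[MvPowerSeries (Fin n) Λ] MvPowerSeries (Fin (n + d)) Q)) := ⟨fun z hz => by
    have h1 : IsUnit (Φ (algebraMap A' _ z)) := hz.map Φ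
    rw [hΦalg] at h1
    exact isUnit_of_map_unit θ z h1⟩
  refine ⟨A' ⊗[MvPowerSeries (Fin n) Λ] MvPowerSeries (Fin (n + d)) Q, inferInstance, hBloc,
    hBnoeth, inferInstance, hBlocal, hBcomp, inferInstance, Φ.toRingHom, hΦsurj, hΦalg, ?_⟩
  -- the kernel
  apply le_antisymm
  · intro b hb
    obtain ⟨s, rfl⟩ := hinclsurj b
    have h1 : σ s = 0 := by
      rw [← hΦincl]
      exact RingHom.mem_ker.1 hb
    have h2 : s ∈ I := hker ▸ RingHom.mem_ker.2 h1
    have h3 : incl s ∈ I.map incl := Ideal.mem_map_of_mem _ h2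
    rw [hI, Ideal.map_map] at h3
    have h4 : incl.comp τ = (algebraMap A' (A' ⊗[MvPowerSeries (Fin n) Λ]
        MvPowerSeries (Fin (n + d)) Q)).comp ρa.toRingHom := by
      ext r
      show (1 : A') ⊗ₜ[MvPowerSeries (Fin n) Λ] (τ r) = (ρa r) ⊗ₜ 1
      have h5 : (ρa r : A') = r • (1 : A') := by
        rw [Algebra.smul_def, mul_one]
        rfl
      have h6 : τ r = r • (1 : MvPowerSeries (Fin (n + d)) Q) := by
        rw [Algebra.smul_def, mul_one]
        rfl
      rw [h5, h6, TensorProduct.smul_tmul]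
    rw [h4, ← Ideal.map_map] at h3
    refine Ideal.map_mono ?_ h3
    rw [Ideal.map_le_iff_le_comap]
    exact fun r hr => hρ𝔪 r hr
  · rw [Ideal.map_le_iff_le_comap]
    intro z hz
    rw [Ideal.mem_comap, RingHom.mem_ker]
    show Φ (algebraMap A' _ z) = 0
    rw [hΦalg, hθ z hz]

/-- the closed fibre from a surjection with kernel `𝔪B` -/
theorem fiber_equiv {A k B B₀ : Type u} [CommRing A] [Field k] [Algebra A k]
    (hk : Function.Surjective (algebraMap A k)) [CommRing B] [Algebra A B] [CommRing B₀]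
    [Algebra k B₀] [Algebra A B₀] [IsScalarTower A k B₀] (Φ₀ : B →ₐ[A] B₀)
    (hsurj : Function.Surjective Φ₀)
    (hker : RingHom.ker Φ₀.toRingHom = (RingHom.ker (algebraMap A k)).map (algebraMap A B)) :
    Nonempty (k ⊗[A] B ≃ₐ[k] B₀) := by
  classical
  let Ψ : k ⊗[A] B →ₐ[k] B₀ :=
    Algebra.TensorProduct.lift (Algebra.ofId k B₀) Φ₀ (fun _ _ => Commute.all _ _)
  have hΨ : ∀ c b, Ψ (c ⊗ₜ b) = algebraMap k B₀ c * Φ₀ b := fun c b =>
    Algebra.TensorProduct.lift_tmul _ _ _ c b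
  have hform : ∀ z : k ⊗[A] B, ∃ b : B, z = (1 : k) ⊗ₜ b := by
    intro z
    induction z using TensorProduct.induction_on with
    | zero => exact ⟨0, (TensorProduct.tmul_zero _ _).symm⟩
    | tmul c b =>
      obtain ⟨a, rfl⟩ := hk c
      refine ⟨a • b, ?_⟩
      rw [← TensorProduct.smul_tmul, Algebra.smul_def, mul_one]
    | add z₁ z₂ h₁ h₂ =>
      obtain ⟨b₁, rfl⟩ := h₁
      obtain ⟨b₂, rfl⟩ := h₂
      exact ⟨b₁ + b₂, (TensorProduct.tmul_add _ _ _).symm⟩
  have hzero : ∀ b ∈ (RingHom.ker (algebraMap A k)).map (algebraMap A B),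
      (1 : k) ⊗ₜ[A] b = 0 := by
    intro b hb
    refine Submodule.span_induction (p := fun b _ => (1 : k) ⊗ₜ[A] b = 0) ?_ ?_ ?_ ?_ hb
    · rintro _ ⟨a, ha, rfl⟩
      have h1 : algebraMap A B a = a • (1 : B) := by rw [Algebra.smul_def, mul_one]
      rw [h1, ← TensorProduct.smul_tmul, Algebra.smul_def, mul_one, RingHom.mem_ker.1 ha,
        TensorProduct.zero_tmul]
    · exact TensorProduct.tmul_zero _ _
    · intro b₁ b₂ _ _ h₁ h₂
      rw [TensorProduct.tmul_add, h₁, h₂, add_zero]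
    · intro c b' _ h'
      have h2 : (1 : k) ⊗ₜ[A] (c • b') = ((1 : k) ⊗ₜ[A] c) * ((1 : k) ⊗ₜ[A] b') := by
        rw [Algebra.TensorProduct.tmul_mul_tmul, one_mul, smul_eq_mul]
      rw [h2, h', mul_zero]
  have hinj : Function.Injective Ψ := by
    rw [injective_iff_map_eq_zero]
    intro z hz
    obtain ⟨b, rfl⟩ := hform z
    rw [hΨ, map_one, one_mul] at hz
    apply hzero
    rw [← hker]
    exact RingHom.mem_ker.2 hz
  have hsurjΨ : Function.Surjective Ψ := by
    intro b₀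
    obtain ⟨b, rfl⟩ := hsurj b₀
    refine ⟨(1 : k) ⊗ₜ b, ?_⟩
    rw [hΨ, map_one, one_mul]
  exact ⟨AlgEquiv.ofBijective Ψ ⟨hinj, hsurjΨ⟩⟩

end Groth.Agent.Lib.FlatLiftH3
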