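import Mathlib
import Groth.Agent.Lib.FlatLift_helper3
import Groth.Agent.Lib.FSFiber2_helper3
import Groth.Agent.Lib.StalkSmooth_helper3
import Groth.Agent.S4542
import Groth.Agent.S4537

/-!
# Uniqueness of flat complete lifts of a formally smooth complete local algebra
(EGA 0_IV 19.7.2, uniqueness) (helper3)
-/

set_option autoImplicit false
set_option maxSynthPendingDepth 3
universe u

namespace Groth.Agent.Lib.FlatLiftH3

open IsLocalRing TensorProduct Groth.Agent.Lib.FSFiberH3

section FlatInter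

variable {A B E : Type*} [CommRing A] [CommRing B] [CommRing E] [Algebra A B] [Algebra A E]

/-- For `B` flat and `E → B` surjective: `𝔞E ∩ ker ⊆ 𝔞 · ker`. -/
theorem flat_inter_smul [Module.Flat A B] (π : E →ₐ[A] B) (hπ : Function.Surjective π)
    (𝔞 : Ideal A) (x : E) (hx : x ∈ 𝔞.map (algebraMap A E)) (hπx : π x = 0) :
    x ∈ (𝔞 • LinearMap.ker π.toLinearMap : Submodule A E) := by
  classical
  let μE : 𝔞 ⊗[A] E →ₗ[A] E := (TensorProduct.lid A E).toLinearMap ∘ₗ 𝔞.subtype.rTensor E
  let μB : 𝔞 ⊗[A] B →ₗ[A] B := (TensorProduct.lid A B).toLinearMap ∘ₗ 𝔞.subtype.rTensor B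
  have hμE : ∀ (a : 𝔞) (e : E), μE (a ⊗ₜ[A] e) = (a : A) • e := fun a e => by
    simp [μE]
  have hμB : ∀ (a : 𝔞) (b : B), μB (a ⊗ₜ[A] b) = (a : A) • b := fun a b => by
    simp [μB]
  have hμBinj : Function.Injective μB := by
    have h1 : Function.Injective (𝔞.subtype.rTensor B) :=
      Module.Flat.rTensor_preserves_injective_linearMap 𝔞.subtype Subtype.val_injective
    exact (TensorProduct.lid A B).injective.comp h1
  have hz : ∃ z : 𝔞 ⊗[A] E, μE z = x := by
    have hx' : x ∈ (𝔞 • ⊤ : Submodule A E) := by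
      rw [Ideal.smul_top_eq_map]
      exact hx
    refine Submodule.smul_induction_on hx' ?_ ?_
    · intro a ha e _
      exact ⟨(⟨a, ha⟩ : 𝔞) ⊗ₜ[A] e, hμE _ _⟩
    · rintro y y' ⟨z, rfl⟩ ⟨z', rfl⟩
      exact ⟨z + z', map_add _ _ _⟩
  obtain ⟨z, rfl⟩ := hz
  have hcomm : ∀ z : 𝔞 ⊗[A] E, μB (π.toLinearMap.lTensor 𝔞 z) = π (μE z) := by
    intro z
    induction z using TensorProduct.induction_on with
    | zero => simp
    | tmul a e =>
      rw [LinearMap.lTensor_tmul, hμB, hμE, map_smul]
      rfl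
    | add y y' hy hy' => simp only [map_add, hy, hy']
  have hz0 : π.toLinearMap.lTensor 𝔞 z = 0 := by
    apply hμBinj
    rw [hcomm, hπx, map_zero]
  have hex := lTensor_exact 𝔞 (LinearMap.exact_subtype_ker_map π.toLinearMap) hπ
  obtain ⟨w, rfl⟩ := (hex z).1 hz0
  have hw : ∀ w : 𝔞 ⊗[A] (LinearMap.ker π.toLinearMap),
      μE ((LinearMap.ker π.toLinearMap).subtype.lTensor 𝔞 w) ∈
        (𝔞 • LinearMap.ker π.toLinearMap : Submodule A E) := by
    intro w
    induction w using TensorProduct.induction_on with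
    | zero =>
      rw [map_zero, map_zero]
      exact Submodule.zero_mem _
    | tmul a l =>
      rw [LinearMap.lTensor_tmul, hμE]
      exact Submodule.smul_mem_smul a.2 l.2
    | add y y' hy hy' =>
      rw [map_add, map_add]
      exact Submodule.add_mem _ hy hy'
  exact hw w

end FlatInter

section Uniq

variable {A A₀ : Type u} [CommRing A] [CommRing A₀] [Algebra A A₀]

/-- lifting against algebras killed by `J = ker (A → A₀)`, from the formal smoothness of
`B₀ = B/JB` over `A₀` -/
theorem liftKilled_of_surjective (hA₀ : Function.Surjective (algebraMap A A₀))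
    {B B₀ : Type u} [CommRing B] [IsLocalRing B] [Algebra A B] [CommRing B₀] [IsLocalRing B₀]
    [Algebra A₀ B₀] [Algebra A B₀] [IsScalarTower A A₀ B₀] (β : B →ₐ[A] B₀)
    (hβ : Function.Surjective β)
    (hβker : RingHom.ker β.toRingHom ≤ (RingHom.ker (algebraMap A A₀)).map (algebraMap A B))
    (h₀ : CAlgX.IsAdicFormallySmooth A₀ B₀ (maximalIdeal B₀)) :
    LiftKilled A B (RingHom.ker (algebraMap A A₀)) (maximalIdeal B) := by
  intro C _ _ hC J' hJ' ψ ⟨k, hk⟩
  let φ : A₀ →+* C := RingHom.liftOfSurjective (algebraMap A A₀) hA₀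
    ⟨algebraMap A C, fun a ha => RingHom.mem_ker.2 (hC a ha)⟩
  have hφ : ∀ a, φ (algebraMap A A₀ a) = algebraMap A C a := fun a =>
    RingHom.liftOfRightInverse_comp_apply _ _ _ _ a
  letI : Algebra A₀ C := φ.toAlgebra
  haveI : IsScalarTower A A₀ C := IsScalarTower.of_algebraMap_eq (fun a => (hφ a).symm)
  have hkerψ : RingHom.ker β.toRingHom ≤ RingHom.ker ψ.toRingHom := by
    refine le_trans hβker ?_
    rw [Ideal.map_le_iff_le_comap]
    intro a ha
    rw [Ideal.mem_comap, RingHom.mem_ker]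
    show ψ (algebraMap A B a) = 0
    rw [ψ.commutes, IsScalarTower.algebraMap_apply A C (C ⧸ J'), hC a ha, map_zero]
  let ψr : B₀ →+* C ⧸ J' := RingHom.liftOfSurjective β.toRingHom hβ ⟨ψ.toRingHom, hkerψ⟩
  have hψr : ∀ b, ψr (β b) = ψ b := fun b =>
    RingHom.liftOfRightInverse_comp_apply _ _ _ _ b
  let ψ₀ : B₀ →ₐ[A₀] C ⧸ J' :=
    { ψr with
      commutes' := fun a₀ => by
        obtain ⟨a, rfl⟩ := hA₀ a₀
        show ψr (algebraMap A₀ B₀ (algebraMap A A₀ a)) =
          algebraMap A₀ (C ⧸ J') (algebraMap A A₀ a)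
        rw [← IsScalarTower.algebraMap_apply A A₀ B₀,
          ← IsScalarTower.algebraMap_apply A A₀ (C ⧸ J'), ← β.commutes, hψr, ψ.commutes] }
  haveI : IsLocalHom β.toRingHom := IsLocalHom.of_surjective _ hβ
  have hmap : (maximalIdeal B).map β.toRingHom = maximalIdeal B₀ := by
    rw [← IsLocalRing.maximalIdeal_comap β.toRingHom,
      Ideal.map_comap_of_surjective β.toRingHom hβ]
  have hψ₀k : ∃ j : ℕ, ∀ x ∈ maximalIdeal B₀ ^ j, ψ₀ x = 0 := by
    refine ⟨k, fun x hx => ?_⟩
    rw [← hmap, ← Ideal.map_pow] at hx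
    obtain ⟨b, hb, rfl⟩ := (Ideal.mem_map_iff_of_surjective _ hβ).1 hx
    show ψr (β b) = 0
    rw [hψr, hk b hb]
  obtain ⟨χ₀, hχ₀⟩ := h₀ C J' hJ' ψ₀ hψ₀k
  refine ⟨(χ₀.restrictScalars A).comp β, ?_⟩
  ext b
  have h1 := AlgHom.congr_fun hχ₀ (β b)
  show Ideal.Quotient.mk J' (χ₀ (β b)) = ψ b
  rw [← hψr]
  exact h1

/-- **EGA 0_IV 19.7.2, uniqueness** (abstract form). -/
theorem exists_equiv_of_flat [IsLocalRing A] (hA₀ : Function.Surjective (algebraMap A A₀))
    (hJ : RingHom.ker (algebraMap A A₀) ≤ maximalIdeal A)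
    {B B' B₀ : Type u} [CommRing B₀] [IsLocalRing B₀] [Algebra A₀ B₀] [Algebra A B₀]
    [IsScalarTower A A₀ B₀] (h₀ : CAlgX.IsAdicFormallySmooth A₀ B₀ (maximalIdeal B₀))
    [CommRing B] [IsLocalRing B] [IsNoetherianRing B] [Algebra A B] [IsLocalHom (algebraMap A B)]
    [IsAdicComplete (maximalIdeal B) B] [Module.Flat A B]
    [CommRing B'] [IsLocalRing B'] [IsNoetherianRing B'] [Algebra A B']
    [IsLocalHom (algebraMap A B')] [IsAdicComplete (maximalIdeal B') B'] [Module.Flat A B']
    (β : B →ₐ[A] B₀) (hβ : Function.Surjective β)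
    (hβker : RingHom.ker β.toRingHom = (RingHom.ker (algebraMap A A₀)).map (algebraMap A B))
    (β' : B' →ₐ[A] B₀) (hβ' : Function.Surjective β')
    (hβ'ker : RingHom.ker β'.toRingHom = (RingHom.ker (algebraMap A A₀)).map (algebraMap A B')) :
    ∃ v : B ≃ₐ[A] B', ∀ b, β' (v b) = β b := by
  classical
  set J : Ideal A := RingHom.ker (algebraMap A A₀) with hJdef
  -- `B` is formally smooth over `A`
  have hJB : J.map (algebraMap A B) ≤ maximalIdeal B :=
    le_trans (Ideal.map_mono hJ)
      (((IsLocalRing.local_hom_TFAE (algebraMap A B)).out 0 2).1 ‹IsLocalHom (algebraMap A B)›)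
  have hJB' : J.map (algebraMap A B') ≤ maximalIdeal B' :=
    le_trans (Ideal.map_mono hJ)
      (((IsLocalRing.local_hom_TFAE (algebraMap A B')).out 0 2).1 ‹IsLocalHom (algebraMap A B')›)
  have hlk : LiftKilled A B J (maximalIdeal B) :=
    liftKilled_of_surjective hA₀ β hβ hβker.le h₀
  have hfsB : CAlgX.IsAdicFormallySmooth A B (maximalIdeal B) :=
    adic_of_flat_of_liftKilled hlk hJB
  have hfsB' : EGA41.IsFormallySmoothAdic A ⊥ B (maximalIdeal B) :=
    (Groth.Agent.S4537.result (maximalIdeal B)).1 hfsB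
  -- the target `B' ⧸ ker β' ≅ B₀`
  set K' : Ideal B' := RingHom.ker β'.toRingHom with hK'
  have hβ'' : Function.Surjective β'.toRingHom := hβ'
  let e : (B' ⧸ K') ≃+* B₀ := RingHom.quotientKerEquivOfSurjective hβ''
  have he : ∀ b', e (Ideal.Quotient.mk K' b') = β' b' := fun b' =>
    RingHom.quotientKerEquivOfSurjective_apply_mk hβ'' b'
  have hK'top : K' ≠ ⊤ := RingHom.ker_ne_top _
  haveI : Nontrivial (B' ⧸ K') := Ideal.Quotient.nontrivial_iff.2 hK'top
  haveI : IsLocalRing (B' ⧸ K') :=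
    IsLocalRing.of_surjective' (Ideal.Quotient.mk K') Ideal.Quotient.mk_surjective
  let u : B →ₐ[A] B' ⧸ K' :=
    { (e.symm : B₀ →+* B' ⧸ K').comp β.toRingHom with
      commutes' := fun a => by
        show e.symm (β (algebraMap A B a)) = algebraMap A (B' ⧸ K') a
        apply e.injective
        rw [e.apply_symm_apply, β.commutes, IsScalarTower.algebraMap_apply A B' (B' ⧸ K')]
        show _ = e (Ideal.Quotient.mk K' (algebraMap A B' a))
        rw [he, β'.commutes] }
  have hu : ∀ b, e (u b) = β b := fun b => e.apply_symm_apply _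
  haveI : IsHausdorff ((maximalIdeal B').map (Ideal.Quotient.mk K')) (B' ⧸ K') := by
    rw [Groth.Agent.Lib.CohenLiftH3.map_mk_maximalIdeal]
    infer_instance
  have huloc : ∀ b ∈ maximalIdeal B, u b ∈ maximalIdeal (B' ⧸ K') := by
    intro b hb
    rw [mem_maximalIdeal, mem_nonunits_iff] at hb ⊢
    intro hunit
    apply hb
    have h1 : IsUnit (β b) := by
      rw [← hu]
      exact hunit.map e
    haveI : IsLocalHom β.toRingHom := IsLocalHom.of_surjective _ hβ
    exact isUnit_of_map_unit β.toRingHom b h1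
  obtain ⟨v, -, hv⟩ := Groth.Agent.S4542.result (A := A) (B := B) (C := B') ⊥ (maximalIdeal B)
    (maximalIdeal B') hfsB' ⟨1, by rw [pow_one, Ideal.map_bot]; exact bot_le⟩ K'
    ⟨1, by
      rw [pow_one]
      exact IsLocalRing.le_maximalIdeal hK'top⟩ u ⟨1, by
      rw [pow_one, Ideal.map_le_iff_le_comap, Groth.Agent.Lib.CohenLiftH3.map_mk_maximalIdeal]
      exact fun b hb => huloc b hb⟩
  have hvβ : ∀ b, β' (v b) = β b := by
    intro b
    have h1 : Ideal.Quotient.mk K' (v b) = u b := AlgHom.congr_fun hv b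
    rw [← he, h1, hu]
  -- `v` is surjective
  have hvloc : (maximalIdeal B).map v.toRingHom ≤ maximalIdeal B' := by
    rw [Ideal.map_le_iff_le_comap]
    intro b hb
    rw [Ideal.mem_comap, mem_maximalIdeal, mem_nonunits_iff] at *
    intro hunit
    apply hb
    have h1 : IsUnit (β b) := by
      rw [← hvβ]
      exact hunit.map β'
    haveI : IsLocalHom β.toRingHom := IsLocalHom.of_surjective _ hβ
    exact isUnit_of_map_unit β.toRingHom b h1
  haveI : IsHausdorff ((maximalIdeal B).map v.toRingHom) B' :=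
    Groth.Agent.Lib.CohenStructH3.isHausdorff_of_le (maximalIdeal B') _ hvloc
  have hK'le : K' ≤ (maximalIdeal B).map v.toRingHom := by
    rw [hβ'ker]
    have h1 : J.map (algebraMap A B') = (J.map (algebraMap A B)).map v.toRingHom := by
      rw [Ideal.map_map]
      congr 1
      ext a
      exact (v.commutes a).symm
    rw [h1]
    exact Ideal.map_mono hJB
  have hvsurj : Function.Surjective v := by
    refine surjective_of_mk_map_comp_surjective (I := maximalIdeal B)
      v.toRingHom ?_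
    intro y
    obtain ⟨b', rfl⟩ := Ideal.Quotient.mk_surjective y
    obtain ⟨b, hb⟩ := hβ (β' b')
    refine ⟨b, ?_⟩
    rw [RingHom.comp_apply, Ideal.Quotient.eq]
    apply hK'le
    rw [hK', RingHom.mem_ker]
    show β' (v b - b') = 0
    rw [map_sub, hvβ, hb, sub_self]
  -- `v` is injective
  have hvinj : Function.Injective v := by
    rw [injective_iff_map_eq_zero]
    set K : Ideal B := RingHom.ker v.toRingHom with hK
    have hKle : K ≤ (J.map (algebraMap A B)) • K := by
      intro x hx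
      have hvx : v x = 0 := RingHom.mem_ker.1 hx
      have hxJ : x ∈ J.map (algebraMap A B) := by
        rw [← hβker, RingHom.mem_ker]
        show β x = 0
        rw [← hvβ, hvx, map_zero]
      have h1 := flat_inter_smul v hvsurj J x hxJ hvx
      refine Submodule.smul_induction_on h1 ?_ ?_
      · intro a ha l hl
        have hlK : l ∈ K := RingHom.mem_ker.2 (LinearMap.mem_ker.1 hl)
        rw [Algebra.smul_def a l]
        exact Ideal.mul_mem_mul (Ideal.mem_map_of_mem _ ha) hlK
      · intro y y' hy hy'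
        exact Submodule.add_mem _ hy hy'
    have hKbot : K = ⊥ :=
      Submodule.eq_bot_of_le_smul_of_le_jacobson_bot (J.map (algebraMap A B)) K
        (IsNoetherian.noetherian K) hKle (by
          rw [IsLocalRing.jacobson_eq_maximalIdeal ⊥ bot_ne_top]
          exact hJB)
    intro x hx
    have h2 : x ∈ K := RingHom.mem_ker.2 hx
    rw [hKbot] at h2
    exact h2
  exact ⟨AlgEquiv.ofBijective v ⟨hvinj, hvsurj⟩, hvβ⟩

end Uniq

section Tensor

variable {A : Type u} [CommRing A] (J : Ideal A) (B : Type u) [CommRing B] [Algebra A B]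

theorem includeRight_surjective :
    Function.Surjective (Algebra.TensorProduct.includeRight : B →ₐ[A] (A ⧸ J) ⊗[A] B) := by
  intro z
  induction z using TensorProduct.induction_on with
  | zero => exact ⟨0, map_zero _⟩
  | tmul c b =>
    obtain ⟨a, rfl⟩ := Ideal.Quotient.mk_surjective c
    refine ⟨a • b, ?_⟩
    show (1 : A ⧸ J) ⊗ₜ[A] (a • b) = Ideal.Quotient.mk J a ⊗ₜ[A] b
    rw [← TensorProduct.smul_tmul]
    congr 1
    rw [Algebra.smul_def, mul_one]
    rfl
  | add x y hx hy =>
    obtain ⟨b, rfl⟩ := hx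
    obtain ⟨b', rfl⟩ := hy
    exact ⟨b + b', map_add _ _ _⟩

theorem ker_includeRight :
    RingHom.ker (Algebra.TensorProduct.includeRight : B →ₐ[A] (A ⧸ J) ⊗[A] B).toRingHom =
      J.map (algebraMap A B) := by
  ext b
  rw [RingHom.mem_ker]
  show (1 : A ⧸ J) ⊗ₜ[A] b = 0 ↔ _
  constructor
  · intro h
    have h1 := congrArg (TensorProduct.quotTensorEquivQuotSMul B J) h
    rw [TensorProduct.quotTensorEquivQuotSMul_mk_one_tmul, map_zero,
      Submodule.Quotient.mk_eq_zero, Ideal.smul_top_eq_map] at h1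
    exact h1
  · intro h
    have h1 : b ∈ (J • ⊤ : Submodule A B) := by
      rw [Ideal.smul_top_eq_map]
      exact h
    refine Submodule.smul_induction_on h1 ?_ ?_
    · intro a ha b' _
      rw [← TensorProduct.smul_tmul]
      have h2 : a • (1 : A ⧸ J) = 0 := by
        rw [Algebra.smul_def, mul_one]
        exact Ideal.Quotient.eq_zero_iff_mem.2 ha
      rw [h2, TensorProduct.zero_tmul]
    · intro y y' hy hy'
      rw [TensorProduct.tmul_add, hy, hy', add_zero]

end Tensor

end Groth.Agent.Lib.FlatLiftH3
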