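import Mathlib
import Groth.Agent.Lib.FlatLift2_helper3
import Groth.Agent.Lib.FSFlat3_helper3
import Groth.Agent.Lib.SmoothRegField_helper3

/-!
# Existence and uniqueness of flat complete lifts (EGA 0_IV 19.7.2) (helper3)
-/

set_option autoImplicit false
set_option maxSynthPendingDepth 3
universe u

namespace Groth.Agent.Lib.FlatLiftH3

open IsLocalRing TensorProduct Groth.Agent.Lib.FSFiberH3

section Tensor'

variable {A k : Type u} [CommRing A] [CommRing k] [Algebra A k]
  (hk : Function.Surjective (algebraMap A k)) (B : Type u) [CommRing B] [Algebra A B]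

include hk in
theorem includeRight_surjective' :
    Function.Surjective (Algebra.TensorProduct.includeRight : B →ₐ[A] k ⊗[A] B) := by
  intro z
  induction z using TensorProduct.induction_on with
  | zero => exact ⟨0, map_zero _⟩
  | tmul c b =>
    obtain ⟨a, rfl⟩ := hk c
    refine ⟨a • b, ?_⟩
    show (1 : k) ⊗ₜ[A] (a • b) = algebraMap A k a ⊗ₜ[A] b
    rw [← TensorProduct.smul_tmul, Algebra.smul_def, mul_one]
  | add x y hx hy =>
    obtain ⟨b, rfl⟩ := hx
    obtain ⟨b', rfl⟩ := hy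
    exact ⟨b + b', map_add _ _ _⟩

include hk in
theorem ker_includeRight' :
    RingHom.ker (Algebra.TensorProduct.includeRight : B →ₐ[A] k ⊗[A] B).toRingHom =
      (RingHom.ker (algebraMap A k)).map (algebraMap A B) := by
  have hk' : Function.Surjective (Algebra.ofId A k) := hk
  have hI : RingHom.ker (Algebra.ofId A k) = RingHom.ker (algebraMap A k) := by
    ext a
    exact Iff.rfl
  let e : (A ⧸ RingHom.ker (Algebra.ofId A k)) ≃ₐ[A] k :=
    Ideal.quotientKerAlgEquivOfSurjective hk'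
  rw [← hI, ← ker_includeRight (RingHom.ker (Algebra.ofId A k)) B]
  ext b
  rw [RingHom.mem_ker, RingHom.mem_ker]
  show (1 : k) ⊗ₜ[A] b = 0 ↔ (1 : A ⧸ RingHom.ker (Algebra.ofId A k)) ⊗ₜ[A] b = 0
  have h1 : (TensorProduct.congr e.toLinearEquiv (LinearEquiv.refl A B))
      ((1 : A ⧸ RingHom.ker (Algebra.ofId A k)) ⊗ₜ[A] b) = (1 : k) ⊗ₜ[A] b := by
    rw [TensorProduct.congr_tmul]
    congr 1
    exact map_one e
  rw [← h1]
  exact LinearEquiv.map_eq_zero_iff _

end Tensor'

/-- **EGA 0_IV 19.7.2 over the residue field**, with the map to the closed fibre. -/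
theorem exists_flat_lift_local {A : Type u} [CommRing A] [IsLocalRing A] [IsNoetherianRing A]
    {k : Type u} [Field k] [Algebra A k] (hk : Function.Surjective (algebraMap A k))
    (L : Type u) [CommRing L] [IsRegularLocalRing L] [IsAdicComplete (maximalIdeal L) L]
    [Algebra k L] [Algebra A L] [IsScalarTower A k L] :
    ∃ (B : Type u) (_ : CommRing B) (_ : IsLocalRing B) (_ : IsNoetherianRing B) (_ : Algebra A B)
      (_ : IsLocalHom (algebraMap A B)),
      IsAdicComplete (maximalIdeal B) B ∧ Module.Flat A B ∧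
      ∃ Φ : B →ₐ[A] L, Function.Surjective Φ ∧
        RingHom.ker Φ.toRingHom = (maximalIdeal A).map (algebraMap A B) := by
  classical
  haveI : IsNoetherianRing (AdicCompletion (maximalIdeal A) A) :=
    Groth.Agent.RegularLib.isNoetherianRing_adicCompletion A (maximalIdeal A)
  haveI : IsLocalHom (algebraMap A k) := IsLocalHom.of_surjective _ hk
  have hmk : ∀ a ∈ maximalIdeal A, algebraMap A k a = 0 := fun a ha => by
    by_contra hne
    exact (mem_maximalIdeal a).1 ha
      (isUnit_of_map_unit (algebraMap A k) a (isUnit_iff_ne_zero.2 hne))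
  have hres : ∀ a ∈ maximalIdeal A ^ 1, algebraMap A k a = 0 := fun a ha => by
    rw [pow_one] at ha
    exact hmk a ha
  let πk : AdicCompletion (maximalIdeal A) A →+* k :=
    (Ideal.Quotient.lift (maximalIdeal A ^ 1) (algebraMap A k) hres).comp
      (AdicCompletion.evalₐ (maximalIdeal A) 1).toRingHom
  have hπk : ∀ a : A, πk (algebraMap A (AdicCompletion (maximalIdeal A) A) a) =
      algebraMap A k a := by
    intro a
    show Ideal.Quotient.lift (maximalIdeal A ^ 1) (algebraMap A k) hres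
      ((AdicCompletion.evalₐ (maximalIdeal A) 1) (algebraMap A _ a)) = _
    rw [AlgHom.commutes]
    rfl
  let θ : AdicCompletion (maximalIdeal A) A →+* L := (algebraMap k L).comp πk
  have hθalg : ∀ a : A, θ (algebraMap A (AdicCompletion (maximalIdeal A) A) a) =
      algebraMap A L a := fun a => by
    show algebraMap k L (πk (algebraMap A _ a)) = _
    rw [hπk, ← IsScalarTower.algebraMap_apply]
  have hθ : ∀ z ∈ maximalIdeal (AdicCompletion (maximalIdeal A) A), θ z = 0 := by
    have h1 : maximalIdeal (AdicCompletion (maximalIdeal A) A) ≤ RingHom.ker θ := by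
      rw [AdicCompletion.maximalIdeal_eq_map, Ideal.map_le_iff_le_comap]
      intro a ha
      rw [Ideal.mem_comap, RingHom.mem_ker, hθalg, IsScalarTower.algebraMap_apply A k L,
        hmk a ha, map_zero]
    exact fun z hz => RingHom.mem_ker.1 (h1 hz)
  obtain ⟨B, _, _, _, algÂB, hÂBloc, hcomp, hflat, Φ₀, hΦsurj, hΦalg, hΦker⟩ :=
    exists_flat_lift θ hθ
  letI algAB : Algebra A B :=
    ((algebraMap (AdicCompletion (maximalIdeal A) A) B).comp
      (algebraMap A (AdicCompletion (maximalIdeal A) A))).toAlgebra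
  haveI : IsScalarTower A (AdicCompletion (maximalIdeal A) A) B :=
    IsScalarTower.of_algebraMap_eq (fun _ => rfl)
  have hABloc : IsLocalHom (algebraMap A B) := ⟨fun a ha => by
    have h1 : IsUnit (algebraMap A (AdicCompletion (maximalIdeal A) A) a) :=
      isUnit_of_map_unit (algebraMap (AdicCompletion (maximalIdeal A) A) B) _ ha
    exact isUnit_of_map_unit (algebraMap A (AdicCompletion (maximalIdeal A) A)) a h1⟩
  haveI : Module.Flat A B := Module.Flat.trans A (AdicCompletion (maximalIdeal A) A) B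
  refine ⟨B, inferInstance, inferInstance, inferInstance, algAB, hABloc, hcomp, inferInstance, ?_⟩
  let Φ₀A : B →ₐ[A] L :=
    { Φ₀ with
      commutes' := fun a => by
        show Φ₀ (algebraMap (AdicCompletion (maximalIdeal A) A) B (algebraMap A _ a)) = _
        rw [hΦalg, hθalg] }
  refine ⟨Φ₀A, hΦsurj, ?_⟩
  show RingHom.ker Φ₀ = _
  rw [hΦker, AdicCompletion.maximalIdeal_eq_map, Ideal.map_map]
  rfl

section Main

variable {A A₀ : Type u} [CommRing A] [IsLocalRing A] [CommRing A₀] [Algebra A A₀]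

/-- **EGA 0_IV 19.7.2, uniqueness** (tensor form). -/
theorem exists_equiv_tensor (hA₀ : Function.Surjective (algebraMap A A₀))
    (hJ : RingHom.ker (algebraMap A A₀) ≤ maximalIdeal A)
    {B₀ : Type u} [CommRing B₀] [IsLocalRing B₀] [Algebra A₀ B₀]
    (h₀ : CAlgX.IsAdicFormallySmooth A₀ B₀ (maximalIdeal B₀))
    (B B' : Type u) [CommRing B] [IsLocalRing B] [IsNoetherianRing B] [Algebra A B]
    [IsLocalHom (algebraMap A B)] [IsAdicComplete (maximalIdeal B) B] [Module.Flat A B]
    [CommRing B'] [IsLocalRing B'] [IsNoetherianRing B'] [Algebra A B']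
    [IsLocalHom (algebraMap A B')] [IsAdicComplete (maximalIdeal B') B'] [Module.Flat A B']
    (u : A₀ ⊗[A] B ≃ₐ[A₀] B₀) (u' : A₀ ⊗[A] B' ≃ₐ[A₀] B₀) :
    ∃ v : B ≃ₐ[A] B', (u' : A₀ ⊗[A] B' →ₐ[A₀] B₀).comp
        (Algebra.TensorProduct.map (AlgHom.id A₀ A₀) (v : B →ₐ[A] B')) =
      (u : A₀ ⊗[A] B →ₐ[A₀] B₀) := by
  classical
  letI : Algebra A B₀ := ((algebraMap A₀ B₀).comp (algebraMap A A₀)).toAlgebra
  haveI : IsScalarTower A A₀ B₀ := IsScalarTower.of_algebraMap_eq (fun _ => rfl)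
  let β : B →ₐ[A] B₀ := ((u : A₀ ⊗[A] B →ₐ[A₀] B₀).restrictScalars A).comp
    (Algebra.TensorProduct.includeRight : B →ₐ[A] A₀ ⊗[A] B)
  let β' : B' →ₐ[A] B₀ := ((u' : A₀ ⊗[A] B' →ₐ[A₀] B₀).restrictScalars A).comp
    (Algebra.TensorProduct.includeRight : B' →ₐ[A] A₀ ⊗[A] B')
  have hβ : Function.Surjective β := u.surjective.comp (includeRight_surjective' hA₀ B)
  have hβ' : Function.Surjective β' := u'.surjective.comp (includeRight_surjective' hA₀ B')
  have hβker : RingHom.ker β.toRingHom =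
      (RingHom.ker (algebraMap A A₀)).map (algebraMap A B) := by
    rw [← ker_includeRight' hA₀ B]
    ext b
    rw [RingHom.mem_ker, RingHom.mem_ker]
    show u ((1 : A₀) ⊗ₜ[A] b) = 0 ↔ (1 : A₀) ⊗ₜ[A] b = 0
    exact EmbeddingLike.map_eq_zero_iff
  have hβ'ker : RingHom.ker β'.toRingHom =
      (RingHom.ker (algebraMap A A₀)).map (algebraMap A B') := by
    rw [← ker_includeRight' hA₀ B']
    ext b
    rw [RingHom.mem_ker, RingHom.mem_ker]
    show u' ((1 : A₀) ⊗ₜ[A] b) = 0 ↔ (1 : A₀) ⊗ₜ[A] b = 0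
    exact EmbeddingLike.map_eq_zero_iff
  obtain ⟨v, hv⟩ := exists_equiv_of_flat hA₀ hJ h₀ β hβ hβker β' hβ' hβ'ker
  refine ⟨v, ?_⟩
  apply Algebra.TensorProduct.ext
  · ext
  · ext b
    show u' (Algebra.TensorProduct.map (AlgHom.id A₀ A₀) (v : B →ₐ[A] B') ((1 : A₀) ⊗ₜ[A] b)) =
      u ((1 : A₀) ⊗ₜ[A] b)
    rw [Algebra.TensorProduct.map_tmul]
    exact hv b

/-- **EGA 0_IV 19.7.2, existence** (tensor form). -/
theorem exists_lift_tensor [IsNoetherianRing A] [IsLocalRing A₀]
    (hA₀ : Function.Surjective (algebraMap A A₀))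
    (B₀ : Type u) [CommRing B₀] [IsLocalRing B₀] [IsNoetherianRing B₀]
    [IsAdicComplete (maximalIdeal B₀) B₀] [Algebra A₀ B₀] [IsLocalHom (algebraMap A₀ B₀)]
    (h₀ : CAlgX.IsAdicFormallySmooth A₀ B₀ (maximalIdeal B₀)) :
    ∃ (B : Type u) (_ : CommRing B) (_ : IsLocalRing B) (_ : IsNoetherianRing B) (_ : Algebra A B)
      (_ : IsLocalHom (algebraMap A B)),
      IsAdicComplete (maximalIdeal B) B ∧ Module.Flat A B ∧ Nonempty (A₀ ⊗[A] B ≃ₐ[A₀] B₀) := by
  classical
  haveI : IsNoetherianRing A₀ := isNoetherianRing_of_surjective A A₀ (algebraMap A A₀) hA₀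
  haveI : Module.Flat A₀ B₀ := Groth.Agent.Lib.FSFlatH3.flat_of_isAdicFormallySmooth h₀
  haveI : IsLocalRing ((maximalIdeal A₀).Fiber B₀) := fiber_isLocalRing
  haveI : IsNoetherianRing ((maximalIdeal A₀).Fiber B₀) := fiber_isNoetherianRing
  have hLfs : CAlgX.IsAdicFormallySmooth (maximalIdeal A₀).ResidueField
      ((maximalIdeal A₀).Fiber B₀) (maximalIdeal ((maximalIdeal A₀).Fiber B₀)) :=
    fiber_adic_of_adic h₀
  haveI : IsRegularLocalRing ((maximalIdeal A₀).Fiber B₀) :=
    Groth.Agent.Lib.SmoothRegFieldH3.regular_of_adic_field hLfs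
  haveI : IsAdicComplete (maximalIdeal ((maximalIdeal A₀).Fiber B₀))
      ((maximalIdeal A₀).Fiber B₀) := by
    obtain ⟨_, _, hc⟩ := complete_of_surjective
      (Algebra.TensorProduct.includeRight : B₀ →ₐ[A₀] (maximalIdeal A₀).Fiber B₀).toRingHom
      fiber_includeRight_surjective
    exact hc
  have hκsurj : Function.Surjective (algebraMap A₀ (maximalIdeal A₀).ResidueField) :=
    Ideal.algebraMap_residueField_surjective (maximalIdeal A₀)
  have hk : Function.Surjective (algebraMap A (maximalIdeal A₀).ResidueField) := by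
    rw [IsScalarTower.algebraMap_eq A A₀ (maximalIdeal A₀).ResidueField]
    exact hκsurj.comp hA₀
  obtain ⟨B, _, _, _, _, hABloc, hcomp, hflat, Φ, hΦsurj, hΦker⟩ :=
    exists_flat_lift_local hk ((maximalIdeal A₀).Fiber B₀)
  haveI := hABloc
  haveI := hcomp
  haveI := hflat
  refine ⟨B, inferInstance, inferInstance, inferInstance, inferInstance, hABloc, hcomp, hflat, ?_⟩
  -- `B₁ = A₀ ⊗[A] B`
  let β₁ : A₀ ⊗[A] B →ₐ[A₀] (maximalIdeal A₀).Fiber B₀ :=
    Algebra.TensorProduct.lift (Algebra.ofId A₀ ((maximalIdeal A₀).Fiber B₀)) Φ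
      (fun _ _ => Commute.all _ _)
  have hβ₁ : ∀ b : B, β₁ ((1 : A₀) ⊗ₜ[A] b) = Φ b := fun b => by
    show Algebra.TensorProduct.lift (Algebra.ofId A₀ ((maximalIdeal A₀).Fiber B₀)) Φ _
      ((1 : A₀) ⊗ₜ[A] b) = _
    rw [Algebra.TensorProduct.lift_tmul, map_one, one_mul]
  have hincl : Function.Surjective
      (Algebra.TensorProduct.includeRight : B →ₐ[A] A₀ ⊗[A] B) := includeRight_surjective' hA₀ B
  haveI : Nontrivial (A₀ ⊗[A] B) := β₁.toRingHom.domain_nontrivial
  obtain ⟨hloc₁, hnoeth₁, hcomp₁⟩ := complete_of_surjective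
    (Algebra.TensorProduct.includeRight : B →ₐ[A] A₀ ⊗[A] B).toRingHom hincl
  haveI := hloc₁
  haveI := hnoeth₁
  haveI := hcomp₁
  haveI : IsLocalHom (Algebra.TensorProduct.includeRight : B →ₐ[A] A₀ ⊗[A] B).toRingHom :=
    IsLocalHom.of_surjective _ hincl
  haveI : IsLocalHom (algebraMap A A₀) := IsLocalHom.of_surjective _ hA₀
  haveI : IsLocalHom (algebraMap A₀ (A₀ ⊗[A] B)) := ⟨fun c hc => by
    obtain ⟨a, rfl⟩ := hA₀ c
    have h1 : algebraMap A₀ (A₀ ⊗[A] B) (algebraMap A A₀ a) =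
        (Algebra.TensorProduct.includeRight : B →ₐ[A] A₀ ⊗[A] B).toRingHom
          (algebraMap A B a) := by
      rw [← IsScalarTower.algebraMap_apply A A₀ (A₀ ⊗[A] B)]
      exact ((Algebra.TensorProduct.includeRight : B →ₐ[A] A₀ ⊗[A] B).commutes a).symm
    rw [h1] at hc
    have h2 : IsUnit (algebraMap A B a) := isUnit_of_map_unit _ _ hc
    exact (isUnit_of_map_unit (algebraMap A B) a h2).map (algebraMap A A₀)⟩
  have hβ₁surj : Function.Surjective β₁ := by
    intro l
    obtain ⟨b, rfl⟩ := hΦsurj l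
    exact ⟨(1 : A₀) ⊗ₜ[A] b, hβ₁ b⟩
  have hκker : RingHom.ker (algebraMap A₀ (maximalIdeal A₀).ResidueField) = maximalIdeal A₀ :=
    Ideal.ker_algebraMap_residueField _
  have hβ₁ker : RingHom.ker β₁.toRingHom =
      (RingHom.ker (algebraMap A₀ (maximalIdeal A₀).ResidueField)).map
        (algebraMap A₀ (A₀ ⊗[A] B)) := by
    apply le_antisymm
    · intro z hz
      obtain ⟨b, rfl⟩ := hincl z
      have hb : Φ b = 0 := by
        rw [← hβ₁]
        exact RingHom.mem_ker.1 hz
      have hb' : b ∈ (maximalIdeal A).map (algebraMap A B) := by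
        rw [← hΦker]
        exact RingHom.mem_ker.2 hb
      have h1 : (Algebra.TensorProduct.includeRight : B →ₐ[A] A₀ ⊗[A] B) b ∈
          ((maximalIdeal A).map (algebraMap A B)).map
            (Algebra.TensorProduct.includeRight : B →ₐ[A] A₀ ⊗[A] B).toRingHom :=
        Ideal.mem_map_of_mem _ hb'
      rw [Ideal.map_map] at h1
      have h2 : (Algebra.TensorProduct.includeRight : B →ₐ[A] A₀ ⊗[A] B).toRingHom.comp
          (algebraMap A B) = (algebraMap A₀ (A₀ ⊗[A] B)).comp (algebraMap A A₀) := by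
        ext a
        show (Algebra.TensorProduct.includeRight : B →ₐ[A] A₀ ⊗[A] B) (algebraMap A B a) = _
        rw [AlgHom.commutes, IsScalarTower.algebraMap_apply A A₀ (A₀ ⊗[A] B)]
        rfl
      rw [h2, ← Ideal.map_map] at h1
      rw [hκker]
      exact Ideal.map_mono (map_maximalIdeal_le (algebraMap A A₀)) h1
    · rw [Ideal.map_le_iff_le_comap]
      intro c hc
      rw [Ideal.mem_comap, RingHom.mem_ker]
      show β₁ (algebraMap A₀ (A₀ ⊗[A] B) c) = 0
      rw [β₁.commutes, IsScalarTower.algebraMap_apply A₀ (maximalIdeal A₀).ResidueField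
        ((maximalIdeal A₀).Fiber B₀), RingHom.mem_ker.1 hc, map_zero]
  obtain ⟨v, -⟩ := exists_equiv_of_flat (A := A₀) (A₀ := (maximalIdeal A₀).ResidueField)
    hκsurj hκker.le hLfs β₁ hβ₁surj hβ₁ker
    (Algebra.TensorProduct.includeRight : B₀ →ₐ[A₀] (maximalIdeal A₀).Fiber B₀)
    fiber_includeRight_surjective (ker_includeRight' hκsurj B₀)
  exact ⟨v⟩

end Main

end Groth.Agent.Lib.FlatLiftH3
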