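import Mathlib
import Groth.Agent.Lib.GeomRegFS_helper3
import Groth.Agent.Lib.Serre2_helper5

/-!
# Geometric regularity and base field extension (helper3)
-/

set_option autoImplicit false
set_option maxSynthPendingDepth 3

namespace Groth.Agent.Lib.GeomRegFSH3

open TensorProduct IsLocalRing

universe u

/-- a common finite overfield -/
theorem exists_compositum (k K k' : Type u) [Field k] [Field K] [Field k'] [Algebra k K]
    [Algebra k k'] [Module.Finite k k'] :
    ∃ (K' : Type u) (_ : Field K') (_ : Algebra K K') (_ : Algebra k' K') (_ : Algebra k K'),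
      IsScalarTower k K K' ∧ IsScalarTower k k' K' ∧ Module.Finite K K' := by
  obtain ⟨𝔫, h𝔫⟩ := Ideal.exists_maximal (K ⊗[k] k')
  haveI := h𝔫
  letI : Field ((K ⊗[k] k') ⧸ 𝔫) := Ideal.Quotient.field 𝔫
  letI algk' : Algebra k' ((K ⊗[k] k') ⧸ 𝔫) :=
    ((Ideal.Quotient.mk 𝔫).comp
      (Algebra.TensorProduct.includeRight : k' →ₐ[k] K ⊗[k] k').toRingHom).toAlgebra
  refine ⟨(K ⊗[k] k') ⧸ 𝔫, inferInstance, inferInstance, algk', inferInstance, inferInstance,
    ?_, ?_⟩
  · refine IsScalarTower.of_algebraMap_eq (fun c => ?_)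
    show Ideal.Quotient.mk 𝔫 (algebraMap k (K ⊗[k] k') c) =
      Ideal.Quotient.mk 𝔫 ((1 : K) ⊗ₜ[k] algebraMap k k' c)
    rw [Algebra.TensorProduct.algebraMap_apply, Algebra.algebraMap_eq_smul_one c,
      Algebra.algebraMap_eq_smul_one (A := k') c, smul_tmul]
  · exact Module.Finite.of_surjective (Ideal.Quotient.mkₐ K 𝔫).toLinearMap
      (Ideal.Quotient.mkₐ_surjective K 𝔫)

section

variable (k S : Type u) [Field k] [CommRing S] [Algebra k S] [IsNoetherianRing S]
  (K : Type u) [Field K] [Algebra k K]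

theorem isGeometricallyRegular_tensor [Algebra.EssFiniteType k K]
    (h : CAlg.IsGeometricallyRegular k S) : CAlg.IsGeometricallyRegular K (K ⊗[k] S) := by
  intro L _ _ hfin
  haveI := hfin
  letI : Algebra k L := Algebra.compHom L (algebraMap k K)
  haveI : IsScalarTower k K L := IsScalarTower.of_algebraMap_eq (fun _ => rfl)
  haveI : Algebra.EssFiniteType k L := Algebra.EssFiniteType.comp k K L
  haveI := isNoetherianRing_tensor_of_essFiniteType (k := k) (S := S) L
  haveI : IsRegularRing (L ⊗[k] S) :=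
    isRegularRing_tensor_of_forall_adic ((isGeometricallyRegular_iff_forall_adic).1 h) L
  exact IsRegularRing.of_ringEquiv
    (Algebra.TensorProduct.cancelBaseChange k K L L S).symm.toRingEquiv

theorem isGeometricallyRegular_of_tensor
    (h : CAlg.IsGeometricallyRegular K (K ⊗[k] S)) : CAlg.IsGeometricallyRegular k S := by
  intro k' _ _ hfin
  haveI := hfin
  obtain ⟨K', _, _, _, _, _, _, hfinK'⟩ := exists_compositum k K k'
  have hreg := h K' hfinK'
  haveI := hreg
  haveI : IsRegularRing ((k' ⊗[k] S) ⊗[k'] K') :=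
    IsRegularRing.of_ringEquiv
      ((Algebra.TensorProduct.cancelBaseChange k K K' K' S).toRingEquiv.trans
        ((Algebra.TensorProduct.cancelBaseChange k k' K' K' S).toRingEquiv.symm.trans
          (Algebra.TensorProduct.comm k' (k' ⊗[k] S) K').toRingEquiv.symm))
  exact Groth.Agent.Serre.regularRing_of_faithfullyFlat (k' ⊗[k] S) ((k' ⊗[k] S) ⊗[k'] K')

end

end Groth.Agent.Lib.GeomRegFSH3
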