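import Mathlib
import Groth.Prelude.Def_EGA4b
import Groth.Agent.Lib.GRingBase_helper3
import Groth.Agent.Lib.FSFiber2_helper3
import Groth.Agent.Lib.FlatLift3_helper3
import Groth.Agent.Lib.CompleteNagata_helper3
import Groth.Agent.Lib.RegFlat_helper3
import Groth.Agent.Lib.GeomRegFS2_helper3

/-!
# Localization of formal smoothness, regular base (helper3)

For `A₀ = Λ[[X_1..X_n]]` (`Λ` a field or a Cohen ring) and a complete Noetherian local
`A₀`-algebra `T` which is formally smooth for the adic topology, the generic fibre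
`Frac(A₀) ⊗ T` is geometrically regular; more generally `K ⊗_{A₀} T` is regular for every
field `K` essentially of finite type over `A₀` with `A₀ → K` injective.
APPEND-ONLY once landed.
-/

set_option autoImplicit false
set_option maxSynthPendingDepth 3

namespace Groth.Agent.Lib.LocFSH3

universe u

open TensorProduct IsLocalRing

section CharZero

theorem isGeometricallyRegular_tensor_charZero (D : Type u) [CommRing D] [IsDomain D]
    (κ₀ : Type u) [Field κ₀] [Algebra D κ₀] [IsFractionRing D κ₀] [CharZero κ₀]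
    (T : Type u) [CommRing T] [Algebra D T] [IsRegularRing T] :
    CAlg.IsGeometricallyRegular κ₀ (κ₀ ⊗[D] T) := by
  letI algR : Algebra T (κ₀ ⊗[D] T) := Algebra.TensorProduct.rightAlgebra
  haveI hlocF : IsLocalization (Algebra.algebraMapSubmonoid T (nonZeroDivisors D))
      (κ₀ ⊗[D] T) := IsLocalization.tensorRight κ₀ (nonZeroDivisors D)
  haveI : IsRegularRing (κ₀ ⊗[D] T) :=
    Groth.Agent.Lib.RegLocH3.isRegularRing_of_isLocalization
      (Algebra.algebraMapSubmonoid T (nonZeroDivisors D)) _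
  intro k' _ _ hfin
  haveI : Module.Finite κ₀ k' := hfin
  haveI : Algebra.IsSeparable κ₀ k' := inferInstance
  haveI : Algebra.FormallyEtale κ₀ k' := Algebra.FormallyEtale.of_isSeparable κ₀ k'
  haveI : Algebra.FinitePresentation κ₀ k' :=
    Algebra.FinitePresentation.of_finiteType.mp inferInstance
  haveI : Algebra.Smooth κ₀ k' := ⟨inferInstance, inferInstance⟩
  have hreg : CAlg.IsRegularHom κ₀ k' :=
    Groth.Agent.Lib.SmoothRegHomH3.isRegularHom_of_smooth κ₀ k'
  haveI : IsNoetherianRing (k' ⊗[κ₀] (κ₀ ⊗[D] T)) :=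
    Groth.Agent.Lib.GeomRegFSH3.isNoetherianRing_tensor_of_finite k'
  haveI : IsNoetherianRing ((κ₀ ⊗[D] T) ⊗[κ₀] k') :=
    isNoetherianRing_of_ringEquiv _
      (Algebra.TensorProduct.comm κ₀ k' (κ₀ ⊗[D] T)).toRingEquiv
  haveI := Groth.Agent.Lib.RegHomBCH3.isRegularRing_baseChange κ₀ k' hreg (κ₀ ⊗[D] T)
  let e : (κ₀ ⊗[D] T) ⊗[κ₀] k' ≃ₐ[κ₀] k' ⊗[κ₀] (κ₀ ⊗[D] T) :=
    Algebra.TensorProduct.comm κ₀ (κ₀ ⊗[D] T) k'
  exact IsRegularRing.of_ringEquiv (R := (κ₀ ⊗[D] T) ⊗[κ₀] k') e.toRingEquiv

end CharZero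

section CharP

variable (p : ℕ) [hp : Fact p.Prime] (A : Type u) [CommRing A] [IsDomain A]
  (κ₀ : Type u) [Field κ₀] [Algebra A κ₀] [IsFractionRing A κ₀] [CharP κ₀ p]
  {ι : Type*} [Nonempty ι] (S : ι → Subring A)

include hp in
theorem isGeometricallyRegular_tensor_charP
    (hdir : ∀ a b, ∃ c, S c ≤ S a ⊓ S b) (hfin : ∀ i, Module.Finite (S i) A)
    (hint : ∀ x : κ₀, (∀ i, x ∈ Subfield.closure (algebraMap A κ₀ '' (S i : Set A))) ↔
      ∃ y : κ₀, y ^ p = x)
    (T : Type u) [CommRing T] [IsLocalRing T] [IsNoetherianRing T]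
    [IsAdicComplete (maximalIdeal T) T] [Algebra A T] [IsRegularRing T]
    (hfs : CAlgX.IsAdicFormallySmooth A T (maximalIdeal T)) :
    CAlg.IsGeometricallyRegular κ₀ (κ₀ ⊗[A] T) := by
  letI algR : Algebra T (κ₀ ⊗[A] T) := Algebra.TensorProduct.rightAlgebra
  haveI hlocF : IsLocalization (Algebra.algebraMapSubmonoid T (nonZeroDivisors A))
      (κ₀ ⊗[A] T) := IsLocalization.tensorRight κ₀ (nonZeroDivisors A)
  haveI : IsRegularRing (κ₀ ⊗[A] T) :=
    Groth.Agent.Lib.RegLocH3.isRegularRing_of_isLocalization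
      (Algebra.algebraMapSubmonoid T (nonZeroDivisors A)) _
  rw [Groth.Agent.Lib.GeomRegFSH3.isGeometricallyRegular_iff_forall_adic]
  intro 𝔮 h𝔮
  rw [Groth.Agent.S2471.result]
  refine ⟨inferInstance, ?_⟩
  apply Groth.Agent.Lib.GenericFibreCharPH3.injective_of_dual_derivations
  intro σ _ t ht
  haveI : IsScalarTower T (κ₀ ⊗[A] T) (Localization.AtPrime 𝔮) := inferInstance
  haveI : Algebra.FormallyEtale T (κ₀ ⊗[A] T) :=
    Algebra.FormallyEtale.of_isLocalization
      (Algebra.algebraMapSubmonoid T (nonZeroDivisors A))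
  haveI : Algebra.FormallyEtale (κ₀ ⊗[A] T) (Localization.AtPrime 𝔮) :=
    Algebra.FormallyEtale.of_isLocalization 𝔮.primeCompl
  haveI : Algebra.FormallyEtale T (Localization.AtPrime 𝔮) :=
    Algebra.FormallyEtale.comp T (κ₀ ⊗[A] T) (Localization.AtPrime 𝔮)
  haveI : IsScalarTower A T (Localization.AtPrime 𝔮) :=
    IsScalarTower.of_algebraMap_eq (fun d => by
      rw [IsScalarTower.algebraMap_apply T (κ₀ ⊗[A] T) (Localization.AtPrime 𝔮),
        IsScalarTower.algebraMap_apply A (κ₀ ⊗[A] T) (Localization.AtPrime 𝔮)]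
      congr 1
      show algebraMap A (κ₀ ⊗[A] T) d = (1 : κ₀) ⊗ₜ[A] (algebraMap A T d)
      rw [Algebra.TensorProduct.algebraMap_apply, Algebra.algebraMap_eq_smul_one,
        Algebra.algebraMap_eq_smul_one (A := T), TensorProduct.smul_tmul])
  exact Groth.Agent.Lib.GenericFibreCharPH3.exists_dual_derivations_ring p A κ₀ S hdir hfin hint
    (Localization.AtPrime 𝔮)
    (fun E => Groth.Agent.Lib.GenericFibreCharPH3.exists_derivation_extension A A T
      (Localization.AtPrime 𝔮) hfs E) σ t ht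

end CharP

section Regular

variable {A₀ T : Type u} [CommRing A₀] [IsLocalRing A₀] [IsNoetherianRing A₀] [CommRing T]
  [IsLocalRing T] [IsNoetherianRing T] [Algebra A₀ T] [IsLocalHom (algebraMap A₀ T)]

open Groth.Agent.Lib.FSFiberH3 Groth.Agent.Lib.FlatLiftH3 in
/-- a Noetherian local ring formally smooth over a regular local ring is regular -/
theorem isRegularLocalRing_of_adic [IsRegularLocalRing A₀]
    (hfs : CAlgX.IsAdicFormallySmooth A₀ T (maximalIdeal T)) : IsRegularLocalRing T := by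
  haveI : Module.Flat A₀ T := Groth.Agent.Lib.FSFlatH3.flat_of_isAdicFormallySmooth hfs
  haveI : IsLocalRing ((maximalIdeal A₀).Fiber T) := fiber_isLocalRing
  haveI : IsNoetherianRing ((maximalIdeal A₀).Fiber T) := fiber_isNoetherianRing
  have hLfs : CAlgX.IsAdicFormallySmooth (maximalIdeal A₀).ResidueField
      ((maximalIdeal A₀).Fiber T) (maximalIdeal ((maximalIdeal A₀).Fiber T)) :=
    fiber_adic_of_adic hfs
  haveI hreg : IsRegularLocalRing ((maximalIdeal A₀).Fiber T) :=
    Groth.Agent.Lib.SmoothRegFieldH3.regular_of_adic_field hLfs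
  have hsurj : Function.Surjective
      (Algebra.TensorProduct.includeRight : T →ₐ[A₀] (maximalIdeal A₀).Fiber T).toRingHom :=
    fiber_includeRight_surjective
  have hker : RingHom.ker
      (Algebra.TensorProduct.includeRight : T →ₐ[A₀] (maximalIdeal A₀).Fiber T).toRingHom =
      (maximalIdeal A₀).map (algebraMap A₀ T) := by
    rw [ker_includeRight' (Ideal.algebraMap_residueField_surjective (maximalIdeal A₀)) T,
      Ideal.ker_algebraMap_residueField]
  let e : T ⧸ (maximalIdeal A₀).map (algebraMap A₀ T) ≃+* (maximalIdeal A₀).Fiber T :=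
    (Ideal.quotEquivOfEq hker.symm).trans (RingHom.quotientKerEquivOfSurjective hsurj)
  haveI : Nontrivial (T ⧸ (maximalIdeal A₀).map (algebraMap A₀ T)) := e.toRingHom.domain_nontrivial
  haveI : IsLocalRing (T ⧸ (maximalIdeal A₀).map (algebraMap A₀ T)) :=
    IsLocalRing.of_surjective' (Ideal.Quotient.mk _) Ideal.Quotient.mk_surjective
  haveI : IsRegularLocalRing (T ⧸ (maximalIdeal A₀).map (algebraMap A₀ T)) :=
    IsRegularLocalRing.of_ringEquiv e.symm
  exact Groth.Agent.Lib.RegFlatH3.isRegularLocalRing_of_flat (A := A₀)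
    ((maximalIdeal A₀).map (algebraMap A₀ T)) rfl

end Regular

section PS

variable (Λ : Type u) [CommRing Λ] (n : ℕ)

/-- **Regular base case of the localization theorem.** -/
theorem isRegularRing_tensor_ps (hΛ : IsField Λ ∨ CAlg.IsCohenRing Λ)
    (T : Type u) [CommRing T] [IsLocalRing T] [IsNoetherianRing T]
    [IsAdicComplete (maximalIdeal T) T] [Algebra (MvPowerSeries (Fin n) Λ) T]
    [IsLocalHom (algebraMap (MvPowerSeries (Fin n) Λ) T)]
    (hfs : CAlgX.IsAdicFormallySmooth (MvPowerSeries (Fin n) Λ) T (maximalIdeal T))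
    (K : Type u) [Field K] [Algebra (MvPowerSeries (Fin n) Λ) K]
    [Algebra.EssFiniteType (MvPowerSeries (Fin n) Λ) K]
    (hK : Function.Injective (algebraMap (MvPowerSeries (Fin n) Λ) K)) :
    IsRegularRing (K ⊗[MvPowerSeries (Fin n) Λ] T) := by
  have key : ∃ (_ : IsDomain Λ) (_ : IsRegularLocalRing Λ),
      CharZero Λ ∨ (IsField Λ ∧ ∃ p : ℕ, p.Prime ∧ CharP Λ p) := by
    rcases hΛ with hfield | ⟨hd, hdvr, -, p, hp, hm⟩
    · letI := hfield.toField
      refine ⟨inferInstance, inferInstance, ?_⟩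
      obtain ⟨q, hq⟩ := CharP.exists Λ
      rcases CharP.char_is_prime_or_zero Λ q with hq' | hq'
      · exact Or.inr ⟨hfield, q, hq', hq⟩
      · subst hq'
        exact Or.inl (CharP.charP_to_charZero Λ)
    · haveI := hd
      haveI := hdvr
      exact ⟨hd, inferInstance,
        Or.inl (Groth.Agent.Lib.CompleteNagataH3.charZero_of_isCohenRing Λ p hp hm)⟩
  obtain ⟨hd, hreg, hchar⟩ := key
  haveI := hd
  haveI := hreg
  haveI hregPS := Groth.Agent.Lib.RegPSH3.isRegularLocalRing_mvPowerSeries Λ n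
  haveI : IsNoetherianRing (MvPowerSeries (Fin n) Λ) := inferInstance
  haveI hTreg : IsRegularLocalRing T := isRegularLocalRing_of_adic hfs
  haveI : IsRegularRing T := Groth.Agent.Lib.FlatPSH3.isRegularRing_of_isRegularLocalRing _
  -- the fraction field
  letI algF : Algebra (FractionRing (MvPowerSeries (Fin n) Λ)) K :=
    (IsFractionRing.lift hK).toAlgebra
  haveI tow : IsScalarTower (MvPowerSeries (Fin n) Λ) (FractionRing (MvPowerSeries (Fin n) Λ)) K :=
    IsScalarTower.of_algebraMap_eq (fun a => (IsFractionRing.lift_algebraMap hK a).symm)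
  haveI : Algebra.EssFiniteType (FractionRing (MvPowerSeries (Fin n) Λ)) K :=
    Algebra.EssFiniteType.of_comp (MvPowerSeries (Fin n) Λ) _ K
  have hgeom : CAlg.IsGeometricallyRegular (FractionRing (MvPowerSeries (Fin n) Λ))
      (FractionRing (MvPowerSeries (Fin n) Λ) ⊗[MvPowerSeries (Fin n) Λ] T) := by
    rcases hchar with h0 | ⟨hf, p, hp, hcp⟩
    · haveI := h0
      haveI : CharZero (MvPowerSeries (Fin n) Λ) :=
        charZero_of_injective_ringHom (f := (MvPowerSeries.C : Λ →+* MvPowerSeries (Fin n) Λ))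
          MvPowerSeries.C_injective
      haveI : CharZero (FractionRing (MvPowerSeries (Fin n) Λ)) :=
        charZero_of_injective_algebraMap
          (IsFractionRing.injective (MvPowerSeries (Fin n) Λ) _)
      exact isGeometricallyRegular_tensor_charZero _ _ T
    · haveI : Fact p.Prime := ⟨hp⟩
      haveI := hcp
      haveI : CharP (MvPowerSeries (Fin n) Λ) p :=
        charP_of_injective_ringHom (f := (MvPowerSeries.C : Λ →+* MvPowerSeries (Fin n) Λ))
          MvPowerSeries.C_injective p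
      haveI : CharP (FractionRing (MvPowerSeries (Fin n) Λ)) p :=
        charP_of_injective_algebraMap
          (IsFractionRing.injective (MvPowerSeries (Fin n) Λ) _) p
      letI := hf.toField
      obtain ⟨ι, hne, S, hdir, hS, hint⟩ := Groth.Agent.S4548.result p Λ n
      haveI := hne
      refine isGeometricallyRegular_tensor_charP p (MvPowerSeries (Fin n) Λ) _ S hdir
        (fun i => (hS i).2.2) ?_ T hfs
      intro x
      have hx := Set.ext_iff.mp hint x
      rw [Set.iInf_eq_iInter, Set.mem_iInter] at hx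
      exact hx
  letI algR : Algebra T (FractionRing (MvPowerSeries (Fin n) Λ) ⊗[MvPowerSeries (Fin n) Λ] T) :=
    Algebra.TensorProduct.rightAlgebra
  haveI : IsNoetherianRing
      (FractionRing (MvPowerSeries (Fin n) Λ) ⊗[MvPowerSeries (Fin n) Λ] T) :=
    IsLocalization.isNoetherianRing
      (Algebra.algebraMapSubmonoid T (nonZeroDivisors (MvPowerSeries (Fin n) Λ))) _ inferInstance
  haveI := Groth.Agent.Lib.GeomRegFSH3.isNoetherianRing_tensor_of_essFiniteType
    (k := FractionRing (MvPowerSeries (Fin n) Λ))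
    (S := FractionRing (MvPowerSeries (Fin n) Λ) ⊗[MvPowerSeries (Fin n) Λ] T) K
  haveI : IsRegularRing (K ⊗[FractionRing (MvPowerSeries (Fin n) Λ)]
      (FractionRing (MvPowerSeries (Fin n) Λ) ⊗[MvPowerSeries (Fin n) Λ] T)) :=
    Groth.Agent.Lib.GeomRegFSH3.isRegularRing_tensor_of_forall_adic
      ((Groth.Agent.Lib.GeomRegFSH3.isGeometricallyRegular_iff_forall_adic).1 hgeom) K
  exact IsRegularRing.of_ringEquiv
    (Algebra.TensorProduct.cancelBaseChange (MvPowerSeries (Fin n) Λ)
      (FractionRing (MvPowerSeries (Fin n) Λ)) K K T).toRingEquiv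

end PS

end Groth.Agent.Lib.LocFSH3
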