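import Mathlib
import Groth.Prelude.Def_EGA4b
import Groth.Agent.Lib.FlatLift3_helper3
import Groth.Agent.Lib.FSFiber2_helper3
import Groth.Agent.Lib.CompleteIC_helper3

/-!
# Descending a formally smooth complete local algebra along a finite extension (helper3)

`A₀ → A` a finite local homomorphism of Noetherian local rings inducing an isomorphism of
residue fields, `B` a complete Noetherian local `A`-algebra which is formally smooth. Then
`B ≅ A ⊗_{A₀} B₀` for a complete Noetherian local formally smooth `A₀`-algebra `B₀`.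
APPEND-ONLY once landed.
-/

set_option autoImplicit false
set_option maxSynthPendingDepth 3

namespace Groth.Agent.Lib.LocFSH3

universe u

open TensorProduct IsLocalRing Groth.Agent.Lib.FSFiberH3 Groth.Agent.Lib.FlatLiftH3

section Finite

/-- base change of a finite algebra is finite, for the right structure map -/
theorem finite_includeRight (A₀ A B₀ : Type*) [CommRing A₀] [CommRing A] [CommRing B₀]
    [Algebra A₀ A] [Algebra A₀ B₀] [Module.Finite A₀ A] :
    (Algebra.TensorProduct.includeRight : B₀ →ₐ[A₀] A ⊗[A₀] B₀).toRingHom.Finite := by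
  letI : Algebra B₀ (A ⊗[A₀] B₀) :=
    (Algebra.TensorProduct.includeRight : B₀ →ₐ[A₀] A ⊗[A₀] B₀).toRingHom.toAlgebra
  show Module.Finite B₀ (A ⊗[A₀] B₀)
  let e := Algebra.TensorProduct.comm A₀ B₀ A
  let f : B₀ ⊗[A₀] A →ₗ[B₀] A ⊗[A₀] B₀ :=
    { toFun := e
      map_add' := map_add e
      map_smul' := fun b x => by
        show e (b • x) = (1 : A) ⊗ₜ[A₀] b * e x
        rw [Algebra.smul_def, map_mul, Algebra.TensorProduct.algebraMap_apply]
        congr 1 }
  exact Module.Finite.of_surjective f e.surjective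

end Finite

section LiftX

variable {A₀ A : Type u} [CommRing A₀] [IsLocalRing A₀] [IsNoetherianRing A₀]
  [CommRing A] [IsLocalRing A] [IsNoetherianRing A] [Algebra A₀ A] [Module.Finite A₀ A]
  {k : Type u} [Field k] [Algebra A k] [Algebra A₀ k] [IsScalarTower A₀ A k]
  {L : Type u} [CommRing L] [IsRegularLocalRing L] [IsAdicComplete (maximalIdeal L) L]
  [Algebra k L] [Algebra A L] [Algebra A₀ L] [IsScalarTower A k L] [IsScalarTower A₀ k L]
  [IsScalarTower A₀ A L]
  {B : Type u} [CommRing B] [IsLocalRing B] [IsNoetherianRing B]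
  [IsAdicComplete (maximalIdeal B) B] [Algebra A B] [IsLocalHom (algebraMap A B)]
  [Module.Flat A B]

theorem ker_eq_maximalIdeal_of_surjective {R κ : Type*} [CommRing R] [IsLocalRing R] [Field κ]
    [Algebra R κ] (h : Function.Surjective (algebraMap R κ)) :
    RingHom.ker (algebraMap R κ) = maximalIdeal R := by
  haveI : (RingHom.ker (algebraMap R κ)).IsMaximal := RingHom.ker_isMaximal_of_surjective _ h
  exact IsLocalRing.eq_maximalIdeal inferInstance

theorem exists_lift_of_finite_aux (hk : Function.Surjective (algebraMap A k))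
    (hk₀ : Function.Surjective (algebraMap A₀ k))
    (h₀ : CAlgX.IsAdicFormallySmooth k L (maximalIdeal L))
    (β : B →ₐ[A] L) (hβ : Function.Surjective β)
    (hβker : RingHom.ker β.toRingHom = (maximalIdeal A).map (algebraMap A B)) :
    ∃ (B₀ : Type u) (_ : CommRing B₀) (_ : IsLocalRing B₀) (_ : IsNoetherianRing B₀)
      (_ : Algebra A₀ B₀) (_ : IsLocalHom (algebraMap A₀ B₀)),
      IsAdicComplete (maximalIdeal B₀) B₀ ∧
      CAlgX.IsAdicFormallySmooth A₀ B₀ (maximalIdeal B₀) ∧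
      Nonempty (A ⊗[A₀] B₀ ≃ₐ[A] B) := by
  classical
  have hkerA : RingHom.ker (algebraMap A k) = maximalIdeal A :=
    ker_eq_maximalIdeal_of_surjective hk
  have hkerA₀ : RingHom.ker (algebraMap A₀ k) = maximalIdeal A₀ :=
    ker_eq_maximalIdeal_of_surjective hk₀
  obtain ⟨B₀, _, _, _, _, hloc₀, hcomp₀, hflat₀, Φ, hΦsurj, hΦker⟩ :=
    exists_flat_lift_local (A := A₀) hk₀ L
  haveI := hloc₀
  haveI := hcomp₀
  haveI := hflat₀
  -- formal smoothness of `B₀`
  have hle₀ : (maximalIdeal A₀).map (algebraMap A₀ B₀) ≤ maximalIdeal B₀ :=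
    ((IsLocalRing.local_hom_TFAE (algebraMap A₀ B₀)).out 0 2).mp hloc₀
  have hfs₀ : CAlgX.IsAdicFormallySmooth A₀ B₀ (maximalIdeal B₀) := by
    have hLK := liftKilled_of_surjective (A := A₀) (A₀ := k) hk₀ (B := B₀) (B₀ := L) Φ hΦsurj
      (by rw [hΦker, hkerA₀]) h₀
    rw [hkerA₀] at hLK
    exact adic_of_flat_of_liftKilled hLK hle₀
  refine ⟨B₀, inferInstance, inferInstance, inferInstance, inferInstance, hloc₀, hcomp₀, hfs₀, ?_⟩
  -- elements of `𝔪_A` die in `L`
  have hmL : ∀ a ∈ maximalIdeal A, algebraMap A L a = 0 := by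
    intro a ha
    rw [← hkerA, RingHom.mem_ker] at ha
    rw [IsScalarTower.algebraMap_apply A k L, ha, map_zero]
  have hm₀ : ∀ a₀ ∈ maximalIdeal A₀, algebraMap A₀ A a₀ ∈ maximalIdeal A := by
    intro a₀ ha₀
    rw [← hkerA₀, RingHom.mem_ker] at ha₀
    rw [← hkerA, RingHom.mem_ker, ← IsScalarTower.algebraMap_apply A₀ A k, ha₀]
  have hdec : ∀ a : A, ∃ a₀ : A₀, a - algebraMap A₀ A a₀ ∈ maximalIdeal A := by
    intro a
    obtain ⟨a₀, ha₀⟩ := hk₀ (algebraMap A k a)
    refine ⟨a₀, ?_⟩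
    rw [← hkerA, RingHom.mem_ker, map_sub, ← IsScalarTower.algebraMap_apply A₀ A k, ha₀, sub_self]
  -- the base change
  let g : B₀ →ₐ[A₀] A ⊗[A₀] B₀ := Algebra.TensorProduct.includeRight
  let β' : A ⊗[A₀] B₀ →ₐ[A] L :=
    Algebra.TensorProduct.lift (Algebra.ofId A L) Φ (fun _ _ => Commute.all _ _)
  have hβ'tmul : ∀ (a : A) (b : B₀), β' (a ⊗ₜ[A₀] b) = algebraMap A L a * Φ b := fun a b => by
    show Algebra.TensorProduct.lift (Algebra.ofId A L) Φ _ (a ⊗ₜ[A₀] b) = _
    rw [Algebra.TensorProduct.lift_tmul]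
    rfl
  have hβ'g : ∀ b : B₀, β' (g b) = Φ b := fun b => by
    show β' ((1 : A) ⊗ₜ[A₀] b) = _
    rw [hβ'tmul, map_one, one_mul]
  have hβ'surj : Function.Surjective β' := by
    intro l
    obtain ⟨b, rfl⟩ := hΦsurj l
    exact ⟨g b, hβ'g b⟩
  have hgalg : ∀ a₀ : A₀, g (algebraMap A₀ B₀ a₀) = algebraMap A (A ⊗[A₀] B₀) (algebraMap A₀ A a₀) := by
    intro a₀
    rw [g.commutes, IsScalarTower.algebraMap_apply A₀ A (A ⊗[A₀] B₀)]
  -- the kernel of `β'`
  have hclaim : ∀ z : A ⊗[A₀] B₀, ∃ b : B₀,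
      z - g b ∈ (maximalIdeal A).map (algebraMap A (A ⊗[A₀] B₀)) := by
    intro z
    induction z using TensorProduct.induction_on with
    | zero => exact ⟨0, by rw [map_zero, sub_zero]; exact Ideal.zero_mem _⟩
    | tmul a b =>
      obtain ⟨a₀, ha₀⟩ := hdec a
      refine ⟨a₀ • b, ?_⟩
      have h1 : a ⊗ₜ[A₀] b - g (a₀ • b) =
          algebraMap A (A ⊗[A₀] B₀) (a - algebraMap A₀ A a₀) * g b := by
        show a ⊗ₜ[A₀] b - (1 : A) ⊗ₜ[A₀] (a₀ • b) =
          algebraMap A (A ⊗[A₀] B₀) (a - algebraMap A₀ A a₀) * ((1 : A) ⊗ₜ[A₀] b)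
        rw [Algebra.TensorProduct.algebraMap_apply, Algebra.TensorProduct.tmul_mul_tmul,
          one_mul, mul_one, ← TensorProduct.smul_tmul]
        show a ⊗ₜ[A₀] b - (a₀ • (1 : A)) ⊗ₜ[A₀] b = (a - algebraMap A₀ A a₀) ⊗ₜ[A₀] b
        rw [TensorProduct.sub_tmul, Algebra.smul_def, mul_one]
      rw [h1]
      exact Ideal.mul_mem_right _ _ (Ideal.mem_map_of_mem _ ha₀)
    | add x y hx hy =>
      obtain ⟨b, hb⟩ := hx
      obtain ⟨b', hb'⟩ := hy
      refine ⟨b + b', ?_⟩
      have h1 : x + y - g (b + b') = (x - g b) + (y - g b') := by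
        rw [map_add]
        ring
      rw [h1]
      exact Ideal.add_mem _ hb hb'
  have hβ'ker : RingHom.ker β'.toRingHom =
      (maximalIdeal A).map (algebraMap A (A ⊗[A₀] B₀)) := by
    apply le_antisymm
    · intro z hz
      obtain ⟨b, hb⟩ := hclaim z
      have hz0 : β' z = 0 := RingHom.mem_ker.1 hz
      have hker' : (maximalIdeal A).map (algebraMap A (A ⊗[A₀] B₀)) ≤ RingHom.ker β'.toRingHom := by
        rw [Ideal.map_le_iff_le_comap]
        intro a ha
        rw [Ideal.mem_comap, RingHom.mem_ker]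
        show β' (algebraMap A (A ⊗[A₀] B₀) a) = 0
        rw [β'.commutes, hmL a ha]
      have h2 : β' (z - g b) = 0 := RingHom.mem_ker.1 (hker' hb)
      have h3 : Φ b = 0 := by
        rw [map_sub, hz0, zero_sub, neg_eq_zero, hβ'g] at h2
        exact h2
      have h4 : b ∈ (maximalIdeal A₀).map (algebraMap A₀ B₀) := by
        rw [← hΦker]
        exact RingHom.mem_ker.2 h3
      have h5 : g b ∈ (maximalIdeal A).map (algebraMap A (A ⊗[A₀] B₀)) := by
        have h6 : g b ∈ ((maximalIdeal A₀).map (algebraMap A₀ B₀)).map g.toRingHom :=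
          Ideal.mem_map_of_mem _ h4
        rw [Ideal.map_map] at h6
        refine (Ideal.map_le_iff_le_comap.2 ?_) h6
        intro a₀ ha₀
        rw [Ideal.mem_comap]
        show g (algebraMap A₀ B₀ a₀) ∈ _
        rw [hgalg]
        exact Ideal.mem_map_of_mem _ (hm₀ a₀ ha₀)
      have h7 : z = (z - g b) + g b := by ring
      rw [h7]
      exact Ideal.add_mem _ hb h5
    · rw [Ideal.map_le_iff_le_comap]
      intro a ha
      rw [Ideal.mem_comap, RingHom.mem_ker]
      show β' (algebraMap A (A ⊗[A₀] B₀) a) = 0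
      rw [β'.commutes, hmL a ha]
  -- finiteness over `B₀`
  letI algB₀ : Algebra B₀ (A ⊗[A₀] B₀) := g.toRingHom.toAlgebra
  haveI towB₀ : IsScalarTower A₀ B₀ (A ⊗[A₀] B₀) :=
    IsScalarTower.of_algebraMap_eq (fun a₀ => (g.commutes a₀).symm)
  haveI hfinB₀ : Module.Finite B₀ (A ⊗[A₀] B₀) := finite_includeRight A₀ A B₀
  haveI : IsNoetherianRing (A ⊗[A₀] B₀) := IsNoetherianRing.of_finite B₀ _
  haveI : Algebra.IsIntegral B₀ (A ⊗[A₀] B₀) := Algebra.IsIntegral.of_finite B₀ _
  haveI : Algebra.IsIntegral A₀ A := Algebra.IsIntegral.of_finite A₀ A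
  haveI : Nontrivial (A ⊗[A₀] B₀) := β'.toRingHom.domain_nontrivial
  -- locality
  have h𝔑max : ((maximalIdeal L).comap β'.toRingHom).IsMaximal :=
    Ideal.comap_isMaximal_of_surjective β'.toRingHom hβ'surj
  have huniq : ∀ 𝔫 : Ideal (A ⊗[A₀] B₀), 𝔫.IsMaximal → 𝔫 = (maximalIdeal L).comap β'.toRingHom := by
    intro 𝔫 h𝔫
    haveI := h𝔫
    have hq : 𝔫.comap (algebraMap B₀ (A ⊗[A₀] B₀)) = maximalIdeal B₀ :=
      IsLocalRing.eq_maximalIdeal (Ideal.isMaximal_comap_of_isIntegral_of_isMaximal 𝔫)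
    have hP₀ : (𝔫.comap (algebraMap A (A ⊗[A₀] B₀))).comap (algebraMap A₀ A) = maximalIdeal A₀ := by
      rw [Ideal.comap_comap, ← IsScalarTower.algebraMap_eq A₀ A (A ⊗[A₀] B₀),
        IsScalarTower.algebraMap_eq A₀ B₀ (A ⊗[A₀] B₀), ← Ideal.comap_comap, hq]
      exact ((IsLocalRing.local_hom_TFAE (algebraMap A₀ B₀)).out 0 4).mp hloc₀
    have hPmax : (𝔫.comap (algebraMap A (A ⊗[A₀] B₀))).IsMaximal :=
      Ideal.isMaximal_of_isIntegral_of_isMaximal_comap (R := A₀) _ (by
        rw [hP₀]; exact maximalIdeal.isMaximal A₀)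
    have hP : 𝔫.comap (algebraMap A (A ⊗[A₀] B₀)) = maximalIdeal A :=
      IsLocalRing.eq_maximalIdeal hPmax
    have hker𝔫 : RingHom.ker β'.toRingHom ≤ 𝔫 := by
      rw [hβ'ker, Ideal.map_le_iff_le_comap, hP]
    have hle : 𝔫 ≤ (maximalIdeal L).comap β'.toRingHom := by
      intro x hx
      rw [Ideal.mem_comap, mem_maximalIdeal, mem_nonunits_iff]
      intro hu
      obtain ⟨l, hl⟩ := hu.exists_right_inv
      obtain ⟨y, rfl⟩ := hβ'surj l
      have h1 : x * y - 1 ∈ RingHom.ker β'.toRingHom := by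
        rw [RingHom.mem_ker]
        show β' (x * y - 1) = 0
        rw [map_sub, map_mul, map_one]
        show β'.toRingHom x * β' y - 1 = 0
        rw [sub_eq_zero]
        exact hl
      have h2 : (1 : A ⊗[A₀] B₀) ∈ 𝔫 := by
        have h3 : (1 : A ⊗[A₀] B₀) = x * y - (x * y - 1) := by ring
        rw [h3]
        exact Ideal.sub_mem _ (Ideal.mul_mem_right _ _ hx) (hker𝔫 h1)
      exact h𝔫.ne_top ((Ideal.eq_top_iff_one _).2 h2)
    exact h𝔫.eq_of_le h𝔑max.ne_top hle
  haveI hlocB' : IsLocalRing (A ⊗[A₀] B₀) :=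
    IsLocalRing.of_unique_max_ideal ⟨_, h𝔑max, huniq⟩
  haveI hcompB' : IsAdicComplete (maximalIdeal (A ⊗[A₀] B₀)) (A ⊗[A₀] B₀) :=
    Groth.Agent.Lib.CompleteICH3.isAdicComplete_of_finite_local B₀ (A ⊗[A₀] B₀)
  haveI hlocAB' : IsLocalHom (algebraMap A (A ⊗[A₀] B₀)) := ⟨fun a ha => by
    by_contra hna
    have h1 : algebraMap A L a = 0 := hmL a ((mem_maximalIdeal a).2 hna)
    have h2 : IsUnit (β' (algebraMap A (A ⊗[A₀] B₀) a)) := ha.map β'
    rw [β'.commutes, h1] at h2
    exact not_isUnit_zero h2⟩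
  haveI : Module.Flat A (A ⊗[A₀] B₀) := inferInstance
  have hJ : RingHom.ker (algebraMap A k) ≤ maximalIdeal A := hkerA.le
  obtain ⟨v, -⟩ := exists_equiv_of_flat (A := A) (A₀ := k) hk hJ (B := B) (B' := A ⊗[A₀] B₀)
    (B₀ := L) h₀ β hβ (by rw [hβker, hkerA]) β' hβ'surj (by rw [hβ'ker, hkerA])
  exact ⟨v.symm⟩

end LiftX

section Main

variable {A₀ A B : Type u} [CommRing A₀] [IsLocalRing A₀] [IsNoetherianRing A₀]
  [CommRing A] [IsLocalRing A] [IsNoetherianRing A] [Algebra A₀ A] [Module.Finite A₀ A]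
  [CommRing B] [IsLocalRing B] [IsNoetherianRing B] [IsAdicComplete (maximalIdeal B) B]
  [Algebra A B] [IsLocalHom (algebraMap A B)]

/-- **Descent of formally smooth complete local algebras along finite residually trivial
extensions.** -/
theorem exists_lift_of_finite
    (hres : Function.Surjective ((residue A).comp (algebraMap A₀ A)))
    (hfs : CAlgX.IsAdicFormallySmooth A B (maximalIdeal B)) :
    ∃ (B₀ : Type u) (_ : CommRing B₀) (_ : IsLocalRing B₀) (_ : IsNoetherianRing B₀)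
      (_ : Algebra A₀ B₀) (_ : IsLocalHom (algebraMap A₀ B₀)),
      IsAdicComplete (maximalIdeal B₀) B₀ ∧
      CAlgX.IsAdicFormallySmooth A₀ B₀ (maximalIdeal B₀) ∧
      Nonempty (A ⊗[A₀] B₀ ≃ₐ[A] B) := by
  haveI : Module.Flat A B := Groth.Agent.Lib.FSFlatH3.flat_of_isAdicFormallySmooth hfs
  haveI : IsLocalRing ((maximalIdeal A).Fiber B) := fiber_isLocalRing
  haveI : IsNoetherianRing ((maximalIdeal A).Fiber B) := fiber_isNoetherianRing
  have hLfs : CAlgX.IsAdicFormallySmooth (maximalIdeal A).ResidueField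
      ((maximalIdeal A).Fiber B) (maximalIdeal ((maximalIdeal A).Fiber B)) :=
    fiber_adic_of_adic hfs
  haveI : IsRegularLocalRing ((maximalIdeal A).Fiber B) :=
    Groth.Agent.Lib.SmoothRegFieldH3.regular_of_adic_field hLfs
  haveI : IsAdicComplete (maximalIdeal ((maximalIdeal A).Fiber B)) ((maximalIdeal A).Fiber B) := by
    obtain ⟨_, _, hc⟩ := complete_of_surjective
      (Algebra.TensorProduct.includeRight : B →ₐ[A] (maximalIdeal A).Fiber B).toRingHom
      fiber_includeRight_surjective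
    exact hc
  haveI towk : IsScalarTower A₀ A (maximalIdeal A).ResidueField :=
    IsScalarTower.of_algebraMap_eq (fun a₀ => by
      rw [IsScalarTower.algebraMap_apply A₀ (Localization.AtPrime (maximalIdeal A))
          (maximalIdeal A).ResidueField,
        IsScalarTower.algebraMap_apply A (Localization.AtPrime (maximalIdeal A))
          (maximalIdeal A).ResidueField,
        ← IsScalarTower.algebraMap_apply A₀ A (Localization.AtPrime (maximalIdeal A))])
  haveI towkL : IsScalarTower A₀ (maximalIdeal A).ResidueField ((maximalIdeal A).Fiber B) :=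
    IsScalarTower.of_algebraMap_eq (fun a₀ => rfl)
  haveI towL : IsScalarTower A₀ A ((maximalIdeal A).Fiber B) := inferInstance
  have hk : Function.Surjective (algebraMap A (maximalIdeal A).ResidueField) :=
    Ideal.algebraMap_residueField_surjective (maximalIdeal A)
  have hk₀ : Function.Surjective (algebraMap A₀ (maximalIdeal A).ResidueField) := by
    intro c
    obtain ⟨a, rfl⟩ := hk c
    obtain ⟨a₀, ha₀⟩ := hres (residue A a)
    refine ⟨a₀, ?_⟩
    rw [IsScalarTower.algebraMap_apply A₀ A (maximalIdeal A).ResidueField]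
    have h1 : residue A (algebraMap A₀ A a₀) = residue A a := ha₀
    have h2 : algebraMap A₀ A a₀ - a ∈ maximalIdeal A := by
      rw [← Ideal.Quotient.eq]
      exact h1
    rw [← sub_eq_zero, ← map_sub]
    rw [← Ideal.ker_algebraMap_residueField (maximalIdeal A)] at h2
    exact RingHom.mem_ker.1 h2
  have hβker : RingHom.ker
      (Algebra.TensorProduct.includeRight : B →ₐ[A] (maximalIdeal A).Fiber B).toRingHom =
      (maximalIdeal A).map (algebraMap A B) := by
    rw [ker_includeRight' hk B, Ideal.ker_algebraMap_residueField]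
  exact exists_lift_of_finite_aux (A₀ := A₀) (A := A) (k := (maximalIdeal A).ResidueField)
    (L := (maximalIdeal A).Fiber B) (B := B) hk hk₀ hLfs
    (Algebra.TensorProduct.includeRight : B →ₐ[A] (maximalIdeal A).Fiber B)
    fiber_includeRight_surjective hβker

end Main

end Groth.Agent.Lib.LocFSH3
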