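import Mathlib
import Groth.Prelude.Def_EGA4b
import Groth.Agent.Lib.LocFS1_helper3
import Groth.Agent.Lib.LocFS2_helper3
import Groth.Agent.Lib.MonomialCharP_helper3
import Groth.Agent.Lib.GRingFS_helper3
import Groth.Agent.S0581

/-!
# Localization of formal smoothness over complete local rings (helper3)

A local homomorphism `A → B` of complete Noetherian local rings which is formally smooth for
the `𝔪_B`-adic topology is a regular homomorphism (EGA IV 7.5.1, Stacks 07PM).
APPEND-ONLY once landed.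
-/

set_option autoImplicit false
set_option maxSynthPendingDepth 3

namespace Groth.Agent.Lib.LocFSH3

universe u

open TensorProduct IsLocalRing Groth.Agent.Lib.FSFiberH3 Groth.Agent.Lib.FlatLiftH3

section BaseChange

variable {A B : Type u} [CommRing A] [CommRing B] [Algebra A B]

/-- base change of adic formal smoothness -/
theorem adic_baseChange (A₁ : Type u) [CommRing A₁] [Algebra A A₁] (𝔫 : Ideal B)
    (𝔫' : Ideal (A₁ ⊗[A] B))
    (hle : 𝔫.map (Algebra.TensorProduct.includeRight : B →ₐ[A] A₁ ⊗[A] B).toRingHom ≤ 𝔫')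
    (h : CAlgX.IsAdicFormallySmooth A B 𝔫) : CAlgX.IsAdicFormallySmooth A₁ (A₁ ⊗[A] B) 𝔫' := by
  intro C _ _ J hJ ψF ⟨k, hk⟩
  letI : Algebra A C := Algebra.compHom C (algebraMap A A₁)
  haveI : IsScalarTower A A₁ C := IsScalarTower.of_algebraMap_eq (fun _ => rfl)
  let ψ : B →ₐ[A] C ⧸ J :=
    (ψF.restrictScalars A).comp (Algebra.TensorProduct.includeRight : B →ₐ[A] A₁ ⊗[A] B)
  have hψk : ∃ j : ℕ, ∀ x ∈ 𝔫 ^ j, ψ x = 0 := by
    refine ⟨k, fun x hx => ?_⟩
    show ψF ((Algebra.TensorProduct.includeRight : B →ₐ[A] A₁ ⊗[A] B).toRingHom x) = 0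
    apply hk
    refine Ideal.pow_right_mono hle k ?_
    rw [← Ideal.map_pow]
    exact Ideal.mem_map_of_mem _ hx
  obtain ⟨χ, hχ⟩ := h C J hJ ψ hψk
  let χF : A₁ ⊗[A] B →ₐ[A₁] C :=
    Algebra.TensorProduct.lift (Algebra.ofId A₁ C) χ (fun _ _ => Commute.all _ _)
  refine ⟨χF, ?_⟩
  apply Algebra.TensorProduct.ext
  · ext
  · ext b
    show Ideal.Quotient.mk J (χF ((1 : A₁) ⊗ₜ[A] b)) = ψF ((1 : A₁) ⊗ₜ[A] b)
    have h1 : χF ((1 : A₁) ⊗ₜ[A] b) = χ b := by
      show Algebra.TensorProduct.lift (Algebra.ofId A₁ C) χ _ ((1 : A₁) ⊗ₜ[A] b) = _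
      rw [Algebra.TensorProduct.lift_tmul, map_one, one_mul]
    rw [h1]
    exact AlgHom.congr_fun hχ b

end BaseChange

section Quot

variable {A B : Type u} [CommRing A] [IsLocalRing A] [CommRing B] [IsLocalRing B]
  [IsNoetherianRing B] [IsAdicComplete (maximalIdeal B) B] [Algebra A B]
  [IsLocalHom (algebraMap A B)] [Module.Flat A B]

/-- the base change of a complete local flat algebra to a quotient of the base -/
theorem tensor_quotient_facts (A₁ : Type u) [CommRing A₁] [Nontrivial A₁] [Algebra A A₁]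
    (hA₁ : Function.Surjective (algebraMap A A₁)) :
    ∃ (_ : IsLocalRing (A₁ ⊗[A] B)), IsNoetherianRing (A₁ ⊗[A] B) ∧
      IsAdicComplete (maximalIdeal (A₁ ⊗[A] B)) (A₁ ⊗[A] B) ∧
      IsLocalHom (algebraMap A₁ (A₁ ⊗[A] B)) ∧
      (maximalIdeal B).map (Algebra.TensorProduct.includeRight : B →ₐ[A] A₁ ⊗[A] B).toRingHom ≤
        maximalIdeal (A₁ ⊗[A] B) := by
  haveI : Module.FaithfullyFlat A B := Module.FaithfullyFlat.of_flat_of_isLocalHom
  haveI : Nontrivial (A₁ ⊗[A] B) :=
    (Module.FaithfullyFlat.nontrivial_tensorProduct_iff_left A A₁ (N := B)).2 inferInstance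
  have hincl : Function.Surjective
      (Algebra.TensorProduct.includeRight : B →ₐ[A] A₁ ⊗[A] B) := includeRight_surjective' hA₁ B
  obtain ⟨hloc₁, hnoeth₁, hcomp₁⟩ := complete_of_surjective
    (Algebra.TensorProduct.includeRight : B →ₐ[A] A₁ ⊗[A] B).toRingHom hincl
  haveI := hloc₁
  haveI hlh : IsLocalHom (Algebra.TensorProduct.includeRight : B →ₐ[A] A₁ ⊗[A] B).toRingHom :=
    IsLocalHom.of_surjective _ hincl
  refine ⟨hloc₁, hnoeth₁, hcomp₁, ⟨fun c hc => ?_⟩, ?_⟩
  · obtain ⟨a, rfl⟩ := hA₁ c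
    have h1 : algebraMap A₁ (A₁ ⊗[A] B) (algebraMap A A₁ a) =
        (Algebra.TensorProduct.includeRight : B →ₐ[A] A₁ ⊗[A] B).toRingHom
          (algebraMap A B a) := by
      rw [← IsScalarTower.algebraMap_apply A A₁ (A₁ ⊗[A] B)]
      exact ((Algebra.TensorProduct.includeRight : B →ₐ[A] A₁ ⊗[A] B).commutes a).symm
    rw [h1] at hc
    have h2 : IsUnit (algebraMap A B a) := isUnit_of_map_unit _ _ hc
    exact (isUnit_of_map_unit (algebraMap A B) a h2).map (algebraMap A A₁)
  · exact ((IsLocalRing.local_hom_TFAE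
      (Algebra.TensorProduct.includeRight : B →ₐ[A] A₁ ⊗[A] B).toRingHom).out 0 2).mp hlh

end Quot

section Domain

variable (A B : Type u) [CommRing A] [IsDomain A] [IsLocalRing A] [IsNoetherianRing A]
  [IsAdicComplete (maximalIdeal A) A] [CommRing B] [IsLocalRing B] [IsNoetherianRing B]
  [IsAdicComplete (maximalIdeal B) B] [Algebra A B] [IsLocalHom (algebraMap A B)]

/-- **Generic fibre.** -/
theorem isRegularRing_tensor_of_domain
    (hfs : CAlgX.IsAdicFormallySmooth A B (maximalIdeal B))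
    (K : Type u) [Field K] [Algebra A K] [Algebra.EssFiniteType A K]
    (hK : Function.Injective (algebraMap A K)) : IsRegularRing (K ⊗[A] B) := by
  obtain ⟨Λ, _, n, f, hΛ, hinj, hfin, hres⟩ := Groth.Agent.S0581.result A
  have key : ∃ (_ : IsDomain Λ), IsRegularLocalRing Λ := by
    rcases hΛ with hfield | ⟨hd, hdvr, -, p, hp, hm⟩
    · letI := hfield.toField
      exact ⟨inferInstance, inferInstance⟩
    · haveI := hd
      haveI := hdvr
      exact ⟨hd, inferInstance⟩
  obtain ⟨hd, hreg⟩ := key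
  haveI := hd
  haveI := hreg
  haveI hregPS := Groth.Agent.Lib.RegPSH3.isRegularLocalRing_mvPowerSeries Λ n
  haveI : IsNoetherianRing (MvPowerSeries (Fin n) Λ) := inferInstance
  haveI : IsLocalRing (MvPowerSeries (Fin n) Λ) := inferInstance
  letI algA : Algebra (MvPowerSeries (Fin n) Λ) A := f.toAlgebra
  haveI : Module.Finite (MvPowerSeries (Fin n) Λ) A := hfin
  obtain ⟨B₀, _, _, _, _, hloc₀, hcomp₀, hfs₀, ⟨e⟩⟩ :=
    exists_lift_of_finite (A₀ := MvPowerSeries (Fin n) Λ) (A := A) (B := B) hres hfs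
  haveI := hloc₀
  haveI := hcomp₀
  letI algK : Algebra (MvPowerSeries (Fin n) Λ) K := Algebra.compHom K f
  haveI towK : IsScalarTower (MvPowerSeries (Fin n) Λ) A K :=
    IsScalarTower.of_algebraMap_eq (fun _ => rfl)
  have hK' : Function.Injective (algebraMap (MvPowerSeries (Fin n) Λ) K) := by
    rw [IsScalarTower.algebraMap_eq (MvPowerSeries (Fin n) Λ) A K]
    exact hK.comp hinj
  haveI : Algebra.EssFiniteType (MvPowerSeries (Fin n) Λ) K :=
    Algebra.EssFiniteType.comp (MvPowerSeries (Fin n) Λ) A K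
  haveI h1 : IsRegularRing (K ⊗[MvPowerSeries (Fin n) Λ] B₀) :=
    isRegularRing_tensor_ps Λ n hΛ B₀ hfs₀ K hK'
  let e1 : K ⊗[A] (A ⊗[MvPowerSeries (Fin n) Λ] B₀) ≃ₐ[K] K ⊗[MvPowerSeries (Fin n) Λ] B₀ :=
    Algebra.TensorProduct.cancelBaseChange (MvPowerSeries (Fin n) Λ) A K K B₀
  let e2 : K ⊗[A] (A ⊗[MvPowerSeries (Fin n) Λ] B₀) ≃ₐ[K] K ⊗[A] B :=
    Algebra.TensorProduct.congr AlgEquiv.refl e
  exact IsRegularRing.of_ringEquiv (e1.symm.trans e2).toRingEquiv

end Domain

section Main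

variable (A B : Type u) [CommRing A] [IsLocalRing A] [IsNoetherianRing A]
  [IsAdicComplete (maximalIdeal A) A] [CommRing B] [IsLocalRing B] [IsNoetherianRing B]
  [IsAdicComplete (maximalIdeal B) B] [Algebra A B] [IsLocalHom (algebraMap A B)]

/-- **EGA IV 7.5.1 / Stacks 07PM**: localization of formal smoothness over complete local
rings. -/
theorem isRegularHom_of_adic (hfs : CAlgX.IsAdicFormallySmooth A B (maximalIdeal B)) :
    CAlg.IsRegularHom A B := by
  haveI hflat : Module.Flat A B := Groth.Agent.Lib.FSFlatH3.flat_of_isAdicFormallySmooth hfs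
  refine Groth.Agent.Lib.RegFlatH3.isRegularHom_of_forall_finite A B hflat
    (fun p _ => Groth.Agent.Lib.RegFlatH3.isNoetherianRing_fiber A B p) ?_
  intro p hp K _ _ _ _ hfin
  haveI := hfin
  haveI : Nontrivial (A ⧸ p) := Ideal.Quotient.nontrivial_iff.2 hp.ne_top
  haveI : IsLocalRing (A ⧸ p) :=
    IsLocalRing.of_surjective' (Ideal.Quotient.mk p) Ideal.Quotient.mk_surjective
  haveI := MonomialCharPH3.isAdicComplete_quotient A p
  have hsurj : Function.Surjective (algebraMap A (A ⧸ p)) := Ideal.Quotient.mk_surjective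
  obtain ⟨hloc₁, hnoeth₁, hcomp₁, hlh₁, hle₁⟩ :=
    tensor_quotient_facts (A := A) (B := B) (A ⧸ p) hsurj
  haveI := hloc₁
  haveI := hnoeth₁
  haveI := hcomp₁
  haveI := hlh₁
  have hfs₁ : CAlgX.IsAdicFormallySmooth (A ⧸ p) ((A ⧸ p) ⊗[A] B)
      (maximalIdeal ((A ⧸ p) ⊗[A] B)) :=
    adic_baseChange (A ⧸ p) (maximalIdeal B) _ hle₁ hfs
  -- algebra structures on `K`
  letI algA₁K : Algebra (A ⧸ p) K := Algebra.compHom K (algebraMap (A ⧸ p) p.ResidueField)
  haveI towA₁κK : IsScalarTower (A ⧸ p) p.ResidueField K :=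
    IsScalarTower.of_algebraMap_eq (fun _ => rfl)
  haveI towAA₁K : IsScalarTower A (A ⧸ p) K :=
    IsScalarTower.of_algebraMap_eq (fun a => by
      rw [IsScalarTower.algebraMap_apply A p.ResidueField K,
        IsScalarTower.algebraMap_apply (A ⧸ p) p.ResidueField K,
        IsScalarTower.algebraMap_apply A (A ⧸ p) p.ResidueField])
  haveI : Algebra.EssFiniteType (A ⧸ p) p.ResidueField :=
    Algebra.EssFiniteType.of_isLocalization p.ResidueField (nonZeroDivisors (A ⧸ p))
  haveI : Algebra.EssFiniteType p.ResidueField K := inferInstance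
  haveI : Algebra.EssFiniteType (A ⧸ p) K := Algebra.EssFiniteType.comp _ p.ResidueField K
  have hK : Function.Injective (algebraMap (A ⧸ p) K) := by
    rw [IsScalarTower.algebraMap_eq (A ⧸ p) p.ResidueField K]
    exact (algebraMap p.ResidueField K).injective.comp
      (Ideal.injective_algebraMap_quotient_residueField p)
  haveI h1 : IsRegularRing (K ⊗[A ⧸ p] ((A ⧸ p) ⊗[A] B)) :=
    isRegularRing_tensor_of_domain (A ⧸ p) ((A ⧸ p) ⊗[A] B) hfs₁ K hK
  exact IsRegularRing.of_ringEquiv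
    (Algebra.TensorProduct.cancelBaseChange A (A ⧸ p) K K B).toRingEquiv

/-- S2039 -/
theorem main2039 :
    CAlg.IsRegularHom A B ↔ CAlgX.IsAdicFormallySmooth A B (maximalIdeal B) :=
  ⟨fun h => (Groth.Agent.Lib.GRingFSH3.isFormallySmoothAdic_of_isRegularHom A B h).1,
    isRegularHom_of_adic A B⟩

/-- S2695 (the finiteness of the residue extension is not needed) -/
theorem main2695 [Module.Flat A B]
    (h : CAlg.IsGeometricallyRegular (maximalIdeal A).ResidueField
      ((maximalIdeal A).Fiber B)) : CAlg.IsRegularHom A B := by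
  haveI := fiber_isLocalRing (A := A) (B := B)
  haveI : IsNoetherianRing ((maximalIdeal A).Fiber B) := fiber_isNoetherianRing
  have h1 : CAlgX.IsAdicFormallySmooth (maximalIdeal A).ResidueField ((maximalIdeal A).Fiber B)
      (maximalIdeal ((maximalIdeal A).Fiber B)) :=
    Groth.Agent.Lib.GRingFSH3.adic_of_isGeometricallyRegular_local _ _ h
  have hAB : (maximalIdeal A).map (algebraMap A B) ≤ maximalIdeal B :=
    ((local_hom_TFAE (algebraMap A B)).out 0 2).1 ‹IsLocalHom (algebraMap A B)›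
  exact isRegularHom_of_adic A B (adic_of_flat_of_liftKilled (liftKilled_of_fiber h1) hAB)

end Main

end Groth.Agent.Lib.LocFSH3
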