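import Mathlib
import Groth.Prelude.Def_EGA4b
import Groth.Agent.Lib.LocFS3_helper3
import Groth.Agent.Lib.FFTransfer_helper3
import Groth.Agent.Lib.FSAdicCompl_helper3
import Groth.Agent.S9294
import Groth.Agent.S9295
import Groth.Agent.S4537

/-!
# Localization of formal smoothness over local rings with regular completion map (helper3)

`A → B` a local homomorphism of Noetherian local rings, `A → Â` regular. If `A → B̂` is formally
smooth for the adic topology then `A → B` is regular (EGA IV 7.5.2/7.5.3, Stacks 07PM ff).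
APPEND-ONLY once landed.
-/

set_option autoImplicit false
set_option maxSynthPendingDepth 3

namespace Groth.Agent.Lib.LocFSH3

universe u

open TensorProduct IsLocalRing Groth.Agent.Lib.FSFiberH3

section CplBase

variable {A : Type u} [CommRing A] [IsLocalRing A] [IsNoetherianRing A] {T : Type u} [CommRing T]
  [Algebra A T] [Algebra (EGA4.Cpl A) T] [IsScalarTower A (EGA4.Cpl A) T]

/-- adic formal smoothness over `A` implies adic formal smoothness over the completion `Â` -/
theorem adic_cpl_base (𝔫 : Ideal T) (hle : (maximalIdeal A).map (algebraMap A T) ≤ 𝔫)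
    (h : CAlgX.IsAdicFormallySmooth A T 𝔫) : CAlgX.IsAdicFormallySmooth (EGA4.Cpl A) T 𝔫 := by
  intro C _ _ J hJ ψ ⟨k, hk⟩
  letI : Algebra A C := Algebra.compHom C (algebraMap A (EGA4.Cpl A))
  haveI : IsScalarTower A (EGA4.Cpl A) C := IsScalarTower.of_algebraMap_eq (fun _ => rfl)
  haveI : IsScalarTower A (EGA4.Cpl A) (C ⧸ J) := IsScalarTower.of_algebraMap_eq (fun _ => rfl)
  obtain ⟨χ, hχ⟩ := h C J hJ (ψ.restrictScalars A) ⟨k, hk⟩
  have h1 : ∀ a ∈ maximalIdeal A ^ k, algebraMap A C a ∈ J := by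
    intro a ha
    have h2 : algebraMap A T a ∈ 𝔫 ^ k := by
      have h3 : algebraMap A T a ∈ (maximalIdeal A ^ k).map (algebraMap A T) :=
        Ideal.mem_map_of_mem _ ha
      rw [Ideal.map_pow] at h3
      exact Ideal.pow_right_mono hle k h3
    have h4 := hk _ h2
    have h5 : ψ (algebraMap A T a) = algebraMap A (C ⧸ J) a := (ψ.restrictScalars A).commutes a
    rw [h5, IsScalarTower.algebraMap_apply A C (C ⧸ J)] at h4
    exact Ideal.Quotient.eq_zero_iff_mem.1 h4
  have h2 : ∀ a ∈ maximalIdeal A ^ (2 * k), algebraMap A C a = 0 := by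
    intro a ha
    have ha' : a ∈ maximalIdeal A ^ k * maximalIdeal A ^ k := by
      rw [← pow_add, ← two_mul]
      exact ha
    refine Submodule.mul_induction_on ha' ?_ ?_
    · intro x hx y hy
      have h3 : algebraMap A C x * algebraMap A C y ∈ J ^ 2 := by
        rw [sq]
        exact Ideal.mul_mem_mul (h1 x hx) (h1 y hy)
      rw [hJ, Ideal.mem_bot] at h3
      rw [map_mul, h3]
    · intro x y hx hy
      rw [map_add, hx, hy, add_zero]
  have hker : ∀ f : EGA4.Cpl A →+* C,
      (∀ a : A, f (algebraMap A (EGA4.Cpl A) a) = algebraMap A C a) →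
      ((maximalIdeal A).map (algebraMap A (EGA4.Cpl A))) ^ (2 * k) ≤ RingHom.ker f := by
    intro f hf
    rw [← Ideal.map_pow, Ideal.map_le_iff_le_comap]
    intro m hm
    rw [Ideal.mem_comap, RingHom.mem_ker, hf, h2 m hm]
  have hlin : ∀ y : EGA4.Cpl A, χ (algebraMap (EGA4.Cpl A) T y) = algebraMap (EGA4.Cpl A) C y := by
    intro y
    obtain ⟨a, ha⟩ := Groth.Agent.Lib.ComplFlatH3.exists_sub_mem_pow (maximalIdeal A)
      (maximalIdeal A).fg_of_isNoetherianRing (2 * k) y
    have hf₁ : ∀ a : A, (χ.toRingHom.comp (algebraMap (EGA4.Cpl A) T))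
        (algebraMap A (EGA4.Cpl A) a) = algebraMap A C a := fun a => by
      show χ (algebraMap (EGA4.Cpl A) T (algebraMap A (EGA4.Cpl A) a)) = _
      rw [← IsScalarTower.algebraMap_apply A (EGA4.Cpl A) T, χ.commutes]
    have hf₂ : ∀ a : A, (algebraMap (EGA4.Cpl A) C) (algebraMap A (EGA4.Cpl A) a) =
        algebraMap A C a := fun a => (IsScalarTower.algebraMap_apply A (EGA4.Cpl A) C a).symm
    have e1 := RingHom.mem_ker.1 (hker _ hf₁ ha)
    have e2 := RingHom.mem_ker.1 (hker _ hf₂ ha)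
    rw [map_sub, hf₁, sub_eq_zero] at e1
    rw [map_sub, hf₂, sub_eq_zero] at e2
    exact e1.trans e2.symm
  refine ⟨{ χ.toRingHom with commutes' := hlin }, ?_⟩
  ext t
  exact AlgHom.congr_fun hχ t

end CplBase

section Main

variable (A B : Type u) [CommRing A] [CommRing B] [IsLocalRing A] [IsLocalRing B]
  [IsNoetherianRing A] [IsNoetherianRing B] [Algebra A B] [IsLocalHom (algebraMap A B)]

open Groth.Agent.Lib.FFTransferH3 in
theorem isRegularHom_of_adic_cpl (hA : CAlg.IsRegularHom A (EGA4.Cpl A))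
    (h' : CAlgX.IsAdicFormallySmooth A (EGA4.Cpl B) (maximalIdeal (EGA4.Cpl B))) :
    CAlg.IsRegularHom A B := by
  obtain ⟨hlocA, hnoethA, hcomplA, hffA, hlhA, hmapA⟩ := AnUnramH3.completion_facts A
  obtain ⟨hlocB, hnoethB, hcomplB, hffB, hlhB, hmapB⟩ := AnUnramH3.completion_facts B
  haveI := hlocA
  haveI := hnoethA
  haveI := hcomplA
  haveI := hlocB
  haveI := hnoethB
  haveI := hcomplB
  haveI := hffB
  letI := algCpl A B
  haveI := tower A B
  haveI := tower' A B
  haveI := isLocalHom_cpl A B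
  have hle : (maximalIdeal A).map (algebraMap A (EGA4.Cpl B)) ≤ maximalIdeal (EGA4.Cpl B) :=
    map_le_cpl A B
  have h1 : CAlgX.IsAdicFormallySmooth (EGA4.Cpl A) (EGA4.Cpl B) (maximalIdeal (EGA4.Cpl B)) :=
    adic_cpl_base _ hle h'
  have h2 : CAlg.IsRegularHom (EGA4.Cpl A) (EGA4.Cpl B) :=
    isRegularHom_of_adic (EGA4.Cpl A) (EGA4.Cpl B) h1
  have h3 : CAlg.IsRegularHom A (EGA4.Cpl B) :=
    Groth.Agent.S9294.result A (EGA4.Cpl A) (EGA4.Cpl B) hA h2
      (fun p _ => Groth.Agent.Lib.RegFlatH3.isNoetherianRing_fiber A (EGA4.Cpl B) p)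
  exact Groth.Agent.S9295.result A B (EGA4.Cpl B) h3
    PrimeSpectrum.comap_surjective_of_faithfullyFlat

/-- S9314 -/
theorem main9314 (hA : CAlg.IsRegularHom A (AdicCompletion (maximalIdeal A) A))
    (h : CAlgX.IsAdicFormallySmooth A B (maximalIdeal B)) : CAlg.IsRegularHom A B := by
  haveI : IsNoetherianRing (AdicCompletion (maximalIdeal B) B) :=
    Groth.Agent.RegularLib.isNoetherianRing_adicCompletion B (maximalIdeal B)
  have h0 : EGA41.IsFormallySmoothAdic A ⊥ B (maximalIdeal B) := (Groth.Agent.S4537.result _).1 h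
  have h' := Groth.Agent.Lib.FSAdicComplH3.isFormallySmoothAdic_adicCompletion ⊥
    (maximalIdeal B) h0
  rw [← AdicCompletion.maximalIdeal_eq_map] at h'
  exact isRegularHom_of_adic_cpl A B hA ((Groth.Agent.S4537.result _).2 h')

open Groth.Agent.Lib.FFTransferH3 in
/-- S4708 (the finiteness of the residue extension is not needed) -/
theorem main4708 [Module.Flat A B] (hA : CAlg.IsRegularHom A (EGA4.Cpl A))
    (h : CAlg.IsGeometricallyRegular (maximalIdeal A).ResidueField
      ((maximalIdeal A).Fiber (EGA4.Cpl B))) : CAlg.IsRegularHom A B := by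
  obtain ⟨hlocB, hnoethB, hcomplB, hffB, hlhB, hmapB⟩ := AnUnramH3.completion_facts B
  haveI := hlocB
  haveI := hnoethB
  haveI := tower' A B
  haveI : Module.Flat A (EGA4.Cpl B) := flat_base A B
  haveI hlh : IsLocalHom (algebraMap A (EGA4.Cpl B)) := by
    rw [IsScalarTower.algebraMap_eq A B (EGA4.Cpl B)]
    infer_instance
  haveI := fiber_isLocalRing (A := A) (B := EGA4.Cpl B)
  haveI : IsNoetherianRing ((maximalIdeal A).Fiber (EGA4.Cpl B)) := fiber_isNoetherianRing
  have h1 : CAlgX.IsAdicFormallySmooth (maximalIdeal A).ResidueField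
      ((maximalIdeal A).Fiber (EGA4.Cpl B)) (maximalIdeal ((maximalIdeal A).Fiber (EGA4.Cpl B))) :=
    Groth.Agent.Lib.GRingFSH3.adic_of_isGeometricallyRegular_local _ _ h
  have hle : (maximalIdeal A).map (algebraMap A (EGA4.Cpl B)) ≤ maximalIdeal (EGA4.Cpl B) :=
    map_le_cpl A B
  exact isRegularHom_of_adic_cpl A B hA
    (adic_of_flat_of_liftKilled (liftKilled_of_fiber h1) hle)

end Main

end Groth.Agent.Lib.LocFSH3
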