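import Mathlib
import Groth.Prelude.Def_Found
import Groth.Prelude.Def_EGA4b
import Groth.Agent.Lib.AdicFSTransfer_helper3
import Groth.Agent.Lib.GenericFibreCharP_helper3
import Groth.Agent.Lib.GRingFS_helper3
import Groth.Agent.Lib.RegHomLocal_helper3
import Groth.Agent.Lib.LocFS4_helper3
import Groth.Agent.Lib.GRingMaximal_helper3
import Groth.Agent.Lib.GRingIso_helper3
import Groth.Agent.Lib.SmoothReg_helper3

/-!
# Finite type algebras over G-rings are G-rings (helper3)

* `adic_polynomial` : if `S` is adically formally smooth over `R` and carries a derivation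
  (killing `R`) with `D x = 1`, then `S` is adically formally smooth over `R[X]` (`X ↦ x`).
* `isRegularHom_cpl_of_polynomial_local` : `R` local with `R → R̂` regular, `T₁` a local
  localization of `R[X]` dominating `R`; then `T₁ → T̂₁` is regular.
* `isGRing_polynomial`, `isGRing_of_surjective`, `isGRing_mvPolynomial`, `main599`.
APPEND-ONLY once landed.
-/

set_option autoImplicit false
set_option maxSynthPendingDepth 3

namespace Groth.Agent.Lib.GRingPolyH3

universe u

open TensorProduct IsLocalRing Polynomial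

section Corr

variable (R S : Type u) [CommRing R] [CommRing S] [Algebra R S] [Algebra R[X] S]
  [IsScalarTower R R[X] S]

theorem adic_polynomial (𝔫 : Ideal S) (h : CAlgX.IsAdicFormallySmooth R S 𝔫)
    (D : Derivation ℤ S S) (hDR : ∀ r : R, D (algebraMap R S r) = 0)
    (hDx : D (algebraMap R[X] S X) = 1) : CAlgX.IsAdicFormallySmooth R[X] S 𝔫 := by
  intro A _ _ J hJ ψ hψ
  letI algRA : Algebra R A := Algebra.compHom A (algebraMap R R[X])
  haveI towA : IsScalarTower R R[X] A := IsScalarTower.of_algebraMap_eq (fun _ => rfl)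
  haveI towAJ : IsScalarTower R R[X] (A ⧸ J) := IsScalarTower.of_algebraMap_eq (fun _ => rfl)
  obtain ⟨χ₀, hχ₀⟩ := h A J hJ (ψ.restrictScalars R) hψ
  have hχ₀' : ∀ s, Ideal.Quotient.mk J (χ₀ s) = ψ s := fun s => DFunLike.congr_fun hχ₀ s
  set δ : A := χ₀ (algebraMap R[X] S X) - algebraMap R[X] A X with hδ
  have hδJ : δ ∈ J := by
    rw [← Ideal.Quotient.eq_zero_iff_mem, hδ, map_sub, hχ₀', ψ.commutes]
    exact sub_self _
  have hδ2 : δ * δ = 0 := by
    have h1 : δ * δ ∈ J ^ 2 := by
      rw [pow_two]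
      exact Ideal.mul_mem_mul hδJ hδJ
    rw [hJ] at h1
    exact h1
  let χ : S →+* A :=
    { toFun := fun s => χ₀ s - χ₀ (D s) * δ
      map_one' := by
        show χ₀ 1 - χ₀ (D 1) * δ = 1
        rw [Derivation.map_one_eq_zero, map_zero, zero_mul, sub_zero, map_one]
      map_mul' := fun a b => by
        show χ₀ (a * b) - χ₀ (D (a * b)) * δ = (χ₀ a - χ₀ (D a) * δ) * (χ₀ b - χ₀ (D b) * δ)
        rw [Derivation.leibniz, smul_eq_mul, smul_eq_mul, map_add, map_mul, map_mul, map_mul]
        linear_combination (-(χ₀ (D a) * χ₀ (D b))) * hδ2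
      map_zero' := by
        show χ₀ 0 - χ₀ (D 0) * δ = 0
        rw [map_zero, map_zero, map_zero, zero_mul, sub_zero]
      map_add' := fun a b => by
        show χ₀ (a + b) - χ₀ (D (a + b)) * δ = (χ₀ a - χ₀ (D a) * δ) + (χ₀ b - χ₀ (D b) * δ)
        rw [map_add, map_add, map_add]
        ring }
  have hχ : ∀ s, χ s = χ₀ s - χ₀ (D s) * δ := fun s => rfl
  have hcomm : ∀ q : R[X], χ (algebraMap R[X] S q) = algebraMap R[X] A q := by
    have h1 : χ.comp (algebraMap R[X] S) = algebraMap R[X] A := by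
      apply Polynomial.ringHom_ext
      · intro r
        show χ (algebraMap R[X] S (C r)) = algebraMap R[X] A (C r)
        have e1 : algebraMap R[X] S (C r) = algebraMap R S r :=
          (IsScalarTower.algebraMap_apply R R[X] S r).symm
        have e2 : algebraMap R[X] A (C r) = algebraMap R A r :=
          (IsScalarTower.algebraMap_apply R R[X] A r).symm
        rw [e1, e2, hχ, hDR, map_zero, zero_mul, sub_zero, χ₀.commutes]
      · show χ (algebraMap R[X] S X) = algebraMap R[X] A X
        rw [hχ, hDx, map_one, one_mul, hδ]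
        ring
    intro q
    exact congrArg (fun f : R[X] →+* A => f q) h1
  refine ⟨{ χ with commutes' := hcomm }, ?_⟩
  apply AlgHom.ext
  intro s
  show Ideal.Quotient.mk J (χ s) = ψ s
  rw [hχ, map_sub, map_mul, Ideal.Quotient.eq_zero_iff_mem.2 hδJ, mul_zero, sub_zero, hχ₀']

end Corr

section LemmaX

variable (R : Type u) [CommRing R] [IsLocalRing R] [IsNoetherianRing R]
  (T₁ : Type u) [CommRing T₁] [IsLocalRing T₁] [IsNoetherianRing T₁] [Algebra R T₁]
  [IsLocalHom (algebraMap R T₁)] [Algebra R[X] T₁] [IsScalarTower R R[X] T₁]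

set_option maxHeartbeats 800000 in
theorem isRegularHom_cpl_of_polynomial_local (hR : CAlg.IsRegularHom R (EGA4.Cpl R))
    (M : Submonoid R[X]) [IsLocalization M T₁] :
    CAlg.IsRegularHom T₁ (EGA4.Cpl T₁) := by
  obtain ⟨hloc, hnoeth, hcompl, hff, hlh, hmap⟩ := AnUnramH3.completion_facts T₁
  haveI := hloc
  haveI := hnoeth
  haveI := hcompl
  haveI := hff
  haveI := hlh
  haveI : Algebra.FormallyEtale R[X] T₁ := Algebra.FormallyEtale.of_isLocalization M
  haveI : Algebra.FormallySmooth R T₁ := Algebra.FormallySmooth.comp R R[X] T₁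
  -- `R → Ĉ` adic formally smooth, hence regular
  have hb : CAlgX.IsAdicFormallySmooth R T₁ (maximalIdeal T₁) :=
    Groth.Agent.Lib.SmoothRegH3.adic_of_formallySmooth _
  have hc : CAlgX.IsAdicFormallySmooth R (EGA4.Cpl T₁) (maximalIdeal (EGA4.Cpl T₁)) := by
    have h0 : EGA41.IsFormallySmoothAdic R ⊥ T₁ (maximalIdeal T₁) :=
      (Groth.Agent.S4537.result _).1 hb
    have h' := Groth.Agent.Lib.FSAdicComplH3.isFormallySmoothAdic_adicCompletion ⊥
      (maximalIdeal T₁) h0
    rw [hmap] at h'
    exact (Groth.Agent.S4537.result _).2 h'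
  haveI : IsLocalHom (algebraMap R (EGA4.Cpl T₁)) := by
    rw [IsScalarTower.algebraMap_eq R T₁ (EGA4.Cpl T₁)]
    exact RingHom.isLocalHom_comp _ _
  have hRC : CAlg.IsRegularHom R (EGA4.Cpl T₁) :=
    Groth.Agent.Lib.LocFSH3.main9314 (A := R) (B := EGA4.Cpl T₁) hR hc
  have hfsC : CAlgX.IsAdicFormallySmooth T₁ (EGA4.Cpl T₁) (maximalIdeal (EGA4.Cpl T₁)) := by
    rw [← hmap]
    exact Groth.Agent.Lib.GenericFibreCharPH3.isAdicFormallySmooth_cpl T₁
  apply Groth.Agent.Lib.AdicFSTransferH3.isRegularHom_of_forall_adic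
  intro 𝔮 h𝔮
  -- (d) `R → C_𝔮` adic formally smooth
  have hd : CAlgX.IsAdicFormallySmooth R (Localization.AtPrime 𝔮)
      (maximalIdeal (Localization.AtPrime 𝔮)) := by
    letI := (Localization.localRingHom (Ideal.comap (algebraMap R (EGA4.Cpl T₁)) 𝔮) 𝔮
      (algebraMap R (EGA4.Cpl T₁)) rfl).toAlgebra
    haveI := Groth.Agent.Lib.RegHomLocalH3.isScalarTower_localRingHom R (EGA4.Cpl T₁) 𝔮
    have h1 := Groth.Agent.Lib.RegHomLocalH3.isRegularHom_localRingHom R (EGA4.Cpl T₁) hRC 𝔮
    haveI : IsLocalHom (algebraMap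
        (Localization.AtPrime (Ideal.comap (algebraMap R (EGA4.Cpl T₁)) 𝔮))
        (Localization.AtPrime 𝔮)) := by
      rw [RingHom.algebraMap_toAlgebra]
      exact Localization.isLocalHom_localRingHom _ _ _ rfl
    haveI : IsNoetherianRing (Localization.AtPrime 𝔮) :=
      IsLocalization.isNoetherianRing 𝔮.primeCompl _ inferInstance
    have h2 := (Groth.Agent.Lib.GRingFSH3.isFormallySmoothAdic_of_isRegularHom _ _ h1).1
    haveI : Algebra.FormallyEtale R
        (Localization.AtPrime (Ideal.comap (algebraMap R (EGA4.Cpl T₁)) 𝔮)) :=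
      Algebra.FormallyEtale.of_isLocalization
        (Ideal.comap (algebraMap R (EGA4.Cpl T₁)) 𝔮).primeCompl
    exact Groth.Agent.Lib.AdicFSTransferH3.adic_of_formallySmooth_base R
      (Localization.AtPrime (Ideal.comap (algebraMap R (EGA4.Cpl T₁)) 𝔮))
      (Localization.AtPrime 𝔮) _ h2
  -- towers
  haveI tow1 : IsScalarTower T₁ (EGA4.Cpl T₁) (Localization.AtPrime 𝔮) :=
    @IsScalarTower.of_algebraMap_eq T₁ (EGA4.Cpl T₁) (Localization.AtPrime 𝔮) _ _ _ _ _ _
      (fun d => rfl)
  haveI tow2 : IsScalarTower R[X] T₁ (Localization.AtPrime 𝔮) :=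
    @IsScalarTower.of_algebraMap_eq R[X] T₁ (Localization.AtPrime 𝔮) _ _ _ _ _ _ (fun d => by
      show algebraMap (EGA4.Cpl T₁) (Localization.AtPrime 𝔮) (algebraMap R[X] (EGA4.Cpl T₁) d) =
        algebraMap (EGA4.Cpl T₁) (Localization.AtPrime 𝔮)
          (algebraMap T₁ (EGA4.Cpl T₁) (algebraMap R[X] T₁ d))
      rw [← IsScalarTower.algebraMap_apply R[X] T₁ (EGA4.Cpl T₁)])
  haveI tow3 : IsScalarTower R R[X] (Localization.AtPrime 𝔮) :=
    @IsScalarTower.of_algebraMap_eq R R[X] (Localization.AtPrime 𝔮) _ _ _ _ _ _ (fun d => by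
      show algebraMap (EGA4.Cpl T₁) (Localization.AtPrime 𝔮) (algebraMap R (EGA4.Cpl T₁) d) =
        algebraMap (EGA4.Cpl T₁) (Localization.AtPrime 𝔮)
          (algebraMap R[X] (EGA4.Cpl T₁) (algebraMap R R[X] d))
      rw [← IsScalarTower.algebraMap_apply R R[X] (EGA4.Cpl T₁)])
  -- (e) the derivation
  haveI : Algebra.FormallyEtale (EGA4.Cpl T₁) (Localization.AtPrime 𝔮) :=
    Algebra.FormallyEtale.of_isLocalization 𝔮.primeCompl
  obtain ⟨E, hE⟩ := Groth.Agent.Lib.GenericFibreCharPH3.exists_derivation_extension R[X] T₁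
    (EGA4.Cpl T₁) (Localization.AtPrime 𝔮) hfsC
    ((Polynomial.derivative' (R := R)).restrictScalars ℤ)
  have hEx : E (algebraMap R[X] (Localization.AtPrime 𝔮) X) = 1 := by
    rw [hE]
    show algebraMap R[X] (Localization.AtPrime 𝔮) (Polynomial.derivative (X : R[X])) = 1
    rw [Polynomial.derivative_X, map_one]
  have hER : ∀ r : R, E (algebraMap R (Localization.AtPrime 𝔮) r) = 0 := by
    intro r
    rw [IsScalarTower.algebraMap_apply R R[X] (Localization.AtPrime 𝔮), hE]
    show algebraMap R[X] (Localization.AtPrime 𝔮)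
      (Polynomial.derivative (algebraMap R R[X] r)) = 0
    rw [Polynomial.algebraMap_apply, Algebra.algebraMap_self, RingHom.id_apply,
      Polynomial.derivative_C, map_zero]
  -- (f), (g)
  have hf := adic_polynomial R (Localization.AtPrime 𝔮) _ hd E hER hEx
  haveI : Algebra.FormallyUnramified R[X] T₁ := inferInstance
  exact Groth.Agent.Lib.AdicFSTransferH3.adic_of_formallyUnramified_base R[X] T₁
    (Localization.AtPrime 𝔮) _ hf

end LemmaX

section Poly

variable (R : Type u) [CommRing R]

attribute [local instance] Polynomial.algebra in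
set_option maxHeartbeats 800000 in
theorem isGRing_polynomial (hR : CAlg.IsGRing R) : CAlg.IsGRing R[X] := by
  haveI : IsNoetherianRing R := hR.1
  rw [Groth.Agent.Lib.GRingMaximalH3.isGRing_iff_maximal]
  intro 𝔫 h𝔫
  haveI : 𝔫.IsPrime := h𝔫.isPrime
  haveI h𝔭 : (Ideal.comap (algebraMap R R[X]) 𝔫).IsPrime := Ideal.comap_isPrime _ _
  letI algR₁T : Algebra (Localization.AtPrime (Ideal.comap (algebraMap R R[X]) 𝔫))
      (Localization.AtPrime 𝔫) :=
    (Localization.localRingHom (Ideal.comap (algebraMap R R[X]) 𝔫) 𝔫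
      (algebraMap R R[X]) rfl).toAlgebra
  haveI tow0 := Groth.Agent.Lib.RegHomLocalH3.isScalarTower_localRingHom R R[X] 𝔫
  haveI : IsLocalHom (algebraMap (Localization.AtPrime (Ideal.comap (algebraMap R R[X]) 𝔫))
      (Localization.AtPrime 𝔫)) := by
    rw [RingHom.algebraMap_toAlgebra]
    exact Localization.isLocalHom_localRingHom _ _ _ rfl
  letI algP : Algebra (Localization.AtPrime (Ideal.comap (algebraMap R R[X]) 𝔫))[X]
      (Localization.AtPrime 𝔫) :=
    (Polynomial.eval₂RingHom
      (algebraMap (Localization.AtPrime (Ideal.comap (algebraMap R R[X]) 𝔫))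
        (Localization.AtPrime 𝔫))
      (algebraMap R[X] (Localization.AtPrime 𝔫) X)).toAlgebra
  haveI tow1 : IsScalarTower (Localization.AtPrime (Ideal.comap (algebraMap R R[X]) 𝔫))
      (Localization.AtPrime (Ideal.comap (algebraMap R R[X]) 𝔫))[X] (Localization.AtPrime 𝔫) :=
    IsScalarTower.of_algebraMap_eq (fun a => by
      show _ = Polynomial.eval₂ _ _ (Polynomial.C a)
      rw [Polynomial.eval₂_C])
  haveI towP : IsScalarTower R[X]
      (Localization.AtPrime (Ideal.comap (algebraMap R R[X]) 𝔫))[X] (Localization.AtPrime 𝔫) :=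
    IsScalarTower.of_algebraMap_eq (fun q => by
      show algebraMap R[X] (Localization.AtPrime 𝔫) q = Polynomial.eval₂
        (algebraMap (Localization.AtPrime (Ideal.comap (algebraMap R R[X]) 𝔫))
          (Localization.AtPrime 𝔫))
        (algebraMap R[X] (Localization.AtPrime 𝔫) X)
        (q.map (algebraMap R (Localization.AtPrime (Ideal.comap (algebraMap R R[X]) 𝔫))))
      rw [Polynomial.eval₂_map, ← IsScalarTower.algebraMap_eq R
        (Localization.AtPrime (Ideal.comap (algebraMap R R[X]) 𝔫)) (Localization.AtPrime 𝔫)]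
      exact (Polynomial.eval₂_algebraMap_X q
        (IsScalarTower.toAlgHom R R[X] (Localization.AtPrime 𝔫))).symm)
  haveI : IsLocalization ((Ideal.comap (algebraMap R R[X]) 𝔫).primeCompl.map
      (C : R →+* R[X])) (Localization.AtPrime (Ideal.comap (algebraMap R R[X]) 𝔫))[X] :=
    Polynomial.isLocalization _ _
  have hle : (Ideal.comap (algebraMap R R[X]) 𝔫).primeCompl.map (C : R →+* R[X]) ≤
      𝔫.primeCompl := by
    rintro _ ⟨r, hr, rfl⟩
    exact hr
  haveI : IsLocalization (𝔫.primeCompl.map (algebraMap R[X]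
      (Localization.AtPrime (Ideal.comap (algebraMap R R[X]) 𝔫))[X])) (Localization.AtPrime 𝔫) :=
    IsLocalization.isLocalization_of_submonoid_le _ _
      ((Ideal.comap (algebraMap R R[X]) 𝔫).primeCompl.map (C : R →+* R[X])) 𝔫.primeCompl hle
  haveI : IsNoetherianRing (Localization.AtPrime (Ideal.comap (algebraMap R R[X]) 𝔫)) :=
    IsLocalization.isNoetherianRing (Ideal.comap (algebraMap R R[X]) 𝔫).primeCompl _ inferInstance
  haveI : IsNoetherianRing (Localization.AtPrime 𝔫) :=
    IsLocalization.isNoetherianRing 𝔫.primeCompl _ inferInstance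
  exact isRegularHom_cpl_of_polynomial_local
    (Localization.AtPrime (Ideal.comap (algebraMap R R[X]) 𝔫)) (Localization.AtPrime 𝔫)
    (hR.2 _) (𝔫.primeCompl.map (algebraMap R[X]
      (Localization.AtPrime (Ideal.comap (algebraMap R R[X]) 𝔫))[X]))

end Poly

section Quot

variable (P S : Type u) [CommRing P] [CommRing S]

/-- a quotient of a G-ring is a G-ring -/
theorem isGRing_of_surjective (f : P →+* S) (hf : Function.Surjective f) (hP : CAlg.IsGRing P) :
    CAlg.IsGRing S := by
  haveI : IsNoetherianRing P := hP.1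
  haveI : IsNoetherianRing S := isNoetherianRing_of_surjective P S f hf
  refine ⟨inferInstance, fun 𝔮 h𝔮 => ?_⟩
  haveI : (𝔮.comap f).IsPrime := Ideal.comap_isPrime _ _
  letI : Algebra (Localization.AtPrime (𝔮.comap f)) (Localization.AtPrime 𝔮) :=
    (Localization.localRingHom (𝔮.comap f) 𝔮 f rfl).toAlgebra
  haveI : IsNoetherianRing (Localization.AtPrime (𝔮.comap f)) :=
    IsLocalization.isNoetherianRing (𝔮.comap f).primeCompl _ inferInstance
  haveI : IsNoetherianRing (Localization.AtPrime 𝔮) :=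
    IsLocalization.isNoetherianRing 𝔮.primeCompl _ inferInstance
  exact Groth.Agent.Lib.GRingIsoH3.isRegularHom_cpl_of_surjective
    (Localization.AtPrime (𝔮.comap f)) (Localization.AtPrime 𝔮)
    (RingHom.surjective_localRingHom_of_surjective f hf 𝔮) (hP.2 _)

end Quot

section MvPoly

theorem isGRing_mvPolynomial (R : Type u) [CommRing R] (hR : CAlg.IsGRing R) :
    ∀ n : ℕ, CAlg.IsGRing (MvPolynomial (Fin n) R) := by
  intro n
  induction n with
  | zero =>
    exact isGRing_of_surjective R _ (MvPolynomial.isEmptyAlgEquiv R (Fin 0)).symm.toRingEquiv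
      (MvPolynomial.isEmptyAlgEquiv R (Fin 0)).symm.surjective hR
  | succ n ih =>
    have h1 := isGRing_polynomial _ ih
    exact isGRing_of_surjective _ _ (MvPolynomial.finSuccEquiv R n).symm.toRingEquiv
      (MvPolynomial.finSuccEquiv R n).symm.surjective h1

theorem main599 (R : Type u) [CommRing R] (hR : CAlg.IsGRing R) (S : Type u)
    [CommRing S] [Algebra R S] [Algebra.FiniteType R S] : CAlg.IsGRing S := by
  obtain ⟨n, f, hf⟩ := Algebra.FiniteType.iff_quotient_mvPolynomial''.1
    (inferInstance : Algebra.FiniteType R S)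
  exact isGRing_of_surjective _ S f.toRingHom hf (isGRing_mvPolynomial R hR n)

end MvPoly

end Groth.Agent.Lib.GRingPolyH3
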