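import Mathlib
import Groth.Prelude.Def_Smoothing
import Groth.Prelude.Def_Found
import Groth.Agent.Lib.ArtinApx3_helper5
import Groth.Agent.Lib.ArtinApx5_helper5
import Groth.Agent.Lib.GRingPoly_helper3

set_option autoImplicit false
set_option linter.style.haveILetI false
set_option linter.unusedVariables false
set_option linter.deprecated false
set_option maxHeartbeats 1600000

universe u

open TensorProduct IsLocalRing CategoryTheory Limits

namespace Groth.Agent.Lib.ArtinApxH5

/-- étale approximation for points of finitely presented algebras in the completion -/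
theorem etale_approx_hom (A : Type u) [CommRing A] [IsNoetherianRing A] (I : Ideal A)
    (hreg : CAlg.IsRegularHom A (AdicCompletion I A))
    (C : Type u) [CommRing C] [Algebra A C] [Algebra.FinitePresentation A C]
    (f : C →ₐ[A] AdicCompletion I A) (N : ℕ) :
    ∃ (A' : Type u) (_ : CommRing A') (_ : Algebra A A'), Algebra.Etale A A' ∧
      Function.Bijective
        (algebraMap (A ⧸ I ^ (N + 1)) (A' ⧸ (I ^ (N + 1)).map (algebraMap A A'))) ∧
      ∃ t : C →ₐ[A] A', ∀ c, Ideal.Quotient.mk ((I ^ (N + 1)).map (algebraMap A A')) (t c) =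
        algebraMap (A ⧸ I ^ (N + 1)) (A' ⧸ (I ^ (N + 1)).map (algebraMap A A'))
          (AdicCompletion.evalₐ I (N + 1) (f c)) := by
  classical
  haveI : IsNoetherianRing (AdicCompletion I A) := Groth.Agent.S0543.result A I
  obtain ⟨B, iB1, iB2, hsm, g, h, hgh⟩ :=
    Groth.Agent.Lib.PopescuH5.popescu hreg C inferInstance f
  haveI := hsm
  obtain ⟨A', iA1, iA2, het, hbij, τ, hτ⟩ :=
    Groth.Agent.Lib.EtNbhdSmoothLiftH3.main2043 (I ^ (N + 1))
      ((AdicCompletion.evalₐ I (N + 1)).comp h)
  refine ⟨A', iA1, iA2, het, hbij, τ.comp g, fun c => ?_⟩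
  show Ideal.Quotient.mk _ (τ (g c)) = _
  rw [hτ, ← hgh]
  rfl

open Groth.Agent.Lib.FpColimH5 in
/-- étale approximation for functors preserving filtered colimits (form of S16106). -/
theorem etale_functor (A : Type u) [CommRing A] [IsLocalRing A]
    (hG : CAlg.IsGRing A)
    (F : Under (CommRingCat.of A) ⥤ Type u)
    (hF : ∀ (J : Type u) [SmallCategory J] [IsFiltered J], PreservesColimitsOfShape J F)
    (N : ℕ)
    (π : Under.mk (CommRingCat.ofHom (algebraMap A
        (AdicCompletion (IsLocalRing.maximalIdeal A) A))) ⟶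
      Under.mk (CommRingCat.ofHom (algebraMap A (A ⧸ IsLocalRing.maximalIdeal A ^ (N + 1)))))
    (hπ : π.right = CommRingCat.ofHom
      (AdicCompletion.evalₐ (IsLocalRing.maximalIdeal A) (N + 1) :
        AdicCompletion (IsLocalRing.maximalIdeal A) A →ₐ[A]
          A ⧸ IsLocalRing.maximalIdeal A ^ (N + 1)).toRingHom)
    (ξ : F.obj (Under.mk (CommRingCat.ofHom (algebraMap A
        (AdicCompletion (IsLocalRing.maximalIdeal A) A))))) :
    ∃ (A' : Type u) (_ : CommRing A') (_ : Algebra A A') (_ : Algebra.Etale A A')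
      (φ : Under.mk (CommRingCat.ofHom (algebraMap A A')) ⟶
        Under.mk (CommRingCat.ofHom (algebraMap A (A ⧸ IsLocalRing.maximalIdeal A ^ (N + 1)))))
      (ξ' : F.obj (Under.mk (CommRingCat.ofHom (algebraMap A A')))),
      F.map φ ξ' = F.map π ξ := by
  classical
  haveI := hG.1
  have hreg : CAlg.IsRegularHom A (AdicCompletion (IsLocalRing.maximalIdeal A) A) :=
    Groth.Agent.Lib.GRingIsoH3.isRegularHom_cpl_of_isGRing A hG
  haveI := hF (FpOver A (AdicCompletion (IsLocalRing.maximalIdeal A) A))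
  have hc := isColimitOfPreserves F
    (fpIsColimit A (AdicCompletion (IsLocalRing.maximalIdeal A) A))
  obtain ⟨X, ξX, hξ⟩ := Types.jointly_surjective_of_isColimit hc ξ
  obtain ⟨A', iA1, iA2, het, hbij, t, ht⟩ :=
    etale_approx_hom A (IsLocalRing.maximalIdeal A) hreg X.C X.f N
  let e : A ⧸ IsLocalRing.maximalIdeal A ^ (N + 1) ≃+*
      A' ⧸ (IsLocalRing.maximalIdeal A ^ (N + 1)).map (algebraMap A A') :=
    RingEquiv.ofBijective _ hbij
  have he : ∀ y, algebraMap (A ⧸ IsLocalRing.maximalIdeal A ^ (N + 1))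
      (A' ⧸ (IsLocalRing.maximalIdeal A ^ (N + 1)).map (algebraMap A A')) y = e y := fun y => rfl
  let φr : A' →+* A ⧸ IsLocalRing.maximalIdeal A ^ (N + 1) :=
    e.symm.toRingHom.comp (Ideal.Quotient.mk _)
  have hφr : ∀ a : A, φr (algebraMap A A' a) = Ideal.Quotient.mk _ a := by
    intro a
    show e.symm (Ideal.Quotient.mk _ (algebraMap A A' a)) = _
    have : Ideal.Quotient.mk ((IsLocalRing.maximalIdeal A ^ (N + 1)).map (algebraMap A A'))
        (algebraMap A A' a) = e (Ideal.Quotient.mk _ a) := rfl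
    rw [this, e.symm_apply_apply]
  let φ : Under.mk (CommRingCat.ofHom (algebraMap A A')) ⟶
      Under.mk (CommRingCat.ofHom (algebraMap A (A ⧸ IsLocalRing.maximalIdeal A ^ (N + 1)))) :=
    Under.homMk (CommRingCat.ofHom φr) (by
      ext a
      exact hφr a)
  let tU : (fpDiag A (AdicCompletion (IsLocalRing.maximalIdeal A) A)).obj X ⟶
      Under.mk (CommRingCat.ofHom (algebraMap A A')) :=
    Under.homMk (CommRingCat.ofHom t.toRingHom) (by
      ext x
      simp [fpDiag])
  refine ⟨A', iA1, iA2, het, φ, F.map tU ξX, ?_⟩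
  have hξ' : F.map ((fpCocone A (AdicCompletion (IsLocalRing.maximalIdeal A) A)).ι.app X) ξX =
      ξ := hξ
  have key : tU ≫ φ =
      (fpCocone A (AdicCompletion (IsLocalRing.maximalIdeal A) A)).ι.app X ≫ π := by
    apply Under.UnderMorphism.ext
    rw [Under.comp_right, Under.comp_right, hπ]
    ext c
    show e.symm (Ideal.Quotient.mk _ (t c)) = AdicCompletion.evalₐ _ (N + 1) (X.f c)
    rw [ht c, he, e.symm_apply_apply]
  have e1 : F.map φ (F.map tU ξX) = F.map (tU ≫ φ) ξX :=
    (FunctorToTypes.map_comp_apply F tU φ ξX).symm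
  have e2 : F.map π (F.map
      ((fpCocone A (AdicCompletion (IsLocalRing.maximalIdeal A) A)).ι.app X) ξX) =
      F.map ((fpCocone A (AdicCompletion (IsLocalRing.maximalIdeal A) A)).ι.app X ≫ π) ξX :=
    (FunctorToTypes.map_comp_apply F _ π ξX).symm
  rw [e1, key, ← e2, hξ']

end Groth.Agent.Lib.ArtinApxH5
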