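import Mathlib
import Groth.Prelude.Def_Smoothing
import Groth.Prelude.Def_Found
import Groth.Agent.Lib.ArtinApx6_helper5
import Groth.Agent.Lib.ArtinApx8_helper5
import Groth.Agent.Lib.GRingComplete_helper3
import Groth.Agent.Lib.IAdicRegular_helper3

set_option autoImplicit false
set_option linter.style.haveILetI false
set_option linter.unusedVariables false
set_option linter.deprecated false
set_option maxHeartbeats 1600000

universe u

open TensorProduct IsLocalRing CategoryTheory Limits

namespace Groth.Agent.Lib.ArtinApxH5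

open Groth.Agent.Lib.FpColimH5

/-- a field is a G-ring -/
theorem isGRing_of_field (k : Type u) [Field k] : CAlg.IsGRing k := by
  haveI : IsAdicComplete (maximalIdeal k) k := by
    rw [IsLocalRing.maximalIdeal_eq_bot]
    infer_instance
  exact Groth.Agent.Lib.GRingCompleteH3.isGRing_of_complete k

/-- a finite type algebra over a field is a G-ring -/
theorem isGRing_of_finiteType_field (k : Type u) [Field k] (A : Type u) [CommRing A] [Algebra k A]
    [Algebra.FiniteType k A] : CAlg.IsGRing A :=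
  Groth.Agent.Lib.GRingPolyH3.main599 k (isGRing_of_field k) A

/-- étale approximation for functors on `CommAlgCat A` preserving filtered colimits. -/
theorem etale_functor_alg (A : Type u) [CommRing A] [IsNoetherianRing A] (I : Ideal A)
    (hreg : CAlg.IsRegularHom A (AdicCompletion I A))
    (F : CommAlgCat.{u} A ⥤ Type u) [PreservesFilteredColimitsOfSize.{u, u} F]
    (ξ : F.obj (CommAlgCat.of A (AdicCompletion I A))) (N : ℕ) :
    ∃ (A' : Type u) (_ : CommRing A') (_ : Algebra A A') (_ : Algebra.Etale A A')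
      (ψ : A' →ₐ[A] (A ⧸ I ^ (N + 1))) (_ : Function.Surjective ψ)
      (ξ' : F.obj (CommAlgCat.of A A')),
      F.map (CommAlgCat.ofHom ψ) ξ' =
        F.map (CommAlgCat.ofHom (AdicCompletion.evalₐ I (N + 1))) ξ := by
  classical
  haveI : PreservesColimitsOfShape (FpOver A (AdicCompletion I A)) F :=
    PreservesFilteredColimitsOfSize.preserves_filtered_colimits _
  have hc := isColimitOfPreserves F (fpIsColimitAlg A (AdicCompletion I A))
  obtain ⟨X, ξX, hξ⟩ := Types.jointly_surjective_of_isColimit hc ξ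
  have hξ' : F.map ((fpCoconeAlg A (AdicCompletion I A)).ι.app X) ξX = ξ := hξ
  obtain ⟨A', iA1, iA2, het, hbij, t, ht⟩ := etale_approx_hom A I hreg X.C X.f N
  let e : A ⧸ I ^ (N + 1) ≃+* A' ⧸ (I ^ (N + 1)).map (algebraMap A A') :=
    RingEquiv.ofBijective _ hbij
  have he : ∀ y, algebraMap (A ⧸ I ^ (N + 1))
      (A' ⧸ (I ^ (N + 1)).map (algebraMap A A')) y = e y := fun y => rfl
  let φr : A' →+* A ⧸ I ^ (N + 1) := e.symm.toRingHom.comp (Ideal.Quotient.mk _)
  have hφr : ∀ a : A, φr (algebraMap A A' a) = Ideal.Quotient.mk _ a := by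
    intro a
    show e.symm (Ideal.Quotient.mk _ (algebraMap A A' a)) = _
    have : Ideal.Quotient.mk ((I ^ (N + 1)).map (algebraMap A A'))
        (algebraMap A A' a) = e (Ideal.Quotient.mk _ a) := rfl
    rw [this, e.symm_apply_apply]
  let ψ : A' →ₐ[A] A ⧸ I ^ (N + 1) := { φr with commutes' := hφr }
  have hψ : ∀ x, ψ x = e.symm (Ideal.Quotient.mk _ x) := fun x => rfl
  have hsurj : Function.Surjective ψ := by
    intro y
    obtain ⟨x, hx⟩ := Ideal.Quotient.mk_surjective (e y)
    refine ⟨x, ?_⟩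
    rw [hψ, hx, e.symm_apply_apply]
  let tA : (fpDiagAlg A (AdicCompletion I A)).obj X ⟶ CommAlgCat.of A A' := CommAlgCat.ofHom t
  refine ⟨A', iA1, iA2, het, ψ, hsurj, F.map tA ξX, ?_⟩
  have key : tA ≫ CommAlgCat.ofHom ψ =
      (fpCoconeAlg A (AdicCompletion I A)).ι.app X ≫
        CommAlgCat.ofHom (AdicCompletion.evalₐ I (N + 1)) := by
    ext c
    show e.symm (Ideal.Quotient.mk _ (t c)) = AdicCompletion.evalₐ I (N + 1) (X.f c)
    rw [ht c, he, e.symm_apply_apply]
  have e1 : F.map (CommAlgCat.ofHom ψ) (F.map tA ξX) =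
      F.map (tA ≫ CommAlgCat.ofHom ψ) ξX :=
    (FunctorToTypes.map_comp_apply F tA _ ξX).symm
  have e2 : F.map (CommAlgCat.ofHom (AdicCompletion.evalₐ I (N + 1)))
      (F.map ((fpCoconeAlg A (AdicCompletion I A)).ι.app X) ξX) =
      F.map ((fpCoconeAlg A (AdicCompletion I A)).ι.app X ≫
        CommAlgCat.ofHom (AdicCompletion.evalₐ I (N + 1))) ξX :=
    (FunctorToTypes.map_comp_apply F _ _ ξX).symm
  rw [e1, key, ← e2, hξ']

/-- form of S18340 -/
theorem etale_functor_field (k : Type u) [Field k]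
    (A : Type u) [CommRing A] [Algebra k A] [Algebra.FiniteType k A] (m : Ideal A)
    (F : CommAlgCat.{u} A ⥤ Type u) [PreservesFilteredColimitsOfSize.{u, u} F]
    (ξ : F.obj (CommAlgCat.of A (AdicCompletion m A))) (N : ℕ) :
    ∃ (A' : Type u) (_ : CommRing A') (_ : Algebra A A') (_ : Algebra.Etale A A')
      (ψ : A' →ₐ[A] (A ⧸ m ^ (N + 1))) (_ : Function.Surjective ψ)
      (ξ' : F.obj (CommAlgCat.of A A')),
      F.map (CommAlgCat.ofHom ψ) ξ' =
        F.map (CommAlgCat.ofHom (AdicCompletion.evalₐ m (N + 1))) ξ := by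
  have hG := isGRing_of_finiteType_field k A
  haveI := hG.1
  exact etale_functor_alg A m
    (Groth.Agent.Lib.IAdicRegularH3.isRegularHom_adicCompletion A m hG) F ξ N

end Groth.Agent.Lib.ArtinApxH5
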