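import Mathlib
import Groth.Prelude.Def_Smoothing
import Groth.Prelude.Def_Found
import Groth.Agent.Lib.ArtinApx9_helper5
import Groth.Agent.Lib.Algz1_helper5
import Groth.Agent.Lib.Algz2_helper5
import Groth.Agent.Lib.IAdicRegular_helper3

/-!
# Algebraization of versal formal deformations, part 3 (helper5)
`approx_ideal`: an ideal of the completion of a finite type algebra over a field at a rational point
is approximated, in an étale neighbourhood, by an ideal with Hilbert function at least as large.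
-/

set_option autoImplicit false
set_option linter.style.haveILetI false
set_option linter.unusedVariables false
set_option linter.deprecated false
set_option maxHeartbeats 1600000

universe u

open IsLocalRing

namespace Groth.Agent.Lib.AlgzH5

open Groth.Agent.Lib.ArtinApxH5

section BSide

variable {A₁ : Type u} [CommRing A₁] [IsNoetherianRing A₁] (m₁ : Ideal A₁)

/-- density of `A₁` in its completion -/
theorem exists_of_sub_mem (b : AdicCompletion m₁ A₁) (n : ℕ) :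
    ∃ a : A₁, b - algebraMap A₁ (AdicCompletion m₁ A₁) a ∈
      (m₁ ^ n).map (algebraMap A₁ (AdicCompletion m₁ A₁)) := by
  obtain ⟨a, ha⟩ := Ideal.Quotient.mk_surjective (AdicCompletion.evalₐ m₁ n b)
  refine ⟨a, mem_map_of_evalₐ_eq_zero m₁ (IsNoetherian.noetherian m₁) n _ ?_⟩
  rw [map_sub, AlgHom.commutes, ← ha]
  exact sub_self _

/-- the truncation kills `m₁^n B` -/
theorem evalₐ_eq_zero_of_mem (n : ℕ) (b : AdicCompletion m₁ A₁)
    (h : b ∈ (m₁ ^ n).map (algebraMap A₁ (AdicCompletion m₁ A₁))) :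
    AdicCompletion.evalₐ m₁ n b = 0 := by
  have hker : (m₁ ^ n).map (algebraMap A₁ (AdicCompletion m₁ A₁)) ≤
      RingHom.ker (AdicCompletion.evalₐ m₁ n).toRingHom := by
    rw [Ideal.map_le_iff_le_comap]
    intro g hg
    rw [Ideal.mem_comap, RingHom.mem_ker]
    show AdicCompletion.evalₐ m₁ n (algebraMap A₁ _ g) = 0
    rw [AlgHom.commutes]
    exact Ideal.Quotient.eq_zero_iff_mem.mpr hg
  exact hker h

/-- `A₁/m₁^n → B/m₁^n B` is injective -/
theorem mem_pow_of_of_mem (a : A₁) (n : ℕ)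
    (h : algebraMap A₁ (AdicCompletion m₁ A₁) a ∈
      (m₁ ^ n).map (algebraMap A₁ (AdicCompletion m₁ A₁))) : a ∈ m₁ ^ n := by
  have h2 := evalₐ_eq_zero_of_mem m₁ n _ h
  rw [AlgHom.commutes] at h2
  exact Ideal.Quotient.eq_zero_iff_mem.mp h2

end BSide


/-- **Approximation of an ideal of the completion preserving the Hilbert function.** -/
theorem approx_ideal (k : Type u) [Field k] (A₁ : Type u) [CommRing A₁] [Algebra k A₁]
    [Algebra.FiniteType k A₁] (m₁ : Ideal A₁)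
    (hm₁ : ∀ a : A₁, ∃ c : k, a - algebraMap k A₁ c ∈ m₁)
    (I : Ideal (AdicCompletion m₁ A₁)) (N₁ : ℕ) :
    ∃ (N : ℕ) (_ : N₁ ≤ N) (A' : Type u) (_ : CommRing A') (_ : Algebra A₁ A')
      (_ : Algebra.Etale A₁ A') (ψ : A' →ₐ[A₁] AdicCompletion m₁ A₁) (s : ℕ) (f' : Fin s → A'),
      (∀ x : A', ∃ a : A₁, x - algebraMap A₁ A' a ∈ m₁.map (algebraMap A₁ A')) ∧
      Ideal.span (Set.range (fun i => ψ (f' i))) ⊔
          (m₁.map (algebraMap A₁ (AdicCompletion m₁ A₁))) ^ (N + 1) =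
        I ⊔ (m₁.map (algebraMap A₁ (AdicCompletion m₁ A₁))) ^ (N + 1) ∧
      ∀ n, Module.finrank k ((AdicCompletion m₁ A₁) ⧸
          (I ⊔ (m₁.map (algebraMap A₁ (AdicCompletion m₁ A₁))) ^ n)) ≤
        Module.finrank k ((AdicCompletion m₁ A₁) ⧸
          (Ideal.span (Set.range (fun i => ψ (f' i))) ⊔
            (m₁.map (algebraMap A₁ (AdicCompletion m₁ A₁))) ^ n)) := by
  classical
  have hG := isGRing_of_finiteType_field k A₁
  haveI := hG.1
  have hreg : CAlg.IsRegularHom A₁ (AdicCompletion m₁ A₁) :=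
    Groth.Agent.Lib.IAdicRegularH3.isRegularHom_adicCompletion A₁ m₁ hG
  haveI : IsNoetherianRing (AdicCompletion m₁ A₁) := Groth.Agent.S0543.result A₁ m₁
  haveI tw : IsScalarTower k A₁ (AdicCompletion m₁ A₁) :=
    IsScalarTower.of_algebraMap_eq (fun _ => rfl)
  obtain ⟨𝔪, h𝔪⟩ : ∃ 𝔪 : Ideal (AdicCompletion m₁ A₁),
      𝔪 = m₁.map (algebraMap A₁ (AdicCompletion m₁ A₁)) := ⟨_, rfl⟩
  rw [← h𝔪]
  have h𝔪pow : ∀ n, (m₁ ^ n).map (algebraMap A₁ (AdicCompletion m₁ A₁)) = 𝔪 ^ n := fun n => by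
    rw [h𝔪, Ideal.map_pow]
  -- scalars in B
  have hB : ∀ b : AdicCompletion m₁ A₁, ∃ c : k, b - algebraMap k _ c ∈ 𝔪 := by
    intro b
    obtain ⟨a, ha⟩ := exists_of_sub_mem m₁ b 1
    obtain ⟨c, hc⟩ := hm₁ a
    refine ⟨c, ?_⟩
    rw [pow_one, ← h𝔪] at ha
    have h1 : algebraMap A₁ (AdicCompletion m₁ A₁) (a - algebraMap k A₁ c) ∈ 𝔪 := by
      rw [h𝔪]
      exact Ideal.mem_map_of_mem _ hc
    have h2 : b - algebraMap k (AdicCompletion m₁ A₁) c =
        (b - algebraMap A₁ _ a) + algebraMap A₁ (AdicCompletion m₁ A₁) (a - algebraMap k A₁ c) := by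
      rw [map_sub, ← IsScalarTower.algebraMap_apply]
      ring
    rw [h2]
    exact 𝔪.add_mem ha h1
  have hfin : ∀ n, Module.Finite k (AdicCompletion m₁ A₁ ⧸ 𝔪 ^ n) := finite_quot_pow 𝔪 hB
  -- generators and relations
  obtain ⟨s, f, hf⟩ := (Submodule.fg_iff_exists_fin_generating_family).mp
    (IsNoetherian.noetherian I)
  have hfI : Ideal.span (Set.range f) = I := hf
  let L : (Fin s → AdicCompletion m₁ A₁) →ₗ[AdicCompletion m₁ A₁] AdicCompletion m₁ A₁ :=
    Fintype.linearCombination (AdicCompletion m₁ A₁) f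
  have hL : ∀ a : Fin s → AdicCompletion m₁ A₁, L a = ∑ i, a i * f i := fun a => by
    show Fintype.linearCombination (AdicCompletion m₁ A₁) f a = _
    rw [Fintype.linearCombination_apply]
    rfl
  obtain ⟨u, ρ, hρ⟩ := (Submodule.fg_iff_exists_fin_generating_family).mp
    (IsNoetherian.noetherian (LinearMap.ker L))
  have hρrel : ∀ l, ∑ i, ρ l i * f i = 0 := by
    intro l
    have : ρ l ∈ LinearMap.ker L := by
      rw [← hρ]
      exact Submodule.subset_span ⟨l, rfl⟩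
    rw [LinearMap.mem_ker, hL] at this
    exact this
  have hgen : ∀ a : Fin s → AdicCompletion m₁ A₁, ∑ i, a i * f i = 0 →
      a ∈ Submodule.span (AdicCompletion m₁ A₁) (Set.range ρ) := by
    intro a ha
    rw [hρ, LinearMap.mem_ker, hL]
    exact ha
  obtain ⟨N₀, hN₀⟩ := initial_le 𝔪 f ρ hgen
  -- the algebra of the system
  let rel : Fin u → MvPolynomial (Fin s ⊕ Fin u × Fin s) A₁ := fun l =>
    ∑ i, MvPolynomial.X (Sum.inr (l, i)) * MvPolynomial.X (Sum.inl i)
  let K : Ideal (MvPolynomial (Fin s ⊕ Fin u × Fin s) A₁) := Ideal.span (Set.range rel)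
  haveI : Algebra.FinitePresentation A₁ (MvPolynomial (Fin s ⊕ Fin u × Fin s) A₁ ⧸ K) :=
    Algebra.FinitePresentation.quotient (Submodule.fg_span (Set.finite_range rel))
  let v : Fin s ⊕ Fin u × Fin s → AdicCompletion m₁ A₁ := Sum.elim f (fun p => ρ p.1 p.2)
  have hK : ∀ p ∈ K, MvPolynomial.aeval v p = 0 := by
    intro p hp
    have : K ≤ RingHom.ker (MvPolynomial.aeval v :
        MvPolynomial (Fin s ⊕ Fin u × Fin s) A₁ →ₐ[A₁] _).toRingHom := by
      rw [Ideal.span_le]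
      rintro _ ⟨l, rfl⟩
      show MvPolynomial.aeval v (rel l) = 0
      simp only [rel, map_sum, map_mul, MvPolynomial.aeval_X]
      exact hρrel l
    exact this hp
  let fC : (MvPolynomial (Fin s ⊕ Fin u × Fin s) A₁ ⧸ K) →ₐ[A₁] AdicCompletion m₁ A₁ :=
    Ideal.Quotient.liftₐ K (MvPolynomial.aeval v) hK
  have hfC : ∀ j, fC (Ideal.Quotient.mk K (MvPolynomial.X j)) = v j := fun j => by
    show MvPolynomial.aeval v (MvPolynomial.X j) = v j
    exact MvPolynomial.aeval_X v j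
  obtain ⟨A', iA1, iA2, het, hbij, ψ, t, hψt⟩ :=
    etale_approx_fp m₁ hreg _ fC (max N₀ N₁)
  set N := max N₀ N₁ with hN
  let f' : Fin s → A' := fun i => t (Ideal.Quotient.mk K (MvPolynomial.X (Sum.inl i)))
  let ρ' : Fin u → Fin s → A' := fun l i =>
    t (Ideal.Quotient.mk K (MvPolynomial.X (Sum.inr (l, i))))
  have hf' : ∀ i, ψ (f' i) - f i ∈ 𝔪 ^ (N + 1) := by
    intro i
    have := hψt (Ideal.Quotient.mk K (MvPolynomial.X (Sum.inl i)))
    rw [hfC, h𝔪pow] at this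
    have h2 : ψ (f' i) - f i = -(f i - ψ (f' i)) := by ring
    rw [h2]
    exact neg_mem this
  have hρ' : ∀ l i, ψ (ρ' l i) - ρ l i ∈ 𝔪 ^ (N + 1) := by
    intro l i
    have := hψt (Ideal.Quotient.mk K (MvPolynomial.X (Sum.inr (l, i))))
    rw [hfC, h𝔪pow] at this
    have h2 : ψ (ρ' l i) - ρ l i = -(ρ l i - ψ (ρ' l i)) := by ring
    rw [h2]
    exact neg_mem this
  have hrel' : ∀ l, ∑ i, ψ (ρ' l i) * ψ (f' i) = 0 := by
    intro l
    have h1 : ∑ i, ρ' l i * f' i = t (Ideal.Quotient.mk K (rel l)) := by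
      simp only [rel, map_sum, map_mul]
      rfl
    have h2 : Ideal.Quotient.mk K (rel l) = 0 :=
      Ideal.Quotient.eq_zero_iff_mem.mpr (Ideal.subset_span ⟨l, rfl⟩)
    have h3 : ∑ i, ψ (ρ' l i) * ψ (f' i) = ψ (∑ i, ρ' l i * f' i) := by
      simp only [map_sum, map_mul]
    rw [h3, h1, h2, map_zero, map_zero]
  have H := hN₀ (N + 1) (by omega) (fun i => ψ (f' i)) (fun l i => ψ (ρ' l i)) hf' hρ' hrel'
  refine ⟨N, le_max_right _ _, A', iA1, iA2, het, ψ, s, f', ?_, ?_, ?_⟩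
  · intro x
    obtain ⟨abar, ha⟩ := hbij.2 (Ideal.Quotient.mk _ x)
    obtain ⟨a, rfl⟩ := Ideal.Quotient.mk_surjective abar
    refine ⟨a, ?_⟩
    have h1 : Ideal.Quotient.mk ((m₁ ^ (N + 1)).map (algebraMap A₁ A')) (algebraMap A₁ A' a) =
        Ideal.Quotient.mk _ x := ha
    have h2 := Ideal.Quotient.eq.mp h1.symm
    exact Ideal.map_mono (Ideal.pow_le_self (Nat.succ_ne_zero N)) h2
  · apply le_antisymm
    · refine sup_le ?_ le_sup_right
      rw [Ideal.span_le]
      rintro _ ⟨i, rfl⟩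
      have h1 : ψ (f' i) = f i + (ψ (f' i) - f i) := by ring
      show ψ (f' i) ∈ I ⊔ 𝔪 ^ (N + 1)
      rw [h1]
      refine Ideal.add_mem _ (Ideal.mem_sup_left ?_) (Ideal.mem_sup_right (hf' i))
      rw [← hfI]
      exact Ideal.subset_span ⟨i, rfl⟩
    · refine sup_le ?_ le_sup_right
      rw [← hfI, Ideal.span_le]
      rintro _ ⟨i, rfl⟩
      have h1 : f i = ψ (f' i) - (ψ (f' i) - f i) := by ring
      show f i ∈ Ideal.span (Set.range fun i => ψ (f' i)) ⊔ 𝔪 ^ (N + 1)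
      rw [h1]
      exact Ideal.sub_mem _ (Ideal.mem_sup_left (Ideal.subset_span ⟨i, rfl⟩))
        (Ideal.mem_sup_right (hf' i))
  · intro n
    refine finrank_le_of_initial_le 𝔪 I _ hfin (fun n g' hg' hg'n => ?_) n
    obtain ⟨g, hg, hgn, hgd⟩ := H n g' hg' hg'n
    exact ⟨g, by rw [← hfI]; exact hg, hgn, hgd⟩

end Groth.Agent.Lib.AlgzH5
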