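import Mathlib
import Groth.Agent.Lib.Algz1_helper5
import Groth.Agent.Lib.Algz2_helper5
import Groth.Agent.Lib.Algz3_helper5

/-!
# Algebraization of versal formal deformations, part 4 (helper5)
The algebraic side: quotients of étale neighbourhoods, their truncations, comparison of Hilbert
functions with the formal side; truncations at maximal ideals are local Artinian; a density lemma.
-/

set_option autoImplicit false
set_option linter.style.haveILetI false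
set_option linter.unusedVariables false
set_option linter.deprecated false
set_option maxHeartbeats 1600000

universe u

open IsLocalRing

namespace Groth.Agent.Lib.AlgzH5



section ASide

variable {k A₁ A' : Type u} [Field k] [CommRing A₁] [Algebra k A₁] [IsNoetherianRing A₁]
  [CommRing A'] [Algebra A₁ A'] [Algebra k A'] [IsScalarTower k A₁ A'] (m₁ : Ideal A₁)
  (J : Ideal A')
  (hs : ∀ x : A', ∃ a : A₁, x - algebraMap A₁ A' a ∈ m₁.map (algebraMap A₁ A'))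

include hs in
/-- every element of the quotient is a scalar modulo the maximal ideal -/
theorem exists_scalar_quot (hm₁ : ∀ a : A₁, ∃ c : k, a - algebraMap k A₁ c ∈ m₁) (x : A' ⧸ J) :
    ∃ c : k, x - algebraMap k (A' ⧸ J) c ∈ m₁.map (algebraMap A₁ (A' ⧸ J)) := by
  obtain ⟨x', rfl⟩ := Ideal.Quotient.mk_surjective x
  obtain ⟨a, ha⟩ := hs x'
  obtain ⟨c, hc⟩ := hm₁ a
  refine ⟨c, ?_⟩
  have hmap : m₁.map (algebraMap A₁ (A' ⧸ J)) =
      (m₁.map (algebraMap A₁ A')).map (Ideal.Quotient.mk J) := by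
    rw [Ideal.map_map]
    rfl
  have h1 : Ideal.Quotient.mk J x' - algebraMap k (A' ⧸ J) c =
      Ideal.Quotient.mk J ((x' - algebraMap A₁ A' a) +
        algebraMap A₁ A' (a - algebraMap k A₁ c)) := by
    rw [IsScalarTower.algebraMap_apply k A₁ (A' ⧸ J), IsScalarTower.algebraMap_apply A₁ A' (A' ⧸ J),
      Ideal.Quotient.algebraMap_eq, ← map_sub]
    congr 1
    rw [map_sub]
    ring
  rw [h1, hmap]
  exact Ideal.mem_map_of_mem _ (Ideal.add_mem _ ha (Ideal.mem_map_of_mem _ hc))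

include hs in
/-- `A₁ → (A'/J)/m^n` is surjective -/
theorem exists_algebraMap_sub_mem (n : ℕ) (x : A' ⧸ J) :
    ∃ a : A₁, x - algebraMap A₁ (A' ⧸ J) a ∈ (m₁.map (algebraMap A₁ (A' ⧸ J))) ^ n := by
  obtain ⟨x', rfl⟩ := Ideal.Quotient.mk_surjective x
  obtain ⟨a, ha⟩ := surj_pow m₁ hs n x'
  refine ⟨a, ?_⟩
  have hmap : (m₁.map (algebraMap A₁ (A' ⧸ J))) ^ n =
      ((m₁ ^ n).map (algebraMap A₁ A')).map (Ideal.Quotient.mk J) := by
    rw [Ideal.map_map, Ideal.map_pow]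
    rfl
  have h1 : Ideal.Quotient.mk J x' - algebraMap A₁ (A' ⧸ J) a =
      Ideal.Quotient.mk J (x' - algebraMap A₁ A' a) := by
    rw [IsScalarTower.algebraMap_apply A₁ A' (A' ⧸ J), Ideal.Quotient.algebraMap_eq, ← map_sub]
  rw [h1, hmap]
  exact Ideal.mem_map_of_mem _ ha

end ASide


section Chi

variable {A₁ A' : Type u} [CommRing A₁] [IsNoetherianRing A₁]
  [CommRing A'] [Algebra A₁ A'] (m₁ : Ideal A₁) (J : Ideal A')
  (ψ : A' →ₐ[A₁] AdicCompletion m₁ A₁)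
  (hs : ∀ x : A', ∃ a : A₁, x - algebraMap A₁ A' a ∈ m₁.map (algebraMap A₁ A'))

include hs in
/-- the truncation maps `B → (A'/J)/m^n` -/
theorem exists_chi (n : ℕ) :
    ∃ χ : AdicCompletion m₁ A₁ →+* (A' ⧸ J) ⧸ (m₁.map (algebraMap A₁ (A' ⧸ J))) ^ n,
      Function.Surjective χ ∧
      (∀ a : A₁, χ (algebraMap A₁ _ a) = Ideal.Quotient.mk _ (algebraMap A₁ (A' ⧸ J) a)) ∧
      (∀ x : A', χ (ψ x) = Ideal.Quotient.mk _ (Ideal.Quotient.mk J x)) ∧
      (∀ b ∈ (m₁.map (algebraMap A₁ (AdicCompletion m₁ A₁))) ^ n, χ b = 0) := by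
  classical
  obtain ⟨m, hm⟩ : ∃ m : Ideal (A' ⧸ J), m = m₁.map (algebraMap A₁ (A' ⧸ J)) := ⟨_, rfl⟩
  rw [← hm]
  have hle : m₁ ^ n ≤ (m ^ n).comap (algebraMap A₁ (A' ⧸ J)) := by
    rw [← Ideal.map_le_iff_le_comap, Ideal.map_pow, hm]
  let χ : AdicCompletion m₁ A₁ →+* (A' ⧸ J) ⧸ m ^ n :=
    (Ideal.quotientMap (m ^ n) (algebraMap A₁ (A' ⧸ J)) hle).comp
      (AdicCompletion.evalₐ m₁ n).toRingHom
  have hχ : ∀ b, χ b = Ideal.quotientMap (m ^ n) (algebraMap A₁ (A' ⧸ J)) hle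
      (AdicCompletion.evalₐ m₁ n b) := fun b => rfl
  have hχof : ∀ a : A₁, χ (algebraMap A₁ _ a) =
      Ideal.Quotient.mk _ (algebraMap A₁ (A' ⧸ J) a) := by
    intro a
    rw [hχ, AlgHom.commutes]
    rfl
  have hχ0 : ∀ b ∈ (m₁.map (algebraMap A₁ (AdicCompletion m₁ A₁))) ^ n, χ b = 0 := by
    intro b hb
    rw [← Ideal.map_pow] at hb
    rw [hχ, evalₐ_eq_zero_of_mem m₁ n b hb, map_zero]
  have hmap : m ^ n = ((m₁ ^ n).map (algebraMap A₁ A')).map (Ideal.Quotient.mk J) := by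
    rw [hm, Ideal.map_map, Ideal.map_pow]
    rfl
  refine ⟨χ, ?_, hχof, ?_, hχ0⟩
  · intro y
    obtain ⟨x, rfl⟩ := Ideal.Quotient.mk_surjective y
    obtain ⟨a, ha⟩ := exists_algebraMap_sub_mem m₁ J hs n x
    refine ⟨algebraMap A₁ _ a, ?_⟩
    rw [hχof]
    apply Ideal.Quotient.eq.mpr
    rw [hm]
    have : algebraMap A₁ (A' ⧸ J) a - x = -(x - algebraMap A₁ (A' ⧸ J) a) := by ring
    rw [this]
    exact neg_mem ha
  · intro x
    obtain ⟨a, ha⟩ := surj_pow m₁ hs n x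
    have h1 : ψ x = algebraMap A₁ _ a + ψ (x - algebraMap A₁ A' a) := by
      rw [map_sub, AlgHom.commutes]
      ring
    have h2 : ψ (x - algebraMap A₁ A' a) ∈
        (m₁.map (algebraMap A₁ (AdicCompletion m₁ A₁))) ^ n := by
      have h3 : ((m₁ ^ n).map (algebraMap A₁ A')).map ψ.toRingHom =
          (m₁.map (algebraMap A₁ (AdicCompletion m₁ A₁))) ^ n := by
        rw [Ideal.map_map, ← Ideal.map_pow]
        congr 1
        exact ψ.comp_algebraMap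
      rw [← h3]
      exact Ideal.mem_map_of_mem ψ.toRingHom ha
    rw [h1, map_add, hχof, hχ0 _ h2, add_zero]
    apply Ideal.Quotient.eq.mpr
    rw [hmap]
    have h4 : algebraMap A₁ (A' ⧸ J) a - Ideal.Quotient.mk J x =
        Ideal.Quotient.mk J (-(x - algebraMap A₁ A' a)) := by
      rw [IsScalarTower.algebraMap_apply A₁ A' (A' ⧸ J), Ideal.Quotient.algebraMap_eq, ← map_sub]
      congr 1
      ring
    rw [h4]
    exact Ideal.mem_map_of_mem _ (neg_mem ha)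

end Chi


section Omega

variable {k A₁ A' : Type u} [Field k] [CommRing A₁] [Algebra k A₁] [IsNoetherianRing A₁]
  [CommRing A'] [Algebra A₁ A'] [Algebra k A'] [IsScalarTower k A₁ A'] (m₁ : Ideal A₁)
  (J : Ideal A') (ψ : A' →ₐ[A₁] AdicCompletion m₁ A₁)

/-- Hilbert function of the algebraic quotient bounds that of the formal quotient -/
theorem finrank_le_quot (n : ℕ)
    (hfin : Module.Finite k ((A' ⧸ J) ⧸ (m₁.map (algebraMap A₁ (A' ⧸ J))) ^ n)) :
    Module.finrank k (AdicCompletion m₁ A₁ ⧸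
        (J.map ψ.toRingHom ⊔ (m₁.map (algebraMap A₁ (AdicCompletion m₁ A₁))) ^ n)) ≤
      Module.finrank k ((A' ⧸ J) ⧸ (m₁.map (algebraMap A₁ (A' ⧸ J))) ^ n) := by
  classical
  haveI tw : IsScalarTower k A₁ (AdicCompletion m₁ A₁) :=
    IsScalarTower.of_algebraMap_eq (fun _ => rfl)
  obtain ⟨𝔪, h𝔪⟩ : ∃ 𝔪 : Ideal (AdicCompletion m₁ A₁),
      𝔪 = m₁.map (algebraMap A₁ (AdicCompletion m₁ A₁)) := ⟨_, rfl⟩
  obtain ⟨m, hm⟩ : ∃ m : Ideal (A' ⧸ J), m = m₁.map (algebraMap A₁ (A' ⧸ J)) := ⟨_, rfl⟩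
  rw [← h𝔪, ← hm]
  rw [← hm] at hfin
  haveI := hfin
  let θ₀ : A' →ₐ[k] AdicCompletion m₁ A₁ ⧸ (J.map ψ.toRingHom ⊔ 𝔪 ^ n) :=
    (Ideal.Quotient.mkₐ k (J.map ψ.toRingHom ⊔ 𝔪 ^ n)).comp (ψ.restrictScalars k)
  have hθ₀ : ∀ x, θ₀ x = Ideal.Quotient.mk _ (ψ x) := fun x => rfl
  have h0 : ∀ x ∈ J, θ₀ x = 0 := by
    intro x hx
    rw [hθ₀, Ideal.Quotient.eq_zero_iff_mem]
    exact Ideal.mem_sup_left (Ideal.mem_map_of_mem ψ.toRingHom hx)
  let θ₁ : (A' ⧸ J) →ₐ[k] AdicCompletion m₁ A₁ ⧸ (J.map ψ.toRingHom ⊔ 𝔪 ^ n) :=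
    Ideal.Quotient.liftₐ J θ₀ h0
  have hθ₁ : ∀ x, θ₁ (Ideal.Quotient.mk J x) = Ideal.Quotient.mk _ (ψ x) := fun x => rfl
  have h1 : ∀ y ∈ m ^ n, θ₁ y = 0 := by
    have hle : m ^ n ≤ RingHom.ker θ₁.toRingHom := by
      rw [hm, ← Ideal.map_pow, Ideal.map_le_iff_le_comap]
      intro g hg
      rw [Ideal.mem_comap, RingHom.mem_ker]
      show θ₁ (algebraMap A₁ (A' ⧸ J) g) = 0
      rw [IsScalarTower.algebraMap_apply A₁ A' (A' ⧸ J), Ideal.Quotient.algebraMap_eq, hθ₁,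
        AlgHom.commutes, Ideal.Quotient.eq_zero_iff_mem]
      refine Ideal.mem_sup_right ?_
      rw [h𝔪, ← Ideal.map_pow]
      exact Ideal.mem_map_of_mem _ hg
    intro y hy
    exact hle hy
  let ω : ((A' ⧸ J) ⧸ m ^ n) →ₐ[k] AdicCompletion m₁ A₁ ⧸ (J.map ψ.toRingHom ⊔ 𝔪 ^ n) :=
    Ideal.Quotient.liftₐ (m ^ n) θ₁ h1
  have hω : ∀ x, ω (Ideal.Quotient.mk _ (Ideal.Quotient.mk J x)) = Ideal.Quotient.mk _ (ψ x) :=
    fun x => rfl
  have hsurj : Function.Surjective ω := by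
    intro y
    obtain ⟨b, rfl⟩ := Ideal.Quotient.mk_surjective y
    obtain ⟨a, ha⟩ := exists_of_sub_mem m₁ b n
    refine ⟨Ideal.Quotient.mk _ (Ideal.Quotient.mk J (algebraMap A₁ A' a)), ?_⟩
    rw [hω, AlgHom.commutes]
    apply Ideal.Quotient.eq.mpr
    refine Ideal.mem_sup_right ?_
    rw [h𝔪, ← Ideal.map_pow]
    have : algebraMap A₁ (AdicCompletion m₁ A₁) a - b = -(b - algebraMap A₁ _ a) := by ring
    rw [this]
    exact neg_mem ha
  exact LinearMap.finrank_le_finrank_of_surjective (f := ω.toLinearMap) hsurj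

end Omega

section RSide

variable {k A₁ R : Type u} [Field k] [CommRing A₁] [Algebra k A₁] [IsNoetherianRing A₁]
  [CommRing R] [Algebra k R] (m₁ : Ideal A₁) (mR : Ideal R) (g₁ : A₁ →ₐ[k] R)
  (hg₁ : m₁ ≤ mR.comap g₁)
  (ĝ : AdicCompletion m₁ A₁ →+* R) (hĝ : ∀ a, ĝ (algebraMap A₁ _ a) = g₁ a)
  (hsurj : Function.Surjective ĝ)

include hg₁ hĝ hsurj in
/-- the truncations of `R` are quotients of those of `B/ker ĝ` -/
theorem finrank_le_ker (n : ℕ)
    (hfin : Module.Finite k (AdicCompletion m₁ A₁ ⧸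
      (RingHom.ker ĝ ⊔ (m₁.map (algebraMap A₁ (AdicCompletion m₁ A₁))) ^ n))) :
    Module.finrank k (R ⧸ mR ^ n) ≤
      Module.finrank k (AdicCompletion m₁ A₁ ⧸
        (RingHom.ker ĝ ⊔ (m₁.map (algebraMap A₁ (AdicCompletion m₁ A₁))) ^ n)) := by
  classical
  haveI tw : IsScalarTower k A₁ (AdicCompletion m₁ A₁) :=
    IsScalarTower.of_algebraMap_eq (fun _ => rfl)
  obtain ⟨𝔪, h𝔪⟩ : ∃ 𝔪 : Ideal (AdicCompletion m₁ A₁),
      𝔪 = m₁.map (algebraMap A₁ (AdicCompletion m₁ A₁)) := ⟨_, rfl⟩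
  rw [← h𝔪]
  rw [← h𝔪] at hfin
  haveI := hfin
  let ĝk : AdicCompletion m₁ A₁ →ₐ[k] R :=
    { ĝ with
      commutes' := fun c => by
        show ĝ (algebraMap k (AdicCompletion m₁ A₁) c) = _
        rw [IsScalarTower.algebraMap_apply k A₁ (AdicCompletion m₁ A₁), hĝ, AlgHom.commutes] }
  have hĝk : ∀ b, ĝk b = ĝ b := fun b => rfl
  let ζ₀ : AdicCompletion m₁ A₁ →ₐ[k] R ⧸ mR ^ n := (Ideal.Quotient.mkₐ k (mR ^ n)).comp ĝk
  have hζ₀ : ∀ b, ζ₀ b = Ideal.Quotient.mk _ (ĝ b) := fun b => rfl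
  have h0 : ∀ b ∈ RingHom.ker ĝ ⊔ 𝔪 ^ n, ζ₀ b = 0 := by
    have hle : RingHom.ker ĝ ⊔ 𝔪 ^ n ≤ RingHom.ker ζ₀.toRingHom := by
      refine sup_le ?_ ?_
      · intro b hb
        rw [RingHom.mem_ker] at hb ⊢
        show ζ₀ b = 0
        rw [hζ₀, hb, map_zero]
      · rw [h𝔪, ← Ideal.map_pow, Ideal.map_le_iff_le_comap]
        intro g hg
        rw [Ideal.mem_comap, RingHom.mem_ker]
        show ζ₀ (algebraMap A₁ _ g) = 0
        rw [hζ₀, hĝ, Ideal.Quotient.eq_zero_iff_mem]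
        have h2 : m₁ ^ n ≤ (mR ^ n).comap g₁ :=
          (Ideal.pow_right_mono hg₁ n).trans (Ideal.le_comap_pow _ n)
        exact h2 hg
    intro b hb
    exact hle hb
  let ζ : (AdicCompletion m₁ A₁ ⧸ (RingHom.ker ĝ ⊔ 𝔪 ^ n)) →ₐ[k] R ⧸ mR ^ n :=
    Ideal.Quotient.liftₐ _ ζ₀ h0
  have hζ : ∀ b, ζ (Ideal.Quotient.mk _ b) = Ideal.Quotient.mk _ (ĝ b) := fun b => rfl
  have hs : Function.Surjective ζ := by
    intro y
    obtain ⟨r, rfl⟩ := Ideal.Quotient.mk_surjective y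
    obtain ⟨b, rfl⟩ := hsurj r
    exact ⟨Ideal.Quotient.mk _ b, hζ b⟩
  exact LinearMap.finrank_le_finrank_of_surjective (f := ζ.toLinearMap) hs

end RSide



/-- elements of `m` are nilpotent modulo `m^n` -/
theorem isNilpotent_mk_of_mem {A : Type*} [CommRing A] (m : Ideal A) (n : ℕ) {x : A}
    (hx : x ∈ m) : IsNilpotent (Ideal.Quotient.mk (m ^ n) x) := by
  refine ⟨n, ?_⟩
  rw [← map_pow, Ideal.Quotient.eq_zero_iff_mem]
  exact Ideal.pow_mem_pow hx n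

/-- the truncations of a ring at a maximal ideal are local -/
theorem isLocalRing_quot_pow {A : Type*} [CommRing A] (m : Ideal A) [hm : m.IsMaximal] (n : ℕ)
    (hn : n ≠ 0) : IsLocalRing (A ⧸ m ^ n) := by
  haveI : Nontrivial (A ⧸ m ^ n) := by
    apply Ideal.Quotient.nontrivial_iff.mpr
    intro h
    exact hm.ne_top (top_le_iff.mp (h ▸ Ideal.pow_le_self hn))
  refine IsLocalRing.of_isUnit_or_isUnit_one_sub_self fun a => ?_
  obtain ⟨x, rfl⟩ := Ideal.Quotient.mk_surjective a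
  by_cases hx : x ∈ m
  · right
    exact (isNilpotent_mk_of_mem m n hx).isUnit_one_sub
  · left
    obtain ⟨y, z, hz, hxyz⟩ := hm.exists_inv hx
    have h1 : Ideal.Quotient.mk (m ^ n) y * Ideal.Quotient.mk (m ^ n) x =
        1 - Ideal.Quotient.mk (m ^ n) z := by
      rw [← map_mul, ← map_one (Ideal.Quotient.mk (m ^ n)), ← map_sub]
      congr 1
      rw [← hxyz]
      ring
    have h2 : IsUnit (Ideal.Quotient.mk (m ^ n) y * Ideal.Quotient.mk (m ^ n) x) := by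
      rw [h1]
      exact (isNilpotent_mk_of_mem m n hz).isUnit_one_sub
    exact isUnit_of_mul_isUnit_right h2

/-- residue fields of the truncations -/
theorem residue_surjective_quot_pow {k A : Type*} [Field k] [CommRing A] [Algebra k A]
    (m : Ideal A) (hm : ∀ a : A, ∃ c : k, a - algebraMap k A c ∈ m) (n : ℕ)
    [IsLocalRing (A ⧸ m ^ n)] :
    Function.Surjective (fun c : k => residue (A ⧸ m ^ n) (algebraMap k (A ⧸ m ^ n) c)) := by
  intro y
  obtain ⟨t, rfl⟩ := residue_surjective y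
  obtain ⟨x, rfl⟩ := Ideal.Quotient.mk_surjective t
  obtain ⟨c, hc⟩ := hm x
  refine ⟨c, ?_⟩
  show residue _ (algebraMap k (A ⧸ m ^ n) c) = residue _ (Ideal.Quotient.mk (m ^ n) x)
  symm
  rw [← sub_eq_zero, ← map_sub, residue_eq_zero_iff]
  have h1 : Ideal.Quotient.mk (m ^ n) x - algebraMap k (A ⧸ m ^ n) c =
      Ideal.Quotient.mk (m ^ n) (x - algebraMap k A c) := by
    rw [map_sub]
    rfl
  rw [h1, mem_maximalIdeal, mem_nonunits_iff]
  intro hu
  have hnil := isNilpotent_mk_of_mem m n hc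
  exact hnil.not_isUnit hu

/-- a subring which is dense modulo the square of a nilpotent ideal is everything -/
theorem eq_top_of_dense_mod_sq {T : Type*} [CommRing T] (𝔫 : Ideal T) (S : Subring T)
    (h2 : ∀ t : T, ∃ s ∈ S, t - s ∈ 𝔫 ^ 2) (n : ℕ) (hn : 𝔫 ^ n = ⊥) : ∀ t : T, t ∈ S := by
  have key : ∀ i : ℕ, ∀ t : T, ∃ s ∈ S, t - s ∈ 𝔫 ^ (i + 2) := by
    intro i
    induction i with
    | zero => exact h2
    | succ i ih =>
      have hmul : ∀ w ∈ 𝔫 ^ (i + 2), ∃ s ∈ S, w - s ∈ 𝔫 ^ (i + 3) := by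
        intro w hw
        rw [pow_succ] at hw
        refine Submodule.mul_induction_on hw ?_ ?_
        · intro a ha ν hν
          obtain ⟨sa, hsa, hda⟩ := ih a
          obtain ⟨sν, hsν, hdν⟩ := h2 ν
          refine ⟨sa * sν, S.mul_mem hsa hsν, ?_⟩
          have hsν𝔫 : sν ∈ 𝔫 := by
            have : sν = ν - (ν - sν) := by ring
            rw [this]
            exact 𝔫.sub_mem hν (Ideal.pow_le_self (by norm_num) hdν)
          have e : a * ν - sa * sν = a * (ν - sν) + (a - sa) * sν := by ring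
          rw [e]
          refine Ideal.add_mem _ ?_ ?_
          · have : 𝔫 ^ (i + 3) = 𝔫 ^ (i + 1) * 𝔫 ^ 2 := by rw [← pow_add]
            rw [this]
            exact Ideal.mul_mem_mul ha hdν
          · have : 𝔫 ^ (i + 3) = 𝔫 ^ (i + 2) * 𝔫 := by rw [← pow_succ]
            rw [this]
            exact Ideal.mul_mem_mul hda hsν𝔫
        · rintro x y ⟨sx, hsx, hdx⟩ ⟨sy, hsy, hdy⟩
          refine ⟨sx + sy, S.add_mem hsx hsy, ?_⟩
          have e : x + y - (sx + sy) = (x - sx) + (y - sy) := by ring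
          rw [e]
          exact Ideal.add_mem _ hdx hdy
      intro t
      obtain ⟨s₀, hs₀, hd₀⟩ := ih t
      obtain ⟨s₁, hs₁, hd₁⟩ := hmul _ hd₀
      refine ⟨s₀ + s₁, S.add_mem hs₀ hs₁, ?_⟩
      have e : t - (s₀ + s₁) = (t - s₀) - s₁ := by ring
      rw [e]
      exact hd₁
  intro t
  obtain ⟨s, hs, hd⟩ := key n t
  have : 𝔫 ^ (n + 2) = ⊥ := by rw [pow_add, hn, Ideal.bot_mul]
  rw [this, Ideal.mem_bot, sub_eq_zero] at hd
  rw [hd]
  exact hs

end Groth.Agent.Lib.AlgzH5
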