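import Mathlib
import Groth.Agent.Lib.Algz4_helper5

/-!
# Algebraization of versal formal deformations, part 5 (helper5)
The versal lifting sequence, the isomorphism with the completion, and the final step.
-/

set_option autoImplicit false
set_option linter.style.haveILetI false
set_option linter.unusedVariables false
set_option linter.deprecated false
set_option maxHeartbeats 1600000

universe u

open IsLocalRing CategoryTheory

namespace Groth.Agent.Lib.AlgzH5


section Versal

variable (k : Type u) [Field k] (F : CommAlgCat.{u} k ⥤ Type u)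

/-- functoriality helper: `F` applied to a composite of algebra maps -/
theorem map_comp_ofHom {X Y Z : Type u} [CommRing X] [Algebra k X] [CommRing Y] [Algebra k Y]
    [CommRing Z] [Algebra k Z] (f : X →ₐ[k] Y) (g : Y →ₐ[k] Z) (x : F.obj (CommAlgCat.of k X)) :
    F.map (CommAlgCat.ofHom (g.comp f)) x =
      F.map (CommAlgCat.ofHom g) (F.map (CommAlgCat.ofHom f) x) := by
  have h : CommAlgCat.ofHom (g.comp f) = CommAlgCat.ofHom f ≫ CommAlgCat.ofHom g := rfl
  rw [h]
  exact FunctorToTypes.map_comp_apply F _ _ x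


/-- **The versal lifting sequence.** -/
theorem versal_sequence
    (R : Type u) [CommRing R] [Algebra k R] (ξ : F.obj (CommAlgCat.of k R))
    (hvers : ∀ (B B₀ : Type u) [CommRing B] [Algebra k B] [IsLocalRing B] [IsArtinianRing B]
        [CommRing B₀] [Algebra k B₀] [IsLocalRing B₀] [IsArtinianRing B₀],
        Function.Surjective (fun c : k => IsLocalRing.residue B (algebraMap k B c)) →
        ∀ (π : B →ₐ[k] B₀), Function.Surjective π →
          ∀ (g₀ : R →ₐ[k] B₀) (y : F.obj (CommAlgCat.of k B)),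
            F.map (CommAlgCat.ofHom π) y = F.map (CommAlgCat.ofHom g₀) ξ →
              ∃ g : R →ₐ[k] B, π.comp g = g₀ ∧ F.map (CommAlgCat.ofHom g) ξ = y)
    (A : Type u) [CommRing A] [Algebra k A] (m : Ideal A) [m.IsMaximal]
    (hm : ∀ a : A, ∃ c : k, a - algebraMap k A c ∈ m)
    (hfin : ∀ n, Module.Finite k (A ⧸ m ^ n))
    (η : F.obj (CommAlgCat.of k A)) (N : ℕ)
    (φ₀ : R →ₐ[k] A ⧸ m ^ (N + 1))
    (hφ₀ : F.map (CommAlgCat.ofHom φ₀) ξ =
      F.map (CommAlgCat.ofHom (Ideal.Quotient.mkₐ k (m ^ (N + 1)))) η) :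
    ∃ φ : ∀ n, R →ₐ[k] A ⧸ m ^ n,
      (∀ n, (Ideal.Quotient.factorₐ k (Ideal.pow_le_pow_right (Nat.le_succ n))).comp (φ (n + 1)) =
        φ n) ∧
      (∀ n (h : n ≤ N + 1), φ n = (Ideal.Quotient.factorₐ k (Ideal.pow_le_pow_right h)).comp φ₀) ∧
      ∀ n, F.map (CommAlgCat.ofHom (φ n)) ξ =
        F.map (CommAlgCat.ofHom (Ideal.Quotient.mkₐ k (m ^ n))) η := by
  classical
  -- the condition at level n for truncations of φ₀
  have hlow : ∀ n (h : n ≤ N + 1),
      F.map (CommAlgCat.ofHom ((Ideal.Quotient.factorₐ k (Ideal.pow_le_pow_right h)).comp φ₀)) ξ =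
        F.map (CommAlgCat.ofHom (Ideal.Quotient.mkₐ k (m ^ n))) η := by
    intro n h
    rw [map_comp_ofHom, hφ₀, ← map_comp_ofHom]
    rfl
  let P : ℕ → Type u := fun n => {φ : R →ₐ[k] A ⧸ m ^ n //
    F.map (CommAlgCat.ofHom φ) ξ = F.map (CommAlgCat.ofHom (Ideal.Quotient.mkₐ k (m ^ n))) η ∧
    ∀ h : n ≤ N + 1, φ = (Ideal.Quotient.factorₐ k (Ideal.pow_le_pow_right h)).comp φ₀}
  have step : ∀ n (p : P n), ∃ q : P (n + 1),
      (Ideal.Quotient.factorₐ k (Ideal.pow_le_pow_right (Nat.le_succ n))).comp q.1 = p.1 := by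
    intro n p
    by_cases hn : n + 1 ≤ N + 1
    · refine ⟨⟨(Ideal.Quotient.factorₐ k (Ideal.pow_le_pow_right hn)).comp φ₀,
        hlow (n + 1) hn, fun _ => rfl⟩, ?_⟩
      rw [p.2.2 (by omega)]
      ext r
      obtain ⟨a, ha⟩ := Ideal.Quotient.mk_surjective (φ₀ r)
      simp only [AlgHom.coe_comp, Function.comp_apply]
      rw [← ha]
      rfl
    · have hn0 : n ≠ 0 := by omega
      haveI : IsLocalRing (A ⧸ m ^ (n + 1)) := isLocalRing_quot_pow m (n + 1) (Nat.succ_ne_zero n)
      haveI : IsLocalRing (A ⧸ m ^ n) := isLocalRing_quot_pow m n hn0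
      haveI := hfin (n + 1)
      haveI := hfin n
      haveI : IsArtinianRing (A ⧸ m ^ (n + 1)) := IsArtinianRing.of_finite k _
      haveI : IsArtinianRing (A ⧸ m ^ n) := IsArtinianRing.of_finite k _
      have hres := residue_surjective_quot_pow (k := k) m hm (n + 1)
      have hy : F.map (CommAlgCat.ofHom
          (Ideal.Quotient.factorₐ k (Ideal.pow_le_pow_right (Nat.le_succ n))))
          (F.map (CommAlgCat.ofHom (Ideal.Quotient.mkₐ k (m ^ (n + 1)))) η) =
          F.map (CommAlgCat.ofHom p.1) ξ := by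
        rw [p.2.1, ← map_comp_ofHom]
        rfl
      obtain ⟨g, hg1, hg2⟩ := hvers (A ⧸ m ^ (n + 1)) (A ⧸ m ^ n) hres
        (Ideal.Quotient.factorₐ k (Ideal.pow_le_pow_right (Nat.le_succ n)))
        (Ideal.Quotient.factor_surjective (Ideal.pow_le_pow_right (Nat.le_succ n))) p.1 _ hy
      exact ⟨⟨g, hg2, fun h => absurd h hn⟩, hg1⟩
  choose next hnext using step
  let base : P 0 := ⟨(Ideal.Quotient.factorₐ k (Ideal.pow_le_pow_right (Nat.zero_le _))).comp φ₀,
    hlow 0 (Nat.zero_le _), fun _ => rfl⟩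
  let seq : ∀ n, P n := fun n => Nat.rec base (fun n p => next n p) n
  have hseq : ∀ n, seq (n + 1) = next n (seq n) := fun n => rfl
  refine ⟨fun n => (seq n).1, fun n => ?_, fun n h => (seq n).2.2 h, fun n => (seq n).2.1⟩
  show (Ideal.Quotient.factorₐ k _).comp (seq (n + 1)).1 = (seq n).1
  rw [hseq]
  exact hnext n (seq n)

end Versal



/-- **Assembling the isomorphism with the completion.** -/
theorem exists_equiv_completion (k : Type u) [Field k] (R : Type u) [CommRing R] [Algebra k R]
    [IsLocalRing R] [IsNoetherianRing R] [IsAdicComplete (maximalIdeal R) R]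
    (hres : ∀ r : R, ∃ c : k, r - algebraMap k R c ∈ maximalIdeal R)
    (A : Type u) [CommRing A] [Algebra k A] (m : Ideal A) [hmax : m.IsMaximal]
    (hfin : ∀ n, Module.Finite k (A ⧸ m ^ n))
    (φ : ∀ n, R →ₐ[k] A ⧸ m ^ n)
    (hcompat : ∀ n, (Ideal.Quotient.factorₐ k (Ideal.pow_le_pow_right (Nat.le_succ n))).comp
      (φ (n + 1)) = φ n)
    (hsurj : ∀ n, Function.Surjective (φ n))
    (hdim : ∀ n, Module.finrank k (R ⧸ maximalIdeal R ^ n) ≤ Module.finrank k (A ⧸ m ^ n)) :
    ∃ α : R ≃+* AdicCompletion m A, ∀ n r, AdicCompletion.evalₐ m n (α r) = φ n r := by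
  classical
  -- (1) general compatibility
  have hcomp : ∀ (a b : ℕ) (h : a ≤ b) (r : R),
      Ideal.Quotient.factor (Ideal.pow_le_pow_right h) (φ b r) = φ a r := by
    intro a b h
    induction b, h using Nat.le_induction with
    | base =>
      intro r
      obtain ⟨x, hx⟩ := Ideal.Quotient.mk_surjective (φ a r)
      rw [← hx, Ideal.Quotient.factor_mk]
    | succ b hab ih =>
      intro r
      have h1 : φ b r = Ideal.Quotient.factor (Ideal.pow_le_pow_right (Nat.le_succ b))
          (φ (b + 1) r) := by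
        rw [← hcompat b]
        rfl
      rw [← ih r, h1]
      obtain ⟨x, hx⟩ := Ideal.Quotient.mk_surjective (φ (b + 1) r)
      rw [← hx, Ideal.Quotient.factor_mk, Ideal.Quotient.factor_mk, Ideal.Quotient.factor_mk]
  -- (2) φ_n maps the maximal ideal into m/m^n
  have hloc : ∀ n, n ≠ 0 → ∀ x ∈ maximalIdeal R,
      φ n x ∈ m.map (Ideal.Quotient.mk (m ^ n)) := by
    intro n hn x hx
    have hle : m ^ n ≤ m := Ideal.pow_le_self hn
    let ρ : R →+* A ⧸ m := (Ideal.Quotient.factor hle).comp (φ n).toRingHom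
    have hρs : Function.Surjective ρ :=
      (Ideal.Quotient.factor_surjective hle).comp (hsurj n)
    haveI : (RingHom.ker ρ).IsMaximal := by
      letI := Ideal.Quotient.field m
      exact RingHom.ker_isMaximal_of_surjective ρ hρs
    have hker : RingHom.ker ρ = maximalIdeal R := IsLocalRing.eq_maximalIdeal inferInstance
    have h1 : ρ x = 0 := by
      rw [← RingHom.mem_ker, hker]
      exact hx
    obtain ⟨a, ha⟩ := Ideal.Quotient.mk_surjective (φ n x)
    have h2 : Ideal.Quotient.factor hle (φ n x) = 0 := h1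
    rw [← ha, Ideal.Quotient.factor_mk, Ideal.Quotient.eq_zero_iff_mem] at h2
    rw [← ha]
    exact Ideal.mem_map_of_mem _ h2
  -- (3) φ_n kills m_R^n
  have hkill : ∀ n, ∀ x ∈ maximalIdeal R ^ n, φ n x = 0 := by
    intro n x hx
    by_cases hn : n = 0
    · subst hn
      haveI : Subsingleton (A ⧸ m ^ 0) := by
        rw [pow_zero, Ideal.one_eq_top]
        exact Ideal.Quotient.subsingleton_iff.mpr rfl
      exact Subsingleton.elim _ _
    · have h1 : (maximalIdeal R).map (φ n).toRingHom ≤ m.map (Ideal.Quotient.mk (m ^ n)) := by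
        rw [Ideal.map_le_iff_le_comap]
        intro y hy
        exact hloc n hn y hy
      have h2 : φ n x ∈ (m.map (Ideal.Quotient.mk (m ^ n))) ^ n := by
        have h3 : φ n x ∈ (maximalIdeal R ^ n).map (φ n).toRingHom :=
          Ideal.mem_map_of_mem (φ n).toRingHom hx
        rw [Ideal.map_pow] at h3
        exact Ideal.pow_right_mono h1 n h3
      rw [← Ideal.map_pow, Ideal.map_quotient_self] at h2
      exact h2
  -- (4) ker φ_n = m_R^n
  have hker : ∀ n r, φ n r = 0 → r ∈ maximalIdeal R ^ n := by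
    intro n r hr
    haveI := hfin n
    haveI : Module.Finite k (R ⧸ maximalIdeal R ^ n) := finite_quot_pow (maximalIdeal R) hres n
    let φbar : (R ⧸ maximalIdeal R ^ n) →ₐ[k] A ⧸ m ^ n :=
      Ideal.Quotient.liftₐ (maximalIdeal R ^ n) (φ n) (hkill n)
    have hφbar : ∀ r, φbar (Ideal.Quotient.mk _ r) = φ n r := fun r => rfl
    have hs : Function.Surjective φbar.toLinearMap := by
      intro y
      obtain ⟨r, rfl⟩ := hsurj n y
      exact ⟨Ideal.Quotient.mk _ r, hφbar r⟩
    have heq : Module.finrank k (R ⧸ maximalIdeal R ^ n) = Module.finrank k (A ⧸ m ^ n) :=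
      le_antisymm (hdim n) (LinearMap.finrank_le_finrank_of_surjective hs)
    have hinj : Function.Injective φbar.toLinearMap :=
      (LinearMap.injective_iff_surjective_of_finrank_eq_finrank heq).mpr hs
    have h0 : φbar.toLinearMap (Ideal.Quotient.mk _ r) = φbar.toLinearMap 0 := by
      rw [map_zero]
      exact hr
    exact Ideal.Quotient.eq_zero_iff_mem.mp (hinj h0)
  -- (5) the map to the completion
  let f : (n : ℕ) → R →+* A ⧸ m ^ n := fun n => (φ n).toRingHom
  have hf : ∀ {a b : ℕ} (hle : a ≤ b), (Ideal.Quotient.factorPow m hle).comp (f b) = f a := by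
    intro a b hle
    ext r
    exact hcomp a b hle r
  let α₀ : R →+* AdicCompletion m A := AdicCompletion.liftRingHom m f hf
  have hα₀ : ∀ n r, AdicCompletion.evalₐ m n (α₀ r) = φ n r := fun n r =>
    AdicCompletion.evalₐ_liftRingHom m f hf n r
  have hinj : Function.Injective α₀ := by
    rw [injective_iff_map_eq_zero]
    intro r hr
    apply IsHausdorff.haus (IsAdicComplete.toIsHausdorff (I := maximalIdeal R) (M := R))
    intro n
    rw [SModEq.zero, smul_eq_mul, Ideal.mul_top]
    apply hker n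
    rw [← hα₀, hr, map_zero]
  have hsur : Function.Surjective α₀ := by
    intro y
    choose r hr using fun n => hsurj n (AdicCompletion.evalₐ m n y)
    have hcauchy : ∀ {a b : ℕ}, a ≤ b →
        r a ≡ r b [SMOD (maximalIdeal R ^ a • ⊤ : Submodule R R)] := by
      intro a b hab
      rw [SModEq.sub_mem, smul_eq_mul, Ideal.mul_top]
      apply hker a
      rw [map_sub, hr a, ← hcomp a b hab (r b), hr b, factor_evalₐ m hab y, sub_self]
    obtain ⟨L, hL⟩ := IsPrecomplete.prec
      (IsAdicComplete.toIsPrecomplete (I := maximalIdeal R) (M := R)) hcauchy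
    refine ⟨L, AdicCompletion.ext_evalₐ fun n => ?_⟩
    rw [hα₀, ← hr n]
    have h1 := hL n
    rw [SModEq.sub_mem, smul_eq_mul, Ideal.mul_top] at h1
    have h2 := hkill n _ h1
    rw [map_sub, sub_eq_zero] at h2
    exact h2.symm
  exact ⟨RingEquiv.ofBijective α₀ ⟨hinj, hsur⟩, hα₀⟩


section Final

variable (k : Type u) [Field k] (F : CommAlgCat.{u} k ⥤ Type u)

/-- **Final step**: from an approximation to order `N ≥ 1` with large Hilbert function to an
algebraization. -/
theorem algebraize_of_approx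
    (R : Type u) [CommRing R] [Algebra k R] [IsLocalRing R] [IsNoetherianRing R]
    [IsAdicComplete (maximalIdeal R) R]
    (hres : ∀ r : R, ∃ c : k, r - algebraMap k R c ∈ maximalIdeal R)
    (ξ : F.obj (CommAlgCat.of k R))
    (hvers : ∀ (B B₀ : Type u) [CommRing B] [Algebra k B] [IsLocalRing B] [IsArtinianRing B]
        [CommRing B₀] [Algebra k B₀] [IsLocalRing B₀] [IsArtinianRing B₀],
        Function.Surjective (fun c : k => IsLocalRing.residue B (algebraMap k B c)) →
        ∀ (π : B →ₐ[k] B₀), Function.Surjective π →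
          ∀ (g₀ : R →ₐ[k] B₀) (y : F.obj (CommAlgCat.of k B)),
            F.map (CommAlgCat.ofHom π) y = F.map (CommAlgCat.ofHom g₀) ξ →
              ∃ g : R →ₐ[k] B, π.comp g = g₀ ∧ F.map (CommAlgCat.ofHom g) ξ = y)
    (A : Type u) [CommRing A] [Algebra k A] [IsNoetherianRing A] (m : Ideal A)
    (hm : ∀ a : A, ∃ c : k, a - algebraMap k A c ∈ m)
    (η : F.obj (CommAlgCat.of k A)) (N : ℕ) (hN : 1 ≤ N)
    (φ₀ : R →ₐ[k] A ⧸ m ^ (N + 1)) (hφ₀s : Function.Surjective φ₀)
    (hφ₀ : F.map (CommAlgCat.ofHom φ₀) ξ =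
      F.map (CommAlgCat.ofHom (Ideal.Quotient.mkₐ k (m ^ (N + 1)))) η)
    (hdim : ∀ n, Module.finrank k (R ⧸ maximalIdeal R ^ n) ≤ Module.finrank k (A ⧸ m ^ n)) :
    ∃ (_ : m.IsMaximal)
      (_ : Function.Surjective (fun c : k => Ideal.Quotient.mk m (algebraMap k A c)))
      (α : R ≃+* AdicCompletion m A),
      (∀ c : k, α (algebraMap k R c) = algebraMap A (AdicCompletion m A) (algebraMap k A c)) ∧
      ∀ (n : ℕ) (ψ : R →ₐ[k] A ⧸ m ^ (n + 1)),
        ψ.toRingHom = (AdicCompletion.evalₐ m (n + 1) :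
            AdicCompletion m A →ₐ[A] A ⧸ m ^ (n + 1)).toRingHom.comp α.toRingHom →
          F.map (CommAlgCat.ofHom ψ) ξ =
            F.map (CommAlgCat.ofHom (Ideal.Quotient.mkₐ k (m ^ (n + 1)))) η := by
  classical
  have hfin : ∀ n, Module.Finite k (A ⧸ m ^ n) := finite_quot_pow m hm
  -- m is proper, hence maximal
  have h1 : (1 : A) ∉ m := by
    intro h
    have htop : m ^ 1 = ⊤ := by rw [pow_one]; exact (Ideal.eq_top_iff_one m).mpr h
    haveI : Subsingleton (A ⧸ m ^ 1) := by
      rw [htop]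
      exact Ideal.Quotient.subsingleton_iff.mpr rfl
    have h0 : Module.finrank k (A ⧸ m ^ 1) = 0 := Module.finrank_zero_of_subsingleton
    haveI : Module.Finite k (R ⧸ maximalIdeal R ^ 1) := finite_quot_pow (maximalIdeal R) hres 1
    haveI : Nontrivial (R ⧸ maximalIdeal R ^ 1) := by
      apply Ideal.Quotient.nontrivial_iff.mpr
      rw [pow_one]
      exact (IsLocalRing.maximalIdeal.isMaximal R).ne_top
    have hpos : 0 < Module.finrank k (R ⧸ maximalIdeal R ^ 1) := Module.finrank_pos
    have := hdim 1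
    omega
  haveI hmax : m.IsMaximal := isMaximal_of_scalars m hm h1
  obtain ⟨φ, hcompat, hlow, hFφ⟩ := versal_sequence k F R ξ hvers A m hm hfin η N φ₀ hφ₀
  -- general compatibility
  have hcomp : ∀ (a b : ℕ) (h : a ≤ b) (r : R),
      Ideal.Quotient.factor (Ideal.pow_le_pow_right h) (φ b r) = φ a r := by
    intro a b h
    induction b, h using Nat.le_induction with
    | base =>
      intro r
      obtain ⟨x, hx⟩ := Ideal.Quotient.mk_surjective (φ a r)
      rw [← hx, Ideal.Quotient.factor_mk]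
    | succ b hab ih =>
      intro r
      have h1 : φ b r = Ideal.Quotient.factor (Ideal.pow_le_pow_right (Nat.le_succ b))
          (φ (b + 1) r) := by
        rw [← hcompat b]
        rfl
      rw [← ih r, h1]
      obtain ⟨x, hx⟩ := Ideal.Quotient.mk_surjective (φ (b + 1) r)
      rw [← hx, Ideal.Quotient.factor_mk, Ideal.Quotient.factor_mk, Ideal.Quotient.factor_mk]
  have hφN : ∀ r, φ (N + 1) r = φ₀ r := by
    intro r
    rw [hlow (N + 1) le_rfl]
    obtain ⟨x, hx⟩ := Ideal.Quotient.mk_surjective (φ₀ r)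
    show Ideal.Quotient.factor (Ideal.pow_le_pow_right (le_refl (N + 1))) (φ₀ r) = φ₀ r
    rw [← hx, Ideal.Quotient.factor_mk]
  -- surjectivity
  have hsurj : ∀ n, Function.Surjective (φ n) := by
    intro n
    by_cases hn : n ≤ N + 1
    · intro y
      obtain ⟨a, rfl⟩ := Ideal.Quotient.mk_surjective y
      obtain ⟨r, hr⟩ := hφ₀s (Ideal.Quotient.mk _ a)
      refine ⟨r, ?_⟩
      rw [← hcomp n (N + 1) hn r, hφN, hr, Ideal.Quotient.factor_mk]
    · have hn' : N + 1 ≤ n := by omega
      have hall := eq_top_of_dense_mod_sq (m.map (Ideal.Quotient.mk (m ^ n)))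
        (φ n).toRingHom.range ?_ n (by rw [← Ideal.map_pow, Ideal.map_quotient_self])
      · intro y
        obtain ⟨r, hr⟩ := hall y
        exact ⟨r, hr⟩
      · intro t
        obtain ⟨a, rfl⟩ := Ideal.Quotient.mk_surjective t
        obtain ⟨r, hr⟩ := hφ₀s (Ideal.Quotient.mk _ a)
        refine ⟨φ n r, ⟨r, rfl⟩, ?_⟩
        obtain ⟨b, hb⟩ := Ideal.Quotient.mk_surjective (φ n r)
        have h2 : Ideal.Quotient.mk (m ^ (N + 1)) b = Ideal.Quotient.mk (m ^ (N + 1)) a := by
          have := hcomp (N + 1) n hn' r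
          rw [hφN, hr, ← hb, Ideal.Quotient.factor_mk] at this
          exact this
        rw [← hb, ← map_sub]
        have h3 : a - b ∈ m ^ (N + 1) := by
          have := Ideal.Quotient.eq.mp h2
          have e : a - b = -(b - a) := by ring
          rw [e]
          exact neg_mem this
        rw [← Ideal.map_pow]
        exact Ideal.mem_map_of_mem _ (Ideal.pow_le_pow_right (by omega) h3)
  obtain ⟨α, hα⟩ := exists_equiv_completion k R hres A m hfin φ hcompat hsurj hdim
  refine ⟨hmax, ?_, α, ?_, ?_⟩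
  · intro y
    obtain ⟨a, rfl⟩ := Ideal.Quotient.mk_surjective y
    obtain ⟨c, hc⟩ := hm a
    refine ⟨c, ?_⟩
    show Ideal.Quotient.mk m (algebraMap k A c) = Ideal.Quotient.mk m a
    apply Ideal.Quotient.eq.mpr
    have e : algebraMap k A c - a = -(a - algebraMap k A c) := by ring
    rw [e]
    exact neg_mem hc
  · intro c
    refine AdicCompletion.ext_evalₐ fun n => ?_
    rw [hα, AlgHom.commutes, AlgHom.commutes]
    rfl
  · intro n ψ hψ
    have : ψ = φ (n + 1) := by
      ext r
      have h2 := congrArg (fun f : R →+* A ⧸ m ^ (n + 1) => f r) hψ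
      have h3 : ψ r = AdicCompletion.evalₐ m (n + 1) (α r) := h2
      rw [h3, hα]
    rw [this]
    exact hFφ (n + 1)

end Final

end Groth.Agent.Lib.AlgzH5
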