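import Mathlib
import Groth.Agent.Lib.Algz5_helper5

/-!
# Algebraization of versal formal deformations, part 6 (helper5)
`algebraize`: Artin's theorem that an effective versal formal deformation of a limit preserving
functor over a complete local Noetherian `k`-algebra with residue field `k` is algebraizable
(functor form, S17372), following Conrad–de Jong / Stacks 07XH.
-/

set_option autoImplicit false
set_option linter.style.haveILetI false
set_option linter.unusedVariables false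
set_option linter.deprecated false
set_option maxHeartbeats 1600000

universe u

open IsLocalRing CategoryTheory Limits

namespace Groth.Agent.Lib.AlgzH5

/-- the truncations of quotients of the completion are finite dimensional -/
theorem finite_quot_completion (k : Type u) [Field k] (A₁ : Type u) [CommRing A₁] [Algebra k A₁]
    [IsNoetherianRing A₁] (m₁ : Ideal A₁)
    (hm₁ : ∀ a : A₁, ∃ c : k, a - algebraMap k A₁ c ∈ m₁)
    (I : Ideal (AdicCompletion m₁ A₁)) (n : ℕ) :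
    Module.Finite k (AdicCompletion m₁ A₁ ⧸
      (I ⊔ (m₁.map (algebraMap A₁ (AdicCompletion m₁ A₁))) ^ n)) := by
  haveI : IsNoetherianRing (AdicCompletion m₁ A₁) := Groth.Agent.S0543.result A₁ m₁
  haveI tw : IsScalarTower k A₁ (AdicCompletion m₁ A₁) :=
    IsScalarTower.of_algebraMap_eq (fun _ => rfl)
  obtain ⟨𝔪, h𝔪⟩ : ∃ 𝔪 : Ideal (AdicCompletion m₁ A₁),
      𝔪 = m₁.map (algebraMap A₁ (AdicCompletion m₁ A₁)) := ⟨_, rfl⟩
  rw [← h𝔪]
  have hB : ∀ b : AdicCompletion m₁ A₁, ∃ c : k, b - algebraMap k _ c ∈ 𝔪 := by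
    intro b
    obtain ⟨a, ha⟩ := exists_of_sub_mem m₁ b 1
    obtain ⟨c, hc⟩ := hm₁ a
    refine ⟨c, ?_⟩
    rw [pow_one, ← h𝔪] at ha
    have h1 : algebraMap A₁ (AdicCompletion m₁ A₁) (a - algebraMap k A₁ c) ∈ 𝔪 := by
      rw [h𝔪]
      exact Ideal.mem_map_of_mem _ hc
    have h2 : b - algebraMap k (AdicCompletion m₁ A₁) c =
        (b - algebraMap A₁ _ a) + algebraMap A₁ (AdicCompletion m₁ A₁) (a - algebraMap k A₁ c) := by
      rw [map_sub, ← IsScalarTower.algebraMap_apply]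
      ring
    rw [h2]
    exact 𝔪.add_mem ha h1
  haveI := finite_quot_pow 𝔪 hB n
  exact Module.Finite.of_surjective
    (Ideal.Quotient.factorₐ k (le_sup_right : 𝔪 ^ n ≤ I ⊔ 𝔪 ^ n)).toLinearMap
    (Ideal.Quotient.factor_surjective le_sup_right)


/-- **From an étale neighbourhood with approximating generators to an algebraization.** -/
theorem algebraize_of_nbhd (k : Type u) [Field k] (F : CommAlgCat.{u} k ⥤ Type u)
    (R : Type u) [CommRing R] [Algebra k R] [IsLocalRing R] [IsNoetherianRing R]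
    [IsAdicComplete (maximalIdeal R) R]
    (hres : ∀ r : R, ∃ c : k, r - algebraMap k R c ∈ maximalIdeal R)
    (ξ : F.obj (CommAlgCat.of k R))
    (hvers : ∀ (B B₀ : Type u) [CommRing B] [Algebra k B] [IsLocalRing B] [IsArtinianRing B]
        [CommRing B₀] [Algebra k B₀] [IsLocalRing B₀] [IsArtinianRing B₀],
        Function.Surjective (fun c : k => IsLocalRing.residue B (algebraMap k B c)) →
        ∀ (π : B →ₐ[k] B₀), Function.Surjective π →
          ∀ (g₀ : R →ₐ[k] B₀) (y : F.obj (CommAlgCat.of k B)),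
            F.map (CommAlgCat.ofHom π) y = F.map (CommAlgCat.ofHom g₀) ξ →
              ∃ g : R →ₐ[k] B, π.comp g = g₀ ∧ F.map (CommAlgCat.ofHom g) ξ = y)
    (A₁ : Type u) [CommRing A₁] [Algebra k A₁] [Algebra.FiniteType k A₁] [IsNoetherianRing A₁]
    (g₁ : A₁ →ₐ[k] R) (ξ₁ : F.obj (CommAlgCat.of k A₁))
    (hξ₁ : F.map (CommAlgCat.ofHom g₁) ξ₁ = ξ)
    (m₁ : Ideal A₁) (hm₁ : ∀ a : A₁, ∃ c : k, a - algebraMap k A₁ c ∈ m₁)
    (hg₁ : m₁ ≤ (maximalIdeal R).comap g₁)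
    (ĝ : AdicCompletion m₁ A₁ →+* R) (hĝ : ∀ a, ĝ (algebraMap A₁ _ a) = g₁ a)
    (hĝs : Function.Surjective ĝ) (N : ℕ) (hN : 1 ≤ N)
    (A' : Type u) [CommRing A'] [Algebra A₁ A'] [Algebra k A'] [IsScalarTower k A₁ A']
    [Algebra.Etale A₁ A'] (ψ : A' →ₐ[A₁] AdicCompletion m₁ A₁) (s : ℕ) (f' : Fin s → A')
    (hs : ∀ x : A', ∃ a : A₁, x - algebraMap A₁ A' a ∈ m₁.map (algebraMap A₁ A'))
    (hsup : Ideal.span (Set.range (fun i => ψ (f' i))) ⊔
          (m₁.map (algebraMap A₁ (AdicCompletion m₁ A₁))) ^ (N + 1) =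
        RingHom.ker ĝ ⊔ (m₁.map (algebraMap A₁ (AdicCompletion m₁ A₁))) ^ (N + 1))
    (hdimB : ∀ n, Module.finrank k ((AdicCompletion m₁ A₁) ⧸
          (RingHom.ker ĝ ⊔ (m₁.map (algebraMap A₁ (AdicCompletion m₁ A₁))) ^ n)) ≤
        Module.finrank k ((AdicCompletion m₁ A₁) ⧸
          (Ideal.span (Set.range (fun i => ψ (f' i))) ⊔
            (m₁.map (algebraMap A₁ (AdicCompletion m₁ A₁))) ^ n))) :
    ∃ (A : Type u) (_ : CommRing A) (_ : Algebra k A) (_ : Algebra.FiniteType k A)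
      (m : Ideal A) (_ : m.IsMaximal)
      (_ : Function.Surjective (fun c : k => Ideal.Quotient.mk m (algebraMap k A c)))
      (η : F.obj (CommAlgCat.of k A))
      (α : R ≃+* AdicCompletion m A),
      (∀ c : k, α (algebraMap k R c) = algebraMap A (AdicCompletion m A) (algebraMap k A c)) ∧
      ∀ (n : ℕ) (ψ : R →ₐ[k] A ⧸ m ^ (n + 1)),
        ψ.toRingHom = (AdicCompletion.evalₐ m (n + 1) :
            AdicCompletion m A →ₐ[A] A ⧸ m ^ (n + 1)).toRingHom.comp α.toRingHom →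
          F.map (CommAlgCat.ofHom ψ) ξ =
            F.map (CommAlgCat.ofHom (Ideal.Quotient.mkₐ k (m ^ (n + 1)))) η := by
  classical
  haveI tw : IsScalarTower k A₁ (AdicCompletion m₁ A₁) :=
    IsScalarTower.of_algebraMap_eq (fun _ => rfl)
  obtain ⟨J, hJ⟩ : ∃ J : Ideal A', J = Ideal.span (Set.range f') := ⟨_, rfl⟩
  have hJψ : J.map ψ.toRingHom = Ideal.span (Set.range (fun i => ψ (f' i))) := by
    rw [hJ, Ideal.map_span]
    congr 1
    ext y
    constructor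
    · rintro ⟨_, ⟨i, rfl⟩, rfl⟩
      exact ⟨i, rfl⟩
    · rintro ⟨i, rfl⟩
      exact ⟨f' i, ⟨i, rfl⟩, rfl⟩
  rw [← hJψ] at hsup hdimB
  haveI : Algebra.FiniteType A₁ A' := inferInstance
  haveI : Algebra.FiniteType k A' := Algebra.FiniteType.trans (inferInstance :
    Algebra.FiniteType k A₁) inferInstance
  haveI : Algebra.FiniteType k (A' ⧸ J) :=
    Algebra.FiniteType.of_surjective (Ideal.Quotient.mkₐ k J) (Ideal.Quotient.mkₐ_surjective k J)
  haveI : IsNoetherianRing (A' ⧸ J) := Algebra.FiniteType.isNoetherianRing k _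
  obtain ⟨m, hm⟩ : ∃ m : Ideal (A' ⧸ J), m = m₁.map (algebraMap A₁ (A' ⧸ J)) := ⟨_, rfl⟩
  have hmA : ∀ x : A' ⧸ J, ∃ c : k, x - algebraMap k (A' ⧸ J) c ∈ m := by
    rw [hm]
    exact exists_scalar_quot m₁ J hs hm₁
  -- dimensions
  have hdim : ∀ n, Module.finrank k (R ⧸ maximalIdeal R ^ n) ≤
      Module.finrank k ((A' ⧸ J) ⧸ m ^ n) := by
    intro n
    have h1 := finrank_le_ker m₁ (maximalIdeal R) g₁ hg₁ ĝ hĝ hĝs n
      (finite_quot_completion k A₁ m₁ hm₁ _ n)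
    have h2 := finrank_le_quot (k := k) m₁ J ψ n (by rw [← hm]; exact finite_quot_pow m hmA n)
    rw [← hm] at h2
    exact h1.trans ((hdimB n).trans h2)
  -- the truncation map
  obtain ⟨χ, hχs, hχof, hχψ, hχ0⟩ : ∃ χ : AdicCompletion m₁ A₁ →+* (A' ⧸ J) ⧸ m ^ (N + 1),
      Function.Surjective χ ∧
      (∀ a : A₁, χ (algebraMap A₁ _ a) = Ideal.Quotient.mk _ (algebraMap A₁ (A' ⧸ J) a)) ∧
      (∀ x : A', χ (ψ x) = Ideal.Quotient.mk _ (Ideal.Quotient.mk J x)) ∧
      (∀ b ∈ (m₁.map (algebraMap A₁ (AdicCompletion m₁ A₁))) ^ (N + 1), χ b = 0) := by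
    rw [hm]
    exact exists_chi m₁ J ψ hs (N + 1)
  have hχker : ∀ b, ĝ b = 0 → χ b = 0 := by
    intro b hb
    have h1 : b ∈ J.map ψ.toRingHom ⊔
        (m₁.map (algebraMap A₁ (AdicCompletion m₁ A₁))) ^ (N + 1) := by
      rw [hsup]
      exact Ideal.mem_sup_left hb
    have hle : J.map ψ.toRingHom ⊔
        (m₁.map (algebraMap A₁ (AdicCompletion m₁ A₁))) ^ (N + 1) ≤ RingHom.ker χ := by
      refine sup_le ?_ (fun b hb => hχ0 b hb)
      rw [Ideal.map_le_iff_le_comap]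
      intro x hx
      rw [Ideal.mem_comap, RingHom.mem_ker]
      show χ (ψ x) = 0
      rw [hχψ, Ideal.Quotient.eq_zero_iff_mem.mpr hx, map_zero]
    exact hle h1
  -- k-algebra versions
  let ĝk : AdicCompletion m₁ A₁ →ₐ[k] R :=
    { ĝ with
      commutes' := fun c => by
        show ĝ (algebraMap k (AdicCompletion m₁ A₁) c) = _
        rw [IsScalarTower.algebraMap_apply k A₁ (AdicCompletion m₁ A₁), hĝ, AlgHom.commutes] }
  let χk : AdicCompletion m₁ A₁ →ₐ[k] (A' ⧸ J) ⧸ m ^ (N + 1) :=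
    { χ with
      commutes' := fun c => by
        show χ (algebraMap k (AdicCompletion m₁ A₁) c) = _
        rw [IsScalarTower.algebraMap_apply k A₁ (AdicCompletion m₁ A₁), hχof,
          ← IsScalarTower.algebraMap_apply k A₁ (A' ⧸ J)]
        rfl }
  have hker : RingHom.ker ĝk.toRingHom ≤ RingHom.ker χk.toRingHom := by
    intro b hb
    rw [RingHom.mem_ker] at hb ⊢
    exact hχker b hb
  let φ₀ : R →ₐ[k] (A' ⧸ J) ⧸ m ^ (N + 1) := AlgHom.liftOfSurjective ĝk hĝs χk hker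
  have hφ₀ĝ : ∀ b, φ₀ (ĝ b) = χ b := fun b => AlgHom.liftOfSurjective_apply ĝk hĝs χk hker b
  have hφ₀s : Function.Surjective φ₀ :=
    AlgHom.liftOfSurjective_surjective ĝk hĝs χk hker hχs
  let ιA : A₁ →ₐ[k] A' ⧸ J := IsScalarTower.toAlgHom k A₁ (A' ⧸ J)
  have hφ₀g : φ₀.comp g₁ = (Ideal.Quotient.mkₐ k (m ^ (N + 1))).comp ιA := by
    ext a
    show φ₀ (g₁ a) = Ideal.Quotient.mk _ (algebraMap A₁ (A' ⧸ J) a)
    rw [← hĝ a, hφ₀ĝ, hχof]
  have hFφ₀ : F.map (CommAlgCat.ofHom φ₀) ξ =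
      F.map (CommAlgCat.ofHom (Ideal.Quotient.mkₐ k (m ^ (N + 1))))
        (F.map (CommAlgCat.ofHom ιA) ξ₁) := by
    rw [← hξ₁, ← map_comp_ofHom, ← map_comp_ofHom, hφ₀g]
  obtain ⟨hmax, hsurjk, α, hαk, hfinal⟩ := algebraize_of_approx k F R hres ξ hvers (A' ⧸ J) m hmA
    (F.map (CommAlgCat.ofHom ιA) ξ₁) N hN φ₀ hφ₀s hFφ₀ hdim
  exact ⟨A' ⧸ J, inferInstance, inferInstance, inferInstance, m, hmax, hsurjk,
    F.map (CommAlgCat.ofHom ιA) ξ₁, α, hαk, hfinal⟩


/-- **Artin's algebraization of versal formal deformations** (functor form; form of S17372). -/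
theorem algebraize (k : Type u) [Field k] (F : CommAlgCat.{u} k ⥤ Type u)
    (hF : ∀ (J : Type u) [SmallCategory J] [IsFiltered J], PreservesColimitsOfShape J F)
    (R : Type u) [CommRing R] [Algebra k R] [IsLocalRing R] [IsNoetherianRing R]
    [IsAdicComplete (maximalIdeal R) R]
    (hres : Function.Surjective (fun c : k => IsLocalRing.residue R (algebraMap k R c)))
    (ξ : F.obj (CommAlgCat.of k R))
    (hvers : ∀ (B B₀ : Type u) [CommRing B] [Algebra k B] [IsLocalRing B] [IsArtinianRing B]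
        [CommRing B₀] [Algebra k B₀] [IsLocalRing B₀] [IsArtinianRing B₀],
        Function.Surjective (fun c : k => IsLocalRing.residue B (algebraMap k B c)) →
        ∀ (π : B →ₐ[k] B₀), Function.Surjective π →
          ∀ (g₀ : R →ₐ[k] B₀) (y : F.obj (CommAlgCat.of k B)),
            F.map (CommAlgCat.ofHom π) y = F.map (CommAlgCat.ofHom g₀) ξ →
              ∃ g : R →ₐ[k] B, π.comp g = g₀ ∧ F.map (CommAlgCat.ofHom g) ξ = y) :
    ∃ (A : Type u) (_ : CommRing A) (_ : Algebra k A) (_ : Algebra.FiniteType k A)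
      (m : Ideal A) (_ : m.IsMaximal)
      (_ : Function.Surjective (fun c : k => Ideal.Quotient.mk m (algebraMap k A c)))
      (η : F.obj (CommAlgCat.of k A))
      (α : R ≃+* AdicCompletion m A),
      (∀ c : k, α (algebraMap k R c) = algebraMap A (AdicCompletion m A) (algebraMap k A c)) ∧
      ∀ (n : ℕ) (ψ : R →ₐ[k] A ⧸ m ^ (n + 1)),
        ψ.toRingHom = (AdicCompletion.evalₐ m (n + 1) :
            AdicCompletion m A →ₐ[A] A ⧸ m ^ (n + 1)).toRingHom.comp α.toRingHom →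
          F.map (CommAlgCat.ofHom ψ) ξ =
            F.map (CommAlgCat.ofHom (Ideal.Quotient.mkₐ k (m ^ (n + 1)))) η := by
  classical
  obtain ⟨A₁, i1, i2, i3, g₁, ξ₁, hξ₁, hgen⟩ := exists_ft_model k F hF R ξ
  haveI : IsNoetherianRing A₁ := Algebra.FiniteType.isNoetherianRing k A₁
  have hresR : ∀ r : R, ∃ c : k, r - algebraMap k R c ∈ maximalIdeal R := exists_scalar hres
  obtain ⟨m₁, hm₁def⟩ : ∃ m₁ : Ideal A₁, m₁ = (maximalIdeal R).comap (g₁ : A₁ →+* R) :=
    ⟨_, rfl⟩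
  have hm₁ : ∀ a : A₁, ∃ c : k, a - algebraMap k A₁ c ∈ m₁ := by
    intro a
    obtain ⟨c, hc⟩ := exists_scalar_comap hres g₁ a
    exact ⟨c, by rw [hm₁def]; exact hc⟩
  have hg₁ : m₁ ≤ (maximalIdeal R).comap g₁ := by
    rw [hm₁def]
    exact le_rfl
  obtain ⟨ĝ, hĝ, hĝs⟩ : ∃ ĝ : AdicCompletion m₁ A₁ →+* R,
      (∀ a, ĝ (algebraMap A₁ _ a) = g₁ a) ∧ Function.Surjective ĝ := by
    rw [hm₁def]
    refine exists_completion_map (g₁ : A₁ →+* R) hgen ?_
    intro r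
    obtain ⟨c, hc⟩ := hresR r
    refine ⟨algebraMap k A₁ c, ?_⟩
    show r - g₁ (algebraMap k A₁ c) ∈ maximalIdeal R
    rw [AlgHom.commutes]
    exact hc
  obtain ⟨N, hN, A', iA1, iA2, het, ψ, s, f', hs, hsup, hdimB⟩ :=
    approx_ideal k A₁ m₁ hm₁ (RingHom.ker ĝ) 1
  letI algkA' : Algebra k A' := ((algebraMap A₁ A').comp (algebraMap k A₁)).toAlgebra
  haveI twA' : IsScalarTower k A₁ A' := IsScalarTower.of_algebraMap_eq (fun _ => rfl)
  exact algebraize_of_nbhd k F R hresR ξ hvers A₁ g₁ ξ₁ hξ₁ m₁ hm₁ hg₁ ĝ hĝ hĝs N hN A' ψ s f' hs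
    hsup hdimB

end Groth.Agent.Lib.AlgzH5
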