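import Mathlib
import Groth.Agent.Lib.Algz4_helper5
import Groth.Agent.Lib.ArtinApx9_helper5
import Groth.Agent.Lib.IAdicRegular_helper3

/-!
# Algebraization of versal formal deformations, part 7 (helper5)
`initial_ge`, contraction of ideals along `A' → B`, and `approx_ideal2` (approximation of an ideal of
the completion with equal initial ideals).
-/

set_option autoImplicit false
set_option linter.style.haveILetI false
set_option linter.unusedVariables false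
set_option linter.deprecated false
set_option maxHeartbeats 1600000

universe u

open IsLocalRing

namespace Groth.Agent.Lib.AlgzH5

open Groth.Agent.Lib.ArtinApxH5

/-- **Initial ideals do not shrink under approximation** (the easy direction, Artin–Rees). -/
theorem initial_ge {B : Type u} [CommRing B] [IsNoetherianRing B] (𝔪 : Ideal B) {s : ℕ}
    (f : Fin s → B) :
    ∃ N₀ : ℕ, ∀ N, N₀ ≤ N → ∀ (f' : Fin s → B), (∀ i, f' i - f i ∈ 𝔪 ^ N) →
      ∀ (n : ℕ) (g : B), g ∈ Ideal.span (Set.range f) → g ∈ 𝔪 ^ n →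
        ∃ g' ∈ Ideal.span (Set.range f'), g' ∈ 𝔪 ^ n ∧ g - g' ∈ 𝔪 ^ (n + 1) := by
  classical
  obtain ⟨c, hc⟩ := Ideal.exists_pow_inf_eq_pow_smul 𝔪
    (Ideal.span (Set.range f) : Submodule B B)
  refine ⟨c + 1, fun N hN f' hf' n g hg hgn => ?_⟩
  have hI' : ∀ a : Fin s → B, ∑ i, a i * f' i ∈ Ideal.span (Set.range f') := fun a =>
    Ideal.sum_mem _ fun i _ => Ideal.mul_mem_left _ _ (Ideal.subset_span ⟨i, rfl⟩)
  have hdiff : ∀ (e : ℕ) (a : Fin s → B), (∀ i, a i ∈ 𝔪 ^ e) →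
      ∑ i, a i * f i - ∑ i, a i * f' i ∈ 𝔪 ^ (e + N) := by
    intro e a ha
    rw [← Finset.sum_sub_distrib]
    refine Ideal.sum_mem _ fun i _ => ?_
    have : a i * f i - a i * f' i = -(a i * (f' i - f i)) := by ring
    rw [this, pow_add]
    exact neg_mem (Ideal.mul_mem_mul (ha i) (hf' i))
  have key : ∀ (e : ℕ) (a : Fin s → B), (∀ i, a i ∈ 𝔪 ^ e) → n + 1 ≤ e + N →
      ∑ i, a i * f i = g →
      ∃ g' ∈ Ideal.span (Set.range f'), g' ∈ 𝔪 ^ n ∧ g - g' ∈ 𝔪 ^ (n + 1) := by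
    intro e a ha hle hag
    have h1 : g - ∑ i, a i * f' i ∈ 𝔪 ^ (n + 1) := by
      rw [← hag]
      exact Ideal.pow_le_pow_right hle (hdiff e a ha)
    refine ⟨∑ i, a i * f' i, hI' a, ?_, h1⟩
    have h2 : ∑ i, a i * f' i = g - (g - ∑ i, a i * f' i) := by ring
    rw [h2]
    exact Ideal.sub_mem _ hgn (Ideal.pow_le_pow_right (Nat.le_succ n) h1)
  by_cases hn : c ≤ n
  · have h1 : g ∈ 𝔪 ^ n • (⊤ : Submodule B B) ⊓ (Ideal.span (Set.range f) : Submodule B B) := by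
      refine ⟨?_, hg⟩
      have : 𝔪 ^ n • (⊤ : Submodule B B) = 𝔪 ^ n := by
        show 𝔪 ^ n • (⊤ : Ideal B) = 𝔪 ^ n
        rw [smul_eq_mul, Ideal.mul_top]
      rw [this]
      exact hgn
    rw [hc n hn] at h1
    have h2 : g ∈ 𝔪 ^ (n - c) • (Submodule.span B (Set.range f) : Submodule B B) :=
      Submodule.smul_mono le_rfl inf_le_right h1
    obtain ⟨b, hb, hbs⟩ := exists_coeffs _ f g h2
    exact key (n - c) b hb (by omega) hbs
  · obtain ⟨a, ha⟩ := Ideal.mem_span_range_iff_exists_fun.mp hg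
    exact key 0 a (fun i => by simp) (by omega) ha


section Contraction

variable {A₁ A' : Type u} [CommRing A₁] [IsNoetherianRing A₁]
  [CommRing A'] [Algebra A₁ A'] (m₁ : Ideal A₁) (J : Ideal A')
  (ψ : A' →ₐ[A₁] AdicCompletion m₁ A₁)
  (hs : ∀ x : A', ∃ a : A₁, x - algebraMap A₁ A' a ∈ m₁.map (algebraMap A₁ A'))

theorem map_psi_pow (n : ℕ) : ((m₁.map (algebraMap A₁ A')) ^ n).map ψ.toRingHom =
    (m₁.map (algebraMap A₁ (AdicCompletion m₁ A₁))) ^ n := by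
  rw [Ideal.map_pow, Ideal.map_map]
  congr 2
  exact ψ.comp_algebraMap

include hs in
/-- `A'/m'^n → B/𝔪^n` is injective -/
theorem mem_pow_of_psi_mem (n : ℕ) (w : A')
    (hw : ψ w ∈ (m₁.map (algebraMap A₁ (AdicCompletion m₁ A₁))) ^ n) :
    w ∈ (m₁.map (algebraMap A₁ A')) ^ n := by
  obtain ⟨a, ha⟩ := surj_pow m₁ hs n w
  rw [Ideal.map_pow] at ha
  have h1 : ψ (w - algebraMap A₁ A' a) ∈ (m₁.map (algebraMap A₁ (AdicCompletion m₁ A₁))) ^ n := by
    rw [← map_psi_pow m₁ ψ n]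
    exact Ideal.mem_map_of_mem ψ.toRingHom ha
  have h2 : algebraMap A₁ (AdicCompletion m₁ A₁) a ∈
      (m₁.map (algebraMap A₁ (AdicCompletion m₁ A₁))) ^ n := by
    have : algebraMap A₁ (AdicCompletion m₁ A₁) a = ψ w - ψ (w - algebraMap A₁ A' a) := by
      rw [map_sub, AlgHom.commutes]
      ring
    rw [this]
    exact Ideal.sub_mem _ hw h1
  rw [← Ideal.map_pow] at h2
  have h3 := mem_pow_of_of_mem m₁ a n h2
  have h4 : w = (w - algebraMap A₁ A' a) + algebraMap A₁ A' a := by ring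
  rw [h4]
  refine Ideal.add_mem _ ha ?_
  rw [← Ideal.map_pow]
  exact Ideal.mem_map_of_mem _ h3

include hs in
/-- contraction of `J B + 𝔪^n` -/
theorem mem_sup_of_psi_mem (n : ℕ) (x : A')
    (hx : ψ x ∈ J.map ψ.toRingHom ⊔ (m₁.map (algebraMap A₁ (AdicCompletion m₁ A₁))) ^ n) :
    x ∈ J ⊔ (m₁.map (algebraMap A₁ A')) ^ n := by
  obtain ⟨y, hy, z, hz, hyz⟩ := Submodule.mem_sup.mp hx
  letI algψ : Algebra A' (AdicCompletion m₁ A₁) := ψ.toRingHom.toAlgebra
  have hdens : ∀ b : AdicCompletion m₁ A₁, ∃ w : A',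
      b - algebraMap A' (AdicCompletion m₁ A₁) w ∈
        ((m₁.map (algebraMap A₁ A')) ^ n).map (algebraMap A' (AdicCompletion m₁ A₁)) := by
    intro b
    obtain ⟨a, ha⟩ := exists_of_sub_mem m₁ b n
    refine ⟨algebraMap A₁ A' a, ?_⟩
    show b - ψ (algebraMap A₁ A' a) ∈ ((m₁.map (algebraMap A₁ A')) ^ n).map ψ.toRingHom
    rw [AlgHom.commutes, map_psi_pow, ← Ideal.map_pow]
    exact ha
  obtain ⟨j, hj, hjy⟩ := approx_mem_map ((m₁.map (algebraMap A₁ A')) ^ n) hdens J y hy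
  have hjy' : y - ψ j ∈ (m₁.map (algebraMap A₁ (AdicCompletion m₁ A₁))) ^ n := by
    rw [← map_psi_pow m₁ ψ n]
    exact Ideal.map_mono (Ideal.mul_le_left : (m₁.map (algebraMap A₁ A')) ^ n * J ≤ _) hjy
  have h1 : ψ (x - j) ∈ (m₁.map (algebraMap A₁ (AdicCompletion m₁ A₁))) ^ n := by
    have : ψ (x - j) = (y - ψ j) + z := by
      rw [map_sub, ← hyz]
      ring
    rw [this]
    exact Ideal.add_mem _ hjy' hz
  have h2 := mem_pow_of_psi_mem m₁ ψ hs n _ h1
  have h3 : x = j + (x - j) := by ring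
  rw [h3]
  exact Ideal.add_mem _ (Ideal.mem_sup_left hj) (Ideal.mem_sup_right h2)

end Contraction

/-- **Approximation of an ideal of the completion preserving initial ideals.** -/
theorem approx_ideal2 (k : Type u) [Field k] (A₁ : Type u) [CommRing A₁] [Algebra k A₁]
    [Algebra.FiniteType k A₁] (m₁ : Ideal A₁)
    (hm₁ : ∀ a : A₁, ∃ c : k, a - algebraMap k A₁ c ∈ m₁)
    (I : Ideal (AdicCompletion m₁ A₁)) (N₁ : ℕ) :
    ∃ (N : ℕ) (_ : N₁ ≤ N) (A' : Type u) (_ : CommRing A') (_ : Algebra A₁ A')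
      (_ : Algebra.Etale A₁ A') (ψ : A' →ₐ[A₁] AdicCompletion m₁ A₁) (s : ℕ) (f' : Fin s → A'),
      (∀ x : A', ∃ a : A₁, x - algebraMap A₁ A' a ∈ m₁.map (algebraMap A₁ A')) ∧
      Ideal.span (Set.range (fun i => ψ (f' i))) ⊔
          (m₁.map (algebraMap A₁ (AdicCompletion m₁ A₁))) ^ (N + 1) =
        I ⊔ (m₁.map (algebraMap A₁ (AdicCompletion m₁ A₁))) ^ (N + 1) ∧
      (∀ n, Module.finrank k ((AdicCompletion m₁ A₁) ⧸
          (I ⊔ (m₁.map (algebraMap A₁ (AdicCompletion m₁ A₁))) ^ n)) ≤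
        Module.finrank k ((AdicCompletion m₁ A₁) ⧸
          (Ideal.span (Set.range (fun i => ψ (f' i))) ⊔
            (m₁.map (algebraMap A₁ (AdicCompletion m₁ A₁))) ^ n))) ∧
      (∀ (n : ℕ) (g' : AdicCompletion m₁ A₁), g' ∈ Ideal.span (Set.range (fun i => ψ (f' i))) →
        g' ∈ (m₁.map (algebraMap A₁ (AdicCompletion m₁ A₁))) ^ n →
        ∃ g ∈ I, g ∈ (m₁.map (algebraMap A₁ (AdicCompletion m₁ A₁))) ^ n ∧
          g' - g ∈ (m₁.map (algebraMap A₁ (AdicCompletion m₁ A₁))) ^ (n + 1)) ∧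
      (∀ (n : ℕ) (g : AdicCompletion m₁ A₁), g ∈ I →
        g ∈ (m₁.map (algebraMap A₁ (AdicCompletion m₁ A₁))) ^ n →
        ∃ g' ∈ Ideal.span (Set.range (fun i => ψ (f' i))),
          g' ∈ (m₁.map (algebraMap A₁ (AdicCompletion m₁ A₁))) ^ n ∧
          g - g' ∈ (m₁.map (algebraMap A₁ (AdicCompletion m₁ A₁))) ^ (n + 1)) := by
  classical
  have hG := isGRing_of_finiteType_field k A₁
  haveI := hG.1
  have hreg : CAlg.IsRegularHom A₁ (AdicCompletion m₁ A₁) :=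
    Groth.Agent.Lib.IAdicRegularH3.isRegularHom_adicCompletion A₁ m₁ hG
  haveI : IsNoetherianRing (AdicCompletion m₁ A₁) := Groth.Agent.S0543.result A₁ m₁
  haveI tw : IsScalarTower k A₁ (AdicCompletion m₁ A₁) :=
    IsScalarTower.of_algebraMap_eq (fun _ => rfl)
  obtain ⟨𝔪, h𝔪⟩ : ∃ 𝔪 : Ideal (AdicCompletion m₁ A₁),
      𝔪 = m₁.map (algebraMap A₁ (AdicCompletion m₁ A₁)) := ⟨_, rfl⟩
  rw [← h𝔪]
  have h𝔪pow : ∀ n, (m₁ ^ n).map (algebraMap A₁ (AdicCompletion m₁ A₁)) = 𝔪 ^ n := fun n => by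
    rw [h𝔪, Ideal.map_pow]
  -- scalars in B
  have hB : ∀ b : AdicCompletion m₁ A₁, ∃ c : k, b - algebraMap k _ c ∈ 𝔪 := by
    intro b
    obtain ⟨a, ha⟩ := exists_of_sub_mem m₁ b 1
    obtain ⟨c, hc⟩ := hm₁ a
    refine ⟨c, ?_⟩
    rw [pow_one, ← h𝔪] at ha
    have h1 : algebraMap A₁ (AdicCompletion m₁ A₁) (a - algebraMap k A₁ c) ∈ 𝔪 := by
      rw [h𝔪]
      exact Ideal.mem_map_of_mem _ hc
    have h2 : b - algebraMap k (AdicCompletion m₁ A₁) c =
        (b - algebraMap A₁ _ a) + algebraMap A₁ (AdicCompletion m₁ A₁) (a - algebraMap k A₁ c) := by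
      rw [map_sub, ← IsScalarTower.algebraMap_apply]
      ring
    rw [h2]
    exact 𝔪.add_mem ha h1
  have hfin : ∀ n, Module.Finite k (AdicCompletion m₁ A₁ ⧸ 𝔪 ^ n) := finite_quot_pow 𝔪 hB
  -- generators and relations
  obtain ⟨s, f, hf⟩ := (Submodule.fg_iff_exists_fin_generating_family).mp
    (IsNoetherian.noetherian I)
  have hfI : Ideal.span (Set.range f) = I := hf
  let L : (Fin s → AdicCompletion m₁ A₁) →ₗ[AdicCompletion m₁ A₁] AdicCompletion m₁ A₁ :=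
    Fintype.linearCombination (AdicCompletion m₁ A₁) f
  have hL : ∀ a : Fin s → AdicCompletion m₁ A₁, L a = ∑ i, a i * f i := fun a => by
    show Fintype.linearCombination (AdicCompletion m₁ A₁) f a = _
    rw [Fintype.linearCombination_apply]
    rfl
  obtain ⟨u, ρ, hρ⟩ := (Submodule.fg_iff_exists_fin_generating_family).mp
    (IsNoetherian.noetherian (LinearMap.ker L))
  have hρrel : ∀ l, ∑ i, ρ l i * f i = 0 := by
    intro l
    have : ρ l ∈ LinearMap.ker L := by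
      rw [← hρ]
      exact Submodule.subset_span ⟨l, rfl⟩
    rw [LinearMap.mem_ker, hL] at this
    exact this
  have hgen : ∀ a : Fin s → AdicCompletion m₁ A₁, ∑ i, a i * f i = 0 →
      a ∈ Submodule.span (AdicCompletion m₁ A₁) (Set.range ρ) := by
    intro a ha
    rw [hρ, LinearMap.mem_ker, hL]
    exact ha
  obtain ⟨N₀, hN₀⟩ := initial_le 𝔪 f ρ hgen
  obtain ⟨N₀', hN₀'⟩ := initial_ge 𝔪 f
  -- the algebra of the system
  let rel : Fin u → MvPolynomial (Fin s ⊕ Fin u × Fin s) A₁ := fun l =>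
    ∑ i, MvPolynomial.X (Sum.inr (l, i)) * MvPolynomial.X (Sum.inl i)
  let K : Ideal (MvPolynomial (Fin s ⊕ Fin u × Fin s) A₁) := Ideal.span (Set.range rel)
  haveI : Algebra.FinitePresentation A₁ (MvPolynomial (Fin s ⊕ Fin u × Fin s) A₁ ⧸ K) :=
    Algebra.FinitePresentation.quotient (Submodule.fg_span (Set.finite_range rel))
  let v : Fin s ⊕ Fin u × Fin s → AdicCompletion m₁ A₁ := Sum.elim f (fun p => ρ p.1 p.2)
  have hK : ∀ p ∈ K, MvPolynomial.aeval v p = 0 := by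
    intro p hp
    have : K ≤ RingHom.ker (MvPolynomial.aeval v :
        MvPolynomial (Fin s ⊕ Fin u × Fin s) A₁ →ₐ[A₁] _).toRingHom := by
      rw [Ideal.span_le]
      rintro _ ⟨l, rfl⟩
      show MvPolynomial.aeval v (rel l) = 0
      simp only [rel, map_sum, map_mul, MvPolynomial.aeval_X]
      exact hρrel l
    exact this hp
  let fC : (MvPolynomial (Fin s ⊕ Fin u × Fin s) A₁ ⧸ K) →ₐ[A₁] AdicCompletion m₁ A₁ :=
    Ideal.Quotient.liftₐ K (MvPolynomial.aeval v) hK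
  have hfC : ∀ j, fC (Ideal.Quotient.mk K (MvPolynomial.X j)) = v j := fun j => by
    show MvPolynomial.aeval v (MvPolynomial.X j) = v j
    exact MvPolynomial.aeval_X v j
  obtain ⟨A', iA1, iA2, het, hbij, ψ, t, hψt⟩ :=
    etale_approx_fp m₁ hreg _ fC (max (max N₀ N₀') N₁)
  set N := max (max N₀ N₀') N₁ with hN
  let f' : Fin s → A' := fun i => t (Ideal.Quotient.mk K (MvPolynomial.X (Sum.inl i)))
  let ρ' : Fin u → Fin s → A' := fun l i =>
    t (Ideal.Quotient.mk K (MvPolynomial.X (Sum.inr (l, i))))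
  have hf' : ∀ i, ψ (f' i) - f i ∈ 𝔪 ^ (N + 1) := by
    intro i
    have := hψt (Ideal.Quotient.mk K (MvPolynomial.X (Sum.inl i)))
    rw [hfC, h𝔪pow] at this
    have h2 : ψ (f' i) - f i = -(f i - ψ (f' i)) := by ring
    rw [h2]
    exact neg_mem this
  have hρ' : ∀ l i, ψ (ρ' l i) - ρ l i ∈ 𝔪 ^ (N + 1) := by
    intro l i
    have := hψt (Ideal.Quotient.mk K (MvPolynomial.X (Sum.inr (l, i))))
    rw [hfC, h𝔪pow] at this
    have h2 : ψ (ρ' l i) - ρ l i = -(ρ l i - ψ (ρ' l i)) := by ring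
    rw [h2]
    exact neg_mem this
  have hrel' : ∀ l, ∑ i, ψ (ρ' l i) * ψ (f' i) = 0 := by
    intro l
    have h1 : ∑ i, ρ' l i * f' i = t (Ideal.Quotient.mk K (rel l)) := by
      simp only [rel, map_sum, map_mul]
      rfl
    have h2 : Ideal.Quotient.mk K (rel l) = 0 :=
      Ideal.Quotient.eq_zero_iff_mem.mpr (Ideal.subset_span ⟨l, rfl⟩)
    have h3 : ∑ i, ψ (ρ' l i) * ψ (f' i) = ψ (∑ i, ρ' l i * f' i) := by
      simp only [map_sum, map_mul]
    rw [h3, h1, h2, map_zero, map_zero]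
  have hle1 : N₀ ≤ N := (le_max_left _ _).trans (le_max_left _ _)
  have hle2 : N₀' ≤ N := (le_max_right _ _).trans (le_max_left _ _)
  have H := hN₀ (N + 1) (by omega) (fun i => ψ (f' i)) (fun l i => ψ (ρ' l i)) hf' hρ' hrel'
  have H' := hN₀' (N + 1) (by omega) (fun i => ψ (f' i)) hf'
  refine ⟨N, le_max_right _ _, A', iA1, iA2, het, ψ, s, f', ?_, ?_, ?_, ?_, ?_⟩
  · intro x
    obtain ⟨abar, ha⟩ := hbij.2 (Ideal.Quotient.mk _ x)
    obtain ⟨a, rfl⟩ := Ideal.Quotient.mk_surjective abar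
    refine ⟨a, ?_⟩
    have h1 : Ideal.Quotient.mk ((m₁ ^ (N + 1)).map (algebraMap A₁ A')) (algebraMap A₁ A' a) =
        Ideal.Quotient.mk _ x := ha
    have h2 := Ideal.Quotient.eq.mp h1.symm
    exact Ideal.map_mono (Ideal.pow_le_self (Nat.succ_ne_zero N)) h2
  · apply le_antisymm
    · refine sup_le ?_ le_sup_right
      rw [Ideal.span_le]
      rintro _ ⟨i, rfl⟩
      have h1 : ψ (f' i) = f i + (ψ (f' i) - f i) := by ring
      show ψ (f' i) ∈ I ⊔ 𝔪 ^ (N + 1)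
      rw [h1]
      refine Ideal.add_mem _ (Ideal.mem_sup_left ?_) (Ideal.mem_sup_right (hf' i))
      rw [← hfI]
      exact Ideal.subset_span ⟨i, rfl⟩
    · refine sup_le ?_ le_sup_right
      rw [← hfI, Ideal.span_le]
      rintro _ ⟨i, rfl⟩
      have h1 : f i = ψ (f' i) - (ψ (f' i) - f i) := by ring
      show f i ∈ Ideal.span (Set.range fun i => ψ (f' i)) ⊔ 𝔪 ^ (N + 1)
      rw [h1]
      exact Ideal.sub_mem _ (Ideal.mem_sup_left (Ideal.subset_span ⟨i, rfl⟩))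
        (Ideal.mem_sup_right (hf' i))
  · intro n
    refine finrank_le_of_initial_le 𝔪 I _ hfin (fun n g' hg' hg'n => ?_) n
    obtain ⟨g, hg, hgn, hgd⟩ := H n g' hg' hg'n
    exact ⟨g, by rw [← hfI]; exact hg, hgn, hgd⟩
  · intro n g' hg' hg'n
    obtain ⟨g, hg, hgn, hgd⟩ := H n g' hg' hg'n
    exact ⟨g, by rw [← hfI]; exact hg, hgn, hgd⟩
  · intro n g hg hgn
    exact H' n g (by rw [hfI]; exact hg) hgn

end Groth.Agent.Lib.AlgzH5
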