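import Mathlib
import Groth.Prelude.Def_AssocGr

/-!
# Functoriality of the associated graded ring of a filtration (helper5)
`grMap`: the ring map `Gr 𝓕 → Gr 𝓖` induced by a filtered ring map, its kernel and surjectivity in terms
of coefficients; `exists_grEquiv`: two filtered maps out of the same filtered ring which are surjective
on graded pieces and have the same initial ideals have isomorphic associated graded rings (graded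
isomorphism compatible with the structure maps).
-/

set_option autoImplicit false
set_option linter.style.haveILetI false
set_option linter.unusedVariables false
set_option linter.deprecated false
set_option maxHeartbeats 1600000

universe u

open Polynomial

namespace Groth.Agent.Lib.AlgzGrH5

section GrMap

variable {A C : Type u} [CommRing A] [CommRing C] (𝓕 : FiltBl.IdealFiltration A)
  (𝓖 : FiltBl.IdealFiltration C) (h : A →+* C) (hh : ∀ n, 𝓕.F n ≤ (𝓖.F n).comap h)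

/-- the map of Rees algebras induced by a filtered ring map -/
noncomputable def reesMap : ↥𝓕.rees →+* ↥𝓖.rees :=
  ((Polynomial.mapRingHom h).comp (𝓕.rees.val : ↥𝓕.rees →ₐ[A] A[X]).toRingHom).codRestrict 𝓖.rees
    (fun f n => by
      show ((f : A[X]).map h).coeff n ∈ 𝓖.F n
      rw [Polynomial.coeff_map]
      exact hh n (f.2 n))

theorem coe_reesMap (f : 𝓕.rees) :
    ((reesMap 𝓕 𝓖 h hh f : 𝓖.rees) : C[X]) = (f : A[X]).map h := rfl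

/-- the map of associated graded rings induced by a filtered ring map -/
noncomputable def grMap : AssocGr.GrRing 𝓕 →+* AssocGr.GrRing 𝓖 :=
  Ideal.Quotient.lift (AssocGr.succIdeal 𝓕)
    ((AssocGr.mkG 𝓖).toRingHom.comp (reesMap 𝓕 𝓖 h hh)) (by
    intro f hf
    show AssocGr.mkG 𝓖 (reesMap 𝓕 𝓖 h hh f) = 0
    rw [AssocGr.mkG_eq_zero_iff, AssocGr.mem_succIdeal_iff]
    intro n
    rw [coe_reesMap, coeff_map]
    exact hh (n + 1) (hf n))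

theorem grMap_mkG (f : 𝓕.rees) :
    grMap 𝓕 𝓖 h hh (AssocGr.mkG 𝓕 f) = AssocGr.mkG 𝓖 (reesMap 𝓕 𝓖 h hh f) := rfl

theorem grMap_mkG_eq_zero_iff (f : 𝓕.rees) :
    grMap 𝓕 𝓖 h hh (AssocGr.mkG 𝓕 f) = 0 ↔ ∀ n, h ((f : A[X]).coeff n) ∈ 𝓖.F (n + 1) := by
  rw [grMap_mkG, AssocGr.mkG_eq_zero_iff, AssocGr.mem_succIdeal_iff]
  simp only [coe_reesMap, coeff_map]


/-- surjectivity of the graded map from surjectivity on the graded pieces -/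
theorem grMap_surjective
    (hs : ∀ n, ∀ y ∈ 𝓖.F n, ∃ x ∈ 𝓕.F n, y - h x ∈ 𝓖.F (n + 1)) :
    Function.Surjective (grMap 𝓕 𝓖 h hh) := by
  classical
  intro z
  obtain ⟨g, rfl⟩ := AssocGr.mkG_surjective 𝓖 z
  have hs' : ∀ n, ∃ x ∈ 𝓕.F n, (g : C[X]).coeff n - h x ∈ 𝓖.F (n + 1) := fun n =>
    hs n _ (g.2 n)
  choose x hx hxg using hs'
  have hmem : (∑ n ∈ (g : C[X]).support, monomial n (x n)) ∈ 𝓕.rees := by
    intro m
    rw [finset_sum_coeff]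
    refine Ideal.sum_mem _ fun n _ => ?_
    rw [coeff_monomial]
    split_ifs with hnm
    · subst hnm
      exact hx n
    · exact Ideal.zero_mem _
  refine ⟨AssocGr.mkG 𝓕 ⟨_, hmem⟩, ?_⟩
  rw [grMap_mkG, ← sub_eq_zero, ← map_sub, AssocGr.mkG_eq_zero_iff, AssocGr.mem_succIdeal_iff]
  intro m
  rw [Subalgebra.coe_sub, coeff_sub, coe_reesMap, coeff_map]
  show h ((∑ n ∈ (g : C[X]).support, monomial n (x n)).coeff m) - (g : C[X]).coeff m ∈ _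
  rw [finset_sum_coeff]
  by_cases hm : m ∈ (g : C[X]).support
  · rw [Finset.sum_eq_single m]
    · rw [coeff_monomial, if_pos rfl]
      have := hxg m
      have e : h (x m) - (g : C[X]).coeff m = -((g : C[X]).coeff m - h (x m)) := by ring
      rw [e]
      exact neg_mem this
    · intro n _ hnm
      rw [coeff_monomial, if_neg hnm]
    · intro hm'
      exact absurd hm hm'
  · rw [Finset.sum_eq_zero, map_zero, notMem_support_iff.mp hm, sub_zero]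
    · exact Ideal.zero_mem _
    · intro n hn
      rw [coeff_monomial, if_neg]
      rintro rfl
      exact hm hn


/-- compatibility with the structure maps -/
theorem grMap_algebraMap (a : A) :
    grMap 𝓕 𝓖 h hh (algebraMap A (AssocGr.GrRing 𝓕) a) =
      algebraMap C (AssocGr.GrRing 𝓖) (h a) := by
  rw [← (AssocGr.mkG 𝓕).commutes a, ← (AssocGr.mkG 𝓖).commutes (h a), grMap_mkG]
  congr 1
  apply Subtype.ext
  rw [coe_reesMap]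
  show (algebraMap A A[X] a).map h = algebraMap C C[X] (h a)
  rw [Polynomial.algebraMap_apply, Polynomial.algebraMap_apply, Algebra.algebraMap_self_apply,
    Algebra.algebraMap_self_apply, Polynomial.map_C]

/-- the image of a monomial class -/
theorem grMap_monom (n : ℕ) (a : 𝓕.F n) :
    grMap 𝓕 𝓖 h hh (AssocGr.mkG 𝓕 (AssocGr.monom 𝓕 n a : 𝓕.rees)) =
      AssocGr.mkG 𝓖 (AssocGr.monom 𝓖 n ⟨h a, hh n a.2⟩ : 𝓖.rees) := by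
  rw [grMap_mkG]
  congr 1
  apply Subtype.ext
  rw [coe_reesMap, AssocGr.coe_coe_monom, AssocGr.coe_coe_monom, Polynomial.map_monomial]

/-- every homogeneous element of degree `n` is the image of a monomial class, if the graded pieces
are hit -/
theorem exists_monom_of_mem_gr
    (hs : ∀ n, ∀ y ∈ 𝓖.F n, ∃ x ∈ 𝓕.F n, y - h x ∈ 𝓖.F (n + 1)) (n : ℕ)
    (x : AssocGr.GrRing 𝓖) (hx : x ∈ AssocGr.gr 𝓖 n) :
    ∃ a : 𝓕.F n, grMap 𝓕 𝓖 h hh (AssocGr.mkG 𝓕 (AssocGr.monom 𝓕 n a : 𝓕.rees)) = x := by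
  obtain ⟨f, hf, rfl⟩ := (AssocGr.mem_gr_iff 𝓖 n x).mp hx
  rw [Rees.mem_deg_iff] at hf
  obtain ⟨a, ha, hac⟩ := hs n _ (f.2 n)
  refine ⟨⟨a, ha⟩, ?_⟩
  rw [grMap_monom, ← sub_eq_zero, ← map_sub, AssocGr.mkG_eq_zero_iff, AssocGr.mem_succIdeal_iff]
  intro m
  rw [Subalgebra.coe_sub, coeff_sub, AssocGr.coe_coe_monom, coeff_monomial]
  by_cases hm : n = m
  · subst hm
    rw [if_pos rfl]
    have e : h a - (f : C[X]).coeff n = -((f : C[X]).coeff n - h a) := by ring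
    show h a - (f : C[X]).coeff n ∈ _
    rw [e]
    exact neg_mem hac
  · rw [if_neg hm, hf m (Ne.symm hm), sub_zero]
    exact Ideal.zero_mem _

end GrMap

section GrEquiv

variable {A C₁ C₂ : Type u} [CommRing A] [CommRing C₁] [CommRing C₂]
  (𝓕 : FiltBl.IdealFiltration A) (𝓖₁ : FiltBl.IdealFiltration C₁)
  (𝓖₂ : FiltBl.IdealFiltration C₂) (h₁ : A →+* C₁) (h₂ : A →+* C₂)
  (hh₁ : ∀ n, 𝓕.F n ≤ (𝓖₁.F n).comap h₁) (hh₂ : ∀ n, 𝓕.F n ≤ (𝓖₂.F n).comap h₂)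

/-- two filtered quotients with the same initial ideals have isomorphic associated graded rings -/
theorem exists_grEquiv
    (hs₁ : ∀ n, ∀ y ∈ 𝓖₁.F n, ∃ x ∈ 𝓕.F n, y - h₁ x ∈ 𝓖₁.F (n + 1))
    (hs₂ : ∀ n, ∀ y ∈ 𝓖₂.F n, ∃ x ∈ 𝓕.F n, y - h₂ x ∈ 𝓖₂.F (n + 1))
    (hker : ∀ n, ∀ x ∈ 𝓕.F n, h₁ x ∈ 𝓖₁.F (n + 1) ↔ h₂ x ∈ 𝓖₂.F (n + 1)) :
    ∃ e : AssocGr.GrRing 𝓖₁ ≃+* AssocGr.GrRing 𝓖₂,
      (∀ z, e (grMap 𝓕 𝓖₁ h₁ hh₁ z) = grMap 𝓕 𝓖₂ h₂ hh₂ z) ∧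
      (∀ (n : ℕ) (x : AssocGr.GrRing 𝓖₁), x ∈ AssocGr.gr 𝓖₁ n → e x ∈ AssocGr.gr 𝓖₂ n) ∧
      (∀ a : A, e (algebraMap C₁ _ (h₁ a)) = algebraMap C₂ _ (h₂ a)) := by
  classical
  have hsurj₁ := grMap_surjective 𝓕 𝓖₁ h₁ hh₁ hs₁
  have hsurj₂ := grMap_surjective 𝓕 𝓖₂ h₂ hh₂ hs₂
  have hk : ∀ z, grMap 𝓕 𝓖₁ h₁ hh₁ z = 0 ↔ grMap 𝓕 𝓖₂ h₂ hh₂ z = 0 := by
    intro z
    obtain ⟨f, rfl⟩ := AssocGr.mkG_surjective 𝓕 z
    rw [grMap_mkG_eq_zero_iff, grMap_mkG_eq_zero_iff]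
    exact forall_congr' fun n => hker n _ (f.2 n)
  have hk₁ : RingHom.ker (grMap 𝓕 𝓖₁ h₁ hh₁) ≤ RingHom.ker (grMap 𝓕 𝓖₂ h₂ hh₂) :=
    fun z hz => (hk z).mp hz
  have hk₂ : RingHom.ker (grMap 𝓕 𝓖₂ h₂ hh₂) ≤ RingHom.ker (grMap 𝓕 𝓖₁ h₁ hh₁) :=
    fun z hz => (hk z).mpr hz
  let e₁ : AssocGr.GrRing 𝓖₁ →+* AssocGr.GrRing 𝓖₂ :=
    RingHom.liftOfSurjective (grMap 𝓕 𝓖₁ h₁ hh₁) hsurj₁ ⟨grMap 𝓕 𝓖₂ h₂ hh₂, hk₁⟩
  let e₂ : AssocGr.GrRing 𝓖₂ →+* AssocGr.GrRing 𝓖₁ :=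
    RingHom.liftOfSurjective (grMap 𝓕 𝓖₂ h₂ hh₂) hsurj₂ ⟨grMap 𝓕 𝓖₁ h₁ hh₁, hk₂⟩
  have he₁ : ∀ z, e₁ (grMap 𝓕 𝓖₁ h₁ hh₁ z) = grMap 𝓕 𝓖₂ h₂ hh₂ z := fun z =>
    RingHom.liftOfRightInverse_comp_apply _ _ _ ⟨grMap 𝓕 𝓖₂ h₂ hh₂, hk₁⟩ z
  have he₂ : ∀ z, e₂ (grMap 𝓕 𝓖₂ h₂ hh₂ z) = grMap 𝓕 𝓖₁ h₁ hh₁ z := fun z =>
    RingHom.liftOfRightInverse_comp_apply _ _ _ ⟨grMap 𝓕 𝓖₁ h₁ hh₁, hk₂⟩ z
  refine ⟨RingEquiv.ofRingHom e₁ e₂ ?_ ?_, he₁, ?_, ?_⟩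
  rotate_left 2
  · intro n x hx
    obtain ⟨a, rfl⟩ := exists_monom_of_mem_gr 𝓕 𝓖₁ h₁ hh₁ hs₁ n x hx
    show e₁ _ ∈ _
    rw [he₁, grMap_monom]
    exact AssocGr.mkG_mem_gr 𝓖₂ (AssocGr.monom 𝓖₂ n _).2
  · intro a
    show e₁ _ = _
    rw [← grMap_algebraMap 𝓕 𝓖₁ h₁ hh₁, he₁, grMap_algebraMap]
  · ext y
    obtain ⟨z, rfl⟩ := hsurj₂ y
    show e₁ (e₂ _) = _
    rw [he₂, he₁]
    rfl
  · ext y
    obtain ⟨z, rfl⟩ := hsurj₁ y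
    show e₂ (e₁ _) = _
    rw [he₁, he₂]
    rfl

end GrEquiv

end Groth.Agent.Lib.AlgzGrH5
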