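import Mathlib
import Groth.Agent.Lib.Algz6_helper5
import Groth.Agent.Lib.Algz7_helper5
import Groth.Agent.Lib.Algz8_helper5

/-!
# Approximation of formal deformations with isomorphic graded rings, part 9 (helper5)
`ker_trunc`, `gr_equiv_of_nbhd` (the associated graded rings of `R = B/I` and of the algebraic
quotient `A'/J` agree when `I` and `J B` have the same initial ideals), `approx_of_nbhd`,
`approx_graded` (form of S17371).
-/

set_option autoImplicit false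
set_option linter.style.haveILetI false
set_option linter.unusedVariables false
set_option linter.deprecated false
set_option maxHeartbeats 1600000

universe u

open IsLocalRing CategoryTheory Limits

namespace Groth.Agent.Lib.AlgzH5

/-- a surjection `R → A/m^n` of the expected dimension has kernel `m_R^n` -/
theorem ker_trunc (k : Type u) [Field k] (R : Type u) [CommRing R] [Algebra k R]
    [IsLocalRing R] [IsNoetherianRing R]
    (hres : ∀ r : R, ∃ c : k, r - algebraMap k R c ∈ maximalIdeal R)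
    (A : Type u) [CommRing A] [Algebra k A] (m : Ideal A) [hmax : m.IsMaximal]
    (hfin : ∀ n, Module.Finite k (A ⧸ m ^ n)) (n : ℕ)
    (φ : R →ₐ[k] A ⧸ m ^ n) (hsurj : Function.Surjective φ)
    (hdim : Module.finrank k (R ⧸ maximalIdeal R ^ n) ≤ Module.finrank k (A ⧸ m ^ n)) :
    (∀ x ∈ maximalIdeal R ^ n, φ x = 0) ∧ ∀ r, φ r = 0 → r ∈ maximalIdeal R ^ n := by
  classical
  have hkill : ∀ x ∈ maximalIdeal R ^ n, φ x = 0 := by
    intro x hx
    by_cases hn : n = 0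
    · subst hn
      haveI : Subsingleton (A ⧸ m ^ 0) := by
        rw [pow_zero, Ideal.one_eq_top]
        exact Ideal.Quotient.subsingleton_iff.mpr rfl
      exact Subsingleton.elim _ _
    · have hle : m ^ n ≤ m := Ideal.pow_le_self hn
      let ρ : R →+* A ⧸ m := (Ideal.Quotient.factor hle).comp φ.toRingHom
      have hρs : Function.Surjective ρ :=
        (Ideal.Quotient.factor_surjective hle).comp hsurj
      haveI : (RingHom.ker ρ).IsMaximal := by
        letI := Ideal.Quotient.field m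
        exact RingHom.ker_isMaximal_of_surjective ρ hρs
      have hker : RingHom.ker ρ = maximalIdeal R := IsLocalRing.eq_maximalIdeal inferInstance
      have hloc : ∀ y ∈ maximalIdeal R, φ y ∈ m.map (Ideal.Quotient.mk (m ^ n)) := by
        intro y hy
        have h1 : ρ y = 0 := by
          rw [← RingHom.mem_ker, hker]
          exact hy
        obtain ⟨a, ha⟩ := Ideal.Quotient.mk_surjective (φ y)
        have h2 : Ideal.Quotient.factor hle (φ y) = 0 := h1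
        rw [← ha, Ideal.Quotient.factor_mk, Ideal.Quotient.eq_zero_iff_mem] at h2
        rw [← ha]
        exact Ideal.mem_map_of_mem _ h2
      have h1 : (maximalIdeal R).map φ.toRingHom ≤ m.map (Ideal.Quotient.mk (m ^ n)) := by
        rw [Ideal.map_le_iff_le_comap]
        intro y hy
        exact hloc y hy
      have h2 : φ x ∈ (m.map (Ideal.Quotient.mk (m ^ n))) ^ n := by
        have h3 : φ x ∈ (maximalIdeal R ^ n).map φ.toRingHom :=
          Ideal.mem_map_of_mem φ.toRingHom hx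
        rw [Ideal.map_pow] at h3
        exact Ideal.pow_right_mono h1 n h3
      rw [← Ideal.map_pow, Ideal.map_quotient_self] at h2
      exact h2
  refine ⟨hkill, fun r hr => ?_⟩
  haveI := hfin n
  haveI : Module.Finite k (R ⧸ maximalIdeal R ^ n) := finite_quot_pow (maximalIdeal R) hres n
  let φbar : (R ⧸ maximalIdeal R ^ n) →ₐ[k] A ⧸ m ^ n :=
    Ideal.Quotient.liftₐ (maximalIdeal R ^ n) φ hkill
  have hφbar : ∀ r, φbar (Ideal.Quotient.mk _ r) = φ r := fun r => rfl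
  have hs : Function.Surjective φbar.toLinearMap := by
    intro y
    obtain ⟨r, rfl⟩ := hsurj y
    exact ⟨Ideal.Quotient.mk _ r, hφbar r⟩
  have heq : Module.finrank k (R ⧸ maximalIdeal R ^ n) = Module.finrank k (A ⧸ m ^ n) :=
    le_antisymm hdim (LinearMap.finrank_le_finrank_of_surjective hs)
  have hinj : Function.Injective φbar.toLinearMap :=
    (LinearMap.injective_iff_surjective_of_finrank_eq_finrank heq).mpr hs
  have h0 : φbar.toLinearMap (Ideal.Quotient.mk _ r) = φbar.toLinearMap 0 := by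
    rw [map_zero]
    exact hr
  exact Ideal.Quotient.eq_zero_iff_mem.mp (hinj h0)


/-- **Equal initial ideals give isomorphic associated graded rings.** -/
theorem gr_equiv_of_nbhd (k : Type u) [Field k]
    (R : Type u) [CommRing R] [Algebra k R] [IsLocalRing R]
    (A₁ : Type u) [CommRing A₁] [Algebra k A₁] [IsNoetherianRing A₁]
    (g₁ : A₁ →ₐ[k] R) (m₁ : Ideal A₁)
    (hg₁ : m₁ ≤ (maximalIdeal R).comap g₁)
    (hgen : maximalIdeal R ≤ m₁.map (g₁ : A₁ →+* R))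
    (ĝ : AdicCompletion m₁ A₁ →+* R) (hĝ : ∀ a, ĝ (algebraMap A₁ _ a) = g₁ a)
    (hĝs : Function.Surjective ĝ)
    (A' : Type u) [CommRing A'] [Algebra A₁ A'] [Algebra k A'] [IsScalarTower k A₁ A']
    (ψ : A' →ₐ[A₁] AdicCompletion m₁ A₁) (J : Ideal A')
    (hs : ∀ x : A', ∃ a : A₁, x - algebraMap A₁ A' a ∈ m₁.map (algebraMap A₁ A'))
    (Hle : ∀ (n : ℕ) (g' : AdicCompletion m₁ A₁), g' ∈ J.map ψ.toRingHom →
        g' ∈ (m₁.map (algebraMap A₁ (AdicCompletion m₁ A₁))) ^ n →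
        ∃ g ∈ RingHom.ker ĝ, g ∈ (m₁.map (algebraMap A₁ (AdicCompletion m₁ A₁))) ^ n ∧
          g' - g ∈ (m₁.map (algebraMap A₁ (AdicCompletion m₁ A₁))) ^ (n + 1))
    (Hge : ∀ (n : ℕ) (g : AdicCompletion m₁ A₁), g ∈ RingHom.ker ĝ →
        g ∈ (m₁.map (algebraMap A₁ (AdicCompletion m₁ A₁))) ^ n →
        ∃ g' ∈ J.map ψ.toRingHom, g' ∈ (m₁.map (algebraMap A₁ (AdicCompletion m₁ A₁))) ^ n ∧
          g - g' ∈ (m₁.map (algebraMap A₁ (AdicCompletion m₁ A₁))) ^ (n + 1)) :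
    ∃ e : AssocGr.GrRing (FiltBl.IdealFiltration.adic (maximalIdeal R)) ≃+*
        AssocGr.GrRing (FiltBl.IdealFiltration.adic (m₁.map (algebraMap A₁ (A' ⧸ J)))),
      (∀ (n : ℕ) (x : AssocGr.GrRing (FiltBl.IdealFiltration.adic (maximalIdeal R))),
          x ∈ AssocGr.gr (FiltBl.IdealFiltration.adic (maximalIdeal R)) n →
            e x ∈ AssocGr.gr (FiltBl.IdealFiltration.adic (m₁.map (algebraMap A₁ (A' ⧸ J)))) n) ∧
      (∀ c : k, e (algebraMap R _ (algebraMap k R c)) =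
          algebraMap (A' ⧸ J) _ (algebraMap k (A' ⧸ J) c)) := by
  classical
  have hs0 := hs
  obtain ⟨𝔪, h𝔪⟩ : ∃ 𝔪 : Ideal (AdicCompletion m₁ A₁),
      𝔪 = m₁.map (algebraMap A₁ (AdicCompletion m₁ A₁)) := ⟨_, rfl⟩
  rw [← h𝔪] at Hle Hge
  obtain ⟨m', hm'⟩ : ∃ m' : Ideal A', m' = m₁.map (algebraMap A₁ A') := ⟨_, rfl⟩
  obtain ⟨m, hm⟩ : ∃ m : Ideal (A' ⧸ J), m = m₁.map (algebraMap A₁ (A' ⧸ J)) := ⟨_, rfl⟩
  rw [← hm]
  have hmm' : m = m'.map (Ideal.Quotient.mk J) := by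
    rw [hm, hm', Ideal.map_map]
    rfl
  have hψpow : ∀ n, (m' ^ n).map ψ.toRingHom = 𝔪 ^ n := by
    intro n
    rw [hm', h𝔪]
    exact map_psi_pow m₁ ψ n
  have hĝ𝔪 : 𝔪.map ĝ = maximalIdeal R := by
    rw [h𝔪, Ideal.map_map]
    have : ĝ.comp (algebraMap A₁ (AdicCompletion m₁ A₁)) = (g₁ : A₁ →+* R) := RingHom.ext hĝ
    rw [this]
    exact le_antisymm (Ideal.map_le_iff_le_comap.mpr hg₁) hgen
  have hĝpow : ∀ n, (𝔪 ^ n).map ĝ = maximalIdeal R ^ n := fun n => by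
    rw [Ideal.map_pow, hĝ𝔪]
  let h₁ : A' →+* R := ĝ.comp ψ.toRingHom
  let h₂ : A' →+* A' ⧸ J := Ideal.Quotient.mk J
  have hh₁ : ∀ n, (FiltBl.IdealFiltration.adic m').F n ≤
      ((FiltBl.IdealFiltration.adic (maximalIdeal R)).F n).comap h₁ := by
    intro n x hx
    show ĝ (ψ x) ∈ maximalIdeal R ^ n
    rw [← hĝpow n]
    apply Ideal.mem_map_of_mem
    rw [← hψpow n]
    exact Ideal.mem_map_of_mem ψ.toRingHom hx
  have hh₂ : ∀ n, (FiltBl.IdealFiltration.adic m').F n ≤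
      ((FiltBl.IdealFiltration.adic m).F n).comap h₂ := by
    intro n x hx
    show Ideal.Quotient.mk J x ∈ m ^ n
    rw [hmm', ← Ideal.map_pow]
    exact Ideal.mem_map_of_mem _ hx
  have hs₁ : ∀ n, ∀ y ∈ (FiltBl.IdealFiltration.adic (maximalIdeal R)).F n,
      ∃ x ∈ (FiltBl.IdealFiltration.adic m').F n,
        y - h₁ x ∈ (FiltBl.IdealFiltration.adic (maximalIdeal R)).F (n + 1) := by
    intro n y hy
    change y ∈ maximalIdeal R ^ n at hy
    rw [← hĝpow n] at hy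
    obtain ⟨b, hb, rfl⟩ := (Ideal.mem_map_iff_of_surjective ĝ hĝs).mp hy
    obtain ⟨a, ha⟩ := exists_of_sub_mem m₁ b (n + 1)
    rw [Ideal.map_pow, ← h𝔪] at ha
    have ha2 : algebraMap A₁ (AdicCompletion m₁ A₁) a ∈ 𝔪 ^ n := by
      have : algebraMap A₁ (AdicCompletion m₁ A₁) a = b - (b - algebraMap A₁ _ a) := by ring
      rw [this]
      exact Ideal.sub_mem _ hb (Ideal.pow_le_pow_right (Nat.le_succ n) ha)
    have ha3 : a ∈ m₁ ^ n := mem_pow_of_of_mem m₁ a n (by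
      rw [Ideal.map_pow, ← h𝔪]
      exact ha2)
    refine ⟨algebraMap A₁ A' a, ?_, ?_⟩
    · show algebraMap A₁ A' a ∈ m' ^ n
      rw [hm', ← Ideal.map_pow]
      exact Ideal.mem_map_of_mem _ ha3
    · show ĝ b - ĝ (ψ (algebraMap A₁ A' a)) ∈ maximalIdeal R ^ (n + 1)
      rw [AlgHom.commutes, ← map_sub, ← hĝpow (n + 1)]
      exact Ideal.mem_map_of_mem _ ha
  have hs₂ : ∀ n, ∀ y ∈ (FiltBl.IdealFiltration.adic m).F n,
      ∃ x ∈ (FiltBl.IdealFiltration.adic m').F n,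
        y - h₂ x ∈ (FiltBl.IdealFiltration.adic m).F (n + 1) := by
    intro n y hy
    change y ∈ m ^ n at hy
    rw [hmm', ← Ideal.map_pow] at hy
    obtain ⟨x, hx, rfl⟩ :=
      (Ideal.mem_map_iff_of_surjective _ Ideal.Quotient.mk_surjective).mp hy
    refine ⟨x, hx, ?_⟩
    show Ideal.Quotient.mk J x - Ideal.Quotient.mk J x ∈ _
    rw [sub_self]
    exact Ideal.zero_mem _
  have hker : ∀ n, ∀ x ∈ (FiltBl.IdealFiltration.adic m').F n,
      h₁ x ∈ (FiltBl.IdealFiltration.adic (maximalIdeal R)).F (n + 1) ↔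
        h₂ x ∈ (FiltBl.IdealFiltration.adic m).F (n + 1) := by
    intro n x hx
    change x ∈ m' ^ n at hx
    have hψx : ψ x ∈ 𝔪 ^ n := by
      rw [← hψpow n]
      exact Ideal.mem_map_of_mem ψ.toRingHom hx
    have hL : h₁ x ∈ (FiltBl.IdealFiltration.adic (maximalIdeal R)).F (n + 1) ↔
        ψ x ∈ RingHom.ker ĝ ⊔ 𝔪 ^ (n + 1) := by
      show ĝ (ψ x) ∈ maximalIdeal R ^ (n + 1) ↔ _
      rw [← hĝpow (n + 1)]
      constructor
      · intro h
        obtain ⟨b, hb, hbx⟩ := (Ideal.mem_map_iff_of_surjective ĝ hĝs).mp h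
        have : ψ x = (ψ x - b) + b := by ring
        rw [this]
        refine Ideal.add_mem _ (Ideal.mem_sup_left ?_) (Ideal.mem_sup_right hb)
        rw [RingHom.mem_ker, map_sub, hbx, sub_self]
      · intro h
        obtain ⟨y, hy, z, hz, hyz⟩ := Submodule.mem_sup.mp h
        rw [← hyz, map_add, RingHom.mem_ker.mp hy, zero_add]
        exact Ideal.mem_map_of_mem _ hz
    have hR : h₂ x ∈ (FiltBl.IdealFiltration.adic m).F (n + 1) ↔ x ∈ J ⊔ m' ^ (n + 1) := by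
      show Ideal.Quotient.mk J x ∈ m ^ (n + 1) ↔ _
      rw [hmm', ← Ideal.map_pow, Ideal.mem_quotient_iff_mem_sup, sup_comm]
    rw [hL, hR]
    constructor
    · intro h
      obtain ⟨g, hg, z, hz, hgz⟩ := Submodule.mem_sup.mp h
      have hgn : g ∈ 𝔪 ^ n := by
        have : g = ψ x - z := by
          rw [← hgz]
          ring
        rw [this]
        exact Ideal.sub_mem _ hψx (Ideal.pow_le_pow_right (Nat.le_succ n) hz)
      obtain ⟨g', hg', hg'n, hgg'⟩ := Hge n g hg hgn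
      have h2 : ψ x ∈ J.map ψ.toRingHom ⊔ 𝔪 ^ (n + 1) := by
        have e : ψ x = g' + ((g - g') + z) := by
          rw [← hgz]
          ring
        rw [e]
        exact Ideal.add_mem _ (Ideal.mem_sup_left hg')
          (Ideal.mem_sup_right (Ideal.add_mem _ hgg' hz))
      rw [h𝔪] at h2
      have h3 := mem_sup_of_psi_mem m₁ J ψ hs0 (n + 1) x h2
      rw [← hm'] at h3
      exact h3
    · intro h
      obtain ⟨j, hj, w, hw, hjw⟩ := Submodule.mem_sup.mp h
      have hjn : j ∈ m' ^ n := by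
        have : j = x - w := by
          rw [← hjw]
          ring
        rw [this]
        exact Ideal.sub_mem _ hx (Ideal.pow_le_pow_right (Nat.le_succ n) hw)
      have hψj : ψ j ∈ 𝔪 ^ n := by
        rw [← hψpow n]
        exact Ideal.mem_map_of_mem ψ.toRingHom hjn
      have hψw : ψ w ∈ 𝔪 ^ (n + 1) := by
        rw [← hψpow (n + 1)]
        exact Ideal.mem_map_of_mem ψ.toRingHom hw
      obtain ⟨g, hg, hgn, hgg⟩ := Hle n (ψ j) (Ideal.mem_map_of_mem ψ.toRingHom hj) hψj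
      have e : ψ x = g + ((ψ j - g) + ψ w) := by
        rw [← hjw, map_add]
        ring
      rw [e]
      exact Ideal.add_mem _ (Ideal.mem_sup_left hg)
        (Ideal.mem_sup_right (Ideal.add_mem _ hgg hψw))
  obtain ⟨e, -, hdeg, hcomp⟩ := Groth.Agent.Lib.AlgzGrH5.exists_grEquiv
    (FiltBl.IdealFiltration.adic m') (FiltBl.IdealFiltration.adic (maximalIdeal R))
    (FiltBl.IdealFiltration.adic m) h₁ h₂ hh₁ hh₂ hs₁ hs₂ hker
  refine ⟨e, hdeg, fun c => ?_⟩
  have h4 := hcomp (algebraMap k A' c)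
  have e1 : h₁ (algebraMap k A' c) = algebraMap k R c := by
    show ĝ (ψ (algebraMap k A' c)) = _
    rw [IsScalarTower.algebraMap_apply k A₁ A', AlgHom.commutes, hĝ, AlgHom.commutes]
  have e2 : h₂ (algebraMap k A' c) = algebraMap k (A' ⧸ J) c := rfl
  rw [e1, e2] at h4
  exact h4


/-- **From an étale neighbourhood with approximating generators (equal initial ideals) to an
approximation with isomorphic graded rings.** -/
theorem approx_of_nbhd (k : Type u) [Field k] (F : CommAlgCat.{u} k ⥤ Type u)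
    (R : Type u) [CommRing R] [Algebra k R] [IsLocalRing R] [IsNoetherianRing R]
    (hres : ∀ r : R, ∃ c : k, r - algebraMap k R c ∈ maximalIdeal R)
    (ξ : F.obj (CommAlgCat.of k R))
    (A₁ : Type u) [CommRing A₁] [Algebra k A₁] [Algebra.FiniteType k A₁] [IsNoetherianRing A₁]
    (g₁ : A₁ →ₐ[k] R) (ξ₁ : F.obj (CommAlgCat.of k A₁))
    (hξ₁ : F.map (CommAlgCat.ofHom g₁) ξ₁ = ξ)
    (m₁ : Ideal A₁) (hm₁ : ∀ a : A₁, ∃ c : k, a - algebraMap k A₁ c ∈ m₁)
    (hg₁ : m₁ ≤ (maximalIdeal R).comap g₁)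
    (hgen : maximalIdeal R ≤ m₁.map (g₁ : A₁ →+* R))
    (ĝ : AdicCompletion m₁ A₁ →+* R) (hĝ : ∀ a, ĝ (algebraMap A₁ _ a) = g₁ a)
    (hĝs : Function.Surjective ĝ) (N₀ N : ℕ) (hN : N₀ ≤ N)
    (A' : Type u) [CommRing A'] [Algebra A₁ A'] [Algebra k A'] [IsScalarTower k A₁ A']
    [Algebra.Etale A₁ A'] (ψ : A' →ₐ[A₁] AdicCompletion m₁ A₁) (s : ℕ) (f' : Fin s → A')
    (hs : ∀ x : A', ∃ a : A₁, x - algebraMap A₁ A' a ∈ m₁.map (algebraMap A₁ A'))
    (hsup : Ideal.span (Set.range (fun i => ψ (f' i))) ⊔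
          (m₁.map (algebraMap A₁ (AdicCompletion m₁ A₁))) ^ (N + 1) =
        RingHom.ker ĝ ⊔ (m₁.map (algebraMap A₁ (AdicCompletion m₁ A₁))) ^ (N + 1))
    (hdimB : ∀ n, Module.finrank k ((AdicCompletion m₁ A₁) ⧸
          (RingHom.ker ĝ ⊔ (m₁.map (algebraMap A₁ (AdicCompletion m₁ A₁))) ^ n)) ≤
        Module.finrank k ((AdicCompletion m₁ A₁) ⧸
          (Ideal.span (Set.range (fun i => ψ (f' i))) ⊔
            (m₁.map (algebraMap A₁ (AdicCompletion m₁ A₁))) ^ n)))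
    (Hle : ∀ (n : ℕ) (g' : AdicCompletion m₁ A₁),
        g' ∈ Ideal.span (Set.range (fun i => ψ (f' i))) →
        g' ∈ (m₁.map (algebraMap A₁ (AdicCompletion m₁ A₁))) ^ n →
        ∃ g ∈ RingHom.ker ĝ, g ∈ (m₁.map (algebraMap A₁ (AdicCompletion m₁ A₁))) ^ n ∧
          g' - g ∈ (m₁.map (algebraMap A₁ (AdicCompletion m₁ A₁))) ^ (n + 1))
    (Hge : ∀ (n : ℕ) (g : AdicCompletion m₁ A₁), g ∈ RingHom.ker ĝ →
        g ∈ (m₁.map (algebraMap A₁ (AdicCompletion m₁ A₁))) ^ n →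
        ∃ g' ∈ Ideal.span (Set.range (fun i => ψ (f' i))),
          g' ∈ (m₁.map (algebraMap A₁ (AdicCompletion m₁ A₁))) ^ n ∧
          g - g' ∈ (m₁.map (algebraMap A₁ (AdicCompletion m₁ A₁))) ^ (n + 1)) :
    ∃ (A : Type u) (_ : CommRing A) (_ : Algebra k A) (_ : Algebra.FiniteType k A)
      (m : Ideal A) (_ : m.IsMaximal)
      (_ : Function.Surjective (fun c : k => Ideal.Quotient.mk m (algebraMap k A c)))
      (η : F.obj (CommAlgCat.of k A))
      (φ : (R ⧸ maximalIdeal R ^ (N₀ + 1)) ≃ₐ[k] (A ⧸ m ^ (N₀ + 1))),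
      F.map (CommAlgCat.ofHom (φ.toAlgHom.comp
          (Ideal.Quotient.mkₐ k (maximalIdeal R ^ (N₀ + 1))))) ξ =
        F.map (CommAlgCat.ofHom (Ideal.Quotient.mkₐ k (m ^ (N₀ + 1)))) η ∧
      ∃ e : AssocGr.GrRing (FiltBl.IdealFiltration.adic (maximalIdeal R)) ≃+*
          AssocGr.GrRing (FiltBl.IdealFiltration.adic m),
        (∀ (n : ℕ) (x : AssocGr.GrRing (FiltBl.IdealFiltration.adic (maximalIdeal R))),
            x ∈ AssocGr.gr (FiltBl.IdealFiltration.adic (maximalIdeal R)) n →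
              e x ∈ AssocGr.gr (FiltBl.IdealFiltration.adic m) n) ∧
        (∀ c : k, e (algebraMap R _ (algebraMap k R c)) = algebraMap A _ (algebraMap k A c)) := by
  classical
  haveI tw : IsScalarTower k A₁ (AdicCompletion m₁ A₁) :=
    IsScalarTower.of_algebraMap_eq (fun _ => rfl)
  obtain ⟨J, hJ⟩ : ∃ J : Ideal A', J = Ideal.span (Set.range f') := ⟨_, rfl⟩
  have hJψ : J.map ψ.toRingHom = Ideal.span (Set.range (fun i => ψ (f' i))) := by
    rw [hJ, Ideal.map_span]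
    congr 1
    ext y
    constructor
    · rintro ⟨_, ⟨i, rfl⟩, rfl⟩
      exact ⟨i, rfl⟩
    · rintro ⟨i, rfl⟩
      exact ⟨f' i, ⟨i, rfl⟩, rfl⟩
  rw [← hJψ] at hsup hdimB Hle Hge
  haveI : Algebra.FiniteType A₁ A' := inferInstance
  haveI : Algebra.FiniteType k A' := Algebra.FiniteType.trans (inferInstance :
    Algebra.FiniteType k A₁) inferInstance
  haveI : Algebra.FiniteType k (A' ⧸ J) :=
    Algebra.FiniteType.of_surjective (Ideal.Quotient.mkₐ k J) (Ideal.Quotient.mkₐ_surjective k J)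
  haveI : IsNoetherianRing (A' ⧸ J) := Algebra.FiniteType.isNoetherianRing k _
  -- the graded isomorphism
  obtain ⟨e, hedeg, hek⟩ := gr_equiv_of_nbhd k R A₁ g₁ m₁ hg₁ hgen ĝ hĝ hĝs A' ψ J hs Hle Hge
  obtain ⟨m, hm⟩ : ∃ m : Ideal (A' ⧸ J), m = m₁.map (algebraMap A₁ (A' ⧸ J)) := ⟨_, rfl⟩
  have hmA : ∀ x : A' ⧸ J, ∃ c : k, x - algebraMap k (A' ⧸ J) c ∈ m := by
    rw [hm]
    exact exists_scalar_quot m₁ J hs hm₁
  have hfin : ∀ n, Module.Finite k ((A' ⧸ J) ⧸ m ^ n) := finite_quot_pow m hmA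
  -- dimensions
  have hdim : ∀ n, Module.finrank k (R ⧸ maximalIdeal R ^ n) ≤
      Module.finrank k ((A' ⧸ J) ⧸ m ^ n) := by
    intro n
    have h1 := finrank_le_ker m₁ (maximalIdeal R) g₁ hg₁ ĝ hĝ hĝs n
      (finite_quot_completion k A₁ m₁ hm₁ _ n)
    have h2 := finrank_le_quot (k := k) m₁ J ψ n (by rw [← hm]; exact hfin n)
    rw [← hm] at h2
    exact h1.trans ((hdimB n).trans h2)
  -- the truncation map
  obtain ⟨χ, hχs, hχof, hχψ, hχ0⟩ : ∃ χ : AdicCompletion m₁ A₁ →+* (A' ⧸ J) ⧸ m ^ (N + 1),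
      Function.Surjective χ ∧
      (∀ a : A₁, χ (algebraMap A₁ _ a) = Ideal.Quotient.mk _ (algebraMap A₁ (A' ⧸ J) a)) ∧
      (∀ x : A', χ (ψ x) = Ideal.Quotient.mk _ (Ideal.Quotient.mk J x)) ∧
      (∀ b ∈ (m₁.map (algebraMap A₁ (AdicCompletion m₁ A₁))) ^ (N + 1), χ b = 0) := by
    rw [hm]
    exact exists_chi m₁ J ψ hs (N + 1)
  have hχker : ∀ b, ĝ b = 0 → χ b = 0 := by
    intro b hb
    have h1 : b ∈ J.map ψ.toRingHom ⊔
        (m₁.map (algebraMap A₁ (AdicCompletion m₁ A₁))) ^ (N + 1) := by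
      rw [hsup]
      exact Ideal.mem_sup_left hb
    have hle : J.map ψ.toRingHom ⊔
        (m₁.map (algebraMap A₁ (AdicCompletion m₁ A₁))) ^ (N + 1) ≤ RingHom.ker χ := by
      refine sup_le ?_ (fun b hb => hχ0 b hb)
      rw [Ideal.map_le_iff_le_comap]
      intro x hx
      rw [Ideal.mem_comap, RingHom.mem_ker]
      show χ (ψ x) = 0
      rw [hχψ, Ideal.Quotient.eq_zero_iff_mem.mpr hx, map_zero]
    exact hle h1
  -- k-algebra versions
  let ĝk : AdicCompletion m₁ A₁ →ₐ[k] R :=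
    { ĝ with
      commutes' := fun c => by
        show ĝ (algebraMap k (AdicCompletion m₁ A₁) c) = _
        rw [IsScalarTower.algebraMap_apply k A₁ (AdicCompletion m₁ A₁), hĝ, AlgHom.commutes] }
  let χk : AdicCompletion m₁ A₁ →ₐ[k] (A' ⧸ J) ⧸ m ^ (N + 1) :=
    { χ with
      commutes' := fun c => by
        show χ (algebraMap k (AdicCompletion m₁ A₁) c) = _
        rw [IsScalarTower.algebraMap_apply k A₁ (AdicCompletion m₁ A₁), hχof,
          ← IsScalarTower.algebraMap_apply k A₁ (A' ⧸ J)]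
        rfl }
  have hker : RingHom.ker ĝk.toRingHom ≤ RingHom.ker χk.toRingHom := by
    intro b hb
    rw [RingHom.mem_ker] at hb ⊢
    exact hχker b hb
  let φ₀ : R →ₐ[k] (A' ⧸ J) ⧸ m ^ (N + 1) := AlgHom.liftOfSurjective ĝk hĝs χk hker
  have hφ₀ĝ : ∀ b, φ₀ (ĝ b) = χ b := fun b => AlgHom.liftOfSurjective_apply ĝk hĝs χk hker b
  have hφ₀s : Function.Surjective φ₀ :=
    AlgHom.liftOfSurjective_surjective ĝk hĝs χk hker hχs
  let ιA : A₁ →ₐ[k] A' ⧸ J := IsScalarTower.toAlgHom k A₁ (A' ⧸ J)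
  have hφ₀g : φ₀.comp g₁ = (Ideal.Quotient.mkₐ k (m ^ (N + 1))).comp ιA := by
    ext a
    show φ₀ (g₁ a) = Ideal.Quotient.mk _ (algebraMap A₁ (A' ⧸ J) a)
    rw [← hĝ a, hφ₀ĝ, hχof]
  have hFφ₀ : F.map (CommAlgCat.ofHom φ₀) ξ =
      F.map (CommAlgCat.ofHom (Ideal.Quotient.mkₐ k (m ^ (N + 1))))
        (F.map (CommAlgCat.ofHom ιA) ξ₁) := by
    rw [← hξ₁, ← map_comp_ofHom, ← map_comp_ofHom, hφ₀g]
  -- m is proper, hence maximal
  have h1 : (1 : A' ⧸ J) ∉ m := by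
    intro h
    have htop : m ^ 1 = ⊤ := by rw [pow_one]; exact (Ideal.eq_top_iff_one m).mpr h
    haveI : Subsingleton ((A' ⧸ J) ⧸ m ^ 1) := by
      rw [htop]
      exact Ideal.Quotient.subsingleton_iff.mpr rfl
    have h0 : Module.finrank k ((A' ⧸ J) ⧸ m ^ 1) = 0 := Module.finrank_zero_of_subsingleton
    haveI : Module.Finite k (R ⧸ maximalIdeal R ^ 1) := finite_quot_pow (maximalIdeal R) hres 1
    haveI : Nontrivial (R ⧸ maximalIdeal R ^ 1) := by
      apply Ideal.Quotient.nontrivial_iff.mpr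
      rw [pow_one]
      exact (IsLocalRing.maximalIdeal.isMaximal R).ne_top
    have hpos : 0 < Module.finrank k (R ⧸ maximalIdeal R ^ 1) := Module.finrank_pos
    have := hdim 1
    omega
  haveI hmax : m.IsMaximal := isMaximal_of_scalars m hmA h1
  -- the truncated isomorphism
  have hple : m ^ (N + 1) ≤ m ^ (N₀ + 1) := Ideal.pow_le_pow_right (by omega)
  let φ₁ : R →ₐ[k] (A' ⧸ J) ⧸ m ^ (N₀ + 1) := (Ideal.Quotient.factorₐ k hple).comp φ₀
  have hφ₁s : Function.Surjective φ₁ :=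
    (Ideal.Quotient.factor_surjective hple).comp hφ₀s
  obtain ⟨hkill, hkerφ⟩ := ker_trunc k R hres (A' ⧸ J) m hfin (N₀ + 1) φ₁ hφ₁s (hdim (N₀ + 1))
  let φbar : (R ⧸ maximalIdeal R ^ (N₀ + 1)) →ₐ[k] (A' ⧸ J) ⧸ m ^ (N₀ + 1) :=
    Ideal.Quotient.liftₐ (maximalIdeal R ^ (N₀ + 1)) φ₁ hkill
  have hφbar : ∀ r, φbar (Ideal.Quotient.mk _ r) = φ₁ r := fun r => rfl
  have hbij : Function.Bijective φbar := by
    constructor
    · rw [injective_iff_map_eq_zero]
      intro x hx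
      obtain ⟨r, rfl⟩ := Ideal.Quotient.mk_surjective x
      rw [hφbar] at hx
      exact Ideal.Quotient.eq_zero_iff_mem.mpr (hkerφ r hx)
    · intro y
      obtain ⟨r, rfl⟩ := hφ₁s y
      exact ⟨Ideal.Quotient.mk _ r, hφbar r⟩
  have hφcomp : (AlgEquiv.ofBijective φbar hbij).toAlgHom.comp
      (Ideal.Quotient.mkₐ k (maximalIdeal R ^ (N₀ + 1))) = φ₁ := by
    ext r
    rfl
  have hfac : (Ideal.Quotient.factorₐ k hple).comp (Ideal.Quotient.mkₐ k (m ^ (N + 1))) =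
      Ideal.Quotient.mkₐ k (m ^ (N₀ + 1)) := by
    ext a
    rfl
  refine ⟨A' ⧸ J, inferInstance, inferInstance, inferInstance, m, hmax, ?_,
    F.map (CommAlgCat.ofHom ιA) ξ₁, AlgEquiv.ofBijective φbar hbij, ?_, ?_⟩
  · intro y
    obtain ⟨a, rfl⟩ := Ideal.Quotient.mk_surjective y
    obtain ⟨c, hc⟩ := hmA a
    refine ⟨c, ?_⟩
    show Ideal.Quotient.mk m (algebraMap k (A' ⧸ J) c) = Ideal.Quotient.mk m a
    apply Ideal.Quotient.eq.mpr
    have e : algebraMap k (A' ⧸ J) c - a = -(a - algebraMap k (A' ⧸ J) c) := by ring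
    rw [e]
    exact neg_mem hc
  · rw [hφcomp]
    show F.map (CommAlgCat.ofHom ((Ideal.Quotient.factorₐ k hple).comp φ₀)) ξ = _
    rw [map_comp_ofHom, hFφ₀, ← map_comp_ofHom, hfac]
  · rw [hm]
    exact ⟨e, hedeg, hek⟩


/-- **Approximation of formal deformations with isomorphic graded rings** (form of S17371). -/
theorem approx_graded (k : Type u) [Field k] (F : CommAlgCat.{u} k ⥤ Type u)
    (hF : ∀ (J : Type u) [SmallCategory J] [IsFiltered J], PreservesColimitsOfShape J F)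
    (R : Type u) [CommRing R] [Algebra k R] [IsLocalRing R] [IsNoetherianRing R]
    [IsAdicComplete (maximalIdeal R) R]
    (hres : Function.Surjective (fun c : k => IsLocalRing.residue R (algebraMap k R c)))
    (ξ : F.obj (CommAlgCat.of k R)) (N : ℕ) :
    ∃ (A : Type u) (_ : CommRing A) (_ : Algebra k A) (_ : Algebra.FiniteType k A)
      (m : Ideal A) (_ : m.IsMaximal)
      (_ : Function.Surjective (fun c : k => Ideal.Quotient.mk m (algebraMap k A c)))
      (η : F.obj (CommAlgCat.of k A))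
      (φ : (R ⧸ maximalIdeal R ^ (N + 1)) ≃ₐ[k] (A ⧸ m ^ (N + 1))),
      F.map (CommAlgCat.ofHom (φ.toAlgHom.comp
          (Ideal.Quotient.mkₐ k (maximalIdeal R ^ (N + 1))))) ξ =
        F.map (CommAlgCat.ofHom (Ideal.Quotient.mkₐ k (m ^ (N + 1)))) η ∧
      ∃ e : AssocGr.GrRing (FiltBl.IdealFiltration.adic (maximalIdeal R)) ≃+*
          AssocGr.GrRing (FiltBl.IdealFiltration.adic m),
        (∀ (n : ℕ) (x : AssocGr.GrRing (FiltBl.IdealFiltration.adic (maximalIdeal R))),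
            x ∈ AssocGr.gr (FiltBl.IdealFiltration.adic (maximalIdeal R)) n →
              e x ∈ AssocGr.gr (FiltBl.IdealFiltration.adic m) n) ∧
        (∀ c : k, e (algebraMap R _ (algebraMap k R c)) = algebraMap A _ (algebraMap k A c)) := by
  classical
  obtain ⟨A₁, i1, i2, i3, g₁, ξ₁, hξ₁, hgen⟩ := exists_ft_model k F hF R ξ
  haveI : IsNoetherianRing A₁ := Algebra.FiniteType.isNoetherianRing k A₁
  have hresR : ∀ r : R, ∃ c : k, r - algebraMap k R c ∈ maximalIdeal R := exists_scalar hres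
  obtain ⟨m₁, hm₁def⟩ : ∃ m₁ : Ideal A₁, m₁ = (maximalIdeal R).comap (g₁ : A₁ →+* R) :=
    ⟨_, rfl⟩
  have hm₁ : ∀ a : A₁, ∃ c : k, a - algebraMap k A₁ c ∈ m₁ := by
    intro a
    obtain ⟨c, hc⟩ := exists_scalar_comap hres g₁ a
    exact ⟨c, by rw [hm₁def]; exact hc⟩
  have hg₁ : m₁ ≤ (maximalIdeal R).comap g₁ := by
    rw [hm₁def]
    exact le_rfl
  have hgen' : maximalIdeal R ≤ m₁.map (g₁ : A₁ →+* R) := by
    rw [hm₁def]
    exact hgen
  obtain ⟨ĝ, hĝ, hĝs⟩ : ∃ ĝ : AdicCompletion m₁ A₁ →+* R,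
      (∀ a, ĝ (algebraMap A₁ _ a) = g₁ a) ∧ Function.Surjective ĝ := by
    rw [hm₁def]
    refine exists_completion_map (g₁ : A₁ →+* R) hgen ?_
    intro r
    obtain ⟨c, hc⟩ := hresR r
    refine ⟨algebraMap k A₁ c, ?_⟩
    show r - g₁ (algebraMap k A₁ c) ∈ maximalIdeal R
    rw [AlgHom.commutes]
    exact hc
  obtain ⟨N', hN', A', iA1, iA2, het, ψ, s, f', hs, hsup, hdimB, Hle, Hge⟩ :=
    approx_ideal2 k A₁ m₁ hm₁ (RingHom.ker ĝ) N
  letI algkA' : Algebra k A' := ((algebraMap A₁ A').comp (algebraMap k A₁)).toAlgebra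
  haveI twA' : IsScalarTower k A₁ A' := IsScalarTower.of_algebraMap_eq (fun _ => rfl)
  exact approx_of_nbhd k F R hresR ξ A₁ g₁ ξ₁ hξ₁ m₁ hm₁ hg₁ hgen' ĝ hĝ hĝs N N' hN' A' ψ s f' hs
    hsup hdimB Hle Hge

end Groth.Agent.Lib.AlgzH5
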