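import Mathlib
import Groth.Prelude
import Groth.Agent.Lib.FormalQuot1_helper2

/-!
# Coherent formal modules and pro-morphisms (helper2)

* `exists_fac_family` : a compatible family of maps `F_(m n) ⟶ G_n` between coherent formal modules
  factors through the transition maps `F_(m n) ⟶ F_n`.
* `main9530` (S9530), `main9552` (S9552).
APPEND-ONLY once landed.
-/

set_option autoImplicit false
universe u
open CategoryTheory CategoryTheory.Limits AlgebraicGeometry TopologicalSpace Opposite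

namespace Groth.Agent.Lib.ProSysH2

open Formal Groth.Agent.Lib.FormalModPowH4 Groth.Agent.Lib.FormalFnH2 Groth.Agent.Lib.FibAmpH2
  Groth.Agent.Lib.FormalQuotH2

variable {A : Type u} [CommRing A] {X : Scheme.{u}} [X.Over (Spec (CommRingCat.of A))]
  {I : Ideal A} {F G : ℕᵒᵖ ⥤ X.Modules}

theorem exists_fac_level (hF : Formal.IsCohFormal I F) (hG : Formal.IsCohFormal I G)
    {n k : ℕ} (h : n ≤ k) (g : Gn F k ⟶ Gn G n) :
    ∃ b : Gn F n ⟶ Gn G n, gm F h ≫ b = g := by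
  refine (isQuot_gm hF h).2.2 _ g (fun a ha => ?_)
  rw [smulMod_naturality, hG.2.1 n a ha, comp_zero]

theorem map_eq_gm (F : ℕᵒᵖ ⥤ X.Modules) {n k : ℕ} (f : (op k : ℕᵒᵖ) ⟶ op n) (h : n ≤ k) :
    F.map f = gm F h :=
  congrArg F.map (Subsingleton.elim _ _)

theorem exists_fac_family (hF : Formal.IsCohFormal I F) (hG : Formal.IsCohFormal I G)
    {m : ℕ → ℕ} (hm : Monotone m) (hle : ∀ n : ℕ, n ≤ m n)
    (al : ∀ n : ℕ, Gn F (m n) ⟶ Gn G n)
    (hnat : ∀ (n k : ℕ) (h : n ≤ k), gm F (hm h) ≫ al n = al k ≫ gm G h) :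
    ∃ β : F ⟶ G, ∀ n : ℕ, gm F (hle n) ≫ β.app (op n) = al n := by
  choose b hb using fun n : ℕ => exists_fac_level hF hG (hle n) (al n)
  have key : ∀ (n k : ℕ) (h : n ≤ k), gm F h ≫ b n = b k ≫ gm G h := by
    intro n k h
    haveI : Epi (gm F (hle k)) := (isQuot_gm hF (hle k)).2.1
    have e1 : gm F (hle k) ≫ gm F h = gm F (hm h) ≫ gm F (hle n) :=
      (gm_trans h (hle k)).trans (gm_trans (hle n) (hm h)).symm
    refine (cancel_epi (gm F (hle k))).mp ?_
    calc gm F (hle k) ≫ gm F h ≫ b n = (gm F (hle k) ≫ gm F h) ≫ b n :=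
          (Category.assoc _ _ _).symm
      _ = (gm F (hm h) ≫ gm F (hle n)) ≫ b n := by rw [e1]
      _ = gm F (hm h) ≫ al n := by rw [Category.assoc, hb n]
      _ = al k ≫ gm G h := hnat n k h
      _ = (gm F (hle k) ≫ b k) ≫ gm G h := by rw [hb k]
      _ = gm F (hle k) ≫ b k ≫ gm G h := Category.assoc _ _ _
  refine ⟨{ app := fun x => b x.unop, naturality := ?_ }, fun n => hb n⟩
  intro x y f
  obtain ⟨k⟩ := x
  obtain ⟨n⟩ := y
  have hnk : n ≤ k := leOfHom f.unop
  rw [map_eq_gm F f hnk, map_eq_gm G f hnk]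
  exact key n k hnk

theorem exists_fac_reindex (hF : Formal.IsCohFormal I F) (hG : Formal.IsCohFormal I G)
    {m : ℕ → ℕ} (hm : Monotone m) (hle : ∀ n : ℕ, n ≤ m n) (α : DerCA.reindex F hm ⟶ G) :
    ∃ β : F ⟶ G, ∀ n : ℕ, gm F (hle n) ≫ β.app (op n) = α.app (op n) :=
  exists_fac_family hF hG hm hle (fun n => α.app (op n))
    (fun n k h => α.naturality (homOfLE h).op)

/-- **S9530**. -/
theorem main9530 (A : Type u) [CommRing A] (I : Ideal A) (X : Scheme.{u})
    [X.Over (Spec (CommRingCat.of A))] (F G : ℕᵒᵖ ⥤ X.Modules)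
    (hF : Formal.IsCohFormal I F) (hG : Formal.IsCohFormal I G) (m : ℕ → ℕ) (hm : Monotone m)
    (hle : ∀ n : ℕ, n ≤ m n) (π : DerCA.reindex F hm ⟶ F)
    (hπ : ∀ n : ℕ, π.app (op n) = F.map (homOfLE (hle n)).op) (α : DerCA.reindex F hm ⟶ G) :
    ∃! β : F ⟶ G, π ≫ β = α := by
  obtain ⟨β, hβ⟩ := exists_fac_reindex hF hG hm hle α
  refine ⟨β, ?_, fun β' hβ' => ?_⟩
  · apply NatTrans.ext
    funext x
    obtain ⟨n⟩ := x
    rw [NatTrans.comp_app, hπ n]
    exact hβ n
  · apply NatTrans.ext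
    funext x
    obtain ⟨n⟩ := x
    haveI : Epi (gm F (hle n)) := (isQuot_gm hF (hle n)).2.1
    refine (cancel_epi (gm F (hle n))).mp ?_
    refine Eq.trans ?_ (hβ n).symm
    have h1 : π.app (op n) ≫ β'.app (op n) = α.app (op n) := by
      rw [← NatTrans.comp_app, hβ']
    rw [hπ n] at h1
    exact h1

/-- **S9552**. -/
theorem main9552 (A : Type u) [CommRing A] (I : Ideal A) (X : Scheme.{u})
    [X.Over (Spec (CommRingCat.of A))] (F G : ℕᵒᵖ ⥤ X.Modules)
    (hF : Formal.IsCohFormal I F) (hG : Formal.IsCohFormal I G) (h : Algz.IsProIsomorphic F G) :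
    Nonempty (F ≅ G) := by
  obtain ⟨m, hm, hle, a, hpro⟩ := h
  -- clean typed versions
  let al : ∀ n : ℕ, Gn F (m n) ⟶ Gn G n := fun n => a.app (op n)
  have hnat : ∀ (n k : ℕ) (h : n ≤ k), gm F (hm h) ≫ al n = al k ≫ gm G h :=
    fun n k h => a.naturality (homOfLE h).op
  obtain ⟨β, hβ⟩ := exists_fac_family hF hG hm hle al hnat
  have hiso : ∀ x : ℕᵒᵖ, IsIso (β.app x) := by
    intro x
    obtain ⟨n⟩ := x
    obtain ⟨k, hk, b0, hb1, hb2⟩ := hpro n
    obtain ⟨b, hb1', hb2'⟩ : ∃ b : Gn G k ⟶ Gn F (m n),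
        al k ≫ b = gm F (hm hk) ∧ b ≫ al n = gm G hk := ⟨b0, hb1, hb2⟩
    -- the retraction
    obtain ⟨c, hc⟩ : ∃ c : Gn G n ⟶ Gn F n, gm G hk ≫ c = b ≫ gm F (hle n) := by
      refine (isQuot_gm hG hk).2.2 _ _ (fun r hr => ?_)
      rw [smulMod_naturality, hF.2.1 n r hr, comp_zero]
    have hnk : n ≤ m k := (hle n).trans (hm hk)
    haveI : Epi (gm F hnk) := (isQuot_gm hF hnk).2.1
    haveI : Epi (gm F (hle n)) := (isQuot_gm hF (hle n)).2.1
    haveI : Epi (gm G hk) := (isQuot_gm hG hk).2.1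
    have hp : gm F hnk = gm F (hm hk) ≫ gm F (hle n) := (gm_trans (hle n) (hm hk)).symm
    have hsplit : β.app (op n) ≫ c = 𝟙 _ := by
      refine (cancel_epi (gm F hnk)).mp ?_
      calc gm F hnk ≫ β.app (op n) ≫ c
          = gm F (hm hk) ≫ (gm F (hle n) ≫ β.app (op n)) ≫ c := by
            rw [hp, Category.assoc, Category.assoc]
        _ = (gm F (hm hk) ≫ al n) ≫ c := by rw [hβ n, Category.assoc]
        _ = al k ≫ gm G hk ≫ c := by rw [hnat n k hk, Category.assoc]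
        _ = (al k ≫ b) ≫ gm F (hle n) := by rw [hc, Category.assoc]
        _ = gm F hnk := by rw [hb1', hp]
        _ = gm F hnk ≫ 𝟙 _ := (Category.comp_id _).symm
    haveI : Mono (β.app (op n)) := by
      haveI : Mono (β.app (op n) ≫ c) := by rw [hsplit]; infer_instance
      exact mono_of_mono (β.app (op n)) c
    haveI : Epi (al n) := by
      haveI : Epi (b ≫ al n) := by rw [hb2']; infer_instance
      exact epi_of_epi b (al n)
    haveI : Epi (β.app (op n)) := by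
      haveI : Epi (gm F (hle n) ≫ β.app (op n)) := by rw [hβ n]; infer_instance
      exact epi_of_epi (gm F (hle n)) (β.app (op n))
    exact isIso_of_mono_of_epi _
  haveI : IsIso β := NatIso.isIso_of_isIso_app β
  exact ⟨asIso β⟩

end Groth.Agent.Lib.ProSysH2
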