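import Mathlib
import Groth.Prelude
import Groth.Agent.Lib.AlgzExt1_helper2
import Groth.Agent.Lib.ProSys1_helper2

/-!
# Canonical extensions of coherent formal modules on an open of `Spec A` (helper2)

* `IsProIsomorphic.whiskerRight`, `IsProIsomorphic.of_iso_left` : pro-isomorphisms and functors.
* `isCohFormal_of_iso`, `isCohFormal_restrictSys`.
* `secIso` : `(H⁰(U, G_n))~ |_U ≅ G_n`, naturally in `n`.
* `main9531` (S9531): canonically extends ⇒ extends.
APPEND-ONLY once landed.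
-/

set_option autoImplicit false
universe v u
open CategoryTheory CategoryTheory.Limits AlgebraicGeometry TopologicalSpace Opposite

namespace Groth.Agent.Lib.AlgzExtH2

open Formal Groth.Agent.Lib.FormalModPowH4 Groth.Agent.Lib.FormalFnH2 Groth.Agent.Lib.FibAmpH2
  Groth.Agent.Lib.FormalQuotH2

section Pro

variable {C : Type u} [Category.{v} C] {D : Type u} [Category.{v} D]

theorem isProIsomorphic_whiskerRight {X Y : ARSys.PS C} (h : Algz.IsProIsomorphic X Y)
    (Φ : C ⥤ D) : Algz.IsProIsomorphic (X ⋙ Φ) (Y ⋙ Φ) := by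
  obtain ⟨m, hm, hle, a, ha⟩ := h
  refine ⟨m, hm, hle, Functor.whiskerRight a Φ, fun n => ?_⟩
  obtain ⟨k, hk, b, h1, h2⟩ := ha n
  refine ⟨k, hk, Φ.map b, ?_, ?_⟩
  · show Φ.map (a.app (op k)) ≫ Φ.map b = Φ.map _
    rw [← Φ.map_comp, h1]
    rfl
  · show Φ.map b ≫ Φ.map (a.app (op n)) = Φ.map _
    rw [← Φ.map_comp, h2]

theorem isProIsomorphic_of_iso_left {X X' Y : ARSys.PS C} (η : X ≅ X')
    (h : Algz.IsProIsomorphic X Y) : Algz.IsProIsomorphic X' Y := by
  obtain ⟨m, hm, hle, a, ha⟩ := h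
  refine ⟨m, hm, hle, Functor.whiskerLeft (Monotone.functor hm).op η.inv ≫ a, fun n => ?_⟩
  obtain ⟨k, hk, b0, h1, h2⟩ := ha n
  let a' : ∀ n : ℕ, X.obj (op (m n)) ⟶ Y.obj (op n) := fun n => a.app (op n)
  obtain ⟨b, hb1, hb2⟩ : ∃ b : Y.obj (op k) ⟶ X.obj (op (m n)),
      a' k ≫ b = X.map (homOfLE (hm hk)).op ∧ b ≫ a' n = Y.map (homOfLE hk).op :=
    ⟨b0, h1, h2⟩
  refine ⟨k, hk, b ≫ η.hom.app (op (m n)), ?_, ?_⟩
  · show (η.inv.app (op (m k)) ≫ a' k) ≫ b ≫ η.hom.app (op (m n)) =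
      X'.map (homOfLE (hm hk)).op
    calc (η.inv.app (op (m k)) ≫ a' k) ≫ b ≫ η.hom.app (op (m n))
        = η.inv.app (op (m k)) ≫ (a' k ≫ b) ≫ η.hom.app (op (m n)) := by
          simp only [Category.assoc]
      _ = η.inv.app (op (m k)) ≫ X.map (homOfLE (hm hk)).op ≫ η.hom.app (op (m n)) := by
          rw [hb1]
      _ = X'.map (homOfLE (hm hk)).op := by
          rw [η.hom.naturality, Iso.inv_hom_id_app_assoc]
  · show (b ≫ η.hom.app (op (m n))) ≫ η.inv.app (op (m n)) ≫ a' n = Y.map (homOfLE hk).op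
    calc (b ≫ η.hom.app (op (m n))) ≫ η.inv.app (op (m n)) ≫ a' n
        = b ≫ (η.hom.app (op (m n)) ≫ η.inv.app (op (m n))) ≫ a' n := by
          simp only [Category.assoc]
      _ = b ≫ a' n := by rw [Iso.hom_inv_id_app, Category.id_comp]
      _ = Y.map (homOfLE hk).op := hb2

end Pro

section IsoInv

variable {A : Type u} [CommRing A] {X : Scheme.{u}} [X.Over (Spec (CommRingCat.of A))]
  {I : Ideal A}

theorem isCohFormal_of_iso {F F' : ℕᵒᵖ ⥤ X.Modules} (e : F ≅ F')
    (hF : Formal.IsCohFormal I F) : Formal.IsCohFormal I F' := by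
  refine ⟨fun n => ?_, fun n a ha => ?_, fun n => ?_⟩
  · haveI := (hF.1 n).1
    haveI : (F'.obj (op n)).IsQuasicoherent :=
      CohOpenH8.isQuasicoherent_of_iso (e.app (op n)).symm
    exact ⟨inferInstance, CohOpenH8.isFiniteType_of_iso (e.app (op n)).symm (hF.1 n).2⟩
  · have h1 : Formal.smulMod A (F'.obj (op n)) a =
        e.inv.app (op n) ≫ Formal.smulMod A (F.obj (op n)) a ≫ e.hom.app (op n) := by
      rw [smulMod_naturality, Iso.inv_hom_id_app_assoc]
    rw [h1, hF.2.1 n a ha, zero_comp, comp_zero]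
  · have h1 : F'.map (homOfLE (Nat.le_succ n)).op =
        e.inv.app (op (n + 1)) ≫ F.map (homOfLE (Nat.le_succ n)).op ≫ e.hom.app (op n) := by
      rw [e.hom.naturality, Iso.inv_hom_id_app_assoc]
    have h2 : IsQuot (I ^ (n + 1)) (F'.map (homOfLE (Nat.le_succ n)).op) := by
      rw [h1]
      exact IsQuot.iso_comp _ ((isQuot_tG hF n).comp_iso _)
    exact h2.cond

end IsoInv

section Open

variable (A : Type u) [CommRing A] (I : Ideal A) (U : (Spec (CommRingCat.of A)).Opens)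

noncomputable local instance (priority := 10000) selfOver2 :
    (Spec (CommRingCat.of A)).Over (Spec (CommRingCat.of A)) := ⟨𝟙 _⟩

theorem isCohFormal_restrictSys (G' : ℕᵒᵖ ⥤ (Spec (CommRingCat.of A)).Modules)
    (hG' : Formal.IsCohFormal I G') : Formal.IsCohFormal I (Algz.restrictSys U G') := by
  have h1 := main0835 A I (↑U : Scheme.{u}) (Spec (CommRingCat.of A)) U.ι (Category.comp_id _)
    G' hG'
  exact isCohFormal_of_iso
    (Functor.isoWhiskerLeft G' (Scheme.Modules.restrictFunctorIsoPullback U.ι)).symm h1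

variable [IsNoetherianRing A]

theorem hXSpec : ∀ x : (Spec (CommRingCat.of A)), ∃ V : (Spec (CommRingCat.of A)).Opens,
    x ∈ V ∧ NoetherianSpace (V : Set (Spec (CommRingCat.of A))) := by
  intro x
  haveI : NoetherianSpace (Spec (CommRingCat.of A)) :=
    inferInstanceAs (NoetherianSpace (PrimeSpectrum A))
  exact ⟨⊤, trivial, NoetherianSpace.set _⟩

/-- the counit `(H⁰(U, G_n))~ ⟶ j_* G_n` -/
noncomputable def secCounit (G : ℕᵒᵖ ⥤ (↑U : Scheme.{u}).Modules) :
    Algz.sectSys A U G ⟶ G ⋙ Scheme.Modules.pushforward U.ι :=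
  Functor.whiskerLeft (G ⋙ Scheme.Modules.pushforward U.ι)
    (Scheme.Modules.fromTildeΓNatTrans (R := CommRingCat.of A))

set_option backward.isDefEq.respectTransparency false in
theorem isIso_counit_app (M : (Spec (CommRingCat.of A)).Modules) [M.IsQuasicoherent] :
    IsIso ((Scheme.Modules.fromTildeΓNatTrans (R := CommRingCat.of A)).app M) := by
  show IsIso (Scheme.Modules.fromTildeΓ (R := CommRingCat.of A) M)
  exact Scheme.Modules.isIso_fromTildeΓ_of_isQuasicoherent (R := CommRingCat.of A) M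

theorem isIso_secCounit (G : ℕᵒᵖ ⥤ (↑U : Scheme.{u}).Modules)
    (hG : ∀ n, (G.obj (op n)).IsQuasicoherent) : IsIso (secCounit A U G) := by
  haveI : QuasiCompact U.ι := SubExt.quasiCompact_ι_of_locNoeth (hXSpec A) U
  haveI : ∀ x : ℕᵒᵖ, IsIso ((secCounit A U G).app x) := by
    intro x
    obtain ⟨n⟩ := x
    haveI := hG n
    haveI : ((Scheme.Modules.pushforward U.ι).obj (G.obj (op n))).IsQuasicoherent :=
      QcqsLoc.isQuasicoherent_pushforward_qcqs U.ι _
    exact isIso_counit_app A ((Scheme.Modules.pushforward U.ι).obj (G.obj (op n)))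
  exact NatIso.isIso_of_isIso_app _

/-- `(H⁰(U, G_n))~ |_U ≅ G_n`, naturally in `n` -/
noncomputable def secIso (G : ℕᵒᵖ ⥤ (↑U : Scheme.{u}).Modules)
    (hG : ∀ n, (G.obj (op n)).IsQuasicoherent) :
    Algz.sectSys A U G ⋙ Scheme.Modules.restrictFunctor U.ι ≅ G :=
  haveI := isIso_secCounit A U G hG
  Functor.isoWhiskerRight (asIso (secCounit A U G)) (Scheme.Modules.restrictFunctor U.ι) ≪≫
    Functor.associator _ _ _ ≪≫
    Functor.isoWhiskerLeft G (Scheme.Modules.restrictFunctorAdjCounitIso U.ι) ≪≫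
    Functor.rightUnitor G

/-- **S9531** -/
theorem main9531 (G : ℕᵒᵖ ⥤ (↑U : Scheme.{u}).Modules) (hG : Formal.IsCohFormal I G)
    (h : Algz.CanonicallyExtends A I U G) :
    @Algz.Extends A _ (Spec (CommRingCat.of A)) ⟨𝟙 (Spec (CommRingCat.of A))⟩ I U G := by
  obtain ⟨G', hG', hpro⟩ := h
  refine ⟨G', hG', ?_⟩
  have hR : Formal.IsCohFormal I (Algz.restrictSys U G') := isCohFormal_restrictSys A I U G' hG'
  have h1 := isProIsomorphic_whiskerRight hpro (Scheme.Modules.restrictFunctor U.ι)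
  have h2 : Algz.IsProIsomorphic G (Algz.restrictSys U G') :=
    isProIsomorphic_of_iso_left (secIso A U G (fun n => (hG.1 n).1)) h1
  obtain ⟨d⟩ := Groth.Agent.Lib.ProSysH2.main9552 A I (↑U : Scheme.{u}) G _ hG hR h2
  exact ⟨d.symm⟩

end Open

end Groth.Agent.Lib.AlgzExtH2
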