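import Mathlib
import Groth.Prelude.Def_ARSys
import Groth.Prelude.Def_Wider
import Groth.Agent.Lib.LocCohArt2_helper7

/-!
# Mittag-Leffler for inverse systems of Artinian modules; local cohomology (helper7, S8803)
-/

open CategoryTheory CategoryTheory.Limits Opposite

namespace Groth.Agent.Lib.LocCohMLH7

universe u

variable {A : Type u} [CommRing A]

lemma imageSubobject_le_of_range_le {M₁ M₂ N : ModuleCat.{u} A} (f : M₁ ⟶ N) (g : M₂ ⟶ N)
    (h : LinearMap.range f.hom ≤ LinearMap.range g.hom) :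
    imageSubobject f ≤ imageSubobject g := by
  let c : M₁ ⟶ ModuleCat.of A (LinearMap.range g.hom) :=
    ModuleCat.ofHom (LinearMap.codRestrict (LinearMap.range g.hom) f.hom (fun x => h ⟨x, rfl⟩))
  refine imageSubobject_le f (c ≫ (ModuleCat.imageIsoRange g).inv ≫ (imageSubobjectIso g).inv) ?_
  rw [Category.assoc, Category.assoc, imageSubobject_arrow', ModuleCat.imageIsoRange_inv_image_ι]
  rfl

theorem isML_of_artinian (X : ARSys.PS (ModuleCat.{u} A))
    (hX : ∀ n : ℕ, IsArtinian A (X.obj (op n))) : ARSys.IsML X := by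
  intro n
  haveI := hX n
  have hanti : ∀ s s' : ℕ, s ≤ s' → LinearMap.range (ARSys.shiftMap X s' n).hom ≤
      LinearMap.range (ARSys.shiftMap X s n).hom := by
    intro s s' hss'
    have hcomp : ARSys.shiftMap X s' n =
        X.map (homOfLE (Nat.add_le_add_left hss' n)).op ≫ ARSys.shiftMap X s n := by
      show X.map _ = X.map _ ≫ X.map _
      rw [← X.map_comp]
      exact congrArg X.map (Quiver.Hom.unop_inj (Subsingleton.elim _ _))
    rintro _ ⟨x, rfl⟩
    refine ⟨(X.map (homOfLE (Nat.add_le_add_left hss' n)).op).hom x, ?_⟩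
    have := congrArg (fun φ => φ.hom x) hcomp
    exact this.symm
  let f : ℕ →o (Submodule A (X.obj (op n)))ᵒᵈ :=
    ⟨fun s => OrderDual.toDual (LinearMap.range (ARSys.shiftMap X s n).hom),
      fun s s' h => hanti s s' h⟩
  obtain ⟨r, hr⟩ := IsArtinian.monotone_stabilizes f
  refine ⟨r, fun s hs => ?_⟩
  have heq : LinearMap.range (ARSys.shiftMap X s n).hom =
      LinearMap.range (ARSys.shiftMap X r n).hom :=
    (congrArg OrderDual.ofDual (hr s hs)).symm
  exact le_antisymm (imageSubobject_le_of_range_le _ _ heq.le)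
    (imageSubobject_le_of_range_le _ _ heq.ge)

theorem main [IsNoetherianRing A] [IsLocalRing A] (Msys : ℕᵒᵖ ⥤ ModuleCat.{u} A)
    (hfin : ∀ n : ℕᵒᵖ, Module.Finite A (Msys.obj n)) (i : ℕ) :
    ARSys.IsML (Msys ⋙ localCohomology (IsLocalRing.maximalIdeal A) i) := by
  apply isML_of_artinian
  intro n
  haveI := hfin (op n)
  exact Groth.Agent.Lib.LocCohArtH7.main817 A i (Msys.obj (op n))

end Groth.Agent.Lib.LocCohMLH7
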