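import Mathlib
import Groth.Prelude
import Groth.Agent.Lib.AlgzExt2_helper2
import Groth.Agent.Lib.LocCohML_helper7

/-!
# Canonical extensions and the Mittag-Leffler condition (helper2)

* `isML_of_isProIsomorphic_strict` : an inverse system of modules pro-isomorphic to a system with
  surjective transition maps is Mittag-Leffler.
* `main9532` (S9532).
APPEND-ONLY once landed.
-/

set_option autoImplicit false
universe v u
open CategoryTheory CategoryTheory.Limits AlgebraicGeometry TopologicalSpace Opposite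

namespace Groth.Agent.Lib.AlgzExtH2

open Formal Groth.Agent.Lib.FormalModPowH4 Groth.Agent.Lib.FormalFnH2 Groth.Agent.Lib.FibAmpH2
  Groth.Agent.Lib.FormalQuotH2

section ML

variable {A : Type u} [CommRing A]

theorem tr_tr (X : ARSys.PS (ModuleCat.{u} A)) {n k l : ℕ} (h1 : n ≤ k) (h2 : k ≤ l)
    (x : X.obj (op l)) :
    (ARSys.tr X h1).hom ((ARSys.tr X h2).hom x) = (ARSys.tr X (h1.trans h2)).hom x := by
  have h : ARSys.tr X h2 ≫ ARSys.tr X h1 = ARSys.tr X (h1.trans h2) :=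
    (X.map_comp _ _).symm.trans (congrArg X.map (Subsingleton.elim _ _))
  rw [← h]
  rfl

theorem isML_of_isProIsomorphic_strict {X Y : ARSys.PS (ModuleCat.{u} A)}
    (h : Algz.IsProIsomorphic X Y)
    (hY : ∀ (n k : ℕ) (h : n ≤ k), Function.Surjective (ARSys.tr Y h).hom) : ARSys.IsML X := by
  obtain ⟨m, hm, hle, a, ha⟩ := h
  let a' : ∀ n : ℕ, X.obj (op (m n)) ⟶ Y.obj (op n) := fun n => a.app (op n)
  have hnat : ∀ (n k : ℕ) (h : n ≤ k) (x : X.obj (op (m k))),
      (a' n).hom ((ARSys.tr X (hm h)).hom x) = (ARSys.tr Y h).hom ((a' k).hom x) := by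
    intro n k h x
    have h0 : ARSys.tr X (hm h) ≫ a' n = a' k ≫ ARSys.tr Y h := a.naturality (homOfLE h).op
    exact congrArg (fun f => f.hom x) h0
  have hb : ∀ n : ℕ, ∃ (k : ℕ) (hk : n ≤ k) (b : Y.obj (op k) ⟶ X.obj (op (m n))),
      (∀ x, b.hom ((a' k).hom x) = (ARSys.tr X (hm hk)).hom x) ∧
      (∀ y, (a' n).hom (b.hom y) = (ARSys.tr Y hk).hom y) := by
    intro n
    obtain ⟨k, hk, b0, h1, h2⟩ := ha n
    obtain ⟨b, hb1, hb2⟩ : ∃ b : Y.obj (op k) ⟶ X.obj (op (m n)),
        a' k ≫ b = ARSys.tr X (hm hk) ∧ b ≫ a' n = ARSys.tr Y hk := ⟨b0, h1, h2⟩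
    exact ⟨k, hk, b, fun x => congrArg (fun f => f.hom x) hb1,
      fun y => congrArg (fun f => f.hom y) hb2⟩
  intro n
  obtain ⟨k, hk, b, hb1, hb2⟩ := hb n
  have key : ∀ (N : ℕ) (hN : m k ≤ N),
      LinearMap.range (ARSys.tr X ((hle n).trans ((hm hk).trans hN))).hom =
        LinearMap.range (b ≫ ARSys.tr X (hle n)).hom := by
    intro N hN
    apply le_antisymm
    · rintro _ ⟨x, rfl⟩
      refine ⟨(a' k).hom ((ARSys.tr X hN).hom x), ?_⟩
      show (ARSys.tr X (hle n)).hom (b.hom ((a' k).hom ((ARSys.tr X hN).hom x))) = _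
      rw [hb1, tr_tr, tr_tr]
    · rintro _ ⟨y, rfl⟩
      show (ARSys.tr X (hle n)).hom (b.hom y) ∈ _
      obtain ⟨k', hk', b', -, hb2'⟩ := hb (max N k)
      have hkN : k ≤ max N k := le_max_right N k
      have hNN : N ≤ m (max N k) := (le_max_left N k).trans (hle _)
      obtain ⟨y', rfl⟩ := hY k k' (hkN.trans hk') y
      have e1 : (ARSys.tr Y (hkN.trans hk')).hom y' =
          (a' k).hom ((ARSys.tr X (hm hkN)).hom (b'.hom y')) := by
        rw [hnat k (max N k) hkN, hb2', tr_tr]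
      rw [e1, hb1, tr_tr, tr_tr]
      refine ⟨(ARSys.tr X hNN).hom (b'.hom y'), ?_⟩
      rw [tr_tr]
  refine ⟨m k - n, fun s hs => ?_⟩
  have hmk : n ≤ m k := (hle n).trans (hm hk)
  have hs' : m k ≤ n + s := by omega
  have hr' : m k ≤ n + (m k - n) := by omega
  have e1 : LinearMap.range (ARSys.shiftMap X s n).hom =
      LinearMap.range (b ≫ ARSys.tr X (hle n)).hom := key (n + s) hs'
  have e2 : LinearMap.range (ARSys.shiftMap X (m k - n) n).hom =
      LinearMap.range (b ≫ ARSys.tr X (hle n)).hom := key (n + (m k - n)) hr'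
  apply le_antisymm
  · exact Groth.Agent.Lib.LocCohMLH7.imageSubobject_le_of_range_le _ _ (by rw [e1, e2])
  · exact Groth.Agent.Lib.LocCohMLH7.imageSubobject_le_of_range_le _ _ (by rw [e1, e2])

end ML

section Open

variable (A : Type u) [CommRing A] [IsNoetherianRing A] (I : Ideal A)
  (U : (Spec (CommRingCat.of A)).Opens)

noncomputable local instance (priority := 10000) selfOver3 :
    (Spec (CommRingCat.of A)).Over (Spec (CommRingCat.of A)) := ⟨𝟙 _⟩

/-- `Γ((H⁰(U, G_n))~) ≅ H⁰(U, G_n)` -/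
noncomputable def sectSysΓIso (G : ℕᵒᵖ ⥤ (↑U : Scheme.{u}).Modules) :
    Algz.sectSys A U G ⋙ moduleSpecΓFunctor (R := CommRingCat.of A) ≅ Algz.sectMod A U G :=
  Functor.associator _ _ _ ≪≫
    Functor.isoWhiskerLeft (Algz.sectMod A U G)
      (tilde.toTildeΓNatIso (R := CommRingCat.of A)).symm ≪≫
    Functor.rightUnitor _

theorem surjective_Γ_of_cohFormal (G' : ℕᵒᵖ ⥤ (Spec (CommRingCat.of A)).Modules)
    (hG' : Formal.IsCohFormal I G') (n k : ℕ) (h : n ≤ k) :
    Function.Surjective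
      (ARSys.tr (G' ⋙ moduleSpecΓFunctor (R := CommRingCat.of A)) h).hom := by
  haveI : Epi (G'.map (homOfLE h).op) := (isQuot_gm hG' h).2.1
  haveI := (hG'.1 n).1
  haveI := (hG'.1 k).1
  exact QCohExact.app_surjective_of_epi (G'.map (homOfLE h).op) (isAffineOpen_top _)

/-- **S9532** -/
theorem main9532 (G : ℕᵒᵖ ⥤ (↑U : Scheme.{u}).Modules)
    (h : Algz.CanonicallyExtends A I U G) : ARSys.IsML (Algz.sectMod A U G) := by
  obtain ⟨G', hG', hpro⟩ := h
  have h1 := isProIsomorphic_whiskerRight hpro (moduleSpecΓFunctor (R := CommRingCat.of A))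
  have h2 := isProIsomorphic_of_iso_left (sectSysΓIso A U G) h1
  exact isML_of_isProIsomorphic_strict h2 (surjective_Γ_of_cohFormal A I G' hG')

end Open

end Groth.Agent.Lib.AlgzExtH2
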