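import Mathlib
import Groth.Prelude
import Groth.Agent.Lib.AlgzExt3_helper2
import Groth.Agent.Lib.AdicSys1_helper2

/-!
# Canonical extensions: the limit topology is the `I`-adic topology (helper2)

* `ker_limit_π_le` : for an inverse system `X` of modules pro-isomorphic to an adic system `Y`
  (surjective transitions with kernels `I^{n+1} Y_{n+1}`, `I^{n+1} Y_n = 0`, `I` finitely
  generated), the kernels of `lim X → X_n` are cofinal with the `I^k (lim X)`.
* `main9533` (S9533).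
APPEND-ONLY once landed.
-/

set_option autoImplicit false
universe v u
open CategoryTheory CategoryTheory.Limits AlgebraicGeometry TopologicalSpace Opposite

namespace Groth.Agent.Lib.AlgzExtH2

open Formal Groth.Agent.Lib.FormalModPowH4 Groth.Agent.Lib.FormalFnH2 Groth.Agent.Lib.FibAmpH2
  Groth.Agent.Lib.FormalQuotH2 Groth.Agent.Lib.AdicSysH2

section Alg

variable {A : Type u} [CommRing A]

theorem ker_limit_π_le {X Y : ARSys.PS (ModuleCat.{u} A)} (I : Ideal A) (hI : I.FG)
    (h : Algz.IsProIsomorphic X Y)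
    (hS : ∀ n, Function.Surjective (T Y (Nat.le_succ n)))
    (hK : ∀ n, LinearMap.ker (T Y (Nat.le_succ n)) ≤
      I ^ (n + 1) • (⊤ : Submodule A (Y.obj (op n.succ))))
    (hZ : ∀ n, I ^ (n + 1) • (⊤ : Submodule A (Y.obj (op n))) = ⊥) (k : ℕ) :
    ∃ n : ℕ, LinearMap.ker (limit.π X (op n)).hom ≤
      I ^ k • (⊤ : Submodule A ↑(limit X)) := by
  cases k with
  | zero =>
    refine ⟨0, fun x _ => ?_⟩
    rw [pow_zero, Ideal.one_eq_top, Submodule.top_smul]
    trivial
  | succ l =>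
  obtain ⟨m, hm, hle, a, ha⟩ := h
  let a' : ∀ n : ℕ, X.obj (op (m n)) ⟶ Y.obj (op n) := fun n => a.app (op n)
  have hnat : ∀ (n k : ℕ) (h : n ≤ k) (x : X.obj (op (m k))),
      (a' n).hom (T X (hm h) x) = T Y h ((a' k).hom x) := by
    intro n k h x
    have h0 : ARSys.tr X (hm h) ≫ a' n = a' k ≫ ARSys.tr Y h := a.naturality (homOfLE h).op
    exact congrArg (fun f => f.hom x) h0
  have hb : ∀ n : ℕ, ∃ (k : ℕ) (hk : n ≤ k) (b : Y.obj (op k) ⟶ X.obj (op (m n))),
      (∀ x, b.hom ((a' k).hom x) = T X (hm hk) x) ∧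
      (∀ y, (a' n).hom (b.hom y) = T Y hk y) := by
    intro n
    obtain ⟨k, hk, b0, h1, h2⟩ := ha n
    obtain ⟨b, hb1, hb2⟩ : ∃ b : Y.obj (op k) ⟶ X.obj (op (m n)),
        a' k ≫ b = ARSys.tr X (hm hk) ∧ b ≫ a' n = ARSys.tr Y hk := ⟨b0, h1, h2⟩
    exact ⟨k, hk, b, fun x => congrArg (fun f => f.hom x) hb1,
      fun y => congrArg (fun f => f.hom y) hb2⟩
  choose kk hkk b hb1 hb2 using hb
  -- the projections of the limit
  let p : ∀ n : ℕ, ↑(limit X) →ₗ[A] X.obj (op n) := fun n => (limit.π X (op n)).hom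
  have hp : ∀ (n k : ℕ) (h : n ≤ k) (x : ↑(limit X)), T X h (p k x) = p n x := by
    intro n k h x
    exact congrArg (fun f => f.hom x) (limit.w X (homOfLE h).op)
  -- φ
  let φ : ↑(limit X) →ₗ[A] Lsub Y :=
    LinearMap.codRestrict (Lsub Y) (LinearMap.pi (fun n => (a' n).hom ∘ₗ p (m n)))
      (fun x n k h => by
        show T Y h ((a' k).hom (p (m k) x)) = (a' n).hom (p (m n) x)
        rw [← hnat n k h, hp])
  have hφ : ∀ n x, πL Y n (φ x) = (a' n).hom (p (m n) x) := fun n x => rfl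
  -- ψ
  let ψn : ∀ j : ℕ, Lsub Y →ₗ[A] X.obj (op j) := fun j =>
    T X (hle j) ∘ₗ (b j).hom ∘ₗ πL Y (kk j)
  have hψn : ∀ j y, ψn j y = T X (hle j) ((b j).hom (πL Y (kk j) y)) := fun j y => rfl
  have key : ∀ (j K : ℕ) (hjK : kk j ≤ K) (y : Lsub Y),
      ψn j y = T X ((hle j).trans (hm ((hkk j).trans hjK))) ((b K).hom (πL Y (kk K) y)) := by
    intro j K hjK y
    have e1 : πL Y K y = (a' K).hom ((b K).hom (πL Y (kk K) y)) := by
      rw [hb2 K, T_πL]
    have e2 : πL Y (kk j) y =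
        (a' (kk j)).hom (T X (hm hjK) ((b K).hom (πL Y (kk K) y))) := by
      rw [hnat (kk j) K hjK, ← e1, T_πL]
    rw [hψn, e2, hb1 j, T_T, T_T]
  have hcompat : ∀ (n n' : ℕ) (h : n ≤ n') (y : Lsub Y), T X h (ψn n' y) = ψn n y := by
    intro n n' h y
    rw [key n' (max (kk n) (kk n')) (le_max_right _ _) y,
      key n (max (kk n) (kk n')) (le_max_left _ _) y, T_T]
  let c : Cone X :=
    { pt := ModuleCat.of A (Lsub Y)
      π :=
        { app := fun j => ModuleCat.ofHom (ψn j.unop)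
          naturality := by
            intro j j' f
            obtain ⟨n'⟩ := j
            obtain ⟨n⟩ := j'
            have hnn : n ≤ n' := leOfHom f.unop
            have hf : X.map f = ARSys.tr X hnn := congrArg X.map (Subsingleton.elim _ _)
            apply ModuleCat.hom_ext
            apply LinearMap.ext
            intro y
            show ψn n y = (X.map f).hom (ψn n' y)
            rw [hf]
            exact (hcompat n n' hnn y).symm } }
  let ψ : Lsub Y →ₗ[A] ↑(limit X) := (limit.lift X c).hom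
  have hψπ : ∀ j y, p j (ψ y) = ψn j y := by
    intro j y
    exact congrArg (fun f => f.hom y) (limit.lift_π c (op j))
  have hψφ : ∀ x, ψ (φ x) = x := by
    intro x
    refine Concrete.limit_ext X _ _ (fun j => ?_)
    obtain ⟨n⟩ := j
    show p n (ψ (φ x)) = p n x
    rw [hψπ, hψn, hφ, hb1, T_T, hp]
  refine ⟨m l, fun x hx => ?_⟩
  have hx' : p (m l) x = 0 := hx
  have h3 : πL Y l (φ x) = 0 := by rw [hφ, hx', map_zero]
  have h4 := mem_smul_top_of_apply_eq_zero Y hS I hK hZ hI l (φ x) h3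
  have h5 := map_mem_smul_top (I ^ (l + 1)) ψ h4
  rwa [hψφ x] at h5

end Alg

section Open

variable (A : Type u) [CommRing A] [IsNoetherianRing A] (I : Ideal A)
  (U : (Spec (CommRingCat.of A)).Opens)

noncomputable local instance (priority := 10000) selfOver4 :
    (Spec (CommRingCat.of A)).Over (Spec (CommRingCat.of A)) := ⟨𝟙 _⟩

/-- global sections, seen in the `A`-module `Γ(M)` -/
def toΓ (M : (Spec (CommRingCat.of A)).Modules) :
    Γ(M, ⊤) → ((moduleSpecΓFunctor (R := CommRingCat.of A)).obj M : ModuleCat A) := fun y => y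

theorem toΓ_smul (M : (Spec (CommRingCat.of A)).Modules) (a : A) (y : Γ(M, ⊤)) :
    toΓ A M (rU (X := Spec (CommRingCat.of A)) a ⊤ • y) = a • toΓ A M y := rfl

theorem toΓ_add (M : (Spec (CommRingCat.of A)).Modules) (y y' : Γ(M, ⊤)) :
    toΓ A M (y + y') = toΓ A M y + toΓ A M y' := rfl

theorem toΓ_zero (M : (Spec (CommRingCat.of A)).Modules) : toΓ A M 0 = 0 := rfl

omit [IsNoetherianRing A] in
theorem Γ_smul_eq (M : (Spec (CommRingCat.of A)).Modules) (a : A)
    (y : ((moduleSpecΓFunctor (R := CommRingCat.of A)).obj M : ModuleCat A)) :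
    a • y = (Formal.smulMod A M a).app ⊤ y := rfl

omit [IsNoetherianRing A] in
theorem mem_smul_top_Γ (M : (Spec (CommRingCat.of A)).Modules) (n : ℕ) (x : Γ(M, ⊤))
    (hx : x ∈ (JU A I (⊤ : (Spec (CommRingCat.of A)).Opens)) ^ n •
      (⊤ : Submodule Γ(Spec (CommRingCat.of A), ⊤) Γ(M, ⊤))) :
    toΓ A M x ∈ I ^ n • (⊤ : Submodule A
      ((moduleSpecΓFunctor (R := CommRingCat.of A)).obj M : ModuleCat A)) := by
  have key : ∀ b ∈ Ideal.span
      (⇑(rUHom (A := A) (⊤ : (Spec (CommRingCat.of A)).Opens)) '' ((I ^ n : Ideal A) : Set A)),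
      ∀ y : Γ(M, ⊤), toΓ A M (b • y) ∈ I ^ n • (⊤ : Submodule A
        ((moduleSpecΓFunctor (R := CommRingCat.of A)).obj M : ModuleCat A)) := by
    intro b hb
    refine Submodule.span_induction
      (p := fun b _ => ∀ y : Γ(M, ⊤), toΓ A M (b • y) ∈ I ^ n • (⊤ : Submodule A
        ((moduleSpecΓFunctor (R := CommRingCat.of A)).obj M : ModuleCat A)))
      ?_ ?_ ?_ ?_ hb
    · rintro _ ⟨a, ha, rfl⟩ y
      have e : toΓ A M (rUHom (A := A) (⊤ : (Spec (CommRingCat.of A)).Opens) a • y) =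
          a • toΓ A M y := rfl
      rw [e]
      exact Submodule.smul_mem_smul ha Submodule.mem_top
    · intro y
      rw [zero_smul]
      exact Submodule.zero_mem _
    · intro b b' _ _ hb hb' y
      rw [add_smul]
      exact Submodule.add_mem _ (hb y) (hb' y)
    · intro c b _ hb y
      rw [smul_eq_mul, mul_comm, mul_smul]
      exact hb (c • y)
  have hJ : (JU A I (⊤ : (Spec (CommRingCat.of A)).Opens)) ^ n =
      Ideal.span (⇑(rUHom (A := A) (⊤ : (Spec (CommRingCat.of A)).Opens)) ''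
        ((I ^ n : Ideal A) : Set A)) := by
    show (Ideal.map _ I) ^ n = _
    rw [← Ideal.map_pow]
    rfl
  rw [hJ] at hx
  refine Submodule.smul_induction_on hx (fun b hb y _ => key b hb y) (fun y z hy hz => ?_)
  exact Submodule.add_mem _ hy hz

theorem smul_top_Γ_eq_bot (G' : ℕᵒᵖ ⥤ (Spec (CommRingCat.of A)).Modules)
    (hG' : Formal.IsCohFormal I G') (n : ℕ) :
    I ^ (n + 1) • (⊤ : Submodule A
      ((G' ⋙ moduleSpecΓFunctor (R := CommRingCat.of A)).obj (op n) : ModuleCat A)) = ⊥ := by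
  rw [eq_bot_iff]
  intro x hx
  refine Submodule.smul_induction_on hx (fun a ha y _ => ?_) (fun y z hy hz => ?_)
  · rw [Submodule.mem_bot]
    have e : a • y = (Formal.smulMod A (G'.obj (op n)) a).app ⊤ y := rfl
    rw [e, hG'.2.1 n a ha]
    rfl
  · exact Submodule.add_mem _ hy hz

theorem ker_T_Γ_le (G' : ℕᵒᵖ ⥤ (Spec (CommRingCat.of A)).Modules)
    (hG' : Formal.IsCohFormal I G') (n : ℕ) :
    LinearMap.ker (T (G' ⋙ moduleSpecΓFunctor (R := CommRingCat.of A)) (Nat.le_succ n)) ≤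
      I ^ (n + 1) • (⊤ : Submodule A
        ((G' ⋙ moduleSpecΓFunctor (R := CommRingCat.of A)).obj (op n.succ) : ModuleCat A)) := by
  intro x hx
  haveI := (hG'.1 (n + 1)).1
  have h1 : (tG G' n).app ⊤ x = 0 := hx
  have h2 := ((isQuot_tG hG' n).app_eq_zero_iff A I (isAffineOpen_top _) x).mp h1
  exact mem_smul_top_Γ A I _ (n + 1) x h2

/-- **S9533** -/
theorem main9533 (G : ℕᵒᵖ ⥤ (↑U : Scheme.{u}).Modules)
    (h : Algz.CanonicallyExtends A I U G) (k : ℕ) :
    ∃ n : ℕ, LinearMap.ker (limit.π (Algz.sectMod A U G) (op n)).hom ≤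
      I ^ k • (⊤ : Submodule A ↑(limit (Algz.sectMod A U G))) := by
  obtain ⟨G', hG', hpro⟩ := h
  have h1 := isProIsomorphic_whiskerRight hpro (moduleSpecΓFunctor (R := CommRingCat.of A))
  have h2 := isProIsomorphic_of_iso_left (sectSysΓIso A U G) h1
  exact ker_limit_π_le I (IsNoetherian.noetherian I) h2
    (fun n => surjective_Γ_of_cohFormal A I G' hG' n (n + 1) (Nat.le_succ n))
    (ker_T_Γ_le A I G' hG') (smul_top_Γ_eq_bot A I G' hG') k

end Open

end Groth.Agent.Lib.AlgzExtH2
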