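import Mathlib
import Groth.Agent.Lib.FlatDesc19_helper8

/-!
# Flatness descent, part 20: finite free resolutions of flat finitely presented modules over flat
finitely presented algebras
-/

namespace Groth.Agent.Lib.FlatDescH8

open TensorProduct CategoryTheory

universe u

section Good

variable (R₀ : Type u) (A : Type u) (S₀ B : Type u) [CommRing R₀] [CommRing A] [CommRing S₀]
  [CommRing B]
  [Algebra R₀ A] [Algebra R₀ S₀] [Algebra S₀ B] [Algebra A B] [Algebra R₀ B]
  [IsScalarTower R₀ A B] [IsScalarTower R₀ S₀ B] [Algebra.IsPushout R₀ A S₀ B]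

/-- modules over `B` which are base changes of finite `S₀`-modules flat over `R₀`. -/
def GoodMod (N : ModuleCat.{u} B) : Prop :=
  ∃ (N₀ : Type u) (_ : AddCommGroup N₀) (_ : Module S₀ N₀) (_ : Module R₀ N₀)
    (_ : IsScalarTower R₀ S₀ N₀) (_ : Module S₀ N) (_ : IsScalarTower S₀ B N) (f : N₀ →ₗ[S₀] N),
    Module.Finite S₀ N₀ ∧ Module.Flat R₀ N₀ ∧ IsBaseChange B f

include A in
theorem goodMod_syzygyClosed [IsNoetherianRing S₀] [Module.Flat R₀ S₀] :
    FinFreeResH8.SyzygyClosed (GoodMod R₀ S₀ B) := by
  rintro N ⟨N₀, _, _, _, _, _, _, f, hfin, hflat, hbc⟩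
  obtain ⟨n, p₀, hp₀⟩ := Module.Finite.exists_fin' S₀ N₀
  obtain ⟨p, hp⟩ : ∃ p : (Fin n → B) →ₗ[B] N, ∀ i, p (Pi.single i 1) = f (p₀ (Pi.single i 1)) :=
    ⟨Fintype.linearCombination B (fun i => f (p₀ (Pi.single i 1))), fun i => by
      rw [Fintype.linearCombination_apply_single, one_smul]⟩
  have hh₂ : IsBaseChange B ((Algebra.linearMap S₀ B).compLeft (Fin n)) :=
    IsBaseChange.finitePow (Fin n) (IsBaseChange.linearMap S₀ B)
  have hcomm : ∀ x, p ((Algebra.linearMap S₀ B).compLeft (Fin n) x) = f (p₀ x) := by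
    have : (p.restrictScalars S₀).comp ((Algebra.linearMap S₀ B).compLeft (Fin n)) =
        f.comp p₀ := by
      apply LinearMap.pi_ext'
      intro i
      apply LinearMap.ext_ring
      have hsingle : (Algebra.linearMap S₀ B).compLeft (Fin n) (Pi.single i (1 : S₀)) =
          Pi.single i (1 : B) := by
        ext k
        by_cases h : k = i
        · subst h
          simp
        · simp [Pi.single_apply, h]
      simp only [LinearMap.comp_apply, LinearMap.coe_single, LinearMap.restrictScalars_apply]
      rw [hsingle, hp i]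
    intro x
    exact LinearMap.congr_fun this x
  have hpsurj : Function.Surjective p := by
    intro y
    refine hbc.inductionOn y (fun y => ∃ x, p x = y) ⟨0, map_zero _⟩ ?_ ?_ ?_
    · intro m
      obtain ⟨x, rfl⟩ := hp₀ m
      exact ⟨_, hcomm x⟩
    · rintro b y ⟨x, rfl⟩
      exact ⟨b • x, map_smul _ _ _⟩
    · rintro y z ⟨x, rfl⟩ ⟨x', rfl⟩
      exact ⟨x + x', map_add _ _ _⟩
  haveI : Module.Flat R₀ (Fin n → S₀) := Module.Flat.trans R₀ S₀ (Fin n → S₀)
  haveI : Module.Flat R₀ (LinearMap.ker p₀) := by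
    have h := flat_ker (p₀.restrictScalars R₀) hp₀
    exact h
  obtain ⟨h₁, hh₁, -⟩ := isBaseChange_ker (R₀ := R₀) A (B := B) (LinearMap.ker p₀).subtype p₀
    (LinearMap.ker p₀).subtype_injective hp₀ (LinearMap.exact_subtype_ker_map p₀)
    ((Algebra.linearMap S₀ B).compLeft (Fin n)) hh₂ f hbc p hcomm
  exact ⟨n, p, hpsurj, ⟨LinearMap.ker p₀, inferInstance, inferInstance, inferInstance,
    inferInstance, inferInstance, inferInstance, h₁, inferInstance, inferInstance, hh₁⟩⟩

end Good

/-- **Finite free resolutions**: a finitely presented module, flat over the base, over a flat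
finitely presented algebra admits a resolution by finite free modules. -/
theorem exists_finite_free_resolution_of_flat (A B M : Type u) [CommRing A] [CommRing B]
    [Algebra A B] [Algebra.FinitePresentation A B] [Module.Flat A B] [AddCommGroup M] [Module B M]
    [Module A M] [IsScalarTower A B M] [Module.FinitePresentation B M] [Module.Flat A M] :
    ∃ P : ProjectiveResolution (ModuleCat.of B M),
      ∀ n : ℕ, Module.Finite B (P.complex.X n) ∧ Module.Free B (P.complex.X n) := by
  obtain ⟨R₀, _, _, S₀, _, _, _, _, _, _, M₀, _, _, _, _, _, _, f, hft, hftS, hfin, hflat, hpush, hbc,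
    hflatS⟩ := exists_noetherian_flat_model A B M
  haveI : IsNoetherianRing R₀ := Algebra.FiniteType.isNoetherianRing ℤ R₀
  haveI : IsNoetherianRing S₀ := Algebra.FiniteType.isNoetherianRing R₀ S₀
  exact FinFreeResH8.exists_finite_free_resolution (C := GoodMod R₀ S₀ B)
    (goodMod_syzygyClosed R₀ A S₀ B) (ModuleCat.of B M)
    ⟨M₀, inferInstance, inferInstance, inferInstance, inferInstance, inferInstance, inferInstance,
      f, hfin, hflat, hbc⟩

end Groth.Agent.Lib.FlatDescH8
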