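import Mathlib
import Groth.Agent.Lib.FlatDesc20_helper8

/-!
# Flatness descent, part 21: Noetherian approximation of flat finitely presented morphisms of affine
schemes
-/

namespace Groth.Agent.Lib.FlatDescH8

open TensorProduct CategoryTheory AlgebraicGeometry Limits

universe u

/-- A pushout square of rings `R₀ → A`, `R₀ → S₀` with pushout `B = Γ(X)`, `A = Γ(S)`, gives a
pullback square of affine schemes. -/
theorem isPullback_of_isPushout_affine {X S : Scheme.{u}} (f : X ⟶ S) [IsAffine X] [IsAffine S]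
    (R₀ S₀ : Type u) [CommRing R₀] [CommRing S₀]
    (a : R₀ →+* Γ(S, ⊤)) (b : R₀ →+* S₀) (c : S₀ →+* Γ(X, ⊤))
    (h : IsPushout (CommRingCat.ofHom a) (CommRingCat.ofHom b) f.appTop (CommRingCat.ofHom c)) :
    IsPullback (X.isoSpec.hom ≫ Spec.map (CommRingCat.ofHom c)) f
      (Spec.map (CommRingCat.ofHom b)) (S.isoSpec.hom ≫ Spec.map (CommRingCat.ofHom a)) := by
  have h1 := (isPullback_SpecMap_of_isPushout _ _ _ _ h).flip
  refine h1.of_iso X.isoSpec.symm (Iso.refl _) S.isoSpec.symm (Iso.refl _) ?_ ?_ ?_ ?_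
  · simp
  · exact Scheme.isoSpec_inv_naturality f
  · simp
  · simp

/-- **Noetherian approximation of a flat finitely presented morphism of affine schemes.** -/
theorem noetherian_approximation_flat {X S : Scheme.{u}} (f : X ⟶ S) [IsAffine X] [IsAffine S]
    [LocallyOfFinitePresentation f] [Flat f] :
    ∃ (X₀ S₀ : Scheme.{u}) (f₀ : X₀ ⟶ S₀) (g : S ⟶ S₀) (g' : X ⟶ X₀), IsAffine X₀ ∧ IsAffine S₀ ∧
      IsPullback g' f f₀ g ∧
      Algebra.FiniteType ℤ Γ(S₀, ⊤) ∧ LocallyOfFiniteType f₀ ∧ Flat f₀ := by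
  letI : Algebra Γ(S, ⊤) Γ(X, ⊤) := f.appTop.hom.toAlgebra
  haveI : Algebra.FinitePresentation Γ(S, ⊤) Γ(X, ⊤) :=
    (HasRingHomProperty.iff_of_isAffine (P := @LocallyOfFinitePresentation)).mp inferInstance
  haveI : Module.Flat Γ(S, ⊤) Γ(X, ⊤) :=
    (HasRingHomProperty.iff_of_isAffine (P := @Flat)).mp inferInstance
  obtain ⟨R₀, _, _, S₀, _, _, _, _, _, _, M₀, _, _, _, _, _, _, f', hft, hftS, -, -, hpush, -,
    hflatS⟩ := exists_noetherian_flat_model Γ(S, ⊤) Γ(X, ⊤) Γ(X, ⊤)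
  have hpo := CommRingCat.isPushout_of_isPushout R₀ Γ(S, ⊤) S₀ Γ(X, ⊤)
  have hpb := isPullback_of_isPushout_affine f R₀ S₀ (algebraMap R₀ Γ(S, ⊤)) (algebraMap R₀ S₀)
    (algebraMap S₀ Γ(X, ⊤)) hpo
  refine ⟨Spec (.of S₀), Spec (.of R₀), Spec.map (CommRingCat.ofHom (algebraMap R₀ S₀)), _, _,
    inferInstance, inferInstance, hpb, ?_, ?_, ?_⟩
  · exact Algebra.FiniteType.equiv hft
      (Scheme.ΓSpecIso (.of R₀)).commRingCatIsoToRingEquiv.symm.toIntAlgEquiv
  · rw [HasRingHomProperty.Spec_iff (P := @LocallyOfFiniteType)]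
    exact RingHom.finiteType_algebraMap.mpr hftS
  · rw [HasRingHomProperty.Spec_iff (P := @Flat)]
    exact RingHom.flat_algebraMap_iff.mpr hflatS

end Groth.Agent.Lib.FlatDescH8
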