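import Mathlib
set_option autoImplicit false
open CategoryTheory TensorProduct ChangeOfRings
universe u
namespace PBH8

section
variable (A' A : Type u) [CommRing A'] [CommRing A] [Algebra A' A]
  (N' : Type u) [AddCommGroup N'] [Module A' N']

noncomputable def rsEquiv :
    ((ModuleCat.restrictScalars (algebraMap A' A)).obj (ModuleCat.of A A)) ≃ₗ[A'] A :=
  { AddEquiv.refl A with
    map_smul' := fun r (x : A) => by
      change algebraMap A' A r * x = r • x
      rw [Algebra.smul_def] }

/-- pure tensors in `extendScalars`. -/
noncomputable def mkE (s : A) (m : N') :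
    ((ModuleCat.extendScalars (algebraMap A' A)).obj (ModuleCat.of A' N')) :=
  s ⊗ₜ[A', algebraMap A' A] m

lemma smul_mkE (s s' : A) (m : N') : s • mkE A' A N' s' m = mkE A' A N' (s * s') m := rfl

noncomputable def extendScalarsEquiv :
    ((ModuleCat.extendScalars (algebraMap A' A)).obj (ModuleCat.of A' N')) ≃ₗ[A] (A ⊗[A'] N') := by
  let e : ((ModuleCat.extendScalars (algebraMap A' A)).obj (ModuleCat.of A' N')) ≃+ (A ⊗[A'] N') :=
    (TensorProduct.congr (rsEquiv A' A) (LinearEquiv.refl A' N')).toAddEquiv
  refine { e with map_smul' := ?_ }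
  intro s x
  change e (s • x) = s • e x
  have key : ∀ (s' : A) (m : N'), e (s • mkE A' A N' s' m) = s • e (mkE A' A N' s' m) := by
    intro s' m
    rw [smul_mkE]
    rfl
  refine TensorProduct.induction_on
    (motive := fun x : ((ModuleCat.extendScalars (algebraMap A' A)).obj (ModuleCat.of A' N')) =>
      e (s • x) = s • e x) x ?_ ?_ ?_
  · exact (congrArg e (smul_zero s)).trans ((map_zero e).trans ((congrArg (s • ·) (map_zero e)).trans (smul_zero s)).symm)
  · exact key
  · intro x y hx hy
    have hx' : e (s • (show ((ModuleCat.extendScalars (algebraMap A' A)).obj (ModuleCat.of A' N')) from x)) = s • e x := hx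
    have hy' : e (s • (show ((ModuleCat.extendScalars (algebraMap A' A)).obj (ModuleCat.of A' N')) from y)) = s • e y := hy
    change e (s • ((show ((ModuleCat.extendScalars (algebraMap A' A)).obj (ModuleCat.of A' N')) from x) + (show ((ModuleCat.extendScalars (algebraMap A' A)).obj (ModuleCat.of A' N')) from y))) = s • e (_ + _)
    rw [smul_add, map_add, map_add, smul_add, hx', hy']

/-- `extendScalars` along `algebraMap` is the usual base change. -/
noncomputable def extendScalarsIso :
    (ModuleCat.extendScalars (algebraMap A' A)).obj (ModuleCat.of A' N') ≅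
      ModuleCat.of A (A ⊗[A'] N') :=
  LinearEquiv.toModuleIso (extendScalarsEquiv A' A N')

end
end PBH8
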