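import Groth.Agent.Lib.PB1_helper8
import Groth.Agent.Lib.PB2_helper8
set_option autoImplicit false
open CategoryTheory AlgebraicGeometry Opposite TopologicalSpace
universe u
namespace PBH8

section
variable {R S : CommRingCat.{u}} (φ : R ⟶ S)

lemma unit_pullbackTildeIso (M : ModuleCat.{u} R) :
    (adjR φ).unit.app M ≫ (pushΓIso φ).inv.app _ =
      (adjL φ).unit.app M ≫
        (Scheme.Modules.pushforward (Spec.map φ) ⋙ moduleSpecΓFunctor (R := R)).map
          ((pullbackTildeIso φ).hom.app M) := by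
  have := unit_conjugateEquiv (adjR φ) (adjL φ) (pullbackTildeIso φ).hom M
  rw [← this]
  congr 2
  simp [pullbackTildeIso]

end
end PBH8

namespace PBH8
section
open ChangeOfRings
variable {R S : CommRingCat.{u}} (φ : R ⟶ S)

lemma gamma_unit (M : ModuleCat.{u} R) (m : M) :
    ((pullbackTildeIso φ).hom.app M).app ⊤
      (((Scheme.Modules.pullbackPushforwardAdjunction (Spec.map φ)).unit.app (tilde M)).app ⊤
        ((tilde.toOpen M ⊤).hom m)) =
    (tilde.toOpen ((ModuleCat.extendScalars φ.hom).obj M) ⊤).hom ((1 : S) ⊗ₜ[R, φ.hom] m) := by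
  have h := congrArg (fun ψ => ψ.hom m) (unit_pullbackTildeIso φ M)
  exact h.symm

end
end PBH8

namespace PBH8
section
open ChangeOfRings TensorProduct
variable {R S : CommRingCat.{u}} (φ : R ⟶ S)

/-- the canonical map on global sections, as a morphism of `R`-modules. -/
noncomputable def c0Hom (N : (Spec R).Modules) :
    (moduleSpecΓFunctor (R := R)).obj N ⟶
      (ModuleCat.restrictScalars φ.hom).obj ((moduleSpecΓFunctor (R := S)).obj
        ((Scheme.Modules.pullback (Spec.map φ)).obj N)) :=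
  (moduleSpecΓFunctor (R := R)).map
      ((Scheme.Modules.pullbackPushforwardAdjunction (Spec.map φ)).unit.app N) ≫
    (pushΓIso φ).hom.app _

/-- the canonical map on global sections, as a function. -/
noncomputable def c0 (N : (Spec R).Modules) (x : Γ(N, ⊤)) :
    Γ((Scheme.Modules.pullback (Spec.map φ)).obj N, ⊤) :=
  ((Scheme.Modules.pullbackPushforwardAdjunction (Spec.map φ)).unit.app N).app ⊤ x

lemma c0Hom_apply (N : (Spec R).Modules) (x : Γ(N, ⊤)) :
    (c0Hom φ N).hom x = c0 φ N x := rfl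

lemma c0_add (N : (Spec R).Modules) (x y : Γ(N, ⊤)) :
    c0 φ N (x + y) = c0 φ N x + c0 φ N y :=
  (c0Hom φ N).hom.map_add x y

lemma c0_smul (N : (Spec R).Modules) (r : R) (x : Γ(N, ⊤)) :
    c0 φ N (r • x) = (φ.hom r) • c0 φ N x :=
  (c0Hom φ N).hom.map_smul r x

end
end PBH8

namespace PBH8
section
open ChangeOfRings TensorProduct
variable {R S : CommRingCat.{u}} (φ : R ⟶ S)

lemma c0_naturality {N N' : (Spec R).Modules} (u : N ⟶ N') (x : Γ(N, ⊤)) :
    ((Scheme.Modules.pullback (Spec.map φ)).map u).app ⊤ (c0 φ N x) = c0 φ N' (u.app ⊤ x) := by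
  have h := (Scheme.Modules.pullbackPushforwardAdjunction (Spec.map φ)).unit.naturality u
  have h2 := congrArg (fun ψ => (Scheme.Modules.Hom.app ψ ⊤) x) h
  exact h2.symm

lemma fromTildeΓ_toOpen (N : (Spec R).Modules) (x : Γ(N, ⊤)) :
    (N.fromTildeΓ).app ⊤ ((tilde.toOpen ((modulesSpecToSheaf.obj N).presheaf.obj (.op ⊤)) ⊤).hom x) = x := by
  have h := Scheme.Modules.toOpen_fromTildeΓ_app N ⊤
  have h2 := congrArg (fun ψ => ψ.hom x) h
  refine h2.trans ?_
  have : (homOfLE (le_top : (⊤ : (Spec R).Opens) ≤ ⊤)).op = 𝟙 _ := rfl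
  rw [this]
  exact congrArg (fun ψ => ψ.hom x) ((modulesSpecToSheaf.obj N).1.map_id _)

end
end PBH8

namespace PBH8
section
open ChangeOfRings TensorProduct
variable {R S : CommRingCat.{u}} (φ : R ⟶ S)

/-- quasi-coherent modules on `Spec R` are `tilde` of their global sections. -/
noncomputable def epsIso (N : (Spec R).Modules) [N.IsQuasicoherent] :
    tilde ((modulesSpecToSheaf.obj N).presheaf.obj (.op ⊤)) ≅ N :=
  haveI := Scheme.Modules.isIso_fromTildeΓ_of_isQuasicoherent N
  asIso (Scheme.Modules.fromTildeΓ N)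

lemma epsIso_hom (N : (Spec R).Modules) [N.IsQuasicoherent] :
    (epsIso N).hom = Scheme.Modules.fromTildeΓ N := rfl

/-- The comparison iso `S ⊗ Γ(N) ≅ Γ(g^* N)` for quasi-coherent `N` on `Spec R`. -/
noncomputable def specIso (N : (Spec R).Modules) [N.IsQuasicoherent] :
    letI := φ.hom.toAlgebra
    ModuleCat.of S (S ⊗[R] Γ(N, ⊤)) ≅
      (moduleSpecΓFunctor (R := S)).obj ((Scheme.Modules.pullback (Spec.map φ)).obj N) :=
  letI := φ.hom.toAlgebra
  (extendScalarsIso R S Γ(N, ⊤)).symm ≪≫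
    tilde.isoTop ((ModuleCat.extendScalars φ.hom).obj ((modulesSpecToSheaf.obj N).presheaf.obj (.op ⊤))) ≪≫
    (moduleSpecΓFunctor (R := S)).mapIso
      ((pullbackTildeIso φ).app ((modulesSpecToSheaf.obj N).presheaf.obj (.op ⊤))).symm ≪≫
    (moduleSpecΓFunctor (R := S)).mapIso
      ((Scheme.Modules.pullback (Spec.map φ)).mapIso (epsIso N))

end
end PBH8

namespace PBH8
section
open ChangeOfRings TensorProduct
variable {R S : CommRingCat.{u}} (φ : R ⟶ S)

lemma specIso_hom_one_tmul (N : (Spec R).Modules) [N.IsQuasicoherent] (x : Γ(N, ⊤)) :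
    letI := φ.hom.toAlgebra
    (specIso φ N).hom.hom ((1 : S) ⊗ₜ[R] x) = c0 φ N x := by
  letI := φ.hom.toAlgebra
  set M : ModuleCat R := (modulesSpecToSheaf.obj N).presheaf.obj (.op ⊤) with hM
  -- step 1 : γ (c0 (toOpen x)) = toOpen (1 ⊗ x)
  have h1 := gamma_unit φ M x
  -- step 2
  have h2 : ((pullbackTildeIso φ).inv.app M).app ⊤
      ((tilde.toOpen ((ModuleCat.extendScalars φ.hom).obj M) ⊤).hom ((1 : S) ⊗ₜ[R, φ.hom] x)) =
      c0 φ (tilde M) ((tilde.toOpen M ⊤).hom x) := by
    rw [← h1]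
    have := congrArg (fun ψ => (Scheme.Modules.Hom.app ψ ⊤)
      (c0 φ (tilde M) ((tilde.toOpen M ⊤).hom x))) ((pullbackTildeIso φ).hom_inv_id_app M)
    exact this
  have h3 := c0_naturality φ (epsIso N).hom ((tilde.toOpen M ⊤).hom x)
  rw [epsIso_hom] at h3
  have h4 := fromTildeΓ_toOpen N x
  rw [h4] at h3
  rw [← h3, ← h2]
  rfl

end
end PBH8

namespace PBH8
section
open ChangeOfRings TensorProduct
variable {R S : CommRingCat.{u}} (φ : R ⟶ S)

/-- Main affine statement: for quasi-coherent `N` on `Spec R`, the canonical map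
`Γ(N, ⊤) → Γ(g^* N, ⊤)` is a base change along `φ`. -/
theorem spec_isBaseChange (N : (Spec R).Modules) [N.IsQuasicoherent] :
    letI := φ.hom.toAlgebra
    letI : Module R Γ((Scheme.Modules.pullback (Spec.map φ)).obj N, ⊤) :=
      Module.compHom _ φ.hom
    haveI : IsScalarTower R S Γ((Scheme.Modules.pullback (Spec.map φ)).obj N, ⊤) :=
      IsScalarTower.of_algebraMap_smul fun _ _ => rfl
    IsBaseChange S
      ({ toFun := c0 φ N
         map_add' := c0_add φ N
         map_smul' := c0_smul φ N } : Γ(N, ⊤) →ₗ[R] Γ((Scheme.Modules.pullback (Spec.map φ)).obj N, ⊤)) := by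
  letI := φ.hom.toAlgebra
  letI : Module R Γ((Scheme.Modules.pullback (Spec.map φ)).obj N, ⊤) :=
    Module.compHom _ φ.hom
  haveI : IsScalarTower R S Γ((Scheme.Modules.pullback (Spec.map φ)).obj N, ⊤) :=
    IsScalarTower.of_algebraMap_smul fun _ _ => rfl
  exact IsBaseChange.of_equiv (specIso φ N).toLinearEquiv (specIso_hom_one_tmul φ N)

end
end PBH8
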