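import Mathlib
import Groth.Prelude
import Groth.Agent.Lib.LocIso1_helper8
import Groth.Agent.Lib.PB4_helper8
import Groth.Agent.Lib.FlatDesc21_helper8

/-!
# Noetherian approximation with a module, part 1: a quasi-coherent module on an affine scheme is the
pullback of the tilde of its global sections
-/

namespace Groth.Agent.Lib.FlatDescH8

open TensorProduct CategoryTheory AlgebraicGeometry Limits PBH8 Opposite

universe u

/-- A quasi-coherent module on an affine scheme is the pullback along `X ≅ Spec Γ(X)` of the tilde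
of its global sections. -/
theorem nonempty_iso_pullback_tilde {X : Scheme.{u}} [IsAffine X] (F : X.Modules)
    [F.IsQuasicoherent] :
    Nonempty (F ≅ (Scheme.Modules.pullback X.isoSpec.hom).obj
      (tilde (ModuleCat.of Γ(X, ⊤) Γ(F, ⊤)))) := by
  have hU : IsAffineOpen (⊤ : X.Opens) := isAffineOpen_top X
  have hcomp : X.isoSpec.hom ≫ hU.fromSpec = 𝟙 X := by
    rw [IsAffineOpen.fromSpec_top]
    simp
  let cF := Equiv.ofBijective _ (LocIsoH8.cUV_bijective F hU)
  have hcF : ∀ m, cF m = cUV hU.fromSpec F (LocIsoH8.top_le_preimage hU) m := fun _ => rfl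
  let E : Γ(F, ⊤) ≃ₗ[Γ(X, ⊤)] Γ((Scheme.Modules.pullback hU.fromSpec).obj F, ⊤) :=
    { cF with
      map_add' := fun x y => by
        show cF (x + y) = cF x + cF y
        rw [hcF, hcF, hcF, cUV_add]
      map_smul' := fun a m => by
        show cF (a • m) = a • cF m
        rw [hcF, hcF]
        exact (LocIsoH8.smul_cUV F hU a m).symm }
  haveI : ((Scheme.Modules.pullback hU.fromSpec).obj F).IsQuasicoherent := inferInstance
  let i0 : ModuleCat.of Γ(X, ⊤) Γ(F, ⊤) ≅
      (modulesSpecToSheaf.obj ((Scheme.Modules.pullback hU.fromSpec).obj F)).presheaf.obj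
        (op ⊤) := E.toModuleIso
  have key : F ≅ (Scheme.Modules.pullback X.isoSpec.hom).obj
      ((Scheme.Modules.pullback hU.fromSpec).obj F) :=
    (Scheme.Modules.pullbackId X).symm.app F ≪≫
      (Scheme.Modules.pullbackCongr hcomp.symm).app F ≪≫
      ((Scheme.Modules.pullbackComp X.isoSpec.hom hU.fromSpec).app F).symm
  exact ⟨key ≪≫ (Scheme.Modules.pullback X.isoSpec.hom).mapIso
    ((epsIso ((Scheme.Modules.pullback hU.fromSpec).obj F)).symm ≪≫
      (tilde.functor _).mapIso i0.symm)⟩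

/-- The pullback of the tilde of a model to an affine scheme recovers the module. -/
theorem nonempty_pullback_tilde_iso {X : Scheme.{u}} [IsAffine X] (F : X.Modules)
    [F.IsQuasicoherent] (S₀ : Type u) [CommRing S₀] [Algebra S₀ Γ(X, ⊤)]
    (M₀ : Type u) [AddCommGroup M₀] [Module S₀ M₀] [Module S₀ Γ(F, ⊤)]
    [IsScalarTower S₀ Γ(X, ⊤) Γ(F, ⊤)] (f' : M₀ →ₗ[S₀] Γ(F, ⊤))
    (hbc : IsBaseChange Γ(X, ⊤) f') :
    Nonempty ((Scheme.Modules.pullback
      (X.isoSpec.hom ≫ Spec.map (CommRingCat.ofHom (algebraMap S₀ Γ(X, ⊤))))).obj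
        (tilde (R := CommRingCat.of S₀) (ModuleCat.of S₀ M₀)) ≅ F) := by
  obtain ⟨iF⟩ := nonempty_iso_pullback_tilde F
  let φ : CommRingCat.of S₀ ⟶ Γ(X, ⊤) := CommRingCat.ofHom (algebraMap S₀ Γ(X, ⊤))
  let T : (Spec (CommRingCat.of S₀)).Modules :=
    tilde (R := CommRingCat.of S₀) (ModuleCat.of S₀ M₀)
  let i1 := (Scheme.Modules.pullbackComp X.isoSpec.hom (Spec.map φ)).app T
  let i2 := (pullbackTildeIso φ).app (ModuleCat.of S₀ M₀)
  let i3 := extendScalarsIso S₀ Γ(X, ⊤) M₀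
  let i4 : ModuleCat.of Γ(X, ⊤) (Γ(X, ⊤) ⊗[S₀] M₀) ≅ ModuleCat.of Γ(X, ⊤) Γ(F, ⊤) :=
    hbc.equiv.toModuleIso
  exact ⟨i1.symm ≪≫ (Scheme.Modules.pullback X.isoSpec.hom).mapIso
    (i2 ≪≫ (tilde.functor _).mapIso (i3 ≪≫ i4)) ≪≫ iF.symm⟩

end Groth.Agent.Lib.FlatDescH8
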