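import Mathlib
import Groth.Prelude
import Groth.Agent.Lib.NApxMod1_helper8
import Groth.Agent.Lib.QCohFP2_helper9
import Groth.Agent.Lib.TildeFlat_helper8

/-!
# Noetherian approximation with a module, part 2
-/

namespace Groth.Agent.Lib.FlatDescH8

open TensorProduct CategoryTheory AlgebraicGeometry Limits PBH8 Opposite

universe u

theorem appLE_top_eq {X S : Scheme.{u}} (f : X ⟶ S) (e : (⊤ : X.Opens) ≤ f ⁻¹ᵁ ⊤) :
    f.appLE ⊤ ⊤ e = f.appTop := by
  rw [Scheme.Hom.appLE]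
  have : X.presheaf.map (homOfLE e).op = 𝟙 _ := X.presheaf.map_id _
  rw [this]
  exact Category.comp_id _

/-- `tilde` of a finite module over a noetherian ring is coherent. -/
theorem isCoh_tilde (B₁ : Type u) [CommRing B₁] [IsNoetherianRing B₁] (M₁ : Type u)
    [AddCommGroup M₁] [Module B₁ M₁] [Module.Finite B₁ M₁] :
    Coh.IsCoh (tilde (R := CommRingCat.of B₁) (ModuleCat.of B₁ M₁)) := by
  haveI : Module.FinitePresentation B₁ M₁ := Module.finitePresentation_of_finite B₁ M₁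
  haveI : SheafOfModules.IsFinitePresentation (R := (Spec (CommRingCat.of B₁)).ringCatSheaf)
      (tilde (R := CommRingCat.of B₁) (ModuleCat.of B₁ M₁)) :=
    (QCohFP2.tilde_isFP_iff (R := CommRingCat.of B₁) (ModuleCat.of B₁ M₁)).mpr inferInstance
  exact ⟨inferInstance, inferInstance⟩

/-- **Noetherian approximation of a finitely presented morphism of affine schemes with a finitely
presented module.** -/
theorem noetherian_approximation_module {X S : Scheme.{u}} (f : X ⟶ S) [IsAffine X] [IsAffine S]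
    [LocallyOfFinitePresentation f] (F : X.Modules) [Coh.IsQCoh F] (hF : CohB1.IsFP F) :
    ∃ (X₀ S₀ : Scheme.{u}) (f₀ : X₀ ⟶ S₀) (g : S ⟶ S₀) (g' : X ⟶ X₀), IsAffine X₀ ∧ IsAffine S₀ ∧
      IsPullback g' f f₀ g ∧
      Algebra.FiniteType ℤ Γ(S₀, ⊤) ∧ LocallyOfFiniteType f₀ ∧
      ∃ F₀ : X₀.Modules, Coh.IsCoh F₀ ∧
        Nonempty ((Scheme.Modules.pullback g').obj F₀ ≅ F) := by
  letI : Algebra Γ(S, ⊤) Γ(X, ⊤) := f.appTop.hom.toAlgebra
  haveI : Algebra.FinitePresentation Γ(S, ⊤) Γ(X, ⊤) :=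
    (HasRingHomProperty.iff_of_isAffine (P := @LocallyOfFinitePresentation)).mp inferInstance
  haveI : SheafOfModules.IsFinitePresentation (R := X.ringCatSheaf) F := hF
  haveI : Module.FinitePresentation Γ(X, ⊤) Γ(F, ⊤) :=
    QCohFP2.finitePresentation_of_isFinitePresentation F (isAffineOpen_top X)
  obtain ⟨A₁, _, _, _, _, B₁, _, _, _, _, M₁, _, _, _, _, f', hft, -, hfp, hfin, hpush, hbc⟩ :=
    exists_model Γ(S, ⊤) Γ(X, ⊤) Γ(F, ⊤)
  haveI : IsNoetherianRing A₁ := Algebra.FiniteType.isNoetherianRing ℤ A₁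
  haveI : IsNoetherianRing B₁ := Algebra.FiniteType.isNoetherianRing A₁ B₁
  have hpo := CommRingCat.isPushout_of_isPushout A₁ Γ(S, ⊤) B₁ Γ(X, ⊤)
  have hpb := isPullback_of_isPushout_affine f A₁ B₁ (algebraMap A₁ Γ(S, ⊤)) (algebraMap A₁ B₁)
    (algebraMap B₁ Γ(X, ⊤)) hpo
  refine ⟨Spec (.of B₁), Spec (.of A₁), Spec.map (CommRingCat.ofHom (algebraMap A₁ B₁)), _, _,
    inferInstance, inferInstance, hpb, ?_, ?_, ?_⟩
  · exact Algebra.FiniteType.equiv hft
      (Scheme.ΓSpecIso (.of A₁)).commRingCatIsoToRingEquiv.symm.toIntAlgEquiv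
  · rw [HasRingHomProperty.Spec_iff (P := @LocallyOfFiniteType)]
    exact RingHom.finiteType_algebraMap.mpr inferInstance
  · exact ⟨tilde (R := CommRingCat.of B₁) (ModuleCat.of B₁ M₁), isCoh_tilde B₁ M₁,
      nonempty_pullback_tilde_iso F B₁ M₁ f' hbc⟩

/-- **Noetherian approximation of a finitely presented morphism of affine schemes with a flat
finitely presented module.** -/
theorem noetherian_approximation_flat_module {X S : Scheme.{u}} (f : X ⟶ S) [IsAffine X]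
    [IsAffine S] [LocallyOfFinitePresentation f] (F : X.Modules) [Coh.IsQCoh F]
    (hF : CohB1.IsFP F) (hfl : FlatMod.IsFlatOver f F) :
    ∃ (X₀ S₀ : Scheme.{u}) (f₀ : X₀ ⟶ S₀) (g : S ⟶ S₀) (g' : X ⟶ X₀), IsAffine X₀ ∧ IsAffine S₀ ∧
      IsPullback g' f f₀ g ∧
      Algebra.FiniteType ℤ Γ(S₀, ⊤) ∧ LocallyOfFiniteType f₀ ∧
      ∃ F₀ : X₀.Modules, Coh.IsCoh F₀ ∧ FlatMod.IsFlatOver f₀ F₀ ∧
        Nonempty ((Scheme.Modules.pullback g').obj F₀ ≅ F) := by
  letI : Algebra Γ(S, ⊤) Γ(X, ⊤) := f.appTop.hom.toAlgebra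
  haveI : Algebra.FinitePresentation Γ(S, ⊤) Γ(X, ⊤) :=
    (HasRingHomProperty.iff_of_isAffine (P := @LocallyOfFinitePresentation)).mp inferInstance
  haveI : SheafOfModules.IsFinitePresentation (R := X.ringCatSheaf) F := hF
  haveI : Module.FinitePresentation Γ(X, ⊤) Γ(F, ⊤) :=
    QCohFP2.finitePresentation_of_isFinitePresentation F (isAffineOpen_top X)
  letI : Module Γ(S, ⊤) Γ(F, ⊤) := Module.compHom Γ(F, ⊤) f.appTop.hom
  haveI : IsScalarTower Γ(S, ⊤) Γ(X, ⊤) Γ(F, ⊤) :=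
    IsScalarTower.of_algebraMap_smul (fun _ _ => rfl)
  have e : (⊤ : X.Opens) ≤ f ⁻¹ᵁ ⊤ := le_top
  haveI : Module.Flat Γ(S, ⊤) Γ(F, ⊤) := by
    have h1 := FlatSecH8.flat_sections_of_flat_stalks f F (isAffineOpen_top X) e (fun x hxU =>
      (FlatSecH8.isFlatOverAt_iff_flat_stalk f F (isAffineOpen_top S) e hxU).mp (hfl x))
    have h2 : f.appLE ⊤ ⊤ e = f.appTop := appLE_top_eq f e
    rw [h2] at h1
    exact h1
  obtain ⟨R₀, _, _, S₀, _, _, _, _, _, _, M₀, _, _, _, _, _, _, f', hft, hftS, hfin, hflat, hpush,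
    hbc⟩ := exists_finiteType_int_model Γ(S, ⊤) Γ(X, ⊤) Γ(F, ⊤)
  haveI : IsNoetherianRing R₀ := Algebra.FiniteType.isNoetherianRing ℤ R₀
  haveI : IsNoetherianRing S₀ := Algebra.FiniteType.isNoetherianRing R₀ S₀
  have hpo := CommRingCat.isPushout_of_isPushout R₀ Γ(S, ⊤) S₀ Γ(X, ⊤)
  have hpb := isPullback_of_isPushout_affine f R₀ S₀ (algebraMap R₀ Γ(S, ⊤)) (algebraMap R₀ S₀)
    (algebraMap S₀ Γ(X, ⊤)) hpo
  refine ⟨Spec (.of S₀), Spec (.of R₀), Spec.map (CommRingCat.ofHom (algebraMap R₀ S₀)), _, _,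
    inferInstance, inferInstance, hpb, ?_, ?_, ?_⟩
  · exact Algebra.FiniteType.equiv hft
      (Scheme.ΓSpecIso (.of R₀)).commRingCatIsoToRingEquiv.symm.toIntAlgEquiv
  · rw [HasRingHomProperty.Spec_iff (P := @LocallyOfFiniteType)]
    exact RingHom.finiteType_algebraMap.mpr hftS
  · exact ⟨tilde (R := CommRingCat.of S₀) (ModuleCat.of S₀ M₀), isCoh_tilde S₀ M₀,
      (TildeFlatH8.tilde_isFlatOver_iff R₀ S₀ M₀).mpr hflat,
      nonempty_pullback_tilde_iso F S₀ M₀ f' hbc⟩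

end Groth.Agent.Lib.FlatDescH8
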