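import Mathlib
import Groth.Prelude
import Groth.Agent.Lib.AlgzExt4_helper2
import Groth.Agent.Lib.NApxMod2_helper8
import Groth.Agent.Lib.ThickSq1_helper2

/-!
# Canonical extension from Mittag-Leffler + topology + finiteness (helper2)

* `range_le_of_imageSubobject_le`, `exists_stable_range` : Mittag-Leffler in terms of ranges;
* `exists_Lsub_of_liftable` : lifting along a tower through liftable subsets;
* `exists_limit_of_Lsub`, `range_π_eq` : the image of `lim H → H_n` is the stable image;
* `Qsys I M` : the system `M/I^{n+1}M`; `isProIsomorphic_Qsys`;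
* `smulMod_tilde`, `isQuot_tilde_map`, `isCohFormal_Qsys_tilde`;
* `main9534` (S9534).
APPEND-ONLY once landed.
-/

set_option autoImplicit false
set_option linter.style.haveILetI false
set_option backward.isDefEq.respectTransparency false
universe u
open CategoryTheory CategoryTheory.Limits AlgebraicGeometry TopologicalSpace Opposite

namespace Groth.Agent.Lib.AlgzExtH2

open Formal Groth.Agent.Lib.FormalModPowH4 Groth.Agent.Lib.FormalFnH2 Groth.Agent.Lib.FibAmpH2
  Groth.Agent.Lib.FormalQuotH2 Groth.Agent.Lib.AdicSysH2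

section Alg5

variable {A : Type u} [CommRing A]

lemma range_le_of_imageSubobject_le {M₁ M₂ N : ModuleCat.{u} A} (f : M₁ ⟶ N) (g : M₂ ⟶ N)
    (h : imageSubobject f ≤ imageSubobject g) :
    LinearMap.range f.hom ≤ LinearMap.range g.hom := by
  rintro _ ⟨x, rfl⟩
  have h1 : factorThruImageSubobject f ≫ Subobject.ofLE _ _ h ≫ (imageSubobject g).arrow = f := by
    rw [Subobject.ofLE_arrow, imageSubobject_arrow_comp]
  have h2 : (imageSubobject g).arrow = (imageSubobjectIso g).hom ≫
      (ModuleCat.imageIsoRange g).hom ≫ ModuleCat.ofHom (LinearMap.range g.hom).subtype := by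
    rw [ModuleCat.imageIsoRange_hom_subtype, imageSubobject_arrow]
  have h3 : f.hom x = ((ModuleCat.imageIsoRange g).hom.hom ((imageSubobjectIso g).hom.hom
      ((Subobject.ofLE _ _ h).hom ((factorThruImageSubobject f).hom x))) : N) := by
    conv_lhs => rw [← h1, h2]
    rfl
  rw [h3]
  exact Subtype.property _

theorem exists_stable_range (H : ARSys.PS (ModuleCat.{u} A)) (hML : ARSys.IsML H) (n : ℕ) :
    ∃ r : ℕ, ∀ (N : ℕ) (h : n + r ≤ N),
      LinearMap.range (T H ((Nat.le_add_right n r).trans h)) =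
        LinearMap.range (T H (Nat.le_add_right n r)) := by
  obtain ⟨r, hr⟩ := hML n
  refine ⟨r, fun N h => ?_⟩
  obtain ⟨s, rfl⟩ : ∃ s, N = n + s := ⟨N - n, by omega⟩
  have hs : r ≤ s := by omega
  have h1 := hr s hs
  exact le_antisymm (range_le_of_imageSubobject_le _ _ h1.le)
    (range_le_of_imageSubobject_le _ _ h1.ge)

theorem limit_π_T (H : ARSys.PS (ModuleCat.{u} A)) {n k : ℕ} (h : n ≤ k) (x : ↑(limit H)) :
    T H h ((limit.π H (op k)).hom x) = (limit.π H (op n)).hom x :=
  congrArg (fun f => f.hom x) (limit.w H (homOfLE h).op)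

theorem exists_limit_of_Lsub (H : ARSys.PS (ModuleCat.{u} A)) (z : Lsub H) :
    ∃ x : ↑(limit H), ∀ k, (limit.π H (op k)).hom x = z.1 k := by
  let c : Cone H :=
    { pt := ModuleCat.of A (Lsub H)
      π :=
        { app := fun j => ModuleCat.ofHom (πL H j.unop)
          naturality := by
            intro j j' f
            obtain ⟨n'⟩ := j
            obtain ⟨n⟩ := j'
            have hnn : n ≤ n' := leOfHom f.unop
            have hf : H.map f = ARSys.tr H hnn := congrArg H.map (Subsingleton.elim _ _)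
            apply ModuleCat.hom_ext
            apply LinearMap.ext
            intro y
            show πL H n y = (H.map f).hom (πL H n' y)
            rw [hf]
            exact (T_πL H hnn y).symm } }
  refine ⟨(limit.lift H c).hom z, fun k => ?_⟩
  exact congrArg (fun f => f.hom z) (limit.lift_π c (op k))

/-- lifting along a tower through a family of liftable subsets -/
theorem exists_Lsub_of_liftable (Y : ARSys.PS (ModuleCat.{u} A))
    (S : ∀ n, Set (Y.obj (op n)))
    (hS : ∀ n, ∀ y ∈ S n, ∃ x ∈ S (n + 1), T Y (Nat.le_succ n) x = y)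
    (n : ℕ) (v : Y.obj (op n)) (hv : v ∈ S n) : ∃ z : Lsub Y, πL Y n z = v := by
  classical
  have hS' : ∀ (k : ℕ) (y : Y.obj (op k)), ∃ x : Y.obj (op (k + 1)),
      y ∈ S k → (x ∈ S (k + 1) ∧ T Y (Nat.le_succ k) x = y) := by
    intro k y
    by_cases hy : y ∈ S k
    · obtain ⟨x, hx1, hx2⟩ := hS k y hy
      exact ⟨x, fun _ => ⟨hx1, hx2⟩⟩
    · exact ⟨0, fun h => absurd h hy⟩
  choose lift hlift using hS'
  let w : ∀ m, Y.obj (op m) := fun m =>
    Nat.rec (motive := fun m => Y.obj (op m)) (T Y (Nat.zero_le n) v)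
      (fun m wm => if h : m + 1 ≤ n then T Y h v else lift m wm) m
  have hw0 : w 0 = T Y (Nat.zero_le n) v := rfl
  have hws : ∀ m, w (m + 1) = if h : m + 1 ≤ n then T Y h v else lift m (w m) := fun m => rfl
  have hA : ∀ m (h : m ≤ n), w m = T Y h v := by
    intro m h
    cases m with
    | zero => exact hw0
    | succ m => rw [hws, dif_pos h]
  have hmem : ∀ m, n ≤ m → w m ∈ S m := by
    intro m hm
    induction m, hm using Nat.le_induction with
    | base =>
      rw [hA n le_rfl, T_refl]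
      exact hv
    | succ m hm ih =>
      rw [hws, dif_neg (by omega)]
      exact (hlift m (w m) ih).1
  have hB : ∀ m, T Y (Nat.le_succ m) (w (m + 1)) = w m := by
    intro m
    by_cases h : m + 1 ≤ n
    · rw [hws, dif_pos h, hA m (Nat.le_of_succ_le h), T_T]
    · rw [hws, dif_neg h]
      exact (hlift m (w m) (hmem m (by omega))).2
  refine ⟨⟨w, mem_Lsub_of_succ Y w hB⟩, ?_⟩
  show w n = v
  rw [hA n le_rfl, T_refl]

/-- under Mittag-Leffler, the image of `lim H → H_n` is the stable image -/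
theorem range_π_eq (H : ARSys.PS (ModuleCat.{u} A)) (r : ℕ → ℕ)
    (hr : ∀ (n N : ℕ) (h : n + r n ≤ N),
      LinearMap.range (T H ((Nat.le_add_right n (r n)).trans h)) =
        LinearMap.range (T H (Nat.le_add_right n (r n)))) (n : ℕ) :
    LinearMap.range (limit.π H (op n)).hom = LinearMap.range (T H (Nat.le_add_right n (r n))) := by
  apply le_antisymm
  · rintro _ ⟨x, rfl⟩
    exact ⟨(limit.π H (op (n + r n))).hom x, limit_π_T H _ x⟩
  · intro y hy
    have hS : ∀ k, ∀ y ∈ (LinearMap.range (T H (Nat.le_add_right k (r k))) : Set (H.obj (op k))),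
        ∃ x ∈ (LinearMap.range (T H (Nat.le_add_right (k + 1) (r (k + 1)))) :
          Set (H.obj (op (k + 1)))), T H (Nat.le_succ k) x = y := by
      intro k y hy
      have h1 : k + r k ≤ max (k + r k) (k + 1 + r (k + 1)) := le_max_left _ _
      have h2 : k + 1 + r (k + 1) ≤ max (k + r k) (k + 1 + r (k + 1)) := le_max_right _ _
      rw [SetLike.mem_coe, ← hr k _ h1] at hy
      obtain ⟨w, rfl⟩ := hy
      refine ⟨T H ((Nat.le_add_right (k + 1) (r (k + 1))).trans h2) w, ?_, ?_⟩
      · rw [SetLike.mem_coe, ← hr (k + 1) _ h2]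
        exact ⟨w, rfl⟩
      · rw [T_T]
    obtain ⟨z, hz⟩ := exists_Lsub_of_liftable H
      (fun k => (LinearMap.range (T H (Nat.le_add_right k (r k))) : Set (H.obj (op k)))) hS n y hy
    obtain ⟨x, hx⟩ := exists_limit_of_Lsub H z
    exact ⟨x, (hx n).trans hz⟩

variable (I : Ideal A) (M : Type u) [AddCommGroup M] [Module A M]

/-- the transition maps `M/I^{m+1}M → M/I^{n+1}M` -/
def qT {n m : ℕ} (h : n ≤ m) : Formal2.quotPow A I M m →ₗ[A] Formal2.quotPow A I M n :=
  Submodule.factor (Submodule.smul_mono_left (Ideal.pow_le_pow_right (Nat.succ_le_succ h)))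

theorem qT_mk {n m : ℕ} (h : n ≤ m) (x : M) :
    qT I M h (Submodule.Quotient.mk x) = Submodule.Quotient.mk x := rfl

/-- the system `n ↦ M/I^{n+1}M` -/
noncomputable def Qsys : ARSys.PS (ModuleCat.{u} A) where
  obj n := ModuleCat.of A (Formal2.quotPow A I M n.unop)
  map {n m} f := ModuleCat.ofHom (qT I M (leOfHom f.unop))
  map_id n := by
    apply ModuleCat.hom_ext
    apply LinearMap.ext
    intro x
    obtain ⟨y, rfl⟩ := Submodule.mkQ_surjective _ x
    show qT I M (leOfHom (𝟙 n).unop) (Submodule.Quotient.mk y) = Submodule.Quotient.mk y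
    exact qT_mk I M _ y
  map_comp f g := by
    apply ModuleCat.hom_ext
    apply LinearMap.ext
    intro x
    obtain ⟨y, rfl⟩ := Submodule.mkQ_surjective _ x
    show qT I M (leOfHom (f ≫ g).unop) (Submodule.Quotient.mk y) =
      qT I M (leOfHom g.unop) (qT I M (leOfHom f.unop) (Submodule.Quotient.mk y))
    rw [qT_mk, qT_mk, qT_mk]

theorem finite_quotPow_limit (H : ARSys.PS (ModuleCat.{u} A))
    (hb : ∀ k : ℕ, ∃ n : ℕ, LinearMap.ker (limit.π H (op n)).hom ≤
      I ^ k • (⊤ : Submodule A ↑(limit H)))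
    (hc : ∀ n : ℕ, Module.Finite A ↥(LinearMap.range (limit.π H (op n)).hom)) (n : ℕ) :
    Module.Finite A (Formal2.quotPow A I ↑(limit H) n) := by
  obtain ⟨k, hk⟩ := hb (n + 1)
  haveI := hc k
  let f : ↥(LinearMap.range (limit.π H (op k)).hom) →ₗ[A] Formal2.quotPow A I ↑(limit H) n :=
    (Submodule.factor hk) ∘ₗ
      (LinearMap.quotKerEquivRange (limit.π H (op k)).hom).symm.toLinearMap
  refine Module.Finite.of_surjective f ?_
  intro x
  obtain ⟨y, rfl⟩ := Submodule.mkQ_surjective _ x
  refine ⟨⟨(limit.π H (op k)).hom y, ⟨y, rfl⟩⟩, ?_⟩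
  show Submodule.factor hk ((LinearMap.quotKerEquivRange (limit.π H (op k)).hom).symm
    ⟨(limit.π H (op k)).hom y, ⟨y, rfl⟩⟩) = _
  rw [LinearMap.quotKerEquivRange_symm_apply_image]
  rfl

theorem isProIsomorphic_Qsys_aux (H : ARSys.PS (ModuleCat.{u} A))
    (k m : ℕ → ℕ) (hk_mono : ∀ a b : ℕ, a ≤ b → k a ≤ k b) (hk_ge : ∀ n, n ≤ k n)
    (hm : Monotone m) (hm' : ∀ a b : ℕ, a ≤ b → m a ≤ m b) (hle : ∀ n, n ≤ m n)
    (hkm : ∀ n, k n ≤ m n)
    (hker : ∀ n, LinearMap.ker (limit.π H (op (k n))).hom ≤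
      I ^ (n + 1) • (⊤ : Submodule A ↑(limit H)))
    (hrange : ∀ (n : ℕ) (x : H.obj (op (m n))),
      T H (hkm n) x ∈ LinearMap.range (limit.π H (op (k n))).hom)
    (hkill : ∀ n, I ^ (n + 1) • (⊤ : Submodule A (H.obj (op n))) = ⊥) :
    Algz.IsProIsomorphic H (Qsys I ↑(limit H)) := by
  classical
  have hp : ∀ (n k : ℕ) (h : n ≤ k) (x : ↑(limit H)),
      T H h ((limit.π H (op k)).hom x) = (limit.π H (op n)).hom x :=
    fun n k h x => limit_π_T H h x
  have hℓle : ∀ n, I ^ (n + 1) • (⊤ : Submodule A ↑(limit H)) ≤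
      LinearMap.ker (limit.π H (op n)).hom := by
    intro n x hx
    have h1 := map_mem_smul_top (I ^ (n + 1)) (limit.π H (op n)).hom hx
    rw [hkill n] at h1
    exact (Submodule.mem_bot A).mp h1
  obtain ⟨ℓ, hℓ⟩ : ∃ ℓ : ∀ n, Formal2.quotPow A I ↑(limit H) n →ₗ[A] H.obj (op n),
      ∀ n x, ℓ n (Submodule.Quotient.mk x) = (limit.π H (op n)).hom x :=
    ⟨fun n => Submodule.liftQ _ (limit.π H (op n)).hom (hℓle n), fun n x => rfl⟩
  obtain ⟨σ, hσ⟩ : ∃ σ : ∀ n, H.obj (op (m n)) →ₗ[A] Formal2.quotPow A I ↑(limit H) n,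
      ∀ (n : ℕ) (x : H.obj (op (m n))) (y : ↑(limit H)),
        (limit.π H (op (k n))).hom y = T H (hkm n) x → σ n x = Submodule.Quotient.mk y := by
    refine ⟨fun n => (Submodule.factor (hker n)) ∘ₗ
      (LinearMap.quotKerEquivRange (limit.π H (op (k n))).hom).symm.toLinearMap ∘ₗ
        LinearMap.codRestrict (LinearMap.range (limit.π H (op (k n))).hom) (T H (hkm n))
          (hrange n), ?_⟩
    intro n x y hy
    have e1 : LinearMap.codRestrict (LinearMap.range (limit.π H (op (k n))).hom) (T H (hkm n))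
        (hrange n) x = ⟨(limit.π H (op (k n))).hom y, ⟨y, rfl⟩⟩ := Subtype.ext hy.symm
    show Submodule.factor (hker n)
      ((LinearMap.quotKerEquivRange (limit.π H (op (k n))).hom).symm
        (LinearMap.codRestrict (LinearMap.range (limit.π H (op (k n))).hom) (T H (hkm n))
          (hrange n) x)) = _
    rw [e1, LinearMap.quotKerEquivRange_symm_apply_image]
    rfl
  have hσex : ∀ (n : ℕ) (x : H.obj (op (m n))),
      ∃ y, (limit.π H (op (k n))).hom y = T H (hkm n) x := fun n x => hrange n x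
  have hnat : ∀ (n n' : ℕ) (hnn : n ≤ n') (x : H.obj (op (m n'))),
      σ n (T H (hm' n n' hnn) x) = qT I ↑(limit H) hnn (σ n' x) := by
    intro n n' hnn x
    obtain ⟨y', hy'⟩ := hσex n' x
    rw [hσ n' x y' hy']
    have hy : (limit.π H (op (k n))).hom y' = T H (hkm n) (T H (hm' n n' hnn) x) := by
      rw [← hp (k n) (k n') (hk_mono n n' hnn) y', hy', T_T, T_T]
    rw [hσ n _ y' hy, qT_mk]
  let a : DerCA.reindex H hm ⟶ Qsys I ↑(limit H) :=
    { app := fun j => ModuleCat.ofHom (σ j.unop)
      naturality := by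
        intro j j' f
        obtain ⟨n'⟩ := j
        obtain ⟨n⟩ := j'
        have hnn : n ≤ n' := leOfHom f.unop
        apply ModuleCat.hom_ext
        apply LinearMap.ext
        intro x
        have hf : (DerCA.reindex H hm).map f = ARSys.tr H (hm' n n' hnn) :=
          congrArg H.map (Subsingleton.elim _ _)
        have e3 : ((DerCA.reindex H hm).map f).hom x = T H (hm' n n' hnn) x := by
          rw [hf]
          rfl
        show σ n (((DerCA.reindex H hm).map f).hom x) = qT I _ (leOfHom f.unop) (σ n' x)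
        rw [e3]
        exact hnat n n' hnn x }
  refine ⟨m, hm, hle, a, fun n => ⟨m n, hle n, ModuleCat.ofHom (ℓ (m n)), ?_, ?_⟩⟩
  · apply ModuleCat.hom_ext
    apply LinearMap.ext
    intro x
    show ℓ (m n) (σ (m n) x) = (ARSys.tr (DerCA.reindex H hm) (hle n)).hom x
    obtain ⟨y, hy⟩ := hσex (m n) x
    rw [hσ (m n) x y hy, hℓ]
    have e : (ARSys.tr (DerCA.reindex H hm) (hle n)).hom x = T H (hm' n (m n) (hle n)) x := rfl
    rw [e, ← hp (m n) (k (m n)) (hk_ge (m n)) y, hy, T_T]
  · apply ModuleCat.hom_ext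
    apply LinearMap.ext
    intro x
    obtain ⟨y, rfl⟩ := Submodule.mkQ_surjective _ x
    show σ n (ℓ (m n) (Submodule.Quotient.mk y)) =
      (ARSys.tr (Qsys I ↑(limit H)) (hle n)).hom (Submodule.Quotient.mk y)
    rw [hℓ, hσ n ((limit.π H (op (m n))).hom y) y (hp (k n) (m n) (hkm n) y).symm]
    exact (qT_mk I _ (hle n) y).symm

theorem isProIsomorphic_Qsys (H : ARSys.PS (ModuleCat.{u} A))
    (hML : ARSys.IsML H)
    (hb : ∀ k : ℕ, ∃ n : ℕ, LinearMap.ker (limit.π H (op n)).hom ≤
      I ^ k • (⊤ : Submodule A ↑(limit H)))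
    (hkill : ∀ n, I ^ (n + 1) • (⊤ : Submodule A (H.obj (op n))) = ⊥) :
    Algz.IsProIsomorphic H (Qsys I ↑(limit H)) := by
  classical
  choose r hr using exists_stable_range H hML
  choose k₀ hk₀ using fun n => hb (n + 1)
  have hp : ∀ (n k : ℕ) (h : n ≤ k) (x : ↑(limit H)),
      T H h ((limit.π H (op k)).hom x) = (limit.π H (op n)).hom x :=
    fun n k h x => limit_π_T H h x
  have hkermono : ∀ (n k : ℕ) (h : n ≤ k), LinearMap.ker (limit.π H (op k)).hom ≤
      LinearMap.ker (limit.π H (op n)).hom := by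
    intro n k h x hx
    rw [LinearMap.mem_ker] at hx ⊢
    rw [← hp n k h, hx, map_zero]
  obtain ⟨k, hk_mono, hk_ge, hk₀_le⟩ : ∃ k : ℕ → ℕ, (∀ a b : ℕ, a ≤ b → k a ≤ k b) ∧
      (∀ n, n ≤ k n) ∧ (∀ n, k₀ n ≤ k n) :=
    ⟨fun n => (Finset.range (n + 1)).sup k₀ + n,
      fun a b hab => Nat.add_le_add
        (Finset.sup_mono (Finset.range_mono (Nat.succ_le_succ hab))) hab,
      fun n => Nat.le_add_left _ _,
      fun n => (Finset.le_sup (f := k₀) (Finset.self_mem_range_succ n)).trans
        (Nat.le_add_right _ _)⟩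
  have hker : ∀ n, LinearMap.ker (limit.π H (op (k n))).hom ≤
      I ^ (n + 1) • (⊤ : Submodule A ↑(limit H)) :=
    fun n => (hkermono _ _ (hk₀_le n)).trans (hk₀ n)
  obtain ⟨m, hm', hle, hψm⟩ : ∃ m : ℕ → ℕ, (∀ a b : ℕ, a ≤ b → m a ≤ m b) ∧
      (∀ n, n ≤ m n) ∧ (∀ n, k n + r (k n) ≤ m n) :=
    ⟨fun n => (Finset.range (n + 1)).sup (fun n => k n + r (k n)) + n,
      fun a b hab => Nat.add_le_add
        (Finset.sup_mono (Finset.range_mono (Nat.succ_le_succ hab))) hab,
      fun n => Nat.le_add_left _ _,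
      fun n => (Finset.le_sup (f := fun n => k n + r (k n)) (Finset.self_mem_range_succ n)).trans
        (Nat.le_add_right _ _)⟩
  have hm : Monotone m := fun a b hab => hm' a b hab
  have hkm : ∀ n, k n ≤ m n := fun n => (Nat.le_add_right _ _).trans (hψm n)
  have hrange : ∀ (n : ℕ) (x : H.obj (op (m n))),
      T H (hkm n) x ∈ LinearMap.range (limit.π H (op (k n))).hom := by
    intro n x
    rw [range_π_eq H r hr (k n), ← hr (k n) (m n) (hψm n)]
    exact ⟨x, rfl⟩
  exact isProIsomorphic_Qsys_aux I H k m hk_mono hk_ge hm hm' hle hkm hker hrange hkill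

end Alg5

section Tilde5

variable (A : Type u) [CommRing A] (I : Ideal A)

noncomputable local instance (priority := 10000) selfOver5 :
    (Spec (CommRingCat.of A)).Over (Spec (CommRingCat.of A)) := ⟨𝟙 _⟩

theorem smulMod_tilde (N : ModuleCat.{u} A) (a : A) :
    Formal.smulMod A ((tilde.functor (CommRingCat.of A)).obj N) a =
      (tilde.functor (CommRingCat.of A)).map
        (ModuleCat.ofHom (a • (LinearMap.id : N →ₗ[A] N))) := by
  apply ((tilde.adjunction (R := CommRingCat.of A)).homEquiv N _).injective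
  rw [Adjunction.homEquiv_unit, Adjunction.homEquiv_unit]
  have h1 := (tilde.adjunction (R := CommRingCat.of A)).unit.naturality
    (ModuleCat.ofHom (a • (LinearMap.id : N →ₗ[A] N)))
  rw [Functor.comp_map] at h1
  rw [← h1]
  apply ModuleCat.hom_ext
  apply LinearMap.ext
  intro x
  show (moduleSpecΓFunctor.map (Formal.smulMod A ((tilde.functor (CommRingCat.of A)).obj N) a)).hom
    (((tilde.adjunction (R := CommRingCat.of A)).unit.app N).hom x) =
      ((tilde.adjunction (R := CommRingCat.of A)).unit.app N).hom (a • x)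
  rw [map_smul]
  rfl

theorem isQuot_tilde_map (J : Ideal A) {N N' : ModuleCat.{u} A} (t : N ⟶ N')
    (hsurj : Function.Surjective t.hom)
    (hker : LinearMap.ker t.hom = J • (⊤ : Submodule A N)) :
    IsQuot J ((tilde.functor (CommRingCat.of A)).map t) := by
  haveI : Epi t := (ModuleCat.epi_iff_surjective t).mpr hsurj
  haveI : (tilde.functor (CommRingCat.of A)).IsLeftAdjoint :=
    (tilde.adjunction (R := CommRingCat.of A)).isLeftAdjoint
  haveI : (tilde.functor (CommRingCat.of A)).PreservesZeroMorphisms :=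
    Functor.preservesZeroMorphisms_of_isLeftAdjoint _
  haveI : (moduleSpecΓFunctor (R := CommRingCat.of A)).IsRightAdjoint :=
    (tilde.adjunction (R := CommRingCat.of A)).isRightAdjoint
  haveI : (moduleSpecΓFunctor (R := CommRingCat.of A)).PreservesZeroMorphisms :=
    Functor.preservesZeroMorphisms_of_isRightAdjoint _
  haveI : (tilde.functor (CommRingCat.of A)).PreservesEpimorphisms :=
    Functor.preservesEpimorphisms_of_adjunction (tilde.adjunction (R := CommRingCat.of A))
  refine ⟨fun a ha => ?_, inferInstance, fun Z g hg => ?_⟩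
  · rw [smulMod_tilde, ← Functor.map_comp]
    have h0 : ModuleCat.ofHom (a • (LinearMap.id : N →ₗ[A] N)) ≫ t = 0 := by
      apply ModuleCat.hom_ext
      apply LinearMap.ext
      intro x
      show t.hom (a • x) = 0
      have h1 : a • x ∈ LinearMap.ker t.hom := by
        rw [hker]
        exact Submodule.smul_mem_smul ha Submodule.mem_top
      exact h1
    rw [h0, Functor.map_zero]
  · obtain ⟨g', hg'def⟩ : ∃ g' : N ⟶ moduleSpecΓFunctor.obj Z,
        g' = (tilde.adjunction (R := CommRingCat.of A)).homEquiv N Z g := ⟨_, rfl⟩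
    have hg' : ∀ a ∈ J, ∀ x : N, g'.hom (a • x) = 0 := by
      intro a ha x
      have h1 : ModuleCat.ofHom (a • (LinearMap.id : N →ₗ[A] N)) ≫ g' = 0 := by
        rw [hg'def, ← Adjunction.homEquiv_naturality_left, ← smulMod_tilde, hg a ha,
          Adjunction.homEquiv_unit, Functor.map_zero, comp_zero]
      exact congrArg (fun φ => φ.hom x) h1
    have hle : LinearMap.ker t.hom ≤ LinearMap.ker g'.hom := by
      rw [hker, Submodule.smul_le]
      intro a ha x _
      exact hg' a ha x
    obtain ⟨h, hh⟩ : ∃ h : N' ⟶ moduleSpecΓFunctor.obj Z,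
        ∀ x : N, h.hom (t.hom x) = g'.hom x := by
      refine ⟨ModuleCat.ofHom (X := N') (Y := ↑(moduleSpecΓFunctor.obj Z))
        (((LinearMap.ker t.hom).liftQ g'.hom hle) ∘ₗ
          (LinearMap.quotKerEquivOfSurjective t.hom hsurj).symm.toLinearMap), fun x => ?_⟩
      show (LinearMap.ker t.hom).liftQ g'.hom hle
        ((LinearMap.quotKerEquivOfSurjective t.hom hsurj).symm (t.hom x)) = g'.hom x
      rw [LinearMap.quotKerEquivOfSurjective_symm_apply]
      rfl
    have hth : t ≫ h = g' := by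
      apply ModuleCat.hom_ext
      apply LinearMap.ext
      intro x
      exact hh x
    refine ⟨((tilde.adjunction (R := CommRingCat.of A)).homEquiv N' Z).symm h, ?_⟩
    rw [← Adjunction.homEquiv_naturality_left_symm, hth, hg'def, Equiv.symm_apply_apply]

theorem smul_top_quotPow_eq_bot (M : Type u) [AddCommGroup M] [Module A M] (n : ℕ) :
    I ^ (n + 1) • (⊤ : Submodule A (Formal2.quotPow A I M n)) = ⊥ := by
  rw [eq_bot_iff]
  intro x hx
  refine Submodule.smul_induction_on hx (fun a ha y _ => ?_)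
    (fun y z hy hz => Submodule.add_mem _ hy hz)
  obtain ⟨w, rfl⟩ := Submodule.mkQ_surjective _ y
  rw [Submodule.mem_bot]
  show Submodule.Quotient.mk (a • w) = 0
  rw [Submodule.Quotient.mk_eq_zero]
  exact Submodule.smul_mem_smul ha Submodule.mem_top

theorem isCohFormal_Qsys_tilde [IsNoetherianRing A] (M : Type u) [AddCommGroup M] [Module A M]
    (hfin : ∀ n, Module.Finite A (Formal2.quotPow A I M n)) :
    Formal.IsCohFormal I (Qsys I M ⋙ tilde.functor (CommRingCat.of A)) := by
  haveI : (tilde.functor (CommRingCat.of A)).IsLeftAdjoint :=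
    (tilde.adjunction (R := CommRingCat.of A)).isLeftAdjoint
  haveI : (tilde.functor (CommRingCat.of A)).PreservesZeroMorphisms :=
    Functor.preservesZeroMorphisms_of_isLeftAdjoint _
  refine ⟨fun n => ?_, fun n a ha => ?_, fun n => ?_⟩
  · haveI := hfin n
    exact Groth.Agent.Lib.FlatDescH8.isCoh_tilde A (Formal2.quotPow A I M n)
  · show Formal.smulMod A ((tilde.functor (CommRingCat.of A)).obj ((Qsys I M).obj (op n))) a = 0
    rw [smulMod_tilde]
    have h0 : ModuleCat.ofHom (a • (LinearMap.id :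
        ((Qsys I M).obj (op n)) →ₗ[A] ((Qsys I M).obj (op n)))) = 0 := by
      apply ModuleCat.hom_ext
      apply LinearMap.ext
      intro x
      show a • x = 0
      have h1 : a • x ∈ I ^ (n + 1) • (⊤ : Submodule A (Formal2.quotPow A I M n)) :=
        Submodule.smul_mem_smul ha Submodule.mem_top
      rw [smul_top_quotPow_eq_bot] at h1
      exact (Submodule.mem_bot A).mp h1
    rw [h0, Functor.map_zero]
  · refine (isQuot_tilde_map A (I ^ (n + 1)) ((Qsys I M).map (homOfLE (Nat.le_succ n)).op)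
      ?_ ?_).cond
    · intro x
      obtain ⟨w, rfl⟩ := Submodule.mkQ_surjective _ x
      exact ⟨Submodule.Quotient.mk w, rfl⟩
    · ext x
      obtain ⟨w, rfl⟩ := Submodule.mkQ_surjective _ x
      constructor
      · intro hx
        have h1 : (Submodule.Quotient.mk w : Formal2.quotPow A I M n) = 0 := hx
        rw [Submodule.Quotient.mk_eq_zero] at h1
        exact map_mem_smul_top (I ^ (n + 1)) (Submodule.mkQ _) h1
      · intro hx
        rw [LinearMap.mem_ker]
        have h1 := map_mem_smul_top (I ^ (n + 1))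
          (((Qsys I M).map (homOfLE (Nat.le_succ n)).op).hom) hx
        rw [smul_top_quotPow_eq_bot] at h1
        exact (Submodule.mem_bot A).mp h1

theorem sectMod_killed (U : (Spec (CommRingCat.of A)).Opens)
    (G : ℕᵒᵖ ⥤ (↑U : Scheme.{u}).Modules)
    (hG : ∀ n, Formal.KilledBy (I ^ (n + 1)) (G.obj (op n))) (n : ℕ) :
    I ^ (n + 1) • (⊤ : Submodule A ((Algz.sectMod A U G).obj (op n))) = ⊥ := by
  rw [eq_bot_iff]
  intro x hx
  refine Submodule.smul_induction_on hx (fun a ha y _ => ?_)
    (fun y z hy hz => Submodule.add_mem _ hy hz)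
  rw [Submodule.mem_bot]
  have e : a • y = (Formal.smulMod A ((Scheme.Modules.pushforward U.ι).obj (G.obj (op n))) a).app
      ⊤ y := rfl
  have h1 : Formal.smulMod A ((Scheme.Modules.pushforward U.ι).obj (G.obj (op n))) a = 0 := by
    rw [← Groth.Agent.Lib.ThickH2.push_smulMod' U.ι (Category.comp_id _), hG n a ha, Functor.map_zero]
  rw [e, h1]
  rfl

/-- **S9534** -/
theorem main9534 [IsNoetherianRing A] (U : (Spec (CommRingCat.of A)).Opens)
    (G : ℕᵒᵖ ⥤ (↑U : Scheme.{u}).Modules) (hG : Formal.IsCohFormal I G)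
    (ha : ARSys.IsML (Algz.sectMod A U G))
    (hb : ∀ k : ℕ, ∃ n : ℕ, LinearMap.ker (limit.π (Algz.sectMod A U G) (op n)).hom ≤
      I ^ k • (⊤ : Submodule A ↑(limit (Algz.sectMod A U G))))
    (hc : ∀ n : ℕ, Module.Finite A
      ↥(LinearMap.range (limit.π (Algz.sectMod A U G) (op n)).hom)) :
    Algz.CanonicallyExtends A I U G := by
  refine ⟨Qsys I ↑(limit (Algz.sectMod A U G)) ⋙ tilde.functor (CommRingCat.of A),
    isCohFormal_Qsys_tilde A I _ (finite_quotPow_limit I (Algz.sectMod A U G) hb hc), ?_⟩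
  exact isProIsomorphic_whiskerRight
    (isProIsomorphic_Qsys I (Algz.sectMod A U G) ha hb (sectMod_killed A I U G hG.2.1))
    (tilde.functor (CommRingCat.of A))

end Tilde5

end Groth.Agent.Lib.AlgzExtH2
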