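import Mathlib
import Groth.Prelude
import Groth.Agent.Lib.AlgzExt5_helper2

/-!
# The map from the limit of sections to `F_n` is an epimorphism (helper2)

* `epi_restrict_tilde_π` : under Mittag-Leffler, `(lim H⁰(U, G_k))~|_U → (H⁰(U, G_n))~|_U` is epi;
* `main9551` (S9551).
APPEND-ONLY once landed.
-/

set_option autoImplicit false
set_option linter.style.haveILetI false
set_option backward.isDefEq.respectTransparency false
universe u
open CategoryTheory CategoryTheory.Limits AlgebraicGeometry TopologicalSpace Opposite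

namespace Groth.Agent.Lib.AlgzExtH2

open Formal Groth.Agent.Lib.FormalModPowH4 Groth.Agent.Lib.FormalFnH2 Groth.Agent.Lib.FibAmpH2
  Groth.Agent.Lib.FormalQuotH2 Groth.Agent.Lib.AdicSysH2

section Epi6

variable (A : Type u) [CommRing A] [IsNoetherianRing A] (I : Ideal A)
  (U : (Spec (CommRingCat.of A)).Opens)

noncomputable local instance (priority := 10000) selfOver6 :
    (Spec (CommRingCat.of A)).Over (Spec (CommRingCat.of A)) := ⟨𝟙 _⟩

/-- `(H⁰(U, G_N))~|_U → (H⁰(U, G_n))~|_U` is an epimorphism -/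
theorem epi_restrict_tilde_tr (G : ℕᵒᵖ ⥤ (↑U : Scheme.{u}).Modules)
    (hG : Formal.IsCohFormal I G) {n N : ℕ} (hN : n ≤ N) :
    Epi ((Scheme.Modules.restrictFunctor U.ι).map ((tilde.functor (CommRingCat.of A)).map
      (ARSys.tr (Algz.sectMod A U G) hN))) := by
  have hq : ∀ k, (G.obj (op k)).IsQuasicoherent := fun k => (hG.1 k).1
  have h1 := (secIso A U G hq).hom.naturality (homOfLE hN).op
  haveI : Epi (G.map (homOfLE hN).op) := (isQuot_gm hG hN).2.1
  have h2 : (Algz.sectSys A U G ⋙ Scheme.Modules.restrictFunctor U.ι).map (homOfLE hN).op =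
      (secIso A U G hq).hom.app (op N) ≫ G.map (homOfLE hN).op ≫
        (secIso A U G hq).inv.app (op n) := by
    rw [← Category.assoc, ← h1, Category.assoc, Iso.hom_inv_id_app, Category.comp_id]
  have h3 : Epi ((Algz.sectSys A U G ⋙ Scheme.Modules.restrictFunctor U.ι).map
      (homOfLE hN).op) := by
    rw [h2]
    infer_instance
  exact h3

theorem epi_restrict_tilde_π (G : ℕᵒᵖ ⥤ (↑U : Scheme.{u}).Modules)
    (hG : Formal.IsCohFormal I G) (ha : ARSys.IsML (Algz.sectMod A U G)) (n : ℕ) :
    Epi ((Scheme.Modules.restrictFunctor U.ι).map ((tilde.functor (CommRingCat.of A)).map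
      (limit.π (Algz.sectMod A U G) (op n)))) := by
  classical
  choose r hr using exists_stable_range (Algz.sectMod A U G) ha
  have hrange := range_π_eq (Algz.sectMod A U G) r hr n
  obtain ⟨N, hN, hNr⟩ : ∃ (N : ℕ) (hN : n ≤ N),
      LinearMap.range (limit.π (Algz.sectMod A U G) (op n)).hom =
        LinearMap.range (ARSys.tr (Algz.sectMod A U G) hN).hom :=
    ⟨n + r n, Nat.le_add_right n (r n), hrange⟩
  haveI : (tilde.functor (CommRingCat.of A)).PreservesEpimorphisms :=
    Functor.preservesEpimorphisms_of_adjunction (tilde.adjunction (R := CommRingCat.of A))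
  haveI : (Scheme.Modules.restrictFunctor U.ι).PreservesEpimorphisms :=
    Functor.preservesEpimorphisms_of_adjunction (Scheme.Modules.restrictAdjunction U.ι)
  -- the common image
  obtain ⟨R, hR⟩ : ∃ R : Submodule A ((Algz.sectMod A U G).obj (op n)),
      R = LinearMap.range (ARSys.tr (Algz.sectMod A U G) hN).hom := ⟨_, rfl⟩
  have hR' : LinearMap.range (limit.π (Algz.sectMod A U G) (op n)).hom = R := hNr.trans hR.symm
  let e : limit (Algz.sectMod A U G) ⟶ ModuleCat.of A R :=
    ModuleCat.ofHom (X := ↑(limit (Algz.sectMod A U G))) (Y := ↥R)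
      (LinearMap.codRestrict R (limit.π (Algz.sectMod A U G) (op n)).hom
      (fun x => by rw [← hR']; exact ⟨x, rfl⟩))
  let e' : (Algz.sectMod A U G).obj (op N) ⟶ ModuleCat.of A R :=
    ModuleCat.ofHom (X := ↑((Algz.sectMod A U G).obj (op N))) (Y := ↥R)
      (LinearMap.codRestrict R (ARSys.tr (Algz.sectMod A U G) hN).hom
      (fun x => by rw [hR]; exact ⟨x, rfl⟩))
  let ι : ModuleCat.of A R ⟶ (Algz.sectMod A U G).obj (op n) :=
    ModuleCat.ofHom (X := ↥R) (Y := ↑((Algz.sectMod A U G).obj (op n))) R.subtype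
  have he : e ≫ ι = limit.π (Algz.sectMod A U G) (op n) := rfl
  have he' : e' ≫ ι = ARSys.tr (Algz.sectMod A U G) hN := rfl
  haveI : Epi e := by
    rw [ModuleCat.epi_iff_surjective]
    rintro ⟨y, hy⟩
    rw [← hR'] at hy
    obtain ⟨x, rfl⟩ := hy
    exact ⟨x, rfl⟩
  -- restrict ∘ tilde of ι is epi
  have h1 := epi_restrict_tilde_tr A I U G hG hN
  rw [← he', Functor.map_comp, Functor.map_comp] at h1
  haveI : Epi ((Scheme.Modules.restrictFunctor U.ι).map
      ((tilde.functor (CommRingCat.of A)).map ι)) :=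
    @epi_of_epi _ _ _ _ _ ((Scheme.Modules.restrictFunctor U.ι).map
      ((tilde.functor (CommRingCat.of A)).map e')) _ h1
  rw [← he, Functor.map_comp, Functor.map_comp]
  infer_instance

/-- **S9551** -/
theorem main9551 (G : ℕᵒᵖ ⥤ (↑U : Scheme.{u}).Modules) (hG : Formal.IsCohFormal I G)
    (ha : ARSys.IsML (Algz.sectMod A U G)) (n : ℕ) :
    Epi (((Scheme.Modules.restrictAdjunction U.ι).homEquiv _ (G.obj (op n))).symm
      (((tilde.adjunction (R := CommRingCat.of A)).homEquiv (limit (Algz.sectMod A U G))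
        ((Scheme.Modules.pushforward U.ι).obj (G.obj (op n)))).symm
          (limit.π (Algz.sectMod A U G) (op n)))) := by
  haveI : QuasiCompact U.ι := SubExt.quasiCompact_ι_of_locNoeth (hXSpec A) U
  haveI : (G.obj (op n)).IsQuasicoherent := (hG.1 n).1
  haveI : ((Scheme.Modules.pushforward U.ι).obj (G.obj (op n))).IsQuasicoherent :=
    QcqsLoc.isQuasicoherent_pushforward_qcqs U.ι _
  haveI hc1 : IsIso ((tilde.adjunction (R := CommRingCat.of A)).counit.app
      ((Scheme.Modules.pushforward U.ι).obj (G.obj (op n)))) :=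
    isIso_counit_app A ((Scheme.Modules.pushforward U.ι).obj (G.obj (op n)))
  haveI := epi_restrict_tilde_π A I U G hG ha n
  rw [Adjunction.homEquiv_counit, Adjunction.homEquiv_counit, Functor.map_comp, Category.assoc]
  infer_instance

end Epi6

end Groth.Agent.Lib.AlgzExtH2
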