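import Mathlib
import Groth.Prelude
import Groth.Agent.Lib.AlgzExt6_helper2
import Groth.Agent.Lib.LimTrunc1_helper2
import Groth.Agent.Lib.CohDev14_helper8
import Groth.Agent.Lib.SubExt_helper9

/-!
# `(M/I^{n+1}M)~|_U → F_n` is a monomorphism of systems (helper2)

* `mono_tilde_map` : the tilde functor preserves monomorphisms;
* `mono_restrict_map` : restriction to an open preserves monomorphisms;
* `main9553` (S9553).
APPEND-ONLY once landed.
-/

set_option autoImplicit false
set_option linter.style.haveILetI false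
set_option backward.isDefEq.respectTransparency false
universe u
open CategoryTheory CategoryTheory.Limits AlgebraicGeometry TopologicalSpace Opposite

namespace Groth.Agent.Lib.AlgzExtH2

open Formal Groth.Agent.Lib.FormalModPowH4 Groth.Agent.Lib.FormalFnH2 Groth.Agent.Lib.FibAmpH2
  Groth.Agent.Lib.FormalQuotH2 Groth.Agent.Lib.AdicSysH2 Groth.Agent.Lib.LimTruncH2
  Groth.Agent.Lib.FibVanH2

section Mono7

variable (A : Type u) [CommRing A]

/-- the tilde functor preserves monomorphisms -/
theorem mono_tilde_map {N N' : ModuleCat.{u} A} (f : N ⟶ N') [Mono f] :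
    Mono ((tilde.functor (CommRingCat.of A)).map f) := by
  haveI : (tilde.functor (CommRingCat.of A)).IsLeftAdjoint :=
    (tilde.adjunction (R := CommRingCat.of A)).isLeftAdjoint
  haveI : (tilde.functor (CommRingCat.of A)).PreservesZeroMorphisms :=
    Functor.preservesZeroMorphisms_of_isLeftAdjoint _
  haveI : (moduleSpecΓFunctor (R := CommRingCat.of A)).IsRightAdjoint :=
    (tilde.adjunction (R := CommRingCat.of A)).isRightAdjoint
  haveI : (moduleSpecΓFunctor (R := CommRingCat.of A)).PreservesZeroMorphisms :=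
    Functor.preservesZeroMorphisms_of_isRightAdjoint _
  obtain ⟨φ, hφ⟩ : ∃ φ : (tilde.functor (CommRingCat.of A)).obj N ⟶
      (tilde.functor (CommRingCat.of A)).obj N', φ = (tilde.functor (CommRingCat.of A)).map f :=
    ⟨_, rfl⟩
  rw [← hφ]
  apply Preadditive.mono_of_kernel_zero
  haveI h1q : ((tilde.functor (CommRingCat.of A)).obj N).IsQuasicoherent :=
    inferInstanceAs (tilde (R := CommRingCat.of A) N).IsQuasicoherent
  haveI h2q : ((tilde.functor (CommRingCat.of A)).obj N').IsQuasicoherent :=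
    inferInstanceAs (tilde (R := CommRingCat.of A) N').IsQuasicoherent
  haveI : (kernel φ).IsQuasicoherent := SubExt.isQuasicoherent_kernel φ
  haveI : IsIso ((Scheme.Modules.fromTildeΓNatTrans (R := CommRingCat.of A)).app (kernel φ)) := by
    show IsIso (Scheme.Modules.fromTildeΓ (R := CommRingCat.of A) (kernel φ))
    exact Scheme.Modules.isIso_fromTildeΓ_of_isQuasicoherent (R := CommRingCat.of A) (kernel φ)
  have hnat := (Scheme.Modules.fromTildeΓNatTrans (R := CommRingCat.of A)).naturality
    (kernel.ι φ)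
  have hΓ : (moduleSpecΓFunctor (R := CommRingCat.of A)).map (kernel.ι φ) = 0 := by
    haveI : Mono ((moduleSpecΓFunctor (R := CommRingCat.of A)).map φ) := by
      have h1 := (tilde.toTildeΓNatIso (R := CommRingCat.of A)).hom.naturality f
      have h3 : f ≫ (tilde.toTildeΓNatIso (R := CommRingCat.of A)).hom.app N' =
          (tilde.toTildeΓNatIso (R := CommRingCat.of A)).hom.app N ≫
            (moduleSpecΓFunctor (R := CommRingCat.of A)).map
              ((tilde.functor (CommRingCat.of A)).map f) := h1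
      have h2 : (moduleSpecΓFunctor (R := CommRingCat.of A)).map φ =
          (tilde.toTildeΓNatIso (R := CommRingCat.of A)).inv.app N ≫ f ≫
            (tilde.toTildeΓNatIso (R := CommRingCat.of A)).hom.app N' := by
        rw [hφ, h3, Iso.inv_hom_id_app_assoc]
      rw [h2]
      have i1 : IsIso ((tilde.toTildeΓNatIso (R := CommRingCat.of A)).hom.app N') :=
        ⟨⟨(tilde.toTildeΓNatIso (R := CommRingCat.of A)).inv.app N',
          Iso.hom_inv_id_app _ _, Iso.inv_hom_id_app _ _⟩⟩
      have i2 : IsIso ((tilde.toTildeΓNatIso (R := CommRingCat.of A)).inv.app N) :=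
        ⟨⟨(tilde.toTildeΓNatIso (R := CommRingCat.of A)).hom.app N,
          Iso.inv_hom_id_app _ _, Iso.hom_inv_id_app _ _⟩⟩
      have m1 : Mono ((tilde.toTildeΓNatIso (R := CommRingCat.of A)).hom.app N') :=
        @IsIso.mono_of_iso _ _ _ _ _ i1
      have m2 : Mono ((tilde.toTildeΓNatIso (R := CommRingCat.of A)).inv.app N) :=
        @IsIso.mono_of_iso _ _ _ _ _ i2
      have m3 : Mono (f ≫ (tilde.toTildeΓNatIso (R := CommRingCat.of A)).hom.app N') :=
        @mono_comp _ _ _ _ _ f _ _ m1
      exact @mono_comp _ _ _ _ _ _ m2 _ m3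
    rw [← cancel_mono ((moduleSpecΓFunctor (R := CommRingCat.of A)).map φ), ← Functor.map_comp,
      kernel.condition, Functor.map_zero, zero_comp]
  rw [← cancel_epi ((Scheme.Modules.fromTildeΓNatTrans (R := CommRingCat.of A)).app (kernel φ)),
    comp_zero]
  rw [Functor.id_map] at hnat
  rw [← hnat, Functor.comp_map, hΓ, Functor.map_zero, zero_comp]

/-- restriction to an open subscheme preserves monomorphisms -/
theorem mono_restrict_map {X : Scheme.{u}} (U : X.Opens) {M N : X.Modules} (φ : M ⟶ N)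
    [Mono φ] : Mono ((Scheme.Modules.restrictFunctor U.ι).map φ) := by
  apply mono_of_app_injective'
  intro W
  exact QCohExact.app_injective_of_mono φ (U.ι ''ᵁ W)

end Mono7

section PartI7

variable (A : Type u) [CommRing A] [IsNoetherianRing A] (I : Ideal A)
  (U : (Spec (CommRingCat.of A)).Opens)

noncomputable local instance (priority := 10000) selfOver7 :
    (Spec (CommRingCat.of A)).Over (Spec (CommRingCat.of A)) := ⟨𝟙 _⟩

/-- if the kernel of `M → H_k` lies in `I^{n+1}M`, then `(M/I^{n+1}M)~|_U` is coherent -/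
theorem isCoh_restrict_tilde_quotPow (G : ℕᵒᵖ ⥤ (↑U : Scheme.{u}).Modules)
    (hG : Formal.IsCohFormal I G) (n k : ℕ)
    (hk : LinearMap.ker (limit.π (Algz.sectMod A U G) (op k)).hom ≤
      I ^ (n + 1) • (⊤ : Submodule A ↑(limit (Algz.sectMod A U G)))) :
    Coh.IsCoh ((Scheme.Modules.restrictFunctor U.ι).obj
      (Formal2.tmod A (Formal2.quotPow A I ↑(limit (Algz.sectMod A U G)) n))) := by
  classical
  have hq : ∀ k, (G.obj (op k)).IsQuasicoherent := fun k => (hG.1 k).1
  haveI : (tilde.functor (CommRingCat.of A)).PreservesEpimorphisms :=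
    Functor.preservesEpimorphisms_of_adjunction (tilde.adjunction (R := CommRingCat.of A))
  haveI : (Scheme.Modules.restrictFunctor U.ι).PreservesEpimorphisms :=
    Functor.preservesEpimorphisms_of_adjunction (Scheme.Modules.restrictAdjunction U.ι)
  -- the image `R` of `M` in `H_k`
  let ι : ModuleCat.of A (LinearMap.range (limit.π (Algz.sectMod A U G) (op k)).hom) ⟶
      (Algz.sectMod A U G).obj (op k) :=
    ModuleCat.ofHom (X := ↥(LinearMap.range (limit.π (Algz.sectMod A U G) (op k)).hom))
      (Y := ↑((Algz.sectMod A U G).obj (op k)))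
      (LinearMap.range (limit.π (Algz.sectMod A U G) (op k)).hom).subtype
  haveI : Mono ι := (ModuleCat.mono_iff_injective ι).mpr
    (Submodule.injective_subtype (LinearMap.range (limit.π (Algz.sectMod A U G) (op k)).hom))
  -- the surjection `R → M/I^{n+1}M`
  let p : ModuleCat.of A (LinearMap.range (limit.π (Algz.sectMod A U G) (op k)).hom) ⟶
      ModuleCat.of A (Formal2.quotPow A I ↑(limit (Algz.sectMod A U G)) n) :=
    ModuleCat.ofHom ((Submodule.factor hk) ∘ₗ
      (LinearMap.quotKerEquivRange (limit.π (Algz.sectMod A U G) (op k)).hom).symm.toLinearMap)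
  have hp : Function.Surjective p.hom := by
    show Function.Surjective (fun x => Submodule.factor hk
      ((LinearMap.quotKerEquivRange (limit.π (Algz.sectMod A U G) (op k)).hom).symm x))
    exact (Submodule.factor_surjective hk).comp (LinearEquiv.surjective _)
  haveI : Epi p := (ModuleCat.epi_iff_surjective p).mpr hp
  haveI : Mono ((tilde.functor (CommRingCat.of A)).map ι) := mono_tilde_map A ι
  haveI : Mono ((Scheme.Modules.restrictFunctor U.ι).map
      ((tilde.functor (CommRingCat.of A)).map ι)) := mono_restrict_map U _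
  have hcohR : Coh.IsCoh ((Scheme.Modules.restrictFunctor U.ι).obj
      ((tilde.functor (CommRingCat.of A)).obj
        (ModuleCat.of A (LinearMap.range (limit.π (Algz.sectMod A U G) (op k)).hom)))) := by
    haveI hqq : ((tilde.functor (CommRingCat.of A)).obj
        (ModuleCat.of A (LinearMap.range (limit.π (Algz.sectMod A U G) (op k)).hom))).IsQuasicoherent :=
      inferInstanceAs (tilde (R := CommRingCat.of A) _).IsQuasicoherent
    refine CohDevH8.isCoh_of_mono ((Scheme.Modules.restrictFunctor U.ι).map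
      ((tilde.functor (CommRingCat.of A)).map ι) ≫ (secIso A U G hq).hom.app (op k)) ?_ (hG.1 k)
    exact Scheme.Modules.isQuasicoherent_restrictFunctor U.ι _
  haveI := hcohR.1
  haveI := hcohR.2
  haveI hqq : (Formal2.tmod A (Formal2.quotPow A I ↑(limit (Algz.sectMod A U G)) n)).IsQuasicoherent :=
    inferInstanceAs (tilde (R := CommRingCat.of A) _).IsQuasicoherent
  haveI qc : ((Scheme.Modules.restrictFunctor U.ι).obj
      (Formal2.tmod A (Formal2.quotPow A I ↑(limit (Algz.sectMod A U G)) n))).IsQuasicoherent :=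
    Scheme.Modules.isQuasicoherent_restrictFunctor U.ι _
  exact ⟨qc, FormalFnH2.isFiniteType_of_epi ((Scheme.Modules.restrictFunctor U.ι).map
      ((tilde.functor (CommRingCat.of A)).map p))⟩

end PartI7

section PartII7

variable (A : Type u) [CommRing A]

theorem toOpen_adj_app (Q : ModuleCat.{u} A) (P : (Spec (CommRingCat.of A)).Modules)
    (ℓ : Q ⟶ (moduleSpecΓFunctor (R := CommRingCat.of A)).obj P)
    (V : (Spec (CommRingCat.of A)).Opens) :
    tilde.toOpen (R := CommRingCat.of A) Q V ≫ (modulesSpecToSheaf.map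
      (((tilde.adjunction (R := CommRingCat.of A)).homEquiv Q P).symm ℓ)).1.app (op V) =
      ℓ ≫ (modulesSpecToSheaf.obj P).1.map (homOfLE (le_top : V ≤ ⊤)).op := by
  have hβ : ((tilde.adjunction (R := CommRingCat.of A)).homEquiv Q P).symm ℓ =
      tilde.map (R := CommRingCat.of A) ℓ ≫ Scheme.Modules.fromTildeΓ (R := CommRingCat.of A) P :=
    Adjunction.homEquiv_counit _ _ _ _
  rw [hβ]
  have h1 := tilde.toOpen_map_app (R := CommRingCat.of A) ℓ V
  have h2 := Scheme.Modules.toOpen_fromTildeΓ_app (R := CommRingCat.of A) P V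
  have h3 : (modulesSpecToSheaf.map (tilde.map (R := CommRingCat.of A) ℓ ≫
      Scheme.Modules.fromTildeΓ (R := CommRingCat.of A) P)).1.app (op V) =
      (modulesSpecToSheaf.map (tilde.map (R := CommRingCat.of A) ℓ)).1.app (op V) ≫
        (modulesSpecToSheaf.map (Scheme.Modules.fromTildeΓ (R := CommRingCat.of A) P)).1.app
          (op V) := rfl
  rw [h3, ← Category.assoc, h1, Category.assoc]
  exact congrArg (fun t => ℓ ≫ t) h2

/-- element form -/
theorem adj_app_toOpen (Q : ModuleCat.{u} A) (P : (Spec (CommRingCat.of A)).Modules)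
    (ℓ : Q ⟶ (moduleSpecΓFunctor (R := CommRingCat.of A)).obj P)
    (V : (Spec (CommRingCat.of A)).Opens) (q : Q) :
    Scheme.Modules.Hom.app (((tilde.adjunction (R := CommRingCat.of A)).homEquiv Q P).symm ℓ) V
      ((tilde.toOpen (R := CommRingCat.of A) Q V).hom q) =
      P.presheaf.map (homOfLE (le_top : V ≤ ⊤)).op (ℓ.hom q) :=
  congrArg (fun φ => φ.hom q) (toOpen_adj_app A Q P ℓ V)

/-- the localization property of `toOpen` over `Spec (CommRingCat.of A)` (instance search does
not find Mathlib's instance there) -/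
theorem isLocalizedModule_toOpen' (R : CommRingCat.{u}) (Q : ModuleCat.{u} R) (f : R) :
    IsLocalizedModule (Submonoid.powers f)
      (tilde.toOpen Q (PrimeSpectrum.basicOpen f)).hom := inferInstance

theorem isLocalizedModule_toOpen (Q : ModuleCat.{u} A) (f : A) :
    IsLocalizedModule (Submonoid.powers f)
      (tilde.toOpen (R := CommRingCat.of A) Q (PrimeSpectrum.basicOpen f)).hom :=
  isLocalizedModule_toOpen' (CommRingCat.of A) Q f

/-- sections over `V` as an `A`-module -/
noncomputable abbrev SV (M : (Spec (CommRingCat.of A)).Modules)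
    (V : (Spec (CommRingCat.of A)).Opens) : ModuleCat.{u} A :=
  (modulesSpecToSheaf.obj M).presheaf.obj (op V)

/-- the `A`-linear map on sections -/
noncomputable abbrev appL {M N : (Spec (CommRingCat.of A)).Modules} (φ : M ⟶ N)
    (V : (Spec (CommRingCat.of A)).Opens) : SV A M V ⟶ SV A N V :=
  (modulesSpecToSheaf.map φ).1.app (op V)

theorem appL_apply {M N : (Spec (CommRingCat.of A)).Modules} (φ : M ⟶ N)
    (V : (Spec (CommRingCat.of A)).Opens) (y : SV A M V) :
    (appL A φ V).hom y = Scheme.Modules.Hom.app φ V y := rfl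

theorem isSMulRegular_SV (M : (Spec (CommRingCat.of A)).Modules) (f : A) (i : ℕ)
    (y : SV A M (PrimeSpectrum.basicOpen f)) (hy : f ^ i • y = 0) : y = 0 := by
  have h1 : IsSMulRegular (SV A M (PrimeSpectrum.basicOpen f)) f :=
    Scheme.Modules.isSMulRegular_of_le_basicOpen (R := CommRingCat.of A) (M := M)
      (U := PrimeSpectrum.basicOpen f) (f := f) le_rfl
  have h2 := h1.pow i
  apply h2
  show f ^ i • y = f ^ i • 0
  rw [hy, smul_zero]

/-- a global section of a quasi-coherent module on `Spec A` vanishing on `D(f)` is killed by a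
power of `f` -/
theorem exists_pow_smul_eq_zero (P : (Spec (CommRingCat.of A)).Modules) [P.IsQuasicoherent]
    (f : A) (s : ↑((moduleSpecΓFunctor (R := CommRingCat.of A)).obj P))
    (hs : P.presheaf.map (homOfLE (le_top : PrimeSpectrum.basicOpen f ≤ ⊤)).op s = 0) :
    ∃ i : ℕ, f ^ i • s = 0 := by
  have h1 := Scheme.Modules.toOpen_fromTildeΓ_app (R := CommRingCat.of A) P
    (PrimeSpectrum.basicOpen f)
  have h2 : Scheme.Modules.Hom.app (Scheme.Modules.fromTildeΓ (R := CommRingCat.of A) P)
      (PrimeSpectrum.basicOpen f)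
      ((tilde.toOpen (R := CommRingCat.of A) ((moduleSpecΓFunctor (R := CommRingCat.of A)).obj P)
        (PrimeSpectrum.basicOpen f)).hom s) =
      P.presheaf.map (homOfLE (le_top : PrimeSpectrum.basicOpen f ≤ ⊤)).op s :=
    congrArg (fun φ => φ.hom s) h1
  haveI : IsIso (Scheme.Modules.fromTildeΓ (R := CommRingCat.of A) P) :=
    Scheme.Modules.isIso_fromTildeΓ_of_isQuasicoherent (R := CommRingCat.of A) P
  have h3 : (tilde.toOpen (R := CommRingCat.of A)
      ((moduleSpecΓFunctor (R := CommRingCat.of A)).obj P)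
        (PrimeSpectrum.basicOpen f)).hom s = 0 := by
    have h4 := congrArg (Scheme.Modules.Hom.app
      (inv (Scheme.Modules.fromTildeΓ (R := CommRingCat.of A) P)) (PrimeSpectrum.basicOpen f))
      (h2.trans hs)
    rw [← comp_app', IsIso.hom_inv_id, app_zero'] at h4
    exact h4
  haveI := isLocalizedModule_toOpen A ((moduleSpecΓFunctor (R := CommRingCat.of A)).obj P) f
  obtain ⟨⟨c, i, rfl⟩, hc⟩ := (IsLocalizedModule.eq_zero_iff (Submonoid.powers f)
    (tilde.toOpen (R := CommRingCat.of A) ((moduleSpecΓFunctor (R := CommRingCat.of A)).obj P)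
        (PrimeSpectrum.basicOpen f)).hom).mp h3
  exact ⟨i, hc⟩

variable (I : Ideal A) (M : Type u) [AddCommGroup M] [Module A M]

theorem quotPowTrans_mk (n : ℕ) (y : M) :
    Formal2.quotPowTrans A I M n (Submodule.Quotient.mk y) = Submodule.Quotient.mk y := by
  unfold Formal2.quotPowTrans
  rw [Submodule.mapQ_apply]
  rfl

theorem ofHom_qT_refl (n : ℕ) : ModuleCat.ofHom (qT I M (le_refl n)) =
    𝟙 (ModuleCat.of A (Formal2.quotPow A I M n)) := by
  apply ModuleCat.hom_ext
  apply LinearMap.ext
  intro x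
  obtain ⟨y, rfl⟩ := Submodule.mkQ_surjective _ x
  show qT I M (le_refl n) (Submodule.Quotient.mk y) = Submodule.Quotient.mk y
  exact qT_mk I M _ y

theorem ofHom_qT_succ {n m : ℕ} (h : n ≤ m) (h' : n ≤ m + 1) :
    ModuleCat.ofHom (qT I M h') =
      ModuleCat.ofHom (Formal2.quotPowTrans A I M m) ≫ ModuleCat.ofHom (qT I M h) := by
  apply ModuleCat.hom_ext
  apply LinearMap.ext
  intro x
  obtain ⟨y, rfl⟩ := Submodule.mkQ_surjective _ x
  show qT I M h' (Submodule.Quotient.mk y) =
    qT I M h (Formal2.quotPowTrans A I M m (Submodule.Quotient.mk y))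
  rw [quotPowTrans_mk, qT_mk, qT_mk]

theorem tmodMap_qT_compat (V : (Spec (CommRingCat.of A)).Opens)
    (x : ∀ n : ℕ, (Scheme.Modules.presheaf (Formal2.tmod A (Formal2.quotPow A I M n))).obj (op V))
    (hx : ∀ n, Scheme.Modules.Hom.app (Formal2.tmodMap A (Formal2.quotPowTrans A I M n)) V
      (x (n + 1)) = x n) :
    ∀ (n m : ℕ) (h : n ≤ m), Scheme.Modules.Hom.app (Formal2.tmodMap A (qT I M h)) V (x m) = x n := by
  intro n m h
  induction m, h using Nat.le_induction with
  | base =>
    have e : Formal2.tmodMap A (qT I M (le_refl n)) = 𝟙 _ := by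
      show tilde.map (R := CommRingCat.of A) (ModuleCat.ofHom (qT I M (le_refl n))) = 𝟙 _
      rw [ofHom_qT_refl, tilde.map_id]
    rw [e]
    rfl
  | succ m h ih =>
    have e : Formal2.tmodMap A (qT I M (Nat.le_succ_of_le h)) =
        Formal2.tmodMap A (Formal2.quotPowTrans A I M m) ≫ Formal2.tmodMap A (qT I M h) := by
      show tilde.map (R := CommRingCat.of A) _ = tilde.map (R := CommRingCat.of A) _ ≫
        tilde.map (R := CommRingCat.of A) _
      rw [← tilde.map_comp, ofHom_qT_succ A I M h]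
    rw [e, comp_app', hx m, ih]

end PartII7

section Main7

variable (A : Type u) [CommRing A] [IsNoetherianRing A] (I : Ideal A)
  (U : (Spec (CommRingCat.of A)).Opens)

noncomputable local instance (priority := 10000) selfOver7b :
    (Spec (CommRingCat.of A)).Over (Spec (CommRingCat.of A)) := ⟨𝟙 _⟩

set_option maxHeartbeats 1600000 in
theorem sections_eq_zero (G : ℕᵒᵖ ⥤ (↑U : Scheme.{u}).Modules) (hG : Formal.IsCohFormal I G)
    (hb : ∀ k : ℕ, ∃ n : ℕ, LinearMap.ker (limit.π (Algz.sectMod A U G) (op n)).hom ≤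
      I ^ k • (⊤ : Submodule A ↑(limit (Algz.sectMod A U G))))
    (ℓ : ∀ n : ℕ, ModuleCat.of A (Formal2.quotPow A I ↑(limit (Algz.sectMod A U G)) n) ⟶
      (Algz.sectMod A U G).obj (op n))
    (hℓ : ∀ n : ℕ, ModuleCat.ofHom (Formal2.quotPowπ A I ↑(limit (Algz.sectMod A U G)) n) ≫ ℓ n =
      limit.π (Algz.sectMod A U G) (op n))
    (f : A)
    (x : ∀ n : ℕ, (Scheme.Modules.presheaf (Formal2.tmod A
      (Formal2.quotPow A I ↑(limit (Algz.sectMod A U G)) n))).obj
        (op (PrimeSpectrum.basicOpen f : (Spec (CommRingCat.of A)).Opens)))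
    (hx : ∀ n : ℕ, Scheme.Modules.Hom.app (Formal2.tmodMap A
      (Formal2.quotPowTrans A I ↑(limit (Algz.sectMod A U G)) n))
        (PrimeSpectrum.basicOpen f : (Spec (CommRingCat.of A)).Opens) (x (n + 1)) = x n)
    (hv : ∀ n : ℕ, Scheme.Modules.Hom.app
      (((tilde.adjunction (R := CommRingCat.of A)).homEquiv
        (ModuleCat.of A (Formal2.quotPow A I ↑(limit (Algz.sectMod A U G)) n))
          ((Scheme.Modules.pushforward U.ι).obj (G.obj (op n)))).symm (ℓ n))
        (PrimeSpectrum.basicOpen f : (Spec (CommRingCat.of A)).Opens) (x n) = 0) :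
    ∀ n : ℕ, x n = 0 := by
  intro n
  classical
  haveI : QuasiCompact U.ι := SubExt.quasiCompact_ι_of_locNoeth (hXSpec A) U
  -- choose `k ≥ n` with `ker π_k ≤ I^{n+1} M`
  obtain ⟨k₀, hk₀⟩ := hb (n + 1)
  obtain ⟨k, hnk, hk⟩ : ∃ k, n ≤ k ∧
      LinearMap.ker (limit.π (Algz.sectMod A U G) (op k)).hom ≤
        I ^ (n + 1) • (⊤ : Submodule A ↑(limit (Algz.sectMod A U G))) := by
    refine ⟨max k₀ n, le_max_right _ _, le_trans ?_ hk₀⟩
    intro y hy
    rw [LinearMap.mem_ker] at hy ⊢
    have hw := limit.w (Algz.sectMod A U G) (homOfLE (le_max_left k₀ n)).op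
    rw [← hw]
    show ((Algz.sectMod A U G).map (homOfLE (le_max_left k₀ n)).op).hom
      ((limit.π (Algz.sectMod A U G) (op (max k₀ n))).hom y) = 0
    rw [hy, map_zero]
  have hxn := tmodMap_qT_compat A I ↑(limit (Algz.sectMod A U G)) _ x hx n k hnk
  -- `x k` as a fraction
  haveI := isLocalizedModule_toOpen A
    (ModuleCat.of A (Formal2.quotPow A I ↑(limit (Algz.sectMod A U G)) k)) f
  obtain ⟨⟨q, ⟨c, j, rfl⟩⟩, hqc⟩ := IsLocalizedModule.surj (Submonoid.powers f)
    (tilde.toOpen (R := CommRingCat.of A)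
      (ModuleCat.of A (Formal2.quotPow A I ↑(limit (Algz.sectMod A U G)) k))
        (PrimeSpectrum.basicOpen f)).hom (x k)
  obtain ⟨xk, hxk⟩ : ∃ xk : ↑(SV A (Formal2.tmod A
      (Formal2.quotPow A I ↑(limit (Algz.sectMod A U G)) k)) (PrimeSpectrum.basicOpen f)),
      xk = x k := ⟨x k, rfl⟩
  obtain ⟨xn, hxn'⟩ : ∃ xn : ↑(SV A (Formal2.tmod A
      (Formal2.quotPow A I ↑(limit (Algz.sectMod A U G)) n)) (PrimeSpectrum.basicOpen f)),
      xn = x n := ⟨x n, rfl⟩
  have hqc' : f ^ j • xk =
      (tilde.toOpen (R := CommRingCat.of A)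
        (ModuleCat.of A (Formal2.quotPow A I ↑(limit (Algz.sectMod A U G)) k))
          (PrimeSpectrum.basicOpen f)).hom q := by
    rw [hxk]
    exact hqc
  have hvk : (appL A (((tilde.adjunction (R := CommRingCat.of A)).homEquiv
        (ModuleCat.of A (Formal2.quotPow A I ↑(limit (Algz.sectMod A U G)) k))
          ((Scheme.Modules.pushforward U.ι).obj (G.obj (op k)))).symm (ℓ k))
        (PrimeSpectrum.basicOpen f)).hom xk = 0 := by
    rw [hxk]
    exact hv k
  have hxnk : (appL A (Formal2.tmodMap A (qT I ↑(limit (Algz.sectMod A U G)) hnk))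
      (PrimeSpectrum.basicOpen f)).hom xk = xn := by
    rw [hxk, hxn']
    exact hxn
  obtain ⟨m, hm⟩ := Submodule.mkQ_surjective _ q
  -- the adjoint map kills `toOpen q`
  have h1 : Scheme.Modules.Hom.app
      (((tilde.adjunction (R := CommRingCat.of A)).homEquiv
        (ModuleCat.of A (Formal2.quotPow A I ↑(limit (Algz.sectMod A U G)) k))
          ((Scheme.Modules.pushforward U.ι).obj (G.obj (op k)))).symm (ℓ k))
        (PrimeSpectrum.basicOpen f : (Spec (CommRingCat.of A)).Opens)
      ((tilde.toOpen (R := CommRingCat.of A)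
        (ModuleCat.of A (Formal2.quotPow A I ↑(limit (Algz.sectMod A U G)) k))
          (PrimeSpectrum.basicOpen f)).hom q) = 0 := by
    rw [← hqc', ← appL_apply, map_smul, hvk, smul_zero]
  rw [adj_app_toOpen] at h1
  have h2 : (ℓ k).hom q = (limit.π (Algz.sectMod A U G) (op k)).hom m := by
    rw [← hm]
    exact congrArg (fun φ => φ.hom m) (hℓ k)
  haveI : (G.obj (op k)).IsQuasicoherent := (hG.1 k).1
  haveI : ((Scheme.Modules.pushforward U.ι).obj (G.obj (op k))).IsQuasicoherent :=
    QcqsLoc.isQuasicoherent_pushforward_qcqs U.ι _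
  obtain ⟨i, hi⟩ := exists_pow_smul_eq_zero A
    ((Scheme.Modules.pushforward U.ι).obj (G.obj (op k))) f _ h1
  have h3 : f ^ i • m ∈ LinearMap.ker (limit.π (Algz.sectMod A U G) (op k)).hom := by
    rw [LinearMap.mem_ker, map_smul, ← h2]
    exact hi
  have h4 : (Submodule.Quotient.mk (f ^ i • m) :
      Formal2.quotPow A I ↑(limit (Algz.sectMod A U G)) n) = 0 := by
    rw [Submodule.Quotient.mk_eq_zero]
    exact hk h3
  -- now `x n`
  have h5 : f ^ j • xn =
      (tilde.toOpen (R := CommRingCat.of A)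
        (ModuleCat.of A (Formal2.quotPow A I ↑(limit (Algz.sectMod A U G)) n))
          (PrimeSpectrum.basicOpen f)).hom (Submodule.Quotient.mk m) := by
    rw [← hxnk, ← map_smul, hqc', ← hm]
    exact congrArg (fun φ => φ.hom (Submodule.Quotient.mk m))
      (tilde.toOpen_map_app (R := CommRingCat.of A)
        (ModuleCat.ofHom (qT I ↑(limit (Algz.sectMod A U G)) hnk)) (PrimeSpectrum.basicOpen f))
  have h6 : f ^ (i + j) • xn = 0 := by
    have h4' : f ^ i • (Submodule.Quotient.mk m :
        Formal2.quotPow A I ↑(limit (Algz.sectMod A U G)) n) = 0 := h4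
    have h7 := ((tilde.toOpen (R := CommRingCat.of A)
        (ModuleCat.of A (Formal2.quotPow A I ↑(limit (Algz.sectMod A U G)) n))
          (PrimeSpectrum.basicOpen f)).hom).map_smul (f ^ i) (Submodule.Quotient.mk m)
    rw [pow_add f i j, mul_smul, h5, ← h7, h4', map_zero]
  rw [← hxn']
  exact isSMulRegular_SV A _ f (i + j) _ h6

end Main7

section Final7

variable (A : Type u) [CommRing A] [IsNoetherianRing A] (I : Ideal A)
  (U : (Spec (CommRingCat.of A)).Opens)

noncomputable local instance (priority := 10000) selfOver7c :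
    (Spec (CommRingCat.of A)).Over (Spec (CommRingCat.of A)) := ⟨𝟙 _⟩

/-- **S9553** (for any open `U` of `Spec A`) -/
theorem main9553 (G : ℕᵒᵖ ⥤ (↑U : Scheme.{u}).Modules) (hG : Formal.IsCohFormal I G)
    (hb : ∀ k : ℕ, ∃ n : ℕ, LinearMap.ker (limit.π (Algz.sectMod A U G) (op n)).hom ≤
      I ^ k • (⊤ : Submodule A ↑(limit (Algz.sectMod A U G))))
    (ℓ : ∀ n : ℕ, ModuleCat.of A (Formal2.quotPow A I ↑(limit (Algz.sectMod A U G)) n) ⟶
      (Algz.sectMod A U G).obj (op n))
    (hℓ : ∀ n : ℕ, ModuleCat.ofHom (Formal2.quotPowπ A I ↑(limit (Algz.sectMod A U G)) n) ≫ ℓ n =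
      limit.π (Algz.sectMod A U G) (op n)) :
    (∀ n : ℕ, Coh.IsCoh ((Scheme.Modules.restrictFunctor U.ι).obj
      (Formal2.tmod A (Formal2.quotPow A I ↑(limit (Algz.sectMod A U G)) n)))) ∧
    ∀ (f : A),
      ∀ x : (∀ n : ℕ, (Scheme.Modules.presheaf (Formal2.tmod A
        (Formal2.quotPow A I ↑(limit (Algz.sectMod A U G)) n))).obj
          (op (PrimeSpectrum.basicOpen f : (Spec (CommRingCat.of A)).Opens))),
        (∀ n : ℕ, Scheme.Modules.Hom.app (Formal2.tmodMap A
          (Formal2.quotPowTrans A I ↑(limit (Algz.sectMod A U G)) n))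
            (PrimeSpectrum.basicOpen f : (Spec (CommRingCat.of A)).Opens) (x (n + 1)) = x n) →
        (∀ n : ℕ, Scheme.Modules.Hom.app
            (((tilde.adjunction (R := CommRingCat.of A)).homEquiv
              (ModuleCat.of A (Formal2.quotPow A I ↑(limit (Algz.sectMod A U G)) n))
              ((Scheme.Modules.pushforward U.ι).obj (G.obj (op n)))).symm (ℓ n))
            (PrimeSpectrum.basicOpen f : (Spec (CommRingCat.of A)).Opens) (x n) = 0) →
        ∀ n : ℕ, x n = 0 := by
  refine ⟨fun n => ?_, fun f x hx hv => sections_eq_zero A I U G hG hb ℓ hℓ f x hx hv⟩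
  obtain ⟨k, hk⟩ := hb (n + 1)
  exact isCoh_restrict_tilde_quotPow A I U G hG n k hk

end Final7

end Groth.Agent.Lib.AlgzExtH2
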