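import Mathlib
import Groth.Prelude
import Groth.Agent.Lib.AlgzExt7_helper2
import Groth.Agent.Lib.CohOpen1_helper8

/-!
# The functor `N ↦ Ñ|_U` on an open `U ⊆ Spec A` and torsion (helper2)

* `Φ A U : ModuleCat A ⥤ (↑U).Modules`, `N ↦ Ñ|_U`, left adjoint to `Z ↦ Γ(U, Z)` (`adjΦ`);
  it preserves monomorphisms and epimorphisms;
* `isZero_Φ` : if every element of `P` is killed by a power of `h` whenever `D(h) ⊆ U`, then
  `P̃|_U = 0`; `torsion_of_isZero_Φ` : the converse;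
* `epi_Φ_incl`, `torsion_of_epi_Φ_incl` : `Ñ|_U → Q̃|_U` is an epimorphism iff `Q/N` is torsion;
* `exists_pow_smul_mem` : elementwise torsion gives a uniform power of the ideal;
* `isQuot_restrict_map` : restriction to `U` preserves quotients by an ideal.
APPEND-ONLY once landed.
-/

set_option autoImplicit false
set_option linter.style.haveILetI false
set_option linter.unusedSectionVars false
set_option backward.isDefEq.respectTransparency false
universe u
open CategoryTheory CategoryTheory.Limits AlgebraicGeometry TopologicalSpace Opposite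

namespace Groth.Agent.Lib.AlgzModH2

open Formal Groth.Agent.Lib.FormalModPowH4 Groth.Agent.Lib.FormalFnH2 Groth.Agent.Lib.FibAmpH2
  Groth.Agent.Lib.FormalQuotH2 Groth.Agent.Lib.FibVanH2 Groth.Agent.Lib.AlgzExtH2 QcqsLoc

section Colon

variable {A : Type u} [CommRing A] [IsNoetherianRing A]

/-- elementwise torsion modulo a submodule gives a uniform power of the ideal -/
theorem exists_pow_smul_mem {Q : Type u} [AddCommGroup Q] [Module A Q] (𝔞 : Ideal A)
    (R : Submodule A Q) (y : Q) (h : ∀ f ∈ 𝔞, ∃ k : ℕ, f ^ k • y ∈ R) :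
    ∃ m : ℕ, ∀ a ∈ 𝔞 ^ m, a • y ∈ R := by
  have hJ : ∀ a, a ∈ R.colon ({y} : Set Q) ↔ a • y ∈ R := fun a => Submodule.mem_colon_singleton
  have hle : 𝔞 ≤ (R.colon ({y} : Set Q)).radical := fun f hf => by
    obtain ⟨k, hk⟩ := h f hf
    exact ⟨k, (hJ _).mpr hk⟩
  obtain ⟨m, hm⟩ := Ideal.exists_pow_le_of_le_radical_of_fg hle (IsNoetherian.noetherian 𝔞)
  exact ⟨m, fun a ha => (hJ a).mp (hm ha)⟩

end Colon

section Punct

variable (A : Type u) [CommRing A] (𝔞 : Ideal A)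

theorem basicOpen_le_puncturedOpen (f : A) (hf : f ∈ 𝔞) :
    (PrimeSpectrum.basicOpen f : (Spec (CommRingCat.of A)).Opens) ≤ LocCoh.puncturedOpen A 𝔞 := by
  intro x hx hx0
  exact hx (hx0 hf)

theorem mem_radical_of_basicOpen_le (h : A)
    (hle : (PrimeSpectrum.basicOpen h : (Spec (CommRingCat.of A)).Opens) ≤
      LocCoh.puncturedOpen A 𝔞) : h ∈ 𝔞.radical := by
  rw [← PrimeSpectrum.vanishingIdeal_zeroLocus_eq_radical, PrimeSpectrum.mem_vanishingIdeal]
  intro x hx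
  by_contra hne
  have h1 : x ∈ (PrimeSpectrum.basicOpen h : (Spec (CommRingCat.of A)).Opens) := hne
  exact (hle h1) hx

end Punct

section Phi

variable (A : Type u) [CommRing A] (U : (Spec (CommRingCat.of A)).Opens)

/-- `N ↦ Ñ|_U` -/
noncomputable abbrev Φ : ModuleCat.{u} A ⥤ (↑U : Scheme.{u}).Modules :=
  tilde.functor (CommRingCat.of A) ⋙ Scheme.Modules.restrictFunctor U.ι

/-- `Z ↦ Γ(U, Z)` -/
noncomputable abbrev Ψ : (↑U : Scheme.{u}).Modules ⥤ ModuleCat.{u} A :=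
  Scheme.Modules.pushforward U.ι ⋙ moduleSpecΓFunctor (R := CommRingCat.of A)

/-- the adjunction `Ñ|_U ⊣ Γ(U, -)` -/
noncomputable def adjΦ : Φ A U ⊣ Ψ A U :=
  (tilde.adjunction (R := CommRingCat.of A)).comp (Scheme.Modules.restrictAdjunction U.ι)

noncomputable instance : (Φ A U).IsLeftAdjoint := (adjΦ A U).isLeftAdjoint

instance : (Φ A U).PreservesZeroMorphisms := Functor.preservesZeroMorphisms_of_isLeftAdjoint _

instance : (Φ A U).PreservesEpimorphisms :=
  Functor.preservesEpimorphisms_of_adjunction (adjΦ A U)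

theorem mono_Φ_map {N N' : ModuleCat.{u} A} (f : N ⟶ N') [Mono f] : Mono ((Φ A U).map f) := by
  haveI := mono_tilde_map A f
  exact mono_restrict_map U ((tilde.functor (CommRingCat.of A)).map f)

/-- if `P` is `h`-power torsion for every `D(h) ⊆ U`, then `P̃|_U = 0` -/
theorem isZero_Φ (P : ModuleCat.{u} A)
    (htors : ∀ h : A, (PrimeSpectrum.basicOpen h : (Spec (CommRingCat.of A)).Opens) ≤ U →
      ∀ p : P, ∃ k : ℕ, h ^ k • p = 0) : IsZero ((Φ A U).obj P) := by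
  rw [IsZero.iff_id_eq_zero]
  refine Scheme.Modules.hom_ext _ _ (fun W => ?_)
  ext s
  show s = (0 : (Φ A U).obj P ⟶ (Φ A U).obj P).app W s
  rw [zero_app']
  obtain ⟨s', hs'⟩ : ∃ s' : Γ((tilde.functor (CommRingCat.of A)).obj P, U.ι ''ᵁ W), s' = s :=
    ⟨s, rfl⟩
  rw [← hs']
  show s' = 0
  refine eq_zero_of_cover _ s' (fun x hx => ?_)
  obtain ⟨h, hxh, hle⟩ : ∃ h : A,
      x ∈ (PrimeSpectrum.basicOpen h : (Spec (CommRingCat.of A)).Opens) ∧
      (PrimeSpectrum.basicOpen h : (Spec (CommRingCat.of A)).Opens) ≤ U.ι ''ᵁ W := by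
    obtain ⟨_, ⟨h, rfl⟩, hxh, hle⟩ :=
      Opens.isBasis_iff_nbhd.mp (PrimeSpectrum.isBasis_basic_opens (R := A)) hx
    exact ⟨h, hxh, hle⟩
  refine ⟨PrimeSpectrum.basicOpen h, hle, hxh, ?_⟩
  have hhU : (PrimeSpectrum.basicOpen h : (Spec (CommRingCat.of A)).Opens) ≤ U :=
    hle.trans (Scheme.Opens.ι_image_le U W)
  haveI := isLocalizedModule_toOpen A P h
  obtain ⟨y, hy⟩ : ∃ y : ↑(SV A ((tilde.functor (CommRingCat.of A)).obj P)
      (PrimeSpectrum.basicOpen h)), y = rF _ hle s' := ⟨_, rfl⟩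
  rw [← hy]
  obtain ⟨⟨q, ⟨c, j, rfl⟩⟩, hqc⟩ := IsLocalizedModule.surj (Submonoid.powers h)
    (tilde.toOpen (R := CommRingCat.of A) P (PrimeSpectrum.basicOpen h)).hom y
  obtain ⟨k, hk⟩ := htors h hhU q
  have h0 : (tilde.toOpen (R := CommRingCat.of A) P (PrimeSpectrum.basicOpen h)).hom q = 0 := by
    rw [IsLocalizedModule.eq_zero_iff (Submonoid.powers h)]
    exact ⟨⟨h ^ k, k, rfl⟩, hk⟩
  have h1 : h ^ j • y = 0 := hqc.trans h0
  exact isSMulRegular_SV A _ h j y h1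

/-- if `P̃|_U = 0` and `D(f) ⊆ U` then `P` is `f`-power torsion -/
theorem torsion_of_isZero_Φ (P : ModuleCat.{u} A) (hz : IsZero ((Φ A U).obj P)) (f : A)
    (hf : (PrimeSpectrum.basicOpen f : (Spec (CommRingCat.of A)).Opens) ≤ U) (p : P) :
    ∃ k : ℕ, f ^ k • p = 0 := by
  have hid := (IsZero.iff_id_eq_zero _).mp hz
  have hsub : ∀ s : Γ((Φ A U).obj P, ⊤), s = 0 := fun s => by
    have h1 : (𝟙 ((Φ A U).obj P) : (Φ A U).obj P ⟶ (Φ A U).obj P).app ⊤ s =
        (0 : (Φ A U).obj P ⟶ (Φ A U).obj P).app ⊤ s := by rw [hid]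
    rw [zero_app'] at h1
    exact h1
  have hle : (PrimeSpectrum.basicOpen f : (Spec (CommRingCat.of A)).Opens) ≤ U.ι ''ᵁ ⊤ := by
    rw [Scheme.Opens.ι_image_top]
    exact hf
  have h2 : (tilde.toOpen (R := CommRingCat.of A) P (U.ι ''ᵁ ⊤)).hom p = 0 := hsub _
  have h3 : (tilde.toOpen (R := CommRingCat.of A) P (PrimeSpectrum.basicOpen f)).hom p = 0 := by
    have h4 := tilde.toOpen_res (R := CommRingCat.of A) P (U.ι ''ᵁ ⊤)
      (PrimeSpectrum.basicOpen f) (homOfLE hle)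
    rw [← h4]
    show ((modulesSpecToSheaf.obj (tilde (R := CommRingCat.of A) P)).presheaf.map
      (homOfLE hle).op).hom ((tilde.toOpen (R := CommRingCat.of A) P (U.ι ''ᵁ ⊤)).hom p) = 0
    rw [h2, map_zero]
  haveI := isLocalizedModule_toOpen A P f
  obtain ⟨⟨c, k, rfl⟩, hc⟩ := (IsLocalizedModule.eq_zero_iff (Submonoid.powers f)
    (tilde.toOpen (R := CommRingCat.of A) P (PrimeSpectrum.basicOpen f)).hom).mp h3
  exact ⟨k, hc⟩

/-- `Ñ|_U → Q̃|_U` is an epimorphism if `Q/N` is torsion -/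
theorem epi_Φ_incl (Q : ModuleCat.{u} A) (N : Submodule A Q)
    (htors : ∀ h : A, (PrimeSpectrum.basicOpen h : (Spec (CommRingCat.of A)).Opens) ≤ U →
      ∀ q : Q, ∃ k : ℕ, h ^ k • q ∈ N) :
    Epi ((Φ A U).map (ModuleCat.ofHom N.subtype : ModuleCat.of A N ⟶ Q)) := by
  obtain ⟨incl, hincl⟩ : ∃ incl : ModuleCat.of A N ⟶ Q, incl = ModuleCat.ofHom N.subtype :=
    ⟨_, rfl⟩
  rw [← hincl]
  have e := PreservesCokernel.iso (Φ A U) incl
  apply Preadditive.epi_of_isZero_cokernel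
  refine IsZero.of_iso (isZero_Φ A U (cokernel incl) (fun h hh p => ?_)) e.symm
  obtain ⟨q, rfl⟩ := (ModuleCat.epi_iff_surjective (cokernel.π incl)).mp inferInstance p
  obtain ⟨k, hk⟩ := htors h hh q
  refine ⟨k, ?_⟩
  rw [← map_smul]
  have h1 : (cokernel.π incl).hom (incl.hom ⟨h ^ k • q, hk⟩) = 0 :=
    congrArg (fun φ => φ.hom ⟨h ^ k • q, hk⟩) (cokernel.condition incl)
  have h2 : incl.hom ⟨h ^ k • q, hk⟩ = h ^ k • q := by
    rw [hincl]
    rfl
  rw [h2] at h1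
  exact h1

/-- if `Ñ|_U → Q̃|_U` is an epimorphism then `Q/N` is `f`-power torsion for `D(f) ⊆ U` -/
theorem torsion_of_epi_Φ_incl (Q : ModuleCat.{u} A) (N : Submodule A Q)
    (hepi : Epi ((Φ A U).map (ModuleCat.ofHom N.subtype : ModuleCat.of A N ⟶ Q))) (f : A)
    (hf : (PrimeSpectrum.basicOpen f : (Spec (CommRingCat.of A)).Opens) ≤ U) (q : Q) :
    ∃ k : ℕ, f ^ k • q ∈ N := by
  obtain ⟨incl, hincl⟩ : ∃ incl : ModuleCat.of A N ⟶ Q, incl = ModuleCat.ofHom N.subtype :=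
    ⟨_, rfl⟩
  rw [← hincl] at hepi
  obtain ⟨π, hπ⟩ : ∃ π : Q ⟶ ModuleCat.of A (↑Q ⧸ N), π = ModuleCat.ofHom N.mkQ := ⟨_, rfl⟩
  have h0 : incl ≫ π = 0 := by
    rw [hincl, hπ]
    apply ModuleCat.hom_ext
    apply LinearMap.ext
    intro x
    exact (Submodule.Quotient.mk_eq_zero N).mpr x.2
  have h1 : (Φ A U).map π = 0 := by
    rw [← cancel_epi ((Φ A U).map incl), ← Functor.map_comp, h0, Functor.map_zero, comp_zero]
  haveI : Epi π := by
    rw [hπ]
    exact (ModuleCat.epi_iff_surjective _).mpr N.mkQ_surjective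
  haveI : Epi ((Φ A U).map π) := inferInstance
  have hz : IsZero ((Φ A U).obj (ModuleCat.of A (↑Q ⧸ N))) := by
    rw [IsZero.iff_id_eq_zero, ← cancel_epi ((Φ A U).map π), h1, zero_comp, zero_comp]
  obtain ⟨k, hk⟩ := torsion_of_isZero_Φ A U _ hz f hf (N.mkQ q)
  refine ⟨k, ?_⟩
  rw [← map_smul] at hk
  exact (Submodule.Quotient.mk_eq_zero N).mp hk

end Phi

section Quot

variable (A : Type u) [CommRing A] (U : (Spec (CommRingCat.of A)).Opens)

noncomputable local instance (priority := 10000) selfOverM1 :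
    (Spec (CommRingCat.of A)).Over (Spec (CommRingCat.of A)) := ⟨𝟙 _⟩

/-- restriction to an open preserves quotients by an ideal -/
theorem isQuot_restrict_map {J : Ideal A} {M N : (Spec (CommRingCat.of A)).Modules} {t : M ⟶ N}
    (ht : IsQuot J t) : IsQuot J ((Scheme.Modules.restrictFunctor U.ι).map t) := by
  have h1 : IsQuot J ((Scheme.Modules.pullback U.ι).map t) :=
    IsQuot.pullback U.ι (Category.comp_id _) ht
  have h2 := (Scheme.Modules.restrictFunctorIsoPullback U.ι).hom.naturality t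
  have h3 : (Scheme.Modules.restrictFunctor U.ι).map t =
      (Scheme.Modules.restrictFunctorIsoPullback U.ι).hom.app M ≫
        (Scheme.Modules.pullback U.ι).map t ≫
          (Scheme.Modules.restrictFunctorIsoPullback U.ι).inv.app N := by
    rw [← Category.assoc, ← h2, Category.assoc, Iso.hom_inv_id_app, Category.comp_id]
  rw [h3]
  exact IsQuot.iso_comp _ (h1.comp_iso _)

/-- `(N → N/JN)~|_U` is a quotient by `J` -/
theorem isQuot_Φ_mkQ (J : Ideal A) (N : ModuleCat.{u} A) :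
    IsQuot J ((Φ A U).map (ModuleCat.ofHom (J • (⊤ : Submodule A N)).mkQ :
      N ⟶ ModuleCat.of A (↑N ⧸ J • (⊤ : Submodule A N)))) :=
  isQuot_restrict_map A U (isQuot_tilde_map A J _ (Submodule.mkQ_surjective _)
    (Submodule.ker_mkQ _))

end Quot

end Groth.Agent.Lib.AlgzModH2
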