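import Mathlib
import Groth.Prelude
import Groth.Agent.Lib.AlgzMod1_helper2

/-!
# Coherent formal modules on a punctured spectrum come from systems of finite modules (helper2)

`A` Noetherian, `I ⊆ 𝔞`, `U = Spec A ∖ V(𝔞)`, `(F_n)` a coherent formal module for `I` on `U`.
Finite submodules `M_n ⊆ H⁰(U, F_n)` with `M̃_n|_U = F_n` and `M_{n+1} → M_n` are chosen recursively
(`Msub`); the kernel and cokernel conditions follow from exactness of `N ↦ Ñ|_U` and the torsion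
criteria of `AlgzMod1`.

* `main0841` (S0841).
APPEND-ONLY once landed.
-/

set_option autoImplicit false
set_option linter.style.haveILetI false
set_option linter.unusedSectionVars false
set_option backward.isDefEq.respectTransparency false
universe u
open CategoryTheory CategoryTheory.Limits AlgebraicGeometry TopologicalSpace Opposite

namespace Groth.Agent.Lib.AlgzModH2

open Formal Groth.Agent.Lib.FormalModPowH4 Groth.Agent.Lib.FormalFnH2 Groth.Agent.Lib.FibAmpH2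
  Groth.Agent.Lib.FormalQuotH2 Groth.Agent.Lib.FibVanH2 Groth.Agent.Lib.AlgzExtH2 QcqsLoc

section Sys

variable (A : Type u) [CommRing A] [IsNoetherianRing A] (I 𝔞 : Ideal A)
  (U : (Spec (CommRingCat.of A)).Opens)
  (hfU : ∀ f ∈ 𝔞, (PrimeSpectrum.basicOpen f : (Spec (CommRingCat.of A)).Opens) ≤ U)
  (hrad : ∀ h : A, (PrimeSpectrum.basicOpen h : (Spec (CommRingCat.of A)).Opens) ≤ U →
    h ∈ 𝔞.radical)

noncomputable local instance (priority := 10000) selfOverM2 :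
    (Spec (CommRingCat.of A)).Over (Spec (CommRingCat.of A)) := ⟨𝟙 _⟩

include hrad in
/-- `𝔞`-torsion modulo `N` gives `h`-torsion for `D(h) ⊆ U` -/
theorem htors_mem {Q : Type u} [AddCommGroup Q] [Module A Q] (N : Submodule A Q)
    (hN : ∀ q : Q, ∀ f ∈ 𝔞, ∃ k : ℕ, f ^ k • q ∈ N) (h : A)
    (hle : (PrimeSpectrum.basicOpen h : (Spec (CommRingCat.of A)).Opens) ≤ U) (q : Q) :
    ∃ k : ℕ, h ^ k • q ∈ N := by
  obtain ⟨j, hj⟩ := hrad h hle
  obtain ⟨k, hk⟩ := hN q (h ^ j) hj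
  exact ⟨j * k, by rw [pow_mul]; exact hk⟩

theorem isIso_counit_Φ (Z : (↑U : Scheme.{u}).Modules) [Z.IsQuasicoherent] :
    IsIso ((adjΦ A U).counit.app Z) := by
  haveI : QuasiCompact U.ι := SubExt.quasiCompact_ι_of_locNoeth (hXSpec A) U
  haveI : ((Scheme.Modules.pushforward U.ι).obj Z).IsQuasicoherent :=
    QcqsLoc.isQuasicoherent_pushforward_qcqs U.ι _
  haveI := isIso_counit_app A ((Scheme.Modules.pushforward U.ι).obj Z)
  have h : (adjΦ A U).counit.app Z =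
      (Scheme.Modules.restrictFunctor U.ι).map
        ((Scheme.Modules.fromTildeΓNatTrans (R := CommRingCat.of A)).app
          ((Scheme.Modules.pushforward U.ι).obj Z)) ≫
        (Scheme.Modules.restrictAdjunction U.ι).counit.app Z :=
    Adjunction.comp_counit_app _ _ _
  rw [h]
  infer_instance

/-- a coherent module on `U` is generated by a finite submodule of its global sections -/
theorem exists_finite_sub (Z : (↑U : Scheme.{u}).Modules) (hZ : Coh.IsCoh Z)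
    (H : ModuleCat.{u} A) (ψ : H ≅ (Ψ A U).obj Z) :
    ∃ M' : Submodule A H, Module.Finite A M' ∧
      Epi ((Φ A U).map (ModuleCat.ofHom M'.subtype : ModuleCat.of A M' ⟶ H)) := by
  haveI := hZ.1
  obtain ⟨N, hNfin, ⟨e⟩⟩ := CohOpenH8.exists_finite_of_isCoh (R := CommRingCat.of A) U Z hZ.2
  obtain ⟨einv, heinv⟩ : ∃ einv : (Φ A U).obj N ⟶ Z, einv = e.inv := ⟨e.inv, rfl⟩
  haveI : IsIso einv := by
    rw [heinv]
    infer_instance
  obtain ⟨ℓ₀, hℓ₀⟩ : ∃ ℓ₀ : N ⟶ (Ψ A U).obj Z, ℓ₀ = (adjΦ A U).homEquiv N Z einv := ⟨_, rfl⟩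
  have h1 : (Φ A U).map ℓ₀ ≫ (adjΦ A U).counit.app Z = einv := by
    have h0 : ((adjΦ A U).homEquiv N Z).symm ℓ₀ =
        (Φ A U).map ℓ₀ ≫ (adjΦ A U).counit.app Z := rfl
    rw [← h0, hℓ₀, Equiv.symm_apply_apply]
  haveI : IsIso ((adjΦ A U).counit.app Z) := isIso_counit_Φ A U Z
  haveI : Epi ((Φ A U).map ℓ₀) := by
    have h2 : (Φ A U).map ℓ₀ = einv ≫ inv ((adjΦ A U).counit.app Z) := by
      rw [← h1, Category.assoc, IsIso.hom_inv_id, Category.comp_id]
    rw [h2]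
    infer_instance
  obtain ⟨ℓ, hℓ⟩ : ∃ ℓ : N ⟶ H, ℓ = ℓ₀ ≫ ψ.inv := ⟨_, rfl⟩
  haveI : Epi ((Φ A U).map ℓ) := by
    rw [hℓ, Functor.map_comp]
    infer_instance
  refine ⟨LinearMap.range ℓ.hom, ?_, ?_⟩
  · haveI := hNfin
    exact Module.Finite.range ℓ.hom
  · have h3 : ℓ = (ModuleCat.ofHom ℓ.hom.rangeRestrict :
        N ⟶ ModuleCat.of A (LinearMap.range ℓ.hom)) ≫
        (ModuleCat.ofHom (LinearMap.range ℓ.hom).subtype :
          ModuleCat.of A (LinearMap.range ℓ.hom) ⟶ H) := by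
      apply ModuleCat.hom_ext
      apply LinearMap.ext
      intro x
      rfl
    have h4 : Epi ((Φ A U).map (ModuleCat.ofHom ℓ.hom.rangeRestrict :
        N ⟶ ModuleCat.of A (LinearMap.range ℓ.hom)) ≫
        (Φ A U).map (ModuleCat.ofHom (LinearMap.range ℓ.hom).subtype :
          ModuleCat.of A (LinearMap.range ℓ.hom) ⟶ H)) := by
      rw [← Functor.map_comp, ← h3]
      infer_instance
    exact @epi_of_epi _ _ _ _ _ _ _ h4

variable (F : ℕᵒᵖ ⥤ (↑U : Scheme.{u}).Modules)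
  (H : ℕ → ModuleCat.{u} A) (t : ∀ n, H (n + 1) ⟶ H n)
  (M' : ∀ n, Submodule A (H n))

/-- the compatible system of submodules -/
noncomputable def Msub : ∀ n, Submodule A (H n)
  | 0 => M' 0
  | n + 1 => M' (n + 1) ⊓ Submodule.comap (t n).hom (Msub n)

theorem Msub_le (n : ℕ) : Msub A H t M' n ≤ M' n := by
  cases n with
  | zero => exact le_rfl
  | succ n => exact inf_le_left

theorem Msub_map (n : ℕ) (x : H (n + 1)) (hx : x ∈ Msub A H t M' (n + 1)) :
    (t n).hom x ∈ Msub A H t M' n := hx.2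

theorem Msub_tors (hM' : ∀ n (q : H n), ∀ f ∈ 𝔞, ∃ k : ℕ, f ^ k • q ∈ M' n) :
    ∀ n (q : H n), ∀ f ∈ 𝔞, ∃ k : ℕ, f ^ k • q ∈ Msub A H t M' n := by
  intro n
  induction n with
  | zero => exact hM' 0
  | succ n ih =>
    intro q f hf
    obtain ⟨k₁, hk₁⟩ := hM' (n + 1) q f hf
    obtain ⟨k₂, hk₂⟩ := ih ((t n).hom q) f hf
    refine ⟨k₁ + k₂, ⟨?_, ?_⟩⟩
    · rw [pow_add, mul_comm, mul_smul]
      exact Submodule.smul_mem _ _ hk₁
    · show (t n).hom (f ^ (k₁ + k₂) • q) ∈ Msub A H t M' n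
      rw [map_smul, pow_add, mul_smul]
      exact Submodule.smul_mem _ _ hk₂

theorem Msub_finite (hfin : ∀ n, Module.Finite A (M' n)) (n : ℕ) :
    Module.Finite A (Msub A H t M' n) := by
  haveI := hfin n
  haveI h0 : IsNoetherian A (M' n) := isNoetherian_of_isNoetherianRing_of_finite A _
  have h1 : (Msub A H t M' n).FG := isNoetherian_submodule.mp h0 _ (Msub_le A H t M' n)
  exact Module.Finite.iff_fg.mpr h1

/-- the transition maps of the system of submodules -/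
noncomputable def gM (n : ℕ) : ↥(Msub A H t M' (n + 1)) →ₗ[A] ↥(Msub A H t M' n) :=
  (t n).hom.restrict (fun x hx => Msub_map A H t M' n x hx)

theorem gM_coe (n : ℕ) (x : ↥(Msub A H t M' (n + 1))) :
    ((gM A H t M' n x : ↥(Msub A H t M' n)) : H n) = (t n).hom (x : H (n + 1)) := rfl

theorem Msub_smul_top_eq_bot (hkill : ∀ n, I ^ (n + 1) • (⊤ : Submodule A (H n)) = ⊥) (n : ℕ) :
    I ^ (n + 1) • (⊤ : Submodule A ↥(Msub A H t M' n)) = ⊥ := by
  have h1 := hkill n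
  rw [eq_bot_iff]
  intro x hx
  refine Submodule.smul_induction_on hx (fun a ha y _ => ?_)
    (fun y z hy hz => Submodule.add_mem _ hy hz)
  rw [Submodule.mem_bot]
  apply Subtype.ext
  have h2 : a • (y : H n) ∈ I ^ (n + 1) • (⊤ : Submodule A (H n)) :=
    Submodule.smul_mem_smul ha Submodule.mem_top
  rw [h1] at h2
  exact (Submodule.mem_bot A).mp h2

/-- the inclusions -/
noncomputable abbrev inclM (n : ℕ) : ModuleCat.of A ↥(Msub A H t M' n) ⟶ H n :=
  ModuleCat.ofHom (Msub A H t M' n).subtype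

theorem mono_inclM (n : ℕ) : Mono (inclM A H t M' n) :=
  (ModuleCat.mono_iff_injective _).mpr (Submodule.injective_subtype _)

variable (hM' : ∀ n (q : H n), ∀ f ∈ 𝔞, ∃ k : ℕ, f ^ k • q ∈ M' n)

include hrad hM' in
theorem isIso_Φ_inclM (n : ℕ) : IsIso ((Φ A U).map (inclM A H t M' n)) := by
  haveI : Mono (inclM A H t M' n) := mono_inclM A H t M' n
  haveI := mono_Φ_map A U (inclM A H t M' n)
  haveI : Epi ((Φ A U).map (inclM A H t M' n)) :=
    epi_Φ_incl A U (H n) (Msub A H t M' n)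
      (htors_mem A 𝔞 U hrad _ (Msub_tors A 𝔞 H t M' hM' n))
  exact isIso_of_mono_of_epi _

variable (φ : ∀ n, (Φ A U).obj (H n) ≅ F.obj (op n))
  (hφ : ∀ n, (Φ A U).map (t n) ≫ (φ n).hom =
    (φ (n + 1)).hom ≫ F.map (homOfLE (Nat.le_succ n)).op)
  (hkill : ∀ n, I ^ (n + 1) • (⊤ : Submodule A (H n)) = ⊥)

/-- `M̃_n|_U ≅ F_n` -/
noncomputable def eM (n : ℕ) :
    (Φ A U).obj (ModuleCat.of A ↥(Msub A H t M' n)) ≅ F.obj (op n) :=
  haveI := isIso_Φ_inclM A 𝔞 U hrad H t M' hM' n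
  asIso ((Φ A U).map (inclM A H t M' n)) ≪≫ φ n

theorem eM_hom (n : ℕ) : (eM A 𝔞 U hrad F H t M' hM' φ n).hom =
    (Φ A U).map (inclM A H t M' n) ≫ (φ n).hom := rfl

include hφ in
theorem eM_compat (n : ℕ) :
    (Φ A U).map (ModuleCat.ofHom (gM A H t M' n)) ≫ (eM A 𝔞 U hrad F H t M' hM' φ n).hom =
      (eM A 𝔞 U hrad F H t M' hM' φ (n + 1)).hom ≫ F.map (homOfLE (Nat.le_succ n)).op := by
  have h1 : ModuleCat.ofHom (gM A H t M' n) ≫ inclM A H t M' n =
      inclM A H t M' (n + 1) ≫ t n := by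
    apply ModuleCat.hom_ext
    apply LinearMap.ext
    intro x
    exact gM_coe A H t M' n x
  rw [eM_hom, eM_hom, ← Category.assoc, ← Functor.map_comp, h1, Functor.map_comp, Category.assoc,
    Category.assoc, hφ n]

include hrad hM' hφ in
theorem isQuot_Φ_gM (hF : Formal.IsCohFormal I F) (n : ℕ) :
    IsQuot (I ^ (n + 1)) ((Φ A U).map (ModuleCat.ofHom (gM A H t M' n))) := by
  have h := eM_compat A 𝔞 U hrad F H t M' hM' φ hφ n
  have h1 : (Φ A U).map (ModuleCat.ofHom (gM A H t M' n)) =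
      (eM A 𝔞 U hrad F H t M' hM' φ (n + 1)).hom ≫ F.map (homOfLE (Nat.le_succ n)).op ≫
        (eM A 𝔞 U hrad F H t M' hM' φ n).inv := by
    rw [← Category.assoc, ← h, Category.assoc, Iso.hom_inv_id, Category.comp_id]
  rw [h1]
  exact IsQuot.iso_comp _ ((isQuot_tG hF n).comp_iso _)

include hfU hrad hM' hφ in
theorem coker_tors (hF : Formal.IsCohFormal I F) (n : ℕ) (y : ↥(Msub A H t M' n)) :
    ∃ m : ℕ, ∀ a ∈ 𝔞 ^ m, a • y ∈ LinearMap.range (gM A H t M' n) := by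
  apply exists_pow_smul_mem 𝔞 (LinearMap.range (gM A H t M' n)) y
  intro f hf
  refine torsion_of_epi_Φ_incl A U (ModuleCat.of A ↥(Msub A H t M' n))
    (LinearMap.range (gM A H t M' n)) ?_ f (hfU f hf) y
  have hQ := isQuot_Φ_gM A I 𝔞 U hrad F H t M' hM' φ hφ hF n
  haveI := hQ.2.1
  have h3 : ModuleCat.ofHom (gM A H t M' n) =
      (ModuleCat.ofHom (gM A H t M' n).rangeRestrict :
        ModuleCat.of A ↥(Msub A H t M' (n + 1)) ⟶
          ModuleCat.of A (LinearMap.range (gM A H t M' n))) ≫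
      (ModuleCat.ofHom (LinearMap.range (gM A H t M' n)).subtype :
        ModuleCat.of A (LinearMap.range (gM A H t M' n)) ⟶
          ModuleCat.of A ↥(Msub A H t M' n)) := by
    apply ModuleCat.hom_ext
    apply LinearMap.ext
    intro x
    rfl
  have h4 : Epi ((Φ A U).map (ModuleCat.ofHom (gM A H t M' n).rangeRestrict :
        ModuleCat.of A ↥(Msub A H t M' (n + 1)) ⟶
          ModuleCat.of A (LinearMap.range (gM A H t M' n))) ≫
      (Φ A U).map (ModuleCat.ofHom (LinearMap.range (gM A H t M' n)).subtype :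
        ModuleCat.of A (LinearMap.range (gM A H t M' n)) ⟶
          ModuleCat.of A ↥(Msub A H t M' n))) := by
    rw [← Functor.map_comp, ← h3]
    infer_instance
  exact @epi_of_epi _ _ _ _ _ _ _ h4

include hfU hrad hM' hφ hkill in
theorem ker_tors (hF : Formal.IsCohFormal I F) (n : ℕ) (x : ↥(Msub A H t M' (n + 1)))
    (hx : gM A H t M' n x = 0) :
    ∃ m : ℕ, ∀ a ∈ 𝔞 ^ m,
      a • x ∈ I ^ (n + 1) • (⊤ : Submodule A ↥(Msub A H t M' (n + 1))) := by
  apply exists_pow_smul_mem 𝔞 _ x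
  intro f hf
  obtain ⟨N', hN'⟩ : ∃ N' : Submodule A ↥(Msub A H t M' (n + 1)),
      N' = I ^ (n + 1) • (⊤ : Submodule A ↥(Msub A H t M' (n + 1))) := ⟨_, rfl⟩
  rw [← hN']
  have hker : N' ≤ LinearMap.ker (gM A H t M' n) := by
    rw [hN', Submodule.smul_le]
    intro a ha y _
    rw [LinearMap.mem_ker, map_smul]
    have h1 : a • gM A H t M' n y ∈ I ^ (n + 1) • (⊤ : Submodule A ↥(Msub A H t M' n)) :=
      Submodule.smul_mem_smul ha Submodule.mem_top
    rw [Msub_smul_top_eq_bot A I H t M' hkill n] at h1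
    exact (Submodule.mem_bot A).mp h1
  obtain ⟨π, hπdef⟩ : ∃ π : ModuleCat.of A ↥(Msub A H t M' (n + 1)) ⟶
      ModuleCat.of A (↥(Msub A H t M' (n + 1)) ⧸ N'), π = ModuleCat.ofHom N'.mkQ := ⟨_, rfl⟩
  obtain ⟨gbar, hgbar⟩ : ∃ gbar : ModuleCat.of A (↥(Msub A H t M' (n + 1)) ⧸ N') ⟶
      ModuleCat.of A ↥(Msub A H t M' n),
      gbar = ModuleCat.ofHom (N'.liftQ (gM A H t M' n) hker) := ⟨_, rfl⟩
  have hπg : π ≫ gbar = ModuleCat.ofHom (gM A H t M' n) := by
    rw [hπdef, hgbar]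
    apply ModuleCat.hom_ext
    apply LinearMap.ext
    intro z
    rfl
  have hπ : IsQuot (I ^ (n + 1)) ((Φ A U).map π) := by
    rw [hπdef, hN']
    exact isQuot_Φ_mkQ A U (I ^ (n + 1)) (ModuleCat.of A ↥(Msub A H t M' (n + 1)))
  have hg : IsQuot (I ^ (n + 1)) ((Φ A U).map π ≫ (Φ A U).map gbar) := by
    rw [← Functor.map_comp, hπg]
    exact isQuot_Φ_gM A I 𝔞 U hrad F H t M' hM' φ hφ hF n
  have hgb : IsQuot (I ^ (n + 1)) ((Φ A U).map gbar) := IsQuot.of_comp hπ hg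
  have hkillQ : Formal.KilledBy (I ^ (n + 1))
      ((Φ A U).obj (ModuleCat.of A (↥(Msub A H t M' (n + 1)) ⧸ N'))) := by
    haveI := hπ.2.1
    intro a ha
    rw [← cancel_epi ((Φ A U).map π), comp_zero, ← smulMod_naturality]
    exact hπ.1 a ha
  haveI : IsIso ((Φ A U).map gbar) := hgb.isIso_of_killed hkillQ
  obtain ⟨K, hK⟩ : ∃ K : Submodule A (↥(Msub A H t M' (n + 1)) ⧸ N'),
      K = LinearMap.ker (N'.liftQ (gM A H t M' n) hker) := ⟨_, rfl⟩
  obtain ⟨κ, hκdef⟩ : ∃ κ : ModuleCat.of A K ⟶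
      ModuleCat.of A (↥(Msub A H t M' (n + 1)) ⧸ N'), κ = ModuleCat.ofHom K.subtype := ⟨_, rfl⟩
  have hκ : κ ≫ gbar = 0 := by
    rw [hκdef, hgbar]
    apply ModuleCat.hom_ext
    apply LinearMap.ext
    intro z
    have hz : (z : ↥(Msub A H t M' (n + 1)) ⧸ N') ∈
        LinearMap.ker (N'.liftQ (gM A H t M' n) hker) := by
      rw [← hK]
      exact z.2
    exact hz
  haveI : Mono κ := by
    rw [hκdef]
    exact (ModuleCat.mono_iff_injective _).mpr (Submodule.injective_subtype _)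
  haveI := mono_Φ_map A U κ
  have h0 : (Φ A U).map κ = 0 := by
    rw [← cancel_mono ((Φ A U).map gbar), ← Functor.map_comp, hκ, Functor.map_zero, zero_comp]
  have hz : IsZero ((Φ A U).obj (ModuleCat.of A K)) := by
    rw [IsZero.iff_id_eq_zero, ← cancel_mono ((Φ A U).map κ), h0, comp_zero, comp_zero]
  have hxK : N'.mkQ x ∈ K := by
    rw [hK, LinearMap.mem_ker]
    exact hx
  obtain ⟨k, hk⟩ := torsion_of_isZero_Φ A U _ hz f (hfU f hf)
    (⟨N'.mkQ x, hxK⟩ : ↥K)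
  refine ⟨k, ?_⟩
  have h5 : N'.mkQ (f ^ k • x) = 0 := by
    rw [map_smul]
    exact congrArg Subtype.val hk
  exact (Submodule.Quotient.mk_eq_zero N').mp h5

end Sys

section Main

variable (A : Type u) [CommRing A] [IsNoetherianRing A] (I 𝔞 : Ideal A)

theorem main0841 (hI : I ≤ 𝔞)
    (F : ℕᵒᵖ ⥤ (↑(LocCoh.puncturedOpen A 𝔞) : Scheme.{u}).Modules)
    (hF : Formal.IsCohFormal I F) :
    ∃ (M : ℕ → Type u) (_ : ∀ n, AddCommGroup (M n)) (_ : ∀ n, Module A (M n))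
      (g : ∀ n, M (n + 1) →ₗ[A] M n),
      (∀ n, Module.Finite A (M n)) ∧ (∀ n, I ^ (n + 1) • (⊤ : Submodule A (M n)) = ⊥) ∧
      (∀ n (x : M (n + 1)), g n x = 0 → ∃ m : ℕ, ∀ a ∈ 𝔞 ^ m,
        a • x ∈ I ^ (n + 1) • (⊤ : Submodule A (M (n + 1)))) ∧
      (∀ n (y : M n), ∃ m : ℕ, ∀ a ∈ 𝔞 ^ m, a • y ∈ LinearMap.range (g n)) ∧
      Nonempty (F ≅ Functor.ofOpSequence
        (X := fun n => (Scheme.Modules.restrictFunctor (LocCoh.puncturedOpen A 𝔞).ι).obj
          (Formal2.tmod A (M n)))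
        (fun n => (Scheme.Modules.restrictFunctor (LocCoh.puncturedOpen A 𝔞).ι).map
          (Formal2.tmodMap A (g n)))) := by
  have hfU := basicOpen_le_puncturedOpen A 𝔞
  have hrad := mem_radical_of_basicOpen_le A 𝔞
  have hq : ∀ n, (F.obj (op n)).IsQuasicoherent := fun n => (hF.1 n).1
  obtain ⟨H, t, φ, hφ, hkill, hψ⟩ : ∃ (H : ℕ → ModuleCat.{u} A) (t : ∀ n, H (n + 1) ⟶ H n)
      (φ : ∀ n, (Φ A (LocCoh.puncturedOpen A 𝔞)).obj (H n) ≅ F.obj (op n)),
      (∀ n, (Φ A (LocCoh.puncturedOpen A 𝔞)).map (t n) ≫ (φ n).hom =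
        (φ (n + 1)).hom ≫ F.map (homOfLE (Nat.le_succ n)).op) ∧
      (∀ n, I ^ (n + 1) • (⊤ : Submodule A (H n)) = ⊥) ∧
      (∀ n, Nonempty (H n ≅ (Ψ A (LocCoh.puncturedOpen A 𝔞)).obj (F.obj (op n)))) :=
    ⟨fun n => (Algz.sectMod A (LocCoh.puncturedOpen A 𝔞) F).obj (op n),
      fun n => (Algz.sectMod A (LocCoh.puncturedOpen A 𝔞) F).map (homOfLE (Nat.le_succ n)).op,
      fun n => (secIso A (LocCoh.puncturedOpen A 𝔞) F hq).app (op n),
      fun n => (secIso A (LocCoh.puncturedOpen A 𝔞) F hq).hom.naturality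
        (homOfLE (Nat.le_succ n)).op,
      sectMod_killed A I (LocCoh.puncturedOpen A 𝔞) F hF.2.1,
      fun n => ⟨Iso.refl _⟩⟩
  have hex : ∀ n, ∃ M' : Submodule A (H n), Module.Finite A M' ∧
      Epi ((Φ A (LocCoh.puncturedOpen A 𝔞)).map
        (ModuleCat.ofHom M'.subtype : ModuleCat.of A M' ⟶ H n)) := fun n => by
    obtain ⟨ψ⟩ := hψ n
    exact exists_finite_sub A (LocCoh.puncturedOpen A 𝔞) (F.obj (op n)) (hF.1 n) (H n) ψ
  choose M' hfin hepi using hex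
  have hM' : ∀ n (q : H n), ∀ f ∈ 𝔞, ∃ k : ℕ, f ^ k • q ∈ M' n := fun n q f hf =>
    torsion_of_epi_Φ_incl A (LocCoh.puncturedOpen A 𝔞) (H n) (M' n) (hepi n) f (hfU f hf) q
  refine ⟨fun n => ↥(Msub A H t M' n), fun n => inferInstance,
    fun n => inferInstance, gM A H t M',
    Msub_finite A H t M' hfin,
    Msub_smul_top_eq_bot A I H t M' hkill,
    ker_tors A I 𝔞 (LocCoh.puncturedOpen A 𝔞) hfU hrad F H t M' hM' φ hφ hkill hF,
    coker_tors A I 𝔞 (LocCoh.puncturedOpen A 𝔞) hfU hrad F H t M' hM' φ hφ hF, ?_⟩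
  have hnat : ∀ n, F.map (homOfLE (Nat.le_succ n)).op ≫
      (eM A 𝔞 (LocCoh.puncturedOpen A 𝔞) hrad F H t M' hM' φ n).inv =
      (eM A 𝔞 (LocCoh.puncturedOpen A 𝔞) hrad F H t M' hM' φ (n + 1)).inv ≫
        (Φ A (LocCoh.puncturedOpen A 𝔞)).map (ModuleCat.ofHom (gM A H t M' n)) := by
    intro n
    rw [Iso.comp_inv_eq, Category.assoc, Iso.eq_inv_comp]
    exact (eM_compat A 𝔞 (LocCoh.puncturedOpen A 𝔞) hrad F H t M' hM' φ hφ n).symm
  let α : F ⟶ Functor.ofOpSequence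
      (X := fun n => (Scheme.Modules.restrictFunctor (LocCoh.puncturedOpen A 𝔞).ι).obj
        (Formal2.tmod A ↥(Msub A H t M' n)))
      (fun n => (Scheme.Modules.restrictFunctor (LocCoh.puncturedOpen A 𝔞).ι).map
        (Formal2.tmodMap A (gM A H t M' n))) :=
    NatTrans.ofOpSequence
      (fun n => (eM A 𝔞 (LocCoh.puncturedOpen A 𝔞) hrad F H t M' hM' φ n).inv) (fun n => by
        rw [Functor.ofOpSequence_map_homOfLE_succ]
        exact hnat n)
  haveI : ∀ n, IsIso (α.app n) := fun n => by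
    show IsIso (eM A 𝔞 (LocCoh.puncturedOpen A 𝔞) hrad F H t M' hM' φ n.unop).inv
    infer_instance
  haveI : IsIso α := NatIso.isIso_of_isIso_app α
  exact ⟨asIso α⟩

end Main

end Groth.Agent.Lib.AlgzModH2
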