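import Mathlib

/-!
# The big polynomial quotient adjoining a root of every monic polynomial (helper3)
-/

set_option autoImplicit false
universe u

open Polynomial

namespace Groth.Agent.Lib.AllRoots

section General

variable (A T : Type u) [CommRing A] [CommRing T] [Algebra A T]

/-- If `T` is integral over `A` and every monic polynomial of positive degree over `A` has a root
in `T`, then every residue field of `T` is an algebraic closure of the residue field below. -/
theorem residueField_isAlgClosed [Algebra.IsIntegral A T]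
    (hroot : ∀ P : A[X], P.Monic → 0 < P.natDegree → ∃ t : T, aeval t P = 0)
    (Q : Ideal T) [Q.IsPrime] :
    IsAlgClosed Q.ResidueField ∧
      (Ideal.ResidueField.map (Q.comap (algebraMap A T)) Q (algebraMap A T) rfl).IsIntegral := by
  set p := Q.comap (algebraMap A T) with hp
  letI : Algebra p.ResidueField Q.ResidueField :=
    (Ideal.ResidueField.map p Q (algebraMap A T) rfl).toAlgebra
  haveI : IsScalarTower A p.ResidueField Q.ResidueField :=
    IsScalarTower.of_algebraMap_eq (fun a => by
      rw [RingHom.algebraMap_toAlgebra, Ideal.ResidueField.map_algebraMap,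
        ← IsScalarTower.algebraMap_apply])
  haveI : Algebra.IsIntegral A (T ⧸ Q) :=
    Algebra.IsIntegral.of_surjective (Ideal.Quotient.mkₐ A Q) Ideal.Quotient.mk_surjective
  haveI alg : Algebra.IsAlgebraic p.ResidueField Q.ResidueField :=
    isAlgebraic_of_isFractionRing A (T ⧸ Q) p.ResidueField Q.ResidueField
  have hint : (Ideal.ResidueField.map p Q (algebraMap A T) rfl).IsIntegral :=
    fun x => (alg.isAlgebraic x).isIntegral
  have hcl : IsAlgClosure p.ResidueField Q.ResidueField := by
    apply IsAlgClosure.of_exists_root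
    intro h hmon hirr
    have hdeg : 0 < h.natDegree := hirr.natDegree_pos
    -- clear denominators
    obtain ⟨b, hb⟩ := IsLocalization.integerNormalization_map_to_map
      (nonZeroDivisors (A ⧸ p)) h
    set g := IsLocalization.integerNormalization (nonZeroDivisors (A ⧸ p)) h with hg
    have hbK : algebraMap (A ⧸ p) p.ResidueField (b : A ⧸ p) ≠ 0 := by
      rw [Ne, map_eq_zero_iff _ (IsFractionRing.injective (A ⧸ p) p.ResidueField)]
      exact nonZeroDivisors.coe_ne_zero b
    have hmap : g.map (algebraMap (A ⧸ p) p.ResidueField) =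
        C (algebraMap (A ⧸ p) p.ResidueField (b : A ⧸ p)) * h := by
      rw [hb, Algebra.smul_def, Polynomial.algebraMap_apply]
    have hgdeg : g.natDegree = h.natDegree := by
      rw [← Polynomial.natDegree_map_eq_of_injective
        (IsFractionRing.injective (A ⧸ p) p.ResidueField) g, hmap,
        Polynomial.natDegree_C_mul hbK]
    have hg0 : g ≠ 0 := by
      intro h0
      rw [h0, natDegree_zero] at hgdeg
      omega
    have hGmon : (integralNormalization g).Monic := monic_integralNormalization hg0
    have hGdeg : (integralNormalization g).natDegree = h.natDegree := by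
      rw [natDegree_integralNormalization, hgdeg]
    -- lift to a monic polynomial over `A`
    have hlift : integralNormalization g ∈ Polynomial.lifts (Ideal.Quotient.mk p) := by
      rw [Polynomial.mem_lifts]
      exact Polynomial.map_surjective _ Ideal.Quotient.mk_surjective _
    obtain ⟨P, hPmap, hPdeg, hPmon⟩ := Polynomial.lifts_and_natDegree_eq_and_monic hlift hGmon
    obtain ⟨t, ht⟩ := hroot P hPmon (by rw [hPdeg, hGdeg]; exact hdeg)
    set y : Q.ResidueField := algebraMap T Q.ResidueField t with hy
    have hy0 : aeval y P = 0 := by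
      rw [hy, Polynomial.aeval_algebraMap_apply, ht, map_zero]
    set φ₀ : (A ⧸ p) →+* Q.ResidueField :=
      (algebraMap p.ResidueField Q.ResidueField).comp (algebraMap (A ⧸ p) p.ResidueField)
      with hφ₀
    have hφ₀mk : φ₀.comp (Ideal.Quotient.mk p) = algebraMap A Q.ResidueField := by
      ext a
      rw [IsScalarTower.algebraMap_apply A p.ResidueField Q.ResidueField]
      rfl
    have hG0 : (integralNormalization g).eval₂ φ₀ y = 0 := by
      rw [← hPmap, Polynomial.eval₂_map, hφ₀mk]
      exact hy0
    have hc : φ₀ g.leadingCoeff ≠ 0 := by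
      rw [hφ₀, RingHom.comp_apply, Ne, map_eq_zero,
        map_eq_zero_iff _ (IsFractionRing.injective (A ⧸ p) p.ResidueField)]
      exact leadingCoeff_ne_zero.mpr hg0
    have h1 := integralNormalization_eval₂_leadingCoeff_mul (p := g)
      (by rw [hgdeg]; exact hdeg) φ₀ (y / φ₀ g.leadingCoeff)
    rw [mul_div_cancel₀ _ hc, hG0] at h1
    have h2 : g.eval₂ φ₀ (y / φ₀ g.leadingCoeff) = 0 := by
      rcases mul_eq_zero.mp h1.symm with h3 | h3
      · exact (pow_ne_zero _ hc h3).elim
      · exact h3
    refine ⟨y / φ₀ g.leadingCoeff, ?_⟩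
    have h3 : g.eval₂ φ₀ (y / φ₀ g.leadingCoeff) =
        (g.map (algebraMap (A ⧸ p) p.ResidueField)).eval₂
          (algebraMap p.ResidueField Q.ResidueField) (y / φ₀ g.leadingCoeff) := by
      rw [Polynomial.eval₂_map]
    rw [h3, hmap, Polynomial.eval₂_mul, Polynomial.eval₂_C] at h2
    rcases mul_eq_zero.mp h2 with h4 | h4
    · exact (hbK ((map_eq_zero _).mp h4)).elim
    · exact h4
  exact ⟨hcl.isAlgClosed, hint⟩

end General

section Concrete

variable (A : Type u) [CommRing A]

/-- index type -/
abbrev Idx : Type u := {P : Polynomial A // P.Monic ∧ 0 < P.natDegree}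

/-- the ideal of relations -/
noncomputable abbrev Jgen : Ideal (MvPolynomial (Idx A) A) :=
  Ideal.span (Set.range fun P : Idx A => Polynomial.aeval (MvPolynomial.X (R := A) P) P.1)

/-- the big quotient -/
abbrev TT : Type u := MvPolynomial (Idx A) A ⧸ Jgen A

lemma hroot (P : A[X]) (hmon : P.Monic) (hdeg : 0 < P.natDegree) :
    ∃ t : TT A, aeval t P = 0 := by
  refine ⟨Ideal.Quotient.mkₐ A (Jgen A) (MvPolynomial.X ⟨P, hmon, hdeg⟩), ?_⟩
  rw [Polynomial.aeval_algHom_apply, Ideal.Quotient.mkₐ_eq_mk, Ideal.Quotient.eq_zero_iff_mem]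
  exact Ideal.subset_span ⟨⟨P, hmon, hdeg⟩, rfl⟩

instance isIntegral_TT : Algebra.IsIntegral A (TT A) := by
  constructor
  intro z
  obtain ⟨q, rfl⟩ := Ideal.Quotient.mk_surjective z
  induction q using MvPolynomial.induction_on with
  | C a =>
    have : (Ideal.Quotient.mk (Jgen A)) (MvPolynomial.C a) = algebraMap A (TT A) a := rfl
    rw [this]
    exact isIntegral_algebraMap
  | add p q hp hq =>
    rw [map_add]
    exact hp.add hq
  | mul_X p i hp =>
    rw [map_mul]
    refine hp.mul ?_
    refine ⟨i.1, i.2.1, ?_⟩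
    have h1 : aeval (Ideal.Quotient.mkₐ A (Jgen A) (MvPolynomial.X i)) i.1 = 0 := by
      rw [Polynomial.aeval_algHom_apply, Ideal.Quotient.mkₐ_eq_mk, Ideal.Quotient.eq_zero_iff_mem]
      exact Ideal.subset_span ⟨i, rfl⟩
    exact h1

theorem comap_surjective :
    Function.Surjective (PrimeSpectrum.comap (algebraMap A (TT A))) := by
  intro p
  let K := p.asIdeal.ResidueField
  let Ω := AlgebraicClosure K
  have hex : ∀ P : Idx A, ∃ r : Ω, aeval r P.1 = 0 := by
    intro P
    have hmon : (P.1.map (algebraMap A Ω)).Monic := P.2.1.map _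
    have hdeg : (P.1.map (algebraMap A Ω)).degree ≠ 0 := by
      rw [Polynomial.degree_eq_natDegree hmon.ne_zero, P.2.1.natDegree_map]
      exact_mod_cast P.2.2.ne'
    obtain ⟨r, hr⟩ := IsAlgClosed.exists_root _ hdeg
    refine ⟨r, ?_⟩
    rw [Polynomial.aeval_def, ← Polynomial.eval_map]
    exact hr
  choose r hr using hex
  let φ₀ : MvPolynomial (Idx A) A →ₐ[A] Ω := MvPolynomial.aeval r
  have hker : ∀ a ∈ Jgen A, φ₀ a = 0 := by
    intro a ha
    have hle : Jgen A ≤ RingHom.ker φ₀.toRingHom := by
      rw [Ideal.span_le]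
      rintro _ ⟨P, rfl⟩
      show φ₀ (Polynomial.aeval (MvPolynomial.X (R := A) P) P.1) = 0
      rw [← Polynomial.aeval_algHom_apply, MvPolynomial.aeval_X]
      exact hr P
    exact hle ha
  let φ : TT A →ₐ[A] Ω := Ideal.Quotient.liftₐ (Jgen A) φ₀ hker
  refine ⟨⟨RingHom.ker φ.toRingHom, RingHom.ker_isPrime _⟩, ?_⟩
  apply PrimeSpectrum.ext
  show (RingHom.ker φ.toRingHom).comap (algebraMap A (TT A)) = p.asIdeal
  ext a
  rw [Ideal.mem_comap, RingHom.mem_ker]
  show φ (algebraMap A (TT A) a) = 0 ↔ _
  rw [φ.commutes, IsScalarTower.algebraMap_apply A K Ω, map_eq_zero,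
    Ideal.algebraMap_residueField_eq_zero]

end Concrete

end Groth.Agent.Lib.AllRoots
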