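import Mathlib
import Groth.Prelude.Def_BigSite
import Groth.Prelude.Def_SGA4b
import Groth.Agent.Lib.EtZeroDim_helper7

/-!
# Condition (B): `f_*` on sheaves of sets preserves epimorphisms (helper7)
-/

set_option autoImplicit false
set_option backward.isDefEq.respectTransparency false
universe u
open CategoryTheory CategoryTheory.Limits AlgebraicGeometry Opposite TopologicalSpace

namespace Groth.Agent.Lib.PropB_helper7

open Groth.Agent.Lib.EtSchSite_helper7 Groth.Agent.Lib.EtZeroDim_helper7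
  Groth.Agent.Lib.EtFlasque_helper7

variable {X Y : Scheme.{u}}

section Glue

variable (F : EtDesc.Sh X) (Z : X.Etale) {ι : Type u} (W : ι → Z.left.Opens)

/-- an open of an étale `X`-scheme as an étale `X`-scheme -/
noncomputable abbrev WO (k : ι) : X.Etale :=
  haveI : Etale Z.hom := Z.prop
  Scheme.Etale.mk ((W k).ι ≫ Z.hom)

/-- the inclusion -/
noncomputable abbrev jW (k : ι) : WO Z W k ⟶ Z :=
  MorphismProperty.Over.homMk (W k).ι rfl trivial

instance mono_jW (k : ι) : Mono (jW Z W k) :=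
  haveI : Mono (jW Z W k).left := inferInstanceAs (Mono (W k).ι)
  mono_of_left_mono _

theorem cover_mem (hcov : ∀ z : Z.left, ∃ k, z ∈ W k) :
    Sieve.ofArrows (fun k => WO Z W k) (fun k => jW Z W k) ∈ X.smallEtaleTopology Z := by
  apply sieve_mem_of_forall_exists
  intro z
  obtain ⟨k, hk⟩ := hcov z
  have hk' : z ∈ Set.range (W k).ι := by rw [Scheme.Opens.range_ι]; exact hk
  exact ⟨WO Z W k, jW Z W k, Sieve.ofArrows_mk _ _ k, hk'⟩

theorem mem_of_ι (O : Z.left.Opens) (y : O.toScheme) : O.ι y ∈ O := by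
  have := Set.mem_range_self (f := O.ι) y
  rw [Scheme.Opens.range_ι] at this
  exact this

theorem hsheaf : Presieve.IsSheaf X.smallEtaleTopology F.obj :=
  (isSheaf_iff_isSheaf_of_type _ _).1 F.2

theorem subsingleton_of_isEmpty (Z' : X.Etale) [IsEmpty Z'.left] :
    Subsingleton (F.obj.obj (op Z')) := by
  have hbot : (⊥ : Sieve Z') ∈ X.smallEtaleTopology Z' :=
    sieve_mem_of_forall_exists ⊥ (fun w => (IsEmpty.false w).elim)
  refine ⟨fun a b => ?_⟩
  exact (hsheaf F _ hbot).isSeparatedFor.ext (fun Y f hf => by cases hf)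

theorem fam_sheafFor (hcov : ∀ z : Z.left, ∃ k, z ∈ W k) :
    Presieve.IsSheafFor F.obj (Presieve.ofArrows (fun k => WO Z W k) (fun k => jW Z W k)) :=
  (Presieve.isSheafFor_iff_generate _).2 (hsheaf F _ (cover_mem Z W hcov))

theorem glue (hcov : ∀ z : Z.left, ∃ k, z ∈ W k) (hd : ∀ k l, k ≠ l → Disjoint (W k) (W l))
    (s : ∀ k, F.obj.obj (op (WO Z W k))) :
    ∃ r : F.obj.obj (op Z), ∀ k, F.obj.map (jW Z W k).op r = s k := by
  have hsh := fam_sheafFor F Z W hcov
  rw [Presieve.isSheafFor_arrows_iff] at hsh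
  obtain ⟨r, hr, -⟩ := hsh s (by
    intro k l Z' gi gj hij
    by_cases hkl : k = l
    · subst hkl
      have : gi = gj := (cancel_mono (jW Z W k)).1 hij
      rw [this]
    · haveI : IsEmpty Z'.left := by
        refine ⟨fun z' => ?_⟩
        have h0 : gi.left ≫ (W k).ι = gj.left ≫ (W l).ι :=
          congrArg (fun m => m.left) hij
        have h1 : (W k).ι (gi.left z') = (W l).ι (gj.left z') :=
          congrArg (fun (m : Z'.left ⟶ Z.left) => m z') h0
        have hk1 : (W k).ι (gi.left z') ∈ W k := mem_of_ι Z _ _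
        have hl1 : (W l).ι (gj.left z') ∈ W l := mem_of_ι Z _ _
        rw [← h1] at hl1
        have : (W k).ι (gi.left z') ∈ (⊥ : Z.left.Opens) := (hd k l hkl).le_bot ⟨hk1, hl1⟩
        exact absurd this (by simp)
      exact (subsingleton_of_isEmpty F Z').elim _ _)
  exact ⟨r, hr⟩

theorem sep (hcov : ∀ z : Z.left, ∃ k, z ∈ W k) (r r' : F.obj.obj (op Z))
    (h : ∀ k, F.obj.map (jW Z W k).op r = F.obj.map (jW Z W k).op r') : r = r' := by
  refine (fam_sheafFor F Z W hcov).isSeparatedFor.ext ?_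
  rintro Y f ⟨k⟩
  exact h k

end Glue

section Basic

theorem nat_apply {F G : EtDesc.Sh X} (a : F ⟶ G) {A B : X.Etale} (m : A ⟶ B)
    (x : F.obj.obj (op B)) :
    a.hom.app (op A) (F.obj.map m.op x) = G.obj.map m.op (a.hom.app (op B) x) :=
  NatTrans.naturality_apply a.hom m.op x

theorem map_comp_apply' (G : EtDesc.Sh X) {A B C : X.Etale} (m : A ⟶ B) (n : B ⟶ C)
    (x : G.obj.obj (op C)) :
    G.obj.map (m ≫ n).op x = G.obj.map m.op (G.obj.map n.op x) := by
  rw [op_comp, CategoryTheory.FunctorToTypes.map_comp_apply]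

theorem map_hom_inv (F : EtDesc.Sh X) {Z B : X.Etale} (e : Z ≅ B) (r : F.obj.obj (op Z)) :
    F.obj.map e.hom.op (F.obj.map e.inv.op r) = r := by
  rw [← map_comp_apply', e.hom_inv_id, op_id, CategoryTheory.FunctorToTypes.map_id_apply]

theorem map_inv_hom (F : EtDesc.Sh X) {Z B : X.Etale} (e : Z ≅ B) (r : F.obj.obj (op B)) :
    F.obj.map e.inv.op (F.obj.map e.hom.op r) = r := by
  rw [← map_comp_apply', e.inv_hom_id, op_id, CategoryTheory.FunctorToTypes.map_id_apply]

theorem map_iso_injective (G : EtDesc.Sh X) {Z B : X.Etale} (e : Z ≅ B) :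
    Function.Injective (G.obj.map e.hom.op) := by
  intro p p' hp
  calc p = G.obj.map e.inv.op (G.obj.map e.hom.op p) := (map_inv_hom G e p).symm
    _ = G.obj.map e.inv.op (G.obj.map e.hom.op p') := congrArg _ hp
    _ = p' := map_inv_hom G e p'

theorem bc_map_left_fst (f : X ⟶ Y) {U V : Y.Etale} (g : V ⟶ U) :
    ((EtCoh.bc f).map g).left ≫ pullback.fst U.hom f = pullback.fst V.hom f ≫ g.left :=
  (EtCoh.isPullback_bc_map f g).w

theorem bc_map_left_snd (f : X ⟶ Y) {U V : Y.Etale} (g : V ⟶ U) :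
    ((EtCoh.bc f).map g).left ≫ pullback.snd U.hom f = pullback.snd V.hom f := by
  dsimp [EtCoh.bc]
  exact pullback.lift_snd _ _ _

theorem map_symm (f : X ⟶ Y) (A : Y.Etale) {V' : Scheme.{u}} (w : V' ⟶ A.left) [Etale w]
    (h1 : f ≫ 𝟙 Y = 𝟙 X ≫ f) (h2 : (w ≫ A.hom) ≫ 𝟙 Y = w ≫ A.hom) :
    haveI : Etale A.hom := A.prop
    pullback.map f (w ≫ A.hom) f A.hom (𝟙 X) w (𝟙 Y) h1 h2 ≫ (pullbackSymmetry f A.hom).hom =
      (pullbackSymmetry f (w ≫ A.hom)).hom ≫
        ((EtCoh.bc f).map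
          (MorphismProperty.Over.homMk w rfl trivial : Scheme.Etale.mk (w ≫ A.hom) ⟶ A)).left := by
  haveI : Etale A.hom := A.prop
  let q : Scheme.Etale.mk (w ≫ A.hom) ⟶ A := MorphismProperty.Over.homMk w rfl trivial
  have e1 : ((EtCoh.bc f).map q).left ≫ pullback.fst A.hom f =
      pullback.fst (w ≫ A.hom) f ≫ w := bc_map_left_fst f q
  have e2 : ((EtCoh.bc f).map q).left ≫ pullback.snd A.hom f =
      pullback.snd (w ≫ A.hom) f := bc_map_left_snd f q
  show pullback.map f (w ≫ A.hom) f A.hom (𝟙 X) w (𝟙 Y) h1 h2 ≫ (pullbackSymmetry f A.hom).hom =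
      (pullbackSymmetry f (w ≫ A.hom)).hom ≫ ((EtCoh.bc f).map q).left
  apply pullback.hom_ext
  · calc (pullback.map f (w ≫ A.hom) f A.hom (𝟙 X) w (𝟙 Y) h1 h2 ≫
            (pullbackSymmetry f A.hom).hom) ≫ pullback.fst A.hom f
        = pullback.map f (w ≫ A.hom) f A.hom (𝟙 X) w (𝟙 Y) h1 h2 ≫ pullback.snd f A.hom := by
          rw [Category.assoc, pullbackSymmetry_hom_comp_fst]
      _ = pullback.snd f (w ≫ A.hom) ≫ w := pullback.lift_snd _ _ _
      _ = ((pullbackSymmetry f (w ≫ A.hom)).hom ≫ pullback.fst (w ≫ A.hom) f) ≫ w := by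
          rw [pullbackSymmetry_hom_comp_fst]
      _ = (pullbackSymmetry f (w ≫ A.hom)).hom ≫ ((EtCoh.bc f).map q).left ≫
            pullback.fst A.hom f := by rw [Category.assoc, e1]
      _ = _ := (Category.assoc _ _ _).symm
  · calc (pullback.map f (w ≫ A.hom) f A.hom (𝟙 X) w (𝟙 Y) h1 h2 ≫
            (pullbackSymmetry f A.hom).hom) ≫ pullback.snd A.hom f
        = pullback.map f (w ≫ A.hom) f A.hom (𝟙 X) w (𝟙 Y) h1 h2 ≫ pullback.fst f A.hom := by
          rw [Category.assoc, pullbackSymmetry_hom_comp_snd]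
      _ = pullback.fst f (w ≫ A.hom) ≫ 𝟙 X := pullback.lift_fst _ _ _
      _ = pullback.fst f (w ≫ A.hom) := Category.comp_id _
      _ = (pullbackSymmetry f (w ≫ A.hom)).hom ≫ pullback.snd (w ≫ A.hom) f :=
          (pullbackSymmetry_hom_comp_snd _ _).symm
      _ = (pullbackSymmetry f (w ≫ A.hom)).hom ≫ ((EtCoh.bc f).map q).left ≫
            pullback.snd A.hom f := by rw [e2]
      _ = _ := (Category.assoc _ _ _).symm

end Basic

theorem key (f : X ⟶ Y) (hB : BigSite.PropB f) {F G : EtDesc.Sh X} (a : F ⟶ G)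
    [hls : Sheaf.IsLocallySurjective a] (A : Y.Etale)
    (t : G.obj.obj (op ((EtCoh.bc f).obj A))) :
    Presheaf.imageSieve ((EtDesc.pushSh f).map a).hom t ∈ Y.smallEtaleTopology A := by
  haveI : Etale A.hom := A.prop
  have hmem := hls.imageSieve_mem (U := (EtCoh.bc f).obj A) t
  have hx : ∀ x' : ↥(pullback f A.hom), ∃ (U : X.Etale) (g : U ⟶ (EtCoh.bc f).obj A),
      (∃ s : F.obj.obj (op U), a.hom.app (op U) s = G.obj.map g.op t) ∧
        (pullbackSymmetry f A.hom).hom x' ∈ Set.range g.left := by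
    intro x'
    exact exists_of_mem _ hmem ((pullbackSymmetry f A.hom).hom x')
  choose U g hs hr using hx
  choose s hs using hs
  let gg : ∀ i : ↥(pullback f A.hom), (U i).left ⟶ pullback f A.hom :=
    fun i => (g i).left ≫ (pullbackSymmetry f A.hom).inv
  have hge : ∀ i, Etale (gg i) := fun i => inferInstance
  have hcov : ∀ x : ↥(pullback f A.hom), ∃ i, x ∈ Set.range (gg i).base := by
    intro x
    obtain ⟨y, hy⟩ := hr x
    refine ⟨x, y, ?_⟩
    have e2 : (pullbackSymmetry f A.hom).inv ((pullbackSymmetry f A.hom).hom x) = x := by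
      have e : (pullbackSymmetry f A.hom).hom ≫ (pullbackSymmetry f A.hom).inv = 𝟙 _ :=
        Iso.hom_inv_id _
      exact congrArg (fun m : pullback f A.hom ⟶ pullback f A.hom => m x) e
    have e1 : (gg x).base y = (pullbackSymmetry f A.hom).inv ((g x).left y) := rfl
    exact e1.trans ((congrArg (fun z => (pullbackSymmetry f A.hom).inv z) hy).trans e2)
  obtain ⟨κ, V', v', hv', hVcov, hW⟩ :=
    hB A.left A.hom (↥(pullback f A.hom)) (fun i => (U i).left) gg hge hcov
  apply sieve_mem_of_forall_exists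
  intro y
  obtain ⟨j, hj⟩ := hVcov y
  haveI : Etale (v' j) := hv' j
  obtain ⟨μ, W, hd, hsup, hfac⟩ := hW j
  choose ia h hh using hfac
  let A' : Y.Etale := Scheme.Etale.mk (v' j ≫ A.hom)
  let q : A' ⟶ A := MorphismProperty.Over.homMk (v' j) rfl trivial
  let Z : X.Etale := Scheme.Etale.mk (pullback.fst f (v' j ≫ A.hom))
  let e : Z ≅ (EtCoh.bc f).obj A' :=
    MorphismProperty.Over.isoMk (pullbackSymmetry f (v' j ≫ A.hom))
      (pullbackSymmetry_hom_comp_snd f (v' j ≫ A.hom))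
  let W' : μ → Z.left.Opens := W
  have hcovW : ∀ z : Z.left, ∃ a, z ∈ W' a := by
    intro z
    have hz : z ∈ (⨆ a, W a) := by rw [hsup]; exact Opens.mem_top z
    exact Opens.mem_iSup.1 hz
  have e0 : ∀ i, gg i ≫ pullback.fst f A.hom = (U i).hom := by
    intro i
    have h0 : (g i).left ≫ pullback.snd A.hom f = (U i).hom := MorphismProperty.Over.w (g i)
    calc gg i ≫ pullback.fst f A.hom
        = (g i).left ≫ ((pullbackSymmetry f A.hom).inv ≫ pullback.fst f A.hom) :=
          Category.assoc _ _ _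
      _ = (g i).left ≫ pullback.snd A.hom f := by rw [pullbackSymmetry_inv_comp_fst]
      _ = _ := h0
  have hk : ∀ a : μ, h a ≫ (U (ia a)).hom = (W' a).ι ≫ Z.hom := by
    intro a
    have h1 : (h a ≫ gg (ia a)) ≫ pullback.fst f A.hom =
        ((W a).ι ≫ pullback.map f (v' j ≫ A.hom) f A.hom (𝟙 X) (v' j) (𝟙 Y) (by simp) (by simp)) ≫
          pullback.fst f A.hom := congrArg (· ≫ pullback.fst f A.hom) (hh a)
    calc h a ≫ (U (ia a)).hom = h a ≫ gg (ia a) ≫ pullback.fst f A.hom := by rw [e0]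
      _ = (h a ≫ gg (ia a)) ≫ pullback.fst f A.hom := (Category.assoc _ _ _).symm
      _ = _ := h1
      _ = (W a).ι ≫ (pullback.map f (v' j ≫ A.hom) f A.hom (𝟙 X) (v' j) (𝟙 Y) (by simp) (by simp) ≫
          pullback.fst f A.hom) := Category.assoc _ _ _
      _ = (W a).ι ≫ (pullback.fst f (v' j ≫ A.hom) ≫ 𝟙 X) := by rw [pullback.lift_fst]
      _ = (W a).ι ≫ pullback.fst f (v' j ≫ A.hom) := by rw [Category.comp_id]
  let k : ∀ a, WO Z W' a ⟶ U (ia a) := fun a => MorphismProperty.Over.homMk (h a) (hk a) trivial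
  obtain ⟨r, hr'⟩ := glue F Z W' hcovW hd (fun a => F.obj.map (k a).op (s (ia a)))
  refine ⟨A', q, ⟨F.obj.map e.inv.op r, ?_⟩, hj⟩
  show a.hom.app (op ((EtCoh.bc f).obj A')) (F.obj.map e.inv.op r) =
    G.obj.map ((EtCoh.bc f).map q).op t
  have hkey : ∀ a, k a ≫ g (ia a) = jW Z W' a ≫ e.hom ≫ (EtCoh.bc f).map q := by
    intro a
    apply MorphismProperty.Over.Hom.ext
    show h a ≫ (g (ia a)).left =
      (W a).ι ≫ (pullbackSymmetry f (v' j ≫ A.hom)).hom ≫ ((EtCoh.bc f).map q).left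
    have hP := map_symm f A (v' j) (by simp) (by simp)
    have h2 : (h a ≫ gg (ia a)) ≫ (pullbackSymmetry f A.hom).hom =
        ((W a).ι ≫ pullback.map f (v' j ≫ A.hom) f A.hom (𝟙 X) (v' j) (𝟙 Y) (by simp) (by simp)) ≫
          (pullbackSymmetry f A.hom).hom := congrArg (· ≫ (pullbackSymmetry f A.hom).hom) (hh a)
    calc h a ≫ (g (ia a)).left
        = h a ≫ (g (ia a)).left ≫ (pullbackSymmetry f A.hom).inv ≫
            (pullbackSymmetry f A.hom).hom := by rw [Iso.inv_hom_id, Category.comp_id]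
      _ = (h a ≫ gg (ia a)) ≫ (pullbackSymmetry f A.hom).hom := by
          simp only [gg, Category.assoc]
      _ = _ := h2
      _ = (W a).ι ≫ (pullback.map f (v' j ≫ A.hom) f A.hom (𝟙 X) (v' j) (𝟙 Y) (by simp) (by simp) ≫
          (pullbackSymmetry f A.hom).hom) := Category.assoc _ _ _
      _ = _ := by rw [hP]
  apply map_iso_injective G e
  apply sep G Z W' hcovW
  intro a'
  have hL : G.obj.map (jW Z W' a').op (G.obj.map e.hom.op
      (a.hom.app (op ((EtCoh.bc f).obj A')) (F.obj.map e.inv.op r))) =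
      G.obj.map (k a' ≫ g (ia a')).op t := by
    calc G.obj.map (jW Z W' a').op (G.obj.map e.hom.op
          (a.hom.app (op ((EtCoh.bc f).obj A')) (F.obj.map e.inv.op r)))
        = G.obj.map (jW Z W' a').op (a.hom.app (op Z)
            (F.obj.map e.hom.op (F.obj.map e.inv.op r))) :=
          congrArg (G.obj.map (jW Z W' a').op) (nat_apply a e.hom _).symm
      _ = G.obj.map (jW Z W' a').op (a.hom.app (op Z) r) := by rw [map_hom_inv]
      _ = a.hom.app (op (WO Z W' a')) (F.obj.map (jW Z W' a').op r) := (nat_apply a _ _).symm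
      _ = a.hom.app (op (WO Z W' a')) (F.obj.map (k a').op (s (ia a'))) := by rw [hr' a']
      _ = G.obj.map (k a').op (a.hom.app (op (U (ia a'))) (s (ia a'))) := nat_apply a _ _
      _ = G.obj.map (k a').op (G.obj.map (g (ia a')).op t) := by rw [hs]
      _ = _ := (map_comp_apply' G _ _ t).symm
  have hR : G.obj.map (jW Z W' a').op (G.obj.map e.hom.op
      (G.obj.map ((EtCoh.bc f).map q).op t)) =
      G.obj.map (jW Z W' a' ≫ e.hom ≫ (EtCoh.bc f).map q).op t := by
    rw [map_comp_apply', map_comp_apply']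
  exact hL.trans ((congrArg (fun m => G.obj.map m.op t) (hkey a')).trans hR.symm)

theorem main (f : X ⟶ Y) (hB : BigSite.PropB f) : (EtDesc.pushSh f).PreservesEpimorphisms := by
  refine ⟨fun {F G} a he => ?_⟩
  haveI hls : Sheaf.IsLocallySurjective a := (Sheaf.isLocallySurjective_iff_epi a).2 he
  haveI : Sheaf.IsLocallySurjective ((EtDesc.pushSh f).map a) := by
    refine ⟨fun {A} t => ?_⟩
    exact key f hB a A t
  exact (Sheaf.isLocallySurjective_iff_epi _).1 inferInstance

end Groth.Agent.Lib.PropB_helper7
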