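import Mathlib
import Groth.Prelude.Def_BigSite
import Groth.Prelude.Def_SGA4b
import Groth.Agent.Lib.PropB_helper7

/-!
# Condition (C) for all base changes + closedness ⇒ base change is almost cocontinuous (helper7)
-/

set_option autoImplicit false
set_option backward.isDefEq.respectTransparency false
universe u
open CategoryTheory CategoryTheory.Limits AlgebraicGeometry Opposite TopologicalSpace

namespace Groth.Agent.Lib.AlmostCocont_helper7

open Groth.Agent.Lib.EtSchSite_helper7 Groth.Agent.Lib.EtZeroDim_helper7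
  Groth.Agent.Lib.PropB_helper7

variable {X Y : Scheme.{u}} (f : X ⟶ Y)

/-- the answering sieve -/
def ansSieve (A : Y.Etale) (R : Sieve ((EtCoh.bc f).obj A)) : Sieve A where
  arrows A' g := (⊥ : Sieve ((EtCoh.bc f).obj A')) ∈ X.smallEtaleTopology ((EtCoh.bc f).obj A') ∨
    R ((EtCoh.bc f).map g)
  downward_closed := by
    intro A' A'' g hg k
    rcases hg with hg | hg
    · left
      have h1 := X.smallEtaleTopology.pullback_stable ((EtCoh.bc f).map k) hg
      rw [Sieve.pullback_bot] at h1
      exact h1
    · right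
      rw [Functor.map_comp]
      exact R.downward_closed hg _

theorem mem_of_ι' {S : Scheme.{u}} (O : S.Opens) (y : O.toScheme) : O.ι y ∈ O := by
  have := Set.mem_range_self (f := O.ι) y
  rw [Scheme.Opens.range_ι] at this
  exact this

theorem main (hC : ∀ (V : Scheme.{u}) (v : V ⟶ Y) [Etale v], BigSite.PropC (pullback.snd f v))
    (hcl : ∀ (V : Scheme.{u}) (v : V ⟶ Y) [Etale v], IsClosedMap (pullback.snd f v).base) :
    BigSite.IsAlmostCocontinuous (EtCoh.bc f) Y.smallEtaleTopology X.smallEtaleTopology := by
  intro A R hR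
  refine ⟨ansSieve f A R, ?_, fun A' g hg => hg⟩
  haveI : Etale A.hom := A.prop
  apply sieve_mem_of_forall_exists
  intro y
  by_cases hy : y ∈ Set.range (pullback.snd f A.hom).base
  · obtain ⟨x, rfl⟩ := hy
    obtain ⟨U, m, hm, u, hu⟩ := exists_of_mem R hR ((pullbackSymmetry f A.hom).hom x)
    let g : U.left ⟶ pullback f A.hom := m.left ≫ (pullbackSymmetry f A.hom).inv
    haveI : Etale g := inferInstance
    obtain ⟨V₁, v₁, hv₁, h, hh, hsurj⟩ := hC A.left A.hom U.left g
    haveI : Etale v₁ := hv₁
    let A' : Y.Etale := Scheme.Etale.mk (v₁ ≫ A.hom)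
    let q : A' ⟶ A := MorphismProperty.Over.homMk v₁ rfl trivial
    have mg1 : m.left ≫ pullback.fst A.hom f = g ≫ pullback.snd f A.hom := by
      simp only [g, Category.assoc, pullbackSymmetry_inv_comp_snd]
    have mg2 : m.left ≫ pullback.snd A.hom f = g ≫ pullback.fst f A.hom := by
      simp only [g, Category.assoc, pullbackSymmetry_inv_comp_fst]
    refine ⟨A', q, Or.inr ?_, ?_⟩
    · let I := pullbackLeftPullbackSndIso f A.hom v₁
      let nl : ((EtCoh.bc f).obj A').left ⟶ U.left :=
        (pullbackSymmetry (v₁ ≫ A.hom) f).hom ≫ I.inv ≫ h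
      have e1 : ((EtCoh.bc f).map q).left ≫ pullback.fst A.hom f =
          pullback.fst (v₁ ≫ A.hom) f ≫ v₁ := bc_map_left_fst f q
      have e2 : ((EtCoh.bc f).map q).left ≫ pullback.snd A.hom f =
          pullback.snd (v₁ ≫ A.hom) f := bc_map_left_snd f q
      have hsnd : (nl ≫ m.left) ≫ pullback.snd A.hom f = pullback.snd (v₁ ≫ A.hom) f := by
        calc (nl ≫ m.left) ≫ pullback.snd A.hom f
            = (pullbackSymmetry (v₁ ≫ A.hom) f).hom ≫ I.inv ≫ (h ≫ g) ≫ pullback.fst f A.hom := by
              simp only [nl, Category.assoc, mg2]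
          _ = (pullbackSymmetry (v₁ ≫ A.hom) f).hom ≫ I.inv ≫
                pullback.fst (pullback.snd f A.hom) v₁ ≫ pullback.fst f A.hom := by rw [hh]
          _ = (pullbackSymmetry (v₁ ≫ A.hom) f).hom ≫ pullback.fst f (v₁ ≫ A.hom) := by
              rw [pullbackLeftPullbackSndIso_inv_fst]
          _ = _ := pullbackSymmetry_hom_comp_fst _ _
      have ha : nl ≫ m.left = ((EtCoh.bc f).map q).left := by
        apply pullback.hom_ext
        · rw [e1]
          calc (nl ≫ m.left) ≫ pullback.fst A.hom f
              = (pullbackSymmetry (v₁ ≫ A.hom) f).hom ≫ I.inv ≫ (h ≫ g) ≫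
                  pullback.snd f A.hom := by
                simp only [nl, Category.assoc, mg1]
            _ = (pullbackSymmetry (v₁ ≫ A.hom) f).hom ≫ I.inv ≫
                  pullback.fst (pullback.snd f A.hom) v₁ ≫ pullback.snd f A.hom := by rw [hh]
            _ = (pullbackSymmetry (v₁ ≫ A.hom) f).hom ≫ pullback.snd f (v₁ ≫ A.hom) ≫ v₁ := by
                rw [pullbackLeftPullbackSndIso_inv_fst_snd]
            _ = _ := by rw [← Category.assoc, pullbackSymmetry_hom_comp_snd]
        · rw [e2]
          exact hsnd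
      have hb : nl ≫ U.hom = ((EtCoh.bc f).obj A').hom := by
        have h0 : m.left ≫ pullback.snd A.hom f = U.hom := MorphismProperty.Over.w m
        calc nl ≫ U.hom = (nl ≫ m.left) ≫ pullback.snd A.hom f := by
              rw [← h0]; exact (Category.assoc _ _ _).symm
          _ = pullback.snd (v₁ ≫ A.hom) f := hsnd
      let n : (EtCoh.bc f).obj A' ⟶ U := MorphismProperty.Over.homMk nl hb trivial
      have hnm : n ≫ m = (EtCoh.bc f).map q := by
        apply MorphismProperty.Over.Hom.ext
        exact ha
      show R ((EtCoh.bc f).map q)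
      rw [← hnm]
      exact R.downward_closed hm n
    · obtain ⟨w, rfl⟩ := hsurj.surj u
      refine ⟨(pullback.snd (pullback.snd f A.hom) v₁) w, ?_⟩
      have E : pullback.snd (pullback.snd f A.hom) v₁ ≫ v₁ =
          h ≫ m.left ≫ (pullbackSymmetry f A.hom).inv ≫ pullback.snd f A.hom := by
        rw [← pullback.condition, ← hh]
        simp only [g, Category.assoc]
      have e2 : (pullbackSymmetry f A.hom).inv ((pullbackSymmetry f A.hom).hom x) = x := by
        have e : (pullbackSymmetry f A.hom).hom ≫ (pullbackSymmetry f A.hom).inv = 𝟙 _ :=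
          Iso.hom_inv_id _
        exact congrArg (fun m : pullback f A.hom ⟶ pullback f A.hom => m x) e
      calc q.left ((pullback.snd (pullback.snd f A.hom) v₁) w)
          = (pullback.snd f A.hom) ((pullbackSymmetry f A.hom).inv (m.left (h w))) :=
            congrArg (fun φ : pullback (pullback.snd f A.hom) v₁ ⟶ A.left => φ w) E
        _ = (pullback.snd f A.hom)
              ((pullbackSymmetry f A.hom).inv ((pullbackSymmetry f A.hom).hom x)) :=
            congrArg (fun z => (pullback.snd f A.hom) ((pullbackSymmetry f A.hom).inv z)) hu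
        _ = (pullback.snd f A.hom) x := congrArg (fun z => (pullback.snd f A.hom) z) e2
  · let O : A.left.Opens := ⟨(Set.range (pullback.snd f A.hom).base)ᶜ,
      (hcl A.left A.hom).isClosed_range.isOpen_compl⟩
    let A' : Y.Etale := Scheme.Etale.mk (O.ι ≫ A.hom)
    let q : A' ⟶ A := MorphismProperty.Over.homMk O.ι rfl trivial
    refine ⟨A', q, Or.inl ?_, ?_⟩
    · apply sieve_mem_of_forall_exists
      intro w
      exfalso
      have e1 : ((EtCoh.bc f).map q).left ≫ pullback.fst A.hom f =
          pullback.fst (O.ι ≫ A.hom) f ≫ O.ι := bc_map_left_fst f q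
      have e3 : ((EtCoh.bc f).map q).left ≫ pullback.fst A.hom f =
          (((EtCoh.bc f).map q).left ≫ (pullbackSymmetry f A.hom).inv) ≫
            pullback.snd f A.hom := by
        rw [Category.assoc, pullbackSymmetry_inv_comp_snd]
      have h1 : O.ι ((pullback.fst (O.ι ≫ A.hom) f) w) ∈ O := mem_of_ι' O _
      have h1' : O.ι ((pullback.fst (O.ι ≫ A.hom) f) w) ∉
          Set.range (pullback.snd f A.hom).base := h1
      have h2 : O.ι ((pullback.fst (O.ι ≫ A.hom) f) w) =
          (pullback.snd f A.hom) ((pullbackSymmetry f A.hom).inv (((EtCoh.bc f).map q).left w)) :=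
        congrArg (fun φ : ((EtCoh.bc f).obj A').left ⟶ A.left => φ w) (e1.symm.trans e3)
      exact h1' ⟨_, h2.symm⟩
    · show y ∈ Set.range O.ι
      rw [Scheme.Opens.range_ι]
      exact hy

end Groth.Agent.Lib.AlmostCocont_helper7
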