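import Mathlib
import Groth.Prelude.Def_BigSite

/-!
# Almost cocontinuous functors (helper8)
-/

set_option backward.isDefEq.respectTransparency false
set_option backward.isDefEq.respectTransparency.types false
set_option backward.defeqAttrib.useBackward true

universe u

open CategoryTheory CategoryTheory.Limits Opposite

namespace Groth.Agent.Lib.AlmostCocontH8

variable {C D : Type u} [SmallCategory C] [SmallCategory D]
  (J : GrothendieckTopology C) (K : GrothendieckTopology D) (u : C ⥤ D)

/-- a presheaf has singleton values on objects covered by the empty sieve -/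
def SingOnEmpty (G : Dᵒᵖ ⥤ Type u) : Prop :=
  ∀ V : D, (⊥ : Sieve V) ∈ K V → Nonempty (Unique (G.obj (op V)))

theorem singOnEmpty_of_isSheaf (G : Dᵒᵖ ⥤ Type u) (hG : Presheaf.IsSheaf K G) :
    SingOnEmpty K G := fun V h =>
  ⟨(Types.isTerminalEquivUnique _) (Sheaf.isTerminalOfBotCover ⟨G, hG⟩ V h)⟩

variable {J K u} (hu : BigSite.IsAlmostCocontinuous u J K)

include hu

theorem isLocallyInjective_whiskerLeft {G G' : Dᵒᵖ ⥤ Type u} (φ : G ⟶ G')
    (hG : SingOnEmpty K G) [Presheaf.IsLocallyInjective K φ] :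
    Presheaf.IsLocallyInjective J (Functor.whiskerLeft u.op φ) := by
  refine ⟨fun {X} x y hxy => ?_⟩
  have h1 : Presheaf.equalizerSieve (F := G) (X := op (u.obj X.unop)) x y ∈ K (u.obj X.unop) :=
    Presheaf.equalizerSieve_mem K φ x y hxy
  obtain ⟨R', hR', hR'2⟩ := hu X.unop _ h1
  refine J.superset_covering ?_ hR'
  intro V g hg
  rcases hR'2 g hg with hbot | hmem
  · obtain ⟨hU⟩ := hG _ hbot
    exact Subsingleton.elim (α := G.obj (op (u.obj V))) _ _
  · exact hmem

theorem isLocallySurjective_whiskerLeft {G G' : Dᵒᵖ ⥤ Type u} (φ : G ⟶ G')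
    (hG : SingOnEmpty K G) (hG' : SingOnEmpty K G') [Presheaf.IsLocallySurjective K φ] :
    Presheaf.IsLocallySurjective J (Functor.whiskerLeft u.op φ) := by
  refine ⟨fun {U} s => ?_⟩
  have h1 : Presheaf.imageSieve φ (U := u.obj U) s ∈ K (u.obj U) :=
    Presheaf.imageSieve_mem K φ s
  obtain ⟨R', hR', hR'2⟩ := hu U _ h1
  refine J.superset_covering ?_ hR'
  intro V g hg
  rcases hR'2 g hg with hbot | hmem
  · obtain ⟨hU⟩ := hG _ hbot
    obtain ⟨hU'⟩ := hG' _ hbot
    exact ⟨hU.default, Subsingleton.elim (α := G'.obj (op (u.obj V))) _ _⟩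
  · exact hmem

theorem W_whiskerLeft {G G' : Dᵒᵖ ⥤ Type u} (φ : G ⟶ G')
    (hG : SingOnEmpty K G) (hG' : SingOnEmpty K G') (hφ : K.W φ) :
    J.W (Functor.whiskerLeft u.op φ) := by
  haveI := hφ.isLocallyInjective
  haveI := hφ.isLocallySurjective
  haveI := isLocallyInjective_whiskerLeft hu φ hG
  haveI := isLocallySurjective_whiskerLeft hu φ hG hG'
  exact J.W_of_isLocallyBijective _

/-- sheafification commutes with `u^p` on presheaves with singleton values on empty objects -/
theorem isIso_comparison [u.IsContinuous J K] (G : Dᵒᵖ ⥤ Type u) (hG : SingOnEmpty K G) :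
    IsIso (((sheafificationAdjunction J (Type u)).homEquiv (u.op ⋙ G)
      ((u.sheafPushforwardContinuous (Type u) J K).obj ((presheafToSheaf K (Type u)).obj G))).symm
        (Functor.whiskerLeft u.op (toSheafify K G))) := by
  set c := ((sheafificationAdjunction J (Type u)).homEquiv (u.op ⋙ G)
      ((u.sheafPushforwardContinuous (Type u) J K).obj ((presheafToSheaf K (Type u)).obj G))).symm
        (Functor.whiskerLeft u.op (toSheafify K G)) with hc
  have fac : toSheafify J (u.op ⋙ G) ≫ c.hom = Functor.whiskerLeft u.op (toSheafify K G) := by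
    have h := ((sheafificationAdjunction J (Type u)).homEquiv (u.op ⋙ G)
      ((u.sheafPushforwardContinuous (Type u) J K).obj
        ((presheafToSheaf K (Type u)).obj G))).apply_symm_apply
          (Functor.whiskerLeft u.op (toSheafify K G))
    rw [Adjunction.homEquiv_unit] at h
    exact h
  have hW : J.W (Functor.whiskerLeft u.op (toSheafify K G)) :=
    W_whiskerLeft hu _ hG (singOnEmpty_of_isSheaf K _ ((presheafToSheaf K (Type u)).obj G).property)
      (K.W_toSheafify G)
  haveI := hW.isLocallyInjective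
  haveI := hW.isLocallySurjective
  haveI : Presheaf.IsLocallyInjective J c.hom :=
    Presheaf.isLocallyInjective_of_isLocallyInjective_of_isLocallySurjective_fac J _ fac
  haveI : Presheaf.IsLocallySurjective J c.hom :=
    Presheaf.isLocallySurjective_of_isLocallySurjective_fac J fac
  exact (Sheaf.isLocallyBijective_iff_isIso c).1 ⟨inferInstance, inferInstance⟩

section Colim

variable {I : Type} [SmallCategory I] [IsConnected I] (D' : I ⥤ Sheaf K (Type u))

omit hu in
/-- the presheaf colimit of a connected diagram of sheaves has singleton values on empty objects -/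
theorem singOnEmpty_colimit :
    SingOnEmpty K (colimit (D' ⋙ sheafToPresheaf K (Type u))) := by
  intro V hV
  have hcol := isColimitOfPreserves ((evaluation Dᵒᵖ (Type u)).obj (op V))
    (colimit.isColimit (D' ⋙ sheafToPresheaf K (Type u)))
  have huniq : ∀ i : I, Nonempty (Unique ((D'.obj i).obj.obj (op V))) := fun i =>
    singOnEmpty_of_isSheaf K _ (D'.obj i).property V hV
  let e : ∀ i : I, (D'.obj i).obj.obj (op V) := fun i => (huniq i).some.default
  have he : ∀ (i : I) (x : (D'.obj i).obj.obj (op V)), x = e i := fun i x =>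
    (huniq i).some.uniq x
  let t : I → (colimit (D' ⋙ sheafToPresheaf K (Type u))).obj (op V) := fun i =>
    ((colimit.ι (D' ⋙ sheafToPresheaf K (Type u)) i).app (op V)) (e i)
  have ht : ∀ (i j : I) (f : i ⟶ j), t i = t j := by
    intro i j f
    have h1 := congr_app (colimit.w (D' ⋙ sheafToPresheaf K (Type u)) f) (op V)
    have h2 := ConcreteCategory.congr_hom h1 (e i)
    refine h2.symm.trans ?_
    exact congrArg (fun z => ((colimit.ι (D' ⋙ sheafToPresheaf K (Type u)) j).app (op V)) z)
      (he j _)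
  have i₀ : I := Classical.arbitrary I
  refine ⟨⟨⟨t i₀⟩, fun y => ?_⟩⟩
  obtain ⟨i, x, rfl⟩ := Types.jointly_surjective_of_isColimit hcol y
  have hx := he i x
  show ((colimit.ι (D' ⋙ sheafToPresheaf K (Type u)) i).app (op V)) x = t i₀
  rw [hx]
  exact constant_of_preserves_morphisms t ht i i₀

/-- `u^s` preserves connected colimits when `u` is continuous and almost cocontinuous -/
theorem isColimit_mapCocone [u.IsContinuous J K] (c : Cocone D') (hc : IsColimit c) :
    Nonempty (IsColimit ((u.sheafPushforwardContinuous (Type u) J K).mapCocone c)) := by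
  let G := colimit (D' ⋙ sheafToPresheaf K (Type u))
  let κ : G ⟶ c.pt.obj := colimit.desc (D' ⋙ sheafToPresheaf K (Type u))
    ((sheafToPresheaf K (Type u)).mapCocone c)
  have hκ : ∀ i, colimit.ι (D' ⋙ sheafToPresheaf K (Type u)) i ≫ κ = (c.ι.app i).hom :=
    fun i => colimit.ι_desc _ i
  have hWκ : K.W κ := by
    intro H hH
    constructor
    · intro g₁ g₂ h
      have h' : (⟨g₁⟩ : c.pt ⟶ ⟨H, hH⟩) = ⟨g₂⟩ := by
        refine hc.hom_ext (fun i => Sheaf.hom_ext ?_)
        show (c.ι.app i).hom ≫ g₁ = (c.ι.app i).hom ≫ g₂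
        rw [← hκ i, Category.assoc, Category.assoc]
        exact congrArg (fun z => colimit.ι (D' ⋙ sheafToPresheaf K (Type u)) i ≫ z) h
      exact congrArg (fun z => z.hom) h'
    · intro m₀
      let s : Cocone D' :=
        { pt := ⟨H, hH⟩
          ι :=
            { app := fun i => ⟨colimit.ι (D' ⋙ sheafToPresheaf K (Type u)) i ≫ m₀⟩
              naturality := fun i j f => by
                apply Sheaf.hom_ext
                have h1 := colimit.w (D' ⋙ sheafToPresheaf K (Type u)) f
                show (D'.map f).hom ≫ colimit.ι (D' ⋙ sheafToPresheaf K (Type u)) j ≫ m₀ =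
                  (colimit.ι (D' ⋙ sheafToPresheaf K (Type u)) i ≫ m₀) ≫ 𝟙 H
                rw [Category.comp_id, ← Category.assoc]
                exact congrArg (fun z => z ≫ m₀) h1 } }
      refine ⟨(hc.desc s).hom, ?_⟩
      refine colimit.hom_ext (fun i => ?_)
      show colimit.ι (D' ⋙ sheafToPresheaf K (Type u)) i ≫ κ ≫ (hc.desc s).hom = _
      rw [← Category.assoc, hκ i]
      exact congrArg (fun z => z.hom) (hc.fac s i)
  have hWu : J.W (Functor.whiskerLeft u.op κ) :=
    W_whiskerLeft hu κ (singOnEmpty_colimit D') (singOnEmpty_of_isSheaf K _ c.pt.property) hWκ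
  have hc₁ := isColimitOfPreserves ((Functor.whiskeringLeft Cᵒᵖ Dᵒᵖ (Type u)).obj u.op)
    (colimit.isColimit (D' ⋙ sheafToPresheaf K (Type u)))
  refine ⟨IsColimit.ofExistsUnique (fun s => ?_)⟩
  let s₀ : Cocone ((D' ⋙ sheafToPresheaf K (Type u)) ⋙
      (Functor.whiskeringLeft Cᵒᵖ Dᵒᵖ (Type u)).obj u.op) :=
    { pt := s.pt.obj
      ι :=
        { app := fun i => (s.ι.app i).hom
          naturality := fun i j f => by
            have h1 := congrArg (fun z => z.hom) (s.w f)
            exact h1.trans (Category.comp_id _).symm } }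
  let m₀ : u.op ⋙ G ⟶ s.pt.obj := hc₁.desc s₀
  have hm₀ : ∀ i, Functor.whiskerLeft u.op (colimit.ι (D' ⋙ sheafToPresheaf K (Type u)) i) ≫
      m₀ = (s.ι.app i).hom := fun i => hc₁.fac s₀ i
  have hbij := hWu s.pt.obj s.pt.property
  obtain ⟨m, hm⟩ := hbij.2 m₀
  have hm' : Functor.whiskerLeft u.op κ ≫ m = m₀ := hm
  have hκu : ∀ i, Functor.whiskerLeft u.op (c.ι.app i).hom =
      Functor.whiskerLeft u.op (colimit.ι (D' ⋙ sheafToPresheaf K (Type u)) i) ≫
        Functor.whiskerLeft u.op κ := fun i => by
    rw [← Functor.whiskerLeft_comp, hκ i]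
  refine ⟨⟨m⟩, fun i => ?_, fun d' hd' => ?_⟩
  · apply Sheaf.hom_ext
    show Functor.whiskerLeft u.op (c.ι.app i).hom ≫ m = (s.ι.app i).hom
    rw [hκu i, Category.assoc, hm', hm₀ i]
  · apply Sheaf.hom_ext
    show d'.hom = m
    apply hbij.1
    show Functor.whiskerLeft u.op κ ≫ d'.hom = Functor.whiskerLeft u.op κ ≫ m
    rw [hm']
    refine hc₁.hom_ext (fun i => ?_)
    show Functor.whiskerLeft u.op (colimit.ι (D' ⋙ sheafToPresheaf K (Type u)) i) ≫
      Functor.whiskerLeft u.op κ ≫ d'.hom = _ ≫ m₀
    rw [← Category.assoc, ← hκu i]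
    exact (congrArg (fun z => z.hom) (hd' i)).trans (hm₀ i).symm

end Colim

end Groth.Agent.Lib.AlmostCocontH8
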