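import Mathlib

/-!
# Colimits over "almost filtered" categories commute with finite connected limits (helper8)
-/

universe v

open CategoryTheory CategoryTheory.Limits

namespace Groth.Agent.Lib.AlmostFilteredH8

variable {I : Type v} [SmallCategory I]

section Index

variable (h1 : ∀ ⦃w x y : I⦄ (a : w ⟶ x) (b : w ⟶ y),
  ∃ (z : I) (c : x ⟶ z) (d : y ⟶ z), a ≫ c = b ≫ d)

include h1

/-- Finitely many maps out of a common source admit a common cocone. -/
theorem exists_common (A : Type) [Finite A] : ∀ (i₀ : I) (k : A → I) (u : ∀ a, i₀ ⟶ k a),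
    ∃ (z : I) (w : i₀ ⟶ z), ∀ a, ∃ v : k a ⟶ z, u a ≫ v = w := by
  refine Finite.induction_empty_option
    (P := fun A : Type => ∀ (i₀ : I) (k : A → I) (u : ∀ a, i₀ ⟶ k a),
      ∃ (z : I) (w : i₀ ⟶ z), ∀ a, ∃ v : k a ⟶ z, u a ≫ v = w) ?_ ?_ ?_ A
  · intro α β e h i₀ k u
    obtain ⟨z, w, hv⟩ := h i₀ (fun a => k (e a)) (fun a => u (e a))
    refine ⟨z, w, fun b => ?_⟩
    obtain ⟨a, rfl⟩ := e.surjective b
    exact hv a
  · intro i₀ k u
    exact ⟨i₀, 𝟙 _, fun a => a.elim⟩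
  · intro α _ h i₀ k u
    obtain ⟨z, w, hv⟩ := h i₀ (fun a => k (some a)) (fun a => u (some a))
    obtain ⟨z', c, d, hcd⟩ := h1 w (u none)
    refine ⟨z', w ≫ c, ?_⟩
    rintro (_ | a)
    · exact ⟨d, hcd.symm⟩
    · obtain ⟨v, hv'⟩ := hv a
      exact ⟨v ≫ c, by rw [← Category.assoc, hv']⟩

/-- The relation "there is a cospan". -/
def R (i i' : I) : Prop := ∃ (k : I) (_ : i ⟶ k) (_ : i' ⟶ k), True

omit h1 in
theorem R_refl (i : I) : R i i := ⟨i, 𝟙 _, 𝟙 _, trivial⟩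

omit h1 in
theorem R_symm {i i' : I} (h : R i i') : R i' i := by
  obtain ⟨k, a, b, -⟩ := h
  exact ⟨k, b, a, trivial⟩

theorem R_trans {i i' i'' : I} (h : R i i') (h' : R i' i'') : R i i'' := by
  obtain ⟨k, a, b, -⟩ := h
  obtain ⟨k', a', b', -⟩ := h'
  obtain ⟨z, c, d, -⟩ := h1 b a'
  exact ⟨z, a ≫ c, b' ≫ d, trivial⟩

theorem colimit_eq_iff' (F : I ⥤ Type v) {i i' : I} (x : F.obj i) (x' : F.obj i') :
    colimit.ι F i x = colimit.ι F i' x' ↔
      ∃ (k : I) (f : i ⟶ k) (g : i' ⟶ k), F.map f x = F.map g x' := by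
  constructor
  · intro h
    have := Types.colimit_eq h
    suffices H : ∀ p q : Σ j, F.obj j, Relation.EqvGen F.ColimitTypeRel p q →
        ∃ (k : I) (f : p.1 ⟶ k) (g : q.1 ⟶ k), F.map f p.2 = F.map g q.2 from H _ _ this
    intro p q hpq
    induction hpq with
    | rel p q h =>
      obtain ⟨f, hf⟩ := h
      exact ⟨q.1, f, 𝟙 _, by rw [hf]; simp⟩
    | refl p => exact ⟨p.1, 𝟙 _, 𝟙 _, rfl⟩
    | symm p q _ ih =>
      obtain ⟨k, f, g, h⟩ := ih
      exact ⟨k, g, f, h.symm⟩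
    | trans p q r _ _ ih1 ih2 =>
      obtain ⟨k, f, g, h⟩ := ih1
      obtain ⟨k', f', g', h'⟩ := ih2
      obtain ⟨z, c, d, hcd⟩ := h1 g f'
      refine ⟨z, f ≫ c, g' ≫ d, ?_⟩
      have e1 : F.map (f ≫ c) p.2 = F.map c (F.map f p.2) := Functor.map_comp_apply ..
      have e2 : F.map (g' ≫ d) r.2 = F.map d (F.map g' r.2) := Functor.map_comp_apply ..
      have e3 : F.map c (F.map g q.2) = F.map d (F.map f' q.2) := by
        rw [← Functor.map_comp_apply, ← Functor.map_comp_apply, hcd]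
      rw [e1, e2, h, e3, h']
  · rintro ⟨k, f, g, h⟩
    exact Types.colimit_sound' f g h

variable (h2 : ∀ ⦃x y : I⦄ (a b : x ⟶ y), ∃ (z : I) (c : y ⟶ z), a ≫ c = b ≫ c)

include h2

theorem exists_map_eq (F : I ⥤ Type v) {i : I} (x x' : F.obj i)
    (h : colimit.ι F i x = colimit.ι F i x') :
    ∃ (k : I) (u : i ⟶ k), F.map u x = F.map u x' := by
  obtain ⟨k, f, g, hfg⟩ := (colimit_eq_iff' h1 F x x').1 h
  obtain ⟨z, c, hc⟩ := h2 f g
  refine ⟨z, f ≫ c, ?_⟩
  have e1 : F.map (f ≫ c) x = F.map c (F.map f x) := Functor.map_comp_apply ..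
  have e2 : F.map (f ≫ c) x' = F.map c (F.map g x') := by
    rw [hc]; exact Functor.map_comp_apply ..
  rw [e1, e2, hfg]

theorem exists_map_eq_family (A : Type) [Finite A] (i : I) (F : A → (I ⥤ Type v))
    (x x' : ∀ a, (F a).obj i)
    (h : ∀ a, colimit.ι (F a) i (x a) = colimit.ι (F a) i (x' a)) :
    ∃ (z : I) (u : i ⟶ z), ∀ a, (F a).map u (x a) = (F a).map u (x' a) := by
  choose k u hu using fun a => exists_map_eq h1 h2 (F a) (x a) (x' a) (h a)
  obtain ⟨z, w, hv⟩ := exists_common h1 A i k u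
  refine ⟨z, w, fun a => ?_⟩
  obtain ⟨v, hv'⟩ := hv a
  have e1 : (F a).map w (x a) = (F a).map v ((F a).map (u a) (x a)) := by
    rw [← hv']; exact Functor.map_comp_apply ..
  have e2 : (F a).map w (x' a) = (F a).map v ((F a).map (u a) (x' a)) := by
    rw [← hv']; exact Functor.map_comp_apply ..
  rw [e1, e2, hu a]

variable {J : Type} [SmallCategory J] [FinCategory J] [IsConnected J] (D : J ⥤ I ⥤ Type v)
  (P : I ⥤ Type v) (p : ∀ j, P ⟶ D.obj j)

theorem colim_inj_same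
    (hp : ∀ i (ε ε' : P.obj i), (∀ j, (p j).app i ε = (p j).app i ε') → ε = ε')
    (k : I) (ε ε' : P.obj k)
    (h : ∀ j, colimMap (p j) (colimit.ι P k ε) = colimMap (p j) (colimit.ι P k ε')) :
    colimit.ι P k ε = colimit.ι P k ε' := by
  have h' : ∀ j, colimit.ι (D.obj j) k ((p j).app k ε) =
      colimit.ι (D.obj j) k ((p j).app k ε') := by
    intro j
    exact (colimit.ι_map_apply (p j) k ε).symm.trans ((h j).trans (colimit.ι_map_apply (p j) k ε'))
  obtain ⟨z, u, hu⟩ := exists_map_eq_family h1 h2 J k (fun j => D.obj j)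
    (fun j => (p j).app k ε) (fun j => (p j).app k ε') h'
  have key : P.map u ε = P.map u ε' := by
    refine hp z _ _ (fun j => ?_)
    have n1 : (p j).app z (P.map u ε) = (D.obj j).map u ((p j).app k ε) :=
      NatTrans.naturality_apply (p j) u ε
    have n2 : (p j).app z (P.map u ε') = (D.obj j).map u ((p j).app k ε') :=
      NatTrans.naturality_apply (p j) u ε'
    rw [n1, n2]
    exact hu j
  rw [← colimit.w_apply P u ε, ← colimit.w_apply P u ε', key]

theorem colim_inj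
    (hp : ∀ i (ε ε' : P.obj i), (∀ j, (p j).app i ε = (p j).app i ε') → ε = ε')
    (x x' : colimit P) (h : ∀ j, colimMap (p j) x = colimMap (p j) x') : x = x' := by
  obtain ⟨i, e, rfl⟩ := Types.jointly_surjective' x
  obtain ⟨i', e', rfl⟩ := Types.jointly_surjective' x'
  obtain ⟨j₀⟩ := (inferInstance : Nonempty J)
  have h0 : colimit.ι (D.obj j₀) i ((p j₀).app i e) =
      colimit.ι (D.obj j₀) i' ((p j₀).app i' e') :=
    (colimit.ι_map_apply (p j₀) i e).symm.trans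
      ((h j₀).trans (colimit.ι_map_apply (p j₀) i' e'))
  obtain ⟨k, f, g, -⟩ := (colimit_eq_iff' h1 _ _ _).1 h0
  have e1 : colimit.ι P k (P.map f e) = colimit.ι P i e := colimit.w_apply P f e
  have e2 : colimit.ι P k (P.map g e') = colimit.ι P i' e' := colimit.w_apply P g e'
  rw [← e1, ← e2]
  apply colim_inj_same h1 h2 D P p hp
  intro j
  rw [e1, e2]
  exact h j

theorem colim_surj
    (hex : ∀ i (t : ∀ j, (D.obj j).obj i),
      (∀ j j' (f : j ⟶ j'), (D.map f).app i (t j) = t j') →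
      ∃ ε : P.obj i, ∀ j, (p j).app i ε = t j)
    (s : ∀ j, colimit (D.obj j))
    (hs : ∀ j j' (f : j ⟶ j'), colimMap (D.map f) (s j) = s j') :
    ∃ x : colimit P, ∀ j, colimMap (p j) x = s j := by
  classical
  choose i₁ x₁ hx₁ using fun j => Types.jointly_surjective' (s j)
  have hR : ∀ j j' (f : j ⟶ j'), R (i₁ j) (i₁ j') := by
    intro j j' f
    have := hs j j' f
    rw [← hx₁ j, ← hx₁ j'] at this
    have h0 := (colimit.ι_map_apply (D.map f) (i₁ j) (x₁ j)).symm.trans this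
    obtain ⟨k, a, b, -⟩ := (colimit_eq_iff' h1 _ _ _).1 h0
    exact ⟨k, a, b, trivial⟩
  obtain ⟨j₀⟩ := (inferInstance : Nonempty J)
  have hR0 : ∀ j, R (i₁ j₀) (i₁ j) := by
    intro j
    refine induct_on_objects {j | R (i₁ j₀) (i₁ j)} (j₀ := j₀) (R_refl _) ?_ j
    intro j₁ j₂ f
    exact ⟨fun h => R_trans h1 h (hR _ _ f), fun h => R_trans h1 h (R_symm (hR _ _ f))⟩
  choose k a b _ using hR0
  obtain ⟨z₁, w, hv⟩ := exists_common h1 J (i₁ j₀) k a
  choose vv hvv using hv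
  let m : ∀ j, i₁ j ⟶ z₁ := fun j => b j ≫ vv j
  let y : ∀ j, (D.obj j).obj z₁ := fun j => (D.obj j).map (m j) (x₁ j)
  have hy : ∀ j, colimit.ι (D.obj j) z₁ (y j) = s j := fun j => by
    rw [← hx₁ j]; exact colimit.w_apply (D.obj j) (m j) (x₁ j)
  obtain ⟨z₂, u, hu⟩ := exists_map_eq_family h1 h2 (Σ (j j' : J), (j ⟶ j')) z₁
    (fun a => D.obj a.2.1) (fun a => (D.map a.2.2).app z₁ (y a.1)) (fun a => y a.2.1) (by
      rintro ⟨j, j', f⟩
      show colimit.ι (D.obj j') z₁ ((D.map f).app z₁ (y j)) = colimit.ι (D.obj j') z₁ (y j')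
      rw [← colimit.ι_map_apply (D.map f) z₁ (y j), hy, hy, hs])
  let y' : ∀ j, (D.obj j).obj z₂ := fun j => (D.obj j).map u (y j)
  have hy' : ∀ j j' (f : j ⟶ j'), (D.map f).app z₂ (y' j) = y' j' := by
    intro j j' f
    have := hu ⟨j, j', f⟩
    have n1 : (D.map f).app z₂ ((D.obj j).map u (y j)) =
        (D.obj j').map u ((D.map f).app z₁ (y j)) := NatTrans.naturality_apply (D.map f) u (y j)
    show (D.map f).app z₂ ((D.obj j).map u (y j)) = (D.obj j').map u (y j')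
    rw [n1]
    exact this
  obtain ⟨ε, hε⟩ := hex z₂ y' hy'
  refine ⟨colimit.ι P z₂ ε, fun j => ?_⟩
  rw [colimit.ι_map_apply, hε j, ← hy j]
  exact colimit.w_apply (D.obj j) u (y j)

end Index

theorem preservesLimitsOfShape_colim
    (h1 : ∀ ⦃w x y : I⦄ (a : w ⟶ x) (b : w ⟶ y),
      ∃ (z : I) (c : x ⟶ z) (d : y ⟶ z), a ≫ c = b ≫ d)
    (h2 : ∀ ⦃x y : I⦄ (a b : x ⟶ y), ∃ (z : I) (c : y ⟶ z), a ≫ c = b ≫ c)
    (J : Type) [SmallCategory J] [FinCategory J] [IsConnected J] :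
    PreservesLimitsOfShape J (colim : (I ⥤ Type v) ⥤ Type v) := by
  refine ⟨fun {D} => ?_⟩
  refine preservesLimit_of_preserves_limit_cone (limit.isLimit D) ?_
  refine ((Types.isLimit_iff _).2 ?_).some
  intro s hs
  let c := limit.cone D
  have hc : IsLimit c := limit.isLimit D
  have hev : ∀ i, IsLimit (((evaluation I (Type v)).obj i).mapCone c) :=
    fun i => isLimitOfPreserves _ hc
  have hp : ∀ i (ε ε' : c.pt.obj i),
      (∀ j, (c.π.app j).app i ε = (c.π.app j).app i ε') → ε = ε' :=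
    fun i ε ε' h => Concrete.isLimit_ext _ (hev i) ε ε' h
  have hex : ∀ i (t : ∀ j, (D.obj j).obj i),
      (∀ j j' (f : j ⟶ j'), (D.map f).app i (t j) = t j') →
      ∃ ε : c.pt.obj i, ∀ j, (c.π.app j).app i ε = t j := by
    intro i t ht
    obtain ⟨ε, hε, -⟩ := (Types.isLimit_iff _).1 ⟨hev i⟩ t (fun {j j'} f => ht j j' f)
    exact ⟨ε, hε⟩
  obtain ⟨x, hx⟩ := colim_surj h1 h2 D c.pt (fun j => c.π.app j) hex s (fun j j' f => hs f)
  refine ⟨x, hx, fun x' hx' => ?_⟩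
  exact colim_inj h1 h2 D c.pt (fun j => c.π.app j) hp x' x
    (fun j => (hx' j).trans (hx j).symm)

end Groth.Agent.Lib.AlmostFilteredH8
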