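import Mathlib
import Groth.Statements.S14587

/-! # Finite group schemes over a perfect field: `G = G_red ⋉ G⁰` (lead) -/

set_option backward.isDefEq.respectTransparency false
set_option backward.isDefEq.respectTransparency.types false
set_option linter.unusedSimpArgs false
set_option linter.unusedVariables false
set_option linter.unusedSectionVars false
set_option linter.style.longLine false
set_option linter.style.haveILetI false
set_option maxHeartbeats 800000

universe u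

open CategoryTheory CategoryTheory.Limits MonoidalCategory CartesianMonoidalCategory MonObj GrpObj
  AlgebraicGeometry Opposite Topology

namespace Groth.Agent.Lib.FinGrpSplit

/-- a finite reduced algebra over a perfect field is formally étale -/
theorem formallyEtale_of_finite_reduced {k B : Type u} [Field k] [PerfectField k] [CommRing B]
    [Algebra k B] [Module.Finite k B] [IsReduced B] : Algebra.FormallyEtale k B := by
  haveI : IsArtinianRing B := IsArtinianRing.of_finite k B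
  rw [Algebra.FormallyEtale.iff_exists_algEquiv_prod]
  refine ⟨MaximalSpectrum B, inferInstance, fun m => B ⧸ m.asIdeal,
    fun m => @Ideal.Quotient.field _ _ m.asIdeal m.isMaximal, fun m => inferInstance,
    (IsArtinianRing.equivPi B).restrictScalars k, fun m => ?_⟩
  letI : Field (B ⧸ m.asIdeal) := @Ideal.Quotient.field _ _ m.asIdeal m.isMaximal
  haveI : Module.Finite k (B ⧸ m.asIdeal) :=
    Module.Finite.of_surjective (Ideal.Quotient.mkₐ k m.asIdeal).toLinearMap
      (Ideal.Quotient.mkₐ_surjective k _)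
  haveI : Algebra.IsAlgebraic k (B ⧸ m.asIdeal) := inferInstance
  exact Algebra.IsAlgebraic.isSeparable_of_perfectField

/-- a morphism from an affine scheme to `Spec R` in terms of global sections -/
theorem hom_eq_spec {X : Scheme.{u}} [IsAffine X] {R : CommRingCat.{u}} (f : X ⟶ Spec R) :
    f = X.isoSpec.hom ≫ Spec.map ((Scheme.ΓSpecIso R).inv ≫ f.appTop) := by
  rw [Spec.map_comp, ← Scheme.isoSpec_Spec_inv, Scheme.isoSpec_hom_naturality_assoc,
    Iso.hom_inv_id, Category.comp_id]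

/-- two morphisms to a formally unramified scheme of finite type which agree on a surjective
family agree -/
theorem eq_of_unramified {S E T T₀ : Scheme.{u}} (p : E ⟶ S) [FormallyUnramified p]
    [LocallyOfFiniteType p] (j : T₀ ⟶ T) [Surjective j] (u v : T ⟶ E)
    (huv : u ≫ p = v ≫ p) (hj : j ≫ u = j ≫ v) : u = v := by
  obtain ⟨w, hw0⟩ : ∃ w : T ⟶ pullback p p, w = pullback.lift u v huv := ⟨_, rfl⟩
  have hw1 : w ≫ pullback.fst p p = u := by rw [hw0, pullback.lift_fst]
  have hw2 : w ≫ pullback.snd p p = v := by rw [hw0, pullback.lift_snd]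
  have hw : j ≫ w = (j ≫ u) ≫ pullback.diagonal p := by
    apply pullback.hom_ext
    · rw [Category.assoc, hw1, Category.assoc, pullback.diagonal_fst, Category.comp_id]
    · rw [Category.assoc, hw2, Category.assoc, pullback.diagonal_snd, Category.comp_id, hj]
  have hrange : Set.range w ⊆ Set.range (pullback.diagonal p) := by
    rintro _ ⟨t, rfl⟩
    obtain ⟨t₀, rfl⟩ := j.surjective t
    refine ⟨(j ≫ u) t₀, ?_⟩
    rw [← Scheme.Hom.comp_apply, ← Scheme.Hom.comp_apply, hw]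
  have h1 := IsOpenImmersion.lift_fac (pullback.diagonal p) w hrange
  have hu : IsOpenImmersion.lift (pullback.diagonal p) w hrange = u := by
    have h2 := congrArg (fun q => q ≫ pullback.fst p p) h1
    simp only [Category.assoc, pullback.diagonal_fst, Category.comp_id] at h2
    rw [h2, hw1]
  have hv : IsOpenImmersion.lift (pullback.diagonal p) w hrange = v := by
    have h2 := congrArg (fun q => q ≫ pullback.snd p p) h1
    simp only [Category.assoc, pullback.diagonal_snd, Category.comp_id] at h2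
    rw [h2, hw2]
  exact hu.symm.trans hv

theorem isPullback_whiskerLeft {S : Scheme.{u}} (B : Over S) {A' B' : Over S} (c' : A' ⟶ B') :
    IsPullback (B ◁ c').left (snd B A').left (snd B B').left c'.left := by
  apply IsPullback.of_right (h₁₂ := (fst B B').left) (h₂₂ := B'.hom) (v₁₃ := B.hom)
  · have h1 : (B ◁ c').left ≫ (fst B B').left = (fst B A').left := by simp
    rw [h1, Over.w c']
    exact IsPullback.of_hasPullback B.hom A'.hom
  · simp
  · exact IsPullback.of_hasPullback B.hom B'.hom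

theorem main14587 (k : Type u) [Field k] [PerfectField k]
    (G Gr G₀ : Over (Spec (CommRingCat.of k))) [GrpObj G] [GrpObj Gr] [GrpObj G₀] [IsFinite G.hom]
    (r : Gr ⟶ G) [IsMonHom r] [IsClosedImmersion r.left] [IsReduced Gr.left] [Surjective r.left]
    (i₀ : G₀ ⟶ G) [IsMonHom i₀] [IsOpenImmersion i₀.left] [ConnectedSpace ↥G₀.left] :
    IsIso ((r ⊗ₘ i₀) ≫ μ[G]) := by
  haveI : IsAffine G.left := isAffine_of_isAffineHom G.hom
  haveI : IsAffine Gr.left := isAffine_of_isAffineHom r.left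
  haveI hGrfin : IsFinite Gr.hom := by rw [← Over.w r]; infer_instance
  obtain ⟨φG, hφG⟩ : ∃ φ : CommRingCat.of k ⟶ Γ(G.left, ⊤),
      φ = (Scheme.ΓSpecIso (CommRingCat.of k)).inv ≫ G.hom.appTop := ⟨_, rfl⟩
  obtain ⟨φr, hφr⟩ : ∃ φ : CommRingCat.of k ⟶ Γ(Gr.left, ⊤),
      φ = (Scheme.ΓSpecIso (CommRingCat.of k)).inv ≫ Gr.hom.appTop := ⟨_, rfl⟩
  have hG : G.hom = G.left.isoSpec.hom ≫ Spec.map φG := by rw [hφG]; exact hom_eq_spec G.hom
  have hGr : Gr.hom = Gr.left.isoSpec.hom ≫ Spec.map φr := by rw [hφr]; exact hom_eq_spec Gr.hom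
  have hφ : φG ≫ r.left.appTop = φr := by
    rw [hφG, hφr, Category.assoc, ← Scheme.Hom.comp_appTop, Over.w r]
  have hfinG : φG.hom.Finite := by
    rw [← IsFinite.SpecMap_iff,
      ← MorphismProperty.cancel_left_of_respectsIso @IsFinite G.left.isoSpec.hom, ← hG]
    infer_instance
  have hfinr : φr.hom.Finite := by
    rw [← IsFinite.SpecMap_iff,
      ← MorphismProperty.cancel_left_of_respectsIso @IsFinite Gr.left.isoSpec.hom, ← hGr]
    infer_instance
  letI algA : Algebra k Γ(G.left, ⊤) := φG.hom.toAlgebra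
  letI algB : Algebra k Γ(Gr.left, ⊤) := φr.hom.toAlgebra
  haveI : Module.Finite k Γ(G.left, ⊤) := hfinG
  haveI : Module.Finite k Γ(Gr.left, ⊤) := hfinr
  haveI : IsArtinianRing Γ(G.left, ⊤) := IsArtinianRing.of_finite k _
  haveI hEt : Algebra.FormallyEtale k Γ(Gr.left, ⊤) := formallyEtale_of_finite_reduced
  haveI : FormallyUnramified Gr.hom := by
    rw [hGr, MorphismProperty.cancel_left_of_respectsIso @FormallyUnramified,
      HasRingHomProperty.Spec_iff (P := @FormallyUnramified)]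
    exact (inferInstance : Algebra.FormallyUnramified k Γ(Gr.left, ⊤))
  haveI : LocallyOfFiniteType Gr.hom := inferInstance
  -- the retraction
  let rA : Γ(G.left, ⊤) →ₐ[k] Γ(Gr.left, ⊤) :=
    ⟨r.left.appTop.hom, fun x => by
      have := congrArg (fun q => q.hom x) hφ
      exact this⟩
  have hsurj : Function.Surjective rA := fun b => by
    obtain ⟨a, ha⟩ := (IsClosedImmersion.isAffine_surjective_of_isAffine r.left).2 b
    exact ⟨a, ha⟩
  have hker : IsNilpotent (RingHom.ker (rA : Γ(G.left, ⊤) →+* Γ(Gr.left, ⊤))) := by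
    have hle : RingHom.ker (rA : Γ(G.left, ⊤) →+* Γ(Gr.left, ⊤)) ≤ nilradical Γ(G.left, ⊤) := by
      intro a ha
      rw [mem_nilradical, Scheme.isNilpotent_iff_basicOpen_eq_bot]
      have h0 : r.left.appTop a = 0 := ha
      have h1 : r.left ⁻¹ᵁ G.left.basicOpen a = ⊥ := by
        rw [Scheme.preimage_basicOpen_top, h0, Scheme.basicOpen_zero]
      rw [eq_bot_iff]
      intro x hx
      obtain ⟨y, rfl⟩ := r.left.surjective x
      have hy : y ∈ r.left ⁻¹ᵁ G.left.basicOpen a := hx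
      rw [h1] at hy
      exact hy
    obtain ⟨n, hn⟩ := IsArtinianRing.isNilpotent_nilradical (R := Γ(G.left, ⊤))
    refine ⟨n, ?_⟩
    have h2 := Ideal.pow_right_mono hle n
    rw [hn, Ideal.zero_eq_bot, le_bot_iff] at h2
    exact h2.trans Ideal.zero_eq_bot.symm
  obtain ⟨σ, hσ⟩ : ∃ σ : Γ(Gr.left, ⊤) →ₐ[k] Γ(G.left, ⊤), rA.comp σ = AlgHom.id k _ :=
    ⟨Algebra.FormallySmooth.liftOfSurjective (AlgHom.id k _) rA hsurj hker,
      Algebra.FormallySmooth.comp_liftOfSurjective _ _ _ _⟩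
  obtain ⟨σ', hσ'⟩ : ∃ σ' : Γ(Gr.left, ⊤) ⟶ Γ(G.left, ⊤),
      σ' = CommRingCat.ofHom (σ : Γ(Gr.left, ⊤) →+* Γ(G.left, ⊤)) := ⟨_, rfl⟩
  have e1 : φr ≫ σ' = φG := by
    rw [hσ']
    ext x
    exact σ.commutes x
  have e2 : σ' ≫ r.left.appTop = 𝟙 _ := by
    rw [hσ']
    ext x
    exact AlgHom.congr_fun hσ x
  obtain ⟨ρ₀, hρ₀⟩ : ∃ ρ₀ : G.left ⟶ Gr.left,
      ρ₀ = G.left.isoSpec.hom ≫ Spec.map σ' ≫ Gr.left.isoSpec.inv := ⟨_, rfl⟩
  have hρw : ρ₀ ≫ Gr.hom = G.hom := by
    rw [hρ₀, hGr, hG]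
    simp only [Category.assoc, Iso.inv_hom_id_assoc]
    rw [← Spec.map_comp, e1]
  have hrρ₀ : r.left ≫ ρ₀ = 𝟙 Gr.left := by
    rw [hρ₀, ← Scheme.isoSpec_hom_naturality_assoc, ← Spec.map_comp_assoc, e2, Spec.map_id,
      Category.id_comp, Iso.hom_inv_id]
  obtain ⟨ρ, hρ⟩ : ∃ ρ : G ⟶ Gr, ρ.left = ρ₀ := ⟨Over.homMk ρ₀ hρw, rfl⟩
  have hrρ : r ≫ ρ = 𝟙 Gr := by
    apply Over.OverMorphism.ext
    rw [Over.comp_left, hρ, hrρ₀]; rfl
  -- topology
  haveI : DiscreteTopology (Spec Γ(G.left, ⊤)) :=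
    inferInstanceAs (DiscreteTopology (PrimeSpectrum Γ(G.left, ⊤)))
  haveI : DiscreteTopology G.left := G.left.isoSpec.hom.homeomorph.symm.discreteTopology
  haveI : DiscreteTopology G₀.left := i₀.left.isOpenEmbedding.isEmbedding.discreteTopology
  haveI : Subsingleton G₀.left := PreconnectedSpace.trivial_of_discrete
  haveI hηs : Surjective (η[G₀]).left :=
    ⟨fun y => ⟨G₀.hom y, Subsingleton.elim _ _⟩⟩
  haveI hj : Surjective (Gr ◁ η[G₀]).left :=
    MorphismProperty.of_isPullback (P := @Surjective) (isPullback_whiskerLeft Gr η[G₀]).flip hηs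
  haveI : Mono i₀ := (Over.forget _).mono_of_mono_map (inferInstanceAs (Mono i₀.left))
  -- the map in terms of points
  have hφ' : (r ⊗ₘ i₀) ≫ μ[G] = (fst Gr G₀ ≫ r) * (snd Gr G₀ ≫ i₀) := by
    rw [Hom.mul_def]
    congr 1
  have hφρ : ((r ⊗ₘ i₀) ≫ μ[G]) ≫ ρ = fst Gr G₀ := by
    apply Over.OverMorphism.ext
    refine eq_of_unramified Gr.hom (Gr ◁ η[G₀]).left _ _ ?_ ?_
    · rw [Over.w, Over.w]
    · have e0 : snd Gr (𝟙_ (Over (Spec (CommRingCat.of k)))) ≫ η[G₀] ≫ i₀ = 1 := by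
        rw [IsMonHom.one_hom i₀, Hom.one_def]
        congr 1
        exact toUnit_unique _ _
      have e : (Gr ◁ η[G₀]) ≫ ((r ⊗ₘ i₀) ≫ μ[G]) ≫ ρ = (Gr ◁ η[G₀]) ≫ fst Gr G₀ := by
        rw [hφ', ← Category.assoc, MonObj.comp_mul, whiskerLeft_fst_assoc,
          whiskerLeft_snd_assoc, e0, _root_.mul_one, Category.assoc, hrρ, Category.comp_id,
          whiskerLeft_fst]
      exact congrArg (fun q => q.left) e
  -- the second component
  obtain ⟨ψ, hψ⟩ : ∃ ψ : G ⟶ G, ψ = (ρ ≫ r)⁻¹ * 𝟙 G := ⟨_, rfl⟩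
  have hrψ : r ≫ ψ = 1 := by
    rw [hψ, MonObj.comp_mul, GrpObj.comp_inv, ← Category.assoc, hrρ, Category.id_comp,
      Category.comp_id, _root_.inv_mul_cancel]
  have hrange : Set.range ψ.left ⊆ Set.range i₀.left := by
    rintro _ ⟨x, rfl⟩
    obtain ⟨y, rfl⟩ := r.left.surjective x
    refine ⟨(η[G₀]).left ((toUnit Gr).left y), ?_⟩
    have e1 : r ≫ ψ = toUnit Gr ≫ η[G₀] ≫ i₀ := by
      rw [hrψ, Hom.one_def, IsMonHom.one_hom i₀]
    have e2 : r.left ≫ ψ.left = (toUnit Gr).left ≫ (η[G₀]).left ≫ i₀.left :=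
      congrArg (fun q => q.left) e1
    have e3 := congrArg (fun q : Gr.left ⟶ G.left => q y) e2
    simp only [Scheme.Hom.comp_apply] at e3
    exact e3.symm
  obtain ⟨ψ'₀, hψ'₀⟩ : ∃ ψ'₀ : G.left ⟶ G₀.left, ψ'₀ ≫ i₀.left = ψ.left :=
    ⟨IsOpenImmersion.lift i₀.left ψ.left hrange, IsOpenImmersion.lift_fac _ _ _⟩
  have hψw : ψ'₀ ≫ G₀.hom = G.hom := by
    rw [← Over.w i₀, ← Category.assoc, hψ'₀, Over.w ψ]
  obtain ⟨ψ', hψ'⟩ : ∃ ψ' : G ⟶ G₀, ψ'.left = ψ'₀ := ⟨Over.homMk ψ'₀ hψw, rfl⟩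
  have hψi : ψ' ≫ i₀ = ψ := by
    apply Over.OverMorphism.ext
    rw [Over.comp_left, hψ', hψ'₀]
  -- the inverse
  refine ⟨⟨lift ρ ψ', ?_, ?_⟩⟩
  · apply CartesianMonoidalCategory.hom_ext
    · rw [Category.assoc, lift_fst, hφρ, Category.id_comp]
    · rw [Category.assoc, lift_snd, Category.id_comp, ← cancel_mono i₀, Category.assoc, hψi, hψ,
        MonObj.comp_mul, GrpObj.comp_inv, Category.comp_id, ← Category.assoc, hφρ, hφ',
        _root_.inv_mul_cancel_left]
  · rw [hφ', MonObj.comp_mul, lift_fst_assoc, lift_snd_assoc, hψi, hψ,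
      _root_.mul_inv_cancel_left]

end Groth.Agent.Lib.FinGrpSplit
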