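import Groth.Statements.S11218
import Groth.Agent.Lib.ClosedOrbit_lead

/-! # closure of a G-orbit is G · closure of the H-orbit when G/H is proper (lead) -/

set_option backward.isDefEq.respectTransparency false
set_option backward.isDefEq.respectTransparency.types false
set_option linter.unusedSimpArgs false
set_option linter.unusedVariables false
set_option linter.unusedSectionVars false
set_option linter.style.longLine false
set_option linter.style.haveILetI false
set_option maxHeartbeats 800000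

universe u

open CategoryTheory CategoryTheory.Limits MonoidalCategory CartesianMonoidalCategory MonObj GrpObj
  AlgebraicGeometry Opposite Topology TopologicalSpace

namespace Groth.Agent.Lib.OrbitClosProper

open Groth.Agent.Lib.AssocBundle Groth.Agent.Lib.TorsorSeq Groth.Agent.Lib.GenFlatHom
  Groth.Agent.Lib.ClosedOrbit

section general

variable {S : Scheme.{u}}

theorem act_cancel {G X : Over S} [GrpObj G] (a : AlgGrp.Action G X) {T : Over S} (g : T ⟶ G)
    (y y' : T ⟶ X) (h : lift g y ≫ a.act = lift g y' ≫ a.act) : y = y' := by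
  have h1 : ∀ z : T ⟶ X, lift g⁻¹ (lift g z ≫ a.act) ≫ a.act = z := by
    intro z
    rw [← a.lift_mul_act, _root_.inv_mul_cancel, a.lift_one_act]
  rw [← h1 y, h, h1 y']

/-- `Ψ (g, y) = (π g, g • y)` -/
noncomputable def Psi {G X Y : Over S} [GrpObj G] (a : AlgGrp.Action G X) (π : G ⟶ Y) :
    G ⊗ X ⟶ Y ⊗ X := lift (fst G X ≫ π) a.act

/-- `(g, h, y) ↦ (g, i(h) • y)` -/
noncomputable def pr1 {G H X : Over S} [GrpObj G] [GrpObj H] (a : AlgGrp.Action G X) (i : H ⟶ G) :
    (G ⊗ H) ⊗ X ⟶ G ⊗ X :=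
  lift (fst (G ⊗ H) X ≫ fst G H)
    (lift (fst (G ⊗ H) X ≫ snd G H ≫ i) (snd (G ⊗ H) X) ≫ a.act)

/-- `(g, h, y) ↦ (g i(h), y)` -/
noncomputable def pr2 {G H : Over S} [GrpObj G] [GrpObj H] (X : Over S) (i : H ⟶ G) :
    (G ⊗ H) ⊗ X ⟶ G ⊗ X := ((G ◁ i) ≫ μ[G]) ▷ X

variable {G H X Y : Over S} [GrpObj G] [GrpObj H] (a : AlgGrp.Action G X) (i : H ⟶ G) (π : G ⟶ Y)

theorem pr1_fst : pr1 a i ≫ fst G X = fst (G ⊗ H) X ≫ fst G H := by unfold pr1; rw [lift_fst]

theorem pr1_snd : pr1 a i ≫ snd G X =
    lift (fst (G ⊗ H) X ≫ snd G H ≫ i) (snd (G ⊗ H) X) ≫ a.act := by unfold pr1; rw [lift_snd]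

theorem pr2_fst : pr2 X i ≫ fst G X = fst (G ⊗ H) X ≫ ((G ◁ i) ≫ μ[G]) := by
  unfold pr2; rw [whiskerRight_fst]

theorem pr2_snd : pr2 X i ≫ snd G X = snd (G ⊗ H) X := by unfold pr2; rw [whiskerRight_snd]

theorem Psi_fst : Psi a π ≫ fst Y X = fst G X ≫ π := lift_fst _ _

theorem Psi_snd : Psi a π ≫ snd Y X = a.act := lift_snd _ _

@[reassoc]
theorem pt_pr1 {T : Over S} (g : T ⟶ G) (h : T ⟶ H) (y : T ⟶ X) :
    lift (lift g h) y ≫ pr1 a i = lift g (lift (h ≫ i) y ≫ a.act) := by
  simp only [pr1, comp_lift, lift_fst_assoc, lift_fst, comp_lift_assoc, lift_snd_assoc, lift_snd,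
    Category.assoc]

@[reassoc]
theorem pt_pr2 {T : Over S} (g : T ⟶ G) (h : T ⟶ H) (y : T ⟶ X) :
    lift (lift g h) y ≫ pr2 X i = lift (g * (h ≫ i)) y := by
  unfold pr2
  rw [lift_whiskerRight, lift_whiskerLeft_assoc, ← Hom.mul_def]

@[reassoc]
theorem pt_Psi {T : Over S} (g : T ⟶ G) (y : T ⟶ X) :
    lift g y ≫ Psi a π = lift (g ≫ π) (lift g y ≫ a.act) := by
  unfold Psi
  rw [comp_lift, lift_fst_assoc]

theorem mul_pi (hpb : IsPullback (fst G H) ((G ◁ i) ≫ μ[G]) π π) {T : Over S} (g : T ⟶ G)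
    (h : T ⟶ H) : (g * (h ≫ i)) ≫ π = g ≫ π := by
  have := congrArg (fun t => lift g h ≫ t) hpb.w
  simp only [lift_fst_assoc, Category.assoc, lift_whiskerLeft_assoc] at this
  rw [Hom.mul_def, Category.assoc]; exact this.symm

/-- `Ψ` is a base change of `π`. -/
theorem isPullback_Psi_base : IsPullback (Psi a π) (fst G X) (fst Y X) π := by
  apply isPullback_of_exists_unique
  · exact Psi_fst a π
  · intro T b c hbc
    refine ⟨lift c (lift c⁻¹ (b ≫ snd Y X) ≫ a.act), ?_, lift_fst _ _⟩
    rw [pt_Psi, ← a.lift_mul_act, _root_.mul_inv_cancel, a.lift_one_act, ← hbc, ← comp_lift,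
      lift_fst_snd, Category.comp_id]
  · intro T l l' h1 h2
    obtain ⟨g, hg⟩ : ∃ g, g = l ≫ fst G X := ⟨_, rfl⟩
    have hl : l = lift g (l ≫ snd G X) := by
      rw [hg, ← comp_lift, lift_fst_snd, Category.comp_id]
    have hl' : l' = lift g (l' ≫ snd G X) := by
      rw [hg, h2, ← comp_lift, lift_fst_snd, Category.comp_id]
    have e : lift g (l ≫ snd G X) ≫ a.act = lift g (l' ≫ snd G X) ≫ a.act := by
      have := congrArg (fun t => t ≫ snd Y X) h1
      simp only [Category.assoc, Psi_snd] at this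
      rw [← hl, ← hl']; exact this
    rw [hl, hl', act_cancel a g _ _ e]

/-- the kernel pair of `Ψ` -/
theorem isPullback_Psi [IsMonHom i] (hpb : IsPullback (fst G H) ((G ◁ i) ≫ μ[G]) π π) :
    IsPullback (pr1 a i) (pr2 X i) (Psi a π) (Psi a π) := by
  apply isPullback_of_exists_unique
  · apply AlgGrp.Action.hom_ext_lift₃
    intro T g h y
    rw [pt_pr1_assoc, pt_pr2_assoc, pt_Psi, pt_Psi, mul_pi i π hpb, a.lift_mul_act]
  · intro T b c hbc
    obtain ⟨g, hg⟩ : ∃ g, g = b ≫ fst G X := ⟨_, rfl⟩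
    obtain ⟨y, hy⟩ : ∃ y, y = b ≫ snd G X := ⟨_, rfl⟩
    obtain ⟨g', hg'⟩ : ∃ g', g' = c ≫ fst G X := ⟨_, rfl⟩
    obtain ⟨y', hy'⟩ : ∃ y', y' = c ≫ snd G X := ⟨_, rfl⟩
    have hb : b = lift g y := by rw [hg, hy, ← comp_lift, lift_fst_snd, Category.comp_id]
    have hc : c = lift g' y' := by rw [hg', hy', ← comp_lift, lift_fst_snd, Category.comp_id]
    rw [hb, hc, pt_Psi, pt_Psi] at hbc
    have e1 : g ≫ π = g' ≫ π := by
      have := congrArg (fun t => t ≫ fst Y X) hbc
      simpa only [lift_fst] using this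
    have e2 : lift g y ≫ a.act = lift g' y' ≫ a.act := by
      have := congrArg (fun t => t ≫ snd Y X) hbc
      simpa only [lift_snd] using this
    obtain ⟨h, hh⟩ : ∃ h : T ⟶ H, g' = g * (h ≫ i) := by
      obtain ⟨l₀, hl1, hl2⟩ : ∃ l₀ : T ⟶ G ⊗ H, l₀ ≫ fst G H = g ∧ l₀ ≫ (G ◁ i) ≫ μ[G] = g' :=
        ⟨hpb.lift g g' e1, hpb.lift_fst _ _ _, hpb.lift_snd _ _ _⟩
      refine ⟨l₀ ≫ snd G H, ?_⟩
      have e : l₀ = lift g (l₀ ≫ snd G H) := by
        apply CartesianMonoidalCategory.hom_ext
        · rw [lift_fst, hl1]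
        · rw [lift_snd]
      rw [e, lift_whiskerLeft_assoc, ← Hom.mul_def] at hl2
      exact hl2.symm
    have e3 : lift (h ≫ i) y' ≫ a.act = y := by
      apply act_cancel a g
      rw [← a.lift_mul_act, ← hh, e2]
    refine ⟨lift (lift g h) y', ?_, ?_⟩
    · rw [pt_pr1, e3, hb]
    · rw [pt_pr2, ← hh, hc]
  · intro T l l' h1 h2
    apply CartesianMonoidalCategory.hom_ext
    · apply hpb.hom_ext
      · have := congrArg (fun t => t ≫ fst G X) h1
        simpa only [Category.assoc, pr1_fst] using this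
      · have := congrArg (fun t => t ≫ fst G X) h2
        simpa only [Category.assoc, pr2_fst] using this
    · have := congrArg (fun t => t ≫ snd G X) h2
      simpa only [Category.assoc, pr2_snd] using this

end general

section field

variable {k : Type u} [Field k]

theorem main11218
    (G : Over (Spec (CommRingCat.of k))) [GrpObj G] [Smooth G.hom]
    (H : Over (Spec (CommRingCat.of k))) [GrpObj H] [Smooth H.hom] (i : H ⟶ G) [IsMonHom i]
    (Y : Over (Spec (CommRingCat.of k))) (b : AlgGrp.Action G Y)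
    (o' : 𝟙_ (Over (Spec (CommRingCat.of k))) ⟶ Y) (hY : AGF.IsQuotient i Y b o')
    [IsProper Y.hom]
    (X : Over (Spec (CommRingCat.of k)))
    (a : AlgGrp.Action G X) (x : 𝟙_ (Over (Spec (CommRingCat.of k))) ⟶ X) :
    closure (Set.range ⇑(a.orbitMap x).left.base) =
      ⇑a.act.left.base '' (⇑(snd G X).left.base ⁻¹'
        closure (Set.range ⇑(i ≫ a.orbitMap x).left.base)) := by
  obtain ⟨hlft, hflat, hsurj, hpb⟩ := hY
  obtain ⟨π, hπ⟩ : ∃ π : G ⟶ Y, π = b.orbitMap o' := ⟨_, rfl⟩
  rw [← hπ] at hflat hsurj hpb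
  haveI := hlft
  haveI := hflat
  haveI := hsurj
  haveI : IsNoetherianRing (CommRingCat.of k) := inferInstanceAs (IsNoetherianRing k)
  haveI : IsLocallyNoetherian Y.left := LocallyOfFiniteType.isLocallyNoetherian Y.hom
  haveI : LocallyOfFiniteType G.hom := inferInstance
  haveI : LocallyOfFiniteType π.left := lft_hom π
  haveI : LocallyOfFinitePresentation π.left := inferInstance
  haveI : UniversallyOpen π.left := inferInstance
  have sqΨ : IsPullback (Psi a π).left (fst G X).left (fst Y X).left π.left :=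
    (isPullback_Psi_base a π).map (Over.forget _)
  haveI hΨo : UniversallyOpen (Psi a π).left :=
    MorphismProperty.of_isPullback (P := @UniversallyOpen) sqΨ.flip inferInstance
  haveI hΨs : Surjective (Psi a π).left :=
    MorphismProperty.of_isPullback (P := @Surjective) sqΨ.flip inferInstance
  have sqK : IsPullback (pr1 a i).left (pr2 X i).left (Psi a π).left (Psi a π).left :=
    (isPullback_Psi a i π hpb).map (Over.forget _)
  have hoH : IsOpenMap (snd H X).left := by
    haveI : UniversallyOpen H.hom := inferInstance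
    haveI : UniversallyOpen (pullback.snd H.hom X.hom) := inferInstance
    exact (pullback.snd H.hom X.hom).isOpenMap
  have hoG : IsOpenMap (snd G X).left := by
    haveI : UniversallyOpen G.hom := inferInstance
    haveI : UniversallyOpen (pullback.snd G.hom X.hom) := inferInstance
    exact (pullback.snd G.hom X.hom).isOpenMap
  have hcl : IsClosedMap (snd Y X).left := by
    haveI : UniversallyClosed (pullback.snd Y.hom X.hom) := inferInstance
    exact (pullback.snd Y.hom X.hom).isClosedMap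
  have eorb : i ≫ a.orbitMap x = (a.restrict i).orbitMap x := by
    rw [a.comp_orbitMap]
    unfold AlgGrp.Action.orbitMap
    rw [AlgGrp.Action.restrict_act, lift_whiskerRight_assoc, Category.id_comp]
  show closure (Set.range (a.orbitMap x).left) =
    a.act.left '' ((snd G X).left ⁻¹' closure (Set.range (i ≫ a.orbitMap x).left))
  obtain ⟨Zc, hZc⟩ : ∃ Zc : Set X.left, Zc = closure (Set.range (i ≫ a.orbitMap x).left) :=
    ⟨_, rfl⟩
  rw [← hZc]
  have hZst : Stable (a.restrict i) Zc := by
    rw [hZc, eorb]; exact st_closure (a.restrict i) hoH (st_orbit (a.restrict i) x)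
  have hZcl : IsClosed Zc := by rw [hZc]; exact isClosed_closure
  have hx : η[H] ≫ (i ≫ a.orbitMap x) = x := by
    have h1 : (η[G] : 𝟙_ (Over (Spec (CommRingCat.of k))) ⟶ G) = 1 := by
      rw [Hom.one_def, toUnit_unique (toUnit _) (𝟙 _), Category.id_comp]
    have h2 : toUnit (𝟙_ (Over (Spec (CommRingCat.of k)))) ≫ x = x := by
      rw [toUnit_unique (toUnit _) (𝟙 _), Category.id_comp]
    rw [← Category.assoc, IsMonHom.one_hom, a.comp_orbitMap, h1, h2, a.lift_one_act]
  apply Set.Subset.antisymm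
  · -- closure (G x) ⊆ G Z
    apply closure_minimal
    · rintro _ ⟨g, rfl⟩
      refine ⟨(lift (𝟙 G) (toUnit G ≫ x)).left g, ?_, rfl⟩
      show (snd G X).left ((lift (𝟙 G) (toUnit G ≫ x)).left g) ∈ Zc
      rw [← comp_pt, lift_snd, comp_pt, hZc]
      apply subset_closure
      refine ⟨(η[H]).left ((toUnit G).left g), ?_⟩
      rw [← comp_pt, hx]
    · obtain ⟨W, hW⟩ : ∃ W : Set (G ⊗ X).left, W = (snd G X).left ⁻¹' Zc := ⟨_, rfl⟩
      rw [← hW]
      have hWcl : IsClosed W := by rw [hW]; exact hZcl.preimage (snd G X).left.continuous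
      have hsat : (Psi a π).left ⁻¹' ((Psi a π).left '' W) = W := by
        apply Set.Subset.antisymm
        · rintro q ⟨p, hp, hpq⟩
          obtain ⟨r, hr1, hr2⟩ := exists_of_isPullback sqK p q hpq
          rw [hW] at hp ⊢
          by_contra hq
          have hst' := st_compl (a.restrict i) hZst
          obtain ⟨ρ, hρ⟩ : ∃ ρ : (G ⊗ H) ⊗ X ⟶ H ⊗ X,
            ρ = lift (fst _ X ≫ snd G H) (snd _ X) := ⟨_, rfl⟩
          have e1 : ρ ≫ snd H X = pr2 X i ≫ snd G X := by rw [hρ, lift_snd, pr2_snd]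
          have e2 : ρ ≫ (a.restrict i).act = pr1 a i ≫ snd G X := by
            rw [hρ, pr1_snd, AlgGrp.Action.restrict_act, lift_whiskerRight_assoc, Category.assoc]
          have f1 : (snd H X).left (ρ.left r) = (snd G X).left q := by
            rw [← comp_pt, e1, comp_pt, hr2]
          have f2 : (a.restrict i).act.left (ρ.left r) = (snd G X).left p := by
            rw [← comp_pt, e2, comp_pt, hr1]
          have h3 := hst' (ρ.left r) (by rw [f1]; exact hq)
          rw [f2] at h3
          exact h3 hp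
        · exact Set.subset_preimage_image _ _
      have hq : IsQuotientMap (Psi a π).left :=
        IsOpenMap.isQuotientMap (Psi a π).left.isOpenMap (Psi a π).left.continuous
          (Psi a π).left.surjective
      have hΨW : IsClosed ((Psi a π).left '' W) := by
        rw [(isQuotientMap_iff_isClosed.mp hq).2, hsat]; exact hWcl
      have himg : a.act.left '' W = (snd Y X).left '' ((Psi a π).left '' W) := by
        rw [← Set.image_comp]
        apply Set.image_congr
        intro p _
        show a.act.left p = (snd Y X).left ((Psi a π).left p)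
        rw [← comp_pt, Psi_snd]
      rw [himg]
      exact hcl _ hΨW
  · rintro _ ⟨p, hp, rfl⟩
    have hst : Stable a (closure (Set.range (a.orbitMap x).left)) :=
      st_closure a hoG (st_orbit a x)
    apply hst p
    have hsub : Zc ⊆ closure (Set.range (a.orbitMap x).left) := by
      rw [hZc]; apply closure_mono
      rintro _ ⟨t, rfl⟩; exact ⟨i.left t, rfl⟩
    exact hsub hp

end field

end Groth.Agent.Lib.OrbitClosProper
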