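import Groth.Statements.S14638
import Groth.Agent.Lib.OrbitClosProper_lead
import Groth.Agent.Lib.EquivFlat_lead
import Groth.Agent.Lib.ConstrNF_lead
import Groth.Agent.Lib.KPtsOrbit_lead

/-! # Almost homogeneous varieties have a unique open orbit (lead) -/

set_option backward.isDefEq.respectTransparency false
set_option backward.isDefEq.respectTransparency.types false
set_option linter.unusedSimpArgs false
set_option linter.unusedVariables false
set_option linter.unusedSectionVars false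
set_option linter.style.longLine false
set_option linter.style.haveILetI false
set_option linter.unnecessarySimpa false
set_option maxHeartbeats 800000

universe u

open CategoryTheory CategoryTheory.Limits MonoidalCategory CartesianMonoidalCategory MonObj GrpObj
  AlgebraicGeometry Opposite Topology TopologicalSpace

namespace Groth.Agent.Lib.AlmostHomog

open Groth.Agent.Lib.AssocBundle Groth.Agent.Lib.TorsorSeq Groth.Agent.Lib.GenFlatHom
  Groth.Agent.Lib.ClosedOrbit Groth.Agent.Lib.OrbitClosProper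

section general

variable {S : Scheme.{u}} {G X : Over S} [GrpObj G] (a : AlgGrp.Action G X)

theorem sq_whiskerRight {A B : Over S} (φ : A ⟶ B) (X : Over S) :
    IsPullback (φ ▷ X) (fst A X) (fst B X) φ := by
  apply isPullback_of_exists_unique
  · rw [whiskerRight_fst]
  · intro T b c hbc
    refine ⟨lift c (b ≫ snd B X), ?_, lift_fst _ _⟩
    apply CartesianMonoidalCategory.hom_ext
    · rw [Category.assoc, whiskerRight_fst, lift_fst_assoc, hbc]
    · rw [Category.assoc, whiskerRight_snd, lift_snd]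
  · intro T l l' h1 h2
    apply CartesianMonoidalCategory.hom_ext
    · exact h2
    · have := congrArg (fun t => t ≫ snd B X) h1
      simpa only [Category.assoc, whiskerRight_snd] using this

/-- the graph morphism `(g, x) ↦ (x, g x)` -/
noncomputable def Gam : G ⊗ X ⟶ X ⊗ X := lift (snd G X) a.act

@[reassoc] theorem Gam_fst : Gam a ≫ fst X X = snd G X := lift_fst _ _

@[reassoc] theorem Gam_snd : Gam a ≫ snd X X = a.act := lift_snd _ _

@[reassoc] theorem pt_Gam {T : Over S} (g : T ⟶ G) (x : T ⟶ X) :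
    lift g x ≫ Gam a = lift x (lift g x ≫ a.act) := by
  unfold Gam; rw [comp_lift, lift_snd]

theorem comp_Gam {T : Over S} (d : T ⟶ G ⊗ X) :
    d ≫ Gam a = lift (d ≫ snd G X) (d ≫ a.act) := by
  unfold Gam; rw [comp_lift]

noncomputable def p13 (X : Over S) : (X ⊗ X) ⊗ X ⟶ X ⊗ X :=
  lift (fst (X ⊗ X) X ≫ fst X X) (snd (X ⊗ X) X)

noncomputable def p23 (X : Over S) : (X ⊗ X) ⊗ X ⟶ X ⊗ X :=
  lift (fst (X ⊗ X) X ≫ snd X X) (snd (X ⊗ X) X)

@[reassoc] theorem pt_p13 {T : Over S} (c : T ⟶ X ⊗ X) (z : T ⟶ X) :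
    lift c z ≫ p13 X = lift (c ≫ fst X X) z := by
  unfold p13; rw [comp_lift, lift_fst_assoc, lift_snd]

@[reassoc] theorem pt_p23 {T : Over S} (c : T ⟶ X ⊗ X) (z : T ⟶ X) :
    lift c z ≫ p23 X = lift (c ≫ snd X X) z := by
  unfold p23; rw [comp_lift, lift_fst_assoc, lift_snd]

noncomputable def m1 : G ⊗ (X ⊗ X) ⟶ (X ⊗ X) ⊗ X :=
  lift (snd G (X ⊗ X)) ((G ◁ fst X X) ≫ a.act)

@[reassoc] theorem m1_fst : m1 a ≫ fst (X ⊗ X) X = snd G (X ⊗ X) := lift_fst _ _

@[reassoc] theorem pt_m1 {T : Over S} (g : T ⟶ G) (c : T ⟶ X ⊗ X) :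
    lift g c ≫ m1 a = lift c (lift g (c ≫ fst X X) ≫ a.act) := by
  unfold m1; rw [comp_lift, lift_snd, lift_whiskerLeft_assoc]

theorem sq1 : IsPullback (G ◁ fst X X) (m1 a) (Gam a) (p13 X) := by
  apply isPullback_of_exists_unique
  · apply AlgGrp.Action.hom_ext_lift₂
    intro T g c
    rw [lift_whiskerLeft_assoc, pt_Gam, pt_m1_assoc, pt_p13]
  · intro T b c hbc
    obtain ⟨g, hg⟩ : ∃ g, g = b ≫ fst G X := ⟨_, rfl⟩
    obtain ⟨x', hx'⟩ : ∃ x', x' = b ≫ snd G X := ⟨_, rfl⟩
    obtain ⟨c₁, hc₁⟩ : ∃ c₁, c₁ = c ≫ fst (X ⊗ X) X := ⟨_, rfl⟩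
    obtain ⟨z, hz⟩ : ∃ z, z = c ≫ snd (X ⊗ X) X := ⟨_, rfl⟩
    have hb : b = lift g x' := by rw [hg, hx', lift_comp_fst_snd]
    have hc : c = lift c₁ z := by rw [hc₁, hz, lift_comp_fst_snd]
    rw [hb, hc, pt_Gam, pt_p13] at hbc
    have e1 : x' = c₁ ≫ fst X X := by
      have := congrArg (fun t => t ≫ fst X X) hbc
      simpa only [lift_fst] using this
    have e2 : lift g x' ≫ a.act = z := by
      have := congrArg (fun t => t ≫ snd X X) hbc
      simpa only [lift_snd] using this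
    refine ⟨lift g c₁, ?_, ?_⟩
    · rw [lift_whiskerLeft, ← e1, hb]
    · rw [pt_m1, ← e1, e2, hc]
  · intro T l l' h1 h2
    apply CartesianMonoidalCategory.hom_ext
    · have := congrArg (fun t => t ≫ fst G X) h1
      simpa only [Category.assoc, whiskerLeft_fst] using this
    · have := congrArg (fun t => t ≫ fst (X ⊗ X) X) h2
      simpa only [Category.assoc, m1_fst] using this

/-- `(g₂, (h, x)) ↦ (g₂ h, (x, h x))` -/
noncomputable def v2 : G ⊗ (G ⊗ X) ⟶ G ⊗ (X ⊗ X) :=
  lift (fst G (G ⊗ X) * (snd G (G ⊗ X) ≫ fst G X)) (snd G (G ⊗ X) ≫ Gam a)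

@[reassoc] theorem v2_fst :
    v2 a ≫ fst G (X ⊗ X) = fst G (G ⊗ X) * (snd G (G ⊗ X) ≫ fst G X) := lift_fst _ _

@[reassoc] theorem v2_snd : v2 a ≫ snd G (X ⊗ X) = snd G (G ⊗ X) ≫ Gam a := lift_snd _ _

@[reassoc] theorem pt_v2 {T : Over S} (g : T ⟶ G) (d : T ⟶ G ⊗ X) :
    lift g d ≫ v2 a = lift (g * (d ≫ fst G X)) (d ≫ Gam a) := by
  unfold v2
  rw [comp_lift, MonObj.comp_mul, lift_fst, lift_snd_assoc, lift_snd_assoc]

theorem sq2 : IsPullback (v2 a) (G ◁ a.act) (m1 a ≫ p23 X) (Gam a) := by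
  apply isPullback_of_exists_unique
  · apply AlgGrp.Action.hom_ext_lift₂
    intro T g d
    rw [pt_v2_assoc, pt_m1_assoc, pt_p23, lift_whiskerLeft_assoc, pt_Gam]
    simp only [Category.assoc, Gam_fst, Gam_snd]
    rw [act_mul' a, lift_comp_fst_snd]
  · intro T b c hbc
    obtain ⟨g₁, hg₁⟩ : ∃ g₁, g₁ = b ≫ fst G (X ⊗ X) := ⟨_, rfl⟩
    obtain ⟨e, he⟩ : ∃ e, e = b ≫ snd G (X ⊗ X) := ⟨_, rfl⟩
    obtain ⟨g₂, hg₂⟩ : ∃ g₂, g₂ = c ≫ fst G X := ⟨_, rfl⟩
    obtain ⟨y', hy'⟩ : ∃ y', y' = c ≫ snd G X := ⟨_, rfl⟩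
    have hb : b = lift g₁ e := by rw [hg₁, he, lift_comp_fst_snd]
    have hc : c = lift g₂ y' := by rw [hg₂, hy', lift_comp_fst_snd]
    rw [hb, hc, pt_m1_assoc, pt_p23, pt_Gam] at hbc
    have e1 : e ≫ snd X X = y' := by
      have := congrArg (fun t => t ≫ fst X X) hbc
      simpa only [lift_fst] using this
    have e2 : lift g₁ (e ≫ fst X X) ≫ a.act = lift g₂ y' ≫ a.act := by
      have := congrArg (fun t => t ≫ snd X X) hbc
      simpa only [lift_snd] using this
    have e3 : lift (g₂⁻¹ * g₁) (e ≫ fst X X) ≫ a.act = y' := by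
      apply act_cancel a g₂
      rw [← act_mul' a, _root_.mul_inv_cancel_left, e2]
    refine ⟨lift g₂ (lift (g₂⁻¹ * g₁) (e ≫ fst X X)), ?_, ?_⟩
    · rw [pt_v2, lift_fst, pt_Gam, e3, _root_.mul_inv_cancel_left, hb, ← e1, lift_comp_fst_snd]
    · rw [lift_whiskerLeft, e3, hc]
  · intro T l l' h1 h2
    have hf : l ≫ fst G (G ⊗ X) = l' ≫ fst G (G ⊗ X) := by
      have := congrArg (fun t => t ≫ fst G X) h2
      simpa only [Category.assoc, whiskerLeft_fst] using this
    have hs1 : (l ≫ snd G (G ⊗ X)) ≫ fst G X = (l' ≫ snd G (G ⊗ X)) ≫ fst G X := by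
      have := congrArg (fun t => t ≫ fst G (X ⊗ X)) h1
      simp only [Category.assoc, v2_fst, MonObj.comp_mul] at this
      rw [hf] at this
      simpa only [Category.assoc] using _root_.mul_left_cancel this
    have hs2 : (l ≫ snd G (G ⊗ X)) ≫ snd G X = (l' ≫ snd G (G ⊗ X)) ≫ snd G X := by
      have := congrArg (fun t => t ≫ snd G (X ⊗ X) ≫ fst X X) h1
      simpa only [Category.assoc, v2_snd_assoc, Gam_fst] using this
    apply CartesianMonoidalCategory.hom_ext
    · exact hf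
    · apply CartesianMonoidalCategory.hom_ext
      · exact hs1
      · exact hs2

/-- transitivity of the orbit relation at the level of scheme points -/
theorem trans_pt (n : ((X ⊗ X) ⊗ X).left)
    (h13 : (p13 X).left n ∈ Set.range (Gam a).left)
    (h23 : (p23 X).left n ∈ Set.range (Gam a).left) :
    (fst (X ⊗ X) X).left n ∈ Set.range (Gam a).left := by
  obtain ⟨w₁, hw₁⟩ := h13
  obtain ⟨w₂, hw₂⟩ := h23
  have s1 : IsPullback (G ◁ fst X X).left (m1 a).left (Gam a).left (p13 X).left :=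
    (sq1 a).map (Over.forget _)
  obtain ⟨u₁, hu₁a, hu₁b⟩ := exists_of_isPullback s1 w₁ n hw₁
  have s2 : IsPullback (v2 a).left (G ◁ a.act).left (m1 a ≫ p23 X).left (Gam a).left :=
    (sq2 a).map (Over.forget _)
  have h' : (m1 a ≫ p23 X).left u₁ = (Gam a).left w₂ := by rw [comp_pt, hu₁b, hw₂]
  obtain ⟨u₂, hu₂a, hu₂b⟩ := exists_of_isPullback s2 u₁ w₂ h'
  refine ⟨(snd G (G ⊗ X)).left u₂, ?_⟩
  have e : snd G (G ⊗ X) ≫ Gam a = v2 a ≫ m1 a ≫ fst (X ⊗ X) X := by rw [m1_fst, v2_snd]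
  rw [← comp_pt, e, comp_pt, comp_pt, hu₂a, hu₁b]

/-- `G` acting on the first factor of `X × X` -/
noncomputable def a1 : AlgGrp.Action G (X ⊗ X) := a.prod (AlgGrp.Action.trivial G X)

theorem a1_fst : (a1 a).act ≫ fst X X = (G ◁ fst X X) ≫ a.act := by
  unfold a1; rw [AlgGrp.Action.prod_act, lift_fst]

theorem pt_a1 {T : Over S} (g : T ⟶ G) (x y : T ⟶ X) :
    lift g (lift x y) ≫ (a1 a).act = lift (lift g x ≫ a.act) y := by
  unfold a1; rw [AlgGrp.Action.lift_prod_act, AlgGrp.Action.lift_trivial_act]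

/-- `(g, (g₀, x)) ↦ (g₀ g⁻¹, g x)` -/
noncomputable def theta : G ⊗ (G ⊗ X) ⟶ G ⊗ X :=
  lift ((snd G (G ⊗ X) ≫ fst G X) * (fst G (G ⊗ X))⁻¹) ((G ◁ snd G X) ≫ a.act)

@[reassoc] theorem pt_theta {T : Over S} (g : T ⟶ G) (d : T ⟶ G ⊗ X) :
    lift g d ≫ theta a = lift ((d ≫ fst G X) * g⁻¹) (lift g (d ≫ snd G X) ≫ a.act) := by
  unfold theta
  rw [comp_lift, MonObj.comp_mul, GrpObj.comp_inv, lift_fst, lift_snd_assoc,
    lift_whiskerLeft_assoc]

theorem theta_Gam : theta a ≫ Gam a = (G ◁ Gam a) ≫ (a1 a).act := by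
  apply AlgGrp.Action.hom_ext_lift₂
  intro T g d
  rw [pt_theta_assoc, pt_Gam, ← act_mul' a, _root_.inv_mul_cancel_right, lift_comp_fst_snd,
    lift_whiskerLeft_assoc, comp_Gam, pt_a1]

theorem stable_I : Stable (a1 a) (Set.range (Gam a).left) := by
  rintro m ⟨w, hw⟩
  have sq : IsPullback (G ◁ Gam a).left (snd G (G ⊗ X)).left (snd G (X ⊗ X)).left
      (Gam a).left := Groth.Agent.Lib.FinGrpSplit.isPullback_whiskerLeft G (Gam a)
  obtain ⟨m', hm'1, hm'2⟩ := exists_of_isPullback sq m w hw.symm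
  refine ⟨(theta a).left m', ?_⟩
  rw [← comp_pt, theta_Gam, comp_pt, hm'1]

theorem stable_interior {Y : Over S} (c : AlgGrp.Action G Y) (hopen : IsOpenMap (snd G Y).left)
    {s : Set Y.left} (hs : Stable c s) : Stable c (interior s) := by
  have h1 := st_compl c (st_closure c hopen (st_compl c hs))
  have e : (closure sᶜ)ᶜ = interior s := by rw [closure_compl, compl_compl]
  rw [e] at h1; exact h1

theorem stable_fst_image {W : Set (X ⊗ X).left} (hW : Stable (a1 a) W) :
    Stable a ((fst X X).left '' W) := by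
  rintro w ⟨p, hpW, hp⟩
  have sq : IsPullback (G ◁ fst X X).left (snd G (X ⊗ X)).left (snd G X).left
      (fst X X).left := Groth.Agent.Lib.FinGrpSplit.isPullback_whiskerLeft G (fst X X)
  obtain ⟨m, hm1, hm2⟩ := exists_of_isPullback sq w p hp.symm
  refine ⟨(a1 a).act.left m, hW m (by rw [hm2]; exact hpW), ?_⟩
  rw [← comp_pt, a1_fst, comp_pt, hm1]

theorem lift_open (X : Over S) (U : X.left.Opens) (T : Over S) (g : T ⟶ X)
    (H : Set.range g.left.base ⊆ (U : Set X.left)) :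
    ∃ h : T ⟶ Over.mk (U.ι ≫ X.hom),
      h ≫ (Over.homMk U.ι rfl : Over.mk (U.ι ≫ X.hom) ⟶ X) = g := by
  have H' : Set.range g.left.base ⊆ Set.range U.ι.base := by
    rw [Scheme.Opens.range_ι]; exact H
  refine ⟨Over.homMk (IsOpenImmersion.lift U.ι g.left H') ?_, ?_⟩
  · show IsOpenImmersion.lift U.ι g.left H' ≫ U.ι ≫ X.hom = T.hom
    rw [← Category.assoc, IsOpenImmersion.lift_fac, Over.w g]
  · apply Over.OverMorphism.ext
    show IsOpenImmersion.lift U.ι g.left H' ≫ U.ι = g.left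
    exact IsOpenImmersion.lift_fac _ _ _

section openpart

variable (U : X.left.Opens)

/-- the inclusion of the open subscheme, as a morphism over `S` -/
noncomputable def inc : Over.mk (U.ι ≫ X.hom) ⟶ X := Over.homMk U.ι rfl

theorem inc_range : Set.range (inc U).left.base = (U : Set X.left) := Scheme.Opens.range_ι U

instance : Mono (inc U) := by
  haveI : Mono (inc U).left := (inferInstance : Mono U.ι)
  exact Over.mono_of_mono_left _

theorem inc_mem (u : (Over.mk (U.ι ≫ X.hom)).left) : (inc U).left u ∈ (U : Set X.left) := by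
  rw [← inc_range U]; exact ⟨u, rfl⟩

theorem exists_restrict (hU : Stable a (U : Set X.left)) :
    ∃ b : AlgGrp.Action G (Over.mk (U.ι ≫ X.hom)), (G ◁ inc U) ≫ a.act = b.act ≫ inc U := by
  obtain ⟨act, hact⟩ : ∃ act : G ⊗ Over.mk (U.ι ≫ X.hom) ⟶ Over.mk (U.ι ≫ X.hom),
      act ≫ inc U = (G ◁ inc U) ≫ a.act := by
    apply lift_open
    rintro _ ⟨w', rfl⟩
    apply hU ((G ◁ inc U).left w')
    rw [← comp_pt, whiskerLeft_snd, comp_pt]
    exact inc_mem U _
  have hact_pt : ∀ {T : Over S} (g : T ⟶ G) (t : T ⟶ Over.mk (U.ι ≫ X.hom)),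
      (lift g t ≫ act) ≫ inc U = lift g (t ≫ inc U) ≫ a.act := by
    intro T g t
    rw [Category.assoc, hact, ← Category.assoc, lift_whiskerLeft]
  have hone : ∀ (T : Over S) (t : T ⟶ Over.mk (U.ι ≫ X.hom)),
      lift (1 : T ⟶ G) t ≫ act = t := by
    intro T t
    rw [← cancel_mono (inc U), hact_pt, act_one' a]
  have hmul : ∀ (T : Over S) (g h : T ⟶ G) (t : T ⟶ Over.mk (U.ι ≫ X.hom)),
      lift (g * h) t ≫ act = lift g (lift h t ≫ act) ≫ act := by
    intro T g h t
    rw [← cancel_mono (inc U), hact_pt, hact_pt, hact_pt, act_mul' a]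
  exact ⟨actionOfPointwise act hone hmul, hact.symm⟩

theorem stable_of_restrict (b : AlgGrp.Action G (Over.mk (U.ι ≫ X.hom)))
    (hb : (G ◁ inc U) ≫ a.act = b.act ≫ inc U) : Stable a (U : Set X.left) := by
  intro w hw
  rw [← inc_range U] at hw ⊢
  obtain ⟨u, hu⟩ := hw
  have sq : IsPullback (G ◁ inc U).left (snd G (Over.mk (U.ι ≫ X.hom))).left (snd G X).left
      (inc U).left := Groth.Agent.Lib.FinGrpSplit.isPullback_whiskerLeft G (inc U)
  obtain ⟨w', hw'1, hw'2⟩ := exists_of_isPullback sq w u hu.symm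
  refine ⟨b.act.left w', ?_⟩
  show (inc U).left (b.act.left w') = a.act.left w
  rw [← comp_pt, ← hb, comp_pt, hw'1]

/-- `U × U → X × X` -/
noncomputable def JJ : Over.mk (U.ι ≫ X.hom) ⊗ Over.mk (U.ι ≫ X.hom) ⟶ X ⊗ X :=
  (Over.mk (U.ι ≫ X.hom) ◁ inc U) ≫ (inc U ▷ X)

theorem JJ_fst : JJ U ≫ fst X X = fst _ _ ≫ inc U := by
  unfold JJ; rw [Category.assoc, whiskerRight_fst, whiskerLeft_fst_assoc]

theorem JJ_snd : JJ U ≫ snd X X = snd _ _ ≫ inc U := by
  unfold JJ; rw [Category.assoc, whiskerRight_snd, whiskerLeft_snd]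

instance : Mono (JJ U) := by
  refine ⟨fun {T} c c' h => ?_⟩
  apply CartesianMonoidalCategory.hom_ext
  · rw [← cancel_mono (inc U)]
    have := congrArg (fun t => t ≫ fst X X) h
    simpa only [Category.assoc, JJ_fst] using this
  · rw [← cancel_mono (inc U)]
    have := congrArg (fun t => t ≫ snd X X) h
    simpa only [Category.assoc, JJ_snd] using this

theorem Gam_JJ (b : AlgGrp.Action G (Over.mk (U.ι ≫ X.hom)))
    (hb : (G ◁ inc U) ≫ a.act = b.act ≫ inc U) :
    lift (snd G (Over.mk (U.ι ≫ X.hom))) b.act ≫ JJ U = (G ◁ inc U) ≫ Gam a := by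
  apply CartesianMonoidalCategory.hom_ext
  · rw [Category.assoc, JJ_fst, lift_fst_assoc, Category.assoc, Gam_fst, whiskerLeft_snd]
  · rw [Category.assoc, JJ_snd, lift_snd_assoc, Category.assoc, Gam_snd, hb]

/-- points of `X × X` with both coordinates in `U` come from `U × U` -/
theorem mem_range_JJ (p : (X ⊗ X).left) (h1 : (fst X X).left p ∈ (U : Set X.left))
    (h2 : (snd X X).left p ∈ (U : Set X.left)) : p ∈ Set.range (JJ U).left := by
  rw [← inc_range U] at h1 h2
  obtain ⟨u₁, hu₁⟩ := h1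
  obtain ⟨u₂, hu₂⟩ := h2
  have s1 : IsPullback (inc U ▷ X).left (fst (Over.mk (U.ι ≫ X.hom)) X).left (fst X X).left
      (inc U).left := (sq_whiskerRight (inc U) X).map (Over.forget _)
  obtain ⟨p₁, hp₁a, hp₁b⟩ := exists_of_isPullback s1 p u₁ hu₁.symm
  have s2 : IsPullback (Over.mk (U.ι ≫ X.hom) ◁ inc U).left
      (snd (Over.mk (U.ι ≫ X.hom)) (Over.mk (U.ι ≫ X.hom))).left
      (snd (Over.mk (U.ι ≫ X.hom)) X).left (inc U).left :=
    Groth.Agent.Lib.FinGrpSplit.isPullback_whiskerLeft (Over.mk (U.ι ≫ X.hom)) (inc U)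
  have h3 : (snd (Over.mk (U.ι ≫ X.hom)) X).left p₁ = (inc U).left u₂ := by
    have e : (snd X X).left ((inc U ▷ X).left p₁) = (snd (Over.mk (U.ι ≫ X.hom)) X).left p₁ := by
      rw [← comp_pt, whiskerRight_snd]
    rw [← e, hp₁a]; exact hu₂.symm
  obtain ⟨p', hp'a, hp'b⟩ := exists_of_isPullback s2 p₁ u₂ h3
  refine ⟨p', ?_⟩
  show (JJ U).left p' = p
  unfold JJ
  rw [comp_pt, hp'a, hp₁a]

end openpart

end general

section field

variable {k : Type u} [Field k] {G X : Over (Spec (CommRingCat.of k))} [GrpObj G]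
  (a : AlgGrp.Action G X)

theorem exists_triple [LocallyOfFiniteType X.hom] [GeometricallyIntegral X.hom]
    (W : Set (X ⊗ X).left) (hWo : IsOpen W) (p : (X ⊗ X).left)
    (h1 : (fst X X).left p ∈ (fst X X).left '' W)
    (h2 : (snd X X).left p ∈ (fst X X).left '' W) :
    ∃ n : ((X ⊗ X) ⊗ X).left, (fst (X ⊗ X) X).left n = p ∧ (p13 X).left n ∈ W ∧
      (p23 X).left n ∈ W := by
  haveI : IsNoetherianRing (CommRingCat.of k) := inferInstanceAs (IsNoetherianRing k)
  haveI : LocallyOfFinitePresentation X.hom := inferInstance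
  haveI : UniversallyOpen X.hom := inferInstance
  haveI : GeometricallyIrreducible X.hom := inferInstance
  obtain ⟨T, pT, hTirr, hpT⟩ : ∃ (T : Over (Spec (CommRingCat.of k))) (pT : T ⟶ X ⊗ X),
      IrreducibleSpace T.left ∧ ∀ t : T.left, pT.left t = p := by
    refine ⟨Over.mk ((X ⊗ X).left.fromSpecResidueField p ≫ (X ⊗ X).hom),
      Over.homMk ((X ⊗ X).left.fromSpecResidueField p) rfl, ?_, ?_⟩
    · show IrreducibleSpace ↥(Spec ((X ⊗ X).left.residueField p))
      infer_instance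
    · intro t
      exact Scheme.fromSpecResidueField_apply _ t
  haveI := hTirr
  haveI : IrreducibleSpace (T ⊗ X).left :=
    (inferInstance : IrreducibleSpace ↥(pullback T.hom X.hom))
  obtain ⟨t₀⟩ : Nonempty T.left := inferInstance
  obtain ⟨wp, hwpW, hwp⟩ := h1
  obtain ⟨wq, hwqW, hwq⟩ := h2
  obtain ⟨xT, hxT⟩ : ∃ xT : T ⟶ X, xT = pT ≫ fst X X := ⟨_, rfl⟩
  obtain ⟨yT, hyT⟩ : ∃ yT : T ⟶ X, yT = pT ≫ snd X X := ⟨_, rfl⟩
  have sα : IsPullback (xT ▷ X).left (fst T X).left (fst X X).left xT.left :=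
    (sq_whiskerRight xT X).map (Over.forget _)
  have sβ : IsPullback (yT ▷ X).left (fst T X).left (fst X X).left yT.left :=
    (sq_whiskerRight yT X).map (Over.forget _)
  obtain ⟨r₁, hr₁, -⟩ := exists_of_isPullback sα wp t₀ (by rw [hwp, hxT, comp_pt, hpT])
  obtain ⟨r₂, hr₂, -⟩ := exists_of_isPullback sβ wq t₀ (by rw [hwq, hyT, comp_pt, hpT])
  have hA : IsOpen ((xT ▷ X).left ⁻¹' W) := hWo.preimage (xT ▷ X).left.continuous
  have hB : IsOpen ((yT ▷ X).left ⁻¹' W) := hWo.preimage (yT ▷ X).left.continuous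
  obtain ⟨q, hqA, hqB⟩ := nonempty_preirreducible_inter hA hB
    ⟨r₁, by show (xT ▷ X).left r₁ ∈ W; rw [hr₁]; exact hwpW⟩
    ⟨r₂, by show (yT ▷ X).left r₂ ∈ W; rw [hr₂]; exact hwqW⟩
  obtain ⟨ν, hν⟩ : ∃ ν : T ⊗ X ⟶ (X ⊗ X) ⊗ X, ν = lift (fst T X ≫ pT) (snd T X) := ⟨_, rfl⟩
  have e12 : ν ≫ fst (X ⊗ X) X = fst T X ≫ pT := by rw [hν, lift_fst]
  have e13 : ν ≫ p13 X = xT ▷ X := by
    rw [hν, pt_p13, hxT]
    apply CartesianMonoidalCategory.hom_ext
    · rw [lift_fst, whiskerRight_fst, Category.assoc]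
    · rw [lift_snd, whiskerRight_snd]
  have e23 : ν ≫ p23 X = yT ▷ X := by
    rw [hν, pt_p23, hyT]
    apply CartesianMonoidalCategory.hom_ext
    · rw [lift_fst, whiskerRight_fst, Category.assoc]
    · rw [lift_snd, whiskerRight_snd]
  refine ⟨ν.left q, ?_, ?_, ?_⟩
  · rw [← comp_pt, e12, comp_pt, hpT]
  · rw [← comp_pt, e13]; exact hqA
  · rw [← comp_pt, e23]; exact hqB

theorem sub_of_homog (U : X.left.Opens) (b : AlgGrp.Action G (Over.mk (U.ι ≫ X.hom)))
    (hb : (G ◁ inc U) ≫ a.act = b.act ≫ inc U)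
    (hsurj : Surjective (lift (snd G (Over.mk (U.ι ≫ X.hom))) b.act).left)
    (U' : Set X.left) (hU' : Stable a U') (p : X.left) (hpU : p ∈ (U : Set X.left))
    (hpU' : p ∈ U') : (U : Set X.left) ⊆ U' := by
  intro q hq
  rw [← inc_range U] at hpU hq
  obtain ⟨up, hup⟩ := hpU
  obtain ⟨uq, huq⟩ := hq
  obtain ⟨w', hw'1, hw'2⟩ := Groth.Agent.Lib.EquivFlat.exists_transl b hsurj up uq
  have h := hU' ((G ◁ inc U).left w') (by
    rw [← comp_pt, whiskerLeft_snd, comp_pt, hw'1]
    show (inc U).left up ∈ U'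
    rw [show (inc U).left up = p from hup]; exact hpU')
  rw [← comp_pt, hb, comp_pt, hw'2] at h
  rw [← show (inc U).left uq = q from huq]; exact h

theorem main14638 [Smooth G.hom] [QuasiCompact G.hom]
    [LocallyOfFiniteType X.hom] [QuasiCompact X.hom] [GeometricallyIntegral X.hom] :
    (IsDominant (lift (snd G X) a.act).left ↔
      ∃ U : X.left.Opens, (U : Set ↥X.left).Nonempty ∧
        ∃ b : AlgGrp.Action G (Over.mk (U.ι ≫ X.hom)),
          (G ◁ (Over.homMk U.ι rfl : Over.mk (U.ι ≫ X.hom) ⟶ X)) ≫ a.act =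
              b.act ≫ Over.homMk U.ι rfl ∧
          Surjective (lift (snd G (Over.mk (U.ι ≫ X.hom))) b.act).left) ∧
    ∀ U U' : X.left.Opens,
      ((U : Set ↥X.left).Nonempty ∧ ∃ b : AlgGrp.Action G (Over.mk (U.ι ≫ X.hom)),
          (G ◁ (Over.homMk U.ι rfl : Over.mk (U.ι ≫ X.hom) ⟶ X)) ≫ a.act =
              b.act ≫ Over.homMk U.ι rfl ∧
          Surjective (lift (snd G (Over.mk (U.ι ≫ X.hom))) b.act).left) →
      ((U' : Set ↥X.left).Nonempty ∧ ∃ b' : AlgGrp.Action G (Over.mk (U'.ι ≫ X.hom)),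
          (G ◁ (Over.homMk U'.ι rfl : Over.mk (U'.ι ≫ X.hom) ⟶ X)) ≫ a.act =
              b'.act ≫ Over.homMk U'.ι rfl ∧
          Surjective (lift (snd G (Over.mk (U'.ι ≫ X.hom))) b'.act).left) →
      U = U' := by
  haveI : LocallyOfFiniteType G.hom := inferInstance
  haveI hsub : Subsingleton ↥(Spec (CommRingCat.of k)) :=
    inferInstanceAs (Subsingleton (PrimeSpectrum k))
  haveI : IsNoetherianRing (CommRingCat.of k) := inferInstanceAs (IsNoetherianRing k)
  haveI : IsDomain (CommRingCat.of k) := inferInstanceAs (IsDomain k)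
  haveI : IsIntegral (Spec (CommRingCat.of k)) := inferInstance
  haveI : LocallyOfFinitePresentation X.hom := inferInstance
  haveI : UniversallyOpen X.hom := inferInstance
  haveI : GeometricallyIrreducible X.hom := inferInstance
  haveI : IsIntegral X.left := GeometricallyIntegral.isIntegral_of_subsingleton X.hom
  haveI : IrreducibleSpace (X ⊗ X).left :=
    (inferInstance : IrreducibleSpace ↥(pullback X.hom X.hom))
  -- finiteness
  haveI : LocallyOfFiniteType (fst G X).left :=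
    (inferInstance : LocallyOfFiniteType (pullback.fst G.hom X.hom))
  haveI : QuasiCompact (fst G X).left :=
    (inferInstance : QuasiCompact (pullback.fst G.hom X.hom))
  haveI : LocallyOfFiniteType (G ⊗ X).hom := by rw [← Over.w (fst G X)]; infer_instance
  haveI : QuasiCompact (G ⊗ X).hom := by rw [← Over.w (fst G X)]; infer_instance
  haveI : LocallyOfFiniteType (fst X X).left :=
    (inferInstance : LocallyOfFiniteType (pullback.fst X.hom X.hom))
  haveI : QuasiCompact (fst X X).left :=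
    (inferInstance : QuasiCompact (pullback.fst X.hom X.hom))
  haveI : LocallyOfFiniteType (X ⊗ X).hom := by rw [← Over.w (fst X X)]; infer_instance
  haveI : QuasiCompact (X ⊗ X).hom := by rw [← Over.w (fst X X)]; infer_instance
  haveI : IsNoetherian (G ⊗ X).left := isNoetherian_of_ft (G ⊗ X)
  haveI : IsNoetherian (X ⊗ X).left := isNoetherian_of_ft (X ⊗ X)
  have hGam : lift (snd G X) a.act = Gam a := rfl
  rw [hGam]
  have key : ∀ U : X.left.Opens, (Over.homMk U.ι rfl : Over.mk (U.ι ≫ X.hom) ⟶ X) = inc U :=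
    fun U => rfl
  simp only [key]
  refine ⟨⟨?_, ?_⟩, ?_⟩
  · -- dominant ⇒ open orbit
    intro hdom
    have hdense : closure (Set.range (Gam a).left) = Set.univ := hdom.denseRange.closure_eq
    haveI : LocallyOfFiniteType (Gam a).left := lft_hom (Gam a)
    haveI : LocallyOfFinitePresentation (Gam a).left := inferInstance
    haveI : QuasiCompact (Gam a).left := quasiCompact_of_noetherianSpace_source _
    have hc : IsConstructible (Set.range (Gam a).left) := by
      rw [← Set.image_univ]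
      exact (Gam a).left.isConstructible_image IsConstructible.univ
    have hIne : (Set.range (Gam a).left).Nonempty := by
      by_contra h
      rw [Set.not_nonempty_iff_eq_empty] at h
      rw [h, closure_empty] at hdense
      exact Set.empty_ne_univ hdense
    obtain ⟨U₀, hU₀o, hU₀ne, hU₀sub⟩ :=
      (Groth.Agent.Lib.ConstrNF.finLC_of_isConstructible hc).exists_open hIne
    rw [hdense, Set.univ_inter] at hU₀ne hU₀sub
    obtain ⟨W, hW⟩ : ∃ W : Set (X ⊗ X).left, W = interior (Set.range (Gam a).left) := ⟨_, rfl⟩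
    have hWo : IsOpen W := by rw [hW]; exact isOpen_interior
    have hWI : W ⊆ Set.range (Gam a).left := by rw [hW]; exact interior_subset
    have hWne : W.Nonempty := by
      rw [hW]; exact hU₀ne.mono (interior_maximal hU₀sub hU₀o)
    have hopen : IsOpenMap (snd G (X ⊗ X)).left := by
      haveI : UniversallyOpen G.hom := inferInstance
      haveI : UniversallyOpen (pullback.snd G.hom (X ⊗ X).hom) := inferInstance
      exact (pullback.snd G.hom (X ⊗ X).hom).isOpenMap
    have hWst : Stable (a1 a) W := by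
      rw [hW]; exact stable_interior (a1 a) hopen (stable_I a)
    have hfo : IsOpenMap (fst X X).left := by
      haveI : UniversallyOpen (pullback.fst X.hom X.hom) := inferInstance
      exact (pullback.fst X.hom X.hom).isOpenMap
    obtain ⟨U, hU⟩ : ∃ U : X.left.Opens, (U : Set X.left) = (fst X X).left '' W :=
      ⟨⟨(fst X X).left '' W, hfo _ hWo⟩, rfl⟩
    have hUst : Stable a (U : Set X.left) := by rw [hU]; exact stable_fst_image a hWst
    obtain ⟨b, hb⟩ := exists_restrict a U hUst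
    refine ⟨U, by rw [hU]; exact hWne.image _, b, hb, ⟨fun p' => ?_⟩⟩
    obtain ⟨p, hp⟩ : ∃ p, p = (JJ U).left p' := ⟨_, rfl⟩
    have h1 : (fst X X).left p ∈ (fst X X).left '' W := by
      rw [← hU, hp, ← comp_pt, JJ_fst, comp_pt]; exact inc_mem U _
    have h2 : (snd X X).left p ∈ (fst X X).left '' W := by
      rw [← hU, hp, ← comp_pt, JJ_snd, comp_pt]; exact inc_mem U _
    obtain ⟨n, hn1, hn2, hn3⟩ := exists_triple W hWo p h1 h2
    have hpI : p ∈ Set.range (Gam a).left := by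
      rw [← hn1]; exact trans_pt a n (hWI hn2) (hWI hn3)
    obtain ⟨w, hw⟩ := hpI
    have h3 : (snd G X).left w = (inc U).left
        ((fst (Over.mk (U.ι ≫ X.hom)) (Over.mk (U.ι ≫ X.hom))).left p') := by
      rw [← comp_pt (fst (Over.mk (U.ι ≫ X.hom)) (Over.mk (U.ι ≫ X.hom))) (inc U), ← JJ_fst,
        comp_pt, ← hp, ← hw, ← comp_pt, Gam_fst]
    have sq : IsPullback (G ◁ inc U).left (snd G (Over.mk (U.ι ≫ X.hom))).left (snd G X).left
        (inc U).left := Groth.Agent.Lib.FinGrpSplit.isPullback_whiskerLeft G (inc U)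
    obtain ⟨w', hw'1, hw'2⟩ := exists_of_isPullback sq w _ h3
    refine ⟨w', ?_⟩
    apply (JJ U).left.injective
    rw [← comp_pt, Gam_JJ a U b hb, comp_pt, hw'1, hw, hp]
  · -- open orbit ⇒ dominant
    rintro ⟨U, ⟨u, hu⟩, b, hb, hsurj⟩
    refine ⟨dense_iff_inter_open.mpr fun N hN hNne => ?_⟩
    have hA : IsOpen ((fst X X).left ⁻¹' (U : Set X.left)) :=
      U.isOpen.preimage (fst X X).left.continuous
    have hB : IsOpen ((snd X X).left ⁻¹' (U : Set X.left)) :=
      U.isOpen.preimage (snd X X).left.continuous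
    have hABne : ((fst X X).left ⁻¹' (U : Set X.left) ∩
        (snd X X).left ⁻¹' (U : Set X.left)).Nonempty := by
      refine ⟨(lift (𝟙 X) (𝟙 X)).left u, ?_, ?_⟩
      · show (fst X X).left ((lift (𝟙 X) (𝟙 X)).left u) ∈ (U : Set X.left)
        rw [← comp_pt, lift_fst]; exact hu
      · show (snd X X).left ((lift (𝟙 X) (𝟙 X)).left u) ∈ (U : Set X.left)
        rw [← comp_pt, lift_snd]; exact hu
    obtain ⟨p, hpN, hpA, hpB⟩ := nonempty_preirreducible_inter hN (hA.inter hB) hNne hABne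
    obtain ⟨p', hp'⟩ := mem_range_JJ U p hpA hpB
    obtain ⟨w', hw'⟩ := hsurj.surj p'
    refine ⟨p, hpN, (G ◁ inc U).left w', ?_⟩
    rw [← comp_pt, ← Gam_JJ a U b hb, comp_pt, hw', hp']
  · -- uniqueness
    rintro U U' ⟨⟨u, hu⟩, b, hb, hsurj⟩ ⟨⟨u', hu'⟩, b', hb', hsurj'⟩
    have hst : Stable a (U : Set X.left) := stable_of_restrict a U b hb
    have hst' : Stable a (U' : Set X.left) := stable_of_restrict a U' b' hb'
    obtain ⟨p, hpU, hpU'⟩ := nonempty_preirreducible_inter U.isOpen U'.isOpen ⟨u, hu⟩ ⟨u', hu'⟩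
    apply SetLike.coe_injective
    exact Set.Subset.antisymm (sub_of_homog a U b hb hsurj _ hst' p hpU hpU')
      (sub_of_homog a U' b' hb' hsurj' _ hst p hpU' hpU)

end field

end Groth.Agent.Lib.AlmostHomog
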