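import Mathlib

set_option autoImplicit false
universe u

namespace Groth.Agent.Lib.FormalChar

variable {A : Type u} [CommRing A]

lemma fin2_ext {e f : Fin 2 →₀ ℕ} (h0 : e 0 = f 0) (h1 : e 1 = f 1) : e = f := by
  ext i; fin_cases i <;> assumption

lemma coeff_add_pow (e : Fin 2 →₀ ℕ) (d : ℕ) :
    MvPowerSeries.coeff e
        ((MvPowerSeries.X 0 + MvPowerSeries.X 1 : MvPowerSeries (Fin 2) A) ^ d) =
      if e 0 + e 1 = d then ((d.choose (e 0) : ℕ) : A) else 0 := by
  classical
  rw [add_pow, map_sum]
  have hterm : ∀ m ∈ Finset.range (d+1),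
      MvPowerSeries.coeff e ((MvPowerSeries.X 0 : MvPowerSeries (Fin 2) A) ^ m *
        MvPowerSeries.X 1 ^ (d - m) * ((d.choose m : ℕ) : MvPowerSeries (Fin 2) A)) =
        if e = Finsupp.single 0 m + Finsupp.single 1 (d - m) then ((d.choose m : ℕ) : A)
          else 0 := by
    intro m _
    rw [MvPowerSeries.X_pow_eq, MvPowerSeries.X_pow_eq, MvPowerSeries.monomial_mul_monomial,
      one_mul, ← map_natCast (MvPowerSeries.C (σ := Fin 2) (R := A)), MvPowerSeries.coeff_mul_C,
      MvPowerSeries.coeff_monomial]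
    split_ifs <;> simp
  rw [Finset.sum_congr rfl hterm]
  split_ifs with h
  · rw [Finset.sum_eq_single (e 0)]
    · rw [if_pos]
      apply fin2_ext <;> simp <;> omega
    · intro m _ hm
      rw [if_neg]
      intro he
      apply hm
      have := DFunLike.congr_fun he 0
      simp at this
      omega
    · intro hn
      exfalso; apply hn; simp; omega
  · apply Finset.sum_eq_zero
    intro m hm
    rw [if_neg]
    intro he
    apply h
    have h0 := DFunLike.congr_fun he 0
    have h1 := DFunLike.congr_fun he 1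
    simp at h0 h1 hm
    omega

lemma coeff_subst_add (χ : PowerSeries A) (e : Fin 2 →₀ ℕ) :
    MvPowerSeries.coeff e (PowerSeries.subst
        (MvPowerSeries.X 0 + MvPowerSeries.X 1 : MvPowerSeries (Fin 2) A) χ) =
      PowerSeries.coeff (e 0 + e 1) χ * (((e 0 + e 1).choose (e 0) : ℕ) : A) := by
  have ha : PowerSeries.HasSubst
      (MvPowerSeries.X 0 + MvPowerSeries.X 1 : MvPowerSeries (Fin 2) A) :=
    (PowerSeries.HasSubst.X 0).add (PowerSeries.HasSubst.X 1)
  rw [PowerSeries.coeff_subst ha, finsum_eq_single _ (e 0 + e 1)]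
  · rw [coeff_add_pow, if_pos rfl, smul_eq_mul]
  · intro d hd
    rw [coeff_add_pow, if_neg (Ne.symm hd), smul_zero]

lemma coeff_subst_mul (χ ψ : PowerSeries A) (e : Fin 2 →₀ ℕ) :
    MvPowerSeries.coeff e (PowerSeries.subst (MvPowerSeries.X 0 : MvPowerSeries (Fin 2) A) χ *
      PowerSeries.subst (MvPowerSeries.X 1 : MvPowerSeries (Fin 2) A) ψ) =
      PowerSeries.coeff (e 0) χ * PowerSeries.coeff (e 1) ψ := by
  classical
  rw [MvPowerSeries.coeff_mul,
    Finset.sum_eq_single (Finsupp.single 0 (e 0), Finsupp.single 1 (e 1))]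
  · rw [PowerSeries.coeff_subst_single, PowerSeries.coeff_subst_single]
    simp
  · rintro ⟨p, q⟩ hpq hne
    rw [Finset.HasAntidiagonal.mem_antidiagonal] at hpq
    simp only at hpq
    rw [PowerSeries.coeff_subst_single, PowerSeries.coeff_subst_single]
    by_cases hp : p = Finsupp.single 0 (p 0)
    · by_cases hq : q = Finsupp.single 1 (q 1)
      · exfalso; apply hne
        have hq0 : q 0 = 0 := by
          have := DFunLike.congr_fun hq 0
          simpa using this
        have hp1 : p 1 = 0 := by
          have := DFunLike.congr_fun hp 1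
          simpa using this
        have h0 : e 0 = p 0 := by
          have := DFunLike.congr_fun hpq 0
          simp at this; omega
        have h1 : e 1 = q 1 := by
          have := DFunLike.congr_fun hpq 1
          simp at this; omega
        rw [h0, h1, ← hp, ← hq]
      · simp only [] 
        rw [if_neg hq, mul_zero]
    · simp only []
      rw [if_neg hp, zero_mul]
  · intro hn
    exfalso; apply hn
    rw [Finset.HasAntidiagonal.mem_antidiagonal]
    apply fin2_ext <;> simp

lemma fe_iff (χ : PowerSeries A) :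
    PowerSeries.subst (MvPowerSeries.X 0 + MvPowerSeries.X 1 : MvPowerSeries (Fin 2) A) χ =
        PowerSeries.subst (MvPowerSeries.X 0 : MvPowerSeries (Fin 2) A) χ *
          PowerSeries.subst (MvPowerSeries.X 1 : MvPowerSeries (Fin 2) A) χ ↔
    ∀ i j : ℕ, PowerSeries.coeff (i + j) χ * (((i + j).choose i : ℕ) : A) =
      PowerSeries.coeff i χ * PowerSeries.coeff j χ := by
  constructor
  · intro h i j
    have := congrArg (MvPowerSeries.coeff (Finsupp.single 0 i + Finsupp.single 1 j)) h
    rw [coeff_subst_add, coeff_subst_mul] at this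
    simpa using this
  · intro h
    ext e
    rw [coeff_subst_add, coeff_subst_mul]
    exact h (e 0) (e 1)

theorem main (A : Type u) [CommRing A] [Algebra ℚ A] (χ : PowerSeries A) :
    (PowerSeries.constantCoeff χ = 1 ∧
      PowerSeries.subst (MvPowerSeries.X 0 + MvPowerSeries.X 1 : MvPowerSeries (Fin 2) A) χ =
        PowerSeries.subst (MvPowerSeries.X 0 : MvPowerSeries (Fin 2) A) χ *
          PowerSeries.subst (MvPowerSeries.X 1 : MvPowerSeries (Fin 2) A) χ) ↔
      ∃ a : A, χ = PowerSeries.rescale a (PowerSeries.exp A) := by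
  rw [fe_iff]
  constructor
  · rintro ⟨h0, h⟩
    refine ⟨PowerSeries.coeff 1 χ, ?_⟩
    ext n
    rw [PowerSeries.coeff_rescale, PowerSeries.coeff_exp]
    induction n with
    | zero =>
      rw [PowerSeries.coeff_zero_eq_constantCoeff_apply, h0]; simp
    | succ n ih =>
      have h1 := h n 1
      rw [Nat.choose_succ_self_right, ih] at h1
      have hinv : ((n + 1 : ℕ) : A) * algebraMap ℚ A (1 / ((n+1 : ℕ) : ℚ)) = 1 := by
        rw [← map_natCast (algebraMap ℚ A), ← map_mul, mul_one_div_cancel, map_one]
        exact_mod_cast Nat.succ_ne_zero n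
      have hfac : algebraMap ℚ A (1 / ((n+1).factorial : ℚ)) =
          algebraMap ℚ A (1 / (n.factorial : ℚ)) * algebraMap ℚ A (1 / ((n+1 : ℕ) : ℚ)) := by
        rw [← map_mul]; congr 1
        have hn : (n.factorial : ℚ) ≠ 0 := by exact_mod_cast n.factorial_ne_zero
        have hn1 : ((n + 1 : ℕ) : ℚ) ≠ 0 := by exact_mod_cast Nat.succ_ne_zero n
        rw [Nat.factorial_succ]; push_cast; field_simp
      calc PowerSeries.coeff (n+1) χ
          = PowerSeries.coeff (n+1) χ * ((n+1 : ℕ) : A) *
              algebraMap ℚ A (1 / ((n+1 : ℕ) : ℚ)) := by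
            rw [mul_assoc, hinv, mul_one]
        _ = _ := by
            rw [h1, pow_succ, hfac]; ring
  · rintro ⟨a, rfl⟩
    refine ⟨?_, fun i j => ?_⟩
    · rw [← PowerSeries.coeff_zero_eq_constantCoeff_apply, PowerSeries.coeff_rescale,
        PowerSeries.coeff_exp]; simp
    · simp only [PowerSeries.coeff_rescale, PowerSeries.coeff_exp]
      have key : algebraMap ℚ A (1 / ((i+j).factorial : ℚ)) * (((i+j).choose i : ℕ) : A) =
          algebraMap ℚ A (1 / (i.factorial : ℚ)) * algebraMap ℚ A (1 / (j.factorial : ℚ)) := by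
        rw [← map_natCast (algebraMap ℚ A), ← map_mul, ← map_mul]
        congr 1
        have := Nat.add_choose_mul_factorial_mul_factorial i j
        rw [← Nat.choose_symm_add] at this
        have hq : (((i+j).choose i : ℕ) : ℚ) * (i.factorial : ℚ) * (j.factorial : ℚ) =
            ((i+j).factorial : ℚ) := by exact_mod_cast this
        have hi : (i.factorial : ℚ) ≠ 0 := by exact_mod_cast i.factorial_ne_zero
        have hj : (j.factorial : ℚ) ≠ 0 := by exact_mod_cast j.factorial_ne_zero
        have hij : ((i+j).factorial : ℚ) ≠ 0 := by exact_mod_cast (i+j).factorial_ne_zero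
        field_simp
        first | linear_combination hq | linear_combination -hq
      calc _ = a^(i+j) * (algebraMap ℚ A (1 / ((i+j).factorial : ℚ)) *
            (((i+j).choose i : ℕ) : A)) := by ring
        _ = _ := by rw [key, pow_add]; ring

lemma coe_aeval (f : Polynomial A) (x : MvPolynomial (Fin 2) A) :
    ((Polynomial.aeval x f : MvPolynomial (Fin 2) A) : MvPowerSeries (Fin 2) A) =
      Polynomial.aeval (x : MvPowerSeries (Fin 2) A) f := by
  have h := Polynomial.hom_eval₂ f (algebraMap A (MvPolynomial (Fin 2) A))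
    (MvPolynomial.coeToMvPowerSeries.ringHom) x
  simp only [MvPolynomial.coeToMvPowerSeries.ringHom_apply] at h
  rw [Polynomial.aeval_def, Polynomial.aeval_def, h]
  congr 1
  refine RingHom.ext fun a => ?_
  simp [MvPowerSeries.algebraMap_apply]

lemma poly_fe_iff (f : Polynomial A) :
    (Polynomial.aeval (MvPolynomial.X 0 + MvPolynomial.X 1 : MvPolynomial (Fin 2) A) f =
        Polynomial.aeval (MvPolynomial.X 0 : MvPolynomial (Fin 2) A) f *
          Polynomial.aeval (MvPolynomial.X 1 : MvPolynomial (Fin 2) A) f) ↔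
    PowerSeries.subst (MvPowerSeries.X 0 + MvPowerSeries.X 1 : MvPowerSeries (Fin 2) A)
        (f : PowerSeries A) =
        PowerSeries.subst (MvPowerSeries.X 0 : MvPowerSeries (Fin 2) A) (f : PowerSeries A) *
          PowerSeries.subst (MvPowerSeries.X 1 : MvPowerSeries (Fin 2) A) (f : PowerSeries A) := by
  rw [← MvPolynomial.coe_inj (R := A), MvPolynomial.coe_mul, coe_aeval, coe_aeval, coe_aeval,
    MvPolynomial.coe_add, MvPolynomial.coe_X, MvPolynomial.coe_X,
    PowerSeries.subst_coe ((PowerSeries.HasSubst.X 0).add (PowerSeries.HasSubst.X 1)),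
    PowerSeries.subst_coe (PowerSeries.HasSubst.X 0),
    PowerSeries.subst_coe (PowerSeries.HasSubst.X 1)]

theorem main2 (A : Type u) [CommRing A] [Algebra ℚ A] (f : Polynomial A) :
    (f.eval 0 = 1 ∧
      Polynomial.aeval (MvPolynomial.X 0 + MvPolynomial.X 1 : MvPolynomial (Fin 2) A) f =
        Polynomial.aeval (MvPolynomial.X 0 : MvPolynomial (Fin 2) A) f *
          Polynomial.aeval (MvPolynomial.X 1 : MvPolynomial (Fin 2) A) f) ↔
      ∃ a : A, IsNilpotent a ∧ (f : PowerSeries A) = PowerSeries.rescale a (PowerSeries.exp A) := by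
  rw [poly_fe_iff, ← Polynomial.coeff_zero_eq_eval_zero, ← Polynomial.constantCoeff_coe, main]
  constructor
  · rintro ⟨a, ha⟩
    refine ⟨a, ⟨f.natDegree + 1, ?_⟩, ha⟩
    have h1 := congrArg (PowerSeries.coeff (f.natDegree + 1)) ha
    rw [Polynomial.coeff_coe, Polynomial.coeff_eq_zero_of_natDegree_lt (Nat.lt_succ_self _),
      PowerSeries.coeff_rescale, PowerSeries.coeff_exp] at h1
    have hinv : algebraMap ℚ A (1 / ((f.natDegree + 1).factorial : ℚ)) *
        algebraMap ℚ A ((f.natDegree + 1).factorial : ℚ) = 1 := by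
      rw [← map_mul, one_div_mul_cancel, map_one]
      exact_mod_cast (f.natDegree + 1).factorial_ne_zero
    calc a ^ (f.natDegree + 1) = a ^ (f.natDegree + 1) *
          algebraMap ℚ A (1 / ((f.natDegree + 1).factorial : ℚ)) *
          algebraMap ℚ A ((f.natDegree + 1).factorial : ℚ) := by
          rw [mul_assoc, hinv, mul_one]
      _ = 0 := by rw [← h1, zero_mul]
  · rintro ⟨a, _, ha⟩
    exact ⟨a, ha⟩

end Groth.Agent.Lib.FormalChar
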