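import Mathlib
import Groth.Agent.Lib.FormalChar_helper1

set_option autoImplicit false
universe u

namespace Groth.Agent.Lib.CharPChar

open Polynomial

variable {A : Type u} [CommRing A]

/-- additive-to-multiplicative polynomial characters -/
def IsChar (f : A[X]) : Prop :=
  f.eval 0 = 1 ∧
    Polynomial.aeval (MvPolynomial.X 0 + MvPolynomial.X 1 : MvPolynomial (Fin 2) A) f =
      Polynomial.aeval (MvPolynomial.X 0 : MvPolynomial (Fin 2) A) f *
        Polynomial.aeval (MvPolynomial.X 1 : MvPolynomial (Fin 2) A) f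

lemma isChar_iff_coeff (f : A[X]) : IsChar f ↔ f.coeff 0 = 1 ∧
    ∀ i j : ℕ, f.coeff (i + j) * (((i + j).choose i : ℕ) : A) = f.coeff i * f.coeff j := by
  unfold IsChar
  rw [FormalChar.poly_fe_iff, FormalChar.fe_iff, Polynomial.coeff_zero_eq_eval_zero]
  simp only [Polynomial.coeff_coe]

lemma IsChar.one : IsChar (1 : A[X]) := by
  refine ⟨by simp, by simp⟩

lemma IsChar.mul {f g : A[X]} (hf : IsChar f) (hg : IsChar g) : IsChar (f * g) := by
  refine ⟨by rw [Polynomial.eval_mul, hf.1, hg.1, one_mul], ?_⟩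
  rw [map_mul, map_mul, map_mul, hf.2, hg.2]; ring

lemma IsChar.apply {f : A[X]} (hf : IsChar f) (x y : MvPolynomial (Fin 2) A) :
    Polynomial.aeval (x + y) f = Polynomial.aeval x f * Polynomial.aeval y f := by
  let φ : MvPolynomial (Fin 2) A →ₐ[A] MvPolynomial (Fin 2) A := MvPolynomial.aeval ![x, y]
  have h0 : φ (MvPolynomial.X 0) = x := by simp [φ]
  have h1 : φ (MvPolynomial.X 1) = y := by simp [φ]
  have h := congrArg φ hf.2
  rw [map_mul, ← Polynomial.aeval_algHom_apply φ, ← Polynomial.aeval_algHom_apply φ,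
    ← Polynomial.aeval_algHom_apply φ, map_add, h0, h1] at h
  exact h

lemma IsChar.expand {p : ℕ} [hp : Fact p.Prime] [CharP A p] {f : A[X]} (hf : IsChar f) (n : ℕ) :
    IsChar (Polynomial.expand A (p ^ n) f) := by
  refine ⟨?_, ?_⟩
  · rw [Polynomial.expand_eval, zero_pow (pow_ne_zero n hp.out.ne_zero), hf.1]
  · rw [Polynomial.expand_aeval, Polynomial.expand_aeval, Polynomial.expand_aeval,
      add_pow_char_pow _ _ p n, hf.apply]

/-- truncated exponential -/
noncomputable def E (p : ℕ) (a : A) : A[X] :=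
  ∑ j ∈ Finset.range p,
    Polynomial.C (Ring.inverse ((j.factorial : ℕ) : A) * a ^ j) * Polynomial.X ^ j

lemma coeff_E (p : ℕ) (a : A) (n : ℕ) :
    (E p a).coeff n = if n < p then Ring.inverse ((n.factorial : ℕ) : A) * a ^ n else 0 := by
  unfold E
  rw [Polynomial.finset_sum_coeff]
  simp only [Polynomial.coeff_C_mul_X_pow]
  rw [Finset.sum_ite_eq]
  simp only [Finset.mem_range]

lemma alg_aux (F C fi fj I Ii Ij x y : A) (hI : F * I = 1) (hIi : fi * Ii = 1)
    (hIj : fj * Ij = 1) (hfac : F = C * fi * fj) :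
    I * (x * y) * C = Ii * x * (Ij * y) := by
  calc I * (x * y) * C = I * (x*y) * C * ((fi * Ii) * (fj * Ij)) := by rw [hIi, hIj]; ring
    _ = (I * (C * fi * fj)) * (Ii * x * (Ij * y)) := by ring
    _ = (F * I) * (Ii * x * (Ij * y)) := by rw [← hfac, mul_comm I F]
    _ = _ := by rw [hI, one_mul]

section CharPsec
variable {p : ℕ} [hp : Fact p.Prime] [CharP A p]

lemma isUnit_factorial {n : ℕ} (hn : n < p) :
    IsUnit ((n.factorial : ℕ) : A) := by
  rw [CharP.isUnit_natCast_iff hp.out, hp.out.dvd_factorial]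
  omega

lemma isChar_E {a : A} (ha : a ^ p = 0) : IsChar (E p a) := by
  rw [isChar_iff_coeff]
  refine ⟨?_, fun i j => ?_⟩
  · rw [coeff_E, if_pos hp.out.pos]; simp
  · simp only [coeff_E]
    by_cases hij : i + j < p
    · have hi : i < p := by omega
      have hj : j < p := by omega
      rw [if_pos hij, if_pos hi, if_pos hj]
      have hu := isUnit_factorial (A := A) hij
      have hfac : (((i+j).factorial : ℕ) : A) = (((i+j).choose i : ℕ) : A) *
          ((i.factorial : ℕ) : A) * ((j.factorial : ℕ) : A) := by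
        have := Nat.add_choose_mul_factorial_mul_factorial i j
        rw [← Nat.choose_symm_add] at this
        rw [← this]
        simp only [Nat.cast_mul]
      have hui := isUnit_factorial (A := A) hi
      have huj := isUnit_factorial (A := A) hj
      rw [pow_add]
      exact alg_aux _ _ _ _ _ _ _ _ _ (Ring.mul_inverse_cancel _ hu)
        (Ring.mul_inverse_cancel _ hui) (Ring.mul_inverse_cancel _ huj) hfac
    · rw [if_neg hij, zero_mul]
      by_cases hi : i < p
      · by_cases hj : j < p
        · rw [if_pos hi, if_pos hj]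
          have : a^i * a^j = 0 := by
            rw [← pow_add]; exact pow_eq_zero_of_le (by omega) ha
          symm
          calc Ring.inverse ((i.factorial : ℕ) : A) * a ^ i *
                (Ring.inverse ((j.factorial : ℕ) : A) * a ^ j)
              = Ring.inverse ((i.factorial : ℕ) : A) * Ring.inverse ((j.factorial : ℕ) : A) *
                (a^i * a^j) := by ring
            _ = 0 := by rw [this, mul_zero]
        · rw [if_neg hj, mul_zero]
      · rw [if_neg hi, zero_mul]

lemma pow_eq_factorial_mul {f : A[X]}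
    (h : ∀ i j : ℕ, f.coeff (i + j) * (((i + j).choose i : ℕ) : A) = f.coeff i * f.coeff j)
    (h0 : f.coeff 0 = 1) (j : ℕ) :
    f.coeff 1 ^ j = ((j.factorial : ℕ) : A) * f.coeff j := by
  induction j with
  | zero => simp [h0]
  | succ j ih =>
    have h1 := h j 1
    rw [Nat.choose_succ_self_right] at h1
    rw [pow_succ, ih, mul_assoc, ← h1, Nat.factorial_succ]
    push_cast
    ring

lemma coeff_one_pow_eq_zero {f : A[X]}
    (h : ∀ i j : ℕ, f.coeff (i + j) * (((i + j).choose i : ℕ) : A) = f.coeff i * f.coeff j)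
    (h0 : f.coeff 0 = 1) : f.coeff 1 ^ p = 0 := by
  rw [pow_eq_factorial_mul h h0,
    (CharP.cast_eq_zero_iff A p _).mpr (Nat.dvd_factorial hp.out.pos le_rfl), zero_mul]

lemma coeff_lt {f : A[X]}
    (h : ∀ i j : ℕ, f.coeff (i + j) * (((i + j).choose i : ℕ) : A) = f.coeff i * f.coeff j)
    (h0 : f.coeff 0 = 1) {n : ℕ} (hn : n < p) :
    f.coeff n = Ring.inverse ((n.factorial : ℕ) : A) * f.coeff 1 ^ n := by
  rw [pow_eq_factorial_mul h h0, Ring.inverse_mul_cancel_left _ _ (isUnit_factorial hn)]

lemma choose_add_mul_cast {n0 : ℕ} (hn0 : n0 < p) (m : ℕ) :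
    (((n0 + p * m).choose n0 : ℕ) : A) = 1 := by
  have h := Choose.choose_modEq_choose_mod_mul_choose_div_nat (n := n0 + p * m) (k := n0) (p := p)
  rw [Nat.add_mul_mod_self_left, Nat.mod_eq_of_lt hn0, Nat.add_mul_div_left _ _ hp.out.pos,
    Nat.div_eq_of_lt hn0, Nat.choose_self, Nat.choose_zero_right, mul_one] at h
  rw [CharP.natCast_eq_natCast' A p h, Nat.cast_one]

lemma coeff_add_mul {f : A[X]}
    (h : ∀ i j : ℕ, f.coeff (i + j) * (((i + j).choose i : ℕ) : A) = f.coeff i * f.coeff j)
    (h0 : f.coeff 0 = 1) {n0 : ℕ} (hn0 : n0 < p) (m : ℕ) :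
    f.coeff (n0 + p * m) =
      Ring.inverse ((n0.factorial : ℕ) : A) * f.coeff 1 ^ n0 * f.coeff (p * m) := by
  have := h n0 (p * m)
  rw [choose_add_mul_cast hn0, mul_one] at this
  rw [this, coeff_lt h h0 hn0]

lemma contract_rel {f : A[X]}
    (h : ∀ i j : ℕ, f.coeff (i + j) * (((i + j).choose i : ℕ) : A) = f.coeff i * f.coeff j) :
    ∀ i j : ℕ, (contract p f).coeff (i + j) * (((i + j).choose i : ℕ) : A) =
      (contract p f).coeff i * (contract p f).coeff j := by
  intro i j
  rw [coeff_contract hp.out.ne_zero, coeff_contract hp.out.ne_zero,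
    coeff_contract hp.out.ne_zero]
  have := h (i * p) (j * p)
  rw [← add_mul] at this
  rw [← this]
  congr 1
  rw [mul_comm (i + j) p, mul_comm i p]
  exact (CharP.natCast_eq_natCast' A p Choose.choose_mul_mul_modEq_choose_nat).symm

lemma coeff_E_mul_expand (a : A) (g : A[X]) (n : ℕ) :
    (E p a * Polynomial.expand A p g).coeff n =
      Ring.inverse (((n % p).factorial : ℕ) : A) * a ^ (n % p) * g.coeff (n / p) := by
  rw [Polynomial.coeff_mul, Finset.sum_eq_single (n % p, p * (n / p))]
  · rw [coeff_E, if_pos (Nat.mod_lt _ hp.out.pos), coeff_expand hp.out.pos,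
      if_pos (dvd_mul_right _ _), Nat.mul_div_cancel_left _ hp.out.pos]
  · rintro ⟨i, j⟩ hij hne
    rw [Finset.HasAntidiagonal.mem_antidiagonal] at hij
    simp only at hij ⊢
    rw [coeff_E, coeff_expand hp.out.pos]
    by_cases hi : i < p
    · by_cases hj : p ∣ j
      · exfalso; apply hne
        obtain ⟨k, rfl⟩ := hj
        have h1 : n % p = i := by
          rw [← hij, Nat.add_mul_mod_self_left, Nat.mod_eq_of_lt hi]
        have h2 : n / p = k := by
          rw [← hij, Nat.add_mul_div_left _ _ hp.out.pos, Nat.div_eq_of_lt hi, zero_add]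
        rw [h1, h2]
      · rw [if_neg hj, mul_zero]
    · rw [if_neg hi, zero_mul]
  · intro hn; exfalso; apply hn
    rw [Finset.HasAntidiagonal.mem_antidiagonal]
    exact Nat.mod_add_div n p

lemma eq_E_mul_expand {f : A[X]}
    (h : ∀ i j : ℕ, f.coeff (i + j) * (((i + j).choose i : ℕ) : A) = f.coeff i * f.coeff j)
    (h0 : f.coeff 0 = 1) :
    f = E p (f.coeff 1) * Polynomial.expand A p (contract p f) := by
  ext n
  rw [coeff_E_mul_expand, coeff_contract hp.out.ne_zero]
  conv_lhs => rw [← Nat.mod_add_div n p]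
  rw [coeff_add_mul h h0 (Nat.mod_lt _ hp.out.pos), mul_comm p (n / p)]

lemma exists_prod (D : ℕ) : ∀ f : A[X], f.coeff 0 = 1 →
    (∀ i j : ℕ, f.coeff (i + j) * (((i + j).choose i : ℕ) : A) = f.coeff i * f.coeff j) →
    (∀ m, p ^ D ≤ m → f.coeff m = 0) →
    ∃ (N : ℕ) (a : ℕ → A), (∀ n, a n ^ p = 0) ∧
        f = ∏ n ∈ Finset.range N, ∑ j ∈ Finset.range p,
          Polynomial.C (Ring.inverse ((j.factorial : ℕ) : A) * a n ^ j) *
            Polynomial.X ^ (j * p ^ n) := by
  induction D with
  | zero =>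
    intro f h0 h hD
    refine ⟨0, fun _ => 0, fun n => zero_pow hp.out.ne_zero, ?_⟩
    rw [Finset.range_zero, Finset.prod_empty]
    ext n
    rw [Polynomial.coeff_one]
    split_ifs with hn
    · rw [hn, h0]
    · exact hD n (by rw [pow_zero]; omega)
  | succ D ih =>
    intro f h0 h hD
    obtain ⟨N, a, ha, hprod⟩ := ih (contract p f)
      (by rw [coeff_contract hp.out.ne_zero, zero_mul, h0]) (contract_rel h) (by
        intro m hm
        rw [coeff_contract hp.out.ne_zero]
        apply hD
        rw [pow_succ]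
        exact Nat.mul_le_mul_right p hm)
    refine ⟨N + 1, fun n => if n = 0 then f.coeff 1 else a (n - 1), ?_, ?_⟩
    · intro n
      by_cases hn : n = 0
      · simp only [hn, if_true]; exact coeff_one_pow_eq_zero h h0
      · simp only [hn, if_false]; exact ha _
    · rw [Finset.prod_range_succ']
      conv_lhs => rw [eq_E_mul_expand h h0, hprod]
      rw [mul_comm (E p (f.coeff 1))]
      congr 1
      · rw [map_prod]
        refine Finset.prod_congr rfl fun n _ => ?_
        rw [map_sum]
        refine Finset.sum_congr rfl fun j _ => ?_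
        have e : (if n + 1 = 0 then f.coeff 1 else a (n + 1 - 1)) = a n := by simp
        have e2 : p * (j * p ^ n) = j * p ^ (n + 1) := by rw [pow_succ]; ring
        simp only [e]
        rw [map_mul (Polynomial.expand A p), Polynomial.expand_C, map_pow, Polynomial.expand_X, ← pow_mul, e2]
      · unfold E
        refine Finset.sum_congr rfl fun j _ => ?_
        simp

end CharPsec

theorem main (p : ℕ) [Fact p.Prime] (A : Type u) [CommRing A] [CharP A p]
    (f : Polynomial A) :
    (f.eval 0 = 1 ∧
      Polynomial.aeval (MvPolynomial.X 0 + MvPolynomial.X 1 : MvPolynomial (Fin 2) A) f =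
        Polynomial.aeval (MvPolynomial.X 0 : MvPolynomial (Fin 2) A) f *
          Polynomial.aeval (MvPolynomial.X 1 : MvPolynomial (Fin 2) A) f) ↔
      ∃ (N : ℕ) (a : ℕ → A), (∀ n, a n ^ p = 0) ∧
        f = ∏ n ∈ Finset.range N, ∑ j ∈ Finset.range p,
          Polynomial.C (Ring.inverse (j.factorial : A) * a n ^ j) * Polynomial.X ^ (j * p ^ n) := by
  have hp : p.Prime := Fact.out
  constructor
  · intro hf
    have hc := (isChar_iff_coeff f).mp hf
    exact exists_prod (f.natDegree) f hc.1 hc.2 (fun m hm =>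
      Polynomial.coeff_eq_zero_of_natDegree_lt (lt_of_lt_of_le (Nat.lt_pow_self hp.one_lt) hm))
  · rintro ⟨N, a, ha, rfl⟩
    show IsChar _
    apply Finset.prod_induction _ IsChar (fun _ _ => IsChar.mul) IsChar.one
    intro n _
    have : (∑ j ∈ Finset.range p, C (Ring.inverse ((j.factorial : ℕ) : A) * a n ^ j) *
        X ^ (j * p ^ n)) = Polynomial.expand A (p ^ n) (E p (a n)) := by
      unfold E
      rw [map_sum]
      refine Finset.sum_congr rfl fun j _ => ?_
      rw [map_mul (Polynomial.expand A (p ^ n)), Polynomial.expand_C, map_pow, Polynomial.expand_X, ← pow_mul, mul_comm j]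
    rw [this]
    exact (isChar_E (ha n)).expand n

end Groth.Agent.Lib.CharPChar
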