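import Mathlib
import Groth.Agent.Lib.CharPChar_helper1

set_option autoImplicit false
universe u

namespace Groth.Agent.AlphaPChar

open Polynomial Groth.Agent.Lib.CharPChar Groth.Agent.Lib

variable {A : Type u} [CommRing A] {p : ℕ} [hp : Fact p.Prime] [CharP A p]

/-- the bounded character relation -/
def Rel (p n : ℕ) (f : A[X]) : Prop :=
  ∀ i j : ℕ, i < p ^ n → j < p ^ n →
    f.coeff (i + j) * (((i + j).choose i : ℕ) : A) = f.coeff i * f.coeff j

omit [CharP A p] in
lemma le_pow_succ (n : ℕ) : p ≤ p ^ (n + 1) := by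
  calc p = p ^ 1 := (pow_one p).symm
    _ ≤ p ^ (n + 1) := Nat.pow_le_pow_right hp.out.pos (by omega)

omit [CharP A p] in
lemma pow_eq_factorial_mul' {f : A[X]} {n : ℕ} (h : Rel p (n + 1) f)
    (h0 : f.coeff 0 = 1) (j : ℕ) (hj : j ≤ p) :
    f.coeff 1 ^ j = ((j.factorial : ℕ) : A) * f.coeff j := by
  have hle := le_pow_succ (p := p) n
  have hp1 : 1 < p := hp.out.one_lt
  induction j with
  | zero => simp [h0]
  | succ j ih =>
    have h1 := h j 1 (by omega) (by omega)
    rw [Nat.choose_succ_self_right] at h1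
    rw [pow_succ, ih (by omega), mul_assoc, ← h1, Nat.factorial_succ]
    push_cast
    ring

lemma coeff_one_pow_eq_zero' {f : A[X]} {n : ℕ} (h : Rel p (n + 1) f)
    (h0 : f.coeff 0 = 1) : f.coeff 1 ^ p = 0 := by
  rw [pow_eq_factorial_mul' h h0 p le_rfl,
    (CharP.cast_eq_zero_iff A p _).mpr (Nat.dvd_factorial hp.out.pos le_rfl), zero_mul]

lemma coeff_lt' {f : A[X]} {n : ℕ} (h : Rel p (n + 1) f)
    (h0 : f.coeff 0 = 1) {k : ℕ} (hk : k < p) :
    f.coeff k = Ring.inverse ((k.factorial : ℕ) : A) * f.coeff 1 ^ k := by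
  rw [pow_eq_factorial_mul' h h0 k hk.le, Ring.inverse_mul_cancel_left _ _ (isUnit_factorial hk)]

lemma coeff_add_mul' {f : A[X]} {n : ℕ} (h : Rel p (n + 1) f)
    (h0 : f.coeff 0 = 1) (hV : ∀ m, p ^ (n + 1) ≤ m → f.coeff m = 0)
    {n0 : ℕ} (hn0 : n0 < p) (m : ℕ) :
    f.coeff (n0 + p * m) =
      Ring.inverse ((n0.factorial : ℕ) : A) * f.coeff 1 ^ n0 * f.coeff (p * m) := by
  have hle := le_pow_succ (p := p) n
  by_cases hm : p * m < p ^ (n + 1)
  · have := h n0 (p * m) (by omega) hm
    rw [choose_add_mul_cast hn0, mul_one] at this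
    rw [this, coeff_lt' h h0 hn0]
  · rw [hV (p * m) (by omega), hV (n0 + p * m) (by omega), mul_zero]

lemma contract_rel' {f : A[X]} {n : ℕ} (h : Rel p (n + 1) f) : Rel p n (contract p f) := by
  intro i j hi hj
  rw [coeff_contract hp.out.ne_zero, coeff_contract hp.out.ne_zero,
    coeff_contract hp.out.ne_zero]
  have hp0 : 0 < p := hp.out.pos
  have := h (i * p) (j * p) (by rw [pow_succ]; exact Nat.mul_lt_mul_of_pos_right hi hp0)
    (by rw [pow_succ]; exact Nat.mul_lt_mul_of_pos_right hj hp0)
  rw [← add_mul] at this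
  rw [← this]
  congr 1
  rw [mul_comm (i + j) p, mul_comm i p]
  exact (CharP.natCast_eq_natCast' A p Choose.choose_mul_mul_modEq_choose_nat).symm

lemma eq_E_mul_expand' {f : A[X]} {n : ℕ} (h : Rel p (n + 1) f)
    (h0 : f.coeff 0 = 1) (hV : ∀ m, p ^ (n + 1) ≤ m → f.coeff m = 0) :
    f = E p (f.coeff 1) * Polynomial.expand A p (contract p f) := by
  ext k
  rw [coeff_E_mul_expand, coeff_contract hp.out.ne_zero]
  conv_lhs => rw [← Nat.mod_add_div k p]
  rw [coeff_add_mul' h h0 hV (Nat.mod_lt _ hp.out.pos), mul_comm p (k / p)]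

/-- the factor `exp_p(a X^(p^i))` -/
noncomputable def term (p : ℕ) (a : A) (i : ℕ) : A[X] :=
  ∑ j ∈ Finset.range p,
    Polynomial.C (Ring.inverse ((j.factorial : ℕ) : A) * a ^ j) * Polynomial.X ^ (j * p ^ i)

theorem trunc_char (n : ℕ) : ∀ f : A[X], f.coeff 0 = 1 → Rel p n f →
    (∀ m, p ^ n ≤ m → f.coeff m = 0) →
    (∀ i, i < n → f.coeff (p ^ i) ^ p = 0) ∧
      f = ∏ i ∈ Finset.range n, term p (f.coeff (p ^ i)) i := by
  induction n with
  | zero =>
    intro f h0 _ hV
    refine ⟨fun i hi => by omega, ?_⟩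
    rw [Finset.range_zero, Finset.prod_empty]
    ext k
    rw [Polynomial.coeff_one]
    split_ifs with hk
    · rw [hk, h0]
    · exact hV k (by rw [pow_zero]; omega)
  | succ n ih =>
    intro f h0 h hV
    have hc : ∀ i, (contract p f).coeff (p ^ i) = f.coeff (p ^ (i + 1)) := by
      intro i
      rw [coeff_contract hp.out.ne_zero, pow_succ]
    obtain ⟨hnil, hprod⟩ := ih (contract p f)
      (by rw [coeff_contract hp.out.ne_zero, zero_mul, h0]) (contract_rel' h) (by
        intro m hm
        rw [coeff_contract hp.out.ne_zero]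
        apply hV
        rw [pow_succ]
        exact Nat.mul_le_mul_right p hm)
    constructor
    · intro i hi
      rcases i with _ | i
      · rw [pow_zero]; exact coeff_one_pow_eq_zero' h h0
      · rw [← hc]; exact hnil i (by omega)
    · rw [Finset.prod_range_succ']
      conv_lhs => rw [eq_E_mul_expand' h h0 hV, hprod]
      rw [mul_comm (E p (f.coeff 1))]
      congr 1
      · rw [map_prod]
        refine Finset.prod_congr rfl fun i _ => ?_
        rw [term, term, map_sum, hc]
        refine Finset.sum_congr rfl fun j _ => ?_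
        have e2 : p * (j * p ^ i) = j * p ^ (i + 1) := by rw [pow_succ]; ring
        rw [map_mul (Polynomial.expand A p), Polynomial.expand_C, map_pow, Polynomial.expand_X,
          ← pow_mul, e2]
      · rw [term, pow_zero]
        unfold E
        refine Finset.sum_congr rfl fun j _ => ?_
        simp

section conv

omit hp [CharP A p] in
lemma coeff_aeval_add (f : A[X]) (e : Fin 2 →₀ ℕ) :
    MvPolynomial.coeff e
      (Polynomial.aeval (MvPolynomial.X 0 + MvPolynomial.X 1 : MvPolynomial (Fin 2) A) f)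
      = f.coeff (e 0 + e 1) * (((e 0 + e 1).choose (e 0) : ℕ) : A) := by
  rw [← MvPolynomial.coeff_coe, FormalChar.coe_aeval, MvPolynomial.coe_add, MvPolynomial.coe_X,
    MvPolynomial.coe_X,
    ← PowerSeries.subst_coe ((PowerSeries.HasSubst.X 0).add (PowerSeries.HasSubst.X 1)),
    FormalChar.coeff_subst_add, Polynomial.coeff_coe]

omit hp [CharP A p] in
lemma coeff_aeval_mul (f : A[X]) (e : Fin 2 →₀ ℕ) :
    MvPolynomial.coeff e
      (Polynomial.aeval (MvPolynomial.X 0 : MvPolynomial (Fin 2) A) f *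
        Polynomial.aeval (MvPolynomial.X 1 : MvPolynomial (Fin 2) A) f)
      = f.coeff (e 0) * f.coeff (e 1) := by
  rw [← MvPolynomial.coeff_coe, MvPolynomial.coe_mul, FormalChar.coe_aeval, FormalChar.coe_aeval,
    MvPolynomial.coe_X, MvPolynomial.coe_X,
    ← PowerSeries.subst_coe (PowerSeries.HasSubst.X 0),
    ← PowerSeries.subst_coe (PowerSeries.HasSubst.X 1),
    FormalChar.coeff_subst_mul, Polynomial.coeff_coe, Polynomial.coeff_coe]

omit hp [CharP A p] in
lemma coeff_eq_zero_of_mem_span (q : ℕ) (P : MvPolynomial (Fin 2) A)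
    (hP : P ∈ Ideal.span {(MvPolynomial.X 0 ^ q : MvPolynomial (Fin 2) A), MvPolynomial.X 1 ^ q})
    (e : Fin 2 →₀ ℕ) (h0 : e 0 < q) (h1 : e 1 < q) : MvPolynomial.coeff e P = 0 := by
  classical
  obtain ⟨a, b, rfl⟩ := Ideal.mem_span_pair.mp hP
  rw [MvPolynomial.coeff_add, MvPolynomial.X_pow_eq_monomial, MvPolynomial.X_pow_eq_monomial,
    MvPolynomial.coeff_mul_monomial', MvPolynomial.coeff_mul_monomial', if_neg, if_neg, add_zero]
  · intro hle
    have := hle 1
    simp at this
    omega
  · intro hle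
    have := hle 0
    simp at this
    omega

theorem alphaPn (n : ℕ) (f : A[X]) (hdeg : f.natDegree < p ^ n) (h0 : f.eval 0 = 1)
    (hmul : Ideal.Quotient.mk
        (Ideal.span {(MvPolynomial.X 0 ^ p ^ n : MvPolynomial (Fin 2) A), MvPolynomial.X 1 ^ p ^ n})
        (Polynomial.aeval (MvPolynomial.X 0 + MvPolynomial.X 1 : MvPolynomial (Fin 2) A) f) =
      Ideal.Quotient.mk
        (Ideal.span {(MvPolynomial.X 0 ^ p ^ n : MvPolynomial (Fin 2) A), MvPolynomial.X 1 ^ p ^ n})
        (Polynomial.aeval (MvPolynomial.X 0 : MvPolynomial (Fin 2) A) f *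
          Polynomial.aeval (MvPolynomial.X 1 : MvPolynomial (Fin 2) A) f)) :
    (∀ i, i < n → f.coeff (p ^ i) ^ p = 0) ∧
      f = ∏ i ∈ Finset.range n, term p (f.coeff (p ^ i)) i := by
  have hmem := Ideal.Quotient.eq.mp hmul
  have hrel : Rel p n f := by
    intro i j hi hj
    have := coeff_eq_zero_of_mem_span (p ^ n) _ hmem (Finsupp.single 0 i + Finsupp.single 1 j)
      (by simpa using hi) (by simpa using hj)
    rw [MvPolynomial.coeff_sub, coeff_aeval_add, coeff_aeval_mul] at this
    simp at this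
    exact sub_eq_zero.mp this
  exact trunc_char n f (by rw [Polynomial.coeff_zero_eq_eval_zero, h0]) hrel
    (fun m hm => Polynomial.coeff_eq_zero_of_natDegree_lt (by omega))

end conv

section formal

omit [CharP A p] in
/-- the carry lemma: `p ∣ choose (i+j) i` when `i, j < p^m ≤ i + j` -/
lemma dvd_choose_of_carry (m : ℕ) : ∀ i j : ℕ, i < p ^ m → j < p ^ m → p ^ m ≤ i + j →
    p ∣ (i + j).choose i := by
  have hp0 : 0 < p := hp.out.pos
  induction m with
  | zero => intro i j hi hj hij; simp at hi hj hij; omega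
  | succ m ih =>
    intro i j hi hj hij
    have hL := @Choose.choose_modEq_choose_mod_mul_choose_div_nat (i + j) i p _
    rw [hL.dvd_iff dvd_rfl]
    have hi' := Nat.mod_add_div i p
    have hj' := Nat.mod_add_div j p
    have hi0 : i % p < p := Nat.mod_lt _ hp0
    have hj0 : j % p < p := Nat.mod_lt _ hp0
    by_cases hc : i % p + j % p < p
    · have e1 : (i + j) / p = i / p + j / p := by
        rw [Nat.add_div hp0, if_neg (by omega), add_zero]
      rw [e1]
      apply dvd_mul_of_dvd_right
      have hi1 : i / p < p ^ m := Nat.div_lt_of_lt_mul (by rw [← pow_succ']; exact hi)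
      have hj1 : j / p < p ^ m := Nat.div_lt_of_lt_mul (by rw [← pow_succ']; exact hj)
      apply ih _ _ hi1 hj1
      by_contra hlt
      have h1 : i / p + j / p + 1 ≤ p ^ m := by omega
      have h2 : p * (i / p + j / p + 1) ≤ p * p ^ m := Nat.mul_le_mul_left p h1
      rw [← pow_succ'] at h2
      have h3 : p * (i / p + j / p + 1) = p * (i / p) + p * (j / p) + p := by ring
      omega
    · have e0 : (i + j) % p = i % p + j % p - p := by
        rw [Nat.add_mod]
        have h1 : i % p + j % p - p < p := by omega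
        have h2 : i % p + j % p = (i % p + j % p - p) + p := by omega
        rw [h2, Nat.add_mod_right, Nat.mod_eq_of_lt h1]
        omega
      have : ((i + j) % p).choose (i % p) = 0 := Nat.choose_eq_zero_of_lt (by omega)
      rw [this, zero_mul]
      exact dvd_zero _

omit hp [CharP A p] in
lemma coeff_term_prod_isChar (a : ℕ → A) (ha : ∀ n, a n ^ p = 0) [hp' : Fact p.Prime] [CharP A p]
    (m : ℕ) : IsChar (∏ n ∈ Finset.range m, term p (a n) n) := by
  apply Finset.prod_induction _ IsChar (fun _ _ => IsChar.mul) IsChar.one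
  intro n _
  have : term p (a n) n = Polynomial.expand A (p ^ n) (E p (a n)) := by
    unfold E term
    rw [map_sum]
    refine Finset.sum_congr rfl fun j _ => ?_
    rw [map_mul (Polynomial.expand A (p ^ n)), Polynomial.expand_C, map_pow, Polynomial.expand_X,
      ← pow_mul, mul_comm j]
  rw [this]
  exact (isChar_E (ha n)).expand n

theorem formal_char (χ : PowerSeries A) :
    (PowerSeries.constantCoeff χ = 1 ∧
      PowerSeries.subst (MvPowerSeries.X 0 + MvPowerSeries.X 1 : MvPowerSeries (Fin 2) A) χ =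
        PowerSeries.subst (MvPowerSeries.X 0 : MvPowerSeries (Fin 2) A) χ *
          PowerSeries.subst (MvPowerSeries.X 1 : MvPowerSeries (Fin 2) A) χ) ↔
      ∃ a : ℕ → A, (∀ n, a n ^ p = 0) ∧ ∀ m : ℕ,
        PowerSeries.trunc (p ^ m) χ = ∏ n ∈ Finset.range m, term p (a n) n := by
  have hp1 : 1 < p := hp.out.one_lt
  rw [FormalChar.fe_iff]
  constructor
  · rintro ⟨h0, hfe⟩
    have hT : ∀ m, (∀ i, i < m → (PowerSeries.trunc (p ^ m) χ).coeff (p ^ i) ^ p = 0) ∧
        PowerSeries.trunc (p ^ m) χ
          = ∏ i ∈ Finset.range m, term p ((PowerSeries.trunc (p ^ m) χ).coeff (p ^ i)) i := by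
      intro m
      apply trunc_char m
      · rw [PowerSeries.coeff_trunc, if_pos (pow_pos hp.out.pos m),
          PowerSeries.coeff_zero_eq_constantCoeff_apply, h0]
      · intro i j hi hj
        rw [PowerSeries.coeff_trunc, PowerSeries.coeff_trunc, PowerSeries.coeff_trunc, if_pos hi,
          if_pos hj]
        by_cases hij : i + j < p ^ m
        · rw [if_pos hij]; exact hfe i j
        · rw [if_neg hij, zero_mul, ← hfe i j,
            (CharP.cast_eq_zero_iff A p _).mpr (dvd_choose_of_carry m i j hi hj (by omega)),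
            mul_zero]
      · intro k hk
        rw [PowerSeries.coeff_trunc, if_neg (by omega)]
    have hcoef : ∀ m i, i < m → (PowerSeries.trunc (p ^ m) χ).coeff (p ^ i)
        = PowerSeries.coeff (p ^ i) χ := by
      intro m i hi
      rw [PowerSeries.coeff_trunc, if_pos (Nat.pow_lt_pow_right hp1 hi)]
    refine ⟨fun n => PowerSeries.coeff (p ^ n) χ, ?_, ?_⟩
    · intro n
      have := (hT (n + 1)).1 n (by omega)
      rwa [hcoef (n + 1) n (by omega)] at this
    · intro m
      rw [(hT m).2]
      refine Finset.prod_congr rfl fun i hi => ?_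
      rw [Finset.mem_range] at hi
      rw [hcoef m i hi]
  · rintro ⟨a, ha, hT⟩
    have hc : ∀ m k, k < p ^ m → PowerSeries.coeff k χ
        = (∏ n ∈ Finset.range m, term p (a n) n).coeff k := by
      intro m k hk
      rw [← hT m, PowerSeries.coeff_trunc, if_pos hk]
    constructor
    · rw [← PowerSeries.coeff_zero_eq_constantCoeff_apply, hc 0 0 (by simp)]
      simp
    · intro i j
      have hlt : i + j < p ^ (i + j) := Nat.lt_pow_self hp1
      have hch := (isChar_iff_coeff _).mp (coeff_term_prod_isChar a ha (i + j))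
      rw [hc (i + j) (i + j) hlt, hc (i + j) i (by omega), hc (i + j) j (by omega)]
      exact hch.2 i j

end formal

end Groth.Agent.AlphaPChar
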