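import Mathlib
import Groth.Prelude.Def_AlphaP
import Groth.Prelude.Def_ConstGrp

/-!
# Helper lemmas on the Hopf algebras of ℤ/p, μ_p, α_p in characteristic p (helper9)
-/

set_option autoImplicit false
universe u v
open scoped TensorProduct

namespace AlphaP9

theorem nontrivial_of_charP (p : ℕ) [hp : Fact p.Prime] (R : Type u) [CommRing R] [CharP R p] :
    Nontrivial R :=
  CharP.nontrivial_of_char_ne_one (R := R) (v := p) hp.out.ne_one

section PowChar
variable (p : ℕ) [hp : Fact p.Prime] (R : Type u) [CommRing R] [CharP R p]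

/-- `p`-th powers in the group algebra of a commutative group of exponent `p`, characteristic `p`. -/
theorem monoidAlgebra_pow_char (G : Type v) [CommGroup G] (hG : ∀ g : G, g ^ p = 1)
    (x : MonoidAlgebra R G) :
    x ^ p = algebraMap R (MonoidAlgebra R G) ((Coalgebra.counit (R := R) x) ^ p) := by
  haveI : CharP (MonoidAlgebra R G) p :=
    charP_of_injective_algebraMap (Bialgebra.algebraMap_injective (R := R) (MonoidAlgebra R G)) p
  induction x using MonoidAlgebra.induction_linear with
  | zero => simp [zero_pow hp.out.ne_zero]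
  | add x y hx hy => rw [add_pow_char, hx, hy, map_add, add_pow_char, map_add]
  | single m r =>
    rw [MonoidAlgebra.single_pow, hG, MonoidAlgebra.counit_single, CommSemiring.counit_apply]
    rfl

theorem zmod_pow (g : Multiplicative (ZMod p)) : g ^ p = 1 := by
  apply Multiplicative.toAdd.injective
  rw [toAdd_pow, toAdd_one, nsmul_eq_mul, ZMod.natCast_self, zero_mul]

/-- `p`-th powers in `R[X]/(X^p)`, characteristic `p`. -/
theorem alphaP_pow_char (a : AlphaP.A p R) :
    a ^ p = algebraMap R (AlphaP.A p R) ((Coalgebra.counit (R := R) a) ^ p) := by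
  obtain ⟨f, rfl⟩ := AlphaP.mk_surjective p R a
  induction f using Polynomial.induction_on' with
  | add f g hf hg => rw [map_add, add_pow_char, hf, hg, map_add, add_pow_char, map_add]
  | monomial n c =>
    have h1 : AlphaP.mk p R (Polynomial.monomial n c) = c • (AlphaP.x p R) ^ n := by
      rw [← Polynomial.C_mul_X_pow_eq_monomial, map_mul, map_pow, AlphaP.mk_X,
        ← Polynomial.algebraMap_eq, AlgHom.commutes, Algebra.smul_def]
    rw [h1, smul_pow, ← pow_mul, map_smul, Bialgebra.counit_pow, AlphaP.counit_x]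
    rcases Nat.eq_zero_or_pos n with rfl | hn
    · rw [zero_mul, pow_zero, pow_zero, smul_eq_mul, mul_one, Algebra.algebraMap_eq_smul_one]
    · rw [AlphaP.x_pow_of_le p R (Nat.le_mul_of_pos_left p hn), zero_pow hn.ne', smul_zero,
        smul_zero, zero_pow hp.out.ne_zero, map_zero]

omit [CharP R p] in
/-- An idempotent whose `p`-th power is the image of `0 ^ p` vanishes. -/
theorem eq_zero_of_idem {B : Type v} [CommRing B] [Algebra R B] (E : B) (hE : IsIdempotentElem E)
    (c : R) (hc : c = 0) (hpow : E ^ p = algebraMap R B (c ^ p)) : E = 0 := by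
  have h : E ^ p = E := by
    obtain ⟨k, hk⟩ := Nat.exists_eq_succ_of_ne_zero hp.out.ne_zero
    rw [hk]
    exact hE.pow_succ_eq k
  rw [← h, hpow, hc, zero_pow hp.out.ne_zero, map_zero]

end PowChar

section PrimMon
variable (R : Type u) [CommRing R] (G : Type v) [Monoid G]

/-- The group algebra has no nonzero primitive elements. -/
theorem monoidAlgebra_primitive_eq_zero (y : MonoidAlgebra R G)
    (hy : Coalgebra.comul (R := R) y = y ⊗ₜ[R] 1 + 1 ⊗ₜ[R] y) : y = 0 := by
  classical
  let π : G → MonoidAlgebra R G →ₗ[R] R := fun g =>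
    (Finsupp.lapply g) ∘ₗ (MonoidAlgebra.coeffLinearEquiv R).toLinearMap
  have hπ : ∀ g m (r : R), π g (MonoidAlgebra.single m r) = if m = g then r else 0 := by
    intro g m r
    show (MonoidAlgebra.single m r).coeff g = _
    rw [MonoidAlgebra.coeff_single, Finsupp.single_apply]
  let T : G → MonoidAlgebra R G ⊗[R] MonoidAlgebra R G →ₗ[R] R := fun g =>
    (TensorProduct.lid R R).toLinearMap ∘ₗ TensorProduct.map (π g) (π g)
  have hT : ∀ g s t, T g (s ⊗ₜ[R] t) = π g s * π g t := by
    intro g s t
    simp [T]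
  have key : ∀ g (z : MonoidAlgebra R G), T g (Coalgebra.comul (R := R) z) = π g z := by
    intro g z
    induction z using MonoidAlgebra.induction_linear with
    | zero => simp
    | add x y hx hy => rw [map_add, map_add, hx, hy, map_add]
    | single m r =>
      rw [MonoidAlgebra.comul_single, CommSemiring.comul_apply, TensorProduct.map_tmul,
        MonoidAlgebra.lsingle_apply, MonoidAlgebra.lsingle_apply, hT, hπ, hπ]
      split_ifs <;> simp
  have hone : ∀ g, π g (1 : MonoidAlgebra R G) = if (1 : G) = g then 1 else 0 := by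
    intro g
    rw [MonoidAlgebra.one_def, hπ]
  have hall : ∀ g, π g y = 0 := by
    intro g
    have h1 := key g y
    rw [hy, map_add, hT, hT, hone] at h1
    by_cases hg : (1 : G) = g
    · rw [if_pos hg, mul_one, one_mul] at h1
      -- π g y + π g y = π g y
      have := h1
      linear_combination h1
    · rw [if_neg hg, mul_zero, zero_mul, add_zero] at h1
      exact h1.symm
  apply (MonoidAlgebra.coeffLinearEquiv R).injective
  rw [map_zero]
  ext g
  exact hall g

end PrimMon

section PrimAlpha
variable (p : ℕ) [hp : Fact p.Prime] (T : Type u) [CommRing T] [CharP T p]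

theorem comul_x_pow (i : ℕ) : Coalgebra.comul (R := T) (AlphaP.x p T ^ i) =
    ∑ m ∈ Finset.range (i + 1),
      (i.choose m) • ((AlphaP.x p T ^ m) ⊗ₜ[T] (AlphaP.x p T ^ (i - m))) := by
  rw [Bialgebra.comul_pow, AlphaP.comul_x, add_pow]
  refine Finset.sum_congr rfl fun m _ => ?_
  rw [Algebra.TensorProduct.tmul_pow, Algebra.TensorProduct.tmul_pow, one_pow, one_pow,
    Algebra.TensorProduct.tmul_mul_tmul, mul_one, one_mul, mul_comm, ← nsmul_eq_mul]

theorem x_ne_zero : AlphaP.x p T ≠ 0 := by
  haveI : Nontrivial T := nontrivial_of_charP p T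
  have h := (AlphaP.basis p T).ne_zero ⟨1, hp.out.one_lt⟩
  rw [AlphaP.basis_apply] at h
  simpa using h

omit hp [CharP T p] in
/-- Coordinates of powers of `x` in the power basis. -/
theorem coord_x_pow [Nontrivial T] (n j : ℕ) (hn : n < p) (hj : j < p) :
    (AlphaP.basis p T).coord ⟨n, hn⟩ (AlphaP.x p T ^ j) = if j = n then 1 else 0 := by
  classical
  have h : AlphaP.x p T ^ j = AlphaP.basis p T ⟨j, hj⟩ := by rw [AlphaP.basis_apply]
  rw [h, Module.Basis.coord_apply, Module.Basis.repr_self, Finsupp.single_apply]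
  by_cases hjn : j = n
  · subst hjn
    rw [if_pos rfl, if_pos rfl]
  · rw [if_neg hjn, if_neg (fun h' => hjn (congrArg Fin.val h'))]

/-- Primitive elements of `T[X]/(X^p)` killed by the counit are the multiples of `x`. -/
theorem alphaP_primitive (a : AlphaP.A p T)
    (ha : Coalgebra.comul (R := T) a = a ⊗ₜ[T] 1 + 1 ⊗ₜ[T] a)
    (hε : Coalgebra.counit (R := T) a = 0) :
    ∃ c : T, a = c • AlphaP.x p T := by
  classical
  haveI : Nontrivial T := nontrivial_of_charP p T
  have hp2 : 1 < p := hp.out.one_lt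
  have hp0 : 0 < p := hp.out.pos
  let b := AlphaP.basis p T
  let r : ℕ → T := fun i => if h : i < p then b.repr a ⟨i, h⟩ else 0
  have hsum : a = ∑ i ∈ Finset.range p, r i • AlphaP.x p T ^ i := by
    rw [← Fin.sum_univ_eq_sum_range (fun i => r i • AlphaP.x p T ^ i) p]
    conv_lhs => rw [← b.sum_repr a]
    refine Finset.sum_congr rfl fun i _ => ?_
    have : r (i : ℕ) = b.repr a i := by
      simp only [r]
      rw [dif_pos i.2]
    rw [this]
    show _ • AlphaP.basis p T i = _
    rw [AlphaP.basis_apply]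
  let L : ∀ n : ℕ, n < p → AlphaP.A p T ⊗[T] AlphaP.A p T →ₗ[T] T := fun n hn =>
    (TensorProduct.lid T T).toLinearMap ∘ₗ
      TensorProduct.map (b.coord ⟨1, hp2⟩) (b.coord ⟨n, hn⟩)
  have hL : ∀ n hn s t, L n hn (s ⊗ₜ[T] t) = b.coord ⟨1, hp2⟩ s * b.coord ⟨n, hn⟩ t := by
    intro n hn s t
    simp [L]
  have key : ∀ (n : ℕ) (hn : n < p) (i : ℕ), i < p → 1 ≤ n →
      L n hn (Coalgebra.comul (R := T) (AlphaP.x p T ^ i)) =
        if i = n + 1 then (i : T) else 0 := by
    intro n hn i hi hn1
    rw [comul_x_pow, map_sum]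
    have hterm : ∀ m ∈ Finset.range (i + 1),
        L n hn ((i.choose m) • ((AlphaP.x p T ^ m) ⊗ₜ[T] (AlphaP.x p T ^ (i - m)))) =
          if m = 1 then (if i = n + 1 then (i : T) else 0) else 0 := by
      intro m hm
      have hm' : m < i + 1 := Finset.mem_range.mp hm
      rw [map_nsmul, hL, coord_x_pow p T 1 m hp2 (by omega),
        coord_x_pow p T n (i - m) hn (by omega)]
      by_cases h1 : m = 1
      · subst h1
        rw [if_pos rfl, if_pos rfl, one_mul, Nat.choose_one_right]
        by_cases h2 : i = n + 1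
        · rw [if_pos h2, if_pos (by omega), nsmul_one]
        · rw [if_neg h2, if_neg (by omega), nsmul_zero]
      · rw [if_neg h1, if_neg h1, zero_mul, nsmul_zero]
    rw [Finset.sum_congr rfl hterm, Finset.sum_ite_eq']
    by_cases h2 : i = n + 1
    · rw [if_pos h2, if_pos (Finset.mem_range.mpr (by omega))]
    · rw [if_neg h2]
      simp
  -- coefficients of degree ≥ 2 vanish
  have hr2 : ∀ n : ℕ, 1 ≤ n → n + 1 < p → r (n + 1) = 0 := by
    intro n hn1 hn
    have hn' : n < p := by omega
    have e1 : L n hn' (Coalgebra.comul (R := T) a) = r (n + 1) * ((n + 1 : ℕ) : T) := by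
      conv_lhs => rw [hsum]
      rw [map_sum, map_sum, Finset.sum_eq_single (n + 1)]
      · rw [map_smul, map_smul, key n hn' (n + 1) hn hn1, if_pos rfl, smul_eq_mul]
      · intro i hi hne
        rw [map_smul, map_smul, key n hn' i (Finset.mem_range.mp hi) hn1, if_neg hne, smul_zero]
      · intro h
        exact absurd (Finset.mem_range.mpr hn) h
    have e2 : L n hn' (a ⊗ₜ[T] 1 + 1 ⊗ₜ[T] a) = 0 := by
      rw [map_add, hL, hL]
      have h1 : (1 : AlphaP.A p T) = AlphaP.x p T ^ 0 := (pow_zero _).symm
      rw [h1, coord_x_pow p T n 0 hn' hp0, coord_x_pow p T 1 0 hp2 hp0, if_neg (by omega),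
        if_neg (by omega), mul_zero, zero_mul, add_zero]
    rw [ha, e2] at e1
    have hu : IsUnit (((n + 1 : ℕ) : T)) :=
      (CharP.isUnit_natCast_iff (R := T) hp.out).mpr
        (Nat.not_dvd_of_pos_of_lt (Nat.succ_pos n) hn)
    exact (hu.mul_left_eq_zero).mp e1.symm
  -- the constant coefficient vanishes
  have hr0 : r 0 = 0 := by
    have e : Coalgebra.counit (R := T) a = r 0 := by
      conv_lhs => rw [hsum]
      rw [map_sum, Finset.sum_eq_single 0]
      · rw [map_smul, pow_zero, Bialgebra.counit_one, smul_eq_mul, mul_one]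
      · intro i _ hi
        rw [map_smul, Bialgebra.counit_pow, AlphaP.counit_x, zero_pow hi, smul_zero]
      · intro h
        exact absurd (Finset.mem_range.mpr hp0) h
    rw [← e, hε]
  refine ⟨r 1, ?_⟩
  conv_lhs => rw [hsum]
  rw [Finset.sum_eq_single 1]
  · rw [pow_one]
  · intro i hi hne
    have hi' : i < p := Finset.mem_range.mp hi
    rcases Nat.eq_zero_or_pos i with rfl | hpos
    · rw [hr0, zero_smul]
    · obtain ⟨n, rfl⟩ := Nat.exists_eq_succ_of_ne_zero hpos.ne'
      rw [hr2 n (by omega) hi', zero_smul]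
  · intro h
    exact absurd (Finset.mem_range.mpr hp2) h

/-- `c • x = c' • x` forces `c = c'`. -/
theorem smul_x_injective (c c' : T) (h : c • AlphaP.x p T = c' • AlphaP.x p T) : c = c' := by
  haveI : Nontrivial T := nontrivial_of_charP p T
  have hp2 : 1 < p := hp.out.one_lt
  have h1 := congrArg ((AlphaP.basis p T).coord ⟨1, hp2⟩) h
  rw [map_smul, map_smul] at h1
  have h2 : (AlphaP.basis p T).coord ⟨1, hp2⟩ (AlphaP.x p T) = 1 := by
    have := coord_x_pow p T 1 1 hp2 hp2
    rwa [pow_one, if_pos rfl] at this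
  rwa [h2, smul_eq_mul, smul_eq_mul, mul_one, mul_one] at h1

/-- Scaling endomorphism `x ↦ c • x` of α_p. -/
noncomputable def scale (c : T) : AlphaP.A p T →ₐc[T] AlphaP.A p T :=
  BialgHom.ofAlgHom
    (AlphaP.lift p T (c • AlphaP.x p T) (by rw [smul_pow, AlphaP.x_pow, smul_zero]))
    (by
      apply AlphaP.algHom_ext
      rw [AlgHom.comp_apply, AlphaP.lift_x, Bialgebra.counitAlgHom_apply,
        Bialgebra.counitAlgHom_apply, map_smul, AlphaP.counit_x, smul_zero])
    (by
      apply AlphaP.algHom_ext
      rw [AlgHom.comp_apply, AlgHom.comp_apply, AlphaP.lift_x, Bialgebra.comulAlgHom_apply,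
        Bialgebra.comulAlgHom_apply, map_smul, AlphaP.comul_x, map_add,
        Algebra.TensorProduct.map_tmul, Algebra.TensorProduct.map_tmul, AlphaP.lift_x, map_one,
        smul_add, TensorProduct.smul_tmul', TensorProduct.tmul_smul])

theorem scale_x (c : T) : scale p T c (AlphaP.x p T) = c • AlphaP.x p T := by
  have h : (c • AlphaP.x p T) ^ p = 0 := by rw [smul_pow, AlphaP.x_pow, smul_zero]
  exact AlphaP.lift_x (p := p) (c • AlphaP.x p T) h

end PrimAlpha

end AlphaP9
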