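import Mathlib
import Groth.Prelude.Def_AlphaP
import Groth.Prelude.Def_CartDual
import Groth.Agent.Lib.AlphaP_helper9

/-!
# Self-duality of α_p (helper9)
-/

set_option autoImplicit false
universe u
open scoped TensorProduct

namespace AlphaPDual9

variable (p : ℕ) [hp : Fact p.Prime] (R : Type u) [CommRing R] [CharP R p]

/-- The linear form dual to `x` in the power basis, as an element of the dual Hopf algebra. -/
noncomputable def xi [Nontrivial R] : CartDual.D R (AlphaP.A p R) :=
  WithConv.toConv ((AlphaP.basis p R).coord ⟨1, hp.out.one_lt⟩)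

theorem xi_apply_pow [Nontrivial R] (j : ℕ) (hj : j < p) :
    xi p R (AlphaP.x p R ^ j) = if j = 1 then 1 else 0 :=
  AlphaP9.coord_x_pow p R 1 j hp.out.one_lt hj

theorem xi_pow_apply [Nontrivial R] (i : ℕ) : ∀ n : ℕ, n < p →
    (xi p R ^ i) (AlphaP.x p R ^ n) = if n = i then (i.factorial : R) else 0 := by
  induction i with
  | zero =>
    intro n hn
    rw [pow_zero]
    show algebraMap R R (Coalgebra.counit (R := R) (AlphaP.x p R ^ n)) = _
    rw [Bialgebra.counit_pow, AlphaP.counit_x, Algebra.algebraMap_self, RingHom.id_apply, zero_pow_eq,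
      Nat.factorial_zero, Nat.cast_one]
  | succ i ih =>
    intro n hn
    rw [pow_succ]
    show LinearMap.mul' R R (TensorProduct.map (xi p R ^ i).ofConv (xi p R).ofConv
      (Coalgebra.comul (R := R) (AlphaP.x p R ^ n))) = _
    rw [AlphaP9.comul_x_pow, map_sum, map_sum]
    have hterm : ∀ m ∈ Finset.range (n + 1),
        LinearMap.mul' R R (TensorProduct.map (xi p R ^ i).ofConv (xi p R).ofConv
          ((n.choose m) • ((AlphaP.x p R ^ m) ⊗ₜ[R] (AlphaP.x p R ^ (n - m))))) =
        if m = i then (if n = i + 1 then ((i + 1).factorial : R) else 0) else 0 := by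
      intro m hm
      have hm' : m < n + 1 := Finset.mem_range.mp hm
      rw [map_nsmul, map_nsmul, TensorProduct.map_tmul, LinearMap.mul'_apply]
      have e1 : (xi p R ^ i).ofConv (AlphaP.x p R ^ m) = if m = i then (i.factorial : R) else 0 :=
        ih m (by omega)
      have e2 : (xi p R).ofConv (AlphaP.x p R ^ (n - m)) = if n - m = 1 then 1 else 0 :=
        xi_apply_pow p R _ (by omega)
      rw [e1, e2]
      by_cases h1 : m = i
      · subst h1
        rw [if_pos rfl, if_pos rfl]
        by_cases h2 : n = m + 1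
        · subst h2
          rw [if_pos rfl, if_pos (by omega), mul_one, Nat.choose_succ_self_right, nsmul_eq_mul,
            Nat.factorial_succ, Nat.cast_mul]
        · rw [if_neg h2, if_neg (by omega), mul_zero, nsmul_zero]
      · rw [if_neg h1, if_neg h1, zero_mul, nsmul_zero]
    rw [Finset.sum_congr rfl hterm, Finset.sum_ite_eq']
    by_cases h2 : n = i + 1
    · rw [if_pos h2, if_pos (Finset.mem_range.mpr (by omega))]
    · rw [if_neg h2]
      simp

theorem xi_pow_p [Nontrivial R] : xi p R ^ p = 0 := by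
  apply WithConv.ext
  apply (AlphaP.basis p R).ext
  intro j
  rw [AlphaP.basis_apply]
  have h := xi_pow_apply p R p j j.2
  rw [if_neg (by have := j.2; omega)] at h
  exact h

/-- `xi` is an `ε`-derivation. -/
theorem xi_mul [Nontrivial R] (a c : AlphaP.A p R) :
    xi p R (a * c) = xi p R a * Coalgebra.counit (R := R) c +
      Coalgebra.counit (R := R) a * xi p R c := by
  have key : (LinearMap.mul R (AlphaP.A p R)).compr₂ (xi p R).ofConv =
      (LinearMap.mul R R).compl₁₂ (xi p R).ofConv (Coalgebra.counit (R := R)) +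
      (LinearMap.mul R R).compl₁₂ (Coalgebra.counit (R := R)) (xi p R).ofConv := by
    apply (AlphaP.basis p R).ext
    intro i
    apply (AlphaP.basis p R).ext
    intro j
    simp only [LinearMap.compr₂_apply, LinearMap.add_apply, LinearMap.compl₁₂_apply,
      LinearMap.mul_apply', AlphaP.basis_apply]
    rw [← pow_add, Bialgebra.counit_pow, Bialgebra.counit_pow, AlphaP.counit_x]
    have e1 : (xi p R).ofConv (AlphaP.x p R ^ (i : ℕ)) = if (i : ℕ) = 1 then 1 else 0 :=
      xi_apply_pow p R i i.2
    have e2 : (xi p R).ofConv (AlphaP.x p R ^ (j : ℕ)) = if (j : ℕ) = 1 then 1 else 0 :=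
      xi_apply_pow p R j j.2
    rw [e1, e2, zero_pow_eq, zero_pow_eq]
    have hp2 : 1 < p := hp.out.one_lt
    by_cases hij : (i : ℕ) + j < p
    · have e3 : (xi p R).ofConv (AlphaP.x p R ^ ((i : ℕ) + j)) =
          if (i : ℕ) + j = 1 then 1 else 0 := xi_apply_pow p R _ hij
      rw [e3]
      split_ifs <;> first | omega | simp
    · rw [AlphaP.x_pow_of_le p R (not_lt.mp hij), map_zero]
      have hi := i.2
      have hj := j.2
      split_ifs <;> first | omega | simp
  have h := LinearMap.congr_fun (LinearMap.congr_fun key a) c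
  simpa only [LinearMap.compr₂_apply, LinearMap.add_apply, LinearMap.compl₁₂_apply,
    LinearMap.mul_apply'] using h

theorem comul_xi [Nontrivial R] :
    Coalgebra.comul (R := R) (xi p R) = xi p R ⊗ₜ[R] 1 + 1 ⊗ₜ[R] xi p R := by
  apply (CartDual.ev₂ R (AlphaP.A p R)).injective
  apply TensorProduct.ext'
  intro a c
  rw [CartDual.ev₂_coalgebra_comul_tmul, map_add, LinearMap.add_apply, CartDual.ev₂_tmul,
    CartDual.ev₂_tmul, xi_mul]
  rfl

/-- The algebra map `x ↦ xi`. -/
noncomputable def PhiAlg [Nontrivial R] : AlphaP.A p R →ₐ[R] CartDual.D R (AlphaP.A p R) :=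
  AlphaP.lift p R (xi p R) (xi_pow_p p R)

theorem PhiAlg_x [Nontrivial R] : PhiAlg p R (AlphaP.x p R) = xi p R :=
  AlphaP.lift_x (p := p) (xi p R) (xi_pow_p p R)

/-- The bialgebra map `x ↦ xi`. -/
noncomputable def Phi [Nontrivial R] : AlphaP.A p R →ₐc[R] CartDual.D R (AlphaP.A p R) :=
  BialgHom.ofAlgHom (PhiAlg p R)
    (by
      apply AlphaP.algHom_ext
      rw [AlgHom.comp_apply, Bialgebra.counitAlgHom_apply, Bialgebra.counitAlgHom_apply,
        AlphaP.counit_x, PhiAlg_x]
      have h := xi_apply_pow p R 0 hp.out.pos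
      rw [pow_zero, if_neg (by norm_num)] at h
      exact h)
    (by
      apply AlphaP.algHom_ext
      rw [AlgHom.comp_apply, AlgHom.comp_apply, Bialgebra.comulAlgHom_apply,
        Bialgebra.comulAlgHom_apply, AlphaP.comul_x, map_add, Algebra.TensorProduct.map_tmul,
        Algebra.TensorProduct.map_tmul, map_one, PhiAlg_x, comul_xi])

theorem Phi_x [Nontrivial R] : Phi p R (AlphaP.x p R) = xi p R := PhiAlg_x p R

theorem Phi_bijective [Nontrivial R] : Function.Bijective (Phi p R) := by
  classical
  let b := AlphaP.basis p R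
  have hu : ∀ i : Fin p, IsUnit (((i : ℕ).factorial : ℕ) : R) := fun i =>
    (CharP.isUnit_natCast_iff (R := R) hp.out).mpr (by
      rw [hp.out.dvd_factorial]
      exact not_le.mpr i.2)
  let w : Fin p → Rˣ := fun i => (hu i).unit
  let c : Module.Basis (Fin p) R (CartDual.D R (AlphaP.A p R)) :=
    (b.dualBasis.unitsSMul w).map (CartDual.toDual R (AlphaP.A p R)).symm
  have hΦ : ∀ i, PhiAlg p R (b i) = c i := by
    intro i
    apply WithConv.ext
    apply b.ext
    intro j
    have h1 : PhiAlg p R (b i) = xi p R ^ (i : ℕ) := by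
      show PhiAlg p R (AlphaP.basis p R i) = _
      rw [AlphaP.basis_apply, map_pow, PhiAlg_x]
    have h2 : (c i).ofConv = (w i : R) • b.coord i := by
      show (CartDual.toDual R (AlphaP.A p R)) (c i) = _
      simp only [c, Module.Basis.map_apply, LinearEquiv.apply_symm_apply,
        Module.Basis.unitsSMul_apply, Module.Basis.coe_dualBasis, Units.smul_def]
    rw [h1, h2, LinearMap.smul_apply, Module.Basis.coord_apply, Module.Basis.repr_self,
      Finsupp.single_apply, smul_eq_mul]
    have h3 : (xi p R ^ (i : ℕ)).ofConv (b j) =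
        if (j : ℕ) = (i : ℕ) then (((i : ℕ).factorial : ℕ) : R) else 0 := by
      show (xi p R ^ (i : ℕ)) (AlphaP.basis p R j) = _
      rw [AlphaP.basis_apply]
      exact xi_pow_apply p R i j j.2
    rw [h3, IsUnit.unit_spec]
    by_cases hji : j = i
    · subst hji
      rw [if_pos rfl, if_pos rfl, mul_one]
    · rw [if_neg (fun h => hji (Fin.ext h)), if_neg hji, mul_zero]
  have hlin : (PhiAlg p R).toLinearMap = (b.equiv c (Equiv.refl _)).toLinearMap := by
    apply b.ext
    intro i
    rw [AlgHom.toLinearMap_apply, LinearEquiv.coe_coe, Module.Basis.equiv_apply, Equiv.refl_apply]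
    exact hΦ i
  have hfun : ⇑(Phi p R) = ⇑(b.equiv c (Equiv.refl _)) :=
    funext fun a => LinearMap.congr_fun hlin a
  rw [hfun]
  exact LinearEquiv.bijective _

/-- The self-duality isomorphism of α_p. -/
noncomputable def dualEquiv [Nontrivial R] : CartDual.D R (AlphaP.A p R) ≃ₐc[R] AlphaP.A p R :=
  (BialgEquiv.ofBijective (Phi p R) (Phi_bijective p R)).symm

theorem dualEquiv_symm_x [Nontrivial R] : (dualEquiv p R).symm (AlphaP.x p R) = xi p R :=
  Phi_x p R

/-- `p`-th powers in the dual of α_p. -/
theorem dual_pow_char (y : CartDual.D R (AlphaP.A p R)) :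
    y ^ p = algebraMap R (CartDual.D R (AlphaP.A p R)) ((y 1) ^ p) := by
  haveI : Nontrivial R := AlphaP9.nontrivial_of_charP p R
  have h1 := AlphaP9.alphaP_pow_char p R (dualEquiv p R y)
  have h2 : Coalgebra.counit (R := R) (dualEquiv p R y) = y 1 := by
    rw [CoalgHomClass.counit_comp_apply]
    rfl
  rw [h2] at h1
  apply EquivLike.injective (dualEquiv p R)
  rw [map_pow, h1, AlgHomClass.commutes]

end AlphaPDual9
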