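import Mathlib
import Groth.Prelude.Def_CartDual2

set_option autoImplicit false
set_option maxHeartbeats 1000000

/-!
# Cartier dual of an étale `p`-group in characteristic `p` is infinitesimal (helper1)
-/

namespace CartEtH1

open TensorProduct WithConv

universe u

section Count

variable (K : Type u) [Field K] [IsAlgClosed K] (B : Type u) [CommRing B] [Algebra K B]
  [Module.Finite K B] [Algebra.Etale K B]

theorem finrank_le_card_points : Module.finrank K B ≤ Nat.card (B →ₐ[K] K) := by
  classical
  haveI : IsArtinianRing B := IsArtinianRing.of_finite K B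
  let e := Algebra.FormallyEtale.equivPiOfIsSepClosed K B
  haveI : Fintype (PrimeSpectrum B) := Fintype.ofFinite _
  have h1 : Module.finrank K B = Fintype.card (PrimeSpectrum B) := by
    rw [e.toLinearEquiv.finrank_eq, Module.finrank_fintype_fun_eq_card]
  rw [h1, ← Nat.card_eq_fintype_card]
  let φ : PrimeSpectrum B → (B →ₐ[K] K) :=
    fun x => (Pi.evalAlgHom K (fun _ : PrimeSpectrum B => K) x).comp e.toAlgHom
  apply Nat.card_le_card_of_injective φ
  intro x y hxy
  by_contra hne
  have h2 : e (e.symm (Pi.single x 1)) x = e (e.symm (Pi.single x 1)) y :=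
    AlgHom.congr_fun hxy (e.symm (Pi.single x 1))
  rw [AlgEquiv.apply_symm_apply, Pi.single_eq_same,
    Pi.single_eq_of_ne (fun h => hne h.symm)] at h2
  exact one_ne_zero h2

end Count

section Points

variable {k : Type u} [Field k] {A : Type u} [CommRing A] [HopfAlgebra k A]
  (K : Type u) [Field K] [Algebra k K]

theorem point_mul_inv (g : WithConv (A →ₐ[k] K)) :
    g * toConv (g.ofConv.comp (HopfAlgebra.antipodeAlgHom k A)) = 1 := by
  apply WithConv.ofConv_injective
  apply AlgHom.toLinearMap_injective
  apply WithConv.toConv_injective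
  rw [AlgHom.toLinearMap_convMul, AlgHom.toLinearMap_convOne]
  apply WithConv.ext
  apply LinearMap.ext
  intro a
  have h1 := (Coalgebra.Repr.arbitrary k a).convMul_apply (toConv g.ofConv.toLinearMap)
    (toConv (toConv (g.ofConv.comp (HopfAlgebra.antipodeAlgHom k A))).ofConv.toLinearMap)
  have h2 := HopfAlgebra.sum_mul_antipode_eq_algebraMap_counit (Coalgebra.Repr.arbitrary k a)
  rw [h1]
  have h3 : ∀ i, (toConv g.ofConv.toLinearMap).ofConv ((Coalgebra.Repr.arbitrary k a).left i) *
        (toConv (toConv (g.ofConv.comp (HopfAlgebra.antipodeAlgHom k A))).ofConv.toLinearMap).ofConv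
          ((Coalgebra.Repr.arbitrary k a).right i) =
      g.ofConv ((Coalgebra.Repr.arbitrary k a).left i *
        (HopfAlgebraStruct.antipode k) ((Coalgebra.Repr.arbitrary k a).right i)) := by
    intro i
    rw [map_mul]
    rfl
  simp_rw [h3]
  rw [← map_sum, h2, AlgHom.commutes]
  rfl

theorem isUnit_point (g : WithConv (A →ₐ[k] K)) : IsUnit g := by
  refine ⟨⟨g, toConv (g.ofConv.comp (HopfAlgebra.antipodeAlgHom k A)), point_mul_inv K g, ?_⟩, rfl⟩
  have h1 := point_mul_inv K (toConv (g.ofConv.comp (HopfAlgebra.antipodeAlgHom k A)))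
  have h2 := point_mul_inv K g
  -- left inverse from right inverses: b * c = 1, g * b = 1 ⇒ c = g
  set b := toConv (g.ofConv.comp (HopfAlgebra.antipodeAlgHom k A)) with hb
  set c := toConv (b.ofConv.comp (HopfAlgebra.antipodeAlgHom k A)) with hc
  have h3 : c = g := by
    calc c = 1 * c := (one_mul c).symm
      _ = (g * b) * c := by rw [h2]
      _ = g * (b * c) := mul_assoc _ _ _
      _ = g := by rw [h1, mul_one]
  rw [h3] at h1
  exact h1

theorem pow_card_point [Module.Finite k A] (g : WithConv (A →ₐ[k] K)) :
    g ^ Nat.card (A →ₐ[k] K) = 1 := by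
  letI : Group (WithConv (A →ₐ[k] K)) := groupOfIsUnit (isUnit_point K)
  have h : Nat.card (WithConv (A →ₐ[k] K)) = Nat.card (A →ₐ[k] K) :=
    Nat.card_congr (WithConv.equiv _)
  rw [← h]
  exact pow_card_eq_one'

theorem card_points [IsAlgClosed K] [Module.Finite k A] [Algebra.Etale k A] :
    Nat.card (A →ₐ[k] K) = Module.finrank k A := by
  apply le_antisymm (card_algHom_le_finrank k A K)
  have h1 : Module.finrank k A = Module.finrank K (K ⊗[k] A) := (Module.finrank_baseChange).symm
  rw [h1]
  refine le_trans (finrank_le_card_points K (K ⊗[k] A)) ?_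
  let ψ : (K ⊗[k] A →ₐ[K] K) → (A →ₐ[k] K) :=
    fun f => (f.restrictScalars k).comp Algebra.TensorProduct.includeRight
  apply Nat.card_le_card_of_injective ψ
  intro f f' hff
  apply Algebra.TensorProduct.ext
  · apply AlgHom.ext; intro c
    have hc : (Algebra.TensorProduct.includeLeft : K →ₐ[K] K ⊗[k] A) c
        = algebraMap K (K ⊗[k] A) c := rfl
    rw [AlgHom.comp_apply, AlgHom.comp_apply, hc, AlgHom.commutes, AlgHom.commutes]
  · exact hff

/-- The comparison map from the `k`-valued to the `K`-valued convolution algebra. -/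
noncomputable def jj : WithConv (A →ₗ[k] k) →* WithConv (A →ₗ[k] K) where
  toFun x := toConv ((Algebra.ofId k K).toLinearMap ∘ₗ x.ofConv)
  map_one' := by
    apply WithConv.ext; apply LinearMap.ext; intro a
    simp [LinearMap.convOne_def]
  map_mul' x y := by
    apply WithConv.ext
    exact LinearMap.algHom_comp_convMul_distrib (Algebra.ofId k K) x y

theorem jj_apply (x : WithConv (A →ₗ[k] k)) (a : A) :
    (jj K x).ofConv a = algebraMap k K (x.ofConv a) := rfl

theorem jj_injective : Function.Injective (jj (k := k) (A := A) K) := by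
  intro x y hxy
  apply WithConv.ext; apply LinearMap.ext; intro a
  have h := congrArg (fun f : WithConv (A →ₗ[k] K) => f.ofConv a) hxy
  simp only [jj_apply] at h
  exact (algebraMap k K).injective h

variable (p : ℕ) [Fact p.Prime] [CharP k p]

theorem nilp [IsAlgClosed K] [Coalgebra.IsCocomm k A] [Module.Finite k A] [Algebra.Etale k A]
    (n : ℕ) (hA : Module.finrank k A = p ^ n)
    (y : WithConv (A →ₗ[k] K)) (hy : y.ofConv 1 = 0) : y ^ p ^ n = 0 := by
  classical
  haveI : Fintype (A →ₐ[k] K) := Fintype.ofFinite _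
  have hcardN : Nat.card (A →ₐ[k] K) = p ^ n := (card_points K).trans hA
  have hcard : Fintype.card (A →ₐ[k] K) = Module.finrank K (A →ₗ[k] K) := by
    rw [Module.finrank_linearMap_self, ← Nat.card_eq_fintype_card]
    exact card_points K
  have hspan := (linearIndependent_algHom_toLinearMap k A K).span_eq_top_of_card_eq_finrank' hcard
  have hmem : y.ofConv ∈
      Submodule.span K (Set.range (AlgHom.toLinearMap : (A →ₐ[k] K) → A →ₗ[k] K)) := by
    rw [hspan]; exact Submodule.mem_top
  obtain ⟨c, hc⟩ := (Submodule.mem_span_range_iff_exists_fun K).mp hmem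
  have hy' : y = ∑ g, c g • (toConv g.toLinearMap : WithConv (A →ₗ[k] K)) := by
    apply WithConv.ofConv_injective
    rw [← hc, WithConv.ofConv_sum]
    rfl
  have hsum : ∑ g, c g = 0 := by
    have h := congrArg (fun f : A →ₗ[k] K => f 1) hc
    simp only [LinearMap.sum_apply, LinearMap.smul_apply, AlgHom.toLinearMap_apply, map_one,
      smul_eq_mul, mul_one] at h
    rw [h]; exact hy
  haveI : CharP K p := charP_of_injective_algebraMap (algebraMap k K).injective p
  haveI : ExpChar K p := ExpChar.prime Fact.out
  have hinj : Function.Injective (algebraMap K (WithConv (A →ₗ[k] K))) := by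
    intro a b hab
    have h : (algebraMap K (WithConv (A →ₗ[k] K)) a) (1 : A)
        = (algebraMap K (WithConv (A →ₗ[k] K)) b) (1 : A) := by rw [hab]
    rw [LinearMap.convAlgebraMap_apply, LinearMap.convAlgebraMap_apply] at h
    simpa using h
  haveI : CharP (WithConv (A →ₗ[k] K)) p := charP_of_injective_algebraMap hinj p
  haveI : ExpChar (WithConv (A →ₗ[k] K)) p := ExpChar.prime Fact.out
  have hpow : ∀ g : A →ₐ[k] K,
      (c g • (toConv g.toLinearMap : WithConv (A →ₗ[k] K))) ^ p ^ n
        = (c g ^ p ^ n) • (1 : WithConv (A →ₗ[k] K)) := by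
    intro g
    rw [smul_pow]
    congr 1
    have h1 := AlgHom.toLinearMap_convPow (toConv g) (p ^ n)
    have h2 := pow_card_point K (toConv g)
    rw [hcardN] at h2
    rw [h2, AlgHom.toLinearMap_convOne] at h1
    exact h1.symm
  rw [hy', sum_pow_char_pow]
  simp_rw [hpow]
  rw [← Finset.sum_smul, ← sum_pow_char_pow, hsum, zero_pow (pow_pos (Fact.out : p.Prime).pos n).ne',
    zero_smul]

theorem main [Coalgebra.IsCocomm k A] [Module.Finite k A] [Algebra.Etale k A]
    (n : ℕ) (hA : Module.finrank k A = p ^ n) : IsLocalRing (CartDual.D k A) := by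
  have hnil : ∀ x : CartDual.D k A, x.ofConv 1 = 0 → IsNilpotent x := by
    intro x hx
    refine ⟨p ^ n, ?_⟩
    apply jj_injective (AlgebraicClosure k)
    have hz : jj (AlgebraicClosure k) (0 : WithConv (A →ₗ[k] k)) = 0 := by
      apply WithConv.ext; apply LinearMap.ext; intro a
      rw [jj_apply]; simp
    rw [map_pow, hz]
    apply nilp (AlgebraicClosure k) p n hA
    rw [jj_apply, hx, map_zero]
  have hone : (1 : CartDual.D k A).ofConv 1 = 1 := by
    simp [LinearMap.convOne_def]
  haveI : Nontrivial (CartDual.D k A) := by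
    refine ⟨⟨0, 1, fun h => ?_⟩⟩
    have h' := congrArg (fun f : CartDual.D k A => f.ofConv 1) h
    simp only [hone] at h'
    exact zero_ne_one h'
  apply IsLocalRing.of_isUnit_or_isUnit_one_sub_self
  intro a
  by_cases ha : a.ofConv 1 = 0
  · right; exact (hnil a ha).isUnit_one_sub
  · left
    have halg : ∀ c : k, (algebraMap k (CartDual.D k A) c).ofConv 1 = c := by
      intro c
      have h : (algebraMap k (CartDual.D k A) c) (1 : A) = c := by
        rw [LinearMap.convAlgebraMap_apply]; simp
      exact h
    have hy : (a - algebraMap k (CartDual.D k A) (a.ofConv 1)).ofConv 1 = 0 := by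
      rw [WithConv.ofConv_sub, LinearMap.sub_apply, halg, sub_self]
    obtain ⟨m, hm⟩ := hnil _ hy
    have hfac : ∀ c : k, c ≠ 0 → a = algebraMap k (CartDual.D k A) c *
        (1 + algebraMap k (CartDual.D k A) c⁻¹ *
          (a - algebraMap k (CartDual.D k A) c)) := by
      intro c hc
      have h1 : algebraMap k (CartDual.D k A) c * algebraMap k (CartDual.D k A) c⁻¹ = 1 := by
        rw [← map_mul, mul_inv_cancel₀ hc, map_one]
      rw [mul_add, mul_one, ← mul_assoc, h1, one_mul]
      ring
    rw [hfac _ ha]
    apply IsUnit.mul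
    · exact (IsUnit.mk0 _ ha).map (algebraMap k (CartDual.D k A))
    · apply IsNilpotent.isUnit_one_add
      exact ⟨m, by rw [mul_pow, hm, mul_zero]⟩

end Points

end CartEtH1
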