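import Mathlib
import Groth.Agent.Lib.CartEtale_helper1
import Groth.Agent.Lib.HopfTrace_helper1

set_option autoImplicit false
set_option maxHeartbeats 1000000

/-!
# A simple connected multiplicative finite group scheme over an algebraically closed field is `μ_p`
(helper1)
-/

namespace MuPH1

open TensorProduct WithConv Module

universe u

section Sep
variable (k : Type u) [Field k] (A : Type u) [AddCommGroup A] [Module k A] [FiniteDimensional k A]

theorem sep (t : A ⊗[k] A)
    (h : ∀ f g : A →ₗ[k] k, LinearMap.mul' k k (TensorProduct.map f g t) = 0) : t = 0 := by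
  let b := Module.finBasis k A
  have key : ∀ (i j : Fin (Module.finrank k A)) (t : A ⊗[k] A),
      (b.tensorProduct b).repr t (i, j) =
        LinearMap.mul' k k (TensorProduct.map (b.coord i) (b.coord j) t) := by
    intro i j t
    induction t using TensorProduct.induction_on with
    | zero => simp
    | tmul x y =>
      rw [Basis.tensorProduct_repr_tmul_apply, TensorProduct.map_tmul, LinearMap.mul'_apply,
        Basis.coord_apply, Basis.coord_apply, smul_eq_mul, mul_comm]
    | add x y hx hy => simp only [map_add, Finsupp.add_apply, hx, hy]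
  apply (b.tensorProduct b).ext_elem
  rintro ⟨i, j⟩
  rw [key, h, map_zero, Finsupp.zero_apply]

end Sep

section Hopf
variable (k : Type u) [Field k] (A : Type u) [CommRing A] [HopfAlgebra k A] [FiniteDimensional k A]

theorem exists_rep (χ : WithConv (A →ₗ[k] k) →ₗ[k] k) :
    ∃ a : A, ∀ f : A →ₗ[k] k, χ (toConv f) = f a := by
  let ξ : Module.Dual k (Module.Dual k A) :=
    χ ∘ₗ (WithConv.linearEquiv k (A →ₗ[k] k)).symm.toLinearMap
  refine ⟨(Module.evalEquiv k A).symm ξ, fun f => ?_⟩
  have h := LinearEquiv.apply_symm_apply (Module.evalEquiv k A) ξ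
  have h2 := congrArg (fun φ : Module.Dual k (Module.Dual k A) => φ f) h
  simp only [Module.evalEquiv_apply, Module.Dual.eval_apply] at h2
  rw [h2]
  rfl

theorem groupLike_of_rep (χ : WithConv (A →ₗ[k] k) →ₐ[k] k) (a : A)
    (ha : ∀ f : A →ₗ[k] k, χ (toConv f) = f a) : IsGroupLikeElem k a := by
  refine ⟨?_, ?_⟩
  · have h := ha Coalgebra.counit
    have h1 : (toConv (Coalgebra.counit : A →ₗ[k] k) : WithConv (A →ₗ[k] k)) = 1 := by
      apply WithConv.ext; apply LinearMap.ext; intro x
      simp [LinearMap.convOne_def]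
    rw [h1, map_one] at h
    exact h.symm
  · rw [← sub_eq_zero]
    apply sep
    intro f g
    rw [map_sub, map_sub, sub_eq_zero, TensorProduct.map_tmul, LinearMap.mul'_apply]
    have h3 := ha ((toConv f * toConv g : WithConv (A →ₗ[k] k)).ofConv)
    rw [WithConv.toConv_ofConv, map_mul, ha, ha] at h3
    rw [h3]
    rfl

theorem hopfIdeal_span (x : A) (hx : IsGroupLikeElem k x) :
    (Ideal.span {x - 1}).IsHopfIdeal k := by
  have hq : ∀ l : A, Submodule.mkQ ((Ideal.span {x - 1}).restrictScalars k) (l * x) =
      Submodule.mkQ ((Ideal.span {x - 1}).restrictScalars k) l := by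
    intro l
    rw [Submodule.mkQ_apply, Submodule.mkQ_apply, Submodule.Quotient.eq]
    show l * x - l ∈ Ideal.span {x - 1}
    rw [Ideal.mem_span_singleton']
    exact ⟨l, by ring⟩
  have hco : ((Ideal.span {x - 1}).restrictScalars k).IsCoideal := by
    refine ⟨?_, ?_⟩
    · intro y hy
      obtain ⟨a, rfl⟩ := Ideal.mem_span_singleton'.mp (show y ∈ Ideal.span {x - 1} from hy)
      rw [Bialgebra.counit_mul, map_sub, hx.counit_eq_one, Bialgebra.counit_one, sub_self, mul_zero]
    · intro y hy
      obtain ⟨a, rfl⟩ := Ideal.mem_span_singleton'.mp (show y ∈ Ideal.span {x - 1} from hy)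
      have 𝓡 := Coalgebra.Repr.arbitrary k a
      rw [Bialgebra.comul_mul, map_sub, hx.comul_eq_tmul_self, Bialgebra.comul_one, ← 𝓡.eq,
        Finset.sum_mul, map_sum]
      apply Finset.sum_eq_zero
      intro i _
      rw [mul_sub, mul_one, Algebra.TensorProduct.tmul_mul_tmul, map_sub, TensorProduct.map_tmul,
        TensorProduct.map_tmul, hq, hq, sub_self]
  exact
    { toIsCoideal := hco
      antipode_mem := by
        intro y hy
        obtain ⟨a, rfl⟩ := Ideal.mem_span_singleton'.mp hy
        rw [HopfAlgebra.antipode_mul_distrib, map_sub, HopfAlgebra.antipode_one,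
          Ideal.mem_span_singleton']
        refine ⟨- (HopfAlgebra.antipode k a * HopfAlgebra.antipode k x), ?_⟩
        have h1 := hx.antipode_mul_cancel
        linear_combination (- HopfAlgebra.antipode k a) * h1 }

end Hopf

section Main
variable (k : Type u) [Field k] [IsAlgClosed k]
  (A : Type u) [CommRing A] [HopfAlgebra k A] [Coalgebra.IsCocomm k A] [FiniteDimensional k A]

theorem card_groupLike (hdual : IsReduced (WithConv (A →ₗ[k] k))) :
    Nat.card (GroupLike k A) = Module.finrank k A := by
  have hli := linearIndep_groupLikeVal (R := k) (A := A)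
  haveI : Finite (GroupLike k A) := hli.finite
  apply le_antisymm
  · letI := Fintype.ofFinite (GroupLike k A)
    rw [Nat.card_eq_fintype_card]
    exact hli.fintype_card_le_finrank
  · haveI : Module.Finite k (WithConv (A →ₗ[k] k)) :=
      Module.Finite.equiv (WithConv.linearEquiv k (A →ₗ[k] k)).symm
    haveI := hdual
    haveI : Algebra.Etale k (WithConv (A →ₗ[k] k)) := HopfTraceH1.etale_of_reduced k _
    have h1 : Module.finrank k A = Module.finrank k (WithConv (A →ₗ[k] k)) := by
      rw [LinearEquiv.finrank_eq (WithConv.linearEquiv k (A →ₗ[k] k))]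
      exact (Subspace.dual_finrank_eq).symm
    rw [h1]
    refine le_trans (CartEtH1.finrank_le_card_points k (WithConv (A →ₗ[k] k))) ?_
    choose rep hrep using fun χ : WithConv (A →ₗ[k] k) →ₐ[k] k => exists_rep k A χ.toLinearMap
    let Ψ : (WithConv (A →ₗ[k] k) →ₐ[k] k) → GroupLike k A :=
      fun χ => ⟨rep χ, groupLike_of_rep k A χ (rep χ) (fun f => hrep χ f)⟩
    apply Nat.card_le_card_of_injective Ψ
    intro χ χ' h
    have h' : rep χ = rep χ' := congrArg GroupLike.val h
    apply AlgHom.ext
    intro x
    calc χ x = x.ofConv (rep χ) := hrep χ x.ofConv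
      _ = x.ofConv (rep χ') := by rw [h']
      _ = χ' x := (hrep χ' x.ofConv).symm

variable (p : ℕ) [Fact p.Prime] [CharP k p]

theorem main [IsLocalRing A] (hdual : IsReduced (WithConv (A →ₗ[k] k)))
    (hA : 1 < Module.finrank k A)
    (hsimple : ∀ I : Ideal A, I.IsHopfIdeal k →
      I = ⊥ ∨ I = RingHom.ker (Bialgebra.counitAlgHom k A)) :
    ∃ g : A, IsGroupLikeElem k g ∧ g ^ p = 1 ∧
      LinearIndependent k (fun i : Fin p => g ^ (i : ℕ)) ∧ Module.finrank k A = p := by
  classical
  have hcard := card_groupLike k A hdual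
  have hli := linearIndep_groupLikeVal (R := k) (A := A)
  haveI : Finite (GroupLike k A) := hli.finite
  letI := Fintype.ofFinite (GroupLike k A)
  haveI hnt : Nontrivial (GroupLike k A) := by
    rw [← Finite.one_lt_card_iff_nontrivial, hcard]; exact hA
  let bG : Basis (GroupLike k A) k A :=
    basisOfLinearIndependentOfCardEqFinrank hli (by rw [← Nat.card_eq_fintype_card, hcard])
  have hbG : ∀ y : GroupLike k A, bG y = y.val := fun y => by
    simp only [bG, coe_basisOfLinearIndependentOfCardEqFinrank]
  have hkey : ∀ (H : Subgroup (GroupLike k A)) (h : GroupLike k A), h ∈ H → h ≠ 1 →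
      ∀ x, x ∈ H := by
    intro H h hh hne x
    have hI := hsimple (Ideal.span {h.val - 1}) (hopfIdeal_span k A h.val h.2)
    have hI' : Ideal.span {h.val - 1} = RingHom.ker (Bialgebra.counitAlgHom k A) := by
      refine hI.resolve_left (fun h0 => hne ?_)
      have h9 : h.val - 1 ∈ (⊥ : Ideal A) := h0 ▸ Ideal.mem_span_singleton_self _
      rw [Ideal.mem_bot, sub_eq_zero] at h9
      exact GroupLike.val_injective h9
    have hx : x.val - 1 ∈ Ideal.span {h.val - 1} := by
      rw [hI', RingHom.mem_ker]
      show Coalgebra.counit (x.val - 1) = 0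
      rw [map_sub, x.2.counit_eq_one, Bialgebra.counit_one, sub_self]
    obtain ⟨a, ha⟩ := Ideal.mem_span_singleton'.mp hx
    let φ : A →ₗ[k] k := bG.constr k (fun y : GroupLike k A => if y ∈ H then (1 : k) else 0)
    have hφ : ∀ y : GroupLike k A, φ y.val = if y ∈ H then (1 : k) else 0 := by
      intro y
      rw [← hbG y]
      exact bG.constr_basis k _ y
    have hψ : φ ∘ₗ LinearMap.mulRight k (h.val - 1) = 0 := by
      apply bG.ext
      intro y
      rw [LinearMap.comp_apply, LinearMap.mulRight_apply, LinearMap.zero_apply, hbG, mul_sub,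
        mul_one, map_sub]
      have h10 : y.val * h.val = (y * h).val := rfl
      rw [h10, hφ, hφ]
      have h11 : y * h ∈ H ↔ y ∈ H := H.mul_mem_cancel_right hh
      simp only [h11, sub_self]
    have h1 := LinearMap.congr_fun hψ a
    rw [LinearMap.comp_apply, LinearMap.mulRight_apply, LinearMap.zero_apply, ha, map_sub] at h1
    have h2 : φ x.val = φ (1 : GroupLike k A).val := sub_eq_zero.mp h1
    rw [hφ, hφ, if_pos H.one_mem] at h2
    by_contra hxH
    rw [if_neg hxH] at h2
    exact zero_ne_one h2
  haveI : IsSimpleGroup (GroupLike k A) := by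
    refine { toNontrivial := hnt, eq_bot_or_eq_top_of_normal := ?_ }
    intro H _
    by_cases hH : H = ⊥
    · exact Or.inl hH
    · right
      rw [Subgroup.eq_bot_iff_forall] at hH
      push Not at hH
      obtain ⟨h, hh, hne⟩ := hH
      exact (Subgroup.eq_top_iff' H).mpr (hkey H h hh hne)
  have hprime : (Nat.card (GroupLike k A)).Prime := IsSimpleGroup.prime_card
  obtain ⟨g, hg⟩ := exists_ne (1 : GroupLike k A)
  haveI : CharP A p := charP_of_injective_algebraMap (algebraMap k A).injective p
  have hnu : ¬ IsUnit (g.val - 1) := by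
    intro hu
    have h3 := hu.map (Bialgebra.counitAlgHom k A)
    have h4 : (Bialgebra.counitAlgHom k A) (g.val - 1) = 0 := by
      show Coalgebra.counit (g.val - 1) = 0
      rw [map_sub, g.2.counit_eq_one, Bialgebra.counit_one, sub_self]
    rw [h4] at h3
    exact not_isUnit_zero h3
  have hmem : g.val - 1 ∈ IsLocalRing.maximalIdeal A := (IsLocalRing.mem_maximalIdeal _).mpr hnu
  haveI : IsArtinianRing A := IsArtinianRing.of_finite k A
  obtain ⟨N, hN⟩ := IsArtinianRing.isNilpotent_jacobson_bot (R := A)
  rw [IsLocalRing.jacobson_eq_maximalIdeal ⊥ bot_ne_top] at hN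
  have h0 : (g.val - 1) ^ N = 0 := by
    have h5 := Ideal.pow_mem_pow hmem N
    rw [hN] at h5
    simpa using h5
  have h6 : (g.val - 1) ^ (p ^ N) = 0 :=
    pow_eq_zero_of_le (Nat.lt_pow_self (Fact.out : p.Prime).one_lt).le h0
  rw [sub_pow_char_pow, one_pow, sub_eq_zero] at h6
  have h7 : g ^ (p ^ N) = 1 := GroupLike.val_injective h6
  have hord1 : orderOf g ∣ p ^ N := orderOf_dvd_of_pow_eq_one h7
  have hord2 : orderOf g ∣ Nat.card (GroupLike k A) := orderOf_dvd_natCard g
  have hord3 : orderOf g ≠ 1 := fun h => hg (orderOf_eq_one_iff.mp h)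
  have hord : orderOf g = Nat.card (GroupLike k A) :=
    ((Nat.dvd_prime hprime).mp hord2).resolve_left hord3
  have hlp : Nat.card (GroupLike k A) = p := by
    have h8 : Nat.card (GroupLike k A) ∣ p := hprime.dvd_of_dvd_pow (hord ▸ hord1)
    exact (Nat.prime_dvd_prime_iff_eq hprime Fact.out).mp h8
  have hordp : orderOf g = p := hord.trans hlp
  refine ⟨g.val, g.2, ?_, ?_, ?_⟩
  · have h12 := pow_orderOf_eq_one g
    rw [hordp] at h12
    exact congrArg GroupLike.val h12
  · have hinj : Function.Injective (fun i : Fin p => g ^ (i : ℕ)) := by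
      intro i j hij
      apply Fin.ext
      exact pow_injOn_Iio_orderOf (by rw [Set.mem_Iio, hordp]; exact i.2)
        (by rw [Set.mem_Iio, hordp]; exact j.2) hij
    exact hli.comp _ hinj
  · rw [← hcard, hlp]

end Main

end MuPH1
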