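import Mathlib
import Groth.Agent.Lib.MuP_helper1

set_option autoImplicit false
set_option maxHeartbeats 1000000

/-!
# A simple bi-infinitesimal finite commutative group scheme is `α_p` (helper1)
-/

namespace AlphaPH1

open TensorProduct WithConv Module

universe u

section Prim
variable (k : Type u) [Field k] (A : Type u) [CommRing A] [HopfAlgebra k A]

/-- Primitive elements. -/
def IsPrim (x : A) : Prop :=
  Coalgebra.comul (R := k) x = x ⊗ₜ[k] (1 : A) + (1 : A) ⊗ₜ[k] x

variable {k A}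

theorem IsPrim.counit [Nontrivial A] {x : A} (hx : IsPrim k A x) :
    Coalgebra.counit (R := k) x = 0 := by
  have hx' : Coalgebra.comul (R := k) x = x ⊗ₜ[k] (1 : A) + (1 : A) ⊗ₜ[k] x := hx
  have h := Coalgebra.rTensor_counit_comul (R := k) x
  rw [hx', map_add, LinearMap.rTensor_tmul, LinearMap.rTensor_tmul, Bialgebra.counit_one] at h
  have h2 := congrArg (TensorProduct.lid k A) h
  rw [map_add, TensorProduct.lid_tmul, TensorProduct.lid_tmul, one_smul] at h2
  have h3 : Coalgebra.counit (R := k) x • (1 : A) = 0 :=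
    add_right_cancel (h2.trans (zero_add x).symm)
  rcases smul_eq_zero.mp h3 with h4 | h4
  · exact h4
  · exact absurd h4 one_ne_zero

theorem IsPrim.antipode [Nontrivial A] {x : A} (hx : IsPrim k A x) :
    HopfAlgebra.antipode k x = -x := by
  have hx' : Coalgebra.comul (R := k) x = x ⊗ₜ[k] (1 : A) + (1 : A) ⊗ₜ[k] x := hx
  have h := HopfAlgebra.mul_antipode_rTensor_comul_apply (R := k) x
  rw [hx', map_add, LinearMap.rTensor_tmul, LinearMap.rTensor_tmul, map_add, LinearMap.mul'_apply,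
    LinearMap.mul'_apply, HopfAlgebra.antipode_one, mul_one, one_mul, hx.counit, map_zero] at h
  exact eq_neg_of_add_eq_zero_left h

theorem IsPrim.pow_char_pow [FiniteDimensional k A] [Nontrivial A] (p : ℕ) [Fact p.Prime]
    [CharP k p] {x : A} (hx : IsPrim k A x) (j : ℕ) : IsPrim k A (x ^ (p ^ j)) := by
  have hx' : Coalgebra.comul (R := k) x = x ⊗ₜ[k] (1 : A) + (1 : A) ⊗ₜ[k] x := hx
  haveI : Nontrivial (A ⊗[k] A) := by
    apply Module.nontrivial_of_finrank_pos (R := k)
    rw [Module.finrank_tensorProduct]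
    exact Nat.mul_pos Module.finrank_pos Module.finrank_pos
  haveI : CharP (A ⊗[k] A) p :=
    charP_of_injective_algebraMap (algebraMap k (A ⊗[k] A)).injective p
  show Coalgebra.comul (R := k) (x ^ (p ^ j)) = _
  rw [Bialgebra.comul_pow, hx', add_pow_char_pow, Algebra.TensorProduct.tmul_pow,
    Algebra.TensorProduct.tmul_pow, one_pow]

theorem hopfIdeal_span_prim [Nontrivial A] (y : A) (hy : IsPrim k A y) :
    (Ideal.span {y}).IsHopfIdeal k := by
  have hy' : Coalgebra.comul (R := k) y = y ⊗ₜ[k] (1 : A) + (1 : A) ⊗ₜ[k] y := hy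
  have hq : ∀ l : A, Submodule.mkQ ((Ideal.span {y}).restrictScalars k) (l * y) = 0 := by
    intro l
    rw [Submodule.mkQ_apply, Submodule.Quotient.mk_eq_zero]
    show l * y ∈ Ideal.span {y}
    exact Ideal.mem_span_singleton'.mpr ⟨l, rfl⟩
  have hco : ((Ideal.span {y}).restrictScalars k).IsCoideal := by
    refine ⟨?_, ?_⟩
    · intro z hz
      obtain ⟨a, rfl⟩ := Ideal.mem_span_singleton'.mp (show z ∈ Ideal.span {y} from hz)
      rw [Bialgebra.counit_mul, hy.counit, mul_zero]
    · intro z hz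
      obtain ⟨a, rfl⟩ := Ideal.mem_span_singleton'.mp (show z ∈ Ideal.span {y} from hz)
      have 𝓡 := Coalgebra.Repr.arbitrary k a
      rw [Bialgebra.comul_mul, hy', ← 𝓡.eq, Finset.sum_mul, map_sum]
      apply Finset.sum_eq_zero
      intro i _
      rw [mul_add, Algebra.TensorProduct.tmul_mul_tmul, Algebra.TensorProduct.tmul_mul_tmul,
        map_add, TensorProduct.map_tmul, TensorProduct.map_tmul, hq, hq, TensorProduct.zero_tmul,
        TensorProduct.tmul_zero, add_zero]
  exact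
    { toIsCoideal := hco
      antipode_mem := by
        intro z hz
        obtain ⟨a, rfl⟩ := Ideal.mem_span_singleton'.mp hz
        rw [HopfAlgebra.antipode_mul_distrib, hy.antipode, Ideal.mem_span_singleton']
        exact ⟨- HopfAlgebra.antipode k a, by ring⟩ }

theorem li_pow [FiniteDimensional k A] (y : A) (N : ℕ) (hN : y ^ N = 0)
    (hmin : ∀ m, y ^ m = 0 → N ≤ m) : LinearIndependent k (fun i : Fin N => y ^ (i : ℕ)) := by
  have hint : IsIntegral k y := Algebra.IsIntegral.isIntegral y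
  have hdvd : minpoly k y ∣ (Polynomial.X : Polynomial k) ^ N := minpoly.dvd k y (by simp [hN])
  obtain ⟨m, hmN, hassoc⟩ := (dvd_prime_pow Polynomial.prime_X _).mp hdvd
  have heq : minpoly k y = Polynomial.X ^ m :=
    Polynomial.eq_of_monic_of_associated (minpoly.monic hint) (Polynomial.monic_X_pow m) hassoc
  have hm0 : y ^ m = 0 := by
    have h1 := minpoly.aeval k y
    rw [heq] at h1
    simpa using h1
  have hmN' : m = N := le_antisymm hmN (hmin m hm0)
  have hdeg : (minpoly k y).natDegree = N := by rw [heq, Polynomial.natDegree_X_pow, hmN']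
  have h2 := linearIndependent_pow (K := k) y
  rw [hdeg] at h2
  exact h2

end Prim

section Exists
variable (k : Type u) [Field k] (A : Type u) [CommRing A] [HopfAlgebra k A]
  [Coalgebra.IsCocomm k A] [FiniteDimensional k A]

local notation "𝔇" => WithConv (A →ₗ[k] k)

theorem ev_mul (F G : 𝔇) : (F * G).ofConv 1 = F.ofConv 1 * G.ofConv 1 := by
  show LinearMap.mul' k k (TensorProduct.map F.ofConv G.ofConv (Coalgebra.comul (1 : A))) = _
  rw [Bialgebra.comul_one, Algebra.TensorProduct.one_def, TensorProduct.map_tmul,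
    LinearMap.mul'_apply]

theorem ev_one : (1 : 𝔇).ofConv 1 = 1 := by
  show algebraMap k k (Coalgebra.counit (1 : A)) = 1
  rw [Bialgebra.counit_one, map_one]

theorem exists_prim (hdual : IsLocalRing 𝔇) (hA : 1 < Module.finrank k A) :
    ∃ x : A, x ≠ 0 ∧ IsPrim k A x := by
  classical
  haveI := hdual
  haveI : Module.Finite k 𝔇 := Module.Finite.equiv (WithConv.linearEquiv k (A →ₗ[k] k)).symm
  haveI : IsNoetherianRing 𝔇 := IsNoetherianRing.of_finite k 𝔇
  have hfr : Module.finrank k 𝔇 = Module.finrank k A := by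
    rw [LinearEquiv.finrank_eq (WithConv.linearEquiv k (A →ₗ[k] k))]
    exact Subspace.dual_finrank_eq
  let ev : 𝔇 →ₗ[k] k :=
    (LinearMap.applyₗ (1 : A)) ∘ₗ (WithConv.linearEquiv k (A →ₗ[k] k)).toLinearMap
  have hev : ∀ F : 𝔇, ev F = F.ofConv 1 := fun F => rfl
  have hker : ∀ F : 𝔇, ev F = 0 → F ∈ IsLocalRing.maximalIdeal 𝔇 := by
    intro F hF
    rw [IsLocalRing.mem_maximalIdeal, mem_nonunits_iff]
    intro hu
    obtain ⟨G, hG⟩ := hu.exists_right_inv
    have h1 := congrArg ev hG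
    rw [hev, hev, ev_mul, ev_one, ← hev F, hF, zero_mul] at h1
    exact zero_ne_one h1
  have hscal : ∀ c : k, c • (1 : 𝔇) ∈ IsLocalRing.maximalIdeal 𝔇 → c = 0 := by
    intro c hc
    by_contra hc0
    have hu : IsUnit (c • (1 : 𝔇)) := by
      rw [← Algebra.algebraMap_eq_smul_one]
      exact (IsUnit.mk0 c hc0).map (algebraMap k 𝔇)
    exact (IsLocalRing.notMem_maximalIdeal.mpr hu) hc
  have hdecomp : ∀ F : 𝔇, F - ev F • (1 : 𝔇) ∈ IsLocalRing.maximalIdeal 𝔇 := by
    intro F
    apply hker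
    rw [map_sub, map_smul, hev 1, ev_one, smul_eq_mul, mul_one, sub_self]
  have hn0 : IsLocalRing.maximalIdeal 𝔇 ≠ ⊥ := by
    intro h0
    have h1 : Module.finrank k 𝔇 ≤ 1 := by
      apply finrank_le_one (1 : 𝔇)
      intro F
      refine ⟨ev F, ?_⟩
      have h2 := hdecomp F
      rw [h0, Ideal.mem_bot, sub_eq_zero] at h2
      exact h2.symm
    omega
  have hnn : ¬ (IsLocalRing.maximalIdeal 𝔇 ≤
      IsLocalRing.maximalIdeal 𝔇 * IsLocalRing.maximalIdeal 𝔇) := by
    intro hle
    apply hn0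
    exact Submodule.eq_bot_of_le_smul_of_le_jacobson_bot _ _ (IsNoetherian.noetherian _)
      (by rw [smul_eq_mul]; exact hle) (IsLocalRing.maximalIdeal_le_jacobson ⊥)
  obtain ⟨u, hu, hu2⟩ := SetLike.not_le_iff_exists.mp hnn
  let W : Submodule k 𝔇 :=
    (IsLocalRing.maximalIdeal 𝔇 * IsLocalRing.maximalIdeal 𝔇).restrictScalars k ⊔
      Submodule.span k {(1 : 𝔇)}
  have huW : u ∉ W := by
    intro hmem
    obtain ⟨w, hw, c1, hc1, hsum⟩ := Submodule.mem_sup.mp hmem
    obtain ⟨c, rfl⟩ := Submodule.mem_span_singleton.mp hc1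
    have hw' : w ∈ IsLocalRing.maximalIdeal 𝔇 * IsLocalRing.maximalIdeal 𝔇 := hw
    have hc : c • (1 : 𝔇) ∈ IsLocalRing.maximalIdeal 𝔇 := by
      have h1 : c • (1 : 𝔇) = u - w := by rw [← hsum]; abel
      rw [h1]
      exact Ideal.sub_mem _ hu (Ideal.mul_le_left hw')
    have hc0 := hscal c hc
    rw [hc0, zero_smul, add_zero] at hsum
    exact hu2 (hsum ▸ hw')
  obtain ⟨δ, hδu, hδW⟩ := Submodule.exists_dual_map_eq_bot_of_notMem huW inferInstance
  have hδ0 : ∀ w ∈ W, δ w = 0 := by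
    intro w hw
    have h1 : δ w ∈ W.map δ := Submodule.mem_map_of_mem hw
    rw [hδW] at h1
    exact (Submodule.mem_bot k).mp h1
  have hδ1 : δ 1 = 0 := hδ0 1 (Submodule.mem_sup_right (Submodule.mem_span_singleton_self _))
  have hδ2 : ∀ F G : 𝔇, F ∈ IsLocalRing.maximalIdeal 𝔇 → G ∈ IsLocalRing.maximalIdeal 𝔇 →
      δ (F * G) = 0 := by
    intro F G hF hG
    exact hδ0 _ (Submodule.mem_sup_left (Ideal.mul_mem_mul hF hG))
  have hder : ∀ F G : 𝔇, δ (F * G) = ev F * δ G + δ F * ev G := by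
    intro F G
    have h1 := hδ2 _ _ (hdecomp F) (hdecomp G)
    have h2 : (F - ev F • (1 : 𝔇)) * (G - ev G • (1 : 𝔇)) =
        F * G - ev G • F - ev F • G + (ev F * ev G) • (1 : 𝔇) := by
      simp only [Algebra.smul_def, mul_one, map_mul]
      ring
    rw [h2, map_add, map_sub, map_sub, map_smul, map_smul, map_smul, hδ1, smul_eq_mul,
      smul_eq_mul, smul_eq_mul, mul_zero, add_zero] at h1
    linear_combination h1
  obtain ⟨x, hx⟩ := MuPH1.exists_rep k A δ
  refine ⟨x, ?_, ?_⟩
  · rintro rfl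
    apply hδu
    have h1 := hx u.ofConv
    rw [WithConv.toConv_ofConv, map_zero] at h1
    exact h1
  · show Coalgebra.comul (R := k) x = x ⊗ₜ[k] (1 : A) + (1 : A) ⊗ₜ[k] x
    rw [← sub_eq_zero]
    apply MuPH1.sep
    intro f g
    rw [map_sub, map_sub, map_add, map_add, TensorProduct.map_tmul, TensorProduct.map_tmul,
      LinearMap.mul'_apply, LinearMap.mul'_apply, sub_eq_zero]
    have h3 : LinearMap.mul' k k (TensorProduct.map f g (Coalgebra.comul x)) =
        (toConv f * toConv g : 𝔇).ofConv x := rfl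
    have h4 := hx ((toConv f * toConv g : 𝔇).ofConv)
    rw [WithConv.toConv_ofConv, hder, hx, hx] at h4
    rw [h3, ← h4]
    show f 1 * g x + f x * g 1 = f x * g 1 + f 1 * g x
    ring

end Exists

section Main
variable (k : Type u) [Field k] (p : ℕ) [Fact p.Prime] [CharP k p]
  (A : Type u) [CommRing A] [HopfAlgebra k A] [Coalgebra.IsCocomm k A] [FiniteDimensional k A]
  [IsLocalRing A]

theorem main (hdual : IsLocalRing (WithConv (A →ₗ[k] k))) (hA : 1 < Module.finrank k A)
    (hsimple : ∀ I : Ideal A, I.IsHopfIdeal k →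
      I = ⊥ ∨ I = RingHom.ker (Bialgebra.counitAlgHom k A)) :
    ∃ x : A, Coalgebra.comul x = x ⊗ₜ[k] (1 : A) + (1 : A) ⊗ₜ[k] x ∧ x ^ p = 0 ∧
      LinearIndependent k (fun i : Fin p => x ^ (i : ℕ)) ∧ Module.finrank k A = p := by
  classical
  have hp : p.Prime := Fact.out
  obtain ⟨x, hx0, hxP⟩ := exists_prim k A hdual hA
  haveI : IsArtinianRing A := IsArtinianRing.of_finite k A
  have hnil : ∀ z : A, Coalgebra.counit (R := k) z = 0 → ∃ M : ℕ, z ^ M = 0 := by
    intro z hz
    have hnu : ¬ IsUnit z := by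
      intro hu
      have h3 := hu.map (Bialgebra.counitAlgHom k A)
      have h4 : (Bialgebra.counitAlgHom k A) z = 0 := hz
      rw [h4] at h3
      exact not_isUnit_zero h3
    have hmem : z ∈ IsLocalRing.maximalIdeal A := (IsLocalRing.mem_maximalIdeal _).mpr hnu
    obtain ⟨N, hN⟩ := IsArtinianRing.isNilpotent_jacobson_bot (R := A)
    rw [IsLocalRing.jacobson_eq_maximalIdeal ⊥ bot_ne_top] at hN
    refine ⟨N, ?_⟩
    have h5 := Ideal.pow_mem_pow hmem N
    rw [hN] at h5
    simpa using h5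
  obtain ⟨M, hM⟩ := hnil x hxP.counit
  have hex : ∃ i : ℕ, x ^ (p ^ i) = 0 :=
    ⟨M, pow_eq_zero_of_le (Nat.lt_pow_self hp.one_lt).le hM⟩
  obtain ⟨i₀, hi₀, hmin⟩ : ∃ i₀, x ^ (p ^ i₀) = 0 ∧ ∀ i, x ^ (p ^ i) = 0 → i₀ ≤ i :=
    ⟨Nat.find hex, Nat.find_spec hex, fun i hi => Nat.find_min' hex hi⟩
  have hi₀ne : i₀ ≠ 0 := by
    intro h0
    rw [h0, pow_zero, pow_one] at hi₀
    exact hx0 hi₀
  obtain ⟨j, hj⟩ := Nat.exists_eq_succ_of_ne_zero hi₀ne
  have hy0 : x ^ (p ^ j) ≠ 0 := by
    intro h0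
    have h1 := hmin j h0
    omega
  have hyp : (x ^ (p ^ j)) ^ p = 0 := by
    rw [← pow_mul, ← pow_succ]
    rw [hj] at hi₀
    exact hi₀
  have hyP : IsPrim k A (x ^ (p ^ j)) := hxP.pow_char_pow p j
  generalize x ^ (p ^ j) = y at hy0 hyp hyP
  have hI := hsimple (Ideal.span {y}) (hopfIdeal_span_prim y hyP)
  have hI' : Ideal.span {y} = RingHom.ker (Bialgebra.counitAlgHom k A) := by
    refine hI.resolve_left (fun h0 => hy0 ?_)
    have h9 : y ∈ (⊥ : Ideal A) := h0 ▸ Ideal.mem_span_singleton_self _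
    exact (Ideal.mem_bot).mp h9
  have hspan_aux : ∀ n : ℕ, ∀ a : A, ∃ (c : ℕ → k) (b : A),
      a = ∑ j ∈ Finset.range n, c j • y ^ j + y ^ n * b := by
    intro n
    induction n with
    | zero => intro a; exact ⟨fun _ => 0, a, by simp⟩
    | succ n ih =>
      intro a
      obtain ⟨c, b, hab⟩ := ih a
      have hb : b - algebraMap k A (Coalgebra.counit b) ∈ Ideal.span {y} := by
        rw [hI', RingHom.mem_ker]
        show Coalgebra.counit (b - algebraMap k A (Coalgebra.counit b)) = 0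
        rw [map_sub, Bialgebra.counit_algebraMap, sub_self]
      obtain ⟨b', hb'⟩ := Ideal.mem_span_singleton'.mp hb
      refine ⟨fun j => if j = n then Coalgebra.counit b else c j, b', ?_⟩
      rw [Finset.sum_range_succ]
      beta_reduce
      rw [if_pos rfl]
      have hsum : ∑ j ∈ Finset.range n, (if j = n then Coalgebra.counit b else c j) • y ^ j =
          ∑ j ∈ Finset.range n, c j • y ^ j := by
        apply Finset.sum_congr rfl
        intro j hj
        rw [if_neg (Finset.mem_range.mp hj).ne]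
      rw [hsum, hab, Algebra.smul_def, pow_succ]
      linear_combination (y ^ n) * hb'.symm
  have hspan : ∀ a : A, a ∈ Submodule.span k (Set.range (fun i : Fin p => y ^ (i : ℕ))) := by
    intro a
    obtain ⟨c, b, hab⟩ := hspan_aux p a
    rw [hyp, zero_mul, add_zero] at hab
    rw [hab]
    exact Submodule.sum_mem _ (fun j hj => Submodule.smul_mem _ _
      (Submodule.subset_span ⟨⟨j, Finset.mem_range.mp hj⟩, rfl⟩))
  have hexN : ∃ n, y ^ n = 0 := ⟨p, hyp⟩
  obtain ⟨N, hN0, hNmin⟩ : ∃ N, y ^ N = 0 ∧ ∀ m, y ^ m = 0 → N ≤ m :=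
    ⟨Nat.find hexN, Nat.find_spec hexN, fun m hm => Nat.find_min' hexN hm⟩
  have hNp : N = p := by
    by_contra hne
    have hlt : N < p := lt_of_le_of_ne (hNmin p hyp) hne
    have hN2 : 2 ≤ N := by
      rcases N with _ | _ | N
      · exact absurd hN0 (by rw [pow_zero]; exact one_ne_zero)
      · exact absurd (by rwa [pow_one] at hN0) hy0
      · omega
    have hyP' : Coalgebra.comul (R := k) y = y ⊗ₜ[k] (1 : A) + (1 : A) ⊗ₜ[k] y := hyP
    have h1 : Coalgebra.comul (R := k) (y ^ N) = 0 := by rw [hN0, map_zero]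
    rw [Bialgebra.comul_pow, hyP', add_pow] at h1
    have h2 := congrArg (fun t => ((y ^ (N - 2)) ⊗ₜ[k] (1 : A)) * t) h1
    simp only [mul_zero, Finset.mul_sum] at h2
    have hterm : ∀ m : ℕ, ((y ^ (N - 2)) ⊗ₜ[k] (1 : A)) *
        ((y ⊗ₜ[k] (1 : A)) ^ m * ((1 : A) ⊗ₜ[k] y) ^ (N - m) * ((N.choose m : ℕ) : A ⊗[k] A)) =
        ((y ^ (N - 2 + m)) ⊗ₜ[k] (y ^ (N - m))) * ((N.choose m : ℕ) : A ⊗[k] A) := by
      intro m
      simp only [Algebra.TensorProduct.tmul_pow, one_pow, ← mul_assoc,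
        Algebra.TensorProduct.tmul_mul_tmul, mul_one, one_mul, ← pow_add]
    have h3 : ∑ m ∈ Finset.range (N + 1),
        ((y ^ (N - 2 + m)) ⊗ₜ[k] (y ^ (N - m))) * ((N.choose m : ℕ) : A ⊗[k] A) = 0 := by
      rw [← h2]
      exact Finset.sum_congr rfl (fun m _ => (hterm m).symm)
    rw [Finset.sum_eq_single 1] at h3
    · have hNk : ((N : ℕ) : k) ≠ 0 := by
        intro h0
        have h4 := (CharP.cast_eq_zero_iff k p N).mp h0
        exact absurd (Nat.le_of_dvd (by omega) h4) (by omega)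
      have hunit : IsUnit ((N : ℕ) : A ⊗[k] A) := by
        have h4 := (IsUnit.mk0 _ hNk).map (algebraMap k (A ⊗[k] A))
        rwa [map_natCast] at h4
      have h21 : N - 2 + 1 = N - 1 := by omega
      rw [Nat.choose_one_right, h21] at h3
      have h4 : (y ^ (N - 1)) ⊗ₜ[k] (y ^ (N - 1)) = 0 := hunit.mul_left_eq_zero.mp h3
      have h5 : y ^ (N - 1) = 0 := by
        rw [← Module.forall_dual_apply_eq_zero_iff k]
        intro f
        have h6 := congrArg (fun t => LinearMap.mul' k k (TensorProduct.map f f t)) h4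
        simp only [TensorProduct.map_tmul, LinearMap.mul'_apply, map_zero] at h6
        exact mul_self_eq_zero.mp h6
      have h7 := hNmin (N - 1) h5
      omega
    · intro m hm hm1
      rcases Nat.lt_or_ge m 1 with hlt1 | hge1
      · have hm0 : m = 0 := by omega
        rw [hm0, Nat.sub_zero, hN0, TensorProduct.tmul_zero, zero_mul]
      · have hle : N ≤ N - 2 + m := by omega
        rw [pow_eq_zero_of_le hle hN0, TensorProduct.zero_tmul, zero_mul]
    · intro h1n
      exact absurd (Finset.mem_range.mpr (by omega)) h1n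
  have hli : LinearIndependent k (fun i : Fin p => y ^ (i : ℕ)) :=
    li_pow (k := k) y p hyp (fun m hm => by rw [← hNp]; exact hNmin m hm)
  refine ⟨y, hyP, hyp, hli, ?_⟩
  have hb := Basis.mk hli (fun a _ => hspan a)
  rw [Module.finrank_eq_card_basis hb, Fintype.card_fin]

end Main

end AlphaPH1
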