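import Mathlib

/-!
# Determinant of an antisymmetric matrix is a square (generic Pfaffian, existence only)
-/

set_option autoImplicit false

namespace Groth.Agent.Lib.AltDetH3

open Matrix

/-- Reindexing equivalence that moves two distinct indices `i`, `j` to the front. -/
def pivotEquiv {ι : Type*} [DecidableEq ι] (i j : ι) (hij : i ≠ j) :
    Fin 2 ⊕ {k : ι // k ≠ i ∧ k ≠ j} ≃ ι where
  toFun := Sum.elim ![i, j] Subtype.val
  invFun k := if hi : k = i then Sum.inl 0 else
    if hj : k = j then Sum.inl 1 else Sum.inr ⟨k, hi, hj⟩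
  left_inv := by
    rintro (a | ⟨k, hk1, hk2⟩)
    · fin_cases a
      · simp
      · simp [hij.symm]
    · simp [hk1, hk2]
  right_inv := by
    intro k
    by_cases hi : k = i
    · simp [hi]
    · by_cases hj : k = j
      · subst hj
        simp [hi]
      · simp [hi, hj]

/-- Over a field of characteristic `≠ 2`, the determinant of an antisymmetric matrix is a
square. -/
theorem isSquare_det_of_antisymm {K : Type*} [Field K] (h2 : (2 : K) ≠ 0) :
    ∀ (n : ℕ) {ι : Type} [Fintype ι] [DecidableEq ι], Fintype.card ι = n →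
      ∀ M : Matrix ι ι K, Mᵀ = -M → IsSquare M.det := by
  intro n
  induction n using Nat.strong_induction_on with
  | _ n ih =>
    intro ι _ _ hcard M hM
    have hentry : ∀ a b, M a b = - M b a := by
      intro a b
      have := congrFun (congrFun hM b) a
      simpa [Matrix.transpose_apply] using this
    have hdiag : ∀ a, M a a = 0 := by
      intro a
      have h := hentry a a
      have h' : (2 : K) * M a a = 0 := by linear_combination h
      rcases mul_eq_zero.mp h' with h'' | h''
      · exact absurd h'' h2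
      · exact h''
    by_cases hM0 : M = 0
    · subst hM0
      rcases isEmpty_or_nonempty ι with he | hne
      · rw [Matrix.det_isEmpty]; exact ⟨1, by simp⟩
      · haveI := hne
        rw [Matrix.det_zero]; exact ⟨0, by simp⟩
    · obtain ⟨i, j, hne⟩ : ∃ i j, M i j ≠ 0 := by
        by_contra hcon
        push_neg at hcon
        exact hM0 (Matrix.ext hcon)
      have hij : i ≠ j := by
        rintro rfl
        exact hne (hdiag i)
      set e := pivotEquiv i j hij with he
      set M' : Matrix (Fin 2 ⊕ {k : ι // k ≠ i ∧ k ≠ j}) (Fin 2 ⊕ {k : ι // k ≠ i ∧ k ≠ j}) K :=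
        M.submatrix e e with hM'
      have hdet : M'.det = M.det := Matrix.det_submatrix_equiv_self e M
      have hM'T : M'ᵀ = -M' := by
        rw [hM', Matrix.transpose_submatrix, hM]; rfl
      set A := M'.toBlocks₁₁ with hA
      set B := M'.toBlocks₁₂ with hB
      set C := M'.toBlocks₂₁ with hC
      set D := M'.toBlocks₂₂ with hD
      have hblocks : M' = Matrix.fromBlocks A B C D := (Matrix.fromBlocks_toBlocks M').symm
      have hT : Matrix.fromBlocks Aᵀ Cᵀ Bᵀ Dᵀ = Matrix.fromBlocks (-A) (-B) (-C) (-D) := by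
        rw [← Matrix.fromBlocks_transpose, ← Matrix.fromBlocks_neg, ← hblocks, hM'T]
      rw [Matrix.fromBlocks_inj] at hT
      obtain ⟨hAT, hCT, hBT, hDT⟩ := hT
      have hAdet : A.det = M i j * M i j := by
        rw [Matrix.det_fin_two]
        have h00 : A 0 0 = M i i := rfl
        have h01 : A 0 1 = M i j := rfl
        have h10 : A 1 0 = M j i := rfl
        have h11 : A 1 1 = M j j := rfl
        rw [h00, h01, h10, h11, hdiag i, hdiag j, hentry j i]
        ring
      have hAunit : IsUnit A.det := by
        rw [hAdet]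
        exact (mul_ne_zero hne hne).isUnit
      letI : Invertible A := Matrix.invertibleOfIsUnitDet A hAunit
      have hXT : (⅟A)ᵀ = -⅟A := by
        have h1 : A * (-(⅟A)ᵀ) = 1 := by
          have : Aᵀ * (⅟A)ᵀ = 1 := by
            rw [← Matrix.transpose_mul, invOf_mul_self]; simp
          rw [hAT] at this
          rw [Matrix.mul_neg, ← Matrix.neg_mul]; exact this
        have h2' : -(⅟A)ᵀ = ⅟A := by
          calc -(⅟A)ᵀ = ⅟A * (A * (-(⅟A)ᵀ)) := by
                rw [← Matrix.mul_assoc, invOf_mul_self, Matrix.one_mul]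
            _ = ⅟A := by rw [h1, Matrix.mul_one]
        calc (⅟A)ᵀ = -(-(⅟A)ᵀ) := (neg_neg _).symm
          _ = -⅟A := by rw [h2']
      have hS : (D - C * ⅟A * B)ᵀ = -(D - C * ⅟A * B) := by
        rw [Matrix.transpose_sub, Matrix.transpose_mul, Matrix.transpose_mul, hDT, hBT, hCT, hXT]
        simp only [Matrix.neg_mul, Matrix.mul_neg, neg_neg, Matrix.mul_assoc]
        abel
      have hlt : Fintype.card {k : ι // k ≠ i ∧ k ≠ j} < n := by
        rw [← hcard]
        exact Fintype.card_subtype_lt (x := i) (by simp)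
      obtain ⟨s, hs⟩ := ih _ hlt rfl (D - C * ⅟A * B) hS
      rw [← hdet, hblocks, Matrix.det_fromBlocks₁₁, hAdet, hs]
      exact ⟨M i j * s, by ring⟩

section generic

variable (ι : Type) [Fintype ι] [DecidableEq ι]

/-- The generic antisymmetric matrix `Y - Yᵀ` over `ℤ[y_{ij}]`. -/
noncomputable def genAlt : Matrix ι ι (MvPolynomial (ι × ι) ℤ) :=
  fun i j => MvPolynomial.X (i, j) - MvPolynomial.X (j, i)

theorem genAlt_transpose : (genAlt ι)ᵀ = -(genAlt ι) := by
  ext i j
  simp [genAlt, Matrix.transpose_apply]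

/-- The determinant of the generic antisymmetric matrix is a square. -/
theorem exists_sq_genAlt : ∃ q : MvPolynomial (ι × ι) ℤ, (genAlt ι).det = q ^ 2 := by
  classical
  set R₀ := MvPolynomial (ι × ι) ℤ
  set K := FractionRing R₀
  have hinj : Function.Injective (algebraMap R₀ K) := IsFractionRing.injective R₀ K
  have h2 : (2 : K) ≠ 0 := by
    have h2' : (2 : R₀) ≠ 0 := by
      intro h
      have h' := congrArg (MvPolynomial.constantCoeff (R := ℤ) (σ := ι × ι)) h
      rw [map_ofNat, map_zero] at h'
      norm_num at h'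
    have : (2 : K) = algebraMap R₀ K 2 := (map_ofNat (algebraMap R₀ K) 2).symm
    rw [this, Ne, map_eq_zero_iff _ hinj]
    exact h2'
  have hT : ((algebraMap R₀ K).mapMatrix (genAlt ι))ᵀ = -((algebraMap R₀ K).mapMatrix (genAlt ι)) := by
    rw [RingHom.mapMatrix_apply, ← Matrix.transpose_map, genAlt_transpose]
    ext i j
    simp
  obtain ⟨s, hs⟩ := isSquare_det_of_antisymm h2 _ rfl _ hT
  rw [← RingHom.map_det] at hs
  have hint : IsIntegral R₀ s := by
    apply IsIntegral.of_pow (n := 2) (by norm_num)
    rw [pow_two, ← hs]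
    exact isIntegral_algebraMap
  obtain ⟨q, hq⟩ := IsIntegrallyClosed.isIntegral_iff.mp hint
  refine ⟨q, hinj ?_⟩
  rw [hs, map_pow, hq, pow_two]

/-- A choice of generic Pfaffian (up to sign). -/
noncomputable def genPf : MvPolynomial (ι × ι) ℤ := (exists_sq_genAlt ι).choose

theorem genPf_sq : (genAlt ι).det = (genPf ι) ^ 2 := (exists_sq_genAlt ι).choose_spec

variable {ι}

/-- Specialisation: over a ring in which `2` is invertible, the determinant of an antisymmetric
matrix is the square of the specialised Pfaffian. -/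
theorem det_eq_sq {R : Type*} [CommRing R] [Invertible (2 : R)] (M : Matrix ι ι R)
    (hM : Mᵀ = -M) :
    M.det = (MvPolynomial.eval₂ (Int.castRingHom R) (fun p : ι × ι => ⅟(2 : R) * M p.1 p.2)
      (genPf ι)) ^ 2 := by
  set φ : MvPolynomial (ι × ι) ℤ →+* R :=
    MvPolynomial.eval₂Hom (Int.castRingHom R) (fun p : ι × ι => ⅟(2 : R) * M p.1 p.2) with hφ
  have hentry : ∀ a b, M b a = - M a b := by
    intro a b
    have := congrFun (congrFun hM a) b
    simpa [Matrix.transpose_apply] using this
  have hmap : φ.mapMatrix (genAlt ι) = M := by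
    ext i j
    simp only [RingHom.mapMatrix_apply, Matrix.map_apply, genAlt, hφ,
      MvPolynomial.coe_eval₂Hom, MvPolynomial.eval₂_X, MvPolynomial.eval₂_sub]
    rw [hentry i j]
    have h2 : ⅟(2 : R) * 2 = 1 := invOf_mul_self (2 : R)
    linear_combination (M i j) * h2
  calc M.det = (φ.mapMatrix (genAlt ι)).det := by rw [hmap]
    _ = φ ((genAlt ι).det) := (RingHom.map_det φ _).symm
    _ = (φ (genPf ι)) ^ 2 := by rw [genPf_sq, map_pow]
    _ = _ := rfl

/-- Polynomial version: for a matrix `𝕄` of polynomials over `R` there is a single polynomial `Pf`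
whose square computes the determinant of `𝕄` at every point where `𝕄` is antisymmetric. -/
theorem exists_poly {R : Type*} [CommRing R] [Invertible (2 : R)] {σ : Type*}
    (𝕄 : Matrix ι ι (MvPolynomial σ R)) :
    ∃ Pf : MvPolynomial σ R, ∀ a : σ → R,
      (𝕄.map (MvPolynomial.eval a))ᵀ = -(𝕄.map (MvPolynomial.eval a)) →
      (𝕄.map (MvPolynomial.eval a)).det = (MvPolynomial.eval a Pf) ^ 2 := by
  refine ⟨MvPolynomial.eval₂ (Int.castRingHom (MvPolynomial σ R))
    (fun p : ι × ι => MvPolynomial.C (⅟(2 : R)) * 𝕄 p.1 p.2) (genPf ι), ?_⟩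
  intro a ha
  rw [det_eq_sq _ ha]
  congr 1
  rw [MvPolynomial.eval₂_comp_left (MvPolynomial.eval a)]
  congr 1
  · exact RingHom.ext_int _ _
  · funext p
    simp

end generic

end Groth.Agent.Lib.AltDetH3
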