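import Mathlib
import Groth.Prelude.Def_W4c5normfunctorschNorm

/-!
# Symmetric tensors preserve the alternating relations of a projective module (helper1)
-/

set_option autoImplicit false
universe u
open scoped TensorProduct
open Module

namespace Groth.Agent.Lib.AltSpanH1

open PiTensorProduct

variable (R : Type u) [CommRing R]

section mod

variable (P : Type u) [AddCommGroup P] [Module R P] (d : ℕ)

/-- the quotient map -/
noncomputable abbrev qq : (⨂[R] _ : Fin d, P) →ₗ[R] ((⨂[R] _ : Fin d, P) ⧸ SymTen.altSpan R P d) :=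
  (SymTen.altSpan R P d).mkQ

/-- the canonical alternating map -/
noncomputable def altP : P [⋀^Fin d]→ₗ[R] ((⨂[R] _ : Fin d, P) ⧸ SymTen.altSpan R P d) :=
  { (qq R P d).compMultilinearMap (PiTensorProduct.tprod R) with
    map_eq_zero_of_eq' := fun v i j hv hij =>
      (Submodule.Quotient.mk_eq_zero _).2 (Submodule.subset_span ⟨v, i, j, hij, hv, rfl⟩) }

theorem altP_apply (p : Fin d → P) : altP R P d p = qq R P d (tprod R p) := rfl

variable {R P d}

theorem map_mem_altSpan {P' : Type u} [AddCommGroup P'] [Module R P'] (g : P →ₗ[R] P')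
    {x : ⨂[R] _ : Fin d, P} (hx : x ∈ SymTen.altSpan R P d) :
    PiTensorProduct.map (fun _ : Fin d => g) x ∈ SymTen.altSpan R P' d := by
  induction hx using Submodule.span_induction with
  | mem x hx =>
    obtain ⟨p, i, j, hij, hp, rfl⟩ := hx
    rw [PiTensorProduct.map_tprod]
    exact Submodule.subset_span ⟨fun k => g (p k), i, j, hij, congrArg g hp, rfl⟩
  | zero => rw [map_zero]; exact Submodule.zero_mem _
  | add x y _ _ hx hy => rw [map_add]; exact Submodule.add_mem _ hx hy
  | smul r x _ hx => rw [map_smul]; exact Submodule.smul_mem _ r hx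

theorem mem_altSpan_of_invariant_of_basis {I : Type u} (b : Basis I R P) (i j : Fin d) (hij : i ≠ j)
    (w : ⨂[R] _ : Fin d, P)
    (hw : PiTensorProduct.reindex R (fun _ : Fin d => P) (Equiv.swap i j) w = w) :
    w ∈ SymTen.altSpan R P d := by
  classical
  rw [← Submodule.Quotient.mk_eq_zero]
  show qq R P d w = 0
  obtain ⟨BT, hBT⟩ : ∃ BT : Basis (Fin d → I) R (⨂[R] _ : Fin d, P),
      BT = Basis.piTensorProduct (fun _ : Fin d => b) := ⟨_, rfl⟩
  obtain ⟨τ, hτ⟩ : ∃ τ : Equiv.Perm (Fin d), τ = Equiv.swap i j := ⟨_, rfl⟩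
  have hττ : ∀ k, τ (τ k) = k := fun k => by rw [hτ, Equiv.swap_apply_self]
  have hBTK : ∀ K : Fin d → I, BT K = tprod R (fun k => b (K k)) := fun K => by
    rw [hBT]; exact Basis.piTensorProduct_apply _ K
  have hre : ∀ K, PiTensorProduct.reindex R (fun _ : Fin d => P) τ (BT K) = BT (K ∘ τ) := by
    intro K
    rw [hBTK, hBTK, PiTensorProduct.reindex_tprod]
    congr 1
    funext k
    rw [hτ, Equiv.symm_swap]
    rfl
  have hc : ∀ K, BT.repr w (K ∘ τ) = BT.repr w K := by
    intro K
    have h1 : (Finsupp.lapply (K ∘ τ) ∘ₗ BT.repr.toLinearMap) ∘ₗ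
        (PiTensorProduct.reindex R (fun _ : Fin d => P) τ).toLinearMap =
        Finsupp.lapply K ∘ₗ BT.repr.toLinearMap := by
      apply BT.ext; intro K'
      simp only [LinearMap.comp_apply, LinearEquiv.coe_coe, hre, Basis.repr_self,
        Finsupp.lapply_apply, Finsupp.single_apply]
      congr 1
      apply propext
      constructor
      · intro h
        funext k
        have := congrFun h (τ k)
        simpa [hττ] using this
      · intro h; rw [h]
    have h2 := LinearMap.congr_fun h1 w
    simp only [LinearMap.comp_apply, LinearEquiv.coe_coe, Finsupp.lapply_apply] at h2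
    rw [← hτ] at hw
    rw [hw] at h2
    exact h2
  have hsum : w = ∑ K ∈ (BT.repr w).support, BT.repr w K • BT K := by
    conv_lhs => rw [← BT.linearCombination_repr w]
    rw [Finsupp.linearCombination_apply, Finsupp.sum]
  rw [hsum, map_sum]
  apply Finset.sum_involution (fun K _ => K ∘ τ)
  · intro K hK
    rw [hc K, map_smul, map_smul, ← smul_add, hBTK, hBTK]
    have := (altP R P d).map_swap_add (fun k => b (K k)) hij
    rw [altP_apply, altP_apply, ← hτ] at this
    rw [add_comm]
    have e : (fun k => b ((K ∘ τ) k)) = (fun k => b (K k)) ∘ ⇑τ := rfl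
    rw [e, this, smul_zero]
  · intro K hK hne heq
    apply hne
    have hKij : K j = K i := by
      have := congrFun heq i
      simpa [hτ] using this
    rw [hBTK, map_smul]
    have : qq R P d (tprod R (fun k => b (K k))) = 0 :=
      (Submodule.Quotient.mk_eq_zero _).2
        (Submodule.subset_span ⟨_, i, j, hij, congrArg b hKij.symm, rfl⟩)
    rw [this, smul_zero]
  · intro K hK
    rw [Finsupp.mem_support_iff] at hK ⊢
    rwa [hc]
  · intro K hK
    funext k
    simp [hττ]

theorem mem_altSpan_of_invariant [Module.Projective R P] (i j : Fin d) (hij : i ≠ j)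
    (w : ⨂[R] _ : Fin d, P)
    (hw : PiTensorProduct.reindex R (fun _ : Fin d => P) (Equiv.swap i j) w = w) :
    w ∈ SymTen.altSpan R P d := by
  obtain ⟨s, hs⟩ := Module.projective_def'.1 ‹Module.Projective R P›
  have h1 : PiTensorProduct.map (fun _ : Fin d => s) w ∈ SymTen.altSpan R (P →₀ R) d := by
    apply mem_altSpan_of_invariant_of_basis Finsupp.basisSingleOne i j hij
    have := PiTensorProduct.map_reindex (fun _ : Fin d => s) (Equiv.swap i j) w
    rw [← this, hw]
  have h2 : PiTensorProduct.map (fun _ : Fin d => Finsupp.linearCombination R (id : P → P))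
      (PiTensorProduct.map (fun _ : Fin d => s) w) = w := by
    rw [← LinearMap.comp_apply, ← PiTensorProduct.map_comp, hs, PiTensorProduct.map_id]
    rfl
  rw [← h2]
  exact map_mem_altSpan _ h1

end mod

section act

variable {R} {A : Type u} [CommRing A] [Algebra R A]
  {P : Type u} [AddCommGroup P] [Module R P] [Module A P] [IsScalarTower R A P] {d : ℕ}

theorem tpowAct_tprod (α : Fin d → A) (p : Fin d → P) :
    SymTen.tpowAct R A P d (tprod R α) (tprod R p) = tprod R (fun k => α k • p k) := by
  simp [SymTen.tpowAct, PiTensorProduct.lift.tprod, MultilinearMap.compLinearMap_apply,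
    PiTensorProduct.mapMultilinear_apply, PiTensorProduct.map_tprod]

theorem reindex_tpowAct (σ : Equiv.Perm (Fin d)) (a : ⨂[R] _ : Fin d, A) (y : ⨂[R] _ : Fin d, P) :
    PiTensorProduct.reindex R (fun _ : Fin d => P) σ (SymTen.tpowAct R A P d a y) =
      SymTen.tpowAct R A P d (PiTensorProduct.reindex R (fun _ : Fin d => A) σ a)
        (PiTensorProduct.reindex R (fun _ : Fin d => P) σ y) := by
  induction a using PiTensorProduct.induction_on with
  | smul_tprod r α =>
    induction y using PiTensorProduct.induction_on with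
    | smul_tprod r' p =>
      simp only [map_smul, LinearMap.smul_apply, PiTensorProduct.reindex_tprod, tpowAct_tprod]
    | add y y' h h' => simp only [map_add, h, h']
  | add a a' h h' => simp only [map_add, LinearMap.add_apply, h, h']

theorem main17910 [Module.Projective R P]
    (a : ⨂[R] _ : Fin d, A) (ha : a ∈ SymTen.TS R A d)
    (x : ⨂[R] _ : Fin d, P) (hx : x ∈ SymTen.altSpan R P d) :
    SymTen.tpowAct R A P d a x ∈ SymTen.altSpan R P d := by
  induction hx using Submodule.span_induction with
  | mem x hx =>
    obtain ⟨p, i, j, hij, hp, rfl⟩ := hx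
    apply mem_altSpan_of_invariant i j hij
    rw [reindex_tpowAct, ha (Equiv.swap i j), PiTensorProduct.reindex_tprod]
    congr 2
    funext k
    rw [Equiv.symm_swap, Equiv.swap_apply_def]
    split_ifs with h1 h2
    · rw [h1, hp]
    · rw [h2, hp]
    · rfl
  | zero => rw [map_zero]; exact Submodule.zero_mem _
  | add x y _ _ hx hy => rw [map_add]; exact Submodule.add_mem _ hx hy
  | smul r x _ hx => rw [map_smul]; exact Submodule.smul_mem _ r hx

end act

end Groth.Agent.Lib.AltSpanH1
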