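import Mathlib
import Groth.Prelude.Def_DRing2
import Groth.Agent.Lib.DMod25_helper6

/-!
# The alternating trace of an endomorphism of a perfect complex (helper2)

* `altTr_eq_of_homotopy`: homotopic endomorphisms of a bounded complex of finite free modules have
  the same alternating trace.
* `altTr_comp_comm`: `Tr(p q) = Tr(q p)` for chain maps between two such complexes.
* `main`: the alternating trace is invariant under isomorphisms in the derived category.
-/

set_option autoImplicit false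
universe u
open CategoryTheory Limits

namespace Groth.Agent.Lib.AltTrace

open DerivedCategory DRing Groth.Agent.Lib.DMod_helper6
attribute [local instance] HasDerivedCategory.standard

variable {Λ : Type u} [CommRing Λ]

lemma homotopy_of_Q_map_eq {E F : Cx Λ} [E.IsKProjective] (φ ψ : E ⟶ F)
    (h : Q.map φ = Q.map ψ) : Nonempty (Homotopy φ ψ) := by
  have h1 : Qh.map ((HomotopyCategory.quotient _ _).map φ) =
      Qh.map ((HomotopyCategory.quotient _ _).map ψ) := by
    have e1 := quotientCompQhIso_hom_naturality φ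
    have e2 := quotientCompQhIso_hom_naturality ψ
    rw [h] at e1
    exact (cancel_mono ((quotientCompQhIso (ModuleCat.{u} Λ)).hom.app F)).1 (e1.trans e2.symm)
  have h2 := (CochainComplex.IsKProjective.Qh_map_bijective E
    ((HomotopyCategory.quotient _ _).obj F)).injective h1
  exact ⟨HomotopyCategory.homotopyOfEq _ _ h2⟩

/-- the sign `(-1)^i` -/
abbrev sg (i : ℤ) : ℤ := ((i.negOnePow : ℤˣ) : ℤ)

lemma sg_succ (i : ℤ) : sg (i + 1) = - sg i := by
  show (((i + 1).negOnePow : ℤˣ) : ℤ) = -((i.negOnePow : ℤˣ) : ℤ)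
  rw [Int.negOnePow_succ, Units.val_neg]

/-- the alternating trace -/
noncomputable def altTr (X : Cx Λ) (a b : ℤ) (φ : X ⟶ X) : Λ :=
  ∑ i ∈ Finset.Icc a b, sg i • LinearMap.trace Λ (X.X i) (φ.f i).hom

lemma sum_telescope (a b : ℤ) (t : ℤ → Λ) (h0 : ∀ i, i ≤ a → t i = 0)
    (h1 : ∀ i, b < i → t i = 0) :
    ∑ i ∈ Finset.Icc a b, sg i • (t (i + 1) + t i) = 0 := by
  have key : ∀ i, sg i • (t (i + 1) + t i) = sg i • t i - sg (i + 1) • t (i + 1) := by
    intro i
    rw [sg_succ, neg_smul, sub_neg_eq_add, smul_add, add_comm]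
  rw [Finset.sum_congr rfl (fun i _ => key i), Finset.sum_sub_distrib]
  have e1 : ∑ i ∈ Finset.Icc a b, sg (i + 1) • t (i + 1) =
      ∑ j ∈ Finset.Icc (a + 1) (b + 1), sg j • t j := by
    rw [← Finset.map_add_right_Icc, Finset.sum_map]
    rfl
  rw [e1, sub_eq_zero]
  have hu : ∀ j, j ∉ Finset.Icc (a + 1) b → sg j • t j = 0 := by
    intro j hj
    rw [Finset.mem_Icc, not_and_or, not_le, not_le] at hj
    rcases hj with hj | hj
    · rw [h0 j (by omega), smul_zero]
    · rw [h1 j hj, smul_zero]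
  exact (Finset.sum_subset (s₁ := Finset.Icc (a + 1) b)
      (Finset.Icc_subset_Icc (by omega) le_rfl) (fun x _ hx => hu x hx)).symm.trans
    (Finset.sum_subset (s₁ := Finset.Icc (a + 1) b)
      (Finset.Icc_subset_Icc le_rfl (by omega)) (fun x _ hx => hu x hx))

lemma trace_eq_zero_of_isZero_mid {M N : ModuleCat.{u} Λ} (p : M ⟶ N) (q : N ⟶ M)
    (h : IsZero N) : LinearMap.trace Λ M (p ≫ q).hom = 0 := by
  have h0 : p ≫ q = 0 := by rw [h.eq_of_tgt p 0, zero_comp]
  rw [h0]
  exact map_zero _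

lemma trace_eq_zero_of_isZero_src {M N : ModuleCat.{u} Λ} (p : M ⟶ N) (q : N ⟶ M)
    (h : IsZero M) : LinearMap.trace Λ M (p ≫ q).hom = 0 := by
  have h0 : p ≫ q = 0 := h.eq_of_src _ _
  rw [h0]
  exact map_zero _

section

variable (X : Cx Λ) (a b : ℤ)

theorem altTr_eq_of_homotopy (hX : VanishesOutside X a b) (hXf : TermwiseFiniteFree X)
    {φ ψ : X ⟶ X} (hh : Homotopy φ ψ) : altTr X a b φ = altTr X a b ψ := by
  let t : ℤ → Λ := fun j => LinearMap.trace Λ (X.X j) (hh.hom j (j - 1) ≫ X.d (j - 1) j).hom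
  have ht : ∀ (j i' : ℤ), i' = j - 1 →
      t j = LinearMap.trace Λ (X.X j) (hh.hom j i' ≫ X.d i' j).hom := by
    rintro j i' rfl
    rfl
  have h0 : ∀ i, i ≤ a → t i = 0 := fun i hi =>
    trace_eq_zero_of_isZero_mid _ _ (hX (i - 1) (Or.inl (by omega)))
  have h1 : ∀ i, b < i → t i = 0 := fun i hi =>
    trace_eq_zero_of_isZero_src _ _ (hX i (Or.inr hi))
  have key : ∀ i, LinearMap.trace Λ (X.X i) (φ.f i).hom =
      (t (i + 1) + t i) + LinearMap.trace Λ (X.X i) (ψ.f i).hom := by
    intro i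
    haveI := (hXf i).1
    haveI := (hXf i).2
    haveI := (hXf (i + 1)).1
    haveI := (hXf (i + 1)).2
    have e := hh.comm i
    rw [dNext_eq hh.hom (show (ComplexShape.up ℤ).Rel i (i + 1) from rfl),
      prevD_eq hh.hom (show (ComplexShape.up ℤ).Rel (i - 1) i from by simp)] at e
    rw [e, ModuleCat.hom_add, ModuleCat.hom_add, map_add, map_add]
    congr 1
    congr 1
    rw [ht (i + 1) i (by omega)]
    exact LinearMap.trace_comp_comm' (X.d i (i + 1)).hom (hh.hom (i + 1) i).hom
  have e2 : ∑ i ∈ Finset.Icc a b, sg i • LinearMap.trace Λ (X.X i) (φ.f i).hom =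
      ∑ i ∈ Finset.Icc a b, (sg i • (t (i + 1) + t i) +
        sg i • LinearMap.trace Λ (X.X i) (ψ.f i).hom) :=
    Finset.sum_congr rfl (fun i _ => by rw [key i, smul_add])
  show ∑ i ∈ Finset.Icc a b, sg i • LinearMap.trace Λ (X.X i) (φ.f i).hom =
    ∑ i ∈ Finset.Icc a b, sg i • LinearMap.trace Λ (X.X i) (ψ.f i).hom
  rw [e2, Finset.sum_add_distrib, sum_telescope a b t h0 h1, zero_add]

theorem altTr_comp_comm (Y : Cx Λ) (hXf : TermwiseFiniteFree X) (hYf : TermwiseFiniteFree Y)
    (p : X ⟶ Y) (q : Y ⟶ X) : altTr X a b (p ≫ q) = altTr Y a b (q ≫ p) := by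
  refine Finset.sum_congr rfl (fun i _ => ?_)
  haveI := (hXf i).1
  haveI := (hXf i).2
  haveI := (hYf i).1
  haveI := (hYf i).2
  congr 1
  exact LinearMap.trace_comp_comm' (p.f i).hom (q.f i).hom

end

theorem main (P Q' : Cx Λ) (a b : ℤ) (hP : VanishesOutside P a b) (hQ : VanishesOutside Q' a b)
    (hPf : TermwiseFiniteFree P) (hQf : TermwiseFiniteFree Q') (f : P ⟶ P) (g : Q' ⟶ Q')
    (α : toD P ≅ toD Q') (h : α.hom ≫ Q.map g = Q.map f ≫ α.hom) :
    altTr P a b f = altTr Q' a b g := by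
  haveI : P.IsKProjective := isKProjective_of_projective_bounded P b
    (fun i hi => hP i (Or.inr hi)) (fun i => by
      haveI := (hPf i).2
      exact Module.Projective.of_free)
  haveI : Q'.IsKProjective := isKProjective_of_projective_bounded Q' b
    (fun i hi => hQ i (Or.inr hi)) (fun i => by
      haveI := (hQf i).2
      exact Module.Projective.of_free)
  obtain ⟨u, hu⟩ := exists_Q_map_eq_of_isKProjective α.hom
  obtain ⟨v, hv⟩ := exists_Q_map_eq_of_isKProjective α.inv
  obtain ⟨h1⟩ : Nonempty (Homotopy (u ≫ v) (𝟙 P)) := homotopy_of_Q_map_eq _ _ (by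
    rw [CategoryTheory.Functor.map_comp, hu, hv, Iso.hom_inv_id, CategoryTheory.Functor.map_id])
  obtain ⟨h2⟩ : Nonempty (Homotopy (v ≫ u) (𝟙 Q')) := homotopy_of_Q_map_eq _ _ (by
    rw [CategoryTheory.Functor.map_comp, hu, hv, Iso.inv_hom_id, CategoryTheory.Functor.map_id])
  obtain ⟨h3⟩ : Nonempty (Homotopy (f ≫ u) (u ≫ g)) := homotopy_of_Q_map_eq _ _ (by
    rw [CategoryTheory.Functor.map_comp, CategoryTheory.Functor.map_comp, hu]
    exact h.symm)
  calc altTr P a b f = altTr P a b (f ≫ (u ≫ v)) :=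
        (altTr_eq_of_homotopy P a b hP hPf
          ((h1.compLeft f).trans (Homotopy.ofEq (Category.comp_id f)))).symm
    _ = altTr P a b ((u ≫ g) ≫ v) := altTr_eq_of_homotopy P a b hP hPf
          ((Homotopy.ofEq (Category.assoc f u v).symm).trans (h3.compRight v))
    _ = altTr P a b (u ≫ (g ≫ v)) := by rw [Category.assoc]
    _ = altTr Q' a b ((g ≫ v) ≫ u) := altTr_comp_comm P a b Q' hPf hQf u (g ≫ v)
    _ = altTr Q' a b g := altTr_eq_of_homotopy Q' a b hQ hQf
          ((Homotopy.ofEq (Category.assoc g v u)).trans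
            ((h2.compLeft g).trans (Homotopy.ofEq (Category.comp_id g))))

end Groth.Agent.Lib.AltTrace
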