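import Groth.Agent.Lib.LftFieldPts2_helper7

/-!
# S10485: quasi-finite at the generic point iff unique point over the generic point (helper7)
-/

set_option autoImplicit false
set_option linter.style.haveILetI false
universe u
open CategoryTheory CategoryTheory.Limits AlgebraicGeometry Opposite MorphismProperty
open AlgSp Groth.Agent.Lib.AlgSpQC2_helper7 Groth.Agent.Lib.AlgSpPoints_helper7
  Groth.Agent.Lib.AlgSpQC_helper7 Groth.Agent.Lib.AlgSpDiag_helper7 Groth.Agent.Lib.AlgSpTop_helper7
  Groth.Agent.Lib.AlgSpPullback_helper7 Groth.Agent.Lib.AlgSpSep_helper7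
  Groth.Agent.Lib.AlgSpLocP_helper7 Groth.Agent.Lib.AlgSpUniv_helper7
  Groth.Agent.Lib.AlgSpFpqc_helper7 Groth.Agent.Lib.AlgSpFpqc2_helper7
  Groth.Agent.Lib.AlgSpDescent_helper7 Groth.Agent.Lib.AlgSpEtale_helper7
  Groth.Agent.Lib.AlgSpLocP2_helper7 Groth.Agent.Lib.AlgSpEpi_helper7
  Groth.Agent.Lib.SchSrcLocal_helper7 Groth.Agent.Lib.AlgSpLocP4_helper7
  Groth.Agent.Lib.LqfDiscreteFibresH7 Groth.Agent.Lib.LftFieldPtsH7
  Groth.Agent.Lib.FibreLocNoethH7 Groth.Agent.Lib.LftFieldPts2H7

namespace Groth.Agent.Lib.GenPtQFH7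

theorem main10485 {S : Scheme.{u}} {X Y : AlgSp.Space S} (hXi : AlgSp.IsIntegralSp X.obj) (hYi : AlgSp.IsIntegralSp Y.obj)
    (f : X ⟶ Y) (hft : AlgSp.LocP @LocallyOfFiniteType f.hom) (hd : AlgSp.IsDominantMor f.hom)
    (x : AlgSp.Points X.obj) (hx : IsGenericPoint x (Set.univ : Set (AlgSp.Points X.obj)))
    (y : AlgSp.Points Y.obj) (hy : IsGenericPoint y (Set.univ : Set (AlgSp.Points Y.obj))) :
    AlgSp.HasAtMor (fun U _ h u => ∃ W : U.Opens, u ∈ W ∧ LocallyQuasiFinite (W.ι ≫ h) ∧ LocallyOfFiniteType (W.ι ≫ h)) f.hom x ↔ (∀ x' : AlgSp.Points X.obj, AlgSp.Points.map f.hom x' = y → x' = x) := by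
  obtain ⟨-, hdY, -⟩ := hYi
  haveI : T0Space (Points Y.obj) :=
    Groth.Agent.Lib.AlgSpT0_helper6.t0Space_points_of_isDecent Y.property hdY
  have hfx : Points.map f.hom x = y := by
    have h1 := hx.image (Points.continuous_map f.hom)
    rw [Set.image_univ, hd.closure_range] at h1
    exact h1.eq hy
  obtain ⟨r₀, hr₀, hm, hqc⟩ := hdY y
  have sq₀ := IsPullback.of_hasPullback f.hom r₀.toHom
  obtain ⟨hemb, hrange⟩ :=
    Groth.Agent.Lib.AlgSpFibEmb_helper6.isEmbedding_fibre X.property Y.property f.hom r₀ hm hqc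
      _ _ sq₀
  rw [hr₀] at hrange
  have hX₀ : IsAlgSpace (pullback f.hom r₀.toHom) :=
    isAlgSpace_of_isPullback Y.property.diag X.property (IsAlgSpace.yon_obj _) sq₀
  have hs₀ : LocP @LocallyOfFiniteType (pullback.snd f.hom r₀.toHom) :=
    locP_baseChange etLocal_locallyOfFiniteType X.property Y.property (IsAlgSpace.yon_obj _)
      f.hom r₀.toHom _ _ sq₀ hft
  obtain ⟨xt, hxt⟩ : ∃ xt, Points.map (pullback.fst f.hom r₀.toHom) xt = x := by
    have : x ∈ Set.range (Points.map (pullback.fst f.hom r₀.toHom)) := by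
      rw [hrange]
      exact hfx
    exact this
  constructor
  · intro H x' hx'
    rw [← hxt] at H
    have hopen := isOpen_singleton_of_hasAtMor Y.property f.hom r₀ _ _ sq₀ xt H
    have hcl := isClosed_singleton_of_isOpen _ hs₀ hX₀ xt hopen
    obtain ⟨xt', hxt'⟩ : ∃ xt', Points.map (pullback.fst f.hom r₀.toHom) xt' = x' := by
      have : x' ∈ Set.range (Points.map (pullback.fst f.hom r₀.toHom)) := by
        rw [hrange]
        exact hx'
      exact this
    have hmem : xt' ∈ closure ({xt} : Set (Points (pullback f.hom r₀.toHom))) := by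
      rw [hemb.closure_eq_preimage_closure_image, Set.image_singleton, hxt, hx.def]
      trivial
    rw [hcl.closure_eq] at hmem
    rw [← hxt', ← hxt, Set.mem_singleton_iff.mp hmem]
  · intro H
    have hsub : ∀ z : Points (pullback f.hom r₀.toHom), z = xt := fun z => hemb.injective (by
      rw [hxt]
      apply H
      have : Points.map (pullback.fst f.hom r₀.toHom) z ∈
          Set.range (Points.map (pullback.fst f.hom r₀.toHom)) := Set.mem_range_self z
      rw [hrange] at this
      exact this)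
    have hopen : IsOpen ({xt} : Set (Points (pullback f.hom r₀.toHom))) := by
      have : ({xt} : Set (Points (pullback f.hom r₀.toHom))) = Set.univ := by
        ext z
        simp [hsub z]
      rw [this]
      exact isOpen_univ
    have := hasAtMor_of_isOpen_singleton X.property Y.property f.hom hft r₀ _ _ sq₀ xt hopen
    rwa [hxt] at this

end Groth.Agent.Lib.GenPtQFH7
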