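import Mathlib
import Groth.Agent.Lib.GenPtQF_helper7
import Groth.Agent.Lib.AlgSpFinTfae_helper6
import Groth.Agent.Lib.AlgSpGlue4_helper7

/-!
# Proper dominant morphisms of integral spaces: alterations (helper7)
-/

set_option autoImplicit false
set_option linter.style.haveILetI false
universe u
open CategoryTheory CategoryTheory.Limits AlgebraicGeometry Opposite TopologicalSpace

namespace Groth.Agent.Lib.AlterationH7

open AlgSp Groth.Agent.Lib.AlgSpPoints_helper7 Groth.Agent.Lib.AlgSpPullback_helper7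
  Groth.Agent.Lib.AlgSpQC_helper7 Groth.Agent.Lib.GenPtQFH7 Groth.Agent.Lib.AlgSpFinTfaeH6
  Groth.Agent.Lib.AlgSpGlue4H7 Groth.Agent.Lib.AlgSpPropFinH6

variable {S : Scheme.{u}}

theorem main10500 {X Y : AlgSp.Space S}
    (hXi : AlgSp.IsIntegralSp X.obj) (hYi : AlgSp.IsIntegralSp Y.obj) (f : X ⟶ Y)
    (hp : AlgSp.IsProperMor f.hom) (hd : AlgSp.IsDominantMor f.hom)
    (x : AlgSp.Points X.obj) (hx : IsGenericPoint x (Set.univ : Set (AlgSp.Points X.obj)))
    (y : AlgSp.Points Y.obj) (hy : IsGenericPoint y (Set.univ : Set (AlgSp.Points Y.obj))) :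
    (∃ (V : AlgSp.Space S) (j : V ⟶ Y), AlgSp.RepWith @IsOpenImmersion j.hom ∧
      Nonempty (AlgSp.Points V.obj) ∧
      ∀ (P : AlgSp.Space S) (fst : P ⟶ V) (snd : P ⟶ X),
        IsPullback fst.hom snd.hom j.hom f.hom → AlgSp.IsFiniteMor fst.hom) ↔
      (∀ x' : AlgSp.Points X.obj, AlgSp.Points.map f.hom x' = y → x' = x) := by
  have hlft : LocP @LocallyOfFiniteType f.hom := hp.2.1.1
  have key := main10485 hXi hYi f hlft hd x hx y hy
  have hOE : (@IsOpenImmersion : MorphismProperty Scheme.{u}) ≤ @Etale :=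
    fun _ _ g hg => by haveI : IsOpenImmersion g := hg; infer_instance
  constructor
  · rintro ⟨V, j, hj, ⟨v0⟩, hfin⟩
    apply key.1
    have sq := IsPullback.of_hasPullback j.hom f.hom
    have hP : IsAlgSpace (pullback j.hom f.hom) :=
      isAlgSpace_of_isPullback Y.property.diag V.property X.property sq
    let PS : AlgSp.Space S := ⟨pullback j.hom f.hom, hP⟩
    let fstP : PS ⟶ V := ObjectProperty.homMk (pullback.fst j.hom f.hom)
    let sndP : PS ⟶ X := ObjectProperty.homMk (pullback.snd j.hom f.hom)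
    have hfinP : IsFiniteMor fstP.hom := hfin PS fstP sndP sq
    have hloc := locP_of_isFiniteMor fstP hfinP
    have hsnd : RepWith @IsOpenImmersion (pullback.snd j.hom f.hom) :=
      repWith_snd_of_isPullback _ sq hj
    have hopen : IsOpen (Set.range (Points.map (pullback.snd j.hom f.hom))) :=
      isOpen_range_map_of_openImmersion _ hsnd
    have hne : (Set.range (Points.map (pullback.snd j.hom f.hom))).Nonempty := by
      have hjo : IsOpen (Set.range (Points.map j.hom)) := isOpen_range_map_of_openImmersion _ hj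
      obtain ⟨z, ⟨v1, hv1⟩, ⟨x1, hx1⟩⟩ :=
        Dense.inter_open_nonempty hd _ hjo ⟨_, ⟨v0, rfl⟩⟩
      obtain ⟨p1, -, hp1⟩ := exists_of_isPullback sq v1 x1 (hv1.trans hx1.symm)
      exact ⟨_, ⟨p1, hp1⟩⟩
    obtain ⟨p, hpx⟩ : x ∈ Set.range (Points.map (pullback.snd j.hom f.hom)) := by
      rw [hx.mem_open_set_iff hopen, Set.univ_inter]
      exact hne
    obtain ⟨U, V', a, b, h, u, hae, hbe, cm, hu⟩ := ResTrdegH8.exists_chart_diagram fstP p
    have hq := hloc a b h hae hbe cm
    have hsndE : RepWith @Etale (pullback.snd j.hom f.hom) := repWith_mono hOE hsnd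
    have hjE : RepWith @Etale j.hom := repWith_mono hOE hj
    refine ⟨U, V', a ≫ pullback.snd j.hom f.hom, b ≫ j.hom, h, u, repWith_comp _ hae hsndE,
      repWith_comp _ hbe hjE, ?_, ?_, ⊤, trivial, ?_, ?_⟩
    · rw [Category.assoc, ← sq.w, ← Category.assoc]
      exact (congrArg (fun t => t ≫ j.hom) cm).trans (Category.assoc _ _ _)
    · rw [← Points.map_ofPt, hu]
      exact hpx
    · haveI : LocallyQuasiFinite h.left := hq.1
      infer_instance
    · haveI : LocallyOfFiniteType h.left := hq.2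
      infer_instance
  · intro huniq
    have hqf := key.2 huniq
    obtain ⟨V, j, hj, hyV, hfin⟩ := exists_finite_nhd f y hp
      (fun x' hx' => by rw [huniq x' hx']; exact hqf)
    obtain ⟨v, -⟩ := hyV
    exact ⟨V, j, hj, ⟨v⟩, fun P fst snd sq => hfin P snd fst sq.flip⟩

end Groth.Agent.Lib.AlterationH7
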