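import Mathlib
import Groth.Agent.Lib.Alteration_helper7
import Groth.Agent.Lib.AlgSpFieldMisc_helper7
import Groth.Agent.Lib.DecentSober_helper7
import Groth.Agent.Lib.AlgSpFibEmb_helper6
import Groth.Agent.Lib.AlgSpT0_helper6
import Groth.Agent.Lib.AlgSpLocP4_helper7
import Groth.Agent.Lib.AlgSpDecent_helper6
import Groth.Agent.Lib.AlgSpQC2_helper7
import Groth.Agent.S10423

/-!
# Existence of an alteration inside a proper surjective morphism (helper7)
-/

set_option autoImplicit false
set_option linter.style.haveILetI false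
universe u
open CategoryTheory CategoryTheory.Limits AlgebraicGeometry Opposite TopologicalSpace Topology

namespace Groth.Agent.Lib.Alteration2H7

open AlgSp Groth.Agent.Lib.AlgSpPoints_helper7 Groth.Agent.Lib.AlgSpPullback_helper7
  Groth.Agent.Lib.AlgSpQC_helper7 Groth.Agent.Lib.AlgSpQC2_helper7

variable {S : Scheme.{u}}

theorem main10458 {X Y : AlgSp.Space S} (f : X ⟶ Y)
    (hf : AlgSp.IsProperMor f.hom) (hs : AlgSp.IsSurjectiveMor f.hom)
    (hY : AlgSp.IsIntegralSp Y.obj) :
    ∃ (X' : AlgSp.Space S) (i : X' ⟶ X), AlgSp.RepWith @IsClosedImmersion i.hom ∧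
      AlgSp.IsIntegralSp X'.obj ∧
      AlgSp.IsProperMor (i ≫ f).hom ∧ AlgSp.IsDominantMor (i ≫ f).hom ∧
      ∃ (V : AlgSp.Space S) (j : V ⟶ Y), AlgSp.RepWith @IsOpenImmersion j.hom ∧
        Nonempty (AlgSp.Points V.obj) ∧
        ∀ (P : AlgSp.Space S) (fst : P ⟶ V) (snd : P ⟶ X'),
          IsPullback fst.hom snd.hom j.hom (i ≫ f).hom → AlgSp.IsFiniteMor fst.hom := by
  have hYint := hY
  obtain ⟨hYred, hYdec, hYirr⟩ := hY
  haveI := hYirr
  haveI : QuasiSober (Points Y.obj) := Groth.Agent.Lib.DecentSoberH7.main10339 Y hYdec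
  obtain ⟨η, hη⟩ := QuasiSober.sober (IrreducibleSpace.isIrreducible_univ (Points Y.obj)) isClosed_univ
  obtain ⟨r₀, hr₀, hm, hqc⟩ := hYdec η
  have hqs : IsQuasiSeparatedMor f.hom :=
    repWith_mono (fun _ _ g (hg : IsClosedImmersion g) => (inferInstance : QuasiCompact g)) hf.1
  have hdecmor : IsDecentMor f.hom := (Groth.Agent.S10423.result f).2 hqs
  have hXdec : IsDecent X.obj :=
    Groth.Agent.Lib.AlgSpDecent_helper6.isDecent_of_isDecentMor f.hom hdecmor hYdec
  -- the fibre over the generic point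
  have sq := IsPullback.of_hasPullback f.hom r₀.toHom
  have hP : IsAlgSpace (pullback f.hom r₀.toHom) :=
    isAlgSpace_of_isPullback Y.property.diag X.property (IsAlgSpace.yon_obj r₀.pt) sq
  have hPdec : IsDecent (pullback f.hom r₀.toHom) := hdecmor r₀.toHom _ _ sq
  haveI : CompactSpace ↥r₀.pt.left := by
    show CompactSpace ↥(Spec (CommRingCat.of r₀.K))
    infer_instance
  have hPqc : IsQuasiCompactSp (pullback f.hom r₀.toHom) :=
    hf.2.1.2 (IsAlgSpace.yon_obj r₀.pt) (isQuasiCompactSp_yon r₀.pt) r₀.toHom _ _ sq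
  haveI : CompactSpace (Points (pullback f.hom r₀.toHom)) :=
    compactSpace_of_isQuasiCompactSp hPqc
  haveI : T0Space (Points (pullback f.hom r₀.toHom)) :=
    Groth.Agent.Lib.AlgSpT0_helper6.t0Space_points_of_isDecent hP hPdec
  obtain ⟨hemb, hrange⟩ := Groth.Agent.Lib.AlgSpFibEmb_helper6.isEmbedding_fibre
    X.property Y.property f.hom r₀ hm hqc _ _ sq
  obtain ⟨x₀, hx₀⟩ := hs η
  have hx₀mem : x₀ ∈ Set.range (Points.map (pullback.fst f.hom r₀.toHom)) := by
    rw [hrange]
    show Points.map f.hom x₀ = Points.mk r₀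
    rw [hx₀, hr₀]
  obtain ⟨z₀, hz₀⟩ := hx₀mem
  obtain ⟨z, -, hz⟩ := IsClosed.exists_closed_singleton
    (isClosed_univ (X := Points (pullback f.hom r₀.toHom))) ⟨z₀, Set.mem_univ _⟩
  set x : Points X.obj := Points.map (pullback.fst f.hom r₀.toHom) z with hxdef
  have hfx : Points.map f.hom x = η := by
    have : x ∈ Points.map f.hom ⁻¹' {Points.mk r₀} := by
      rw [← hrange]; exact ⟨z, rfl⟩
    exact (Set.mem_singleton_iff.1 this).trans hr₀
  obtain ⟨X', i, hi, hint, hrng⟩ := Groth.Agent.Lib.AlgSpFieldMiscH7.main10496 X hXdec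
    (closure {x}) isClosed_closure isIrreducible_singleton.closure
  have himm : RepWith @IsImmersion i.hom :=
    repWith_mono (fun _ _ g (hg : IsClosedImmersion g) => (inferInstance : IsImmersion g)) hi
  have hiemb := (Groth.Agent.Lib.AlgSpEmbed_helper6.isEmbedding_map_of_immersion X.property i.hom
    himm).1
  obtain ⟨x', hx'⟩ : x ∈ Set.range (Points.map i.hom) := by
    rw [hrng]; exact subset_closure (Set.mem_singleton x)
  have hcomp : ∀ w : Points X'.obj,
      Points.map (i ≫ f).hom w = Points.map f.hom (Points.map i.hom w) :=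
    fun w => Points.map_comp i.hom f.hom w
  have hprop : IsProperMor (i ≫ f).hom :=
    Groth.Agent.Lib.AlgSpLocP4_helper7.isProperMor_comp X'.property X.property Y.property
      i.hom f.hom
      (Groth.Agent.Lib.AlgSpProper_helper7.isProperMor_of_repWith_isClosedImmersion i.hom hi) hf
  have hdom : IsDominantMor (i ≫ f).hom := by
    show DenseRange (Points.map (i ≫ f).hom)
    have hd : Dense ({η} : Set (Points Y.obj)) := dense_iff_closure_eq.2 hη.def
    refine hd.mono ?_
    rw [Set.singleton_subset_iff]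
    exact ⟨x', by rw [hcomp, hx', hfx]⟩
  have hx'gen : IsGenericPoint x' (Set.univ : Set (Points X'.obj)) := by
    show closure {x'} = Set.univ
    rw [hiemb.isInducing.closure_eq_preimage_closure_image, Set.image_singleton, hx', ← hrng]
    exact Set.preimage_range _
  have huniq : ∀ w : Points X'.obj, Points.map (i ≫ f).hom w = η → w = x' := by
    intro w hw
    rw [hcomp] at hw
    have hwmem : Points.map i.hom w ∈ Set.range (Points.map (pullback.fst f.hom r₀.toHom)) := by
      rw [hrange]
      show Points.map f.hom (Points.map i.hom w) = Points.mk r₀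
      rw [hw, hr₀]
    obtain ⟨z', hz'⟩ := hwmem
    have hcl : Points.map i.hom w ∈ closure {x} := by
      rw [← hrng]; exact ⟨w, rfl⟩
    have hsp : x ⤳ Points.map i.hom w := specializes_iff_mem_closure.2 hcl
    rw [← hz', hxdef, hemb.isInducing.specializes_iff] at hsp
    have hz'z : z' ∈ closure {z} := specializes_iff_mem_closure.1 hsp
    rw [hz.closure_eq, Set.mem_singleton_iff] at hz'z
    apply hiemb.injective
    rw [hx', ← hz', hz'z]
  refine ⟨X', i, hi, hint, hprop, hdom, ?_⟩
  exact (Groth.Agent.Lib.AlterationH7.main10500 hint hYint (i ≫ f) hprop hdom x' hx'gen η hη).2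
    huniq

end Groth.Agent.Lib.Alteration2H7
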