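import Mathlib

set_option autoImplicit false
set_option linter.unusedVariables false
set_option linter.unusedTactic false
set_option linter.unreachableTactic false
set_option linter.unusedSectionVars false
set_option maxHeartbeats 800000

universe u

open Classical

namespace Groth.Agent.Lib.AlternantsH4

variable {k : Type u} [Field k] {n : ℕ}

/-- the alternant -/
noncomputable def Δ (k : Type u) [Field k] {n : ℕ} (p : Fin n → ℕ × ℕ) :
    MvPolynomial (Fin n × Fin 2) k :=
  (Matrix.of fun i j : Fin n =>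
    (MvPolynomial.X (i, 0) : MvPolynomial (Fin n × Fin 2) k) ^ (p j).1 *
      MvPolynomial.X (i, 1) ^ (p j).2).det

theorem rename_Δ (σ : Equiv.Perm (Fin n)) (p : Fin n → ℕ × ℕ) :
    MvPolynomial.rename (fun v : Fin n × Fin 2 => (σ v.1, v.2)) (Δ k p) =
      ((Equiv.Perm.sign σ : ℤˣ) : ℤ) • Δ k p := by
  unfold Δ
  rw [AlgHom.map_det, zsmul_eq_mul, ← Matrix.det_permute]
  congr 1
  ext i j
  simp only [AlgHom.mapMatrix_apply, Matrix.map_apply, Matrix.of_apply, Matrix.submatrix_apply,
    id_eq, map_mul, map_pow, MvPolynomial.rename_X]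

theorem alt_of_mem_span (f : MvPolynomial (Fin n × Fin 2) k)
    (hf : f ∈ Submodule.span k (Set.range (Δ k (n := n)))) (σ : Equiv.Perm (Fin n)) :
    MvPolynomial.rename (fun v : Fin n × Fin 2 => (σ v.1, v.2)) f =
      ((Equiv.Perm.sign σ : ℤˣ) : ℤ) • f := by
  induction hf using Submodule.span_induction with
  | mem x hx =>
    obtain ⟨p, rfl⟩ := hx
    exact rename_Δ σ p
  | zero => rw [map_zero, smul_zero]
  | add x y _ _ hx hy => rw [map_add, hx, hy, smul_add]
  | smul c x _ hx =>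
    rw [map_smul, hx]
    exact smul_comm _ _ _

/-- antisymmetrization -/
noncomputable def A (k : Type u) [Field k] (n : ℕ) :
    MvPolynomial (Fin n × Fin 2) k →ₗ[k] MvPolynomial (Fin n × Fin 2) k where
  toFun g := ∑ σ : Equiv.Perm (Fin n), ((Equiv.Perm.sign σ : ℤˣ) : ℤ) •
    MvPolynomial.rename (fun v : Fin n × Fin 2 => (σ v.1, v.2)) g
  map_add' a b := by
    simp only [map_add, smul_add, Finset.sum_add_distrib]
  map_smul' c a := by
    simp only [map_smul, RingHom.id_apply, Finset.smul_sum]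
    exact Finset.sum_congr rfl (fun σ _ => (smul_comm _ _ _))

theorem A_apply (g : MvPolynomial (Fin n × Fin 2) k) :
    A k n g = ∑ σ : Equiv.Perm (Fin n), ((Equiv.Perm.sign σ : ℤˣ) : ℤ) •
      MvPolynomial.rename (fun v : Fin n × Fin 2 => (σ v.1, v.2)) g := rfl

theorem monomial_one_eq (v : (Fin n × Fin 2) →₀ ℕ) :
    (MvPolynomial.monomial v (1 : k)) =
      ∏ i : Fin n, (MvPolynomial.X (i, 0) : MvPolynomial (Fin n × Fin 2) k) ^ (v (i, 0)) *
        (MvPolynomial.X (i, 1)) ^ (v (i, 1)) := by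
  rw [MvPolynomial.monomial_eq, MvPolynomial.C_1, one_mul,
    Finsupp.prod_fintype _ _ (fun i => pow_zero _), Fintype.prod_prod_type]
  exact Finset.prod_congr rfl (fun i _ => Fin.prod_univ_two _)

theorem A_monomial_one (v : (Fin n × Fin 2) →₀ ℕ) :
    A k n (MvPolynomial.monomial v (1 : k)) = Δ k (fun j => (v (j, 0), v (j, 1))) := by
  rw [A_apply]
  unfold Δ
  rw [Matrix.det_apply']
  refine Finset.sum_congr rfl (fun σ _ => ?_)
  rw [zsmul_eq_mul, monomial_one_eq, map_prod]
  congr 1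
  refine Finset.prod_congr rfl (fun i _ => ?_)
  simp only [map_mul, map_pow, MvPolynomial.rename_X, Matrix.of_apply]

theorem mem_span_of_alt (f : MvPolynomial (Fin n × Fin 2) k) [CharZero k]
    (hf : ∀ σ : Equiv.Perm (Fin n),
      MvPolynomial.rename (fun v : Fin n × Fin 2 => (σ v.1, v.2)) f =
        ((Equiv.Perm.sign σ : ℤˣ) : ℤ) • f) :
    f ∈ Submodule.span k (Set.range (Δ k (n := n))) := by
  have hA : A k n f ∈ Submodule.span k (Set.range (Δ k (n := n))) := by
    have e := congrArg (A k n) f.as_sum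
    rw [map_sum] at e
    rw [e]
    refine Submodule.sum_mem _ (fun v _ => ?_)
    have e2 : MvPolynomial.monomial v (MvPolynomial.coeff v f) =
        (MvPolynomial.coeff v f) • MvPolynomial.monomial v (1 : k) := by
      rw [MvPolynomial.smul_monomial, smul_eq_mul, mul_one]
    rw [e2, map_smul, A_monomial_one]
    exact Submodule.smul_mem _ _ (Submodule.subset_span ⟨_, rfl⟩)
  have hN : A k n f = (Fintype.card (Equiv.Perm (Fin n))) • f := by
    have h1 : ∀ σ ∈ (Finset.univ : Finset (Equiv.Perm (Fin n))),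
        ((Equiv.Perm.sign σ : ℤˣ) : ℤ) •
          MvPolynomial.rename (fun v : Fin n × Fin 2 => (σ v.1, v.2)) f = f := by
      intro σ _
      rw [hf σ, smul_smul, Int.units_coe_mul_self, one_smul]
    rw [A_apply, Finset.sum_congr rfl h1, Finset.sum_const, Finset.card_univ]
  have hN0 : ((Fintype.card (Equiv.Perm (Fin n)) : ℕ) : k) ≠ 0 :=
    Nat.cast_ne_zero.mpr Fintype.card_ne_zero
  have h2 : ((Fintype.card (Equiv.Perm (Fin n)) : ℕ) : k)⁻¹ • A k n f = f := by
    rw [hN, ← Nat.cast_smul_eq_nsmul k, smul_smul, inv_mul_cancel₀ hN0, one_smul]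
  have h3 := Submodule.smul_mem _ ((Fintype.card (Equiv.Perm (Fin n)) : ℕ) : k)⁻¹ hA
  rwa [h2] at h3

/-- the diagonal exponent vector -/
noncomputable def mono (q : Fin n → ℕ × ℕ) : (Fin n × Fin 2) →₀ ℕ :=
  Finsupp.equivFunOnFinite.symm (fun v => if v.2 = 0 then (q v.1).1 else (q v.1).2)

theorem mono_apply (q : Fin n → ℕ × ℕ) (v : Fin n × Fin 2) :
    mono q v = if v.2 = 0 then (q v.1).1 else (q v.1).2 := rfl

theorem pOf_mono (q : Fin n → ℕ × ℕ) : (fun j => (mono q (j, 0), mono q (j, 1))) = q := by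
  funext j
  apply Prod.ext
  · show (if (0 : Fin 2) = 0 then (q j).1 else (q j).2) = (q j).1
    exact if_pos rfl
  · show (if (1 : Fin 2) = 0 then (q j).1 else (q j).2) = (q j).2
    exact if_neg (by decide)

theorem mono_injective : Function.Injective (mono : (Fin n → ℕ × ℕ) → _) := by
  intro q q' h
  have h1 := pOf_mono q
  have h2 := pOf_mono q'
  rw [h] at h1
  exact h1.symm.trans h2

theorem inj_aux (σ : Equiv.Perm (Fin n)) :
    Function.Injective (fun v : Fin n × Fin 2 => (σ v.1, v.2)) := by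
  intro a b h
  have h' := Prod.mk.inj h
  exact Prod.ext (σ.injective h'.1) h'.2

theorem mapDomain_mono (σ : Equiv.Perm (Fin n)) (q : Fin n → ℕ × ℕ) :
    Finsupp.mapDomain (fun v : Fin n × Fin 2 => (σ v.1, v.2)) (mono q) =
      mono (fun i => q (σ.symm i)) := by
  ext ⟨i, c⟩
  have h := Finsupp.mapDomain_apply (inj_aux σ) (mono q) (σ.symm i, c)
  simp only [Equiv.apply_symm_apply] at h
  rw [h]
  rfl

theorem Δ_eq_sum (q : Fin n → ℕ × ℕ) :
    Δ k q = ∑ σ : Equiv.Perm (Fin n), ((Equiv.Perm.sign σ : ℤˣ) : ℤ) •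
      MvPolynomial.monomial (mono (fun i => q (σ.symm i))) (1 : k) := by
  have h := A_monomial_one (k := k) (mono q)
  have h2 : Δ k (fun j => (mono q (j, 0), mono q (j, 1))) = Δ k q := congrArg (Δ k) (pOf_mono q)
  rw [← h2, ← h, A_apply]
  refine Finset.sum_congr rfl (fun σ _ => ?_)
  rw [MvPolynomial.rename_monomial, mapDomain_mono]

theorem coeff_Δ (q q' : Fin n → ℕ × ℕ) :
    MvPolynomial.coeff (mono q') (Δ k q) =
      ∑ σ : Equiv.Perm (Fin n), ((Equiv.Perm.sign σ : ℤˣ) : ℤ) •
        (if (fun i => q (σ.symm i)) = q' then (1 : k) else 0) := by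
  have e : MvPolynomial.coeff (mono q') (Δ k q) = MvPolynomial.lcoeff k (mono q') (Δ k q) :=
    (MvPolynomial.lcoeff_apply _ _ _).symm
  rw [e, Δ_eq_sum, map_sum]
  refine Finset.sum_congr rfl (fun σ _ => ?_)
  rw [map_zsmul, MvPolynomial.lcoeff_apply, MvPolynomial.coeff_monomial]
  congr 1
  by_cases h : (fun i => q (σ.symm i)) = q'
  · rw [if_pos h, if_pos (congrArg mono h)]
  · rw [if_neg h, if_neg (fun h' => h (mono_injective h'))]

theorem coeff_Δ_self (q : Fin n → ℕ × ℕ) (hq : Function.Injective q) :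
    MvPolynomial.coeff (mono q) (Δ k q) = 1 := by
  rw [coeff_Δ, Finset.sum_eq_single (1 : Equiv.Perm (Fin n))]
  · rw [Equiv.Perm.sign_one, Units.val_one, one_smul]
    exact if_pos (funext fun i => rfl)
  · intro σ _ hσ
    rw [if_neg, smul_zero]
    intro h
    apply hσ
    refine Equiv.ext (fun i => ?_)
    have h' := congrFun h (σ i)
    simp only [Equiv.symm_apply_apply] at h'
    exact (hq h').symm
  · intro h
    exact absurd (Finset.mem_univ _) h

theorem coeff_Δ_of_ne (q q' : Fin n → ℕ × ℕ)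
    (h : ∀ σ : Equiv.Perm (Fin n), (fun i => q (σ.symm i)) ≠ q') :
    MvPolynomial.coeff (mono q') (Δ k q) = 0 := by
  rw [coeff_Δ]
  exact Finset.sum_eq_zero (fun σ _ => by rw [if_neg (h σ), smul_zero])

theorem linIndep :
    LinearIndependent k (fun p : {p : Fin n → ℕ ×ₗ ℕ // StrictMono p} =>
      Δ k (fun j => ofLex (p.1 j))) := by
  rw [linearIndependent_iff']
  intro s g hg p hp
  have h := congrArg (MvPolynomial.lcoeff k (mono (fun j => ofLex (p.1 j)))) hg
  rw [map_sum, map_zero] at h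
  have h1 : ∀ p' ∈ s, p' ≠ p →
      MvPolynomial.lcoeff k (mono (fun j => ofLex (p.1 j)))
        (g p' • Δ k (fun j => ofLex (p'.1 j))) = 0 := by
    intro p' _ hne
    rw [map_smul, MvPolynomial.lcoeff_apply, coeff_Δ_of_ne, smul_zero]
    intro σ hσ
    apply hne
    apply Subtype.ext
    refine (StrictMono.range_inj p'.2 p.2).mp ?_
    have e : p.1 = p'.1 ∘ σ.symm := by
      funext i
      exact (ofLex.injective (congrFun hσ i)).symm
    rw [e]
    exact (EquivLike.range_comp p'.1 σ.symm).symm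
  have h2 : MvPolynomial.lcoeff k (mono (fun j => ofLex (p.1 j)))
      (g p • Δ k (fun j => ofLex (p.1 j))) = g p := by
    rw [map_smul, MvPolynomial.lcoeff_apply, coeff_Δ_self, smul_eq_mul, mul_one]
    exact fun a b hab => p.2.injective (ofLex.injective hab)
  rw [Finset.sum_eq_single p h1 (fun h => absurd hp h), h2] at h
  exact h

theorem main19449 (k : Type u) [Field k] [CharZero k] (n : ℕ) :
    (∀ f : MvPolynomial (Fin n × Fin 2) k,
      (∀ σ : Equiv.Perm (Fin n),
          MvPolynomial.rename (fun v : Fin n × Fin 2 => (σ v.1, v.2)) f = ((Equiv.Perm.sign σ : ℤˣ) : ℤ) • f) ↔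
        f ∈ Submodule.span k (Set.range fun p : Fin n → ℕ × ℕ =>
          (Matrix.of fun i j : Fin n =>
            (MvPolynomial.X (i, 0) : MvPolynomial (Fin n × Fin 2) k) ^ (p j).1 * MvPolynomial.X (i, 1) ^ (p j).2).det)) ∧
    LinearIndependent k (fun p : {p : Fin n → ℕ ×ₗ ℕ // StrictMono p} =>
      (Matrix.of fun i j : Fin n =>
        (MvPolynomial.X (i, 0) : MvPolynomial (Fin n × Fin 2) k) ^ (ofLex (p.1 j)).1 *
          MvPolynomial.X (i, 1) ^ (ofLex (p.1 j)).2).det) := by
  refine ⟨fun f => ⟨fun hf => mem_span_of_alt f hf, fun hf σ => alt_of_mem_span f hf σ⟩, ?_⟩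
  exact linIndep

end Groth.Agent.Lib.AlternantsH4
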