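import Mathlib
import Groth.Prelude
import Groth.Agent.Lib.Tens43_helper8
import Groth.Agent.Lib.InvInt2_helper9
import Groth.Agent.Lib.InvTens2_helper8

/-!
# Negative powers of an invertible module with sections in high positive powers (helper5)
APPEND-ONLY once landed.
-/

set_option autoImplicit false

namespace Groth.Agent.NegPow

open AlgebraicGeometry CategoryTheory CategoryTheory.Limits TopologicalSpace Opposite TensorProduct
open QcqsLoc MonoidalCategory GenLocH8 FLFH8 QCohExtn PBH8 SerreCrit GGH8 TensH8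

universe u

variable {X : Scheme.{u}}

/-- the zero morphism names the zero section. -/
theorem val_zero_hom (M : X.Modules) (W : X.Opens) :
    SecTwist.val (0 : Coh.structureModule X ⟶ M) W = 0 :=
  map_zero (ap (0 : Coh.structureModule X ⟶ M) W)

/-- On an integral scheme, powers of a nonzero section of an invertible module are nonzero. -/
theorem powHom_ne_zero [IsIntegral X] {L : X.Modules} (hL : PicF.IsInvertible L)
    (s : Coh.structureModule X ⟶ L) (hs : s ≠ 0) (d : ℕ) : SecTwist.powHom s d ≠ 0 := by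
  intro h0
  obtain ⟨x0⟩ : Nonempty X := inferInstance
  obtain ⟨W0, hW0, hx0, e0, he0⟩ := exists_isGen hL x0
  obtain ⟨a0, ha0⟩ := he0.exists_coef (SecTwist.val s W0)
  have h1 := val_powHom_eq s d ha0
  rw [h0, val_zero_hom] at h1
  have hg : IsGen (CohB1.tensorPow L d) W0 ((Frame.pow L d).φ W0 e0) :=
    (Frame.pow L d).isGen he0
  have h2 : a0 ^ d = 0 := by
    apply IsGen.coef_ext hg
    rw [zero_smul]
    exact h1.symm
  haveI : Nonempty W0 := ⟨⟨x0, hx0⟩⟩
  haveI : IsDomain Γ(X, W0) := inferInstance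
  have h3 : a0 = 0 := by
    by_contra hne
    exact pow_ne_zero d hne h2
  apply hs
  apply hom_ext_of_val
  have h4 : SecTwist.val s ⊤ = 0 :=
    eq_zero_of_rF_eq_zero hL (le_top : W0 ≤ ⊤) ⟨x0, hx0⟩ _
      (by rw [rF_val, ha0, h3, zero_smul])
  rw [h4, val_zero_hom]

open Groth.Agent.TensInv CohB1 in
theorem tensorPow_add (L : X.Modules) (a b : ℕ) :
    Nonempty (tensorPow L (a + b) ≅ tensorMod (tensorPow L a) (tensorPow L b)) := by
  induction b with
  | zero => exact ⟨(rightUnit _).symm⟩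
  | succ b ih =>
    obtain ⟨e⟩ := ih
    exact ⟨mapR e L ≪≫ assoc _ _ _⟩

open Groth.Agent.TensInv CohB1 in
theorem tensorPow_mul (L : X.Modules) (m t : ℕ) :
    Nonempty (tensorPow (tensorPow L m) t ≅ tensorPow L (m * t)) := by
  induction t with
  | zero => exact ⟨Iso.refl _⟩
  | succ t ih =>
    obtain ⟨e⟩ := ih
    obtain ⟨e'⟩ := tensorPow_add L (m * t) m
    exact ⟨mapR e _ ≪≫ e'.symm⟩

open Groth.Agent.TensInv CohB1 in
/-- `L^n ⊗ M^n ≅ O` when `L ⊗ M ≅ O`. -/
theorem tensorPow_inverse {L M : X.Modules} (e : tensorMod L M ≅ Coh.structureModule X) (n : ℕ) :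
    Nonempty (tensorMod (tensorPow L n) (tensorPow M n) ≅ Coh.structureModule X) := by
  induction n with
  | zero => exact ⟨rightUnit _⟩
  | succ n ih =>
    obtain ⟨ih⟩ := ih
    refine ⟨?_⟩
    show tensorMod (tensorMod (tensorPow L n) L) (tensorMod (tensorPow M n) M) ≅ _
    exact assoc _ _ _ ≪≫ mapL _ ((assoc _ _ _).symm ≪≫ mapR (comm _ _) _ ≪≫ assoc _ _ _) ≪≫
      (assoc _ _ _).symm ≪≫ mapR ih _ ≪≫ mapL _ e ≪≫ rightUnit _

/-- `H^0(X, M) ≃ Γ(X, M)` -/
noncomputable def h0 (M : X.Modules) : Coh.HH X M 0 ≃+ Γ(M, ⊤) :=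
  Sheaf.H.equiv₀ (Coh.toAb M) Limits.isTerminalTop

/-- a nonzero class in `H^0` gives a nonzero morphism from the structure module. -/
theorem exists_hom_ne_zero (F : X.Modules) (h : Nontrivial (Coh.HH X F 0)) :
    ∃ t : Coh.structureModule X ⟶ F, t ≠ 0 := by
  obtain ⟨x, hx⟩ := exists_ne (0 : Coh.HH X F 0)
  have hσ : h0 F x ≠ 0 := by
    intro hz
    apply hx
    apply (h0 F).injective
    rw [hz, map_zero]
  refine ⟨homOfSec F (h0 F x), ?_⟩
  intro hz
  apply hσ
  have h1 := val_homOfSec F (h0 F x) ⊤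
  rw [hz, val_zero_hom, SubExt.rF_self] at h1
  exact h1.symm

end Groth.Agent.NegPow
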