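import Mathlib
import Groth.Prelude
import Groth.Agent.Lib.ResProp_lead
import Groth.Agent.Lib.NegPow_helper5
import Groth.Agent.Lib.SerreCrit3_helper9
import Groth.Agent.Lib.AffVanish4_helper9
import Groth.Agent.Lib.QcqsColim1_helper2
import Groth.Agent.Lib.ExtDual2_helper9
import Groth.Agent.Lib.ModSite5_helper8
import Groth.Agent.Lib.InvTens2_helper8

/-!
# A scheme with an ample invertible module whose negative powers are acyclic is affine (helper3)

`main0824`: `L` ample, `L ⊗ L' ≅ O`, `H^p(X, L'^n) = 0` for `n ≥ n₀`, `p > 0` ⟹ `X` affine.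

Proof: descending induction on `p` (starting from the uniform cohomological bound of a qcqs scheme,
`AffVanish.exists_bound_HH`) shows `H^p(X, F) = 0` for every quasi-coherent `F` and `p > 0`:
reduce to finite type `F` (`QcqsColimH2.subsingleton_HH_of_ftSub`), choose an epimorphism
`O^N ⊗ L'^n → F` with `n ≥ n₀` (ampleness) and use the long exact sequence.  Conclude with
Serre's criterion (`SerreCrit`).
-/

set_option autoImplicit false
set_option linter.all false
set_option maxHeartbeats 1600000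
set_option backward.isDefEq.respectTransparency false
set_option backward.isDefEq.respectTransparency.types false
set_option backward.defeqAttrib.useBackward true

universe u

open CategoryTheory CategoryTheory.Limits AlgebraicGeometry Opposite TopologicalSpace

namespace Groth.Agent.Lib.AmpleAffH3

open Groth.Agent.TensInv QcqsLoc QCohExtn TensH8 FLFH8

variable {X : Scheme.{u}}

theorem subsingleton_HH_of_iso {A A' : X.Modules} (e : A ≅ A') (i : ℕ)
    (h : Subsingleton (Coh.HH X A' i)) : Subsingleton (Coh.HH X A i) := by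
  let β := (SheafOfModules.toSheaf X.ringCatSheaf).mapIso e
  let f : Coh.toAb A ⟶ Coh.toAb A' := β.hom
  let g : Coh.toAb A' ⟶ Coh.toAb A := β.inv
  have hfg : f ≫ g = 𝟙 _ := β.hom_inv_id
  refine ⟨fun a b => ?_⟩
  have ha : Sheaf.H.map g i (Sheaf.H.map f i a) = a := by
    rw [← Sheaf.H.map_comp_apply, hfg, Sheaf.H.map_id_apply]
  have hb : Sheaf.H.map g i (Sheaf.H.map f i b) = b := by
    rw [← Sheaf.H.map_comp_apply, hfg, Sheaf.H.map_id_apply]
  rw [← ha, ← hb, Subsingleton.elim (Sheaf.H.map f i a) (Sheaf.H.map f i b)]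

/-- right tensoring preserves colimits -/
theorem preservesColimits_tR (M : X.Modules) : PreservesColimitsOfSize.{u, u} (tR M) :=
  Groth.Agent.Lib.ModSiteH8.preservesColimits_flip X.sheaf M

theorem epi_tR_map (M : X.Modules) {A B : X.Modules} (p : A ⟶ B) [Epi p] :
    Epi ((tR M).map p) := by
  haveI := preservesColimits_tR M
  haveI : PreservesColimitsOfSize.{0, 0} (tR M) := preservesSmallestColimits_of_preservesColimits _
  infer_instance

/-- `H^i(O^n ⊗ M) = 0` if `H^i(M) = 0` (after helper9, `NodalG0.subsingleton_HH_freeMod_tensor`). -/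
theorem subsingleton_HH_freeMod_tensor (M : X.Modules) (n i : ℕ)
    (hM : Subsingleton (Coh.HH X M i)) :
    Subsingleton (Coh.HH X (CohB1.tensorMod (FlatMod.freeMod X n) M) i) := by
  haveI := preservesColimits_tR M
  haveI : PreservesColimitsOfSize.{0, 0} (tR M) := preservesSmallestColimits_of_preservesColimits _
  have e : (tR M).obj (∐ fun _ : Fin n => Coh.structureModule X) ≅
      ∐ fun _ : Fin n => (tR M).obj (Coh.structureModule X) :=
    PreservesCoproduct.iso (tR M) (fun _ : Fin n => Coh.structureModule X)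
  have h1 : Subsingleton (Coh.HH X ((tR M).obj (Coh.structureModule X)) i) :=
    subsingleton_HH_of_iso (comm (Coh.structureModule X) M ≪≫ rightUnit M) i hM
  exact subsingleton_HH_of_iso e i
    (Groth.Agent.ExtDual.subsingleton_HH_sigma ((tR M).obj (Coh.structureModule X)) n i h1)

/-- a piece of the long exact cohomology sequence -/
theorem subsingleton_HH_X₃ (S : ShortComplex X.Modules) (hS : S.ShortExact) (p : ℕ)
    (h2 : Subsingleton (Coh.HH X S.X₂ p)) (h1 : Subsingleton (Coh.HH X S.X₁ (p + 1))) :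
    Subsingleton (Coh.HH X S.X₃ p) := by
  have hT := SerreCrit.shortExact_toSheaf S hS
  have key : ∀ x : Coh.HH X S.X₃ p, x = 0 := by
    intro x
    obtain ⟨x₂, hx₂⟩ := Abelian.Ext.covariant_sequence_exact₃ _ hT x rfl
      (Subsingleton.elim (h := h1) _ _)
    have hx0 : x₂ = 0 := Subsingleton.elim (h := h2) _ _
    rw [← hx₂, hx0, Abelian.Ext.zero_comp]
  exact ⟨fun a b => (key a).trans (key b).symm⟩

open Groth.Agent.Lib.ResPropL in
/-- For `L` ample and `F` quasi-coherent of finite type, `F ⊗ L^n` is a quotient of a finite free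
module for some `n ≥ n₀` (after lead, `ResPropL.hasResolutionProperty_of_isAmple`). -/
theorem exists_epi_twist_ge (L : X.Modules) (hL : CohB1.IsAmple L) (F : X.Modules)
    (hF : Coh.IsCoh F) (n₀ : ℕ) :
    ∃ (n N : ℕ) (p : FlatMod.freeMod X N ⟶ CohB1.tensorMod F (CohB1.tensorPow L n)),
      n₀ ≤ n ∧ Epi p := by
  classical
  obtain ⟨hinv, hc, hcov⟩ := id hL
  haveI := hc
  haveI : QuasiSeparatedSpace X := quasiSeparatedSpace_of_affine_genLocus hinv hcov
  haveI : F.IsQuasicoherent := hF.1
  haveI : SheafOfModules.IsFiniteType (R := X.ringCatSheaf) F := hF.2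
  have hA : IsAmpleOn L ⊤ := isAmpleOn_of_isAmple hL ⊤ (by simpa using isCompact_univ (X := X))
  obtain ⟨n₁, hn₁⟩ := exists_gen_of_isAmpleOn hinv F hA
  obtain ⟨n, hn⟩ : ∃ n, n = max n₁ n₀ := ⟨_, rfl⟩
  have hM : PicF.IsInvertible (CohB1.tensorPow L n) := isInvertible_tensorPow hinv n
  have hMc : Coh.IsCoh (CohB1.tensorPow L n) :=
    isCoh_of_finLocFree' (isFinLocFree_of_isInvertible hM)
  haveI : (CohB1.tensorPow L n).IsQuasicoherent := hMc.1
  haveI : (CohB1.tensorMod F (CohB1.tensorPow L n)).IsQuasicoherent :=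
    TensQCH8.isQuasicoherent_tensorMod F _
  haveI : SheafOfModules.IsFiniteType (R := X.ringCatSheaf)
      (CohB1.tensorMod F (CohB1.tensorPow L n)) :=
    TensQCH8.isFiniteType_tensorMod F _ hF.2 hMc.2
  have hspan : SpansNear (CohB1.tensorMod F (CohB1.tensorPow L n)) ⊤ Set.univ := by
    intro W z y hyW _
    obtain ⟨W', h', hyW', hmem⟩ :=
      hn₁ n (by rw [hn]; exact le_max_left _ _) (TFrame.tensor (Frame.pow L n) F)
        (le_top : W ≤ ⊤) z y hyW
    refine ⟨W', h', hyW', ?_⟩
    rw [Set.image_univ]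
    exact hmem
  obtain ⟨Y, hY⟩ := exists_finset_spans _ hspan
  let yy : Fin Y.card → Γ(CohB1.tensorMod F (CohB1.tensorPow L n), ⊤) :=
    fun j => (Y.equivFin.symm j).1
  have hrange : Set.range yy = (Y : Set _) := by
    ext t
    constructor
    · rintro ⟨j, rfl⟩
      exact (Y.equivFin.symm j).2
    · intro ht
      exact ⟨Y.equivFin ⟨t, ht⟩, by simp [yy]⟩
  exact ⟨n, Y.card, Sigma.desc (fun j => homOfSec _ (yy j)),
    by rw [hn]; exact le_max_right _ _, epi_desc_of_spans _ yy (by rw [hrange]; exact hY)⟩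

open Groth.Agent.Lib.ResPropL in
/-- Every quasi-coherent module of finite type is a quotient of a quasi-coherent module without
higher cohomology. -/
theorem exists_epi_acyclic (L L' : X.Modules) (hL : CohB1.IsAmple L)
    (hinv : Nonempty (CohB1.tensorMod L L' ≅ Coh.structureModule X)) (n₀ : ℕ)
    (h : ∀ n : ℕ, n₀ ≤ n → ∀ p : ℕ, 0 < p → Subsingleton (Coh.HH X (CohB1.tensorPow L' n) p))
    (G : X.Modules) (hG : Coh.IsCoh G) :
    ∃ (E : X.Modules) (π : E ⟶ G), Epi π ∧ E.IsQuasicoherent ∧
      ∀ p : ℕ, 0 < p → Subsingleton (Coh.HH X E p) := by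
  obtain ⟨n, N, p₀, hn, hp₀⟩ := exists_epi_twist_ge L hL G hG n₀
  haveI := hp₀
  obtain ⟨e⟩ := hinv
  obtain ⟨eK⟩ := Groth.Agent.NegPow.tensorPow_inverse e n
  obtain ⟨K, hKdef⟩ : ∃ K, K = CohB1.tensorPow L' n := ⟨_, rfl⟩
  rw [← hKdef] at eK
  let θ : CohB1.tensorMod (CohB1.tensorMod G (CohB1.tensorPow L n)) K ≅ G :=
    assoc G _ K ≪≫ mapL G eK ≪≫ rightUnit G
  have hL' : PicF.IsInvertible L' := InvTensH8.isInvertible_of_tensor_iso (swap ⟨e⟩).some
  have hK : PicF.IsInvertible K := by rw [hKdef]; exact isInvertible_tensorPow hL' n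
  haveI : K.IsQuasicoherent := isQuasicoherent_of_isInvertible hK
  haveI : (FlatMod.freeMod X N).IsQuasicoherent :=
    isQuasicoherent_of_finLocFree _ (isFinLocFree_of_iso_free (Iso.refl _))
  refine ⟨(tR K).obj (FlatMod.freeMod X N), (tR K).map p₀ ≫ θ.hom, ?_, ?_, ?_⟩
  · haveI := epi_tR_map K p₀
    exact epi_comp _ _
  · exact TensQCH8.isQuasicoherent_tensorMod _ K
  · intro p hp
    rw [hKdef]
    exact subsingleton_HH_freeMod_tensor _ N p (h n hn p hp)

open Groth.Agent.Lib.ResPropL in
/-- **S0824** -/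
theorem main0824 (X : Scheme.{u}) (L L' : X.Modules)
    (hL : CohB1.IsAmple L) (hinv : Nonempty (CohB1.tensorMod L L' ≅ Coh.structureModule X)) (n₀ : ℕ)
    (h : ∀ n : ℕ, n₀ ≤ n → ∀ p : ℕ, 0 < p → Subsingleton (Coh.HH X (CohB1.tensorPow L' n) p)) :
    IsAffine X := by
  obtain ⟨hinvL, hc, hcov⟩ := id hL
  haveI := hc
  haveI : QuasiSeparatedSpace X := quasiSeparatedSpace_of_affine_genLocus hinvL hcov
  obtain ⟨d, hd⟩ := AffVanish.exists_bound_HH X
  have claim : ∀ k p : ℕ, 1 ≤ p → d ≤ p + k → ∀ F : X.Modules, F.IsQuasicoherent →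
      Subsingleton (Coh.HH X F p) := by
    intro k
    induction k with
    | zero =>
      intro p _ hp F hF
      exact hd F hF p (by omega)
    | succ k ih =>
      intro p hp1 hpk F hF
      haveI := hF
      apply Groth.Agent.Lib.QcqsColimH2.subsingleton_HH_of_ftSub F p
      intro a
      have hG := Groth.Agent.Lib.QcqsColimH2.isCoh_ftDiagObj F a
      obtain ⟨E, π, hπ, hEq, hE⟩ := exists_epi_acyclic L L' hL hinv n₀ h _ hG
      haveI := hπ
      haveI := hEq
      haveI := hG.1
      let S : ShortComplex X.Modules := ShortComplex.mk (kernel.ι π) π (kernel.condition π)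
      have hS : S.ShortExact := ShortComplex.ShortExact.mk' (ShortComplex.exact_kernel π)
        (inferInstanceAs (Mono (kernel.ι π))) hπ
      have hker : (kernel π).IsQuasicoherent := SubExt.isQuasicoherent_kernel π
      exact subsingleton_HH_X₃ S hS p (hE p hp1) (ih (p + 1) (by omega) (by omega) (kernel π) hker)
  apply SerreCrit.isAffine_of_surjHyp
  apply SerreCrit.surjHyp_of_H1
  intro I i hi hI x
  haveI := claim d 1 le_rfl (by omega) I hI
  exact Subsingleton.elim _ _

end Groth.Agent.Lib.AmpleAffH3
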