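import Mathlib
import Groth.Prelude
import Groth.Agent.Lib.CurveAmple3_helper9
import Groth.Agent.Lib.CurveAmple5_helper9
import Groth.Agent.Lib.TensPowApi_helper9
import Groth.Agent.Lib.CurveTens4_helper9

/-!
# Uniform Serre vanishing for `H¹` on an integral proper curve (helper9)
APPEND-ONLY once landed.
-/

set_option autoImplicit false
universe u
open CategoryTheory CategoryTheory.Limits AlgebraicGeometry Opposite TopologicalSpace

namespace AmpleComp

open QcqsLoc QCohExtn GenLocH8 TensH8 FLFH8 Groth.Agent.HHVan Groth.Agent.TensInv CohB1 CurveAmple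

section Uniform

variable (k : Type u) [Field k] (X : Scheme.{u}) [X.Over (Spec (CommRingCat.of k))]
  [IsIntegral X] [IsProper (X ↘ Spec (CommRingCat.of k))]

/-- **uniform Serre vanishing**: on an integral proper curve, `H¹(G ⊗ L^n) = 0` for all large `n`
when `L` has positive degree -/
theorem exists_forall_HH1_subsingleton (hdim : topologicalKrullDim X ≤ 1) {L : X.Modules}
    (hL : PicF.IsInvertible L) (hdeg : 0 < Curv2.deg k X L 1) {G : X.Modules} (hG : Coh.IsCoh G) :
    ∃ n₀ : ℕ, ∀ n : ℕ, n₀ ≤ n →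
      Subsingleton (Coh.HH X (CohB1.tensorMod G (CohB1.tensorPow L n)) 1) := by
  haveI : IsLocallyNoetherian X :=
    LocallyOfFiniteType.isLocallyNoetherian (X ↘ Spec (CommRingCat.of k))
  obtain ⟨N, hN⟩ := exists_HH1_subsingleton k X hdim hL hdeg hG
  set c := Curv2.euler k X (Coh.structureModule X) with hc
  set d := Curv2.deg k X L 1 with hd
  let m₁ : ℕ := (-c).toNat + 1
  refine ⟨N + 1 + m₁, fun n hn => ?_⟩
  obtain ⟨m, rfl⟩ : ∃ m, n = N + 1 + m := ⟨n - (N + 1), by omega⟩
  have hm : m₁ ≤ m := by omega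
  -- `L^m` has a nonzero section
  have hLm := isInvertible_tensorPow hL m
  haveI := (ProperFinH9.isCoh_of_isInvertible hLm).1
  have hpos : 0 < Module.finrank k (Coh.HH X (CohB1.tensorPow L m) 0) := by
    have h1 := euler_le_finrank k X hdim (CohB1.tensorPow L m)
    have h2 := CurveTens.deg_tensorPow k X hdim hL m
    have h2' : Curv2.deg k X (CohB1.tensorPow L m) 1 =
        Curv2.euler k X (CohB1.tensorPow L m) - ((1 : ℕ) : ℤ) * c := rfl
    rw [h2'] at h2
    push_cast at h2
    have h3 : -c ≤ ((-c).toNat : ℤ) := Int.self_le_toNat (-c)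
    have h4 : (1 : ℤ) ≤ d := hdeg
    have h5 : (0 : ℤ) ≤ ((-c).toNat : ℤ) := Int.natCast_nonneg _
    have h6 : ((m₁ : ℕ) : ℤ) = ((-c).toNat : ℤ) + 1 := Nat.cast_succ _
    have h7 : ((m₁ : ℕ) : ℤ) ≤ (m : ℤ) := by exact_mod_cast hm
    have h8 : (0 : ℤ) < (m : ℤ) * d + c := by nlinarith
    have h9 : (0 : ℤ) < (Module.finrank k (Coh.HH X (CohB1.tensorPow L m) 0) : ℤ) := by linarith
    exact_mod_cast h9
  obtain ⟨u, hu⟩ := CurveRR.exists_section_of_finrank_pos k X _ hpos
  have hG' := isCoh_tensorMod X hG (isInvertible_tensorPow hL (N + 1))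
  have h1 := finrank_HH1_tensor_le k X hdim hG' hLm u hu
  have h0 : Module.finrank k
      (Coh.HH X (CohB1.tensorMod G (CohB1.tensorPow L (N + 1))) 1) = 0 := by
    haveI := hN
    exact Module.finrank_zero_of_subsingleton
  rw [h0] at h1
  have hTc := isCoh_tensorMod X hG' hLm
  haveI := ProperFinH9.finite_HH_of_proper k X _ hTc 1
  have h2 : Subsingleton (Coh.HH X (CohB1.tensorMod (CohB1.tensorMod G (CohB1.tensorPow L (N + 1)))
      (CohB1.tensorPow L m)) 1) :=
    Module.finrank_zero_iff.mp (Nat.le_zero.mp h1)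
  obtain ⟨e⟩ := TensPowH9.tensorPow_add L (N + 1) m
  exact subsingleton_of_iso (assoc G _ _ ≪≫ mapL G e.symm) 1 h2

end Uniform

end AmpleComp
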