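import Mathlib
import Groth.Prelude
import Groth.Agent.Lib.ZClos3_helper8

set_option autoImplicit false
universe u

open CategoryTheory CategoryTheory.Limits AlgebraicGeometry TopologicalSpace Opposite

/-! The Z-closure of a module on a locally Noetherian scheme: sections of `H⁰_{X/Z}(F)` over
quasi-compact opens, and consequences. -/

namespace ZClosH8

variable {X : Scheme.{u}}

section TV

variable {Z : Set X}

/-- The open `(X ∖ T) ∩ V` in the form in which it appears in sections of `j_*j^*F`. -/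
abbrev TV (T : ZClos.Cl Z) (V : X.Opens) : X.Opens := T.U.ι ''ᵁ T.U.ι ⁻¹ᵁ V

theorem TV_eq (T : ZClos.Cl Z) (V : X.Opens) : TV T V = T.U ⊓ V := ZClos.ι_image_preimage _ _

theorem TV_le (T : ZClos.Cl Z) (V : X.Opens) : TV T V ≤ V := T.U.ι.image_preimage_le V

theorem TV_mono_left {T T' : ZClos.Cl Z} (h : T ≤ T') (V : X.Opens) : TV T' V ≤ TV T V :=
  ZClos.resPush_le (ZClos.Cl.U_anti h) V

theorem TV_mono_right (T : ZClos.Cl Z) {V V' : X.Opens} (h : V' ≤ V) : TV T V' ≤ TV T V := by
  rw [TV_eq, TV_eq]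
  exact inf_le_inf_left _ h

theorem TV_inf_eq {T T' : ZClos.Cl Z} (h : T ≤ T') (V : X.Opens) :
    TV T' (V ⊓ T.U) = TV T' V := by
  rw [TV_eq, TV_eq]
  apply le_antisymm
  · exact inf_le_inf_left _ inf_le_left
  · exact le_inf inf_le_left (le_inf inf_le_right (inf_le_left.trans (ZClos.Cl.U_anti h)))

end TV

section H0Sections

variable (Z : Set X) (F : X.Modules)

/-- The colimit injections. -/
noncomputable abbrev ιH (T : ZClos.Cl Z) : (ZClos.resPush T.U).obj F ⟶ (ZClos.H0 Z).obj F :=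
  colimit.ι ((ZClos.diagram Z).obj F) T

/-- Restriction of sections of `j_*j^*F`. -/
theorem resPush_res (T : ZClos.Cl Z) {V V' : X.Opens} (h : V' ≤ V)
    (s : ((ZClos.resPush T.U).obj F).presheaf.obj (op V)) :
    res ((ZClos.resPush T.U).obj F) h s = res F (TV_mono_right T h) s := by
  have h1 : res ((ZClos.resPush T.U).obj F) h =
      F.presheaf.map (T.U.ι.opensFunctor.map ((Opens.map T.U.ι.base).map (homOfLE h))).op :=
    ZClos.resPush_presheaf_map T.U F (homOfLE h)
  exact (ConcreteCategory.congr_hom h1 s).trans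
    (map_eq_res F (O := TV T V) (O' := TV T V')
      (T.U.ι.opensFunctor.map ((Opens.map T.U.ι.base).map (homOfLE h))) s)

theorem transition_app {T T' : ZClos.Cl Z} (h : T ≤ T') (V : X.Opens)
    (s : ((ZClos.resPush T.U).obj F).presheaf.obj (op V)) :
    (((ZClos.diagram Z).obj F).map (homOfLE h)).app V s = res F (TV_mono_left h V) s := by
  have h3 : (((ZClos.diagram Z).obj F).map (homOfLE h)).app V =
      res F (TV_mono_left h V) := ZClos.resPushMapApp_app (ZClos.Cl.U_anti h) F V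
  exact ConcreteCategory.congr_hom h3 s

/-- Compatibility of the colimit injections with the transition maps. -/
theorem ιH_trans {T T' : ZClos.Cl Z} (h : T ≤ T') (V : X.Opens)
    (s : ((ZClos.resPush T.U).obj F).presheaf.obj (op V)) :
    (ιH Z F T).app V s = (ιH Z F T').app V (res F (TV_mono_left h V) s) := by
  have h2 : ((ZClos.diagram Z).obj F).map (homOfLE h) ≫ ιH Z F T' = ιH Z F T :=
    colimit.w ((ZClos.diagram Z).obj F) (homOfLE h)
  have h4 := congrArg (fun f => Scheme.Modules.Hom.app f V) h2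
  have h5 : (((ZClos.diagram Z).obj F).map (homOfLE h)).app V ≫ (ιH Z F T').app V =
      (ιH Z F T).app V := h4
  rw [← transition_app]
  exact (ConcreteCategory.congr_hom h5 s).symm

/-- The colimit injections commute with restriction. -/
theorem ιH_res (T : ZClos.Cl Z) {V V' : X.Opens} (h : V' ≤ V)
    (s : ((ZClos.resPush T.U).obj F).presheaf.obj (op V)) :
    res ((ZClos.H0 Z).obj F) h ((ιH Z F T).app V s) =
      (ιH Z F T).app V' (res F (TV_mono_right T h) s) := by
  rw [← app_res (ιH Z F T) h s, resPush_res]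

variable [IsLocallyNoetherian X]

/-- Every section of `H⁰_{X/Z}(F)` over a quasi-compact open comes from a finite stage. -/
theorem H0_exists_rep (V : X.Opens) (hV : IsCompact (V : Set X))
    (t : ((ZClos.H0 Z).obj F).presheaf.obj (op V)) :
    ∃ (T : ZClos.Cl Z) (s : ((ZClos.resPush T.U).obj F).presheaf.obj (op V)),
      (ιH Z F T).app V s = t :=
  ModColimH8.exists_rep ((ZClos.diagram Z).obj F) (colimit.cocone _) (colimit.isColimit _) V
    (fun _ hW => isCompact_of_le hV hW) t

/-- A section killed in `H⁰_{X/Z}(F)` over a quasi-compact open is killed at a finite stage. -/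
theorem H0_eq_zero (V : X.Opens) (hV : IsCompact (V : Set X)) (T : ZClos.Cl Z)
    (s : ((ZClos.resPush T.U).obj F).presheaf.obj (op V)) (h : (ιH Z F T).app V s = 0) :
    ∃ (T' : ZClos.Cl Z) (hTT' : T ≤ T'), res F (TV_mono_left hTT' V) s = 0 := by
  obtain ⟨T', hTT', h'⟩ := ModColimH8.eq_zero_of_compact ((ZClos.diagram Z).obj F)
    (colimit.cocone _) (colimit.isColimit _) T V hV s h
  refine ⟨T', hTT', ?_⟩
  rw [← transition_app]
  exact h'

/-- `H⁰_{X/Z}(F)` is Z-closed. -/
theorem isZClosed_H0 : ZClos.IsZClosed Z ((ZClos.H0 Z).obj F) := by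
  rw [isZClosed_iff_compact]
  intro T V hV
  have hW : IsCompact ((V ⊓ T.U : X.Opens) : Set X) := isCompact_of_le hV inf_le_left
  constructor
  · -- injective
    refine (injective_iff_map_eq_zero
      (res ((ZClos.H0 Z).obj F) (inf_le_left : V ⊓ T.U ≤ V)).hom).mpr ?_
    intro t ht
    obtain ⟨T1, s1, rfl⟩ := H0_exists_rep Z F V hV t
    have hT1 : T1 ≤ T ⊔ T1 := le_sup_right
    have hT : T ≤ T ⊔ T1 := le_sup_left
    rw [ιH_trans Z F hT1 V s1]
    have ht' : res ((ZClos.H0 Z).obj F) (inf_le_left : V ⊓ T.U ≤ V)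
        ((ιH Z F (T ⊔ T1)).app V (res F (TV_mono_left hT1 V) s1)) = 0 := by
      rw [← ιH_trans Z F hT1 V s1]
      exact ht
    rw [ιH_res] at ht'
    obtain ⟨T'', hT'', h0⟩ := H0_eq_zero Z F (V ⊓ T.U) hW (T ⊔ T1) _ ht'
    rw [res_res, res_res] at h0
    have h1 : res F ((TV_mono_left hT'' V).trans (TV_mono_left hT1 V)) s1 = 0 :=
      res_congr F (O := TV T1 V) (TV_inf_eq (hT.trans hT'') V) _ _ s1 h0
    rw [ιH_trans Z F hT'' V, res_res, h1]
    exact map_zero ((ιH Z F T'').app V).hom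
  · -- surjective
    intro t'
    obtain ⟨T1, s1, rfl⟩ := H0_exists_rep Z F (V ⊓ T.U) hW t'
    have hT1 : T1 ≤ T ⊔ T1 := le_sup_right
    have hT : T ≤ T ⊔ T1 := le_sup_left
    have e : TV (T ⊔ T1) (V ⊓ T.U) = TV (T ⊔ T1) V := TV_inf_eq hT V
    let s : ((ZClos.resPush (T ⊔ T1).U).obj F).presheaf.obj (op (V ⊓ T.U)) :=
      res F (TV_mono_left hT1 (V ⊓ T.U)) s1
    let s' : ((ZClos.resPush (T ⊔ T1).U).obj F).presheaf.obj (op V) :=
      res F (O := TV (T ⊔ T1) (V ⊓ T.U)) (le_of_eq e.symm) s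
    refine ⟨(ιH Z F (T ⊔ T1)).app V s', ?_⟩
    have h1 := ιH_res Z F (T ⊔ T1) (inf_le_left : V ⊓ T.U ≤ V) s'
    refine h1.trans ?_
    rw [ιH_trans Z F hT1 _ s1]
    congr 1
    have h2 : res F (TV_mono_right (T ⊔ T1) (inf_le_left : V ⊓ T.U ≤ V))
        (res F (O := TV (T ⊔ T1) (V ⊓ T.U)) (le_of_eq e.symm) s) = s := by
      rw [res_res]
      exact res_self F (O := TV (T ⊔ T1) (V ⊓ T.U)) _ s
    exact h2

end H0Sections

end ZClosH8
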