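import Mathlib
import Groth.Prelude
import Groth.Agent.Lib.ZClos4_helper8

set_option autoImplicit false
universe u

open CategoryTheory CategoryTheory.Limits AlgebraicGeometry TopologicalSpace Opposite

/-! The Z-closure of a module on a locally Noetherian scheme: stalks outside `Z`, vanishing,
and the characterization of the Z-closure. -/

namespace ZClosH8

variable {X : Scheme.{u}}

section Germ

variable (G : X.Modules)

theorem germ_res {O O' : X.Opens} (h : O' ≤ O) (x : X) (hx : x ∈ O')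
    (s : G.presheaf.obj (op O)) :
    G.presheaf.germ O' x hx (res G h s) = G.presheaf.germ O x (h hx) s :=
  TopCat.Presheaf.germ_res_apply G.presheaf (homOfLE h) x hx s

/-- Every germ is the germ of a section over an affine open. -/
theorem exists_germ_affine (x : X) (a : G.presheaf.stalk x) :
    ∃ (O : X.Opens) (_ : IsAffineOpen O) (hx : x ∈ O) (s : G.presheaf.obj (op O)),
      G.presheaf.germ O x hx s = a := by
  obtain ⟨V, hxV, s, rfl⟩ := TopCat.Presheaf.exists_germ_eq G.presheaf a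
  obtain ⟨_, ⟨O, hO, rfl⟩, hxO, hOV⟩ :=
    X.isBasis_affineOpens.exists_subset_of_mem_open hxV V.2
  exact ⟨O, hO, hxO, res G hOV s, germ_res G hOV x hxO s⟩

/-- A section with zero germ at `x` vanishes on an affine open neighbourhood of `x`. -/
theorem exists_affine_res_eq_zero {O : X.Opens} (x : X) (hx : x ∈ O)
    (s : G.presheaf.obj (op O)) (h : G.presheaf.germ O x hx s = 0) :
    ∃ (O' : X.Opens) (_ : IsAffineOpen O') (hO' : O' ≤ O), x ∈ O' ∧ res G hO' s = 0 := by
  have h0 : G.presheaf.germ O x hx s = G.presheaf.germ O x hx 0 := by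
    rw [map_zero]
    exact h
  obtain ⟨W, hxW, i1, i2, hW⟩ := TopCat.Presheaf.germ_eq G.presheaf x hx hx s 0 h0
  obtain ⟨_, ⟨O', hO', rfl⟩, hxO', hO'W⟩ :=
    X.isBasis_affineOpens.exists_subset_of_mem_open hxW W.2
  refine ⟨O', hO', hO'W.trans (leOfHom i1), hxO', ?_⟩
  rw [map_zero, map_eq_res G i1 s] at hW
  have := congrArg (res G hO'W) hW
  rw [res_res, map_zero] at this
  exact this

end Germ

section Stalk

variable (Z : Set X) (F : X.Modules)

theorem rhoApp_app (T : ZClos.Cl Z) (V : X.Opens) (s : F.presheaf.obj (op V)) :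
    (ZClos.rhoApp Z F).app V s = (ιH Z F T).app V (res F (TV_le T V) s) := by
  have h1 : ZClos.rhoApp Z F = ZClos.toDiagram Z F T ≫ ιH Z F T := ZClos.rhoApp_eq Z F T
  have h2 := congrArg (fun f => Scheme.Modules.Hom.app f V) h1
  have h3 : (ZClos.rhoApp Z F).app V = (ZClos.toDiagram Z F T).app V ≫ (ιH Z F T).app V := h2
  exact ConcreteCategory.congr_hom h3 s

theorem rhoStalk_germ (x : X) (V : X.Opens) (hx : x ∈ V) (s : F.presheaf.obj (op V)) :
    ZClos.rhoStalk Z F x (F.presheaf.germ V x hx s) =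
      ((ZClos.H0 Z).obj F).presheaf.germ V x hx ((ZClos.rhoApp Z F).app V s) :=
  TopCat.Presheaf.stalkFunctor_map_germ_apply V x hx (ZClos.rhoApp Z F).mapPresheaf s

theorem mem_TV {T : ZClos.Cl Z} {V : X.Opens} {x : X} (hxZ : x ∉ Z) (hx : x ∈ V) :
    x ∈ TV T V := by
  rw [TV_eq]
  have h1 : x ∈ T.U := fun hxT => hxZ (T.2 hxT)
  exact ⟨h1, hx⟩

variable [IsLocallyNoetherian X]

/-- Outside `Z` the map `ρ_{X/Z}` is bijective on stalks. -/
theorem isZClosedAt_of_not_mem (x : X) (hx : x ∉ Z) : ZClos.IsZClosedAt Z F x := by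
  constructor
  · refine (injective_iff_map_eq_zero (ZClos.rhoStalk Z F x).hom).mpr ?_
    intro a ha
    obtain ⟨O, hO, hxO, s, rfl⟩ := exists_germ_affine F x a
    have ha' : ZClos.rhoStalk Z F x (F.presheaf.germ O x hxO s) = 0 := ha
    rw [rhoStalk_germ] at ha'
    obtain ⟨O', hO', hO'O, hxO', h0⟩ :=
      exists_affine_res_eq_zero ((ZClos.H0 Z).obj F) x hxO _ ha'
    rw [← app_res, rhoApp_app Z F ⊥] at h0
    obtain ⟨T, hbT, hT⟩ := H0_eq_zero Z F O' (IsAffineOpen.isCompact hO') ⊥ _ h0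
    rw [res_res, res_res] at hT
    have h1 := germ_res F ((TV_le T O').trans hO'O) x (mem_TV Z (T := T) hx hxO') s
    rw [← h1]
    exact (congrArg _ hT).trans (map_zero _)
  · intro b
    obtain ⟨O, hO, hxO, t, rfl⟩ := exists_germ_affine ((ZClos.H0 Z).obj F) x b
    obtain ⟨T, s, rfl⟩ := H0_exists_rep Z F O (IsAffineOpen.isCompact hO) t
    have hxW : x ∈ TV T O := mem_TV Z hx hxO
    refine ⟨F.presheaf.germ (TV T O) x hxW s, ?_⟩
    rw [rhoStalk_germ, rhoApp_app Z F T, ← germ_res ((ZClos.H0 Z).obj F) (TV_le T O) x hxW,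
      ιH_res]

omit [IsLocallyNoetherian X] in
/-- Sections of a zero module vanish. -/
theorem section_eq_zero_of_isZero {M : X.Modules} (h : IsZero M) (V : X.Opens)
    (s : M.presheaf.obj (op V)) : s = 0 := by
  have h1 : 𝟙 M = 0 := h.eq_of_src _ _
  have h2 := congrArg (fun f => Scheme.Modules.Hom.app f V) h1
  have h3 : (𝟙 (M.presheaf.obj (op V))) = 0 := h2
  exact ConcreteCategory.congr_hom h3 s

/-- If the stalks of `F` vanish outside `Z` then `H⁰_{X/Z}(F) = 0`. -/
theorem isZero_H0_of_supp (hZ : StableUnderSpecialization Z)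
    (h : ∀ x : X, x ∉ Z → Subsingleton (F.presheaf.stalk x)) :
    IsZero ((ZClos.H0 Z).obj F) := by
  have key : ∀ (V : X.Opens), IsCompact (V : Set X) →
      ∀ t : ((ZClos.H0 Z).obj F).presheaf.obj (op V), t = 0 := by
    intro V hV t
    obtain ⟨T, s, rfl⟩ := H0_exists_rep Z F V hV t
    have hW : IsCompact ((TV T V : X.Opens) : Set X) := isCompact_of_le hV (TV_le T V)
    obtain ⟨T1, hT1⟩ := exists_Cl_res_eq_zero F hZ (TV T V) hW s (fun y hy hyZ => by
      haveI := h y hyZ
      exact Subsingleton.elim _ _)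
    have h2 := hT1 (TV (T ⊔ T1) V) (TV_mono_left le_sup_left V) (by
      rw [TV_eq]
      exact inf_le_left.trans (ZClos.Cl.U_anti le_sup_right))
    rw [ιH_trans Z F (le_sup_left : T ≤ T ⊔ T1) V s, h2]
    exact map_zero ((ιH Z F (T ⊔ T1)).app V).hom
  haveI : Mono (0 : (ZClos.H0 Z).obj F ⟶ (ZClos.H0 Z).obj F) :=
    mono_of_injective _ (fun V hV a b _ => (key V hV a).trans (key V hV b).symm)
  exact IsZero.of_mono_eq_zero (0 : (ZClos.H0 Z).obj F ⟶ (ZClos.H0 Z).obj F) rfl

/-- `H⁰_{X/Z}(F) = 0` if and only if the stalks of `F` vanish outside `Z`. -/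
theorem isZero_H0_iff (hZ : StableUnderSpecialization Z) :
    IsZero ((ZClos.H0 Z).obj F) ↔ ∀ x : X, x ∉ Z → Subsingleton (F.presheaf.stalk x) := by
  constructor
  · intro h x hx
    have hinj := (isZClosedAt_of_not_mem Z F x hx).1
    refine ⟨fun a b => hinj ?_⟩
    have h0 : ∀ c : ((ZClos.H0 Z).obj F).presheaf.stalk x, c = 0 := by
      intro c
      obtain ⟨V, hxV, t, rfl⟩ := TopCat.Presheaf.exists_germ_eq _ c
      rw [section_eq_zero_of_isZero h V t, map_zero]
    exact (h0 _).trans (h0 _).symm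
  · exact isZero_H0_of_supp Z F hZ

end Stalk

section Iso

variable (Z : Set X) {G G' : X.Modules} (w : G ⟶ G')

theorem stalkMap_germ (x : X) (V : X.Opens) (hx : x ∈ V) (s : G.presheaf.obj (op V)) :
    (TopCat.Presheaf.stalkFunctor (C := Ab.{u}) x).map w.mapPresheaf (G.presheaf.germ V x hx s) =
      G'.presheaf.germ V x hx (w.app V s) :=
  TopCat.Presheaf.stalkFunctor_map_germ_apply V x hx w.mapPresheaf s

/-- If `w` is injective on the stalk at `y`, a section killed by `w` has zero germ at `y`. -/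
theorem germ_eq_zero_of_app_eq_zero (y : X)
    (hy : Function.Injective ((TopCat.Presheaf.stalkFunctor (C := Ab.{u}) y).map w.mapPresheaf))
    (V : X.Opens) (hyV : y ∈ V) (g : G.presheaf.obj (op V)) (hg : w.app V g = 0) :
    G.presheaf.germ V y hyV g = 0 := by
  apply hy
  rw [stalkMap_germ, hg, map_zero]
  exact (map_zero ((TopCat.Presheaf.stalkFunctor (C := Ab.{u}) y).map w.mapPresheaf).hom).symm

/-- If `w` is surjective on the stalk at `y`, sections of the target lift locally around `y`. -/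
theorem exists_local_lift (y : X)
    (hy : Function.Surjective ((TopCat.Presheaf.stalkFunctor (C := Ab.{u}) y).map w.mapPresheaf))
    (V : X.Opens) (hyV : y ∈ V) (g' : G'.presheaf.obj (op V)) :
    ∃ (O : X.Opens) (hO : O ≤ V) (s : G.presheaf.obj (op O)), y ∈ O ∧
      w.app O s = res G' hO g' := by
  obtain ⟨a, ha⟩ := hy (G'.presheaf.germ V y hyV g')
  obtain ⟨O1, hyO1, s1, rfl⟩ := TopCat.Presheaf.exists_germ_eq _ a
  rw [stalkMap_germ] at ha
  obtain ⟨O, hyO, i1, i2, hO⟩ := TopCat.Presheaf.germ_eq G'.presheaf y hyO1 hyV _ _ ha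
  refine ⟨O, leOfHom i2, res G (leOfHom i1) s1, hyO, ?_⟩
  rw [app_res, ← map_eq_res G' i1, ← map_eq_res G' i2]
  exact hO

variable [IsLocallyNoetherian X]

/-- A morphism between Z-closed modules which is bijective on stalks outside `Z` is an
isomorphism. -/
theorem isIso_of_isZClosed (hZ : StableUnderSpecialization Z) (hG : ZClos.IsZClosed Z G)
    (hG' : ZClos.IsZClosed Z G')
    (hw : ∀ x : X, x ∉ Z →
      Function.Bijective ((TopCat.Presheaf.stalkFunctor (C := Ab.{u}) x).map w.mapPresheaf)) :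
    IsIso w := by
  have hGT : ∀ T : ZClos.Cl Z, IsIso (ZClos.toDiagram Z G T) := (isZClosed_iff Z G).mp hG
  have hG'T : ∀ T : ZClos.Cl Z, IsIso (ZClos.toDiagram Z G' T) := (isZClosed_iff Z G').mp hG'
  have hGinj : ∀ (T : ZClos.Cl Z) (V : X.Opens), Function.Injective (res G (TV_le T V)) := by
    intro T V
    haveI := hGT T
    exact (app_bijective_of_isIso (ZClos.toDiagram Z G T) V).1
  have hGsurj : ∀ (T : ZClos.Cl Z) (V : X.Opens), Function.Surjective (res G (TV_le T V)) := by
    intro T V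
    haveI := hGT T
    exact (app_bijective_of_isIso (ZClos.toDiagram Z G T) V).2
  have hG'inj : ∀ (T : ZClos.Cl Z) (V : X.Opens), Function.Injective (res G' (TV_le T V)) := by
    intro T V
    haveI := hG'T T
    exact (app_bijective_of_isIso (ZClos.toDiagram Z G' T) V).1
  -- injectivity on quasi-compact opens
  have hinjc : ∀ V : X.Opens, IsCompact (V : Set X) → Function.Injective (w.app V) := by
    intro V hV
    refine (injective_iff_map_eq_zero (w.app V).hom).mpr ?_
    intro g hg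
    obtain ⟨T, hT⟩ := exists_Cl_res_eq_zero G hZ V hV g (fun y hy hyZ =>
      germ_eq_zero_of_app_eq_zero w y (hw y hyZ).1 V hy g hg)
    have h1 := hT (TV T V) (TV_le T V) (by rw [TV_eq]; exact inf_le_left)
    apply hGinj T V
    rw [h1, map_zero]
  have hinj : ∀ V : X.Opens, Function.Injective (w.app V) := app_injective_of_compact w hinjc
  apply isIso_of_bijective
  intro V hV
  refine ⟨hinjc V hV, ?_⟩
  intro g'
  -- the local lifts
  let I := {p : Σ O : X.Opens, G.presheaf.obj (op O) // ∃ h : p.1 ≤ V, w.app p.1 p.2 = res G' h g'}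
  let U : I → X.Opens := fun i => i.1.1
  let sf : ∀ i : I, G.presheaf.obj (op (U i)) := fun i => i.1.2
  have hUV : ∀ i : I, U i ≤ V := fun i => i.2.choose
  have hsf : ∀ i : I, w.app (U i) (sf i) = res G' (hUV i) g' := fun i => i.2.choose_spec
  let A : X.Opens := iSup U
  have hAV : A ≤ V := iSup_le hUV
  have hcomp : TopCat.Presheaf.IsCompatible G.presheaf U sf := by
    intro i j
    apply hinj (U i ⊓ U j)
    have e1 : w.app (U i ⊓ U j) (res G (inf_le_left : U i ⊓ U j ≤ U i) (sf i)) =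
        res G' ((inf_le_left : U i ⊓ U j ≤ U i).trans (hUV i)) g' := by
      rw [app_res, hsf, res_res]
    have e2 : w.app (U i ⊓ U j) (res G (inf_le_right : U i ⊓ U j ≤ U j) (sf j)) =
        res G' ((inf_le_left : U i ⊓ U j ≤ U i).trans (hUV i)) g' := by
      rw [app_res, hsf, res_res]
    exact e1.trans e2.symm
  obtain ⟨s, hs, -⟩ := TopCat.Sheaf.existsUnique_gluing' (F := ⟨G.presheaf, G.isSheaf⟩) U A
    (fun i => homOfLE (le_iSup U i)) le_rfl sf hcomp
  have hs' : ∀ i : I, res G (le_iSup U i) s = sf i := hs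
  -- `w s = g'|_A`
  have hws : w.app A s = res G' hAV g' := by
    rw [← sub_eq_zero]
    refine eq_zero_of_locally G' A _ (fun y hy => ?_)
    obtain ⟨i, hyi⟩ := Opens.mem_iSup.mp hy
    refine ⟨U i, le_iSup U i, hyi, ?_⟩
    rw [map_sub, ← app_res, hs' i, hsf i, res_res, sub_self]
  -- `A` contains the points of `V` outside `Z`
  have hA : ∀ y ∈ V, y ∉ Z → y ∈ A := by
    intro y hyV hyZ
    obtain ⟨O, hO, s0, hyO, hs0⟩ := exists_local_lift w y (hw y hyZ).2 V hyV g'
    exact Opens.mem_iSup.mpr ⟨⟨⟨O, s0⟩, hO, hs0⟩, hyO⟩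
  obtain ⟨T, hT⟩ := exists_Cl_le hZ V hV A hA
  have hTA : TV T V ≤ A := by
    rw [TV_eq]
    exact hT
  obtain ⟨g, hg⟩ := hGsurj T V (res G hTA s)
  refine ⟨g, ?_⟩
  apply hG'inj T V
  rw [← app_res, hg, app_res, hws, res_res]

/-- The characterization of the Z-closure: a morphism from `F` to a Z-closed module which is
bijective on stalks outside `Z` identifies the target with `H⁰_{X/Z}(F)`. -/
theorem isIso_of_fac (hZ : StableUnderSpecialization Z) (F F' : X.Modules)
    (hF' : ZClos.IsZClosed Z F') (u : F ⟶ F')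
    (hu : ∀ x : X, x ∉ Z →
      Function.Bijective ((TopCat.Presheaf.stalkFunctor (C := Ab.{u}) x).map u.mapPresheaf))
    (v : (ZClos.H0 Z).obj F ⟶ F') (hv : ZClos.rhoApp Z F ≫ v = u) : IsIso v := by
  apply isIso_of_isZClosed Z v hZ (isZClosed_H0 Z F) hF'
  intro x hx
  have h0 : (ZClos.rhoApp Z F).mapPresheaf ≫ v.mapPresheaf = u.mapPresheaf := by
    rw [← hv]
    exact ((Scheme.Modules.toPresheaf X).map_comp _ _).symm
  have h1 : (TopCat.Presheaf.stalkFunctor (C := Ab.{u}) x).map (ZClos.rhoApp Z F).mapPresheaf ≫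
      (TopCat.Presheaf.stalkFunctor (C := Ab.{u}) x).map v.mapPresheaf =
      (TopCat.Presheaf.stalkFunctor (C := Ab.{u}) x).map u.mapPresheaf := by
    rw [← CategoryTheory.Functor.map_comp, h0]
  have hρ : Function.Bijective ((TopCat.Presheaf.stalkFunctor (C := Ab.{u}) x).map
      (ZClos.rhoApp Z F).mapPresheaf) := isZClosedAt_of_not_mem Z F x hx
  refine (Function.Bijective.of_comp_iff _ hρ).mp ?_
  have h2 := hu x hx
  rw [← h1] at h2
  exact h2

end Iso

end ZClosH8
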