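import Mathlib
import Groth.Prelude
import Groth.Agent.Lib.ZClos5_helper8
import Groth.Agent.Lib.QcqsLoc_helper9
import Groth.Agent.Lib.QCohCrit_helper9

set_option autoImplicit false
universe u

open CategoryTheory CategoryTheory.Limits AlgebraicGeometry TopologicalSpace Opposite

/-! The Z-closure of a quasi-coherent module on a locally Noetherian scheme is quasi-coherent. -/

namespace ZClosH8

variable {X : Scheme.{u}} [IsLocallyNoetherian X]

theorem isQuasicoherent_resPush (U : X.Opens) (F : X.Modules) [F.IsQuasicoherent] :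
    ((ZClos.resPush U).obj F).IsQuasicoherent := by
  haveI : ((Scheme.Modules.restrictFunctor U.ι).obj F).IsQuasicoherent := inferInstance
  haveI : QuasiCompact U.ι := inferInstance
  haveI : QuasiSeparated U.ι := inferInstance
  exact QcqsLoc.isQuasicoherent_pushforward_qcqs U.ι _

variable (Z : Set X) (F : X.Modules) [F.IsQuasicoherent]

theorem locOnU_H0 {U : X.Opens} (hU : IsAffineOpen U) :
    QCohCrit.LocOnU ((ZClos.H0 Z).obj F) U := by
  intro a
  have hD : IsCompact ((X.basicOpen a : X.Opens) : Set X) := (hU.basicOpen a).isCompact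
  refine ⟨hU.isLocalization_basicOpen a, fun x m => Scheme.Modules.map_smul _ _ x m, ?_, ?_⟩
  · intro m'
    obtain ⟨T, s', rfl⟩ := H0_exists_rep Z F (X.basicOpen a) hD m'
    haveI := isQuasicoherent_resPush T.U F
    have L := RelFPAff.locData (F := (ZClos.resPush T.U).obj F) hU a
      (homOfLE (X.basicOpen_le a)) rfl
    obtain ⟨n, s, hs⟩ := L.surj s'
    refine ⟨n, (ιH Z F T).app U s, ?_⟩
    have h1 := app_res (ιH Z F T) (X.basicOpen_le a) s
    refine Eq.trans ?_ h1
    refine ((ιH Z F T).app_smul _ s').symm.trans ?_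
    exact congrArg _ hs
  · intro m hm
    obtain ⟨T, s, rfl⟩ := H0_exists_rep Z F U hU.isCompact m
    have hm' : res ((ZClos.H0 Z).obj F) (X.basicOpen_le a) ((ιH Z F T).app U s) = 0 := hm
    rw [← app_res] at hm'
    obtain ⟨T', hTT', h0⟩ := H0_eq_zero Z F (X.basicOpen a) hD T _ hm'
    haveI := isQuasicoherent_resPush T'.U F
    have L := RelFPAff.locData (F := (ZClos.resPush T'.U).obj F) hU a
      (homOfLE (X.basicOpen_le a)) rfl
    let s2 : ((ZClos.resPush T'.U).obj F).presheaf.obj (op U) := res F (TV_mono_left hTT' U) s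
    have hs2 : res ((ZClos.resPush T'.U).obj F) (X.basicOpen_le a) s2 = 0 := by
      rw [resPush_res, res_res] at h0
      rw [resPush_res]
      show res F _ (res F (TV_mono_left hTT' U) s) = 0
      rw [res_res]
      exact h0
    obtain ⟨n, hn⟩ := L.ker s2 hs2
    refine ⟨n, ?_⟩
    rw [ιH_trans Z F hTT' U s]
    refine ((ιH Z F T').app_smul _ s2).symm.trans ?_
    rw [hn]
    exact map_zero ((ιH Z F T').app U).hom

/-- The Z-closure of a quasi-coherent module is quasi-coherent. -/
theorem isQuasicoherent_H0 : ((ZClos.H0 Z).obj F).IsQuasicoherent :=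
  QCohCrit.isQuasicoherent_of_locOnU _ (fun V => locOnU_H0 Z F V.2)

end ZClosH8
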