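import Mathlib
import Groth.Prelude
import Groth.Agent.Lib.StalkLoc_helper8
import Groth.Agent.Lib.CycLen2_helper8

/-!
# Associated points of quasi-coherent modules, I (helper8).  APPEND-ONLY once landed.

* `maximalIdeal_isAssociatedPrime_of_flat`: flat local homomorphisms and depth zero.
* `isAssPoint_iff`: dictionary between associated points and associated primes of sections over a
  Noetherian affine open.
-/

set_option autoImplicit false
universe u

open CategoryTheory AlgebraicGeometry TopologicalSpace Opposite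

namespace AssPtH8

section Alg

/-- If a `B`-module `N` which is flat over the Noetherian local ring `A` (through a local
homomorphism `A → B`) has the maximal ideal of `B` among its associated primes, then the maximal
ideal of `A` is an associated prime of `A`. -/
theorem maximalIdeal_isAssociatedPrime_of_flat {A B N : Type*} [CommRing A] [CommRing B]
    [IsLocalRing A] [IsLocalRing B] [IsNoetherianRing A] (φ : A →+* B) [IsLocalHom φ]
    [AddCommGroup N] [Module B N]
    (hflat : letI := Module.compHom N φ; Module.Flat A N)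
    (hass : IsAssociatedPrime (IsLocalRing.maximalIdeal B) N) :
    IsAssociatedPrime (IsLocalRing.maximalIdeal A) A := by
  letI : Module A N := Module.compHom N φ
  haveI : Module.Flat A N := hflat
  by_contra hnot
  have fin := associatedPrimes.finite A A
  have hnsub : ¬ ((IsLocalRing.maximalIdeal A : Set A) ⊆ ⋃ p ∈ associatedPrimes A A, id p) := by
    intro hsub
    obtain ⟨P, hP, hle⟩ := ((IsLocalRing.maximalIdeal A).subset_union_prime_finite fin (f := id) 0 0
      fun _ h _ _ ↦ h.isPrime).1 hsub
    have : IsLocalRing.maximalIdeal A = P :=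
      (IsLocalRing.maximalIdeal.isMaximal A).eq_of_le hP.isPrime.ne_top hle
    exact hnot (this ▸ hP)
  rw [Set.not_subset] at hnsub
  obtain ⟨a, ha, hna⟩ := hnsub
  simp_rw [id, biUnion_associatedPrimes_eq_compl_nonZeroDivisors] at hna
  have hreg : a ∈ nonZeroDivisors A := by simpa using hna
  have hsm : IsSMulRegular N a := Module.Flat.isSMulRegular_of_nonZeroDivisors hreg
  obtain ⟨hprime, n, hn⟩ := hass
  have h1 : φ a ∈ IsLocalRing.maximalIdeal B :=
    (IsLocalRing.map_maximalIdeal_le φ) (Ideal.mem_map_of_mem φ ha)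
  rw [hn, Ideal.mem_radical_iff] at h1
  obtain ⟨k, hk⟩ := h1
  rw [Submodule.mem_colon_singleton, Submodule.mem_bot] at hk
  have h2 : a ^ k • n = a ^ k • (0 : N) := by
    rw [smul_zero]
    have : a ^ k • n = φ (a ^ k) • n := rfl
    rw [this, map_pow]
    exact hk
  have h3 : n = 0 := (hsm.pow k) h2
  apply hprime.ne_top
  rw [hn, h3, Ideal.radical_eq_top]
  ext r
  simp [Submodule.mem_colon_singleton]

end Alg

section Dict

variable {X : Scheme.{u}} (F : X.Modules) [F.IsQuasicoherent]

/-- Dictionary: over a Noetherian affine open, associated points correspond to associated primes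
of the module of sections. -/
theorem isAssPoint_iff {U : X.Opens} (hU : IsAffineOpen U) [IsNoetherianRing Γ(X, U)] {x : X}
    (hxU : x ∈ U) :
    Curv2.IsAssPoint F x ↔
      (hU.primeIdealOf ⟨x, hxU⟩).asIdeal ∈ associatedPrimes Γ(X, U) Γ(F, U) := by
  letI := StalkLocH8.modSec F hxU
  haveI := StalkLocH8.isLocalizedModule_germLin F hU hxU
  letI := TopCat.Presheaf.algebra_section_stalk X.presheaf (⟨x, hxU⟩ : U)
  haveI : IsLocalization.AtPrime (X.presheaf.stalk x) (hU.primeIdealOf ⟨x, hxU⟩).asIdeal :=
    hU.isLocalization_stalk ⟨x, hxU⟩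
  haveI : IsScalarTower Γ(X, U) (X.presheaf.stalk x) (F.presheaf.stalk x) :=
    IsScalarTower.of_algebraMap_smul fun _ _ => rfl
  have h := Module.associatedPrimes.preimage_comap_associatedPrimes_eq_associatedPrimes_of_isLocalizedModule
    (hU.primeIdealOf ⟨x, hxU⟩).asIdeal.primeCompl (X.presheaf.stalk x) (StalkLocH8.germLin F hxU)
  have hc : Ideal.comap (algebraMap Γ(X, U) (X.presheaf.stalk x))
      (IsLocalRing.maximalIdeal (X.presheaf.stalk x)) = (hU.primeIdealOf ⟨x, hxU⟩).asIdeal :=
    IsLocalization.AtPrime.under_maximalIdeal _ _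
  show IsLocalRing.maximalIdeal (X.presheaf.stalk x) ∈
    associatedPrimes (X.presheaf.stalk x) (F.presheaf.stalk x) ↔ _
  rw [← h, Set.mem_preimage, hc]

end Dict

section DictO

variable {X : Scheme.{u}}

/-- Dictionary for the structure sheaf, in terms of the local ring. -/
theorem isAssociatedPrime_stalk_iff {U : X.Opens} (hU : IsAffineOpen U) [IsNoetherianRing Γ(X, U)]
    {x : X} (hxU : x ∈ U) :
    IsAssociatedPrime (IsLocalRing.maximalIdeal (X.presheaf.stalk x)) (X.presheaf.stalk x) ↔
      (hU.primeIdealOf ⟨x, hxU⟩).asIdeal ∈ associatedPrimes Γ(X, U) Γ(X, U) := by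
  letI := TopCat.Presheaf.algebra_section_stalk X.presheaf (⟨x, hxU⟩ : U)
  haveI : IsLocalization.AtPrime (X.presheaf.stalk x) (hU.primeIdealOf ⟨x, hxU⟩).asIdeal :=
    hU.isLocalization_stalk ⟨x, hxU⟩
  haveI : IsLocalizedModule (hU.primeIdealOf ⟨x, hxU⟩).asIdeal.primeCompl
      (Algebra.linearMap Γ(X, U) (X.presheaf.stalk x)) :=
    (isLocalizedModule_iff_isLocalization).mpr inferInstance
  have h := Module.associatedPrimes.preimage_comap_associatedPrimes_eq_associatedPrimes_of_isLocalizedModule
    (hU.primeIdealOf ⟨x, hxU⟩).asIdeal.primeCompl (X.presheaf.stalk x)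
    (Algebra.linearMap Γ(X, U) (X.presheaf.stalk x))
  have hc : Ideal.comap (algebraMap Γ(X, U) (X.presheaf.stalk x))
      (IsLocalRing.maximalIdeal (X.presheaf.stalk x)) = (hU.primeIdealOf ⟨x, hxU⟩).asIdeal :=
    IsLocalization.AtPrime.under_maximalIdeal _ _
  show IsLocalRing.maximalIdeal (X.presheaf.stalk x) ∈
    associatedPrimes (X.presheaf.stalk x) (X.presheaf.stalk x) ↔ _
  rw [← h, Set.mem_preimage, hc]

/-- Associated points of the structure sheaf in terms of the local ring. -/
theorem isAssPoint_structureModule_iff (x : X) :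
    Curv2.IsAssPoint (Coh.structureModule X) x ↔
      IsAssociatedPrime (IsLocalRing.maximalIdeal (X.presheaf.stalk x)) (X.presheaf.stalk x) :=
  (LinearEquiv.isAssociatedPrime_iff (CycLenH8.stalkStructureEquiv x)).symm

end DictO

end AssPtH8
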