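import Mathlib
import Groth.Prelude
import Groth.Agent.Lib.AssPt1_helper8

/-!
# Associated points, II: generic points are associated; flat morphisms (helper8).
APPEND-ONLY once landed.
-/

set_option autoImplicit false
universe u

open CategoryTheory AlgebraicGeometry TopologicalSpace Opposite

namespace AssPtH8

variable {Y : Scheme.{u}}

/-- Points of an affine open from primes. -/
theorem primeIdealOf_fromSpec {U : Y.Opens} (hU : IsAffineOpen U) (P : Spec Γ(Y, U))
    (h : hU.fromSpec P ∈ U) : hU.primeIdealOf ⟨hU.fromSpec P, h⟩ = P :=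
  hU.fromSpec.isOpenEmbedding.injective (hU.fromSpec_primeIdealOf ⟨hU.fromSpec P, h⟩)

theorem fromSpec_mem {U : Y.Opens} (hU : IsAffineOpen U) (P : Spec Γ(Y, U)) :
    hU.fromSpec P ∈ U := by
  have : hU.fromSpec P ∈ Set.range hU.fromSpec := ⟨P, rfl⟩
  rw [hU.range_fromSpec] at this
  exact this

/-- Every point of a locally Noetherian scheme is a specialization of an associated point of the
structure sheaf (a maximal point). -/
theorem exists_assPoint_specializes [IsLocallyNoetherian Y] (y : Y) :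
    ∃ η : Y, η ⤳ y ∧
      IsAssociatedPrime (IsLocalRing.maximalIdeal (Y.presheaf.stalk η)) (Y.presheaf.stalk η) := by
  obtain ⟨_, ⟨U, hU, rfl⟩, hyU, -⟩ :=
    Y.isBasis_affineOpens.exists_subset_of_mem_open (Set.mem_univ y) isOpen_univ
  have hyU : y ∈ U := hyU
  have hU : IsAffineOpen U := hU
  haveI : IsNoetherianRing Γ(Y, U) := IsLocallyNoetherian.component_noetherian ⟨U, hU⟩
  obtain ⟨p₀, hp₀, hle⟩ := Ideal.exists_minimalPrimes_le
    (bot_le : (⊥ : Ideal Γ(Y, U)) ≤ (hU.primeIdealOf ⟨y, hyU⟩).asIdeal)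
  have hass : p₀ ∈ associatedPrimes Γ(Y, U) Γ(Y, U) := by
    apply Module.associatedPrimes.minimalPrimes_annihilator_subset_associatedPrimes Γ(Y, U) Γ(Y, U)
    rw [Module.annihilator_eq_bot.mpr inferInstance]
    exact hp₀
  let P₀ : Spec Γ(Y, U) := (⟨p₀, hp₀.1.1⟩ : PrimeSpectrum Γ(Y, U))
  have hηU : hU.fromSpec P₀ ∈ U := fromSpec_mem hU P₀
  refine ⟨hU.fromSpec P₀, ?_, ?_⟩
  · have h1 : P₀ ⤳ hU.primeIdealOf ⟨y, hyU⟩ :=
      (PrimeSpectrum.le_iff_specializes (⟨p₀, hp₀.1.1⟩ : PrimeSpectrum Γ(Y, U)) _).mp hle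
    have h2 := h1.map hU.fromSpec.continuous
    rwa [hU.fromSpec_primeIdealOf ⟨y, hyU⟩] at h2
  · rw [isAssociatedPrime_stalk_iff hU hηU, primeIdealOf_fromSpec hU P₀ hηU]
    exact hass

/-- Flat modules: the image of an associated point is an associated point of the base. -/
theorem isAssociatedPrime_of_isFlatOverAt {X : Scheme.{u}} [IsLocallyNoetherian Y] (f : X ⟶ Y)
    (F : X.Modules) (x : X) (hfl : FlatMod.IsFlatOverAt f F x) (hx : Curv2.IsAssPoint F x) :
    IsAssociatedPrime (IsLocalRing.maximalIdeal (Y.presheaf.stalk (f x)))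
      (Y.presheaf.stalk (f x)) :=
  maximalIdeal_isAssociatedPrime_of_flat (f.stalkMap x).hom hfl hx

/-- If the base has no embedded associated points, associated points of a module flat over the
base map to maximal points. -/
theorem eq_of_specializes_of_noEmbedded {X : Scheme.{u}} [IsLocallyNoetherian Y] (f : X ⟶ Y)
    (hY : AssSch.NoEmbedded (Coh.structureModule Y)) (F : X.Modules)
    (hfl : FlatMod.IsFlatOver f F) (x : X) (hx : x ∈ AssSch.Ass F) (y : Y) (hy : y ⤳ f x) :
    y = f x := by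
  have h1 := isAssociatedPrime_of_isFlatOverAt f F x (hfl x) hx
  obtain ⟨η, hηy, hη⟩ := exists_assPoint_specializes y
  have h2 : f x = η :=
    hY (f x) ((isAssPoint_structureModule_iff _).mpr h1) η
      ((isAssPoint_structureModule_iff _).mpr hη) (hηy.trans hy)
  have h3 : y ⤳ η := h2 ▸ hy
  exact ((h3.antisymm hηy).eq).trans h2.symm

end AssPtH8
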