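import Mathlib
import Groth.Prelude
import Groth.Agent.Lib.ZClos3_helper8
import Groth.Agent.Lib.StalkLoc_helper8
import Groth.Agent.Lib.Depth_helper5
import Groth.Agent.Lib.QCohFT_helper9

set_option autoImplicit false
universe u

open CategoryTheory CategoryTheory.Limits AlgebraicGeometry TopologicalSpace Opposite
open ZClosH8

/-! Converse of the Hartogs-type extension theorem: if the restrictions `Γ(V, F) → Γ(V ∩ U, F)`
are bijective then `F` has depth at least 2 at the points outside `U`. -/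

namespace HartConvH8

variable {X : Scheme.{u}}

/-- Restriction of sections of the structure sheaf. -/
noncomputable abbrev rX {O O' : X.Opens} (h : O' ≤ O) : Γ(X, O) →+* Γ(X, O') :=
  (X.presheaf.map (homOfLE h).op).hom

theorem rX_rX {O O' O'' : X.Opens} (h : O' ≤ O) (h' : O'' ≤ O') (r : Γ(X, O)) :
    rX h' (rX h r) = rX (h'.trans h) r := by
  have : X.presheaf.map (homOfLE h).op ≫ X.presheaf.map (homOfLE h').op =
      X.presheaf.map (homOfLE (h'.trans h)).op := by
    rw [← X.presheaf.map_comp]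
    rfl
  exact (ConcreteCategory.comp_apply _ _ r).symm.trans (congrArg (fun f => f r) this)

variable (F : X.Modules)

theorem res_smul {O O' : X.Opens} (h : O' ≤ O) (r : Γ(X, O)) (s : Γ(F, O)) :
    res F h (r • s) = rX h r • res F h s :=
  Scheme.Modules.map_smul F (homOfLE h) r s

theorem isUnit_rX_of_le_basicOpen {W O : X.Opens} (f : Γ(X, W)) (h : O ≤ X.basicOpen f) :
    IsUnit (rX (h.trans (X.basicOpen_le f)) f) := by
  have h1 : IsUnit (rX (X.basicOpen_le f) f) := X.toRingedSpace.isUnit_res_basicOpen f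
  have h2 : rX (h.trans (X.basicOpen_le f)) f = rX h (rX (X.basicOpen_le f) f) :=
    (rX_rX _ _ _).symm
  rw [h2]
  exact h1.map _

/-- A section over `O ≤ D(f)` killed by `f` vanishes. -/
theorem eq_zero_of_smul_eq_zero {W O : X.Opens} (f : Γ(X, W)) (h : O ≤ X.basicOpen f)
    (s : Γ(F, O)) (hs : rX (h.trans (X.basicOpen_le f)) f • s = 0) : s = 0 := by
  obtain ⟨u, hu⟩ := isUnit_rX_of_le_basicOpen f h
  have : s = (↑u⁻¹ : Γ(X, O)) • ((u : Γ(X, O)) • s) := by
    rw [smul_smul, Units.inv_mul, one_smul]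
  rw [this, hu, hs, smul_zero]

/-- Core A: a section over an affine open killed by all `f` with `D(f) ≤ U` vanishes on
`W ∩ U`. -/
theorem res_eq_zero_of_torsion {W : X.Opens} (hW : IsAffineOpen W) (U : X.Opens) (n : Γ(F, W))
    (hn : ∀ f : Γ(X, W), X.basicOpen f ≤ U → f • n = 0) :
    res F (inf_le_left : W ⊓ U ≤ W) n = 0 := by
  refine eq_zero_of_locally F (W ⊓ U) _ (fun y hy => ?_)
  obtain ⟨f, hf, hyf⟩ := hW.exists_basicOpen_le (V := W ⊓ U) ⟨y, hy⟩ hy.1
  refine ⟨X.basicOpen f, hf, hyf, ?_⟩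
  rw [res_res]
  apply eq_zero_of_smul_eq_zero F f le_rfl
  rw [← res_smul, hn f (hf.trans inf_le_right), map_zero]

variable [F.IsQuasicoherent]

/-- Core B: an element regular on the sections over an affine open is regular on the sections
over every smaller open. -/
theorem eq_zero_of_regular {W : X.Opens} (hW : IsAffineOpen W) (a : Γ(X, W))
    (ha : IsSMulRegular Γ(F, W) a) {O : X.Opens} (hO : O ≤ W) (s : Γ(F, O))
    (hs : rX hO a • s = 0) : s = 0 := by
  refine eq_zero_of_locally F O s (fun y hy => ?_)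
  obtain ⟨g, hg, hyg⟩ := hW.exists_basicOpen_le (V := O) ⟨y, hy⟩ (hO hy)
  refine ⟨X.basicOpen g, hg, hyg, ?_⟩
  obtain ⟨k, n, hn⟩ :=
    Groth.Agent.Lib.QCohLoc_helper4.exists_res_eq_pow_smul F hW g (res F hg s)
  -- `a • n` vanishes on `D(g)`
  have h1 : F.presheaf.map (homOfLE (X.basicOpen_le g)).op (a • n) = 0 := by
    have e1 : res F (X.basicOpen_le g) (a • n) =
        rX (X.basicOpen_le g) a • res F (X.basicOpen_le g) n := res_smul F _ a n
    have e2 : res F (X.basicOpen_le g) n =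
        rX (X.basicOpen_le g) g ^ k • res F hg s := hn
    refine e1.trans ?_
    rw [e2, smul_comm]
    have e3 : rX (X.basicOpen_le g) a • res F hg s = res F hg (rX hO a • s) := by
      rw [res_smul, rX_rX]
    rw [e3, hs, map_zero, smul_zero]
  obtain ⟨j, hj⟩ := Groth.Agent.Lib.QCohLoc_helper4.exists_pow_smul_eq_zero F hW g (a • n) h1
  have h2 : g ^ j • n = 0 := by
    apply ha
    show a • g ^ j • n = a • 0
    rw [smul_zero, smul_comm]
    exact hj
  -- hence `g^(j+k) • s|D(g) = 0`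
  have h3 : rX (X.basicOpen_le g) g ^ j • (rX (X.basicOpen_le g) g ^ k • res F hg s) = 0 := by
    have e2 : res F (X.basicOpen_le g) n =
        rX (X.basicOpen_le g) g ^ k • res F hg s := hn
    rw [← e2, ← map_pow, ← res_smul, h2, map_zero]
  have hu : IsUnit (rX (X.basicOpen_le g) g) := X.toRingedSpace.isUnit_res_basicOpen g
  have hu' : IsUnit (rX (X.basicOpen_le g) g ^ j * rX (X.basicOpen_le g) g ^ k) :=
    (hu.pow j).mul (hu.pow k)
  rw [smul_smul] at h3
  obtain ⟨u, hu⟩ := hu'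
  have : res F hg s = (↑u⁻¹ : Γ(X, X.basicOpen g)) • ((u : Γ(X, X.basicOpen g)) • res F hg s) := by
    rw [smul_smul, Units.inv_mul, one_smul]
  rw [this, hu, h3, smul_zero]

/-- Core C: if `a` is regular on `Γ(F, W)` and `f • n ∈ a Γ(F, W)` for all `f` with
`D(f) ≤ U`, then `n / a` is a section over `W ∩ U`. -/
theorem exists_section_smul_eq {W : X.Opens} (hW : IsAffineOpen W) (U : X.Opens) (a : Γ(X, W))
    (ha : IsSMulRegular Γ(F, W) a) (n : Γ(F, W))
    (h : ∀ f : Γ(X, W), X.basicOpen f ≤ U → ∃ m : Γ(F, W), f • n = a • m) :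
    ∃ t : Γ(F, W ⊓ U), rX (inf_le_left : W ⊓ U ≤ W) a • t =
      res F (inf_le_left : W ⊓ U ≤ W) n := by
  let I := {f : Γ(X, W) // X.basicOpen f ≤ U}
  let UU : I → X.Opens := fun f => X.basicOpen f.1
  have hUW : ∀ f : I, UU f ≤ W := fun f => X.basicOpen_le f.1
  have hUWU : ∀ f : I, UU f ≤ W ⊓ U := fun f => le_inf (hUW f) f.2
  choose m hm using fun f : I => h f.1 f.2
  -- the local sections
  have hsf : ∀ f : I, ∃ t : Γ(F, UU f), rX (hUW f) a • t = res F (hUW f) n := by
    intro f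
    obtain ⟨u, hu⟩ := isUnit_rX_of_le_basicOpen f.1 (le_refl (X.basicOpen f.1))
    refine ⟨(↑u⁻¹ : Γ(X, UU f)) • res F (hUW f) (m f), ?_⟩
    have e1 : (u : Γ(X, UU f)) • res F (hUW f) n = rX (hUW f) a • res F (hUW f) (m f) := by
      rw [hu, ← res_smul, ← res_smul, hm f]
    have e2 : res F (hUW f) n =
        (↑u⁻¹ : Γ(X, UU f)) • ((u : Γ(X, UU f)) • res F (hUW f) n) := by
      rw [smul_smul, Units.inv_mul, one_smul]
    rw [e2, e1, smul_comm]
  choose sf hsf using hsf
  have hcomp : TopCat.Presheaf.IsCompatible F.presheaf UU sf := by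
    intro f g
    have hO : UU f ⊓ UU g ≤ W := inf_le_left.trans (hUW f)
    have e : ∀ (k : I) (hk : UU f ⊓ UU g ≤ UU k),
        rX hO a • res F hk (sf k) = res F hO n := by
      intro k hk
      have := congrArg (res F hk) (hsf k)
      rw [res_smul, rX_rX, res_res] at this
      exact this
    rw [← sub_eq_zero]
    apply eq_zero_of_regular F hW a ha hO
    rw [smul_sub, sub_eq_zero]
    exact (e f inf_le_left).trans (e g inf_le_right).symm
  have hcov : W ⊓ U ≤ iSup UU := by
    intro y hy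
    obtain ⟨f, hf, hyf⟩ := hW.exists_basicOpen_le (V := W ⊓ U) ⟨y, hy⟩ hy.1
    exact Opens.mem_iSup.mpr ⟨⟨f, hf.trans inf_le_right⟩, hyf⟩
  obtain ⟨t, ht, -⟩ := TopCat.Sheaf.existsUnique_gluing' (F := ⟨F.presheaf, F.isSheaf⟩) UU
    (W ⊓ U) (fun f => homOfLE (hUWU f)) hcov sf hcomp
  have ht' : ∀ f : I, res F (hUWU f) t = sf f := ht
  refine ⟨t, ?_⟩
  rw [← sub_eq_zero]
  refine eq_zero_of_locally F (W ⊓ U) _ (fun y hy => ?_)
  obtain ⟨f, hf, hyf⟩ := hW.exists_basicOpen_le (V := W ⊓ U) ⟨y, hy⟩ hy.1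
  let k : I := ⟨f, hf.trans inf_le_right⟩
  refine ⟨UU k, hUWU k, hyf, ?_⟩
  rw [map_sub, res_smul, rX_rX, ht' k, res_res, sub_eq_zero]
  exact hsf k

/-- Core D: bijectivity of `Γ(W, F) → Γ(W ∩ U, F)` on an affine open gives depth at least 2
along the ideal of functions `f` with `D(f) ≤ U`. -/
theorem two_le_idealDepth {W : X.Opens} (hW : IsAffineOpen W) (U : X.Opens)
    [IsNoetherianRing Γ(X, W)] [Module.Finite Γ(X, W) Γ(F, W)]
    (hbij : Function.Bijective (res F (inf_le_left : W ⊓ U ≤ W)))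
    (I : Ideal Γ(X, W))
    (hI' : ∀ f : Γ(X, W), X.basicOpen f ≤ U → f ∈ I) :
    2 ≤ LocCoh.idealDepth I Γ(F, W) := by
  by_cases htop : I • (⊤ : Submodule Γ(X, W) Γ(F, W)) = ⊤
  · have := (Groth.Agent.DepthLib.le_idealDepth_iff I Γ(F, W) 2).2 (Or.inl htop)
    exact_mod_cast this
  have hinj0 : ∀ n : Γ(F, W), res F (inf_le_left : W ⊓ U ≤ W) n = 0 → n = 0 := by
    intro n hn
    apply hbij.1
    rw [hn, map_zero]
  have h1 : 1 ≤ LocCoh.idealDepth I Γ(F, W) := by
    by_contra hcon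
    obtain ⟨q, hq, haq⟩ :=
      Groth.Agent.DepthLib.exists_associatedPrime_of_not_one_le I Γ(F, W) hcon
    obtain ⟨hqprime, m₀, hm₀⟩ := isAssociatedPrime_iff.1 hq
    have hmem : ∀ c, c ∈ q ↔ c • m₀ = 0 := by
      intro c
      rw [hm₀, Submodule.mem_colon_singleton, Submodule.mem_bot]
    have h0 : m₀ = 0 := hinj0 m₀ (res_eq_zero_of_torsion F hW U m₀
      (fun f hf => (hmem f).1 (haq (hI' f hf))))
    apply hqprime.ne_top
    rw [Ideal.eq_top_iff_one, hmem, h0, smul_zero]
  rcases (Groth.Agent.DepthLib.one_le_idealDepth_iff I Γ(F, W)).1 h1 with htop' | ⟨x, hxa, hreg⟩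
  · exact absurd htop' htop
  have key := (Groth.Agent.DepthLib.le_idealDepth_quotSMulTop_iff I Γ(F, W) hxa hreg 1).1 ?_
  · exact_mod_cast key
  by_contra hcon
  have hcon' : ¬ 1 ≤ LocCoh.idealDepth I (QuotSMulTop x Γ(F, W)) := by exact_mod_cast hcon
  obtain ⟨q, hq, haq⟩ :=
    Groth.Agent.DepthLib.exists_associatedPrime_of_not_one_le I (QuotSMulTop x Γ(F, W)) hcon'
  obtain ⟨hqprime, m₀, hm₀⟩ := isAssociatedPrime_iff.1 hq
  have hmem : ∀ c, c ∈ q ↔ c • m₀ = 0 := by
    intro c
    rw [hm₀, Submodule.mem_colon_singleton, Submodule.mem_bot]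
  obtain ⟨m, rfl⟩ := Submodule.Quotient.mk_surjective _ m₀
  have hcolon : ∀ f : Γ(X, W), X.basicOpen f ≤ U → ∃ mb : Γ(F, W), f • m = x • mb := by
    intro b hb
    have h2 := (hmem b).1 (haq (hI' b hb))
    rw [← Submodule.Quotient.mk_smul, Submodule.Quotient.mk_eq_zero] at h2
    obtain ⟨mb, -, hmb⟩ := (Submodule.mem_smul_pointwise_iff_exists _ _ _).1 h2
    exact ⟨mb, hmb.symm⟩
  obtain ⟨t, ht⟩ := exists_section_smul_eq F hW U x hreg m hcolon
  obtain ⟨m0, hm0⟩ := hbij.2 t
  have h3 : x • m0 = m := by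
    apply hbij.1
    rw [res_smul, hm0, ht]
  apply hqprime.ne_top
  rw [Ideal.eq_top_iff_one, hmem, one_smul, Submodule.Quotient.mk_eq_zero, ← h3]
  exact Submodule.smul_mem_pointwise_smul m0 x ⊤ Submodule.mem_top

/-- Core E: depth along an ideal contained in the prime of `x` bounds the depth of the stalk
at `x` from below. -/
theorem two_le_depth_stalk {W : X.Opens} (hW : IsAffineOpen W) {x : X} (hx : x ∈ W)
    (I : Ideal Γ(X, W)) (hIx : I ≤ (hW.primeIdealOf ⟨x, hx⟩).asIdeal)
    (h : 2 ≤ LocCoh.idealDepth I Γ(F, W)) :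
    2 ≤ LocCoh.depth (X.presheaf.stalk x) (F.presheaf.stalk x) := by
  letI := TopCat.Presheaf.algebra_section_stalk X.presheaf (⟨x, hx⟩ : W)
  haveI : IsLocalization.AtPrime (X.presheaf.stalk x) (hW.primeIdealOf ⟨x, hx⟩).asIdeal :=
    hW.isLocalization_stalk ⟨x, hx⟩
  letI := StalkLocH8.modSec F hx
  haveI := StalkLocH8.isLocalizedModule_germLin F hW hx
  haveI : IsScalarTower Γ(X, W) (X.presheaf.stalk x) (F.presheaf.stalk x) :=
    IsScalarTower.of_algebraMap_smul fun _ _ => rfl
  unfold LocCoh.depth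
  have h' := (Groth.Agent.DepthLib.le_idealDepth_iff I Γ(F, W) 2).1 (by exact_mod_cast h)
  have goal : ((2 : ℕ) : ℕ∞) ≤ LocCoh.idealDepth (IsLocalRing.maximalIdeal (X.presheaf.stalk x))
      (F.presheaf.stalk x) := by
    rw [Groth.Agent.DepthLib.le_idealDepth_iff]
    rcases h' with htop | ⟨rs, hreg, hmem, hlen⟩
    · left
      rw [eq_top_iff]
      intro y _
      obtain ⟨⟨n, s⟩, hns⟩ := IsLocalizedModule.surj
        (hW.primeIdealOf ⟨x, hx⟩).asIdeal.primeCompl (StalkLocH8.germLin F hx) y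
      have hn : n ∈ I • (⊤ : Submodule Γ(X, W) Γ(F, W)) := by
        rw [htop]
        exact Submodule.mem_top
      have h1 : StalkLocH8.germLin F hx n ∈
          IsLocalRing.maximalIdeal (X.presheaf.stalk x) •
            (⊤ : Submodule (X.presheaf.stalk x) (F.presheaf.stalk x)) := by
        refine Submodule.smul_induction_on hn ?_ ?_
        · intro f hf n' _
          rw [map_smul, ← algebraMap_smul (X.presheaf.stalk x) f (StalkLocH8.germLin F hx n')]
          exact Submodule.smul_mem_smul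
            ((IsLocalization.AtPrime.to_map_mem_maximal_iff _
              (hW.primeIdealOf ⟨x, hx⟩).asIdeal f).mpr (hIx hf)) Submodule.mem_top
        · intro a b ha hb
          rw [map_add]
          exact add_mem ha hb
      obtain ⟨u, hu⟩ := IsLocalization.map_units (X.presheaf.stalk x) s
      have hy : y = (↑u⁻¹ : X.presheaf.stalk x) • StalkLocH8.germLin F hx n := by
        have h2 : (s : Γ(X, W)) • y = StalkLocH8.germLin F hx n := hns
        rw [← h2, ← algebraMap_smul (X.presheaf.stalk x) (s : Γ(X, W)) y, ← hu, smul_smul,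
          Units.inv_mul, one_smul]
      rw [hy]
      exact Submodule.smul_mem _ _ h1
    · right
      refine ⟨rs.map (algebraMap Γ(X, W) (X.presheaf.stalk x)),
        hreg.of_isLocalizedModule (X.presheaf.stalk x)
          (hW.primeIdealOf ⟨x, hx⟩).asIdeal.primeCompl (StalkLocH8.germLin F hx), ?_, ?_⟩
      · intro r hr
        obtain ⟨r0, hr0, rfl⟩ := List.mem_map.mp hr
        exact (IsLocalization.AtPrime.to_map_mem_maximal_iff _
          (hW.primeIdealOf ⟨x, hx⟩).asIdeal r0).mpr (hIx (hmem r0 hr0))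
      · rw [List.length_map, hlen]
  exact_mod_cast goal

omit [F.IsQuasicoherent] in
theorem mem_basicOpen_of_notMem_prime {W : X.Opens} (hW : IsAffineOpen W) {x : X} (hx : x ∈ W)
    {g : Γ(X, W)} (hg : g ∉ (hW.primeIdealOf ⟨x, hx⟩).asIdeal) : x ∈ X.basicOpen g := by
  rw [Scheme.mem_basicOpen _ _ _ hx]
  by_contra hnu
  apply hg
  rw [hW.primeIdealOf_eq_map_closedPoint]
  exact (IsLocalRing.mem_maximalIdeal _).mpr hnu

/-- The ideal of functions on the affine open `W` whose non-vanishing locus lies in `U`. -/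
def idealOf (W U : X.Opens) : Ideal Γ(X, W) where
  carrier := {f | X.basicOpen f ≤ U}
  add_mem' {f g} hf hg := (X.basicOpen_add_le f g).trans (sup_le hf hg)
  zero_mem' := by
    show X.basicOpen (0 : Γ(X, W)) ≤ U
    rw [Scheme.basicOpen_zero]
    exact bot_le
  smul_mem' c f hf := by
    show X.basicOpen (c * f) ≤ U
    rw [Scheme.basicOpen_mul]
    exact inf_le_right.trans hf

/-- **Converse of Hartogs' extension theorem**: if the restrictions `Γ(W, F) → Γ(W ∩ U, F)` are
bijective for all affine opens `W`, then `F` has depth at least 2 at every point outside `U`. -/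
theorem two_le_depth_of_bijective [IsLocallyNoetherian X]
    [SheafOfModules.IsFiniteType (R := X.ringCatSheaf) F] (U : X.Opens)
    (hbij : ∀ W : X.Opens, IsAffineOpen W →
      Function.Bijective (res F (inf_le_left : W ⊓ U ≤ W)))
    (x : X) (hx : x ∉ U) :
    2 ≤ LocCoh.depth (X.presheaf.stalk x) (F.presheaf.stalk x) := by
  obtain ⟨_, ⟨W, hW, rfl⟩, hxW, -⟩ :=
    X.isBasis_affineOpens.exists_subset_of_mem_open (Set.mem_univ x) isOpen_univ
  have hW : IsAffineOpen W := hW
  have hxW : x ∈ W := hxW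
  haveI : IsNoetherianRing Γ(X, W) := IsLocallyNoetherian.component_noetherian ⟨W, hW⟩
  haveI : Module.Finite Γ(X, W) Γ(F, W) := QCohFT.finite_of_isFiniteType F hW
  have hIx : idealOf W U ≤ (hW.primeIdealOf ⟨x, hxW⟩).asIdeal := by
    intro f hf
    by_contra hfp
    exact hx (hf (mem_basicOpen_of_notMem_prime hW hxW hfp))
  exact two_le_depth_stalk F hW hxW (idealOf W U) hIx
    (two_le_idealDepth F hW U (hbij W hW) (idealOf W U) (fun f hf => hf))

end HartConvH8
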