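import Mathlib
import Groth.Prelude
import Groth.Agent.Lib.ZClos5_helper8

set_option autoImplicit false
universe u

open CategoryTheory CategoryTheory.Limits AlgebraicGeometry TopologicalSpace Opposite

/-! Z-purity and Z-closedness are local on open coverings. -/

namespace ZClosH8

variable {X : Scheme.{u}}

section All

variable (Z : Set X) (F : X.Modules)

theorem isZPure_iff_all :
    ZClos.IsZPure Z F ↔ ∀ (T : ZClos.Cl Z) (V : X.Opens),
      Function.Injective (res F (inf_le_left : V ⊓ T.U ≤ V)) := by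
  rw [isZPure_iff]
  constructor
  · intro h T V
    haveI := h T
    have h1 := app_injective_of_mono (ZClos.toDiagram Z F T) V
    rw [toDiagram_app] at h1
    exact (res_injective_congr F (image_preimage_eq T.U V) _ _).mp h1
  · intro h T
    apply mono_of_injective
    intro V _
    rw [toDiagram_app]
    exact (res_injective_congr F (image_preimage_eq T.U V) _ _).mpr (h T V)

theorem isZClosed_iff_all :
    ZClos.IsZClosed Z F ↔ ∀ (T : ZClos.Cl Z) (V : X.Opens),
      Function.Bijective (res F (inf_le_left : V ⊓ T.U ≤ V)) := by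
  rw [isZClosed_iff]
  constructor
  · intro h T V
    haveI := h T
    have h1 := app_bijective_of_isIso (ZClos.toDiagram Z F T) V
    rw [toDiagram_app] at h1
    exact (res_bijective_congr F (image_preimage_eq T.U V) _ _).mp h1
  · intro h T
    apply isIso_of_bijective
    intro V _
    rw [toDiagram_app]
    exact (res_bijective_congr F (image_preimage_eq T.U V) _ _).mpr (h T V)

end All

section Local

variable (F : X.Modules) (U : X.Opens) (P : X.Opens → Prop)
  (hP : ∀ O O' : X.Opens, O' ≤ O → P O → P O') (hcov : ∀ x : X, ∃ O : X.Opens, P O ∧ x ∈ O)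

include hP hcov

/-- Injectivity of the restriction to `U` can be tested on a downward closed covering family. -/
theorem res_injective_of_local
    (h : ∀ O : X.Opens, P O → Function.Injective (res F (inf_le_left : O ⊓ U ≤ O)))
    (V : X.Opens) : Function.Injective (res F (inf_le_left : V ⊓ U ≤ V)) := by
  refine (injective_iff_map_eq_zero (res F (inf_le_left : V ⊓ U ≤ V)).hom).mpr ?_
  intro s hs
  have hs' : res F (inf_le_left : V ⊓ U ≤ V) s = 0 := hs
  refine eq_zero_of_locally F V s (fun y hy => ?_)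
  obtain ⟨O, hPO, hyO⟩ := hcov y
  refine ⟨V ⊓ O, inf_le_left, ⟨hy, hyO⟩, ?_⟩
  apply h (V ⊓ O) (hP O _ inf_le_right hPO)
  rw [res_res, map_zero]
  have hle : (V ⊓ O) ⊓ U ≤ V ⊓ U := inf_le_inf_right U inf_le_left
  have h1 : res F (hle.trans inf_le_left) s = res F hle (res F (inf_le_left : V ⊓ U ≤ V) s) :=
    (res_res F _ hle s).symm
  rw [h1, hs', map_zero]

/-- Bijectivity of the restriction to `U` can be tested on a downward closed covering family. -/
theorem res_bijective_of_local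
    (h : ∀ O : X.Opens, P O → Function.Bijective (res F (inf_le_left : O ⊓ U ≤ O)))
    (V : X.Opens) : Function.Bijective (res F (inf_le_left : V ⊓ U ≤ V)) := by
  have hinj : ∀ W : X.Opens, Function.Injective (res F (inf_le_left : W ⊓ U ≤ W)) :=
    res_injective_of_local F U P hP hcov (fun O hO => (h O hO).1)
  refine ⟨hinj V, ?_⟩
  intro t
  let I := {W : X.Opens // W ≤ V ∧ P W}
  let UU : I → X.Opens := fun i => i.1
  have hle : ∀ i : I, UU i ⊓ U ≤ V ⊓ U := fun i => inf_le_inf_right U i.2.1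
  choose sf hsf using fun i : I => (h i.1 i.2.2).2 (res F (hle i) t)
  have hcomp : TopCat.Presheaf.IsCompatible F.presheaf UU sf := by
    intro i j
    apply hinj (UU i ⊓ UU j)
    have e1 : ∀ (k : I) (hk : UU i ⊓ UU j ≤ UU k),
        res F (inf_le_left : (UU i ⊓ UU j) ⊓ U ≤ UU i ⊓ UU j) (res F hk (sf k)) =
          res F ((inf_le_inf_right U hk).trans (hle k)) t := by
      intro k hk
      rw [res_res]
      have h2 : res F ((inf_le_left : (UU i ⊓ UU j) ⊓ U ≤ UU i ⊓ UU j).trans hk) (sf k) =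
          res F (inf_le_inf_right U hk)
            (res F (inf_le_left : UU k ⊓ U ≤ UU k) (sf k)) := (res_res F _ _ _).symm
      rw [h2, hsf k, res_res]
    exact (e1 i inf_le_left).trans (e1 j inf_le_right).symm
  have hcovV : V ≤ iSup UU := by
    intro y hy
    obtain ⟨O, hPO, hyO⟩ := hcov y
    exact Opens.mem_iSup.mpr ⟨⟨V ⊓ O, inf_le_left, hP O _ inf_le_right hPO⟩, ⟨hy, hyO⟩⟩
  obtain ⟨s, hs, -⟩ := TopCat.Sheaf.existsUnique_gluing' (F := ⟨F.presheaf, F.isSheaf⟩) UU V
    (fun i => homOfLE i.2.1) hcovV sf hcomp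
  have hs' : ∀ i : I, res F i.2.1 s = sf i := hs
  refine ⟨s, ?_⟩
  rw [← sub_eq_zero]
  refine eq_zero_of_locally F (V ⊓ U) _ (fun y hy => ?_)
  obtain ⟨O, hPO, hyO⟩ := hcov y
  let i : I := ⟨V ⊓ O, inf_le_left, hP O _ inf_le_right hPO⟩
  refine ⟨UU i ⊓ U, hle i, ⟨⟨hy.1, hyO⟩, hy.2⟩, ?_⟩
  rw [map_sub, res_res, sub_eq_zero]
  have h2 : res F ((hle i).trans inf_le_left) s =
      res F (inf_le_left : UU i ⊓ U ≤ UU i) (res F i.2.1 s) := (res_res F _ _ _).symm
  rw [h2, hs' i, hsf i]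

end Local

section Restrict

variable (Z : Set X) (F : X.Modules) (V : X.Opens)

/-- The preimage in the open subscheme `V` of a closed subset contained in `Z`. -/
def ClPre (T : ZClos.Cl Z) : ZClos.Cl (X := (V : Scheme.{u})) (V.ι.base ⁻¹' Z) :=
  ⟨⟨V.ι.base ⁻¹' (T.1 : Set X), T.1.isClosed.preimage V.ι.continuous⟩, fun _ hy => T.2 hy⟩

theorem ClPre_U (T : ZClos.Cl Z) : (ClPre Z V T).U = V.ι ⁻¹ᵁ T.U := rfl

theorem res_restrict {O O' : (V : Scheme.{u}).Opens} (h : O' ≤ O) :
    res ((Scheme.Modules.restrictFunctor V.ι).obj F) h = res F (V.ι.image_mono h) := by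
  have h1 : ((Scheme.Modules.restrictFunctor V.ι).obj F).presheaf.map (homOfLE h).op =
      F.presheaf.map (V.ι.opensFunctor.map (homOfLE h)).op :=
    Scheme.Modules.restrict_map F V.ι (homOfLE h)
  exact h1.trans (congrArg (fun i => F.presheaf.map (Quiver.Hom.op i)) (Subsingleton.elim _ _))

theorem res_injective_congr2 {O1 O2 A1 A2 : X.Opens} (eO : O1 = O2) (eA : A1 = A2)
    (h1 : A1 ≤ O1) (h2 : A2 ≤ O2) :
    Function.Injective (res F h1) ↔ Function.Injective (res F h2) := by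
  subst eO
  subst eA
  rfl

theorem res_bijective_congr2 {O1 O2 A1 A2 : X.Opens} (eO : O1 = O2) (eA : A1 = A2)
    (h1 : A1 ≤ O1) (h2 : A2 ≤ O2) :
    Function.Bijective (res F h1) ↔ Function.Bijective (res F h2) := by
  subst eO
  subst eA
  rfl

theorem image_preimage_of_le {O : X.Opens} (hO : O ≤ V) : V.ι ''ᵁ (V.ι ⁻¹ᵁ O) = O := by
  rw [Scheme.Hom.image_preimage_eq_opensRange_inf, Scheme.Opens.opensRange_ι]
  exact inf_eq_right.mpr hO

theorem image_preimage_inf_of_le {O : X.Opens} (hO : O ≤ V) (U : X.Opens) :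
    V.ι ''ᵁ (V.ι ⁻¹ᵁ O ⊓ V.ι ⁻¹ᵁ U) = O ⊓ U := by
  have : V.ι ⁻¹ᵁ O ⊓ V.ι ⁻¹ᵁ U = V.ι ⁻¹ᵁ (O ⊓ U) := rfl
  rw [this, image_preimage_of_le V (inf_le_left.trans hO)]

/-- If `F|_V` is `(Z ∩ V)`-pure then restrictions `F(O) → F(O ∖ T)` are injective for `O ≤ V`. -/
theorem res_injective_of_restrict_pure
    (h : ZClos.IsZPure (V.ι.base ⁻¹' Z) ((Scheme.Modules.restrictFunctor V.ι).obj F))
    (T : ZClos.Cl Z) (O : X.Opens) (hO : O ≤ V) :
    Function.Injective (res F (inf_le_left : O ⊓ T.U ≤ O)) := by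
  have h1 := (isZPure_iff_all _ _).mp h (ClPre Z V T) (V.ι ⁻¹ᵁ O)
  rw [res_restrict] at h1
  exact (res_injective_congr2 F (image_preimage_of_le V hO)
    (image_preimage_inf_of_le V hO T.U) _ _).mp h1

theorem res_bijective_of_restrict_closed
    (h : ZClos.IsZClosed (V.ι.base ⁻¹' Z) ((Scheme.Modules.restrictFunctor V.ι).obj F))
    (T : ZClos.Cl Z) (O : X.Opens) (hO : O ≤ V) :
    Function.Bijective (res F (inf_le_left : O ⊓ T.U ≤ O)) := by
  have h1 := (isZClosed_iff_all _ _).mp h (ClPre Z V T) (V.ι ⁻¹ᵁ O)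
  rw [res_restrict] at h1
  exact (res_bijective_congr2 F (image_preimage_of_le V hO)
    (image_preimage_inf_of_le V hO T.U) _ _).mp h1

variable [IsLocallyNoetherian X]

/-- For a closed subset `T'` of the open subscheme `V` contained in `Z ∩ V` and a quasi-compact
open `O'` of `V`, there is a closed subset `T` of `X` contained in `Z` with
`O' ∖ T ⊆ O' ∖ T'` (as opens of `X`). -/
theorem exists_Cl_of_restrict (hZ : StableUnderSpecialization Z)
    (T' : ZClos.Cl (X := (V : Scheme.{u})) (V.ι.base ⁻¹' Z)) (O' : (V : Scheme.{u}).Opens)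
    (hO' : IsCompact (O' : Set (V : Scheme.{u}))) :
    IsCompact ((V.ι ''ᵁ O' : X.Opens) : Set X) ∧
      ∃ T : ZClos.Cl Z, V.ι ''ᵁ O' ⊓ T.U ≤ V.ι ''ᵁ (O' ⊓ T'.U) := by
  have hO : IsCompact ((V.ι ''ᵁ O' : X.Opens) : Set X) := hO'.image V.ι.continuous
  refine ⟨hO, ?_⟩
  obtain ⟨T, hT⟩ := exists_Cl_le hZ (V.ι ''ᵁ O') hO (V.ι ''ᵁ (O' ⊓ T'.U)) (by
    rintro _ ⟨y', hy', rfl⟩ hyZ
    refine ⟨y', ⟨hy', ?_⟩, rfl⟩
    intro hyT
    exact hyZ (T'.2 hyT))
  refine ⟨T, ?_⟩
  rw [inf_comm]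
  exact hT

theorem isZPure_restrict (hZ : StableUnderSpecialization Z) (h : ZClos.IsZPure Z F) :
    ZClos.IsZPure (V.ι.base ⁻¹' Z) ((Scheme.Modules.restrictFunctor V.ι).obj F) := by
  rw [isZPure_iff_compact]
  intro T' O' hO'
  obtain ⟨-, T, hle⟩ := exists_Cl_of_restrict Z V hZ T' O' hO'
  have hall := (isZPure_iff_all Z F).mp h T (V.ι ''ᵁ O')
  have key : Function.Injective (res F (V.ι.image_mono (inf_le_left : O' ⊓ T'.U ≤ O'))) := by
    intro a b hab
    apply hall
    have := congrArg (res F hle) hab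
    rw [res_res, res_res] at this
    exact this
  show Function.Injective
    (res ((Scheme.Modules.restrictFunctor V.ι).obj F) (inf_le_left : O' ⊓ T'.U ≤ O'))
  rw [res_restrict]
  exact key

theorem isZClosed_restrict (hZ : StableUnderSpecialization Z) (h : ZClos.IsZClosed Z F) :
    ZClos.IsZClosed (V.ι.base ⁻¹' Z) ((Scheme.Modules.restrictFunctor V.ι).obj F) := by
  rw [isZClosed_iff_compact]
  intro T' O' hO'
  obtain ⟨hO, T, hle⟩ := exists_Cl_of_restrict Z V hZ T' O' hO'
  have hall := (isZClosed_iff_all Z F).mp h T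
  have key : Function.Bijective (res F (V.ι.image_mono (inf_le_left : O' ⊓ T'.U ≤ O'))) := by
    constructor
    · intro a b hab
      apply (hall (V.ι ''ᵁ O')).1
      have := congrArg (res F hle) hab
      rw [res_res, res_res] at this
      exact this
    · intro t
      obtain ⟨s, hs⟩ := (hall (V.ι ''ᵁ O')).2 (res F hle t)
      refine ⟨s, ?_⟩
      apply (hall (V.ι ''ᵁ (O' ⊓ T'.U))).1
      have hle2 : V.ι ''ᵁ (O' ⊓ T'.U) ⊓ T.U ≤ V.ι ''ᵁ O' ⊓ T.U :=
        inf_le_inf_right _ (V.ι.image_mono inf_le_left)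
      rw [res_res]
      have h1 : res F ((inf_le_left : V.ι ''ᵁ (O' ⊓ T'.U) ⊓ T.U ≤ _).trans
          (V.ι.image_mono (inf_le_left : O' ⊓ T'.U ≤ O'))) s =
          res F hle2 (res F (inf_le_left : V.ι ''ᵁ O' ⊓ T.U ≤ V.ι ''ᵁ O') s) :=
        (res_res F _ _ _).symm
      rw [h1, hs, res_res]
  show Function.Bijective
    (res ((Scheme.Modules.restrictFunctor V.ι).obj F) (inf_le_left : O' ⊓ T'.U ≤ O'))
  rw [res_restrict]
  exact key

end Restrict

section Cover

variable [IsLocallyNoetherian X] (Z : Set X) (hZ : StableUnderSpecialization Z) (F : X.Modules)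
  {ι : Type u} (V : ι → X.Opens) (hV : iSup V = ⊤)

include hZ hV

theorem isZPure_iff_cover :
    ZClos.IsZPure Z F ↔
      ∀ i, ZClos.IsZPure ((V i).ι.base ⁻¹' Z) ((Scheme.Modules.restrictFunctor (V i).ι).obj F) := by
  constructor
  · intro h i
    exact isZPure_restrict Z F (V i) hZ h
  · intro h
    rw [isZPure_iff_all]
    intro T O
    refine res_injective_of_local F T.U (fun O => ∃ i, O ≤ V i)
      (fun O O' hle hO => ?_) (fun x => ?_) (fun O hO => ?_) O
    · obtain ⟨i, hi⟩ := hO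
      exact ⟨i, hle.trans hi⟩
    · have hx : x ∈ iSup V := by
        rw [hV]
        trivial
      obtain ⟨i, hi⟩ := Opens.mem_iSup.mp hx
      exact ⟨V i, ⟨i, le_rfl⟩, hi⟩
    · obtain ⟨i, hi⟩ := hO
      exact res_injective_of_restrict_pure Z F (V i) (h i) T O hi

theorem isZClosed_iff_cover :
    ZClos.IsZClosed Z F ↔
      ∀ i, ZClos.IsZClosed ((V i).ι.base ⁻¹' Z)
        ((Scheme.Modules.restrictFunctor (V i).ι).obj F) := by
  constructor
  · intro h i
    exact isZClosed_restrict Z F (V i) hZ h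
  · intro h
    rw [isZClosed_iff_all]
    intro T O
    refine res_bijective_of_local F T.U (fun O => ∃ i, O ≤ V i)
      (fun O O' hle hO => ?_) (fun x => ?_) (fun O hO => ?_) O
    · obtain ⟨i, hi⟩ := hO
      exact ⟨i, hle.trans hi⟩
    · have hx : x ∈ iSup V := by
        rw [hV]
        trivial
      obtain ⟨i, hi⟩ := Opens.mem_iSup.mp hx
      exact ⟨V i, ⟨i, le_rfl⟩, hi⟩
    · obtain ⟨i, hi⟩ := hO
      exact res_bijective_of_restrict_closed Z F (V i) (h i) T O hi

end Cover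

end ZClosH8
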