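import Mathlib
import Groth.Prelude
import Groth.Agent.Lib.ZClos8_helper8
import Groth.Agent.Lib.HartConv1_helper8
import Groth.Agent.Lib.AssPt2_helper8
import Groth.Agent.Lib.CohDev14_helper8
import Groth.Agent.Lib.DepthAss_helper5
import Groth.Agent.Lib.FLF2_helper8

set_option autoImplicit false
universe u

open CategoryTheory CategoryTheory.Limits AlgebraicGeometry TopologicalSpace Opposite

/-! Depth of Z-closed coherent modules at the points of `Z`. -/

namespace ZClosH8

variable {X : Scheme.{u}}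

/-- The closure of a point of `Z`, as a member of the index of the inductive system. -/
def clPoint {Z : Set X} (hZ : StableUnderSpecialization Z) (x : X) (hx : x ∈ Z) : ZClos.Cl Z :=
  ⟨⟨closure {x}, isClosed_closure⟩, fun _ hp => hZ (specializes_iff_mem_closure.mpr hp) hx⟩

theorem not_mem_clPoint_U {Z : Set X} (hZ : StableUnderSpecialization Z) (x : X) (hx : x ∈ Z) :
    x ∉ (clPoint hZ x hx).U := fun h => h (subset_closure rfl)

variable [IsLocallyNoetherian X]

/-- A coherent Z-closed module has depth at least 2 at the points of `Z`. -/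
theorem two_le_depth_of_isZClosed {Z : Set X} (hZ : StableUnderSpecialization Z) (G : X.Modules)
    (hG : Coh.IsCoh G) (hcl : ZClos.IsZClosed Z G) (x : X) (hx : x ∈ Z) :
    (2 : ℕ∞) ≤ LocCoh.depth (X.presheaf.stalk x) (G.presheaf.stalk x) := by
  haveI : G.IsQuasicoherent := hG.1
  haveI : SheafOfModules.IsFiniteType (R := X.ringCatSheaf) G := hG.2
  exact HartConvH8.two_le_depth_of_bijective G (clPoint hZ x hx).U
    (fun W _ => (isZClosed_iff_all Z G).mp hcl (clPoint hZ x hx) W) x
    (not_mem_clPoint_U hZ x hx)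

/-- Associated points generize: if `x` is an associated point of `G` and `x ⤳ y`, then the
prime of `O_{X,y}` corresponding to `x` is an associated prime of the stalk `G_y`. -/
theorem isAssociatedPrime_comap_of_specializes (G : X.Modules) [G.IsQuasicoherent] {x y : X}
    (h : x ⤳ y) (hx : Curv2.IsAssPoint G x) :
    IsAssociatedPrime ((IsLocalRing.maximalIdeal (X.presheaf.stalk x)).comap
      (X.presheaf.stalkSpecializes h).hom) (G.presheaf.stalk y) := by
  obtain ⟨_, ⟨W, hW, rfl⟩, hyW, -⟩ :=
    X.isBasis_affineOpens.exists_subset_of_mem_open (Set.mem_univ y) isOpen_univ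
  have hW : IsAffineOpen W := hW
  have hyW : y ∈ W := hyW
  have hxW : x ∈ W := h.mem_open W.isOpen hyW
  haveI : IsNoetherianRing Γ(X, W) := IsLocallyNoetherian.component_noetherian ⟨W, hW⟩
  rw [AssPtH8.isAssPoint_iff G hW hxW] at hx
  letI := StalkLocH8.modSec G hyW
  haveI := StalkLocH8.isLocalizedModule_germLin G hW hyW
  letI := TopCat.Presheaf.algebra_section_stalk X.presheaf (⟨y, hyW⟩ : W)
  haveI : IsLocalization.AtPrime (X.presheaf.stalk y) (hW.primeIdealOf ⟨y, hyW⟩).asIdeal :=
    hW.isLocalization_stalk ⟨y, hyW⟩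
  haveI : IsScalarTower Γ(X, W) (X.presheaf.stalk y) (G.presheaf.stalk y) :=
    IsScalarTower.of_algebraMap_smul fun _ _ => rfl
  have hpre :=
    Module.associatedPrimes.preimage_comap_associatedPrimes_eq_associatedPrimes_of_isLocalizedModule
      (hW.primeIdealOf ⟨y, hyW⟩).asIdeal.primeCompl (X.presheaf.stalk y)
      (StalkLocH8.germLin G hyW)
  show _ ∈ associatedPrimes (X.presheaf.stalk y) (G.presheaf.stalk y)
  rw [← hpre, Set.mem_preimage]
  have hq : Ideal.comap (algebraMap Γ(X, W) (X.presheaf.stalk y))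
      ((IsLocalRing.maximalIdeal (X.presheaf.stalk x)).comap
        (X.presheaf.stalkSpecializes h).hom) = (hW.primeIdealOf ⟨x, hxW⟩).asIdeal := by
    ext f
    rw [Ideal.mem_comap, Ideal.mem_comap]
    have e1 : (X.presheaf.stalkSpecializes h).hom (algebraMap Γ(X, W) (X.presheaf.stalk y) f) =
        (X.presheaf.germ W x hxW).hom f :=
      TopCat.Presheaf.germ_stalkSpecializes_apply X.presheaf hyW h f
    rw [e1, hW.primeIdealOf_eq_map_closedPoint]
    rfl
  rw [hq]
  exact hx

/-- For coherent `F` with coherent Z-closure: an associated point `x ∉ Z` of `F` and a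
specialization `y ∈ Z` of `x` satisfy `dim O_{X,y}/p_x ≥ 2`. -/
theorem two_le_dim_quotient {Z : Set X} (hZ : StableUnderSpecialization Z) (F : X.Modules)
    (hH : Coh.IsCoh ((ZClos.H0 Z).obj F))
    (x : X) (hx : x ∈ AssSch.Ass F) (hxZ : x ∉ Z) (y : X) (hy : y ∈ Z) (h : x ⤳ y) :
    (2 : WithBot ℕ∞) ≤ ringKrullDim (X.presheaf.stalk y ⧸
      (IsLocalRing.maximalIdeal (X.presheaf.stalk x)).comap
        (X.presheaf.stalkSpecializes h).hom) := by
  haveI : ((ZClos.H0 Z).obj F).IsQuasicoherent := hH.1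
  haveI : SheafOfModules.IsFiniteType (R := X.ringCatSheaf) ((ZClos.H0 Z).obj F) := hH.2
  -- `x` is an associated point of the Z-closure
  have hxG : Curv2.IsAssPoint ((ZClos.H0 Z).obj F) x := by
    have hb := isZClosedAt_of_not_mem Z F x hxZ
    haveI : IsIso ((TopCat.Presheaf.stalkFunctor (C := Ab.{u}) x).map
        (ZClos.rhoApp Z F).mapPresheaf) :=
      (ConcreteCategory.isIso_iff_bijective _).mpr hb
    obtain ⟨e⟩ := CohDevH8.nonempty_stalk_equiv_of_isIso (ZClos.rhoApp Z F) x inferInstance
    exact (LinearEquiv.isAssociatedPrime_iff e).mp hx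
  have hass := isAssociatedPrime_comap_of_specializes ((ZClos.H0 Z).obj F) h hxG
  have hdepth := two_le_depth_of_isZClosed hZ ((ZClos.H0 Z).obj F) hH (isZClosed_H0 Z F) y hy
  haveI : Module.Finite (X.presheaf.stalk y) (((ZClos.H0 Z).obj F).presheaf.stalk y) :=
    FLFH8.finite_stalk _ y
  have hle := Groth.Agent.DepthLib.depth_le_ringKrullDim_quotient (X.presheaf.stalk y)
    (((ZClos.H0 Z).obj F).presheaf.stalk y) _ hass
  refine le_trans ?_ hle
  have : ((2 : ℕ∞) : WithBot ℕ∞) ≤ ((LocCoh.depth (X.presheaf.stalk y)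
      (((ZClos.H0 Z).obj F).presheaf.stalk y) : ℕ∞) : WithBot ℕ∞) := WithBot.coe_le_coe.mpr hdepth
  exact this

end ZClosH8
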