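import Mathlib
import Groth.Prelude
import Groth.Agent.Lib.ZClos9_helper8
import Groth.Agent.Lib.ZClos6_helper8
import Groth.Agent.Lib.HomLin6_helper8
import Groth.Agent.Lib.StalkGen_helper5

set_option autoImplicit false
universe u

open CategoryTheory CategoryTheory.Limits AlgebraicGeometry TopologicalSpace Opposite
open ZClosH8 HartConvH8

/-! Pointwise Z-purity and Z-closedness in terms of depth. -/

namespace ZClosPtH8

section Alg

variable {R : Type u} [CommRing R] [IsNoetherianRing R] (J : Ideal R) (M : Type u)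
  [AddCommGroup M] [Module R M] [Module.Finite R M]

/-- A criterion for `depth_J M ≥ 2` in terms of elements. -/
theorem two_le_idealDepth_of_forall
    (h1 : ∀ m : M, (∀ r ∈ J, r • m = 0) → m = 0)
    (h2 : ∀ a ∈ J, IsSMulRegular M a → ∀ m : M, (∀ r ∈ J, ∃ m' : M, r • m = a • m') →
      ∃ m₀ : M, m = a • m₀) :
    2 ≤ LocCoh.idealDepth J M := by
  by_cases htop : J • (⊤ : Submodule R M) = ⊤
  · have := (Groth.Agent.DepthLib.le_idealDepth_iff J M 2).2 (Or.inl htop)
    exact_mod_cast this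
  have hd1 : 1 ≤ LocCoh.idealDepth J M := by
    by_contra hcon
    obtain ⟨q, hq, haq⟩ := Groth.Agent.DepthLib.exists_associatedPrime_of_not_one_le J M hcon
    obtain ⟨hqprime, m₀, hm₀⟩ := isAssociatedPrime_iff.1 hq
    have hmem : ∀ c, c ∈ q ↔ c • m₀ = 0 := by
      intro c
      rw [hm₀, Submodule.mem_colon_singleton, Submodule.mem_bot]
    have h0 : m₀ = 0 := h1 m₀ (fun r hr => (hmem r).1 (haq hr))
    apply hqprime.ne_top
    rw [Ideal.eq_top_iff_one, hmem, h0, smul_zero]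
  rcases (Groth.Agent.DepthLib.one_le_idealDepth_iff J M).1 hd1 with htop' | ⟨x, hxa, hreg⟩
  · exact absurd htop' htop
  have key := (Groth.Agent.DepthLib.le_idealDepth_quotSMulTop_iff J M hxa hreg 1).1 ?_
  · exact_mod_cast key
  by_contra hcon
  have hcon' : ¬ 1 ≤ LocCoh.idealDepth J (QuotSMulTop x M) := by exact_mod_cast hcon
  obtain ⟨q, hq, haq⟩ :=
    Groth.Agent.DepthLib.exists_associatedPrime_of_not_one_le J (QuotSMulTop x M) hcon'
  obtain ⟨hqprime, m₀, hm₀⟩ := isAssociatedPrime_iff.1 hq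
  have hmem : ∀ c, c ∈ q ↔ c • m₀ = 0 := by
    intro c
    rw [hm₀, Submodule.mem_colon_singleton, Submodule.mem_bot]
  obtain ⟨m, rfl⟩ := Submodule.Quotient.mk_surjective _ m₀
  have hcolon : ∀ r ∈ J, ∃ mb : M, r • m = x • mb := by
    intro b hb
    have h2' := (hmem b).1 (haq hb)
    rw [← Submodule.Quotient.mk_smul, Submodule.Quotient.mk_eq_zero] at h2'
    obtain ⟨mb, -, hmb⟩ := (Submodule.mem_smul_pointwise_iff_exists _ _ _).1 h2'
    exact ⟨mb, hmb.symm⟩
  obtain ⟨m0, hm0⟩ := h2 x hxa hreg m hcolon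
  apply hqprime.ne_top
  rw [Ideal.eq_top_iff_one, hmem, one_smul, Submodule.Quotient.mk_eq_zero, hm0]
  exact Submodule.smul_mem_pointwise_smul m0 x ⊤ Submodule.mem_top

end Alg

section Alg2

variable {A : Type u} [CommRing A] (p : Ideal A) [hp : p.IsPrime]

/-- A finite module each of whose elements is killed by an element outside `p` is killed by a
single element outside `p`. -/
theorem exists_notMem_forall_smul_eq_zero (N : Type u) [AddCommGroup N] [Module A N]
    [Module.Finite A N] (h : ∀ n : N, ∃ r, r ∉ p ∧ r • n = 0) :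
    ∃ g, g ∉ p ∧ ∀ n : N, g • n = 0 := by
  have h1 : (⟨p, hp⟩ : PrimeSpectrum A) ∉ Module.support A N := by
    rw [Module.notMem_support_iff']
    intro m
    obtain ⟨r, hr, hrm⟩ := h m
    exact ⟨r, hr, hrm⟩
  rw [Module.mem_support_iff_of_finite] at h1
  obtain ⟨g, hg, hgp⟩ := SetLike.not_le_iff_exists.1 h1
  exact ⟨g, hgp, fun n => Module.mem_annihilator.1 hg n⟩

end Alg2

variable {X : Scheme.{u}}

section Germ

variable (F : X.Modules)

theorem germ_mem_maximalIdeal {W : X.Opens} (hW : IsAffineOpen W) {x : X} (hx : x ∈ W)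
    {f : Γ(X, W)} (hf : f ∈ (hW.primeIdealOf ⟨x, hx⟩).asIdeal) :
    X.presheaf.germ W x hx f ∈ IsLocalRing.maximalIdeal (X.presheaf.stalk x) := by
  have h := Groth.Agent.StalkGen.comap_maximalIdeal hW hx
  rw [← h] at hf
  exact hf

theorem mem_prime_of_basicOpen_le {W : X.Opens} (hW : IsAffineOpen W) {x : X} (hx : x ∈ W)
    {U : X.Opens} (hxU : x ∉ U) {f : Γ(X, W)} (hf : X.basicOpen f ≤ U) :
    f ∈ (hW.primeIdealOf ⟨x, hx⟩).asIdeal := by
  by_contra hfp
  exact hxU (hf (mem_basicOpen_of_notMem_prime hW hx hfp))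

theorem exists_smul_eq_zero_of_germ_eq_zero [F.IsQuasicoherent] {W : X.Opens}
    (hW : IsAffineOpen W) {x : X} (hx : x ∈ W) (s : Γ(F, W))
    (h : F.presheaf.germ W x hx s = 0) :
    ∃ r : Γ(X, W), r ∉ (hW.primeIdealOf ⟨x, hx⟩).asIdeal ∧ r • s = 0 := by
  letI := StalkLocH8.modSec F hx
  haveI := StalkLocH8.isLocalizedModule_germLin F hW hx
  obtain ⟨c, hc⟩ := (IsLocalizedModule.eq_zero_iff
    (hW.primeIdealOf ⟨x, hx⟩).asIdeal.primeCompl (StalkLocH8.germLin F hx)).1 h
  exact ⟨c.1, c.2, hc⟩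

/-- Sections of `F` and of `O_X` with given germs at `x`, over a common affine open. -/
theorem exists_affine_germ2 (x : X) (a : X.presheaf.stalk x) (m : F.presheaf.stalk x) :
    ∃ (W : X.Opens) (_ : IsAffineOpen W) (hx : x ∈ W) (a₀ : Γ(X, W)) (s : Γ(F, W)),
      X.presheaf.germ W x hx a₀ = a ∧ F.presheaf.germ W x hx s = m := by
  obtain ⟨O₁, hx₁, a₁, rfl⟩ := TopCat.Presheaf.exists_germ_eq X.presheaf a
  obtain ⟨O₂, hx₂, s₂, rfl⟩ := TopCat.Presheaf.exists_germ_eq F.presheaf m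
  obtain ⟨_, ⟨W, hW, rfl⟩, hxW, hWO⟩ :=
    X.isBasis_affineOpens.exists_subset_of_mem_open (show x ∈ ((O₁ ⊓ O₂ : X.Opens) : Set X) from
      ⟨hx₁, hx₂⟩) (O₁ ⊓ O₂).isOpen
  have hW : IsAffineOpen W := hW
  have hxW : x ∈ W := hxW
  have h1 : W ≤ O₁ := fun y hy => (hWO hy).1
  have h2 : W ≤ O₂ := fun y hy => (hWO hy).2
  refine ⟨W, hW, hxW, rX h1 a₁, res F h2 s₂, ?_, ?_⟩
  · exact TopCat.Presheaf.germ_res_apply X.presheaf (homOfLE h1) x hxW a₁
  · exact germ_res F h2 x hxW s₂

end Germ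

section Rho

variable {Z : Set X} (F : X.Modules)

/-- The value of `ρ_x` on a germ, computed on a smaller open and any closed `T ⊆ Z`. -/
theorem rhoStalk_germ_eq (T : ZClos.Cl Z) {V W : X.Opens} (hVW : V ≤ W) (x : X) (hx : x ∈ V)
    (s : Γ(F, W)) :
    ZClos.rhoStalk Z F x (F.presheaf.germ W x (hVW hx) s) =
      ((ZClos.H0 Z).obj F).presheaf.germ V x hx
        ((ιH Z F T).app V (res F ((TV_le T V).trans hVW) s)) := by
  rw [← germ_res F hVW x hx s, rhoStalk_germ, rhoApp_app Z F T V, res_res]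

theorem resPush_smul (T : ZClos.Cl Z) (V : X.Opens) (r : Γ(X, V))
    (t : Γ((ZClos.resPush T.U).obj F, V)) :
    r • t = (show Γ(F, TV T V) from rX (TV_le T V) r • (show Γ(F, TV T V) from t)) := by
  have h1 : r • t = (show Γ(F, TV T V) from
      ((T.U.ι.appIso (T.U.ι ⁻¹ᵁ V)).inv.hom ((T.U.ι.app V).hom r)) •
        (show Γ(F, TV T V) from t)) := rfl
  rw [h1]
  have h2 : (T.U.ι.appIso (T.U.ι ⁻¹ᵁ V)).inv.hom ((T.U.ι.app V).hom r) = rX (TV_le T V) r := by
    have := Scheme.Hom.app_appIso_inv T.U.ι V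
    exact congrArg (fun f => f.hom r) this
  rw [h2]

variable [IsLocallyNoetherian X] [F.IsQuasicoherent]

/-- L1: an element of the stalk at a point of `Z` killed by the maximal ideal dies in the
Z-closure. -/
theorem rhoStalk_eq_zero_of_smul (hZ : StableUnderSpecialization Z) (x : X) (hx : x ∈ Z)
    (b : F.presheaf.stalk x)
    (hb : ∀ r ∈ IsLocalRing.maximalIdeal (X.presheaf.stalk x), r • b = 0) :
    ZClos.rhoStalk Z F x b = 0 := by
  obtain ⟨W, hW, hxW, s, rfl⟩ := exists_germ_affine F x b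
  haveI : IsNoetherianRing Γ(X, W) := IsLocallyNoetherian.component_noetherian ⟨W, hW⟩
  set p := (hW.primeIdealOf ⟨x, hxW⟩).asIdeal with hp
  let N : Submodule Γ(X, W) Γ(F, W) := p • Submodule.span Γ(X, W) {s}
  haveI hNfg : Module.Finite Γ(X, W) N :=
    Module.Finite.iff_fg.2 (Submodule.FG.smul (IsNoetherian.noetherian p)
      (Submodule.fg_span_singleton s))
  have hN : ∀ n : N, ∃ r, r ∉ p ∧ r • n = 0 := by
    rintro ⟨n, hn⟩
    have h0 : F.presheaf.germ W x hxW n = 0 := by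
      refine Submodule.smul_induction_on hn ?_ ?_
      · intro f hf m hm
        obtain ⟨c, rfl⟩ := Submodule.mem_span_singleton.1 hm
        rw [Mero.germ_smul, Mero.germ_smul, smul_comm, hb _ (germ_mem_maximalIdeal hW hxW hf),
          smul_zero]
      · intro a b ha hb
        rw [map_add, ha, hb, add_zero]
    obtain ⟨r, hr, hrn⟩ := exists_smul_eq_zero_of_germ_eq_zero F hW hxW n h0
    exact ⟨r, hr, Subtype.ext hrn⟩
  obtain ⟨g, hgp, hg⟩ := exists_notMem_forall_smul_eq_zero p N hN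
  have hgf : ∀ f ∈ p, f • g • s = 0 := by
    intro f hf
    have h1 := hg ⟨f • s, Submodule.smul_mem_smul hf (Submodule.mem_span_singleton_self s)⟩
    have h2 : g • f • s = 0 := congrArg Subtype.val h1
    rw [smul_comm]
    exact h2
  set T := clPoint hZ x hx with hT
  have hxT : x ∉ T.U := not_mem_clPoint_U hZ x hx
  have h3 : res F (inf_le_left : W ⊓ T.U ≤ W) (g • s) = 0 :=
    res_eq_zero_of_torsion F hW T.U (g • s)
      (fun f hf => hgf f (mem_prime_of_basicOpen_le hW hxW hxT hf))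
  have hxV : x ∈ X.basicOpen g := mem_basicOpen_of_notMem_prime hW hxW hgp
  rw [rhoStalk_germ_eq F T (X.basicOpen_le g) x hxV s]
  have hle : TV T (X.basicOpen g) ≤ W ⊓ T.U := by
    refine le_inf ((TV_le T _).trans (X.basicOpen_le g)) ?_
    rw [TV_eq]
    exact inf_le_left
  have h4 : res F ((TV_le T (X.basicOpen g)).trans (X.basicOpen_le g)) s = 0 := by
    apply eq_zero_of_smul_eq_zero F g (TV_le T (X.basicOpen g))
    rw [← res_smul]
    have : res F ((TV_le T (X.basicOpen g)).trans (X.basicOpen_le g)) (g • s) =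
        res F hle (res F (inf_le_left : W ⊓ T.U ≤ W) (g • s)) := (res_res F _ _ _).symm
    rw [this, h3, map_zero]
  rw [h4]
  have h5 : (ιH Z F T).app (X.basicOpen g)
      (0 : Γ((ZClos.resPush T.U).obj F, X.basicOpen g)) = 0 :=
    map_zero ((ιH Z F T).app (X.basicOpen g)).hom
  exact (congrArg (((ZClos.H0 Z).obj F).presheaf.germ (X.basicOpen g) x hxV) h5).trans
    (map_zero (((ZClos.H0 Z).obj F).presheaf.germ (X.basicOpen g) x hxV).hom)

end Rho

end ZClosPtH8
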