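import Mathlib
import Groth.Prelude
import Groth.Agent.Lib.ZClosPt1_helper8

set_option autoImplicit false
universe u

open CategoryTheory CategoryTheory.Limits AlgebraicGeometry TopologicalSpace Opposite
open ZClosH8 HartConvH8
open scoped Pointwise

/-! Pointwise Z-closedness implies depth at least 2 at points of `Z`. -/

namespace ZClosPtH8

variable {X : Scheme.{u}} (F : X.Modules) [F.IsQuasicoherent]

/-- Core B': if the kernel of `a` on `Γ(F, W)` is killed by `g₁`, then `a` is regular on the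
sections over every open contained in `D(g₁)`. -/
theorem eq_zero_of_regular' {W : X.Opens} (hW : IsAffineOpen W) (a g₁ : Γ(X, W))
    (hK : ∀ k : Γ(F, W), a • k = 0 → g₁ • k = 0) {O : X.Opens} (hO : O ≤ X.basicOpen g₁)
    (s : Γ(F, O)) (hs : rX (hO.trans (X.basicOpen_le g₁)) a • s = 0) : s = 0 := by
  have hOW : O ≤ W := hO.trans (X.basicOpen_le g₁)
  refine eq_zero_of_locally F O s (fun y hy => ?_)
  obtain ⟨g, hg, hyg⟩ := hW.exists_basicOpen_le (V := O) ⟨y, hy⟩ (hOW hy)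
  refine ⟨X.basicOpen g, hg, hyg, ?_⟩
  obtain ⟨k, n, hn⟩ :=
    Groth.Agent.Lib.QCohLoc_helper4.exists_res_eq_pow_smul F hW g (res F hg s)
  have e2 : res F (X.basicOpen_le g) n =
      rX (X.basicOpen_le g) g ^ k • res F hg s := hn
  -- `a • n` vanishes on `D(g)`
  have h1 : F.presheaf.map (homOfLE (X.basicOpen_le g)).op (a • n) = 0 := by
    have e1 : res F (X.basicOpen_le g) (a • n) =
        rX (X.basicOpen_le g) a • res F (X.basicOpen_le g) n := res_smul F _ a n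
    refine e1.trans ?_
    rw [e2, smul_comm]
    have e3 : rX (X.basicOpen_le g) a • res F hg s = res F hg (rX hOW a • s) := by
      rw [res_smul, rX_rX]
    rw [e3, hs, map_zero, smul_zero]
  obtain ⟨j, hj⟩ := Groth.Agent.Lib.QCohLoc_helper4.exists_pow_smul_eq_zero F hW g (a • n) h1
  have h2 : g₁ • g ^ j • n = 0 := by
    apply hK
    rw [smul_comm]
    exact hj
  -- hence `g₁ g^(j+k) • s|D(g) = 0`
  have h3 : rX (X.basicOpen_le g) g₁ • rX (X.basicOpen_le g) g ^ j •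
      (rX (X.basicOpen_le g) g ^ k • res F hg s) = 0 := by
    rw [← e2, ← map_pow, ← res_smul, ← res_smul, h2, map_zero]
  have hu : IsUnit (rX (X.basicOpen_le g) g) := X.toRingedSpace.isUnit_res_basicOpen g
  have hu1 : IsUnit (rX (X.basicOpen_le g) g₁) := by
    have := isUnit_rX_of_le_basicOpen g₁ (hg.trans hO)
    exact this
  have hu' : IsUnit (rX (X.basicOpen_le g) g₁ * (rX (X.basicOpen_le g) g ^ j *
      rX (X.basicOpen_le g) g ^ k)) := hu1.mul ((hu.pow j).mul (hu.pow k))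
  rw [smul_smul, smul_smul, mul_assoc] at h3
  obtain ⟨u, hu⟩ := hu'
  have : res F hg s = (↑u⁻¹ : Γ(X, X.basicOpen g)) • ((u : Γ(X, X.basicOpen g)) • res F hg s) := by
    rw [smul_smul, Units.inv_mul, one_smul]
  rw [this, hu, h3, smul_zero]

omit [F.IsQuasicoherent] in
/-- Core C': gluing `n / a` on `D(g) ∩ U`. -/
theorem exists_section_smul_eq' {W : X.Opens} (hW : IsAffineOpen W) (U : X.Opens)
    (a g : Γ(X, W))
    (hreg : ∀ (O : X.Opens) (hO : O ≤ X.basicOpen g) (s : Γ(F, O)),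
      rX (hO.trans (X.basicOpen_le g)) a • s = 0 → s = 0)
    (n : Γ(F, W))
    (h : ∀ f : Γ(X, W), X.basicOpen f ≤ U → ∃ m : Γ(F, W), (g * f) • n = a • m) :
    ∃ t : Γ(F, X.basicOpen g ⊓ U),
      rX ((inf_le_left : X.basicOpen g ⊓ U ≤ X.basicOpen g).trans (X.basicOpen_le g)) a • t =
      res F ((inf_le_left : X.basicOpen g ⊓ U ≤ X.basicOpen g).trans (X.basicOpen_le g)) n := by
  let I := {f : Γ(X, W) // X.basicOpen f ≤ U}
  let UU : I → X.Opens := fun f => X.basicOpen (g * f.1)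
  have hUW : ∀ f : I, UU f ≤ W := fun f => X.basicOpen_le (g * f.1)
  have hUg : ∀ f : I, UU f ≤ X.basicOpen g := fun f => by
    show X.basicOpen (g * f.1) ≤ X.basicOpen g
    rw [Scheme.basicOpen_mul]
    exact inf_le_left
  have hUf : ∀ f : I, UU f ≤ U := fun f => by
    show X.basicOpen (g * f.1) ≤ U
    rw [Scheme.basicOpen_mul]
    exact inf_le_right.trans f.2
  have hUWU : ∀ f : I, UU f ≤ X.basicOpen g ⊓ U := fun f => le_inf (hUg f) (hUf f)
  have hGW : X.basicOpen g ⊓ U ≤ W := inf_le_left.trans (X.basicOpen_le g)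
  choose m hm using fun f : I => h f.1 f.2
  -- the local sections
  have hsf : ∀ f : I, ∃ t : Γ(F, UU f), rX (hUW f) a • t = res F (hUW f) n := by
    intro f
    obtain ⟨u, hu⟩ := isUnit_rX_of_le_basicOpen (g * f.1) (le_refl (X.basicOpen (g * f.1)))
    refine ⟨(↑u⁻¹ : Γ(X, UU f)) • res F (hUW f) (m f), ?_⟩
    have e1 : (u : Γ(X, UU f)) • res F (hUW f) n = rX (hUW f) a • res F (hUW f) (m f) := by
      rw [hu, ← res_smul, ← res_smul, hm f]
    have e2 : res F (hUW f) n =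
        (↑u⁻¹ : Γ(X, UU f)) • ((u : Γ(X, UU f)) • res F (hUW f) n) := by
      rw [smul_smul, Units.inv_mul, one_smul]
    rw [e2, e1, smul_comm]
  choose sf hsf using hsf
  have hcomp : TopCat.Presheaf.IsCompatible F.presheaf UU sf := by
    intro f f'
    have hO : UU f ⊓ UU f' ≤ W := inf_le_left.trans (hUW f)
    have e : ∀ (k : I) (hk : UU f ⊓ UU f' ≤ UU k),
        rX hO a • res F hk (sf k) = res F hO n := by
      intro k hk
      have := congrArg (res F hk) (hsf k)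
      rw [res_smul, rX_rX, res_res] at this
      exact this
    rw [← sub_eq_zero]
    apply hreg (UU f ⊓ UU f') (inf_le_left.trans (hUg f))
    rw [smul_sub, sub_eq_zero]
    exact (e f inf_le_left).trans (e f' inf_le_right).symm
  have hcov' : ∀ y ∈ X.basicOpen g ⊓ U, ∃ k : I, y ∈ UU k := by
    intro y hy
    have hyW : y ∈ W := hGW hy
    obtain ⟨f, hf, hyf⟩ := hW.exists_basicOpen_le (V := W ⊓ U) ⟨y, ⟨hyW, hy.2⟩⟩ hyW
    refine ⟨⟨f, hf.trans inf_le_right⟩, ?_⟩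
    show y ∈ X.basicOpen (g * f)
    rw [Scheme.basicOpen_mul]
    exact ⟨hy.1, hyf⟩
  have hcov : X.basicOpen g ⊓ U ≤ iSup UU := by
    intro y hy
    obtain ⟨k, hk⟩ := hcov' y hy
    exact Opens.mem_iSup.mpr ⟨k, hk⟩
  obtain ⟨t, ht, -⟩ := TopCat.Sheaf.existsUnique_gluing' (F := ⟨F.presheaf, F.isSheaf⟩) UU
    (X.basicOpen g ⊓ U) (fun f => homOfLE (hUWU f)) hcov sf hcomp
  have ht' : ∀ f : I, res F (hUWU f) t = sf f := ht
  refine ⟨t, ?_⟩
  rw [← sub_eq_zero]
  refine eq_zero_of_locally F (X.basicOpen g ⊓ U) _ (fun y hy => ?_)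
  obtain ⟨k, hk⟩ := hcov' y hy
  refine ⟨UU k, hUWU k, hk, ?_⟩
  rw [map_sub, res_smul, rX_rX, ht' k, res_res, sub_eq_zero]
  exact hsf k



variable {Z : Set X} [IsLocallyNoetherian X]

/-- (i) regularity spreads out: if the germ of `a₀` at `x` is regular on the stalk, the kernel
of `a₀` on the sections over an affine open is killed by a function not vanishing at `x`. -/
theorem exists_kernel_killer [SheafOfModules.IsFiniteType (R := X.ringCatSheaf) F]
    {W : X.Opens} (hW : IsAffineOpen W) {x : X} (hxW : x ∈ W) (a₀ : Γ(X, W))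
    (hareg : IsSMulRegular (F.presheaf.stalk x) (X.presheaf.germ W x hxW a₀)) :
    ∃ g₁, g₁ ∉ (hW.primeIdealOf ⟨x, hxW⟩).asIdeal ∧
      ∀ k : Γ(F, W), a₀ • k = 0 → g₁ • k = 0 := by
  haveI : IsNoetherianRing Γ(X, W) := IsLocallyNoetherian.component_noetherian ⟨W, hW⟩
  haveI : Module.Finite Γ(X, W) Γ(F, W) := QCohFT.finite_of_isFiniteType F hW
  set p := (hW.primeIdealOf ⟨x, hxW⟩).asIdeal with hp
  haveI hpp : p.IsPrime := (hW.primeIdealOf ⟨x, hxW⟩).isPrime
  let K : Submodule Γ(X, W) Γ(F, W) := LinearMap.ker (LinearMap.lsmul Γ(X, W) Γ(F, W) a₀)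
  have hK : ∀ k : K, ∃ r, r ∉ p ∧ r • k = 0 := by
    rintro ⟨k, hk⟩
    have hk' : a₀ • k = 0 := LinearMap.mem_ker.1 hk
    have h0 : F.presheaf.germ W x hxW k = 0 := by
      apply hareg
      show X.presheaf.germ W x hxW a₀ • F.presheaf.germ W x hxW k =
        X.presheaf.germ W x hxW a₀ • 0
      rw [← Mero.germ_smul, hk', map_zero, smul_zero]
    obtain ⟨r, hr, hrk⟩ := exists_smul_eq_zero_of_germ_eq_zero F hW hxW k h0
    exact ⟨r, hr, Subtype.ext hrk⟩
  obtain ⟨g, hgp, hg⟩ := exists_notMem_forall_smul_eq_zero p K hK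
  exact ⟨g, hgp, fun k hk => congrArg Subtype.val (hg ⟨k, LinearMap.mem_ker.2 hk⟩)⟩


/-- (ii) the colon condition spreads out. -/
theorem exists_colon_killer [SheafOfModules.IsFiniteType (R := X.ringCatSheaf) F]
    {W : X.Opens} (hW : IsAffineOpen W) {x : X} (hxW : x ∈ W) (a₀ : Γ(X, W)) (s : Γ(F, W))
    (hm : ∀ r ∈ IsLocalRing.maximalIdeal (X.presheaf.stalk x), ∃ m' : F.presheaf.stalk x,
      r • F.presheaf.germ W x hxW s = X.presheaf.germ W x hxW a₀ • m') :
    ∃ g₂, g₂ ∉ (hW.primeIdealOf ⟨x, hxW⟩).asIdeal ∧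
      ∀ f ∈ (hW.primeIdealOf ⟨x, hxW⟩).asIdeal, ∃ m' : Γ(F, W), (g₂ * f) • s = a₀ • m' := by
  haveI : IsNoetherianRing Γ(X, W) := IsLocallyNoetherian.component_noetherian ⟨W, hW⟩
  haveI : Module.Finite Γ(X, W) Γ(F, W) := QCohFT.finite_of_isFiniteType F hW
  set p := (hW.primeIdealOf ⟨x, hxW⟩).asIdeal with hp
  haveI hpp : p.IsPrime := (hW.primeIdealOf ⟨x, hxW⟩).isPrime
  have hP : ∀ z ∈ p • Submodule.span Γ(X, W) {s},
      ∃ r, r ∉ p ∧ ∃ m' : Γ(F, W), r • z = a₀ • m' := by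
    intro z hz
    refine Submodule.smul_induction_on hz ?_ ?_
    · intro f hf y hy
      obtain ⟨c, rfl⟩ := Submodule.mem_span_singleton.1 hy
      obtain ⟨m', hm'⟩ := hm _ (germ_mem_maximalIdeal hW hxW hf)
      letI := StalkLocH8.modSec F hxW
      haveI := StalkLocH8.isLocalizedModule_germLin F hW hxW
      obtain ⟨⟨n', u⟩, hnu⟩ := IsLocalizedModule.surj p.primeCompl (StalkLocH8.germLin F hxW) m'
      have hnu' : X.presheaf.germ W x hxW (u : Γ(X, W)) • m' = F.presheaf.germ W x hxW n' := hnu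
      have h0 : F.presheaf.germ W x hxW ((u : Γ(X, W)) • f • s - a₀ • n') = 0 := by
        rw [map_sub, Mero.germ_smul, Mero.germ_smul, Mero.germ_smul, hm', smul_comm, hnu',
          sub_self]
      obtain ⟨v, hv, hvz⟩ := exists_smul_eq_zero_of_germ_eq_zero F hW hxW _ h0
      rw [smul_sub, sub_eq_zero] at hvz
      refine ⟨v * u, fun h => (hpp.mem_or_mem h).elim hv u.2, c • v • n', ?_⟩
      rw [smul_comm a₀, smul_comm a₀, ← hvz, mul_smul, smul_comm f c, smul_comm (u : Γ(X, W)) c,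
        smul_comm v c]
    · intro z₁ z₂ h₁ h₂
      obtain ⟨r₁, hr₁, m₁, e₁⟩ := h₁
      obtain ⟨r₂, hr₂, m₂, e₂⟩ := h₂
      refine ⟨r₁ * r₂, fun h => (hpp.mem_or_mem h).elim hr₁ hr₂, r₂ • m₁ + r₁ • m₂, ?_⟩
      rw [smul_add, smul_add, mul_comm r₁ r₂, mul_smul, e₁, mul_comm r₂ r₁, mul_smul, e₂,
        smul_comm a₀, smul_comm a₀]
  let q : Γ(F, W) →ₗ[Γ(X, W)] QuotSMulTop a₀ Γ(F, W) := Submodule.mkQ _
  let N : Submodule Γ(X, W) (QuotSMulTop a₀ Γ(F, W)) :=
    Submodule.map q (p • Submodule.span Γ(X, W) {s})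
  have hN : ∀ n : N, ∃ r, r ∉ p ∧ r • n = 0 := by
    rintro ⟨n, hn⟩
    obtain ⟨z, hz, rfl⟩ := Submodule.mem_map.1 hn
    obtain ⟨r, hr, m', e⟩ := hP z hz
    refine ⟨r, hr, Subtype.ext ?_⟩
    show r • q z = 0
    rw [← map_smul, e]
    exact (Submodule.Quotient.mk_eq_zero _).2
      (Submodule.smul_mem_pointwise_smul m' a₀ ⊤ Submodule.mem_top)
  obtain ⟨g, hgp, hg⟩ := exists_notMem_forall_smul_eq_zero p N hN
  refine ⟨g, hgp, fun f hf => ?_⟩
  have h1 := hg ⟨q (f • s), Submodule.mem_map_of_mem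
    (Submodule.smul_mem_smul hf (Submodule.mem_span_singleton_self s))⟩
  have h2 : g • q (f • s) = 0 := congrArg Subtype.val h1
  rw [← map_smul] at h2
  have h3 : g • f • s ∈ a₀ • (⊤ : Submodule Γ(X, W) Γ(F, W)) :=
    (Submodule.Quotient.mk_eq_zero _).1 h2
  obtain ⟨mb, -, hmb⟩ := (Submodule.mem_smul_pointwise_iff_exists _ _ _).1 h3
  exact ⟨mb, by rw [mul_smul]; exact hmb.symm⟩


/-- L6: at a point of `Z` where `F` (coherent) is Z-closed, the depth of the stalk is at least 2. -/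
theorem two_le_depth_of_isZClosedAt (hZ : StableUnderSpecialization Z)
    [SheafOfModules.IsFiniteType (R := X.ringCatSheaf) F] (x : X) (hx : x ∈ Z)
    (hcl : ZClos.IsZClosedAt Z F x) :
    (2 : ℕ∞) ≤ LocCoh.depth (X.presheaf.stalk x) (F.presheaf.stalk x) := by
  haveI : Module.Finite (X.presheaf.stalk x) (F.presheaf.stalk x) := FLFH8.finite_stalk F x
  unfold LocCoh.depth
  refine two_le_idealDepth_of_forall _ _ ?_ ?_
  · intro b hb
    apply hcl.1
    rw [rhoStalk_eq_zero_of_smul F hZ x hx b hb]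
    exact (map_zero (ZClos.rhoStalk Z F x).hom).symm
  intro a ha hareg m hm
  obtain ⟨W, hW, hxW, a₀, s, rfl, rfl⟩ := exists_affine_germ2 F x a m
  set p := (hW.primeIdealOf ⟨x, hxW⟩).asIdeal with hp
  haveI hpp : p.IsPrime := (hW.primeIdealOf ⟨x, hxW⟩).isPrime
  obtain ⟨g₁, hg₁p, hg₁⟩ := exists_kernel_killer F hW hxW a₀ hareg
  obtain ⟨g₂, hg₂p, hg₂⟩ := exists_colon_killer F hW hxW a₀ s hm
  -- (iii) glue
  set T := clPoint hZ x hx with hT
  have hxT : x ∉ T.U := not_mem_clPoint_U hZ x hx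
  set g := g₁ * g₂ with hg
  have hgp : g ∉ p := fun h => (hpp.mem_or_mem h).elim hg₁p hg₂p
  have hgg₁ : X.basicOpen g ≤ X.basicOpen g₁ := by
    rw [hg, Scheme.basicOpen_mul]
    exact inf_le_left
  have hreg : ∀ (O : X.Opens) (hO : O ≤ X.basicOpen g) (s' : Γ(F, O)),
      rX (hO.trans (X.basicOpen_le g)) a₀ • s' = 0 → s' = 0 :=
    fun O hO s' hs' => eq_zero_of_regular' F hW a₀ g₁ hg₁ (hO.trans hgg₁) s' hs'
  have hcol : ∀ f : Γ(X, W), X.basicOpen f ≤ T.U → ∃ m' : Γ(F, W), (g * f) • s = a₀ • m' := by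
    intro f hf
    obtain ⟨m', hm'⟩ := hg₂ f (mem_prime_of_basicOpen_le hW hxW hxT hf)
    refine ⟨g₁ • m', ?_⟩
    rw [hg, mul_assoc, mul_smul, hm', smul_comm]
  obtain ⟨t, ht⟩ := exists_section_smul_eq' F hW T.U a₀ g hreg s hcol
  -- (iv) the element of the Z-closure
  have hxV : x ∈ X.basicOpen g := mem_basicOpen_of_notMem_prime hW hxW hgp
  have hle : TV T (X.basicOpen g) ≤ X.basicOpen g ⊓ T.U := by
    refine le_inf (TV_le T _) ?_
    rw [TV_eq]
    exact inf_le_left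
  let t' : Γ((ZClos.resPush T.U).obj F, X.basicOpen g) := res F hle t
  have key : rX (X.basicOpen_le g) a₀ • t' =
      (show Γ((ZClos.resPush T.U).obj F, X.basicOpen g) from
        res F ((TV_le T (X.basicOpen g)).trans (X.basicOpen_le g)) s) := by
    rw [resPush_smul]
    show rX (TV_le T (X.basicOpen g)) (rX (X.basicOpen_le g) a₀) • res F hle t = _
    rw [rX_rX]
    have h1 := congrArg (res F hle) ht
    rw [res_smul, rX_rX, res_res] at h1
    exact h1
  obtain ⟨m₀, hm₀⟩ := hcl.2 (((ZClos.H0 Z).obj F).presheaf.germ (X.basicOpen g) x hxV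
    ((ιH Z F T).app (X.basicOpen g) t'))
  refine ⟨m₀, ?_⟩
  apply hcl.1
  have hlin : ZClos.rhoStalk Z F x (X.presheaf.germ W x hxW a₀ • m₀) =
      X.presheaf.germ W x hxW a₀ • ZClos.rhoStalk Z F x m₀ :=
    (RefHull.stalkMapₗ (ZClos.rhoApp Z F) x).map_smul _ m₀
  have ha' : X.presheaf.germ W x hxW a₀ =
      X.presheaf.germ (X.basicOpen g) x hxV (rX (X.basicOpen_le g) a₀) :=
    (TopCat.Presheaf.germ_res_apply X.presheaf (homOfLE (X.basicOpen_le g)) x hxV a₀).symm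
  rw [hlin, hm₀, rhoStalk_germ_eq F T (X.basicOpen_le g) x hxV s, ha', ← Mero.germ_smul,
    ← Scheme.Modules.Hom.app_smul, key]

end ZClosPtH8
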