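import Mathlib
import Groth.Prelude
import Groth.Agent.Lib.ZClosPt2_helper8

set_option autoImplicit false
universe u

open CategoryTheory CategoryTheory.Limits AlgebraicGeometry TopologicalSpace Opposite
open ZClosH8 HartConvH8 SecOrdH8 RefBasisH8 HomLinH8
open scoped Pointwise

/-! Pointwise Z-purity / Z-closedness and depth (both directions). -/

namespace ZClosPtH8

variable {X : Scheme.{u}} {Z : Set X}

theorem isZClosedAt_of_isZClosed (G : X.Modules) (h : ZClos.IsZClosed Z G) (x : X) :
    ZClos.IsZClosedAt Z G x := by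
  haveI : IsIso (ZClos.rhoApp Z G) := h
  haveI : IsIso (ZClos.rhoApp Z G).mapPresheaf := by
    show IsIso ((Scheme.Modules.toPresheaf X).map (ZClos.rhoApp Z G))
    infer_instance
  have h2 : IsIso ((TopCat.Presheaf.stalkFunctor (C := Ab.{u}) x).map
      (ZClos.rhoApp Z G).mapPresheaf) := Functor.map_isIso _ _
  exact (ConcreteCategory.isIso_iff_bijective _).1 h2

theorem stalkMap_injective_of_specializes {A B : X.Modules} [A.IsQuasicoherent]
    [B.IsQuasicoherent] (φ : A ⟶ B) {x y : X} (h : y ⤳ x)
    (hx : Function.Injective (RefHull.stalkMapₗ φ x)) :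
    Function.Injective (RefHull.stalkMapₗ φ y) := by
  rw [injective_iff_map_eq_zero]
  intro z hz
  obtain ⟨a, s, hs, hsa⟩ := exists_smul_eq_stalkSpecializes A h z
  have h1 : B.presheaf.stalkSpecializes h (RefHull.stalkMapₗ φ x a) = 0 := by
    rw [stalkSpecializes_stalkMap, ← hsa, map_smul, hz, smul_zero]
  obtain ⟨s', hs', hs'a⟩ := exists_smul_eq_zero_of_stalkSpecializes B h _ h1
  rw [← map_smul] at hs'a
  have h2 : s' • a = 0 := hx (hs'a.trans (map_zero _).symm)
  have h3 := congrArg (A.presheaf.stalkSpecializes h) h2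
  rw [stalkSpecializes_smul, map_zero] at h3
  have h4 : A.presheaf.stalkSpecializes h a = 0 := by
    obtain ⟨u, hu⟩ := hs'
    rw [← hu] at h3
    have := congrArg (fun w => (↑u⁻¹ : X.presheaf.stalk y) • w) h3
    simpa [smul_smul] using this
  rw [h4] at hsa
  obtain ⟨u, hu⟩ := hs
  rw [← hu] at hsa
  have := congrArg (fun w => (↑u⁻¹ : X.presheaf.stalk y) • w) hsa
  simpa [smul_smul] using this

variable [IsLocallyNoetherian X] (F : X.Modules) [F.IsQuasicoherent]

theorem isZPureAt_of_specializes {x y : X} (h : y ⤳ x) (hx : ZClos.IsZPureAt Z F x) :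
    ZClos.IsZPureAt Z F y := by
  haveI := isQuasicoherent_H0 Z F
  exact stalkMap_injective_of_specializes (ZClos.rhoApp Z F) h hx

theorem isZClosedAt_of_specializes {x y : X} (h : y ⤳ x) (hx : ZClos.IsZClosedAt Z F x) :
    ZClos.IsZClosedAt Z F y := by
  haveI := isQuasicoherent_H0 Z F
  exact stalkMap_bijective_of_specializes (ZClos.rhoApp Z F) h hx

/-- L8: at a point of `Z` where `F` (coherent) is Z-pure, the depth of the stalk is at least 1. -/
theorem one_le_depth_of_isZPureAt (hZ : StableUnderSpecialization Z)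
    [SheafOfModules.IsFiniteType (R := X.ringCatSheaf) F] (x : X) (hx : x ∈ Z)
    (hpure : ZClos.IsZPureAt Z F x) :
    (1 : ℕ∞) ≤ LocCoh.depth (X.presheaf.stalk x) (F.presheaf.stalk x) := by
  haveI : Module.Finite (X.presheaf.stalk x) (F.presheaf.stalk x) := FLFH8.finite_stalk F x
  unfold LocCoh.depth
  by_contra hcon
  obtain ⟨q, hq, haq⟩ := Groth.Agent.DepthLib.exists_associatedPrime_of_not_one_le _ _ hcon
  obtain ⟨hqprime, m₀, hm₀⟩ := isAssociatedPrime_iff.1 hq
  have hmem : ∀ c, c ∈ q ↔ c • m₀ = 0 := by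
    intro c
    rw [hm₀, Submodule.mem_colon_singleton, Submodule.mem_bot]
  have h0 : m₀ = 0 := by
    apply hpure
    rw [rhoStalk_eq_zero_of_smul F hZ x hx m₀ (fun r hr => (hmem r).1 (haq hr))]
    exact (map_zero (ZClos.rhoStalk Z F x).hom).symm
  apply hqprime.ne_top
  rw [Ideal.eq_top_iff_one, hmem, h0, smul_zero]

omit [IsLocallyNoetherian X] in
/-- The maximal ideal of a generization kills the specialization of an element whose annihilator
is the corresponding prime. -/
theorem maximalIdeal_smul_spec_eq_zero {x x' : X} (hspec : x' ⤳ x) (G : X.Modules)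
    (N : Submodule (X.presheaf.stalk x') (G.presheaf.stalk x')) (b : G.presheaf.stalk x)
    (hb : ∀ r ∈ Groth.Agent.StalkGen.genPrime hspec,
      X.presheaf.stalkSpecializes hspec r • G.presheaf.stalkSpecializes hspec b ∈ N) :
    ∀ r' ∈ IsLocalRing.maximalIdeal (X.presheaf.stalk x'),
      r' • G.presheaf.stalkSpecializes hspec b ∈ N := by
  intro r' hr'
  rw [← Groth.Agent.StalkGen.map_genPrime hspec] at hr'
  have hle : (Groth.Agent.StalkGen.genPrime hspec).map (X.presheaf.stalkSpecializes hspec).hom ≤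
      N.colon {G.presheaf.stalkSpecializes hspec b} := by
    rw [Ideal.map_le_iff_le_comap]
    intro r hr
    rw [Ideal.mem_comap, Submodule.mem_colon_singleton]
    exact hb r hr
  exact Submodule.mem_colon_singleton.1 (hle hr')


/-- Nakayama for stalks. -/
theorem eq_zero_of_smul_top_eq_top {R : Type u} [CommRing R] [IsLocalRing R] {M : Type u}
    [AddCommGroup M] [Module R M] [Module.Finite R M]
    (htop : IsLocalRing.maximalIdeal R • (⊤ : Submodule R M) = ⊤) (m : M) : m = 0 := by
  have h := Submodule.eq_bot_of_le_smul_of_le_jacobson_bot (IsLocalRing.maximalIdeal R)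
    (⊤ : Submodule R M) Module.Finite.fg_top (by rw [htop])
    (IsLocalRing.maximalIdeal_le_jacobson _)
  have h1 : m ∈ (⊤ : Submodule R M) := Submodule.mem_top
  rw [h] at h1
  exact (Submodule.mem_bot _).1 h1

/-- S5855 (⇐): depth at least 1 at the generizations of `x` lying in `Z` implies Z-purity at
`x`. -/
theorem isZPureAt_of_depth [SheafOfModules.IsFiniteType (R := X.ringCatSheaf) F] (x : X)
    (hdep : ∀ x' : X, x' ⤳ x → x' ∈ Z →
      (1 : ℕ∞) ≤ LocCoh.depth (X.presheaf.stalk x') (F.presheaf.stalk x')) :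
    ZClos.IsZPureAt Z F x := by
  haveI := isQuasicoherent_H0 Z F
  set ρ := RefHull.stalkMapₗ (ZClos.rhoApp Z F) x with hρ
  have hinj : Function.Injective ρ := by
    rw [← LinearMap.ker_eq_bot]
    by_contra hker
    haveI : Nontrivial (LinearMap.ker ρ) := Submodule.nontrivial_iff_ne_bot.2 hker
    obtain ⟨P, hP⟩ := associatedPrimes.nonempty (X.presheaf.stalk x) (LinearMap.ker ρ)
    obtain ⟨hPprime, ⟨b, hbker⟩, hb⟩ := isAssociatedPrime_iff.1 hP
    have hmem : ∀ c, c ∈ P ↔ c • b = 0 := by
      intro c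
      rw [hb, Submodule.mem_colon_singleton, Submodule.mem_bot]
      exact ⟨fun h => congrArg Subtype.val h, fun h => Subtype.ext h⟩
    haveI := hPprime
    obtain ⟨x', hspec, hPx'⟩ := Groth.Agent.StalkGen.exists_genPrime_eq x P
    have hb'ne : F.presheaf.stalkSpecializes hspec b ≠ 0 := by
      intro h0
      obtain ⟨s, hs, hsb⟩ := exists_smul_eq_zero_of_stalkSpecializes F hspec b h0
      have hsP : s ∈ Groth.Agent.StalkGen.genPrime hspec := hPx' ▸ (hmem s).2 hsb
      exact (IsLocalRing.mem_maximalIdeal _).1 hsP hs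
    have hkill : ∀ r' ∈ IsLocalRing.maximalIdeal (X.presheaf.stalk x'),
        r' • F.presheaf.stalkSpecializes hspec b = 0 := by
      intro r' hr'
      have := maximalIdeal_smul_spec_eq_zero hspec F ⊥ b (fun r hr => by
        rw [← stalkSpecializes_smul, (hmem r).1 (hPx' ▸ hr), map_zero]
        exact Submodule.zero_mem _) r' hr'
      exact (Submodule.mem_bot _).1 this
    have hρb' : RefHull.stalkMapₗ (ZClos.rhoApp Z F) x' (F.presheaf.stalkSpecializes hspec b) =
        0 := by
      rw [← stalkSpecializes_stalkMap, LinearMap.mem_ker.1 hbker, map_zero]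
    by_cases hx'Z : x' ∈ Z
    · have hd := hdep x' hspec hx'Z
      haveI : Module.Finite (X.presheaf.stalk x') (F.presheaf.stalk x') :=
        FLFH8.finite_stalk F x'
      unfold LocCoh.depth at hd
      rcases (Groth.Agent.DepthLib.one_le_idealDepth_iff _ _).1 hd with htop | ⟨r, hr, hreg⟩
      · exact hb'ne (eq_zero_of_smul_top_eq_top htop _)
      · apply hb'ne
        apply hreg
        show r • F.presheaf.stalkSpecializes hspec b = r • 0
        rw [hkill r hr, smul_zero]
    · apply hb'ne
      apply (isZClosedAt_of_not_mem Z F x' hx'Z).1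
      exact hρb'.trans (map_zero (ZClos.rhoStalk Z F x').hom).symm
  exact hinj

end ZClosPtH8
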