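import Mathlib
import Groth.Prelude
import Groth.Agent.Lib.ZClosPt3_helper8

set_option autoImplicit false
universe u

open CategoryTheory CategoryTheory.Limits AlgebraicGeometry TopologicalSpace Opposite
open ZClosH8 HartConvH8 SecOrdH8 RefBasisH8 HomLinH8
open scoped Pointwise

/-! Depth at least 2 at the generizations in `Z` implies pointwise Z-closedness. -/

namespace ZClosPtH8

variable {X : Scheme.{u}} {Z : Set X} [IsLocallyNoetherian X] (F : X.Modules) [F.IsQuasicoherent]

/-- An element of the stalk of the Z-closure at a point of `Z` killed by the maximal ideal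
vanishes. -/
theorem eq_zero_of_smul_H0 (hZ : StableUnderSpecialization Z) (x' : X) (hx' : x' ∈ Z)
    (δ : ((ZClos.H0 Z).obj F).presheaf.stalk x')
    (hδ : ∀ r ∈ IsLocalRing.maximalIdeal (X.presheaf.stalk x'), r • δ = 0) : δ = 0 := by
  haveI := isQuasicoherent_H0 Z F
  have h1 := rhoStalk_eq_zero_of_smul ((ZClos.H0 Z).obj F) hZ x' hx' δ hδ
  exact (isZClosedAt_of_isZClosed _ (isZClosed_H0 Z F) x').1
    (h1.trans (map_zero (ZClos.rhoStalk Z ((ZClos.H0 Z).obj F) x').hom).symm)

/-- S5856 (⇐): depth at least 2 at the generizations of `x` lying in `Z` implies Z-closedness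
at `x`. -/
theorem isZClosedAt_of_depth (hZ : StableUnderSpecialization Z)
    [SheafOfModules.IsFiniteType (R := X.ringCatSheaf) F] (x : X)
    (hdep : ∀ x' : X, x' ⤳ x → x' ∈ Z →
      (2 : ℕ∞) ≤ LocCoh.depth (X.presheaf.stalk x') (F.presheaf.stalk x')) :
    ZClos.IsZClosedAt Z F x := by
  haveI := isQuasicoherent_H0 Z F
  have hone : ∀ x' : X, x' ⤳ x → x' ∈ Z →
      (1 : ℕ∞) ≤ LocCoh.depth (X.presheaf.stalk x') (F.presheaf.stalk x') :=
    fun x' h hz => le_trans (by norm_num) (hdep x' h hz)
  have hpure : ∀ x' : X, x' ⤳ x → ZClos.IsZPureAt Z F x' :=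
    fun x' h => isZPureAt_of_depth F x' (fun x'' h' hz => hone x'' (h'.trans h) hz)
  refine ⟨hpure x specializes_rfl, ?_⟩
  set G := (ZClos.H0 Z).obj F with hG
  set ρ := RefHull.stalkMapₗ (ZClos.rhoApp Z F) x with hρ
  have hsurj : Function.Surjective ρ := by
    rw [← LinearMap.range_eq_top]
    by_contra hrange
    haveI : Nontrivial (G.presheaf.stalk x ⧸ LinearMap.range ρ) :=
      Submodule.Quotient.nontrivial_iff.2 hrange
    obtain ⟨P, hP⟩ := associatedPrimes.nonempty (X.presheaf.stalk x)
      (G.presheaf.stalk x ⧸ LinearMap.range ρ)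
    obtain ⟨hPprime, γb, hγb⟩ := isAssociatedPrime_iff.1 hP
    obtain ⟨γ, rfl⟩ := Submodule.Quotient.mk_surjective _ γb
    have hmem : ∀ c, c ∈ P ↔ c • γ ∈ LinearMap.range ρ := by
      intro c
      rw [hγb, Submodule.mem_colon_singleton, Submodule.mem_bot, ← Submodule.Quotient.mk_smul,
        Submodule.Quotient.mk_eq_zero]
    haveI := hPprime
    obtain ⟨x', hspec, hPx'⟩ := Groth.Agent.StalkGen.exists_genPrime_eq x P
    set ρ' := RefHull.stalkMapₗ (ZClos.rhoApp Z F) x' with hρ'
    -- Claim 1
    have hγ'notin : G.presheaf.stalkSpecializes hspec γ ∉ LinearMap.range ρ' := by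
      rintro ⟨m', hm'⟩
      obtain ⟨a, s, hs, hsa⟩ := exists_smul_eq_stalkSpecializes F hspec m'
      have h1 : G.presheaf.stalkSpecializes hspec (s • γ - ρ a) = 0 := by
        rw [map_sub, stalkSpecializes_smul, stalkSpecializes_stalkMap, ← hsa, map_smul, hm',
          sub_self]
      obtain ⟨s', hs', hs'z⟩ := exists_smul_eq_zero_of_stalkSpecializes G hspec _ h1
      rw [smul_sub, sub_eq_zero, smul_smul, ← map_smul] at hs'z
      have h2 : s' * s ∈ Groth.Agent.StalkGen.genPrime hspec :=
        hPx' ▸ (hmem _).2 ⟨s' • a, hs'z.symm⟩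
      have h3 : IsUnit (X.presheaf.stalkSpecializes hspec (s' * s)) := by
        rw [map_mul]
        exact hs'.mul hs
      exact (IsLocalRing.mem_maximalIdeal _).1 h2 h3
    -- Claim 2
    have hcolon : ∀ r' ∈ IsLocalRing.maximalIdeal (X.presheaf.stalk x'),
        r' • G.presheaf.stalkSpecializes hspec γ ∈ LinearMap.range ρ' := by
      refine maximalIdeal_smul_spec_eq_zero hspec G (LinearMap.range ρ') γ (fun r hr => ?_)
      obtain ⟨m_r, hm_r⟩ := (hmem r).1 (hPx' ▸ hr)
      refine ⟨F.presheaf.stalkSpecializes hspec m_r, ?_⟩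
      rw [← stalkSpecializes_stalkMap, hm_r, stalkSpecializes_smul]
    by_cases hx'Z : x' ∈ Z
    swap
    · exact hγ'notin (LinearMap.mem_range.2 ((isZClosedAt_of_not_mem Z F x' hx'Z).2 _))
    have hinj' : Function.Injective ρ' := hpure x' hspec
    haveI : Module.Finite (X.presheaf.stalk x') (F.presheaf.stalk x') := FLFH8.finite_stalk F x'
    have hd := hdep x' hspec hx'Z
    unfold LocCoh.depth at hd
    have hex : ∃ m₀ : F.presheaf.stalk x',
        ∀ r ∈ IsLocalRing.maximalIdeal (X.presheaf.stalk x'),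
          r • (G.presheaf.stalkSpecializes hspec γ - ρ' m₀) = 0 := by
      rcases (Groth.Agent.DepthLib.le_idealDepth_iff _ _ 2).1 (by exact_mod_cast hd) with
        htop | ⟨rs, hreg, hrs, hlen⟩
      · refine ⟨0, fun r hr => ?_⟩
        rw [map_zero, sub_zero]
        obtain ⟨n, hn⟩ := hcolon r hr
        rw [← hn, eq_zero_of_smul_top_eq_top htop n, map_zero]
      · match rs, hlen with
        | [a, b], _ =>
          rw [RingTheory.Sequence.isWeaklyRegular_cons_iff] at hreg
          obtain ⟨hareg, hreg2⟩ := hreg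
          rw [RingTheory.Sequence.isWeaklyRegular_cons_iff] at hreg2
          obtain ⟨hbreg, -⟩ := hreg2
          have ha : a ∈ IsLocalRing.maximalIdeal (X.presheaf.stalk x') := hrs a (by simp)
          have hb : b ∈ IsLocalRing.maximalIdeal (X.presheaf.stalk x') := hrs b (by simp)
          obtain ⟨ma, hma⟩ := hcolon a ha
          obtain ⟨mb, hmb⟩ := hcolon b hb
          have h1 : b • ma = a • mb := by
            apply hinj'
            rw [map_smul, map_smul, hma, hmb, smul_comm]
          have h2 : b • (Submodule.Quotient.mk ma : QuotSMulTop a (F.presheaf.stalk x')) =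
              b • 0 := by
            rw [smul_zero, ← Submodule.Quotient.mk_smul, h1, Submodule.Quotient.mk_eq_zero]
            exact Submodule.smul_mem_pointwise_smul mb a ⊤ Submodule.mem_top
          have h3 := hbreg h2
          rw [Submodule.Quotient.mk_eq_zero] at h3
          obtain ⟨m₀, -, hm₀⟩ := (Submodule.mem_smul_pointwise_iff_exists _ _ _).1 h3
          refine ⟨m₀, fun r hr => ?_⟩
          have haδ : a • (G.presheaf.stalkSpecializes hspec γ - ρ' m₀) = 0 := by
            rw [smul_sub, ← hma, ← hm₀, map_smul, sub_self]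
          obtain ⟨nr, hnr⟩ := hcolon r hr
          have h4 : ρ' (nr - r • m₀) = r • (G.presheaf.stalkSpecializes hspec γ - ρ' m₀) := by
            rw [map_sub, map_smul, hnr, smul_sub]
          have h5 : a • (nr - r • m₀) = 0 := by
            apply hinj'
            rw [map_smul, h4, smul_comm, haδ, smul_zero, map_zero]
          have h6 : nr - r • m₀ = 0 := by
            apply hareg
            show a • (nr - r • m₀) = a • 0
            rw [h5, smul_zero]
          rw [← h4, h6, map_zero]
    obtain ⟨m₀, hm₀⟩ := hex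
    have hδ := eq_zero_of_smul_H0 F hZ x' hx'Z _ hm₀
    exact hγ'notin ⟨m₀, (sub_eq_zero.1 hδ).symm⟩
  exact hsurj

end ZClosPtH8
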