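import Mathlib
import Groth.Prelude
import Groth.Agent.Lib.ZClosPt4_helper8

set_option autoImplicit false
universe u

open CategoryTheory CategoryTheory.Limits AlgebraicGeometry TopologicalSpace Opposite
open ZClosH8 HartConvH8 SecOrdH8 RefBasisH8 HomLinH8
open scoped Pointwise

/-! The locus where a coherent module is Z-closed. -/

namespace ZClosPtH8

variable {X : Scheme.{u}}

/-- A morphism of sheaves of modules bijective on the stalks at the points of an open `O` is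
bijective on the sections over `O`. -/
theorem app_bijective_of_stalk_bijective {A B : X.Modules} (w : A ⟶ B) (O : X.Opens)
    (h : ∀ x ∈ O, Function.Bijective
      ((TopCat.Presheaf.stalkFunctor (C := Ab.{u}) x).map w.mapPresheaf)) :
    Function.Bijective (w.app O) := by
  have := TopCat.Presheaf.app_bijective_of_stalkFunctor_map_bijective (C := Ab.{u})
    (F := ⟨A.presheaf, A.isSheaf⟩) (G := ⟨B.presheaf, B.isSheaf⟩) ⟨w.mapPresheaf⟩ O h
  exact this

/-- The map on sections as a linear map. -/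
noncomputable def appLin {F G : X.Modules} (φ : F ⟶ G) (U : X.Opens) :
    Γ(F, U) →ₗ[Γ(X, U)] Γ(G, U) where
  toFun := φ.app U
  map_add' := map_add _
  map_smul' r x := Scheme.Modules.Hom.app_smul φ r x

/-- The locus where a morphism of coherent modules on a locally Noetherian scheme is bijective
on stalks is open. -/
theorem isOpen_bijective_locus [IsLocallyNoetherian X] {A B : X.Modules} [A.IsQuasicoherent]
    [B.IsQuasicoherent] [SheafOfModules.IsFiniteType (R := X.ringCatSheaf) A]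
    [SheafOfModules.IsFiniteType (R := X.ringCatSheaf) B] (φ : A ⟶ B) :
    IsOpen {x : X | Function.Bijective (RefHull.stalkMapₗ φ x)} := by
  rw [isOpen_iff_forall_mem_open]
  intro x hx
  obtain ⟨_, ⟨W, hW, rfl⟩, hxW, -⟩ :=
    X.isBasis_affineOpens.exists_subset_of_mem_open (Set.mem_univ x) isOpen_univ
  have hW : IsAffineOpen W := hW
  have hxW : x ∈ W := hxW
  haveI : IsNoetherianRing Γ(X, W) := IsLocallyNoetherian.component_noetherian ⟨W, hW⟩
  haveI : Module.Finite Γ(X, W) Γ(A, W) := QCohFT.finite_of_isFiniteType A hW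
  haveI : Module.Finite Γ(X, W) Γ(B, W) := QCohFT.finite_of_isFiniteType B hW
  set p := (hW.primeIdealOf ⟨x, hxW⟩).asIdeal with hp
  haveI hpp : p.IsPrime := (hW.primeIdealOf ⟨x, hxW⟩).isPrime
  let φW : Γ(A, W) →ₗ[Γ(X, W)] Γ(B, W) := appLin φ W
  have hφW : ∀ s, φW s = φ.app W s := fun _ => rfl
  -- kernel
  obtain ⟨g₁, hg₁p, hg₁⟩ : ∃ g₁, g₁ ∉ p ∧ ∀ k : Γ(A, W), φ.app W k = 0 → g₁ • k = 0 := by
    have hK : ∀ k : LinearMap.ker φW, ∃ r, r ∉ p ∧ r • k = 0 := by
      rintro ⟨k, hk⟩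
      have hk' : φ.app W k = 0 := hk
      have h0 : A.presheaf.germ W x hxW k = 0 := by
        apply hx.1
        rw [RefHull.stalkMapₗ_germ, hk', map_zero, map_zero]
      obtain ⟨r, hr, hrk⟩ := exists_smul_eq_zero_of_germ_eq_zero A hW hxW k h0
      exact ⟨r, hr, Subtype.ext hrk⟩
    obtain ⟨g, hgp, hg⟩ := exists_notMem_forall_smul_eq_zero p (LinearMap.ker φW) hK
    exact ⟨g, hgp, fun k hk => congrArg Subtype.val (hg ⟨k, hk⟩)⟩
  -- cokernel
  obtain ⟨g₂, hg₂p, hg₂⟩ : ∃ g₂, g₂ ∉ p ∧ ∀ n : Γ(B, W), ∃ m : Γ(A, W), g₂ • n = φ.app W m := by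
    have hC : ∀ c : Γ(B, W) ⧸ LinearMap.range φW, ∃ r, r ∉ p ∧ r • c = 0 := by
      intro c
      obtain ⟨n, rfl⟩ := Submodule.Quotient.mk_surjective _ c
      obtain ⟨b, hb⟩ := hx.2 (B.presheaf.germ W x hxW n)
      letI := StalkLocH8.modSec A hxW
      haveI := StalkLocH8.isLocalizedModule_germLin A hW hxW
      obtain ⟨⟨m, u⟩, hmu⟩ := IsLocalizedModule.surj p.primeCompl (StalkLocH8.germLin A hxW) b
      have hmu' : X.presheaf.germ W x hxW (u : Γ(X, W)) • b = A.presheaf.germ W x hxW m := hmu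
      have h0 : B.presheaf.germ W x hxW ((u : Γ(X, W)) • n - φ.app W m) = 0 := by
        rw [map_sub, Mero.germ_smul, ← hb, ← map_smul, hmu', RefHull.stalkMapₗ_germ, sub_self]
      obtain ⟨v, hv, hvz⟩ := exists_smul_eq_zero_of_germ_eq_zero B hW hxW _ h0
      rw [smul_sub, sub_eq_zero] at hvz
      refine ⟨v * u, fun h => (hpp.mem_or_mem h).elim hv u.2, ?_⟩
      rw [← Submodule.Quotient.mk_smul, Submodule.Quotient.mk_eq_zero, mul_smul, hvz]
      exact ⟨v • m, Scheme.Modules.Hom.app_smul φ v m⟩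
    obtain ⟨g, hgp, hg⟩ := exists_notMem_forall_smul_eq_zero p _ hC
    refine ⟨g, hgp, fun n => ?_⟩
    have h1 := hg (Submodule.Quotient.mk n)
    rw [← Submodule.Quotient.mk_smul, Submodule.Quotient.mk_eq_zero] at h1
    obtain ⟨m, hm⟩ := h1
    exact ⟨m, hm.symm⟩
  refine ⟨X.basicOpen (g₁ * g₂), ?_, (X.basicOpen _).isOpen,
    mem_basicOpen_of_notMem_prime hW hxW (fun h => (hpp.mem_or_mem h).elim hg₁p hg₂p)⟩
  intro y hy
  have hyW : y ∈ W := X.basicOpen_le _ hy
  set py := (hW.primeIdealOf ⟨y, hyW⟩).asIdeal with hpy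
  have hgy : g₁ * g₂ ∉ py := StalkLocH8.notMem_prime_of_mem_basicOpen hW hyW hy
  have hg₁y : g₁ ∉ py := fun h => hgy (py.mul_mem_right _ h)
  have hg₂y : g₂ ∉ py := fun h => hgy (py.mul_mem_left _ h)
  constructor
  · rw [injective_iff_map_eq_zero]
    intro b hb
    letI := StalkLocH8.modSec A hyW
    haveI := StalkLocH8.isLocalizedModule_germLin A hW hyW
    obtain ⟨⟨m, u⟩, hmu⟩ := IsLocalizedModule.surj py.primeCompl (StalkLocH8.germLin A hyW) b
    have hmu' : X.presheaf.germ W y hyW (u : Γ(X, W)) • b = A.presheaf.germ W y hyW m := hmu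
    have h0 : B.presheaf.germ W y hyW (φ.app W m) = 0 := by
      rw [← RefHull.stalkMapₗ_germ, ← hmu', map_smul, hb, smul_zero]
    obtain ⟨v, hv, hvz⟩ := exists_smul_eq_zero_of_germ_eq_zero B hW hyW _ h0
    have h1 : g₁ • v • m = 0 := hg₁ _ (by rw [Scheme.Modules.Hom.app_smul, hvz])
    have u1 : IsUnit (X.presheaf.germ W y hyW g₁) := isUnit_germ_of_primeCompl hW hyW ⟨g₁, hg₁y⟩
    have u2 : IsUnit (X.presheaf.germ W y hyW v) := isUnit_germ_of_primeCompl hW hyW ⟨v, hv⟩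
    have u3 : IsUnit (X.presheaf.germ W y hyW (u : Γ(X, W))) :=
      isUnit_germ_of_primeCompl hW hyW u
    have h2 : A.presheaf.germ W y hyW m = 0 := by
      have h3 := congrArg (A.presheaf.germ W y hyW) h1
      rw [Mero.germ_smul, Mero.germ_smul, map_zero] at h3
      exact (u2.smul_eq_zero).1 ((u1.smul_eq_zero).1 h3)
    rw [h2] at hmu'
    exact (u3.smul_eq_zero).1 hmu'
  · intro c
    letI := StalkLocH8.modSec B hyW
    haveI := StalkLocH8.isLocalizedModule_germLin B hW hyW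
    obtain ⟨⟨n, u⟩, hnu⟩ := IsLocalizedModule.surj py.primeCompl (StalkLocH8.germLin B hyW) c
    have hnu' : X.presheaf.germ W y hyW (u : Γ(X, W)) • c = B.presheaf.germ W y hyW n := hnu
    obtain ⟨m, hm⟩ := hg₂ n
    obtain ⟨w2, hw2⟩ := isUnit_germ_of_primeCompl hW hyW ⟨g₂, hg₂y⟩
    obtain ⟨w3, hw3⟩ := isUnit_germ_of_primeCompl hW hyW u
    refine ⟨(↑(w3⁻¹ * w2⁻¹) : X.presheaf.stalk y) • A.presheaf.germ W y hyW m, ?_⟩
    have hw2' : (w2 : X.presheaf.stalk y) = X.presheaf.germ W y hyW g₂ := hw2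
    rw [map_smul, RefHull.stalkMapₗ_germ, ← hm, Mero.germ_smul, ← hnu', ← hw2', ← hw3, smul_smul,
      smul_smul, ← Units.val_mul, ← Units.val_mul]
    have : w3⁻¹ * w2⁻¹ * w2 * w3 = 1 := by
      rw [mul_assoc w3⁻¹, inv_mul_cancel, mul_one, inv_mul_cancel]
    rw [this, Units.val_one, one_smul]


section Restrict

variable [IsLocallyNoetherian X] {Z : Set X} (F : X.Modules)

theorem isZClosed_restrict_of_forall (V : X.Opens) (hZ : StableUnderSpecialization Z)
    (hall : ∀ (T : ZClos.Cl Z) (O : X.Opens), O ≤ V →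
      Function.Bijective (res F (inf_le_left : O ⊓ T.U ≤ O))) :
    ZClos.IsZClosed (V.ι.base ⁻¹' Z) ((Scheme.Modules.restrictFunctor V.ι).obj F) := by
  rw [isZClosed_iff_compact]
  intro T' O' hO'
  obtain ⟨hO, T, hle⟩ := exists_Cl_of_restrict Z V hZ T' O' hO'
  have hV1 : V.ι ''ᵁ O' ≤ V := V.ι_image_le O'
  have hV2 : V.ι ''ᵁ (O' ⊓ T'.U) ≤ V := V.ι_image_le _
  have key : Function.Bijective (res F (V.ι.image_mono (inf_le_left : O' ⊓ T'.U ≤ O'))) := by
    constructor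
    · intro a b hab
      apply (hall T (V.ι ''ᵁ O') hV1).1
      have := congrArg (res F hle) hab
      rw [res_res, res_res] at this
      exact this
    · intro t
      obtain ⟨s, hs⟩ := (hall T (V.ι ''ᵁ O') hV1).2 (res F hle t)
      refine ⟨s, ?_⟩
      apply (hall T (V.ι ''ᵁ (O' ⊓ T'.U)) hV2).1
      have hle2 : V.ι ''ᵁ (O' ⊓ T'.U) ⊓ T.U ≤ V.ι ''ᵁ O' ⊓ T.U :=
        inf_le_inf_right _ (V.ι.image_mono inf_le_left)
      rw [res_res]
      have h1 : res F ((inf_le_left : V.ι ''ᵁ (O' ⊓ T'.U) ⊓ T.U ≤ _).trans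
          (V.ι.image_mono (inf_le_left : O' ⊓ T'.U ≤ O'))) s =
          res F hle2 (res F (inf_le_left : V.ι ''ᵁ O' ⊓ T.U ≤ V.ι ''ᵁ O') s) :=
        (res_res F _ _ _).symm
      rw [h1, hs, res_res]
  show Function.Bijective
    (res ((Scheme.Modules.restrictFunctor V.ι).obj F) (inf_le_left : O' ⊓ T'.U ≤ O'))
  rw [res_restrict]
  exact key

/-- S5859. -/
theorem closed_locus (hZ : StableUnderSpecialization Z) (hF : Coh.IsCoh F)
    (hH : Coh.IsCoh ((ZClos.H0 Z).obj F)) :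
    ∃ U : X.Opens, (U : Set X) = {x | ∀ x' : X, x' ⤳ x → x' ∈ Z →
        (2 : ℕ∞) ≤ LocCoh.depth (X.presheaf.stalk x') (F.presheaf.stalk x')} ∧
      (U : Set X)ᶜ ⊆ Z ∧
      ZClos.IsZClosed (U.ι.base ⁻¹' Z) ((Scheme.Modules.restrictFunctor U.ι).obj F) ∧
      ∀ V : X.Opens, ZClos.IsZClosed (V.ι.base ⁻¹' Z)
        ((Scheme.Modules.restrictFunctor V.ι).obj F) → V ≤ U := by
  haveI : F.IsQuasicoherent := hF.1
  haveI : SheafOfModules.IsFiniteType (R := X.ringCatSheaf) F := hF.2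
  haveI : ((ZClos.H0 Z).obj F).IsQuasicoherent := hH.1
  haveI : SheafOfModules.IsFiniteType (R := X.ringCatSheaf) ((ZClos.H0 Z).obj F) := hH.2
  have hset : {x | ∀ x' : X, x' ⤳ x → x' ∈ Z →
        (2 : ℕ∞) ≤ LocCoh.depth (X.presheaf.stalk x') (F.presheaf.stalk x')} =
      {x : X | Function.Bijective (RefHull.stalkMapₗ (ZClos.rhoApp Z F) x)} := by
    ext x
    exact ⟨fun h => isZClosedAt_of_depth F hZ x h, fun h x' hspec hx' =>
      two_le_depth_of_isZClosedAt F hZ x' hx' (isZClosedAt_of_specializes F hspec h)⟩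
  have hopen := isOpen_bijective_locus (ZClos.rhoApp Z F)
  let U : X.Opens := ⟨_, hopen⟩
  have hU : ∀ x, x ∈ U ↔ ZClos.IsZClosedAt Z F x := fun x => Iff.rfl
  refine ⟨U, hset.symm, ?_, ?_, ?_⟩
  · intro x hx
    by_contra hxZ
    exact hx (isZClosedAt_of_not_mem Z F x hxZ)
  · refine isZClosed_restrict_of_forall F U hZ (fun T O hO => ?_)
    have hG := (isZClosed_iff_all Z ((ZClos.H0 Z).obj F)).1 (isZClosed_H0 Z F) T O
    have hρ1 := app_bijective_of_stalk_bijective (ZClos.rhoApp Z F) O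
      (fun x hx => (hU x).1 (hO hx))
    have hρ2 := app_bijective_of_stalk_bijective (ZClos.rhoApp Z F) (O ⊓ T.U)
      (fun x hx => (hU x).1 (hO hx.1))
    constructor
    · intro a b hab
      apply hρ1.1
      apply hG.1
      rw [← app_res, ← app_res, hab]
    · intro t
      obtain ⟨g', hg'⟩ := hG.2 ((ZClos.rhoApp Z F).app (O ⊓ T.U) t)
      obtain ⟨s, rfl⟩ := hρ1.2 g'
      refine ⟨s, ?_⟩
      apply hρ2.1
      rw [app_res, hg']
  · intro V hV x hxV
    rw [hU]
    apply isZClosedAt_of_depth F hZ x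
    intro x' hspec hx'Z
    have hx'V : x' ∈ V := hspec.mem_open V.isOpen hxV
    obtain ⟨_, ⟨W, hW, rfl⟩, hx'W, hWV⟩ :=
      X.isBasis_affineOpens.exists_subset_of_mem_open hx'V V.isOpen
    have hW : IsAffineOpen W := hW
    have hx'W : x' ∈ W := hx'W
    have hWV : W ≤ V := hWV
    haveI : IsNoetherianRing Γ(X, W) := IsLocallyNoetherian.component_noetherian ⟨W, hW⟩
    haveI : Module.Finite Γ(X, W) Γ(F, W) := QCohFT.finite_of_isFiniteType F hW
    set T := clPoint hZ x' hx'Z with hT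
    have hx'T : x' ∉ T.U := not_mem_clPoint_U hZ x' hx'Z
    have hbij := res_bijective_of_restrict_closed Z F V hV T W hWV
    have hIx : idealOf W T.U ≤ (hW.primeIdealOf ⟨x', hx'W⟩).asIdeal :=
      fun f hf => mem_prime_of_basicOpen_le hW hx'W hx'T hf
    exact two_le_depth_stalk F hW hx'W (idealOf W T.U) hIx
      (two_le_idealDepth F hW T.U hbij (idealOf W T.U) (fun f hf => hf))

end Restrict

end ZClosPtH8
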