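import Mathlib
import Groth.Prelude
import Groth.Agent.Lib.ZClosPt5_helper8

set_option autoImplicit false
universe u

open CategoryTheory CategoryTheory.Limits AlgebraicGeometry TopologicalSpace Opposite
open ZClosH8 HartConvH8 SecOrdH8 RefBasisH8 HomLinH8

/-! Serre's condition (S₂) and the Z^(2)-closure. -/

namespace ZClosS2H8

section Cast

theorem two_le_coe {c : ℕ∞} : (2 : WithBot ℕ∞) ≤ (c : WithBot ℕ∞) ↔ 2 ≤ c := by
  have : (2 : WithBot ℕ∞) = ((2 : ℕ∞) : WithBot ℕ∞) := rfl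
  rw [this, WithBot.coe_le_coe]

theorem coe_le_one {c : ℕ∞} : (c : WithBot ℕ∞) ≤ 1 ↔ c ≤ 1 := by
  have : (1 : WithBot ℕ∞) = ((1 : ℕ∞) : WithBot ℕ∞) := rfl
  rw [this, WithBot.coe_le_coe]

theorem one_le_coe {c : ℕ∞} : (1 : WithBot ℕ∞) ≤ (c : WithBot ℕ∞) ↔ 1 ≤ c := by
  have : (1 : WithBot ℕ∞) = ((1 : ℕ∞) : WithBot ℕ∞) := rfl
  rw [this, WithBot.coe_le_coe]

theorem coe_le_zero {c : ℕ∞} : (c : WithBot ℕ∞) ≤ 0 ↔ c ≤ 0 := by
  have : (0 : WithBot ℕ∞) = ((0 : ℕ∞) : WithBot ℕ∞) := rfl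
  rw [this, WithBot.coe_le_coe]

theorem zero_le_coe (c : ℕ∞) : (0 : WithBot ℕ∞) ≤ (c : WithBot ℕ∞) := by
  have : (0 : WithBot ℕ∞) = ((0 : ℕ∞) : WithBot ℕ∞) := rfl
  rw [this, WithBot.coe_le_coe]
  exact bot_le

theorem coe_eq_one {c : ℕ∞} : (c : WithBot ℕ∞) = 1 ↔ c = 1 := by
  have : (1 : WithBot ℕ∞) = ((1 : ℕ∞) : WithBot ℕ∞) := rfl
  rw [this, WithBot.coe_inj]

theorem le_one_of_not_two_le {c : ℕ∞} (h : ¬ 2 ≤ c) : c ≤ 1 := by
  cases c using ENat.recTopCoe with
  | top => exact absurd le_top h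
  | coe n =>
    have : ¬ 2 ≤ n := by exact_mod_cast h
    have : n ≤ 1 := by omega
    exact_mod_cast this

theorem le_zero_of_le_one_of_ne {c : ℕ∞} (h : c ≤ 1) (h' : c ≠ 1) : c ≤ 0 := by
  cases c using ENat.recTopCoe with
  | top => simp at h
  | coe n =>
    have h1 : n ≤ 1 := by exact_mod_cast h
    have h2 : n ≠ 1 := by
      intro hh
      apply h'
      rw [hh]
      rfl
    have : n ≤ 0 := by omega
    exact_mod_cast this

end Cast

variable {X : Scheme.{u}}

theorem stable_dimGe (X : Scheme.{u}) (n : ℕ) : StableUnderSpecialization (ZClos.dimGe X n) := by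
  intro x y h hx
  have hx' : (n : WithBot ℕ∞) ≤ ringKrullDim (X.presheaf.stalk x) := hx
  show (n : WithBot ℕ∞) ≤ ringKrullDim (X.presheaf.stalk y)
  rw [ringKrullDim_stalk_eq_coheight] at hx' ⊢
  refine hx'.trans ?_
  have : Order.coheight x ≤ Order.coheight y := Order.coheight_anti (show y ≤ x from h)
  exact WithBot.coe_le_coe.2 this

theorem dim_le_one_of_not_mem {x : X} (hx : x ∉ ZClos.dimGe X 2) :
    ringKrullDim (X.presheaf.stalk x) ≤ 1 := by
  have hx' : ¬ (2 : WithBot ℕ∞) ≤ ringKrullDim (X.presheaf.stalk x) := hx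
  rw [ringKrullDim_stalk_eq_coheight] at hx' ⊢
  rw [two_le_coe] at hx'
  exact coe_le_one.2 (le_one_of_not_two_le hx')

variable [IsLocallyNoetherian X] (F : X.Modules) [F.IsQuasicoherent]
  [SheafOfModules.IsFiniteType (R := X.ringCatSheaf) F]

/-- (S₂) at a point whose local ring has dimension at most one, for a module with no associated
point of local dimension one. -/
theorem S2_of_dim_le_one (hass : ∀ x ∈ AssSch.Ass F, ringKrullDim (X.presheaf.stalk x) ≠ 1)
    (x : X) (hd : ringKrullDim (X.presheaf.stalk x) ≤ 1) :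
    min (2 : WithBot ℕ∞) (Module.supportDim (X.presheaf.stalk x) (F.presheaf.stalk x)) ≤
      ((LocCoh.depth (X.presheaf.stalk x) (F.presheaf.stalk x) : ℕ∞) : WithBot ℕ∞) := by
  haveI : Module.Finite (X.presheaf.stalk x) (F.presheaf.stalk x) := FLFH8.finite_stalk F x
  have hsd : Module.supportDim (X.presheaf.stalk x) (F.presheaf.stalk x) ≤
      ringKrullDim (X.presheaf.stalk x) := Module.supportDim_le_ringKrullDim _ _
  refine (min_le_right _ _).trans ?_
  by_cases h1 : (1 : ℕ∞) ≤ LocCoh.depth (X.presheaf.stalk x) (F.presheaf.stalk x)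
  · exact hsd.trans (hd.trans (one_le_coe.2 h1))
  · unfold LocCoh.depth at h1
    obtain ⟨q, hq, hle⟩ := Groth.Agent.DepthLib.exists_associatedPrime_of_not_one_le _ _ h1
    have hqp : q.IsPrime := (isAssociatedPrime_iff.1 hq).1
    have hqm : q = IsLocalRing.maximalIdeal (X.presheaf.stalk x) :=
      ((IsLocalRing.maximalIdeal.isMaximal _).eq_of_le hqp.ne_top hle).symm
    have hx : x ∈ AssSch.Ass F := by
      show IsAssociatedPrime (IsLocalRing.maximalIdeal (X.presheaf.stalk x)) (F.presheaf.stalk x)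
      rw [← hqm]
      exact hq
    have hne := hass x hx
    have h0 : ringKrullDim (X.presheaf.stalk x) ≤ 0 := by
      rw [ringKrullDim_stalk_eq_coheight] at hd hne ⊢
      exact coe_le_zero.2 (le_zero_of_le_one_of_ne (coe_le_one.1 hd)
        (fun h => hne (coe_eq_one.2 h)))
    exact hsd.trans (h0.trans (zero_le_coe _))


omit [IsLocallyNoetherian X] [SheafOfModules.IsFiniteType (R := X.ringCatSheaf) F] in
/-- With full support, the support of each stalk is the whole spectrum of the local ring. -/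
theorem supportDim_stalk_eq (hsupp : ∀ x : X, Nontrivial (F.presheaf.stalk x)) (x : X) :
    Module.supportDim (X.presheaf.stalk x) (F.presheaf.stalk x) =
      ringKrullDim (X.presheaf.stalk x) := by
  have huniv : Module.support (X.presheaf.stalk x) (F.presheaf.stalk x) = Set.univ := by
    rw [Set.eq_univ_iff_forall]
    intro q
    rw [Module.mem_support_iff']
    haveI := q.isPrime
    obtain ⟨x'', hspec, hq⟩ := Groth.Agent.StalkGen.exists_genPrime_eq x q.asIdeal
    haveI := hsupp x''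
    obtain ⟨z, hz⟩ := exists_ne (0 : F.presheaf.stalk x'')
    obtain ⟨a, s, hs, hsa⟩ := exists_smul_eq_stalkSpecializes F hspec z
    have ha : F.presheaf.stalkSpecializes hspec a ≠ 0 := by
      rw [← hsa]
      intro h
      exact hz ((hs.smul_eq_zero).1 h)
    refine ⟨a, fun r hr hra => ?_⟩
    have hr' : r ∉ Groth.Agent.StalkGen.genPrime hspec := hq ▸ hr
    have hru : IsUnit (X.presheaf.stalkSpecializes hspec r) := by
      by_contra hnu
      exact hr' ((IsLocalRing.mem_maximalIdeal _).2 hnu)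
    have h1 := congrArg (F.presheaf.stalkSpecializes hspec) hra
    rw [stalkSpecializes_smul, map_zero] at h1
    exact ha ((hru.smul_eq_zero).1 h1)
  unfold Module.supportDim ringKrullDim
  rw [huniv]
  exact Order.krullDim_eq_of_orderIso OrderIso.Set.univ

/-- S5860. -/
theorem S2_H0 (hass : ∀ x ∈ AssSch.Ass F, ringKrullDim (X.presheaf.stalk x) ≠ 1)
    (hH : Coh.IsCoh ((ZClos.H0 (ZClos.dimGe X 2)).obj F)) (x : X) :
    min (2 : WithBot ℕ∞) (Module.supportDim (X.presheaf.stalk x)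
        (((ZClos.H0 (ZClos.dimGe X 2)).obj F).presheaf.stalk x)) ≤
      ((LocCoh.depth (X.presheaf.stalk x)
        (((ZClos.H0 (ZClos.dimGe X 2)).obj F).presheaf.stalk x) : ℕ∞) : WithBot ℕ∞) := by
  have hZ := stable_dimGe X 2
  by_cases hx : x ∈ ZClos.dimGe X 2
  · have h2 := two_le_depth_of_isZClosed hZ _ hH (isZClosed_H0 (ZClos.dimGe X 2) F) x hx
    exact (min_le_left _ _).trans (two_le_coe.2 h2)
  · have hb := isZClosedAt_of_not_mem (ZClos.dimGe X 2) F x hx
    haveI : IsIso ((TopCat.Presheaf.stalkFunctor (C := Ab.{u}) x).map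
        (ZClos.rhoApp (ZClos.dimGe X 2) F).mapPresheaf) :=
      (ConcreteCategory.isIso_iff_bijective _).mpr hb
    obtain ⟨e⟩ := CohDevH8.nonempty_stalk_equiv_of_isIso
      (ZClos.rhoApp (ZClos.dimGe X 2) F) x inferInstance
    have h1 := S2_of_dim_le_one F hass x (dim_le_one_of_not_mem hx)
    rw [Module.supportDim_eq_of_equiv e] at h1
    unfold LocCoh.depth at h1 ⊢
    rw [Groth.Agent.DepthLib.idealDepth_congr _ _ e] at h1
    exact h1

/-- S5861. -/
theorem S2_locus (hF : Coh.IsCoh F) (hsupp : ∀ x : X, Nontrivial (F.presheaf.stalk x))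
    (hass : ∀ x ∈ AssSch.Ass F, ringKrullDim (X.presheaf.stalk x) ≠ 1)
    (hH : Coh.IsCoh ((ZClos.H0 (ZClos.dimGe X 2)).obj F)) :
    IsOpen {x : X | ∀ x' : X, x' ⤳ x →
        min (2 : WithBot ℕ∞) (Module.supportDim (X.presheaf.stalk x') (F.presheaf.stalk x')) ≤
          ((LocCoh.depth (X.presheaf.stalk x') (F.presheaf.stalk x') : ℕ∞) : WithBot ℕ∞)} ∧
      ∀ x : X, (¬ ∀ x' : X, x' ⤳ x →
        min (2 : WithBot ℕ∞) (Module.supportDim (X.presheaf.stalk x') (F.presheaf.stalk x')) ≤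
          ((LocCoh.depth (X.presheaf.stalk x') (F.presheaf.stalk x') : ℕ∞) : WithBot ℕ∞)) →
        (2 : WithBot ℕ∞) ≤ ringKrullDim (X.presheaf.stalk x) := by
  have hZ := stable_dimGe X 2
  obtain ⟨U, hU, hUc, -, -⟩ := ZClosPtH8.closed_locus F hZ hF hH
  have hset : {x : X | ∀ x' : X, x' ⤳ x →
        min (2 : WithBot ℕ∞) (Module.supportDim (X.presheaf.stalk x') (F.presheaf.stalk x')) ≤
          ((LocCoh.depth (X.presheaf.stalk x') (F.presheaf.stalk x') : ℕ∞) : WithBot ℕ∞)} =
      (U : Set X) := by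
    rw [hU]
    ext x
    constructor
    · intro h x' hspec hx'Z
      have h1 := h x' hspec
      rw [supportDim_stalk_eq F hsupp x', min_eq_left (show (2 : WithBot ℕ∞) ≤ _ from hx'Z)] at h1
      exact two_le_coe.1 h1
    · intro h x' hspec
      by_cases hx'Z : x' ∈ ZClos.dimGe X 2
      · exact (min_le_left _ _).trans (two_le_coe.2 (h x' hspec hx'Z))
      · exact S2_of_dim_le_one F hass x' (dim_le_one_of_not_mem hx'Z)
  constructor
  · rw [hset]
    exact U.isOpen
  · intro x hx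
    have hxU : x ∈ (U : Set X)ᶜ := by
      intro hxU
      apply hx
      have : x ∈ {x : X | ∀ x' : X, x' ⤳ x →
        min (2 : WithBot ℕ∞) (Module.supportDim (X.presheaf.stalk x') (F.presheaf.stalk x')) ≤
          ((LocCoh.depth (X.presheaf.stalk x') (F.presheaf.stalk x') : ℕ∞) : WithBot ℕ∞)} := by
        rw [hset]
        exact hxU
      exact this
    exact hUc hxU

end ZClosS2H8
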