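import Mathlib
import Groth.Prelude
import Groth.Agent.Lib.ZClosS2_helper8

set_option autoImplicit false
universe u

open CategoryTheory CategoryTheory.Limits AlgebraicGeometry TopologicalSpace Opposite

/-! Curves of pure dimension one: specialization chains, closed points, zero-dimensional closed
subsets (helper8). APPEND-ONLY once landed. -/

namespace PureCurveH8

section Top

/-- three points in a chain of specializations in a sober space give dimension at least two. -/
theorem two_le_dim_of_chain {W : Type u} [TopologicalSpace W] [QuasiSober W] [T0Space W]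
    {a b c : W} (hab : a ⤳ b) (hbc : b ⤳ c) (hne1 : a ≠ b) (hne2 : b ≠ c) :
    (2 : WithBot ℕ∞) ≤ topologicalKrullDim W := by
  letI := specializationOrder W
  unfold topologicalKrullDim
  rw [Order.krullDim_eq_of_orderIso (irreducibleSetEquivPoints (α := W))]
  have hcb : c < b := lt_of_le_of_ne hbc (fun h => hne2 h.symm)
  have hba : b < a := lt_of_le_of_ne hab (fun h => hne1 h.symm)
  have h1 := Order.height_add_one_le hcb
  have h2 := Order.height_add_one_le hba
  have h3 : (2 : ℕ∞) ≤ Order.height a := by
    refine le_trans ?_ h2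
    refine le_trans ?_ (add_le_add_left h1 1)
    have h0 : (0 : ℕ∞) ≤ Order.height c := bot_le
    calc (2 : ℕ∞) = 0 + 1 + 1 := by norm_num
      _ ≤ Order.height c + 1 + 1 := by gcongr
  refine le_trans ?_ (Order.height_le_krullDim a)
  exact ZClosS2H8.two_le_coe.2 h3

variable {X : Scheme.{u}}

/-- On a scheme all of whose irreducible components have dimension one there is no chain of
specializations of length two. -/
theorem no_chain (hequi : ∀ Z ∈ irreducibleComponents (X : Type u), topologicalKrullDim Z = 1)
    {a b c : X} (hab : a ⤳ b) (hbc : b ⤳ c) (hne1 : a ≠ b) (hne2 : b ≠ c) : False := by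
  classical
  have hWmem : irreducibleComponent a ∈ irreducibleComponents X :=
    irreducibleComponent_mem_irreducibleComponents a
  have hWcl : IsClosed (irreducibleComponent a) := isClosed_irreducibleComponent
  have ha : a ∈ irreducibleComponent a := mem_irreducibleComponent
  have hb : b ∈ irreducibleComponent a := hab.mem_closed hWcl ha
  have hc : c ∈ irreducibleComponent a := hbc.mem_closed hWcl hb
  have hdim := hequi _ hWmem
  haveI : QuasiSober (irreducibleComponent a) := (hWcl.isClosedEmbedding_subtypeVal).quasiSober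
  have h2 : (2 : WithBot ℕ∞) ≤ topologicalKrullDim (irreducibleComponent a) :=
    two_le_dim_of_chain (a := ⟨a, ha⟩) (b := ⟨b, hb⟩) (c := ⟨c, hc⟩)
      ((subtype_specializes_iff _ _).2 hab) ((subtype_specializes_iff _ _).2 hbc)
      (fun h => hne1 (congrArg Subtype.val h)) (fun h => hne2 (congrArg Subtype.val h))
  rw [hdim] at h2
  exact absurd h2 (by decide)

/-- under equidimension one, a point whose local ring has dimension at least one is closed. -/
theorem eq_of_specializes_of_mem_dimGe
    (hequi : ∀ Z ∈ irreducibleComponents (X : Type u), topologicalKrullDim Z = 1)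
    {x z : X} (hx : x ∈ ZClos.dimGe X 1) (h : x ⤳ z) : z = x := by
  by_contra hne
  have hx' : ((1 : ℕ) : WithBot ℕ∞) ≤ ringKrullDim (X.presheaf.stalk x) := hx
  rw [ringKrullDim_stalk_eq_coheight] at hx'
  have h0 : Order.coheight x ≠ 0 := by
    intro h0
    rw [h0] at hx'
    exact absurd hx' (by decide)
  rw [Order.coheight_ne_zero, not_isMax_iff] at h0
  obtain ⟨η, hη⟩ := h0
  exact no_chain hequi (a := η) (b := x) (c := z) hη.le h (fun e => hη.ne e.symm)
    (fun e => hne e.symm)

/-- under equidimension one, a proper generization is a generic point. -/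
theorem not_mem_dimGe_of_specializes
    (hequi : ∀ Z ∈ irreducibleComponents (X : Type u), topologicalKrullDim Z = 1)
    {x y : X} (h : y ⤳ x) (hne : y ≠ x) : y ∉ ZClos.dimGe X 1 :=
  fun hy => hne (eq_of_specializes_of_mem_dimGe hequi hy h).symm

/-- a closed subset all of whose points are closed has dimension at most zero. -/
theorem dim_le_zero_of_closed_points {T : Set X} (hT : IsClosed T)
    (hpt : ∀ t ∈ T, ∀ z : X, t ⤳ z → z = t) : topologicalKrullDim T ≤ 0 := by
  haveI : QuasiSober T := (hT.isClosedEmbedding_subtypeVal).quasiSober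
  unfold topologicalKrullDim
  rw [Order.krullDim_nonpos_iff_forall_isMax]
  intro C C' hCC'
  obtain ⟨y, hy⟩ := QuasiSober.sober C'.isIrreducible C'.isClosed
  obtain ⟨c, hc⟩ := C.isIrreducible.nonempty
  intro w hw
  have hyw : y ⤳ w := hy.specializes hw
  have hyc : y ⤳ c := hy.specializes (hCC' hc)
  have e1 : w = y := Subtype.ext (hpt y.1 y.2 w.1 ((subtype_specializes_iff _ _).1 hyw))
  have e2 : c = y := Subtype.ext (hpt y.1 y.2 c.1 ((subtype_specializes_iff _ _).1 hyc))
  rw [e1, ← e2]
  exact hc

end Top

section Sheaf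

open ZClosH8 ZClosPtH8 HomLinH8 SecOrdH8 RefBasisH8

variable {X : Scheme.{u}}

theorem stalkMap_injective_of_mono {A B : X.Modules} (φ : A ⟶ B) [Mono φ] (x : X) :
    Function.Injective (RefHull.stalkMapₗ φ x) := by
  rw [injective_iff_map_eq_zero]
  intro a ha
  obtain ⟨O, hO, hxO, s, rfl⟩ := exists_germ_affine A x a
  rw [RefHull.stalkMapₗ_germ] at ha
  obtain ⟨O', hO', hO'O, hxO', h0⟩ := exists_affine_res_eq_zero B x hxO _ ha
  rw [← app_res] at h0
  have h1 : res A hO'O s = 0 := app_injective_of_mono φ O' (h0.trans (map_zero _).symm)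
  rw [← germ_res A hO'O x hxO' s, h1, map_zero]

theorem stalkMapₗ_comp {A B C : X.Modules} (φ : A ⟶ B) (ψ : B ⟶ C) (x : X)
    (a : A.presheaf.stalk x) :
    RefHull.stalkMapₗ (φ ≫ ψ) x a = RefHull.stalkMapₗ ψ x (RefHull.stalkMapₗ φ x a) := by
  obtain ⟨O, hO, hxO, s, rfl⟩ := exists_germ_affine A x a
  rw [RefHull.stalkMapₗ_germ, RefHull.stalkMapₗ_germ, RefHull.stalkMapₗ_germ]
  rfl

theorem stalkMapₗ_zero {A B : X.Modules} (x : X) (a : A.presheaf.stalk x) :
    RefHull.stalkMapₗ (0 : A ⟶ B) x a = 0 := by
  obtain ⟨O, hO, hxO, s, rfl⟩ := exists_germ_affine A x a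
  rw [RefHull.stalkMapₗ_germ]
  have : (0 : A ⟶ B).app O s = 0 := rfl
  rw [this, map_zero]

theorem subsingleton_stalk_kernel_rho [IsLocallyNoetherian X] (Z : Set X) (F : X.Modules)
    (y : X) (hy : y ∉ Z) :
    Subsingleton ((kernel (ZClos.rhoApp Z F)).presheaf.stalk y) := by
  have key : ∀ a : (kernel (ZClos.rhoApp Z F)).presheaf.stalk y, a = 0 := by
    intro a
    apply stalkMap_injective_of_mono (kernel.ι (ZClos.rhoApp Z F)) y
    rw [map_zero]
    apply (isZClosedAt_of_not_mem Z F y hy).1
    have h1 := stalkMapₗ_comp (kernel.ι (ZClos.rhoApp Z F)) (ZClos.rhoApp Z F) y a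
    rw [kernel.condition, stalkMapₗ_zero] at h1
    exact h1.symm.trans (map_zero (ZClos.rhoStalk Z F y).hom).symm
  exact ⟨fun a b => (key a).trans (key b).symm⟩

end Sheaf

end PureCurveH8
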