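import Mathlib
import Groth.Prelude
import Groth.Agent.Lib.PureCurve1_helper8
import Groth.Agent.Lib.CohKer_helper8
import Groth.Agent.Lib.SuppFT_helper9

set_option autoImplicit false
universe u

open CategoryTheory CategoryTheory.Limits AlgebraicGeometry TopologicalSpace Opposite
open ZClosH8 ZClosPtH8 HomLinH8 SecOrdH8 RefBasisH8 HartConvH8

/-! Pure one-dimensional coherent modules on a reduced curve are modules over the reduced
support (helper8). APPEND-ONLY once landed. -/

namespace PureCurveH8

variable {X : Scheme.{u}}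

/-- kernel of a map from a coherent module to a quasi-coherent module is coherent. -/
theorem isCoh_kernel' [IsLocallyNoetherian X] {F G : X.Modules} (hF : Coh.IsCoh F)
    [G.IsQuasicoherent] (φ : F ⟶ G) : Coh.IsCoh (kernel φ) := by
  obtain ⟨hFq, hFf⟩ := hF
  haveI : F.IsQuasicoherent := hFq
  haveI : SheafOfModules.IsFiniteType (R := X.ringCatSheaf) F := hFf
  haveI hq : (kernel φ).IsQuasicoherent := SubExt.isQuasicoherent_kernel φ
  refine ⟨hq, ?_⟩
  refine QCohCrit.isFiniteType_of_sections_cover (kernel φ)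
    (fun V : X.affineOpens => (V : X.Opens)) (fun V => V.2) CohKerH8.iSup_affineOpens (fun V => ?_)
  haveI := QCohFT.finite_of_isFiniteType F V.2
  haveI := IsLocallyNoetherian.component_noetherian V
  haveI : IsNoetherian Γ(X, V.1) Γ(F, V.1) := isNoetherian_of_isNoetherianRing_of_finite _ _
  have hi : Function.Injective ((kernel.ι φ).app V.1) :=
    QCohExact.app_injective_of_mono (kernel.ι φ) V.1
  let ψ : Γ(kernel φ, V.1) →ₗ[Γ(X, V.1)] Γ(F, V.1) :=
    { toFun := QCohExtn.ap (kernel.ι φ) V.1
      map_add' := map_add _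
      map_smul' := fun r m => QCohExtn.ap_smul (kernel.ι φ) r m }
  exact Module.Finite.of_injective ψ hi

theorem le_zero_of_not_one_le {d : WithBot ℕ∞} (h : ¬ ((1 : ℕ) : WithBot ℕ∞) ≤ d) : d ≤ 0 := by
  induction d using WithBot.recBotCoe with
  | bot => exact bot_le
  | coe c =>
    have h' : ¬ (1 : ℕ∞) ≤ c := fun hc => h (ZClosS2H8.one_le_coe.2 hc)
    rw [not_le, Order.lt_one_iff] at h'
    subst h'
    exact le_rfl

/-- on a reduced scheme, a function not invertible at a generic point vanishes there. -/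
theorem germ_eq_zero_of_not_mem [IsReduced X] {U : X.Opens} (f : Γ(X, U)) (y : X) (hy : y ∈ U)
    (hyZ : y ∉ ZClos.dimGe X 1) (hfy : y ∉ X.basicOpen f) : X.presheaf.germ U y hy f = 0 := by
  have hd : ringKrullDim (X.presheaf.stalk y) ≤ 0 := le_zero_of_not_one_le hyZ
  haveI : Ring.KrullDimLE 0 (X.presheaf.stalk y) := (Ring.krullDimLE_iff).2 hd
  have hnu : X.presheaf.germ U y hy f ∈ nonunits (X.presheaf.stalk y) := by
    intro hu
    exact hfy ((X.mem_basicOpen f y hy).2 hu)
  exact (Ring.KrullDimLE.isNilpotent_iff_mem_nonunits.2 hnu).eq_zero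

/-- the maximal ideal as the prime of the trivial generization. -/
theorem genPrime_self {x : X} (h : x ⤳ x) :
    Groth.Agent.StalkGen.genPrime h = IsLocalRing.maximalIdeal (X.presheaf.stalk x) := by
  unfold Groth.Agent.StalkGen.genPrime
  have h1 : X.presheaf.stalkSpecializes h = 𝟙 _ := TopCat.Presheaf.stalkSpecializes_refl _ x
  rw [h1]
  rfl

theorem genPrime_of_eq {x x' : X} (h : x' ⤳ x) (e : x' = x) :
    Groth.Agent.StalkGen.genPrime h = IsLocalRing.maximalIdeal (X.presheaf.stalk x) := by
  subst e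
  exact genPrime_self h

section Main

variable [IsLocallyNoetherian X]
  (hequi : ∀ Z ∈ irreducibleComponents (X : Type u), topologicalKrullDim Z = 1)
  (J : X.Modules) (hJc : Coh.IsCoh J) (hJp : ShStab.IsPure X J 1)

include hequi hJc hJp

/-- purity: the subsheaf of sections supported at closed points vanishes. -/
theorem isZero_kernel_rho : IsZero (kernel (ZClos.rhoApp (ZClos.dimGe X 1) J)) := by
  haveI : J.IsQuasicoherent := hJc.1
  haveI := isQuasicoherent_H0 (ZClos.dimGe X 1) J
  by_contra hne
  have hK : Coh.IsCoh (kernel (ZClos.rhoApp (ZClos.dimGe X 1) J)) :=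
    isCoh_kernel' hJc (ZClos.rhoApp (ZClos.dimGe X 1) J)
  have hdim := hJp _ (kernel.ι (ZClos.rhoApp (ZClos.dimGe X 1) J)) inferInstance hK hne
  haveI : SheafOfModules.IsFiniteType (R := X.ringCatSheaf)
      (kernel (ZClos.rhoApp (ZClos.dimGe X 1) J)) := hK.2
  have hle : topologicalKrullDim
      (CohB1.support (kernel (ZClos.rhoApp (ZClos.dimGe X 1) J))) ≤ 0 := by
    refine dim_le_zero_of_closed_points
      (@SuppFT.isClosed_support X _ hK.2) (fun t ht z htz => ?_)
    refine eq_of_specializes_of_mem_dimGe hequi ?_ htz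
    by_contra htZ
    exact ht (subsingleton_stalk_kernel_rho (ZClos.dimGe X 1) J t htZ)
  rw [hdim] at hle
  exact absurd hle (by decide)

theorem injective_rhoStalk (x : X) :
    Function.Injective (ZClos.rhoStalk (ZClos.dimGe X 1) J x) := by
  have hz := isZero_kernel_rho hequi J hJc hJp
  haveI : Mono (ZClos.rhoApp (ZClos.dimGe X 1) J) :=
    Preadditive.mono_of_kernel_zero (hz.eq_of_src _ _)
  exact stalkMap_injective_of_mono (ZClos.rhoApp (ZClos.dimGe X 1) J) x

/-- S17178: a function vanishing on the support of a pure one-dimensional coherent module on a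
reduced curve kills the module. -/
theorem smul_eq_zero_main [IsReduced X] (U : X.Opens) (f : Γ(X, U))
    (hf : ∀ x : X, x ∈ U → x ∈ CohB1.support J → x ∉ X.basicOpen f)
    (x : X) (hx : x ∈ U) (t : J.presheaf.stalk x) :
    (X.presheaf.germ U x hx f) • t = 0 := by
  haveI : J.IsQuasicoherent := hJc.1
  haveI : SheafOfModules.IsFiniteType (R := X.ringCatSheaf) J := hJc.2
  have hG : ∀ (y : X) (hy : y ∈ U), y ∉ ZClos.dimGe X 1 → ∀ t' : J.presheaf.stalk y,
      (X.presheaf.germ U y hy f) • t' = 0 := by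
    intro y hy hyZ t'
    by_cases hys : y ∈ CohB1.support J
    · rw [germ_eq_zero_of_not_mem f y hy hyZ (hf y hy hys), zero_smul]
    · have : Subsingleton (J.presheaf.stalk y) := not_not.1 hys
      exact Subsingleton.elim _ _
  by_cases hxZ : x ∈ ZClos.dimGe X 1
  swap
  · exact hG x hx hxZ t
  have hZ := ZClosS2H8.stable_dimGe X 1
  have hinj := injective_rhoStalk hequi J hJc hJp x
  by_contra hb
  haveI : Nontrivial (Submodule.span (X.presheaf.stalk x) {(X.presheaf.germ U x hx f) • t}) := by
    rw [Submodule.nontrivial_iff_ne_bot]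
    intro h
    rw [Submodule.span_singleton_eq_bot] at h
    exact hb h
  obtain ⟨P, hP⟩ := associatedPrimes.nonempty (X.presheaf.stalk x)
    (Submodule.span (X.presheaf.stalk x) {(X.presheaf.germ U x hx f) • t})
  obtain ⟨hPprime, ⟨c, hcN⟩, hc⟩ := isAssociatedPrime_iff.1 hP
  have hmem : ∀ r, r ∈ P ↔ r • c = 0 := by
    intro r
    rw [hc, Submodule.mem_colon_singleton, Submodule.mem_bot]
    exact ⟨fun h => congrArg Subtype.val h, fun h => Subtype.ext h⟩
  obtain ⟨a, ha⟩ := Submodule.mem_span_singleton.1 hcN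
  have hcne : c ≠ 0 := by
    intro h0
    apply hPprime.ne_top
    rw [Ideal.eq_top_iff_one, hmem, h0, smul_zero]
  haveI := hPprime
  obtain ⟨x', hspec, hPx'⟩ := Groth.Agent.StalkGen.exists_genPrime_eq x P
  by_cases hxx' : x' = x
  · have hPm : P = IsLocalRing.maximalIdeal (X.presheaf.stalk x) :=
      hPx'.trans (genPrime_of_eq hspec hxx')
    apply hcne
    apply hinj
    rw [rhoStalk_eq_zero_of_smul J hZ x hxZ c (fun r hr => (hmem r).1 (hPm ▸ hr))]
    exact (map_zero (ZClos.rhoStalk _ J x).hom).symm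
  · have hx'Z : x' ∉ ZClos.dimGe X 1 := not_mem_dimGe_of_specializes hequi hspec hxx'
    have hx'U : x' ∈ U := hspec.mem_open U.isOpen hx
    have h0 : J.presheaf.stalkSpecializes hspec c = 0 := by
      rw [← ha, stalkSpecializes_smul, stalkSpecializes_smul, stalkSpecializes_germX,
        hG x' hx'U hx'Z, smul_zero]
    obtain ⟨s, hs, hsc⟩ := exists_smul_eq_zero_of_stalkSpecializes J hspec c h0
    have hsP : s ∈ Groth.Agent.StalkGen.genPrime hspec := hPx' ▸ (hmem s).2 hsc
    exact (IsLocalRing.mem_maximalIdeal _).1 hsP hs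

end Main

end PureCurveH8
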