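import Mathlib
import Groth.Prelude
import Groth.Agent.Lib.AmpleComp1_helper9
import Groth.Agent.Lib.BirCurve3_helper9
import Groth.Agent.Lib.CohDev15_helper8
import Groth.Agent.Lib.DegPull5_helper9
import Groth.Agent.Lib.PureCurve2_helper8

/-!
# Ampleness on proper schemes of dimension at most one is detected on the one-dimensional
irreducible components (helper9)

Statement of S7642.
APPEND-ONLY once landed.
-/

set_option autoImplicit false
universe u
open CategoryTheory CategoryTheory.Limits AlgebraicGeometry Opposite TopologicalSpace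

namespace AmpleComp

open QcqsLoc QCohExtn GenLocH8 TensH8 FLFH8 Groth.Agent.HHVan Groth.Agent.TensInv CohB1

section EvVan

variable {X : Scheme.{u}} (L : X.Modules)

/-- the first cohomology of the twists of `M` by large powers of `L` vanishes -/
def EvVan (M : X.Modules) : Prop :=
  ∃ n₀ : ℕ, ∀ n : ℕ, n₀ ≤ n → Subsingleton (Coh.HH X (CohB1.tensorMod M (CohB1.tensorPow L n)) 1)

variable {L}

theorem EvVan.of_iso {M M' : X.Modules} (e : M ≅ M') (h : EvVan L M) : EvVan L M' := by
  obtain ⟨n₀, h⟩ := h
  exact ⟨n₀, fun n hn => subsingleton_of_iso (mapR e _) 1 (h n hn)⟩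

theorem evVan_of_isZero {M : X.Modules} (hM : IsZero M) : EvVan L M :=
  ⟨0, fun n _ => CurveDegAdd.HH_subsingleton_of_isZero X
    ((tR (CohB1.tensorPow L n)).map_isZero hM) 1⟩

theorem evVan_ext [IsLocallyNoetherian X] (hL : PicF.IsInvertible L) (S : ShortComplex X.Modules)
    (hS : S.ShortExact) (h1 : EvVan L S.X₁) (h3 : EvVan L S.X₃) : EvVan L S.X₂ := by
  obtain ⟨n₁, h1⟩ := h1
  obtain ⟨n₃, h3⟩ := h3
  refine ⟨max n₁ n₃, fun n hn => ?_⟩
  have hE' := FLFH8.IsFinLocFreeOfRank.isFinLocFree _
    (FLFH8.finLocFreeOfRank_one_of_isInvertible (TensH8.isInvertible_tensorPow hL n))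
  exact subsingleton_mid (S.map (tR (CohB1.tensorPow L n))) (TensBasis.shortExact_tR hE' S hS) 1
    (h1 n (le_trans (le_max_left _ _) hn)) (h3 n (le_trans (le_max_right _ _) hn))

end EvVan

section Ident

variable {X Z : Scheme.{u}} (i : Z ⟶ X) [IsClosedImmersion i]

/-- the range of a closed immersion as a closed subset -/
def rangeCl : Closeds X := ⟨Set.range i, i.isClosedEmbedding.isClosed_range⟩

/-- a reduced closed subscheme is the reduced induced subscheme on its range -/
theorem exists_iso_vanishingIdeal_subscheme [IsReduced Z] :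
    ∃ e : (Scheme.IdealSheafData.vanishingIdeal (rangeCl i)).subscheme ≅ Z,
      e.hom ≫ i = (Scheme.IdealSheafData.vanishingIdeal (rangeCl i)).subschemeι := by
  set J := Scheme.IdealSheafData.vanishingIdeal (rangeCl i) with hJ
  have H : i.ker ≤ J.subschemeι.ker := by
    rw [Scheme.IdealSheafData.ker_subschemeι, hJ,
      ← Scheme.IdealSheafData.le_support_iff_le_vanishingIdeal]
    intro x hx
    have h1 : (i.ker.support : Set X) = closure (Set.range i) := Scheme.Hom.support_ker i
    show x ∈ (i.ker.support : Set X)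
    rw [h1]
    exact subset_closure hx
  let l : J.subscheme ⟶ Z := IsClosedImmersion.lift i J.subschemeι H
  have hl : l ≫ i = J.subschemeι := IsClosedImmersion.lift_fac i J.subschemeι H
  haveI : IsClosedImmersion (l ≫ i) := by rw [hl]; infer_instance
  haveI : IsClosedImmersion l := IsClosedImmersion.of_comp l i
  haveI : Surjective l := by
    refine ⟨fun z => ?_⟩
    have hz : i z ∈ Set.range J.subschemeι := by
      rw [Scheme.IdealSheafData.range_subschemeι, hJ,
        Scheme.IdealSheafData.coe_support_vanishingIdeal]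
      exact ⟨z, rfl⟩
    obtain ⟨t, ht⟩ := hz
    refine ⟨t, i.isClosedEmbedding.injective ?_⟩
    rw [← ht, ← hl]
    rfl
  haveI : IsIso l := isIso_of_isClosedImmersion_of_surjective l
  exact ⟨asIso l, hl⟩

end Ident

section Point

variable {X : Scheme.{u}}

/-- coherent modules supported at a closed point have no twisted `H¹` -/
theorem evVan_of_support_point [IsLocallyNoetherian X] {L : X.Modules} (hL : PicF.IsInvertible L)
    {Q : X.Modules} (hQ : Coh.IsCoh Q) (y : X) (hy : IsClosed ({y} : Set X))
    (hsupp : CohB1.support Q ⊆ {y}) : EvVan L Q := by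
  refine ⟨0, fun n _ => CurveVan.HH_subsingleton_of_stalks _ {y} (fun x hx => ?_)
    (fun T hT => ?_) 0⟩
  · have hLc := ProperFinH9.isCoh_of_isInvertible (TensH8.isInvertible_tensorPow hL n)
    haveI := hQ.1
    haveI := hLc.1
    have h1 := SuppTensH8.support_tensorMod Q (CohB1.tensorPow L n) hQ.2 hLc.2
    by_contra hns
    have h2 : x ∈ CohB1.support (CohB1.tensorMod Q (CohB1.tensorPow L n)) := hns
    rw [h1] at h2
    exact hx (hsupp h2.1)
  · rcases Set.subset_singleton_iff_eq.mp hT with h | h
    · rw [h]; exact isClosed_empty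
    · rw [h]; exact hy

end Point

section Piece

variable (k : Type u) [Field k] (X : Scheme.{u}) [X.Over (Spec (CommRingCat.of k))]
  [IsProper (X ↘ Spec (CommRingCat.of k))]

/-- direct images of coherent modules from an integral closed curve on which `L` has positive
degree -/
theorem evVan_push_of_deg_pos (hdim : topologicalKrullDim X ≤ 1) {L : X.Modules}
    (hL : PicF.IsInvertible L) {Z : Scheme.{u}} (i : Z ⟶ X) [IsClosedImmersion i] [IsIntegral Z]
    (hdeg : 0 < @Curv2.deg k _ Z ⟨i ≫ (X ↘ Spec (CommRingCat.of k))⟩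
      ((Scheme.Modules.pullback i).obj L) 1) {G : Z.Modules} (hG : Coh.IsCoh G) :
    EvVan L ((Scheme.Modules.pushforward i).obj G) := by
  letI : Z.Over (Spec (CommRingCat.of k)) := ⟨i ≫ (X ↘ Spec (CommRingCat.of k))⟩
  haveI : IsProper (Z ↘ Spec (CommRingCat.of k)) :=
    inferInstanceAs (IsProper (i ≫ (X ↘ Spec (CommRingCat.of k))))
  haveI : IsLocallyNoetherian Z :=
    LocallyOfFiniteType.isLocallyNoetherian (Z ↘ Spec (CommRingCat.of k))
  have hdimZ : topologicalKrullDim Z ≤ 1 :=
    (i.isClosedEmbedding.isInducing.topologicalKrullDim_le).trans hdim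
  have hLZ := TensH8.isInvertible_pullback i hL
  obtain ⟨n₀, h⟩ := exists_forall_HH1_subsingleton k Z hdimZ hLZ hdeg hG
  refine ⟨n₀, fun n hn => ?_⟩
  have h1 := h n hn
  have hLn := TensH8.isInvertible_tensorPow hL n
  have hE' := FLFH8.IsFinLocFreeOfRank.isFinLocFree _
    (FLFH8.finLocFreeOfRank_one_of_isInvertible hLn)
  obtain ⟨ep⟩ := DegPull.nonempty_pullback_tensorPow_iso i hL n
  let e₁ : CohB1.tensorMod ((Scheme.Modules.pushforward i).obj G) (CohB1.tensorPow L n) ≅
      CohB1.tensorMod (CohB1.tensorPow L n) ((Scheme.Modules.pushforward i).obj G) := comm _ _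
  let e₂ : CohB1.tensorMod (CohB1.tensorPow L n) ((Scheme.Modules.pushforward i).obj G) ≅
      (Scheme.Modules.pushforward i).obj
        (CohB1.tensorMod ((Scheme.Modules.pullback i).obj (CohB1.tensorPow L n)) G) :=
    (PFormH9.projIso i (CohB1.tensorPow L n) hE').app G
  let e₃ : (Scheme.Modules.pushforward i).obj
        (CohB1.tensorMod ((Scheme.Modules.pullback i).obj (CohB1.tensorPow L n)) G) ≅
      (Scheme.Modules.pushforward i).obj
        (CohB1.tensorMod G (CohB1.tensorPow ((Scheme.Modules.pullback i).obj L) n)) :=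
    (Scheme.Modules.pushforward i).mapIso (comm _ _ ≪≫ mapL G ep)
  have hTc := CurveAmple.isCoh_tensorMod Z hG (TensH8.isInvertible_tensorPow hLZ n)
  haveI := hTc.1
  have hbij := Groth.Agent.Lib.PushEdge2_helper7.pushEdge_bijective_of_isAffineHom i
    (CohB1.tensorMod G (CohB1.tensorPow ((Scheme.Modules.pullback i).obj L) n)) 1
  have h2 : Subsingleton (Coh.HH X ((Scheme.Modules.pushforward i).obj
      (CohB1.tensorMod G (CohB1.tensorPow ((Scheme.Modules.pullback i).obj L) n))) 1) :=
    ⟨fun a b => hbij.1 (Subsingleton.elim _ _)⟩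
  exact subsingleton_of_iso (e₁ ≪≫ e₂ ≪≫ e₃).symm 1 h2

end Piece

section Transfer

variable (k : Type u) [Field k] (X : Scheme.{u}) [X.Over (Spec (CommRingCat.of k))]
  [IsProper (X ↘ Spec (CommRingCat.of k))]

/-- the degree on an integral closed subscheme can be computed on the reduced induced subscheme
of its range -/
theorem deg_pos_transfer (hdim : topologicalKrullDim X ≤ 1) {L : X.Modules}
    (hL : PicF.IsInvertible L) {Z : Scheme.{u}} (i : Z ⟶ X) [IsClosedImmersion i] [IsIntegral Z]
    (J : X.IdealSheafData) (hJ : J = Scheme.IdealSheafData.vanishingIdeal (rangeCl i))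
    (hpos : 0 < @Curv2.deg k _ J.subscheme ⟨J.subschemeι ≫ (X ↘ Spec (CommRingCat.of k))⟩
      ((Scheme.Modules.pullback J.subschemeι).obj L) 1) :
    0 < @Curv2.deg k _ Z ⟨i ≫ (X ↘ Spec (CommRingCat.of k))⟩
      ((Scheme.Modules.pullback i).obj L) 1 := by
  subst hJ
  obtain ⟨e, he⟩ := exists_iso_vanishingIdeal_subscheme i
  letI : Z.Over (Spec (CommRingCat.of k)) := ⟨i ≫ (X ↘ Spec (CommRingCat.of k))⟩
  haveI : IsProper (Z ↘ Spec (CommRingCat.of k)) :=
    inferInstanceAs (IsProper (i ≫ (X ↘ Spec (CommRingCat.of k))))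
  letI : (Scheme.IdealSheafData.vanishingIdeal (rangeCl i)).subscheme.Over
      (Spec (CommRingCat.of k)) :=
    ⟨(Scheme.IdealSheafData.vanishingIdeal (rangeCl i)).subschemeι ≫
      (X ↘ Spec (CommRingCat.of k))⟩
  haveI : IsProper ((Scheme.IdealSheafData.vanishingIdeal (rangeCl i)).subscheme ↘
      Spec (CommRingCat.of k)) :=
    inferInstanceAs (IsProper ((Scheme.IdealSheafData.vanishingIdeal (rangeCl i)).subschemeι ≫
      (X ↘ Spec (CommRingCat.of k))))
  have hdimZ : topologicalKrullDim Z ≤ 1 :=
    (i.isClosedEmbedding.isInducing.topologicalKrullDim_le).trans hdim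
  have hf : e.hom ≫ (Z ↘ Spec (CommRingCat.of k)) =
      (Scheme.IdealSheafData.vanishingIdeal (rangeCl i)).subscheme ↘ Spec (CommRingCat.of k) := by
    show e.hom ≫ i ≫ (X ↘ Spec (CommRingCat.of k)) =
      (Scheme.IdealSheafData.vanishingIdeal (rangeCl i)).subschemeι ≫
        (X ↘ Spec (CommRingCat.of k))
    rw [← Category.assoc, he]
  have hd1 : Dense (((⊤ : Z.Opens) : Z.Opens) : Set Z) := by
    simp
  have hd2 : Dense (SetLike.coe (e.hom ⁻¹ᵁ (⊤ : Z.Opens))) := by
    simp
  have h1 := BirCurve.deg_pullback k hdimZ e.hom hf ⊤ hd1 hd2 inferInstance 1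
    ((Scheme.Modules.pullback i).obj L)
    (FLFH8.finLocFreeOfRank_one_of_isInvertible (TensH8.isInvertible_pullback i hL))
  have e2 : (Scheme.Modules.pullback e.hom).obj ((Scheme.Modules.pullback i).obj L) ≅
      (Scheme.Modules.pullback
        (Scheme.IdealSheafData.vanishingIdeal (rangeCl i)).subschemeι).obj L :=
    (Scheme.Modules.pullbackComp e.hom i).app L ≪≫
      eqToIso (congrArg (fun f => (Scheme.Modules.pullback f).obj L) he)
  rw [← h1, CurveTens.deg_of_iso k _ e2 1]
  exact hpos

end Transfer

section Main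

variable (k : Type u) [Field k] (X : Scheme.{u}) [X.Over (Spec (CommRingCat.of k))]
  [IsProper (X ↘ Spec (CommRingCat.of k))] [IsNoetherian X]

/-- the hypothesis of S7642 -/
def DegPosOnComponents (L : X.Modules) : Prop :=
  ∀ (C : Set X) (hC : C ∈ irreducibleComponents (X : Type u)), topologicalKrullDim C = 1 →
    0 < @Curv2.deg k _ (X.irreducibleComponentIdeal C hC).radical.subscheme
      ⟨(X.irreducibleComponentIdeal C hC).radical.subschemeι ≫ (X ↘ (Spec (CommRingCat.of k)))⟩
      ((Scheme.Modules.pullback (X.irreducibleComponentIdeal C hC).radical.subschemeι).obj L) 1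

/-- the pieces of the dévissage have eventually vanishing twisted `H¹` -/
theorem evVan_idealPush (hdim : topologicalKrullDim X ≤ 1) {L : X.Modules}
    (hL : PicF.IsInvertible L) (hdeg : DegPosOnComponents k X L) {Q : X.Modules}
    (hQ : CohDevH8.IsIdealPush Q) : EvVan L Q := by
  obtain ⟨Z, i, hcl, hint, I, ι, hι, hIq, -, ⟨e⟩⟩ := hQ
  haveI := hcl
  haveI := hint
  haveI := hι
  haveI : IsLocallyNoetherian Z := LocallyOfFiniteType.isLocallyNoetherian i
  have hIc : Coh.IsCoh I := RelAmpleVanH9.isCoh_of_mono_structureModule I ι hIq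
  have hPc : Coh.IsCoh ((Scheme.Modules.pushforward i).obj I) :=
    CohDevH8.isCoh_pushforward_of_isFinite i hIc
  set y := i (genericPoint Z) with hy
  have hrange : Set.range i = closure ({y} : Set X) := by
    rw [hy, ← Set.image_singleton, i.isClosedEmbedding.closure_image_eq,
      (genericPoint_spec Z).def, Set.image_univ]
  have hsupp : CohB1.support ((Scheme.Modules.pushforward i).obj I) ⊆ Set.range i :=
    ClPushH8.support_subset_range i i.isClosedEmbedding.isClosed_range I _ (Iso.refl _)
  -- the closed point case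
  have hpoint : IsClosed ({y} : Set X) → EvVan L Q := by
    intro hycl
    refine EvVan.of_iso e.symm (evVan_of_support_point hL hPc y hycl ?_)
    rw [hrange, hycl.closure_eq] at hsupp
    exact hsupp
  rcases CurveH8.isMin_or_isMax hdim y with hmin | hmax
  · exact hpoint (CurveH8.isClosed_singleton_of_isMin hmin)
  · have hC := CurveH8.closure_mem_irreducibleComponents hmax
    by_cases hd1 : topologicalKrullDim (closure ({y} : Set X)) = 1
    · have hpos := hdeg _ hC hd1
      have hJ : (X.irreducibleComponentIdeal (closure ({y} : Set X)) hC).radical =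
          Scheme.IdealSheafData.vanishingIdeal (rangeCl i) := by
        rw [← Scheme.IdealSheafData.vanishingIdeal_support]
        congr 1
        apply SetLike.coe_injective
        show closure ({y} : Set X) = Set.range i
        exact hrange.symm
      have hposZ := deg_pos_transfer k X hdim hL i _ hJ hpos
      exact EvVan.of_iso e.symm (evVan_push_of_deg_pos k X hdim hL i hposZ hIc)
    · apply hpoint
      have hle : topologicalKrullDim (closure ({y} : Set X)) ≤ 1 :=
        (topologicalKrullDim_subspace_le X _).trans hdim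
      have h0 : topologicalKrullDim (closure ({y} : Set X)) ≤ 0 := by
        apply PureCurveH8.le_zero_of_not_one_le
        intro h1le
        exact hd1 (le_antisymm hle h1le)
      have h1 := CycLenH8.closure_singleton_of_dim_zero isClosed_closure h0
        (subset_closure (Set.mem_singleton y))
      rw [← h1]
      exact isClosed_closure

/-- coherent modules have eventually vanishing twisted `H¹` -/
theorem evVan_of_isCoh (hdim : topologicalKrullDim X ≤ 1) {L : X.Modules}
    (hL : PicF.IsInvertible L) (hdeg : DegPosOnComponents k X L) {M : X.Modules}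
    (hM : Coh.IsCoh M) : EvVan L M := by
  obtain ⟨A, hA, hch⟩ := CohDevH8.hasFilt_of_isCoh M hM
  have key : ∀ A M : X.Modules, CohDevH8.Chain A M → EvVan L A → EvVan L M := by
    intro A M h
    induction h with
    | refl A M e hA => exact fun h => h.of_iso e
    | cons A' A M ψ hψ hc hA' h ih =>
      intro hA'v
      apply ih
      haveI := hψ
      let S : ShortComplex X.Modules := ShortComplex.mk ψ (cokernel.π ψ) (cokernel.condition ψ)
      have hS : S.ShortExact :=
        ShortComplex.ShortExact.mk' (S.exact_of_g_is_cokernel (cokernelIsCokernel ψ))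
          (inferInstanceAs (Mono ψ)) (inferInstanceAs (Epi (cokernel.π ψ)))
      exact evVan_ext hL S hS hA'v (evVan_idealPush k X hdim hL hdeg hc)
  exact key A M hch (evVan_of_isZero hA)

/-- **positive degree on the one-dimensional components implies ample** -/
theorem isAmple_of_degPos (hdim : topologicalKrullDim X ≤ 1) {L : X.Modules}
    (hL : PicF.IsInvertible L) (hdeg : DegPosOnComponents k X L) : CohB1.IsAmple L := by
  haveI : CompactSpace X :=
    QuasiCompact.compactSpace_of_compactSpace (X ↘ Spec (CommRingCat.of k))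
  refine TensH8.isAmple_of_H1 hL (fun I i hi hI => ?_)
  haveI := hi
  have hIc : Coh.IsCoh I := RelAmpleVanH9.isCoh_of_mono_structureModule I i hI
  obtain ⟨n₀, h⟩ := evVan_of_isCoh k X hdim hL hdeg hIc
  exact ⟨n₀, h (n₀ + 1) (Nat.le_succ _)⟩

end Main

end AmpleComp
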