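import Mathlib
import Groth.Prelude
import Groth.Agent.Lib.AmpleComp2_helper9
import Groth.Agent.Lib.CurveAmple4_helper9
import Groth.Agent.Lib.Tens18_helper8

/-!
# Ample implies positive degree on the one-dimensional irreducible components (helper9)

APPEND-ONLY once landed.
-/

set_option autoImplicit false
universe u
open CategoryTheory CategoryTheory.Limits AlgebraicGeometry Opposite TopologicalSpace

namespace AmpleComp

section Conv

variable (k : Type u) [Field k] (X : Scheme.{u}) [X.Over (Spec (CommRingCat.of k))]
  [IsProper (X ↘ Spec (CommRingCat.of k))]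

/-- ample implies positive degree on a one-dimensional irreducible closed subset with its
reduced structure -/
theorem deg_pos_of_isAmple_aux {L : X.Modules}
    (hL : PicF.IsInvertible L) (hamp : CohB1.IsAmple L) (Z : Closeds X)
    (J : X.IdealSheafData) (hJ : J = Scheme.IdealSheafData.vanishingIdeal Z)
    (hirr : IsIrreducible (Z : Set X)) (hd : topologicalKrullDim (Z : Set X) = 1) :
    0 < @Curv2.deg k _ J.subscheme ⟨J.subschemeι ≫ (X ↘ Spec (CommRingCat.of k))⟩
      ((Scheme.Modules.pullback J.subschemeι).obj L) 1 := by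
  subst hJ
  obtain ⟨Z, hZ⟩ := Z
  have hy : closure ({hirr.genericPoint} : Set X) = Z := hirr.closure_genericPoint hZ
  obtain ⟨hint, -⟩ := CohDevH8.exists_isIntegral_subscheme Z hZ _ hy
  haveI := hint
  set T := (Scheme.IdealSheafData.vanishingIdeal ⟨Z, hZ⟩).subscheme with hT
  set i := (Scheme.IdealSheafData.vanishingIdeal ⟨Z, hZ⟩).subschemeι with hi
  letI : T.Over (Spec (CommRingCat.of k)) := ⟨i ≫ (X ↘ Spec (CommRingCat.of k))⟩
  haveI : IsProper (T ↘ Spec (CommRingCat.of k)) :=
    inferInstanceAs (IsProper (i ≫ (X ↘ Spec (CommRingCat.of k))))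
  haveI : CompactSpace T :=
    QuasiCompact.compactSpace_of_compactSpace (T ↘ Spec (CommRingCat.of k))
  have hrange : Set.range i = Z := by
    rw [hi, Scheme.IdealSheafData.range_subschemeι,
      Scheme.IdealSheafData.coe_support_vanishingIdeal]
    rfl
  have hd' : topologicalKrullDim (Set.range i) = 1 := by
    rw [hrange]
    exact hd
  have hdimT : topologicalKrullDim T = 1 := by
    rw [← hd']
    exact IsHomeomorph.topologicalKrullDim_eq _
      i.isClosedEmbedding.isEmbedding.toHomeomorph.isHomeomorph
  have hLT := TensH8.isInvertible_pullback i hL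
  have hampT := TensH8.isAmple_pullback_of_isAffineHom i hamp
  exact CurveAmple.deg_pos_of_isAmple k T hdimT hLT hampT

variable [IsNoetherian X]

theorem degPos_of_isAmple {L : X.Modules}
    (hL : PicF.IsInvertible L) (hamp : CohB1.IsAmple L) : DegPosOnComponents k X L := by
  intro C hC hd
  have hcl : IsClosed C := isClosed_of_mem_irreducibleComponents C hC
  refine deg_pos_of_isAmple_aux k X hL hamp ⟨C, hcl⟩ _ ?_ hC.1 hd
  rw [← Scheme.IdealSheafData.vanishingIdeal_support]
  congr 1

/-- **S7642** -/
theorem isAmple_iff_degPos (hdim : topologicalKrullDim X ≤ 1) {L : X.Modules}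
    (hL : PicF.IsInvertible L) : CohB1.IsAmple L ↔ DegPosOnComponents k X L :=
  ⟨degPos_of_isAmple k X hL, isAmple_of_degPos k X hdim hL⟩

end Conv

end AmpleComp
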