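import Mathlib
import Groth.Prelude
import Groth.Agent.Lib.PnOverVan_helper9
import Groth.Agent.Lib.ProjSpaceProper_helper4
import Groth.Agent.Lib.NegPow_helper5
import Groth.Agent.Lib.TensPowApi_helper9

/-!
# `P^n_A ≅ P^n_{Spec A}` with its twists; uniqueness of tensor inverses (helper6)
APPEND-ONLY once landed.
-/

set_option autoImplicit false
universe u
open CategoryTheory CategoryTheory.Limits AlgebraicGeometry

namespace Groth.Agent.Lib.ESZH6

open CohB1 Groth.Agent.ProjBCn Groth.Agent.PnOver Groth.Agent.TensInv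

section Iso

variable (n : ℕ) (A : Type u) [CommRing A]

theorem isPullback_over :
    IsPullback (projMapH n (zHom A)) (ProjSpace.toSpec n A) (ProjSpace.toSpec n (ULift.{u} ℤ))
      (specULiftZIsTerminal.from (Spec (CommRingCat.of A))) := by
  have h := isPullback_projMapH n (zHom A)
  have h1 : Spec.map (CommRingCat.ofHom (zHom A)) =
      specULiftZIsTerminal.from (Spec (CommRingCat.of A)) := specULiftZIsTerminal.hom_ext _ _
  rwa [h1] at h

/-- `P^n_A ≅ P^n_ℤ ×_ℤ Spec A`. -/
noncomputable def projIso : ProjSpace n A ≅ ProjSpaceOver n (Spec (CommRingCat.of A)) :=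
  (isPullback_over n A).isoPullback

theorem projIso_hom_fst :
    (projIso n A).hom ≫ pullback.fst (ProjSpace.toSpec n (ULift.{u} ℤ))
      (specULiftZIsTerminal.from (Spec (CommRingCat.of A))) = projMapH n (zHom A) :=
  (isPullback_over n A).isoPullback_hom_fst

theorem projIso_hom_toBase :
    (projIso n A).hom ≫ ProjSpaceOver.toBase n (Spec (CommRingCat.of A)) = ProjSpace.toSpec n A :=
  (isPullback_over n A).isoPullback_hom_snd

theorem projIso_inv_toSpec :
    (projIso n A).inv ≫ ProjSpace.toSpec n A = ProjSpaceOver.toBase n (Spec (CommRingCat.of A)) := by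
  rw [Iso.inv_comp_eq, projIso_hom_toBase]

/-- `O(d)` on `P^n_{Spec A}` restricts to `O(d)` on `P^n_A`. -/
theorem pullback_projIso_hom_twistOver (d : ℤ) :
    Nonempty ((Scheme.Modules.pullback (projIso n A).hom).obj
        (Twist.twistOver n (Spec (CommRingCat.of A)) d) ≅ Twist.twistProjSpace n A d) := by
  obtain ⟨e⟩ := PnOverVanH9.pullback_projMapH_twist n (zHom A) d
  exact ⟨(Scheme.Modules.pullbackComp (projIso n A).hom
      (pullback.fst (ProjSpace.toSpec n (ULift.{u} ℤ))
        (specULiftZIsTerminal.from (Spec (CommRingCat.of A))))).app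
        (Twist.twistProjSpace n (ULift.{u} ℤ) d) ≪≫
    (Scheme.Modules.pullbackCongr (projIso_hom_fst n A)).app _ ≪≫ e⟩

theorem pullback_projIso_inv_twist (d : ℤ) :
    Nonempty ((Scheme.Modules.pullback (projIso n A).inv).obj (Twist.twistProjSpace n A d) ≅
      Twist.twistOver n (Spec (CommRingCat.of A)) d) := by
  obtain ⟨e⟩ := pullback_projIso_hom_twistOver n A d
  exact ⟨(Scheme.Modules.pullback (projIso n A).inv).mapIso e.symm ≪≫
    (Scheme.Modules.pullbackComp (projIso n A).inv (projIso n A).hom).app _ ≪≫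
    (Scheme.Modules.pullbackCongr (projIso n A).inv_hom_id).app _ ≪≫
    (Scheme.Modules.pullbackId _).app _⟩

variable {n A} in
/-- transport an `S`-morphism to `P^n_{Spec A}` to one to `P^n_A`, with its `O(d)`. -/
theorem pullback_comp_inv_twist {X : Scheme.{u}}
    (i : X ⟶ ProjSpaceOver n (Spec (CommRingCat.of A))) (d : ℤ) :
    Nonempty ((Scheme.Modules.pullback (i ≫ (projIso n A).inv)).obj (Twist.twistProjSpace n A d) ≅
      (Scheme.Modules.pullback i).obj (Twist.twistOver n (Spec (CommRingCat.of A)) d)) := by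
  obtain ⟨e⟩ := pullback_projIso_inv_twist n A d
  exact ⟨((Scheme.Modules.pullbackComp i (projIso n A).inv).app _).symm ≪≫
    (Scheme.Modules.pullback i).mapIso e⟩

end Iso

section Inv

variable {X : Scheme.{u}}

/-- tensor inverses are unique up to isomorphism. -/
theorem inverse_unique {A B C : X.Modules} (eB : tensorMod A B ≅ Coh.structureModule X)
    (eC : tensorMod A C ≅ Coh.structureModule X) : Nonempty (B ≅ C) :=
  ⟨(rightUnit B).symm ≪≫ mapL B eC.symm ≪≫ (assoc B A C).symm ≪≫ mapR (comm B A) C ≪≫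
    mapR eB C ≪≫ comm _ _ ≪≫ rightUnit C⟩

end Inv

end Groth.Agent.Lib.ESZH6
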