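import Mathlib
import Groth.Agent.Lib.FibRes2_helper8
import Groth.Agent.Lib.IrrDim_helper8
import Groth.Agent.Lib.DimGenFib_helper8

universe u
open AlgebraicGeometry CategoryTheory

namespace ClosedDimH8

/-- Chains lift along specializing maps. -/
theorem le_height_of_specializingMap {X Y : Scheme.{u}} (f : X ⟶ Y) (hs : SpecializingMap f) :
    ∀ (n : ℕ) (p : LTSeries Y), p.length = n → ∀ x : X, p.last ≤ f x →
      (n : ℕ∞) ≤ Order.height x := by
  intro n
  induction n with
  | zero => intro p _ x _; simp
  | succ n ih =>
    intro p hp x hx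
    have hne : p.length ≠ 0 := by omega
    have hlt : p.eraseLast.last < p.last := p.eraseLast_last_rel_last hne
    have hlt' : p.eraseLast.last < f x := lt_of_lt_of_le hlt hx
    have hspec : f x ⤳ p.eraseLast.last := hlt'.le
    obtain ⟨x', hx', hfx'⟩ := hs hspec
    have hx'x : x ⤳ x' := hx'
    have hlen : p.eraseLast.length = n := by
      rw [RelSeries.eraseLast_length]; omega
    have h1 := ih p.eraseLast hlen x' (le_of_eq hfx'.symm)
    have hx'lt : x' < x := by
      refine lt_of_le_not_ge hx'x ?_
      intro hge
      have h2 : x' ⤳ x := hge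
      have h3 : f x' ⤳ f x := h2.map f.continuous
      rw [hfx'] at h3
      exact (not_le_of_gt hlt') h3
    calc ((n + 1 : ℕ) : ℕ∞) = (n : ℕ∞) + 1 := by push_cast; rfl
      _ ≤ Order.height x' + 1 := by gcongr
      _ ≤ Order.height x := Order.height_add_one_le hx'lt

theorem height_le_of_specializingMap {X Y : Scheme.{u}} (f : X ⟶ Y) (hs : SpecializingMap f)
    (x : X) : Order.height (f x) ≤ Order.height x := by
  apply Order.height_le
  intro p hp
  exact le_height_of_specializingMap f hs p.length p rfl x (le_of_eq hp)

/-- Lower bound for the dimension of the source of a closed dominant morphism. -/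
theorem dim_add_le_of_specializingMap {X Y : Scheme.{u}} [IsIntegral X] [IsIntegral Y]
    (f : X ⟶ Y) [IsDominant f] [LocallyOfFiniteType f] (n : ℕ)
    (hn : @Algebra.trdeg (Y.residueField (f.base (genericPoint ↥X)))
      (X.residueField (genericPoint ↥X)) _ _
      (f.residueFieldMap (genericPoint ↥X)).hom.toAlgebra = n)
    (hs : SpecializingMap f) :
    topologicalKrullDim ↥Y + n ≤ topologicalKrullDim ↥X := by
  set ξ := genericPoint X with hξdef
  have hξ : ∀ x' : X, ξ ⤳ x' := fun x' => (genericPoint_spec X).specializes (Set.mem_univ _)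
  have hgen : f ξ = genericPoint Y := by
    have h1 : IsGenericPoint (f (genericPoint X)) (closure (f '' Set.univ)) :=
      (genericPoint_spec X).image f.continuous
    rw [Set.image_univ, f.denseRange.closure_range] at h1
    exact h1.eq (genericPoint_spec Y)
  have hη : ∀ y' : Y, f ξ ⤳ y' := by
    rw [hgen]
    exact fun y' => (genericPoint_spec Y).specializes (Set.mem_univ _)
  obtain ⟨n', hn', hh⟩ := Groth.Agent.FibRes2H8.height_asFiber f ξ
  have hnn : n' = n := by
    have : ((n' : ℕ) : Cardinal) = ((n : ℕ) : Cardinal) := by rw [← hn', hn]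
    exact_mod_cast this
  subst hnn
  obtain ⟨p, hplast, hplen⟩ := Order.exists_series_of_height_eq_coe _ hh
  have hmono : StrictMono (f.fiberι (f ξ) : f.fiber (f ξ) → X) := by
    intro a b hab
    have h1 : b ⤳ a := hab.le
    have h2 : ¬ a ⤳ b := fun h => (not_le_of_gt hab) h
    rw [Groth.Agent.FibRes2H8.specializes_fiber_iff] at h1 h2
    exact lt_of_le_not_ge h1 h2
  set q : LTSeries X := p.map (f.fiberι (f ξ)) hmono with hq
  set x' : X := f.fiberι (f ξ) p.head with hx'
  have hqhead : q.head = x' := rfl
  have hqlen : q.length = n' := hplen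
  have hco : (n' : ℕ∞) ≤ Order.coheight x' := by
    have := Order.length_le_coheight_head (p := q)
    rw [hqhead, hqlen] at this
    exact this
  have hfx' : f x' = f ξ := Groth.Agent.FibRes2H8.fiberι_mem f (f ξ) p.head
  have hht : Order.height (f ξ) ≤ Order.height x' := by
    have := height_le_of_specializingMap f hs x'
    rwa [hfx'] at this
  have hdimY : topologicalKrullDim Y = ((Order.height (f ξ) : ℕ∞) : WithBot ℕ∞) :=
    Groth.Agent.IrrDimH8.topDim_eq_height_generic Y (f ξ) hη
  have hdimX : topologicalKrullDim X = Order.krullDim X :=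
    Groth.Agent.DimGenFibH8.topDim_eq_krullDim X
  haveI : Nonempty X := ⟨ξ⟩
  rw [hdimY, hdimX, Order.krullDim_eq_iSup_height_add_coheight_of_nonempty]
  have h1 : Order.height (f ξ) + (n' : ℕ∞) ≤ ⨆ a : X, Order.height a + Order.coheight a :=
    le_trans (add_le_add hht hco) (le_iSup (fun a : X => Order.height a + Order.coheight a) x')
  exact_mod_cast WithBot.coe_le_coe.mpr h1

end ClosedDimH8
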