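import Mathlib
import Groth.Prelude
import Groth.Agent.Lib.CMMum1_helper9
import Groth.Agent.Lib.HypConn_helper9
import Groth.Agent.Lib.ExtDual3_helper9

/-!
# Horrocks' splitting criterion on `P^n_k` (helper9)
APPEND-ONLY once landed.
-/

set_option autoImplicit false
universe u
open CategoryTheory CategoryTheory.Limits AlgebraicGeometry TopologicalSpace Opposite Abelian

namespace Groth.Agent.Horrocks

open Groth.Agent.HHVan Groth.Agent.ProjDual Groth.Agent.InvInt QcqsLoc QCohExtn SerreCrit GenLocH8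
  TensH8 Groth.Agent.CMReg

section General

variable {X : Scheme.{u}}

/-- vanishing of cohomology passes to retracts -/
theorem subsingleton_HH_of_retract {A B : X.Modules} (j : A ⟶ B) (r : B ⟶ A) (h : j ≫ r = 𝟙 A)
    (i : ℕ) (hB : Subsingleton (Coh.HH X B i)) : Subsingleton (Coh.HH X A i) := by
  refine ⟨fun x y => ?_⟩
  have hx : ∀ z : Coh.HH X A i, hmap r i (hmap j i z) = z := fun z => by
    rw [← hmap_comp, h, hmap_id]
  rw [← hx x, ← hx y, Subsingleton.elim (hmap j i x) (hmap j i y)]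

/-- composition of morphisms `O ⟶ O` -/
lemma unitHom_comp_unitHom (a b : Γ(X, ⊤)) :
    SDivGenH8.unitHom (OO X) (ofFn a) ≫ SDivGenH8.unitHom (OO X) (ofFn b) =
      SDivGenH8.unitHom (OO X) (ofFn (a * b)) := by
  apply hom_OO_ext
  rw [FLFH8.unitHom_comp, ap_unitHom_one, ap_unitHom_one, ap_unitHom, rF_self]
  rfl

lemma unitHom_one : SDivGenH8.unitHom (OO X) (ofFn (1 : Γ(X, ⊤))) = 𝟙 (OO X) := by
  apply hom_OO_ext
  rw [ap_unitHom_one]
  rfl

/-- if every nonzero global function is a unit, every nonzero endomorphism of `O_X` is an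
isomorphism -/
theorem isIso_end_OO (hunit : ∀ a : Γ(X, ⊤), a ≠ 0 → IsUnit a) (c : OO X ⟶ OO X) (hc : c ≠ 0) :
    IsIso c := by
  have ha : toFn (ap c ⊤ (ofFn (1 : Γ(X, ⊤)))) ≠ 0 := by
    intro h0
    exact hc (hom_OO_eq_zero c h0)
  obtain ⟨u, hu⟩ := hunit _ ha
  have hc' : c = SDivGenH8.unitHom (OO X) (ofFn (u : Γ(X, ⊤))) := by
    apply hom_OO_ext
    rw [ap_unitHom_one, hu]
  refine ⟨SDivGenH8.unitHom (OO X) (ofFn ((u⁻¹ : Γ(X, ⊤)ˣ) : Γ(X, ⊤))), ?_, ?_⟩
  · rw [hc', unitHom_comp_unitHom, Units.mul_inv, unitHom_one]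
  · rw [hc', unitHom_comp_unitHom, Units.inv_mul, unitHom_one]

/-- transport of "nonzero endomorphisms are isomorphisms" along a fully faithful functor -/
theorem isIso_of_conj {C : Type*} [Category C] [Preadditive C] (T : C ⥤ C) [T.Full] [T.Faithful]
    [T.PreservesZeroMorphisms] {A U : C} (e : T.obj A ≅ U)
    (hU : ∀ c' : U ⟶ U, c' ≠ 0 → IsIso c') (c : A ⟶ A) (hc : c ≠ 0) : IsIso c := by
  have h2 : T.map c = e.hom ≫ (e.inv ≫ T.map c ≫ e.hom) ≫ e.inv := by
    simp only [Category.assoc, Iso.hom_inv_id, Category.comp_id, Iso.hom_inv_id_assoc]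
  have h1 : e.inv ≫ T.map c ≫ e.hom ≠ 0 := by
    intro h0
    apply hc
    apply T.map_injective
    rw [Functor.map_zero, h2, h0, zero_comp, comp_zero]
  haveI := hU _ h1
  haveI : IsIso (T.map c) := by
    rw [h2]
    infer_instance
  exact isIso_of_reflects_iso c T

theorem exists_preimage_ne_zero {C : Type*} [Category C] [Preadditive C] (T : C ⥤ C) [T.Full]
    [T.Faithful] [T.PreservesZeroMorphisms] {A B W : C} (e : T.obj B ≅ W) (φ' : T.obj A ⟶ W)
    (h : φ' ≠ 0) : ∃ φ : A ⟶ B, φ ≠ 0 := by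
  refine ⟨T.preimage (φ' ≫ e.inv), ?_⟩
  intro h0
  apply h
  have h1 : T.map (T.preimage (φ' ≫ e.inv)) = φ' ≫ e.inv := Functor.map_preimage _ _
  rw [h0, Functor.map_zero] at h1
  have h2 : φ' = (φ' ≫ e.inv) ≫ e.hom := by rw [Category.assoc, Iso.inv_hom_id, Category.comp_id]
  rw [h2, ← h1, zero_comp]

end General

section Proj

open Groth.Agent.ProjTens Groth.Agent.TensInv Groth.Agent.ExtDual Groth.Agent.ProjFin
  Groth.Agent.ProjInt

variable (n : ℕ) (k : Type u) [Field k]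

/-- `Γ(P^n_k, O) = k` -/
theorem bijective_cc_projSpace :
    Function.Bijective (cc (X := CohB1.ProjSpace n k) k) := by
  apply Groth.Agent.HypConn.bijective_cc_of_finrank_h0
  obtain ⟨e⟩ := twist_zero n k
  rw [← finrank_HH_of_iso k e 0]
  have h := Groth.Agent.ProjEuler.finrank_HH_zero k n 0
  rw [Nat.zero_add, Nat.choose_self] at h
  exact h

theorem isUnit_of_ne_zero (a : Γ(CohB1.ProjSpace n k, ⊤)) (ha : a ≠ 0) : IsUnit a := by
  obtain ⟨c, rfl⟩ := (bijective_cc_projSpace n k).2 a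
  have hc : c ≠ 0 := by
    rintro rfl
    exact ha (map_zero _)
  exact (isUnit_iff_ne_zero.mpr hc).map _

/-- every nonzero endomorphism of `O(d)` is an isomorphism -/
theorem isIso_end_twist (d : ℤ) (c : OO n k d ⟶ OO n k d) (hc : c ≠ 0) : IsIso c := by
  haveI := isEquivalence_tR_twist n k (-d)
  obtain ⟨e⟩ := twist_inv n k d (-d) (by omega)
  exact isIso_of_conj (tR (OO n k (-d))) (A := OO n k d)
    (U := SerreCrit.OO (CohB1.ProjSpace n k)) e
    (fun c' hc' => isIso_end_OO (isUnit_of_ne_zero n k) c' hc') c hc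

/-- Serre duality: nonvanishing top cohomology gives a nonzero map to `ω` -/
theorem exists_ne_zero_hom_of_top (F : (CohB1.ProjSpace n k).Modules) (hF : Coh.IsCoh F)
    (h : ¬ Subsingleton (Coh.HH (CohB1.ProjSpace n k) F n)) :
    ∃ φ : F ⟶ ωP k n, φ ≠ 0 := by
  obtain ⟨t, ht⟩ := exists_trace k n
  obtain ⟨x, hx⟩ : ∃ x : Coh.HH (CohB1.ProjSpace n k) F n, x ≠ 0 := by
    by_contra hcon
    have hcon' : ∀ x : Coh.HH (CohB1.ProjSpace n k) F n, x = 0 := fun x => by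
      by_contra hx
      exact hcon ⟨x, hx⟩
    exact h ⟨fun a b => by rw [hcon' a, hcon' b]⟩
  obtain ⟨ψ, hψ⟩ : ∃ ψ : Module.Dual k (Coh.HH (CohB1.ProjSpace n k) F n), ψ x ≠ 0 := by
    by_contra hcon
    have hcon' : ∀ ψ : Module.Dual k (Coh.HH (CohB1.ProjSpace n k) F n), ψ x = 0 := fun ψ => by
      by_contra hψ
      exact hcon ⟨ψ, hψ⟩
    exact hx ((Module.forall_dual_apply_eq_zero_iff k x).mp hcon')
  obtain ⟨φ, hφ⟩ := (ht F hF).2 ψ
  refine ⟨φ, ?_⟩
  rintro rfl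
  apply hψ
  rw [hφ x]
  have : hmap (0 : F ⟶ ωP k n) n x = 0 := by
    have h0 := hmap_add (0 : F ⟶ ωP k n) 0 n x
    rw [add_zero] at h0
    exact left_eq_add.mp h0
  rw [this, map_zero]

/-- `E` is `m`-regular (all cohomological degrees `≥ 1`) -/
def Reg (E : (CohB1.ProjSpace n k).Modules) (m : ℤ) : Prop :=
  ∀ q : ℕ, 1 ≤ q →
    Subsingleton (Coh.HH (CohB1.ProjSpace n k) (CohB1.tensorMod E (OO n k (m - q))) q)

theorem hom_eq_zero_of_h0 (E : (CohB1.ProjSpace n k).Modules) (m : ℤ)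
    (h : Subsingleton (Coh.HH (CohB1.ProjSpace n k) (CohB1.tensorMod E (OO n k m)) 0))
    (φ : OO n k (-m) ⟶ E) : φ = 0 := by
  haveI := hasExt_modules (CohB1.ProjSpace n k)
  have h1 := (subsingleton_ext_twist_iff n k (-m) m (by omega) E 0).mpr h
  exact (Ext.mk₀_bijective _ _).injective (Subsingleton.elim (Ext.mk₀ φ) (Ext.mk₀ 0))

theorem isZero_of_regular_of_h0 (E : (CohB1.ProjSpace n k).Modules) (hE : Coh.IsCoh E) (m : ℤ)
    (hreg : Reg n k E m)
    (h : Subsingleton (Coh.HH (CohB1.ProjSpace n k) (CohB1.tensorMod E (OO n k m)) 0)) :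
    IsZero E := by
  haveI := epi_sigma_desc n k hE m hreg
  have h0 : Sigma.desc (fun φ : OO n k (-m) ⟶ E => φ) = 0 := by
    apply Sigma.hom_ext
    intro φ
    rw [Sigma.ι_desc, comp_zero]
    exact hom_eq_zero_of_h0 n k E m h φ
  exact IsZero.of_epi_eq_zero _ h0

theorem exists_least_regular (E : (CohB1.ProjSpace n k).Modules) (hE : Coh.IsCoh E)
    (hnz : ¬ IsZero E) (m₀ : ℤ)
    (h₀ : ∀ m : ℤ, m ≤ m₀ →
      Subsingleton (Coh.HH (CohB1.ProjSpace n k) (CohB1.tensorMod E (OO n k m)) 0))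
    (N : ℤ) (hN : Reg n k E N) :
    ∃ m₁ : ℤ, m₁ ≤ N ∧ Reg n k E m₁ ∧ ¬ Reg n k E (m₁ - 1) := by
  obtain ⟨lb, hlb, hmin⟩ := Int.exists_least_of_bdd (P := Reg n k E)
    ⟨m₀ + 1, fun z hz => by
      by_contra hlt
      exact hnz (isZero_of_regular_of_h0 n k E hE z hz (h₀ z (by omega)))⟩ ⟨N, hN⟩
  refine ⟨lb, hmin N hN, hlb, fun h => ?_⟩
  have := hmin _ h
  omega

end Proj

end Groth.Agent.Horrocks
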