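import Mathlib
import Groth.Prelude
import Groth.Agent.Lib.Horrocks1_helper9
import Groth.Agent.S0022

/-!
# Horrocks' splitting criterion on `P^n_k`: splitting off a twist (helper9)
APPEND-ONLY once landed.
-/

set_option autoImplicit false
universe u
open CategoryTheory CategoryTheory.Limits AlgebraicGeometry TopologicalSpace Opposite Abelian

namespace Groth.Agent.Horrocks

open Groth.Agent.HHVan Groth.Agent.CMReg Groth.Agent.ProjTens Groth.Agent.TensInv
  Groth.Agent.ExtDual Groth.Agent.ProjFin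

variable (n : ℕ) (k : Type u) [Field k]

/-- a nonzero map `E(j) ⟶ O(a + j)` gives a nonzero map `E ⟶ O(a)` -/
theorem exists_ne_zero_untwist (E : (CohB1.ProjSpace n k).Modules) (a j c : ℤ) (hc : a + j = c)
    (φ' : CohB1.tensorMod E (OO n k j) ⟶ OO n k c) (h : φ' ≠ 0) :
    ∃ φ : E ⟶ OO n k a, φ ≠ 0 := by
  haveI := isEquivalence_tR_twist n k j
  obtain ⟨e⟩ := twist_add' n k a j c hc
  exact exists_preimage_ne_zero (tR (OO n k j)) (A := E) (B := OO n k a) e φ' h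

/-- splitting off a copy of `O(-m₁)`, `m₁` the regularity of `E` -/
theorem exists_split (hn : 1 ≤ n) (E : (CohB1.ProjSpace n k).Modules) (hE : Coh.IsCoh E)
    (hnz : ¬ IsZero E) (m₀ : ℤ)
    (h₀ : ∀ m : ℤ, m ≤ m₀ →
      Subsingleton (Coh.HH (CohB1.ProjSpace n k) (CohB1.tensorMod E (OO n k m)) 0))
    (hmid : ∀ (m : ℤ) (i : ℕ), 0 < i → i < n →
      Subsingleton (Coh.HH (CohB1.ProjSpace n k) (CohB1.tensorMod E (OO n k m)) i))
    (N : ℤ) (hN : Reg n k E N) :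
    ∃ m₁ : ℤ, m₁ ≤ N ∧ ∃ (s : OO n k (-m₁) ⟶ E) (φ : E ⟶ OO n k (-m₁)), s ≫ φ = 𝟙 _ := by
  obtain ⟨m₁, hm₁N, hreg, hnreg⟩ := exists_least_regular n k E hE hnz m₀ h₀ N hN
  refine ⟨m₁, hm₁N, ?_⟩
  -- the top cohomology of `E(m₁ - 1 - n)` does not vanish
  have htop : ¬ Subsingleton (Coh.HH (CohB1.ProjSpace n k)
      (CohB1.tensorMod E (OO n k (m₁ - 1 - n))) n) := by
    intro htop
    apply hnreg
    intro q hq
    rcases lt_trichotomy q n with hqn | hqn | hqn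
    · exact hmid _ q (by omega) hqn
    · subst hqn
      exact htop
    · haveI := isQCoh_twistBy n k E hE.1 (m₁ - 1 - q)
      exact Groth.Agent.S0022.result n k _ q (by omega)
  obtain ⟨φ', hφ'⟩ := exists_ne_zero_hom_of_top n k _
    (Groth.Agent.RegZero.isCoh_twistBy n k E hE (m₁ - 1 - n)) htop
  obtain ⟨φ, hφ⟩ := exists_ne_zero_untwist n k E (-m₁) (m₁ - 1 - n) (-((n : ℤ) + 1)) (by ring)
    φ' hφ'
  obtain ⟨b, p, hp, -⟩ := exists_epi_kernel_regular n k E hE m₁ hreg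
  haveI := hp
  have hpφ : p ≫ φ ≠ 0 := by
    intro h0
    apply hφ
    rw [← cancel_epi p, h0, comp_zero]
  obtain ⟨a, ha⟩ : ∃ a : Fin b, Sigma.ι (fun _ : Fin b => OO n k (-m₁)) a ≫ p ≫ φ ≠ 0 := by
    by_contra hcon
    apply hpφ
    apply Sigma.hom_ext
    intro a
    rw [comp_zero]
    by_contra ha
    exact hcon ⟨a, ha⟩
  haveI := isIso_end_twist n k (-m₁) _ ha
  refine ⟨inv (Sigma.ι (fun _ : Fin b => OO n k (-m₁)) a ≫ p ≫ φ) ≫
    Sigma.ι (fun _ : Fin b => OO n k (-m₁)) a ≫ p, φ, ?_⟩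
  rw [Category.assoc, Category.assoc, IsIso.inv_hom_id]

end Groth.Agent.Horrocks
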