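import Mathlib
import Groth.Prelude
import Groth.Agent.Lib.Horrocks2_helper9

/-!
# Horrocks' splitting criterion on `P^n_k`: the induction (helper9)
APPEND-ONLY once landed.
-/

set_option autoImplicit false
universe u
open CategoryTheory CategoryTheory.Limits AlgebraicGeometry TopologicalSpace Opposite Abelian

namespace Groth.Agent.Horrocks

section Abstract

universe v u'

variable {C : Type u'} [Category.{v} C]

/-- `∐_{Fin (r+1)} f ≅ f 0 ⨿ ∐_{Fin r} f ∘ succ` -/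
theorem nonempty_sigma_succ_iso [HasFiniteCoproducts C] {r : ℕ} (f : Fin (r + 1) → C) :
    Nonempty ((∐ f) ≅ f 0 ⨿ ∐ fun i : Fin r => f i.succ) := by
  let c₁ : Cofan fun i : Fin r => f i.succ := colimit.cocone _
  let c₂ : BinaryCofan (f 0) c₁.pt := BinaryCofan.mk coprod.inl coprod.inr
  have t₁ : IsColimit c₁ := colimit.isColimit _
  have t₂ : IsColimit c₂ := coprodIsCoprod _ _
  exact ⟨(colimit.isColimit (Discrete.functor f)).coconePointUniqueUpToIso
    (extendCofanIsColimit f t₁ t₂)⟩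

/-- a split epimorphism in an abelian category splits its source -/
theorem exists_split_kernel [Abelian C] {E B : C} (s : B ⟶ E) (φ : E ⟶ B) (h : s ≫ φ = 𝟙 B) :
    ∃ r : E ⟶ kernel φ, kernel.ι φ ≫ r = 𝟙 _ ∧ Nonempty (E ≅ B ⨿ kernel φ) := by
  let S : ShortComplex C := ShortComplex.mk (kernel.ι φ) φ (kernel.condition φ)
  have hS : S.Exact := ShortComplex.exact_of_f_is_kernel S (kernelIsKernel φ)
  let σ := ShortComplex.Splitting.ofExactOfSection S hS s h (inferInstanceAs (Mono (kernel.ι φ)))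
  refine ⟨σ.r, σ.f_r, ⟨σ.isoBinaryBiproduct ≪≫ biprod.isoCoprod _ _ ≪≫ coprod.braiding _ _⟩⟩

end Abstract

section Proj

open Groth.Agent.HHVan Groth.Agent.CMReg Groth.Agent.ProjTens Groth.Agent.TensInv
  Groth.Agent.ExtDual Groth.Agent.ProjFin Groth.Agent.ProjInt Groth.Agent.ProjDual
  Groth.Agent.ProjCech

variable (n : ℕ) (k : Type u) [Field k]

/-- `H^0(O(-m₁)(N)) ≠ 0` for `m₁ ≤ N` -/
theorem not_subsingleton_h0_twist (m₁ N : ℤ) (h : m₁ ≤ N) :
    ¬ Subsingleton (Coh.HH (CohB1.ProjSpace n k)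
      (CohB1.tensorMod (OO n k (-m₁)) (OO n k N)) 0) := by
  intro hsub
  obtain ⟨d, hd⟩ := Int.eq_ofNat_of_zero_le (by omega : 0 ≤ N - m₁)
  obtain ⟨e⟩ := twist_add' n k (-m₁) N (d : ℤ) (by omega)
  have h1 := finrank_HH_of_iso k e 0
  have h2 := Groth.Agent.ProjEuler.finrank_HH_zero k n d
  have h3 : Module.finrank k (Coh.HH (CohB1.ProjSpace n k)
      (CohB1.tensorMod (OO n k (-m₁)) (OO n k N)) 0) = 0 := Module.finrank_zero_of_subsingleton
  have h4 : 0 < (d + n).choose n := Nat.choose_pos (by omega)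
  have h5 : Module.finrank k (Coh.HH (CohB1.ProjSpace n k) (OO n k (d : ℤ)) 0) =
      (d + n).choose n := h2
  omega

/-- the dimension of `H^0(E(N))` drops when a twist with sections is split off -/
theorem finrank_lt_of_split {E E' B : (CohB1.ProjSpace n k).Modules} (hE : Coh.IsCoh E)
    (hE' : Coh.IsCoh E') (j : E' ⟶ E) (r : E ⟶ E') (hjr : j ≫ r = 𝟙 E') (s : B ⟶ E) (φ : E ⟶ B)
    (hsφ : s ≫ φ = 𝟙 B) (hjφ : j ≫ φ = 0) (N : ℤ)
    (hB : ¬ Subsingleton (Coh.HH (CohB1.ProjSpace n k) (CohB1.tensorMod B (OO n k N)) 0)) :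
    Module.finrank k (Coh.HH (CohB1.ProjSpace n k) (CohB1.tensorMod E' (OO n k N)) 0) <
      Module.finrank k (Coh.HH (CohB1.ProjSpace n k) (CohB1.tensorMod E (OO n k N)) 0) := by
  haveI := finite_HH k n _ (Groth.Agent.RegZero.isCoh_twistBy n k E hE N) 0
  haveI := finite_HH k n _ (Groth.Agent.RegZero.isCoh_twistBy n k E' hE' N) 0
  haveI : Module.Finite k (Coh.HH (CohB1.ProjSpace n k) ((tR (OO n k N)).obj E) 0) :=
    finite_HH k n _ (Groth.Agent.RegZero.isCoh_twistBy n k E hE N) 0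
  haveI : Module.Finite k (Coh.HH (CohB1.ProjSpace n k) ((tR (OO n k N)).obj E') 0) :=
    finite_HH k n _ (Groth.Agent.RegZero.isCoh_twistBy n k E' hE' N) 0
  have hinj : Function.Injective (Canon.HHlin k ((tR (OO n k N)).map j) 0) := by
    intro x y hxy
    have hx : ∀ z, hmap ((tR (OO n k N)).map r) 0 (hmap ((tR (OO n k N)).map j) 0 z) = z :=
      fun z => by rw [← hmap_comp, ← Functor.map_comp, hjr, CategoryTheory.Functor.map_id, hmap_id]
    have hxy' : hmap ((tR (OO n k N)).map j) 0 x = hmap ((tR (OO n k N)).map j) 0 y := hxy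
    rw [← hx x, ← hx y, hxy']
  have hle := LinearMap.finrank_le_finrank_of_injective hinj
  refine lt_of_le_of_ne hle ?_
  intro heq
  apply hB
  have hsurj : Function.Surjective (Canon.HHlin k ((tR (OO n k N)).map j) 0) :=
    (LinearMap.injective_iff_surjective_of_finrank_eq_finrank heq).mp hinj
  have hy : ∀ y : Coh.HH (CohB1.ProjSpace n k) (CohB1.tensorMod B (OO n k N)) 0, y = 0 := by
    intro y
    have h1 : hmap ((tR (OO n k N)).map φ) 0 (hmap ((tR (OO n k N)).map s) 0 y) = y := by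
      rw [← hmap_comp, ← Functor.map_comp, hsφ, CategoryTheory.Functor.map_id, hmap_id]
    obtain ⟨z, hz⟩ := hsurj (hmap ((tR (OO n k N)).map s) 0 y)
    have hz' : hmap ((tR (OO n k N)).map j) 0 z = hmap ((tR (OO n k N)).map s) 0 y := hz
    rw [← h1, ← hz', ← hmap_comp, ← Functor.map_comp, hjφ, Functor.map_zero]
    have h0 := hmap_add (0 : (tR (OO n k N)).obj E' ⟶ (tR (OO n k N)).obj B) 0 0 z
    rw [add_zero] at h0
    exact left_eq_add.mp h0
  exact ⟨fun a b => by rw [hy a, hy b]⟩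

theorem isCoh_OO (d : ℤ) : Coh.IsCoh (OO n k d) :=
  ⟨Groth.Agent.ProjTw.isQuasicoherent_twist (𝒜 n k) _,
    Groth.Agent.ProjTw.isFiniteType_twist (𝒜 n k) (hcov' n k) _⟩

/-- splitting off one twist: the complement inherits all hypotheses and has fewer sections -/
theorem exists_summand (hn : 1 ≤ n) (E : (CohB1.ProjSpace n k).Modules) (hE : Coh.IsCoh E)
    (hnz : ¬ IsZero E) (m₀ : ℤ)
    (h₀ : ∀ m : ℤ, m ≤ m₀ →
      Subsingleton (Coh.HH (CohB1.ProjSpace n k) (CohB1.tensorMod E (OO n k m)) 0))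
    (hmid : ∀ (m : ℤ) (i : ℕ), 0 < i → i < n →
      Subsingleton (Coh.HH (CohB1.ProjSpace n k) (CohB1.tensorMod E (OO n k m)) i))
    (N : ℤ) (hN : Reg n k E N) :
    ∃ (E' : (CohB1.ProjSpace n k).Modules) (m₁ : ℤ), Coh.IsCoh E' ∧
      (∀ m : ℤ, m ≤ m₀ →
        Subsingleton (Coh.HH (CohB1.ProjSpace n k) (CohB1.tensorMod E' (OO n k m)) 0)) ∧
      (∀ (m : ℤ) (i : ℕ), 0 < i → i < n →
        Subsingleton (Coh.HH (CohB1.ProjSpace n k) (CohB1.tensorMod E' (OO n k m)) i)) ∧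
      Reg n k E' N ∧
      Module.finrank k (Coh.HH (CohB1.ProjSpace n k) (CohB1.tensorMod E' (OO n k N)) 0) <
        Module.finrank k (Coh.HH (CohB1.ProjSpace n k) (CohB1.tensorMod E (OO n k N)) 0) ∧
      Nonempty (E ≅ OO n k (-m₁) ⨿ E') := by
  haveI hNoeth : AlgebraicGeometry.IsNoetherian (CohB1.ProjSpace n k) :=
    Groth.Agent.S2357.result (𝒜 n k)
  obtain ⟨m₁, hm₁, s, φ, hsφ⟩ := exists_split n k hn E hE hnz m₀ h₀ hmid N hN
  obtain ⟨r, hr, ⟨e⟩⟩ := exists_split_kernel s φ hsφ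
  have hE' : Coh.IsCoh (kernel φ) :=
    CohKerH8.isCoh_kernel (X := CohB1.ProjSpace n k) hE (isCoh_OO n k (-m₁)) φ
  have hret : ∀ (m : ℤ) (i : ℕ),
      Subsingleton (Coh.HH (CohB1.ProjSpace n k) (CohB1.tensorMod E (OO n k m)) i) →
      Subsingleton (Coh.HH (CohB1.ProjSpace n k) (CohB1.tensorMod (kernel φ) (OO n k m)) i) := by
    intro m i h
    refine subsingleton_HH_of_retract ((tR (OO n k m)).map (kernel.ι φ)) ((tR (OO n k m)).map r)
      ?_ i h
    rw [← Functor.map_comp, hr, CategoryTheory.Functor.map_id]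
  refine ⟨kernel φ, m₁, hE', fun m hm => hret m 0 (h₀ m hm),
    fun m i hi hin => hret m i (hmid m i hi hin), fun q hq => hret _ q (hN q hq), ?_, ⟨e⟩⟩
  exact finrank_lt_of_split n k hE hE' (kernel.ι φ) r hr s φ hsφ (kernel.condition φ) N
    (not_subsingleton_h0_twist n k m₁ N hm₁)

theorem horrocks_aux (hn : 1 ≤ n) (N : ℤ) (m₀ : ℤ) :
    ∀ (μ : ℕ) (E : (CohB1.ProjSpace n k).Modules), Coh.IsCoh E →
    (∀ m : ℤ, m ≤ m₀ →
      Subsingleton (Coh.HH (CohB1.ProjSpace n k) (CohB1.tensorMod E (OO n k m)) 0)) →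
    (∀ (m : ℤ) (i : ℕ), 0 < i → i < n →
      Subsingleton (Coh.HH (CohB1.ProjSpace n k) (CohB1.tensorMod E (OO n k m)) i)) →
    Reg n k E N →
    Module.finrank k (Coh.HH (CohB1.ProjSpace n k) (CohB1.tensorMod E (OO n k N)) 0) < μ →
    ∃ (r : ℕ) (m : Fin r → ℤ), Nonempty (E ≅ ∐ fun i => OO n k (m i)) := by
  intro μ
  induction μ with
  | zero =>
    intro E _ _ _ _ h
    exact absurd h (Nat.not_lt_zero _)
  | succ μ ih =>
    intro E hE h₀ hmid hN hfin
    by_cases hz : IsZero E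
    · refine ⟨0, Fin.elim0, ⟨hz.iso ?_⟩⟩
      rw [IsZero.iff_id_eq_zero]
      apply Sigma.hom_ext
      intro j
      exact Fin.elim0 j
    · obtain ⟨E', m₁, hE', h₀', hmid', hN', hlt, ⟨e⟩⟩ :=
        exists_summand n k hn E hE hz m₀ h₀ hmid N hN
      obtain ⟨r, m, ⟨e'⟩⟩ := ih E' hE' h₀' hmid' hN' (by omega)
      obtain ⟨e''⟩ := nonempty_sigma_succ_iso
        (fun i : Fin (r + 1) => OO n k ((Fin.cons (-m₁) m : Fin (r + 1) → ℤ) i))
      refine ⟨r + 1, Fin.cons (-m₁) m, ⟨e ≪≫ ?_ ≪≫ e''.symm⟩⟩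
      exact coprod.mapIso (Iso.refl _) e'

end Proj

end Groth.Agent.Horrocks
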