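import Mathlib
import Groth.Prelude
import Groth.Agent.Lib.Horrocks3_helper9

/-!
# Horrocks' splitting criterion on `P^n_k`: the criterion (helper9)
APPEND-ONLY once landed.
-/

set_option autoImplicit false
universe u
open CategoryTheory CategoryTheory.Limits AlgebraicGeometry TopologicalSpace Opposite Abelian

namespace Groth.Agent.Horrocks

open Groth.Agent.HHVan Groth.Agent.CMReg Groth.Agent.ProjTens Groth.Agent.TensInv
  Groth.Agent.ExtDual Groth.Agent.ProjFin Groth.Agent.ProjInt Groth.Agent.ProjDual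
  Groth.Agent.ProjCech

section Decomp

variable {X : Scheme.{u}}

/-- vanishing of the cohomology of a finite direct sum -/
theorem subsingleton_HH_of_decomp (T : X.Modules ⥤ X.Modules) [T.Additive] {M : X.Modules}
    {r : ℕ} (f : Fin r → X.Modules) (π : ∀ j, M ⟶ f j) (ι : ∀ j, f j ⟶ M)
    (htot : ∑ j, π j ≫ ι j = 𝟙 M) (i : ℕ) (h : ∀ j, Subsingleton (Coh.HH X (T.obj (f j)) i)) :
    Subsingleton (Coh.HH X (T.obj M) i) := by
  have hx : ∀ x : Coh.HH X (T.obj M) i, x = 0 := fun x => by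
    have h1 : x = ∑ j, HmapHom i ((SerreCrit.TT X).map (T.map (π j) ≫ T.map (ι j))) x := by
      rw [← AddMonoidHom.finset_sum_apply, ← map_sum, ← Functor.map_sum]
      simp_rw [← T.map_comp]
      rw [← Functor.map_sum, htot, T.map_id, CategoryTheory.Functor.map_id]
      exact (Sheaf.H.map_id_apply x).symm
    rw [h1]
    apply Finset.sum_eq_zero
    intro j _
    have h2 : HmapHom i ((SerreCrit.TT X).map (T.map (π j) ≫ T.map (ι j))) x =
        hmap (T.map (ι j)) i (hmap (T.map (π j)) i x) :=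
      hmap_comp _ _ i x
    rw [h2, Subsingleton.elim (h := h j) (hmap (T.map (π j)) i x) 0, map_zero]
  exact ⟨fun x y => by rw [hx x, hx y]⟩

theorem subsingleton_HH_sigma (T : X.Modules ⥤ X.Modules) [T.Additive]
    {r : ℕ} (f : Fin r → X.Modules) (i : ℕ)
    (h : ∀ j, Subsingleton (Coh.HH X (T.obj (f j)) i)) :
    Subsingleton (Coh.HH X (T.obj (∐ f)) i) := by
  refine subsingleton_HH_of_decomp T f
    (fun j => (biproduct.isoCoproduct f).inv ≫ biproduct.π f j) (fun j => Sigma.ι f j) ?_ i h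
  have h1 : ∀ j, Sigma.ι f j = biproduct.ι f j ≫ (biproduct.isoCoproduct f).hom := fun j => by
    rw [biproduct.isoCoproduct_hom, biproduct.ι_desc]
  have h2 : ∑ j, ((biproduct.isoCoproduct f).inv ≫ biproduct.π f j) ≫ Sigma.ι f j =
      (biproduct.isoCoproduct f).inv ≫ (∑ j, biproduct.π f j ≫ biproduct.ι f j) ≫
        (biproduct.isoCoproduct f).hom := by
    rw [Preadditive.sum_comp, Preadditive.comp_sum]
    apply Finset.sum_congr rfl
    intro j _
    rw [h1 j]
    simp only [Category.assoc]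
  rw [h2, biproduct.total, Category.id_comp, Iso.inv_hom_id]

end Decomp

section Proj

variable (n : ℕ) (k : Type u) [Field k]

theorem subsingleton_HH_OO_tensor (a t : ℤ) (q : ℕ) (h₀ : ¬ (q = 0 ∧ 0 ≤ a + t))
    (hn : ¬ (q = n ∧ a + t ≤ -((n : ℤ) + 1))) :
    Subsingleton (Coh.HH (CohB1.ProjSpace n k) (CohB1.tensorMod (OO n k a) (OO n k t)) q) := by
  obtain ⟨e⟩ := twist_add' n k a t (a + t) rfl
  haveI : Subsingleton (Coh.HH (CohB1.ProjSpace n k) (OO n k (a + t)) q) :=
    subsingleton_HH_twist (n := n) (R := k) (a + t) q h₀ hn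
  exact subsingleton_HH_of_iso e q

/-- cohomology of a sum of twists -/
theorem subsingleton_HH_sum_twists {r : ℕ} (m : Fin r → ℤ) (t : ℤ) (q : ℕ)
    (h : ∀ j, ¬ (q = 0 ∧ 0 ≤ m j + t) ∧ ¬ (q = n ∧ m j + t ≤ -((n : ℤ) + 1))) :
    Subsingleton (Coh.HH (CohB1.ProjSpace n k)
      (CohB1.tensorMod (∐ fun i => OO n k (m i)) (OO n k t)) q) :=
  subsingleton_HH_sigma (tR (OO n k t)) (fun i => OO n k (m i)) q
    (fun j => subsingleton_HH_OO_tensor n k (m j) t q (h j).1 (h j).2)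

/-- **Horrocks' criterion** for coherent modules on `P^n_k`, `n ≥ 1` -/
theorem horrocks (hn : 1 ≤ n) (E : (CohB1.ProjSpace n k).Modules) (hE : Coh.IsCoh E) :
    (∃ (r : ℕ) (m : Fin r → ℤ), Nonempty (E ≅ ∐ fun i => OO n k (m i))) ↔
      ((∃ m₀ : ℤ, ∀ m : ℤ, m ≤ m₀ →
          Subsingleton (Coh.HH (CohB1.ProjSpace n k) (CohB1.tensorMod E (OO n k m)) 0)) ∧
        ∀ (m : ℤ) (i : ℕ), 0 < i → i < n →
          Subsingleton (Coh.HH (CohB1.ProjSpace n k) (CohB1.tensorMod E (OO n k m)) i)) := by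
  constructor
  · rintro ⟨r, m, ⟨e⟩⟩
    have key : ∀ (t : ℤ) (q : ℕ),
        (∀ j, ¬ (q = 0 ∧ 0 ≤ m j + t) ∧ ¬ (q = n ∧ m j + t ≤ -((n : ℤ) + 1))) →
        Subsingleton (Coh.HH (CohB1.ProjSpace n k) (CohB1.tensorMod E (OO n k t)) q) := by
      intro t q h
      have h1 := subsingleton_HH_sum_twists n k m t q h
      exact subsingleton_of_iso ((tR (OO n k t)).mapIso e.symm) q h1
    refine ⟨⟨-(∑ j, |m j|) - 1, fun t ht => key t 0 (fun j => ⟨?_, ?_⟩)⟩,
      fun t i hi hin => key t i (fun j => ⟨by omega, by omega⟩)⟩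
    · rintro ⟨-, h⟩
      have h1 : |m j| ≤ ∑ j, |m j| :=
        Finset.single_le_sum (f := fun j => |m j|) (fun j _ => abs_nonneg _) (Finset.mem_univ j)
      have h2 := le_abs_self (m j)
      omega
    · rintro ⟨h, -⟩
      omega
  · rintro ⟨⟨m₀, h₀⟩, hmid⟩
    obtain ⟨d₀, hd₀⟩ := serre_vanishing n k E hE
    have hreg : Reg n k E (d₀ + n) := by
      intro q hq
      by_cases hqn : q ≤ n
      · exact hd₀ _ (by omega) q hq
      · haveI := isQCoh_twistBy n k E hE.1 (d₀ + n - q)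
        exact Groth.Agent.S0022.result n k _ q (by omega)
    exact horrocks_aux n k hn (d₀ + n) m₀ _ E hE h₀ hmid hreg (Nat.lt_succ_self _)

end Proj

end Groth.Agent.Horrocks
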