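import Mathlib
import Groth.Prelude
import Groth.Agent.Lib.Horrocks4_helper9
import Groth.Agent.Lib.FLF7_helper8
import Groth.Agent.Lib.FinCov3_helper8

/-!
# Horrocks' criterion for finite locally free modules: torsion-freeness (helper9)
APPEND-ONLY once landed.

A nonzero map from an invertible module to a finite locally free module on an integral scheme is a
monomorphism.
-/

set_option autoImplicit false
universe u
open CategoryTheory CategoryTheory.Limits AlgebraicGeometry TopologicalSpace Opposite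

namespace Groth.Agent.Horrocks

open QcqsLoc QCohExtn SerreCrit GenLocH8 TensH8 FLFH8

section Mono

variable {X : Scheme.{u}} [IsIntegral X]

/-- a section of a finite locally free module vanishing on a nonempty open subset vanishes -/
theorem flf_section_eq_zero_of_res {E : X.Modules} (hE : FlatMod.IsFinLocFree E) {V : X.Opens}
    (τ : Γ(E, V)) (W : X.Opens) (hWV : W ≤ V) (hW : (W : Set X).Nonempty)
    (h : rF E hWV τ = 0) : τ = 0 := by
  apply eq_zero_of_cover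
  intro y hy
  obtain ⟨U, r, hyU, ⟨α⟩⟩ := hE y
  obtain ⟨Wy, -, hyWy, -, t, ht⟩ := exists_affine_bases E hyU α
  refine ⟨Wy ⊓ V, inf_le_right, ⟨hyWy, hy⟩, ?_⟩
  obtain ⟨hspan, -⟩ := ht (Wy ⊓ V) inf_le_left
  have hmem : rF E (inf_le_right : Wy ⊓ V ≤ V) τ ∈ Submodule.span Γ(X, Wy ⊓ V)
      (Set.range fun j => rF E (inf_le_left : Wy ⊓ V ≤ Wy) (t j)) := by
    rw [hspan]; exact Submodule.mem_top
  obtain ⟨c, hc⟩ := (Submodule.mem_span_range_iff_exists_fun _).mp hmem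
  have hne : ((W ⊓ Wy : X.Opens) : Set X).Nonempty :=
    nonempty_preirreducible_inter W.isOpen Wy.isOpen hW ⟨y, hyWy⟩
  have hle : W ⊓ Wy ≤ Wy ⊓ V := le_inf inf_le_right (inf_le_left.trans hWV)
  have h1 : ∑ j, rX hle (c j) • rF E (inf_le_right : W ⊓ Wy ≤ Wy) (t j) = 0 := by
    have h2 := congrArg (rF E hle) hc
    rw [map_sum, rF_rF] at h2
    have h3 : rF E (hle.trans inf_le_right) τ = 0 := by
      have h4 := congrArg (rF E (inf_le_left : W ⊓ Wy ≤ W)) h
      rw [rF_rF, map_zero] at h4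
      exact h4
    rw [h3] at h2
    rw [← h2]
    apply Finset.sum_congr rfl
    intro j _
    rw [rF_smul, rF_rF]
  have hli := (ht (W ⊓ Wy) inf_le_right).2
  have h4 : ∀ j, rX hle (c j) = 0 := fun j =>
    linearIndependent_iff'.mp hli Finset.univ _ h1 j (Finset.mem_univ j)
  haveI : Nonempty (W ⊓ Wy : X.Opens) := ⟨⟨hne.some, hne.some_mem⟩⟩
  have h5 : ∀ j, c j = 0 := fun j => by
    apply map_injective_of_isIntegral X (homOfLE hle)
    rw [map_zero]
    exact h4 j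
  rw [← hc]
  apply Finset.sum_eq_zero
  intro j _
  rw [h5 j, zero_smul]

/-- a nonzero map from an invertible module to a finite locally free module on an integral
scheme is a monomorphism -/
theorem mono_of_ne_zero_flf {L E : X.Modules} (hL : PicF.IsInvertible L)
    (hE : FlatMod.IsFinLocFree E) (φ : L ⟶ E) (hφ : φ ≠ 0) : Mono φ := by
  apply AcycEmb.mono_of_injective
  intro W
  rw [injective_iff_map_eq_zero]
  intro a ha
  apply eq_zero_of_cover
  intro x hx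
  obtain ⟨W₁, -, hxW₁, hW₁W, e, he⟩ := exists_isGen_le hL x W hx
  obtain ⟨U, r, hxU, ⟨α⟩⟩ := hE x
  obtain ⟨W₂, -, hxW₂, -, t, ht⟩ := exists_affine_bases E hxU α
  have hW'W : W₁ ⊓ W₂ ≤ W := inf_le_left.trans hW₁W
  refine ⟨W₁ ⊓ W₂, hW'W, ⟨hxW₁, hxW₂⟩, ?_⟩
  obtain ⟨c, hc⟩ := (he (W₁ ⊓ W₂) inf_le_left).1 (rF L hW'W a)
  obtain ⟨hspan, hli⟩ := ht (W₁ ⊓ W₂) inf_le_right
  have hmem : ap φ (W₁ ⊓ W₂) (rF L (inf_le_left : W₁ ⊓ W₂ ≤ W₁) e) ∈
      Submodule.span Γ(X, W₁ ⊓ W₂)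
        (Set.range fun j => rF E (inf_le_right : W₁ ⊓ W₂ ≤ W₂) (t j)) := by
    rw [hspan]; exact Submodule.mem_top
  obtain ⟨d, hd⟩ := (Submodule.mem_span_range_iff_exists_fun _).mp hmem
  have h1 : ∑ j, (c * d j) • rF E (inf_le_right : W₁ ⊓ W₂ ≤ W₂) (t j) = 0 := by
    have h2 := congrArg (rF E hW'W) ha
    rw [← ap_rF, map_zero, hc, ap_smul, ← hd, Finset.smul_sum] at h2
    rw [← h2]
    apply Finset.sum_congr rfl
    intro j _
    rw [mul_smul]
  have h3 : ∀ j, c * d j = 0 := fun j =>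
    linearIndependent_iff'.mp hli Finset.univ _ h1 j (Finset.mem_univ j)
  haveI : Nonempty (W₁ ⊓ W₂ : X.Opens) := ⟨⟨x, ⟨hxW₁, hxW₂⟩⟩⟩
  haveI : IsDomain Γ(X, W₁ ⊓ W₂) := inferInstance
  by_cases hc0 : c = 0
  · rw [hc, hc0, zero_smul]
  · exfalso
    have hd0 : ∀ j, d j = 0 := fun j => (mul_eq_zero.mp (h3 j)).resolve_left hc0
    have h2 : ap φ (W₁ ⊓ W₂) (rF L (inf_le_left : W₁ ⊓ W₂ ≤ W₁) e) = 0 := by
      rw [← hd]
      apply Finset.sum_eq_zero
      intro j _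
      rw [hd0 j, zero_smul]
    apply hφ
    apply Scheme.Modules.hom_ext
    intro V
    ext b
    show ap φ V b = 0
    by_cases hV : (V : Set X).Nonempty
    · have hne : ((V ⊓ (W₁ ⊓ W₂) : X.Opens) : Set X).Nonempty :=
        nonempty_preirreducible_inter V.isOpen (W₁ ⊓ W₂).isOpen hV ⟨x, ⟨hxW₁, hxW₂⟩⟩
      apply flf_section_eq_zero_of_res hE (ap φ V b) (V ⊓ (W₁ ⊓ W₂)) inf_le_left hne
      rw [← ap_rF]
      obtain ⟨c', hc'⟩ := (he (V ⊓ (W₁ ⊓ W₂)) (inf_le_right.trans inf_le_left)).1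
        (rF L (inf_le_left : V ⊓ (W₁ ⊓ W₂) ≤ V) b)
      rw [hc', ap_smul]
      have h5 := congrArg (rF E (inf_le_right : V ⊓ (W₁ ⊓ W₂) ≤ W₁ ⊓ W₂)) h2
      rw [← ap_rF, rF_rF, map_zero] at h5
      rw [h5, smul_zero]
    · apply eq_zero_of_cover
      intro y hy
      exact absurd ⟨y, hy⟩ hV

end Mono

end Groth.Agent.Horrocks
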