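import Mathlib
import Groth.Prelude
import Groth.Agent.Lib.Horrocks5_helper9
import Groth.Agent.Lib.ProjNull_helper3
import Groth.Agent.Lib.ProjTwPow_helper5

/-!
# Horrocks' criterion for finite locally free modules: vanishing of `H^0(E(m))`, `m ≪ 0` (helper9)
APPEND-ONLY once landed.
-/

set_option autoImplicit false
universe u
open CategoryTheory CategoryTheory.Limits AlgebraicGeometry TopologicalSpace Opposite Abelian

namespace Groth.Agent.Horrocks

open Groth.Agent.HHVan Groth.Agent.CMReg Groth.Agent.ProjTens Groth.Agent.TensInv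
  Groth.Agent.ExtDual Groth.Agent.ProjFin Groth.Agent.ProjInt Groth.Agent.ProjDual
  Groth.Agent.ProjCech

section Integral

variable (n : ℕ) (k : Type u) [Field k]

theorem X_mem_irrelevant (i : Fin (n + 1)) :
    (MvPolynomial.X i : MvPolynomial (Fin (n + 1)) k) ∈
      (HomogeneousIdeal.irrelevant (CohB1.polyGrading n k)).toIdeal := by
  change MvPolynomial.X i ∈ HomogeneousIdeal.irrelevant (CohB1.polyGrading n k)
  rw [HomogeneousIdeal.mem_irrelevant_iff, GradedRing.proj_apply]
  exact DirectSum.decompose_of_mem_ne (CohB1.polyGrading n k)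
    ((MvPolynomial.mem_homogeneousSubmodule 1 _).mpr (MvPolynomial.isHomogeneous_X k i))
    one_ne_zero

theorem isIntegral_projSpace : IsIntegral (CohB1.ProjSpace n k) := by
  refine (Groth.Agent.Lib.ProjNull_helper3.proj_isIntegral_iff (CohB1.polyGrading n k)
    (fun f _ hf => hf.eq_zero)).mpr
    ⟨⟨MvPolynomial.X 0, X_mem_irrelevant n k 0, MvPolynomial.X_ne_zero 0⟩,
      fun f _ g _ h => mul_eq_zero.mp h⟩

end Integral

section Vanish

open QcqsLoc QCohExtn SerreCrit Groth.Agent.InvInt

theorem isInvertible_OO (n : ℕ) (k : Type u) [Field k] (d : ℤ) :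
    PicF.IsInvertible (OO n k d) :=
  Groth.Agent.ProjTw.isInvertible_twist (𝒜 n k) (hcov' n k) d

/-- `H^0` of a monomorphism is injective -/
theorem injective_hmap_zero_of_mono {X : Scheme.{u}} {M N : X.Modules} (φ : M ⟶ N) [Mono φ] :
    Function.Injective (hmap φ 0) := by
  rw [injective_iff_map_eq_zero]
  intro y hy
  apply (h0 M).injective
  rw [map_zero]
  have h1 : SDivGenH8.unitHom M (h0 M y) ≫ φ = 0 ≫ φ := by
    rw [FLFH8.unitHom_comp, h0_nat, hy, map_zero, zero_comp]
    apply hom_OO_eq_zero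
    rw [ap_unitHom_one]
  have h2 := (cancel_mono φ).mp h1
  have h3 := ap_unitHom_one M (h0 M y)
  rw [h2] at h3
  exact h3.symm

variable (n : ℕ) (k : Type u) [Field k]

/-- for a finite locally free coherent module `E` on `P^n_k`, `n ≥ 1`, `H^0(E(m)) = 0` for all
sufficiently negative `m` -/
theorem exists_h0_vanish (hn : 1 ≤ n) (E : (CohB1.ProjSpace n k).Modules) (hE : Coh.IsCoh E)
    (hflf : FlatMod.IsFinLocFree E) :
    ∃ m₀ : ℤ, ∀ m : ℤ, m ≤ m₀ →
      Subsingleton (Coh.HH (CohB1.ProjSpace n k) (CohB1.tensorMod E (OO n k m)) 0) := by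
  haveI := isIntegral_projSpace n k
  haveI := hasExt_modules (CohB1.ProjSpace n k)
  haveI : Module.Finite k (Coh.HH (CohB1.ProjSpace n k) E 0) := finite_HH k n E hE 0
  refine ⟨-(Module.finrank k (Coh.HH (CohB1.ProjSpace n k) E 0) : ℤ), fun m hm => ?_⟩
  refine (subsingleton_ext_twist_iff n k (-m) m (by omega) E 0).mp ?_
  have hz : ∀ φ : OO n k (-m) ⟶ E, φ = 0 := by
    intro φ
    by_contra hφ
    haveI : Mono φ := mono_of_ne_zero_flf (isInvertible_OO n k (-m)) hflf φ hφ
    obtain ⟨t, ht⟩ := Int.eq_ofNat_of_zero_le (by omega : 0 ≤ -m)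
    have h1 := Groth.Agent.ProjEuler.finrank_HH_zero k n t
    have h2 : Module.finrank k (Coh.HH (CohB1.ProjSpace n k) (OO n k (-m)) 0) ≤
        Module.finrank k (Coh.HH (CohB1.ProjSpace n k) E 0) :=
      LinearMap.finrank_le_finrank_of_injective (f := Canon.HHlin k φ 0)
        (injective_hmap_zero_of_mono φ)
    rw [ht] at h2
    have h1' : Module.finrank k (Coh.HH (CohB1.ProjSpace n k) (OO n k (t : ℤ)) 0) =
        (t + n).choose n := h1
    rw [h1'] at h2
    have h3 : t + 1 ≤ (t + n).choose n := by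
      have h4 : (t + 1).choose t ≤ (t + n).choose t := Nat.choose_le_choose t (by omega)
      rw [Nat.choose_succ_self_right] at h4
      rw [← Nat.choose_symm_add]
      exact h4
    omega
  refine ⟨fun a b => ?_⟩
  obtain ⟨φ, rfl⟩ := (Ext.mk₀_bijective _ _).surjective a
  obtain ⟨ψ, rfl⟩ := (Ext.mk₀_bijective _ _).surjective b
  rw [hz φ, hz ψ]

end Vanish

end Groth.Agent.Horrocks
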