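import Mathlib

/-!
# Topological Krull dimension: restriction of chains to subspaces, covers (lead)
-/

open TopologicalSpace Topology Set

namespace Groth.Agent.TopDimLead

universe u v
variable {X : Type u} [TopologicalSpace X]

theorem isIrreducible_preimage_val {S Z : Set X} (hZ : IsIrreducible Z) (hZS : Z ⊆ S) :
    IsIrreducible ((↑) ⁻¹' Z : Set S) := by
  obtain ⟨⟨z, hz⟩, hpre⟩ := hZ
  refine ⟨⟨⟨z, hZS hz⟩, hz⟩, ?_⟩
  intro U V hU hV hU' hV'
  obtain ⟨a, ha, haU⟩ := hU'
  obtain ⟨b, hb, hbV⟩ := hV'
  obtain ⟨U', hU', rfl⟩ := isOpen_induced_iff.mp hU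
  obtain ⟨V', hV', rfl⟩ := isOpen_induced_iff.mp hV
  obtain ⟨c, hc, hcU, hcV⟩ := hpre U' V' hU' hV' ⟨a, ha, haU⟩ ⟨b, hb, hbV⟩
  exact ⟨⟨c, hZS hc⟩, hc, hcU, hcV⟩

theorem dim_le_of_forall {c : WithBot ℕ∞}
    (h : ∀ l : LTSeries (IrreducibleCloseds X), (l.length : WithBot ℕ∞) ≤ c) :
    topologicalKrullDim X ≤ c := iSup_le h

theorem series_le_last (l : LTSeries (IrreducibleCloseds X)) (i : Fin (l.length + 1)) :
    ((l i : IrreducibleCloseds X) : Set X) ⊆ (l.last : Set X) := by
  have : l i ≤ l.last := l.monotone (Fin.le_last i)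
  exact this

theorem series_head_le (l : LTSeries (IrreducibleCloseds X)) (i : Fin (l.length + 1)) :
    (l.head : Set X) ⊆ ((l i : IrreducibleCloseds X) : Set X) := by
  have : l.head ≤ l i := l.monotone (Fin.zero_le i)
  exact this

/-- A chain whose last member lies in `S` restricts to a chain of the same length in `S`. -/
theorem length_le_dim_of_last_subset (S : Set X) (l : LTSeries (IrreducibleCloseds X))
    (h : (l.last : Set X) ⊆ S) : (l.length : WithBot ℕ∞) ≤ topologicalKrullDim S := by
  have hsub : ∀ i, ((l i : IrreducibleCloseds X) : Set X) ⊆ S := fun i =>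
    (series_le_last l i).trans h
  let g : Fin (l.length + 1) → IrreducibleCloseds S := fun i =>
    ⟨(↑) ⁻¹' ((l i : IrreducibleCloseds X) : Set X),
      isIrreducible_preimage_val (l i).isIrreducible (hsub i),
      (l i).isClosed.preimage continuous_subtype_val⟩
  have hg : StrictMono g := by
    intro i j hij
    have hlt : l i < l j := l.strictMono hij
    have hle : ((l i : IrreducibleCloseds X) : Set X) ⊆ (l j : Set X) := hlt.le
    have hle' : g i ≤ g j := fun x hx => hle hx
    refine lt_of_le_of_ne hle' ?_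
    intro heq
    apply hlt.ne
    apply IrreducibleCloseds.ext
    have h2 : ((↑) ⁻¹' ((l i : IrreducibleCloseds X) : Set X) : Set S) =
        (↑) ⁻¹' ((l j : IrreducibleCloseds X) : Set X) :=
      congrArg (fun z : IrreducibleCloseds S => (z : Set S)) heq
    ext x
    constructor
    · intro hx
      exact (Set.ext_iff.mp h2 ⟨x, hsub _ hx⟩).mp hx
    · intro hx
      exact (Set.ext_iff.mp h2 ⟨x, hsub _ hx⟩).mpr hx
  exact Order.LTSeries.length_le_krullDim (LTSeries.mk l.length g hg)

/-- A chain whose first member meets the open `U` restricts to a chain of the same length in `U`. -/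
theorem length_le_dim_of_head_inter_open (U : Set X) (hU : IsOpen U)
    (l : LTSeries (IrreducibleCloseds X)) (h : ((l.head : Set X) ∩ U).Nonempty) :
    (l.length : WithBot ℕ∞) ≤ topologicalKrullDim U := by
  have hne : ∀ i, (((l i : IrreducibleCloseds X) : Set X) ∩ U).Nonempty := fun i =>
    h.mono (inter_subset_inter_left _ (series_head_le l i))
  let g : Fin (l.length + 1) → IrreducibleCloseds U := fun i =>
    ⟨(↑) ⁻¹' ((l i : IrreducibleCloseds X) : Set X),
      (l i).isIrreducible.preimage hU.isOpenEmbedding_subtypeVal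
        (by simpa [Subtype.range_coe] using hne i),
      (l i).isClosed.preimage continuous_subtype_val⟩
  have hg : StrictMono g := by
    intro i j hij
    have hlt : l i < l j := l.strictMono hij
    have hle : ((l i : IrreducibleCloseds X) : Set X) ⊆ (l j : Set X) := hlt.le
    have hle' : g i ≤ g j := fun x hx => hle hx
    refine lt_of_le_of_ne hle' ?_
    intro heq
    apply hlt.ne
    apply IrreducibleCloseds.ext
    have h2 : ((↑) ⁻¹' ((l i : IrreducibleCloseds X) : Set X) : Set U) =
        (↑) ⁻¹' ((l j : IrreducibleCloseds X) : Set X) :=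
      congrArg (fun z : IrreducibleCloseds U => (z : Set U)) heq
    have h3 : ((l i : IrreducibleCloseds X) : Set X) ∩ U =
        ((l j : IrreducibleCloseds X) : Set X) ∩ U := by
      ext x
      constructor
      · rintro ⟨hx, hxU⟩
        exact ⟨(Set.ext_iff.mp h2 ⟨x, hxU⟩).mp hx, hxU⟩
      · rintro ⟨hx, hxU⟩
        exact ⟨(Set.ext_iff.mp h2 ⟨x, hxU⟩).mpr hx, hxU⟩
    apply subset_antisymm hle
    calc ((l j : IrreducibleCloseds X) : Set X)
        ⊆ closure (((l j : IrreducibleCloseds X) : Set X) ∩ U) :=
          subset_closure_inter_of_isPreirreducible_of_isOpen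
            (l j).isIrreducible.isPreirreducible hU (hne _)
      _ = closure (((l i : IrreducibleCloseds X) : Set X) ∩ U) := by rw [h3]
      _ ⊆ ((l i : IrreducibleCloseds X) : Set X) :=
          closure_minimal inter_subset_left (l i).isClosed
  exact Order.LTSeries.length_le_krullDim (LTSeries.mk l.length g hg)

theorem head_nonempty (l : LTSeries (IrreducibleCloseds X)) : (l.head : Set X).Nonempty :=
  l.head.isIrreducible.nonempty

/-- Length of any chain is bounded by the local dimension at any point of its first member. -/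
theorem length_le_localDim (l : LTSeries (IrreducibleCloseds X)) {x : X} (hx : x ∈ (l.head : Set X)) :
    (l.length : WithBot ℕ∞) ≤
      ⨅ U : {U : TopologicalSpace.Opens X // x ∈ U}, topologicalKrullDim (U.1 : Set X) :=
  le_iInf fun U => length_le_dim_of_head_inter_open (U.1 : Set X) U.1.isOpen l ⟨x, hx, U.2⟩

/-- An irreducible closed set is contained in one member of a locally finite closed cover. -/
theorem exists_subset_of_locallyFinite {ι : Type v} (Y : ι → Set X) (hY : ∀ i, IsClosed (Y i))
    (hlf : LocallyFinite Y) (hcov : ⋃ i, Y i = Set.univ) {Z : Set X} (hZ : IsIrreducible Z) :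
    ∃ i, Z ⊆ Y i := by
  classical
  obtain ⟨x, hx⟩ := hZ.nonempty
  obtain ⟨t, ht, hfin⟩ := hlf x
  have hxU : x ∈ interior t := mem_interior_iff_mem_nhds.mpr ht
  have h1 : Z ⊆ closure (Z ∩ interior t) :=
    subset_closure_inter_of_isPreirreducible_of_isOpen hZ.isPreirreducible isOpen_interior
      ⟨x, hx, hxU⟩
  have h2 : Z ∩ interior t ⊆ ⋃₀ ((hfin.toFinset.image Y : Finset (Set X)) : Set (Set X)) := by
    rintro y ⟨hyZ, hyt⟩
    have : y ∈ ⋃ i, Y i := by rw [hcov]; trivial
    obtain ⟨i, hi⟩ := mem_iUnion.mp this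
    refine mem_sUnion.mpr ⟨Y i, ?_, hi⟩
    simp only [Finset.coe_image, Set.Finite.coe_toFinset, mem_image, Set.mem_ofPred_eq]
    exact ⟨i, ⟨y, hi, interior_subset hyt⟩, rfl⟩
  have hcl : IsClosed (⋃₀ ((hfin.toFinset.image Y : Finset (Set X)) : Set (Set X))) := by
    rw [Finset.coe_image, Set.Finite.coe_toFinset, Set.sUnion_image]
    exact hfin.isClosed_biUnion fun i _ => hY i
  have h3 : Z ⊆ ⋃₀ ((hfin.toFinset.image Y : Finset (Set X)) : Set (Set X)) :=
    h1.trans (closure_minimal h2 hcl)
  obtain ⟨z, hz, hZz⟩ := isIrreducible_iff_sUnion_isClosed.mp hZ (hfin.toFinset.image Y)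
    (by
      intro s hs
      simp only [Finset.mem_image] at hs
      obtain ⟨i, -, rfl⟩ := hs
      exact hY i) h3
  simp only [Finset.mem_image] at hz
  obtain ⟨i, -, rfl⟩ := hz
  exact ⟨i, hZz⟩

theorem dim_eq_iSup_of_locallyFinite_closed_cover {ι : Type v} (Y : ι → Set X)
    (hY : ∀ i, IsClosed (Y i)) (hlf : LocallyFinite Y) (hcov : ⋃ i, Y i = Set.univ) :
    topologicalKrullDim X = ⨆ i, topologicalKrullDim (Y i) := by
  apply le_antisymm
  · apply dim_le_of_forall
    intro l
    obtain ⟨i, hi⟩ := exists_subset_of_locallyFinite Y hY hlf hcov l.last.isIrreducible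
    exact le_iSup_of_le i (length_le_dim_of_last_subset (Y i) l hi)
  · exact iSup_le fun i => topologicalKrullDim_subspace_le X (Y i)

theorem dim_eq_iSup_of_finite_closed_cover {ι : Type v} [Finite ι] (Y : ι → Set X)
    (hY : ∀ i, IsClosed (Y i)) (hcov : ⋃ i, Y i = Set.univ) :
    topologicalKrullDim X = ⨆ i, topologicalKrullDim (Y i) :=
  dim_eq_iSup_of_locallyFinite_closed_cover Y hY (locallyFinite_of_finite Y) hcov

theorem dim_eq_iSup_of_open_cover {ι : Type v} (U : ι → Set X) (hU : ∀ i, IsOpen (U i))
    (hcov : ⋃ i, U i = Set.univ) :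
    topologicalKrullDim X = ⨆ i, topologicalKrullDim (U i) := by
  apply le_antisymm
  · apply dim_le_of_forall
    intro l
    obtain ⟨x, hx⟩ := head_nonempty l
    have : x ∈ ⋃ i, U i := by rw [hcov]; trivial
    obtain ⟨i, hi⟩ := mem_iUnion.mp this
    exact le_iSup_of_le i (length_le_dim_of_head_inter_open (U i) (hU i) l ⟨x, hx, hi⟩)
  · exact iSup_le fun i => topologicalKrullDim_subspace_le X (U i)

/-- In a Noetherian T0 space of dimension `< 1` everything is finite discrete. -/
theorem finite_discrete_of_dim_lt_one [NoetherianSpace X] [T0Space X]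
    (h : topologicalKrullDim X < 1) : Finite X ∧ DiscreteTopology X := by
  classical
  -- no strict inclusion of irreducible closed sets
  have hno : ∀ A B : IrreducibleCloseds X, A ≤ B → A = B := by
    intro A B hAB
    by_contra hne
    have hlt : A < B := lt_of_le_of_ne hAB hne
    have : (1 : WithBot ℕ∞) ≤ topologicalKrullDim X :=
      Order.one_le_krullDim_iff.mpr ⟨A, B, hlt⟩
    exact absurd h (not_lt.mpr this)
  -- every irreducible closed set is a singleton
  have hsing : ∀ Z : IrreducibleCloseds X, ∀ x ∈ (Z : Set X), (Z : Set X) = {x} := by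
    intro Z x hx
    have hcl : (⟨closure {x}, isIrreducible_singleton.closure, isClosed_closure⟩ :
        IrreducibleCloseds X) = Z :=
      hno _ Z (closure_minimal (singleton_subset_iff.mpr hx) Z.isClosed)
    have hZ : (Z : Set X) = closure {x} := by rw [← hcl]; rfl
    apply subset_antisymm _ (singleton_subset_iff.mpr hx)
    intro y hy
    have hy' : y ∈ closure ({x} : Set X) := hZ ▸ hy
    have hcl2 : (⟨closure {y}, isIrreducible_singleton.closure, isClosed_closure⟩ :
        IrreducibleCloseds X) = Z :=
      hno _ Z (closure_minimal (singleton_subset_iff.mpr hy) Z.isClosed)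
    have hZ2 : (Z : Set X) = closure {y} := by rw [← hcl2]; rfl
    have hins : Inseparable y x := by
      rw [inseparable_iff_closure_eq, ← hZ, ← hZ2]
    exact hins.eq
  have hclosed : ∀ x : X, IsClosed ({x} : Set X) := by
    intro x
    have := hsing ⟨closure {x}, isIrreducible_singleton.closure, isClosed_closure⟩ x
      (subset_closure (mem_singleton x))
    have h2 : closure ({x} : Set X) = {x} := this
    rw [← h2]; exact isClosed_closure
  haveI : T1Space X := ⟨hclosed⟩
  have hfin : (Set.univ : Set X).Finite := by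
    rw [← sUnion_irreducibleComponents]
    apply Set.Finite.sUnion NoetherianSpace.finite_irreducibleComponents
    intro s hs
    have hs' := (irreducibleComponents_eq_maximals_closed X ▸ hs : s ∈ { s | Maximal (fun x ↦ IsClosed x ∧ IsIrreducible x) s})
    obtain ⟨x, hx⟩ := hs'.1.2.nonempty
    have := hsing ⟨s, hs'.1.2, hs'.1.1⟩ x hx
    have h2 : s = {x} := this
    rw [h2]; exact Set.finite_singleton x
  haveI : Finite X := Set.finite_univ_iff.mp hfin
  exact ⟨inferInstance, inferInstance⟩

theorem dim_nonneg_of_nonempty [Nonempty X] : 0 ≤ topologicalKrullDim X := by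
  obtain ⟨x⟩ := ‹Nonempty X›
  haveI : Nonempty (IrreducibleCloseds X) :=
    ⟨⟨closure {x}, isIrreducible_singleton.closure, isClosed_closure⟩⟩
  exact Order.krullDim_nonneg

/-- dimension of a subspace of a subspace is bounded by dimension of any subspace containing it. -/
theorem dim_mono {A B : Set X} (h : A ⊆ B) : topologicalKrullDim A ≤ topologicalKrullDim B := by
  have : IsInducing (Set.inclusion h) := (IsEmbedding.inclusion h).isInducing
  exact this.topologicalKrullDim_le

end Groth.Agent.TopDimLead
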