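import Mathlib
import Groth.Prelude
import Groth.Agent.Lib.Dehom_helper4
import Groth.Agent.Lib.TopDim_lead

set_option autoImplicit false
set_option linter.style.haveILetI false
set_option linter.unusedVariables false

universe u

open CategoryTheory AlgebraicGeometry TopologicalSpace Opposite

namespace Groth.Agent.Lib.ProjDimH4

theorem dim_chart (k : Type u) [Field k] (n : ℕ) (i : Fin (n + 1)) :
    topologicalKrullDim ↥((Proj.basicOpen (CohB1.polyGrading n k) (MvPolynomial.X i) :
      (Proj (CohB1.polyGrading n k)).Opens) : Set (Proj (CohB1.polyGrading n k))) =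
      (n : WithBot ℕ∞) := by
  have hXi : (MvPolynomial.X i : MvPolynomial (Fin (n + 1)) k) ∈ CohB1.polyGrading n k 1 :=
    MvPolynomial.isHomogeneous_X k i
  have h1 : topologicalKrullDim ↥((Proj.basicOpen (CohB1.polyGrading n k) (MvPolynomial.X i) :
      (Proj (CohB1.polyGrading n k)).Opens) : Set (Proj (CohB1.polyGrading n k))) =
      topologicalKrullDim (PrimeSpectrum (HomogeneousLocalization.Away (CohB1.polyGrading n k)
        (MvPolynomial.X i))) :=
    IsHomeomorph.topologicalKrullDim_eq _ (Scheme.homeoOfIso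
      (Proj.basicOpenIsoSpec (CohB1.polyGrading n k) (MvPolynomial.X i) hXi one_pos)).isHomeomorph
  have hc : Nat.card {j : Fin (n + 1) // j ≠ i} = n := by
    rw [Nat.card_congr (finSuccAboveEquiv i).symm, Nat.card_eq_fintype_card, Fintype.card_fin]
  rw [h1, PrimeSpectrum.topologicalKrullDim_eq_ringKrullDim,
    ringKrullDim_eq_of_ringEquiv
      (RingEquiv.ofBijective (DehomH4.Φ n k i) (DehomH4.bij n k i)).symm,
    MvPolynomial.ringKrullDim_of_isNoetherianRing, ringKrullDim_eq_zero_of_field, zero_add, hc]

theorem main (k : Type u) [Field k] (n : ℕ) :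
    topologicalKrullDim ↥(CohB1.ProjSpace n k) = (n : WithBot ℕ∞) := by
  have hcov := DehomH4.cover n k
  have hU : ⋃ i : Fin (n + 1), ((Proj.basicOpen (CohB1.polyGrading n k) (MvPolynomial.X i) :
      (Proj (CohB1.polyGrading n k)).Opens) : Set (Proj (CohB1.polyGrading n k))) = Set.univ := by
    rw [← TopologicalSpace.Opens.coe_iSup, hcov, TopologicalSpace.Opens.coe_top]
  show topologicalKrullDim ↥(Proj (CohB1.polyGrading n k)) = _
  rw [Groth.Agent.TopDimLead.dim_eq_iSup_of_open_cover _
    (fun i => (Proj.basicOpen (CohB1.polyGrading n k) (MvPolynomial.X i)).isOpen) hU]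
  simp only [dim_chart]
  exact ciSup_const

end Groth.Agent.Lib.ProjDimH4
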