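import Mathlib
import Groth.Prelude
import Groth.Agent.Lib.Dehom_helper4
import Groth.Agent.Lib.ProjSpaceProper_helper4

/-!
# Projective space is smooth; local factorisation `U → W → P^n_Y → Y` (helper4)
-/

set_option autoImplicit false
set_option linter.unusedVariables false
set_option linter.unusedTactic false
set_option linter.unreachableTactic false
set_option linter.unusedSectionVars false
set_option linter.style.haveILetI false
set_option linter.deprecated false
set_option maxHeartbeats 1600000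

universe u
open CategoryTheory CategoryTheory.Limits AlgebraicGeometry CohB1

namespace Groth.Agent.Lib.ProjSmoothH4

set_option backward.isDefEq.respectTransparency.types false in
theorem smooth_aux (n : ℕ) (R : Type u) [CommRing R] :
    Smooth (Proj.toSpecZero (polyGrading n R) ≫
      Spec.map (CommRingCat.ofHom (algebraMap R (polyGrading n R 0)))) := by
  rw [IsZariskiLocalAtSource.iff_of_iSup_eq_top (P := @Smooth) _
    (Groth.Agent.Lib.DehomH4.cover n R)]
  intro i
  have hdeg : (MvPolynomial.X i : MvPolynomial (Fin (n + 1)) R) ∈ polyGrading n R 1 :=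
    MvPolynomial.isHomogeneous_X R i
  rw [← MorphismProperty.cancel_left_of_respectsIso (P := @Smooth)
    (Proj.basicOpenIsoSpec (polyGrading n R) (MvPolynomial.X i) hdeg Nat.one_pos).inv,
    ← Category.assoc, ← Proj.awayι, Proj.awayι_toSpecZero_assoc, ← Spec.map_comp,
    HasRingHomProperty.Spec_iff (P := @Smooth)]
  have hcomp : (CommRingCat.ofHom (algebraMap R (polyGrading n R 0)) ≫
      CommRingCat.ofHom (HomogeneousLocalization.fromZeroRingHom (polyGrading n R)
        (Submonoid.powers (MvPolynomial.X i)))).hom =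
      (Groth.Agent.Lib.DehomH4.Φ n R i).comp
        (MvPolynomial.C : R →+* MvPolynomial {j : Fin (n + 1) // j ≠ i} R) := by
    refine RingHom.ext (fun r => ?_)
    exact (MvPolynomial.eval₂_C _ _ r).symm
  rw [hcomp]
  refine RingHom.Smooth.comp ?_ (RingHom.Smooth.of_bijective (Groth.Agent.Lib.DehomH4.bij n R i))
  have hsm : Algebra.Smooth R (MvPolynomial {j : Fin (n + 1) // j ≠ i} R) :=
    ⟨inferInstance, inferInstance⟩
  exact RingHom.smooth_algebraMap.2 hsm

theorem smooth_toSpec (n : ℕ) (R : Type u) [CommRing R] : Smooth (ProjSpace.toSpec n R) :=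
  smooth_aux n R

theorem smooth_toBase (n : ℕ) (S : Scheme.{u}) : Smooth (ProjSpaceOver.toBase n S) :=
  haveI := smooth_toSpec n (ULift.{u} ℤ)
  (inferInstance : Smooth (pullback.snd (ProjSpace.toSpec n (ULift.{u} ℤ))
    (specULiftZIsTerminal.from S)))

set_option backward.isDefEq.respectTransparency.types false in
theorem main17642 {X Y : Scheme.{u}} [IsNoetherian X] [IsNoetherian Y] (f : X ⟶ Y)
    [LocallyOfFiniteType f]
    (U : X.Opens) (hU : IsAffineOpen U) (V : Y.Opens) (hV : IsAffineOpen V) (hUV : U ≤ f ⁻¹ᵁ V) :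
    ∃ (W P : Scheme.{u}) (g : (U : Scheme.{u}) ⟶ W) (h : W ⟶ P) (k : P ⟶ Y),
      IsOpenImmersion g ∧ IsClosedImmersion h ∧ Smooth k ∧ IsProper k ∧ g ≫ h ≫ k = U.ι ≫ f := by
  classical
  have hft : (f.appLE V U hUV).hom.FiniteType := f.finiteType_appLE hV hU hUV
  letI algRA : Algebra Γ(Y, V) Γ(X, U) := (f.appLE V U hUV).hom.toAlgebra
  haveI hft' : Algebra.FiniteType Γ(Y, V) Γ(X, U) := hft
  obtain ⟨ι, hι, π, hπ⟩ := Algebra.FiniteType.iff_quotient_mvPolynomial'.1 hft'
  obtain ⟨n, hn⟩ : ∃ n, n = Fintype.card ι := ⟨_, rfl⟩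
  let eqv : ι ≃ {j : Fin (n + 1) // j ≠ 0} :=
    (Fintype.equivFinOfCardEq hn.symm).trans (finSuccAboveEquiv (0 : Fin (n + 1)))
  -- rings
  let Aw : CommRingCat.{u} := CommRingCat.of (HomogeneousLocalization.Away
    (polyGrading n (ULift.{u} ℤ)) (MvPolynomial.X (0 : Fin (n + 1))))
  let f₁ : CommRingCat.of (ULift.{u} ℤ) ⟶ Aw := CommRingCat.isInitial.to Aw
  let g₁ : CommRingCat.of (ULift.{u} ℤ) ⟶ Γ(Y, V) := CommRingCat.isInitial.to _
  let eΦ : MvPolynomial {j : Fin (n + 1) // j ≠ 0} (ULift.{u} ℤ) ≃+*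
      HomogeneousLocalization.Away (polyGrading n (ULift.{u} ℤ))
        (MvPolynomial.X (0 : Fin (n + 1))) :=
    RingEquiv.ofBijective (Groth.Agent.Lib.DehomH4.Φ n (ULift.{u} ℤ) 0)
      (Groth.Agent.Lib.DehomH4.bij n (ULift.{u} ℤ) 0)
  let zA : ULift.{u} ℤ →+* Γ(X, U) := (CommRingCat.isInitial.to Γ(X, U)).hom
  let ev : MvPolynomial {j : Fin (n + 1) // j ≠ 0} (ULift.{u} ℤ) →+* Γ(X, U) :=
    MvPolynomial.eval₂Hom zA (fun j => π (MvPolynomial.X (eqv.symm j)))
  let ρ : Aw ⟶ Γ(X, U) := CommRingCat.ofHom (ev.comp eΦ.symm.toRingHom)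
  let φ : Γ(Y, V) ⟶ Γ(X, U) := f.appLE V U hUV
  have hρΦ : ∀ j, ρ.hom (Groth.Agent.Lib.DehomH4.Φ n (ULift.{u} ℤ) 0 (MvPolynomial.X j)) =
      π (MvPolynomial.X (eqv.symm j)) := by
    intro j
    show ev (eΦ.symm (eΦ (MvPolynomial.X j))) = _
    rw [RingEquiv.symm_apply_apply]
    exact MvPolynomial.eval₂_X _ _ j
  -- pushout
  let desc : pushout f₁ g₁ ⟶ Γ(X, U) := pushout.desc ρ φ (CommRingCat.isInitial.hom_ext _ _)
  have hdesc_l : pushout.inl f₁ g₁ ≫ desc = ρ := pushout.inl_desc _ _ _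
  have hdesc_r : pushout.inr f₁ g₁ ≫ desc = φ := pushout.inr_desc _ _ _
  have hsurj : Function.Surjective desc.hom := by
    intro x
    obtain ⟨p, rfl⟩ := hπ x
    induction p using MvPolynomial.induction_on with
    | C r =>
      refine ⟨(pushout.inr f₁ g₁).hom r, ?_⟩
      have h1 := congrArg (fun m => m.hom r) hdesc_r
      refine h1.trans ?_
      exact (π.commutes r).symm
    | add p q hp hq =>
      obtain ⟨a, ha⟩ := hp
      obtain ⟨b, hb⟩ := hq
      exact ⟨a + b, by rw [map_add, ha, hb, map_add]⟩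
    | mul_X p i hp =>
      obtain ⟨a, ha⟩ := hp
      refine ⟨a * (pushout.inl f₁ g₁).hom
        (Groth.Agent.Lib.DehomH4.Φ n (ULift.{u} ℤ) 0 (MvPolynomial.X (eqv i))), ?_⟩
      have h2 := congrArg (fun m => m.hom
        (Groth.Agent.Lib.DehomH4.Φ n (ULift.{u} ℤ) 0 (MvPolynomial.X (eqv i)))) hdesc_l
      rw [map_mul, ha, map_mul]
      congr 1
      refine h2.trans ?_
      rw [hρΦ, Equiv.symm_apply_apply]
  haveI hκ : IsClosedImmersion (Spec.map desc) :=
    IsClosedImmersion.spec_of_surjective desc hsurj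
  have hpb : IsPullback (Spec.map (pushout.inl f₁ g₁)) (Spec.map (pushout.inr f₁ g₁))
      (Spec.map f₁) (Spec.map g₁) :=
    isPullback_SpecMap_of_isPushout f₁ g₁ _ _ (IsPushout.of_hasPushout f₁ g₁)
  have hdeg : (MvPolynomial.X (0 : Fin (n + 1)) : MvPolynomial (Fin (n + 1)) (ULift.{u} ℤ)) ∈
      polyGrading n (ULift.{u} ℤ) 1 := MvPolynomial.isHomogeneous_X _ _
  let aw : Spec Aw ⟶ ProjSpace n (ULift.{u} ℤ) :=
    Proj.awayι (polyGrading n (ULift.{u} ℤ)) (MvPolynomial.X 0) hdeg Nat.one_pos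
  haveI : IsOpenImmersion aw :=
    (inferInstance : IsOpenImmersion (Proj.awayι (polyGrading n (ULift.{u} ℤ))
      (MvPolynomial.X 0) hdeg Nat.one_pos))
  let ι₀ : pullback (Spec.map f₁) (Spec.map g₁) ⟶ ProjSpaceOver n Y :=
    pullback.map (Spec.map f₁) (Spec.map g₁) (ProjSpace.toSpec n (ULift.{u} ℤ))
      (specULiftZIsTerminal.from Y) aw hV.fromSpec (𝟙 _)
      (specULiftZIsTerminal.hom_ext _ _) (specULiftZIsTerminal.hom_ext _ _)
  haveI : IsOpenImmersion ι₀ :=
    (inferInstance : IsOpenImmersion (pullback.map (Spec.map f₁) (Spec.map g₁)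
      (ProjSpace.toSpec n (ULift.{u} ℤ))
      (specULiftZIsTerminal.from Y) aw hV.fromSpec (𝟙 _)
      (specULiftZIsTerminal.hom_ext _ _) (specULiftZIsTerminal.hom_ext _ _)))
  let g : (U : Scheme.{u}) ⟶ ProjSpaceOver n Y :=
    hU.isoSpec.hom ≫ Spec.map desc ≫ hpb.isoPullback.hom ≫ ι₀
  haveI : IsImmersion g := by
    dsimp only [g]
    infer_instance
  have e1 : ι₀ ≫ pullback.snd _ _ = pullback.snd _ _ ≫ hV.fromSpec := pullback.lift_snd _ _ _
  have e2 : hpb.isoPullback.hom ≫ pullback.snd _ _ = Spec.map (pushout.inr f₁ g₁) :=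
    hpb.isoPullback_hom_snd
  have e3 : hU.isoSpec.hom ≫ hU.fromSpec = U.ι := by
    rw [← hU.isoSpec_inv_ι, Iso.hom_inv_id_assoc]
  have hg : g ≫ ProjSpaceOver.toBase n Y = U.ι ≫ f := by
    calc g ≫ ProjSpaceOver.toBase n Y
        = hU.isoSpec.hom ≫ Spec.map desc ≫ hpb.isoPullback.hom ≫ (ι₀ ≫ pullback.snd _ _) := by
          simp only [g, Category.assoc]
          rfl
      _ = hU.isoSpec.hom ≫ Spec.map desc ≫ (hpb.isoPullback.hom ≫ pullback.snd _ _) ≫
            hV.fromSpec := by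
          rw [e1]
          simp only [Category.assoc]
      _ = hU.isoSpec.hom ≫ (Spec.map desc ≫ Spec.map (pushout.inr f₁ g₁)) ≫ hV.fromSpec := by
          rw [e2]
          simp only [Category.assoc]
      _ = hU.isoSpec.hom ≫ Spec.map φ ≫ hV.fromSpec := by
          rw [← Spec.map_comp, hdesc_r]
      _ = hU.isoSpec.hom ≫ hU.fromSpec ≫ f := by
          rw [IsAffineOpen.SpecMap_appLE_fromSpec f hV hU hUV]
      _ = U.ι ≫ f := by
          rw [← Category.assoc, e3]
  haveI : IsProper (ProjSpaceOver.toBase n Y) :=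
    Groth.Agent.Lib.ProjSpaceProperH4.isProper_toBase n Y
  haveI : IsLocallyNoetherian (ProjSpaceOver n Y) :=
    LocallyOfFiniteType.isLocallyNoetherian (ProjSpaceOver.toBase n Y)
  haveI : CompactSpace ↥(U : Scheme.{u}) := isCompact_iff_compactSpace.mp hU.isCompact
  haveI : QuasiCompact g := inferInstance
  obtain ⟨W, g₁', g₂', hg₁, hg₂, hgg⟩ :=
    (IsImmersion.isImmersion_iff_exists_of_quasiCompact (f := g)).1 inferInstance
  refine ⟨W, ProjSpaceOver n Y, g₁', g₂', ProjSpaceOver.toBase n Y, hg₁, hg₂,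
    smooth_toBase n Y, inferInstance, ?_⟩
  rw [← Category.assoc, hgg, hg]

end Groth.Agent.Lib.ProjSmoothH4
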