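import Mathlib
import Groth.Prelude
import Groth.Agent.Lib.CM_helper5
import Groth.Agent.Lib.CMSeq_helper5
import Groth.Agent.Lib.RegUC_helper8
import Groth.Agent.Lib.LocDimProd_helper8
import Groth.Agent.Lib.ClosedDim_helper8
import Groth.Agent.Lib.ClosHt_helper8
import Groth.Agent.Lib.ProjDim_helper4
import Groth.Agent.Lib.Horrocks6_helper9
import Groth.Agent.Lib.ProjSpaceProper_helper4
import Groth.Agent.Lib.ProjSmooth_helper4
import Groth.Agent.Lib.KerStalk_helper5
import Groth.Agent.S1535

/-!
# Complete intersections in projective space: local algebra and dimension (helper9)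
APPEND-ONLY once landed.  Towards S14342, S14335, S14332, S14333, S14334.
-/

set_option autoImplicit false
set_option linter.style.haveILetI false
universe u
open CategoryTheory CategoryTheory.Limits AlgebraicGeometry TopologicalSpace Opposite

namespace Groth.Agent.CIsec

section Alg

open IsLocalRing RingTheory.Sequence Groth.Agent.DepthLib

variable {A : Type u} [CommRing A] [IsLocalRing A] [IsNoetherianRing A]

/-- in a Cohen–Macaulay local ring, if `rs ++ [x]` cuts the dimension down by its length then `x`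
is a nonzerodivisor modulo `rs` -/
theorem nzd_of_dim (hCM : LocCoh.IsCohenMacaulayModule A A) (rs : List A) (x : A)
    (hmem : ∀ y ∈ rs ++ [x], y ∈ maximalIdeal A)
    (hdim : ringKrullDim (A ⧸ Ideal.ofList (rs ++ [x])) + ((rs ++ [x]).length : WithBot ℕ∞) ≤
      ringKrullDim A) (c : A) (hc : x * c ∈ Ideal.ofList rs) : c ∈ Ideal.ofList rs := by
  have hle2 := supportDim_le_supportDim_quot_ofList_add_length (rs ++ [x]) A hmem
  have heq : Module.supportDim A (A ⧸ (Ideal.ofList (rs ++ [x]) • (⊤ : Submodule A A))) +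
      (rs ++ [x]).length = Module.supportDim A A := by
    apply le_antisymm _ hle2
    rw [supportDim_quot_smul_top_self, Module.supportDim_self_eq_ringKrullDim]
    exact hdim
  have hreg := (isCM_list (rs ++ [x]) A hCM hmem).1.2 heq
  have h2 := ((isWeaklyRegular_append_iff A rs [x]).1 hreg).2
  rw [isWeaklyRegular_singleton_iff] at h2
  have h3 : x • (Submodule.Quotient.mk c : A ⧸ (Ideal.ofList rs • (⊤ : Submodule A A))) =
      x • (0 : A ⧸ (Ideal.ofList rs • (⊤ : Submodule A A))) := by
    rw [smul_zero, ← Submodule.Quotient.mk_smul, Submodule.Quotient.mk_eq_zero,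
      ideal_smul_top_self, smul_eq_mul]
    exact hc
  have h4 := h2 h3
  rw [Submodule.Quotient.mk_eq_zero, ideal_smul_top_self] at h4
  exact h4

end Alg

section Dim

variable (k : Type u) [Field k] (n : ℕ)

instance locallyOfFiniteType_projSpace :
    LocallyOfFiniteType (CohB1.ProjSpace n k ↘ Spec (CommRingCat.of k)) := by
  haveI : IsProper (CohB1.ProjSpace.toSpec n k) :=
    Groth.Agent.Lib.ProjSpaceProperH4.isProper_toSpec n k
  exact inferInstanceAs (LocallyOfFiniteType (CohB1.ProjSpace.toSpec n k))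

/-- the dimension formula on projective space -/
theorem coheight_add_height_projSpace (p : CohB1.ProjSpace n k) :
    Order.coheight p + Order.height p = (n : ℕ∞) := by
  haveI := Groth.Agent.Horrocks.isIntegral_projSpace n k
  obtain ⟨ξ, -, hmax, hh⟩ := LocDimProdH8.exists_max_height_eq k (CohB1.ProjSpace n k) p
  rw [← hh]
  have h1 := (Groth.Agent.SchFTH8.closure_mem_irreducibleComponents_iff ξ).mpr hmax
  rw [irreducibleComponents_eq_singleton, Set.mem_singleton_iff] at h1
  have h2 := Groth.Agent.ClosHtH8.topologicalKrullDim_closure_singleton (CohB1.ProjSpace n k) ξ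
  have h3 : topologicalKrullDim ↥(closure ({ξ} : Set (CohB1.ProjSpace n k))) =
      topologicalKrullDim ↥(CohB1.ProjSpace n k) := by
    rw [h1]
    exact (Homeomorph.Set.univ _).isHomeomorph.topologicalKrullDim_eq
  rw [h3, Groth.Agent.Lib.ProjDimH4.main k n] at h2
  exact_mod_cast h2.symm

/-- **a closed subscheme of `P^n` of dimension `n - c` has local rings of dimension at most
`dim O_{P, x} - c`** -/
theorem coheight_add_le {X : Scheme.{u}} (ι : X ⟶ CohB1.ProjSpace n k) [IsClosedImmersion ι]
    (c : ℕ) (hc : c ≤ n)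
    (hdim : topologicalKrullDim X = ((n - c : ℕ) : WithBot ℕ∞)) (x : X) :
    Order.coheight x + (c : ℕ∞) ≤ Order.coheight (ι x) := by
  haveI : Nonempty X := ⟨x⟩
  have hdimX : topologicalKrullDim X = Order.krullDim X := by
    unfold topologicalKrullDim
    exact Order.krullDim_eq_of_orderIso (irreducibleSetEquivPoints (α := X))
  rw [hdimX, Order.krullDim_eq_iSup_height_add_coheight_of_nonempty] at hdim
  have h1 : Order.height x + Order.coheight x ≤ ((n - c : ℕ) : ℕ∞) := by
    have h0 : (⨆ a : X, Order.height a + Order.coheight a) = ((n - c : ℕ) : ℕ∞) := by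
      have h00 : ((⨆ a : X, Order.height a + Order.coheight a : ℕ∞) : WithBot ℕ∞) =
        (((n - c : ℕ) : ℕ∞) : WithBot ℕ∞) := hdim
      exact WithBot.coe_injective h00
    rw [← h0]
    exact le_iSup (fun a : X => Order.height a + Order.coheight a) x
  have h2 : Order.height (ι x) ≤ Order.height x :=
    ClosedDimH8.height_le_of_specializingMap ι ι.isClosedEmbedding.isClosedMap.specializingMap x
  have h3 := coheight_add_height_projSpace k n (ι x)
  -- everything is finite: move to `ℕ`
  have hfin1 : Order.height (ι x) ≤ (n : ℕ∞) := h3 ▸ le_add_self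
  have hfin2 : Order.coheight (ι x) ≤ (n : ℕ∞) := h3 ▸ le_self_add
  have hfin3 : Order.height x ≤ (n : ℕ∞) :=
    le_trans (le_trans le_self_add h1) (by exact_mod_cast Nat.sub_le n c)
  have hfin4 : Order.coheight x ≤ (n : ℕ∞) :=
    le_trans (le_trans le_add_self h1) (by exact_mod_cast Nat.sub_le n c)
  lift Order.height (ι x) to ℕ using (ne_top_of_le_ne_top (ENat.natCast_ne_top n) hfin1) with a ha
  lift Order.coheight (ι x) to ℕ using (ne_top_of_le_ne_top (ENat.natCast_ne_top n) hfin2) with b hb
  lift Order.height x to ℕ using (ne_top_of_le_ne_top (ENat.natCast_ne_top n) hfin3) with a' ha'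
  lift Order.coheight x to ℕ using (ne_top_of_le_ne_top (ENat.natCast_ne_top n) hfin4) with b' hb'
  norm_cast at h1 h2 h3 ⊢
  omega

/-- the same in terms of local rings -/
theorem ringKrullDim_stalk_add_le {X : Scheme.{u}} (ι : X ⟶ CohB1.ProjSpace n k)
    [IsClosedImmersion ι] (c : ℕ) (hc : c ≤ n)
    (hdim : topologicalKrullDim X = ((n - c : ℕ) : WithBot ℕ∞)) (x : X) :
    ringKrullDim (X.presheaf.stalk x) + (c : WithBot ℕ∞) ≤
      ringKrullDim ((CohB1.ProjSpace n k).presheaf.stalk (ι x)) := by
  rw [AlgebraicGeometry.ringKrullDim_stalk_eq_coheight,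
    AlgebraicGeometry.ringKrullDim_stalk_eq_coheight]
  exact_mod_cast coheight_add_le k n ι c hc hdim x

/-- the local rings of projective space over a field are Cohen–Macaulay -/
theorem isCM_stalk_projSpace (p : CohB1.ProjSpace n k) :
    LocCoh.IsCohenMacaulayModule ((CohB1.ProjSpace n k).presheaf.stalk p)
      ((CohB1.ProjSpace n k).presheaf.stalk p) := by
  haveI : Smooth (CohB1.ProjSpace n k ↘ Spec (CommRingCat.of k)) :=
    Groth.Agent.Lib.ProjSmoothH4.smooth_toSpec n k
  haveI := Groth.Agent.S1535.result k (CohB1.ProjSpace n k) p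
  exact RegUCH8.isCM_of_regular _

end Dim

section Stalk

open IsLocalRing

variable {P Y : Scheme.{u}} (ι : Y ⟶ P) [IsClosedImmersion ι] (J : Y.IdealSheafData)

theorem ofList_ofFn {A : Type u} [CommRing A] {r : ℕ} (h : Fin r → A) :
    Ideal.ofList (List.ofFn h) = Ideal.span (Set.range h) := by
  rw [Ideal.ofList]
  congr 1
  ext x
  simp only [List.mem_ofFn, Set.mem_setOf_eq, Set.mem_range]

/-- **the local equation of a closed subscheme `X' ⊆ Y ⊆ P`, with `Y` cut out by `r` equations in
a Cohen–Macaulay ambient scheme `P` and `X'` by one more equation, is a nonzerodivisor on the local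
ring of `Y` at a point of `X'`, as soon as the codimension of `X'` in `P` at that point is
`r + 1`** -/
theorem nzd_stalk (x' : J.subscheme) (U : P.affineOpens)
    (hp : ι (J.subschemeι x') ∈ U.1)
    [IsNoetherianRing (P.presheaf.stalk (ι (J.subschemeι x')))]
    (hCM : LocCoh.IsCohenMacaulayModule (P.presheaf.stalk (ι (J.subschemeι x')))
      (P.presheaf.stalk (ι (J.subschemeι x'))))
    {r : ℕ} (g : Fin r → Γ(P, U.1)) (f : Γ(P, U.1))
    (hker : RingHom.ker (ι.app U.1).hom = Ideal.span (Set.range g))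
    (hJ : J.ideal ⟨ι ⁻¹ᵁ U.1, U.2.preimage ι⟩ = Ideal.span {(ι.app U.1).hom f})
    (hdim : ringKrullDim (J.subscheme.presheaf.stalk x') + ((r + 1 : ℕ) : WithBot ℕ∞) ≤
      ringKrullDim (P.presheaf.stalk (ι (J.subschemeι x'))))
    (c : Y.presheaf.stalk (J.subschemeι x'))
    (hc : (Y.presheaf.germ (ι ⁻¹ᵁ U.1) (J.subschemeι x') hp).hom ((ι.app U.1).hom f) * c = 0) :
    c = 0 := by
  have hV : IsAffineOpen (ι ⁻¹ᵁ U.1) := U.2.preimage ι
  have hσ : Function.Surjective (ι.stalkMap (J.subschemeι x')).hom :=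
    ι.stalkMap_surjective (J.subschemeι x')
  have hτ : Function.Surjective (J.subschemeι.stalkMap x').hom :=
    J.subschemeι.stalkMap_surjective x'
  -- the kernels
  have hkσ : RingHom.ker (ι.stalkMap (J.subschemeι x')).hom =
      Ideal.ofList (List.ofFn fun i => (P.presheaf.germ U.1 _ hp).hom (g i)) := by
    rw [Groth.Agent.KerStalk.ker_stalkMap ι U.1 U.2 (J.subschemeι x') hp, hker, Ideal.map_span,
      ofList_ofFn]
    congr 1
    ext a
    simp only [Set.mem_image, Set.mem_range, exists_exists_eq_and]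
  have hkτ : RingHom.ker (J.subschemeι.stalkMap x').hom =
      Ideal.span {(ι.stalkMap (J.subschemeι x')).hom ((P.presheaf.germ U.1 _ hp).hom f)} := by
    rw [Groth.Agent.KerStalk.ker_stalkMap J.subschemeι (ι ⁻¹ᵁ U.1) hV x' hp,
      Scheme.IdealSheafData.ker_subschemeι_app J ⟨ι ⁻¹ᵁ U.1, hV⟩, hJ, Ideal.map_span,
      Set.image_singleton, Scheme.Hom.germ_stalkMap_apply]
  have hkστ : RingHom.ker ((J.subschemeι.stalkMap x').hom.comp
      (ι.stalkMap (J.subschemeι x')).hom) =
      Ideal.ofList ((List.ofFn fun i => (P.presheaf.germ U.1 _ hp).hom (g i)) ++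
        [(P.presheaf.germ U.1 _ hp).hom f]) := by
    rw [← RingHom.comap_ker, hkτ, ← Set.image_singleton, ← Ideal.map_span,
      Ideal.comap_map_of_surjective _ hσ, Ideal.ofList_append, Ideal.ofList_singleton, ← hkσ,
      sup_comm]
    rfl
  have hne : RingHom.ker ((J.subschemeι.stalkMap x').hom.comp
      (ι.stalkMap (J.subschemeι x')).hom) ≠ ⊤ := RingHom.ker_ne_top _
  have hmem : ∀ y ∈ (List.ofFn fun i => (P.presheaf.germ U.1 _ hp).hom (g i)) ++
      [(P.presheaf.germ U.1 _ hp).hom f],
      y ∈ maximalIdeal (P.presheaf.stalk (ι (J.subschemeι x'))) := by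
    intro y hy
    apply IsLocalRing.le_maximalIdeal hne
    rw [hkστ]
    exact Ideal.subset_span hy
  have hdim' : ringKrullDim (P.presheaf.stalk (ι (J.subschemeι x')) ⧸
      Ideal.ofList ((List.ofFn fun i => (P.presheaf.germ U.1 _ hp).hom (g i)) ++
        [(P.presheaf.germ U.1 _ hp).hom f])) +
      ((((List.ofFn fun i => (P.presheaf.germ U.1 _ hp).hom (g i)) ++
        [(P.presheaf.germ U.1 _ hp).hom f]).length : ℕ) : WithBot ℕ∞) ≤
      ringKrullDim (P.presheaf.stalk (ι (J.subschemeι x'))) := by
    rw [← hkστ, ringKrullDim_eq_of_ringEquiv (RingHom.quotientKerEquivOfSurjective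
      (f := (J.subschemeι.stalkMap x').hom.comp (ι.stalkMap (J.subschemeι x')).hom)
      (hτ.comp hσ))]
    simpa using hdim
  obtain ⟨c', rfl⟩ := hσ c
  rw [← Scheme.Hom.germ_stalkMap_apply, ← map_mul, ← RingHom.mem_ker, hkσ] at hc
  have h1 := nzd_of_dim hCM _ _ hmem hdim' c' hc
  rw [← hkσ, RingHom.mem_ker] at h1
  exact h1

end Stalk

end Groth.Agent.CIsec
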