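import Mathlib

/-!
# Flat base change of `Ext` for finite modules over a Noetherian ring (helper5)
-/

universe u

namespace Groth.Agent.ExtBC

open CategoryTheory Abelian TensorProduct

section Shift

variable {R : Type u} [CommRing R] {K F M : Type u} [AddCommGroup K] [Module R K]
  [AddCommGroup F] [Module R F] [AddCommGroup M] [Module R M] (i : K →ₗ[R] F) (p : F →ₗ[R] M)
  (hi : Function.Injective i) (hip : Function.Exact i p) (hp : Function.Surjective p)
  [Module.Projective R F] (N : Type u) [AddCommGroup N] [Module R N]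

include hi hip hp

/-- dimension shifting along `0 → K → F → M → 0` with `F` projective -/
theorem shift (r : ℕ) : Nonempty (Ext (ModuleCat.of R M) (ModuleCat.of R N) (r + 2) ≃ₗ[R]
    Ext (ModuleCat.of R K) (ModuleCat.of R N) (r + 1)) := by
  let S := ShortComplex.moduleCatMk i p hip.linearMap_comp_eq_zero
  have hS : S.ShortExact := ModuleCat.shortComplex_shortExact _ hip hi hp
  haveI hproj : Projective S.X₂ := (IsProjective.iff_projective (R := R) F).mp inferInstance
  let δ : Ext (ModuleCat.of R K) (ModuleCat.of R N) (r + 1) →ₗ[R]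
      Ext (ModuleCat.of R M) (ModuleCat.of R N) (r + 2) :=
    Ext.precompOfLinear hS.extClass R (ModuleCat.of R N) (add_comm 1 (r + 1))
  have hδ : ∀ α, δ α = hS.extClass.comp α (add_comm 1 (r + 1)) := fun α => rfl
  have hsurj : Function.Surjective δ := by
    intro β
    obtain ⟨α, hα⟩ := Ext.contravariant_sequence_exact₃ hS (ModuleCat.of R N) β
      (Ext.eq_zero_of_projective _) (add_comm 1 (r + 1))
    exact ⟨α, hα⟩
  have hinj : Function.Injective δ := by
    rw [injective_iff_map_eq_zero]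
    intro α hα
    rw [hδ] at hα
    obtain ⟨α', hα'⟩ := Ext.contravariant_sequence_exact₁ hS (ModuleCat.of R N) α
      (add_comm 1 (r + 1)) hα
    rw [← hα', Ext.eq_zero_of_projective α', Ext.comp_zero]
    rfl
  exact ⟨(LinearEquiv.ofBijective δ ⟨hinj, hsurj⟩).symm⟩

/-- `Ext¹(M, N)` as a cokernel -/
theorem ext1 : Nonempty (Ext (ModuleCat.of R M) (ModuleCat.of R N) 1 ≃ₗ[R]
    (K →ₗ[R] N) ⧸ LinearMap.range (LinearMap.lcomp R N i)) := by
  let S := ShortComplex.moduleCatMk i p hip.linearMap_comp_eq_zero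
  have hS : S.ShortExact := ModuleCat.shortComplex_shortExact _ hip hi hp
  haveI hproj : Projective S.X₂ := (IsProjective.iff_projective (R := R) F).mp inferInstance
  let e₀ : Ext (ModuleCat.of R K) (ModuleCat.of R N) 0 ≃ₗ[R] (K →ₗ[R] N) :=
    (Ext.linearEquiv₀ (R := R)).trans (ModuleCat.homLinearEquiv (S := R))
  have he₀ : ∀ φ : K →ₗ[R] N, e₀.symm φ = Ext.mk₀ (ModuleCat.ofHom φ) := fun φ => by
    apply e₀.injective
    rw [LinearEquiv.apply_symm_apply]
    have h1 : Ext.linearEquiv₀ (R := R) (Ext.mk₀ (ModuleCat.ofHom φ)) = ModuleCat.ofHom φ := by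
      apply (Ext.mk₀_bijective _ _).1
      rw [Ext.mk₀_linearEquiv₀_apply]
    show φ = ModuleCat.homLinearEquiv (S := R)
      (Ext.linearEquiv₀ (R := R) (Ext.mk₀ (ModuleCat.ofHom φ)))
    rw [h1]
    rfl
  let δ : Ext (ModuleCat.of R K) (ModuleCat.of R N) 0 →ₗ[R]
      Ext (ModuleCat.of R M) (ModuleCat.of R N) 1 :=
    Ext.precompOfLinear hS.extClass R (ModuleCat.of R N) (add_zero 1)
  let Δ : (K →ₗ[R] N) →ₗ[R] Ext (ModuleCat.of R M) (ModuleCat.of R N) 1 :=
    δ ∘ₗ e₀.symm.toLinearMap
  have hΔ : ∀ φ, Δ φ = hS.extClass.comp (Ext.mk₀ (ModuleCat.ofHom φ)) (add_zero 1) := fun φ => by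
    show δ (e₀.symm φ) = _
    rw [he₀]; rfl
  have hsurj : Function.Surjective Δ := by
    intro β
    obtain ⟨α, hα⟩ := Ext.contravariant_sequence_exact₃ hS (ModuleCat.of R N) β
      (Ext.eq_zero_of_projective _) (add_zero 1)
    refine ⟨e₀ α, ?_⟩
    show δ (e₀.symm (e₀ α)) = β
    rw [LinearEquiv.symm_apply_apply]; exact hα
  have hker : LinearMap.ker Δ = LinearMap.range (LinearMap.lcomp R N i) := by
    ext φ
    rw [LinearMap.mem_ker, hΔ, LinearMap.mem_range]
    constructor
    · intro h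
      obtain ⟨α', hα'⟩ := Ext.contravariant_sequence_exact₁ hS (ModuleCat.of R N)
        (Ext.mk₀ (ModuleCat.ofHom φ)) (add_zero 1) h
      obtain ⟨ψ, rfl⟩ := (Ext.mk₀_bijective _ _).2 α'
      rw [Ext.mk₀_comp_mk₀] at hα'
      have h2 : S.f ≫ ψ = ModuleCat.ofHom φ := (Ext.mk₀_bijective _ _).1 hα'
      refine ⟨ψ.hom, ?_⟩
      have h3 := congrArg ModuleCat.Hom.hom h2
      rw [ModuleCat.hom_comp] at h3
      exact h3
    · rintro ⟨ψ, rfl⟩
      have h3 := hS.extClass_comp_assoc (Ext.mk₀ (ModuleCat.ofHom ψ)) (h := add_zero 1)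
      rw [Ext.mk₀_comp_mk₀] at h3
      exact h3
  exact ⟨((Submodule.quotEquivOfEq _ _ hker).symm.trans
    (LinearMap.quotKerEquivOfSurjective Δ hsurj)).symm⟩

end Shift

section Coker

variable {A : Type u} [CommRing A] (B : Type u) [CommRing B] [Algebra A B]
  {X Y : Type u} [AddCommGroup X] [Module A X] [AddCommGroup Y] [Module A Y]
  {X' Y' : Type u} [AddCommGroup X'] [Module B X'] [AddCommGroup Y'] [Module B Y']
  (u : X →ₗ[A] Y) (v : X' →ₗ[B] Y') (a : B ⊗[A] X ≃ₗ[B] X') (b : B ⊗[A] Y ≃ₗ[B] Y')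
  (hsq : ∀ t : B ⊗[A] X, b (u.baseChange B t) = v (a t))

include hsq in
/-- base change of a cokernel -/
theorem coker_baseChange :
    Nonempty (B ⊗[A] (Y ⧸ LinearMap.range u) ≃ₗ[B] Y' ⧸ LinearMap.range v) := by
  let g : Y' →ₗ[B] B ⊗[A] (Y ⧸ LinearMap.range u) :=
    ((LinearMap.range u).mkQ.baseChange B) ∘ₗ b.symm.toLinearMap
  have hex : Function.Exact (u.lTensor B) ((LinearMap.range u).mkQ.lTensor B) :=
    lTensor_exact B (LinearMap.exact_map_mkQ_range u) (Submodule.mkQ_surjective _)
  have hgsurj : Function.Surjective g := by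
    intro z
    obtain ⟨w, hw⟩ := LinearMap.lTensor_surjective B
      (Submodule.mkQ_surjective (LinearMap.range u)) z
    refine ⟨b w, ?_⟩
    show ((LinearMap.range u).mkQ.baseChange B) (b.symm (b w)) = z
    rw [LinearEquiv.symm_apply_apply]; exact hw
  have hker : LinearMap.ker g = LinearMap.range v := by
    ext y'
    rw [LinearMap.mem_ker, LinearMap.mem_range]
    constructor
    · intro h
      have h' : ((LinearMap.range u).mkQ.lTensor B) (b.symm y') = 0 := h
      obtain ⟨t, ht⟩ := (hex (b.symm y')).mp h'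
      refine ⟨a t, ?_⟩
      rw [← hsq t]
      show b ((u.lTensor B) t) = y'
      rw [ht, LinearEquiv.apply_symm_apply]
    · rintro ⟨x', rfl⟩
      obtain ⟨t, rfl⟩ := a.surjective x'
      rw [← hsq t]
      show ((LinearMap.range u).mkQ.lTensor B) (b.symm (b (u.baseChange B t))) = 0
      rw [LinearEquiv.symm_apply_apply]
      exact (hex _).mpr ⟨t, rfl⟩
  exact ⟨((Submodule.quotEquivOfEq _ _ hker).symm.trans
    (LinearMap.quotKerEquivOfSurjective g hgsurj)).symm⟩

end Coker

section Main

variable (A B : Type u) [CommRing A] [CommRing B] [Algebra A B] [Module.Flat A B]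
  (N : Type u) [AddCommGroup N] [Module A N]

/-- flat base change of `Hom` out of a finitely presented module -/
noncomputable def θ (M : Type u) [AddCommGroup M] [Module A M] [Module.FinitePresentation A M] :
    B ⊗[A] (M →ₗ[A] N) ≃ₗ[B] (B ⊗[A] M →ₗ[B] B ⊗[A] N) :=
  (Module.FinitePresentation.isBaseChange_map A M N B).equiv

lemma θ_tmul (M : Type u) [AddCommGroup M] [Module A M] [Module.FinitePresentation A M]
    (b : B) (φ : M →ₗ[A] N) : θ A B N M (b ⊗ₜ φ) = b • φ.baseChange B := by
  unfold θ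
  rw [IsBaseChange.equiv_tmul]
  rfl

theorem P0 (M : Type u) [AddCommGroup M] [Module A M] [Module.FinitePresentation A M] :
    Nonempty ((B ⊗[A] Ext (ModuleCat.of A M) (ModuleCat.of A N) 0) ≃ₗ[B]
      Ext (ModuleCat.of B (B ⊗[A] M)) (ModuleCat.of B (B ⊗[A] N)) 0) := by
  let eA : Ext (ModuleCat.of A M) (ModuleCat.of A N) 0 ≃ₗ[A] (M →ₗ[A] N) :=
    (Ext.linearEquiv₀ (R := A)).trans (ModuleCat.homLinearEquiv (S := A))
  let eB : Ext (ModuleCat.of B (B ⊗[A] M)) (ModuleCat.of B (B ⊗[A] N)) 0 ≃ₗ[B]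
      (B ⊗[A] M →ₗ[B] B ⊗[A] N) :=
    (Ext.linearEquiv₀ (R := B)).trans (ModuleCat.homLinearEquiv (S := B))
  exact ⟨(eA.baseChange A B _ _).trans ((θ A B N M).trans eB.symm)⟩

variable [IsNoetherianRing A]

theorem P1 (M : Type u) [AddCommGroup M] [Module A M] [Module.Finite A M] :
    Nonempty ((B ⊗[A] Ext (ModuleCat.of A M) (ModuleCat.of A N) 1) ≃ₗ[B]
      Ext (ModuleCat.of B (B ⊗[A] M)) (ModuleCat.of B (B ⊗[A] N)) 1) := by
  obtain ⟨F, _, _, _, _, f, surjf⟩ := Module.exists_finite_presentation A M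
  haveI : IsNoetherian A F := isNoetherian_of_isNoetherianRing_of_finite A F
  have hi : Function.Injective (LinearMap.ker f).subtype := Submodule.injective_subtype _
  have hif : Function.Exact (LinearMap.ker f).subtype f := LinearMap.exact_subtype_ker_map f
  haveI : Module.FinitePresentation A F := Module.finitePresentation_of_finite A F
  haveI : Module.FinitePresentation A (LinearMap.ker f) := Module.finitePresentation_of_finite A _
  have hiB : Function.Injective ((LinearMap.ker f).subtype.baseChange B) :=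
    Module.Flat.lTensor_preserves_injective_linearMap (M := B) (LinearMap.ker f).subtype hi
  have hifB : Function.Exact ((LinearMap.ker f).subtype.baseChange B) (f.baseChange B) :=
    lTensor_exact B hif surjf
  have hfB : Function.Surjective (f.baseChange B) := LinearMap.lTensor_surjective B surjf
  obtain ⟨e1⟩ := ext1 (LinearMap.ker f).subtype f hi hif surjf N
  obtain ⟨e2⟩ := ext1 ((LinearMap.ker f).subtype.baseChange B) (f.baseChange B) hiB hifB hfB
    (B ⊗[A] N)
  have hsq : ∀ t : B ⊗[A] (F →ₗ[A] N),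
      θ A B N (LinearMap.ker f)
        ((LinearMap.lcomp A N (LinearMap.ker f).subtype).baseChange B t) =
      LinearMap.lcomp B (B ⊗[A] N) ((LinearMap.ker f).subtype.baseChange B) (θ A B N F t) := by
    intro t
    induction t using TensorProduct.induction_on with
    | zero => simp only [map_zero]
    | tmul b φ =>
      rw [LinearMap.baseChange_tmul, θ_tmul, θ_tmul, map_smul]
      congr 1
      show (φ ∘ₗ (LinearMap.ker f).subtype).baseChange B =
        (φ.baseChange B) ∘ₗ ((LinearMap.ker f).subtype.baseChange B)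
      exact LinearMap.baseChange_comp _ _
    | add x y hx hy => simp only [map_add, hx, hy]
  obtain ⟨e3⟩ := coker_baseChange (A := A) B (X := F →ₗ[A] N) (Y := LinearMap.ker f →ₗ[A] N)
    (X' := B ⊗[A] F →ₗ[B] B ⊗[A] N) (Y' := B ⊗[A] (LinearMap.ker f) →ₗ[B] B ⊗[A] N)
    (LinearMap.lcomp A N (LinearMap.ker f).subtype)
    (LinearMap.lcomp B (B ⊗[A] N) ((LinearMap.ker f).subtype.baseChange B))
    (θ A B N F) (θ A B N (LinearMap.ker f)) hsq
  exact ⟨(e1.baseChange A B _ _).trans (e3.trans e2.symm)⟩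

theorem Pstep (r : ℕ)
    (ih : ∀ (M : Type u) [AddCommGroup M] [Module A M] [Module.Finite A M],
      Nonempty ((B ⊗[A] Ext (ModuleCat.of A M) (ModuleCat.of A N) (r + 1)) ≃ₗ[B]
        Ext (ModuleCat.of B (B ⊗[A] M)) (ModuleCat.of B (B ⊗[A] N)) (r + 1)))
    (M : Type u) [AddCommGroup M] [Module A M] [Module.Finite A M] :
    Nonempty ((B ⊗[A] Ext (ModuleCat.of A M) (ModuleCat.of A N) (r + 2)) ≃ₗ[B]
      Ext (ModuleCat.of B (B ⊗[A] M)) (ModuleCat.of B (B ⊗[A] N)) (r + 2)) := by
  obtain ⟨F, _, _, _, _, f, surjf⟩ := Module.exists_finite_presentation A M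
  haveI : IsNoetherian A F := isNoetherian_of_isNoetherianRing_of_finite A F
  have hi : Function.Injective (LinearMap.ker f).subtype := Submodule.injective_subtype _
  have hif : Function.Exact (LinearMap.ker f).subtype f := LinearMap.exact_subtype_ker_map f
  have hiB : Function.Injective ((LinearMap.ker f).subtype.baseChange B) :=
    Module.Flat.lTensor_preserves_injective_linearMap (M := B) (LinearMap.ker f).subtype hi
  have hifB : Function.Exact ((LinearMap.ker f).subtype.baseChange B) (f.baseChange B) :=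
    lTensor_exact B hif surjf
  have hfB : Function.Surjective (f.baseChange B) := LinearMap.lTensor_surjective B surjf
  obtain ⟨s1⟩ := shift (LinearMap.ker f).subtype f hi hif surjf N r
  obtain ⟨s2⟩ := shift ((LinearMap.ker f).subtype.baseChange B) (f.baseChange B) hiB hifB hfB
    (B ⊗[A] N) r
  obtain ⟨e⟩ := ih (LinearMap.ker f)
  exact ⟨(s1.baseChange A B _ _).trans (e.trans s2.symm)⟩

/-- S11916 -/
theorem main : ∀ (r : ℕ) (M : Type u) [AddCommGroup M] [Module A M] [Module.Finite A M],
    Nonempty ((B ⊗[A] Ext (ModuleCat.of A M) (ModuleCat.of A N) r) ≃ₗ[B]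
      Ext (ModuleCat.of B (B ⊗[A] M)) (ModuleCat.of B (B ⊗[A] N)) r) := by
  intro r
  induction r with
  | zero =>
    intro M _ _ _
    haveI : Module.FinitePresentation A M := Module.finitePresentation_of_finite A M
    exact P0 A B N M
  | succ r ih =>
    cases r with
    | zero => intro M _ _ _; exact P1 A B N M
    | succ r => intro M _ _ _; exact Pstep A B N r (fun M' _ _ _ => ih M') M

end Main

end Groth.Agent.ExtBC
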