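import Mathlib
import Groth.Prelude.Def_Wider
import Groth.Prelude.Def_DualLC
import Groth.Agent.Lib.LocCohDeltaZero_helper7

/-!
# Compatibilities of the comparison map `Dual2.HmapOfLE` (helper6)

`H^i_{I'}(M) → H^i_I(M)` for `I ≤ I'`: formula on representatives, compatibility with the
connecting maps of helper7's long exact sequence, with the degree `0 → 1` connecting map `cMap`,
composition, and the degree `0` description.
-/

open CategoryTheory CategoryTheory.Limits Opposite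

namespace Groth.Agent.Lib.HmapBasic_helper6

open Groth.Agent.Lib.ExtCompareH7 Groth.Agent.Lib.LocCohLESH7 Groth.Agent.Lib.LocCohDTH7
open Groth.Agent.Lib.LocCohDeltaZeroH7 Groth.Agent.Lib.InjHull_helper3
open Groth.Agent.Lib.DT_helper3 LocCoh

universe u

variable {R : Type u} [CommRing R] {I I' : Ideal R} (h : I ≤ I')

/-- the quotient map `R/I^k → R/I'^k` at stage `k` -/
noncomputable abbrev qq (k : ℕᵒᵖᵒᵖ) : Xk I k ⟶ Xk I' k := (Dual2.quotMapOfLE h).app (unop k)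

lemma hmap_ι (i : ℕ) (M : ModuleCat.{u} R) (k : ℕᵒᵖᵒᵖ) (ξ : E i (Xk I' k) M) :
    ((Dual2.HmapOfLE h i).app M).hom ((ιk I' i k M).hom ξ) =
      (ιk I i k M).hom ((((Ext R (ModuleCat.{u} R) i).map (qq h k).op).app M).hom ξ) := by
  have h1 := ι_colimMap (Functor.whiskerRight (NatTrans.op (Dual2.quotMapOfLE h))
    (Ext R (ModuleCat.{u} R) i)) k
  have h2 := congrArg (fun α => (α.app M).hom ξ) h1
  exact h2

section delta

variable {S : ShortComplex (ModuleCat.{u} R)} (hS : S.ShortExact)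

include hS in
lemma hmap_δ (p : ℕ) (m : ((localCohomology I' (p + 1)).obj S.X₃ : ModuleCat.{u} R)) :
    ((Dual2.HmapOfLE h (p + 2)).app S.X₁).hom ((δ I' hS p).hom m) =
      (δ I hS p).hom (((Dual2.HmapOfLE h (p + 1)).app S.X₃).hom m) := by
  obtain ⟨k, ξ, rfl⟩ := exists_rep I' (p + 1) S.X₃ m
  have e1 : (δ I' hS p).hom ((ιk I' (p + 1) k S.X₃).hom ξ) = δFun I' hS p k ξ := δ_ι I' hS p k ξ
  have e2 : (δ I hS p).hom ((ιk I (p + 1) k S.X₃).hom
      ((((Ext R (ModuleCat.{u} R) (p + 1)).map (qq h k).op).app S.X₃).hom ξ)) =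
      δFun I hS p k ((((Ext R (ModuleCat.{u} R) (p + 1)).map (qq h k).op).app S.X₃).hom ξ) :=
    δ_ι I hS p k _
  rw [e1, hmap_ι h (p + 1) S.X₃ k ξ, e2]
  unfold δFun
  rw [hmap_ι h (p + 2) S.X₁ k]
  congr 1
  apply Θ_injective S.X₁ (p + 1)
  rw [Θ_map_X, Θ_Θinv, Θ_Θinv, Θ_map_X]
  exact (Abelian.Ext.comp_assoc (Abelian.Ext.mk₀ (qq h k)) (Θ S.X₃ p ξ) hS.extClass
    (zero_add (p + 1)) rfl (by omega)).symm

end delta

/-- the morphism of short exact sequences `(I^k → R → R/I^k) ⟶ (I'^k → R → R/I'^k)` -/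
noncomputable def ΦS (k : ℕ) : Sk I k ⟶ Sk I' k where
  τ₁ := ModuleCat.ofHom (Submodule.inclusion (Ideal.pow_right_mono h k))
  τ₂ := 𝟙 _
  τ₃ := qq h (op (op k))
  comm₁₂ := by
    apply ModuleCat.hom_ext
    apply LinearMap.ext
    intro x
    rfl
  comm₂₃ := by
    apply ModuleCat.hom_ext
    apply LinearMap.ext_ring
    rfl

lemma hmap_dcls (N : ModuleCat.{u} R) (k : ℕ) (φ : ↥(I' ^ k) →ₗ[R] N) :
    (Abelian.Ext.mk₀ (qq h (op (op k)))).comp (dcls I' N k φ) (zero_add 1) =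
      dcls I N k (φ ∘ₗ Submodule.inclusion (Ideal.pow_right_mono h k)) := by
  have hnat := ShortComplex.ShortExact.extClass_naturality (hSk I k) (hSk I' k) (ΦS h k)
  have e1 := Abelian.Ext.comp_assoc (Abelian.Ext.mk₀ (qq h (op (op k)))) (hSk I' k).extClass
    (Abelian.Ext.mk₀ (ModuleCat.ofHom φ)) (zero_add 1) (add_zero 1) (show 0 + 1 + 0 = 1 by omega)
  have e2 : ((Abelian.Ext.mk₀ (qq h (op (op k)))).comp (hSk I' k).extClass (zero_add 1)).comp
      (Abelian.Ext.mk₀ (ModuleCat.ofHom φ)) (add_zero 1) =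
      ((hSk I k).extClass.comp (Abelian.Ext.mk₀ (ΦS h k).τ₁) (add_zero 1)).comp
        (Abelian.Ext.mk₀ (ModuleCat.ofHom φ)) (add_zero 1) :=
    congrArg (fun y => y.comp (Abelian.Ext.mk₀ (ModuleCat.ofHom φ)) (add_zero 1)) hnat.symm
  have e3 := Abelian.Ext.comp_assoc_of_third_deg_zero (hSk I k).extClass
    (Abelian.Ext.mk₀ (ΦS h k).τ₁) (Abelian.Ext.mk₀ (ModuleCat.ofHom φ)) (add_zero 1)
  have e4 := Abelian.Ext.mk₀_comp_mk₀ (ΦS h k).τ₁ (ModuleCat.ofHom φ)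
  have e5 : (hSk I k).extClass.comp ((Abelian.Ext.mk₀ (ΦS h k).τ₁).comp
      (Abelian.Ext.mk₀ (ModuleCat.ofHom φ)) (add_zero 0)) (add_zero 1) =
      (hSk I k).extClass.comp (Abelian.Ext.mk₀ ((ΦS h k).τ₁ ≫ ModuleCat.ofHom φ))
        (add_zero 1) :=
    congrArg (fun y => (hSk I k).extClass.comp y (add_zero 1)) e4
  exact e1.symm.trans (e2.trans (e3.trans e5))

lemma hmap_ΦFun (M : Type u) [AddCommGroup M] [Module R M] (k : ℕ) (φ : ↥(I' ^ k) →ₗ[R] M) :
    ((Dual2.HmapOfLE h 1).app (ModuleCat.of R M)).hom (ΦFun I' M k φ) =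
      ΦFun I M k (φ ∘ₗ Submodule.inclusion (Ideal.pow_right_mono h k)) := by
  set ξ := Θinv (X := Xk I' (op (op k))) (ModuleCat.of R M) 0 (dcls I' (ModuleCat.of R M) k φ)
    with hξ
  have h1 : Θ (ModuleCat.of R M) 0 ξ = dcls I' (ModuleCat.of R M) k φ := Θ_Θinv _ _ _
  have h2 := Θ_map_X (qq h (op (op k))) (ModuleCat.of R M) 0 ξ
  have h3 : Θ (ModuleCat.of R M) 0
      ((((Ext R (ModuleCat.{u} R) 1).map (qq h (op (op k))).op).app (ModuleCat.of R M)).hom ξ) =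
      dcls I (ModuleCat.of R M) k (φ ∘ₗ Submodule.inclusion (Ideal.pow_right_mono h k)) :=
    h2.trans ((congrArg (fun y => (Abelian.Ext.mk₀ (qq h (op (op k)))).comp y (zero_add 1)) h1).trans
      (hmap_dcls h (ModuleCat.of R M) k φ))
  have h4 : Θinv (X := Xk I (op (op k))) (ModuleCat.of R M) 0
      (dcls I (ModuleCat.of R M) k (φ ∘ₗ Submodule.inclusion (Ideal.pow_right_mono h k))) =
      (((Ext R (ModuleCat.{u} R) 1).map (qq h (op (op k))).op).app (ModuleCat.of R M)).hom ξ :=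
    Θ_injective _ _ ((Θ_Θinv _ _ _).trans h3.symm)
  unfold ΦFun
  rw [h4]
  exact hmap_ι h 1 (ModuleCat.of R M) (op (op k)) ξ

lemma Γ_mono (h : I ≤ I') {X : Type u} [AddCommGroup X] [Module R X] {x : X} (hx : x ∈ Γ I' X) :
    x ∈ Γ I X := by
  obtain ⟨n, hn⟩ := (mem_Γ_iff I' x).1 hx
  exact (mem_Γ_iff I x).2 ⟨n, fun a ha => hn a (Ideal.pow_right_mono h n ha)⟩

section cMap

variable {M N Q : Type u} [AddCommGroup M] [Module R M] [AddCommGroup N] [Module R N]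
  [AddCommGroup Q] [Module R Q] (f : M →ₗ[R] N) (g : N →ₗ[R] Q)
  (hf : Function.Injective f) (hg : Function.Surjective g) (hfg : Function.Exact f g)

include hf hg hfg in
lemma hmap_cMap (q : ↥(Γ I' Q)) :
    ((Dual2.HmapOfLE h 1).app (ModuleCat.of R M)).hom (cMap I' f g hf hg hfg q) =
      cMap I f g hf hg hfg ⟨q.1, Γ_mono h q.2⟩ := by
  obtain ⟨⟨e, z⟩, h1, h2⟩ := exC I' f g hf hg hfg q
  obtain ⟨k, φ, rfl⟩ := exists_cls I' z
  have h3 : ((idealTransform I).map (ModuleCat.ofHom f)).hom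
      (cls I k (φ ∘ₗ Submodule.inclusion (Ideal.pow_right_mono h k))) = LocCoh.toDT I N e := by
    rw [map_cls, toDT_eq_cls' I k]
    have h2' : cls I' k (f ∘ₗ φ) = cls I' k (smulMap I' k e) := by
      rw [← map_cls, ← toDT_eq_cls' I' k]
      exact h2
    have h0 : cls I' k (f ∘ₗ φ - smulMap I' k e) = 0 := by rw [map_sub, h2', sub_self]
    obtain ⟨k', hk', hres⟩ := (cls_eq_zero_iff I' k _).1 h0
    rw [← sub_eq_zero, ← map_sub]
    refine (cls_eq_zero_iff I k _).2 ⟨k', hk', ?_⟩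
    apply LinearMap.ext
    intro x
    have h4 := LinearMap.congr_fun hres ⟨x.1, Ideal.pow_right_mono h k' x.2⟩
    exact h4
  rw [cMap_spec I' f g hf hg hfg q e _ h1 h2, ΦD_cls, hmap_ΦFun,
    cMap_spec I f g hf hg hfg ⟨q.1, Γ_mono h q.2⟩ e _ h1 h3, ΦD_cls]

end cMap

section comp

lemma hmap_comp {J J' J'' : Ideal R} (h₁ : J ≤ J') (h₂ : J' ≤ J'') (i : ℕ) (M : ModuleCat.{u} R)
    (x : ((localCohomology J'' i).obj M : ModuleCat.{u} R)) :
    ((Dual2.HmapOfLE (h₁.trans h₂) i).app M).hom x =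
      ((Dual2.HmapOfLE h₁ i).app M).hom (((Dual2.HmapOfLE h₂ i).app M).hom x) := by
  obtain ⟨k, ξ, rfl⟩ := exists_rep J'' i M x
  rw [hmap_ι, hmap_ι, hmap_ι]
  congr 1
  have hq : qq (h₁.trans h₂) k = qq h₁ k ≫ qq h₂ k := by
    apply ModuleCat.hom_ext
    apply LinearMap.ext
    intro y
    obtain ⟨y, rfl⟩ := Submodule.Quotient.mk_surjective _ y
    rfl
  rw [hq, op_comp, CategoryTheory.Functor.map_comp, NatTrans.comp_app]
  rfl

lemma hmap_refl (J : Ideal R) (i : ℕ) (M : ModuleCat.{u} R)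
    (x : ((localCohomology J i).obj M : ModuleCat.{u} R)) :
    ((Dual2.HmapOfLE (le_refl J) i).app M).hom x = x := by
  obtain ⟨k, ξ, rfl⟩ := exists_rep J i M x
  rw [hmap_ι]
  have hq : qq (le_refl J) k = 𝟙 _ := by
    apply ModuleCat.hom_ext
    apply LinearMap.ext
    intro y
    obtain ⟨y, rfl⟩ := Submodule.Quotient.mk_surjective _ y
    rfl
  rw [hq, op_id, CategoryTheory.Functor.map_id, NatTrans.id_app]
  rfl

lemma hmap_bijective_of_eq {J J' : Ideal R} (h : J ≤ J') (heq : J = J') (i : ℕ)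
    (M : ModuleCat.{u} R) : Function.Bijective ((Dual2.HmapOfLE h i).app M).hom := by
  subst heq
  have key : ∀ x, ((Dual2.HmapOfLE h i).app M).hom x = x := hmap_refl J i M
  exact ⟨fun a b hab => by rw [← key a, ← key b, hab], fun y => ⟨y, key y⟩⟩

end comp

section Zero

open Groth.Agent.Lib.LocCohH0H7 Groth.Agent.Lib.LocCohTorsVanishH7

variable (K : Ideal R) (N : Type u) [AddCommGroup N] [Module R N]

/-- the natural map `H^0_K(N) → N` -/
noncomputable def Φ0 : LocCoh.H K 0 N →ₗ[R] N :=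
  ((isColimitOfPreserves ((evaluation _ _).obj (ModuleCat.of R N))
    (colimit.isColimit (localCohomology.diagram (localCohomology.idealPowersDiagram K) 0))).desc
      (coc K (ModuleCat.of R N))).hom

lemma Φ0_ι (k : ℕᵒᵖᵒᵖ) (ξ : E 0 (Xk K k) (ModuleCat.of R N)) :
    Φ0 K N ((ιk K 0 k (ModuleCat.of R N)).hom ξ) = (c K (ModuleCat.of R N) k).hom ξ := by
  have h := congrArg (fun α => α.hom ξ)
    ((isColimitOfPreserves ((evaluation _ _).obj (ModuleCat.of R N))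
      (colimit.isColimit (localCohomology.diagram (localCohomology.idealPowersDiagram K) 0))).fac
        (coc K (ModuleCat.of R N)) k)
  exact h

lemma Φ0_injective : Function.Injective (Φ0 K N) := by
  rw [injective_iff_map_eq_zero]
  intro m hm
  obtain ⟨k, y, hy⟩ := exists_rep K 0 (ModuleCat.of R N) m
  rw [← hy] at hm ⊢
  rw [Φ0_ι, c_apply] at hm
  have h1 : (j (ModuleCat.of R (R ⧸ Jk K k)) (ModuleCat.of R N)).inv.hom y = 0 := by
    apply hom_ext_one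
    rw [hm]
    rfl
  have h2 : y = 0 := iso_inv_eq_zero (j (ModuleCat.of R (R ⧸ Jk K k)) (ModuleCat.of R N)) y h1
  rw [h2, map_zero]

lemma Φ0_mem (m : LocCoh.H K 0 N) : Φ0 K N m ∈ Γ K N := by
  obtain ⟨k, y, hy⟩ := exists_rep K 0 (ModuleCat.of R N) m
  rw [← hy, Φ0_ι, c_apply, mem_Γ_iff]
  refine ⟨unop (unop k), fun a ha => ?_⟩
  rw [← map_smul, Algebra.smul_def, Ideal.Quotient.algebraMap_eq, ← map_mul, mul_one]
  have h0 : Ideal.Quotient.mk (Jk K k) a = 0 := Ideal.Quotient.eq_zero_iff_mem.2 ha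
  rw [h0, map_zero]

lemma Φ0_surj (y : N) (hy : y ∈ Γ K N) : ∃ z : LocCoh.H K 0 N, Φ0 K N z = y := by
  obtain ⟨n, hn⟩ := (mem_Γ_iff K y).1 hy
  let k : ℕᵒᵖᵒᵖ := op (op n)
  let hh : (R ⧸ Jk K k) →ₗ[R] N := (Jk K k).liftQ (LinearMap.toSpanSingleton R N y) (by
    intro a ha
    rw [LinearMap.mem_ker, LinearMap.toSpanSingleton_apply]
    exact hn a ha)
  let ξ : E 0 (ModuleCat.of R (R ⧸ Jk K k)) (ModuleCat.of R N) :=
    (j (ModuleCat.of R (R ⧸ Jk K k)) (ModuleCat.of R N)).hom.hom (ModuleCat.ofHom hh)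
  refine ⟨(ιk K 0 k (ModuleCat.of R N)).hom ξ, ?_⟩
  rw [Φ0_ι, c_apply]
  have h1 : (j (ModuleCat.of R (R ⧸ Jk K k)) (ModuleCat.of R N)).inv.hom ξ =
      ModuleCat.ofHom hh := by
    have h2 := congrArg (fun α => α.hom (ModuleCat.ofHom hh))
      (j (ModuleCat.of R (R ⧸ Jk K k)) (ModuleCat.of R N)).hom_inv_id
    exact h2
  rw [h1]
  show LinearMap.toSpanSingleton R N y 1 = y
  rw [LinearMap.toSpanSingleton_apply, one_smul]

variable {K}

lemma Φ0_hmap (x : LocCoh.H I' 0 N) :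
    Φ0 I N (((Dual2.HmapOfLE h 0).app (ModuleCat.of R N)).hom x) = Φ0 I' N x := by
  obtain ⟨k, ξ, rfl⟩ := exists_rep I' 0 (ModuleCat.of R N) x
  rw [hmap_ι, Φ0_ι, Φ0_ι]
  have h1 := j_inv_naturality_apply (qq h k) (ModuleCat.of R N) ξ
  have h2 := congrArg (fun g : ModuleCat.of R (R ⧸ Jk I k) ⟶ ModuleCat.of R N =>
    g.hom (Ideal.Quotient.mk (Jk I k) 1)) h1
  exact h2

lemma hmap_zero_injective :
    Function.Injective ((Dual2.HmapOfLE h 0).app (ModuleCat.of R N)).hom := by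
  intro x y hxy
  apply Φ0_injective I' N
  rw [← Φ0_hmap h N x, ← Φ0_hmap h N y, hxy]

end Zero

end Groth.Agent.Lib.HmapBasic_helper6
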