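import Mathlib
import Groth.Prelude.Def_Wider
import Groth.Prelude.Def_DualLC
import Groth.Agent.Lib.HmapBasic_helper6
import Groth.Agent.Lib.LocCohInjAcyc_helper7
import Groth.Agent.Lib.LocCohFlatBC_helper7

/-!
# Image and kernel of `H^i_{a+(b)}(M) → H^i_a(M)` (helper6)

For a Noetherian ring `R`, an ideal `a`, `b ∈ R` and any module `M`:
* `PA`: an element of `H^i_a(M)` killed by a power of `b` is in the image of the comparison map;
* `PB`: if `H^i_a(M)` is `b`-divisible modulo `b`-torsion, the comparison map in degree `i+1` is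
  injective;
* `torsion_of_LV`: `H^i_a(M)` is `b`-power torsion as soon as the local cohomology vanishes
  locally at the primes of `V(a) ∖ V(b)`;
* the resulting criteria for surjectivity / injectivity of `H^i_{I'}(M) → H^i_I(M)`.
-/

open CategoryTheory CategoryTheory.Limits Opposite

namespace Groth.Agent.Lib.HmapExact_helper6

open Groth.Agent.Lib.ExtCompareH7 Groth.Agent.Lib.LocCohLESH7 Groth.Agent.Lib.LocCohDTH7
open Groth.Agent.Lib.LocCohDeltaZeroH7 Groth.Agent.Lib.InjHull_helper3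
open Groth.Agent.Lib.LocCohCdSupH7 Groth.Agent.DepthLib
open Groth.Agent.Lib.HmapBasic_helper6 LocCoh

universe u

variable {R : Type u} [CommRing R]

section Div

variable [IsNoetherianRing R]

/-- in an injective module over a Noetherian ring, every element is divisible by `b^n` up to
`b`-power torsion -/
theorem exists_div (E : Type u) [AddCommGroup E] [Module R E] [hE : Module.Injective R E]
    (b : R) (e : E) (n : ℕ) : ∃ (e' : E) (s : ℕ), b ^ s • (b ^ n • e' - e) = 0 := by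
  let J : ℕ →o Ideal R := ⟨fun j => Submodule.torsionBy R R (b ^ j), fun i j hij =>
    Submodule.torsionBy_le_torsionBy_of_dvd _ _ (pow_dvd_pow b hij)⟩
  obtain ⟨s, hs⟩ := monotone_stabilizes_iff_noetherian.2 inferInstance J
  let f₀ : R →ₗ[R] R := LinearMap.toSpanSingleton R R (b ^ (n + s))
  let g₀ : R →ₗ[R] E := LinearMap.toSpanSingleton R E (b ^ s • e)
  have hker : LinearMap.ker f₀ ≤ LinearMap.ker g₀ := by
    intro r hr
    rw [LinearMap.mem_ker, LinearMap.toSpanSingleton_apply] at hr ⊢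
    have h1 : r ∈ J (n + s) := by
      show r ∈ Submodule.torsionBy R R (b ^ (n + s))
      rw [Submodule.mem_torsionBy_iff, smul_eq_mul, mul_comm]
      exact hr
    rw [← hs (n + s) (Nat.le_add_left s n)] at h1
    have h2 : b ^ s • r = 0 := (Submodule.mem_torsionBy_iff _ _).1 h1
    have h3 : r * b ^ s = 0 := by rw [mul_comm]; exact h2
    rw [smul_smul, h3, zero_smul]
  let X : Submodule R R := LinearMap.range f₀
  let g : ↥X →ₗ[R] E := (Submodule.liftQ (LinearMap.ker f₀) g₀ hker) ∘ₗ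
    (LinearMap.quotKerEquivRange f₀).symm.toLinearMap
  obtain ⟨hext, hh⟩ := hE.out X.subtype (Submodule.injective_subtype X) g
  refine ⟨hext 1, s, ?_⟩
  have h1 : hext (f₀ 1) = g ⟨f₀ 1, LinearMap.mem_range_self f₀ 1⟩ :=
    hh ⟨f₀ 1, LinearMap.mem_range_self f₀ 1⟩
  have h2 : g ⟨f₀ 1, LinearMap.mem_range_self f₀ 1⟩ = g₀ 1 := by
    show Submodule.liftQ _ g₀ hker
      ((LinearMap.quotKerEquivRange f₀).symm ⟨f₀ 1, LinearMap.mem_range_self f₀ 1⟩) = g₀ 1
    rw [LinearMap.quotKerEquivRange_symm_apply_image]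
    rfl
  have h3 : f₀ 1 = b ^ (n + s) • (1 : R) := by
    rw [LinearMap.toSpanSingleton_apply, one_smul, smul_eq_mul, mul_one]
  have h4 : g₀ 1 = b ^ s • e := by
    rw [LinearMap.toSpanSingleton_apply, one_smul]
  have key : b ^ (n + s) • hext 1 = b ^ s • e := by
    rw [← map_smul, ← h3, h1, h2, h4]
  rw [smul_sub, smul_smul, ← pow_add, add_comm s n, key, sub_self]

end Div

section Gamma

variable (a : Ideal R) (b : R)

lemma mem_Γ_sup {X : Type u} [AddCommGroup X] [Module R X] {x : X} (hx : x ∈ Γ a X) (n : ℕ)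
    (hb : b ^ n • x = 0) : x ∈ Γ (a ⊔ Ideal.span {b}) X := by
  obtain ⟨k, hk⟩ := (mem_Γ_iff a x).1 hx
  refine (mem_Γ_iff _ x).2 ⟨k + n, fun r hr => ?_⟩
  have hr' : r ∈ a ^ k ⊔ (Ideal.span {b}) ^ n := Ideal.sup_pow_add_le_pow_sup_pow hr
  obtain ⟨v, hv, w, hw, rfl⟩ := Submodule.mem_sup.1 hr'
  rw [Ideal.span_singleton_pow, Ideal.mem_span_singleton'] at hw
  obtain ⟨t, rfl⟩ := hw
  rw [add_smul, hk v hv, mul_smul, hb, smul_zero, add_zero]

lemma exists_pow_smul_of_mem_Γ_sup {X : Type u} [AddCommGroup X] [Module R X] {x : X}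
    (hx : x ∈ Γ (a ⊔ Ideal.span {b}) X) : ∃ n : ℕ, b ^ n • x = 0 := by
  obtain ⟨k, hk⟩ := (mem_Γ_iff _ x).1 hx
  exact ⟨k, hk _ (Ideal.pow_mem_pow (Ideal.mem_sup_right (Ideal.mem_span_singleton_self b)) k)⟩

end Gamma

section Main

variable [IsNoetherianRing R] (a : Ideal R) (b : R)

/-- the comparison map `H^i_{a+(b)}(M) → H^i_a(M)` -/
noncomputable abbrev Ψ (i : ℕ) (M : Type u) [AddCommGroup M] [Module R M] :
    LocCoh.H (a ⊔ Ideal.span {b}) i M →ₗ[R] LocCoh.H a i M :=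
  ((Dual2.HmapOfLE (le_sup_left : a ≤ a ⊔ Ideal.span {b}) i).app (ModuleCat.of R M)).hom

/-- elements killed by a power of `b` are in the image -/
def PA (i : ℕ) : Prop :=
  ∀ (M : Type u) [AddCommGroup M] [Module R M] (y : LocCoh.H a i M) (n : ℕ),
    b ^ n • y = 0 → y ∈ LinearMap.range (Ψ a b i M)

/-- divisibility by powers of `b` up to `b`-power torsion -/
def Dv (X : Type u) [AddCommGroup X] [Module R X] : Prop :=
  ∀ (y : X) (n : ℕ), ∃ (y' : X) (s : ℕ), b ^ s • (b ^ n • y' - y) = 0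

/-- the same for the elements of `Γ_a` -/
def DvΓ (X : Type u) [AddCommGroup X] [Module R X] : Prop :=
  ∀ y ∈ Γ a X, ∀ n : ℕ, ∃ y' ∈ Γ a X, ∃ s : ℕ, b ^ s • (b ^ n • y' - y) = 0

/-- injectivity in the next degree -/
def PB (i : ℕ) : Prop :=
  ∀ (M : Type u) [AddCommGroup M] [Module R M], Dv b (LocCoh.H a i M) →
    Function.Injective (Ψ a b (i + 1) M)

lemma Dv_of_bijective {X Y : Type u} [AddCommGroup X] [Module R X] [AddCommGroup Y] [Module R Y]
    (f : X →ₗ[R] Y) (hf : Function.Bijective f) (hY : Dv b Y) : Dv b X := by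
  intro x n
  obtain ⟨y', s, hs⟩ := hY (f x) n
  obtain ⟨x', rfl⟩ := hf.2 y'
  refine ⟨x', s, hf.1 ?_⟩
  rw [map_smul, map_sub, map_smul, hs, map_zero]

theorem PA0 : PA a b 0 := by
  intro M _ _ y n hy
  have h1 : Φ0 a M y ∈ Γ (a ⊔ Ideal.span {b}) M :=
    mem_Γ_sup a b (Φ0_mem a M y) n (by rw [← map_smul, hy, map_zero])
  obtain ⟨x, hx⟩ := Φ0_surj (a ⊔ Ideal.span {b}) M _ h1
  refine ⟨x, ?_⟩
  apply Φ0_injective a M
  rw [← hx]
  exact Φ0_hmap (le_sup_left : a ≤ a ⊔ Ideal.span {b}) M x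

section Step

variable {M E : Type u} [AddCommGroup M] [Module R M] [AddCommGroup E] [Module R E]
  (ι : M →ₗ[R] E) (hι : Function.Injective ι) (hE : Module.Injective R E)

include hι hE in
theorem PA1_aux (y : LocCoh.H a 1 M) (n : ℕ) (hy : b ^ n • y = 0) :
    y ∈ LinearMap.range (Ψ a b 1 M) := by
  have hπ := Submodule.mkQ_surjective (LinearMap.range ι)
  have hex := LinearMap.exact_map_mkQ_range ι
  have hacyc : Subsingleton (LocCoh.H a 1 E) :=
    Groth.Agent.Lib.LocCohInjAcycH7.main (R := R) (R' := R) a E 1 one_pos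
  obtain ⟨q, rfl⟩ := cMap_surjective a ι _ hι hπ hex hacyc y
  have h0 : cMap a ι _ hι hπ hex (b ^ n • q) = 0 := by rw [map_smul, hy]
  obtain ⟨e, he, hge⟩ := (cMap_eq_zero_iff a ι _ hι hπ hex (b ^ n • q)).1 h0
  have hge' : (LinearMap.range ι).mkQ e = b ^ n • (q : E ⧸ LinearMap.range ι) := hge
  haveI := injective_Γ hE a
  obtain ⟨e', s, hs⟩ := exists_div (↥(Γ a E)) b ⟨e, he⟩ n
  have hs' : b ^ s • (b ^ n • (e' : E) - e) = 0 := congrArg Subtype.val hs
  have hπe' : (LinearMap.range ι).mkQ (e' : E) ∈ Γ a (E ⧸ LinearMap.range ι) :=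
    map_mem_Γ a _ e'.2
  have hq''a : (q : E ⧸ LinearMap.range ι) - (LinearMap.range ι).mkQ (e' : E) ∈
      Γ a (E ⧸ LinearMap.range ι) := Submodule.sub_mem _ q.2 hπe'
  have hq''b : b ^ (n + s) • ((q : E ⧸ LinearMap.range ι) - (LinearMap.range ι).mkQ (e' : E)) =
      0 := by
    calc b ^ (n + s) • ((q : E ⧸ LinearMap.range ι) - (LinearMap.range ι).mkQ (e' : E))
        = b ^ s • (b ^ n • (q : E ⧸ LinearMap.range ι) -
            (LinearMap.range ι).mkQ (b ^ n • (e' : E))) := by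
          rw [pow_add, mul_comm, mul_smul, smul_sub, map_smul]
      _ = - (LinearMap.range ι).mkQ (b ^ s • (b ^ n • (e' : E) - e)) := by
          rw [← hge', ← map_sub, ← map_smul, ← map_neg, ← smul_neg, neg_sub]
      _ = 0 := by rw [hs', map_zero, neg_zero]
  have hq''c := mem_Γ_sup a b hq''a (n + s) hq''b
  refine ⟨cMap (a ⊔ Ideal.span {b}) ι _ hι hπ hex ⟨_, hq''c⟩, ?_⟩
  have h5 := hmap_cMap (le_sup_left : a ≤ a ⊔ Ideal.span {b}) ι _ hι hπ hex ⟨_, hq''c⟩
  refine h5.trans ?_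
  have h6 : (⟨(q : E ⧸ LinearMap.range ι) - (LinearMap.range ι).mkQ (e' : E),
      Γ_mono (le_sup_left : a ≤ a ⊔ Ideal.span {b}) hq''c⟩ : ↥(Γ a (E ⧸ LinearMap.range ι))) =
      q - ⟨(LinearMap.range ι).mkQ (e' : E), hπe'⟩ := Subtype.ext rfl
  rw [h6, map_sub, (cMap_eq_zero_iff a ι _ hι hπ hex ⟨_, hπe'⟩).2 ⟨e', e'.2, rfl⟩, sub_zero]

include hι hE in
theorem PA_succ_aux (p : ℕ) (ih : PA a b (p + 1)) (y : LocCoh.H a (p + 2) M) (n : ℕ)
    (hy : b ^ n • y = 0) : y ∈ LinearMap.range (Ψ a b (p + 2) M) := by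
  have hπ := Submodule.mkQ_surjective (LinearMap.range ι)
  have hex := LinearMap.exact_map_mkQ_range ι
  have hS := shortComplexOf_shortExact ι (LinearMap.range ι).mkQ hι hπ hex
  have hb := δ_bijective a hS p
    (Groth.Agent.Lib.LocCohInjAcycH7.main (R := R) (R' := R) a E (p + 1) (Nat.succ_pos p))
    (Groth.Agent.Lib.LocCohInjAcycH7.main (R := R) (R' := R) a E (p + 2) (Nat.succ_pos (p + 1)))
  obtain ⟨y', rfl⟩ := hb.2 y
  have hy' : b ^ n • y' = 0 :=
    hb.1 ((map_smul (δ a hS p).hom (b ^ n) y').trans (hy.trans (map_zero (δ a hS p).hom).symm))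
  obtain ⟨z', hz'⟩ := ih (E ⧸ LinearMap.range ι) y' n hy'
  refine ⟨(δ (a ⊔ Ideal.span {b}) hS p).hom z', ?_⟩
  rw [← hz']
  exact hmap_δ (le_sup_left : a ≤ a ⊔ Ideal.span {b}) hS p z'

include hι hE in
theorem PB0_aux (hD : DvΓ a b M) : Function.Injective (Ψ a b 1 M) := by
  have hπ := Submodule.mkQ_surjective (LinearMap.range ι)
  have hex := LinearMap.exact_map_mkQ_range ι
  have hacyc : Subsingleton (LocCoh.H (a ⊔ Ideal.span {b}) 1 E) :=
    Groth.Agent.Lib.LocCohInjAcycH7.main (R := R) (R' := R) (a ⊔ Ideal.span {b}) E 1 one_pos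
  rw [injective_iff_map_eq_zero]
  intro z hz
  obtain ⟨q, rfl⟩ := cMap_surjective (a ⊔ Ideal.span {b}) ι _ hι hπ hex hacyc z
  have h5 := hmap_cMap (le_sup_left : a ≤ a ⊔ Ideal.span {b}) ι _ hι hπ hex q
  have hz' : cMap a ι _ hι hπ hex
      ⟨q.1, Γ_mono (le_sup_left : a ≤ a ⊔ Ideal.span {b}) q.2⟩ = 0 := h5.symm.trans hz
  obtain ⟨e, he, hge⟩ := (cMap_eq_zero_iff a ι _ hι hπ hex _).1 hz'
  have hge' : (LinearMap.range ι).mkQ e = (q : E ⧸ LinearMap.range ι) := hge
  obtain ⟨k, hk⟩ := exists_pow_smul_of_mem_Γ_sup a b q.2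
  have h1 : (LinearMap.range ι).mkQ (b ^ k • e) = 0 := by rw [map_smul, hge', hk]
  obtain ⟨m, hm⟩ := (hex (b ^ k • e)).1 h1
  have hmΓ : m ∈ Γ a M := mem_Γ_of_map a ι hι (by rw [hm]; exact Submodule.smul_mem _ _ he)
  obtain ⟨m', hm', s, hs⟩ := hD m hmΓ k
  have he''a : e - ι m' ∈ Γ a E := Submodule.sub_mem _ he (map_mem_Γ a ι hm')
  have he''b : b ^ (k + s) • (e - ι m') = 0 := by
    calc b ^ (k + s) • (e - ι m') = b ^ s • (b ^ k • e - ι (b ^ k • m')) := by
          rw [pow_add, mul_comm, mul_smul, smul_sub, map_smul]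
      _ = - ι (b ^ s • (b ^ k • m' - m)) := by
          rw [← hm, ← map_sub, ← map_smul, ← map_neg, ← smul_neg, neg_sub]
      _ = 0 := by rw [hs, map_zero, neg_zero]
  have he''c := mem_Γ_sup a b he''a (k + s) he''b
  apply (cMap_eq_zero_iff (a ⊔ Ideal.span {b}) ι _ hι hπ hex q).2
  refine ⟨e - ι m', he''c, ?_⟩
  rw [map_sub, hge', hex.apply_apply_eq_zero, sub_zero]

include hι hE in
theorem DvΓ_quot (hD : Dv b (LocCoh.H a 1 M)) : DvΓ a b (E ⧸ LinearMap.range ι) := by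
  have hπ := Submodule.mkQ_surjective (LinearMap.range ι)
  have hex := LinearMap.exact_map_mkQ_range ι
  have hacyc : Subsingleton (LocCoh.H a 1 E) :=
    Groth.Agent.Lib.LocCohInjAcycH7.main (R := R) (R' := R) a E 1 one_pos
  intro q hq n
  obtain ⟨w, s, hs⟩ := hD (cMap a ι _ hι hπ hex ⟨q, hq⟩) n
  obtain ⟨q', rfl⟩ := cMap_surjective a ι _ hι hπ hex hacyc w
  have h0 : cMap a ι _ hι hπ hex (b ^ s • (b ^ n • q' - ⟨q, hq⟩)) = 0 := by
    rw [map_smul, map_sub, map_smul]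
    exact hs
  obtain ⟨e, he, hge⟩ := (cMap_eq_zero_iff a ι _ hι hπ hex _).1 h0
  have hge' : (LinearMap.range ι).mkQ e =
      b ^ s • (b ^ n • (q' : E ⧸ LinearMap.range ι) - q) := hge
  haveI := injective_Γ hE a
  obtain ⟨e', t, ht⟩ := exists_div (↥(Γ a E)) b ⟨e, he⟩ (s + n)
  have ht' : b ^ t • (b ^ (s + n) • (e' : E) - e) = 0 := congrArg Subtype.val ht
  have hπe' : (LinearMap.range ι).mkQ (e' : E) ∈ Γ a (E ⧸ LinearMap.range ι) :=
    map_mem_Γ a _ e'.2
  refine ⟨(q' : E ⧸ LinearMap.range ι) - (LinearMap.range ι).mkQ (e' : E),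
    Submodule.sub_mem _ q'.2 hπe', t + s, ?_⟩
  calc b ^ (t + s) • (b ^ n • ((q' : E ⧸ LinearMap.range ι) -
        (LinearMap.range ι).mkQ (e' : E)) - q)
      = b ^ t • (b ^ s • (b ^ n • (q' : E ⧸ LinearMap.range ι) - q) -
          (LinearMap.range ι).mkQ (b ^ (s + n) • (e' : E))) := by
        rw [pow_add b t s, mul_smul, map_smul, pow_add b s n, mul_smul]
        congr 1
        rw [smul_sub, smul_sub, smul_sub, smul_sub]
        abel
    _ = - (LinearMap.range ι).mkQ (b ^ t • (b ^ (s + n) • (e' : E) - e)) := by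
        rw [← hge', ← map_sub, ← map_smul, ← map_neg, ← smul_neg, neg_sub]
    _ = 0 := by rw [ht', map_zero, neg_zero]

include hι hE in
theorem PB_shift (p : ℕ)
    (hN : Function.Injective (Ψ a b (p + 1) (E ⧸ LinearMap.range ι))) :
    Function.Injective (Ψ a b (p + 2) M) := by
  have hπ := Submodule.mkQ_surjective (LinearMap.range ι)
  have hex := LinearMap.exact_map_mkQ_range ι
  have hS := shortComplexOf_shortExact ι (LinearMap.range ι).mkQ hι hπ hex
  have hba := δ_bijective a hS p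
    (Groth.Agent.Lib.LocCohInjAcycH7.main (R := R) (R' := R) a E (p + 1) (Nat.succ_pos p))
    (Groth.Agent.Lib.LocCohInjAcycH7.main (R := R) (R' := R) a E (p + 2) (Nat.succ_pos (p + 1)))
  have hbc := δ_bijective (a ⊔ Ideal.span {b}) hS p
    (Groth.Agent.Lib.LocCohInjAcycH7.main (R := R) (R' := R) (a ⊔ Ideal.span {b}) E (p + 1)
      (Nat.succ_pos p))
    (Groth.Agent.Lib.LocCohInjAcycH7.main (R := R) (R' := R) (a ⊔ Ideal.span {b}) E (p + 2)
      (Nat.succ_pos (p + 1)))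
  rw [injective_iff_map_eq_zero]
  intro z hz
  obtain ⟨z', rfl⟩ := hbc.2 z
  have h1 := hmap_δ (le_sup_left : a ≤ a ⊔ Ideal.span {b}) hS p z'
  have h2 : (δ a hS p).hom (Ψ a b (p + 1) (E ⧸ LinearMap.range ι) z') = 0 := h1.symm.trans hz
  have h3 : Ψ a b (p + 1) (E ⧸ LinearMap.range ι) z' = 0 :=
    hba.1 (h2.trans (map_zero (δ a hS p).hom).symm)
  have h4 : z' = 0 := hN (h3.trans (map_zero _).symm)
  rw [h4]
  exact map_zero _

include hι hE in
theorem Dv_shift (p : ℕ) (hD : Dv b (LocCoh.H a (p + 2) M)) :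
    Dv b (LocCoh.H a (p + 1) (E ⧸ LinearMap.range ι)) := by
  have hπ := Submodule.mkQ_surjective (LinearMap.range ι)
  have hex := LinearMap.exact_map_mkQ_range ι
  have hS := shortComplexOf_shortExact ι (LinearMap.range ι).mkQ hι hπ hex
  have hba := δ_bijective a hS p
    (Groth.Agent.Lib.LocCohInjAcycH7.main (R := R) (R' := R) a E (p + 1) (Nat.succ_pos p))
    (Groth.Agent.Lib.LocCohInjAcycH7.main (R := R) (R' := R) a E (p + 2) (Nat.succ_pos (p + 1)))
  exact Dv_of_bijective b (δ a hS p).hom hba hD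

end Step

theorem PA_all : ∀ i : ℕ, PA a b i := by
  intro i
  induction i with
  | zero => exact PA0 a b
  | succ i ih =>
    intro M _ _ y n hy
    obtain ⟨E, _, _, ι, hE, hι⟩ := exists_injective_embedding (R := R) M
    rcases i with _ | p
    · exact PA1_aux a b ι hι hE y n hy
    · exact PA_succ_aux a b ι hι hE p ih y n hy

theorem PB0Γ (M : Type u) [AddCommGroup M] [Module R M] (hD : DvΓ a b M) :
    Function.Injective (Ψ a b 1 M) := by
  obtain ⟨E, _, _, ι, hE, hι⟩ := exists_injective_embedding (R := R) M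
  exact PB0_aux a b ι hι hE hD

theorem DvΓ_of_Dv (M : Type u) [AddCommGroup M] [Module R M] (hD : Dv b (LocCoh.H a 0 M)) :
    DvΓ a b M := by
  intro m hm n
  obtain ⟨y, rfl⟩ := Φ0_surj a M m hm
  obtain ⟨y', s, hs⟩ := hD y n
  refine ⟨Φ0 a M y', Φ0_mem a M y', s, ?_⟩
  rw [← map_smul, ← map_sub, ← map_smul, hs, map_zero]

theorem PB_all : ∀ i : ℕ, PB a b i := by
  intro i
  induction i with
  | zero =>
    intro M _ _ hD
    exact PB0Γ a b M (DvΓ_of_Dv a b M hD)
  | succ i ih =>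
    intro M _ _ hD
    obtain ⟨E, _, _, ι, hE, hι⟩ := exists_injective_embedding (R := R) M
    rcases i with _ | p
    · exact PB_shift a b ι hι hE 0 (PB0Γ a b _ (DvΓ_quot a b ι hι hE hD))
    · exact PB_shift a b ι hι hE (p + 1) (ih _ (Dv_shift a b ι hι hE p hD))

/-- if `H^i_a(M)` is `b`-power torsion, `H^i_{a+(b)}(M) → H^i_a(M)` is surjective -/
theorem surj_of_torsion (i : ℕ) (M : Type u) [AddCommGroup M] [Module R M]
    (ht : ∀ y : LocCoh.H a i M, ∃ n : ℕ, b ^ n • y = 0) : Function.Surjective (Ψ a b i M) := by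
  intro y
  obtain ⟨n, hn⟩ := ht y
  exact PA_all a b i M y n hn

/-- if `H^i_a(M)` is `b`-power torsion, `H^{i+1}_{a+(b)}(M) → H^{i+1}_a(M)` is injective -/
theorem inj_succ_of_torsion (i : ℕ) (M : Type u) [AddCommGroup M] [Module R M]
    (ht : ∀ y : LocCoh.H a i M, ∃ n : ℕ, b ^ n • y = 0) :
    Function.Injective (Ψ a b (i + 1) M) := by
  apply PB_all a b i M
  intro y n
  obtain ⟨s, hs⟩ := ht y
  exact ⟨0, s, by rw [smul_zero, zero_sub, smul_neg, hs, neg_zero]⟩

end Main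

end Groth.Agent.Lib.HmapExact_helper6
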