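import Mathlib
import Groth.Prelude.Def_Wider
import Groth.Prelude.Def_DualLC
import Groth.Agent.Lib.HmapExact_helper6
import Groth.Agent.Lib.LocCohAra_helper7

/-!
# The kernel of `H^{i+1}_{a+(b)}(M) → H^{i+1}_a(M)` is `H^1_{(b)}(H^i_a(M))` (helper6)
-/

open CategoryTheory CategoryTheory.Limits Opposite

namespace Groth.Agent.Lib.HmapKer_helper6

open Groth.Agent.Lib.ExtCompareH7 Groth.Agent.Lib.LocCohLESH7 Groth.Agent.Lib.LocCohDTH7
open Groth.Agent.Lib.LocCohDeltaZeroH7 Groth.Agent.Lib.InjHull_helper3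
open Groth.Agent.Lib.LocCohCdSupH7 Groth.Agent.DepthLib
open Groth.Agent.Lib.HmapBasic_helper6 Groth.Agent.Lib.HmapExact_helper6 LocCoh

universe u

variable {R : Type u} [CommRing R]

section General

/-- functoriality of local cohomology for linear equivalences -/
noncomputable def Hequiv (K : Ideal R) (i : ℕ) {X Y : Type u} [AddCommGroup X] [Module R X]
    [AddCommGroup Y] [Module R Y] (e : X ≃ₗ[R] Y) : LocCoh.H K i X ≃ₗ[R] LocCoh.H K i Y :=
  ((localCohomology K i).mapIso e.toModuleIso).toLinearEquiv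

lemma equiv_of_surjective_of_ker_eq {W A B : Type u} [AddCommGroup W] [Module R W]
    [AddCommGroup A] [Module R A] [AddCommGroup B] [Module R B] (f : W →ₗ[R] A) (g : W →ₗ[R] B)
    (hf : Function.Surjective f) (hg : Function.Surjective g)
    (hk : LinearMap.ker f = LinearMap.ker g) : Nonempty (A ≃ₗ[R] B) :=
  ⟨(f.quotKerEquivOfSurjective hf).symm.trans
    ((Submodule.quotEquivOfEq _ _ hk).trans (g.quotKerEquivOfSurjective hg))⟩

lemma ker_equiv {A A' B B' : Type u} [AddCommGroup A] [Module R A] [AddCommGroup A']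
    [Module R A'] [AddCommGroup B] [Module R B] [AddCommGroup B'] [Module R B']
    (f : A →ₗ[R] B) (f' : A' →ₗ[R] B') (d : A →ₗ[R] A') (d' : B →ₗ[R] B')
    (hd : Function.Bijective d) (hd' : Function.Injective d')
    (hcomm : ∀ x, f' (d x) = d' (f x)) :
    Nonempty (↥(LinearMap.ker f) ≃ₗ[R] ↥(LinearMap.ker f')) := by
  have hmap : ∀ x ∈ LinearMap.ker f, d x ∈ LinearMap.ker f' := fun x hx => by
    rw [LinearMap.mem_ker, hcomm, LinearMap.mem_ker.1 hx, map_zero]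
  refine ⟨LinearEquiv.ofBijective (d.restrict hmap) ⟨?_, ?_⟩⟩
  · intro x y hxy
    exact Subtype.ext (hd.1 (congrArg Subtype.val hxy))
  · rintro ⟨y, hy⟩
    obtain ⟨x, rfl⟩ := hd.2 y
    refine ⟨⟨x, ?_⟩, Subtype.ext rfl⟩
    rw [LinearMap.mem_ker] at hy ⊢
    apply hd'
    rw [← hcomm, hy, map_zero]

variable (b : R)

lemma Dv_of_surjective {X Y : Type u} [AddCommGroup X] [Module R X] [AddCommGroup Y] [Module R Y]
    (f : X →ₗ[R] Y) (hf : Function.Surjective f) (hX : Dv b X) : Dv b Y := by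
  intro y n
  obtain ⟨x, rfl⟩ := hf y
  obtain ⟨x', s, hs⟩ := hX x n
  exact ⟨f x', s, by rw [← map_smul, ← map_sub, ← map_smul, hs, map_zero]⟩

lemma mem_Γ_span_iff {X : Type u} [AddCommGroup X] [Module R X] (x : X) :
    x ∈ Γ (Ideal.span {b}) X ↔ ∃ k : ℕ, b ^ k • x = 0 := by
  rw [mem_Γ_iff]
  constructor
  · rintro ⟨k, hk⟩
    exact ⟨k, hk _ (Ideal.pow_mem_pow (Ideal.mem_span_singleton_self b) k)⟩
  · rintro ⟨k, hk⟩
    refine ⟨k, fun r hr => ?_⟩
    rw [Ideal.span_singleton_pow, Ideal.mem_span_singleton'] at hr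
    obtain ⟨t, rfl⟩ := hr
    rw [mul_smul, hk, smul_zero]

end General

section Noeth

variable [IsNoetherianRing R] (b : R)

theorem H1b_of_Dv (X : Type u) [AddCommGroup X] [Module R X] (hD : Dv b X) :
    Subsingleton (LocCoh.H (Ideal.span {b}) 1 X) := by
  apply H1_of_forall
  intro n φ
  have hbn : b ^ n ∈ (Ideal.span {b}) ^ n :=
    Ideal.pow_mem_pow (Ideal.mem_span_singleton_self b) n
  obtain ⟨y', s, hs⟩ := hD (φ ⟨b ^ n, hbn⟩) n
  refine ⟨n + s, Nat.le_add_right n s, y', fun r hr => ?_⟩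
  rw [Ideal.span_singleton_pow, Ideal.mem_span_singleton'] at hr
  obtain ⟨t, rfl⟩ := hr
  have key : ∀ (hmem : t * b ^ (n + s) ∈ (Ideal.span {b}) ^ n),
      φ ⟨t * b ^ (n + s), hmem⟩ = (t * b ^ (n + s)) • y' := by
    intro hmem
    have h1 : (⟨t * b ^ (n + s), hmem⟩ : ↥((Ideal.span {b}) ^ n)) =
        (t * b ^ s) • ⟨b ^ n, hbn⟩ := Subtype.ext (by
      show t * b ^ (n + s) = (t * b ^ s) * b ^ n
      rw [pow_add]
      ring)
    have h2 : b ^ s • φ ⟨b ^ n, hbn⟩ = b ^ s • b ^ n • y' := by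
      have h3 := hs
      rw [smul_sub, sub_eq_zero] at h3
      exact h3.symm
    rw [h1, map_smul, mul_smul, h2, ← mul_smul, ← mul_smul]
    congr 1
    rw [pow_add]
    ring
  exact key _

theorem H1b_map_bijective {K Y Z : Type u} [AddCommGroup K] [Module R K] [AddCommGroup Y]
    [Module R Y] [AddCommGroup Z] [Module R Z] (f : K →ₗ[R] Y) (g : Y →ₗ[R] Z)
    (hf : Function.Injective f) (hg : Function.Surjective g) (hfg : Function.Exact f g)
    (hK : Dv b K) :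
    Function.Bijective ((localCohomology (Ideal.span {b}) 1).map (ModuleCat.ofHom g)).hom := by
  have hS := shortComplexOf_shortExact f g hf hg hfg
  have h1 : Subsingleton (LocCoh.H (Ideal.span {b}) 1 K) := H1b_of_Dv b K hK
  have h2 : Subsingleton (LocCoh.H (Ideal.span {b}) 2 K) := by
    have h3 := Groth.Agent.Lib.LocCohAraH7.cdLE_span ({b} : Finset R) K 2 (by simp)
    rwa [Finset.coe_singleton] at h3
  constructor
  · rw [injective_iff_map_eq_zero]
    intro m hm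
    obtain ⟨m₁, hm₁⟩ := exact_middle (Ideal.span {b}) hS 0 m hm
    have hm0 : m₁ = 0 := h1.elim _ _
    rw [← hm₁, hm0]
    exact map_zero _
  · exact surjective_of_subsingleton (Ideal.span {b}) hS 0 h2

variable (a : Ideal R)

section Z0

variable {M E : Type u} [AddCommGroup M] [Module R M] [AddCommGroup E] [Module R E]
  (ι : M →ₗ[R] E) (hι : Function.Injective ι) (hE : Module.Injective R E)

section Core

variable {P : Type u} [AddCommGroup P] [Module R P] (g' : ↥(Γ a E) →ₗ[R] P)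
    (j : P →ₗ[R] ↥(Γ a (E ⧸ LinearMap.range ι)))

include hι in
lemma core_exact (hj : Function.Injective j) (hjg : ∀ e, j (g' e) = gΓ a ι e) :
    Function.Exact (fΓ a ι) g' := by
  intro y
  rw [← (Γ_exact a ι hι) y]
  constructor
  · intro hy
    rw [← hjg, hy, map_zero]
  · intro hy
    apply hj
    rw [hjg, hy, map_zero]

lemma core_mem1 (w : ↥(Γ (Ideal.span {b}) P)) :
    ((j (w : P) : ↥(Γ a (E ⧸ LinearMap.range ι))) : E ⧸ LinearMap.range ι) ∈
      Γ (a ⊔ Ideal.span {b}) (E ⧸ LinearMap.range ι) := by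
  obtain ⟨k, hk⟩ := (mem_Γ_span_iff b (w : P)).1 w.2
  refine mem_Γ_sup a b (j (w : P)).2 k ?_
  have h1 : b ^ k • j (w : P) = 0 := by rw [← map_smul, hk, map_zero]
  exact congrArg Subtype.val h1

/-- `Γ_b(P) → Γ_{a+b}(E/M)` -/
noncomputable def coreL : ↥(Γ (Ideal.span {b}) P) →ₗ[R]
    ↥(Γ (a ⊔ Ideal.span {b}) (E ⧸ LinearMap.range ι)) :=
  LinearMap.codRestrict _ ((Γ a (E ⧸ LinearMap.range ι)).subtype ∘ₗ j ∘ₗ
    (Γ (Ideal.span {b}) P).subtype) (core_mem1 b a ι j)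

lemma coreL_val (w : ↥(Γ (Ideal.span {b}) P)) :
    ((coreL b a ι j w : ↥(Γ (a ⊔ Ideal.span {b}) (E ⧸ LinearMap.range ι))) :
      E ⧸ LinearMap.range ι) =
    ((j (w : P) : ↥(Γ a (E ⧸ LinearMap.range ι))) : E ⧸ LinearMap.range ι) := by
  unfold coreL
  rw [LinearMap.codRestrict_apply, LinearMap.comp_apply, LinearMap.comp_apply,
    Submodule.subtype_apply, Submodule.subtype_apply]

include hι in
lemma core_mem2 (hg' : Function.Surjective g') (hjg : ∀ e, j (g' e) = gΓ a ι e)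
    (w : ↥(Γ (Ideal.span {b}) P)) :
    Ψ a b 1 M (cMap (a ⊔ Ideal.span {b}) ι _ hι (Submodule.mkQ_surjective (LinearMap.range ι))
      (LinearMap.exact_map_mkQ_range ι) (coreL b a ι j w)) = 0 := by
  have hπ := Submodule.mkQ_surjective (LinearMap.range ι)
  have hex := LinearMap.exact_map_mkQ_range ι
  have h5 := hmap_cMap (le_sup_left : a ≤ a ⊔ Ideal.span {b}) ι _ hι hπ hex (coreL b a ι j w)
  refine h5.trans ?_
  apply (cMap_eq_zero_iff a ι _ hι hπ hex _).2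
  obtain ⟨e, he⟩ := hg' (w : P)
  refine ⟨e.1, e.2, ?_⟩
  have h6 : gΓ a ι e = j (w : P) := by rw [← hjg, he]
  exact (congrArg Subtype.val h6).trans (coreL_val b a ι j w).symm

include hι hE in
lemma core_surj (hj : Function.Injective j) (hjg : ∀ e, j (g' e) = gΓ a ι e)
    (z : LocCoh.H (a ⊔ Ideal.span {b}) 1 M) (hz : Ψ a b 1 M z = 0) :
    ∃ w : ↥(Γ (Ideal.span {b}) P),
      cMap (a ⊔ Ideal.span {b}) ι _ hι (Submodule.mkQ_surjective (LinearMap.range ι))
        (LinearMap.exact_map_mkQ_range ι) (coreL b a ι j w) = z := by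
  have hπ := Submodule.mkQ_surjective (LinearMap.range ι)
  have hex := LinearMap.exact_map_mkQ_range ι
  have hacyc : Subsingleton (LocCoh.H (a ⊔ Ideal.span {b}) 1 E) :=
    Groth.Agent.Lib.LocCohInjAcycH7.main (R := R) (R' := R) (a ⊔ Ideal.span {b}) E 1 one_pos
  obtain ⟨q, rfl⟩ := cMap_surjective (a ⊔ Ideal.span {b}) ι _ hι hπ hex hacyc z
  have h5 := hmap_cMap (le_sup_left : a ≤ a ⊔ Ideal.span {b}) ι _ hι hπ hex q
  have hz' : cMap a ι _ hι hπ hex
      ⟨q.1, Γ_mono (le_sup_left : a ≤ a ⊔ Ideal.span {b}) q.2⟩ = 0 := h5.symm.trans hz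
  obtain ⟨e, he, hge⟩ := (cMap_eq_zero_iff a ι _ hι hπ hex _).1 hz'
  have hge' : (LinearMap.range ι).mkQ e = (q : E ⧸ LinearMap.range ι) := hge
  have hp1 : ((j (g' ⟨e, he⟩) : ↥(Γ a (E ⧸ LinearMap.range ι))) : E ⧸ LinearMap.range ι) =
      (q : E ⧸ LinearMap.range ι) := by
    rw [hjg]
    exact hge'
  obtain ⟨k, hk⟩ := exists_pow_smul_of_mem_Γ_sup a b q.2
  have hpΓ : g' ⟨e, he⟩ ∈ Γ (Ideal.span {b}) P := by
    rw [mem_Γ_span_iff]
    refine ⟨k, hj ?_⟩
    rw [map_zero, map_smul]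
    apply Subtype.ext
    rw [Submodule.coe_smul, hp1, hk, Submodule.coe_zero]
  refine ⟨⟨g' ⟨e, he⟩, hpΓ⟩, ?_⟩
  congr 1
  exact Subtype.ext ((coreL_val b a ι j _).trans hp1)

include hι in
lemma core_ker1 (hg' : Function.Surjective g') (hj : Function.Injective j)
    (hjg : ∀ e, j (g' e) = gΓ a ι e) (w : ↥(Γ (Ideal.span {b}) P))
    (hw : cMap (a ⊔ Ideal.span {b}) ι _ hι (Submodule.mkQ_surjective (LinearMap.range ι))
        (LinearMap.exact_map_mkQ_range ι) (coreL b a ι j w) = 0) :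
    cMap (Ideal.span {b}) (fΓ a ι) g' (fΓ_injective a ι hι) hg'
      (core_exact a ι hι g' j hj hjg) w = 0 := by
  have hπ := Submodule.mkQ_surjective (LinearMap.range ι)
  have hex := LinearMap.exact_map_mkQ_range ι
  obtain ⟨y, hy, hgy⟩ := (cMap_eq_zero_iff (a ⊔ Ideal.span {b}) ι _ hι hπ hex _).1 hw
  have hya : y ∈ Γ a E := Γ_mono (le_sup_left : a ≤ a ⊔ Ideal.span {b}) hy
  obtain ⟨k, hk⟩ := exists_pow_smul_of_mem_Γ_sup a b hy
  apply (cMap_eq_zero_iff (Ideal.span {b}) (fΓ a ι) g' _ hg' _ w).2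
  refine ⟨⟨y, hya⟩, ?_, ?_⟩
  · rw [mem_Γ_span_iff]
    exact ⟨k, Subtype.ext hk⟩
  · apply hj
    rw [hjg]
    apply Subtype.ext
    exact hgy.trans (coreL_val b a ι j w)

include hι in
lemma core_ker2 (hg' : Function.Surjective g') (hj : Function.Injective j)
    (hjg : ∀ e, j (g' e) = gΓ a ι e) (w : ↥(Γ (Ideal.span {b}) P))
    (hw : cMap (Ideal.span {b}) (fΓ a ι) g' (fΓ_injective a ι hι) hg'
      (core_exact a ι hι g' j hj hjg) w = 0) :
    cMap (a ⊔ Ideal.span {b}) ι _ hι (Submodule.mkQ_surjective (LinearMap.range ι))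
        (LinearMap.exact_map_mkQ_range ι) (coreL b a ι j w) = 0 := by
  have hπ := Submodule.mkQ_surjective (LinearMap.range ι)
  have hex := LinearMap.exact_map_mkQ_range ι
  obtain ⟨y, hy, hgy⟩ := (cMap_eq_zero_iff (Ideal.span {b}) (fΓ a ι) g' _ hg' _ w).1 hw
  obtain ⟨k, hk⟩ := (mem_Γ_span_iff b y).1 hy
  have hyc : (y : E) ∈ Γ (a ⊔ Ideal.span {b}) E :=
    mem_Γ_sup a b y.2 k (congrArg Subtype.val hk)
  apply (cMap_eq_zero_iff (a ⊔ Ideal.span {b}) ι _ hι hπ hex _).2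
  refine ⟨(y : E), hyc, ?_⟩
  have h7 : gΓ a ι y = j (w : P) := by rw [← hjg, hgy]
  exact (congrArg Subtype.val h7).trans (coreL_val b a ι j w).symm

include hι hE in
theorem Z0_core (hg' : Function.Surjective g') (hj : Function.Injective j)
    (hjg : ∀ e, j (g' e) = gΓ a ι e) :
    Nonempty (↥(LinearMap.ker (Ψ a b 1 M)) ≃ₗ[R]
      LocCoh.H (Ideal.span {b}) 1 ↥(Γ a M)) := by
  have hπ := Submodule.mkQ_surjective (LinearMap.range ι)
  have hex := LinearMap.exact_map_mkQ_range ι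
  haveI hGinj : Module.Injective R ↥(Γ a E) := injective_Γ hE a
  have hGDv : Dv b ↥(Γ a E) := fun e n => exists_div ↥(Γ a E) b e n
  have hG1 : Subsingleton (LocCoh.H (Ideal.span {b}) 1 ↥(Γ a E)) := H1b_of_Dv b _ hGDv
  let F₁ : ↥(Γ (Ideal.span {b}) P) →ₗ[R] ↥(LinearMap.ker (Ψ a b 1 M)) :=
    LinearMap.codRestrict _ (cMap (a ⊔ Ideal.span {b}) ι _ hι hπ hex ∘ₗ coreL b a ι j)
      (fun w => LinearMap.mem_ker.2 (core_mem2 b a ι hι g' j hg' hjg w))
  let F₂ : ↥(Γ (Ideal.span {b}) P) →ₗ[R] LocCoh.H (Ideal.span {b}) 1 ↥(Γ a M) :=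
    cMap (Ideal.span {b}) (fΓ a ι) g' (fΓ_injective a ι hι) hg' (core_exact a ι hι g' j hj hjg)
  have hF₂ : Function.Surjective F₂ :=
    cMap_surjective (Ideal.span {b}) (fΓ a ι) g' _ hg' _ hG1
  have hF₁ : Function.Surjective F₁ := by
    rintro ⟨z, hz⟩
    obtain ⟨w, hw⟩ := core_surj b a ι hι hE g' j hj hjg z (LinearMap.mem_ker.1 hz)
    exact ⟨w, Subtype.ext hw⟩
  have hker : LinearMap.ker F₁ = LinearMap.ker F₂ := by
    ext w
    rw [LinearMap.mem_ker, LinearMap.mem_ker]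
    constructor
    · intro hw
      exact core_ker1 b a ι hι g' j hg' hj hjg w (congrArg Subtype.val hw)
    · intro hw
      exact Subtype.ext (core_ker2 b a ι hι g' j hg' hj hjg w hw)
  exact equiv_of_surjective_of_ker_eq F₁ F₂ hF₁ hF₂ hker

end Core

include hι hE in
theorem Z0_aux : Nonempty (↥(LinearMap.ker (Ψ a b 1 M)) ≃ₗ[R]
    LocCoh.H (Ideal.span {b}) 1 ↥(Γ a M)) :=
  Z0_core b a ι hι hE (P := ↥(LinearMap.range (gΓ a ι))) (LinearMap.rangeRestrict (gΓ a ι))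
    (LinearMap.range (gΓ a ι)).subtype (LinearMap.surjective_rangeRestrict _)
    (Submodule.injective_subtype _) (fun e => rfl)

include hι hE in
theorem shift_ker (p : ℕ) : Nonempty (↥(LinearMap.ker (Ψ a b (p + 2) M)) ≃ₗ[R]
    ↥(LinearMap.ker (Ψ a b (p + 1) (E ⧸ LinearMap.range ι)))) := by
  have hπ := Submodule.mkQ_surjective (LinearMap.range ι)
  have hex := LinearMap.exact_map_mkQ_range ι
  have hS := shortComplexOf_shortExact ι (LinearMap.range ι).mkQ hι hπ hex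
  have hba := δ_bijective a hS p
    (Groth.Agent.Lib.LocCohInjAcycH7.main (R := R) (R' := R) a E (p + 1) (Nat.succ_pos p))
    (Groth.Agent.Lib.LocCohInjAcycH7.main (R := R) (R' := R) a E (p + 2) (Nat.succ_pos (p + 1)))
  have hbc := δ_bijective (a ⊔ Ideal.span {b}) hS p
    (Groth.Agent.Lib.LocCohInjAcycH7.main (R := R) (R' := R) (a ⊔ Ideal.span {b}) E (p + 1)
      (Nat.succ_pos p))
    (Groth.Agent.Lib.LocCohInjAcycH7.main (R := R) (R' := R) (a ⊔ Ideal.span {b}) E (p + 2)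
      (Nat.succ_pos (p + 1)))
  obtain ⟨e⟩ := ker_equiv (Ψ a b (p + 1) (E ⧸ LinearMap.range ι)) (Ψ a b (p + 2) M)
    (δ (a ⊔ Ideal.span {b}) hS p).hom (δ a hS p).hom hbc hba.1
    (fun x => hmap_δ (le_sup_left : a ≤ a ⊔ Ideal.span {b}) hS p x)
  exact ⟨e.symm⟩

include hι hE in
theorem shift_H (p : ℕ) : Nonempty (LocCoh.H a (p + 1) (E ⧸ LinearMap.range ι) ≃ₗ[R]
    LocCoh.H a (p + 2) M) := by
  have hπ := Submodule.mkQ_surjective (LinearMap.range ι)
  have hex := LinearMap.exact_map_mkQ_range ι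
  have hS := shortComplexOf_shortExact ι (LinearMap.range ι).mkQ hι hπ hex
  have hba := δ_bijective a hS p
    (Groth.Agent.Lib.LocCohInjAcycH7.main (R := R) (R' := R) a E (p + 1) (Nat.succ_pos p))
    (Groth.Agent.Lib.LocCohInjAcycH7.main (R := R) (R' := R) a E (p + 2) (Nat.succ_pos (p + 1)))
  exact ⟨LinearEquiv.ofBijective (δ a hS p).hom hba⟩

include hι hE in
theorem H1b_Γ_quot : Nonempty (LocCoh.H (Ideal.span {b}) 1 ↥(Γ a (E ⧸ LinearMap.range ι)) ≃ₗ[R]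
    LocCoh.H (Ideal.span {b}) 1 (LocCoh.H a 1 M)) := by
  have hπ := Submodule.mkQ_surjective (LinearMap.range ι)
  have hex := LinearMap.exact_map_mkQ_range ι
  have hacyc : Subsingleton (LocCoh.H a 1 E) :=
    Groth.Agent.Lib.LocCohInjAcycH7.main (R := R) (R' := R) a E 1 one_pos
  let cm := cMap a ι _ hι hπ hex
  have hcm : Function.Surjective cm := cMap_surjective a ι _ hι hπ hex hacyc
  haveI hGinj : Module.Injective R ↥(Γ a E) := injective_Γ hE a
  have hGDv : Dv b ↥(Γ a E) := fun e n => exists_div ↥(Γ a E) b e n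
  -- the kernel of `cm` is a quotient of `Γ_a E`
  have hmemK : ∀ e : ↥(Γ a E), gΓ a ι e ∈ LinearMap.ker cm := by
    intro e
    rw [LinearMap.mem_ker]
    exact (cMap_eq_zero_iff a ι _ hι hπ hex _).2 ⟨e.1, e.2, rfl⟩
  let toK : ↥(Γ a E) →ₗ[R] ↥(LinearMap.ker cm) := LinearMap.codRestrict _ (gΓ a ι) hmemK
  have htoK : Function.Surjective toK := by
    rintro ⟨q, hq⟩
    obtain ⟨y, hy, hgy⟩ := (cMap_eq_zero_iff a ι _ hι hπ hex q).1 (LinearMap.mem_ker.1 hq)
    exact ⟨⟨y, hy⟩, Subtype.ext (Subtype.ext hgy)⟩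
  have hKDv : Dv b ↥(LinearMap.ker cm) := Dv_of_surjective b toK htoK hGDv
  have hbij := H1b_map_bijective b (LinearMap.ker cm).subtype cm
    (Submodule.injective_subtype _) hcm (LinearMap.exact_subtype_ker_map cm) hKDv
  exact ⟨LinearEquiv.ofBijective _ hbij⟩

end Z0

/-- the statement -/
def Z (i : ℕ) : Prop :=
  ∀ (M : Type u) [AddCommGroup M] [Module R M],
    Nonempty (↥(LinearMap.ker (Ψ a b (i + 1) M)) ≃ₗ[R]
      LocCoh.H (Ideal.span {b}) 1 (LocCoh.H a i M))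

theorem Z0Γ (M : Type u) [AddCommGroup M] [Module R M] :
    Nonempty (↥(LinearMap.ker (Ψ a b 1 M)) ≃ₗ[R] LocCoh.H (Ideal.span {b}) 1 ↥(Γ a M)) := by
  obtain ⟨E, _, _, ι, hE, hι⟩ := exists_injective_embedding (R := R) M
  exact Z0_aux b a ι hι hE

/-- `H^0_a(M) ≃ Γ_a(M)` -/
noncomputable def Φ0equiv (M : Type u) [AddCommGroup M] [Module R M] :
    LocCoh.H a 0 M ≃ₗ[R] ↥(Γ a M) :=
  LinearEquiv.ofBijective (LinearMap.codRestrict (Γ a M) (Φ0 a M) (Φ0_mem a M))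
    ⟨fun x y hxy => Φ0_injective a M (congrArg Subtype.val hxy),
     fun ⟨y, hy⟩ => by
      obtain ⟨z, hz⟩ := Φ0_surj a M y hy
      exact ⟨z, Subtype.ext hz⟩⟩

theorem Z_all : ∀ i : ℕ, Z b a i := by
  intro i
  induction i with
  | zero =>
    intro M _ _
    obtain ⟨e⟩ := Z0Γ b a M
    exact ⟨e.trans (Hequiv (Ideal.span {b}) 1 (Φ0equiv a M).symm)⟩
  | succ i ih =>
    intro M _ _
    obtain ⟨E, _, _, ι, hE, hι⟩ := exists_injective_embedding (R := R) M
    rcases i with _ | p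
    · obtain ⟨e1⟩ := shift_ker b a ι hι hE 0
      obtain ⟨e2⟩ := Z0Γ b a (E ⧸ LinearMap.range ι)
      obtain ⟨e3⟩ := H1b_Γ_quot b a ι hι hE
      exact ⟨e1.trans (e2.trans e3)⟩
    · obtain ⟨e1⟩ := shift_ker b a ι hι hE (p + 1)
      obtain ⟨e2⟩ := ih (E ⧸ LinearMap.range ι)
      obtain ⟨e3⟩ := shift_H a ι hι hE p
      exact ⟨e1.trans (e2.trans (Hequiv (Ideal.span {b}) 1 e3))⟩

/-- S12499 -/
theorem main12499 (M : Type u) [AddCommGroup M] [Module R M] (i : ℕ) :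
    (∀ x : LocCoh.H a (i + 1) M,
      x ∈ LinearMap.range ((Dual2.HmapOfLE (le_sup_left : a ≤ a ⊔ Ideal.span {b}) (i + 1)).app
        (ModuleCat.of R M)).hom ↔ ∃ n : ℕ, b ^ n • x = 0) ∧
    Nonempty (LinearMap.ker ((Dual2.HmapOfLE (le_sup_left : a ≤ a ⊔ Ideal.span {b}) (i + 1)).app
      (ModuleCat.of R M)).hom ≃ₗ[R] LocCoh.H (Ideal.span {b}) 1 (LocCoh.H a i M)) := by
  refine ⟨fun x => ⟨?_, ?_⟩, Z_all b a i M⟩
  · rintro ⟨z, rfl⟩
    obtain ⟨k, hk⟩ := Groth.Agent.Lib.LocCohTorsH7.main R (a ⊔ Ideal.span {b}) (i + 1) M z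
    refine ⟨k, ?_⟩
    rw [← map_smul, hk _ (Ideal.pow_mem_pow
      (Ideal.mem_sup_right (Ideal.mem_span_singleton_self b)) k), map_zero]
  · rintro ⟨n, hn⟩
    exact PA_all a b (i + 1) M x n hn

end Noeth

end Groth.Agent.Lib.HmapKer_helper6
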