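import Mathlib

/-!
# An abstract representability criterion (helper6)

Let `A` be a Noetherian ring, `J` an ideal and `T : (A-Mod)ᵒᵖ ⥤ A-Mod` a functor that is additive
and `A`-linear on morphisms, half exact on short exact sequences and left exact on short exact
sequences whose kernel is a finite module killed by a power of `J`.  If `H` is the (filtered)
colimit of the `T(A/J^k)`, then `T(F) ≃ Hom_A(F, H)` for every finite module `F` killed by a
power of `J`.  The statement and its proof are purely module theoretic.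
-/

open CategoryTheory Opposite

namespace Groth.Agent.Lib.ExtRepr_helper6

universe u

variable {A : Type u} [CommRing A]

section Basic

variable (T : (ModuleCat.{u} A)ᵒᵖ ⥤ ModuleCat.{u} A)

/-- value of the functor on a module -/
abbrev TT (F : Type u) [AddCommGroup F] [Module A F] : Type u :=
  ↑(T.obj (op (ModuleCat.of A F)))

/-- action of the functor on a linear map -/
noncomputable def Tm {F F' : Type u} [AddCommGroup F] [Module A F] [AddCommGroup F']
    [Module A F'] (φ : F →ₗ[A] F') : TT T F' →ₗ[A] TT T F :=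
  (T.map (ModuleCat.ofHom φ).op).hom

lemma Tm_id (F : Type u) [AddCommGroup F] [Module A F] :
    Tm T (LinearMap.id : F →ₗ[A] F) = LinearMap.id := by
  unfold Tm
  rw [ModuleCat.ofHom_id, op_id, T.map_id]
  rfl

lemma Tm_id_apply {F : Type u} [AddCommGroup F] [Module A F] (ξ : TT T F) :
    Tm T (LinearMap.id : F →ₗ[A] F) ξ = ξ := by
  rw [Tm_id]
  rfl

lemma Tm_comp {F F' F'' : Type u} [AddCommGroup F] [Module A F] [AddCommGroup F']
    [Module A F'] [AddCommGroup F''] [Module A F''] (φ : F →ₗ[A] F') (ψ : F' →ₗ[A] F'') :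
    Tm T (ψ ∘ₗ φ) = Tm T φ ∘ₗ Tm T ψ := by
  unfold Tm
  rw [ModuleCat.ofHom_comp, op_comp, T.map_comp]
  rfl

lemma Tm_comp_apply {F F' F'' : Type u} [AddCommGroup F] [Module A F] [AddCommGroup F']
    [Module A F'] [AddCommGroup F''] [Module A F''] (φ : F →ₗ[A] F') (ψ : F' →ₗ[A] F'')
    (ξ : TT T F'') : Tm T (ψ ∘ₗ φ) ξ = Tm T φ (Tm T ψ ξ) := by
  rw [Tm_comp]
  rfl

end Basic

section Quot

lemma quot_ext {I : Ideal A} {M : Type*} [AddCommGroup M] [Module A M] (f g : (A ⧸ I) →ₗ[A] M)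
    (h : f (Submodule.Quotient.mk 1) = g (Submodule.Quotient.mk 1)) : f = g := by
  apply Submodule.linearMap_qext
  apply LinearMap.ext_ring
  exact h

/-- `F` is killed by `J ^ k` -/
def Kil (J : Ideal A) (k : ℕ) (F : Type*) [AddCommGroup F] [Module A F] : Prop :=
  ∀ a ∈ J ^ k, ∀ x : F, a • x = 0

variable {J : Ideal A}

/-- the map `A/J^k → F` attached to an element -/
noncomputable def hat {k : ℕ} {F : Type*} [AddCommGroup F] [Module A F] (hk : Kil J k F) (x : F) :
    (A ⧸ J ^ k) →ₗ[A] F :=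
  Submodule.liftQ (J ^ k) (LinearMap.toSpanSingleton A F x) (fun a ha => by
    rw [LinearMap.mem_ker, LinearMap.toSpanSingleton_apply]
    exact hk a ha x)

lemma hat_mk {k : ℕ} {F : Type*} [AddCommGroup F] [Module A F] (hk : Kil J k F) (x : F) (a : A) :
    hat hk x (Submodule.Quotient.mk a) = a • x := by
  unfold hat
  rw [Submodule.liftQ_apply, LinearMap.toSpanSingleton_apply]

lemma hat_one {k : ℕ} {F : Type*} [AddCommGroup F] [Module A F] (hk : Kil J k F) (x : F) :
    hat hk x (Submodule.Quotient.mk 1) = x := by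
  rw [hat_mk, one_smul]

lemma hat_add {k : ℕ} {F : Type*} [AddCommGroup F] [Module A F] (hk : Kil J k F) (x y : F) :
    hat hk (x + y) = hat hk x + hat hk y :=
  quot_ext _ _ (by rw [LinearMap.add_apply, hat_one, hat_one, hat_one])

lemma hat_smul {k : ℕ} {F : Type*} [AddCommGroup F] [Module A F] (hk : Kil J k F) (a : A)
    (x : F) : hat hk (a • x) = a • hat hk x :=
  quot_ext _ _ (by rw [LinearMap.smul_apply, hat_one, hat_one])

lemma hat_comp {k : ℕ} {F F' : Type*} [AddCommGroup F] [Module A F] [AddCommGroup F']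
    [Module A F'] (hk : Kil J k F) (hk' : Kil J k F') (φ : F →ₗ[A] F') (x : F) :
    φ ∘ₗ hat hk x = hat hk' (φ x) :=
  quot_ext _ _ (by rw [LinearMap.comp_apply, hat_one, hat_one])

variable (J)

lemma kil_quot (k : ℕ) : Kil J k (A ⧸ J ^ k) := by
  intro a ha x
  obtain ⟨b, rfl⟩ := Submodule.Quotient.mk_surjective _ x
  rw [← Submodule.Quotient.mk_smul, Submodule.Quotient.mk_eq_zero]
  exact Ideal.mul_mem_right b _ ha

variable {J}

lemma kil_pi {k : ℕ} {F : Type*} [AddCommGroup F] [Module A F] (hk : Kil J k F) (q : ℕ) :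
    Kil J k (Fin q → F) :=
  fun a ha v => funext fun j => hk a ha (v j)

lemma kil_sub {k : ℕ} {F : Type*} [AddCommGroup F] [Module A F] (hk : Kil J k F)
    (N : Submodule A F) : Kil J k ↥N :=
  fun a ha x => Subtype.ext (hk a ha x.1)

variable (J)

/-- the projection `A/J^k' → A/J^k` -/
noncomputable def pr {k k' : ℕ} (h : k ≤ k') : (A ⧸ J ^ k') →ₗ[A] (A ⧸ J ^ k) :=
  Submodule.mapQ (J ^ k') (J ^ k) LinearMap.id (Ideal.pow_le_pow_right h)

lemma pr_mk {k k' : ℕ} (h : k ≤ k') (a : A) :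
    pr J h (Submodule.Quotient.mk a) = Submodule.Quotient.mk a := rfl

lemma pr_surj {k k' : ℕ} (h : k ≤ k') : Function.Surjective (pr J h) := by
  intro x
  obtain ⟨a, rfl⟩ := Submodule.Quotient.mk_surjective _ x
  exact ⟨Submodule.Quotient.mk a, rfl⟩

lemma hat_quot_mk (k : ℕ) (a : A) :
    hat (kil_quot J k) (Submodule.Quotient.mk a : A ⧸ J ^ k) = a • LinearMap.id :=
  quot_ext _ _ (by
    rw [hat_one, LinearMap.smul_apply, LinearMap.id_apply, ← Submodule.Quotient.mk_smul,
      smul_eq_mul, mul_one])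

variable {J}

/-- the presentation attached to a family of elements -/
noncomputable def pres {k : ℕ} {F : Type*} [AddCommGroup F] [Module A F] (hk : Kil J k F)
    {q : ℕ} (s : Fin q → F) : (Fin q → A ⧸ J ^ k) →ₗ[A] F :=
  ∑ j, (hat hk (s j)) ∘ₗ (LinearMap.proj j)

lemma pres_apply {k : ℕ} {F : Type*} [AddCommGroup F] [Module A F] (hk : Kil J k F)
    {q : ℕ} (s : Fin q → F) (v : Fin q → A ⧸ J ^ k) :
    pres hk s v = ∑ j, hat hk (s j) (v j) := by
  unfold pres
  rw [LinearMap.sum_apply]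
  try rfl

lemma pres_single {k : ℕ} {F : Type*} [AddCommGroup F] [Module A F] (hk : Kil J k F)
    {q : ℕ} (s : Fin q → F) (j : Fin q) :
    pres hk s ∘ₗ LinearMap.single A (fun _ => A ⧸ J ^ k) j = hat hk (s j) := by
  apply LinearMap.ext
  intro y
  rw [LinearMap.comp_apply, pres_apply, LinearMap.single_apply, Finset.sum_eq_single j]
  · rw [Pi.single_eq_same]
  · intro i _ hij
    rw [Pi.single_eq_of_ne hij, map_zero]
  · intro h
    exact absurd (Finset.mem_univ j) h

lemma pres_surj {k : ℕ} {F : Type*} [AddCommGroup F] [Module A F] (hk : Kil J k F)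
    {q : ℕ} (s : Fin q → F) (hs : Submodule.span A (Set.range s) = ⊤) :
    Function.Surjective (pres hk s) := by
  intro x
  have hx : x ∈ Submodule.span A (Set.range s) := by
    rw [hs]
    trivial
  rw [Submodule.mem_span_range_iff_exists_fun] at hx
  obtain ⟨c, hc⟩ := hx
  refine ⟨fun j => Submodule.Quotient.mk (c j), ?_⟩
  rw [pres_apply, ← hc]
  apply Finset.sum_congr rfl
  intro j _
  rw [hat_mk]

lemma sum_single_proj (q : ℕ) (M : Type*) [AddCommGroup M] [Module A M] :
    ∑ j : Fin q, (LinearMap.single A (fun _ => M) j) ∘ₗ (LinearMap.proj j) =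
      (LinearMap.id : (Fin q → M) →ₗ[A] (Fin q → M)) := by
  apply LinearMap.ext
  intro v
  rw [LinearMap.sum_apply, LinearMap.id_apply]
  exact Finset.univ_sum_single v

end Quot

/-- the hypotheses on the functor `T`, the module `H` and the maps `ι k : T(A/J^k) → H` -/
structure RHyp (T : (ModuleCat.{u} A)ᵒᵖ ⥤ ModuleCat.{u} A) (J : Ideal A) (H : Type u)
    [AddCommGroup H] [Module A H] (ι : ∀ k : ℕ, TT T (A ⧸ J ^ k) →ₗ[A] H) : Prop where
  hadd : ∀ {F F' : Type u} [AddCommGroup F] [Module A F] [AddCommGroup F'] [Module A F']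
    (φ ψ : F →ₗ[A] F'), Tm T (φ + ψ) = Tm T φ + Tm T ψ
  hsmul : ∀ {F F' : Type u} [AddCommGroup F] [Module A F] [AddCommGroup F'] [Module A F']
    (a : A) (φ : F →ₗ[A] F'), Tm T (a • φ) = a • Tm T φ
  hL1 : ∀ {K F F'' : Type u} [AddCommGroup K] [Module A K] [AddCommGroup F] [Module A F]
    [AddCommGroup F''] [Module A F''] (f : K →ₗ[A] F) (g : F →ₗ[A] F''),
    Function.Injective f → Function.Surjective g → Function.Exact f g →
    Module.Finite A K → (∃ k, Kil J k K) → Function.Injective (Tm T g)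
  hL2 : ∀ {K F F'' : Type u} [AddCommGroup K] [Module A K] [AddCommGroup F] [Module A F]
    [AddCommGroup F''] [Module A F''] (f : K →ₗ[A] F) (g : F →ₗ[A] F''),
    Function.Injective f → Function.Surjective g → Function.Exact f g →
    ∀ x : TT T F, Tm T f x = 0 → ∃ y : TT T F'', Tm T g y = x
  ι2 : ∀ {k k' : ℕ} (h : k ≤ k') (x : TT T (A ⧸ J ^ k)), ι k' (Tm T (pr J h) x) = ι k x
  ι3 : ∀ z : H, ∃ (k : ℕ) (x : TT T (A ⧸ J ^ k)), ι k x = z
  ι4 : ∀ (k : ℕ) (x : TT T (A ⧸ J ^ k)), ι k x = 0 →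
    ∃ (k' : ℕ) (h : k ≤ k'), Tm T (pr J h) x = 0

section Main

variable {T : (ModuleCat.{u} A)ᵒᵖ ⥤ ModuleCat.{u} A} {J : Ideal A} {H : Type u}
  [AddCommGroup H] [Module A H] {ι : ∀ k : ℕ, TT T (A ⧸ J ^ k) →ₗ[A] H}

/-- `Tm` as an additive map -/
noncomputable def TmAdd (hh : RHyp T J H ι) (F F' : Type u) [AddCommGroup F] [Module A F]
    [AddCommGroup F'] [Module A F'] : (F →ₗ[A] F') →+ (TT T F' →ₗ[A] TT T F) :=
  AddMonoidHom.mk' (fun φ => Tm T φ) (fun φ ψ => hh.hadd φ ψ)

lemma Tm_zero (hh : RHyp T J H ι) {F F' : Type u} [AddCommGroup F] [Module A F]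
    [AddCommGroup F'] [Module A F'] : Tm T (0 : F →ₗ[A] F') = 0 :=
  map_zero (TmAdd hh F F')

lemma Tm_sum (hh : RHyp T J H ι) {F F' : Type u} [AddCommGroup F] [Module A F]
    [AddCommGroup F'] [Module A F'] {σ : Type*} (s : Finset σ) (φ : σ → (F →ₗ[A] F')) :
    Tm T (∑ j ∈ s, φ j) = ∑ j ∈ s, Tm T (φ j) :=
  map_sum (TmAdd hh F F') φ s

lemma eq_zero_of_single (hh : RHyp T J H ι) {q : ℕ} {M : Type u} [AddCommGroup M] [Module A M]
    (η : TT T (Fin q → M)) (h : ∀ j, Tm T (LinearMap.single A (fun _ => M) j) η = 0) :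
    η = 0 := by
  have h1 : η = Tm T (LinearMap.id : (Fin q → M) →ₗ[A] (Fin q → M)) η := (Tm_id_apply T η).symm
  rw [h1, ← sum_single_proj (A := A) q M, Tm_sum hh, LinearMap.sum_apply]
  apply Finset.sum_eq_zero
  intro j _
  rw [Tm_comp_apply, h j, map_zero]

/-- the comparison map -/
noncomputable def Φ (hh : RHyp T J H ι) {k : ℕ} {F : Type u} [AddCommGroup F] [Module A F]
    (hk : Kil J k F) : TT T F →ₗ[A] (F →ₗ[A] H) where
  toFun ξ :=
    { toFun := fun x => ι k (Tm T (hat hk x) ξ)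
      map_add' := fun x y => by
        rw [hat_add, hh.hadd, LinearMap.add_apply, map_add]
      map_smul' := fun a x => by
        rw [hat_smul, hh.hsmul, LinearMap.smul_apply, map_smul, RingHom.id_apply] }
  map_add' ξ ξ' := by
    apply LinearMap.ext
    intro x
    show ι k (Tm T (hat hk x) (ξ + ξ')) = ι k (Tm T (hat hk x) ξ) + ι k (Tm T (hat hk x) ξ')
    rw [map_add, map_add]
  map_smul' a ξ := by
    apply LinearMap.ext
    intro x
    show ι k (Tm T (hat hk x) (a • ξ)) = a • ι k (Tm T (hat hk x) ξ)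
    rw [map_smul, map_smul]

lemma Φ_apply (hh : RHyp T J H ι) {k : ℕ} {F : Type u} [AddCommGroup F] [Module A F]
    (hk : Kil J k F) (ξ : TT T F) (x : F) : Φ hh hk ξ x = ι k (Tm T (hat hk x) ξ) := rfl

lemma Φ_nat (hh : RHyp T J H ι) {k : ℕ} {F F' : Type u} [AddCommGroup F] [Module A F]
    [AddCommGroup F'] [Module A F'] (hk : Kil J k F) (hk' : Kil J k F') (φ : F' →ₗ[A] F)
    (ξ : TT T F) (x' : F') : Φ hh hk' (Tm T φ ξ) x' = Φ hh hk ξ (φ x') := by
  rw [Φ_apply, Φ_apply, ← Tm_comp_apply, hat_comp hk' hk φ x']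

variable [IsNoetherianRing A]

lemma Tm_pr_inj (hh : RHyp T J H ι) {k k' : ℕ} (h : k ≤ k') :
    Function.Injective (Tm T (pr J h)) :=
  hh.hL1 (LinearMap.ker (pr J h)).subtype (pr J h) (Submodule.injective_subtype _) (pr_surj J h)
    (LinearMap.exact_subtype_ker_map _)
    (inferInstance : Module.Finite A ↥(LinearMap.ker (pr J h))) ⟨k', kil_sub (kil_quot J k') _⟩

/-- Claim A: the comparison map is injective -/
theorem Φ_inj (hh : RHyp T J H ι) {k : ℕ} {F : Type u} [AddCommGroup F] [Module A F]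
    [Module.Finite A F] (hk : Kil J k F) : Function.Injective (Φ hh hk) := by
  rw [injective_iff_map_eq_zero]
  intro ξ hξ
  obtain ⟨q, s, hs⟩ := Module.Finite.exists_fin (R := A) (M := F)
  have hp := pres_surj hk s hs
  have hkP : Kil J k (Fin q → A ⧸ J ^ k) := kil_pi (kil_quot J k) q
  have hinj : Function.Injective (Tm T (pres hk s)) :=
    hh.hL1 (LinearMap.ker (pres hk s)).subtype (pres hk s) (Submodule.injective_subtype _) hp
      (LinearMap.exact_subtype_ker_map _)
      (inferInstance : Module.Finite A ↥(LinearMap.ker (pres hk s))) ⟨k, kil_sub hkP _⟩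
  apply hinj
  rw [map_zero]
  apply eq_zero_of_single hh
  intro j
  rw [← Tm_comp_apply, pres_single]
  have h1 : ι k (Tm T (hat hk (s j)) ξ) = 0 := LinearMap.congr_fun hξ (s j)
  obtain ⟨k', h, h2⟩ := hh.ι4 k _ h1
  apply Tm_pr_inj hh h
  rw [h2, map_zero]

/-- Claim C: elements of `H` killed by `J^k` come from `T(A/J^k)` -/
theorem exists_ι_eq (hh : RHyp T J H ι) (k : ℕ) (z : H) (hz : ∀ a ∈ J ^ k, a • z = 0) :
    ∃ x : TT T (A ⧸ J ^ k), ι k x = z := by
  obtain ⟨m₀, y₀, hy₀⟩ := hh.ι3 z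
  have h₀ : m₀ ≤ max m₀ k := le_max_left _ _
  have hkm : k ≤ max m₀ k := le_max_right _ _
  generalize max m₀ k = m at h₀ hkm
  have hy : ι m (Tm T (pr J h₀) y₀) = z := by rw [hh.ι2, hy₀]
  generalize Tm T (pr J h₀) y₀ = y at hy
  have hay : ∀ a ∈ J ^ k, a • y = 0 := by
    intro a ha
    have h1 : ι m (a • y) = 0 := by rw [map_smul, hy, hz a ha]
    obtain ⟨m', h', h2⟩ := hh.ι4 m _ h1
    exact Tm_pr_inj hh h' (by rw [h2, map_zero])
  have hkK : Kil J m ↥(LinearMap.ker (pr J hkm)) := kil_sub (kil_quot J m) _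
  have hK0 : Tm T (LinearMap.ker (pr J hkm)).subtype y = 0 := by
    apply Φ_inj hh hkK
    rw [map_zero]
    apply LinearMap.ext
    intro w
    rw [Φ_nat hh (kil_quot J m) hkK, LinearMap.zero_apply, Φ_apply]
    obtain ⟨a, ha⟩ := Submodule.Quotient.mk_surjective _ (w : A ⧸ J ^ m)
    have haJ : a ∈ J ^ k := by
      have hw := w.2
      rw [LinearMap.mem_ker, ← ha, pr_mk, Submodule.Quotient.mk_eq_zero] at hw
      exact hw
    rw [Submodule.subtype_apply, ← ha, hat_quot_mk, hh.hsmul, LinearMap.smul_apply, Tm_id_apply,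
      hay a haJ, map_zero]
  obtain ⟨x, hx⟩ := hh.hL2 _ _ (Submodule.injective_subtype _) (pr_surj J hkm)
    (LinearMap.exact_subtype_ker_map _) y hK0
  exact ⟨x, by rw [← hh.ι2 hkm, hx, hy]⟩

/-- Claim B: the comparison map is surjective -/
theorem Φ_surj (hh : RHyp T J H ι) {k : ℕ} {F : Type u} [AddCommGroup F] [Module A F]
    [Module.Finite A F] (hk : Kil J k F) : Function.Surjective (Φ hh hk) := by
  intro ψ
  obtain ⟨q, s, hs⟩ := Module.Finite.exists_fin (R := A) (M := F)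
  have hp := pres_surj hk s hs
  have hkP : Kil J k (Fin q → A ⧸ J ^ k) := kil_pi (kil_quot J k) q
  have hex : ∀ j, ∃ x : TT T (A ⧸ J ^ k), ι k x = ψ (s j) := fun j =>
    exists_ι_eq hh k (ψ (s j)) (fun a ha => by rw [← map_smul, hk a ha, map_zero])
  choose x hx using hex
  obtain ⟨η, hη_def⟩ : ∃ η : TT T (Fin q → A ⧸ J ^ k),
      η = ∑ j, Tm T (LinearMap.proj j) (x j) := ⟨_, rfl⟩
  have hη : ∀ j, Tm T (LinearMap.single A (fun _ => A ⧸ J ^ k) j) η = x j := by
    intro j
    rw [hη_def, map_sum, Finset.sum_eq_single j]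
    · rw [← Tm_comp_apply, LinearMap.proj_comp_single_same, Tm_id_apply]
    · intro i _ hij
      rw [← Tm_comp_apply, LinearMap.proj_comp_single_ne _ _ _ _ hij, Tm_zero hh,
        LinearMap.zero_apply]
    · intro h
      exact absurd (Finset.mem_univ j) h
  have hΦP : Φ hh hkP η = ψ ∘ₗ pres hk s := by
    apply LinearMap.pi_ext'
    intro j
    apply quot_ext
    rw [LinearMap.comp_apply, LinearMap.comp_apply, LinearMap.comp_apply, Φ_apply]
    have h1 : hat hkP (LinearMap.single A (fun _ => A ⧸ J ^ k) j (Submodule.Quotient.mk 1)) =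
        LinearMap.single A (fun _ => A ⧸ J ^ k) j :=
      quot_ext _ _ (by rw [hat_one])
    rw [h1, hη, hx, ← LinearMap.comp_apply (pres hk s), pres_single, hat_one]
  have hkK : Kil J k ↥(LinearMap.ker (pres hk s)) := kil_sub hkP _
  have hK0 : Tm T (LinearMap.ker (pres hk s)).subtype η = 0 := by
    apply Φ_inj hh hkK
    rw [map_zero]
    apply LinearMap.ext
    intro w
    rw [Φ_nat hh hkP hkK, hΦP, LinearMap.comp_apply, Submodule.subtype_apply,
      LinearMap.mem_ker.1 w.2, map_zero, LinearMap.zero_apply]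
  obtain ⟨ξ, hξ⟩ := hh.hL2 _ _ (Submodule.injective_subtype _) hp
    (LinearMap.exact_subtype_ker_map _) η hK0
  refine ⟨ξ, ?_⟩
  apply LinearMap.ext
  intro y
  obtain ⟨w, rfl⟩ := hp y
  rw [← Φ_nat hh hk hkP, hξ, hΦP, LinearMap.comp_apply]

/-- the representability statement -/
theorem main (hh : RHyp T J H ι) {k : ℕ} {F : Type u} [AddCommGroup F] [Module A F]
    [Module.Finite A F] (hk : Kil J k F) : Nonempty (TT T F ≃ₗ[A] (F →ₗ[A] H)) :=
  ⟨LinearEquiv.ofBijective (Φ hh hk) ⟨Φ_inj hh hk, Φ_surj hh hk⟩⟩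

end Main

end Groth.Agent.Lib.ExtRepr_helper6
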