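import Mathlib
import Groth.Agent.Lib.EW_helper7
import Groth.Agent.Lib.ExtRepr_helper6

/-!
# Eilenberg–Watts on finite modules, and the functor `Hom(Hom(-, K), E)` (helper6)

For a right exact additive linear functor `T` on modules over a Noetherian ring the comparison map
`T(A) ⊗ M → T(M)` of `EW_helper7` is bijective for every finite module `M` (no commutation with
infinite direct sums is needed).  The functor `M ↦ Hom(Hom(M, K), E)` with `E` injective is such a
functor.
-/

set_option autoImplicit false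

open CategoryTheory CategoryTheory.Limits MonoidalCategory Module
open scoped TensorProduct

namespace Groth.Agent.Lib.EWFin_helper6

open Groth.Agent.Lib.EWH7

universe u

variable {A : Type u} [CommRing A]

lemma lTensor_sum_apply {N P Q : Type*} [AddCommGroup N] [Module A N] [AddCommGroup P]
    [Module A P] [AddCommGroup Q] [Module A Q] {σ : Type*} (s : Finset σ)
    (f : σ → (P →ₗ[A] Q)) (w : N ⊗[A] P) :
    (∑ j ∈ s, f j).lTensor N w = ∑ j ∈ s, (f j).lTensor N w := by
  have h : (∑ j ∈ s, f j).lTensor N = ∑ j ∈ s, (f j).lTensor N :=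
    map_sum (LinearMap.lTensorHom N) f s
  rw [h, LinearMap.sum_apply]

section EW

variable (T : ModuleCat.{u} A ⥤ ModuleCat.{u} A) [T.Additive] [T.Linear A]

/-- right exactness, in the form used by `EW_helper7` -/
def RightExact : Prop :=
  ∀ S : ShortComplex (ModuleCat.{u} A), S.Exact ∧ Epi S.g → (S.map T).Exact ∧ Epi (T.map S.g)

theorem tM_bij_of_presentation (hT : RightExact T) {F₁ F₀ M : Type u} [AddCommGroup F₁]
    [Module A F₁] [AddCommGroup F₀] [Module A F₀] [AddCommGroup M] [Module A M]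
    (φ : F₁ →ₗ[A] F₀) (π : F₀ →ₗ[A] M) (hπ : Function.Surjective π)
    (hφ : LinearMap.range φ = LinearMap.ker π)
    (hb0 : Function.Bijective (tM T (ModuleCat.of A F₀)))
    (hb1 : Function.Surjective (tM T (ModuleCat.of A F₁))) :
    Function.Bijective (tM T (ModuleCat.of A M)) := by
  have hπφ : π ∘ₗ φ = 0 := by
    apply LinearMap.ext
    intro x
    have : φ x ∈ LinearMap.ker π := by rw [← hφ]; exact LinearMap.mem_range_self φ x
    exact this
  let S : ShortComplex (ModuleCat.{u} A) :=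
    ShortComplex.mk (ModuleCat.ofHom φ) (ModuleCat.ofHom π) (by
      rw [← ModuleCat.ofHom_comp, hπφ]; rfl)
  have hSex : S.Exact := (ShortComplex.moduleCat_exact_iff_range_eq_ker S).mpr hφ
  have hSepi : Epi S.g := (ModuleCat.epi_iff_surjective _).mpr hπ
  obtain ⟨hTex, hTepi⟩ := hT S ⟨hSex, hSepi⟩
  have hTrk : LinearMap.range (T.map (ModuleCat.ofHom φ)).hom =
      LinearMap.ker (T.map (ModuleCat.ofHom π)).hom :=
    (ShortComplex.moduleCat_exact_iff_range_eq_ker (S.map T)).mp hTex
  have hTsurj : Function.Surjective (T.map (ModuleCat.ofHom π)).hom :=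
    (ModuleCat.epi_iff_surjective _).mp hTepi
  have hsurjπ : Function.Surjective (π.lTensor (T.obj (ModuleCat.of A A))) :=
    LinearMap.lTensor_surjective _ hπ
  constructor
  · rw [injective_iff_map_eq_zero]
    intro w hw
    obtain ⟨w₀, rfl⟩ := hsurjπ w
    have h1 : (T.map (ModuleCat.ofHom π)).hom (tM T (ModuleCat.of A F₀) w₀) = 0 := by
      rw [tM_nat]
      exact hw
    have h2 : tM T (ModuleCat.of A F₀) w₀ ∈
        LinearMap.range (T.map (ModuleCat.ofHom φ)).hom := by
      rw [hTrk]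
      exact h1
    obtain ⟨z₁, hz₁⟩ := h2
    obtain ⟨w₁, rfl⟩ := hb1 z₁
    rw [tM_nat] at hz₁
    have h3 : φ.lTensor (T.obj (ModuleCat.of A A)) w₁ = w₀ := hb0.1 hz₁
    rw [← h3, ← LinearMap.comp_apply, ← LinearMap.lTensor_comp, hπφ, LinearMap.lTensor_zero,
      LinearMap.zero_apply]
  · intro z
    obtain ⟨z₀, hz₀⟩ := hTsurj z
    obtain ⟨w₀, hw₀⟩ := hb0.2 z₀
    refine ⟨π.lTensor (T.obj (ModuleCat.of A A)) w₀, ?_⟩
    have := tM_nat T (ModuleCat.ofHom π) w₀
    rw [hw₀, hz₀] at this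
    exact this.symm

theorem tM_bij_pi (b : ℕ) : Function.Bijective (tM T (ModuleCat.of A (Fin b → A))) := by
  have hsum : ∑ j, (LinearMap.single A (fun _ : Fin b => A) j) ∘ₗ (LinearMap.proj j) =
      LinearMap.id := Groth.Agent.Lib.ExtRepr_helper6.sum_single_proj (A := A) b A
  constructor
  · rw [injective_iff_map_eq_zero]
    intro w hw
    have h1 : ∀ j : Fin b, (LinearMap.proj j : (Fin b → A) →ₗ[A] A).lTensor
        (T.obj (ModuleCat.of A A)) w = 0 := by
      intro j
      apply (tM_self_bij T).1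
      rw [map_zero]
      have := tM_nat T (ModuleCat.ofHom (LinearMap.proj j : (Fin b → A) →ₗ[A] A)) w
      rw [hw, map_zero] at this
      exact this.symm
    have h2 : w = (LinearMap.id : (Fin b → A) →ₗ[A] (Fin b → A)).lTensor
        (T.obj (ModuleCat.of A A)) w := by
      rw [LinearMap.lTensor_id, LinearMap.id_apply]
    rw [h2, ← hsum, lTensor_sum_apply]
    apply Finset.sum_eq_zero
    intro j _
    rw [LinearMap.lTensor_comp, LinearMap.comp_apply, h1 j, map_zero]
  · intro y
    have h3 : 𝟙 (ModuleCat.of A (Fin b → A)) =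
        ∑ j, ModuleCat.ofHom (LinearMap.proj j : (Fin b → A) →ₗ[A] A) ≫
          ModuleCat.ofHom (LinearMap.single A (fun _ : Fin b => A) j) := by
      apply ModuleCat.hom_ext
      rw [ModuleCat.hom_sum]
      exact hsum.symm
    have h5 : (T.map (∑ j, ModuleCat.ofHom (LinearMap.proj j : (Fin b → A) →ₗ[A] A) ≫
          ModuleCat.ofHom (LinearMap.single A (fun _ : Fin b => A) j))).hom y = y := by
      rw [← h3, T.map_id]
      rfl
    rw [T.map_sum, ModuleCat.hom_sum, LinearMap.sum_apply] at h5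
    choose z hz using fun j : Fin b => (tM_self_bij T).2
      ((T.map (ModuleCat.ofHom (LinearMap.proj j : (Fin b → A) →ₗ[A] A))).hom y)
    refine ⟨∑ j, (LinearMap.single A (fun _ : Fin b => A) j).lTensor
      (T.obj (ModuleCat.of A A)) (z j), ?_⟩
    rw [map_sum]
    refine Eq.trans ?_ h5
    apply Finset.sum_congr rfl
    intro j _
    have hn := tM_nat T (ModuleCat.ofHom (LinearMap.single A (fun _ : Fin b => A) j)) (z j)
    rw [hz j] at hn
    refine hn.symm.trans ?_
    rw [T.map_comp]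
    rfl

theorem tM_bij_of_finite [IsNoetherianRing A] (hT : RightExact T) (M : Type u) [AddCommGroup M]
    [Module A M] [Module.Finite A M] : Function.Bijective (tM T (ModuleCat.of A M)) := by
  obtain ⟨b, π, hπ⟩ := Module.Finite.exists_fin' A M
  obtain ⟨a, q, hq⟩ := Module.Finite.exists_fin' A ↥(LinearMap.ker π)
  refine tM_bij_of_presentation T hT ((LinearMap.ker π).subtype ∘ₗ q) π hπ ?_
    (tM_bij_pi T b) (tM_bij_pi T a).2
  rw [LinearMap.range_comp, LinearMap.range_eq_top.mpr hq, Submodule.map_top,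
    Submodule.range_subtype]

end EW

section Dual

variable (K E : Type u) [AddCommGroup K] [Module A K] [AddCommGroup E] [Module A E]

/-- the functor `M ↦ Hom(Hom(M, K), E)` -/
noncomputable def Td : ModuleCat.{u} A ⥤ ModuleCat.{u} A where
  obj M := ModuleCat.of A ((M →ₗ[A] K) →ₗ[A] E)
  map g := ModuleCat.ofHom (LinearMap.lcomp A E (LinearMap.lcomp A K g.hom))
  map_id M := by
    apply ModuleCat.hom_ext
    apply LinearMap.ext
    intro θ
    apply LinearMap.ext
    intro ψ
    rfl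
  map_comp f g := by
    apply ModuleCat.hom_ext
    apply LinearMap.ext
    intro θ
    apply LinearMap.ext
    intro ψ
    rfl

/-- view an element of `Td K E M` as a linear map -/
def toLin {M : ModuleCat.{u} A} (θ : ↑((Td (A := A) K E).obj M)) : (M →ₗ[A] K) →ₗ[A] E := θ

lemma Td_map_apply {M M' : ModuleCat.{u} A} (g : M ⟶ M') (θ : ↑((Td (A := A) K E).obj M))
    (ψ : M' →ₗ[A] K) :
    toLin K E (((Td K E).map g).hom θ) ψ = toLin K E θ (ψ ∘ₗ g.hom) := rfl

lemma toLin_ext {M : ModuleCat.{u} A} (θ θ' : ↑((Td (A := A) K E).obj M))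
    (h : ∀ ψ, toLin K E θ ψ = toLin K E θ' ψ) : θ = θ' :=
  LinearMap.ext h

instance : (Td (A := A) K E).Additive where
  map_add {M M' f g} := by
    apply ModuleCat.hom_ext
    apply LinearMap.ext
    intro (θ : (M →ₗ[A] K) →ₗ[A] E)
    apply LinearMap.ext
    intro (ψ : M' →ₗ[A] K)
    show θ (ψ ∘ₗ (f + g).hom) = θ (ψ ∘ₗ f.hom) + θ (ψ ∘ₗ g.hom)
    rw [ModuleCat.hom_add, LinearMap.comp_add, map_add]

instance : (Td (A := A) K E).Linear A where
  map_smul {M M'} f r := by
    apply ModuleCat.hom_ext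
    apply LinearMap.ext
    intro (θ : (M →ₗ[A] K) →ₗ[A] E)
    apply LinearMap.ext
    intro (ψ : M' →ₗ[A] K)
    show θ (ψ ∘ₗ (r • f).hom) = r • θ (ψ ∘ₗ f.hom)
    rw [ModuleCat.hom_smul, LinearMap.comp_smul, map_smul]

theorem Td_rightExact (hE : Module.Injective A E) : RightExact (Td (A := A) K E) := by
  intro S ⟨hS, hepi⟩
  have hg : Function.Surjective S.g.hom := (ModuleCat.epi_iff_surjective _).mp hepi
  have hfg : LinearMap.range S.f.hom = LinearMap.ker S.g.hom :=
    (ShortComplex.moduleCat_exact_iff_range_eq_ker S).mp hS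
  -- the key factorization: a map killing `f` factors through `g`
  have hfac : ∀ ψ : S.X₂ →ₗ[A] K, ψ ∘ₗ S.f.hom = 0 → ∃ ψ' : S.X₃ →ₗ[A] K, ψ' ∘ₗ S.g.hom = ψ := by
    intro ψ hψ
    have hle : LinearMap.ker S.g.hom ≤ LinearMap.ker ψ := by
      rw [← hfg]
      rintro _ ⟨y, rfl⟩
      exact LinearMap.congr_fun hψ y
    refine ⟨(LinearMap.ker S.g.hom).liftQ ψ hle ∘ₗ
      (S.g.hom.quotKerEquivOfSurjective hg).symm.toLinearMap, ?_⟩
    apply LinearMap.ext
    intro x
    have h1 : (S.g.hom.quotKerEquivOfSurjective hg).symm (S.g.hom x) =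
        Submodule.Quotient.mk x := by
      rw [LinearEquiv.symm_apply_eq]
      rfl
    show (LinearMap.ker S.g.hom).liftQ ψ hle
      ((S.g.hom.quotKerEquivOfSurjective hg).symm (S.g.hom x)) = ψ x
    rw [h1, Submodule.liftQ_apply]
  constructor
  · rw [ShortComplex.moduleCat_exact_iff_range_eq_ker]
    apply le_antisymm
    · rintro _ ⟨θ₁, rfl⟩
      rw [LinearMap.mem_ker]
      show ((Td K E).map S.g).hom (((Td K E).map S.f).hom θ₁) = 0
      apply toLin_ext
      intro ψ
      rw [Td_map_apply, Td_map_apply, LinearMap.comp_assoc]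
      have h0 : S.g.hom ∘ₗ S.f.hom = 0 := by
        rw [← ModuleCat.hom_comp, S.zero]
        rfl
      rw [h0, LinearMap.comp_zero, map_zero]
      rfl
    · intro θ₂ hθ₂
      have hθ₂' : ∀ ψ' : S.X₃ →ₗ[A] K, toLin K E θ₂ (ψ' ∘ₗ S.g.hom) = 0 := fun ψ' => by
        have h : ((Td K E).map S.g).hom θ₂ = 0 := LinearMap.mem_ker.1 hθ₂
        rw [← Td_map_apply, h]
        rfl
      let fs : (S.X₂ →ₗ[A] K) →ₗ[A] (S.X₁ →ₗ[A] K) := LinearMap.lcomp A K S.f.hom
      have hle : LinearMap.ker fs ≤ LinearMap.ker (toLin K E θ₂) := by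
        intro ψ hψ
        obtain ⟨ψ', rfl⟩ := hfac ψ (LinearMap.mem_ker.1 hψ)
        exact hθ₂' ψ'
      let ιq : ((S.X₂ →ₗ[A] K) ⧸ LinearMap.ker fs) →ₗ[A] (S.X₁ →ₗ[A] K) :=
        (LinearMap.ker fs).liftQ fs le_rfl
      have hιq : Function.Injective ιq := by
        rw [← LinearMap.ker_eq_bot]
        exact Submodule.ker_liftQ_eq_bot _ _ _ le_rfl
      obtain ⟨θ₁, hθ₁⟩ := hE.out ιq hιq ((LinearMap.ker fs).liftQ (toLin K E θ₂) hle)
      refine ⟨θ₁, ?_⟩
      apply toLin_ext
      intro ψ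
      have := hθ₁ (Submodule.Quotient.mk ψ)
      exact this
  · rw [ModuleCat.epi_iff_surjective]
    intro θ₃
    let gs : (S.X₃ →ₗ[A] K) →ₗ[A] (S.X₂ →ₗ[A] K) := LinearMap.lcomp A K S.g.hom
    have hgs : Function.Injective gs := LinearMap.lcomp_injective_of_surjective S.g.hom hg
    obtain ⟨θ₂, hθ₂⟩ := hE.out gs hgs (toLin K E θ₃)
    refine ⟨θ₂, ?_⟩
    apply toLin_ext
    intro ψ
    exact hθ₂ ψ

end Dual

end Groth.Agent.Lib.EWFin_helper6
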