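import Mathlib
import Groth.Prelude.Def_Wider
import Groth.Agent.Lib.LCDelta0_helper7
import Groth.Agent.Lib.LocCohGV_helper7
import Groth.Agent.Lib.LocCohAra_helper7
import Groth.Agent.Lib.LocCohColim_helper7

/-!
# Top local cohomology is a left adjoint (helper6)

If `cd(R, I) ≤ d` (for `R` Noetherian) then `H^d_I` is right exact and commutes with arbitrary
direct sums, hence preserves all colimits and, by the special adjoint functor theorem, has a right
adjoint.
-/

open CategoryTheory CategoryTheory.Limits Opposite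

namespace Groth.Agent.Lib.LocCohAdj_helper6

universe u

variable {R : Type u} [CommRing R]

section Coprod

open DirectSum

variable (H : ModuleCat.{u} R ⥤ ModuleCat.{u} R) [H.Additive]
variable {ι : Type u} [DecidableEq ι] (Z : ι → ModuleCat.{u} R)

/-- the direct sum -/
abbrev Dm : ModuleCat.{u} R := ModuleCat.of R (⨁ i, Z i)

/-- the inclusions -/
noncomputable abbrev lofm (i : ι) : Z i ⟶ Dm Z :=
  ModuleCat.ofHom (DirectSum.lof R ι (fun i => Z i) i)

/-- the projections -/
noncomputable abbrev πm (i : ι) : Dm Z ⟶ Z i :=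
  ModuleCat.ofHom (DirectSum.component R ι (fun i => Z i) i)

lemma lofm_πm_self (i : ι) : lofm Z i ≫ πm Z i = 𝟙 (Z i) := by
  apply ModuleCat.hom_ext
  apply LinearMap.ext
  intro x
  show DirectSum.component R ι (fun i => Z i) i (DirectSum.lof R ι (fun i => Z i) i x) = x
  rw [DirectSum.component.lof_self]

lemma lofm_πm_ne (i j : ι) (h : i ≠ j) : lofm Z i ≫ πm Z j = 0 := by
  apply ModuleCat.hom_ext
  apply LinearMap.ext
  intro x
  show DirectSum.component R ι (fun i => Z i) j (DirectSum.lof R ι (fun i => Z i) i x) = 0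
  rw [DirectSum.component.of, dif_neg h]

/-- the projector onto the coordinates in `s` -/
noncomputable def es (s : Finset ι) : Dm Z ⟶ Dm Z := ∑ i ∈ s, πm Z i ≫ lofm Z i

lemma es_apply (s : Finset ι) (y : ⨁ i, Z i) :
    (es Z s).hom y = ∑ i ∈ s, DirectSum.lof R ι (fun i => Z i) i (y i) := by
  unfold es
  rw [ModuleCat.hom_sum, LinearMap.sum_apply]
  rfl

lemma es_fix [∀ (i : ι) (x : Z i), Decidable (x ≠ 0)] (s : Finset ι) (y : ⨁ i, Z i)
    (hy : y.support ⊆ s) : (es Z s).hom y = y := by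
  rw [es_apply]
  conv_rhs => rw [← DirectSum.sum_support_of y]
  symm
  apply Finset.sum_subset hy
  intro i _ hi
  rw [DFinsupp.notMem_support_iff] at hi
  rw [hi]
  exact map_zero _

lemma exists_es_fix (N : Submodule R (⨁ i, Z i)) (hN : N.FG) :
    ∃ s : Finset ι, ∀ y ∈ N, (es Z s).hom y = y := by
  classical
  obtain ⟨t, ht⟩ := hN
  refine ⟨t.biUnion (fun g => g.support), ?_⟩
  intro y hy
  rw [← ht] at hy
  induction hy using Submodule.span_induction with
  | mem g hg =>
    exact es_fix Z _ g (Finset.subset_biUnion_of_mem (fun g => g.support) (Finset.mem_coe.1 hg))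
  | zero => rw [map_zero]
  | add a b _ _ ha hb => rw [map_add, ha, hb]
  | smul c a _ ha => rw [map_smul, ha]

/-- the comparison map `⨁ H(Z i) → H(⨁ Z i)` -/
noncomputable def Φ : (⨁ i, H.obj (Z i)) →ₗ[R] H.obj (Dm Z) :=
  DirectSum.toModule R ι _ (fun i => (H.map (lofm Z i)).hom)

lemma Φ_lof (i : ι) (x : H.obj (Z i)) :
    Φ H Z (DirectSum.lof R ι (fun i => H.obj (Z i)) i x) = (H.map (lofm Z i)).hom x := by
  unfold Φ
  rw [DirectSum.toModule_lof]

lemma map_map_apply {A B C : ModuleCat.{u} R} (f : A ⟶ B) (g : B ⟶ C) (x : H.obj A) :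
    (H.map g).hom ((H.map f).hom x) = (H.map (f ≫ g)).hom x := by
  rw [H.map_comp]
  rfl

lemma π_Φ (j : ι) (y : ⨁ i, H.obj (Z i)) : (H.map (πm Z j)).hom (Φ H Z y) = y j := by
  have key : (H.map (πm Z j)).hom ∘ₗ Φ H Z =
      DirectSum.component R ι (fun i => H.obj (Z i)) j := by
    apply DirectSum.linearMap_ext
    intro i
    apply LinearMap.ext
    intro x
    show (H.map (πm Z j)).hom (Φ H Z (DirectSum.lof R ι (fun i => H.obj (Z i)) i x)) =
      DirectSum.component R ι (fun i => H.obj (Z i)) j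
        (DirectSum.lof R ι (fun i => H.obj (Z i)) i x)
    rw [Φ_lof, map_map_apply]
    by_cases h : i = j
    · subst h
      rw [lofm_πm_self, H.map_id, DirectSum.component.lof_self]
      rfl
    · rw [lofm_πm_ne Z i j h, H.map_zero, DirectSum.component.of, dif_neg h]
      rfl
  exact LinearMap.congr_fun key y

lemma Φ_inj : Function.Injective (Φ H Z) := by
  rw [injective_iff_map_eq_zero]
  intro y hy
  apply DFinsupp.ext
  intro j
  rw [← π_Φ H Z j y, hy, map_zero]
  rfl

variable (hdir : ∀ (Λ : Type u) [PartialOrder Λ] [IsDirected Λ (· ≤ ·)] [Nonempty Λ],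
  PreservesColimitsOfShape Λ H)

open Groth.Agent.Lib.LocCohGVH7 in
include hdir in
lemma Φ_surj : Function.Surjective (Φ H Z) := by
  intro x
  haveI := hdir (FGSub (R := R) (⨁ i, Z i))
  have hc : IsColimit (H.mapCocone (cFG (R := R) (⨁ i, Z i))) :=
    isColimitOfPreserves H (hcFG (R := R) (⨁ i, Z i))
  obtain ⟨N, y, hy⟩ := Concrete.isColimit_exists_rep (KFG (R := R) (⨁ i, Z i) ⋙ H) hc x
  obtain ⟨s, hs⟩ := exists_es_fix Z N.1 N.2
  have hy' : (H.map (ModuleCat.ofHom N.1.subtype)).hom y = x := hy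
  have h1 : ModuleCat.ofHom N.1.subtype ≫ es Z s = ModuleCat.ofHom N.1.subtype := by
    apply ModuleCat.hom_ext
    apply LinearMap.ext
    intro z
    exact hs z.1 z.2
  have h2 : (H.map (es Z s)).hom x = x := by
    rw [← hy', map_map_apply, h1]
  refine ⟨∑ i ∈ s, DirectSum.lof R ι (fun i => H.obj (Z i)) i ((H.map (πm Z i)).hom x), ?_⟩
  rw [map_sum]
  conv_rhs => rw [← h2]
  unfold es
  rw [H.map_sum, ModuleCat.hom_sum, LinearMap.sum_apply]
  apply Finset.sum_congr rfl
  intro i _
  rw [Φ_lof, map_map_apply]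

/-- the comparison isomorphism -/
noncomputable def Φe : (⨁ i, H.obj (Z i)) ≃ₗ[R] H.obj (Dm Z) :=
  LinearEquiv.ofBijective (Φ H Z) ⟨Φ_inj H Z, Φ_surj H Z hdir⟩

lemma Φe_symm_lof (i : ι) (x : H.obj (Z i)) :
    (Φe H Z hdir).symm ((H.map (lofm Z i)).hom x) =
      DirectSum.lof R ι (fun i => H.obj (Z i)) i x := by
  rw [LinearEquiv.symm_apply_eq]
  exact (Φ_lof H Z i x).symm

/-- the image of the direct sum cocone is a colimit cocone -/
noncomputable def isColimitMap : IsColimit (H.mapCocone (ModuleCat.coproductCocone Z)) where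
  desc s := ModuleCat.ofHom
    ((DirectSum.toModule R ι _
      (fun i => ((s.ι.app ⟨i⟩).hom : ↑(H.obj (Z i)) →ₗ[R] ↑s.pt))) ∘ₗ
        (Φe H Z hdir).symm.toLinearMap)
  fac s := by
    rintro ⟨i⟩
    apply ModuleCat.hom_ext
    apply LinearMap.ext
    intro x
    show DirectSum.toModule R ι _
      (fun i => ((s.ι.app ⟨i⟩).hom : ↑(H.obj (Z i)) →ₗ[R] ↑s.pt))
        ((Φe H Z hdir).symm ((H.map (lofm Z i)).hom x)) = (s.ι.app ⟨i⟩).hom x
    rw [Φe_symm_lof, DirectSum.toModule_lof]
  uniq s m hm := by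
    apply ModuleCat.hom_ext
    have key : m.hom ∘ₗ (Φe H Z hdir).toLinearMap = DirectSum.toModule R ι _
        (fun i => ((s.ι.app ⟨i⟩).hom : ↑(H.obj (Z i)) →ₗ[R] ↑s.pt)) := by
      apply DirectSum.linearMap_ext
      intro i
      apply LinearMap.ext
      intro x
      show m.hom (Φ H Z (DirectSum.lof R ι (fun i => H.obj (Z i)) i x)) =
        DirectSum.toModule R ι _
          (fun i => ((s.ι.app ⟨i⟩).hom : ↑(H.obj (Z i)) →ₗ[R] ↑s.pt))
            (DirectSum.lof R ι (fun i => H.obj (Z i)) i x)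
      rw [DirectSum.toModule_lof, Φ_lof]
      have h3 := congrArg (fun α => α.hom x) (hm ⟨i⟩)
      exact h3
    apply LinearMap.ext
    intro z
    obtain ⟨y, rfl⟩ := (Φe H Z hdir).surjective z
    show m.hom (Φe H Z hdir y) = (DirectSum.toModule R ι _
      (fun i => ((s.ι.app ⟨i⟩).hom : ↑(H.obj (Z i)) →ₗ[R] ↑s.pt)))
        ((Φe H Z hdir).symm (Φe H Z hdir y))
    rw [LinearEquiv.symm_apply_apply, ← key]
    rfl

end Coprod

section Coprod2

variable (H : ModuleCat.{u} R ⥤ ModuleCat.{u} R) [H.Additive]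
  (hdir : ∀ (Λ : Type u) [PartialOrder Λ] [IsDirected Λ (· ≤ ·)] [Nonempty Λ],
    PreservesColimitsOfShape Λ H)

include hdir in
theorem preservesCoproducts (ι : Type u) : PreservesColimitsOfShape (Discrete ι) H := by
  classical
  haveI : ∀ f : ι → ModuleCat.{u} R, PreservesColimit (Discrete.functor f) H := fun f =>
    preservesColimit_of_preserves_colimit_cocone (ModuleCat.coproductCoconeIsColimit f)
      (isColimitMap H f hdir)
  exact preservesColimitsOfShape_of_discrete H

end Coprod2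

section LC

open Groth.Agent.Lib.LCDelta0H7

variable [IsNoetherianRing R] (I : Ideal R)

theorem pfc_F0 (d : ℕ) (hcd : LocCoh.CdLE R I d) : PreservesFiniteColimits (F0 I d) := by
  rw [Functor.preservesFiniteColimits_iff_forall_exact_map_and_epi]
  intro Sc hS
  refine ⟨(T0 I).exact₂ Sc hS d, ?_⟩
  have h3 := (T0 I).exact₃ Sc hS d (d + 1) rfl
  have hz : IsZero ((F0 I (d + 1)).obj Sc.X₁) := by
    haveI : Subsingleton ((localCohomology I (d + 1)).obj Sc.X₁ : ModuleCat.{u} R) :=
      hcd Sc.X₁ (d + 1) (Nat.lt_succ_self d)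
    exact ModuleCat.isZero_of_subsingleton ((localCohomology I (d + 1)).obj Sc.X₁)
  exact h3.epi_f (hz.eq_of_tgt _ _)

theorem pfc (d : ℕ) (hcd : LocCoh.CdLE R I d) :
    PreservesFiniteColimits (localCohomology I d) := by
  rcases d with _ | p
  · haveI : PreservesFiniteColimits (DRing.gammaI I) := pfc_F0 I 0 hcd
    haveI := Ψ'_iso I
    exact preservesFiniteColimits_of_natIso (asIso (Ψ' I)).symm
  · exact pfc_F0 I (p + 1) hcd

theorem isLeftAdjoint (d : ℕ) (hcd : LocCoh.CdLE R I d) :
    (localCohomology I d).IsLeftAdjoint := by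
  haveI := pfc I d hcd
  haveI : ∀ ι : Type u, PreservesColimitsOfShape (Discrete ι) (localCohomology I d) :=
    fun ι => preservesCoproducts (localCohomology I d)
      (fun Λ _ _ _ => Groth.Agent.Lib.LocCohColimH7.main I d Λ) ι
  haveI : PreservesColimitsOfSize.{u, u} (localCohomology I d) :=
    preservesColimits_of_preservesCoequalizers_and_coproducts _
  exact isLeftAdjoint_of_preservesColimits_of_isSeparating
    (isSeparator_separator (ModuleCat.{u} R)) (localCohomology I d)

end LC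

end Groth.Agent.Lib.LocCohAdj_helper6
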