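import Mathlib
import Groth.Prelude.Def_Wider
import Groth.Agent.Lib.EWFin_helper6
import Groth.Agent.Lib.LocCohAdj_helper6
import Groth.Agent.Lib.LocCohTopTensor_helper7

/-!
# Top local cohomology and the canonical module (helper6)
-/

set_option autoImplicit false

open CategoryTheory CategoryTheory.Limits Opposite
open scoped TensorProduct

namespace Groth.Agent.Lib.LocDual_helper6

open Groth.Agent.Lib.EWH7 Groth.Agent.Lib.EWFin_helper6

universe u

variable {R : Type u} [CommRing R] [IsNoetherianRing R]

theorem rightExact_H (I : Ideal R) (d : ℕ) (hcd : LocCoh.CdLE R I d) :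
    RightExact (localCohomology I d) := by
  have h := Groth.Agent.Lib.LocCohAdj_helper6.pfc I d hcd
  exact ((Functor.preservesFiniteColimits_tfae (localCohomology I d)).out 3 1).1 h

variable [IsLocalRing R]

theorem cdLE_max (n : ℕ) (hn : ringKrullDim R = n) :
    LocCoh.CdLE R (IsLocalRing.maximalIdeal R) n := by
  intro M _ _ i hi
  apply Groth.Agent.Lib.LocCohGVH7.GV
  calc Module.supportDim R M ≤ ringKrullDim R := Module.supportDim_le_ringKrullDim R M
    _ = n := hn
    _ < i := by exact_mod_cast hi

/-- top local cohomology at the maximal ideal -/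
noncomputable abbrev Tn (R : Type u) [CommRing R] [IsLocalRing R] (n : ℕ) :
    ModuleCat.{u} R ⥤ ModuleCat.{u} R :=
  localCohomology (IsLocalRing.maximalIdeal R) n

section Top

variable (n : ℕ) (hn : ringKrullDim R = n) (E : Type u) [AddCommGroup E] [Module R E]
  (hE : Module.Injective R E) (K : Type u) [AddCommGroup K] [Module R K]
  (eK : (K →ₗ[R] E) ≃ₗ[R] LocCoh.H (IsLocalRing.maximalIdeal R) n R)

/-- the identification `H^n_m(R) ≃ Hom(Hom(R, K), E)` -/
noncomputable def e0 : ↑((Tn R n).obj (ModuleCat.of R R)) ≃ₗ[R]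
    ↑((Td (A := R) K E).obj (ModuleCat.of R R)) :=
  eK.symm.trans (LinearEquiv.arrowCongr (LinearMap.ringLmapEquivSelf R R K).symm
    (LinearEquiv.refl R E))

include hn in
theorem tM_bij_H (M : Type u) [AddCommGroup M] [Module R M] [Module.Finite R M] :
    Function.Bijective (tM (Tn R n) (ModuleCat.of R M)) :=
  tM_bij_of_finite (Tn R n) (rightExact_H _ n (cdLE_max n hn)) M

include hE in
theorem tM_bij_Td (M : Type u) [AddCommGroup M] [Module R M] [Module.Finite R M] :
    Function.Bijective (tM (Td (A := R) K E) (ModuleCat.of R M)) :=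
  tM_bij_of_finite (Td (A := R) K E) (Td_rightExact K E hE) M

/-- the comparison isomorphism `H^n_m(M) ≃ Hom(Hom(M, K), E)` -/
noncomputable def theta (M : Type u) [AddCommGroup M] [Module R M] [Module.Finite R M] :
    LocCoh.H (IsLocalRing.maximalIdeal R) n M ≃ₗ[R] ((M →ₗ[R] K) →ₗ[R] E) :=
  (LinearEquiv.ofBijective (tM (Tn R n) (ModuleCat.of R M)) (tM_bij_H n hn M)).symm.trans
    ((TensorProduct.congr (e0 n E K eK) (LinearEquiv.refl R M)).trans
      (LinearEquiv.ofBijective (tM (Td (A := R) K E) (ModuleCat.of R M)) (tM_bij_Td E hE K M)))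

end Top

end Groth.Agent.Lib.LocDual_helper6
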