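import Mathlib
import Groth.Prelude.Def_Wider
import Groth.Prelude.Def_CAlg
import Groth.Agent.Lib.LocDual_helper6
import Groth.Agent.Lib.ExtBC_helper5
import Groth.Agent.Lib.LocCohCM_helper7
import Groth.Agent.Lib.LocCohDT2_helper7
import Groth.Agent.Lib.HmapKer_helper6
import Groth.Agent.Lib.Depth_helper5
import Groth.Agent.Lib.LCDelta0_helper7
import Groth.Agent.Lib.LocCohH0_helper7

/-!
# Local duality over a Cohen–Macaulay local ring with a canonical module (helper6)
-/

set_option autoImplicit false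

open CategoryTheory CategoryTheory.Limits Opposite
open scoped TensorProduct

namespace Groth.Agent.Lib.LocDual2_helper6

open Groth.Agent.Lib.EWH7 Groth.Agent.Lib.EWFin_helper6 Groth.Agent.Lib.LocDual_helper6
open Groth.Agent.DepthLib DeltaF

universe u

variable {R : Type u} [CommRing R]

section LinAlg

/-- `Hom(Y / im u, E) ≃ ker (Hom(Y, E) → Hom(X, E))` -/
noncomputable def homQuotEquiv {X Y E : Type u} [AddCommGroup X] [Module R X] [AddCommGroup Y]
    [Module R Y] [AddCommGroup E] [Module R E] (u : X →ₗ[R] Y) :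
    ((Y ⧸ LinearMap.range u) →ₗ[R] E) ≃ₗ[R] ↥(LinearMap.ker (LinearMap.lcomp R E u)) where
  toFun θ := ⟨θ ∘ₗ (LinearMap.range u).mkQ, by
    rw [LinearMap.mem_ker]
    apply LinearMap.ext
    intro x
    show θ ((LinearMap.range u).mkQ (u x)) = 0
    have h : (LinearMap.range u).mkQ (u x) = 0 := by
      rw [Submodule.mkQ_apply, Submodule.Quotient.mk_eq_zero]
      exact LinearMap.mem_range_self u x
    rw [h, map_zero]⟩
  map_add' θ θ' := Subtype.ext rfl
  map_smul' a θ := Subtype.ext rfl
  invFun φ := (LinearMap.range u).liftQ φ.1 (by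
    rintro _ ⟨x, rfl⟩
    exact LinearMap.congr_fun (LinearMap.mem_ker.1 φ.2) x)
  left_inv θ := by
    apply Submodule.linearMap_qext
    rfl
  right_inv φ := Subtype.ext (Submodule.liftQ_mkQ _ _ _)

end LinAlg

section Delta

theorem delta_ker_equiv (T : CohDeltaFunctor (ModuleCat.{u} R) (ModuleCat.{u} R) ℕ)
    {S : ShortComplex (ModuleCat.{u} R)} (hS : S.ShortExact) (p : ℕ)
    (h0 : Subsingleton ((T.F p).obj S.X₂)) :
    Nonempty (↑((T.F p).obj S.X₃) ≃ₗ[R] ↥(LinearMap.ker ((T.F (p + 1)).map S.f).hom)) := by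
  have h3 : LinearMap.range ((T.F p).map S.g).hom =
      LinearMap.ker (T.δ S hS p (p + 1) rfl).hom :=
    (ShortComplex.moduleCat_exact_iff_range_eq_ker _).1 (T.exact₃ S hS p (p + 1) rfl)
  have h1 : LinearMap.range (T.δ S hS p (p + 1) rfl).hom =
      LinearMap.ker ((T.F (p + 1)).map S.f).hom :=
    (ShortComplex.moduleCat_exact_iff_range_eq_ker _).1 (T.exact₁ S hS p (p + 1) rfl)
  have hinj : Function.Injective (T.δ S hS p (p + 1) rfl).hom := by
    rw [← LinearMap.ker_eq_bot, ← h3, LinearMap.range_eq_bot]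
    apply LinearMap.ext
    intro x
    rw [Subsingleton.elim x 0, map_zero]
    rfl
  exact ⟨(LinearEquiv.ofInjective _ hinj).trans (LinearEquiv.ofEq _ _ h1)⟩

end Delta

section LC

open Groth.Agent.Lib.LCDelta0H7

variable (I : Ideal R)

/-- the functors of helper7's δ-functor are local cohomology -/
noncomputable def F0_equiv (p : ℕ) (M : ModuleCat.{u} R) :
    ↑((F0 I p).obj M) ≃ₗ[R] ↑((localCohomology I p).obj M) := by
  cases p with
  | zero =>
    haveI := Ψ'_iso I
    exact ((asIso (Ψ' I)).app M).toLinearEquiv.symm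
  | succ p => exact LinearEquiv.refl R _

theorem H_ker_equiv {S : ShortComplex (ModuleCat.{u} R)} (hS : S.ShortExact) (q : ℕ)
    (h0 : Subsingleton ((localCohomology I q).obj S.X₂)) :
    Nonempty (↑((localCohomology I q).obj S.X₃) ≃ₗ[R]
      ↥(LinearMap.ker ((localCohomology I (q + 1)).map S.f).hom)) := by
  have h0' : Subsingleton ↑((F0 I q).obj S.X₂) := (F0_equiv I q S.X₂).toEquiv.subsingleton
  obtain ⟨e⟩ := delta_ker_equiv (T0 I) hS q h0'
  exact ⟨(F0_equiv I q S.X₃).symm.trans e⟩

theorem H_shift_equiv {S : ShortComplex (ModuleCat.{u} R)} (hS : S.ShortExact) (q : ℕ)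
    (h0 : Subsingleton ((localCohomology I q).obj S.X₂))
    (h1 : Subsingleton ((localCohomology I (q + 1)).obj S.X₂)) :
    Nonempty (↑((localCohomology I q).obj S.X₃) ≃ₗ[R]
      ↑((localCohomology I (q + 1)).obj S.X₁)) := by
  obtain ⟨e⟩ := H_ker_equiv I hS q h0
  have htop : LinearMap.ker ((localCohomology I (q + 1)).map S.f).hom = ⊤ := by
    rw [eq_top_iff]
    intro x _
    rw [LinearMap.mem_ker]
    exact Subsingleton.elim _ _
  exact ⟨e.trans ((LinearEquiv.ofEq _ _ htop).trans Submodule.topEquiv)⟩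

end LC

section Theta

open Groth.Agent.Lib.ExtCompareH7

/-- the comparison of the two `Ext`s as a linear equivalence -/
noncomputable def ΘL (X M : ModuleCat.{u} R) (p : ℕ) :
    ↑(E (p + 1) X M) ≃ₗ[R] Abelian.Ext X M (p + 1) :=
  LinearEquiv.ofBijective
    { toFun := Θ M p
      map_add' := Θ_add M p
      map_smul' := fun r ξ => Θ_smul M p r ξ }
    ⟨Θ_injective M p, Θ_surjective M p⟩

end Theta

section Free

lemma sum_single_proj_apply (T : ModuleCat.{u} R ⥤ ModuleCat.{u} R) [T.Additive] (b : ℕ)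
    (z : T.obj (ModuleCat.of R (Fin b → R))) :
    ∑ j, (T.map (ModuleCat.ofHom (LinearMap.single R (fun _ : Fin b => R) j))).hom
      ((T.map (ModuleCat.ofHom (LinearMap.proj j : (Fin b → R) →ₗ[R] R))).hom z) = z := by
  have hsum : ∑ j, (LinearMap.single R (fun _ : Fin b => R) j) ∘ₗ (LinearMap.proj j) =
      LinearMap.id := Groth.Agent.Lib.ExtRepr_helper6.sum_single_proj (A := R) b R
  have h3 : 𝟙 (ModuleCat.of R (Fin b → R)) =
      ∑ j, ModuleCat.ofHom (LinearMap.proj j : (Fin b → R) →ₗ[R] R) ≫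
        ModuleCat.ofHom (LinearMap.single R (fun _ : Fin b => R) j) := by
    apply ModuleCat.hom_ext
    rw [ModuleCat.hom_sum]
    exact hsum.symm
  have h5 : (T.map (∑ j, ModuleCat.ofHom (LinearMap.proj j : (Fin b → R) →ₗ[R] R) ≫
        ModuleCat.ofHom (LinearMap.single R (fun _ : Fin b => R) j))).hom z = z := by
    rw [← h3, T.map_id]
    rfl
  rw [T.map_sum, ModuleCat.hom_sum, LinearMap.sum_apply] at h5
  refine Eq.trans ?_ h5
  apply Finset.sum_congr rfl
  intro j _
  rw [T.map_comp]
  rfl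

end Free

section Main

variable [hCM : LocCoh.IsCohenMacaulayLocalRing R]

theorem H_ring_subsingleton (n : ℕ) (hn : ringKrullDim R = n) (q : ℕ) (hq : q < n) :
    Subsingleton (LocCoh.H (IsLocalRing.maximalIdeal R) q R) := by
  have hdepth : (n : ℕ∞) ≤ LocCoh.idealDepth (IsLocalRing.maximalIdeal R) R := by
    have h1 := hCM.supportDim_eq_depth
    rw [Module.supportDim_self_eq_ringKrullDim, hn] at h1
    have h2 : (n : ℕ∞) = LocCoh.depth R R := by exact_mod_cast h1
    rw [h2]
    exact le_of_eq rfl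
  exact (Groth.Agent.Lib.LocCohCMH7.vanishing_iff_le_depth (IsLocalRing.maximalIdeal R) R n).2
    hdepth q hq

theorem H_free_subsingleton (n : ℕ) (hn : ringKrullDim R = n) (q : ℕ) (hq : q < n) (b : ℕ) :
    Subsingleton (LocCoh.H (IsLocalRing.maximalIdeal R) q (Fin b → R)) := by
  haveI := H_ring_subsingleton n hn q hq
  have key : ∀ z : LocCoh.H (IsLocalRing.maximalIdeal R) q (Fin b → R), z = 0 := by
    intro z
    rw [← sum_single_proj_apply (localCohomology (IsLocalRing.maximalIdeal R) q) b z]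
    apply Finset.sum_eq_zero
    intro j _
    rw [Subsingleton.elim (((localCohomology (IsLocalRing.maximalIdeal R) q).map
      (ModuleCat.ofHom (LinearMap.proj j : (Fin b → R) →ₗ[R] R))).hom z) 0, map_zero]
  exact ⟨fun x y => by rw [key x, key y]⟩

variable (n : ℕ) (hn : ringKrullDim R = n) (E : Type u) [AddCommGroup E] [Module R E]
  (hE : Module.Injective R E) (K : Type u) [AddCommGroup K] [Module R K]
  (eK : (K →ₗ[R] E) ≃ₗ[R] LocCoh.H (IsLocalRing.maximalIdeal R) n R)

lemma theta_tM (M : Type u) [AddCommGroup M] [Module R M] [Module.Finite R M]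
    (w : ↑((Tn R n).obj (ModuleCat.of R R)) ⊗[R] M) :
    LocDual_helper6.theta n hn E hE K eK M (tM (Tn R n) (ModuleCat.of R M) w) =
      tM (Td (A := R) K E) (ModuleCat.of R M)
        (TensorProduct.congr (e0 n E K eK) (LinearEquiv.refl R M) w) := by
  unfold LocDual_helper6.theta
  rw [LinearEquiv.trans_apply, LinearEquiv.trans_apply]
  have h : (LinearEquiv.ofBijective (tM (Tn R n) (ModuleCat.of R M)) (tM_bij_H n hn M)).symm
      (tM (Tn R n) (ModuleCat.of R M) w) = w := by
    rw [LinearEquiv.symm_apply_eq]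
    rfl
  rw [h]
  rfl

theorem theta_nat {M M' : Type u} [AddCommGroup M] [Module R M] [Module.Finite R M]
    [AddCommGroup M'] [Module R M'] [Module.Finite R M'] (g : M →ₗ[R] M')
    (x : LocCoh.H (IsLocalRing.maximalIdeal R) n M) :
    LocDual_helper6.theta n hn E hE K eK M' (((Tn R n).map (ModuleCat.ofHom g)).hom x) =
      ((Td (A := R) K E).map (ModuleCat.ofHom g)).hom (LocDual_helper6.theta n hn E hE K eK M x) := by
  obtain ⟨w, rfl⟩ := (tM_bij_H n hn M).2 x
  rw [tM_nat, theta_tM, theta_tM, tM_nat]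
  congr 1
  induction w using TensorProduct.induction_on with
  | zero => simp
  | tmul y m => rfl
  | add a b ha hb => simp only [map_add, ha, hb]

/-- the `Ext` modules of the statement -/
abbrev Ex (R : Type u) [CommRing R] (K : Type u) [AddCommGroup K] [Module R K] (i : ℕ)
    (M : Type u) [AddCommGroup M] [Module R M] : Type u :=
  ↑(((Ext R (ModuleCat.{u} R) i).obj (op (ModuleCat.of R M))).obj (ModuleCat.of R K))

include hn hE eK in
theorem duality : ∀ (i q : ℕ), q + i = n → ∀ (M : Type u) [AddCommGroup M] [Module R M]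
    [Module.Finite R M],
    Nonempty (LocCoh.H (IsLocalRing.maximalIdeal R) q M ≃ₗ[R] (Ex R K i M →ₗ[R] E)) := by
  intro i
  induction i with
  | zero =>
    intro q hq M _ _ _
    have hqn : q = n := by omega
    subst hqn
    let jj := (Groth.Agent.Lib.LocCohH0H7.j (ModuleCat.of R M) (ModuleCat.of R K)).toLinearEquiv
    let e2 : (ModuleCat.of R M ⟶ ModuleCat.of R K) ≃ₗ[R] (M →ₗ[R] K) :=
      ModuleCat.homLinearEquiv (S := R)
    exact ⟨(LocDual_helper6.theta q hn E hE K eK M).trans
      (LinearEquiv.arrowCongr (e2.symm.trans jj) (LinearEquiv.refl R E))⟩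
  | succ i ih =>
    intro q hq M _ _ _
    obtain ⟨b, π, hπ⟩ := Module.Finite.exists_fin' R M
    have hι : Function.Injective (LinearMap.ker π).subtype := Submodule.injective_subtype _
    have hιπ : Function.Exact (LinearMap.ker π).subtype π := LinearMap.exact_subtype_ker_map π
    have hS := shortComplexOf_shortExact (LinearMap.ker π).subtype π hι hπ hιπ
    have hP0 : Subsingleton (LocCoh.H (IsLocalRing.maximalIdeal R) q (Fin b → R)) :=
      H_free_subsingleton n hn q (by omega) b
    cases i with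
    | zero =>
      have hqn : n = q + 1 := by omega
      subst hqn
      obtain ⟨e1⟩ := H_ker_equiv (IsLocalRing.maximalIdeal R) hS q hP0
      obtain ⟨e2⟩ := Groth.Agent.Lib.HmapKer_helper6.ker_equiv
        ((Tn R (q + 1)).map (ModuleCat.ofHom (LinearMap.ker π).subtype)).hom
        ((Td (A := R) K E).map (ModuleCat.ofHom (LinearMap.ker π).subtype)).hom
        (LocDual_helper6.theta (q + 1) hn E hE K eK ↥(LinearMap.ker π)).toLinearMap
        (LocDual_helper6.theta (q + 1) hn E hE K eK (Fin b → R)).toLinearMap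
        (LocDual_helper6.theta (q + 1) hn E hE K eK ↥(LinearMap.ker π)).bijective
        (LocDual_helper6.theta (q + 1) hn E hE K eK (Fin b → R)).injective
        (fun x => (theta_nat (q + 1) hn E hE K eK (LinearMap.ker π).subtype x).symm)
      let e3 := (homQuotEquiv (E := E) (LinearMap.lcomp R K (LinearMap.ker π).subtype)).symm
      obtain ⟨e4⟩ := Groth.Agent.ExtBC.ext1 (LinearMap.ker π).subtype π hι hιπ hπ K
      let e5 := ΘL (ModuleCat.of R M) (ModuleCat.of R K) 0
      exact ⟨e1.trans (e2.trans (e3.trans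
        (LinearEquiv.arrowCongr (e4.symm.trans e5.symm) (LinearEquiv.refl R E))))⟩
    | succ i =>
      have hP1 : Subsingleton (LocCoh.H (IsLocalRing.maximalIdeal R) (q + 1) (Fin b → R)) :=
        H_free_subsingleton n hn (q + 1) (by omega) b
      obtain ⟨e1⟩ := H_shift_equiv (IsLocalRing.maximalIdeal R) hS q hP0 hP1
      obtain ⟨e2⟩ := ih (q + 1) (by omega) ↥(LinearMap.ker π)
      obtain ⟨e3⟩ := Groth.Agent.ExtBC.shift (LinearMap.ker π).subtype π hι hιπ hπ K i
      let e4 := ΘL (ModuleCat.of R ↥(LinearMap.ker π)) (ModuleCat.of R K) i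
      let e5 := ΘL (ModuleCat.of R M) (ModuleCat.of R K) (i + 1)
      exact ⟨e1.trans (e2.trans
        (LinearEquiv.arrowCongr (e4.trans (e3.symm.trans e5.symm)) (LinearEquiv.refl R E)))⟩

end Main

end Groth.Agent.Lib.LocDual2_helper6
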