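import Mathlib
import Groth.Prelude.Def_Wider
import Groth.Agent.Lib.LocDual2_helper6
import Groth.Agent.Lib.Gorenstein_helper5
import Groth.Agent.Lib.InjHull3_helper3
import Groth.Agent.Lib.LocCohTorsVanish_helper7
import Groth.Agent.Lib.NonVan2_helper7
import Groth.Agent.Lib.DepthLoc_helper5

/-!
# Injective dimension and Cohen–Macaulayness of the canonical module (helper6)

For a Cohen–Macaulay local ring `R` of dimension `n` with canonical module `K`
(`Hom(K, E) ≃ H^n_m(R)`): `Ext^i(M, K) = 0` for `i > n` and all finite `M`, `id K = n`,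
`depth K = dim K = n`.
-/

set_option autoImplicit false

open CategoryTheory CategoryTheory.Limits Opposite
open scoped TensorProduct

namespace Groth.Agent.Lib.CanonInjDim_helper6

open Groth.Agent.Lib.EWH7 Groth.Agent.Lib.EWFin_helper6 Groth.Agent.Lib.LocDual_helper6
open Groth.Agent.Lib.LocDual2_helper6
open Groth.Agent.DepthLib DeltaF

universe u

variable {R : Type u} [CommRing R]

section Cogen

variable [IsLocalRing R] {E : Type u} [AddCommGroup E] [Module R E]

/-- `E` is a cogenerator: a module with zero Matlis dual is zero -/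
theorem subsingleton_of_dual (f : IsLocalRing.ResidueField R →ₗ[R] E)
    (hf : InjHull.IsInjectiveHull f) (G : Type u) [AddCommGroup G] [Module R G]
    (h : Subsingleton (G →ₗ[R] E)) : Subsingleton G := by
  refine ⟨fun a b => ?_⟩
  by_contra hne
  obtain ⟨φ, hφ⟩ := Groth.Agent.Lib.InjHull3_helper3.exists_hom_ne_zero f hf (a - b)
    (sub_ne_zero.2 hne)
  apply hφ
  rw [Subsingleton.elim φ 0]
  rfl

end Cogen

section H0

open Groth.Agent.Lib.LCDelta0H7

variable (I : Ideal R)

/-- `H^0_I` preserves injections -/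
theorem H0_map_injective {M N : ModuleCat.{u} R} (g : M ⟶ N) (hg : Function.Injective g.hom) :
    Function.Injective ((localCohomology I 0).map g).hom := by
  haveI := Ψ'_iso I
  have hΨ : ∀ X : ModuleCat.{u} R, Function.Injective ((Ψ' I).app X).hom := fun X =>
    ((asIso (Ψ' I)).app X).toLinearEquiv.injective
  have hnat := congrArg ModuleCat.Hom.hom ((Ψ' I).naturality g)
  rw [ModuleCat.hom_comp, ModuleCat.hom_comp] at hnat
  have hγ : Function.Injective ((DRing.gammaI I).map g).hom := by
    intro u v huv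
    apply Subtype.ext
    apply hg
    exact congrArg Subtype.val huv
  intro x y hxy
  apply hΨ M
  apply hγ
  have hx := LinearMap.congr_fun hnat x
  have hy := LinearMap.congr_fun hnat y
  rw [LinearMap.comp_apply, LinearMap.comp_apply] at hx hy
  rw [← hx, ← hy, hxy]

theorem H_zero_subsingleton {M N : ModuleCat.{u} R} (g : M ⟶ N)
    (hg : Function.Injective g.hom) (h2 : Subsingleton ((localCohomology I 0).obj N)) :
    Subsingleton ((localCohomology I 0).obj M) := by
  refine ⟨fun a b => ?_⟩
  apply H0_map_injective I g hg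
  exact @Subsingleton.elim _ h2 _ _

theorem H_succ_subsingleton {S : ShortComplex (ModuleCat.{u} R)} (hS : S.ShortExact) (q : ℕ)
    (h3 : Subsingleton ((localCohomology I q).obj S.X₃))
    (h2 : Subsingleton ((localCohomology I (q + 1)).obj S.X₂)) :
    Subsingleton ((localCohomology I (q + 1)).obj S.X₁) := by
  have h3' : Subsingleton ↑((F0 I q).obj S.X₃) := (F0_equiv I q S.X₃).toEquiv.subsingleton
  have h1 : LinearMap.range ((T0 I).δ S hS q (q + 1) rfl).hom =
      LinearMap.ker (((T0 I).F (q + 1)).map S.f).hom :=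
    (ShortComplex.moduleCat_exact_iff_range_eq_ker _).1 ((T0 I).exact₁ S hS q (q + 1) rfl)
  have key : ∀ x : ↑(((T0 I).F (q + 1)).obj S.X₁), x = 0 := by
    intro x
    have hx : x ∈ LinearMap.ker (((T0 I).F (q + 1)).map S.f).hom := by
      rw [LinearMap.mem_ker]
      exact @Subsingleton.elim _ h2 _ _
    rw [← h1] at hx
    obtain ⟨y, rfl⟩ := hx
    rw [show y = 0 from @Subsingleton.elim _ h3' y 0, map_zero]
  exact ⟨fun a b => (key a).trans (key b).symm⟩

end H0

section Main

variable [hCM : LocCoh.IsCohenMacaulayLocalRing R]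

variable (n : ℕ) (hn : ringKrullDim R = n)

open IsLocalRing

include hn in
/-- vanishing of local cohomology of a first syzygy -/
theorem syz_vanish (b : ℕ) {M : Type u} [AddCommGroup M] [Module R M]
    (π : (Fin b → R) →ₗ[R] M) (hπ : Function.Surjective π) (q : ℕ) (hq : q < n)
    (h : ∀ q', q' + 1 = q → Subsingleton (LocCoh.H (maximalIdeal R) q' M)) :
    Subsingleton (LocCoh.H (maximalIdeal R) q ↥(LinearMap.ker π)) := by
  have hι : Function.Injective (LinearMap.ker π).subtype := Submodule.injective_subtype _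
  have hιπ : Function.Exact (LinearMap.ker π).subtype π := LinearMap.exact_subtype_ker_map π
  have hS := shortComplexOf_shortExact (LinearMap.ker π).subtype π hι hπ hιπ
  have hF : Subsingleton (LocCoh.H (maximalIdeal R) q (Fin b → R)) :=
    H_free_subsingleton n hn q hq b
  cases q with
  | zero =>
    exact H_zero_subsingleton (maximalIdeal R) (ModuleCat.ofHom (LinearMap.ker π).subtype) hι hF
  | succ q' =>
    exact H_succ_subsingleton (maximalIdeal R) hS q' (h q' rfl) hF

variable (E : Type u) [AddCommGroup E] [Module R E]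
  (f : ResidueField R →ₗ[R] E) (hf : InjHull.IsInjectiveHull f)
  (K : Type u) [AddCommGroup K] [Module R K]
  (eK : (K →ₗ[R] E) ≃ₗ[R] LocCoh.H (maximalIdeal R) n R)

theorem ext_subsingleton_of_Ex (i : ℕ) (M : Type u) [AddCommGroup M] [Module R M]
    (h : Subsingleton (Ex R K i M)) :
    Subsingleton (Abelian.Ext (ModuleCat.of R M) (ModuleCat.of R K) i) := by
  cases i with
  | zero =>
    let jj := (Groth.Agent.Lib.LocCohH0H7.j (ModuleCat.of R M) (ModuleCat.of R K)).toLinearEquiv
    exact @Equiv.subsingleton _ _ ((Abelian.Ext.linearEquiv₀ (R := R)).trans jj).toEquiv h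
  | succ p =>
    exact @Equiv.subsingleton _ _ (ΘL (ModuleCat.of R M) (ModuleCat.of R K) p).symm.toEquiv h

include hn hf eK in
theorem ext_subsingleton_of_H (i q : ℕ) (hq : q + i = n) (M : Type u) [AddCommGroup M]
    [Module R M] [Module.Finite R M] (h : Subsingleton (LocCoh.H (maximalIdeal R) q M)) :
    Subsingleton (Abelian.Ext (ModuleCat.of R M) (ModuleCat.of R K) i) := by
  obtain ⟨e⟩ := duality n hn E hf.isInjective K eK i q hq M
  have h1 : Subsingleton (Ex R K i M →ₗ[R] E) := @Equiv.subsingleton _ _ e.symm.toEquiv h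
  exact ext_subsingleton_of_Ex K i M (subsingleton_of_dual f hf _ h1)

include hn hf eK in
theorem ext1_vanish (M : Type u) [AddCommGroup M] [Module R M] [Module.Finite R M]
    (hV : ∀ q, q < n → Subsingleton (LocCoh.H (maximalIdeal R) q M)) :
    Subsingleton (Abelian.Ext (ModuleCat.of R M) (ModuleCat.of R K) 1) := by
  cases n with
  | succ q0 =>
    exact ext_subsingleton_of_H (q0 + 1) hn E f hf K eK 1 q0 rfl M (hV q0 (Nat.lt_succ_self q0))
  | zero =>
    have hE := hf.isInjective
    obtain ⟨b, π, hπ⟩ := Module.Finite.exists_fin' R M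
    have hι : Function.Injective (LinearMap.ker π).subtype := Submodule.injective_subtype _
    have hιπ : Function.Exact (LinearMap.ker π).subtype π := LinearMap.exact_subtype_ker_map π
    obtain ⟨e4⟩ := Groth.Agent.ExtBC.ext1 (LinearMap.ker π).subtype π hι hιπ hπ K
    obtain ⟨e2⟩ := Groth.Agent.Lib.HmapKer_helper6.ker_equiv
      ((Tn R 0).map (ModuleCat.ofHom (LinearMap.ker π).subtype)).hom
      ((Td (A := R) K E).map (ModuleCat.ofHom (LinearMap.ker π).subtype)).hom
      (LocDual_helper6.theta 0 hn E hE K eK ↥(LinearMap.ker π)).toLinearMap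
      (LocDual_helper6.theta 0 hn E hE K eK (Fin b → R)).toLinearMap
      (LocDual_helper6.theta 0 hn E hE K eK ↥(LinearMap.ker π)).bijective
      (LocDual_helper6.theta 0 hn E hE K eK (Fin b → R)).injective
      (fun x => (theta_nat 0 hn E hE K eK (LinearMap.ker π).subtype x).symm)
    have hinj := H0_map_injective (maximalIdeal R)
      (ModuleCat.ofHom (LinearMap.ker π).subtype) hι
    have hk0 : Subsingleton
        ↥(LinearMap.ker ((Tn R 0).map (ModuleCat.ofHom (LinearMap.ker π).subtype)).hom) := by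
      refine ⟨fun a c => Subtype.ext (hinj ?_)⟩
      rw [LinearMap.mem_ker.1 a.2, LinearMap.mem_ker.1 c.2]
    have hk2 := @Equiv.subsingleton _ _
      ((homQuotEquiv (E := E) (LinearMap.lcomp R K (LinearMap.ker π).subtype)).trans
        e2.symm).toEquiv hk0
    have hk3 := subsingleton_of_dual f hf _ hk2
    exact @Equiv.subsingleton _ _ e4.toEquiv hk3

include hn hf eK in
theorem ext_vanish_V : ∀ (j : ℕ) (M : Type u) [AddCommGroup M] [Module R M]
    [Module.Finite R M], (∀ q, q < n → Subsingleton (LocCoh.H (maximalIdeal R) q M)) →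
    Subsingleton (Abelian.Ext (ModuleCat.of R M) (ModuleCat.of R K) (j + 1)) := by
  intro j
  induction j with
  | zero =>
    intro M _ _ _ hV
    exact ext1_vanish n hn E f hf K eK M hV
  | succ j ih =>
    intro M _ _ _ hV
    obtain ⟨b, π, hπ⟩ := Module.Finite.exists_fin' R M
    have hι : Function.Injective (LinearMap.ker π).subtype := Submodule.injective_subtype _
    have hιπ : Function.Exact (LinearMap.ker π).subtype π := LinearMap.exact_subtype_ker_map π
    obtain ⟨e3⟩ := Groth.Agent.ExtBC.shift (LinearMap.ker π).subtype π hι hιπ hπ K j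
    have hV' : ∀ q, q < n → Subsingleton (LocCoh.H (maximalIdeal R) q ↥(LinearMap.ker π)) :=
      fun q hq => syz_vanish n hn b π hπ q hq (fun q' hq' => hV q' (by omega))
    exact @Equiv.subsingleton _ _ e3.toEquiv (ih ↥(LinearMap.ker π) hV')

include hn hf eK in
theorem ext_vanish_d : ∀ (d : ℕ) (M : Type u) [AddCommGroup M] [Module R M]
    [Module.Finite R M], (∀ q, q + d < n → Subsingleton (LocCoh.H (maximalIdeal R) q M)) →
    ∀ i, d < i → Subsingleton (Abelian.Ext (ModuleCat.of R M) (ModuleCat.of R K) i) := by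
  intro d
  induction d with
  | zero =>
    intro M _ _ _ hV i hi
    obtain ⟨j, rfl⟩ : ∃ j, i = j + 1 := ⟨i - 1, by omega⟩
    exact ext_vanish_V n hn E f hf K eK j M (fun q hq => hV q (by omega))
  | succ d ih =>
    intro M _ _ _ hV i hi
    obtain ⟨r, rfl⟩ : ∃ r, i = r + 2 := ⟨i - 2, by omega⟩
    obtain ⟨b, π, hπ⟩ := Module.Finite.exists_fin' R M
    have hι : Function.Injective (LinearMap.ker π).subtype := Submodule.injective_subtype _
    have hιπ : Function.Exact (LinearMap.ker π).subtype π := LinearMap.exact_subtype_ker_map π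
    obtain ⟨e3⟩ := Groth.Agent.ExtBC.shift (LinearMap.ker π).subtype π hι hιπ hπ K r
    have hV' : ∀ q, q + d < n →
        Subsingleton (LocCoh.H (maximalIdeal R) q ↥(LinearMap.ker π)) :=
      fun q hq => syz_vanish n hn b π hπ q (by omega) (fun q' hq' => hV q' (by omega))
    exact @Equiv.subsingleton _ _ e3.toEquiv (ih ↥(LinearMap.ker π) hV' (r + 1) (by omega))

include hn hf eK in
/-- `Ext^i(M, K) = 0` for `i > n = dim R` and finite `M` -/
theorem ext_vanish_top (M : Type u) [AddCommGroup M] [Module R M] [Module.Finite R M] (i : ℕ)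
    (hi : n < i) : Subsingleton (Abelian.Ext (ModuleCat.of R M) (ModuleCat.of R K) i) :=
  ext_vanish_d n hn E f hf K eK n M (fun q hq => absurd hq (by omega)) i hi

include hn hf eK in
/-- `Ext^i(k, K) = 0` for `i < n` -/
theorem ext_residue_vanish_lt (i : ℕ) (hi : i < n) :
    Subsingleton (Abelian.Ext (ModuleCat.of R (R ⧸ maximalIdeal R)) (ModuleCat.of R K) i) := by
  obtain ⟨p, hp⟩ : ∃ p, n - i = p + 1 := ⟨n - i - 1, by omega⟩
  have htor : LocCoh.IsPowerTorsion (maximalIdeal R) (R ⧸ maximalIdeal R) := by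
    intro x
    refine ⟨1, fun a ha => ?_⟩
    rw [pow_one] at ha
    obtain ⟨y, rfl⟩ := Ideal.Quotient.mk_surjective x
    show a • (Submodule.Quotient.mk y : R ⧸ maximalIdeal R) = 0
    rw [← Submodule.Quotient.mk_smul, Submodule.Quotient.mk_eq_zero]
    exact Ideal.mul_mem_right y _ ha
  have h0 := Groth.Agent.Lib.LocCohTorsVanishH7.H_subsingleton (maximalIdeal R)
    (R ⧸ maximalIdeal R) htor p
  exact ext_subsingleton_of_H n hn E f hf K eK i (p + 1) (by omega) (R ⧸ maximalIdeal R) h0

variable [Module.Finite R K]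

include hn hf eK in
theorem nontrivial_K : Nontrivial K := by
  by_contra hK
  rw [not_nontrivial_iff_subsingleton] at hK
  haveI := Groth.Agent.Lib.NonVan2H7.nonvanishing_ring R n hn
  haveI : Subsingleton (K →ₗ[R] E) :=
    ⟨fun a c => LinearMap.ext fun x => by rw [Subsingleton.elim x 0, map_zero, map_zero]⟩
  exact not_subsingleton _ (eK.symm.toEquiv.subsingleton)

include hn hf eK in
theorem depth_and_dim : LocCoh.depth R K = (n : ℕ∞) ∧ Module.supportDim R K = n := by
  have hdge : (n : ℕ∞) ≤ LocCoh.idealDepth (maximalIdeal R) K :=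
    (le_idealDepth_iff_ext (maximalIdeal R) K n).2
      (fun i hi => ext_residue_vanish_lt n hn E f hf K eK i hi)
  haveI := nontrivial_K n hn E f hf K eK
  have hle1 := Groth.Agent.DepthLib.depth_le_supportDim R K
  have hle2 : Module.supportDim R K ≤ (n : WithBot ℕ∞) := by
    rw [← hn]
    exact Module.supportDim_le_ringKrullDim R K
  have hdge' : ((n : ℕ∞) : WithBot ℕ∞) ≤ ((LocCoh.depth R K : ℕ∞) : WithBot ℕ∞) := by
    exact_mod_cast hdge
  have hsd : Module.supportDim R K = (n : WithBot ℕ∞) :=
    le_antisymm hle2 (le_trans (by exact_mod_cast hdge') hle1)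
  refine ⟨le_antisymm ?_ hdge, hsd⟩
  have h3 : ((LocCoh.depth R K : ℕ∞) : WithBot ℕ∞) ≤ ((n : ℕ∞) : WithBot ℕ∞) := by
    calc ((LocCoh.depth R K : ℕ∞) : WithBot ℕ∞) ≤ Module.supportDim R K := hle1
      _ = ((n : ℕ∞) : WithBot ℕ∞) := by rw [hsd]; rfl
  exact_mod_cast h3

include hn hf eK in
/-- S7700 -/
theorem main : HasInjectiveDimensionLT (ModuleCat.of R K) (n + 1) ∧
    ¬ HasInjectiveDimensionLT (ModuleCat.of R K) n ∧ LocCoh.IsCohenMacaulayModule R K ∧
    Module.supportDim R K = n := by
  obtain ⟨hdepth, hsd⟩ := depth_and_dim n hn E f hf K eK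
  refine ⟨?_, ?_, ?_, hsd⟩
  · apply Groth.Agent.Gor.hasInjectiveDimensionLT_sharp R K (n + 1)
    intro i hi
    exact ext_vanish_top n hn E f hf K eK (ResidueField R) i (by omega)
  · intro h
    have := Groth.Agent.Gor.depth_lt_of_hasInjectiveDimensionLT R K n n hdepth h
    omega
  · show Module.supportDim R K = ((LocCoh.depth R K : ℕ∞) : WithBot ℕ∞)
    rw [hsd, hdepth]
    rfl

end Main

end Groth.Agent.Lib.CanonInjDim_helper6
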