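import Mathlib
import Groth.Prelude.Def_Wider
import Groth.Agent.Lib.CanonInjDim_helper6
import Groth.Agent.Lib.GorHull_helper7
import Groth.Agent.Lib.GlDim_helper5
import Groth.Agent.Lib.RegQuot_helper5
import Groth.Agent.Lib.InjHull_helper3

/-!
# Local duality over a regular local ring, vanishing form (helper4)

For a regular local ring `A` of dimension `r` and a finite module `M`:
`H^i_m(M) = 0 ↔ Ext^{r-i}_A(M, A) = 0` (`i ≤ r`).
APPEND-ONLY once landed.
-/

set_option autoImplicit false
set_option linter.style.haveILetI false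
universe u
open CategoryTheory CategoryTheory.Limits Opposite IsLocalRing

namespace Groth.Agent.Lib.LocDualVanH4

open Groth.Agent.Lib.LocDual2_helper6 Groth.Agent.Lib.CanonInjDim_helper6

variable {R : Type u} [CommRing R]

/-- converse of helper6's `ext_subsingleton_of_Ex` -/
theorem Ex_subsingleton_of_ext (K : Type u) [AddCommGroup K] [Module R K] (i : ℕ) (M : Type u)
    [AddCommGroup M] [Module R M]
    (h : Subsingleton (Abelian.Ext (ModuleCat.of R M) (ModuleCat.of R K) i)) :
    Subsingleton (Ex R K i M) := by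
  cases i with
  | zero =>
    let jj := (Groth.Agent.Lib.LocCohH0H7.j (ModuleCat.of R M) (ModuleCat.of R K)).toLinearEquiv
    exact @Equiv.subsingleton _ _ ((Abelian.Ext.linearEquiv₀ (R := R)).trans jj).symm.toEquiv h
  | succ p =>
    exact @Equiv.subsingleton _ _ (ΘL (ModuleCat.of R M) (ModuleCat.of R K) p).toEquiv h

/-- **local duality over a regular local ring, in vanishing form.** -/
theorem subsingleton_H_iff_subsingleton_ext (A : Type u) [CommRing A] [IsRegularLocalRing A]
    (r : ℕ) (hr : ringKrullDim A = r) (M : Type u) [AddCommGroup M] [Module A M]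
    [Module.Finite A M] (i : ℕ) (hi : i ≤ r) :
    Subsingleton (LocCoh.H (maximalIdeal A) i M) ↔
      Subsingleton (Abelian.Ext (ModuleCat.of A M) (ModuleCat.of A A) (r - i)) := by
  haveI : LocCoh.IsCohenMacaulayLocalRing A := ⟨Groth.Agent.RegQuot.isCM_of_regular A⟩
  obtain ⟨g, hg⟩ := Groth.Agent.Lib.GorHullH7.gorenstein_hull r A
    ⟨r + 1, Groth.Agent.GlDim.hasInjectiveDimensionLT_of_regular A r hr (ModuleCat.of A A)⟩ hr
  let eK : (A →ₗ[A] LocCoh.H (maximalIdeal A) r A) ≃ₗ[A] LocCoh.H (maximalIdeal A) r A :=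
    LinearMap.ringLmapEquivSelf A A _
  obtain ⟨e⟩ := duality r hr (LocCoh.H (maximalIdeal A) r A) hg.isInjective A eK (r - i) i
    (by omega) M
  constructor
  · intro h
    exact ext_subsingleton_of_H r hr (LocCoh.H (maximalIdeal A) r A) g hg A eK (r - i) i
      (by omega) M h
  · intro h
    have h1 : Subsingleton (Ex A A (r - i) M) := Ex_subsingleton_of_ext A (r - i) M h
    have h2 : Subsingleton (Ex A A (r - i) M →ₗ[A] LocCoh.H (maximalIdeal A) r A) :=
      ⟨fun a b => LinearMap.ext fun x => by rw [Subsingleton.elim x 0, map_zero, map_zero]⟩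
    exact @Equiv.subsingleton _ _ e.toEquiv h2

end Groth.Agent.Lib.LocDualVanH4
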