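import Mathlib
import Groth.Prelude.Def_CAlg
import Groth.Agent.Lib.DepthChain_helper5

/-!
# Lower semicontinuity of ideal depth along specializations (helper3)
-/

set_option autoImplicit false
set_option maxSynthPendingDepth 3
universe u

namespace Groth.Agent.Lib.DepthOpenH3

open RingTheory.Sequence Pointwise Groth.Agent.DepthLib

lemma exists_uniform_annihilator {A : Type u} [CommRing A] (N : Type u) [AddCommGroup N]
    [Module A N] [Module.Finite A N] (p : PrimeSpectrum A)
    (h : ∀ m : N, ∃ t ∈ p.asIdeal.primeCompl, t • m = 0) :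
    ∃ t0 : A, t0 ∉ p.asIdeal ∧ ∀ m : N, t0 • m = 0 := by
  have hsub : Subsingleton (LocalizedModule p.asIdeal.primeCompl N) :=
    LocalizedModule.subsingleton_iff.mpr h
  have hns : p ∉ Module.support A N := Module.notMem_support_iff.mpr hsub
  rw [Module.support_eq_zeroLocus, PrimeSpectrum.mem_zeroLocus, Set.not_subset] at hns
  obtain ⟨t0, ht0, ht0p⟩ := hns
  exact ⟨t0, ht0p, fun m => Module.mem_annihilator.mp ht0 m⟩

theorem key (A : Type u) [CommRing A] [IsNoetherianRing A] (I : Ideal A) (p : PrimeSpectrum A)
    (hp : I ≤ p.asIdeal) (e : ℕ) :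
    ∀ (M : Type u) [AddCommGroup M] [Module A M] [Module.Finite A M],
      (e : ℕ∞) ≤ LocCoh.idealDepth (I.map (algebraMap A (Localization.AtPrime p.asIdeal)))
        (LocalizedModule p.asIdeal.primeCompl M) →
      ∃ t : A, t ∉ p.asIdeal ∧ ∀ q : PrimeSpectrum A, t ∉ q.asIdeal →
        (e : ℕ∞) ≤ LocCoh.idealDepth (I.map (algebraMap A (Localization.AtPrime q.asIdeal)))
          (LocalizedModule q.asIdeal.primeCompl M) := by
  induction e with
  | zero =>
    intro M _ _ _ _
    refine ⟨1, fun h1 => p.2.ne_top ((Ideal.eq_top_iff_one _).mpr h1), fun q _ => ?_⟩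
    simp
  | succ n ih =>
    intro M _ _ _ h
    have hp'le : I.map (algebraMap A (Localization.AtPrime p.asIdeal)) ≤
        IsLocalRing.maximalIdeal (Localization.AtPrime p.asIdeal) := by
      rw [← Localization.AtPrime.map_eq_maximalIdeal]
      exact Ideal.map_mono hp
    have h1 : 1 ≤ LocCoh.idealDepth (I.map (algebraMap A (Localization.AtPrime p.asIdeal)))
        (LocalizedModule p.asIdeal.primeCompl M) := by
      refine le_trans ?_ h
      exact_mod_cast Nat.succ_le_succ (Nat.zero_le n)
    rcases (one_le_idealDepth_iff _ _).1 h1 with htop | ⟨y, hy, hyreg⟩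
    · have hbot : (⊤ : Submodule (Localization.AtPrime p.asIdeal)
          (LocalizedModule p.asIdeal.primeCompl M)) = ⊥ :=
        Submodule.eq_bot_of_le_smul_of_le_jacobson_bot _ ⊤ Module.Finite.fg_top (by rw [htop])
          (le_trans hp'le (IsLocalRing.maximalIdeal_le_jacobson _))
      have hsub : Subsingleton (LocalizedModule p.asIdeal.primeCompl M) := by
        rw [← Submodule.subsingleton_iff (Localization.AtPrime p.asIdeal)]
        exact subsingleton_of_bot_eq_top hbot.symm
      obtain ⟨t0, ht0, hM⟩ := exists_uniform_annihilator M p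
        (LocalizedModule.subsingleton_iff.mp hsub)
      refine ⟨t0, ht0, fun q hq => ?_⟩
      have hsubq : Subsingleton (LocalizedModule q.asIdeal.primeCompl M) :=
        LocalizedModule.subsingleton_iff.mpr fun m => ⟨t0, hq, hM m⟩
      rw [le_idealDepth_iff]
      exact Or.inl (Subsingleton.elim _ _)
    · obtain ⟨⟨⟨x, hx⟩, t'⟩, hxt⟩ :=
        (IsLocalization.mem_map_algebraMap_iff p.asIdeal.primeCompl
          (Localization.AtPrime p.asIdeal)).1 hy
      have hxp_reg : IsSMulRegular (LocalizedModule p.asIdeal.primeCompl M)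
          (algebraMap A (Localization.AtPrime p.asIdeal) x) := by
        have hu : IsUnit (algebraMap A (Localization.AtPrime p.asIdeal) (t' : A)) :=
          IsLocalization.map_units _ t'
        have := hyreg.mul (hu.isSMulRegular (LocalizedModule p.asIdeal.primeCompl M))
        rw [hxt] at this
        exact this
      have hker := (isSMulRegular_localizedModule_iff p.asIdeal.primeCompl M x).1 hxp_reg
      obtain ⟨t0, ht0, hK⟩ := exists_uniform_annihilator
        (LinearMap.ker (x • LinearMap.id : M →ₗ[A] M)) p (by
          intro m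
          obtain ⟨t, ht, htm⟩ := hker m.1 (by simpa using m.2)
          exact ⟨t, ht, Subtype.ext (by simpa using htm)⟩)
      have hxp_mem : algebraMap A (Localization.AtPrime p.asIdeal) x ∈
          I.map (algebraMap A (Localization.AtPrime p.asIdeal)) := Ideal.mem_map_of_mem _ hx
      have keyp := le_idealDepth_iff_of_smul_ses
        (I.map (algebraMap A (Localization.AtPrime p.asIdeal)))
        (LocalizedModule p.asIdeal.primeCompl M)
        (LocalizedModule p.asIdeal.primeCompl (QuotSMulTop x M))
        hxp_mem hxp_reg (LocalizedModule.map p.asIdeal.primeCompl (Submodule.mkQ _))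
        (LocalizedModule.map_surjective _ _ (Submodule.mkQ_surjective _))
        (localized_smul_exact p.asIdeal.primeCompl M x) n
      obtain ⟨t1, ht1, hQ⟩ := ih (QuotSMulTop x M) (keyp.2 h)
      refine ⟨t0 * t1, fun hmem => (p.2.mem_or_mem hmem).elim ht0 ht1, fun q hq => ?_⟩
      have hq0 : t0 ∉ q.asIdeal := fun h0 => hq (q.asIdeal.mul_mem_right _ h0)
      have hq1 : t1 ∉ q.asIdeal := fun h0 => hq (q.asIdeal.mul_mem_left _ h0)
      have hxq_reg : IsSMulRegular (LocalizedModule q.asIdeal.primeCompl M)
          (algebraMap A (Localization.AtPrime q.asIdeal) x) := by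
        rw [isSMulRegular_localizedModule_iff]
        intro m hm
        refine ⟨t0, hq0, ?_⟩
        have := hK ⟨m, by simpa using hm⟩
        simpa using congrArg Subtype.val this
      have hxq_mem : algebraMap A (Localization.AtPrime q.asIdeal) x ∈
          I.map (algebraMap A (Localization.AtPrime q.asIdeal)) := Ideal.mem_map_of_mem _ hx
      exact (le_idealDepth_iff_of_smul_ses
        (I.map (algebraMap A (Localization.AtPrime q.asIdeal)))
        (LocalizedModule q.asIdeal.primeCompl M)
        (LocalizedModule q.asIdeal.primeCompl (QuotSMulTop x M))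
        hxq_mem hxq_reg (LocalizedModule.map q.asIdeal.primeCompl (Submodule.mkQ _))
        (LocalizedModule.map_surjective _ _ (Submodule.mkQ_surjective _))
        (localized_smul_exact q.asIdeal.primeCompl M x) n).1 (hQ q hq1)

end Groth.Agent.Lib.DepthOpenH3
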