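import Mathlib
import Groth.Prelude.Def_CInt
import Groth.Prelude.Def_Coh
import Groth.Agent.Lib.DepthOpen_helper3
import Groth.Agent.Lib.DepthChain_helper5
import Groth.Agent.Lib.DepthLoc_helper5
import Groth.Agent.Lib.DepthRingChange_helper5
import Groth.Agent.Lib.Hartogs_helper5
import Groth.Agent.Lib.SchFT_helper8
import Groth.Agent.Lib.CartDim_helper8
import Groth.Agent.Lib.StalkLoc_helper8
import Groth.Agent.Lib.QCohFT_helper9

/-!
# Openness of the locus where the depth along a closed subset is at least `n` (helper2)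
APPEND-ONLY once landed.
-/

set_option autoImplicit false
set_option maxSynthPendingDepth 3
universe u

namespace Groth.Agent.Lib.DepthAlongOpen

open RingTheory.Sequence Pointwise Groth.Agent.DepthLib
open CategoryTheory AlgebraicGeometry TopologicalSpace

/-- ring-level openness: if `depth M_q ≥ n` for all primes `q` between `I` and `p`, the same
holds for all primes `q ⊇ I` in a basic open neighbourhood of `p`. -/
theorem claim (A : Type u) [CommRing A] [IsNoetherianRing A] (I : Ideal A) (p : PrimeSpectrum A)
    (hp : I ≤ p.asIdeal) (n : ℕ) :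
    ∀ (M : Type u) [AddCommGroup M] [Module A M] [Module.Finite A M],
      (∀ q : PrimeSpectrum A, I ≤ q.asIdeal → q.asIdeal ≤ p.asIdeal →
        (n : ℕ∞) ≤ LocCoh.depth (Localization.AtPrime q.asIdeal)
          (LocalizedModule q.asIdeal.primeCompl M)) →
      ∃ t : A, t ∉ p.asIdeal ∧ ∀ q : PrimeSpectrum A, I ≤ q.asIdeal → t ∉ q.asIdeal →
        (n : ℕ∞) ≤ LocCoh.depth (Localization.AtPrime q.asIdeal)
          (LocalizedModule q.asIdeal.primeCompl M) := by
  induction n with
  | zero =>
    intro M _ _ _ _
    exact ⟨1, fun h1 => p.2.ne_top ((Ideal.eq_top_iff_one _).mpr h1), fun q _ _ => by simp⟩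
  | succ n ih =>
    intro M _ _ _ h
    have hp'le : I.map (algebraMap A (Localization.AtPrime p.asIdeal)) ≤
        IsLocalRing.maximalIdeal (Localization.AtPrime p.asIdeal) := by
      rw [← Localization.AtPrime.map_eq_maximalIdeal]
      exact Ideal.map_mono hp
    have h1 : 1 ≤ LocCoh.idealDepth (I.map (algebraMap A (Localization.AtPrime p.asIdeal)))
        (LocalizedModule p.asIdeal.primeCompl M) := by
      by_contra hcon
      obtain ⟨Q, hQ, hIQ⟩ := exists_associatedPrime_of_not_one_le
        (I.map (algebraMap A (Localization.AtPrime p.asIdeal)))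
        (LocalizedModule p.asIdeal.primeCompl M) hcon
      haveI hQp : Q.IsPrime := hQ.isPrime
      have hfg : (Q.comap (algebraMap A (Localization.AtPrime p.asIdeal))).FG :=
        (isNoetherianRing_iff_ideal_fg A).mp inferInstance _
      have hq_ass :=
        Module.associatedPrimes.comap_mem_associatedPrimes_of_mem_associatedPrimes_of_isLocalizedModule_of_fg
          p.asIdeal.primeCompl (LocalizedModule.mkLinearMap p.asIdeal.primeCompl M) Q hQ hfg
      obtain ⟨q0, hq0⟩ : ∃ q0 : Ideal A,
          q0 = Q.comap (algebraMap A (Localization.AtPrime p.asIdeal)) := ⟨_, rfl⟩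
      rw [← hq0] at hq_ass
      haveI : q0.IsPrime := hq_ass.isPrime
      have hq0p : q0 ≤ p.asIdeal := by
        intro a ha
        rw [hq0, Ideal.mem_comap] at ha
        have h2 : algebraMap A (Localization.AtPrime p.asIdeal) a ∈
            IsLocalRing.maximalIdeal (Localization.AtPrime p.asIdeal) :=
          IsLocalRing.le_maximalIdeal hQp.ne_top ha
        exact (IsLocalization.AtPrime.to_map_mem_maximal_iff _ p.asIdeal a).1 h2
      have hIq0 : I ≤ q0 := by
        intro a ha
        rw [hq0, Ideal.mem_comap]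
        exact hIQ (Ideal.mem_map_of_mem _ ha)
      have hass := Module.associatedPrimes.mem_associatedPrimes_atPrime_of_mem_associatedPrimes
        hq_ass
      have hnot := not_one_le_idealDepth_of_le_associatedPrime
        (IsLocalRing.maximalIdeal (Localization.AtPrime q0)) (LocalizedModule q0.primeCompl M) _
        hass le_rfl
      apply hnot
      have h3 := h ⟨q0, inferInstance⟩ hIq0 hq0p
      unfold LocCoh.depth at h3
      refine le_trans ?_ h3
      exact_mod_cast Nat.succ_le_succ (Nat.zero_le n)
    rcases (one_le_idealDepth_iff _ _).1 h1 with htop | ⟨y, hy, hyreg⟩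
    · have hbot : (⊤ : Submodule (Localization.AtPrime p.asIdeal)
          (LocalizedModule p.asIdeal.primeCompl M)) = ⊥ :=
        Submodule.eq_bot_of_le_smul_of_le_jacobson_bot _ ⊤ Module.Finite.fg_top (by rw [htop])
          (le_trans hp'le (IsLocalRing.maximalIdeal_le_jacobson _))
      have hsub : Subsingleton (LocalizedModule p.asIdeal.primeCompl M) := by
        rw [← Submodule.subsingleton_iff (Localization.AtPrime p.asIdeal)]
        exact subsingleton_of_bot_eq_top hbot.symm
      obtain ⟨t0, ht0, hM⟩ := Groth.Agent.Lib.DepthOpenH3.exists_uniform_annihilator M p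
        (LocalizedModule.subsingleton_iff.mp hsub)
      refine ⟨t0, ht0, fun q _ hq => ?_⟩
      have hsubq : Subsingleton (LocalizedModule q.asIdeal.primeCompl M) :=
        LocalizedModule.subsingleton_iff.mpr fun m => ⟨t0, hq, hM m⟩
      unfold LocCoh.depth
      rw [le_idealDepth_iff]
      exact Or.inl (Subsingleton.elim _ _)
    · obtain ⟨⟨⟨x, hx⟩, t'⟩, hxt⟩ :=
        (IsLocalization.mem_map_algebraMap_iff p.asIdeal.primeCompl
          (Localization.AtPrime p.asIdeal)).1 hy
      have hxp_reg : IsSMulRegular (LocalizedModule p.asIdeal.primeCompl M)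
          (algebraMap A (Localization.AtPrime p.asIdeal) x) := by
        have hu : IsUnit (algebraMap A (Localization.AtPrime p.asIdeal) (t' : A)) :=
          IsLocalization.map_units _ t'
        have := hyreg.mul (hu.isSMulRegular (LocalizedModule p.asIdeal.primeCompl M))
        rw [hxt] at this
        exact this
      have hker := (isSMulRegular_localizedModule_iff p.asIdeal.primeCompl M x).1 hxp_reg
      obtain ⟨t0, ht0, hK⟩ := Groth.Agent.Lib.DepthOpenH3.exists_uniform_annihilator
        (LinearMap.ker (x • LinearMap.id : M →ₗ[A] M)) p (by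
          intro m
          obtain ⟨t, ht, htm⟩ := hker m.1 (by simpa using m.2)
          exact ⟨t, ht, Subtype.ext (by simpa using htm)⟩)
      have hstep : ∀ q : PrimeSpectrum A, I ≤ q.asIdeal →
          IsSMulRegular (LocalizedModule q.asIdeal.primeCompl M)
            (algebraMap A (Localization.AtPrime q.asIdeal) x) → ∀ k : ℕ,
          ((k : ℕ∞) ≤ LocCoh.depth (Localization.AtPrime q.asIdeal)
              (LocalizedModule q.asIdeal.primeCompl (QuotSMulTop x M)) ↔
            ((k + 1 : ℕ) : ℕ∞) ≤ LocCoh.depth (Localization.AtPrime q.asIdeal)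
              (LocalizedModule q.asIdeal.primeCompl M)) := by
        intro q hIq hreg k
        unfold LocCoh.depth
        exact le_idealDepth_iff_of_smul_ses
          (IsLocalRing.maximalIdeal (Localization.AtPrime q.asIdeal))
          (LocalizedModule q.asIdeal.primeCompl M)
          (LocalizedModule q.asIdeal.primeCompl (QuotSMulTop x M))
          ((IsLocalization.AtPrime.to_map_mem_maximal_iff _ q.asIdeal x).2 (hIq hx)) hreg
          (LocalizedModule.map q.asIdeal.primeCompl (Submodule.mkQ _))
          (LocalizedModule.map_surjective _ _ (Submodule.mkQ_surjective _))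
          (localized_smul_exact q.asIdeal.primeCompl M x) k
      obtain ⟨t1, ht1, hQ⟩ := ih (QuotSMulTop x M) (fun q hIq hqp => by
        have hreg : IsSMulRegular (LocalizedModule q.asIdeal.primeCompl M)
            (algebraMap A (Localization.AtPrime q.asIdeal) x) := by
          rw [isSMulRegular_localizedModule_iff]
          intro m hm
          obtain ⟨t, ht, htm⟩ := hker m hm
          exact ⟨t, fun htq => ht (hqp htq), htm⟩
        exact (hstep q hIq hreg n).2 (h q hIq hqp))
      refine ⟨t0 * t1, fun hmem => (p.2.mem_or_mem hmem).elim ht0 ht1, fun q hIq hq => ?_⟩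
      have hq0 : t0 ∉ q.asIdeal := fun h0 => hq (q.asIdeal.mul_mem_right _ h0)
      have hq1 : t1 ∉ q.asIdeal := fun h0 => hq (q.asIdeal.mul_mem_left _ h0)
      have hxq_reg : IsSMulRegular (LocalizedModule q.asIdeal.primeCompl M)
          (algebraMap A (Localization.AtPrime q.asIdeal) x) := by
        rw [isSMulRegular_localizedModule_iff]
        intro m hm
        refine ⟨t0, hq0, ?_⟩
        have := hK ⟨m, by simpa using hm⟩
        simpa using congrArg Subtype.val this
      exact (hstep q hIq hxq_reg n).1 (hQ q hIq hq1)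

/-- depth of an abstract localization at a prime equals the depth of the concrete one -/
theorem depth_eq_of_isLocalizedModule (A : Type u) [CommRing A] [IsNoetherianRing A]
    (q : Ideal A) [q.IsPrime]
    (R : Type u) [CommRing R] [IsLocalRing R] [Algebra A R] [IsLocalization.AtPrime R q]
    (M N : Type u) [AddCommGroup M] [Module A M] [Module.Finite A M] [AddCommGroup N]
    [Module A N] [Module R N] [IsScalarTower A R N]
    (φ : M →ₗ[A] N) [IsLocalizedModule q.primeCompl φ] :
    LocCoh.depth R N =
      LocCoh.depth (Localization.AtPrime q) (LocalizedModule q.primeCompl M) := by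
  let e : Localization.AtPrime q ≃ₐ[A] R :=
    IsLocalization.algEquiv q.primeCompl (Localization.AtPrime q) R
  letI algA'R : Algebra (Localization.AtPrime q) R := e.toAlgHom.toRingHom.toAlgebra
  have halg : ∀ a : Localization.AtPrime q, algebraMap (Localization.AtPrime q) R a = e a :=
    fun _ => rfl
  haveI : IsScalarTower A (Localization.AtPrime q) R :=
    IsScalarTower.of_algebraMap_eq fun a => by rw [halg, e.commutes]
  haveI : IsNoetherianRing R := isNoetherianRing_of_ringEquiv _ e.toRingEquiv
  haveI : IsLocalHom (algebraMap (Localization.AtPrime q) R) := by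
    refine ⟨fun a ha => ?_⟩
    rw [halg] at ha
    have h2 := ha.map e.symm
    simpa using h2
  letI : Module (Localization.AtPrime q) N := Module.compHom N (algebraMap (Localization.AtPrime q) R)
  haveI : IsScalarTower (Localization.AtPrime q) R N :=
    IsScalarTower.of_algebraMap_smul fun _ _ => rfl
  haveI : IsScalarTower A (Localization.AtPrime q) N := by
    refine IsScalarTower.of_algebraMap_smul fun a n => ?_
    show algebraMap (Localization.AtPrime q) R (algebraMap A (Localization.AtPrime q) a) • n = a • n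
    rw [← IsScalarTower.algebraMap_apply A (Localization.AtPrime q) R, algebraMap_smul]
  haveI : Module.Finite (Localization.AtPrime q) N :=
    Module.Finite.of_isLocalizedModule q.primeCompl φ
  have h1 : LocCoh.depth (Localization.AtPrime q) N = LocCoh.depth R N :=
    depth_eq_of_isLocalHom (Localization.AtPrime q) R N
  rw [← h1]
  unfold LocCoh.depth
  let e2 : LocalizedModule q.primeCompl M ≃ₗ[Localization.AtPrime q] N :=
    (IsLocalizedModule.iso q.primeCompl φ).extendScalarsOfIsLocalization q.primeCompl
      (Localization.AtPrime q)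
  exact (idealDepth_congr _ _ e2).symm

section Sch

variable {X : Scheme.{u}} [IsLocallyNoetherian X] (F : X.Modules)

/-- depth of the stalk at a point of an affine open via localization of sections -/
theorem depth_stalk_eq (hF : Coh.IsCoh F) {V : X.Opens} (hV : IsAffineOpen V) {z : X}
    (hz : z ∈ V) :
    LocCoh.depth (X.presheaf.stalk z) (F.presheaf.stalk z) =
      LocCoh.depth (Localization.AtPrime (hV.primeIdealOf ⟨z, hz⟩).asIdeal)
        (LocalizedModule (hV.primeIdealOf ⟨z, hz⟩).asIdeal.primeCompl Γ(F, V)) := by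
  haveI : F.IsQuasicoherent := hF.1
  haveI : SheafOfModules.IsFiniteType (R := X.ringCatSheaf) F := hF.2
  haveI : IsNoetherianRing Γ(X, V) := IsLocallyNoetherian.component_noetherian ⟨V, hV⟩
  haveI : Module.Finite Γ(X, V) Γ(F, V) := QCohFT.finite_of_isFiniteType F hV
  letI := TopCat.Presheaf.algebra_section_stalk X.presheaf (⟨z, hz⟩ : V)
  haveI : IsLocalization.AtPrime (X.presheaf.stalk z) (hV.primeIdealOf ⟨z, hz⟩).asIdeal :=
    hV.isLocalization_stalk ⟨z, hz⟩
  letI := StalkLocH8.modSec F hz
  haveI := StalkLocH8.isLocalizedModule_germLin F hV hz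
  haveI : IsScalarTower Γ(X, V) (X.presheaf.stalk z) (F.presheaf.stalk z) :=
    IsScalarTower.of_algebraMap_smul fun _ _ => rfl
  exact depth_eq_of_isLocalizedModule Γ(X, V) (hV.primeIdealOf ⟨z, hz⟩).asIdeal
    (X.presheaf.stalk z) Γ(F, V) (F.presheaf.stalk z) (StalkLocH8.germLin F hz)

theorem main2870 (hF : Coh.IsCoh F) (Y : Closeds ↥X) (n : ℕ) :
    ∃ U : X.Opens, ∀ y : ↥X, y ∈ Y →
      (y ∈ U ↔ (n : ℕ∞) ≤ CInt.depthAlong F (Y : Set ↥X) y) := by
  set Uset : Set X := {y | ∃ W : X.Opens, y ∈ W ∧ ∀ z ∈ W, z ∈ Y →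
    (n : ℕ∞) ≤ LocCoh.depth (X.presheaf.stalk z) (F.presheaf.stalk z)} with hUset
  have hopen : IsOpen Uset := by
    rw [isOpen_iff_forall_mem_open]
    rintro y ⟨W, hyW, hW⟩
    exact ⟨W, fun w hw => ⟨W, hw, hW⟩, W.isOpen, hyW⟩
  refine ⟨⟨Uset, hopen⟩, fun y hy => ⟨?_, ?_⟩⟩
  · rintro ⟨W, hyW, hW⟩
    unfold CInt.depthAlong
    apply le_iInf
    rintro ⟨z, hzY, hzy⟩
    exact hW z (hzy.mem_open W.isOpen hyW) hzY
  · intro hdep
    have hgen : ∀ z : X, z ∈ Y → z ⤳ y →
        (n : ℕ∞) ≤ LocCoh.depth (X.presheaf.stalk z) (F.presheaf.stalk z) := by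
      intro z hzY hzy
      unfold CInt.depthAlong at hdep
      exact le_trans hdep (iInf_le _ (⟨z, hzY, hzy⟩ : {z : X // z ∈ (Y : Set X) ∧ z ⤳ y}))
    obtain ⟨V, hV, hyV, -⟩ := Opens.isBasis_iff_nbhd.mp X.isBasis_affineOpens (Opens.mem_top y)
    haveI : F.IsQuasicoherent := hF.1
    haveI : SheafOfModules.IsFiniteType (R := X.ringCatSheaf) F := hF.2
    haveI : IsNoetherianRing Γ(X, V) := IsLocallyNoetherian.component_noetherian ⟨V, hV⟩
    haveI : Module.Finite Γ(X, V) Γ(F, V) := QCohFT.finite_of_isFiniteType F hV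
    set J : X.IdealSheafData := Scheme.IdealSheafData.vanishingIdeal Y with hJ
    have hsupp : ∀ z : X, z ∈ J.support ↔ z ∈ Y := fun z => Iff.rfl
    have hIY : ∀ (z : X) (hz : z ∈ V),
        z ∈ Y ↔ J.ideal ⟨V, hV⟩ ≤ (hV.primeIdealOf ⟨z, hz⟩).asIdeal := by
      intro z hz
      rw [← hsupp z, Scheme.IdealSheafData.mem_support_iff_of_mem (U := ⟨V, hV⟩) hz,
        Scheme.mem_zeroLocus_iff]
      constructor
      · intro h f hf
        rw [CartDimH8.mem_primeIdealOf_iff hV z hz f]
        exact h f hf
      · intro h f hf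
        rw [← CartDimH8.mem_primeIdealOf_iff hV z hz f]
        exact h hf
    obtain ⟨t, htp, ht⟩ := claim Γ(X, V) (J.ideal ⟨V, hV⟩) (hV.primeIdealOf ⟨y, hyV⟩)
      ((hIY y hyV).1 hy) n Γ(F, V) (by
        intro q hIq hqp
        obtain ⟨z, hz, hPz⟩ := Groth.Agent.Hartogs.exists_point hV q.asIdeal
        have hq : q = hV.primeIdealOf ⟨z, hz⟩ := PrimeSpectrum.ext hPz.symm
        subst hq
        rw [← depth_stalk_eq F hF hV hz]
        refine hgen z ((hIY z hz).2 hIq) ?_
        rw [SchFTH8.specializes_iff_primeIdealOf_le hV z y hz hyV]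
        exact hqp)
    refine ⟨X.basicOpen t, ?_, fun z hz hzY => ?_⟩
    · by_contra hcon
      exact htp ((CartDimH8.mem_primeIdealOf_iff hV y hyV t).2 hcon)
    · have hzV : z ∈ V := X.basicOpen_le t hz
      rw [depth_stalk_eq F hF hV hzV]
      refine ht (hV.primeIdealOf ⟨z, hzV⟩) ((hIY z hzV).1 hzY) ?_
      intro hcon
      exact (CartDimH8.mem_primeIdealOf_iff hV z hzV t).1 hcon hz

end Sch

end Groth.Agent.Lib.DepthAlongOpen
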