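import Mathlib
import Groth.Prelude
import Groth.Agent.Lib.CohKer_helper8
import Groth.Agent.Lib.QCohExtn_helper9
import Groth.Agent.Lib.QCohExact_helper9

/-!
# Coherent modules form a weak Serre subcategory (helper3)

* `five_term`: in an abelian category, a class of objects closed under isomorphisms, kernels,
  cokernels and extensions contains the middle term of a five-term exact sequence with the four
  outer terms in the class.
* `isCoh_of_shortExact`: extensions of coherent modules are coherent.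
* `isCoh_five_term`: five-term version for coherent modules on a locally Noetherian scheme.
-/

set_option autoImplicit false
set_option linter.all false
set_option maxHeartbeats 1600000

universe u v

open CategoryTheory CategoryTheory.Limits AlgebraicGeometry Opposite TopologicalSpace

namespace Groth.Agent.Lib.CohSerreH3

section Abstract

variable {𝒜 : Type u} [Category.{v} 𝒜] [Abelian 𝒜]

theorem five_term (P : 𝒜 → Prop) (hiso : ∀ {M N : 𝒜}, (M ≅ N) → P M → P N)
    (hker : ∀ {M N : 𝒜} (φ : M ⟶ N), P M → P N → P (kernel φ))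
    (hcoker : ∀ {M N : 𝒜} (φ : M ⟶ N), P M → P N → P (cokernel φ))
    (hext : ∀ S : ShortComplex 𝒜, S.ShortExact → P S.X₁ → P S.X₃ → P S.X₂)
    {Z A B C D : 𝒜} (e : Z ⟶ A) (f : A ⟶ B) (g : B ⟶ C) (h : C ⟶ D)
    (wef : e ≫ f = 0) (wfg : f ≫ g = 0) (wgh : g ≫ h = 0)
    (hA : (ShortComplex.mk e f wef).Exact) (hB : (ShortComplex.mk f g wfg).Exact)
    (hC : (ShortComplex.mk g h wgh).Exact)
    (pZ : P Z) (pA : P A) (pC : P C) (pD : P D) : P B := by
  let I := kernel h
  let g' : B ⟶ I := kernel.lift h g wgh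
  haveI : Epi g' := (ShortComplex.exact_iff_epi_kernel_lift _).1 hC
  have hg' : g' ≫ kernel.ι h = g := kernel.lift_ι _ _ _
  have wfg' : f ≫ g' = 0 := by
    rw [← cancel_mono (kernel.ι h), Category.assoc, hg', wfg, zero_comp]
  have hB' : (ShortComplex.mk f g' wfg').Exact := by
    let φ : ShortComplex.mk f g' wfg' ⟶ ShortComplex.mk f g wfg :=
      { τ₁ := 𝟙 _, τ₂ := 𝟙 _, τ₃ := kernel.ι h
        comm₁₂ := by simp
        comm₂₃ := by simp [hg'] }
    haveI : Epi φ.τ₁ := (inferInstance : Epi (𝟙 A))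
    haveI : IsIso φ.τ₂ := (inferInstance : IsIso (𝟙 B))
    haveI : Mono φ.τ₃ := (inferInstance : Mono (kernel.ι h))
    exact (ShortComplex.exact_iff_of_epi_of_isIso_of_mono φ).2 hB
  let K := kernel g'
  let f' : A ⟶ K := kernel.lift g' f wfg'
  haveI : Epi f' := (ShortComplex.exact_iff_epi_kernel_lift _).1 hB'
  have hf' : f' ≫ kernel.ι g' = f := kernel.lift_ι _ _ _
  have wef' : e ≫ f' = 0 := by
    rw [← cancel_mono (kernel.ι g'), Category.assoc, hf', wef, zero_comp]
  have hA' : (ShortComplex.mk e f' wef').Exact := by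
    let φ : ShortComplex.mk e f' wef' ⟶ ShortComplex.mk e f wef :=
      { τ₁ := 𝟙 _, τ₂ := 𝟙 _, τ₃ := kernel.ι g'
        comm₁₂ := by simp
        comm₂₃ := by simp [hf'] }
    haveI : Epi φ.τ₁ := (inferInstance : Epi (𝟙 Z))
    haveI : IsIso φ.τ₂ := (inferInstance : IsIso (𝟙 A))
    haveI : Mono φ.τ₃ := (inferInstance : Mono (kernel.ι g'))
    exact (ShortComplex.exact_iff_of_epi_of_isIso_of_mono φ).2 hA
  let d : cokernel e ⟶ K := cokernel.desc e f' wef'
  haveI : Mono d := (ShortComplex.exact_iff_mono_cokernel_desc _).1 hA'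
  haveI : Epi d := by
    have hd : cokernel.π e ≫ d = f' := cokernel.π_desc _ _ _
    haveI : Epi (cokernel.π e ≫ d) := by rw [hd]; infer_instance
    exact epi_of_epi (cokernel.π e) d
  haveI : IsIso d := isIso_of_mono_of_epi d
  have pK : P K := hiso (asIso d) (hcoker e pZ pA)
  have pI : P I := hker h pC pD
  let S : ShortComplex 𝒜 := ShortComplex.mk (kernel.ι g') g' (kernel.condition g')
  have hS : S.ShortExact := by
    have h1 : Mono S.f := (inferInstance : Mono (kernel.ι g'))
    have h2 : Epi S.g := (inferInstance : Epi g')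
    exact ShortComplex.ShortExact.mk' (ShortComplex.exact_of_f_is_kernel _ (kernelIsKernel g'))
      h1 h2
  exact hext S hS pK pI

end Abstract

section Coh

open QcqsLoc QCohExtn

variable {X : Scheme.{u}}

theorem isCoh_of_iso {M N : X.Modules} (e : M ≅ N) (h : Coh.IsCoh M) : Coh.IsCoh N := by
  obtain ⟨hq, hf⟩ := h
  haveI : M.IsQuasicoherent := hq
  haveI : SheafOfModules.IsFiniteType (R := X.ringCatSheaf) M := hf
  haveI hqN : N.IsQuasicoherent := (SheafOfModules.isQuasicoherent X.ringCatSheaf).prop_of_iso e hq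
  refine ⟨hqN, ?_⟩
  refine QCohCrit.isFiniteType_of_sections_cover N
    (fun V : X.affineOpens => (V : X.Opens)) (fun V => V.2) CohKerH8.iSup_affineOpens (fun V => ?_)
  haveI := QCohFT.finite_of_isFiniteType M V.2
  let ψ : Γ(M, V.1) →ₗ[Γ(X, V.1)] Γ(N, V.1) :=
    { toFun := ap e.hom V.1
      map_add' := map_add _
      map_smul' := fun r m => ap_smul e.hom r m }
  have hs : Function.Surjective ψ := by
    intro y
    refine ⟨ap e.inv V.1 y, ?_⟩
    have := congrArg (fun χ => (χ.app V.1).hom y) e.inv_hom_id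
    exact this
  exact Module.Finite.of_surjective ψ hs

theorem isCoh_of_shortExact (E : ShortComplex X.Modules) (hE : E.ShortExact)
    (h1 : Coh.IsCoh E.X₁) (h3 : Coh.IsCoh E.X₃) : Coh.IsCoh E.X₂ := by
  obtain ⟨h1q, h1f⟩ := h1
  obtain ⟨h3q, h3f⟩ := h3
  haveI : E.X₁.IsQuasicoherent := h1q
  haveI : E.X₃.IsQuasicoherent := h3q
  haveI : SheafOfModules.IsFiniteType (R := X.ringCatSheaf) E.X₁ := h1f
  haveI : SheafOfModules.IsFiniteType (R := X.ringCatSheaf) E.X₃ := h3f
  haveI hq : E.X₂.IsQuasicoherent := QCohExtn.isQuasicoherent_of_shortExact E hE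
  refine ⟨hq, ?_⟩
  refine QCohCrit.isFiniteType_of_sections_cover E.X₂
    (fun V : X.affineOpens => (V : X.Opens)) (fun V => V.2) CohKerH8.iSup_affineOpens (fun V => ?_)
  haveI := QCohFT.finite_of_isFiniteType E.X₁ V.2
  haveI := QCohFT.finite_of_isFiniteType E.X₃ V.2
  haveI := hE.mono_f
  let ψf : Γ(E.X₁, V.1) →ₗ[Γ(X, V.1)] Γ(E.X₂, V.1) :=
    { toFun := ap E.f V.1
      map_add' := map_add _
      map_smul' := fun r m => ap_smul E.f r m }
  let ψg : Γ(E.X₂, V.1) →ₗ[Γ(X, V.1)] Γ(E.X₃, V.1) :=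
    { toFun := ap E.g V.1
      map_add' := map_add _
      map_smul' := fun r m => ap_smul E.g r m }
  have hs : Function.Surjective ψg := QCohExtn.app_surjective_of_qcoh_kernel E hE V.2
  have hker : LinearMap.ker ψg = LinearMap.range ψf := by
    apply le_antisymm
    · intro x hx
      obtain ⟨y, hy⟩ := QCohExact.app_exact E hE.exact V.1 x hx
      exact ⟨y, hy⟩
    · rintro _ ⟨y, rfl⟩
      have := congrArg (fun χ => (χ.app V.1).hom y) E.zero
      exact this
  rw [Module.finite_def]
  apply Submodule.fg_of_fg_map_of_fg_inf_ker ψg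
  · rw [Submodule.map_top, LinearMap.range_eq_top.2 hs]
    exact Module.Finite.fg_top
  · rw [top_inf_eq, hker, LinearMap.range_eq_map]
    exact (Module.Finite.fg_top).map ψf

theorem isCoh_five_term [IsLocallyNoetherian X] {Z A B C D : X.Modules}
    (e : Z ⟶ A) (f : A ⟶ B) (g : B ⟶ C) (h : C ⟶ D)
    (wef : e ≫ f = 0) (wfg : f ≫ g = 0) (wgh : g ≫ h = 0)
    (hA : (ShortComplex.mk e f wef).Exact) (hB : (ShortComplex.mk f g wfg).Exact)
    (hC : (ShortComplex.mk g h wgh).Exact)
    (pZ : Coh.IsCoh Z) (pA : Coh.IsCoh A) (pC : Coh.IsCoh C) (pD : Coh.IsCoh D) :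
    Coh.IsCoh B :=
  five_term (fun M : X.Modules => Coh.IsCoh M) (fun e h => isCoh_of_iso e h)
    (fun φ hM hN => CohKerH8.isCoh_kernel hM hN φ)
    (fun φ hM hN => CohKerH8.isCoh_cokernel hM hN φ)
    (fun S hS h1 h3 => isCoh_of_shortExact S hS h1 h3)
    e f g h wef wfg wgh hA hB hC pZ pA pC pD

end Coh

end Groth.Agent.Lib.CohSerreH3
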