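import Mathlib
import Groth.Prelude
import Groth.Agent.Lib.HomLin3_helper8
import Groth.Agent.Lib.StalkTens3_helper3
import Groth.Agent.Lib.Bilin_helper8
import Groth.Agent.Lib.PForm2_helper9

/-!
# The tensor–Hom adjunction for the constructed sheaf Hom (helper2)

`M ⊗ - ⊣ 𝓗om(M, -)` where `𝓗om(M, N) = RefHull.homSh M N` is the Prelude's constructed sheaf Hom
(`RefFun.homFunctor M`).  Consequently the abstract internal Homs `DCoh.sheafHom M` and
`ModSite.sheafHom M` are isomorphic to `RefFun.homFunctor M`.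
APPEND-ONLY once landed.
-/

set_option autoImplicit false
set_option maxHeartbeats 800000
universe u
open CategoryTheory CategoryTheory.Limits AlgebraicGeometry TopologicalSpace Opposite TensorProduct

namespace Groth.Agent.Lib.HomShAdjH2

open QcqsLoc SecOrdH8 FLFH8 QCohExtn RefHullH8 HomLinH8 Groth.Agent.Lib.StalkTensH3

noncomputable section

variable {X : Scheme.{u}} {M P N : X.Modules}

/-- the stalk form of currying: `b ↦ (a ↦ ψ_x(a ⊗ b))` -/
def curryAtL (ψ : CohB1.tensorMod M P ⟶ N) (x : X) :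
    ↑((stk x).obj P) →ₗ[X.presheaf.stalk x] RefHull.StalkHom M N x :=
  (TensorProduct.mk (X.presheaf.stalk x) ↑((stk x).obj M) ↑((stk x).obj P)).flip.compr₂
    (((stk x).map ψ).hom ∘ₗ (theta x M P).hom)

lemma curryAtL_gmM (ψ : CohB1.tensorMod M P ⟶ N) (x : X) (U : X.Opens) (hx : x ∈ U)
    (m : Γ(M, U)) (p : Γ(P, U)) :
    curryAtL ψ x (gmM x P U hx p) (gmM x M U hx m) =
      gmM x N U hx (ψ.app U (tm M P U m p)) := by
  show ((stk x).map ψ).hom ((theta x M P).hom (gmM x M U hx m ⊗ₜ gmM x P U hx p)) = _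
  rw [theta_tmul, pair_self]
  exact stalkFunctor_map_gmM x ψ U hx (tm M P U m p)

/-- currying on sections -/
def curryFun (ψ : CohB1.tensorMod M P ⟶ N) (U : X.Opens) :
    Γ(P, U) →+ Γ(RefHull.homSh M N, U) where
  toFun p := ⟨fun x => curryAtL ψ x.1 (gmM x.1 P U x.2 p), fun V i m x => by
    refine ⟨V, x.2, 𝟙 V, ψ.app V (tm M P V m (rF P i.le p)), fun y => ?_⟩
    have h1 : gmM y.1 P U (i.le y.2) p = gmM y.1 P V y.2 (rF P i.le p) :=
      (gmM_res y.1 P i.le y.2 p).symm
    show curryAtL ψ y.1 (gmM y.1 P U (i.le y.2) p) (gmM y.1 M V y.2 m) = gmM y.1 N V y.2 _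
    rw [h1, curryAtL_gmM]⟩
  map_zero' := Subtype.ext <| funext fun x => by
    show curryAtL ψ x.1 (gmM x.1 P U x.2 0) = 0
    rw [gmM_zero, map_zero]
  map_add' p p' := Subtype.ext <| funext fun x => by
    show curryAtL ψ x.1 (gmM x.1 P U x.2 (p + p')) =
      curryAtL ψ x.1 (gmM x.1 P U x.2 p) + curryAtL ψ x.1 (gmM x.1 P U x.2 p')
    rw [gmM_add, map_add]

/-- **currying**: `(M ⊗ P ⟶ N) → (P ⟶ 𝓗om(M, N))` -/
def curry (ψ : CohB1.tensorMod M P ⟶ N) : P ⟶ RefHull.homSh M N :=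
  ⟨PresheafOfModules.homMk
    { app := fun U => AddCommGrpCat.ofHom (curryFun ψ U.unop)
      naturality := fun {U V} i => by
        ext p
        refine Subtype.ext (funext fun x => ?_)
        change curryAtL ψ x.1 _ = curryAtL ψ x.1 _
        exact congrArg _ (TopCat.Presheaf.germ_res_apply' P.presheaf i x.1 x.2 p) }
    (fun U r p => Subtype.ext <| funext fun x =>
      (congrArg (curryAtL ψ x.1) (Mero.germ_smul P U.unop x.1 x.2 r p)).trans
        (map_smul (curryAtL ψ x.1) _ _))⟩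

lemma curry_app_apply (ψ : CohB1.tensorMod M P ⟶ N) (U : X.Opens) (p : Γ(P, U)) (x : U) :
    ((curry ψ).app U p).1 x = curryAtL ψ x.1 (gmM x.1 P U x.2 p) := rfl

/-- the bilinear pairing `(m, p) ↦ φ(p)(m)` -/
def uncurryBil (φ : P ⟶ RefHull.homSh M N) : BilinData M P N where
  β U m p := evSec (φ.app U p) m
  add_left U m m' p := evSec_add_right _ m m'
  smul_left U r m p := evSec_smul_right _ r m
  add_right U m p p' := by
    rw [map_add]
    exact evSec_add_left _ _ m
  smul_right U r m p := by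
    rw [Scheme.Modules.Hom.app_smul]
    exact evSec_smul_left r _ m
  natural {U V} h m p := by
    rw [rF_evSec]
    congr 1
    exact (ap_rF φ h p).symm

/-- **uncurrying**: `(P ⟶ 𝓗om(M, N)) → (M ⊗ P ⟶ N)` -/
def uncurry (φ : P ⟶ RefHull.homSh M N) : CohB1.tensorMod M P ⟶ N := (uncurryBil φ).toHom

lemma uncurry_tm (φ : P ⟶ RefHull.homSh M N) (U : X.Opens) (m : Γ(M, U)) (p : Γ(P, U)) :
    (uncurry φ).app U (tm M P U m p) = evSec (φ.app U p) m :=
  BilinData.toHom_tmul (uncurryBil φ) U m p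

lemma uncurry_curry (ψ : CohB1.tensorMod M P ⟶ N) : uncurry (curry ψ) = ψ := by
  apply PFormH9.hom_ext_tmul
  intro U m p
  refine (BilinData.toHom_tmul (uncurryBil (curry ψ)) U m p).trans ?_
  show evSec ((curry ψ).app U p) m = ψ.app U (tm M P U m p)
  apply evSec_unique
  intro y hy
  exact (curryAtL_gmM ψ y U hy m p).symm

lemma curry_uncurry (φ : P ⟶ RefHull.homSh M N) : curry (uncurry φ) = φ := by
  apply Scheme.Modules.hom_ext
  intro U
  ext p
  apply homSh_ext
  intro y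
  apply LinearMap.ext
  intro a
  obtain ⟨V, hyV, m, rfl⟩ := exists_gmM y.1 M a
  have hyW : y.1 ∈ U ⊓ V := ⟨y.2, hyV⟩
  have hm : gmM y.1 M V hyV m = gmM y.1 M (U ⊓ V) hyW (rF M inf_le_right m) :=
    (gmM_res y.1 M inf_le_right hyW m).symm
  have hp : gmM y.1 P U y.2 p = gmM y.1 P (U ⊓ V) hyW (rF P inf_le_left p) :=
    (gmM_res y.1 P inf_le_left hyW p).symm
  show curryAtL (uncurry φ) y.1 (gmM y.1 P U y.2 p) (gmM y.1 M V hyV m) =
    (φ.app U p).1 y (gmM y.1 M V hyV m)
  rw [hm, hp, curryAtL_gmM, uncurry_tm]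
  refine (germ_evSec _ _ y.1 hyW).trans ?_
  have h3 : φ.app (U ⊓ V) (rF P inf_le_left p) =
      rF (RefHull.homSh M N) inf_le_left (φ.app U p) := ap_rF φ inf_le_left p
  rw [h3]
  rfl

/-- the hom-set bijection -/
def curryEquiv (M P N : X.Modules) :
    (((DCoh.tensorBi (X := X)).obj M).obj P ⟶ N) ≃ (P ⟶ (RefFun.homFunctor M).obj N) where
  toFun ψ := curry (M := M) (P := P) (N := N) ψ
  invFun φ := uncurry (M := M) (P := P) (N := N) φ
  left_inv ψ := uncurry_curry (M := M) (P := P) (N := N) ψ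
  right_inv φ := curry_uncurry (M := M) (P := P) (N := N) φ

lemma uncurry_natural_left {P' : X.Modules} (f : P' ⟶ P) (g : P ⟶ RefHull.homSh M N) :
    uncurry (f ≫ g) = ((DCoh.tensorBi (X := X)).obj M).map f ≫ uncurry g := by
  apply PFormH9.hom_ext_tmul
  intro U m p
  show (uncurry (f ≫ g)).app U (tm M P' U m p) =
    (uncurry g).app U ((((DCoh.tensorBi (X := X)).obj M).map f).app U (tm M P' U m p))
  rw [tensorBi_obj_map_tm, uncurry_tm, uncurry_tm]
  rfl

lemma curry_natural_right {N' : X.Modules} (f : CohB1.tensorMod M P ⟶ N) (g : N ⟶ N') :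
    curry (f ≫ g) = curry f ≫ RefFun.homMap M g := by
  apply Scheme.Modules.hom_ext
  intro U
  ext p
  apply homSh_ext
  intro y
  apply LinearMap.ext
  intro a
  obtain ⟨V, hyV, m, rfl⟩ := exists_gmM y.1 M a
  have hyW : y.1 ∈ U ⊓ V := ⟨y.2, hyV⟩
  have hm : gmM y.1 M V hyV m = gmM y.1 M (U ⊓ V) hyW (rF M inf_le_right m) :=
    (gmM_res y.1 M inf_le_right hyW m).symm
  have hp : gmM y.1 P U y.2 p = gmM y.1 P (U ⊓ V) hyW (rF P inf_le_left p) :=
    (gmM_res y.1 P inf_le_left hyW p).symm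
  show curryAtL (f ≫ g) y.1 (gmM y.1 P U y.2 p) (gmM y.1 M V hyV m) =
    (RefHull.stalkMapₗ g y.1) (curryAtL f y.1 (gmM y.1 P U y.2 p) (gmM y.1 M V hyV m))
  rw [hm, hp, curryAtL_gmM, curryAtL_gmM]
  exact (RefHull.stalkMapₗ_germ g y.1 hyW _).symm

/-- **the tensor–Hom adjunction** for the constructed sheaf Hom -/
def tensorHomAdj (M : X.Modules) : (DCoh.tensorBi (X := X)).obj M ⊣ RefFun.homFunctor M :=
  Adjunction.mkOfHomEquiv
    { homEquiv := fun P N => curryEquiv M P N
      homEquiv_naturality_left_symm := fun {P' P N} f g =>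
        uncurry_natural_left (M := M) (P := P) (N := N) f g
      homEquiv_naturality_right := fun {P N N'} f g =>
        curry_natural_right (M := M) (P := P) (N := N) f g }

/-- the abstract internal Hom of the Prelude is the constructed sheaf Hom -/
def dcohSheafHomIso (M : X.Modules) [DCoh.HasSheafHom M] :
    DCoh.sheafHom M ≅ RefFun.homFunctor M :=
  Adjunction.rightAdjointUniq (DCoh.sheafHomAdj M) (tensorHomAdj M)

end

end Groth.Agent.Lib.HomShAdjH2
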