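import Mathlib
import Groth.Prelude
import Groth.Agent.Lib.HomShAdj1_helper2
import Groth.Agent.Lib.CycLen2_helper8

/-!
# The canonical map `P ⊗ E^∨ ⟶ 𝓗om(E, P)` (helper2)

`cMap E P : P ⊗ 𝓗om(E, O) ⟶ 𝓗om(E, P)`, `p ⊗ d ↦ (e ↦ d(e) • p)`, for the constructed sheaf Hom,
natural in `P`.
APPEND-ONLY once landed.
-/

set_option autoImplicit false
set_option maxHeartbeats 800000
universe u
open CategoryTheory CategoryTheory.Limits AlgebraicGeometry TopologicalSpace Opposite TensorProduct

namespace Groth.Agent.Lib.HomShAdjH2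

open QcqsLoc SecOrdH8 FLFH8 QCohExtn RefHullH8 HomLinH8 Groth.Agent.Lib.StalkTensH3

noncomputable section

variable {X : Scheme.{u}}

/-- the stalk of the structure module, to the local ring -/
def toO (x : X) :
    (Coh.structureModule X).presheaf.stalk x →ₗ[X.presheaf.stalk x] X.presheaf.stalk x :=
  (CycLenH8.stalkStructureEquiv x).symm.toLinearMap

lemma toO_germ (x : X) (U : X.Opens) (hx : x ∈ U) (a : Γ(X, U)) :
    toO x ((Coh.structureModule X).presheaf.germ U x hx (SerreCrit.ofFn a)) =
      X.presheaf.germ U x hx a := by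
  show (CycLenH8.stalkStructureEquiv x).symm _ = _
  rw [LinearEquiv.symm_apply_eq]
  show _ = (LinearMap.toSpanSingleton _ _ (CycLenH8.oneGerm x)) _
  rw [LinearMap.toSpanSingleton_apply, CycLenH8.germ_smul_oneGerm]

lemma toO_bijective (x : X) : Function.Bijective (toO x) :=
  (CycLenH8.stalkStructureEquiv x).symm.bijective

variable (E P : X.Modules)

/-- `(λ, b) ↦ (e ↦ λ(e) • b)` on stalks -/
def scalHom (x : X) (l : RefHull.StalkHom E (Coh.structureModule X) x) (b : P.presheaf.stalk x) :
    RefHull.StalkHom E P x :=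
  ((toO x).comp l).smulRight b

lemma scalHom_apply (x : X) (l : RefHull.StalkHom E (Coh.structureModule X) x)
    (b : P.presheaf.stalk x) (e : E.presheaf.stalk x) :
    scalHom E P x l b e = toO x (l e) • b := rfl

lemma scalHom_add_left (x : X) (l l' : RefHull.StalkHom E (Coh.structureModule X) x)
    (b : P.presheaf.stalk x) : scalHom E P x (l + l') b = scalHom E P x l b + scalHom E P x l' b := by
  apply LinearMap.ext
  intro e
  rw [LinearMap.add_apply, scalHom_apply, scalHom_apply, scalHom_apply, LinearMap.add_apply,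
    map_add, add_smul]

lemma scalHom_add_right (x : X) (l : RefHull.StalkHom E (Coh.structureModule X) x)
    (b b' : P.presheaf.stalk x) : scalHom E P x l (b + b') = scalHom E P x l b + scalHom E P x l b' := by
  apply LinearMap.ext
  intro e
  rw [LinearMap.add_apply, scalHom_apply, scalHom_apply, scalHom_apply, smul_add]

lemma scalHom_smul_left (x : X) (r : X.presheaf.stalk x)
    (l : RefHull.StalkHom E (Coh.structureModule X) x) (b : P.presheaf.stalk x) :
    scalHom E P x (r • l) b = r • scalHom E P x l b := by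
  apply LinearMap.ext
  intro e
  rw [LinearMap.smul_apply, scalHom_apply, scalHom_apply, LinearMap.smul_apply, map_smul,
    smul_eq_mul, mul_smul]

lemma scalHom_smul_right (x : X) (r : X.presheaf.stalk x)
    (l : RefHull.StalkHom E (Coh.structureModule X) x) (b : P.presheaf.stalk x) :
    scalHom E P x l (r • b) = r • scalHom E P x l b := by
  apply LinearMap.ext
  intro e
  rw [LinearMap.smul_apply, scalHom_apply, scalHom_apply, smul_comm]

/-- the section `e ↦ d(e) • p` of the sheaf Hom -/
def scal (U : X.Opens) (p : Γ(P, U)) (d : Γ(RefHull.dual E, U)) : Γ(RefHull.homSh E P, U) :=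
  ⟨fun x => scalHom E P x.1 (d.1 x) (P.presheaf.germ U x.1 x.2 p), fun V i m x => by
    obtain ⟨W, hW, j, n, w⟩ := RefHull.isLocSect_of_mem d V i m x
    refine ⟨W, hW, j, SerreCrit.toFn n • rF P (j.le.trans i.le) p, fun y => ?_⟩
    have e := w y
    dsimp only at e
    rw [scalHom_apply, e]
    have h1 : toO y.1 ((Coh.structureModule X).presheaf.germ W y.1 y.2 n) =
        X.presheaf.germ W y.1 y.2 (SerreCrit.toFn n) := toO_germ y.1 W y.2 (SerreCrit.toFn n)
    rw [h1, Mero.germ_smul, germ_rF]⟩

lemma scal_apply (U : X.Opens) (p : Γ(P, U)) (d : Γ(RefHull.dual E, U)) (x : U) :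
    (scal E P U p d).1 x = scalHom E P x.1 (d.1 x) (P.presheaf.germ U x.1 x.2 p) := rfl

/-- the bilinear pairing defining `cMap` -/
def scalBil : BilinData P (RefHull.dual E) (RefHull.homSh E P) where
  β U p d := scal E P U p d
  add_left U p p' d := by
    apply homSh_ext
    intro y
    rw [homSh_add_apply, scal_apply, scal_apply, scal_apply, map_add, scalHom_add_right]
  smul_left U r p d := by
    apply homSh_ext
    intro y
    rw [homSh_smul_apply, scal_apply, scal_apply, Mero.germ_smul, scalHom_smul_right]
  add_right U p d d' := by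
    apply homSh_ext
    intro y
    rw [homSh_add_apply, scal_apply, scal_apply, scal_apply, homSh_add_apply, scalHom_add_left]
  smul_right U r p d := by
    apply homSh_ext
    intro y
    rw [homSh_smul_apply, scal_apply, scal_apply, homSh_smul_apply, scalHom_smul_left]
  natural {U V} h p d := by
    apply homSh_ext
    intro y
    show (scal E P U p d).1 ⟨y.1, h y.2⟩ = (scal E P V (rF P h p) (rF (RefHull.dual E) h d)).1 y
    rw [scal_apply, scal_apply, germ_rF]
    rfl

/-- **the canonical map** `P ⊗ E^∨ ⟶ 𝓗om(E, P)` -/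
def cMap : CohB1.tensorMod P (RefHull.dual E) ⟶ RefHull.homSh E P := (scalBil E P).toHom

lemma cMap_tm (U : X.Opens) (p : Γ(P, U)) (d : Γ(RefHull.dual E, U)) :
    (cMap E P).app U (tm P (RefHull.dual E) U p d) = scal E P U p d :=
  BilinData.toHom_tmul (scalBil E P) U p d

variable {P}

lemma cMap_natural {P' : X.Modules} (f : P ⟶ P') :
    ((DCoh.tensorBi (X := X)).map f).app (RefHull.dual E) ≫ cMap E P' =
      cMap E P ≫ RefFun.homMap E f := by
  apply PFormH9.hom_ext_tmul
  intro U p d
  show (cMap E P').app U ((((DCoh.tensorBi (X := X)).map f).app (RefHull.dual E)).app U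
      (tm P (RefHull.dual E) U p d)) =
    (RefFun.homMap E f).app U ((cMap E P).app U (tm P (RefHull.dual E) U p d))
  rw [tensorBi_map_app_tm, cMap_tm, cMap_tm]
  apply homSh_ext
  intro y
  rw [RefFun.homMap_app_apply, scal_apply, scal_apply]
  apply LinearMap.ext
  intro e
  rw [LinearMap.comp_apply, scalHom_apply, scalHom_apply, map_smul, RefHull.stalkMapₗ_germ]

end

end Groth.Agent.Lib.HomShAdjH2
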