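import Mathlib
import Groth.Prelude
import Groth.Agent.Lib.HomShDual1_helper2
import Groth.Agent.Lib.SuppStalk2_helper8
import Groth.Agent.Lib.Desc1_helper8

/-!
# `P ⊗ E^∨ ⟶ 𝓗om(E, P)` is an isomorphism for `E` finite locally free (helper2)
APPEND-ONLY once landed.
-/

set_option autoImplicit false
set_option maxHeartbeats 800000
universe u
open CategoryTheory CategoryTheory.Limits AlgebraicGeometry TopologicalSpace Opposite TensorProduct

namespace Groth.Agent.Lib.HomShAdjH2

open QcqsLoc SecOrdH8 FLFH8 QCohExtn RefHullH8 HomLinH8 Groth.Agent.Lib.StalkTensH3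

noncomputable section

section Alg

variable {R : Type u} [CommRing R] {M N O' : Type u} [AddCommGroup M] [Module R M]
  [AddCommGroup N] [Module R N] [AddCommGroup O'] [Module R O'] (t : O' →ₗ[R] R)

/-- `n ⊗ λ ↦ (m ↦ t(λ m) • n)` -/
def phiAlg : N ⊗[R] (M →ₗ[R] O') →ₗ[R] (M →ₗ[R] N) :=
  TensorProduct.lift (LinearMap.mk₂ R (fun n l => (t.comp l).smulRight n)
    (fun n n' l => by
      apply LinearMap.ext
      intro m
      simp only [LinearMap.smulRight_apply, LinearMap.add_apply, smul_add])
    (fun r n l => by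
      apply LinearMap.ext
      intro m
      rw [LinearMap.smulRight_apply, LinearMap.smul_apply, LinearMap.smulRight_apply]
      exact smul_comm _ _ _)
    (fun n l l' => by
      apply LinearMap.ext
      intro m
      simp only [LinearMap.smulRight_apply, LinearMap.add_apply, LinearMap.comp_apply, map_add,
        add_smul])
    (fun r n l => by
      apply LinearMap.ext
      intro m
      simp only [LinearMap.smulRight_apply, LinearMap.smul_apply, LinearMap.comp_apply, map_smul,
        smul_eq_mul, mul_smul]))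

lemma phiAlg_tmul (n : N) (l : M →ₗ[R] O') (m : M) : phiAlg t (n ⊗ₜ l) m = t (l m) • n := rfl

theorem phiAlg_bijective [Module.Finite R M] [Module.Projective R M] (ht : Function.Bijective t) :
    Function.Bijective (phiAlg (M := M) (N := N) t) := by
  let te : O' ≃ₗ[R] R := LinearEquiv.ofBijective t ht
  let e : N ⊗[R] (M →ₗ[R] O') ≃ₗ[R] (M →ₗ[R] N) :=
    (TensorProduct.congr (LinearEquiv.refl R N) (LinearEquiv.congrRight te)) ≪≫ₗ
      (TensorProduct.comm R N (Module.Dual R M)) ≪≫ₗ dualTensorHomEquiv R M N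
  have h : phiAlg (M := M) (N := N) t = e.toLinearMap := by
    apply TensorProduct.ext'
    intro n l
    apply LinearMap.ext
    intro m
    show t (l m) • n = (dualTensorHom R M N) (((LinearEquiv.congrRight te) l) ⊗ₜ n) m
    rw [dualTensorHom_apply]
    rfl
  rw [h]
  exact e.bijective

end Alg

variable {X : Scheme.{u}} (E P : X.Modules) (x : X)

/-- the composite `P_x ⊗ D_x → (P ⊗ D)_x → 𝓗om(E, P)_x → Hom(E_x, P_x)` -/
def PhiL : ↑((stk x).obj P) ⊗[X.presheaf.stalk x] ↑((stk x).obj (RefHull.dual E)) →ₗ[X.presheaf.stalk x]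
    RefHull.StalkHom E P x :=
  (RefHull.evalStalk E P x) ∘ₗ ((stk x).map (cMap E P)).hom ∘ₗ (theta x P (RefHull.dual E)).hom

lemma PhiL_eq :
    PhiL E P x = (phiAlg (M := E.presheaf.stalk x) (N := P.presheaf.stalk x) (toO x)) ∘ₗ
      (TensorProduct.map LinearMap.id (RefHull.evalStalk E (Coh.structureModule X) x)) := by
  apply TensorProduct.ext'
  intro b δ
  obtain ⟨U, hxU, p, rfl⟩ := exists_gmM x P b
  obtain ⟨V, hxV, d, rfl⟩ := exists_gmM x (RefHull.dual E) δ
  have hxW : x ∈ U ⊓ V := ⟨hxU, hxV⟩
  show RefHull.evalStalk E P x (((stk x).map (cMap E P)).hom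
      ((theta x P (RefHull.dual E)).hom (gmM x P U hxU p ⊗ₜ gmM x (RefHull.dual E) V hxV d))) =
    phiAlg (toO x) (gmM x P U hxU p ⊗ₜ
      RefHull.evalStalk E (Coh.structureModule X) x (gmM x (RefHull.dual E) V hxV d))
  rw [theta_tmul]
  unfold Groth.Agent.Lib.StalkTensH3.pair Groth.Agent.Lib.StalkTensH3.gT
  rw [stalkFunctor_map_gmM, cMap_tm]
  apply LinearMap.ext
  intro e
  show RefHull.evalStalk E P x ((RefHull.homSh E P).presheaf.germ (U ⊓ V) x hxW
      (scal E P (U ⊓ V) (rF P inf_le_left p) (rF (RefHull.dual E) inf_le_right d))) e =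
    toO x (RefHull.evalStalk E (Coh.structureModule X) x
      ((RefHull.dual E).presheaf.germ V x hxV d) e) • P.presheaf.germ U x hxU p
  rw [RefHull.evalStalk_germ, RefHull.evalStalk_germ, scal_apply, scalHom_apply, germ_rF]
  rfl

variable {E} in
theorem PhiL_bijective (hE : FlatMod.IsFinLocFree E) : Function.Bijective (PhiL E P x) := by
  haveI := isQuasicoherent_of_finLocFree E hE
  haveI hfp := isFinitePresentation_of_finLocFree E hE
  haveI : Module.Free (X.presheaf.stalk x) (E.presheaf.stalk x) := free_stalk_of_finLocFree E hE x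
  haveI : Module.Finite (X.presheaf.stalk x) (E.presheaf.stalk x) := SuppStalkH8.finite_stalk E x
  rw [PhiL_eq]
  have h1 := phiAlg_bijective (M := E.presheaf.stalk x) (N := P.presheaf.stalk x) (toO x)
    (toO_bijective x)
  have h2 : Function.Bijective (TensorProduct.map (LinearMap.id (R := X.presheaf.stalk x)
      (M := P.presheaf.stalk x)) (RefHull.evalStalk E (Coh.structureModule X) x)) := by
    let ev : (RefHull.dual E).presheaf.stalk x ≃ₗ[X.presheaf.stalk x]
        RefHull.StalkHom E (Coh.structureModule X) x :=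
      LinearEquiv.ofBijective _ (evalStalk_bijective E (Coh.structureModule X) hfp x)
    exact (TensorProduct.congr (LinearEquiv.refl (X.presheaf.stalk x) (P.presheaf.stalk x))
      ev).bijective
  exact h1.comp h2

variable {E} in
/-- **`P ⊗ E^∨ ⟶ 𝓗om(E, P)` is an isomorphism** for `E` finite locally free -/
theorem isIso_cMap (hE : FlatMod.IsFinLocFree E) : IsIso (cMap E P) := by
  haveI := isQuasicoherent_of_finLocFree E hE
  have hfp := isFinitePresentation_of_finLocFree E hE
  apply DescH8.isIso_of_stk_bijective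
  intro x
  have hΦ := PhiL_bijective P x hE
  have hev := evalStalk_bijective E P hfp x
  have hθ : Function.Bijective (theta x P (RefHull.dual E)).hom := by
    refine Function.bijective_iff_has_inverse.mpr ⟨(rho x P (RefHull.dual E)).hom, fun a => ?_,
      fun b => ?_⟩
    · exact congrArg (fun ψ => ψ.hom a) (rho_theta x P (RefHull.dual E))
    · exact congrArg (fun ψ => ψ.hom b) (theta_rho x P (RefHull.dual E))
  -- `ev ∘ c_x ∘ θ` bijective, `ev` and `θ` bijective
  have hc : Function.Bijective ((stk x).map (cMap E P)).hom := by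
    constructor
    · intro a b hab
      obtain ⟨a', rfl⟩ := hθ.2 a
      obtain ⟨b', rfl⟩ := hθ.2 b
      have : PhiL E P x a' = PhiL E P x b' := congrArg (RefHull.evalStalk E P x) hab
      rw [hΦ.1 this]
    · intro c
      obtain ⟨t, ht⟩ := hΦ.2 (RefHull.evalStalk E P x c)
      exact ⟨(theta x P (RefHull.dual E)).hom t, hev.1 ht⟩
  exact hc

end

end Groth.Agent.Lib.HomShAdjH2
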