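import Mathlib
import Groth.Prelude
import Groth.Agent.Lib.HomShDual2_helper2
import Groth.Agent.Lib.TensInv2_helper9
import Groth.Agent.Lib.FF1_helper2
import Groth.Agent.Lib.FLF8_helper8

/-!
# Duality for finite locally free modules: `𝓗om(E, -) ≅ - ⊗ E^∨` (helper2)

For `E` finite locally free on a scheme `X`, `E^∨ = 𝓗om(E, O)` (the constructed `RefHull.dual E`)
is finite locally free and the abstract internal Hom `ModSite.sheafHom E` is naturally isomorphic
to `- ⊗ E^∨`.
APPEND-ONLY once landed.
-/

set_option autoImplicit false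
set_option maxHeartbeats 800000
universe u
open CategoryTheory CategoryTheory.Limits AlgebraicGeometry TopologicalSpace Opposite TensorProduct

namespace Groth.Agent.Lib.HomShAdjH2

open QcqsLoc SecOrdH8 FLFH8 QCohExtn RefHullH8 HomLinH8 Groth.Agent.Lib.StalkTensH3
  Groth.Agent.TensInv

noncomputable section

variable {X : Scheme.{u}} (E : X.Modules)

/-- `- ⊗ E^∨ ≅ 𝓗om(E, -)` for `E` finite locally free -/
def cNatIso (hE : FlatMod.IsFinLocFree E) : tR (RefHull.dual E) ≅ RefFun.homFunctor E :=
  NatIso.ofComponents (fun P => @asIso _ _ _ _ (cMap E P) (isIso_cMap P hE))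
    (fun {P P'} f => cMap_natural E f)

/-- the abstract internal Hom of the site-level Prelude is the constructed sheaf Hom -/
def modSiteSheafHomIso [ModSite.HasSheafHom (O := X.sheaf) E] :
    ModSite.sheafHom (O := X.sheaf) E ≅ RefFun.homFunctor E :=
  Adjunction.rightAdjointUniq (ModSite.sheafHomAdj (O := X.sheaf) E)
    ((tensorHomAdj E).ofNatIsoLeft (commIso E))

/-- **duality**: `𝓗om(E, -) ≅ - ⊗ E^∨` for `E` finite locally free -/
def kappa (hE : FlatMod.IsFinLocFree E) [ModSite.HasSheafHom (O := X.sheaf) E] :
    ModSite.sheafHom (O := X.sheaf) E ≅ tR (RefHull.dual E) :=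
  modSiteSheafHomIso E ≪≫ (cNatIso E hE).symm

variable {E}

theorem free_stalk_dual (hE : FlatMod.IsFinLocFree E) (x : X) :
    Module.Free (X.presheaf.stalk x) ((RefHull.dual E).presheaf.stalk x) := by
  haveI := isQuasicoherent_of_finLocFree E hE
  haveI hfp := isFinitePresentation_of_finLocFree E hE
  haveI : Module.Free (X.presheaf.stalk x) (E.presheaf.stalk x) := free_stalk_of_finLocFree E hE x
  haveI : Module.Finite (X.presheaf.stalk x) (E.presheaf.stalk x) := SuppStalkH8.finite_stalk E x
  let ev : (RefHull.dual E).presheaf.stalk x ≃ₗ[X.presheaf.stalk x]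
      RefHull.StalkHom E (Coh.structureModule X) x :=
    LinearEquiv.ofBijective _ (evalStalk_bijective E (Coh.structureModule X) hfp x)
  let e2 : RefHull.StalkHom E (Coh.structureModule X) x ≃ₗ[X.presheaf.stalk x]
      Module.Dual (X.presheaf.stalk x) (E.presheaf.stalk x) :=
    LinearEquiv.congrRight (CycLenH8.stalkStructureEquiv x).symm
  exact Module.Free.of_equiv (ev.trans e2).symm

theorem finitePresentation_sections_dual (hE : FlatMod.IsFinLocFree E) {U : X.Opens}
    (hU : IsAffineOpen U) : Module.FinitePresentation Γ(X, U) Γ(RefHull.dual E, U) := by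
  haveI := isQuasicoherent_of_finLocFree E hE
  obtain ⟨h1, h2⟩ := fp_flat_sections_of_finLocFree E hE hU
  haveI := h1
  haveI := h2
  haveI : Module.Projective Γ(X, U) Γ(E, U) := Module.Flat.projective_of_finitePresentation
  let e : Γ(RefHull.dual E, U) ≃ₗ[Γ(X, U)] Module.Dual Γ(X, U) Γ(E, U) :=
    Groth.Agent.Lib.FormalFFH2.evEquiv E (Coh.structureModule X) hU
  haveI : Module.FinitePresentation Γ(X, U) (Module.Dual Γ(X, U) Γ(E, U)) :=
    Module.finitePresentation_of_projective _ _
  exact Module.FinitePresentation.of_equiv e.symm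

/-- the dual of a finite locally free module is finite locally free -/
theorem isFinLocFree_dual (hE : FlatMod.IsFinLocFree E) :
    FlatMod.IsFinLocFree (RefHull.dual E) := by
  haveI := isQuasicoherent_of_finLocFree E hE
  haveI hfp := isFinitePresentation_of_finLocFree E hE
  haveI : (Coh.structureModule X).IsQuasicoherent := SerreCrit.isQuasicoherent_OO
  haveI : (RefHull.dual E).IsQuasicoherent := isQuasicoherent_homSh E (Coh.structureModule X)
  haveI : SheafOfModules.IsFinitePresentation (R := X.ringCatSheaf) (RefHull.dual E) :=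
    QCohFP2.isFinitePresentation_of_sections_cover (RefHull.dual E)
      (fun W : X.affineOpens => W.1) (fun W => W.2) (iSup_affineOpens_eq_top X)
      (fun W => finitePresentation_sections_dual hE W.2)
  intro x
  exact exists_free_nhd (RefHull.dual E) x (free_stalk_dual hE x)

/-- **existence of a dual** for a finite locally free module, in the form needed for liftings -/
theorem exists_dual (hE : FlatMod.IsFinLocFree E) [ModSite.HasSheafHom (O := X.sheaf) E] :
    ∃ D : X.Modules, FlatMod.IsFinLocFree D ∧
      Nonempty (ModSite.sheafHom (O := X.sheaf) E ≅ tR D) :=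
  ⟨RefHull.dual E, isFinLocFree_dual hE, ⟨kappa E hE⟩⟩

end

end Groth.Agent.Lib.HomShAdjH2
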