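import Mathlib
import Groth.Agent.Lib.DerLES_helper9

/-!
# Contravariant long exact sequence of right derived functors and resolutions in the first variable

Part A completes helper9's `DerLES` (exactness at the two remaining spots of the long exact sequence
of right derived functors attached to a sequence of functors which is short exact on injectives).

Part B: for a functor `Φ : 𝒞ᵒᵖ ⥤ 𝒜 ⥤ ℬ` (think `Φ(M) = f_* ℋom(M, -)`) which is left exact in the first
variable and exact in the first variable on injective objects of `𝒜`, the derived functors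
`R^i Φ(F)(G)` are computed by a resolution `L_• → F` with `R^p Φ(L_j)(G) = 0` for `p ≥ 1`.
-/

open CategoryTheory CategoryTheory.Limits Opposite

namespace Groth.Agent.Lib.ContraLESH2

universe v₁ v₂ v₃ u₁ u₂ u₃

section PartA

variable {C : Type u₁} {D : Type u₂} [Category.{v₁} C] [Category.{v₂} D] [Abelian C] [Abelian D]
  [HasInjectiveResolutions C]
  {T A P : C ⥤ D} [T.Additive] [A.Additive] [P.Additive] (α : T ⟶ A) (β : A ⟶ P)
  (hαβ : α ≫ β = 0)

include hαβ in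
theorem cxMap_comp_zero (X : C) : DerLES.cxMap α X ≫ DerLES.cxMap β X = 0 :=
  (DerLES.SC α β hαβ (injectiveResolution X).cocomplex).zero

include hαβ in
theorem homologyMap_comp_zero (X : C) (n : ℕ) :
    HomologicalComplex.homologyMap (DerLES.cxMap α X) n ≫
      HomologicalComplex.homologyMap (DerLES.cxMap β X) n = 0 := by
  rw [← HomologicalComplex.homologyMap_comp, cxMap_comp_zero α β hαβ X,
    HomologicalComplex.homologyMap_zero]

include hαβ in
theorem derived_comp_derived (X : C) (n : ℕ) :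
    (NatTrans.rightDerived α n).app X ≫ (NatTrans.rightDerived β n).app X = 0 := by
  rw [DerLES.derived_app_eq α X n, DerLES.derived_app_eq β X n]
  simp only [Category.assoc, Iso.inv_hom_id_assoc]
  rw [reassoc_of% (homologyMap_comp_zero α β hαβ X n), zero_comp, comp_zero]

variable (h : DerLES.SESOnInj α β hαβ)

include h in
theorem exact_derived (X : C) (n : ℕ) :
    (ShortComplex.mk _ _ (derived_comp_derived α β hαβ X n)).Exact := by
  have hex : (ShortComplex.mk (HomologicalComplex.homologyMap (DerLES.cxMap α X) n)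
      (HomologicalComplex.homologyMap (DerLES.cxMap β X) n)
      (homologyMap_comp_zero α β hαβ X n)).Exact :=
    (DerLES.sesRes α β hαβ h X).homology_exact₂ n
  refine (ShortComplex.exact_iff_of_iso ?_).2 hex
  refine ShortComplex.isoMk (DerLES.isoH T X n) (DerLES.isoH A X n) (DerLES.isoH P X n) ?_ ?_
  · dsimp only
    rw [DerLES.derived_app_eq α X n]
    simp only [Category.assoc, Iso.inv_hom_id, Category.comp_id]
  · dsimp only
    rw [DerLES.derived_app_eq β X n]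
    simp only [Category.assoc, Iso.inv_hom_id, Category.comp_id]

theorem δ'_comp (X : C) (n : ℕ) :
    DerLES.δ' α β hαβ h X n ≫ HomologicalComplex.homologyMap (DerLES.cxMap α X) (n + 1) = 0 :=
  (DerLES.sesRes α β hαβ h X).δ_comp n (n + 1) rfl

theorem conn_comp_derived (X : C) (n : ℕ) :
    DerLES.conn α β hαβ h X n ≫ (NatTrans.rightDerived α (n + 1)).app X = 0 := by
  rw [DerLES.derived_app_eq α X (n + 1)]
  dsimp only [DerLES.conn]
  simp only [Category.assoc, Iso.inv_hom_id_assoc]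
  rw [reassoc_of% (δ'_comp α β hαβ h X n), zero_comp, comp_zero]

theorem exact_conn_derived (X : C) (n : ℕ) :
    (ShortComplex.mk _ _ (conn_comp_derived α β hαβ h X n)).Exact := by
  have hex : (ShortComplex.mk (DerLES.δ' α β hαβ h X n)
      (HomologicalComplex.homologyMap (DerLES.cxMap α X) (n + 1))
      (δ'_comp α β hαβ h X n)).Exact :=
    (DerLES.sesRes α β hαβ h X).homology_exact₁ n (n + 1) rfl
  refine (ShortComplex.exact_iff_of_iso ?_).2 hex
  refine ShortComplex.isoMk (DerLES.isoH P X n) (DerLES.isoH T X (n + 1))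
    (DerLES.isoH A X (n + 1)) ?_ ?_
  · dsimp only [DerLES.conn]
    simp only [Category.assoc, Iso.inv_hom_id, Category.comp_id]
  · dsimp only
    rw [DerLES.derived_app_eq α X (n + 1)]
    simp only [Category.assoc, Iso.inv_hom_id, Category.comp_id]

omit hαβ in
theorem mono_derived_zero [PreservesFiniteLimits T] [PreservesFiniteLimits A] (X : C)
    [Mono (α.app X)] : Mono ((NatTrans.rightDerived α 0).app X) := by
  have h1 := DerLES.toRightDerivedZero_naturality α X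
  have h2 : (NatTrans.rightDerived α 0).app X =
      inv (T.toRightDerivedZero.app X) ≫ α.app X ≫ A.toRightDerivedZero.app X := by
    rw [← h1, IsIso.inv_hom_id_assoc]
  rw [h2]
  infer_instance

end PartA

section PartB

variable {𝒞 : Type u₁} {𝒜 : Type u₂} {ℬ : Type u₃} [Category.{v₁} 𝒞] [Category.{v₂} 𝒜]
  [Category.{v₃} ℬ] [Abelian 𝒞] [Abelian 𝒜] [Abelian ℬ]

/-- A functor `Φ : 𝒞ᵒᵖ ⥤ 𝒜 ⥤ ℬ` is *good* if it kills zero maps, is left exact in the first variable,
and exact in the first variable on injective objects of `𝒜`. -/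
structure IsGood (Φ : 𝒞ᵒᵖ ⥤ 𝒜 ⥤ ℬ) : Prop where
  zero : ∀ (M N : 𝒞), Φ.map (0 : M ⟶ N).op = 0
  mono : ∀ (S : ShortComplex 𝒞), S.ShortExact → ∀ G : 𝒜, Mono ((Φ.map S.g.op).app G)
  exact : ∀ (S : ShortComplex 𝒞), S.ShortExact → ∀ (G : 𝒜)
    (w : (Φ.map S.g.op).app G ≫ (Φ.map S.f.op).app G = 0), (ShortComplex.mk _ _ w).Exact
  epi : ∀ (S : ShortComplex 𝒞), S.ShortExact → ∀ I : 𝒜, Injective I →
    Epi ((Φ.map S.f.op).app I)

variable {Φ : 𝒞ᵒᵖ ⥤ 𝒜 ⥤ ℬ} (hΦ : IsGood Φ)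

include hΦ in
theorem IsGood.map_comp_zero {M N K : 𝒞} (u : M ⟶ N) (v : N ⟶ K) (huv : u ≫ v = 0) :
    Φ.map v.op ≫ Φ.map u.op = 0 := by
  rw [← Φ.map_comp, ← op_comp, huv, hΦ.zero]

include hΦ in
theorem IsGood.w (S : ShortComplex 𝒞) : Φ.map S.g.op ≫ Φ.map S.f.op = 0 :=
  hΦ.map_comp_zero S.f S.g S.zero

include hΦ in
theorem IsGood.app_comp_zero {M N K : 𝒞} (u : M ⟶ N) (v : N ⟶ K) (huv : u ≫ v = 0) (G : 𝒜) :
    (Φ.map v.op).app G ≫ (Φ.map u.op).app G = 0 := by
  rw [← NatTrans.comp_app, hΦ.map_comp_zero u v huv]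
  rfl

include hΦ in
theorem IsGood.mono_of_epi {M N : 𝒞} (p : M ⟶ N) [Epi p] (G : 𝒜) :
    Mono ((Φ.map p.op).app G) := by
  have hS : (ShortComplex.mk (kernel.ι p) p (kernel.condition p)).ShortExact :=
    { exact := ShortComplex.exact_of_f_is_kernel _ (kernelIsKernel p)
      mono_f := by dsimp; infer_instance
      epi_g := by dsimp; infer_instance }
  exact hΦ.mono _ hS G

section Derived

variable [HasInjectiveResolutions 𝒜] [∀ M, (Φ.obj M).Additive]

include hΦ in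
theorem IsGood.sesOnInj (S : ShortComplex 𝒞) (hS : S.ShortExact) :
    DerLES.SESOnInj (Φ.map S.g.op) (Φ.map S.f.op) (hΦ.w S) :=
  fun I hI => ⟨hΦ.mono S hS I, hΦ.epi S hS I hI, hΦ.exact S hS I _⟩

include hΦ in
/-- The long exact sequence in the first variable. -/
theorem IsGood.les [∀ M, PreservesFiniteLimits (Φ.obj M)] (S : ShortComplex 𝒞) (hS : S.ShortExact)
    (G : 𝒜) :
    Mono ((NatTrans.rightDerived (Φ.map S.g.op) 0).app G) ∧
    (∀ p : ℕ, ∃ w : (NatTrans.rightDerived (Φ.map S.g.op) p).app G ≫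
        (NatTrans.rightDerived (Φ.map S.f.op) p).app G = 0, (ShortComplex.mk _ _ w).Exact) ∧
    ∃ δ : ∀ p : ℕ, ((Φ.obj (op S.X₁)).rightDerived p).obj G ⟶
        ((Φ.obj (op S.X₃)).rightDerived (p + 1)).obj G,
      ∀ p : ℕ,
        (∃ w : (NatTrans.rightDerived (Φ.map S.f.op) p).app G ≫ δ p = 0,
          (ShortComplex.mk _ _ w).Exact) ∧
        (∃ w : δ p ≫ (NatTrans.rightDerived (Φ.map S.g.op) (p + 1)).app G = 0,
          (ShortComplex.mk _ _ w).Exact) := by
  have hses := hΦ.sesOnInj S hS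
  haveI : Mono ((Φ.map S.g.op).app G) := hΦ.mono S hS G
  refine ⟨mono_derived_zero (Φ.map S.g.op) G, fun p => ⟨_, exact_derived _ _ (hΦ.w S) hses G p⟩,
    fun p => DerLES.conn _ _ (hΦ.w S) hses G p, fun p => ⟨⟨_, DerLES.exact_conn _ _ (hΦ.w S) hses G p⟩,
      ⟨_, exact_conn_derived _ _ (hΦ.w S) hses G p⟩⟩⟩

end Derived

/-- A left resolution `⋯ → X 1 → X 0 → F → 0`. -/
structure Resol (F : 𝒞) where
  X : ℕ → 𝒞
  d : ∀ j : ℕ, X (j + 1) ⟶ X j
  π : X 0 ⟶ F
  epi : Epi π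
  hπ : d 0 ≫ π = 0
  ex0 : (ShortComplex.mk (d 0) π hπ).Exact
  dd : ∀ j : ℕ, d (j + 1) ≫ d j = 0
  ex : ∀ j : ℕ, (ShortComplex.mk (d (j + 1)) (d j) (dd j)).Exact

namespace Resol

variable {F : 𝒞} (R : Resol F)

/-- The map `X 1 ⟶ ker π`. -/
noncomputable def π' : R.X (0 + 1) ⟶ kernel R.π := kernel.lift R.π (R.d 0) R.hπ

@[reassoc]
theorem π'_ι : R.π' ≫ kernel.ι R.π = R.d 0 := kernel.lift_ι _ _ _

instance epi_π' : Epi R.π' := (ShortComplex.exact_iff_epi_kernel_lift _).1 R.ex0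

theorem shift_hπ : R.d (0 + 1) ≫ R.π' = 0 := by
  rw [← cancel_mono (kernel.ι R.π), Category.assoc, π'_ι, zero_comp]
  exact R.dd 0

theorem shift_ex0 : (ShortComplex.mk (R.d (0 + 1)) R.π' R.shift_hπ).Exact := by
  let φ : ShortComplex.mk (R.d (0 + 1)) R.π' R.shift_hπ ⟶
      ShortComplex.mk (R.d (0 + 1)) (R.d 0) (R.dd 0) :=
    { τ₁ := 𝟙 _
      τ₂ := 𝟙 _
      τ₃ := kernel.ι R.π
      comm₁₂ := by simp
      comm₂₃ := by
        dsimp
        rw [Category.id_comp]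
        exact R.π'_ι.symm }
  haveI : Epi φ.τ₁ := by dsimp [φ]; infer_instance
  haveI : IsIso φ.τ₂ := by dsimp [φ]; infer_instance
  haveI : Mono φ.τ₃ := by dsimp [φ]; infer_instance
  exact (ShortComplex.exact_iff_of_epi_of_isIso_of_mono φ).2 (R.ex 0)

/-- The shifted resolution of `ker π`. -/
@[reducible] noncomputable def shift : Resol (kernel R.π) where
  X j := R.X (j + 1)
  d j := R.d (j + 1)
  π := R.π'
  epi := inferInstance
  hπ := R.shift_hπ
  ex0 := R.shift_ex0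
  dd j := R.dd (j + 1)
  ex j := R.ex (j + 1)

/-- The short exact sequence `0 → ker π → X 0 → F → 0`. -/
@[reducible] noncomputable def ses : ShortComplex 𝒞 :=
  ShortComplex.mk (kernel.ι R.π) R.π (kernel.condition R.π)

theorem ses_shortExact : R.ses.ShortExact :=
  { exact := ShortComplex.exact_of_f_is_kernel _ (kernelIsKernel R.π)
    mono_f := by dsimp; infer_instance
    epi_g := by dsimp; exact R.epi }

/-- The resolution attached to a chain complex with augmentation. -/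
noncomputable def ofChainComplex (L : ChainComplex 𝒞 ℕ) (π : L.X 0 ⟶ F) [Epi π]
    (hπ : L.d 1 0 ≫ π = 0) (hex0 : (ShortComplex.mk (L.d 1 0) π hπ).Exact)
    (hex : ∀ j : ℕ, L.ExactAt (j + 1)) : Resol F where
  X j := L.X j
  d j := L.d (j + 1) j
  π := π
  epi := inferInstance
  hπ := hπ
  ex0 := hex0
  dd j := L.d_comp_d _ _ _
  ex j := (L.exactAt_iff' (j + 1 + 1) (j + 1) j (by simp) (by simp)).1 (hex j)

end Resol

variable (Φ) in
/-- The differential `Φ(X j)(G) ⟶ Φ(X (j+1))(G)`. -/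
@[reducible] noncomputable def a {F : 𝒞} (R : Resol F) (G : 𝒜) (j : ℕ) :
    (Φ.obj (op (R.X j))).obj G ⟶ (Φ.obj (op (R.X (j + 1)))).obj G :=
  (Φ.map (R.d j).op).app G

variable (Φ) in
/-- The coaugmentation `Φ(F)(G) ⟶ Φ(X 0)(G)`. -/
@[reducible] noncomputable def ε {F : 𝒞} (R : Resol F) (G : 𝒜) :
    (Φ.obj (op F)).obj G ⟶ (Φ.obj (op (R.X 0))).obj G :=
  (Φ.map R.π.op).app G

include hΦ in
theorem a_comp {F : 𝒞} (R : Resol F) (G : 𝒜) (j : ℕ) : a Φ R G j ≫ a Φ R G (j + 1) = 0 :=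
  hΦ.app_comp_zero _ _ (R.dd j) G

include hΦ in
theorem ε_a {F : 𝒞} (R : Resol F) (G : 𝒜) : ε Φ R G ≫ a Φ R G 0 = 0 :=
  hΦ.app_comp_zero _ _ R.hπ G

/-- `Φ(F)(G)` is the kernel of `Φ(X 0)(G) ⟶ Φ(X 1)(G)`. -/
noncomputable def εIsKernel {F : 𝒞} (R : Resol F) (G : 𝒜) :
    IsLimit (KernelFork.ofι (ε Φ R G) (ε_a hΦ R G)) := by
  have hS := R.ses_shortExact
  haveI : Mono ((Φ.map R.π.op).app G) := hΦ.mono R.ses hS G
  have h1 : IsLimit (KernelFork.ofι ((Φ.map R.π.op).app G)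
      (hΦ.app_comp_zero _ _ (kernel.condition R.π) G)) :=
    (hΦ.exact R.ses hS G (hΦ.app_comp_zero _ _ (kernel.condition R.π) G)).fIsKernel
  haveI : Mono ((Φ.map R.π'.op).app G) := hΦ.mono_of_epi R.π' G
  have h2 : a Φ R G 0 = (Φ.map (kernel.ι R.π).op).app G ≫ (Φ.map R.π'.op).app G := by
    rw [← NatTrans.comp_app, ← Φ.map_comp, ← op_comp, R.π'_ι]
  exact isKernelCompMono h1 _ h2

/-- Homology computed from a kernel and a cokernel. -/
theorem nonempty_homologyIso_of (S : ShortComplex ℬ) {K H : ℬ} (i : K ⟶ S.X₂)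
    (wi : i ≫ S.g = 0) (hi : IsLimit (KernelFork.ofι i wi)) (f' : S.X₁ ⟶ K) (hf' : f' ≫ i = S.f)
    (π : K ⟶ H) (wπ : f' ≫ π = 0) (hπ : IsColimit (CokernelCofork.ofπ π wπ)) :
    Nonempty (S.homology ≅ H) := by
  have key : f' = hi.lift (KernelFork.ofι S.f S.zero) := by
    apply Fork.IsLimit.hom_ext hi
    rw [Fork.IsLimit.lift_ι]
    exact hf'
  subst key
  exact ⟨(ShortComplex.LeftHomologyData.mk K H i π wi hi wπ hπ).homologyIso⟩

section Main

variable [HasInjectiveResolutions 𝒜] [∀ M, (Φ.obj M).Additive]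
  [∀ M, PreservesFiniteLimits (Φ.obj M)]

include hΦ in
theorem nonempty_homology_iso_one {F : 𝒞} (R : Resol F) (G : 𝒜)
    (hvan : IsZero (((Φ.obj (op (R.X 0))).rightDerived 1).obj G)) :
    Nonempty ((ShortComplex.mk (a Φ R G 0) (a Φ R G (0 + 1)) (a_comp hΦ R G 0)).homology ≅
      ((Φ.obj (op F)).rightDerived (0 + 1)).obj G) := by
  have hS := R.ses_shortExact
  have hses := hΦ.sesOnInj R.ses hS
  have hbd_exact := DerLES.exact_bdry _ _ (hΦ.w R.ses) hses G
  haveI : Epi ((DerLES.bdry _ _ (hΦ.w R.ses) hses).app G) :=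
    DerLES.epi_bdry _ _ (hΦ.w R.ses) hses G hvan
  have hcok := hbd_exact.gIsCokernel
  have hker := εIsKernel hΦ R.shift G
  have hf' : (Φ.map (kernel.ι R.π).op).app G ≫ ε Φ R.shift G = a Φ R G 0 := by
    show (Φ.map (kernel.ι R.π).op).app G ≫ (Φ.map R.π'.op).app G = (Φ.map (R.d 0).op).app G
    rw [← NatTrans.comp_app, ← Φ.map_comp, ← op_comp, R.π'_ι]
  exact nonempty_homologyIso_of (ShortComplex.mk (a Φ R G 0) (a Φ R G (0 + 1)) (a_comp hΦ R G 0))
    (ε Φ R.shift G) (ε_a hΦ R.shift G) hker ((Φ.map (kernel.ι R.π).op).app G) hf'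
    ((DerLES.bdry _ _ (hΦ.w R.ses) hses).app G) _ hcok

include hΦ in
theorem nonempty_homology_iso_succ (G : 𝒜) : ∀ (i : ℕ) {F : 𝒞} (R : Resol F)
    (_ : ∀ j p : ℕ, IsZero (((Φ.obj (op (R.X j))).rightDerived (p + 1)).obj G)),
    Nonempty ((ShortComplex.mk (a Φ R G i) (a Φ R G (i + 1)) (a_comp hΦ R G i)).homology ≅
      ((Φ.obj (op F)).rightDerived (i + 1)).obj G)
  | 0, _, R, hvan => nonempty_homology_iso_one hΦ R G (hvan 0 0)
  | (i + 1), _, R, hvan => by
    obtain ⟨e1⟩ := nonempty_homology_iso_succ G i R.shift (fun j p => hvan (j + 1) p)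
    have hS := R.ses_shortExact
    have hses := hΦ.sesOnInj R.ses hS
    haveI := DerLES.isIso_conn _ _ (hΦ.w R.ses) hses G (i + 1) (hvan 0 i) (hvan 0 (i + 1))
    exact ⟨e1 ≪≫ asIso (DerLES.conn _ _ (hΦ.w R.ses) hses G (i + 1))⟩

include hΦ in
/-- The derived functors in the first variable are computed by an acyclic resolution. -/
theorem nonempty_homology_iso_of_complex (G : 𝒜) {F : 𝒞} (R : Resol F)
    (hvan : ∀ j p : ℕ, IsZero (((Φ.obj (op (R.X j))).rightDerived (p + 1)).obj G))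
    (C : CochainComplex ℬ ℕ) (e : ∀ j : ℕ, C.X j ≅ (Φ.obj (op (R.X j))).obj G)
    (hC : ∀ j : ℕ, C.d j (j + 1) ≫ (e (j + 1)).hom = (e j).hom ≫ a Φ R G j) (i : ℕ) :
    Nonempty (C.homology i ≅ ((Φ.obj (op F)).rightDerived i).obj G) := by
  cases i with
  | zero =>
    have e0 : C.homology 0 ≅ (ShortComplex.mk (C.d 0 0) (C.d 0 1) (C.d_comp_d 0 0 1)).homology :=
      C.homologyIsoSc' 0 0 1 (by simp) (by simp)
    let S' : ShortComplex ℬ := ShortComplex.mk
      (0 : (Φ.obj (op (R.X 0))).obj G ⟶ (Φ.obj (op (R.X 0))).obj G) (a Φ R G 0) zero_comp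
    have iso1 : ShortComplex.mk (C.d 0 0) (C.d 0 1) (C.d_comp_d 0 0 1) ≅ S' :=
      ShortComplex.isoMk (e 0) (e 0) (e (0 + 1))
      (by
        show (e 0).hom ≫ 0 = C.d 0 0 ≫ (e 0).hom
        rw [C.shape 0 0 (by simp), zero_comp, comp_zero])
      (by
        show (e 0).hom ≫ a Φ R G 0 = C.d 0 (0 + 1) ≫ (e (0 + 1)).hom
        exact (hC 0).symm)
    let hd : S'.LeftHomologyData :=
      ShortComplex.LeftHomologyData.ofIsLimitKernelFork S' rfl _ (εIsKernel hΦ R G)
    exact ⟨e0 ≪≫ ShortComplex.homologyMapIso iso1 ≪≫ hd.homologyIso ≪≫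
      ((Φ.obj (op F)).rightDerivedZeroIsoSelf.app G).symm⟩
  | succ i =>
    obtain ⟨e1⟩ := nonempty_homology_iso_succ hΦ G i R hvan
    have e0 : C.homology (i + 1) ≅ (ShortComplex.mk (C.d i (i + 1)) (C.d (i + 1) (i + 1 + 1))
        (C.d_comp_d i (i + 1) (i + 1 + 1))).homology :=
      C.homologyIsoSc' i (i + 1) (i + 1 + 1) (by simp) (by simp)
    have iso1 : ShortComplex.mk (C.d i (i + 1)) (C.d (i + 1) (i + 1 + 1))
        (C.d_comp_d i (i + 1) (i + 1 + 1)) ≅
        ShortComplex.mk (a Φ R G i) (a Φ R G (i + 1)) (a_comp hΦ R G i) :=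
      ShortComplex.isoMk (e i) (e (i + 1)) (e (i + 1 + 1)) (hC i).symm (hC (i + 1)).symm
    exact ⟨e0 ≪≫ ShortComplex.homologyMapIso iso1 ≪≫ e1⟩

end Main

end PartB

end Groth.Agent.Lib.ContraLESH2
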