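import Mathlib
import Groth.Prelude.Def_ModSite
import Groth.Agent.Lib.ModSite20_helper8
import Groth.Agent.Lib.ModSite11_helper8
import Groth.Agent.Lib.SheafHomLF1_helper9

/-!
# Duality for finite locally free modules, part 1 (helper4)

Site-level preliminaries:
* `restrTensorNatIso`: restriction to `C/V` commutes with `- ⊗ N`, naturally in the first variable
  (natural version of helper8's `restr_tensor_iso`);
* `assocFlip_unitor`: unit coherence for helper8's associator `assocFlip` and left unitor `unitorObj`;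
* `kappa E : (- ⊗ ℋom(E, O)) ⟶ ℋom(E, -)`, the canonical natural transformation, an isomorphism
  at the unit (`isIso_kappa_unit`).
APPEND-ONLY once landed.
-/

set_option autoImplicit false
set_option linter.style.haveILetI false
universe u
open CategoryTheory Limits Opposite MonoidalCategory

namespace Groth.Agent.Lib.DualLFH4
open ModSite Groth.Agent.Lib.ModSiteH8

variable {C : Type u} [SmallCategory C] {J : GrothendieckTopology C}
variable (O : Sheaf J CommRingCat.{u})

section Restr

variable (V : C)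

/-- the comparison `L_V (Q|_V) ⟶ (L Q)|_V` between sheafification and restriction -/
noncomputable def rho (Q : PM O.obj) :
    (Lf (O.over V)).obj ((r0 O V).obj Q) ⟶ (restr O V).obj ((Lf O).obj Q) :=
  let γ : (r0 O V).obj Q ⟶ (iF (O.over V)).obj ((restr O V).obj ((Lf O).obj Q)) :=
    (r0 O V).map ((adjLf O).unit.app Q)
  ((adjLf (O.over V)).homEquiv _ _).symm γ

instance isIso_rho (Q : PM O.obj) : IsIso (rho O V Q) :=
  isIso_adj_of_ELS_ELI (O.over V) _ (r0_ELS O V _ (etaP_ELS O Q)) (r0_ELI O V _ (etaP_ELI O Q))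

lemma rho_naturality {Q Q' : PM O.obj} (f : Q ⟶ Q') :
    (Lf (O.over V)).map ((r0 O V).map f) ≫ rho O V Q' =
      rho O V Q ≫ (restr O V).map ((Lf O).map f) := by
  unfold rho
  rw [← Adjunction.homEquiv_naturality_left_symm]
  have h := (adjLf (O.over V)).homEquiv_naturality_right_symm
    (show (r0 O V).obj Q ⟶ (iF (O.over V)).obj ((restr O V).obj ((Lf O).obj Q)) from
      (r0 O V).map ((adjLf O).unit.app Q)) ((restr O V).map ((Lf O).map f))
  refine Eq.trans ?_ h
  congr 1
  have h2 := (adjLf O).unit.naturality f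
  show (r0 O V).map f ≫ (r0 O V).map ((adjLf O).unit.app Q') =
    (r0 O V).map ((adjLf O).unit.app Q) ≫ (r0 O V).map ((iF O).map ((Lf O).map f))
  rw [← Functor.map_comp, ← Functor.map_comp]
  exact congrArg (r0 O V).map h2

/-- component of `restrTensorNatIso` -/
noncomputable def restrTensorApp (N G : Mod O) :
    (restr O V).obj (((tensorBi O).obj G).obj N) ≅
      ((tensorBi (O.over V)).obj ((restr O V).obj G)).obj ((restr O V).obj N) :=
  let Q : PM O.obj := (iF O).obj G ⊗ (iF O).obj N
  let e2 : (r0 O V).obj Q ≅ (r0 O V).obj ((iF O).obj G) ⊗ (r0 O V).obj ((iF O).obj N) :=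
    (Functor.Monoidal.μIso (r0 O V) _ _).symm
  (asIso (rho O V Q)).symm ≪≫ (Lf (O.over V)).mapIso e2

lemma restrTensorApp_hom (N G : Mod O) :
    (restrTensorApp O V N G).hom = inv (rho O V ((iF O).obj G ⊗ (iF O).obj N)) ≫
      (Lf (O.over V)).map (Functor.OplaxMonoidal.δ (r0 O V) ((iF O).obj G) ((iF O).obj N)) := rfl

lemma restrTensor_aux {P P' : PM O.obj} (f : P ⟶ P') (N' : PM O.obj) :
    (restr O V).map ((Lf O).map (f ▷ N')) ≫ inv (rho O V (P' ⊗ N')) ≫
        (Lf (O.over V)).map (Functor.OplaxMonoidal.δ (r0 O V) P' N') =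
      (inv (rho O V (P ⊗ N')) ≫ (Lf (O.over V)).map (Functor.OplaxMonoidal.δ (r0 O V) P N')) ≫
        (Lf (O.over V)).map ((r0 O V).map f ▷ (r0 O V).obj N') := by
  have h3 := rho_naturality O V (f ▷ N')
  have h4 := Functor.OplaxMonoidal.δ_natural_left (r0 O V) f N'
  have h5 : (restr O V).map ((Lf O).map (f ▷ N')) ≫ inv (rho O V (P' ⊗ N')) =
      inv (rho O V (P ⊗ N')) ≫ (Lf (O.over V)).map ((r0 O V).map (f ▷ N')) := by
    rw [IsIso.comp_inv_eq, Category.assoc, h3, IsIso.inv_hom_id_assoc]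
  rw [reassoc_of% h5, Category.assoc, ← Functor.map_comp, ← Functor.map_comp, h4]

lemma restrTensorApp_naturality (N : Mod O) {G G' : Mod O} (g : G ⟶ G') :
    (restr O V).map (((tensorBi O).map g).app N) ≫ (restrTensorApp O V N G').hom =
      (restrTensorApp O V N G).hom ≫
        ((tensorBi (O.over V)).map ((restr O V).map g)).app ((restr O V).obj N) :=
  restrTensor_aux O V ((iF O).map g) ((iF O).obj N)

/-- restriction commutes with `- ⊗ N`, naturally in the first variable -/
noncomputable def restrTensorNatIso (N : Mod O) :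
    (tensorBi O).flip.obj N ⋙ restr O V ≅
      restr O V ⋙ (tensorBi (O.over V)).flip.obj ((restr O V).obj N) :=
  NatIso.ofComponents (fun G => restrTensorApp O V N G) (by
    intro G G' g
    exact restrTensorApp_naturality O V N g)

end Restr

section Coherence

lemma unitorObj_hom_app (M : Mod O) :
    (unitorObj O).hom.app M = (Lf O).map (λ_ ((iF O).obj M)).hom ≫ (adjLf O).counit.app M := by
  unfold unitorObj
  simp only [Iso.trans_hom, NatTrans.comp_app, Functor.isoWhiskerLeft_hom, Functor.whiskerLeft_app,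
    Functor.isoWhiskerRight_hom, Functor.whiskerRight_app, asIso_hom]
  erw [Category.id_comp]

attribute [local instance] isIso_Lf_unit_whiskerRight isIso_Lf_whiskerLeft_unit

lemma assocFlip_hom_app (G F X : Mod O) :
    (assocFlip O G F).hom.app X =
      inv ((Lf O).map ((adjLf O).unit.app ((iF O).obj X ⊗ (iF O).obj G) ▷ (iF O).obj F)) ≫
        (Lf O).map (α_ ((iF O).obj X) ((iF O).obj G) ((iF O).obj F)).hom ≫
          (Lf O).map ((iF O).obj X ◁ (adjLf O).unit.app ((iF O).obj G ⊗ (iF O).obj F)) := by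
  unfold assocFlip
  dsimp only [Trans.trans]
  simp only [Iso.trans_hom, NatTrans.comp_app, Functor.isoWhiskerLeft_hom, Functor.whiskerLeft_app,
    Functor.isoWhiskerRight_hom, Functor.whiskerRight_app, Iso.symm_hom]
  have e1 : (flipIso O G).hom.app X = 𝟙 _ := rfl
  have e2 : (flipIso O F).hom.app ((iF O ⋙ tensorRight ((iF O).obj G) ⋙ Lf O).obj X) = 𝟙 _ := rfl
  have e3 : (flipIso O (((tensorBi O).obj G).obj F)).inv.app X = 𝟙 _ := rfl
  have e4 : (thetaIso O F).inv.app ((tensorRight ((iF O).obj G)).obj ((iF O).obj X)) =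
      inv ((Lf O).map ((adjLf O).unit.app ((iF O).obj X ⊗ (iF O).obj G) ▷ (iF O).obj F)) := rfl
  have e5 : (tensorRightTensor ((iF O).obj G) ((iF O).obj F)).inv.app ((iF O).obj X) =
      (α_ ((iF O).obj X) ((iF O).obj G) ((iF O).obj F)).hom := rfl
  have e6 : (tensorRightLfIso O ((iF O).obj G ⊗ (iF O).obj F)).hom.app ((iF O).obj X) =
      (Lf O).map ((iF O).obj X ◁ (adjLf O).unit.app ((iF O).obj G ⊗ (iF O).obj F)) := rfl
  rw [e1, e2, e3, e4, e5, e6]
  erw [CategoryTheory.Functor.map_id, Category.id_comp, Category.comp_id]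

lemma assocFlip_unitor_aux (A E : Mod O) :
    (inv ((Lf O).map ((adjLf O).unit.app (𝟙_ (PM O.obj) ⊗ (iF O).obj A) ▷ (iF O).obj E)) ≫
        (Lf O).map (α_ (𝟙_ (PM O.obj)) ((iF O).obj A) ((iF O).obj E)).hom ≫
          (Lf O).map (𝟙_ (PM O.obj) ◁ (adjLf O).unit.app ((iF O).obj A ⊗ (iF O).obj E))) ≫
      (Lf O).map (λ_ ((iF O).obj ((Lf O).obj ((iF O).obj A ⊗ (iF O).obj E)))).hom ≫
        (adjLf O).counit.app ((Lf O).obj ((iF O).obj A ⊗ (iF O).obj E)) =
    (Lf O).map ((iF O).map ((Lf O).map (λ_ ((iF O).obj A)).hom ≫ (adjLf O).counit.app A) ▷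
      (iF O).obj E) := by
  have s1 : (Lf O).map (𝟙_ (PM O.obj) ◁ (adjLf O).unit.app ((iF O).obj A ⊗ (iF O).obj E)) ≫
      (Lf O).map (λ_ ((iF O).obj ((Lf O).obj ((iF O).obj A ⊗ (iF O).obj E)))).hom =
      (Lf O).map (λ_ ((iF O).obj A ⊗ (iF O).obj E)).hom ≫
        (Lf O).map ((adjLf O).unit.app ((iF O).obj A ⊗ (iF O).obj E)) := by
    rw [← Functor.map_comp, ← Functor.map_comp]
    exact congrArg (Lf O).map
      (leftUnitor_naturality ((adjLf O).unit.app ((iF O).obj A ⊗ (iF O).obj E)))
  have s2 : (Lf O).map ((adjLf O).unit.app ((iF O).obj A ⊗ (iF O).obj E)) ≫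
      (adjLf O).counit.app ((Lf O).obj ((iF O).obj A ⊗ (iF O).obj E)) = 𝟙 _ :=
    (adjLf O).left_triangle_components ((iF O).obj A ⊗ (iF O).obj E)
  have s3 : (Lf O).map (α_ (𝟙_ (PM O.obj)) ((iF O).obj A) ((iF O).obj E)).hom ≫
      (Lf O).map (λ_ ((iF O).obj A ⊗ (iF O).obj E)).hom =
      (Lf O).map ((λ_ ((iF O).obj A)).hom ▷ (iF O).obj E) := by
    rw [← Functor.map_comp]
    congr 1
    rw [leftUnitor_tensor_hom, Iso.hom_inv_id_assoc]
  have s4 : (adjLf O).unit.app (𝟙_ (PM O.obj) ⊗ (iF O).obj A) ≫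
      (iF O).map ((Lf O).map (λ_ ((iF O).obj A)).hom ≫ (adjLf O).counit.app A) =
      (λ_ ((iF O).obj A)).hom := by
    have h1 := (adjLf O).unit.naturality (λ_ ((iF O).obj A)).hom
    have h2 : (adjLf O).unit.app ((iF O).obj A) ≫ (iF O).map ((adjLf O).counit.app A) = 𝟙 _ :=
      (adjLf O).right_triangle_components A
    rw [Functor.map_comp, ← Category.assoc]
    erw [← h1]
    rw [Category.assoc, h2]
    exact Category.comp_id _
  have r : (Lf O).map ((adjLf O).unit.app (𝟙_ (PM O.obj) ⊗ (iF O).obj A) ▷ (iF O).obj E) ≫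
      (Lf O).map ((iF O).map ((Lf O).map (λ_ ((iF O).obj A)).hom ≫ (adjLf O).counit.app A) ▷
        (iF O).obj E) = (Lf O).map ((λ_ ((iF O).obj A)).hom ▷ (iF O).obj E) := by
    rw [← Functor.map_comp, ← comp_whiskerRight, s4]
  rw [Category.assoc, IsIso.inv_comp_eq, r, Category.assoc, reassoc_of% s1, s2]
  erw [Category.comp_id]
  exact s3

/-- unit coherence: `(O ⊗ A) ⊗ E ≅ O ⊗ (A ⊗ E) ≅ A ⊗ E` is `λ_A ⊗ E` -/
lemma assocFlip_unitor (A E : Mod O) :
    (assocFlip O A E).hom.app (ModSite.unit O) ≫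
        (unitorObj O).hom.app (((tensorBi O).obj A).obj E) =
      ((tensorBi O).flip.obj E).map ((unitorObj O).hom.app A) := by
  rw [assocFlip_hom_app, unitorObj_hom_app, unitorObj_hom_app]
  exact assocFlip_unitor_aux O A E

end Coherence

section Kappa

variable (E : Mod O) [HasSheafHom E]

/-- the dual `E^∨ = ℋom(E, O)` -/
noncomputable abbrev dual : Mod O := (sheafHom E).obj (ModSite.unit O)

/-- evaluation `E^∨ ⊗ E ⟶ O` -/
noncomputable def ev : ((tensorBi O).obj (dual O E)).obj E ⟶ ModSite.unit O :=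
  (sheafHomAdj E).counit.app (ModSite.unit O)

/-- `(G ⊗ E^∨) ⊗ E ≅ G ⊗ (E^∨ ⊗ E) ⟶ G ⊗ O ≅ G`, naturally in `G` -/
noncomputable def epsNat :
    (tensorBi O).flip.obj (dual O E) ⋙ (tensorBi O).flip.obj E ⟶ 𝟭 (Mod O) :=
  (assocFlip O (dual O E) E).hom ≫ (tensorBi O).flip.map (ev O E) ≫
    (SheafHomLFH9.rightUnitor O).hom

/-- the canonical map `G ⊗ E^∨ ⟶ ℋom(E, G)`, naturally in `G` -/
noncomputable def kappa : (tensorBi O).flip.obj (dual O E) ⟶ sheafHom E where
  app G := (sheafHomAdj E).unit.app (((tensorBi O).flip.obj (dual O E)).obj G) ≫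
    (sheafHom E).map ((epsNat O E).app G)
  naturality G G' g := by
    have h1 : ((tensorBi O).flip.obj (dual O E)).map g ≫
        (sheafHomAdj E).unit.app (((tensorBi O).flip.obj (dual O E)).obj G') =
        (sheafHomAdj E).unit.app (((tensorBi O).flip.obj (dual O E)).obj G) ≫
          (sheafHom E).map (((tensorBi O).flip.obj E).map
            (((tensorBi O).flip.obj (dual O E)).map g)) :=
      (sheafHomAdj E).unit.naturality (((tensorBi O).flip.obj (dual O E)).map g)
    have h2 : ((tensorBi O).flip.obj E).map (((tensorBi O).flip.obj (dual O E)).map g) ≫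
        (epsNat O E).app G' = (epsNat O E).app G ≫ g := (epsNat O E).naturality g
    rw [← Category.assoc, h1, Category.assoc, Category.assoc, ← Functor.map_comp,
      ← Functor.map_comp, h2]

lemma kappa_app (G : Mod O) : (kappa O E).app G =
    (sheafHomAdj E).unit.app (((tensorBi O).flip.obj (dual O E)).obj G) ≫
      (sheafHom E).map ((epsNat O E).app G) := rfl

lemma epsNat_app_unit :
    (epsNat O E).app (ModSite.unit O) =
      ((tensorBi O).flip.obj E).map ((unitorObj O).hom.app (dual O E)) ≫ ev O E ≫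
        (inv ((unitorObj O).hom.app (ModSite.unit O)) ≫
          (SheafHomLFH9.rightUnitor O).hom.app (ModSite.unit O)) := by
  have h1 : (epsNat O E).app (ModSite.unit O) =
      (assocFlip O (dual O E) E).hom.app (ModSite.unit O) ≫
        ((tensorBi O).obj (ModSite.unit O)).map (ev O E) ≫
          (SheafHomLFH9.rightUnitor O).hom.app (ModSite.unit O) := rfl
  have h2 : ((tensorBi O).obj (ModSite.unit O)).map (ev O E) ≫
      (unitorObj O).hom.app (ModSite.unit O) =
      (unitorObj O).hom.app (((tensorBi O).obj (dual O E)).obj E) ≫ ev O E :=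
    (unitorObj O).hom.naturality (ev O E)
  have h3 : ((tensorBi O).obj (ModSite.unit O)).map (ev O E) =
      (unitorObj O).hom.app (((tensorBi O).obj (dual O E)).obj E) ≫ ev O E ≫
        inv ((unitorObj O).hom.app (ModSite.unit O)) := by
    rw [← Category.assoc, ← h2, Category.assoc, IsIso.hom_inv_id, Category.comp_id]
  rw [h1, h3, ← assocFlip_unitor]
  simp only [Category.assoc]

instance isIso_kappa_unit : IsIso ((kappa O E).app (ModSite.unit O)) := by
  have h1 : (unitorObj O).hom.app (dual O E) ≫ (sheafHomAdj E).unit.app (dual O E) =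
      (sheafHomAdj E).unit.app (((tensorBi O).flip.obj (dual O E)).obj (ModSite.unit O)) ≫
        (sheafHom E).map (((tensorBi O).flip.obj E).map ((unitorObj O).hom.app (dual O E))) :=
    (sheafHomAdj E).unit.naturality ((unitorObj O).hom.app (dual O E))
  have h2 : (sheafHomAdj E).unit.app (dual O E) ≫ (sheafHom E).map (ev O E) = 𝟙 _ :=
    (sheafHomAdj E).right_triangle_components (ModSite.unit O)
  have h3 : (kappa O E).app (ModSite.unit O) = (unitorObj O).hom.app (dual O E) ≫
      (sheafHom E).map (inv ((unitorObj O).hom.app (ModSite.unit O)) ≫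
          (SheafHomLFH9.rightUnitor O).hom.app (ModSite.unit O)) := by
    rw [kappa_app, epsNat_app_unit, Functor.map_comp, Functor.map_comp, ← Category.assoc, ← h1,
      Category.assoc, reassoc_of% h2]
  rw [h3]
  infer_instance

end Kappa

end Groth.Agent.Lib.DualLFH4
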