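import Mathlib
import Groth.Prelude.Def_ExtSupp
import Groth.Agent.Lib.ExtDer_helper9

/-!
# `M ↦ M/M_U` is left adjoint to sections with supports `Γ_Z` on a ringed site
-/

set_option autoImplicit false
universe u
open CategoryTheory Limits Opposite

namespace Groth.Agent.Lib.Supp
open ModSite

variable {C : Type u} [SmallCategory C] {J : GrothendieckTopology C}
variable (O : Sheaf J CommRingCat.{u}) (U : C)

/-- a morphism restricts to zero on `C/U` iff it vanishes on sections over every object over `U` -/
lemma restr_map_eq_zero_iff {M N : Mod O} (φ : M ⟶ N) :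
    (restr O U).map φ = 0 ↔
      ∀ ⦃V : C⦄ (_ : V ⟶ U) (x : sect M V), φ.val.app (op V) x = 0 := by
  constructor
  · intro h V g x
    exact congrArg (fun ψ : (restr O U).obj M ⟶ (restr O U).obj N =>
      (ψ.val.app (op (Over.mk g))).hom x) h
  · intro h
    apply (SheafOfModules.toSheaf _).map_injective
    ext Y m
    exact h (unop Y).hom m

/-- restriction kills `φ` iff the counit composed with `φ` vanishes -/
lemma restr_map_eq_zero_iff_counit {M N : Mod O} (φ : M ⟶ N) :
    (restr O U).map φ = 0 ↔ (extZeroAdj O U).counit.app M ≫ φ = 0 :=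
  ExtSupp.mem_homZ_iff U φ

variable [HasPushOver O U]

/-- restriction kills `φ` iff `φ` composed with the unit vanishes -/
lemma restr_map_eq_zero_iff_unit {M N : Mod O} (φ : M ⟶ N) :
    (restr O U).map φ = 0 ↔ φ ≫ (restrPushOverAdj O U).unit.app N = 0 := by
  let adj := restrPushOverAdj O U
  constructor
  · intro h
    have h1 : φ ≫ adj.unit.app N = adj.unit.app M ≫ (pushOver O U).map ((restr O U).map φ) :=
      adj.unit.naturality φ
    have : (pushOver O U).Additive := adj.right_adjoint_additive
    rw [h1, h, Functor.map_zero, comp_zero]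
  · intro h
    have h1 : (restr O U).map φ = (restr O U).map (φ ≫ adj.unit.app N) ≫
        adj.counit.app ((restr O U).obj N) := by
      rw [Functor.map_comp, Category.assoc, adj.left_triangle_components, Category.comp_id]
    rw [h1, h, Functor.map_zero, zero_comp]

lemma restr_map_quotOnπ (M : Mod O) : (restr O U).map ((quotOnπ O U).app M) = 0 :=
  (ExtSupp.isNullOn_quotOn O U M).eq_of_tgt _ _

lemma restr_map_sectOnι (N : Mod O) : (restr O U).map ((sectOnι O U).app N) = 0 := by
  rw [restr_map_eq_zero_iff_unit]
  exact kernel.condition _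

/-- maps into `Γ_Z N` from maps into `N` vanishing on `U` -/
noncomputable def sectOnLift {M N : Mod O} (φ : M ⟶ N) (h : (restr O U).map φ = 0) :
    M ⟶ (sectOn O U).obj N :=
  kernel.lift _ φ ((restr_map_eq_zero_iff_unit O U φ).1 h)

@[reassoc (attr := simp)]
lemma sectOnLift_ι {M N : Mod O} (φ : M ⟶ N) (h : (restr O U).map φ = 0) :
    sectOnLift O U φ h ≫ (sectOnι O U).app N = φ :=
  kernel.lift_ι _ _ _

omit [HasPushOver O U] in
/-- maps out of `M/M_U` from maps out of `M` vanishing on `U` -/
noncomputable def quotOnDesc {M N : Mod O} (φ : M ⟶ N) (h : (restr O U).map φ = 0) :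
    (quotOn O U).obj M ⟶ N :=
  cokernel.desc _ φ ((restr_map_eq_zero_iff_counit O U φ).1 h)

omit [HasPushOver O U] in
@[reassoc (attr := simp)]
lemma quotOnπ_desc {M N : Mod O} (φ : M ⟶ N) (h : (restr O U).map φ = 0) :
    (quotOnπ O U).app M ≫ quotOnDesc O U φ h = φ :=
  cokernel.π_desc _ _ _

omit [HasPushOver O U] in
instance (M : Mod O) : Epi ((quotOnπ O U).app M) := by
  change Epi (cokernel.π _)
  infer_instance

instance (N : Mod O) : Mono ((sectOnι O U).app N) := by
  change Mono (kernel.ι _)
  infer_instance

omit [HasPushOver O U] in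
lemma restr_map_comp_eq_zero_left {M N N' : Mod O} (φ : M ⟶ N) (g : N ⟶ N')
    (h : (restr O U).map φ = 0) : (restr O U).map (φ ≫ g) = 0 := by
  rw [Functor.map_comp, h, zero_comp]

omit [HasPushOver O U] in
lemma restr_map_comp_eq_zero_right {M' M N : Mod O} (f : M' ⟶ M) (φ : M ⟶ N)
    (h : (restr O U).map φ = 0) : (restr O U).map (f ≫ φ) = 0 := by
  rw [Functor.map_comp, h, comp_zero]

/-- the adjunction bijection -/
noncomputable def quotSectHomEquiv (M N : Mod O) :
    ((quotOn O U).obj M ⟶ N) ≃ (M ⟶ (sectOn O U).obj N) where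
  toFun g := sectOnLift O U ((quotOnπ O U).app M ≫ g)
    (restr_map_comp_eq_zero_left O U _ g (restr_map_quotOnπ O U M))
  invFun h := quotOnDesc O U (h ≫ (sectOnι O U).app N)
    (restr_map_comp_eq_zero_right O U h _ (restr_map_sectOnι O U N))
  left_inv g := by
    rw [← cancel_epi ((quotOnπ O U).app M)]
    simp
  right_inv h := by
    rw [← cancel_mono ((sectOnι O U).app N)]
    simp

/-- `M ↦ M/M_U` is left adjoint to `Γ_Z` -/
noncomputable def quotSectAdj : quotOn O U ⊣ sectOn O U :=
  Adjunction.mkOfHomEquiv
    { homEquiv := quotSectHomEquiv O U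
      homEquiv_naturality_left_symm := by
        intro M' M N f g
        rw [← cancel_epi ((quotOnπ O U).app M')]
        have h1 : (quotOnπ O U).app M' ≫ (quotOn O U).map f = f ≫ (quotOnπ O U).app M :=
          ((quotOnπ O U).naturality f).symm
        simp only [quotSectHomEquiv, Equiv.coe_fn_symm_mk, quotOnπ_desc, Category.assoc,
          reassoc_of% h1]
      homEquiv_naturality_right := by
        intro M N N' f g
        rw [← cancel_mono ((sectOnι O U).app N')]
        have h1 : (sectOn O U).map g ≫ (sectOnι O U).app N' = (sectOnι O U).app N ≫ g :=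
          (sectOnι O U).naturality g
        simp only [quotSectHomEquiv, Equiv.coe_fn_mk, sectOnLift_ι, Category.assoc, h1,
          sectOnLift_ι_assoc] }

instance quotOn_additive : (quotOn O U).Additive := (quotSectAdj O U).left_adjoint_additive

/-- `Hom(M/M_U, -) ≅ Hom(M, Γ_Z -)` -/
noncomputable def homQuotIso (M : Mod O) :
    ExtDer.hom ((quotOn O U).obj M) ≅ sectOn O U ⋙ ExtDer.hom M :=
  NatIso.ofComponents (fun N => ((quotSectAdj O U).homAddEquiv M N).toAddCommGrpIso) (by
    intro N N' k
    ext g
    exact (quotSectAdj O U).homEquiv_naturality_right g k)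

end Groth.Agent.Lib.Supp
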