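import Mathlib

/-!
# Long exact sequence of right derived functors for a short exact sequence of functors,
and right derived functors of a composition with an exact functor preserving injectives
-/

set_option autoImplicit false
universe v v' u u'
open CategoryTheory Limits

namespace Groth.Agent.Lib.DerivedLES

variable {C : Type u} [Category.{v} C] [Abelian C] [HasInjectiveResolutions C]
  {D : Type u'} [Category.{v'} D] [Abelian D]

lemma chase {E : Type*} [Category E] {A A' P P' Q Q' R R' : E}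
    (F3f : A ⟶ A') (aY : A' ⟶ P') (dY : P' ⟶ Q') (bY : Q' ⟶ R') (aX : A ⟶ P) (dX : P ⟶ Q)
    (bX : Q ⟶ R) (F1f : R ⟶ R') (H3 : P ⟶ P') (H1 : Q ⟶ Q') (h1 : F3f ≫ aY = aX ≫ H3)
    (h2 : bX ≫ F1f = H1 ≫ bY) (h3 : dX ≫ H1 = H3 ≫ dY) :
    F3f ≫ aY ≫ dY ≫ bY = (aX ≫ dX ≫ bX) ≫ F1f := by
  rw [reassoc_of% h1, Category.assoc, Category.assoc, h2, reassoc_of% h3]

section FunctorSES

variable {G₁ G₂ G₃ : C ⥤ D} [G₁.Additive] [G₂.Additive] [G₃.Additive]
  (α : G₁ ⟶ G₂) (β : G₂ ⟶ G₃) (w : α ≫ β = 0)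

include w in
lemma app_zero (I : C) : α.app I ≫ β.app I = 0 := by
  rw [← NatTrans.comp_app, w]
  rfl

/-- the short complex of complexes `G₁ K ⟶ G₂ K ⟶ G₃ K` -/
noncomputable def SK (K : CochainComplex C ℕ) : ShortComplex (CochainComplex D ℕ) :=
  ShortComplex.mk ((NatTrans.mapHomologicalComplex α (ComplexShape.up ℕ)).app K)
    ((NatTrans.mapHomologicalComplex β (ComplexShape.up ℕ)).app K) (by
      ext i
      exact app_zero α β w (K.X i))

variable (hI : ∀ I : C, Injective I →
  (ShortComplex.mk (α.app I) (β.app I) (app_zero α β w I)).ShortExact)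

include hI in
lemma SK_shortExact (K : CochainComplex C ℕ) (hK : ∀ i, Injective (K.X i)) :
    (SK α β w K).ShortExact :=
  HomologicalComplex.shortExact_of_degreewise_shortExact _ (fun i => hI (K.X i) (hK i))

/-- functoriality of `SK` -/
noncomputable def SKmap {K L : CochainComplex C ℕ} (φ : K ⟶ L) : SK α β w K ⟶ SK α β w L where
  τ₁ := (G₁.mapHomologicalComplex _).map φ
  τ₂ := (G₂.mapHomologicalComplex _).map φ
  τ₃ := (G₃.mapHomologicalComplex _).map φ
  comm₁₂ := (NatTrans.mapHomologicalComplex α (ComplexShape.up ℕ)).naturality φ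
  comm₂₃ := (NatTrans.mapHomologicalComplex β (ComplexShape.up ℕ)).naturality φ

include hI in
/-- the short exact sequence of complexes attached to an object -/
lemma SX_shortExact (X : C) (I : InjectiveResolution X) : (SK α β w I.cocomplex).ShortExact :=
  SK_shortExact α β w hI _ (fun i => I.injective i)

/-- the connecting natural transformation -/
noncomputable def δnat (n : ℕ) : G₃.rightDerived n ⟶ G₁.rightDerived (n + 1) where
  app X := ((injectiveResolution X).isoRightDerivedObj G₃ n).hom ≫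
    (SX_shortExact α β w hI X (injectiveResolution X)).δ n (n + 1) rfl ≫
      ((injectiveResolution X).isoRightDerivedObj G₁ (n + 1)).inv
  naturality X Y f := by
    have comm := InjectiveResolution.desc_commutes_zero f (injectiveResolution Y)
      (injectiveResolution X)
    have h1 := InjectiveResolution.isoRightDerivedObj_hom_naturality f (injectiveResolution X)
      (injectiveResolution Y) (InjectiveResolution.desc f _ _) comm G₃ n
    have h2 := InjectiveResolution.isoRightDerivedObj_inv_naturality f (injectiveResolution X)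
      (injectiveResolution Y) (InjectiveResolution.desc f _ _) comm G₁ (n + 1)
    have h3 := HomologicalComplex.HomologySequence.δ_naturality
      (SKmap α β w (InjectiveResolution.desc f (injectiveResolution Y) (injectiveResolution X)))
      (SX_shortExact α β w hI X (injectiveResolution X))
      (SX_shortExact α β w hI Y (injectiveResolution Y)) n (n + 1) rfl
    exact chase _ _ _ _ _ _ _ _ _ _ h1 h2 h3

variable (n : ℕ) (X : C)

lemma isZero_homology_iff {G : C ⥤ D} [G.Additive] (I : InjectiveResolution X) (n : ℕ) :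
    IsZero ((G.rightDerived n).obj X) ↔
      IsZero (((G.mapHomologicalComplex (ComplexShape.up ℕ)).obj I.cocomplex).homology n) :=
  (I.isoRightDerivedObj G n).isZero_iff

lemma isIso_δnat_app (h₁ : IsZero ((G₂.rightDerived n).obj X))
    (h₂ : IsZero ((G₂.rightDerived (n + 1)).obj X)) : IsIso ((δnat α β w hI n).app X) := by
  have hS := SX_shortExact α β w hI X (injectiveResolution X)
  haveI : IsIso (hS.δ n (n + 1) rfl) := hS.isIso_δ n (n + 1) rfl
    ((isZero_homology_iff X (injectiveResolution X) n).1 h₁)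
    ((isZero_homology_iff X (injectiveResolution X) (n + 1)).1 h₂)
  change IsIso (_ ≫ hS.δ n (n + 1) rfl ≫ _)
  infer_instance

lemma epi_δnat_app (h₂ : IsZero ((G₂.rightDerived (n + 1)).obj X)) :
    Epi ((δnat α β w hI n).app X) := by
  have hS := SX_shortExact α β w hI X (injectiveResolution X)
  haveI : Epi (hS.δ n (n + 1) rfl) := hS.epi_δ n (n + 1) rfl
    ((isZero_homology_iff X (injectiveResolution X) (n + 1)).1 h₂)
  change Epi (_ ≫ hS.δ n (n + 1) rfl ≫ _)
  infer_instance

lemma exact_of_conj {E : Type*} [Category E] [Abelian E] (S' : ShortComplex E) (hS' : S'.Exact)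
    {A B Cc : E} (e₁ : A ≅ S'.X₁) (e₂ : B ≅ S'.X₂) (e₃ : Cc ≅ S'.X₃) (f : A ⟶ B) (g : B ⟶ Cc)
    (hf : f = e₁.hom ≫ S'.f ≫ e₂.inv) (hg : g = e₂.hom ≫ S'.g ≫ e₃.inv) :
    ∃ w : f ≫ g = 0, (ShortComplex.mk f g w).Exact := by
  have w : f ≫ g = 0 := by
    rw [hf, hg]
    simp
  refine ⟨w, ?_⟩
  refine ShortComplex.exact_of_iso (ShortComplex.isoMk e₁ e₂ e₃ ?_ ?_).symm hS'
  · show e₁.hom ≫ S'.f = f ≫ e₂.hom
    rw [hf]; simp
  · show e₂.hom ≫ S'.g = g ≫ e₃.hom
    rw [hg]; simp

/-- exactness of `RⁿG₂ X ⟶ RⁿG₃ X ⟶ Rⁿ⁺¹G₁ X` -/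
lemma exact_δnat :
    ∃ w' : (NatTrans.rightDerived β n).app X ≫ (δnat α β w hI n).app X = 0,
      (ShortComplex.mk _ _ w').Exact := by
  have hS := SX_shortExact α β w hI X (injectiveResolution X)
  exact exact_of_conj _ (hS.homology_exact₃ n (n + 1) rfl)
    ((injectiveResolution X).isoRightDerivedObj G₂ n)
    ((injectiveResolution X).isoRightDerivedObj G₃ n)
    ((injectiveResolution X).isoRightDerivedObj G₁ (n + 1)) _ _
    ((injectiveResolution X).rightDerived_app_eq β n) rfl

omit [G₁.Additive] in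
lemma toRDZ'_naturality (I : InjectiveResolution X) :
    β.app X ≫ I.toRightDerivedZero' G₃ = I.toRightDerivedZero' G₂ ≫
      HomologicalComplex.cyclesMap ((NatTrans.mapHomologicalComplex β (ComplexShape.up ℕ)).app I.cocomplex) 0 := by
  rw [← cancel_mono (HomologicalComplex.iCycles _ _)]
  simp
  exact (β.naturality _).symm

lemma chase2 {E : Type*} [Category E] {A₂ A₃ Z₂ Z₃ H₂ H₃ R₂ R₃ : E} (b : A₂ ⟶ A₃) (t₂ : A₂ ⟶ Z₂)
    (t₃ : A₃ ⟶ Z₃) (c : Z₂ ⟶ Z₃) (p₂ : Z₂ ⟶ H₂) (p₃ : Z₃ ⟶ H₃) (hm : H₂ ⟶ H₃) (i₂ : R₂ ≅ H₂)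
    (i₃ : R₃ ≅ H₃) (h1 : b ≫ t₃ = t₂ ≫ c) (h2 : c ≫ p₃ = p₂ ≫ hm) :
    b ≫ (t₃ ≫ p₃ ≫ i₃.inv) = (t₂ ≫ p₂ ≫ i₂.inv) ≫ (i₂.hom ≫ hm ≫ i₃.inv) := by
  rw [reassoc_of% h1, reassoc_of% h2]
  simp

omit [G₁.Additive] in
lemma toRDZ_naturality :
    β ≫ G₃.toRightDerivedZero = G₂.toRightDerivedZero ≫ NatTrans.rightDerived β 0 := by
  ext X
  have e3 := (injectiveResolution X).toRightDerivedZero_eq G₃
  have e2 := (injectiveResolution X).toRightDerivedZero_eq G₂
  have e := (injectiveResolution X).rightDerived_app_eq β 0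
  rw [NatTrans.comp_app, NatTrans.comp_app, e3, e2, e]
  exact chase2 _ _ _ _ _ _ _ _ _ (toRDZ'_naturality β X _)
    (HomologicalComplex.homologyπ_naturality _ 0).symm

/-- the map `G₃ ⟶ R¹G₁` -/
noncomputable def ψ : G₃ ⟶ G₁.rightDerived 1 := G₃.toRightDerivedZero ≫ δnat α β w hI 0

lemma β_ψ_app : β.app X ≫ (ψ α β w hI).app X = 0 := by
  obtain ⟨w', -⟩ := exact_δnat α β w hI 0 X
  have h := congrArg (fun t => t.app X) (toRDZ_naturality β)
  simp only [NatTrans.comp_app] at h
  rw [ψ, NatTrans.comp_app, ← Category.assoc, h, Category.assoc, w', comp_zero]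

lemma β_ψ : β ≫ ψ α β w hI = 0 := by
  ext X
  exact β_ψ_app α β w hI X

section Coker

variable [PreservesFiniteLimits G₂] [PreservesFiniteLimits G₃]

lemma exact_ψ_app : (ShortComplex.mk _ _ (β_ψ_app α β w hI X)).Exact := by
  obtain ⟨w'', hex⟩ := exact_δnat α β w hI 0 X
  have h := congrArg (fun t => t.app X) (toRDZ_naturality β)
  simp only [NatTrans.comp_app] at h
  obtain ⟨_, hres⟩ := exact_of_conj _ hex (asIso (G₂.toRightDerivedZero.app X))
    (asIso (G₃.toRightDerivedZero.app X)) (Iso.refl _) (β.app X) ((ψ α β w hI).app X) (by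
      simp only [asIso_hom, asIso_inv]
      rw [← Category.assoc, ← h, Category.assoc, IsIso.hom_inv_id, Category.comp_id]) (by
      simp [ψ])
  exact hres

include hI in
/-- `coker (G₂ ⟶ G₃) ≅ R¹G₁` when `G₂`, `G₃` are left exact and `R¹G₂ = 0` -/
theorem cokernelIso (h1 : ∀ X, IsZero ((G₂.rightDerived 1).obj X)) [HasCokernel β] :
    Nonempty (cokernel β ≅ G₁.rightDerived 1) := by
  have hc : IsColimit (CokernelCofork.ofπ (ψ α β w hI) (β_ψ α β w hI)) := by
    apply evaluationJointlyReflectsColimits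
    intro X
    refine (isColimitMapCoconeCoforkEquiv' ((evaluation C D).obj X) (β_ψ α β w hI)).symm ?_
    have hex := exact_ψ_app α β w hI X
    haveI : Epi (ShortComplex.mk _ _ (β_ψ_app α β w hI X)).g := by
      show Epi ((ψ α β w hI).app X)
      haveI := epi_δnat_app α β w hI 0 X (h1 X)
      rw [ψ, NatTrans.comp_app]
      infer_instance
    exact hex.gIsCokernel
  exact ⟨(cokernelIsCokernel β).coconePointUniqueUpToIso hc⟩

end Coker

include hI in
/-- `RⁿG₃ ≅ Rⁿ⁺¹G₁` when `RⁿG₂ = 0 = Rⁿ⁺¹G₂` -/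
theorem δnatIso (h₁ : ∀ X, IsZero ((G₂.rightDerived n).obj X))
    (h₂ : ∀ X, IsZero ((G₂.rightDerived (n + 1)).obj X)) :
    Nonempty (G₃.rightDerived n ≅ G₁.rightDerived (n + 1)) := by
  haveI : ∀ X, IsIso ((δnat α β w hI n).app X) :=
    fun X => isIso_δnat_app α β w hI n X (h₁ X) (h₂ X)
  haveI := NatIso.isIso_of_isIso_app (δnat α β w hI n)
  exact ⟨asIso (δnat α β w hI n)⟩

end FunctorSES

lemma isZero_rightDerived_id (n : ℕ) (X : C) : IsZero (((𝟭 C).rightDerived (n + 1)).obj X) := by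
  rw [isZero_homology_iff X (injectiveResolution X) (n + 1),
    ← HomologicalComplex.exactAt_iff_isZero_homology,
    HomologicalComplex.exactAt_iff' _ n (n + 1) (n + 2) (by simp)
      (by simp only [CochainComplex.next]; rfl)]
  exact (injectiveResolution X).exact_succ n

section Comp

variable {C' : Type*} [Category C'] [Abelian C'] [HasInjectiveResolutions C']
  (Φ : C ⥤ C') [Φ.Additive] [PreservesFiniteLimits Φ] [PreservesFiniteColimits Φ]
  (hΦ : ∀ I : C, Injective I → Injective (Φ.obj I))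

/-- the image of an injective resolution under an exact functor preserving injectives -/
noncomputable def mapRes {X : C} (I : InjectiveResolution X) : InjectiveResolution (Φ.obj X) where
  cocomplex := (Φ.mapHomologicalComplex _).obj I.cocomplex
  injective n := hΦ _ (I.injective n)
  ι := (HomologicalComplex.singleMapHomologicalComplex Φ (ComplexShape.up ℕ) 0).inv.app X ≫
    (Φ.mapHomologicalComplex _).map I.ι
  quasiIso := by infer_instance

lemma mapRes_comm {X Y : C} (f : X ⟶ Y) (I : InjectiveResolution X) (J : InjectiveResolution Y)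
    (φ : I.cocomplex ⟶ J.cocomplex) (hφ : I.ι ≫ φ = (CochainComplex.single₀ C).map f ≫ J.ι) :
    (mapRes Φ hΦ I).ι.f 0 ≫ ((Φ.mapHomologicalComplex _).map φ).f 0 =
      Φ.map f ≫ (mapRes Φ hΦ J).ι.f 0 := by
  have h1 : (mapRes Φ hΦ I).ι ≫ (Φ.mapHomologicalComplex _).map φ =
      (CochainComplex.single₀ C').map (Φ.map f) ≫ (mapRes Φ hΦ J).ι := by
    dsimp only [mapRes]
    rw [Category.assoc, ← Functor.map_comp, hφ, Functor.map_comp]
    exact ((HomologicalComplex.singleMapHomologicalComplex Φ (ComplexShape.up ℕ) 0).inv.naturality_assoc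
      f _).symm
  rw [← HomologicalComplex.comp_f, h1, HomologicalComplex.comp_f,
    CochainComplex.single₀_map_f_zero]
  rfl

lemma chase3 {E : Type*} [Category E] {A A' P P' R R' : E} (F : A ⟶ A') (aY : A' ⟶ P')
    (bY : P' ⟶ R') (aX : A ⟶ P) (bX : P ⟶ R) (F' : R ⟶ R') (H : P ⟶ P')
    (h1 : F ≫ aY = aX ≫ H) (h2 : bX ≫ F' = H ≫ bY) :
    F ≫ (aY ≫ bY) = (aX ≫ bX) ≫ F' := by
  rw [reassoc_of% h1, Category.assoc, h2]

/-- right derived functors of a composition with an exact functor preserving injectives -/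
noncomputable def compIso (G : C' ⥤ D) [G.Additive] (n : ℕ) :
    (Φ ⋙ G).rightDerived n ≅ Φ ⋙ G.rightDerived n :=
  NatIso.ofComponents
    (fun X => (injectiveResolution X).isoRightDerivedObj (Φ ⋙ G) n ≪≫
      ((mapRes Φ hΦ (injectiveResolution X)).isoRightDerivedObj G n).symm)
    (fun {X Y} f => by
      have comm := InjectiveResolution.desc_commutes_zero f (injectiveResolution Y)
        (injectiveResolution X)
      have h1 := InjectiveResolution.isoRightDerivedObj_hom_naturality f (injectiveResolution X)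
        (injectiveResolution Y) (InjectiveResolution.desc f _ _) comm (Φ ⋙ G) n
      have h2 := InjectiveResolution.isoRightDerivedObj_inv_naturality (Φ.map f)
        (mapRes Φ hΦ (injectiveResolution X)) (mapRes Φ hΦ (injectiveResolution Y))
        ((Φ.mapHomologicalComplex _).map (InjectiveResolution.desc f _ _))
        (mapRes_comm Φ hΦ f _ _ _ (InjectiveResolution.desc_commutes f _ _)) G n
      exact chase3 _ _ _ _ _ _ _ h1 h2)

end Comp

end Groth.Agent.Lib.DerivedLES
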