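import Mathlib
import Groth.Agent.Lib.CechSiteLeray_helper2
import Groth.Agent.Lib.ExtAcyclicClass_helper2

/-!
# Acyclicity on the objects of a site and Ext out of free presheaves on covering sieves

An abelian sheaf `F` on a small site has `H^q(X, F) = 0` for all objects `X` and `q > 0` iff
`Ext^q(ℤ[R], F) = 0` (computed in presheaves) for all covering sieves `R` and `q > 0`.
-/

set_option autoImplicit false
universe u
open CategoryTheory Limits Opposite Abelian

namespace Groth.Agent.Lib.SieveExt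

open Groth.Agent.Lib.CechSite Groth.Agent.Lib.FreeSheaf

variable {C : Type u} [SmallCategory C]

section Fam

variable {X : C} (R : Sieve X)

/-- the free abelian presheaf on a sieve -/
abbrev ZRs : Cᵒᵖ ⥤ AddCommGrpCat.{u} := R.functor ⋙ AddCommGrpCat.free

variable {R} (P : Cᵒᵖ ⥤ AddCommGrpCat.{u})

/-- evaluation of a morphism out of the free presheaf at an arrow of the sieve -/
def ev (ψ : ZRs R ⟶ P) {V : C} (f : V ⟶ X) (hf : R.arrows f) : P.obj (op V) :=
  (ψ.app (op V)).hom (FreeAbelianGroup.of (⟨f, hf⟩ : R.functor.obj (op V)))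

lemma ev_congr (ψ : ZRs R ⟶ P) {V : C} {f f' : V ⟶ X} (h : f = f') (hf : R.arrows f)
    (hf' : R.arrows f') : ev P ψ f hf = ev P ψ f' hf' := by
  subst h
  rfl

lemma ZRs_map_of {V W : C} (h : W ⟶ V) (f : V ⟶ X) (hf : R.arrows f) :
    ((ZRs R).map h.op).hom (FreeAbelianGroup.of (⟨f, hf⟩ : R.functor.obj (op V))) =
      FreeAbelianGroup.of (⟨h ≫ f, R.downward_closed hf h⟩ : R.functor.obj (op W)) :=
  FreeAbelianGroup.map_of_apply _

lemma ev_rs (ψ : ZRs R ⟶ P) {V W : C} (h : W ⟶ V) (f : V ⟶ X) (hf : R.arrows f) :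
    rs P h (ev P ψ f hf) = ev P ψ (h ≫ f) (R.downward_closed hf h) := by
  have hn := ψ.naturality h.op
  have h1 := congrArg (fun k => k.hom
    (FreeAbelianGroup.of (⟨f, hf⟩ : R.functor.obj (op V)))) hn
  have h2 : (ψ.app (op W)).hom (((ZRs R).map h.op).hom
      (FreeAbelianGroup.of (⟨f, hf⟩ : R.functor.obj (op V)))) =
      rs P h (ev P ψ f hf) := h1
  rw [← h2, ZRs_map_of]
  rfl

lemma hom_ext_ev (ψ ψ' : ZRs R ⟶ P)
    (h : ∀ (V : C) (f : V ⟶ X) (hf : R.arrows f), ev P ψ f hf = ev P ψ' f hf) :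
    ψ = ψ' := by
  apply NatTrans.ext
  funext V
  apply AddCommGrpCat.hom_ext
  apply FreeAbelianGroup.lift_ext
  intro s
  obtain ⟨f, hf⟩ := s
  exact h V.unop f hf

/-- the morphism out of the free presheaf attached to a compatible family on the sieve -/
noncomputable def mkψ (x : ∀ (V : C) (f : V ⟶ X), R.arrows f → P.obj (op V))
    (hx : ∀ (V W : C) (h : W ⟶ V) (f : V ⟶ X) (hf : R.arrows f),
      rs P h (x V f hf) = x W (h ≫ f) (R.downward_closed hf h)) : ZRs R ⟶ P where
  app V := AddCommGrpCat.ofHom (FreeAbelianGroup.lift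
    (fun s : R.functor.obj V => x V.unop s.1 s.2))
  naturality V W h := by
    apply AddCommGrpCat.hom_ext
    apply FreeAbelianGroup.lift_ext
    intro s
    obtain ⟨f, hf⟩ := s
    show FreeAbelianGroup.lift (fun s : R.functor.obj W => x W.unop s.1 s.2)
        (((ZRs R).map h.unop.op).hom (FreeAbelianGroup.of (⟨f, hf⟩ : R.functor.obj (op V.unop)))) =
      rs P h.unop (FreeAbelianGroup.lift (fun s : R.functor.obj V => x V.unop s.1 s.2)
        (FreeAbelianGroup.of ⟨f, hf⟩))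
    rw [ZRs_map_of]
    refine (FreeAbelianGroup.lift_apply_of _ _).trans ?_
    refine Eq.trans ?_ (congrArg (rs P h.unop) (FreeAbelianGroup.lift_apply_of _ _).symm)
    exact (hx _ _ h.unop f hf).symm

lemma ev_mkψ (x : ∀ (V : C) (f : V ⟶ X), R.arrows f → P.obj (op V))
    (hx : ∀ (V W : C) (h : W ⟶ V) (f : V ⟶ X) (hf : R.arrows f),
      rs P h (x V f hf) = x W (h ≫ f) (R.downward_closed hf h))
    {V : C} (f : V ⟶ X) (hf : R.arrows f) : ev P (mkψ P x hx) f hf = x V f hf :=
  FreeAbelianGroup.lift_apply_of _ _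

lemma ev_comp {Q : Cᵒᵖ ⥤ AddCommGrpCat.{u}} (ψ : ZRs R ⟶ P) (φ : P ⟶ Q) {V : C} (f : V ⟶ X)
    (hf : R.arrows f) : ev Q (ψ ≫ φ) f hf = (φ.app (op V)).hom (ev P ψ f hf) := rfl

end Fam

section Bot

variable {X : C} (R : Sieve X)

/-- the free abelian sheaf (for the trivial topology) on a sieve -/
noncomputable abbrev GRb : Sheaf (⊥ : GrothendieckTopology C) AddCommGrpCat.{u} :=
  (presheafToSheaf ⊥ AddCommGrpCat.{u}).obj (ZRs R)

/-- morphisms out of the free sheaf on the sieve, as morphisms of presheaves -/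
noncomputable def adjB (G : Sheaf (⊥ : GrothendieckTopology C) AddCommGrpCat.{u}) :
    (GRb R ⟶ G) ≃+ (ZRs R ⟶ G.obj) :=
  (sheafificationAdjunction ⊥ AddCommGrpCat.{u}).homAddEquiv (ZRs R) G

lemma adjB_comp {G G' : Sheaf (⊥ : GrothendieckTopology C) AddCommGrpCat.{u}} (s : GRb R ⟶ G)
    (φ : G ⟶ G') : adjB R G' (s ≫ φ) = adjB R G s ≫ φ.hom :=
  (sheafificationAdjunction ⊥ AddCommGrpCat.{u}).homEquiv_naturality_right s φ

variable {R}

/-- the value of a morphism out of the free sheaf at an arrow of the sieve -/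
noncomputable def evB {G : Sheaf (⊥ : GrothendieckTopology C) AddCommGrpCat.{u}} (s : GRb R ⟶ G)
    {V : C} (f : V ⟶ X) (hf : R.arrows f) : G.obj.obj (op V) :=
  ev G.obj (adjB R G s) f hf

lemma evB_rs {G : Sheaf (⊥ : GrothendieckTopology C) AddCommGrpCat.{u}} (s : GRb R ⟶ G)
    {V W : C} (h : W ⟶ V) (f : V ⟶ X) (hf : R.arrows f) :
    rs G.obj h (evB s f hf) = evB s (h ≫ f) (R.downward_closed hf h) :=
  ev_rs G.obj _ h f hf

lemma evB_comp {G G' : Sheaf (⊥ : GrothendieckTopology C) AddCommGrpCat.{u}} (s : GRb R ⟶ G)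
    (φ : G ⟶ G') {V : C} (f : V ⟶ X) (hf : R.arrows f) :
    evB (s ≫ φ) f hf = (φ.hom.app (op V)).hom (evB s f hf) := by
  unfold evB
  rw [adjB_comp, ev_comp]

lemma hom_ext_evB {G : Sheaf (⊥ : GrothendieckTopology C) AddCommGrpCat.{u}} (s s' : GRb R ⟶ G)
    (h : ∀ (V : C) (f : V ⟶ X) (hf : R.arrows f), evB s f hf = evB s' f hf) : s = s' :=
  (adjB R G).injective (hom_ext_ev G.obj _ _ h)

lemma exists_hom (G : Sheaf (⊥ : GrothendieckTopology C) AddCommGrpCat.{u})
    (x : ∀ (V : C) (f : V ⟶ X), R.arrows f → G.obj.obj (op V))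
    (hx : ∀ (V W : C) (h : W ⟶ V) (f : V ⟶ X) (hf : R.arrows f),
      rs G.obj h (x V f hf) = x W (h ≫ f) (R.downward_closed hf h)) :
    ∃ s : GRb R ⟶ G, ∀ (V : C) (f : V ⟶ X) (hf : R.arrows f), evB s f hf = x V f hf := by
  refine ⟨(adjB R G).symm (mkψ G.obj x hx), fun V f hf => ?_⟩
  unfold evB
  rw [AddEquiv.apply_symm_apply, ev_mkψ]

end Bot

section ToP

variable (J : GrothendieckTopology C)

/-- the underlying presheaf, as a sheaf for the trivial topology -/
noncomputable def toP :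
    Sheaf J AddCommGrpCat.{u} ⥤ Sheaf (⊥ : GrothendieckTopology C) AddCommGrpCat.{u} :=
  sheafToPresheaf J _ ⋙ (sheafBotEquivalence _).inverse

instance : (toP J).Additive where
  map_add := rfl

lemma toP_shortExact (S : ShortComplex (Sheaf J AddCommGrpCat.{u})) (hS : S.ShortExact)
    (hsurj : ∀ V : C, Function.Surjective (S.g.hom.app (op V)).hom) :
    (S.map (toP J)).ShortExact := by
  haveI := hS.mono_f
  have h1 : (S.map (sheafToPresheaf J AddCommGrpCat.{u})).Exact ∧
      Mono (S.map (sheafToPresheaf J AddCommGrpCat.{u})).f :=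
    ((Functor.preservesFiniteLimits_tfae (sheafToPresheaf J AddCommGrpCat.{u})).out 1 3 rfl rfl).mpr
      inferInstance S ⟨hS.exact, inferInstance⟩
  have h2 : Epi (S.map (sheafToPresheaf J AddCommGrpCat.{u})).g := by
    show Epi S.g.hom
    haveI : ∀ V, Epi (S.g.hom.app V) := fun V =>
      (AddCommGrpCat.epi_iff_surjective _).mpr (hsurj V.unop)
    exact NatTrans.epi_of_epi_app _
  have h3 : (S.map (sheafToPresheaf J AddCommGrpCat.{u})).ShortExact :=
    { exact := h1.1, mono_f := h1.2, epi_g := h2 }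
  exact h3.map_of_exact (sheafBotEquivalence AddCommGrpCat.{u}).inverse

lemma toP_injective (I : Sheaf J AddCommGrpCat.{u}) [Injective I] :
    Injective ((toP J).obj I) := by
  haveI := injective_obj J I
  exact Injective.injective_of_adjoint (sheafBotEquivalence AddCommGrpCat.{u}).toAdjunction I.obj

variable {J}

/-- gluing along a covering sieve -/
lemma exists_glue (G : Sheaf J AddCommGrpCat.{u}) {X : C} (R : Sieve X) (hR : R ∈ J X)
    (x : ∀ (V : C) (f : V ⟶ X), R.arrows f → G.obj.obj (op V))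
    (hx : ∀ (V W : C) (h : W ⟶ V) (f : V ⟶ X) (hf : R.arrows f),
      rs G.obj h (x V f hf) = x W (h ≫ f) (R.downward_closed hf h)) :
    ∃ t : G.obj.obj (op X), ∀ (V : C) (f : V ⟶ X) (hf : R.arrows f), rs G.obj f t = x V f hf := by
  have h1 := isSheaf_forget G
  have h2 : Presieve.IsSheafFor (G.obj ⋙ forget AddCommGrpCat.{u}) R.arrows := h1 R hR
  let xf : Presieve.FamilyOfElements (G.obj ⋙ forget AddCommGrpCat.{u}) R.arrows :=
    fun V f hf => x V f hf
  have hc : xf.Compatible := by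
    rw [Presieve.compatible_iff_sieveCompatible]
    intro V W f g hf
    exact (hx V W g f hf).symm
  obtain ⟨t, ht, -⟩ := h2 xf hc
  exact ⟨t, fun V f hf => ht f hf⟩

lemma ext_sieve (G : Sheaf J AddCommGrpCat.{u}) {X : C} (R : Sieve X) (hR : R ∈ J X)
    (t t' : G.obj.obj (op X))
    (h : ∀ (V : C) (f : V ⟶ X), R.arrows f → rs G.obj f t = rs G.obj f t') : t = t' := by
  have h1 := isSheaf_forget G
  have h2 : Presieve.IsSheafFor (G.obj ⋙ forget AddCommGrpCat.{u}) R.arrows := h1 R hR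
  exact h2.isSeparatedFor.ext (fun V f hf => h V f hf)

end ToP

section ExtGen2

variable {A : Type*} [Category A] [Abelian A] [HasExt.{u} A] (G : A) {S : ShortComplex A}
  (hS : S.ShortExact)

include hS in
lemma ext1_eq_zero_of_lift (hI : ∀ ξ : Ext G S.X₂ 1, ξ = 0)
    (hl : ∀ φ : G ⟶ S.X₃, ∃ ψ : G ⟶ S.X₂, ψ ≫ S.g = φ) (ξ : Ext G S.X₁ 1) : ξ = 0 := by
  obtain ⟨x, hx⟩ := Ext.covariant_sequence_exact₁ G hS ξ (hI _) (zero_add 1)
  obtain ⟨φ, rfl⟩ := Ext.addEquiv₀.symm.surjective x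
  obtain ⟨ψ, hψ⟩ := hl φ
  rw [← hx, Ext.addEquiv₀_symm_apply, ← hψ, ← Ext.mk₀_comp_mk₀,
    Ext.comp_assoc_of_second_deg_zero, hS.comp_extClass, Ext.comp_zero]

include hS in
lemma ext_succ_eq_zero_of (q : ℕ) (hI : ∀ ξ : Ext G S.X₂ (q + 2), ξ = 0)
    (h3 : ∀ ξ : Ext G S.X₃ (q + 1), ξ = 0) (ξ : Ext G S.X₁ (q + 2)) : ξ = 0 := by
  obtain ⟨x, hx⟩ := Ext.covariant_sequence_exact₁ G hS ξ (hI _) (rfl : q + 1 + 1 = q + 2)
  rw [← hx, h3 x, Ext.zero_comp]

end ExtGen2

section Main

variable {J : GrothendieckTopology C}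

/-- the cokernel of `toP S.f`, with its properties stated on sections -/
theorem exists_cokernel_data (S : ShortComplex (Sheaf J AddCommGrpCat.{u})) (hS : S.ShortExact) :
    ∃ (K : Sheaf (⊥ : GrothendieckTopology C) AddCommGrpCat.{u}) (π : (toP J).obj S.X₂ ⟶ K)
      (πK : ∀ V : C, S.X₂.obj.obj (op V) →+ K.obj.obj (op V)),
      (∀ (V W : C) (k : W ⟶ V) (x : S.X₂.obj.obj (op V)),
        πK W (rs S.X₂.obj k x) = rs K.obj k (πK V x)) ∧
      (∀ (V : C) (a : S.X₁.obj.obj (op V)), πK V ((S.f.hom.app (op V)).hom a) = 0) ∧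
      (∀ (V : C) (x : S.X₂.obj.obj (op V)), πK V x = 0 →
        ∃ a : S.X₁.obj.obj (op V), (S.f.hom.app (op V)).hom a = x) ∧
      (∀ {X : C} (R : Sieve X) (l : GRb R ⟶ (toP J).obj S.X₂) (V : C) (f : V ⟶ X)
        (hf : R.arrows f), evB (l ≫ π) f hf = πK V (evB l f hf)) ∧
      (∀ {X : C} (R : Sieve X), (∀ ξ : Ext (GRb R) ((toP J).obj S.X₁) 1, ξ = 0) →
        ∀ κ : GRb R ⟶ K, ∃ l : GRb R ⟶ (toP J).obj S.X₂, l ≫ π = κ) := by
  haveI := hS.mono_f
  have hmono : Mono ((toP J).map S.f) := by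
    rw [Sheaf.Hom.mono_iff_presheaf_mono]
    exact (Sheaf.Hom.mono_iff_presheaf_mono _ _ S.f).mp inferInstance
  have hS' : (ShortComplex.mk ((toP J).map S.f) (cokernel.π ((toP J).map S.f))
      (cokernel.condition _)).ShortExact :=
    { exact := ShortComplex.exact_of_g_is_cokernel _ (cokernelIsCokernel _)
      mono_f := hmono
      epi_g := inferInstanceAs (Epi (cokernel.π ((toP J).map S.f))) }
  refine ⟨cokernel ((toP J).map S.f), cokernel.π ((toP J).map S.f),
    fun V => ((cokernel.π ((toP J).map S.f)).hom.app (op V)).hom, ?_, ?_, ?_, ?_, ?_⟩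
  · intro V W k x
    exact rs_app S.X₂.obj (cokernel.π ((toP J).map S.f)).hom k x
  · intro V a
    exact app_comp_zero (ShortComplex.mk ((toP J).map S.f) (cokernel.π ((toP J).map S.f))
      (cokernel.condition _)) V a
  · intro V x hx
    exact sections_exact (ShortComplex.mk ((toP J).map S.f)
      (cokernel.π ((toP J).map S.f)) (cokernel.condition _)) hS'.exact hmono V x hx
  · intro X R l V f hf
    exact evB_comp l _ f hf
  · intro X R h κ
    obtain ⟨y, hy⟩ := Ext.covariant_sequence_exact₃ (GRb R) hS' (Ext.mk₀ κ) (zero_add 1) (h _)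
    obtain ⟨l, rfl⟩ := Ext.addEquiv₀.symm.surjective y
    rw [Ext.addEquiv₀_symm_apply, Ext.mk₀_comp_mk₀] at hy
    exact ⟨l, (Ext.mk₀_bijective _ _).1 hy⟩

/-- vanishing of `Ext^1` out of free presheaves on covering sieves gives surjectivity on
sections -/
theorem surjective_of_sieveExt1 (S : ShortComplex (Sheaf J AddCommGrpCat.{u})) (hS : S.ShortExact)
    (h : ∀ (X : C) (R : Sieve X), R ∈ J X →
      ∀ ξ : Ext (GRb R) ((toP J).obj S.X₁) 1, ξ = 0) (X : C) :
    Function.Surjective (S.g.hom.app (op X)).hom := by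
  intro z
  haveI := hS.epi_g
  haveI := hS.mono_f
  obtain ⟨R, hRdef⟩ : ∃ R : Sieve X, R = Presheaf.imageSieve S.g.hom z := ⟨_, rfl⟩
  have hR : R ∈ J X := by
    rw [hRdef]
    exact imageSieve_mem_of_epi S.g X z
  have hlift : ∀ (V : C) (f : V ⟶ X), R.arrows f →
      ∃ t : S.X₂.obj.obj (op V), (S.g.hom.app (op V)).hom t = rs S.X₃.obj f z := by
    intro V f hf
    rw [hRdef] at hf
    exact hf
  choose t ht using hlift
  obtain ⟨K, π, πK, hπrs, hπf, hπex, hπev, hπlift⟩ := exists_cokernel_data S hS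
  -- the compatible family of images in the cokernel
  have hk : ∀ (V W : C) (k : W ⟶ V) (f : V ⟶ X) (hf : R.arrows f),
      rs K.obj k (πK V (t V f hf)) = πK W (t W (k ≫ f) (R.downward_closed hf k)) := by
    intro V W k f hf
    rw [← hπrs]
    obtain ⟨a, ha⟩ := sections_exact S hS.exact inferInstance W
      (rs S.X₂.obj k (t V f hf) - t W (k ≫ f) (R.downward_closed hf k)) (by
        rw [map_sub, rs_app, ht, ht, rs_rs, sub_self])
    have e1 : rs S.X₂.obj k (t V f hf) =
        t W (k ≫ f) (R.downward_closed hf k) + (S.f.hom.app (op W)).hom a := by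
      rw [ha]
      abel
    rw [e1, map_add, hπf, add_zero]
  obtain ⟨κ, hκ⟩ := exists_hom (R := R) K (fun V f hf => πK V (t V f hf)) hk
  obtain ⟨l, hl⟩ := hπlift R (h X R hR) κ
  obtain ⟨el, hel⟩ : ∃ el : ∀ (V : C) (f : V ⟶ X), R.arrows f → S.X₂.obj.obj (op V),
      el = fun V f hf => evB l f hf := ⟨_, rfl⟩
  have hel_rs : ∀ (V W : C) (k : W ⟶ V) (f : V ⟶ X) (hf : R.arrows f),
      rs S.X₂.obj k (el V f hf) = el W (k ≫ f) (R.downward_closed hf k) := by
    intro V W k f hf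
    rw [hel]
    exact evB_rs l k f hf
  have hel_π : ∀ (V : C) (f : V ⟶ X) (hf : R.arrows f), πK V (el V f hf) = πK V (t V f hf) := by
    intro V f hf
    rw [hel, ← hπev R l V f hf, hl, hκ]
  have hs : ∀ (V : C) (f : V ⟶ X) (hf : R.arrows f),
      (S.g.hom.app (op V)).hom (el V f hf) = rs S.X₃.obj f z := by
    intro V f hf
    obtain ⟨a, ha⟩ := hπex V (el V f hf - t V f hf) (by rw [map_sub, hel_π, sub_self])
    have e2 : el V f hf = t V f hf + (S.f.hom.app (op V)).hom a := by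
      rw [ha]
      abel
    have e3 : (S.g.hom.app (op V)).hom ((S.f.hom.app (op V)).hom a) = 0 := app_comp_zero S V a
    rw [e2, map_add, e3, add_zero, ht]
  obtain ⟨s, hs'⟩ := exists_glue S.X₂ R hR el hel_rs
  refine ⟨s, ext_sieve S.X₃ R hR _ _ (fun V f hf => ?_)⟩
  rw [← rs_app, hs' V f hf, hs V f hf]

/-- `⇐`: vanishing of the `Ext` groups out of free presheaves on covering sieves implies
acyclicity on all objects -/
theorem acyclic_of_sieveExt (F : Sheaf J AddCommGrpCat.{u})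
    (h : ∀ (X : C) (R : Sieve X), R ∈ J X →
      ∀ (q : ℕ) (ξ : Ext (GRb R) ((toP J).obj F) (q + 1)), ξ = 0)
    (X₀ : C) (n : ℕ) (ξ : Ext (fr J X₀) F (n + 1)) : ξ = 0 := by
  refine Groth.Agent.Lib.ExtAcyclic.ext_eq_zero_of_class (fr J X₀)
    (fun F => ∀ (X : C) (R : Sieve X), R ∈ J X →
      ∀ (q : ℕ) (ξ : Ext (GRb R) ((toP J).obj F) (q + 1)), ξ = 0) ?_ ?_ ?_ n F h ξ
  · intro I hI X R hR q ξ
    haveI := hI
    haveI := toP_injective J I
    exact Ext.eq_zero_of_injective ξ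
  · intro S hS h1 h2 X R hR q ξ
    have hsurj := surjective_of_sieveExt1 S hS (fun X R hR ξ => h1 X R hR 0 ξ)
    have hS' := toP_shortExact J S hS hsurj
    exact ext_X₃_eq_zero (GRb R) hS' q (h2 X R hR q) (h1 X R hR (q + 1)) ξ
  · intro S hS h1 φ
    obtain ⟨t, ht⟩ := surjective_of_sieveExt1 S hS (fun X R hR ξ => h1 X R hR 0 ξ) X₀
      (freeSheafHomEquiv J X₀ S.X₃ φ)
    refine ⟨(freeSheafHomEquiv J X₀ S.X₂).symm t, ?_⟩
    apply (freeSheafHomEquiv J X₀ S.X₃).injective
    rw [freeSheafHomEquiv_comp, Equiv.apply_symm_apply]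
    exact ht

/-- `⇒`: acyclicity on all objects implies vanishing of the `Ext` groups out of free presheaves
on covering sieves -/
theorem sieveExt_of_acyclic (q : ℕ) : ∀ (F : Sheaf J AddCommGrpCat.{u})
    (_ : ∀ (X : C) (n : ℕ) (ξ : Ext (fr J X) F (n + 1)), ξ = 0)
    (X : C) (R : Sieve X) (_ : R ∈ J X) (ξ : Ext (GRb R) ((toP J).obj F) (q + 1)), ξ = 0 := by
  induction q with
  | zero =>
    intro F hF X R hR ξ
    let S : ShortComplex (Sheaf J AddCommGrpCat.{u}) := ShortComplex.mk (Injective.ι F)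
      (cokernel.π (Injective.ι F)) (cokernel.condition _)
    have hS : S.ShortExact :=
      { exact := ShortComplex.exact_of_g_is_cokernel _ (cokernelIsCokernel _)
        mono_f := inferInstanceAs (Mono (Injective.ι F))
        epi_g := inferInstanceAs (Epi (cokernel.π (Injective.ι F))) }
    have hsurj : ∀ V : C, Function.Surjective (S.g.hom.app (op V)).hom :=
      fun V => surjective_of_ext1 J V hS (hF V 0)
    have hS' := toP_shortExact J S hS hsurj
    haveI : Injective ((toP J).obj S.X₂) := toP_injective J (Injective.under F)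
    refine ext1_eq_zero_of_lift (GRb R) hS'
      (fun ξ => Ext.eq_zero_of_injective (I := (toP J).obj S.X₂) ξ) ?_ ξ
    intro φ
    obtain ⟨z, hz⟩ := exists_glue S.X₃ R hR (fun V f hf => evB φ f hf)
      (fun V W k f hf => evB_rs φ k f hf)
    obtain ⟨t, ht⟩ := hsurj X z
    obtain ⟨ψ, hψ⟩ := exists_hom (R := R) ((toP J).obj S.X₂) (fun V f hf => rs S.X₂.obj f t) (by
      intro V W k f hf
      exact rs_rs S.X₂.obj k f t)
    refine ⟨ψ, ?_⟩
    apply hom_ext_evB
    intro V f hf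
    refine (evB_comp ψ ((toP J).map S.g) f hf).trans ?_
    rw [hψ]
    refine (rs_app S.X₂.obj S.g.hom f t).trans ?_
    rw [ht, hz]
  | succ q ih =>
    intro F hF X R hR ξ
    let S : ShortComplex (Sheaf J AddCommGrpCat.{u}) := ShortComplex.mk (Injective.ι F)
      (cokernel.π (Injective.ι F)) (cokernel.condition _)
    have hS : S.ShortExact :=
      { exact := ShortComplex.exact_of_g_is_cokernel _ (cokernelIsCokernel _)
        mono_f := inferInstanceAs (Mono (Injective.ι F))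
        epi_g := inferInstanceAs (Epi (cokernel.π (Injective.ι F))) }
    have hsurj : ∀ V : C, Function.Surjective (S.g.hom.app (op V)).hom :=
      fun V => surjective_of_ext1 J V hS (hF V 0)
    have hS' := toP_shortExact J S hS hsurj
    haveI : Injective ((toP J).obj S.X₂) := toP_injective J (Injective.under F)
    have hQ : ∀ (V : C) (n : ℕ) (ξ : Ext (fr J V) S.X₃ (n + 1)), ξ = 0 :=
      fun V n ξ => ext_X₃_eq_zero _ hS n
        (fun ξ => Ext.eq_zero_of_injective (I := Injective.under F) ξ) (hF V (n + 1)) ξ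
    exact ext_succ_eq_zero_of (GRb R) hS' q
      (fun ξ => Ext.eq_zero_of_injective (I := (toP J).obj S.X₂) ξ)
      (fun x => ih S.X₃ hQ X R hR x) ξ

end Main

end Groth.Agent.Lib.SieveExt
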