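import Mathlib
import Groth.Prelude.Def_CohCx
import Groth.Agent.Lib.CechTot_helper2

/-!
# Sections of totally acyclic sheaves extend along monomorphisms of sheaves of sets
-/

set_option autoImplicit false
universe u
open CategoryTheory Limits Opposite Abelian

namespace Groth.Agent.Lib.TotMono
open Groth.Agent.Lib.ExtRes Groth.Agent.Lib.CechAcyc Groth.Agent.Lib.CechTot

variable {C : Type u} [SmallCategory C] {J : GrothendieckTopology C}

lemma G_map_mono {Y X : Sheaf J (Type u)} (ι : Y ⟶ X) [Mono ι] :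
    Mono ((G (J := J)).map ι) := by
  haveI : Mono ι.hom := (inferInstance : Mono ((sheafToPresheaf J (Type u)).map ι))
  have h2 : Mono (Functor.whiskerRight ι.hom AddCommGrpCat.free.{u}) := by
    haveI : ∀ W, Mono ((Functor.whiskerRight ι.hom AddCommGrpCat.free.{u}).app W) := fun W => by
      haveI : Mono (ι.hom.app W) := inferInstance
      exact inferInstanceAs (Mono (AddCommGrpCat.free.map (ι.hom.app W)))
    exact NatTrans.mono_of_mono_app _
  exact inferInstanceAs (Mono ((presheafToSheaf J AddCommGrpCat.{u}).map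
    (Functor.whiskerRight ι.hom AddCommGrpCat.free.{u})))

lemma exists_extension_of_isPushout {𝒜 : Type*} [Category 𝒜] [Abelian 𝒜] [HasExt 𝒜]
    {A B P : 𝒜} {i : A ⟶ B} [Mono i] {l r : B ⟶ P} (h : IsPushout i i l r) (F : 𝒜)
    (hF : Subsingleton (Ext P F 1)) (φ : A ⟶ F) : ∃ ψ : B ⟶ F, i ≫ ψ = φ := by
  let S : ShortComplex 𝒜 := ShortComplex.mk (biprod.lift i (-i)) (biprod.desc l r)
    (by simp [h.w])
  have hS : S.ShortExact := by
    haveI : Mono S.f := by
      have : Mono (S.f ≫ biprod.fst) := by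
        change Mono (biprod.lift i (-i) ≫ biprod.fst)
        rw [biprod.lift_fst]
        infer_instance
      exact mono_of_mono _ biprod.fst
    haveI : Epi S.g := h.epi_shortComplex_g
    exact { exact := ShortComplex.exact_of_g_is_cokernel _ h.isColimitCokernelCofork }
  obtain ⟨ψ, hψ⟩ := ext_lift F S hS hF φ
  replace hψ : biprod.lift i (-i) ≫ ψ = φ := hψ
  refine ⟨biprod.inl ≫ ψ - biprod.inr ≫ ψ, ?_⟩
  rw [← hψ, biprod.lift_eq]
  simp only [Preadditive.comp_add, Preadditive.comp_neg, Preadditive.add_comp,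
    Preadditive.neg_comp, Category.assoc, sub_eq_add_neg]

/-- S3089 -/
theorem surjective_of_mono (F : Sheaf J AddCommGrpCat.{u}) (hF : CohCx.IsTotallyAcyclic F)
    {Y X : Sheaf J (Type u)} (ι : Y ⟶ X) [Mono ι] :
    Function.Surjective ((CohCx.HK0Functor J F).map ι.op) := by
  intro φ
  have hP : IsPushout ι ι (pushout.inl ι ι) (pushout.inr ι ι) := IsPushout.of_hasPushout ι ι
  have hGP := hP.map (G (J := J))
  haveI : Mono ((G (J := J)).map ι) := G_map_mono ι
  obtain ⟨ψ, hψ⟩ := exists_extension_of_isPushout hGP F (hF (pushout ι ι) 0) φ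
  exact ⟨ψ, hψ⟩

end Groth.Agent.Lib.TotMono
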