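import Mathlib
import Groth.Agent.Lib.TotMono_helper2
import Groth.Agent.Lib.SieveExt_helper2

/-!
# Sections of totally acyclic sheaves extend from arbitrary sieves
-/

set_option autoImplicit false
universe u
open CategoryTheory Limits Opposite

namespace Groth.Agent.Lib.Supp
open Groth.Agent.Lib.CechAcyc Groth.Agent.Lib.CechSite Groth.Agent.Lib.SieveExt

variable {C : Type u} [SmallCategory C] {J : GrothendieckTopology C}

/-- maps of presheaves `ℤ[P'] ⟶ F` extend along monomorphisms `P' ⟶ P` of presheaves of sets when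
`F` is a totally acyclic sheaf -/
theorem exists_extend_presheaf_mono (F : Sheaf J AddCommGrpCat.{u})
    (hF : CohCx.IsTotallyAcyclic F) {P' P : Cᵒᵖ ⥤ Type u} (a : P' ⟶ P) [Mono a]
    (ψ : P' ⋙ AddCommGrpCat.free.{u} ⟶ F.obj) :
    ∃ ψ₁ : P ⋙ AddCommGrpCat.free.{u} ⟶ F.obj,
      Functor.whiskerRight a AddCommGrpCat.free.{u} ≫ ψ₁ = ψ := by
  let adj := sheafificationAdjunction J AddCommGrpCat.{u}
  let e := presheafToSheafCompComposeAndSheafifyIso J AddCommGrpCat.free.{u}
  let ι := (presheafToSheaf J (Type u)).map a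
  haveI : Mono ι := inferInstance
  let φ := (adj.homEquiv (P' ⋙ AddCommGrpCat.free.{u}) F).symm ψ
  obtain ⟨ψ', hψ'⟩ : ∃ ψ' : (G (J := J)).obj ((presheafToSheaf J (Type u)).obj P) ⟶ F,
      (G (J := J)).map ι ≫ ψ' = e.hom.app P' ≫ φ :=
    TotMono.surjective_of_mono F hF ι (e.hom.app P' ≫ φ)
  refine ⟨adj.homEquiv (P ⋙ AddCommGrpCat.free.{u}) F (e.inv.app P ≫ ψ'), ?_⟩
  have h1 := adj.homEquiv_naturality_left (Functor.whiskerRight a AddCommGrpCat.free.{u})
    (e.inv.app P ≫ ψ')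
  refine h1.symm.trans ?_
  have hnat : (presheafToSheaf J AddCommGrpCat.{u}).map
      (Functor.whiskerRight a AddCommGrpCat.free.{u}) ≫ e.inv.app P =
      e.inv.app P' ≫ (G (J := J)).map ι := e.inv.naturality a
  have h2 : (presheafToSheaf J AddCommGrpCat.{u}).map
      (Functor.whiskerRight a AddCommGrpCat.free.{u}) ≫ e.inv.app P ≫ ψ' = φ := by
    calc (presheafToSheaf J AddCommGrpCat.{u}).map
          (Functor.whiskerRight a AddCommGrpCat.free.{u}) ≫ e.inv.app P ≫ ψ'
        = ((presheafToSheaf J AddCommGrpCat.{u}).map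
          (Functor.whiskerRight a AddCommGrpCat.free.{u}) ≫ e.inv.app P) ≫ ψ' :=
          (Category.assoc _ _ _).symm
      _ = (e.inv.app P' ≫ (G (J := J)).map ι) ≫ ψ' := congrArg (fun z => z ≫ ψ') hnat
      _ = e.inv.app P' ≫ ((G (J := J)).map ι ≫ ψ') := Category.assoc _ _ _
      _ = e.inv.app P' ≫ e.hom.app P' ≫ φ := congrArg (fun z => e.inv.app P' ≫ z) hψ'
      _ = φ := e.inv_hom_id_app_assoc P' φ
  rw [h2]
  exact Equiv.apply_symm_apply _ _

/-- a compatible family of sections of a totally acyclic sheaf on an arbitrary sieve extends -/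
theorem exists_extend_sieve (F : Sheaf J AddCommGrpCat.{u}) (hF : CohCx.IsTotallyAcyclic F)
    {X : C} (R : Sieve X)
    (x : ∀ (V : C) (f : V ⟶ X), R.arrows f → F.obj.obj (op V))
    (hx : ∀ (V W : C) (h : W ⟶ V) (f : V ⟶ X) (hf : R.arrows f),
      rs F.obj h (x V f hf) = x W (h ≫ f) (R.downward_closed hf h)) :
    ∃ t : F.obj.obj (op X), ∀ (V : C) (f : V ⟶ X) (hf : R.arrows f), rs F.obj f t = x V f hf := by
  haveI : Mono R.functorInclusion := inferInstance
  obtain ⟨ψ₁, hψ₁⟩ := exists_extend_presheaf_mono F hF R.functorInclusion (mkψ F.obj x hx)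
  refine ⟨(ψ₁.app (op X)).hom (FreeAbelianGroup.of (𝟙 X : (yoneda.obj X).obj (op X))), ?_⟩
  intro V f hf
  have hn := ψ₁.naturality f.op
  have h1 := congrArg (fun k => k.hom
    (FreeAbelianGroup.of (𝟙 X : (yoneda.obj X).obj (op X)))) hn
  have h2 : ((yoneda.obj X ⋙ AddCommGrpCat.free.{u}).map f.op).hom
      (FreeAbelianGroup.of (𝟙 X : (yoneda.obj X).obj (op X))) =
      FreeAbelianGroup.of (f : (yoneda.obj X).obj (op V)) := by
    refine (FreeAbelianGroup.map_of_apply _).trans ?_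
    show FreeAbelianGroup.of (f ≫ 𝟙 X : (yoneda.obj X).obj (op V)) = _
    rw [Category.comp_id]
  have h3 : rs F.obj f ((ψ₁.app (op X)).hom (FreeAbelianGroup.of (𝟙 X : (yoneda.obj X).obj (op X)))) =
      (ψ₁.app (op V)).hom (((yoneda.obj X ⋙ AddCommGrpCat.free.{u}).map f.op).hom
        (FreeAbelianGroup.of (𝟙 X : (yoneda.obj X).obj (op X)))) := h1.symm
  rw [h3, h2]
  have h4 := congrArg (fun k : ZRs R ⟶ F.obj => ev F.obj k f hf) hψ₁
  rw [ev_mkψ] at h4
  exact h4

end Groth.Agent.Lib.Supp
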