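import Mathlib
import Groth.Prelude.Def_ExtSupp
import Groth.Agent.Lib.SuppAdj_helper2
import Groth.Agent.Lib.ModSite16_helper8

/-!
# `Γ_Z` preserves injective sheaves of modules
-/

set_option autoImplicit false
universe u
open CategoryTheory Limits Opposite

namespace Groth.Agent.Lib.Supp
open ModSite Groth.Agent.Lib.ModSiteH8

variable {C : Type u} [SmallCategory C] {J : GrothendieckTopology C}
variable (O : Sheaf J CommRingCat.{u}) (U : C)

noncomputable section PresheafLevel
open Classical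

/-- the counit of the presheaf-level `j_! ⊣ j^*` -/
abbrev c₀ (P : PM O.obj) : (shr O U).obj ((r0 O U).obj P) ⟶ P := (shrAdj O U).counit.app P

lemma c₀_app_of (P : PM O.obj) (W : Cᵒᵖ) (φ : W.unop ⟶ U)
    (x : cmp O U ((r0 O U).obj P) W φ) :
    (c₀ O U P).app W (DirectSum.of (fun χ => cmp O U ((r0 O U).obj P) W χ) φ x) = x :=
  shrFromOver_app_of O U ((r0 O U).obj P) (𝟙 _) W φ x

/-- the presheaf-level quotient `P/P_U` -/
abbrev Q₀ (P : PM O.obj) : PM O.obj := cokernel (c₀ O U P)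

/-- the projection -/
abbrev π₀ (P : PM O.obj) : P ⟶ Q₀ O U P := cokernel.π (c₀ O U P)

lemma π₀_app_eq_zero (P : PM O.obj) {V : C} (g : V ⟶ U) (x : P.obj (op V)) :
    (π₀ O U P).app (op V) x = 0 := by
  have h : c₀ O U P ≫ π₀ O U P = 0 := cokernel.condition _
  have h2 := congrArg (fun ψ : (shr O U).obj ((r0 O U).obj P) ⟶ Q₀ O U P =>
    ψ.app (op V) (DirectSum.of (fun χ => cmp O U ((r0 O U).obj P) (op V) χ) g x)) h
  have h3 : (π₀ O U P).app (op V) ((c₀ O U P).app (op V)
      (DirectSum.of (fun χ => cmp O U ((r0 O U).obj P) (op V) χ) g x)) = 0 := h2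
  rw [c₀_app_of] at h3
  exact h3

lemma c₀_comp_eq_zero {P P'' : PM O.obj} (ψ : P ⟶ P'')
    (h : ∀ ⦃V : C⦄ (_ : V ⟶ U) (x : P.obj (op V)), ψ.app (op V) x = 0) :
    c₀ O U P ≫ ψ = 0 := by
  apply PresheafOfModules.hom_ext
  intro W
  apply sec_hom_ext
  intro φ x
  show ψ.app W ((c₀ O U P).app W
    (DirectSum.of (fun χ => cmp O U ((r0 O U).obj P) W χ) φ x)) = 0
  rw [c₀_app_of]
  exact h φ x

/-- the induced map on quotients -/
abbrev Q₀map {P' P : PM O.obj} (f : P' ⟶ P) : Q₀ O U P' ⟶ Q₀ O U P :=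
  cokernel.map (c₀ O U P') (c₀ O U P) ((shr O U).map ((r0 O U).map f)) f
    ((shrAdj O U).counit.naturality f).symm

lemma π₀_Q₀map {P' P : PM O.obj} (f : P' ⟶ P) :
    π₀ O U P' ≫ Q₀map O U f = f ≫ π₀ O U P :=
  cokernel.π_desc _ _ _

lemma exists_of_π₀_eq_zero (P : PM O.obj) (W : Cᵒᵖ) (m : P.obj W)
    (hm : (π₀ O U P).app W m = 0) :
    ∃ z : ((shr O U).obj ((r0 O U).obj P)).obj W, (c₀ O U P).app W z = m := by
  let S : ShortComplex (PM O.obj) := ShortComplex.mk (c₀ O U P) (π₀ O U P) (cokernel.condition _)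
  have hS : S.Exact := ShortComplex.exact_of_g_is_cokernel _ (cokernelIsCokernel _)
  have hS' := hS.map (PresheafOfModules.evaluation _ W)
  rw [ShortComplex.moduleCat_exact_iff] at hS'
  exact hS' m hm

instance Q₀map_mono {P' P : PM O.obj} (f : P' ⟶ P) [Mono f] : Mono (Q₀map O U f) := by
  apply PresheafOfModules.mono_of_injective
  intro W
  rw [injective_iff_map_eq_zero]
  intro y hy
  obtain ⟨m', rfl⟩ := PresheafOfModules.surjective_of_epi (π₀ O U P') W y
  by_cases hW : Nonempty (W.unop ⟶ U)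
  · obtain ⟨φ⟩ := hW
    exact π₀_app_eq_zero O U P' φ m'
  · have h1 : (π₀ O U P).app W (f.app W m') = 0 := by
      have h2 := congrArg (fun ψ : P' ⟶ Q₀ O U P => ψ.app W m') (π₀_Q₀map O U f)
      exact h2.symm.trans hy
    obtain ⟨z, hz⟩ := exists_of_π₀_eq_zero O U P W _ h1
    haveI : IsEmpty (W.unop ⟶ U) := not_nonempty_iff.1 hW
    have hz0 : z = 0 :=
      Subsingleton.elim (α := DirectSum (W.unop ⟶ U) (fun φ => cmp O U ((r0 O U).obj P) W φ)) z 0
    rw [hz0, map_zero] at hz
    have h3 : m' = 0 := by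
      apply PresheafOfModules.injective_of_mono f W
      rw [← hz, map_zero]
    rw [h3, map_zero]

end PresheafLevel

/-- the sheaf-level quotient `T M = (Q₀ M)^#` -/
noncomputable abbrev TT (M : Mod O) : Mod O := (Lf O).obj (Q₀ O U ((iF O).obj M))

/-- the projection `M ⟶ T M` -/
noncomputable def πT (M : Mod O) : M ⟶ TT O U M :=
  inv ((adjLf O).counit.app M) ≫ (Lf O).map (π₀ O U ((iF O).obj M))

/-- the induced map -/
noncomputable abbrev TTmap {M' M : Mod O} (f : M' ⟶ M) : TT O U M' ⟶ TT O U M :=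
  (Lf O).map (Q₀map O U ((iF O).map f))

instance TTmap_mono {M' M : Mod O} (f : M' ⟶ M) [Mono f] : Mono (TTmap O U f) := by
  haveI : Mono ((iF O).map f) := inferInstance
  haveI : Mono (Q₀map O U ((iF O).map f)) := Q₀map_mono O U _
  exact inferInstanceAs (Mono ((Lf O).map (Q₀map O U ((iF O).map f))))

lemma πT_naturality {M' M : Mod O} (f : M' ⟶ M) :
    f ≫ πT O U M = πT O U M' ≫ TTmap O U f := by
  have h1 : f ≫ inv ((adjLf O).counit.app M) =
      inv ((adjLf O).counit.app M') ≫ (Lf O).map ((iF O).map f) := by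
    rw [IsIso.eq_inv_comp, ← Category.assoc, IsIso.comp_inv_eq]
    exact ((adjLf O).counit.naturality f).symm
  dsimp only [πT, TTmap]
  rw [← Category.assoc, h1, Category.assoc, Category.assoc, ← Functor.map_comp,
    ← Functor.map_comp, π₀_Q₀map]

lemma iF_map_πT (M : Mod O) :
    (iF O).map (πT O U M) = π₀ O U ((iF O).obj M) ≫ (adjLf O).unit.app _ := by
  have h1 : (iF O).map (inv ((adjLf O).counit.app M)) = (adjLf O).unit.app ((iF O).obj M) := by
    have h2 := (adjLf O).right_triangle_components M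
    rw [Functor.map_inv]
    exact IsIso.inv_eq_of_inv_hom_id h2
  dsimp only [πT]
  rw [Functor.map_comp, h1]
  exact ((adjLf O).unit.naturality (π₀ O U ((iF O).obj M))).symm

lemma restr_map_πT (M : Mod O) : (restr O U).map (πT O U M) = 0 := by
  rw [restr_map_eq_zero_iff]
  intro V g x
  have h1 := congrArg (fun ψ : (iF O).obj M ⟶ (iF O).obj (TT O U M) => ψ.app (op V) x)
    (iF_map_πT O U M)
  refine h1.trans ?_
  have hx : (π₀ O U ((iF O).obj M)).app (op V) x = 0 := π₀_app_eq_zero O U _ g x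
  refine (congrArg (fun y => (ConcreteCategory.hom
    (((adjLf O).unit.app (Q₀ O U ((iF O).obj M))).app (op V))) y) hx).trans ?_
  exact map_zero _

/-- every map vanishing on `U` factors through `T M` -/
lemma exists_fac_πT {M N : Mod O} (φ : M ⟶ N) (h : (restr O U).map φ = 0) :
    ∃ φ' : TT O U M ⟶ N, πT O U M ≫ φ' = φ := by
  have h0 : c₀ O U ((iF O).obj M) ≫ (iF O).map φ = 0 :=
    c₀_comp_eq_zero O U _ (fun V g x => (restr_map_eq_zero_iff O U φ).1 h g x)
  let ψ : Q₀ O U ((iF O).obj M) ⟶ (iF O).obj N := cokernel.desc _ ((iF O).map φ) h0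
  refine ⟨((adjLf O).homEquiv _ _).symm ψ, ?_⟩
  dsimp only [πT]
  rw [Category.assoc, ← (adjLf O).homEquiv_naturality_left_symm]
  have h1 : π₀ O U ((iF O).obj M) ≫ ψ = (iF O).map φ := cokernel.π_desc _ _ _
  rw [h1, (adjLf O).homEquiv_counit, IsIso.inv_comp_eq]
  exact (adjLf O).counit.naturality φ

variable [HasPushOver O U]

/-- `Γ_Z` preserves injective objects -/
theorem injective_sectOn (I : Mod O) [Injective I] : Injective ((sectOn O U).obj I) := by
  constructor
  intro A B g f hf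
  have hφ : (restr O U).map (g ≫ (sectOnι O U).app I) = 0 :=
    restr_map_comp_eq_zero_right O U g _ (restr_map_sectOnι O U I)
  obtain ⟨φ', hφ'⟩ := exists_fac_πT O U _ hφ
  haveI : Mono (TTmap O U f) := TTmap_mono O U f
  let ψ' : TT O U B ⟶ I := Injective.factorThru φ' (TTmap O U f)
  have hψ' : TTmap O U f ≫ ψ' = φ' := Injective.comp_factorThru _ _
  have hψ : (restr O U).map (πT O U B ≫ ψ') = 0 :=
    restr_map_comp_eq_zero_left O U _ ψ' (restr_map_πT O U B)
  refine ⟨sectOnLift O U _ hψ, ?_⟩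
  rw [← cancel_mono ((sectOnι O U).app I), Category.assoc, sectOnLift_ι,
    ← Category.assoc, πT_naturality, Category.assoc, hψ', hφ']

instance sectOn_preservesInjectiveObjects : (sectOn O U).PreservesInjectiveObjects :=
  ⟨fun {I} _ => injective_sectOn O U I⟩

end Groth.Agent.Lib.Supp
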