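import Mathlib
import Groth.Prelude.Def_ExtSupp
import Groth.Prelude.Def_SpSeq
import Groth.Agent.Lib.SuppExact_helper2
import Groth.Agent.Lib.ModSite20_helper8
import Groth.Agent.Lib.ModLocGlob2_helper2

/-!
# `M ↦ M/M_U` commutes with tensor products; `Γ_Z` commutes with internal Hom
-/

set_option autoImplicit false
universe u
open CategoryTheory Limits Opposite Abelian

namespace Groth.Agent.Lib.Supp
open ModSite Groth.Agent.Lib.ModSiteH8 Groth.Agent.Lib.ModFree

/-- mutually factoring epimorphisms give an isomorphism -/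
lemma isIso_of_epi_fac {𝒜 : Type*} [Category 𝒜] {X Y₁ Y₂ : 𝒜} (p₁ : X ⟶ Y₁) (p₂ : X ⟶ Y₂)
    [Epi p₁] [Epi p₂] (d : Y₁ ⟶ Y₂) (d' : Y₂ ⟶ Y₁) (h : p₁ ≫ d = p₂) (h' : p₂ ≫ d' = p₁) :
    IsIso d :=
  ⟨d', by rw [← cancel_epi p₁, ← Category.assoc, h, h', Category.comp_id],
    by rw [← cancel_epi p₂, ← Category.assoc, h', h, Category.comp_id]⟩

variable {C : Type u} [SmallCategory C] {J : GrothendieckTopology C}
variable (O : Sheaf J CommRingCat.{u}) (U : C) [HasPushOver O U]

lemma isZero_restr_tensor_left (A M : Mod O) (hA : IsZero ((restr O U).obj A)) :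
    IsZero ((restr O U).obj (((tensorBi O).obj A).obj M)) := by
  obtain ⟨e⟩ := restr_tensor_iso O U A M
  refine IsZero.of_iso ?_ e
  exact ((tensorBi (O.over U)).flip.obj ((restr O U).obj M)).map_isZero hA

lemma isZero_restr_tensor_right (A M : Mod O) (hM : IsZero ((restr O U).obj M)) :
    IsZero ((restr O U).obj (((tensorBi O).obj A).obj M)) := by
  obtain ⟨e⟩ := restr_tensor_iso O U A M
  refine IsZero.of_iso ?_ e
  exact ((tensorBi (O.over U)).obj ((restr O U).obj A)).map_isZero hM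

lemma isZero_restr_sheafHom (M X : Mod O) [HasSheafHom M] (hX : IsZero ((restr O U).obj X)) :
    IsZero ((restr O U).obj ((sheafHom M).obj X)) := by
  haveI := hasSheafHom (O.over U) ((restr O U).obj M)
  obtain ⟨e⟩ := restr_sheafHom_iso O U M X
  refine IsZero.of_iso ?_ e
  exact (sheafHom ((restr O U).obj M)).map_isZero hX

/-- a map from `A ⊗ M` to a module null on `U` kills `A_U ⊗ M` -/
lemma counit_tensor_comp_eq_zero (A M X : Mod O) (φ : ((tensorBi O).flip.obj M).obj A ⟶ X)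
    (hX : IsZero ((restr O U).obj X)) :
    ((tensorBi O).flip.obj M).map ((extZeroAdj O U).counit.app A) ≫ φ = 0 := by
  haveI := hasSheafHom O M
  let adj := sheafHomAdj M
  apply (adj.homEquiv _ _).injective
  rw [adj.homEquiv_naturality_left]
  have h0 : (restr O U).map (adj.homEquiv A X φ) = 0 :=
    (isZero_restr_sheafHom O U M X hX).eq_of_tgt _ _
  exact ((restr_map_eq_zero_iff_counit O U _).1 h0).trans ((adj.homAddEquiv _ _).map_zero).symm

/-- descending along `F(M) ⟶ F(M/M_U)` for a right exact functor `F` -/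
lemma exists_desc_map_quotOn {𝒟 : Type*} [Category 𝒟] [Abelian 𝒟] (F : Mod O ⥤ 𝒟) [F.Additive]
    [PreservesFiniteColimits F] (A : Mod O) {X : 𝒟} (φ : F.obj A ⟶ X)
    (h : F.map ((extZeroAdj O U).counit.app A) ≫ φ = 0) :
    ∃ d : F.obj ((quotOn O U).obj A) ⟶ X, F.map ((quotOnπ O U).app A) ≫ d = φ := by
  have hS := ExtSupp.openSeq_exact U A
  have hS' : ((ExtSupp.openSeq U A).map F).Exact :=
    hS.1.map_of_epi_of_preservesCokernel F hS.2 inferInstance
  haveI : Epi (ExtSupp.openSeq U A).g := hS.2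
  haveI : Epi ((ExtSupp.openSeq U A).map F).g := by
    change Epi (F.map (ExtSupp.openSeq U A).g)
    infer_instance
  exact ⟨hS'.desc φ h, hS'.g_desc φ h⟩

instance (M A : Mod O) : Epi (((tensorBi O).flip.obj M).map ((quotOnπ O U).app A)) :=
  inferInstance

instance (M A : Mod O) : Epi (((tensorBi O).obj A).map ((quotOnπ O U).app M)) :=
  inferInstance

/-- `(A/A_U) ⊗ M ≅ (A ⊗ M)/(A ⊗ M)_U` -/
lemma exists_iso₁ (A M : Mod O) :
    ∃ e : ((tensorBi O).flip.obj M).obj ((quotOn O U).obj A) ≅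
        (quotOn O U).obj (((tensorBi O).flip.obj M).obj A),
      ((tensorBi O).flip.obj M).map ((quotOnπ O U).app A) ≫ e.hom =
        (quotOnπ O U).app (((tensorBi O).flip.obj M).obj A) := by
  have hnull : IsZero ((restr O U).obj (((tensorBi O).flip.obj M).obj ((quotOn O U).obj A))) :=
    isZero_restr_tensor_left O U _ M (ExtSupp.isNullOn_quotOn O U A)
  have h1 : (restr O U).map (((tensorBi O).flip.obj M).map ((quotOnπ O U).app A)) = 0 :=
    hnull.eq_of_tgt _ _
  obtain ⟨d', hd'⟩ := exists_desc_map_quotOn O U ((tensorBi O).flip.obj M) A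
    ((quotOnπ O U).app (((tensorBi O).flip.obj M).obj A))
    (counit_tensor_comp_eq_zero O U A M _ _ (ExtSupp.isNullOn_quotOn O U _))
  haveI := isIso_of_epi_fac _ _ d' (quotOnDesc O U _ h1) hd' (quotOnπ_desc O U _ h1)
  exact ⟨asIso d', hd'⟩

/-- `A ⊗ (M/M_U) ≅ (A ⊗ M)/(A ⊗ M)_U` -/
lemma exists_iso₃ (A M : Mod O) :
    ∃ e : ((tensorBi O).obj A).obj ((quotOn O U).obj M) ≅
        (quotOn O U).obj (((tensorBi O).obj A).obj M),
      ((tensorBi O).obj A).map ((quotOnπ O U).app M) ≫ e.hom =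
        (quotOnπ O U).app (((tensorBi O).obj A).obj M) := by
  have hnull : IsZero ((restr O U).obj (((tensorBi O).obj A).obj ((quotOn O U).obj M))) :=
    isZero_restr_tensor_right O U A _ (ExtSupp.isNullOn_quotOn O U M)
  have h1 : (restr O U).map (((tensorBi O).obj A).map ((quotOnπ O U).app M)) = 0 :=
    hnull.eq_of_tgt _ _
  have h2 : ((tensorBi O).obj A).map ((extZeroAdj O U).counit.app M) ≫
      (quotOnπ O U).app (((tensorBi O).obj A).obj M) = 0 := by
    let σ := sigmaIso O A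
    have hn : ((tensorBi O).obj A).map ((extZeroAdj O U).counit.app M) ≫ σ.hom.app M =
        σ.hom.app _ ≫ ((tensorBi O).flip.obj A).map ((extZeroAdj O U).counit.app M) :=
      σ.hom.naturality _
    have h3 : ((tensorBi O).obj A).map ((extZeroAdj O U).counit.app M) ≫
        (quotOnπ O U).app (((tensorBi O).obj A).obj M) =
        σ.hom.app _ ≫ (((tensorBi O).flip.obj A).map ((extZeroAdj O U).counit.app M) ≫
          (σ.inv.app M ≫ (quotOnπ O U).app (((tensorBi O).obj A).obj M))) := by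
      rw [← Category.assoc, ← hn, Category.assoc, Iso.hom_inv_id_app_assoc]
    have h4 := counit_tensor_comp_eq_zero O U M A _
      (σ.inv.app M ≫ (quotOnπ O U).app (((tensorBi O).obj A).obj M))
      (ExtSupp.isNullOn_quotOn O U _)
    rw [h3]
    exact (congrArg (fun z => σ.hom.app _ ≫ z) h4).trans comp_zero
  obtain ⟨d', hd'⟩ := exists_desc_map_quotOn O U ((tensorBi O).obj A) M
    ((quotOnπ O U).app (((tensorBi O).obj A).obj M)) h2
  haveI := isIso_of_epi_fac _ _ d' (quotOnDesc O U _ h1) hd' (quotOnπ_desc O U _ h1)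
  exact ⟨asIso d', hd'⟩

/-- the component isomorphism -/
noncomputable def iso₁ (A M : Mod O) : ((tensorBi O).flip.obj M).obj ((quotOn O U).obj A) ≅
    (quotOn O U).obj (((tensorBi O).flip.obj M).obj A) := (exists_iso₁ O U A M).choose

lemma iso₁_spec (A M : Mod O) :
    ((tensorBi O).flip.obj M).map ((quotOnπ O U).app A) ≫ (iso₁ O U A M).hom =
      (quotOnπ O U).app (((tensorBi O).flip.obj M).obj A) := (exists_iso₁ O U A M).choose_spec

/-- the component isomorphism -/
noncomputable def iso₃ (A M : Mod O) : ((tensorBi O).obj A).obj ((quotOn O U).obj M) ≅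
    (quotOn O U).obj (((tensorBi O).obj A).obj M) := (exists_iso₃ O U A M).choose

lemma iso₃_spec (A M : Mod O) :
    ((tensorBi O).obj A).map ((quotOnπ O U).app M) ≫ (iso₃ O U A M).hom =
      (quotOnπ O U).app (((tensorBi O).obj A).obj M) := (exists_iso₃ O U A M).choose_spec

/-- `(A/A_U) ⊗ M ≅ (A ⊗ M)/(A ⊗ M)_U`, naturally in `A` -/
noncomputable def quotTensorIso (M : Mod O) :
    quotOn O U ⋙ (tensorBi O).flip.obj M ≅ (tensorBi O).flip.obj M ⋙ quotOn O U :=
  NatIso.ofComponents (fun A => iso₁ O U A M) (by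
    intro A B f
    rw [← cancel_epi (((tensorBi O).flip.obj M).map ((quotOnπ O U).app A))]
    have hA := iso₁_spec O U A M
    have hB := iso₁_spec O U B M
    have h1 : (quotOnπ O U).app A ≫ (quotOn O U).map f = f ≫ (quotOnπ O U).app B :=
      ((quotOnπ O U).naturality f).symm
    have h2 : (quotOnπ O U).app (((tensorBi O).flip.obj M).obj A) ≫
        (quotOn O U).map (((tensorBi O).flip.obj M).map f) =
        ((tensorBi O).flip.obj M).map f ≫ (quotOnπ O U).app _ :=
      ((quotOnπ O U).naturality _).symm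
    dsimp only [Functor.comp_obj, Functor.comp_map]
    rw [← Category.assoc, ← Functor.map_comp, h1, Functor.map_comp, Category.assoc, hB,
      ← Category.assoc, hA, h2]
    rfl)

lemma iso₃_naturality (M : Mod O) {A B : Mod O} (f : A ⟶ B) :
    ((tensorBi O).map f).app ((quotOn O U).obj M) ≫ (iso₃ O U B M).hom =
      (iso₃ O U A M).hom ≫ (quotOn O U).map (((tensorBi O).map f).app M) := by
  have hA := iso₃_spec O U A M
  have hB := iso₃_spec O U B M
  have h1 : ((tensorBi O).obj A).map ((quotOnπ O U).app M) ≫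
      ((tensorBi O).map f).app ((quotOn O U).obj M) =
      ((tensorBi O).map f).app M ≫ ((tensorBi O).obj B).map ((quotOnπ O U).app M) :=
    ((tensorBi O).map f).naturality ((quotOnπ O U).app M)
  have h2 : (quotOnπ O U).app (((tensorBi O).obj A).obj M) ≫
      (quotOn O U).map (((tensorBi O).map f).app M) =
      ((tensorBi O).map f).app M ≫ (quotOnπ O U).app (((tensorBi O).obj B).obj M) :=
    ((quotOnπ O U).naturality (((tensorBi O).map f).app M)).symm
  rw [← cancel_epi (((tensorBi O).obj A).map ((quotOnπ O U).app M)),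
    ← Category.assoc, h1, Category.assoc, hB, ← Category.assoc, hA, h2]

/-- `A ⊗ (M/M_U) ≅ (A ⊗ M)/(A ⊗ M)_U`, naturally in `A` -/
noncomputable def tensorQuotIso (M : Mod O) :
    (tensorBi O).flip.obj ((quotOn O U).obj M) ≅ (tensorBi O).flip.obj M ⋙ quotOn O U :=
  NatIso.ofComponents (fun A => iso₃ O U A M) (fun {A B} f => iso₃_naturality O U M f)

/-- `Γ_Z ∘ ℋom(M, -) ≅ ℋom(M, -) ∘ Γ_Z` -/
noncomputable def sectOnSheafHomIso (M : Mod O) [HasSheafHom M] :
    sheafHom M ⋙ sectOn O U ≅ sectOn O U ⋙ sheafHom M :=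
  (((quotSectAdj O U).comp (sheafHomAdj M)).ofNatIsoLeft (quotTensorIso O U M)).rightAdjointUniq
    ((sheafHomAdj M).comp (quotSectAdj O U))

/-- `Γ_Z ∘ ℋom(M, -) ≅ ℋom(M/M_U, -)` -/
noncomputable def sectOnSheafHomQuotIso (M : Mod O) [HasSheafHom M]
    [HasSheafHom ((quotOn O U).obj M)] :
    sheafHom M ⋙ sectOn O U ≅ sheafHom ((quotOn O U).obj M) :=
  (((quotSectAdj O U).comp (sheafHomAdj M)).ofNatIsoLeft
    (quotTensorIso O U M ≪≫ (tensorQuotIso O U M).symm)).rightAdjointUniq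
    (sheafHomAdj ((quotOn O U).obj M))

/-- `Γ(Γ_Z ℋom(M, -)) ≅ Hom(M/M_U, -)` -/
noncomputable def gammaZHomIso (M : Mod O) [HasSheafHom M] :
    ExtSupp.gammaZHom U M ≅ ExtDer.hom ((quotOn O U).obj M) :=
  haveI := hasSheafHom O ((quotOn O U).obj M)
  (Functor.associator _ _ _).symm ≪≫
    Functor.isoWhiskerRight (sectOnSheafHomQuotIso O U M) (ExtDer.hom (ModSite.unit O)) ≪≫
    (homSheafHomIso O ((quotOn O U).obj M)).symm

/-- `R^q(Γ ∘ Γ_Z ∘ ℋom(M, -)) ≅ Ext^q(M/M_U, -)` -/
theorem nonempty_extZR_iso [HasInjectiveResolutions (Mod O)] [HasExt.{u} (Mod O)]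
    (M : Mod O) [HasSheafHom M] (q : ℕ) :
    Nonempty (ExtSupp.ExtZR U M q ≅ Abelian.extFunctorObj ((quotOn O U).obj M) q) :=
  ⟨ExtDer.rightDerivedIso (gammaZHomIso O U M) q ≪≫ ExtDer.natIso ((quotOn O U).obj M) q⟩

/-- `H^p(C, ℰxt^q_Z(M, N)) ⇒ Ext^{p+q}_Z(M, N)` -/
theorem ss_HC_extZSh [HasInjectiveResolutions (Mod O)] [HasExt.{u} (Mod O)] (M N : Mod O)
    [HasSheafHom M] :
    ∃ (E : E₂CohomologicalSpectralSequence AddCommGrpCat.{u})
      (a : SpSeq.Abutment E (fun n : ℤ =>
        if 0 ≤ n then AddCommGrpCat.of (ExtSupp.ExtZ U M N n.toNat)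
          else AddCommGrpCat.of PUnit.{u + 1})),
      (∀ n, a.IsFinite n) ∧ SpSeq.IsBounded E ∧
      ∀ p q : ℤ, Nonempty ((E.page 2 le_rfl).X (p, q) ≅
        (if 0 ≤ p ∧ 0 ≤ q then
          AddCommGrpCat.of (ModSite.HC O ((ModSite.extZSh U M q.toNat).obj N) p.toNat)
         else AddCommGrpCat.of PUnit.{u + 1})) := by
  haveI := hasSheafHom O ((quotOn O U).obj M)
  have hT : ∀ Q : Mod O, Injective Q → ∀ q : ℕ, 0 < q →
      Limits.IsZero (((ExtDer.hom (ModSite.unit O)).rightDerived q).obj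
        ((sheafHom M ⋙ sectOn O U).obj Q)) := by
    intro Q hQ q hq
    refine Limits.IsZero.of_iso ?_ (((ExtDer.hom (ModSite.unit O)).rightDerived q).mapIso
      ((sectOnSheafHomQuotIso O U M).app Q))
    exact hT_sheafHom O ((quotOn O U).obj M) Q hQ q hq
  apply Groth.Agent.Lib.GrothSS.grothendieck_ss_flex (sheafHom M ⋙ sectOn O U)
    (ExtDer.hom (ModSite.unit O)) hT N
  · intro n
    rw [if_pos (by omega)]
    simp only [Int.toNat_natCast]
    exact ⟨(ExtDer.rightDerivedIso ((Functor.associator _ _ _) ≪≫ gammaZHomIso O U M) n).app N ≪≫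
      (ExtDer.natIso ((quotOn O U).obj M) n).app N⟩
  · intro n hn
    rw [if_neg (by omega)]
    exact AddCommGrpCat.isZero_of_subsingleton _
  · intro p q
    rw [if_pos ⟨by omega, by omega⟩]
    simp only [Int.toNat_natCast]
    exact nonempty_rightDerived_homUnit_iso_HC O _ p
  · intro p q h
    rw [if_neg (by omega)]
    exact AddCommGrpCat.isZero_of_subsingleton _

end Groth.Agent.Lib.Supp
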