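import Mathlib
import Groth.Prelude.Def_ExtSupp
import Groth.Agent.Lib.SuppTensor_helper2
import Groth.Agent.Lib.TotMono_helper2
import Groth.Agent.Lib.ModFreeExt_helper2

/-!
# Cohomology with supports `H^q_Z` of the underlying abelian sheaf versus `Ext^q_O(O/O_U, -)`
-/

set_option autoImplicit false
universe u
open CategoryTheory Limits Opposite Abelian

namespace Groth.Agent.Lib.Supp
open ModSite Groth.Agent.Lib.ModFree Groth.Agent.Lib.CechAcyc Groth.Agent.Lib.ExtRes
  Groth.Agent.Lib.FunctorialInjective Groth.Agent.Lib.LerayHU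

section General

universe w
variable {𝒜 : Type*} [Category 𝒜] [Abelian 𝒜] [HasExt.{w} 𝒜]

lemma subsingleton_ext_X₃ (S : ShortComplex 𝒜) (hS : S.ShortExact) (F : 𝒜) (p : ℕ)
    (h2 : Subsingleton (Ext.{w} S.X₂ F (p + 1)))
    (h1 : ∀ x₁ : Ext.{w} S.X₁ F p, ∃ x₂ : Ext.{w} S.X₂ F p,
      (Ext.mk₀ S.f).comp x₂ (zero_add p) = x₁) :
    Subsingleton (Ext.{w} S.X₃ F (p + 1)) := by
  have key : ∀ x : Ext.{w} S.X₃ F (p + 1), x = 0 := by
    intro x
    obtain ⟨x₁, hx₁⟩ := Ext.contravariant_sequence_exact₃ hS F x (Subsingleton.elim _ _)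
      (show 1 + p = p + 1 by omega)
    obtain ⟨x₂, rfl⟩ := h1 x₁
    rw [← hx₁, hS.extClass_comp_assoc]
  exact ⟨fun a b => (key a).trans (key b).symm⟩

end General

variable {C : Type u} [SmallCategory C] {J : GrothendieckTopology C}

instance G_preservesEpi : (G (J := J)).PreservesEpimorphisms :=
  Functor.preservesEpimorphisms_of_adjunction (Sheaf.adjunction J AddCommGrpCat.adj.{u})

/-- cohomology with supports of a totally acyclic sheaf vanishes -/
theorem subsingleton_ext_quotZ (K₀ : Sheaf J (Type u)) (F : Sheaf J AddCommGrpCat.{u})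
    (hF : CohCx.IsTotallyAcyclic F) (p : ℕ) :
    Subsingleton (Abelian.Ext.{u} (ToposFin.quotZ K₀) F (p + 1)) := by
  let t : K₀ ⟶ ⊤_ (Sheaf J (Type u)) := terminal.from K₀
  let e := Sheaf.toImage t
  let ι := Sheaf.imageι t
  have hfac : e ≫ ι = t := Sheaf.toImage_ι t
  haveI : Mono ((G (J := J)).map ι) := Groth.Agent.Lib.TotMono.G_map_mono ι
  haveI : Epi ((G (J := J)).map e) := inferInstance
  let S : ShortComplex (Sheaf J AddCommGrpCat.{u}) :=
    ShortComplex.mk ((G (J := J)).map ι) (cokernel.π ((G (J := J)).map ι)) (cokernel.condition _)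
  have hS : S.ShortExact :=
    { exact := ShortComplex.exact_of_g_is_cokernel _ (cokernelIsCokernel _)
      mono_f := inferInstanceAs (Mono ((G (J := J)).map ι))
      epi_g := inferInstanceAs (Epi (cokernel.π ((G (J := J)).map ι))) }
  have h3 : Subsingleton (Ext.{u} S.X₃ F (p + 1)) := by
    refine subsingleton_ext_X₃ S hS F p (hF (⊤_ (Sheaf J (Type u))) p) ?_
    intro x₁
    rcases p with _ | k
    · obtain ⟨ψ, hψ⟩ := Groth.Agent.Lib.TotMono.surjective_of_mono F hF ι (Ext.addEquiv₀ x₁)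
      have hψ' : (G (J := J)).map ι ≫ ψ = Ext.addEquiv₀ x₁ := hψ
      refine ⟨Ext.mk₀ ψ, ?_⟩
      change (Ext.mk₀ ((G (J := J)).map ι)).comp (Ext.mk₀ ψ) (zero_add 0) = x₁
      rw [Ext.mk₀_comp_mk₀, hψ', Ext.mk₀_addEquiv₀_apply]
    · haveI : Subsingleton (Ext.{u} S.X₁ F (k + 1)) := hF (Sheaf.image t) k
      exact ⟨0, Subsingleton.elim _ _⟩
  let iso : ToposFin.quotZ K₀ ≅ cokernel ((G (J := J)).map ι) :=
    cokernelIsoOfEq (show (ToposFin.freeAb J).map t = (G (J := J)).map e ≫ (G (J := J)).map ι by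
      rw [← Functor.map_comp, hfac]) ≪≫ cokernelEpiComp _ _
  exact subsingleton_ext_of_iso F iso (p + 1) h3

/-- the map to the terminal presheaf of sets -/
def toPt₀ (P : Cᵒᵖ ⥤ Type u) : P ⟶ pt C := { app := fun _ => TypeCat.ofHom (fun _ => PUnit.unit) }

/-- the map to the terminal sheaf of sets -/
def toPt (K : Sheaf J (Type u)) : K ⟶ ptSheaf J := ⟨toPt₀ K.obj⟩

lemma ptSheaf_hom_ext {K : Sheaf J (Type u)} (f g : K ⟶ ptSheaf J) : f = g := by
  apply Sheaf.hom_ext
  ext W x
  rfl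

/-- `ptSheaf` is terminal -/
def isTerminalPtSheaf : IsTerminal (ptSheaf J) :=
  IsTerminal.ofUniqueHom (fun K => toPt K) (fun _ _ => ptSheaf_hom_ext _ _)

variable (J) in
/-- `ℤ_U ⟶ ℤ[pt]` -/
noncomputable def gpt (U : C) : (G (J := J)).obj (ToposFin.eps J U) ⟶ (L₂ (J := J)).obj (pt C) :=
  (L₂ (J := J)).map (toPt₀ (ToposFin.eps J U).obj)

lemma G_map_toPt (U : C) : (G (J := J)).map (toPt (ToposFin.eps J U)) = gpt J U := rfl

variable (J) in
/-- `ℤ_U ⟶ ℤ` -/
noncomputable def κ (U : C) : (G (J := J)).obj (ToposFin.eps J U) ⟶ cZ J :=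
  gpt J U ≫ (L₂ptIso J).hom

variable (J) in
/-- `ℤ/ℤ_U` as the cokernel of `κ` -/
noncomputable def quotZIso (U : C) : ToposFin.quotZ (ToposFin.eps J U) ≅ cokernel (κ J U) :=
  cokernel.mapIso _ _ (Iso.refl _)
    ((G (J := J)).mapIso (terminalIsTerminal.uniqueUpToIso isTerminalPtSheaf) ≪≫ L₂ptIso J) (by
      have h : terminal.from (ToposFin.eps J U) ≫
          (terminalIsTerminal.uniqueUpToIso (isTerminalPtSheaf (J := J))).hom = toPt _ :=
        ptSheaf_hom_ext _ _
      have h' : (G (J := J)).map (terminal.from (ToposFin.eps J U)) ≫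
          (G (J := J)).map (terminalIsTerminal.uniqueUpToIso (isTerminalPtSheaf (J := J))).hom =
          gpt J U := by
        rw [← Functor.map_comp, h, G_map_toPt]
      change (G (J := J)).map (terminal.from (ToposFin.eps J U)) ≫
        ((G (J := J)).map (terminalIsTerminal.uniqueUpToIso (isTerminalPtSheaf (J := J))).hom ≫
          (L₂ptIso J).hom) = 𝟙 _ ≫ (gpt J U ≫ (L₂ptIso J).hom)
      rw [Category.id_comp, ← Category.assoc, h']
      rfl)

/-- maps out of `ℤ_U` are sections over `U` -/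
noncomputable def homGepsEquiv (U : C) (F : Sheaf J AddCommGrpCat.{u}) :
    ((G (J := J)).obj (ToposFin.eps J U) ⟶ F) ≃ F.obj.obj (op U) :=
  (((adj₂ (J := J)).homEquiv (ToposFin.eps J U).obj F).trans
    ((fullyFaithfulSheafToPresheaf J (Type u)).homEquiv
      (X := ToposFin.eps J U) (Y := (sheafCompose J (forget AddCommGrpCat.{u})).obj F)).symm).trans
    (((sheafificationAdjunction J (Type u)).homEquiv (yoneda.obj U)
      ((sheafCompose J (forget AddCommGrpCat.{u})).obj F)).trans yonedaEquiv)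

lemma subsingleton_hom_Geps (U : C) (F : Sheaf J AddCommGrpCat.{u})
    (h : Subsingleton (F.obj.obj (op U))) :
    Subsingleton ((G (J := J)).obj (ToposFin.eps J U) ⟶ F) :=
  (homGepsEquiv U F).subsingleton

variable (O : Sheaf J CommRingCat.{u}) (U : C) [HasPushOver O U]

lemma κ_comp_eΓ_π :
    κ J U ≫ eΓ (ringSh O) _ ((quotOnπ O U).app (ModSite.unit O)) = 0 := by
  haveI := subsingleton_hom_Geps U (toAb ((quotOn O U).obj (ModSite.unit O))) (by
    refine ⟨fun a b => ?_⟩
    have h := (ExtSupp.isNullOn_iff O U _).1 (ExtSupp.isNullOn_quotOn O U (ModSite.unit O))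
    exact (h (𝟙 U) a).trans (h (𝟙 U) b).symm)
  exact Subsingleton.elim _ _

lemma restr_map_eq_zero_of_κ (X : Mod O) (φ : ModSite.unit O ⟶ X)
    (h : κ J U ≫ eΓ (ringSh O) X φ = 0) : (restr O U).map φ = 0 := by
  -- the section over `U` vanishes
  have h1 : φ.val.app (op U) (1 : (ringSh O).obj.obj (op U)) = 0 := by
    let η : yoneda.obj U ⟶ (ToposFin.eps J U).obj := toSheafify J (yoneda.obj U)
    let a : yoneda.obj U ⟶ pt C := η ≫ toPt₀ (ToposFin.eps J U).obj
    have h2 : gpt J U ≫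
        ((adj₂ (J := J)).homEquiv (pt C) _).symm (s₁ (ringSh O) X φ) = 0 := by
      have h3 : κ J U ≫ eΓ (ringSh O) X φ = gpt J U ≫
          ((adj₂ (J := J)).homEquiv (pt C) _).symm (s₁ (ringSh O) X φ) := by
        change (gpt J U ≫ (L₂ptIso J).hom) ≫
          ((L₂ptIso J).inv ≫ ((adj₂ (J := J)).homEquiv (pt C) _).symm (s₁ (ringSh O) X φ)) = _
        rw [Category.assoc, Iso.hom_inv_id_assoc]
      rw [← h3, h]
    have h4 : ((adj₂ (J := J)).homEquiv (yoneda.obj U) _).symm (a ≫ s₁ (ringSh O) X φ) = 0 := by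
      rw [(adj₂ (J := J)).homEquiv_naturality_left_symm]
      have h5 : (L₂ (J := J)).map a = (L₂ (J := J)).map η ≫ gpt J U :=
        (L₂ (J := J)).map_comp η (toPt₀ (ToposFin.eps J U).obj)
      rw [h5, Category.assoc]
      exact (congrArg (fun z => (L₂ (J := J)).map η ≫ z) h2).trans comp_zero
    have h6 : a ≫ s₁ (ringSh O) X φ =
        (adj₂ (J := J)).homEquiv (yoneda.obj U) ((SheafOfModules.toSheaf (ringSh O)).obj X) 0 := by
      rw [← h4, Equiv.apply_symm_apply]
    have h7 := congrArg (fun τ : yoneda.obj U ⟶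
      (R₂ (J := J)).obj ((SheafOfModules.toSheaf (ringSh O)).obj X) => τ.app (op U) (𝟙 U)) h6
    rw [(adj₂ (J := J)).homEquiv_unit] at h7
    exact h7
  rw [restr_map_eq_zero_iff]
  intro V g x
  let r : (ringSh O).obj.obj (op V) := x
  let m1 : (SheafOfModules.unit (ringSh O)).val.obj (op V) := (1 : (ringSh O).obj.obj (op V))
  have h8 : φ.val.app (op V) m1 = 0 := by
    have hn := PresheafOfModules.naturality_apply φ.val g.op (1 : (ringSh O).obj.obj (op U))
    have h1' : (SheafOfModules.unit (ringSh O)).val.map g.op (1 : (ringSh O).obj.obj (op U)) =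
        m1 := map_one ((ringSh O).obj.map g.op).hom
    rw [h1'] at hn
    exact hn.trans ((congrArg (fun y => X.val.map g.op y) h1).trans (map_zero _))
  have h9 : x = r • m1 := (mul_one r).symm
  rw [h9, map_smul, h8, smul_zero]

end Groth.Agent.Lib.Supp
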