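import Mathlib
import Groth.Agent.Lib.SuppAdj_helper2
import Groth.Agent.Lib.ModSite9_helper8

/-!
# Sections of `Γ_Z(B)` on a ringed site

A section `x ∈ B(W)` lies in `Γ_Z(B)(W)` iff `x|_V = 0` for every `V ⟶ W` such that `V` maps to `U`.
-/

set_option autoImplicit false
universe u
open CategoryTheory Limits Opposite

namespace Groth.Agent.Lib.Supp
open ModSite Groth.Agent.Lib.ModSiteH8

variable {C : Type u} [SmallCategory C] {J : GrothendieckTopology C}
variable (O : Sheaf J CommRingCat.{u}) (U : C)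

/-- vanishing on `U` of a map out of a sheafification can be tested on presheaf sections -/
lemma restr_map_eq_zero_of_presheaf {P : PM O.obj} {N : Mod O} (θ : (Lf O).obj P ⟶ N)
    (h : ∀ ⦃V : C⦄ (_ : V ⟶ U) (p : P.obj (op V)),
      θ.val.app (op V) ((etaP O P).app (op V) p) = 0) :
    (restr O U).map θ = 0 := by
  rw [restr_map_eq_zero_iff]
  intro V k s
  obtain ⟨S, hS, hl⟩ := etaP_ELS O P (op V) s
  apply (Presheaf.IsSheaf.isSeparated N.isSheaf) _ _ hS
  intro V' f hf
  obtain ⟨t, ht⟩ := hl f hf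
  have h1 := PresheafOfModules.naturality_apply θ.val f.op s
  have h2 : N.val.presheaf.map f.op (θ.val.app (op V) s) = 0 := by
    refine h1.symm.trans ?_
    exact (congrArg (fun z => θ.val.app (op V') z) ht.symm).trans (h (f ≫ k) t)
  exact h2.trans (map_zero (N.val.presheaf.map f.op).hom).symm

/-- sections over `W` as maps out of the free module sheaf on `W` -/
noncomputable def sectEquivY (W : C) (M : Mod O) :
    ((Lf O).obj (freeY O W) ⟶ M) ≃ sect M W :=
  ((adjLf O).homEquiv (freeY O W) M).trans PresheafOfModules.freeYonedaEquiv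

lemma sectEquivY_comp (W : C) {M N : Mod O} (h : (Lf O).obj (freeY O W) ⟶ M) (g : M ⟶ N) :
    sectEquivY O W N (h ≫ g) = g.val.app (op W) (sectEquivY O W M h) := by
  have h1 : (adjLf O).homEquiv (freeY O W) N (h ≫ g) =
      (adjLf O).homEquiv (freeY O W) M h ≫ (iF O).map g :=
    Adjunction.homEquiv_naturality_right _ _ _
  have h2 : PresheafOfModules.freeYonedaEquiv
      ((adjLf O).homEquiv (freeY O W) M h ≫ (iF O).map g) =
      g.val.app (op W) (PresheafOfModules.freeYonedaEquiv
        ((adjLf O).homEquiv (freeY O W) M h)) := rfl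
  exact (congrArg PresheafOfModules.freeYonedaEquiv h1).trans h2

/-- a map out of the free presheaf of modules on a representable, on basis elements -/
lemma freeY_app_freeMk {W : C} {Q : PM O.obj} (τ : freeY O W ⟶ Q) {V : C} (g : V ⟶ W) :
    τ.app (op V) (ModuleCat.freeMk (g : (yoneda.obj W).obj (op V))) =
      Q.map g.op (PresheafOfModules.freeYonedaEquiv τ) := by
  have h1 := PresheafOfModules.naturality_apply τ g.op
    (ModuleCat.freeMk (𝟙 W : (yoneda.obj W).obj (op W)))
  have h2 : (freeY O W).map g.op (ModuleCat.freeMk (𝟙 W : (yoneda.obj W).obj (op W))) =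
      ModuleCat.freeMk (g : (yoneda.obj W).obj (op V)) := by
    refine (ModuleCat.freeDesc_apply _ _).trans ?_
    show ModuleCat.freeMk (g ≫ 𝟙 W : (yoneda.obj W).obj (op V)) = _
    rw [Category.comp_id]
  rw [← h2]
  exact h1

/-- the map out of the free module sheaf on `W` attached to a section vanishing on everything
over `U` restricts to zero on `U` -/
lemma restr_map_sectEquivY_symm_eq_zero {W : C} (B : Mod O) (x : sect B W)
    (hx : ∀ ⦃V : C⦄ (g : V ⟶ W), Nonempty (V ⟶ U) → B.val.map g.op x = 0) :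
    (restr O U).map ((sectEquivY O W B).symm x) = 0 := by
  obtain ⟨τ, hτ⟩ : ∃ τ : freeY O W ⟶ (iF O).obj B,
      τ = (PresheafOfModules.freeYonedaEquiv
        (R := O.obj ⋙ forget₂ CommRingCat.{u} RingCat.{u}) (M := (iF O).obj B) (X := W)).symm x :=
    ⟨_, rfl⟩
  obtain ⟨θ, hθ⟩ : ∃ θ : (Lf O).obj (freeY O W) ⟶ B,
      θ = ((adjLf O).homEquiv (freeY O W) B).symm τ := ⟨_, rfl⟩
  have hθx : (sectEquivY O W B).symm x = θ := by
    rw [hθ, hτ]
    rfl
  rw [hθx]
  have hτx : PresheafOfModules.freeYonedaEquiv τ = x := by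
    rw [hτ, Equiv.apply_symm_apply]
  have hτθ : (adjLf O).unit.app (freeY O W) ≫ (iF O).map θ = τ := by
    have e1 := (adjLf O).homEquiv_unit (X := freeY O W) (Y := B) (f := θ)
    rw [← e1, hθ, Equiv.apply_symm_apply]
  apply restr_map_eq_zero_of_presheaf
  intro V k p
  have h1 : τ.app (op V) = 0 := by
    apply ModuleCat.free_hom_ext
    intro g
    refine (freeY_app_freeMk O τ g).trans ?_
    rw [hτx]
    exact (hx g ⟨k⟩).trans rfl
  have h2 := congrArg (fun z : freeY O W ⟶ (iF O).obj B => z.app (op V) p) hτθ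
  refine Eq.trans ?_ (h2.trans ?_)
  · rfl
  · show τ.app (op V) p = 0
    rw [h1]
    rfl

variable [HasPushOver O U]

/-- sections of `Γ_Z(B)` vanish on everything over `U` -/
lemma sectOnι_map_eq_zero {W : C} (B : Mod O) (y : sect ((sectOn O U).obj B) W)
    ⦃V : C⦄ (g : V ⟶ W) (hV : Nonempty (V ⟶ U)) :
    B.val.map g.op (((sectOnι O U).app B).val.app (op W) y) = 0 := by
  obtain ⟨k⟩ := hV
  have h1 := PresheafOfModules.naturality_apply ((sectOnι O U).app B).val g.op y
  have h2 := (restr_map_eq_zero_iff O U ((sectOnι O U).app B)).1 (restr_map_sectOnι O U B) k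
    (((sectOn O U).obj B).val.map g.op y)
  exact h1.symm.trans h2

/-- **Sections of `Γ_Z(B)`**: a section of `B` over `W` vanishing on everything over `U` comes
from `Γ_Z(B)` -/
lemma exists_sectOn_of_vanish {W : C} (B : Mod O) (x : sect B W)
    (hx : ∀ ⦃V : C⦄ (g : V ⟶ W), Nonempty (V ⟶ U) → B.val.map g.op x = 0) :
    ∃ y : sect ((sectOn O U).obj B) W, ((sectOnι O U).app B).val.app (op W) y = x := by
  have h := restr_map_sectEquivY_symm_eq_zero O U B x hx
  refine ⟨sectEquivY O W _ (sectOnLift O U _ h), ?_⟩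
  rw [← sectEquivY_comp, sectOnLift_ι]
  exact Equiv.apply_symm_apply (sectEquivY O W B) x

lemma mem_sectOn_iff {W : C} (B : Mod O) (x : sect B W) :
    (∃ y : sect ((sectOn O U).obj B) W, ((sectOnι O U).app B).val.app (op W) y = x) ↔
      ∀ ⦃V : C⦄ (g : V ⟶ W), Nonempty (V ⟶ U) → B.val.map g.op x = 0 := by
  constructor
  · rintro ⟨y, rfl⟩ V g hV
    exact sectOnι_map_eq_zero O U B y g hV
  · exact exists_sectOn_of_vanish O U B x

/-- `Γ_Z(B)(W) ⟶ B(W)` is injective -/
lemma sectOnι_app_injective (W : C) (B : Mod O) :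
    Function.Injective (((sectOnι O U).app B).val.app (op W)) := by
  intro y y' h
  apply (sectEquivY O W _).symm.injective
  rw [← cancel_mono ((sectOnι O U).app B)]
  apply (sectEquivY O W B).injective
  rw [sectEquivY_comp, sectEquivY_comp, Equiv.apply_symm_apply, Equiv.apply_symm_apply]
  exact h

end Groth.Agent.Lib.Supp
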