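import Mathlib
import Groth.Agent.Lib.SuppSect_helper2
import Groth.Agent.Lib.SuppExt_helper2
import Groth.Agent.Lib.SuppHZ_helper2
import Groth.Agent.Lib.PushAcyc_helper2
import Groth.Agent.Lib.AcycPred_helper2
import Groth.Agent.Lib.ModFree_helper2
import Groth.Agent.Lib.SheafOfModulesGrothendieck_helper2

/-!
# Modules with totally acyclic underlying abelian sheaf are `Γ_Z`-acyclic
-/

set_option autoImplicit false
universe u
open CategoryTheory Limits Opposite Abelian

namespace Groth.Agent.Lib.Supp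
open ModSite Groth.Agent.Lib.ModSiteH8 Groth.Agent.Lib.CechSite

variable {C : Type u} [SmallCategory C] {J : GrothendieckTopology C}

lemma totallyAcyclic_of_iso {F F' : Sheaf J AddCommGrpCat.{u}} (e : F ≅ F')
    (h : CohCx.IsTotallyAcyclic F) : CohCx.IsTotallyAcyclic F' := by
  intro K q
  refine subsingleton_of_forall_eq 0 fun x => ?_
  have h1 : x.comp (Ext.mk₀ e.inv) (add_zero _) = 0 := @Subsingleton.elim _ (h K q) _ _
  have h2 : (x.comp (Ext.mk₀ e.inv) (add_zero _)).comp (Ext.mk₀ e.hom) (add_zero _) = x := by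
    rw [Ext.comp_assoc_of_third_deg_zero, Ext.mk₀_comp_mk₀, e.inv_hom_id, Ext.comp_mk₀_id]
  rw [← h2, h1, Ext.zero_comp]

lemma totallyAcyclic_X₃ (S : ShortComplex (Sheaf J AddCommGrpCat.{u})) (hS : S.ShortExact)
    (h₁ : CohCx.IsTotallyAcyclic S.X₁) (h₂ : CohCx.IsTotallyAcyclic S.X₂) :
    CohCx.IsTotallyAcyclic S.X₃ := by
  intro K q
  refine subsingleton_of_forall_eq 0 fun x₃ => ?_
  have h1 : x₃.comp hS.extClass (rfl : q + 1 + 1 = q + 1 + 1) = 0 := by
    haveI := h₁ K (q + 1)
    exact Subsingleton.elim _ _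
  obtain ⟨x₂, hx₂⟩ := Ext.covariant_sequence_exact₃ _ hS x₃ rfl h1
  haveI := h₂ K q
  rw [← hx₂, Subsingleton.elim x₂ 0, Ext.zero_comp]

/-- lifting sections vanishing on a sieve through an epimorphism with totally acyclic kernel -/
theorem exists_lift_vanishing (S : ShortComplex (Sheaf J AddCommGrpCat.{u})) (hS : S.ShortExact)
    (h1 : CohCx.IsTotallyAcyclic S.X₁) {W : C} (R : Sieve W) (c : S.X₃.obj.obj (op W))
    (hc : ∀ (V : C) (f : V ⟶ W), R.arrows f → rs S.X₃.obj f c = 0) :
    ∃ b : S.X₂.obj.obj (op W), (S.g.hom.app (op W)).hom b = c ∧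
      ∀ (V : C) (f : V ⟶ W), R.arrows f → rs S.X₂.obj f b = 0 := by
  haveI := hS.mono_f
  obtain ⟨b, hb⟩ := PushAcyc.surj_sections S hS W
    (PushAcyc.objAcyclic_of_totallyAcyclic _ h1 W 0) c
  have hb' : (S.g.hom.app (op W)).hom b = c := hb
  have hex : ∀ (V : C) (f : V ⟶ W), R.arrows f →
      ∃ a : S.X₁.obj.obj (op V), (S.f.hom.app (op V)).hom a = rs S.X₂.obj f b := by
    intro V f hf
    apply sections_exact S hS.exact inferInstance V
    rw [rs_app, hb']
    exact hc V f hf
  choose a ha using hex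
  have hcompat : ∀ (V V' : C) (h : V' ⟶ V) (f : V ⟶ W) (hf : R.arrows f),
      rs S.X₁.obj h (a V f hf) = a V' (h ≫ f) (R.downward_closed hf h) := by
    intro V V' h f hf
    apply app_injective S.f V'
    rw [rs_app, ha, ha, rs_rs]
  obtain ⟨t, ht⟩ := exists_extend_sieve S.X₁ h1 R a hcompat
  refine ⟨b - (S.f.hom.app (op W)).hom t, ?_, ?_⟩
  · rw [map_sub, app_comp_zero S W t, sub_zero]
    exact hb'
  · intro V f hf
    rw [map_sub, ← rs_app, ht V f hf, ha, sub_self]

/-- the sieve on `W` of the arrows whose source maps to `U` -/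
def sieveOver (U W : C) : Sieve W where
  arrows V _ := Nonempty (V ⟶ U)
  downward_closed := by
    rintro V V' f ⟨k⟩ h
    exact ⟨h ≫ k⟩

variable (O : Sheaf J CommRingCat.{u}) (U : C) [HasPushOver O U]

lemma toSheaf_shortExact (S : ShortComplex (Mod O)) (hS : S.ShortExact) :
    (S.map (SheafOfModules.toSheaf (ringSh O))).ShortExact := by
  haveI := toSheaf_preservesColimitsOfSize (ringSh O)
  haveI : PreservesFiniteColimits (SheafOfModules.toSheaf (ringSh O)) :=
    ⟨fun _ _ _ => inferInstance⟩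
  exact hS.map_of_exact _

/-- `Γ_Z` is exact on short exact sequences with totally acyclic kernel -/
theorem epi_sectOn_map (S : ShortComplex (Mod O)) (hS : S.ShortExact)
    (h1 : CohCx.IsTotallyAcyclic (toAb S.X₁)) : Epi ((sectOn O U).map S.g) := by
  have hS' := toSheaf_shortExact O S hS
  haveI : (SheafOfModules.toSheaf (ringSh O)).ReflectsEpimorphisms :=
    Functor.reflectsEpimorphisms_of_faithful _
  apply (SheafOfModules.toSheaf (ringSh O)).epi_of_epi_map
  rw [← Sheaf.isLocallySurjective_iff_epi']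
  apply Presheaf.isLocallySurjective_of_surjective
  intro W c
  obtain ⟨c₀, hc₀⟩ : ∃ c₀ : sect S.X₃ W.unop,
      c₀ = ((sectOnι O U).app S.X₃).val.app W c := ⟨_, rfl⟩
  obtain ⟨b, hb, hb0⟩ := exists_lift_vanishing (S.map (SheafOfModules.toSheaf (ringSh O))) hS' h1
    (sieveOver U W.unop) c₀ (fun V f hf => by
      rw [hc₀]
      exact sectOnι_map_eq_zero O U S.X₃ c f hf)
  obtain ⟨y, hy⟩ := exists_sectOn_of_vanish O U S.X₂ b (fun V f hV => hb0 V f hV)
  refine ⟨y, ?_⟩
  apply sectOnι_app_injective O U W.unop S.X₃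
  have hnat := congrArg (fun z : (sectOn O U).obj S.X₂ ⟶ S.X₃ => z.val.app W y)
    ((sectOnι O U).naturality S.g)
  exact hnat.trans ((congrArg (fun z => S.g.val.app W z) hy).trans (hb.trans hc₀))

instance : (sectOn O U).IsRightAdjoint := (quotSectAdj O U).isRightAdjoint

/-- a module whose underlying abelian sheaf is totally acyclic is `Γ_Z`-acyclic -/
theorem acyclic_sectOn_of_totallyAcyclic [HasInjectiveResolutions (Mod O)] (M : Mod O)
    (hM : CohCx.IsTotallyAcyclic (toAb M)) : LerayDer.Acyclic (sectOn O U) M := by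
  haveI := Groth.Agent.Lib.FunctorialInjective.isGrothendieckAbelian_sheafOfModules J (ringSh O)
  haveI : EnoughInjectives (Mod O) := inferInstance
  exact AcycPred.acyclic_of_pred (sectOn O U) (fun X => CohCx.IsTotallyAcyclic (toAb X))
    (fun X _ => ModFree.totallyAcyclic_toSheaf_of_injective (ringSh O) X)
    (fun X Y e h => totallyAcyclic_of_iso ((SheafOfModules.toSheaf (ringSh O)).mapIso e) h)
    (fun S hS h₁ h₂ => ⟨epi_sectOn_map O U S hS h₁,
      totallyAcyclic_X₃ (S.map (SheafOfModules.toSheaf (ringSh O)))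
        (toSheaf_shortExact O S hS) h₁ h₂⟩) M hM

end Groth.Agent.Lib.Supp
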