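import Mathlib
import Groth.Agent.Lib.SuppExact_helper2
import Groth.Agent.Lib.SuppAcyc_helper2
import Groth.Agent.Lib.DerivedLES_helper2
import Groth.Agent.Lib.DerivedComm_helper8
import Groth.Agent.Lib.ModSite20_helper8

/-!
# Local cohomology for a subterminal object: `ℋ¹_Z = coker (M → j_* j^* M)`, `ℋ^{q+1}_Z = R^q j_* j^*`
-/

set_option autoImplicit false
universe u
open CategoryTheory Limits Opposite

namespace Groth.Agent.Lib.Supp
open ModSite Groth.Agent.Lib.ModSiteH8

variable {C : Type u} [SmallCategory C] {J : GrothendieckTopology C}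
variable (O : Sheaf J CommRingCat.{u}) (U : C)

section PresheafLevel
open Classical

variable (hU : ∀ V : C, Subsingleton (V ⟶ U))

include hU in
lemma c₀_app_injective (P : PM O.obj) (W : Cᵒᵖ) :
    Function.Injective ((c₀ O U P).app W) := by
  have key : ∀ z : Sec O U ((r0 O U).obj P) W, (c₀ O U P).app W z = 0 → z = 0 := by
    intro z hz
    haveI := hU W.unop
    apply DFinsupp.ext
    intro φ
    have hz' : z = DirectSum.of (fun χ => cmp O U ((r0 O U).obj P) W χ) φ (z φ) := by
      apply DFinsupp.ext
      intro ψ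
      obtain rfl : ψ = φ := Subsingleton.elim _ _
      exact (DirectSum.of_eq_same (β := fun χ => cmp O U ((r0 O U).obj P) W χ) ψ (z ψ)).symm
    rw [hz', c₀_app_of] at hz
    exact hz
  intro z z' h
  have h0 : (c₀ O U P).app W (z - z') = 0 := by
    rw [map_sub, h, sub_self]
  exact sub_eq_zero.1 (key (z - z') h0)

include hU in
lemma mono_c₀ (P : PM O.obj) : Mono (c₀ O U P) :=
  PresheafOfModules.mono_of_injective (fun W => c₀_app_injective O U hU P W)

end PresheafLevel

variable (hU : ∀ V : C, Subsingleton (V ⟶ U))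

include hU in
lemma mono_extZero'_counit (M : Mod O) : Mono ((extZero'Adj O U).counit.app M) := by
  have h := Adjunction.map_restrictFullyFaithful_counit_app (shrLfAdj O U)
    (show (iF (O.over U)).FullyFaithful from SheafOfModules.fullyFaithfulForget _)
    (Functor.FullyFaithful.id _)
    (Functor.rightUnitor (extZero' O U)).symm (restrCommIso O U) M
  have h' : (extZero'Adj O U).counit.app M =
      ((Functor.rightUnitor (extZero' O U)).symm).inv.app ((restr O U).obj M) ≫
        (shr O U ⋙ Lf O).map ((restrCommIso O U).inv.app M) ≫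
          (shrLfAdj O U).counit.app M := h
  rw [h']
  haveI : Mono (c₀ O U ((iF O).obj M)) := mono_c₀ O U hU _
  haveI : Mono ((Lf O).map (c₀ O U ((iF O).obj M))) := inferInstance
  have a0 : Mono ((shrLfAdj O U).counit.app M) := by
    have h2 : (shrLfAdj O U).counit.app M =
        (Lf O).map (c₀ O U ((iF O).obj M)) ≫ (adjLf O).counit.app M :=
      Adjunction.comp_counit_app _ _ _
    rw [h2]
    infer_instance
  haveI a1 : Mono (((Functor.rightUnitor (extZero' O U)).symm).inv.app ((restr O U).obj M)) :=
    inferInstance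
  haveI a2 : Mono ((shr O U ⋙ Lf O).map ((restrCommIso O U).inv.app M)) := by
    haveI : IsIso ((shr O U ⋙ Lf O).map ((restrCommIso O U).inv.app M)) := inferInstance
    infer_instance
  have a3 : Mono ((shr O U ⋙ Lf O).map ((restrCommIso O U).inv.app M) ≫
      (shrLfAdj O U).counit.app M) := @mono_comp _ _ _ _ _ _ a2 _ a0
  exact @mono_comp _ _ _ _ _ _ a1 _ a3

include hU in
/-- for a subterminal `U` the counit `j_! j^* M ⟶ M` is a monomorphism -/
lemma mono_extZero_counit (M : Mod O) : Mono ((extZeroAdj O U).counit.app M) := by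
  have h := Adjunction.leftAdjointUniq_hom_app_counit (extZeroAdj O U) (extZero'Adj O U) M
  rw [← h]
  haveI := mono_extZero'_counit O U hU M
  infer_instance

variable [HasPushOver O U]

include hU in
/-- for a subterminal `U` and an injective `I`, the unit `I ⟶ j_* j^* I` is a split epimorphism -/
lemma exists_section_unit (I : Mod O) [Injective I] :
    ∃ ψ : (pushOver O U).obj ((restr O U).obj I) ⟶ I,
      ψ ≫ (restrPushOverAdj O U).unit.app I = 𝟙 _ := by
  let A1 := extZeroAdj O U
  let A2 := restrPushOverAdj O U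
  let M : Mod O := (pushOver O U).obj ((restr O U).obj I)
  let f : (extZero O U).obj ((restr O U).obj M) ⟶ I :=
    (A1.homEquiv _ _).symm (A2.counit.app ((restr O U).obj I))
  haveI : Mono (A1.counit.app M) := mono_extZero_counit O U hU M
  let ψ : M ⟶ I := Injective.factorThru f (A1.counit.app M)
  have hψ : A1.counit.app M ≫ ψ = f := Injective.comp_factorThru _ _
  refine ⟨ψ, ?_⟩
  apply (A2.homEquiv M ((restr O U).obj I)).symm.injective
  have h1 : (A2.homEquiv M ((restr O U).obj I)).symm (ψ ≫ A2.unit.app I) = (restr O U).map ψ := by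
    rw [Adjunction.homEquiv_counit, Functor.map_comp, Category.assoc,
      A2.left_triangle_components, Category.comp_id]
  have h2 : (A2.homEquiv M ((restr O U).obj I)).symm (𝟙 M) = A2.counit.app ((restr O U).obj I) := by
    rw [Adjunction.homEquiv_counit, CategoryTheory.Functor.map_id, Category.id_comp]
  rw [h1, h2]
  have h3 : A1.homEquiv _ _ (A1.counit.app M ≫ ψ) = (restr O U).map ψ := by
    rw [Adjunction.homEquiv_unit, Functor.map_comp, ← Category.assoc,
      A1.right_triangle_components, Category.id_comp]
  rw [← h3, hψ]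
  exact Equiv.apply_symm_apply _ _

lemma sectOnι_comp_unit : sectOnι O U ≫ (restrPushOverAdj O U).unit = 0 := by
  apply NatTrans.ext
  funext M
  exact kernel.condition ((restrPushOverAdj O U).unit.app M)

include hU in
lemma shortExact_sectOn_unit [(pushOver O U).Additive] [HasInjectiveResolutions (Mod O)]
    (I : Mod O) [Injective I] :
    (ShortComplex.mk ((sectOnι O U).app I) ((restrPushOverAdj O U).unit.app I)
      (DerivedLES.app_zero (sectOnι O U) (restrPushOverAdj O U).unit
        (sectOnι_comp_unit O U) I)).ShortExact := by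
  obtain ⟨ψ, hψ⟩ := exists_section_unit O U hU I
  haveI : IsSplitEpi ((restrPushOverAdj O U).unit.app I) := IsSplitEpi.mk' ⟨ψ, hψ⟩
  exact
    { exact := ShortComplex.exact_of_f_is_kernel _ (kernelIsKernel _)
      mono_f := inferInstanceAs (Mono ((sectOnι O U).app I))
      epi_g := inferInstanceAs (Epi ((restrPushOverAdj O U).unit.app I)) }

include hU in
/-- S12890 -/
theorem nonempty_HZsh_subterminal [(pushOver O U).Additive] [HasInjectiveResolutions (Mod O)]
    [HasInjectiveResolutions (Mod (O.over U))] :
    Nonempty (HZsh O U 1 ≅ cokernel (restrPushOverAdj O U).unit) ∧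
      ∀ q : ℕ, 1 ≤ q →
        Nonempty (HZsh O U (q + 1) ≅ restr O U ⋙ (pushOver O U).rightDerived q) := by
  have hI : ∀ I : Mod O, Injective I →
      (ShortComplex.mk ((sectOnι O U).app I) ((restrPushOverAdj O U).unit.app I)
        (DerivedLES.app_zero (sectOnι O U) (restrPushOverAdj O U).unit
          (sectOnι_comp_unit O U) I)).ShortExact :=
    fun I hI => shortExact_sectOn_unit O U hU I
  haveI : (pushOver O U).IsRightAdjoint := (restrPushOverAdj O U).isRightAdjoint
  haveI : PreservesFiniteLimits (restr O U ⋙ pushOver O U) := comp_preservesFiniteLimits _ _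
  constructor
  · obtain ⟨e⟩ := DerivedLES.cokernelIso (sectOnι O U) (restrPushOverAdj O U).unit
      (sectOnι_comp_unit O U) hI (fun X => DerivedLES.isZero_rightDerived_id 0 X)
    exact ⟨e.symm⟩
  · intro q hq
    obtain ⟨p, rfl⟩ : ∃ p, q = p + 1 := ⟨q - 1, by omega⟩
    obtain ⟨e⟩ := DerivedLES.δnatIso (sectOnι O U) (restrPushOverAdj O U).unit
      (sectOnι_comp_unit O U) hI (p + 1) (fun X => DerivedLES.isZero_rightDerived_id p X)
      (fun X => DerivedLES.isZero_rightDerived_id (p + 1) X)
    exact ⟨e.symm ≪≫
      Groth.Agent.Lib.DerivedCommH8.rightDerivedPrecompIso (restr O U) (pushOver O U) (p + 1)⟩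

end Groth.Agent.Lib.Supp
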