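import Mathlib
import Groth.Prelude.Def_ModSite
import Groth.Agent.Lib.SuppSubterm_helper2
import Groth.Agent.Lib.SuppAdj_helper2
import Groth.Agent.Lib.ModSite20_helper8
import Groth.Agent.Lib.SheafHomLF1_helper9

/-!
# Duality for finite locally free modules, part 2 (helper4)

A Yoneda-type criterion: a natural transformation `κ : T ⟶ T'` of endofunctors of `Mod O` such
that `Γ(W, T -)` and `Γ(W, T' -)` are both corepresented by `j_!(O_W^n)` (`W` subterminal) and
`κ` is an isomorphism at the unit, is bijective on sections over `W` (`CoRep.bijective_comp`).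
APPEND-ONLY once landed.
-/

set_option autoImplicit false
set_option linter.style.haveILetI false
universe u
open CategoryTheory Limits Opposite

namespace Groth.Agent.Lib.DualLFH4
open ModSite Groth.Agent.Lib.ModSiteH8 Groth.Agent.Lib.Supp

section Generic

variable {D : Type*} [Category D]

lemma bijective_precomp_of_iso {A X Y : D} (a : A ⟶ A) (φ : X ≅ Y)
    (h : Function.Bijective (fun f : A ⟶ X => a ≫ f)) :
    Function.Bijective (fun f : A ⟶ Y => a ≫ f) := by
  have e : (fun f : A ⟶ Y => a ≫ f) =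
      (φ.homToEquiv (Z := A)) ∘ (fun f : A ⟶ X => a ≫ f) ∘ (φ.homToEquiv (Z := A)).symm := by
    funext f
    simp [Iso.homToEquiv]
  rw [e]
  exact (φ.homToEquiv.bijective.comp h).comp (φ.homToEquiv (Z := A)).symm.bijective

lemma bijective_precomp_pi {ι : Type*} {A : D} (X : ι → D) [HasProduct X] (a : A ⟶ A)
    (h : ∀ i, Function.Bijective (fun f : A ⟶ X i => a ≫ f)) :
    Function.Bijective (fun f : A ⟶ ∏ᶜ X => a ≫ f) := by
  constructor
  · intro f g hfg
    apply Limits.Pi.hom_ext
    intro i
    apply (h i).1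
    show a ≫ f ≫ Pi.π X i = a ≫ g ≫ Pi.π X i
    rw [← Category.assoc, ← Category.assoc]
    exact congrArg (· ≫ Pi.π X i) hfg
  · intro g
    choose f hf using fun i => (h i).2 (g ≫ Pi.π X i)
    refine ⟨Pi.lift f, ?_⟩
    apply Limits.Pi.hom_ext
    intro i
    show (a ≫ Pi.lift f) ≫ Pi.π X i = g ≫ Pi.π X i
    rw [Category.assoc, Limits.Pi.lift_π]
    exact hf i

lemma isIso_of_bijective_precomp_self {A : D} (a : A ⟶ A)
    (h : Function.Bijective (fun f : A ⟶ A => a ≫ f)) : IsIso a := by
  obtain ⟨l, hl⟩ := h.2 (𝟙 A)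
  have hl' : a ≫ l = 𝟙 A := hl
  refine ⟨l, hl', ?_⟩
  apply h.1
  show a ≫ l ≫ a = a ≫ 𝟙 A
  rw [← Category.assoc, hl', Category.id_comp, Category.comp_id]

end Generic

variable {C : Type u} [SmallCategory C] {J : GrothendieckTopology C}
variable (O : Sheaf J CommRingCat.{u}) (W : C)

/-- the corepresenting object `j_!(O_W^n)` -/
noncomputable abbrev AA (n : ℕ) : Mod O :=
  (extZero O W).obj (∐ fun _ : Fin n => ModSite.unit (O.over W))

/-- `j_!(O_W^n) ≅ (j_! O_W)^n` (as a product) -/
noncomputable def AAIso (n : ℕ) :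
    AA O W n ≅ ∏ᶜ fun _ : Fin n => (extZero O W).obj ((restr O W).obj (ModSite.unit O)) := by
  haveI : PreservesColimitsOfSize.{0, 0} (extZero O W) :=
    (extZeroAdj O W).leftAdjoint_preservesColimits
  haveI : HasFiniteBiproducts (Mod O) := Abelian.hasFiniteBiproducts
  haveI : HasBiproductsOfShape (Fin n) (Mod O) := HasFiniteBiproducts.out n
  exact PreservesCoproduct.iso (extZero O W) (fun _ : Fin n => ModSite.unit (O.over W)) ≪≫
    (biproduct.isoCoproduct (fun _ : Fin n => (extZero O W).obj (ModSite.unit (O.over W)))).symm ≪≫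
    biproduct.isoProduct _

section Sub

variable (hW : ∀ V : C, Subsingleton (V ⟶ W))
include hW

/-- restriction inverts the counit of `j_! ⊣ j^*` -/
lemma isIso_restr_counit (F : Mod O) :
    IsIso ((restr O W).map ((extZeroAdj O W).counit.app F)) := by
  haveI := mono_extZero_counit O W hW F
  haveI : Mono ((restr O W).map ((extZeroAdj O W).counit.app F)) := by
    haveI : (restr O W).IsRightAdjoint := inferInstance
    infer_instance
  haveI : IsSplitEpi ((restr O W).map ((extZeroAdj O W).counit.app F)) :=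
    IsSplitEpi.mk' ⟨(extZeroAdj O W).unit.app ((restr O W).obj F),
      (extZeroAdj O W).right_triangle_components F⟩
  exact isIso_of_mono_of_isSplitEpi _

lemma bijective_comp_counit (A₀ : Mod (O.over W)) (F : Mod O) :
    Function.Bijective
      (fun f : (extZero O W).obj A₀ ⟶ (extZero O W).obj ((restr O W).obj F) =>
        f ≫ (extZeroAdj O W).counit.app F) := by
  haveI := isIso_restr_counit O W hW F
  let E : ((extZero O W).obj A₀ ⟶ (extZero O W).obj ((restr O W).obj F)) ≃
      ((extZero O W).obj A₀ ⟶ F) :=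
    ((extZeroAdj O W).homEquiv A₀ _).trans
      ((asIso ((restr O W).map ((extZeroAdj O W).counit.app F))).homToEquiv.trans
        ((extZeroAdj O W).homEquiv A₀ F).symm)
  have h : (fun f : (extZero O W).obj A₀ ⟶ (extZero O W).obj ((restr O W).obj F) =>
      f ≫ (extZeroAdj O W).counit.app F) = E := by
    funext f
    show _ = ((extZeroAdj O W).homEquiv A₀ F).symm
      (((extZeroAdj O W).homEquiv A₀ _) f ≫ (restr O W).map ((extZeroAdj O W).counit.app F))
    rw [← Adjunction.homEquiv_naturality_right, Equiv.symm_apply_apply]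
  rw [h]
  exact E.bijective

theorem isIso_of_bijective_precomp_unit (n : ℕ) (a : AA O W n ⟶ AA O W n)
    (h : Function.Bijective (fun f : AA O W n ⟶ ModSite.unit O => a ≫ f)) : IsIso a := by
  let B' : Mod O := (extZero O W).obj ((restr O W).obj (ModSite.unit O))
  have h0 := bijective_comp_counit O W hW (∐ fun _ : Fin n => ModSite.unit (O.over W))
    (ModSite.unit O)
  have h1 : Function.Bijective (fun f : AA O W n ⟶ B' => a ≫ f) := by
    have hc : (fun f : AA O W n ⟶ B' => (a ≫ f) ≫ (extZeroAdj O W).counit.app (ModSite.unit O)) =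
        (fun g : AA O W n ⟶ ModSite.unit O => a ≫ g) ∘
          (fun f : AA O W n ⟶ B' => f ≫ (extZeroAdj O W).counit.app (ModSite.unit O)) := by
      funext f
      exact Category.assoc _ _ _
    have hb : Function.Bijective
        ((fun f : AA O W n ⟶ B' => f ≫ (extZeroAdj O W).counit.app (ModSite.unit O)) ∘
          (fun f : AA O W n ⟶ B' => a ≫ f)) := by
      show Function.Bijective
        (fun f : AA O W n ⟶ B' => (a ≫ f) ≫ (extZeroAdj O W).counit.app (ModSite.unit O))
      rw [hc]
      exact h.comp h0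
    exact (Function.Bijective.of_comp_iff' h0 _).mp hb
  have h2 := bijective_precomp_pi (fun _ : Fin n => B') a (fun _ => h1)
  have h3 := bijective_precomp_of_iso a (AAIso O W n).symm h2
  exact isIso_of_bijective_precomp_self a h3

end Sub

/-- `Hom(B, T -)` is corepresented by `A`. -/
structure CoRep (T : Mod O ⥤ Mod O) (B A : Mod O) where
  /-- the bijections -/
  e : ∀ G : Mod O, (B ⟶ T.obj G) ≃ (A ⟶ G)
  /-- naturality -/
  nat : ∀ {G G' : Mod O} (f : B ⟶ T.obj G) (g : G ⟶ G'), e G' (f ≫ T.map g) = e G f ≫ g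

namespace CoRep

variable {O}
variable {T T' : Mod O ⥤ Mod O} {B A : Mod O}

lemma nat_symm (r : CoRep O T B A) {G G' : Mod O} (x : A ⟶ G) (g : G ⟶ G') :
    (r.e G').symm (x ≫ g) = (r.e G).symm x ≫ T.map g := by
  apply (r.e G').injective
  rw [Equiv.apply_symm_apply, r.nat, Equiv.apply_symm_apply]

/-- the endomorphism of `A` induced by a natural transformation (Yoneda) -/
def endo (r : CoRep O T B A) (r' : CoRep O T' B A) (κ : T ⟶ T') : A ⟶ A :=
  r'.e A ((r.e A).symm (𝟙 A) ≫ κ.app A)

lemma endo_comp (r : CoRep O T B A) (r' : CoRep O T' B A) (κ : T ⟶ T') {G : Mod O}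
    (x : A ⟶ G) : r'.e G ((r.e G).symm x ≫ κ.app G) = endo r r' κ ≫ x := by
  have h1 : (r.e G).symm x = (r.e A).symm (𝟙 A) ≫ T.map x := by
    rw [← nat_symm, Category.id_comp]
  rw [h1, Category.assoc, κ.naturality, ← Category.assoc, r'.nat]
  rfl

lemma comp_eq (r : CoRep O T B A) (r' : CoRep O T' B A) (κ : T ⟶ T') (G : Mod O) :
    (fun f : B ⟶ T.obj G => f ≫ κ.app G) =
      (r'.e G).symm ∘ (fun x : A ⟶ G => endo r r' κ ≫ x) ∘ (r.e G) := by
  funext f
  show f ≫ κ.app G = (r'.e G).symm (endo r r' κ ≫ (r.e G) f)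
  rw [← endo_comp, Equiv.symm_apply_apply, Equiv.symm_apply_apply]

end CoRep

/-- **Yoneda criterion.** -/
theorem CoRep.bijective_comp (hW : ∀ V : C, Subsingleton (V ⟶ W)) {T T' : Mod O ⥤ Mod O}
    {B : Mod O} (n : ℕ) (r : CoRep O T B (AA O W n)) (r' : CoRep O T' B (AA O W n))
    (κ : T ⟶ T') [IsIso (κ.app (ModSite.unit O))] (G : Mod O) :
    Function.Bijective (fun f : B ⟶ T.obj G => f ≫ κ.app G) := by
  have h1 : Function.Bijective
      (fun x : AA O W n ⟶ ModSite.unit O => CoRep.endo r r' κ ≫ x) := by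
    have h2 : Function.Bijective
        (fun f : B ⟶ T.obj (ModSite.unit O) => f ≫ κ.app (ModSite.unit O)) :=
      (asIso (κ.app (ModSite.unit O))).homToEquiv.bijective
    rw [CoRep.comp_eq r r' κ] at h2
    have h3 := (Function.Bijective.of_comp_iff' (r'.e (ModSite.unit O)).symm.bijective _).mp h2
    exact (Function.Bijective.of_comp_iff _ (r.e (ModSite.unit O)).bijective).mp h3
  haveI := isIso_of_bijective_precomp_unit O W hW n _ h1
  rw [CoRep.comp_eq r r' κ]
  exact ((r'.e G).symm.bijective.comp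
    (asIso (CoRep.endo r r' κ)).symm.homFromEquiv.bijective).comp (r.e G).bijective

end Groth.Agent.Lib.DualLFH4
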