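import Mathlib
import Groth.Prelude.Def_ModSite
import Groth.Agent.Lib.DualLF1_helper4
import Groth.Agent.Lib.DualLF2_helper4

/-!
# Duality for finite locally free modules, part 3 (helper4)

Over a subterminal object `W` on which `E` is free of rank `n`, the canonical map
`G ⊗ E^∨ ⟶ ℋom(E, G)` is bijective on sections over `W` (`bijective_kappa`).
APPEND-ONLY once landed.
-/

set_option autoImplicit false
set_option linter.style.haveILetI false
universe u
open CategoryTheory Limits Opposite

namespace Groth.Agent.Lib.DualLFH4
open ModSite Groth.Agent.Lib.ModSiteH8 SheafHomLFH9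

variable {C : Type u} [SmallCategory C] {J : GrothendieckTopology C}
variable (O : Sheaf J CommRingCat.{u})

/-- `P^{⊕ n} ≅ P^{× n}`, naturally -/
noncomputable def sumProdIso (n : ℕ) : sumF O n ≅ prodF O n := by
  haveI : HasFiniteBiproducts (Mod O) := Abelian.hasFiniteBiproducts
  haveI : HasBiproductsOfShape (Fin n) (Mod O) := HasFiniteBiproducts.out n
  exact NatIso.ofComponents
    (fun P => (biproduct.isoCoproduct (fun _ : Fin n => P)).symm ≪≫
      biproduct.isoProduct (fun _ : Fin n => P)) (by
    intro P P' p
    have h1 : (sumF O n).map p = (biproduct.isoCoproduct (fun _ : Fin n => P)).inv ≫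
        biproduct.map (fun _ : Fin n => p) ≫ (biproduct.isoCoproduct (fun _ : Fin n => P')).hom := by
      show Limits.Sigma.map (fun _ : Fin n => p) = _
      aesop
    have h2 : (prodF O n).map p = (biproduct.isoProduct (fun _ : Fin n => P)).inv ≫
        biproduct.map (fun _ : Fin n => p) ≫ (biproduct.isoProduct (fun _ : Fin n => P')).hom := by
      show Limits.Pi.map (fun _ : Fin n => p) = _
      aesop
    rw [h1, h2]
    simp only [Iso.trans_hom, Iso.symm_hom]
    erw [Category.assoc, Category.assoc, Iso.hom_inv_id_assoc, Category.assoc,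
      Iso.hom_inv_id_assoc]
    rfl)

variable (W : C) (n : ℕ)

section CoRepHom

variable (E : Mod O) [HasSheafHom E]
  (s : (restr O W).obj E ≅ ∐ fun _ : Fin n => ModSite.unit (O.over W))

/-- `O[W] ⊗ E ≅ j_!(O_W^n)` over a trivializing `W` -/
noncomputable def freeTensorTriv :
    ((tensorBi O).flip.obj E).obj (freeOn O W) ≅ AA O W n :=
  (freeOn_tensor_iso O W E).some ≪≫ (extZero O W).mapIso s

/-- sections of `ℋom(E, -)` over a trivializing `W` are corepresented by `j_!(O_W^n)` -/
noncomputable def coRepHom : CoRep O (sheafHom E) (freeOn O W) (AA O W n) where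
  e G := ((sheafHomAdj E).homEquiv (freeOn O W) G).symm.trans
    (freeTensorTriv O W n E s).homFromEquiv
  nat {G G'} f g := by
    show (freeTensorTriv O W n E s).inv ≫
        ((sheafHomAdj E).homEquiv (freeOn O W) G').symm (f ≫ (sheafHom E).map g) =
      ((freeTensorTriv O W n E s).inv ≫ ((sheafHomAdj E).homEquiv (freeOn O W) G).symm f) ≫ g
    rw [Adjunction.homEquiv_naturality_right_symm, Category.assoc]

end CoRepHom

section CoRepTensor

variable (N : Mod O) (t : (restr O W).obj N ≅ ∐ fun _ : Fin n => ModSite.unit (O.over W))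

/-- `(G ⊗ N)|_W ≅ (G|_W)^n` naturally in `G`, over a trivializing `W` -/
noncomputable def restrTensorTriv :
    (tensorBi O).flip.obj N ⋙ restr O W ≅ restr O W ⋙ prodF (O.over W) n :=
  restrTensorNatIso O W N ≪≫ Functor.isoWhiskerLeft (restr O W)
    ((tensorBi (O.over W)).flip.mapIso t ≪≫ (tensorFreeIso (O.over W) n).symm ≪≫
      sumProdIso (O.over W) n)

/-- sections of `- ⊗ N` over a trivializing `W` are corepresented by `j_!(O_W^n)` -/
noncomputable def coRepTensor : CoRep O ((tensorBi O).flip.obj N) (freeOn O W) (AA O W n) where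
  e G := ((extZeroAdj O W).homEquiv (ModSite.unit (O.over W))
      (((tensorBi O).flip.obj N).obj G)).trans
    (((restrTensorTriv O W n N t).app G).homToEquiv.trans
      (((sumProdAdj (O.over W) n).homEquiv (ModSite.unit (O.over W))
        ((restr O W).obj G)).symm.trans
        ((extZeroAdj O W).homEquiv ((sumF (O.over W) n).obj (ModSite.unit (O.over W))) G).symm))
  nat {G G'} f g := by
    show ((extZeroAdj O W).homEquiv _ G').symm
        (((sumProdAdj (O.over W) n).homEquiv _ _).symm
          (((extZeroAdj O W).homEquiv _ _) (f ≫ ((tensorBi O).flip.obj N).map g) ≫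
            (restrTensorTriv O W n N t).hom.app G')) =
      ((extZeroAdj O W).homEquiv _ G).symm
        (((sumProdAdj (O.over W) n).homEquiv _ _).symm
          (((extZeroAdj O W).homEquiv _ _) f ≫ (restrTensorTriv O W n N t).hom.app G)) ≫ g
    rw [← Adjunction.homEquiv_naturality_right_symm, ← Adjunction.homEquiv_naturality_right_symm,
      Adjunction.homEquiv_naturality_right, Category.assoc, Category.assoc]
    congr 3
    exact (restrTensorTriv O W n N t).hom.naturality g

end CoRepTensor

section Main

variable (E : Mod O) [HasSheafHom E]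
  (s : (restr O W).obj E ≅ ∐ fun _ : Fin n => ModSite.unit (O.over W))

/-- the internal Hom out of a free module of rank `n` is the `n`-fold product -/
noncomputable def sheafHomFreeIso (B : Mod O) [HasSheafHom B]
    (e : B ≅ ∐ fun _ : Fin n => ModSite.unit O) : sheafHom B ≅ prodF O n :=
  Adjunction.rightAdjointUniq (sheafHomAdj B)
    ((sumProdAdj O n).ofNatIsoLeft (tensorFreeIso O n ≪≫ (tensorBi O).flip.mapIso e.symm))

/-- the dual of a module trivialized over `W` is trivialized over `W` -/
noncomputable def dualTriv :
    (restr O W).obj (dual O E) ≅ ∐ fun _ : Fin n => ModSite.unit (O.over W) :=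
  haveI : HasSheafHom ((restr O W).obj E) := hasSheafHom _ _
  (restrSheafHomNatIso O W E).app (ModSite.unit O) ≪≫
    (sheafHomFreeIso (O.over W) n ((restr O W).obj E) s).app ((restr O W).obj (ModSite.unit O)) ≪≫
    ((sumProdIso (O.over W) n).app (ModSite.unit (O.over W))).symm

include s in
/-- **Local bijectivity of `G ⊗ E^∨ ⟶ ℋom(E, G)`** on sections over a subterminal trivializing
object. -/
theorem bijective_kappa (hW : ∀ V : C, Subsingleton (V ⟶ W)) (G : Mod O) :
    Function.Bijective
      (fun f : freeOn O W ⟶ ((tensorBi O).flip.obj (dual O E)).obj G => f ≫ (kappa O E).app G) :=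
  CoRep.bijective_comp O W hW n (coRepTensor O W n (dual O E) (dualTriv O W n E s))
    (coRepHom O W n E s) (kappa O E) G

end Main

end Groth.Agent.Lib.DualLFH4
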