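import Mathlib
import Groth.Prelude
import Groth.Agent.Lib.DualLF3_helper4
import Groth.Agent.Lib.BasisHom_helper7
import Groth.Agent.Lib.FLF5_helper8

/-!
# Duality for finite locally free modules, part 4 (helper4)

On a scheme `X`, for `E` finite locally free the canonical map `G ⊗ E^∨ ⟶ ℋom(E, G)` is an
isomorphism (`isIso_kappa`, `sheafHomDualIso`).
APPEND-ONLY once landed.
-/

set_option autoImplicit false
set_option linter.style.haveILetI false
universe u
open CategoryTheory Limits Opposite AlgebraicGeometry TopologicalSpace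

namespace Groth.Agent.Lib.DualLFH4
open ModSite Groth.Agent.Lib.ModSiteH8 SheafHomLFH9 QCohExtn

variable {X : Scheme.{u}}

/-- the opens over which `E` is free of finite rank -/
def trivOpens (E : X.Modules) : Set X.Opens :=
  {W | ∃ n : ℕ, Nonempty (E.restrict W.ι ≅ FlatMod.freeMod (↑W) n)}

lemma isBasis_trivOpens (E : X.Modules) (hE : FlatMod.IsFinLocFree E) :
    Opens.IsBasis (trivOpens E) := by
  rw [Opens.isBasis_iff_nbhd]
  intro U x hx
  obtain ⟨U₀, n, hxU₀, ⟨α⟩⟩ := hE x
  refine ⟨U₀ ⊓ U, ⟨n, FLFH8.iso_restrict_of_le E inf_le_left α⟩, ⟨hxU₀, hx⟩, inf_le_right⟩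

lemma subsingleton_hom_opens (W V : X.Opens) : Subsingleton (V ⟶ W) := inferInstance

theorem bijective_ap_kappa (E : X.Modules) [HasSheafHom (O := X.sheaf) E] (G : X.Modules)
    (W : X.Opens) (hW : W ∈ trivOpens E) :
    Function.Bijective (ap ((kappa X.sheaf E).app G) W) := by
  obtain ⟨n, ⟨α⟩⟩ := hW
  obtain ⟨s⟩ := nonempty_over_iso_free W E n α
  have h := bijective_kappa X.sheaf W n E s (fun V => subsingleton_hom_opens W V) G
  let M : X.Modules := ((tensorBi X.sheaf).flip.obj (dual X.sheaf E)).obj G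
  let N : X.Modules := (sheafHom (O := X.sheaf) E).obj G
  have e : (fun m : Γ(M, W) => ap ((kappa X.sheaf E).app G) W m) =
      (freeOnEquiv X.sheaf W N) ∘
        (fun f : freeOn X.sheaf W ⟶ M => f ≫ (kappa X.sheaf E).app G) ∘
          (freeOnEquiv X.sheaf W M).symm := by
    funext m
    have := freeOnEquiv_comp X.sheaf W ((freeOnEquiv X.sheaf W M).symm m) ((kappa X.sheaf E).app G)
    rw [Equiv.apply_symm_apply] at this
    exact this.symm
  show Function.Bijective (fun m : Γ(M, W) => ap ((kappa X.sheaf E).app G) W m)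
  rw [e]
  exact ((freeOnEquiv X.sheaf W N).bijective.comp h).comp (freeOnEquiv X.sheaf W M).symm.bijective

/-- **`G ⊗ E^∨ ⟶ ℋom(E, G)` is an isomorphism for `E` finite locally free.** -/
theorem isIso_kappa (E : X.Modules) (hE : FlatMod.IsFinLocFree E)
    [HasSheafHom (O := X.sheaf) E] (G : X.Modules) : IsIso ((kappa X.sheaf E).app G) :=
  Groth.Agent.Lib.BasisHomH7.isIso_of_bijective_basis (isBasis_trivOpens E hE) _
    (fun W hW => bijective_ap_kappa E G W hW)

/-- `ℋom(E, -) ≅ - ⊗ E^∨` for `E` finite locally free -/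
noncomputable def sheafHomDualIso (E : X.Modules) (hE : FlatMod.IsFinLocFree E)
    [HasSheafHom (O := X.sheaf) E] :
    (tensorBi X.sheaf).flip.obj (dual X.sheaf E) ≅ sheafHom (O := X.sheaf) E :=
  haveI : ∀ G, IsIso ((kappa X.sheaf E).app G) := fun G => isIso_kappa E hE G
  haveI : IsIso (kappa X.sheaf E) := NatIso.isIso_of_isIso_app _
  asIso (kappa X.sheaf E)

end Groth.Agent.Lib.DualLFH4
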