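import Mathlib
import Groth.Prelude
import Groth.Agent.Lib.DualLF4_helper4
import Groth.Agent.Lib.DerivedComm_helper8

/-!
# Duality for finite locally free modules, part 5 (helper4)

Consequences: `ℰxt^q(E ⊗ F, G) ≅ ℰxt^q(F, G) ⊗ E^∨` for `E` finite locally free.
APPEND-ONLY once landed.
-/

set_option autoImplicit false
set_option linter.style.haveILetI false
universe u
open CategoryTheory Limits Opposite AlgebraicGeometry TopologicalSpace

namespace Groth.Agent.Lib.DualLFH4
open ModSite Groth.Agent.Lib.ModSiteH8 SheafHomLFH9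

section Site

variable {C : Type u} [SmallCategory C] {J : GrothendieckTopology C}
variable (O : Sheaf J CommRingCat.{u})

/-- `ℋom(E ⊗ F, -) ≅ ℋom(E, ℋom(F, -))` -/
noncomputable def homTensorIso (E F : Mod O) [HasSheafHom E] [HasSheafHom F]
    [HasSheafHom (((tensorBi O).obj E).obj F)] :
    sheafHom (((tensorBi O).obj E).obj F) ≅ sheafHom F ⋙ sheafHom E :=
  Adjunction.rightAdjointUniq (sheafHomAdj (((tensorBi O).obj E).obj F))
    (((sheafHomAdj E).comp (sheafHomAdj F)).ofNatIsoLeft (assocFlip O E F))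

/-- the internal Hom only depends on the isomorphism class of the first variable -/
noncomputable def sheafHomCongr {M M' : Mod O} (e : M ≅ M') [HasSheafHom M] [HasSheafHom M'] :
    sheafHom M ≅ sheafHom M' :=
  Adjunction.rightAdjointUniq (sheafHomAdj M)
    ((sheafHomAdj M').ofNatIsoLeft ((tensorBi O).flip.mapIso e.symm))

end Site

variable {X : Scheme.{u}}

theorem sheafHom_preservesFiniteColimits (E : X.Modules) (hE : FlatMod.IsFinLocFree E)
    [HasSheafHom (O := X.sheaf) E] : PreservesFiniteColimits (sheafHom (O := X.sheaf) E) :=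
  preservesFiniteColimits_of_natIso (sheafHomDualIso E hE)

theorem sheafHom_preservesFiniteLimits (E : X.Modules) [HasSheafHom (O := X.sheaf) E] :
    PreservesFiniteLimits (sheafHom (O := X.sheaf) E) := by
  haveI : (sheafHom (O := X.sheaf) E).IsRightAdjoint := (sheafHomAdj E).isRightAdjoint
  infer_instance

/-- S11911 -/
theorem extSh_tensor_iso (E : X.Modules) (hE : FlatMod.IsFinLocFree E) (F G : X.Modules)
    [HasSheafHom (O := X.sheaf) E] [HasSheafHom (O := X.sheaf) F]
    [HasSheafHom (O := X.sheaf) (CohB1.tensorMod E F)]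
    [HasInjectiveResolutions (ModSite.Mod X.sheaf)] (q : ℕ) :
    Nonempty (CohB1.tensorMod ((ModSite.extSh (O := X.sheaf) F q).obj G)
        ((ModSite.sheafHom (O := X.sheaf) E).obj (Coh.structureModule X)) ≅
      (ModSite.extSh (O := X.sheaf) (CohB1.tensorMod E F) q).obj G) := by
  haveI := sheafHom_preservesFiniteColimits E hE
  haveI := sheafHom_preservesFiniteLimits E
  haveI hEF : HasSheafHom (O := X.sheaf) (((tensorBi X.sheaf).obj E).obj F) :=
    ‹HasSheafHom (O := X.sheaf) (CohB1.tensorMod E F)›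
  let e1 : sheafHom (O := X.sheaf) (CohB1.tensorMod E F) ≅
      sheafHom (O := X.sheaf) F ⋙ sheafHom (O := X.sheaf) E := homTensorIso X.sheaf E F
  let e2 := Groth.Agent.Lib.DerivedCommH8.rightDerivedNatIso e1 q
  let e3 := Groth.Agent.Lib.DerivedCommH8.rightDerivedPostcompIso (sheafHom (O := X.sheaf) E)
    (sheafHom (O := X.sheaf) F) q
  let e4 := (sheafHomDualIso E hE).app ((ModSite.extSh (O := X.sheaf) F q).obj G)
  exact ⟨e4 ≪≫ (e3.app G).symm ≪≫ (e2.app G).symm⟩

/-- S12427 -/
theorem extSh_tensor_iso' (F G L : X.Modules) (hL : FlatMod.IsFinLocFree L) (i : ℕ)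
    [HasSheafHom (O := X.sheaf) F] [HasSheafHom (O := X.sheaf) L]
    [HasSheafHom (O := X.sheaf) (CohB1.tensorMod F L)]
    [HasInjectiveResolutions (ModSite.Mod X.sheaf)] :
    Nonempty ((ModSite.extSh (O := X.sheaf) (CohB1.tensorMod F L) i).obj G ≅
      CohB1.tensorMod ((ModSite.extSh (O := X.sheaf) F i).obj G)
        ((ModSite.sheafHom (O := X.sheaf) L).obj (Coh.structureModule X))) := by
  haveI : HasSheafHom (O := X.sheaf) (CohB1.tensorMod L F) := hasSheafHom _ _
  obtain ⟨e⟩ := extSh_tensor_iso L hL F G i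
  let b : CohB1.tensorMod F L ≅ CohB1.tensorMod L F := (sigmaIso X.sheaf F).app L
  let e1 : sheafHom (O := X.sheaf) (CohB1.tensorMod F L) ≅
      sheafHom (O := X.sheaf) (CohB1.tensorMod L F) := sheafHomCongr X.sheaf b
  let e2 := Groth.Agent.Lib.DerivedCommH8.rightDerivedNatIso e1 i
  exact ⟨e2.app G ≪≫ e.symm⟩

end Groth.Agent.Lib.DualLFH4
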