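import Mathlib
import Groth.Agent.Lib.ModSite12_helper8

namespace Groth.Agent.Lib.ModSiteH8
open CategoryTheory Limits Opposite MonoidalCategory ModSite

universe u

variable {C : Type u} [SmallCategory C] {J : GrothendieckTopology C}
variable (O : Sheaf J CommRingCat.{u}) (X : C)

instance extZero_additive : (extZero O X).Additive := by
  haveI : (extZero O X).IsLeftAdjoint := (extZeroAdj O X).isLeftAdjoint
  haveI := preservesBinaryBiproducts_of_preservesBinaryCoproducts (extZero O X)
  exact Functor.additive_of_preservesBinaryBiproducts _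

/-- `freeOnEquiv` is evaluation at the universal element -/
lemma freeOnEquiv_eq (M : Mod O) (h : freeOn O X ⟶ M) :
    freeOnEquiv O X M h = h.val.app (op X) (freeOnEquiv O X (freeOn O X) (𝟙 _)) := by
  have := freeOnEquiv_comp O X (𝟙 (freeOn O X)) h
  rwa [Category.id_comp] at this

lemma freeOnEquiv_add (M : Mod O) (a b : freeOn O X ⟶ M) :
    freeOnEquiv O X M (a + b) = freeOnEquiv O X M a + freeOnEquiv O X M b := by
  rw [freeOnEquiv_eq O X M (a + b), freeOnEquiv_eq O X M a, freeOnEquiv_eq O X M b]
  rfl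

/-- additive version -/
noncomputable def freeOnAddEquiv (M : Mod O) : (freeOn O X ⟶ M) ≃+ sect M X :=
  { freeOnEquiv O X M with map_add' := freeOnEquiv_add O X M }

theorem sect_sheafHom_addEquiv (M N : Mod O) [HasSheafHom M] :
    Nonempty (sect ((sheafHom M).obj N) X ≃+
      ((restr O X).obj M ⟶ (restr O X).obj N)) := by
  obtain ⟨e⟩ := freeOn_tensor_iso O X M
  let a1 : sect ((sheafHom M).obj N) X ≃+ (freeOn O X ⟶ (sheafHom M).obj N) :=
    (freeOnAddEquiv O X _).symm
  let a2 : (freeOn O X ⟶ (sheafHom M).obj N) ≃+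
      (((tensorBi O).flip.obj M).obj (freeOn O X) ⟶ N) :=
    ((sheafHomAdj M).homAddEquiv (freeOn O X) N).symm
  let a3 : (((tensorBi O).obj (freeOn O X)).obj M ⟶ N) ≃+
      ((extZero O X).obj ((restr O X).obj M) ⟶ N) :=
    { toFun := fun h => e.inv ≫ h
      invFun := fun k => e.hom ≫ k
      left_inv := fun h => by simp
      right_inv := fun k => by simp
      map_add' := fun h h' => Preadditive.comp_add _ _ _ _ _ _ }
  let a4 : ((extZero O X).obj ((restr O X).obj M) ⟶ N) ≃+
      ((restr O X).obj M ⟶ (restr O X).obj N) :=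
    (extZeroAdj O X).homAddEquiv _ _
  exact ⟨a1.trans (a2.trans (a3.trans a4))⟩

end Groth.Agent.Lib.ModSiteH8
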