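import Mathlib
import Groth.Prelude
import Groth.Agent.Lib.ModSite9_helper8
import Groth.Agent.Lib.ModSite13_helper8

/-!
# Contravariance of the internal hom of sheaves of modules on a site

* `homEquiv_sheafHomMap`: the adjunction bijections `Hom(T, ℋom(M, N)) ≃ Hom(T ⊗ M, N)` are natural
  in `M` with respect to `ExtSupp.sheafHomMap`.
* `homF`: the functor `M ↦ ℋom(M, -)`.
* `sheafHomMapIsKernel`: `ℋom(-, G)` is left exact.
* `sheafHomMap_app_surjective`: for `I` injective and `M' ⟶ M` mono, `ℋom(M, I) ⟶ ℋom(M', I)` is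
  surjective on sections.
-/

open CategoryTheory CategoryTheory.Limits Opposite

namespace Groth.Agent.Lib.RelExtSiteH2
open ModSite Groth.Agent.Lib.ModSiteH8

universe u

section Mates

variable {C D : Type*} [Category C] [Category D] {L₁ L₂ : C ⥤ D} {R₁ R₂ : D ⥤ C}
  (adj₁ : L₁ ⊣ R₁) (adj₂ : L₂ ⊣ R₂) (α : L₂ ⟶ L₁)

theorem homEquiv_conjugateEquiv {T : C} {N : D} (b : L₁.obj T ⟶ N) :
    adj₂.homEquiv T N (α.app T ≫ b) =
      adj₁.homEquiv T N b ≫ (conjugateEquiv adj₁ adj₂ α).app N := by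
  rw [Adjunction.homEquiv_unit, Adjunction.homEquiv_unit, CategoryTheory.Functor.map_comp,
    ← Category.assoc, ← unit_conjugateEquiv adj₁ adj₂ α T, Category.assoc, Category.assoc,
    (conjugateEquiv adj₁ adj₂ α).naturality]

end Mates

section Site

variable {C : Type u} [SmallCategory C] {J : GrothendieckTopology C}
  {O : Sheaf J CommRingCat.{u}}

theorem homEquiv_sheafHomMap {M M' : Mod O} [HasSheafHom M] [HasSheafHom M'] (g : M' ⟶ M)
    (T N : Mod O) (b : ((tensorBi O).obj T).obj M ⟶ N) :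
    (sheafHomAdj M').homEquiv T N (((tensorBi O).obj T).map g ≫ b) =
      (sheafHomAdj M).homEquiv T N b ≫ (ExtSupp.sheafHomMap g).app N :=
  homEquiv_conjugateEquiv (sheafHomAdj M) (sheafHomAdj M') ((tensorBi O).flip.map g) b

theorem homEquiv_zero {M : Mod O} [HasSheafHom M] (T N : Mod O) :
    (sheafHomAdj M).homEquiv T N 0 = 0 := by
  rw [Adjunction.homEquiv_unit, Functor.map_zero, comp_zero]

theorem sheafHomMap_comp {M₁ M₂ M₃ : Mod O} [HasSheafHom M₁] [HasSheafHom M₂] [HasSheafHom M₃]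
    (u : M₁ ⟶ M₂) (v : M₂ ⟶ M₃) :
    ExtSupp.sheafHomMap v ≫ ExtSupp.sheafHomMap u = ExtSupp.sheafHomMap (u ≫ v) := by
  show conjugateEquiv _ _ _ ≫ conjugateEquiv _ _ _ = conjugateEquiv _ _ _
  rw [conjugateEquiv_comp, ← CategoryTheory.Functor.map_comp]

theorem sheafHomMap_id (M : Mod O) [HasSheafHom M] : ExtSupp.sheafHomMap (𝟙 M) = 𝟙 _ := by
  show conjugateEquiv _ _ ((tensorBi O).flip.map (𝟙 M)) = 𝟙 _
  rw [CategoryTheory.Functor.map_id, conjugateEquiv_id]

theorem sheafHomMap_zero (M M' : Mod O) [HasSheafHom M] [HasSheafHom M'] :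
    ExtSupp.sheafHomMap (0 : M' ⟶ M) = 0 := by
  refine NatTrans.ext (funext fun N => ?_)
  show (ExtSupp.sheafHomMap (0 : M' ⟶ M)).app N = 0
  have h := homEquiv_sheafHomMap (0 : M' ⟶ M) ((sheafHom M).obj N) N
    ((sheafHomAdj M).counit.app N)
  rw [Functor.map_zero, zero_comp, homEquiv_zero] at h
  have h2 : (sheafHomAdj M).homEquiv ((sheafHom M).obj N) N ((sheafHomAdj M).counit.app N) =
      𝟙 _ := by
    rw [Adjunction.homEquiv_unit]
    exact (sheafHomAdj M).right_triangle_components N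
  rw [h2, Category.id_comp] at h
  exact h.symm

section Kernel

variable (S : ShortComplex (Mod O)) (hS : S.Exact) [Epi S.g]
  [HasSheafHom S.X₁] [HasSheafHom S.X₂] [HasSheafHom S.X₃]

omit [HasSheafHom S.X₁] [HasSheafHom S.X₂] [HasSheafHom S.X₃] in
include hS in
theorem tensor_exact (T : Mod O) : (S.map ((tensorBi O).obj T)).Exact :=
  hS.map_of_epi_of_preservesCokernel _ inferInstance inferInstance

/-- `T ⊗ X₃` is the cokernel of `T ⊗ X₁ ⟶ T ⊗ X₂`. -/
noncomputable def tensorIsCokernel (T : Mod O) :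
    IsColimit (CokernelCofork.ofπ (S.map ((tensorBi O).obj T)).g
      (S.map ((tensorBi O).obj T)).zero) :=
  haveI : Epi (S.map ((tensorBi O).obj T)).g := by
    show Epi (((tensorBi O).obj T).map S.g)
    infer_instance
  (tensor_exact S hS T).gIsCokernel

omit [Epi S.g] in
theorem sheafHomMap_app_comp_zero (G : Mod O) :
    (ExtSupp.sheafHomMap S.g).app G ≫ (ExtSupp.sheafHomMap S.f).app G = 0 := by
  rw [← NatTrans.comp_app, sheafHomMap_comp, S.zero, sheafHomMap_zero]
  rfl

omit [Epi S.g] [HasSheafHom S.X₃] in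
theorem lift_aux (G : Mod O) {T : Mod O} (φ : T ⟶ (sheafHom S.X₂).obj G)
    (hφ : φ ≫ (ExtSupp.sheafHomMap S.f).app G = 0) :
    ((tensorBi O).obj T).map S.f ≫ ((sheafHomAdj S.X₂).homEquiv T G).symm φ = 0 := by
  apply ((sheafHomAdj S.X₁).homEquiv T G).injective
  rw [homEquiv_sheafHomMap, Equiv.apply_symm_apply, hφ, homEquiv_zero]

/-- The factorisation through `T ⊗ X₃`. -/
noncomputable def liftT (G : Mod O) {T : Mod O} (φ : T ⟶ (sheafHom S.X₂).obj G)
    (hφ : φ ≫ (ExtSupp.sheafHomMap S.f).app G = 0) : ((tensorBi O).obj T).obj S.X₃ ⟶ G :=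
  (tensorIsCokernel S hS T).desc (CokernelCofork.ofπ
    (f := (S.map ((tensorBi O).obj T)).f) (((sheafHomAdj S.X₂).homEquiv T G).symm φ)
    (lift_aux S G φ hφ))

theorem liftT_fac (G : Mod O) {T : Mod O} (φ : T ⟶ (sheafHom S.X₂).obj G)
    (hφ : φ ≫ (ExtSupp.sheafHomMap S.f).app G = 0) :
    ((tensorBi O).obj T).map S.g ≫ liftT S hS G φ hφ =
      ((sheafHomAdj S.X₂).homEquiv T G).symm φ :=
  Cofork.IsColimit.π_desc (tensorIsCokernel S hS T)

/-- `ℋom(X₃, G)` is the kernel of `ℋom(X₂, G) ⟶ ℋom(X₁, G)`. -/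
noncomputable def sheafHomMapIsKernel (G : Mod O) :
    IsLimit (KernelFork.ofι ((ExtSupp.sheafHomMap S.g).app G) (sheafHomMap_app_comp_zero S G)) :=
  KernelFork.IsLimit.ofι _ _
    (fun {T} φ hφ => (sheafHomAdj S.X₃).homEquiv T G (liftT S hS G φ hφ))
    (fun {T} φ hφ => by
      rw [← homEquiv_sheafHomMap, liftT_fac, Equiv.apply_symm_apply])
    (fun {T} φ hφ m hm => by
      haveI hepi : Epi (((tensorBi O).obj T).map S.g) := inferInstance
      have h1 : m = (sheafHomAdj S.X₃).homEquiv T G (((sheafHomAdj S.X₃).homEquiv T G).symm m) :=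
        (Equiv.apply_symm_apply _ _).symm
      rw [h1]
      congr 1
      rw [← cancel_epi (((tensorBi O).obj T).map S.g), liftT_fac]
      apply ((sheafHomAdj S.X₂).homEquiv T G).injective
      rw [homEquiv_sheafHomMap, Equiv.apply_symm_apply, Equiv.apply_symm_apply, hm])

include hS in
theorem mono_sheafHomMap_app (G : Mod O) : Mono ((ExtSupp.sheafHomMap S.g).app G) :=
  mono_of_isLimit_fork (sheafHomMapIsKernel S hS G)

include hS in
theorem exact_sheafHomMap_app (G : Mod O)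
    (w : (ExtSupp.sheafHomMap S.g).app G ≫ (ExtSupp.sheafHomMap S.f).app G = 0) :
    (ShortComplex.mk _ _ w).Exact :=
  ShortComplex.exact_of_f_is_kernel _ (sheafHomMapIsKernel S hS G)

end Kernel

theorem preservesFiniteLimits_tensor_freeOn (U : C) :
    PreservesFiniteLimits ((tensorBi O).obj (freeOn O U)) :=
  haveI := (isFlat_freeOn O U).1
  preservesFiniteLimits_of_natIso (sigmaIso O (freeOn O U)).symm

theorem sheafHomMap_app_surjective {M M' : Mod O} [HasSheafHom M] [HasSheafHom M'] (j : M' ⟶ M)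
    [Mono j] (I : Mod O) [Injective I] (U : C) (s : sect ((sheafHom M').obj I) U) :
    ∃ t : sect ((sheafHom M).obj I) U,
      ((ExtSupp.sheafHomMap j).app I).val.app (op U) t = s := by
  haveI := preservesFiniteLimits_tensor_freeOn (O := O) U
  haveI : Mono (((tensorBi O).obj (freeOn O U)).map j) := inferInstance
  let hs := (freeOnEquiv O U _).symm s
  let bs := ((sheafHomAdj M').homEquiv _ _).symm hs
  let bt := Injective.factorThru bs (((tensorBi O).obj (freeOn O U)).map j)
  have hbt : ((tensorBi O).obj (freeOn O U)).map j ≫ bt = bs := Injective.comp_factorThru _ _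
  let ht := (sheafHomAdj M).homEquiv _ _ bt
  have hh : ht ≫ (ExtSupp.sheafHomMap j).app I = hs := by
    rw [← homEquiv_sheafHomMap, hbt]
    exact Equiv.apply_symm_apply _ _
  refine ⟨freeOnEquiv O U _ ht, ?_⟩
  rw [← freeOnEquiv_comp, hh]
  exact Equiv.apply_symm_apply _ _

end Site

end Groth.Agent.Lib.RelExtSiteH2
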