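import Mathlib
import Groth.Prelude
import Groth.Agent.Lib.ContraLES1_helper2
import Groth.Agent.Lib.RelExtSite1_helper2
import Groth.Agent.Lib.GlobGen_helper9
import Groth.Agent.Lib.DualLF5_helper4

/-!
# Relative Ext sheaves on schemes: long exact sequence and resolutions in the first variable

The functors `M ↦ ℋom(M, -)` and `M ↦ f_* ℋom(M, -)` on `O_X`-modules are "good" in the sense of
`ContraLES1_helper2` (left exact in `M`, exact in `M` on injective second arguments).
-/

set_option autoImplicit false
universe u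
open CategoryTheory CategoryTheory.Limits Opposite AlgebraicGeometry

namespace Groth.Agent.Lib.RelExtSchH2
open ModSite Groth.Agent.Lib.ModSiteH8 Groth.Agent.Lib.ContraLESH2 Groth.Agent.Lib.RelExtSiteH2

variable {X Y : Scheme.{u}}

theorem hsh (M : ModSite.Mod X.sheaf) : ModSite.HasSheafHom (O := X.sheaf) M := hasSheafHom _ M

attribute [local instance] hsh

theorem pf_additive (f : X ⟶ Y) :
    @Functor.Additive (ModSite.Mod X.sheaf) Y.Modules inferInstance inferInstance inferInstance
      inferInstance (Scheme.Modules.pushforward f) :=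
  inferInstanceAs ((Scheme.Modules.pushforward f).Additive)

theorem pf_isRightAdjoint (f : X ⟶ Y) :
    @Functor.IsRightAdjoint Y.Modules inferInstance (ModSite.Mod X.sheaf) inferInstance
      (Scheme.Modules.pushforward f) :=
  inferInstanceAs ((Scheme.Modules.pushforward f).IsRightAdjoint)

attribute [local instance] pf_additive pf_isRightAdjoint

theorem epi_of_sections_surjective {A B : X.Modules} (p : A ⟶ B)
    (h : ∀ U : X.Opens, Function.Surjective (p.app U)) : Epi p :=
  GlobGen.epi_of_surjective_on_basis p Set.univ (by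
    rw [TopologicalSpace.Opens.isBasis_iff_nbhd]
    intro U x hx
    exact ⟨U, trivial, hx, le_rfl⟩) (fun U _ => h U)

theorem epi_sheafHomMap {M M' : ModSite.Mod X.sheaf} (j : M' ⟶ M) [Mono j]
    (I : ModSite.Mod X.sheaf) (hI : Injective I) :
    Epi ((ExtSupp.sheafHomMap (O := X.sheaf) j).app I) := by
  haveI := hI
  refine epi_of_sections_surjective
    (A := (ModSite.sheafHom (O := X.sheaf) M).obj I) (B := (ModSite.sheafHom (O := X.sheaf) M').obj I)
    ((ExtSupp.sheafHomMap (O := X.sheaf) j).app I) ?_
  intro V s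
  obtain ⟨t, ht⟩ := sheafHomMap_app_surjective (O := X.sheaf) j I V s
  exact ⟨t, ht⟩

theorem epi_push_sheafHomMap (f : X ⟶ Y) {M M' : ModSite.Mod X.sheaf} (j : M' ⟶ M) [Mono j]
    (I : ModSite.Mod X.sheaf) (hI : Injective I) :
    Epi ((Scheme.Modules.pushforward f).map ((ExtSupp.sheafHomMap (O := X.sheaf) j).app I)) := by
  haveI := hI
  apply epi_of_sections_surjective
  intro V s
  obtain ⟨t, ht⟩ := sheafHomMap_app_surjective (O := X.sheaf) j I (f ⁻¹ᵁ V) s
  exact ⟨t, ht⟩

/-- The functor `M ↦ ℋom(M, -)`. -/
noncomputable def homFX (X : Scheme.{u}) :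
    (ModSite.Mod X.sheaf)ᵒᵖ ⥤ ModSite.Mod X.sheaf ⥤ ModSite.Mod X.sheaf where
  obj M := ModSite.sheafHom (O := X.sheaf) M.unop
  map u := ExtSupp.sheafHomMap (O := X.sheaf) u.unop
  map_id M := by
    rw [unop_id, sheafHomMap_id]
  map_comp u v := by
    rw [unop_comp, ← sheafHomMap_comp]

/-- The functor `M ↦ f_* ℋom(M, -)`. -/
noncomputable def relHomF (f : X ⟶ Y) :
    (ModSite.Mod X.sheaf)ᵒᵖ ⥤ ModSite.Mod X.sheaf ⥤ Y.Modules where
  obj M := ModSite.sheafHom (O := X.sheaf) M.unop ⋙ Scheme.Modules.pushforward f
  map u := Functor.whiskerRight (ExtSupp.sheafHomMap (O := X.sheaf) u.unop)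
    (Scheme.Modules.pushforward f)
  map_id M := by
    rw [unop_id, sheafHomMap_id]
    exact Functor.whiskerRight_id' _
  map_comp u v := by
    rw [unop_comp, ← sheafHomMap_comp, Functor.whiskerRight_comp]

instance homFX_additive (M : (ModSite.Mod X.sheaf)ᵒᵖ) : ((homFX X).obj M).Additive := by
  show (ModSite.sheafHom (O := X.sheaf) M.unop).Additive
  infer_instance

instance homFX_preservesFiniteLimits (M : (ModSite.Mod X.sheaf)ᵒᵖ) :
    PreservesFiniteLimits ((homFX X).obj M) := by
  show PreservesFiniteLimits (ModSite.sheafHom (O := X.sheaf) M.unop)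
  haveI : (ModSite.sheafHom (O := X.sheaf) M.unop).IsRightAdjoint :=
    (ModSite.sheafHomAdj M.unop).isRightAdjoint
  infer_instance

instance relHomF_additive (f : X ⟶ Y) (M : (ModSite.Mod X.sheaf)ᵒᵖ) :
    ((relHomF f).obj M).Additive := by
  show (ModSite.sheafHom (O := X.sheaf) M.unop ⋙ Scheme.Modules.pushforward f).Additive
  infer_instance

instance relHomF_preservesFiniteLimits (f : X ⟶ Y) (M : (ModSite.Mod X.sheaf)ᵒᵖ) :
    PreservesFiniteLimits ((relHomF f).obj M) := by
  show PreservesFiniteLimits
    (ModSite.sheafHom (O := X.sheaf) M.unop ⋙ Scheme.Modules.pushforward f)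
  haveI : (ModSite.sheafHom (O := X.sheaf) M.unop).IsRightAdjoint :=
    (ModSite.sheafHomAdj M.unop).isRightAdjoint
  haveI : PreservesFiniteLimits (ModSite.sheafHom (O := X.sheaf) M.unop) := inferInstance
  haveI : PreservesFiniteLimits (Scheme.Modules.pushforward f) := inferInstance
  exact comp_preservesFiniteLimits _ _

theorem isGood_homFX (X : Scheme.{u}) : IsGood (homFX X) where
  zero M N := by
    show ExtSupp.sheafHomMap (O := X.sheaf) (0 : M ⟶ N) = 0
    exact sheafHomMap_zero _ _
  mono S hS G := by
    haveI := hS.epi_g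
    exact mono_sheafHomMap_app S hS.exact G
  exact S hS G w := by
    haveI := hS.epi_g
    exact exact_sheafHomMap_app S hS.exact G w
  epi S hS I hI := by
    haveI := hS.mono_f
    exact epi_sheafHomMap S.f I hI

theorem isGood_relHomF (f : X ⟶ Y) : IsGood (relHomF f) where
  zero M N := by
    show Functor.whiskerRight (ExtSupp.sheafHomMap (O := X.sheaf) (0 : M ⟶ N)) _ = 0
    rw [sheafHomMap_zero]
    refine NatTrans.ext (funext fun G => ?_)
    exact (Scheme.Modules.pushforward f).map_zero _ _
  mono S hS G := by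
    haveI := hS.epi_g
    have hm := mono_sheafHomMap_app S hS.exact G
    haveI : (Scheme.Modules.pushforward f :
        ModSite.Mod X.sheaf ⥤ Y.Modules).PreservesMonomorphisms := inferInstance
    exact @Functor.map_mono _ _ _ _ (Scheme.Modules.pushforward f :
      ModSite.Mod X.sheaf ⥤ Y.Modules) _ _ _ _ hm
  exact S hS G w := by
    haveI := hS.epi_g
    have hm := mono_sheafHomMap_app S hS.exact G
    have hex := exact_sheafHomMap_app S hS.exact G (sheafHomMap_app_comp_zero S G)
    exact hex.map_of_mono_of_preservesKernel (Scheme.Modules.pushforward f) hm inferInstance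
  epi S hS I hI := by
    haveI := hS.mono_f
    exact epi_push_sheafHomMap f S.f I hI

/-- The higher right derived functors of an exact functor vanish. -/
theorem isZero_rightDerived_of_exact {A B : Type*} [Category A] [Abelian A] [Category B]
    [Abelian B] [HasInjectiveResolutions A] (F : A ⥤ B) [F.Additive] [PreservesFiniteLimits F]
    [PreservesFiniteColimits F] (X : A) (q : ℕ) : IsZero ((F.rightDerived (q + 1)).obj X) := by
  refine IsZero.of_iso ?_ ((injectiveResolution X).isoRightDerivedObj F (q + 1))
  refine (HomologicalComplex.exactAt_iff_isZero_homology _ _).1 ?_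
  have h := (injectiveResolution X).cocomplex_exactAt_succ q
  have h' : ((injectiveResolution X).cocomplex.sc (q + 1)).Exact := h
  exact h'.map F

theorem isZero_extSh_of_isFinLocFree [HasInjectiveResolutions (ModSite.Mod X.sheaf)]
    (E : X.Modules) (hE : FlatMod.IsFinLocFree E) (G : ModSite.Mod X.sheaf) (q : ℕ) :
    IsZero ((((homFX X).obj (op E)).rightDerived (q + 1)).obj G) := by
  haveI : PreservesFiniteColimits ((homFX X).obj (op E)) :=
    Groth.Agent.Lib.DualLFH4.sheafHom_preservesFiniteColimits E hE
  exact isZero_rightDerived_of_exact _ G q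

end Groth.Agent.Lib.RelExtSchH2
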