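import Mathlib
import Groth.Prelude
import Groth.Agent.Lib.DCohLoc6_lead
import Groth.Agent.Lib.PerfFlat4_lead
import Groth.Agent.Lib.QCohCrit2_helper9
import Groth.Agent.Lib.ClAdj1_helper8
import Groth.Agent.Lib.BMod5_helper6

/-!
# Relative pseudo-coherence implies quasi-coherent cohomology (helper3)

* `locOnU_of_pushforward`: if `i_* N` has localizing sections over the basic opens of `V`,
  `i⁻¹V` is affine and `Γ(A, V) → Γ(Z, i⁻¹V)` is surjective, then `N` has localizing sections over
  the basic opens of `i⁻¹V`.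
* `isQuasicoherent_of_pushforward`: for a closed immersion `i`, `i_* N` quasi-coherent implies `N`
  quasi-coherent.
* `main7213`, `main6235`.
-/

set_option autoImplicit false
set_option linter.all false
set_option maxHeartbeats 1600000
set_option backward.isDefEq.respectTransparency false
set_option backward.isDefEq.respectTransparency.types false
set_option backward.defeqAttrib.useBackward true

universe u
open CategoryTheory CategoryTheory.Limits AlgebraicGeometry Opposite TopologicalSpace

attribute [local instance] HasDerivedCategory.standard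

namespace Groth.Agent.Lib.RelPCQcH3

open DerSch Groth.Agent.Lib.DCohLocLead

noncomputable section

section Loc

variable {Z A : Scheme.{u}}

theorem locData_congr (N : Z.Modules) {U W W' : Z.Opens} (a : Γ(Z, U)) (j : W ⟶ U) (j' : W' ⟶ U)
    (e : W = W')
    (h : RelFPKit.LocData (Z.presheaf.map j.op).hom a (N.presheaf.map j.op).hom) :
    RelFPKit.LocData (Z.presheaf.map j'.op).hom a (N.presheaf.map j'.op).hom := by
  subst e
  have : j = j' := Subsingleton.elim _ _
  subst this
  exact h

theorem isLoc_congr {U W W' : Z.Opens} (a : Γ(Z, U)) (j : W ⟶ U) (j' : W' ⟶ U)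
    (e : W = W')
    (h : letI := (Z.presheaf.map j.op).hom.toAlgebra; IsLocalization.Away a Γ(Z, W)) :
    letI := (Z.presheaf.map j'.op).hom.toAlgebra; IsLocalization.Away a Γ(Z, W') := by
  subst e
  have : j = j' := Subsingleton.elim _ _
  subst this
  exact h

theorem locOnU_of_pushforward (i : Z ⟶ A) (N : Z.Modules) (V : A.Opens)
    (hZ : IsAffineOpen (i ⁻¹ᵁ V)) (hsurj : Function.Surjective (i.app V).hom)
    (H : QCohCrit.LocOnU ((Scheme.Modules.pushforward i).obj N) V) :
    QCohCrit.LocOnU N (i ⁻¹ᵁ V) := by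
  intro a'
  obtain ⟨a, rfl⟩ := hsurj a'
  have e : i ⁻¹ᵁ (A.basicOpen a) = Z.basicOpen ((i.app V).hom a) := Scheme.preimage_basicOpen i a
  have L := H a
  have hnat : ∀ x : Γ(A, V),
      (Z.presheaf.map ((Opens.map i.base).map (homOfLE (A.basicOpen_le a))).op).hom
          ((i.app V).hom x) =
        (i.app (A.basicOpen a)).hom ((A.presheaf.map (homOfLE (A.basicOpen_le a)).op).hom x) := by
    intro x
    have := congrArg (fun φ => φ.hom x) (i.naturality (homOfLE (A.basicOpen_le a)).op)
    exact this.symm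
  refine locData_congr N _ ((Opens.map i.base).map (homOfLE (A.basicOpen_le a))) _ e ?_
  refine ⟨?_, fun x m => Scheme.Modules.map_smul N _ x m, ?_, ?_⟩
  · exact isLoc_congr _ (homOfLE (Z.basicOpen_le ((i.app V).hom a))) _ e.symm
      (hZ.isLocalization_basicOpen ((i.app V).hom a))
  · intro m'
    obtain ⟨n, m, hm⟩ := L.surj m'
    refine ⟨n, m, ?_⟩
    rw [hnat, ← map_pow]
    exact hm
  · intro m hm
    obtain ⟨n, hn⟩ := L.ker m hm
    refine ⟨n, ?_⟩
    rw [← map_pow]
    exact hn

/-- for a closed immersion, quasi-coherence can be tested after direct image -/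
theorem isQuasicoherent_of_pushforward (i : Z ⟶ A) [IsClosedImmersion i] (N : Z.Modules)
    (h : ((Scheme.Modules.pushforward i).obj N).IsQuasicoherent) : N.IsQuasicoherent := by
  have hi := isClosedImmersion_iff_isAffineHom.mp (inferInstance : IsClosedImmersion i)
  haveI := hi.1
  refine QCohCrit.isQuasicoherent_of_locOnU_cover N (fun V : A.affineOpens => i ⁻¹ᵁ V.1)
    (fun V => V.2.preimage i) ?_ (fun V => ?_)
  · rw [eq_top_iff]
    intro x _
    have hx : i.base x ∈ (⨆ V : A.affineOpens, (V : A.Opens)) := by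
      rw [iSup_affineOpens_eq_top]; trivial
    obtain ⟨V, hV⟩ := Opens.mem_iSup.mp hx
    exact Opens.mem_iSup.mpr ⟨V, hV⟩
  · exact locOnU_of_pushforward i N V.1 (V.2.preimage i) (hi.2 V.1 V.2)
      (QCohCrit.locOnU_of_isQuasicoherent _ V.2)

end Loc

section Main

open DerivedCategory

variable {X S : Scheme.{u}}

theorem isQCoh_homology_restrict_of_chart (G : CochainComplex X.Modules ℤ) (U : X.Opens)
    {A : Scheme.{u}} (i : (U : Scheme.{u}) ⟶ A) [IsClosedImmersion i] (m : ℤ)
    (hpc : DCoh.IsPseudoCoherentD m (DCoh.toD A ((pushCx i).obj ((DCoh.restrictCx U).obj G))))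
    (k : ℤ) (hk : m < k) :
    ((Scheme.Modules.restrictFunctor U.ι).obj (G.homology k)).IsQuasicoherent := by
  haveI : PreservesFiniteColimits (Scheme.Modules.pushforward i) :=
    haveI := ClAdjH8.preservesColimits_modules_pushforward i
    PreservesColimitsOfSize.preservesFiniteColimits _
  haveI : PreservesFiniteLimits (Scheme.Modules.pushforward i) :=
    haveI := (Scheme.Modules.pullbackPushforwardAdjunction i).isRightAdjoint
    inferInstance
  have h1 := (main7240 m _ hpc).1 k hk
  let K := (DCoh.restrictCx U).obj G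
  let a : DCoh.HD (DCoh.toD A ((pushCx i).obj K)) k ≅ ((pushCx i).obj K).homology k :=
    (homologyFunctorFactors A.Modules k).app ((pushCx i).obj K)
  let b : ((pushCx i).obj K).homology k ≅ (Scheme.Modules.pushforward i).obj (K.homology k) :=
    (K.sc k).mapHomologyIso (Scheme.Modules.pushforward i)
  have h2 : ((Scheme.Modules.pushforward i).obj (K.homology k)).IsQuasicoherent :=
    isQCoh_of_iso (a ≪≫ b) h1
  have h3 : (K.homology k).IsQuasicoherent := isQuasicoherent_of_pushforward i _ h2
  let c : K.homology k ≅ (Scheme.Modules.restrictFunctor U.ι).obj (G.homology k) :=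
    (G.sc k).mapHomologyIso (Scheme.Modules.restrictFunctor U.ι)
  exact isQCoh_of_iso c h3

theorem isClosedImmersion_chartImm (U : X.Opens) (hU : IsAffineOpen U) {R : Type u} [CommRing R]
    {n : ℕ} (φ : MvPolynomial (Fin n) R →+* Γ(X, U)) (hφ : Function.Surjective φ) :
    IsClosedImmersion (chartImm U φ) := by
  haveI : IsIso U.toSpecΓ := by
    rw [← IsAffineOpen.isoSpec_hom hU]
    infer_instance
  haveI : IsClosedImmersion (Spec.map (CommRingCat.ofHom φ)) :=
    IsClosedImmersion.spec_of_surjective _ hφ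
  unfold chartImm
  infer_instance

/-- **S7213** -/
theorem main7213 (f : X ⟶ S) (m : ℤ) (E : DCoh.D X)
    (hE : DerSch.IsPseudoCoherentRel f m E) (k : ℤ) (hk : m < k) : Coh.IsQCoh (DCoh.HD E k) := by
  obtain ⟨_, 𝒱, h𝒱, H⟩ := hE
  let G : CochainComplex X.Modules ℤ := Q.objPreimage E
  let e : Q.obj G ≅ E := Q.objObjPreimageIso E
  have hx : ∀ x : X, ∃ U : X.Opens, x ∈ U ∧
      ((Scheme.Modules.restrictFunctor U.ι).obj (G.homology k)).IsQuasicoherent := by
    intro x
    have h0 : f.base x ∈ (⨆ V ∈ 𝒱, (V : S.Opens)) := by rw [h𝒱]; trivial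
    obtain ⟨V, hV⟩ := Opens.mem_iSup.mp h0
    obtain ⟨hV𝒱, hxV⟩ := Opens.mem_iSup.mp hV
    obtain ⟨𝒰, h𝒰, HU⟩ := H V hV𝒱
    have h1 : x ∈ (⨆ U ∈ 𝒰, (U : X.Opens)) := by rw [h𝒰]; exact hxV
    obtain ⟨U, hU⟩ := Opens.mem_iSup.mp h1
    obtain ⟨hU𝒰, hxU⟩ := Opens.mem_iSup.mp hU
    have hle : (U : X.Opens) ≤ f ⁻¹ᵁ (V : S.Opens) := by
      rw [← h𝒰]
      exact le_iSup₂ (f := fun (U : X.affineOpens) (_ : U ∈ 𝒰) => (U : X.Opens)) U hU𝒰
    obtain ⟨n, φ, hc, hpc⟩ := HU U hU𝒰 hle
    haveI : IsClosedImmersion (chartImm (U : X.Opens) φ) :=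
      isClosedImmersion_chartImm (U : X.Opens) U.2 φ hc.1
    exact ⟨U, hxU, isQCoh_homology_restrict_of_chart G U (chartImm (U : X.Opens) φ) m
      (hpc G ⟨e⟩) k hk⟩
  choose U hxU hU using hx
  have hcov : ⨆ x, U x = ⊤ := by
    rw [eq_top_iff]
    intro x _
    exact Opens.mem_iSup.mpr ⟨x, hxU x⟩
  have h4 : (G.homology k).IsQuasicoherent :=
    Groth.Agent.Lib.BModH6.isQuasicoherent_of_restrict_ι _ U hcov hU
  exact isQCoh_of_iso (((homologyFunctorFactors X.Modules k).app G).symm ≪≫
    (homologyFunctor X.Modules k).mapIso e) h4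

/-- **S6235** -/
theorem main6235 (f : X ⟶ S) (E : DCoh.D X) (hE : DerSch.IsPseudoCoherentRelAll f E) :
    DCoh.IsQCohD E :=
  fun i => main7213 f (i - 1) E (hE (i - 1)) i (by omega)

end Main

end

end Groth.Agent.Lib.RelPCQcH3
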