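import Mathlib
import Groth.Prelude
import Groth.Agent.Lib.RelPCQc_helper3

/-!
# Relative pseudo-coherence implies (locally) bounded above cohomology (helper3)

* `VanOn M W`: all sections of `M` over opens inside `W` vanish.
* `exists_chart`: a chart around every point for a relatively pseudo-coherent object.
* `main6236`.
-/

set_option autoImplicit false
set_option linter.all false
set_option maxHeartbeats 1600000
set_option backward.isDefEq.respectTransparency false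
set_option backward.isDefEq.respectTransparency.types false
set_option backward.defeqAttrib.useBackward true

universe u
open CategoryTheory CategoryTheory.Limits AlgebraicGeometry Opposite TopologicalSpace

attribute [local instance] HasDerivedCategory.standard

namespace Groth.Agent.Lib.RelPCQcH3

open DerSch Groth.Agent.Lib.DCohLocLead

noncomputable section

section Van

variable {X : Scheme.{u}}

/-- all sections of `M` over opens inside `W` vanish -/
def VanOn (M : X.Modules) (W : X.Opens) : Prop :=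
  ∀ T : X.Opens, T ≤ W → ∀ t : Γ(M, T), t = 0

theorem vanOn_of_isZero_restrict (M : X.Modules) (W : X.Opens)
    (h : IsZero ((Scheme.Modules.restrictFunctor W.ι).obj M)) : VanOn M W := by
  intro T hT
  have h2 : ∀ W₂ : X.Opens, W.ι ''ᵁ (W.ι ⁻¹ᵁ T) = W₂ → ∀ t : Γ(M, W₂), t = 0 := by
    rintro _ rfl t
    exact sections_eq_zero_of_isZero h (W.ι ⁻¹ᵁ T) t
  exact h2 T (image_preimage_of_le hT)

theorem vanOn_of_iso {M M' : X.Modules} (e : M ≅ M') {W : X.Opens} (h : VanOn M W) :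
    VanOn M' W := by
  intro T hT t
  have h1 : (Scheme.Modules.Hom.app e.hom T) ((Scheme.Modules.Hom.app e.inv T) t) = t := by
    have := congrArg (fun φ => (Scheme.Modules.Hom.app φ T) t) e.inv_hom_id
    exact this
  have h0 : (Scheme.Modules.Hom.app e.inv T) t = 0 := h T hT _
  rw [← h1, h0, map_zero]

theorem vanOn_of_pushforward {Z A : Scheme.{u}} (i : Z ⟶ A) [IsClosedImmersion i]
    (N : Z.Modules) (W : A.Opens)
    (h : VanOn ((Scheme.Modules.pushforward i).obj N) W) : VanOn N (i ⁻¹ᵁ W) := by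
  intro T hT
  obtain ⟨W'', hW''o, hW''⟩ := (i.isClosedEmbedding.isInducing.isOpen_iff).mp T.isOpen
  have hT2 : i ⁻¹ᵁ ((⟨W'', hW''o⟩ : A.Opens) ⊓ W) = T := by
    apply Opens.ext
    apply Set.Subset.antisymm
    · rintro z ⟨hz, _⟩
      have : z ∈ i.base ⁻¹' W'' := hz
      rw [hW''] at this
      exact this
    · intro z hz
      refine ⟨?_, hT hz⟩
      have : z ∈ i.base ⁻¹' W'' := by rw [hW'']; exact hz
      exact this
  have h2 : ∀ T₂ : Z.Opens, i ⁻¹ᵁ ((⟨W'', hW''o⟩ : A.Opens) ⊓ W) = T₂ →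
      ∀ t : Γ(N, T₂), t = 0 := by
    rintro _ rfl t
    exact h _ inf_le_right t
  exact h2 T hT2

theorem vanOn_of_restrict (M : X.Modules) (U : X.Opens) (T' : (U : Scheme.{u}).Opens)
    (h : VanOn ((Scheme.Modules.restrictFunctor U.ι).obj M) T') : VanOn M (U.ι ''ᵁ T') := by
  intro T hT
  have hTU : T ≤ U := by
    refine hT.trans ?_
    have := U.ι.image_le_opensRange T'
    rwa [Scheme.Opens.opensRange_ι] at this
  have hle : U.ι ⁻¹ᵁ T ≤ T' := by
    have h1 : U.ι ⁻¹ᵁ T ≤ U.ι ⁻¹ᵁ (U.ι ''ᵁ T') := fun z hz => hT hz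
    rwa [Scheme.Hom.preimage_image_eq] at h1
  have h2 : ∀ W₂ : X.Opens, U.ι ''ᵁ (U.ι ⁻¹ᵁ T) = W₂ → ∀ t : Γ(M, W₂), t = 0 := by
    rintro _ rfl t
    exact h (U.ι ⁻¹ᵁ T) hle t
  exact h2 T (image_preimage_of_le hTU)

theorem isZero_of_vanOn_cover (M : X.Modules)
    (hcov : ∀ x : X, ∃ W : X.Opens, x ∈ W ∧ VanOn M W) : IsZero M := by
  apply Groth.Agent.CoprodQP.isZero_of_sections
  intro U s
  apply QcqsLoc.eq_zero_of_cover M s
  intro x hx
  obtain ⟨W, hxW, hW⟩ := hcov x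
  exact ⟨U ⊓ W, inf_le_left, ⟨hx, hxW⟩, hW _ inf_le_right _⟩

end Van

section Main

open DerivedCategory

variable {X S : Scheme.{u}}

/-- a chart around every point -/
theorem exists_chart (f : X ⟶ S) (m : ℤ) (E : DCoh.D X)
    (hE : DerSch.IsPseudoCoherentRel f m E) (x : X) :
    ∃ (U : X.affineOpens) (V : S.affineOpens) (n : ℕ)
      (φ : MvPolynomial (Fin n) Γ(S, (V : S.Opens)) →+* Γ(X, (U : X.Opens))),
      x ∈ (U : X.Opens) ∧ Function.Surjective φ ∧ ChartPC m E (U : X.Opens) (V : S.Opens) φ := by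
  obtain ⟨_, 𝒱, h𝒱, H⟩ := hE
  have h0 : f.base x ∈ (⨆ V ∈ 𝒱, (V : S.Opens)) := by rw [h𝒱]; trivial
  obtain ⟨V, hV⟩ := Opens.mem_iSup.mp h0
  obtain ⟨hV𝒱, hxV⟩ := Opens.mem_iSup.mp hV
  obtain ⟨𝒰, h𝒰, HU⟩ := H V hV𝒱
  have h1 : x ∈ (⨆ U ∈ 𝒰, (U : X.Opens)) := by rw [h𝒰]; exact hxV
  obtain ⟨U, hU⟩ := Opens.mem_iSup.mp h1
  obtain ⟨hU𝒰, hxU⟩ := Opens.mem_iSup.mp hU
  have hle : (U : X.Opens) ≤ f ⁻¹ᵁ (V : S.Opens) := by
    rw [← h𝒰]
    exact le_iSup₂ (f := fun (U : X.affineOpens) (_ : U ∈ 𝒰) => (U : X.Opens)) U hU𝒰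
  obtain ⟨n, φ, hc, hpc⟩ := HU U hU𝒰 hle
  exact ⟨U, V, n, φ, hxU, hc.1, hpc⟩

theorem exists_nbhd_vanOn (G : CochainComplex X.Modules ℤ) (U : X.Opens) {A : Scheme.{u}}
    (i : (U : Scheme.{u}) ⟶ A) [IsClosedImmersion i] (m : ℤ)
    (hpc : DCoh.IsPseudoCoherentD m (DCoh.toD A ((pushCx i).obj ((DCoh.restrictCx U).obj G))))
    (x : X) (hx : x ∈ U) :
    ∃ (U' : X.Opens) (b : ℤ), x ∈ U' ∧ ∀ j : ℤ, b < j → VanOn (G.homology j) U' := by
  haveI : PreservesFiniteColimits (Scheme.Modules.pushforward i) :=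
    haveI := ClAdjH8.preservesColimits_modules_pushforward i
    PreservesColimitsOfSize.preservesFiniteColimits _
  haveI : PreservesFiniteLimits (Scheme.Modules.pushforward i) :=
    haveI := (Scheme.Modules.pullbackPushforwardAdjunction i).isRightAdjoint
    inferInstance
  let K := (DCoh.restrictCx U).obj G
  let K' := (pushCx i).obj K
  obtain ⟨W, hxW, P, α, hP, hα⟩ := (isPC_iff m _).mp hpc (i.base ⟨x, hx⟩)
  obtain ⟨⟨a, b, hab⟩, _⟩ := hP
  refine ⟨U.ι ''ᵁ (i ⁻¹ᵁ W), max m b, ⟨⟨x, hx⟩, hxW, rfl⟩, fun j hj => ?_⟩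
  have hjm : m < j := lt_of_le_of_lt (le_max_left _ _) hj
  have hjb : b < j := lt_of_le_of_lt (le_max_right _ _) hj
  obtain ⟨e1⟩ := nonempty_HD_restrict_iso W.ι (DCoh.toD A K') j
  haveI := hα.1 j hjm
  have hz1 : IsZero ((Scheme.Modules.restrictFunctor W.ι).obj (DCoh.HD (DCoh.toD A K') j)) := by
    have hz0 : IsZero (P.homology j) := isZero_homology_of_isZero_X P j (hab j (Or.inr hjb))
    exact IsZero.of_iso hz0 (e1.symm ≪≫ (asIso ((homologyFunctor _ j).map α)).symm ≪≫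
      (homologyFunctorFactors _ j).app P)
  let a' : DCoh.HD (DCoh.toD A K') j ≅ (Scheme.Modules.pushforward i).obj (K.homology j) :=
    (homologyFunctorFactors A.Modules j).app K' ≪≫
      (K.sc j).mapHomologyIso (Scheme.Modules.pushforward i)
  have hv1 : VanOn (DCoh.HD (DCoh.toD A K') j) W := vanOn_of_isZero_restrict _ _ hz1
  have hv2 : VanOn ((Scheme.Modules.pushforward i).obj (K.homology j)) W := vanOn_of_iso a' hv1
  have hv3 : VanOn (K.homology j) (i ⁻¹ᵁ W) := vanOn_of_pushforward i _ W hv2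
  let c : K.homology j ≅ (Scheme.Modules.restrictFunctor U.ι).obj (G.homology j) :=
    (G.sc j).mapHomologyIso (Scheme.Modules.restrictFunctor U.ι)
  have hv4 : VanOn ((Scheme.Modules.restrictFunctor U.ι).obj (G.homology j)) (i ⁻¹ᵁ W) :=
    vanOn_of_iso c hv3
  exact vanOn_of_restrict (G.homology j) U _ hv4

/-- **S6236** -/
theorem main6236 [CompactSpace X] (f : X ⟶ S) (n : ℤ) (E : DCoh.D X)
    (hE : DerSch.IsPseudoCoherentRel f n E) : ∃ b : ℤ, E.IsLE b := by
  let G : CochainComplex X.Modules ℤ := Q.objPreimage E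
  let e : Q.obj G ≅ E := Q.objObjPreimageIso E
  have hx : ∀ x : X, ∃ (U' : X.Opens) (b : ℤ), x ∈ U' ∧
      ∀ j : ℤ, b < j → VanOn (G.homology j) U' := by
    intro x
    obtain ⟨U, V, k, φ, hxU, hφ, hpc⟩ := exists_chart f n E hE x
    haveI : IsClosedImmersion (chartImm (U : X.Opens) φ) :=
      isClosedImmersion_chartImm (U : X.Opens) U.2 φ hφ
    exact exists_nbhd_vanOn G U (chartImm (U : X.Opens) φ) n (hpc G ⟨e⟩) x hxU
  choose U' b hxU' hv using hx
  obtain ⟨t, ht⟩ := isCompact_univ.elim_finite_subcover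
    (fun x : X => ((U' x : X.Opens) : Set X))
    (fun x => (U' x).isOpen) (fun y _ => Set.mem_iUnion.2 ⟨y, hxU' y⟩)
  refine ⟨∑ x ∈ t, |b x|, ?_⟩
  rw [DerivedCategory.isLE_iff]
  intro j hj
  have hz : IsZero (G.homology j) := by
    apply isZero_of_vanOn_cover
    intro y
    have hy := ht (Set.mem_univ y)
    simp only [Set.mem_iUnion] at hy
    obtain ⟨x, hx, hyx⟩ := hy
    refine ⟨U' x, hyx, hv x j ?_⟩
    have h1 : |b x| ≤ ∑ y ∈ t, |b y| :=
      Finset.single_le_sum (f := fun y => |b y|) (fun y _ => abs_nonneg _) hx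
    have h2 := le_abs_self (b x)
    linarith
  exact IsZero.of_iso hz ((homologyFunctor X.Modules j).mapIso e.symm ≪≫
    (homologyFunctorFactors X.Modules j).app G)

end Main

end

end Groth.Agent.Lib.RelPCQcH3
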