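import Mathlib
import Groth.Prelude
import Groth.Agent.Lib.MVPush5_lead
import Groth.Agent.Lib.PerfFlat1_lead

/-!
# `Rj_* E` is perfect for `E` perfect and supported on a subset closed in `X` (lead)
-/

set_option autoImplicit false
set_option linter.all false
set_option maxHeartbeats 1600000
set_option backward.isDefEq.respectTransparency false
set_option backward.isDefEq.respectTransparency.types false
set_option backward.defeqAttrib.useBackward true

universe u
open CategoryTheory CategoryTheory.Limits AlgebraicGeometry Opposite TopologicalSpace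
open CategoryTheory.Pretriangulated
attribute [local instance] HasDerivedCategory.standard

namespace Groth.Agent.Lib.MVPushL

open Groth.Agent.Lib.StalkSkyL Groth.Agent.Lib.DCohLocLead

noncomputable section

variable {X : Scheme.{u}}

theorem isZero_restrictD_of_support (W : X.Opens) (E : DCoh.D X)
    (h : ∀ (i : ℤ) (x : X), x ∈ W → x ∉ CohB1.support (DCoh.HD E i)) :
    IsZero ((DCoh.restrictD W.ι).obj E) := by
  apply isZero_of_forall_isZero_homology
  intro n
  obtain ⟨e⟩ := nonempty_HD_restrict_iso W.ι E n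
  exact IsZero.of_iso (isZero_restrict_of_support W _ (h n)) e

open ZeroObject in
theorem isStrictlyPerfect_zero (Y : Scheme.{u}) :
    DCoh.IsStrictlyPerfect (0 : CochainComplex Y.Modules ℤ) := by
  have hz : ∀ i, IsZero ((0 : CochainComplex Y.Modules ℤ).X i) := fun i =>
    (HomologicalComplex.eval Y.Modules (ComplexShape.up ℤ) i).map_isZero (isZero_zero _)
  exact ⟨⟨0, 0, fun i _ => hz i⟩, fun i => isFinLocFree_of_isZero (hz i)⟩

open ZeroObject in
theorem main6519 (U : X.Opens) [DCoh.HasRpush U.ι]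
    (E : DCoh.D (U : Scheme.{u})) (hE : DCoh.IsPerfect E) (T : Set (U : Scheme.{u}))
    (hT : IsClosed T) (hjT : IsClosed ((fun x : (U : Scheme.{u}) => U.ι.base x) '' T))
    (hsupp : ∀ i : ℤ, CohB1.support (DCoh.HD E i) ⊆ T) :
    DCoh.IsPerfect ((DCoh.Rpush U.ι).obj E) := by
  have hT'U : (fun x : (U : Scheme.{u}) => U.ι.base x) '' T ⊆ (U : Set X) := by
    rintro _ ⟨y, -, rfl⟩
    exact y.2
  have hF : ∀ i : ℤ, (fun x : (U : Scheme.{u}) => U.ι.base x) '' CohB1.support (DCoh.HD E i) ⊆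
      (fun x : (U : Scheme.{u}) => U.ι.base x) '' T := fun i => Set.image_mono (hsupp i)
  obtain ⟨e⟩ := part2 U _ hjT hT'U E hF
  obtain ⟨e2⟩ := nonempty_restrictD_extZeroD_iso U E
  apply isPerfect_of_locRep
  intro x
  by_cases hxU : x ∈ U
  · obtain ⟨W, hyW, P, hP, ⟨eP⟩⟩ := (isPerfect_iff E).mp hE ⟨x, hxU⟩
    refine ⟨W, W.ι ≫ U.ι, inferInstance, ⟨⟨⟨x, hxU⟩, hyW⟩, rfl⟩, P, hP, ?_⟩
    obtain ⟨c⟩ := nonempty_DD_comp_iso W.ι U.ι ((DCoh.Rpush U.ι).obj E)
    exact ⟨c ≪≫ (DD W.ι).mapIso ((DD U.ι).mapIso e.symm ≪≫ e2) ≪≫ eP⟩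
  · let V : X.Opens := ⟨((fun x : (U : Scheme.{u}) => U.ι.base x) '' T)ᶜ, hjT.isOpen_compl⟩
    have hxV : x ∈ V := fun hx => hxU (hT'U hx)
    refine ⟨V, V.ι, inferInstance, ⟨⟨x, hxV⟩, rfl⟩, 0, isStrictlyPerfect_zero _, ?_⟩
    have hz0 : IsZero ((DCoh.restrictD V.ι).obj ((CxOX.extZeroD U.ι).obj E)) := by
      apply isZero_restrictD_of_support
      intro i y hy hys
      obtain ⟨e3⟩ := nonempty_HD_extZeroD_iso U E i
      rw [support_eq_of_iso e3] at hys
      have hy' : y ∉ (fun x : (U : Scheme.{u}) => U.ι.base x) '' T := hy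
      exact hy' ((support_extZero_subset U _).trans (hF i) hys)
    have hz : IsZero ((DD V.ι).obj ((DCoh.Rpush U.ι).obj E)) :=
      IsZero.of_iso hz0 ((DCoh.restrictD V.ι).mapIso e.symm)
    exact ⟨hz.iso ((DerivedCategory.Q (C := (V : Scheme.{u}).Modules)).map_isZero (isZero_zero _))⟩

end

end Groth.Agent.Lib.MVPushL
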