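import Mathlib
import Groth.Prelude
import Groth.Agent.Lib.BCOpen1_lead
import Groth.Agent.Lib.MVPush6_lead

/-!
# Support of `Rf_* E` for a closed map `f` (lead)
-/

set_option autoImplicit false
set_option linter.all false
set_option maxHeartbeats 1600000
set_option backward.isDefEq.respectTransparency false
set_option backward.isDefEq.respectTransparency.types false
set_option backward.defeqAttrib.useBackward true

universe u
open CategoryTheory CategoryTheory.Limits AlgebraicGeometry Opposite TopologicalSpace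
open CategoryTheory.Pretriangulated
attribute [local instance] HasDerivedCategory.standard

namespace Groth.Agent.Lib.BCOpenL

open Groth.Agent.Lib.StalkSkyL Groth.Agent.Lib.MVPushL Groth.Agent.Lib.DCohLocLead

noncomputable section

variable {X Y : Scheme.{u}}

/-- the derived direct image exists -/
theorem hasRpush (g : X ⟶ Y) : DCoh.HasRpush g := by
  haveI := grothendieck_modules X
  exact (OrthDeriv.main (P := HomotopyCategory.subcategoryAcyclic X.Modules)
    (HomotopyCategory.quasiIso X.Modules (ComplexShape.up ℤ))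
    (HomotopyCategory.quasiIso_eq_trW_subcategoryAcyclic _)
    Groth.Agent.Lib.KInjGen8.hP (DerivedCategory.Qh : _ ⥤ DCoh.D X) (DCoh.pushKh g)).1

open ZeroObject in
theorem isKInjective_zero (C : Type*) [Category C] [Abelian C] :
    CochainComplex.IsKInjective (0 : CochainComplex C ℤ) :=
  ⟨fun f _ => ⟨Homotopy.ofEq ((isZero_zero _).eq_of_tgt _ _)⟩⟩

open ZeroObject in
/-- `Rg_*` sends zero objects to zero objects -/
theorem isZero_Rpush_of_isZero (g : X ⟶ Y) [DCoh.HasRpush g] (K : DCoh.D X) (hK : IsZero K) :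
    IsZero ((DCoh.Rpush g).obj K) := by
  haveI := grothendieck_modules X
  haveI := isKInjective_zero X.Modules
  have hz : IsZero (DerivedCategory.Q.obj (0 : CochainComplex X.Modules ℤ)) :=
    (DerivedCategory.Q (C := X.Modules)).map_isZero (isZero_zero _)
  have h1 : IsZero (DerivedCategory.Q.obj
      (((Scheme.Modules.pushforward g).mapHomologicalComplex (ComplexShape.up ℤ)).obj
        (0 : CochainComplex X.Modules ℤ))) :=
    (DerivedCategory.Q (C := Y.Modules)).map_isZero
      (((Scheme.Modules.pushforward g).mapHomologicalComplex (ComplexShape.up ℤ)).map_isZero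
        (isZero_zero _))
  have h2 : IsZero ((DCoh.Rpush g).obj (DerivedCategory.Q.obj (0 : CochainComplex X.Modules ℤ))) :=
    IsZero.of_iso h1
      (Groth.Agent.Lib.RDerGE.unitIso (Scheme.Modules.pushforward g)
        (0 : CochainComplex X.Modules ℤ)).symm
  exact IsZero.of_iso h2 ((DCoh.Rpush g).mapIso (hK.iso hz))

theorem main19620 (f : X ⟶ Y) [IsProper f] [DCoh.HasRpush f] (Z : Set ↥X) (hZ : IsClosed Z)
    (E : DCoh.D X) (hE : ∀ i : ℤ, CohB1.support (DCoh.HD E i) ⊆ Z) (i : ℤ) :
    CohB1.support (DCoh.HD ((DCoh.Rpush f).obj E) i) ⊆ f.base '' Z := by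
  intro y hy
  by_contra hyZ
  obtain ⟨V, hV⟩ : ∃ V : Y.Opens, (V : Set Y) = (f.base '' Z)ᶜ :=
    ⟨⟨(f.base '' Z)ᶜ, (f.isClosedMap _ hZ).isOpen_compl⟩, rfl⟩
  have hyV : y ∈ V := by
    show y ∈ (V : Set Y)
    rw [hV]
    exact hyZ
  haveI : DCoh.HasRpush (f ∣_ V) := hasRpush _
  obtain ⟨e⟩ := main6508 f V
  have h0 : IsZero ((DCoh.restrictD (f ⁻¹ᵁ V).ι).obj E) := by
    apply isZero_restrictD_of_support (f ⁻¹ᵁ V) E
    intro n x hx hxs
    have hx' : f.base x ∈ (V : Set Y) := hx
    rw [hV] at hx'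
    exact hx' ⟨x, hE n hxs, rfl⟩
  have h1 : IsZero ((DCoh.restrictD V.ι).obj ((DCoh.Rpush f).obj E)) :=
    IsZero.of_iso (isZero_Rpush_of_isZero (f ∣_ V) _ h0) (e.app E)
  obtain ⟨e2⟩ := nonempty_HD_restrict_iso V.ι ((DCoh.Rpush f).obj E) i
  have h2 : IsZero ((Scheme.Modules.restrictFunctor V.ι).obj
      (DCoh.HD ((DCoh.Rpush f).obj E) i)) :=
    IsZero.of_iso ((DerivedCategory.homologyFunctor _ i).map_isZero h1) e2.symm
  have h3 : IsZero ((DerSch.stalkFunctor V.toScheme ⟨y, hyV⟩).obj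
      ((Scheme.Modules.restrictFunctor V.ι).obj (DCoh.HD ((DCoh.Rpush f).obj E) i))) :=
    (DerSch.stalkFunctor V.toScheme ⟨y, hyV⟩).map_isZero h2
  haveI : Subsingleton (((Scheme.Modules.restrictFunctor V.ι).obj
      (DCoh.HD ((DCoh.Rpush f).obj E) i)).presheaf.stalk (⟨y, hyV⟩ : V.toScheme)) :=
    ModuleCat.subsingleton_of_isZero h3
  exact hy ((RestrStalkH8.restrictStalkEquiv V.ι (DCoh.HD ((DCoh.Rpush f).obj E) i)
    ⟨y, hyV⟩).symm.toEquiv.subsingleton)

end

end Groth.Agent.Lib.BCOpenL
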