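import Mathlib
import Groth.Prelude
import Groth.Agent.Lib.DSect5_lead
import Groth.Agent.Lib.PB1_helper8

/-!
# `Rf_*` and tilde for a morphism of affine schemes (lead)
-/

set_option autoImplicit false
set_option linter.all false
set_option maxHeartbeats 1600000
set_option backward.isDefEq.respectTransparency false
set_option backward.isDefEq.respectTransparency.types false
set_option backward.defeqAttrib.useBackward true

universe u
open CategoryTheory CategoryTheory.Limits AlgebraicGeometry TopologicalSpace Opposite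
open DerivedCategory CategoryTheory.Pretriangulated
attribute [local instance] HasDerivedCategory.standard

namespace Groth.Agent.Lib.DSectX

open Groth.Agent.Lib.DSectL Groth.Agent.Lib

section TildePush

variable {R S : CommRingCat.{u}} (φ : R ⟶ S)

/-- `f_* (N~) ≅ (N_R)~` -/
theorem nonempty_tildePushIso :
    Nonempty (tilde.functor S ⋙ Scheme.Modules.pushforward (Spec.map φ) ≅
      ModuleCat.restrictScalars.{u} φ.hom ⋙ tilde.functor R) := by
  let F := tilde.functor S ⋙ Scheme.Modules.pushforward (Spec.map φ)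
  let ε := (tilde.adjunction (R := R)).counit
  haveI : IsIso (Functor.whiskerLeft F ε) := by
    apply (config := { allowSynthFailures := true }) NatIso.isIso_of_isIso_app
    intro N
    haveI : IsIso ((tilde.functor S).obj N).fromTildeΓ := inferInstance
    exact isIso_fromTildeΓ_pushforward φ ((tilde.functor S).obj N)
  let i1 : F ⋙ (moduleSpecΓFunctor (R := R) ⋙ tilde.functor R) ≅ F :=
    asIso (Functor.whiskerLeft F ε) ≪≫ Functor.rightUnitor F
  let i2 : F ⋙ moduleSpecΓFunctor (R := R) ≅ ModuleCat.restrictScalars.{u} φ.hom :=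
    Functor.associator _ _ _ ≪≫ Functor.isoWhiskerLeft (tilde.functor S) (PBH8.pushΓIso φ) ≪≫
      (Functor.associator _ _ _).symm ≪≫
      Functor.isoWhiskerRight (tilde.toTildeΓNatIso (R := S)).symm
        (ModuleCat.restrictScalars.{u} φ.hom) ≪≫
      Functor.leftUnitor _
  exact ⟨i1.symm ≪≫ (Functor.associator _ _ _).symm ≪≫
    Functor.isoWhiskerRight i2 (tilde.functor R)⟩

theorem nonempty_iso_7268 [PreservesFiniteLimits (tilde.functor R)]
    [PreservesFiniteLimits (tilde.functor S)] [DCoh.HasRpush (Spec.map φ)] :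
    Nonempty (DCoh.tildeD S ⋙ DCoh.Rpush (Spec.map φ) ≅
      (ModuleCat.restrictScalars.{u} φ.hom).mapDerivedCategory ⋙ DCoh.tildeD R) := by
  obtain ⟨τ⟩ := nonempty_tildePushIso φ
  let W := HomologicalComplex.quasiIso (ModuleCat.{u} S) (ComplexShape.up ℤ)
  let G₁ := DCoh.tildeD S ⋙ DCoh.Rpush (Spec.map φ)
  let G₂ := (ModuleCat.restrictScalars.{u} φ.hom).mapDerivedCategory ⋙ DCoh.tildeD R
  let TSc := (tilde.functor S).mapHomologicalComplex (ComplexShape.up ℤ)
  let TRc := (tilde.functor R).mapHomologicalComplex (ComplexShape.up ℤ)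
  let RSc := (ModuleCat.restrictScalars.{u} φ.hom).mapHomologicalComplex (ComplexShape.up ℤ)
  let η := (DCoh.pushKh (Spec.map φ)).totalRightDerivedUnit DerivedCategory.Qh
    (HomotopyCategory.quasiIso (Spec S).Modules (ComplexShape.up ℤ))
  let β' : (tilde.functor S ⋙ Scheme.Modules.pushforward (Spec.map φ)).mapHomologicalComplex
      (ComplexShape.up ℤ) ⋙ Q ⟶ (TSc ⋙ Q) ⋙ DCoh.Rpush (Spec.map φ) :=
    { app := fun K => η.app ((HomotopyCategory.quotient _ _).obj (TSc.obj K))
      naturality := fun K K' g =>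
        η.naturality ((HomotopyCategory.quotient _ _).map (TSc.map g)) }
  haveI : IsIso β' := by
    apply (config := { allowSynthFailures := true }) NatIso.isIso_of_isIso_app
    intro K
    exact main7245 (Spec.map φ) (TSc.obj K)
      (fun n => inferInstanceAs (((tilde.functor S).obj (K.X n)).IsQuasicoherent))
  let E1 : (ModuleCat.restrictScalars.{u} φ.hom ⋙ tilde.functor R).mapHomologicalComplex
      (ComplexShape.up ℤ) ⋙ Q ≅ RSc ⋙ (TRc ⋙ Q) :=
    NatIso.ofComponents (fun K => Iso.refl _)
      (fun g => (Category.comp_id _).trans (Category.id_comp _).symm)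
  let e : Q ⋙ G₁ ≅ Q ⋙ G₂ :=
    (Functor.associator _ _ _).symm ≪≫
    Functor.isoWhiskerRight (tilde.functor S).mapDerivedCategoryFactors
      (DCoh.Rpush (Spec.map φ)) ≪≫
    (asIso β').symm ≪≫
    Functor.isoWhiskerRight (NatIso.mapHomologicalComplex τ (ComplexShape.up ℤ)) Q ≪≫
    E1 ≪≫
    Functor.isoWhiskerLeft RSc (tilde.functor R).mapDerivedCategoryFactors.symm ≪≫
    (Functor.associator _ _ _).symm ≪≫
    Functor.isoWhiskerRight
      (ModuleCat.restrictScalars.{u} φ.hom).mapDerivedCategoryFactors.symm (DCoh.tildeD R) ≪≫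
    Functor.associator _ _ _
  exact ⟨Localization.liftNatIso Q W (Q ⋙ G₁) (Q ⋙ G₂) G₁ G₂ e⟩

end TildePush

end Groth.Agent.Lib.DSectX
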