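import Mathlib
import Groth.Prelude
import Groth.Agent.Lib.DCohLoc4_lead
import Groth.Agent.Lib.DMod57_helper6

/-!
# Approximations and exact functors; ring-level closure lemmas (helper3)

* `isApprox_map`, `isApprox_of_map`: an exact functor `F` preserves `m`-approximations in the derived
  category; it reflects them if `F` reflects zero objects.
* `isPseudoCoherent_of_isApprox`: an object of `D(B)` which receives an `m`-approximation from an
  `m`-pseudo-coherent object is `m`-pseudo-coherent.
* `exists_fin_cover`: quasi-compactness of `Spec A` in terms of elements.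
-/

set_option autoImplicit false
set_option linter.all false
set_option maxHeartbeats 1600000
set_option backward.isDefEq.respectTransparency false
set_option backward.isDefEq.respectTransparency.types false
set_option backward.defeqAttrib.useBackward true

universe w₁ w₂ v₁ v₂ u₁ u₂ u
open CategoryTheory CategoryTheory.Limits AlgebraicGeometry Opposite TopologicalSpace
open CategoryTheory.Pretriangulated

namespace Groth.Agent.Lib.TildePCH3

open Groth.Agent.Lib.DCohLocLead DerivedCategory

noncomputable section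

section Generic

variable {C₁ : Type u₁} [Category.{v₁} C₁] [Abelian C₁] [HasDerivedCategory.{w₁} C₁]
  {C₂ : Type u₂} [Category.{v₂} C₂] [Abelian C₂] [HasDerivedCategory.{w₂} C₂]
  (F : C₁ ⥤ C₂) [F.Additive] [PreservesFiniteLimits F] [PreservesFiniteColimits F]

theorem nonempty_homology_map_iso (K : DerivedCategory C₁) (i : ℤ) :
    Nonempty ((homologyFunctor C₂ i).obj (F.mapDerivedCategory.obj K) ≅
      F.obj ((homologyFunctor C₁ i).obj K)) := by
  let G : CochainComplex C₁ ℤ := Q.objPreimage K
  let e : Q.obj G ≅ K := Q.objObjPreimageIso K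
  exact ⟨(homologyFunctor C₂ i).mapIso
      (F.mapDerivedCategory.mapIso e.symm ≪≫ F.mapDerivedCategoryFactors.app G) ≪≫
    (homologyFunctorFactors C₂ i).app _ ≪≫ (G.sc i).mapHomologyIso F ≪≫
      F.mapIso (((homologyFunctorFactors C₁ i).app G).symm ≪≫ (homologyFunctor C₁ i).mapIso e)⟩

theorem Lt_map {m : ℤ} {K : DerivedCategory C₁} (h : Lt m K) :
    Lt m (F.mapDerivedCategory.obj K) := by
  intro i hi
  obtain ⟨e⟩ := nonempty_homology_map_iso F K i
  exact IsZero.of_iso (F.map_isZero (h i hi)) e

theorem Lt_of_map (hF : ∀ M : C₁, IsZero (F.obj M) → IsZero M) {m : ℤ} {K : DerivedCategory C₁}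
    (h : Lt m (F.mapDerivedCategory.obj K)) : Lt m K := by
  intro i hi
  obtain ⟨e⟩ := nonempty_homology_map_iso F K i
  exact hF _ (IsZero.of_iso (h i hi) e.symm)

theorem isApprox_map {m : ℤ} {K L : DerivedCategory C₁} {α : K ⟶ L} (h : IsApprox m α) :
    IsApprox m (F.mapDerivedCategory.map α) := by
  obtain ⟨Z, p, q, hT⟩ := distinguished_cocone_triangle α
  have h1 : Lt m Z := Lt_of_isApprox m _ hT h
  exact isApprox_of_Lt m (F.mapDerivedCategory.mapTriangle.obj (Triangle.mk α p q))
    (F.mapDerivedCategory.map_distinguished _ hT) (Lt_map F h1)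

theorem isApprox_of_map (hF : ∀ M : C₁, IsZero (F.obj M) → IsZero M) {m : ℤ}
    {K L : DerivedCategory C₁} {α : K ⟶ L} (h : IsApprox m (F.mapDerivedCategory.map α)) :
    IsApprox m α := by
  obtain ⟨Z, p, q, hT⟩ := distinguished_cocone_triangle α
  have h1 : Lt m (F.mapDerivedCategory.obj Z) :=
    Lt_of_isApprox m (F.mapDerivedCategory.mapTriangle.obj (Triangle.mk α p q))
      (F.mapDerivedCategory.map_distinguished _ hT) h
  exact isApprox_of_Lt m _ hT (Lt_of_map F hF h1)

/-- a faithful additive functor reflects zero objects -/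
theorem isZero_of_faithful [F.Faithful] (M : C₁) (h : IsZero (F.obj M)) : IsZero M := by
  rw [IsZero.iff_id_eq_zero]
  apply F.map_injective
  rw [F.map_zero]
  exact h.eq_of_src _ _

end Generic

attribute [local instance] HasDerivedCategory.standard

section Ring

open DRing Groth.Agent.Lib.DMod_helper6

variable {B : Type u} [CommRing B]

theorem isPseudoCoherent_of_isApprox (m : ℤ) {L K : Dual.D B} (β : L ⟶ K) (hβ : IsApprox m β)
    (hL : DRing.IsPseudoCoherent B m L) : DRing.IsPseudoCoherent B m K := by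
  rw [isPseudoCoherent_iff_pcmP] at hL ⊢
  obtain ⟨Z, g, h, hT⟩ := distinguished_cocone_triangle β
  have hZ : Lt m Z := Lt_of_isApprox m _ hT hβ
  have hZ' : leP B (m - 1) Z := by
    show DerivedCategory.IsLE Z (m - 1)
    rw [DerivedCategory.isLE_iff]
    intro i hi
    exact hZ i (by omega)
  exact pcmP_ext m K ⟨L, Z, β, g, h, hT, hL, leP_le_pcmP m Z hZ'⟩

theorem isPseudoCoherent_of_bounded_projective (P₀ : Cx B) (a b : ℤ)
    (hab : DRing.VanishesOutside P₀ a b) (hfp : DRing.TermwiseFiniteProjective P₀) (m : ℤ) :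
    DRing.IsPseudoCoherent B m (toD P₀) :=
  (isPseudoCoherent'_iff_forall _).mp
    (isPseudoCoherent'_of_isPerfect _ ⟨P₀, a, b, hab, hfp, ⟨Iso.refl _⟩⟩) m

theorem exists_fin_cover {A : Type u} [CommRing A] (P : A → Prop)
    (h : ∀ x : PrimeSpectrum A, ∃ f : A, f ∉ x.asIdeal ∧ P f) :
    ∃ (r : ℕ) (f : Fin r → A), Ideal.span (Set.range f) = ⊤ ∧ ∀ j, P (f j) := by
  have hS : Ideal.span {f | P f} = ⊤ := by
    by_contra hne
    obtain ⟨m, hm, hle⟩ := Ideal.exists_le_maximal _ hne
    obtain ⟨f, hxf, hPf⟩ := h ⟨m, hm.isPrime⟩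
    exact hxf (hle (Ideal.subset_span hPf))
  obtain ⟨s, hs, hspan⟩ := (Ideal.span_eq_top_iff_finite _).mp hS
  let e := s.equivFin
  refine ⟨s.card, fun j => ((e.symm j : s) : A), ?_, fun j => hs (e.symm j).2⟩
  have hr : Set.range (fun j => ((e.symm j : s) : A)) = (s : Set A) := by
    ext a
    constructor
    · rintro ⟨j, rfl⟩
      exact (e.symm j).2
    · intro ha
      exact ⟨e ⟨a, ha⟩, by simp⟩
  rw [hr]
  exact hspan

end Ring

end

end Groth.Agent.Lib.TildePCH3
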