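import Mathlib
import Groth.Prelude
import Groth.Agent.Lib.TildePC1_helper3
import Groth.Agent.Lib.TildeAmp_lead
import Groth.Agent.Lib.PB1_helper8
import Groth.Agent.Lib.AffNull1_helper5
import Groth.Agent.Lib.LpullQC_lead
import Groth.Agent.Lib.DSect7_lead

/-!
# The affine dictionary for strictly perfect complexes and restriction to principal opens (helper3)

* `resTildeCxIso`: `(K~)|_{Spec B} ≅ (B ⊗_A K)~` for `Spec B ⟶ Spec A` an open immersion.
* `exists_tilde_rep`: a strictly perfect complex on `Spec B` is `P₀~` for a bounded complex of finite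
  projective `B`-modules.
* `isStrictlyPerfect_tildeCx`.
* `locApprox_of_global`.
-/

set_option autoImplicit false
set_option linter.all false
set_option maxHeartbeats 1600000
set_option backward.isDefEq.respectTransparency false
set_option backward.isDefEq.respectTransparency.types false
set_option backward.defeqAttrib.useBackward true

universe u
open CategoryTheory CategoryTheory.Limits AlgebraicGeometry Opposite TopologicalSpace
open CategoryTheory.Pretriangulated

attribute [local instance] HasDerivedCategory.standard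

namespace Groth.Agent.Lib.TildePCH3

open Groth.Agent.Lib.DCohLocLead DerivedCategory DRing Groth.Agent.Lib.DMod_helper6
  Groth.Agent.Lib.TildeAmpL

noncomputable section

section Res

variable (A B : Type u) [CommRing A] [CommRing B] [Algebra A B]

/-- `Spec B ⟶ Spec A` -/
abbrev jAB : XA B ⟶ XA A := Spec.map (CommRingCat.ofHom (algebraMap A B))

variable [IsOpenImmersion (jAB A B)]

/-- `(M~)|_{Spec B} ≅ (B ⊗_A M)~` -/
def resTildeIso :
    tilde.functor (CommRingCat.of A) ⋙ Scheme.Modules.restrictFunctor (jAB A B) ≅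
      ES A B ⋙ tilde.functor (CommRingCat.of B) :=
  Functor.isoWhiskerLeft _ (Scheme.Modules.restrictFunctorIsoPullback (jAB A B)) ≪≫
    PBH8.pullbackTildeIso (CommRingCat.ofHom (algebraMap A B))

/-- `(K~)|_{Spec B} ≅ (B ⊗_A K)~` for complexes -/
def resTildeCxIso (K : Cx A) :
    (RC (jAB A B)).obj ((tildeCx A).obj K) ≅
      (tildeCx B).obj (((ES A B).mapHomologicalComplex (ComplexShape.up ℤ)).obj K) :=
  HomologicalComplex.Hom.isoOfComponents (fun i => (resTildeIso A B).app (K.X i)) (by
    intro i j _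
    exact ((resTildeIso A B).hom.naturality (K.d i j)).symm)

end Res

section Spec

variable (R : CommRingCat.{u})

/-- `K ↦ K~` on complexes -/
abbrev tildeCxR : Cx R ⥤ CochainComplex (Spec (CommRingCat.of R)).Modules ℤ :=
  (tilde.functor R).mapHomologicalComplex (ComplexShape.up ℤ)

theorem isStrictlyPerfect_tildeCx (E : Cx R) (a b : ℤ) (hab : DRing.VanishesOutside E a b)
    (hfp : DRing.TermwiseFiniteProjective E) : DCoh.IsStrictlyPerfect ((tildeCxR R).obj E) :=
  ⟨⟨a, b, fun i hi => (tilde.functor R).map_isZero (hab i hi)⟩,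
    fun i => (FLFH8.tilde_finLocFree_iff (R := R) (E.X i)).mpr (hfp i)⟩

theorem exists_tilde_rep (P : CochainComplex (Spec (CommRingCat.of R)).Modules ℤ)
    (hP : DCoh.IsStrictlyPerfect P) :
    ∃ (P₀ : Cx R) (a b : ℤ), DRing.VanishesOutside P₀ a b ∧ DRing.TermwiseFiniteProjective P₀ ∧
      Nonempty ((tildeCxR R).obj P₀ ≅ P) := by
  obtain ⟨⟨a, b, hab⟩, hfl⟩ := hP
  haveI hq : ∀ i, (P.X i).IsQuasicoherent :=
    fun i => FLFH8.isQuasicoherent_of_finLocFree _ (hfl i)
  let P₀ : Cx R :=
    ((moduleSpecΓFunctor (R := R)).mapHomologicalComplex _).obj P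
  let α : (tildeCxR R).obj P₀ ≅ P :=
    HomologicalComplex.Hom.isoOfComponents
      (fun i => @asIso _ _ _ _ (P.X i).fromTildeΓ
        (Scheme.Modules.isIso_fromTildeΓ_of_isQuasicoherent (P.X i)))
      (fun i j _ => ((Scheme.Modules.fromTildeΓNatTrans (R := R)).naturality
        (P.d i j)).symm)
  refine ⟨P₀, a, b, fun i hi => (moduleSpecΓFunctor (R := R)).map_isZero (hab i hi),
    fun i => ?_, ⟨α⟩⟩
  have h1 : FlatMod.IsFinLocFree (tilde (P₀.X i)) :=
    FLFH8.IsFinLocFree.of_iso (asIso (P.X i).fromTildeΓ).symm (hfl i)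
  exact (FLFH8.tilde_finLocFree_iff (P₀.X i)).mp h1

/-- tilde reflects zero objects -/
theorem isZero_of_isZero_tilde (M : ModuleCat.{u} R)
    (h : IsZero ((tilde.functor R).obj M)) : IsZero M := by
  rw [IsZero.iff_id_eq_zero]
  apply (tilde.functor R).map_injective
  rw [Functor.map_zero]
  exact h.eq_of_src _ _

end Spec

section Global

variable {X Y : Scheme.{u}}

theorem locApprox_of_global (m : ℤ) (j : Y ⟶ X) [IsOpenImmersion j] {K : DCoh.D X}
    (E : CochainComplex X.Modules ℤ) (α : Q.obj E ⟶ K) (hE : DCoh.IsStrictlyPerfect E)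
    (hα : IsApprox m α) : LocApprox m j K :=
  ⟨(RC j).obj E, (facIso j E).inv ≫ (DD j).map α, isStrictlyPerfect_RC j hE,
    (IsApprox.of_isIso _).comp (hα.restrict j)⟩

end Global

end

end Groth.Agent.Lib.TildePCH3
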