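import Mathlib
import Groth.Prelude
import Groth.Agent.Lib.TildePC2_helper3

/-!
# `M~` is `m`-pseudo-coherent / perfect iff `M` is (helper3; S1004, S1105)
-/

set_option autoImplicit false
set_option linter.all false
set_option maxHeartbeats 1600000
set_option backward.isDefEq.respectTransparency false
set_option backward.isDefEq.respectTransparency.types false
set_option backward.defeqAttrib.useBackward true

universe u
open CategoryTheory CategoryTheory.Limits AlgebraicGeometry Opposite TopologicalSpace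
open CategoryTheory.Pretriangulated

attribute [local instance] HasDerivedCategory.standard

namespace Groth.Agent.Lib.TildePCH3

open Groth.Agent.Lib.DCohLocLead DerivedCategory DRing Groth.Agent.Lib.DMod_helper6
  Groth.Agent.Lib.TildeAmpL

noncomputable section

section RLevel

variable (R : CommRingCat.{u}) [PreservesFiniteLimits (tilde.functor R)]

theorem isApprox_tildeD {m : ℤ} {K L : DerivedCategory (ModuleCat.{u} R)} {β : K ⟶ L}
    (h : IsApprox m β) : IsApprox m ((DCoh.tildeD R).map β) :=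
  isApprox_map (tilde.functor R) h

theorem isApprox_of_tildeD {m : ℤ} {K L : DerivedCategory (ModuleCat.{u} R)} {β : K ⟶ L}
    (h : IsApprox m ((DCoh.tildeD R).map β)) : IsApprox m β :=
  isApprox_of_map (tilde.functor R) (isZero_of_isZero_tilde R) h

/-- the factorization iso `(Q K)~ ≅ Q (K~)` -/
def tdFac (K : Cx R) : (DCoh.tildeD R).obj (Q.obj K) ≅ Q.obj ((tildeCxR R).obj K) :=
  (tilde.functor R).mapDerivedCategoryFactors.app K

theorem isPC_ring_of_tilde_approx (m : ℤ)
    (P : CochainComplex (Spec (CommRingCat.of R)).Modules ℤ) (hP : DCoh.IsStrictlyPerfect P)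
    (L : Cx R) (α : Q.obj P ⟶ Q.obj ((tildeCxR R).obj L)) (hα : IsApprox m α) :
    DRing.IsPseudoCoherent R m (toD L) := by
  obtain ⟨P₀, a, b, hab, hfp, ⟨e⟩⟩ := exists_tilde_rep R P hP
  haveI : (DCoh.tildeD R).Full := (Groth.Agent.Lib.DSectX.main0997 R).1
  let α'' : (DCoh.tildeD R).obj (Q.obj P₀) ⟶ (DCoh.tildeD R).obj (Q.obj L) :=
    (tdFac R P₀).hom ≫ Q.map e.hom ≫ α ≫ (tdFac R L).inv
  have hα'' : IsApprox m α'' :=
    (IsApprox.of_isIso _).comp ((IsApprox.of_isIso _).comp (hα.comp (IsApprox.of_isIso _)))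
  obtain ⟨β, hβ⟩ := (DCoh.tildeD R).map_surjective α''
  have hβ' : IsApprox m β := isApprox_of_tildeD R (by rw [hβ]; exact hα'')
  exact isPseudoCoherent_of_isApprox m β hβ'
    (isPseudoCoherent_of_bounded_projective P₀ a b hab hfp m)

theorem isPerfect_ring_of_tilde_iso
    (P : CochainComplex (Spec (CommRingCat.of R)).Modules ℤ) (hP : DCoh.IsStrictlyPerfect P)
    (L : Cx R) (ε : Q.obj ((tildeCxR R).obj L) ≅ Q.obj P) :
    DRing.IsPerfect R (toD L) := by
  obtain ⟨P₀, a, b, hab, hfp, ⟨e⟩⟩ := exists_tilde_rep R P hP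
  haveI : (DCoh.tildeD R).Full := (Groth.Agent.Lib.DSectX.main0997 R).1
  haveI : (DCoh.tildeD R).Faithful := (Groth.Agent.Lib.DSectX.main0997 R).2.1
  let ε'' : (DCoh.tildeD R).obj (Q.obj P₀) ≅ (DCoh.tildeD R).obj (Q.obj L) :=
    tdFac R P₀ ≪≫ Q.mapIso e ≪≫ ε.symm ≪≫ (tdFac R L).symm
  exact ⟨P₀, a, b, hab, hfp, ⟨(DCoh.tildeD R).preimageIso ε''⟩⟩

end RLevel

section ALevel

variable (A : Type u) [CommRing A]

theorem exists_basic_lift (V : (XA A).Opens) (x : PrimeSpectrum A) (hxV : x ∈ V) :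
    ∃ (f : A), f ∉ x.asIdeal ∧
      ∃ (k : XA (Localization.Away f) ⟶ (V : Scheme.{u})) (_ : IsOpenImmersion k),
        k ≫ V.ι = jAB A (Localization.Away f) := by
  obtain ⟨U', ⟨f, rfl⟩, hxf, hfV⟩ :=
    Opens.isBasis_iff_nbhd.mp (PrimeSpectrum.isBasis_basic_opens (R := A)) hxV
  refine ⟨f, hxf, ?_⟩
  have hr : Set.range (jAB A (Localization.Away f)) ⊆ Set.range V.ι := by
    rw [Scheme.Opens.range_ι]
    intro y hy
    have h1 : y ∈ ((jAB A (Localization.Away f)).opensRange : Set _) := hy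
    rw [show (jAB A (Localization.Away f)).opensRange = PrimeSpectrum.basicOpen f from
      Scheme.Hom.opensRange_localizationAway (R := CommRingCat.of A) f] at h1
    exact hfV h1
  let k := IsOpenImmersion.lift V.ι (jAB A (Localization.Away f)) hr
  have hk : k ≫ V.ι = jAB A (Localization.Away f) := IsOpenImmersion.lift_fac _ _ _
  haveI : IsOpenImmersion (k ≫ V.ι) := by rw [hk]; infer_instance
  exact ⟨k, IsOpenImmersion.of_comp k V.ι, hk⟩

/-- the comparison `(Q K~)|_{D(f)} ≅ Q ((K_f)~)` -/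
def awayIso (K : Cx A) (f : A) :
    (DD (jAB A (Localization.Away f))).obj (Q.obj ((tildeCx A).obj K)) ≅
      Q.obj ((tildeCx (Localization.Away f)).obj
        (((ES A (Localization.Away f)).mapHomologicalComplex (ComplexShape.up ℤ)).obj K)) :=
  facIso (jAB A (Localization.Away f)) _ ≪≫
    Q.mapIso (resTildeCxIso A (Localization.Away f) K)

theorem isPC_away (K : Cx A) (m : ℤ) (f : A)
    (h : LocApprox m (jAB A (Localization.Away f)) (Q.obj ((tildeCx A).obj K))) :
    DRing.IsPseudoCoherent (Localization.Away f) m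
      (toD (((ES A (Localization.Away f)).mapHomologicalComplex (ComplexShape.up ℤ)).obj K)) := by
  haveI := Groth.Agent.Lib.LpullQCL.preservesFiniteLimits_tilde (Localization.Away f)
  obtain ⟨P, α, hP, hα⟩ := h
  exact isPC_ring_of_tilde_approx (CommRingCat.of (Localization.Away f)) m P hP _
    (α ≫ (awayIso A K f).hom) (hα.comp (IsApprox.of_isIso _))

theorem isPerfect_away (K : Cx A) (f : A)
    (h : LocRep SP (jAB A (Localization.Away f)) (Q.obj ((tildeCx A).obj K))) :
    DRing.IsPerfect (Localization.Away f)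
      (toD (((ES A (Localization.Away f)).mapHomologicalComplex (ComplexShape.up ℤ)).obj K)) := by
  haveI := Groth.Agent.Lib.LpullQCL.preservesFiniteLimits_tilde (Localization.Away f)
  obtain ⟨P, hP, ⟨e⟩⟩ := h
  exact isPerfect_ring_of_tilde_iso (CommRingCat.of (Localization.Away f)) P hP _
    ((awayIso A K f).symm ≪≫ e)

variable [PreservesFiniteLimits (tilde.functor (CommRingCat.of A))]

/-- **S1004** -/
theorem main1004 (M : Dual.D A) (m : ℤ) :
    DCoh.IsPseudoCoherentD m ((DCoh.tildeD (CommRingCat.of A)).obj M) ↔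
      DRing.IsPseudoCoherent A m M := by
  constructor
  · intro hpc
    let K : Cx A := Q.objPreimage M
    let eK : Q.obj K ≅ M := Q.objObjPreimageIso M
    have hpc' : DCoh.IsPseudoCoherentD m (Q.obj ((tildeCx A).obj K)) :=
      isPC_of_iso ((DCoh.tildeD (CommRingCat.of A)).mapIso eK.symm ≪≫
        tdFac (CommRingCat.of A) K) hpc
    have hloc : ∀ x : PrimeSpectrum A, ∃ f : A, f ∉ x.asIdeal ∧
        DRing.IsPseudoCoherent (Localization.Away f) m
          (toD (((ES A (Localization.Away f)).mapHomologicalComplex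
            (ComplexShape.up ℤ)).obj K)) := by
      intro x
      obtain ⟨V, hxV, hV⟩ := (isPC_iff m _).mp hpc' x
      obtain ⟨f, hxf, k, hk, hkV⟩ := exists_basic_lift A V x hxV
      haveI := hk
      exact ⟨f, hxf, isPC_away A K m f ((hV.comp k V.ι).of_eq hkV)⟩
    obtain ⟨r, f, hf, hPf⟩ := exists_fin_cover _ hloc
    have h1 := isPseudoCoherent_of_localization_away hf K m hPf
    rw [isPseudoCoherent_iff_pcmP] at h1 ⊢
    exact (pcmP A m).prop_of_iso eK h1
  · rintro ⟨E, a, b, α, hab, hff, hiso, hepi⟩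
    have hα : IsApprox m α := ⟨hiso, hepi⟩
    have hfp : DRing.TermwiseFiniteProjective E := fun i => by
      haveI := (hff i).2
      exact ⟨(hff i).1, inferInstance⟩
    have hE : DCoh.IsStrictlyPerfect ((tildeCx A).obj E) :=
      isStrictlyPerfect_tildeCx (CommRingCat.of A) E a b hab hfp
    let α' : Q.obj ((tildeCx A).obj E) ⟶ (DCoh.tildeD (CommRingCat.of A)).obj M :=
      (tdFac (CommRingCat.of A) E).inv ≫ (DCoh.tildeD (CommRingCat.of A)).map α
    have hα' : IsApprox m α' :=
      (IsApprox.of_isIso _).comp (isApprox_tildeD (CommRingCat.of A) hα)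
    rw [isPC_iff]
    intro x
    exact ⟨⊤, trivial, locApprox_of_global m _ _ α' hE hα'⟩

/-- **S1105** -/
theorem main1105 (M : Dual.D A) :
    DCoh.IsPerfect ((DCoh.tildeD (CommRingCat.of A)).obj M) ↔ DRing.IsPerfect A M := by
  constructor
  · intro hp
    let K : Cx A := Q.objPreimage M
    let eK : Q.obj K ≅ M := Q.objObjPreimageIso M
    have e0 : (DCoh.tildeD (CommRingCat.of A)).obj M ≅ Q.obj ((tildeCx A).obj K) :=
      (DCoh.tildeD (CommRingCat.of A)).mapIso eK.symm ≪≫ tdFac (CommRingCat.of A) K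
    have hloc : ∀ x : PrimeSpectrum A, ∃ f : A, f ∉ x.asIdeal ∧
        DRing.IsPerfect (Localization.Away f)
          (toD (((ES A (Localization.Away f)).mapHomologicalComplex
            (ComplexShape.up ℤ)).obj K)) := by
      intro x
      obtain ⟨V, hxV, P, hP, ⟨e⟩⟩ := (DCohLocLead.isPerfect_iff _).mp hp x
      have hV : LocRep SP V.ι (Q.obj ((tildeCx A).obj K)) :=
        ⟨P, hP, ⟨(DD V.ι).mapIso e0.symm ≪≫ e⟩⟩
      obtain ⟨f, hxf, k, hk, hkV⟩ := exists_basic_lift A V x hxV
      haveI := hk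
      exact ⟨f, hxf, isPerfect_away A K f
        ((hV.comp k V.ι (fun P hP => isStrictlyPerfect_RC k hP)).of_eq hkV)⟩
    obtain ⟨r, f, hf, hPf⟩ := exists_fin_cover _ hloc
    obtain ⟨E, a, b, h1, h2, ⟨e⟩⟩ := isPerfect_of_localization_away hf K hPf
    exact ⟨E, a, b, h1, h2, ⟨e ≪≫ eK⟩⟩
  · rintro ⟨E, a, b, hab, hfp, ⟨e⟩⟩
    have hE : DCoh.IsStrictlyPerfect ((tildeCx A).obj E) :=
      isStrictlyPerfect_tildeCx (CommRingCat.of A) E a b hab hfp
    have e1 : (DCoh.tildeD (CommRingCat.of A)).obj M ≅ Q.obj ((tildeCx A).obj E) :=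
      (DCoh.tildeD (CommRingCat.of A)).mapIso e.symm ≪≫ tdFac (CommRingCat.of A) E
    rw [DCohLocLead.isPerfect_iff]
    intro x
    exact ⟨⊤, trivial, (RC (⊤ : (XA A).Opens).ι).obj ((tildeCx A).obj E),
      isStrictlyPerfect_RC _ hE,
      ⟨(DD (⊤ : (XA A).Opens).ι).mapIso e1 ≪≫ facIso _ _⟩⟩

end ALevel

end

end Groth.Agent.Lib.TildePCH3
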