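import Mathlib
import Groth.Prelude
import Groth.Agent.Lib.TildePC3_helper3
import Groth.Agent.Lib.KFTilde2_lead
import Groth.Agent.Lib.LpullPC_helper3
import Groth.Agent.Lib.LpullComp_helper3
import Groth.Agent.Lib.PerfFlat2_lead
import Groth.Agent.Lib.KProjRes_helper2

/-!
# fpqc descent of `m`-pseudo-coherence for objects of `D_QCoh` (helper3; S1057)
-/

set_option autoImplicit false
set_option linter.all false
set_option maxHeartbeats 1600000
set_option backward.isDefEq.respectTransparency false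
set_option backward.isDefEq.respectTransparency.types false
set_option backward.defeqAttrib.useBackward true

universe u
open CategoryTheory CategoryTheory.Limits AlgebraicGeometry Opposite TopologicalSpace
open CategoryTheory.Pretriangulated

attribute [local instance] HasDerivedCategory.standard

namespace Groth.Agent.Lib.FpqcPCH3

open Groth.Agent.Lib.DCohLocLead DerivedCategory DRing Groth.Agent.Lib.DMod_helper6
  Groth.Agent.Lib.TildeAmpL Groth.Agent.Lib.TildePCH3 Groth.Agent.Lib.LpullExH3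
  Groth.Agent.Lib.LpullLocH3

noncomputable section

section Cover

variable {X : Scheme.{u}}

/-- pseudo-coherence is local: it can be tested on a jointly surjective family of open immersions -/
theorem isPC_of_cover (m : ℤ) (K : DCoh.D X) {ι : Type*} (Y : ι → Scheme.{u})
    (j : ∀ i, Y i ⟶ X) [∀ i, IsOpenImmersion (j i)] (hcov : ∀ x : X, ∃ (i : ι) (y : Y i), j i y = x)
    (h : ∀ i, DCoh.IsPseudoCoherentD m ((DD (j i)).obj K)) : DCoh.IsPseudoCoherentD m K := by
  refine isPC_of_locApprox m K (fun x => ?_)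
  obtain ⟨i, y, rfl⟩ := hcov x
  obtain ⟨W, hyW, E, α, hE, hα⟩ := (isPC_iff m _).mp (h i) y
  obtain ⟨c⟩ := nonempty_DD_comp_iso W.ι (j i) K
  exact ⟨(W : Scheme.{u}), W.ι ≫ j i, inferInstance, ⟨⟨y, hyW⟩, rfl⟩, E, α ≫ c.inv, hE,
    hα.comp (IsApprox.of_isIso _)⟩

end Cover

section Ring

variable {A : Type u} [CommRing A]

theorem isPseudoCoherent_of_iso_ring {K L : Dual.D A} (e : K ≅ L) (m : ℤ)
    (h : DRing.IsPseudoCoherent A m K) : DRing.IsPseudoCoherent A m L := by
  rw [isPseudoCoherent_iff_pcmP] at h ⊢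
  exact (pcmP A m).prop_of_iso e h

end Ring

section Core

variable {X' X : Scheme.{u}} (f : X' ⟶ X)

theorem isPC_restrict_of_ffCover [DCoh.HasLpull f] (E : DCoh.D X) (hE : DCoh.IsQCohD E) (m : ℤ)
    (hpc : DCoh.IsPseudoCoherentD m ((DCoh.Lpull f).obj E))
    (A B : Type u) [CommRing A] [CommRing B] (j : XA A ⟶ X) [IsOpenImmersion j]
    (ψ : A →+* B) (hψ : ψ.FaithfullyFlat) (g' : XA B ⟶ X')
    (hg : g' ≫ f = Spec.map (CommRingCat.ofHom ψ) ≫ j) :
    DCoh.IsPseudoCoherentD m ((DD j).obj E) := by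
  haveI instA : PreservesFiniteLimits (tilde.functor (CommRingCat.of A)) :=
    Groth.Agent.Lib.LpullQCL.preservesFiniteLimits_tilde A
  haveI instB : PreservesFiniteLimits (tilde.functor (CommRingCat.of B)) :=
    Groth.Agent.Lib.LpullQCL.preservesFiniteLimits_tilde B
  have hq : DCoh.IsQCohD ((DD j).obj E) := Groth.Agent.Lib.LpullQCL.isQCohD_restrictD j E hE
  obtain ⟨M, ⟨eM⟩⟩ := ((Groth.Agent.Lib.DSectX.main0997 (CommRingCat.of A)).2.2 _).mp hq
  haveI := hasLpull g'
  haveI := hasLpull (g' ≫ f)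
  haveI := hasLpull j
  haveI := hasLpull (Spec.map (CommRingCat.ofHom ψ))
  haveI := hasLpull (Spec.map (CommRingCat.ofHom ψ) ≫ j)
  obtain ⟨c1⟩ := Groth.Agent.Lib.LpullCompH3.nonempty_comp_iso g' f
  obtain ⟨c2⟩ := Groth.Agent.Lib.LpullCompH3.nonempty_comp_iso (Spec.map (CommRingCat.ofHom ψ)) j
  obtain ⟨c3⟩ := nonempty_Lpull_congr hg
  have h1 : DCoh.IsPseudoCoherentD m ((DCoh.Lpull g').obj ((DCoh.Lpull f).obj E)) :=
    Groth.Agent.Lib.LpullPCH3.isPC_Lpull g' m _ hpc
  have h2 : DCoh.IsPseudoCoherentD m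
      ((DCoh.Lpull (Spec.map (CommRingCat.ofHom ψ))).obj ((DD j).obj E)) :=
    isPC_of_iso (c1.app E ≪≫ c3.app E ≪≫ (c2.app E).symm ≪≫
      (DCoh.Lpull (Spec.map (CommRingCat.ofHom ψ))).mapIso ((restrictDIsoLpull j).app E).symm) h1
  have h3 : DCoh.IsPseudoCoherentD m
      ((DCoh.Lpull (Spec.map (CommRingCat.ofHom ψ))).obj
        ((DCoh.tildeD (CommRingCat.of A)).obj M)) :=
    isPC_of_iso ((DCoh.Lpull (Spec.map (CommRingCat.ofHom ψ))).mapIso eM.symm) h2
  haveI := Groth.Agent.Lib.LpullQCL.hasLBaseChange ψ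
  obtain ⟨c4⟩ := Groth.Agent.Lib.KFTildeL.nonempty_iso_1055 ψ
  have h4 : DCoh.IsPseudoCoherentD m
      ((DCoh.tildeD (CommRingCat.of B)).obj ((DRing.LBaseChange ψ).obj M)) :=
    isPC_of_iso (c4.app M).symm h3
  have h5 : DRing.IsPseudoCoherent B m ((DRing.LBaseChange ψ).obj M) := (main1004 B _ m).mp h4
  obtain ⟨P, π, hπ, hPkp, -, -⟩ :=
    Groth.Agent.Lib.KProjRes.exists_kproj_resolution (Q.objPreimage M : Cx A)
  haveI := hπ
  haveI := hPkp
  let eP : toD P ≅ M := asIso (Q.map π) ≪≫ Q.objObjPreimageIso M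
  obtain ⟨c5⟩ := nonempty_lBaseChange_iso_of_isKProjective ψ P
  letI := ψ.toAlgebra
  haveI : Module.FaithfullyFlat A B := hψ
  have h6 : DRing.IsPseudoCoherent B m
      (toD (((ES A B).mapHomologicalComplex (ComplexShape.up ℤ)).obj P)) :=
    isPseudoCoherent_of_iso_ring ((DRing.LBaseChange ψ).mapIso eP.symm ≪≫ c5) m h5
  have h7 : DRing.IsPseudoCoherent A m (toD P) := isPseudoCoherent_of_faithfullyFlat P m h6
  have h8 : DRing.IsPseudoCoherent A m M := isPseudoCoherent_of_iso_ring eP m h7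
  exact isPC_of_iso eM ((main1004 A M m).mpr h8)

end Core

end

end Groth.Agent.Lib.FpqcPCH3
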