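import Mathlib
import Groth.Prelude.Def_ModSite
import Groth.Agent.Lib.ModSite5_helper8
import Groth.Agent.Lib.ModSite7_helper8
import Groth.Agent.Lib.ModSite9_helper8
import Groth.Agent.Lib.ModSite10_helper8
import Groth.Agent.Lib.ModSite11_helper8

/-!
# Permanence of local properties of sheaves of modules under tensor product (ringed spaces)
-/

set_option autoImplicit false
set_option linter.unusedSimpArgs false
set_option linter.unusedVariables false
set_option linter.unusedSectionVars false
set_option linter.style.longLine false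
set_option linter.unnecessarySimpa false
set_option linter.deprecated false
set_option maxHeartbeats 1600000
set_option backward.isDefEq.respectTransparency false
set_option backward.isDefEq.respectTransparency.types false
set_option backward.defeqAttrib.useBackward true

noncomputable section

namespace Groth.Agent.Lib.TensPerm
open CategoryTheory Limits Opposite ModSite Groth.Agent.Lib.ModSiteH8

universe u

/-! ### Restriction of generators and presentations to smaller objects -/

section Restrict
variable {C : Type u} [SmallCategory C] [HasPullbacks C] {J : GrothendieckTopology C}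
  (R : Sheaf J RingCat.{u})

instance overMap_preservesColimits {U V : C} (h : U ⟶ V) :
    PreservesColimitsOfSize.{u, u} (SheafOfModules.overMap.{u} R h) :=
  (SheafOfModules.overMapPushforwardAdj R h).leftAdjoint_preservesColimits

/-- restriction of generating sections -/
def restrictGen {U V : C} (h : U ⟶ V) {M : SheafOfModules.{u} R}
    (σ : (M.over V).GeneratingSections) : (M.over U).GeneratingSections :=
  (σ.map (SheafOfModules.overMap.{u} R h) (SheafOfModules.overMapUnitIso h).symm).ofEpi
    ((SheafOfModules.overFunctorMap.{u} R h).app M).hom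

lemma restrictGen_isIso {U V : C} (h : U ⟶ V) {M : SheafOfModules.{u} R}
    (σ : (M.over V).GeneratingSections) [IsIso σ.π] : IsIso (restrictGen R h σ).π := by
  unfold restrictGen
  rw [SheafOfModules.GeneratingSections.ofEpi_π]
  infer_instance

/-- restriction of presentations -/
def restrictPres {U V : C} (h : U ⟶ V) {M : SheafOfModules.{u} R}
    (P : (M.over V).Presentation) : (M.over U).Presentation :=
  (P.map (SheafOfModules.overMap.{u} R h) (SheafOfModules.overMapUnitIso h).symm).ofIsIso
    ((SheafOfModules.overFunctorMap.{u} R h).app M).hom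

end Restrict

/-! ### Tensor products of generators and presentations on a ringed site -/

section Site
variable {C : Type u} [SmallCategory C] {J : GrothendieckTopology C}
  (O : Sheaf J CommRingCat.{u})

/-- the tensor product of two modules -/
abbrev tens (A B : Mod O) : Mod O := ((tensorBi O).obj A).obj B

/-- the tensor product of two morphisms -/
def tmap {A A' B B' : Mod O} (f : A ⟶ A') (g : B ⟶ B') : tens O A B ⟶ tens O A' B' :=
  ((tensorBi O).map f).app B ≫ ((tensorBi O).obj A').map g

lemma epi_app {A A' : Mod O} (f : A ⟶ A') [Epi f] (B : Mod O) :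
    Epi (((tensorBi O).map f).app B) := by
  have h : PreservesFiniteColimits ((tensorBi O).flip.obj B) := inferInstance
  haveI : PreservesColimitsOfShape WalkingSpan ((tensorBi O).flip.obj B) :=
    h.preservesFiniteColimits WalkingSpan
  haveI : ((tensorBi O).flip.obj B).PreservesEpimorphisms :=
    preservesEpimorphisms_of_preservesColimitsOfShape _
  exact inferInstanceAs (Epi (((tensorBi O).flip.obj B).map f))

lemma epi_map (A : Mod O) {B B' : Mod O} (g : B ⟶ B') [Epi g] :
    Epi (((tensorBi O).obj A).map g) := by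
  have h : PreservesFiniteColimits ((tensorBi O).obj A) := inferInstance
  haveI : PreservesColimitsOfShape WalkingSpan ((tensorBi O).obj A) :=
    h.preservesFiniteColimits WalkingSpan
  haveI : ((tensorBi O).obj A).PreservesEpimorphisms :=
    preservesEpimorphisms_of_preservesColimitsOfShape _
  infer_instance

lemma tmap_epi {A A' B B' : Mod O} (f : A ⟶ A') (g : B ⟶ B') [Epi f] [Epi g] :
    Epi (tmap O f g) := by
  unfold tmap
  haveI := epi_app O f B
  haveI := epi_map O A' g
  exact epi_comp _ _

lemma tmap_isIso {A A' B B' : Mod O} (f : A ⟶ A') (g : B ⟶ B') [IsIso f] [IsIso g] :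
    IsIso (tmap O f g) := by
  unfold tmap
  infer_instance

/-- the tensor product of two free modules is free on the product -/
def freeTensorIso (I I' : Type u) :
    tens O (SheafOfModules.free (R := ringSh O) I) (SheafOfModules.free (R := ringSh O) I') ≅
      SheafOfModules.free (R := ringSh O) (I × I') := by
  haveI := preservesColimits_flip O (SheafOfModules.free (R := ringSh O) I')
  let F := (tensorBi O).flip.obj (SheafOfModules.free (R := ringSh O) I')
  let e₁ : F.obj (∐ fun _ : I => ModSite.unit O) ≅ ∐ fun _ : I => F.obj (ModSite.unit O) :=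
    PreservesCoproduct.iso F (fun _ : I => ModSite.unit O)
  let e₂ : (∐ fun _ : I => F.obj (ModSite.unit O)) ≅
      ∐ fun _ : I => (∐ fun _ : I' => ModSite.unit O) :=
    Sigma.mapIso (fun _ => (unitorObj O).app (SheafOfModules.free (R := ringSh O) I'))
  haveI hc1 : ∀ i : I, HasCoproduct ((fun (_ : I) (_ : I') => ModSite.unit O) i) :=
    fun _ => inferInstance
  haveI hc2 : HasCoproduct (fun i : I => ∐ ((fun (_ : I) (_ : I') => ModSite.unit O) i)) :=
    inferInstance
  let e₃ : (∐ fun _ : I => (∐ fun _ : I' => ModSite.unit O)) ≅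
      ∐ fun p : (Σ _ : I, I') => ModSite.unit O :=
    @sigmaSigmaIso (Mod O) _ I (fun _ : I => I') (fun (_ : I) (_ : I') => ModSite.unit O)
      (fun _ => (inferInstance : HasCoproduct (fun _ : I' => ModSite.unit O)))
      (inferInstance : HasCoproduct (fun _ : I => ∐ fun _ : I' => ModSite.unit O))
  let e₄ : (∐ fun p : (Σ _ : I, I') => ModSite.unit O) ≅ ∐ fun q : I × I' => ModSite.unit O :=
    Sigma.whiskerEquiv (f := fun _ : (Σ _ : I, I') => ModSite.unit O)
      (g := fun _ : I × I' => ModSite.unit O) (Equiv.sigmaEquivProd I I') (fun _ => Iso.refl _)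
  exact e₁ ≪≫ e₂ ≪≫ e₃ ≪≫ e₄

/-- generators of a tensor product -/
def tensorGen {A B : Mod O} (σ : A.GeneratingSections) (τ : B.GeneratingSections) :
    (tens O A B).GeneratingSections where
  I := σ.I × τ.I
  s := (tens O A B).freeHomEquiv ((freeTensorIso O σ.I τ.I).inv ≫ tmap O σ.π τ.π)
  epi := by
    rw [Equiv.symm_apply_apply]
    haveI := tmap_epi O σ.π τ.π
    exact epi_comp _ _

lemma tensorGen_π {A B : Mod O} (σ : A.GeneratingSections) (τ : B.GeneratingSections) :
    (tensorGen O σ τ).π = (freeTensorIso O σ.I τ.I).inv ≫ tmap O σ.π τ.π :=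
  Equiv.symm_apply_apply _ _

lemma tensorGen_isIso {A B : Mod O} (σ : A.GeneratingSections) (τ : B.GeneratingSections)
    [IsIso σ.π] [IsIso τ.π] : IsIso (tensorGen O σ τ).π := by
  rw [tensorGen_π]
  haveI := tmap_isIso O σ.π τ.π
  infer_instance

section Coker
variable {A1 A0 A B1 B0 B : Mod O} (a : A1 ⟶ A0) (πA : A0 ⟶ A) (wA : a ≫ πA = 0)
  (hA : IsColimit (CokernelCofork.ofπ πA wA)) (b : B1 ⟶ B0) (πB : B0 ⟶ B) (wB : b ≫ πB = 0)
  (hB : IsColimit (CokernelCofork.ofπ πB wB))

/-- first relation map -/
def r₁ (a : A1 ⟶ A0) (B0 : Mod O) : tens O A1 B0 ⟶ tens O A0 B0 := ((tensorBi O).map a).app B0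

/-- second relation map -/
def r₂ (A0 : Mod O) (b : B1 ⟶ B0) : tens O A0 B1 ⟶ tens O A0 B0 := ((tensorBi O).obj A0).map b

include wA in
lemma r₁_comp : r₁ O a B0 ≫ tmap O πA πB = 0 := by
  have h1 : ((tensorBi O).flip.obj B0).map a ≫ ((tensorBi O).flip.obj B0).map πA = 0 := by
    rw [← Functor.map_comp, wA, Functor.map_zero]
  have h2 : ((tensorBi O).map a).app B0 ≫ ((tensorBi O).map πA).app B0 = 0 := h1
  unfold r₁ tmap
  rw [← Category.assoc, h2, zero_comp]

include wB in
lemma r₂_comp : r₂ O A0 b ≫ tmap O πA πB = 0 := by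
  unfold r₂ tmap
  rw [← Category.assoc, ((tensorBi O).map πA).naturality b, Category.assoc, ← Functor.map_comp, wB,
    Functor.map_zero, comp_zero]

include hA hB in
theorem coker_desc {Z : Mod O} (φ : tens O A0 B0 ⟶ Z) (h₁ : r₁ O a B0 ≫ φ = 0)
    (h₂ : r₂ O A0 b ≫ φ = 0) : ∃ ψ : tens O A B ⟶ Z, tmap O πA πB ≫ ψ = φ := by
  let F₀ := (tensorBi O).flip.obj B0
  have hc₁ : IsColimit ((CokernelCofork.ofπ πA wA).map F₀) :=
    CokernelCofork.mapIsColimit _ hA F₀
  obtain ⟨φ', hφ'⟩ := CokernelCofork.IsColimit.desc' hc₁ φ h₁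
  have hφ'' : ((tensorBi O).map πA).app B0 ≫ φ' = φ := hφ'
  have h₃ : ((tensorBi O).obj A).map b ≫ φ' = 0 := by
    haveI : Epi πA := by
      have := epi_of_isColimit_cofork hA
      exact this
    haveI := epi_app O πA B1
    have e : ((tensorBi O).map πA).app B1 ≫ (((tensorBi O).obj A).map b ≫ φ') = 0 := by
      rw [← Category.assoc, ← ((tensorBi O).map πA).naturality b, Category.assoc, hφ'']
      exact h₂
    exact (cancel_epi (((tensorBi O).map πA).app B1)).1 (e.trans comp_zero.symm)
  let G₀ := (tensorBi O).obj A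
  have hc₂ : IsColimit ((CokernelCofork.ofπ πB wB).map G₀) :=
    CokernelCofork.mapIsColimit _ hB G₀
  obtain ⟨ψ, hψ⟩ := CokernelCofork.IsColimit.desc' hc₂ φ' h₃
  have hψ' : ((tensorBi O).obj A).map πB ≫ ψ = φ' := hψ
  refine ⟨ψ, ?_⟩
  unfold tmap
  rw [Category.assoc, hψ', hφ'']

end Coker

section Pres
variable {A B : Mod O} (P : A.Presentation) (Q : B.Presentation)

/-- the relations map of a presentation -/
def relMap {A : Mod O} (P : A.Presentation) :
    SheafOfModules.free (R := ringSh O) P.relations.I ⟶
      SheafOfModules.free (R := ringSh O) P.generators.I :=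
  (SheafOfModules.freeHomEquiv _).symm P.relations.s ≫ kernel.ι _

lemma relMap_π {A : Mod O} (P : A.Presentation) : relMap O P ≫ P.generators.π = 0 := by
  unfold relMap
  rw [Category.assoc, kernel.condition, comp_zero]

/-- a presentation exhibits the module as a cokernel -/
def presIsColimit {A : Mod O} (P : A.Presentation) :
    IsColimit (CokernelCofork.ofπ P.generators.π (relMap_π O P)) := P.isColimit

/-- first family of relations of the tensor product -/
def tf₁ : SheafOfModules.free (R := ringSh O) (P.relations.I × Q.generators.I) ⟶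
    SheafOfModules.free (R := ringSh O) (P.generators.I × Q.generators.I) :=
  (freeTensorIso O _ _).inv ≫ r₁ O (relMap O P) (SheafOfModules.free (R := ringSh O) Q.generators.I) ≫
    (freeTensorIso O _ _).hom

/-- second family of relations of the tensor product -/
def tf₂ : SheafOfModules.free (R := ringSh O) (P.generators.I × Q.relations.I) ⟶
    SheafOfModules.free (R := ringSh O) (P.generators.I × Q.generators.I) :=
  (freeTensorIso O _ _).inv ≫ r₂ O (SheafOfModules.free (R := ringSh O) P.generators.I) (relMap O Q) ≫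
    (freeTensorIso O _ _).hom

/-- the relations of the tensor product -/
def tf : SheafOfModules.free (R := ringSh O)
      ((P.relations.I × Q.generators.I) ⊕ (P.generators.I × Q.relations.I)) ⟶
    SheafOfModules.free (R := ringSh O) (P.generators.I × Q.generators.I) :=
  (SheafOfModules.freeSumIso _ _).inv ≫ coprod.desc (tf₁ O P Q) (tf₂ O P Q)

/-- the generators of the tensor product -/
def tg : SheafOfModules.free (R := ringSh O) (P.generators.I × Q.generators.I) ⟶ tens O A B :=
  (freeTensorIso O _ _).inv ≫ tmap O P.generators.π Q.generators.π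

lemma tf₁_tg : tf₁ O P Q ≫ tg O P Q = 0 := by
  unfold tf₁ tg
  rw [Category.assoc, Category.assoc, Iso.hom_inv_id_assoc,
    r₁_comp O (relMap O P) P.generators.π (relMap_π O P) Q.generators.π, comp_zero]

lemma tf₂_tg : tf₂ O P Q ≫ tg O P Q = 0 := by
  unfold tf₂ tg
  rw [Category.assoc, Category.assoc, Iso.hom_inv_id_assoc,
    r₂_comp O P.generators.π (relMap O Q) Q.generators.π (relMap_π O Q), comp_zero]

lemma tf_tg : tf O P Q ≫ tg O P Q = 0 := by
  unfold tf
  rw [Category.assoc, Iso.inv_comp_eq, comp_zero]
  apply coprod.hom_ext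
  · rw [← Category.assoc, coprod.inl_desc, tf₁_tg, comp_zero]
  · rw [← Category.assoc, coprod.inr_desc, tf₂_tg, comp_zero]

lemma tg_epi : Epi (tg O P Q) := by
  unfold tg
  haveI := tmap_epi O P.generators.π Q.generators.π
  exact epi_comp _ _

lemma exists_desc {Z : Mod O}
    (k : SheafOfModules.free (R := ringSh O) (P.generators.I × Q.generators.I) ⟶ Z)
    (hk : tf O P Q ≫ k = 0) : ∃ l : tens O A B ⟶ Z, tg O P Q ≫ l = k := by
  have hd : coprod.desc (tf₁ O P Q) (tf₂ O P Q) ≫ k = 0 := by
    have h := hk
    unfold tf at h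
    rw [Category.assoc, Iso.inv_comp_eq, comp_zero] at h
    exact h
  have h₁ : tf₁ O P Q ≫ k = 0 := by
    have e : coprod.inl ≫ coprod.desc (tf₁ O P Q) (tf₂ O P Q) ≫ k = 0 := by
      rw [hd, comp_zero]
    rw [← Category.assoc, coprod.inl_desc] at e
    exact e
  have h₂ : tf₂ O P Q ≫ k = 0 := by
    have e : coprod.inr ≫ coprod.desc (tf₁ O P Q) (tf₂ O P Q) ≫ k = 0 := by
      rw [hd, comp_zero]
    rw [← Category.assoc, coprod.inr_desc] at e
    exact e
  have h₁' : r₁ O (relMap O P) (SheafOfModules.free (R := ringSh O) Q.generators.I) ≫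
      ((freeTensorIso O _ _).hom ≫ k) = 0 := by
    have h := h₁
    unfold tf₁ at h
    rw [Category.assoc, Category.assoc, Iso.inv_comp_eq, comp_zero] at h
    exact h
  have h₂' : r₂ O (SheafOfModules.free (R := ringSh O) P.generators.I) (relMap O Q) ≫
      ((freeTensorIso O _ _).hom ≫ k) = 0 := by
    have h := h₂
    unfold tf₂ at h
    rw [Category.assoc, Category.assoc, Iso.inv_comp_eq, comp_zero] at h
    exact h
  obtain ⟨ψ, hψ⟩ := coker_desc O (relMap O P) P.generators.π (relMap_π O P) (presIsColimit O P)
    (relMap O Q) Q.generators.π (relMap_π O Q) (presIsColimit O Q) _ h₁' h₂'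
  refine ⟨ψ, ?_⟩
  unfold tg
  rw [Category.assoc, hψ, Iso.inv_hom_id_assoc]

/-- the tensor product is the cokernel of the relations -/
def tIsColimit : IsColimit (CokernelCofork.ofπ (tg O P Q) (tf_tg O P Q)) :=
  haveI := tg_epi O P Q
  CokernelCofork.IsColimit.ofπ' (tg O P Q) (tf_tg O P Q)
    (fun {Z} k hk => ⟨(exists_desc O P Q k hk).choose, (exists_desc O P Q k hk).choose_spec⟩)

/-- presentation of a tensor product -/
def tensorPres : (tens O A B).Presentation :=
  SheafOfModules.presentationOfIsCokernelFree (tf O P Q) (tg O P Q) (tf_tg O P Q)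
    (tIsColimit O P Q)

end Pres

end Site

/-! ### Ringed spaces -/

section Space
open TopologicalSpace
variable {X : TopCat.{u}} (O : TopCat.Sheaf CommRingCat.{u} X) (F G : Mod O)

lemma coversTop_inf {I I' : Type u} (Y : I → Opens X) (Y' : I' → Opens X)
    (h : (Opens.grothendieckTopology X).CoversTop Y)
    (h' : (Opens.grothendieckTopology X).CoversTop Y') :
    (Opens.grothendieckTopology X).CoversTop (fun p : I × I' => Y p.1 ⊓ Y' p.2) := by
  intro W x hx
  obtain ⟨U₁, f₁, ⟨i, ⟨g₁⟩⟩, hx₁⟩ := h W x hx
  obtain ⟨U₂, f₂, ⟨j, ⟨g₂⟩⟩, hx₂⟩ := h' W x hx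
  have hxm : x ∈ U₁ ⊓ U₂ := ⟨hx₁, hx₂⟩
  exact ⟨U₁ ⊓ U₂, homOfLE (inf_le_left.trans (leOfHom f₁)),
    ⟨(i, j), ⟨homOfLE (inf_le_inf (leOfHom g₁) (leOfHom g₂))⟩⟩, hxm⟩

/-- local generators of the tensor product on an intersection -/
def locGen (U V : Opens X)
    (σ : SheafOfModules.GeneratingSections (R := (ringSh O).over U) (F.over U))
    (τ : SheafOfModules.GeneratingSections (R := (ringSh O).over V) (G.over V)) :
    SheafOfModules.GeneratingSections (R := (ringSh O).over (U ⊓ V)) ((tens O F G).over (U ⊓ V)) :=
  let σ' : SheafOfModules.GeneratingSections (R := ringSh (O.over (U ⊓ V)))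
      ((restr O (U ⊓ V)).obj F) :=
    restrictGen (ringSh O) (homOfLE inf_le_left : U ⊓ V ⟶ U) σ
  let τ' : SheafOfModules.GeneratingSections (R := ringSh (O.over (U ⊓ V)))
      ((restr O (U ⊓ V)).obj G) :=
    restrictGen (ringSh O) (homOfLE inf_le_right : U ⊓ V ⟶ V) τ
  (tensorGen (O.over (U ⊓ V)) σ' τ').ofEpi (restr_tensor_iso O (U ⊓ V) F G).some.inv

lemma locGen_isIso (U V : Opens X)
    (σ : SheafOfModules.GeneratingSections (R := (ringSh O).over U) (F.over U))
    (τ : SheafOfModules.GeneratingSections (R := (ringSh O).over V) (G.over V))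
    [IsIso σ.π] [IsIso τ.π] : IsIso (locGen O F G U V σ τ).π := by
  haveI h1 := restrictGen_isIso (ringSh O) (homOfLE inf_le_left : U ⊓ V ⟶ U) σ
  haveI h2 := restrictGen_isIso (ringSh O) (homOfLE inf_le_right : U ⊓ V ⟶ V) τ
  let σ' : SheafOfModules.GeneratingSections (R := ringSh (O.over (U ⊓ V)))
      ((restr O (U ⊓ V)).obj F) :=
    restrictGen (ringSh O) (homOfLE inf_le_left : U ⊓ V ⟶ U) σ
  let τ' : SheafOfModules.GeneratingSections (R := ringSh (O.over (U ⊓ V)))
      ((restr O (U ⊓ V)).obj G) :=
    restrictGen (ringSh O) (homOfLE inf_le_right : U ⊓ V ⟶ V) τ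
  haveI : IsIso σ'.π := h1
  haveI : IsIso τ'.π := h2
  haveI := tensorGen_isIso (O.over (U ⊓ V)) σ' τ'
  show IsIso ((tensorGen (O.over (U ⊓ V)) σ' τ').ofEpi
    (restr_tensor_iso O (U ⊓ V) F G).some.inv).π
  rw [SheafOfModules.GeneratingSections.ofEpi_π]
  infer_instance

/-- local presentation of the tensor product on an intersection -/
def locPres (U V : Opens X)
    (P : SheafOfModules.Presentation (R := (ringSh O).over U) (F.over U))
    (Q : SheafOfModules.Presentation (R := (ringSh O).over V) (G.over V)) :
    SheafOfModules.Presentation (R := (ringSh O).over (U ⊓ V)) ((tens O F G).over (U ⊓ V)) :=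
  let P' : SheafOfModules.Presentation (R := ringSh (O.over (U ⊓ V)))
      ((restr O (U ⊓ V)).obj F) :=
    restrictPres (ringSh O) (homOfLE inf_le_left : U ⊓ V ⟶ U) P
  let Q' : SheafOfModules.Presentation (R := ringSh (O.over (U ⊓ V)))
      ((restr O (U ⊓ V)).obj G) :=
    restrictPres (ringSh O) (homOfLE inf_le_right : U ⊓ V ⟶ V) Q
  (tensorPres (O.over (U ⊓ V)) P' Q').ofIsIso (restr_tensor_iso O (U ⊓ V) F G).some.inv

lemma locPres_isFinite (U V : Opens X)
    (P : SheafOfModules.Presentation (R := (ringSh O).over U) (F.over U))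
    (Q : SheafOfModules.Presentation (R := (ringSh O).over V) (G.over V))
    [hP : P.IsFinite] [hQ : Q.IsFinite] : (locPres O F G U V P Q).IsFinite := by
  haveI : Finite P.generators.I := inferInstance
  haveI : Finite P.relations.I := inferInstance
  haveI : Finite Q.generators.I := inferInstance
  haveI : Finite Q.relations.I := inferInstance
  exact ⟨⟨inferInstanceAs (Finite (P.generators.I × Q.generators.I))⟩,
    ⟨inferInstanceAs (Finite ((P.relations.I × Q.generators.I) ⊕
      (P.generators.I × Q.relations.I)))⟩⟩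

/-- local generators data for the tensor product -/
def tensorLGD (p : SheafOfModules.LocalGeneratorsData.{u} (R := ringSh O) F)
    (q : SheafOfModules.LocalGeneratorsData.{u} (R := ringSh O) G) :
    SheafOfModules.LocalGeneratorsData.{u} (R := ringSh O) (tens O F G) where
  I := p.I × q.I
  X ij := p.X ij.1 ⊓ q.X ij.2
  coversTop := coversTop_inf _ _ p.coversTop q.coversTop
  generators ij := locGen O F G _ _ (p.generators ij.1) (q.generators ij.2)

/-- quasi-coherent data for the tensor product -/
def tensorQCD (p : SheafOfModules.QuasicoherentData.{u} (R := ringSh O) F)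
    (q : SheafOfModules.QuasicoherentData.{u} (R := ringSh O) G) :
    SheafOfModules.QuasicoherentData.{u} (R := ringSh O) (tens O F G) where
  I := p.I × q.I
  X ij := p.X ij.1 ⊓ q.X ij.2
  coversTop := coversTop_inf _ _ p.coversTop q.coversTop
  presentation ij := locPres O F G _ _ (p.presentation ij.1) (q.presentation ij.2)

theorem main :
    (Nonempty (SheafOfModules.LocalGeneratorsData.{u} (R := ModSite.ringSh O) F) →
        Nonempty (SheafOfModules.LocalGeneratorsData.{u} (R := ModSite.ringSh O) G) →
          Nonempty (SheafOfModules.LocalGeneratorsData.{u} (R := ModSite.ringSh O) (((ModSite.tensorBi O).obj F).obj G))) ∧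
      (SheafOfModules.IsFiniteType (R := ModSite.ringSh O) F → SheafOfModules.IsFiniteType (R := ModSite.ringSh O) G →
        SheafOfModules.IsFiniteType (R := ModSite.ringSh O) (((ModSite.tensorBi O).obj F).obj G)) ∧
      (SheafOfModules.IsQuasicoherent (R := ModSite.ringSh O) F →
        SheafOfModules.IsQuasicoherent (R := ModSite.ringSh O) G →
          SheafOfModules.IsQuasicoherent (R := ModSite.ringSh O) (((ModSite.tensorBi O).obj F).obj G)) ∧
      (SheafOfModules.IsFinitePresentation (R := ModSite.ringSh O) F →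
        SheafOfModules.IsFinitePresentation (R := ModSite.ringSh O) G →
          SheafOfModules.IsFinitePresentation (R := ModSite.ringSh O) (((ModSite.tensorBi O).obj F).obj G)) ∧
      (SheafOfModules.IsLocallyFree (R := ModSite.ringSh O) F → SheafOfModules.IsLocallyFree (R := ModSite.ringSh O) G →
        SheafOfModules.IsLocallyFree (R := ModSite.ringSh O) (((ModSite.tensorBi O).obj F).obj G)) := by
  refine ⟨?_, ?_, ?_, ?_, ?_⟩
  · rintro ⟨p⟩ ⟨q⟩
    exact ⟨tensorLGD O F G p q⟩
  · intro hF hG
    obtain ⟨p, hp⟩ := hF.exists_localGeneratorsData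
    obtain ⟨q, hq⟩ := hG.exists_localGeneratorsData
    constructor
    refine ⟨tensorLGD O F G p q, ?_⟩
    constructor
    intro ij
    haveI : Finite (p.generators ij.1).I := (hp.isFiniteType ij.1).finite
    haveI : Finite (q.generators ij.2).I := (hq.isFiniteType ij.2).finite
    constructor
    exact inferInstanceAs (Finite ((p.generators ij.1).I × (q.generators ij.2).I))
  · intro hF hG
    obtain ⟨p⟩ := hF.nonempty_quasicoherentData
    obtain ⟨q⟩ := hG.nonempty_quasicoherentData
    constructor
    exact ⟨tensorQCD O F G p q⟩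
  · intro hF hG
    obtain ⟨p, hp⟩ := hF.exists_quasicoherentData
    obtain ⟨q, hq⟩ := hG.exists_quasicoherentData
    constructor
    refine ⟨tensorQCD O F G p q, ?_⟩
    constructor
    intro ij
    haveI := hp.isFinite_presentation ij.1
    haveI := hq.isFinite_presentation ij.2
    exact locPres_isFinite O F G _ _ (p.presentation ij.1) (q.presentation ij.2)
  · intro hF hG
    obtain ⟨p, hp⟩ := hF.exists_isLocallyFreeData
    obtain ⟨q, hq⟩ := hG.exists_isLocallyFreeData
    constructor
    refine ⟨tensorLGD O F G p q, ?_⟩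
    constructor
    intro ij
    haveI := hp.isIso ij.1
    haveI := hq.isIso ij.2
    exact locGen_isIso O F G _ _ (p.generators ij.1) (q.generators ij.2)

end Space

end Groth.Agent.Lib.TensPerm
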