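import Mathlib
import Groth.Prelude
import Groth.Agent.Lib.LpullQC_lead
import Groth.Agent.Lib.LpullTens_helper3
import Groth.Agent.Lib.TensPerm_lead

/-!
# `- ⊗^L F` preserves `D_QCoh` (lead; S1062)
-/

set_option autoImplicit false
set_option linter.all false
set_option maxHeartbeats 1600000
set_option backward.isDefEq.respectTransparency false
set_option backward.isDefEq.respectTransparency.types false
set_option backward.defeqAttrib.useBackward true

universe u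
open CategoryTheory CategoryTheory.Limits AlgebraicGeometry Opposite TopologicalSpace
open DerivedCategory
attribute [local instance] HasDerivedCategory.standard

namespace Groth.Agent.Lib.LTensQCL

open Groth.Agent.Lib Groth.Agent.Lib.TildeAmpL Groth.Agent.Lib.KFlatMod
  Groth.Agent.Lib.StalkTensH3 Groth.Agent.Lib.LpullLocH3 Groth.Agent.Lib.PullTensIsoH3
  Groth.Agent.Lib.LpullExH3

section General

variable {X : Scheme.{u}}

theorem qc_iff_of_quasiIso {K L : CochainComplex X.Modules ℤ} (φ : K ⟶ L) (hφ : QuasiIso φ) :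
    DCoh.IsQCohD (Q.obj K) ↔ DCoh.IsQCohD (Q.obj L) := by
  haveI : IsIso (Q.map φ) := (isIso_Q_map_iff_quasiIso _ φ).2 hφ
  exact ⟨DSectX.isQCohD_of_iso (asIso (Q.map φ)), DSectX.isQCohD_of_iso (asIso (Q.map φ)).symm⟩

theorem exists_roof {A B : CochainComplex X.Modules ℤ} (e : Q.obj A ≅ Q.obj B) :
    ∃ (Z : CochainComplex X.Modules ℤ) (s : Z ⟶ A) (t : Z ⟶ B), QuasiIso s ∧ QuasiIso t := by
  obtain ⟨Z, s, hs, g, hg⟩ := DerivedCategory.right_fac e.hom
  refine ⟨Z, s, g, (isIso_Q_map_iff_quasiIso _ s).1 hs, ?_⟩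
  haveI := hs
  have h1 : Q.map g = Q.map s ≫ e.hom := by rw [hg, IsIso.hom_inv_id_assoc]
  haveI : IsIso (Q.map g) := by rw [h1]; infer_instance
  exact (isIso_Q_map_iff_quasiIso _ g).1 inferInstance

/-- replacing the K-flat second variable -/
theorem qc_tensor_congr_right (G P₁ P₂ : CochainComplex X.Modules ℤ) (h₁ : DCoh.IsKFlat P₁)
    (h₂ : DCoh.IsKFlat P₂) (e : Q.obj P₁ ≅ Q.obj P₂)
    (h : DCoh.IsQCohD (Q.obj ((DCoh.tensorCx.obj G).obj P₁))) :
    DCoh.IsQCohD (Q.obj ((DCoh.tensorCx.obj G).obj P₂)) := by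
  obtain ⟨Z, s, t, hs, ht⟩ := exists_roof e
  obtain ⟨Z', q, hZ', hq⟩ := DTorCmp.exists_kflat_resolution' Z
  haveI := hs
  haveI := ht
  haveI := hq
  haveI : QuasiIso (q ≫ s) := inferInstance
  haveI : QuasiIso (q ≫ t) := inferInstance
  haveI q1 := KFlatSite.quasiIso_tensor_left_of_kflat (O := X.sheaf) Z' P₁ hZ' h₁ (q ≫ s) G
  haveI q2 := KFlatSite.quasiIso_tensor_left_of_kflat (O := X.sheaf) Z' P₂ hZ' h₂ (q ≫ t) G
  exact (qc_iff_of_quasiIso _ q2).1 ((qc_iff_of_quasiIso _ q1).2 h)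

/-- replacing the first variable when the second is K-flat -/
theorem qc_tensor_congr_left (G₁ G₂ P : CochainComplex X.Modules ℤ) (hP : DCoh.IsKFlat P)
    (e : Q.obj G₁ ≅ Q.obj G₂)
    (h : DCoh.IsQCohD (Q.obj ((DCoh.tensorCx.obj G₁).obj P))) :
    DCoh.IsQCohD (Q.obj ((DCoh.tensorCx.obj G₂).obj P)) := by
  obtain ⟨Z, s, t, hs, ht⟩ := exists_roof e
  haveI := hs
  haveI := ht
  haveI : (ModSite.tensorBi X.sheaf).Additive := ModSite.additive_tensorBi X.sheaf
  haveI q1 := BifCone.quasiIso_mapBifunctorMap₁ (ModSite.tensorBi X.sheaf) P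
    ((KFlatSite.isKFlat_iff P).1 hP) s
  haveI q2 := BifCone.quasiIso_mapBifunctorMap₁ (ModSite.tensorBi X.sheaf) P
    ((KFlatSite.isKFlat_iff P).1 hP) t
  exact (qc_iff_of_quasiIso _ q2).1 ((qc_iff_of_quasiIso _ q1).2 h)

theorem qc_tensor_symm (K L : CochainComplex X.Modules ℤ)
    (h : DCoh.IsQCohD (Q.obj ((DCoh.tensorCx.obj K).obj L))) :
    DCoh.IsQCohD (Q.obj ((DCoh.tensorCx.obj L).obj K)) :=
  DSectX.isQCohD_of_iso (Q.mapIso (KFlatSite.tensorCxSymm (O := X.sheaf) K L)) h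

/-- a small coproduct of quasi-coherent modules is quasi-coherent -/
theorem isQuasicoherent_sigma_small {I : Type} (M : I → X.Modules) [HasCoproduct M]
    (hM : ∀ i, (M i).IsQuasicoherent) : (∐ M).IsQuasicoherent := by
  haveI : ∀ i : ULift.{u} I, ((M ∘ (Equiv.ulift : ULift.{u} I ≃ I)) i).IsQuasicoherent :=
    fun i => hM _
  have h := BModH6.isQuasicoherent_sigma (M ∘ (Equiv.ulift : ULift.{u} I ≃ I))
  exact (SheafOfModules.isQuasicoherent X.ringCatSheaf).prop_of_iso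
    (Sigma.reindex (Equiv.ulift : ULift.{u} I ≃ I) M) h

theorem isQuasicoherent_mapObj {I J : Type} (Y : GradedObject I X.Modules) (p : I → J)
    [Y.HasMap p] (hY : ∀ i, (Y i).IsQuasicoherent) (j : J) :
    (Y.mapObj p j).IsQuasicoherent := by
  have h := isQuasicoherent_sigma_small (Y.mapObjFun p j) (fun i => hY i.1)
  exact h

theorem qc_tensor_terms (K L : CochainComplex X.Modules ℤ)
    (hK : ∀ i, (K.X i).IsQuasicoherent) (hL : ∀ i, (L.X i).IsQuasicoherent) (n : ℤ) :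
    (((DCoh.tensorCx.obj K).obj L).X n).IsQuasicoherent := by
  have hY : ∀ i : ℤ × ℤ, (((((DCoh.tensorBi (X := X)).mapBifunctorHomologicalComplex
      (ComplexShape.up ℤ) (ComplexShape.up ℤ)).obj K).obj L).toGradedObject i).IsQuasicoherent :=
    fun i => (TensPerm.main X.sheaf (K.X i.1) (L.X i.2)).2.2.1 (hK _) (hL _)
  exact isQuasicoherent_mapObj _
    (ComplexShape.π (ComplexShape.up ℤ) (ComplexShape.up ℤ) (ComplexShape.up ℤ)) hY n

theorem qc_tensor_of_terms (K L : CochainComplex X.Modules ℤ)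
    (hK : ∀ i, (K.X i).IsQuasicoherent) (hL : ∀ i, (L.X i).IsQuasicoherent) :
    DCoh.IsQCohD (Q.obj ((DCoh.tensorCx.obj K).obj L)) :=
  DSectX.qcohD_Q _ (fun n => qc_tensor_terms K L hK hL n)

/-- `D_QCoh` can be tested on the affine charts -/
theorem isQCohD_of_affine (K : DCoh.D X)
    (H : ∀ U : X.affineOpens, DCoh.IsQCohD ((DCoh.restrictD U.2.fromSpec).obj K)) :
    DCoh.IsQCohD K := by
  intro n
  refine BModH6.isQuasicoherent_of_restrict_fromSpec _ (fun U : X.affineOpens => U.1)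
    (fun U => U.2) (iSup_affineOpens_eq_top X) (fun U => ?_)
  obtain ⟨e⟩ := DCohLocLead.nonempty_homology_mapExact_iso
    (Scheme.Modules.restrictFunctor U.2.fromSpec) K n
  exact (SheafOfModules.isQuasicoherent (Spec Γ(X, U.1)).ringCatSheaf).prop_of_iso e (H U n)

theorem restrict_Q_iso {V : Scheme.{u}} (h : V ⟶ X) [IsOpenImmersion h]
    (C : CochainComplex X.Modules ℤ) :
    Nonempty ((DCoh.restrictD h).obj (Q.obj C) ≅ Q.obj ((pullCx h).obj C)) :=
  ⟨(restrictDFac h).app ((HomotopyCategory.quotient _ _).obj C) ≪≫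
    (quotientPullKhIso h).app C⟩

end General

section Affine

variable (A : Type u) [CommRing A]

theorem exists_tilde_rep [PreservesFiniteLimits (tilde.functor (CommRingCat.of A))]
    (G : CochainComplex (XA A).Modules ℤ) (hG : DCoh.IsQCohD (Q.obj G)) :
    ∃ M : DRing.Cx A, CochainComplex.IsKProjective M ∧ KF A M ∧
      Nonempty (Q.obj ((tildeCx A).obj M) ≅ Q.obj G) := by
  obtain ⟨M₀, ⟨e⟩⟩ := ((DSectX.main0997 (CommRingCat.of A)).2.2 (Q.obj G)).1 hG
  let N : CochainComplex (ModuleCat.{u} A) ℤ := Q.objPreimage M₀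
  let eN : Q.obj N ≅ M₀ := Q.objObjPreimageIso M₀
  obtain ⟨M, π, hπ, hkp, hkf, -⟩ := KProjRes.exists_kproj_resolution N
  haveI : IsIso (Q.map π) := (isIso_Q_map_iff_quasiIso _ π).2 hπ
  refine ⟨M, hkp, hkf, ⟨?_⟩⟩
  exact ((tilde.functor (CommRingCat.of A)).mapDerivedCategoryFactors.app M).symm ≪≫
    (DCoh.tildeD (CommRingCat.of A)).mapIso (asIso (Q.map π) ≪≫ eN) ≪≫ e

theorem qc_tensor_spec (P F : CochainComplex (XA A).Modules ℤ)
    (hP : DCoh.IsKFlat P) (hPq : DCoh.IsQCohD (Q.obj P)) (hFq : DCoh.IsQCohD (Q.obj F)) :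
    DCoh.IsQCohD (Q.obj ((DCoh.tensorCx.obj P).obj F)) := by
  haveI := LpullQCL.preservesFiniteLimits_tilde A
  obtain ⟨M, -, hMkf, ⟨eM⟩⟩ := exists_tilde_rep A P hPq
  obtain ⟨N, -, -, ⟨eN⟩⟩ := exists_tilde_rep A F hFq
  have hMt : DCoh.IsKFlat ((tildeCx A).obj M) := KFTildeL.isKFlat_tilde A M hMkf
  have h0 : DCoh.IsQCohD (Q.obj ((DCoh.tensorCx.obj ((tildeCx A).obj N)).obj
      ((tildeCx A).obj M))) :=
    qc_tensor_of_terms _ _
      (fun i => inferInstanceAs (tilde (R := CommRingCat.of A) (N.X i)).IsQuasicoherent)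
      (fun i => inferInstanceAs (tilde (R := CommRingCat.of A) (M.X i)).IsQuasicoherent)
  have h1 : DCoh.IsQCohD (Q.obj ((DCoh.tensorCx.obj F).obj ((tildeCx A).obj M))) :=
    qc_tensor_congr_left _ _ _ hMt eN h0
  have h2 : DCoh.IsQCohD (Q.obj ((DCoh.tensorCx.obj F).obj P)) :=
    qc_tensor_congr_right F _ _ hMt hP eM h1
  exact qc_tensor_symm F P h2

end Affine

theorem qc_tensor {X : Scheme.{u}} (P F : CochainComplex X.Modules ℤ) (hP : DCoh.IsKFlat P)
    (hPq : DCoh.IsQCohD (Q.obj P)) (hFq : DCoh.IsQCohD (Q.obj F)) :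
    DCoh.IsQCohD (Q.obj ((DCoh.tensorCx.obj P).obj F)) := by
  apply isQCohD_of_affine
  intro U
  obtain ⟨e1⟩ := restrict_Q_iso U.2.fromSpec ((DCoh.tensorCx.obj P).obj F)
  obtain ⟨eP⟩ := restrict_Q_iso U.2.fromSpec P
  obtain ⟨eF⟩ := restrict_Q_iso U.2.fromSpec F
  have hP' : DCoh.IsKFlat ((pullCx U.2.fromSpec).obj P) := isKFlat_pullback U.2.fromSpec P hP
  have hPq' : DCoh.IsQCohD (Q.obj ((pullCx U.2.fromSpec).obj P)) :=
    DSectX.isQCohD_of_iso eP (LpullQCL.isQCohD_restrictD U.2.fromSpec _ hPq)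
  have hFq' : DCoh.IsQCohD (Q.obj ((pullCx U.2.fromSpec).obj F)) :=
    DSectX.isQCohD_of_iso eF (LpullQCL.isQCohD_restrictD U.2.fromSpec _ hFq)
  have h2 := qc_tensor_spec (A := Γ(X, U.1)) _ _ hP' hPq' hFq'
  exact DSectX.isQCohD_of_iso
    ((e1 ≪≫ Q.mapIso (pullCxTensorIso U.2.fromSpec P F)).symm) h2

/-- **S1062** -/
theorem main1062 (X : Scheme.{u}) (F : CochainComplex X.Modules ℤ)
    (hF : DCoh.IsQCohD (DCoh.toD X F)) [DCoh.HasLTensorCx F]
    (E : DCoh.D X) (hE : DCoh.IsQCohD E) : DCoh.IsQCohD ((DCoh.LTensorCx F).obj E) := by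
  obtain ⟨P, hP, ⟨eP⟩⟩ := LpullTensH3.exists_kflat_rep E
  have hPq : DCoh.IsQCohD (Q.obj P) := DSectX.isQCohD_of_iso eP.symm hE
  have h := qc_tensor P F hP hPq hF
  exact DSectX.isQCohD_of_iso
    (((DCoh.LTensorCx F).mapIso eP.symm ≪≫ LpullTensH3.ltIsoLeft F P hP).symm) h

end Groth.Agent.Lib.LTensQCL
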