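import Mathlib
import Groth.Prelude
import Groth.Agent.Lib.LTensQC_lead
import Groth.Agent.Lib.QCohExtn_helper9
import Groth.Agent.Lib.AffVanish5_helper9
import Groth.Agent.Lib.BCOpen2_lead

/-!
# `Rf_*` preserves `D_QCoh` for quasi-compact quasi-separated `f` (lead; S0998)

* `qc_of_exact5`, `isQCohD_obj₁/₂/₃`, `isQCohD_biprod` : `D_QCoh` is a triangulated subcategory;
* `pushforwardIsoRestrict`, `nonempty_Rpush_iso_restrictD` : direct image along an isomorphism;
* `qcqs_induction` : the induction principle for quasi-compact opens of a quasi-separated scheme;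
* `exists_qcoh_rep` : on an affine scheme, objects of `D_QCoh` are complexes of quasi-coherent modules;
* `main0998`.
-/

set_option autoImplicit false
set_option linter.all false
set_option maxHeartbeats 1600000
set_option backward.isDefEq.respectTransparency false
set_option backward.isDefEq.respectTransparency.types false
set_option backward.defeqAttrib.useBackward true

universe u
open CategoryTheory CategoryTheory.Limits AlgebraicGeometry Opposite TopologicalSpace
open DerivedCategory CategoryTheory.Pretriangulated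
attribute [local instance] HasDerivedCategory.standard

namespace Groth.Agent.Lib.RpushQCL

open Groth.Agent.Lib Groth.Agent.Lib.TildeAmpL Groth.Agent.Lib.KFlatMod
  Groth.Agent.Lib.DCohLocLead

section Tri

variable {X : Scheme.{u}}

/-- quasi-coherence of the middle term of a five term exact sequence -/
theorem qc_of_exact5 {A B M C' D : X.Modules} (u : A ⟶ B) (δ : B ⟶ M) (v : M ⟶ C')
    (w : C' ⟶ D) (h1 : u ≫ δ = 0) (h2 : δ ≫ v = 0) (h3 : v ≫ w = 0)
    (e1 : (ShortComplex.mk u δ h1).Exact) (e2 : (ShortComplex.mk δ v h2).Exact)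
    (e3 : (ShortComplex.mk v w h3).Exact)
    (hA : A.IsQuasicoherent) (hB : B.IsQuasicoherent) (hC : C'.IsQuasicoherent)
    (hD : D.IsQuasicoherent) : M.IsQuasicoherent := by
  haveI := hA
  haveI := hB
  haveI := hC
  haveI := hD
  haveI : (cokernel u).IsQuasicoherent := BModH6.isQuasicoherent_cokernel u
  haveI : (kernel w).IsQuasicoherent := SubExt.isQuasicoherent_kernel w
  let δ' : cokernel u ⟶ M := cokernel.desc u δ h1
  let v' : M ⟶ kernel w := kernel.lift w v h3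
  haveI hm : Mono δ' := (ShortComplex.exact_iff_mono_cokernel_desc (ShortComplex.mk u δ h1)).1 e1
  haveI he : Epi v' := (ShortComplex.exact_iff_epi_kernel_lift (ShortComplex.mk v w h3)).1 e3
  have hz' : δ' ≫ v = 0 := by
    apply (cancel_epi (cokernel.π u)).1
    rw [cokernel.π_desc_assoc, h2, comp_zero]
  have hz : δ' ≫ v' = 0 := by
    apply (cancel_mono (kernel.ι w)).1
    rw [Category.assoc, kernel.lift_ι, hz', zero_comp]
  let S₁ : ShortComplex X.Modules := ShortComplex.mk δ v h2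
  let S₁' : ShortComplex X.Modules := ShortComplex.mk δ' v hz'
  let E : ShortComplex X.Modules := ShortComplex.mk δ' v' hz
  let φ₁ : S₁ ⟶ S₁' :=
    { τ₁ := cokernel.π u
      τ₂ := 𝟙 _
      τ₃ := 𝟙 _
      comm₁₂ := by
        show cokernel.π u ≫ δ' = δ ≫ 𝟙 _
        rw [cokernel.π_desc, Category.comp_id]
      comm₂₃ := by
        show 𝟙 _ ≫ v = v ≫ 𝟙 _
        rw [Category.id_comp, Category.comp_id] }
  let φ₂ : E ⟶ S₁' :=
    { τ₁ := 𝟙 _
      τ₂ := 𝟙 _
      τ₃ := kernel.ι w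
      comm₁₂ := by
        show 𝟙 _ ≫ δ' = δ' ≫ 𝟙 _
        rw [Category.id_comp, Category.comp_id]
      comm₂₃ := by
        show 𝟙 _ ≫ v = v' ≫ kernel.ι w
        rw [Category.id_comp, kernel.lift_ι] }
  haveI : Epi φ₁.τ₁ := inferInstanceAs (Epi (cokernel.π u))
  haveI : IsIso φ₁.τ₂ := inferInstanceAs (IsIso (𝟙 M))
  haveI : Mono φ₁.τ₃ := inferInstanceAs (Mono (𝟙 C'))
  haveI : Epi φ₂.τ₁ := inferInstanceAs (Epi (𝟙 (cokernel u)))
  haveI : IsIso φ₂.τ₂ := inferInstanceAs (IsIso (𝟙 M))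
  haveI : Mono φ₂.τ₃ := inferInstanceAs (Mono (kernel.ι w))
  have hS₁' : S₁'.Exact := (ShortComplex.exact_iff_of_epi_of_isIso_of_mono φ₁).1 e2
  have hE : E.Exact := (ShortComplex.exact_iff_of_epi_of_isIso_of_mono φ₂).2 hS₁'
  haveI : Mono E.f := hm
  haveI : Epi E.g := he
  haveI : E.X₁.IsQuasicoherent := inferInstanceAs (cokernel u).IsQuasicoherent
  haveI : E.X₃.IsQuasicoherent := inferInstanceAs (kernel w).IsQuasicoherent
  exact QCohExtn.isQuasicoherent_of_shortExact E { exact := hE }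

theorem isQCohD_obj₁ (T : Triangle (DCoh.D X)) (hT : T ∈ distTriang (DCoh.D X))
    (h₂ : DCoh.IsQCohD T.obj₂) (h₃ : DCoh.IsQCohD T.obj₃) : DCoh.IsQCohD T.obj₁ := by
  intro i
  have h : (i - 1) + 1 = i := by omega
  exact qc_of_exact5 _ _ _ _ _ _ _
    (DerivedCategory.HomologySequence.exact₃ T hT (i - 1) i h)
    (DerivedCategory.HomologySequence.exact₁ T hT (i - 1) i h)
    (DerivedCategory.HomologySequence.exact₂ T hT i)
    (h₂ (i - 1)) (h₃ (i - 1)) (h₂ i) (h₃ i)

theorem isQCohD_obj₂ (T : Triangle (DCoh.D X)) (hT : T ∈ distTriang (DCoh.D X))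
    (h₁ : DCoh.IsQCohD T.obj₁) (h₃ : DCoh.IsQCohD T.obj₃) : DCoh.IsQCohD T.obj₂ := by
  intro i
  have h : (i - 1) + 1 = i := by omega
  exact qc_of_exact5 _ _ _ _ _ _ _
    (DerivedCategory.HomologySequence.exact₁ T hT (i - 1) i h)
    (DerivedCategory.HomologySequence.exact₂ T hT i)
    (DerivedCategory.HomologySequence.exact₃ T hT i (i + 1) rfl)
    (h₃ (i - 1)) (h₁ i) (h₃ i) (h₁ (i + 1))

theorem isQCohD_obj₃ (T : Triangle (DCoh.D X)) (hT : T ∈ distTriang (DCoh.D X))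
    (h₁ : DCoh.IsQCohD T.obj₁) (h₂ : DCoh.IsQCohD T.obj₂) : DCoh.IsQCohD T.obj₃ := by
  intro i
  exact qc_of_exact5 _ _ _ _ _ _ _
    (DerivedCategory.HomologySequence.exact₂ T hT i)
    (DerivedCategory.HomologySequence.exact₃ T hT i (i + 1) rfl)
    (DerivedCategory.HomologySequence.exact₁ T hT i (i + 1) rfl)
    (h₁ i) (h₂ i) (h₁ (i + 1)) (h₂ (i + 1))

theorem isQCohD_biprod {A B : DCoh.D X} (hA : DCoh.IsQCohD A) (hB : DCoh.IsQCohD B) :
    DCoh.IsQCohD (A ⊞ B) :=
  isQCohD_obj₂ _ (binaryBiproductTriangle_distinguished A B) hA hB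

end Tri

section IsoPush

variable {W₁ W₂ : Scheme.{u}} (a : W₁ ⟶ W₂) [IsIso a]

/-- pushforward along an isomorphism is restriction along the inverse -/
noncomputable def pushforwardIsoRestrict :
    Scheme.Modules.pushforward a ≅ Scheme.Modules.restrictFunctor (inv a) := by
  let η : 𝟭 W₂.Modules ≅
      Scheme.Modules.restrictFunctor a ⋙ Scheme.Modules.restrictFunctor (inv a) :=
    (Scheme.Modules.restrictFunctorId (X := W₂)).symm ≪≫
      (Scheme.Modules.restrictFunctorCongr (IsIso.inv_hom_id a)).symm ≪≫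
      Scheme.Modules.restrictFunctorComp (inv a) a
  let ε : Scheme.Modules.restrictFunctor (inv a) ⋙ Scheme.Modules.restrictFunctor a ≅
      𝟭 W₁.Modules :=
    (Scheme.Modules.restrictFunctorComp a (inv a)).symm ≪≫
      Scheme.Modules.restrictFunctorCongr (IsIso.hom_inv_id a) ≪≫
      Scheme.Modules.restrictFunctorId (X := W₁)
  let e : W₂.Modules ≌ W₁.Modules :=
    CategoryTheory.Equivalence.mk (Scheme.Modules.restrictFunctor a) (Scheme.Modules.restrictFunctor (inv a)) η ε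
  exact (Scheme.Modules.restrictAdjunction a).rightAdjointUniq e.toAdjunction

theorem nonempty_Rpush_iso_restrictD [DCoh.HasRpush a] :
    Nonempty (DCoh.Rpush a ≅ DCoh.restrictD (inv a)) := by
  let W := HomotopyCategory.quasiIso W₁.Modules (ComplexShape.up ℤ)
  let e : Qh ⋙ DCoh.restrictD (inv a) ≅ DCoh.pushKh a :=
    (Scheme.Modules.restrictFunctor (inv a)).mapDerivedCategoryFactorsh ≪≫
      Functor.isoWhiskerRight
        (LpullLocH3.mapHomotopyCategoryIso (pushforwardIsoRestrict a).symm) Qh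
  haveI : (DCoh.restrictD (inv a)).IsRightDerivedFunctor e.inv W :=
    Functor.isRightDerivedFunctor_of_inverts W _ e
  exact ⟨Functor.rightDerivedUnique (DCoh.Rpush a) (DCoh.restrictD (inv a))
    ((DCoh.pushKh a).totalRightDerivedUnit Qh W) e.inv W⟩

end IsoPush

section Induction

variable {X : Scheme.{u}}

theorem aux_list (P : X.Opens → Prop)
    (h₁ : ∀ U : X.Opens, IsAffineOpen U → P U)
    (h₂ : ∀ U V : X.Opens, P U → P V → P (U ⊓ V) → P (U ⊔ V))
    (A : X.Opens) (hA : IsAffineOpen A) :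
    ∀ (n : ℕ) (l : List X.Opens), l.length = n → (∀ B ∈ l, IsAffineOpen B ∧ B ≤ A) →
      P (AffVanish.supL l) := by
  intro n
  induction n with
  | zero =>
    intro l hl _
    obtain rfl := List.length_eq_zero_iff.mp hl
    exact h₁ _ (isAffineOpen_bot X)
  | succ n ih =>
    intro l hl hP
    match l, hl, hP with
    | B :: l', hl, hP =>
      have hl' : l'.length = n := by simpa using hl
      have hB := hP B (List.mem_cons_self ..)
      have hP' : ∀ C ∈ l', IsAffineOpen C ∧ C ≤ A :=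
        fun C hC => hP C (List.mem_cons_of_mem _ hC)
      rw [AffVanish.supL_cons]
      refine h₂ _ _ (h₁ B hB.1) (ih l' hl' hP') ?_
      rw [AffVanish.inf_supL]
      refine ih _ (by simpa using hl') ?_
      intro C hC
      obtain ⟨C', hC', rfl⟩ := List.mem_map.mp hC
      exact ⟨AffVanish.isAffineOpen_inf_of_le hA hB.2 (hP' C' hC').2 hB.1 (hP' C' hC').1,
        inf_le_left.trans hB.2⟩

/-- induction principle for quasi-compact opens of a quasi-separated scheme -/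
theorem qcqs_induction [QuasiSeparatedSpace X] (P : X.Opens → Prop)
    (h₁ : ∀ U : X.Opens, IsAffineOpen U → P U)
    (h₂ : ∀ U V : X.Opens, P U → P V → P (U ⊓ V) → P (U ⊔ V))
    (S : X.Opens) (hS : IsCompact (S : Set X)) : P S := by
  refine compact_open_induction_on (P := P) S hS (h₁ _ (isAffineOpen_bot X)) ?_
  intro S hS U hPS
  have hSU : IsCompact ((S ⊓ (U : X.Opens) : X.Opens) : Set X) :=
    QuasiSeparatedSpace.inter_isCompact (S : Set X) ((U : X.Opens) : Set X) S.2 hS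
      (U : X.Opens).2 U.2.isCompact
  obtain ⟨l, hl, e⟩ := AffVanish.exists_list_of_isCompact (S ⊓ (U : X.Opens)) hSU
  have hP : P (S ⊓ (U : X.Opens)) := by
    rw [← e]
    exact aux_list P h₁ h₂ U U.2 _ l rfl
      (fun B hB => ⟨(hl B hB).1, (hl B hB).2.trans inf_le_right⟩)
  exact h₂ S U hPS (h₁ U U.2) hP

end Induction

section Good

/-- `Rg_*` preserves `D_QCoh` -/
def Good {W S : Scheme.{u}} (g : W ⟶ S) : Prop :=
  haveI := BCOpenL.hasRpush g
  ∀ K : DCoh.D W, DCoh.IsQCohD K → DCoh.IsQCohD ((DCoh.Rpush g).obj K)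

theorem Good.of_iso {W₁ W₂ S : Scheme.{u}} (a : W₁ ⟶ W₂) [IsIso a] (g₂ : W₂ ⟶ S) (g₁ : W₁ ⟶ S)
    (h : a ≫ g₂ = g₁) (hg : Good g₂) : Good g₁ := by
  subst h
  haveI := BCOpenL.hasRpush a
  haveI := BCOpenL.hasRpush g₂
  haveI := BCOpenL.hasRpush (a ≫ g₂)
  intro K hK
  obtain ⟨e1⟩ := LpullAdjH3.nonempty_Rpush_comp_iso a g₂
  obtain ⟨e2⟩ := nonempty_Rpush_iso_restrictD a
  have h1 : DCoh.IsQCohD ((DCoh.restrictD (inv a)).obj K) :=
    LpullQCL.isQCohD_restrictD (inv a) K hK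
  have h2 : DCoh.IsQCohD ((DCoh.Rpush a).obj K) := DSectX.isQCohD_of_iso (e2.app K).symm h1
  exact DSectX.isQCohD_of_iso (e1.app K) (hg _ h2)

theorem Good.of_cover {W S : Scheme.{u}} (g : W ⟶ S) (U V : W.Opens) (hUV : U ⊔ V = ⊤)
    (hU : Good (U.ι ≫ g)) (hV : Good (V.ι ≫ g)) (hUV' : Good ((U ⊓ V).ι ≫ g)) : Good g := by
  intro K hK
  haveI := BCOpenL.hasRpush g
  haveI := BCOpenL.hasRpush (U.ι ≫ g)
  haveI := BCOpenL.hasRpush (V.ι ≫ g)
  haveI := BCOpenL.hasRpush ((U ⊓ V).ι ≫ g)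
  obtain ⟨a, b, c, hT⟩ := MVPushL.main6511 g U V hUV K
  refine isQCohD_obj₁ _ hT ?_ ?_
  · exact isQCohD_biprod (hU _ (LpullQCL.isQCohD_restrictD U.ι K hK))
      (hV _ (LpullQCL.isQCohD_restrictD V.ι K hK))
  · exact hUV' _ (LpullQCL.isQCohD_restrictD (U ⊓ V).ι K hK)

/-- on an affine scheme every object of `D_QCoh` is a complex of quasi-coherent modules -/
theorem exists_qcoh_rep (W : Scheme.{u}) [IsAffine W] (K : DCoh.D W) (hK : DCoh.IsQCohD K) :
    ∃ C : CochainComplex W.Modules ℤ, (∀ n, Coh.IsQCoh (C.X n)) ∧ Nonempty (Q.obj C ≅ K) := by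
  haveI := LpullQCL.preservesFiniteLimits_tilde Γ(W, ⊤)
  let a : W ⟶ Spec Γ(W, ⊤) := W.isoSpec.hom
  let b : Spec Γ(W, ⊤) ⟶ W := W.isoSpec.inv
  let F₀ : CochainComplex W.Modules ℤ := Q.objPreimage K
  let e₀ : Q.obj F₀ ≅ K := Q.objObjPreimageIso K
  let G : CochainComplex (Spec Γ(W, ⊤)).Modules ℤ := (RC b).obj F₀
  have hG : DCoh.IsQCohD (Q.obj G) :=
    DSectX.isQCohD_of_iso (facIso b F₀)
      (LpullQCL.isQCohD_restrictD b _ (DSectX.isQCohD_of_iso e₀.symm hK))
  obtain ⟨M, -, -, ⟨eM⟩⟩ := LTensQCL.exists_tilde_rep Γ(W, ⊤) G hG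
  let T : CochainComplex (Spec Γ(W, ⊤)).Modules ℤ := (tildeCx Γ(W, ⊤)).obj M
  let ε : Scheme.Modules.restrictFunctor b ⋙ Scheme.Modules.restrictFunctor a ≅
      𝟭 W.Modules :=
    (Scheme.Modules.restrictFunctorComp a b).symm ≪≫
      Scheme.Modules.restrictFunctorCongr (W.isoSpec.hom_inv_id) ≪≫
      Scheme.Modules.restrictFunctorId (X := W)
  let eC : (RC a).obj G ≅ F₀ :=
    HomologicalComplex.Hom.isoOfComponents (fun n => ε.app (F₀.X n))
      (fun i j _ => (ε.hom.naturality (F₀.d i j)).symm)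
  refine ⟨(RC a).obj T, fun n => ?_, ⟨?_⟩⟩
  · haveI : (T.X n).IsQuasicoherent :=
      inferInstanceAs (tilde (R := CommRingCat.of Γ(W, ⊤)) (M.X n)).IsQuasicoherent
    exact Scheme.Modules.isQuasicoherent_restrictFunctor a (T.X n)
  · exact (facIso a T).symm ≪≫ (DD a).mapIso eM ≪≫ facIso a G ≪≫ Q.mapIso eC ≪≫ e₀

theorem good_of_affine {W S : Scheme.{u}} [IsAffine W] (g : W ⟶ S) [IsAffineHom g] : Good g := by
  intro K hK
  haveI := BCOpenL.hasRpush g
  obtain ⟨C, hC, ⟨e⟩⟩ := exists_qcoh_rep W K hK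
  haveI h := DSectX.main7245 g C hC
  have h2 : DCoh.IsQCohD (Q.obj
      (((Scheme.Modules.pushforward g).mapHomologicalComplex (ComplexShape.up ℤ)).obj C)) :=
    DSectX.qcohD_Q _ (fun n => by
      haveI : (C.X n).IsQuasicoherent := hC n
      exact QCohCrit.isQuasicoherent_pushforward g (C.X n))
  exact DSectX.isQCohD_of_iso
    (asIso (((DCoh.pushKh g).totalRightDerivedUnit DerivedCategory.Qh
      (HomotopyCategory.quasiIso W.Modules (ComplexShape.up ℤ))).app
      ((HomotopyCategory.quotient W.Modules (ComplexShape.up ℤ)).obj C)) ≪≫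
      (DCoh.Rpush g).mapIso e) h2

theorem range_eq_of {X : Scheme.{u}} (Wo T : X.Opens) (T' : (Wo : Scheme.{u}).Opens) (h : T ≤ Wo)
    (h' : ∀ y : (Wo : Scheme.{u}), y ∈ T' ↔ (Wo.ι y) ∈ T) :
    Set.range (T'.ι ≫ Wo.ι) = Set.range T.ι := by
  rw [Scheme.Opens.range_ι]
  ext x
  constructor
  · rintro ⟨y, rfl⟩
    exact (h' y.1).1 y.2
  · intro hx
    exact ⟨⟨⟨x, h hx⟩, (h' _).2 hx⟩, rfl⟩

theorem good_of_qcqs {X S : Scheme.{u}} [IsAffine S] [CompactSpace X] [QuasiSeparatedSpace X]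
    (f : X ⟶ S) : Good f := by
  have key : ∀ U : X.Opens, IsCompact (U : Set X) → Good (U.ι ≫ f) := by
    intro U hU
    refine qcqs_induction (fun U => Good (U.ι ≫ f)) ?_ ?_ U hU
    · intro U hU
      haveI : IsAffine (U : Scheme.{u}) := hU
      exact good_of_affine (U.ι ≫ f)
    · intro U V hU hV hUV
      let Wo : X.Opens := U ⊔ V
      let U' : (Wo : Scheme.{u}).Opens := Wo.ι ⁻¹ᵁ U
      let V' : (Wo : Scheme.{u}).Opens := Wo.ι ⁻¹ᵁ V
      have hcov : U' ⊔ V' = ⊤ := by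
        rw [eq_top_iff]
        rintro x -
        have hx : (Wo.ι x) ∈ U ⊔ V := x.2
        rcases hx with hx | hx
        · exact Or.inl hx
        · exact Or.inr hx
      have rU := range_eq_of Wo U U' le_sup_left (fun y => Iff.rfl)
      have rV := range_eq_of Wo V V' le_sup_right (fun y => Iff.rfl)
      have rUV := range_eq_of Wo (U ⊓ V) (U' ⊓ V') (inf_le_left.trans le_sup_left)
        (fun y => Iff.rfl)
      refine Good.of_cover (Wo.ι ≫ f) U' V' hcov ?_ ?_ ?_
      · refine Good.of_iso (IsOpenImmersion.isoOfRangeEq (U'.ι ≫ Wo.ι) U.ι rU).hom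
          (U.ι ≫ f) _ ?_ hU
        rw [← Category.assoc, IsOpenImmersion.isoOfRangeEq_hom_fac, Category.assoc]
      · refine Good.of_iso (IsOpenImmersion.isoOfRangeEq (V'.ι ≫ Wo.ι) V.ι rV).hom
          (V.ι ≫ f) _ ?_ hV
        rw [← Category.assoc, IsOpenImmersion.isoOfRangeEq_hom_fac, Category.assoc]
      · refine Good.of_iso
          (IsOpenImmersion.isoOfRangeEq ((U' ⊓ V').ι ≫ Wo.ι) (U ⊓ V).ι rUV).hom
          ((U ⊓ V).ι ≫ f) _ ?_ hUV
        rw [← Category.assoc, IsOpenImmersion.isoOfRangeEq_hom_fac, Category.assoc]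
  have htop := key ⊤ (by simpa using CompactSpace.isCompact_univ (X := X))
  refine Good.of_iso X.topIso.inv ((⊤ : X.Opens).ι ≫ f) f ?_ htop
  rw [← Category.assoc, Scheme.toIso_inv_ι, Category.id_comp]

end Good

/-- **S0998** -/
theorem main0998 {X S : Scheme.{u}} (f : X ⟶ S) [QuasiCompact f] [QuasiSeparated f]
    [DCoh.HasRpush f] (K : DCoh.D X) (hK : DCoh.IsQCohD K) :
    DCoh.IsQCohD ((DCoh.Rpush f).obj K) := by
  refine LpullQCL.isQCohD_of_cover _ (fun V : S.affineOpens => V.1)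
    (iSup_affineOpens_eq_top S) (fun V => ?_)
  haveI := BCOpenL.hasRpush (f ∣_ V.1)
  obtain ⟨e⟩ := BCOpenL.main6508 f V.1
  haveI : IsAffine (V.1 : Scheme.{u}) := V.2
  haveI : CompactSpace ((f ⁻¹ᵁ V.1 : X.Opens) : Scheme.{u}) :=
    QuasiCompact.compactSpace_of_compactSpace (f ∣_ V.1)
  haveI : QuasiSeparatedSpace ((f ⁻¹ᵁ V.1 : X.Opens) : Scheme.{u}) :=
    quasiSeparatedSpace_of_quasiSeparated (f ∣_ V.1)
  have hg := good_of_qcqs (f ∣_ V.1)
  exact DSectX.isQCohD_of_iso (e.app K).symm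
    (hg _ (LpullQCL.isQCohD_restrictD (f ⁻¹ᵁ V.1).ι K hK))

end Groth.Agent.Lib.RpushQCL
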