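import Mathlib
import Groth.Prelude
import Groth.Agent.Lib.FpqcPC_helper3
import Groth.Agent.Lib.DSect8_lead
import Groth.Agent.Lib.DMod28_helper6
import Groth.Agent.Lib.RpushQC_lead
import Groth.Agent.Lib.LpullAdj_helper3
import Groth.Agent.Lib.BCOpen2_lead

/-!
# Pseudo-coherence and finite direct images: the affine core and base change to affine opens
(helper3; towards S1112)
-/

set_option autoImplicit false
set_option linter.all false
set_option maxHeartbeats 1600000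
set_option backward.isDefEq.respectTransparency false
set_option backward.isDefEq.respectTransparency.types false
set_option backward.defeqAttrib.useBackward true

universe u
open CategoryTheory CategoryTheory.Limits AlgebraicGeometry Opposite TopologicalSpace
open CategoryTheory.Pretriangulated

attribute [local instance] HasDerivedCategory.standard

namespace Groth.Agent.Lib.FinPushPCH3

open Groth.Agent.Lib.DCohLocLead DerivedCategory DRing Groth.Agent.Lib.DMod_helper6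
  Groth.Agent.Lib.TildeAmpL Groth.Agent.Lib.TildePCH3 Groth.Agent.Lib.FpqcPCH3

noncomputable section

/-! ### the affine core -/

section Core

variable {A B : Type u} [CommRing A] [CommRing B] (φ : A →+* B)

theorem core [DCoh.HasRpush (Spec.map (CommRingCat.ofHom φ))]
    (hB : ∀ m : ℤ, DRing.IsPseudoCoherent A m ((DRing.restrictD φ).obj (Dual.inD B B)))
    (N : Dual.D B) (m : ℤ) :
    haveI := Groth.Agent.Lib.LpullQCL.preservesFiniteLimits_tilde B
    DCoh.IsPseudoCoherentD m ((DCoh.tildeD (CommRingCat.of B)).obj N) ↔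
      DCoh.IsPseudoCoherentD m ((DCoh.Rpush (Spec.map (CommRingCat.ofHom φ))).obj
        ((DCoh.tildeD (CommRingCat.of B)).obj N)) := by
  haveI instA : PreservesFiniteLimits (tilde.functor (CommRingCat.of A)) :=
    Groth.Agent.Lib.LpullQCL.preservesFiniteLimits_tilde A
  haveI instB : PreservesFiniteLimits (tilde.functor (CommRingCat.of B)) :=
    Groth.Agent.Lib.LpullQCL.preservesFiniteLimits_tilde B
  obtain ⟨c⟩ := Groth.Agent.Lib.DSectX.nonempty_iso_7268 (R := CommRingCat.of A)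
    (S := CommRingCat.of B) (CommRingCat.ofHom φ)
  have hB' : resPC φ (Dual.inD B B) := (isPseudoCoherent'_iff_forall _).mpr hB
  rw [main1004 B N m, isPseudoCoherent_restrictD_iff φ hB' m N, ← main1004 A _ m]
  constructor
  · intro h
    exact isPC_of_iso (c.app N).symm h
  · intro h
    exact isPC_of_iso (c.app N) h

end Core

/-! ### isomorphisms of schemes -/

section IsoSch

theorem nonempty_DD_congr {Y X : Scheme.{u}} {j l : Y ⟶ X} [IsOpenImmersion j]
    [IsOpenImmersion l] (h : j = l) (K : DCoh.D X) :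
    Nonempty ((DD j).obj K ≅ (DD l).obj K) := by
  subst h
  exact ⟨Iso.refl _⟩

variable {W₁ W₂ : Scheme.{u}} (e : W₁ ≅ W₂)

/-- `(K|_{W₂})|_{W₁} ≅ K` for an isomorphism `e : W₁ ≅ W₂` and `K ∈ D(W₁)` -/
theorem nonempty_DD_hom_inv (K : DCoh.D W₁) :
    Nonempty ((DD e.hom).obj ((DD e.inv).obj K) ≅ K) := by
  let F₀ : CochainComplex W₁.Modules ℤ := Q.objPreimage K
  let e₀ : Q.obj F₀ ≅ K := Q.objObjPreimageIso K
  let ε : Scheme.Modules.restrictFunctor e.inv ⋙ Scheme.Modules.restrictFunctor e.hom ≅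
      𝟭 W₁.Modules :=
    (Scheme.Modules.restrictFunctorComp e.hom e.inv).symm ≪≫
      Scheme.Modules.restrictFunctorCongr e.hom_inv_id ≪≫
      Scheme.Modules.restrictFunctorId (X := W₁)
  let eC : (RC e.hom).obj ((RC e.inv).obj F₀) ≅ F₀ :=
    HomologicalComplex.Hom.isoOfComponents (fun n => ε.app (F₀.X n))
      (fun i j _ => (ε.hom.naturality (F₀.d i j)).symm)
  exact ⟨(DD e.hom).mapIso ((DD e.inv).mapIso e₀.symm ≪≫ facIso e.inv F₀) ≪≫
    facIso e.hom _ ≪≫ Q.mapIso eC ≪≫ e₀⟩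

theorem nonempty_Rpush_congr {X Y : Scheme.{u}} {g g' : X ⟶ Y} (h : g = g') [DCoh.HasRpush g]
    [DCoh.HasRpush g'] : Nonempty (DCoh.Rpush g ≅ DCoh.Rpush g') := by
  subst h
  exact ⟨Iso.refl _⟩

end IsoSch

/-! ### base change to affine opens -/

section BC

variable {X Y : Scheme.{u}} (f : X ⟶ Y)

/-- `(Rf_* E)|_{Spec Γ(V)} ≅ R(Spec f^♯)_* (E|_{Spec Γ(f⁻¹V)})` -/
theorem nonempty_bc_affine [DCoh.HasRpush f] (V : Y.Opens) (hV : IsAffineOpen V)
    (hU : IsAffineOpen (f ⁻¹ᵁ V)) [DCoh.HasRpush (Spec.map (f.app V))] (E : DCoh.D X) :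
    Nonempty ((DD hV.fromSpec).obj ((DCoh.Rpush f).obj E) ≅
      (DCoh.Rpush (Spec.map (f.app V))).obj ((DD hU.fromSpec).obj E)) := by
  let aV := hV.isoSpec
  let aU := hU.isoSpec
  haveI := Groth.Agent.Lib.BCOpenL.hasRpush (f ∣_ V)
  haveI := Groth.Agent.Lib.BCOpenL.hasRpush aU.inv
  haveI := Groth.Agent.Lib.BCOpenL.hasRpush aV.hom
  haveI := Groth.Agent.Lib.BCOpenL.hasRpush ((f ∣_ V) ≫ aV.hom)
  haveI := Groth.Agent.Lib.BCOpenL.hasRpush (aU.inv ≫ (f ∣_ V) ≫ aV.hom)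
  -- the factorization of `Spec f^♯`
  have hfac : Spec.map (f.app V) = aU.inv ≫ (f ∣_ V) ≫ aV.hom := by
    have h1 : Spec.map (f.app V) ≫ hV.fromSpec = hU.fromSpec ≫ f := by
      have := IsAffineOpen.SpecMap_appLE_fromSpec f hV hU le_rfl
      rwa [Scheme.Hom.appLE_eq_app] at this
    have h2 : (aU.inv ≫ (f ∣_ V) ≫ aV.hom) ≫ hV.fromSpec = hU.fromSpec ≫ f := by
      have e1 : aV.hom ≫ hV.fromSpec = V.ι := by
        rw [← IsAffineOpen.isoSpec_inv_ι, Iso.hom_inv_id_assoc]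
      simp only [Category.assoc]
      rw [e1, morphismRestrict_ι, ← Category.assoc]
      rfl
    exact (cancel_mono hV.fromSpec).mp (h1.trans h2.symm)
  obtain ⟨b1⟩ := Groth.Agent.Lib.BCOpenL.main6508 f V
  obtain ⟨b2⟩ := nonempty_DD_comp_iso aV.inv V.ι ((DCoh.Rpush f).obj E)
  obtain ⟨b3⟩ := nonempty_DD_comp_iso aU.inv (f ⁻¹ᵁ V).ι E
  obtain ⟨b4⟩ := nonempty_Rpush_congr hfac
  obtain ⟨b5⟩ := Groth.Agent.Lib.LpullAdjH3.nonempty_Rpush_comp_iso aU.inv ((f ∣_ V) ≫ aV.hom)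
  obtain ⟨b6⟩ := Groth.Agent.Lib.LpullAdjH3.nonempty_Rpush_comp_iso (f ∣_ V) aV.hom
  obtain ⟨b7⟩ := Groth.Agent.Lib.RpushQCL.nonempty_Rpush_iso_restrictD aU.inv
  obtain ⟨b8⟩ := Groth.Agent.Lib.RpushQCL.nonempty_Rpush_iso_restrictD aV.hom
  let G : DCoh.D ((f ⁻¹ᵁ V : X.Opens) : Scheme.{u}) := (DD (f ⁻¹ᵁ V).ι).obj E
  have hinvU : inv aU.inv = aU.hom := IsIso.Iso.inv_inv aU
  have hinvV : inv aV.hom = aV.inv := IsIso.Iso.inv_hom aV
  obtain ⟨b9⟩ := nonempty_DD_hom_inv aU G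
  obtain ⟨b10⟩ := nonempty_DD_congr hinvU ((DD aU.inv).obj G)
  obtain ⟨b11⟩ := nonempty_DD_congr hinvV ((DCoh.Rpush (f ∣_ V)).obj G)
  -- left hand side
  have L : (DD hV.fromSpec).obj ((DCoh.Rpush f).obj E) ≅
      (DD aV.inv).obj ((DCoh.Rpush (f ∣_ V)).obj G) :=
    b2 ≪≫ (DD aV.inv).mapIso (b1.app E)
  -- right hand side
  have R : (DCoh.Rpush (Spec.map (f.app V))).obj ((DD hU.fromSpec).obj E) ≅
      (DD aV.inv).obj ((DCoh.Rpush (f ∣_ V)).obj G) :=
    (DCoh.Rpush (Spec.map (f.app V))).mapIso b3 ≪≫ b4.app _ ≪≫ (b5.app _).symm ≪≫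
      (b6.app _).symm ≪≫ b8.app _ ≪≫
      (DD (inv aV.hom)).mapIso ((DCoh.Rpush (f ∣_ V)).mapIso (b7.app _ ≪≫ b10 ≪≫ b9)) ≪≫ b11
  exact ⟨L ≪≫ R.symm⟩

end BC

end

end Groth.Agent.Lib.FinPushPCH3
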