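import Mathlib
import Groth.Prelude
import Groth.Agent.Lib.FinPushPC1_helper3
import Groth.Agent.Lib.PerfFlat2_lead

/-!
# Pseudo-coherence and finite pushforward, part 2 (helper3)

For `f : X ⟶ Y` affine with `f_* O_X` pseudo-coherent, and `E ∈ D_QCoh(O_X)`:
`E` is `m`-pseudo-coherent iff `Rf_* E` is.
-/

set_option autoImplicit false
set_option linter.all false
set_option maxHeartbeats 1600000
set_option backward.isDefEq.respectTransparency false
set_option backward.isDefEq.respectTransparency.types false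
set_option backward.defeqAttrib.useBackward true

universe u

open CategoryTheory CategoryTheory.Limits AlgebraicGeometry Opposite TopologicalSpace
open CategoryTheory.Pretriangulated

attribute [local instance] HasDerivedCategory.standard

namespace Groth.Agent.Lib.FinPushPCH3

open Groth.Agent.Lib.DCohLocLead DerivedCategory DRing Groth.Agent.Lib.DMod_helper6
  Groth.Agent.Lib.TildeAmpL Groth.Agent.Lib.TildePCH3 Groth.Agent.Lib.FpqcPCH3

noncomputable section

section Zero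

variable {X : Scheme.{u}}

theorem isQuasicoherent_of_isZero {Z : X.Modules} (hZ : IsZero Z) : Z.IsQuasicoherent := by
  haveI : (kernel (𝟙 (Coh.structureModule X))).IsQuasicoherent :=
    SubExt.isQuasicoherent_kernel (𝟙 (Coh.structureModule X))
  have hk : IsZero (kernel (𝟙 (Coh.structureModule X))) := isZero_kernel_of_mono _
  exact (SheafOfModules.isQuasicoherent X.ringCatSheaf).prop_of_iso (hk.iso hZ)
    ‹(kernel (𝟙 (Coh.structureModule X))).IsQuasicoherent›

end Zero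

section PushSingle

variable {X Y : Scheme.{u}} (f : X ⟶ Y)

/-- `Rf_* (M[0]) ≅ (f_* M)[0]` for `f` affine and `M` quasi-coherent -/
theorem nonempty_Rpush_inD_iso [IsAffineHom f] [DCoh.HasRpush f] (M : X.Modules)
    (hM : Coh.IsQCoh M) :
    Nonempty ((DCoh.Rpush f).obj (DCoh.inD X M) ≅
      DCoh.inD Y ((Scheme.Modules.pushforward f).obj M)) := by
  let C : CochainComplex X.Modules ℤ :=
    (HomologicalComplex.single X.Modules (ComplexShape.up ℤ) 0).obj M
  have hC : ∀ n : ℤ, Coh.IsQCoh (C.X n) := by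
    intro n
    by_cases h : n = 0
    · subst h
      exact (SheafOfModules.isQuasicoherent X.ringCatSheaf).prop_of_iso
        (HomologicalComplex.singleObjXSelf (ComplexShape.up ℤ) 0 M).symm hM
    · exact isQuasicoherent_of_isZero (HomologicalComplex.isZero_single_obj_X _ _ _ _ h)
  haveI h := Groth.Agent.Lib.DSectX.main7245 f C hC
  let e1 := asIso (((DCoh.pushKh f).totalRightDerivedUnit DerivedCategory.Qh
      (HomotopyCategory.quasiIso X.Modules (ComplexShape.up ℤ))).app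
      ((HomotopyCategory.quotient X.Modules (ComplexShape.up ℤ)).obj C))
  let e2 : ((Scheme.Modules.pushforward f).mapHomologicalComplex (ComplexShape.up ℤ)).obj C ≅
      (HomologicalComplex.single Y.Modules (ComplexShape.up ℤ) 0).obj
        ((Scheme.Modules.pushforward f).obj M) :=
    (HomologicalComplex.singleMapHomologicalComplex (Scheme.Modules.pushforward f)
      (ComplexShape.up ℤ) 0).app M
  exact ⟨(DCoh.Rpush f).mapIso ((singleFunctorIsoCompQ X.Modules 0).app M) ≪≫ e1.symm ≪≫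
    Q.mapIso e2 ≪≫ ((singleFunctorIsoCompQ Y.Modules 0).app _).symm⟩

end PushSingle

section Main

variable {X Y : Scheme.{u}} (f : X ⟶ Y)

theorem hB_of_hO [IsAffineHom f] [DCoh.HasRpush f]
    (hO : ∀ m : ℤ, DCoh.IsPseudoCoherentD m
      (DCoh.inD Y ((Scheme.Modules.pushforward f).obj (Coh.structureModule X))))
    (V : Y.Opens) (hV : IsAffineOpen V) (m : ℤ) :
    DRing.IsPseudoCoherent Γ(Y, V) m
      ((DRing.restrictD (f.app V).hom).obj (Dual.inD Γ(X, f ⁻¹ᵁ V) Γ(X, f ⁻¹ᵁ V))) := by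
  have hU : IsAffineOpen (f ⁻¹ᵁ V) := hV.preimage f
  haveI instR : PreservesFiniteLimits (tilde.functor Γ(Y, V)) :=
    Groth.Agent.Lib.LpullQCL.preservesFiniteLimits_tilde Γ(Y, V)
  haveI instS : PreservesFiniteLimits (tilde.functor Γ(X, f ⁻¹ᵁ V)) :=
    Groth.Agent.Lib.LpullQCL.preservesFiniteLimits_tilde Γ(X, f ⁻¹ᵁ V)
  haveI : DCoh.HasRpush (Spec.map (f.app V)) := Groth.Agent.Lib.BCOpenL.hasRpush _
  have h1 := isPC_restrict (hO m) hV.fromSpec
  obtain ⟨e2⟩ := nonempty_Rpush_inD_iso f (Coh.structureModule X) inferInstance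
  obtain ⟨e3⟩ := nonempty_bc_affine f V hV hU (DCoh.inD X (Coh.structureModule X))
  let e4 : (DD hU.fromSpec).obj (DCoh.inD X (Coh.structureModule X)) ≅
      DCoh.inD (Spec Γ(X, f ⁻¹ᵁ V)) (Coh.structureModule (Spec Γ(X, f ⁻¹ᵁ V))) :=
    ((Scheme.Modules.restrictFunctor hU.fromSpec).mapDerivedCategorySingleFunctor 0).app _ ≪≫
      (DerivedCategory.singleFunctor _ 0).mapIso (Scheme.Modules.restrictUnitIso hU.fromSpec)
  let e5 : (DCoh.tildeD Γ(X, f ⁻¹ᵁ V)).obj (Dual.inD Γ(X, f ⁻¹ᵁ V) Γ(X, f ⁻¹ᵁ V)) ≅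
      DCoh.inD (Spec Γ(X, f ⁻¹ᵁ V)) (Coh.structureModule (Spec Γ(X, f ⁻¹ᵁ V))) :=
    ((tilde.functor Γ(X, f ⁻¹ᵁ V)).mapDerivedCategorySingleFunctor 0).app
      (ModuleCat.of Γ(X, f ⁻¹ᵁ V) Γ(X, f ⁻¹ᵁ V)) ≪≫
      (DerivedCategory.singleFunctor _ 0).mapIso tildeSelf
  obtain ⟨e6⟩ := Groth.Agent.Lib.DSectX.nonempty_iso_7268 (f.app V)
  have h7 : DCoh.IsPseudoCoherentD m ((DCoh.tildeD Γ(Y, V)).obj
      ((DRing.restrictD (f.app V).hom).obj (Dual.inD Γ(X, f ⁻¹ᵁ V) Γ(X, f ⁻¹ᵁ V)))) :=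
    isPC_of_iso ((DD hV.fromSpec).mapIso e2.symm ≪≫ e3 ≪≫
      (DCoh.Rpush (Spec.map (f.app V))).mapIso (e4 ≪≫ e5.symm) ≪≫ e6.app _) h1
  exact (main1004 Γ(Y, V) _ m).mp h7

theorem key [IsAffineHom f] [DCoh.HasRpush f]
    (hO : ∀ m : ℤ, DCoh.IsPseudoCoherentD m
      (DCoh.inD Y ((Scheme.Modules.pushforward f).obj (Coh.structureModule X))))
    (V : Y.Opens) (hV : IsAffineOpen V) (E : DCoh.D X) (hE : DCoh.IsQCohD E) (m : ℤ) :
    DCoh.IsPseudoCoherentD m ((DD (hV.preimage f).fromSpec).obj E) ↔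
      DCoh.IsPseudoCoherentD m ((DD hV.fromSpec).obj ((DCoh.Rpush f).obj E)) := by
  have hU : IsAffineOpen (f ⁻¹ᵁ V) := hV.preimage f
  haveI instS : PreservesFiniteLimits (tilde.functor Γ(X, f ⁻¹ᵁ V)) :=
    Groth.Agent.Lib.LpullQCL.preservesFiniteLimits_tilde Γ(X, f ⁻¹ᵁ V)
  haveI : DCoh.HasRpush (Spec.map (f.app V)) := Groth.Agent.Lib.BCOpenL.hasRpush _
  haveI : DCoh.HasRpush (Spec.map (CommRingCat.ofHom (f.app V).hom)) :=
    Groth.Agent.Lib.BCOpenL.hasRpush _
  have hB := hB_of_hO f hO V hV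
  have hq : DCoh.IsQCohD ((DD hU.fromSpec).obj E) :=
    Groth.Agent.Lib.LpullQCL.isQCohD_restrictD hU.fromSpec E hE
  obtain ⟨N, ⟨eN⟩⟩ := ((Groth.Agent.Lib.DSectX.main0997 Γ(X, f ⁻¹ᵁ V)).2.2 _).mp hq
  obtain ⟨bc⟩ := nonempty_bc_affine f V hV hU E
  have hcore := core (f.app V).hom hB N m
  constructor
  · intro h
    have h1 := isPC_of_iso eN.symm h
    have h2 := hcore.mp h1
    have h3 : DCoh.IsPseudoCoherentD m
        ((DCoh.Rpush (Spec.map (f.app V))).obj ((DD hU.fromSpec).obj E)) :=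
      isPC_of_iso ((DCoh.Rpush (Spec.map (f.app V))).mapIso eN) h2
    exact isPC_of_iso bc.symm h3
  · intro h
    have h3 : DCoh.IsPseudoCoherentD m
        ((DCoh.Rpush (Spec.map (f.app V))).obj ((DD hU.fromSpec).obj E)) :=
      isPC_of_iso bc h
    have h2 : DCoh.IsPseudoCoherentD m
        ((DCoh.Rpush (Spec.map (f.app V))).obj ((DCoh.tildeD Γ(X, f ⁻¹ᵁ V)).obj N)) :=
      isPC_of_iso ((DCoh.Rpush (Spec.map (f.app V))).mapIso eN.symm) h3
    have h1 := hcore.mpr h2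
    exact isPC_of_iso eN h1

theorem main1112 [IsAffineHom f] [DCoh.HasRpush f]
    (hO : ∀ m : ℤ, DCoh.IsPseudoCoherentD m
      (DCoh.inD Y ((Scheme.Modules.pushforward f).obj (Coh.structureModule X))))
    (E : DCoh.D X) (hE : DCoh.IsQCohD E) (m : ℤ) :
    DCoh.IsPseudoCoherentD m E ↔ DCoh.IsPseudoCoherentD m ((DCoh.Rpush f).obj E) := by
  have hk := fun (V : Y.affineOpens) => key f hO V.1 V.2 E hE m
  constructor
  · intro h
    refine isPC_of_cover m _ (fun V : Y.affineOpens => Spec Γ(Y, V.1))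
      (fun V => V.2.fromSpec) ?_ ?_
    · intro y
      obtain ⟨V, hV, hyV, -⟩ := Opens.isBasis_iff_nbhd.mp Y.isBasis_affineOpens
        (show y ∈ (⊤ : Y.Opens) from trivial)
      have hy : y ∈ Set.range hV.fromSpec := by
        rw [IsAffineOpen.range_fromSpec]
        exact hyV
      obtain ⟨z, hz⟩ := hy
      exact ⟨⟨V, hV⟩, z, hz⟩
    · intro V
      exact (hk V).mp (isPC_restrict h _)
  · intro h
    refine isPC_of_cover m _ (fun V : Y.affineOpens => Spec Γ(X, f ⁻¹ᵁ V.1))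
      (fun V => (V.2.preimage f).fromSpec) ?_ ?_
    · intro x
      obtain ⟨V, hV, hyV, -⟩ := Opens.isBasis_iff_nbhd.mp Y.isBasis_affineOpens
        (show f x ∈ (⊤ : Y.Opens) from trivial)
      have hx : x ∈ Set.range (hV.preimage f).fromSpec := by
        rw [IsAffineOpen.range_fromSpec]
        exact hyV
      obtain ⟨z, hz⟩ := hx
      exact ⟨⟨V, hV⟩, z, hz⟩
    · intro V
      exact (hk V).mpr (isPC_restrict h _)

end Main

end

end Groth.Agent.Lib.FinPushPCH3
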