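import Mathlib
import Groth.Prelude
import Groth.Agent.Lib.PullTensIso3_helper3

/-!
# The projection morphism `f_* M ⊗ N ⟶ f_* (M ⊗ f^* N)` (helper3)

(The variable factor on the LEFT, as in `DCoh.LTensorCx`; helper9's `PFormH9.projMap` has it on the right.)
* `pj f M N`, its formula on pure tensors `pj_tm`, and binaturality `pj_natural_left`, `pj_natural_right`.
* `pjNat f`: as a natural transformation of bifunctors.
-/

set_option autoImplicit false
set_option linter.all false
set_option maxHeartbeats 1600000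
set_option backward.isDefEq.respectTransparency false
set_option backward.isDefEq.respectTransparency.types false
set_option backward.defeqAttrib.useBackward true

universe u
open CategoryTheory CategoryTheory.Limits AlgebraicGeometry Opposite TopologicalSpace TensorProduct

namespace Groth.Agent.Lib.ProjFormulaH3

open Groth.Agent.Lib.StalkSkyL QcqsLoc MonoidalCategory Groth.Agent.Lib.StalkTensH3 PBH8 QCohExtn
open PFormH9 TensH8 FLFH8 Groth.Agent.Lib.PullTensIsoH3

noncomputable section

variable {X Y : Scheme.{u}} (f : X ⟶ Y)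

/-- the pairing `(m, n) ↦ m ⊗ f^* n` -/
def pjBeta (M : X.Modules) (N : Y.Modules) (V : Y.Opens)
    (m : Γ((Scheme.Modules.pushforward f).obj M, V)) (n : Γ(N, V)) :
    Γ((Scheme.Modules.pushforward f).obj
      (CohB1.tensorMod M ((Scheme.Modules.pullback f).obj N)), V) :=
  tm M ((Scheme.Modules.pullback f).obj N) (f ⁻¹ᵁ V) m (cUV f N (le_rfl : f ⁻¹ᵁ V ≤ f ⁻¹ᵁ V) n)

/-- the bilinear data of the projection morphism -/
def pjBilin (M : X.Modules) (N : Y.Modules) :
    BilinData ((Scheme.Modules.pushforward f).obj M) N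
      ((Scheme.Modules.pushforward f).obj
        (CohB1.tensorMod M ((Scheme.Modules.pullback f).obj N))) where
  β V m n := pjBeta f M N V m n
  add_left V m m' n := by
    unfold pjBeta
    exact tm_add_left _ _ _ _ _ _
  smul_left V r m n := by
    unfold pjBeta
    exact tm_smul_left M ((Scheme.Modules.pullback f).obj N) (f ⁻¹ᵁ V) ((f.app V).hom r) m _
  add_right V m n n' := by
    unfold pjBeta
    rw [cUV_add]
    exact tm_add_right _ _ _ _ _ _
  smul_right V r m n := by
    unfold pjBeta
    rw [cUV_smul_app]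
    exact tm_smul_right M ((Scheme.Modules.pullback f).obj N) (f ⁻¹ᵁ V) ((f.app V).hom r) m _
  natural {V V'} h m n := by
    unfold pjBeta
    rw [push_rF, cUV_resV f N h le_rfl n]
    refine (rF_tm _ _ (preimage_mono f h) _ _).trans ?_
    rw [rF_cUV]
    rfl

/-- **the projection morphism** `f_* M ⊗ N ⟶ f_* (M ⊗ f^* N)` -/
def pj (M : X.Modules) (N : Y.Modules) :
    CohB1.tensorMod ((Scheme.Modules.pushforward f).obj M) N ⟶
      (Scheme.Modules.pushforward f).obj
        (CohB1.tensorMod M ((Scheme.Modules.pullback f).obj N)) :=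
  (pjBilin f M N).toHom

lemma pj_tm (M : X.Modules) (N : Y.Modules) (V : Y.Opens)
    (m : Γ((Scheme.Modules.pushforward f).obj M, V)) (n : Γ(N, V)) :
    ap (pj f M N) V (tm ((Scheme.Modules.pushforward f).obj M) N V m n) =
      tm M ((Scheme.Modules.pullback f).obj N) (f ⁻¹ᵁ V) m
        (cUV f N (le_rfl : f ⁻¹ᵁ V ≤ f ⁻¹ᵁ V) n) :=
  (pjBilin f M N).toHom_tmul V m n

lemma pj_natural_left {M M' : X.Modules} (φ : M ⟶ M') (N : Y.Modules) :
    (DCoh.tensorBi.map ((Scheme.Modules.pushforward f).map φ)).app N ≫ pj f M' N =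
      pj f M N ≫ (Scheme.Modules.pushforward f).map
        ((DCoh.tensorBi.map φ).app ((Scheme.Modules.pullback f).obj N)) := by
  apply PFormH9.hom_ext_tmul
  intro V m n
  show ap (pj f M' N) V (ap ((DCoh.tensorBi.map ((Scheme.Modules.pushforward f).map φ)).app N) V
      (tm ((Scheme.Modules.pushforward f).obj M) N V m n)) =
    ap ((DCoh.tensorBi.map φ).app ((Scheme.Modules.pullback f).obj N)) (f ⁻¹ᵁ V)
      (ap (pj f M N) V (tm ((Scheme.Modules.pushforward f).obj M) N V m n))
  rw [pj_tm]
  have h1 : ap ((DCoh.tensorBi.map ((Scheme.Modules.pushforward f).map φ)).app N) V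
      (tm ((Scheme.Modules.pushforward f).obj M) N V m n) =
      tm ((Scheme.Modules.pushforward f).obj M') N V
        (ap ((Scheme.Modules.pushforward f).map φ) V m) n :=
    tensorBi_map_app_tm ((Scheme.Modules.pushforward f).map φ) N V m n
  rw [h1, pj_tm]
  exact (tensorBi_map_app_tm φ ((Scheme.Modules.pullback f).obj N) (f ⁻¹ᵁ V) m _).symm

lemma pj_natural_right (M : X.Modules) {N N' : Y.Modules} (ψ : N ⟶ N') :
    (DCoh.tensorBi.obj ((Scheme.Modules.pushforward f).obj M)).map ψ ≫ pj f M N' =
      pj f M N ≫ (Scheme.Modules.pushforward f).map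
        ((DCoh.tensorBi.obj M).map ((Scheme.Modules.pullback f).map ψ)) := by
  apply PFormH9.hom_ext_tmul
  intro V m n
  show ap (pj f M N') V (ap ((DCoh.tensorBi.obj ((Scheme.Modules.pushforward f).obj M)).map ψ) V
      (tm ((Scheme.Modules.pushforward f).obj M) N V m n)) =
    ap ((DCoh.tensorBi.obj M).map ((Scheme.Modules.pullback f).map ψ)) (f ⁻¹ᵁ V)
      (ap (pj f M N) V (tm ((Scheme.Modules.pushforward f).obj M) N V m n))
  rw [pj_tm]
  have h1 : ap ((DCoh.tensorBi.obj ((Scheme.Modules.pushforward f).obj M)).map ψ) V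
      (tm ((Scheme.Modules.pushforward f).obj M) N V m n) =
      tm ((Scheme.Modules.pushforward f).obj M) N' V m (ap ψ V n) :=
    tensorBi_obj_map_tm ((Scheme.Modules.pushforward f).obj M) ψ V m n
  rw [h1, pj_tm]
  refine Eq.trans ?_ (tensorBi_obj_map_tm M ((Scheme.Modules.pullback f).map ψ) (f ⁻¹ᵁ V) m
    (cUV f N le_rfl n)).symm
  exact congrArg (fun t => tm M ((Scheme.Modules.pullback f).obj N') (f ⁻¹ᵁ V) m t)
    (cUV_naturality f ψ le_rfl n).symm

/-- the projection morphism, as a natural transformation of bifunctors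
`(M, N) ↦ f_* M ⊗ N` to `(M, N) ↦ f_* (M ⊗ f^* N)` -/
def pjNat :
    Scheme.Modules.pushforward f ⋙ DCoh.tensorBi (X := Y) ⟶
      (DCoh.tensorBi (X := X) ⋙ (Functor.whiskeringLeft Y.Modules _ _).obj
        (Scheme.Modules.pullback f)) ⋙ (Functor.whiskeringRight Y.Modules _ _).obj
        (Scheme.Modules.pushforward f) where
  app M := { app := fun N => pj f M N
             naturality := fun N N' ψ => pj_natural_right f M ψ }
  naturality M M' φ := by
    refine NatTrans.ext (funext fun N => ?_)
    exact pj_natural_left f φ N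

end

end Groth.Agent.Lib.ProjFormulaH3
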