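import Mathlib
import Groth.Prelude
import Groth.Agent.Lib.ProjFormula1_helper3
import Groth.Agent.Lib.CycLen2_helper8

/-!
# The projection formula for a closed immersion, for modules (helper3)

`isIso_pj`: `f_* M ⊗ N ⟶ f_* (M ⊗ f^* N)` is an isomorphism for a closed immersion `f` (all modules).
-/

set_option autoImplicit false
set_option linter.all false
set_option maxHeartbeats 1600000
set_option backward.isDefEq.respectTransparency false
set_option backward.isDefEq.respectTransparency.types false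
set_option backward.defeqAttrib.useBackward true

universe u
open CategoryTheory CategoryTheory.Limits AlgebraicGeometry Opposite TopologicalSpace TensorProduct

namespace Groth.Agent.Lib.ProjFormulaH3

open Groth.Agent.Lib.StalkSkyL QcqsLoc MonoidalCategory Groth.Agent.Lib.StalkTensH3 PBH8 QCohExtn
open PFormH9 TensH8 FLFH8 Groth.Agent.Lib.PullTensIsoH3

noncomputable section

/-- additive maps out of `(M ⊗ N)_x` agreeing on germs of pure tensors are equal -/
lemma addHom_ext_gT {X : Scheme.{u}} (x : X) (M N : X.Modules) {Q : Type*} [AddCommGroup Q]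
    (g₁ g₂ : ↑((stk x).obj (CohB1.tensorMod M N)) →+ Q)
    (h : ∀ (U : X.Opens) (hx : x ∈ U) (m : Γ(M, U)) (n : Γ(N, U)),
      g₁ (gT x M N U hx m n) = g₂ (gT x M N U hx m n)) : g₁ = g₂ := by
  have key : ∀ (V : X.Opens) (hxV : x ∈ V) (p : ↥((CohB1.tensorPre M N).obj (op V))),
      g₁ (gmM x (CohB1.tensorMod M N) V hxV (TensH8.eta M N V p)) =
        g₂ (gmM x (CohB1.tensorMod M N) V hxV (TensH8.eta M N V p)) := by
    intro V hxV p
    induction p using TensorProduct.induction_on with
    | zero => rw [map_zero, gmM_zero, map_zero, map_zero]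
    | tmul m n => exact h V hxV m n
    | add p q hp hq => rw [map_add, gmM_add, map_add, map_add, hp, hq]
  apply AddMonoidHom.ext
  intro a
  obtain ⟨U, hx, t, rfl⟩ := exists_gmM x (CohB1.tensorMod M N) a
  obtain ⟨V, hV, hxV, p, hp⟩ := TensH8.eta_locally_surjective M N t x hx
  have h1 : gmM x (CohB1.tensorMod M N) U hx t =
      gmM x (CohB1.tensorMod M N) V hxV (TensH8.eta M N V p) := by
    rw [hp]
    exact (gmM_res x (CohB1.tensorMod M N) hV hxV t).symm
  rw [h1]
  exact key V hxV p

variable {X Y : Scheme.{u}} (f : X ⟶ Y)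

section AtPoint

variable (x : X)

/-- the stalk of a direct image at an image point, as an additive map -/
def sigmaHom (P : X.Modules) :
    ↑((stk (f.base x)).obj ((Scheme.Modules.pushforward f).obj P)) →+ ↑((stk x).obj P) :=
  (CycLenH8.pushStalkHom f P x).hom

lemma sigmaHom_gmM (P : X.Modules) (V : Y.Opens) (hx : f.base x ∈ V)
    (s : Γ((Scheme.Modules.pushforward f).obj P, V)) :
    sigmaHom f x P (gmM (f.base x) ((Scheme.Modules.pushforward f).obj P) V hx s) =
      gmM x P (f ⁻¹ᵁ V) hx s :=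
  CycLenH8.pushStalkHom_germ f P x V hx s

lemma sigmaHom_smul (P : X.Modules) (r : Y.presheaf.stalk (f.base x))
    (m : ↑((stk (f.base x)).obj ((Scheme.Modules.pushforward f).obj P))) :
    sigmaHom f x P (r • m) = (φx f x) r • sigmaHom f x P m :=
  CycLenH8.pushStalkHom_smul f P x r m

end AtPoint

section Chain

variable [IsClosedImmersion f] (x : X) (M : X.Modules) (N : Y.Modules)

/-- the stalk of a direct image at an image point -/
def sigmaEquiv (P : X.Modules) :
    ↑((stk (f.base x)).obj ((Scheme.Modules.pushforward f).obj P)) ≃+ ↑((stk x).obj P) :=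
  AddEquiv.ofBijective (sigmaHom f x P)
    (CycLenH8.pushStalkHom_bijective f P f.isEmbedding.isInducing x)

lemma sigmaEquiv_gmM (P : X.Modules) (V : Y.Opens) (hx : f.base x ∈ V)
    (s : Γ((Scheme.Modules.pushforward f).obj P, V)) :
    sigmaEquiv f x P (gmM (f.base x) ((Scheme.Modules.pushforward f).obj P) V hx s) =
      gmM x P (f ⁻¹ᵁ V) hx s :=
  sigmaHom_gmM f x P V hx s

lemma sigmaEquiv_symm_gmM (P : X.Modules) (V : Y.Opens) (hx : f.base x ∈ V)
    (s : Γ((Scheme.Modules.pushforward f).obj P, V)) :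
    (sigmaEquiv f x P).symm (gmM x P (f ⁻¹ᵁ V) hx s) =
      gmM (f.base x) ((Scheme.Modules.pushforward f).obj P) V hx s := by
  rw [← sigmaEquiv_gmM, AddEquiv.symm_apply_apply]

/-- the stalk of the projection morphism at an image point is bijective -/
theorem exists_chainEquiv :
    ∃ L : ↑((stk (f.base x)).obj (CohB1.tensorMod ((Scheme.Modules.pushforward f).obj M) N)) ≃+
        ↑((stk (f.base x)).obj ((Scheme.Modules.pushforward f).obj
          (CohB1.tensorMod M ((Scheme.Modules.pullback f).obj N)))),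
      ∀ (V : Y.Opens) (hx : f.base x ∈ V) (m : Γ((Scheme.Modules.pushforward f).obj M, V))
        (n : Γ(N, V)),
        L (gT (f.base x) ((Scheme.Modules.pushforward f).obj M) N V hx m n) =
          gmM (f.base x) ((Scheme.Modules.pushforward f).obj
            (CohB1.tensorMod M ((Scheme.Modules.pullback f).obj N))) V hx
            (tm M ((Scheme.Modules.pullback f).obj N) (f ⁻¹ᵁ V) m
              (cUV f N (le_rfl : f ⁻¹ᵁ V ≤ f ⁻¹ᵁ V) n)) := by
  letI : Algebra (Y.presheaf.stalk (f.base x)) (X.presheaf.stalk x) := (φx f x).toAlgebra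
  letI : Module (Y.presheaf.stalk (f.base x)) ↑((stk x).obj M) := Module.compHom _ (φx f x)
  haveI : IsScalarTower (Y.presheaf.stalk (f.base x)) (X.presheaf.stalk x) ↑((stk x).obj M) :=
    IsScalarTower.of_algebraMap_smul (fun _ _ => rfl)
  let L1 : ↑((stk (f.base x)).obj (CohB1.tensorMod ((Scheme.Modules.pushforward f).obj M) N))
      ≃ₗ[Y.presheaf.stalk (f.base x)]
      (↑((stk (f.base x)).obj ((Scheme.Modules.pushforward f).obj M)) ⊗[Y.presheaf.stalk (f.base x)]
        ↑((stk (f.base x)).obj N)) :=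
    (stalkTensorIso (f.base x) ((Scheme.Modules.pushforward f).obj M) N).toLinearEquiv
  let σM : ↑((stk (f.base x)).obj ((Scheme.Modules.pushforward f).obj M))
      ≃ₗ[Y.presheaf.stalk (f.base x)] ↑((stk x).obj M) :=
    { sigmaEquiv f x M with
      map_smul' := fun r m => sigmaHom_smul f x M r m }
  let L2 := TensorProduct.congr σM
    (LinearEquiv.refl (Y.presheaf.stalk (f.base x)) ↑((stk (f.base x)).obj N))
  let L3 := (TensorProduct.AlgebraTensorModule.cancelBaseChange (Y.presheaf.stalk (f.base x))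
    (X.presheaf.stalk x) (X.presheaf.stalk x) ↑((stk x).obj M) ↑((stk (f.base x)).obj N)).symm
  let L4 : (↑((stk x).obj M) ⊗[X.presheaf.stalk x]
        ↑((ext f x).obj ((stk (f.base x)).obj N))) ≃ₗ[X.presheaf.stalk x]
      (↑((stk x).obj M) ⊗[X.presheaf.stalk x]
        ↑((stk x).obj ((Scheme.Modules.pullback f).obj N))) :=
    TensorProduct.congr (LinearEquiv.refl (X.presheaf.stalk x) ↑((stk x).obj M))
      (eM f x N).symm.toLinearEquiv
  let L5 : (↑((stk x).obj M) ⊗[X.presheaf.stalk x]
        ↑((stk x).obj ((Scheme.Modules.pullback f).obj N))) ≃ₗ[X.presheaf.stalk x]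
      ↑((stk x).obj (CohB1.tensorMod M ((Scheme.Modules.pullback f).obj N))) :=
    (stalkTensorIso x M ((Scheme.Modules.pullback f).obj N)).symm.toLinearEquiv
  let L6 := (sigmaEquiv f x (CohB1.tensorMod M ((Scheme.Modules.pullback f).obj N))).symm
  refine ⟨L1.toAddEquiv.trans (L2.toAddEquiv.trans (L3.toAddEquiv.trans
    (L4.toAddEquiv.trans (L5.toAddEquiv.trans L6)))), ?_⟩
  intro V hx m n
  show L6 (L5 (L4 (L3 (L2 (L1 (gT (f.base x) ((Scheme.Modules.pushforward f).obj M) N V hx m n))))))
    = _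
  have h1 : L1 (gT (f.base x) ((Scheme.Modules.pushforward f).obj M) N V hx m n) =
      gmM (f.base x) ((Scheme.Modules.pushforward f).obj M) V hx m ⊗ₜ gmM (f.base x) N V hx n :=
    rho_gT (f.base x) ((Scheme.Modules.pushforward f).obj M) N V hx m n
  rw [h1]
  have h2 : L2 (gmM (f.base x) ((Scheme.Modules.pushforward f).obj M) V hx m ⊗ₜ
      gmM (f.base x) N V hx n) = gmM x M (f ⁻¹ᵁ V) hx m ⊗ₜ gmM (f.base x) N V hx n := by
    show σM _ ⊗ₜ _ = _
    exact congrArg (fun t => t ⊗ₜ[Y.presheaf.stalk (f.base x)] gmM (f.base x) N V hx n)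
      (sigmaEquiv_gmM f x M V hx m)
  rw [h2]
  have h3 : L3 (gmM x M (f ⁻¹ᵁ V) hx m ⊗ₜ gmM (f.base x) N V hx n) =
      gmM x M (f ⁻¹ᵁ V) hx m ⊗ₜ[X.presheaf.stalk x] ot f x (gmM (f.base x) N V hx n) := rfl
  rw [h3]
  have h4 : L4 (gmM x M (f ⁻¹ᵁ V) hx m ⊗ₜ[X.presheaf.stalk x] ot f x (gmM (f.base x) N V hx n)) =
      gmM x M (f ⁻¹ᵁ V) hx m ⊗ₜ[X.presheaf.stalk x]
        gmM x ((Scheme.Modules.pullback f).obj N) (f ⁻¹ᵁ V) hx (cUV f N le_rfl n) := by
    show _ ⊗ₜ[X.presheaf.stalk x] (eM f x N).inv.hom (ot f x (gmM (f.base x) N V hx n)) = _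
    rw [eM_inv_ot]
    rfl
  rw [h4]
  have h5 : L5 (gmM x M (f ⁻¹ᵁ V) hx m ⊗ₜ[X.presheaf.stalk x]
        gmM x ((Scheme.Modules.pullback f).obj N) (f ⁻¹ᵁ V) hx (cUV f N le_rfl n)) =
      gT x M ((Scheme.Modules.pullback f).obj N) (f ⁻¹ᵁ V) hx m (cUV f N le_rfl n) := by
    show (theta x M ((Scheme.Modules.pullback f).obj N)).hom _ = _
    rw [theta_tmul, pair_self]
  rw [h5]
  exact sigmaEquiv_symm_gmM f x (CohB1.tensorMod M ((Scheme.Modules.pullback f).obj N)) V hx
    (tm M ((Scheme.Modules.pullback f).obj N) (f ⁻¹ᵁ V) m (cUV f N le_rfl n))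

end Chain

section Main

variable [IsClosedImmersion f] (M : X.Modules) (N : Y.Modules)

theorem isIso_stalk_pj_of_mem (x : X) : IsIso ((stk (f.base x)).map (pj f M N)) := by
  obtain ⟨L, hL⟩ := exists_chainEquiv f x M N
  have heq : ((stk (f.base x)).map (pj f M N)).hom.toAddMonoidHom = L.toAddMonoidHom := by
    apply addHom_ext_gT
    intro V hx m n
    show ((stk (f.base x)).map (pj f M N)).hom
      (gT (f.base x) ((Scheme.Modules.pushforward f).obj M) N V hx m n) =
      L (gT (f.base x) ((Scheme.Modules.pushforward f).obj M) N V hx m n)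
    rw [hL]
    unfold gT
    rw [stalkFunctor_map_gmM]
    exact congrArg (gmM (f.base x) _ V hx) (pj_tm f M N V m n)
  rw [ConcreteCategory.isIso_iff_bijective]
  have h2 : ∀ a, ((stk (f.base x)).map (pj f M N)).hom a = L a := fun a =>
    congrArg (fun g : _ →+ _ => g a) heq
  constructor
  · intro a b hab
    apply L.injective
    rw [← h2, ← h2]
    exact hab
  · intro b
    obtain ⟨a, ha⟩ := L.surjective b
    exact ⟨a, (h2 a).trans ha⟩

lemma isZero_tensor_of_subsingleton {R : Type u} [CommRing R] (A B : ModuleCat.{u} R)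
    [Subsingleton A] : IsZero (A ⊗ B) := by
  haveI : Subsingleton ↑(A ⊗ B) := by
    refine ⟨fun a b => ?_⟩
    have key : ∀ t : ↑A ⊗[R] ↑B, t = 0 := by
      intro t
      induction t using TensorProduct.induction_on with
      | zero => rfl
      | tmul m n => rw [Subsingleton.elim m 0, TensorProduct.zero_tmul]
      | add p q hp hq => rw [hp, hq, add_zero]
    exact (key a).trans (key b).symm
  exact ModuleCat.isZero_of_subsingleton _

theorem isIso_stalk_pj_of_not_mem (y : Y) (hy : y ∉ Set.range f.base) :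
    IsIso ((stk y).map (pj f M N)) := by
  have hcl : IsClosed (Set.range f.base) := f.isClosedEmbedding.isClosed_range
  haveI h1 : Subsingleton ↑((stk y).obj ((Scheme.Modules.pushforward f).obj M)) :=
    CycLenH8.subsingleton_stalk_pushforward f M hcl y hy
  haveI h2 : Subsingleton ↑((stk y).obj ((Scheme.Modules.pushforward f).obj
      (CohB1.tensorMod M ((Scheme.Modules.pullback f).obj N)))) :=
    CycLenH8.subsingleton_stalk_pushforward f _ hcl y hy
  have z1 : IsZero ((stk y).obj (CohB1.tensorMod ((Scheme.Modules.pushforward f).obj M) N)) :=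
    (isZero_tensor_of_subsingleton _ _).of_iso
      (stalkTensorIso y ((Scheme.Modules.pushforward f).obj M) N)
  have z2 : IsZero ((stk y).obj ((Scheme.Modules.pushforward f).obj
      (CohB1.tensorMod M ((Scheme.Modules.pullback f).obj N)))) :=
    ModuleCat.isZero_of_subsingleton _
  exact ⟨0, z1.eq_of_src _ _, z2.eq_of_src _ _⟩

/-- **the projection formula for a closed immersion** (modules) -/
theorem isIso_pj : IsIso (pj f M N) := by
  apply isIso_of_forall_stalk_isIso
  intro y
  by_cases hy : y ∈ Set.range f.base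
  · obtain ⟨x, rfl⟩ := hy
    exact isIso_stalk_pj_of_mem f M N x
  · exact isIso_stalk_pj_of_not_mem f M N y hy

end Main

end

end Groth.Agent.Lib.ProjFormulaH3
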