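import Mathlib
import Groth.Prelude
import Groth.Agent.Lib.ProjFormula2_helper3
import Groth.Agent.Lib.ClAdj1_helper8
import Groth.Agent.Lib.LpullTens_helper3

/-!
# The derived projection formula for a closed immersion (helper3)

* `pjNatIso f`: the projection isomorphism as an isomorphism of bifunctors.
* `pushCxTensorIso f E P : f_* (Tot (E ⊗ f^* P)) ≅ Tot (f_* E ⊗ P)` for complexes.
* `RpushIsoMapD f : Rf_* ≅ (f_*).mapDerivedCategory` for a closed immersion.
* `main966 : Rf_* E ⊗^L P ≅ Rf_* (E ⊗^L f^* P)` for `P` K-flat.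
-/

set_option autoImplicit false
set_option linter.all false
set_option maxHeartbeats 1600000
set_option backward.isDefEq.respectTransparency false
set_option backward.isDefEq.respectTransparency.types false
set_option backward.defeqAttrib.useBackward true

universe u
open CategoryTheory CategoryTheory.Limits AlgebraicGeometry Opposite

attribute [local instance] HasDerivedCategory.standard

namespace Groth.Agent.Lib.ProjFormulaH3

open Groth.Agent.Lib.StalkTensH3 Groth.Agent.Lib.LpullLocH3 Groth.Agent.Lib.PullTensIsoH3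
  Groth.Agent.Lib.LpullTensH3

noncomputable section

variable {X Y : Scheme.{u}} (f : X ⟶ Y) [IsClosedImmersion f]

/-- the bifunctor `(M, N) ↦ M ⊗ f^* N` -/
abbrev tensPull : X.Modules ⥤ Y.Modules ⥤ X.Modules :=
  DCoh.tensorBi (X := X) ⋙ (Functor.whiskeringLeft Y.Modules _ _).obj (Scheme.Modules.pullback f)

/-- the projection isomorphism, as an isomorphism of bifunctors -/
def pjNatIso :
    tensPull f ⋙ (Functor.whiskeringRight Y.Modules _ _).obj (Scheme.Modules.pushforward f) ≅
      Scheme.Modules.pushforward f ⋙ DCoh.tensorBi (X := Y) :=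
  NatIso.ofComponents (fun M => NatIso.ofComponents
    (fun N => (@asIso _ _ _ _ (pj f M N) (isIso_pj f M N)).symm)
    (fun {N N'} ψ => by
      rw [Iso.symm_hom, Iso.symm_hom, asIso_inv, asIso_inv, IsIso.comp_inv_eq, Category.assoc,
        IsIso.eq_inv_comp]
      exact (pj_natural_right f M ψ).symm)) (fun {M M'} φ => by
      refine NatTrans.ext (funext fun N => ?_)
      show _ ≫ (@asIso _ _ _ _ (pj f M' N) (isIso_pj f M' N)).symm.hom =
        (@asIso _ _ _ _ (pj f M N) (isIso_pj f M N)).symm.hom ≫ _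
      rw [Iso.symm_hom, Iso.symm_hom, asIso_inv, asIso_inv, IsIso.comp_inv_eq, Category.assoc,
        IsIso.eq_inv_comp]
      exact (pj_natural_left f φ N).symm)

instance additive_tensPull : (tensPull f).Additive where
  map_add {M M' φ ψ} := by
    refine NatTrans.ext (funext fun N => ?_)
    show ((DCoh.tensorBi (X := X)).map (φ + ψ)).app _ = _
    rw [Functor.map_add]
    rfl

instance additive_tensPull_obj (M : X.Modules) : ((tensPull f).obj M).Additive :=
  inferInstanceAs ((Scheme.Modules.pullback f ⋙ (DCoh.tensorBi (X := X)).obj M).Additive)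

instance additive_tensPull_push_obj (M : X.Modules) :
    ((tensPull f ⋙ (Functor.whiskeringRight Y.Modules _ _).obj
      (Scheme.Modules.pushforward f)).obj M).Additive :=
  inferInstanceAs ((((tensPull f).obj M) ⋙ Scheme.Modules.pushforward f).Additive)

instance additive_push_tensorBi : (Scheme.Modules.pushforward f ⋙ DCoh.tensorBi (X := Y)).Additive :=
  inferInstance

instance additive_push_tensorBi_obj (M : X.Modules) :
    ((Scheme.Modules.pushforward f ⋙ DCoh.tensorBi (X := Y)).obj M).Additive :=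
  inferInstanceAs (((DCoh.tensorBi (X := Y)).obj ((Scheme.Modules.pushforward f).obj M)).Additive)

instance preservesColimits_pushforward' :
    PreservesColimitsOfSize.{0, 0} (Scheme.Modules.pushforward f) :=
  haveI := ClAdjH8.preservesColimits_modules_pushforward f
  preservesColimitsOfSize_shrink.{0, u, 0, u} _

/-- termwise direct image of complexes -/
abbrev pushCx : CochainComplex X.Modules ℤ ⥤ CochainComplex Y.Modules ℤ :=
  (Scheme.Modules.pushforward f).mapHomologicalComplex (ComplexShape.up ℤ)

/-- **`f_* (Tot (E ⊗ f^* P)) ≅ Tot (f_* E ⊗ P)`** -/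
def pushCxTensorIso (E : CochainComplex X.Modules ℤ) (P : CochainComplex Y.Modules ℤ) :
    (pushCx f).obj ((DCoh.tensorCx.obj E).obj ((pullCx f).obj P)) ≅
      (DCoh.tensorCx.obj ((pushCx f).obj E)).obj P :=
  Groth.Agent.Lib.TotalMap.mapIso₁ (tensPull f) (Scheme.Modules.pushforward f) E P ≪≫
    Groth.Agent.Lib.BifNat.mapNatIso E P (pjNatIso f)

/-! ### `Rf_*` of a closed immersion is computed termwise -/

instance preservesFiniteColimits_pushforward :
    PreservesFiniteColimits (Scheme.Modules.pushforward f) :=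
  haveI := ClAdjH8.preservesColimits_modules_pushforward f
  PreservesColimitsOfSize.preservesFiniteColimits _

instance preservesFiniteLimits_pushforward :
    PreservesFiniteLimits (Scheme.Modules.pushforward f) :=
  haveI := (Scheme.Modules.pullbackPushforwardAdjunction f).isRightAdjoint
  inferInstance

/-- `Qh ⋙ D(f_*) ≅ pushKh f` -/
def pushDFac : DerivedCategory.Qh ⋙ (Scheme.Modules.pushforward f).mapDerivedCategory ≅
    DCoh.pushKh f :=
  (Scheme.Modules.pushforward f).mapDerivedCategoryFactorsh

/-- **`Rf_* ≅ D(f_*)` for a closed immersion** -/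
def RpushIsoMapD [DCoh.HasRpush f] :
    DCoh.Rpush f ≅ (Scheme.Modules.pushforward f).mapDerivedCategory := by
  haveI : ((Scheme.Modules.pushforward f).mapDerivedCategory).IsRightDerivedFunctor
      (pushDFac f).inv (HomotopyCategory.quasiIso X.Modules (ComplexShape.up ℤ)) :=
    Functor.isRightDerivedFunctor_of_inverts _ _ (pushDFac f)
  exact Functor.rightDerivedUnique (DCoh.Rpush f)
    ((Scheme.Modules.pushforward f).mapDerivedCategory)
    ((DCoh.pushKh f).totalRightDerivedUnit DerivedCategory.Qh
      (HomotopyCategory.quasiIso X.Modules (ComplexShape.up ℤ)))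
    (pushDFac f).inv
    (HomotopyCategory.quasiIso X.Modules (ComplexShape.up ℤ))

/-- `Rf_* (Q M) ≅ Q (f_* M)` -/
def RpushQIso [DCoh.HasRpush f] (M : CochainComplex X.Modules ℤ) :
    (DCoh.Rpush f).obj (DerivedCategory.Q.obj M) ≅ DerivedCategory.Q.obj ((pushCx f).obj M) :=
  (RpushIsoMapD f).app _ ≪≫
    ((Scheme.Modules.pushforward f).mapDerivedCategoryFactors).app M

/-- **the derived projection formula for a closed immersion**: `Rf_* E ⊗^L P ≅ Rf_* (E ⊗^L f^* P)`
for `P` K-flat. -/
theorem main966 [DCoh.HasRpush f] (P : CochainComplex Y.Modules ℤ) (hP : DCoh.IsKFlat P)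
    [DCoh.HasLTensorCx P] [DCoh.HasLTensorCx ((pullCx f).obj P)] (E : DCoh.D X) :
    Nonempty ((DCoh.LTensorCx P).obj ((DCoh.Rpush f).obj E) ≅
      (DCoh.Rpush f).obj ((DCoh.LTensorCx ((pullCx f).obj P)).obj E)) := by
  have hfP := isKFlat_pullback f P hP
  let E₀ := DerivedCategory.Q.objPreimage E
  let eE : DerivedCategory.Q.obj E₀ ≅ E := DerivedCategory.Q.objObjPreimageIso E
  let e1 : (DCoh.LTensorCx P).obj ((DCoh.Rpush f).obj E) ≅
      DerivedCategory.Q.obj ((DCoh.tensorCx.obj ((pushCx f).obj E₀)).obj P) :=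
    (DCoh.LTensorCx P).mapIso ((DCoh.Rpush f).mapIso eE.symm ≪≫ RpushQIso f E₀) ≪≫
      ltIsoRight P ((pushCx f).obj E₀) hP
  let e2 : (DCoh.Rpush f).obj ((DCoh.LTensorCx ((pullCx f).obj P)).obj E) ≅
      DerivedCategory.Q.obj ((pushCx f).obj ((DCoh.tensorCx.obj E₀).obj ((pullCx f).obj P))) :=
    (DCoh.Rpush f).mapIso ((DCoh.LTensorCx ((pullCx f).obj P)).mapIso eE.symm ≪≫
      ltIsoRight ((pullCx f).obj P) E₀ hfP) ≪≫ RpushQIso f _
  exact ⟨e1 ≪≫ (DerivedCategory.Q.mapIso (pushCxTensorIso f E₀ P)).symm ≪≫ e2.symm⟩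

end

end Groth.Agent.Lib.ProjFormulaH3
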