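import Mathlib
import Groth.Agent.Lib.RDerGE_helper7

/-!
# Total right derived functors are "triangulated at the level of objects" (helper3)

For an additive functor `F : A ⥤ B` out of a Grothendieck abelian category whose total right derived
functor `RF : D(A) ⥤ D(B)` exists (helper7's `RDerGE.RF`):

* `unitIso_hom_naturality`: naturality of `Q (F I) ≅ RF (Q I)` in the K-injective complex `I`;
* `nonempty_shift_iso`: `RF (E⟦n⟧) ≅ (RF E)⟦n⟧`;
* `exists_distTriang`: for every distinguished triangle `T` of `D(A)` there is a distinguished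
  triangle of `D(B)` with vertices `RF T.obj_i` whose first two maps are `RF T.mor₁`, `RF T.mor₂`.
-/

set_option autoImplicit false
set_option linter.all false
set_option maxHeartbeats 1600000
set_option backward.isDefEq.respectTransparency false
set_option backward.isDefEq.respectTransparency.types false
set_option backward.defeqAttrib.useBackward true

universe w w' v v' u u'
open CategoryTheory Limits Pretriangulated DerivedCategory

namespace Groth.Agent.Lib.RDerTriH3

open Groth.Agent.Lib.RDerGE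

section Cone

variable {A : Type u} [Category.{v} A] [Abelian A]

lemma isKInjective_mappingCone {K L : CochainComplex A ℤ} (φ : K ⟶ L) [hK : K.IsKInjective]
    [hL : L.IsKInjective] : (CochainComplex.mappingCone φ).IsKInjective := by
  rw [CochainComplex.isKInjective_iff_rightOrthogonal] at hK hL ⊢
  exact (HomotopyCategory.subcategoryAcyclic A).rightOrthogonal.ext_of_isTriangulatedClosed₃ _
    (HomotopyCategory.mappingCone_triangleh_distinguished φ) hK hL

end Cone

variable {A : Type u} [Category.{v} A] [Abelian A] [IsGrothendieckAbelian.{v} A]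
  [HasDerivedCategory.{w} A]
  {B : Type u'} [Category.{v'} B] [Abelian B] [HasDerivedCategory.{w'} B] (F : A ⥤ B) [F.Additive]
  [(F.mapHomotopyCategory (ComplexShape.up ℤ) ⋙ DerivedCategory.Qh).HasRightDerivedFunctor
    (HomotopyCategory.quasiIso A (ComplexShape.up ℤ))]

lemma unitIso_hom_naturality {I J : CochainComplex A ℤ} [I.IsKInjective] [J.IsKInjective]
    (φ : I ⟶ J) :
    Q.map ((F.mapHomologicalComplex (ComplexShape.up ℤ)).map φ) ≫ (unitIso F J).hom =
      (unitIso F I).hom ≫ (RF F).map (Q.map φ) :=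
  ((F.mapHomotopyCategory (ComplexShape.up ℤ) ⋙ DerivedCategory.Qh).totalRightDerivedUnit
    DerivedCategory.Qh (HomotopyCategory.quasiIso A (ComplexShape.up ℤ))).naturality
      ((HomotopyCategory.quotient A (ComplexShape.up ℤ)).map φ)

/-- `RF` commutes with shifts (object level) -/
theorem nonempty_shift_iso (E : DerivedCategory A) (n : ℤ) :
    Nonempty ((RF F).obj (E⟦n⟧) ≅ ((RF F).obj E)⟦n⟧) := by
  obtain ⟨I, hI, -, ⟨e⟩⟩ := Groth.Agent.Lib.KInjGen8.exists_kInjective_rep E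
  haveI := hI
  let a1 : E⟦n⟧ ≅ Q.obj (I⟦n⟧) :=
    (shiftFunctor (DerivedCategory A) n).mapIso e.symm ≪≫ ((Q.commShiftIso n).app I).symm
  let a2 : (RF F).obj (Q.obj (I⟦n⟧)) ≅
      Q.obj ((F.mapHomologicalComplex (ComplexShape.up ℤ)).obj (I⟦n⟧)) :=
    (unitIso F (I⟦n⟧)).symm
  let a3 : Q.obj ((F.mapHomologicalComplex (ComplexShape.up ℤ)).obj (I⟦n⟧)) ≅
      Q.obj (((F.mapHomologicalComplex (ComplexShape.up ℤ)).obj I)⟦n⟧) :=
    Q.mapIso ((F.mapCochainComplexShiftIso n).app I)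
  let a4 : Q.obj (((F.mapHomologicalComplex (ComplexShape.up ℤ)).obj I)⟦n⟧) ≅
      (Q.obj ((F.mapHomologicalComplex (ComplexShape.up ℤ)).obj I))⟦n⟧ :=
    (Q.commShiftIso n).app _
  let a5 : (Q.obj ((F.mapHomologicalComplex (ComplexShape.up ℤ)).obj I))⟦n⟧ ≅
      ((RF F).obj E)⟦n⟧ :=
    (shiftFunctor (DerivedCategory B) n).mapIso (unitIso F I ≪≫ (RF F).mapIso e)
  exact ⟨(RF F).mapIso a1 ≪≫ a2 ≪≫ a3 ≪≫ a4 ≪≫ a5⟩

/-- `RF` sends distinguished triangles to distinguished triangles (existence form) -/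
theorem exists_distTriang (T : Triangle (DerivedCategory A))
    (hT : T ∈ distTriang (DerivedCategory A)) :
    ∃ (T' : Triangle (DerivedCategory B)) (_ : T' ∈ distTriang (DerivedCategory B))
      (e₁ : T'.obj₁ ≅ (RF F).obj T.obj₁) (e₂ : T'.obj₂ ≅ (RF F).obj T.obj₂)
      (e₃ : T'.obj₃ ≅ (RF F).obj T.obj₃),
      T'.mor₁ ≫ e₂.hom = e₁.hom ≫ (RF F).map T.mor₁ ∧
        T'.mor₂ ≫ e₃.hom = e₂.hom ≫ (RF F).map T.mor₂ := by
  obtain ⟨I₁, h₁, -, ⟨a₁⟩⟩ := Groth.Agent.Lib.KInjGen8.exists_kInjective_rep T.obj₁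
  obtain ⟨I₂, h₂, -, ⟨a₂⟩⟩ := Groth.Agent.Lib.KInjGen8.exists_kInjective_rep T.obj₂
  haveI := h₁
  haveI := h₂
  obtain ⟨φh, hφh⟩ := (CochainComplex.IsKInjective.Qh_map_bijective
    ((HomotopyCategory.quotient A (ComplexShape.up ℤ)).obj I₁) I₂).surjective
      (a₁.hom ≫ T.mor₁ ≫ a₂.inv)
  obtain ⟨φ, rfl⟩ := (HomotopyCategory.quotient A (ComplexShape.up ℤ)).map_surjective φh
  have hφ : Q.map φ = a₁.hom ≫ T.mor₁ ≫ a₂.inv := hφh
  let T₀ : Triangle (DerivedCategory A) :=
    Q.mapTriangle.obj (CochainComplex.mappingCone.triangle φ)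
  have hT₀ : T₀ ∈ distTriang (DerivedCategory A) :=
    DerivedCategory.mappingCone_triangle_distinguished φ
  have hcomm : T₀.mor₁ ≫ a₂.hom = a₁.hom ≫ T.mor₁ := by
    show Q.map φ ≫ a₂.hom = a₁.hom ≫ T.mor₁
    rw [hφ]
    simp
  have hcomm' : Q.map φ ≫ a₂.hom = a₁.hom ≫ T.mor₁ := hcomm
  let θ : T₀ ≅ T := isoTriangleOfIso₁₂ T₀ T hT₀ hT a₁ a₂ hcomm
  have hθ₂ : θ.hom.hom₂ = a₂.hom := rfl
  let a₃ : Q.obj (CochainComplex.mappingCone φ) ≅ T.obj₃ := Triangle.π₃.mapIso θ
  have hcomm₂ : Q.map (CochainComplex.mappingCone.inr φ) ≫ a₃.hom = a₂.hom ≫ T.mor₂ := by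
    have := θ.hom.comm₂
    rw [hθ₂] at this
    exact this
  haveI : (CochainComplex.mappingCone φ).IsKInjective := isKInjective_mappingCone φ
  let Fc := F.mapHomologicalComplex (ComplexShape.up ℤ)
  let T' : Triangle (DerivedCategory B) :=
    Q.mapTriangle.obj (CochainComplex.mappingCone.triangle (Fc.map φ))
  have hT' : T' ∈ distTriang (DerivedCategory B) :=
    DerivedCategory.mappingCone_triangle_distinguished (Fc.map φ)
  let e₁ : Q.obj (Fc.obj I₁) ≅ (RF F).obj T.obj₁ := unitIso F I₁ ≪≫ (RF F).mapIso a₁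
  let e₂ : Q.obj (Fc.obj I₂) ≅ (RF F).obj T.obj₂ := unitIso F I₂ ≪≫ (RF F).mapIso a₂
  let κ := CochainComplex.mappingCone.mapHomologicalComplexIso φ F
  let e₃ : Q.obj (CochainComplex.mappingCone (Fc.map φ)) ≅ (RF F).obj T.obj₃ :=
    Q.mapIso κ.symm ≪≫ unitIso F (CochainComplex.mappingCone φ) ≪≫ (RF F).mapIso a₃
  refine ⟨T', hT', e₁, e₂, e₃, ?_, ?_⟩
  · show Q.map (Fc.map φ) ≫ (unitIso F I₂).hom ≫ (RF F).map a₂.hom =
      ((unitIso F I₁).hom ≫ (RF F).map a₁.hom) ≫ (RF F).map T.mor₁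
    rw [← Category.assoc, unitIso_hom_naturality F φ, Category.assoc, Category.assoc,
      ← Functor.map_comp, ← Functor.map_comp, hcomm']
  · have hinr : CochainComplex.mappingCone.inr (Fc.map φ) ≫ κ.inv =
        Fc.map (CochainComplex.mappingCone.inr φ) := by
      rw [← CochainComplex.mappingCone.map_inr φ F, Category.assoc, Iso.hom_inv_id,
        Category.comp_id]
    show Q.map (CochainComplex.mappingCone.inr (Fc.map φ)) ≫ Q.map κ.inv ≫
        (unitIso F (CochainComplex.mappingCone φ)).hom ≫ (RF F).map a₃.hom =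
      ((unitIso F I₂).hom ≫ (RF F).map a₂.hom) ≫ (RF F).map T.mor₂
    rw [← Category.assoc, ← Functor.map_comp, hinr, ← Category.assoc,
      unitIso_hom_naturality F (CochainComplex.mappingCone.inr φ), Category.assoc, Category.assoc,
      ← Functor.map_comp, ← Functor.map_comp, hcomm₂]

end Groth.Agent.Lib.RDerTriH3
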