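import Mathlib
import Groth.Prelude
import Groth.Agent.Lib.RpushQC_lead
import Groth.Agent.Lib.DCohLoc6_lead

/-!
# `Rf_*` has finite cohomological dimension on `D_QCoh` (lead; S0999)
-/

set_option autoImplicit false
set_option linter.all false
set_option maxHeartbeats 1600000
set_option backward.isDefEq.respectTransparency false
set_option backward.isDefEq.respectTransparency.types false
set_option backward.defeqAttrib.useBackward true

universe u
open CategoryTheory CategoryTheory.Limits AlgebraicGeometry Opposite TopologicalSpace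
open DerivedCategory CategoryTheory.Pretriangulated
attribute [local instance] HasDerivedCategory.standard

namespace Groth.Agent.Lib.RpushQCL

open Groth.Agent.Lib Groth.Agent.Lib.TildeAmpL Groth.Agent.Lib.KFlatMod
  Groth.Agent.Lib.DCohLocLead

/-- cohomology vanishes in positive degrees -/
def LE0 {W : Scheme.{u}} (K : DCoh.D W) : Prop := ∀ i : ℤ, 0 < i → IsZero (DCoh.HD K i)

theorem LE0.of_iso {W : Scheme.{u}} {K L : DCoh.D W} (e : K ≅ L) (h : LE0 K) : LE0 L :=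
  fun i hi => IsZero.of_iso (h i hi) ((homologyFunctor W.Modules i).mapIso e.symm)

theorem LE0.restrictD {U X : Scheme.{u}} (j : U ⟶ X) [IsOpenImmersion j] {K : DCoh.D X}
    (h : LE0 K) : LE0 ((DCoh.restrictD j).obj K) := by
  intro i hi
  obtain ⟨e⟩ := nonempty_homology_mapExact_iso (Scheme.Modules.restrictFunctor j) K i
  exact IsZero.of_iso ((Scheme.Modules.restrictFunctor j).map_isZero (h i hi)) e

/-- vanishing of the cohomology of `Rg_*` in degrees `≥ N` on `D_QCoh^{≤ 0}` -/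
def GoodN {W S : Scheme.{u}} (g : W ⟶ S) (N : ℤ) : Prop :=
  haveI := BCOpenL.hasRpush g
  ∀ K : DCoh.D W, DCoh.IsQCohD K → LE0 K → ∀ m : ℤ, N ≤ m →
    IsZero (DCoh.HD ((DCoh.Rpush g).obj K) m)

theorem GoodN.mono {W S : Scheme.{u}} {g : W ⟶ S} {N N' : ℤ} (h : GoodN g N) (hN : N ≤ N') :
    GoodN g N' := fun K hK hK0 m hm => h K hK hK0 m (hN.trans hm)

theorem GoodN.of_iso {W₁ W₂ S : Scheme.{u}} (a : W₁ ⟶ W₂) [IsIso a] (g₂ : W₂ ⟶ S) (g₁ : W₁ ⟶ S)
    (h : a ≫ g₂ = g₁) {N : ℤ} (hg : GoodN g₂ N) : GoodN g₁ N := by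
  subst h
  haveI := BCOpenL.hasRpush a
  haveI := BCOpenL.hasRpush g₂
  haveI := BCOpenL.hasRpush (a ≫ g₂)
  intro K hK hK0 m hm
  obtain ⟨e1⟩ := LpullAdjH3.nonempty_Rpush_comp_iso a g₂
  obtain ⟨e2⟩ := nonempty_Rpush_iso_restrictD a
  have h1 : DCoh.IsQCohD ((DCoh.restrictD (inv a)).obj K) :=
    LpullQCL.isQCohD_restrictD (inv a) K hK
  have h2 : DCoh.IsQCohD ((DCoh.Rpush a).obj K) := DSectX.isQCohD_of_iso (e2.app K).symm h1
  have h3 : LE0 ((DCoh.Rpush a).obj K) := LE0.of_iso (e2.app K).symm (LE0.restrictD (inv a) hK0)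
  exact IsZero.of_iso (hg _ h2 h3 m hm) ((homologyFunctor S.Modules m).mapIso (e1.app K).symm)

theorem isZero_HD_biprod {X : Scheme.{u}} {A B : DCoh.D X} (m : ℤ) (hA : IsZero (DCoh.HD A m))
    (hB : IsZero (DCoh.HD B m)) : IsZero (DCoh.HD (A ⊞ B) m) :=
  (DerivedCategory.HomologySequence.exact₂ _ (binaryBiproductTriangle_distinguished A B)
    m).isZero_of_both_zeros (hA.eq_of_src _ _) (hB.eq_of_tgt _ _)

theorem GoodN.of_cover {W S : Scheme.{u}} (g : W ⟶ S) (U V : W.Opens) (hUV : U ⊔ V = ⊤)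
    {N₁ N₂ N₃ : ℤ} (hU : GoodN (U.ι ≫ g) N₁) (hV : GoodN (V.ι ≫ g) N₂)
    (hUV' : GoodN ((U ⊓ V).ι ≫ g) N₃) : GoodN g (max (max N₁ N₂) (N₃ + 1)) := by
  intro K hK hK0 m hm
  haveI := BCOpenL.hasRpush g
  haveI := BCOpenL.hasRpush (U.ι ≫ g)
  haveI := BCOpenL.hasRpush (V.ι ≫ g)
  haveI := BCOpenL.hasRpush ((U ⊓ V).ι ≫ g)
  have h1 : N₁ ≤ m := (le_max_left N₁ N₂).trans ((le_max_left _ _).trans hm)
  have h2 : N₂ ≤ m := (le_max_right N₁ N₂).trans ((le_max_left _ _).trans hm)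
  have h3 : N₃ + 1 ≤ m := (le_max_right _ _).trans hm
  obtain ⟨a, b, c, hT⟩ := MVPushL.main6511 g U V hUV K
  have hC := hUV' _ (LpullQCL.isQCohD_restrictD (U ⊓ V).ι K hK) (LE0.restrictD (U ⊓ V).ι hK0)
    (m - 1) (by omega)
  have hAB := isZero_HD_biprod m
    (hU _ (LpullQCL.isQCohD_restrictD U.ι K hK) (LE0.restrictD U.ι hK0) m h1)
    (hV _ (LpullQCL.isQCohD_restrictD V.ι K hK) (LE0.restrictD V.ι hK0) m h2)
  exact (DerivedCategory.HomologySequence.exact₁ _ hT (m - 1) m (by omega)).isZero_of_both_zeros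
    (hC.eq_of_src _ _) (hAB.eq_of_tgt _ _)

theorem isZero_of_isZero_tilde (A : Type u) [CommRing A] (N : ModuleCat.{u} A)
    (h : IsZero ((tilde.functor (CommRingCat.of A)).obj N)) : IsZero N := by
  haveI : (moduleSpecΓFunctor (R := CommRingCat.of A)).IsRightAdjoint :=
    (tilde.adjunction (R := CommRingCat.of A)).isRightAdjoint
  haveI : (moduleSpecΓFunctor (R := CommRingCat.of A)).PreservesZeroMorphisms :=
    Functor.preservesZeroMorphisms_of_isRightAdjoint _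
  have h2 : IsZero ((moduleSpecΓFunctor (R := CommRingCat.of A)).obj
      ((tilde.functor (CommRingCat.of A)).obj N)) := Functor.map_isZero _ h
  exact IsZero.of_iso h2 ((tilde.toTildeΓNatIso (R := CommRingCat.of A)).app N)

/-- on `Spec A`, an object of `D_QCoh^{≤ 0}` is the tilde of a complex in degrees `≤ 0` -/
theorem exists_tilde_rep_le (A : Type u) [CommRing A]
    [PreservesFiniteLimits (tilde.functor (CommRingCat.of A))]
    (G : CochainComplex (XA A).Modules ℤ) (hG : DCoh.IsQCohD (Q.obj G)) (hG0 : LE0 (Q.obj G)) :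
    ∃ M : DRing.Cx A, (∀ n : ℤ, 0 < n → IsZero (M.X n)) ∧
      Nonempty (Q.obj ((tildeCx A).obj M) ≅ Q.obj G) := by
  haveI : (tilde.functor (CommRingCat.of A)).IsLeftAdjoint :=
    (tilde.adjunction (R := CommRingCat.of A)).isLeftAdjoint
  haveI : PreservesFiniteColimits (tilde.functor (CommRingCat.of A)) := inferInstance
  obtain ⟨M₀, ⟨e⟩⟩ := ((DSectX.main0997 (CommRingCat.of A)).2.2 (Q.obj G)).1 hG
  have hM₀ : M₀.IsLE 0 := by
    rw [DerivedCategory.isLE_iff]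
    intro i hi
    obtain ⟨ei⟩ := nonempty_homology_mapExact_iso (tilde.functor (CommRingCat.of A)) M₀ i
    apply isZero_of_isZero_tilde A
    refine IsZero.of_iso ?_ ei.symm
    exact IsZero.of_iso (hG0 i hi) ((homologyFunctor (XA A).Modules i).mapIso e)
  obtain ⟨M, hM, ⟨eM⟩⟩ := M₀.exists_iso_Q_obj_of_isLE 0
  haveI := hM
  refine ⟨M, fun n hn => M.isZero_of_isStrictlyLE 0 n hn, ⟨?_⟩⟩
  exact ((tilde.functor (CommRingCat.of A)).mapDerivedCategoryFactors.app M).symm ≪≫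
    (DCoh.tildeD (CommRingCat.of A)).mapIso eM.symm ≪≫ e

theorem exists_qcoh_rep_le (W : Scheme.{u}) [IsAffine W] (K : DCoh.D W) (hK : DCoh.IsQCohD K)
    (hK0 : LE0 K) :
    ∃ C : CochainComplex W.Modules ℤ, (∀ n, Coh.IsQCoh (C.X n)) ∧
      (∀ n : ℤ, 0 < n → IsZero (C.X n)) ∧ Nonempty (Q.obj C ≅ K) := by
  haveI := LpullQCL.preservesFiniteLimits_tilde Γ(W, ⊤)
  let a : W ⟶ Spec Γ(W, ⊤) := W.isoSpec.hom
  let b : Spec Γ(W, ⊤) ⟶ W := W.isoSpec.inv
  let F₀ : CochainComplex W.Modules ℤ := Q.objPreimage K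
  let e₀ : Q.obj F₀ ≅ K := Q.objObjPreimageIso K
  let G : CochainComplex (Spec Γ(W, ⊤)).Modules ℤ := (RC b).obj F₀
  have hG : DCoh.IsQCohD (Q.obj G) :=
    DSectX.isQCohD_of_iso (facIso b F₀)
      (LpullQCL.isQCohD_restrictD b _ (DSectX.isQCohD_of_iso e₀.symm hK))
  have hG0 : LE0 (Q.obj G) :=
    LE0.of_iso (facIso b F₀) (LE0.restrictD b (LE0.of_iso e₀.symm hK0))
  obtain ⟨M, hM, ⟨eM⟩⟩ := exists_tilde_rep_le Γ(W, ⊤) G hG hG0
  let T : CochainComplex (Spec Γ(W, ⊤)).Modules ℤ := (tildeCx Γ(W, ⊤)).obj M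
  let ε : Scheme.Modules.restrictFunctor b ⋙ Scheme.Modules.restrictFunctor a ≅
      𝟭 W.Modules :=
    (Scheme.Modules.restrictFunctorComp a b).symm ≪≫
      Scheme.Modules.restrictFunctorCongr (W.isoSpec.hom_inv_id) ≪≫
      Scheme.Modules.restrictFunctorId (X := W)
  let eC : (RC a).obj G ≅ F₀ :=
    HomologicalComplex.Hom.isoOfComponents (fun n => ε.app (F₀.X n))
      (fun i j _ => (ε.hom.naturality (F₀.d i j)).symm)
  refine ⟨(RC a).obj T, fun n => ?_, fun n hn => ?_, ⟨?_⟩⟩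
  · haveI : (T.X n).IsQuasicoherent :=
      inferInstanceAs (tilde (R := CommRingCat.of Γ(W, ⊤)) (M.X n)).IsQuasicoherent
    exact Scheme.Modules.isQuasicoherent_restrictFunctor a (T.X n)
  · exact (Scheme.Modules.restrictFunctor a).map_isZero
      ((tilde.functor (CommRingCat.of Γ(W, ⊤))).map_isZero (hM n hn))
  · exact (facIso a T).symm ≪≫ (DD a).mapIso eM ≪≫ facIso a G ≪≫ Q.mapIso eC ≪≫ e₀

theorem goodN_of_affine {W S : Scheme.{u}} [IsAffine W] (g : W ⟶ S) [IsAffineHom g] :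
    GoodN g 1 := by
  intro K hK hK0 m hm
  haveI := BCOpenL.hasRpush g
  obtain ⟨C, hC, hC0, ⟨e⟩⟩ := exists_qcoh_rep_le W K hK hK0
  haveI h := DSectX.main7245 g C hC
  let η : Q.obj (((Scheme.Modules.pushforward g).mapHomologicalComplex
      (ComplexShape.up ℤ)).obj C) ≅ (DCoh.Rpush g).obj K :=
    asIso (((DCoh.pushKh g).totalRightDerivedUnit DerivedCategory.Qh
      (HomotopyCategory.quasiIso W.Modules (ComplexShape.up ℤ))).app
      ((HomotopyCategory.quotient W.Modules (ComplexShape.up ℤ)).obj C)) ≪≫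
      (DCoh.Rpush g).mapIso e
  have hz : IsZero ((homologyFunctor S.Modules m).obj (Q.obj
      (((Scheme.Modules.pushforward g).mapHomologicalComplex (ComplexShape.up ℤ)).obj C))) := by
    refine IsZero.of_iso ?_ ((homologyFunctorFactors S.Modules m).app _)
    exact ShortComplex.isZero_homology_of_isZero_X₂ _
      ((Scheme.Modules.pushforward g).map_isZero (hC0 m (by omega)))
  exact IsZero.of_iso hz ((homologyFunctor S.Modules m).mapIso η.symm)

theorem exists_goodN_of_qcqs {X S : Scheme.{u}} [IsAffine S] [CompactSpace X]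
    [QuasiSeparatedSpace X] (f : X ⟶ S) : ∃ N : ℤ, GoodN f N := by
  have key : ∀ U : X.Opens, IsCompact (U : Set X) → ∃ N : ℤ, GoodN (U.ι ≫ f) N := by
    intro U hU
    refine qcqs_induction (fun U => ∃ N : ℤ, GoodN (U.ι ≫ f) N) ?_ ?_ U hU
    · intro U hU
      haveI : IsAffine (U : Scheme.{u}) := hU
      exact ⟨1, goodN_of_affine (U.ι ≫ f)⟩
    · rintro U V ⟨N₁, hU⟩ ⟨N₂, hV⟩ ⟨N₃, hUV⟩
      let Wo : X.Opens := U ⊔ V
      let U' : (Wo : Scheme.{u}).Opens := Wo.ι ⁻¹ᵁ U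
      let V' : (Wo : Scheme.{u}).Opens := Wo.ι ⁻¹ᵁ V
      have hcov : U' ⊔ V' = ⊤ := by
        rw [eq_top_iff]
        rintro x -
        have hx : (Wo.ι x) ∈ U ⊔ V := x.2
        rcases hx with hx | hx
        · exact Or.inl hx
        · exact Or.inr hx
      have rU := range_eq_of Wo U U' le_sup_left (fun y => Iff.rfl)
      have rV := range_eq_of Wo V V' le_sup_right (fun y => Iff.rfl)
      have rUV := range_eq_of Wo (U ⊓ V) (U' ⊓ V') (inf_le_left.trans le_sup_left)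
        (fun y => Iff.rfl)
      refine ⟨_, GoodN.of_cover (Wo.ι ≫ f) U' V' hcov (N₁ := N₁) (N₂ := N₂) (N₃ := N₃)
        ?_ ?_ ?_⟩
      · refine GoodN.of_iso (IsOpenImmersion.isoOfRangeEq (U'.ι ≫ Wo.ι) U.ι rU).hom
          (U.ι ≫ f) _ ?_ hU
        rw [← Category.assoc, IsOpenImmersion.isoOfRangeEq_hom_fac, Category.assoc]
      · refine GoodN.of_iso (IsOpenImmersion.isoOfRangeEq (V'.ι ≫ Wo.ι) V.ι rV).hom
          (V.ι ≫ f) _ ?_ hV
        rw [← Category.assoc, IsOpenImmersion.isoOfRangeEq_hom_fac, Category.assoc]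
      · refine GoodN.of_iso
          (IsOpenImmersion.isoOfRangeEq ((U' ⊓ V').ι ≫ Wo.ι) (U ⊓ V).ι rUV).hom
          ((U ⊓ V).ι ≫ f) _ ?_ hUV
        rw [← Category.assoc, IsOpenImmersion.isoOfRangeEq_hom_fac, Category.assoc]
  obtain ⟨N, htop⟩ := key ⊤ (by simpa using CompactSpace.isCompact_univ (X := X))
  refine ⟨N, GoodN.of_iso X.topIso.inv ((⊤ : X.Opens).ι ≫ f) f ?_ htop⟩
  rw [← Category.assoc, Scheme.toIso_inv_ι, Category.id_comp]

/-- **S0999** -/
theorem main0999 {X S : Scheme.{u}} (f : X ⟶ S) [QuasiCompact f] [QuasiSeparated f]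
    [CompactSpace ↥S] [DCoh.HasRpush f] :
    ∃ N : ℤ, ∀ (E : DCoh.D X), DCoh.IsQCohD E → E.IsLE 0 → ∀ m : ℤ, N ≤ m →
      IsZero (DCoh.HD ((DCoh.Rpush f).obj E) m) := by
  have hloc : ∀ V : S.affineOpens, ∃ N : ℤ, GoodN (f ∣_ V.1) N := by
    intro V
    haveI : IsAffine (V.1 : Scheme.{u}) := V.2
    haveI : CompactSpace ((f ⁻¹ᵁ V.1 : X.Opens) : Scheme.{u}) :=
      QuasiCompact.compactSpace_of_compactSpace (f ∣_ V.1)
    haveI : QuasiSeparatedSpace ((f ⁻¹ᵁ V.1 : X.Opens) : Scheme.{u}) :=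
      quasiSeparatedSpace_of_quasiSeparated (f ∣_ V.1)
    exact exists_goodN_of_qcqs (f ∣_ V.1)
  choose N hN using hloc
  obtain ⟨t, ht⟩ := isCompact_univ.elim_finite_subcover
    (fun V : S.affineOpens => ((V.1 : S.Opens) : Set S)) (fun V => V.1.2)
    (by
      intro x _
      have hx : x ∈ (⨆ i : S.affineOpens, (i : S.Opens)) := by
        rw [iSup_affineOpens_eq_top]; trivial
      obtain ⟨i, hi⟩ := Opens.mem_iSup.mp hx
      exact Set.mem_iUnion.mpr ⟨i, hi⟩)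
  obtain ⟨Nmax, hmax⟩ := (t.image N).exists_le
  refine ⟨Nmax, fun E hE hE0 m hm => ?_⟩
  have hE0' : LE0 E := fun i hi => DerivedCategory.isZero_of_isLE E 0 i hi
  refine isZero_of_isZero_restrict _ (fun V : {V : S.affineOpens // V ∈ t} => V.1.1) ?_ ?_
  · intro x
    have hx := ht (Set.mem_univ x)
    obtain ⟨V, hV⟩ := Set.mem_iUnion.mp hx
    obtain ⟨hVt, hxV⟩ := Set.mem_iUnion.mp hV
    exact ⟨⟨V, hVt⟩, hxV⟩
  · rintro ⟨V, hVt⟩
    haveI := BCOpenL.hasRpush (f ∣_ V.1)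
    obtain ⟨e⟩ := BCOpenL.main6508 f V.1
    obtain ⟨e'⟩ := nonempty_homology_mapExact_iso (Scheme.Modules.restrictFunctor V.1.ι)
      ((DCoh.Rpush f).obj E) m
    have hNm : N V ≤ m := (hmax _ (Finset.mem_image_of_mem N hVt)).trans hm
    have hz := hN V _ (LpullQCL.isQCohD_restrictD (f ⁻¹ᵁ V.1).ι E hE)
      (LE0.restrictD (f ⁻¹ᵁ V.1).ι hE0') m hNm
    exact IsZero.of_iso (IsZero.of_iso hz
      ((homologyFunctor (V.1 : Scheme.{u}).Modules m).mapIso (e.app E))) e'.symm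

end Groth.Agent.Lib.RpushQCL
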