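import Mathlib
import Groth.Prelude
import Groth.Agent.Lib.RDerTri_helper3
import Groth.Agent.Lib.DCohLoc6_lead
import Groth.Agent.Lib.PCohFT2_lead
import Groth.Agent.Lib.PerfFlat4_lead
import Groth.Agent.Lib.RpushQC3_lead
import Groth.Agent.Lib.FinPushPC2_helper3
import Groth.Agent.Lib.MVPush3_lead

/-!
# `Rf_*` preserves pseudo-coherence of unbounded objects, given a bound (helper3)

`main11122`: `f` qcqs, `Y` quasi-compact, `Rf_*` shifts pseudo-coherence of bounded objects by
at most `k`; then `Rf_*` preserves "pseudo-coherent (for all `m`)".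
-/

set_option autoImplicit false
set_option linter.all false
set_option maxHeartbeats 1600000
set_option backward.isDefEq.respectTransparency false
set_option backward.isDefEq.respectTransparency.types false
set_option backward.defeqAttrib.useBackward true

universe u v w

open CategoryTheory CategoryTheory.Limits AlgebraicGeometry Opposite TopologicalSpace
open CategoryTheory.Pretriangulated

attribute [local instance] HasDerivedCategory.standard

namespace Groth.Agent.Lib.RpushPCUnbH3

open Groth.Agent.Lib.DCohLocLead DerivedCategory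

noncomputable section

section General

variable {C : Type u} [Category.{v} C] [Abelian C] [HasDerivedCategory.{w} C]

theorem isIso_homology_mor₁ (T : Triangle (DerivedCategory C))
    (hT : T ∈ distTriang (DerivedCategory C)) (i : ℤ)
    (h0 : IsZero ((homologyFunctor C (i - 1)).obj T.obj₃))
    (h1 : IsZero ((homologyFunctor C i).obj T.obj₃)) :
    IsIso ((homologyFunctor C i).map T.mor₁) := by
  haveI : Mono ((homologyFunctor C i).map T.mor₁) :=
    (HomologySequence.mono_homologyMap_mor₁_iff T hT (i - 1) i (by omega)).2 (h0.eq_of_src _ _)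
  haveI : Epi ((homologyFunctor C i).map T.mor₁) :=
    (HomologySequence.epi_homologyMap_mor₁_iff T hT i).2 (h1.eq_of_tgt _ _)
  exact isIso_of_mono_of_epi _

end General

section Scheme

variable {X : Scheme.{u}}

theorem isQCohD_of_forall_isPC (F : DCoh.D X) (hF : ∀ m : ℤ, DCoh.IsPseudoCoherentD m F) :
    DCoh.IsQCohD F :=
  fun i => (main7240 (i - 1) F (hF (i - 1))).1 i (by omega)

theorem exists_isLE_of_isPC [CompactSpace X] (m : ℤ) (F : DCoh.D X)
    (hF : DCoh.IsPseudoCoherentD m F) : ∃ b : ℤ, F.IsLE b := by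
  rw [isPC_iff] at hF
  choose V hxV E α hE hα using hF
  have hab : ∀ x, ∃ a b : ℤ, DCoh.VanishesOutside (E x) a b := fun x => (hE x).1
  choose a b hab using hab
  obtain ⟨t, ht⟩ := isCompact_univ.elim_finite_subcover
    (fun x : X => ((V x : X.Opens) : Set X)) (fun x => (V x).2)
    (fun x _ => Set.mem_iUnion.mpr ⟨x, hxV x⟩)
  obtain ⟨B, hB⟩ := Finset.exists_le (insert m (t.image b))
  have hmB : m ≤ B := hB m (Finset.mem_insert_self _ _)
  have hbB : ∀ x ∈ t, b x ≤ B := fun x hx =>
    hB (b x) (Finset.mem_insert_of_mem (Finset.mem_image_of_mem b hx))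
  refine ⟨B, (DerivedCategory.isLE_iff F B).2 (fun i hi => ?_)⟩
  refine isZero_of_isZero_restrict ((homologyFunctor X.Modules i).obj F)
    (fun x : t => V x.1) (fun x => ?_) (fun x => ?_)
  · have hx : x ∈ ⋃ y ∈ t, ((V y : X.Opens) : Set X) := ht (Set.mem_univ x)
    simp only [Set.mem_iUnion] at hx
    obtain ⟨y, hy, hxy⟩ := hx
    exact ⟨⟨y, hy⟩, hxy⟩
  · obtain ⟨e1⟩ := nonempty_HD_restrict_iso (V x.1).ι F i
    haveI := (hα x.1).1 i (by omega)
    have hz : IsZero ((E x.1).homology i) := by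
      apply ShortComplex.isZero_homology_of_isZero_X₂
      exact hab x.1 i (Or.inr (lt_of_le_of_lt (hbB x.1 x.2) hi))
    have hz2 : IsZero ((homologyFunctor _ i).obj (Q.obj (E x.1))) :=
      hz.of_iso ((homologyFunctorFactors _ i).app (E x.1))
    exact (hz2.of_iso (asIso ((homologyFunctor _ i).map (α x.1))).symm).of_iso e1.symm

theorem isQCohD_shift (E : DCoh.D X) (hE : DCoh.IsQCohD E) (c : ℤ) : DCoh.IsQCohD (E⟦c⟧) :=
  fun i => (SheafOfModules.isQuasicoherent X.ringCatSheaf).prop_of_iso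
    (((homologyFunctor X.Modules 0).shiftIso c i (c + i) rfl).app E).symm (hE (c + i))

variable {Y : Scheme.{u}} (f : X ⟶ Y) [DCoh.HasRpush f]

theorem isZero_HD_Rpush_of_isLE (N : ℤ)
    (hN : ∀ (E : DCoh.D X), DCoh.IsQCohD E → E.IsLE 0 → ∀ m : ℤ, N ≤ m →
      IsZero (DCoh.HD ((DCoh.Rpush f).obj E) m))
    (E : DCoh.D X) (hE : DCoh.IsQCohD E) (c : ℤ) [E.IsLE c] (i : ℤ) (hi : N + c ≤ i) :
    IsZero (DCoh.HD ((DCoh.Rpush f).obj E) i) := by
  haveI := Groth.Agent.Lib.MVPushL.grothendieck_modules X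
  haveI : (E⟦c⟧).IsLE 0 := TStructure.t.isLE_shift E c c 0 (by omega)
  have h1 := hN (E⟦c⟧) (isQCohD_shift E hE c) inferInstance (i - c) (by omega)
  obtain ⟨e⟩ := Groth.Agent.Lib.RDerTriH3.nonempty_shift_iso (Scheme.Modules.pushforward f) E c
  have h2 : IsZero ((homologyFunctor Y.Modules (i - c)).obj (((DCoh.Rpush f).obj E)⟦c⟧)) :=
    h1.of_iso ((homologyFunctor Y.Modules (i - c)).mapIso e.symm)
  exact h2.of_iso (((homologyFunctor Y.Modules 0).shiftIso c (i - c) i (by omega)).app
    ((DCoh.Rpush f).obj E)).symm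

theorem main11122 [QuasiCompact f] [QuasiSeparated f] [CompactSpace Y] (k : ℤ)
    (hK : ∀ (F : DCoh.D X) (n a b : ℤ), F.IsGE a → F.IsLE b → DCoh.IsPseudoCoherentD n F →
      DCoh.IsPseudoCoherentD (n + k) ((DCoh.Rpush f).obj F))
    (F : DCoh.D X) (hF : ∀ m : ℤ, DCoh.IsPseudoCoherentD m F) (m : ℤ) :
    DCoh.IsPseudoCoherentD m ((DCoh.Rpush f).obj F) := by
  haveI := Groth.Agent.Lib.MVPushL.grothendieck_modules X
  haveI : CompactSpace X := QuasiCompact.compactSpace_of_compactSpace f
  obtain ⟨b, hb⟩ := exists_isLE_of_isPC 0 F (hF 0)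
  haveI := hb
  obtain ⟨N, hN⟩ := Groth.Agent.Lib.RpushQCL.main0999 f
  have hFq : DCoh.IsQCohD F := isQCohD_of_forall_isPC F hF
  obtain ⟨a, ha⟩ : ∃ a : ℤ, a = m + 1 - max N k := ⟨_, rfl⟩
  have haN : N + (a - 1) ≤ m := by
    have := le_max_left N k
    omega
  have hak : a - 1 < m - k + 1 := by
    have := le_max_right N k
    omega
  let T := (TStructure.t.triangleLTGE a).obj F
  have hT : T ∈ distTriang _ := TStructure.t.triangleLTGE_distinguished a F
  haveI i1 : T.obj₁.IsLE (a - 1) := by dsimp [T]; infer_instance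
  haveI i3 : T.obj₃.IsGE a := by dsimp [T]; infer_instance
  haveI i3' : T.obj₃.IsLE b := by dsimp [T]; infer_instance
  -- `τ_{<a} F ∈ D_QCoh`
  have hG'q : DCoh.IsQCohD T.obj₁ := by
    intro i
    by_cases hi : i < a
    · haveI := isIso_homology_mor₁ T hT i
        (DerivedCategory.isZero_of_isGE T.obj₃ a (i - 1) (by omega))
        (DerivedCategory.isZero_of_isGE T.obj₃ a i hi)
      exact (SheafOfModules.isQuasicoherent X.ringCatSheaf).prop_of_iso
        (asIso ((homologyFunctor X.Modules i).map T.mor₁)).symm (hFq i)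
    · exact Groth.Agent.Lib.FinPushPCH3.isQuasicoherent_of_isZero
        (DerivedCategory.isZero_of_isLE T.obj₁ (a - 1) i (by omega))
  have h1 : DCoh.IsPseudoCoherentD m ((DCoh.Rpush f).obj T.obj₁) :=
    isPC_of_Lt m _ (fun i hi =>
      isZero_HD_Rpush_of_isLE f N hN T.obj₁ hG'q (a - 1) i (by omega))
  have h3 : DCoh.IsPseudoCoherentD (m - k) T.obj₃ :=
    (main889 (m - k) T hT).1
      (isPC_of_Lt (m - k + 1) T.obj₁ (fun i hi =>
        DerivedCategory.isZero_of_isLE T.obj₁ (a - 1) i (by omega)))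
      (hF (m - k))
  have h3' : DCoh.IsPseudoCoherentD m ((DCoh.Rpush f).obj T.obj₃) := by
    have := hK T.obj₃ (m - k) a b i3 i3' h3
    rwa [show m - k + k = m by ring] at this
  obtain ⟨T', hT', e₁, e₂, e₃, -, -⟩ :=
    Groth.Agent.Lib.RDerTriH3.exists_distTriang (Scheme.Modules.pushforward f) T hT
  have h2 := (main889 m T' hT').2.1 (isPC_of_iso e₁.symm h1) (isPC_of_iso e₃.symm h3')
  exact isPC_of_iso e₂ h2

end Scheme

end

end Groth.Agent.Lib.RpushPCUnbH3
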