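import Mathlib
import Groth.Prelude
import Groth.Agent.Lib.PCohStalk1_lead
import Groth.Agent.Lib.PCohFT3_lead
import Groth.Agent.Lib.PerfFlat2_lead
import Groth.Agent.Lib.FpqcPC_helper3
import Groth.Agent.Lib.LpullPC_helper3
import Groth.Agent.Lib.LpullAdj_helper3
import Groth.Agent.Lib.FinPushPC2_helper3
import Groth.Agent.Lib.ProjFormula3_helper3
import Groth.Agent.Lib.BCOpen2_lead
import Groth.Agent.Lib.RpushPCUnb_helper3

/-!
# Relative pseudo-coherence, part a: general lemmas on pseudo-coherence in `D(O_X)` (helper3)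

* `isPC_of_isZero`, `isPC_of_retract`, `isPC_of_isApprox`.
* `isPC_of_Rpush_section`: for `s ≫ r = 𝟙`, `Rs_* K` `m`-pseudo-coherent implies `K` `m`-pseudo-coherent.
-/

set_option autoImplicit false
set_option linter.all false
set_option maxHeartbeats 1600000
set_option backward.isDefEq.respectTransparency false
set_option backward.isDefEq.respectTransparency.types false
set_option backward.defeqAttrib.useBackward true

universe u
open CategoryTheory CategoryTheory.Limits AlgebraicGeometry Opposite TopologicalSpace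
open CategoryTheory.Pretriangulated

attribute [local instance] HasDerivedCategory.standard

namespace Groth.Agent.Lib.RelPCaH3

open Groth.Agent.Lib.DCohLocLead DerivedCategory Groth.Agent.Lib.FpqcPCH3
  Groth.Agent.Lib.FinPushPCH3

noncomputable section

section General

variable {X : Scheme.{u}}

theorem Lt_of_isZero {K : DCoh.D X} (hK : IsZero K) (m : ℤ) : Lt m K :=
  fun i _ => (homologyFunctor _ i).map_isZero hK

theorem isPC_of_isZero {K : DCoh.D X} (hK : IsZero K) (m : ℤ) : DCoh.IsPseudoCoherentD m K :=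
  isPC_of_Lt m K (Lt_of_isZero hK m)

/-- a retract of an `m`-pseudo-coherent object is `m`-pseudo-coherent -/
theorem isPC_of_retract {K N : DCoh.D X} (s : K ⟶ N) (p : N ⟶ K) (h : s ≫ p = 𝟙 K) (m : ℤ)
    (hN : DCoh.IsPseudoCoherentD m N) : DCoh.IsPseudoCoherentD m K := by
  obtain ⟨C, g, δ, hT⟩ := distinguished_cocone_triangle s
  have h0 : δ = 0 := by
    have h1 : δ ≫ s⟦(1 : ℤ)⟧' = 0 := comp_distTriang_mor_zero₃₁ _ hT
    have h2 : s⟦(1 : ℤ)⟧' ≫ p⟦(1 : ℤ)⟧' = 𝟙 _ := by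
      rw [← CategoryTheory.Functor.map_comp, h, CategoryTheory.Functor.map_id]
    calc δ = δ ≫ s⟦(1 : ℤ)⟧' ≫ p⟦(1 : ℤ)⟧' := by rw [h2, Category.comp_id]
      _ = 0 := by rw [← Category.assoc, h1, zero_comp]
  obtain ⟨e, -, -⟩ := exists_iso_binaryBiproduct_of_distTriang _ hT h0
  exact (main888 m K C (isPC_of_iso e hN)).1

/-- if `β : N ⟶ M` is an `m`-approximation and `N` is `m`-pseudo-coherent, so is `M` -/
theorem isPC_of_isApprox {N M : DCoh.D X} (β : N ⟶ M) (m : ℤ) (hβ : IsApprox m β)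
    (hN : DCoh.IsPseudoCoherentD m N) : DCoh.IsPseudoCoherentD m M := by
  obtain ⟨C, g, δ, hT⟩ := distinguished_cocone_triangle β
  have hC : Lt m C := Lt_of_isApprox m _ hT hβ
  exact (main889 m _ hT).2.1 hN (isPC_of_Lt m C hC)

/-- `K|_X ≅ K` -/
theorem nonempty_DD_id_iso (K : DCoh.D X) : Nonempty ((DD (𝟙 X)).obj K ≅ K) := by
  let F₀ : CochainComplex X.Modules ℤ := Q.objPreimage K
  let e₀ : Q.obj F₀ ≅ K := Q.objObjPreimageIso K
  let ε : Scheme.Modules.restrictFunctor (𝟙 X) ≅ 𝟭 X.Modules :=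
    Scheme.Modules.restrictFunctorId (X := X)
  let eC : (RC (𝟙 X)).obj F₀ ≅ F₀ :=
    HomologicalComplex.Hom.isoOfComponents (fun n => ε.app (F₀.X n))
      (fun i j _ => (ε.hom.naturality (F₀.d i j)).symm)
  exact ⟨(DD (𝟙 X)).mapIso e₀.symm ≪≫ facIso (𝟙 X) F₀ ≪≫ Q.mapIso eC ≪≫ e₀⟩

end General

section Section

variable {Z Y : Scheme.{u}} (s : Z ⟶ Y) (r : Y ⟶ Z)

/-- `L s^* L r^* K ≅ K` when `s ≫ r = 𝟙` -/
theorem nonempty_Lpull_Lpull_iso (h : s ≫ r = 𝟙 Z) [DCoh.HasLpull s] [DCoh.HasLpull r]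
    (K : DCoh.D Z) :
    Nonempty ((DCoh.Lpull s).obj ((DCoh.Lpull r).obj K) ≅ K) := by
  haveI := Groth.Agent.Lib.LpullExH3.hasLpull (s ≫ r)
  haveI := Groth.Agent.Lib.LpullExH3.hasLpull (𝟙 Z)
  obtain ⟨c⟩ := Groth.Agent.Lib.LpullCompH3.nonempty_comp_iso s r
  obtain ⟨d⟩ := Groth.Agent.Lib.LpullLocH3.nonempty_Lpull_congr h
  obtain ⟨e⟩ := nonempty_DD_id_iso K
  exact ⟨c.app K ≪≫ d.app K ≪≫ ((Groth.Agent.Lib.LpullLocH3.restrictDIsoLpull (𝟙 Z)).app K).symm ≪≫ e⟩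

/-- **the section lemma**: if `s ≫ r = 𝟙` and `Rs_* K` is `m`-pseudo-coherent, then so is `K` -/
theorem isPC_of_Rpush_section (h : s ≫ r = 𝟙 Z) [DCoh.HasRpush s] (K : DCoh.D Z) (m : ℤ)
    (hK : DCoh.IsPseudoCoherentD m ((DCoh.Rpush s).obj K)) : DCoh.IsPseudoCoherentD m K := by
  haveI := Groth.Agent.Lib.LpullExH3.hasLpull s
  haveI := Groth.Agent.Lib.LpullExH3.hasLpull r
  obtain ⟨adj⟩ := Groth.Agent.Lib.LpullAdjH3.nonempty_adj s
  obtain ⟨θ⟩ := nonempty_Lpull_Lpull_iso s r h K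
  let u : (DCoh.Lpull r).obj K ⟶ (DCoh.Rpush s).obj K := adj.homEquiv _ _ θ.hom
  have hu : (DCoh.Lpull s).map u ≫ adj.counit.app K = θ.hom := by
    have := (adj.homEquiv _ _).symm_apply_apply θ.hom
    rwa [Adjunction.homEquiv_counit] at this
  refine isPC_of_retract (θ.inv ≫ (DCoh.Lpull s).map u) (adj.counit.app K) ?_ m
    (Groth.Agent.Lib.LpullPCH3.isPC_Lpull s m _ hK)
  rw [Category.assoc, hu, Iso.inv_hom_id]

end Section

end

end Groth.Agent.Lib.RelPCaH3
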