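import Mathlib
import Groth.Prelude
import Groth.Agent.Lib.RelPCa_helper3
import Groth.Agent.Lib.MVPush6_lead

/-!
# Relative pseudo-coherence, part a2: base change squares for open immersions, pushforward along
closed immersions (helper3)

* `nonempty_bc_square`: `(Rf_* K)|_{Y'} ≅ Rf'_* (K|_{X'})` for a cartesian square of open immersions.
* `isPC_Rpush_of_closedImmersion`: for a closed immersion `j` with `j_* O` pseudo-coherent,
  `Rj_*` preserves `m`-pseudo-coherence (no quasi-coherence assumption).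
* `isPC_Rpush_of_open_comp`, `isPC_Rpush_open_comp`: for `t = s ≫ j` with `j` an open immersion and `t` with
  closed range, `Rt_* K` is `m`-pseudo-coherent iff `Rs_* K` is.
-/

set_option autoImplicit false
set_option linter.all false
set_option maxHeartbeats 1600000
set_option backward.isDefEq.respectTransparency false
set_option backward.isDefEq.respectTransparency.types false
set_option backward.defeqAttrib.useBackward true

universe u
open CategoryTheory CategoryTheory.Limits AlgebraicGeometry Opposite TopologicalSpace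
open CategoryTheory.Pretriangulated

attribute [local instance] HasDerivedCategory.standard

namespace Groth.Agent.Lib.RelPCaH3

open Groth.Agent.Lib.DCohLocLead DerivedCategory Groth.Agent.Lib.FpqcPCH3
  Groth.Agent.Lib.FinPushPCH3 Groth.Agent.Lib.BCOpenL

noncomputable section

section Pointwise

variable {X : Scheme.{u}}

/-- pseudo-coherence is local (pointwise form) -/
theorem isPC_of_pointwise (m : ℤ) (K : DCoh.D X)
    (h : ∀ x : X, ∃ (Y : Scheme.{u}) (j : Y ⟶ X) (_ : IsOpenImmersion j),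
      (∃ y : Y, j y = x) ∧ DCoh.IsPseudoCoherentD m ((DD j).obj K)) :
    DCoh.IsPseudoCoherentD m K := by
  refine isPC_of_locApprox m K (fun x => ?_)
  obtain ⟨Y, j, hj, ⟨y, rfl⟩, hK⟩ := h x
  haveI := hj
  obtain ⟨W, hyW, E, α, hE, hα⟩ := (isPC_iff m _).mp hK y
  obtain ⟨c⟩ := nonempty_DD_comp_iso W.ι j K
  exact ⟨(W : Scheme.{u}), W.ι ≫ j, inferInstance, ⟨⟨y, hyW⟩, rfl⟩, E, α ≫ c.inv, hE,
    hα.comp (IsApprox.of_isIso _)⟩

end Pointwise

section IsoSquare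

variable {X' X₁ Y' Y₁ : Scheme.{u}} (eX : X' ≅ X₁) (eY : Y' ≅ Y₁) (g : X₁ ⟶ Y₁) (f' : X' ⟶ Y')

theorem nonempty_bc_iso_square (w : f' ≫ eY.hom = eX.hom ≫ g) [DCoh.HasRpush g]
    [DCoh.HasRpush f'] (G : DCoh.D X₁) :
    Nonempty ((DD eY.hom).obj ((DCoh.Rpush g).obj G) ≅
      (DCoh.Rpush f').obj ((DD eX.hom).obj G)) := by
  haveI := hasRpush eX.hom
  haveI := hasRpush eY.inv
  haveI := hasRpush (g ≫ eY.inv)
  haveI := hasRpush (eX.hom ≫ g ≫ eY.inv)
  have hfac : f' = eX.hom ≫ g ≫ eY.inv := by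
    rw [← Category.assoc, ← w, Category.assoc, Iso.hom_inv_id, Category.comp_id]
  obtain ⟨b4⟩ := nonempty_Rpush_congr hfac
  obtain ⟨b5⟩ := Groth.Agent.Lib.LpullAdjH3.nonempty_Rpush_comp_iso eX.hom (g ≫ eY.inv)
  obtain ⟨b6⟩ := Groth.Agent.Lib.LpullAdjH3.nonempty_Rpush_comp_iso g eY.inv
  obtain ⟨b7⟩ := Groth.Agent.Lib.RpushQCL.nonempty_Rpush_iso_restrictD eX.hom
  obtain ⟨b8⟩ := Groth.Agent.Lib.RpushQCL.nonempty_Rpush_iso_restrictD eY.inv
  have hinvX : inv eX.hom = eX.inv := IsIso.Iso.inv_hom eX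
  have hinvY : inv eY.inv = eY.hom := IsIso.Iso.inv_inv eY
  obtain ⟨b9⟩ := nonempty_DD_hom_inv eX.symm G
  obtain ⟨b10⟩ := nonempty_DD_congr hinvX ((DD eX.hom).obj G)
  obtain ⟨b11⟩ := nonempty_DD_congr hinvY ((DCoh.Rpush g).obj G)
  have b9' : (DD eX.inv).obj ((DD eX.hom).obj G) ≅ G := b9
  exact ⟨b11.symm ≪≫ (b8.app _).symm ≪≫ b6.app G ≪≫
    (DCoh.Rpush (g ≫ eY.inv)).mapIso (b9'.symm ≪≫ b10.symm ≪≫ (b7.app _).symm) ≪≫
    b5.app _ ≪≫ (b4.app _).symm⟩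

end IsoSquare

section Square

variable {X Y X' Y' : Scheme.{u}} (f : X ⟶ Y) (b : Y' ⟶ Y) (a : X' ⟶ X) (f' : X' ⟶ Y')

/-- base change of `Rf_*` along a cartesian square whose horizontal maps are open immersions -/
theorem nonempty_bc_square [IsOpenImmersion a] [IsOpenImmersion b] (w : f' ≫ b = a ≫ f)
    (hr : Set.range a = f ⁻¹' (Set.range b)) [DCoh.HasRpush f] [DCoh.HasRpush f']
    (K : DCoh.D X) :
    Nonempty ((DD b).obj ((DCoh.Rpush f).obj K) ≅ (DCoh.Rpush f').obj ((DD a).obj K)) := by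
  let V : Y.Opens := b.opensRange
  haveI := hasRpush (f ∣_ V)
  let eY : Y' ≅ (V : Scheme.{u}) := b.isoOpensRange
  have hrange : Set.range a = Set.range (f ⁻¹ᵁ V).ι := by
    rw [hr, Scheme.Opens.range_ι]
    rfl
  let eX : X' ≅ ((f ⁻¹ᵁ V : X.Opens) : Scheme.{u}) :=
    IsOpenImmersion.isoOfRangeEq a (f ⁻¹ᵁ V).ι hrange
  have hb : eY.hom ≫ V.ι = b := b.isoOpensRange_hom_ι
  have ha : eX.hom ≫ (f ⁻¹ᵁ V).ι = a := IsOpenImmersion.isoOfRangeEq_hom_fac _ _ _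
  have w' : f' ≫ eY.hom = eX.hom ≫ (f ∣_ V) := by
    rw [← cancel_mono V.ι]
    simp only [Category.assoc]
    rw [hb, morphismRestrict_ι, ← Category.assoc, ha, w]
  obtain ⟨b1⟩ := main6508 f V
  obtain ⟨b2⟩ := nonempty_DD_comp_iso eY.hom V.ι ((DCoh.Rpush f).obj K)
  obtain ⟨b3⟩ := nonempty_DD_comp_iso eX.hom (f ⁻¹ᵁ V).ι K
  obtain ⟨b4⟩ := nonempty_DD_congr hb.symm ((DCoh.Rpush f).obj K)
  obtain ⟨b5⟩ := nonempty_DD_congr ha.symm K
  obtain ⟨b6⟩ := nonempty_bc_iso_square eX eY (f ∣_ V) f' w' ((DD (f ⁻¹ᵁ V).ι).obj K)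
  exact ⟨b4 ≪≫ b2 ≪≫ (DD eY.hom).mapIso (b1.app K) ≪≫ b6 ≪≫
    (DCoh.Rpush f').mapIso (b3.symm ≪≫ b5.symm)⟩

end Square

section Compl

variable {Z' Z : Scheme.{u}} (t : Z' ⟶ Z)

/-- `Rt_* K` vanishes on opens not meeting the image of `t` -/
theorem isZero_restrict_Rpush_of_disjoint [DCoh.HasRpush t] (W : Z.Opens)
    (hW : ∀ x : Z', t x ∉ W) (K : DCoh.D Z') :
    IsZero ((DD W.ι).obj ((DCoh.Rpush t).obj K)) := by
  haveI := hasRpush (t ∣_ W)
  obtain ⟨b1⟩ := main6508 t W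
  have h0 : IsZero ((DCoh.restrictD (t ⁻¹ᵁ W).ι).obj K) := by
    apply Groth.Agent.Lib.MVPushL.isZero_restrictD_of_support (t ⁻¹ᵁ W) K
    intro n x hx
    exact absurd hx (hW x)
  exact IsZero.of_iso (isZero_Rpush_of_isZero (t ∣_ W) _ h0) (b1.app K)

end Compl

section OpenComp

variable {Z Y Y' : Scheme.{u}} (t : Z ⟶ Y) (j : Y' ⟶ Y) (s : Z ⟶ Y') [IsOpenImmersion j]

theorem nonempty_restrict_Rpush_open_comp (h : s ≫ j = t) [DCoh.HasRpush t] [DCoh.HasRpush s]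
    (K : DCoh.D Z) :
    Nonempty ((DD j).obj ((DCoh.Rpush t).obj K) ≅ (DCoh.Rpush s).obj K) := by
  have hr : Set.range (𝟙 Z : Z ⟶ Z) = t ⁻¹' (Set.range j) := by
    ext x
    simp only [Set.mem_range, Set.mem_preimage]
    constructor
    · intro _
      exact ⟨s x, by rw [← h]; rfl⟩
    · intro _
      exact ⟨x, rfl⟩
  obtain ⟨b1⟩ := nonempty_bc_square t j (𝟙 Z) s (by rw [h, Category.id_comp]) hr K
  obtain ⟨b2⟩ := nonempty_DD_id_iso K
  exact ⟨b1 ≪≫ (DCoh.Rpush s).mapIso b2⟩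

/-- `Rt_* K` pseudo-coherent implies `Rs_* K` pseudo-coherent, for `t = s ≫ j`, `j` open immersion -/
theorem isPC_Rpush_of_open_comp (h : s ≫ j = t) [DCoh.HasRpush t] [DCoh.HasRpush s]
    (K : DCoh.D Z) (m : ℤ) (hK : DCoh.IsPseudoCoherentD m ((DCoh.Rpush t).obj K)) :
    DCoh.IsPseudoCoherentD m ((DCoh.Rpush s).obj K) := by
  obtain ⟨b⟩ := nonempty_restrict_Rpush_open_comp t j s h K
  exact isPC_of_iso b (isPC_restrict hK j)

/-- `Rs_* K` pseudo-coherent implies `Rt_* K` pseudo-coherent, for `t = s ≫ j`, `j` open immersion,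
`t` with closed range -/
theorem isPC_Rpush_open_comp (h : s ≫ j = t) (hcl : IsClosed (Set.range t)) [DCoh.HasRpush t]
    [DCoh.HasRpush s] (K : DCoh.D Z) (m : ℤ)
    (hK : DCoh.IsPseudoCoherentD m ((DCoh.Rpush s).obj K)) :
    DCoh.IsPseudoCoherentD m ((DCoh.Rpush t).obj K) := by
  let W₀ : Y.Opens := ⟨(Set.range t)ᶜ, hcl.isOpen_compl⟩
  obtain ⟨b⟩ := nonempty_restrict_Rpush_open_comp t j s h K
  refine isPC_of_pointwise m _ (fun y => ?_)
  by_cases hy : y ∈ Set.range t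
  · obtain ⟨z, rfl⟩ := hy
    refine ⟨Y', j, inferInstance, ⟨s z, by rw [← h]; rfl⟩, isPC_of_iso b.symm hK⟩
  · refine ⟨(W₀ : Scheme.{u}), W₀.ι, inferInstance, ⟨⟨y, hy⟩, rfl⟩, ?_⟩
    exact isPC_of_isZero (isZero_restrict_Rpush_of_disjoint t W₀
      (fun x hx => hx ⟨x, rfl⟩) K) m

end OpenComp

end

end Groth.Agent.Lib.RelPCaH3
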