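import Mathlib
import Groth.Prelude
import Groth.Agent.Lib.RelPCa2_helper3

/-!
# Relative pseudo-coherence, part a3: derived pushforward along a closed immersion preserves
pseudo-coherence (helper3)

* `PushOPC j`: `j_* O` is pseudo-coherent.
* `isPC_Rpush_of_closedImmersion`: for a closed immersion `j` with `j_* O` pseudo-coherent,
  `Rj_*` preserves `m`-pseudo-coherence (no quasi-coherence assumption).
-/

set_option autoImplicit false
set_option linter.all false
set_option maxHeartbeats 1600000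
set_option backward.isDefEq.respectTransparency false
set_option backward.isDefEq.respectTransparency.types false
set_option backward.defeqAttrib.useBackward true

universe u
open CategoryTheory CategoryTheory.Limits AlgebraicGeometry Opposite TopologicalSpace
open CategoryTheory.Pretriangulated

attribute [local instance] HasDerivedCategory.standard

namespace Groth.Agent.Lib.RelPCaH3

open Groth.Agent.Lib.DCohLocLead DerivedCategory Groth.Agent.Lib.FpqcPCH3
  Groth.Agent.Lib.FinPushPCH3 Groth.Agent.Lib.BCOpenL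

noncomputable section

variable {Z' Z : Scheme.{u}} (j : Z' ⟶ Z)

/-- `j_* O_{Z'}` is pseudo-coherent -/
def PushOPC : Prop :=
  ∀ m : ℤ, DCoh.IsPseudoCoherentD m
    (DCoh.inD Z ((Scheme.Modules.pushforward j).obj (Coh.structureModule Z')))

theorem pushOPC_restrict (hO : PushOPC j) (W : Z.Opens) : PushOPC (j ∣_ W) := by
  intro m
  have h1 := isPC_restrict (hO m) W.ι
  let e1 : (DD W.ι).obj (DCoh.inD Z ((Scheme.Modules.pushforward j).obj
      (Coh.structureModule Z'))) ≅
      DCoh.inD (W : Scheme.{u}) ((Scheme.Modules.restrictFunctor W.ι).obj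
        ((Scheme.Modules.pushforward j).obj (Coh.structureModule Z'))) :=
    ((Scheme.Modules.restrictFunctor W.ι).mapDerivedCategorySingleFunctor 0).app _
  let e2 : (Scheme.Modules.restrictFunctor W.ι).obj
      ((Scheme.Modules.pushforward j).obj (Coh.structureModule Z')) ≅
      (Scheme.Modules.pushforward (j ∣_ W)).obj
        ((Scheme.Modules.restrictFunctor (j ⁻¹ᵁ W).ι).obj (Coh.structureModule Z')) :=
    (baseChangeIso j W).app _
  let e3 : (Scheme.Modules.restrictFunctor (j ⁻¹ᵁ W).ι).obj (Coh.structureModule Z') ≅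
      Coh.structureModule ((j ⁻¹ᵁ W : Z'.Opens) : Scheme.{u}) :=
    Scheme.Modules.restrictUnitIso (j ⁻¹ᵁ W).ι
  exact isPC_of_iso (e1 ≪≫ (DerivedCategory.singleFunctor _ 0).mapIso
    (e2 ≪≫ (Scheme.Modules.pushforward (j ∣_ W)).mapIso e3)) h1

variable [IsClosedImmersion j]

theorem isApprox_Rpush_map [DCoh.HasRpush j] {A B : DCoh.D Z'} (α : A ⟶ B) (m : ℤ)
    (hα : IsApprox m α) : IsApprox m ((DCoh.Rpush j).map α) := by
  let φ := Groth.Agent.Lib.ProjFormulaH3.RpushIsoMapD j
  have h1 : (DCoh.Rpush j).map α = φ.hom.app A ≫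
      (Scheme.Modules.pushforward j).mapDerivedCategory.map α ≫ φ.inv.app B := by
    rw [← Category.assoc, ← φ.hom.naturality α, Category.assoc, Iso.hom_inv_id_app,
      Category.comp_id]
  rw [h1]
  exact (IsApprox.of_isIso _).comp ((hα.mapExact _).comp (IsApprox.of_isIso _))

/-- **derived pushforward along a closed immersion with pseudo-coherent `j_* O` preserves
pseudo-coherence** -/
theorem isPC_Rpush_of_closedImmersion [DCoh.HasRpush j] (hO : PushOPC j) (K : DCoh.D Z') (m : ℤ)
    (hK : DCoh.IsPseudoCoherentD m K) : DCoh.IsPseudoCoherentD m ((DCoh.Rpush j).obj K) := by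
  refine isPC_of_pointwise m _ (fun z => ?_)
  by_cases hz : z ∈ Set.range j
  · obtain ⟨z', rfl⟩ := hz
    obtain ⟨V', hz'V', E, α, hE, hα⟩ := (isPC_iff m K).1 hK z'
    obtain ⟨t, ht, htV⟩ := j.isClosedEmbedding.isInducing.isOpen_iff.mp V'.isOpen
    let W : Z.Opens := ⟨t, ht⟩
    have hW : j ⁻¹ᵁ W = V' := Opens.ext htV
    subst hW
    haveI := hasRpush (j ∣_ W)
    obtain ⟨b1⟩ := main6508 j W
    have hP : ∀ m' : ℤ, DCoh.IsPseudoCoherentD m' (Q.obj E) := fun m' =>
      isPC_of_isPerfect (isPerfect_Q_obj E hE) m'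
    have hq : DCoh.IsQCohD (Q.obj E) :=
      Groth.Agent.Lib.RpushPCUnbH3.isQCohD_of_forall_isPC (Q.obj E) hP
    have h2 : DCoh.IsPseudoCoherentD m ((DCoh.Rpush (j ∣_ W)).obj (Q.obj E)) :=
      (main1112 (j ∣_ W) (pushOPC_restrict j hO W) (Q.obj E) hq m).mp (hP m)
    have h3 := isPC_of_isApprox _ m (isApprox_Rpush_map (j ∣_ W) α m hα) h2
    refine ⟨(W : Scheme.{u}), W.ι, inferInstance, ⟨⟨j z', hz'V'⟩, rfl⟩, ?_⟩
    exact isPC_of_iso (b1.app K).symm h3
  · let W₀ : Z.Opens := ⟨(Set.range j)ᶜ, j.isClosedEmbedding.isClosed_range.isOpen_compl⟩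
    refine ⟨(W₀ : Scheme.{u}), W₀.ι, inferInstance, ⟨⟨z, hz⟩, rfl⟩, ?_⟩
    exact isPC_of_isZero (isZero_restrict_Rpush_of_disjoint j W₀
      (fun x hx => hx ⟨x, rfl⟩) K) m

end

end Groth.Agent.Lib.RelPCaH3
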