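import Mathlib
import Groth.Prelude
import Groth.Agent.Lib.RelPCa3_helper3
import Groth.Agent.Lib.RelPCQc_helper3
import Groth.Agent.Lib.DMod36_helper6

/-!
# Relative pseudo-coherence, part b: generalised charts (helper3)

* `cImm U β : U ⟶ Spec B` for a ring map `β : B → Γ(X, U)`; `GPC m E U β`: `R(cImm U β)_* (E|_U)` is
  `m`-pseudo-coherent.
* `chartPC_iff_gpc`: for `U` affine and `φ` surjective, `ChartPC m E U V φ ↔ GPC m E U φ`.
* `gpc_comp_of_resPC`, `gpc_of_comp_of_section`: transfer along `Spec π`.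
* `pushOPC_Spec_of_resPC`.
-/

set_option autoImplicit false
set_option linter.all false
set_option maxHeartbeats 1600000
set_option backward.isDefEq.respectTransparency false
set_option backward.isDefEq.respectTransparency.types false
set_option backward.defeqAttrib.useBackward true

universe u
open CategoryTheory CategoryTheory.Limits AlgebraicGeometry Opposite TopologicalSpace
open CategoryTheory.Pretriangulated

attribute [local instance] HasDerivedCategory.standard

namespace Groth.Agent.Lib.RelPCbH3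

open Groth.Agent.Lib.DCohLocLead DerivedCategory Groth.Agent.Lib.FpqcPCH3
  Groth.Agent.Lib.FinPushPCH3 Groth.Agent.Lib.BCOpenL Groth.Agent.Lib.RelPCaH3
  Groth.Agent.Lib.DMod_helper6 Groth.Agent.Lib.TildePCH3 Groth.Agent.Lib.TildeAmpL DRing

noncomputable section

local instance hasRpushInst {X Y : Scheme.{u}} (f : X ⟶ Y) : DCoh.HasRpush f := hasRpush f

/-- the derived direct image, with its existence built in -/
abbrev RP {X Y : Scheme.{u}} (f : X ⟶ Y) : DCoh.D X ⥤ DCoh.D Y :=
  DCoh.Rpush f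

section Spec

variable {B' B : Type u} [CommRing B'] [CommRing B] (π : B' →+* B)

theorem pushOPC_Spec_of_resPC (h : resPC π (Dual.inD B B)) :
    PushOPC (Spec.map (CommRingCat.ofHom π)) := by
  intro m
  haveI instA : PreservesFiniteLimits (tilde.functor (CommRingCat.of B')) :=
    Groth.Agent.Lib.LpullQCL.preservesFiniteLimits_tilde B'
  haveI instB : PreservesFiniteLimits (tilde.functor (CommRingCat.of B)) :=
    Groth.Agent.Lib.LpullQCL.preservesFiniteLimits_tilde B
  haveI := hasRpush (Spec.map (CommRingCat.ofHom π))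
  obtain ⟨c⟩ := Groth.Agent.Lib.DSectX.nonempty_iso_7268 (R := CommRingCat.of B')
    (S := CommRingCat.of B) (CommRingCat.ofHom π)
  have h1 : DRing.IsPseudoCoherent B' m ((DRing.restrictD π).obj (Dual.inD B B)) :=
    (isPseudoCoherent'_iff_forall _).mp h m
  have h2 := (main1004 B' _ m).mpr h1
  obtain ⟨e2⟩ := nonempty_Rpush_inD_iso (Spec.map (CommRingCat.ofHom π))
    (Coh.structureModule (Spec (CommRingCat.of B))) inferInstance
  let e5 : (DCoh.tildeD (CommRingCat.of B)).obj (Dual.inD B B) ≅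
      DCoh.inD (Spec (CommRingCat.of B)) (Coh.structureModule (Spec (CommRingCat.of B))) :=
    ((tilde.functor (CommRingCat.of B)).mapDerivedCategorySingleFunctor 0).app
      (ModuleCat.of B B) ≪≫
      (DerivedCategory.singleFunctor _ 0).mapIso tildeSelf
  exact isPC_of_iso ((c.app _).symm ≪≫
    (DCoh.Rpush (Spec.map (CommRingCat.ofHom π))).mapIso e5 ≪≫ e2) h2

end Spec

section Chart

variable {X : Scheme.{u}}

/-- the generalised chart map `U ⟶ Spec B` attached to `β : B → Γ(X, U)` -/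
def cImm (U : X.Opens) {B : Type u} [CommRing B] (β : B →+* Γ(X, U)) :
    (U : Scheme.{u}) ⟶ Spec (CommRingCat.of B) :=
  U.toSpecΓ ≫ Spec.map (CommRingCat.ofHom β)

theorem chartImm_eq (U : X.Opens) {R : Type u} [CommRing R] {n : ℕ}
    (φ : MvPolynomial (Fin n) R →+* Γ(X, U)) : DerSch.chartImm U φ = cImm U φ := rfl

theorem cImm_comp (U : X.Opens) {B' B : Type u} [CommRing B'] [CommRing B] (β : B →+* Γ(X, U))
    (π : B' →+* B) : cImm U (β.comp π) = cImm U β ≫ Spec.map (CommRingCat.ofHom π) := by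
  unfold cImm
  rw [Category.assoc, ← Spec.map_comp]
  rfl

theorem isClosedImmersion_cImm (U : X.Opens) (hU : IsAffineOpen U) {B : Type u} [CommRing B]
    (β : B →+* Γ(X, U)) (hβ : Function.Surjective β) : IsClosedImmersion (cImm U β) := by
  haveI : IsIso U.toSpecΓ := by
    rw [← IsAffineOpen.isoSpec_hom hU]
    infer_instance
  haveI : IsClosedImmersion (Spec.map (CommRingCat.ofHom β)) :=
    IsClosedImmersion.spec_of_surjective _ hβ
  unfold cImm
  infer_instance

/-- `R(cImm U β)_* (E|_U)` is `m`-pseudo-coherent -/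
def GPC (m : ℤ) (E : DCoh.D X) (U : X.Opens) {B : Type u} [CommRing B] (β : B →+* Γ(X, U)) :
    Prop :=
  DCoh.IsPseudoCoherentD m ((RP (cImm U β)).obj ((DD U.ι).obj E))

theorem chartPC_iff_gpc {S : Scheme.{u}} (m : ℤ) (E : DCoh.D X) (U : X.Opens)
    (hU : IsAffineOpen U) (V : S.Opens) {n : ℕ}
    (φ : MvPolynomial (Fin n) Γ(S, V) →+* Γ(X, U)) (hφ : Function.Surjective φ) :
    DerSch.ChartPC m E U V φ ↔ GPC m E U φ := by
  haveI := isClosedImmersion_cImm U hU φ hφ
  haveI := hasRpush (cImm U φ)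
  have key : ∀ G : CochainComplex X.Modules ℤ, Nonempty (DCoh.toD X G ≅ E) →
      Nonempty ((RP (cImm U φ)).obj ((DD U.ι).obj E) ≅
        DCoh.toD (Spec (CommRingCat.of (MvPolynomial (Fin n) Γ(S, V))))
          ((DerSch.pushCx (DerSch.chartImm U φ)).obj ((DCoh.restrictCx U).obj G))) := by
    rintro G ⟨e⟩
    exact ⟨(RP (cImm U φ)).mapIso ((DD U.ι).mapIso e.symm ≪≫ facIso U.ι G) ≪≫
      Groth.Agent.Lib.ProjFormulaH3.RpushQIso (cImm U φ) _⟩
  constructor
  · intro h
    obtain ⟨e⟩ := key (Q.objPreimage E) ⟨Q.objObjPreimageIso E⟩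
    exact isPC_of_iso e.symm (h _ ⟨Q.objObjPreimageIso E⟩)
  · intro h G hG
    obtain ⟨e⟩ := key G hG
    exact isPC_of_iso e h

variable (U : X.Opens) {B' B : Type u} [CommRing B'] [CommRing B] (β : B →+* Γ(X, U))
  (π : B' →+* B)

theorem nonempty_RP_cImm_comp (K : DCoh.D (U : Scheme.{u})) :
    Nonempty ((RP (cImm U (β.comp π))).obj K ≅
      (RP (Spec.map (CommRingCat.ofHom π))).obj ((RP (cImm U β)).obj K)) := by
  haveI := hasRpush (cImm U β ≫ Spec.map (CommRingCat.ofHom π))
  obtain ⟨b1⟩ := nonempty_Rpush_congr (cImm_comp U β π)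
  obtain ⟨b2⟩ := Groth.Agent.Lib.LpullAdjH3.nonempty_Rpush_comp_iso (cImm U β)
    (Spec.map (CommRingCat.ofHom π))
  exact ⟨b1.app K ≪≫ (b2.app K).symm⟩

theorem gpc_comp_iff (m : ℤ) (E : DCoh.D X) :
    GPC m E U (β.comp π) ↔ DCoh.IsPseudoCoherentD m
      ((RP (Spec.map (CommRingCat.ofHom π))).obj ((RP (cImm U β)).obj ((DD U.ι).obj E))) := by
  obtain ⟨e⟩ := nonempty_RP_cImm_comp U β π ((DD U.ι).obj E)
  exact ⟨fun h => isPC_of_iso e h, fun h => isPC_of_iso e.symm h⟩

/-- transfer along a surjection `π` with `B` pseudo-coherent over `B'` -/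
theorem gpc_comp_of_resPC (hπ : Function.Surjective π) (h : resPC π (Dual.inD B B)) (m : ℤ)
    (E : DCoh.D X) (hE : GPC m E U β) : GPC m E U (β.comp π) := by
  rw [gpc_comp_iff]
  haveI : IsClosedImmersion (Spec.map (CommRingCat.ofHom π)) :=
    IsClosedImmersion.spec_of_surjective _ hπ
  exact isPC_Rpush_of_closedImmersion _ (pushOPC_Spec_of_resPC π h) _ m hE

/-- transfer back along a ring map `π` with a section -/
theorem gpc_of_comp_of_section (σ : B →+* B') (hσ : π.comp σ = RingHom.id B) (m : ℤ)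
    (E : DCoh.D X) (hE : GPC m E U (β.comp π)) : GPC m E U β := by
  rw [gpc_comp_iff] at hE
  refine isPC_of_Rpush_section (Spec.map (CommRingCat.ofHom π)) (Spec.map (CommRingCat.ofHom σ))
    ?_ _ m hE
  rw [← Spec.map_comp, ← CommRingCat.ofHom_comp, hσ]
  exact Spec.map_id _

end Chart

end

end Groth.Agent.Lib.RelPCbH3
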