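import Mathlib
import Groth.Prelude
import Groth.Agent.Lib.RelPCb_helper3

/-!
# Relative pseudo-coherence, part b2: independence of the presentation (helper3)

* `gpc_presentation`: for two surjections `α : R[x_1..x_n] → Γ(X, U)`, `β : R[y_1..y_k] → Γ(X, U)`
  agreeing on constants, `GPC m E U α → GPC m E U β`.
* `main7207`.
-/

set_option autoImplicit false
set_option linter.all false
set_option maxHeartbeats 1600000
set_option backward.isDefEq.respectTransparency false
set_option backward.isDefEq.respectTransparency.types false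
set_option backward.defeqAttrib.useBackward true

universe u
open CategoryTheory CategoryTheory.Limits AlgebraicGeometry Opposite TopologicalSpace
open CategoryTheory.Pretriangulated

attribute [local instance] HasDerivedCategory.standard

namespace Groth.Agent.Lib.RelPCbH3

open Groth.Agent.Lib.DCohLocLead DerivedCategory Groth.Agent.Lib.FpqcPCH3
  Groth.Agent.Lib.FinPushPCH3 Groth.Agent.Lib.BCOpenL Groth.Agent.Lib.RelPCaH3
  Groth.Agent.Lib.DMod_helper6 Groth.Agent.Lib.TildePCH3 Groth.Agent.Lib.TildeAmpL DRing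

noncomputable section

variable {X : Scheme.{u}}

theorem gpc_presentation {R : Type u} [CommRing R] (U : X.Opens) {n k : ℕ}
    (α : MvPolynomial (Fin n) R →+* Γ(X, U)) (hα : Function.Surjective α)
    (β : MvPolynomial (Fin k) R →+* Γ(X, U)) (hβ : Function.Surjective β)
    (hc : α.comp MvPolynomial.C = β.comp MvPolynomial.C) (m : ℤ) (E : DCoh.D X)
    (hE : GPC m E U α) : GPC m E U β := by
  let P := MvPolynomial (Fin n) R
  let P' := MvPolynomial (Fin k) R
  choose p hp using fun j : Fin k => hα (β (MvPolynomial.X j))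
  choose q hq using fun i : Fin n => hβ (α (MvPolynomial.X i))
  let π₁ : MvPolynomial (Fin k) P →+* P := MvPolynomial.eval p
  let π₂' : MvPolynomial (Fin n) P' →+* P' := MvPolynomial.eval q
  let ee : MvPolynomial (Fin k) P ≃+* MvPolynomial (Fin n) P' :=
    (MvPolynomial.commAlgEquiv R (Fin k) (Fin n)).toRingEquiv
  let e : MvPolynomial (Fin k) P →+* MvPolynomial (Fin n) P' := ee.toRingHom
  let π₂ : MvPolynomial (Fin k) P →+* P' := π₂'.comp e
  let σ₂ : P' →+* MvPolynomial (Fin k) P := ee.symm.toRingHom.comp MvPolynomial.C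
  have h1 : resPC π₁ (Dual.inD P P) := resPC_eval k P p
  have hπ₁ : Function.Surjective π₁ := fun x => ⟨MvPolynomial.C x, MvPolynomial.eval_C _⟩
  have hσ₂ : π₂.comp σ₂ = RingHom.id P' := by
    refine RingHom.ext (fun x => ?_)
    show π₂' (ee (ee.symm (MvPolynomial.C x))) = x
    rw [RingEquiv.apply_symm_apply]
    exact MvPolynomial.eval_C _
  have hcr : ∀ r : R, α (MvPolynomial.C r) = β (MvPolynomial.C r) := fun r =>
    DFunLike.congr_fun hc r
  have hC : (α.comp π₁).comp MvPolynomial.C = (β.comp π₂).comp MvPolynomial.C := by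
    apply MvPolynomial.ringHom_ext
    · intro r
      show α (π₁ (MvPolynomial.C (MvPolynomial.C r))) =
        β (π₂' ((MvPolynomial.commAlgEquiv R (Fin k) (Fin n)) (MvPolynomial.C (MvPolynomial.C r))))
      have e1 : (MvPolynomial.C (MvPolynomial.C r) : MvPolynomial (Fin k) P) =
          algebraMap R _ r := rfl
      rw [e1, AlgEquiv.commutes]
      have e2 : (algebraMap R (MvPolynomial (Fin n) P') r) =
          MvPolynomial.C (MvPolynomial.C r) := rfl
      have e3 : π₂' (MvPolynomial.C (MvPolynomial.C r)) = MvPolynomial.C r :=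
        MvPolynomial.eval_C _
      have e4 : π₁ (MvPolynomial.C (MvPolynomial.C r)) = MvPolynomial.C r :=
        MvPolynomial.eval_C _
      rw [e2, e3, ← e1, e4]
      exact hcr r
    · intro i
      show α (π₁ (MvPolynomial.C (MvPolynomial.X i))) =
        β (π₂' ((MvPolynomial.commAlgEquiv R (Fin k) (Fin n)) (MvPolynomial.C (MvPolynomial.X i))))
      rw [MvPolynomial.commAlgEquiv_C_X]
      have e3 : π₂' (MvPolynomial.X i) = q i := MvPolynomial.eval_X _
      have e4 : π₁ (MvPolynomial.C (MvPolynomial.X i)) = MvPolynomial.X i :=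
        MvPolynomial.eval_C _
      rw [e3, e4, hq]
  have hcomp : α.comp π₁ = β.comp π₂ := by
    apply MvPolynomial.ringHom_ext
    · intro x
      exact DFunLike.congr_fun hC x
    · intro j
      show α (π₁ (MvPolynomial.X j)) =
        β (π₂' ((MvPolynomial.commAlgEquiv R (Fin k) (Fin n)) (MvPolynomial.X j)))
      rw [MvPolynomial.commAlgEquiv_X]
      have e3 : π₂' (MvPolynomial.C (MvPolynomial.X j)) = MvPolynomial.X j :=
        MvPolynomial.eval_C _
      have e4 : π₁ (MvPolynomial.X j) = p j := MvPolynomial.eval_X _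
      rw [e3, e4, hp]
  have s1 : GPC m E U (α.comp π₁) := gpc_comp_of_resPC U α π₁ hπ₁ h1 m E hE
  rw [hcomp] at s1
  exact gpc_of_comp_of_section U β π₂ σ₂ hσ₂ m E s1

theorem main7207 {S : Scheme.{u}} (f : X ⟶ S) (U : X.Opens) (hU : IsAffineOpen U)
    (V : S.Opens) (h : U ≤ f ⁻¹ᵁ V) (m : ℤ) (E : DCoh.D X)
    {n : ℕ} (φ : MvPolynomial (Fin n) Γ(S, V) →+* Γ(X, U)) (hφ : DerSch.IsChart f U V h φ)
    (hE : DerSch.ChartPC m E U V φ)
    {k : ℕ} (ψ : MvPolynomial (Fin k) Γ(S, V) →+* Γ(X, U)) (hψ : DerSch.IsChart f U V h ψ) :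
    DerSch.ChartPC m E U V ψ := by
  rw [chartPC_iff_gpc m E U hU V ψ hψ.1]
  rw [chartPC_iff_gpc m E U hU V φ hφ.1] at hE
  exact gpc_presentation U φ hφ.1 ψ hψ.1 (hφ.2.trans hψ.2.symm) m E hE

end

end Groth.Agent.Lib.RelPCbH3
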