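import Mathlib
import Groth.Prelude
import Groth.Agent.Lib.RelPCb2_helper3

/-!
# Relative pseudo-coherence, part c: localisation (helper3)

* `isPC_RP_awayEval_iff`: for `B'` the localisation of `B` at `G` and `τ : B[y] → B'`, `y ↦ 1/G`,
  `K ∈ D(Spec B')` is `m`-pseudo-coherent iff `R(Spec τ)_* K` is.
-/

set_option autoImplicit false
set_option linter.all false
set_option maxHeartbeats 1600000
set_option backward.isDefEq.respectTransparency false
set_option backward.isDefEq.respectTransparency.types false
set_option backward.defeqAttrib.useBackward true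

universe u
open CategoryTheory CategoryTheory.Limits AlgebraicGeometry Opposite TopologicalSpace
open CategoryTheory.Pretriangulated

attribute [local instance] HasDerivedCategory.standard

namespace Groth.Agent.Lib.RelPCbH3

open Groth.Agent.Lib.DCohLocLead DerivedCategory Groth.Agent.Lib.FpqcPCH3
  Groth.Agent.Lib.FinPushPCH3 Groth.Agent.Lib.BCOpenL Groth.Agent.Lib.RelPCaH3
  Groth.Agent.Lib.DMod_helper6 Groth.Agent.Lib.TildePCH3 Groth.Agent.Lib.TildeAmpL DRing

noncomputable section

local instance hasRpushInst' {X Y : Scheme.{u}} (f : X ⟶ Y) : DCoh.HasRpush f := hasRpush f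

section Away

variable (B : Type u) [CommRing B] (G : B) (B' : Type u) [CommRing B'] [Algebra B B']
  [IsLocalization.Away G B']

/-- `B[y] → B'[y]` -/
def awayι : Polynomial B →+* Polynomial B' := Polynomial.mapRingHom (algebraMap B B')

/-- `B'[y] → B'`, `y ↦ 1/G` -/
def awayτ' : Polynomial B' →+* B' := Polynomial.evalRingHom (IsLocalization.Away.invSelf G : B')

/-- `B[y] → B'`, `y ↦ 1/G` -/
def awayτ : Polynomial B →+* B' := (awayτ' B G B').comp (awayι B B')

theorem awayτ_C (b : B) : awayτ B G B' (Polynomial.C b) = algebraMap B B' b := by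
  simp [awayτ, awayτ', awayι]

theorem awayτ_X : awayτ B G B' Polynomial.X = IsLocalization.Away.invSelf G := by
  simp [awayτ, awayτ', awayι]

theorem awayτ_surjective : Function.Surjective (awayτ B G B') := by
  intro x
  obtain ⟨⟨b, ⟨_, n, rfl⟩⟩, hb⟩ := IsLocalization.surj (Submonoid.powers G) x
  have hb' : x * algebraMap B B' (G ^ n) = algebraMap B B' b := hb
  have h1 : algebraMap B B' G * IsLocalization.Away.invSelf G = 1 :=
    IsLocalization.Away.mul_invSelf G
  refine ⟨Polynomial.C b * Polynomial.X ^ n, ?_⟩
  rw [map_mul, map_pow, awayτ_C, awayτ_X, ← hb', map_pow, mul_assoc, ← mul_pow, h1, one_pow,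
    mul_one]

include G in
theorem isOpenImmersion_awayι :
    IsOpenImmersion (Spec.map (CommRingCat.ofHom (awayι B B'))) := by
  letI := Polynomial.algebra B B'
  haveI : IsLocalization.Away (Polynomial.C G) (Polynomial B') := by
    have := Polynomial.isLocalization (Submonoid.powers G) B'
    rwa [Submonoid.map_powers] at this
  exact IsOpenImmersion.of_isLocalization (S := Polynomial B') (Polynomial.C G)

theorem isClosedImmersion_awayτ :
    IsClosedImmersion (Spec.map (CommRingCat.ofHom (awayτ B G B'))) :=
  IsClosedImmersion.spec_of_surjective _ (awayτ_surjective B G B')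

theorem Spec_awayτ : Spec.map (CommRingCat.ofHom (awayτ' B G B')) ≫
    Spec.map (CommRingCat.ofHom (awayι B B')) = Spec.map (CommRingCat.ofHom (awayτ B G B')) := by
  rw [← Spec.map_comp]
  rfl

/-- **localisation lemma** -/
theorem isPC_RP_awayτ_iff (K : DCoh.D (Spec (CommRingCat.of B'))) (m : ℤ) :
    DCoh.IsPseudoCoherentD m K ↔
      DCoh.IsPseudoCoherentD m ((RP (Spec.map (CommRingCat.ofHom (awayτ B G B')))).obj K) := by
  have hτ' : Function.Surjective (awayτ' B G B') := fun x =>
    ⟨Polynomial.C x, by simp [awayτ']⟩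
  haveI : IsClosedImmersion (Spec.map (CommRingCat.ofHom (awayτ' B G B'))) :=
    IsClosedImmersion.spec_of_surjective _ hτ'
  haveI := isClosedImmersion_awayτ B G B'
  haveI := isOpenImmersion_awayι B G B'
  constructor
  · intro h
    have h1 : DCoh.IsPseudoCoherentD m
        ((RP (Spec.map (CommRingCat.ofHom (awayτ' B G B')))).obj K) :=
      isPC_Rpush_of_closedImmersion _
        (pushOPC_Spec_of_resPC (awayτ' B G B')
          (resPC_evalAt B' (IsLocalization.Away.invSelf G))) K m h
    exact isPC_Rpush_open_comp (Spec.map (CommRingCat.ofHom (awayτ B G B')))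
      (Spec.map (CommRingCat.ofHom (awayι B B')))
      (Spec.map (CommRingCat.ofHom (awayτ' B G B'))) (Spec_awayτ B G B')
      (Spec.map (CommRingCat.ofHom (awayτ B G B'))).isClosedEmbedding.isClosed_range K m h1
  · intro h
    have h1 : DCoh.IsPseudoCoherentD m
        ((RP (Spec.map (CommRingCat.ofHom (awayτ' B G B')))).obj K) :=
      isPC_Rpush_of_open_comp (Spec.map (CommRingCat.ofHom (awayτ B G B')))
        (Spec.map (CommRingCat.ofHom (awayι B B')))
        (Spec.map (CommRingCat.ofHom (awayτ' B G B'))) (Spec_awayτ B G B') K m h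
    refine isPC_of_Rpush_section (Spec.map (CommRingCat.ofHom (awayτ' B G B')))
      (Spec.map (CommRingCat.ofHom (Polynomial.C : B' →+* Polynomial B'))) ?_ K m h1
    rw [← Spec.map_comp, ← CommRingCat.ofHom_comp]
    have : (awayτ' B G B').comp (Polynomial.C : B' →+* Polynomial B') = RingHom.id B' := by
      ext x
      simp [awayτ']
    rw [this]
    exact Spec.map_id _

end Away

end

end Groth.Agent.Lib.RelPCbH3
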