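import Mathlib
import Groth.Prelude
import Groth.Agent.Lib.RelPCc_helper3

/-!
# Relative pseudo-coherence, part c2: restriction of generalised charts to basic opens (helper3)
-/

set_option autoImplicit false
set_option linter.all false
set_option maxHeartbeats 1600000
set_option backward.isDefEq.respectTransparency false
set_option backward.isDefEq.respectTransparency.types false
set_option backward.defeqAttrib.useBackward true

universe u
open CategoryTheory CategoryTheory.Limits AlgebraicGeometry Opposite TopologicalSpace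
open CategoryTheory.Pretriangulated

attribute [local instance] HasDerivedCategory.standard

namespace Groth.Agent.Lib.RelPCbH3

open Groth.Agent.Lib.DCohLocLead DerivedCategory Groth.Agent.Lib.FpqcPCH3
  Groth.Agent.Lib.FinPushPCH3 Groth.Agent.Lib.BCOpenL Groth.Agent.Lib.RelPCaH3
  Groth.Agent.Lib.DMod_helper6 Groth.Agent.Lib.TildePCH3 Groth.Agent.Lib.TildeAmpL DRing

noncomputable section

local instance hasRpushInst'' {X Y : Scheme.{u}} (f : X ⟶ Y) : DCoh.HasRpush f := hasRpush f

section Loc

variable {X : Scheme.{u}} (U W : X.Opens) (hWU : W ≤ U) {B B' : Type u} [CommRing B]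
  [CommRing B'] [Algebra B B'] (β : B →+* Γ(X, U)) (G : B) [IsLocalization.Away G B']

/-- restriction of sections -/
abbrev resHom : Γ(X, U) →+* Γ(X, W) := (X.presheaf.map (homOfLE hWU).op).hom

include G in
theorem exists_awayLift (hW : W = X.basicOpen (β G)) :
    ∃ ρ : B' →+* Γ(X, W), ρ.comp (algebraMap B B') = (resHom U W hWU).comp β := by
  have hu : IsUnit (((resHom U W hWU).comp β) G) := by
    subst hW
    exact X.toRingedSpace.isUnit_res_basicOpen (β G)
  exact ⟨IsLocalization.Away.lift G hu, IsLocalization.Away.lift_comp _ _⟩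

theorem range_Spec_away :
    Set.range (Spec.map (CommRingCat.ofHom (algebraMap B B'))) =
      (PrimeSpectrum.basicOpen G : Set (PrimeSpectrum B)) :=
  PrimeSpectrum.localization_away_comap_range B' G

theorem cImm_preimage_basicOpen :
    (cImm U β) ⁻¹ᵁ (PrimeSpectrum.basicOpen G) = U.ι ⁻¹ᵁ X.basicOpen (β G) := by
  rw [← Scheme.Opens.toSpecΓ_preimage_basicOpen]
  rfl

theorem cImm_mem_basicOpen_iff (u : (U : Scheme.{u})) :
    cImm U β u ∈ (PrimeSpectrum.basicOpen G : Set (PrimeSpectrum B)) ↔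
      U.ι u ∈ X.basicOpen (β G) := by
  have h := cImm_preimage_basicOpen U β G
  have h2 : u ∈ (cImm U β) ⁻¹ᵁ (PrimeSpectrum.basicOpen G) ↔ u ∈ U.ι ⁻¹ᵁ X.basicOpen (β G) := by
    rw [h]
  exact h2

theorem nonempty_restrict_RP_cImm (hW : W = X.basicOpen (β G)) (ρ : B' →+* Γ(X, W))
    (hρ : ρ.comp (algebraMap B B') = (resHom U W hWU).comp β)
    [IsOpenImmersion (Spec.map (CommRingCat.ofHom (algebraMap B B')))] (E : DCoh.D X) :
    Nonempty ((DD (Spec.map (CommRingCat.ofHom (algebraMap B B')))).obj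
        ((RP (cImm U β)).obj ((DD U.ι).obj E)) ≅ (RP (cImm W ρ)).obj ((DD W.ι).obj E)) := by
  have w : cImm W ρ ≫ Spec.map (CommRingCat.ofHom (algebraMap B B')) =
      X.homOfLE hWU ≫ cImm U β := by
    unfold cImm
    rw [Category.assoc, ← Spec.map_comp, ← CommRingCat.ofHom_comp, hρ, CommRingCat.ofHom_comp,
      Spec.map_comp, ← Category.assoc, ← Category.assoc,
      ← Scheme.Opens.toSpecΓ_SpecMap_presheaf_map W U hWU]
    rfl
  have hr : Set.range (X.homOfLE hWU) =
      (cImm U β) ⁻¹' (Set.range (Spec.map (CommRingCat.ofHom (algebraMap B B')))) := by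
    rw [range_Spec_away G]
    ext u
    rw [Set.mem_preimage, cImm_mem_basicOpen_iff, ← hW]
    have h1 : Set.range (X.homOfLE hWU) = ((X.homOfLE hWU).opensRange : Set _) := rfl
    rw [h1, Scheme.opensRange_homOfLE]
    rfl
  obtain ⟨b1⟩ := nonempty_bc_square (cImm U β) (Spec.map (CommRingCat.ofHom (algebraMap B B')))
    (X.homOfLE hWU) (cImm W ρ) w hr ((DD U.ι).obj E)
  obtain ⟨b2⟩ := nonempty_DD_comp_iso (X.homOfLE hWU) U.ι E
  obtain ⟨b3⟩ := nonempty_DD_congr (X.homOfLE_ι hWU) E
  exact ⟨b1 ≪≫ (RP (cImm W ρ)).mapIso (b2.symm ≪≫ b3)⟩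

/-- restriction of a generalised chart to a basic open -/
theorem gpc_restrict (hW : W = X.basicOpen (β G)) (ρ : B' →+* Γ(X, W))
    (hρ : ρ.comp (algebraMap B B') = (resHom U W hWU).comp β) (m : ℤ) (E : DCoh.D X)
    (hE : GPC m E U β) : GPC m E W ρ := by
  haveI : IsOpenImmersion (Spec.map (CommRingCat.ofHom (algebraMap B B'))) :=
    IsOpenImmersion.of_isLocalization (S := B') G
  obtain ⟨e⟩ := nonempty_restrict_RP_cImm U W hWU β G hW ρ hρ E
  exact isPC_of_iso e (isPC_restrict hE _)

end Loc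

end

end Groth.Agent.Lib.RelPCbH3
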