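import Mathlib
import Groth.Prelude
import Groth.Agent.Lib.RelPCc2_helper3

/-!
# Relative pseudo-coherence, part c3: gluing generalised charts over basic opens (helper3)
-/

set_option autoImplicit false
set_option linter.all false
set_option maxHeartbeats 1600000
set_option backward.isDefEq.respectTransparency false
set_option backward.isDefEq.respectTransparency.types false
set_option backward.defeqAttrib.useBackward true

universe u
open CategoryTheory CategoryTheory.Limits AlgebraicGeometry Opposite TopologicalSpace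
open CategoryTheory.Pretriangulated

attribute [local instance] HasDerivedCategory.standard

namespace Groth.Agent.Lib.RelPCbH3

open Groth.Agent.Lib.DCohLocLead DerivedCategory Groth.Agent.Lib.FpqcPCH3
  Groth.Agent.Lib.FinPushPCH3 Groth.Agent.Lib.BCOpenL Groth.Agent.Lib.RelPCaH3
  Groth.Agent.Lib.DMod_helper6 Groth.Agent.Lib.TildePCH3 Groth.Agent.Lib.TildeAmpL DRing

noncomputable section

local instance hasRpushInst''' {X Y : Scheme.{u}} (f : X ⟶ Y) : DCoh.HasRpush f := hasRpush f

section Loc

variable {X : Scheme.{u}} (U W : X.Opens) (hWU : W ≤ U) {B B' : Type u} [CommRing B]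
  [CommRing B'] [Algebra B B'] (β : B →+* Γ(X, U)) (G : B) [IsLocalization.Away G B']

include G in
theorem awayLift_surjective (hU : IsAffineOpen U) (hβ : Function.Surjective β)
    (hW : W = X.basicOpen (β G)) (ρ : B' →+* Γ(X, W))
    (hρ : ρ.comp (algebraMap B B') = (resHom U W hWU).comp β) : Function.Surjective ρ := by
  subst hW
  haveI := hU.isLocalization_basicOpen (β G)
  intro x
  obtain ⟨⟨a, ⟨_, n, rfl⟩⟩, ha⟩ := IsLocalization.surj (Submonoid.powers (β G)) x
  obtain ⟨b, rfl⟩ := hβ a
  have ha' : x * (resHom U _ hWU) ((β G) ^ n) = (resHom U _ hWU) (β b) := ha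
  have h1 : algebraMap B B' G * IsLocalization.Away.invSelf G = 1 :=
    IsLocalization.Away.mul_invSelf G
  have h2 : ∀ c : B, ρ (algebraMap B B' c) = (resHom U _ hWU) (β c) := fun c =>
    DFunLike.congr_fun hρ c
  have h3 : (resHom U _ hWU) (β G) * ρ (IsLocalization.Away.invSelf G) = 1 := by
    rw [← h2, ← map_mul, h1, map_one]
  refine ⟨algebraMap B B' b * (IsLocalization.Away.invSelf G) ^ n, ?_⟩
  rw [map_mul, map_pow, h2, ← ha', map_pow, mul_assoc, ← mul_pow, h3, one_pow, mul_one]

/-- passing to the chart with one more variable -/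
theorem gpc_awayτ_iff (ρ : B' →+* Γ(X, W)) (m : ℤ) (E : DCoh.D X) :
    GPC m E W ρ ↔ GPC m E W (ρ.comp (awayτ B G B')) := by
  rw [gpc_comp_iff]
  exact isPC_RP_awayτ_iff B G B' _ m

end Loc

section Equiv

variable {X : Scheme.{u}} (U : X.Opens) {B₂ B : Type u} [CommRing B₂] [CommRing B]
  (β : B →+* Γ(X, U)) (e : B₂ ≃+* B)

theorem gpc_comp_ringEquiv_iff (m : ℤ) (E : DCoh.D X) :
    GPC m E U (β.comp e.toRingHom) ↔ GPC m E U β := by
  constructor
  · intro h
    refine gpc_of_comp_of_section U β e.toRingHom e.symm.toRingHom ?_ m E h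
    ext x
    exact e.apply_symm_apply x
  · intro h
    exact gpc_comp_of_resPC U β e.toRingHom e.surjective
      (resPC_of_bijective _ e.bijective) m E h

end Equiv

section Cover

variable {X : Scheme.{u}} (U : X.Opens) {B : Type u} [CommRing B] (β : B →+* Γ(X, U))

/-- gluing: a generalised chart is pseudo-coherent as soon as its restrictions to a cover by basic
opens are -/
theorem gpc_of_cover (hU : IsAffineOpen U) (hβ : Function.Surjective β) {ι : Type*}
    (Gs : ι → B) (hspan : Ideal.span (Set.range (fun j => β (Gs j))) = ⊤) (m : ℤ)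
    (E : DCoh.D X)
    (h : ∀ j : ι, DCoh.IsPseudoCoherentD m
      ((DD (Spec.map (CommRingCat.ofHom (algebraMap B (Localization.Away (Gs j)))))).obj
        ((RP (cImm U β)).obj ((DD U.ι).obj E)))) :
    GPC m E U β := by
  haveI := isClosedImmersion_cImm U hU β hβ
  refine isPC_of_pointwise m _ (fun y => ?_)
  by_cases hy : y ∈ Set.range (cImm U β)
  · obtain ⟨u, rfl⟩ := hy
    have hcov := AlgebraicGeometry.iSup_basicOpen_of_span_eq_top U _ hspan
    have hu : U.ι u ∈ ⨆ i ∈ Set.range (fun j => β (Gs j)), X.basicOpen i := by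
      rw [hcov]
      exact u.2
    simp only [Opens.mem_iSup, Set.mem_range, exists_prop, exists_exists_eq_and] at hu
    obtain ⟨j, hj⟩ := hu
    have h1 : cImm U β u ∈ (PrimeSpectrum.basicOpen (Gs j) : Set (PrimeSpectrum B)) :=
      (cImm_mem_basicOpen_iff U β (Gs j) u).mpr hj
    rw [← range_Spec_away (B' := Localization.Away (Gs j)) (Gs j)] at h1
    exact ⟨_, Spec.map (CommRingCat.ofHom (algebraMap B (Localization.Away (Gs j)))),
      inferInstance, h1, h j⟩
  · let W₀ : (Spec (CommRingCat.of B)).Opens :=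
      ⟨(Set.range (cImm U β))ᶜ, (cImm U β).isClosedEmbedding.isClosed_range.isOpen_compl⟩
    refine ⟨(W₀ : Scheme.{u}), W₀.ι, inferInstance, ⟨⟨y, hy⟩, rfl⟩, ?_⟩
    exact isPC_of_isZero (isZero_restrict_Rpush_of_disjoint (cImm U β) W₀
      (fun x hx => hx ⟨x, rfl⟩) _) m

end Cover

end

end Groth.Agent.Lib.RelPCbH3
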