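import Mathlib
import Groth.Prelude
import Groth.Agent.Lib.RelPCc3_helper3

/-!
# Relative pseudo-coherence, part d: moving charts (helper3)

* `exists_isChart`: a chart exists when the ring map is of finite type.
* `exists_chart_basicOpen`: a chart on `U` with pseudo-coherent direct image gives one on `D(g) ⊆ U`.
* `isPC_restrict_of_chart_basicOpen`: the converse, local form.
* `exists_chart_base`, `exists_chart_base_shrink`: changing the base affine between `V` and `D(r) ⊆ V`.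
-/

set_option autoImplicit false
set_option linter.all false
set_option maxHeartbeats 1600000
set_option backward.isDefEq.respectTransparency false
set_option backward.isDefEq.respectTransparency.types false
set_option backward.defeqAttrib.useBackward true

universe u
open CategoryTheory CategoryTheory.Limits AlgebraicGeometry Opposite TopologicalSpace
open CategoryTheory.Pretriangulated

attribute [local instance] HasDerivedCategory.standard

namespace Groth.Agent.Lib.RelPCbH3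

open Groth.Agent.Lib.DCohLocLead DerivedCategory Groth.Agent.Lib.FpqcPCH3
  Groth.Agent.Lib.FinPushPCH3 Groth.Agent.Lib.BCOpenL Groth.Agent.Lib.RelPCaH3
  Groth.Agent.Lib.DMod_helper6 Groth.Agent.Lib.TildePCH3 Groth.Agent.Lib.TildeAmpL DRing

noncomputable section

local instance hasRpushInst4 {X Y : Scheme.{u}} (f : X ⟶ Y) : DCoh.HasRpush f := hasRpush f

variable {X S : Scheme.{u}} (f : X ⟶ S)

theorem exists_isChart (U : X.Opens) (V : S.Opens) (h : U ≤ f ⁻¹ᵁ V)
    (hft : (f.appLE V U h).hom.FiniteType) :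
    ∃ (n : ℕ) (φ : MvPolynomial (Fin n) Γ(S, V) →+* Γ(X, U)), DerSch.IsChart f U V h φ := by
  letI := (f.appLE V U h).hom.toAlgebra
  have hft' : Algebra.FiniteType Γ(S, V) Γ(X, U) := hft
  obtain ⟨n, φ, hφ⟩ := Algebra.FiniteType.iff_quotient_mvPolynomial''.mp hft'
  refine ⟨n, φ.toRingHom, hφ, ?_⟩
  ext r
  exact φ.commutes r

/-- the ring isomorphism `R[x_0, …, x_n] ≃ R[x_1, …, x_n][y]` -/
abbrev succEquiv (R : Type u) [CommRing R] (n : ℕ) :
    MvPolynomial (Fin (n + 1)) R ≃+* Polynomial (MvPolynomial (Fin n) R) :=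
  (MvPolynomial.finSuccEquiv R n).toRingEquiv

theorem succEquiv_C (R : Type u) [CommRing R] (n : ℕ) (r : R) :
    succEquiv R n (MvPolynomial.C r) = Polynomial.C (MvPolynomial.C r) := by
  show (MvPolynomial.finSuccEquiv R n) (MvPolynomial.C r) = _
  have e1 : (MvPolynomial.C r : MvPolynomial (Fin (n + 1)) R) = algebraMap R _ r := rfl
  rw [e1, AlgEquiv.commutes]
  rfl

section BasicOpen

/-- the standard chart on `D(g) ⊆ U` built from a chart on `U` -/
theorem exists_stdChart_basicOpen (U : X.Opens) (hU : IsAffineOpen U) (V : S.Opens)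
    (h : U ≤ f ⁻¹ᵁ V) {n : ℕ} (φ : MvPolynomial (Fin n) Γ(S, V) →+* Γ(X, U))
    (hφ : DerSch.IsChart f U V h φ) (W : X.Opens) (hWU : W ≤ U)
    (G : MvPolynomial (Fin n) Γ(S, V)) (hW : W = X.basicOpen (φ G)) (h' : W ≤ f ⁻¹ᵁ V) :
    ∃ (ρ : Localization.Away G →+* Γ(X, W))
      (ψ : MvPolynomial (Fin (n + 1)) Γ(S, V) →+* Γ(X, W)),
      ρ.comp (algebraMap _ (Localization.Away G)) = (resHom U W hWU).comp φ ∧
      DerSch.IsChart f W V h' ψ ∧
      ψ = (ρ.comp (awayτ _ G (Localization.Away G))).comp (succEquiv Γ(S, V) n).toRingHom := by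
  obtain ⟨ρ, hρ⟩ := exists_awayLift U W hWU (B' := Localization.Away G) φ G hW
  have hρs : Function.Surjective ρ := awayLift_surjective U W hWU φ G hU hφ.1 hW ρ hρ
  refine ⟨ρ, _, hρ, ⟨?_, ?_⟩, rfl⟩
  · exact (hρs.comp (awayτ_surjective _ G _)).comp (succEquiv Γ(S, V) n).surjective
  · ext r
    show ρ (awayτ _ G (Localization.Away G) (succEquiv Γ(S, V) n (MvPolynomial.C r))) = _
    rw [succEquiv_C, awayτ_C]
    have h1 : ρ (algebraMap _ (Localization.Away G) (MvPolynomial.C r)) =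
        (resHom U W hWU) (φ (MvPolynomial.C r)) := DFunLike.congr_fun hρ _
    have h2 : φ (MvPolynomial.C r) = (f.appLE V U h).hom r := DFunLike.congr_fun hφ.2 r
    rw [h1, h2]
    have h3 := f.appLE_map (U := V) (V := U) h (homOfLE hWU).op
    exact DFunLike.congr_fun (congrArg CommRingCat.Hom.hom h3) r

/-- a chart on `U` with pseudo-coherent direct image gives one on `D(g) ⊆ U` -/
theorem exists_chart_basicOpen (U : X.Opens) (hU : IsAffineOpen U) (V : S.Opens)
    (h : U ≤ f ⁻¹ᵁ V) (m : ℤ) (E : DCoh.D X) {n : ℕ}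
    (φ : MvPolynomial (Fin n) Γ(S, V) →+* Γ(X, U))
    (hφ : DerSch.IsChart f U V h φ) (W : X.Opens) (hWU : W ≤ U)
    (G : MvPolynomial (Fin n) Γ(S, V)) (hW : W = X.basicOpen (φ G)) (h' : W ≤ f ⁻¹ᵁ V)
    (hE : GPC m E U φ) :
    ∃ ψ : MvPolynomial (Fin (n + 1)) Γ(S, V) →+* Γ(X, W),
      DerSch.IsChart f W V h' ψ ∧ GPC m E W ψ := by
  obtain ⟨ρ, ψ, hρ, hψ, rfl⟩ := exists_stdChart_basicOpen f U hU V h φ hφ W hWU G hW h'
  refine ⟨_, hψ, ?_⟩
  rw [gpc_comp_ringEquiv_iff, ← gpc_awayτ_iff]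
  exact gpc_restrict U W hWU φ G hW ρ hρ m E hE

/-- the converse, in local form -/
theorem isPC_restrict_of_chart_basicOpen (U : X.Opens) (hU : IsAffineOpen U) (V : S.Opens)
    (h : U ≤ f ⁻¹ᵁ V) (m : ℤ) (E : DCoh.D X) {n : ℕ}
    (φ : MvPolynomial (Fin n) Γ(S, V) →+* Γ(X, U))
    (hφ : DerSch.IsChart f U V h φ) (W : X.Opens) (hWU : W ≤ U)
    (G : MvPolynomial (Fin n) Γ(S, V)) (hW : W = X.basicOpen (φ G)) (h' : W ≤ f ⁻¹ᵁ V)
    {k : ℕ} (ψ' : MvPolynomial (Fin k) Γ(S, V) →+* Γ(X, W)) (hψ' : DerSch.IsChart f W V h' ψ')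
    (hE : GPC m E W ψ') :
    DCoh.IsPseudoCoherentD m
      ((DD (Spec.map (CommRingCat.ofHom (algebraMap _ (Localization.Away G))))).obj
        ((RP (cImm U φ)).obj ((DD U.ι).obj E))) := by
  obtain ⟨ρ, ψ, hρ, hψ, rfl⟩ := exists_stdChart_basicOpen f U hU V h φ hφ W hWU G hW h'
  have h1 := gpc_presentation W ψ' hψ'.1 _ hψ.1 (hψ'.2.trans hψ.2.symm) m E hE
  rw [gpc_comp_ringEquiv_iff, ← gpc_awayτ_iff] at h1
  obtain ⟨e⟩ := nonempty_restrict_RP_cImm U W hWU φ G hW ρ hρ E
  exact isPC_of_iso e.symm h1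

end BasicOpen

end

end Groth.Agent.Lib.RelPCbH3
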