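import Mathlib
import Groth.Prelude
import Groth.Agent.Lib.RelPCd_helper3

/-!
# Relative pseudo-coherence, part d2: `main7217` (helper3)
-/

set_option autoImplicit false
set_option linter.all false
set_option maxHeartbeats 1600000
set_option backward.isDefEq.respectTransparency false
set_option backward.isDefEq.respectTransparency.types false
set_option backward.defeqAttrib.useBackward true

universe u
open CategoryTheory CategoryTheory.Limits AlgebraicGeometry Opposite TopologicalSpace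
open CategoryTheory.Pretriangulated

attribute [local instance] HasDerivedCategory.standard

namespace Groth.Agent.Lib.RelPCbH3

open Groth.Agent.Lib.DCohLocLead DerivedCategory Groth.Agent.Lib.FpqcPCH3
  Groth.Agent.Lib.FinPushPCH3 Groth.Agent.Lib.BCOpenL Groth.Agent.Lib.RelPCaH3
  Groth.Agent.Lib.DMod_helper6 Groth.Agent.Lib.TildePCH3 Groth.Agent.Lib.TildeAmpL DRing

noncomputable section

local instance hasRpushInst5 {X Y : Scheme.{u}} (f : X ⟶ Y) : DCoh.HasRpush f := hasRpush f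

variable {X S : Scheme.{u}} (f : X ⟶ S)

/-- gluing charts over a cover of `U` by basic opens (general index type) -/
theorem gpc_of_basicOpen_charts (U : X.Opens) (hU : IsAffineOpen U) (V : S.Opens)
    (h : U ≤ f ⁻¹ᵁ V) (m : ℤ) (E : DCoh.D X) {n : ℕ}
    (φ : MvPolynomial (Fin n) Γ(S, V) →+* Γ(X, U)) (hφ : DerSch.IsChart f U V h φ)
    {ι : Type*} (g : ι → Γ(X, U)) (hg : Ideal.span (Set.range g) = ⊤)
    (H : ∀ j : ι, ∃ (k : ℕ) (ψ : MvPolynomial (Fin k) Γ(S, V) →+* Γ(X, X.basicOpen (g j))),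
      DerSch.IsChart f (X.basicOpen (g j)) V ((X.basicOpen_le (g j)).trans h) ψ ∧
        GPC m E (X.basicOpen (g j)) ψ) :
    GPC m E U φ := by
  choose Gs hGs using fun j => hφ.1 (g j)
  have hspan : Ideal.span (Set.range (fun j => φ (Gs j))) = ⊤ := by
    have : (fun j => φ (Gs j)) = g := funext hGs
    rw [this]
    exact hg
  refine gpc_of_cover U φ hU hφ.1 Gs hspan m E (fun j => ?_)
  obtain ⟨k, ψ, hψ, hE⟩ := H j
  exact isPC_restrict_of_chart_basicOpen f U hU V h m E φ hφ (X.basicOpen (g j))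
    (X.basicOpen_le (g j)) (Gs j) (by rw [hGs j]) ((X.basicOpen_le (g j)).trans h) ψ hψ hE

theorem main7217 (U : X.affineOpens)
    (V : S.affineOpens) (h : (U : X.Opens) ≤ f ⁻¹ᵁ (V : S.Opens))
    (hft : (f.appLE (V : S.Opens) (U : X.Opens) h).hom.FiniteType) (m : ℤ) (E : DCoh.D X)
    {k : ℕ} (g : Fin k → Γ(X, (U : X.Opens))) (hg : Ideal.span (Set.range g) = ⊤) :
    (∀ j : Fin k, ∃ (n : ℕ) (φ : MvPolynomial (Fin n) Γ(S, (V : S.Opens)) →+* Γ(X, X.basicOpen (g j))),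
        DerSch.IsChart f (X.basicOpen (g j)) (V : S.Opens) ((X.basicOpen_le (g j)).trans h) φ ∧
          DerSch.ChartPC m E (X.basicOpen (g j)) (V : S.Opens) φ) ↔
      ∃ (n : ℕ) (φ : MvPolynomial (Fin n) Γ(S, (V : S.Opens)) →+* Γ(X, (U : X.Opens))),
        DerSch.IsChart f (U : X.Opens) (V : S.Opens) h φ ∧ DerSch.ChartPC m E (U : X.Opens) (V : S.Opens) φ := by
  constructor
  · intro H
    obtain ⟨n, φ, hφ⟩ := exists_isChart f U.1 V.1 h hft
    refine ⟨n, φ, hφ, ?_⟩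
    rw [chartPC_iff_gpc m E U.1 U.2 V.1 φ hφ.1]
    refine gpc_of_basicOpen_charts f U.1 U.2 V.1 h m E φ hφ g hg (fun j => ?_)
    obtain ⟨n', φ', hφ', hE'⟩ := H j
    refine ⟨n', φ', hφ', ?_⟩
    rwa [chartPC_iff_gpc m E _ (U.2.basicOpen (g j)) V.1 φ' hφ'.1] at hE'
  · rintro ⟨n, φ, hφ, hE⟩ j
    rw [chartPC_iff_gpc m E U.1 U.2 V.1 φ hφ.1] at hE
    obtain ⟨G, hG⟩ := hφ.1 (g j)
    obtain ⟨ψ, hψ, hEψ⟩ := exists_chart_basicOpen f U.1 U.2 V.1 h m E φ hφ (X.basicOpen (g j))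
      (X.basicOpen_le (g j)) G (by rw [hG]) ((X.basicOpen_le (g j)).trans h) hE
    refine ⟨n + 1, ψ, hψ, ?_⟩
    rwa [chartPC_iff_gpc m E _ (U.2.basicOpen (g j)) V.1 ψ hψ.1]

end

end Groth.Agent.Lib.RelPCbH3
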