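import Mathlib
import Groth.Prelude
import Groth.Agent.Lib.RelPCd2_helper3

/-!
# Relative pseudo-coherence, part d3: changing the base affine; `main7218` (helper3)
-/

set_option autoImplicit false
set_option linter.all false
set_option maxHeartbeats 1600000
set_option backward.isDefEq.respectTransparency false
set_option backward.isDefEq.respectTransparency.types false
set_option backward.defeqAttrib.useBackward true

universe u
open CategoryTheory CategoryTheory.Limits AlgebraicGeometry Opposite TopologicalSpace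
open CategoryTheory.Pretriangulated

attribute [local instance] HasDerivedCategory.standard

namespace Groth.Agent.Lib.RelPCbH3

open Groth.Agent.Lib.DCohLocLead DerivedCategory Groth.Agent.Lib.FpqcPCH3
  Groth.Agent.Lib.FinPushPCH3 Groth.Agent.Lib.BCOpenL Groth.Agent.Lib.RelPCaH3
  Groth.Agent.Lib.DMod_helper6 Groth.Agent.Lib.TildePCH3 Groth.Agent.Lib.TildeAmpL DRing

noncomputable section

local instance hasRpushInst6 {X Y : Scheme.{u}} (f : X ⟶ Y) : DCoh.HasRpush f := hasRpush f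

attribute [local instance] MvPolynomial.algebraMvPolynomial

theorem isLocalizationAway_mvPolynomial {R R' : Type u} [CommRing R] [CommRing R'] [Algebra R R']
    (r : R) [IsLocalization.Away r R'] (n : ℕ) :
    IsLocalization.Away (MvPolynomial.C r : MvPolynomial (Fin n) R)
      (MvPolynomial (Fin n) R') := by
  have := MvPolynomial.isLocalization (σ := Fin n) (Submonoid.powers r) R'
  rwa [Submonoid.map_powers] at this

variable {X S : Scheme.{u}} (f : X ⟶ S)

/-- from a chart over `D(r) ⊆ V` to a chart over `V` -/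
theorem exists_chart_base (V : S.Opens) (hV : IsAffineOpen V) (r : Γ(S, V)) (D : S.Opens)
    (hD : D = S.basicOpen r) (U : X.Opens) (hUD : U ≤ f ⁻¹ᵁ D) (hUV : U ≤ f ⁻¹ᵁ V) (m : ℤ)
    (E : DCoh.D X) {n : ℕ} (φ : MvPolynomial (Fin n) Γ(S, D) →+* Γ(X, U))
    (hφ : DerSch.IsChart f U D hUD φ) (hE : GPC m E U φ) :
    ∃ ψ : MvPolynomial (Fin (n + 1)) Γ(S, V) →+* Γ(X, U),
      DerSch.IsChart f U V hUV ψ ∧ GPC m E U ψ := by
  subst hD
  haveI := hV.isLocalization_basicOpen r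
  haveI := isLocalizationAway_mvPolynomial (R' := Γ(S, S.basicOpen r)) r n
  refine ⟨(φ.comp (awayτ (MvPolynomial (Fin n) Γ(S, V)) (MvPolynomial.C r)
    (MvPolynomial (Fin n) Γ(S, S.basicOpen r)))).comp (succEquiv Γ(S, V) n).toRingHom,
    ⟨?_, ?_⟩, ?_⟩
  · exact (hφ.1.comp (awayτ_surjective _ _ _)).comp (succEquiv Γ(S, V) n).surjective
  · ext a
    show φ (awayτ _ (MvPolynomial.C r) _ (succEquiv Γ(S, V) n (MvPolynomial.C a))) = _
    rw [succEquiv_C, awayτ_C]
    have h1 : algebraMap (MvPolynomial (Fin n) Γ(S, V))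
        (MvPolynomial (Fin n) Γ(S, S.basicOpen r)) (MvPolynomial.C a) =
        MvPolynomial.C (algebraMap Γ(S, V) Γ(S, S.basicOpen r) a) := by
      rw [MvPolynomial.algebraMap_def, MvPolynomial.map_C]
    rw [h1]
    have h2 : φ (MvPolynomial.C (algebraMap Γ(S, V) Γ(S, S.basicOpen r) a)) =
        (f.appLE (S.basicOpen r) U hUD).hom (algebraMap Γ(S, V) Γ(S, S.basicOpen r) a) :=
      DFunLike.congr_fun hφ.2 _
    rw [h2]
    have h3 := f.map_appLE (U := S.basicOpen r) (V := U) hUD (homOfLE (S.basicOpen_le r)).op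
    exact DFunLike.congr_fun (congrArg CommRingCat.Hom.hom h3) a
  · rw [gpc_comp_ringEquiv_iff, ← gpc_awayτ_iff]
    exact hE

/-- from a chart over `V` to a chart over `D(r) ⊆ V` -/
theorem exists_chart_base_shrink (V : S.Opens) (hV : IsAffineOpen V) (r : Γ(S, V)) (D : S.Opens)
    (hD : D = S.basicOpen r) (W : X.Opens) (hWD : W ≤ f ⁻¹ᵁ D) (hWV : W ≤ f ⁻¹ᵁ V) (m : ℤ)
    (E : DCoh.D X) {n : ℕ} (ψ : MvPolynomial (Fin n) Γ(S, V) →+* Γ(X, W))
    (hψ : DerSch.IsChart f W V hWV ψ) (hE : GPC m E W ψ) :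
    ∃ ψ' : MvPolynomial (Fin n) Γ(S, D) →+* Γ(X, W),
      DerSch.IsChart f W D hWD ψ' ∧ GPC m E W ψ' := by
  subst hD
  haveI := hV.isLocalization_basicOpen r
  haveI := isLocalizationAway_mvPolynomial (R' := Γ(S, S.basicOpen r)) r n
  let ψ' : MvPolynomial (Fin n) Γ(S, S.basicOpen r) →+* Γ(X, W) :=
    MvPolynomial.eval₂Hom (f.appLE (S.basicOpen r) W hWD).hom (fun i => ψ (MvPolynomial.X i))
  have hcomp : ψ'.comp (algebraMap (MvPolynomial (Fin n) Γ(S, V))
      (MvPolynomial (Fin n) Γ(S, S.basicOpen r))) = ψ := by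
    apply MvPolynomial.ringHom_ext
    · intro a
      show ψ' (algebraMap (MvPolynomial (Fin n) Γ(S, V))
        (MvPolynomial (Fin n) Γ(S, S.basicOpen r)) (MvPolynomial.C a)) = ψ (MvPolynomial.C a)
      rw [MvPolynomial.algebraMap_def, MvPolynomial.map_C]
      have h1 : ψ' (MvPolynomial.C (algebraMap Γ(S, V) Γ(S, S.basicOpen r) a)) =
          (f.appLE (S.basicOpen r) W hWD).hom (algebraMap Γ(S, V) Γ(S, S.basicOpen r) a) :=
        MvPolynomial.eval₂Hom_C _ _ _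
      rw [h1]
      have h2 : ψ (MvPolynomial.C a) = (f.appLE V W hWV).hom a := DFunLike.congr_fun hψ.2 a
      rw [h2]
      have h3 := f.map_appLE (U := S.basicOpen r) (V := W) hWD (homOfLE (S.basicOpen_le r)).op
      exact DFunLike.congr_fun (congrArg CommRingCat.Hom.hom h3) a
    · intro i
      show ψ' (algebraMap (MvPolynomial (Fin n) Γ(S, V))
        (MvPolynomial (Fin n) Γ(S, S.basicOpen r)) (MvPolynomial.X i)) = ψ (MvPolynomial.X i)
      rw [MvPolynomial.algebraMap_def, MvPolynomial.map_X]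
      exact MvPolynomial.eval₂Hom_X' _ _ _
  refine ⟨ψ', ⟨?_, ?_⟩, ?_⟩
  · intro x
    obtain ⟨p, rfl⟩ := hψ.1 x
    exact ⟨algebraMap _ _ p, DFunLike.congr_fun hcomp p⟩
  · ext a
    exact MvPolynomial.eval₂Hom_C _ _ a
  · have hfac : cImm W ψ' ≫ Spec.map (CommRingCat.ofHom (algebraMap (MvPolynomial (Fin n) Γ(S, V))
        (MvPolynomial (Fin n) Γ(S, S.basicOpen r)))) = cImm W ψ := by
      rw [← cImm_comp, hcomp]
    haveI : IsOpenImmersion (Spec.map (CommRingCat.ofHom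
        (algebraMap (MvPolynomial (Fin n) Γ(S, V))
          (MvPolynomial (Fin n) Γ(S, S.basicOpen r))))) :=
      IsOpenImmersion.of_isLocalization (MvPolynomial.C r)
    exact isPC_Rpush_of_open_comp (cImm W ψ) _ (cImm W ψ') hfac _ m hE

theorem main7218 (V : S.affineOpens)
    (r : Γ(S, (V : S.Opens))) (U : X.affineOpens) (hU : (U : X.Opens) ≤ f ⁻¹ᵁ S.basicOpen r)
    (g : Γ(X, (U : X.Opens))) (h' : X.basicOpen g ≤ f ⁻¹ᵁ (V : S.Opens))
    (m : ℤ) (E : DCoh.D X)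
    (hE : ∃ (n : ℕ) (φ : MvPolynomial (Fin n) Γ(S, S.basicOpen r) →+* Γ(X, (U : X.Opens))),
      DerSch.IsChart f (U : X.Opens) (S.basicOpen r) hU φ ∧ DerSch.ChartPC m E (U : X.Opens) (S.basicOpen r) φ) :
    ∃ (k : ℕ) (ψ : MvPolynomial (Fin k) Γ(S, (V : S.Opens)) →+* Γ(X, X.basicOpen g)),
      DerSch.IsChart f (X.basicOpen g) (V : S.Opens) h' ψ ∧ DerSch.ChartPC m E (X.basicOpen g) (V : S.Opens) ψ := by
  obtain ⟨n, φ, hφ, hE⟩ := hE
  rw [chartPC_iff_gpc m E U.1 U.2 _ φ hφ.1] at hE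
  have hUV : (U : X.Opens) ≤ f ⁻¹ᵁ (V : S.Opens) :=
    hU.trans (f.preimage_mono (S.basicOpen_le r))
  obtain ⟨φ₁, hφ₁, hE₁⟩ := exists_chart_base f V.1 V.2 r _ rfl U.1 hU hUV m E φ hφ hE
  obtain ⟨G, hG⟩ := hφ₁.1 g
  obtain ⟨ψ, hψ, hEψ⟩ := exists_chart_basicOpen f U.1 U.2 V.1 hUV m E φ₁ hφ₁ (X.basicOpen g)
    (X.basicOpen_le g) G (by rw [hG]) h' hE₁
  refine ⟨n + 1 + 1, ψ, hψ, ?_⟩
  rwa [chartPC_iff_gpc m E _ (U.2.basicOpen g) V.1 ψ hψ.1]

end

end Groth.Agent.Lib.RelPCbH3
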