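import Mathlib
import Groth.Prelude
import Groth.Agent.Lib.RelPCd3_helper3

/-!
# Relative pseudo-coherence, part e: independence of the covers; `main7208` (helper3)
-/

set_option autoImplicit false
set_option linter.all false
set_option maxHeartbeats 1600000
set_option backward.isDefEq.respectTransparency false
set_option backward.isDefEq.respectTransparency.types false
set_option backward.defeqAttrib.useBackward true

universe u
open CategoryTheory CategoryTheory.Limits AlgebraicGeometry Opposite TopologicalSpace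
open CategoryTheory.Pretriangulated

attribute [local instance] HasDerivedCategory.standard

namespace Groth.Agent.Lib.RelPCbH3

open Groth.Agent.Lib.DCohLocLead DerivedCategory Groth.Agent.Lib.FpqcPCH3
  Groth.Agent.Lib.FinPushPCH3 Groth.Agent.Lib.BCOpenL Groth.Agent.Lib.RelPCaH3
  Groth.Agent.Lib.DMod_helper6 Groth.Agent.Lib.TildePCH3 Groth.Agent.Lib.TildeAmpL DRing

noncomputable section

local instance hasRpushInst7 {X Y : Scheme.{u}} (f : X ⟶ Y) : DCoh.HasRpush f := hasRpush f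

variable {X S : Scheme.{u}} (f : X ⟶ S)

/-- moving a chart with pseudo-coherent direct image from `(U', V')` to a basic open neighbourhood
in `U` of a point of `U ∩ U'`, over `V` -/
theorem exists_local_chart (U : X.Opens) (hU : IsAffineOpen U) (V : S.Opens)
    (hV : IsAffineOpen V) (h : U ≤ f ⁻¹ᵁ V) (U' : X.Opens) (hU' : IsAffineOpen U')
    (V' : S.Opens) (hV' : IsAffineOpen V') (h'' : U' ≤ f ⁻¹ᵁ V') (m : ℤ) (E : DCoh.D X) {n : ℕ}
    (φ' : MvPolynomial (Fin n) Γ(S, V') →+* Γ(X, U')) (hφ' : DerSch.IsChart f U' V' h'' φ')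
    (hE : GPC m E U' φ') (u : X) (huU : u ∈ U) (huU' : u ∈ U') :
    ∃ a : Γ(X, U), u ∈ X.basicOpen a ∧
      ∃ (k : ℕ) (ψ : MvPolynomial (Fin k) Γ(S, V) →+* Γ(X, X.basicOpen a)),
        DerSch.IsChart f (X.basicOpen a) V ((X.basicOpen_le a).trans h) ψ ∧
          GPC m E (X.basicOpen a) ψ := by
  have hfu : f u ∈ V ⊓ V' := ⟨h huU, h'' huU'⟩
  obtain ⟨r, r', hrr', hfur⟩ := exists_basicOpen_le_affine_inter hV hV' (f u) hfu
  let T : X.Opens := U ⊓ f ⁻¹ᵁ (S.basicOpen r)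
  have huT : u ∈ T := ⟨huU, hfur⟩
  obtain ⟨a₀, ha₀T, hua₀⟩ := hU.exists_basicOpen_le (V := T) ⟨u, huT⟩ huU
  obtain ⟨a₁, a', haa', hua₁⟩ := exists_basicOpen_le_affine_inter (hU.basicOpen a₀) hU' u
    ⟨hua₀, huU'⟩
  obtain ⟨a, ha⟩ := hU.basicOpen_basicOpen_is_basicOpen a₀ a₁
  have hWa' : X.basicOpen a = X.basicOpen a' := ha.trans haa'
  have hWr : X.basicOpen a ≤ f ⁻¹ᵁ (S.basicOpen r) := by
    rw [ha]
    exact ((X.basicOpen_le a₁).trans ha₀T).trans inf_le_right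
  refine ⟨a, by rw [ha]; exact hua₁, ?_⟩
  -- step 1: to `(W, V')`
  obtain ⟨G', hG'⟩ := hφ'.1 a'
  have hWU' : X.basicOpen a ≤ U' := by
    rw [hWa']
    exact X.basicOpen_le a'
  obtain ⟨ψ₁, hψ₁, hE₁⟩ := exists_chart_basicOpen f U' hU' V' h'' m E φ' hφ' (X.basicOpen a) hWU'
    G' (by rw [hG', hWa']) (hWU'.trans h'') hE
  -- step 2: to `(W, D(r))`
  obtain ⟨ψ₂, hψ₂, hE₂⟩ := exists_chart_base_shrink f V' hV' r' (S.basicOpen r) hrr'
    (X.basicOpen a) hWr (hWU'.trans h'') m E ψ₁ hψ₁ hE₁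
  -- step 3: to `(W, V)`
  obtain ⟨ψ₃, hψ₃, hE₃⟩ := exists_chart_base f V hV r (S.basicOpen r) rfl
    (X.basicOpen a) hWr ((X.basicOpen_le a).trans h) m E ψ₂ hψ₂ hE₂
  exact ⟨_, ψ₃, hψ₃, hE₃⟩

theorem main7208 [LocallyOfFiniteType f] (m : ℤ) (E : DCoh.D X) :
    DerSch.IsPseudoCoherentRel f m E ↔
      ∀ (U : X.affineOpens) (V : S.affineOpens) (h : (U : X.Opens) ≤ f ⁻¹ᵁ (V : S.Opens)),
        ∃ (n : ℕ) (φ : MvPolynomial (Fin n) Γ(S, (V : S.Opens)) →+* Γ(X, (U : X.Opens))),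
          DerSch.IsChart f (U : X.Opens) (V : S.Opens) h φ ∧ DerSch.ChartPC m E (U : X.Opens) (V : S.Opens) φ := by
  constructor
  · rintro ⟨-, 𝒱, h𝒱, H⟩ U V h
    obtain ⟨n, φ, hφ⟩ := exists_isChart f U.1 V.1 h
      (LocallyOfFiniteType.finiteType_appLE f V.2 U.2 h)
    refine ⟨n, φ, hφ, ?_⟩
    rw [chartPC_iff_gpc m E U.1 U.2 V.1 φ hφ.1]
    have key : ∀ u : (U : X.Opens), ∃ a : Γ(X, (U : X.Opens)), u.1 ∈ X.basicOpen a ∧
        ∃ (k : ℕ) (ψ : MvPolynomial (Fin k) Γ(S, (V : S.Opens)) →+* Γ(X, X.basicOpen a)),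
          DerSch.IsChart f (X.basicOpen a) V.1 ((X.basicOpen_le a).trans h) ψ ∧
            GPC m E (X.basicOpen a) ψ := by
      intro u
      have h0 : f u.1 ∈ (⨆ V' ∈ 𝒱, (V' : S.Opens)) := by rw [h𝒱]; trivial
      obtain ⟨V', hV'⟩ := Opens.mem_iSup.mp h0
      obtain ⟨hV'𝒱, hfuV'⟩ := Opens.mem_iSup.mp hV'
      obtain ⟨𝒰, h𝒰, H'⟩ := H V' hV'𝒱
      have h1 : u.1 ∈ (⨆ U' ∈ 𝒰, (U' : X.Opens)) := by rw [h𝒰]; exact hfuV'
      obtain ⟨U', hU'⟩ := Opens.mem_iSup.mp h1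
      obtain ⟨hU'𝒰, huU'⟩ := Opens.mem_iSup.mp hU'
      have hU'V' : (U' : X.Opens) ≤ f ⁻¹ᵁ (V' : S.Opens) := by
        rw [← h𝒰]
        exact le_iSup₂ (f := fun (U' : X.affineOpens) (_ : U' ∈ 𝒰) => (U' : X.Opens)) U' hU'𝒰
      obtain ⟨n', φ', hφ', hE'⟩ := H' U' hU'𝒰 hU'V'
      rw [chartPC_iff_gpc m E U'.1 U'.2 V'.1 φ' hφ'.1] at hE'
      exact exists_local_chart f U.1 U.2 V.1 V.2 h U'.1 U'.2 V'.1 V'.2 hU'V' m E φ' hφ' hE'
        u.1 u.2 huU'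
    choose g hug Hg using key
    have hg : Ideal.span (Set.range g) = ⊤ := by
      rw [← U.2.iSup_basicOpen_eq_self_iff]
      apply le_antisymm
      · exact iSup_le (fun a => X.basicOpen_le a.1)
      · intro x hx
        exact Opens.mem_iSup.mpr ⟨⟨g ⟨x, hx⟩, ⟨x, hx⟩, rfl⟩, hug ⟨x, hx⟩⟩
    exact gpc_of_basicOpen_charts f U.1 U.2 V.1 h m E φ hφ g hg Hg
  · intro H
    refine ⟨inferInstance, Set.univ, ?_, fun V _ => ⟨{U | (U : X.Opens) ≤ f ⁻¹ᵁ (V : S.Opens)},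
      ?_, fun U _ h => H U V h⟩⟩
    · rw [eq_top_iff]
      intro y _
      obtain ⟨V, hV, hyV, -⟩ := Opens.isBasis_iff_nbhd.mp S.isBasis_affineOpens
        (show y ∈ (⊤ : S.Opens) from trivial)
      exact Opens.mem_iSup.mpr ⟨⟨V, hV⟩, Opens.mem_iSup.mpr ⟨Set.mem_univ _, hyV⟩⟩
    · apply le_antisymm
      · exact iSup₂_le (fun U hU => hU)
      · intro x hx
        obtain ⟨U, hU, hxU, hUV⟩ := Opens.isBasis_iff_nbhd.mp X.isBasis_affineOpens hx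
        exact Opens.mem_iSup.mpr ⟨⟨U, hU⟩, Opens.mem_iSup.mpr ⟨hUV, hxU⟩⟩

end

end Groth.Agent.Lib.RelPCbH3
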