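import Mathlib
import Groth.Prelude
import Groth.Agent.Lib.RelPCe_helper3

/-!
# Relative pseudo-coherence, part f: the all-charts criterion and triangles; `main6204` (helper3)
-/

set_option autoImplicit false
set_option linter.all false
set_option maxHeartbeats 1600000
set_option backward.isDefEq.respectTransparency false
set_option backward.isDefEq.respectTransparency.types false
set_option backward.defeqAttrib.useBackward true

universe u
open CategoryTheory CategoryTheory.Limits AlgebraicGeometry Opposite TopologicalSpace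
open CategoryTheory.Pretriangulated

attribute [local instance] HasDerivedCategory.standard

namespace Groth.Agent.Lib.RelPCbH3

open Groth.Agent.Lib.DCohLocLead DerivedCategory Groth.Agent.Lib.FpqcPCH3
  Groth.Agent.Lib.FinPushPCH3 Groth.Agent.Lib.BCOpenL Groth.Agent.Lib.RelPCaH3
  Groth.Agent.Lib.DMod_helper6 Groth.Agent.Lib.TildePCH3 Groth.Agent.Lib.TildeAmpL DRing

noncomputable section

local instance hasRpushInst8 {X Y : Scheme.{u}} (f : X ⟶ Y) : DCoh.HasRpush f := hasRpush f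

variable {X S : Scheme.{u}} (f : X ⟶ S)

/-- **the all-charts criterion** -/
theorem relPC_iff_forall_gpc [LocallyOfFiniteType f] (m : ℤ) (E : DCoh.D X) :
    DerSch.IsPseudoCoherentRel f m E ↔
      ∀ (U : X.affineOpens) (V : S.affineOpens) (h : (U : X.Opens) ≤ f ⁻¹ᵁ (V : S.Opens))
        {n : ℕ} (φ : MvPolynomial (Fin n) Γ(S, (V : S.Opens)) →+* Γ(X, (U : X.Opens))),
        DerSch.IsChart f (U : X.Opens) (V : S.Opens) h φ → GPC m E (U : X.Opens) φ := by
  rw [main7208]
  constructor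
  · intro H U V h n φ hφ
    obtain ⟨n', φ', hφ', hE'⟩ := H U V h
    rw [chartPC_iff_gpc m E U.1 U.2 V.1 φ' hφ'.1] at hE'
    exact gpc_presentation U.1 φ' hφ'.1 φ hφ.1 (hφ'.2.trans hφ.2.symm) m E hE'
  · intro H U V h
    obtain ⟨n, φ, hφ⟩ := exists_isChart f U.1 V.1 h
      (LocallyOfFiniteType.finiteType_appLE f V.2 U.2 h)
    refine ⟨n, φ, hφ, ?_⟩
    rw [chartPC_iff_gpc m E U.1 U.2 V.1 φ hφ.1]
    exact H U V h φ hφ

section Tri

variable (U : X.Opens) {B : Type u} [CommRing B] (β : B →+* Γ(X, U)) [IsClosedImmersion (cImm U β)]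

/-- the exact functor computing `R(cImm U β)_* (-|_U)` -/
abbrev chartD : DCoh.D X ⥤ DCoh.D (Spec (CommRingCat.of B)) :=
  DD U.ι ⋙ (Scheme.Modules.pushforward (cImm U β)).mapDerivedCategory

theorem gpc_iff_chartD (m : ℤ) (E : DCoh.D X) :
    GPC m E U β ↔ DCoh.IsPseudoCoherentD m ((chartD U β).obj E) := by
  let e := (Groth.Agent.Lib.ProjFormulaH3.RpushIsoMapD (cImm U β)).app ((DD U.ι).obj E)
  exact ⟨fun h => isPC_of_iso e h, fun h => isPC_of_iso e.symm h⟩

theorem gpc_triangle (m : ℤ) (T : Triangle (DCoh.D X)) (hT : T ∈ distinguishedTriangles) :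
    (GPC (m + 1) T.obj₁ U β → GPC m T.obj₂ U β → GPC m T.obj₃ U β) ∧
    (GPC m T.obj₁ U β → GPC m T.obj₃ U β → GPC m T.obj₂ U β) ∧
    (GPC (m + 1) T.obj₂ U β → GPC m T.obj₃ U β → GPC (m + 1) T.obj₁ U β) := by
  have h1 := (DD U.ι).map_distinguished _ hT
  have h2 := (Scheme.Modules.pushforward (cImm U β)).mapDerivedCategory.map_distinguished _ h1
  simp only [gpc_iff_chartD]
  exact main889 m _ h2

end Tri

theorem main6204 [LocallyOfFiniteType f] (n : ℤ)
    (T : Triangle (DCoh.D X)) (hT : T ∈ distinguishedTriangles) :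
    (DerSch.IsPseudoCoherentRel f (n + 1) T.obj₁ → DerSch.IsPseudoCoherentRel f n T.obj₂ →
        DerSch.IsPseudoCoherentRel f n T.obj₃) ∧
      (DerSch.IsPseudoCoherentRel f n T.obj₁ → DerSch.IsPseudoCoherentRel f n T.obj₃ →
        DerSch.IsPseudoCoherentRel f n T.obj₂) ∧
      (DerSch.IsPseudoCoherentRel f n T.obj₂ → DerSch.IsPseudoCoherentRel f (n - 1) T.obj₃ →
        DerSch.IsPseudoCoherentRel f n T.obj₁) := by
  simp only [relPC_iff_forall_gpc]
  refine ⟨fun h₁ h₂ U V h k φ hφ => ?_, fun h₁ h₃ U V h k φ hφ => ?_,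
    fun h₂ h₃ U V h k φ hφ => ?_⟩
  · haveI := isClosedImmersion_cImm U.1 U.2 φ hφ.1
    exact (gpc_triangle U.1 φ n T hT).1 (h₁ U V h φ hφ) (h₂ U V h φ hφ)
  · haveI := isClosedImmersion_cImm U.1 U.2 φ hφ.1
    exact (gpc_triangle U.1 φ n T hT).2.1 (h₁ U V h φ hφ) (h₃ U V h φ hφ)
  · haveI := isClosedImmersion_cImm U.1 U.2 φ hφ.1
    have h' := (gpc_triangle U.1 φ (n - 1) T hT).2.2
    rw [show n - 1 + 1 = n by ring] at h'
    exact h' (h₂ U V h φ hφ) (h₃ U V h φ hφ)

end

end Groth.Agent.Lib.RelPCbH3
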