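import Mathlib
import Groth.Prelude
import Groth.Agent.Lib.RelPCf_helper3
import Groth.Agent.Lib.RelPCQc2_helper3

/-!
# Relative pseudo-coherence, part g: pseudo-coherence descends along a closed immersion with
pseudo-coherent structure sheaf (helper3)

* `isPC_of_Rpush_closedImmersion`: for a closed immersion `j` with `j_* O` pseudo-coherent,
  `Rj_* K` `m`-pseudo-coherent implies `K` `m`-pseudo-coherent (no quasi-coherence or boundedness
  assumption).
-/

set_option autoImplicit false
set_option linter.all false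
set_option maxHeartbeats 1600000
set_option backward.isDefEq.respectTransparency false
set_option backward.isDefEq.respectTransparency.types false
set_option backward.defeqAttrib.useBackward true

universe u
open CategoryTheory CategoryTheory.Limits AlgebraicGeometry Opposite TopologicalSpace
open CategoryTheory.Pretriangulated

attribute [local instance] HasDerivedCategory.standard

namespace Groth.Agent.Lib.RelPCaH3

open Groth.Agent.Lib.DCohLocLead DerivedCategory Groth.Agent.Lib.FpqcPCH3
  Groth.Agent.Lib.FinPushPCH3 Groth.Agent.Lib.BCOpenL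

noncomputable section

section Zero

variable {X : Scheme.{u}}

theorem isZero_of_isIso_of_isZero {C : Type*} [Category C] [HasZeroMorphisms C] {A B : C}
    (g : A ⟶ B) [IsIso g] (hA : IsZero A) : IsZero B :=
  IsZero.of_iso hA (asIso g).symm

theorem isZero_of_epi_of_isZero {C : Type*} [Category C] [HasZeroMorphisms C] {A B : C}
    (g : A ⟶ B) [Epi g] (hA : IsZero A) : IsZero B := by
  rw [IsZero.iff_id_eq_zero, ← cancel_epi g]
  exact hA.eq_of_src _ _

theorem Lt_of_isApprox_of_Lt {C : Type*} [Category C] [Abelian C] [HasDerivedCategory C]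
    {A B : DerivedCategory C} (α : A ⟶ B) (m N : ℤ) (hα : IsApprox m α) (hA : Lt N A)
    (hmN : m ≤ N) : Lt N B := by
  intro i hi
  rcases (show m = i ∨ m < i by omega) with h' | h'
  · subst h'
    haveI := hα.2
    exact isZero_of_epi_of_isZero ((homologyFunctor C m).map α) (hA m hi)
  · haveI := hα.1 i h'
    exact isZero_of_isIso_of_isZero ((homologyFunctor C i).map α) (hA i hi)

end Zero

section Lpull

variable {X Y : Scheme.{u}} (f : X ⟶ Y)

theorem Lt_Lpull [DCoh.HasLpull f] (K : DCoh.D Y) (N : ℤ) (h : Lt N K) :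
    Lt N ((DCoh.Lpull f).obj K) := by
  obtain ⟨A₀, B₀, hA, hB, a, u, v, hfac⟩ := Groth.Agent.Lib.LpullPCH3.exists_arrow_rep (𝟙 K)
  have h1 : Lt N (Q.obj A₀) := h.of_iso u.symm
  have h2 := Groth.Agent.Lib.LpullPCH3.Lt_pullCx f A₀ hA N h1
  exact h2.of_iso ((Groth.Agent.Lib.LpullLocH3.LpullQIso f A₀ hA).symm ≪≫
    (DCoh.Lpull f).mapIso u)

end Lpull

section Closed

variable {Z' Z : Scheme.{u}} (j : Z' ⟶ Z) [IsClosedImmersion j]

theorem isZero_of_isZero_pushforward (N : Z'.Modules)
    (h : IsZero ((Scheme.Modules.pushforward j).obj N)) : IsZero N := by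
  apply Groth.Agent.Lib.RelPCQcH3.isZero_of_vanOn_cover N
  intro x
  refine ⟨⊤, trivial, ?_⟩
  have h1 : Groth.Agent.Lib.RelPCQcH3.VanOn ((Scheme.Modules.pushforward j).obj N) ⊤ :=
    fun T _ t => sections_eq_zero_of_isZero h T t
  exact Groth.Agent.Lib.RelPCQcH3.vanOn_of_pushforward j N ⊤ h1

/-- the exact functor `D(j_*)` -/
abbrev pushD : DCoh.D Z' ⥤ DCoh.D Z := (Scheme.Modules.pushforward j).mapDerivedCategory

theorem Lt_of_Lt_pushD (K : DCoh.D Z') (N : ℤ) (h : Lt N ((pushD j).obj K)) : Lt N K := by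
  intro i hi
  obtain ⟨e⟩ := nonempty_homology_mapExact_iso (Scheme.Modules.pushforward j) K i
  exact isZero_of_isZero_pushforward j _ ((h i hi).of_iso e.symm)

theorem isPC_pushD_iff [DCoh.HasRpush j] (K : DCoh.D Z') (m : ℤ) :
    DCoh.IsPseudoCoherentD m ((pushD j).obj K) ↔
      DCoh.IsPseudoCoherentD m ((DCoh.Rpush j).obj K) := by
  let e := (Groth.Agent.Lib.ProjFormulaH3.RpushIsoMapD j).app K
  exact ⟨fun h => isPC_of_iso e.symm h, fun h => isPC_of_iso e h⟩

/-- the bounded case, by induction -/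
theorem isPC_of_pushD_of_Lt (hO : PushOPC j) :
    ∀ (d : ℕ) (N m : ℤ) (K : DCoh.D Z'), N - m ≤ d → Lt N K →
      DCoh.IsPseudoCoherentD m ((pushD j).obj K) → DCoh.IsPseudoCoherentD m K
  | 0 => fun N m K hd hK _ => isPC_of_Lt m K (hK.mono (by omega))
  | (d + 1) => fun N m K hd hK hpc => by
    by_cases hNm : N ≤ m
    · exact isPC_of_Lt m K (hK.mono hNm)
    haveI := hasRpush j
    haveI := Groth.Agent.Lib.LpullExH3.hasLpull j
    obtain ⟨adj⟩ := Groth.Agent.Lib.LpullAdjH3.nonempty_adj j
    let φ := Groth.Agent.Lib.ProjFormulaH3.RpushIsoMapD j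
    let L : DCoh.D Z' := (DCoh.Lpull j).obj ((DCoh.Rpush j).obj K)
    let ε : L ⟶ K := adj.counit.app K
    have hpc' : DCoh.IsPseudoCoherentD m ((DCoh.Rpush j).obj K) := (isPC_pushD_iff j K m).mp hpc
    have hL : DCoh.IsPseudoCoherentD m L := Groth.Agent.Lib.LpullPCH3.isPC_Lpull j m _ hpc'
    have hLN : Lt N L := by
      apply Lt_Lpull
      exact (hK.mapExact (Scheme.Modules.pushforward j)).of_iso (φ.app K).symm
    obtain ⟨F, a, δ, hT⟩ := distinguished_cocone_triangle₁ ε
    have hT' := (pushD j).map_distinguished _ hT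
    -- `D(j_*) ε` is a split epimorphism
    let s : (pushD j).obj K ⟶ (pushD j).obj L :=
      φ.inv.app K ≫ adj.unit.app ((DCoh.Rpush j).obj K) ≫ φ.hom.app L
    have hs : s ≫ (pushD j).map ε = 𝟙 _ := by
      have h1 : (pushD j).map ε = φ.inv.app L ≫ (DCoh.Rpush j).map ε ≫ φ.hom.app K := by
        rw [← Category.assoc, ← φ.inv.naturality ε, Category.assoc, Iso.inv_hom_id_app,
          Category.comp_id]
      have h2 := adj.right_triangle_components K
      calc s ≫ (pushD j).map ε = φ.inv.app K ≫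
            (adj.unit.app _ ≫ (DCoh.Rpush j).map ε) ≫ φ.hom.app K := by
              rw [h1]
              simp only [s, Category.assoc, Iso.hom_inv_id_app_assoc]
        _ = 𝟙 _ := by
              rw [h2]
              simp only [Category.id_comp, Iso.inv_hom_id_app]
    have h0 : ((pushD j).mapTriangle.obj (Triangle.mk a ε δ)).mor₃ = 0 := by
      have h1 := comp_distTriang_mor_zero₂₃ _ hT'
      have h2 : ((pushD j).mapTriangle.obj (Triangle.mk a ε δ)).mor₂ = (pushD j).map ε := rfl
      rw [h2] at h1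
      calc _ = (s ≫ (pushD j).map ε) ≫
            ((pushD j).mapTriangle.obj (Triangle.mk a ε δ)).mor₃ := by
              rw [hs, Category.id_comp]
        _ = 0 := by rw [Category.assoc, h1, comp_zero]
    obtain ⟨e, -, -⟩ := exists_iso_binaryBiproduct_of_distTriang _ hT' h0
    have e' : (pushD j).obj L ≅ (pushD j).obj F ⊞ (pushD j).obj K := e
    -- `D(j_*) L` is `m`-pseudo-coherent
    have hGL : DCoh.IsPseudoCoherentD m ((pushD j).obj L) :=
      (isPC_pushD_iff j L m).mpr (isPC_Rpush_of_closedImmersion j hO L m hL)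
    have hGF : DCoh.IsPseudoCoherentD m ((pushD j).obj F) :=
      (main888 m _ _ (isPC_of_iso e' hGL)).1
    have hFN : Lt N F := by
      apply Lt_of_Lt_pushD j
      refine Lt.of_retract (hLN.mapExact (Scheme.Modules.pushforward j))
        (biprod.inl ≫ e'.inv) (e'.hom ≫ biprod.fst) ?_
      rw [Category.assoc, Iso.inv_hom_id_assoc, biprod.inl_fst]
    have hF : DCoh.IsPseudoCoherentD (m + 1) F :=
      isPC_of_pushD_of_Lt hO d N (m + 1) F (by omega) hFN (isPC_mono hGF (by omega))
    exact (main889 m _ hT).1 hF hL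

end Closed

end

end Groth.Agent.Lib.RelPCaH3
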