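import Mathlib
import Groth.Prelude
import Groth.Agent.Lib.RelPCg_helper3

/-!
# Relative pseudo-coherence, part g2: `Rj_* K` pseudo-coherent iff `K` pseudo-coherent, for a
closed immersion `j` with `j_* O` pseudo-coherent (helper3)
-/

set_option autoImplicit false
set_option linter.all false
set_option maxHeartbeats 1600000
set_option backward.isDefEq.respectTransparency false
set_option backward.isDefEq.respectTransparency.types false
set_option backward.defeqAttrib.useBackward true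

universe u
open CategoryTheory CategoryTheory.Limits AlgebraicGeometry Opposite TopologicalSpace
open CategoryTheory.Pretriangulated

attribute [local instance] HasDerivedCategory.standard

namespace Groth.Agent.Lib.RelPCaH3

open Groth.Agent.Lib.DCohLocLead DerivedCategory Groth.Agent.Lib.FpqcPCH3
  Groth.Agent.Lib.FinPushPCH3 Groth.Agent.Lib.BCOpenL

noncomputable section

variable {Z' Z : Scheme.{u}} (j : Z' ⟶ Z) [IsClosedImmersion j]

/-- **descent of pseudo-coherence along a closed immersion with pseudo-coherent `j_* O`** -/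
theorem isPC_of_Rpush_closedImmersion [DCoh.HasRpush j] (hO : PushOPC j) (K : DCoh.D Z') (m : ℤ)
    (hpc : DCoh.IsPseudoCoherentD m ((DCoh.Rpush j).obj K)) : DCoh.IsPseudoCoherentD m K := by
  refine isPC_of_pointwise m K (fun z' => ?_)
  obtain ⟨W, hzW, E, α, hE, hα⟩ := (isPC_iff m _).1 hpc (j z')
  obtain ⟨⟨a, b, hv⟩, hfl⟩ := hE
  haveI := hasRpush (j ∣_ W)
  obtain ⟨b1⟩ := main6508 j W
  have h1 : Lt (b + 1) (Q.obj E) := Lt_Q_obj_of_isZero E (b + 1) (fun i hi => hv i (Or.inr (by omega)))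
  have h2 : Lt (max (b + 1) m) ((DD W.ι).obj ((DCoh.Rpush j).obj K)) :=
    Lt_of_isApprox_of_Lt α m _ hα (h1.mono (le_max_left _ _)) (le_max_right _ _)
  have h3 : Lt (max (b + 1) m) ((DCoh.Rpush (j ∣_ W)).obj ((DD (j ⁻¹ᵁ W).ι).obj K)) :=
    h2.of_iso (b1.app K)
  have h4 : Lt (max (b + 1) m) ((pushD (j ∣_ W)).obj ((DD (j ⁻¹ᵁ W).ι).obj K)) :=
    h3.of_iso ((Groth.Agent.Lib.ProjFormulaH3.RpushIsoMapD (j ∣_ W)).app _)
  have h5 := Lt_of_Lt_pushD (j ∣_ W) _ _ h4
  have h6 : DCoh.IsPseudoCoherentD m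
      ((DCoh.Rpush (j ∣_ W)).obj ((DD (j ⁻¹ᵁ W).ι).obj K)) :=
    isPC_of_iso (b1.app K) (isPC_restrict hpc W.ι)
  refine ⟨_, (j ⁻¹ᵁ W).ι, inferInstance, ⟨⟨z', hzW⟩, rfl⟩, ?_⟩
  exact isPC_of_pushD_of_Lt (j ∣_ W) (pushOPC_restrict j hO W)
    (max (b + 1) m - m).toNat (max (b + 1) m) m _ (by
      have := Int.self_le_toNat (max (b + 1) m - m)
      omega) h5 ((isPC_pushD_iff (j ∣_ W) _ m).mpr h6)

theorem isPC_Rpush_closedImmersion_iff [DCoh.HasRpush j] (hO : PushOPC j) (K : DCoh.D Z')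
    (m : ℤ) :
    DCoh.IsPseudoCoherentD m ((DCoh.Rpush j).obj K) ↔ DCoh.IsPseudoCoherentD m K :=
  ⟨isPC_of_Rpush_closedImmersion j hO K m, isPC_Rpush_of_closedImmersion j hO K m⟩

end

end Groth.Agent.Lib.RelPCaH3
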