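import Mathlib
import Groth.Prelude
import Groth.Agent.Lib.RelPCg2_helper3

/-!
# Relative pseudo-coherence, part h: pseudo-coherent morphisms; `main6207` (helper3)
-/

set_option autoImplicit false
set_option linter.all false
set_option maxHeartbeats 1600000
set_option backward.isDefEq.respectTransparency false
set_option backward.isDefEq.respectTransparency.types false
set_option backward.defeqAttrib.useBackward true

universe u
open CategoryTheory CategoryTheory.Limits AlgebraicGeometry Opposite TopologicalSpace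
open CategoryTheory.Pretriangulated

attribute [local instance] HasDerivedCategory.standard

namespace Groth.Agent.Lib.RelPCbH3

open Groth.Agent.Lib.DCohLocLead DerivedCategory Groth.Agent.Lib.FpqcPCH3
  Groth.Agent.Lib.FinPushPCH3 Groth.Agent.Lib.BCOpenL Groth.Agent.Lib.RelPCaH3
  Groth.Agent.Lib.DMod_helper6 Groth.Agent.Lib.TildePCH3 Groth.Agent.Lib.TildeAmpL DRing

noncomputable section

local instance hasRpushInst9 {X Y : Scheme.{u}} (f : X ⟶ Y) : DCoh.HasRpush f := hasRpush f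

section Unit

variable {X : Scheme.{u}} (U : X.Opens) {B : Type u} [CommRing B] (β : B →+* Γ(X, U))

/-- `R(cImm U β)_* (O_X|_U) ≅ (cImm U β)_* O_U` -/
theorem nonempty_RP_unit_iso [IsClosedImmersion (cImm U β)] :
    Nonempty ((RP (cImm U β)).obj ((DD U.ι).obj (DCoh.toD X (DerSch.unitCx X))) ≅
      DCoh.inD (Spec (CommRingCat.of B)) ((Scheme.Modules.pushforward (cImm U β)).obj
        (Coh.structureModule (U : Scheme.{u})))) := by
  let e1 : DCoh.toD X (DerSch.unitCx X) ≅ DCoh.inD X (Coh.structureModule X) :=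
    ((singleFunctorIsoCompQ X.Modules 0).app (Coh.structureModule X)).symm
  let e2 : (DD U.ι).obj (DCoh.inD X (Coh.structureModule X)) ≅
      DCoh.inD (U : Scheme.{u}) (Coh.structureModule (U : Scheme.{u})) :=
    ((Scheme.Modules.restrictFunctor U.ι).mapDerivedCategorySingleFunctor 0).app _ ≪≫
      (DerivedCategory.singleFunctor _ 0).mapIso (Scheme.Modules.restrictUnitIso U.ι)
  obtain ⟨e3⟩ := nonempty_Rpush_inD_iso (cImm U β) (Coh.structureModule (U : Scheme.{u}))
    inferInstance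
  exact ⟨(RP (cImm U β)).mapIso ((DD U.ι).mapIso e1 ≪≫ e2) ≪≫ e3⟩

theorem pushOPC_of_gpc_unit [IsClosedImmersion (cImm U β)]
    (h : ∀ n : ℤ, GPC n (DCoh.toD X (DerSch.unitCx X)) U β) : PushOPC (cImm U β) := by
  intro n
  obtain ⟨e⟩ := nonempty_RP_unit_iso U β
  exact isPC_of_iso e (h n)

theorem gpc_unit_of_pushOPC [IsClosedImmersion (cImm U β)] (h : PushOPC (cImm U β)) (n : ℤ) :
    GPC n (DCoh.toD X (DerSch.unitCx X)) U β := by
  obtain ⟨e⟩ := nonempty_RP_unit_iso U β
  exact isPC_of_iso e.symm (h n)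

end Unit

variable {Y Z : Scheme.{u}} (g : Y ⟶ Z)

/-- for a pseudo-coherent morphism all charts have pseudo-coherent structure sheaf -/
theorem pushOPC_of_isNPseudoCoherent [LocallyOfFiniteType g]
    (hg : ∀ n : ℤ, DerSch.IsNPseudoCoherent g n) (U : Y.affineOpens) (V : Z.affineOpens)
    (h : (U : Y.Opens) ≤ g ⁻¹ᵁ (V : Z.Opens)) {n : ℕ}
    (φ : MvPolynomial (Fin n) Γ(Z, (V : Z.Opens)) →+* Γ(Y, (U : Y.Opens)))
    (hφ : DerSch.IsChart g (U : Y.Opens) (V : Z.Opens) h φ) : PushOPC (cImm U.1 φ) := by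
  haveI := isClosedImmersion_cImm U.1 U.2 φ hφ.1
  exact pushOPC_of_gpc_unit U.1 φ
    (fun k => (relPC_iff_forall_gpc g k _).mp (hg k) U V h φ hφ)

/-- for a pseudo-coherent morphism, relative and absolute pseudo-coherence agree -/
theorem isPC_iff_relPC_of_isNPseudoCoherent [LocallyOfFiniteType g]
    (hg : ∀ n : ℤ, DerSch.IsNPseudoCoherent g n) (r : ℤ) (E : DCoh.D Y) :
    DCoh.IsPseudoCoherentD r E ↔ DerSch.IsPseudoCoherentRel g r E := by
  rw [relPC_iff_forall_gpc]
  constructor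
  · intro hE U V h n φ hφ
    haveI := isClosedImmersion_cImm U.1 U.2 φ hφ.1
    exact isPC_Rpush_of_closedImmersion _ (pushOPC_of_isNPseudoCoherent g hg U V h φ hφ) _ r
      (isPC_restrict hE U.1.ι)
  · intro H
    refine isPC_of_pointwise r E (fun y => ?_)
    obtain ⟨V, hV, hyV, -⟩ := Opens.isBasis_iff_nbhd.mp Z.isBasis_affineOpens
      (show g y ∈ (⊤ : Z.Opens) from trivial)
    obtain ⟨U₀, hU, hyU, hUV⟩ := Opens.isBasis_iff_nbhd.mp Y.isBasis_affineOpens
      (show y ∈ g ⁻¹ᵁ V from hyV)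
    let U : Y.Opens := U₀
    obtain ⟨n, φ, hφ⟩ := exists_isChart g U V hUV
      (LocallyOfFiniteType.finiteType_appLE g hV hU hUV)
    haveI := isClosedImmersion_cImm U hU φ hφ.1
    refine ⟨U, U.ι, inferInstance, ⟨⟨y, hyU⟩, rfl⟩, ?_⟩
    exact isPC_of_Rpush_closedImmersion _
      (pushOPC_of_isNPseudoCoherent g hg ⟨U, hU⟩ ⟨V, hV⟩ hUV φ hφ) _ r
      (H ⟨U, hU⟩ ⟨V, hV⟩ hUV φ hφ)

theorem main6207 [LocallyOfFiniteType g] (hg : ∀ n : ℤ, DerSch.IsNPseudoCoherent g n)
    (r b : ℤ) (E : DCoh.D Y) [E.IsLE b] :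
    DCoh.IsPseudoCoherentD r E ↔ DerSch.IsPseudoCoherentRel g r E :=
  isPC_iff_relPC_of_isNPseudoCoherent g hg r E

end

end Groth.Agent.Lib.RelPCbH3
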