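import Mathlib
import Groth.Prelude
import Groth.Agent.Lib.RelPCh_helper3
import Groth.Agent.Lib.DMod37_helper6

/-!
# Relative pseudo-coherence, part i: the dictionary with the ring-level notion; `main7234` (helper3)
-/

set_option autoImplicit false
set_option linter.all false
set_option maxHeartbeats 1600000
set_option backward.isDefEq.respectTransparency false
set_option backward.isDefEq.respectTransparency.types false
set_option backward.defeqAttrib.useBackward true

universe u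
open CategoryTheory CategoryTheory.Limits AlgebraicGeometry Opposite TopologicalSpace
open CategoryTheory.Pretriangulated

attribute [local instance] HasDerivedCategory.standard

namespace Groth.Agent.Lib.RelPCbH3

open Groth.Agent.Lib.DCohLocLead DerivedCategory Groth.Agent.Lib.FpqcPCH3
  Groth.Agent.Lib.FinPushPCH3 Groth.Agent.Lib.BCOpenL Groth.Agent.Lib.RelPCaH3
  Groth.Agent.Lib.DMod_helper6 Groth.Agent.Lib.TildePCH3 Groth.Agent.Lib.TildeAmpL DRing

noncomputable section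

local instance hasRpushInst10 {X Y : Scheme.{u}} (f : X ⟶ Y) : DCoh.HasRpush f := hasRpush f

section Dict

variable {X : Scheme.{u}} (U : X.Opens) (hU : IsAffineOpen U) {B : Type u} [CommRing B]
  (β : B →+* Γ(X, U))

/-- **the dictionary**: for `M ∈ D(Γ(X, U))` with `M~ ≅ E|_U` (transported to `Spec Γ(X, U)`), the
generalised chart condition is the ring-level one -/
theorem gpc_iff_ring [PreservesFiniteLimits (tilde.functor Γ(X, U))] (m : ℤ) (E : DCoh.D X)
    (M : Dual.D Γ(X, U))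
    (e : (DCoh.tildeD Γ(X, U)).obj M ≅ (RP hU.isoSpec.hom).obj ((DD U.ι).obj E)) :
    GPC m E U β ↔ DRing.IsPseudoCoherent B m ((DRing.restrictD β).obj M) := by
  haveI instB : PreservesFiniteLimits (tilde.functor (CommRingCat.of B)) :=
    Groth.Agent.Lib.LpullQCL.preservesFiniteLimits_tilde B
  obtain ⟨c⟩ := Groth.Agent.Lib.DSectX.nonempty_iso_7268 (R := CommRingCat.of B)
    (S := Γ(X, U)) (CommRingCat.ofHom β)
  have hfac : cImm U β = hU.isoSpec.hom ≫ Spec.map (CommRingCat.ofHom β) := rfl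
  obtain ⟨b1⟩ := nonempty_Rpush_congr hfac
  obtain ⟨b2⟩ := Groth.Agent.Lib.LpullAdjH3.nonempty_Rpush_comp_iso hU.isoSpec.hom
    (Spec.map (CommRingCat.ofHom β))
  have i1 : (RP (cImm U β)).obj ((DD U.ι).obj E) ≅
      (DCoh.tildeD (CommRingCat.of B)).obj ((DRing.restrictD β).obj M) :=
    b1.app _ ≪≫ (b2.app _).symm ≪≫
      (RP (Spec.map (CommRingCat.ofHom β))).mapIso e.symm ≪≫ c.app M
  rw [← main1004 B _ m]
  exact ⟨fun h => isPC_of_iso i1 h, fun h => isPC_of_iso i1.symm h⟩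

/-- `R(isoSpec)_* (E|_U) ≅ E|_{Spec Γ(X, U)}` -/
theorem nonempty_RP_isoSpec_iso (E : DCoh.D X) :
    Nonempty ((RP hU.isoSpec.hom).obj ((DD U.ι).obj E) ≅ (DD hU.fromSpec).obj E) := by
  obtain ⟨b7⟩ := Groth.Agent.Lib.RpushQCL.nonempty_Rpush_iso_restrictD hU.isoSpec.hom
  have hinv : inv hU.isoSpec.hom = hU.isoSpec.inv := IsIso.Iso.inv_hom hU.isoSpec
  obtain ⟨b10⟩ := nonempty_DD_congr hinv ((DD U.ι).obj E)
  obtain ⟨b3⟩ := nonempty_DD_comp_iso hU.isoSpec.inv U.ι E
  exact ⟨b7.app _ ≪≫ b10 ≪≫ b3.symm⟩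

/-- for `E` with quasi-coherent cohomology there is an `M` as in the dictionary -/
theorem exists_ring_rep [PreservesFiniteLimits (tilde.functor Γ(X, U))] (E : DCoh.D X)
    (hE : DCoh.IsQCohD E) :
    ∃ M : Dual.D Γ(X, U), Nonempty ((DCoh.tildeD Γ(X, U)).obj M ≅
      (RP hU.isoSpec.hom).obj ((DD U.ι).obj E)) := by
  obtain ⟨b⟩ := nonempty_RP_isoSpec_iso U hU E
  have hq : DCoh.IsQCohD ((DD hU.fromSpec).obj E) :=
    Groth.Agent.Lib.LpullQCL.isQCohD_restrictD hU.fromSpec E hE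
  obtain ⟨N, ⟨eN⟩⟩ := ((Groth.Agent.Lib.DSectX.main0997 Γ(X, U)).2.2 _).mp hq
  exact ⟨N, ⟨eN ≪≫ b.symm⟩⟩

end Dict

end

end Groth.Agent.Lib.RelPCbH3
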