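import Mathlib
import Groth.Prelude
import Groth.Agent.Lib.RelPCf_helper3
import Groth.Agent.Lib.RelPCi_helper3

/-!
# Relative pseudo-coherence, part k: restriction to opens of the source (helper3)

* `gpc_resLE_iff`: transport of the generalised chart condition along an open immersion.
* `main6202`, `main6203`: relative pseudo-coherence is local on the source.
-/

set_option autoImplicit false
set_option linter.all false
set_option maxHeartbeats 1600000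
set_option backward.isDefEq.respectTransparency false
set_option backward.isDefEq.respectTransparency.types false
set_option backward.defeqAttrib.useBackward true

universe u
open CategoryTheory CategoryTheory.Limits AlgebraicGeometry Opposite TopologicalSpace
open CategoryTheory.Pretriangulated

attribute [local instance] HasDerivedCategory.standard

namespace Groth.Agent.Lib.RelPCbH3

open Groth.Agent.Lib.DCohLocLead DerivedCategory Groth.Agent.Lib.FpqcPCH3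
  Groth.Agent.Lib.FinPushPCH3 Groth.Agent.Lib.BCOpenL Groth.Agent.Lib.RelPCaH3
  Groth.Agent.Lib.DMod_helper6 Groth.Agent.Lib.TildePCH3 Groth.Agent.Lib.TildeAmpL DRing

noncomputable section

local instance hasRpushInst13 {X Y : Scheme.{u}} (f : X ⟶ Y) : DCoh.HasRpush f := hasRpush f

theorem gpc_of_iso {X : Scheme.{u}} {E E' : DCoh.D X} (e : E ≅ E') (m : ℤ) (U : X.Opens)
    {B : Type u} [CommRing B] (β : B →+* Γ(X, U)) (h : GPC m E U β) : GPC m E' U β :=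
  isPC_of_iso ((RP (cImm U β)).mapIso ((DD U.ι).mapIso e)) h

section OpenTransfer

variable {X₀ X : Scheme.{u}} (j : X₀ ⟶ X) [IsOpenImmersion j] (U' : X₀.Opens) (U'' : X.Opens)
  (hle : U' ≤ j ⁻¹ᵁ U'')

theorem isOpenImmersion_resLE : IsOpenImmersion (j.resLE U'' U' hle) := by
  haveI : IsOpenImmersion (j.resLE U'' U' hle ≫ U''.ι) := by
    rw [Scheme.Hom.resLE_comp_ι]
    infer_instance
  exact IsOpenImmersion.of_comp _ U''.ι

theorem isIso_resLE (hsurj : ∀ y ∈ U'', ∃ x : X₀, x ∈ U' ∧ j x = y) :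
    IsIso (j.resLE U'' U' hle) := by
  rw [isIso_iff_isOpenImmersion_and_surjective]
  refine ⟨isOpenImmersion_resLE j U' U'' hle, ⟨fun y => ?_⟩⟩
  obtain ⟨x, hx, hxy⟩ := hsurj y.1 y.2
  refine ⟨⟨x, hx⟩, Subtype.ext ?_⟩
  rw [Scheme.Hom.coe_resLE_apply]
  exact hxy

theorem bijective_appLE_of_isIso_resLE (hU' : IsAffineOpen U') (hU'' : IsAffineOpen U'')
    [IsIso (j.resLE U'' U' hle)] : Function.Bijective (j.appLE U'' U' hle).hom := by
  rw [← isIso_SpecMap_iff]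
  haveI : IsIso U'.toSpecΓ := by
    rw [← IsAffineOpen.isoSpec_hom hU']
    infer_instance
  haveI : IsIso U''.toSpecΓ := by
    rw [← IsAffineOpen.isoSpec_hom hU'']
    infer_instance
  haveI : IsIso (U'.toSpecΓ ≫ Spec.map (j.appLE U'' U' hle)) := by
    rw [Scheme.Opens.toSpecΓ_SpecMap_appLE]
    infer_instance
  exact IsIso.of_isIso_comp_left U'.toSpecΓ _

variable {B : Type u} [CommRing B] (φ : B →+* Γ(X, U''))

theorem cImm_appLE_comp :
    cImm U' ((j.appLE U'' U' hle).hom.comp φ) = j.resLE U'' U' hle ≫ cImm U'' φ := by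
  unfold cImm
  rw [← Scheme.Opens.toSpecΓ_SpecMap_appLE_assoc, ← Spec.map_comp]
  rfl

theorem gpc_resLE_iff [IsIso (j.resLE U'' U' hle)] (m : ℤ) (E : DCoh.D X) :
    GPC m ((DD j).obj E) U' ((j.appLE U'' U' hle).hom.comp φ) ↔ GPC m E U'' φ := by
  let r := j.resLE U'' U' hle
  let e : (U' : Scheme.{u}) ≅ (U'' : Scheme.{u}) := asIso r
  haveI : IsOpenImmersion r := inferInstance
  obtain ⟨b1⟩ := nonempty_Rpush_congr (cImm_appLE_comp j U' U'' hle φ)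
  obtain ⟨b2⟩ := Groth.Agent.Lib.LpullAdjH3.nonempty_Rpush_comp_iso r (cImm U'' φ)
  obtain ⟨b3⟩ := Groth.Agent.Lib.RpushQCL.nonempty_Rpush_iso_restrictD r
  obtain ⟨c1⟩ := nonempty_DD_comp_iso U'.ι j E
  obtain ⟨c2⟩ := nonempty_DD_congr (Scheme.Hom.resLE_comp_ι j hle).symm E
  obtain ⟨c3⟩ := nonempty_DD_comp_iso r U''.ι E
  obtain ⟨c4⟩ := nonempty_DD_hom_inv e.symm ((DD U''.ι).obj E)
  have i : (RP (cImm U' ((j.appLE U'' U' hle).hom.comp φ))).obj
      ((DD U'.ι).obj ((DD j).obj E)) ≅ (RP (cImm U'' φ)).obj ((DD U''.ι).obj E) :=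
    b1.app _ ≪≫ (b2.app _).symm ≪≫ (RP (cImm U'' φ)).mapIso
      (b3.app _ ≪≫ (DD (inv r)).mapIso (c1.symm ≪≫ c2 ≪≫ c3) ≪≫ c4)
  exact ⟨fun h => isPC_of_iso i h, fun h => isPC_of_iso i.symm h⟩

end OpenTransfer

section Main

variable {X Y : Scheme.{u}} (f : X ⟶ Y)

/-- transporting a chart of `f` on `U''` to a chart of `j ≫ f` on `U'` -/
theorem isChart_appLE_comp {X₀ : Scheme.{u}} (j : X₀ ⟶ X) [IsOpenImmersion j] (U' : X₀.Opens)
    (U'' : X.Opens) (hle : U' ≤ j ⁻¹ᵁ U'') (V : Y.Opens) (h'' : U'' ≤ f ⁻¹ᵁ V)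
    (hUV : U' ≤ (j ≫ f) ⁻¹ᵁ V) (hbij : Function.Bijective (j.appLE U'' U' hle).hom) {k : ℕ}
    (φ : MvPolynomial (Fin k) Γ(Y, V) →+* Γ(X, U'')) (hφ : DerSch.IsChart f U'' V h'' φ) :
    DerSch.IsChart (j ≫ f) U' V hUV ((j.appLE U'' U' hle).hom.comp φ) := by
  refine ⟨hbij.surjective.comp hφ.1, ?_⟩
  rw [RingHom.comp_assoc, hφ.2, ← CommRingCat.hom_comp, Scheme.Hom.appLE_comp_appLE]

theorem main6202 (n : ℤ) (E : CochainComplex X.Modules ℤ)
    (hE : DerSch.IsPseudoCoherentRel f n (DCoh.toD X E)) (U : X.Opens) :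
    DerSch.IsPseudoCoherentRel (U.ι ≫ f) n
      (DCoh.toD (U : Scheme.{u}) ((DCoh.restrictCx U).obj E)) := by
  haveI : LocallyOfFiniteType f := hE.1
  haveI : LocallyOfFiniteType (U.ι ≫ f) := inferInstance
  rw [relPC_iff_forall_gpc] at hE
  rw [main7208]
  intro U' V hUV
  let U'' : X.affineOpens := ⟨U.ι ''ᵁ U'.1, U'.2.image_of_isOpenImmersion U.ι⟩
  have hle : U'.1 ≤ U.ι ⁻¹ᵁ U''.1 := (Scheme.Hom.preimage_image_eq U.ι U'.1).ge
  have h'' : U''.1 ≤ f ⁻¹ᵁ V.1 := by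
    rintro _ ⟨x, hx, rfl⟩
    exact hUV hx
  obtain ⟨k, φ, hφ⟩ := exists_isChart f U''.1 V.1 h''
    (LocallyOfFiniteType.finiteType_appLE f V.2 U''.2 h'')
  haveI : IsIso (U.ι.resLE U''.1 U'.1 hle) := isIso_resLE _ _ _ hle (by
    rintro _ ⟨x, hx, rfl⟩
    exact ⟨x, hx, rfl⟩)
  have hbij := bijective_appLE_of_isIso_resLE U.ι U'.1 U''.1 hle U'.2 U''.2
  have hchart := isChart_appLE_comp f U.ι U'.1 U''.1 hle V.1 h'' hUV hbij φ hφ
  refine ⟨k, _, hchart, ?_⟩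
  rw [chartPC_iff_gpc n _ U'.1 U'.2 V.1 _ hchart.1]
  exact gpc_of_iso (facIso U.ι E) n U'.1 _
    ((gpc_resLE_iff U.ι U'.1 U''.1 hle φ n _).mpr (hE U'' V h'' φ hφ))

theorem main6203 [LocallyOfFiniteType f] (n : ℤ)
    (E : CochainComplex X.Modules ℤ) {ι : Type u} (U : ι → X.Opens) (hU : ⨆ i, U i = ⊤)
    (h : ∀ i : ι, DerSch.IsPseudoCoherentRel ((U i).ι ≫ f) n
      (DCoh.toD (U i : Scheme.{u}) ((DCoh.restrictCx (U i)).obj E))) :
    DerSch.IsPseudoCoherentRel f n (DCoh.toD X E) := by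
  refine ⟨inferInstance, Set.univ, ?_, fun V _ =>
    ⟨{U'' | (U'' : X.Opens) ≤ f ⁻¹ᵁ (V : Y.Opens) ∧ ∃ i, (U'' : X.Opens) ≤ U i}, ?_, ?_⟩⟩
  · rw [eq_top_iff]
    intro y _
    obtain ⟨V, hV, hyV, -⟩ := Opens.isBasis_iff_nbhd.mp Y.isBasis_affineOpens
      (show y ∈ (⊤ : Y.Opens) from trivial)
    exact Opens.mem_iSup.mpr ⟨⟨V, hV⟩, Opens.mem_iSup.mpr ⟨Set.mem_univ _, hyV⟩⟩
  · apply le_antisymm
    · exact iSup₂_le (fun U'' hU'' => hU''.1)
    · intro x hx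
      have hx' : x ∈ (⨆ i, U i) := by rw [hU]; trivial
      obtain ⟨i, hi⟩ := Opens.mem_iSup.mp hx'
      obtain ⟨U'', hU'', hxU'', hle⟩ := Opens.isBasis_iff_nbhd.mp X.isBasis_affineOpens
        (show x ∈ f ⁻¹ᵁ (V : Y.Opens) ⊓ U i from ⟨hx, hi⟩)
      exact Opens.mem_iSup.mpr ⟨⟨U'', hU''⟩, Opens.mem_iSup.mpr
        ⟨⟨hle.trans inf_le_left, i, hle.trans inf_le_right⟩, hxU''⟩⟩
  · rintro U'' ⟨-, i, hi⟩ h''
    haveI : LocallyOfFiniteType ((U i).ι ≫ f) := inferInstance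
    have Hi := (relPC_iff_forall_gpc ((U i).ι ≫ f) n _).mp (h i)
    have hrange : (U'' : X.Opens) ≤ (U i).ι.opensRange := by
      rw [Scheme.Opens.opensRange_ι]
      exact hi
    let U' : (U i : Scheme.{u}).affineOpens :=
      ⟨(U i).ι ⁻¹ᵁ U''.1, U''.2.preimage_of_isOpenImmersion _ hrange⟩
    have hle : U'.1 ≤ (U i).ι ⁻¹ᵁ U''.1 := le_rfl
    have hUV : U'.1 ≤ ((U i).ι ≫ f) ⁻¹ᵁ V.1 := fun x hx => h'' hx
    haveI : IsIso ((U i).ι.resLE U''.1 U'.1 hle) := isIso_resLE _ _ _ hle (by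
      intro y hy
      exact ⟨⟨y, hi hy⟩, hy, rfl⟩)
    obtain ⟨k, φ, hφ⟩ := exists_isChart f U''.1 V.1 h''
      (LocallyOfFiniteType.finiteType_appLE f V.2 U''.2 h'')
    have hbij := bijective_appLE_of_isIso_resLE (U i).ι U'.1 U''.1 hle U'.2 U''.2
    have hchart := isChart_appLE_comp f (U i).ι U'.1 U''.1 hle V.1 h'' hUV hbij φ hφ
    have h1 := Hi U' V hUV _ hchart
    have h2 := gpc_of_iso (facIso (U i).ι E).symm n U'.1 _ h1
    exact ⟨k, φ, hφ, (chartPC_iff_gpc n _ U''.1 U''.2 V.1 φ hφ.1).mpr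
      ((gpc_resLE_iff (U i).ι U'.1 U''.1 hle φ n _).mp h2)⟩

end Main

end

end Groth.Agent.Lib.RelPCbH3
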