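import Mathlib
import Groth.Agent.Lib.PerfHom2_helper2
import Groth.Agent.Lib.SmoothCancel_helper2

/-!
# Perfect morphisms of schemes (helper2), part 3

* `PerfR.of_comp_smooth`, `main1510`: cancellation of a smooth morphism;
* `exists_away_perfR`: a pseudo-coherent ring map whose localisation at a prime has finite tor
  dimension is perfect on a principal open neighbourhood;
* `main7174`: a pseudo-coherent morphism is perfect iff its stalk maps have finite tor dimension.
-/

set_option autoImplicit false
universe u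
open CategoryTheory CategoryTheory.Limits AlgebraicGeometry
open scoped TensorProduct
attribute [local instance] HasDerivedCategory.standard

namespace Groth.Agent.Lib.PCHom

open DRing Groth.Agent.Lib.DMod_helper6 Groth.Agent.Lib.LCIComp

section Cancel

variable {R A B : Type u} [CommRing R] [CommRing A] [CommRing B]

theorem PerfR.of_comp_smooth (φ : R →+* A) (hφ : φ.Smooth) (ψ : A →+* B)
    (h : PerfR (ψ.comp φ)) : PerfR ψ := by
  letI algRA := φ.toAlgebra
  letI algRB : Algebra R B := (ψ.comp φ).toAlgebra
  letI algAB := ψ.toAlgebra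
  haveI : IsScalarTower R A B := IsScalarTower.of_algebraMap_eq fun x => rfl
  haveI : Algebra.Smooth R A := hφ
  let κ : B →+* B ⊗[R] A := Algebra.TensorProduct.includeLeftRingHom
  let ι : A →+* B ⊗[R] A := (Algebra.TensorProduct.includeRight (R := R) (A := B) (B := A)).toRingHom
  let μA : B ⊗[R] A →ₐ[R] B :=
    Algebra.TensorProduct.productMap (AlgHom.id R B) (IsScalarTower.toAlgHom R A B)
  let μ : B ⊗[R] A →+* B := μA.toRingHom
  have hμκ : μ.comp κ = RingHom.id B := by
    refine RingHom.ext fun b => ?_
    show μA (b ⊗ₜ[R] (1 : A)) = b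
    simp [μA]
  have hμι : μ.comp ι = ψ := by
    refine RingHom.ext fun a => ?_
    show μA ((1 : B) ⊗ₜ[R] a) = ψ a
    simp [μA]
    rfl
  have hpo := CommRingCat.isPushout_tensorProduct R B A
  have hι : PerfR ι := PerfR.baseChange_of_flat (ψ.comp φ) φ κ ι hpo hφ.flat h
  have hκsm : κ.Smooth := by
    have : κ = algebraMap B (B ⊗[R] A) := rfl
    rw [this]
    exact RingHom.smooth_algebraMap.2 inferInstance
  have hid : IsLCIHom (RingHom.id B) := by
    have h' : (RingHom.id B).toAlgebra = Algebra.id B := Algebra.algebra_ext _ _ (fun r => rfl)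
    unfold IsLCIHom
    rw [h']
    exact Groth.Agent.Lib.SmoothLCI.isLCI_self
  have hμ : IsLCIHom μ :=
    Groth.Agent.Lib.SmoothCancel.isLCIHom_of_comp_smooth κ hκsm μ (by rw [hμκ]; exact hid)
  have hμ' : PerfR μ := @isPerfectHom_of_isLCI (B ⊗[R] A) B _ _ μ.toAlgebra hμ
  rw [← hμι]
  exact PerfR.comp hι hμ'

theorem main1510 {X Y S : Scheme.{u}} (f : X ⟶ Y) (g : Y ⟶ S) [Smooth g]
    (h : MoreMor.IsPerfectMor (f ≫ g)) : MoreMor.IsPerfectMor f := by
  rw [isPerfectMor_iff, perfMor_iff_exists]
  intro x
  obtain ⟨W, hW, hxW, -⟩ := TopologicalSpace.Opens.isBasis_iff_nbhd.mp S.isBasis_affineOpens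
    (TopologicalSpace.Opens.mem_top (g (f x)))
  obtain ⟨V, hV, hxV, hVW⟩ := TopologicalSpace.Opens.isBasis_iff_nbhd.mp Y.isBasis_affineOpens
    (show f x ∈ g ⁻¹ᵁ W from hxW)
  obtain ⟨U, hU, hxU, hUV⟩ := TopologicalSpace.Opens.isBasis_iff_nbhd.mp X.isBasis_affineOpens
    (show x ∈ f ⁻¹ᵁ V from hxV)
  refine ⟨⟨V, hV⟩, ⟨U, hU⟩, hxU, hUV, ?_⟩
  have hUW : U ≤ (f ≫ g) ⁻¹ᵁ W := fun y hy => hVW (hUV hy)
  have hsm : (g.appLE W V hVW).hom.Smooth :=
    HasRingHomProperty.appLE (P := @Smooth) g inferInstance ⟨W, hW⟩ ⟨V, hV⟩ hVW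
  have h2 : PerfR ((f ≫ g).appLE W U hUW).hom := h U W hU hW hUW
  have hcomp : ((f ≫ g).appLE W U hUW).hom =
      (f.appLE V U hUV).hom.comp (g.appLE W V hVW).hom := by
    rw [← CommRingCat.hom_comp, Scheme.Hom.appLE_comp_appLE]
  exact PerfR.of_comp_smooth _ hsm _ (hcomp ▸ h2)

end Cancel

section Spread

theorem ftd_respectsIso : RingHom.RespectsIso @FTD.{u} := by
  constructor
  · intro R S T _ _ _ f e hf
    exact FTD.comp hf (FTD.of_bijective _ e.bijective)
  · intro R S T _ _ _ f e hf
    exact FTD.comp (FTD.of_bijective _ e.bijective) hf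

variable {A B : Type u} [CommRing A] [CommRing B]

/-- finite tor dimension passes to the localisations at primes -/
theorem FTD.localRingHom {f : A →+* B} (hf : FTD f) (J : Ideal B) [J.IsPrime] :
    FTD (Localization.localRingHom (J.comap f) J f rfl) := by
  have h2 : FTD ((algebraMap B (Localization.AtPrime J)).comp f) :=
    FTD.comp hf (FTD.of_flat _ (RingHom.flat_algebraMap_iff.2
      (IsLocalization.flat (Localization.AtPrime J) J.primeCompl)))
  have hcomp : (Localization.localRingHom (J.comap f) J f rfl).comp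
      (algebraMap A (Localization.AtPrime (J.comap f))) =
      (algebraMap B (Localization.AtPrime J)).comp f :=
    RingHom.ext fun a => Localization.localRingHom_to_map _ J f rfl a
  have hM : @IsLocalization A _ (J.comap f).primeCompl (Localization.AtPrime (J.comap f)) _
      (algebraMap A (Localization.AtPrime (J.comap f))).toAlgebra := by
    have h : (algebraMap A (Localization.AtPrime (J.comap f))).toAlgebra =
        (inferInstance : Algebra A (Localization.AtPrime (J.comap f))) :=
      Algebra.algebra_ext _ _ (fun r => rfl)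
    rw [h]
    infer_instance
  exact FTD.of_comp_isLocalization _ _ (J.comap f).primeCompl hM (hcomp ▸ h2)

/-- spreading out: a pseudo-coherent ring map whose localisation at a prime `q` has finite tor
dimension is perfect after inverting some `b ∉ q`. -/
theorem exists_away_perfR (φ₀ : A →+* B) (hpc : PCR φ₀) (q : Ideal B) [q.IsPrime]
    (p : Ideal A) [p.IsPrime] (hpq : p = q.comap φ₀)
    (hftd : FTD (Localization.localRingHom p q φ₀ hpq)) :
    ∃ b : B, b ∉ q ∧ PerfR ((algebraMap B (Localization.Away b)).comp φ₀) := by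
  letI algAB := φ₀.toAlgebra
  obtain ⟨n, φ, hφ, hB⟩ := id hpc
  haveI hq' : (q.comap φ.toRingHom).IsPrime := Ideal.comap_isPrime _ _
  let τ : Localization.AtPrime (q.comap φ.toRingHom) →+* Localization.AtPrime q :=
    Localization.localRingHom (q.comap φ.toRingHom) q φ.toRingHom rfl
  -- finite tor dimension of `τ`
  have h1 : FTD ((Localization.localRingHom p q φ₀ hpq).comp
      (algebraMap A (Localization.AtPrime p))) :=
    FTD.comp (FTD.of_flat _ (RingHom.flat_algebraMap_iff.2
      (IsLocalization.flat (Localization.AtPrime p) p.primeCompl))) hftd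
  have h1' : (Localization.localRingHom p q φ₀ hpq).comp
      (algebraMap A (Localization.AtPrime p)) =
      (algebraMap B (Localization.AtPrime q)).comp φ₀ :=
    RingHom.ext fun a => Localization.localRingHom_to_map p q φ₀ hpq a
  have hftdA : DRing.HasFiniteTorDim A (Localization.AtPrime q) := by
    rw [← ftd_algebraMap, IsScalarTower.algebraMap_eq A B (Localization.AtPrime q)]
    exact h1' ▸ h1
  let ψ : MvPolynomial (Fin n) A →ₐ[A] Localization.AtPrime q :=
    (IsScalarTower.toAlgHom A B (Localization.AtPrime q)).comp φ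
  have hψ : FTD (ψ : MvPolynomial (Fin n) A →+* Localization.AtPrime q) :=
    FTD.mvPolynomial ψ hftdA
  have hψτ : (ψ : MvPolynomial (Fin n) A →+* Localization.AtPrime q) =
      τ.comp (algebraMap (MvPolynomial (Fin n) A)
        (Localization.AtPrime (q.comap φ.toRingHom))) :=
    RingHom.ext fun x => (Localization.localRingHom_to_map _ q φ.toRingHom rfl x).symm
  have hM : @IsLocalization (MvPolynomial (Fin n) A) _ (q.comap φ.toRingHom).primeCompl
      (Localization.AtPrime (q.comap φ.toRingHom)) _
      (algebraMap (MvPolynomial (Fin n) A)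
        (Localization.AtPrime (q.comap φ.toRingHom))).toAlgebra := by
    have h : (algebraMap (MvPolynomial (Fin n) A)
        (Localization.AtPrime (q.comap φ.toRingHom))).toAlgebra =
        (inferInstance : Algebra (MvPolynomial (Fin n) A)
          (Localization.AtPrime (q.comap φ.toRingHom))) :=
      Algebra.algebra_ext _ _ (fun r => rfl)
    rw [h]
    infer_instance
  obtain ⟨d, hd⟩ := FTD.of_comp_isLocalization _ τ (q.comap φ.toRingHom).primeCompl hM (hψτ ▸ hψ)
  -- the finite free resolution
  letI algPB : Algebra (MvPolynomial (Fin n) A) B := φ.toRingHom.toAlgebra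
  obtain ⟨E, b₁, hEb, hEff, ⟨e⟩⟩ := id hB
  have hex : ∀ i : ℤ, i ≤ -(d : ℤ) - 1 → E.ExactAt i := fun i hi => by
    rw [exactAt_iff_subsingleton_HD e i]
    exact ModuleCat.subsingleton_of_isZero
      (isZero_HD_inD (ModuleCat.of (MvPolynomial (Fin n) A) B) i (by omega))
  -- identify `P_{q'} ⊗ B` with `B_q`
  letI algτ : Algebra (Localization.AtPrime (q.comap φ.toRingHom)) (Localization.AtPrime q) :=
    τ.toAlgebra
  haveI t1 : IsScalarTower (MvPolynomial (Fin n) A) B (Localization.AtPrime q) := inferInstance
  haveI t2 : IsScalarTower (MvPolynomial (Fin n) A) (Localization.AtPrime (q.comap φ.toRingHom))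
      (Localization.AtPrime q) :=
    IsScalarTower.of_algebraMap_eq (fun x => by
      rw [IsScalarTower.algebraMap_apply (MvPolynomial (Fin n) A) B (Localization.AtPrime q) x]
      exact (Localization.localRingHom_to_map _ q φ.toRingHom rfl x).symm)
  haveI hloc : IsLocalizedModule (q.comap φ.toRingHom).primeCompl
      (IsScalarTower.toAlgHom (MvPolynomial (Fin n) A) B (Localization.AtPrime q)).toLinearMap := by
    rw [isLocalizedModule_iff_isLocalization]
    have : Algebra.algebraMapSubmonoid B (q.comap φ.toRingHom).primeCompl = q.primeCompl := by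
      ext y
      constructor
      · rintro ⟨x, hx, rfl⟩
        exact hx
      · intro hy
        obtain ⟨x, rfl⟩ := hφ y
        exact ⟨x, hy, rfl⟩
    rw [this]
    infer_instance
  have hbc : IsBaseChange (Localization.AtPrime (q.comap φ.toRingHom))
      (IsScalarTower.toAlgHom (MvPolynomial (Fin n) A) B (Localization.AtPrime q)).toLinearMap :=
    IsLocalizedModule.isBaseChange (q.comap φ.toRingHom).primeCompl
      (Localization.AtPrime (q.comap φ.toRingHom)) _
  have hp : HasTorAmplitudeIn (Localization.AtPrime (q.comap φ.toRingHom)) (-(d : ℤ) - 1 + 1) 0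
      (toD (((ES (MvPolynomial (Fin n) A)
        (Localization.AtPrime (q.comap φ.toRingHom))).mapHomologicalComplex
          (ComplexShape.up ℤ)).obj E)) := by
    have h3 : HasTorAmplitudeIn (Localization.AtPrime (q.comap φ.toRingHom)) (-(d : ℤ)) 0
        (Dual.inD (Localization.AtPrime (q.comap φ.toRingHom)) (Localization.AtPrime q)) :=
      hasTorAmplitudeIn_of_iso (restrictDInDSelfIso
        (A := Localization.AtPrime (q.comap φ.toRingHom)) (B := Localization.AtPrime q)) _ _ hd
    rw [show -(d : ℤ) - 1 + 1 = -(d : ℤ) by ring]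
    refine hasTorAmplitudeIn_of_iso ?_ _ _ h3
    exact ((bcDIso E).symm ≪≫ (bcD (MvPolynomial (Fin n) A)
        (Localization.AtPrime (q.comap φ.toRingHom))).mapIso e ≪≫ bcSingleIso B ≪≫
      (DerivedCategory.singleFunctor _ 0).mapIso hbc.equiv.toModuleIso).symm
  obtain ⟨G, hG, hamp⟩ := exists_away_hasTorAmplitudeIn E b₁ hEb hEff (-(d : ℤ) - 1) hex
    (q.comap φ.toRingHom) 0 hp
  refine ⟨φ G, hG, ?_⟩
  rw [perfR_iff]
  refine ⟨PCR.comp hpc (PCR.away (φ G)), ?_⟩
  -- finite tor dimension of `P_G → B_{φ G}`
  letI algG : Algebra (Localization.Away G) (Localization.Away (φ.toRingHom G)) :=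
    (Localization.awayMap φ.toRingHom G).toAlgebra
  haveI t3 : IsScalarTower (MvPolynomial (Fin n) A) B (Localization.Away (φ.toRingHom G)) :=
    inferInstance
  haveI t4 : IsScalarTower (MvPolynomial (Fin n) A) (Localization.Away G)
      (Localization.Away (φ.toRingHom G)) :=
    IsScalarTower.of_algebraMap_eq (fun x => by
      rw [IsScalarTower.algebraMap_apply (MvPolynomial (Fin n) A) B
        (Localization.Away (φ.toRingHom G)) x]
      show algebraMap B _ (φ.toRingHom x) =
        Localization.awayMap φ.toRingHom G (algebraMap (MvPolynomial (Fin n) A) _ x)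
      exact (IsLocalization.map_eq _ x).symm)
  haveI hlocG : IsLocalizedModule (Submonoid.powers G)
      (IsScalarTower.toAlgHom (MvPolynomial (Fin n) A) B
        (Localization.Away (φ.toRingHom G))).toLinearMap := by
    rw [isLocalizedModule_iff_isLocalization]
    have : Algebra.algebraMapSubmonoid B (Submonoid.powers G) =
        Submonoid.powers (φ.toRingHom G) := by
      show Submonoid.map (algebraMap (MvPolynomial (Fin n) A) B) (Submonoid.powers G) = _
      rw [Submonoid.map_powers]
      rfl
    rw [this]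
    infer_instance
  have hbcG : IsBaseChange (Localization.Away G)
      (IsScalarTower.toAlgHom (MvPolynomial (Fin n) A) B
        (Localization.Away (φ.toRingHom G))).toLinearMap :=
    IsLocalizedModule.isBaseChange (Submonoid.powers G) (Localization.Away G) _
  have hampG : HasTorAmplitudeIn (Localization.Away G) (-(d : ℤ) - 1 + 1) b₁
      (Dual.inD (Localization.Away G) (Localization.Away (φ.toRingHom G))) := by
    refine hasTorAmplitudeIn_of_iso ?_ _ _ hamp
    haveI : Module.Flat (MvPolynomial (Fin n) A) (Localization.Away G) :=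
      IsLocalization.flat _ (Submonoid.powers G)
    exact (bcDIso E).symm ≪≫ (bcD (MvPolynomial (Fin n) A) (Localization.Away G)).mapIso e ≪≫
      bcSingleIso B ≪≫ (DerivedCategory.singleFunctor _ 0).mapIso hbcG.equiv.toModuleIso
  have hftdG : FTD (Localization.awayMap φ.toRingHom G) := by
    rw [ftd_iff]
    exact ⟨d, hasTorDimLE_of_hasTorAmplitudeIn _ _ b₁ d (by omega) hampG⟩
  let ιG : A →+* Localization.Away G :=
    (algebraMap (MvPolynomial (Fin n) A) (Localization.Away G)).comp MvPolynomial.C
  have hιflat : ιG.Flat := by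
    refine RingHom.Flat.comp ?_ ?_
    · show (algebraMap A (MvPolynomial (Fin n) A)).Flat
      rw [RingHom.flat_algebraMap_iff]
      infer_instance
    · rw [RingHom.flat_algebraMap_iff]
      exact IsLocalization.flat _ (Submonoid.powers G)
  have hcomp : (Localization.awayMap φ.toRingHom G).comp ιG =
      (algebraMap B (Localization.Away (φ.toRingHom G))).comp φ₀ := by
    refine RingHom.ext fun a => ?_
    show Localization.awayMap φ.toRingHom G
        (algebraMap (MvPolynomial (Fin n) A) _ (MvPolynomial.C a)) = algebraMap B _ (φ₀ a)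
    rw [Localization.awayMap, IsLocalization.Away.map, IsLocalization.map_eq]
    congr 1
    exact φ.commutes a
  have := FTD.comp (FTD.of_flat ιG hιflat) hftdG
  rw [hcomp] at this
  exact this

end Spread

section mains

variable {X S : Scheme.{u}}

theorem main7174 (f : X ⟶ S) (hf : MoreMor.IsPseudoCoherentMor f) :
    MoreMor.IsPerfectMor f ↔ ∀ x : X,
      (letI := (f.stalkMap x).hom.toAlgebra
       DRing.HasFiniteTorDim ↑(S.presheaf.stalk (f x)) ↑(X.presheaf.stalk x)) := by
  constructor
  · intro h x
    rw [isPerfectMor_iff] at h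
    have := HasRingHomProperty.stalkMap_of_respectsIso (P := perfMor.{u}) (Q' := @FTD.{u})
      ftd_respectsIso (fun f hf J _ => FTD.localRingHom ((perfR_iff f).1 hf).2 J) h x
    exact (ftd_iff _).1 this
  · intro h
    rw [isPerfectMor_iff, perfMor_iff_exists]
    intro x
    obtain ⟨V, hV, hxV, -⟩ := TopologicalSpace.Opens.isBasis_iff_nbhd.mp S.isBasis_affineOpens
      (TopologicalSpace.Opens.mem_top (f x))
    obtain ⟨U, hU, hxU, hUV⟩ := TopologicalSpace.Opens.isBasis_iff_nbhd.mp X.isBasis_affineOpens
      (show x ∈ f ⁻¹ᵁ V from hxV)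
    have hpc : PCR (f.appLE V U hUV).hom := hf U V hU hV hUV
    have hx : FTD (f.stalkMap x).hom := (ftd_iff _).2 (h x)
    have hx' := (ftd_respectsIso.arrow_mk_iso_iff
      (IsAffineOpen.arrowStalkMapIso f V hV U hU hUV hxU)).1 hx
    obtain ⟨b, hb, hperf⟩ := exists_away_perfR (f.appLE V U hUV).hom hpc
      (hU.primeIdealOf ⟨x, hxU⟩).asIdeal (hV.primeIdealOf ⟨f x, hUV hxU⟩).asIdeal
      (congr($(IsAffineOpen.comap_primeIdealOf_appLE V hV U hU hUV hxU).1).symm) hx'
    have hxb : x ∈ X.basicOpen b := by
      rw [Scheme.mem_basicOpen X b x hxU]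
      have h1 := hU.primeIdealOf_eq_map_closedPoint ⟨x, hxU⟩
      by_contra hnu
      apply hb
      rw [h1]
      show b ∈ (IsLocalRing.closedPoint _).asIdeal.comap _
      exact hnu
    have hle : X.basicOpen b ≤ f ⁻¹ᵁ V := (X.basicOpen_le b).trans hUV
    refine ⟨⟨V, hV⟩, ⟨X.basicOpen b, hU.basicOpen b⟩, hxb, hle, ?_⟩
    haveI : IsLocalization.Away b Γ(X, X.basicOpen b) := hU.isLocalization_basicOpen b
    let e : Localization.Away b ≃ₐ[Γ(X, U)] Γ(X, X.basicOpen b) :=
      IsLocalization.algEquiv (Submonoid.powers b) _ _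
    have h2 := perfR_respectsIso.1 _ e.toRingEquiv hperf
    have hcomp : e.toRingEquiv.toRingHom.comp
        ((algebraMap Γ(X, U) (Localization.Away b)).comp (f.appLE V U hUV).hom) =
        (f.appLE V (X.basicOpen b) hle).hom := by
      rw [← f.appLE_map hUV (homOfLE (X.basicOpen_le b)).op, CommRingCat.hom_comp,
        ← RingHom.comp_assoc]
      congr 1
      refine RingHom.ext fun y => ?_
      exact e.commutes y
    rw [hcomp] at h2
    exact h2

end mains

end Groth.Agent.Lib.PCHom
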