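import Mathlib
import Groth.Agent.Lib.PerfHom3_helper2
import Groth.Agent.Lib.LCIDesc_helper2

/-!
# fpqc descent of pseudo-coherent and perfect ring maps and morphisms (helper2)

* `exact_of_family`, `family_descendsExact`, `family_descendsFinite`: exactness and finiteness descend
  along a finite jointly surjective family of flat ring maps;
* `pcModule_descent_family`, `hasFiniteTorDim_descent_family`: descent of pseudo-coherence and of finite
  tor dimension of modules along such a family;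
* `pch_descent_family`, `PCR.descent_family`, `FTD.descent_family`, `PerfR.descent_family`;
* `fpqc_descent_appLE`: generic scheme-level scaffolding;
* `main1505`, `main1511`.
-/

set_option autoImplicit false
universe u
open CategoryTheory CategoryTheory.Limits AlgebraicGeometry
open scoped TensorProduct
attribute [local instance] HasDerivedCategory.standard

namespace Groth.Agent.Lib.PCHom

open DRing Groth.Agent.Lib.DMod_helper6 Groth.Agent.ExtendScalarsLib

section Family

variable {R : Type u} [CommRing R] {ι : Type u} [Finite ι] (B : ι → Type u) [∀ j, CommRing (B j)]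
  [∀ j, Algebra R (B j)] [∀ j, Module.Flat R (B j)]

lemma faithfullyFlat_pi
    (hsurj : ∀ p : PrimeSpectrum R, ∃ j, ∃ q : PrimeSpectrum (B j),
      PrimeSpectrum.comap (algebraMap R (B j)) q = p) :
    Module.FaithfullyFlat R (Π j, B j) := by
  classical
  haveI := Fintype.ofFinite ι
  haveI : Module.Flat R (Π j, B j) :=
    Module.Flat.of_linearEquiv (DFinsupp.linearEquivFunOnFintype (R := R) (M := B)).symm
  apply Module.FaithfullyFlat.of_comap_surjective
  intro p
  obtain ⟨j, q, hq⟩ := hsurj p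
  refine ⟨PrimeSpectrum.comap (Pi.evalRingHom B j) q, ?_⟩
  rw [← hq]
  rfl

omit [Finite ι] [∀ j, Module.Flat R (B j)] in
lemma piLeft_tmul [Fintype ι] [DecidableEq ι] (M : Type u) [AddCommGroup M] [Module R M]
    (b : Π j, B j) (m : M) (j : ι) :
    TensorProduct.piLeft R M B (b ⊗ₜ[R] m) j = b j ⊗ₜ[R] m := by
  simp [TensorProduct.piLeft]

omit [Finite ι] [∀ j, Module.Flat R (B j)] in
lemma piLeft_lTensor [Fintype ι] [DecidableEq ι] {M M' : Type u} [AddCommGroup M] [Module R M]
    [AddCommGroup M'] [Module R M'] (f : M →ₗ[R] M') (x : (Π j, B j) ⊗[R] M) (j : ι) :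
    TensorProduct.piLeft R M' B (f.lTensor (Π j, B j) x) j =
      f.lTensor (B j) (TensorProduct.piLeft R M B x j) := by
  induction x using TensorProduct.induction_on with
  | zero => simp only [map_zero, Pi.zero_apply]
  | tmul b m => rw [LinearMap.lTensor_tmul, piLeft_tmul, piLeft_tmul, LinearMap.lTensor_tmul]
  | add x y hx hy => rw [map_add, map_add, Pi.add_apply, hx, hy, map_add, Pi.add_apply, map_add]

/-- exactness descends along a finite jointly surjective family of flat ring maps -/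
theorem exact_of_family
    (hsurj : ∀ p : PrimeSpectrum R, ∃ j, ∃ q : PrimeSpectrum (B j),
      PrimeSpectrum.comap (algebraMap R (B j)) q = p)
    {M₁ M₂ M₃ : Type u} [AddCommGroup M₁] [Module R M₁] [AddCommGroup M₂] [Module R M₂]
    [AddCommGroup M₃] [Module R M₃] (f : M₁ →ₗ[R] M₂) (g : M₂ →ₗ[R] M₃)
    (h : ∀ j, Function.Exact (f.lTensor (B j)) (g.lTensor (B j))) : Function.Exact f g := by
  classical
  haveI := Fintype.ofFinite ι
  haveI := faithfullyFlat_pi B hsurj
  rw [← Module.FaithfullyFlat.lTensor_exact_iff_exact R (Π j, B j)]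
  intro y
  constructor
  · intro hy
    have h1 : ∀ j, ∃ x, f.lTensor (B j) x = TensorProduct.piLeft R M₂ B y j := by
      intro j
      refine (h j _).1 ?_
      rw [← piLeft_lTensor, hy, map_zero]
      rfl
    choose x hx using h1
    refine ⟨(TensorProduct.piLeft R M₁ B).symm x, ?_⟩
    apply (TensorProduct.piLeft R M₂ B).injective
    funext j
    rw [piLeft_lTensor, LinearEquiv.apply_symm_apply, hx]
  · rintro ⟨x, rfl⟩
    apply (TensorProduct.piLeft R M₃ B).injective
    funext j
    rw [piLeft_lTensor, piLeft_lTensor, map_zero]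
    exact (h j).apply_apply_eq_zero _

lemma family_descendsExact
    (hsurj : ∀ p : PrimeSpectrum R, ∃ j, ∃ q : PrimeSpectrum (B j),
      PrimeSpectrum.comap (algebraMap R (B j)) q = p) : DescendsExact R B := by
  intro M₁ M₂ M₃ f g h
  exact exact_of_family B hsurj f.hom g.hom
    (fun j => (exact_ES_map_iff (A := R) (B := B j) f g).1 (h j))

lemma family_descendsFinite
    (hsurj : ∀ p : PrimeSpectrum R, ∃ j, ∃ q : PrimeSpectrum (B j),
      PrimeSpectrum.comap (algebraMap R (B j)) q = p) : DescendsFinite R B := by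
  intro M h
  classical
  have h0 : ∀ j, Module.Finite (B j) (B j ⊗[R] M) := fun j => by
    haveI : Module.Finite (B j) ((ES R (B j)).obj M) := h j
    exact Module.Finite.equiv (extendScalarsEquivTensor (S := B j) M)
  have h1 : ∀ j, ∃ (n : ℕ) (s : Fin n → B j ⊗[R] M),
      Submodule.span (B j) (Set.range s) = ⊤ := fun j => by
    haveI := h0 j
    exact Module.Finite.exists_fin (R := B j) (M := B j ⊗[R] M)
  choose n s hs using h1
  have h2 : ∀ (j : ι) (i : Fin (n j)), ∃ (k : ℕ) (t : Fin k → B j) (m : Fin k → M),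
      s j i = ∑ l, t l ⊗ₜ[R] m l := fun j i => TensorProduct.exists_sum_tmul_eq (s j i)
  choose k t m hm using h2
  let I := Σ j, Σ i : Fin (n j), Fin (k j i)
  let f₀ : (I → R) →ₗ[R] M := (Pi.basisFun R I).constr R fun x => m x.1 x.2.1 x.2.2
  have hsj : ∀ j, Function.Surjective (f₀.lTensor (B j)) := by
    intro j
    have : Function.Surjective (TensorProduct.AlgebraTensorModule.lTensor (B j) (B j) f₀) := by
      rw [← LinearMap.range_eq_top, eq_top_iff, ← hs j, Submodule.span_le, Set.range_subset_iff]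
      intro i
      refine ⟨∑ l : Fin (k j i), t j i l ⊗ₜ[R] Pi.basisFun R I ⟨j, i, l⟩, ?_⟩
      simp [f₀, -Pi.basisFun_equivFun, -Pi.basisFun_apply, hm j i]
    exact this
  have hex : Function.Exact f₀ (0 : M →ₗ[R] PUnit.{u+1}) :=
    exact_of_family B hsurj f₀ 0 (fun j => by
      rw [LinearMap.lTensor_zero]
      exact (LinearMap.exact_zero_iff_surjective _ _).2 (hsj j))
  exact Module.Finite.of_surjective f₀ ((LinearMap.exact_zero_iff_surjective _ _).1 hex)

/-- pseudo-coherence of modules descends along a finite jointly surjective flat family -/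
theorem pcModule_descent_family
    (hsurj : ∀ p : PrimeSpectrum R, ∃ j, ∃ q : PrimeSpectrum (B j),
      PrimeSpectrum.comap (algebraMap R (B j)) q = p)
    (M : Type u) [AddCommGroup M] [Module R M]
    (h : ∀ j, IsPseudoCoherentModule' (B j) (B j ⊗[R] M)) : IsPseudoCoherentModule' R M := by
  show IsPseudoCoherent' R (Dual.inD R M)
  rw [isPseudoCoherent'_iff_forall]
  intro m
  let K : Cx R := (HomologicalComplex.single (ModuleCat.{u} R) (ComplexShape.up ℤ) 0).obj
    (ModuleCat.of R M)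
  let e : toD K ≅ Dual.inD R M :=
    ((DerivedCategory.singleFunctorIsoCompQ (ModuleCat.{u} R) 0).app (ModuleCat.of R M)).symm
  refine (isPseudoCoherent_iff_of_iso e m).1
    (isPseudoCoherent_descent (family_descendsExact B hsurj) (family_descendsFinite B hsurj) K m
      (fun j => ?_))
  have hj : IsPseudoCoherent (B j) m (Dual.inD (B j) (B j ⊗[R] M)) :=
    (isPseudoCoherent'_iff_forall _).1 (h j) m
  exact (isPseudoCoherent_iff_of_iso
    ((bcDIso K).symm ≪≫ (bcD R (B j)).mapIso e ≪≫ bcSingleIso M) m).2 hj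

/-- finite tor dimension of modules descends along a finite jointly surjective flat family -/
theorem hasFiniteTorDim_descent_family
    (hsurj : ∀ p : PrimeSpectrum R, ∃ j, ∃ q : PrimeSpectrum (B j),
      PrimeSpectrum.comap (algebraMap R (B j)) q = p)
    (M : Type u) [AddCommGroup M] [Module R M]
    (h : ∀ j, HasFiniteTorDim (B j) (B j ⊗[R] M)) : HasFiniteTorDim R M := by
  have h' : ∀ j, ∃ n : ℕ, HasTorDimLE (B j) n (B j ⊗[R] M) := h
  choose d hd using h'
  obtain ⟨D, hD⟩ := (Set.finite_range d).bddAbove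
  refine ⟨D, (hasTorDimLE_iff M D).2 ?_⟩
  let K : Cx R := (HomologicalComplex.single (ModuleCat.{u} R) (ComplexShape.up ℤ) 0).obj
    (ModuleCat.of R M)
  let e : toD K ≅ Dual.inD R M :=
    ((DerivedCategory.singleFunctorIsoCompQ (ModuleCat.{u} R) 0).app (ModuleCat.of R M)).symm
  refine hasTorAmplitudeIn_of_iso e _ _
    (hasTorAmplitudeIn_descent (family_descendsExact B hsurj) K _ _ (fun j => ?_))
  have h1 : HasTorAmplitudeIn (B j) (-(d j : ℤ)) 0 (Dual.inD (B j) (B j ⊗[R] M)) :=
    (hasTorDimLE_iff (B j ⊗[R] M) (d j)).1 (hd j)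
  have hdj : d j ≤ D := hD (Set.mem_range_self j)
  have h2 := hasTorAmplitudeIn_mono _ (-(d j : ℤ)) 0 (-(D : ℤ)) 0 (by omega) le_rfl h1
  exact hasTorAmplitudeIn_of_iso
    ((bcDIso K).symm ≪≫ (bcD R (B j)).mapIso e ≪≫ bcSingleIso M).symm _ _ h2

end Family

section LinEquiv

variable {P : Type u} [CommRing P] {M N : Type u} [AddCommGroup M] [Module P M]
  [AddCommGroup N] [Module P N]

lemma hasFiniteTorDim_of_linearEquiv (e : M ≃ₗ[P] N) (h : HasFiniteTorDim P M) :
    HasFiniteTorDim P N := by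
  obtain ⟨d, hd⟩ := h
  refine ⟨d, (hasTorDimLE_iff N d).2 ?_⟩
  exact hasTorAmplitudeIn_of_iso
    ((DerivedCategory.singleFunctor (ModuleCat.{u} P) 0).mapIso e.toModuleIso) _ _
    ((hasTorDimLE_iff M d).1 hd)

end LinEquiv

section BCPres

attribute [local instance] MvPolynomial.algebraMvPolynomial

variable {A A' B B' : Type u} [CommRing A] [CommRing A'] [CommRing B] [CommRing B']
  [Algebra A A'] [Algebra A B] [Algebra A' B'] [Algebra B B'] [Algebra A B']
  [IsScalarTower A A' B'] [IsScalarTower A B B']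

/-- base change of a presentation along a pushout square, with the identification of the
base-changed module -/
theorem exists_bcPres [hpo : Algebra.IsPushout A B A' B'] {n : ℕ}
    (φ : MvPolynomial (Fin n) A →ₐ[A] B) (hφ : Function.Surjective φ) :
    ∃ φ' : MvPolynomial (Fin n) A' →ₐ[A'] B', Function.Surjective φ' ∧
      (letI := φ.toRingHom.toAlgebra
       letI := φ'.toRingHom.toAlgebra
       Nonempty ((MvPolynomial (Fin n) A') ⊗[MvPolynomial (Fin n) A] B
         ≃ₗ[MvPolynomial (Fin n) A'] B')) := by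
  let φ' : MvPolynomial (Fin n) A' →ₐ[A'] B' :=
    MvPolynomial.aeval (fun i => algebraMap B B' (φ (MvPolynomial.X i)))
  have hkey : ∀ p : MvPolynomial (Fin n) A,
      φ' (MvPolynomial.map (algebraMap A A') p) = algebraMap B B' (φ p) := by
    have : (φ'.toRingHom).comp (MvPolynomial.map (algebraMap A A')) =
        (algebraMap B B').comp φ.toRingHom := by
      apply MvPolynomial.ringHom_ext
      · intro a
        show φ' (MvPolynomial.map (algebraMap A A') (MvPolynomial.C a)) =
          algebraMap B B' (φ (MvPolynomial.C a))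
        rw [MvPolynomial.map_C, MvPolynomial.aeval_C, ← MvPolynomial.algebraMap_eq, φ.commutes,
          ← IsScalarTower.algebraMap_apply, ← IsScalarTower.algebraMap_apply]
      · intro i
        show φ' (MvPolynomial.map (algebraMap A A') (MvPolynomial.X i)) =
          algebraMap B B' (φ (MvPolynomial.X i))
        rw [MvPolynomial.map_X, MvPolynomial.aeval_X]
    exact fun p => DFunLike.congr_fun this p
  have hφ' : Function.Surjective φ' := by
    intro y
    refine hpo.out.inductionOn y (fun y => ∃ q, φ' q = y) ⟨0, map_zero _⟩ ?_ ?_ ?_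
    · intro a'
      exact ⟨MvPolynomial.C a', by
        rw [MvPolynomial.aeval_C]
        rfl⟩
    · rintro b y ⟨q, rfl⟩
      obtain ⟨p, rfl⟩ := hφ b
      refine ⟨MvPolynomial.map (algebraMap A A') p * q, ?_⟩
      rw [map_mul, Algebra.smul_def, hkey]
    · rintro y z ⟨p, rfl⟩ ⟨q, rfl⟩
      exact ⟨p + q, map_add _ _ _⟩
  refine ⟨φ', hφ', ?_⟩
  letI algPB : Algebra (MvPolynomial (Fin n) A) B := φ.toRingHom.toAlgebra
  letI algP'B' : Algebra (MvPolynomial (Fin n) A') B' := φ'.toRingHom.toAlgebra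
  letI algPB' : Algebra (MvPolynomial (Fin n) A) B' :=
    ((algebraMap B B').comp φ.toRingHom).toAlgebra
  haveI t1 : IsScalarTower A (MvPolynomial (Fin n) A) B :=
    IsScalarTower.of_algebraMap_eq (fun a => (φ.commutes a).symm)
  haveI t2 : IsScalarTower (MvPolynomial (Fin n) A) B B' :=
    IsScalarTower.of_algebraMap_eq (fun _ => rfl)
  haveI t3 : IsScalarTower (MvPolynomial (Fin n) A) (MvPolynomial (Fin n) A') B' :=
    IsScalarTower.of_algebraMap_eq (fun p => (hkey p).symm)
  haveI t4 : IsScalarTower A' (MvPolynomial (Fin n) A') B' :=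
    IsScalarTower.of_algebraMap_eq (fun a => (φ'.commutes a).symm)
  haveI t5 : IsScalarTower A (MvPolynomial (Fin n) A') B' :=
    IsScalarTower.of_algebraMap_eq (fun a => by
      show algebraMap A B' a = φ' (algebraMap A (MvPolynomial (Fin n) A') a)
      rw [MvPolynomial.algebraMap_apply, MvPolynomial.aeval_C,
        ← IsScalarTower.algebraMap_apply])
  have hpo1 : Algebra.IsPushout (MvPolynomial (Fin n) A) B (MvPolynomial (Fin n) A') B' :=
    (Algebra.IsPushout.comp_iff A (MvPolynomial (Fin n) A) A' (S' := MvPolynomial (Fin n) A')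
      (T := B) (T' := B')).1 hpo
  exact ⟨hpo1.symm.out.equiv⟩

end BCPres

section RingFamily

attribute [local instance] MvPolynomial.algebraMvPolynomial

variable {A B : Type u} [CommRing A] [CommRing B] [Algebra A B] {ι : Type u} [Finite ι]
  (A' B' : ι → Type u) [∀ j, CommRing (A' j)] [∀ j, CommRing (B' j)]
  [∀ j, Algebra A (A' j)] [∀ j, Algebra A (B' j)] [∀ j, Algebra B (B' j)]
  [∀ j, Algebra (A' j) (B' j)]
  [∀ j, IsScalarTower A (A' j) (B' j)] [∀ j, IsScalarTower A B (B' j)]
  [∀ j, Module.Flat A (A' j)] [hpo : ∀ j, Algebra.IsPushout A B (A' j) (B' j)]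

/-- **fpqc descent of pseudo-coherent ring maps**, for a finite jointly surjective flat family. -/
theorem pch_descent_family (hft : Algebra.FiniteType A B)
    (hsurj : ∀ p : PrimeSpectrum A, ∃ j, ∃ q : PrimeSpectrum (A' j),
      PrimeSpectrum.comap (algebraMap A (A' j)) q = p)
    (h : ∀ j, MoreMor.IsPseudoCoherentHom (A' j) (B' j)) : MoreMor.IsPseudoCoherentHom A B := by
  classical
  obtain ⟨n, π, hπ⟩ := Algebra.FiniteType.iff_quotient_mvPolynomial''.mp hft
  refine ⟨n, π, hπ, ?_⟩
  haveI hflat : ∀ j, Module.Flat (MvPolynomial (Fin n) A) (MvPolynomial (Fin n) (A' j)) :=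
    fun j => Module.Flat.isBaseChange (R := A) (S := MvPolynomial (Fin n) A) (M := A' j)
      (N := MvPolynomial (Fin n) (A' j))
      (inferInstance : Algebra.IsPushout A (MvPolynomial (Fin n) A) (A' j)
        (MvPolynomial (Fin n) (A' j))).out
  have hsurjP : ∀ p : PrimeSpectrum (MvPolynomial (Fin n) A), ∃ j,
      ∃ q : PrimeSpectrum (MvPolynomial (Fin n) (A' j)),
        PrimeSpectrum.comap (algebraMap (MvPolynomial (Fin n) A)
          (MvPolynomial (Fin n) (A' j))) q = p := by
    intro p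
    obtain ⟨j, q, hq⟩ := Groth.Agent.Lib.LCIDesc.exists_prime_tensor_family A' hsurj
      (MvPolynomial (Fin n) A) p
    let θ := Algebra.IsPushout.equiv A (MvPolynomial (Fin n) A) (A' j)
      (MvPolynomial (Fin n) (A' j))
    refine ⟨j, PrimeSpectrum.comap ((θ.symm : _ ≃ₐ[MvPolynomial (Fin n) A] _) : _ →+* _) q, ?_⟩
    rw [← hq]
    apply PrimeSpectrum.ext
    ext x
    show θ.symm (algebraMap (MvPolynomial (Fin n) A) (MvPolynomial (Fin n) (A' j)) x) ∈
        q.asIdeal ↔
      algebraMap (MvPolynomial (Fin n) A) (MvPolynomial (Fin n) A ⊗[A] A' j) x ∈ q.asIdeal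
    rw [θ.symm.commutes]
  letI algPB : Algebra (MvPolynomial (Fin n) A) B := π.toRingHom.toAlgebra
  refine pcModule_descent_family (fun j => MvPolynomial (Fin n) (A' j)) hsurjP B (fun j => ?_)
  obtain ⟨φ', hφ', ⟨e⟩⟩ := exists_bcPres (A' := A' j) (B' := B' j) π hπ
  letI algP'B' : Algebra (MvPolynomial (Fin n) (A' j)) (B' j) := φ'.toRingHom.toAlgebra
  have h1 := (pch_iff_via φ' hφ').1 (h j)
  have h2 : IsPseudoCoherentModule' (MvPolynomial (Fin n) (A' j)) (B' j) :=
    (pcModule_iff_resPC φ'.toRingHom).2 h1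
  exact isPseudoCoherentModule'_of_linearEquiv e.symm h2

omit [Finite ι] in
/-- **fpqc descent of finite tor dimension**, for a finite jointly surjective flat family. -/
theorem hasFiniteTorDim_descent_ring [Finite ι]
    (hsurj : ∀ p : PrimeSpectrum A, ∃ j, ∃ q : PrimeSpectrum (A' j),
      PrimeSpectrum.comap (algebraMap A (A' j)) q = p)
    (h : ∀ j, HasFiniteTorDim (A' j) (B' j)) : HasFiniteTorDim A B := by
  refine hasFiniteTorDim_descent_family A' hsurj B (fun j => ?_)
  exact hasFiniteTorDim_of_linearEquiv (hpo j).symm.out.equiv.symm (h j)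

end RingFamily

section HomFamily

variable {A B : Type u} [CommRing A] [CommRing B]

/-- hom-and-pushout form of fpqc descent of pseudo-coherent ring maps -/
theorem PCR.descent_family (α : A →+* B) (hft : α.FiniteType) {ι : Type u} [Finite ι]
    (A' B' : ι → Type u) [∀ j, CommRing (A' j)] [∀ j, CommRing (B' j)]
    (γ : ∀ j, A →+* A' j) (β : ∀ j, B →+* B' j) (δ : ∀ j, A' j →+* B' j)
    (hpo : ∀ j, IsPushout (CommRingCat.ofHom α) (CommRingCat.ofHom (γ j))
      (CommRingCat.ofHom (β j)) (CommRingCat.ofHom (δ j)))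
    (hflat : ∀ j, (γ j).Flat)
    (hsurj : ∀ p : PrimeSpectrum A, ∃ j, ∃ q : PrimeSpectrum (A' j),
      PrimeSpectrum.comap (γ j) q = p)
    (h : ∀ j, PCR (δ j)) : PCR α := by
  letI := α.toAlgebra
  letI : ∀ j, Algebra A (A' j) := fun j => (γ j).toAlgebra
  letI : ∀ j, Algebra B (B' j) := fun j => (β j).toAlgebra
  letI : ∀ j, Algebra (A' j) (B' j) := fun j => (δ j).toAlgebra
  letI : ∀ j, Algebra A (B' j) := fun j => ((β j).comp α).toAlgebra
  haveI : ∀ j, IsScalarTower A B (B' j) := fun j =>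
    IsScalarTower.of_algebraMap_eq (fun _ => rfl)
  have hw : ∀ j, (δ j).comp (γ j) = (β j).comp α := fun j => by
    have := (hpo j).w
    rw [← CommRingCat.ofHom_comp, ← CommRingCat.ofHom_comp] at this
    exact (congrArg CommRingCat.Hom.hom this).symm
  haveI : ∀ j, IsScalarTower A (A' j) (B' j) := fun j =>
    IsScalarTower.of_algebraMap_eq (fun a => (DFunLike.congr_fun (hw j) a).symm)
  haveI : ∀ j, Module.Flat A (A' j) := fun j => hflat j
  haveI : ∀ j, Algebra.IsPushout A B (A' j) (B' j) := fun j =>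
    CommRingCat.isPushout_iff_isPushout.1 (hpo j)
  exact pch_descent_family A' B' hft hsurj h

/-- hom-and-pushout form of fpqc descent of finite tor dimension -/
theorem FTD.descent_family (α : A →+* B) {ι : Type u} [Finite ι]
    (A' B' : ι → Type u) [∀ j, CommRing (A' j)] [∀ j, CommRing (B' j)]
    (γ : ∀ j, A →+* A' j) (β : ∀ j, B →+* B' j) (δ : ∀ j, A' j →+* B' j)
    (hpo : ∀ j, IsPushout (CommRingCat.ofHom α) (CommRingCat.ofHom (γ j))
      (CommRingCat.ofHom (β j)) (CommRingCat.ofHom (δ j)))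
    (hflat : ∀ j, (γ j).Flat)
    (hsurj : ∀ p : PrimeSpectrum A, ∃ j, ∃ q : PrimeSpectrum (A' j),
      PrimeSpectrum.comap (γ j) q = p)
    (h : ∀ j, FTD (δ j)) : FTD α := by
  letI := α.toAlgebra
  letI : ∀ j, Algebra A (A' j) := fun j => (γ j).toAlgebra
  letI : ∀ j, Algebra B (B' j) := fun j => (β j).toAlgebra
  letI : ∀ j, Algebra (A' j) (B' j) := fun j => (δ j).toAlgebra
  letI : ∀ j, Algebra A (B' j) := fun j => ((β j).comp α).toAlgebra
  haveI : ∀ j, IsScalarTower A B (B' j) := fun j =>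
    IsScalarTower.of_algebraMap_eq (fun _ => rfl)
  have hw : ∀ j, (δ j).comp (γ j) = (β j).comp α := fun j => by
    have := (hpo j).w
    rw [← CommRingCat.ofHom_comp, ← CommRingCat.ofHom_comp] at this
    exact (congrArg CommRingCat.Hom.hom this).symm
  haveI : ∀ j, IsScalarTower A (A' j) (B' j) := fun j =>
    IsScalarTower.of_algebraMap_eq (fun a => (DFunLike.congr_fun (hw j) a).symm)
  haveI : ∀ j, Module.Flat A (A' j) := fun j => hflat j
  haveI : ∀ j, Algebra.IsPushout A B (A' j) (B' j) := fun j =>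
    CommRingCat.isPushout_iff_isPushout.1 (hpo j)
  rw [ftd_iff]
  exact hasFiniteTorDim_descent_ring A' B' hsurj (fun j => (ftd_iff (δ j)).1 (h j))

/-- hom-and-pushout form of fpqc descent of perfect ring maps -/
theorem PerfR.descent_family (α : A →+* B) (hft : α.FiniteType) {ι : Type u} [Finite ι]
    (A' B' : ι → Type u) [∀ j, CommRing (A' j)] [∀ j, CommRing (B' j)]
    (γ : ∀ j, A →+* A' j) (β : ∀ j, B →+* B' j) (δ : ∀ j, A' j →+* B' j)
    (hpo : ∀ j, IsPushout (CommRingCat.ofHom α) (CommRingCat.ofHom (γ j))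
      (CommRingCat.ofHom (β j)) (CommRingCat.ofHom (δ j)))
    (hflat : ∀ j, (γ j).Flat)
    (hsurj : ∀ p : PrimeSpectrum A, ∃ j, ∃ q : PrimeSpectrum (A' j),
      PrimeSpectrum.comap (γ j) q = p)
    (h : ∀ j, PerfR (δ j)) : PerfR α := by
  rw [perfR_iff]
  exact ⟨PCR.descent_family α hft A' B' γ β δ hpo hflat hsurj
      (fun j => ((perfR_iff (δ j)).1 (h j)).1),
    FTD.descent_family α A' B' γ β δ hpo hflat hsurj (fun j => ((perfR_iff (δ j)).1 (h j)).2)⟩

end HomFamily

section scheme

open TopologicalSpace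

/-- generic scaffolding: a property of ring maps which implies finite type and descends along
finite jointly surjective flat families (in pushout form) descends along fpqc base change on the
level of `appLE` for all pairs of affine opens. -/
theorem fpqc_descent_appLE
    (P : ∀ {A B : Type u} [CommRing A] [CommRing B], (A →+* B) → Prop)
    (hPft : ∀ {A B : Type u} [CommRing A] [CommRing B] (f : A →+* B), P f → f.FiniteType)
    (hPdesc : ∀ {A B : Type u} [CommRing A] [CommRing B] (α : A →+* B), α.FiniteType →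
      ∀ {ι : Type u} [Finite ι] (A' B' : ι → Type u) [∀ j, CommRing (A' j)]
        [∀ j, CommRing (B' j)]
        (γ : ∀ j, A →+* A' j) (β : ∀ j, B →+* B' j) (δ : ∀ j, A' j →+* B' j),
        (∀ j, IsPushout (CommRingCat.ofHom α) (CommRingCat.ofHom (γ j))
          (CommRingCat.ofHom (β j)) (CommRingCat.ofHom (δ j))) →
        (∀ j, (γ j).Flat) →
        (∀ p : PrimeSpectrum A, ∃ j, ∃ q : PrimeSpectrum (A' j),
          PrimeSpectrum.comap (γ j) q = p) →
        (∀ j, P (δ j)) → P α)
    {X S X' S' : Scheme.{u}} (f : X ⟶ S) (f' : X' ⟶ S') (g' : X' ⟶ X) (g : S' ⟶ S)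
    [Flat g] [Surjective g] [QuasiCompact g] (hc : IsPullback g' f' f g)
    (hf' : ∀ (U : X'.Opens) (V : S'.Opens) (_ : IsAffineOpen U) (_ : IsAffineOpen V)
      (hUV : U ≤ f' ⁻¹ᵁ V), P (f'.appLE V U hUV).hom) :
    ∀ (U : X.Opens) (V : S.Opens) (_ : IsAffineOpen U) (_ : IsAffineOpen V)
      (hUV : U ≤ f ⁻¹ᵁ V), P (f.appLE V U hUV).hom := by
  intro U V hU hV hUV
  have hlft' : LocallyOfFiniteType f' := by
    rw [HasRingHomProperty.iff_appLE (P := @LocallyOfFiniteType)]
    intro V' U' e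
    exact hPft _ (hf' U'.1 V'.1 U'.2 V'.2 e)
  have hlft : LocallyOfFiniteType f :=
    MorphismProperty.DescendsAlong.of_isPullback (P := @LocallyOfFiniteType)
      (Q := @Surjective ⊓ @Flat ⊓ @QuasiCompact) hc.flip
      ⟨⟨inferInstance, inferInstance⟩, inferInstance⟩ hlft'
  have hft : (f.appLE V U hUV).hom.FiniteType :=
    HasRingHomProperty.appLE (P := @LocallyOfFiniteType) f hlft ⟨V, hV⟩ ⟨U, hU⟩ hUV
  have hcpt : IsCompact (X := S') (g ⁻¹ᵁ V) := g.isCompact_preimage hV.isCompact
  obtain ⟨s, hs, hsV⟩ := isCompact_iff_finite_and_eq_biUnion_affineOpens.mp hcpt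
  haveI : Finite s := hs.to_subtype
  have hle : ∀ j : s, j.1.1 ≤ g ⁻¹ᵁ V := fun j => by
    rw [hsV]
    exact le_iSup₂_of_le j.1 j.2 le_rfl
  have hU'aff : ∀ j : s, IsAffineOpen (g' ⁻¹ᵁ U ⊓ f' ⁻¹ᵁ j.1.1) := by
    intro j
    haveI : IsAffine (V : Scheme) := hV
    haveI : IsAffine (j.1.1 : Scheme) := j.1.2
    haveI : IsAffine (U : Scheme) := hU
    exact IsAffine.of_isIso (Scheme.Hom.isPullback_resLE hc (hle j) hUV rfl).isoPullback.hom
  have hpo : ∀ j : s, IsPushout (f.appLE V U hUV) (g.appLE V j.1.1 (hle j))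
      (g'.appLE U (g' ⁻¹ᵁ U ⊓ f' ⁻¹ᵁ j.1.1) inf_le_left)
      (f'.appLE j.1.1 (g' ⁻¹ᵁ U ⊓ f' ⁻¹ᵁ j.1.1) inf_le_right) :=
    fun j => (isIso_pushoutSection_iff hc (hle j) hUV rfl).mp
      (isIso_pushoutSection_of_isAffineOpen hc (hle j) hUV rfl hV j.1.2 hU)
  apply hPdesc (f.appLE V U hUV).hom hft (fun j : s => Γ(S', j.1.1))
    (fun j : s => Γ(X', g' ⁻¹ᵁ U ⊓ f' ⁻¹ᵁ j.1.1))
    (fun j => (g.appLE V j.1.1 (hle j)).hom)
    (fun j => (g'.appLE U (g' ⁻¹ᵁ U ⊓ f' ⁻¹ᵁ j.1.1) inf_le_left).hom)
    (fun j => (f'.appLE j.1.1 (g' ⁻¹ᵁ U ⊓ f' ⁻¹ᵁ j.1.1) inf_le_right).hom)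
  · intro j
    exact hpo j
  · intro j
    exact g.flat_appLE hV j.1.2 (hle j)
  · intro p
    obtain ⟨x, rfl⟩ : ∃ x : V, hV.primeIdealOf x = p :=
      ⟨hV.isoSpec.inv p, by simp [IsAffineOpen.primeIdealOf]⟩
    obtain ⟨x', hx'⟩ := g.surjective x.1
    have hx'V : x' ∈ g ⁻¹ᵁ V := by
      show g x' ∈ V
      rw [hx']
      exact x.2
    rw [hsV] at hx'V
    obtain ⟨j, hj, hx'j⟩ : ∃ j ∈ s, x' ∈ (j : S'.Opens) := by
      simpa [Opens.mem_iSup] using hx'V
    refine ⟨⟨j, hj⟩, j.2.primeIdealOf ⟨x', hx'j⟩, ?_⟩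
    rw [IsAffineOpen.comap_primeIdealOf_appLE V hV j.1 j.2 (hle ⟨j, hj⟩) hx'j]
    congr 1
    exact Subtype.ext hx'
  · intro j
    exact hf' _ j.1.1 (hU'aff j) j.1.2 inf_le_right

theorem main1505 {X S X' S' : Scheme.{u}} (f : X ⟶ S) (f' : X' ⟶ S') (g' : X' ⟶ X) (g : S' ⟶ S)
    [Flat g] [Surjective g] [QuasiCompact g] (hc : IsPullback g' f' f g)
    (hf' : MoreMor.IsPseudoCoherentMor f') : MoreMor.IsPseudoCoherentMor f :=
  fpqc_descent_appLE (fun {A B} _ _ f => PCR f) (fun f hf => PCR.finiteType hf)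
    (by
      intro A B _ _ α hft ι _ A' B' _ _ γ β δ hpo hflat hsurj h
      exact PCR.descent_family α hft A' B' γ β δ hpo hflat hsurj h) f f' g' g hc hf'

theorem main1511 {X S X' S' : Scheme.{u}} (f : X ⟶ S) (f' : X' ⟶ S') (g' : X' ⟶ X) (g : S' ⟶ S)
    [Flat g] [Surjective g] [QuasiCompact g] (hc : IsPullback g' f' f g)
    (hf' : MoreMor.IsPerfectMor f') : MoreMor.IsPerfectMor f :=
  fpqc_descent_appLE (fun {A B} _ _ f => PerfR f)
    (fun f hf => PCR.finiteType ((perfR_iff f).1 hf).1)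
    (by
      intro A B _ _ α hft ι _ A' B' _ _ γ β δ hpo hflat hsurj h
      exact PerfR.descent_family α hft A' B' γ β δ hpo hflat hsurj h) f f' g' g hc hf'

end scheme

end Groth.Agent.Lib.PCHom
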