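import Mathlib
import Groth.Agent.Lib.PCDesc_helper2
import Groth.Agent.Lib.FlatDesc20_helper8
import Groth.Agent.Lib.DMod73_helper6

/-!
# Flat finitely presented ring maps are perfect (helper2)

On top of helper8's `FlatDescH8.exists_finite_free_resolution_of_flat`:
* `pcModule_of_resolution`: a module with a resolution by finite free modules is pseudo-coherent;
* `perfR_of_flat_fp`, `PerfR.of_flat_fp` (S7068), `main7172`;
* `main7100`: pseudo-coherence along a surjection of flat finitely presented algebras;
* `main1507`.
-/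

set_option autoImplicit false
universe u
open CategoryTheory CategoryTheory.Limits AlgebraicGeometry
open scoped TensorProduct
attribute [local instance] HasDerivedCategory.standard

namespace Groth.Agent.Lib.PCHom

open DRing Groth.Agent.Lib.DMod_helper6

section Resolution

open DerivedCategory

/-- a module with a resolution by finite free modules is pseudo-coherent -/
theorem pcModule_of_resolution {P : Type u} [CommRing P] (M : Type u) [AddCommGroup M] [Module P M]
    (R : ProjectiveResolution (ModuleCat.of P M))
    (h : ∀ n : ℕ, Module.Finite P (R.complex.X n) ∧ Module.Free P (R.complex.X n)) :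
    IsPseudoCoherentModule' P M := by
  let E : Cx P := R.cochainComplex
  have hb : VanishesAbove E 0 := fun i hi => CochainComplex.isZero_of_isStrictlyLE E 0 i hi
  haveI : IsIso (Q.map R.π') := (isIso_Q_map_iff_quasiIso _ _).2 inferInstance
  let e : toD E ≅ Dual.inD P M := asIso (Q.map R.π') ≪≫
    ((singleFunctorIsoCompQ (ModuleCat.{u} P) 0).app (ModuleCat.of P M)).symm
  refine ⟨E, 0, hb, fun i => ?_, ⟨e⟩⟩
  by_cases hi : i ≤ 0
  · obtain ⟨k, rfl⟩ : ∃ k : ℕ, i = -(k : ℤ) := ⟨(-i).toNat, by omega⟩
    let eX := (R.cochainComplexXIso (-(k : ℤ)) k rfl).toLinearEquiv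
    haveI := (h k).1
    haveI := (h k).2
    exact ⟨Module.Finite.equiv eX.symm, Module.Free.of_equiv eX.symm⟩
  · have hz : IsZero (E.X i) := hb i (by omega)
    haveI : Subsingleton (E.X i) := ModuleCat.subsingleton_of_isZero hz
    exact ⟨Module.Finite.of_surjective (0 : P →ₗ[P] E.X i)
      (fun y => ⟨0, Subsingleton.elim _ _⟩), inferInstance⟩

end Resolution

section FlatFP

variable {A B : Type u} [CommRing A] [CommRing B]

lemma finitePresentation_of_surjective_algebraMap [Algebra A B]
    (hφ : Function.Surjective (algebraMap A B)) (hker : (RingHom.ker (algebraMap A B)).FG) :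
    Module.FinitePresentation A B := by
  refine Module.finitePresentation_of_surjective (Algebra.linearMap A B) hφ ?_
  have : LinearMap.ker (Algebra.linearMap A B) =
      (RingHom.ker (algebraMap A B) : Submodule A A) := by
    ext x
    rfl
  rw [this]
  exact hker

/-- **a flat ring map of finite presentation is perfect** (S7068) -/
theorem perfR_of_flat_fp [Algebra A B] [Module.Flat A B] [Algebra.FinitePresentation A B] :
    MoreMor.IsPerfectHom A B := by
  obtain ⟨n, φ, hφ, hker⟩ := Algebra.FinitePresentation.out (R := A) (A := B)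
  refine ⟨⟨n, φ, hφ, ?_⟩, ?_⟩
  · letI algPB : Algebra (MvPolynomial (Fin n) A) B := φ.toRingHom.toAlgebra
    haveI t1 : IsScalarTower A (MvPolynomial (Fin n) A) B :=
      IsScalarTower.of_algebraMap_eq (fun a => (φ.commutes a).symm)
    haveI : Module.FinitePresentation (MvPolynomial (Fin n) A) B :=
      finitePresentation_of_surjective_algebraMap hφ hker
    obtain ⟨R, hR⟩ := Groth.Agent.Lib.FlatDescH8.exists_finite_free_resolution_of_flat A
      (MvPolynomial (Fin n) A) B
    exact pcModule_of_resolution B R hR
  · exact ⟨0, (hasTorDimLE_iff_and_flat B 0).2.2 inferInstance⟩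

theorem PerfR.of_flat_fp (f : A →+* B) (hflat : f.Flat) (hfp : f.FinitePresentation) :
    PerfR f := by
  letI := f.toAlgebra
  haveI : Module.Flat A B := hflat
  haveI : Algebra.FinitePresentation A B := hfp
  exact perfR_of_flat_fp

theorem PCR.of_flat_fp (f : A →+* B) (hflat : f.Flat) (hfp : f.FinitePresentation) :
    PCR f := ((perfR_iff f).1 (PerfR.of_flat_fp f hflat hfp)).1

end FlatFP

section mains

theorem main7068 (A B : Type u) [CommRing A] [CommRing B] [Algebra A B]
    [Module.Flat A B] [Algebra.FinitePresentation A B] : MoreMor.IsPerfectHom A B :=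
  perfR_of_flat_fp

theorem main7172 {X S : Scheme.{u}} (f : X ⟶ S) [Flat f] [LocallyOfFinitePresentation f] :
    MoreMor.IsPerfectMor f := by
  intro U V hU hV hUV
  exact PerfR.of_flat_fp _
    (HasRingHomProperty.appLE (P := @Flat) f inferInstance ⟨V, hV⟩ ⟨U, hU⟩ hUV)
    (HasRingHomProperty.appLE (P := @LocallyOfFinitePresentation) f inferInstance
      ⟨V, hV⟩ ⟨U, hU⟩ hUV)

theorem main7100 (R B A : Type u) [CommRing R] [CommRing B] [CommRing A]
    [Algebra R B] [Algebra R A] [Algebra B A] [IsScalarTower R B A]
    (hφ : Function.Surjective (algebraMap B A))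
    [Module.Flat R B] [Algebra.FinitePresentation R B] [Module.Flat R A]
    [Algebra.FinitePresentation R A] (K : Dual.D A) :
    (DRing.IsPseudoCoherent' A K ↔
        DRing.IsPseudoCoherent' B ((DRing.restrictD (algebraMap B A)).obj K)) ∧
      ∀ m : ℤ, (DRing.IsPseudoCoherent A m K ↔
        DRing.IsPseudoCoherent B m ((DRing.restrictD (algebraMap B A)).obj K)) := by
  have hker : (RingHom.ker (IsScalarTower.toAlgHom R B A).toRingHom).FG :=
    Algebra.FinitePresentation.ker_fG_of_surjective (IsScalarTower.toAlgHom R B A) hφ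
  haveI : Module.FinitePresentation B A := finitePresentation_of_surjective_algebraMap hφ hker
  obtain ⟨Res, hRes⟩ := Groth.Agent.Lib.FlatDescH8.exists_finite_free_resolution_of_flat R B A
  have hpc : IsPseudoCoherentModule' B A := pcModule_of_resolution A Res hRes
  have hres : resPC (algebraMap B A) (Dual.inD A A) :=
    (pcProp _).prop_of_iso (restrictDInDSelfIso (A := B) (B := A)).symm hpc
  exact ⟨isPseudoCoherent'_restrictD_iff _ hres K,
    fun m => isPseudoCoherent_restrictD_iff _ hres m K⟩

theorem main1507 {A B : Type u} [CommRing A] [CommRing B] [Algebra A B] [Module.Flat A B]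
    [Algebra.FinitePresentation A B] (I : Ideal B) :
    MoreMor.IsPseudoCoherentHom A (B ⧸ I) ↔ DRing.IsPseudoCoherentModule' B ↥I := by
  have hAB : PCR (algebraMap A B) := pcr_algebraMap.2 (perfR_of_flat_fp (A := A) (B := B)).1
  have h1 : MoreMor.IsPseudoCoherentHom A (B ⧸ I) ↔
      PCR ((Ideal.Quotient.mk I).comp (algebraMap A B)) := by
    rw [← pcr_algebraMap]
    rfl
  have h2 : PCR ((Ideal.Quotient.mk I).comp (algebraMap A B)) ↔ PCR (Ideal.Quotient.mk I) :=
    ⟨fun h => PCR.of_comp hAB h, fun h => PCR.comp hAB h⟩
  have h3 : resPC (Ideal.Quotient.mk I) (Dual.inD (B ⧸ I) (B ⧸ I)) ↔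
      IsPseudoCoherentModule' B (B ⧸ I) := by
    constructor
    · intro h
      exact (pcProp _).prop_of_iso (restrictDInDSelfIso (A := B) (B := B ⧸ I)) h
    · intro h
      exact (pcProp _).prop_of_iso (restrictDInDSelfIso (A := B) (B := B ⧸ I)).symm h
  rw [h1, h2, pcr_iff_resPC_of_surjective _ Ideal.Quotient.mk_surjective, h3]
  have hS := subSC_shortExact (A := B) (M := B) I
  have hT := hS.singleTriangle_distinguished
  have hB : IsPseudoCoherent' B (Dual.inD B B) :=
    pcProp_inD_of_finite_free (ModuleCat.of B B) (inferInstanceAs (Module.Finite B B))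
      (inferInstanceAs (Module.Free B B))
  have hBm := (isPseudoCoherent'_iff_forall _).1 hB
  constructor
  · intro h
    show IsPseudoCoherent' B (Dual.inD B ↥I)
    have h3m := (isPseudoCoherent'_iff_forall _).1 h
    rw [isPseudoCoherent'_iff_forall]
    intro m
    have := (isPseudoCoherent_two_of_three _ hT (m - 1)).2.2 (hBm (m - 1 + 1)) (h3m (m - 1))
    rwa [sub_add_cancel] at this
  · intro h
    show IsPseudoCoherent' B (Dual.inD B (B ⧸ I))
    have h1m := (isPseudoCoherent'_iff_forall _).1 h
    rw [isPseudoCoherent'_iff_forall]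
    intro m
    exact (isPseudoCoherent_two_of_three _ hT m).1 (h1m (m + 1)) (hBm m)

end mains

end Groth.Agent.Lib.PCHom
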