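import Mathlib
import Groth.Prelude
import Groth.Agent.Lib.DCohLoc5_lead
import Groth.Agent.Lib.BrutalTrunc_helper2

/-!
# Dévissage for pseudo-coherence-like properties (helper3)

`PCLike P`: the formal properties of `m`-pseudo-coherence (isomorphism invariance, objects with
no cohomology in degrees `≥ m`, the middle of a triangle, shifts).

* `PCLike.of_isApprox`.
* `PCLike.of_terms`: a bounded above complex whose `i`-th term is `(m - i)`-good is `m`-good.
* `PCLike.of_homology`: a bounded above object whose `i`-th cohomology is `(m - i)`-good is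
  `m`-good.
-/

set_option autoImplicit false
set_option linter.all false
set_option maxHeartbeats 1600000
set_option backward.isDefEq.respectTransparency false
set_option backward.isDefEq.respectTransparency.types false
set_option backward.defeqAttrib.useBackward true

universe v₁ u₁
open CategoryTheory CategoryTheory.Limits
open CategoryTheory.Pretriangulated CategoryTheory.Triangulated

attribute [local instance] HasDerivedCategory.standard

namespace Groth.Agent.Lib.PCGenH3

open Groth.Agent.Lib.DCohLocLead DerivedCategory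

noncomputable section

variable {C : Type u₁} [Category.{v₁} C] [Abelian C] [HasDerivedCategory C]

/-- the formal properties of `m`-pseudo-coherence used in dévissage -/
structure PCLike (P : ℤ → DerivedCategory C → Prop) : Prop where
  of_iso : ∀ {m : ℤ} {K K' : DerivedCategory C}, (K ≅ K') → P m K → P m K'
  of_Lt : ∀ {m : ℤ} {K : DerivedCategory C}, Lt m K → P m K
  tri : ∀ (m : ℤ) (T : Triangle (DerivedCategory C)), T ∈ distTriang (DerivedCategory C) →
    P m T.obj₁ → P m T.obj₃ → P m T.obj₂
  shift : ∀ {n : ℤ} {K : DerivedCategory C} (s : ℤ), P n K → P (n - s) (K⟦s⟧)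

variable {P : ℤ → DerivedCategory C → Prop}

theorem PCLike.single (hP : PCLike P) (M : C) (a m : ℤ)
    (h : P (m - a) ((singleFunctor C 0).obj M)) : P m ((singleFunctor C a).obj M) := by
  have h1 := hP.shift (-a) h
  have e : ((singleFunctor C 0).obj M)⟦-a⟧ ≅ (singleFunctor C a).obj M :=
    ((singleFunctors C).shiftIso (-a) a 0 (by omega)).app M
  have h2 : m - a - (-a) = m := by omega
  rw [h2] at h1
  exact hP.of_iso e h1

theorem PCLike.of_isApprox (hP : PCLike P) {N K : DerivedCategory C} (β : N ⟶ K) (m : ℤ)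
    (hβ : IsApprox m β) (hN : P m N) : P m K := by
  obtain ⟨Z, g, h, hT⟩ := distinguished_cocone_triangle β
  have hZ : Lt m Z := Lt_of_isApprox m _ hT hβ
  exact hP.tri m _ hT hN (hP.of_Lt hZ)

theorem Lt_of_isZero' {K : DerivedCategory C} (h : IsZero K) (m : ℤ) : Lt m K :=
  fun i _ => (homologyFunctor C i).map_isZero h

theorem PCLike.of_isZero (hP : PCLike P) {K : DerivedCategory C} (h : IsZero K) (m : ℤ) :
    P m K := hP.of_Lt (Lt_of_isZero' h m)

/-! ### Complexes with good terms -/

theorem PCLike.of_terms_sigmaGE (hP : PCLike P) (F : CochainComplex C ℤ) (b m : ℤ)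
    (hb : ∀ i : ℤ, b < i → IsZero (F.X i))
    (h : ∀ i : ℤ, P (m - i) ((singleFunctor C 0).obj (F.X i))) :
    ∀ (d : ℕ) (a : ℤ), b + 1 - a ≤ d → P m (Q.obj (BrutalTrunc.sigmaGE F a))
  | 0, a, hd => by
    refine hP.of_Lt (Lt_Q_obj_of_isZero _ m (fun i _ => ?_))
    by_cases hi : a ≤ i
    · exact BrutalTrunc.isZero_sigmaGE_X' F a i (hb i (by omega))
    · exact BrutalTrunc.isZero_sigmaGE_X F hi
  | (d + 1), a, hd => by
    have hS := BrutalTrunc.sc_shortExact F a (a + 1) rfl
    have hT := triangleOfSES_distinguished hS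
    refine hP.tri m _ hT (PCLike.of_terms_sigmaGE hP F b m hb h d (a + 1) (by omega)) ?_
    exact hP.of_iso ((singleFunctorIsoCompQ C a).app (F.X a)) (hP.single (F.X a) a m (h a))

theorem PCLike.of_terms (hP : PCLike P) (F : CochainComplex C ℤ) (b m : ℤ)
    (hb : ∀ i : ℤ, b < i → IsZero (F.X i))
    (h : ∀ i : ℤ, P (m - i) ((singleFunctor C 0).obj (F.X i))) : P m (Q.obj F) := by
  have h1 := hP.of_terms_sigmaGE F b m hb h (b + 1 - m).toNat m (by omega)
  refine hP.of_isApprox (Q.map (BrutalTrunc.incl F m)) m ?_ h1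
  apply isApprox_Q_map_of_isIso_f
  intro i hi
  exact BrutalTrunc.isIso_ι F hi

/-! ### Objects with good cohomology -/

theorem PCLike.of_homology (hP : PCLike P) :
    ∀ (d : ℕ) (N m : ℤ) (L : DerivedCategory C), N - m ≤ d → Lt N L →
      (∀ i : ℤ, P (m - i) ((singleFunctor C 0).obj ((homologyFunctor C i).obj L))) → P m L
  | 0, N, m, L, hd, hL, _ => hP.of_Lt (hL.mono (by omega))
  | (d + 1), N, m, L, hd, hL, h => by
    by_cases hNm : N ≤ m
    · exact hP.of_Lt (hL.mono hNm)
    obtain ⟨c, hc⟩ : ∃ c : ℤ, c = N - 1 := ⟨_, rfl⟩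
    let t : TStructure (DerivedCategory C) := TStructure.t
    have hT : (t.triangleLTGE c).obj L ∈ distTriang (DerivedCategory C) :=
      t.triangleLTGE_distinguished c L
    obtain ⟨T, hTeq⟩ : ∃ T : Triangle (DerivedCategory C), T = (t.triangleLTGE c).obj L :=
      ⟨_, rfl⟩
    have hle : t.IsLE T.obj₁ (c - 1) := by rw [hTeq]; infer_instance
    have hge : t.IsGE T.obj₃ c := by rw [hTeq]; infer_instance
    have h2 : T.obj₂ = L := by rw [hTeq]; rfl
    rw [← hTeq] at hT
    -- `obj₁` has no cohomology in degrees `≥ c`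
    have h1 : Lt c T.obj₁ := fun i hi =>
      DerivedCategory.isZero_of_isLE T.obj₁ (c - 1) i (by omega)
    -- `obj₃` has no cohomology in degrees `< c`
    have h3 : ∀ i : ℤ, i < c → IsZero ((homologyFunctor C i).obj T.obj₃) := fun i hi =>
      DerivedCategory.isZero_of_isGE T.obj₃ c i hi
    -- `mor₂` is an isomorphism on cohomology in degrees `≥ c`
    have hap : IsApprox (c - 1) T.mor₂ := by
      have h1' : Lt (c - 1 + 1) T.obj₁ := by
        have e : c - 1 + 1 = c := by omega
        rw [e]
        exact h1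
      exact isApprox_of_Lt (c - 1) _ (rot_of_distTriang _ hT) (Lt.shift h1')
    have hL2 : Lt N T.obj₂ := by rw [h2]; exact hL
    -- `obj₃` is concentrated in degree `c`
    have hle3 : t.IsLE T.obj₃ c := by
      refine (DerivedCategory.isLE_iff _ c).2 (fun i hi => ?_)
      haveI := hap.1 i (by omega)
      exact (hL2 i (by omega)).of_iso (asIso ((homologyFunctor C i).map T.mor₂)).symm
    obtain ⟨Y, ⟨e⟩⟩ := DerivedCategory.exists_iso_singleFunctor_obj_of_isGE_of_isLE T.obj₃ c
    haveI := hap.1 c (by omega)
    have eY : (homologyFunctor C c).obj T.obj₂ ≅ Y :=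
      asIso ((homologyFunctor C c).map T.mor₂) ≪≫ (homologyFunctor C c).mapIso e ≪≫
        (singleFunctorCompHomologyFunctorIso C c).app Y
    have hh : ∀ i : ℤ, P (m - i) ((singleFunctor C 0).obj ((homologyFunctor C i).obj T.obj₂)) := by
      rw [h2]
      exact h
    have hP3 : P m T.obj₃ :=
      hP.of_iso e.symm (hP.single Y c m (hP.of_iso ((singleFunctor C 0).mapIso eY) (hh c)))
    -- `obj₁`
    have hP1 : P m T.obj₁ := by
      refine PCLike.of_homology hP d c m T.obj₁ (by omega) h1 (fun i => ?_)
      by_cases hi : i < c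
      · have hmono : Mono ((homologyFunctor C i).map T.mor₁) :=
          ((homologyFunctor C 0).homologySequence_mono_shift_map_mor₁_iff _ hT (i - 1) i
            (by omega)).2 ((h3 (i - 1) (by omega)).eq_of_src _ _)
        have hepi : Epi ((homologyFunctor C i).map T.mor₁) :=
          ((homologyFunctor C 0).homologySequence_epi_shift_map_mor₁_iff _ hT i).2
            ((h3 i hi).eq_of_tgt _ _)
        haveI : IsIso ((homologyFunctor C i).map T.mor₁) := isIso_of_mono_of_epi _
        exact hP.of_iso ((singleFunctor C 0).mapIso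
          (asIso ((homologyFunctor C i).map T.mor₁)).symm) (hh i)
      · exact hP.of_isZero ((singleFunctor C 0).map_isZero (h1 i (by omega))) _
    have := hP.tri m T hT hP1 hP3
    rw [h2] at this
    exact this

theorem PCLike.of_homology' (hP : PCLike P) (N m : ℤ) (L : DerivedCategory C) (hL : Lt N L)
    (h : ∀ i : ℤ, P (m - i) ((singleFunctor C 0).obj ((homologyFunctor C i).obj L))) : P m L :=
  hP.of_homology (N - m).toNat N m L (by omega) hL h

end

end Groth.Agent.Lib.PCGenH3
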