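import Mathlib
import Groth.Prelude
import Groth.Agent.Lib.RelPCf_helper3
import Groth.Agent.Lib.PCGen_helper3

/-!
# Relative pseudo-coherence, part l: complexes with good terms / good cohomology (helper3)

* `pcLike Y`: pseudo-coherence on a scheme is `PCLike`.
* `isPC_of_terms`, `isPC_of_homology`: the absolute dévissage lemmas.
* `main7215`, `main7216`: the relative versions.
-/

set_option autoImplicit false
set_option linter.all false
set_option maxHeartbeats 1600000
set_option backward.isDefEq.respectTransparency false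
set_option backward.isDefEq.respectTransparency.types false
set_option backward.defeqAttrib.useBackward true

universe u
open CategoryTheory CategoryTheory.Limits AlgebraicGeometry Opposite TopologicalSpace
open CategoryTheory.Pretriangulated

attribute [local instance] HasDerivedCategory.standard

namespace Groth.Agent.Lib.RelPCbH3

open Groth.Agent.Lib.DCohLocLead DerivedCategory Groth.Agent.Lib.FpqcPCH3
  Groth.Agent.Lib.FinPushPCH3 Groth.Agent.Lib.BCOpenL Groth.Agent.Lib.RelPCaH3
  Groth.Agent.Lib.DMod_helper6 Groth.Agent.Lib.TildePCH3 Groth.Agent.Lib.TildeAmpL DRing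
  Groth.Agent.Lib.PCGenH3

noncomputable section

local instance hasRpushInst14 {X Y : Scheme.{u}} (f : X ⟶ Y) : DCoh.HasRpush f := hasRpush f

/-- pseudo-coherence on a scheme satisfies the formal properties used in dévissage -/
theorem pcLike (Y : Scheme.{u}) :
    PCLike (fun (m : ℤ) (K : DCoh.D Y) => DCoh.IsPseudoCoherentD m K) where
  of_iso := fun e h => isPC_of_iso e h
  of_Lt := fun h => isPC_of_Lt _ _ h
  tri := fun m T hT h1 h3 => (main889 m T hT).2.1 h1 h3
  shift := fun s h => isPC_shift h s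

/-- a bounded above complex whose `i`-th term is `(m - i)`-pseudo-coherent is
`m`-pseudo-coherent -/
theorem isPC_of_terms {Y : Scheme.{u}} (F : CochainComplex Y.Modules ℤ) (b m : ℤ)
    (hb : ∀ i : ℤ, b < i → IsZero (F.X i))
    (h : ∀ i : ℤ, DCoh.IsPseudoCoherentD (m - i) (DCoh.inD Y (F.X i))) :
    DCoh.IsPseudoCoherentD m (DCoh.toD Y F) :=
  (pcLike Y).of_terms F b m hb h

/-- a bounded above object whose `i`-th cohomology sheaf is `(m - i)`-pseudo-coherent is
`m`-pseudo-coherent -/
theorem isPC_of_homology {Y : Scheme.{u}} (E : DCoh.D Y) (N m : ℤ) (hE : Lt N E)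
    (h : ∀ i : ℤ, DCoh.IsPseudoCoherentD (m - i) (DCoh.inD Y (DCoh.HD E i))) :
    DCoh.IsPseudoCoherentD m E :=
  (pcLike Y).of_homology' N m E hE h

section Chart

variable {X : Scheme.{u}} (U : X.Opens) {B : Type u} [CommRing B] (β : B →+* Γ(X, U))
  [IsClosedImmersion (cImm U β)]

/-- the exact functor `M ↦ (cImm U β)_* (M|_U)` on modules -/
abbrev chartM : X.Modules ⥤ (Spec (CommRingCat.of B)).Modules :=
  Scheme.Modules.restrictFunctor U.ι ⋙ Scheme.Modules.pushforward (cImm U β)

def chartD_Q_iso (F : CochainComplex X.Modules ℤ) :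
    (chartD U β).obj (Q.obj F) ≅
      Q.obj (((Scheme.Modules.pushforward (cImm U β)).mapHomologicalComplex (ComplexShape.up ℤ)).obj
        (((Scheme.Modules.restrictFunctor U.ι).mapHomologicalComplex (ComplexShape.up ℤ)).obj F)) :=
  (Scheme.Modules.pushforward (cImm U β)).mapDerivedCategory.mapIso
    ((Scheme.Modules.restrictFunctor U.ι).mapDerivedCategoryFactors.app F) ≪≫
    (Scheme.Modules.pushforward (cImm U β)).mapDerivedCategoryFactors.app _

def chartD_inD_iso (M : X.Modules) :
    (chartD U β).obj (DCoh.inD X M) ≅ DCoh.inD _ ((chartM U β).obj M) :=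
  (Scheme.Modules.pushforward (cImm U β)).mapDerivedCategory.mapIso
    (((Scheme.Modules.restrictFunctor U.ι).mapDerivedCategorySingleFunctor 0).app M) ≪≫
    ((Scheme.Modules.pushforward (cImm U β)).mapDerivedCategorySingleFunctor 0).app _

theorem nonempty_chartD_homology_iso (E : DCoh.D X) (i : ℤ) :
    Nonempty (DCoh.HD ((chartD U β).obj E) i ≅ (chartM U β).obj (DCoh.HD E i)) := by
  obtain ⟨a⟩ := nonempty_homology_mapExact_iso (Scheme.Modules.pushforward (cImm U β))
    ((DD U.ι).obj E) i
  obtain ⟨b⟩ := nonempty_homology_mapExact_iso (Scheme.Modules.restrictFunctor U.ι) E i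
  exact ⟨a ≪≫ (Scheme.Modules.pushforward (cImm U β)).mapIso b⟩

theorem gpc_of_terms (F : CochainComplex X.Modules ℤ) (b m : ℤ)
    (hb : ∀ i : ℤ, b < i → IsZero (F.X i))
    (h : ∀ i : ℤ, GPC (m - i) (DCoh.inD X (F.X i)) U β) : GPC m (DCoh.toD X F) U β := by
  rw [gpc_iff_chartD]
  refine isPC_of_iso (chartD_Q_iso U β F).symm ?_
  refine isPC_of_terms _ b m (fun i hi => ?_) (fun i => ?_)
  · exact (Scheme.Modules.pushforward (cImm U β)).map_isZero
      ((Scheme.Modules.restrictFunctor U.ι).map_isZero (hb i hi))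
  · have h1 := h i
    rw [gpc_iff_chartD] at h1
    exact isPC_of_iso (chartD_inD_iso U β (F.X i)) h1

theorem gpc_of_homology (E : DCoh.D X) (N m : ℤ) (hE : Lt N E)
    (h : ∀ i : ℤ, GPC (m - i) (DCoh.inD X (DCoh.HD E i)) U β) : GPC m E U β := by
  rw [gpc_iff_chartD]
  have hLt' : Lt N ((chartD U β).obj E) :=
    (hE.mapExact (Scheme.Modules.restrictFunctor U.ι)).mapExact
      (Scheme.Modules.pushforward (cImm U β))
  refine isPC_of_homology _ N m hLt' (fun i => ?_)
  have h1 := h i
  rw [gpc_iff_chartD] at h1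
  obtain ⟨c⟩ := nonempty_chartD_homology_iso U β E i
  exact isPC_of_iso (chartD_inD_iso U β _ ≪≫ (DerivedCategory.singleFunctor _ 0).mapIso c.symm) h1

end Chart

variable {X S : Scheme.{u}} (f : X ⟶ S)

theorem main7215 (m : ℤ) (F : CochainComplex X.Modules ℤ) (b : ℤ)
    (hb : ∀ i : ℤ, b < i → IsZero (F.X i))
    (h : ∀ i : ℤ, DerSch.IsPseudoCoherentRel f (m - i) (DCoh.inD X (F.X i))) :
    DerSch.IsPseudoCoherentRel f m (DCoh.toD X F) := by
  haveI : LocallyOfFiniteType f := (h 0).1
  rw [relPC_iff_forall_gpc]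
  intro U V hUV n φ hφ
  haveI := isClosedImmersion_cImm U.1 U.2 φ hφ.1
  exact gpc_of_terms U.1 φ F b m hb
    (fun i => (relPC_iff_forall_gpc f (m - i) _).mp (h i) U V hUV φ hφ)

theorem main7216 (m : ℤ) (E : DCoh.D X) (b : ℤ) [E.IsLE b]
    (h : ∀ i : ℤ, DerSch.IsPseudoCoherentRel f (m - i) (DCoh.inD X (DCoh.HD E i))) :
    DerSch.IsPseudoCoherentRel f m E := by
  haveI : LocallyOfFiniteType f := (h 0).1
  rw [relPC_iff_forall_gpc]
  intro U V hUV n φ hφ
  haveI := isClosedImmersion_cImm U.1 U.2 φ hφ.1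
  have hLt : Lt (b + 1) E := fun i hi => DerivedCategory.isZero_of_isLE E b i (by omega)
  exact gpc_of_homology U.1 φ E (b + 1) m hLt
    (fun i => (relPC_iff_forall_gpc f (m - i) _).mp (h i) U V hUV φ hφ)

end

end Groth.Agent.Lib.RelPCbH3
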