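import Mathlib
import Groth.Prelude
import Groth.Agent.Lib.RelPCi_helper3
import Groth.Agent.Lib.RelPCh_helper3
import Groth.Agent.Lib.RelPCc3_helper3
import Groth.Agent.Lib.DMod38_helper6

/-!
# Relative pseudo-coherence, part j: composition with a pseudo-coherent morphism (helper3)

* `nonempty_unit_ring_rep`: the ring-level representative of `O_Y|_V` on an affine open `V`.
* `resPC_of_chart`: for a pseudo-coherent `g`, every chart `α : R[x] ↠ Γ(Y, V)` makes `Γ(Y, V)` a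
  pseudo-coherent `R[x]`-module.
* `gpc_compChart_iff`: composite charts.
* `main12088`.
-/

set_option autoImplicit false
set_option linter.all false
set_option maxHeartbeats 1600000
set_option backward.isDefEq.respectTransparency false
set_option backward.isDefEq.respectTransparency.types false
set_option backward.defeqAttrib.useBackward true

universe u
open CategoryTheory CategoryTheory.Limits AlgebraicGeometry Opposite TopologicalSpace
open CategoryTheory.Pretriangulated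

attribute [local instance] HasDerivedCategory.standard

namespace Groth.Agent.Lib.RelPCbH3

open Groth.Agent.Lib.DCohLocLead DerivedCategory Groth.Agent.Lib.FpqcPCH3
  Groth.Agent.Lib.FinPushPCH3 Groth.Agent.Lib.BCOpenL Groth.Agent.Lib.RelPCaH3
  Groth.Agent.Lib.DMod_helper6 Groth.Agent.Lib.TildePCH3 Groth.Agent.Lib.TildeAmpL DRing

noncomputable section

local instance hasRpushInst12 {X Y : Scheme.{u}} (f : X ⟶ Y) : DCoh.HasRpush f := hasRpush f

section UnitRep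

variable {Y : Scheme.{u}} (V : Y.Opens) (hV : IsAffineOpen V)

/-- the ring-level representative of `O_Y|_V`, for `V` affine -/
theorem nonempty_unit_ring_rep [PreservesFiniteLimits (tilde.functor Γ(Y, V))] :
    Nonempty ((DCoh.tildeD Γ(Y, V)).obj (Dual.inD Γ(Y, V) Γ(Y, V)) ≅
      (RP hV.isoSpec.hom).obj ((DD V.ι).obj (DCoh.toD Y (DerSch.unitCx Y)))) := by
  obtain ⟨b⟩ := nonempty_RP_isoSpec_iso V hV (DCoh.toD Y (DerSch.unitCx Y))
  let e1 : DCoh.toD Y (DerSch.unitCx Y) ≅ DCoh.inD Y (Coh.structureModule Y) :=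
    ((singleFunctorIsoCompQ Y.Modules 0).app (Coh.structureModule Y)).symm
  let e2 : (DD hV.fromSpec).obj (DCoh.inD Y (Coh.structureModule Y)) ≅
      DCoh.inD (Spec Γ(Y, V)) (Coh.structureModule (Spec Γ(Y, V))) :=
    ((Scheme.Modules.restrictFunctor hV.fromSpec).mapDerivedCategorySingleFunctor 0).app _ ≪≫
      (DerivedCategory.singleFunctor _ 0).mapIso (Scheme.Modules.restrictUnitIso hV.fromSpec)
  let e5 : (DCoh.tildeD Γ(Y, V)).obj (Dual.inD Γ(Y, V) Γ(Y, V)) ≅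
      DCoh.inD (Spec Γ(Y, V)) (Coh.structureModule (Spec Γ(Y, V))) :=
    ((tilde.functor Γ(Y, V)).mapDerivedCategorySingleFunctor 0).app
      (ModuleCat.of Γ(Y, V) Γ(Y, V)) ≪≫
      (DerivedCategory.singleFunctor _ 0).mapIso tildeSelf
  exact ⟨e5 ≪≫ e2.symm ≪≫ (DD hV.fromSpec).mapIso e1.symm ≪≫ b.symm⟩

end UnitRep

/-- for a pseudo-coherent morphism, every chart makes the coordinate ring a pseudo-coherent
module over the polynomial ring -/
theorem resPC_of_chart {Y Z : Scheme.{u}} (g : Y ⟶ Z) [LocallyOfFiniteType g]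
    (hg : ∀ n : ℤ, DerSch.IsNPseudoCoherent g n) (V : Y.affineOpens) (W : Z.affineOpens)
    (h : (V : Y.Opens) ≤ g ⁻¹ᵁ (W : Z.Opens)) {k : ℕ}
    (α : MvPolynomial (Fin k) Γ(Z, (W : Z.Opens)) →+* Γ(Y, (V : Y.Opens)))
    (hα : DerSch.IsChart g (V : Y.Opens) (W : Z.Opens) h α) :
    resPC α (Dual.inD Γ(Y, (V : Y.Opens)) Γ(Y, (V : Y.Opens))) := by
  haveI : PreservesFiniteLimits (tilde.functor Γ(Y, (V : Y.Opens))) :=
    Groth.Agent.Lib.LpullQCL.preservesFiniteLimits_tilde Γ(Y, (V : Y.Opens))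
  obtain ⟨e⟩ := nonempty_unit_ring_rep V.1 V.2
  refine (isPseudoCoherent'_iff_forall _).2 (fun n => ?_)
  exact (gpc_iff_ring V.1 V.2 α n _ _ e).mp
    ((relPC_iff_forall_gpc g n _).mp (hg n) V W h α hα)

section Composite

/-- `R[x_1..x_{n+k}] ≃ R[x_1..x_k][y_1..y_n]` -/
abbrev compEquiv (R : Type u) [CommRing R] (n k : ℕ) :
    MvPolynomial (Fin (n + k)) R ≃+* MvPolynomial (Fin n) (MvPolynomial (Fin k) R) :=
  ((MvPolynomial.renameEquiv R finSumFinEquiv.symm).trans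
    (MvPolynomial.sumAlgEquiv R (Fin n) (Fin k))).toRingEquiv

theorem compEquiv_C (R : Type u) [CommRing R] (n k : ℕ) (r : R) :
    compEquiv R n k (MvPolynomial.C r) = MvPolynomial.C (MvPolynomial.C r) :=
  ((MvPolynomial.renameEquiv R finSumFinEquiv.symm).trans
    (MvPolynomial.sumAlgEquiv R (Fin n) (Fin k))).commutes r

variable {X : Scheme.{u}} (U : X.Opens) {R A : Type u} [CommRing R] [CommRing A] {k n : ℕ}
  (α : MvPolynomial (Fin k) R →+* A) (β : MvPolynomial (Fin n) A →+* Γ(X, U))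

/-- the composite chart -/
abbrev compChart : MvPolynomial (Fin (n + k)) R →+* Γ(X, U) :=
  (β.comp (MvPolynomial.map α)).comp (compEquiv R n k).toRingHom

theorem compChart_C (r : R) :
    compChart U α β (MvPolynomial.C r) = β (MvPolynomial.C (α (MvPolynomial.C r))) := by
  show β (MvPolynomial.map α (compEquiv R n k (MvPolynomial.C r))) = _
  rw [compEquiv_C, MvPolynomial.map_C]

theorem compChart_surjective (hα : Function.Surjective α) (hβ : Function.Surjective β) :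
    Function.Surjective (compChart U α β) :=
  (hβ.comp (MvPolynomial.map_surjective _ hα)).comp (compEquiv R n k).surjective

theorem gpc_compChart_iff (hα : Function.Surjective α) (hαpc : resPC α (Dual.inD A A))
    (m : ℤ) (E : DCoh.D X) :
    GPC m E U (compChart U α β) ↔ GPC m E U β := by
  unfold compChart
  rw [gpc_comp_ringEquiv_iff U (β.comp (MvPolynomial.map α)) (compEquiv R n k) m E]
  letI : Algebra (MvPolynomial (Fin k) R) A := α.toAlgebra
  have hA' : IsPseudoCoherentModule' (MvPolynomial (Fin k) R) A :=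
    (pcProp (MvPolynomial (Fin k) R)).prop_of_iso
      (restrictDInDSelfIso (A := MvPolynomial (Fin k) R) (B := A)) hαpc
  have hμ : resPC (MvPolynomial.map (σ := Fin n) α)
      (Dual.inD (MvPolynomial (Fin n) A) (MvPolynomial (Fin n) A)) :=
    resPC_map_of_pc (P := MvPolynomial (Fin k) R) (A := A) n hA'
  haveI : IsClosedImmersion (Spec.map (CommRingCat.ofHom (MvPolynomial.map (σ := Fin n) α))) :=
    IsClosedImmersion.spec_of_surjective _ (MvPolynomial.map_surjective _ hα)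
  rw [gpc_comp_iff]
  exact isPC_Rpush_closedImmersion_iff _ (pushOPC_Spec_of_resPC _ hμ) _ m

end Composite

section Main

variable {X Y S : Scheme.{u}} (f : X ⟶ Y) (g : Y ⟶ S)

theorem isChart_compChart (U : X.Opens) (V : Y.Opens) (W : S.Opens) (h' : U ≤ f ⁻¹ᵁ V)
    (h : V ≤ g ⁻¹ᵁ W) (h'' : U ≤ (f ≫ g) ⁻¹ᵁ W) {k n : ℕ}
    (α : MvPolynomial (Fin k) Γ(S, W) →+* Γ(Y, V)) (hα : DerSch.IsChart g V W h α)
    (β : MvPolynomial (Fin n) Γ(Y, V) →+* Γ(X, U)) (hβ : DerSch.IsChart f U V h' β) :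
    DerSch.IsChart (f ≫ g) U W h'' (compChart U α β) := by
  refine ⟨compChart_surjective U α β hα.1 hβ.1, ?_⟩
  ext r
  have h1 : α (MvPolynomial.C r) = (g.appLE W V h).hom r := DFunLike.congr_fun hα.2 r
  have h2 : ∀ a, β (MvPolynomial.C a) = (f.appLE V U h').hom a :=
    fun a => DFunLike.congr_fun hβ.2 a
  show compChart U α β (MvPolynomial.C r) = _
  rw [compChart_C, h1, h2, ← Scheme.Hom.appLE_comp_appLE f g W V U h h']
  rfl

theorem key12088 [LocallyOfFiniteType f] [LocallyOfFiniteType g]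
    (hg : ∀ n : ℤ, DerSch.IsNPseudoCoherent g n) (m : ℤ) (E : DCoh.D X)
    (U : X.affineOpens) (V : Y.affineOpens) (W : S.affineOpens)
    (h' : (U : X.Opens) ≤ f ⁻¹ᵁ (V : Y.Opens)) (h : (V : Y.Opens) ≤ g ⁻¹ᵁ (W : S.Opens))
    (h'' : (U : X.Opens) ≤ (f ≫ g) ⁻¹ᵁ (W : S.Opens)) :
    ∃ (n : ℕ) (β : MvPolynomial (Fin n) Γ(Y, (V : Y.Opens)) →+* Γ(X, (U : X.Opens)))
      (l : ℕ) (γ : MvPolynomial (Fin l) Γ(S, (W : S.Opens)) →+* Γ(X, (U : X.Opens))),
      DerSch.IsChart f (U : X.Opens) (V : Y.Opens) h' β ∧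
      DerSch.IsChart (f ≫ g) (U : X.Opens) (W : S.Opens) h'' γ ∧
      (GPC m E (U : X.Opens) β ↔ GPC m E (U : X.Opens) γ) := by
  obtain ⟨k, α, hα⟩ := exists_isChart g V.1 W.1 h
    (LocallyOfFiniteType.finiteType_appLE g W.2 V.2 h)
  obtain ⟨n, β, hβ⟩ := exists_isChart f U.1 V.1 h'
    (LocallyOfFiniteType.finiteType_appLE f V.2 U.2 h')
  exact ⟨n, β, n + k, compChart U.1 α β, hβ,
    isChart_compChart f g U.1 V.1 W.1 h' h h'' α hα β hβ,
    (gpc_compChart_iff U.1 α β hα.1 (resPC_of_chart g hg V W h α hα) m E).symm⟩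

theorem main12088 [LocallyOfFiniteType f] [LocallyOfFiniteType g]
    (hg : ∀ n : ℤ, DerSch.IsNPseudoCoherent g n) (m : ℤ) (E : DCoh.D X) :
    DerSch.IsPseudoCoherentRel f m E ↔ DerSch.IsPseudoCoherentRel (f ≫ g) m E := by
  haveI : LocallyOfFiniteType (f ≫ g) := inferInstance
  constructor
  · intro H
    rw [relPC_iff_forall_gpc] at H
    refine ⟨inferInstance, Set.univ, ?_, fun W _ =>
      ⟨{U | ∃ V : Y.affineOpens, (U : X.Opens) ≤ f ⁻¹ᵁ (V : Y.Opens) ∧
        (V : Y.Opens) ≤ g ⁻¹ᵁ (W : S.Opens)}, ?_, ?_⟩⟩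
    · rw [eq_top_iff]
      intro y _
      obtain ⟨V, hV, hyV, -⟩ := Opens.isBasis_iff_nbhd.mp S.isBasis_affineOpens
        (show y ∈ (⊤ : S.Opens) from trivial)
      exact Opens.mem_iSup.mpr ⟨⟨V, hV⟩, Opens.mem_iSup.mpr ⟨Set.mem_univ _, hyV⟩⟩
    · apply le_antisymm
      · refine iSup₂_le (fun U hU => ?_)
        obtain ⟨V, h', h⟩ := hU
        exact h'.trans (fun x hx => h hx)
      · intro x hx
        obtain ⟨V, hV, hxV, hVW⟩ := Opens.isBasis_iff_nbhd.mp Y.isBasis_affineOpens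
          (show f x ∈ g ⁻¹ᵁ (W : S.Opens) from hx)
        obtain ⟨U, hU, hxU, hUV⟩ := Opens.isBasis_iff_nbhd.mp X.isBasis_affineOpens
          (show x ∈ f ⁻¹ᵁ V from hxV)
        exact Opens.mem_iSup.mpr ⟨⟨U, hU⟩, Opens.mem_iSup.mpr ⟨⟨⟨V, hV⟩, hUV, hVW⟩, hxU⟩⟩
    · rintro U ⟨V, h', h⟩ h''
      obtain ⟨n, β, l, γ, hβ, hγ, hiff⟩ := key12088 f g hg m E U V W h' h h''
      exact ⟨l, γ, hγ, (chartPC_iff_gpc m E U.1 U.2 W.1 γ hγ.1).mpr
        (hiff.mp (H U V h' β hβ))⟩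
  · intro H
    rw [relPC_iff_forall_gpc] at H
    refine ⟨inferInstance, {V | ∃ W : S.affineOpens, (V : Y.Opens) ≤ g ⁻¹ᵁ (W : S.Opens)}, ?_,
      fun V hV => ⟨{U | (U : X.Opens) ≤ f ⁻¹ᵁ (V : Y.Opens)}, ?_, ?_⟩⟩
    · rw [eq_top_iff]
      intro y _
      obtain ⟨W, hW, hyW, -⟩ := Opens.isBasis_iff_nbhd.mp S.isBasis_affineOpens
        (show g y ∈ (⊤ : S.Opens) from trivial)
      obtain ⟨V, hV, hyV, hVW⟩ := Opens.isBasis_iff_nbhd.mp Y.isBasis_affineOpens
        (show y ∈ g ⁻¹ᵁ W from hyW)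
      exact Opens.mem_iSup.mpr ⟨⟨V, hV⟩, Opens.mem_iSup.mpr ⟨⟨⟨W, hW⟩, hVW⟩, hyV⟩⟩
    · apply le_antisymm
      · exact iSup₂_le (fun U hU => hU)
      · intro x hx
        obtain ⟨U, hU, hxU, hUV⟩ := Opens.isBasis_iff_nbhd.mp X.isBasis_affineOpens hx
        exact Opens.mem_iSup.mpr ⟨⟨U, hU⟩, Opens.mem_iSup.mpr ⟨hUV, hxU⟩⟩
    · intro U _ h'
      obtain ⟨W, h⟩ := hV
      have h'' : (U : X.Opens) ≤ (f ≫ g) ⁻¹ᵁ (W : S.Opens) := h'.trans (fun x hx => h hx)
      obtain ⟨n, β, l, γ, hβ, hγ, hiff⟩ := key12088 f g hg m E U V W h' h h''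
      exact ⟨n, β, hβ, (chartPC_iff_gpc m E U.1 U.2 V.1 β hβ.1).mpr
        (hiff.mpr (H U W h'' γ hγ))⟩

end Main

end

end Groth.Agent.Lib.RelPCbH3
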