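import Mathlib
import Groth.Prelude
import Groth.Agent.Lib.RelPCj_helper3
import Groth.Agent.Lib.DMod11_helper6

/-!
# Relative pseudo-coherence, part m: `(-1)`-pseudo-coherent morphisms are the morphisms locally
of finite presentation (helper3)

* `main6225`.
-/

set_option autoImplicit false
set_option linter.all false
set_option maxHeartbeats 1600000
set_option backward.isDefEq.respectTransparency false
set_option backward.isDefEq.respectTransparency.types false
set_option backward.defeqAttrib.useBackward true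

universe u
open CategoryTheory CategoryTheory.Limits AlgebraicGeometry Opposite TopologicalSpace
open CategoryTheory.Pretriangulated

attribute [local instance] HasDerivedCategory.standard

namespace Groth.Agent.Lib.RelPCbH3

open Groth.Agent.Lib.DCohLocLead DerivedCategory Groth.Agent.Lib.FpqcPCH3
  Groth.Agent.Lib.FinPushPCH3 Groth.Agent.Lib.BCOpenL Groth.Agent.Lib.RelPCaH3
  Groth.Agent.Lib.DMod_helper6 Groth.Agent.Lib.TildePCH3 Groth.Agent.Lib.TildeAmpL DRing

noncomputable section

local instance hasRpushInst15 {X Y : Scheme.{u}} (f : X ⟶ Y) : DCoh.HasRpush f := hasRpush f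

section Ring

theorem isPseudoCoherentModule_negOne_iff (A : Type u) [CommRing A] (M : Type u) [AddCommGroup M]
    [Module A M] : DRing.IsPseudoCoherentModule A (-1) M ↔ Module.FinitePresentation A M := by
  refine ⟨fun h => ?_, fun h => isPseudoCoherentModule_negOne_of_fp M⟩
  have := finitePresentation_HD_of_isPseudoCoherent (Dual.inD A M)
    (-1) 0 (by norm_num) h (fun i hi => isZero_HD_inD _ i (by omega))
  exact finitePresentation_of_iso (HDinDIso (ModuleCat.of A M)) this

theorem isPseudoCoherentModule_zero_iff (A : Type u) [CommRing A] (M : Type u) [AddCommGroup M]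
    [Module A M] : DRing.IsPseudoCoherentModule A 0 M ↔ Module.Finite A M := by
  refine ⟨fun h => ?_, fun h => isPseudoCoherentModule_zero_of_finite M⟩
  have := finite_HD_of_isPseudoCoherent (Dual.inD A M) 0 h
    (fun i hi => isZero_HD_inD _ i (by omega))
  exact finite_of_iso (HDinDIso (ModuleCat.of A M)) this

/-- for a surjection `α : R[x_1..x_n] ↠ B` of `R`-algebras: `B` is a finitely presented module
over the polynomial ring iff it is a finitely presented `R`-algebra -/
theorem fp_module_iff_fp_algebra {R B : Type u} [CommRing R] [CommRing B] [Algebra R B] {n : ℕ}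
    (α : MvPolynomial (Fin n) R →ₐ[R] B) (hα : Function.Surjective α) :
    (letI : Algebra (MvPolynomial (Fin n) R) B := α.toRingHom.toAlgebra
     Module.FinitePresentation (MvPolynomial (Fin n) R) B) ↔ Algebra.FinitePresentation R B := by
  letI : Algebra (MvPolynomial (Fin n) R) B := α.toRingHom.toAlgebra
  let l : MvPolynomial (Fin n) R →ₗ[MvPolynomial (Fin n) R] B :=
    Algebra.linearMap (MvPolynomial (Fin n) R) B
  have hl : Function.Surjective l := hα
  have hker : LinearMap.ker l = RingHom.ker α.toRingHom := by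
    ext x
    rfl
  rw [← Module.FinitePresentation.fg_ker_iff l hl, hker]
  constructor
  · intro h
    exact Algebra.FinitePresentation.of_surjective hα h
  · intro h
    exact Algebra.FinitePresentation.ker_fG_of_surjective α hα

end Ring

variable {X S : Scheme.{u}} (f : X ⟶ S)

theorem gpc_unit_negOne_iff (U : X.affineOpens) (V : S.affineOpens)
    (h : (U : X.Opens) ≤ f ⁻¹ᵁ (V : S.Opens)) {n : ℕ}
    (φ : MvPolynomial (Fin n) Γ(S, (V : S.Opens)) →+* Γ(X, (U : X.Opens)))
    (hφ : DerSch.IsChart f (U : X.Opens) (V : S.Opens) h φ) :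
    GPC (-1) (DCoh.toD X (DerSch.unitCx X)) (U : X.Opens) φ ↔
      (f.appLE (V : S.Opens) (U : X.Opens) h).hom.FinitePresentation := by
  haveI : PreservesFiniteLimits (tilde.functor Γ(X, (U : X.Opens))) :=
    Groth.Agent.Lib.LpullQCL.preservesFiniteLimits_tilde Γ(X, (U : X.Opens))
  obtain ⟨e⟩ := nonempty_unit_ring_rep U.1 U.2
  rw [gpc_iff_ring U.1 U.2 φ (-1) _ _ e]
  letI algR : Algebra Γ(S, (V : S.Opens)) Γ(X, (U : X.Opens)) :=
    (f.appLE (V : S.Opens) (U : X.Opens) h).hom.toAlgebra
  let α : MvPolynomial (Fin n) Γ(S, (V : S.Opens)) →ₐ[Γ(S, (V : S.Opens))] Γ(X, (U : X.Opens)) :=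
    { φ with commutes' := fun r => DFunLike.congr_fun hφ.2 r }
  letI algP : Algebra (MvPolynomial (Fin n) Γ(S, (V : S.Opens))) Γ(X, (U : X.Opens)) :=
    α.toRingHom.toAlgebra
  have e2 : (DRing.restrictD φ).obj (Dual.inD Γ(X, (U : X.Opens)) Γ(X, (U : X.Opens))) ≅
      Dual.inD (MvPolynomial (Fin n) Γ(S, (V : S.Opens))) Γ(X, (U : X.Opens)) :=
    restrictDInDSelfIso (A := MvPolynomial (Fin n) Γ(S, (V : S.Opens)))
      (B := Γ(X, (U : X.Opens)))
  rw [isPseudoCoherent_iff_of_iso e2 (-1)]
  exact (isPseudoCoherentModule_negOne_iff _ _).trans (fp_module_iff_fp_algebra α hφ.1)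

theorem main6225 [LocallyOfFiniteType f] :
    DerSch.IsNPseudoCoherent f (-1) ↔ LocallyOfFinitePresentation f := by
  show DerSch.IsPseudoCoherentRel f (-1) (DCoh.toD X (DerSch.unitCx X)) ↔ _
  rw [relPC_iff_forall_gpc]
  constructor
  · intro H
    refine ⟨fun {V} hV {U} hU e => ?_⟩
    obtain ⟨n, φ, hφ⟩ := exists_isChart f U V e
      (LocallyOfFiniteType.finiteType_appLE f hV hU e)
    exact (gpc_unit_negOne_iff f ⟨U, hU⟩ ⟨V, hV⟩ e φ hφ).mp (H ⟨U, hU⟩ ⟨V, hV⟩ e φ hφ)
  · intro hf U V h n φ hφ
    exact (gpc_unit_negOne_iff f U V h φ hφ).mpr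
      (LocallyOfFinitePresentation.finitePresentation_appLE f V.2 U.2 h)

end

end Groth.Agent.Lib.RelPCbH3
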