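import Mathlib
import Groth.Prelude
import Groth.Agent.Lib.RelPCm_helper3
import Groth.Agent.Lib.RelPCl_helper3
import Groth.Agent.Lib.RelPCk_helper3
import Groth.Agent.Lib.RelPCQc_helper3
import Groth.Agent.Lib.FlatDesc20_helper8
import Groth.Agent.Lib.FlatSec_helper8
import Groth.Agent.Lib.QCohFP_helper9
import Groth.Agent.Lib.FlatFP_helper2
import Groth.Agent.Lib.DMod50_helper6

/-!
# Relative pseudo-coherence, part q: modules flat over the base and finitely presented relative
to the base are pseudo-coherent relative to the base (helper3)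

* `nonempty_module_ring_rep`: the ring-level representative of `F|_V` for a quasi-coherent module
  `F` and an affine open `V`.
* `relPC_of_flat_of_fp`: flat over the base + `(-1)`-pseudo-coherent relative to `f` implies
  `m`-pseudo-coherent relative to `f` for every `m` (via helper8's finite free resolutions).
* `main6215`, `main6216`, `main6213`.
-/

set_option autoImplicit false
set_option linter.all false
set_option maxHeartbeats 1600000
set_option backward.isDefEq.respectTransparency false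
set_option backward.isDefEq.respectTransparency.types false
set_option backward.defeqAttrib.useBackward true

universe u
open CategoryTheory CategoryTheory.Limits AlgebraicGeometry Opposite TopologicalSpace
open CategoryTheory.Pretriangulated

attribute [local instance] HasDerivedCategory.standard

namespace Groth.Agent.Lib.RelPCbH3

open Groth.Agent.Lib.DCohLocLead DerivedCategory Groth.Agent.Lib.FpqcPCH3
  Groth.Agent.Lib.FinPushPCH3 Groth.Agent.Lib.BCOpenL Groth.Agent.Lib.RelPCaH3
  Groth.Agent.Lib.DMod_helper6 Groth.Agent.Lib.TildePCH3 Groth.Agent.Lib.TildeAmpL DRing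

noncomputable section

local instance hasRpushInst18 {X Y : Scheme.{u}} (f : X ⟶ Y) : DCoh.HasRpush f := hasRpush f

section ModRep

variable {Y : Scheme.{u}} (V : Y.Opens) (hV : IsAffineOpen V)

/-- the ring-level representative of `F|_V`, for `V` affine and `F` quasi-coherent -/
theorem nonempty_module_ring_rep [PreservesFiniteLimits (tilde.functor Γ(Y, V))]
    (F : Y.Modules) [F.IsQuasicoherent] :
    Nonempty ((DCoh.tildeD Γ(Y, V)).obj (Dual.inD Γ(Y, V) Γ(F, V)) ≅
      (RP hV.isoSpec.hom).obj ((DD V.ι).obj (DCoh.inD Y F))) := by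
  obtain ⟨b⟩ := nonempty_RP_isoSpec_iso V hV (DCoh.inD Y F)
  let e2 : (DD hV.fromSpec).obj (DCoh.inD Y F) ≅
      DCoh.inD (Spec Γ(Y, V)) ((Scheme.Modules.restrictFunctor hV.fromSpec).obj F) :=
    ((Scheme.Modules.restrictFunctor hV.fromSpec).mapDerivedCategorySingleFunctor 0).app _
  let e5 : (DCoh.tildeD Γ(Y, V)).obj (Dual.inD Γ(Y, V) Γ(F, V)) ≅
      DCoh.inD (Spec Γ(Y, V)) ((tilde.functor Γ(Y, V)).obj (ModuleCat.of Γ(Y, V) Γ(F, V))) :=
    ((tilde.functor Γ(Y, V)).mapDerivedCategorySingleFunctor 0).app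
      (ModuleCat.of Γ(Y, V) Γ(F, V))
  let e6 : ModuleCat.of Γ(Y, V) Γ(F, V) ≅ QCohFP.secSpec hV F :=
    (QCohFP.secSpecEquiv hV F).symm.toModuleIso
  haveI : (F.restrict hV.fromSpec).IsQuasicoherent := inferInstance
  haveI : IsIso (F.restrict hV.fromSpec).fromTildeΓ :=
    Scheme.Modules.isIso_fromTildeΓ_of_isQuasicoherent _
  let e7 : (tilde.functor Γ(Y, V)).obj (QCohFP.secSpec hV F) ≅
      (Scheme.Modules.restrictFunctor hV.fromSpec).obj F :=
    asIso (F.restrict hV.fromSpec).fromTildeΓ
  exact ⟨e5 ≪≫ (DerivedCategory.singleFunctor _ 0).mapIso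
    ((tilde.functor Γ(Y, V)).mapIso e6 ≪≫ e7) ≪≫ e2.symm ≪≫ b.symm⟩

end ModRep

section Main

variable {X S : Scheme.{u}} (f : X ⟶ S)

theorem relPC_of_iso [LocallyOfFiniteType f] {E E' : DCoh.D X} (e : E ≅ E') (m : ℤ)
    (h : DerSch.IsPseudoCoherentRel f m E) : DerSch.IsPseudoCoherentRel f m E' := by
  rw [relPC_iff_forall_gpc] at h ⊢
  intro U V hUV n φ hφ
  exact gpc_of_iso e m _ φ (h U V hUV φ hφ)

/-- a module flat over the base and finitely presented relative to the base is pseudo-coherent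
relative to the base -/
theorem relPC_of_flat_of_fp [LocallyOfFiniteType f] (M : X.Modules)
    (hfl : FlatMod.IsFlatOver f M)
    (hfp : DerSch.IsPseudoCoherentRel f (-1) (DCoh.inD X M)) (m : ℤ) :
    DerSch.IsPseudoCoherentRel f m (DCoh.inD X M) := by
  have hq0 := Groth.Agent.Lib.RelPCQcH3.main7213 f (-1) _ hfp 0 (by norm_num)
  let e0 : DCoh.HD (DCoh.inD X M) 0 ≅ M :=
    (homologyFunctorFactors X.Modules 0).app ((CochainComplex.singleFunctor X.Modules 0).obj M) ≪≫
      HomologicalComplex.singleObjHomologySelfIso (ComplexShape.up ℤ) 0 M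
  haveI hq : M.IsQuasicoherent :=
    (SheafOfModules.isQuasicoherent X.ringCatSheaf).prop_of_iso e0 hq0
  rw [relPC_iff_forall_gpc] at hfp ⊢
  intro U V hUV n φ hφ
  have H := hfp U V hUV φ hφ
  haveI : PreservesFiniteLimits (tilde.functor Γ(X, (U : X.Opens))) :=
    Groth.Agent.Lib.LpullQCL.preservesFiniteLimits_tilde Γ(X, (U : X.Opens))
  obtain ⟨e⟩ := nonempty_module_ring_rep U.1 U.2 M
  rw [gpc_iff_ring U.1 U.2 φ _ _ _ e] at H ⊢
  let N : ModuleCat.{u} Γ(X, (U : X.Opens)) := ModuleCat.of Γ(X, (U : X.Opens)) Γ(M, (U : X.Opens))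
  let e2 := restrictDInDIso φ N
  rw [isPseudoCoherent_iff_of_iso e2] at H ⊢
  let N' : ModuleCat.{u} (MvPolynomial (Fin n) Γ(S, (V : S.Opens))) :=
    (ModuleCat.restrictScalars φ).obj N
  have hfpN : Module.FinitePresentation (MvPolynomial (Fin n) Γ(S, (V : S.Opens))) N' :=
    (isPseudoCoherentModule_negOne_iff _ N').mp H
  -- the module structure over the base ring
  letI mR : Module Γ(S, (V : S.Opens)) N' :=
    Module.compHom Γ(M, (U : X.Opens)) (f.appLE (V : S.Opens) (U : X.Opens) hUV).hom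
  haveI : IsScalarTower Γ(S, (V : S.Opens)) (MvPolynomial (Fin n) Γ(S, (V : S.Opens))) N' := by
    refine IsScalarTower.of_algebraMap_smul (fun r x => ?_)
    change φ (MvPolynomial.C r) • (show Γ(M, (U : X.Opens)) from x) =
      (f.appLE (V : S.Opens) (U : X.Opens) hUV).hom r • (show Γ(M, (U : X.Opens)) from x)
    have := DFunLike.congr_fun hφ.2 r
    rw [← this]
    rfl
  haveI hflN : Module.Flat Γ(S, (V : S.Opens)) N' :=
    FlatSecH8.flat_sections_of_flat_stalks f M U.2 hUV (fun x hxU =>
      (FlatSecH8.isFlatOverAt_iff_flat_stalk f M V.2 hUV hxU).mp (hfl x))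
  haveI := hfpN
  obtain ⟨Pres, hPres⟩ := Groth.Agent.Lib.FlatDescH8.exists_finite_free_resolution_of_flat
    Γ(S, (V : S.Opens)) (MvPolynomial (Fin n) Γ(S, (V : S.Opens))) N'
  have hpc := Groth.Agent.Lib.PCHom.pcModule_of_resolution N' Pres hPres
  exact (isPseudoCoherent'_iff_forall _).1 hpc m

/-- `M[0]` as the class of the complex `M` in degree `0` -/
def single0Iso (M : X.Modules) :
    DCoh.toD X ((HomologicalComplex.single _ (ComplexShape.up ℤ) 0).obj M) ≅ DCoh.inD X M :=
  ((singleFunctorIsoCompQ X.Modules 0).app M).symm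

theorem main6215 [LocallyOfFiniteType f] (E : CochainComplex X.Modules ℤ) (b : ℤ)
    (hb : ∀ i : ℤ, b < i → IsZero (E.X i))
    (hfl : ∀ i : ℤ, FlatMod.IsFlatOver f (E.X i))
    (hfp : ∀ i : ℤ, DerSch.IsPseudoCoherentRel f (-1)
      (DCoh.toD X ((HomologicalComplex.single _ (ComplexShape.up ℤ) 0).obj (E.X i)))) :
    DerSch.IsPseudoCoherentRelAll f (DCoh.toD X E) := by
  intro m
  refine main7215 f m E b hb (fun i => ?_)
  exact relPC_of_flat_of_fp f (E.X i) (hfl i) (relPC_of_iso f (single0Iso (E.X i)) _ (hfp i)) _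

/-- a complex of modules flat over the base, vanishing outside `[a, b]`, has tor amplitude in
`[a, b]` relative to the base -/
theorem hasTorAmplitude_of_terms (E : CochainComplex X.Modules ℤ) (a b : ℤ)
    (hab : DCoh.VanishesOutside E a b) (hfl : ∀ i : ℤ, FlatMod.IsFlatOver f (E.X i)) :
    DerSch.HasTorAmplitude f a b E := by
  intro x
  refine ⟨(DerSch.stalkCxOver f x).obj E, fun i hi => ?_, fun i => ?_, ⟨Iso.refl _⟩⟩
  · exact (DerSch.stalkOver f x).map_isZero (hab i hi)
  · exact hfl i x

theorem main6216 [LocallyOfFiniteType f] (E : CochainComplex X.Modules ℤ) (a b : ℤ)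
    (hab : DCoh.VanishesOutside E a b)
    (hfl : ∀ i : ℤ, FlatMod.IsFlatOver f (E.X i))
    (hfp : ∀ i : ℤ, DerSch.IsPseudoCoherentRel f (-1)
      (DCoh.toD X ((HomologicalComplex.single _ (ComplexShape.up ℤ) 0).obj (E.X i)))) :
    DerSch.HasPerfAmplitudeRel f a b E :=
  ⟨main6215 f E b (fun i hi => hab i (Or.inr hi)) hfl hfp, hasTorAmplitude_of_terms f E a b hab hfl⟩

/-- the stalkwise tor amplitude `[0, 0]` of a module in degree `0` is flatness over the base -/
theorem hasTorAmplitudeAt_single_iff (M : X.Modules) (x : X) :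
    DerSch.HasTorAmplitudeAt f 0 0 ((HomologicalComplex.single _ (ComplexShape.up ℤ) 0).obj M) x ↔
      FlatMod.IsFlatOverAt f M x := by
  let e1 : (DerSch.stalkCxOver f x).obj ((HomologicalComplex.single _ (ComplexShape.up ℤ) 0).obj M) ≅
      (HomologicalComplex.single _ (ComplexShape.up ℤ) 0).obj ((DerSch.stalkOver f x).obj M) :=
    (HomologicalComplex.singleMapHomologicalComplex (DerSch.stalkOver f x)
      (ComplexShape.up ℤ) 0).app M
  let e2 : DRing.toD ((DerSch.stalkCxOver f x).obj
      ((HomologicalComplex.single _ (ComplexShape.up ℤ) 0).obj M)) ≅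
      Dual.inD (S.presheaf.stalk (f.base x)) ((DerSch.stalkOver f x).obj M) :=
    Q.mapIso e1 ≪≫ ((singleFunctorIsoCompQ _ 0).app ((DerSch.stalkOver f x).obj M)).symm
  constructor
  · intro h3
    have h4 := hasTorAmplitudeIn_of_iso e2 0 0 h3
    have h5 : Module.Flat (S.presheaf.stalk (f.base x)) ((DerSch.stalkOver f x).obj M) :=
      (hasTorAmplitudeIn_zero_zero_iff_flat (A := S.presheaf.stalk (f.base x))
        ((DerSch.stalkOver f x).obj M)).mp h4
    exact h5
  · intro h
    have h5 : Module.Flat (S.presheaf.stalk (f.base x)) ((DerSch.stalkOver f x).obj M) := h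
    exact hasTorAmplitudeIn_of_iso e2.symm 0 0
      ((hasTorAmplitudeIn_zero_zero_iff_flat (A := S.presheaf.stalk (f.base x))
        ((DerSch.stalkOver f x).obj M)).mpr h5)

theorem main6213 [LocallyOfFiniteType f] (M : X.Modules) :
    DerSch.HasPerfAmplitudeRel f 0 0 ((HomologicalComplex.single _ (ComplexShape.up ℤ) 0).obj M) ↔
      (FlatMod.IsFlatOver f M ∧ DerSch.IsPseudoCoherentRel f (-1)
        (DCoh.toD X ((HomologicalComplex.single _ (ComplexShape.up ℤ) 0).obj M))) := by
  constructor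
  · rintro ⟨h1, h2⟩
    exact ⟨fun x => (hasTorAmplitudeAt_single_iff f M x).mp (h2 x), h1 (-1)⟩
  · rintro ⟨hfl, hfp⟩
    refine ⟨fun m => ?_, fun x => (hasTorAmplitudeAt_single_iff f M x).mpr (hfl x)⟩
    exact relPC_of_iso f (single0Iso M).symm m
      (relPC_of_flat_of_fp f M hfl (relPC_of_iso f (single0Iso M) _ hfp) m)

end Main

end

end Groth.Agent.Lib.RelPCbH3
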