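import Mathlib
import Groth.Prelude
import Groth.Agent.Lib.RelPCg_helper3
import Groth.Agent.Lib.RelPCk_helper3
import Groth.Agent.Lib.RelPCq_helper3
import Groth.Agent.Lib.TensPC2_helper3
import Groth.Agent.Lib.PCohFT3_lead
import Groth.Agent.Lib.QCohCrit_helper9
import Groth.Agent.Lib.CohDev11_helper8
import Groth.Agent.Lib.CohOpen2_helper8

/-!
# Relative pseudo-coherence over a locally Noetherian base (helper3)

* `isCoh_of_pushforward`: for a closed immersion `i`, `i_* N` coherent implies `N` coherent.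
* `isCohD_of_relPC`: over a locally Noetherian base, a relatively pseudo-coherent object has
  coherent cohomology sheaves.
* `relPC_of_coh`: over a locally Noetherian base, an object with coherent cohomology sheaves which is
  locally bounded above is relatively pseudo-coherent.
* `exists_isLE_restrict_of_relPC`: a relatively pseudo-coherent object is bounded above on every
  quasi-compact open.
-/

set_option autoImplicit false
set_option linter.all false
set_option maxHeartbeats 1600000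
set_option backward.isDefEq.respectTransparency false
set_option backward.isDefEq.respectTransparency.types false
set_option backward.defeqAttrib.useBackward true

universe u
open CategoryTheory CategoryTheory.Limits AlgebraicGeometry Opposite TopologicalSpace
open CategoryTheory.Pretriangulated

attribute [local instance] HasDerivedCategory.standard

namespace Groth.Agent.Lib.RelPCPropH3

open Groth.Agent.Lib.DCohLocLead DerivedCategory Groth.Agent.Lib.BCOpenL Groth.Agent.Lib.RelPCaH3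
  Groth.Agent.Lib.RelPCbH3

noncomputable section

local instance hasRpushInstP {X Y : Scheme.{u}} (f : X ⟶ Y) : DCoh.HasRpush f := hasRpush f

section Mod

variable {X : Scheme.{u}}

theorem isCoh_of_iso {M N : X.Modules} (e : M ≅ N) (hN : Coh.IsCoh N) : Coh.IsCoh M := by
  haveI := hN.1
  haveI hMq : M.IsQuasicoherent := CohOpenH8.isQuasicoherent_of_iso e
  exact ⟨hMq, CohOpenH8.isFiniteType_of_iso e hN.2⟩

/-- for a closed immersion, coherence can be tested after direct image -/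
theorem isCoh_of_pushforward {Z A : Scheme.{u}} (i : Z ⟶ A) [IsClosedImmersion i] (N : Z.Modules)
    (h : Coh.IsCoh ((Scheme.Modules.pushforward i).obj N)) : Coh.IsCoh N := by
  have hq : N.IsQuasicoherent := Groth.Agent.Lib.RelPCQcH3.isQuasicoherent_of_pushforward i N h.1
  haveI := hq
  exact ⟨hq, QCohCrit.isFiniteType_of_pushforward i N h.2⟩

theorem isCoh_restrict {U : Scheme.{u}} (j : U ⟶ X) [IsOpenImmersion j] (M : X.Modules)
    (hM : Coh.IsCoh M) : Coh.IsCoh ((Scheme.Modules.restrictFunctor j).obj M) := by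
  haveI := hM.1
  have h1 : Coh.IsCoh (M.restrict j) := ⟨inferInstance, CohOpenH8.isFiniteType_restrict j M hM.2⟩
  exact h1

theorem isCoh_of_forall_point (M : X.Modules)
    (h : ∀ x : X, ∃ U : X.Opens, x ∈ U ∧
      Coh.IsCoh ((Scheme.Modules.restrictFunctor U.ι).obj M)) : Coh.IsCoh M := by
  choose V hxV hcoh using h
  have hcov : ⨆ x, V x = ⊤ := by
    rw [eq_top_iff]
    intro x _
    exact TopologicalSpace.Opens.mem_iSup.mpr ⟨x, hxV x⟩
  haveI hq : M.IsQuasicoherent :=
    Groth.Agent.Lib.BModH6.isQuasicoherent_of_restrict_ι _ V hcov (fun x => (hcoh x).1)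
  exact ⟨hq, isFiniteType_of_restrict _ V hcov (fun x => (hcoh x).2)⟩

end Mod

section D

variable {X : Scheme.{u}}

theorem isLE_iff_Lt (K : DCoh.D X) (b : ℤ) : K.IsLE b ↔ Lt (b + 1) K := by
  rw [DerivedCategory.isLE_iff]
  constructor
  · intro h i hi
    exact h i (by omega)
  · intro h i hi
    exact h i (by omega)

theorem isLE_DD {Y : Scheme.{u}} (j : Y ⟶ X) [IsOpenImmersion j] (K : DCoh.D X) (b : ℤ)
    (h : K.IsLE b) : ((DD j).obj K).IsLE b := by
  rw [DerivedCategory.isLE_iff] at h ⊢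
  intro i hi
  obtain ⟨e⟩ := nonempty_HD_restrict_iso j K i
  exact IsZero.of_iso ((Scheme.Modules.restrictFunctor j).map_isZero (h i hi)) e

theorem isGE_DD {Y : Scheme.{u}} (j : Y ⟶ X) [IsOpenImmersion j] (K : DCoh.D X) (a : ℤ)
    (h : K.IsGE a) : ((DD j).obj K).IsGE a := by
  rw [DerivedCategory.isGE_iff] at h ⊢
  intro i hi
  obtain ⟨e⟩ := nonempty_HD_restrict_iso j K i
  exact IsZero.of_iso ((Scheme.Modules.restrictFunctor j).map_isZero (h i hi)) e

theorem isCohD_DD {Y : Scheme.{u}} (j : Y ⟶ X) [IsOpenImmersion j] (K : DCoh.D X)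
    (h : DCoh.IsCohD K) : DCoh.IsCohD ((DD j).obj K) := by
  intro i
  obtain ⟨e⟩ := nonempty_HD_restrict_iso j K i
  exact isCoh_of_iso e (isCoh_restrict j _ (h i))

theorem isCohD_of_forall_point (K : DCoh.D X)
    (h : ∀ x : X, ∃ U : X.Opens, x ∈ U ∧ DCoh.IsCohD ((DD U.ι).obj K)) : DCoh.IsCohD K := by
  intro i
  apply isCoh_of_forall_point
  intro x
  obtain ⟨U, hxU, hU⟩ := h x
  obtain ⟨e⟩ := nonempty_HD_restrict_iso U.ι K i
  exact ⟨U, hxU, isCoh_of_iso e.symm (hU i)⟩

theorem isCohD_of_iso {K L : DCoh.D X} (e : K ≅ L) (h : DCoh.IsCohD K) : DCoh.IsCohD L :=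
  fun i => isCoh_of_iso ((homologyFunctor X.Modules i).mapIso e.symm) (h i)

theorem isLE_of_iso' {K L : DCoh.D X} (e : K ≅ L) (b : ℤ) (h : K.IsLE b) : L.IsLE b := by
  haveI := h
  exact TStructure.t.isLE_of_iso e b

theorem isGE_of_iso' {K L : DCoh.D X} (e : K ≅ L) (a : ℤ) (h : K.IsGE a) : L.IsGE a := by
  haveI := h
  exact TStructure.t.isGE_of_iso e a

end D

section Chart

variable {X : Scheme.{u}}

/-- the cohomology of `R i_* K₀` for a closed immersion `i` -/
theorem nonempty_HD_RP_iso {Z A : Scheme.{u}} (i : Z ⟶ A) [IsClosedImmersion i] (K₀ : DCoh.D Z)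
    (j : ℤ) :
    Nonempty (DCoh.HD ((RP i).obj K₀) j ≅ (Scheme.Modules.pushforward i).obj (DCoh.HD K₀ j)) := by
  obtain ⟨e2⟩ := nonempty_homology_mapExact_iso (Scheme.Modules.pushforward i) K₀ j
  exact ⟨(homologyFunctor A.Modules j).mapIso
    ((Groth.Agent.Lib.ProjFormulaH3.RpushIsoMapD i).app K₀) ≪≫ e2⟩

theorem isCoh_HD_of_forall_gpc (E : DCoh.D X) (U : X.Opens) {B : Type u} [CommRing B]
    [IsNoetherianRing B] (β : B →+* Γ(X, U)) [IsClosedImmersion (cImm U β)]
    (h : ∀ m : ℤ, GPC m E U β) (j : ℤ) :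
    Coh.IsCoh ((Scheme.Modules.restrictFunctor U.ι).obj (DCoh.HD E j)) := by
  haveI : IsLocallyNoetherian (Spec (CommRingCat.of B)) := inferInstance
  have h1 : Coh.IsCoh (DCoh.HD ((RP (cImm U β)).obj ((DD U.ι).obj E)) j) :=
    Groth.Agent.Lib.TensPCH3.isCoh_HD_of_isPC _ h j
  obtain ⟨e1⟩ := nonempty_HD_RP_iso (cImm U β) ((DD U.ι).obj E) j
  have h2 := isCoh_of_iso e1.symm h1
  have h3 := isCoh_of_pushforward (cImm U β) _ h2
  obtain ⟨e3⟩ := nonempty_HD_restrict_iso U.ι E j
  exact isCoh_of_iso e3.symm h3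

end Chart

section Main

variable {X S : Scheme.{u}}

/-- **Bridge A** -/
theorem isCohD_of_relPC [IsLocallyNoetherian S] (p : X ⟶ S) [LocallyOfFiniteType p]
    (E : DCoh.D X) (hE : DerSch.IsPseudoCoherentRelAll p E) : DCoh.IsCohD E := by
  intro j
  apply isCoh_of_forall_point
  intro x
  obtain ⟨V, hV, hxV, -⟩ := Opens.isBasis_iff_nbhd.mp S.isBasis_affineOpens
    (Opens.mem_top (p x))
  obtain ⟨U, hU, hxU, hUV⟩ := Opens.isBasis_iff_nbhd.mp X.isBasis_affineOpens
    (show x ∈ p ⁻¹ᵁ V from hxV)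
  obtain ⟨n, φ, hφ⟩ := exists_isChart p U V hUV
    (LocallyOfFiniteType.finiteType_appLE p hV hU hUV)
  haveI := isClosedImmersion_cImm U hU φ hφ.1
  haveI : IsNoetherianRing Γ(S, V) := IsLocallyNoetherian.component_noetherian ⟨V, hV⟩
  exact ⟨U, hxU, isCoh_HD_of_forall_gpc E U φ
    (fun m => (relPC_iff_forall_gpc p m E).1 (hE m) ⟨U, hU⟩ ⟨V, hV⟩ hUV φ hφ) j⟩

/-- **Bridge B** -/
theorem relPC_of_coh [IsLocallyNoetherian S] (q : X ⟶ S) [LocallyOfFiniteType q]
    (K : DCoh.D X) (hK : DCoh.IsCohD K)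
    (hb : ∀ U : X.affineOpens, ∃ b : ℤ, ((DD U.1.ι).obj K).IsLE b) :
    DerSch.IsPseudoCoherentRelAll q K := by
  intro m
  rw [relPC_iff_forall_gpc]
  intro U V h n φ hφ
  haveI := isClosedImmersion_cImm U.1 U.2 φ hφ.1
  haveI : IsNoetherianRing Γ(S, V.1) := IsLocallyNoetherian.component_noetherian V
  haveI : IsLocallyNoetherian (Spec (CommRingCat.of (MvPolynomial (Fin n) Γ(S, V.1)))) :=
    inferInstance
  obtain ⟨b, hb⟩ := hb U
  show DCoh.IsPseudoCoherentD m ((RP (cImm U.1 φ)).obj ((DD U.1.ι).obj K))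
  refine isPC_of_coh _ b m ?_ (fun j _ => ?_)
  · rw [isLE_iff_Lt] at hb ⊢
    exact (hb.mapExact (Scheme.Modules.pushforward (cImm U.1 φ))).of_iso
      ((Groth.Agent.Lib.ProjFormulaH3.RpushIsoMapD (cImm U.1 φ)).app _).symm
  · obtain ⟨e1⟩ := nonempty_HD_RP_iso (cImm U.1 φ) ((DD U.1.ι).obj K) j
    refine isCoh_of_iso e1 ?_
    exact CohDevH8.isCoh_pushforward_of_isFinite (cImm U.1 φ) ((isCohD_DD U.1.ι K hK) j)

/-- a relatively pseudo-coherent object is bounded above on quasi-compact opens -/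
theorem exists_isLE_restrict_of_relPC (p : X ⟶ S) (n : ℤ) (E : DCoh.D X)
    (hE : DerSch.IsPseudoCoherentRel p n E) (W : X.Opens) (hW : IsCompact (W : Set X)) :
    ∃ b : ℤ, ((DD W.ι).obj E).IsLE b := by
  haveI : LocallyOfFiniteType p := hE.1
  let G : CochainComplex X.Modules ℤ := Q.objPreimage E
  let e : Q.obj G ≅ E := Q.objObjPreimageIso E
  have h1 : DerSch.IsPseudoCoherentRel p n (DCoh.toD X G) := relPC_of_iso p e.symm n hE
  have h2 := main6202 p n G h1 W
  haveI : CompactSpace (W : Scheme.{u}) := isCompact_iff_compactSpace.mp hW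
  obtain ⟨b, hb⟩ := Groth.Agent.Lib.RelPCQcH3.main6236 (W.ι ≫ p) n _ h2
  exact ⟨b, isLE_of_iso' ((facIso W.ι G).symm ≪≫ (DD W.ι).mapIso e) b hb⟩

end Main

end

end Groth.Agent.Lib.RelPCPropH3
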