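import Mathlib
import Groth.Prelude
import Groth.Agent.Lib.PullTensIso3_helper3
import Groth.Agent.Lib.RpushRestrict_helper9
import Groth.Agent.Lib.ModSite20_helper8
import Groth.Agent.Lib.ModSite5_helper8

/-!
# The internal Hom of `O_X`-modules commutes with restriction to open subschemes (helper2)

`thetaIso U F : 𝓗om(F, -)|_U ≅ 𝓗om(F|_U, (-)|_U)` as functors `Mod X ⥤ Mod U`, for the Mathlib
restriction functor `Scheme.Modules.restrictFunctor U.ι` to the open subscheme `U`.
APPEND-ONLY once landed.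
-/

set_option autoImplicit false
set_option maxHeartbeats 1600000
set_option linter.style.haveILetI false
universe u
open CategoryTheory CategoryTheory.Limits AlgebraicGeometry TopologicalSpace Opposite

namespace Groth.Agent.Lib.RestrHomH2

section Abstract

variable {𝒜 ℬ : Type*} [Category 𝒜] [Category ℬ] {L : 𝒜 ⥤ ℬ} {R : ℬ ⥤ 𝒜} (adj : L ⊣ R)
  [IsIso adj.counit] (H : 𝒜 ⥤ 𝒜) (H' : ℬ ⥤ ℬ) (σ : R ⋙ H ≅ H' ⋙ R)
  (hiso : ∀ G : 𝒜, IsIso (L.map (H.map (adj.unit.app G))))

/-- the component of `thetaIsoAbs` -/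
noncomputable def thetaApp (G : 𝒜) : L.obj (H.obj G) ≅ H'.obj (L.obj G) :=
  haveI := hiso G
  asIso (L.map (H.map (adj.unit.app G))) ≪≫ L.mapIso (σ.app (L.obj G)) ≪≫
    (asIso adj.counit).app (H'.obj (L.obj G))

/-- From `R ⋙ H ≅ H' ⋙ R` for a reflective-type adjunction `L ⊣ R` (counit iso) such that `L ∘ H`
inverts the unit, deduce `H ⋙ L ≅ L ⋙ H'`. -/
noncomputable def thetaIsoAbs : H ⋙ L ≅ L ⋙ H' :=
  NatIso.ofComponents (thetaApp adj H H' σ hiso) (by
    intro G G' g
    have h1 : g ≫ adj.unit.app G' = adj.unit.app G ≫ R.map (L.map g) := adj.unit.naturality g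
    have h2 : H.map (R.map (L.map g)) ≫ σ.hom.app (L.obj G') =
        σ.hom.app (L.obj G) ≫ R.map (H'.map (L.map g)) := σ.hom.naturality (L.map g)
    have h3 : L.map (R.map (H'.map (L.map g))) ≫ adj.counit.app (H'.obj (L.obj G')) =
        adj.counit.app (H'.obj (L.obj G)) ≫ H'.map (L.map g) :=
      adj.counit.naturality (H'.map (L.map g))
    show L.map (H.map g) ≫ (L.map (H.map (adj.unit.app G')) ≫ L.map (σ.hom.app (L.obj G')) ≫
        adj.counit.app (H'.obj (L.obj G'))) =
      (L.map (H.map (adj.unit.app G)) ≫ L.map (σ.hom.app (L.obj G)) ≫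
        adj.counit.app (H'.obj (L.obj G))) ≫ H'.map (L.map g)
    rw [← L.map_comp_assoc, ← H.map_comp, h1, H.map_comp, L.map_comp_assoc,
      ← L.map_comp_assoc (H.map (R.map (L.map g))), h2, L.map_comp_assoc, h3]
    simp only [Category.assoc])

end Abstract

end Groth.Agent.Lib.RestrHomH2

namespace Groth.Agent.Lib.RestrHomH2

open ModSite Groth.Agent.Lib.ModSiteH8 Groth.Agent.Lib.PullTensIsoH3

noncomputable section

variable {X : Scheme.{u}}

theorem hsh (M : ModSite.Mod X.sheaf) : ModSite.HasSheafHom (O := X.sheaf) M := hasSheafHom _ M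

attribute [local instance] hsh

/-- restriction to the open subscheme `U`, between the site-level module categories -/
abbrev jS (U : X.Opens) : ModSite.Mod X.sheaf ⥤ ModSite.Mod (U : Scheme.{u}).sheaf :=
  Scheme.Modules.restrictFunctor U.ι

/-- direct image from the open subscheme `U` -/
abbrev jP (U : X.Opens) : ModSite.Mod (U : Scheme.{u}).sheaf ⥤ ModSite.Mod X.sheaf :=
  Scheme.Modules.pushforward U.ι

/-- the adjunction `(-)|_U ⊣ j_*` -/
def jAdj (U : X.Opens) : jS U ⊣ jP U := Scheme.Modules.restrictAdjunction U.ι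

instance isIso_jAdj_counit (U : X.Opens) : IsIso (jAdj U).counit :=
  inferInstanceAs (IsIso (Scheme.Modules.restrictAdjunction U.ι).counit)

/-- pullback commutes with `- ⊗ B`, naturally in the first variable -/
def pullTensLeftNatIso {Y : Scheme.{u}} (f : X ⟶ Y) (B : Y.Modules) :
    (DCoh.tensorBi (X := Y)).flip.obj B ⋙ Scheme.Modules.pullback f ≅
      Scheme.Modules.pullback f ⋙
        (DCoh.tensorBi (X := X)).flip.obj ((Scheme.Modules.pullback f).obj B) :=
  NatIso.ofComponents (fun A => pullTensIso f A B) (fun φ => ptHom_natural_left f φ B)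

/-- restriction to an open subscheme commutes with `- ⊗ B` -/
def muIso (U : X.Opens) (B : ModSite.Mod X.sheaf) :
    (tensorBi X.sheaf).flip.obj B ⋙ jS U ≅
      jS U ⋙ (tensorBi (U : Scheme.{u}).sheaf).flip.obj ((jS U).obj B) :=
  Functor.isoWhiskerLeft _ (Scheme.Modules.restrictFunctorIsoPullback U.ι) ≪≫
    pullTensLeftNatIso U.ι B ≪≫
    Functor.isoWhiskerLeft (Scheme.Modules.pullback U.ι)
      ((tensorBi (U : Scheme.{u}).sheaf).flip.mapIso
        ((Scheme.Modules.restrictFunctorIsoPullback U.ι).symm.app B)) ≪≫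
    Functor.isoWhiskerRight (Scheme.Modules.restrictFunctorIsoPullback U.ι).symm _

/-- `𝓗om(F, j_* H) ≅ j_* 𝓗om(F|_U, H)` -/
def starIso (U : X.Opens) (F : ModSite.Mod X.sheaf) :
    jP U ⋙ ModSite.sheafHom (O := X.sheaf) F ≅
      ModSite.sheafHom (O := (U : Scheme.{u}).sheaf) ((jS U).obj F) ⋙ jP U :=
  Adjunction.rightAdjointUniq ((ModSite.sheafHomAdj (O := X.sheaf) F).comp (jAdj U))
    (((jAdj U).comp (ModSite.sheafHomAdj (O := (U : Scheme.{u}).sheaf) ((jS U).obj F))).ofNatIsoLeft
      (muIso U F).symm)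

theorem isIso_jS_map_unit (U : X.Opens) (G : ModSite.Mod X.sheaf) :
    IsIso ((jS U).map ((jAdj U).unit.app G)) := by
  have h := (jAdj U).left_triangle_components G
  have h2 : (jS U).map ((jAdj U).unit.app G) = inv ((jAdj U).counit.app ((jS U).obj G)) :=
    IsIso.eq_inv_of_inv_hom_id h
  rw [h2]
  infer_instance

/-- a morphism restricts to an isomorphism on the localised site iff it does on the open subscheme -/
theorem isIso_restr_iff (U : X.Opens) {A B : ModSite.Mod X.sheaf} (φ : A ⟶ B) :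
    IsIso ((restr X.sheaf U).map φ) ↔ IsIso ((jS U).map φ) := by
  have e := Scheme.Modules.overFunctorEquiv U
  constructor
  · intro h
    haveI := h
    have h2 : IsIso ((SheafOfModules.overFunctor X.ringCatSheaf U ⋙
        (Scheme.Modules.overEquiv U).functor).map φ) := by
      exact ((Scheme.Modules.overEquiv U).functor.mapIso (@asIso _ _ _ _ ((restr X.sheaf U).map φ) h)).isIso_hom
    exact (NatIso.isIso_map_iff e φ).1 h2
  · intro h
    have h2 : IsIso ((SheafOfModules.overFunctor X.ringCatSheaf U ⋙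
        (Scheme.Modules.overEquiv U).functor).map φ) := (NatIso.isIso_map_iff e φ).2 h
    have h3 : IsIso ((Scheme.Modules.overEquiv U).functor.map ((restr X.sheaf U).map φ)) := h2
    exact isIso_of_reflects_iso _ (Scheme.Modules.overEquiv U).functor

theorem isIso_jS_sheafHom_unit (U : X.Opens) (F G : ModSite.Mod X.sheaf) :
    IsIso ((jS U).map ((ModSite.sheafHom (O := X.sheaf) F).map ((jAdj U).unit.app G))) := by
  rw [← isIso_restr_iff]
  haveI h1 : IsIso ((restr X.sheaf U).map ((jAdj U).unit.app G)) :=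
    (isIso_restr_iff U _).2 (isIso_jS_map_unit U G)
  haveI : ModSite.HasSheafHom ((restr X.sheaf U).obj F) := hasSheafHom _ _
  have e := restrSheafHomNatIso X.sheaf U F
  have h2 : IsIso ((restr X.sheaf U ⋙ ModSite.sheafHom ((restr X.sheaf U).obj F)).map
      ((jAdj U).unit.app G)) := by
    show IsIso ((ModSite.sheafHom ((restr X.sheaf U).obj F)).map
      ((restr X.sheaf U).map ((jAdj U).unit.app G)))
    infer_instance
  exact (NatIso.isIso_map_iff e _).2 h2

/-- **the internal Hom commutes with restriction to an open subscheme** -/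
def thetaIso (U : X.Opens) (F : ModSite.Mod X.sheaf) :
    ModSite.sheafHom (O := X.sheaf) F ⋙ jS U ≅
      jS U ⋙ ModSite.sheafHom (O := (U : Scheme.{u}).sheaf) ((jS U).obj F) :=
  thetaIsoAbs (jAdj U) (ModSite.sheafHom (O := X.sheaf) F)
    (ModSite.sheafHom (O := (U : Scheme.{u}).sheaf) ((jS U).obj F)) (starIso U F)
    (isIso_jS_sheafHom_unit U F)

theorem jS_additive (U : X.Opens) : (jS U).Additive := RpushQC.additive_restrictFunctor U

theorem jS_preservesFiniteLimits (U : X.Opens) : PreservesFiniteLimits (jS U) :=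
  RpushQC.preservesFiniteLimits_restrictFunctor U

theorem jS_preservesFiniteColimits (U : X.Opens) : PreservesFiniteColimits (jS U) :=
  haveI := (jAdj U).isLeftAdjoint
  inferInstance

theorem jS_preservesInjectiveObjects (U : X.Opens) : (jS U).PreservesInjectiveObjects :=
  RpushQC.preservesInjectiveObjects_restrictFunctor U

/-- S11328 -/
theorem main11328 (U : X.Opens) (F G : ModSite.Mod X.sheaf) (i : ℕ)
    [HasInjectiveResolutions (ModSite.Mod X.sheaf)]
    [HasInjectiveResolutions (ModSite.Mod (U : Scheme.{u}).sheaf)] :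
    Nonempty ((jS U).obj ((ModSite.extSh (O := X.sheaf) F i).obj G) ≅
      (ModSite.extSh (O := (U : Scheme.{u}).sheaf) ((jS U).obj F) i).obj ((jS U).obj G)) := by
  haveI := jS_additive U
  haveI := jS_preservesFiniteLimits U
  haveI := jS_preservesFiniteColimits U
  haveI := jS_preservesInjectiveObjects U
  exact ⟨(DerivedCommH8.rightDerivedBaseChange (ModSite.sheafHom (O := X.sheaf) F)
    (ModSite.sheafHom (O := (U : Scheme.{u}).sheaf) ((jS U).obj F)) (jS U) (jS U)
    (thetaIso U F) i).app G⟩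

/-- the pushforward as a functor between the site-level module categories -/
abbrev pfm {Y : Scheme.{u}} (f : X ⟶ Y) : ModSite.Mod X.sheaf ⥤ ModSite.Mod Y.sheaf :=
  Scheme.Modules.pushforward f

theorem pfm_additive {Y : Scheme.{u}} (f : X ⟶ Y) :
    @Functor.Additive (ModSite.Mod X.sheaf) (ModSite.Mod Y.sheaf) inferInstance inferInstance
      inferInstance inferInstance (Scheme.Modules.pushforward f) :=
  inferInstanceAs ((Scheme.Modules.pushforward f).Additive)

attribute [local instance] pfm_additive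

/-- relative internal Hom commutes with restriction to an open of the base -/
def relThetaIso {Y : Scheme.{u}} (f : X ⟶ Y) (W : Y.Opens) (F : ModSite.Mod X.sheaf) :
    (ModSite.sheafHom (O := X.sheaf) F ⋙ pfm f) ⋙ jS W ≅
      jS (f ⁻¹ᵁ W) ⋙ (ModSite.sheafHom (O := ((f ⁻¹ᵁ W : X.Opens) : Scheme.{u}).sheaf)
        ((jS (f ⁻¹ᵁ W)).obj F) ⋙ pfm (f ∣_ W)) :=
  Functor.associator _ _ _ ≪≫
    Functor.isoWhiskerLeft _ (RpushQC.pushRestrictIso f W) ≪≫
    (Functor.associator _ _ _).symm ≪≫
    Functor.isoWhiskerRight (thetaIso (f ⁻¹ᵁ W) F) (pfm (f ∣_ W)) ≪≫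
    Functor.associator _ _ _

/-- S16281 -/
theorem main16281 {Y : Scheme.{u}} (f : X ⟶ Y) (W : Y.Opens) (F G : ModSite.Mod X.sheaf) (p : ℕ)
    [HasInjectiveResolutions (ModSite.Mod X.sheaf)]
    [HasInjectiveResolutions (ModSite.Mod ((f ⁻¹ᵁ W : X.Opens) : Scheme.{u}).sheaf)] :
    Nonempty ((jS W).obj (((ModSite.sheafHom (O := X.sheaf) F ⋙ pfm f).rightDerived p).obj G) ≅
      ((ModSite.sheafHom (O := ((f ⁻¹ᵁ W : X.Opens) : Scheme.{u}).sheaf)
        ((jS (f ⁻¹ᵁ W)).obj F) ⋙ pfm (f ∣_ W)).rightDerived p).obj ((jS (f ⁻¹ᵁ W)).obj G)) := by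
  haveI := jS_additive W
  haveI := jS_preservesFiniteLimits W
  haveI := jS_preservesFiniteColimits W
  haveI := jS_additive (f ⁻¹ᵁ W)
  haveI := jS_preservesFiniteLimits (f ⁻¹ᵁ W)
  haveI := jS_preservesFiniteColimits (f ⁻¹ᵁ W)
  haveI := jS_preservesInjectiveObjects (f ⁻¹ᵁ W)
  exact ⟨(DerivedCommH8.rightDerivedBaseChange (ModSite.sheafHom (O := X.sheaf) F ⋙ pfm f)
    (ModSite.sheafHom (O := ((f ⁻¹ᵁ W : X.Opens) : Scheme.{u}).sheaf)
      ((jS (f ⁻¹ᵁ W)).obj F) ⋙ pfm (f ∣_ W)) (jS (f ⁻¹ᵁ W)) (jS W)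
    (relThetaIso f W F) p).app G⟩

end

end Groth.Agent.Lib.RestrHomH2
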