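import Mathlib
import Groth.Prelude
import Groth.Agent.Lib.RestrHom1_helper2
import Groth.Agent.Lib.RelExtSch1_helper2
import Groth.Agent.Lib.HomLin4_helper8
import Groth.Agent.Lib.HomShDual3_helper2
import Groth.Agent.Lib.CohKer_helper8
import Groth.Agent.Lib.CohSerre_helper3
import Groth.Agent.Lib.RelPCProp1_helper3
import Groth.Agent.Lib.SDivGen_helper8
import Groth.Agent.Lib.QCohFT_helper9
import Groth.Agent.Lib.FLF7_helper8
import Groth.Agent.Lib.Exist3_helper2
import Groth.Agent.Lib.LocTorCoh_helper3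
import Groth.Agent.Lib.SheafOfModulesGrothendieck_helper2

/-!
# Coherence of the local Ext sheaves of coherent modules on a locally Noetherian scheme (helper2)

APPEND-ONLY once landed.
-/

set_option autoImplicit false
set_option maxHeartbeats 1600000
set_option linter.style.haveILetI false
universe u
open CategoryTheory CategoryTheory.Limits Opposite AlgebraicGeometry TopologicalSpace

namespace Groth.Agent.Lib.ExtShCohH2
open ModSite Groth.Agent.Lib.ModSiteH8 Groth.Agent.Lib.ContraLESH2 Groth.Agent.Lib.RelExtSchH2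
  Groth.Agent.Lib.RestrHomH2

variable {X : Scheme.{u}}

theorem hsh (M : ModSite.Mod X.sheaf) : ModSite.HasSheafHom (O := X.sheaf) M := hasSheafHom _ M

attribute [local instance] hsh

theorem hir (X : Scheme.{u}) : HasInjectiveResolutions (ModSite.Mod X.sheaf) := by
  haveI : IsGrothendieckAbelian.{u} (ModSite.Mod X.sheaf) :=
    Groth.Agent.Lib.FunctorialInjective.isGrothendieckAbelian_sheafOfModules
      (Opens.grothendieckTopology X) (ModSite.ringSh X.sheaf)
  infer_instance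

attribute [local instance] hir

/-- on an affine scheme a coherent module is a quotient of a finite free module -/
theorem exists_epi_freeMod_of_isCoh {Y : Scheme.{u}} [IsAffine Y] (G : Y.Modules)
    (hG : Coh.IsCoh G) : ∃ (r : ℕ) (p : FlatMod.freeMod Y r ⟶ G), Epi p := by
  haveI : G.IsQuasicoherent := hG.1
  haveI : SheafOfModules.IsFiniteType (R := Y.ringCatSheaf) G := hG.2
  haveI : Module.Finite Γ(Y, (⊤ : Y.Opens)) Γ(G, (⊤ : Y.Opens)) :=
    QCohFT.finite_of_isFiniteType G (isAffineOpen_top Y)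
  obtain ⟨r, t, ht⟩ :=
    Module.Finite.exists_fin (R := Γ(Y, (⊤ : Y.Opens))) (M := Γ(G, (⊤ : Y.Opens)))
  exact ⟨r, SDivGenH8.freeHom G t, SDivGenH8.epi_freeHom G t ht⟩

theorem isCoh_sheafHom [IsLocallyNoetherian X] (F G : X.Modules) (hF : Coh.IsCoh F)
    (hG : Coh.IsCoh G) : Coh.IsCoh ((ModSite.sheafHom (O := X.sheaf) F).obj G) :=
  Groth.Agent.Lib.RelPCPropH3.isCoh_of_iso
    ((Groth.Agent.Lib.HomShAdjH2.modSiteSheafHomIso F).app G)
    (HomLinH8.isCoh_homSh F G hF hG)

theorem isCoh_extSh_zero [IsLocallyNoetherian X] (F G : X.Modules) (hF : Coh.IsCoh F)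
    (hG : Coh.IsCoh G) : Coh.IsCoh ((ModSite.extSh (O := X.sheaf) F 0).obj G) := by
  haveI : PreservesFiniteLimits (ModSite.sheafHom (O := X.sheaf) F) :=
    homFX_preservesFiniteLimits (op F)
  exact Groth.Agent.Lib.RelPCPropH3.isCoh_of_iso
    ((ModSite.sheafHom (O := X.sheaf) F).rightDerivedZeroIsoSelf.app G)
    (isCoh_sheafHom F G hF hG)

/-- the inductive step on an affine scheme -/
theorem isCoh_extSh_succ_affine {Y : Scheme.{u}} [IsAffine Y] [IsLocallyNoetherian Y] (i : ℕ)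
    (IH : ∀ (F G : Y.Modules), Coh.IsCoh F → Coh.IsCoh G →
      Coh.IsCoh ((ModSite.extSh (O := Y.sheaf) F i).obj G))
    (F G : Y.Modules) (hF : Coh.IsCoh F) (hG : Coh.IsCoh G) :
    Coh.IsCoh ((ModSite.extSh (O := Y.sheaf) F (i + 1)).obj G) := by
  obtain ⟨r, p, hp⟩ := exists_epi_freeMod_of_isCoh F hF
  have hfree : Coh.IsCoh (FlatMod.freeMod Y r) := Groth.Agent.Lib.FormalQuotH2.isCoh_freeMod Y r
  have hK : Coh.IsCoh (kernel p) := CohKerH8.isCoh_kernel hfree hF p
  have hm : Mono (kernel.ι p) := inferInstance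
  let S : ShortComplex (ModSite.Mod Y.sheaf) := ShortComplex.mk (kernel.ι p) p (kernel.condition p)
  have hS : S.ShortExact :=
    { exact := ShortComplex.exact_of_f_is_kernel _ (kernelIsKernel p)
      mono_f := hm
      epi_g := hp }
  obtain ⟨-, -, δ, hδ⟩ := (isGood_homFX Y).les S hS G
  obtain ⟨⟨w1, ex1⟩, ⟨w2, ex2⟩⟩ := hδ i
  have hz : IsZero ((((homFX Y).obj (op S.X₂)).rightDerived (i + 1)).obj G) :=
    isZero_extSh_of_isFinLocFree (FlatMod.freeMod Y r)
      (FLFH8.isFinLocFree_of_iso_free (Iso.refl _)) G i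
  have hcz : Coh.IsCoh ((((homFX Y).obj (op S.X₂)).rightDerived (i + 1)).obj G) :=
    Groth.Agent.Lib.LocTorCohH3.isCoh_of_isZero' hz
  exact Groth.Agent.Lib.CohSerreH3.isCoh_five_term
    ((NatTrans.rightDerived ((homFX Y).map S.f.op) i).app G) (δ i)
    ((NatTrans.rightDerived ((homFX Y).map S.g.op) (i + 1)).app G)
    (0 : (((homFX Y).obj (op S.X₂)).rightDerived (i + 1)).obj G ⟶
      (((homFX Y).obj (op S.X₂)).rightDerived (i + 1)).obj G)
    w1 w2 comp_zero ex1 ex2 (ShortComplex.exact_of_isZero_X₂ _ hz)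
    (IH _ G hfree hG) (IH _ G hK hG) hcz hcz

/-- **S10943**: the local Ext sheaves of coherent modules on a locally Noetherian scheme are
coherent. -/
theorem isCoh_extSh : ∀ (i : ℕ) (X : Scheme.{u}) [IsLocallyNoetherian X] (F G : X.Modules),
    Coh.IsCoh F → Coh.IsCoh G → Coh.IsCoh ((ModSite.extSh (O := X.sheaf) F i).obj G) := by
  intro i
  induction i with
  | zero =>
    intro X _ F G hF hG
    exact isCoh_extSh_zero F G hF hG
  | succ i ih =>
    intro X _ F G hF hG
    apply Groth.Agent.Lib.RelPCPropH3.isCoh_of_forall_point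
    intro x
    obtain ⟨U₀, hU₀, hxU₀, -⟩ := (Opens.isBasis_iff_nbhd.mp X.isBasis_affineOpens)
      (show x ∈ (⊤ : X.Opens) from trivial)
    obtain ⟨U, hU, hxU⟩ : ∃ U : X.Opens, IsAffineOpen U ∧ x ∈ U := ⟨U₀, hU₀, hxU₀⟩
    refine ⟨U, hxU, ?_⟩
    haveI : IsAffine (U : Scheme.{u}) := hU
    obtain ⟨e⟩ := main11328 U F G (i + 1)
    have hFU : Coh.IsCoh ((jS U).obj F) := Groth.Agent.Lib.RelPCPropH3.isCoh_restrict U.ι F hF
    have hGU : Coh.IsCoh ((jS U).obj G) := Groth.Agent.Lib.RelPCPropH3.isCoh_restrict U.ι G hG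
    have h2 : Coh.IsCoh ((ModSite.extSh (O := (U : Scheme.{u}).sheaf) ((jS U).obj F) (i + 1)).obj
        ((jS U).obj G)) :=
      isCoh_extSh_succ_affine i (fun F' G' hF' hG' => ih (U : Scheme.{u}) F' G' hF' hG') _ _
        hFU hGU
    exact Groth.Agent.Lib.RelPCPropH3.isCoh_of_iso e h2

end Groth.Agent.Lib.ExtShCohH2
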