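import Mathlib

/-!
# The contravariant long exact `Ext` sequence, linear version, with acyclic middle term (helper2)
APPEND-ONLY once landed.
-/

set_option autoImplicit false
open CategoryTheory CategoryTheory.Limits Abelian

universe w v u t

namespace Groth.Agent.Lib.ExtLinLESH2

noncomputable section

variable {R : Type t} [CommRing R] {C : Type u} [Category.{v} C] [Abelian C] [Linear R C]
  [HasExt.{w} C]
variable {S : ShortComplex C} (hS : S.ShortExact) (Y : C)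

/-- the connecting map, as a linear map -/
def delta (i : ℕ) : Ext S.X₁ Y i →ₗ[R] Ext S.X₃ Y (i + 1) :=
  Ext.precompOfLinear hS.extClass R Y (add_comm 1 i)

theorem delta_apply (i : ℕ) (x : Ext S.X₁ Y i) :
    delta (R := R) hS Y i x = hS.extClass.comp x (add_comm 1 i) := rfl

theorem delta_injective (i : ℕ) (h0 : ∀ x : Ext S.X₂ Y i, x = 0) :
    Function.Injective (delta (R := R) hS Y i) := by
  rw [injective_iff_map_eq_zero]
  intro x hx
  obtain ⟨x₂, rfl⟩ := Ext.contravariant_sequence_exact₁ hS Y x (add_comm 1 i) hx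
  rw [h0 x₂, Ext.comp_zero]

theorem delta_surjective (i : ℕ) (h1 : ∀ x : Ext S.X₂ Y (i + 1), x = 0) :
    Function.Surjective (delta (R := R) hS Y i) := by
  intro x₃
  obtain ⟨x₁, hx₁⟩ := Ext.contravariant_sequence_exact₃ hS Y x₃ (h1 _) (add_comm 1 i)
  exact ⟨x₁, hx₁⟩

/-- dimension shifting -/
def deltaEquiv (i : ℕ) (h0 : ∀ x : Ext S.X₂ Y i, x = 0) (h1 : ∀ x : Ext S.X₂ Y (i + 1), x = 0) :
    Ext S.X₁ Y i ≃ₗ[R] Ext S.X₃ Y (i + 1) :=
  LinearEquiv.ofBijective (delta (R := R) hS Y i)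
    ⟨delta_injective (R := R) hS Y i h0, delta_surjective (R := R) hS Y i h1⟩

/-- `Hom(X₁, Y) → Ext¹(X₃, Y)` -/
def eps : (S.X₁ ⟶ Y) →ₗ[R] Ext S.X₃ Y 1 :=
  (delta (R := R) hS Y 0).comp (Ext.linearEquiv₀ (R := R)).symm.toLinearMap

theorem eps_apply (φ : S.X₁ ⟶ Y) :
    eps (R := R) hS Y φ = hS.extClass.comp (Ext.mk₀ φ) (add_comm 1 0) := rfl

theorem eps_surjective (h1 : ∀ x : Ext S.X₂ Y 1, x = 0) :
    Function.Surjective (eps (R := R) hS Y) :=
  (delta_surjective (R := R) hS Y 0 h1).comp (Ext.linearEquiv₀ (R := R)).symm.surjective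

theorem eps_comp (ψ : S.X₂ ⟶ Y) : eps (R := R) hS Y (S.f ≫ ψ) = 0 := by
  rw [eps_apply, ← Ext.mk₀_comp_mk₀, ← Ext.comp_assoc_of_third_deg_zero, hS.extClass_comp,
    Ext.zero_comp]

theorem exists_of_eps_eq_zero (φ : S.X₁ ⟶ Y) (h : eps (R := R) hS Y φ = 0) :
    ∃ ψ : S.X₂ ⟶ Y, S.f ≫ ψ = φ := by
  obtain ⟨x₂, hx₂⟩ := Ext.contravariant_sequence_exact₁ hS Y (Ext.mk₀ φ) (add_comm 1 0) h
  obtain ⟨ψ, rfl⟩ := Ext.addEquiv₀.symm.surjective x₂
  refine ⟨ψ, ?_⟩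
  have : Ext.mk₀ (S.f ≫ ψ) = Ext.mk₀ φ := by
    rw [← hx₂]
    exact (Ext.mk₀_comp_mk₀ _ _).symm
  exact Ext.addEquiv₀.symm.injective this

end

noncomputable section ModuleCatSide

open MonoidalCategory

variable {R : Type u} [CommRing R] {S : ShortComplex (ModuleCat.{u} R)} (hS : S.ShortExact)
  (N : ModuleCat.{u} R)

/-- `Hom(X₁, N) → Ext¹(X₃, N)` in `ModuleCat` -/
def epsM : (ihom S.X₁).obj N ⟶ ModuleCat.of R (Ext S.X₃ N 1) :=
  ModuleCat.ofHom (eps (R := R) hS N)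

theorem pre_comp_epsM : (MonoidalClosed.pre S.f).app N ≫ epsM hS N = 0 := by
  apply ModuleCat.hom_ext
  apply LinearMap.ext
  intro ψ
  exact eps_comp (R := R) hS N ψ

/-- `Hom(X₂, N) → Hom(X₁, N) → Ext¹(X₃, N)` -/
def homSC : ShortComplex (ModuleCat.{u} R) :=
  ShortComplex.mk ((MonoidalClosed.pre S.f).app N) (epsM hS N) (pre_comp_epsM hS N)

theorem homSC_exact : (homSC hS N).Exact := by
  rw [ShortComplex.moduleCat_exact_iff]
  intro φ hφ
  obtain ⟨ψ, hψ⟩ := exists_of_eps_eq_zero (R := R) hS N φ hφ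
  exact ⟨ψ, hψ⟩

theorem epi_epsM (h1 : ∀ x : Ext S.X₂ N 1, x = 0) : Epi (epsM hS N) :=
  (ModuleCat.epi_iff_surjective _).2 (eps_surjective (R := R) hS N h1)

end ModuleCatSide

section Abstract

variable {𝒜 : Type*} [Category 𝒜] [Abelian 𝒜]

/-- two right exact sequences with isomorphic first maps have isomorphic third terms -/
theorem nonempty_iso_of_exact_epi (S₁ S₂ : ShortComplex 𝒜) (h₁ : S₁.Exact) (h₂ : S₂.Exact)
    [Epi S₁.g] [Epi S₂.g] (e₁ : S₁.X₁ ≅ S₂.X₁) (e₂ : S₁.X₂ ≅ S₂.X₂)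
    (comm : S₁.f ≫ e₂.hom = e₁.hom ≫ S₂.f) : Nonempty (S₁.X₃ ≅ S₂.X₃) :=
  ⟨(h₁.gIsCokernel.coconePointUniqueUpToIso (cokernelIsCokernel S₁.f)) ≪≫
    cokernel.mapIso S₁.f S₂.f e₁ e₂ comm ≪≫
    ((h₂.gIsCokernel.coconePointUniqueUpToIso (cokernelIsCokernel S₂.f))).symm⟩

end Abstract

end Groth.Agent.Lib.ExtLinLESH2
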