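import Mathlib
import Groth.Prelude
import Groth.Agent.Lib.TensQC4_helper8

/-!
# `tilde` is monoidal: `(M ⊗ P)~ ≅ P~ ⊗ M~`, naturally in both variables (helper2)
APPEND-ONLY once landed.
-/

set_option autoImplicit false
open AlgebraicGeometry CategoryTheory CategoryTheory.Limits TopologicalSpace Opposite TensorProduct
open MonoidalCategory

universe u

namespace Groth.Agent.Lib.TildeTensH2

open TensH8 TensQCH8 QcqsLoc RelFPKit

noncomputable section

variable (R : CommRingCat.{u})

/-- the section `p ⊗ m` of `P~ ⊗ M~` over the whole of `Spec R` -/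
def tm (M P : ModuleCat.{u} R) (m : M) (p : P) : Γ(CohB1.tensorMod (tilde P) (tilde M), ⊤) :=
  SecTwist.tmul (tilde P) (tilde M) ⊤ (toTop R P p) (toTop R M m)

theorem algebraMap_smul_top (T : (Spec R).Modules) (r : R) (x : Γ(T, ⊤)) :
    algebraMap R Γ(Spec R, ⊤) r • x = r • x :=
  algebraMap_smul Γ(Spec R, ⊤) r x

/-- the bilinear map `(m, p) ↦ p ⊗ m` -/
def phiBil (M P : ModuleCat.{u} R) :
    M →ₗ[R] P →ₗ[R] Γ(CohB1.tensorMod (tilde P) (tilde M), ⊤) :=
  LinearMap.mk₂ R (tm R M P)
    (fun m m' p => by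
      unfold tm
      rw [map_add]
      exact tmul_add_right _ _ _ _ _ _)
    (fun r m p => by
      unfold tm
      rw [toTop_smul]
      exact (tmul_smul_right _ _ _ _ _ _).trans (algebraMap_smul_top R _ r _))
    (fun m p p' => by
      unfold tm
      rw [map_add]
      exact tmul_add_left _ _ _ _ _ _)
    (fun r m p => by
      unfold tm
      rw [toTop_smul]
      exact (tmul_smul_left _ _ _ _ _ _).trans (algebraMap_smul_top R _ r _))

/-- the comparison map `M ⊗ P → Γ(P~ ⊗ M~)` -/
def phi (M P : ModuleCat.{u} R) : (M ⊗ P : ModuleCat.{u} R) ⟶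
    (moduleSpecΓFunctor (R := R)).obj (CohB1.tensorMod (tilde P) (tilde M)) :=
  show ModuleCat.of R (M ⊗[R] P) ⟶
      ModuleCat.of R Γ(CohB1.tensorMod (tilde P) (tilde M), ⊤) from
    ModuleCat.ofHom (TensorProduct.lift (phiBil R M P))

theorem phi_tmul (M P : ModuleCat.{u} R) (m : M) (p : P) :
    (phi R M P).hom (m ⊗ₜ p) = tm R M P m p := by
  show (TensorProduct.lift (phiBil R M P)) (m ⊗ₜ p) = _
  exact TensorProduct.lift.tmul _ _

theorem phi_bijective (M P : ModuleCat.{u} R) : Function.Bijective (phi R M P).hom := by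
  obtain ⟨μ, hμ⟩ := exists_tensor_map (lM := toTop R P) (lN := toTop R M)
    (toTop_smul R P) (toTop_smul R M)
  have L : LocData (algebraMap R Γ(Spec R, ⊤)) 1 μ :=
    locData_tensor (locData_toTop R P) (locData_toTop R M) μ hμ
  have hμbij : Function.Bijective μ := by
    constructor
    · rw [injective_iff_map_eq_zero]
      intro q hq
      obtain ⟨n, hn⟩ := L.ker q hq
      simpa using hn
    · intro p
      obtain ⟨n, q, hq⟩ := L.surj p
      exact ⟨q, by simpa using hq.symm⟩
  haveI : (CohB1.tensorMod (tilde P) (tilde M)).IsQuasicoherent := isQuasicoherent_tensorMod _ _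
  have hη := eta_bijective (tilde P) (tilde M) (isAffineOpen_top (Spec R))
  have key : ∀ q : M ⊗[R] P, (phi R M P).hom q =
      eta (tilde P) (tilde M) ⊤ (μ (TensorProduct.comm R M P q)) := by
    intro q
    induction q using TensorProduct.induction_on with
    | zero =>
      rw [map_zero, map_zero, map_zero]
      exact ((eta (tilde P) (tilde M) ⊤).map_zero).symm
    | tmul m p =>
      rw [phi_tmul, TensorProduct.comm_tmul, hμ]
      rfl
    | add x y hx hy =>
      rw [map_add, hx, hy]
      have e1 : (TensorProduct.comm R M P) (x + y) =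
          (TensorProduct.comm R M P) x + (TensorProduct.comm R M P) y := map_add _ _ _
      rw [e1, μ.map_add]
      exact ((eta (tilde P) (tilde M) ⊤).map_add _ _).symm
  have h2 : ((phi R M P).hom : M ⊗[R] P → _) =
      (eta (tilde P) (tilde M) ⊤) ∘ μ ∘ (TensorProduct.comm R M P) := funext key
  rw [h2]
  exact hη.comp (hμbij.comp (TensorProduct.comm R M P).bijective)

instance isIso_phi (M P : ModuleCat.{u} R) : IsIso (phi R M P) :=
  (ConcreteCategory.isIso_iff_bijective _).2 (phi_bijective R M P)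

theorem toTop_natural {P P' : ModuleCat.{u} R} (g : P ⟶ P') (p : P) :
    (tilde.map g).app ⊤ (toTop R P p) = toTop R P' (g.hom p) :=
  congr($(tilde.toOpen_map_app g ⊤).hom p)

theorem phi_natural {M M' P P' : ModuleCat.{u} R} (f : M ⟶ M') (g : P ⟶ P') :
    (f ⊗ₘ g) ≫ phi R M' P' = phi R M P ≫ (moduleSpecΓFunctor (R := R)).map
      (KoszTw.tensorMap (tilde.map g) (tilde.map f)) := by
  apply ModuleCat.hom_ext
  apply TensorProduct.ext'
  intro m p
  show (phi R M' P').hom ((f ⊗ₘ g).hom (m ⊗ₜ p)) =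
    ((moduleSpecΓFunctor (R := R)).map _).hom ((phi R M P).hom (m ⊗ₜ p))
  have e1 : (f ⊗ₘ g).hom (m ⊗ₜ p) = (f.hom m) ⊗ₜ (g.hom p) := rfl
  rw [e1, phi_tmul, phi_tmul]
  unfold tm
  have e2 := KoszTw.tensorMap_tmul (tilde.map g) (tilde.map f) ⊤ (toTop R P p) (toTop R M m)
  rw [toTop_natural, toTop_natural] at e2
  exact e2.symm

/-- the comparison morphism `(M ⊗ P)~ ⟶ P~ ⊗ M~` -/
def tHom (M P : ModuleCat.{u} R) :
    (tilde.functor R).obj (M ⊗ P) ⟶ CohB1.tensorMod (tilde P) (tilde M) :=
  (tilde.functor R).map (phi R M P) ≫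
    (tilde.adjunction (R := R)).counit.app (CohB1.tensorMod (tilde P) (tilde M))

instance isIso_tHom (M P : ModuleCat.{u} R) : IsIso (tHom R M P) := by
  haveI : (CohB1.tensorMod (tilde P) (tilde M)).IsQuasicoherent := isQuasicoherent_tensorMod _ _
  haveI : IsIso ((tilde.adjunction (R := R)).counit.app (CohB1.tensorMod (tilde P) (tilde M))) := by
    show IsIso (Scheme.Modules.fromTildeΓ (CohB1.tensorMod (tilde P) (tilde M)))
    exact Scheme.Modules.isIso_fromTildeΓ_of_isQuasicoherent _
  unfold tHom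
  infer_instance

theorem tHom_natural {M M' P P' : ModuleCat.{u} R} (f : M ⟶ M') (g : P ⟶ P') :
    (tilde.functor R).map (f ⊗ₘ g) ≫ tHom R M' P' =
      tHom R M P ≫ KoszTw.tensorMap (tilde.map g) (tilde.map f) := by
  unfold tHom
  rw [← Functor.map_comp_assoc, phi_natural, Functor.map_comp_assoc, Category.assoc]
  congr 1
  exact (tilde.adjunction (R := R)).counit.naturality _

/-- `(M ⊗ P)~ ≅ P~ ⊗ M~` -/
def tIso (M P : ModuleCat.{u} R) :
    (tilde.functor R).obj (M ⊗ P) ≅ CohB1.tensorMod (tilde P) (tilde M) :=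
  asIso (tHom R M P)

/-- `(M ⊗ -)~ ≅ (-)~ ⊗ M~`, naturally -/
def tauIso (M : ModuleCat.{u} R) : tensorLeft M ⋙ tilde.functor R ≅
    tilde.functor R ⋙ (ModSite.tensorBi (Spec R).sheaf).flip.obj (tilde M) :=
  NatIso.ofComponents (fun P => tIso R M P) (fun {P P'} g => by
    show (tilde.functor R).map (M ◁ g) ≫ tHom R M P' = tHom R M P ≫
      (DCoh.tensorBi.map (tilde.map g)).app (tilde M)
    have h := tHom_natural R (𝟙 M) g
    rw [id_tensorHom] at h
    have h2 : tilde.map (𝟙 M) = 𝟙 (tilde M) := (tilde.functor R).map_id M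
    rw [h2, ← KoszTw.tensorBi_map_app] at h
    exact h)

theorem tauIso_hom_app (M P : ModuleCat.{u} R) : (tauIso R M).hom.app P = tHom R M P := rfl

/-- naturality of `tauIso` in `M` -/
theorem tauIso_natural {M M' : ModuleCat.{u} R} (f : M ⟶ M') :
    Functor.whiskerRight ((tensoringLeft (ModuleCat.{u} R)).map f) (tilde.functor R) ≫
      (tauIso R M').hom =
    (tauIso R M).hom ≫ Functor.whiskerLeft (tilde.functor R)
      ((ModSite.tensorBi (Spec R).sheaf).flip.map (tilde.map f)) := by
  refine NatTrans.ext (funext fun P => ?_)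
  rw [NatTrans.comp_app, NatTrans.comp_app, Functor.whiskerRight_app, Functor.whiskerLeft_app,
    tauIso_hom_app, tauIso_hom_app]
  have h := tHom_natural R f (𝟙 P)
  rw [tensorHom_id] at h
  have h2 : tilde.map (𝟙 P) = 𝟙 (tilde P) := (tilde.functor R).map_id P
  rw [h2, ← KoszTw.tensorBi_obj_map] at h
  exact h

end

end Groth.Agent.Lib.TildeTensH2
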