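import Mathlib
import Groth.Prelude
import Groth.Agent.Lib.TildeTens1_helper2
import Groth.Agent.Lib.HomShDual3_helper2
import Groth.Agent.Lib.HomLin3_helper8
import Groth.Agent.Lib.QCohFP2_helper9
import Groth.Agent.Lib.RelExtSch1_helper2

/-!
# The internal Hom of `tilde` modules: `Γ 𝓗om(M~, G) ≅ Hom_R(M, Γ G)` and `𝓗om(M~, N~) ≅ Hom_R(M, N)~`
(helper2)  APPEND-ONLY once landed.
-/

set_option autoImplicit false
open AlgebraicGeometry CategoryTheory CategoryTheory.Limits TopologicalSpace Opposite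
open MonoidalCategory

universe u

namespace Groth.Agent.Lib.TildeHomH2

open Groth.Agent.Lib.TildeTensH2 Groth.Agent.Lib.RelExtSchH2

noncomputable section

attribute [local instance] Groth.Agent.Lib.RelExtSchH2.hsh

variable (R : CommRingCat.{u})

/-- global sections, as a functor on the site-level module category -/
abbrev Gam : ModSite.Mod (Spec R).sheaf ⥤ ModuleCat.{u} R := moduleSpecΓFunctor (R := R)

/-- `tilde`, as a functor to the site-level module category -/
abbrev til : ModuleCat.{u} R ⥤ ModSite.Mod (Spec R).sheaf := tilde.functor R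

/-- the `tilde ⊣ Γ` adjunction -/
def tgAdj : til R ⊣ Gam R := tilde.adjunction

instance isIso_tgAdj_unit : IsIso (tgAdj R).unit :=
  inferInstanceAs (IsIso (tilde.adjunction (R := R)).unit)

instance isIso_tgAdj_unit_app (N : ModuleCat.{u} R) : IsIso ((tgAdj R).unit.app N) :=
  NatIso.isIso_app_of_isIso (tgAdj R).unit N

/-- `N ≅ Γ(N~)` -/
def unitIso (N : ModuleCat.{u} R) : N ≅ (Gam R).obj ((til R).obj N) :=
  asIso ((tgAdj R).unit.app N)

variable (M : ModuleCat.{u} R)

/-- `(M ⊗ -)~ ⊣ Hom_R(M, Γ -)` -/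
def adjA : tensorLeft M ⋙ til R ⊣ Gam R ⋙ ihom M := (ihom.adjunction M).comp (tgAdj R)

/-- `(-)~ ⊗ M~ ⊣ Γ 𝓗om(M~, -)` -/
def adjB : til R ⋙ (ModSite.tensorBi (Spec R).sheaf).flip.obj (tilde M) ⊣
    ModSite.sheafHom (O := (Spec R).sheaf) (tilde M) ⋙ Gam R :=
  (tgAdj R).comp (ModSite.sheafHomAdj (O := (Spec R).sheaf) (tilde M))

/-- `Γ 𝓗om(M~, -) ≅ Hom_R(M, Γ -)` -/
def gammaIso : ModSite.sheafHom (O := (Spec R).sheaf) (tilde M) ⋙ Gam R ≅ Gam R ⋙ ihom M :=
  conjugateIsoEquiv (adjB R M) (adjA R M) (tauIso R M)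

variable {M}

/-- naturality of `gammaIso` in `M` -/
theorem gammaIso_natural {M M' : ModuleCat.{u} R} (f : M ⟶ M') :
    (gammaIso R M').hom ≫ Functor.whiskerLeft (Gam R) (MonoidalClosed.pre f) =
      Functor.whiskerRight (ExtSupp.sheafHomMap (O := (Spec R).sheaf) (tilde.map f)) (Gam R) ≫
        (gammaIso R M).hom := by
  have h1 : Functor.whiskerLeft (Gam R) (MonoidalClosed.pre f) =
      conjugateEquiv (adjA R M') (adjA R M)
        (Functor.whiskerRight ((tensoringLeft (ModuleCat.{u} R)).map f) (til R)) :=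
    (conjugateEquiv_whiskerRight (ihom.adjunction M') (ihom.adjunction M) (tgAdj R)
      ((tensoringLeft (ModuleCat.{u} R)).map f)).symm
  have h2 : Functor.whiskerRight (ExtSupp.sheafHomMap (O := (Spec R).sheaf) (tilde.map f)) (Gam R) =
      conjugateEquiv (adjB R M') (adjB R M)
        (Functor.whiskerLeft (til R) ((ModSite.tensorBi (Spec R).sheaf).flip.map (tilde.map f))) :=
    (conjugateEquiv_whiskerLeft (ModSite.sheafHomAdj (O := (Spec R).sheaf) (tilde M'))
      (ModSite.sheafHomAdj (O := (Spec R).sheaf) (tilde M)) (tgAdj R)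
      ((ModSite.tensorBi (Spec R).sheaf).flip.map (tilde.map f))).symm
  have h3 : (gammaIso R M').hom = conjugateEquiv (adjB R M') (adjA R M') (tauIso R M').hom := rfl
  have h4 : (gammaIso R M).hom = conjugateEquiv (adjB R M) (adjA R M) (tauIso R M).hom := rfl
  rw [h1, h2, h3, h4, conjugateEquiv_comp, conjugateEquiv_comp]
  exact congrArg _ (tauIso_natural R f)

/-- quasi-coherence of `𝓗om(M~, N~)` for `M` of finite presentation -/
theorem isQuasicoherent_sheafHom_tilde (M N : ModuleCat.{u} R) [Module.FinitePresentation R M] :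
    ((ModSite.sheafHom (O := (Spec R).sheaf) (tilde M)).obj (tilde N)).IsQuasicoherent := by
  haveI : SheafOfModules.IsFinitePresentation (R := (Spec R).ringCatSheaf) (tilde M) :=
    (QCohFP2.tilde_isFP_iff M).mpr inferInstance
  haveI : (RefHull.homSh (tilde M) (tilde N)).IsQuasicoherent :=
    HomLinH8.isQuasicoherent_homSh _ _
  exact (SheafOfModules.isQuasicoherent (Spec R).ringCatSheaf).prop_of_iso
    ((Groth.Agent.Lib.HomShAdjH2.modSiteSheafHomIso (tilde M)).app (tilde N)).symm
    (inferInstanceAs (RefHull.homSh (tilde M) (tilde N)).IsQuasicoherent)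

theorem isIso_counit_sheafHom (M N : ModuleCat.{u} R) [Module.FinitePresentation R M] :
    IsIso ((tgAdj R).counit.app
      ((ModSite.sheafHom (O := (Spec R).sheaf) (tilde M)).obj (tilde N))) := by
  haveI := isQuasicoherent_sheafHom_tilde R M N
  show IsIso (Scheme.Modules.fromTildeΓ
    ((ModSite.sheafHom (O := (Spec R).sheaf) (tilde M)).obj (tilde N)))
  exact Scheme.Modules.isIso_fromTildeΓ_of_isQuasicoherent _

/-- `Γ 𝓗om(M~, N~) ≅ Hom_R(M, N)` -/
def g0 (M N : ModuleCat.{u} R) :
    (Gam R).obj ((ModSite.sheafHom (O := (Spec R).sheaf) (tilde M)).obj (tilde N)) ≅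
      (ihom M).obj N :=
  (gammaIso R M).app (tilde N) ≪≫ (ihom M).mapIso (unitIso R N).symm

theorem g0_hom (M N : ModuleCat.{u} R) : (g0 R M N).hom =
    (gammaIso R M).hom.app (tilde N) ≫ (ihom M).map (unitIso R N).inv := rfl

theorem g0_natural {M M' : ModuleCat.{u} R} (f : M ⟶ M') (N : ModuleCat.{u} R) :
    (g0 R M' N).hom ≫ (MonoidalClosed.pre f).app N =
      (Gam R).map ((ExtSupp.sheafHomMap (O := (Spec R).sheaf) (tilde.map f)).app (tilde N)) ≫
        (g0 R M N).hom := by
  have h1 := congrArg (fun t => t.app (tilde N)) (gammaIso_natural R f)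
  have h2 := (MonoidalClosed.pre f).naturality (unitIso R N).inv
  simp only [NatTrans.comp_app, Functor.whiskerLeft_app, Functor.whiskerRight_app] at h1
  rw [g0_hom, g0_hom, Category.assoc]
  exact (congrArg (_ ≫ ·) h2).trans ((Category.assoc _ _ _).symm.trans
    ((congrArg (· ≫ _) h1).trans (Category.assoc _ _ _)))

/-- **`𝓗om(M~, N~) ≅ Hom_R(M, N)~`** for `M` of finite presentation -/
def thetaIso (M N : ModuleCat.{u} R) [Module.FinitePresentation R M] :
    (ModSite.sheafHom (O := (Spec R).sheaf) (tilde M)).obj (tilde N) ≅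
      (til R).obj ((ihom M).obj N) :=
  haveI := isIso_counit_sheafHom R M N
  (asIso ((tgAdj R).counit.app
    ((ModSite.sheafHom (O := (Spec R).sheaf) (tilde M)).obj (tilde N)))).symm ≪≫
    (til R).mapIso (g0 R M N)

theorem thetaIso_natural {M M' : ModuleCat.{u} R} [Module.FinitePresentation R M]
    [Module.FinitePresentation R M'] (f : M ⟶ M') (N : ModuleCat.{u} R) :
    (thetaIso R M' N).hom ≫ (til R).map ((MonoidalClosed.pre f).app N) =
      (ExtSupp.sheafHomMap (O := (Spec R).sheaf) (tilde.map f)).app (tilde N) ≫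
        (thetaIso R M N).hom := by
  haveI := isIso_counit_sheafHom R M N
  haveI := isIso_counit_sheafHom R M' N
  have hc := (tgAdj R).counit.naturality
    ((ExtSupp.sheafHomMap (O := (Spec R).sheaf) (tilde.map f)).app (tilde N))
  show (inv ((tgAdj R).counit.app _) ≫ (til R).map (g0 R M' N).hom) ≫
      (til R).map ((MonoidalClosed.pre f).app N) =
    _ ≫ (inv ((tgAdj R).counit.app _) ≫ (til R).map (g0 R M N).hom)
  rw [Category.assoc, ← Functor.map_comp, g0_natural, Functor.map_comp, IsIso.inv_comp_eq,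
    ← Category.assoc, ← Category.assoc]
  erw [← hc]
  rw [Category.assoc, Category.assoc, IsIso.hom_inv_id_assoc]
  rfl

end

end Groth.Agent.Lib.TildeHomH2
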