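import Mathlib
import Groth.Prelude
import Groth.Agent.Lib.TildeHom1_helper2
import Groth.Agent.Lib.ExtLinLES1_helper2
import Groth.Agent.Lib.LpullQC_lead
import Groth.Agent.Lib.FLF3_helper8
import Groth.Agent.Lib.DerLES_helper9

/-!
# `ℰxt^i(M~, N~) ≅ Ext^i_R(M, N)~` on `Spec R`, `R` Noetherian, `M` finite (helper2)
APPEND-ONLY once landed.
-/

set_option autoImplicit false
open AlgebraicGeometry CategoryTheory CategoryTheory.Limits TopologicalSpace Opposite Abelian
open MonoidalCategory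

universe u

namespace Groth.Agent.Lib.ExtTildeH2

open Groth.Agent.Lib.TildeTensH2 Groth.Agent.Lib.TildeHomH2 Groth.Agent.Lib.RelExtSchH2
  Groth.Agent.Lib.ContraLESH2 Groth.Agent.Lib.ExtLinLESH2

noncomputable section

attribute [local instance] Groth.Agent.Lib.RelExtSchH2.hsh

variable (R : CommRingCat.{u})

instance til_additive : (til R).Additive := inferInstanceAs (tilde.functor R).Additive

theorem til_preservesFiniteLimits : PreservesFiniteLimits (til R) :=
  Groth.Agent.Lib.LpullQCL.preservesFiniteLimits_tilde R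

theorem til_preservesFiniteColimits : PreservesFiniteColimits (til R) :=
  haveI : (til R).IsLeftAdjoint := (tgAdj R).isLeftAdjoint
  inferInstance

variable {R}

/-- the image of a short complex under `tilde` -/
def tilSC (S : ShortComplex (ModuleCat.{u} R)) : ShortComplex (ModSite.Mod (Spec R).sheaf) :=
  S.map (til R)

theorem tilSC_shortExact {S : ShortComplex (ModuleCat.{u} R)} (hS : S.ShortExact) :
    (tilSC S).ShortExact := by
  haveI := til_preservesFiniteLimits R
  haveI := til_preservesFiniteColimits R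
  exact hS.map_of_exact (til R)

variable [HasInjectiveResolutions (ModSite.Mod (Spec R).sheaf)]

/-- dimension shifting for the local Ext sheaves -/
theorem nonempty_extSh_shift {S : ShortComplex (ModuleCat.{u} R)} (hS : S.ShortExact)
    (hfree : FlatMod.IsFinLocFree (tilde S.X₂)) (G : ModSite.Mod (Spec R).sheaf) (i : ℕ) :
    Nonempty ((ModSite.extSh (O := (Spec R).sheaf) (tilde S.X₁) (i + 1)).obj G ≅
      (ModSite.extSh (O := (Spec R).sheaf) (tilde S.X₃) (i + 2)).obj G) := by
  obtain ⟨-, -, δ, hδ⟩ := (isGood_homFX (Spec R)).les (tilSC S) (tilSC_shortExact hS) G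
  obtain ⟨⟨w1, ex1⟩, ⟨w2, ex2⟩⟩ := hδ (i + 1)
  have hz1 : IsZero ((((homFX (Spec R)).obj (op (tilSC S).X₂)).rightDerived (i + 1)).obj G) :=
    isZero_extSh_of_isFinLocFree (tilde S.X₂) hfree G i
  have hz2 : IsZero ((((homFX (Spec R)).obj (op (tilSC S).X₂)).rightDerived (i + 1 + 1)).obj G) :=
    isZero_extSh_of_isFinLocFree (tilde S.X₂) hfree G (i + 1)
  haveI : Mono (δ (i + 1)) := ex1.mono_g (hz1.eq_of_src _ _)
  haveI : Epi (δ (i + 1)) := ex2.epi_f (hz2.eq_of_tgt _ _)
  have hiso : IsIso (δ (i + 1)) := isIso_of_mono_of_epi _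
  exact ⟨@asIso _ _ _ _ (δ (i + 1)) hiso⟩

/-- the right exact sequence `𝓗om(X₂~, G) → 𝓗om(X₁~, G) → ℰxt¹(X₃~, G) → 0` -/
theorem exists_sheaf_seq {S : ShortComplex (ModuleCat.{u} R)} (hS : S.ShortExact)
    (hfree : FlatMod.IsFinLocFree (tilde S.X₂)) (G : ModSite.Mod (Spec R).sheaf) :
    ∃ (d : (ModSite.sheafHom (O := (Spec R).sheaf) (tilde S.X₁)).obj G ⟶
        (ModSite.extSh (O := (Spec R).sheaf) (tilde S.X₃) 1).obj G)
      (w : (ExtSupp.sheafHomMap (O := (Spec R).sheaf) (tilde.map S.f)).app G ≫ d = 0),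
      (ShortComplex.mk _ d w).Exact ∧ Epi d := by
  obtain ⟨-, -, δ, hδ⟩ := (isGood_homFX (Spec R)).les (tilSC S) (tilSC_shortExact hS) G
  obtain ⟨⟨w1, ex1⟩, ⟨w2, ex2⟩⟩ := hδ 0
  have hz2 : IsZero ((((homFX (Spec R)).obj (op (tilSC S).X₂)).rightDerived (0 + 1)).obj G) :=
    isZero_extSh_of_isFinLocFree (tilde S.X₂) hfree G 0
  have hepi : Epi (δ 0) := ex2.epi_f (hz2.eq_of_tgt _ _)
  haveI : PreservesFiniteLimits (ModSite.sheafHom (O := (Spec R).sheaf) (tilde S.X₁)) :=
    homFX_preservesFiniteLimits (op (tilde S.X₁))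
  haveI : PreservesFiniteLimits (ModSite.sheafHom (O := (Spec R).sheaf) (tilde S.X₂)) :=
    homFX_preservesFiniteLimits (op (tilde S.X₂))
  let t₁ := (ModSite.sheafHom (O := (Spec R).sheaf) (tilde S.X₁)).toRightDerivedZero.app G
  let t₂ := (ModSite.sheafHom (O := (Spec R).sheaf) (tilde S.X₂)).toRightDerivedZero.app G
  have hnat : t₂ ≫ (NatTrans.rightDerived
      (ExtSupp.sheafHomMap (O := (Spec R).sheaf) (tilde.map S.f)) 0).app G =
      (ExtSupp.sheafHomMap (O := (Spec R).sheaf) (tilde.map S.f)).app G ≫ t₁ :=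
    DerLES.toRightDerivedZero_naturality _ G
  have w' : (ExtSupp.sheafHomMap (O := (Spec R).sheaf) (tilde.map S.f)).app G ≫ (t₁ ≫ δ 0) = 0 := by
    rw [← Category.assoc, ← hnat, Category.assoc]
    exact (congrArg (t₂ ≫ ·) w1).trans comp_zero
  refine ⟨t₁ ≫ δ 0, w', ?_, @epi_comp _ _ _ _ _ t₁ _ (δ 0) hepi⟩
  let S₂ : ShortComplex (ModSite.Mod (Spec R).sheaf) :=
    ShortComplex.mk ((NatTrans.rightDerived ((homFX (Spec R)).map (tilSC S).f.op) 0).app G) (δ 0) w1
  let S₁ : ShortComplex (ModSite.Mod (Spec R).sheaf) :=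
    ShortComplex.mk ((ExtSupp.sheafHomMap (O := (Spec R).sheaf) (tilde.map S.f)).app G)
      (t₁ ≫ δ 0) w'
  have ht₁ : IsIso t₁ := inferInstanceAs (IsIso
    ((ModSite.sheafHom (O := (Spec R).sheaf) (tilde S.X₁)).toRightDerivedZero.app G))
  have ht₂ : IsIso t₂ := inferInstanceAs (IsIso
    ((ModSite.sheafHom (O := (Spec R).sheaf) (tilde S.X₂)).toRightDerivedZero.app G))
  have e : S₁ ≅ S₂ := ShortComplex.isoMk (@asIso _ _ _ _ t₂ ht₂) (@asIso _ _ _ _ t₁ ht₁)
    (Iso.refl _) hnat (Category.comp_id _).symm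
  exact (ShortComplex.exact_iff_of_iso e).2 ex1

section Main

variable [IsNoetherianRing R] (N : ModuleCat.{u} R)

omit [HasInjectiveResolutions (ModSite.Mod (Spec R).sheaf)] in
theorem exists_presentation (M : ModuleCat.{u} R) [Module.Finite R M] :
    ∃ S : ShortComplex (ModuleCat.{u} R), S.ShortExact ∧ S.X₃ = M ∧ Module.Finite R S.X₁ ∧
      Module.Finite R S.X₂ ∧ Module.Projective R S.X₂ := by
  obtain ⟨n, f, hf⟩ := Module.Finite.exists_fin' R M
  have hz : ModuleCat.ofHom (LinearMap.ker f).subtype ≫ ModuleCat.ofHom f = 0 := by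
    apply ModuleCat.hom_ext
    apply LinearMap.ext
    intro x
    exact x.2
  let S : ShortComplex (ModuleCat.{u} R) := ShortComplex.mk
    (ModuleCat.ofHom (LinearMap.ker f).subtype) (ModuleCat.ofHom f) hz
  have hS : S.ShortExact :=
    { exact := (ShortComplex.moduleCat_exact_iff S).2 (fun x hx => ⟨⟨x, hx⟩, rfl⟩)
      mono_f := (ModuleCat.mono_iff_injective _).2 Subtype.val_injective
      epi_g := (ModuleCat.epi_iff_surjective _).2 hf }
  refine ⟨S, hS, rfl, ?_, ?_, ?_⟩
  · show Module.Finite R (LinearMap.ker f)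
    infer_instance
  · show Module.Finite R (Fin n → R)
    infer_instance
  · show Module.Projective R (Fin n → R)
    infer_instance

theorem main_zero (M : ModuleCat.{u} R) [Module.Finite R M] :
    Nonempty ((ModSite.extSh (O := (Spec R).sheaf) (tilde M) 0).obj (tilde N) ≅
      (til R).obj (ModuleCat.of R (Ext M N 0))) := by
  haveI : Module.FinitePresentation R M := Module.finitePresentation_of_finite R M
  haveI : PreservesFiniteLimits (ModSite.sheafHom (O := (Spec R).sheaf) (tilde M)) :=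
    homFX_preservesFiniteLimits (op (tilde M))
  exact ⟨(ModSite.sheafHom (O := (Spec R).sheaf) (tilde M)).rightDerivedZeroIsoSelf.app (tilde N) ≪≫
    thetaIso R M N ≪≫ (til R).mapIso (Ext.linearEquiv₀ (R := R)).symm.toModuleIso⟩

theorem main_one (M : ModuleCat.{u} R) [Module.Finite R M] :
    Nonempty ((ModSite.extSh (O := (Spec R).sheaf) (tilde M) 1).obj (tilde N) ≅
      (til R).obj (ModuleCat.of R (Ext M N 1))) := by
  obtain ⟨S, hS, rfl, h1, h2, h3⟩ := exists_presentation M
  haveI := h1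
  haveI := h2
  haveI := h3
  haveI : Module.FinitePresentation R S.X₁ := Module.finitePresentation_of_finite R _
  haveI : Module.FinitePresentation R S.X₂ := Module.finitePresentation_of_finite R _
  have hfree : FlatMod.IsFinLocFree (tilde S.X₂) := (FLFH8.tilde_finLocFree_iff S.X₂).2 ⟨h2, h3⟩
  haveI : Projective S.X₂ := (IsProjective.iff_projective (R := R) S.X₂).1 h3
  obtain ⟨d, w, hex, hepi⟩ := exists_sheaf_seq hS hfree (tilde N)
  have hvan : ∀ x : Ext S.X₂ N 1, x = 0 := fun x => Ext.eq_zero_of_projective x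
  have hepi2 := epi_epsM hS N hvan
  haveI := til_preservesFiniteColimits R
  have hT₂ : ((homSC hS N).map (til R)).Exact :=
    (homSC_exact hS N).map_of_epi_of_preservesCokernel (til R) hepi2 inferInstance
  haveI : Epi (homSC hS N).g := hepi2
  haveI : Epi ((homSC hS N).map (til R)).g := (til R).map_epi _
  haveI : Epi (ShortComplex.mk _ d w).g := hepi
  exact nonempty_iso_of_exact_epi (ShortComplex.mk _ d w) ((homSC hS N).map (til R)) hex hT₂
    (thetaIso R S.X₂ N) (thetaIso R S.X₁ N) (thetaIso_natural R S.f N).symm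

theorem main_succ (i : ℕ)
    (IH : ∀ (M : ModuleCat.{u} R) [Module.Finite R M],
      Nonempty ((ModSite.extSh (O := (Spec R).sheaf) (tilde M) (i + 1)).obj (tilde N) ≅
        (til R).obj (ModuleCat.of R (Ext M N (i + 1)))))
    (M : ModuleCat.{u} R) [Module.Finite R M] :
    Nonempty ((ModSite.extSh (O := (Spec R).sheaf) (tilde M) (i + 2)).obj (tilde N) ≅
      (til R).obj (ModuleCat.of R (Ext M N (i + 2)))) := by
  obtain ⟨S, hS, rfl, h1, h2, h3⟩ := exists_presentation M
  haveI := h1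
  haveI := h2
  haveI := h3
  have hfree : FlatMod.IsFinLocFree (tilde S.X₂) := (FLFH8.tilde_finLocFree_iff S.X₂).2 ⟨h2, h3⟩
  haveI : Projective S.X₂ := (IsProjective.iff_projective (R := R) S.X₂).1 h3
  obtain ⟨e1⟩ := nonempty_extSh_shift hS hfree (tilde N) i
  obtain ⟨e2⟩ := IH S.X₁
  have e3 : Ext S.X₁ N (i + 1) ≃ₗ[R] Ext S.X₃ N (i + 1 + 1) :=
    deltaEquiv (R := R) hS N (i + 1) (fun x => Ext.eq_zero_of_projective x)
      (fun x => Ext.eq_zero_of_projective x)
  exact ⟨e1.symm ≪≫ e2 ≪≫ (til R).mapIso e3.toModuleIso⟩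

/-- **the local Ext sheaves of `tilde` modules** -/
theorem main : ∀ (i : ℕ) (M : ModuleCat.{u} R) [Module.Finite R M],
    Nonempty ((ModSite.extSh (O := (Spec R).sheaf) (tilde M) i).obj (tilde N) ≅
      (til R).obj (ModuleCat.of R (Ext M N i))) := by
  intro i
  induction i with
  | zero => intro M _; exact main_zero N M
  | succ i ih =>
    cases i with
    | zero => intro M _; exact main_one N M
    | succ j => intro M _; exact main_succ N j (fun M' _ => ih M') M

end Main

end

end Groth.Agent.Lib.ExtTildeH2
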