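import Mathlib
import Groth.Prelude
import Groth.Agent.Lib.RestrHom1_helper2
import Groth.Agent.Lib.RelExtSch1_helper2

/-!
# The local Ext sheaves commute with restriction along an isomorphism of schemes, and are invariant
under isomorphisms in the first variable (helper2).  APPEND-ONLY once landed.
-/

set_option autoImplicit false
open CategoryTheory CategoryTheory.Limits AlgebraicGeometry TopologicalSpace Opposite

universe u

namespace Groth.Agent.Lib.IsoExtShH2

open ModSite Groth.Agent.Lib.ModSiteH8 Groth.Agent.Lib.RestrHomH2 Groth.Agent.Lib.RelExtSchH2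
  Groth.Agent.Lib.RelExtSiteH2

noncomputable section

attribute [local instance] Groth.Agent.Lib.RestrHomH2.hsh Groth.Agent.Lib.RestrHomH2.pfm_additive

variable {Z Y : Scheme.{u}} (a : Z ⟶ Y) [IsIso a]

/-- restriction along the isomorphism `a` -/
abbrev aS : ModSite.Mod Y.sheaf ⥤ ModSite.Mod Z.sheaf := Scheme.Modules.restrictFunctor a

/-- direct image along `a` -/
abbrev aP : ModSite.Mod Z.sheaf ⥤ ModSite.Mod Y.sheaf := Scheme.Modules.pushforward a

/-- the adjunction `a^* ⊣ a_*` -/
def aAdj : aS a ⊣ aP a := Scheme.Modules.restrictAdjunction a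

instance isIso_aAdj_counit : IsIso (aAdj a).counit :=
  inferInstanceAs (IsIso (Scheme.Modules.restrictAdjunction a).counit)

instance isIso_aAdj_counit_app (M : ModSite.Mod Z.sheaf) : IsIso ((aAdj a).counit.app M) :=
  NatIso.isIso_app_of_isIso (aAdj a).counit M

instance isIso_aAdj_unit_app (M : ModSite.Mod Y.sheaf) : IsIso ((aAdj a).unit.app M) := by
  show IsIso ((Scheme.Modules.restrictAdjunction a).unit.app M)
  rw [Scheme.Modules.Hom.isIso_iff_isIso_app]
  intro U
  rw [Scheme.Modules.restrictAdjunction_unit_app_app]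
  have h : U ≤ a ''ᵁ a ⁻¹ᵁ U := by
    rw [Scheme.Hom.image_preimage_eq_opensRange_inf, Scheme.Hom.opensRange_of_isIso]
    exact le_inf le_top le_rfl
  let i : (a ''ᵁ a ⁻¹ᵁ U) ≅ U :=
    ⟨homOfLE (a.image_preimage_le U), homOfLE h, Subsingleton.elim _ _, Subsingleton.elim _ _⟩
  exact ((Scheme.Modules.presheaf (X := Y) M).mapIso i.op).isIso_hom

/-- `a^*` as an equivalence -/
def aEquiv : ModSite.Mod Y.sheaf ≌ ModSite.Mod Z.sheaf := (aAdj a).toEquivalence

theorem aS_additive : (aS a).Additive := (aAdj a).left_adjoint_additive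

theorem aS_isRightAdjoint : (aS a).IsRightAdjoint := ⟨_, ⟨(aEquiv a).symm.toAdjunction⟩⟩

theorem aS_preservesFiniteLimits : PreservesFiniteLimits (aS a) :=
  haveI := aS_isRightAdjoint a
  inferInstance

theorem aS_preservesFiniteColimits : PreservesFiniteColimits (aS a) :=
  haveI := (aAdj a).isLeftAdjoint
  inferInstance

theorem aS_preservesInjectiveObjects : (aS a).PreservesInjectiveObjects :=
  haveI : (aP a).IsRightAdjoint := (aAdj a).isRightAdjoint
  haveI : (aP a).PreservesMonomorphisms := inferInstance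
  Functor.preservesInjectiveObjects_of_adjunction_of_preservesMonomorphisms
    (aEquiv a).symm.toAdjunction

/-- restriction along `a` commutes with `- ⊗ B` -/
def muIso (B : ModSite.Mod Y.sheaf) :
    (tensorBi Y.sheaf).flip.obj B ⋙ aS a ≅
      aS a ⋙ (tensorBi Z.sheaf).flip.obj ((aS a).obj B) :=
  Functor.isoWhiskerLeft _ (Scheme.Modules.restrictFunctorIsoPullback a) ≪≫
    pullTensLeftNatIso a B ≪≫
    Functor.isoWhiskerLeft (Scheme.Modules.pullback a)
      ((tensorBi Z.sheaf).flip.mapIso
        ((Scheme.Modules.restrictFunctorIsoPullback a).symm.app B)) ≪≫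
    Functor.isoWhiskerRight (Scheme.Modules.restrictFunctorIsoPullback a).symm _

/-- `𝓗om(F, a_* H) ≅ a_* 𝓗om(a^*F, H)` -/
def starIso (F : ModSite.Mod Y.sheaf) :
    aP a ⋙ ModSite.sheafHom (O := Y.sheaf) F ≅
      ModSite.sheafHom (O := Z.sheaf) ((aS a).obj F) ⋙ aP a :=
  Adjunction.rightAdjointUniq ((ModSite.sheafHomAdj (O := Y.sheaf) F).comp (aAdj a))
    (((aAdj a).comp (ModSite.sheafHomAdj (O := Z.sheaf) ((aS a).obj F))).ofNatIsoLeft
      (muIso a F).symm)

/-- the internal Hom commutes with restriction along an isomorphism -/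
def thetaIso (F : ModSite.Mod Y.sheaf) :
    ModSite.sheafHom (O := Y.sheaf) F ⋙ aS a ≅
      aS a ⋙ ModSite.sheafHom (O := Z.sheaf) ((aS a).obj F) :=
  thetaIsoAbs (aAdj a) (ModSite.sheafHom (O := Y.sheaf) F)
    (ModSite.sheafHom (O := Z.sheaf) ((aS a).obj F)) (starIso a F)
    (fun G => inferInstance)

/-- **the local Ext sheaves commute with restriction along an isomorphism of schemes** -/
theorem nonempty_restrict_extSh_iso (F G : ModSite.Mod Y.sheaf) (i : ℕ)
    [HasInjectiveResolutions (ModSite.Mod Y.sheaf)]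
    [HasInjectiveResolutions (ModSite.Mod Z.sheaf)] :
    Nonempty ((aS a).obj ((ModSite.extSh (O := Y.sheaf) F i).obj G) ≅
      (ModSite.extSh (O := Z.sheaf) ((aS a).obj F) i).obj ((aS a).obj G)) := by
  haveI := aS_additive a
  haveI := aS_preservesFiniteLimits a
  haveI := aS_preservesFiniteColimits a
  haveI := aS_preservesInjectiveObjects a
  exact ⟨(DerivedCommH8.rightDerivedBaseChange (ModSite.sheafHom (O := Y.sheaf) F)
    (ModSite.sheafHom (O := Z.sheaf) ((aS a).obj F)) (aS a) (aS a)
    (thetaIso a F) i).app G⟩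

omit [IsIso a] in
/-- **invariance of the local Ext sheaves under isomorphisms in the first variable** -/
theorem nonempty_extSh_iso_of_iso {F₁ F₂ : ModSite.Mod Y.sheaf} (φ : F₁ ≅ F₂)
    (G : ModSite.Mod Y.sheaf) (i : ℕ) [HasInjectiveResolutions (ModSite.Mod Y.sheaf)] :
    Nonempty ((ModSite.extSh (O := Y.sheaf) F₁ i).obj G ≅
      (ModSite.extSh (O := Y.sheaf) F₂ i).obj G) :=
  ⟨(DerivedCommH8.rightDerivedNatIso ((homFX Y).mapIso φ.symm.op) i).app G⟩

end

end Groth.Agent.Lib.IsoExtShH2
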