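import Mathlib
import Groth.Prelude
import Groth.Agent.Lib.ExtTilde1_helper2
import Groth.Agent.Lib.IsoExtSh1_helper2
import Groth.Agent.Lib.QCohFP_helper9
import Groth.Agent.Lib.ExtShCoh1_helper2

/-!
# Sections of the local Ext sheaves over an affine open: `Γ(U, ℰxt^i(F, G)) ≃ Ext^i_{O(U)}(F(U), G(U))`
(helper2)  APPEND-ONLY once landed.
-/

set_option autoImplicit false
open AlgebraicGeometry CategoryTheory CategoryTheory.Limits TopologicalSpace Opposite Abelian

universe w v u t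

namespace Groth.Agent.Lib.ExtSecAffH2

noncomputable section

section ExtIso

variable {R : Type t} [CommRing R] {C : Type u} [Category.{v} C] [Abelian C] [Linear R C]
  [HasExt.{w} C]

/-- invariance of `Ext` under isomorphisms in the first variable -/
def extCongrLeft {M M' : C} (a : M ≅ M') (N : C) (i : ℕ) : Ext M N i ≃ₗ[R] Ext M' N i :=
  LinearEquiv.ofLinearMap (Ext.precompOfLinear (Ext.mk₀ a.inv) R N (zero_add i))
    (Ext.precompOfLinear (Ext.mk₀ a.hom) R N (zero_add i))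
    (by
      ext x
      show (Ext.mk₀ a.inv).comp ((Ext.mk₀ a.hom).comp x (zero_add i)) (zero_add i) = x
      rw [Ext.mk₀_comp_mk₀_assoc, Iso.inv_hom_id, Ext.mk₀_id_comp])
    (by
      ext x
      show (Ext.mk₀ a.hom).comp ((Ext.mk₀ a.inv).comp x (zero_add i)) (zero_add i) = x
      rw [Ext.mk₀_comp_mk₀_assoc, Iso.hom_inv_id, Ext.mk₀_id_comp])

/-- invariance of `Ext` under isomorphisms in the second variable -/
def extCongrRight (M : C) {N N' : C} (b : N ≅ N') (i : ℕ) : Ext M N i ≃ₗ[R] Ext M N' i :=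
  LinearEquiv.ofLinearMap (Ext.postcompOfLinear (Ext.mk₀ b.hom) R M (add_zero i))
    (Ext.postcompOfLinear (Ext.mk₀ b.inv) R M (add_zero i))
    (by
      ext x
      show (x.comp (Ext.mk₀ b.inv) (add_zero i)).comp (Ext.mk₀ b.hom) (add_zero i) = x
      rw [Ext.comp_assoc_of_third_deg_zero, Ext.mk₀_comp_mk₀, Iso.inv_hom_id, Ext.comp_mk₀_id])
    (by
      ext x
      show (x.comp (Ext.mk₀ b.hom) (add_zero i)).comp (Ext.mk₀ b.inv) (add_zero i) = x
      rw [Ext.comp_assoc_of_third_deg_zero, Ext.mk₀_comp_mk₀, Iso.hom_inv_id, Ext.comp_mk₀_id])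

end ExtIso

open Groth.Agent.Lib.TildeTensH2 Groth.Agent.Lib.TildeHomH2 Groth.Agent.Lib.RelExtSchH2
  Groth.Agent.Lib.ExtTildeH2 Groth.Agent.Lib.IsoExtShH2 Groth.Agent.Lib.RestrHomH2

attribute [local instance] Groth.Agent.Lib.RelExtSchH2.hsh Groth.Agent.Lib.ExtShCohH2.hir

section SpecLevel

variable (R : CommRingCat.{u}) [IsNoetherianRing R]

/-- on `Spec R`, `R` Noetherian: the local Ext sheaf of a quasi-coherent module with finite module
of sections into a quasi-coherent module is the sheaf associated with the Ext module -/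
theorem nonempty_extSh_iso_tilde (F' G' : ModSite.Mod (Spec R).sheaf)
    [hF : SheafOfModules.IsQuasicoherent (R := (Spec R).ringCatSheaf) F']
    [hG : SheafOfModules.IsQuasicoherent (R := (Spec R).ringCatSheaf) G']
    [Module.Finite R ((Gam R).obj F')] (i : ℕ) :
    Nonempty ((ModSite.extSh (O := (Spec R).sheaf) F' i).obj G' ≅
      (til R).obj (ModuleCat.of R (Ext ((Gam R).obj F') ((Gam R).obj G') i))) := by
  have hF' : IsIso ((tgAdj R).counit.app F') := by
    show IsIso (Scheme.Modules.fromTildeΓ F')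
    exact Scheme.Modules.isIso_fromTildeΓ_of_isQuasicoherent _
  have hG' : IsIso ((tgAdj R).counit.app G') := by
    show IsIso (Scheme.Modules.fromTildeΓ G')
    exact Scheme.Modules.isIso_fromTildeΓ_of_isQuasicoherent _
  let φ : (til R).obj ((Gam R).obj F') ≅ F' := @asIso _ _ _ _ ((tgAdj R).counit.app F') hF'
  let ψ : (til R).obj ((Gam R).obj G') ≅ G' := @asIso _ _ _ _ ((tgAdj R).counit.app G') hG'
  obtain ⟨e1⟩ := nonempty_extSh_iso_of_iso φ.symm G' i
  have e2 := (ModSite.extSh (O := (Spec R).sheaf) ((til R).obj ((Gam R).obj F')) i).mapIso ψ.symm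
  obtain ⟨e3⟩ := Groth.Agent.Lib.ExtTildeH2.main ((Gam R).obj G') i ((Gam R).obj F')
  exact ⟨e1 ≪≫ e2 ≪≫ e3⟩

/-- global sections version -/
theorem nonempty_Gam_extSh_iso (F' G' : ModSite.Mod (Spec R).sheaf)
    [hF : SheafOfModules.IsQuasicoherent (R := (Spec R).ringCatSheaf) F']
    [hG : SheafOfModules.IsQuasicoherent (R := (Spec R).ringCatSheaf) G']
    [Module.Finite R ((Gam R).obj F')] (i : ℕ) :
    Nonempty ((Gam R).obj ((ModSite.extSh (O := (Spec R).sheaf) F' i).obj G') ≅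
      ModuleCat.of R (Ext ((Gam R).obj F') ((Gam R).obj G') i)) := by
  obtain ⟨e⟩ := nonempty_extSh_iso_tilde R F' G' i
  exact ⟨(Gam R).mapIso e ≪≫ (unitIso R _).symm⟩

end SpecLevel

section Main

variable {X : Scheme.{u}} {U : X.Opens} (hU : IsAffineOpen U)

include hU in
/-- **sections of the local Ext sheaves over an affine open** -/
theorem main (F G : X.Modules) [F.IsQuasicoherent] [G.IsQuasicoherent]
    [IsNoetherianRing Γ(X, U)] [Module.Finite Γ(X, U) Γ(F, U)] (i : ℕ) :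
    Nonempty (Γ((ModSite.extSh (O := X.sheaf) F i).obj G, U) ≃ₗ[Γ(X, U)]
      Ext (ModuleCat.of Γ(X, U) Γ(F, U)) (ModuleCat.of Γ(X, U) Γ(G, U)) i) := by
  let R : CommRingCat.{u} := Γ(X, U)
  let a : Spec R ⟶ (U : Scheme.{u}) := hU.isoSpec.inv
  let E : X.Modules := (ModSite.extSh (O := X.sheaf) F i).obj G
  obtain ⟨m1⟩ := main11328 U F G i
  obtain ⟨m2⟩ := nonempty_restrict_extSh_iso a ((jS U).obj F) ((jS U).obj G) i
  let κ : jS U ⋙ aS a ≅ Scheme.Modules.restrictFunctor hU.fromSpec :=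
    (Scheme.Modules.restrictFunctorComp a U.ι).symm
  let F' : ModSite.Mod (Spec R).sheaf := (aS a).obj ((jS U).obj F)
  let G' : ModSite.Mod (Spec R).sheaf := (aS a).obj ((jS U).obj G)
  haveI hF' : SheafOfModules.IsQuasicoherent (R := (Spec R).ringCatSheaf) F' := by
    haveI : ((jS U).obj F).IsQuasicoherent :=
      Scheme.Modules.isQuasicoherent_restrictFunctor U.ι F
    exact Scheme.Modules.isQuasicoherent_restrictFunctor a ((jS U).obj F)
  haveI hG' : SheafOfModules.IsQuasicoherent (R := (Spec R).ringCatSheaf) G' := by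
    haveI : ((jS U).obj G).IsQuasicoherent :=
      Scheme.Modules.isQuasicoherent_restrictFunctor U.ι G
    exact Scheme.Modules.isQuasicoherent_restrictFunctor a ((jS U).obj G)
  -- sections
  let αF : (Gam R).obj F' ≅ ModuleCat.of R Γ(F, U) :=
    (Gam R).mapIso (κ.app F) ≪≫ (QCohFP.secSpecEquiv hU F).toModuleIso
  let αG : (Gam R).obj G' ≅ ModuleCat.of R Γ(G, U) :=
    (Gam R).mapIso (κ.app G) ≪≫ (QCohFP.secSpecEquiv hU G).toModuleIso
  let αE : (Gam R).obj ((aS a).obj ((jS U).obj E)) ≅ ModuleCat.of R Γ(E, U) :=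
    (Gam R).mapIso (κ.app E) ≪≫ (QCohFP.secSpecEquiv hU E).toModuleIso
  haveI : IsNoetherianRing R := ‹IsNoetherianRing Γ(X, U)›
  haveI : Module.Finite R ((Gam R).obj F') :=
    Module.Finite.equiv (R := R) αF.toLinearEquiv.symm
  obtain ⟨m3⟩ := nonempty_Gam_extSh_iso R F' G' i
  let tot : ModuleCat.of R Γ(E, U) ≅
      ModuleCat.of R (Ext (ModuleCat.of R Γ(F, U)) (ModuleCat.of R Γ(G, U)) i) :=
    αE.symm ≪≫ (Gam R).mapIso ((aS a).mapIso m1) ≪≫ (Gam R).mapIso m2 ≪≫ m3 ≪≫
      ((extCongrLeft (R := R) αF _ i).trans (extCongrRight (R := R) _ αG i)).toModuleIso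
  exact ⟨tot.toLinearEquiv⟩

end Main

end

end Groth.Agent.Lib.ExtSecAffH2
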