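import Mathlib
import Groth.Prelude
import Groth.Agent.Lib.ExtSecAff1_helper2
import Groth.Agent.Lib.DepthAlongOpen_helper2

/-!
# Depth of stalks and vanishing of local Ext sheaves (helper2)  APPEND-ONLY once landed.
-/

set_option autoImplicit false
open AlgebraicGeometry CategoryTheory CategoryTheory.Limits TopologicalSpace Opposite Abelian

universe u

namespace Groth.Agent.Lib.ExtDepthH2

open Groth.Agent.DepthLib RingTheory.Sequence

section CA

variable {R : Type u} [CommRing R] [IsNoetherianRing R] (M N : Type u) [AddCommGroup M] [Module R M]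
  [AddCommGroup N] [Module R N] [Module.Finite R M] [Module.Finite R N]

/-- Rees: vanishing of `Ext^i(N, M)` for `i < n` gives `n ≤ depth_{Ann N} M` -/
theorem le_idealDepth_ann_of_ext (n : ℕ)
    (h : ∀ i < n, Subsingleton (Ext (ModuleCat.of R N) (ModuleCat.of R M) i)) :
    (n : ℕ∞) ≤ LocCoh.idealDepth (Module.annihilator R N) M := by
  rw [le_idealDepth_iff]
  by_cases h1 : Module.annihilator R N • (⊤ : Submodule R M) = ⊤
  · exact Or.inl h1
  · right
    have hlt : Module.annihilator R N • (⊤ : Submodule R (ModuleCat.of R M)) < ⊤ :=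
      lt_top_iff_ne_top.2 h1
    have hsupp : Module.support R (ModuleCat.of R N) =
        PrimeSpectrum.zeroLocus (Module.annihilator R N) := by
      change Module.support R N = _
      rw [Module.support_eq_zeroLocus]
    obtain ⟨rs, hlen, hmem, hreg⟩ := ModuleCat.exists_isRegular_of_exists_subsingleton_ext
      (Module.annihilator R N) n (ModuleCat.of R M) hlt (ModuleCat.of R N) hsupp h
    exact ⟨rs, hreg.toIsWeaklyRegular, hmem, hlen⟩

omit [IsNoetherianRing R] [Module.Finite R N] in
/-- conversely -/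
theorem ext_subsingleton_of_le_idealDepth_ann (n : ℕ)
    (h : (n : ℕ∞) ≤ LocCoh.idealDepth (Module.annihilator R N) M) :
    ∀ i < n, Subsingleton (Ext (ModuleCat.of R N) (ModuleCat.of R M) i) := by
  rw [le_idealDepth_iff] at h
  rcases h with h | ⟨rs, hreg, hmem, rfl⟩
  · intro i _
    obtain ⟨r, hr, hrM⟩ := Submodule.exists_sub_one_mem_and_smul_eq_zero_of_fg_of_le_smul
      (Module.annihilator R N) (⊤ : Submodule R M) Module.Finite.fg_top (by rw [h])
    set a := 1 - r with ha
    have haI : a ∈ Module.annihilator R N := by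
      have : a = -(r - 1) := by rw [ha]; ring
      rw [this]
      exact neg_mem hr
    have h1 : ∀ m : (ModuleCat.of R M), a • m = m := by
      intro m
      change a • (m : M) = m
      rw [ha, sub_smul, one_smul, hrM m Submodule.mem_top, sub_zero]
    have h2 : ∀ y : (ModuleCat.of R N), a • y = 0 := by
      intro y
      exact Module.mem_annihilator.1 haI y
    refine ⟨fun x y => ?_⟩
    rw [← ext_smul_eq_self_of_tgt a h1 i x, ← ext_smul_eq_self_of_tgt a h1 i y,
      ext_smul_eq_zero_of_src a h2, ext_smul_eq_zero_of_src a h2]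
  · intro i hi
    refine Groth.Agent.S5150.result R (Module.annihilator R N) M N rs hreg hmem 1 ?_ i hi
    rw [pow_one, eq_bot_iff]
    intro x hx
    refine Submodule.smul_induction_on hx ?_ ?_
    · intro r hr y _
      rw [Submodule.mem_bot]
      exact Module.mem_annihilator.1 hr y
    · intro x y hx hy
      exact Submodule.add_mem _ hx hy

end CA

section Sch

variable {X : Scheme.{u}}

attribute [local instance] Groth.Agent.Lib.RelExtSchH2.hsh Groth.Agent.Lib.ExtShCohH2.hir

/-- a zero module has no nonzero sections -/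
theorem subsingleton_sections_of_isZero {E : X.Modules} (hz : IsZero E) (V : X.Opens) :
    Subsingleton Γ(E, V) := by
  have h : (𝟙 E : E ⟶ E) = 0 := hz.eq_of_src _ _
  have hs : ∀ s : Γ(E, V), s = 0 := fun s => by
    have h2 := congrArg (fun φ : E ⟶ E => φ.app V s) h
    exact h2
  exact ⟨fun s t => (hs s).trans (hs t).symm⟩

variable [IsLocallyNoetherian X]

/-- vanishing of the local Ext sheaf gives vanishing of the Ext module of sections over an affine
open -/
theorem subsingleton_ext_of_isZero_extSh (G F : X.Modules) (hG : Coh.IsCoh G)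
    [F.IsQuasicoherent] {V : X.Opens} (hV : IsAffineOpen V) (i : ℕ)
    (hz : IsZero ((ModSite.extSh (O := X.sheaf) G i).obj F)) :
    Subsingleton (Ext (ModuleCat.of Γ(X, V) Γ(G, V)) (ModuleCat.of Γ(X, V) Γ(F, V)) i) := by
  haveI : G.IsQuasicoherent := hG.1
  haveI : SheafOfModules.IsFiniteType (R := X.ringCatSheaf) G := hG.2
  haveI : IsNoetherianRing Γ(X, V) := IsLocallyNoetherian.component_noetherian ⟨V, hV⟩
  haveI : Module.Finite Γ(X, V) Γ(G, V) := QCohFT.finite_of_isFiniteType G hV
  obtain ⟨e⟩ := Groth.Agent.Lib.ExtSecAffH2.main hV G F i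
  haveI := subsingleton_sections_of_isZero hz V
  exact e.symm.toEquiv.subsingleton

/-- the support of a coherent module on an affine open, via the annihilator of the sections -/
theorem mem_support_iff_annihilator_le (G : X.Modules) (hG : Coh.IsCoh G) {V : X.Opens}
    (hV : IsAffineOpen V) {x : X} (hx : x ∈ V) :
    x ∈ CohB1.support G ↔
      Module.annihilator Γ(X, V) Γ(G, V) ≤ (hV.primeIdealOf ⟨x, hx⟩).asIdeal := by
  haveI : G.IsQuasicoherent := hG.1
  haveI : SheafOfModules.IsFiniteType (R := X.ringCatSheaf) G := hG.2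
  haveI : Module.Finite Γ(X, V) Γ(G, V) := QCohFT.finite_of_isFiniteType G hV
  letI := StalkLocH8.modSec G hx
  haveI := StalkLocH8.isLocalizedModule_germLin G hV hx
  have e := IsLocalizedModule.iso (hV.primeIdealOf ⟨x, hx⟩).asIdeal.primeCompl
    (StalkLocH8.germLin G hx)
  rw [← Module.mem_support_iff_of_finite, Module.mem_support_iff]
  show ¬ Subsingleton (G.presheaf.stalk x) ↔ _
  rw [not_subsingleton_iff_nontrivial]
  exact ⟨fun h => e.toEquiv.nontrivial, fun h => e.symm.toEquiv.nontrivial⟩

/-- **depth of the stalks along the support from vanishing of local Ext sheaves** -/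
theorem le_depth_stalk_of_isZero_extSh (F G : X.Modules) (hF : Coh.IsCoh F) (hG : Coh.IsCoh G)
    (n : ℕ) (hz : ∀ i : ℕ, i < n → IsZero ((ModSite.extSh (O := X.sheaf) G i).obj F)) (x : X)
    (hx : x ∈ CohB1.support G) :
    (n : ℕ∞) ≤ LocCoh.depth (X.presheaf.stalk x) (F.presheaf.stalk x) := by
  obtain ⟨V₀, hV₀, hxV₀, -⟩ := (Opens.isBasis_iff_nbhd.mp X.isBasis_affineOpens)
    (show x ∈ (⊤ : X.Opens) from trivial)
  obtain ⟨V, hV, hxV⟩ : ∃ V : X.Opens, IsAffineOpen V ∧ x ∈ V := ⟨V₀, hV₀, hxV₀⟩
  haveI : F.IsQuasicoherent := hF.1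
  haveI : SheafOfModules.IsFiniteType (R := X.ringCatSheaf) F := hF.2
  haveI : G.IsQuasicoherent := hG.1
  haveI : SheafOfModules.IsFiniteType (R := X.ringCatSheaf) G := hG.2
  haveI : IsNoetherianRing Γ(X, V) := IsLocallyNoetherian.component_noetherian ⟨V, hV⟩
  haveI : Module.Finite Γ(X, V) Γ(F, V) := QCohFT.finite_of_isFiniteType F hV
  haveI : Module.Finite Γ(X, V) Γ(G, V) := QCohFT.finite_of_isFiniteType G hV
  rw [Groth.Agent.Lib.DepthAlongOpen.depth_stalk_eq F hF hV hxV]
  have h1 := le_idealDepth_ann_of_ext (R := Γ(X, V)) Γ(F, V) Γ(G, V) n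
    (fun i hi => subsingleton_ext_of_isZero_extSh G F hG hV i (hz i hi))
  exact h1.trans (idealDepth_le_depth_localization _ _ _
    ((mem_support_iff_annihilator_le G hG hV hxV).1 hx))

end Sch

end Groth.Agent.Lib.ExtDepthH2
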