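import Mathlib
import Groth.Agent.Lib.ExtLoc_helper3

/-!
# Vanishing of `Ext` over a localization, abstractly (helper4)

For `A` Noetherian, `q` prime, `R` any localization of `A` at `q`, `M` finite, and `M'`, `N'`
localizations of `M`, `N` at `q` (as `R`-modules):
`Ext_R^j(M', N') = 0` iff every class of `Ext_A^j(M, N)` is killed by some `s ∉ q`.
APPEND-ONLY once landed.
-/

set_option autoImplicit false
set_option linter.style.haveILetI false
universe u
open CategoryTheory Abelian

namespace Groth.Agent.Lib.ExtStalkH4

open Groth.Agent.Lib.ExtLocH3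

section Abstract

variable {C : Type*} [Category C] [Abelian C] {D : Type*} [Category D] [Abelian D]

/-- vanishing of `Ext` groups is invariant under an additive equivalence. -/
theorem subsingleton_ext_equivalence_iff [HasExt C] [HasExt D] [EnoughInjectives C]
    (Φ : C ⥤ D) [Φ.IsEquivalence] [Φ.Additive] (X Y : C) (n : ℕ) :
    Subsingleton (Ext (Φ.obj X) (Φ.obj Y) n) ↔ Subsingleton (Ext X Y n) := by
  haveI : Φ.PreservesInjectiveObjects :=
    Functor.preservesInjectiveObjects_of_adjunction_of_preservesMonomorphisms
      Φ.asEquivalence.symm.toAdjunction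
  have hb := Functor.mapExt_bijective_of_preservesInjectiveObjects Φ X Y n
  exact ⟨fun _ => hb.injective.subsingleton, fun _ => hb.surjective.subsingleton⟩

theorem subsingleton_ext_iso_iff [HasExt C] {A A' B B' : C} (e₁ : A ≅ A') (e₂ : B ≅ B') (n : ℕ) :
    Subsingleton (Ext A B n) ↔ Subsingleton (Ext A' B' n) := by
  have key : ∀ {A A' B B' : C} (e₁ : A ≅ A') (e₂ : B ≅ B'),
      Subsingleton (Ext A' B' n) → Subsingleton (Ext A B n) := by
    intro A A' B B' e₁ e₂ h
    have hx : ∀ x : Ext A B n, x = 0 := by
      intro x
      have h0 : (Ext.mk₀ e₁.inv).comp (x.comp (Ext.mk₀ e₂.hom) (add_zero n)) (zero_add n) = 0 :=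
        Subsingleton.elim _ _
      have h1 : x = (Ext.mk₀ e₁.hom).comp
          (((Ext.mk₀ e₁.inv).comp (x.comp (Ext.mk₀ e₂.hom) (add_zero n)) (zero_add n)).comp
            (Ext.mk₀ e₂.inv) (add_zero n)) (zero_add n) := by
        simp
      rw [h1, h0, Ext.zero_comp, Ext.comp_zero]
    exact ⟨fun x y => by rw [hx x, hx y]⟩
  exact ⟨key e₁.symm e₂.symm, key e₁ e₂⟩

end Abstract

section Loc

variable {A : Type u} [CommRing A] [IsNoetherianRing A] (S : Submonoid A)

/-- `Ext` over the localization vanishes iff every class over `A` is `S`-torsion. -/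
theorem subsingleton_ext_localization_iff (M N : ModuleCat.{u} A) [Module.Finite A M] (j : ℕ) :
    Subsingleton (Ext ((LF S).obj M) ((LF S).obj N) j) ↔
      ∀ e : Ext M N j, ∃ s : S, (s : A) • e = 0 := by
  obtain ⟨h1, h2⟩ := result' S M N j
  constructor
  · intro hs e
    exact (h2 e).mp (Subsingleton.elim _ _)
  · intro h
    have key : ∀ y : Ext ((LF S).obj M) ((LF S).obj N) j, y = 0 := by
      intro y
      obtain ⟨e, s, hs⟩ := h1 y
      have h3 : (LF S).mapExtAddHom M N j e = 0 := (h2 e).mpr (h e)
      rw [h3] at hs
      have hu : IsUnit (algebraMap A (Localization S) (s : A)) := IsLocalization.map_units _ s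
      exact (hu.smul_eq_zero).mp hs
    exact ⟨fun y y' => by rw [key y, key y']⟩

end Loc


section Transport

variable (A : Type u) [CommRing A] [IsNoetherianRing A] (q : Ideal A) [q.IsPrime]
  (R : Type u) [CommRing R] [Algebra A R] [IsLocalization.AtPrime R q]

omit [IsNoetherianRing A] in
/-- the localized module of `M`, as an object over the abstract localization `R`, corresponds to
`LF M` under restriction of scalars along `Localization.AtPrime q ≃ R`. -/
theorem nonempty_restrictScalars_iso
    (M : Type u) [AddCommGroup M] [Module A M]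
    (M' : Type u) [AddCommGroup M'] [Module A M'] [Module R M'] [IsScalarTower A R M']
    (φ : M →ₗ[A] M') [IsLocalizedModule q.primeCompl φ] :
    Nonempty ((ModuleCat.restrictScalars
        (IsLocalization.algEquiv q.primeCompl (Localization.AtPrime q) R).toRingEquiv.toRingHom).obj
          (ModuleCat.of R M') ≅ (LF q.primeCompl).obj (ModuleCat.of A M)) := by
  let e : Localization.AtPrime q ≃ₐ[A] R :=
    IsLocalization.algEquiv q.primeCompl (Localization.AtPrime q) R
  let f : Localization.AtPrime q →+* R := e.toRingEquiv.toRingHom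
  letI algLR : Algebra (Localization.AtPrime q) R := f.toAlgebra
  have halg : ∀ a : Localization.AtPrime q, algebraMap (Localization.AtPrime q) R a = e a :=
    fun _ => rfl
  haveI : IsScalarTower A (Localization.AtPrime q) R :=
    IsScalarTower.of_algebraMap_eq fun a => by rw [halg, e.commutes]
  letI modL : Module (Localization.AtPrime q) M' := Module.compHom M' f
  haveI : IsScalarTower (Localization.AtPrime q) R M' :=
    IsScalarTower.of_algebraMap_smul fun _ _ => rfl
  haveI : IsScalarTower A (Localization.AtPrime q) M' := by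
    refine IsScalarTower.of_algebraMap_smul fun a n => ?_
    show algebraMap (Localization.AtPrime q) R (algebraMap A (Localization.AtPrime q) a) • n = a • n
    rw [← IsScalarTower.algebraMap_apply A (Localization.AtPrime q) R, algebraMap_smul]
  let MM : ModuleCat.{u} A := ModuleCat.of A M
  haveI hloc : IsLocalizedModule q.primeCompl (MM.localizedModuleMkLinearMap q.primeCompl) :=
    ModuleCat.localizedModule_isLocalizedModule MM q.primeCompl
  let e2 : (MM.localizedModule q.primeCompl) ≃ₗ[Localization.AtPrime q] M' :=
    (IsLocalizedModule.linearEquiv q.primeCompl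
      (MM.localizedModuleMkLinearMap q.primeCompl) φ).extendScalarsOfIsLocalization q.primeCompl
      (Localization.AtPrime q)
  have i0 : ModuleCat.of (Localization.AtPrime q) M' ≅ MM.localizedModule q.primeCompl :=
    (LinearEquiv.toModuleIso e2).symm
  exact ⟨i0⟩

/-- **vanishing of `Ext` over an abstract localization at a prime.** -/
theorem subsingleton_ext_iff_of_isLocalizedModule
    (M N : Type u) [AddCommGroup M] [Module A M] [Module.Finite A M] [AddCommGroup N] [Module A N]
    (M' : Type u) [AddCommGroup M'] [Module A M'] [Module R M'] [IsScalarTower A R M']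
    (N' : Type u) [AddCommGroup N'] [Module A N'] [Module R N'] [IsScalarTower A R N']
    (φ : M →ₗ[A] M') [IsLocalizedModule q.primeCompl φ]
    (ψ : N →ₗ[A] N') [IsLocalizedModule q.primeCompl ψ] (j : ℕ) :
    Subsingleton (Ext (ModuleCat.of R M') (ModuleCat.of R N') j) ↔
      ∀ e : Ext (ModuleCat.of A M) (ModuleCat.of A N) j,
        ∃ s : q.primeCompl, (s : A) • e = 0 := by
  obtain ⟨i1⟩ := nonempty_restrictScalars_iso A q R M M' φ
  obtain ⟨i2⟩ := nonempty_restrictScalars_iso A q R N N' ψ
  haveI : Module.Finite A (ModuleCat.of A M) := ‹Module.Finite A M›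
  rw [← subsingleton_ext_localization_iff q.primeCompl (ModuleCat.of A M) (ModuleCat.of A N) j,
    ← subsingleton_ext_iso_iff i1 i2 j]
  exact (subsingleton_ext_equivalence_iff (ModuleCat.restrictScalars
    (IsLocalization.algEquiv q.primeCompl (Localization.AtPrime q) R).toRingEquiv.toRingHom)
    (ModuleCat.of R M') (ModuleCat.of R N') j).symm

end Transport

end Groth.Agent.Lib.ExtStalkH4
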