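import Mathlib
import Groth.Prelude
import Groth.Agent.Lib.ExtStalk1_helper4
import Groth.Agent.Lib.ExtDepth1_helper2

/-!
# Stalks of the local Ext sheaves (helper4)

For coherent `F`, `G` on a locally Noetherian scheme, the stalk of `ℰxt^j(F, G)` at `x` vanishes iff
`Ext^j_{O_x}(F_x, G_x)` does.
APPEND-ONLY once landed.
-/

set_option autoImplicit false
set_option linter.style.haveILetI false
universe u
open CategoryTheory CategoryTheory.Limits AlgebraicGeometry Opposite Abelian TopologicalSpace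

namespace Groth.Agent.Lib.ExtStalkH4

variable {X : Scheme.{u}} [IsLocallyNoetherian X]

attribute [local instance] Groth.Agent.Lib.RelExtSchH2.hsh Groth.Agent.Lib.ExtShCohH2.hir

/-- **stalks of Ext sheaves**, in the form of a vanishing criterion. -/
theorem subsingleton_stalk_extSh_iff (F G : X.Modules) (hF : Coh.IsCoh F) (hG : Coh.IsCoh G)
    (j : ℕ) (x : X) :
    Subsingleton ((Scheme.Modules.presheaf (X := X)
        ((ModSite.extSh (O := X.sheaf) F j).obj G)).stalk x) ↔
      Subsingleton (Abelian.Ext (ModuleCat.of (X.presheaf.stalk x) (F.presheaf.stalk x))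
        (ModuleCat.of (X.presheaf.stalk x) (G.presheaf.stalk x)) j) := by
  obtain ⟨V₀, hV₀, hxV₀, -⟩ := (Opens.isBasis_iff_nbhd.mp X.isBasis_affineOpens)
    (show x ∈ (⊤ : X.Opens) from trivial)
  obtain ⟨V, hV, hx⟩ : ∃ V : X.Opens, IsAffineOpen V ∧ x ∈ V := ⟨V₀, hV₀, hxV₀⟩
  have hE : Coh.IsCoh ((ModSite.extSh (O := X.sheaf) F j).obj G) :=
    Groth.Agent.Lib.ExtShCohH2.isCoh_extSh j X F G hF hG
  haveI : F.IsQuasicoherent := hF.1
  haveI : SheafOfModules.IsFiniteType (R := X.ringCatSheaf) F := hF.2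
  haveI : G.IsQuasicoherent := hG.1
  haveI : ((ModSite.extSh (O := X.sheaf) F j).obj G).IsQuasicoherent := hE.1
  haveI : IsNoetherianRing Γ(X, V) := IsLocallyNoetherian.component_noetherian ⟨V, hV⟩
  haveI : Module.Finite Γ(X, V) Γ(F, V) := QCohFT.finite_of_isFiniteType F hV
  obtain ⟨e⟩ := Groth.Agent.Lib.ExtSecAffH2.main hV F G j
  letI := TopCat.Presheaf.algebra_section_stalk X.presheaf (⟨x, hx⟩ : V)
  haveI : IsLocalization.AtPrime (X.presheaf.stalk x) (hV.primeIdealOf ⟨x, hx⟩).asIdeal :=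
    hV.isLocalization_stalk ⟨x, hx⟩
  letI mF := StalkLocH8.modSec F hx
  haveI := StalkLocH8.isLocalizedModule_germLin F hV hx
  haveI : IsScalarTower Γ(X, V) (X.presheaf.stalk x) (F.presheaf.stalk x) :=
    IsScalarTower.of_algebraMap_smul fun _ _ => rfl
  letI mG := StalkLocH8.modSec G hx
  haveI := StalkLocH8.isLocalizedModule_germLin G hV hx
  haveI : IsScalarTower Γ(X, V) (X.presheaf.stalk x) (G.presheaf.stalk x) :=
    IsScalarTower.of_algebraMap_smul fun _ _ => rfl
  letI mE := StalkLocH8.modSec ((ModSite.extSh (O := X.sheaf) F j).obj G) hx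
  haveI := StalkLocH8.isLocalizedModule_germLin ((ModSite.extSh (O := X.sheaf) F j).obj G) hV hx
  rw [subsingleton_ext_iff_of_isLocalizedModule Γ(X, V) (hV.primeIdealOf ⟨x, hx⟩).asIdeal
    (X.presheaf.stalk x) Γ(F, V) Γ(G, V) (F.presheaf.stalk x) (G.presheaf.stalk x)
    (StalkLocH8.germLin F hx) (StalkLocH8.germLin G hx) j,
    IsLocalizedModule.subsingleton_iff (hV.primeIdealOf ⟨x, hx⟩).asIdeal.primeCompl
      (StalkLocH8.germLin ((ModSite.extSh (O := X.sheaf) F j).obj G) hx)]
  constructor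
  · intro h ξ
    obtain ⟨r, hr, hr0⟩ := h (e.symm ξ)
    refine ⟨⟨r, hr⟩, ?_⟩
    have h2 := congrArg e hr0
    rw [map_smul, LinearEquiv.apply_symm_apply, map_zero] at h2
    exact h2
  · intro h m
    obtain ⟨s, hs⟩ := h (e m)
    refine ⟨s, s.2, ?_⟩
    apply e.injective
    rw [map_smul, map_zero]
    exact hs

end Groth.Agent.Lib.ExtStalkH4
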