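import Mathlib
import Groth.Prelude.Def_RDerDelta
import Groth.Agent.Lib.Horseshoe0_helper9

/-!
# A degenerate case of the Grothendieck spectral sequence, without spectral sequences (helper4)

`T : 𝒜 ⥤ ℬ`, `G : ℬ ⥤ 𝒞` left exact additive functors between abelian categories with enough
injectives, `T` sending injectives to `G`-acyclic objects.  If `RᵠT(N)` is `G`-acyclic for all
`q ≤ i` then `Rⁱ(T ⋙ G)(N) ≅ G(RⁱT(N))` (`nonempty_rightDerived_comp_iso`).
APPEND-ONLY once landed.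
-/

set_option autoImplicit false

namespace Groth.Agent.Lib.DegenCompH4

open CategoryTheory CategoryTheory.Limits Groth.Agent.Lib.Horseshoe0

universe v₁ v₂ v₃ u₁ u₂ u₃

section FourTerm

variable {ℬ : Type u₂} [Category.{v₂} ℬ] [Abelian ℬ]

/-- Splitting a four term exact sequence `0 → A → B → C → D → 0` into two short exact
sequences. -/
theorem four_term_split {A B C D : ℬ} (f : A ⟶ B) (g : B ⟶ C) (h : C ⟶ D) [Mono f] [Epi h]
    (w1 : f ≫ g = 0) (w2 : g ≫ h = 0) (ex1 : (ShortComplex.mk f g w1).Exact)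
    (ex2 : (ShortComplex.mk g h w2).Exact) :
    ∃ (K : ℬ) (p : B ⟶ K) (j : K ⟶ C) (_ : p ≫ j = g) (w3 : f ≫ p = 0) (w4 : j ≫ h = 0),
      (ShortComplex.mk f p w3).ShortExact ∧ (ShortComplex.mk j h w4).ShortExact := by
  have hj : Mono (cokernel.desc f g w1) :=
    (ShortComplex.exact_iff_mono_cokernel_desc (ShortComplex.mk f g w1)).1 ex1
  have hpj : cokernel.π f ≫ cokernel.desc f g w1 = g := cokernel.π_desc f g w1
  have w4 : cokernel.desc f g w1 ≫ h = 0 := by
    rw [← cancel_epi (cokernel.π f), ← Category.assoc, hpj, w2, comp_zero]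
  refine ⟨cokernel f, cokernel.π f, cokernel.desc f g w1, hpj, cokernel.condition f, w4, ?_, ?_⟩
  · exact { exact := ShortComplex.exact_of_g_is_cokernel _ (cokernelIsCokernel f)
            mono_f := inferInstanceAs (Mono f)
            epi_g := inferInstanceAs (Epi (cokernel.π f)) }
  · refine { exact := ?_, mono_f := hj, epi_g := inferInstanceAs (Epi h) }
    let φ : ShortComplex.mk g h w2 ⟶ ShortComplex.mk (cokernel.desc f g w1) h w4 :=
      { τ₁ := cokernel.π f
        τ₂ := 𝟙 _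
        τ₃ := 𝟙 _
        comm₁₂ := by dsimp; rw [hpj, Category.comp_id]
        comm₂₃ := by dsimp; rw [Category.comp_id, Category.id_comp] }
    haveI : Epi φ.τ₁ := inferInstanceAs (Epi (cokernel.π f))
    haveI : IsIso φ.τ₂ := inferInstanceAs (IsIso (𝟙 _))
    haveI : Mono φ.τ₃ := inferInstanceAs (Mono (𝟙 _))
    exact (ShortComplex.exact_iff_of_epi_of_isIso_of_mono φ).1 ex2

end FourTerm


section Acyclic

variable {ℬ : Type u₂} {𝒞 : Type u₃} [Category.{v₂} ℬ] [Category.{v₃} 𝒞] [Abelian ℬ] [Abelian 𝒞]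
  [EnoughInjectives ℬ] (G : ℬ ⥤ 𝒞) [G.Additive]

/-- `B` is acyclic for `G`. -/
def Acyclic (B : ℬ) : Prop := ∀ p : ℕ, IsZero ((G.rightDerived (p + 1)).obj B)

variable {G}

theorem Acyclic.of_iso {B B' : ℬ} (e : B ≅ B') (h : Acyclic G B) : Acyclic G B' := fun p =>
  (h p).of_iso ((G.rightDerived (p + 1)).mapIso e.symm)

theorem acyclic_X₃ (S : ShortComplex ℬ) (hS : S.ShortExact) (h₁ : Acyclic G S.X₁)
    (h₂ : Acyclic G S.X₂) : Acyclic G S.X₃ := by
  intro p
  exact ((derivedLES G).exact₃ S hS (p + 1) (p + 2) rfl).isZero_of_both_zeros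
    ((h₂ p).eq_of_src _ _) ((h₁ (p + 1)).eq_of_tgt _ _)

theorem acyclic_X₂ (S : ShortComplex ℬ) (hS : S.ShortExact) (h₁ : Acyclic G S.X₁)
    (h₃ : Acyclic G S.X₃) : Acyclic G S.X₂ := by
  intro p
  exact ((derivedLES G).exact₂ S hS (p + 1)).isZero_of_both_zeros
    ((h₁ p).eq_of_src _ _) ((h₃ p).eq_of_tgt _ _)

theorem map_shortExact [PreservesFiniteLimits G] (S : ShortComplex ℬ) (hS : S.ShortExact)
    (h₁ : IsZero ((G.rightDerived 1).obj S.X₁)) : (S.map G).ShortExact := by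
  obtain ⟨hex, hmono⟩ :=
    (Functor.preservesFiniteLimits_iff_forall_exact_map_and_mono G).1 inferInstance S hS
  have hepi0 : Epi ((G.rightDerived 0).map S.g) :=
    ((derivedLES G).exact₃ S hS 0 1 rfl).epi_f (h₁.eq_of_tgt _ _)
  have hnat : G.map S.g ≫ G.toRightDerivedZero.app S.X₃ =
      G.toRightDerivedZero.app S.X₂ ≫ (G.rightDerived 0).map S.g :=
    G.toRightDerivedZero.naturality S.g
  have hepi : Epi (G.map S.g) := by
    have h2 : G.map S.g = G.toRightDerivedZero.app S.X₂ ≫ (G.rightDerived 0).map S.g ≫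
        inv (G.toRightDerivedZero.app S.X₃) := by
      rw [← Category.assoc, ← hnat, Category.assoc, IsIso.hom_inv_id, Category.comp_id]
    rw [h2]
    infer_instance
  exact { exact := hex, mono_f := hmono, epi_g := hepi }

end Acyclic

section Shift

variable {𝒜 : Type u₁} {𝒟 : Type u₃} [Category.{v₁} 𝒜] [Category.{v₃} 𝒟] [Abelian 𝒜] [Abelian 𝒟]
  [EnoughInjectives 𝒜]

/-- The short exact sequence `0 → N → I → N' → 0` with `I` an injective hull. -/
noncomputable def sesInj (N : 𝒜) : ShortComplex 𝒜 :=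
  ShortComplex.mk (Injective.ι N) (cokernel.π (Injective.ι N)) (cokernel.condition _)

theorem sesInj_shortExact (N : 𝒜) : (sesInj N).ShortExact :=
  { exact := ShortComplex.exact_of_g_is_cokernel _ (cokernelIsCokernel _)
    mono_f := inferInstanceAs (Mono (Injective.ι N))
    epi_g := inferInstanceAs (Epi (cokernel.π (Injective.ι N))) }

variable (F : 𝒜 ⥤ 𝒟) [F.Additive]

theorem isZero_rightDerived_sesInj_X₂ (N : 𝒜) (q : ℕ) :
    IsZero ((F.rightDerived (q + 1)).obj (sesInj N).X₂) :=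
  Functor.isZero_rightDerived_obj_injective_succ F q (Injective.under N)

/-- the connecting morphism `RᵠF(N') ⟶ Rᵠ⁺¹F(N)` is an epimorphism -/
theorem epi_δ (N : 𝒜) (q : ℕ) :
    Epi ((derivedLES F).δ (sesInj N) (sesInj_shortExact N) q (q + 1) rfl) :=
  ((derivedLES F).exact₁ (sesInj N) (sesInj_shortExact N) q (q + 1) rfl).epi_f
    ((isZero_rightDerived_sesInj_X₂ F N q).eq_of_tgt _ _)

/-- the connecting morphism `Rᵠ⁺¹F(N') ⟶ Rᵠ⁺²F(N)` is an isomorphism -/
theorem isIso_δ (N : 𝒜) (q : ℕ) :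
    IsIso ((derivedLES F).δ (sesInj N) (sesInj_shortExact N) (q + 1) (q + 2) rfl) := by
  haveI := epi_δ F N (q + 1)
  haveI : Mono ((derivedLES F).δ (sesInj N) (sesInj_shortExact N) (q + 1) (q + 2) rfl) :=
    ((derivedLES F).exact₃ (sesInj N) (sesInj_shortExact N) (q + 1) (q + 2) rfl).mono_g
      ((isZero_rightDerived_sesInj_X₂ F N q).eq_of_src _ _)
  exact isIso_of_mono_of_epi _

end Shift

section Main

variable {𝒜 : Type u₁} {ℬ : Type u₂} {𝒞 : Type u₃} [Category.{v₁} 𝒜] [Category.{v₂} ℬ]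
  [Category.{v₃} 𝒞] [Abelian 𝒜] [Abelian ℬ] [Abelian 𝒞] [EnoughInjectives 𝒜] [EnoughInjectives ℬ]
  (T : 𝒜 ⥤ ℬ) (G : ℬ ⥤ 𝒞) [T.Additive] [G.Additive] [PreservesFiniteLimits T]
  [PreservesFiniteLimits G]

omit [PreservesFiniteLimits G] in
/-- `R⁰T(X)` is acyclic when `T(X)` is. -/
theorem acyclic_rightDerivedZero {X : 𝒜} (h : Acyclic G (T.obj X)) :
    Acyclic G ((T.rightDerived 0).obj X) :=
  h.of_iso (asIso (T.toRightDerivedZero.app X))

variable (hT : ∀ I : 𝒜, Injective I → Acyclic G (T.obj I))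

include hT in
/-- The key step: with `0 → N → I → N' → 0`, if `R⁰T(N)` and `R¹T(N)` are `G`-acyclic then so is
`R⁰T(N')`, and `G(R¹T(N))` is the cokernel of `G(R⁰T(I)) ⟶ G(R⁰T(N'))`. -/
theorem key (N : 𝒜) (h0 : Acyclic G ((T.rightDerived 0).obj N))
    (h1 : Acyclic G ((T.rightDerived 1).obj N)) :
    Acyclic G ((T.rightDerived 0).obj (sesInj N).X₃) ∧
      Nonempty (G.obj ((T.rightDerived 1).obj N) ≅
        cokernel (G.map ((T.rightDerived 0).map (sesInj N).g))) := by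
  have hS := sesInj_shortExact N
  haveI : Mono ((T.rightDerived 0).map (sesInj N).f) :=
    mono_rightDerivedZero_map T (sesRes (sesInj N) hS)
  haveI := epi_δ T N 0
  obtain ⟨K, p, j, hpj, w3, w4, hS1, hS2⟩ := four_term_split
    ((T.rightDerived 0).map (sesInj N).f) ((T.rightDerived 0).map (sesInj N).g)
    ((derivedLES T).δ (sesInj N) hS 0 1 rfl)
    (by rw [← Functor.map_comp, (sesInj N).zero, Functor.map_zero])
    ((derivedLES T).comp_δ (sesInj N) hS 0 1 rfl)
    ((derivedLES T).exact₂ (sesInj N) hS 0) ((derivedLES T).exact₃ (sesInj N) hS 0 1 rfl)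
  have hI : Acyclic G ((T.rightDerived 0).obj (sesInj N).X₂) :=
    acyclic_rightDerivedZero T G (hT _ (inferInstanceAs (Injective (Injective.under N))))
  have hK : Acyclic G K := acyclic_X₃ _ hS1 h0 hI
  have hN' : Acyclic G ((T.rightDerived 0).obj (sesInj N).X₃) := acyclic_X₂ _ hS2 hK h1
  refine ⟨hN', ?_⟩
  have hG1 := map_shortExact _ hS1 (h0 0)
  have hG2 := map_shortExact _ hS2 (hK 0)
  haveI : Epi (G.map p) := hG1.epi_g
  haveI := hG2.epi_g
  have e1 : cokernel (G.map j) ≅ G.obj ((T.rightDerived 1).obj N) :=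
    IsColimit.coconePointUniqueUpToIso (cokernelIsCokernel _) hG2.exact.gIsCokernel
  have e2 : cokernel (G.map p ≫ G.map j) ≅ cokernel (G.map j) := cokernelEpiComp _ _
  have e3 : cokernel (G.map ((T.rightDerived 0).map (sesInj N).g)) ≅
      cokernel (G.map p ≫ G.map j) :=
    cokernelIsoOfEq (by rw [← Functor.map_comp, hpj])
  exact ⟨e1.symm ≪≫ e2.symm ≪≫ e3.symm⟩

end Main

section Main2

variable {𝒜 : Type u₁} {ℬ : Type u₂} {𝒞 : Type u₃} [Category.{v₁} 𝒜] [Category.{v₂} ℬ]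
  [Category.{v₃} 𝒞] [Abelian 𝒜] [Abelian ℬ] [Abelian 𝒞] [EnoughInjectives 𝒜] [EnoughInjectives ℬ]
  (T : 𝒜 ⥤ ℬ) (G : ℬ ⥤ 𝒞) [T.Additive] [G.Additive] [PreservesFiniteLimits T]
  [PreservesFiniteLimits G]
  (hT : ∀ I : 𝒜, Injective I → Acyclic G (T.obj I))

omit [EnoughInjectives ℬ] in
theorem step_zero (N : 𝒜) :
    Nonempty (((T ⋙ G).rightDerived 0).obj N ≅ G.obj ((T.rightDerived 0).obj N)) :=
  ⟨(asIso ((T ⋙ G).toRightDerivedZero.app N)).symm ≪≫
    G.mapIso (asIso (T.toRightDerivedZero.app N))⟩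

include hT in
theorem step_one (N : 𝒜) (h0 : Acyclic G ((T.rightDerived 0).obj N))
    (h1 : Acyclic G ((T.rightDerived 1).obj N)) :
    Nonempty (((T ⋙ G).rightDerived 1).obj N ≅ G.obj ((T.rightDerived 1).obj N)) := by
  have hS := sesInj_shortExact N
  obtain ⟨-, ⟨e⟩⟩ := key T G hT N h0 h1
  haveI := epi_δ (T ⋙ G) N 0
  have hex := (derivedLES (T ⋙ G)).exact₃ (sesInj N) hS 0 1 rfl
  have c1 : cokernel (((T ⋙ G).rightDerived 0).map (sesInj N).g) ≅
      ((T ⋙ G).rightDerived 1).obj N :=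
    IsColimit.coconePointUniqueUpToIso (cokernelIsCokernel _) hex.gIsCokernel
  have c2 : cokernel ((T ⋙ G).map (sesInj N).g) ≅
      cokernel (((T ⋙ G).rightDerived 0).map (sesInj N).g) :=
    cokernel.mapIso _ _ (asIso ((T ⋙ G).toRightDerivedZero.app _))
      (asIso ((T ⋙ G).toRightDerivedZero.app _))
      ((T ⋙ G).toRightDerivedZero.naturality _)
  have c3 : cokernel (G.map (T.map (sesInj N).g)) ≅
      cokernel (G.map ((T.rightDerived 0).map (sesInj N).g)) :=
    cokernel.mapIso _ _ (G.mapIso (asIso (T.toRightDerivedZero.app _)))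
      (G.mapIso (asIso (T.toRightDerivedZero.app _)))
      (by
        show G.map _ ≫ G.map _ = G.map _ ≫ G.map _
        rw [← G.map_comp, ← G.map_comp]
        exact congrArg G.map (T.toRightDerivedZero.naturality _))
  exact ⟨c1.symm ≪≫ c2.symm ≪≫ c3 ≪≫ e.symm⟩

include hT in
/-- **Degenerate Grothendieck spectral sequence.** -/
theorem nonempty_rightDerived_comp_iso : ∀ (i : ℕ) (N : 𝒜),
    (∀ q : ℕ, q ≤ i → Acyclic G ((T.rightDerived q).obj N)) →
    Nonempty (((T ⋙ G).rightDerived i).obj N ≅ G.obj ((T.rightDerived i).obj N))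
  | 0, N, _ => step_zero T G N
  | 1, N, h => step_one T G hT N (h 0 (by omega)) (h 1 le_rfl)
  | (i + 2), N, h => by
    have hS := sesInj_shortExact N
    have h' : ∀ q : ℕ, q ≤ i + 1 → Acyclic G ((T.rightDerived q).obj (sesInj N).X₃) := by
      intro q hq
      rcases q with _ | q
      · exact (key T G hT N (h 0 (by omega)) (h 1 (by omega))).1
      · haveI := isIso_δ T N q
        exact (h (q + 2) (by omega)).of_iso
          (asIso ((derivedLES T).δ (sesInj N) hS (q + 1) (q + 2) rfl)).symm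
    obtain ⟨e⟩ := nonempty_rightDerived_comp_iso (i + 1) (sesInj N).X₃ h'
    have i1 : IsIso ((derivedLES (T ⋙ G)).δ (sesInj N) hS (i + 1) (i + 2) rfl) :=
      isIso_δ (T ⋙ G) N i
    have i2 : IsIso ((derivedLES T).δ (sesInj N) hS (i + 1) (i + 2) rfl) := isIso_δ T N i
    exact ⟨(@asIso _ _ _ _ _ i1).symm ≪≫ e ≪≫ G.mapIso (@asIso _ _ _ _ _ i2)⟩

end Main2
end Groth.Agent.Lib.DegenCompH4
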