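import Mathlib
import Groth.Prelude
import Groth.Agent.Lib.DegenComp_helper4
import Groth.Agent.Lib.ModLocGlob2_helper2

/-!
# Local-to-global Ext in the degenerate case (helper4)

On a ringed site: if the Ext sheaves `ℰxt^q(M, N)`, `q ≤ i`, are acyclic for global sections then
`Ext^i(M, N) ≅ Γ(ℰxt^i(M, N))` (as abelian groups).
APPEND-ONLY once landed.
-/

set_option autoImplicit false
universe u
open CategoryTheory CategoryTheory.Limits Opposite Abelian

namespace Groth.Agent.Lib.LocGlobExtH4

open ModSite Groth.Agent.Lib.ModSiteH8 Groth.Agent.Lib.FunctorialInjective Groth.Agent.Lib.ModFree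
open Groth.Agent.Lib.DegenCompH4

variable {C : Type u} [SmallCategory C] {J : GrothendieckTopology C}
variable (O : Sheaf J CommRingCat.{u})

/-- global sections as a functor to abelian groups -/
noncomputable abbrev Γf : Mod O ⥤ AddCommGrpCat.{u} := ExtDer.hom (ModSite.unit O)

theorem nonempty_ext_iso_sections [HasInjectiveResolutions (Mod O)] [HasExt.{u} (Mod O)]
    (M N : Mod O) [HasSheafHom M] (i : ℕ)
    (h : ∀ q : ℕ, q ≤ i → ∀ p : ℕ,
      IsZero (((Γf O).rightDerived (p + 1)).obj ((ModSite.extSh M q).obj N))) :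
    Nonempty (AddCommGrpCat.of (Abelian.Ext.{u} M N i) ≅
      (Γf O).obj ((ModSite.extSh M i).obj N)) := by
  haveI : IsGrothendieckAbelian.{u} (Mod O) :=
    isGrothendieckAbelian_sheafOfModules J (ModSite.ringSh O)
  haveI : EnoughInjectives (Mod O) := inferInstance
  haveI : (sheafHom M).IsRightAdjoint := (sheafHomAdj M).isRightAdjoint
  haveI : PreservesFiniteLimits (sheafHom M) := inferInstance
  have hT : ∀ Q : Mod O, Injective Q → Acyclic (Γf O) ((sheafHom M).obj Q) :=
    fun Q hQ p => hT_sheafHom O M Q hQ (p + 1) (Nat.succ_pos p)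
  obtain ⟨e⟩ := nonempty_rightDerived_comp_iso (sheafHom M) (Γf O) hT i N (fun q hq p => h q hq p)
  obtain ⟨e'⟩ := nonempty_abut_iso O M N i
  exact ⟨e'.symm ≪≫ e⟩

end Groth.Agent.Lib.LocGlobExtH4
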