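import Mathlib
import Groth.Prelude
import Groth.Agent.Lib.DualLF5_helper4
import Groth.Agent.Lib.ExtTransfer_helper9
import Groth.Agent.Lib.SheafOfModulesGrothendieck_helper2

/-!
# Duality for finite locally free modules, part 6 (helper4)

Finite locally free modules are flat (`- ⊗ E` preserves monomorphisms), and
`Ext^i(F ⊗ E, G) ≃ Ext^i(F, G ⊗ E^∨)` for `E` finite locally free.
APPEND-ONLY once landed.
-/

set_option autoImplicit false
set_option linter.style.haveILetI false
universe u
open CategoryTheory Limits Opposite AlgebraicGeometry TopologicalSpace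

namespace Groth.Agent.Lib.DualLFH4
open ModSite Groth.Agent.Lib.ModSiteH8 SheafHomLFH9

section Site

variable {C : Type u} [SmallCategory C] {J : GrothendieckTopology C}
variable (O : Sheaf J CommRingCat.{u})

instance sumF_preservesMono (n : ℕ) : (sumF O n).PreservesMonomorphisms where
  preserves f hf := by
    haveI : ∀ j : Fin n, Mono ((fun _ : Fin n => f) j) := fun _ => hf
    haveI : HasFiniteBiproducts (Mod O) := Abelian.hasFiniteBiproducts
    exact Limits.Sigma.map_mono (fun _ : Fin n => f)

/-- tensoring with a free module of finite rank preserves monomorphisms -/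
theorem flip_preservesMono_of_iso_free (B : Mod O) (n : ℕ)
    (e : B ≅ ∐ fun _ : Fin n => ModSite.unit O) :
    ((tensorBi O).flip.obj B).PreservesMonomorphisms :=
  Functor.PreservesMonomorphisms.of_iso
    (tensorFreeIso O n ≪≫ (tensorBi O).flip.mapIso e.symm)

end Site

variable {X : Scheme.{u}}

/-- **Finite locally free modules are flat**: `- ⊗ E` preserves monomorphisms. -/
theorem flip_preservesMono_of_isFinLocFree (E : X.Modules) (hE : FlatMod.IsFinLocFree E) :
    ((tensorBi X.sheaf).flip.obj E).PreservesMonomorphisms := by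
  constructor
  intro M M' f hf
  apply Abelian.mono_of_kernel_ι_eq_zero
  apply eq_zero_of_restr
  intro x
  obtain ⟨U, n, hxU, ⟨α⟩⟩ := hE x
  refine ⟨U, hxU, ?_⟩
  obtain ⟨e⟩ := nonempty_over_iso_free U E n α
  haveI := flip_preservesMono_of_iso_free (X.sheaf.over U) ((restr X.sheaf U).obj E) n e
  let η := restrTensorNatIso X.sheaf U E
  have hmono : Mono ((restr X.sheaf U).map (((tensorBi X.sheaf).flip.obj E).map f)) := by
    have h1 := η.hom.naturality f
    have h2 : (restr X.sheaf U).map (((tensorBi X.sheaf).flip.obj E).map f) =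
        η.hom.app M ≫ ((tensorBi (X.sheaf.over U)).flip.obj ((restr X.sheaf U).obj E)).map
          ((restr X.sheaf U).map f) ≫ η.inv.app M' := by
      rw [← Category.assoc]
      erw [← h1]
      rw [Category.assoc, Iso.hom_inv_id_app, Category.comp_id]
      rfl
    rw [h2]
    haveI : Mono ((restr X.sheaf U).map f) := by
      haveI : (restr X.sheaf U).IsRightAdjoint := inferInstance
      infer_instance
    haveI h3 : Mono (((tensorBi (X.sheaf.over U)).flip.obj ((restr X.sheaf U).obj E)).map
        ((restr X.sheaf U).map f)) := Functor.map_mono _ _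
    haveI h4 : Mono (((tensorBi (X.sheaf.over U)).flip.obj ((restr X.sheaf U).obj E)).map
        ((restr X.sheaf U).map f) ≫ η.inv.app M') := mono_comp _ _
    exact mono_comp _ _
  rw [← cancel_mono ((restr X.sheaf U).map (((tensorBi X.sheaf).flip.obj E).map f)),
    ← Functor.map_comp, kernel.condition, Functor.map_zero, zero_comp]

section ExtIso

universe w
variable {D : Type*} [Category D] [Abelian D] [HasExt.{w} D]

open Abelian in
/-- `Ext` groups are invariant under isomorphisms of the second variable -/
noncomputable def extAddEquivOfIso {A B B' : D} (e : B ≅ B') (n : ℕ) : Ext A B n ≃+ Ext A B' n where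
  toFun x := x.comp (Ext.mk₀ e.hom) (add_zero n)
  invFun y := y.comp (Ext.mk₀ e.inv) (add_zero n)
  left_inv x := by simp
  right_inv y := by simp
  map_add' x y := Ext.add_comp _ _ _ _

end ExtIso

/-- S15514 -/
theorem ext_tensor_addEquiv (E : X.Modules) (hE : FlatMod.IsFinLocFree E) (F G : X.Modules)
    [HasSheafHom (O := X.sheaf) E] [HasExt.{u} X.Modules] (i : ℕ) :
    Nonempty (Abelian.Ext (CohB1.tensorMod F E) G i ≃+
      Abelian.Ext F (CohB1.tensorMod G
        ((ModSite.sheafHom (O := X.sheaf) E).obj (Coh.structureModule X))) i) := by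
  haveI : IsGrothendieckAbelian.{u} X.Modules :=
    Groth.Agent.Lib.FunctorialInjective.isGrothendieckAbelian_sheafOfModules
      (Opens.grothendieckTopology X) X.ringCatSheaf
  haveI : EnoughInjectives (ModSite.Mod X.sheaf) :=
    (inferInstance : EnoughInjectives X.Modules)
  haveI : HasExt.{u} (ModSite.Mod X.sheaf) := ‹HasExt.{u} X.Modules›
  haveI := sheafHom_preservesFiniteColimits E hE
  haveI := sheafHom_preservesFiniteLimits E
  haveI := flip_preservesMono_of_isFinLocFree E hE
  obtain ⟨e1⟩ := ExtTransferH9.nonempty_addEquiv (sheafHom (O := X.sheaf) E)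
    (((tensorBi X.sheaf).flip.obj E).obj F) F
    (fun G' => (sheafHomAdj (O := X.sheaf) E).homAddEquiv F G')
    (fun {F₁ F₂} a φ => (sheafHomAdj (O := X.sheaf) E).homEquiv_naturality_right a φ)
    (fun I hI n ξ => by
      haveI := hI
      haveI : Injective ((sheafHom (O := X.sheaf) E).obj I) :=
        Injective.injective_of_adjoint (sheafHomAdj (O := X.sheaf) E) I
      exact Abelian.Ext.eq_zero_of_injective ξ) i G
  exact ⟨e1.trans (extAddEquivOfIso ((sheafHomDualIso E hE).app G).symm i)⟩

end Groth.Agent.Lib.DualLFH4
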