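import Groth.Agent.Lib.LimModAlg1_helper2

/-!
# Linear maps over a filtered colimit of rings, elementwise (helper2)

Continuation of `LimModAlg1_helper2`: descent of equalities, surjectivity, bijectivity and
projectivity of base-changed linear maps to a finite stage (EGA IV 8.5.2, algebraic core).
APPEND-ONLY once landed.
-/

set_option autoImplicit false
set_option maxHeartbeats 1000000
set_option linter.style.haveILetI false
set_option linter.unusedSectionVars false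
set_option linter.unusedVariables false
universe u

open CategoryTheory TensorProduct

namespace Groth.Agent.Lib.LimMod

section Alg2

variable {J : Type u} [SmallCategory J] {R₀ : Type u} [CommRing R₀]
  {R : J → Type u} [∀ j, CommRing (R j)] [∀ j, Algebra R₀ (R j)]
  {tr : ∀ {k j : J}, (k ⟶ j) → (R j →ₐ[R₀] R k)}
  {Rinf : Type u} [CommRing Rinf] [Algebra R₀ Rinf] {sg : ∀ j, R j →ₐ[R₀] Rinf}

theorem trT_tmul (P : Type u) [AddCommGroup P] [Module R₀ P] {k j : J} (f : k ⟶ j) (r : R j)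
    (p : P) : trT tr P f (r ⊗ₜ p) = tr f r ⊗ₜ p := rfl

theorem sgT_tmul (P : Type u) [AddCommGroup P] [Module R₀ P] (j : J) (r : R j)
    (p : P) : sgT sg P j (r ⊗ₜ p) = sg j r ⊗ₜ p := rfl

theorem trT_one_tmul (P : Type u) [AddCommGroup P] [Module R₀ P] {k j : J} (f : k ⟶ j)
    (p : P) : trT tr P f ((1 : R j) ⊗ₜ p) = (1 : R k) ⊗ₜ p := by
  rw [trT_tmul, map_one]

theorem sgT_one_tmul (P : Type u) [AddCommGroup P] [Module R₀ P] (j : J)
    (p : P) : sgT sg P j ((1 : R j) ⊗ₜ p) = (1 : Rinf) ⊗ₜ p := by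
  rw [sgT_tmul, map_one]

variable (h : IsColimSys R tr Rinf sg) [IsCofiltered J]
include h

/-- Two linear maps from a finite module into a stage which agree in the colimit agree at a later
stage. -/
theorem exists_trT_comp_eq {M P : Type u} [AddCommGroup M] [Module R₀ M] [Module.Finite R₀ M]
    [AddCommGroup P] [Module R₀ P] (j : J) (a b : M →ₗ[R₀] R j ⊗[R₀] P)
    (hab : ∀ m, sgT sg P j (a m) = sgT sg P j (b m)) :
    ∃ (k : J) (f : k ⟶ j), ∀ m, trT tr P f (a m) = trT tr P f (b m) := by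
  classical
  obtain ⟨S, hS⟩ := (Module.Finite.fg_top (R := R₀) (M := M))
  obtain ⟨k, f, hk⟩ := exists_trT_eq_zero_finset h P j (S.image (fun m => a m - b m)) (by
    intro z hz
    obtain ⟨m, -, rfl⟩ := Finset.mem_image.mp hz
    rw [map_sub, hab m, sub_self])
  refine ⟨k, f, fun m => ?_⟩
  have key : (trT tr P f) ∘ₗ a = (trT tr P f) ∘ₗ b := by
    apply LinearMap.ext_on hS
    intro m hm
    have h1 := hk _ (Finset.mem_image.mpr ⟨m, Finset.mem_coe.mp hm, rfl⟩)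
    rw [map_sub, sub_eq_zero] at h1
    exact h1
  exact LinearMap.congr_fun key m

/-- Finite families of elements of `Rinf ⊗ P` come from a common stage. -/
theorem exists_sgT_eq_fin (P : Type u) [AddCommGroup P] [Module R₀ P] (n : ℕ)
    (y : Fin n → Rinf ⊗[R₀] P) :
    ∃ (j : J) (y' : Fin n → R j ⊗[R₀] P), ∀ i, sgT sg P j (y' i) = y i := by
  induction n with
  | zero => exact ⟨(IsCofiltered.nonempty (C := J)).some, fun i => i.elim0, fun i => i.elim0⟩
  | succ n ih =>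
    obtain ⟨j₁, y₁, h₁⟩ := ih (Fin.tail y)
    obtain ⟨j₂, a, ha⟩ := exists_sgT_eq h P (y 0)
    refine ⟨IsCofiltered.min j₁ j₂,
      Fin.cons (α := fun _ => R (IsCofiltered.min j₁ j₂) ⊗[R₀] P)
        (trT tr P (IsCofiltered.minToRight j₁ j₂) a)
        (fun i => trT tr P (IsCofiltered.minToLeft j₁ j₂) (y₁ i)), ?_⟩
    intro i
    refine Fin.cases ?_ (fun i => ?_) i
    · rw [Fin.cons_zero, sgT_trT h, ha]
    · rw [Fin.cons_succ, sgT_trT h, h₁]
      rfl

/-- **Lifting maps from a finitely presented module.** A linear map from a finitely presented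
module to `Rinf ⊗ P` factors through a stage. -/
theorem exists_lift_of_fp {M P : Type u} [AddCommGroup M] [Module R₀ M]
    [Module.FinitePresentation R₀ M] [AddCommGroup P] [Module R₀ P]
    (b : M →ₗ[R₀] Rinf ⊗[R₀] P) :
    ∃ (j : J) (b' : M →ₗ[R₀] R j ⊗[R₀] P), ∀ m, sgT sg P j (b' m) = b m := by
  classical
  obtain ⟨n, K, e, hK⟩ := Module.FinitePresentation.exists_fin R₀ M
  obtain ⟨bt, hbt⟩ : ∃ bt : (Fin n → R₀) →ₗ[R₀] Rinf ⊗[R₀] P,
      ∀ x, bt x = b (e.symm (K.mkQ x)) :=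
    ⟨b ∘ₗ e.symm.toLinearMap ∘ₗ K.mkQ, fun x => rfl⟩
  obtain ⟨j, y', hy'⟩ :=
    exists_sgT_eq_fin h P n (fun i => bt (fun l => if i = l then 1 else 0))
  obtain ⟨bt', hbt'⟩ : ∃ bt' : (Fin n → R₀) →ₗ[R₀] R j ⊗[R₀] P,
      ∀ x, bt' x = ∑ i, x i • y' i :=
    ⟨Fintype.linearCombination R₀ y', fun x => Fintype.linearCombination_apply R₀ y' x⟩
  have h1 : ∀ x, sgT sg P j (bt' x) = bt x := by
    intro x
    rw [hbt', map_sum, LinearMap.pi_apply_eq_sum_univ bt x]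
    refine Finset.sum_congr rfl (fun i _ => ?_)
    rw [map_smul, hy']
  obtain ⟨S, hS⟩ := hK
  have h2 : ∀ z ∈ S.image bt', sgT sg P j z = 0 := by
    intro z hz
    obtain ⟨ρ, hρ, rfl⟩ := Finset.mem_image.mp hz
    have hρK : ρ ∈ K := hS ▸ Submodule.subset_span (Finset.mem_coe.mpr hρ)
    rw [h1, hbt, Submodule.mkQ_apply, (Submodule.Quotient.mk_eq_zero K).mpr hρK, map_zero,
      map_zero]
  obtain ⟨k, f, hk⟩ := exists_trT_eq_zero_finset h P j _ h2
  have hKle : K ≤ LinearMap.ker ((trT tr P f) ∘ₗ bt') := by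
    rw [← hS, Submodule.span_le]
    intro ρ hρ
    exact hk _ (Finset.mem_image.mpr ⟨ρ, Finset.mem_coe.mp hρ, rfl⟩)
  refine ⟨k, (K.liftQ _ hKle) ∘ₗ e.toLinearMap, fun m => ?_⟩
  obtain ⟨x, hx⟩ := K.mkQ_surjective (e m)
  have hxm : e.symm (K.mkQ x) = m := by rw [hx, e.symm_apply_apply]
  change sgT sg P k (K.liftQ _ hKle (e m)) = b m
  rw [← hx, Submodule.mkQ_apply, Submodule.liftQ_apply, LinearMap.comp_apply, sgT_trT h, h1, hbt,
    hxm]

/-- **Descent of equality (EGA IV 8.5.2 (i), injectivity).** -/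
theorem exists_one_tmul_eq {M N : Type u} [AddCommGroup M] [Module R₀ M] [Module.Finite R₀ M]
    [AddCommGroup N] [Module R₀ N] (u v : M →ₗ[R₀] N)
    (huv : ∀ m, (1 : Rinf) ⊗ₜ[R₀] u m = (1 : Rinf) ⊗ₜ[R₀] v m) :
    ∃ k : J, ∀ (k' : J) (g : k' ⟶ k) (m : M), (1 : R k') ⊗ₜ[R₀] u m = (1 : R k') ⊗ₜ[R₀] v m := by
  obtain ⟨j₀⟩ := IsCofiltered.nonempty (C := J)
  obtain ⟨k, f, hk⟩ := exists_trT_comp_eq h j₀ ((TensorProduct.mk R₀ (R j₀) N 1) ∘ₗ u)
    ((TensorProduct.mk R₀ (R j₀) N 1) ∘ₗ v) (fun m => by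
      change sgT sg N j₀ ((1 : R j₀) ⊗ₜ u m) = sgT sg N j₀ ((1 : R j₀) ⊗ₜ v m)
      rw [sgT_one_tmul, sgT_one_tmul, huv])
  refine ⟨k, fun k' g m => ?_⟩
  have h1 : trT tr N f ((1 : R j₀) ⊗ₜ u m) = trT tr N f ((1 : R j₀) ⊗ₜ v m) := hk m
  rw [trT_one_tmul, trT_one_tmul] at h1
  have h2 := congrArg (trT tr N g) h1
  rw [trT_one_tmul, trT_one_tmul] at h2
  exact h2

/-- **Descent of surjectivity (EGA IV 8.5.2, surjectivity of a homomorphism).** -/
theorem exists_lTensor_surjective {M N : Type u} [AddCommGroup M] [Module R₀ M]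
    [AddCommGroup N] [Module R₀ N] [Module.Finite R₀ N] (u : M →ₗ[R₀] N)
    (hu : Function.Surjective (u.lTensor Rinf)) :
    ∃ k : J, ∀ (k' : J) (g : k' ⟶ k), Function.Surjective (u.lTensor (R k')) := by
  classical
  obtain ⟨n, s, hs⟩ := Module.Finite.exists_fin (R := R₀) (M := N)
  choose w hw using fun i : Fin n => hu ((1 : Rinf) ⊗ₜ[R₀] s i)
  obtain ⟨j, w', hw'⟩ := exists_sgT_eq_fin h M n w
  have h2 : ∀ z ∈ (Finset.univ : Finset (Fin n)).image
      (fun i => u.lTensor (R j) (w' i) - (1 : R j) ⊗ₜ[R₀] s i), sgT sg N j z = 0 := by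
    intro z hz
    obtain ⟨i, -, rfl⟩ := Finset.mem_image.mp hz
    have e1 : sgT sg N j (u.lTensor (R j) (w' i)) = u.lTensor Rinf (sgT sg M j (w' i)) :=
      sgT_lTensor u j (w' i)
    rw [map_sub, e1, hw', hw, sgT_one_tmul, sub_self]
  obtain ⟨k, f, hk⟩ := exists_trT_eq_zero_finset h N j _ h2
  refine ⟨k, fun k' g => ?_⟩
  have h3 : ∀ i, (1 : R k') ⊗ₜ[R₀] s i ∈ LinearMap.range (u.baseChange (R k')) := by
    intro i
    have h4 := hk _ (Finset.mem_image.mpr ⟨i, Finset.mem_univ i, rfl⟩)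
    rw [map_sub, sub_eq_zero, trT_one_tmul] at h4
    have e2 : trT tr N f (u.lTensor (R j) (w' i)) = u.lTensor (R k) (trT tr M f (w' i)) :=
      trT_lTensor u f (w' i)
    rw [e2] at h4
    have h5 := congrArg (trT tr N g) h4
    have e3 : trT tr N g (u.lTensor (R k) (trT tr M f (w' i))) =
        u.lTensor (R k') (trT tr M g (trT tr M f (w' i))) := trT_lTensor u g _
    rw [e3, trT_one_tmul] at h5
    refine ⟨trT tr M g (trT tr M f (w' i)), ?_⟩
    rw [LinearMap.baseChange_eq_ltensor]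
    exact h5
  have h6 : LinearMap.range (u.baseChange (R k')) = ⊤ := by
    rw [eq_top_iff, ← Submodule.baseChange_top (R k'), ← hs, Submodule.baseChange_span,
      Submodule.span_le]
    rintro _ ⟨_, ⟨i, rfl⟩, rfl⟩
    exact h3 i
  have h7 : Function.Surjective (u.baseChange (R k')) := LinearMap.range_eq_top.mp h6
  rw [LinearMap.baseChange_eq_ltensor] at h7
  exact h7

/-- **Descent of bijectivity (EGA IV 8.5.2 (i) for isomorphisms).** -/
theorem exists_lTensor_bijective {M N : Type u} [AddCommGroup M] [Module R₀ M]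
    [Module.Finite R₀ M] [AddCommGroup N] [Module R₀ N] [Module.FinitePresentation R₀ N]
    (u : M →ₗ[R₀] N) (hu : Function.Bijective (u.lTensor Rinf)) :
    ∃ k : J, ∀ (k' : J) (g : k' ⟶ k), Function.Bijective (u.lTensor (R k')) := by
  classical
  have hu' : Function.Bijective (u.baseChange Rinf) := by
    rw [LinearMap.baseChange_eq_ltensor]
    exact hu
  obtain ⟨E, hE⟩ : ∃ E : Rinf ⊗[R₀] M ≃ₗ[Rinf] Rinf ⊗[R₀] N, ∀ x, E x = u.lTensor Rinf x :=
    ⟨LinearEquiv.ofBijective (u.baseChange Rinf) hu', fun x => by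
      rw [LinearEquiv.ofBijective_apply, LinearMap.baseChange_eq_ltensor]⟩
  obtain ⟨binf, hbinf⟩ : ∃ binf : N →ₗ[R₀] Rinf ⊗[R₀] M,
      ∀ n, binf n = E.symm ((1 : Rinf) ⊗ₜ[R₀] n) :=
    ⟨(E.symm.toLinearMap.restrictScalars R₀) ∘ₗ (TensorProduct.mk R₀ Rinf N 1), fun n => rfl⟩
  have hb1 : ∀ n, u.lTensor Rinf (binf n) = (1 : Rinf) ⊗ₜ[R₀] n := by
    intro n
    rw [hbinf, ← hE, E.apply_symm_apply]
  have hb2 : ∀ m, binf (u m) = (1 : Rinf) ⊗ₜ[R₀] m := by
    intro m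
    rw [hbinf]
    have h1 : (1 : Rinf) ⊗ₜ[R₀] u m = E ((1 : Rinf) ⊗ₜ[R₀] m) := by
      rw [hE, LinearMap.lTensor_tmul]
    rw [h1, E.symm_apply_apply]
  haveI : Module.Finite R₀ N := inferInstance
  obtain ⟨j, b, hb⟩ := exists_lift_of_fp h binf
  obtain ⟨k₁, f₁, hk₁⟩ := exists_trT_comp_eq h j ((u.lTensor (R j)) ∘ₗ b)
    (TensorProduct.mk R₀ (R j) N 1) (fun n => by
      change sgT sg N j (u.lTensor (R j) (b n)) = sgT sg N j ((1 : R j) ⊗ₜ n)
      have e1 : sgT sg N j (u.lTensor (R j) (b n)) = u.lTensor Rinf (sgT sg M j (b n)) :=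
        sgT_lTensor u j (b n)
      rw [e1, hb, hb1, sgT_one_tmul])
  obtain ⟨k₂, f₂, hk₂⟩ := exists_trT_comp_eq h j (b ∘ₗ u)
    (TensorProduct.mk R₀ (R j) M 1) (fun m => by
      change sgT sg M j (b (u m)) = sgT sg M j ((1 : R j) ⊗ₜ m)
      rw [hb, hb2, sgT_one_tmul])
  obtain ⟨k, g₁, g₂, hg⟩ := IsCofiltered.cospan f₁ f₂
  refine ⟨k, fun k' g => ?_⟩
  obtain ⟨b', hb'⟩ : ∃ b' : N →ₗ[R₀] R k' ⊗[R₀] M, ∀ n, b' n = trT tr M (g ≫ g₁ ≫ f₁) (b n) :=
    ⟨(trT tr M (g ≫ g₁ ≫ f₁)) ∘ₗ b, fun n => rfl⟩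
  have hi : ∀ n, u.lTensor (R k') (b' n) = (1 : R k') ⊗ₜ[R₀] n := by
    intro n
    have e2 : trT tr N (g ≫ g₁ ≫ f₁) (u.lTensor (R j) (b n)) =
        u.lTensor (R k') (trT tr M (g ≫ g₁ ≫ f₁) (b n)) := trT_lTensor u _ (b n)
    rw [hb', ← e2, ← Category.assoc, trT_comp h]
    have h3 : trT tr N f₁ (u.lTensor (R j) (b n)) = trT tr N f₁ ((1 : R j) ⊗ₜ n) := hk₁ n
    rw [h3, trT_one_tmul, trT_one_tmul]
  have hii : ∀ m, b' (u m) = (1 : R k') ⊗ₜ[R₀] m := by
    intro m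
    rw [hb', hg, ← Category.assoc, trT_comp h]
    have h3 : trT tr M f₂ (b (u m)) = trT tr M f₂ ((1 : R j) ⊗ₜ m) := hk₂ m
    rw [h3, trT_one_tmul, trT_one_tmul]
  have hlin : ∀ (r : R k') (x : R k' ⊗[R₀] M), u.lTensor (R k') (r • x) =
      r • u.lTensor (R k') x := by
    intro r x
    rw [← LinearMap.baseChange_eq_ltensor, map_smul]
  rw [Function.bijective_iff_has_inverse]
  refine ⟨LinearMap.liftBaseChange (R k') b', ?_, ?_⟩
  · intro x
    induction x with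
    | zero => rw [map_zero, map_zero]
    | tmul r m =>
      rw [LinearMap.lTensor_tmul, LinearMap.liftBaseChange_tmul, hii, TensorProduct.smul_tmul',
        smul_eq_mul, mul_one]
    | add x y hx hy => rw [map_add, map_add, hx, hy]
  · intro y
    induction y with
    | zero => rw [map_zero, map_zero]
    | tmul r n =>
      rw [LinearMap.liftBaseChange_tmul, hlin, hi, TensorProduct.smul_tmul', smul_eq_mul,
        mul_one]
    | add x y hx hy => rw [map_add, map_add, hx, hy]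

/-- **Descent of projectivity (EGA IV 8.5.5, algebraic core).** -/
theorem exists_projective {M : Type u} [AddCommGroup M] [Module R₀ M]
    [Module.FinitePresentation R₀ M] (hM : Module.Projective Rinf (Rinf ⊗[R₀] M)) :
    ∃ k : J, ∀ (k' : J) (g : k' ⟶ k), Module.Projective (R k') (R k' ⊗[R₀] M) := by
  classical
  obtain ⟨n, π, hπ⟩ := Module.Finite.exists_fin' R₀ M
  have hπ' : Function.Surjective (π.baseChange Rinf) := by
    rw [LinearMap.baseChange_eq_ltensor]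
    exact LinearMap.lTensor_surjective _ hπ
  obtain ⟨s, hs⟩ := Module.projective_lifting_property (π.baseChange Rinf) LinearMap.id hπ'
  obtain ⟨ainf, hainf⟩ : ∃ ainf : M →ₗ[R₀] Rinf ⊗[R₀] (Fin n → R₀),
      ∀ m, ainf m = s ((1 : Rinf) ⊗ₜ[R₀] m) :=
    ⟨(s.restrictScalars R₀) ∘ₗ (TensorProduct.mk R₀ Rinf M 1), fun m => rfl⟩
  have ha : ∀ m, π.lTensor Rinf (ainf m) = (1 : Rinf) ⊗ₜ[R₀] m := by
    intro m
    rw [hainf, ← LinearMap.baseChange_eq_ltensor]
    exact LinearMap.congr_fun hs _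
  obtain ⟨j, a, haj⟩ := exists_lift_of_fp h ainf
  obtain ⟨k, f, hk⟩ := exists_trT_comp_eq h j ((π.lTensor (R j)) ∘ₗ a)
    (TensorProduct.mk R₀ (R j) M 1) (fun m => by
      change sgT sg M j (π.lTensor (R j) (a m)) = sgT sg M j ((1 : R j) ⊗ₜ m)
      have e1 : sgT sg M j (π.lTensor (R j) (a m)) = π.lTensor Rinf (sgT sg _ j (a m)) :=
        sgT_lTensor π j (a m)
      rw [e1, haj, ha, sgT_one_tmul])
  refine ⟨k, fun k' g => ?_⟩
  obtain ⟨a', ha'⟩ : ∃ a' : M →ₗ[R₀] R k' ⊗[R₀] (Fin n → R₀),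
      ∀ m, a' m = trT tr _ (g ≫ f) (a m) :=
    ⟨(trT tr _ (g ≫ f)) ∘ₗ a, fun m => rfl⟩
  have hi : ∀ m, π.lTensor (R k') (a' m) = (1 : R k') ⊗ₜ[R₀] m := by
    intro m
    have e2 : trT tr M (g ≫ f) (π.lTensor (R j) (a m)) =
        π.lTensor (R k') (trT tr _ (g ≫ f) (a m)) := trT_lTensor π _ (a m)
    rw [ha', ← e2, trT_comp h]
    have h3 : trT tr M f (π.lTensor (R j) (a m)) = trT tr M f ((1 : R j) ⊗ₜ m) := hk m
    rw [h3, trT_one_tmul, trT_one_tmul]
  refine Module.Projective.of_split (LinearMap.liftBaseChange (R k') a') (π.baseChange (R k')) ?_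
  apply TensorProduct.AlgebraTensorModule.ext
  intro r m
  rw [LinearMap.comp_apply, LinearMap.liftBaseChange_tmul, map_smul,
    LinearMap.baseChange_eq_ltensor, hi, TensorProduct.smul_tmul', smul_eq_mul, mul_one]
  rfl

end Alg2

end Groth.Agent.Lib.LimMod
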