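import Groth.Agent.Lib.LimModChart_helper2
import Groth.Agent.Lib.LimModAlg2_helper2
import Groth.Agent.Lib.LimModDict_helper2
import Groth.Agent.Lib.QCohFT_helper9
import Groth.Agent.Lib.QCohFP2_helper9
import Groth.Agent.Lib.QCohExact_helper9

/-!
# The chart ring system of a limit of schemes and descent of module properties to a stage (helper2)

EGA IV 8.5.2: the (⇒) directions, in "eventual" form over `Over i₀`.
APPEND-ONLY once landed.
-/

set_option autoImplicit false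
set_option maxHeartbeats 1000000
set_option linter.style.haveILetI false
set_option linter.unusedSectionVars false
set_option linter.unusedVariables false
universe u

open CategoryTheory CategoryTheory.Limits AlgebraicGeometry TopologicalSpace Opposite TensorProduct

namespace Groth.Agent.Lib.LimMod

section Sys

variable {I : Type u} [SmallCategory I] (D : I ⥤ Scheme.{u}) (c : Cone D)
  (i₀ : I) (U₀ : (D.obj i₀).Opens)

/-- The algebra structure of a stage ring over the base ring. -/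
@[reducible] noncomputable def algR (j : Over i₀) :
    Algebra Γ(D.obj i₀, U₀) Γ(D.obj j.left, Uj D i₀ U₀ j) := (rh D i₀ U₀ j).hom.toAlgebra

/-- The algebra structure of the limit ring over the base ring. -/
@[reducible] noncomputable def algRinf :
    Algebra Γ(D.obj i₀, U₀) Γ(c.pt, Uinf D c i₀ U₀) := (rhinf D c i₀ U₀).hom.toAlgebra

attribute [local instance] algR algRinf

/-- Transition maps as algebra homomorphisms. -/
noncomputable def trA {k j : Over i₀} (f : k ⟶ j) :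
    Γ(D.obj j.left, Uj D i₀ U₀ j) →ₐ[Γ(D.obj i₀, U₀)] Γ(D.obj k.left, Uj D i₀ U₀ k) :=
  { (tr D i₀ U₀ f).hom with
    commutes' := fun r => congrArg (fun φ => φ.hom r) (rh_tr D i₀ U₀ f) }

/-- Maps to the limit ring as algebra homomorphisms. -/
noncomputable def sgA (j : Over i₀) :
    Γ(D.obj j.left, Uj D i₀ U₀ j) →ₐ[Γ(D.obj i₀, U₀)] Γ(c.pt, Uinf D c i₀ U₀) :=
  { (sg D c i₀ U₀ j).hom with
    commutes' := fun r => congrArg (fun φ => φ.hom r) (rh_sg D c i₀ U₀ j) }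

variable [IsCofiltered I] (hc : IsLimit c) [∀ (i j : I) (f : i ⟶ j), IsAffineHom (D.map f)]

include hc in
/-- The chart rings form a filtered colimit system, elementwise. -/
theorem isColimSys (hU₀ : IsAffineOpen U₀) :
    IsColimSys (fun j : Over i₀ => Γ(D.obj j.left, Uj D i₀ U₀ j))
      (fun {k j} f => trA D i₀ U₀ f) Γ(c.pt, Uinf D c i₀ U₀) (fun j => sgA D c i₀ U₀ j) where
  tr_comp g f t := congrArg (fun φ => φ.hom t) (tr_comp D i₀ U₀ g f)
  sg_tr f t := congrArg (fun φ => φ.hom t) (tr_sg D c i₀ U₀ f)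
  surj r := exists_sg_eq D c i₀ U₀ hc hU₀ r
  ker j t ht := exists_tr_eq_zero D c i₀ U₀ hc hU₀ j t ht

omit [IsCofiltered I] [∀ (i j : I) (f : i ⟶ j), IsAffineHom (D.map f)] in
/-- A property holding eventually on every affine chart holds eventually on a whole finite affine
cover. -/
theorem exists_common_stage [IsCofiltered I] [CompactSpace (D.obj i₀)]
    (P : (D.obj i₀).Opens → Over i₀ → Prop)
    (hP : ∀ U₀ : (D.obj i₀).Opens, IsAffineOpen U₀ →
      ∃ k : Over i₀, ∀ (k' : Over i₀) (g : k' ⟶ k), P U₀ k') :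
    ∃ k : Over i₀, ∀ (k' : Over i₀) (g : k' ⟶ k) (x : D.obj k'.left),
      ∃ U₀ : (D.obj i₀).Opens, IsAffineOpen U₀ ∧ x ∈ Uj D i₀ U₀ k' ∧ P U₀ k' := by
  classical
  haveI : Nonempty (Over i₀) := ⟨Over.mk (𝟙 i₀)⟩
  obtain ⟨Us, hUsB, hUsfin, hUs⟩ :=
    (Scheme.isBasis_affineOpens (D.obj i₀)).exists_finite_of_isCompact
      (U := (⊤ : (D.obj i₀).Opens)) isCompact_univ
  choose! kU hkU using hP
  obtain ⟨k, hk⟩ := IsCofiltered.inf_objs_exists (hUsfin.toFinset.image kU)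
  refine ⟨k, fun k' g x => ?_⟩
  have hx : (D.map k'.hom) x ∈ (⊤ : (D.obj i₀).Opens) := trivial
  rw [hUs] at hx
  obtain ⟨U₀, hU₀, hxU₀⟩ := Opens.mem_sSup.mp hx
  obtain ⟨g'⟩ := hk (Finset.mem_image.mpr ⟨U₀, hUsfin.mem_toFinset.mpr hU₀, rfl⟩)
  exact ⟨U₀, hUsB hU₀, hxU₀, hkU U₀ (hUsB hU₀) k' (g ≫ g')⟩

section Charts

variable {F₀ G₀ : (D.obj i₀).Modules} [F₀.IsQuasicoherent] [G₀.IsQuasicoherent]

include hc in
/-- Chart version of the descent of equality of homomorphisms. -/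
theorem chart_eq (hU₀ : IsAffineOpen U₀)
    [SheafOfModules.IsFiniteType (R := (D.obj i₀).ringCatSheaf) F₀] (φ₀ ψ₀ : F₀ ⟶ G₀)
    (H : (Scheme.Modules.pullback (c.π.app i₀)).map φ₀ =
      (Scheme.Modules.pullback (c.π.app i₀)).map ψ₀) :
    ∃ k : Over i₀, ∀ (k' : Over i₀) (g : k' ⟶ k)
      (s : Γ((Scheme.Modules.pullback (D.map k'.hom)).obj F₀, Uj D i₀ U₀ k')),
      ((Scheme.Modules.pullback (D.map k'.hom)).map φ₀).app (Uj D i₀ U₀ k') s =
        ((Scheme.Modules.pullback (D.map k'.hom)).map ψ₀).app (Uj D i₀ U₀ k') s := by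
  haveI hA' : ∀ {i j : I} (f : i ⟶ j), IsAffineHom (D.map f) := fun f => inferInstance
  haveI := isAffineHom_π_app D c hc i₀
  have hUinf : IsAffineOpen (Uinf D c i₀ U₀) := hU₀.preimage (c.π.app i₀)
  haveI : Module.Finite Γ(D.obj i₀, U₀) Γ(F₀, U₀) := QCohFT.finite_of_isFiniteType F₀ hU₀
  have h1 := (app_eq_iff (c.π.app i₀) (le_refl _) hUinf hU₀ φ₀ ψ₀).mp (fun s => by rw [H])
  obtain ⟨k, hk⟩ := exists_one_tmul_eq (isColimSys D c i₀ U₀ hc hU₀) (SerreFT.apL φ₀ U₀)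
    (SerreFT.apL ψ₀ U₀) h1
  refine ⟨k, fun k' g => ?_⟩
  exact (app_eq_iff (D.map k'.hom) (le_refl _) (hU₀.preimage (D.map k'.hom)) hU₀ φ₀ ψ₀).mpr
    (hk k' g)

include hc in
/-- Chart version of the descent of surjectivity. -/
theorem chart_epi (hU₀ : IsAffineOpen U₀)
    [SheafOfModules.IsFiniteType (R := (D.obj i₀).ringCatSheaf) G₀] (f₀ : F₀ ⟶ G₀)
    [Epi ((Scheme.Modules.pullback (c.π.app i₀)).map f₀)] :
    ∃ k : Over i₀, ∀ (k' : Over i₀) (g : k' ⟶ k),
      Function.Surjective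
        (((Scheme.Modules.pullback (D.map k'.hom)).map f₀).app (Uj D i₀ U₀ k')) := by
  haveI hA' : ∀ {i j : I} (f : i ⟶ j), IsAffineHom (D.map f) := fun f => inferInstance
  haveI := isAffineHom_π_app D c hc i₀
  have hUinf : IsAffineOpen (Uinf D c i₀ U₀) := hU₀.preimage (c.π.app i₀)
  haveI : Module.Finite Γ(D.obj i₀, U₀) Γ(G₀, U₀) := QCohFT.finite_of_isFiniteType G₀ hU₀
  have h0 : Function.Surjective
      (((Scheme.Modules.pullback (c.π.app i₀)).map f₀).app (Uinf D c i₀ U₀)) :=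
    QCohExact.app_surjective_of_epi _ hUinf
  have h1 := (app_surjective_iff (c.π.app i₀) (le_refl _) hUinf hU₀ f₀).mp h0
  obtain ⟨k, hk⟩ := exists_lTensor_surjective (isColimSys D c i₀ U₀ hc hU₀)
    (SerreFT.apL f₀ U₀) h1
  refine ⟨k, fun k' g => ?_⟩
  exact (app_surjective_iff (D.map k'.hom) (le_refl _) (hU₀.preimage (D.map k'.hom)) hU₀ f₀).mpr
    (hk k' g)

include hc in
/-- Chart version of the descent of bijectivity. -/
theorem chart_iso (hU₀ : IsAffineOpen U₀)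
    [SheafOfModules.IsFiniteType (R := (D.obj i₀).ringCatSheaf) F₀]
    [SheafOfModules.IsFinitePresentation (R := (D.obj i₀).ringCatSheaf) G₀] (f₀ : F₀ ⟶ G₀)
    [IsIso ((Scheme.Modules.pullback (c.π.app i₀)).map f₀)] :
    ∃ k : Over i₀, ∀ (k' : Over i₀) (g : k' ⟶ k),
      Function.Bijective
        (((Scheme.Modules.pullback (D.map k'.hom)).map f₀).app (Uj D i₀ U₀ k')) := by
  haveI hA' : ∀ {i j : I} (f : i ⟶ j), IsAffineHom (D.map f) := fun f => inferInstance
  haveI := isAffineHom_π_app D c hc i₀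
  have hUinf : IsAffineOpen (Uinf D c i₀ U₀) := hU₀.preimage (c.π.app i₀)
  haveI : Module.Finite Γ(D.obj i₀, U₀) Γ(F₀, U₀) := QCohFT.finite_of_isFiniteType F₀ hU₀
  haveI : Module.FinitePresentation Γ(D.obj i₀, U₀) Γ(G₀, U₀) :=
    QCohFP2.finitePresentation_of_isFinitePresentation G₀ hU₀
  have h0 : Function.Bijective
      (((Scheme.Modules.pullback (c.π.app i₀)).map f₀).app (Uinf D c i₀ U₀)) :=
    ConcreteCategory.bijective_of_isIso _
  have h1 := (app_bijective_iff (c.π.app i₀) (le_refl _) hUinf hU₀ f₀).mp h0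
  obtain ⟨k, hk⟩ := exists_lTensor_bijective (isColimSys D c i₀ U₀ hc hU₀)
    (SerreFT.apL f₀ U₀) h1
  refine ⟨k, fun k' g => ?_⟩
  exact (app_bijective_iff (D.map k'.hom) (le_refl _) (hU₀.preimage (D.map k'.hom)) hU₀ f₀).mpr
    (hk k' g)

include hc in
/-- Chart version of the descent of projectivity. -/
theorem chart_projective (hU₀ : IsAffineOpen U₀)
    [SheafOfModules.IsFinitePresentation (R := (D.obj i₀).ringCatSheaf) F₀]
    (hfl : Module.Flat Γ(c.pt, Uinf D c i₀ U₀)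
      Γ((Scheme.Modules.pullback (c.π.app i₀)).obj F₀, Uinf D c i₀ U₀)) :
    ∃ k : Over i₀, ∀ (k' : Over i₀) (g : k' ⟶ k),
      Module.Projective Γ(D.obj k'.left, Uj D i₀ U₀ k')
        Γ((Scheme.Modules.pullback (D.map k'.hom)).obj F₀, Uj D i₀ U₀ k') := by
  haveI hA' : ∀ {i j : I} (f : i ⟶ j), IsAffineHom (D.map f) := fun f => inferInstance
  haveI := isAffineHom_π_app D c hc i₀
  have hUinf : IsAffineOpen (Uinf D c i₀ U₀) := hU₀.preimage (c.π.app i₀)
  haveI : Module.FinitePresentation Γ(D.obj i₀, U₀) Γ(F₀, U₀) :=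
    QCohFP2.finitePresentation_of_isFinitePresentation F₀ hU₀
  haveI h1 : Module.Flat Γ(c.pt, Uinf D c i₀ U₀)
      (Γ(c.pt, Uinf D c i₀ U₀) ⊗[Γ(D.obj i₀, U₀)] Γ(F₀, U₀)) :=
    flat_tensor (c.π.app i₀) (le_refl _) hUinf hU₀ F₀ hfl
  have h2 : Module.Projective Γ(c.pt, Uinf D c i₀ U₀)
      (Γ(c.pt, Uinf D c i₀ U₀) ⊗[Γ(D.obj i₀, U₀)] Γ(F₀, U₀)) :=
    Module.Flat.projective_of_finitePresentation
  obtain ⟨k, hk⟩ := exists_projective (isColimSys D c i₀ U₀ hc hU₀) (M := Γ(F₀, U₀)) h2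
  refine ⟨k, fun k' g => ?_⟩
  exact projective_sections (D.map k'.hom) (le_refl _) (hU₀.preimage (D.map k'.hom)) hU₀ F₀
    (hk k' g)

end Charts

end Sys

end Groth.Agent.Lib.LimMod
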