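import Groth.Agent.Lib.LimHomGlue_helper2
import Groth.Agent.Lib.LimModSys_helper2

/-!
# Transition maps on sections of pulled-back modules over a limit of schemes (helper2)

* `trSec`: for `a ≫ b = c`, the map `Γ(b^*F, V) → Γ(c^*F, U)` (`U ≤ a⁻¹V`);
* `exists_lin_of_semilinear`, `compat_of_gen`: linear maps out of sections of a pullback;
* `tauS`, `TrS`: the transition maps of a limit system, with the elementwise colimit properties
  `exists_TrS_eq_zero`, `tauS_TrS`, `TrS_comp`, `exists_lift_sec`.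
APPEND-ONLY once landed.
-/

set_option autoImplicit false
set_option maxHeartbeats 1000000
set_option linter.style.haveILetI false
set_option linter.unusedSectionVars false
set_option linter.unusedVariables false
universe u

open CategoryTheory CategoryTheory.Limits AlgebraicGeometry TopologicalSpace Opposite TensorProduct

namespace Groth.Agent.Lib.LimMod

section TrSec

variable {X Y Z : Scheme.{u}} (a : X ⟶ Y) (b : Y ⟶ Z) (c : X ⟶ Z) (w : a ≫ b = c)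
  (F : Z.Modules)

/-- The transition map on sections `Γ(b^*F, V) → Γ(c^*F, U)` for `a ≫ b = c`, `U ≤ a⁻¹V`. -/
noncomputable def trSec {U : X.Opens} {V : Y.Opens} (hUV : U ≤ a ⁻¹ᵁ V)
    (y : Γ((Scheme.Modules.pullback b).obj F, V)) : Γ((Scheme.Modules.pullback c).obj F, U) :=
  ((DescH8.pbIso a b c w).hom.app F).app U
    (PBH8.cUV a ((Scheme.Modules.pullback b).obj F) hUV y)

theorem trSec_add {U : X.Opens} {V : Y.Opens} (hUV : U ≤ a ⁻¹ᵁ V)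
    (y y' : Γ((Scheme.Modules.pullback b).obj F, V)) :
    trSec a b c w F hUV (y + y') = trSec a b c w F hUV y + trSec a b c w F hUV y' := by
  unfold trSec
  rw [PBH8.cUV_add, map_add]

theorem trSec_zero {U : X.Opens} {V : Y.Opens} (hUV : U ≤ a ⁻¹ᵁ V) :
    trSec a b c w F hUV 0 = 0 := by
  have h := trSec_add a b c w F hUV 0 0
  rw [add_zero] at h
  exact left_eq_add.mp h

theorem trSec_smul {U : X.Opens} {V : Y.Opens} (hUV : U ≤ a ⁻¹ᵁ V) (r : Γ(Y, V))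
    (y : Γ((Scheme.Modules.pullback b).obj F, V)) :
    trSec a b c w F hUV (r • y) = (a.appLE V U hUV r) • trSec a b c w F hUV y := by
  unfold trSec
  rw [PBH8.cUV_smul, Scheme.Modules.Hom.app_smul]

theorem trSec_sub {U : X.Opens} {V : Y.Opens} (hUV : U ≤ a ⁻¹ᵁ V)
    (y y' : Γ((Scheme.Modules.pullback b).obj F, V)) :
    trSec a b c w F hUV (y - y') = trSec a b c w F hUV y - trSec a b c w F hUV y' := by
  have h := trSec_add a b c w F hUV (y - y') y'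
  rw [sub_add_cancel] at h
  rw [h, add_sub_cancel_right]

theorem trSec_cUV {U : X.Opens} {V : Y.Opens} {W : Z.Opens} (hUV : U ≤ a ⁻¹ᵁ V)
    (hVW : V ≤ b ⁻¹ᵁ W) (hUW : U ≤ c ⁻¹ᵁ W) (p : Γ(F, W)) :
    trSec a b c w F hUV (PBH8.cUV b F hVW p) = PBH8.cUV c F hUW p :=
  pbIso_cUV a b c w F hUV hVW hUW p

theorem trSec_res {U U' : X.Opens} {V V' : Y.Opens} (hUV : U ≤ a ⁻¹ᵁ V) (hUV' : U' ≤ a ⁻¹ᵁ V')
    (hU : U' ≤ U) (hV : V' ≤ V) (y : Γ((Scheme.Modules.pullback b).obj F, V)) :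
    trSec a b c w F hUV' (((Scheme.Modules.pullback b).obj F).presheaf.map (homOfLE hV).op y) =
      ((Scheme.Modules.pullback c).obj F).presheaf.map (homOfLE hU).op
        (trSec a b c w F hUV y) := by
  unfold trSec
  rw [cUV_res_base a _ hUV hUV' hU hV y]
  exact QCohCrit.app_naturality ((DescH8.pbIso a b c w).hom.app F) (homOfLE hU) _

/-- The conjugate of `a^* hk` by the canonical isomorphisms, on canonical sections. -/
theorem conj_app_cUV {G : Z.Modules}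
    (hk : (Scheme.Modules.pullback b).obj F ⟶ (Scheme.Modules.pullback b).obj G)
    {U : X.Opens} {V : Y.Opens} {W : Z.Opens} (hUV : U ≤ a ⁻¹ᵁ V)
    (hVW : V ≤ b ⁻¹ᵁ W) (hUW : U ≤ c ⁻¹ᵁ W) (m : Γ(F, W)) :
    ((DescH8.pbIso a b c w).inv.app F ≫ (Scheme.Modules.pullback a).map hk ≫
      (DescH8.pbIso a b c w).hom.app G).app U (PBH8.cUV c F hUW m) =
      trSec a b c w G hUV (hk.app V (PBH8.cUV b F hVW m)) := by
  have e1 : ((DescH8.pbIso a b c w).inv.app F).app U (PBH8.cUV c F hUW m) =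
      PBH8.cUV a ((Scheme.Modules.pullback b).obj F) hUV (PBH8.cUV b F hVW m) := by
    rw [← pbIso_cUV a b c w F hUV hVW hUW m]
    have h4 : ((DescH8.pbIso a b c w).hom.app F ≫ (DescH8.pbIso a b c w).inv.app F) = 𝟙 _ :=
      Iso.hom_inv_id_app _ _
    exact congrArg (fun ψ => (Scheme.Modules.Hom.app ψ U)
      (PBH8.cUV a ((Scheme.Modules.pullback b).obj F) hUV (PBH8.cUV b F hVW m))) h4
  have e2 : ((DescH8.pbIso a b c w).inv.app F ≫ (Scheme.Modules.pullback a).map hk ≫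
      (DescH8.pbIso a b c w).hom.app G).app U (PBH8.cUV c F hUW m) =
      ((DescH8.pbIso a b c w).hom.app G).app U (((Scheme.Modules.pullback a).map hk).app U
        (((DescH8.pbIso a b c w).inv.app F).app U (PBH8.cUV c F hUW m))) := rfl
  rw [e2, e1, PBH8.cUV_naturality]
  rfl

end TrSec

section Lin

open QcqsLoc

variable {X Y : Scheme.{u}} (f : X ⟶ Y)

/-- A semilinear map out of the sections of `F` extends to a linear map out of the sections of the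
pullback. -/
theorem exists_lin_of_semilinear {U : X.Opens} {V : Y.Opens} (h : U ≤ f ⁻¹ᵁ V)
    (hU : IsAffineOpen U) (hV : IsAffineOpen V) (F : Y.Modules) [F.IsQuasicoherent]
    (B : X.Modules) (b : Γ(F, V) →+ Γ(B, U))
    (hb : ∀ (r : Γ(Y, V)) (m : Γ(F, V)), b (r • m) = (f.appLE V U h r) • b m) :
    ∃ ψ : Γ((Scheme.Modules.pullback f).obj F, U) →ₗ[Γ(X, U)] Γ(B, U),
      ∀ m, ψ (PBH8.cUV f F h m) = b m := by
  letI := (f.appLE V U h).hom.toAlgebra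
  letI : Module Γ(Y, V) Γ((Scheme.Modules.pullback f).obj F, U) :=
    Module.compHom _ (f.appLE V U h).hom
  haveI : IsScalarTower Γ(Y, V) Γ(X, U) Γ((Scheme.Modules.pullback f).obj F, U) :=
    IsScalarTower.of_algebraMap_smul fun _ _ => rfl
  letI : Module Γ(Y, V) Γ(B, U) := Module.compHom _ (f.appLE V U h).hom
  haveI : IsScalarTower Γ(Y, V) Γ(X, U) Γ(B, U) :=
    IsScalarTower.of_algebraMap_smul fun _ _ => rfl
  have hbc := PBH8.isBaseChange_cUV f F h hU hV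
  obtain ⟨bl, hbl⟩ : ∃ bl : Γ(F, V) →ₗ[Γ(Y, V)] Γ(B, U), ∀ m, bl m = b m :=
    ⟨{ toFun := b, map_add' := b.map_add, map_smul' := fun r m => hb r m }, fun _ => rfl⟩
  refine ⟨hbc.lift bl, fun m => ?_⟩
  have h1 := hbc.lift_eq bl m
  rw [PBH8.cUVLin_apply] at h1
  rw [h1, hbl]

/-- Compatibility with restriction of linear maps out of sections of a pullback can be checked on
canonical sections. -/
theorem compat_of_gen {U O : X.Opens} {V W : Y.Opens} (hUV : U ≤ f ⁻¹ᵁ V)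
    (hOW : O ≤ f ⁻¹ᵁ W) (hOU : O ≤ U) (hWV : W ≤ V) (hU : IsAffineOpen U) (hV : IsAffineOpen V)
    (F : Y.Modules) [F.IsQuasicoherent] (B : X.Modules)
    (ψU : Γ((Scheme.Modules.pullback f).obj F, U) →ₗ[Γ(X, U)] Γ(B, U))
    (ψO : Γ((Scheme.Modules.pullback f).obj F, O) →ₗ[Γ(X, O)] Γ(B, O))
    (H : ∀ m : Γ(F, V), ψO (PBH8.cUV f F hOW (rF F hWV m)) =
      rF B hOU (ψU (PBH8.cUV f F hUV m))) :
    ∀ x, ψO (rF ((Scheme.Modules.pullback f).obj F) hOU x) = rF B hOU (ψU x) := by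
  intro x
  have hx : x ∈ Submodule.span Γ(X, U) (Set.range (PBH8.cUV f F hUV)) := by
    rw [PBH8.span_cUV f F hU hV hUV]
    trivial
  refine Submodule.span_induction
    (p := fun x _ => ψO (rF ((Scheme.Modules.pullback f).obj F) hOU x) = rF B hOU (ψU x))
    ?_ ?_ ?_ ?_ hx
  · rintro _ ⟨m, rfl⟩
    have e := cUV_res_base f F hUV hOW hOU hWV m
    have e' : rF ((Scheme.Modules.pullback f).obj F) hOU (PBH8.cUV f F hUV m) =
        PBH8.cUV f F hOW (rF F hWV m) := e.symm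
    rw [e', H m]
  · rw [map_zero, map_zero, map_zero, map_zero]
  · intro x y _ _ hx hy
    rw [map_add, map_add, map_add, map_add, hx, hy]
  · intro r x _ hx
    rw [rF_smul, map_smul, hx, map_smul, rF_smul]

end Lin

section ChartTr

variable {I : Type u} [SmallCategory I] (D : I ⥤ Scheme.{u}) (c : Cone D)
  (i₀ : I) (U₀ : (D.obj i₀).Opens) (G₀ : (D.obj i₀).Modules)

theorem over_w {k j : Over i₀} (g : k ⟶ j) : D.map g.left ≫ D.map j.hom = D.map k.hom := by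
  rw [← D.map_comp, Over.w g]

/-- The transition map to the limit on sections over a chart. -/
noncomputable def tauS (j : Over i₀)
    (x : Γ((Scheme.Modules.pullback (D.map j.hom)).obj G₀, Uj D i₀ U₀ j)) :
    Γ((Scheme.Modules.pullback (c.π.app i₀)).obj G₀, Uinf D c i₀ U₀) :=
  trSec (c.π.app j.left) (D.map j.hom) (c.π.app i₀) (c.w j.hom) G₀ (Uinf_le D c i₀ U₀ j) x

/-- The transition map between stages on sections over a chart. -/
noncomputable def TrS {k j : Over i₀} (g : k ⟶ j)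
    (x : Γ((Scheme.Modules.pullback (D.map j.hom)).obj G₀, Uj D i₀ U₀ j)) :
    Γ((Scheme.Modules.pullback (D.map k.hom)).obj G₀, Uj D i₀ U₀ k) :=
  trSec (D.map g.left) (D.map j.hom) (D.map k.hom) (over_w D i₀ g) G₀ (Uj_le D i₀ U₀ g) x

theorem tauS_add (j : Over i₀)
    (x y : Γ((Scheme.Modules.pullback (D.map j.hom)).obj G₀, Uj D i₀ U₀ j)) :
    tauS D c i₀ U₀ G₀ j (x + y) = tauS D c i₀ U₀ G₀ j x + tauS D c i₀ U₀ G₀ j y :=
  trSec_add _ _ _ _ _ _ x y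

theorem tauS_zero (j : Over i₀) : tauS D c i₀ U₀ G₀ j 0 = 0 := trSec_zero _ _ _ _ _ _

theorem tauS_sub (j : Over i₀)
    (x y : Γ((Scheme.Modules.pullback (D.map j.hom)).obj G₀, Uj D i₀ U₀ j)) :
    tauS D c i₀ U₀ G₀ j (x - y) = tauS D c i₀ U₀ G₀ j x - tauS D c i₀ U₀ G₀ j y :=
  trSec_sub _ _ _ _ _ _ x y

theorem tauS_smul (j : Over i₀) (r : Γ(D.obj j.left, Uj D i₀ U₀ j))
    (x : Γ((Scheme.Modules.pullback (D.map j.hom)).obj G₀, Uj D i₀ U₀ j)) :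
    tauS D c i₀ U₀ G₀ j (r • x) = (sg D c i₀ U₀ j r) • tauS D c i₀ U₀ G₀ j x :=
  trSec_smul _ _ _ _ _ _ r x

theorem tauS_cUV (j : Over i₀) (p : Γ(G₀, U₀)) :
    tauS D c i₀ U₀ G₀ j (PBH8.cUV (D.map j.hom) G₀ (le_refl _) p) =
      PBH8.cUV (c.π.app i₀) G₀ (le_refl _) p :=
  trSec_cUV _ _ _ _ _ _ _ _ p

theorem TrS_add {k j : Over i₀} (g : k ⟶ j)
    (x y : Γ((Scheme.Modules.pullback (D.map j.hom)).obj G₀, Uj D i₀ U₀ j)) :
    TrS D i₀ U₀ G₀ g (x + y) = TrS D i₀ U₀ G₀ g x + TrS D i₀ U₀ G₀ g y :=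
  trSec_add _ _ _ _ _ _ x y

theorem TrS_zero {k j : Over i₀} (g : k ⟶ j) : TrS D i₀ U₀ G₀ g 0 = 0 :=
  trSec_zero _ _ _ _ _ _

theorem TrS_sub {k j : Over i₀} (g : k ⟶ j)
    (x y : Γ((Scheme.Modules.pullback (D.map j.hom)).obj G₀, Uj D i₀ U₀ j)) :
    TrS D i₀ U₀ G₀ g (x - y) = TrS D i₀ U₀ G₀ g x - TrS D i₀ U₀ G₀ g y :=
  trSec_sub _ _ _ _ _ _ x y

theorem TrS_smul {k j : Over i₀} (g : k ⟶ j) (r : Γ(D.obj j.left, Uj D i₀ U₀ j))
    (x : Γ((Scheme.Modules.pullback (D.map j.hom)).obj G₀, Uj D i₀ U₀ j)) :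
    TrS D i₀ U₀ G₀ g (r • x) = (tr D i₀ U₀ g r) • TrS D i₀ U₀ G₀ g x :=
  trSec_smul _ _ _ _ _ _ r x

theorem TrS_cUV {k j : Over i₀} (g : k ⟶ j) (p : Γ(G₀, U₀)) :
    TrS D i₀ U₀ G₀ g (PBH8.cUV (D.map j.hom) G₀ (le_refl _) p) =
      PBH8.cUV (D.map k.hom) G₀ (le_refl _) p :=
  trSec_cUV _ _ _ _ _ _ _ _ p

variable [IsCofiltered I] (hc : IsLimit c) [∀ (i j : I) (f : i ⟶ j), IsAffineHom (D.map f)]

attribute [local instance] algR algRinf

/-- `tauS` in terms of the tensor product descriptions. -/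
theorem tauS_equiv (hU₀ : IsAffineOpen U₀) (hUinf : IsAffineOpen (Uinf D c i₀ U₀))
    [G₀.IsQuasicoherent] (j : Over i₀) (hUj : IsAffineOpen (Uj D i₀ U₀ j)) :
    letI : Module Γ(D.obj i₀, U₀)
        Γ((Scheme.Modules.pullback (D.map j.hom)).obj G₀, Uj D i₀ U₀ j) :=
      Module.compHom _ (rh D i₀ U₀ j).hom
    letI : Module Γ(D.obj i₀, U₀)
        Γ((Scheme.Modules.pullback (c.π.app i₀)).obj G₀, Uinf D c i₀ U₀) :=
      Module.compHom _ (rhinf D c i₀ U₀).hom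
    haveI : IsScalarTower Γ(D.obj i₀, U₀) Γ(D.obj j.left, Uj D i₀ U₀ j)
        Γ((Scheme.Modules.pullback (D.map j.hom)).obj G₀, Uj D i₀ U₀ j) :=
      IsScalarTower.of_algebraMap_smul fun _ _ => rfl
    haveI : IsScalarTower Γ(D.obj i₀, U₀) Γ(c.pt, Uinf D c i₀ U₀)
        Γ((Scheme.Modules.pullback (c.π.app i₀)).obj G₀, Uinf D c i₀ U₀) :=
      IsScalarTower.of_algebraMap_smul fun _ _ => rfl
    ∀ w : Γ(D.obj j.left, Uj D i₀ U₀ j) ⊗[Γ(D.obj i₀, U₀)] Γ(G₀, U₀),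
      tauS D c i₀ U₀ G₀ j
        ((PBH8.isBaseChange_cUV (D.map j.hom) G₀ (le_refl _) hUj hU₀).equiv w) =
      (PBH8.isBaseChange_cUV (X := c.pt) (c.π.app i₀) G₀ (le_refl _) hUinf hU₀).equiv
        (sgT (fun j => sgA D c i₀ U₀ j) Γ(G₀, U₀) j w) := by
  letI : Module Γ(D.obj i₀, U₀)
      Γ((Scheme.Modules.pullback (D.map j.hom)).obj G₀, Uj D i₀ U₀ j) :=
    Module.compHom _ (rh D i₀ U₀ j).hom
  letI : Module Γ(D.obj i₀, U₀)
      Γ((Scheme.Modules.pullback (c.π.app i₀)).obj G₀, Uinf D c i₀ U₀) :=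
    Module.compHom _ (rhinf D c i₀ U₀).hom
  haveI : IsScalarTower Γ(D.obj i₀, U₀) Γ(D.obj j.left, Uj D i₀ U₀ j)
      Γ((Scheme.Modules.pullback (D.map j.hom)).obj G₀, Uj D i₀ U₀ j) :=
    IsScalarTower.of_algebraMap_smul fun _ _ => rfl
  haveI : IsScalarTower Γ(D.obj i₀, U₀) Γ(c.pt, Uinf D c i₀ U₀)
      Γ((Scheme.Modules.pullback (c.π.app i₀)).obj G₀, Uinf D c i₀ U₀) :=
    IsScalarTower.of_algebraMap_smul fun _ _ => rfl
  intro w
  induction w with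
  | zero => rw [map_zero, map_zero, map_zero, tauS_zero]
  | tmul r n =>
    rw [sgT_tmul, IsBaseChange.equiv_tmul, IsBaseChange.equiv_tmul, PBH8.cUVLin_apply,
      PBH8.cUVLin_apply, tauS_smul, tauS_cUV]
    rfl
  | add x y hx hy => rw [map_add, map_add, map_add, tauS_add, hx, hy]

/-- `TrS` in terms of the tensor product descriptions. -/
theorem TrS_equiv (hU₀ : IsAffineOpen U₀) [G₀.IsQuasicoherent] {k j : Over i₀} (g : k ⟶ j)
    (hUj : IsAffineOpen (Uj D i₀ U₀ j)) (hUk : IsAffineOpen (Uj D i₀ U₀ k)) :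
    letI : Module Γ(D.obj i₀, U₀)
        Γ((Scheme.Modules.pullback (D.map j.hom)).obj G₀, Uj D i₀ U₀ j) :=
      Module.compHom _ (rh D i₀ U₀ j).hom
    letI : Module Γ(D.obj i₀, U₀)
        Γ((Scheme.Modules.pullback (D.map k.hom)).obj G₀, Uj D i₀ U₀ k) :=
      Module.compHom _ (rh D i₀ U₀ k).hom
    haveI : IsScalarTower Γ(D.obj i₀, U₀) Γ(D.obj j.left, Uj D i₀ U₀ j)
        Γ((Scheme.Modules.pullback (D.map j.hom)).obj G₀, Uj D i₀ U₀ j) :=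
      IsScalarTower.of_algebraMap_smul fun _ _ => rfl
    haveI : IsScalarTower Γ(D.obj i₀, U₀) Γ(D.obj k.left, Uj D i₀ U₀ k)
        Γ((Scheme.Modules.pullback (D.map k.hom)).obj G₀, Uj D i₀ U₀ k) :=
      IsScalarTower.of_algebraMap_smul fun _ _ => rfl
    ∀ w : Γ(D.obj j.left, Uj D i₀ U₀ j) ⊗[Γ(D.obj i₀, U₀)] Γ(G₀, U₀),
      TrS D i₀ U₀ G₀ g
        ((PBH8.isBaseChange_cUV (D.map j.hom) G₀ (le_refl _) hUj hU₀).equiv w) =
      (PBH8.isBaseChange_cUV (D.map k.hom) G₀ (le_refl _) hUk hU₀).equiv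
        (trT (fun {k j} f => trA D i₀ U₀ f) Γ(G₀, U₀) g w) := by
  letI : Module Γ(D.obj i₀, U₀)
      Γ((Scheme.Modules.pullback (D.map j.hom)).obj G₀, Uj D i₀ U₀ j) :=
    Module.compHom _ (rh D i₀ U₀ j).hom
  letI : Module Γ(D.obj i₀, U₀)
      Γ((Scheme.Modules.pullback (D.map k.hom)).obj G₀, Uj D i₀ U₀ k) :=
    Module.compHom _ (rh D i₀ U₀ k).hom
  haveI : IsScalarTower Γ(D.obj i₀, U₀) Γ(D.obj j.left, Uj D i₀ U₀ j)
      Γ((Scheme.Modules.pullback (D.map j.hom)).obj G₀, Uj D i₀ U₀ j) :=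
    IsScalarTower.of_algebraMap_smul fun _ _ => rfl
  haveI : IsScalarTower Γ(D.obj i₀, U₀) Γ(D.obj k.left, Uj D i₀ U₀ k)
      Γ((Scheme.Modules.pullback (D.map k.hom)).obj G₀, Uj D i₀ U₀ k) :=
    IsScalarTower.of_algebraMap_smul fun _ _ => rfl
  intro w
  induction w with
  | zero => rw [map_zero, map_zero, map_zero, TrS_zero]
  | tmul r n =>
    rw [trT_tmul, IsBaseChange.equiv_tmul, IsBaseChange.equiv_tmul, PBH8.cUVLin_apply,
      PBH8.cUVLin_apply, TrS_smul, TrS_cUV]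
    rfl
  | add x y hx hy => rw [map_add, map_add, map_add, TrS_add, hx, hy]

include hc in
/-- A section over a chart at a stage dying in the limit dies at a later stage. -/
theorem exists_TrS_eq_zero (hU₀ : IsAffineOpen U₀) [G₀.IsQuasicoherent] (j : Over i₀)
    (x : Γ((Scheme.Modules.pullback (D.map j.hom)).obj G₀, Uj D i₀ U₀ j))
    (hx : tauS D c i₀ U₀ G₀ j x = 0) :
    ∃ (k : Over i₀) (g : k ⟶ j), TrS D i₀ U₀ G₀ g x = 0 := by
  haveI hA' : ∀ {i j : I} (f : i ⟶ j), IsAffineHom (D.map f) := fun f => inferInstance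
  haveI := isAffineHom_π_app D c hc i₀
  have hUinf : IsAffineOpen (Uinf D c i₀ U₀) := hU₀.preimage (c.π.app i₀)
  have hUj : IsAffineOpen (Uj D i₀ U₀ j) := hU₀.preimage (D.map j.hom)
  have hsys := isColimSys D c i₀ U₀ hc hU₀
  letI : Module Γ(D.obj i₀, U₀)
      Γ((Scheme.Modules.pullback (D.map j.hom)).obj G₀, Uj D i₀ U₀ j) :=
    Module.compHom _ (rh D i₀ U₀ j).hom
  letI : Module Γ(D.obj i₀, U₀)
      Γ((Scheme.Modules.pullback (c.π.app i₀)).obj G₀, Uinf D c i₀ U₀) :=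
    Module.compHom _ (rhinf D c i₀ U₀).hom
  haveI : IsScalarTower Γ(D.obj i₀, U₀) Γ(D.obj j.left, Uj D i₀ U₀ j)
      Γ((Scheme.Modules.pullback (D.map j.hom)).obj G₀, Uj D i₀ U₀ j) :=
    IsScalarTower.of_algebraMap_smul fun _ _ => rfl
  haveI : IsScalarTower Γ(D.obj i₀, U₀) Γ(c.pt, Uinf D c i₀ U₀)
      Γ((Scheme.Modules.pullback (c.π.app i₀)).obj G₀, Uinf D c i₀ U₀) :=
    IsScalarTower.of_algebraMap_smul fun _ _ => rfl
  obtain ⟨w, rfl⟩ :=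
    (PBH8.isBaseChange_cUV (D.map j.hom) G₀ (le_refl _) hUj hU₀).equiv.surjective x
  have h1 := tauS_equiv D c i₀ U₀ G₀ hU₀ hUinf j hUj w
  rw [hx] at h1
  have h2 : sgT (fun j => sgA D c i₀ U₀ j) Γ(G₀, U₀) j w = 0 := by
    apply (PBH8.isBaseChange_cUV (X := c.pt) (c.π.app i₀) G₀ (le_refl _) hUinf
      hU₀).equiv.injective
    rw [← h1, map_zero]
  obtain ⟨k, g, hk⟩ := exists_trT_eq_zero hsys Γ(G₀, U₀) j w h2
  refine ⟨k, g, ?_⟩
  have hUk : IsAffineOpen (Uj D i₀ U₀ k) := hU₀.preimage (D.map k.hom)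
  letI : Module Γ(D.obj i₀, U₀)
      Γ((Scheme.Modules.pullback (D.map k.hom)).obj G₀, Uj D i₀ U₀ k) :=
    Module.compHom _ (rh D i₀ U₀ k).hom
  haveI : IsScalarTower Γ(D.obj i₀, U₀) Γ(D.obj k.left, Uj D i₀ U₀ k)
      Γ((Scheme.Modules.pullback (D.map k.hom)).obj G₀, Uj D i₀ U₀ k) :=
    IsScalarTower.of_algebraMap_smul fun _ _ => rfl
  rw [TrS_equiv D i₀ U₀ G₀ hU₀ g hUj hUk w, hk, map_zero]

include hc in
/-- The transition maps are compatible with the maps to the limit. -/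
theorem tauS_TrS (hU₀ : IsAffineOpen U₀) [G₀.IsQuasicoherent] {k j : Over i₀} (g : k ⟶ j)
    (x : Γ((Scheme.Modules.pullback (D.map j.hom)).obj G₀, Uj D i₀ U₀ j)) :
    tauS D c i₀ U₀ G₀ k (TrS D i₀ U₀ G₀ g x) = tauS D c i₀ U₀ G₀ j x := by
  haveI hA' : ∀ {i j : I} (f : i ⟶ j), IsAffineHom (D.map f) := fun f => inferInstance
  haveI := isAffineHom_π_app D c hc i₀
  have hUinf : IsAffineOpen (Uinf D c i₀ U₀) := hU₀.preimage (c.π.app i₀)
  have hUj : IsAffineOpen (Uj D i₀ U₀ j) := hU₀.preimage (D.map j.hom)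
  have hUk : IsAffineOpen (Uj D i₀ U₀ k) := hU₀.preimage (D.map k.hom)
  have hsys := isColimSys D c i₀ U₀ hc hU₀
  letI : Module Γ(D.obj i₀, U₀)
      Γ((Scheme.Modules.pullback (D.map j.hom)).obj G₀, Uj D i₀ U₀ j) :=
    Module.compHom _ (rh D i₀ U₀ j).hom
  letI : Module Γ(D.obj i₀, U₀)
      Γ((Scheme.Modules.pullback (D.map k.hom)).obj G₀, Uj D i₀ U₀ k) :=
    Module.compHom _ (rh D i₀ U₀ k).hom
  letI : Module Γ(D.obj i₀, U₀)
      Γ((Scheme.Modules.pullback (c.π.app i₀)).obj G₀, Uinf D c i₀ U₀) :=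
    Module.compHom _ (rhinf D c i₀ U₀).hom
  haveI : IsScalarTower Γ(D.obj i₀, U₀) Γ(D.obj j.left, Uj D i₀ U₀ j)
      Γ((Scheme.Modules.pullback (D.map j.hom)).obj G₀, Uj D i₀ U₀ j) :=
    IsScalarTower.of_algebraMap_smul fun _ _ => rfl
  haveI : IsScalarTower Γ(D.obj i₀, U₀) Γ(D.obj k.left, Uj D i₀ U₀ k)
      Γ((Scheme.Modules.pullback (D.map k.hom)).obj G₀, Uj D i₀ U₀ k) :=
    IsScalarTower.of_algebraMap_smul fun _ _ => rfl
  haveI : IsScalarTower Γ(D.obj i₀, U₀) Γ(c.pt, Uinf D c i₀ U₀)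
      Γ((Scheme.Modules.pullback (c.π.app i₀)).obj G₀, Uinf D c i₀ U₀) :=
    IsScalarTower.of_algebraMap_smul fun _ _ => rfl
  obtain ⟨w, rfl⟩ :=
    (PBH8.isBaseChange_cUV (D.map j.hom) G₀ (le_refl _) hUj hU₀).equiv.surjective x
  rw [TrS_equiv D i₀ U₀ G₀ hU₀ g hUj hUk w, tauS_equiv D c i₀ U₀ G₀ hU₀ hUinf k hUk,
    tauS_equiv D c i₀ U₀ G₀ hU₀ hUinf j hUj, sgT_trT hsys]

include hc in
/-- Functoriality of the transition maps. -/
theorem TrS_comp (hU₀ : IsAffineOpen U₀) [G₀.IsQuasicoherent] {l k j : Over i₀} (g' : l ⟶ k)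
    (g : k ⟶ j) (x : Γ((Scheme.Modules.pullback (D.map j.hom)).obj G₀, Uj D i₀ U₀ j)) :
    TrS D i₀ U₀ G₀ (g' ≫ g) x = TrS D i₀ U₀ G₀ g' (TrS D i₀ U₀ G₀ g x) := by
  haveI hA' : ∀ {i j : I} (f : i ⟶ j), IsAffineHom (D.map f) := fun f => inferInstance
  have hUj : IsAffineOpen (Uj D i₀ U₀ j) := hU₀.preimage (D.map j.hom)
  have hUk : IsAffineOpen (Uj D i₀ U₀ k) := hU₀.preimage (D.map k.hom)
  have hUl : IsAffineOpen (Uj D i₀ U₀ l) := hU₀.preimage (D.map l.hom)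
  have hsys := isColimSys D c i₀ U₀ hc hU₀
  letI : Module Γ(D.obj i₀, U₀)
      Γ((Scheme.Modules.pullback (D.map j.hom)).obj G₀, Uj D i₀ U₀ j) :=
    Module.compHom _ (rh D i₀ U₀ j).hom
  letI : Module Γ(D.obj i₀, U₀)
      Γ((Scheme.Modules.pullback (D.map k.hom)).obj G₀, Uj D i₀ U₀ k) :=
    Module.compHom _ (rh D i₀ U₀ k).hom
  letI : Module Γ(D.obj i₀, U₀)
      Γ((Scheme.Modules.pullback (D.map l.hom)).obj G₀, Uj D i₀ U₀ l) :=
    Module.compHom _ (rh D i₀ U₀ l).hom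
  haveI : IsScalarTower Γ(D.obj i₀, U₀) Γ(D.obj j.left, Uj D i₀ U₀ j)
      Γ((Scheme.Modules.pullback (D.map j.hom)).obj G₀, Uj D i₀ U₀ j) :=
    IsScalarTower.of_algebraMap_smul fun _ _ => rfl
  haveI : IsScalarTower Γ(D.obj i₀, U₀) Γ(D.obj k.left, Uj D i₀ U₀ k)
      Γ((Scheme.Modules.pullback (D.map k.hom)).obj G₀, Uj D i₀ U₀ k) :=
    IsScalarTower.of_algebraMap_smul fun _ _ => rfl
  haveI : IsScalarTower Γ(D.obj i₀, U₀) Γ(D.obj l.left, Uj D i₀ U₀ l)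
      Γ((Scheme.Modules.pullback (D.map l.hom)).obj G₀, Uj D i₀ U₀ l) :=
    IsScalarTower.of_algebraMap_smul fun _ _ => rfl
  obtain ⟨w, rfl⟩ :=
    (PBH8.isBaseChange_cUV (D.map j.hom) G₀ (le_refl _) hUj hU₀).equiv.surjective x
  rw [TrS_equiv D i₀ U₀ G₀ hU₀ (g' ≫ g) hUj hUl w, TrS_equiv D i₀ U₀ G₀ hU₀ g hUj hUk w,
    TrS_equiv D i₀ U₀ G₀ hU₀ g' hUk hUl, trT_comp hsys]

include hc in
/-- Eventual form of `exists_TrS_eq_zero`. -/
theorem eventually_TrS_eq_zero (hU₀ : IsAffineOpen U₀) [G₀.IsQuasicoherent] (j : Over i₀)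
    (x : Γ((Scheme.Modules.pullback (D.map j.hom)).obj G₀, Uj D i₀ U₀ j))
    (hx : tauS D c i₀ U₀ G₀ j x = 0) :
    ∃ κ : Over j, ∀ (κ' : Over j) (γ : κ' ⟶ κ), TrS D i₀ U₀ G₀ κ'.hom x = 0 := by
  obtain ⟨k, g, hk⟩ := exists_TrS_eq_zero D c i₀ U₀ G₀ hc hU₀ j x hx
  refine ⟨Over.mk g, fun κ' γ => ?_⟩
  have e : κ'.hom = γ.left ≫ g := (Over.w γ).symm
  rw [e, TrS_comp D c i₀ U₀ G₀ hc hU₀, hk, TrS_zero]

include hc in
/-- A semilinear map from the sections of a finitely presented module into the sections of the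
limit lifts to a stage. -/
theorem exists_lift_sec (hU₀ : IsAffineOpen U₀) [G₀.IsQuasicoherent]
    (F₀ : (D.obj i₀).Modules) [F₀.IsQuasicoherent]
    [SheafOfModules.IsFinitePresentation (R := (D.obj i₀).ringCatSheaf) F₀]
    (β : Γ(F₀, U₀) →+ Γ((Scheme.Modules.pullback (c.π.app i₀)).obj G₀, Uinf D c i₀ U₀))
    (hβ : ∀ (r : Γ(D.obj i₀, U₀)) (m : Γ(F₀, U₀)), β (r • m) = (rhinf D c i₀ U₀ r) • β m) :
    ∃ (j : Over i₀)
      (b : Γ(F₀, U₀) →+ Γ((Scheme.Modules.pullback (D.map j.hom)).obj G₀, Uj D i₀ U₀ j)),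
      (∀ (r : Γ(D.obj i₀, U₀)) (m : Γ(F₀, U₀)), b (r • m) = (rh D i₀ U₀ j r) • b m) ∧
        ∀ m, tauS D c i₀ U₀ G₀ j (b m) = β m := by
  haveI hA' : ∀ {i j : I} (f : i ⟶ j), IsAffineHom (D.map f) := fun f => inferInstance
  haveI := isAffineHom_π_app D c hc i₀
  have hUinf : IsAffineOpen (Uinf D c i₀ U₀) := hU₀.preimage (c.π.app i₀)
  have hsys := isColimSys D c i₀ U₀ hc hU₀
  haveI : Module.FinitePresentation Γ(D.obj i₀, U₀) Γ(F₀, U₀) :=
    QCohFP2.finitePresentation_of_isFinitePresentation F₀ hU₀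
  letI : Module Γ(D.obj i₀, U₀)
      Γ((Scheme.Modules.pullback (c.π.app i₀)).obj G₀, Uinf D c i₀ U₀) :=
    Module.compHom _ (rhinf D c i₀ U₀).hom
  haveI : IsScalarTower Γ(D.obj i₀, U₀) Γ(c.pt, Uinf D c i₀ U₀)
      Γ((Scheme.Modules.pullback (c.π.app i₀)).obj G₀, Uinf D c i₀ U₀) :=
    IsScalarTower.of_algebraMap_smul fun _ _ => rfl
  obtain ⟨einf, heinf⟩ : ∃ einf : Γ(c.pt, Uinf D c i₀ U₀) ⊗[Γ(D.obj i₀, U₀)] Γ(G₀, U₀) ≃ₗ[
      Γ(c.pt, Uinf D c i₀ U₀)] Γ((Scheme.Modules.pullback (c.π.app i₀)).obj G₀,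
        Uinf D c i₀ U₀), einf = (PBH8.isBaseChange_cUV (X := c.pt) (c.π.app i₀) G₀ (le_refl _)
          hUinf hU₀).equiv := ⟨_, rfl⟩
  obtain ⟨β', hβ'⟩ : ∃ β' : Γ(F₀, U₀) →ₗ[Γ(D.obj i₀, U₀)]
      Γ(c.pt, Uinf D c i₀ U₀) ⊗[Γ(D.obj i₀, U₀)] Γ(G₀, U₀), ∀ m, β' m = einf.symm (β m) :=
    ⟨{ toFun := fun m => einf.symm (β m)
       map_add' := fun x y => by rw [map_add, map_add]
       map_smul' := fun r m => by
        rw [hβ, map_smul, RingHom.id_apply]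
        exact algebraMap_smul Γ(c.pt, Uinf D c i₀ U₀) r (einf.symm (β m)) }, fun _ => rfl⟩
  obtain ⟨j, b', hb'⟩ := exists_lift_of_fp hsys β'
  have hUj : IsAffineOpen (Uj D i₀ U₀ j) := hU₀.preimage (D.map j.hom)
  letI : Module Γ(D.obj i₀, U₀)
      Γ((Scheme.Modules.pullback (D.map j.hom)).obj G₀, Uj D i₀ U₀ j) :=
    Module.compHom _ (rh D i₀ U₀ j).hom
  haveI : IsScalarTower Γ(D.obj i₀, U₀) Γ(D.obj j.left, Uj D i₀ U₀ j)
      Γ((Scheme.Modules.pullback (D.map j.hom)).obj G₀, Uj D i₀ U₀ j) :=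
    IsScalarTower.of_algebraMap_smul fun _ _ => rfl
  obtain ⟨ej, hej⟩ : ∃ ej : Γ(D.obj j.left, Uj D i₀ U₀ j) ⊗[Γ(D.obj i₀, U₀)] Γ(G₀, U₀) ≃ₗ[
      Γ(D.obj j.left, Uj D i₀ U₀ j)] Γ((Scheme.Modules.pullback (D.map j.hom)).obj G₀,
        Uj D i₀ U₀ j), ej = (PBH8.isBaseChange_cUV (D.map j.hom) G₀ (le_refl _)
          hUj hU₀).equiv := ⟨_, rfl⟩
  refine ⟨j, { toFun := fun m => ej (b' m)
               map_zero' := by rw [map_zero, map_zero]
               map_add' := fun x y => by rw [map_add, map_add] }, fun r m => ?_, fun m => ?_⟩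
  · change ej (b' (r • m)) = (rh D i₀ U₀ j r) • ej (b' m)
    rw [map_smul]
    have e1 : r • b' m = (algebraMap Γ(D.obj i₀, U₀) Γ(D.obj j.left, Uj D i₀ U₀ j) r) • b' m :=
      (algebraMap_smul Γ(D.obj j.left, Uj D i₀ U₀ j) r (b' m)).symm
    rw [e1, map_smul]
    rfl
  · change tauS D c i₀ U₀ G₀ j (ej (b' m)) = β m
    rw [hej, tauS_equiv D c i₀ U₀ G₀ hU₀ hUinf j hUj, hb', hβ', ← heinf,
      LinearEquiv.apply_symm_apply]

include hc in
/-- Eventual form of `exists_lift_sec`. -/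
theorem eventually_lift_sec (hU₀ : IsAffineOpen U₀) [G₀.IsQuasicoherent]
    (F₀ : (D.obj i₀).Modules) [F₀.IsQuasicoherent]
    [SheafOfModules.IsFinitePresentation (R := (D.obj i₀).ringCatSheaf) F₀]
    (β : Γ(F₀, U₀) →+ Γ((Scheme.Modules.pullback (c.π.app i₀)).obj G₀, Uinf D c i₀ U₀))
    (hβ : ∀ (r : Γ(D.obj i₀, U₀)) (m : Γ(F₀, U₀)), β (r • m) = (rhinf D c i₀ U₀ r) • β m) :
    ∃ k : Over i₀, ∀ (k' : Over i₀) (g : k' ⟶ k), ∃
      (b : Γ(F₀, U₀) →+ Γ((Scheme.Modules.pullback (D.map k'.hom)).obj G₀, Uj D i₀ U₀ k')),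
      (∀ (r : Γ(D.obj i₀, U₀)) (m : Γ(F₀, U₀)), b (r • m) = (rh D i₀ U₀ k' r) • b m) ∧
        ∀ m, tauS D c i₀ U₀ G₀ k' (b m) = β m := by
  obtain ⟨k, b, hb1, hb2⟩ := exists_lift_sec D c i₀ U₀ G₀ hc hU₀ F₀ β hβ
  refine ⟨k, fun k' g => ⟨{ toFun := fun m => TrS D i₀ U₀ G₀ g (b m)
                            map_zero' := by rw [map_zero, TrS_zero]
                            map_add' := fun x y => by rw [map_add, TrS_add] },
    fun r m => ?_, fun m => ?_⟩⟩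
  · change TrS D i₀ U₀ G₀ g (b (r • m)) = (rh D i₀ U₀ k' r) • TrS D i₀ U₀ G₀ g (b m)
    rw [hb1, TrS_smul]
    have e : (tr D i₀ U₀ g) ((rh D i₀ U₀ k) r) = (rh D i₀ U₀ k') r :=
      congrArg (fun φ => φ.hom r) (rh_tr D i₀ U₀ g)
    rw [e]
  · change tauS D c i₀ U₀ G₀ k' (TrS D i₀ U₀ G₀ g (b m)) = β m
    rw [tauS_TrS D c i₀ U₀ G₀ hc hU₀, hb2]

end ChartTr

end Groth.Agent.Lib.LimMod
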