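import Groth.Agent.Lib.StalkFam1_helper2
import Groth.Agent.Lib.LimHomTr_helper2

/-!
# Pullback of families of stalk maps (helper2)

* `pbStalk_ext`: linear maps out of a stalk of `f^*A` are determined on the canonical elements;
* `pbSec`: the pullback along `f` of a section of the sheaf Hom over `Q`, a section over `f⁻¹Q`;
* `trStalk_germ`: the stalk version of the transition maps `trSec`.
APPEND-ONLY once landed.
-/

set_option autoImplicit false
set_option maxHeartbeats 1000000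
set_option linter.style.haveILetI false
set_option linter.unusedSectionVars false
set_option linter.unusedVariables false
universe u

open CategoryTheory CategoryTheory.Limits AlgebraicGeometry TopologicalSpace Opposite
open HomLinH8 RefHullH8 QcqsLoc SecOrdH8 QCohExtn

namespace Groth.Agent.Lib.StalkFam

section Pullback

variable {X Y : Scheme.{u}} (f : X ⟶ Y)

/-- Linear maps out of a stalk of `f^*A` are determined on the canonical elements. -/
theorem pbStalk_ext (A : Y.Modules) [A.IsQuasicoherent] (x : X) {Q : Type*} [AddCommGroup Q]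
    [Module (X.presheaf.stalk x) Q]
    (g₁ g₂ : ((Scheme.Modules.pullback f).obj A).presheaf.stalk x →ₗ[X.presheaf.stalk x] Q)
    (h : ∀ a, g₁ (PBH8.cStalkHom f A x a) = g₂ (PBH8.cStalkHom f A x a)) : g₁ = g₂ := by
  letI := (f.stalkMap x).hom.toAlgebra
  letI : Module (Y.presheaf.stalk (f x))
      (((Scheme.Modules.pullback f).obj A).presheaf.stalk x) :=
    Module.compHom _ (f.stalkMap x).hom
  haveI : IsScalarTower (Y.presheaf.stalk (f x)) (X.presheaf.stalk x)
      (((Scheme.Modules.pullback f).obj A).presheaf.stalk x) :=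
    IsScalarTower.of_algebraMap_smul fun _ _ => rfl
  have hbc := PBH8.isBaseChange_cStalk f A x
  exact hbc.algHom_ext g₁ g₂ (fun a => h a)

/-- Base change of a stalk map. -/
theorem exists_pbStalk (A B : Y.Modules) [A.IsQuasicoherent] (x : X)
    (g : RefHull.StalkHom A B (f x)) :
    ∃ g' : RefHull.StalkHom ((Scheme.Modules.pullback f).obj A)
        ((Scheme.Modules.pullback f).obj B) x,
      ∀ a, g' (PBH8.cStalkHom f A x a) = PBH8.cStalkHom f B x (g a) := by
  letI := (f.stalkMap x).hom.toAlgebra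
  letI mA : Module (Y.presheaf.stalk (f x))
      (((Scheme.Modules.pullback f).obj A).presheaf.stalk x) :=
    Module.compHom _ (f.stalkMap x).hom
  haveI tA : IsScalarTower (Y.presheaf.stalk (f x)) (X.presheaf.stalk x)
      (((Scheme.Modules.pullback f).obj A).presheaf.stalk x) :=
    IsScalarTower.of_algebraMap_smul fun _ _ => rfl
  letI mB : Module (Y.presheaf.stalk (f x))
      (((Scheme.Modules.pullback f).obj B).presheaf.stalk x) :=
    Module.compHom _ (f.stalkMap x).hom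
  haveI tB : IsScalarTower (Y.presheaf.stalk (f x)) (X.presheaf.stalk x)
      (((Scheme.Modules.pullback f).obj B).presheaf.stalk x) :=
    IsScalarTower.of_algebraMap_smul fun _ _ => rfl
  have hbc := PBH8.isBaseChange_cStalk f A x
  refine ⟨hbc.lift ((PBH8.cStalkLin f B x).comp g), fun a => ?_⟩
  exact hbc.lift_eq ((PBH8.cStalkLin f B x).comp g) a

/-- A family of stalk maps of pullbacks which is the base change of an admissible family is
admissible. -/
theorem isLocSect_of_pb {A B : Y.Modules} [A.IsQuasicoherent] {Q : Y.Opens}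
    (l : Γ(RefHull.homSh A B, Q))
    (g' : ∀ x : (f ⁻¹ᵁ Q : X.Opens), RefHull.StalkHom ((Scheme.Modules.pullback f).obj A)
      ((Scheme.Modules.pullback f).obj B) x.1)
    (hg' : ∀ (x : (f ⁻¹ᵁ Q : X.Opens)) (a : A.presheaf.stalk (f x.1)),
      g' x (PBH8.cStalkHom f A x.1 a) = PBH8.cStalkHom f B x.1 (l.1 ⟨f x.1, x.2⟩ a)) :
    RefHull.IsLocSect ((Scheme.Modules.pullback f).obj A) ((Scheme.Modules.pullback f).obj B)
      g' := by
  intro V' i m x
  have hxQ : f x.1 ∈ Q := i.le x.2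
  obtain ⟨_, ⟨Q₀, hQ₀ : IsAffineOpen Q₀, rfl⟩, hxQ₀, hQ₀Q⟩ :=
    Y.isBasis_affineOpens.exists_subset_of_mem_open hxQ Q.isOpen
  obtain ⟨_, ⟨P, hP : IsAffineOpen P, rfl⟩, hxP, hPsub⟩ :=
    X.isBasis_affineOpens.exists_subset_of_mem_open
      (show x.1 ∈ V' ⊓ f ⁻¹ᵁ Q₀ from ⟨x.2, hxQ₀⟩) (V' ⊓ f ⁻¹ᵁ Q₀).isOpen
  have hPV' : P ≤ V' := fun z hz => (hPsub hz).1
  have hPQ₀ : P ≤ f ⁻¹ᵁ Q₀ := fun z hz => (hPsub hz).2
  have key : ∀ z : Γ((Scheme.Modules.pullback f).obj A, P),
      ∃ n : Γ((Scheme.Modules.pullback f).obj B, P), ∀ (y : X) (hy : y ∈ P),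
        g' ⟨y, hQ₀Q (hPQ₀ hy)⟩ (((Scheme.Modules.pullback f).obj A).presheaf.germ P y hy z) =
          ((Scheme.Modules.pullback f).obj B).presheaf.germ P y hy n := by
    intro z
    have hz : z ∈ Submodule.span Γ(X, P) (Set.range (PBH8.cUV f A hPQ₀)) := by
      rw [PBH8.span_cUV f A hP hQ₀ hPQ₀]
      trivial
    refine Submodule.span_induction
      (p := fun z _ => ∃ n : Γ((Scheme.Modules.pullback f).obj B, P), ∀ (y : X) (hy : y ∈ P),
        g' ⟨y, hQ₀Q (hPQ₀ hy)⟩ (((Scheme.Modules.pullback f).obj A).presheaf.germ P y hy z) =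
          ((Scheme.Modules.pullback f).obj B).presheaf.germ P y hy n) ?_ ?_ ?_ ?_ hz
    · rintro _ ⟨a, rfl⟩
      refine ⟨PBH8.cUV f B hPQ₀ (evSec (resSec hQ₀Q l) a), fun y hy => ?_⟩
      rw [← PBH8.cStalkHom_germ_cUV f A hPQ₀ hy a, hg' ⟨y, hQ₀Q (hPQ₀ hy)⟩,
        ← PBH8.cStalkHom_germ_cUV f B hPQ₀ hy, germ_evSec]
      rfl
    · exact ⟨0, fun y hy => by rw [map_zero, map_zero, map_zero]⟩
    · rintro z₁ z₂ _ _ ⟨n₁, h₁⟩ ⟨n₂, h₂⟩
      exact ⟨n₁ + n₂, fun y hy => by rw [map_add, map_add, map_add, h₁ y hy, h₂ y hy]⟩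
    · rintro r z _ ⟨n, hn⟩
      exact ⟨r • n, fun y hy => by rw [Mero.germ_smul, map_smul, hn y hy, Mero.germ_smul]⟩
  obtain ⟨n, hn⟩ := key (rF ((Scheme.Modules.pullback f).obj A) hPV' m)
  refine ⟨P, hxP, homOfLE hPV', n, fun y => ?_⟩
  have h1 := hn y.1 y.2
  rw [germ_rF] at h1
  exact h1

/-- The pullback of a section of the sheaf Hom. -/
noncomputable def pbSec {A B : Y.Modules} [A.IsQuasicoherent] {Q : Y.Opens}
    (l : Γ(RefHull.homSh A B, Q)) :
    Γ(RefHull.homSh ((Scheme.Modules.pullback f).obj A) ((Scheme.Modules.pullback f).obj B),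
      f ⁻¹ᵁ Q) :=
  ⟨fun x => (exists_pbStalk f A B x.1 (l.1 ⟨f x.1, x.2⟩)).choose,
    isLocSect_of_pb f l _ (fun x a => (exists_pbStalk f A B x.1 (l.1 ⟨f x.1, x.2⟩)).choose_spec a)⟩

theorem pbSec_apply {A B : Y.Modules} [A.IsQuasicoherent] {Q : Y.Opens}
    (l : Γ(RefHull.homSh A B, Q)) (x : (f ⁻¹ᵁ Q : X.Opens)) (a : A.presheaf.stalk (f x.1)) :
    (pbSec f l).1 x (PBH8.cStalkHom f A x.1 a) = PBH8.cStalkHom f B x.1 (l.1 ⟨f x.1, x.2⟩ a) :=
  (exists_pbStalk f A B x.1 (l.1 ⟨f x.1, x.2⟩)).choose_spec a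

theorem pbSec_bijective {A B : Y.Modules} [A.IsQuasicoherent] [B.IsQuasicoherent] {Q : Y.Opens}
    (l : Γ(RefHull.homSh A B, Q)) (h : ∀ y, Function.Bijective (l.1 y))
    (x : (f ⁻¹ᵁ Q : X.Opens)) : Function.Bijective ((pbSec f l).1 x) := by
  have h1 : ((pbSec f (invSec l h)).1 x).comp ((pbSec f l).1 x) = LinearMap.id := by
    apply pbStalk_ext f A x.1
    intro a
    rw [LinearMap.comp_apply, pbSec_apply, pbSec_apply, invSec_apply_apply]
    rfl
  have h2 : ((pbSec f l).1 x).comp ((pbSec f (invSec l h)).1 x) = LinearMap.id := by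
    apply pbStalk_ext f B x.1
    intro b
    rw [LinearMap.comp_apply, pbSec_apply, pbSec_apply, apply_invSec_apply]
    rfl
  refine Function.bijective_iff_has_inverse.mpr
    ⟨(pbSec f (invSec l h)).1 x, fun a => ?_, fun b => ?_⟩
  · exact LinearMap.congr_fun h1 a
  · exact LinearMap.congr_fun h2 b

end Pullback

section Tr

variable {X Y Z : Scheme.{u}} (a : X ⟶ Y) (b : Y ⟶ Z) (c : X ⟶ Z) (w : a ≫ b = c)
  (F : Z.Modules)

/-- The transition map on stalks `(b^*F)_{a x} → (c^*F)_x` for `a ≫ b = c`. -/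
noncomputable def trStalk (x : X) (v : ((Scheme.Modules.pullback b).obj F).presheaf.stalk (a x)) :
    ((Scheme.Modules.pullback c).obj F).presheaf.stalk x :=
  RefHull.stalkMapₗ ((DescH8.pbIso a b c w).hom.app F) x
    (PBH8.cStalkHom a ((Scheme.Modules.pullback b).obj F) x v)

theorem trStalk_germ {U : X.Opens} {V : Y.Opens} (hUV : U ≤ a ⁻¹ᵁ V) (x : X) (hx : x ∈ U)
    (y : Γ((Scheme.Modules.pullback b).obj F, V)) :
    trStalk a b c w F x (((Scheme.Modules.pullback b).obj F).presheaf.germ V (a x) (hUV hx) y) =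
      ((Scheme.Modules.pullback c).obj F).presheaf.germ U x hx
        (Groth.Agent.Lib.LimMod.trSec a b c w F hUV y) := by
  unfold trStalk
  rw [PBH8.cStalkHom_germ_cUV a _ hUV hx y]
  exact RefHull.stalkMapₗ_germ ((DescH8.pbIso a b c w).hom.app F) x hx
    (PBH8.cUV a ((Scheme.Modules.pullback b).obj F) hUV y)

theorem trStalk_add (x : X) (v v' : ((Scheme.Modules.pullback b).obj F).presheaf.stalk (a x)) :
    trStalk a b c w F x (v + v') = trStalk a b c w F x v + trStalk a b c w F x v' := by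
  unfold trStalk
  rw [map_add, map_add]

theorem trStalk_smul (x : X) (r : Y.presheaf.stalk (a x))
    (v : ((Scheme.Modules.pullback b).obj F).presheaf.stalk (a x)) :
    trStalk a b c w F x (r • v) = (a.stalkMap x).hom r • trStalk a b c w F x v := by
  unfold trStalk
  rw [PBH8.cStalkHom_smul, map_smul]

end Tr

end Groth.Agent.Lib.StalkFam
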