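import Mathlib
import Groth.Prelude
import Groth.Agent.Lib.HomShDual3_helper2
import Groth.Agent.Lib.StalkFam2_helper2
import Groth.Agent.Lib.PullTensIso3_helper3
import Groth.Agent.Lib.FieldDesc2_helper9

/-!
# Perfect pairings of `O`-modules and their pullbacks, I (helper2)

* `IsPerfect ε`: the pairing `ε : E ⊗ D ⟶ O_X` induces bijections `D_x → Hom(E_x, O_{X,x})`.
* `isIso_curry_of_isPerfect`: then `D ⟶ E^∨` is an isomorphism (for `E` of finite presentation).
* `evPair E : E ⊗ E^∨ ⟶ O_X`, perfect for `E` of finite presentation.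
* `pullPair f ε : f^*E ⊗ f^*D ⟶ O_X` for `f : X ⟶ Y`, with section and stalk formulas.
APPEND-ONLY once landed.
-/

set_option autoImplicit false
set_option maxHeartbeats 800000
universe u
open CategoryTheory CategoryTheory.Limits AlgebraicGeometry TopologicalSpace Opposite TensorProduct

namespace Groth.Agent.Lib.PullDualH2

open QcqsLoc SecOrdH8 FLFH8 QCohExtn RefHullH8 HomLinH8 Groth.Agent.Lib.StalkTensH3
  Groth.Agent.Lib.HomShAdjH2 Groth.Agent.Lib.PullTensIsoH3 PBH8 PullTensH9

noncomputable section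

section Perfect

variable {X : Scheme.{u}} {E D : X.Modules}

/-- the pairing `ε : E ⊗ D ⟶ O_X` is perfect on the right: `D_x → Hom(E_x, O_{X,x})` is bijective
for every point `x` -/
def IsPerfect (ε : CohB1.tensorMod E D ⟶ Coh.structureModule X) : Prop :=
  ∀ x : X, Function.Bijective (curryAtL ε x)

lemma evalStalk_stk_curry (ε : CohB1.tensorMod E D ⟶ Coh.structureModule X) (x : X)
    (b : ↑((stk x).obj D)) :
    RefHull.evalStalk E (Coh.structureModule X) x (((stk x).map (curry ε)).hom b) =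
      curryAtL ε x b := by
  obtain ⟨U, hxU, p, rfl⟩ := exists_gmM x D b
  rw [stalkFunctor_map_gmM]
  show RefHull.evalStalk E (Coh.structureModule X) x
    ((RefHull.homSh E (Coh.structureModule X)).presheaf.germ U x hxU ((curry ε).app U p)) = _
  rw [RefHull.evalStalk_germ]
  rfl

/-- a perfect pairing identifies `D` with the dual of `E` -/
theorem isIso_curry_of_isPerfect (hE : CohB1.IsFP E)
    (ε : CohB1.tensorMod E D ⟶ Coh.structureModule X) (h : IsPerfect ε) :
    IsIso (curry ε) := by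
  apply DescH8.isIso_of_stk_bijective
  intro x
  have hev := evalStalk_bijective E (Coh.structureModule X) hE x
  have hc : Function.Bijective ((stk x).map (curry ε)).hom := by
    constructor
    · intro a b hab
      apply (h x).1
      rw [← evalStalk_stk_curry, ← evalStalk_stk_curry, hab]
    · intro c
      obtain ⟨b, hb⟩ := (h x).2 (RefHull.evalStalk E (Coh.structureModule X) x c)
      refine ⟨b, hev.1 ?_⟩
      rw [evalStalk_stk_curry]
      exact hb
  exact hc

variable (E) in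
/-- the evaluation pairing `E ⊗ E^∨ ⟶ O_X` -/
def evPair : CohB1.tensorMod E (RefHull.dual E) ⟶ Coh.structureModule X :=
  uncurry (𝟙 (RefHull.dual E))

lemma curry_evPair : curry (evPair E) = 𝟙 (RefHull.dual E) := curry_uncurry _

lemma curryAtL_evPair (x : X) (b : ↑((stk x).obj (RefHull.dual E))) :
    curryAtL (evPair E) x b = RefHull.evalStalk E (Coh.structureModule X) x b := by
  rw [← evalStalk_stk_curry, curry_evPair, CategoryTheory.Functor.map_id]
  rfl

theorem isPerfect_evPair (hE : CohB1.IsFP E) : IsPerfect (evPair E) := by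
  intro x
  have hev := evalStalk_bijective E (Coh.structureModule X) hE x
  have : (curryAtL (evPair E) x : ↑((stk x).obj (RefHull.dual E)) → _) =
      RefHull.evalStalk E (Coh.structureModule X) x := funext (curryAtL_evPair x)
  rw [this]
  exact hev

end Perfect

section Pull

variable {X Y : Scheme.{u}} (f : X ⟶ Y) {E D : Y.Modules}
  (ε : CohB1.tensorMod E D ⟶ Coh.structureModule Y)

/-- the pulled back pairing `f^*E ⊗ f^*D ⟶ O_X` -/
def pullPair : CohB1.tensorMod ((Scheme.Modules.pullback f).obj E)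
    ((Scheme.Modules.pullback f).obj D) ⟶ Coh.structureModule X :=
  (pullTensIso f E D).inv ≫ (Scheme.Modules.pullback f).map ε ≫ (PBH8.pullbackUnitIso f).hom

lemma pullTensIso_inv_tm (V : Y.Opens) (m : Γ(E, V)) (d : Γ(D, V)) :
    (pullTensIso f E D).inv.app (f ⁻¹ᵁ V)
        (tm ((Scheme.Modules.pullback f).obj E) ((Scheme.Modules.pullback f).obj D) (f ⁻¹ᵁ V)
          (cUV f E le_rfl m) (cUV f D le_rfl d)) =
      cUV f (CohB1.tensorMod E D) le_rfl (tm E D V m d) := by
  rw [← ptHom_cUV' f E D V m d]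
  exact congrArg (fun ψ => ψ.app (f ⁻¹ᵁ V)
    (cUV f (CohB1.tensorMod E D) le_rfl (tm E D V m d))) (pullTensIso f E D).hom_inv_id

lemma pullPair_tm (V : Y.Opens) (m : Γ(E, V)) (d : Γ(D, V)) :
    (pullPair f ε).app (f ⁻¹ᵁ V)
        (tm ((Scheme.Modules.pullback f).obj E) ((Scheme.Modules.pullback f).obj D) (f ⁻¹ᵁ V)
          (cUV f E le_rfl m) (cUV f D le_rfl d)) =
      SerreCrit.ofFn ((f.app V).hom (SerreCrit.toFn (ε.app V (tm E D V m d)))) := by
  show (PBH8.pullbackUnitIso f).hom.app (f ⁻¹ᵁ V)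
    (((Scheme.Modules.pullback f).map ε).app (f ⁻¹ᵁ V)
      ((pullTensIso f E D).inv.app (f ⁻¹ᵁ V) _)) = _
  rw [pullTensIso_inv_tm]
  have h1 : ((Scheme.Modules.pullback f).map ε).app (f ⁻¹ᵁ V)
      (cUV f (CohB1.tensorMod E D) le_rfl (tm E D V m d)) =
      cUV f (Coh.structureModule Y) le_rfl (ε.app V (tm E D V m d)) :=
    cUV_naturality f ε le_rfl (tm E D V m d)
  rw [h1]
  have h2 := Groth.Agent.FieldDesc.pullbackUnitIso_cUV (f := f) (le_rfl : f ⁻¹ᵁ V ≤ f ⁻¹ᵁ V)
    (SerreCrit.toFn (ε.app V (tm E D V m d)))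
  rw [Scheme.Hom.appLE_eq_app] at h2
  exact h2

/-- the stalk formula for the pulled back pairing, on germs -/
lemma curryAtL_pullPair_germ (x : X) (V : Y.Opens) (hx : f x ∈ V) (m : Γ(E, V)) (d : Γ(D, V)) :
    toO x (curryAtL (pullPair f ε) x
        (PBH8.cStalkHom f D x (D.presheaf.germ V (f x) hx d))
        (PBH8.cStalkHom f E x (E.presheaf.germ V (f x) hx m))) =
      (f.stalkMap x).hom (toO (f x) (curryAtL ε (f x) (D.presheaf.germ V (f x) hx d)
        (E.presheaf.germ V (f x) hx m))) := by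
  have hx' : x ∈ f ⁻¹ᵁ V := hx
  rw [PBH8.cStalkHom_germ_cUV f D (le_rfl : f ⁻¹ᵁ V ≤ f ⁻¹ᵁ V) hx' d,
    PBH8.cStalkHom_germ_cUV f E (le_rfl : f ⁻¹ᵁ V ≤ f ⁻¹ᵁ V) hx' m]
  have h1 := curryAtL_gmM (pullPair f ε) x (f ⁻¹ᵁ V) hx' (cUV f E le_rfl m) (cUV f D le_rfl d)
  have h2 := curryAtL_gmM ε (f x) V hx m d
  refine (congrArg (toO x) h1).trans ?_
  refine Eq.trans ?_ (congrArg (fun t => (f.stalkMap x).hom (toO (f x) t)) h2).symm
  rw [pullPair_tm]
  refine (toO_germ x (f ⁻¹ᵁ V) hx' _).trans ?_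
  have h3 : toO (f x) (gmM (f x) (Coh.structureModule Y) V hx (ε.app V (tm E D V m d))) =
      Y.presheaf.germ V (f x) hx (SerreCrit.toFn (ε.app V (tm E D V m d))) :=
    toO_germ (f x) V hx (SerreCrit.toFn (ε.app V (tm E D V m d)))
  rw [h3]
  exact (Scheme.Hom.germ_stalkMap_apply f V x hx _).symm

end Pull

end

end Groth.Agent.Lib.PullDualH2
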