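import Mathlib
import Groth.Prelude
import Groth.Agent.Lib.PullDual1_helper2

/-!
# Perfect pairings of `O`-modules and their pullbacks, II (helper2)

* `curryAtL_pullPair`: the stalk formula for the pulled back pairing.
* `isPerfect_pullPair`: the pullback of a perfect pairing (with `E` finite locally free) is perfect.
* `cMapP ε P : P ⊗ D ⟶ 𝓗om(E, P)`, an isomorphism for a perfect pairing, `E` finite locally free.
APPEND-ONLY once landed.
-/

set_option autoImplicit false
set_option maxHeartbeats 1600000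
set_option linter.style.haveILetI false
universe u
open CategoryTheory CategoryTheory.Limits AlgebraicGeometry TopologicalSpace Opposite TensorProduct

namespace Groth.Agent.Lib.PullDualH2

open QcqsLoc SecOrdH8 FLFH8 QCohExtn RefHullH8 HomLinH8 Groth.Agent.Lib.StalkTensH3
  Groth.Agent.Lib.HomShAdjH2 Groth.Agent.Lib.PullTensIsoH3 PBH8 PullTensH9

noncomputable section

section Pull

variable {X Y : Scheme.{u}} (f : X ⟶ Y) {E D : Y.Modules}
  (ε : CohB1.tensorMod E D ⟶ Coh.structureModule Y)

/-- the stalk formula for the pulled back pairing -/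
lemma curryAtL_pullPair (x : X) (δ : D.presheaf.stalk (f x)) (a : E.presheaf.stalk (f x)) :
    toO x (curryAtL (pullPair f ε) x (PBH8.cStalkHom f D x δ) (PBH8.cStalkHom f E x a)) =
      (f.stalkMap x).hom (toO (f x) (curryAtL ε (f x) δ a)) := by
  obtain ⟨V₁, h₁, d₁, rfl⟩ := TopCat.Presheaf.exists_germ_eq (F := D.presheaf) δ
  obtain ⟨V₂, h₂, m₂, rfl⟩ := TopCat.Presheaf.exists_germ_eq (F := E.presheaf) a
  have hW : f x ∈ V₁ ⊓ V₂ := ⟨h₁, h₂⟩
  have e1 : D.presheaf.germ V₁ (f x) h₁ d₁ =
      D.presheaf.germ (V₁ ⊓ V₂) (f x) hW (rF D inf_le_left d₁) :=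
    (germ_rF D inf_le_left (f x) hW d₁).symm
  have e2 : E.presheaf.germ V₂ (f x) h₂ m₂ =
      E.presheaf.germ (V₁ ⊓ V₂) (f x) hW (rF E inf_le_right m₂) :=
    (germ_rF E inf_le_right (f x) hW m₂).symm
  rw [e1, e2]
  exact curryAtL_pullPair_germ f ε x (V₁ ⊓ V₂) hW _ _

/-- **the pullback of a perfect pairing is perfect** -/
theorem isPerfect_pullPair (hE : FlatMod.IsFinLocFree E) [D.IsQuasicoherent] (h : IsPerfect ε) :
    IsPerfect (pullPair f ε) := by
  haveI := isQuasicoherent_of_finLocFree E hE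
  haveI hfp := isFinitePresentation_of_finLocFree E hE
  intro x
  haveI : Module.Free (Y.presheaf.stalk (f x)) (E.presheaf.stalk (f x)) :=
    free_stalk_of_finLocFree E hE (f x)
  haveI : Module.Finite (Y.presheaf.stalk (f x)) (E.presheaf.stalk (f x)) :=
    SuppStalkH8.finite_stalk E (f x)
  letI alg : Algebra (Y.presheaf.stalk (f x)) (X.presheaf.stalk x) :=
    (f.stalkMap x).hom.toAlgebra
  letI mE : Module (Y.presheaf.stalk (f x))
      (((Scheme.Modules.pullback f).obj E).presheaf.stalk x) :=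
    Module.compHom _ (f.stalkMap x).hom
  haveI tE : IsScalarTower (Y.presheaf.stalk (f x)) (X.presheaf.stalk x)
      (((Scheme.Modules.pullback f).obj E).presheaf.stalk x) :=
    IsScalarTower.of_algebraMap_smul fun _ _ => rfl
  letI mD : Module (Y.presheaf.stalk (f x))
      (((Scheme.Modules.pullback f).obj D).presheaf.stalk x) :=
    Module.compHom _ (f.stalkMap x).hom
  haveI tD : IsScalarTower (Y.presheaf.stalk (f x)) (X.presheaf.stalk x)
      (((Scheme.Modules.pullback f).obj D).presheaf.stalk x) :=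
    IsScalarTower.of_algebraMap_smul fun _ _ => rfl
  have ibcE := PBH8.isBaseChange_cStalk f E x
  have ibcD := PBH8.isBaseChange_cStalk f D x
  -- the dual of `E_y`
  let e : D.presheaf.stalk (f x) ≃ₗ[Y.presheaf.stalk (f x)]
      Module.Dual (Y.presheaf.stalk (f x)) (E.presheaf.stalk (f x)) :=
    (LinearEquiv.ofBijective (curryAtL ε (f x)) (h (f x))).trans
      (LinearEquiv.congrRight (CycLenH8.stalkStructureEquiv (f x)).symm)
  have he : ∀ δ a, e δ a = toO (f x) (curryAtL ε (f x) δ a) := fun δ a => rfl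
  let Ψ : ((Scheme.Modules.pullback f).obj D).presheaf.stalk x ≃ₗ[X.presheaf.stalk x]
      Module.Dual (X.presheaf.stalk x) (((Scheme.Modules.pullback f).obj E).presheaf.stalk x) :=
    ibcD.equiv.symm ≪≫ₗ
      (TensorProduct.AlgebraTensorModule.congr (LinearEquiv.refl (X.presheaf.stalk x)
        (X.presheaf.stalk x)) e) ≪≫ₗ ibcE.toDualBaseChange
  let cr : RefHull.StalkHom ((Scheme.Modules.pullback f).obj E) (Coh.structureModule X) x ≃ₗ[
      X.presheaf.stalk x]
      Module.Dual (X.presheaf.stalk x) (((Scheme.Modules.pullback f).obj E).presheaf.stalk x) :=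
    LinearEquiv.congrRight (CycLenH8.stalkStructureEquiv x).symm
  have hcr : ∀ l a, cr l a = toO x (l a) := fun l a => rfl
  have key : cr.toLinearMap ∘ₗ curryAtL (pullPair f ε) x = Ψ.toLinearMap := by
    refine ibcD.algHom_ext _ _ (fun δ => ?_)
    refine ibcE.algHom_ext _ _ (fun a => ?_)
    have hL : ((cr.toLinearMap ∘ₗ curryAtL (pullPair f ε) x) (PBH8.cStalkLin f D x δ))
        (PBH8.cStalkLin f E x a) =
        toO x (curryAtL (pullPair f ε) x (PBH8.cStalkHom f D x δ) (PBH8.cStalkHom f E x a)) := rfl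
    have hR : (Ψ.toLinearMap (PBH8.cStalkLin f D x δ)) (PBH8.cStalkLin f E x a) =
        (f.stalkMap x).hom (e δ a) := by
      show (ibcE.toDualBaseChange ((TensorProduct.AlgebraTensorModule.congr
        (LinearEquiv.refl (X.presheaf.stalk x) (X.presheaf.stalk x)) e)
          (ibcD.equiv.symm (PBH8.cStalkLin f D x δ)))) (PBH8.cStalkLin f E x a) = _
      rw [IsBaseChange.equiv_symm_apply, TensorProduct.AlgebraTensorModule.congr_tmul,
        IsBaseChange.toDualBaseChange_tmul, LinearEquiv.refl_apply, one_mul]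
      rfl
    refine hL.trans ((curryAtL_pullPair f ε x δ a).trans ?_)
    rw [← he δ a]
    exact hR.symm
  have hfun : (curryAtL (pullPair f ε) x :
      ((Scheme.Modules.pullback f).obj D).presheaf.stalk x → _) = cr.symm ∘ Ψ := by
    funext w
    have := LinearMap.congr_fun key w
    show curryAtL (pullPair f ε) x w = cr.symm (Ψ w)
    rw [LinearEquiv.eq_symm_apply]
    exact this
  rw [hfun]
  exact cr.symm.bijective.comp Ψ.bijective

end Pull

section CMapP

variable {X : Scheme.{u}} {E D : X.Modules}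
  (ε : CohB1.tensorMod E D ⟶ Coh.structureModule X) (P : X.Modules)

/-- `P ⊗ D ⟶ 𝓗om(E, P)`, `p ⊗ d ↦ (e ↦ ε(e ⊗ d) • p)` -/
def cMapP : CohB1.tensorMod P D ⟶ RefHull.homSh E P :=
  ((DCoh.tensorBi (X := X)).obj P).map (curry ε) ≫ cMap E P

lemma cMapP_tm (U : X.Opens) (p : Γ(P, U)) (d : Γ(D, U)) :
    (cMapP ε P).app U (tm P D U p d) = scal E P U p ((curry ε).app U d) := by
  show (cMap E P).app U ((((DCoh.tensorBi (X := X)).obj P).map (curry ε)).app U (tm P D U p d)) = _
  rw [tensorBi_obj_map_tm, cMap_tm]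

theorem isIso_cMapP (hE : FlatMod.IsFinLocFree E) (h : IsPerfect ε) : IsIso (cMapP ε P) := by
  haveI := isQuasicoherent_of_finLocFree E hE
  have hfp := isFinitePresentation_of_finLocFree E hE
  haveI : IsIso (curry ε) := isIso_curry_of_isPerfect hfp ε h
  haveI : IsIso (cMap E P) := isIso_cMap P hE
  have h1 : IsIso (((DCoh.tensorBi (X := X)).obj P).map (curry ε)) := Functor.map_isIso _ _
  exact IsIso.comp_isIso' h1 (isIso_cMap P hE)

lemma cMapP_evPair : cMapP (evPair E) P = cMap E P := by
  unfold cMapP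
  rw [curry_evPair, CategoryTheory.Functor.map_id]
  exact Category.id_comp (cMap E P)

end CMapP

end

end Groth.Agent.Lib.PullDualH2
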