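import Mathlib
import Groth.Prelude
import Groth.Agent.Lib.PullDual2_helper2
import Groth.Agent.Lib.KFlatSite7_helper2
import Groth.Agent.Lib.TensInv2_helper9
import Groth.Agent.Lib.DualLF5_helper4

/-!
# Reflexivity of finite locally free modules and `- ⊗ E ≅ 𝓗om(E^∨, -)` (helper2)
APPEND-ONLY once landed.
-/

set_option autoImplicit false
set_option maxHeartbeats 1600000
set_option linter.style.haveILetI false
universe u
open CategoryTheory CategoryTheory.Limits AlgebraicGeometry TopologicalSpace Opposite TensorProduct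
  MonoidalCategory

namespace Groth.Agent.Lib.RelExtProjH2

open QcqsLoc SecOrdH8 FLFH8 QCohExtn RefHullH8 HomLinH8 Groth.Agent.Lib.StalkTensH3
  Groth.Agent.Lib.HomShAdjH2 Groth.Agent.Lib.PullDualH2 Groth.Agent.TensInv

noncomputable section

section Alg

variable {R : Type u} [CommRing R] {E D O' : Type u} [AddCommGroup E] [Module R E]
  [AddCommGroup D] [Module R D] [AddCommGroup O'] [Module R O']

/-- for `E` finite free and `O' ≅ R`: if `D → Hom(E, O')` is bijective, so is the flipped map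
`E → Hom(D, O')` -/
theorem flip_bijective [Module.Finite R E] [Module.Free R E] (t : O' ≃ₗ[R] R)
    (Φ : D →ₗ[R] (E →ₗ[R] O')) (hΦ : Function.Bijective Φ) : Function.Bijective Φ.flip := by
  let Φe : D ≃ₗ[R] (E →ₗ[R] O') := LinearEquiv.ofBijective Φ hΦ
  let c : (E →ₗ[R] O') ≃ₗ[R] Module.Dual R E := LinearEquiv.congrRight t
  let θ : D ≃ₗ[R] Module.Dual R E := Φe.trans c
  let ρ : (D →ₗ[R] O') ≃ₗ[R] Module.Dual R (Module.Dual R E) := LinearEquiv.arrowCongr θ t
  have h : ∀ a : E, ρ (Φ.flip a) = Module.evalEquiv R E a := by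
    intro a
    apply LinearMap.ext
    intro φ
    show t ((Φ.flip a) (θ.symm φ)) = φ a
    have h1 : θ (θ.symm φ) = φ := θ.apply_symm_apply φ
    have h2 : θ (θ.symm φ) a = t (Φ (θ.symm φ) a) := rfl
    rw [LinearMap.flip_apply, ← h2, h1]
  have h' : (Φ.flip : E → (D →ₗ[R] O')) = ρ.symm ∘ Module.evalEquiv R E := by
    funext a
    exact (ρ.symm_apply_eq.2 (h a).symm).symm
  rw [h']
  exact ρ.symm.bijective.comp (Module.evalEquiv R E).bijective

end Alg

variable {X : Scheme.{u}}

lemma comm_tm (A B : X.Modules) (U : X.Opens) (a : Γ(A, U)) (b : Γ(B, U)) :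
    (comm A B).hom.app U (tm A B U a b) = tm B A U b a := by
  have h0 : (comm A B).hom =
      (CohB1.sheafifyMod X).map (β_ (CohB1.toPMod A) (CohB1.toPMod B)).hom :=
    Groth.Agent.Lib.KFlatSite.sigmaIso_hom_app X.sheaf A B
  rw [h0]
  have h := shP_map_eta (M := A) (N := B) (M' := B) (N' := A)
    (β_ (CohB1.toPMod A) (CohB1.toPMod B)).hom U (a ⊗ₜ b)
  exact h

section Refl

variable {E D N : X.Modules}

lemma curryAtL_swap (ε : CohB1.tensorMod E D ⟶ N) (x : X) (a : ↑((stk x).obj E))
    (b : ↑((stk x).obj D)) :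
    curryAtL ((comm D E).hom ≫ ε) x a b = curryAtL ε x b a := by
  obtain ⟨U, hxU, e, rfl⟩ := exists_gmM x E a
  obtain ⟨V, hxV, d, rfl⟩ := exists_gmM x D b
  have hxW : x ∈ U ⊓ V := ⟨hxU, hxV⟩
  rw [← gmM_res x E (inf_le_left : U ⊓ V ≤ U) hxW e, ← gmM_res x D (inf_le_right : U ⊓ V ≤ V) hxW d,
    curryAtL_gmM, curryAtL_gmM]
  congr 1
  show ε.app _ ((comm D E).hom.app _ (tm D E _ _ _)) = _
  rw [comm_tm]

theorem isPerfect_swap (hE : FlatMod.IsFinLocFree E)
    (ε : CohB1.tensorMod E D ⟶ Coh.structureModule X) (h : IsPerfect ε) :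
    IsPerfect ((comm D E).hom ≫ ε) := by
  intro x
  haveI := isQuasicoherent_of_finLocFree E hE
  haveI hfp := isFinitePresentation_of_finLocFree E hE
  haveI : Module.Free (X.presheaf.stalk x) (E.presheaf.stalk x) := free_stalk_of_finLocFree E hE x
  haveI : Module.Finite (X.presheaf.stalk x) (E.presheaf.stalk x) := SuppStalkH8.finite_stalk E x
  have key := flip_bijective (R := X.presheaf.stalk x) (E := E.presheaf.stalk x)
    (D := D.presheaf.stalk x) (CycLenH8.stalkStructureEquiv x).symm (curryAtL ε x) (h x)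
  have h2 : (curryAtL ((comm D E).hom ≫ ε) x : ↑((stk x).obj E) → _) = (curryAtL ε x).flip := by
    funext a
    apply LinearMap.ext
    intro b
    exact curryAtL_swap ε x a b
  rw [h2]
  exact key

variable (E) in
/-- the evaluation pairing with the factors swapped, `E^∨ ⊗ E ⟶ O_X` -/
def swapPair : CohB1.tensorMod (RefHull.dual E) E ⟶ Coh.structureModule X :=
  (comm (RefHull.dual E) E).hom ≫ evPair E

theorem isPerfect_swapPair (hE : FlatMod.IsFinLocFree E) : IsPerfect (swapPair E) := by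
  haveI := isQuasicoherent_of_finLocFree E hE
  exact isPerfect_swap hE _ (isPerfect_evPair (isFinitePresentation_of_finLocFree E hE))

/-- **reflexivity**: `E ≅ E^∨∨` for `E` finite locally free -/
def reflIso (hE : FlatMod.IsFinLocFree E) : E ≅ RefHull.dual (RefHull.dual E) :=
  haveI := isQuasicoherent_of_finLocFree (RefHull.dual E) (isFinLocFree_dual hE)
  haveI : IsIso (curry (swapPair E)) :=
    isIso_curry_of_isPerfect
      (isFinitePresentation_of_finLocFree (RefHull.dual E) (isFinLocFree_dual hE))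
      (swapPair E) (isPerfect_swapPair hE)
  asIso (curry (swapPair E))

/-- `- ⊗ E ≅ 𝓗om(E^∨, -)` for `E` finite locally free -/
def tRIsoSheafHomDual (hE : FlatMod.IsFinLocFree E)
    [ModSite.HasSheafHom (O := X.sheaf) (RefHull.dual E)] :
    tR E ≅ ModSite.sheafHom (O := X.sheaf) (RefHull.dual E) :=
  (tB X).flip.mapIso (reflIso hE) ≪≫ (kappa (RefHull.dual E) (isFinLocFree_dual hE)).symm

end Refl

end

end Groth.Agent.Lib.RelExtProjH2
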