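import Mathlib
import Groth.Prelude
import Groth.Agent.Lib.RelExtProj1_helper2
import Groth.Agent.Lib.PForm3_helper9
import Groth.Agent.Lib.DualLF6_helper4
import Groth.Agent.Lib.PB9_helper8

/-!
# Relative Ext sheaves, finite locally free twists and the projection formula (helper2)
APPEND-ONLY once landed.
-/

set_option autoImplicit false
set_option maxHeartbeats 1600000
set_option linter.style.haveILetI false
universe u
open CategoryTheory CategoryTheory.Limits AlgebraicGeometry TopologicalSpace Opposite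

namespace Groth.Agent.Lib.RelExtProjH2

open ModSite Groth.Agent.Lib.ModSiteH8 Groth.Agent.Lib.DualLFH4 Groth.Agent.Lib.HomShAdjH2
  Groth.Agent.TensInv

noncomputable section

variable {X Y : Scheme.{u}}

theorem hsh (M : ModSite.Mod X.sheaf) : ModSite.HasSheafHom (O := X.sheaf) M := hasSheafHom _ M

attribute [local instance] hsh

/-- `- ⊗ E` on `Mod X.sheaf` -/
abbrev tRm (E : ModSite.Mod X.sheaf) : ModSite.Mod X.sheaf ⥤ ModSite.Mod X.sheaf :=
  (tensorBi X.sheaf).flip.obj E

/-- `E ⊗ -` on `Mod X.sheaf` -/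
abbrev tLm (E : ModSite.Mod X.sheaf) : ModSite.Mod X.sheaf ⥤ ModSite.Mod X.sheaf :=
  (tensorBi X.sheaf).obj E

/-- the pushforward as a functor between the site-level module categories -/
abbrev pfm (f : X ⟶ Y) : ModSite.Mod X.sheaf ⥤ ModSite.Mod Y.sheaf :=
  Scheme.Modules.pushforward f

theorem pfm_additive (f : X ⟶ Y) :
    @Functor.Additive (ModSite.Mod X.sheaf) (ModSite.Mod Y.sheaf) inferInstance inferInstance
      inferInstance inferInstance (Scheme.Modules.pushforward f) :=
  inferInstanceAs ((Scheme.Modules.pushforward f).Additive)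

theorem pfm_isRightAdjoint (f : X ⟶ Y) :
    @Functor.IsRightAdjoint (ModSite.Mod Y.sheaf) inferInstance (ModSite.Mod X.sheaf) inferInstance
      (Scheme.Modules.pushforward f) :=
  inferInstanceAs ((Scheme.Modules.pushforward f).IsRightAdjoint)

attribute [local instance] pfm_additive pfm_isRightAdjoint

/-- the iso `- ⊗ E ≅ 𝓗om(E^∨, -)` restated on `Mod X.sheaf` -/
def tRmIso (E : X.Modules) (hE : FlatMod.IsFinLocFree E) :
    tRm E ≅ ModSite.sheafHom (O := X.sheaf) (RefHull.dual E) :=
  tRIsoSheafHomDual hE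

theorem tRm_preservesFiniteLimits (E : X.Modules) (hE : FlatMod.IsFinLocFree E) :
    PreservesFiniteLimits (tRm E) := by
  haveI : PreservesFiniteLimits (ModSite.sheafHom (O := X.sheaf) (RefHull.dual E)) :=
    sheafHom_preservesFiniteLimits _
  exact preservesFiniteLimits_of_natIso (tRmIso E hE).symm

theorem sheafHom_preservesInjectiveObjects (E : X.Modules) (hE : FlatMod.IsFinLocFree E) :
    (ModSite.sheafHom (O := X.sheaf) E).PreservesInjectiveObjects := by
  haveI := flip_preservesMono_of_isFinLocFree E hE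
  exact Functor.preservesInjectiveObjects_of_adjunction_of_preservesMonomorphisms
    (ModSite.sheafHomAdj (O := X.sheaf) E)

theorem tRm_preservesInjectiveObjects (E : X.Modules) (hE : FlatMod.IsFinLocFree E) :
    (tRm E).PreservesInjectiveObjects := by
  haveI := sheafHom_preservesInjectiveObjects (RefHull.dual E) (isFinLocFree_dual hE)
  constructor
  intro I hI
  haveI : Injective ((ModSite.sheafHom (O := X.sheaf) (RefHull.dual E)).obj I) :=
    Functor.injective_obj _ I
  exact Injective.of_iso ((tRmIso E hE).app I).symm inferInstance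

/-- `𝓗om(F, G) ⊗ E ≅ 𝓗om(F, G ⊗ E)` for `E` finite locally free, naturally in `G` -/
def deltaIso (F E : X.Modules) (hE : FlatMod.IsFinLocFree E) :
    ModSite.sheafHom (O := X.sheaf) F ⋙ tRm E ≅ tRm E ⋙ ModSite.sheafHom (O := X.sheaf) F :=
  Functor.isoWhiskerLeft _ (tRmIso E hE) ≪≫
    (homTensorIso X.sheaf (RefHull.dual E) F).symm ≪≫
    sheafHomCongr X.sheaf ((sigmaIso X.sheaf (RefHull.dual E)).app F) ≪≫
    homTensorIso X.sheaf F (RefHull.dual E) ≪≫
    Functor.isoWhiskerRight (tRmIso E hE).symm _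

/-- helper9's left tensoring functor is the site-level one -/
def TLIso (E : X.Modules) : PFormH9.TL E ≅ tLm E := Iso.refl _

/-- the projection formula with the finite locally free factor on the right -/
def pjR (f : X ⟶ Y) (N : Y.Modules) (hN : FlatMod.IsFinLocFree N) :
    pfm f ⋙ tRm N ≅ tRm ((Scheme.Modules.pullback f).obj N) ⋙ pfm f :=
  Functor.isoWhiskerLeft (pfm f) (sigmaIso Y.sheaf N).symm ≪≫
    Functor.isoWhiskerLeft (pfm f) (TLIso N).symm ≪≫
    PFormH9.projIso f N hN ≪≫
    Functor.isoWhiskerRight (TLIso ((Scheme.Modules.pullback f).obj N)) (pfm f) ≪≫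
    Functor.isoWhiskerRight (sigmaIso X.sheaf ((Scheme.Modules.pullback f).obj N)) (pfm f)

/-- `f_* 𝓗om(F, G) ⊗ N ≅ f_* 𝓗om(F, G ⊗ f^* N)`, naturally in `G` -/
def gammaIso (f : X ⟶ Y) (F : X.Modules) (N : Y.Modules) (hN : FlatMod.IsFinLocFree N) :
    (ModSite.sheafHom (O := X.sheaf) F ⋙ pfm f) ⋙ tRm N ≅
      tRm ((Scheme.Modules.pullback f).obj N) ⋙ (ModSite.sheafHom (O := X.sheaf) F ⋙ pfm f) :=
  Functor.associator _ _ _ ≪≫
    Functor.isoWhiskerLeft _ (pjR f N hN) ≪≫
    (Functor.associator _ _ _).symm ≪≫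
    Functor.isoWhiskerRight
      (deltaIso F ((Scheme.Modules.pullback f).obj N) (PBH8.isFinLocFree_pullback f hN)) (pfm f) ≪≫
    Functor.associator _ _ _

/-- S16282 -/
theorem main16282 (f : X ⟶ Y) (F G L : X.Modules) (N : Y.Modules)
    (hL : FlatMod.IsFinLocFree L) (hN : FlatMod.IsFinLocFree N) (p : ℕ)
    [HasInjectiveResolutions (ModSite.Mod X.sheaf)] :
    Nonempty (((ModSite.sheafHom (O := X.sheaf) (CohB1.tensorMod F L) ⋙ pfm f).rightDerived p).obj
        (CohB1.tensorMod G ((Scheme.Modules.pullback f).obj N)) ≅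
      CohB1.tensorMod (((ModSite.sheafHom (O := X.sheaf) F ⋙ pfm f).rightDerived p).obj
        (CohB1.tensorMod G
          ((ModSite.sheafHom (O := X.sheaf) L).obj (Coh.structureModule X)))) N) := by
  let E : X.Modules := (Scheme.Modules.pullback f).obj N
  have hE : FlatMod.IsFinLocFree E := PBH8.isFinLocFree_pullback f hN
  let TF : ModSite.Mod X.sheaf ⥤ ModSite.Mod Y.sheaf :=
    ModSite.sheafHom (O := X.sheaf) F ⋙ pfm f
  haveI := sheafHom_preservesFiniteColimits L hL
  haveI := sheafHom_preservesFiniteLimits L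
  haveI := sheafHom_preservesInjectiveObjects L hL
  haveI := tRm_preservesFiniteLimits E hE
  haveI := tRm_preservesInjectiveObjects E hE
  haveI := tRm_preservesFiniteLimits N hN
  let e1 : ModSite.sheafHom (O := X.sheaf) (CohB1.tensorMod F L) ⋙ pfm f ≅
      ModSite.sheafHom (O := X.sheaf) L ⋙ TF :=
    Functor.isoWhiskerRight (homTensorIso X.sheaf F L) (pfm f) ≪≫ Functor.associator _ _ _
  let e2 := DerivedCommH8.rightDerivedNatIso e1 p
  let e3 := DerivedCommH8.rightDerivedPrecompIso (ModSite.sheafHom (O := X.sheaf) L) TF p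
  let e6 := DerivedCommH8.rightDerivedBaseChange TF TF (tRm E) (tRm N) (gammaIso f F N hN) p
  let D : X.Modules := (ModSite.sheafHom (O := X.sheaf) L).obj (Coh.structureModule X)
  let e4 : (ModSite.sheafHom (O := X.sheaf) L).obj (CohB1.tensorMod G E) ≅
      CohB1.tensorMod (CohB1.tensorMod G E) D :=
    ((sheafHomDualIso L hL).app (CohB1.tensorMod G E)).symm
  let e5 : CohB1.tensorMod (CohB1.tensorMod G E) D ≅ CohB1.tensorMod (CohB1.tensorMod G D) E :=
    assoc G E D ≪≫ mapL G (comm E D) ≪≫ (assoc G D E).symm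
  have i1 : ((ModSite.sheafHom (O := X.sheaf) (CohB1.tensorMod F L) ⋙ pfm f).rightDerived p).obj
      (CohB1.tensorMod G E) ≅ (TF.rightDerived p).obj
        ((ModSite.sheafHom (O := X.sheaf) L).obj (CohB1.tensorMod G E)) :=
    e2.app (CohB1.tensorMod G E) ≪≫ e3.app (CohB1.tensorMod G E)
  have i2 : (TF.rightDerived p).obj ((ModSite.sheafHom (O := X.sheaf) L).obj (CohB1.tensorMod G E)) ≅
      (TF.rightDerived p).obj (CohB1.tensorMod (CohB1.tensorMod G D) E) :=
    (TF.rightDerived p).mapIso (e4 ≪≫ e5)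
  have i3 : CohB1.tensorMod ((TF.rightDerived p).obj (CohB1.tensorMod G D)) N ≅
      (TF.rightDerived p).obj (CohB1.tensorMod (CohB1.tensorMod G D) E) :=
    e6.app (CohB1.tensorMod G D)
  exact ⟨i1 ≪≫ i2 ≪≫ i3.symm⟩

end

end Groth.Agent.Lib.RelExtProjH2
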