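import Mathlib
import Groth.Prelude
import Groth.Agent.Lib.LocGlobExt_helper4
import Groth.Agent.Lib.RelExtProj2_helper2
import Groth.Agent.Lib.DerivedComm_helper8
import Groth.Agent.Lib.ClImmTw1_helper9
import Groth.Agent.Lib.ExtDual1_helper9

/-!
# Ext sheaves, twists and global Ext groups on a scheme (helper4)

* `nonempty_extSh_tensor_iso`: `ℰxt^q(F, W) ⊗ E ≅ ℰxt^q(F, W ⊗ E)` for `E` finite locally free;
* `subsingleton_ext_iff_hom_unit`: if the `ℰxt^q(M, N)`, `q ≤ i`, have no higher cohomology then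
  `Ext^i(M, N) = 0 ↔ Γ(ℰxt^i(M, N)) = 0`;
* `subsingleton_HH_push_iff`, `nonempty_push_pullback_iso`: cohomology on a closed subscheme;
* `subsingleton_ext_equiv_iff`: vanishing of Ext groups under an additive auto-equivalence.
APPEND-ONLY once landed.
-/

set_option autoImplicit false
set_option linter.style.haveILetI false
set_option backward.isDefEq.respectTransparency.types false
set_option maxHeartbeats 1600000
universe u
open CategoryTheory CategoryTheory.Limits AlgebraicGeometry Opposite Abelian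

namespace Groth.Agent.Lib.ProjExtVanH4

open ModSite Groth.Agent.Lib.ModSiteH8 Groth.Agent.Lib.ModFree Groth.Agent.Lib.LocGlobExtH4
open Groth.Agent.Lib.RelExtProjH2

variable {X : Scheme.{u}}

/-- `ℰxt^q(F, W) ⊗ E ≅ ℰxt^q(F, W ⊗ E)` for `E` finite locally free. -/
theorem nonempty_extSh_tensor_iso [HasInjectiveResolutions (ModSite.Mod X.sheaf)]
    (F E W : X.Modules) (hE : FlatMod.IsFinLocFree E)
    [ModSite.HasSheafHom (O := X.sheaf) F] (q : ℕ) :
    Nonempty (CohB1.tensorMod ((ModSite.extSh (O := X.sheaf) F q).obj W) E ≅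
      (ModSite.extSh (O := X.sheaf) F q).obj (CohB1.tensorMod W E)) := by
  haveI := tRm_preservesFiniteLimits E hE
  haveI := tRm_preservesInjectiveObjects E hE
  exact ⟨(DerivedCommH8.rightDerivedBaseChange (ModSite.sheafHom (O := X.sheaf) F)
    (ModSite.sheafHom (O := X.sheaf) F) (tRm E) (tRm E) (deltaIso F E hE) q).app W⟩

/-- if the Ext sheaves `ℰxt^q(M, N)`, `q ≤ i`, have no higher cohomology, then `Ext^i(M, N)`
vanishes iff `ℰxt^i(M, N)` has no global sections. -/
theorem subsingleton_ext_iff_hom_unit [HasInjectiveResolutions (ModSite.Mod X.sheaf)]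
    [HasExt.{u} X.Modules] (M N : X.Modules) [ModSite.HasSheafHom (O := X.sheaf) M] (i : ℕ)
    (h : ∀ q : ℕ, q ≤ i → ∀ p : ℕ,
      Subsingleton (Coh.HH X ((ModSite.extSh (O := X.sheaf) M q).obj N) (p + 1))) :
    Subsingleton (Abelian.Ext.{u} M N i) ↔
      Subsingleton (Coh.structureModule X ⟶ (ModSite.extSh (O := X.sheaf) M i).obj N) := by
  have h' : ∀ q : ℕ, q ≤ i → ∀ p : ℕ, IsZero (((Γf X.sheaf).rightDerived (p + 1)).obj
      ((ModSite.extSh (O := X.sheaf) M q).obj N)) := by
    intro q hq p
    obtain ⟨e⟩ := nonempty_rightDerived_homUnit_iso_HC X.sheaf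
      ((ModSite.extSh (O := X.sheaf) M q).obj N) (p + 1)
    refine IsZero.of_iso ?_ e
    haveI : Subsingleton (ModSite.HC X.sheaf ((ModSite.extSh (O := X.sheaf) M q).obj N) (p + 1)) :=
      h q hq p
    exact AddCommGrpCat.isZero_of_subsingleton _
  obtain ⟨e⟩ := @nonempty_ext_iso_sections _ _ _ X.sheaf _ ‹HasExt.{u} X.Modules› M N _ i h'
  constructor
  · intro hs
    have hz : IsZero (AddCommGrpCat.of (Abelian.Ext.{u} M N i)) :=
      AddCommGrpCat.isZero_of_subsingleton _
    exact AddCommGrpCat.subsingleton_of_isZero (hz.of_iso e.symm)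
  · intro hs
    have hz : IsZero ((Γf X.sheaf).obj ((ModSite.extSh (O := X.sheaf) M i).obj N)) := by
      have hz' : IsZero (AddCommGrpCat.of
          (ModSite.unit X.sheaf ⟶ (ModSite.extSh (O := X.sheaf) M i).obj N)) := by
        haveI : Subsingleton
          (ModSite.unit X.sheaf ⟶ (ModSite.extSh (O := X.sheaf) M i).obj N) := hs
        exact AddCommGrpCat.isZero_of_subsingleton _
      exact hz'
    exact AddCommGrpCat.subsingleton_of_isZero (hz.of_iso e)

section Push

variable {Y : Scheme.{u}} (i : X ⟶ Y)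

/-- cohomology of `G` on a closed subscheme vanishes iff the cohomology of `i_* G` does. -/
theorem subsingleton_HH_push_iff [IsClosedImmersion i] (G : X.Modules) (j : ℕ) :
    Subsingleton (Coh.HH Y ((Scheme.Modules.pushforward i).obj G) j) ↔
      Subsingleton (Coh.HH X G j) := by
  obtain ⟨e⟩ := _root_.Leray.nonempty_H_addEquiv_push i.base (Coh.toAb G)
    (fun q => _root_.RpushVanish.isZero_Rpush_succ_of_isClosedEmbedding i.base
      i.isClosedEmbedding (Coh.toAb G) q) j
  constructor
  · intro h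
    haveI : Subsingleton (CohTop.H ((CohTop.push i.base).obj (Coh.toAb G)) j) := h
    exact e.toEquiv.subsingleton
  · intro h
    haveI : Subsingleton (CohTop.H (Coh.toAb G) j) := h
    have : Subsingleton (CohTop.H ((CohTop.push i.base).obj (Coh.toAb G)) j) :=
      e.symm.toEquiv.subsingleton
    exact this

/-- `i_* i^* E ≅ i_* O_X ⊗ E` for `E` finite locally free. -/
theorem nonempty_push_pullback_iso (E : Y.Modules) (hE : FlatMod.IsFinLocFree E) :
    Nonempty ((Scheme.Modules.pushforward i).obj ((Scheme.Modules.pullback i).obj E) ≅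
      CohB1.tensorMod ((Scheme.Modules.pushforward i).obj (Coh.structureModule X)) E) :=
  ⟨(Scheme.Modules.pushforward i).mapIso
      ((Groth.Agent.TensInv.rightUnit _).symm ≪≫ Groth.Agent.TensInv.comm _ _) ≪≫
    Groth.Agent.ClImmTw.pushTwistIso i E hE (Coh.structureModule X)⟩

end Push

section Equiv

variable {C : Type*} [Category C] [Abelian C]

/-- vanishing of `Ext` groups is invariant under an additive auto-equivalence. -/
theorem subsingleton_ext_equiv_iff [HasExt C] [EnoughInjectives C] (T : C ⥤ C) [T.IsEquivalence]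
    [T.Additive] (A B : C) (n : ℕ) :
    Subsingleton (Ext (T.obj A) (T.obj B) n) ↔ Subsingleton (Ext A B n) :=
  ⟨Groth.Agent.ExtDual.subsingleton_ext_of_equiv T A B n, fun _ =>
    (Groth.Agent.ExtDual.bijective_mapExt T A B n).surjective.subsingleton⟩

theorem subsingleton_ext_iso_iff [HasExt C] {A A' B B' : C} (e₁ : A ≅ A') (e₂ : B ≅ B') (n : ℕ) :
    Subsingleton (Ext A B n) ↔ Subsingleton (Ext A' B' n) :=
  ⟨Groth.Agent.ExtDual.subsingleton_ext_of_iso e₁.symm e₂.symm n,
    Groth.Agent.ExtDual.subsingleton_ext_of_iso e₁ e₂ n⟩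

end Equiv

end Groth.Agent.Lib.ProjExtVanH4
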