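import Mathlib
import Groth.Prelude
import Groth.Agent.Lib.ProjExtVan1_helper4
import Groth.Agent.Lib.ExtDual3_helper9
import Groth.Agent.Lib.ExtShCoh1_helper2

/-!
# Vanishing of Ext sheaves on projective space via Serre duality (helper4)

For a coherent `F` on `P = P^n_k`, `ω = O(-n-1)`:
`ℰxt^i(F, ω) = 0` iff `Ext^i(F(-m), ω) = 0` for `m ≫ 0` iff (`i ≤ n`) `H^{n-i}(P, F(-m)) = 0`
for `m ≫ 0`  (Hartshorne III.6.9, III.7.3, III.7.6).
APPEND-ONLY once landed.
-/

set_option autoImplicit false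
set_option linter.style.haveILetI false
set_option backward.isDefEq.respectTransparency.types false
set_option maxHeartbeats 1600000
universe u
open CategoryTheory CategoryTheory.Limits AlgebraicGeometry Opposite Abelian

namespace Groth.Agent.Lib.ProjExtVanH4

open Groth.Agent.ProjTens Groth.Agent.ProjCech Groth.Agent.TensInv Groth.Agent.ExtDual
open Groth.Agent.ProjFin

variable (n : ℕ) (k : Type u) [Field k]

theorem isCoh_twistBy' (F : (CohB1.ProjSpace n k).Modules) (hF : Coh.IsCoh F) (d : ℤ) :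
    Coh.IsCoh (CohB1.tensorMod F (OO n k d)) := by
  haveI : F.IsQuasicoherent := hF.1
  haveI : (OO n k d).IsQuasicoherent := Groth.Agent.ProjTw.isQuasicoherent_twist _ _
  exact ⟨TensQCH8.isQuasicoherent_tensorMod _ _,
    TensQCH8.isFiniteType_tensorMod F _ hF.2
      (Groth.Agent.ProjTw.isFiniteType_twist (𝒜 n k) (hcov' n k) _)⟩

theorem isCoh_twist (d : ℤ) : Coh.IsCoh (OO n k d) :=
  ⟨Groth.Agent.ProjTw.isQuasicoherent_twist (𝒜 n k) _,
    Groth.Agent.ProjTw.isFiniteType_twist (𝒜 n k) (hcov' n k) _⟩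

theorem isNoetherian_projSpace : AlgebraicGeometry.IsNoetherian (CohB1.ProjSpace n k) :=
  Groth.Agent.S2357.result (𝒜 n k)

/-- `F(-m)(m) ≅ F` -/
theorem nonempty_untwist_iso (F : (CohB1.ProjSpace n k).Modules) (a b : ℤ) (h : a + b = 0) :
    Nonempty (CohB1.tensorMod (CohB1.tensorMod F (OO n k a)) (OO n k b) ≅ F) := by
  obtain ⟨e⟩ := twist_inv n k a b h
  exact ⟨assoc F (OO n k a) (OO n k b) ≪≫ mapL F e ≪≫ rightUnit F⟩

/-- if `A ⊗ L ≅ O`, `- ⊗ L` is an equivalence and `E ⊗ L` has no global sections then every map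
`A ⟶ E` vanishes. -/
theorem hom_eq_zero_of_equiv {Y : Scheme.{u}} (L A E : Y.Modules) [(tR L).IsEquivalence]
    (e : CohB1.tensorMod A L ≅ Coh.structureModule Y)
    (hsub : Subsingleton (Coh.structureModule Y ⟶ CohB1.tensorMod E L)) (f : A ⟶ E) : f = 0 := by
  have h1 : e.inv ≫ (tR L).map f = 0 :=
    @Subsingleton.elim (Coh.structureModule Y ⟶ CohB1.tensorMod E L) hsub
      (e.inv ≫ (tR L).map f) 0
  have h2 : (tR L).map f = 0 := (cancel_epi e.inv).1 (h1.trans comp_zero.symm)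
  apply (tR L).map_injective
  rw [h2, Functor.map_zero]

/-- if `E(N)` has no global sections then every map `O(-N) ⟶ E` vanishes. -/
theorem hom_twist_eq_zero (E : (CohB1.ProjSpace n k).Modules) (N : ℤ)
    (hsub : Subsingleton (Coh.structureModule (CohB1.ProjSpace n k) ⟶
      CohB1.tensorMod E (OO n k N))) (f : OO n k (-N) ⟶ E) : f = 0 := by
  haveI := isEquivalence_tR_twist n k N
  obtain ⟨e⟩ := twist_inv n k (-N) N (by omega)
  exact hom_eq_zero_of_equiv (OO n k N) (OO n k (-N)) E e hsub f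

/-- a coherent module on `P^n_k` all of whose large twists have no global sections is zero. -/
theorem isZero_of_subsingleton_hom_twist (E : (CohB1.ProjSpace n k).Modules) (hE : Coh.IsCoh E)
    (h : ∃ m₁ : ℤ, ∀ m : ℤ, m₁ ≤ m →
      Subsingleton (Coh.structureModule (CohB1.ProjSpace n k) ⟶ CohB1.tensorMod E (OO n k m))) :
    IsZero E := by
  obtain ⟨m₁, hm₁⟩ := h
  obtain ⟨n₀, hn₀⟩ := Groth.Agent.ProjTw.exists_epi_coprod_twist (𝒜 n k) _
    (hs1_X n k) (hcov_X n k) E hE.1 hE.2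
  obtain ⟨N, hN0, hN1⟩ : ∃ N : ℕ, n₀ ≤ N ∧ m₁ ≤ (N : ℤ) := by
    refine ⟨max n₀ m₁.toNat, le_max_left _ _, ?_⟩
    have h1 := Int.self_le_toNat m₁
    have h2 : (m₁.toNat : ℤ) ≤ ((max n₀ m₁.toNat : ℕ) : ℤ) := by
      exact_mod_cast le_max_right _ _
    omega
  obtain ⟨r, p, hp⟩ := hn₀ N hN0
  have hp0 : p = 0 := by
    apply Sigma.hom_ext
    intro j
    rw [comp_zero]
    exact hom_twist_eq_zero n k E (N : ℤ) (hm₁ N hN1) _
  exact @IsZero.of_epi_eq_zero _ _ _ _ _ p hp hp0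

section Core

variable [HasExt.{u} (CohB1.ProjSpace n k).Modules]
  [HasInjectiveResolutions (ModSite.Mod (CohB1.ProjSpace n k).sheaf)]

omit [HasInjectiveResolutions (ModSite.Mod (CohB1.ProjSpace n k).sheaf)] in
/-- `Ext^i(F(-m), W) = 0 ↔ Ext^i(F, W(m)) = 0` -/
theorem subsingleton_ext_twist_iff' (F W : (CohB1.ProjSpace n k).Modules) (m : ℤ) (i : ℕ) :
    Subsingleton (Ext (CohB1.tensorMod F (OO n k (-m))) W i) ↔
      Subsingleton (Ext F (CohB1.tensorMod W (OO n k m)) i) := by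
  haveI := enoughInjectives_modules (CohB1.ProjSpace n k)
  haveI := isEquivalence_tR_twist n k m
  obtain ⟨e⟩ := nonempty_untwist_iso n k F (-m) m (by omega)
  rw [← subsingleton_ext_equiv_iff (tR (OO n k m)) (CohB1.tensorMod F (OO n k (-m))) W i]
  exact subsingleton_ext_iso_iff e (Iso.refl _) i

/-- the core comparison: for `m ≫ 0`, `Ext^i(F(-m), W) = 0` iff `ℰxt^i(F, W)(m)` has no global
sections. -/
theorem exists_ext_iff_hom (F W : (CohB1.ProjSpace n k).Modules) (hF : Coh.IsCoh F)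
    (hW : Coh.IsCoh W)
    [ModSite.HasSheafHom (O := (CohB1.ProjSpace n k).sheaf) F] (i : ℕ) :
    ∃ m₀ : ℤ, ∀ m : ℤ, m₀ ≤ m →
      (Subsingleton (Ext (CohB1.tensorMod F (OO n k (-m))) W i) ↔
        Subsingleton (Coh.structureModule (CohB1.ProjSpace n k) ⟶
          CohB1.tensorMod ((ModSite.extSh (O := (CohB1.ProjSpace n k).sheaf) F i).obj W)
            (OO n k m))) := by
  haveI := isNoetherian_projSpace n k
  have hE : ∀ q : ℕ, Coh.IsCoh ((ModSite.extSh (O := (CohB1.ProjSpace n k).sheaf) F q).obj W) :=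
    fun q => Groth.Agent.Lib.ExtShCohH2.isCoh_extSh q (CohB1.ProjSpace n k) F W hF hW
  have hv := fun q => serre_vanishing n k _ (hE q)
  choose D hD using hv
  refine ⟨(Finset.range (i + 1)).sup' ⟨0, by simp⟩ D, fun m hm => ?_⟩
  have hflf := Groth.Agent.ClImmTw.isFinLocFree_twist k n m
  rw [subsingleton_ext_twist_iff' n k F W m i]
  rw [subsingleton_ext_iff_hom_unit F (CohB1.tensorMod W (OO n k m)) i ?_]
  · obtain ⟨e⟩ := nonempty_extSh_tensor_iso F (OO n k m) W hflf i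
    exact (Iso.homCongr (Iso.refl _) e.symm).subsingleton_congr
  · intro q hq p
    obtain ⟨e⟩ := nonempty_extSh_tensor_iso F (OO n k m) W hflf q
    refine Groth.Agent.HHVan.subsingleton_of_iso e (p + 1) ?_
    exact hD q m (le_trans (Finset.le_sup' D (Finset.mem_range.mpr (by omega))) hm) (p + 1)
      (by omega)

/-- if `ℰxt^i(F, W) = 0` then `Ext^i(F(-m), W) = 0` for `m ≫ 0`. -/
theorem exists_subsingleton_ext_of_isZero (F W : (CohB1.ProjSpace n k).Modules) (hF : Coh.IsCoh F)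
    (hW : Coh.IsCoh W)
    [ModSite.HasSheafHom (O := (CohB1.ProjSpace n k).sheaf) F] (i : ℕ)
    (hz : IsZero ((ModSite.extSh (O := (CohB1.ProjSpace n k).sheaf) F i).obj W)) :
    ∃ m₀ : ℤ, ∀ m : ℤ, m₀ ≤ m → Subsingleton (Ext (CohB1.tensorMod F (OO n k (-m))) W i) := by
  obtain ⟨m₀, hm₀⟩ := exists_ext_iff_hom n k F W hF hW i
  refine ⟨m₀, fun m hm => (hm₀ m hm).mpr ?_⟩
  have hz' : IsZero (CohB1.tensorMod
      ((ModSite.extSh (O := (CohB1.ProjSpace n k).sheaf) F i).obj W) (OO n k m)) :=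
    (tR (OO n k m)).map_isZero hz
  exact ⟨fun a b => hz'.eq_of_tgt a b⟩

/-- if `Ext^i(F(-m), W) = 0` for `m ≫ 0` then `ℰxt^i(F, W) = 0`. -/
theorem isZero_extSh_of_subsingleton_ext (F W : (CohB1.ProjSpace n k).Modules) (hF : Coh.IsCoh F)
    (hW : Coh.IsCoh W)
    [ModSite.HasSheafHom (O := (CohB1.ProjSpace n k).sheaf) F] (i : ℕ)
    (h : ∃ m₁ : ℤ, ∀ m : ℤ, m₁ ≤ m → Subsingleton (Ext (CohB1.tensorMod F (OO n k (-m))) W i)) :
    IsZero ((ModSite.extSh (O := (CohB1.ProjSpace n k).sheaf) F i).obj W) := by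
  haveI := isNoetherian_projSpace n k
  obtain ⟨m₁, hm₁⟩ := h
  obtain ⟨m₀, hm₀⟩ := exists_ext_iff_hom n k F W hF hW i
  have hE : Coh.IsCoh ((ModSite.extSh (O := (CohB1.ProjSpace n k).sheaf) F i).obj W) :=
    Groth.Agent.Lib.ExtShCohH2.isCoh_extSh i (CohB1.ProjSpace n k) F W hF hW
  refine isZero_of_subsingleton_hom_twist n k _ hE ⟨max m₀ m₁, fun m hm => ?_⟩
  exact (hm₀ m (le_trans (le_max_left _ _) hm)).mp (hm₁ m (le_trans (le_max_right _ _) hm))

end Core

end Groth.Agent.Lib.ProjExtVanH4
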