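import Mathlib
import Groth.Prelude
import Groth.Agent.Lib.ProjExtVan2_helper4
import Groth.Agent.Lib.GV3_helper2

/-!
# Closed subschemes of projective space: vanishing of Ext sheaves (helper4)

`main11904`: `H^p(X, O_X(-m)) = 0` for `m ≫ 0` iff `ℰxt^{n-p}(ι_* O_X, ω_P) = 0`;
`main11324`: `ℰxt^i(ι_* O_X, ω_P) = 0` for `i < codim X`.
APPEND-ONLY once landed.
-/

set_option autoImplicit false
set_option linter.style.haveILetI false
set_option backward.isDefEq.respectTransparency.types false
set_option maxHeartbeats 1600000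
universe u
open CategoryTheory CategoryTheory.Limits AlgebraicGeometry Opposite Abelian

namespace Groth.Agent.Lib.ProjExtVanH4

open Groth.Agent.ProjTens Groth.Agent.ProjCech Groth.Agent.TensInv Groth.Agent.ExtDual

section General

variable {X : Scheme.{u}}

theorem subsingleton_HH_of_isZero (M : X.Modules) (h : IsZero M) (p : ℕ) :
    Subsingleton (Coh.HH X M p) := by
  refine ⟨fun x y => ?_⟩
  have hx : ∀ z : Coh.HH X M p, z = 0 := fun z => by
    have hz : IsZero (Coh.toAb M) := Functor.map_isZero (SerreCrit.TT X) h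
    have h1 := Abelian.Ext.comp_mk₀_id (show Abelian.Ext _ (Coh.toAb M) p from z)
    rw [hz.eq_of_src (𝟙 _) 0, Abelian.Ext.mk₀_zero, Abelian.Ext.comp_zero] at h1
    exact h1.symm
  rw [hx x, hx y]

theorem isZero_of_isEmpty [IsEmpty X] (F : X.Modules) : IsZero F :=
  CohDevH8.isZero_of_support_eq_empty F (Set.eq_empty_of_isEmpty _)

theorem topologicalKrullDim_nonneg (T : Type*) [TopologicalSpace T] [Nonempty T] :
    0 ≤ topologicalKrullDim T := by
  obtain ⟨x⟩ := ‹Nonempty T›
  haveI : Nonempty (TopologicalSpace.IrreducibleCloseds T) :=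
    ⟨⟨closure {x}, isIrreducible_singleton.closure, isClosed_closure⟩⟩
  exact Order.krullDim_nonneg

/-- Grothendieck vanishing for modules on a Noetherian scheme, including the empty scheme. -/
theorem subsingleton_HH_of_dim_lt [IsNoetherian X] (G : X.Modules) (p : ℕ)
    (h : topologicalKrullDim X < (p : WithBot ℕ∞)) : Subsingleton (Coh.HH X G p) := by
  by_cases hX : IsEmpty X
  · exact subsingleton_HH_of_isZero G (isZero_of_isEmpty G) p
  · rw [not_isEmpty_iff] at hX
    have h0 := topologicalKrullDim_nonneg X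
    obtain ⟨d, hd⟩ : ∃ d : ℕ, topologicalKrullDim X = (d : WithBot ℕ∞) := by
      generalize topologicalKrullDim X = D at h h0
      induction D using WithBot.recBotCoe with
      | bot => simp at h0
      | coe e =>
        have he : e < (p : ℕ∞) := by exact_mod_cast h
        have he' : e ≠ ⊤ := ne_top_of_lt he
        lift e to ℕ using he'
        exact ⟨e, rfl⟩
    rw [hd] at h
    have hdp : d < p := by exact_mod_cast h
    exact Groth.Agent.Lib.GVanH2.grothendieck_vanishing d hd.le (Coh.toAb G) p hdp

end General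

section Proj

variable (n : ℕ) (k : Type u) [Field k] {X : Scheme.{u}} (ι : X ⟶ CohB1.ProjSpace n k)
  [IsClosedImmersion ι]

theorem isCoh_push_structure :
    Coh.IsCoh ((Scheme.Modules.pushforward ι).obj (Coh.structureModule X)) :=
  CohDevH8.isCoh_pushforward_of_isFinite ι (CohDevH8.isCoh_structureModule X)

include ι in
theorem isNoetherian_of_closedImmersion : IsNoetherian X := by
  haveI := isNoetherian_projSpace n k
  haveI : IsLocallyNoetherian X := LocallyOfFiniteType.isLocallyNoetherian ι
  haveI : CompactSpace X := ι.isClosedEmbedding.compactSpace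
  exact {}

/-- `H^p(X, ι^* O(d)) = 0 ↔ H^p(P, ι_* O_X ⊗ O(d)) = 0` -/
theorem subsingleton_HH_pullback_twist_iff (d : ℤ) (p : ℕ) :
    Subsingleton (Coh.HH X ((Scheme.Modules.pullback ι).obj (OO n k d)) p) ↔
      Subsingleton (Coh.HH (CohB1.ProjSpace n k)
        (CohB1.tensorMod ((Scheme.Modules.pushforward ι).obj (Coh.structureModule X))
          (OO n k d)) p) := by
  rw [← subsingleton_HH_push_iff ι]
  obtain ⟨e⟩ := nonempty_push_pullback_iso ι (OO n k d)
    (Groth.Agent.ClImmTw.isFinLocFree_twist k n d)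
  exact ⟨Groth.Agent.HHVan.subsingleton_of_iso e p, Groth.Agent.HHVan.subsingleton_of_iso e.symm p⟩

variable [ModSite.HasSheafHom (O := (CohB1.ProjSpace n k).sheaf)
    ((Scheme.Modules.pushforward ι).obj (Coh.structureModule X))]
  [HasInjectiveResolutions (ModSite.Mod (CohB1.ProjSpace n k).sheaf)]

/-- Hartshorne III.7.6 (ii) ⇔ (iii), one degree at a time. -/
theorem main11904 (p : ℕ) (hp : p ≤ n) :
    (∃ m₀ : ℤ, ∀ m : ℤ, m₀ ≤ m → Subsingleton (Coh.HH X
        ((Scheme.Modules.pullback ι).obj (Twist.twistProjSpace n k (-m))) p)) ↔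
      IsZero ((ModSite.extSh (O := (CohB1.ProjSpace n k).sheaf)
        ((Scheme.Modules.pushforward ι).obj (Coh.structureModule X)) (n - p)).obj
          (Twist.twistProjSpace n k (-((n : ℤ) + 1)))) := by
  haveI := enoughInjectives_modules (CohB1.ProjSpace n k)
  haveI : HasExt.{u} (CohB1.ProjSpace n k).Modules :=
    hasExt_of_enoughInjectives.{u} (CohB1.ProjSpace n k).Modules
  have hF := isCoh_push_structure n k ι
  have hW := isCoh_twist n k (-((n : ℤ) + 1))
  have key : ∀ m : ℤ, Subsingleton (Coh.HH X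
      ((Scheme.Modules.pullback ι).obj (Twist.twistProjSpace n k (-m))) p) ↔
      Subsingleton (Ext (CohB1.tensorMod
        ((Scheme.Modules.pushforward ι).obj (Coh.structureModule X)) (OO n k (-m)))
          (ωP k n) (n - p)) := by
    intro m
    rw [subsingleton_HH_pullback_twist_iff n k ι (-m) p,
      ext_subsingleton_iff k n _ (isCoh_twistBy' n k _ hF (-m)) (n - p) (Nat.sub_le n p),
      Nat.sub_sub_self hp]
  constructor
  · rintro ⟨m₀, h⟩
    exact isZero_extSh_of_subsingleton_ext n k _ _ hF hW (n - p)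
      ⟨m₀, fun m hm => (key m).mp (h m hm)⟩
  · intro hz
    obtain ⟨m₀, h⟩ := exists_subsingleton_ext_of_isZero n k _ _ hF hW (n - p) hz
    exact ⟨m₀, fun m hm => (key m).mpr (h m hm)⟩

/-- Hartshorne III.7.3. -/
theorem main11324 (r : ℕ)
    (hr : topologicalKrullDim ↥X + (r : WithBot ℕ∞) ≤ (n : WithBot ℕ∞)) (i : ℕ) (hi : i < r) :
    IsZero ((ModSite.extSh (O := (CohB1.ProjSpace n k).sheaf)
      ((Scheme.Modules.pushforward ι).obj (Coh.structureModule X)) i).obj
        (Twist.twistProjSpace n k (-((n : ℤ) + 1)))) := by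
  haveI := enoughInjectives_modules (CohB1.ProjSpace n k)
  haveI : HasExt.{u} (CohB1.ProjSpace n k).Modules :=
    hasExt_of_enoughInjectives.{u} (CohB1.ProjSpace n k).Modules
  haveI := isNoetherian_of_closedImmersion n k ι
  have hF := isCoh_push_structure n k ι
  have hW := isCoh_twist n k (-((n : ℤ) + 1))
  refine isZero_extSh_of_subsingleton_ext n k _ _ hF hW i ⟨0, fun m _ => ?_⟩
  by_cases hin : i ≤ n
  · rw [ext_subsingleton_iff k n _ (isCoh_twistBy' n k _ hF (-m)) i hin,
      ← subsingleton_HH_pullback_twist_iff n k ι (-m) (n - i)]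
    apply subsingleton_HH_of_dim_lt
    generalize topologicalKrullDim ↥X = D at hr
    induction D using WithBot.recBotCoe with
    | bot => exact WithBot.bot_lt_coe _
    | coe e =>
      have he : e + (r : ℕ∞) ≤ (n : ℕ∞) := by exact_mod_cast hr
      have he' : e ≠ ⊤ := by
        intro h
        rw [h, top_add] at he
        exact absurd he (by simp)
      lift e to ℕ using he'
      have h1 : e + r ≤ n := by exact_mod_cast he
      have h2 : e < n - i := by omega
      have h3 : ((e : ℕ∞) : WithBot ℕ∞) < (((n - i : ℕ) : ℕ∞) : WithBot ℕ∞) :=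
        WithBot.coe_lt_coe.mpr (by exact_mod_cast h2)
      exact h3
  · exact (ext_dual k n _ (isCoh_twistBy' n k _ hF (-m))).2 i (by omega)

end Proj

end Groth.Agent.Lib.ProjExtVanH4
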