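import Mathlib
import Groth.Prelude
import Groth.Agent.Lib.ProjExtVan3_helper4

/-!
# Cohomology of negative twists and Ext sheaves on projective space (helper4)

`exists_HH_twist_vanish_iff`: for `F` coherent on `P = P^n_k` and `i ≤ n`,
`H^i(P, F(-m)) = 0` for `m ≫ 0` iff `ℰxt^{n-i}(F, ω_P) = 0`.
APPEND-ONLY once landed.
-/

set_option autoImplicit false
set_option linter.style.haveILetI false
set_option backward.isDefEq.respectTransparency.types false
set_option maxHeartbeats 1600000
universe u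
open CategoryTheory CategoryTheory.Limits AlgebraicGeometry Opposite Abelian

namespace Groth.Agent.Lib.ProjExtVanH4

open Groth.Agent.ProjTens Groth.Agent.ProjCech Groth.Agent.TensInv Groth.Agent.ExtDual

variable (n : ℕ) (k : Type u) [Field k]

/-- `H^i(P, F(-m)) = 0` for `m ≫ 0` iff `ℰxt^{n-i}(F, ω_P) = 0`. -/
theorem exists_HH_twist_vanish_iff (F : (CohB1.ProjSpace n k).Modules) (hF : Coh.IsCoh F)
    [ModSite.HasSheafHom (O := (CohB1.ProjSpace n k).sheaf) F]
    [HasInjectiveResolutions (ModSite.Mod (CohB1.ProjSpace n k).sheaf)] (i : ℕ) (hi : i ≤ n) :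
    (∃ m₀ : ℤ, ∀ m : ℤ, m₀ ≤ m →
        Subsingleton (Coh.HH (CohB1.ProjSpace n k) (CohB1.tensorMod F (OO n k (-m))) i)) ↔
      IsZero ((ModSite.extSh (O := (CohB1.ProjSpace n k).sheaf) F (n - i)).obj
        (Twist.twistProjSpace n k (-((n : ℤ) + 1)))) := by
  haveI := enoughInjectives_modules (CohB1.ProjSpace n k)
  haveI : HasExt.{u} (CohB1.ProjSpace n k).Modules :=
    hasExt_of_enoughInjectives.{u} (CohB1.ProjSpace n k).Modules
  have hW := isCoh_twist n k (-((n : ℤ) + 1))
  have key : ∀ m : ℤ,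
      Subsingleton (Coh.HH (CohB1.ProjSpace n k) (CohB1.tensorMod F (OO n k (-m))) i) ↔
      Subsingleton (Ext (CohB1.tensorMod F (OO n k (-m))) (ωP k n) (n - i)) := by
    intro m
    rw [ext_subsingleton_iff k n _ (isCoh_twistBy' n k _ hF (-m)) (n - i) (Nat.sub_le n i),
      Nat.sub_sub_self hi]
  constructor
  · rintro ⟨m₀, h⟩
    exact isZero_extSh_of_subsingleton_ext n k _ _ hF hW (n - i)
      ⟨m₀, fun m hm => (key m).mp (h m hm)⟩
  · intro hz
    obtain ⟨m₀, h⟩ := exists_subsingleton_ext_of_isZero n k _ _ hF hW (n - i) hz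
    exact ⟨m₀, fun m hm => (key m).mpr (h m hm)⟩

end Groth.Agent.Lib.ProjExtVanH4
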