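import Mathlib
import Groth.Prelude
import Groth.Agent.Lib.ProjExtVan5_helper4
import Groth.Agent.Lib.ExtStalk2_helper4
import Groth.Agent.Lib.FinCov3_helper8
import Groth.Agent.Lib.CycLen8_helper8
import Groth.Agent.Lib.FLF6_helper8

/-!
# Cohomology of negative twists on projective space and Ext over the local rings (helper4)

`main5669`: `H^i(P^r, F(-m)) = 0` for `m ≫ 0` iff `Ext^{r-i}_{O_x}(F_x, O_x) = 0` for all `x`.
APPEND-ONLY once landed.
-/

set_option autoImplicit false
set_option linter.style.haveILetI false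
universe u
open CategoryTheory CategoryTheory.Limits AlgebraicGeometry Opposite Abelian

namespace Groth.Agent.Lib.ProjExtVanH4

open Groth.Agent.ProjTens Groth.Agent.ProjCech Groth.Agent.TensInv Groth.Agent.ExtDual
open Groth.Agent.Lib.ExtStalkH4

section General

variable {X : Scheme.{u}}

/-- a module is zero iff all its stalks vanish. -/
theorem isZero_iff_forall_subsingleton_stalk (E : X.Modules) :
    IsZero E ↔ ∀ x : X, Subsingleton (E.presheaf.stalk x) := by
  constructor
  · intro h x
    exact CycLenH8.subsingleton_stalk_of_isZero h x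
  · intro h
    apply CohDevH8.isZero_of_support_eq_empty
    ext x
    simp only [Set.mem_empty_iff_false, iff_false]
    intro hx
    exact hx (h x)

/-- the stalks of an invertible module are free of rank one. -/
theorem nonempty_stalk_linearEquiv_of_isInvertible {L : X.Modules} (hL : PicF.IsInvertible L)
    (x : X) : Nonempty (L.presheaf.stalk x ≃ₗ[X.presheaf.stalk x] X.presheaf.stalk x) := by
  obtain ⟨hfree, hrank⟩ := FLFH8.free_stalk_of_finLocFreeOfRank L
    (FLFH8.finLocFreeOfRank_one_of_isInvertible hL) x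
  haveI := hfree
  haveI : Module.Finite (X.presheaf.stalk x) (L.presheaf.stalk x) :=
    Module.finite_of_finrank_pos (by rw [hrank]; exact Nat.one_pos)
  let b := Module.finBasisOfFinrankEq (X.presheaf.stalk x) (L.presheaf.stalk x) hrank
  exact ⟨b.equivFun.trans (LinearEquiv.funUnique (Fin 1) (X.presheaf.stalk x) (X.presheaf.stalk x))⟩

end General

variable (r : ℕ) (k : Type u) [Field k]

/-- Hartshorne III.7.6-type criterion at the local rings. -/
theorem main5669 (F : (CohB1.ProjSpace r k).Modules) (hF : Coh.IsCoh F) (i j : ℕ)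
    (hij : i + j = r) :
    (∃ m₀ : ℤ, ∀ m : ℤ, m₀ ≤ m → Subsingleton (Coh.HH (CohB1.ProjSpace r k)
        (Twist.twistBy (CohB1.polyGrading r k) F (-m)) i)) ↔
      ∀ x : (CohB1.ProjSpace r k), Subsingleton (Abelian.Ext
        (ModuleCat.of ((CohB1.ProjSpace r k).presheaf.stalk x) (F.presheaf.stalk x))
        (ModuleCat.of ((CohB1.ProjSpace r k).presheaf.stalk x)
          ((CohB1.ProjSpace r k).presheaf.stalk x)) j) := by
  haveI := isNoetherian_projSpace r k
  haveI hsh := Groth.Agent.Lib.RelExtSchH2.hsh (X := CohB1.ProjSpace r k) F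
  haveI hir := Groth.Agent.Lib.ExtShCohH2.hir (CohB1.ProjSpace r k)
  have hj : j = r - i := by omega
  subst hj
  have hW := isCoh_twist r k (-((r : ℤ) + 1))
  have h1 := exists_HH_twist_vanish_iff r k F hF i (by omega)
  have h1' : (∃ m₀ : ℤ, ∀ m : ℤ, m₀ ≤ m → Subsingleton (Coh.HH (CohB1.ProjSpace r k)
        (Twist.twistBy (CohB1.polyGrading r k) F (-m)) i)) ↔
      IsZero ((ModSite.extSh (O := (CohB1.ProjSpace r k).sheaf) F (r - i)).obj
        (Twist.twistProjSpace r k (-((r : ℤ) + 1)))) := h1
  refine h1'.trans ((isZero_iff_forall_subsingleton_stalk (X := CohB1.ProjSpace r k)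
    ((ModSite.extSh (O := (CohB1.ProjSpace r k).sheaf) F (r - i)).obj
        (Twist.twistProjSpace r k (-((r : ℤ) + 1))))).trans ?_)
  refine forall_congr' (fun x => ?_)
  have h2 := subsingleton_stalk_extSh_iff F (Twist.twistProjSpace r k (-((r : ℤ) + 1))) hF hW
    (r - i) x
  refine h2.trans ?_
  obtain ⟨e⟩ := nonempty_stalk_linearEquiv_of_isInvertible
    (Groth.Agent.ProjTw.isInvertible_twist (CohB1.polyGrading r k) (hcov' r k)
      (-((r : ℤ) + 1))) x
  exact subsingleton_ext_iso_iff (Iso.refl _) (LinearEquiv.toModuleIso e) (r - i)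

end Groth.Agent.Lib.ProjExtVanH4
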