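import Mathlib
import Groth.Prelude.Def_CAlg
import Groth.Agent.Lib.DepthRefl_helper5

/-!
# Serre's conditions for `Hom` modules (helper5)
-/

set_option autoImplicit false
universe u

namespace Groth.Agent.DepthLib

theorem min_two_le_of_imp {a b : ℕ∞} (h1 : 1 ≤ a → 1 ≤ b) (h2 : 2 ≤ a → 2 ≤ b) :
    min 2 a ≤ b := by
  by_cases hA2 : 2 ≤ a
  · exact le_trans (min_le_left _ _) (h2 hA2)
  · by_cases hA1 : 1 ≤ a
    · push Not at hA2
      have : a ≤ 1 := by
        have h3 : (2 : ℕ∞) = 1 + 1 := by norm_num
        rw [h3] at hA2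
        exact (ENat.lt_add_one_iff (by simp)).1 hA2
      exact le_trans (min_le_right _ _) (le_trans this (h1 hA1))
    · push Not at hA1
      have : a = 0 := Order.lt_one_iff.1 hA1
      rw [this]
      simp

theorem min_le_of_chain (k : ℕ) (hk : k ≤ 2) {x y : WithBot ℕ∞} {a b : ℕ∞} (hxy : x ≤ y)
    (hya : min (k : WithBot ℕ∞) y ≤ (a : WithBot ℕ∞)) (hab : min 2 a ≤ b) :
    min (k : WithBot ℕ∞) x ≤ (b : WithBot ℕ∞) := by
  have hk' : ((k : ℕ) : WithBot ℕ∞) ≤ ((2 : ℕ∞) : WithBot ℕ∞) := by exact_mod_cast hk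
  calc min (k : WithBot ℕ∞) x ≤ min (k : WithBot ℕ∞) y := min_le_min_left _ hxy
    _ ≤ min ((2 : ℕ∞) : WithBot ℕ∞) (a : WithBot ℕ∞) := le_min (le_trans (min_le_left _ _) hk') hya
    _ = ((min 2 a : ℕ∞) : WithBot ℕ∞) := by rw [WithBot.coe_min]
    _ ≤ _ := WithBot.coe_le_coe.2 hab

variable {A : Type u} [CommRing A] [IsNoetherianRing A]

/-- localization of `Hom` for finite modules over a Noetherian ring -/
noncomputable def homLocEquiv (M N : Type u) [AddCommGroup M] [Module A M] [Module.Finite A M]
    [AddCommGroup N] [Module A N] (p : Ideal A) [p.IsPrime] :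
    LocalizedModule p.primeCompl (M →ₗ[A] N) ≃ₗ[Localization.AtPrime p]
      (LocalizedModule p.primeCompl M →ₗ[Localization.AtPrime p] LocalizedModule p.primeCompl N) :=
  haveI : Module.FinitePresentation A M := Module.finitePresentation_of_finite A M
  LinearEquiv.extendScalarsOfIsLocalization p.primeCompl (Localization.AtPrime p)
    (IsLocalizedModule.iso p.primeCompl
      (IsLocalizedModule.mapExtendScalars p.primeCompl (LocalizedModule.mkLinearMap p.primeCompl M)
        (LocalizedModule.mkLinearMap p.primeCompl N) (Localization.AtPrime p)))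

/-- `dim Hom(M,N) ≤ dim N` -/
theorem supportDim_hom_le (M N : Type u) [AddCommGroup M] [Module A M] [Module.Finite A M]
    [AddCommGroup N] [Module A N] [Module.Finite A N] :
    Module.supportDim A (M →ₗ[A] N) ≤ Module.supportDim A N := by
  haveI := finite_hom (A := A) M N
  rw [Module.supportDim_eq_ringKrullDim_quotient_annihilator,
    Module.supportDim_eq_ringKrullDim_quotient_annihilator]
  have hann : Module.annihilator A N ≤ Module.annihilator A (M →ₗ[A] N) := by
    intro a ha
    rw [Module.mem_annihilator] at ha ⊢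
    intro f
    ext m
    rw [LinearMap.smul_apply, ha, LinearMap.zero_apply]
  exact ringKrullDim_le_of_surjective (Ideal.Quotient.factor hann)
    (Ideal.Quotient.factor_surjective hann)

/-- `Hom(M, N)` inherits `S_k` from `N` for `k ≤ 2` -/
theorem hasSk_hom (M N : Type u) [AddCommGroup M] [Module A M] [Module.Finite A M]
    [AddCommGroup N] [Module A N] [Module.Finite A N] (k : ℕ) (hk : k ≤ 2)
    (hN : LocCoh.HasSk k A N) : LocCoh.HasSk k A (M →ₗ[A] N) := by
  intro p hp
  have e := homLocEquiv M N p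
  unfold LocCoh.depth
  rw [Module.supportDim_eq_of_equiv e, idealDepth_congr _ _ e]
  have h1 := idealDepth_hom (IsLocalRing.maximalIdeal (Localization.AtPrime p))
    (LocalizedModule p.primeCompl M) (LocalizedModule p.primeCompl N)
  exact min_le_of_chain k hk (supportDim_hom_le _ _) (hN p) (min_two_le_of_imp h1.1 h1.2)

end Groth.Agent.DepthLib
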