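import Mathlib
import Groth.Prelude
import Groth.Agent.Lib.HomShAdj1_helper2
import Groth.Agent.Lib.ReflHom2_helper8
import Groth.Agent.Lib.DepthSkHom_helper5

/-!
# Stalks of the abstract sheaf Hom `DCoh.sheafHom F` of a coherent module (helper4)

`stalkEquiv e x` : the linear equivalence of stalks induced by an isomorphism of modules;
`sheafHomStalkEquiv` : `(DCoh.sheafHom F).obj G)_x ≃ₗ Hom(F_x, G_x)` for coherent `F` on a locally
Noetherian scheme; `depth_sheafHom`, `sk_sheafHom` : depth / `(S_k)` of the sheaf Hom.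
APPEND-ONLY once landed.
-/

set_option autoImplicit false
universe u

open CategoryTheory AlgebraicGeometry TopologicalSpace Opposite

namespace Groth.Agent.Lib.ShHomStalkH4

variable {X : Scheme.{u}}

/-- The linear equivalence on stalks induced by an isomorphism of `O_X`-modules. -/
noncomputable def stalkEquiv {F G : X.Modules} (e : F ≅ G) (x : X) :
    F.presheaf.stalk x ≃ₗ[X.presheaf.stalk x] G.presheaf.stalk x :=
  LinearEquiv.ofLinearMap (RefHull.stalkMapₗ e.hom x) (RefHull.stalkMapₗ e.inv x)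
    (by rw [← RefFun.stalkMapₗ_comp, e.inv_hom_id, RefFun.stalkMapₗ_id])
    (by rw [← RefFun.stalkMapₗ_comp, e.hom_inv_id, RefFun.stalkMapₗ_id])

/-- The stalk of the abstract sheaf Hom out of a coherent module is the module of linear maps
between the stalks. -/
theorem nonempty_sheafHomStalkEquiv [IsLocallyNoetherian X] (F G : X.Modules) (hF : Coh.IsCoh F)
    [DCoh.HasSheafHom F] (x : X) :
    Nonempty (((DCoh.sheafHom F).obj G).presheaf.stalk x ≃ₗ[X.presheaf.stalk x]
      (F.presheaf.stalk x →ₗ[X.presheaf.stalk x] G.presheaf.stalk x)) := by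
  have : F.IsQuasicoherent := hF.1
  have : SheafOfModules.IsFiniteType (R := X.ringCatSheaf) F := hF.2
  have hFP : CohB1.IsFP F := FLFH8.isFinitePresentation_of_isCoh F
  have α : (DCoh.sheafHom F).obj G ≅ RefHull.homSh F G :=
    (Groth.Agent.Lib.HomShAdjH2.dcohSheafHomIso F).app G
  exact ⟨(stalkEquiv α x).trans
    (LinearEquiv.ofBijective (RefHull.evalStalk F G x) (HomLinH8.evalStalk_bijective F G hFP x))⟩

theorem finite_stalk_of_isCoh (F : X.Modules) (hF : Coh.IsCoh F) (x : X) :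
    Module.Finite (X.presheaf.stalk x) (F.presheaf.stalk x) := by
  have : F.IsQuasicoherent := hF.1
  have : SheafOfModules.IsFiniteType (R := X.ringCatSheaf) F := hF.2
  exact SuppStalkH8.finite_stalk F x

theorem depth_sheafHom [IsLocallyNoetherian X] (F G : X.Modules)
    (hF : Coh.IsCoh F) (hG : Coh.IsCoh G) [DCoh.HasSheafHom F] (x : X) :
    ((1 : ℕ∞) ≤ LocCoh.depth (X.presheaf.stalk x) ↑(G.presheaf.stalk x) →
      (1 : ℕ∞) ≤ LocCoh.depth (X.presheaf.stalk x) ↑(((DCoh.sheafHom F).obj G).presheaf.stalk x)) ∧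
    ((2 : ℕ∞) ≤ LocCoh.depth (X.presheaf.stalk x) ↑(G.presheaf.stalk x) →
      (2 : ℕ∞) ≤ LocCoh.depth (X.presheaf.stalk x) ↑(((DCoh.sheafHom F).obj G).presheaf.stalk x)) := by
  obtain ⟨e⟩ := nonempty_sheafHomStalkEquiv F G hF x
  have := finite_stalk_of_isCoh F hF x
  have := finite_stalk_of_isCoh G hG x
  unfold LocCoh.depth
  rw [Groth.Agent.DepthLib.idealDepth_congr _ _ e]
  exact Groth.Agent.DepthLib.idealDepth_hom (IsLocalRing.maximalIdeal (X.presheaf.stalk x))
    (F.presheaf.stalk x) (G.presheaf.stalk x)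

theorem sk_sheafHom [IsLocallyNoetherian X] (F G : X.Modules)
    (hF : Coh.IsCoh F) (hG : Coh.IsCoh G) [DCoh.HasSheafHom F] (k : ℕ) (hk : k = 1 ∨ k = 2)
    (x : X)
    (hS : min (k : WithBot ℕ∞) (Module.supportDim (X.presheaf.stalk x) ↑(G.presheaf.stalk x)) ≤
      ((LocCoh.depth (X.presheaf.stalk x) ↑(G.presheaf.stalk x) : ℕ∞) : WithBot ℕ∞)) :
    min (k : WithBot ℕ∞)
        (Module.supportDim (X.presheaf.stalk x) ↑(((DCoh.sheafHom F).obj G).presheaf.stalk x)) ≤
      ((LocCoh.depth (X.presheaf.stalk x) ↑(((DCoh.sheafHom F).obj G).presheaf.stalk x) : ℕ∞) :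
        WithBot ℕ∞) := by
  obtain ⟨e⟩ := nonempty_sheafHomStalkEquiv F G hF x
  have := finite_stalk_of_isCoh F hF x
  have := finite_stalk_of_isCoh G hG x
  have hk' : k ≤ 2 := by rcases hk with rfl | rfl <;> norm_num
  have h1 := Groth.Agent.DepthLib.idealDepth_hom (IsLocalRing.maximalIdeal (X.presheaf.stalk x))
    (F.presheaf.stalk x) (G.presheaf.stalk x)
  unfold LocCoh.depth at hS ⊢
  rw [Module.supportDim_eq_of_equiv e, Groth.Agent.DepthLib.idealDepth_congr _ _ e]
  exact Groth.Agent.DepthLib.min_le_of_chain k hk' (Groth.Agent.DepthLib.supportDim_hom_le _ _) hS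
    (Groth.Agent.DepthLib.min_two_le_of_imp h1.1 h1.2)

end Groth.Agent.Lib.ShHomStalkH4
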