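import Mathlib
import Groth.Prelude
import Groth.Agent.Lib.ProjExtVan6_helper4
import Groth.Agent.Lib.LocDualVan1_helper4
import Groth.Agent.Lib.CIsec2_helper9
import Groth.Agent.Lib.SuppFT_helper9
import Groth.Agent.Lib.LocCohGV_helper7
import Groth.Agent.Lib.ShHomStalk_helper4

/-!
# Cohomology of negative twists on projective space and local cohomology of the stalks (helper4)

`main2927`: `H^i(P^r, F(-m)) = 0` for `m ≫ 0` iff `H^i_m(F_x) = 0` at all closed points `x`.
APPEND-ONLY once landed.
-/

set_option autoImplicit false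
set_option linter.style.haveILetI false
universe u
open CategoryTheory CategoryTheory.Limits AlgebraicGeometry Opposite Abelian

namespace Groth.Agent.Lib.ProjExtVanH4

open Groth.Agent.ProjTens Groth.Agent.ProjCech Groth.Agent.TensInv Groth.Agent.ExtDual
open Groth.Agent.Lib.ExtStalkH4

section General

variable {X : Scheme.{u}}

/-- a finite type module on a quasi-compact scheme is zero iff its stalks at closed points vanish. -/
theorem isZero_iff_forall_closed_subsingleton_stalk [CompactSpace X] (E : X.Modules)
    [SheafOfModules.IsFiniteType (R := X.ringCatSheaf) E] :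
    IsZero E ↔ ∀ x : X, IsClosed ({x} : Set X) → Subsingleton (E.presheaf.stalk x) := by
  constructor
  · intro h x _
    exact CycLenH8.subsingleton_stalk_of_isZero h x
  · intro h
    apply CohDevH8.isZero_of_support_eq_empty
    by_contra hne
    obtain ⟨x, hx, hcl⟩ := (SuppFT.isClosed_support E).exists_closed_singleton
      (Set.nonempty_iff_ne_empty.mpr hne)
    exact hx (h x hcl)

end General

variable (r : ℕ) (k : Type u) [Field k]

/-- the local rings of `P^r_k` at closed points have dimension `r`. -/
theorem ringKrullDim_stalk_of_isClosed (x : CohB1.ProjSpace r k)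
    (hx : IsClosed ({x} : Set (CohB1.ProjSpace r k))) :
    ringKrullDim ((CohB1.ProjSpace r k).presheaf.stalk x) = r := by
  rw [AlgebraicGeometry.ringKrullDim_stalk_eq_coheight]
  have h1 := Groth.Agent.CIsec.coheight_add_height_projSpace k r x
  have h2 : Order.height x = 0 := by
    rw [Order.height_eq_zero]
    intro y hy
    have h3 : y ∈ closure ({x} : Set (CohB1.ProjSpace r k)) := hy.mem_closure
    rw [hx.closure_eq, Set.mem_singleton_iff] at h3
    rw [h3]
  rw [h2, add_zero] at h1
  rw [h1]
  rfl

theorem projSpace_regular' (p : CohB1.ProjSpace r k) :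
    IsRegularLocalRing ((CohB1.ProjSpace r k).presheaf.stalk p) := by
  haveI : Smooth (CohB1.ProjSpace r k ↘ Spec (CommRingCat.of k)) :=
    Groth.Agent.Lib.ProjSmoothH4.smooth_toSpec r k
  exact Groth.Agent.S1535.result k (CohB1.ProjSpace r k) p

/-- Hartshorne III.7.6-type criterion via local cohomology of the stalks at closed points. -/
theorem main2927 (F : (CohB1.ProjSpace r k).Modules) (hF : Coh.IsCoh F) (i : ℕ) :
    (∃ m₀ : ℤ, ∀ m : ℤ, m₀ ≤ m → Subsingleton (Coh.HH (CohB1.ProjSpace r k)
        (Twist.twistBy (CohB1.polyGrading r k) F (-m)) i)) ↔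
      ∀ x : (CohB1.ProjSpace r k), IsClosed ({x} : Set (CohB1.ProjSpace r k)) →
        Subsingleton (LocCoh.H (IsLocalRing.maximalIdeal
          ((CohB1.ProjSpace r k).presheaf.stalk x)) i (F.presheaf.stalk x)) := by
  haveI := isNoetherian_projSpace r k
  haveI hsh := Groth.Agent.Lib.RelExtSchH2.hsh (X := CohB1.ProjSpace r k) F
  haveI hir := Groth.Agent.Lib.ExtShCohH2.hir (CohB1.ProjSpace r k)
  by_cases hi : i ≤ r
  · have hW := isCoh_twist r k (-((r : ℤ) + 1))
    have h1 : (∃ m₀ : ℤ, ∀ m : ℤ, m₀ ≤ m → Subsingleton (Coh.HH (CohB1.ProjSpace r k)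
          (Twist.twistBy (CohB1.polyGrading r k) F (-m)) i)) ↔
        IsZero ((ModSite.extSh (O := (CohB1.ProjSpace r k).sheaf) F (r - i)).obj
          (Twist.twistProjSpace r k (-((r : ℤ) + 1)))) :=
      exists_HH_twist_vanish_iff r k F hF i hi
    have hE : Coh.IsCoh ((ModSite.extSh (O := (CohB1.ProjSpace r k).sheaf) F (r - i)).obj
        (Twist.twistProjSpace r k (-((r : ℤ) + 1)))) :=
      Groth.Agent.Lib.ExtShCohH2.isCoh_extSh (r - i) (CohB1.ProjSpace r k) F _ hF hW
    haveI hft : SheafOfModules.IsFiniteType (R := (CohB1.ProjSpace r k).ringCatSheaf)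
        ((ModSite.extSh (O := (CohB1.ProjSpace r k).sheaf) F (r - i)).obj
          (Twist.twistProjSpace r k (-((r : ℤ) + 1)))) := hE.2
    refine h1.trans ((isZero_iff_forall_closed_subsingleton_stalk (X := CohB1.ProjSpace r k)
      ((ModSite.extSh (O := (CohB1.ProjSpace r k).sheaf) F (r - i)).obj
        (Twist.twistProjSpace r k (-((r : ℤ) + 1))))).trans ?_)
    refine forall_congr' (fun x => forall_congr' (fun hx => ?_))
    have h2 := subsingleton_stalk_extSh_iff F (Twist.twistProjSpace r k (-((r : ℤ) + 1))) hF hW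
      (r - i) x
    refine h2.trans ?_
    obtain ⟨e⟩ := nonempty_stalk_linearEquiv_of_isInvertible
      (Groth.Agent.ProjTw.isInvertible_twist (CohB1.polyGrading r k) (hcov' r k)
        (-((r : ℤ) + 1))) x
    refine (subsingleton_ext_iso_iff (Iso.refl _) (LinearEquiv.toModuleIso e) (r - i)).trans ?_
    haveI := projSpace_regular' r k x
    haveI := Groth.Agent.Lib.ShHomStalkH4.finite_stalk_of_isCoh F hF x
    exact (Groth.Agent.Lib.LocDualVanH4.subsingleton_H_iff_subsingleton_ext
      ((CohB1.ProjSpace r k).presheaf.stalk x) r (ringKrullDim_stalk_of_isClosed r k x hx)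
      (F.presheaf.stalk x) i hi).symm
  · rw [not_le] at hi
    constructor
    · intro _ x hx
      haveI := projSpace_regular' r k x
      haveI := Groth.Agent.Lib.ShHomStalkH4.finite_stalk_of_isCoh F hF x
      apply Groth.Agent.Lib.LocCohGVH7.GV
      calc Module.supportDim ((CohB1.ProjSpace r k).presheaf.stalk x) (F.presheaf.stalk x)
          ≤ ringKrullDim ((CohB1.ProjSpace r k).presheaf.stalk x) :=
            Module.supportDim_le_ringKrullDim _ _
        _ = (r : WithBot ℕ∞) := ringKrullDim_stalk_of_isClosed r k x hx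
        _ < (i : WithBot ℕ∞) := by exact_mod_cast hi
    · intro _
      refine ⟨0, fun m _ => ?_⟩
      have hq : Coh.IsQCoh (Twist.twistBy (CohB1.polyGrading r k) F (-m)) :=
        (isCoh_twistBy' r k F hF (-m)).1
      exact @Groth.Agent.S0022.result r k _ (Twist.twistBy (CohB1.polyGrading r k) F (-m)) hq i hi

end Groth.Agent.Lib.ProjExtVanH4
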