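import Mathlib
import Groth.Prelude
import Groth.Agent.Lib.ProjExtVan7_helper4
import Groth.Agent.Lib.LocCohDepth_helper7
import Groth.Agent.Lib.DepthSeq_helper5

/-!
# Cohomology of negative twists on projective space and depth of the stalks (helper4)

`main2928`: `H^i(P^r, F(-m)) = 0` for all `i ≤ n`, `m ≫ 0` iff `depth F_x > n` at all closed `x`.
APPEND-ONLY once landed.
-/

set_option autoImplicit false
set_option linter.style.haveILetI false
universe u
open CategoryTheory CategoryTheory.Limits AlgebraicGeometry Opposite Abelian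

namespace Groth.Agent.Lib.ProjExtVanH4

section Local

variable (A : Type u) [CommRing A] [IsNoetherianRing A] [IsLocalRing A]
  (M : Type u) [AddCommGroup M] [Module A M] [Module.Finite A M]

/-- depth via vanishing of local cohomology, over a Noetherian local ring. -/
theorem lt_depth_iff_forall_subsingleton_H (n : ℕ) :
    (n : ℕ∞) < LocCoh.depth A M ↔
      ∀ i : ℕ, i ≤ n → Subsingleton (LocCoh.H (IsLocalRing.maximalIdeal A) i M) := by
  by_cases hM : Subsingleton M
  · have h1 : LocCoh.depth A M = ⊤ := by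
      unfold LocCoh.depth LocCoh.idealDepth
      rw [if_pos (Subsingleton.elim _ _)]
    rw [h1]
    refine ⟨fun _ i _ => Groth.Agent.Lib.LocCohGVH7.subsingleton_of_subsingleton _ i M,
      fun _ => ENat.natCast_lt_top n⟩
  · rw [not_subsingleton_iff_nontrivial] at hM
    have hne : IsLocalRing.maximalIdeal A • (⊤ : Submodule A M) ≠ ⊤ := by
      intro h
      have h2 := Submodule.eq_bot_of_le_smul_of_le_jacobson_bot (IsLocalRing.maximalIdeal A)
        (⊤ : Submodule A M) Module.Finite.fg_top h.ge
        (IsLocalRing.maximalIdeal_le_jacobson _)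
      exact top_ne_bot h2
    obtain ⟨d, hd⟩ := ENat.ne_top_iff_exists.1
      (Groth.Agent.DepthLib.idealDepth_ne_top (IsLocalRing.maximalIdeal A) M hne)
    have hd' : LocCoh.depth A M = (d : ℕ∞) := hd.symm
    obtain ⟨h1, h2⟩ := (Groth.Agent.Lib.LocCohDepthH7.main A (IsLocalRing.maximalIdeal A) M hne
      d).mp hd'
    rw [hd']
    constructor
    · intro h i hi
      exact h1 i (lt_of_le_of_lt hi (by exact_mod_cast h))
    · intro h
      by_contra hcon
      have hdn : d ≤ n := by
        have : ¬ (n : ℕ∞) < (d : ℕ∞) := hcon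
        exact_mod_cast not_lt.mp this
      haveI := h d hdn
      exact not_subsingleton _ ‹Subsingleton (LocCoh.H (IsLocalRing.maximalIdeal A) d M)›

end Local

variable (r : ℕ) (k : Type u) [Field k]

/-- Hartshorne III.7.6-type criterion via the depth of the stalks at closed points. -/
theorem main2928 (F : (CohB1.ProjSpace r k).Modules) (hF : Coh.IsCoh F) (n : ℕ) :
    (∃ m₀ : ℤ, ∀ m : ℤ, m₀ ≤ m → ∀ i : ℕ, i ≤ n → Subsingleton (Coh.HH (CohB1.ProjSpace r k)
        (Twist.twistBy (CohB1.polyGrading r k) F (-m)) i)) ↔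
      ∀ x : (CohB1.ProjSpace r k), IsClosed ({x} : Set (CohB1.ProjSpace r k)) →
        (n : ℕ∞) < LocCoh.depth ((CohB1.ProjSpace r k).presheaf.stalk x)
          (F.presheaf.stalk x) := by
  have key : ∀ x : (CohB1.ProjSpace r k), IsClosed ({x} : Set (CohB1.ProjSpace r k)) →
      ((n : ℕ∞) < LocCoh.depth ((CohB1.ProjSpace r k).presheaf.stalk x) (F.presheaf.stalk x) ↔
        ∀ i : ℕ, i ≤ n → Subsingleton (LocCoh.H (IsLocalRing.maximalIdeal
          ((CohB1.ProjSpace r k).presheaf.stalk x)) i (F.presheaf.stalk x))) := by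
    intro x _
    haveI := projSpace_regular' r k x
    haveI := Groth.Agent.Lib.ShHomStalkH4.finite_stalk_of_isCoh F hF x
    exact lt_depth_iff_forall_subsingleton_H _ _ n
  constructor
  · rintro ⟨m₀, h⟩ x hx
    rw [key x hx]
    intro i hi
    exact (main2927 r k F hF i).mp ⟨m₀, fun m hm => h m hm i hi⟩ x hx
  · intro h
    have h' : ∀ i : ℕ, i ≤ n → ∃ m₀ : ℤ, ∀ m : ℤ, m₀ ≤ m →
        Subsingleton (Coh.HH (CohB1.ProjSpace r k)
          (Twist.twistBy (CohB1.polyGrading r k) F (-m)) i) := fun i hi =>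
      (main2927 r k F hF i).mpr (fun x hx => (key x hx).mp (h x hx) i hi)
    choose! D hD using h'
    refine ⟨(Finset.range (n + 1)).sup' ⟨0, by simp⟩ D, fun m hm i hi => ?_⟩
    exact hD i hi m (le_trans (Finset.le_sup' D (Finset.mem_range.mpr (by omega))) hm)

end Groth.Agent.Lib.ProjExtVanH4
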