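import Mathlib
import Groth.Prelude
import Groth.Agent.Lib.ProjExtVan8_helper4
import Groth.Agent.Lib.CycLen2_helper8
import Groth.Agent.Lib.DepthRingChange_helper5
import Groth.Agent.Lib.Depth_helper5

/-!
# Closed subschemes of projective space: negative twists and depth (helper4)

`exists_HH_pullback_twist_vanish_iff`: for `ι : X → P^N_k` a closed immersion and `G` coherent on
`X`: `H^j(X, G ⊗ ι^*O(-q)) = 0` for all `j ≤ n`, `q ≫ 0` iff `depth G_z > n` at all closed `z ∈ X`.
APPEND-ONLY once landed.
-/

set_option autoImplicit false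
set_option linter.style.haveILetI false
universe u
open CategoryTheory CategoryTheory.Limits AlgebraicGeometry Opposite Abelian

namespace Groth.Agent.Lib.ProjExtVanH4

section Algebra

/-- depth is transported along a bijective semilinear map over a surjective local homomorphism. -/
theorem depth_eq_of_semilinear_bijective (A B : Type u) [CommRing A] [CommRing B] [IsLocalRing A]
    [IsLocalRing B] [IsNoetherianRing A] [IsNoetherianRing B] (φ : A →+* B) [IsLocalHom φ]
    (hφ : Function.Surjective φ)
    (M' : Type u) [AddCommGroup M'] [Module A M'] (M : Type u) [AddCommGroup M] [Module B M]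
    [Module.Finite B M] (f : M' →ₛₗ[φ] M) (hf : Function.Bijective f) :
    LocCoh.depth A M' = LocCoh.depth B M := by
  letI : Algebra A B := φ.toAlgebra
  haveI : IsLocalHom (algebraMap A B) := ‹IsLocalHom φ›
  letI : Module A M := Module.compHom M φ
  haveI : IsScalarTower A B M := IsScalarTower.of_algebraMap_smul fun _ _ => rfl
  haveI : Module.Finite A B := Module.Finite.of_surjective (Algebra.linearMap A B) hφ
  haveI : Module.Finite A M := Module.Finite.trans B M
  let g : M' →ₗ[A] M :=
    { toFun := f
      map_add' := fun a b => map_add f a b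
      map_smul' := fun a m => f.map_smulₛₗ a m }
  let e : M' ≃ₗ[A] M := LinearEquiv.ofBijective g hf
  have h1 : LocCoh.depth A M' = LocCoh.depth A M :=
    Groth.Agent.DepthLib.idealDepth_congr _ _ e
  rw [h1]
  exact Groth.Agent.DepthLib.depth_eq_of_isLocalHom A B M

end Algebra

section Push

variable {X Y : Scheme.{u}} [IsLocallyNoetherian X] [IsLocallyNoetherian Y] (ι : X ⟶ Y)
  [IsClosedImmersion ι]

/-- depth of the stalks of a direct image along a closed immersion. -/
theorem depth_stalk_pushforward (G : X.Modules) (hG : Coh.IsCoh G) (z : X) :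
    LocCoh.depth (Y.presheaf.stalk (ι z))
        (((Scheme.Modules.pushforward ι).obj G).presheaf.stalk (ι z)) =
      LocCoh.depth (X.presheaf.stalk z) (G.presheaf.stalk z) := by
  have hsurj : Function.Surjective (ι.stalkMap z).hom := ι.stalkMap_surjective z
  haveI := Groth.Agent.Lib.ShHomStalkH4.finite_stalk_of_isCoh G hG z
  let f : ((Scheme.Modules.pushforward ι).obj G).presheaf.stalk (ι z) →ₛₗ[(ι.stalkMap z).hom]
      G.presheaf.stalk z :=
    { toFun := CycLenH8.pushStalkHom ι G z
      map_add' := fun a b => map_add _ a b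
      map_smul' := fun r m => CycLenH8.pushStalkHom_smul ι G z r m }
  have hb : Function.Bijective f :=
    CycLenH8.pushStalkHom_bijective ι G ι.isEmbedding.isInducing z
  exact depth_eq_of_semilinear_bijective _ _ (ι.stalkMap z).hom hsurj _ _ f hb

end Push

section Proj

open Groth.Agent.ProjTens Groth.Agent.ProjCech Groth.Agent.TensInv Groth.Agent.ExtDual

variable (N : ℕ) (k : Type u) [Field k] {X : Scheme.{u}} (ι : X ⟶ CohB1.ProjSpace N k)
  [IsClosedImmersion ι]

theorem depth_eq_top_of_subsingleton (A : Type u) [CommRing A] [IsLocalRing A] (M : Type u)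
    [AddCommGroup M] [Module A M] [Subsingleton M] : LocCoh.depth A M = ⊤ := by
  unfold LocCoh.depth LocCoh.idealDepth
  rw [if_pos (Subsingleton.elim _ _)]

/-- **negative twists on a closed subscheme of `P^N_k` and depth at the closed points.** -/
theorem exists_HH_pullback_twist_vanish_iff (G : X.Modules) (hG : Coh.IsCoh G) (n : ℕ) :
    (∃ q₀ : ℤ, ∀ q : ℤ, q₀ ≤ q → ∀ j : ℕ, j ≤ n → Subsingleton (Coh.HH X
        (CohB1.tensorMod G ((Scheme.Modules.pullback ι).obj (Twist.twistProjSpace N k (-q)))) j)) ↔
      ∀ z : X, IsClosed ({z} : Set X) →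
        (n : ℕ∞) < LocCoh.depth (X.presheaf.stalk z) (G.presheaf.stalk z) := by
  haveI := isNoetherian_projSpace N k
  haveI := isNoetherian_of_closedImmersion N k ι
  have hF : Coh.IsCoh ((Scheme.Modules.pushforward ι).obj G) :=
    CohDevH8.isCoh_pushforward_of_isFinite ι hG
  have key : ∀ (q : ℤ) (j : ℕ), Subsingleton (Coh.HH X
      (CohB1.tensorMod G ((Scheme.Modules.pullback ι).obj (Twist.twistProjSpace N k (-q)))) j) ↔
      Subsingleton (Coh.HH (CohB1.ProjSpace N k)
        (Twist.twistBy (CohB1.polyGrading N k) ((Scheme.Modules.pushforward ι).obj G) (-q)) j) := by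
    intro q j
    rw [← subsingleton_HH_push_iff ι]
    have e := Groth.Agent.ClImmTw.pushTwistIso ι (Twist.twistProjSpace N k (-q))
      (Groth.Agent.ClImmTw.isFinLocFree_twist k N (-q)) G
    exact ⟨Groth.Agent.HHVan.subsingleton_of_iso e j,
      Groth.Agent.HHVan.subsingleton_of_iso e.symm j⟩
  have h1 : (∃ q₀ : ℤ, ∀ q : ℤ, q₀ ≤ q → ∀ j : ℕ, j ≤ n → Subsingleton (Coh.HH X
        (CohB1.tensorMod G ((Scheme.Modules.pullback ι).obj (Twist.twistProjSpace N k (-q)))) j)) ↔
      (∃ q₀ : ℤ, ∀ q : ℤ, q₀ ≤ q → ∀ j : ℕ, j ≤ n → Subsingleton (Coh.HH (CohB1.ProjSpace N k)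
        (Twist.twistBy (CohB1.polyGrading N k) ((Scheme.Modules.pushforward ι).obj G) (-q)) j)) := by
    refine exists_congr (fun q₀ => forall_congr' (fun q => forall_congr' (fun _ =>
      forall_congr' (fun j => forall_congr' (fun _ => key q j)))))
  rw [h1, main2928 N k _ hF n]
  constructor
  · intro h z hz
    have hcl : IsClosed ({ι z} : Set (CohB1.ProjSpace N k)) := by
      have := ι.isClosedEmbedding.isClosedMap _ hz
      rwa [Set.image_singleton] at this
    rw [← depth_stalk_pushforward ι G hG z]
    exact h (ι z) hcl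
  · intro h x hx
    by_cases hxr : x ∈ Set.range ι
    · obtain ⟨z, rfl⟩ := hxr
      have hcl : IsClosed ({z} : Set X) := by
        have h2 : ({z} : Set X) = ι ⁻¹' {ι z} := by
          ext w
          simp only [Set.mem_singleton_iff, Set.mem_preimage]
          exact ⟨fun hw => by rw [hw], fun hw => ι.isClosedEmbedding.injective hw⟩
        rw [h2]
        exact hx.preimage ι.continuous
      rw [depth_stalk_pushforward ι G hG z]
      exact h z hcl
    · haveI := CycLenH8.subsingleton_stalk_pushforward ι G ι.isClosedEmbedding.isClosed_range x hxr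
      rw [depth_eq_top_of_subsingleton]
      exact ENat.natCast_lt_top n

end Proj

end Groth.Agent.Lib.ProjExtVanH4
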