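import Mathlib
import Groth.Prelude
import Groth.Agent.Lib.Horrocks6_helper9

/-!
# Horrocks' criterion for finite locally free modules: ranks (helper9)
APPEND-ONLY once landed.

A finite direct sum of `r` invertible modules is finite locally free of rank `r`; the rank of a
finite locally free module on a nonempty scheme is unique.
-/

set_option autoImplicit false
universe u
open CategoryTheory CategoryTheory.Limits AlgebraicGeometry TopologicalSpace Opposite

namespace Groth.Agent.Horrocks

section Rank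

variable {X : Scheme.{u}}

theorem exists_le_all {r : ℕ} (U : Fin r → X.Opens) (x : X)
    (hx : ∀ j, x ∈ U j) : ∃ V : X.Opens, x ∈ V ∧ ∀ j, V ≤ U j := by
  refine ⟨Finset.univ.inf U, ?_, fun j => Finset.inf_le (Finset.mem_univ j)⟩
  show x ∈ ((Finset.univ.inf U : Opens X) : Set X)
  rw [Opens.coe_finset_inf]
  simp [Finset.inf_eq_iInf, hx]

theorem isFinLocFreeOfRank_of_iso {M M' : X.Modules} {r : ℕ} (e : M ≅ M')
    (h : FlatMod.IsFinLocFreeOfRank r M) : FlatMod.IsFinLocFreeOfRank r M' := fun x => by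
  obtain ⟨U, hxU, ⟨α⟩⟩ := h x
  exact ⟨U, hxU, ⟨(Scheme.Modules.restrictFunctor U.ι).mapIso e.symm ≪≫ α⟩⟩

/-- a direct sum of `r` invertible modules is finite locally free of rank `r` -/
theorem isFinLocFreeOfRank_sigma {r : ℕ} (L : Fin r → X.Modules)
    (hL : ∀ j, PicF.IsInvertible (L j)) : FlatMod.IsFinLocFreeOfRank r (∐ L) := by
  intro x
  have h1 : ∀ j, ∃ U : X.Opens, x ∈ U ∧
      Nonempty ((L j).restrict U.ι ≅ FlatMod.freeMod (↑U) 1) :=
    fun j => FLFH8.finLocFreeOfRank_one_of_isInvertible (hL j) x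
  choose U hxU hα using h1
  obtain ⟨V, hxV, hVU⟩ := exists_le_all U x hxU
  have h2 : ∀ j, Nonempty ((L j).restrict V.ι ≅ Coh.structureModule (V : Scheme.{u})) :=
    fun j => by
      obtain ⟨β⟩ := FLFH8.iso_restrict_of_le (L j) (hVU j) (hα j).some
      exact ⟨β ≪≫ coproductUniqueIso (fun _ : Fin 1 => Coh.structureModule (V : Scheme.{u}))⟩
  refine ⟨V, hxV, ⟨?_⟩⟩
  exact PreservesCoproduct.iso (Scheme.Modules.restrictFunctor V.ι) L ≪≫
    Sigma.mapIso (fun j => (h2 j).some)

/-- the rank of a finite locally free module on a nonempty scheme is unique -/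
theorem rank_unique [Nonempty X] {M : X.Modules} {r r' : ℕ} (h : FlatMod.IsFinLocFreeOfRank r M)
    (h' : FlatMod.IsFinLocFreeOfRank r' M) : r = r' := by
  obtain ⟨x⟩ := ‹Nonempty X›
  rw [← (FLFH8.free_stalk_of_finLocFreeOfRank M h x).2,
    ← (FLFH8.free_stalk_of_finLocFreeOfRank M h' x).2]

end Rank

end Groth.Agent.Horrocks
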