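import Mathlib
import Groth.Prelude
import Groth.Agent.Lib.Tens29_helper8
import Groth.Agent.Lib.Tens18_helper8
import Groth.Agent.Lib.TwistEpi_helper5
import Groth.Agent.Lib.FinGG_helper5
import Groth.Agent.Lib.VAmpPn1_helper5
import Groth.Agent.Lib.ProjTwAmple2_helper5
import Groth.Agent.Lib.ProjTwPow_helper5
import Groth.Agent.Lib.Horrocks7_helper9
import Groth.Agent.Lib.AffVanish2_helper9
import Groth.Agent.Lib.ProjFin2_helper9
import Groth.Agent.Lib.HHVan_helper9
import Groth.Agent.Lib.CohKer_helper8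
import Groth.Agent.Lib.TensPowApi_helper9
import Groth.Agent.Lib.ProperFin9_helper9

/-!
# Cohomological dimension of quasi-projective schemes is detected by locally free modules (helper9)
APPEND-ONLY once landed.
-/

set_option autoImplicit false
universe u
open CategoryTheory CategoryTheory.Limits AlgebraicGeometry TopologicalSpace Opposite

namespace QProjVanH9

open Groth.Agent.TensInv CohB1

section Bound

variable (X : Scheme.{u})

/-- on a quasi-compact separated scheme the cohomology of quasi-coherent modules vanishes in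
large degrees -/
theorem exists_bound [CompactSpace X] [X.IsSeparated] :
    ∃ t : ℕ, ∀ (M : X.Modules), M.IsQuasicoherent → ∀ n : ℕ, t ≤ n →
      Subsingleton (Coh.HH X M n) := by
  obtain ⟨s, hs⟩ := (isCompact_univ (X := X)).elim_finite_subcover
    (fun V : X.affineOpens => ((V : X.Opens) : Set X)) (fun V => (V : X.Opens).isOpen)
    (by
      intro y _
      obtain ⟨_, ⟨W, hW, rfl⟩, hyW, -⟩ := X.isBasis_affineOpens.exists_subset_of_mem_open
        (Set.mem_univ y) isOpen_univ
      exact Set.mem_iUnion.mpr ⟨⟨W, hW⟩, hyW⟩)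
  refine ⟨s.card, fun M hM n hn => ?_⟩
  haveI := hM
  refine AffVanish.HH_subsingleton_of_cover X s.card
    (fun j => ((s.equivFin.symm j).1 : X.Opens)) (fun j => (s.equivFin.symm j).1.2) ?_
    (fun V W hV hW => hV.inf hW) M n hn
  rw [eq_top_iff]
  intro y _
  have := hs (Set.mem_univ y)
  simp only [Set.mem_iUnion] at this
  obtain ⟨V, hVs, hy⟩ := this
  refine Opens.mem_iSup.mpr ⟨s.equivFin ⟨V, hVs⟩, ?_⟩
  rw [Equiv.symm_apply_apply]
  exact hy

end Bound

section Pn

variable (k : Type u) [CommRing k] (N : ℕ) {X : Scheme.{u}}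
  (ι : X ⟶ Proj (CohB1.polyGrading N k))

theorem hcov' : ∀ x : Proj (CohB1.polyGrading N k),
    ∃ f ∈ CohB1.polyGrading N k 1, x ∈ Proj.basicOpen (CohB1.polyGrading N k) f :=
  fun x => Groth.Agent.VAmpPn.hcov N x

/-- `L^t ≅ ι^* O(t)` for `L = ι^* O(1)` -/
theorem pullback_twist_pow (t : ℕ) :
    Nonempty (tensorPow ((Scheme.Modules.pullback ι).obj
        (Twist.twist (CohB1.polyGrading N k) 1)) t ≅
      (Scheme.Modules.pullback ι).obj (Twist.twist (CohB1.polyGrading N k) (t : ℤ))) := by
  induction t with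
  | zero =>
    haveI := Groth.Agent.ProjTw.isIso_unitToTwist0 (CohB1.polyGrading N k) (hcov' k N)
    let e : Coh.structureModule (Proj (CohB1.polyGrading N k)) ≅
        Twist.twist (CohB1.polyGrading N k) 0 :=
      asIso (Groth.Agent.ProjTw.unitToTwist0 (CohB1.polyGrading N k))
    exact ⟨(PBH8.pullbackUnitIso ι).symm ≪≫ (Scheme.Modules.pullback ι).mapIso e⟩
  | succ t ih =>
    obtain ⟨e⟩ := ih
    haveI := Groth.Agent.ProjTw.isIso_mulHom (CohB1.polyGrading N k) (hcov' k N) (t : ℤ) 1
    let e' : tensorMod (Twist.twist (CohB1.polyGrading N k) (t : ℤ))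
        (Twist.twist (CohB1.polyGrading N k) 1) ≅
        Twist.twist (CohB1.polyGrading N k) ((t : ℤ) + 1) :=
      asIso (Groth.Agent.ProjTw.mulHom (CohB1.polyGrading N k) (t : ℤ) 1)
    have e'' : Twist.twist (CohB1.polyGrading N k) ((t : ℤ) + 1) ≅
        Twist.twist (CohB1.polyGrading N k) ((t + 1 : ℕ) : ℤ) :=
      eqToIso (by push_cast; rfl)
    exact ⟨mapR e _ ≪≫
      (PullTensH9.pullTensIso ι
        (Groth.Agent.ProjTw.isInvertible_twist (CohB1.polyGrading N k) (hcov' k N) t)
        (Groth.Agent.ProjTw.isInvertible_twist (CohB1.polyGrading N k) (hcov' k N) 1)).symm ≪≫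
      (Scheme.Modules.pullback ι).mapIso (e' ≪≫ e'')⟩

/-- `L^t ⊗ ι^* O(-t) ≅ O_X` -/
theorem tensorPow_tensor_neg (t : ℕ) :
    Nonempty (tensorMod (tensorPow ((Scheme.Modules.pullback ι).obj
        (Twist.twist (CohB1.polyGrading N k) 1)) t)
      ((Scheme.Modules.pullback ι).obj (Twist.twist (CohB1.polyGrading N k) (-(t : ℤ)))) ≅
      Coh.structureModule X) := by
  obtain ⟨e⟩ := pullback_twist_pow k N ι t
  haveI := Groth.Agent.ProjTw.isIso_unitToTwist0 (CohB1.polyGrading N k) (hcov' k N)
  haveI := Groth.Agent.ProjTw.isIso_mulHom (CohB1.polyGrading N k) (hcov' k N) (t : ℤ) (-(t : ℤ))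
  let α : tensorMod (Twist.twist (CohB1.polyGrading N k) (t : ℤ))
      (Twist.twist (CohB1.polyGrading N k) (-(t : ℤ))) ≅
      Twist.twist (CohB1.polyGrading N k) ((t : ℤ) + -(t : ℤ)) :=
    asIso (Groth.Agent.ProjTw.mulHom (CohB1.polyGrading N k) (t : ℤ) (-(t : ℤ)))
  have β : Twist.twist (CohB1.polyGrading N k) ((t : ℤ) + -(t : ℤ)) ≅
      Twist.twist (CohB1.polyGrading N k) 0 :=
    eqToIso (congrArg (Twist.twist (CohB1.polyGrading N k)) (add_neg_cancel (t : ℤ)))
  let γ : Coh.structureModule (Proj (CohB1.polyGrading N k)) ≅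
      Twist.twist (CohB1.polyGrading N k) 0 :=
    asIso (Groth.Agent.ProjTw.unitToTwist0 (CohB1.polyGrading N k))
  exact ⟨mapR e _ ≪≫
    (PullTensH9.pullTensIso ι
      (Groth.Agent.ProjTw.isInvertible_twist (CohB1.polyGrading N k) (hcov' k N) t)
      (Groth.Agent.ProjTw.isInvertible_twist (CohB1.polyGrading N k) (hcov' k N) (-(t : ℤ)))).symm ≪≫
    (Scheme.Modules.pullback ι).mapIso (α ≪≫ β ≪≫ γ.symm) ≪≫ PBH8.pullbackUnitIso ι⟩

/-- on a scheme immersed in `P^N_k`, every coherent module is a quotient of a coherent finite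
locally free module -/
theorem exists_epi_finLocFree [IsNoetherianRing k] [IsImmersion ι] (F : X.Modules)
    (hF : Coh.IsCoh F) :
    ∃ (E : X.Modules) (p : E ⟶ F), FlatMod.IsFinLocFree E ∧ Coh.IsCoh E ∧ Epi p := by
  haveI hNoeth : AlgebraicGeometry.IsNoetherian (Proj (CohB1.polyGrading N k)) :=
    Groth.Agent.S2357.result (CohB1.polyGrading N k)
  haveI : IsLocallyNoetherian X := LocallyOfFiniteType.isLocallyNoetherian ι
  haveI : NoetherianSpace X := ι.isEmbedding.isInducing.noetherianSpace
  haveI : CompactSpace X := inferInstance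
  haveI : QuasiSeparatedSpace X := inferInstance
  have hampP : CohB1.IsAmple (Twist.twist (CohB1.polyGrading N k) 1) :=
    Groth.Agent.ProjTw.isAmple_twist_one' (CohB1.polyGrading N k) (hcov' k N)
  have hamp : CohB1.IsAmple ((Scheme.Modules.pullback ι).obj
      (Twist.twist (CohB1.polyGrading N k) 1)) :=
    TensH8.isAmple_pullback_of_isEmbedding ι ι.isEmbedding hampP
  obtain ⟨n₀, hn₀⟩ := TensH8.exists_isGloballyGenerated_twist hamp F hF
  haveI : F.IsQuasicoherent := hF.1
  haveI : SheafOfModules.IsFiniteType (R := X.ringCatSheaf) F := hF.2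
  have hLn := ProperFinH9.isCoh_of_isInvertible (TensH8.isInvertible_tensorPow hamp.1 n₀)
  haveI : (tensorPow ((Scheme.Modules.pullback ι).obj
      (Twist.twist (CohB1.polyGrading N k) 1)) n₀).IsQuasicoherent := hLn.1
  haveI : SheafOfModules.IsFiniteType (R := X.ringCatSheaf) (tensorPow
      ((Scheme.Modules.pullback ι).obj (Twist.twist (CohB1.polyGrading N k) 1)) n₀) := hLn.2
  haveI := TensQCH8.isQuasicoherent_tensorMod F (tensorPow ((Scheme.Modules.pullback ι).obj
      (Twist.twist (CohB1.polyGrading N k) 1)) n₀)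
  haveI := TensQCH8.isFiniteType_tensorMod F (tensorPow ((Scheme.Modules.pullback ι).obj
      (Twist.twist (CohB1.polyGrading N k) 1)) n₀) hF.2 hLn.2
  obtain ⟨r, g, hloc⟩ := Groth.Agent.FinGG.exists_finite_locSpan
    (tensorMod F (tensorPow ((Scheme.Modules.pullback ι).obj
      (Twist.twist (CohB1.polyGrading N k) 1)) n₀)) (hn₀ n₀ le_rfl)
  have hM : PicF.IsInvertible ((Scheme.Modules.pullback ι).obj
      (Twist.twist (CohB1.polyGrading N k) (-(n₀ : ℤ)))) :=
    TensH8.isInvertible_pullback ι
      (Groth.Agent.ProjTw.isInvertible_twist (CohB1.polyGrading N k) (hcov' k N) (-(n₀ : ℤ)))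
  obtain ⟨α⟩ := tensorPow_tensor_neg k N ι n₀
  let Φ : tensorMod (tensorMod F (tensorPow ((Scheme.Modules.pullback ι).obj
      (Twist.twist (CohB1.polyGrading N k) 1)) n₀)) ((Scheme.Modules.pullback ι).obj
      (Twist.twist (CohB1.polyGrading N k) (-(n₀ : ℤ)))) ≅ F :=
    assoc F _ _ ≪≫ mapL F α ≪≫ rightUnit F
  refine ⟨∐ fun _ : Fin r => (Scheme.Modules.pullback ι).obj
      (Twist.twist (CohB1.polyGrading N k) (-(n₀ : ℤ))), Groth.Agent.FinGG.untwistMap Φ g, ?_, ?_,
    Groth.Agent.FinGG.epi_untwistMap hM Φ g hloc⟩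
  · exact FLFH8.IsFinLocFreeOfRank.isFinLocFree _
      (Groth.Agent.Horrocks.isFinLocFreeOfRank_sigma _ (fun _ => hM))
  · exact Groth.Agent.ProjFin.isCoh_sigma_fin _ (ProperFinH9.isCoh_of_isInvertible hM) r

/-- **Cohomological dimension of a quasi-projective scheme is detected by finite locally free
modules** (statement of S10947, for a Noetherian base ring). -/
theorem vanishing_of_finLocFree [IsNoetherianRing k] [IsImmersion ι] (n : ℕ)
    (h : ∀ E : X.Modules, FlatMod.IsFinLocFree E → ∀ i : ℕ, n < i → Subsingleton (Coh.HH X E i))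
    (F : X.Modules) (hF : Coh.IsCoh F) (i : ℕ) (hi : n < i) : Subsingleton (Coh.HH X F i) := by
  haveI hNoeth : AlgebraicGeometry.IsNoetherian (Proj (CohB1.polyGrading N k)) :=
    Groth.Agent.S2357.result (CohB1.polyGrading N k)
  haveI : IsLocallyNoetherian X := LocallyOfFiniteType.isLocallyNoetherian ι
  haveI : NoetherianSpace X := ι.isEmbedding.isInducing.noetherianSpace
  haveI : CompactSpace X := inferInstance
  haveI : X.IsSeparated := by
    haveI : Scheme.IsSeparated (Proj (CohB1.polyGrading N k)) := inferInstance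
    have e : terminal.from X = ι ≫ terminal.from (Proj (CohB1.polyGrading N k)) :=
      terminal.hom_ext _ _
    refine ⟨?_⟩
    rw [e]
    infer_instance
  obtain ⟨t, ht⟩ := exists_bound X
  have key : ∀ (j i : ℕ), t ≤ i + j → n < i → ∀ (F : X.Modules), Coh.IsCoh F →
      Subsingleton (Coh.HH X F i) := by
    intro j
    induction j with
    | zero =>
      intro i hi _ F hF
      exact ht F hF.1 i (by omega)
    | succ j ih =>
      intro i hi hn F hF
      obtain ⟨E, p, hE, hEc, hp⟩ := exists_epi_finLocFree k N ι F hF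
      have hK := CohKerH8.isCoh_kernel hEc hF p
      let S : ShortComplex X.Modules := ShortComplex.mk (kernel.ι p) p (kernel.condition p)
      have hS : S.ShortExact :=
        { exact := ShortComplex.exact_of_f_is_kernel _ (kernelIsKernel p)
          mono_f := inferInstanceAs (Mono (kernel.ι p))
          epi_g := hp }
      exact Groth.Agent.HHVan.subsingleton_right S hS i (h E hE i hn)
        (ih (i + 1) (by omega) (by omega) _ hK)
  exact key t i (by omega) hi F hF

end Pn

end QProjVanH9
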