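import Mathlib
import Groth.Prelude
import Groth.Agent.Lib.ESZ1_helper6
import Groth.Agent.Lib.ProjExtVan9_helper4
import Groth.Agent.Lib.QProjVan_helper9
import Groth.Agent.Lib.StalkTens3_helper3
import Groth.Agent.Lib.CurveAmple3_helper9
import Groth.Agent.Lib.InvTens2_helper8
import Groth.Agent.S9710

/-!
# The lemma of Enriques–Severi–Zariski (helper6)

`main7680`: `X` proper over a field, `L` ample with inverse `M`, `F` coherent of depth `≥ 2` at
the closed points: `H^1(X, F ⊗ M^m) = 0` for `m ≫ 0`.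
APPEND-ONLY once landed.
-/

set_option autoImplicit false
set_option linter.style.haveILetI false
universe u
open CategoryTheory CategoryTheory.Limits AlgebraicGeometry

namespace Groth.Agent.Lib.ESZH6

open CohB1 Groth.Agent.TensInv TensorProduct

section Depth

variable {X : Scheme.{u}}

/-- tensoring with an invertible module does not change the depth of the stalks. -/
theorem depth_stalk_tensor_invertible (F N : X.Modules) (hN : PicF.IsInvertible N) (x : X) :
    LocCoh.depth (X.presheaf.stalk x) ((tensorMod F N).presheaf.stalk x) =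
      LocCoh.depth (X.presheaf.stalk x) (F.presheaf.stalk x) := by
  obtain ⟨e⟩ := Groth.Agent.Lib.ProjExtVanH4.nonempty_stalk_linearEquiv_of_isInvertible hN x
  let e1 : (tensorMod F N).presheaf.stalk x ≃ₗ[X.presheaf.stalk x]
      (F.presheaf.stalk x) ⊗[X.presheaf.stalk x] (N.presheaf.stalk x) :=
    (Groth.Agent.Lib.StalkTensH3.stalkTensorIso x F N).toLinearEquiv
  let e2 : (F.presheaf.stalk x) ⊗[X.presheaf.stalk x] (N.presheaf.stalk x) ≃ₗ[X.presheaf.stalk x]
      F.presheaf.stalk x :=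
    (TensorProduct.congr (LinearEquiv.refl _ _) e).trans (TensorProduct.rid _ _)
  exact Groth.Agent.DepthLib.idealDepth_congr _ _ (e1.trans e2)

end Depth

section Main

variable (k : Type u) [Field k] (X : Scheme.{u}) [X.Over (Spec (CommRingCat.of k))]
  [IsProper (X ↘ Spec (CommRingCat.of k))]

include k in
/-- an ample invertible module on a proper `k`-scheme has a power which is the pullback of `O(1)`
along a closed immersion into a projective space `P^n_k`. -/
theorem exists_closedImmersion (L : X.Modules) (hL : CohB1.IsAmple L) :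
    ∃ (d n : ℕ) (ι : X ⟶ ProjSpace n k), 0 < d ∧ IsClosedImmersion ι ∧
      Nonempty ((Scheme.Modules.pullback ι).obj (Twist.twistProjSpace n k 1) ≅ tensorPow L d) := by
  obtain ⟨d, hd, hva⟩ := Groth.Agent.S9710.result (X ↘ Spec (CommRingCat.of k)) L hL
  obtain ⟨n, i, hi, hcomp, ⟨eL⟩⟩ := hva d le_rfl
  obtain ⟨ι, hιdef⟩ : ∃ ι : X ⟶ ProjSpace n k, ι = i ≫ (projIso n k).inv := ⟨_, rfl⟩
  have hιS : ι ≫ ProjSpace.toSpec n k = X ↘ Spec (CommRingCat.of k) := by
    rw [hιdef, Category.assoc, projIso_inv_toSpec]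
    exact hcomp
  haveI : IsImmersion i := hi
  haveI : IsImmersion ι := by rw [hιdef]; infer_instance
  haveI : IsProper (ProjSpace.toSpec n k) :=
    Groth.Agent.Lib.ProjSpaceProperH4.isProper_toSpec n k
  haveI : IsProper (ι ≫ ProjSpace.toSpec n k) := by rw [hιS]; infer_instance
  haveI : IsProper ι := IsProper.of_comp ι (ProjSpace.toSpec n k)
  have hcl : IsClosedImmersion ι :=
    IsClosedImmersion.of_isPreimmersion ι ι.isClosedMap.isClosed_range
  obtain ⟨e1⟩ := pullback_comp_inv_twist i 1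
  refine ⟨d, n, ι, hd, hcl, ?_⟩
  rw [hιdef]
  exact ⟨e1 ≪≫ eL.symm⟩

include k in
/-- **Enriques–Severi–Zariski**, with the vanishing of `H^0` as well. -/
theorem main7680' (L : X.Modules) (hL : CohB1.IsAmple L) (M : X.Modules)
    (hM : ClSub.IsInverseOf L M) (F : X.Modules) (hF : Coh.IsCoh F)
    (hdepth : ∀ x : X, IsClosed ({x} : Set X) →
      2 ≤ LocCoh.depth (X.presheaf.stalk x) (F.presheaf.stalk x)) :
    ∃ m₀ : ℕ, ∀ m : ℕ, m₀ ≤ m → ∀ i : ℕ, i ≤ 1 →
      Subsingleton (Coh.HH X (CohB1.tensorMod F (CohB1.tensorPow M m)) i) := by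
  haveI : IsLocallyNoetherian X :=
    LocallyOfFiniteType.isLocallyNoetherian (X ↘ Spec (CommRingCat.of k))
  obtain ⟨ε₁⟩ := hM
  have hLinv : PicF.IsInvertible L := hL.1
  have hMinv : PicF.IsInvertible M := InvTensH8.isInvertible_of_tensor_iso (comm M L ≪≫ ε₁)
  obtain ⟨d, n, ι, hd, hcl, ⟨eO1⟩⟩ := exists_closedImmersion k X L hL
  haveI := hcl
  -- `ι^* O(-q) ≅ M^(d q)`
  have hneg : ∀ q : ℕ, Nonempty ((Scheme.Modules.pullback ι).obj
      (Twist.twistProjSpace n k (-(q : ℤ))) ≅ tensorPow M (d * q)) := by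
    intro q
    obtain ⟨a⟩ := QProjVanH9.tensorPow_tensor_neg k n ι q
    obtain ⟨b⟩ := TensPowH9.tensorPow_congr eO1 q
    obtain ⟨c⟩ := TensPowH9.tensorPow_mul L d q
    obtain ⟨e⟩ := Groth.Agent.NegPow.tensorPow_inverse ε₁ (d * q)
    exact inverse_unique (mapR (b ≪≫ c).symm _ ≪≫ a) e
  -- vanishing for the modules `F ⊗ M^j`
  have hG : ∀ j : ℕ, ∃ q₀ : ℤ, ∀ q : ℤ, q₀ ≤ q → ∀ i : ℕ, i ≤ 1 → Subsingleton (Coh.HH X
      (tensorMod (tensorMod F (tensorPow M j))
        ((Scheme.Modules.pullback ι).obj (Twist.twistProjSpace n k (-q)))) i) := by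
    intro j
    have hcoh : Coh.IsCoh (tensorMod F (tensorPow M j)) :=
      CurveAmple.isCoh_tensorMod X hF (TensH8.isInvertible_tensorPow hMinv j)
    exact (Groth.Agent.Lib.ProjExtVanH4.exists_HH_pullback_twist_vanish_iff n k ι _ hcoh 1).mpr
        (fun z hz => by
          rw [depth_stalk_tensor_invertible F _ (TensH8.isInvertible_tensorPow hMinv j) z]
          refine lt_of_lt_of_le ?_ (hdepth z hz)
          norm_num)
  choose q₀ hq₀ using hG
  refine ⟨d * ((Finset.range d).sup (fun j => (q₀ j).toNat)), fun m hm i hi => ?_⟩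
  have ht : (Finset.range d).sup (fun j => (q₀ j).toNat) ≤ m / d := by
    rw [Nat.le_div_iff_mul_le hd, mul_comm]
    exact hm
  have hr : m % d ∈ Finset.range d := Finset.mem_range.mpr (Nat.mod_lt _ hd)
  have hq : q₀ (m % d) ≤ ((m / d : ℕ) : ℤ) := by
    have h1 := Finset.le_sup (f := fun j => (q₀ j).toNat) hr
    have h2 : (q₀ (m % d)).toNat ≤ m / d := le_trans h1 ht
    exact Int.toNat_le.mp h2
  have hvan := hq₀ (m % d) _ hq i hi
  obtain ⟨e1⟩ := TensPowH9.tensorMod_tensorPow_divMod F M d (m / d) (m % d)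
  obtain ⟨e2⟩ := TensPowH9.tensorPow_mul M d (m / d)
  obtain ⟨e3⟩ := hneg (m / d)
  have hm' : m % d + d * (m / d) = m := Nat.mod_add_div m d
  rw [← hm']
  exact Groth.Agent.HHVan.subsingleton_of_iso (e1 ≪≫ mapL _ (e2 ≪≫ e3.symm)).symm i hvan

include k in
/-- **Enriques–Severi–Zariski** -/
theorem main7680 (L : X.Modules) (hL : CohB1.IsAmple L) (M : X.Modules)
    (hM : ClSub.IsInverseOf L M) (F : X.Modules) (hF : Coh.IsCoh F)
    (hdepth : ∀ x : X, IsClosed ({x} : Set X) →
      2 ≤ LocCoh.depth (X.presheaf.stalk x) (F.presheaf.stalk x)) :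
    ∃ m₀ : ℕ, ∀ m : ℕ, m₀ ≤ m →
      Subsingleton (Coh.HH X (CohB1.tensorMod F (CohB1.tensorPow M m)) 1) := by
  obtain ⟨m₀, h⟩ := main7680' k X L hL M hM F hF hdepth
  exact ⟨m₀, fun m hm => h m hm 1 le_rfl⟩

end Main

end Groth.Agent.Lib.ESZH6
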