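import Mathlib
import Groth.Prelude
import Groth.Agent.Lib.Tens32_helper8

/-!
# Affine neighbourhoods `X_s` of finite sets for a fixed invertible module (helper8)
APPEND-ONLY once landed.
-/

set_option autoImplicit false

namespace TensH8

open AlgebraicGeometry CategoryTheory CategoryTheory.Limits TopologicalSpace Opposite TensorProduct
open QcqsLoc MonoidalCategory GenLocH8 FLFH8 QCohExtn PBH8 SerreCrit

universe u

variable {X : Scheme.{u}}

/-- If the affine loci `X_t` of sections of a fixed invertible module `M` form a basis, then every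
finite set of points contained in an open `U` lies in some affine `X_s ⊆ U`. -/
theorem exists_affine_genLocus_of_finite_of_basis {M : X.Modules} (hM : PicF.IsInvertible M)
    (hbasis : ∀ (x : X) (U' : X.Opens), x ∈ U' → ∃ t : Coh.structureModule X ⟶ M,
      x ∈ CohB1.genLocus M t ∧ CohB1.genLocus M t ≤ U' ∧ IsAffineOpen (CohB1.genLocus M t))
    (Z : Set X) (hZ : Z.Finite) (U : X.Opens) (hZU : Z ⊆ U) :
    ∃ s : Coh.structureModule X ⟶ M, IsAffineOpen (CohB1.genLocus M s) ∧
      Z ⊆ CohB1.genLocus M s ∧ CohB1.genLocus M s ≤ U := by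
  classical
  obtain ⟨Z', hsub, hcov, hanti⟩ := exists_special_subset hZ.toFinset
  have hUz : ∀ z : X, ∃ Uz : X.Opens, Uz ≤ U ∧ (z ∈ Z' → z ∈ Uz) ∧
      ∀ z' ∈ Z', z' ≠ z → z' ∉ Uz := by
    intro z
    have hcl : IsClosed (⋃ z' ∈ Z'.erase z, closure ({z'} : Set X)) :=
      Set.Finite.isClosed_biUnion (Z'.erase z).finite_toSet (fun _ _ => isClosed_closure)
    refine ⟨U ⊓ ⟨(⋃ z' ∈ Z'.erase z, closure ({z'} : Set X))ᶜ, hcl.isOpen_compl⟩, inf_le_left,
      ?_, ?_⟩
    · intro hz
      refine ⟨hZU (hZ.mem_toFinset.mp (hsub hz)), ?_⟩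
      show z ∉ ⋃ z' ∈ Z'.erase z, closure ({z'} : Set X)
      intro hmem
      obtain ⟨z', hz', hzcl⟩ := Set.mem_iUnion₂.mp hmem
      have hz'' : z' ∈ Z'.erase z := hz'
      have hsp : z' ⤳ z := specializes_iff_mem_closure.mpr hzcl
      exact (Finset.ne_of_mem_erase hz'') (hanti z hz z' (Finset.mem_of_mem_erase hz'') hsp)
    · intro z' hz' hne hmem
      apply hmem.2
      exact Set.mem_iUnion₂.mpr ⟨z', Finset.mem_coe.mpr (Finset.mem_erase.mpr ⟨hne, hz'⟩),
        subset_closure rfl⟩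
  choose Uz hUzU hzUz hUzne using hUz
  have hsec : ∀ z : X, ∃ t : Coh.structureModule X ⟶ M,
      (z ∈ Z' → z ∈ CohB1.genLocus M t ∧ CohB1.genLocus M t ≤ Uz z ∧
        IsAffineOpen (CohB1.genLocus M t)) := by
    intro z
    by_cases hz : z ∈ Z'
    · obtain ⟨t, h1, h2, h3⟩ := hbasis z (Uz z) (hzUz z hz)
      exact ⟨t, fun _ => ⟨h1, h2, h3⟩⟩
    · exact ⟨0, fun h => absurd h hz⟩
  choose t1 ht1 using hsec
  obtain ⟨hmem, hunion, haff⟩ := genLocus_sum hM Z' t1 id
    (fun z hz => (ht1 z hz).1)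
    (fun z hz z' hz' hne hmem => hUzne z' z hz (Ne.symm hne) ((ht1 z' hz').2.1 hmem))
    (fun z hz => (ht1 z hz).2.2)
  refine ⟨∑ z ∈ Z', t1 z, haff, ?_, ?_⟩
  · intro z hz
    obtain ⟨z', hz', hsp⟩ := hcov z (hZ.mem_toFinset.mpr hz)
    exact hsp.mem_open (CohB1.genLocus _ _).isOpen (hmem z' hz')
  · intro x hx
    obtain ⟨z, hz, hxz⟩ := hunion x hx
    exact hUzU z ((ht1 z hz).2.1 hxz)

/-- On a quasi-affine scheme, the affine loci `X_t` of sections of an invertible module form a
basis. -/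
theorem exists_affine_genLocus_of_isQuasiAffine [X.IsQuasiAffine] {L : X.Modules}
    (hL : PicF.IsInvertible L) (x : X) (U' : X.Opens) (hx : x ∈ U') :
    ∃ t : Coh.structureModule X ⟶ L, x ∈ CohB1.genLocus L t ∧ CohB1.genLocus L t ≤ U' ∧
      IsAffineOpen (CohB1.genLocus L t) := by
  obtain ⟨W, hW, hxW, hWU, e, he⟩ := exists_isGen_le hL x U' hx
  obtain ⟨_, ⟨_, ⟨g, hg, rfl⟩, rfl⟩, hxg, hgW⟩ :=
    (Scheme.IsQuasiAffine.isBasis_basicOpen X).exists_subset_of_mem_open hxW W.isOpen
  have hle : X.basicOpen g ≤ W := hgW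
  have he' : IsGen L (X.basicOpen g) (rF L hle e) := he.res hle
  -- the locus of the generator
  have hloc : HasLocus (Frame.self L) (rF L hle e) (X.basicOpen g) := by
    intro W' hW' e' he''
    obtain ⟨u, hu⟩ := he''.exists_coef (rF L hW' (rF L hle e))
    have hu' : IsGen L W' (u • e') := hu ▸ he'.res hW'
    have h1 : u = (Frame.self L).coefOf (rF L hle e) W' hW' e' he'' := by
      apply Frame.coefOf_unique
      exact hu
    rw [← h1, inf_eq_right.mpr hW']
    exact (X.basicOpen_of_isUnit (isUnit_of_isGen_smul he'' hu')).symm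
  haveI := isQuasicoherent_of_isInvertible hL
  obtain ⟨N, s, hs⟩ := exists_pow_smul_extends (F := L) (U := ⊤) (a := g)
    (by simpa using isCompact_univ (X := X)) (by simpa using isQuasiSeparated_univ (α := X))
    (rF L hle e)
  have h1 := hasLocus_smul_extend (Frame.self L) g (rF L hle e) le_rfl hloc N s hs
  have h2 := genLocus_homOfSec hL (Frame.self L) _ h1
  exact ⟨homOfSec L (g • s), h2 ▸ hxg, h2 ▸ (hle.trans hWU), h2 ▸ hg⟩

/-- On a quasi-affine scheme, every finite subset of an open `W` lies in an affine `X_s ⊆ W` for a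
global section `s` of a given invertible module. -/
theorem exists_affine_genLocus_of_finite_of_isQuasiAffine [X.IsQuasiAffine] {L : X.Modules}
    (hL : PicF.IsInvertible L) (W : X.Opens) (E : Set X) (hE : E.Finite) (hEW : E ⊆ W) :
    ∃ s : Coh.structureModule X ⟶ L, IsAffineOpen (CohB1.genLocus L s) ∧
      E ⊆ CohB1.genLocus L s ∧ CohB1.genLocus L s ≤ W :=
  exists_affine_genLocus_of_finite_of_basis hL
    (fun x U' hx => exists_affine_genLocus_of_isQuasiAffine hL x U' hx) E hE W hEW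

end TensH8
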