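import Mathlib
import Groth.Prelude
import Groth.Agent.Lib.Tens33_helper8
import Groth.Agent.Lib.Tens28_helper8
import Groth.Agent.Lib.FLF6_helper8
import Groth.Agent.Lib.FinCov3_helper8

/-!
# Sections of `E ⊗ L^{kn}` generating at finitely many points (helper8)
APPEND-ONLY once landed.
-/

set_option autoImplicit false

namespace TensH8

open AlgebraicGeometry CategoryTheory CategoryTheory.Limits TopologicalSpace Opposite TensorProduct
open QcqsLoc MonoidalCategory GenLocH8 FLFH8 QCohExtn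

universe u

variable {X : Scheme.{u}}

/-- A twisted frame carries generators to generators. -/
theorem TFrame.isGen {L F T : X.Modules} {n : ℕ} (Θ : TFrame L F T n) {W : X.Opens}
    {e : Γ(L, W)} (he : IsGen L W e) {g : Γ(F, W)} (hg : IsGen F W g) :
    IsGen T W (Θ.ψ W e he g) := by
  intro O hO
  obtain ⟨h1, h2⟩ := hg O hO
  rw [Θ.res hO e he g]
  constructor
  · intro l
    obtain ⟨t, rfl⟩ := (Θ.bij O (rF L hO e) (he.res hO)).2 l
    obtain ⟨c, hc⟩ := h1 t
    exact ⟨c, by rw [hc, Θ.smul]⟩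
  · intro c hc
    apply h2
    apply (Θ.bij O (rF L hO e) (he.res hO)).1
    rw [Θ.smul, hc, Θ.ψ_zero]

/-- An invertible module has a generator on a neighbourhood of any finite subset of an affine
open. -/
theorem exists_isGen_of_finite {E : X.Modules} (hE : PicF.IsInvertible E) (Z : Set X)
    (hZ : Z.Finite) (V : X.Opens) (hV : IsAffineOpen V) (hZV : Z ⊆ V) :
    ∃ (U : X.Opens) (e : Γ(E, U)), Z ⊆ U ∧ U ≤ V ∧ IsGen E U e := by
  obtain ⟨U, hZU, hUV, ⟨α⟩⟩ := FLFH8.exists_free_nhd_of_finite E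
    (finLocFreeOfRank_one_of_isInvertible hE) Z hZ V hV hZV
  obtain ⟨t, ht⟩ := exists_sections_of_iso E α
  have hle : U ≤ U.ι ''ᵁ ⊤ := by rw [Scheme.Opens.ι_image_top]
  refine ⟨U, rF E hle (t 0), hZU, hUV, fun O hO => ?_⟩
  obtain ⟨hsp, hli⟩ := ht O (hO.trans hle)
  rw [rF_rF]
  constructor
  · intro l
    have hl : l ∈ Submodule.span Γ(X, O) (Set.range fun j => rF E (hO.trans hle) (t j)) :=
      hsp ▸ Submodule.mem_top
    obtain ⟨c, hc⟩ := (Submodule.mem_span_range_iff_exists_fun _).1 hl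
    refine ⟨c 0, ?_⟩
    rw [← hc]
    simp
  · intro c hc
    exact Fintype.linearIndependent_iff.1 hli (fun _ => c) (by simpa using hc) 0

/-- For `L` ample and `E` invertible on a quasi-separated scheme, some `n` has the property that
every `E ⊗ L^{kn}` (`k ≥ 1`) has a global section generating at all points of a given finite set. -/
theorem exists_sections_gen_at_points [QuasiSeparatedSpace X] {L : X.Modules}
    (hL : CohB1.IsAmple L) {E : X.Modules} (hE : PicF.IsInvertible E) (Z : Set X)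
    (hZ : Z.Finite) :
    ∃ n : ℕ, ∀ k : ℕ, 1 ≤ k →
      ∃ s : Coh.structureModule X ⟶ CohB1.tensorMod E (CohB1.tensorPow L (k * n)),
        Z ⊆ CohB1.genLocus (CohB1.tensorMod E (CohB1.tensorPow L (k * n))) s := by
  obtain ⟨hinv, hc, -⟩ := id hL
  haveI := hc
  haveI : E.IsQuasicoherent := isQuasicoherent_of_finLocFree E
    (IsFinLocFreeOfRank.isFinLocFree E (finLocFreeOfRank_one_of_isInvertible hE))
  obtain ⟨n₁, s₁, hZ₁, -, haff₁⟩ := exists_affine_genLocus_of_finite hL Z hZ ⊤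
    (fun _ _ => trivial)
  obtain ⟨U, e, hZU, -, he⟩ := exists_isGen_of_finite hE Z hZ _ haff₁ hZ₁
  obtain ⟨n₂, s₂, hZ₂, hU₂, -⟩ := exists_affine_genLocus_of_finite hL Z hZ U hZU
  have hloc := hasLocus_val (Frame.pow L (n₂ + 1)) s₂ ⊤
  have hOU : CohB1.genLocus _ s₂ ⊓ ⊤ ≤ U := inf_le_left.trans hU₂
  have hctop : IsCompact ((⊤ : X.Opens) : Set X) := by simpa using isCompact_univ (X := X)
  obtain ⟨N0, hN0⟩ := TFrame.exists_extend hinv E (Frame.pow L (n₂ + 1)) hctop
    (SecTwist.val s₂ ⊤) le_top hloc (rF E hOU e)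
  refine ⟨(n₂ + 1) * (N0 + 1), fun k hk => ?_⟩
  have hN : N0 ≤ k * (N0 + 1) := by nlinarith
  have hkn : k * ((n₂ + 1) * (N0 + 1)) = (n₂ + 1) * (k * (N0 + 1)) := by ring
  obtain ⟨y, hy⟩ := hN0 (k * (N0 + 1)) hN
    ((TFrame.tensor (Frame.pow L (k * ((n₂ + 1) * (N0 + 1)))) E).cast hkn)
  refine ⟨homOfSec _ y, fun z hz => ?_⟩
  have hzO : z ∈ CohB1.genLocus _ s₂ ⊓ ⊤ := ⟨hZ₂ hz, trivial⟩
  obtain ⟨W, -, hzW, hWO, eL, heL⟩ := exists_isGen_le hinv z _ hzO
  have h1 := hy W hWO eL heL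
  have hunit : IsUnit ((Frame.pow L (n₂ + 1)).coefOf (SecTwist.val s₂ ⊤) W
      (hWO.trans le_top) eL heL) := by
    apply isUnit_of_basicOpen_eq
    rw [← hloc W (hWO.trans le_top) eL heL]
    exact inf_eq_right.mpr hWO
  have hgen : IsGen (CohB1.tensorMod E (CohB1.tensorPow L (k * ((n₂ + 1) * (N0 + 1))))) W
      (rF _ (hWO.trans le_top) y) := by
    rw [h1]
    apply TFrame.isGen
    apply isGen_smul_of_isUnit _ (hunit.pow _)
    have := (he.res hOU).res hWO
    rwa [rF_rF] at this ⊢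
  have h4 := genLocus_inf_eq (homOfSec _ y) hgen 1 (by
    rw [one_smul, val_homOfSec])
  rw [Scheme.basicOpen_of_isUnit _ isUnit_one] at h4
  have : z ∈ CohB1.genLocus _ (homOfSec _ y) ⊓ W := by rw [h4]; exact hzW
  exact this.1

end TensH8
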