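import Mathlib
import Groth.Prelude
import Groth.Agent.Lib.AnnSh_helper8
import Groth.Agent.Lib.FLF8_helper8
import Groth.Agent.Lib.Tens45_helper8

/-!
# The zero scheme of a section of an invertible module (helper8)
APPEND-ONLY once landed.
-/

set_option autoImplicit false

namespace ZeroSchH8

open AlgebraicGeometry CategoryTheory CategoryTheory.Limits TopologicalSpace Opposite RelFPKit

universe u

section Alg

variable {A A' : Type u} [CommRing A] [CommRing A'] {ρ : A →+* A'} {a : A}
  {M M' : Type u} [AddCommGroup M] [Module A M] [AddCommGroup M'] [Module A' M'] {l : M →+ M'}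

/-- the ideal of `x` with `x • M ⊆ A • t`. -/
def colonI (A : Type u) [CommRing A] {M : Type u} [AddCommGroup M] [Module A M] (t : M) :
    Ideal A where
  carrier := {x | ∀ m : M, ∃ b : A, x • m = b • t}
  add_mem' := by
    intro x y hx hy m
    obtain ⟨b, hb⟩ := hx m
    obtain ⟨b', hb'⟩ := hy m
    exact ⟨b + b', by rw [add_smul, hb, hb', add_smul]⟩
  zero_mem' := fun m => ⟨0, by rw [zero_smul, zero_smul]⟩
  smul_mem' := by
    intro c x hx m
    obtain ⟨b, hb⟩ := hx m
    exact ⟨c * b, by rw [smul_eq_mul, mul_smul, hb, mul_smul]⟩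

theorem mem_colonI {t : M} {x : A} : x ∈ colonI A t ↔ ∀ m : M, ∃ b : A, x • m = b • t := Iff.rfl

/-- The colon ideal of a finite module commutes with localization away from an element. -/
theorem map_colonI (h : LocData ρ a l) [Module.Finite A M] (t : M) :
    (colonI A t).map ρ = colonI A' (l t) := by
  letI := ρ.toAlgebra
  haveI := h.isLoc
  have hu : IsUnit (ρ a) := IsLocalization.Away.algebraMap_isUnit (S := A') a
  apply le_antisymm
  · rw [Ideal.map_le_iff_le_comap]
    intro x hx
    rw [Ideal.mem_comap, mem_colonI]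
    intro m'
    obtain ⟨n, m, hm⟩ := h.surj m'
    obtain ⟨b, hb⟩ := hx m
    obtain ⟨v, hv⟩ := (hu.pow n).exists_left_inv
    refine ⟨v * ρ b, ?_⟩
    have h1 : ρ a ^ n • (ρ x • m') = ρ b • l t := by
      rw [smul_comm, hm, ← h.smul, hb, h.smul]
    calc ρ x • m' = (v * ρ a ^ n) • (ρ x • m') := by rw [hv, one_smul]
      _ = v • (ρ a ^ n • (ρ x • m')) := mul_smul _ _ _
      _ = (v * ρ b) • l t := by rw [h1, mul_smul]
  · intro y hy
    obtain ⟨k, x, hx⟩ := IsLocalization.Away.surj a y
    have hx' : y * ρ a ^ k = ρ x := hx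
    obtain ⟨s, hs⟩ := (Module.Finite.fg_top : (⊤ : Submodule A M).FG)
    have key : ∀ m ∈ (s : Set M), ∃ (n : ℕ) (b : A), a ^ n • x • m = b • t := by
      intro m _
      obtain ⟨b', hb'⟩ := hy (l m)
      obtain ⟨k', b, hb⟩ := IsLocalization.Away.surj a b'
      have hb2 : b' * ρ a ^ k' = ρ b := hb
      -- l (a^k' • x • m) = l (a^k • b • t)
      have h1 : l (a ^ k' • x • m - a ^ k • b • t) = 0 := by
        rw [map_sub, h.smul, h.smul, h.smul, h.smul, ← hx', ← hb2, map_pow, map_pow, sub_eq_zero]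
        have e1 : ρ a ^ k' • (y * ρ a ^ k) • l m = (ρ a ^ k' * ρ a ^ k) • (y • l m) := by
          rw [← mul_smul, ← mul_smul]; congr 1; ring
        have e2 : ρ a ^ k • (b' * ρ a ^ k') • l t = (ρ a ^ k' * ρ a ^ k) • (b' • l t) := by
          rw [← mul_smul, ← mul_smul]; congr 1; ring
        rw [e1, e2, hb']
      obtain ⟨n, hn⟩ := h.ker _ h1
      refine ⟨n + k', a ^ n * a ^ k * b, ?_⟩
      rw [smul_sub, sub_eq_zero] at hn
      rw [pow_add, mul_smul, hn, ← mul_smul, ← mul_smul, mul_assoc]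
    choose! n b hn using key
    let N := s.sup n
    have hN : a ^ N * x ∈ colonI A t := by
      rw [mem_colonI]
      intro m
      have hm : m ∈ Submodule.span A (s : Set M) := hs ▸ Submodule.mem_top
      refine Submodule.span_induction (p := fun m _ => ∃ b : A, (a ^ N * x) • m = b • t)
        ?_ ?_ ?_ ?_ hm
      · intro m hm
        have hle : n m ≤ N := Finset.le_sup hm
        obtain ⟨d, hd⟩ := Nat.exists_eq_add_of_le hle
        refine ⟨a ^ d * b m, ?_⟩
        rw [mul_smul, hd, pow_add, mul_comm (a ^ n m), mul_smul, hn m hm, mul_smul]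
      · exact ⟨0, by rw [smul_zero, zero_smul]⟩
      · rintro m₁ m₂ _ _ ⟨b₁, h1⟩ ⟨b₂, h2⟩
        exact ⟨b₁ + b₂, by rw [smul_add, h1, h2, add_smul]⟩
      · rintro c m _ ⟨b₁, h1⟩
        exact ⟨c * b₁, by rw [smul_comm, h1, mul_smul]⟩
    have h2 : ρ (a ^ N * x) ∈ (colonI A t).map ρ := Ideal.mem_map_of_mem ρ hN
    have h3 : ρ (a ^ N * x) = y * ρ a ^ (N + k) := by
      rw [map_mul, map_pow, ← hx', pow_add]; ring
    rw [h3] at h2
    obtain ⟨v, hv⟩ := hu.pow (N + k)
    have h4 : y = y * ρ a ^ (N + k) * ((v⁻¹ : A'ˣ) : A') := by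
      rw [← hv, mul_assoc, Units.mul_inv, mul_one]
    rw [h4]
    exact Ideal.mul_mem_right _ _ h2

end Alg


section Sheaf

open QcqsLoc QCohExtn GenLocH8

variable {X : Scheme.{u}} (L : X.Modules) (s : Coh.structureModule X ⟶ L)

theorem zeroIdealOn_eq (U : X.Opens) :
    (show Ideal Γ(X, U) from PicF2.zeroIdealOn L s U) =
      colonI Γ(X, U) (SecTwist.val s U : Γ(L, U)) := rfl

/-- The zero scheme as ideal sheaf data, for `L` quasi-coherent with finitely generated sections. -/
noncomputable def zeroIdeal [L.IsQuasicoherent]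
    (hfin : ∀ U : X.affineOpens, Module.Finite Γ(X, U.1) Γ(L, U.1)) : X.IdealSheafData where
  ideal U := colonI Γ(X, U.1) (SecTwist.val s U.1 : Γ(L, U.1))
  map_ideal_basicOpen U f := by
    haveI := hfin U
    have h := map_colonI (RelFPAff.locData (F := L) U.2 f (homOfLE (X.basicOpen_le f)) rfl)
      (SecTwist.val s U.1 : Γ(L, U.1))
    have h2 : (L.presheaf.map (homOfLE (X.basicOpen_le f)).op).hom (SecTwist.val s U.1 : Γ(L, U.1)) =
        (SecTwist.val s (X.basicOpen f) : Γ(L, X.basicOpen f)) :=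
      SecTwist.map_val s (homOfLE (X.basicOpen_le f))
    rw [h2] at h
    exact h

theorem zeroScheme_eq [L.IsQuasicoherent]
    (hfin : ∀ U : X.affineOpens, Module.Finite Γ(X, U.1) Γ(L, U.1)) :
    PicF2.zeroScheme L s = zeroIdeal L s hfin :=
  Scheme.IdealSheafData.ofIdeals_ideal (zeroIdeal L s hfin)

theorem finite_sections_of_isInvertible {L : X.Modules} (hL : PicF.IsInvertible L)
    (U : X.affineOpens) : Module.Finite Γ(X, U.1) Γ(L, U.1) := by
  haveI := TensH8.isQuasicoherent_of_isInvertible hL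
  haveI := (FLFH8.fp_flat_sections_of_finLocFree L (TensH8.isFinLocFree_of_isInvertible hL) U.2).1
  infer_instance

/-- the ideal of the zero scheme of a section of an invertible module over an affine open. -/
theorem zeroScheme_ideal {L : X.Modules} (hL : PicF.IsInvertible L)
    (s : Coh.structureModule X ⟶ L) (U : X.affineOpens) :
    (PicF2.zeroScheme L s).ideal U = colonI Γ(X, U.1) (SecTwist.val s U.1 : Γ(L, U.1)) := by
  haveI := TensH8.isQuasicoherent_of_isInvertible hL
  rw [zeroScheme_eq L s (finite_sections_of_isInvertible hL)]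
  rfl

/-- the colon ideal at a generator. -/
theorem colonI_of_isGen {L : X.Modules} {W : X.Opens} {e : Γ(L, W)} (he : IsGen L W e)
    (c : Γ(X, W)) : colonI Γ(X, W) (c • e) = Ideal.span {c} := by
  have he' := he W le_rfl
  rw [SubExt.rF_self] at he'
  ext a
  rw [mem_colonI, Ideal.mem_span_singleton']
  constructor
  · intro h
    obtain ⟨b, hb⟩ := h e
    refine ⟨b, ?_⟩
    have h1 : (b * c - a) • e = 0 := by
      rw [sub_smul, mul_smul, hb, sub_self]
    exact sub_eq_zero.1 (he'.2 _ h1)
  · rintro ⟨b, rfl⟩ m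
    obtain ⟨r, rfl⟩ := he'.1 m
    refine ⟨b * r, ?_⟩
    rw [← mul_smul, ← mul_smul]
    congr 1
    ring

end Sheaf

end ZeroSchH8
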