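import Mathlib
import Groth.Prelude
import Groth.Agent.Lib.ZeroSch1_helper8
import Groth.Agent.Lib.Tens5_helper8

set_option autoImplicit false

namespace ZeroSchH8

open AlgebraicGeometry CategoryTheory CategoryTheory.Limits TopologicalSpace Opposite
open QcqsLoc QCohExtn GenLocH8 TensH8

universe u

variable {X : Scheme.{u}}

/-- the ideal of the zero scheme on an affine open inside an open with a generator. -/
theorem zeroScheme_ideal_of_isGen {L : X.Modules} (hL : PicF.IsInvertible L)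
    (s : Coh.structureModule X ⟶ L) {W : X.Opens} {e : Γ(L, W)} (he : IsGen L W e)
    (U : X.affineOpens) (hUW : U.1 ≤ W) (c : Γ(X, U.1))
    (hc : (SecTwist.val s U.1 : Γ(L, U.1)) = c • rF L hUW e) :
    (PicF2.zeroScheme L s).ideal U = Ideal.span {c} := by
  rw [zeroScheme_ideal hL s U, hc]
  exact colonI_of_isGen (he.res hUW) c

/-- if `(a) = (b)` with `b` a nonzerodivisor then `a = u b` for a unit `u`. -/
theorem exists_unit_of_span_eq {R : Type u} [CommRing R] {a b : R}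
    (hb : b ∈ nonZeroDivisors R) (h : Ideal.span {a} = Ideal.span {b}) :
    ∃ u : Rˣ, a = u * b := by
  have h1 : a ∈ Ideal.span {b} := h ▸ Ideal.mem_span_singleton_self a
  have h2 : b ∈ Ideal.span {a} := h.symm ▸ Ideal.mem_span_singleton_self b
  obtain ⟨u, hu⟩ := Ideal.mem_span_singleton'.1 h1
  obtain ⟨v, hv⟩ := Ideal.mem_span_singleton'.1 h2
  have h3 : (v * u - 1) * b = 0 := by
    rw [sub_mul, mul_assoc, hu, hv, one_mul, sub_self]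
  have h4 : v * u - 1 = 0 := (mem_nonZeroDivisors_iff.1 hb).2 _ h3
  have h5 : v * u = 1 := sub_eq_zero.1 h4
  exact ⟨⟨u, v, by rw [mul_comm]; exact h5, h5⟩, hu.symm⟩

/-- S19459. -/
theorem isDivOfIdeal_mul (L₁ L₂ : X.Modules) (hL₁ : PicF.IsInvertible L₁)
    (hL₂ : PicF.IsInvertible L₂)
    (s₁ : Coh.structureModule X ⟶ L₁) (s₂ : Coh.structureModule X ⟶ L₂)
    (D₁ D₂ : Mero.Divisor X) (hD₁ : Mero.IsDivOfIdeal D₁ (PicF2.zeroScheme L₁ s₁))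
    (hD₂ : Mero.IsDivOfIdeal D₂ (PicF2.zeroScheme L₂ s₂)) :
    Mero.IsDivOfIdeal (D₁ * D₂)
      (PicF2.zeroScheme (CohB1.tensorMod L₁ L₂) (SecTwist.tmulHom s₁ s₂)) := by
  intro x
  obtain ⟨U₁, hxU₁, f₁, hf₁, hI₁, hg₁⟩ := hD₁ x
  obtain ⟨U₂, hxU₂, f₂, hf₂, hI₂, hg₂⟩ := hD₂ x
  obtain ⟨W0, hxW0, e₁, e₂, he₁, he₂⟩ := exists_isGen₂ hL₁ hL₂ x
  obtain ⟨_, ⟨U, hU : IsAffineOpen U, rfl⟩, hxU, hUle⟩ :=
    (X.isBasis_affineOpens).exists_subset_of_mem_open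
      (show x ∈ (U₁.1 ⊓ U₂.1 ⊓ W0 : X.Opens) from ⟨⟨hxU₁, hxU₂⟩, hxW0⟩) (U₁.1 ⊓ U₂.1 ⊓ W0).isOpen
  have hUU₁ : U ≤ U₁.1 := fun y hy => (hUle hy).1.1
  have hUU₂ : U ≤ U₂.1 := fun y hy => (hUle hy).1.2
  have hUW : U ≤ W0 := fun y hy => (hUle hy).2
  let Ua : X.affineOpens := ⟨U, hU⟩
  -- the coefficients
  obtain ⟨c₁, hc₁⟩ := (he₁ U hUW).1 (SecTwist.val s₁ U)
  obtain ⟨c₂, hc₂⟩ := (he₂ U hUW).1 (SecTwist.val s₂ U)
  have hJ₁ := zeroScheme_ideal_of_isGen hL₁ s₁ he₁ Ua hUW c₁ hc₁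
  have hJ₂ := zeroScheme_ideal_of_isGen hL₂ s₂ he₂ Ua hUW c₂ hc₂
  have hval : (SecTwist.val (SecTwist.tmulHom s₁ s₂) U : Γ(CohB1.tensorMod L₁ L₂, U)) =
      (c₁ * c₂) • rF (CohB1.tensorMod L₁ L₂) hUW (SecTwist.tmul L₁ L₂ W0 e₁ e₂) := by
    rw [SecTwist.val_tmulHom, hc₁, hc₂, tmul_smul_left, tmul_smul_right, rF_tmul, mul_smul]
  have hJ := zeroScheme_ideal_of_isGen (isInvertible_tensorMod hL₁ hL₂) (SecTwist.tmulHom s₁ s₂)
    (isGen_tmul he₁ he₂) Ua hUW (c₁ * c₂) hval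
  -- restrict the generators
  have hK₁ : (PicF2.zeroScheme L₁ s₁).ideal Ua = Ideal.span {rX hUU₁ f₁} := by
    rw [← (PicF2.zeroScheme L₁ s₁).map_ideal (U := Ua) (V := U₁) hUU₁, hI₁, Ideal.map_span,
      Set.image_singleton]
    rfl
  have hK₂ : (PicF2.zeroScheme L₂ s₂).ideal Ua = Ideal.span {rX hUU₂ f₂} := by
    rw [← (PicF2.zeroScheme L₂ s₂).map_ideal (U := Ua) (V := U₂) hUU₂, hI₂, Ideal.map_span,
      Set.image_singleton]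
    rfl
  have hr₁ : rX hUU₁ f₁ ∈ Mero.regSub X U := Mero.regSub_res (homOfLE hUU₁) hf₁
  have hr₂ : rX hUU₂ f₂ ∈ Mero.regSub X U := Mero.regSub_res (homOfLE hUU₂) hf₂
  refine ⟨Ua, hxU, rX hUU₁ f₁ * rX hUU₂ f₂, Submonoid.mul_mem _ hr₁ hr₂, ?_, ?_⟩
  · rw [hJ, ← Ideal.span_singleton_mul_span_singleton, ← Ideal.span_singleton_mul_span_singleton,
      ← hJ₁, ← hJ₂, hK₁, hK₂]
  · intro y
    have h1 : (D₁ * D₂).1 y.1 = D₁.1 y.1 * D₂.1 y.1 := rfl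
    rw [h1, hg₁ ⟨y.1, hUU₁ y.2⟩, hg₂ ⟨y.1, hUU₂ y.2⟩, ← QuotientGroup.mk_mul]
    congr 1
    apply Units.ext
    show algebraMap _ _ (X.presheaf.germ U₁.1 y.1 _ f₁) * algebraMap _ _ (X.presheaf.germ U₂.1 y.1 _ f₂) =
      algebraMap _ _ (X.presheaf.germ U y.1 y.2 (rX hUU₁ f₁ * rX hUU₂ f₂))
    rw [map_mul, map_mul, TopCat.Presheaf.germ_res_apply, TopCat.Presheaf.germ_res_apply]

end ZeroSchH8
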