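import Mathlib
import Groth.Prelude
import Groth.Agent.Lib.Tens37_helper8
import Groth.Agent.Lib.Tens31_helper8
import Groth.Agent.Lib.ZeroSch2_helper8
import Groth.Agent.Lib.Desc1_helper8
import Groth.Agent.Lib.Tens38_helper8
import Groth.Agent.Lib.TensInv1_helper9

/-!
# Invertible modules as differences of effective Cartier divisors (helper6)

`nzd_of_ass`, `exists_finite_set_mono`: on a Noetherian scheme there is a finite set `A` such that
any section of an invertible module generating it at the points of `A` is a monomorphism.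
`isEffCartierIdeal_zeroScheme`, `notMem_support_zeroScheme`: the zero scheme of a regular section.
`nonempty_iso_of_locally_eq_image`: two subobjects of `T` with locally equal images are isomorphic.
`nonempty_iso_idealMod`: `I_{Z(s)} ⊗ N ≅ I_{Z(t)}` for regular `s ∈ Γ(M ⊗ N)`, `t ∈ Γ(M)`.
`exists_sections_gen_at_points_pos`: helper8's lemma with positivity of the exponent.
`main`: S1658.
APPEND-ONLY once landed.
-/

set_option autoImplicit false
set_option linter.all false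
set_option maxHeartbeats 1600000
set_option backward.isDefEq.respectTransparency false
set_option backward.isDefEq.respectTransparency.types false
set_option backward.defeqAttrib.useBackward true

universe u
open CategoryTheory CategoryTheory.Limits AlgebraicGeometry TopologicalSpace Opposite TensorProduct
open QcqsLoc MonoidalCategory GenLocH8 FLFH8 QCohExtn TensH8 SerreCrit ZeroSchH8

namespace Groth.Agent.Lib.DivDiff

variable {X : Scheme.{u}}

/-- nonzerodivisor criterion in a basic open of a Noetherian affine open. -/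
theorem nzd_of_ass {U : X.Opens} (hU : IsAffineOpen U) [IsNoetherianRing Γ(X, U)] (f : Γ(X, U))
    (c : Γ(X, X.basicOpen f))
    (h : ∀ p : PrimeSpectrum Γ(X, U), p.asIdeal ∈ associatedPrimes Γ(X, U) Γ(X, U) →
        hU.fromSpec p ∈ X.basicOpen f → hU.fromSpec p ∈ X.basicOpen c) :
    c ∈ nonZeroDivisors Γ(X, X.basicOpen f) := by
  haveI hloc : IsLocalization.Away f Γ(X, X.basicOpen f) := hU.isLocalization_basicOpen f
  haveI : IsNoetherianRing Γ(X, X.basicOpen f) :=
    IsLocalization.isNoetherianRing (Submonoid.powers f) _ inferInstance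
  by_contra hc
  have h1 : c ∈ ((nonZeroDivisors Γ(X, X.basicOpen f) : Set _))ᶜ := hc
  rw [← biUnion_associatedPrimes_eq_compl_nonZeroDivisors] at h1
  obtain ⟨q, hq, hcq⟩ := Set.mem_iUnion₂.1 h1
  haveI hqp : q.IsPrime := hq.isPrime
  have hp := Module.associatedPrimes.comap_mem_associatedPrimes_of_mem_associatedPrimes_of_isLocalizedModule_of_fg
    (Submonoid.powers f) (Algebra.linearMap Γ(X, U) Γ(X, X.basicOpen f)) q hq
    ((isNoetherianRing_iff_ideal_fg _).mp inferInstance _)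
  set p : PrimeSpectrum Γ(X, U) := ⟨q.comap (algebraMap _ _), inferInstance⟩ with hpdef
  have hfp : f ∉ p.asIdeal := by
    intro hf
    have : algebraMap Γ(X, U) Γ(X, X.basicOpen f) f ∈ q := hf
    exact hqp.ne_top (Ideal.eq_top_of_isUnit_mem _ this (IsLocalization.Away.algebraMap_isUnit f))
  have hx1 : hU.fromSpec p ∈ X.basicOpen f := by
    have hp' : p ∈ (hU.fromSpec ⁻¹ᵁ X.basicOpen f) := by
      rw [hU.fromSpec_preimage_basicOpen f]; exact hfp
    exact hp'
  have hx2 := h p hp hx1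
  obtain ⟨n, c', hc'⟩ := IsLocalization.Away.surj f c
  have hc'p : c' ∈ p.asIdeal := by
    show algebraMap _ _ c' ∈ q
    rw [← hc']
    exact Ideal.mul_mem_right _ _ hcq
  have hx3 : hU.fromSpec p ∈ X.basicOpen c' := by
    have e1 : X.basicOpen (algebraMap Γ(X, U) Γ(X, X.basicOpen f) c') =
        X.basicOpen f ⊓ X.basicOpen c' :=
      Scheme.basicOpen_res X c' (homOfLE (X.basicOpen_le f)).op
    have e2 : hU.fromSpec p ∈ X.basicOpen (algebraMap Γ(X, U) Γ(X, X.basicOpen f) c') := by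
      rw [← hc', Scheme.basicOpen_mul]
      refine ⟨hx2, ?_⟩
      rw [Scheme.basicOpen_of_isUnit _ ((IsLocalization.Away.algebraMap_isUnit f).pow n)]
      exact hx1
    rw [e1] at e2
    exact e2.2
  have h5 : p ∈ hU.fromSpec ⁻¹ᵁ X.basicOpen c' := hx3
  rw [hU.fromSpec_preimage_basicOpen c'] at h5
  exact h5 hc'p

/-- On a Noetherian scheme there is a finite set of points such that any section of an invertible
module generating it at these points is a monomorphism `O_X ⟶ M`. -/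
theorem exists_finite_set_mono [IsNoetherian X] :
    ∃ A : Set X, A.Finite ∧ ∀ (M : X.Modules), PicF.IsInvertible M →
      ∀ s : Coh.structureModule X ⟶ M, A ⊆ CohB1.genLocus M s → Mono s := by
  obtain ⟨t, ht⟩ := isCompact_univ.elim_finite_subcover
    (fun U : X.affineOpens => ((U.1 : X.Opens) : Set X)) (fun U => U.1.isOpen) (by
      intro x _
      obtain ⟨_, ⟨W, hW : IsAffineOpen W, rfl⟩, hxW, -⟩ :=
        (X.isBasis_affineOpens).exists_subset_of_mem_open (Set.mem_univ x) isOpen_univ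
      exact Set.mem_iUnion.2 ⟨⟨W, hW⟩, hxW⟩)
  let A : Set X := ⋃ U ∈ t, (fun p : PrimeSpectrum Γ(X, (U : X.affineOpens).1) => U.2.fromSpec p) ''
    {p | p.asIdeal ∈ associatedPrimes Γ(X, U.1) Γ(X, U.1)}
  refine ⟨A, ?_, ?_⟩
  · refine t.finite_toSet.biUnion (fun U _ => Set.Finite.image _ ?_)
    haveI : IsNoetherianRing Γ(X, U.1) := IsLocallyNoetherian.component_noetherian U
    have hfin : (associatedPrimes Γ(X, U.1) Γ(X, U.1)).Finite := associatedPrimes.finite _ _
    exact hfin.preimage (fun p _ q _ h => PrimeSpectrum.ext h)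
  · intro M hM s hA
    apply DescH8.mono_of_app_injective
    intro W
    rw [injective_iff_map_eq_zero (s.app W).hom]
    intro a ha
    apply eq_zero_of_cover (Coh.structureModule X) a
    intro y hyW
    obtain ⟨U, hUt, hyU⟩ := Set.mem_iUnion₂.1 (ht (Set.mem_univ y))
    haveI : IsNoetherianRing Γ(X, U.1) := IsLocallyNoetherian.component_noetherian U
    obtain ⟨W₁, -, hyW₁, hW₁le, e, he⟩ := exists_isGen_le hM y (W ⊓ U.1) ⟨hyW, hyU⟩
    obtain ⟨f, hfle, hyf⟩ := U.2.exists_basicOpen_le (V := W₁) ⟨y, hyW₁⟩ hyU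
    have hVW : X.basicOpen f ≤ W := hfle.trans (hW₁le.trans inf_le_left)
    refine ⟨X.basicOpen f, hVW, hyf, ?_⟩
    have he' : IsGen M (X.basicOpen f) (rF M hfle e) := he.res hfle
    obtain ⟨c, hc⟩ := he'.exists_coef (SecTwist.val s (X.basicOpen f))
    have hgl : CohB1.genLocus M s ⊓ X.basicOpen f = X.basicOpen c := genLocus_inf_eq s he' c hc
    have hnzd : c ∈ nonZeroDivisors Γ(X, X.basicOpen f) := by
      apply nzd_of_ass U.2 f c
      intro p hp hpf
      have hpA : U.2.fromSpec p ∈ A := Set.mem_iUnion₂.2 ⟨U, hUt, p, hp, rfl⟩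
      rw [← hgl]
      exact ⟨hA hpA, hpf⟩
    have h1 : ap s (X.basicOpen f) (rF (Coh.structureModule X) hVW a) = 0 := by
      rw [ap_rF]
      have : ap s W a = 0 := ha
      rw [this, map_zero]
    have h2 := ap_eq s (rF M hfle e) c hc le_rfl (rF (Coh.structureModule X) hVW a)
    rw [h1] at h2
    have h3 := (he' _ le_rfl).2 _ h2.symm
    have h4 : rX (le_refl (X.basicOpen f)) c = c := by
      show (X.presheaf.map (homOfLE (le_refl (X.basicOpen f))).op).hom c = c
      have : (homOfLE (le_refl (X.basicOpen f))).op = 𝟙 _ := rfl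
      rw [this, X.presheaf.map_id]
      rfl
    rw [h4] at h3
    have h5 := (mem_nonZeroDivisors_iff.1 hnzd).2 _ h3
    exact h5

/-! ### The zero scheme of a regular section -/

theorem isEffCartierIdeal_zeroScheme {M : X.Modules} (hM : PicF.IsInvertible M)
    (s : Coh.structureModule X ⟶ M) [Mono s] :
    BlowUp.IsEffCartierIdeal (PicF2.zeroScheme M s) := by
  intro x
  obtain ⟨W, hW, hxW, -, e, he⟩ := exists_isGen_le hM x ⊤ trivial
  obtain ⟨c, hc⟩ := he.exists_coef (SecTwist.val s W)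
  refine ⟨⟨W, hW⟩, hxW, c, ?_, ?_⟩
  · have key : ∀ a : Γ(X, W), a * c = 0 → a = 0 := by
      intro a ha
      have h1 := ap_eq s e c hc le_rfl (toM a)
      rw [SubExt.rF_self] at h1
      have h2 : rX (le_refl W) c = c := SubExt.rF_self (Coh.structureModule X) le_rfl c
      rw [h2] at h1
      have h3 : ofM (toM a) * c = 0 := ha
      rw [h3, zero_smul] at h1
      have h4 := QCohExact.app_injective_of_mono s W
      have h5 : ap s W (toM a) = ap s W 0 := by rw [h1, map_zero]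
      exact h4 h5
    rw [mem_nonZeroDivisors_iff]
    exact ⟨fun a ha => key a (by rw [mul_comm]; exact ha), key⟩
  · apply zeroScheme_ideal_of_isGen hM s he ⟨W, hW⟩ le_rfl c
    rw [SubExt.rF_self]
    exact hc

theorem notMem_support_zeroScheme {M : X.Modules} (hM : PicF.IsInvertible M)
    (s : Coh.structureModule X ⟶ M) {x : X} (hx : x ∈ CohB1.genLocus M s) :
    x ∉ (PicF2.zeroScheme M s).support := by
  intro hsupp
  obtain ⟨W, hW, hxW, -, e, he⟩ := exists_isGen_le hM x ⊤ trivial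
  obtain ⟨c, hc⟩ := he.exists_coef (SecTwist.val s W)
  have hI : (PicF2.zeroScheme M s).ideal ⟨W, hW⟩ = Ideal.span {c} := by
    apply zeroScheme_ideal_of_isGen hM s he ⟨W, hW⟩ le_rfl c
    rw [SubExt.rF_self]
    exact hc
  have h1 := Scheme.IdealSheafData.mem_support_iff.1 hsupp ⟨W, hW⟩
  rw [hI, Scheme.mem_zeroLocus_iff] at h1
  have h2 := h1 c (Ideal.mem_span_singleton_self c)
  apply h2
  rw [← genLocus_inf_eq s he c hc]
  exact ⟨hx, hxW⟩

/-! ### Two subobjects with locally equal images -/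

theorem comp_cokernel_eq_zero {A B T : X.Modules} (α : A ⟶ T) (β : B ⟶ T)
    (h : ∀ (U : X.Opens) (a : Γ(A, U)) (x : X), x ∈ U → ∃ (W : X.Opens) (hW : W ≤ U), x ∈ W ∧
      ∃ b : Γ(B, W), ap β W b = rF T hW (ap α U a)) :
    α ≫ cokernel.π β = 0 := by
  ext U a
  show ap (α ≫ cokernel.π β) U a = 0
  apply eq_zero_of_cover (cokernel β)
  intro x hx
  obtain ⟨W, hW, hxW, b, hb⟩ := h U a x hx
  refine ⟨W, hW, hxW, ?_⟩
  rw [← ap_rF, ap_comp', ap_rF, ← hb, ← ap_comp', cokernel.condition]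
  rfl

theorem nonempty_iso_of_locally_eq_image {A B T : X.Modules} (α : A ⟶ T) (β : B ⟶ T) [Mono α]
    [Mono β]
    (h1 : ∀ (U : X.Opens) (a : Γ(A, U)) (x : X), x ∈ U → ∃ (W : X.Opens) (hW : W ≤ U), x ∈ W ∧
      ∃ b : Γ(B, W), ap β W b = rF T hW (ap α U a))
    (h2 : ∀ (U : X.Opens) (b : Γ(B, U)) (x : X), x ∈ U → ∃ (W : X.Opens) (hW : W ≤ U), x ∈ W ∧
      ∃ a : Γ(A, W), ap α W a = rF T hW (ap β U b)) :
    Nonempty (A ≅ B) := by
  have hα := comp_cokernel_eq_zero α β h1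
  have hβ := comp_cokernel_eq_zero β α h2
  let u : A ⟶ B := Abelian.monoLift β α hα
  let v : B ⟶ A := Abelian.monoLift α β hβ
  have hu : u ≫ β = α := Abelian.monoLift_comp β α hα
  have hv : v ≫ α = β := Abelian.monoLift_comp α β hβ
  refine ⟨⟨u, v, ?_, ?_⟩⟩
  · rw [← cancel_mono α, Category.assoc, hv, hu, Category.id_comp]
  · rw [← cancel_mono β, Category.assoc, hu, hv, Category.id_comp]

/-! ### The comparison of ideal modules -/

/-- value of a composite `K ⟶ O ⟶ L` on sections in terms of a generator. -/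
theorem ap_comp_sec {K L : X.Modules} (j : K ⟶ Coh.structureModule X)
    (σ : Coh.structureModule X ⟶ L) {W : X.Opens} {e : Γ(L, W)} (c : Γ(X, W))
    (hc : SecTwist.val σ W = c • e) (k : Γ(K, W)) :
    ap (j ≫ σ) W k = (toFn (ap j W k) * c) • e := by
  rw [ap_comp']
  have h1 := ap_eq σ e c hc le_rfl (ap j W k)
  rw [SubExt.rF_self] at h1
  have h2 : rX (le_refl W) c = c := SubExt.rF_self (Coh.structureModule X) le_rfl c
  rw [h2] at h1
  exact h1

theorem nonempty_iso_idealMod {M N : X.Modules} (hM : PicF.IsInvertible M)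
    (hN : PicF.IsInvertible N) (s : Coh.structureModule X ⟶ CohB1.tensorMod M N)
    (t : Coh.structureModule X ⟶ M) [Mono s] [Mono t] :
    Nonempty (CohB1.tensorMod (ClSub.idealMod (PicF2.zeroScheme (CohB1.tensorMod M N) s)) N ≅
      ClSub.idealMod (PicF2.zeroScheme M t)) := by
  set D := PicF2.zeroScheme (CohB1.tensorMod M N) s with hD
  set D' := PicF2.zeroScheme M t with hD'
  have hMN : PicF.IsInvertible (CohB1.tensorMod M N) := isInvertible_tensorMod hM hN
  haveI : Mono (ClSub.idealModι D) :=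
    inferInstanceAs (Mono (kernel.ι (ClSub.unitToPush D.subschemeι)))
  haveI : Mono (ClSub.idealModι D') :=
    inferInstanceAs (Mono (kernel.ι (ClSub.unitToPush D'.subschemeι)))
  haveI : Mono (ClSub.idealModι D ≫ t) := mono_comp _ _
  haveI : Mono (tmap (ClSub.idealModι D ≫ t) N) := mono_tmap _ hN (Frame.self N)
  haveI : Mono (ClSub.idealModι D' ≫ s) := mono_comp _ _
  have loc : ∀ (U : X.Opens) (x : X), x ∈ U → ∃ (W : X.Opens) (hW : IsAffineOpen W)
      (hWU : W ≤ U), x ∈ W ∧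
      ∃ (μ : Γ(M, W)) (ν : Γ(N, W)) (a₀ b : Γ(X, W)), IsGen M W μ ∧ IsGen N W ν ∧
        SecTwist.val s W = a₀ • SecTwist.tmul M N W μ ν ∧ SecTwist.val t W = b • μ ∧
        D.ideal ⟨W, hW⟩ = Ideal.span {a₀} ∧ D'.ideal ⟨W, hW⟩ = Ideal.span {b} := by
    intro U x hxU
    obtain ⟨W₀, hxW₀, μ₀, ν₀, hμ₀, hν₀⟩ := exists_isGen₂ hM hN x
    obtain ⟨_, ⟨W, hW : IsAffineOpen W, rfl⟩, hxW, hWle⟩ :=
      (X.isBasis_affineOpens).exists_subset_of_mem_open (show x ∈ W₀ ⊓ U from ⟨hxW₀, hxU⟩)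
        (W₀ ⊓ U).isOpen
    have h1 : W ≤ W₀ := fun y hy => (hWle hy).1
    have h2 : W ≤ U := fun y hy => (hWle hy).2
    have hμ := hμ₀.res h1
    have hν := hν₀.res h1
    have he := isGen_tmul hμ hν
    obtain ⟨a₀, ha₀⟩ := he.exists_coef (SecTwist.val s W)
    obtain ⟨b, hb⟩ := hμ.exists_coef (SecTwist.val t W)
    refine ⟨W, hW, h2, hxW, _, _, a₀, b, hμ, hν, ha₀, hb, ?_, ?_⟩
    · apply zeroScheme_ideal_of_isGen hMN s he ⟨W, hW⟩ le_rfl a₀
      rw [SubExt.rF_self]
      exact ha₀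
    · apply zeroScheme_ideal_of_isGen hM t hμ ⟨W, hW⟩ le_rfl b
      rw [SubExt.rF_self]
      exact hb
  apply nonempty_iso_of_locally_eq_image (tmap (ClSub.idealModι D ≫ t) N)
    (ClSub.idealModι D' ≫ s)
  · intro U a x hxU
    obtain ⟨W, hW, hWU, hxW, μ, ν, a₀, b, hμ, hν, ha₀, hb, hI, hI'⟩ := loc U x hxU
    refine ⟨W, hWU, hxW, ?_⟩
    obtain ⟨k, hk⟩ := tmulGen_surjective (ClSub.idealMod D) N hν le_rfl (rF _ hWU a)
    rw [SubExt.rF_self] at hk
    have hmem := idealModι_mem D hW k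
    rw [hI, Ideal.mem_span_singleton'] at hmem
    obtain ⟨r, hr⟩ := hmem
    have hg : r * b ∈ D'.ideal ⟨W, hW⟩ := by
      rw [hI']
      exact Ideal.mem_span_singleton'.2 ⟨r, rfl⟩
    obtain ⟨b', hb'⟩ := exists_idealMod_section D' hW (r * b) hg
    refine ⟨b', ?_⟩
    rw [← ap_rF, ← hk, tmap_tmul, ap_comp_sec _ t b hb k, ap_comp_sec _ s a₀ ha₀ b', hb', ← hr,
      tmul_smul_left]
    congr 1
    ring
  · intro U g x hxU
    obtain ⟨W, hW, hWU, hxW, μ, ν, a₀, b, hμ, hν, ha₀, hb, hI, hI'⟩ := loc U x hxU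
    refine ⟨W, hWU, hxW, ?_⟩
    have hmem := idealModι_mem D' hW (rF _ hWU g)
    rw [hI', Ideal.mem_span_singleton'] at hmem
    obtain ⟨r, hr⟩ := hmem
    have hk : r * a₀ ∈ D.ideal ⟨W, hW⟩ := by
      rw [hI]
      exact Ideal.mem_span_singleton'.2 ⟨r, rfl⟩
    obtain ⟨k, hk'⟩ := exists_idealMod_section D hW (r * a₀) hk
    refine ⟨SecTwist.tmul (ClSub.idealMod D) N W k ν, ?_⟩
    rw [← ap_rF, tmap_tmul, ap_comp_sec _ t b hb k, ap_comp_sec _ s a₀ ha₀ (rF _ hWU g), hk', ← hr,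
      tmul_smul_left]
    congr 1
    ring

/-! ### Sections generating at finitely many points, with positive exponent -/

/-- Copy of helper8's `exists_sections_gen_at_points` exposing positivity of `n`. -/
theorem exists_sections_gen_at_points_pos [QuasiSeparatedSpace X] {L : X.Modules}
    (hL : CohB1.IsAmple L) {E : X.Modules} (hE : PicF.IsInvertible E) (Z : Set X)
    (hZ : Z.Finite) :
    ∃ n : ℕ, 0 < n ∧ ∀ k : ℕ, 1 ≤ k →
      ∃ s : Coh.structureModule X ⟶ CohB1.tensorMod E (CohB1.tensorPow L (k * n)),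
        Z ⊆ CohB1.genLocus (CohB1.tensorMod E (CohB1.tensorPow L (k * n))) s := by
  obtain ⟨hinv, hc, -⟩ := id hL
  haveI := hc
  haveI : E.IsQuasicoherent := isQuasicoherent_of_finLocFree E
    (IsFinLocFreeOfRank.isFinLocFree E (finLocFreeOfRank_one_of_isInvertible hE))
  obtain ⟨n₁, s₁, hZ₁, -, haff₁⟩ := exists_affine_genLocus_of_finite hL Z hZ ⊤
    (fun _ _ => trivial)
  obtain ⟨U, e, hZU, -, he⟩ := exists_isGen_of_finite hE Z hZ _ haff₁ hZ₁
  obtain ⟨n₂, s₂, hZ₂, hU₂, -⟩ := exists_affine_genLocus_of_finite hL Z hZ U hZU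
  have hloc := hasLocus_val (Frame.pow L (n₂ + 1)) s₂ ⊤
  have hOU : CohB1.genLocus _ s₂ ⊓ ⊤ ≤ U := inf_le_left.trans hU₂
  have hctop : IsCompact ((⊤ : X.Opens) : Set X) := by simpa using isCompact_univ (X := X)
  obtain ⟨N0, hN0⟩ := TFrame.exists_extend hinv E (Frame.pow L (n₂ + 1)) hctop
    (SecTwist.val s₂ ⊤) le_top hloc (rF E hOU e)
  refine ⟨(n₂ + 1) * (N0 + 1), Nat.mul_pos (Nat.succ_pos _) (Nat.succ_pos _), fun k hk => ?_⟩
  have hN : N0 ≤ k * (N0 + 1) := by nlinarith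
  have hkn : k * ((n₂ + 1) * (N0 + 1)) = (n₂ + 1) * (k * (N0 + 1)) := by ring
  obtain ⟨y, hy⟩ := hN0 (k * (N0 + 1)) hN
    ((TFrame.tensor (Frame.pow L (k * ((n₂ + 1) * (N0 + 1)))) E).cast hkn)
  refine ⟨homOfSec _ y, fun z hz => ?_⟩
  have hzO : z ∈ CohB1.genLocus _ s₂ ⊓ ⊤ := ⟨hZ₂ hz, trivial⟩
  obtain ⟨W, -, hzW, hWO, eL, heL⟩ := exists_isGen_le hinv z _ hzO
  have h1 := hy W hWO eL heL
  have hunit : IsUnit ((Frame.pow L (n₂ + 1)).coefOf (SecTwist.val s₂ ⊤) W
      (hWO.trans le_top) eL heL) := by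
    apply isUnit_of_basicOpen_eq
    rw [← hloc W (hWO.trans le_top) eL heL]
    exact inf_eq_right.mpr hWO
  have hgen : IsGen (CohB1.tensorMod E (CohB1.tensorPow L (k * ((n₂ + 1) * (N0 + 1))))) W
      (rF _ (hWO.trans le_top) y) := by
    rw [h1]
    apply TFrame.isGen
    apply isGen_smul_of_isUnit _ (hunit.pow _)
    have := (he.res hOU).res hWO
    rwa [rF_rF] at this ⊢
  have h4 := genLocus_inf_eq (homOfSec _ y) hgen 1 (by
    rw [one_smul, val_homOfSec])
  rw [Scheme.basicOpen_of_isUnit _ isUnit_one] at h4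
  have : z ∈ CohB1.genLocus _ (homOfSec _ y) ⊓ W := by rw [h4]; exact hzW
  exact this.1

theorem genLocus_comp_iso {M M' : X.Modules} (s : Coh.structureModule X ⟶ M) (θ : M ≅ M') :
    CohB1.genLocus M' (s ≫ θ.hom) = CohB1.genLocus M s := by
  unfold CohB1.genLocus
  congr 1
  ext U
  simp only [Set.mem_setOf_eq, Functor.map_comp]
  exact isIso_comp_right_iff _ _

/-- **S1658**. -/
theorem main (X : Scheme.{u}) [IsNoetherian X] (L : X.Modules) (hL : CohB1.IsAmple L)
    (N : X.Modules) (hN : PicF.IsInvertible N) (E : Set X) (hE : E.Finite) :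
    ∃ D D' : X.IdealSheafData, BlowUp.IsEffCartierIdeal D ∧ BlowUp.IsEffCartierIdeal D' ∧
      Disjoint E (D.support : Set X) ∧ Disjoint E (D'.support : Set X) ∧
      Nonempty (CohB1.tensorMod N (ClSub.idealMod D) ≅ ClSub.idealMod D') := by
  obtain ⟨A, hA, hmono⟩ := exists_finite_set_mono (X := X)
  have hZ : (E ∪ A).Finite := hE.union hA
  obtain ⟨n₁, hn₁, h₁⟩ := exists_sections_gen_at_points_pos hL hN (E ∪ A) hZ
  obtain ⟨n₂, hn₂, h₂⟩ := exists_sections_gen_at_points_pos hL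
    (isInvertible_structureModule (X := X)) (E ∪ A) hZ
  have key₁ := h₁ n₂ hn₂
  have key₂ := h₂ n₁ hn₁
  rw [Nat.mul_comm n₂ n₁] at key₁
  obtain ⟨s₀, hs₀⟩ := key₁
  obtain ⟨t₀, ht₀⟩ := key₂
  have hP : PicF.IsInvertible (CohB1.tensorPow L (n₁ * n₂)) := isInvertible_tensorPow hL.1 _
  let θ₁ : CohB1.tensorMod N (CohB1.tensorPow L (n₁ * n₂)) ≅
      CohB1.tensorMod (CohB1.tensorPow L (n₁ * n₂)) N :=
    (Groth.Agent.Lib.ModSiteH8.sigmaIso X.sheaf N).app (CohB1.tensorPow L (n₁ * n₂))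
  let θ₂ : CohB1.tensorMod (Coh.structureModule X) (CohB1.tensorPow L (n₁ * n₂)) ≅
      CohB1.tensorPow L (n₁ * n₂) :=
    (Groth.Agent.Lib.ModSiteH8.sigmaIso X.sheaf (Coh.structureModule X)).app
      (CohB1.tensorPow L (n₁ * n₂)) ≪≫ Groth.Agent.TensInv.rhoIso X.sheaf _
  have hs : E ∪ A ⊆ CohB1.genLocus _ (s₀ ≫ θ₁.hom) := by rw [genLocus_comp_iso]; exact hs₀
  have ht : E ∪ A ⊆ CohB1.genLocus _ (t₀ ≫ θ₂.hom) := by rw [genLocus_comp_iso]; exact ht₀
  have hPN : PicF.IsInvertible (CohB1.tensorMod (CohB1.tensorPow L (n₁ * n₂)) N) :=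
    isInvertible_tensorMod hP hN
  haveI : Mono (s₀ ≫ θ₁.hom) := hmono _ hPN _ (Set.subset_union_right.trans hs)
  haveI : Mono (t₀ ≫ θ₂.hom) := hmono _ hP _ (Set.subset_union_right.trans ht)
  refine ⟨PicF2.zeroScheme _ (s₀ ≫ θ₁.hom), PicF2.zeroScheme _ (t₀ ≫ θ₂.hom),
    isEffCartierIdeal_zeroScheme hPN _, isEffCartierIdeal_zeroScheme hP _, ?_, ?_, ?_⟩
  · exact Set.disjoint_left.2 fun x hxE hxD =>
      notMem_support_zeroScheme hPN _ (hs (Or.inl hxE)) hxD
  · exact Set.disjoint_left.2 fun x hxE hxD =>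
      notMem_support_zeroScheme hP _ (ht (Or.inl hxE)) hxD
  · obtain ⟨e⟩ := nonempty_iso_idealMod hP hN (s₀ ≫ θ₁.hom) (t₀ ≫ θ₂.hom)
    exact ⟨(Groth.Agent.Lib.ModSiteH8.sigmaIso X.sheaf N).app _ ≪≫ e⟩

end Groth.Agent.Lib.DivDiff
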