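import Mathlib

/-!
# Radical ideals of pure height one are locally principal at factorial points (helper4)
APPEND-ONLY once landed.
-/

set_option autoImplicit false
set_option linter.unusedVariables false
set_option linter.unusedTactic false
set_option linter.unreachableTactic false
set_option linter.unusedSectionVars false
set_option maxHeartbeats 800000
universe u

namespace Groth.Agent.Lib.EffCartUFDH4

theorem isRadical_vanishingIdeal {R : Type*} [CommRing R] (t : Set (PrimeSpectrum R)) :
    (PrimeSpectrum.vanishingIdeal t).IsRadical := by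
  intro x hx
  obtain ⟨n, hn⟩ := hx
  rw [PrimeSpectrum.mem_vanishingIdeal] at hn ⊢
  intro q hq
  exact q.isPrime.mem_of_pow_mem n (hn q hq)

/-- In a factorial domain a finite intersection of height-one primes is principal. -/
theorem inf_height_one_principal {S : Type*} [CommRing S] [IsDomain S]
    [UniqueFactorizationMonoid S] (F : Finset (Ideal S))
    (hF : ∀ Q ∈ F, Q.IsPrime ∧ Q.height = 1) :
    ∃ a : S, F.inf id = Ideal.span {a} := by
  classical
  induction F using Finset.induction_on with
  | empty => exact ⟨1, by rw [Finset.inf_empty, Ideal.span_singleton_one]⟩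
  | insert Q F hQF ih =>
    obtain ⟨a, ha⟩ := ih (fun Q' hQ' => hF Q' (Finset.mem_insert_of_mem hQ'))
    obtain ⟨hQprime, hQht⟩ := hF Q (Finset.mem_insert_self Q F)
    haveI := hQprime
    have hQne : Q ≠ ⊥ := Ideal.ne_bot_of_height_eq_one hQht
    obtain ⟨π, hπQ, hπ⟩ := Ideal.IsPrime.exists_mem_prime_of_ne_bot hQprime hQne
    have hQeq : Q = Ideal.span {π} := Ideal.eq_span_singleton_of_height_eq_one hQht hπQ hπ
    have hndvd : ¬ π ∣ a := by
      intro hdvd
      have hle : F.inf id ≤ Q := by
        rw [ha, hQeq, Ideal.span_singleton_le_span_singleton]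
        exact hdvd
      obtain ⟨Q', hQ'F, hQ'Q⟩ := (Ideal.IsPrime.inf_le' hQprime).mp hle
      obtain ⟨hQ'prime, hQ'ht⟩ := hF Q' (Finset.mem_insert_of_mem hQ'F)
      haveI := hQ'prime
      have hQQ : Q' = Q := by
        by_contra hne
        have hlt : Q' < Q := lt_of_le_of_ne hQ'Q hne
        have h1 := Ideal.height_add_one_le_of_lt_of_isPrime hlt
        rw [hQ'ht, hQht] at h1
        exact lt_irrefl _ ((ENat.add_one_le_iff ENat.one_ne_top).mp h1)
      exact hQF (hQQ ▸ hQ'F)
    refine ⟨π * a, ?_⟩
    rw [Finset.inf_insert, id, ha, hQeq]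
    apply le_antisymm
    · intro x hx
      rw [Ideal.mem_inf, Ideal.mem_span_singleton, Ideal.mem_span_singleton] at hx
      obtain ⟨hx1, z, rfl⟩ := hx
      rw [Ideal.mem_span_singleton]
      obtain ⟨w, rfl⟩ := (hπ.dvd_or_dvd hx1).resolve_left hndvd
      exact ⟨w, by ring⟩
    · rw [le_inf_iff, Ideal.span_singleton_le_span_singleton,
        Ideal.span_singleton_le_span_singleton]
      exact ⟨Dvd.intro _ rfl, Dvd.intro_left _ rfl⟩

/-- A uniform multiplier outside a prime for a finitely generated ideal. -/
theorem exists_uniform_mul {R : Type*} [CommRing R] (p : Ideal R) [p.IsPrime] (I T : Ideal R)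
    (hI : I.FG) (h : ∀ x ∈ I, ∃ u : R, u ∉ p ∧ u * x ∈ T) :
    ∃ u : R, u ∉ p ∧ ∀ x ∈ I, u * x ∈ T := by
  classical
  obtain ⟨G, hG⟩ := hI
  choose! uf huf using h
  have hGI : ∀ y ∈ G, y ∈ I := by
    intro y hy
    rw [← hG]
    exact Submodule.subset_span hy
  refine ⟨∏ y ∈ G, uf y, ?_, ?_⟩
  · intro hmem
    obtain ⟨y, hyG, hy⟩ := Ideal.IsPrime.prod_mem_iff.mp hmem
    exact (huf y (hGI y hyG)).1 hy
  · intro x hx
    rw [← hG] at hx
    induction hx using Submodule.span_induction with
    | mem y hy =>
      obtain ⟨c, hc⟩ := Finset.dvd_prod_of_mem uf hy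
      rw [hc, mul_right_comm]
      exact T.mul_mem_right c (huf y (hGI y hy)).2
    | zero =>
      rw [mul_zero]
      exact zero_mem _
    | add y z _ _ hy hz =>
      rw [mul_add]
      exact add_mem hy hz
    | smul r y _ hy =>
      rw [smul_eq_mul, mul_left_comm]
      exact T.mul_mem_left r hy

/-- Spreading out: a radical ideal all of whose minimal primes inside `p` have height one is
principal, generated by a nonzerodivisor, on a basic open neighbourhood of `p`, provided the
local ring at `p` is a factorial domain. -/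
theorem exists_principal_localization {R : Type u} [CommRing R] [IsNoetherianRing R]
    (p : Ideal R) [p.IsPrime] (S : Type*) [CommRing S] [Algebra R S] [IsLocalization.AtPrime S p]
    [IsDomain S] [UniqueFactorizationMonoid S] (I : Ideal R) (hrad : I.IsRadical) (hIp : I ≤ p)
    (hht : ∀ P ∈ I.minimalPrimes, P ≤ p → P.height = 1) :
    ∃ g : R, g ∉ p ∧ ∃ f : R, ∀ (Rg : Type u) [CommRing Rg] [Algebra R Rg]
      [IsLocalization.Away g Rg],
      I.map (algebraMap R Rg) = Ideal.span {algebraMap R Rg f} ∧
        algebraMap R Rg f ∈ nonZeroDivisors Rg := by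
  classical
  have hJrad : (I.map (algebraMap R S)).IsRadical := by
    have h := IsLocalization.map_radical p.primeCompl S I
    rw [hrad.radical] at h
    exact Ideal.radical_eq_iff.mp h.symm
  haveI : IsNoetherianRing S := IsLocalization.isNoetherianRing p.primeCompl S inferInstance
  have hfin := Ideal.finite_minimalPrimes_of_isNoetherianRing S (I.map (algebraMap R S))
  have hQ : ∀ Q ∈ hfin.toFinset, Q.IsPrime ∧ Q.height = 1 := by
    intro Q hQ
    have hQmin : Q ∈ (I.map (algebraMap R S)).minimalPrimes := hfin.mem_toFinset.mp hQ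
    have hQprime : Q.IsPrime := hQmin.1.1
    haveI := hQprime
    refine ⟨hQprime, ?_⟩
    rw [IsLocalization.minimalPrimes_map p.primeCompl S I] at hQmin
    have hQmin' : Q.under R ∈ I.minimalPrimes := hQmin
    have hle : Q.under R ≤ p := by
      have hdisj := ((IsLocalization.isPrime_iff_isPrime_disjoint p.primeCompl S Q).mp hQprime).2
      intro x hx
      by_contra hxp
      exact Set.disjoint_left.mp hdisj hxp hx
    rw [← IsLocalization.height_under p.primeCompl Q]
    exact hht _ hQmin' hle
  obtain ⟨a, ha⟩ := inf_height_one_principal hfin.toFinset hQ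
  have hJ : I.map (algebraMap R S) = Ideal.span {a} := by
    rw [← ha, Finset.inf_id_eq_sInf, hfin.coe_toFinset, Ideal.sInf_minimalPrimes, hJrad.radical]
  have haJ : a ∈ I.map (algebraMap R S) := by
    rw [hJ]
    exact Ideal.mem_span_singleton_self a
  obtain ⟨⟨⟨f, hfI⟩, s⟩, hfs⟩ := (IsLocalization.mem_map_algebraMap_iff p.primeCompl S).mp haJ
  have hfs' : a * algebraMap R S (s : R) = algebraMap R S f := hfs
  have hsu : IsUnit (algebraMap R S (s : R)) := IsLocalization.map_units S s
  have hJf : I.map (algebraMap R S) = Ideal.span {algebraMap R S f} := by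
    rw [hJ, ← hfs']
    exact (Ideal.span_singleton_mul_right_unit hsu a).symm
  have hf0 : algebraMap R S f ≠ 0 := by
    intro h0
    have hJbot : I.map (algebraMap R S) = ⊥ := by
      rw [hJf, h0]
      exact Ideal.span_singleton_eq_bot.mpr rfl
    have hbot : (⊥ : Ideal S) ∈ (I.map (algebraMap R S)).minimalPrimes := by
      rw [hJbot]
      exact ⟨⟨Ideal.isPrime_bot, le_rfl⟩, fun _ _ _ => bot_le⟩
    have h1 := (hQ ⊥ (hfin.mem_toFinset.mpr hbot)).2
    rw [Ideal.height_bot] at h1
    exact zero_ne_one h1
  -- every element of `I` is a multiple of `f` after inverting something outside `p`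
  have hloc : ∀ h ∈ I, ∃ u : R, u ∉ p ∧ u * h ∈ Ideal.span {f} := by
    intro h hh
    have hmem : algebraMap R S h ∈ Ideal.span {algebraMap R S f} := by
      rw [← hJf]
      exact Ideal.mem_map_of_mem _ hh
    obtain ⟨c, hc⟩ := Ideal.mem_span_singleton'.mp hmem
    obtain ⟨⟨r, s'⟩, hrs⟩ := IsLocalization.surj p.primeCompl c
    have hrs' : c * algebraMap R S (s' : R) = algebraMap R S r := hrs
    have e : algebraMap R S ((s' : R) * h) = algebraMap R S (r * f) := by
      rw [map_mul, map_mul, ← hc, ← hrs']
      ring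
    obtain ⟨t, ht⟩ := (IsLocalization.eq_iff_exists p.primeCompl S).mp e
    refine ⟨(t : R) * (s' : R), ?_, ?_⟩
    · exact (t * s').2
    · rw [Ideal.mem_span_singleton']
      exact ⟨(t : R) * r, by rw [mul_assoc, mul_assoc, ← ht]⟩
  obtain ⟨u, hup, hu⟩ := exists_uniform_mul p I (Ideal.span {f}) (IsNoetherian.noetherian I) hloc
  -- annihilator of `f`
  have hann : ∀ b ∈ (Ideal.span {f} : Ideal R).annihilator, ∃ v : R, v ∉ p ∧
      v * b ∈ (⊥ : Ideal R) := by
    intro b hb
    have hbf : b * f = 0 := by
      have := (Submodule.mem_annihilator_span_singleton f b).mp hb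
      simpa [smul_eq_mul] using this
    have h0 : algebraMap R S b = 0 := by
      have h1 : algebraMap R S b * algebraMap R S f = 0 := by rw [← map_mul, hbf, map_zero]
      exact (mul_eq_zero.mp h1).resolve_right hf0
    obtain ⟨m, hm⟩ := (IsLocalization.map_eq_zero_iff p.primeCompl S b).mp h0
    exact ⟨(m : R), m.2, by rw [Ideal.mem_bot]; exact hm⟩
  obtain ⟨v, hvp, hv⟩ := exists_uniform_mul p _ ⊥ (IsNoetherian.noetherian _) hann
  refine ⟨u * v, ?_, f, ?_⟩
  · intro hmem
    rcases Ideal.IsPrime.mem_or_mem inferInstance hmem with h | h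
    · exact hup h
    · exact hvp h
  intro Rg _ _ _
  have hgu : IsUnit (algebraMap R Rg (u * v)) :=
    IsLocalization.map_units Rg (⟨u * v, Submonoid.mem_powers _⟩ : Submonoid.powers (u * v))
  have huu : IsUnit (algebraMap R Rg u) := by
    rw [map_mul] at hgu
    exact isUnit_of_mul_isUnit_left hgu
  have hvu : IsUnit (algebraMap R Rg v) := by
    rw [map_mul] at hgu
    exact isUnit_of_mul_isUnit_right hgu
  constructor
  · apply le_antisymm
    · rw [Ideal.map_le_iff_le_comap]
      intro h hh
      rw [Ideal.mem_comap]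
      obtain ⟨c, hc⟩ := Ideal.mem_span_singleton'.mp (hu h hh)
      refine (Ideal.unit_mul_mem_iff_mem _ huu).mp ?_
      rw [← map_mul, ← hc, map_mul]
      exact Ideal.mul_mem_left _ _ (Ideal.mem_span_singleton_self _)
    · rw [Ideal.span_singleton_le_iff_mem]
      exact Ideal.mem_map_of_mem _ hfI
  · rw [mem_nonZeroDivisors_iff_right]
    intro z hz
    obtain ⟨⟨b, m⟩, hbm⟩ := IsLocalization.surj (Submonoid.powers (u * v)) z
    have hbm' : z * algebraMap R Rg (m : R) = algebraMap R Rg b := hbm
    have hmu : IsUnit (algebraMap R Rg (m : R)) := IsLocalization.map_units Rg m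
    have h1 : algebraMap R Rg (b * f) = 0 := by
      rw [map_mul, ← hbm', mul_right_comm, hz, zero_mul]
    obtain ⟨m', hm'⟩ := (IsLocalization.map_eq_zero_iff (Submonoid.powers (u * v)) Rg (b * f)).mp h1
    have hmem : (m' : R) * b ∈ (Ideal.span {f} : Ideal R).annihilator := by
      rw [Submodule.mem_annihilator_span_singleton, smul_eq_mul, mul_assoc]
      exact hm'
    have h2 : v * ((m' : R) * b) = 0 := by
      have := hv _ hmem
      rwa [Ideal.mem_bot] at this
    have hm'u : IsUnit (algebraMap R Rg (m' : R)) := IsLocalization.map_units Rg m'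
    have h3 : algebraMap R Rg b = 0 := by
      have h4 : algebraMap R Rg v * (algebraMap R Rg (m' : R) * algebraMap R Rg b) = 0 := by
        rw [← map_mul, ← map_mul, h2, map_zero]
      have h5 := (hvu.mul_right_eq_zero).mp h4
      exact (hm'u.mul_right_eq_zero).mp h5
    rw [h3] at hbm'
    exact (hmu.mul_left_eq_zero).mp hbm'

end Groth.Agent.Lib.EffCartUFDH4
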