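import Mathlib
import Groth.Prelude.Def_BlowUp2
import Groth.Agent.Lib.EffCartUFD_helper4
import Groth.Agent.Lib.PuncAffSch_helper4
import Groth.Agent.Lib.AffStalk3_helper3

/-!
# The complement of a dense affine open with factorial local rings outside is the support of an
effective Cartier divisor (helper4).  APPEND-ONLY once landed.
-/

set_option autoImplicit false
set_option linter.unusedVariables false
set_option linter.unusedTactic false
set_option linter.unreachableTactic false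
set_option linter.unusedSectionVars false
set_option maxHeartbeats 800000
set_option backward.isDefEq.respectTransparency false
universe u

namespace Groth.Agent.Lib.EffCartUFDSchH4

open CategoryTheory AlgebraicGeometry TopologicalSpace IsLocalRing
  Groth.Agent.Lib.AffStalk_helper3 Groth.Agent.Lib.EffCartUFDH4 Groth.Agent.Lib.PuncAffSchH4

theorem isAffineHom_ι_of_isSeparated (X : Scheme.{u}) [X.IsSeparated] (U : X.Opens)
    (hU : IsAffineOpen U) : IsAffineHom U.ι := by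
  haveI : IsAffine (U : Scheme) := hU
  haveI : IsAffineHom (U.ι ≫ Limits.terminal.from X) := isAffineHom_of_isAffine _
  exact IsAffineHom.of_comp U.ι (Limits.terminal.from X)

theorem effCartier_compl (X : Scheme.{u}) [IsLocallyNoetherian X]
    (U : X.Opens) [IsAffineHom U.ι] (hdense : Dense (U : Set X))
    (hufd : ∀ x : X, x ∉ U →
      IsDomain (X.presheaf.stalk x) ∧ UniqueFactorizationMonoid (X.presheaf.stalk x)) :
    ∃ D : X.IdealSheafData, BlowUp.IsEffCartierIdeal D ∧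
      (D.support : Set X) = (U : Set X)ᶜ := by
  classical
  obtain ⟨Z, hZ⟩ : ∃ Z : Closeds X, (Z : Set X) = (U : Set X)ᶜ :=
    ⟨⟨(U : Set X)ᶜ, U.isOpen.isClosed_compl⟩, rfl⟩
  obtain ⟨D, hD⟩ : ∃ D : X.IdealSheafData, D = Scheme.IdealSheafData.vanishingIdeal Z :=
    ⟨_, rfl⟩
  have hDsupp : (D.support : Set X) = (U : Set X)ᶜ := by
    rw [hD, Scheme.IdealSheafData.coe_support_vanishingIdeal, hZ]
  have hsupp : ∀ y : X, y ∈ D.support ↔ y ∉ U := by
    intro y
    rw [← SetLike.mem_coe, hDsupp]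
    exact Iff.rfl
  refine ⟨D, ?_, hDsupp⟩
  intro x
  by_cases hxU : x ∈ U
  · obtain ⟨_, ⟨W, hW, rfl⟩, hxW, hWU⟩ :=
      X.isBasis_affineOpens.exists_subset_of_mem_open hxU U.isOpen
    refine ⟨⟨W, hW⟩, hxW, 1, one_mem _, ?_⟩
    rw [hD, Scheme.IdealSheafData.vanishingIdeal_ideal, Ideal.span_singleton_one]
    have hempty : (hW.fromSpec ⁻¹' (Z : Set X)) = ∅ := by
      ext q
      simp only [Set.mem_preimage, Set.mem_empty_iff_false, iff_false]
      intro hq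
      rw [hZ] at hq
      exact hq (hWU (fromSpec_mem hW q))
    rw [hempty, PrimeSpectrum.vanishingIdeal_empty]
  · obtain ⟨_, ⟨W₀, hW₀, rfl⟩, hxW₀, -⟩ :=
      X.isBasis_affineOpens.exists_subset_of_mem_open (Set.mem_univ x) isOpen_univ
    haveI : IsNoetherianRing Γ(X, W₀) := IsLocallyNoetherian.component_noetherian ⟨W₀, hW₀⟩
    obtain ⟨hdom, hufdx⟩ := hufd x hxU
    letI := TopCat.Presheaf.algebra_section_stalk X.presheaf (⟨x, hxW₀⟩ : W₀)
    haveI : IsLocalization.AtPrime (X.presheaf.stalk x) (hW₀.primeIdealOf ⟨x, hxW₀⟩).asIdeal :=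
      hW₀.isLocalization_stalk ⟨x, hxW₀⟩
    have hrad : (D.ideal ⟨W₀, hW₀⟩).IsRadical := by
      rw [hD, Scheme.IdealSheafData.vanishingIdeal_ideal]
      exact isRadical_vanishingIdeal _
    have hIp : D.ideal ⟨W₀, hW₀⟩ ≤ (hW₀.primeIdealOf ⟨x, hxW₀⟩).asIdeal :=
      (mem_support_iff hW₀ D ⟨x, hxW₀⟩).mp ((hsupp x).mpr hxU)
    have hht : ∀ P ∈ (D.ideal ⟨W₀, hW₀⟩).minimalPrimes,
        P ≤ (hW₀.primeIdealOf ⟨x, hxW₀⟩).asIdeal → P.height = 1 := by
      intro P hPmin _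
      have hPprime : P.IsPrime := hPmin.1.1
      obtain ⟨ξ, hξ⟩ : ∃ ξ : X, ξ = hW₀.fromSpec ⟨P, hPprime⟩ := ⟨_, rfl⟩
      have hξW : ξ ∈ W₀ := hξ ▸ fromSpec_mem hW₀ _
      have hpξ : hW₀.primeIdealOf ⟨ξ, hξW⟩ = ⟨P, hPprime⟩ := by
        subst hξ
        exact primeIdealOf_fromSpec hW₀ _
      have hξZ : ξ ∉ U := (hsupp ξ).mp ((mem_support_iff hW₀ D ⟨ξ, hξW⟩).mpr
        (by rw [hpξ]; exact hPmin.1.2))
      have hmax : ∀ η : X, η ∉ U → η ⤳ ξ → η = ξ := by
        intro η hηU hηξ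
        have hηW : η ∈ W₀ := hηξ.mem_open W₀.isOpen hξW
        have h1 : (hW₀.primeIdealOf ⟨η, hηW⟩).asIdeal ≤ P := by
          have h := (specializes_iff hW₀ ⟨ξ, hξW⟩ ⟨η, hηW⟩).mp hηξ
          rw [hpξ] at h
          exact h
        have h2 : D.ideal ⟨W₀, hW₀⟩ ≤ (hW₀.primeIdealOf ⟨η, hηW⟩).asIdeal :=
          (mem_support_iff hW₀ D ⟨η, hηW⟩).mp ((hsupp η).mpr hηU)
        have h3 : P ≤ (hW₀.primeIdealOf ⟨η, hηW⟩).asIdeal :=
          hPmin.2 ⟨(hW₀.primeIdealOf ⟨η, hηW⟩).isPrime, h2⟩ h1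
        have h4 : hW₀.primeIdealOf ⟨η, hηW⟩ = hW₀.primeIdealOf ⟨ξ, hξW⟩ := by
          rw [hpξ]
          exact PrimeSpectrum.ext (le_antisymm h1 h3)
        exact congrArg Subtype.val (primeIdealOf_injective hW₀ h4)
      have hdim1 := stalk_dim_eq_one_of_le X U ξ hξZ (hdense ξ)
        (stalk_dim_le_one X U ξ hξZ hmax)
      have hdim2 := ringKrullDim_stalk hW₀ ⟨ξ, hξW⟩
      rw [hpξ] at hdim2
      have hdim3 : ringKrullDim (X.presheaf.stalk ξ) = (P.height : WithBot ℕ∞) := hdim2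
      rw [hdim1] at hdim3
      exact_mod_cast hdim3.symm
    obtain ⟨g, hgp, f, hf⟩ := exists_principal_localization
      (hW₀.primeIdealOf ⟨x, hxW₀⟩).asIdeal (X.presheaf.stalk x) (D.ideal ⟨W₀, hW₀⟩)
      hrad hIp hht
    have hxg : x ∈ X.basicOpen g := (mem_basicOpen_iff hW₀ g ⟨x, hxW₀⟩).mpr hgp
    haveI : IsLocalization.Away g Γ(X, X.basicOpen g) := hW₀.isLocalization_basicOpen g
    obtain ⟨h1, h2⟩ := hf Γ(X, X.basicOpen g)
    refine ⟨X.affineBasicOpen (U := ⟨W₀, hW₀⟩) g, hxg,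
      algebraMap Γ(X, W₀) Γ(X, X.basicOpen g) f, h2, ?_⟩
    rw [← D.map_ideal_basicOpen ⟨W₀, hW₀⟩ g]
    exact h1

end Groth.Agent.Lib.EffCartUFDSchH4
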