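import Mathlib
import Groth.Prelude
import Groth.Agent.Lib.Tens31_helper8
import Groth.Agent.Lib.Tens43_helper8
import Groth.Agent.Lib.Bilin_helper8
import Groth.Agent.Lib.Tens14_helper8
import Groth.Agent.Lib.TensInv1_helper9
import Groth.Agent.Lib.InvTensP2_helper5
import Groth.Agent.Lib.EffCartUFDSch_helper4

/-!
# The invertible module `O(D)` of an effective Cartier divisor and ample families (helper6)

* `isGen_idealMod`: local generator of the ideal module of a locally principal regular ideal.
* `mulData`, `genLocus_sec`: the multiplication pairing `I ⊗ K ⟶ K` and the canonical section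
  `1_D : O ⟶ K` of a tensor inverse `K` of `I = I_D`; its non-vanishing locus is `X ∖ D`.
* `exists_invertible_section`, `exists_pow_one_section`: `O(D)` with its canonical section.
* `exists_dense_affine`: on a Noetherian space every point has a dense affine open neighbourhood.
* `hasAmpleFamily_of_affine_compl`: ample family from affine complements of effective Cartier
  divisors.
* `hasAmpleFamily_of_ufd`: Noetherian, affine open immersions, factorial local rings.
APPEND-ONLY once landed.
-/

set_option autoImplicit false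
set_option linter.all false
set_option maxHeartbeats 1600000
set_option backward.isDefEq.respectTransparency false
set_option backward.isDefEq.respectTransparency.types false
set_option backward.defeqAttrib.useBackward true

universe u
open CategoryTheory CategoryTheory.Limits AlgebraicGeometry TopologicalSpace Opposite TensorProduct
open QcqsLoc MonoidalCategory GenLocH8 FLFH8 QCohExtn TensH8 SerreCrit

namespace Groth.Agent.Lib.OofD

variable {X : Scheme.{u}}

/-- A section of the ideal module mapping to a nonzerodivisor generator of the ideal is a local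
generator of the ideal module. -/
theorem isGen_idealMod (I : X.IdealSheafData) {U : X.Opens} (hU : IsAffineOpen U) (f : Γ(X, U))
    (hf : f ∈ nonZeroDivisors Γ(X, U)) (hI : I.ideal ⟨U, hU⟩ = Ideal.span {f})
    (t : Γ(ClSub.idealMod I, U)) (ht : toFn (ap (ClSub.idealModι I) U t) = f) :
    IsGen (ClSub.idealMod I) U t := by
  apply isGen_of_basis t {W | ∃ a : Γ(X, U), W = X.basicOpen a}
  · intro O z hO hz
    obtain ⟨a, ha, hza⟩ := hU.exists_basicOpen_le (V := O) ⟨z, hz⟩ (hO hz)
    exact ⟨X.basicOpen a, ⟨a, rfl⟩, hza, ha⟩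
  · rintro _ ⟨a, rfl⟩ hle
    have hloc : IsLocalization.Away a Γ(X, X.basicOpen a) := hU.isLocalization_basicOpen a
    letI : Algebra Γ(X, U) Γ(X, X.basicOpen a) := (rX (X.basicOpen_le a)).toAlgebra
    have hnzd : rX (X.basicOpen_le a) f ∈ nonZeroDivisors Γ(X, X.basicOpen a) :=
      IsLocalization.map_nonZeroDivisors_le (Submonoid.powers a) Γ(X, X.basicOpen a)
        (Submonoid.mem_map_of_mem _ hf)
    have hιt : toFn (ap (ClSub.idealModι I) (X.basicOpen a) (rF (ClSub.idealMod I) hle t)) =
        rX (X.basicOpen_le a) f := by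
      rw [idealModι_rF, ht]
    constructor
    · intro l
      have h1 := idealModι_mem I (hU.basicOpen a) l
      have h2 : I.ideal ⟨X.basicOpen a, hU.basicOpen a⟩ =
          Ideal.span {rX (X.basicOpen_le a) f} := by
        have := I.map_ideal_basicOpen ⟨U, hU⟩ a
        rw [hI, Ideal.map_span, Set.image_singleton] at this
        exact this.symm
      rw [h2, Ideal.mem_span_singleton'] at h1
      obtain ⟨c, hc⟩ := h1
      refine ⟨c, ?_⟩
      apply idealModι_injective I
      apply (show Function.Injective (toFn : Γ(OO X, X.basicOpen a) → Γ(X, X.basicOpen a)) from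
        fun _ _ h => h)
      rw [idealModι_smul, hιt, hc]
    · intro c hc
      have h1 : c * rX (X.basicOpen_le a) f = 0 := by
        rw [← hιt, ← idealModι_smul, hc, map_zero]
      exact (mem_nonZeroDivisors_iff.mp hnzd).2 c h1

/-- The multiplication pairing `I ⊗ K ⟶ K`. -/
noncomputable def mulData (I : X.IdealSheafData) (K : X.Modules) :
    BilinData (ClSub.idealMod I) K K where
  β U t k := toFn (ap (ClSub.idealModι I) U t) • k
  add_left U m m' n := by
    rw [map_add]
    exact add_smul _ _ _
  smul_left U r m n := by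
    rw [idealModι_smul, mul_smul]
  add_right U m n n' := smul_add _ _ _
  smul_right U r m n := smul_comm _ _ _
  natural {U V} h m n := by
    rw [rF_smul, idealModι_rF]

theorem mulData_toHom_tmul (I : X.IdealSheafData) (K : X.Modules) (U : X.Opens)
    (t : Γ(ClSub.idealMod I, U)) (k : Γ(K, U)) :
    ap (mulData I K).toHom U (SecTwist.tmul (ClSub.idealMod I) K U t k) =
      toFn (ap (ClSub.idealModι I) U t) • k :=
  (mulData I K).toHom_tmul U t k

/-- The canonical section of the inverse of the ideal module of an effective Cartier divisor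
is a generator exactly away from the support. -/
theorem genLocus_sec (I : X.IdealSheafData) (hI : BlowUp.IsEffCartierIdeal I) (K : X.Modules)
    (hK : PicF.IsInvertible K)
    (e : CohB1.tensorMod (ClSub.idealMod I) K ≅ Coh.structureModule X) :
    (CohB1.genLocus K (e.inv ≫ (mulData I K).toHom) : Set X) = (I.support : Set X)ᶜ := by
  ext x
  obtain ⟨U, hxU, f, hf, hIU⟩ := hI x
  obtain ⟨t, ht⟩ := exists_idealMod_section I U.2 f
    (by rw [hIU]; exact Ideal.mem_span_singleton_self f)
  have htgen : IsGen (ClSub.idealMod I) U.1 t := isGen_idealMod I U.2 f hf hIU t ht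
  obtain ⟨W, hW, hxW, hWU, κ, hκ⟩ := exists_isGen_le hK x U.1 hxU
  have ht' := htgen.res hWU
  have hg := isGen_tmul ht' hκ
  have hg' := isGen_of_iso e hg
  have hu := isUnit_of_isGen_structure hg'
  obtain ⟨v, hv⟩ := hu.exists_left_inv
  set g := SecTwist.tmul (ClSub.idealMod I) K W (rF _ hWU t) κ with hgdef
  have h1 : ap e.inv W (toM (1 : Γ(X, W))) = v • g := by
    have h2 : toM (1 : Γ(X, W)) = v • ap e.hom W g := by
      show (1 : Γ(X, W)) = v * ofM (ap e.hom W g)
      exact hv.symm
    rw [h2, ap_smul, ap_inv_hom]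
  have hval : SecTwist.val (e.inv ≫ (mulData I K).toHom) W = (v * rX hWU f) • κ := by
    show ap (e.inv ≫ (mulData I K).toHom) W (toM 1) = _
    rw [ap_comp', h1, ap_smul, hgdef, mulData_toHom_tmul, idealModι_rF, ht, mul_smul]
  have hloc := genLocus_inf_eq _ hκ _ hval
  have hvu : IsUnit v := IsUnit.of_mul_eq_one _ hv
  have hb : X.basicOpen (v * rX hWU f) = W ⊓ X.basicOpen f := by
    rw [Scheme.basicOpen_mul, Scheme.basicOpen_of_isUnit _ hvu, basicOpen_rX, ← inf_assoc, inf_idem]
  rw [hb] at hloc
  simp only [SetLike.mem_coe, Set.mem_compl_iff]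
  rw [Scheme.IdealSheafData.mem_support_iff_of_mem (U := U) hxU, hIU]
  have h3 : x ∈ X.zeroLocus (U := U.1) (Ideal.span {f} : Set Γ(X, U.1)) ↔ x ∉ X.basicOpen f := by
    rw [Scheme.mem_zeroLocus_iff]
    constructor
    · intro h
      exact h f (Ideal.mem_span_singleton_self f)
    · intro h a ha
      obtain ⟨c, rfl⟩ := Ideal.mem_span_singleton'.1 ha
      rw [Scheme.basicOpen_mul]
      exact fun hh => h hh.2
  rw [h3, not_not]
  constructor
  · intro hx
    have : x ∈ CohB1.genLocus K (e.inv ≫ (mulData I K).toHom) ⊓ W := ⟨hx, hxW⟩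
    rw [hloc] at this
    exact this.2
  · intro hx
    have : x ∈ W ⊓ X.basicOpen f := ⟨hxW, hx⟩
    rw [← hloc] at this
    exact this.1

/-- **`O(D)` with its canonical section**: for an effective Cartier ideal there is an invertible
module with a section whose non-vanishing locus is the complement of the support. -/
theorem exists_invertible_section (I : X.IdealSheafData) (hI : BlowUp.IsEffCartierIdeal I) :
    ∃ (K : X.Modules) (s : Coh.structureModule X ⟶ K), PicF.IsInvertible K ∧
      (CohB1.genLocus K s : Set X) = (I.support : Set X)ᶜ := by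
  obtain ⟨K, hK, ⟨e⟩⟩ := Groth.Agent.InvTensP.exists_inverse (ClSub.idealMod I)
    (isInvertible_idealMod_of_isEffCartierIdeal I hI)
  exact ⟨K, e.inv ≫ (mulData I K).toHom, hK, genLocus_sec I hI K hK e⟩

theorem genLocus_comp_iso {M M' : X.Modules} (s : Coh.structureModule X ⟶ M) (θ : M ≅ M') :
    CohB1.genLocus M' (s ≫ θ.hom) = CohB1.genLocus M s := by
  unfold CohB1.genLocus
  congr 1
  ext U
  simp only [Set.mem_setOf_eq, Functor.map_comp]
  exact isIso_comp_right_iff _ _

/-- the left unitor `O ⊗ K ≅ K` in the form `tensorPow K 1 ≅ K`. -/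
noncomputable def powOneIso (K : X.Modules) : CohB1.tensorPow K 1 ≅ K :=
  (Groth.Agent.Lib.ModSiteH8.sigmaIso X.sheaf (Coh.structureModule X)).app K ≪≫
    Groth.Agent.TensInv.rhoIso X.sheaf K

theorem exists_pow_one_section (I : X.IdealSheafData) (hI : BlowUp.IsEffCartierIdeal I) :
    ∃ (K : X.Modules) (s : Coh.structureModule X ⟶ CohB1.tensorPow K 1), PicF.IsInvertible K ∧
      (CohB1.genLocus (CohB1.tensorPow K 1) s : Set X) = (I.support : Set X)ᶜ := by
  obtain ⟨K, s, hK, hs⟩ := exists_invertible_section I hI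
  refine ⟨K, s ≫ (powOneIso K).symm.hom, hK, ?_⟩
  rw [genLocus_comp_iso]
  exact hs

/-- On a scheme with Noetherian underlying space, every point has a dense affine open
neighbourhood. -/
theorem exists_dense_affine [NoetherianSpace X] (x : X) :
    ∃ U : X.Opens, IsAffineOpen U ∧ x ∈ U ∧ Dense (U : Set X) := by
  have hwf : WellFounded ((· > ·) : Opens X → Opens X → Prop) := wellFounded_gt
  obtain ⟨_, ⟨U₀, hU₀ : IsAffineOpen U₀, rfl⟩, hxU₀, -⟩ :=
    (X.isBasis_affineOpens).exists_subset_of_mem_open (Set.mem_univ x) isOpen_univ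
  obtain ⟨U, ⟨hU, hxU⟩, hmax⟩ := hwf.has_min {U : Opens X | IsAffineOpen U ∧ x ∈ U}
    ⟨U₀, hU₀, hxU₀⟩
  refine ⟨U, hU, hxU, ?_⟩
  by_contra hnd
  rw [dense_iff_closure_eq] at hnd
  obtain ⟨y, hy⟩ : ∃ y, y ∉ closure (U : Set X) := by
    by_contra h
    push_neg at h
    exact hnd (Set.eq_univ_of_forall h)
  obtain ⟨_, ⟨V, hV : IsAffineOpen V, rfl⟩, hyV, hVle⟩ :=
    (X.isBasis_affineOpens).exists_subset_of_mem_open (show y ∈ (closure (U : Set X))ᶜ from hy)
      isClosed_closure.isOpen_compl
  have hdisj : Disjoint U V := by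
    rw [← Opens.coe_disjoint]
    rw [Set.disjoint_left]
    intro z hzU hzV
    exact hVle hzV (subset_closure hzU)
  have haff := hU.sup_of_disjoint hV hdisj
  have hlt : U ⊔ V > U := by
    refine lt_of_le_of_ne le_sup_left ?_
    intro h
    have : y ∈ U := by rw [h]; exact Or.inr hyV
    exact hy (subset_closure this)
  exact hmax (U ⊔ V) ⟨haff, Or.inl hxU⟩ hlt

/-- If every point lies in an affine open whose complement is the support of an effective Cartier
divisor, then `X` has an ample family. -/
theorem hasAmpleFamily_of_affine_compl [CompactSpace X]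
    (h : ∀ x : X, ∃ U : X.Opens, IsAffineOpen U ∧ x ∈ U ∧ ∃ D : X.IdealSheafData,
      BlowUp.IsEffCartierIdeal D ∧ (D.support : Set X) = (U : Set X)ᶜ) :
    MoreMor.HasAmpleFamily X := by
  refine ⟨inferInstance, fun x => ?_⟩
  obtain ⟨U, hU, hxU, D, hD, hDU⟩ := h x
  obtain ⟨K, s, hK, hs⟩ := exists_pow_one_section D hD
  have hg : CohB1.genLocus (CohB1.tensorPow K 1) s = U := by
    apply SetLike.coe_injective
    rw [hs, hDU, compl_compl]
  refine ⟨K, 1, s, hK, le_rfl, ?_, ?_⟩
  · rw [hg]; exact hxU
  · rw [hg]; exact hU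

/-- Noetherian scheme with affine inclusions of affine opens and factorial local rings. -/
theorem hasAmpleFamily_of_ufd [IsNoetherian X]
    (haff : ∀ U : X.Opens, IsAffineOpen U → IsAffineHom U.ι)
    (hufd : ∀ x : X, IsDomain (X.presheaf.stalk x) ∧ UniqueFactorizationMonoid (X.presheaf.stalk x)) :
    MoreMor.HasAmpleFamily X := by
  apply hasAmpleFamily_of_affine_compl
  intro x
  obtain ⟨U, hU, hxU, hdense⟩ := exists_dense_affine x
  haveI := haff U hU
  obtain ⟨D, hD, hDU⟩ := Groth.Agent.Lib.EffCartUFDSchH4.effCartier_compl X U hdense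
    (fun y _ => hufd y)
  exact ⟨U, hU, hxU, D, hD, hDU⟩

theorem isAffineHom_ι_of_inf (U : X.Opens)
    (h : ∀ V : X.Opens, IsAffineOpen V → IsAffineOpen (U ⊓ V)) : IsAffineHom U.ι := by
  constructor
  intro V hV
  rw [← Scheme.Hom.isAffineOpen_iff_of_isOpenImmersion U.ι]
  rw [Scheme.Hom.image_preimage_eq_opensRange_inf, Scheme.Opens.opensRange_ι]
  exact h V hV

end Groth.Agent.Lib.OofD
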