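import Mathlib
import Groth.Prelude
import Groth.Agent.Lib.OofD_helper6
import Groth.Agent.Lib.DivDiff_helper6
import Groth.Agent.Lib.Tens41_helper8

/-!
# Powers of the ideal of the zero scheme of a regular section (helper6)

* `isEffCartierIdeal_pow`: powers of an effective Cartier ideal are effective Cartier.
* `mulJ`, `isIso_mulJ`: the multiplication `I^m ⊗ I ≅ I^(m+1)` of ideal modules.
* `nonempty_tensorPow_idealMod_iso`: `(I_D)^{⊗ m} ≅ I_D^m` for `m ≥ 1`.
* `nonempty_idealMod_tensor_iso`: `I_{Z(s)} ⊗ L ≅ O_X` for a regular section `s` of `L`.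
APPEND-ONLY once landed.
-/

set_option autoImplicit false
set_option linter.all false
set_option maxHeartbeats 1600000
set_option backward.isDefEq.respectTransparency false
set_option backward.isDefEq.respectTransparency.types false
set_option backward.defeqAttrib.useBackward true

universe u
open CategoryTheory CategoryTheory.Limits AlgebraicGeometry TopologicalSpace Opposite TensorProduct
open QcqsLoc MonoidalCategory GenLocH8 FLFH8 QCohExtn TensH8 SerreCrit ZeroSchH8

namespace Groth.Agent.Lib.ESZH6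

open Groth.Agent.Lib.OofD Groth.Agent.Lib.DivDiff

variable {X : Scheme.{u}}

section Pow

variable (I : X.IdealSheafData)

/-- a morphism to `O_X` whose sections lie locally in the ideal `I` is killed by `O_X → O_X / I`
(copy of helper9's `CIconorm.comp_toSubscheme_of_mem`). -/
theorem comp_toSubscheme_of_mem {N : X.Modules} (i : N ⟶ Coh.structureModule X)
    (h : ∀ (W : X.Opens) (s : Γ(N, W)) (x : X), x ∈ W → ∃ (W' : X.Opens) (hW' : IsAffineOpen W')
      (hle : W' ≤ W), x ∈ W' ∧ toFn (ap i W' (rF N hle s)) ∈ I.ideal ⟨W', hW'⟩) :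
    i ≫ ClSub.toSubscheme I = 0 := by
  apply Scheme.Modules.hom_ext
  intro W
  ext s
  show ap (i ≫ ClSub.toSubscheme I) W s = 0
  apply eq_zero_of_cover
  intro x hx
  obtain ⟨W', hW', hle', hxW', hmem⟩ := h W s x hx
  refine ⟨W', hle', hxW', ?_⟩
  rw [← ap_rF]
  obtain ⟨t, ht⟩ := TensH8.exists_idealMod_section I hW' _ hmem
  have h1 : ap (i ≫ ClSub.toSubscheme I) W' (rF N hle' s) =
      ap (ClSub.toSubscheme I) W' (ap i W' (rF N hle' s)) := rfl
  rw [h1]
  have h2 : ap i W' (rF N hle' s) = ap (ClSub.idealModι I) W' t := ht.symm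
  rw [h2]
  exact TensH8.kernel_section_mem (ClSub.toSubscheme I) t

/-- powers of an effective Cartier ideal are effective Cartier. -/
theorem isEffCartierIdeal_pow (hI : BlowUp.IsEffCartierIdeal I) (m : ℕ) :
    BlowUp.IsEffCartierIdeal (I ^ m) := by
  intro x
  obtain ⟨U, hxU, f, hf, hIU⟩ := hI x
  refine ⟨U, hxU, f ^ m, pow_mem hf m, ?_⟩
  rw [Scheme.IdealSheafData.ideal_pow, Pi.pow_apply, hIU, Ideal.span_singleton_pow]

/-- the multiplication `I^m ⊗ I ⟶ O`. -/
noncomputable def mulO (m : ℕ) :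
    CohB1.tensorMod (ClSub.idealMod (I ^ m)) (ClSub.idealMod I) ⟶ Coh.structureModule X :=
  (mulData (I ^ m) (ClSub.idealMod I)).toHom ≫ ClSub.idealModι I

theorem mulO_tmul (m : ℕ) (U : X.Opens) (t : Γ(ClSub.idealMod (I ^ m), U))
    (k : Γ(ClSub.idealMod I, U)) :
    toFn (ap (mulO I m) U (SecTwist.tmul _ _ U t k)) =
      toFn (ap (ClSub.idealModι (I ^ m)) U t) * toFn (ap (ClSub.idealModι I) U k) := by
  unfold mulO
  rw [ap_comp', mulData_toHom_tmul, idealModι_smul]

theorem mulO_comp_toSubscheme (hI : BlowUp.IsEffCartierIdeal I) (m : ℕ) :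
    mulO I m ≫ ClSub.toSubscheme (I ^ (m + 1)) = 0 := by
  apply comp_toSubscheme_of_mem
  intro W s x hx
  obtain ⟨W', hW', hxW', hW'W, k, hk⟩ :=
    exists_isGen_le (isInvertible_idealMod_of_isEffCartierIdeal I hI) x W hx
  refine ⟨W', hW', hW'W, hxW', ?_⟩
  obtain ⟨t', ht'⟩ := tmulGen_surjective (ClSub.idealMod (I ^ m)) (ClSub.idealMod I) hk le_rfl
    (rF _ hW'W s)
  rw [SubExt.rF_self] at ht'
  rw [← ht', mulO_tmul]
  have h1 := idealModι_mem (I ^ m) hW' t'
  have h2 := idealModι_mem I hW' k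
  rw [Scheme.IdealSheafData.ideal_pow, Pi.pow_apply] at h1 ⊢
  rw [pow_succ]
  exact Ideal.mul_mem_mul h1 h2

/-- the multiplication `I^m ⊗ I ⟶ I^(m+1)`. -/
noncomputable def mulJ (hI : BlowUp.IsEffCartierIdeal I) (m : ℕ) :
    CohB1.tensorMod (ClSub.idealMod (I ^ m)) (ClSub.idealMod I) ⟶ ClSub.idealMod (I ^ (m + 1)) :=
  kernel.lift _ (mulO I m) (mulO_comp_toSubscheme I hI m)

theorem mulJ_ι (hI : BlowUp.IsEffCartierIdeal I) (m : ℕ) :
    mulJ I hI m ≫ ClSub.idealModι (I ^ (m + 1)) = mulO I m :=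
  kernel.lift_ι _ _ _

theorem isIso_mulJ (hI : BlowUp.IsEffCartierIdeal I) (m : ℕ) : IsIso (mulJ I hI m) := by
  apply isIso_of_isGen_cover
  intro x
  obtain ⟨U, hxU, f, hf, hIU⟩ := hI x
  have hIm : ∀ n : ℕ, (I ^ n).ideal U = Ideal.span {f ^ n} := fun n => by
    rw [Scheme.IdealSheafData.ideal_pow, Pi.pow_apply, hIU, Ideal.span_singleton_pow]
  obtain ⟨t, ht⟩ := exists_idealMod_section (I ^ m) U.2 (f ^ m)
    (by rw [hIm]; exact Ideal.mem_span_singleton_self _)
  obtain ⟨k, hk⟩ := exists_idealMod_section I U.2 f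
    (by rw [hIU]; exact Ideal.mem_span_singleton_self f)
  have htg : IsGen (ClSub.idealMod (I ^ m)) U.1 t :=
    isGen_idealMod (I ^ m) U.2 (f ^ m) (pow_mem hf m) (hIm m) t ht
  have hkg : IsGen (ClSub.idealMod I) U.1 k := isGen_idealMod I U.2 f hf hIU k hk
  refine ⟨U.1, hxU, SecTwist.tmul _ _ U.1 t k, isGen_tmul htg hkg, ?_⟩
  apply isGen_idealMod (I ^ (m + 1)) U.2 (f ^ (m + 1)) (pow_mem hf _) (hIm (m + 1))
  have h1 : ap (ClSub.idealModι (I ^ (m + 1))) U.1
      (ap (mulJ I hI m) U.1 (SecTwist.tmul _ _ U.1 t k)) =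
      ap (mulO I m) U.1 (SecTwist.tmul _ _ U.1 t k) := by
    rw [← ap_comp', mulJ_ι]
  rw [h1, mulO_tmul, ht, hk, pow_succ]

/-- `(I_D)^{⊗ m} ≅ I_D^m` for `m ≥ 1`. -/
theorem nonempty_tensorPow_idealMod_iso (hI : BlowUp.IsEffCartierIdeal I) (m : ℕ) (hm : 1 ≤ m) :
    Nonempty (CohB1.tensorPow (ClSub.idealMod I) m ≅ ClSub.idealMod (I ^ m)) := by
  induction m, hm using Nat.le_induction with
  | base =>
    exact ⟨powOneIso (ClSub.idealMod I) ≪≫ eqToIso (congrArg ClSub.idealMod (pow_one I).symm)⟩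
  | succ m hm ih =>
    obtain ⟨e⟩ := ih
    haveI := isIso_mulJ I hI m
    exact ⟨Groth.Agent.TensInv.mapR e _ ≪≫ asIso (mulJ I hI m)⟩

end Pow

section Zero

variable {L : X.Modules} (hL : PicF.IsInvertible L) (s : Coh.structureModule X ⟶ L) [Mono s]

theorem toM_eq_smul_one {W : X.Opens} (r : Γ(X, W)) :
    (toM r : Γ(Coh.structureModule X, W)) = r • toM (1 : Γ(X, W)) := by
  show r = r * 1
  rw [mul_one]

include hL in
/-- local data for the zero scheme of a regular section. -/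
theorem zero_local_data (x : X) (U : X.Opens) (hxU : x ∈ U) :
    ∃ (W : X.Opens) (hW : IsAffineOpen W), x ∈ W ∧ W ≤ U ∧ ∃ (e : Γ(L, W)) (c : Γ(X, W)),
      IsGen L W e ∧ SecTwist.val s W = c • e ∧ c ∈ nonZeroDivisors Γ(X, W) ∧
      (PicF2.zeroScheme L s).ideal ⟨W, hW⟩ = Ideal.span {c} := by
  obtain ⟨W, hW, hxW, hWU, e, he⟩ := exists_isGen_le hL x U hxU
  obtain ⟨c, hc⟩ := he.exists_coef (SecTwist.val s W)
  refine ⟨W, hW, hxW, hWU, e, c, he, hc, ?_, ?_⟩
  · have key : ∀ a : Γ(X, W), a * c = 0 → a = 0 := by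
      intro a ha
      have h1 : ap s W (toM a) = 0 := by
        rw [toM_eq_smul_one, ap_smul]
        show a • SecTwist.val s W = 0
        rw [hc, ← mul_smul, ha, zero_smul]
      have h4 := QCohExact.app_injective_of_mono s W
      have h5 : ap s W (toM a) = ap s W 0 := by rw [h1, map_zero]
      exact h4 h5
    rw [mem_nonZeroDivisors_iff]
    exact ⟨fun a ha => key a (by rw [mul_comm]; exact ha), key⟩
  · apply zeroScheme_ideal_of_isGen hL s he ⟨W, hW⟩ le_rfl c
    rw [SubExt.rF_self]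
    exact hc

include hL in
theorem mulData_comp_cokernel :
    (mulData (PicF2.zeroScheme L s) L).toHom ≫ cokernel.π s = 0 := by
  apply comp_cokernel_eq_zero
  intro U a x hxU
  obtain ⟨W, hW, hxW, hWU, e, c, he, hc, -, hI⟩ := zero_local_data hL s x U hxU
  refine ⟨W, hWU, hxW, ?_⟩
  obtain ⟨j, hj⟩ := tmulGen_surjective (ClSub.idealMod (PicF2.zeroScheme L s)) L he le_rfl
    (rF _ hWU a)
  rw [SubExt.rF_self] at hj
  have hmem := idealModι_mem (PicF2.zeroScheme L s) hW j
  rw [hI, Ideal.mem_span_singleton'] at hmem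
  obtain ⟨r, hr⟩ := hmem
  refine ⟨toM r, ?_⟩
  rw [← ap_rF, ← hj, mulData_toHom_tmul, ← hr, mul_smul, ← hc, toM_eq_smul_one, ap_smul]
  rfl

/-- the comparison `I_{Z(s)} ⊗ L ⟶ O_X`. -/
noncomputable def thetaZ :
    CohB1.tensorMod (ClSub.idealMod (PicF2.zeroScheme L s)) L ⟶ Coh.structureModule X :=
  Abelian.monoLift s (mulData (PicF2.zeroScheme L s) L).toHom (mulData_comp_cokernel hL s)

include hL in
theorem thetaZ_comp : thetaZ hL s ≫ s = (mulData (PicF2.zeroScheme L s) L).toHom :=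
  Abelian.monoLift_comp _ _ _

include hL in
theorem isIso_thetaZ : IsIso (thetaZ hL s) := by
  apply isIso_of_isGen_cover
  intro x
  obtain ⟨W, hW, hxW, -, e, c, he, hc, hnzd, hI⟩ := zero_local_data hL s x ⊤ trivial
  obtain ⟨j, hj⟩ := exists_idealMod_section (PicF2.zeroScheme L s) hW c
    (by rw [hI]; exact Ideal.mem_span_singleton_self c)
  have hjg : IsGen (ClSub.idealMod (PicF2.zeroScheme L s)) W j :=
    isGen_idealMod _ hW c hnzd hI j hj
  refine ⟨W, hxW, SecTwist.tmul _ _ W j e, isGen_tmul hjg he, ?_⟩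
  have h1 : ap s W (ap (thetaZ hL s) W (SecTwist.tmul _ _ W j e)) = ap s W (toM 1) := by
    rw [← ap_comp', thetaZ_comp, mulData_toHom_tmul, hj, ← hc]
    rfl
  have h2 := QCohExact.app_injective_of_mono s W h1
  rw [h2]
  exact isGen_one W

include hL in
/-- **`I_{Z(s)} ⊗ L ≅ O_X`** for a regular section `s` of an invertible module `L`. -/
theorem nonempty_idealMod_tensor_iso :
    Nonempty (CohB1.tensorMod (ClSub.idealMod (PicF2.zeroScheme L s)) L ≅
      Coh.structureModule X) := by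
  haveI := isIso_thetaZ hL s
  exact ⟨asIso (thetaZ hL s)⟩

end Zero

end Groth.Agent.Lib.ESZH6
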