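import Mathlib
import Groth.Prelude
import Groth.Agent.Lib.VBCurve7_helper9

/-!
# Non-split extensions of invertible modules `0 → L → E → M → 0` with `Hom(M, L) ≠ 0` on an
integral proper curve are indecomposable and not simple (helper9).
APPEND-ONLY once landed.
-/

set_option autoImplicit false
universe u
open CategoryTheory CategoryTheory.Limits AlgebraicGeometry Opposite TopologicalSpace

namespace VBCurve

section Abstract

variable {C : Type*} [Category C] [Abelian C]

/-- a retraction of `S.f` in a short exact sequence gives a section of `S.g` -/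
theorem isSplitEpi_of_retraction (S : ShortComplex C) (hS : S.ShortExact) (r : S.X₂ ⟶ S.X₁)
    (hr : S.f ≫ r = 𝟙 S.X₁) : IsSplitEpi S.g := by
  have sp := ShortComplex.Splitting.ofExactOfRetraction S hS.exact r hr hS.epi_g
  exact ⟨⟨sp.s, sp.s_g⟩⟩

/-- an endomorphism of the middle term killing the sub and landing in the sub squares to zero -/
theorem endo_sq_zero (S : ShortComplex C) (hS : S.ShortExact) (n : S.X₂ ⟶ S.X₂)
    (h1 : S.f ≫ n = 0) (h2 : n ≫ S.g = 0) : n ≫ n = 0 := by
  haveI := hS.epi_g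
  have hn : hS.gIsCokernel.desc (CokernelCofork.ofπ _ h1) = hS.gIsCokernel.desc
    (CokernelCofork.ofπ _ h1) := rfl
  have hfac : S.g ≫ hS.gIsCokernel.desc (CokernelCofork.ofπ _ h1) = n :=
    hS.gIsCokernel.fac (CokernelCofork.ofπ _ h1) WalkingParallelPair.one
  calc n ≫ n = n ≫ (S.g ≫ hS.gIsCokernel.desc (CokernelCofork.ofπ _ h1)) := by rw [hfac]
    _ = (n ≫ S.g) ≫ hS.gIsCokernel.desc (CokernelCofork.ofπ _ h1) := by rw [Category.assoc]
    _ = 0 := by rw [h2, zero_comp]

end Abstract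

section Ext

variable (k : Type u) [Field k] (X : Scheme.{u}) [X.Over (Spec (CommRingCat.of k))]
  [IsIntegral X] [IsProper (X ↘ Spec (CommRingCat.of k))]

include k in
/-- an idempotent endomorphism of an invertible module is `0` or `1` -/
theorem idem_line (hdim : topologicalKrullDim X = 1) {L : X.Modules} (hL : PicF.IsInvertible L)
    (a : L ⟶ L) (ha : a ≫ a = a) : a = 0 ∨ a = 𝟙 L := by
  rcases line_hom_cases k X hdim hL hL a with h | ⟨hm, -, -⟩
  · exact Or.inl h
  · right
    haveI := hm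
    rw [← cancel_mono a, ha, Category.id_comp]

include k in
/-- **idempotents of a non-split extension of invertible modules with `Hom(M, L) ≠ 0`** are
trivial -/
theorem idem_of_nonsplit (hdim : topologicalKrullDim X = 1) (S : ShortComplex X.Modules)
    (hS : S.ShortExact) (hL : PicF.IsInvertible S.X₁) (hM : PicF.IsInvertible S.X₃)
    (g : S.X₃ ⟶ S.X₁) (hg : g ≠ 0) (hns : ¬ IsSplitEpi S.g)
    (p : S.X₂ ⟶ S.X₂) (hp : p ≫ p = p) : p = 0 ∨ p = 𝟙 S.X₂ := by
  haveI := hS.mono_f
  haveI := hS.epi_g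
  -- the composite `L → E → E → M` vanishes
  have hu : S.f ≫ p ≫ S.g = 0 := by
    by_contra hne
    rcases line_hom_cases k X hdim hL hM (S.f ≫ p ≫ S.g) with h | ⟨-, hle, hiso⟩
    · exact hne h
    rcases line_hom_cases k X hdim hM hL g with h | ⟨-, hle', -⟩
    · exact hg h
    haveI : IsIso (S.f ≫ p ≫ S.g) := hiso (le_antisymm hle hle')
    apply hns
    refine isSplitEpi_of_retraction S hS (p ≫ S.g ≫ inv (S.f ≫ p ≫ S.g)) ?_
    have h1 : S.f ≫ p ≫ S.g ≫ inv (S.f ≫ p ≫ S.g) =
        (S.f ≫ p ≫ S.g) ≫ inv (S.f ≫ p ≫ S.g) := by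
      simp only [Category.assoc]
    rw [h1, IsIso.hom_inv_id]
  -- induced endomorphisms of `L` and `M`
  have hu' : (S.f ≫ p) ≫ S.g = 0 := by rw [Category.assoc]; exact hu
  set a : S.X₁ ⟶ S.X₁ := hS.fIsKernel.lift (KernelFork.ofι _ hu') with ha_def
  have ha : a ≫ S.f = S.f ≫ p := hS.fIsKernel.fac (KernelFork.ofι _ hu') WalkingParallelPair.zero
  have hu'' : S.f ≫ (p ≫ S.g) = 0 := hu
  set b : S.X₃ ⟶ S.X₃ := hS.gIsCokernel.desc (CokernelCofork.ofπ _ hu'') with hb_def
  have hb : S.g ≫ b = p ≫ S.g :=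
    hS.gIsCokernel.fac (CokernelCofork.ofπ _ hu'') WalkingParallelPair.one
  have haa : a ≫ a = a := by
    rw [← cancel_mono S.f, Category.assoc, ha, ← Category.assoc, ha, Category.assoc, hp]
  have hbb : b ≫ b = b := by
    rw [← cancel_epi S.g, ← Category.assoc, hb, Category.assoc, hb, ← Category.assoc, hp]
  rcases idem_line k X hdim hL a haa with ha0 | ha1
  · rcases idem_line k X hdim hM b hbb with hb0 | hb1
    · -- `p` kills the sub and lands in the sub
      left
      have h1 : S.f ≫ p = 0 := by rw [← ha, ha0, zero_comp]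
      have h2 : p ≫ S.g = 0 := by rw [← hb, hb0, comp_zero]
      rw [← hp]
      exact endo_sq_zero S hS p h1 h2
    · -- `p` gives a section of `S.g`
      exfalso
      apply hns
      have h1 : S.f ≫ p = 0 := by rw [← ha, ha0, zero_comp]
      set s : S.X₃ ⟶ S.X₂ := hS.gIsCokernel.desc (CokernelCofork.ofπ _ h1) with hs_def
      have hs : S.g ≫ s = p := hS.gIsCokernel.fac (CokernelCofork.ofπ _ h1) WalkingParallelPair.one
      refine ⟨⟨s, ?_⟩⟩
      rw [← cancel_epi S.g, ← Category.assoc, hs, ← hb, hb1]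
  · rcases idem_line k X hdim hM b hbb with hb0 | hb1
    · -- `p` gives a retraction of `S.f`
      exfalso
      apply hns
      have h2 : p ≫ S.g = 0 := by rw [← hb, hb0, comp_zero]
      set r : S.X₂ ⟶ S.X₁ := hS.fIsKernel.lift (KernelFork.ofι _ h2) with hr_def
      have hr : r ≫ S.f = p := hS.fIsKernel.fac (KernelFork.ofι _ h2) WalkingParallelPair.zero
      refine isSplitEpi_of_retraction S hS r ?_
      rw [← cancel_mono S.f, Category.assoc, hr, ← ha, ha1]
    · -- `p - 1` kills the sub and lands in the sub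
      right
      have h1 : S.f ≫ (p - 𝟙 S.X₂) = 0 := by
        rw [Preadditive.comp_sub, ← ha, ha1, Category.id_comp, Category.comp_id, sub_self]
      have h2 : (p - 𝟙 S.X₂) ≫ S.g = 0 := by
        rw [Preadditive.sub_comp, ← hb, hb1, Category.id_comp, Category.comp_id, sub_self]
      have h3 := endo_sq_zero S hS (p - 𝟙 S.X₂) h1 h2
      rw [Preadditive.sub_comp, Preadditive.comp_sub, Preadditive.comp_sub, hp, Category.id_comp,
        Category.comp_id, Category.id_comp] at h3
      -- h3 : p - p - (p - 1) = 0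
      have h4 : p - 𝟙 S.X₂ = 0 := by
        have : p - p - (p - 𝟙 S.X₂) = -(p - 𝟙 S.X₂) := by abel
        rw [this, neg_eq_zero] at h3
        exact h3
      exact sub_eq_zero.1 h4

include k in
/-- **statement of S11819** (indecomposable part) -/
theorem indecomposable_of_nonsplit (hdim : topologicalKrullDim X = 1) (S : ShortComplex X.Modules)
    (hS : S.ShortExact) (hL : PicF.IsInvertible S.X₁) (hM : PicF.IsInvertible S.X₃)
    (g : S.X₃ ⟶ S.X₁) (hg : g ≠ 0) (hns : ¬ IsSplitEpi S.g) :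
    ¬ IsZero S.X₂ ∧ ∀ (E₁ E₂ : X.Modules), Nonempty (S.X₂ ≅ E₁ ⊞ E₂) → IsZero E₁ ∨ IsZero E₂ := by
  haveI := hS.mono_f
  haveI : Nonempty X := inferInstance
  refine ⟨fun hz => ?_, ?_⟩
  · exact not_isZero_of_isInvertible hL (isZero_of_mono_eq_zero S.f (hz.eq_of_tgt _ _))
  · rintro E₁ E₂ ⟨e⟩
    let q : E₁ ⊞ E₂ ⟶ E₁ ⊞ E₂ := biprod.fst ≫ biprod.inl
    let p : S.X₂ ⟶ S.X₂ := e.hom ≫ q ≫ e.inv
    have hqq : q ≫ q = q := by simp [q]
    have hpp : p ≫ p = p := by
      simp only [p, Category.assoc, Iso.inv_hom_id_assoc]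
      rw [← Category.assoc q q, hqq]
    have hq : q = e.inv ≫ p ≫ e.hom := by simp [p]
    rcases idem_of_nonsplit k X hdim S hS hL hM g hg hns p hpp with hp | hp1
    · left
      rw [IsZero.iff_id_eq_zero]
      have h1 : q = 0 := by rw [hq, hp, zero_comp, comp_zero]
      calc 𝟙 E₁ = biprod.inl ≫ q ≫ biprod.fst := by simp [q]
        _ = 0 := by rw [h1, zero_comp, comp_zero]
    · right
      rw [IsZero.iff_id_eq_zero]
      have h1 : q = 𝟙 _ := by rw [hq, hp1, Category.id_comp, Iso.inv_hom_id]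
      calc 𝟙 E₂ = biprod.inr ≫ q ≫ biprod.snd := by rw [h1]; simp
        _ = 0 := by simp [q]

/-- **statement of S11819** (non-simple part) -/
theorem not_simple_of_nonsplit (S : ShortComplex X.Modules)
    (hS : S.ShortExact) (hL : PicF.IsInvertible S.X₁)
    (g : S.X₃ ⟶ S.X₁) (hg : g ≠ 0) :
    ∃ φ : S.X₂ ⟶ S.X₂, ∀ c : k, (SheafOfModules.toSheaf X.ringCatSheaf).map φ ≠
      Coh.smulAb S.X₂ (Coh.toGlobal (X ↘ Spec (CommRingCat.of k)) c) := by
  haveI := hS.mono_f
  haveI := hS.epi_g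
  haveI : Nonempty X := inferInstance
  have hE : ¬ IsZero S.X₂ := fun hz =>
    not_isZero_of_isInvertible hL (isZero_of_mono_eq_zero S.f (hz.eq_of_tgt _ _))
  refine ⟨S.g ≫ g ≫ S.f, fun c hc => ?_⟩
  rw [← toSheaf_map_smul k X S.X₂ c] at hc
  have h1 : S.g ≫ g ≫ S.f = c • 𝟙 S.X₂ :=
    (SheafOfModules.toSheaf X.ringCatSheaf).map_injective hc
  have hsq : (S.g ≫ g ≫ S.f) ≫ (S.g ≫ g ≫ S.f) = 0 := by
    simp only [Category.assoc]
    rw [S.zero_assoc]
    simp
  have hc0 : c = 0 := by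
    by_contra hne
    apply hE
    rw [IsZero.iff_id_eq_zero]
    rw [h1, Linear.smul_comp, Linear.comp_smul, Category.id_comp, smul_smul] at hsq
    have h2 : (c * c)⁻¹ • ((c * c) • 𝟙 S.X₂) = 0 := by rw [hsq, smul_zero]
    rwa [smul_smul, inv_mul_cancel₀ (mul_ne_zero hne hne), one_smul] at h2
  rw [hc0, zero_smul] at h1
  apply hg
  have h2 : g ≫ S.f = 0 := by rw [← cancel_epi S.g, h1, comp_zero]
  rw [← cancel_mono S.f, h2, zero_comp]

end Ext

end VBCurve
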