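import Mathlib
import Groth.Prelude
import Groth.Agent.Lib.VBCurve9_helper9
import Groth.Agent.Lib.PureCurve2_helper8

/-!
# Saturation of submodules of finite locally free modules on a regular integral proper curve
(helper9)

If the cokernel of a monomorphism `I ⟶ F` of finite locally free modules is not finite locally
free, then `I` is contained in a strictly larger submodule of `F` of the same rank and of
strictly larger degree.  APPEND-ONLY once landed.
-/

set_option autoImplicit false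
universe u
open CategoryTheory CategoryTheory.Limits AlgebraicGeometry Opposite TopologicalSpace

namespace VBSat

open QcqsLoc QCohExtn

section Torsion

variable {X : Scheme.{u}} [IsIntegral X] [IsLocallyNoetherian X]

/-- a coherent module which is not finite locally free on a regular integral scheme of dimension
at most one has a nonzero section over some open `W` killed by restriction to a nonempty open
`V ≤ W` -/
theorem exists_torsion_section (hreg : ∀ x : X, IsRegularLocalRing (X.presheaf.stalk x))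
    (hdim : topologicalKrullDim X ≤ 1) {Q : X.Modules} (hQ : Coh.IsCoh Q)
    (hnot : ¬ FlatMod.IsFinLocFree Q) :
    ∃ (W V : X.Opens) (hVW : V ≤ W) (m : Γ(Q, W)), (V : Set X).Nonempty ∧ m ≠ 0 ∧
      rF Q hVW m = 0 := by
  rw [← FLFH8.torsionFree_iff_finLocFree X hreg hdim Q hQ] at hnot
  push_neg at hnot
  obtain ⟨x, hx⟩ := hnot
  haveI := hreg x
  haveI : IsDomain (X.presheaf.stalk x) := inferInstance
  -- a torsion element of the stalk
  have : ∃ (r : X.presheaf.stalk x) (m : Q.presheaf.stalk x), r ≠ 0 ∧ m ≠ 0 ∧ r • m = 0 := by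
    by_contra hcon
    push_neg at hcon
    apply hx
    refine ⟨fun {r m} hrm => ?_⟩
    by_contra hne
    push_neg at hne
    exact hcon r m hne.1 hne.2 hrm
  obtain ⟨r, m, hr, hm, hrm⟩ := this
  obtain ⟨U₁, hx₁, r₁, rfl⟩ := TopCat.Presheaf.germ_exist X.presheaf r
  obtain ⟨U₂, hx₂, m₂, rfl⟩ := TopCat.Presheaf.germ_exist Q.presheaf m
  -- restrict to the intersection
  set U₃ : X.Opens := U₁ ⊓ U₂ with hU₃
  have hx₃ : x ∈ U₃ := ⟨hx₁, hx₂⟩
  set r₃ : Γ(X, U₃) := rX (inf_le_left : U₃ ≤ U₁) r₁ with hr₃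
  set m₃ : Γ(Q, U₃) := rF Q (inf_le_right : U₃ ≤ U₂) m₂ with hm₃
  have hgr : X.presheaf.germ U₃ x hx₃ r₃ = X.presheaf.germ U₁ x hx₁ r₁ :=
    TopCat.Presheaf.germ_res_apply X.presheaf (homOfLE (inf_le_left : U₃ ≤ U₁)) x hx₃ r₁
  have hgm : Q.presheaf.germ U₃ x hx₃ m₃ = Q.presheaf.germ U₂ x hx₂ m₂ :=
    TopCat.Presheaf.germ_res_apply Q.presheaf (homOfLE (inf_le_right : U₃ ≤ U₂)) x hx₃ m₂
  have hz : Q.presheaf.germ U₃ x hx₃ (r₃ • m₃) = 0 := by
    rw [Groth.Agent.Lib.QCohLoc_helper4.germ_smul Q U₃ x hx₃ r₃ m₃, hgm]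
    have : (X.presheaf.germ U₃ x hx₃).hom r₃ = X.presheaf.germ U₁ x hx₁ r₁ := hgr
    rw [this]
    exact hrm
  -- the product vanishes on a smaller neighbourhood
  have hz' : Q.presheaf.germ U₃ x hx₃ (r₃ • m₃) = Q.presheaf.germ U₃ x hx₃ 0 := by
    rw [hz, map_zero]
  obtain ⟨W, hxW, i₁, i₂, hW⟩ := TopCat.Presheaf.germ_eq Q.presheaf x hx₃ hx₃ _ _ hz'
  have hWU : W ≤ U₃ := i₁.le
  set r₄ : Γ(X, W) := rX hWU r₃ with hr₄
  set m₄ : Γ(Q, W) := rF Q hWU m₃ with hm₄
  have h0 : r₄ • m₄ = 0 := by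
    have h1 : rF Q hWU (r₃ • m₃) = 0 := by
      have h2 : Q.presheaf.map i₁.op (r₃ • m₃) = Q.presheaf.map i₂.op 0 := hW
      rw [map_zero] at h2
      exact h2
    rw [← h1, rF_smul]
  have hgr₄ : X.presheaf.germ W x hxW r₄ = X.presheaf.germ U₁ x hx₁ r₁ :=
    (TopCat.Presheaf.germ_res_apply X.presheaf (homOfLE hWU) x hxW r₃).trans hgr
  have hgm₄ : Q.presheaf.germ W x hxW m₄ = Q.presheaf.germ U₂ x hx₂ m₂ :=
    (TopCat.Presheaf.germ_res_apply Q.presheaf (homOfLE hWU) x hxW m₃).trans hgm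
  have hr₄0 : r₄ ≠ 0 := by
    intro h
    apply hr
    rw [← hgr₄, h, map_zero]
  have hm₄0 : m₄ ≠ 0 := by
    intro h
    apply hm
    rw [← hgm₄, h, map_zero]
  refine ⟨W, X.basicOpen r₄, X.basicOpen_le r₄, m₄, ?_, hm₄0, ?_⟩
  · rw [Set.nonempty_iff_ne_empty]
    intro he
    apply hr₄0
    have : X.basicOpen r₄ = ⊥ := by
      ext y
      simp only [Opens.coe_bot]
      rw [he]
    exact (AlgebraicGeometry.basicOpen_eq_bot_iff r₄).mp this
  · -- `r₄` is a unit on its basic open
    have hu : IsUnit (rX (X.basicOpen_le r₄) r₄) := X.toRingedSpace.isUnit_res_basicOpen r₄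
    have h1 : rX (X.basicOpen_le r₄) r₄ • rF Q (X.basicOpen_le r₄) m₄ = 0 := by
      rw [← rF_smul, h0, map_zero]
    obtain ⟨u, hu'⟩ := hu
    have h2 : (↑u⁻¹ : Γ(X, X.basicOpen r₄)) • (rX (X.basicOpen_le r₄) r₄ •
        rF Q (X.basicOpen_le r₄) m₄) = 0 := by rw [h1, smul_zero]
    rw [smul_smul, ← hu', Units.inv_mul, one_smul] at h2
    exact h2

end Torsion

end VBSat

namespace VBSat

open QcqsLoc QCohExtn

section Sub

variable {X : Scheme.{u}} [IsIntegral X] [IsLocallyNoetherian X]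

/-- a coherent module which is not finite locally free on a regular integral scheme of dimension
at most one has a nonzero coherent submodule with trivial generic stalk -/
theorem exists_torsion_sub [CompactSpace X]
    (hreg : ∀ x : X, IsRegularLocalRing (X.presheaf.stalk x))
    (hdim : topologicalKrullDim X ≤ 1) {Q : X.Modules} (hQ : Coh.IsCoh Q)
    (hnot : ¬ FlatMod.IsFinLocFree Q) :
    ∃ (T : X.Modules) (t : T ⟶ Q), Mono t ∧ Coh.IsCoh T ∧ ¬ IsZero T ∧
      Subsingleton (T.presheaf.stalk (genericPoint X)) := by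
  obtain ⟨W, V, hVW, m, hVne, hm, hres⟩ := exists_torsion_section hreg hdim hQ hnot
  haveI : IsNoetherian X := {}
  haveI : QuasiCompact V.ι := inferInstance
  haveI := hQ.1
  haveI : (Q.restrict V.ι).IsQuasicoherent := inferInstance
  haveI : ((Scheme.Modules.pushforward V.ι).obj (Q.restrict V.ι)).IsQuasicoherent :=
    QcqsLoc.isQuasicoherent_pushforward_qcqs V.ι _
  refine ⟨kernel (CurveVan.η V Q), kernel.ι _, inferInstance,
    PureCurveH8.isCoh_kernel' hQ _, ?_, ?_⟩
  · intro hz
    -- `m` lifts to a section of the kernel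
    have hη : ap (CurveVan.η V Q) W m = 0 := by
      have h1 : ap (CurveVan.η V Q) W m = rF Q (V.ι.image_preimage_le W) m := rfl
      rw [h1]
      have h2 : V.ι ''ᵁ (V.ι ⁻¹ᵁ W) ≤ V := by
        rw [Scheme.Hom.image_preimage_eq_opensRange_inf, Scheme.Opens.opensRange_ι]
        exact inf_le_left
      rw [← rF_rF Q h2 hVW m, hres, map_zero]
      rfl
    let S : ShortComplex X.Modules :=
      ShortComplex.mk (kernel.ι (CurveVan.η V Q)) (CurveVan.η V Q) (kernel.condition _)
    have hS : S.Exact := S.exact_of_f_is_kernel (kernelIsKernel _)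
    haveI : Mono S.f := inferInstanceAs (Mono (kernel.ι (CurveVan.η V Q)))
    obtain ⟨y, hy⟩ := QCohExact.app_exact S hS W m hη
    apply hm
    have hy0 : y = 0 := by
      have h1 : 𝟙 (kernel (CurveVan.η V Q)) = 0 := hz.eq_of_src _ _
      have h2 : ap (𝟙 (kernel (CurveVan.η V Q))) W y = y := rfl
      rw [← h2, h1]
      rfl
    rw [← hy, hy0]
    exact map_zero _
  · apply CurveVan.subsingleton_stalk_kernel V Q
    exact ((genericPoint_spec X).mem_open_set_iff V.isOpen).mpr (by simpa using hVne)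

end Sub

end VBSat

namespace VBSat

open QcqsLoc QCohExtn

section Rank

variable {X : Scheme.{u}}

/-- in a short exact sequence whose third term has a trivial stalk at some point, the first two
terms have the same rank -/
theorem rank_eq_of_stalk_subsingleton (S : ShortComplex X.Modules) (hS : S.ShortExact)
    {n₁ n₂ : ℕ} (h₁ : FlatMod.IsFinLocFreeOfRank n₁ S.X₁) (h₂ : FlatMod.IsFinLocFreeOfRank n₂ S.X₂)
    (x : X) (h₃ : Subsingleton (S.X₃.presheaf.stalk x)) : n₂ = n₁ := by
  obtain ⟨-, r1⟩ := FLFH8.free_stalk_of_finLocFreeOfRank S.X₁ h₁ x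
  obtain ⟨-, r2⟩ := FLFH8.free_stalk_of_finLocFreeOfRank S.X₂ h₂ x
  have hinj := CycLenH8.stalk_injective S hS x
  have hex := CycLenH8.stalk_exact S hS x
  have hsurj : Function.Surjective (Algz.stalkMapₗ S.f x) := by
    intro b
    exact (hex b).mp (Subsingleton.elim _ _)
  have e := LinearEquiv.ofBijective (Algz.stalkMapₗ S.f x) ⟨hinj, hsurj⟩
  rw [← r1, ← r2, e.finrank_eq]

end Rank

section Main

variable (k : Type u) [Field k] (X : Scheme.{u}) [X.Over (Spec (CommRingCat.of k))]
  [IsIntegral X] [IsProper (X ↘ Spec (CommRingCat.of k))]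

/-- **saturation step**: if the cokernel of a monomorphism `I ⟶ F` of finite locally free modules
on a regular integral proper curve is not finite locally free, there is a submodule of `F` of
the same rank as `I` and of strictly larger degree -/
theorem exists_larger_sub (hreg : ∀ x : X, IsRegularLocalRing (X.presheaf.stalk x))
    (hdim : topologicalKrullDim X = 1) {I F : X.Modules} (i : I ⟶ F) [Mono i] {ρ s : ℕ}
    (hI : FlatMod.IsFinLocFreeOfRank ρ I) (hF : FlatMod.IsFinLocFreeOfRank s F)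
    (hnot : ¬ FlatMod.IsFinLocFree (cokernel i)) :
    ∃ (P : X.Modules) (p : P ⟶ F) (j : I ⟶ P), Mono p ∧ j ≫ p = i ∧
      FlatMod.IsFinLocFreeOfRank ρ P ∧ Curv2.deg k X I ρ < Curv2.deg k X P ρ := by
  haveI : IsLocallyNoetherian X :=
    LocallyOfFiniteType.isLocallyNoetherian (X ↘ Spec (CommRingCat.of k))
  haveI : CompactSpace X := by
    haveI : QuasiCompact (X ↘ Spec (CommRingCat.of k)) := inferInstance
    exact QuasiCompact.compactSpace_of_compactSpace (X ↘ Spec (CommRingCat.of k))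
  have hIf := FLFH8.IsFinLocFreeOfRank.isFinLocFree I hI
  have hFf := FLFH8.IsFinLocFreeOfRank.isFinLocFree F hF
  have hIc := KerFreeH8.isCoh_of_finLocFree hIf
  have hFc := KerFreeH8.isCoh_of_finLocFree hFf
  have hQc : Coh.IsCoh (cokernel i) := CohKerH8.isCoh_cokernel hIc hFc i
  obtain ⟨T, t, ht, hTc, hTnz, hTgen⟩ := VBSat.exists_torsion_sub hreg hdim.le hQc hnot
  haveI := ht
  let S₀ : ShortComplex X.Modules := ShortComplex.mk i (cokernel.π i) (cokernel.condition i)
  have hS₀ : S₀.ShortExact :=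
    ShortComplex.ShortExact.mk' (S₀.exact_of_g_is_cokernel (cokernelIsCokernel i))
      (inferInstanceAs (Mono i)) (inferInstanceAs (Epi (cokernel.π i)))
  have hS := VBCurve.pullSC_shortExact S₀ hS₀ t
  have hPc : Coh.IsCoh (pullback S₀.g t) := VBCurve.isCoh_pullback S₀.g t hFc hTc hQc
  haveI : Mono (pullback.fst S₀.g t) := inferInstance
  have hPf : FlatMod.IsFinLocFree (pullback S₀.g t) :=
    VBCurve.isFinLocFree_of_mono hreg hdim.le (pullback.fst S₀.g t) hPc hFf
  obtain ⟨ρ', hρ'⟩ := VBCurve.exists_rank hPf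
  have hrk : ρ' = ρ :=
    rank_eq_of_stalk_subsingleton (VBCurve.pullSC S₀ t) hS hI hρ' (genericPoint X) hTgen
  subst hrk
  let f' : I ⟶ pullback S₀.g t := (VBCurve.pullSC S₀ t).f
  let g' : pullback S₀.g t ⟶ T := (VBCurve.pullSC S₀ t).g
  have hzero : f' ≫ g' = 0 := (VBCurve.pullSC S₀ t).zero
  haveI : Mono f' := hS.mono_f
  haveI : Epi g' := hS.epi_g
  haveI : Epi (VBCurve.pullSC S₀ t).g := hS.epi_g
  -- the cokernel of `I ⟶ P` is `T`
  have e : cokernel f' ≅ T :=
    IsColimit.coconePointUniqueUpToIso (colimit.isColimit _) hS.exact.gIsCokernel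
  have hgen : Subsingleton ((cokernel f').presheaf.stalk (genericPoint X)) := by
    by_contra hcon
    have h1 : genericPoint X ∈ CohB1.support (cokernel f') := hcon
    rw [CohDevH8.support_eq_of_iso e] at h1
    exact h1 hTgen
  have hle := CurveDeg.deg_le_of_mono_generic_iso k X hdim _ _ hIc hPc ρ' f' hgen
  refine ⟨pullback S₀.g t, pullback.fst S₀.g t, f', inferInstance,
    pullback.lift_fst _ _ _, hρ', lt_of_le_of_ne hle.1 (fun heq => ?_)⟩
  haveI : IsIso f' := hle.2.mp heq
  apply hTnz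
  rw [IsZero.iff_id_eq_zero, ← cancel_epi g', comp_zero, Category.comp_id,
    ← cancel_epi f', hzero, comp_zero]

end Main

end VBSat
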