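import Mathlib
import Groth.Prelude
import Groth.Agent.Lib.VBSat1_helper9

/-!
# Kernels and cokernels of maps between semistable bundles of the same slope (helper9)

Statement of S16469.  APPEND-ONLY once landed.
-/

set_option autoImplicit false
universe u
open CategoryTheory CategoryTheory.Limits AlgebraicGeometry Opposite TopologicalSpace

namespace VBSat

open QcqsLoc QCohExtn

section Quot

variable (k : Type u) [Field k] (X : Scheme.{u}) [X.Over (Spec (CommRingCat.of k))]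
  [IsIntegral X] [IsProper (X ↘ Spec (CommRingCat.of k))]

/-- the cokernel of a submodule of maximal slope of a semistable module is finite locally free -/
theorem coker_locFree_of_max (hreg : ∀ x : X, IsRegularLocalRing (X.presheaf.stalk x))
    (hdim : topologicalKrullDim X = 1) {I F : X.Modules} (i : I ⟶ F) [Mono i] {ρ s : ℕ}
    (hρ : 0 < ρ) (hs : 0 < s)
    (hI : FlatMod.IsFinLocFreeOfRank ρ I) (hF : FlatMod.IsFinLocFreeOfRank s F)
    (hmax : ∀ (P : X.Modules) (p : P ⟶ F), Mono p → FlatMod.IsFinLocFreeOfRank ρ P →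
      Curv2.deg k X P ρ ≤ Curv2.deg k X I ρ) :
    FlatMod.IsFinLocFree (cokernel i) := by
  by_contra hnot
  obtain ⟨P, p, j, hp, -, hP, hlt⟩ := exists_larger_sub k X hreg hdim i hI hF hnot
  have := hmax P p hp hP
  linarith

/-- the quotient of a semistable module by a submodule of the same slope: ranks, degree, and
semistability -/
theorem quotient_data (hreg : ∀ x : X, IsRegularLocalRing (X.presheaf.stalk x))
    (hdim : topologicalKrullDim X = 1) {I F : X.Modules} (i : I ⟶ F) [Mono i] {ρ s : ℕ}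
    (hρ : 0 < ρ) (hs : 0 < s)
    (hI : FlatMod.IsFinLocFreeOfRank ρ I) (hF : FlatMod.IsFinLocFreeOfRank s F)
    (hFss : ModFun.IsSlopeSemistable k X F s)
    (hμ : Curv2.deg k X I ρ * (s : ℤ) = Curv2.deg k X F s * (ρ : ℤ)) :
    ∃ s₀ : ℕ, s = ρ + s₀ ∧ FlatMod.IsFinLocFreeOfRank s₀ (cokernel i) ∧
      Curv2.deg k X (cokernel i) s₀ * (s : ℤ) = Curv2.deg k X F s * (s₀ : ℤ) ∧
      ∀ (G : X.Modules) (n : ℕ) (j : G ⟶ cokernel i), Mono j → 0 < n →
        FlatMod.IsFinLocFreeOfRank n G →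
        Curv2.deg k X G n * (s₀ : ℤ) ≤ Curv2.deg k X (cokernel i) s₀ * (n : ℤ) := by
  haveI : IsLocallyNoetherian X :=
    LocallyOfFiniteType.isLocallyNoetherian (X ↘ Spec (CommRingCat.of k))
  haveI : Nonempty X := inferInstance
  have hs' : (0 : ℤ) < (s : ℤ) := by exact_mod_cast hs
  have hρ' : (0 : ℤ) < (ρ : ℤ) := by exact_mod_cast hρ
  have hQf : FlatMod.IsFinLocFree (cokernel i) := by
    refine coker_locFree_of_max k X hreg hdim i hρ hs hI hF (fun P p hp hP => ?_)
    have h1 := hFss P ρ p hp hρ hP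
    rw [← hμ] at h1
    exact le_of_mul_le_mul_right h1 hs'
  obtain ⟨s₀, hQ⟩ := VBCurve.exists_rank hQf
  have hS := VBCurve.cokernel_shortExact X i
  have hrk : s = ρ + s₀ := CurveDegAdd.rank_add _ hS hI hF hQ
  have hdeg := VBCurve.deg_cokernel k X i hI hF hQ
  have hs₀ : (s : ℤ) = (ρ : ℤ) + (s₀ : ℤ) := by exact_mod_cast hrk
  have hμQ : Curv2.deg k X (cokernel i) s₀ * (s : ℤ) = Curv2.deg k X F s * (s₀ : ℤ) := by
    have : Curv2.deg k X (cokernel i) s₀ = Curv2.deg k X F s - Curv2.deg k X I ρ := by linarith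
    rw [this, sub_mul, hμ, hs₀]
    ring
  refine ⟨s₀, hrk, hQ, hμQ, ?_⟩
  intro G n j hj hn hG
  haveI := hj
  obtain ⟨P, p, hp, hP, hPdeg⟩ := VBCurve.exists_preimage k X hreg hdim.le
    (ShortComplex.mk i (cokernel.π i) (cokernel.condition i)) hS hI hF hQ j hG
  have h1 := hFss P (ρ + n) p hp (by omega) hP
  rw [hPdeg] at h1
  push_cast at h1
  -- `deg G * s ≤ deg F * n`
  have h2 : Curv2.deg k X G n * (s : ℤ) ≤ Curv2.deg k X F s * (n : ℤ) := by
    have : (Curv2.deg k X I ρ + Curv2.deg k X G n) * (s : ℤ) =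
        Curv2.deg k X F s * (ρ : ℤ) + Curv2.deg k X G n * (s : ℤ) := by rw [add_mul, hμ]
    linarith
  have hn' : (0 : ℤ) ≤ (n : ℤ) := by positivity
  have hs₀' : (0 : ℤ) ≤ (s₀ : ℤ) := by positivity
  have h3 : Curv2.deg k X G n * (s₀ : ℤ) * (s : ℤ) ≤
      Curv2.deg k X (cokernel i) s₀ * (n : ℤ) * (s : ℤ) := by
    calc Curv2.deg k X G n * (s₀ : ℤ) * (s : ℤ)
        = Curv2.deg k X G n * (s : ℤ) * (s₀ : ℤ) := by ring
      _ ≤ Curv2.deg k X F s * (n : ℤ) * (s₀ : ℤ) := mul_le_mul_of_nonneg_right h2 hs₀'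
      _ = Curv2.deg k X (cokernel i) s₀ * (n : ℤ) * (s : ℤ) := by
          calc Curv2.deg k X F s * (n : ℤ) * (s₀ : ℤ)
              = (Curv2.deg k X F s * (s₀ : ℤ)) * (n : ℤ) := by ring
            _ = (Curv2.deg k X (cokernel i) s₀ * (s : ℤ)) * (n : ℤ) := by rw [hμQ]
            _ = _ := by ring
  exact le_of_mul_le_mul_right h3 hs'

end Quot

end VBSat

namespace VBSat

open QcqsLoc QCohExtn

section Main

variable (k : Type u) [Field k] (X : Scheme.{u}) [X.Over (Spec (CommRingCat.of k))]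
  [IsIntegral X] [IsProper (X ↘ Spec (CommRingCat.of k))]

/-- transfer of the three properties along an isomorphism `A ≅ B` where `B` is a sub/quotient
with known data -/
theorem transfer_data {A B : X.Modules} (e : A ≅ B) {q : ℕ} {D : ℤ} {t : ℕ}
    (hB : FlatMod.IsFinLocFreeOfRank q B)
    (hμ : Curv2.deg k X B q * (t : ℤ) = D * (q : ℤ))
    (hss : ∀ (G : X.Modules) (n : ℕ) (j : G ⟶ B), Mono j → 0 < n →
      FlatMod.IsFinLocFreeOfRank n G → Curv2.deg k X G n * (q : ℤ) ≤ Curv2.deg k X B q * (n : ℤ)) :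
    FlatMod.IsFinLocFreeOfRank q A ∧ Curv2.deg k X A q * (t : ℤ) = D * (q : ℤ) ∧
      ∀ (G : X.Modules) (n : ℕ) (j : G ⟶ A), Mono j → 0 < n →
        FlatMod.IsFinLocFreeOfRank n G →
        Curv2.deg k X G n * (q : ℤ) ≤ Curv2.deg k X A q * (n : ℤ) := by
  have hd : Curv2.deg k X A q = Curv2.deg k X B q := CurveTens.deg_of_iso k X e q
  have hA : FlatMod.IsFinLocFreeOfRank q A := fun x => by
    obtain ⟨U, hxU, ⟨α⟩⟩ := hB x
    exact ⟨U, hxU, ⟨(Scheme.Modules.restrictFunctor U.ι).mapIso e ≪≫ α⟩⟩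
  refine ⟨hA, by rw [hd, hμ], ?_⟩
  intro G n j hj hn hG
  haveI := hj
  rw [hd]
  exact hss G n (j ≫ e.hom) inferInstance hn hG

/-- **statement of S16469** -/
theorem ker_coker_same_slope (hreg : ∀ x : X, IsRegularLocalRing (X.presheaf.stalk x))
    (hdim : topologicalKrullDim X = 1)
    (r s : ℕ) (hr : 0 < r) (hs : 0 < s) (E F : X.Modules)
    (hE : FlatMod.IsFinLocFreeOfRank r E) (hF : FlatMod.IsFinLocFreeOfRank s F)
    (hEss : ModFun.IsSlopeSemistable k X E r) (hFss : ModFun.IsSlopeSemistable k X F s)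
    (hμ : Curv2.deg k X E r * (s : ℤ) = Curv2.deg k X F s * (r : ℤ)) (f : E ⟶ F) :
    (∃ r₀ : ℕ, FlatMod.IsFinLocFreeOfRank r₀ (kernel f) ∧
        Curv2.deg k X (kernel f) r₀ * (r : ℤ) = Curv2.deg k X E r * (r₀ : ℤ) ∧
        ∀ (G : X.Modules) (n : ℕ) (j : G ⟶ kernel f), Mono j → 0 < n →
          FlatMod.IsFinLocFreeOfRank n G →
          Curv2.deg k X G n * (r₀ : ℤ) ≤ Curv2.deg k X (kernel f) r₀ * (n : ℤ)) ∧
      (∃ s₀ : ℕ, FlatMod.IsFinLocFreeOfRank s₀ (cokernel f) ∧
        Curv2.deg k X (cokernel f) s₀ * (s : ℤ) = Curv2.deg k X F s * (s₀ : ℤ) ∧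
        ∀ (G : X.Modules) (n : ℕ) (j : G ⟶ cokernel f), Mono j → 0 < n →
          FlatMod.IsFinLocFreeOfRank n G →
          Curv2.deg k X G n * (s₀ : ℤ) ≤ Curv2.deg k X (cokernel f) s₀ * (n : ℤ)) := by
  haveI : IsLocallyNoetherian X :=
    LocallyOfFiniteType.isLocallyNoetherian (X ↘ Spec (CommRingCat.of k))
  haveI : Nonempty X := inferInstance
  have hr' : (0 : ℤ) < (r : ℤ) := by exact_mod_cast hr
  have hs' : (0 : ℤ) < (s : ℤ) := by exact_mod_cast hs
  have hFf := FLFH8.IsFinLocFreeOfRank.isFinLocFree F hF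
  by_cases hf : f = 0
  · subst hf
    constructor
    · exact ⟨r, transfer_data k X (kernelZeroIsoSource (X := E) (Y := F)) hE rfl
        (fun G n j hj hn hG => hEss G n j hj hn hG)⟩
    · exact ⟨s, transfer_data k X (cokernelZeroIsoTarget (X := E) (Y := F)) hF rfl
        (fun G n j hj hn hG => hFss G n j hj hn hG)⟩
  · obtain ⟨rK, rI, hK, hI, hrr, hrI, hdeg, hK0⟩ :=
      VBCurve.exists_kerIm_data k X hreg hdim.le f hf hE hFf
    have hmono : Mono (VBCurve.kerImSC f).f := (VBCurve.kerImSC_shortExact f).mono_f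
    have hrZ : (r : ℤ) = (rK : ℤ) + (rI : ℤ) := by exact_mod_cast hrr
    have hrI' : (0 : ℤ) < (rI : ℤ) := by exact_mod_cast hrI
    -- slope of the image from below
    have hle : Curv2.deg k X E r * (rI : ℤ) ≤ Curv2.deg k X (Abelian.image f) rI * (r : ℤ) := by
      rcases Nat.eq_zero_or_pos rK with h0 | hpos
      · obtain ⟨hd0, -⟩ := hK0 h0
        have h1 : r = rI := by omega
        rw [hdeg, hd0, zero_add, h1]
      · have h1 := hEss (VBCurve.kerImSC f).X₁ rK (VBCurve.kerImSC f).f hmono hpos hK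
        rw [hdeg, hrZ] at h1
        rw [hdeg, hrZ]
        nlinarith [h1]
    have h2 := hFss (Abelian.image f) rI (Abelian.image.ι f) inferInstance hrI hI
    have e1 : Curv2.deg k X E r * (rI : ℤ) = Curv2.deg k X (Abelian.image f) rI * (r : ℤ) := by
      apply le_antisymm hle
      have h3 : Curv2.deg k X (Abelian.image f) rI * (r : ℤ) * (s : ℤ) ≤
          Curv2.deg k X E r * (rI : ℤ) * (s : ℤ) := by
        nlinarith [mul_le_mul_of_nonneg_right h2 hr'.le]
      exact le_of_mul_le_mul_right h3 hs'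
    have e2 : Curv2.deg k X (Abelian.image f) rI * (s : ℤ) = Curv2.deg k X F s * (rI : ℤ) := by
      apply le_antisymm h2
      have h3 : Curv2.deg k X F s * (rI : ℤ) * (r : ℤ) ≤
          Curv2.deg k X (Abelian.image f) rI * (s : ℤ) * (r : ℤ) := by
        nlinarith [mul_le_mul_of_nonneg_right hle hs'.le]
      exact le_of_mul_le_mul_right h3 hr'
    constructor
    · -- the kernel
      have eK : kernel f ≅ (VBCurve.kerImSC f).X₁ :=
        kernelIsoOfEq (Abelian.image.fac f).symm ≪≫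
          kernelCompMono (Abelian.factorThruImage f) (Abelian.image.ι f)
      have hKμ : Curv2.deg k X (VBCurve.kerImSC f).X₁ rK * (r : ℤ) =
          Curv2.deg k X E r * (rK : ℤ) := by
        have : Curv2.deg k X (VBCurve.kerImSC f).X₁ rK =
            Curv2.deg k X E r - Curv2.deg k X (Abelian.image f) rI := by linarith
        rw [this, sub_mul, ← e1, hrZ]
        ring
      refine ⟨rK, transfer_data k X eK hK hKμ ?_⟩
      intro G n j hj hn hG
      haveI := hj
      haveI := hmono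
      have h3 := hEss G n (j ≫ (VBCurve.kerImSC f).f) (mono_comp' hj hmono) hn hG
      have hrK' : (0 : ℤ) ≤ (rK : ℤ) := by positivity
      have h4 : Curv2.deg k X G n * (rK : ℤ) * (r : ℤ) ≤
          Curv2.deg k X (VBCurve.kerImSC f).X₁ rK * (n : ℤ) * (r : ℤ) := by
        calc Curv2.deg k X G n * (rK : ℤ) * (r : ℤ)
            = Curv2.deg k X G n * (r : ℤ) * (rK : ℤ) := by ring
          _ ≤ Curv2.deg k X E r * (n : ℤ) * (rK : ℤ) := mul_le_mul_of_nonneg_right h3 hrK'
          _ = (Curv2.deg k X E r * (rK : ℤ)) * (n : ℤ) := by ring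
          _ = (Curv2.deg k X (VBCurve.kerImSC f).X₁ rK * (r : ℤ)) * (n : ℤ) := by rw [hKμ]
          _ = _ := by ring
      exact le_of_mul_le_mul_right h4 hr'
    · -- the cokernel
      haveI : Epi (Abelian.factorThruImage f) := inferInstance
      have eQ : cokernel f ≅ cokernel (Abelian.image.ι f) :=
        cokernelIsoOfEq (Abelian.image.fac f).symm ≪≫
          cokernelEpiComp (Abelian.factorThruImage f) (Abelian.image.ι f)
      obtain ⟨s₀, -, hQ, hQμ, hQss⟩ :=
        quotient_data k X hreg hdim (Abelian.image.ι f) hrI hs hI hF hFss e2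
      exact ⟨s₀, transfer_data k X eQ hQ hQμ hQss⟩

end Main

end VBSat
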