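import Mathlib
import Groth.Prelude
import Groth.Agent.Lib.TensBasis6_helper9
import Groth.Agent.Lib.NodalG0a_helper9
import Groth.Agent.Lib.VBCurve3_helper9
import Groth.Agent.Lib.VBSat2_helper9
import Groth.Agent.Lib.SuppTens2_helper8
import Groth.Agent.Lib.RelAmpleVan_helper9
import Groth.Agent.Lib.CurveTens4_helper9

/-!
# Generalized parabolic bundles: the restriction to a divisor (helper6)

* `hmap_exact_mid`, `hmap_surjective_of_H1`: `H⁰` exactness statements for short exact sequences.
* `shortExact_tL_flf`: `E ⊗ -` is exact for finite locally free `E`.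
* `finrank_fibD`: `h⁰(E ⊗ O_D) = n · h⁰(O_D)` for `E` of rank `n`.
* `finrank_ker_fibDMap_le`: for a mono `f : E ⟶ F` of the same rank,
  `dim ker (F₀(f)) ≤ deg F - deg E`.
APPEND-ONLY once landed.
-/

set_option autoImplicit false
universe u
open CategoryTheory CategoryTheory.Limits AlgebraicGeometry Opposite TopologicalSpace

namespace Groth.Agent.Lib.GPBunH6

open Groth.Agent.HHVan Groth.Agent.TensInv

section Gen

variable {X : Scheme.{u}}

/-- `E ⊗ -` is exact for a finite locally free module `E` -/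
theorem shortExact_tL_flf {E : X.Modules} (hE : FlatMod.IsFinLocFree E)
    (S : ShortComplex X.Modules) (hS : S.ShortExact) : (S.map (tL E)).ShortExact :=
  ShortComplex.shortExact_of_iso (S.mapNatIso (commIso E).symm) (TensBasis.shortExact_tR hE S hS)

/-- exactness of `H⁰` in the middle -/
theorem hmap_exact_mid (S : ShortComplex X.Modules) (hS : S.ShortExact)
    (z : Coh.HH X S.X₂ 0) (hz : hmap S.g 0 z = 0) : ∃ y : Coh.HH X S.X₁ 0, hmap S.f 0 y = z := by
  obtain ⟨y, hy⟩ := Abelian.Ext.covariant_sequence_exact₂ _ (SerreCrit.shortExact_toSheaf S hS)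
    (show Abelian.Ext _ (Coh.toAb S.X₂) 0 from z) hz
  exact ⟨y, hy⟩

/-- surjectivity of `H⁰` when `H¹` of the kernel vanishes -/
theorem hmap_surjective_of_H1 (S : ShortComplex X.Modules) (hS : S.ShortExact)
    (h1 : Subsingleton (Coh.HH X S.X₁ 1)) : Function.Surjective (hmap S.g 0) := by
  intro z
  obtain ⟨y, hy⟩ := Abelian.Ext.covariant_sequence_exact₃ _ (SerreCrit.shortExact_toSheaf S hS)
    (show Abelian.Ext _ (Coh.toAb S.X₃) 0 from z) rfl
    (Subsingleton.elim (h := h1) _ _)
  exact ⟨y, hy⟩

/-- the image–cokernel short exact sequence of a morphism -/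
noncomputable def imCokSC {A B : X.Modules} (g : A ⟶ B) : ShortComplex X.Modules :=
  ShortComplex.mk (Abelian.image.ι g) (cokernel.π g) (kernel.condition _)

theorem imCokSC_shortExact {A B : X.Modules} (g : A ⟶ B) : (imCokSC g).ShortExact :=
  ShortComplex.ShortExact.mk' ((imCokSC g).exact_of_f_is_kernel (kernelIsKernel _))
    (inferInstanceAs (Mono (kernel.ι (cokernel.π g))))
    (inferInstanceAs (Epi (cokernel.π g)))

/-- the kernel–image short exact sequence of a morphism -/
noncomputable def kerImSC {A B : X.Modules} (g : A ⟶ B) : ShortComplex X.Modules :=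
  ShortComplex.mk (kernel.ι (Abelian.factorThruImage g)) (Abelian.factorThruImage g)
    (kernel.condition _)

theorem kerImSC_shortExact {A B : X.Modules} (g : A ⟶ B) : (kerImSC g).ShortExact :=
  ShortComplex.ShortExact.mk' ((kerImSC g).exact_of_f_is_kernel (kernelIsKernel _))
    (inferInstanceAs (Mono (kernel.ι (Abelian.factorThruImage g))))
    (inferInstanceAs (Epi (Abelian.factorThruImage g)))

/-- an element of `H⁰(A)` killed by `g` comes from `H⁰` of the kernel of `A → im g` -/
theorem exists_hmap_kerIm_eq {A B : X.Modules} (g : A ⟶ B) (z : Coh.HH X A 0)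
    (hz : hmap g 0 z = 0) :
    ∃ y : Coh.HH X (kerImSC g).X₁ 0, hmap (kerImSC g).f 0 y = z := by
  apply hmap_exact_mid (kerImSC g) (kerImSC_shortExact g)
  apply CurveSub.hmap_injective_of_mono (Abelian.image.ι g)
  have h := hmap_comp (Abelian.factorThruImage g) (Abelian.image.ι g) 0 z
  rw [Abelian.image.fac] at h
  show hmap (Abelian.image.ι g) 0 (hmap (Abelian.factorThruImage g) 0 z) =
    hmap (Abelian.image.ι g) 0 0
  rw [← h, hz, map_zero]

end Gen

section Res

variable {X : Scheme.{u}}

theorem resDMap_eq (I : X.IdealSheafData) {E F : X.Modules} (f : E ⟶ F) :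
    ParSh.resDMap I f = (tR (ClSub.quotMod I)).map f :=
  (KoszTw.tensorBi_map_app f _).symm

theorem resDMap_comp (I : X.IdealSheafData) {E F G : X.Modules} (f : E ⟶ F) (g : F ⟶ G) :
    ParSh.resDMap I (f ≫ g) = ParSh.resDMap I f ≫ ParSh.resDMap I g := by
  rw [resDMap_eq, resDMap_eq, resDMap_eq]
  exact (tR (ClSub.quotMod I)).map_comp f g

theorem resDMap_id (I : X.IdealSheafData) (E : X.Modules) :
    ParSh.resDMap I (𝟙 E) = 𝟙 _ := by
  rw [resDMap_eq]
  exact (tR (ClSub.quotMod I)).map_id E

end Res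

section FibMap

variable (k : Type u) [Field k] (X : Scheme.{u}) [X.Over (Spec (CommRingCat.of k))]

theorem fibDMap_apply (I : X.IdealSheafData) {E F : X.Modules} (f : E ⟶ F)
    (x : ParSh.fibD X I E) : ParSh.fibDMap k X I f x = hmap (ParSh.resDMap I f) 0 x := rfl

theorem fibDMap_comp (I : X.IdealSheafData) {E F G : X.Modules} (f : E ⟶ F) (g : F ⟶ G) :
    ParSh.fibDMap k X I (f ≫ g) = (ParSh.fibDMap k X I g).comp (ParSh.fibDMap k X I f) := by
  apply LinearMap.ext
  intro x
  rw [LinearMap.comp_apply, fibDMap_apply, fibDMap_apply, fibDMap_apply, resDMap_comp, hmap_comp]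

theorem fibDMap_id (I : X.IdealSheafData) (E : X.Modules) :
    ParSh.fibDMap k X I (𝟙 E) = LinearMap.id := by
  apply LinearMap.ext
  intro x
  rw [fibDMap_apply, resDMap_id, hmap_id]
  rfl

end FibMap

end Groth.Agent.Lib.GPBunH6
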