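import Mathlib
import Groth.Prelude
import Groth.Agent.Lib.ESZ2_helper6
import Groth.Agent.Lib.ESZ3_helper6
import Groth.Agent.Lib.SchemeIdem_helper3
import Groth.Agent.Lib.GPBun1_helper6
import Groth.Agent.Lib.HypSurf_helper9
import Groth.Agent.Lib.CycLen2_helper8

/-!
# Connectedness of the zero scheme of a regular section of an ample module (helper6)

`main7681`: `X` proper connected over a field with `depth O_{X,x} ≥ 2` at the closed points,
`L` ample, `s` a regular section: `Z(s)` is connected.
APPEND-ONLY once landed.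
-/

set_option autoImplicit false
set_option linter.style.haveILetI false
universe u
open CategoryTheory CategoryTheory.Limits AlgebraicGeometry TopologicalSpace

namespace Groth.Agent.Lib.ESZH6

open CohB1 Groth.Agent.TensInv Groth.Agent.HHVan

section Idem

/-- global idempotents on a connected scheme are trivial (helper9's `FormalConn.idempotent_trivial`,
without compactness). -/
theorem idempotent_trivial (X : Scheme.{u}) [ConnectedSpace ↥X] (e : Γ(X, ⊤))
    (he : IsIdempotentElem e) : e = 0 ∨ e = 1 := by
  have hclopen := Groth.Agent.Lib.SchemeIdemH3.isClopen_basicOpen X he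
  rcases isClopen_iff.mp hclopen with h | h
  · left
    have h0 : IsIdempotentElem (0 : Γ(X, ⊤)) := IsIdempotentElem.zero
    refine Groth.Agent.Lib.SchemeIdemH3.eq_of_basicOpen_eq X he h0 ?_
    rw [Scheme.basicOpen_zero]
    exact Opens.ext (h.trans Opens.coe_bot.symm)
  · right
    have h1 : IsIdempotentElem (1 : Γ(X, ⊤)) := IsIdempotentElem.one
    refine Groth.Agent.Lib.SchemeIdemH3.eq_of_basicOpen_eq X he h1 ?_
    rw [Scheme.basicOpen_one]
    exact Opens.ext (h.trans Opens.coe_top.symm)

/-- A scheme whose ring of global functions is nontrivial with only trivial idempotents is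
connected (helper5's `KumSh.connectedSpace_of_idem`). -/
theorem connectedSpace_of_idem (Y : Scheme.{u}) (h01 : (0 : Γ(Y, ⊤)) ≠ 1)
    (h : ∀ e : Γ(Y, ⊤), IsIdempotentElem e → e = 0 ∨ e = 1) : ConnectedSpace ↥Y := by
  rw [connectedSpace_iff_clopen]
  constructor
  · by_contra hne
    rw [not_nonempty_iff] at hne
    have hbot : (⊤ : Y.Opens) = ⊥ := by
      ext x
      exact (hne.false x).elim
    apply h01
    have : Subsingleton Γ(Y, ⊤) := by
      rw [hbot]
      infer_instance
    exact Subsingleton.elim _ _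
  · intro s hs
    obtain ⟨e, he, hes⟩ := Groth.Agent.Lib.SchemeIdemH3.exists_idem_of_isClopen Y s hs
    rcases h e he with h0 | h1
    · left
      rw [← hes, h0, Scheme.basicOpen_zero]
      rfl
    · right
      rw [← hes, h1, Scheme.basicOpen_one]
      rfl

end Idem

section H0

variable {X : Scheme.{u}}

/-- `H^0` is the group of global sections -/
noncomputable def h0 (M : X.Modules) : Coh.HH X M 0 ≃+ Γ(M, ⊤) :=
  Sheaf.H.equiv₀ (Coh.toAb M) Limits.isTerminalTop

theorem h0_hmap {M N : X.Modules} (φ : M ⟶ N) (x : Coh.HH X M 0) :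
    h0 N (hmap φ 0 x) = φ.app ⊤ (h0 M x) :=
  (Sheaf.H.equiv₀_naturality (hT := Limits.isTerminalTop)
    (f := (SerreCrit.TT X).map φ) x).symm

/-- if `H^0` and `H^1` of an ideal vanish, the restriction `Γ(X, O_X) → Γ(Z, O_Z)` is bijective. -/
theorem bijective_appTop_of_vanishing (I : X.IdealSheafData)
    (hv0 : Subsingleton (Coh.HH X (ClSub.idealMod I) 0))
    (hv1 : Subsingleton (Coh.HH X (ClSub.idealMod I) 1)) :
    Function.Bijective (I.subschemeι.appTop).hom := by
  have hS := Groth.Agent.HypSurf.ses_shortExact I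
  have hsurj : Function.Surjective (hmap (ClSub.toSubscheme I) 0) :=
    Groth.Agent.Lib.GPBunH6.hmap_surjective_of_H1 (Groth.Agent.HypSurf.ses I) hS hv1
  have hinj : Function.Injective (hmap (ClSub.toSubscheme I) 0) := by
    rw [injective_iff_map_eq_zero]
    intro z hz
    obtain ⟨y, hy⟩ := Groth.Agent.Lib.GPBunH6.hmap_exact_mid (Groth.Agent.HypSurf.ses I) hS z hz
    have hy0 : y = 0 := hv0.elim y 0
    rw [← hy, hy0]
    exact map_zero _
  have key : ∀ a : Γ(X, ⊤), (I.subschemeι.appTop).hom a =
      h0 (ClSub.quotMod I) (hmap (ClSub.toSubscheme I) 0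
        ((h0 (Coh.structureModule X)).symm a)) := by
    intro a
    rw [h0_hmap, AddEquiv.apply_symm_apply]
    rfl
  constructor
  · intro a b hab
    rw [key, key] at hab
    exact (h0 (Coh.structureModule X)).symm.injective
      (hinj ((h0 (ClSub.quotMod I)).injective hab))
  · intro z
    obtain ⟨y, hy⟩ := hsurj ((h0 (ClSub.quotMod I)).symm z)
    refine ⟨h0 (Coh.structureModule X) y, ?_⟩
    rw [key, AddEquiv.symm_apply_apply, hy, AddEquiv.apply_symm_apply]

end H0

section Main

variable (k : Type u) [Field k] (X : Scheme.{u}) [X.Over (Spec (CommRingCat.of k))]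
  [IsProper (X ↘ Spec (CommRingCat.of k))]

include k in
theorem main7681 [ConnectedSpace X] (L : X.Modules) (hL : CohB1.IsAmple L)
    (s : Coh.structureModule X ⟶ L) (hs : Mono s)
    (hdepth : ∀ x : X, IsClosed ({x} : Set X) →
      2 ≤ LocCoh.depth (X.presheaf.stalk x) (X.presheaf.stalk x)) :
    ConnectedSpace ↥(PicF2.zeroScheme L s).subscheme := by
  haveI := hs
  haveI : IsLocallyNoetherian X :=
    LocallyOfFiniteType.isLocallyNoetherian (X ↘ Spec (CommRingCat.of k))
  have hLinv : PicF.IsInvertible L := hL.1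
  obtain ⟨I, hIdef⟩ : ∃ I : X.IdealSheafData, I = PicF2.zeroScheme L s := ⟨_, rfl⟩
  have hI : BlowUp.IsEffCartierIdeal I := by
    rw [hIdef]
    exact Groth.Agent.Lib.DivDiff.isEffCartierIdeal_zeroScheme hLinv s
  obtain ⟨θ⟩ := nonempty_idealMod_tensor_iso hLinv s
  rw [← hIdef] at θ ⊢
  have hM : ClSub.IsInverseOf L (ClSub.idealMod I) := ⟨comm L _ ≪≫ θ⟩
  have hO : Coh.IsCoh (Coh.structureModule X) := CohDevH8.isCoh_structureModule X
  have hdepth' : ∀ x : X, IsClosed ({x} : Set X) → 2 ≤ LocCoh.depth (X.presheaf.stalk x)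
      ((Coh.structureModule X).presheaf.stalk x) := by
    intro x hx
    have h1 : LocCoh.depth (X.presheaf.stalk x) (X.presheaf.stalk x) =
        LocCoh.depth (X.presheaf.stalk x) ((Coh.structureModule X).presheaf.stalk x) :=
      Groth.Agent.DepthLib.idealDepth_congr _ _ (CycLenH8.stalkStructureEquiv x)
    rw [← h1]
    exact hdepth x hx
  obtain ⟨m₀, hvan⟩ := main7680' k X L hL (ClSub.idealMod I) hM (Coh.structureModule X) hO hdepth'
  obtain ⟨m, hmdef⟩ : ∃ m : ℕ, m = max m₀ 1 := ⟨_, rfl⟩
  have hm0 : m₀ ≤ m := hmdef ▸ le_max_left _ _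
  have hm1 : 1 ≤ m := hmdef ▸ le_max_right _ _
  obtain ⟨e⟩ := nonempty_tensorPow_idealMod_iso I hI m hm1
  have eO : tensorMod (Coh.structureModule X) (tensorPow (ClSub.idealMod I) m) ≅
      ClSub.idealMod (I ^ m) := comm _ _ ≪≫ rightUnit _ ≪≫ e
  have hv0 : Subsingleton (Coh.HH X (ClSub.idealMod (I ^ m)) 0) :=
    subsingleton_of_iso eO 0 (hvan m hm0 0 zero_le_one)
  have hv1 : Subsingleton (Coh.HH X (ClSub.idealMod (I ^ m)) 1) :=
    subsingleton_of_iso eO 1 (hvan m hm0 1 le_rfl)
  have hbij := bijective_appTop_of_vanishing (I ^ m) hv0 hv1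
  -- the thickened zero scheme is connected
  haveI : Nonempty (⊤ : X.Opens) := by
    obtain ⟨x⟩ := (inferInstance : Nonempty X)
    exact ⟨⟨x, trivial⟩⟩
  haveI : Nontrivial Γ(X, ⊤) := Scheme.component_nontrivial X ⊤
  have hconn : ConnectedSpace ↥(I ^ m).subscheme := by
    refine connectedSpace_of_idem _ ?_ ?_
    · intro h
      have h1 : ((I ^ m).subschemeι.appTop).hom 0 = ((I ^ m).subschemeι.appTop).hom 1 := by
        rw [map_zero, map_one]
        exact h
      exact zero_ne_one (hbij.1 h1)
    · intro e' he'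
      obtain ⟨a, rfl⟩ := hbij.2 e'
      have ha : IsIdempotentElem a := by
        apply hbij.1
        rw [map_mul]
        exact he'
      rcases idempotent_trivial X a ha with h | h
      · left
        rw [h, map_zero]
      · right
        rw [h, map_one]
  -- transfer along the equality of supports
  have hsupp : (I ^ m).support = I.support :=
    Scheme.IdealSheafData.support_pow I m (by omega)
  have hr1 : Set.range (I ^ m).subschemeι = (I.support : Set X) := by
    rw [Scheme.IdealSheafData.range_subschemeι, hsupp]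
  have hr2 : Set.range I.subschemeι = (I.support : Set X) :=
    Scheme.IdealSheafData.range_subschemeι I
  have hc1 : _root_.IsConnected (I.support : Set X) := by
    rw [← hr1]
    haveI := hconn
    exact isConnected_range (I ^ m).subschemeι.continuous
  haveI : ConnectedSpace (Set.range I.subschemeι) := by
    rw [hr2]
    exact isConnected_iff_connectedSpace.mp hc1
  exact I.subschemeι.isClosedEmbedding.isEmbedding.toHomeomorph.connectedSpace_iff.mpr
    inferInstance

end Main

end Groth.Agent.Lib.ESZH6
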