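import Mathlib
import Groth.Prelude
import Groth.Agent.Lib.ESZ4_helper6

/-!
# Cohomology of thickenings of an ample effective Cartier divisor (helper6)

* `main7680gen`: `X` proper over a field, `L` ample with inverse `M`, `F` coherent of depth `> n`
  at the closed points: `H^i(X, F ⊗ M^m) = 0` for `i ≤ n`, `m ≫ 0`.
* `hmap_exact_mid'`, `hmap_surjective_of_succ`: the long exact sequence in degree `i`.
* `main2942`: `H^i(X, O_X) → H^i(X, O_X / 𝓘^(m+1))` bijective for `i < n`, injective for `i = n`.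
APPEND-ONLY once landed.
-/

set_option autoImplicit false
set_option linter.style.haveILetI false
universe u
open CategoryTheory CategoryTheory.Limits AlgebraicGeometry TopologicalSpace

namespace Groth.Agent.Lib.ESZH6

open CohB1 Groth.Agent.TensInv Groth.Agent.HHVan

section LES

variable {X : Scheme.{u}}

/-- exactness of `H^i` in the middle -/
theorem hmap_exact_mid' (S : ShortComplex X.Modules) (hS : S.ShortExact) (i : ℕ)
    (z : Coh.HH X S.X₂ i) (hz : hmap S.g i z = 0) : ∃ y : Coh.HH X S.X₁ i, hmap S.f i y = z := by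
  obtain ⟨y, hy⟩ := Abelian.Ext.covariant_sequence_exact₂ _ (SerreCrit.shortExact_toSheaf S hS)
    (show Abelian.Ext _ (Coh.toAb S.X₂) i from z) hz
  exact ⟨y, hy⟩

/-- surjectivity of `H^i` when `H^(i+1)` of the kernel vanishes -/
theorem hmap_surjective_of_succ (S : ShortComplex X.Modules) (hS : S.ShortExact) (i : ℕ)
    (h1 : Subsingleton (Coh.HH X S.X₁ (i + 1))) : Function.Surjective (hmap S.g i) := by
  intro z
  obtain ⟨y, hy⟩ := Abelian.Ext.covariant_sequence_exact₃ _ (SerreCrit.shortExact_toSheaf S hS)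
    (show Abelian.Ext _ (Coh.toAb S.X₃) i from z) rfl
    (Subsingleton.elim (h := h1) _ _)
  exact ⟨y, hy⟩

/-- injectivity of `H^i` when `H^i` of the kernel vanishes -/
theorem hmap_injective_of_vanish (S : ShortComplex X.Modules) (hS : S.ShortExact) (i : ℕ)
    (h0 : Subsingleton (Coh.HH X S.X₁ i)) : Function.Injective (hmap S.g i) := by
  rw [injective_iff_map_eq_zero]
  intro z hz
  obtain ⟨y, hy⟩ := hmap_exact_mid' S hS i z hz
  have hy0 : y = 0 := h0.elim y 0
  rw [← hy, hy0]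
  exact map_zero _

end LES

section Main

variable (k : Type u) [Field k] (X : Scheme.{u}) [X.Over (Spec (CommRingCat.of k))]
  [IsProper (X ↘ Spec (CommRingCat.of k))]

include k in
/-- **Enriques–Severi–Zariski** in all degrees `≤ n`. -/
theorem main7680gen (L : X.Modules) (hL : CohB1.IsAmple L) (M : X.Modules)
    (hM : ClSub.IsInverseOf L M) (F : X.Modules) (hF : Coh.IsCoh F) (n : ℕ)
    (hdepth : ∀ x : X, IsClosed ({x} : Set X) →
      (n : ℕ∞) < LocCoh.depth (X.presheaf.stalk x) (F.presheaf.stalk x)) :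
    ∃ m₀ : ℕ, ∀ m : ℕ, m₀ ≤ m → ∀ i : ℕ, i ≤ n →
      Subsingleton (Coh.HH X (CohB1.tensorMod F (CohB1.tensorPow M m)) i) := by
  haveI : IsLocallyNoetherian X :=
    LocallyOfFiniteType.isLocallyNoetherian (X ↘ Spec (CommRingCat.of k))
  obtain ⟨ε₁⟩ := hM
  have hLinv : PicF.IsInvertible L := hL.1
  have hMinv : PicF.IsInvertible M := InvTensH8.isInvertible_of_tensor_iso (comm M L ≪≫ ε₁)
  obtain ⟨d, N, ι, hd, hcl, ⟨eO1⟩⟩ := exists_closedImmersion k X L hL
  haveI := hcl
  have hneg : ∀ q : ℕ, Nonempty ((Scheme.Modules.pullback ι).obj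
      (Twist.twistProjSpace N k (-(q : ℤ))) ≅ tensorPow M (d * q)) := by
    intro q
    obtain ⟨a⟩ := QProjVanH9.tensorPow_tensor_neg k N ι q
    obtain ⟨b⟩ := TensPowH9.tensorPow_congr eO1 q
    obtain ⟨c⟩ := TensPowH9.tensorPow_mul L d q
    obtain ⟨e⟩ := Groth.Agent.NegPow.tensorPow_inverse ε₁ (d * q)
    exact inverse_unique (mapR (b ≪≫ c).symm _ ≪≫ a) e
  have hG : ∀ j : ℕ, ∃ q₀ : ℤ, ∀ q : ℤ, q₀ ≤ q → ∀ i : ℕ, i ≤ n → Subsingleton (Coh.HH X
      (tensorMod (tensorMod F (tensorPow M j))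
        ((Scheme.Modules.pullback ι).obj (Twist.twistProjSpace N k (-q)))) i) := by
    intro j
    have hcoh : Coh.IsCoh (tensorMod F (tensorPow M j)) :=
      CurveAmple.isCoh_tensorMod X hF (TensH8.isInvertible_tensorPow hMinv j)
    exact (Groth.Agent.Lib.ProjExtVanH4.exists_HH_pullback_twist_vanish_iff N k ι _ hcoh n).mpr
        (fun z hz => by
          rw [depth_stalk_tensor_invertible F _ (TensH8.isInvertible_tensorPow hMinv j) z]
          exact hdepth z hz)
  choose q₀ hq₀ using hG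
  refine ⟨d * ((Finset.range d).sup (fun j => (q₀ j).toNat)), fun m hm i hi => ?_⟩
  have ht : (Finset.range d).sup (fun j => (q₀ j).toNat) ≤ m / d := by
    rw [Nat.le_div_iff_mul_le hd, mul_comm]
    exact hm
  have hr : m % d ∈ Finset.range d := Finset.mem_range.mpr (Nat.mod_lt _ hd)
  have hq : q₀ (m % d) ≤ ((m / d : ℕ) : ℤ) := by
    have h1 := Finset.le_sup (f := fun j => (q₀ j).toNat) hr
    have h2 : (q₀ (m % d)).toNat ≤ m / d := le_trans h1 ht
    exact Int.toNat_le.mp h2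
  have hvan := hq₀ (m % d) _ hq i hi
  obtain ⟨e1⟩ := TensPowH9.tensorMod_tensorPow_divMod F M d (m / d) (m % d)
  obtain ⟨e2⟩ := TensPowH9.tensorPow_mul M d (m / d)
  obtain ⟨e3⟩ := hneg (m / d)
  have hm' : m % d + d * (m / d) = m := Nat.mod_add_div m d
  rw [← hm']
  exact Groth.Agent.HHVan.subsingleton_of_iso (e1 ≪≫ mapL _ (e2 ≪≫ e3.symm)).symm i hvan

include k in
/-- **S2942** -/
theorem main2942 (𝓘 : X.IdealSheafData) (L : X.Modules)
    (hL : ClSub.IsInverseOf L (ClSub.idealMod 𝓘)) (hamp : CohB1.IsAmple L) (n : ℕ)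
    (hdepth : ∀ x : X, IsClosed ({x} : Set X) →
      (n : ℕ∞) < LocCoh.depth (X.presheaf.stalk x) (X.presheaf.stalk x)) :
    ∃ m₀ : ℕ, ∀ m : ℕ, m₀ ≤ m →
      (∀ i : ℕ, i < n → Function.Bijective (Sheaf.H.map
        ((SheafOfModules.toSheaf X.ringCatSheaf).map (ClSub.toSubscheme (𝓘 ^ (m + 1)))) i)) ∧
      Function.Injective (Sheaf.H.map
        ((SheafOfModules.toSheaf X.ringCatSheaf).map (ClSub.toSubscheme (𝓘 ^ (m + 1)))) n) := by
  haveI : IsLocallyNoetherian X :=
    LocallyOfFiniteType.isLocallyNoetherian (X ↘ Spec (CommRingCat.of k))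
  have hJinv : PicF.IsInvertible (ClSub.idealMod 𝓘) := by
    obtain ⟨ε⟩ := hL
    exact InvTensH8.isInvertible_of_tensor_iso (comm _ L ≪≫ ε)
  have hI : BlowUp.IsEffCartierIdeal 𝓘 := TensH8.isEffCartierIdeal_of_isInvertible_idealMod 𝓘 hJinv
  have hO : Coh.IsCoh (Coh.structureModule X) := CohDevH8.isCoh_structureModule X
  have hdepth' : ∀ x : X, IsClosed ({x} : Set X) → (n : ℕ∞) < LocCoh.depth (X.presheaf.stalk x)
      ((Coh.structureModule X).presheaf.stalk x) := by
    intro x hx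
    have h1 : LocCoh.depth (X.presheaf.stalk x) (X.presheaf.stalk x) =
        LocCoh.depth (X.presheaf.stalk x) ((Coh.structureModule X).presheaf.stalk x) :=
      Groth.Agent.DepthLib.idealDepth_congr _ _ (CycLenH8.stalkStructureEquiv x)
    rw [← h1]
    exact hdepth x hx
  obtain ⟨m₀, hvan⟩ := main7680gen k X L hamp (ClSub.idealMod 𝓘) hL (Coh.structureModule X) hO n
    hdepth'
  refine ⟨m₀, fun m hm => ?_⟩
  obtain ⟨e⟩ := nonempty_tensorPow_idealMod_iso 𝓘 hI (m + 1) (Nat.succ_le_succ (Nat.zero_le m))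
  have eO : tensorMod (Coh.structureModule X) (tensorPow (ClSub.idealMod 𝓘) (m + 1)) ≅
      ClSub.idealMod (𝓘 ^ (m + 1)) := comm _ _ ≪≫ rightUnit _ ≪≫ e
  have hv : ∀ i : ℕ, i ≤ n → Subsingleton (Coh.HH X (ClSub.idealMod (𝓘 ^ (m + 1))) i) :=
    fun i hi => subsingleton_of_iso eO i (hvan (m + 1) (le_trans hm (Nat.le_succ m)) i hi)
  have hS := Groth.Agent.HypSurf.ses_shortExact (𝓘 ^ (m + 1))
  refine ⟨fun i hi => ⟨?_, ?_⟩, ?_⟩
  · exact hmap_injective_of_vanish (Groth.Agent.HypSurf.ses (𝓘 ^ (m + 1))) hS i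
      (hv i (le_of_lt hi))
  · exact hmap_surjective_of_succ (Groth.Agent.HypSurf.ses (𝓘 ^ (m + 1))) hS i (hv (i + 1) hi)
  · exact hmap_injective_of_vanish (Groth.Agent.HypSurf.ses (𝓘 ^ (m + 1))) hS n (hv n le_rfl)

end Main

end Groth.Agent.Lib.ESZH6
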