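import Mathlib

/-!
# A spanning criterion from universal closedness (helper4)
APPEND-ONLY once landed.
-/

set_option autoImplicit false
universe u
open CategoryTheory CategoryTheory.Limits AlgebraicGeometry TopologicalSpace Opposite

namespace Groth.Agent.Lib.GenLocAffH4

/-- A function vanishing after pullback along `γ` is not invertible at points of the closure of the
range of `γ`. -/
lemma not_mem_basicOpen_of_mem_closure {T P : Scheme.{u}} (γ : T ⟶ P) (z : P)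
    (hz : z ∈ closure (Set.range γ)) (Ω : P.Opens) (F : Γ(P, Ω)) (hF : γ.app Ω F = 0) :
    z ∉ P.basicOpen F := by
  intro hzF
  obtain ⟨_, hw, ⟨t, rfl⟩⟩ := mem_closure_iff.1 hz _ (P.basicOpen F).isOpen hzF
  have h1 : t ∈ γ ⁻¹ᵁ (P.basicOpen F) := hw
  rw [Scheme.preimage_basicOpen, hF, Scheme.basicOpen_zero] at h1
  exact h1

/-- In a scheme, if `a` is invertible at `z` and `a - y` is not, then `y` is invertible at `z`. -/
lemma mem_basicOpen_of_sub {P : Scheme.{u}} (Ω : P.Opens) (a y : Γ(P, Ω)) (z : P)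
    (ha : z ∈ P.basicOpen a) (hay : z ∉ P.basicOpen (a - y)) : z ∈ P.basicOpen y := by
  have hzΩ : z ∈ Ω := P.basicOpen_le a ha
  rw [Scheme.mem_basicOpen _ _ _ hzΩ] at ha hay ⊢
  have h : IsUnit (P.presheaf.germ Ω z hzΩ (a - y) + P.presheaf.germ Ω z hzΩ y) := by
    rw [← map_add, sub_add_cancel]
    exact ha
  rcases IsLocalRing.isUnit_or_isUnit_of_isUnit_add h with h1 | h1
  · exact absurd h1 hay
  · exact h1

/-- the canonical morphism `A ⟶ Spec Γ(X, A)` has dense range when `A` is quasi-compact. -/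
lemma denseRange_toSpecΓ {X : Scheme.{u}} (A : X.Opens) (hAc : IsCompact (A : Set X)) :
    DenseRange A.toSpecΓ := by
  intro y
  refine ((PrimeSpectrum.isTopologicalBasis_basic_opens (R := Γ(X, A))).mem_closure_iff
    (s := Set.range A.toSpecΓ) (a := y)).2 ?_
  rintro _ ⟨b, rfl⟩ hyb
  by_contra hne
  rw [Set.not_nonempty_iff_eq_empty] at hne
  have h1 : A.toSpecΓ ⁻¹ᵁ (PrimeSpectrum.basicOpen b) = ⊥ := by
    ext t
    simp only [Opens.coe_bot, Set.mem_empty_iff_false, iff_false]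
    intro ht
    have : A.toSpecΓ t ∈ (PrimeSpectrum.basicOpen b : Set (PrimeSpectrum Γ(X, A))) ∩
        Set.range A.toSpecΓ := ⟨ht, ⟨t, rfl⟩⟩
    rw [hne] at this
    exact this
  rw [Scheme.Opens.toSpecΓ_preimage_basicOpen] at h1
  have h2 : X.basicOpen b = ⊥ := by
    ext x
    simp only [Opens.coe_bot, Set.mem_empty_iff_false, iff_false]
    intro hx
    have hxA : x ∈ A := X.basicOpen_le b hx
    have : (⟨x, hxA⟩ : A) ∈ A.ι ⁻¹ᵁ X.basicOpen b := hx
    rw [h1] at this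
    exact this
  have h3 : IsNilpotent b := (Scheme.isNilpotent_iff_basicOpen_eq_bot_of_isCompact hAc b).2 h2
  have h4 : (PrimeSpectrum.basicOpen b : Set (PrimeSpectrum Γ(X, A))) = ∅ := by
    have := (PrimeSpectrum.basicOpen_eq_bot_iff b).2 h3
    rw [this]; rfl
  have hyb' : y ∈ (PrimeSpectrum.basicOpen b : Set (PrimeSpectrum Γ(X, A))) := hyb
  rw [h4] at hyb'
  exact hyb'

lemma presheaf_map_map {X : Scheme.{u}} {U V W : X.Opens} (i : op U ⟶ op V) (j : op V ⟶ op W)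
    (k : op U ⟶ op W) (g : Γ(X, U)) :
    X.presheaf.map j (X.presheaf.map i g) = X.presheaf.map k g := by
  rw [← CategoryTheory.comp_apply, ← Functor.map_comp]
  congr 2

lemma app_eq_of_eq_ι {X : Scheme.{u}} (A : X.Opens) (q : (A : Scheme.{u}) ⟶ X) (hq : q = A.ι)
    (W : X.Opens) (a : Γ(X, W)) (h : A.ι ''ᵁ (q ⁻¹ᵁ W) ≤ W) :
    q.app W a = X.presheaf.map (homOfLE h).op a := by
  subst hq
  rw [Scheme.Opens.ι_app]
  rfl

lemma appTop_eq_of_eq_toSpecΓ {X : Scheme.{u}} (A : X.Opens) (q : (A : Scheme.{u}) ⟶ Spec Γ(X, A))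
    (hq : q = A.toSpecΓ) (g : Γ(X, A)) (h : A.ι ''ᵁ ⊤ ≤ A) :
    q.appTop ((Scheme.ΓSpecIso Γ(X, A)).inv g) = X.presheaf.map (homOfLE h).op g := by
  subst hq
  rw [Scheme.Opens.toSpecΓ_appTop]
  simp
  rfl


/-- **Key lemma.**  `f : X ⟶ S` universally closed, `V₀ ⊆ S` affine open, `A ⊆ f⁻¹ V₀` a
quasi-compact open.  If around each point `x` of `f⁻¹ V₀` there are functions `a, c` on a
neighbourhood `W`, with `a` invertible at `x`, and `g ∈ G ⊆ Γ(X, A)` with `a = c g` on `A ∩ W`, then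
`G` generates the unit ideal of `Γ(X, A)`. -/
theorem span_eq_top_of_universallyClosed {X S : Scheme.{u}} (f : X ⟶ S) [UniversallyClosed f]
    (V₀ : S.Opens) (hV₀ : IsAffineOpen V₀) (A : X.Opens) (hA : A ≤ f ⁻¹ᵁ V₀)
    (hAc : IsCompact (A : Set X)) (G : Set Γ(X, A))
    (H : ∀ x ∈ f ⁻¹ᵁ V₀, ∃ g ∈ G, ∃ (W : X.Opens) (a c : Γ(X, W)), x ∈ X.basicOpen a ∧
      ∀ (W' : X.Opens) (h1 : W' ≤ W) (h2 : W' ≤ A),
        X.presheaf.map (homOfLE h1).op a =
          X.presheaf.map (homOfLE h1).op c * X.presheaf.map (homOfLE h2).op g) :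
    Ideal.span G = ⊤ := by
  by_contra hne
  obtain ⟨m, hm, hGm⟩ := Ideal.exists_le_maximal _ hne
  let y : Spec Γ(X, A) := (⟨m, hm.isPrime⟩ : PrimeSpectrum Γ(X, A))
  let ψ : Spec Γ(X, A) ⟶ S := Spec.map (f.appLE V₀ A hA) ≫ hV₀.fromSpec
  have hψ : A.toSpecΓ ≫ ψ = A.ι ≫ f := by
    dsimp only [ψ]
    rw [Scheme.Opens.toSpecΓ_SpecMap_appLE_assoc, IsAffineOpen.toSpecΓ_fromSpec,
      Scheme.Hom.resLE_comp_ι]
  let γ : (A : Scheme.{u}) ⟶ pullback f ψ := pullback.lift A.ι A.toSpecΓ hψ.symm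
  have hγ1 : γ ≫ pullback.fst f ψ = A.ι := pullback.lift_fst _ _ _
  have hγ2 : γ ≫ pullback.snd f ψ = A.toSpecΓ := pullback.lift_snd _ _ _
  -- a point `z` of the closure of the graph over `y`
  obtain ⟨z, hz, hzy⟩ : ∃ z ∈ closure (Set.range γ), pullback.snd f ψ z = y := by
    have hcl : IsClosedMap (pullback.snd f ψ) := (pullback.snd f ψ).isClosedMap
    have h1 : IsClosed ((pullback.snd f ψ) '' closure (Set.range γ)) := hcl _ isClosed_closure
    have h2 : Set.range A.toSpecΓ ⊆ (pullback.snd f ψ) '' closure (Set.range γ) := by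
      rintro _ ⟨t, rfl⟩
      refine ⟨γ t, subset_closure ⟨t, rfl⟩, ?_⟩
      rw [← hγ2]
      rfl
    have h3 := closure_minimal h2 h1
    exact h3 (denseRange_toSpecΓ A hAc y)
  let x : X := pullback.fst f ψ z
  have hxV : x ∈ f ⁻¹ᵁ V₀ := by
    change f (pullback.fst f ψ z) ∈ V₀
    have h1 : f (pullback.fst f ψ z) = ψ (pullback.snd f ψ z) := by
      have := congrArg (fun k => k.base z) (pullback.condition (f := f) (g := ψ))
      simpa using this
    rw [h1, hzy]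
    have h2 : ψ y = hV₀.fromSpec (Spec.map (f.appLE V₀ A hA) y) := rfl
    rw [h2]
    have h3 : hV₀.fromSpec (Spec.map (f.appLE V₀ A hA) y) ∈ Set.range hV₀.fromSpec := ⟨_, rfl⟩
    rw [hV₀.range_fromSpec] at h3
    exact h3
  obtain ⟨g, hgG, W, a, c, hxa, hrel⟩ := H x hxV
  have hxW : x ∈ W := X.basicOpen_le a hxa
  have hgm : g ∈ m := hGm (Ideal.subset_span hgG)
  -- the functions on `Ω = p₁⁻¹ W`
  let P := pullback f ψ
  let p₁ : P ⟶ X := pullback.fst f ψ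
  let p₂ : P ⟶ Spec Γ(X, A) := pullback.snd f ψ
  let Ω : P.Opens := p₁ ⁻¹ᵁ W
  have hzΩ : z ∈ Ω := hxW
  let ĝ : Γ(Spec Γ(X, A), ⊤) := (Scheme.ΓSpecIso Γ(X, A)).inv g
  let a' : Γ(P, Ω) := p₁.app W a
  let c' : Γ(P, Ω) := p₁.app W c
  let g' : Γ(P, Ω) := P.presheaf.map (homOfLE (le_top : Ω ≤ ⊤)).op (p₂.appTop ĝ)
  -- `a' - c' g'` vanishes along the graph
  have hF : γ.app Ω (a' - c' * g') = 0 := by
    have hW'1 : A.ι ''ᵁ (γ ⁻¹ᵁ Ω) ≤ W := by
      rintro _ ⟨t, ht, rfl⟩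
      have : (γ ≫ p₁) t ∈ W := ht
      rw [hγ1] at this
      exact this
    have hW'2 : A.ι ''ᵁ (γ ⁻¹ᵁ Ω) ≤ A := by
      rintro _ ⟨t, -, rfl⟩
      exact t.2
    have e1 : ∀ b : Γ(X, W), γ.app Ω (p₁.app W b) = X.presheaf.map (homOfLE hW'1).op b := by
      intro b
      have h1 : γ.app Ω (p₁.app W b) = (γ ≫ p₁).app W b := by
        rw [Scheme.Hom.comp_app]
        rfl
      rw [h1]
      exact app_eq_of_eq_ι A (γ ≫ p₁) hγ1 W b _
    have e2 : γ.app Ω g' = X.presheaf.map (homOfLE hW'2).op g := by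
      have n1 := ConcreteCategory.congr_hom
        (Scheme.Hom.naturality γ (homOfLE (le_top : Ω ≤ ⊤)).op) (p₂.appTop ĝ)
      rw [CategoryTheory.comp_apply, CategoryTheory.comp_apply] at n1
      refine n1.trans ?_
      have h1 : γ.app ⊤ (p₂.appTop ĝ) = (γ ≫ p₂).appTop ĝ := by
        rw [Scheme.Hom.comp_appTop]
        rfl
      have hT : A.ι ''ᵁ ⊤ ≤ A := by
        rintro _ ⟨t, -, rfl⟩
        exact t.2
      have h2 := appTop_eq_of_eq_toSpecΓ A (γ ≫ p₂) hγ2 g hT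
      rw [h1, h2]
      rw [Scheme.Opens.toScheme_presheaf_map]
      exact presheaf_map_map _ _ _ g
    rw [map_sub, map_mul, e1 a, e1 c, e2, hrel _ hW'1 hW'2]
    exact sub_self _
  have hzF : z ∉ P.basicOpen (a' - c' * g') := not_mem_basicOpen_of_mem_closure γ z hz Ω _ hF
  have hza : z ∈ P.basicOpen a' := by
    have : z ∈ p₁ ⁻¹ᵁ (X.basicOpen a) := hxa
    rwa [Scheme.preimage_basicOpen] at this
  have hzcg : z ∈ P.basicOpen (c' * g') := mem_basicOpen_of_sub Ω a' (c' * g') z hza hzF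
  rw [Scheme.basicOpen_mul] at hzcg
  have hzg : z ∈ P.basicOpen g' := hzcg.2
  have hzg2 : z ∈ P.basicOpen (p₂.appTop ĝ) := by
    have := Scheme.basicOpen_res P (p₂.appTop ĝ) (homOfLE (le_top : Ω ≤ ⊤)).op
    have h2 : z ∈ Ω ⊓ P.basicOpen (p₂.appTop ĝ) := this ▸ hzg
    exact h2.2
  have hyg : p₂ z ∈ (Spec Γ(X, A)).basicOpen ĝ := by
    have : z ∈ p₂ ⁻¹ᵁ ((Spec Γ(X, A)).basicOpen ĝ) := by
      rw [Scheme.preimage_basicOpen]
      exact hzg2
    exact this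
  rw [hzy] at hyg
  have hyg' : y ∈ (Spec Γ(X, A)).basicOpen ((Scheme.ΓSpecIso Γ(X, A)).inv g) := hyg
  rw [basicOpen_eq_of_affine] at hyg'
  exact hyg' hgm

end Groth.Agent.Lib.GenLocAffH4
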