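import Mathlib
import Groth.Prelude
import Groth.Agent.Lib.Tens13_helper8
import Groth.Agent.Lib.GenLocAff1_helper4

/-!
# Ratio functions `σ / s^{n+1}` on `X_s` via frames (helper4)
APPEND-ONLY once landed.
-/

set_option autoImplicit false
universe u
open CategoryTheory CategoryTheory.Limits AlgebraicGeometry TopologicalSpace Opposite

namespace Groth.Agent.Lib.GenLocAffH4

open TensH8 GenLocH8 QcqsLoc FLFH8 QCohExtn

variable {X : Scheme.{u}}

lemma isUnit_of_le_basicOpen {W : X.Opens} (c : Γ(X, W)) (h : W ≤ X.basicOpen c) : IsUnit c :=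
  X.toRingedSpace.isUnit_of_isUnit_germ W c (fun x hx => (X.mem_basicOpen c x hx).1 (h hx))

variable {L : X.Modules} (hL : PicF.IsInvertible L) (s : Coh.structureModule X ⟶ L)

/-- the coefficient of `s` with respect to a local generator -/
noncomputable abbrev cs (W : X.Opens) (e : Γ(L, W)) (he : IsGen L W e) : Γ(X, W) :=
  (Frame.self L).coefHom s W e he

lemma isUnit_cs {W : X.Opens} (hW : W ≤ CohB1.genLocus L s) (e : Γ(L, W)) (he : IsGen L W e) :
    IsUnit (cs s W e he) := by
  apply isUnit_of_le_basicOpen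
  rw [← (Frame.self L).genLocus_inf s W e he]
  exact le_inf hW le_rfl

/-- `g` is the ratio `σ / s^{n+1}` on `A`. -/
def IsRatio {V A : X.Opens} (hAV : A ≤ V) (n : ℕ) (σ : Γ(CohB1.tensorPow L (n + 1), V))
    (g : Γ(X, A)) : Prop :=
  ∀ (W : X.Opens) (hW : W ≤ A) (e : Γ(L, W)) (he : IsGen L W e),
    rX hW g * cs s W e he ^ (n + 1) = (Frame.pow L (n + 1)).coefOf σ W (hW.trans hAV) e he

include hL in
theorem exists_isRatio {V A : X.Opens} (hAV : A ≤ V) (hAs : A ≤ CohB1.genLocus L s) (n : ℕ)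
    (σ : Γ(CohB1.tensorPow L (n + 1), V)) : ∃ g : Γ(X, A), IsRatio s hAV n σ g := by
  have hu : ∀ (W : X.Opens) (hW : W ≤ A) (e : Γ(L, W)) (he : IsGen L W e),
      IsUnit (cs s W e he ^ (n + 1)) := fun W hW e he => (isUnit_cs s (hW.trans hAs) e he).pow _
  -- the local coefficients
  let γ : ∀ (W : X.Opens) (_ : W ≤ A) (e : Γ(L, W)) (_ : IsGen L W e), Γ(X, W) :=
    fun W hW e he => (Frame.pow L (n + 1)).coefOf σ W (hW.trans hAV) e he *
      ((hu W hW e he).unit⁻¹ : (Γ(X, W))ˣ)
  have hγ : ∀ (W : X.Opens) (hW : W ≤ A) (e : Γ(L, W)) (he : IsGen L W e),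
      γ W hW e he * cs s W e he ^ (n + 1) =
        (Frame.pow L (n + 1)).coefOf σ W (hW.trans hAV) e he := by
    intro W hW e he
    dsimp only [γ]
    rw [mul_assoc]
    have : ((hu W hW e he).unit⁻¹ : (Γ(X, W))ˣ) * cs s W e he ^ (n + 1) = (1 : Γ(X, W)) :=
      (hu W hW e he).val_inv_mul
    rw [this, mul_one]
  have huniq : ∀ (W : X.Opens) (hW : W ≤ A) (e : Γ(L, W)) (he : IsGen L W e) (b : Γ(X, W)),
      b * cs s W e he ^ (n + 1) = (Frame.pow L (n + 1)).coefOf σ W (hW.trans hAV) e he →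
        b = γ W hW e he := by
    intro W hW e he b hb
    have := (hu W hW e he).mul_left_injective (hb.trans (hγ W hW e he).symm)
    exact this
  obtain ⟨τ, hτ⟩ := (Frame.unit L).exists_section hL A γ
    (fun W hW e he W' h => by
      symm
      apply huniq W' (h.trans hW)
      have e1 : cs s W' (rF L h e) (he.res h) = rX h (cs s W e he) :=
        (Frame.self L).coefHom_res s W e he h
      rw [e1, ← map_pow, ← map_mul, hγ W hW e he]
      exact ((Frame.pow L (n + 1)).coefOf_res σ W (hW.trans hAV) e he h).symm)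
    (fun W hW e he u he' => by
      rw [pow_zero, mul_one]
      symm
      apply huniq W hW
      have e1 : cs s W e he = cs s W (u • e) he' * u ^ 1 :=
        (Frame.self L).coefHom_change s W e he u he'
      rw [e1, mul_pow, ← mul_assoc, hγ W hW (u • e) he', pow_one]
      exact ((Frame.pow L (n + 1)).coefOf_change σ W (hW.trans hAV) e he u he').symm)
  refine ⟨ofM τ, fun W hW e he => ?_⟩
  have h1 := hτ W hW e he
  have h2 : rX hW (ofM τ) = γ W hW e he := by
    have h3 : (Frame.unit L).φ W e = toM (1 : Γ(X, W)) := rfl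
    rw [h3] at h1
    have h4 : γ W hW e he • toM (1 : Γ(X, W)) = toM (γ W hW e he) :=
      mul_one (γ W hW e he)
    rw [h4] at h1
    exact h1
  rw [h2]
  exact hγ W hW e he

end Groth.Agent.Lib.GenLocAffH4
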