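import Mathlib
import Groth.Prelude
import Groth.Agent.Lib.Tens13_helper8
import Groth.Agent.Lib.GenLocAff1_helper4
import Groth.Agent.Lib.GenLocAff2_helper4

/-!
# Ratio functions: basic opens; affineness of `X_s ∩ O` (helper4)
APPEND-ONLY once landed.
-/

set_option autoImplicit false
universe u
open CategoryTheory CategoryTheory.Limits AlgebraicGeometry TopologicalSpace Opposite

namespace Groth.Agent.Lib.GenLocAffH4

open TensH8 GenLocH8 QcqsLoc FLFH8 QCohExtn

variable {X : Scheme.{u}} {L : X.Modules} (hL : PicF.IsInvertible L)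
  (s : Coh.structureModule X ⟶ L)

include hL in
theorem basicOpen_of_isRatio {V A : X.Opens} (hAV : A ≤ V) (hAs : A ≤ CohB1.genLocus L s) (n : ℕ)
    (σ : Γ(CohB1.tensorPow L (n + 1), V)) (g : Γ(X, A)) (hg : IsRatio s hAV n σ g)
    (O : X.Opens) (hO : HasLocus (Frame.pow L (n + 1)) σ O) :
    X.basicOpen g = A ⊓ O := by
  ext x
  constructor
  · intro hx
    have hxA : x ∈ A := X.basicOpen_le g hx
    obtain ⟨W, -, hxW, hWA, e, he⟩ := exists_isGen_le hL x A hxA
    refine ⟨hxA, ?_⟩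
    have h1 : x ∈ X.basicOpen (rX hWA g) := by
      rw [basicOpen_rX]
      exact ⟨hxW, hx⟩
    have h2 : x ∈ X.basicOpen (rX hWA g * cs s W e he ^ (n + 1)) := by
      rw [Scheme.basicOpen_mul,
        Scheme.basicOpen_of_isUnit X ((isUnit_cs s (hWA.trans hAs) e he).pow (n + 1))]
      exact ⟨h1, hxW⟩
    rw [hg W hWA e he, ← hO W (hWA.trans hAV) e he] at h2
    exact h2.1
  · rintro ⟨hxA, hxO⟩
    obtain ⟨W, -, hxW, hWA, e, he⟩ := exists_isGen_le hL x A hxA
    have h2 : x ∈ X.basicOpen (rX hWA g * cs s W e he ^ (n + 1)) := by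
      rw [hg W hWA e he, ← hO W (hWA.trans hAV) e he]
      exact ⟨hxO, hxW⟩
    rw [Scheme.basicOpen_mul, basicOpen_rX] at h2
    exact h2.1.2

include hL in
theorem isAffineOpen_genLocus_inf {O : X.Opens} (hO : IsAffineOpen O) :
    IsAffineOpen (CohB1.genLocus L s ⊓ O) := by
  haveI := isAffineHom_genLocus_ι hL s
  have h1 : IsAffineOpen ((CohB1.genLocus L s).ι ⁻¹ᵁ O) := hO.preimage _
  rw [← (CohB1.genLocus L s).ι.isAffineOpen_iff_of_isOpenImmersion,
    Scheme.Hom.image_preimage_eq_opensRange_inf, Scheme.Opens.opensRange_ι] at h1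
  exact h1

end Groth.Agent.Lib.GenLocAffH4
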