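import Mathlib
import Groth.Prelude
import Groth.Agent.Lib.Tens13_helper8
import Groth.Agent.Lib.GenLocAff1_helper4
import Groth.Agent.Lib.GenLocAff2_helper4
import Groth.Agent.Lib.GenLocAff3_helper4

/-!
# `X_s` is affine over the base for a universally closed morphism and a relatively ample module (helper4)
APPEND-ONLY once landed.
-/

set_option autoImplicit false
universe u
open CategoryTheory CategoryTheory.Limits AlgebraicGeometry TopologicalSpace Opposite

namespace Groth.Agent.Lib.GenLocAffH4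

open TensH8 GenLocH8 QcqsLoc FLFH8 QCohExtn

variable {X S : Scheme.{u}} {L : X.Modules} (hL : PicF.IsInvertible L)
  (s : Coh.structureModule X ⟶ L)

include hL in
theorem isCompact_genLocus_inf {V : X.Opens} (hV : IsCompact (V : Set X)) :
    IsCompact ((CohB1.genLocus L s ⊓ V : X.Opens) : Set X) := by
  haveI := isAffineHom_genLocus_ι hL s
  have h1 : IsCompact ((CohB1.genLocus L s).ι ⁻¹' (V : Set X)) :=
    QuasiCompact.isCompact_preimage (f := (CohB1.genLocus L s).ι) _ V.isOpen hV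
  have h2 := h1.image (CohB1.genLocus L s).ι.continuous
  convert h2 using 1
  ext x
  constructor
  · rintro ⟨hx1, hx2⟩
    exact ⟨⟨x, hx1⟩, hx2, rfl⟩
  · rintro ⟨y, hy, rfl⟩
    exact ⟨y.2, hy⟩

include hL in
/-- **Main theorem**: for `f` universally closed and `L` ample on `f⁻¹ V₀`, `V₀` affine, the open
`X_s ∩ f⁻¹ V₀` is affine. -/
theorem isAffineOpen_genLocus_inf_preimage (f : X ⟶ S) [UniversallyClosed f]
    (V₀ : S.Opens) (hV₀ : IsAffineOpen V₀) (hamp : IsAmpleOn L (f ⁻¹ᵁ V₀)) :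
    IsAffineOpen (CohB1.genLocus L s ⊓ f ⁻¹ᵁ V₀) := by
  set V : X.Opens := f ⁻¹ᵁ V₀ with hVdef
  set A : X.Opens := CohB1.genLocus L s ⊓ V with hAdef
  have hAV : A ≤ V := inf_le_right
  have hAs : A ≤ CohB1.genLocus L s := inf_le_left
  have hAc : IsCompact (A : Set X) := isCompact_genLocus_inf hL s hamp.1
  let G : Set Γ(X, A) := {g | ∃ (n : ℕ) (σ : Γ(CohB1.tensorPow L (n + 1), V)) (O : X.Opens),
    IsAffineOpen O ∧ O ≤ V ∧ HasLocus (Frame.pow L (n + 1)) σ O ∧ IsRatio s hAV n σ g}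
  refine isAffineOpen_of_isAffineOpen_basicOpen A G ?_ ?_
  · refine span_eq_top_of_universallyClosed f V₀ hV₀ A hAV hAc G (fun x hx => ?_)
    obtain ⟨n, σ, O, hOaff, hxO, hOV, hOloc⟩ := hamp.2 x hx
    obtain ⟨W, -, hxW, hWO, e, he⟩ := exists_isGen_le hL x O hxO
    obtain ⟨g, hg⟩ := exists_isRatio hL s hAV hAs n σ
    refine ⟨g, ⟨n, σ, O, hOaff, hOV, hOloc, hg⟩, W,
      (Frame.pow L (n + 1)).coefOf σ W (hWO.trans hOV) e he, cs s W e he ^ (n + 1), ?_, ?_⟩
    · rw [← hOloc W (hWO.trans hOV) e he]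
      exact ⟨hxO, hxW⟩
    · intro W' h1 h2
      have e1 := hg W' h2 (rF L h1 e) (he.res h1)
      have e2 : cs s W' (rF L h1 e) (he.res h1) = rX h1 (cs s W e he) :=
        (Frame.self L).coefHom_res s W e he h1
      have e3 := (Frame.pow L (n + 1)).coefOf_res σ W (hWO.trans hOV) e he h1
      rw [e2, e3] at e1
      change rX h1 _ = rX h1 _ * rX h2 g
      rw [← e1, map_pow, mul_comm]
  · rintro g ⟨n, σ, O, hOaff, hOV, hOloc, hg⟩
    rw [basicOpen_of_isRatio hL s hAV hAs n σ g hg O hOloc]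
    have : A ⊓ O = CohB1.genLocus L s ⊓ O := by
      rw [hAdef, inf_assoc, inf_eq_right.mpr hOV]
    rw [this]
    exact isAffineOpen_genLocus_inf hL s hOaff

omit hL in
theorem main9694 (f : X ⟶ S) [UniversallyClosed f]
    (hRel : RelAmple.IsRelAmple f L) (s : Coh.structureModule X ⟶ L) :
    IsAffineHom ((CohB1.genLocus L s).ι ≫ f) := by
  have hL : PicF.IsInvertible L := isInvertible_of_isRelAmple f hRel
  have hamp := ((isRelAmple_iff f hL).1 hRel).2
  refine ⟨fun U hU => ?_⟩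
  have h1 := isAffineOpen_genLocus_inf_preimage hL s f U hU (hamp ⟨U, hU⟩)
  have h2 : ((CohB1.genLocus L s).ι ≫ f) ⁻¹ᵁ U = (CohB1.genLocus L s).ι ⁻¹ᵁ (f ⁻¹ᵁ U) := rfl
  rw [h2, ← (CohB1.genLocus L s).ι.isAffineOpen_iff_of_isOpenImmersion,
    Scheme.Hom.image_preimage_eq_opensRange_inf, Scheme.Opens.opensRange_ι]
  exact h1

end Groth.Agent.Lib.GenLocAffH4
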