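import Mathlib
import Groth.Prelude
import Groth.Agent.Lib.OofD_helper6
import Groth.Agent.Lib.GenLocAff4_helper4
import Groth.Agent.Lib.FibStalkDepth_helper5
import Groth.Agent.Lib.InvTens2_helper8
import Groth.Agent.Lib.Tens11_helper8
import Groth.Agent.Lib.TensInv1_helper9
import Groth.Agent.Lib.Tens31_helper8

/-!
# Closed subsets disjoint from an ample divisor are finite over the base (helper6)

`isClosed_asFiber_of_disjoint`: `X` proper over a Noetherian ring `A`, `𝓘` an ideal with ample
inverse, `Z` closed and disjoint from `V(𝓘)`: every point of `Z` is closed in its fibre.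
`main5195`: S5195.
APPEND-ONLY once landed.
-/

set_option autoImplicit false
set_option linter.style.haveILetI false
universe u
open CategoryTheory CategoryTheory.Limits AlgebraicGeometry TopologicalSpace

namespace Groth.Agent.Lib.LefFibH6

open Groth.Agent.TensInv

section Top

/-- in a discrete subspace, specialization is equality. -/
theorem eq_of_specializes_of_isDiscrete {T : Type*} [TopologicalSpace T] {S : Set T}
    (hS : _root_.IsDiscrete S) {x y : T} (hx : x ∈ S) (hy : y ∈ S) (h : x ⤳ y) : x = y := by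
  haveI : DiscreteTopology ↥S := hS.to_subtype
  have h1 : (⟨x, hx⟩ : ↥S) ⤳ ⟨y, hy⟩ :=
    (Topology.IsInducing.subtypeVal.specializes_iff).mp h
  exact congrArg Subtype.val h1.eq

end Top

section Main

variable (A : Type u) [CommRing A] [IsNoetherianRing A] (X : Scheme.{u})
  (f : X ⟶ Spec (CommRingCat.of A)) [IsProper f]

omit [IsNoetherianRing A] in
/-- a closed subset disjoint from the support of an ample effective Cartier divisor is finite over
the base: its points are closed in their fibres. -/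
theorem isClosed_asFiber_of_disjoint (𝓘 : X.IdealSheafData) (L : X.Modules)
    (hL : ClSub.IsInverseOf L (ClSub.idealMod 𝓘)) (hamp : CohB1.IsAmple L) (Z : Set X)
    (hZ : IsClosed Z) (hZY : Disjoint Z (𝓘.support : Set X)) (z : X) (hz : z ∈ Z) :
    IsClosed ({f.asFiber z} : Set ↥(f.fiber (f.base z))) := by
  obtain ⟨ε⟩ := hL
  have hJinv : PicF.IsInvertible (ClSub.idealMod 𝓘) :=
    InvTensH8.isInvertible_of_tensor_iso (comm _ L ≪≫ ε)
  have hI : BlowUp.IsEffCartierIdeal 𝓘 := TensH8.isEffCartierIdeal_of_isInvertible_idealMod 𝓘 hJinv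
  let e : CohB1.tensorMod (ClSub.idealMod 𝓘) L ≅ Coh.structureModule X := comm _ L ≪≫ ε
  let σ : Coh.structureModule X ⟶ L := e.inv ≫ (Groth.Agent.Lib.OofD.mulData 𝓘 L).toHom
  have hσ : (CohB1.genLocus L σ : Set X) = (𝓘.support : Set X)ᶜ :=
    Groth.Agent.Lib.OofD.genLocus_sec 𝓘 hI L hamp.1 e
  -- the complement of the divisor is affine
  have hUaff : IsAffineOpen (CohB1.genLocus L σ) := by
    have h1 := Groth.Agent.Lib.GenLocAffH4.isAffineOpen_genLocus_inf_preimage hamp.1 σ f ⊤
      (isAffineOpen_top _) (by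
        have := (TensH8.isAmple_iff_isAmpleOn_top hamp.1).mp hamp
        exact this)
    have h2 : CohB1.genLocus L σ ⊓ f ⁻¹ᵁ ⊤ = CohB1.genLocus L σ := by
      ext x
      simp
    rwa [h2] at h1
  have hZU : Z ⊆ (CohB1.genLocus L σ : Set X) := by
    rw [hσ]
    exact fun x hx hx' => (Set.disjoint_left.mp hZY) hx hx'
  -- the reduced closed subscheme on `Z`
  let Zc : Closeds X := ⟨Z, hZ⟩
  let Z' : Scheme.{u} := (Scheme.IdealSheafData.vanishingIdeal Zc).subscheme
  let ι : Z' ⟶ X := (Scheme.IdealSheafData.vanishingIdeal Zc).subschemeι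
  have hrange : Set.range ι = Z := by
    rw [Scheme.IdealSheafData.range_subschemeι]
    exact Scheme.IdealSheafData.coe_support_vanishingIdeal Zc
  have hle : Set.range ι ⊆ Set.range (CohB1.genLocus L σ).ι := by
    rw [hrange, Scheme.Opens.range_ι]
    exact hZU
  let j : Z' ⟶ (CohB1.genLocus L σ : Scheme.{u}) := IsOpenImmersion.lift (CohB1.genLocus L σ).ι ι hle
  have hj : j ≫ (CohB1.genLocus L σ).ι = ι := IsOpenImmersion.lift_fac _ _ _
  haveI : IsClosedImmersion (j ≫ (CohB1.genLocus L σ).ι) := by rw [hj]; infer_instance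
  haveI : IsClosedImmersion j := IsClosedImmersion.of_comp j (CohB1.genLocus L σ).ι
  haveI : IsAffine (CohB1.genLocus L σ : Scheme.{u}) := hUaff
  haveI : IsAffine Z' := isAffine_of_isAffineHom j
  -- `Z'` is finite over the base
  let g : Z' ⟶ Spec (CommRingCat.of A) := ι ≫ f
  haveI : IsProper g := inferInstance
  haveI : IsAffineHom g := isAffineHom_of_isAffine g
  haveI : IsIntegralHom g := IsIntegralHom.iff_universallyClosed_and_isAffineHom.mpr
    ⟨inferInstance, inferInstance⟩
  haveI : IsFinite g := (IsFinite.iff_isIntegralHom_and_locallyOfFiniteType g).mpr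
    ⟨inferInstance, inferInstance⟩
  have hdisc : _root_.IsDiscrete (g ⁻¹' {f.base z}) := g.isDiscrete_preimage_singleton (f.base z)
  -- the fibre argument
  rw [← closure_subset_iff_isClosed]
  intro y hy
  have hemb := (f.fiberι (f.base z)).isEmbedding
  have hy' : f.fiberι (f.base z) y ∈ closure {z} := by
    have h1 := map_mem_closure (f.fiberι (f.base z)).continuous hy
      (t := {z}) (by
        intro a ha
        rw [Set.mem_singleton_iff] at ha
        rw [ha, Scheme.Hom.fiberι_asFiber]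
        rfl)
    exact h1
  have hyZ : f.fiberι (f.base z) y ∈ Z := (closure_minimal (Set.singleton_subset_iff.mpr hz) hZ) hy'
  have hyf : f.base (f.fiberι (f.base z) y) = f.base z := by
    have : f.fiberι (f.base z) y ∈ Set.range (f.fiberι (f.base z)) := ⟨y, rfl⟩
    rw [Scheme.Hom.range_fiberι] at this
    exact this
  obtain ⟨z₁, hz₁⟩ : z ∈ Set.range ι := by rw [hrange]; exact hz
  obtain ⟨z₂, hz₂⟩ : f.fiberι (f.base z) y ∈ Set.range ι := by rw [hrange]; exact hyZ
  have hsp : z₁ ⤳ z₂ := by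
    rw [← ι.isEmbedding.isInducing.specializes_iff, hz₁, hz₂]
    exact specializes_iff_mem_closure.mpr hy'
  have hm1 : z₁ ∈ g ⁻¹' {f.base z} := by
    show f.base (ι.base z₁) = f.base z
    rw [hz₁]
  have hm2 : z₂ ∈ g ⁻¹' {f.base z} := by
    show f.base (ι.base z₂) = f.base z
    rw [hz₂]
    exact hyf
  have heq : z₁ = z₂ := eq_of_specializes_of_isDiscrete hdisc hm1 hm2 hsp
  have h3 : f.fiberι (f.base z) y = f.fiberι (f.base z) (f.asFiber z) := by
    rw [Scheme.Hom.fiberι_asFiber, ← hz₂, ← heq, hz₁]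
  exact hemb.injective h3

theorem main5195 [X.Over (Spec (CommRingCat.of A))] [IsProper (X ↘ Spec (CommRingCat.of A))]
    (𝓘 : X.IdealSheafData) (L : X.Modules) (hL : ClSub.IsInverseOf L (ClSub.idealMod 𝓘))
    (hamp : CohB1.IsAmple L) (Z : Set X) (hZ : IsClosed Z)
    (hZY : Disjoint Z (𝓘.support : Set X)) (n : ℕ) :
    (∀ z : X, z ∈ Z → IsClosed ({((X ↘ Spec (CommRingCat.of A))).asFiber z} :
      Set ↥(((X ↘ Spec (CommRingCat.of A))).fiber (((X ↘ Spec (CommRingCat.of A))).base z)))) ∧
    (Flat (X ↘ Spec (CommRingCat.of A)) →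
      (∀ x : X, IsClosed ({((X ↘ Spec (CommRingCat.of A))).asFiber x} :
        Set ↥(((X ↘ Spec (CommRingCat.of A))).fiber (((X ↘ Spec (CommRingCat.of A))).base x))) →
        (n : ℕ∞) ≤ LocCoh.depth ↑(CInt.fiberStalk (X ↘ Spec (CommRingCat.of A)) x)
          ↑(CInt.fiberStalk (X ↘ Spec (CommRingCat.of A)) x)) →
      ∀ z : X, z ∈ Z → (n : ℕ∞) ≤ LocCoh.depth (X.presheaf.stalk z) (X.presheaf.stalk z)) := by
  have h1 : ∀ z : X, z ∈ Z → IsClosed ({((X ↘ Spec (CommRingCat.of A))).asFiber z} :
      Set ↥(((X ↘ Spec (CommRingCat.of A))).fiber (((X ↘ Spec (CommRingCat.of A))).base z))) :=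
    fun z hz => isClosed_asFiber_of_disjoint A X (X ↘ Spec (CommRingCat.of A)) 𝓘 L hL hamp Z hZ
      hZY z hz
  refine ⟨h1, fun hflat hdepth z hz => ?_⟩
  haveI := hflat
  haveI : IsLocallyNoetherian X :=
    LocallyOfFiniteType.isLocallyNoetherian (X ↘ Spec (CommRingCat.of A))
  rw [Groth.Agent.FibStalkDepth.depth_stalk_eq_add (X ↘ Spec (CommRingCat.of A)) z]
  exact (hdepth z (h1 z hz)).trans le_add_self

end Main

end Groth.Agent.Lib.LefFibH6
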