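import Mathlib
import Groth.Prelude
import Groth.Agent.Lib.LefFib_helper6

/-!
# Closed subsets disjoint from an ample divisor, over a field (helper6)

`isClosed_singleton_of_disjoint`: `X` proper over a field, `𝓘` an ideal with ample inverse, `Z`
closed and disjoint from `V(𝓘)`: every point of `Z` is a closed point of `X`.
APPEND-ONLY once landed.
-/

set_option autoImplicit false
set_option linter.style.haveILetI false
universe u
open CategoryTheory CategoryTheory.Limits AlgebraicGeometry TopologicalSpace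

namespace Groth.Agent.Lib.LefAmpH6

open Groth.Agent.TensInv Groth.Agent.Lib.LefFibH6

variable (k : Type u) [Field k] (X : Scheme.{u})
  (f : X ⟶ Spec (CommRingCat.of k)) [IsProper f]

include f in
/-- a closed subset of a proper `k`-scheme disjoint from an ample divisor consists of closed
points. -/
theorem isClosed_singleton_of_disjoint (𝓘 : X.IdealSheafData) (L : X.Modules)
    (hL : ClSub.IsInverseOf L (ClSub.idealMod 𝓘)) (hamp : CohB1.IsAmple L) (Z : Set X)
    (hZ : IsClosed Z) (hZY : Disjoint Z (𝓘.support : Set X)) (z : X) (hz : z ∈ Z) :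
    IsClosed ({z} : Set X) := by
  obtain ⟨ε⟩ := hL
  have hJinv : PicF.IsInvertible (ClSub.idealMod 𝓘) :=
    InvTensH8.isInvertible_of_tensor_iso (comm _ L ≪≫ ε)
  have hI : BlowUp.IsEffCartierIdeal 𝓘 := TensH8.isEffCartierIdeal_of_isInvertible_idealMod 𝓘 hJinv
  let e : CohB1.tensorMod (ClSub.idealMod 𝓘) L ≅ Coh.structureModule X := comm _ L ≪≫ ε
  let σ : Coh.structureModule X ⟶ L := e.inv ≫ (Groth.Agent.Lib.OofD.mulData 𝓘 L).toHom
  have hσ : (CohB1.genLocus L σ : Set X) = (𝓘.support : Set X)ᶜ :=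
    Groth.Agent.Lib.OofD.genLocus_sec 𝓘 hI L hamp.1 e
  have hUaff : IsAffineOpen (CohB1.genLocus L σ) := by
    have h1 := Groth.Agent.Lib.GenLocAffH4.isAffineOpen_genLocus_inf_preimage hamp.1 σ f ⊤
      (isAffineOpen_top _) (by
        have := (TensH8.isAmple_iff_isAmpleOn_top hamp.1).mp hamp
        exact this)
    have h2 : CohB1.genLocus L σ ⊓ f ⁻¹ᵁ ⊤ = CohB1.genLocus L σ := by
      ext x
      simp
    rwa [h2] at h1
  have hZU : Z ⊆ (CohB1.genLocus L σ : Set X) := by
    rw [hσ]
    exact fun x hx hx' => (Set.disjoint_left.mp hZY) hx hx'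
  let Zc : Closeds X := ⟨Z, hZ⟩
  let Z' : Scheme.{u} := (Scheme.IdealSheafData.vanishingIdeal Zc).subscheme
  let ι : Z' ⟶ X := (Scheme.IdealSheafData.vanishingIdeal Zc).subschemeι
  have hrange : Set.range ι = Z := by
    rw [Scheme.IdealSheafData.range_subschemeι]
    exact Scheme.IdealSheafData.coe_support_vanishingIdeal Zc
  have hle : Set.range ι ⊆ Set.range (CohB1.genLocus L σ).ι := by
    rw [hrange, Scheme.Opens.range_ι]
    exact hZU
  let j : Z' ⟶ (CohB1.genLocus L σ : Scheme.{u}) := IsOpenImmersion.lift (CohB1.genLocus L σ).ι ι hle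
  have hj : j ≫ (CohB1.genLocus L σ).ι = ι := IsOpenImmersion.lift_fac _ _ _
  haveI : IsClosedImmersion (j ≫ (CohB1.genLocus L σ).ι) := by rw [hj]; infer_instance
  haveI : IsClosedImmersion j := IsClosedImmersion.of_comp j (CohB1.genLocus L σ).ι
  haveI : IsAffine (CohB1.genLocus L σ : Scheme.{u}) := hUaff
  haveI : IsAffine Z' := isAffine_of_isAffineHom j
  let g : Z' ⟶ Spec (CommRingCat.of k) := ι ≫ f
  haveI : IsProper g := inferInstance
  haveI : IsAffineHom g := isAffineHom_of_isAffine g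
  haveI : IsIntegralHom g := IsIntegralHom.iff_universallyClosed_and_isAffineHom.mpr
    ⟨inferInstance, inferInstance⟩
  haveI : IsFinite g := (IsFinite.iff_isIntegralHom_and_locallyOfFiniteType g).mpr
    ⟨inferInstance, inferInstance⟩
  have hdisc : _root_.IsDiscrete (g ⁻¹' {f.base z}) := g.isDiscrete_preimage_singleton (f.base z)
  haveI : Subsingleton ↥(Spec (CommRingCat.of k)) :=
    inferInstanceAs (Subsingleton (PrimeSpectrum k))
  rw [← closure_subset_iff_isClosed]
  intro y hy
  have hyZ : y ∈ Z := (closure_minimal (Set.singleton_subset_iff.mpr hz) hZ) hy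
  obtain ⟨z₁, hz₁⟩ : z ∈ Set.range ι := by rw [hrange]; exact hz
  obtain ⟨z₂, hz₂⟩ : y ∈ Set.range ι := by rw [hrange]; exact hyZ
  have hsp : z₁ ⤳ z₂ := by
    rw [← ι.isEmbedding.isInducing.specializes_iff, hz₁, hz₂]
    exact specializes_iff_mem_closure.mpr hy
  have hm1 : z₁ ∈ g ⁻¹' {f.base z} := Subsingleton.elim _ _
  have hm2 : z₂ ∈ g ⁻¹' {f.base z} := Subsingleton.elim _ _
  have heq : z₁ = z₂ := eq_of_specializes_of_isDiscrete hdisc hm1 hm2 hsp
  rw [Set.mem_singleton_iff, ← hz₂, ← heq, hz₁]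

end Groth.Agent.Lib.LefAmpH6
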