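import Mathlib
import Groth.Prelude.Def_Lef
import Groth.Agent.Lib.SchemeIdem_helper3

/-! The Lefschetz condition and connectedness (helper5).
APPEND-ONLY once landed. -/

set_option autoImplicit false
universe u
open CategoryTheory CategoryTheory.Limits AlgebraicGeometry TopologicalSpace Opposite

namespace Groth.Agent.Lib.LefConn

open Groth.Agent.Lib.SchemeIdemH3

variable {X : Scheme.{u}}

/-- View a global function as a global section of the structure module. -/
def toM (e : Γ(X, ⊤)) : (Coh.structureModule X).val.obj (op ⊤) := e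

/-- View a global function of the closed subscheme as a global section of `O_X / I`. -/
def toQ (I : X.IdealSheafData) (s : Γ(I.subscheme, ⊤)) : (ClSub.quotMod I).val.obj (op ⊤) := s

/-- Evaluate a morphism `O_X ⟶ M` at the global section `1`. -/
noncomputable def ev {M : X.Modules} (f : Coh.structureModule X ⟶ M) : M.val.obj (op ⊤) :=
  (SheafOfModules.unitHomEquiv M f).val (op ⊤)

theorem hom_ext_ev {M : X.Modules} (f g : Coh.structureModule X ⟶ M) (h : ev f = ev g) :
    f = g := by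
  apply (SheafOfModules.unitHomEquiv M).injective
  ext U
  have h1 := PresheafOfModules.sections_property (SheafOfModules.unitHomEquiv M f)
    (homOfLE (le_top : U.unop ≤ ⊤)).op
  have h2 := PresheafOfModules.sections_property (SheafOfModules.unitHomEquiv M g)
    (homOfLE (le_top : U.unop ≤ ⊤)).op
  rw [← h1, ← h2]
  exact congrArg _ h

/-- The morphism `O_X ⟶ M` attached to a global section of `M`. -/
noncomputable def secHom (M : X.Modules) (m : M.val.obj (op ⊤)) : Coh.structureModule X ⟶ M :=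
  (SheafOfModules.unitHomEquiv M).symm
    (PresheafOfModules.sectionsMk (fun U => M.val.map (homOfLE (le_top : U.unop ≤ ⊤)).op m) (by
      intro U V f
      rw [← PresheafOfModules.map_comp_apply]
      rfl))

theorem ev_secHom (M : X.Modules) (m : M.val.obj (op ⊤)) : ev (secHom M m) = m := by
  unfold ev secHom
  rw [Equiv.apply_symm_apply]
  show M.val.map (𝟙 _) m = m
  simp

theorem ev_comp {M N : X.Modules} (f : Coh.structureModule X ⟶ M) (p : M ⟶ N) :
    ev (f ≫ p) = p.val.app (op ⊤) (ev f) := rfl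

theorem toSubscheme_app (I : X.IdealSheafData) (e : Γ(X, ⊤)) :
    (ClSub.toSubscheme I).val.app (op ⊤) (toM e) = toQ I (I.subschemeι.appTop.hom e) := rfl

theorem map_eqToHom_top {Z : Scheme.{u}} (h : (⊤ : Z.Opens) = ⊤) (x : Γ(Z, ⊤)) :
    (Z.presheaf.map (eqToHom h).op).hom x = x := by
  simp

theorem quotMap_app {I J : X.IdealSheafData} (h : I ≤ J) (s : Γ(I.subscheme, ⊤)) :
    (Lef.quotMap h).val.app (op ⊤) (toQ I s) =
      toQ J ((Scheme.IdealSheafData.inclusion h).appTop.hom s) := by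
  unfold Lef.quotMap
  have key : ∀ (hh : (⊤ : J.subscheme.Opens) = ⊤) (x : Γ(J.subscheme, ⊤)),
      (J.subscheme.presheaf.map (eqToHom hh).op).hom x = x := fun hh x => map_eqToHom_top hh x
  exact key rfl ((Scheme.IdealSheafData.inclusion h).appTop.hom s)

theorem isFinLocFree_structureModule (W : Scheme.{u}) :
    FlatMod.IsFinLocFree (Coh.structureModule W) := by
  intro x
  exact ⟨⊤, 1, trivial,
    ⟨Scheme.Modules.restrictUnitIso _ ≪≫
      (coproductUniqueIso (fun _ : Fin 1 => Coh.structureModule _)).symm⟩⟩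

section Core

variable {W : Scheme.{u}} (𝓙 : W.IdealSheafData)

/-- Injectivity of `Γ(W, O) → lim Γ(Y_n, O)`. -/
theorem inj (h : Lef.HomToFormalBijective 𝓙 (Coh.structureModule W)) (e e' : Γ(W, ⊤))
    (H : ∀ n : ℕ, (𝓙 ^ (n + 1)).subschemeι.appTop.hom e =
      (𝓙 ^ (n + 1)).subschemeι.appTop.hom e') : e = e' := by
  have h1 := h.1 (secHom _ (toM e)) (secHom _ (toM e')) (fun n => hom_ext_ev _ _ (by
    rw [ev_comp, ev_comp, ev_secHom, ev_secHom, toSubscheme_app, toSubscheme_app, H n]))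
  have h2 := congrArg ev h1
  rw [ev_secHom, ev_secHom] at h2
  exact h2

/-- Surjectivity of `Γ(W, O) → lim Γ(Y_n, O)`. -/
theorem surj (h : Lef.HomToFormalBijective 𝓙 (Coh.structureModule W))
    (s : ∀ n : ℕ, Γ((𝓙 ^ (n + 1)).subscheme, ⊤))
    (hs : ∀ n : ℕ, (Scheme.IdealSheafData.inclusion (Lef.pow_succ_le 𝓙 n)).appTop.hom (s (n + 1)) =
      s n) :
    ∃ e : Γ(W, ⊤), ∀ n : ℕ, (𝓙 ^ (n + 1)).subschemeι.appTop.hom e = s n := by
  obtain ⟨φ, hφ⟩ := h.2 (fun n => secHom _ (toQ _ (s n))) (fun n => hom_ext_ev _ _ (by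
    rw [ev_comp, ev_secHom, ev_secHom]
    exact (quotMap_app (Lef.pow_succ_le 𝓙 n) (s (n + 1))).trans (congrArg _ (hs n))))
  refine ⟨ev φ, fun n => ?_⟩
  have h1 := congrArg ev (hφ n)
  rw [ev_comp, ev_secHom] at h1
  exact h1

end Core

section Idem

variable (Z : Scheme.{u})

/-- All idempotent global functions are trivial. -/
def TrivIdem : Prop := ∀ e : Γ(Z, ⊤), IsIdempotentElem e → e = 0 ∨ e = 1

theorem trivIdem_of_connected [ConnectedSpace ↥Z] : TrivIdem Z := by
  intro e he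
  rcases isClopen_iff.mp (isClopen_basicOpen Z he) with h | h
  · left
    refine eq_of_basicOpen_eq Z he IsIdempotentElem.zero ?_
    rw [Scheme.basicOpen_zero]
    exact Opens.ext h
  · right
    refine eq_of_basicOpen_eq Z he IsIdempotentElem.one ?_
    rw [Scheme.basicOpen_one]
    exact Opens.ext h

theorem connected_of_trivIdem [Nonempty ↥Z] (h : TrivIdem Z) : ConnectedSpace ↥Z := by
  rw [connectedSpace_iff_clopen]
  refine ⟨inferInstance, fun s hs => ?_⟩
  obtain ⟨e, he, hes⟩ := exists_idem_of_isClopen Z s hs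
  rcases h e he with rfl | rfl
  · left
    rw [← hes, Scheme.basicOpen_zero]
    rfl
  · right
    rw [← hes, Scheme.basicOpen_one]
    rfl

theorem isEmpty_of_one_eq_zero (h : (1 : Γ(Z, ⊤)) = 0) : IsEmpty ↥Z := by
  have h1 : (⊤ : Z.Opens) = ⊥ := by
    rw [← Scheme.basicOpen_one (X := Z) (U := ⊤), h, Scheme.basicOpen_zero]
  refine ⟨fun z => ?_⟩
  have : z ∈ (⊤ : Z.Opens) := trivial
  rw [h1] at this
  exact this

end Idem

section Main

variable {W : Scheme.{u}} (𝓙 : W.IdealSheafData)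

theorem range_ι (n : ℕ) : Set.range (𝓙 ^ (n + 1)).subschemeι = (𝓙.support : Set W) := by
  rw [Scheme.IdealSheafData.range_subschemeι, Scheme.IdealSheafData.support_pow_succ]

theorem exists_level_zero (n : ℕ) (x : ↥(𝓙 ^ (n + 1)).subscheme) :
    ∃ x0 : ↥(𝓙 ^ (0 + 1)).subscheme, (𝓙 ^ (0 + 1)).subschemeι x0 = (𝓙 ^ (n + 1)).subschemeι x := by
  have h1 : (𝓙 ^ (n + 1)).subschemeι x ∈ Set.range (𝓙 ^ (0 + 1)).subschemeι := by
    rw [range_ι, ← range_ι 𝓙 n]
    exact Set.mem_range_self x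
  exact h1

/-- If an idempotent of `W` restricts to zero on `Y_0`, it restricts to zero on every `Y_n`. -/
theorem res_eq_zero_of_level_zero (e : Γ(W, ⊤)) (he : IsIdempotentElem e)
    (h0 : (𝓙 ^ (0 + 1)).subschemeι.appTop.hom e = 0) (n : ℕ) :
    (𝓙 ^ (n + 1)).subschemeι.appTop.hom e = 0 := by
  refine eq_of_basicOpen_eq _ (he.map _) IsIdempotentElem.zero ?_
  rw [Scheme.basicOpen_zero]
  refine Opens.ext (Set.eq_empty_of_forall_notMem fun x hx => ?_)
  have hx' : x ∈ (𝓙 ^ (n + 1)).subschemeι ⁻¹ᵁ W.basicOpen e := by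
    rw [Scheme.preimage_basicOpen_top]
    exact hx
  obtain ⟨x0, hx0⟩ := exists_level_zero 𝓙 n x
  have h1 : x0 ∈ (𝓙 ^ (0 + 1)).subschemeι ⁻¹ᵁ W.basicOpen e := by
    show (𝓙 ^ (0 + 1)).subschemeι x0 ∈ W.basicOpen e
    rw [hx0]
    exact hx'
  rw [Scheme.preimage_basicOpen_top] at h1
  have h2 : (𝓙 ^ (0 + 1)).subscheme.basicOpen ((𝓙 ^ (0 + 1)).subschemeι.appTop e) = ⊥ := by
    have : (𝓙 ^ (0 + 1)).subschemeι.appTop e = 0 := h0
    rw [this, Scheme.basicOpen_zero]
  rw [h2] at h1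
  exact h1

/-- Idempotents on `Y_0` lift to compatible families of idempotents on the `Y_n`. -/
theorem exists_compatible_idem (e0 : Γ((𝓙 ^ (0 + 1)).subscheme, ⊤)) (he0 : IsIdempotentElem e0) :
    ∃ s : ∀ n : ℕ, Γ((𝓙 ^ (n + 1)).subscheme, ⊤), (∀ n, IsIdempotentElem (s n)) ∧ s 0 = e0 ∧
      ∀ n : ℕ, (Scheme.IdealSheafData.inclusion (Lef.pow_succ_le 𝓙 n)).appTop.hom (s (n + 1)) =
        s n := by
  -- the clopen subset of `Y_0` and its image in `W`
  obtain ⟨C0, hC0⟩ : ∃ C0 : Set ↥(𝓙 ^ (0 + 1)).subscheme,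
      C0 = ((𝓙 ^ (0 + 1)).subscheme.basicOpen e0 : Set _) := ⟨_, rfl⟩
  have hC0cl : IsClopen C0 := hC0 ▸ isClopen_basicOpen _ he0
  have hemb0 := (𝓙 ^ (0 + 1)).subschemeι.isClosedEmbedding
  obtain ⟨O, hO, hOC⟩ := hemb0.isInducing.isOpen_iff.mp hC0cl.isOpen
  have hF : IsClosed ((𝓙 ^ (0 + 1)).subschemeι '' C0) := hemb0.isClosedMap _ hC0cl.isClosed
  -- the clopen subsets of the `Y_n`
  have hclopen : ∀ n : ℕ, IsClopen ((𝓙 ^ (n + 1)).subschemeι ⁻¹' ((𝓙 ^ (0 + 1)).subschemeι '' C0)) := by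
    intro n
    refine ⟨hF.preimage (𝓙 ^ (n + 1)).subschemeι.continuous, ?_⟩
    have : (𝓙 ^ (n + 1)).subschemeι ⁻¹' ((𝓙 ^ (0 + 1)).subschemeι '' C0) =
        (𝓙 ^ (n + 1)).subschemeι ⁻¹' O := by
      ext x
      constructor
      · rintro ⟨x0, hx0, hx0x⟩
        show (𝓙 ^ (n + 1)).subschemeι x ∈ O
        rw [← hx0x]
        have : x0 ∈ (𝓙 ^ (0 + 1)).subschemeι ⁻¹' O := by rw [hOC]; exact hx0
        exact this
      · intro hx
        obtain ⟨x0, hx0⟩ := exists_level_zero 𝓙 n x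
        refine ⟨x0, ?_, hx0⟩
        rw [← hOC]
        show (𝓙 ^ (0 + 1)).subschemeι x0 ∈ O
        rw [hx0]
        exact hx
    rw [this]
    exact hO.preimage (𝓙 ^ (n + 1)).subschemeι.continuous
  choose s hs1 hs2 using fun n => exists_idem_of_isClopen _ _ (hclopen n)
  refine ⟨s, hs1, ?_, fun n => ?_⟩
  · refine eq_of_basicOpen_eq _ (hs1 0) he0 (Opens.ext ?_)
    rw [hs2 0, ← hC0]
    exact Set.preimage_image_eq _ hemb0.injective
  · refine eq_of_basicOpen_eq _ ((hs1 (n + 1)).map _) (hs1 n) (Opens.ext ?_)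
    have h1 := Scheme.preimage_basicOpen_top
      (Scheme.IdealSheafData.inclusion (Lef.pow_succ_le 𝓙 n)) (s (n + 1))
    have h2 : ((Scheme.IdealSheafData.inclusion (Lef.pow_succ_le 𝓙 n)) ⁻¹ᵁ
        (𝓙 ^ (n + 1 + 1)).subscheme.basicOpen (s (n + 1)) : Set _) =
        (𝓙 ^ (n + 1)).subschemeι ⁻¹' ((𝓙 ^ (0 + 1)).subschemeι '' C0) := by
      show (Scheme.IdealSheafData.inclusion (Lef.pow_succ_le 𝓙 n)) ⁻¹'
        ((𝓙 ^ (n + 1 + 1)).subscheme.basicOpen (s (n + 1)) : Set _) = _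
      rw [hs2 (n + 1)]
      ext x
      show (𝓙 ^ (n + 1 + 1)).subschemeι
        ((Scheme.IdealSheafData.inclusion (Lef.pow_succ_le 𝓙 n)) x) ∈
          ((𝓙 ^ (0 + 1)).subschemeι '' C0) ↔
          (𝓙 ^ (n + 1)).subschemeι x ∈ ((𝓙 ^ (0 + 1)).subschemeι '' C0)
      rw [← Scheme.Hom.comp_apply, Scheme.IdealSheafData.inclusion_subschemeι]
    rw [hs2 n, ← h2, h1]

theorem main (h : Lef.HomToFormalBijective 𝓙 (Coh.structureModule W)) :
    ConnectedSpace ↥(𝓙 ^ (0 + 1)).subscheme ↔ ConnectedSpace ↥W := by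
  constructor
  · intro hY
    haveI : Nonempty ↥W := ⟨(𝓙 ^ (0 + 1)).subschemeι hY.toNonempty.some⟩
    refine connected_of_trivIdem W fun e he => ?_
    have key : ∀ e : Γ(W, ⊤), IsIdempotentElem e →
        (𝓙 ^ (0 + 1)).subschemeι.appTop.hom e = 0 → e = 0 := by
      intro e he h0
      refine inj 𝓙 h e 0 fun n => ?_
      rw [res_eq_zero_of_level_zero 𝓙 e he h0 n, map_zero]
    rcases trivIdem_of_connected _ _ (he.map (𝓙 ^ (0 + 1)).subschemeι.appTop.hom) with h0 | h1
    · exact Or.inl (key e he h0)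
    · right
      have h2 := key (1 - e) he.one_sub (by rw [map_sub, map_one, h1, sub_self])
      exact (sub_eq_zero.mp h2).symm
  · intro hW
    haveI : Nonempty ↥(𝓙 ^ (0 + 1)).subscheme := by
      by_contra hne
      rw [not_nonempty_iff] at hne
      have hemp : ∀ n : ℕ, IsEmpty ↥(𝓙 ^ (n + 1)).subscheme := fun n =>
        ⟨fun x => hne.elim (exists_level_zero 𝓙 n x).choose⟩
      have h10 : (1 : Γ(W, ⊤)) = 0 := by
        refine inj 𝓙 h 1 0 fun n => ?_
        haveI := hemp n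
        haveI : Subsingleton Γ((𝓙 ^ (n + 1)).subscheme, ⊤) := by
          have h1 : ((⊤ : (𝓙 ^ (n + 1)).subscheme.Opens) : Set ↥(𝓙 ^ (n + 1)).subscheme) = ∅ :=
            Set.eq_empty_of_isEmpty _
          have h2 : (⊤ : (𝓙 ^ (n + 1)).subscheme.Opens) = ⊥ := Opens.ext h1
          rw [h2]
          exact CommRingCat.subsingleton_of_isTerminal
            ((𝓙 ^ (n + 1)).subscheme.sheaf.isTerminalOfEmpty)
        exact Subsingleton.elim _ _
      exact (isEmpty_of_one_eq_zero W h10).elim hW.toNonempty.some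
    refine connected_of_trivIdem _ fun e0 he0 => ?_
    obtain ⟨s, hs1, hs0, hs2⟩ := exists_compatible_idem 𝓙 e0 he0
    obtain ⟨e, he⟩ := surj 𝓙 h s hs2
    have hidem : IsIdempotentElem e := by
      refine inj 𝓙 h (e * e) e fun n => ?_
      rw [map_mul, he n, (hs1 n).eq]
    rcases trivIdem_of_connected W e hidem with h0 | h1
    · left
      rw [← hs0, ← he 0, h0, map_zero]
    · right
      rw [← hs0, ← he 0, h1, map_one]

end Main

theorem connectedSpace_iff_of_embedding {A B : Type*} [TopologicalSpace A] [TopologicalSpace B]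
    (g : A → B) (hg : Topology.IsEmbedding g) (T : Set B) (hT : Set.range g = T) :
    ConnectedSpace A ↔ ConnectedSpace ↥T := by
  let e : A ≃ₜ ↥T := hg.toHomeomorph.trans (Homeomorph.setCongr hT)
  exact ⟨fun _ => e.surjective.connectedSpace e.continuous,
    fun _ => e.symm.surjective.connectedSpace e.symm.continuous⟩

theorem main2946 (X : Scheme.{u}) (𝓘 : X.IdealSheafData) (h : Lef.LefCond X 𝓘)
    (U : X.Opens) (hU : (𝓘.support : Set X) ⊆ (U : Set X)) :
    ConnectedSpace (𝓘.support : Set X) ↔ ConnectedSpace U := by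
  have hmain := main (𝓘.comap U.ι) (h U hU _ (isFinLocFree_structureModule _))
  have hrange : Set.range (((𝓘.comap U.ι) ^ (0 + 1)).subschemeι ≫ U.ι) = (𝓘.support : Set X) := by
    rw [Scheme.Hom.comp_base, TopCat.coe_comp, Set.range_comp, range_ι,
      Scheme.IdealSheafData.support_comap]
    show U.ι '' (U.ι ⁻¹' (𝓘.support : Set X)) = _
    rw [Set.image_preimage_eq_inter_range, Scheme.Opens.range_ι]
    exact Set.inter_eq_left.mpr hU
  have h1 := connectedSpace_iff_of_embedding _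
    (Scheme.Hom.isEmbedding (((𝓘.comap U.ι) ^ (0 + 1)).subschemeι ≫ U.ι)) _ hrange
  rw [← h1]
  exact hmain

end Groth.Agent.Lib.LefConn
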