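import Mathlib
import Groth.Prelude
import Groth.Agent.Lib.DualLF5_helper4
import Groth.Agent.Lib.ShHomStalk_helper4
import Groth.Agent.Lib.ExtShCoh1_helper2
import Groth.Agent.Lib.ESZ5_helper6
import Groth.Agent.Lib.LefConn1_helper5
import Groth.Agent.Lib.SheafHomLF2_helper9
import Groth.Agent.Lib.HomShAdj1_helper2
import Groth.Agent.Lib.KerFree1_helper8

/-!
# Maps out of a finite locally free module into the thickenings of an ample divisor (helper6)

`exists_bijective_comp_toSubscheme`: `X` proper over a field with `depth O_{X,x} ≥ 2` at closed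
points, `𝓘` an ideal with ample inverse, `P` finite locally free:
`Hom(P, O_X) → Hom(P, O_X/𝓘^(n+1))` is bijective for `n ≫ 0`.
APPEND-ONLY once landed.
-/

set_option autoImplicit false
set_option linter.style.haveILetI false
universe u
open CategoryTheory CategoryTheory.Limits AlgebraicGeometry TopologicalSpace Opposite

namespace Groth.Agent.Lib.LefAmpH6

open CohB1 Groth.Agent.TensInv Groth.Agent.HHVan Groth.Agent.Lib.ESZH6

section HomH0

variable {X : Scheme.{u}}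

/-- `Hom(O_X, M) ≃ Γ(X, M)`. -/
noncomputable def evEquiv (M : X.Modules) : (Coh.structureModule X ⟶ M) ≃ Γ(M, ⊤) where
  toFun f := Groth.Agent.Lib.LefConn.ev f
  invFun m := Groth.Agent.Lib.LefConn.secHom M m
  left_inv _ := Groth.Agent.Lib.LefConn.hom_ext_ev _ _ (Groth.Agent.Lib.LefConn.ev_secHom M _)
  right_inv m := Groth.Agent.Lib.LefConn.ev_secHom M m

/-- `Hom(P, N) ≃ H^0(X, 𝓗om(P, N))`. -/
noncomputable def homToH0 (P N : X.Modules) [DCoh.HasSheafHom P] :
    (P ⟶ N) ≃ Coh.HH X ((DCoh.sheafHom P).obj N) 0 :=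
  (SheafHomLFH9.tauEquiv P N).toEquiv.trans
    ((evEquiv ((DCoh.sheafHom P).obj N)).trans (h0 ((DCoh.sheafHom P).obj N)).symm.toEquiv)

theorem homToH0_comp (P : X.Modules) [DCoh.HasSheafHom P] {N N' : X.Modules} (a : P ⟶ N)
    (φ : N ⟶ N') :
    homToH0 P N' (a ≫ φ) = hmap ((DCoh.sheafHom P).map φ) 0 (homToH0 P N a) := by
  apply (h0 ((DCoh.sheafHom P).obj N')).injective
  rw [h0_hmap]
  show h0 _ ((h0 _).symm (Groth.Agent.Lib.LefConn.ev (SheafHomLFH9.tauEquiv P N' (a ≫ φ)))) =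
    ((DCoh.sheafHom P).map φ).app ⊤ (h0 _ ((h0 _).symm
      (Groth.Agent.Lib.LefConn.ev (SheafHomLFH9.tauEquiv P N a))))
  rw [AddEquiv.apply_symm_apply, AddEquiv.apply_symm_apply, SheafHomLFH9.tauEquiv_comp,
    Groth.Agent.Lib.LefConn.ev_comp]
  rfl

end HomH0

section Global

variable (k : Type u) [Field k] (X : Scheme.{u}) [X.Over (Spec (CommRingCat.of k))]
  [IsProper (X ↘ Spec (CommRingCat.of k))]

include k in
/-- `Hom(P, O_X) → Hom(P, O_X/𝓘^(n+1))` is bijective for `n ≫ 0`. -/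
theorem exists_bijective_comp_toSubscheme (𝓘 : X.IdealSheafData) (L : X.Modules)
    (hL : ClSub.IsInverseOf L (ClSub.idealMod 𝓘)) (hamp : CohB1.IsAmple L)
    (hdepth : ∀ x : X, IsClosed ({x} : Set X) →
      (2 : ℕ∞) ≤ LocCoh.depth (X.presheaf.stalk x) (X.presheaf.stalk x))
    (P : X.Modules) (hP : FlatMod.IsFinLocFree P) :
    ∃ n₀ : ℕ, ∀ n : ℕ, n₀ ≤ n → Function.Bijective
      (fun φ : P ⟶ Coh.structureModule X => φ ≫ ClSub.toSubscheme (𝓘 ^ (n + 1))) := by
  haveI : IsLocallyNoetherian X :=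
    LocallyOfFiniteType.isLocallyNoetherian (X ↘ Spec (CommRingCat.of k))
  have hJinv : PicF.IsInvertible (ClSub.idealMod 𝓘) := by
    obtain ⟨ε⟩ := hL
    exact InvTensH8.isInvertible_of_tensor_iso (comm _ L ≪≫ ε)
  have hI : BlowUp.IsEffCartierIdeal 𝓘 := TensH8.isEffCartierIdeal_of_isInvertible_idealMod 𝓘 hJinv
  have hO : Coh.IsCoh (Coh.structureModule X) := CohDevH8.isCoh_structureModule X
  have hPc : Coh.IsCoh P := KerFreeH8.isCoh_of_finLocFree hP
  haveI : DCoh.HasSheafHom P := (Groth.Agent.Lib.HomShAdjH2.tensorHomAdj P).isLeftAdjoint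
  haveI : ModSite.HasSheafHom (O := X.sheaf) P := Groth.Agent.Lib.ModSiteH8.hasSheafHom _ _
  -- the dual of `P`
  let F : X.Modules := Groth.Agent.Lib.DualLFH4.dual X.sheaf P
  have hFc : Coh.IsCoh F := Groth.Agent.Lib.ExtShCohH2.isCoh_sheafHom P _ hPc hO
  let eF : (DCoh.sheafHom P).obj (Coh.structureModule X) ≅ F :=
    (SheafHomLFH9.dcohIso P).app (Coh.structureModule X)
  have hFdepth : ∀ x : X, IsClosed ({x} : Set X) →
      ((1 : ℕ) : ℕ∞) < LocCoh.depth (X.presheaf.stalk x) (F.presheaf.stalk x) := by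
    intro x hx
    have h1 : LocCoh.depth (X.presheaf.stalk x) (X.presheaf.stalk x) =
        LocCoh.depth (X.presheaf.stalk x) ((Coh.structureModule X).presheaf.stalk x) :=
      Groth.Agent.DepthLib.idealDepth_congr _ _ (CycLenH8.stalkStructureEquiv x)
    have h2 := (Groth.Agent.Lib.ShHomStalkH4.depth_sheafHom P (Coh.structureModule X) hPc hO x).2
      (by rw [← h1]; exact hdepth x hx)
    have h3 : LocCoh.depth (X.presheaf.stalk x)
        (((DCoh.sheafHom P).obj (Coh.structureModule X)).presheaf.stalk x) =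
        LocCoh.depth (X.presheaf.stalk x) (F.presheaf.stalk x) :=
      Groth.Agent.DepthLib.idealDepth_congr _ _ (Groth.Agent.Lib.ShHomStalkH4.stalkEquiv eF x)
    rw [← h3]
    refine lt_of_lt_of_le ?_ h2
    norm_num
  obtain ⟨m₀, hvan⟩ := main7680gen k X L hamp (ClSub.idealMod 𝓘) hL F hFc 1 hFdepth
  refine ⟨m₀, fun n hn => ?_⟩
  obtain ⟨e₁⟩ := nonempty_tensorPow_idealMod_iso 𝓘 hI (n + 1) (Nat.succ_le_succ (Nat.zero_le n))
  -- `𝓗om(P, 𝓘^(n+1)) ≅ P^∨ ⊗ 𝓘^{⊗(n+1)}`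
  let eK : (DCoh.sheafHom P).obj (ClSub.idealMod (𝓘 ^ (n + 1))) ≅
      tensorMod F (tensorPow (ClSub.idealMod 𝓘) (n + 1)) :=
    (SheafHomLFH9.dcohIso P).app _ ≪≫
      ((Groth.Agent.Lib.DualLFH4.sheafHomDualIso P hP).symm.app (ClSub.idealMod (𝓘 ^ (n + 1)))) ≪≫
      mapR e₁.symm F ≪≫ comm _ _
  have hv : ∀ i : ℕ, i ≤ 1 →
      Subsingleton (Coh.HH X ((DCoh.sheafHom P).obj (ClSub.idealMod (𝓘 ^ (n + 1)))) i) :=
    fun i hi => subsingleton_of_iso eK.symm i (hvan (n + 1) (le_trans hn (Nat.le_succ n)) i hi)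
  haveI := SheafHomLFH9.dcoh_preservesFiniteColimits P hP
  have hS := (Groth.Agent.HypSurf.ses_shortExact (𝓘 ^ (n + 1))).map_of_exact (DCoh.sheafHom P)
  have hinj : Function.Injective
      (hmap ((DCoh.sheafHom P).map (ClSub.toSubscheme (𝓘 ^ (n + 1)))) 0) :=
    hmap_injective_of_vanish _ hS 0 (hv 0 (Nat.zero_le 1))
  have hsurj : Function.Surjective
      (hmap ((DCoh.sheafHom P).map (ClSub.toSubscheme (𝓘 ^ (n + 1)))) 0) :=
    hmap_surjective_of_succ _ hS 0 (hv 1 le_rfl)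
  constructor
  · intro a b hab
    have h1 := congrArg (homToH0 P _) hab
    rw [homToH0_comp, homToH0_comp] at h1
    exact (homToH0 P _).injective (hinj h1)
  · intro c
    obtain ⟨y, hy⟩ := hsurj (homToH0 P _ c)
    refine ⟨(homToH0 P _).symm y, ?_⟩
    apply (homToH0 P _).injective
    show homToH0 P _ ((homToH0 P _).symm y ≫ ClSub.toSubscheme (𝓘 ^ (n + 1))) = _
    rw [homToH0_comp, Equiv.apply_symm_apply, hy]

end Global

end Groth.Agent.Lib.LefAmpH6
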