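import Mathlib
import Groth.Prelude
import Groth.Agent.Lib.Hartogs_helper5
import Groth.Agent.Lib.BasisHom_helper7
import Groth.Agent.Lib.CycLen2_helper8

/-!
# Restriction to an open neighbourhood of a closed subscheme (helper6)

* `bijective_map_of_isIso_unit`: for an adjunction `L ⊣ R` and an object `N` at which the unit is
  an isomorphism, `L.map : (F ⟶ N) → (L F ⟶ L N)` is bijective.
* `isIso_unit_of_bijective`: the unit `N ⟶ j_* j^* N` of restriction to an open is an isomorphism
  as soon as the restriction maps `Γ(N, V) → Γ(N, V ∩ U)` are bijective.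
* `isIso_unit_structureModule` (Hartogs), `isIso_unit_quotMod` (support in `U`).
APPEND-ONLY once landed.
-/

set_option autoImplicit false
set_option linter.style.haveILetI false
universe u
open CategoryTheory CategoryTheory.Limits AlgebraicGeometry TopologicalSpace Opposite

namespace Groth.Agent.Lib.LefAmpH6

open QcqsLoc QCohExtn

section Abstract

variable {C D : Type*} [Category C] [Category D] {L : C ⥤ D} {R : D ⥤ C}

/-- if the unit of `L ⊣ R` is an isomorphism at `N`, then `L` is bijective on `Hom(F, N)`. -/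
theorem bijective_map_of_isIso_unit (adj : L ⊣ R) (F N : C) [IsIso (adj.unit.app N)] :
    Function.Bijective (fun φ : F ⟶ N => L.map φ) := by
  have h : (fun φ : F ⟶ N => L.map φ) =
      (adj.homEquiv F (L.obj N)).symm ∘ (fun φ : F ⟶ N => φ ≫ adj.unit.app N) := by
    funext φ
    simp [Adjunction.homEquiv_counit]
  rw [h]
  refine (adj.homEquiv F (L.obj N)).symm.bijective.comp ⟨fun a b hab => ?_, fun c => ?_⟩
  · exact (cancel_mono (adj.unit.app N)).mp hab
  · exact ⟨c ≫ inv (adj.unit.app N), by simp⟩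

end Abstract

section Unit

variable {X : Scheme.{u}} (U : X.Opens)

theorem isBasis_univ : Opens.IsBasis (Set.univ : Set X.Opens) := by
  rw [Opens.isBasis_iff_nbhd]
  intro V x hx
  exact ⟨V, trivial, hx, le_rfl⟩

/-- the unit `N ⟶ j_* j^* N` is an isomorphism as soon as all the restriction maps
`Γ(N, V) → Γ(N, V ∩ U)` are bijective. -/
theorem isIso_unit_of_bijective (N : X.Modules)
    (h : ∀ V : X.Opens, Function.Bijective (rF N (inf_le_left : V ⊓ U ≤ V))) :
    IsIso ((Scheme.Modules.restrictAdjunction U.ι).unit.app N) := by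
  apply Groth.Agent.Lib.BasisHomH7.isIso_of_bijective_basis (isBasis_univ (X := X))
  intro V _
  have key : ∀ (W : X.Opens) (hW : W = V ⊓ U) (hle : W ≤ V), Function.Bijective (rF N hle) := by
    intro W hW hle
    subst hW
    exact h V
  have hW : U.ι ''ᵁ (U.ι ⁻¹ᵁ V) = V ⊓ U := by
    rw [Scheme.Hom.image_preimage_eq_opensRange_inf, Scheme.Opens.opensRange_ι, inf_comm]
  exact key _ hW (U.ι.image_preimage_le V)

/-- **Hartogs**: if `O_X` has depth `≥ 2` at the points outside `U`, then `O_X ≅ j_* j^* O_X`. -/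
theorem isIso_unit_structureModule [IsLocallyNoetherian X]
    (hdepth : ∀ x : X, x ∉ U →
      (2 : ℕ∞) ≤ LocCoh.depth (X.presheaf.stalk x) (X.presheaf.stalk x)) :
    IsIso ((Scheme.Modules.restrictAdjunction U.ι).unit.app (Coh.structureModule X)) := by
  have hO : Coh.IsCoh (Coh.structureModule X) := CohDevH8.isCoh_structureModule X
  haveI : (Coh.structureModule X).IsQuasicoherent := hO.1
  haveI : SheafOfModules.IsFiniteType (R := X.ringCatSheaf) (Coh.structureModule X) := hO.2
  have hdepth' : ∀ x : X, x ∉ U → (2 : ℕ∞) ≤ LocCoh.depth (X.presheaf.stalk x)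
      ((Coh.structureModule X).presheaf.stalk x) := by
    intro x hx
    have h1 : LocCoh.depth (X.presheaf.stalk x) (X.presheaf.stalk x) =
        LocCoh.depth (X.presheaf.stalk x) ((Coh.structureModule X).presheaf.stalk x) :=
      Groth.Agent.DepthLib.idealDepth_congr _ _ (CycLenH8.stalkStructureEquiv x)
    rw [← h1]
    exact hdepth x hx
  apply isIso_unit_of_bijective
  intro V
  constructor
  · rw [injective_iff_map_eq_zero]
    intro s hs
    exact Groth.Agent.Hartogs.inj (Coh.structureModule X) U hdepth' V s hs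
  · intro t
    exact Groth.Agent.Hartogs.surj (Coh.structureModule X) U hdepth' V t

theorem bijective_rF_of_le {Z : Scheme.{u}} (M : Z.Modules) {A B : Z.Opens} (h : A ≤ B)
    (h' : B ≤ A) : Function.Bijective (rF M h) := by
  obtain rfl : A = B := le_antisymm h h'
  have : rF M h = AddMonoidHom.id _ := by
    ext s
    show (M.presheaf.map (homOfLE h).op).hom s = s
    have h1 : (homOfLE h).op = 𝟙 (op A) := rfl
    rw [h1, M.presheaf.map_id]
    rfl
  rw [this]
  exact Function.bijective_id

/-- if the zero locus of `𝓚` lies in `U`, then `O_X/𝓚 ≅ j_* j^* (O_X/𝓚)`. -/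
theorem isIso_unit_quotMod (𝓚 : X.IdealSheafData) (hK : (𝓚.support : Set X) ⊆ (U : Set X)) :
    IsIso ((Scheme.Modules.restrictAdjunction U.ι).unit.app (ClSub.quotMod 𝓚)) := by
  apply isIso_unit_of_bijective
  intro V
  have hpre : 𝓚.subschemeι ⁻¹ᵁ V ≤ 𝓚.subschemeι ⁻¹ᵁ (V ⊓ U) := by
    intro z hz
    refine ⟨hz, hK ?_⟩
    rw [← Scheme.IdealSheafData.range_subschemeι]
    exact ⟨z, rfl⟩
  exact bijective_rF_of_le (Coh.structureModule 𝓚.subscheme)
    (show 𝓚.subschemeι ⁻¹ᵁ (V ⊓ U) ≤ 𝓚.subschemeι ⁻¹ᵁ V from fun z hz => hz.1) hpre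

end Unit

end Groth.Agent.Lib.LefAmpH6
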