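import Mathlib
import Groth.Prelude
import Groth.Agent.Lib.ESZ3_helper6
import Groth.Agent.Lib.HypSurf_helper9

/-!
# Restriction of `O_X → O_X/𝓚` to an open subscheme (helper6)

* `exists_iso_of_kernels`: two epimorphisms out of the same object of an abelian category killing
  each other's kernels have isomorphic targets.
* `exists_restrict_quotMod_iso`: `(O_X/𝓚)|_U ≅ O_U/(𝓚|_U)`, compatibly with the quotient maps.
* `comap_pow`: `(𝓘|_U)^m = (𝓘^m)|_U`.
APPEND-ONLY once landed.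
-/

set_option autoImplicit false
set_option linter.style.haveILetI false
universe u
open CategoryTheory CategoryTheory.Limits AlgebraicGeometry TopologicalSpace Opposite

namespace Groth.Agent.Lib.LefAmpH6

open QcqsLoc QCohExtn SerreCrit

section Abstract

variable {C : Type*} [Category C] [Abelian C]

/-- two epimorphisms out of `A` killing each other's kernels have isomorphic targets. -/
theorem exists_iso_of_kernels {A B B' : C} (p : A ⟶ B) (q : A ⟶ B') [Epi p] [Epi q]
    (h1 : kernel.ι p ≫ q = 0) (h2 : kernel.ι q ≫ p = 0) :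
    ∃ κ : B ≅ B', p ≫ κ.hom = q := by
  have hp := Abelian.epiIsCokernelOfKernel (KernelFork.ofι (kernel.ι p) (kernel.condition p))
    (kernelIsKernel p)
  have hq := Abelian.epiIsCokernelOfKernel (KernelFork.ofι (kernel.ι q) (kernel.condition q))
    (kernelIsKernel q)
  let a : B ⟶ B' := hp.desc (CokernelCofork.ofπ q h1)
  let b : B' ⟶ B := hq.desc (CokernelCofork.ofπ p h2)
  have ha : p ≫ a = q := hp.fac _ WalkingParallelPair.one
  have hb : q ≫ b = p := hq.fac _ WalkingParallelPair.one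
  refine ⟨⟨a, b, ?_, ?_⟩, ha⟩
  · rw [← cancel_epi p, ← Category.assoc, ha, hb, Category.comp_id]
  · rw [← cancel_epi q, ← Category.assoc, hb, ha, Category.comp_id]

end Abstract

section Restrict

variable {X : Scheme.{u}} (U : X.Opens) (𝓚 : X.IdealSheafData)

/-- the composite `O_U ≅ (O_X)|_U → (O_X/𝓚)|_U`. -/
noncomputable def restrQuot : Coh.structureModule (U : Scheme.{u}) ⟶
    (Scheme.Modules.restrictFunctor U.ι).obj (ClSub.quotMod 𝓚) :=
  (Scheme.Modules.restrictUnitIso U.ι).inv ≫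
    (Scheme.Modules.restrictFunctor U.ι).map (ClSub.toSubscheme 𝓚)

theorem ap_restrQuot (W : (U : Scheme.{u}).Opens) (g : Γ(U, W)) :
    ap (restrQuot U 𝓚) W g = (𝓚.subschemeι.app (U.ι ''ᵁ W)).hom ((U.ι.appIso W).inv.hom g) := rfl

theorem restrictUnitIso_hom_restrQuot :
    (Scheme.Modules.restrictUnitIso U.ι).hom ≫ restrQuot U 𝓚 =
      (Scheme.Modules.restrictFunctor U.ι).map (ClSub.toSubscheme 𝓚) := by
  unfold restrQuot
  rw [Iso.hom_inv_id_assoc]

instance epi_restrQuot : Epi (restrQuot U 𝓚) := by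
  haveI : Epi (ClSub.toSubscheme 𝓚) := Groth.Agent.HypSurf.epi_toSubscheme 𝓚
  unfold restrQuot
  infer_instance

theorem mem_comap_iff {W : (U : Scheme.{u}).Opens} (hW : IsAffineOpen W) (g : Γ(U, W)) :
    g ∈ (𝓚.comap U.ι).ideal ⟨W, hW⟩ ↔ ap (restrQuot U 𝓚) W g = 0 := by
  rw [Scheme.IdealSheafData.ideal_comap_of_isOpenImmersion, Ideal.mem_comap,
    ← 𝓚.ker_subschemeι_app ⟨U.ι ''ᵁ W, hW.image_of_isOpenImmersion U.ι⟩, RingHom.mem_ker]
  rfl

/-- `(O_X/𝓚)|_U ≅ O_U/(𝓚|_U)`, compatibly with the quotient maps. -/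
theorem exists_restrict_quotMod_iso :
    ∃ κ : (Scheme.Modules.restrictFunctor U.ι).obj (ClSub.quotMod 𝓚) ≅
        ClSub.quotMod (𝓚.comap U.ι),
      restrQuot U 𝓚 ≫ κ.hom = ClSub.toSubscheme (𝓚.comap U.ι) := by
  haveI : Epi (ClSub.toSubscheme (𝓚.comap U.ι)) :=
    Groth.Agent.HypSurf.epi_toSubscheme (𝓚.comap U.ι)
  refine exists_iso_of_kernels (restrQuot U 𝓚) (ClSub.toSubscheme (𝓚.comap U.ι)) ?_ ?_
  · apply Groth.Agent.Lib.ESZH6.comp_toSubscheme_of_mem
    intro W s x hx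
    obtain ⟨_, ⟨W', hW' : IsAffineOpen W', rfl⟩, hxW', hle⟩ :=
      ((U : Scheme.{u}).isBasis_affineOpens).exists_subset_of_mem_open hx W.isOpen
    have hle' : W' ≤ W := hle
    refine ⟨W', hW', hle', hxW', ?_⟩
    rw [mem_comap_iff U 𝓚 hW']
    exact TensH8.kernel_section_mem (restrQuot U 𝓚) (rF (kernel (restrQuot U 𝓚)) hle' s)
  · apply Scheme.Modules.hom_ext
    intro W
    ext t
    show ap (kernel.ι (ClSub.toSubscheme (𝓚.comap U.ι)) ≫ restrQuot U 𝓚) W t = 0
    apply eq_zero_of_cover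
    intro x hx
    obtain ⟨_, ⟨W', hW' : IsAffineOpen W', rfl⟩, hxW', hle⟩ :=
      ((U : Scheme.{u}).isBasis_affineOpens).exists_subset_of_mem_open hx W.isOpen
    have hle' : W' ≤ W := hle
    refine ⟨W', hle', hxW', ?_⟩
    rw [← ap_rF]
    have h1 := TensH8.idealModι_mem (𝓚.comap U.ι) hW' (rF (ClSub.idealMod (𝓚.comap U.ι)) hle' t)
    rw [mem_comap_iff U 𝓚 hW'] at h1
    exact h1

theorem comap_pow_of_bijective {R S : Type*} [CommRing R] [CommRing S] (f : R →+* S)
    (hf : Function.Bijective f) (I : Ideal S) (m : ℕ) : (I.comap f) ^ m = (I ^ m).comap f := by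
  let e : R ≃+* S := RingEquiv.ofBijective f hf
  have h1 : ∀ J : Ideal S, J.comap f = J.map (e.symm : S →+* R) := fun J =>
    (Ideal.map_symm (I := J) e).symm
  rw [h1, h1, Ideal.map_pow]

/-- `(𝓘|_U)^m = (𝓘^m)|_U`. -/
theorem comap_pow (𝓘 : X.IdealSheafData) (m : ℕ) :
    (𝓘.comap U.ι) ^ m = (𝓘 ^ m).comap U.ι := by
  apply Scheme.IdealSheafData.ext
  funext W
  rw [Scheme.IdealSheafData.ideal_pow, Pi.pow_apply,
    Scheme.IdealSheafData.ideal_comap_of_isOpenImmersion,
    Scheme.IdealSheafData.ideal_comap_of_isOpenImmersion, Scheme.IdealSheafData.ideal_pow,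
    Pi.pow_apply]
  refine comap_pow_of_bijective _ ?_ _ m
  exact (ConcreteCategory.isIso_iff_bijective (U.ι.appIso W).inv).mp inferInstance

end Restrict

end Groth.Agent.Lib.LefAmpH6
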