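import Mathlib
import Groth.Prelude.Def_FEt

set_option autoImplicit false
universe u
open CategoryTheory CategoryTheory.Limits AlgebraicGeometry

namespace Groth.Agent.Lib.FEtFaithfulH4

/-- Two morphisms `φ ψ : Z₁ ⟶ Z₂` of finite étale `Y`-schemes which agree after base change along
`f : X ⟶ Y` are equal, provided the image of `f` meets every nonempty clopen subset of `Y`. -/
theorem eq_of_pullback_eq {X Y : Scheme.{u}} (f : X ⟶ Y) {Z₁ Z₂ : Scheme.{u}} (a : Z₁ ⟶ Y)
    (b : Z₂ ⟶ Y) [IsFinite a] [Etale a] [IsFinite b] [Etale b]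
    (φ ψ : Z₁ ⟶ Z₂) (hφ : φ ≫ b = a) (hψ : ψ ≫ b = a)
    (hD : ∀ U : Set Y, IsOpen U → IsClosed U → U.Nonempty → (U ∩ Set.range f.base).Nonempty)
    (h : pullback.fst a f ≫ φ = pullback.fst a f ≫ ψ) : φ = ψ := by
  have w : φ ≫ b = ψ ≫ b := hφ.trans hψ.symm
  haveI : IsOpenImmersion (pullback.fst (pullback.lift φ ψ w) (pullback.diagonal b)) :=
    inferInstance
  haveI : IsClosedImmersion (pullback.fst (pullback.lift φ ψ w) (pullback.diagonal b)) :=
    MorphismProperty.pullback_fst (P := @IsClosedImmersion) _ _ inferInstance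
  have hι : pullback.fst (pullback.lift φ ψ w) (pullback.diagonal b) ≫ φ =
      pullback.fst (pullback.lift φ ψ w) (pullback.diagonal b) ≫ ψ := by
    have e1 : pullback.fst (pullback.lift φ ψ w) (pullback.diagonal b) ≫ φ =
        pullback.snd (pullback.lift φ ψ w) (pullback.diagonal b) := by
      calc pullback.fst (pullback.lift φ ψ w) (pullback.diagonal b) ≫ φ
          = pullback.fst (pullback.lift φ ψ w) (pullback.diagonal b) ≫
              (pullback.lift φ ψ w ≫ pullback.fst b b) := by rw [pullback.lift_fst]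
        _ = (pullback.fst (pullback.lift φ ψ w) (pullback.diagonal b) ≫
              pullback.lift φ ψ w) ≫ pullback.fst b b := (Category.assoc _ _ _).symm
        _ = (pullback.snd (pullback.lift φ ψ w) (pullback.diagonal b) ≫
              pullback.diagonal b) ≫ pullback.fst b b := by rw [pullback.condition]
        _ = pullback.snd (pullback.lift φ ψ w) (pullback.diagonal b) := by
            rw [Category.assoc, pullback.diagonal_fst, Category.comp_id]
    have e2 : pullback.fst (pullback.lift φ ψ w) (pullback.diagonal b) ≫ ψ =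
        pullback.snd (pullback.lift φ ψ w) (pullback.diagonal b) := by
      calc pullback.fst (pullback.lift φ ψ w) (pullback.diagonal b) ≫ ψ
          = pullback.fst (pullback.lift φ ψ w) (pullback.diagonal b) ≫
              (pullback.lift φ ψ w ≫ pullback.snd b b) := by rw [pullback.lift_snd]
        _ = (pullback.fst (pullback.lift φ ψ w) (pullback.diagonal b) ≫
              pullback.lift φ ψ w) ≫ pullback.snd b b := (Category.assoc _ _ _).symm
        _ = (pullback.snd (pullback.lift φ ψ w) (pullback.diagonal b) ≫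
              pullback.diagonal b) ≫ pullback.snd b b := by rw [pullback.condition]
        _ = pullback.snd (pullback.lift φ ψ w) (pullback.diagonal b) := by
            rw [Category.assoc, pullback.diagonal_snd, Category.comp_id]
    rw [e1, e2]
  have hopen : IsOpen (Set.range (pullback.fst (pullback.lift φ ψ w) (pullback.diagonal b)).base) :=
    (pullback.fst (pullback.lift φ ψ w) (pullback.diagonal b)).isOpenEmbedding.isOpen_range
  have hclosed :
      IsClosed (Set.range (pullback.fst (pullback.lift φ ψ w) (pullback.diagonal b)).base) :=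
    (pullback.fst (pullback.lift φ ψ w) (pullback.diagonal b)).isClosedEmbedding.isClosed_range
  have hWo : IsOpen (a.base ''
      (Set.range (pullback.fst (pullback.lift φ ψ w) (pullback.diagonal b)).base)ᶜ) :=
    a.isOpenMap _ hclosed.isOpen_compl
  have hWc : IsClosed (a.base ''
      (Set.range (pullback.fst (pullback.lift φ ψ w) (pullback.diagonal b)).base)ᶜ) :=
    a.isClosedMap _ hopen.isClosed_compl
  have hsurj : Function.Surjective
      (pullback.fst (pullback.lift φ ψ w) (pullback.diagonal b)).base := by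
    by_contra hns
    obtain ⟨z, hz⟩ : ∃ z : Z₁,
        z ∉ Set.range (pullback.fst (pullback.lift φ ψ w) (pullback.diagonal b)).base := by
      by_contra hcon
      exact hns (fun z => Classical.byContradiction (fun hz => hcon ⟨z, hz⟩))
    obtain ⟨y, ⟨z', hz', hzy⟩, x, hx⟩ := hD _ hWo hWc ⟨a.base z, z, hz, rfl⟩
    obtain ⟨q, hq1, hq2⟩ := Scheme.Pullback.exists_preimage_pullback (f := a) (g := f) z' x
      (hzy.trans hx.symm)
    have hc : pullback.fst a f ≫ pullback.lift φ ψ w =
        (pullback.fst a f ≫ φ) ≫ pullback.diagonal b := by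
      apply pullback.hom_ext
      · rw [Category.assoc, pullback.lift_fst, Category.assoc, pullback.diagonal_fst,
          Category.comp_id]
      · rw [Category.assoc, pullback.lift_snd, Category.assoc, pullback.diagonal_snd,
          Category.comp_id, h]
    have hl : pullback.lift (pullback.fst a f) (pullback.fst a f ≫ φ) hc ≫
        pullback.fst (pullback.lift φ ψ w) (pullback.diagonal b) = pullback.fst a f :=
      pullback.lift_fst _ _ _
    apply hz'
    refine ⟨(pullback.lift (pullback.fst a f) (pullback.fst a f ≫ φ) hc).base q, ?_⟩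
    refine (Scheme.Hom.comp_apply _ _ q).symm.trans ?_
    rw [hl]
    exact hq1
  haveI : Epi (pullback.fst (pullback.lift φ ψ w) (pullback.diagonal b)).base :=
    (TopCat.epi_iff_surjective _).mpr hsurj
  haveI : IsIso (pullback.fst (pullback.lift φ ψ w) (pullback.diagonal b)) :=
    IsOpenImmersion.isIso _
  exact (cancel_epi (pullback.fst (pullback.lift φ ψ w) (pullback.diagonal b))).mp hι

theorem faithful_of_clopen {X Y : Scheme.{u}} (f : X ⟶ Y)
    (hD : ∀ U : Set Y, IsOpen U → IsClosed U → U.Nonempty → (U ∩ Set.range f.base).Nonempty) :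
    (FEt.restrict f).Faithful := by
  refine ⟨fun {Z₁ Z₂} φ ψ h => ?_⟩
  haveI : IsFinite Z₁.hom := Z₁.prop.1
  haveI : Etale Z₁.hom := Z₁.prop.2
  haveI : IsFinite Z₂.hom := Z₂.prop.1
  haveI : Etale Z₂.hom := Z₂.prop.2
  have key : ∀ χ : Z₁ ⟶ Z₂, ((FEt.restrict f).map χ).left ≫ pullback.fst Z₂.hom f =
      pullback.fst Z₁.hom f ≫ χ.left := fun χ => pullback.lift_fst _ _ _
  have h' : pullback.fst Z₁.hom f ≫ φ.left = pullback.fst Z₁.hom f ≫ ψ.left := by
    rw [← key φ, ← key ψ, h]
  exact MorphismProperty.Over.Hom.ext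
    (eq_of_pullback_eq f Z₁.hom Z₂.hom φ.left ψ.left (MorphismProperty.Over.w φ)
      (MorphismProperty.Over.w ψ) hD h')

theorem main0237 {X Y : Scheme.{u}} (f : X ⟶ Y)
    (h : DenseRange f.base) : (FEt.restrict f).Faithful := by
  refine faithful_of_clopen f (fun U hU _ hne => ?_)
  exact h.inter_open_nonempty U hU hne

theorem main0243 {X Y : Scheme.{u}} (i : Y ⟶ X) [IsClosedImmersion i]
    (h : ∀ x : X, (connectedComponent x ∩ Set.range i.base).Nonempty) :
    (FEt.restrict i).Faithful := by
  refine faithful_of_clopen i (fun U hU hU' hne => ?_)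
  obtain ⟨x, hx⟩ := hne
  obtain ⟨y, hy1, hy2⟩ := h x
  exact ⟨y, (IsClopen.connectedComponent_subset ⟨hU', hU⟩ hx) hy1, hy2⟩

end Groth.Agent.Lib.FEtFaithfulH4
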