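import Mathlib
import Groth.Prelude.Def_FEt
import Groth.Agent.Lib.FEtFaithful_helper4

set_option autoImplicit false
universe u
open CategoryTheory CategoryTheory.Limits AlgebraicGeometry

namespace Groth.Agent.Lib.FEtFullH4

/-- Clopen sets descend along surjective maps with preconnected fibres that are open or closed. -/
theorem exists_clopen_of_fibres {A B : Type*} [TopologicalSpace A] [TopologicalSpace B] (p : A → B)
    (hc : IsClosedMap p ∨ IsOpenMap p) (hs : Function.Surjective p)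
    (hf : ∀ b, IsPreconnected (p ⁻¹' {b})) (V : Set A) (hV : IsClopen V) :
    ∃ U : Set B, IsClopen U ∧ p ⁻¹' U = V := by
  have key : ∀ V : Set A, IsClopen V → p ⁻¹' (p '' V) = V := by
    intro V hV
    apply Set.Subset.antisymm
    · rintro x ⟨v, hv, hvx⟩
      exact (hf (p x)).subset_isClopen hV ⟨v, hvx, hv⟩ rfl
    · exact Set.subset_preimage_image p V
  have hcompl : (p '' V)ᶜ = p '' Vᶜ := by
    ext b
    obtain ⟨x, rfl⟩ := hs b
    constructor
    · intro hb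
      exact ⟨x, fun hx => hb ⟨x, hx, rfl⟩, rfl⟩
    · rintro ⟨y, hy, hyx⟩ ⟨v, hv, hvx⟩
      have h1 : y ∈ p ⁻¹' (p '' V) := ⟨v, hv, hvx.trans hyx.symm⟩
      rw [key V hV] at h1
      exact hy h1
  refine ⟨p '' V, ?_, key V hV⟩
  rcases hc with hc | hc
  · refine ⟨hc V hV.1, ?_⟩
    rw [← isClosed_compl_iff, hcompl]
    exact hc _ hV.compl.1
  · refine ⟨?_, hc V hV.2⟩
    rw [← isOpen_compl_iff, hcompl]
    exact hc _ hV.compl.2

theorem section_props {P Q : Scheme.{u}} (γ : P ⟶ Q) (π : Q ⟶ P) (h : γ ≫ π = 𝟙 P) [Etale π]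
    [IsSeparated π] : IsOpenImmersion γ ∧ IsClosed (Set.range γ.base) := by
  haveI : Etale γ := MorphismProperty.of_postcomp (W := @Etale) (W' := @Etale) γ π inferInstance
    (by rw [h]; infer_instance)
  haveI : Mono γ := mono_of_mono_fac h
  haveI : IsFinite γ := MorphismProperty.of_postcomp (W := @IsFinite) (W' := @IsSeparated) γ π
    inferInstance (by rw [h]; infer_instance)
  exact ⟨IsOpenImmersion.of_flat_of_mono γ, γ.isClosedMap.isClosed_range⟩

theorem exists_point_over {X Y A : Scheme.{u}} (f : X ⟶ Y) (a : A ⟶ Y) [IsFinite a] [Etale a]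
    (hD : ∀ U : Set Y, IsOpen U → IsClosed U → U.Nonempty → (U ∩ Set.range f.base).Nonempty)
    (C : Set A) (hCo : IsOpen C) (hCc : IsClosed C) (hne : C.Nonempty) :
    ∃ z' : ↥(pullback a f), (pullback.fst a f).base z' ∈ C := by
  obtain ⟨y, ⟨z, hz, hzy⟩, x, hx⟩ := hD (a.base '' C) (a.isOpenMap _ hCo) (a.isClosedMap _ hCc)
    (hne.image _)
  obtain ⟨q, hq1, -⟩ := Scheme.Pullback.exists_preimage_pullback (f := a) (g := f) z x
    (hzy.trans hx.symm)
  refine ⟨q, ?_⟩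
  rw [hq1]
  exact hz

theorem pullback_fst_comp_eq {X Y A W K : Scheme.{u}} (f : X ⟶ Y) (a : A ⟶ Y) (c : W ⟶ Y)
    (pr : W ⟶ A)
    (γ : pullback a f ⟶ pullback c f) (π : pullback c f ⟶ pullback a f)
    (hγπ : γ ≫ π = 𝟙 (pullback a f))
    (hπ1 : π ≫ pullback.fst a f = pullback.fst c f ≫ pr)
    (hπ2 : π ≫ pullback.snd a f = pullback.snd c f) [IsOpenImmersion γ]
    (Γ : W.Opens) (hΓ : (pullback.fst c f).base ⁻¹' (Γ : Set W) = Set.range γ.base)
    (aK : K ⟶ Y) (q₁ q₂ : K ⟶ (Γ : Scheme.{u})) (h₁ : (q₁ ≫ Γ.ι) ≫ c = aK)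
    (h₂ : (q₂ ≫ Γ.ι) ≫ c = aK) (h12 : (q₁ ≫ Γ.ι) ≫ pr = (q₂ ≫ Γ.ι) ≫ pr) :
    pullback.fst aK f ≫ (q₁ ≫ Γ.ι) = pullback.fst aK f ≫ (q₂ ≫ Γ.ι) := by
  have cond₁ : (pullback.fst aK f ≫ (q₁ ≫ Γ.ι)) ≫ c = pullback.snd aK f ≫ f := by
    rw [Category.assoc, h₁]; exact pullback.condition
  have cond₂ : (pullback.fst aK f ≫ (q₂ ≫ Γ.ι)) ≫ c = pullback.snd aK f ≫ f := by
    rw [Category.assoc, h₂]; exact pullback.condition
  obtain ⟨m₁, hm₁a, hm₁b⟩ : ∃ m : pullback aK f ⟶ pullback c f,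
      m ≫ pullback.fst c f = pullback.fst aK f ≫ (q₁ ≫ Γ.ι) ∧
      m ≫ pullback.snd c f = pullback.snd aK f :=
    ⟨pullback.lift _ _ cond₁, pullback.lift_fst _ _ _, pullback.lift_snd _ _ _⟩
  obtain ⟨m₂, hm₂a, hm₂b⟩ : ∃ m : pullback aK f ⟶ pullback c f,
      m ≫ pullback.fst c f = pullback.fst aK f ≫ (q₂ ≫ Γ.ι) ∧
      m ≫ pullback.snd c f = pullback.snd aK f :=
    ⟨pullback.lift _ _ cond₂, pullback.lift_fst _ _ _, pullback.lift_snd _ _ _⟩
  have hfac : ∀ m : pullback aK f ⟶ pullback c f,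
      (∃ q : pullback aK f ⟶ (Γ : Scheme.{u}), m ≫ pullback.fst c f = q ≫ Γ.ι) →
      m = (m ≫ π) ≫ γ := by
    rintro m ⟨q, hq⟩
    have hr : Set.range m.base ⊆ Set.range γ.base := by
      rw [← hΓ]
      rintro _ ⟨t, rfl⟩
      have h1 : (pullback.fst c f).base (m.base t) = Γ.ι.base (q.base t) :=
        congrArg (fun φ : pullback aK f ⟶ W => φ.base t) hq
      have h3 : Γ.ι.base (q.base t) ∈ Set.range Γ.ι.base := Set.mem_range_self _
      rw [Scheme.Opens.range_ι] at h3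
      show (pullback.fst c f).base (m.base t) ∈ (Γ : Set W)
      rw [h1]
      exact h3
    have hn : IsOpenImmersion.lift γ m hr ≫ γ = m := IsOpenImmersion.lift_fac γ m hr
    calc m = IsOpenImmersion.lift γ m hr ≫ γ := hn.symm
      _ = (IsOpenImmersion.lift γ m hr ≫ (γ ≫ π)) ≫ γ := by rw [hγπ, Category.comp_id]
      _ = ((IsOpenImmersion.lift γ m hr ≫ γ) ≫ π) ≫ γ := by simp only [Category.assoc]
      _ = (m ≫ π) ≫ γ := by rw [hn]
  have hπeq : m₁ ≫ π = m₂ ≫ π := by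
    apply pullback.hom_ext
    · have t₁ : (m₁ ≫ π) ≫ pullback.fst a f = pullback.fst aK f ≫ ((q₁ ≫ Γ.ι) ≫ pr) := by
        rw [Category.assoc, hπ1, ← Category.assoc, hm₁a, Category.assoc]
      have t₂ : (m₂ ≫ π) ≫ pullback.fst a f = pullback.fst aK f ≫ ((q₂ ≫ Γ.ι) ≫ pr) := by
        rw [Category.assoc, hπ1, ← Category.assoc, hm₂a, Category.assoc]
      rw [t₁, t₂, h12]
    · have t₁ : (m₁ ≫ π) ≫ pullback.snd a f = pullback.snd aK f := by
        rw [Category.assoc, hπ2, hm₁b]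
      have t₂ : (m₂ ≫ π) ≫ pullback.snd a f = pullback.snd aK f := by
        rw [Category.assoc, hπ2, hm₂b]
      rw [t₁, t₂]
  have e₁ := hfac m₁ ⟨pullback.fst aK f ≫ q₁, by rw [hm₁a, Category.assoc]⟩
  have e₂ := hfac m₂ ⟨pullback.fst aK f ≫ q₂, by rw [hm₂a, Category.assoc]⟩
  have hmm : m₁ = m₂ := by rw [e₁, e₂, hπeq]
  rw [← hm₁a, ← hm₂a, hmm]

theorem mono_of_clopen_graph {X Y A W : Scheme.{u}} (f : X ⟶ Y) (a : A ⟶ Y) (c : W ⟶ Y)
    (pr : W ⟶ A) (hpr : pr ≫ a = c) [IsFinite a] [Etale a] [IsFinite c] [Etale c]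
    (hD : ∀ U : Set Y, IsOpen U → IsClosed U → U.Nonempty → (U ∩ Set.range f.base).Nonempty)
    (γ : pullback a f ⟶ pullback c f) (π : pullback c f ⟶ pullback a f)
    (hγπ : γ ≫ π = 𝟙 (pullback a f))
    (hπ1 : π ≫ pullback.fst a f = pullback.fst c f ≫ pr)
    (hπ2 : π ≫ pullback.snd a f = pullback.snd c f) [IsOpenImmersion γ]
    (Γ : W.Opens) (hΓc : IsClosed (Γ : Set W))
    (hΓ : (pullback.fst c f).base ⁻¹' (Γ : Set W) = Set.range γ.base) :
    Mono (Γ.ι ≫ pr) := by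
  haveI : IsClosedImmersion Γ.ι :=
    IsClosedImmersion.of_isPreimmersion _ (by rw [Scheme.Opens.range_ι]; exact hΓc)
  haveI : IsFinite pr := MorphismProperty.of_postcomp (W := @IsFinite) (W' := @IsSeparated) pr a
    inferInstance (by rw [hpr]; infer_instance)
  haveI : Etale pr := MorphismProperty.of_postcomp (W := @Etale) (W' := @Etale) pr a
    inferInstance (by rw [hpr]; infer_instance)
  haveI : IsFinite (Γ.ι ≫ pr) := inferInstance
  haveI : Etale (Γ.ι ≫ pr) := inferInstance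
  haveI : IsFinite (pullback.fst (Γ.ι ≫ pr) (Γ.ι ≫ pr)) :=
    MorphismProperty.pullback_fst (P := @IsFinite) _ _ inferInstance
  haveI : Etale (pullback.fst (Γ.ι ≫ pr) (Γ.ι ≫ pr)) :=
    MorphismProperty.pullback_fst (P := @Etale) _ _ inferInstance
  haveI : IsFinite ((pullback.fst (Γ.ι ≫ pr) (Γ.ι ≫ pr) ≫ Γ.ι) ≫ c) := inferInstance
  haveI : Etale ((pullback.fst (Γ.ι ≫ pr) (Γ.ι ≫ pr) ≫ Γ.ι) ≫ c) := inferInstance
  have e0 : (pullback.fst (Γ.ι ≫ pr) (Γ.ι ≫ pr) ≫ Γ.ι) ≫ pr =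
      (pullback.snd (Γ.ι ≫ pr) (Γ.ι ≫ pr) ≫ Γ.ι) ≫ pr := by
    rw [Category.assoc, Category.assoc]; exact pullback.condition
  have hψ : (pullback.snd (Γ.ι ≫ pr) (Γ.ι ≫ pr) ≫ Γ.ι) ≫ c =
      (pullback.fst (Γ.ι ≫ pr) (Γ.ι ≫ pr) ≫ Γ.ι) ≫ c := by
    rw [← hpr, ← Category.assoc, ← e0, Category.assoc]
  have key : pullback.fst (Γ.ι ≫ pr) (Γ.ι ≫ pr) ≫ Γ.ι =
      pullback.snd (Γ.ι ≫ pr) (Γ.ι ≫ pr) ≫ Γ.ι :=
    FEtFaithfulH4.eq_of_pullback_eq f
      ((pullback.fst (Γ.ι ≫ pr) (Γ.ι ≫ pr) ≫ Γ.ι) ≫ c) c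
      (pullback.fst (Γ.ι ≫ pr) (Γ.ι ≫ pr) ≫ Γ.ι) (pullback.snd (Γ.ι ≫ pr) (Γ.ι ≫ pr) ≫ Γ.ι)
      rfl hψ hD
      (pullback_fst_comp_eq f a c pr γ π hγπ hπ1 hπ2 Γ hΓ
        ((pullback.fst (Γ.ι ≫ pr) (Γ.ι ≫ pr) ≫ Γ.ι) ≫ c)
        (pullback.fst (Γ.ι ≫ pr) (Γ.ι ≫ pr)) (pullback.snd (Γ.ι ≫ pr) (Γ.ι ≫ pr)) rfl hψ e0)
  have hfs : pullback.fst (Γ.ι ≫ pr) (Γ.ι ≫ pr) = pullback.snd (Γ.ι ≫ pr) (Γ.ι ≫ pr) :=
    (cancel_mono Γ.ι).mp key
  exact (mono_iff_fst_eq_snd (pullbackIsPullback (Γ.ι ≫ pr) (Γ.ι ≫ pr))).mpr hfs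

theorem surj_of_clopen_graph {X Y A W : Scheme.{u}} (f : X ⟶ Y) (a : A ⟶ Y) (c : W ⟶ Y)
    (pr : W ⟶ A) (hpr : pr ≫ a = c) [IsFinite a] [Etale a] [IsFinite c] [Etale c]
    (hD : ∀ U : Set Y, IsOpen U → IsClosed U → U.Nonempty → (U ∩ Set.range f.base).Nonempty)
    (γ : pullback a f ⟶ pullback c f)
    (hγ : γ ≫ pullback.fst c f ≫ pr = pullback.fst a f)
    (Γ : W.Opens) (hΓc : IsClosed (Γ : Set W))
    (hΓ : (pullback.fst c f).base ⁻¹' (Γ : Set W) = Set.range γ.base) :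
    Function.Surjective (Γ.ι ≫ pr).base := by
  haveI : IsFinite pr := MorphismProperty.of_postcomp (W := @IsFinite) (W' := @IsSeparated) pr a
    inferInstance (by rw [hpr]; infer_instance)
  haveI : Etale pr := MorphismProperty.of_postcomp (W := @Etale) (W' := @Etale) pr a
    inferInstance (by rw [hpr]; infer_instance)
  have hrange : Set.range (Γ.ι ≫ pr).base = pr.base '' (Γ : Set W) := by
    rw [Scheme.Hom.comp_base, TopCat.coe_comp, Set.range_comp, Scheme.Opens.range_ι]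
  have hopen : IsOpen (pr.base '' (Γ : Set W)) := pr.isOpenMap _ Γ.2
  have hclosed : IsClosed (pr.base '' (Γ : Set W)) := pr.isClosedMap _ hΓc
  by_contra hns
  obtain ⟨z, hz⟩ : ∃ z : A, z ∉ Set.range (Γ.ι ≫ pr).base := by
    by_contra hcon
    exact hns (fun z => Classical.byContradiction (fun hz => hcon ⟨z, hz⟩))
  rw [hrange] at hz
  obtain ⟨z', hz'⟩ := exists_point_over f a hD (pr.base '' (Γ : Set W))ᶜ hclosed.isOpen_compl
    hopen.isClosed_compl ⟨z, hz⟩
  apply hz'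
  have e1 : (pullback.fst a f).base z' = pr.base ((pullback.fst c f).base (γ.base z')) :=
    congrArg (fun φ : pullback a f ⟶ A => φ.base z') hγ.symm
  rw [e1]
  refine ⟨(pullback.fst c f).base (γ.base z'), ?_, rfl⟩
  have h2 : γ.base z' ∈ (pullback.fst c f).base ⁻¹' (Γ : Set W) := by
    rw [hΓ]; exact Set.mem_range_self _
  exact h2

theorem exists_section_of_opens {X Y A W : Scheme.{u}} (f : X ⟶ Y) (a : A ⟶ Y) (c : W ⟶ Y)
    (pr : W ⟶ A) (hpr : pr ≫ a = c) [IsFinite a] [Etale a] [IsFinite c] [Etale c]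
    (hD : ∀ U : Set Y, IsOpen U → IsClosed U → U.Nonempty → (U ∩ Set.range f.base).Nonempty)
    (g : pullback a f ⟶ W) (hg1 : g ≫ pr = pullback.fst a f)
    (γ : pullback a f ⟶ pullback c f) (π : pullback c f ⟶ pullback a f)
    (hγ1 : γ ≫ pullback.fst c f = g)
    (hγπ : γ ≫ π = 𝟙 (pullback a f))
    (hπ1 : π ≫ pullback.fst a f = pullback.fst c f ≫ pr)
    (hπ2 : π ≫ pullback.snd a f = pullback.snd c f) [IsOpenImmersion γ]
    (Γ : W.Opens) (hΓc : IsClosed (Γ : Set W))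
    (hΓ : (pullback.fst c f).base ⁻¹' (Γ : Set W) = Set.range γ.base) :
    ∃ s : A ⟶ W, s ≫ pr = 𝟙 A ∧ pullback.fst a f ≫ s = g := by
  haveI hmono : Mono (Γ.ι ≫ pr) :=
    mono_of_clopen_graph f a c pr hpr hD γ π hγπ hπ1 hπ2 Γ hΓc hΓ
  have hsurj : Function.Surjective (Γ.ι ≫ pr).base :=
    surj_of_clopen_graph f a c pr hpr hD γ (by rw [← Category.assoc, hγ1, hg1]) Γ hΓc hΓ
  haveI : IsFinite pr := MorphismProperty.of_postcomp (W := @IsFinite) (W' := @IsSeparated) pr a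
    inferInstance (by rw [hpr]; infer_instance)
  haveI : Etale pr := MorphismProperty.of_postcomp (W := @Etale) (W' := @Etale) pr a
    inferInstance (by rw [hpr]; infer_instance)
  haveI : Etale (Γ.ι ≫ pr) := inferInstance
  haveI : IsOpenImmersion (Γ.ι ≫ pr) := IsOpenImmersion.of_flat_of_mono _
  haveI : Epi (Γ.ι ≫ pr).base := (TopCat.epi_iff_surjective _).mpr hsurj
  haveI : IsIso (Γ.ι ≫ pr) := IsOpenImmersion.isIso _
  have hr : Set.range g.base ⊆ Set.range Γ.ι.base := by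
    rw [Scheme.Opens.range_ι]
    rintro _ ⟨t, rfl⟩
    have h1 : g.base t = (pullback.fst c f).base (γ.base t) :=
      congrArg (fun φ : pullback a f ⟶ W => φ.base t) hγ1.symm
    have h2 : γ.base t ∈ (pullback.fst c f).base ⁻¹' (Γ : Set W) := by
      rw [hΓ]; exact Set.mem_range_self _
    show g.base t ∈ (Γ : Set W)
    rw [h1]
    exact h2
  have hg' : IsOpenImmersion.lift Γ.ι g hr ≫ Γ.ι = g := IsOpenImmersion.lift_fac _ g hr
  refine ⟨inv (Γ.ι ≫ pr) ≫ Γ.ι, ?_, ?_⟩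
  · rw [Category.assoc, IsIso.inv_hom_id]
  · have h3 : pullback.fst a f = IsOpenImmersion.lift Γ.ι g hr ≫ (Γ.ι ≫ pr) := by
      rw [← Category.assoc, hg', hg1]
    calc pullback.fst a f ≫ inv (Γ.ι ≫ pr) ≫ Γ.ι
        = (IsOpenImmersion.lift Γ.ι g hr ≫ (Γ.ι ≫ pr)) ≫ inv (Γ.ι ≫ pr) ≫ Γ.ι := by rw [← h3]
      _ = IsOpenImmersion.lift Γ.ι g hr ≫ Γ.ι := by
          rw [Category.assoc, IsIso.hom_inv_id_assoc]
      _ = g := hg'

/-- A lift of `pullback.fst a f` through `pr` over `X` descends to a section of `pr`. -/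
theorem exists_section {X Y A W : Scheme.{u}} (f : X ⟶ Y) (a : A ⟶ Y) (c : W ⟶ Y)
    (pr : W ⟶ A) (hpr : pr ≫ a = c) [IsFinite a] [Etale a] [IsFinite c] [Etale c]
    (hD : ∀ U : Set Y, IsOpen U → IsClosed U → U.Nonempty → (U ∩ Set.range f.base).Nonempty)
    (hLc : ∀ V : Set ↥(pullback c f), IsClopen V →
      ∃ U : Set W, IsClopen U ∧ (pullback.fst c f).base ⁻¹' U = V)
    (g : pullback a f ⟶ W) (hg1 : g ≫ pr = pullback.fst a f) :
    ∃ s : A ⟶ W, s ≫ pr = 𝟙 A ∧ pullback.fst a f ≫ s = g := by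
  have hγc : g ≫ c = pullback.snd a f ≫ f := by
    rw [← hpr, ← Category.assoc, hg1, pullback.condition]
  have hπc : (pullback.fst c f ≫ pr) ≫ a = pullback.snd c f ≫ f := by
    rw [Category.assoc, hpr, pullback.condition]
  obtain ⟨γ, hγ1, hγ2⟩ : ∃ γ : pullback a f ⟶ pullback c f,
      γ ≫ pullback.fst c f = g ∧ γ ≫ pullback.snd c f = pullback.snd a f :=
    ⟨pullback.lift _ _ hγc, pullback.lift_fst _ _ _, pullback.lift_snd _ _ _⟩
  obtain ⟨π, hπ1, hπ2⟩ : ∃ π : pullback c f ⟶ pullback a f,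
      π ≫ pullback.fst a f = pullback.fst c f ≫ pr ∧ π ≫ pullback.snd a f = pullback.snd c f :=
    ⟨pullback.lift _ _ hπc, pullback.lift_fst _ _ _, pullback.lift_snd _ _ _⟩
  have hγπ : γ ≫ π = 𝟙 (pullback a f) := by
    apply pullback.hom_ext
    · rw [Category.assoc, hπ1, ← Category.assoc, hγ1, hg1, Category.id_comp]
    · rw [Category.assoc, hπ2, hγ2, Category.id_comp]
  haveI : Etale (pullback.snd a f) := MorphismProperty.pullback_snd (P := @Etale) _ _ inferInstance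
  haveI : IsFinite (pullback.snd a f) :=
    MorphismProperty.pullback_snd (P := @IsFinite) _ _ inferInstance
  haveI : Etale (pullback.snd c f) := MorphismProperty.pullback_snd (P := @Etale) _ _ inferInstance
  haveI : IsFinite (pullback.snd c f) :=
    MorphismProperty.pullback_snd (P := @IsFinite) _ _ inferInstance
  haveI : Etale π := MorphismProperty.of_postcomp (W := @Etale) (W' := @Etale) π (pullback.snd a f)
    inferInstance (by rw [hπ2]; infer_instance)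
  haveI : IsFinite π := MorphismProperty.of_postcomp (W := @IsFinite) (W' := @IsSeparated) π
    (pullback.snd a f) inferInstance (by rw [hπ2]; infer_instance)
  obtain ⟨hγo, hγcl⟩ := section_props γ π hγπ
  haveI := hγo
  obtain ⟨U, hU, hUγ⟩ := hLc (Set.range γ.base) ⟨hγcl, γ.isOpenEmbedding.isOpen_range⟩
  exact exists_section_of_opens f a c pr hpr hD g hg1 γ π hγ1 hγπ hπ1 hπ2 ⟨U, hU.2⟩ hU.1 hUγ

theorem exists_lift {X Y : Scheme.{u}} (f : X ⟶ Y)
    (hD : ∀ U : Set Y, IsOpen U → IsClosed U → U.Nonempty → (U ∩ Set.range f.base).Nonempty)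
    (hL : ∀ (W : Scheme.{u}) (c : W ⟶ Y) [IsFinite c] [Etale c] (V : Set ↥(pullback c f)),
      IsClopen V → ∃ U : Set W, IsClopen U ∧ (pullback.fst c f).base ⁻¹' U = V)
    {A B : Scheme.{u}} (a : A ⟶ Y) (b : B ⟶ Y) [IsFinite a] [Etale a] [IsFinite b] [Etale b]
    (α : pullback a f ⟶ pullback b f) (hα : α ≫ pullback.snd b f = pullback.snd a f) :
    ∃ φ : A ⟶ B, φ ≫ b = a ∧ pullback.fst a f ≫ φ = α ≫ pullback.fst b f := by
  have hg : pullback.fst a f ≫ a = (α ≫ pullback.fst b f) ≫ b := by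
    rw [Category.assoc, pullback.condition (f := b) (g := f), ← Category.assoc, hα,
      pullback.condition]
  haveI : IsFinite (pullback.fst a b) :=
    MorphismProperty.pullback_fst (P := @IsFinite) _ _ inferInstance
  haveI : Etale (pullback.fst a b) :=
    MorphismProperty.pullback_fst (P := @Etale) _ _ inferInstance
  haveI : IsFinite (pullback.fst a b ≫ a) := inferInstance
  haveI : Etale (pullback.fst a b ≫ a) := inferInstance
  obtain ⟨s, hs1, hs2⟩ := exists_section f a (pullback.fst a b ≫ a)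
    (pullback.fst a b) rfl hD (hL _ _)
    (pullback.lift (pullback.fst a f) (α ≫ pullback.fst b f) hg)
    (pullback.lift_fst _ _ _)
  refine ⟨s ≫ pullback.snd a b, ?_, ?_⟩
  · rw [Category.assoc, ← pullback.condition, ← Category.assoc, hs1, Category.id_comp]
  · rw [← Category.assoc, hs2, pullback.lift_snd]

/-- Fullness of `FEt.restrict f` from descent of clopen subsets. -/
theorem full_of_clopen {X Y : Scheme.{u}} (f : X ⟶ Y)
    (hD : ∀ U : Set Y, IsOpen U → IsClosed U → U.Nonempty → (U ∩ Set.range f.base).Nonempty)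
    (hL : ∀ (W : Scheme.{u}) (c : W ⟶ Y) [IsFinite c] [Etale c] (V : Set ↥(pullback c f)),
      IsClopen V → ∃ U : Set W, IsClopen U ∧ (pullback.fst c f).base ⁻¹' U = V) :
    (FEt.restrict f).Full := by
  refine ⟨fun {Z₁ Z₂} α => ?_⟩
  haveI : IsFinite Z₁.hom := Z₁.prop.1
  haveI : Etale Z₁.hom := Z₁.prop.2
  haveI : IsFinite Z₂.hom := Z₂.prop.1
  haveI : Etale Z₂.hom := Z₂.prop.2
  have hα : α.left ≫ pullback.snd Z₂.hom f = pullback.snd Z₁.hom f :=
    MorphismProperty.Over.w α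
  obtain ⟨φ, hφ1, hφ2⟩ := exists_lift f hD hL Z₁.hom Z₂.hom α.left hα
  refine ⟨MorphismProperty.Over.homMk φ hφ1 trivial, ?_⟩
  apply MorphismProperty.Over.Hom.ext
  have k1 : ((FEt.restrict f).map (MorphismProperty.Over.homMk φ hφ1 trivial)).left ≫
      pullback.fst Z₂.hom f = pullback.fst Z₁.hom f ≫ φ := pullback.lift_fst _ _ _
  have k2 : ((FEt.restrict f).map (MorphismProperty.Over.homMk φ hφ1 trivial)).left ≫
      pullback.snd Z₂.hom f = pullback.snd Z₁.hom f := pullback.lift_snd _ _ _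
  exact pullback.hom_ext (k1.trans hφ2) (k2.trans hα.symm)

/-- Full faithfulness from: `f` surjective, and for every finite étale `W → Y` the projection
`W ×_Y X → W` is open or closed, and all fibres of `f` over field-valued points are preconnected. -/
theorem fullyFaithful_of_fibres {X Y : Scheme.{u}} (f : X ⟶ Y) (hs : Function.Surjective f.base)
    (hoc : ∀ (W : Scheme.{u}) (c : W ⟶ Y) [IsFinite c] [Etale c],
      IsClosedMap (pullback.fst c f).base ∨ IsOpenMap (pullback.fst c f).base)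
    (hfib : ∀ (K : Type u) [Field K] (y : Spec (CommRingCat.of K) ⟶ Y),
      PreconnectedSpace ↥(pullback f y)) :
    (FEt.restrict f).Full ∧ (FEt.restrict f).Faithful := by
  have hD : ∀ U : Set Y, IsOpen U → IsClosed U → U.Nonempty →
      (U ∩ Set.range f.base).Nonempty := by
    rintro U - - ⟨y, hy⟩
    obtain ⟨x, rfl⟩ := hs y
    exact ⟨f.base x, hy, x, rfl⟩
  refine ⟨full_of_clopen f hD ?_, FEtFaithfulH4.faithful_of_clopen f hD⟩
  intro W c _ _ V hV
  refine exists_clopen_of_fibres (pullback.fst c f).base (hoc W c) ?_ ?_ V hV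
  · intro w
    obtain ⟨x, hx⟩ := hs (c.base w)
    obtain ⟨q, hq1, -⟩ := Scheme.Pullback.exists_preimage_pullback (f := c) (g := f) w x hx.symm
    exact ⟨q, hq1⟩
  · intro w
    have sqA := IsPullback.of_hasPullback (pullback.fst c f) (W.fromSpecResidueField w)
    have sqB := IsPullback.of_hasPullback c f
    have sq := sqA.paste_horiz sqB.flip
    haveI : PreconnectedSpace ↥(pullback f (W.fromSpecResidueField w ≫ c)) :=
      hfib (W.residueField w) (W.fromSpecResidueField w ≫ c)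
    haveI : PreconnectedSpace
        ↥(pullback (pullback.fst c f) (W.fromSpecResidueField w)) := by
      refine ⟨?_⟩
      have hsur : Function.Surjective (sq.isoPullback.inv).base := by
        intro t
        refine ⟨(sq.isoPullback.hom).base t, ?_⟩
        rw [← Scheme.Hom.comp_apply, Iso.hom_inv_id]
        rfl
      rw [← Set.range_eq_univ.mpr hsur]
      exact isPreconnected_range (sq.isoPullback.inv).continuous
    have hrange : (pullback.fst c f).base ⁻¹' {w} =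
        Set.range (pullback.fst (pullback.fst c f) (W.fromSpecResidueField w)).base := by
      rw [Scheme.Pullback.range_fst, Scheme.range_fromSpecResidueField]
    rw [hrange]
    exact isPreconnected_range
      (pullback.fst (pullback.fst c f) (W.fromSpecResidueField w)).continuous

end Groth.Agent.Lib.FEtFullH4
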