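import Mathlib
import Groth.Agent.Lib.SchemeIdem_helper3

/-! Clopen subsets along a tower of closed subschemes with the same support, from a ring-level
Lefschetz condition (helper5). APPEND-ONLY once landed. -/

set_option autoImplicit false
universe u
open CategoryTheory AlgebraicGeometry Opposite TopologicalSpace

namespace Groth.Agent.Lib.FEtLef

open Groth.Agent.Lib.SchemeIdemH3

section TowerIdem

variable {W : Scheme.{u}} (Z : ℕ → Scheme.{u}) (j : ∀ n, Z n ⟶ W) (τ : ∀ n, Z n ⟶ Z (n + 1))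
  (hτ : ∀ n, τ n ≫ j (n + 1) = j n)
  (hemb : ∀ n, Topology.IsClosedEmbedding (j n))
  (hrange : ∀ n, Set.range (j n) = Set.range (j 0))
  (HInj : ∀ s s' : Γ(W, ⊤), (∀ n, (j n).appTop.hom s = (j n).appTop.hom s') → s = s')
  (HSurj : ∀ t : ∀ n, Γ(Z n, ⊤), (∀ n, (τ n).appTop.hom (t (n + 1)) = t n) →
    ∃ s : Γ(W, ⊤), ∀ n, (j n).appTop.hom s = t n)

include hrange HInj in
/-- A clopen subset of `W` not meeting the common support is empty. -/
theorem clopen_eq_empty (D : Set W) (hD : IsClopen D) (h0 : D ∩ Set.range (j 0) = ∅) : D = ∅ := by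
  obtain ⟨e, he, heD⟩ := exists_idem_of_isClopen W D hD
  have key : ∀ n, (j n).appTop.hom e = 0 := by
    intro n
    refine eq_of_basicOpen_eq (Z n) (he.map _) IsIdempotentElem.zero ?_
    rw [Scheme.basicOpen_zero]
    refine Opens.ext (Set.eq_empty_of_forall_notMem fun x hx => ?_)
    have hx' : x ∈ (j n) ⁻¹ᵁ W.basicOpen e := by
      rw [Scheme.preimage_basicOpen_top]
      exact hx
    have h1 : (j n) x ∈ D := by
      rw [← heD]; exact hx'
    have h2 : (j n) x ∈ Set.range (j 0) := by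
      rw [← hrange n]; exact Set.mem_range_self x
    have : (j n) x ∈ D ∩ Set.range (j 0) := ⟨h1, h2⟩
    rw [h0] at this
    exact this
  have he0 : e = 0 := HInj e 0 fun n => by rw [key n, map_zero]
  rw [← heD, he0, Scheme.basicOpen_zero]
  rfl

include hτ hemb hrange HInj HSurj in
/-- Every clopen subset of `Z 0` is the trace of a clopen subset of `W`. -/
theorem exists_clopen_lift (C0 : Set (Z 0)) (hC0 : IsClopen C0) :
    ∃ C : Set W, IsClopen C ∧ (j 0) ⁻¹' C = C0 := by
  have hemb0 := hemb 0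
  obtain ⟨O, hO, hOC⟩ := hemb0.isInducing.isOpen_iff.mp hC0.isOpen
  have hF : IsClosed ((j 0) '' C0) := hemb0.isClosedMap _ hC0.isClosed
  have hlevel : ∀ n (x : Z n), ∃ x0 : Z 0, (j 0) x0 = (j n) x := by
    intro n x
    have : (j n) x ∈ Set.range (j 0) := by
      rw [← hrange n]; exact Set.mem_range_self x
    exact this
  have hclopen : ∀ n : ℕ, IsClopen ((j n) ⁻¹' ((j 0) '' C0)) := by
    intro n
    refine ⟨hF.preimage (j n).continuous, ?_⟩
    have : (j n) ⁻¹' ((j 0) '' C0) = (j n) ⁻¹' O := by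
      ext x
      constructor
      · rintro ⟨x0, hx0, hx0x⟩
        show (j n) x ∈ O
        rw [← hx0x]
        have : x0 ∈ (j 0) ⁻¹' O := by rw [hOC]; exact hx0
        exact this
      · intro hx
        obtain ⟨x0, hx0⟩ := hlevel n x
        refine ⟨x0, ?_, hx0⟩
        rw [← hOC]
        show (j 0) x0 ∈ O
        rw [hx0]
        exact hx
    rw [this]
    exact hO.preimage (j n).continuous
  choose s hs1 hs2 using fun n => exists_idem_of_isClopen (Z n) _ (hclopen n)
  have hcompat : ∀ n, (τ n).appTop.hom (s (n + 1)) = s n := by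
    intro n
    refine eq_of_basicOpen_eq _ ((hs1 (n + 1)).map _) (hs1 n) (Opens.ext ?_)
    have h1 := Scheme.preimage_basicOpen_top (τ n) (s (n + 1))
    have h2 : ((τ n) ⁻¹ᵁ (Z (n + 1)).basicOpen (s (n + 1)) : Set _) =
        (j n) ⁻¹' ((j 0) '' C0) := by
      show (τ n) ⁻¹' ((Z (n + 1)).basicOpen (s (n + 1)) : Set _) = _
      rw [hs2 (n + 1)]
      ext x
      show (j (n + 1)) ((τ n) x) ∈ ((j 0) '' C0) ↔ (j n) x ∈ ((j 0) '' C0)
      rw [← Scheme.Hom.comp_apply, hτ n]
    rw [hs2 n, ← h2, h1]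
  obtain ⟨e, he⟩ := HSurj s hcompat
  have hidem : IsIdempotentElem e := by
    refine HInj (e * e) e fun n => ?_
    rw [map_mul, he n, (hs1 n).eq]
  refine ⟨(W.basicOpen e : Set W), isClopen_basicOpen W hidem, ?_⟩
  have h1 := Scheme.preimage_basicOpen_top (j 0) e
  have h2 : (j 0) ⁻¹' (W.basicOpen e : Set W) = ((Z 0).basicOpen ((j 0).appTop.hom e) : Set _) :=
    congrArg (fun U : (Z 0).Opens => (U : Set (Z 0))) h1
  rw [h2, he 0, hs2 0]
  exact Set.preimage_image_eq _ hemb0.injective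

end TowerIdem

end Groth.Agent.Lib.FEtLef
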