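import Mathlib
import Groth.Prelude.Def_Fitting

set_option autoImplicit false
set_option linter.unusedVariables false
set_option linter.unusedTactic false
set_option linter.unreachableTactic false
set_option linter.unusedSectionVars false
set_option linter.style.haveILetI false
set_option linter.deprecated false
set_option maxHeartbeats 1600000

universe u

namespace Groth.Agent.Lib.NormQAffH4

open CategoryTheory AlgebraicGeometry TopologicalSpace Opposite

variable {X Y : Scheme.{u}}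

/-- A finite morphism with a norm of positive degree is surjective. -/
theorem surjective_of_norm (π : X ⟶ Y) [IsFinite π] (d : ℕ) (N : Nrm.NormOfDegree π d) :
    Function.Surjective π := by
  intro y
  by_contra hy
  have hcl : IsClosed (Set.range π) := π.isClosedMap.isClosed_range
  let U : Y.Opens := ⟨(Set.range π)ᶜ, hcl.isOpen_compl⟩
  have hyU : y ∈ U := hy
  have hpre : π ⁻¹ᵁ U = ⊥ := by
    rw [eq_bot_iff]
    intro x hx
    exact absurd (Set.mem_range_self x) hx
  haveI hsub : Subsingleton Γ(X, π ⁻¹ᵁ U) := by rw [hpre]; infer_instance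
  have h1 := N.norm_app U 1
  have h0 := N.norm_app U 0
  have h10 : (1 : Γ(Y, U)) ^ d = 0 ^ d :=
    h1.symm.trans ((congrArg (N.norm U) (Subsingleton.elim _ _)).trans h0)
  rw [one_pow, zero_pow (by have := N.one_le; omega)] at h10
  have hU : Y.basicOpen (1 : Γ(Y, U)) = U := Y.basicOpen_of_isUnit isUnit_one
  rw [h10, Y.basicOpen_zero] at hU
  rw [← hU] at hyU
  exact hyU

/-- In a quasi-affine scheme, a finite set of points inside an open `W` lies in a basic open of a
global function contained in `W`. -/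
lemma exists_basicOpen_of_finite [X.IsQuasiAffine] (W : X.Opens) (F : Set X) (hF : F.Finite)
    (hFW : F ⊆ W) (x₀ : X) :
    ∃ r : Γ(X, ⊤), (∀ x ∈ F, x ∈ X.basicOpen r) ∧ X.basicOpen r ≤ W := by
  classical
  let j : X → PrimeSpectrum Γ(X, ⊤) := fun x => X.toSpecΓ x
  have hjinj : Function.Injective j := X.toSpecΓ.isOpenEmbedding.injective
  have hjopen : IsOpen (j '' (W : Set X)) := X.toSpecΓ.isOpenEmbedding.isOpenMap _ W.isOpen
  set C : Set (PrimeSpectrum Γ(X, ⊤)) := (j '' (W : Set X))ᶜ with hC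
  have hCcl : IsClosed C := hjopen.isClosed_compl
  set I : Ideal Γ(X, ⊤) := PrimeSpectrum.vanishingIdeal C with hI
  have hnot : ∀ x ∈ F, ¬ I ≤ (j x).asIdeal := by
    intro x hx hle
    have h1 : j x ∈ PrimeSpectrum.zeroLocus (I : Set Γ(X, ⊤)) := hle
    rw [hI, PrimeSpectrum.zeroLocus_vanishingIdeal_eq_closure, hCcl.closure_eq] at h1
    exact h1 ⟨x, hFW hx, rfl⟩
  have hunion : ¬ ((I : Set Γ(X, ⊤)) ⊆
      ⋃ x ∈ (hF.toFinset : Set X), ((j x).asIdeal : Set Γ(X, ⊤))) := by
    intro hsub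
    obtain ⟨x, hx, hle⟩ := (Ideal.subset_union_prime (s := hF.toFinset)
      (f := fun x => (j x).asIdeal) x₀ x₀ (fun i _ _ _ => (j i).isPrime)).mp hsub
    exact hnot x (hF.mem_toFinset.mp hx) hle
  obtain ⟨r, hrI, hr⟩ := Set.not_subset.mp hunion
  refine ⟨r, fun x hx => ?_, fun x hx => ?_⟩
  · have h1 : r ∉ (j x).asIdeal := fun h =>
      hr (Set.mem_biUnion (show x ∈ (hF.toFinset : Set X) from
        Finset.mem_coe.mpr (hF.mem_toFinset.mpr hx)) h)
    have h3 : x ∈ X.toSpecΓ ⁻¹ᵁ PrimeSpectrum.basicOpen r := h1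
    rwa [X.toSpecΓ_preimage_basicOpen] at h3
  · have h3 : x ∈ X.toSpecΓ ⁻¹ᵁ PrimeSpectrum.basicOpen r := by
      rw [X.toSpecΓ_preimage_basicOpen]; exact hx
    have h1 : r ∉ (j x).asIdeal := h3
    by_contra hxW
    have hjC : j x ∈ C := by
      rintro ⟨w, hw, hwx⟩
      exact hxW (hjinj hwx ▸ hw)
    exact h1 ((PrimeSpectrum.mem_vanishingIdeal _ _).mp hrI (j x) hjC)

theorem isQuasiAffine_of_norm (π : X ⟶ Y) [IsFinite π] (d : ℕ) (N : Nrm.NormOfDegree π d)
    [X.IsQuasiAffine] : Y.IsQuasiAffine := by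
  have hsurj := surjective_of_norm π d N
  haveI : CompactSpace Y := hsurj.compactSpace π.continuous
  refine Scheme.IsQuasiAffine.of_forall_exists_mem_basicOpen Y (fun y => ?_)
  obtain ⟨V, hV, hyV, -⟩ := exists_isAffineOpen_mem_and_subset (x := y) (U := ⊤) trivial
  obtain ⟨x₀, hx₀⟩ := hsurj y
  have hFfin : (π ⁻¹' {y}).Finite := Scheme.Hom.finite_preimage_singleton π y
  obtain ⟨r, hrF, hrW⟩ := exists_basicOpen_of_finite (π ⁻¹ᵁ V) (π ⁻¹' {y}) hFfin
    (fun x hx => by
      show π x ∈ V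
      rw [show π x = y from hx]; exact hyV) x₀
  set f' : Γ(X, π ⁻¹ᵁ ⊤) :=
    (X.presheaf.map (homOfLE (le_top : π ⁻¹ᵁ (⊤ : Y.Opens) ≤ ⊤)).op).hom r with hf'
  have hbo : X.basicOpen f' = (π ⁻¹ᵁ ⊤) ⊓ X.basicOpen r := X.basicOpen_res r _
  have hbo' : X.basicOpen f' = X.basicOpen r := by
    rw [hbo]; exact inf_eq_right.mpr (fun x _ => trivial)
  set t : Γ(Y, ⊤) := N.norm ⊤ f' with ht
  have hle : Y.basicOpen t ≤ V := by
    intro y' hy'
    obtain ⟨x', rfl⟩ := hsurj y'
    by_contra hnot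
    have hx'r : x' ∉ X.basicOpen f' := by
      rw [hbo']
      intro h; exact hnot (hrW h)
    have hxtop : π.base x' ∈ (⊤ : Y.Opens) := trivial
    have hnu : ¬ IsUnit ((X.presheaf.germ (π ⁻¹ᵁ ⊤) x' hxtop) f') := fun hu =>
      hx'r ((X.mem_basicOpen f' x' hxtop).mpr hu)
    have hmem := N.norm_mem ⊤ f' x' hxtop ((IsLocalRing.mem_maximalIdeal _).mpr hnu)
    have hnu' := (IsLocalRing.mem_maximalIdeal _).mp hmem
    exact hnu' ((Y.mem_basicOpen t (π.base x') hxtop).mp hy')
  have hymem : y ∈ Y.basicOpen t := by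
    have hZcl : IsClosed (π '' ((X.basicOpen r : Set X)ᶜ)) :=
      π.isClosedMap _ (X.basicOpen r).isOpen.isClosed_compl
    let V' : Y.Opens := ⟨(π '' ((X.basicOpen r : Set X)ᶜ))ᶜ, hZcl.isOpen_compl⟩
    have hyV' : y ∈ V' := by
      rintro ⟨x, hx, hxy⟩
      exact hx (hrF x hxy)
    have hpre : π ⁻¹ᵁ V' ≤ X.basicOpen f' := by
      intro x hx
      rw [hbo']
      by_contra hxr
      exact hx ⟨x, hxr, rfl⟩
    let i : V' ⟶ ⊤ := homOfLE le_top
    set g : Γ(X, π ⁻¹ᵁ V') := (X.presheaf.map ((Opens.map π.base).map i).op).hom f' with hg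
    have hgu : IsUnit g := by
      refine RingedSpace.isUnit_of_isUnit_germ X.toLocallyRingedSpace.toRingedSpace
        (π ⁻¹ᵁ V') g (fun x hx => ?_)
      have e := X.presheaf.germ_res_apply ((Opens.map π.base).map i) x hx f'
      have hu : IsUnit ((X.presheaf.germ (π ⁻¹ᵁ ⊤) x trivial) f') :=
        (X.mem_basicOpen f' x trivial).mp (hpre hx)
      exact (congrArg IsUnit e).mpr hu
    have hNu : IsUnit (N.norm V' g) := hgu.map (N.norm V')
    have hres := N.norm_res i f'
    have hu2 : IsUnit ((Y.presheaf.map i.op) t) := (congrArg IsUnit hres).mpr hNu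
    have hu3 : IsUnit ((Y.presheaf.germ ⊤ y trivial) t) := by
      have e := Y.presheaf.germ_res_apply i y hyV' t
      exact (congrArg IsUnit e).mp (hu2.map (Y.presheaf.germ V' y hyV').hom)
    exact (Y.mem_basicOpen t y trivial).mpr hu3
  refine ⟨t, ?_, hymem⟩
  have hres : Y.basicOpen ((Y.presheaf.map (homOfLE (le_top : V ≤ ⊤)).op).hom t)
      = V ⊓ Y.basicOpen t := Y.basicOpen_res t _
  have heq : Y.basicOpen t = Y.basicOpen ((Y.presheaf.map (homOfLE (le_top : V ≤ ⊤)).op).hom t) := by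
    rw [hres]; exact (inf_eq_right.mpr hle).symm
  rw [heq]
  exact hV.basicOpen _

theorem main8880 (π : X ⟶ Y) [IsFinite π] (d : ℕ) (hN : Nrm.HasNorm π d)
    (hX : X.IsQuasiAffine) : Y.IsQuasiAffine := by
  obtain ⟨N⟩ := hN
  haveI := hX
  exact isQuasiAffine_of_norm π d N

end Groth.Agent.Lib.NormQAffH4
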