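import Mathlib
import Groth.Prelude.Def_Fitting
import Groth.Prelude.Def_Mor2
import Groth.Agent.Lib.NormQAff_helper4

set_option autoImplicit false
set_option linter.unusedVariables false
set_option linter.unusedTactic false
set_option linter.unreachableTactic false
set_option linter.unusedSectionVars false
set_option linter.style.haveILetI false
set_option linter.deprecated false
set_option maxHeartbeats 1600000

/-!
# The norm of a finite locally free morphism

For `π : X ⟶ Y` finite, flat and locally of finite presentation, the local norms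
`Algebra.norm Γ(Y, V) : Γ(X, π⁻¹V) → Γ(Y, V)` over the affine opens `V` on which `π_* 𝒪_X` is free
glue to a multiplicative map `Γ(X, π⁻¹U) → Γ(Y, U)` for every open `U`, compatible with
restrictions, with `N(s)` vanishing at `π x` whenever `s` vanishes at `x` (Cayley–Hamilton), and
with `N(π^* g) = g ^ d` when the rank is constant equal to `d`.
-/

universe u

namespace Groth.Agent.Lib.FlatNormH4

open CategoryTheory AlgebraicGeometry TopologicalSpace Opposite

section Alg

variable {R S R' S' : Type u} [CommRing R] [CommRing S] [CommRing R'] [CommRing S']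

theorem isLocalization_algebraMapSubmonoid_powers (φ : R →+* S) (σ : S →+* S') (r : R)
    (h2 : @IsLocalization.Away S _ (φ r) S' _ σ.toAlgebra) :
    letI := φ.toAlgebra
    @IsLocalization S _ (Algebra.algebraMapSubmonoid S (Submonoid.powers r)) S' _ σ.toAlgebra := by
  letI := φ.toAlgebra
  have e : Algebra.algebraMapSubmonoid S (Submonoid.powers r) = Submonoid.powers (φ r) :=
    Submonoid.map_powers (algebraMap R S) r
  rw [e]; exact h2

/-- Freeness and norms are compatible with localization away from an element, all algebra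
structures being given by ring homomorphisms. -/
theorem norm_loc (φ : R →+* S) (φ' : R' →+* S') (ρ : R →+* R') (σ : S →+* S')
    (hcomm : ∀ x, σ (φ x) = φ' (ρ x)) (r : R)
    (h1 : @IsLocalization.Away R _ r R' _ ρ.toAlgebra)
    (h2 : @IsLocalization.Away S _ (φ r) S' _ σ.toAlgebra)
    (hfree : letI := φ.toAlgebra; Module.Free R S)
    (hfin : letI := φ.toAlgebra; Module.Finite R S) :
    (letI := φ'.toAlgebra; Module.Free R' S') ∧
    ∀ a : S, (letI := φ'.toAlgebra; Algebra.norm R' (σ a))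
      = ρ (letI := φ.toAlgebra; Algebra.norm R a) := by
  letI iRS := φ.toAlgebra
  letI iR'S' := φ'.toAlgebra
  letI iRR' := ρ.toAlgebra
  letI iSS' := σ.toAlgebra
  letI iRS' : Algebra R S' := (φ'.comp ρ).toAlgebra
  haveI : IsScalarTower R R' S' := IsScalarTower.of_algebraMap_eq (fun _ => rfl)
  haveI : IsScalarTower R S S' := IsScalarTower.of_algebraMap_eq (fun x => (hcomm x).symm)
  haveI : IsLocalization (Submonoid.powers r) R' := h1
  haveI : IsLocalization (Algebra.algebraMapSubmonoid S (Submonoid.powers r)) S' :=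
    isLocalization_algebraMapSubmonoid_powers φ σ r h2
  haveI : Module.Free R S := hfree
  haveI : Module.Finite R S := hfin
  refine ⟨Module.Free.of_basis ((Module.Free.chooseBasis R S).localizationLocalization R'
    (Submonoid.powers r) S'), fun a => ?_⟩
  exact Algebra.norm_localization R (Submonoid.powers r) a

/-- Transport of freeness from the standard localizations to arbitrary ones. -/
theorem free_transport (φ : R →+* S) (φ' : R' →+* S') (ρ : R →+* R') (σ : S →+* S')
    (hcomm : ∀ x, σ (φ x) = φ' (ρ x)) (r : R)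
    (h1 : @IsLocalization.Away R _ r R' _ ρ.toAlgebra)
    (h2 : @IsLocalization.Away S _ (φ r) S' _ σ.toAlgebra)
    (hfree : letI := φ.toAlgebra; Module.Free (Localization (Submonoid.powers r))
      (LocalizedModule (Submonoid.powers r) S)) :
    (letI := φ'.toAlgebra; Module.Free R' S') := by
  letI iRS := φ.toAlgebra
  letI iR'S' := φ'.toAlgebra
  letI iRR' := ρ.toAlgebra
  letI iSS' := σ.toAlgebra
  letI iRS' : Algebra R S' := (φ'.comp ρ).toAlgebra
  haveI : IsScalarTower R R' S' := IsScalarTower.of_algebraMap_eq (fun _ => rfl)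
  haveI : IsScalarTower R S S' := IsScalarTower.of_algebraMap_eq (fun x => (hcomm x).symm)
  haveI : IsLocalization (Submonoid.powers r) R' := h1
  haveI : IsLocalization (Algebra.algebraMapSubmonoid S (Submonoid.powers r)) S' :=
    isLocalization_algebraMapSubmonoid_powers φ σ r h2
  haveI hfree' : Module.Free (Localization (Submonoid.powers r))
      (LocalizedModule (Submonoid.powers r) S) := hfree
  let e₁ : Localization (Submonoid.powers r) ≃ₐ[R] R' :=
    IsLocalization.algEquiv (Submonoid.powers r) (Localization (Submonoid.powers r)) R'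
  letI modL : Module (Localization (Submonoid.powers r)) S' :=
    Module.compHom S' (e₁.toRingEquiv.toRingHom)
  haveI : IsScalarTower R (Localization (Submonoid.powers r)) S' := ⟨fun a b x => by
    show e₁ (a • b) • x = a • (e₁ b • x)
    rw [map_smul, smul_assoc]⟩
  let f : S →ₗ[R] S' := (IsScalarTower.toAlgHom R S S').toLinearMap
  haveI : IsLocalizedModule (Submonoid.powers r) f :=
    isLocalizedModule_iff_isLocalization.mpr inferInstance
  let e : LocalizedModule (Submonoid.powers r) S ≃ₗ[R] S' :=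
    IsLocalizedModule.iso (Submonoid.powers r) f
  let e' : LocalizedModule (Submonoid.powers r) S ≃ₗ[Localization (Submonoid.powers r)] S' :=
    e.extendScalarsOfIsLocalization (Submonoid.powers r) (Localization (Submonoid.powers r))
  haveI : Module.Free (Localization (Submonoid.powers r)) S' := Module.Free.of_equiv e'
  exact Module.Free.of_basis
    ((Module.Free.chooseBasis (Localization (Submonoid.powers r)) S').mapCoeffs e₁.toRingEquiv
      (fun c x => rfl))

/-- A finitely presented flat module is free on a basic open neighbourhood of any prime. -/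
theorem exists_free_away {R : Type u} [CommRing R] {N : Type u} [AddCommGroup N] [Module R N]
    [Module.FinitePresentation R N] [Module.Flat R N] (p : Ideal R) [p.IsPrime] :
    ∃ r : R, r ∉ p ∧ Module.Free (Localization (Submonoid.powers r))
      (LocalizedModule (Submonoid.powers r) N) := by
  haveI : Module.Finite R N := inferInstance
  haveI : Module.Free (Localization.AtPrime p) (LocalizedModule p.primeCompl N) :=
    Module.free_of_flat_of_isLocalRing
  obtain ⟨r, hr, hfree, -⟩ := Module.FinitePresentation.exists_free_localizedModule_powers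
    p.primeCompl (LocalizedModule.mkLinearMap p.primeCompl N) (Localization.AtPrime p)
  exact ⟨r, hr, hfree⟩

/-- Cayley–Hamilton: an element of a finite free algebra divides its norm. -/
theorem exists_mul_eq_norm {R S : Type u} [CommRing R] [CommRing S] [Algebra R S]
    [Module.Free R S] [Module.Finite R S] (a : S) :
    ∃ c : S, algebraMap R S (Algebra.norm R a) = a * c := by
  obtain ⟨f, hf⟩ : ∃ f : S →ₗ[R] S, f = Algebra.lmul R S a := ⟨_, rfl⟩
  have h0 : Polynomial.aeval f f.charpoly = 0 := LinearMap.aeval_self_charpoly f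
  have h1 : Polynomial.aeval a f.charpoly = 0 := by
    have h2 : Polynomial.aeval (Algebra.lmul R S a) f.charpoly
        = Algebra.lmul R S (Polynomial.aeval a f.charpoly) :=
      Polynomial.aeval_algHom_apply (Algebra.lmul R S) a f.charpoly
    rw [← hf, h0] at h2
    have h3 : (Algebra.lmul R S (Polynomial.aeval a f.charpoly)) 1 = 0 := by
      rw [← h2]; rfl
    have h4 : Polynomial.aeval a f.charpoly * 1 = 0 := h3
    rwa [mul_one] at h4
  have hdet : Algebra.norm R a = (-1) ^ Module.finrank R S * f.charpoly.coeff 0 := by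
    rw [Algebra.norm_apply, ← hf]; exact LinearMap.det_eq_sign_charpoly_coeff f
  have hsplit : Polynomial.X * f.charpoly.divX + Polynomial.C (f.charpoly.coeff 0) = f.charpoly :=
    Polynomial.X_mul_divX_add _
  have h4 : a * Polynomial.aeval a f.charpoly.divX + algebraMap R S (f.charpoly.coeff 0) = 0 := by
    have h5 := congrArg (Polynomial.aeval a) hsplit
    rw [h1, map_add, map_mul, Polynomial.aeval_X, Polynomial.aeval_C] at h5
    exact h5
  have h5 : algebraMap R S (f.charpoly.coeff 0) = - (a * Polynomial.aeval a f.charpoly.divX) :=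
    eq_neg_of_add_eq_zero_right h4
  refine ⟨(-1) ^ (Module.finrank R S + 1) * Polynomial.aeval a f.charpoly.divX, ?_⟩
  rw [hdet, map_mul, map_pow, map_neg, map_one, h5, pow_succ]
  ring

end Alg

section Geo

variable {X Y : Scheme.{u}}

/-- Composite of restrictions is a restriction. -/
theorem res_res (Z : Scheme.{u}) {A B C : Z.Opens} (f : B ⟶ A) (g : C ⟶ B) (h : C ⟶ A)
    (s : Γ(Z, A)) :
    (Z.presheaf.map g.op).hom ((Z.presheaf.map f.op).hom s) = (Z.presheaf.map h.op).hom s := by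
  have e : Z.presheaf.map h.op = Z.presheaf.map f.op ≫ Z.presheaf.map g.op :=
    Z.presheaf.map_comp f.op g.op
  rw [e]; rfl

/-- Naturality of `π.app` with respect to restriction, elementwise. -/
theorem app_res (π : X ⟶ Y) {U V : Y.Opens} (i : V ⟶ U) (g : Γ(Y, U)) :
    (X.presheaf.map ((Opens.map π.base).map i).op).hom ((π.app U).hom g)
      = (π.app V).hom ((Y.presheaf.map i.op).hom g) :=
  (congrArg (fun f => f.hom g) (π.naturality i.op)).symm

/-- Sections of `X` over the preimage of `V` as an algebra over sections of `Y` over `V`. -/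
@[reducible] def secAlg (π : X ⟶ Y) (V : Y.Opens) : Algebra Γ(Y, V) Γ(X, π ⁻¹ᵁ V) :=
  (π.app V).hom.toAlgebra

attribute [local instance] secAlg

/-- An affine open of `Y` over which `π_* 𝒪_X` is free. -/
def IsFreeOpen (π : X ⟶ Y) (V : Y.Opens) : Prop :=
  IsAffineOpen V ∧ Module.Free Γ(Y, V) Γ(X, π ⁻¹ᵁ V)

theorem loc_data (π : X ⟶ Y) [IsAffineHom π] (V : Y.Opens) (hV : IsAffineOpen V) (r : Γ(Y, V)) (W : Y.Opens)
    (hW : W = Y.basicOpen r) (i : W ⟶ V) :
    (∀ x, (X.presheaf.map ((Opens.map π.base).map i).op).hom ((π.app V).hom x)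
        = (π.app W).hom ((Y.presheaf.map i.op).hom x)) ∧
    @IsLocalization.Away Γ(Y, V) _ r Γ(Y, W) _ (Y.presheaf.map i.op).hom.toAlgebra ∧
    @IsLocalization.Away Γ(X, π ⁻¹ᵁ V) _ ((π.app V).hom r) Γ(X, π ⁻¹ᵁ W) _
      (X.presheaf.map ((Opens.map π.base).map i).op).hom.toAlgebra := by
  refine ⟨fun x => app_res π i x, hV.isLocalization_of_eq_basicOpen r i hW, ?_⟩
  exact (hV.preimage π).isLocalization_of_eq_basicOpen ((π.app V).hom r)
    ((Opens.map π.base).map i) (by rw [hW]; exact Scheme.preimage_basicOpen π r)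

theorem finite_of_isAffineOpen (π : X ⟶ Y) [IsFinite π] (V : Y.Opens) (hV : IsAffineOpen V) :
    Module.Finite Γ(Y, V) Γ(X, π ⁻¹ᵁ V) :=
  IsFinite.finite_app π V hV

/-- A basic open of a free open is a free open, and the norms are compatible. -/
theorem isFreeOpen_basicOpen (π : X ⟶ Y) [IsFinite π] (V : Y.Opens) (hV : IsFreeOpen π V)
    (r : Γ(Y, V)) (W : Y.Opens) (hW : W = Y.basicOpen r) (i : W ⟶ V) :
    IsFreeOpen π W ∧ ∀ s : Γ(X, π ⁻¹ᵁ V),
      Algebra.norm Γ(Y, W) ((X.presheaf.map ((Opens.map π.base).map i).op).hom s)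
        = (Y.presheaf.map i.op).hom (Algebra.norm Γ(Y, V) s) := by
  obtain ⟨hVa, hfree⟩ := hV
  obtain ⟨hcomm, h1, h2⟩ := loc_data π V hVa r W hW i
  have hWa : IsAffineOpen W := by rw [hW]; exact hVa.basicOpen r
  obtain ⟨hfree', hnorm⟩ := norm_loc (π.app V).hom (π.app W).hom (Y.presheaf.map i.op).hom
    (X.presheaf.map ((Opens.map π.base).map i).op).hom hcomm r h1 h2 hfree
    (finite_of_isAffineOpen π V hVa)
  exact ⟨⟨hWa, hfree'⟩, hnorm⟩

/-- Free opens form a basis. -/
theorem exists_isFreeOpen (π : X ⟶ Y) [IsFinite π] [Flat π] [LocallyOfFinitePresentation π]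
    (U : Y.Opens) (y : Y) (hy : y ∈ U) :
    ∃ V : Y.Opens, IsFreeOpen π V ∧ y ∈ V ∧ V ≤ U := by
  obtain ⟨V₀, hV₀, hyV₀, hV₀U⟩ := exists_isAffineOpen_mem_and_subset (x := y) (U := U) hy
  have hV₀' : IsAffineOpen (π ⁻¹ᵁ V₀) := hV₀.preimage π
  have e : π.appLE V₀ (π ⁻¹ᵁ V₀) le_rfl = π.app V₀ := π.appLE_eq_app
  haveI hfin : Module.Finite Γ(Y, V₀) Γ(X, π ⁻¹ᵁ V₀) := finite_of_isAffineOpen π V₀ hV₀
  have hflat0 : (π.app V₀).hom.Flat := by
    have h := π.flat_appLE hV₀ hV₀' le_rfl
    rwa [e] at h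
  haveI hflat : Module.Flat Γ(Y, V₀) Γ(X, π ⁻¹ᵁ V₀) := hflat0
  have hfp0 : (π.app V₀).hom.FinitePresentation := by
    have h := π.finitePresentation_appLE hV₀ hV₀' le_rfl
    rwa [e] at h
  haveI hfp : Algebra.FinitePresentation Γ(Y, V₀) Γ(X, π ⁻¹ᵁ V₀) := hfp0
  haveI : Module.FinitePresentation Γ(Y, V₀) Γ(X, π ⁻¹ᵁ V₀) :=
    Module.FinitePresentation.of_finite_of_finitePresentation _ _
  obtain ⟨p, hp⟩ : ∃ p : PrimeSpectrum Γ(Y, V₀), hV₀.fromSpec p = y :=
    ⟨hV₀.primeIdealOf ⟨y, hyV₀⟩, hV₀.fromSpec_primeIdealOf ⟨y, hyV₀⟩⟩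
  haveI : p.asIdeal.IsPrime := p.isPrime
  obtain ⟨r, hr, hfree⟩ := exists_free_away (R := Γ(Y, V₀)) (N := Γ(X, π ⁻¹ᵁ V₀)) p.asIdeal
  refine ⟨Y.basicOpen r, ⟨hV₀.basicOpen r, ?_⟩, ?_, (Y.basicOpen_le r).trans hV₀U⟩
  · obtain ⟨hcomm, h1, h2⟩ :=
      loc_data π V₀ hV₀ r (Y.basicOpen r) rfl (homOfLE (Y.basicOpen_le r))
    exact free_transport (π.app V₀).hom (π.app (Y.basicOpen r)).hom _ _ hcomm r h1 h2 hfree
  · have h1 : p ∈ hV₀.fromSpec ⁻¹ᵁ Y.basicOpen r := by
      rw [hV₀.fromSpec_preimage_basicOpen r]; exact hr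
    have h2 : hV₀.fromSpec p ∈ Y.basicOpen r := h1
    rwa [hp] at h2

/-- `t` is a norm of `s`: it restricts to the algebra norm on every free open. -/
def IsNormOf (π : X ⟶ Y) (U : Y.Opens) (s : Γ(X, π ⁻¹ᵁ U)) (t : Γ(Y, U)) : Prop :=
  ∀ (V : Y.Opens) (_ : IsFreeOpen π V) (i : V ⟶ U),
    (Y.presheaf.map i.op).hom t
      = Algebra.norm Γ(Y, V) ((X.presheaf.map ((Opens.map π.base).map i).op).hom s)

theorem isNormOf_unique (π : X ⟶ Y) [IsFinite π] [Flat π] [LocallyOfFinitePresentation π]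
    (U : Y.Opens) (s : Γ(X, π ⁻¹ᵁ U)) (t t' : Γ(Y, U)) (h : IsNormOf π U s t)
    (h' : IsNormOf π U s t') : t = t' := by
  refine TopCat.Presheaf.section_ext Y.sheaf U t t' (fun y hy => ?_)
  obtain ⟨V, hV, hyV, hVU⟩ := exists_isFreeOpen π U y hy
  have e1 := Y.presheaf.germ_res_apply (homOfLE hVU) y hyV t
  have e2 := Y.presheaf.germ_res_apply (homOfLE hVU) y hyV t'
  have e3 : (Y.presheaf.map (homOfLE hVU).op).hom t = (Y.presheaf.map (homOfLE hVU).op).hom t' :=
    (h V hV (homOfLE hVU)).trans (h' V hV (homOfLE hVU)).symm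
  exact e1.symm.trans ((congrArg (fun z => (Y.presheaf.germ V y hyV).hom z) e3).trans e2)

/-- The germ of the local norm does not change when passing to a basic open. -/
theorem germ_loc (π : X ⟶ Y) [IsFinite π] (U : Y.Opens) (s : Γ(X, π ⁻¹ᵁ U)) (V : Y.Opens)
    (hV : IsFreeOpen π V) (hVU : V ⟶ U) (r : Γ(Y, V)) (W : Y.Opens) (hW : W = Y.basicOpen r)
    (hWU : W ⟶ U) (z : Y) (hz : z ∈ W) (hzV : z ∈ V) :
    (Y.presheaf.germ V z hzV).hom
        (Algebra.norm Γ(Y, V) ((X.presheaf.map ((Opens.map π.base).map hVU).op).hom s))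
      = (Y.presheaf.germ W z hz).hom
        (Algebra.norm Γ(Y, W) ((X.presheaf.map ((Opens.map π.base).map hWU).op).hom s)) := by
  have hWV : W ≤ V := by rw [hW]; exact Y.basicOpen_le r
  obtain ⟨-, hnorm⟩ := isFreeOpen_basicOpen π V hV r W hW (homOfLE hWV)
  have e0 : (X.presheaf.map ((Opens.map π.base).map (homOfLE hWV)).op).hom
      ((X.presheaf.map ((Opens.map π.base).map hVU).op).hom s)
      = (X.presheaf.map ((Opens.map π.base).map hWU).op).hom s := res_res X _ _ _ s
  have e : Algebra.norm Γ(Y, W) ((X.presheaf.map ((Opens.map π.base).map hWU).op).hom s)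
      = (Y.presheaf.map (homOfLE hWV).op).hom
        (Algebra.norm Γ(Y, V) ((X.presheaf.map ((Opens.map π.base).map hVU).op).hom s)) :=
    (congrArg (Algebra.norm Γ(Y, W)) e0).symm.trans (hnorm _)
  have e2 := Y.presheaf.germ_res_apply (homOfLE hWV) z hz
    (Algebra.norm Γ(Y, V) ((X.presheaf.map ((Opens.map π.base).map hVU).op).hom s))
  exact e2.symm.trans (congrArg (fun t => (Y.presheaf.germ W z hz).hom t) e).symm

theorem exists_isNormOf (π : X ⟶ Y) [IsFinite π] [Flat π] [LocallyOfFinitePresentation π]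
    (U : Y.Opens) (s : Γ(X, π ⁻¹ᵁ U)) : ∃ t : Γ(Y, U), IsNormOf π U s t := by
  let ι : Type u := {V : Y.Opens // IsFreeOpen π V ∧ V ≤ U}
  let sf : ∀ i : ι, Γ(Y, i.1) := fun i =>
    Algebra.norm Γ(Y, i.1) ((X.presheaf.map ((Opens.map π.base).map (homOfLE i.2.2)).op).hom s)
  have hcompat : TopCat.Presheaf.IsCompatible Y.presheaf (fun i : ι => i.1) sf := by
    intro i j
    refine TopCat.Presheaf.section_ext Y.sheaf (i.1 ⊓ j.1) _ _ (fun z hz => ?_)
    obtain ⟨f, g, hfg, hzf⟩ := exists_basicOpen_le_affine_inter i.2.1.1 j.2.1.1 z hz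
    have hWU : Y.basicOpen f ≤ U := (Y.basicOpen_le f).trans i.2.2
    have ki := germ_loc π U s i.1 i.2.1 (homOfLE i.2.2) f (Y.basicOpen f) rfl (homOfLE hWU) z hzf
      hz.1
    have kj := germ_loc π U s j.1 j.2.1 (homOfLE j.2.2) g (Y.basicOpen f) hfg (homOfLE hWU) z hzf
      hz.2
    have ei := Y.presheaf.germ_res_apply (Opens.infLELeft i.1 j.1) z hz (sf i)
    have ej := Y.presheaf.germ_res_apply (Opens.infLERight i.1 j.1) z hz (sf j)
    exact ei.trans (ki.trans (kj.symm.trans ej.symm))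
  have hcover : U ≤ iSup (fun i : ι => i.1) := by
    intro y hy
    obtain ⟨V, hV, hyV, hVU⟩ := exists_isFreeOpen π U y hy
    exact Opens.mem_iSup.mpr ⟨⟨V, hV, hVU⟩, hyV⟩
  obtain ⟨t, ht, -⟩ := TopCat.Sheaf.existsUnique_gluing' Y.sheaf (fun i : ι => i.1) U
    (fun i => homOfLE i.2.2) hcover sf hcompat
  refine ⟨t, fun V hV i => ?_⟩
  exact ht ⟨V, hV, i.le⟩

theorem isNormOf_one (π : X ⟶ Y) (U : Y.Opens) : IsNormOf π U 1 1 := by
  intro V hV i
  simp only [map_one]

theorem isNormOf_mul (π : X ⟶ Y) (U : Y.Opens) (s s' : Γ(X, π ⁻¹ᵁ U)) (t t' : Γ(Y, U))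
    (h : IsNormOf π U s t) (h' : IsNormOf π U s' t') : IsNormOf π U (s * s') (t * t') := by
  intro V hV i
  simp only [map_mul]
  rw [h V hV i, h' V hV i]

theorem isNormOf_res (π : X ⟶ Y) (U : Y.Opens) (s : Γ(X, π ⁻¹ᵁ U)) (t : Γ(Y, U))
    (h : IsNormOf π U s t) {U' : Y.Opens} (j : U' ⟶ U) :
    IsNormOf π U' ((X.presheaf.map ((Opens.map π.base).map j).op).hom s)
      ((Y.presheaf.map j.op).hom t) :=
  fun V hV i => (res_res Y j i (i ≫ j) t).trans ((h V hV (i ≫ j)).trans
    (congrArg (Algebra.norm Γ(Y, V)) (res_res X ((Opens.map π.base).map j)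
      ((Opens.map π.base).map i) ((Opens.map π.base).map (i ≫ j)) s).symm))

/-- The rank of `π` at a point of a free open. -/
theorem finrank_eq (π : X ⟶ Y) [IsFinite π] [Flat π] (V : Y.Opens) (hV : IsAffineOpen V)
    [Module.Free Γ(Y, V) Γ(X, π ⁻¹ᵁ V)] (y : Y) (hy : y ∈ V) :
    π.finrank y = Module.finrank Γ(Y, V) Γ(X, π ⁻¹ᵁ V) := by
  have hV' : IsAffineOpen (π ⁻¹ᵁ V) := hV.preimage π
  have sq : Spec.map (π.appLE V (π ⁻¹ᵁ V) le_rfl) ≫ hV.fromSpec = hV'.fromSpec ≫ π :=
    IsAffineOpen.SpecMap_appLE_fromSpec π hV hV' le_rfl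
  have e : π.appLE V (π ⁻¹ᵁ V) le_rfl = π.app V := π.appLE_eq_app
  rw [e] at sq
  have pb : IsPullback (Spec.map (π.app V)) hV'.fromSpec hV.fromSpec π :=
    IsOpenImmersion.isPullback _ _ _ _ sq.symm
      (by rw [hV.opensRange_fromSpec, hV'.opensRange_fromSpec])
  have hfin : (π.app V).hom.Finite := IsFinite.finite_app π V hV
  have hflat : (π.app V).hom.Flat := by
    have h := π.flat_appLE hV hV' le_rfl
    rwa [e] at h
  obtain ⟨p, hp⟩ : ∃ p : PrimeSpectrum Γ(Y, V), hV.fromSpec p = y :=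
    ⟨hV.primeIdealOf ⟨y, hy⟩, hV.fromSpec_primeIdealOf ⟨y, hy⟩⟩
  have h1 : Scheme.Hom.finrank (Spec.map (π.app V)) p = π.finrank (hV.fromSpec p) :=
    Scheme.Hom.finrank_of_isPullback _ _ _ _ pb.flip p
  have h2 : Scheme.Hom.finrank (Spec.map (π.app V)) p = (π.app V).hom.finrank p :=
    congrFun (Scheme.Hom.finrank_SpecMap_eq_finrank hfin hflat) p
  have h3 : (π.app V).hom.finrank p = Module.finrank Γ(Y, V) Γ(X, π ⁻¹ᵁ V) := by
    show Module.rankAtStalk (R := Γ(Y, V)) Γ(X, π ⁻¹ᵁ V) p = _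
    rw [Module.rankAtStalk_eq_finrank_of_free]
    simp
  exact ((congrArg π.finrank hp).symm.trans h1.symm).trans (h2.trans h3)

theorem isNormOf_app (π : X ⟶ Y) [IsFinite π] [Flat π] (d : ℕ) (hdeg : ∀ y : Y, π.finrank y = d)
    (U : Y.Opens) (g : Γ(Y, U)) : IsNormOf π U ((π.app U).hom g) (g ^ d) := by
  intro V hV i
  haveI := hV.2
  rcases (V : Set Y).eq_empty_or_nonempty with hemp | ⟨y, hy⟩
  · have hV0 : V = ⊥ := Opens.ext (hemp.trans (Opens.coe_bot).symm)
    subst hV0
    exact Subsingleton.elim _ _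
  · have hrank : Module.finrank Γ(Y, V) Γ(X, π ⁻¹ᵁ V) = d :=
      (finrank_eq π V hV.1 y hy).symm.trans (hdeg y)
    have e1 := app_res π i g
    have e2 : Algebra.norm Γ(Y, V) ((π.app V).hom ((Y.presheaf.map i.op).hom g))
        = ((Y.presheaf.map i.op).hom g) ^ Module.finrank Γ(Y, V) Γ(X, π ⁻¹ᵁ V) :=
      Algebra.norm_algebraMap ((Y.presheaf.map i.op).hom g)
    rw [e1, e2, hrank, map_pow]

/-- The norm of a section vanishing at `x` vanishes at `π x`. -/
theorem norm_mem_aux (π : X ⟶ Y) [IsFinite π] [Flat π] [LocallyOfFinitePresentation π]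
    (U : Y.Opens) (s : Γ(X, π ⁻¹ᵁ U)) (t : Γ(Y, U)) (ht : IsNormOf π U s t) (x : X)
    (hx : π.base x ∈ U) (hs : ¬ IsUnit ((X.presheaf.germ (π ⁻¹ᵁ U) x hx).hom s)) :
    ¬ IsUnit ((Y.presheaf.germ U (π.base x) hx).hom t) := by
  intro hu
  apply hs
  obtain ⟨V, hV, hyV, hVU⟩ := exists_isFreeOpen π U (π.base x) hx
  haveI := hV.2
  haveI : Module.Finite Γ(Y, V) Γ(X, π ⁻¹ᵁ V) := finite_of_isAffineOpen π V hV.1
  obtain ⟨s', hs'⟩ : ∃ s' : Γ(X, π ⁻¹ᵁ V),
      s' = (X.presheaf.map ((Opens.map π.base).map (homOfLE hVU)).op).hom s := ⟨_, rfl⟩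
  have hres : (Y.presheaf.map (homOfLE hVU).op).hom t = Algebra.norm Γ(Y, V) s' := by
    rw [hs']; exact ht V hV (homOfLE hVU)
  obtain ⟨n, hn⟩ : ∃ n : Γ(Y, V), n = Algebra.norm Γ(Y, V) s' := ⟨_, rfl⟩
  rw [← hn] at hres
  have e1 := Y.presheaf.germ_res_apply (homOfLE hVU) (π.base x) hyV t
  have hu1 : IsUnit ((Y.presheaf.germ V (π.base x) hyV).hom n) := by
    have e : (Y.presheaf.germ V (π.base x) hyV).hom n
        = (Y.presheaf.germ U (π.base x) hx).hom t :=
      (congrArg (fun z => (Y.presheaf.germ V (π.base x) hyV).hom z) hres).symm.trans e1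
    exact (congrArg IsUnit e).mpr hu
  have h1 : π.base x ∈ Y.basicOpen n := (Y.mem_basicOpen n (π.base x) hyV).mpr hu1
  have h2 : x ∈ π ⁻¹ᵁ Y.basicOpen n := h1
  rw [Scheme.preimage_basicOpen] at h2
  obtain ⟨c, hc⟩ := exists_mul_eq_norm (R := Γ(Y, V)) (S := Γ(X, π ⁻¹ᵁ V)) s'
  have hc' : (π.app V).hom n = s' * c := by rw [hn]; exact hc
  have h3 : x ∈ X.basicOpen (s' * c) := (congrArg (fun z => x ∈ X.basicOpen z) hc').mp h2
  have h4 : x ∈ X.basicOpen s' := ((congrArg (fun W => x ∈ W) (X.basicOpen_mul s' c)).mp h3).1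
  have hxV : x ∈ π ⁻¹ᵁ V := hyV
  have h5 : IsUnit ((X.presheaf.germ (π ⁻¹ᵁ V) x hxV).hom s') := (X.mem_basicOpen s' x hxV).mp h4
  have e2 := X.presheaf.germ_res_apply ((Opens.map π.base).map (homOfLE hVU)) x hxV s
  have e3 : (X.presheaf.germ (π ⁻¹ᵁ V) x hxV).hom s' = (X.presheaf.germ (π ⁻¹ᵁ U) x hx).hom s := by
    rw [hs']; exact e2
  exact (congrArg IsUnit e3).mp h5

noncomputable def normFun (π : X ⟶ Y) [IsFinite π] [Flat π] [LocallyOfFinitePresentation π]
    (U : Y.Opens) (s : Γ(X, π ⁻¹ᵁ U)) : Γ(Y, U) :=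
  Classical.choose (exists_isNormOf π U s)

theorem normFun_spec (π : X ⟶ Y) [IsFinite π] [Flat π] [LocallyOfFinitePresentation π]
    (U : Y.Opens) (s : Γ(X, π ⁻¹ᵁ U)) : IsNormOf π U s (normFun π U s) :=
  Classical.choose_spec (exists_isNormOf π U s)

theorem normFun_eq (π : X ⟶ Y) [IsFinite π] [Flat π] [LocallyOfFinitePresentation π]
    (U : Y.Opens) (s : Γ(X, π ⁻¹ᵁ U)) (t : Γ(Y, U)) (h : IsNormOf π U s t) :
    normFun π U s = t :=
  isNormOf_unique π U s _ _ (normFun_spec π U s) h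

noncomputable def normHom (π : X ⟶ Y) [IsFinite π] [Flat π] [LocallyOfFinitePresentation π]
    (U : Y.Opens) : Γ(X, π ⁻¹ᵁ U) →* Γ(Y, U) where
  toFun := normFun π U
  map_one' := normFun_eq π U 1 1 (isNormOf_one π U)
  map_mul' s s' := normFun_eq π U (s * s') _
    (isNormOf_mul π U s s' _ _ (normFun_spec π U s) (normFun_spec π U s'))

/-- A norm without a degree. -/
structure WeakNorm (π : X ⟶ Y) where
  norm : ∀ U : Y.Opens, Γ(X, π ⁻¹ᵁ U) →* Γ(Y, U)
  norm_res : ∀ {U V : Y.Opens} (i : V ⟶ U) (s : Γ(X, π ⁻¹ᵁ U)),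
    Y.presheaf.map i.op (norm U s) = norm V (X.presheaf.map ((Opens.map π.base).map i).op s)
  norm_mem : ∀ (U : Y.Opens) (s : Γ(X, π ⁻¹ᵁ U)) (x : X) (hx : π.base x ∈ U),
    X.presheaf.germ (π ⁻¹ᵁ U) x hx s ∈ IsLocalRing.maximalIdeal (X.presheaf.stalk x) →
      Y.presheaf.germ U (π.base x) hx (norm U s)
        ∈ IsLocalRing.maximalIdeal (Y.presheaf.stalk (π.base x))

noncomputable def weakNorm (π : X ⟶ Y) [IsFinite π] [Flat π] [LocallyOfFinitePresentation π] :
    WeakNorm π where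
  norm := normHom π
  norm_res := fun {U V} i s =>
    (normFun_eq π V _ _ (isNormOf_res π U s _ (normFun_spec π U s) i)).symm
  norm_mem := fun U s x hx h => by
    rw [IsLocalRing.mem_maximalIdeal, mem_nonunits_iff] at h ⊢
    exact norm_mem_aux π U s _ (normFun_spec π U s) x hx h

theorem main8878 (π : X ⟶ Y) (d : ℕ) (hd : 1 ≤ d) (hπ : Mor2.IsFinLocFreeOfDeg d π) :
    Nrm.HasNorm π d := by
  obtain ⟨⟨hfin, hflat, hfp⟩, hdeg⟩ := hπ
  haveI := hfin
  haveI := hflat
  haveI := hfp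
  exact ⟨{ one_le := hd
           norm := (weakNorm π).norm
           norm_res := (weakNorm π).norm_res
           norm_app := fun U g => normFun_eq π U _ _ (isNormOf_app π d hdeg U g)
           norm_mem := (weakNorm π).norm_mem }⟩

end Geo

end Groth.Agent.Lib.FlatNormH4
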