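import Mathlib

namespace Groth.Agent.Lib.TraceEtale

open TensorProduct

universe u v

section K

variable {A : Type*} {B : Type*} [CommRing A] [CommRing B] [Algebra A B]

/-- `x ⊗ y ↦ ψ y • x`. -/
noncomputable def K (ψ : B →ₗ[A] A) : B ⊗[A] B →ₗ[A] B :=
  (TensorProduct.rid A B).toLinearMap ∘ₗ LinearMap.lTensor B ψ

/-- `x ⊗ y ↦ φ x • y`. -/
noncomputable def K' (φ : B →ₗ[A] A) : B ⊗[A] B →ₗ[A] B :=
  (TensorProduct.lid A B).toLinearMap ∘ₗ LinearMap.rTensor B φ

@[simp] theorem K_tmul (ψ : B →ₗ[A] A) (x y : B) : K ψ (x ⊗ₜ[A] y) = ψ y • x := by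
  simp [K]

@[simp] theorem K'_tmul (φ : B →ₗ[A] A) (x y : B) : K' φ (x ⊗ₜ[A] y) = φ x • y := by
  simp [K']

theorem K_mul_right (ψ : B →ₗ[A] A) (s : B) (t : B ⊗[A] B) :
    K ψ (t * (1 ⊗ₜ[A] s)) = K (ψ ∘ₗ LinearMap.mulRight A s) t := by
  induction t using TensorProduct.induction_on with
  | zero => simp
  | tmul x y => simp
  | add x y hx hy => rw [add_mul, map_add, map_add, hx, hy]

theorem K_mul_left (ψ : B →ₗ[A] A) (s : B) (t : B ⊗[A] B) :
    K ψ (t * (s ⊗ₜ[A] 1)) = s * K ψ t := by
  induction t using TensorProduct.induction_on with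
  | zero => simp
  | tmul x y =>
    simp only [Algebra.TensorProduct.tmul_mul_tmul, K_tmul, mul_one, mul_smul_comm, mul_comm x s]
  | add x y hx hy => rw [add_mul, map_add, map_add, hx, hy, mul_add]

theorem phi_K (φ ψ : B →ₗ[A] A) (t : B ⊗[A] B) : φ (K ψ t) = ψ (K' φ t) := by
  induction t using TensorProduct.induction_on with
  | zero => simp
  | tmul x y => simp [mul_comm]
  | add x y hx hy => rw [map_add, map_add, map_add, map_add, hx, hy]

end K

section Basis

variable {A : Type*} {B : Type*} [CommRing A] [CommRing B] [Algebra A B]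
variable {ι : Type*} [Fintype ι] [DecidableEq ι] (b : Module.Basis ι A B)

theorem trace_eq_sum_repr (w : B) : Algebra.trace A B w = ∑ j, b.repr (w * b j) j := by
  rw [Algebra.trace_eq_matrix_trace b, Matrix.trace]
  apply Finset.sum_congr rfl
  intro j _
  rw [Matrix.diag_apply, Algebra.leftMulMatrix_apply, LinearMap.toMatrix_apply]
  simp

theorem trace_sum_smul_mul (v : ι → A) (y : B) :
    Algebra.trace A B ((∑ j, v j • b j) * y) = ∑ j, v j * Algebra.trace A B (b j * y) := by
  rw [Finset.sum_mul, map_sum]
  apply Finset.sum_congr rfl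
  intro j _
  rw [smul_mul_assoc, map_smul, smul_eq_mul]

theorem sum_K_coord (t : B ⊗[A] B) :
    ∑ j, b j * K (b.coord j) t = Algebra.TensorProduct.lmul' A t := by
  induction t using TensorProduct.induction_on with
  | zero => simp
  | tmul x y =>
    simp only [K_tmul, Algebra.TensorProduct.lmul'_apply_tmul, Module.Basis.coord_apply]
    calc ∑ j, b j * (b.repr y j • x) = (∑ j, b.repr y j • b j) * x := by
          rw [Finset.sum_mul]
          apply Finset.sum_congr rfl
          intro j _
          rw [mul_smul_comm, smul_mul_assoc]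
      _ = x * y := by rw [b.sum_repr, mul_comm]
  | add x y hx hy => simp only [map_add, mul_add, Finset.sum_add_distrib, hx, hy]

theorem K_trace (z : B) (t : B ⊗[A] B) :
    K (Algebra.trace A B ∘ₗ LinearMap.mulRight A z) t
      = ∑ j, K (b.coord j ∘ₗ LinearMap.mulRight A (z * b j)) t := by
  induction t using TensorProduct.induction_on with
  | zero => simp
  | tmul x y =>
    simp only [K_tmul, LinearMap.comp_apply, LinearMap.mulRight_apply, Module.Basis.coord_apply]
    rw [trace_eq_sum_repr b, Finset.sum_smul]
    apply Finset.sum_congr rfl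
    intro j _
    rw [mul_assoc]
  | add x y hx hy => simp only [map_add, Finset.sum_add_distrib, hx, hy]

include b in
theorem traceSurj_of_unramified [Algebra.FormallyUnramified A B] (φ : B →ₗ[A] A) :
    ∃ u : B, ∀ z : B, Algebra.trace A B (u * z) = φ z := by
  haveI : Module.Finite A B := Module.Finite.of_basis b
  obtain ⟨t, ht1, ht2⟩ :=
    (Algebra.FormallyUnramified.iff_exists_tensorProduct (R := A) (S := B)).mp inferInstance
  refine ⟨K' φ t, fun z => ?_⟩
  have hcomm : ∀ s : B, t * (1 ⊗ₜ[A] s) = t * (s ⊗ₜ[A] 1) := by
    intro s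
    have := ht1 s
    rw [sub_mul, sub_eq_zero] at this
    rw [mul_comm t, mul_comm t]
    exact this
  have hz : K (Algebra.trace A B ∘ₗ LinearMap.mulRight A z) t = z := by
    rw [K_trace b]
    calc ∑ j, K (b.coord j ∘ₗ LinearMap.mulRight A (z * b j)) t
        = ∑ j, z * (b j * K (b.coord j) t) := by
          apply Finset.sum_congr rfl
          intro j _
          rw [← K_mul_right, hcomm, K_mul_left, mul_assoc]
      _ = z * Algebra.TensorProduct.lmul' A t := by rw [← Finset.mul_sum, sum_K_coord]
      _ = z := by rw [ht2, mul_one]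
  have := phi_K φ (Algebra.trace A B ∘ₗ LinearMap.mulRight A z) t
  rw [hz] at this
  rw [this, LinearMap.comp_apply, LinearMap.mulRight_apply]

theorem isUnit_discr_of_traceSurj
    (h : ∀ φ : B →ₗ[A] A, ∃ u : B, ∀ z, Algebra.trace A B (u * z) = φ z) :
    IsUnit (Algebra.discr A b) := by
  choose u hu using fun j => h (b.coord j)
  rw [Algebra.discr_def]
  apply Matrix.isUnit_det_of_left_inverse (B := Matrix.of fun j m => b.repr (u j) m)
  ext j l
  rw [Matrix.mul_apply, Matrix.one_apply]
  have h1 : ∑ m, (Matrix.of fun j m => b.repr (u j) m) j m * Algebra.traceMatrix A b m l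
      = Algebra.trace A B (u j * b l) := by
    conv_rhs => rw [← b.sum_repr (u j)]
    rw [trace_sum_smul_mul]
    apply Finset.sum_congr rfl
    intro m _
    rw [Matrix.of_apply, Algebra.traceMatrix_apply, Algebra.traceForm_apply]
  rw [h1, hu j (b l), Module.Basis.coord_apply, Module.Basis.repr_self, Finsupp.single_apply]
  by_cases hjl : j = l
  · subst hjl; simp
  · simp [hjl, Ne.symm hjl]

section Dual

/-- dual basis vectors w.r.t. the trace form -/
noncomputable def cdual (i : ι) : B := ∑ j, (Algebra.traceMatrix A b)⁻¹ i j • b j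

variable (h : IsUnit (Algebra.discr A b))

include h in
theorem trace_cdual_mul_basis (i l : ι) :
    Algebra.trace A B (cdual b i * b l) = if i = l then 1 else 0 := by
  rw [cdual, trace_sum_smul_mul]
  have := congrFun (congrFun (Matrix.nonsing_inv_mul (Algebra.traceMatrix A b) h) i) l
  rw [Matrix.mul_apply, Matrix.one_apply] at this
  rw [← this]
  apply Finset.sum_congr rfl
  intro j _
  rw [Algebra.traceMatrix_apply, Algebra.traceForm_apply]

include h in
theorem trace_mul_cdual (z : B) (l : ι) : Algebra.trace A B (z * cdual b l) = b.repr z l := by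
  have h1 : (Algebra.trace A B ∘ₗ LinearMap.mulRight A (cdual b l)) = b.coord l := by
    apply b.ext
    intro j
    rw [LinearMap.comp_apply, LinearMap.mulRight_apply, mul_comm, trace_cdual_mul_basis b h,
      Module.Basis.coord_apply, Module.Basis.repr_self, Finsupp.single_apply]
    by_cases hjl : j = l
    · subst hjl; simp
    · simp [hjl, Ne.symm hjl]
  have h2 := LinearMap.congr_fun h1 z
  rw [LinearMap.comp_apply, LinearMap.mulRight_apply, Module.Basis.coord_apply] at h2
  exact h2

include h in
theorem eq_zero_of_trace_mul_basis (v : B) (hv : ∀ l, Algebra.trace A B (v * b l) = 0) :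
    v = 0 := by
  apply b.ext_elem
  intro l
  rw [map_zero, Finsupp.zero_apply, ← trace_mul_cdual b h, cdual, Finset.mul_sum, map_sum]
  apply Finset.sum_eq_zero
  intro j _
  rw [mul_smul_comm, map_smul, hv, smul_zero]

include h in
theorem bijective_traceForm : Function.Bijective (Algebra.traceForm A B) := by
  constructor
  · rw [injective_iff_map_eq_zero]
    intro x hx
    apply eq_zero_of_trace_mul_basis b h
    intro l
    have := LinearMap.congr_fun hx (b l)
    rw [Algebra.traceForm_apply] at this
    exact this
  · intro φ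
    refine ⟨∑ l, φ (b l) • cdual b l, ?_⟩
    apply b.ext
    intro j
    rw [Algebra.traceForm_apply, Finset.sum_mul, map_sum, Finset.sum_eq_single j]
    · rw [smul_mul_assoc, map_smul, trace_cdual_mul_basis b h, if_pos rfl, smul_eq_mul, mul_one]
    · intro l _ hl
      rw [smul_mul_assoc, map_smul, trace_cdual_mul_basis b h, if_neg hl, smul_zero]
    · intro hj
      exact absurd (Finset.mem_univ _) hj

include h in
theorem etale_of_isUnit_discr : Algebra.Etale A B := by
  haveI : Module.Finite A B := Module.Finite.of_basis b
  haveI : Module.Free A B := Module.Free.of_basis b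
  haveI : Module.FinitePresentation A B := Module.finitePresentation_of_projective A B
  have hE : ∀ z : B, z = ∑ l, Algebra.trace A B (z * cdual b l) • b l := by
    intro z
    conv_lhs => rw [← b.sum_repr z]
    apply Finset.sum_congr rfl
    intro l _
    rw [trace_mul_cdual b h]
  have hE' : ∀ w : B, w = ∑ i, Algebra.trace A B (w * b i) • cdual b i := by
    intro w
    rw [← sub_eq_zero]
    apply eq_zero_of_trace_mul_basis b h
    intro l
    rw [sub_mul, map_sub, Finset.sum_mul, map_sum, sub_eq_zero, Finset.sum_eq_single l]
    · rw [smul_mul_assoc, map_smul, trace_cdual_mul_basis b h, if_pos rfl, smul_eq_mul, mul_one]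
    · intro i _ hi
      rw [smul_mul_assoc, map_smul, trace_cdual_mul_basis b h, if_neg hi, smul_zero]
    · intro hl
      exact absurd (Finset.mem_univ _) hl
  haveI : Algebra.FormallyUnramified A B := by
    rw [Algebra.FormallyUnramified.iff_exists_tensorProduct]
    refine ⟨∑ i, b i ⊗ₜ[A] cdual b i, ?_, ?_⟩
    · intro s
      rw [sub_mul, sub_eq_zero, Finset.mul_sum, Finset.mul_sum]
      simp only [Algebra.TensorProduct.tmul_mul_tmul, one_mul]
      calc ∑ i, b i ⊗ₜ[A] (s * cdual b i)
          = ∑ i, b i ⊗ₜ[A] (∑ l, Algebra.trace A B (s * cdual b i * b l) • cdual b l) := by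
            apply Finset.sum_congr rfl
            intro i _
            rw [← hE' (s * cdual b i)]
        _ = ∑ i, ∑ l, Algebra.trace A B (s * cdual b i * b l) • (b i ⊗ₜ[A] cdual b l) := by
            apply Finset.sum_congr rfl
            intro i _
            rw [TensorProduct.tmul_sum]
            apply Finset.sum_congr rfl
            intro l _
            rw [TensorProduct.tmul_smul]
        _ = ∑ l, ∑ i, Algebra.trace A B (s * b l * cdual b i) • (b i ⊗ₜ[A] cdual b l) := by
            rw [Finset.sum_comm]
            apply Finset.sum_congr rfl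
            intro l _
            apply Finset.sum_congr rfl
            intro i _
            rw [show s * cdual b i * b l = s * b l * cdual b i by ring]
        _ = ∑ l, (∑ i, Algebra.trace A B (s * b l * cdual b i) • b i) ⊗ₜ[A] cdual b l := by
            apply Finset.sum_congr rfl
            intro l _
            rw [TensorProduct.sum_tmul]
            apply Finset.sum_congr rfl
            intro i _
            rw [TensorProduct.smul_tmul']
        _ = ∑ l, (s * b l) ⊗ₜ[A] cdual b l := by
            apply Finset.sum_congr rfl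
            intro l _
            rw [← hE (s * b l)]
    · rw [map_sum]
      simp only [Algebra.TensorProduct.lmul'_apply_tmul]
      rw [← sub_eq_zero]
      apply eq_zero_of_trace_mul_basis b h
      intro l
      rw [sub_mul, one_mul, map_sub, sub_eq_zero, Finset.sum_mul, map_sum,
        trace_eq_sum_repr b (b l)]
      apply Finset.sum_congr rfl
      intro i _
      rw [← trace_mul_cdual b h]
      rw [show b i * cdual b i * b l = b l * b i * cdual b i by ring]
  exact Algebra.Etale.of_formallyUnramified_of_flat

end Dual

end Basis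

theorem S2195_main {A : Type u} {B : Type v} [CommRing A] [CommRing B]
    [Algebra A B] {ι : Type} [Fintype ι] [DecidableEq ι] (b : Module.Basis ι A B) :
    Algebra.Etale A B ↔ IsUnit (Algebra.discr A b) := by
  constructor
  · intro hE
    exact isUnit_discr_of_traceSurj b (fun φ => traceSurj_of_unramified b φ)
  · exact etale_of_isUnit_discr b

theorem S2733_main (A B : Type u) [CommRing A] [CommRing B] [Algebra A B]
    [Module.Finite A B] [Module.Free A B] :
    Algebra.Etale A B ↔ Function.Bijective (Algebra.traceForm A B) := by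
  classical
  let b := Module.Free.chooseBasis A B
  constructor
  · intro hE
    exact bijective_traceForm b
      (isUnit_discr_of_traceSurj b (fun φ => traceSurj_of_unramified b φ))
  · intro hbij
    apply etale_of_isUnit_discr b
    apply isUnit_discr_of_traceSurj b
    intro φ
    obtain ⟨u, hu⟩ := hbij.2 φ
    exact ⟨u, fun z => by rw [← hu, Algebra.traceForm_apply]⟩

end Groth.Agent.Lib.TraceEtale
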