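import Mathlib
import Groth.Agent.Lib.TraceEtale_lead

/-! Ring-level trace duality: traces with respect to ring homomorphisms, base change of the trace in
pushout squares of commutative rings, nondegeneracy of the trace form of finite free étale algebras
(helper5). APPEND-ONLY once landed. -/

set_option autoImplicit false
set_option linter.style.haveILetI false
universe u
open CategoryTheory TensorProduct

namespace Groth.Agent.Lib.TrDual

section Basic

variable {R S : Type u} [CommRing R] [CommRing S]

/-- The trace with respect to the algebra structure given by a ring homomorphism. -/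
noncomputable def trH (φ : R →+* S) (x : S) : R :=
  letI := φ.toAlgebra
  Algebra.trace R S x

/-- Finite free via a ring homomorphism. -/
def FinFree (φ : R →+* S) : Prop :=
  letI := φ.toAlgebra
  Module.Free R S ∧ Module.Finite R S

/-- Finite free étale via a ring homomorphism. -/
def FinFreeEt (φ : R →+* S) : Prop :=
  letI := φ.toAlgebra
  Module.Free R S ∧ Module.Finite R S ∧ Algebra.Etale R S

theorem FinFreeEt.finFree {φ : R →+* S} (h : FinFreeEt φ) : FinFree φ := ⟨h.1, h.2.1⟩

theorem trH_add (φ : R →+* S) (x y : S) : trH φ (x + y) = trH φ x + trH φ y := by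
  letI := φ.toAlgebra
  exact map_add (Algebra.trace R S) x y

theorem trH_zero (φ : R →+* S) : trH φ 0 = 0 := by
  letI := φ.toAlgebra
  exact map_zero (Algebra.trace R S)

theorem trH_mul_left (φ : R →+* S) (r : R) (x : S) : trH φ (φ r * x) = r * trH φ x := by
  letI := φ.toAlgebra
  have h := map_smul (Algebra.trace R S) r x
  rw [Algebra.smul_def, smul_eq_mul] at h
  exact h

/-- The trace as an additive map. -/
noncomputable def trAdd (φ : R →+* S) : S →+ R :=
  AddMonoidHom.mk' (trH φ) (trH_add φ)

@[simp] theorem trAdd_apply (φ : R →+* S) (x : S) : trAdd φ x = trH φ x := rfl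

/-- Nondegeneracy of the trace form of a finite free étale algebra. -/
theorem trH_nondeg {φ : R →+* S} (h : FinFreeEt φ) (x x' : S)
    (H : ∀ y, trH φ (x * y) = trH φ (x' * y)) : x = x' := by
  letI := φ.toAlgebra
  haveI := h.1
  haveI := h.2.1
  haveI := h.2.2
  have hb := (TraceEtale.S2733_main R S).mp inferInstance
  apply hb.1
  ext y
  rw [Algebra.traceForm_apply, Algebra.traceForm_apply]
  exact H y

/-- Every linear form on a finite free étale algebra is a trace form. -/
theorem trH_repr {φ : R →+* S} (h : FinFreeEt φ) (f : S →+ R)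
    (hf : ∀ r y, f (φ r * y) = r * f y) : ∃ x, ∀ y, f y = trH φ (x * y) := by
  letI := φ.toAlgebra
  haveI := h.1
  haveI := h.2.1
  haveI := h.2.2
  have hb := (TraceEtale.S2733_main R S).mp inferInstance
  let F : S →ₗ[R] R :=
    { toFun := f
      map_add' := map_add f
      map_smul' := fun r y => by
        rw [Algebra.smul_def, RingHom.id_apply, smul_eq_mul]
        exact hf r y }
  obtain ⟨x, hx⟩ := hb.2 F
  refine ⟨x, fun y => ?_⟩
  have := congrArg (fun g => g y) hx
  simp only [Algebra.traceForm_apply] at this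
  exact this.symm

end Basic

section Pushout

variable {A B A' B' : CommRingCat.{u}} {a : A ⟶ B} {a' : A ⟶ A'} {b : B ⟶ B'} {c : A' ⟶ B'}

/-- The comparison `A' ⊗[A] B ≃ B'` of a pushout square, with its computation rule. -/
theorem exists_equiv (hPO : IsPushout a a' b c) :
    letI := a.hom.toAlgebra
    letI := a'.hom.toAlgebra
    letI := c.hom.toAlgebra
    ∃ e : (A' ⊗[A] B) ≃ₐ[A'] B', ∀ (r : A') (y : B), e (r ⊗ₜ y) = c.hom r * b.hom y := by
  letI iAB := a.hom.toAlgebra
  letI iAA' := a'.hom.toAlgebra
  letI iBB' := b.hom.toAlgebra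
  letI iA'B' := c.hom.toAlgebra
  letI iAB' : Algebra A B' := (a ≫ b).hom.toAlgebra
  haveI : IsScalarTower A B B' := .of_algebraMap_eq' rfl
  haveI : IsScalarTower A A' B' := .of_algebraMap_eq' congr($(hPO.w).hom)
  have h1 : Algebra.IsPushout A B A' B' := CommRingCat.isPushout_iff_isPushout.mp hPO
  haveI h2 : Algebra.IsPushout A A' B B' := h1.symm
  refine ⟨Algebra.IsPushout.equiv A A' B B', fun r y => ?_⟩
  rw [Algebra.IsPushout.equiv_tmul]
  rfl

theorem finFree_pushout (hPO : IsPushout a a' b c) (h : FinFree a.hom) : FinFree c.hom := by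
  obtain ⟨e, -⟩ := exists_equiv hPO
  letI := a.hom.toAlgebra
  letI := a'.hom.toAlgebra
  letI := c.hom.toAlgebra
  haveI := h.1
  haveI := h.2
  exact ⟨Module.Free.of_equiv e.toLinearEquiv, Module.Finite.equiv e.toLinearEquiv⟩

theorem finFreeEt_pushout (hPO : IsPushout a a' b c) (h : FinFreeEt a.hom) : FinFreeEt c.hom := by
  obtain ⟨e, -⟩ := exists_equiv hPO
  letI := a.hom.toAlgebra
  letI := a'.hom.toAlgebra
  letI := c.hom.toAlgebra
  haveI := h.1
  haveI := h.2.1
  haveI := h.2.2
  exact ⟨Module.Free.of_equiv e.toLinearEquiv, Module.Finite.equiv e.toLinearEquiv,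
    Algebra.Etale.of_equiv e⟩

/-- Base change of the trace in a pushout square. -/
theorem trH_pushout (hPO : IsPushout a a' b c) (h : FinFree a.hom) (y : B) :
    trH c.hom (b.hom y) = a'.hom (trH a.hom y) := by
  obtain ⟨e, he⟩ := exists_equiv hPO
  letI := a.hom.toAlgebra
  letI := a'.hom.toAlgebra
  letI := c.hom.toAlgebra
  haveI := h.1
  haveI := h.2
  have h1 : b.hom y = e ((1 : A') ⊗ₜ[A] y) := by rw [he, map_one, one_mul]
  show Algebra.trace A' B' (b.hom y) = algebraMap A A' (Algebra.trace A B y)
  rw [h1, Algebra.trace_eq_of_algEquiv e]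
  have h2 := LinearMap.trace_baseChange (Algebra.lmul A B y) A'
  rw [Algebra.baseChange_lmul] at h2
  rw [Algebra.trace_apply, h2, Algebra.trace_apply]

/-- Additive maps out of the pushout that are semilinear over `A'` are determined on the image
of `B`. -/
theorem ext_pushout' (hPO : IsPushout a a' b c) {N : Type*} [AddCommGroup N] (σ : A' → N → N)
    (f f' : B' →+ N)
    (hf : ∀ r z, f (c.hom r * z) = σ r (f z)) (hf' : ∀ r z, f' (c.hom r * z) = σ r (f' z))
    (H : ∀ y : B, f (b.hom y) = f' (b.hom y)) (z : B') : f z = f' z := by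
  obtain ⟨e, he⟩ := exists_equiv hPO
  letI := a.hom.toAlgebra
  letI := a'.hom.toAlgebra
  letI := c.hom.toAlgebra
  obtain ⟨w, rfl⟩ := e.surjective z
  induction w using TensorProduct.induction_on with
  | zero => rw [map_zero, map_zero, map_zero]
  | tmul r y => rw [he, hf, hf', H]
  | add w w' hw hw' => rw [map_add, map_add, map_add, hw, hw']

/-- Additive maps out of the pushout that are linear over `A'` are determined on the image of
`B`. -/
theorem ext_pushout (hPO : IsPushout a a' b c) (f f' : B' →+ A')
    (hf : ∀ r z, f (c.hom r * z) = r * f z) (hf' : ∀ r z, f' (c.hom r * z) = r * f' z)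
    (H : ∀ y : B, f (b.hom y) = f' (b.hom y)) (z : B') : f z = f' z :=
  ext_pushout' hPO (fun r n => r * n) f f' hf hf' H z

/-- Semilinear maps on `B` extend to linear maps on the pushout. -/
theorem lift_pushout (hPO : IsPushout a a' b c) (f : B →+ A')
    (hf : ∀ r y, f (a.hom r * y) = a'.hom r * f y) :
    ∃ F : B' →+ A', (∀ r z, F (c.hom r * z) = r * F z) ∧ ∀ y, F (b.hom y) = f y := by
  obtain ⟨e, he⟩ := exists_equiv hPO
  letI := a.hom.toAlgebra
  letI := a'.hom.toAlgebra
  letI := c.hom.toAlgebra
  let fl : B →ₗ[A] A' :=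
    { toFun := f
      map_add' := map_add f
      map_smul' := fun r y => by
        rw [Algebra.smul_def, RingHom.id_apply, Algebra.smul_def]
        exact hf r y }
  let L : B' →ₗ[A'] A' := (fl.liftBaseChange A').comp e.symm.toLinearMap
  refine ⟨L.toAddMonoidHom, fun r z => ?_, fun y => ?_⟩
  · show L (c.hom r * z) = r * L z
    have h1 : c.hom r * z = r • z := (Algebra.smul_def r z).symm
    rw [h1, map_smul, smul_eq_mul]
  · show L (b.hom y) = f y
    have h1 : b.hom y = e ((1 : A') ⊗ₜ[A] y) := by rw [he, map_one, one_mul]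
    show (fl.liftBaseChange A') (e.symm (b.hom y)) = f y
    rw [h1, AlgEquiv.symm_apply_apply, LinearMap.liftBaseChange_one_tmul]
    rfl

/-- Nondegeneracy of the trace form of the pushout, tested on the image of `B` only. -/
theorem trH_nondeg_pushout (hPO : IsPushout a a' b c) (h : FinFreeEt a.hom) (x x' : B')
    (H : ∀ y : B, trH c.hom (x * b.hom y) = trH c.hom (x' * b.hom y)) : x = x' := by
  have h' := finFreeEt_pushout hPO h
  refine trH_nondeg h' x x' (fun z => ?_)
  let f : B' →+ A' := (trAdd c.hom).comp (AddMonoidHom.mulLeft x)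
  let f' : B' →+ A' := (trAdd c.hom).comp (AddMonoidHom.mulLeft x')
  have hf : ∀ r z, f (c.hom r * z) = r * f z := fun r z => by
    show trH c.hom (x * (c.hom r * z)) = r * trH c.hom (x * z)
    rw [← trH_mul_left, mul_left_comm]
  have hf' : ∀ r z, f' (c.hom r * z) = r * f' z := fun r z => by
    show trH c.hom (x' * (c.hom r * z)) = r * trH c.hom (x' * z)
    rw [← trH_mul_left, mul_left_comm]
  exact ext_pushout hPO f f' hf hf' H z

end Pushout

end Groth.Agent.Lib.TrDual
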