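import Mathlib
import Groth.Agent.Lib.TrDual1_helper5
import Groth.Agent.Lib.FlatNorm_helper4

/-! Scheme-level base change of traces along pullback squares, on sections over affine opens
(helper5). APPEND-ONLY once landed. -/

set_option autoImplicit false
set_option linter.style.haveILetI false
universe u
open CategoryTheory CategoryTheory.Limits AlgebraicGeometry Opposite TopologicalSpace

namespace Groth.Agent.Lib.TrDual

section GenLem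

variable {X Y S T : Scheme.{u}} {f : T ⟶ S} {g : Y ⟶ X} {iX : X ⟶ S} {iY : Y ⟶ T}

theorem le_preimage (H : IsPullback g iY iX f) {US : S.Opens} {UT : T.Opens}
    (hUST : UT ≤ f ⁻¹ᵁ US) : iY ⁻¹ᵁ UT ≤ g ⁻¹ᵁ (iX ⁻¹ᵁ US) := by
  intro y hy
  have h1 : iY y ∈ UT := hy
  have h2 : f (iY y) ∈ US := hUST h1
  have h3 : (iY ≫ f) y = (g ≫ iX) y := by rw [H.w]
  show iX (g y) ∈ US
  have h4 : iX (g y) = f (iY y) := h3.symm
  rw [h4]
  exact h2

/-- The square of sections over affine opens of a pullback square is a pushout of rings. -/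
theorem isPushout_sections (H : IsPullback g iY iX f) [IsAffineHom iX]
    {US : S.Opens} {UT : T.Opens} (hUS : IsAffineOpen US) (hUT : IsAffineOpen UT)
    (hUST : UT ≤ f ⁻¹ᵁ US) :
    IsPushout (iX.app US) (f.appLE US UT hUST)
      (g.appLE (iX ⁻¹ᵁ US) (iY ⁻¹ᵁ UT) (le_preimage H hUST)) (iY.app UT) := by
  have hUY : iY ⁻¹ᵁ UT = g ⁻¹ᵁ (iX ⁻¹ᵁ US) ⊓ iY ⁻¹ᵁ UT :=
    (inf_eq_right.mpr (le_preimage H hUST)).symm
  have hiso := isIso_pushoutSection_of_isAffineOpen H hUST (le_refl (iX ⁻¹ᵁ US)) hUY hUS hUT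
    (hUS.preimage iX)
  have h := (isIso_pushoutSection_iff H hUST (le_refl (iX ⁻¹ᵁ US)) hUY).mp hiso
  rw [Scheme.Hom.appLE_eq_app, Scheme.Hom.appLE_eq_app] at h
  exact h

variable (H : IsPullback g iY iX f) [IsAffineHom iX]
  {US : S.Opens} {UT : T.Opens} (hUS : IsAffineOpen US) (hUT : IsAffineOpen UT)
  (hUST : UT ≤ f ⁻¹ᵁ US)

include H hUS hUT hUST

theorem finFree_bc (h : FinFree (iX.app US).hom) : FinFree (iY.app UT).hom :=
  finFree_pushout (isPushout_sections H hUS hUT hUST) h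

theorem finFreeEt_bc (h : FinFreeEt (iX.app US).hom) : FinFreeEt (iY.app UT).hom :=
  finFreeEt_pushout (isPushout_sections H hUS hUT hUST) h

/-- Base change of the trace. -/
theorem trH_bc (h : FinFree (iX.app US).hom) (x : Γ(X, iX ⁻¹ᵁ US)) :
    trH (iY.app UT).hom ((g.appLE (iX ⁻¹ᵁ US) (iY ⁻¹ᵁ UT) (le_preimage H hUST)).hom x) =
      (f.appLE US UT hUST).hom (trH (iX.app US).hom x) :=
  trH_pushout (isPushout_sections H hUS hUT hUST) h x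

theorem trH_nondeg_bc (h : FinFreeEt (iX.app US).hom) (z z' : Γ(Y, iY ⁻¹ᵁ UT))
    (Hz : ∀ x : Γ(X, iX ⁻¹ᵁ US),
      trH (iY.app UT).hom
          (z * (g.appLE (iX ⁻¹ᵁ US) (iY ⁻¹ᵁ UT) (le_preimage H hUST)).hom x) =
        trH (iY.app UT).hom
          (z' * (g.appLE (iX ⁻¹ᵁ US) (iY ⁻¹ᵁ UT) (le_preimage H hUST)).hom x)) : z = z' :=
  trH_nondeg_pushout (isPushout_sections H hUS hUT hUST) h z z' Hz

theorem ext_bc (F F' : Γ(Y, iY ⁻¹ᵁ UT) →+ Γ(T, UT))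
    (hF : ∀ r z, F ((iY.app UT).hom r * z) = r * F z)
    (hF' : ∀ r z, F' ((iY.app UT).hom r * z) = r * F' z)
    (Hx : ∀ x : Γ(X, iX ⁻¹ᵁ US),
      F ((g.appLE (iX ⁻¹ᵁ US) (iY ⁻¹ᵁ UT) (le_preimage H hUST)).hom x) =
        F' ((g.appLE (iX ⁻¹ᵁ US) (iY ⁻¹ᵁ UT) (le_preimage H hUST)).hom x))
    (z : Γ(Y, iY ⁻¹ᵁ UT)) : F z = F' z :=
  ext_pushout (isPushout_sections H hUS hUT hUST) F F' hF hF' Hx z

theorem ext_bc' {N : Type*} [AddCommGroup N] (σ : Γ(T, UT) → N → N)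
    (F F' : Γ(Y, iY ⁻¹ᵁ UT) →+ N)
    (hF : ∀ r z, F ((iY.app UT).hom r * z) = σ r (F z))
    (hF' : ∀ r z, F' ((iY.app UT).hom r * z) = σ r (F' z))
    (Hx : ∀ x : Γ(X, iX ⁻¹ᵁ US),
      F ((g.appLE (iX ⁻¹ᵁ US) (iY ⁻¹ᵁ UT) (le_preimage H hUST)).hom x) =
        F' ((g.appLE (iX ⁻¹ᵁ US) (iY ⁻¹ᵁ UT) (le_preimage H hUST)).hom x))
    (z : Γ(Y, iY ⁻¹ᵁ UT)) : F z = F' z :=
  ext_pushout' (isPushout_sections H hUS hUT hUST) σ F F' hF hF' Hx z

theorem lift_bc (F₀ : Γ(X, iX ⁻¹ᵁ US) →+ Γ(T, UT))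
    (hF₀ : ∀ r x, F₀ ((iX.app US).hom r * x) = (f.appLE US UT hUST).hom r * F₀ x) :
    ∃ F : Γ(Y, iY ⁻¹ᵁ UT) →+ Γ(T, UT),
      (∀ r z, F ((iY.app UT).hom r * z) = r * F z) ∧
      ∀ x, F ((g.appLE (iX ⁻¹ᵁ US) (iY ⁻¹ᵁ UT) (le_preimage H hUST)).hom x) = F₀ x :=
  lift_pushout (isPushout_sections H hUS hUT hUST) F₀ hF₀

/-- Compatibility of the two ways around the square, on sections. -/
theorem sections_w (r : Γ(S, US)) :
    (g.appLE (iX ⁻¹ᵁ US) (iY ⁻¹ᵁ UT) (le_preimage H hUST)).hom ((iX.app US).hom r) =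
      (iY.app UT).hom ((f.appLE US UT hUST).hom r) := by
  have hw := (isPushout_sections H hUS hUT hUST).w
  exact congrArg (fun φ => φ.hom r) hw

end GenLem

end Groth.Agent.Lib.TrDual
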