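import Mathlib
import Groth.Prelude.Def_Coh
import Groth.Agent.Lib.TrDual2_helper5
import Groth.Agent.Lib.BasisHom_helper7

/-! Trace forms `π_* O_W ⟶ g_* O_Z` attached to functions on `W ×_X Z`, for a finite étale `π`
(helper5). APPEND-ONLY once landed. -/

set_option autoImplicit false
set_option linter.style.haveILetI false
universe u
open CategoryTheory CategoryTheory.Limits AlgebraicGeometry Opposite TopologicalSpace
open QcqsLoc QCohExtn

namespace Groth.Agent.Lib.TrDual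

section Res

variable {Y S : Scheme.{u}} (f : Y ⟶ S)

lemma id_appLE {U V : S.Opens} (e : V ≤ (𝟙 S : S ⟶ S) ⁻¹ᵁ U) :
    (𝟙 S : S ⟶ S).appLE U V e = S.presheaf.map (homOfLE (show V ≤ U from e)).op := by
  simp only [Scheme.Hom.appLE, Scheme.Hom.id_app]
  exact Category.id_comp _

theorem idSq : IsPullback (𝟙 Y) f f (𝟙 S) :=
  IsPullback.of_horiz_isIso ⟨by simp⟩

lemma preimage_mono {V V' : S.Opens} (h : V' ≤ V) : f ⁻¹ᵁ V' ≤ f ⁻¹ᵁ V := fun _ hx => h hx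

variable [IsAffineHom f] {V V' : S.Opens} (hV : IsAffineOpen V) (hV' : IsAffineOpen V')
  (h : V' ≤ V)

include hV hV' h in
theorem finFree_res (hfree : FinFree (f.app V).hom) : FinFree (f.app V').hom :=
  finFree_bc (idSq f) hV hV' (show V' ≤ (𝟙 S : S ⟶ S) ⁻¹ᵁ V from h) hfree

include hV hV' h in
theorem finFreeEt_res (hfree : FinFreeEt (f.app V).hom) : FinFreeEt (f.app V').hom :=
  finFreeEt_bc (idSq f) hV hV' (show V' ≤ (𝟙 S : S ⟶ S) ⁻¹ᵁ V from h) hfree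

include hV hV' in
/-- The trace commutes with restriction to smaller affine opens. -/
theorem trH_res (hfree : FinFree (f.app V).hom) (x : Γ(Y, f ⁻¹ᵁ V)) :
    trH (f.app V').hom ((Y.presheaf.map (homOfLE (preimage_mono f h)).op).hom x) =
      (S.presheaf.map (homOfLE h).op).hom (trH (f.app V).hom x) := by
  have key := trH_bc (idSq f) hV hV' (show V' ≤ (𝟙 S : S ⟶ S) ⁻¹ᵁ V from h) hfree x
  rw [id_appLE, id_appLE] at key
  exact key

end Res

section Casts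

variable {X W : Scheme.{u}} (π : W ⟶ X)

/-- The direct image of the structure sheaf. -/
noncomputable abbrev GG : X.Modules :=
  (Scheme.Modules.pushforward π).obj (Coh.structureModule W)

def toG {V : X.Opens} (s : Γ(W, π ⁻¹ᵁ V)) : Γ(GG π, V) := s
def ofG {V : X.Opens} (s : Γ(GG π, V)) : Γ(W, π ⁻¹ᵁ V) := s

lemma ofG_toG {V : X.Opens} (s : Γ(W, π ⁻¹ᵁ V)) : ofG π (toG π s) = s := rfl
lemma toG_ofG {V : X.Opens} (s : Γ(GG π, V)) : toG π (ofG π s) = s := rfl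
lemma ofG_add {V : X.Opens} (s t : Γ(GG π, V)) : ofG π (s + t) = ofG π s + ofG π t := rfl
lemma toG_add {V : X.Opens} (s t : Γ(W, π ⁻¹ᵁ V)) : toG π (s + t) = toG π s + toG π t := rfl
lemma ofG_rF {V V' : X.Opens} (h : V' ≤ V) (s : Γ(GG π, V)) :
    ofG π (rF (GG π) h s) =
      (W.presheaf.map (homOfLE (preimage_mono π h)).op).hom (ofG π s) := rfl
lemma rF_toG {V V' : X.Opens} (h : V' ≤ V) (s : Γ(W, π ⁻¹ᵁ V)) :
    rF (GG π) h (toG π s) =
      toG π ((W.presheaf.map (homOfLE (preimage_mono π h)).op).hom s) := rfl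
lemma ofG_smul {V : X.Opens} (r : Γ(X, V)) (s : Γ(GG π, V)) :
    ofG π (r • s) = (π.app V).hom r * ofG π s := rfl
lemma smul_toG {V : X.Opens} (r : Γ(X, V)) (s : Γ(W, π ⁻¹ᵁ V)) :
    r • toG π s = toG π ((π.app V).hom r * s) := rfl

/-- Restriction of a global function to an open. -/
noncomputable def resTop {P : Scheme.{u}} (s : Γ(P, ⊤)) (O : P.Opens) : Γ(P, O) :=
  (P.presheaf.map (homOfLE (le_top : O ≤ ⊤)).op).hom s

lemma map_resTop {P : Scheme.{u}} (s : Γ(P, ⊤)) {O O' : P.Opens} (h : O' ≤ O) :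
    (P.presheaf.map (homOfLE h).op).hom (resTop s O) = resTop s O' := by
  unfold resTop
  rw [← CommRingCat.comp_apply, ← Functor.map_comp]
  rfl

lemma appLE_resTop {P Q : Scheme.{u}} (f : P ⟶ Q) (s : Γ(Q, ⊤)) {O : Q.Opens} {O' : P.Opens}
    (h : O' ≤ f ⁻¹ᵁ O) : (f.appLE O O' h).hom (resTop s O) = resTop (f.appTop.hom s) O' := by
  unfold resTop
  rw [← CommRingCat.comp_apply, ← CommRingCat.comp_apply, Scheme.Hom.map_appLE]
  have : f.appTop ≫ P.presheaf.map (homOfLE (le_top : O' ≤ ⊤)).op =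
      f.appLE ⊤ O' (le_top.trans (show (⊤ : P.Opens) ≤ f ⁻¹ᵁ ⊤ from le_refl _)) := by
    have e0 : f.appTop = f.appLE ⊤ ⊤ (show (⊤ : P.Opens) ≤ f ⁻¹ᵁ ⊤ from le_refl _) := by
      simp [Scheme.Hom.appLE, Scheme.Hom.appTop]
    rw [e0, Scheme.Hom.appLE_map]
  rw [this]

end Casts

section ApplE

variable {P Q : Scheme.{u}} (f : P ⟶ Q)

lemma res_appLE {O : Q.Opens} {O₁ O₂ : P.Opens} (e : O₁ ≤ f ⁻¹ᵁ O) (h : O₂ ≤ O₁) (x : Γ(Q, O)) :
    (P.presheaf.map (homOfLE h).op).hom ((f.appLE O O₁ e).hom x) =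
      (f.appLE O O₂ (h.trans e)).hom x := by
  rw [← CommRingCat.comp_apply, Scheme.Hom.appLE_map]

lemma appLE_res {O O' : Q.Opens} {O₁ : P.Opens} (e : O₁ ≤ f ⁻¹ᵁ O') (h : O' ≤ O) (x : Γ(Q, O)) :
    (f.appLE O' O₁ e).hom ((Q.presheaf.map (homOfLE h).op).hom x) =
      (f.appLE O O₁ (e.trans (preimage_mono f h))).hom x := by
  rw [← CommRingCat.comp_apply, Scheme.Hom.map_appLE]

end ApplE

section Square

variable {X W Z P : Scheme.{u}} {π : W ⟶ X} {g : Z ⟶ X} {p : P ⟶ W} {q : P ⟶ Z}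

/-- The affine opens of `X` over which `π_* O_W` is free. -/
def FreeOpens (π : W ⟶ X) : Set X.Opens := {V | FlatNormH4.IsFreeOpen π V}

theorem isBasis_freeOpens (π : W ⟶ X) [IsFinite π] [Etale π] : Opens.IsBasis (FreeOpens π) := by
  rw [Opens.isBasis_iff_nbhd]
  intro U x hx
  obtain ⟨V, hV, hxV, hVU⟩ := FlatNormH4.exists_isFreeOpen π U x hx
  exact ⟨V, hV, hxV, hVU⟩

theorem finFreeEt_of_mem (π : W ⟶ X) [IsFinite π] [Etale π] {V : X.Opens}
    (hV : V ∈ FreeOpens π) : FinFreeEt (π.app V).hom := by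
  refine ⟨hV.2, IsFinite.finite_app π V hV.1, ?_⟩
  have h := Etale.etale_appLE π hV.1 (hV.1.preimage π) le_rfl
  rw [Scheme.Hom.appLE_eq_app] at h
  exact h

theorem isAffineOpen_of_mem {V : X.Opens} (hV : V ∈ FreeOpens π) : IsAffineOpen V := hV.1

variable (H : IsPullback p q π g)

include H in
theorem isAffineHom_snd [IsAffineHom π] : IsAffineHom q :=
  MorphismProperty.of_isPullback (P := @IsAffineHom) H inferInstance

include H in
theorem lePQ (V : X.Opens) : q ⁻¹ᵁ (g ⁻¹ᵁ V) ≤ p ⁻¹ᵁ (π ⁻¹ᵁ V) :=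
  le_preimage H (le_refl (g ⁻¹ᵁ V))

/-- The trace form attached to a function on `P`, on sections over `V`. -/
noncomputable def psiFun (s : Γ(P, ⊤)) (V : X.Opens) (t : Γ(GG π, V)) : Γ(GG g, V) :=
  toG g (trH (q.app (g ⁻¹ᵁ V)).hom (resTop s (q ⁻¹ᵁ (g ⁻¹ᵁ V)) *
    (p.appLE (π ⁻¹ᵁ V) (q ⁻¹ᵁ (g ⁻¹ᵁ V)) (lePQ H V)).hom (ofG π t)))

lemma psiFun_add (s : Γ(P, ⊤)) (V : X.Opens) (t t' : Γ(GG π, V)) :
    psiFun H s V (t + t') = psiFun H s V t + psiFun H s V t' := by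
  unfold psiFun
  rw [ofG_add, map_add, mul_add, trH_add, toG_add]

/-- The additive map on sections. -/
noncomputable def psi (s : Γ(P, ⊤)) (V : X.Opens) : Γ(GG π, V) →+ Γ(GG g, V) :=
  AddMonoidHom.mk' (psiFun H s V) (psiFun_add H s V)

lemma psi_apply (s : Γ(P, ⊤)) (V : X.Opens) (t : Γ(GG π, V)) :
    psi H s V t = toG g (trH (q.app (g ⁻¹ᵁ V)).hom (resTop s (q ⁻¹ᵁ (g ⁻¹ᵁ V)) *
      (p.appLE (π ⁻¹ᵁ V) (q ⁻¹ᵁ (g ⁻¹ᵁ V)) (lePQ H V)).hom (ofG π t))) := rfl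

variable [IsFinite π] [Etale π] [IsAffineHom g]

include H in
theorem finFreeEt_snd {V : X.Opens} (hV : V ∈ FreeOpens π) :
    FinFreeEt (q.app (g ⁻¹ᵁ V)).hom :=
  finFreeEt_bc H hV.1 (hV.1.preimage g) (le_refl _) (finFreeEt_of_mem π hV)

lemma psi_res (s : Γ(P, ⊤)) (U V : X.Opens) (hU : U ∈ FreeOpens π) (hV : V ∈ FreeOpens π)
    (h : V ≤ U) (x : Γ(GG π, U)) :
    rF (GG g) h (psi H s U x) = psi H s V (rF (GG π) h x) := by
  haveI := isAffineHom_snd H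
  rw [psi_apply, psi_apply, rF_toG, ofG_rF]
  congr 1
  rw [← trH_res q (hU.1.preimage g) (hV.1.preimage g) (preimage_mono g h)
    (finFreeEt_snd H hU).finFree]
  congr 1
  rw [map_mul, map_resTop, res_appLE, appLE_res]

lemma psi_lin (s : Γ(P, ⊤)) (U : X.Opens) (hU : U ∈ FreeOpens π) (r : Γ(X, U))
    (x : Γ(GG π, U)) : psi H s U (r • x) = r • psi H s U x := by
  rw [psi_apply, psi_apply, smul_toG, ofG_smul, map_mul]
  congr 1
  have hw := (isPushout_sections H hU.1 (hU.1.preimage g) (le_refl _)).w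
  have hw' : (p.appLE (π ⁻¹ᵁ U) (q ⁻¹ᵁ (g ⁻¹ᵁ U)) (lePQ H U)).hom ((π.app U).hom r) =
      (q.app (g ⁻¹ᵁ U)).hom ((g.app U).hom r) := by
    have := congrArg (fun φ => φ.hom r) hw
    simp only [Scheme.Hom.appLE_eq_app, CommRingCat.hom_comp, RingHom.comp_apply] at this
    exact this
  rw [hw', mul_left_comm, trH_mul_left]

/-- The data on the basis of free opens. -/
noncomputable def data (s : Γ(P, ⊤)) : BasisHomH7.Data (GG π) (GG g) (FreeOpens π) where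
  ψ V _ := psi H s V
  res U V hU hV h x := psi_res H s U V hU hV h x
  lin U hU r x := psi_lin H s U hU r x

/-- The trace form `π_* O_W ⟶ g_* O_Z` attached to a function on `P = W ×_X Z`. -/
noncomputable def TT (s : Γ(P, ⊤)) : GG π ⟶ GG g :=
  BasisHomH7.hom (isBasis_freeOpens π) (data H s)

theorem ap_TT (s : Γ(P, ⊤)) {V : X.Opens} (hV : V ∈ FreeOpens π) (t : Γ(W, π ⁻¹ᵁ V)) :
    ap (TT H s) V (toG π t) = toG g (trH (q.app (g ⁻¹ᵁ V)).hom (resTop s (q ⁻¹ᵁ (g ⁻¹ᵁ V)) *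
      (p.appLE (π ⁻¹ᵁ V) (q ⁻¹ᵁ (g ⁻¹ᵁ V)) (lePQ H V)).hom t)) :=
  BasisHomH7.ap_hom_basis (isBasis_freeOpens π) (data H s) V hV (toG π t)

end Square

end Groth.Agent.Lib.TrDual
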