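import Mathlib
import Groth.Prelude.Def_Coh
import Groth.Agent.Lib.TrDual3_helper5

/-! Trace duality for finite étale morphisms: the trace form construction is bijective, and is
compatible with base change (helper5). APPEND-ONLY once landed. -/

set_option autoImplicit false
set_option linter.style.haveILetI false
universe u
open CategoryTheory CategoryTheory.Limits AlgebraicGeometry Opposite TopologicalSpace
open QcqsLoc QCohExtn

namespace Groth.Agent.Lib.TrDual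

section Fun

/-- View a function as a section of the structure module. -/
def toO {Z : Scheme.{u}} {U : Z.Opens} (a : Γ(Z, U)) : Γ(Coh.structureModule Z, U) := a

lemma rF_toO {Z : Scheme.{u}} {U U' : Z.Opens} (h : U' ≤ U) (a : Γ(Z, U)) :
    rF (Coh.structureModule Z) h (toO a) = toO ((Z.presheaf.map (homOfLE h).op).hom a) := rfl

lemma toO_injective {Z : Scheme.{u}} {U : Z.Opens} {a b : Γ(Z, U)} (h : toO a = toO b) :
    a = b := h

/-- Two global functions agreeing locally are equal. -/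
theorem fun_ext_of_cover {P : Scheme.{u}} (s s' : Γ(P, ⊤))
    (h : ∀ y : P, ∃ O : P.Opens, y ∈ O ∧ resTop s O = resTop s' O) : s = s' := by
  apply toO_injective
  apply eq_of_cover (Coh.structureModule P)
  intro y _
  obtain ⟨O, hy, hO⟩ := h y
  refine ⟨O, le_top, hy, ?_⟩
  rw [rF_toO, rF_toO]
  exact congrArg toO hO

end Fun

section Square

variable {X W Z P : Scheme.{u}} {π : W ⟶ X} {g : Z ⟶ X} {p : P ⟶ W} {q : P ⟶ Z}
  (H : IsPullback p q π g) [IsFinite π] [Etale π] [IsAffineHom g]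

/-- The trace form determines the function. -/
theorem TT_injective (s s' : Γ(P, ⊤)) (h : TT H s = TT H s') : s = s' := by
  apply fun_ext_of_cover
  intro y
  obtain ⟨V, hV, hyV, -⟩ := Opens.isBasis_iff_nbhd.mp (isBasis_freeOpens π)
    (show g (q y) ∈ (⊤ : X.Opens) from trivial)
  refine ⟨q ⁻¹ᵁ (g ⁻¹ᵁ V), hyV, ?_⟩
  refine trH_nondeg_bc H hV.1 (hV.1.preimage g) (le_refl _) (finFreeEt_of_mem π hV) _ _
    (fun t => ?_)
  have h1 := ap_TT H s hV t
  have h2 := ap_TT H s' hV t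
  rw [h] at h1
  exact h1.symm.trans h2

section Surj

variable (φ : GG π ⟶ GG g)

/-- The additive map on sections induced by a morphism `π_* O_W ⟶ g_* O_Z`. -/
noncomputable def secMap (V : X.Opens) : Γ(W, π ⁻¹ᵁ V) →+ Γ(Z, g ⁻¹ᵁ V) :=
  AddMonoidHom.mk' (fun t => ofG g (ap φ V (toG π t))) (fun t t' => by
    rw [toG_add, map_add, ofG_add])

lemma secMap_apply (V : X.Opens) (t : Γ(W, π ⁻¹ᵁ V)) :
    secMap φ V t = ofG g (ap φ V (toG π t)) := rfl

lemma secMap_lin (V : X.Opens) (r : Γ(X, V)) (t : Γ(W, π ⁻¹ᵁ V)) :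
    secMap φ V ((π.app V).hom r * t) = (g.app V).hom r * secMap φ V t := by
  rw [secMap_apply, secMap_apply, ← smul_toG, ap_smul, ofG_smul]

lemma secMap_res {V V' : X.Opens} (h : V' ≤ V) (t : Γ(W, π ⁻¹ᵁ V)) :
    secMap φ V' ((W.presheaf.map (homOfLE (preimage_mono π h)).op).hom t) =
      (Z.presheaf.map (homOfLE (preimage_mono g h)).op).hom (secMap φ V t) := by
  rw [secMap_apply, secMap_apply, ← rF_toG π h, ap_rF, ofG_rF]

/-- `x` represents `φ` over the free open `V`. -/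
def Represents (V : X.Opens) (x : Γ(P, q ⁻¹ᵁ (g ⁻¹ᵁ V))) : Prop :=
  ∀ t : Γ(W, π ⁻¹ᵁ V), secMap φ V t = trH (q.app (g ⁻¹ᵁ V)).hom
    (x * (p.appLE (π ⁻¹ᵁ V) (q ⁻¹ᵁ (g ⁻¹ᵁ V)) (lePQ H V)).hom t)

theorem exists_represents {V : X.Opens} (hV : V ∈ FreeOpens π) :
    ∃ x, Represents H φ V x := by
  have hlin : ∀ r x, secMap φ V ((π.app V).hom r * x) =
      (g.appLE V (g ⁻¹ᵁ V) (le_refl _)).hom r * secMap φ V x := fun r x => by
    rw [Scheme.Hom.appLE_eq_app]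
    exact secMap_lin φ V r x
  obtain ⟨F, hF, hF0⟩ := lift_bc H hV.1 (hV.1.preimage g) (le_refl _) (secMap φ V) hlin
  obtain ⟨x, hx⟩ := trH_repr (finFreeEt_snd H hV) F hF
  exact ⟨x, fun t => by rw [← hF0, hx]⟩

theorem represents_unique {V : X.Opens} (hV : V ∈ FreeOpens π)
    (x x' : Γ(P, q ⁻¹ᵁ (g ⁻¹ᵁ V))) (hx : Represents H φ V x) (hx' : Represents H φ V x') :
    x = x' :=
  trH_nondeg_bc H hV.1 (hV.1.preimage g) (le_refl _) (finFreeEt_of_mem π hV) x x'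
    (fun t => (hx t).symm.trans (hx' t))

theorem represents_res {V V' : X.Opens} (hV : V ∈ FreeOpens π) (hV' : V' ∈ FreeOpens π)
    (h : V' ≤ V) (x : Γ(P, q ⁻¹ᵁ (g ⁻¹ᵁ V))) (hx : Represents H φ V x) :
    Represents H φ V'
      ((P.presheaf.map (homOfLE (preimage_mono q (preimage_mono g h))).op).hom x) := by
  haveI := isAffineHom_snd H
  set x' := (P.presheaf.map (homOfLE (preimage_mono q (preimage_mono g h))).op).hom x with hx'
  let F' : Γ(W, π ⁻¹ᵁ V') →+ Γ(Z, g ⁻¹ᵁ V') :=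
    (trAdd (q.app (g ⁻¹ᵁ V')).hom).comp ((AddMonoidHom.mulLeft x').comp
      (p.appLE (π ⁻¹ᵁ V') (q ⁻¹ᵁ (g ⁻¹ᵁ V')) (lePQ H V')).hom.toAddMonoidHom)
  have hF'apply : ∀ t, F' t = trH (q.app (g ⁻¹ᵁ V')).hom
      (x' * (p.appLE (π ⁻¹ᵁ V') (q ⁻¹ᵁ (g ⁻¹ᵁ V')) (lePQ H V')).hom t) := fun t => rfl
  intro t'
  rw [← hF'apply]
  refine ext_bc' (idSq π) hV.1 hV'.1 (show V' ≤ (𝟙 X : X ⟶ X) ⁻¹ᵁ V from h)
    (fun r n => (g.app V').hom r * n) (secMap φ V') F' (fun r z => secMap_lin φ V' r z)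
    (fun r z => ?_) (fun t => ?_) t'
  · rw [hF'apply, hF'apply, map_mul]
    have hw := sections_w H hV'.1 (hV'.1.preimage g) (le_refl _) r
    rw [Scheme.Hom.appLE_eq_app] at hw
    rw [hw, mul_left_comm, trH_mul_left]
  · rw [id_appLE, secMap_res φ h, hx t, hF'apply,
      ← trH_res q (hV.1.preimage g) (hV'.1.preimage g) (preimage_mono g h)
        (finFreeEt_snd H hV).finFree, map_mul, res_appLE, appLE_res]

/-- Surjectivity of the trace form construction. -/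
theorem TT_surjective : ∃ s : Γ(P, ⊤), TT H s = φ := by
  classical
  let ι := {V : X.Opens // V ∈ FreeOpens π}
  choose xx hxx using fun i : ι => exists_represents H φ i.2
  let O : ι → P.Opens := fun i => q ⁻¹ᵁ (g ⁻¹ᵁ i.1)
  have hcov : (⊤ : P.Opens) ≤ ⨆ i, O i := by
    intro y _
    obtain ⟨V, hV, hyV, -⟩ := Opens.isBasis_iff_nbhd.mp (isBasis_freeOpens π)
      (show g (q y) ∈ (⊤ : X.Opens) from trivial)
    exact Opens.mem_iSup.mpr ⟨⟨V, hV⟩, hyV⟩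
  have hres : ∀ (i j : ι) (h : j.1 ≤ i.1),
      (P.presheaf.map (homOfLE (preimage_mono q (preimage_mono g h))).op).hom (xx i) = xx j :=
    fun i j h => represents_unique H φ j.2 _ _ (represents_res H φ i.2 j.2 h (xx i) (hxx i))
      (hxx j)
  have hs : ∀ i j, rF (Coh.structureModule P) (inf_le_left : O i ⊓ O j ≤ O i) (toO (xx i)) =
      rF (Coh.structureModule P) (inf_le_right : O i ⊓ O j ≤ O j) (toO (xx j)) := by
    intro i j
    apply eq_of_cover (Coh.structureModule P)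
    intro y hy
    obtain ⟨V, hV, hyV, hVij⟩ := Opens.isBasis_iff_nbhd.mp (isBasis_freeOpens π)
      (show g (q y) ∈ i.1 ⊓ j.1 from ⟨hy.1, hy.2⟩)
    have hle : O ⟨V, hV⟩ ≤ O i ⊓ O j := fun z hz => ⟨(hVij hz).1, (hVij hz).2⟩
    refine ⟨O ⟨V, hV⟩, hle, hyV, ?_⟩
    rw [rF_rF, rF_rF, rF_toO, rF_toO]
    have e1 := hres i ⟨V, hV⟩ (hVij.trans inf_le_left)
    have e2 := hres j ⟨V, hV⟩ (hVij.trans inf_le_right)
    exact congrArg toO (e1.trans e2.symm)
  obtain ⟨s, hsO⟩ := TensH8.glue (Coh.structureModule P) O ⊤ (fun _ => le_top) hcov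
    (fun i => toO (xx i)) hs
  have hsO' : ∀ i : ι, resTop (s : Γ(P, ⊤)) (O i) = xx i := fun i => hsO i
  refine ⟨s, ?_⟩
  apply BasisHomH7.hom_ext_basis (isBasis_freeOpens π)
  intro V hV t
  have h1 := ap_TT H (s : Γ(P, ⊤)) hV (ofG π t)
  rw [toG_ofG] at h1
  rw [h1, hsO' ⟨V, hV⟩, ← hxx ⟨V, hV⟩ (ofG π t), secMap_apply, toG_ofG]
  rfl

end Surj

end Square

section Compat

theorem ap_comp {X : Scheme.{u}} {M N K : X.Modules} (a : M ⟶ N) (b : N ⟶ K) (V : X.Opens)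
    (x : Γ(M, V)) : ap (a ≫ b) V x = ap b V (ap a V x) := rfl

lemma appLE_congr_hom {P Q : Scheme.{u}} {f f' : P ⟶ Q} (h : f = f') {O : Q.Opens}
    {O' : P.Opens} (e : O' ≤ f ⁻¹ᵁ O) (e' : O' ≤ f' ⁻¹ᵁ O) (x : Γ(Q, O)) :
    (f.appLE O O' e).hom x = (f'.appLE O O' e').hom x := by
  subst h
  rfl

lemma appLE_appLE {P Q R : Scheme.{u}} (f : P ⟶ Q) (k : Q ⟶ R) {O : R.Opens} {O₁ : Q.Opens}
    {O₂ : P.Opens} (e₁ : O₁ ≤ k ⁻¹ᵁ O) (e₂ : O₂ ≤ f ⁻¹ᵁ O₁) (e : O₂ ≤ (f ≫ k) ⁻¹ᵁ O)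
    (x : Γ(R, O)) :
    (f.appLE O₁ O₂ e₂).hom ((k.appLE O O₁ e₁).hom x) = ((f ≫ k).appLE O O₂ e).hom x := by
  rw [← CommRingCat.comp_apply, Scheme.Hom.appLE_comp_appLE]

variable {X W Z P Z' P' : Scheme.{u}} {π : W ⟶ X} {g : Z ⟶ X} {p : P ⟶ W} {q : P ⟶ Z}
  {g' : Z' ⟶ X} {p' : P' ⟶ W} {q' : P' ⟶ Z'}
  (H : IsPullback p q π g) (H' : IsPullback p' q' π g')
  (j : Z ⟶ Z') (τ : P ⟶ P') (hj : j ≫ g' = g) (hτp : τ ≫ p' = p) (hτq : τ ≫ q' = q ≫ j)

include hj in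
lemma leJ (V : X.Opens) : g ⁻¹ᵁ V ≤ j ⁻¹ᵁ (g' ⁻¹ᵁ V) := by
  subst hj
  exact le_refl _

include H H' hj hτp hτq in
theorem leftSq : IsPullback τ q q' j := by
  refine IsPullback.of_right ?_ hτq H'
  rw [hτp, hj]
  exact H

variable [IsFinite π] [Etale π] [IsAffineHom g] [IsAffineHom g']

include hτp hτq in
/-- Compatibility of the trace form construction with base change. -/
theorem TT_comp (J : GG g' ⟶ GG g)
    (hJ : ∀ (V : X.Opens) (n : Γ(Z', g' ⁻¹ᵁ V)),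
      ap J V (toG g' n) = toG g ((j.appLE (g' ⁻¹ᵁ V) (g ⁻¹ᵁ V) (leJ j hj V)).hom n))
    (s' : Γ(P', ⊤)) : TT H' s' ≫ J = TT H (τ.appTop.hom s') := by
  haveI := isAffineHom_snd H'
  have HL := leftSq H H' j τ hj hτp hτq
  apply BasisHomH7.hom_ext_basis (isBasis_freeOpens π)
  intro V hV t
  have h1 := ap_TT H' s' hV (ofG π t)
  have h2 := ap_TT H (τ.appTop.hom s') hV (ofG π t)
  rw [toG_ofG] at h1 h2
  rw [ap_comp, h1, h2, hJ]
  congr 1
  rw [← trH_bc HL (hV.1.preimage g') (hV.1.preimage g) (leJ j hj V)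
    (finFreeEt_snd H' hV).finFree, map_mul, appLE_resTop]
  congr 2
  rw [appLE_appLE τ p' (lePQ H' V) (le_preimage HL (leJ j hj V))
    (by rw [hτp]; exact lePQ H V)]
  exact appLE_congr_hom hτp _ _ _

end Compat

end Groth.Agent.Lib.TrDual
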