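import Mathlib
import Groth.Prelude.Def_Lef
import Groth.Prelude.Def_FEt
import Groth.Agent.Lib.TrDual4_helper5
import Groth.Agent.Lib.LefConn1_helper5
import Groth.Agent.Lib.FEtLef5_helper5
import Groth.Agent.Lib.FLF8_helper8
import Groth.Agent.Lib.FEtFull_helper4

/-! The Lefschetz condition implies full faithfulness of restriction of finite étale covers, via
trace duality (helper5). APPEND-ONLY once landed. -/

set_option autoImplicit false
set_option linter.style.haveILetI false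
universe u
open CategoryTheory CategoryTheory.Limits AlgebraicGeometry Opposite TopologicalSpace
open QcqsLoc QCohExtn

namespace Groth.Agent.Lib.TrDual

section TX

variable {X W : Scheme.{u}} (π : W ⟶ X) [IsFinite π] [Etale π]

/-- The trace form `π_* O_W ⟶ O_X` attached to a function on `W`. -/
noncomputable def TX (s : Γ(W, ⊤)) : GG π ⟶ Coh.structureModule X :=
  TT (idSq π) s ≫ (Scheme.Modules.pushforwardId X).hom.app (Coh.structureModule X)

theorem TX_injective (s s' : Γ(W, ⊤)) (h : TX π s = TX π s') : s = s' := by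
  apply TT_injective (idSq π)
  unfold TX at h
  exact (cancel_mono _).mp h

theorem TX_surjective (φ : GG π ⟶ Coh.structureModule X) : ∃ s : Γ(W, ⊤), TX π s = φ := by
  obtain ⟨s, hs⟩ := TT_surjective (idSq π)
    (φ ≫ (Scheme.Modules.pushforwardId X).inv.app (Coh.structureModule X))
  refine ⟨s, ?_⟩
  unfold TX
  rw [hs, Category.assoc, Iso.inv_hom_id_app]
  exact Category.comp_id _

lemma appLE_eq_app' {P Q : Scheme.{u}} (f : P ⟶ Q) (O₁ O : Q.Opens) (h : O₁ = O)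
    (e : f ⁻¹ᵁ O ≤ f ⁻¹ᵁ O₁) (n : Γ(Q, O₁)) :
    (f.appLE O₁ (f ⁻¹ᵁ O) e).hom n = (f.app O).hom (h ▸ n) := by
  subst h
  rw [Scheme.Hom.appLE_eq_app]

/-- Compatibility of the trace form with restriction to a closed subscheme (or any affine
base change). -/
theorem TX_comp_unitToPush {Z P : Scheme.{u}} {g : Z ⟶ X} {p : P ⟶ W} {q : P ⟶ Z}
    (H : IsPullback p q π g) [IsAffineHom g] (s : Γ(W, ⊤)) :
    TX π s ≫ ClSub.unitToPush g = TT H (p.appTop.hom s) := by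
  unfold TX
  rw [Category.assoc]
  refine TT_comp H (idSq π) g p (Category.comp_id g) (Category.comp_id p) H.w _ ?_ s
  intro V n
  exact congrArg (toG g) (appLE_eq_app' g ((𝟙 X : X ⟶ X) ⁻¹ᵁ V) V rfl _ n).symm

end TX

section QuotMap

variable {X : Scheme.{u}}

/-- The quotient maps `O_X/I ⟶ O_X/J` on sections. -/
theorem quotMap_ap {I J : X.IdealSheafData} (h : I ≤ J) (V : X.Opens)
    (n : Γ(I.subscheme, I.subschemeι ⁻¹ᵁ V)) :
    ap (Lef.quotMap h) V (toG I.subschemeι n) =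
      toG J.subschemeι (((Scheme.IdealSheafData.inclusion h).appLE (I.subschemeι ⁻¹ᵁ V)
        (J.subschemeι ⁻¹ᵁ V)
        (leJ (Scheme.IdealSheafData.inclusion h)
          (Scheme.IdealSheafData.inclusion_subschemeι h) V)).hom n) := by
  unfold Lef.quotMap
  rw [Scheme.Hom.appLE]
  have key : ∀ (a b : op ((Scheme.IdealSheafData.inclusion h) ⁻¹ᵁ (I.subschemeι ⁻¹ᵁ V)) ⟶
      op (J.subschemeι ⁻¹ᵁ V)) (x : Γ(J.subscheme,
        (Scheme.IdealSheafData.inclusion h) ⁻¹ᵁ (I.subschemeι ⁻¹ᵁ V))),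
      (J.subscheme.presheaf.map a).hom x = (J.subscheme.presheaf.map b).hom x := by
    intro a b x
    rw [Subsingleton.elim a b]
  exact key _ _ _

end QuotMap

section Tower

variable {X W : Scheme.{u}} (𝓙 : X.IdealSheafData) (π : W ⟶ X)

/-- The closed immersion of the `n`-th infinitesimal neighbourhood. -/
noncomputable abbrev gn (n : ℕ) : (𝓙 ^ (n + 1)).subscheme ⟶ X := (𝓙 ^ (n + 1)).subschemeι

/-- The base change of the cover to the `n`-th infinitesimal neighbourhood. -/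
noncomputable abbrev Pn (n : ℕ) : Scheme.{u} := pullback π (gn 𝓙 n)

noncomputable abbrev pn (n : ℕ) : Pn 𝓙 π n ⟶ W := pullback.fst π (gn 𝓙 n)

noncomputable abbrev qn (n : ℕ) : Pn 𝓙 π n ⟶ (𝓙 ^ (n + 1)).subscheme := pullback.snd π (gn 𝓙 n)

theorem Hn (n : ℕ) : IsPullback (pn 𝓙 π n) (qn 𝓙 π n) π (gn 𝓙 n) :=
  IsPullback.of_hasPullback π (gn 𝓙 n)

/-- The transition closed immersions of the infinitesimal neighbourhoods. -/
noncomputable abbrev jn (n : ℕ) : (𝓙 ^ (n + 1)).subscheme ⟶ (𝓙 ^ (n + 1 + 1)).subscheme :=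
  Scheme.IdealSheafData.inclusion (Lef.pow_succ_le 𝓙 n)

theorem jn_gn (n : ℕ) : jn 𝓙 n ≫ gn 𝓙 (n + 1) = gn 𝓙 n :=
  Scheme.IdealSheafData.inclusion_subschemeι (Lef.pow_succ_le 𝓙 n)

/-- The transition maps of the tower of base changes. -/
noncomputable def τn (n : ℕ) : Pn 𝓙 π n ⟶ Pn 𝓙 π (n + 1) :=
  pullback.lift (pn 𝓙 π n) (qn 𝓙 π n ≫ jn 𝓙 n)
    (by rw [Category.assoc, jn_gn]; exact pullback.condition)

theorem τn_pn (n : ℕ) : τn 𝓙 π n ≫ pn 𝓙 π (n + 1) = pn 𝓙 π n := pullback.lift_fst _ _ _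

theorem τn_qn (n : ℕ) : τn 𝓙 π n ≫ qn 𝓙 π (n + 1) = qn 𝓙 π n ≫ jn 𝓙 n :=
  pullback.lift_snd _ _ _

variable [IsFinite π] [Etale π]

theorem isFinLocFree_GG : FlatMod.IsFinLocFree (GG π) := by
  have h : Mor2.IsFinLocFree π := ⟨inferInstance, inferInstance, inferInstance⟩
  exact ((FLFH8.isFinLocFree_iff π).mpr h).2

variable (hL : Lef.HomToFormalBijective 𝓙 (GG π))

include hL in
theorem ring_inj (s s' : Γ(W, ⊤))
    (Hs : ∀ n : ℕ, (pn 𝓙 π n).appTop.hom s = (pn 𝓙 π n).appTop.hom s') : s = s' := by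
  apply TX_injective π
  apply hL.1
  intro n
  have e1 := TX_comp_unitToPush π (Hn 𝓙 π n) s
  have e2 := TX_comp_unitToPush π (Hn 𝓙 π n) s'
  rw [Hs n] at e1
  exact e1.trans e2.symm

include hL in
theorem ring_surj (t : ∀ n : ℕ, Γ(Pn 𝓙 π n, ⊤))
    (ht : ∀ n : ℕ, (τn 𝓙 π n).appTop.hom (t (n + 1)) = t n) :
    ∃ s : Γ(W, ⊤), ∀ n : ℕ, (pn 𝓙 π n).appTop.hom s = t n := by
  let y : ∀ n : ℕ, GG π ⟶ ClSub.quotMod (𝓙 ^ (n + 1)) := fun n => TT (Hn 𝓙 π n) (t n)
  have hy : Lef.IsFormalHom 𝓙 (GG π) y := by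
    intro n
    have h1 := TT_comp (Hn 𝓙 π n) (Hn 𝓙 π (n + 1)) (jn 𝓙 n) (τn 𝓙 π n) (jn_gn 𝓙 n)
      (τn_pn 𝓙 π n) (τn_qn 𝓙 π n) (Lef.quotMap (Lef.pow_succ_le 𝓙 n))
      (fun V m => quotMap_ap (Lef.pow_succ_le 𝓙 n) V m) (t (n + 1))
    rw [ht n] at h1
    exact h1
  obtain ⟨φ, hφ⟩ := hL.2 y hy
  obtain ⟨s, hs⟩ := TX_surjective π φ
  refine ⟨s, fun n => ?_⟩
  apply TT_injective (Hn 𝓙 π n)
  rw [← TX_comp_unitToPush π (Hn 𝓙 π n) s, hs]
  exact hφ n

end Tower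

section Main

open Groth.Agent.Lib.FEtLef

variable {X : Scheme.{u}} (𝓙 : X.IdealSheafData)

theorem range_pn {W : Scheme.{u}} (π : W ⟶ X) (n : ℕ) :
    Set.range (pn 𝓙 π n) = π ⁻¹' (𝓙.support : Set X) := by
  rw [Scheme.Pullback.range_fst]
  exact congrArg (fun S => π ⁻¹' S) (LefConn.range_ι 𝓙 n)

variable (hL : ∀ D : X.Modules, FlatMod.IsFinLocFree D → Lef.HomToFormalBijective 𝓙 D)

include hL in
theorem clopen_eq_empty_of_lef {W : Scheme.{u}} (π : W ⟶ X) [IsFinite π] [Etale π]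
    (D : Set W) (hD : IsClopen D) (h0 : D ∩ π ⁻¹' (𝓙.support : Set X) = ∅) : D = ∅ := by
  have hb := hL (GG π) (isFinLocFree_GG π)
  refine clopen_eq_empty (fun n => Pn 𝓙 π n) (fun n => pn 𝓙 π n)
    (fun n => by rw [range_pn, range_pn])
    (fun s s' Hs => ring_inj 𝓙 π hb s s' Hs) D hD ?_
  rw [range_pn]
  exact h0

include hL in
theorem exists_clopen_lift_of_lef {W : Scheme.{u}} (π : W ⟶ X) [IsFinite π] [Etale π]
    (C0 : Set ↥(Pn 𝓙 π 0)) (hC0 : IsClopen C0) :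
    ∃ C : Set W, IsClopen C ∧ (pn 𝓙 π 0) ⁻¹' C = C0 := by
  have hb := hL (GG π) (isFinLocFree_GG π)
  exact exists_clopen_lift (fun n => Pn 𝓙 π n) (fun n => pn 𝓙 π n)
    (fun n => τn 𝓙 π n) (fun n => τn_pn 𝓙 π n)
    (fun n => (pn 𝓙 π n).isClosedEmbedding)
    (fun n => by rw [range_pn, range_pn])
    (fun s s' Hs => ring_inj 𝓙 π hb s s' Hs)
    (fun t ht => ring_surj 𝓙 π hb t ht) C0 hC0

include hL in
/-- The lifting property for clopen subsets, for an arbitrary presentation `𝓚 = 𝓙 ^ (0 + 1)`. -/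
theorem exists_clopen_lift_of_eq' (𝓚 : X.IdealSheafData) (h𝓚 : 𝓚 = 𝓙 ^ (0 + 1))
    {W : Scheme.{u}} (π : W ⟶ X) [IsFinite π] [Etale π]
    (V : Set ↥(pullback π 𝓚.subschemeι)) (hV : IsClopen V) :
    ∃ U : Set W, IsClopen U ∧ (pullback.fst π 𝓚.subschemeι).base ⁻¹' U = V := by
  subst h𝓚
  exact exists_clopen_lift_of_lef 𝓙 hL π V hV

include hL in
/-- The Lefschetz condition for all finite locally free modules implies that restriction of
finite étale covers to the closed subscheme is fully faithful. -/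
theorem main_lef :
    (FEt.restrict 𝓙.subschemeι).Full ∧ (FEt.restrict 𝓙.subschemeι).Faithful := by
  have hD : ∀ U : Set X, IsOpen U → IsClosed U → U.Nonempty →
      (U ∩ Set.range 𝓙.subschemeι.base).Nonempty := by
    intro U hU1 hU2 hne
    by_contra hcon
    rw [Set.not_nonempty_iff_eq_empty] at hcon
    have h1 : U ∩ (𝟙 X : X ⟶ X) ⁻¹' (𝓙.support : Set X) = ∅ := by
      rw [← Scheme.IdealSheafData.range_subschemeι]
      exact hcon
    have h2 := clopen_eq_empty_of_lef 𝓙 hL (𝟙 X) U ⟨hU2, hU1⟩ h1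
    exact hne.ne_empty h2
  have hLift : ∀ (W : Scheme.{u}) (c : W ⟶ X) [IsFinite c] [Etale c]
      (V : Set ↥(pullback c 𝓙.subschemeι)),
      IsClopen V → ∃ U : Set W, IsClopen U ∧ (pullback.fst c 𝓙.subschemeι).base ⁻¹' U = V := by
    intro W c _ _ V hV
    exact exists_clopen_lift_of_eq' 𝓙 hL 𝓙 (by rw [zero_add, pow_one]) c V hV
  exact ⟨FEtFullH4.full_of_clopen 𝓙.subschemeι hD hLift,
    FEtFaithfulH4.faithful_of_clopen 𝓙.subschemeι hD⟩

/-- Lef(X, Y) implies full faithfulness of restriction of finite étale covers from every open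
neighbourhood of `Y` to `Y`. -/
theorem main2947 (X : Scheme.{u}) (𝓘 : X.IdealSheafData) (h : Lef.LefCond X 𝓘) (U : X.Opens)
    (hU : (𝓘.support : Set X) ⊆ (U : Set X)) :
    (FEt.restrict (𝓘.comap U.ι).subschemeι).Full ∧
      (FEt.restrict (𝓘.comap U.ι).subschemeι).Faithful :=
  main_lef (𝓘.comap U.ι) (h U hU)

end Main

end Groth.Agent.Lib.TrDual
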