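import Mathlib
import Groth.Prelude
import Groth.Agent.Lib.LefAmp1_helper6
import Groth.Agent.Lib.LefAmp3_helper6
import Groth.Agent.Lib.TrDual5_helper5

/-!
# The Lefschetz condition for restrictions of modules from `X` (helper6)

* `toSubscheme_comp_quotMap`: `(O → O/I) ≫ (O/I → O/J) = (O → O/J)`.
* `htfb_restrict`: if `O_X ≅ j_* O_U` (Hartogs) and `Hom(P, O_X) → Hom(P, O_X/𝓘^(n+1))` is
  bijective for `n ≫ 0`, then `Lef.HomToFormalBijective (𝓘|_U) (P|_U)`.
APPEND-ONLY once landed.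
-/

set_option autoImplicit false
set_option linter.style.haveILetI false
universe u
open CategoryTheory CategoryTheory.Limits AlgebraicGeometry TopologicalSpace Opposite

namespace Groth.Agent.Lib.LefAmpH6

open QcqsLoc QCohExtn SerreCrit

section QuotMap

variable {X : Scheme.{u}}

theorem toSubscheme_comp_quotMap {I J : X.IdealSheafData} (h : I ≤ J) :
    ClSub.toSubscheme I ≫ Lef.quotMap h = ClSub.toSubscheme J := by
  apply Scheme.Modules.hom_ext
  intro V
  ext a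
  show ap (Lef.quotMap h) V (TrDual.toG I.subschemeι ((I.subschemeι.app V).hom a)) =
    (J.subschemeι.app V).hom a
  rw [TrDual.quotMap_ap]
  show ((Scheme.IdealSheafData.inclusion h).appLE (I.subschemeι ⁻¹ᵁ V) (J.subschemeι ⁻¹ᵁ V) _).hom
    ((I.subschemeι.app V).hom a) = (J.subschemeι.app V).hom a
  have key : ∀ (f : J.subscheme ⟶ X) (hf : f = J.subschemeι)
      (e : J.subschemeι ⁻¹ᵁ V ≤ f ⁻¹ᵁ V),
      f.appLE V (J.subschemeι ⁻¹ᵁ V) e = J.subschemeι.app V := by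
    intro f hf e
    subst hf
    exact Scheme.Hom.appLE_eq_app _
  have h1 := Scheme.Hom.comp_appLE (Scheme.IdealSheafData.inclusion h) I.subschemeι V
    (J.subschemeι ⁻¹ᵁ V) (TrDual.leJ (Scheme.IdealSheafData.inclusion h)
      (Scheme.IdealSheafData.inclusion_subschemeι h) V)
  rw [key _ (Scheme.IdealSheafData.inclusion_subschemeι h)] at h1
  exact (congr($h1 a)).symm

end QuotMap

section Restrict

variable {X : Scheme.{u}} (U : X.Opens) (𝓘 : X.IdealSheafData)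

/-- `(O_X/𝓘^(n+1))|_U ≅ O_U/(𝓘|_U)^(n+1)`, compatibly with the quotient maps. -/
theorem exists_restrict_quotMod_pow_iso (n : ℕ) :
    ∃ κ : (Scheme.Modules.restrictFunctor U.ι).obj (ClSub.quotMod (𝓘 ^ (n + 1))) ≅
        ClSub.quotMod ((𝓘.comap U.ι) ^ (n + 1)),
      restrQuot U (𝓘 ^ (n + 1)) ≫ κ.hom = ClSub.toSubscheme ((𝓘.comap U.ι) ^ (n + 1)) := by
  rw [comap_pow U 𝓘 (n + 1)]
  exact exists_restrict_quotMod_iso U (𝓘 ^ (n + 1))

/-- **Transfer of the Lefschetz condition** from `X` to an open neighbourhood `U` of `V(𝓘)`. -/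
theorem htfb_restrict (hU : (𝓘.support : Set X) ⊆ (U : Set X))
    (hunit : IsIso ((Scheme.Modules.restrictAdjunction U.ι).unit.app (Coh.structureModule X)))
    (P : X.Modules)
    (hP : ∃ n₀ : ℕ, ∀ n : ℕ, n₀ ≤ n → Function.Bijective
      (fun φ : P ⟶ Coh.structureModule X => φ ≫ ClSub.toSubscheme (𝓘 ^ (n + 1)))) :
    Lef.HomToFormalBijective (𝓘.comap U.ι) ((Scheme.Modules.restrictFunctor U.ι).obj P) := by
  obtain ⟨n₀, hn₀⟩ := hP
  choose κ hκ using exists_restrict_quotMod_pow_iso U 𝓘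
  -- notation
  have hκ' : ∀ n, (Scheme.Modules.restrictFunctor U.ι).map (ClSub.toSubscheme (𝓘 ^ (n + 1))) ≫
      (κ n).hom = (Scheme.Modules.restrictUnitIso U.ι).hom ≫
        ClSub.toSubscheme ((𝓘.comap U.ι) ^ (n + 1)) := by
    intro n
    rw [← hκ n, ← Category.assoc, restrictUnitIso_hom_restrQuot]
  have hqX : ∀ n, ClSub.toSubscheme (𝓘 ^ (n + 2)) ≫ Lef.quotMap (Lef.pow_succ_le 𝓘 n) =
      ClSub.toSubscheme (𝓘 ^ (n + 1)) := fun n => toSubscheme_comp_quotMap _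
  have hq : ∀ n, ClSub.toSubscheme ((𝓘.comap U.ι) ^ (n + 2)) ≫
      Lef.quotMap (Lef.pow_succ_le (𝓘.comap U.ι) n) =
      ClSub.toSubscheme ((𝓘.comap U.ι) ^ (n + 1)) := fun n => toSubscheme_comp_quotMap _
  have hK2 : ∀ n, (Scheme.Modules.restrictFunctor U.ι).map (Lef.quotMap (Lef.pow_succ_le 𝓘 n)) ≫
      (κ n).hom = (κ (n + 1)).hom ≫ Lef.quotMap (Lef.pow_succ_le (𝓘.comap U.ι) n) := by
    intro n
    rw [← cancel_epi (restrQuot U (𝓘 ^ (n + 1 + 1))), ← Category.assoc _ (κ (n + 1)).hom,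
      hκ (n + 1), hq n, ← hκ n]
    unfold restrQuot
    rw [Category.assoc, Category.assoc, ← Category.assoc ((Scheme.Modules.restrictFunctor U.ι).map _),
      ← Functor.map_comp, hqX n]
  haveI := hunit
  have BO := bijective_map_of_isIso_unit (Scheme.Modules.restrictAdjunction U.ι) P
    (Coh.structureModule X)
  have BQ : ∀ n, Function.Bijective (fun φ : P ⟶ ClSub.quotMod (𝓘 ^ (n + 1)) =>
      (Scheme.Modules.restrictFunctor U.ι).map φ) := by
    intro n
    haveI := isIso_unit_quotMod U (𝓘 ^ (n + 1))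
      (by rw [Scheme.IdealSheafData.support_pow_succ]; exact hU)
    exact bijective_map_of_isIso_unit (Scheme.Modules.restrictAdjunction U.ι) P _
  refine ⟨fun φ ψ H => ?_, fun y hy => ?_⟩
  · obtain ⟨φ', hφ'⟩ := BO.2 (φ ≫ (Scheme.Modules.restrictUnitIso U.ι).inv)
    obtain ⟨ψ', hψ'⟩ := BO.2 (ψ ≫ (Scheme.Modules.restrictUnitIso U.ι).inv)
    have hφ'' : (Scheme.Modules.restrictFunctor U.ι).map φ' =
        φ ≫ (Scheme.Modules.restrictUnitIso U.ι).inv := hφ'
    have hψ'' : (Scheme.Modules.restrictFunctor U.ι).map ψ' =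
        ψ ≫ (Scheme.Modules.restrictUnitIso U.ι).inv := hψ'
    have key : ∀ (χ : (Scheme.Modules.restrictFunctor U.ι).obj P ⟶ Coh.structureModule ↑U)
        (χ' : P ⟶ Coh.structureModule X)
        (_ : (Scheme.Modules.restrictFunctor U.ι).map χ' =
          χ ≫ (Scheme.Modules.restrictUnitIso U.ι).inv) (n : ℕ),
        (Scheme.Modules.restrictFunctor U.ι).map (χ' ≫ ClSub.toSubscheme (𝓘 ^ (n + 1))) =
          χ ≫ ClSub.toSubscheme ((𝓘.comap U.ι) ^ (n + 1)) ≫ (κ n).inv := by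
      intro χ χ' hχ n
      rw [Functor.map_comp, hχ, ← cancel_mono (κ n).hom]
      simp only [Category.assoc, Iso.inv_hom_id, Category.comp_id]
      rw [hκ' n, Iso.inv_hom_id_assoc]
    have h1 : φ' ≫ ClSub.toSubscheme (𝓘 ^ (n₀ + 1)) = ψ' ≫ ClSub.toSubscheme (𝓘 ^ (n₀ + 1)) := by
      apply (BQ n₀).1
      show (Scheme.Modules.restrictFunctor U.ι).map _ = (Scheme.Modules.restrictFunctor U.ι).map _
      rw [key φ φ' hφ'' n₀, key ψ ψ' hψ'' n₀, ← Category.assoc, H n₀, Category.assoc]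
    have h2 : φ' = ψ' := (hn₀ n₀ le_rfl).1 h1
    have h3 : φ ≫ (Scheme.Modules.restrictUnitIso U.ι).inv =
        ψ ≫ (Scheme.Modules.restrictUnitIso U.ι).inv := by rw [← hφ'', ← hψ'', h2]
    exact (cancel_mono _).mp h3
  · have hy' : ∀ n, y (n + 1) ≫ Lef.quotMap (Lef.pow_succ_le (𝓘.comap U.ι) n) = y n := hy
    choose yb hyb using fun n => (BQ n).2 (y n ≫ (κ n).inv)
    have hyb' : ∀ n, (Scheme.Modules.restrictFunctor U.ι).map (yb n) = y n ≫ (κ n).inv := hyb
    have hcompat : ∀ n, yb (n + 1) ≫ Lef.quotMap (Lef.pow_succ_le 𝓘 n) = yb n := by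
      intro n
      apply (BQ n).1
      show (Scheme.Modules.restrictFunctor U.ι).map _ = (Scheme.Modules.restrictFunctor U.ι).map _
      rw [Functor.map_comp, hyb' (n + 1), hyb' n, ← cancel_mono (κ n).hom, Category.assoc,
        Category.assoc, hK2 n, Iso.inv_hom_id_assoc, Category.assoc, Iso.inv_hom_id,
        Category.comp_id, hy' n]
    have hdesc : ∀ (x : P ⟶ Coh.structureModule X) (m d : ℕ),
        x ≫ ClSub.toSubscheme (𝓘 ^ (m + d + 1)) = yb (m + d) →
        x ≫ ClSub.toSubscheme (𝓘 ^ (m + 1)) = yb m := by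
      intro x m d
      induction d with
      | zero => exact fun h => h
      | succ d ih =>
        intro h
        apply ih
        have h1 : x ≫ ClSub.toSubscheme (𝓘 ^ (m + d + 1)) =
            (x ≫ ClSub.toSubscheme (𝓘 ^ (m + d + 2))) ≫ Lef.quotMap (Lef.pow_succ_le 𝓘 (m + d)) := by
          rw [Category.assoc, hqX (m + d)]
        rw [h1]
        have h2 : x ≫ ClSub.toSubscheme (𝓘 ^ (m + d + 2)) = yb (m + d + 1) := h
        rw [h2, hcompat (m + d)]
    obtain ⟨φ', hφ'⟩ := (hn₀ n₀ le_rfl).2 (yb n₀)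
    have hφ'' : φ' ≫ ClSub.toSubscheme (𝓘 ^ (n₀ + 1)) = yb n₀ := hφ'
    have hall : ∀ n, φ' ≫ ClSub.toSubscheme (𝓘 ^ (n + 1)) = yb n := by
      intro n
      rcases le_total n n₀ with hle | hle
      · obtain ⟨d, rfl⟩ := Nat.exists_eq_add_of_le hle
        exact hdesc φ' n d hφ''
      · obtain ⟨d, rfl⟩ := Nat.exists_eq_add_of_le hle
        obtain ⟨φ₂, hφ₂⟩ := (hn₀ (n₀ + d) (Nat.le_add_right _ _)).2 (yb (n₀ + d))
        have hφ₂' : φ₂ ≫ ClSub.toSubscheme (𝓘 ^ (n₀ + d + 1)) = yb (n₀ + d) := hφ₂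
        have h3 : φ₂ ≫ ClSub.toSubscheme (𝓘 ^ (n₀ + 1)) = yb n₀ := hdesc φ₂ n₀ d hφ₂'
        have h4 : φ₂ = φ' := (hn₀ n₀ le_rfl).1 (h3.trans hφ''.symm)
        rw [← h4]
        exact hφ₂'
    refine ⟨(Scheme.Modules.restrictFunctor U.ι).map φ' ≫ (Scheme.Modules.restrictUnitIso U.ι).hom,
      fun n => ?_⟩
    rw [Category.assoc, ← hκ' n, ← Category.assoc, ← Functor.map_comp, hall n, hyb' n,
      Category.assoc, Iso.inv_hom_id, Category.comp_id]

end Restrict

end Groth.Agent.Lib.LefAmpH6
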