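import Mathlib
import Groth.Prelude.Def_Lef
import Groth.Prelude.Def_FEt
import Groth.Agent.Lib.TrDual5_helper5
import Groth.Agent.Lib.GlobGen_helper9
import Groth.Agent.Lib.SubExt_helper9
import Groth.Agent.Lib.FLF6_helper8

/-! The Lefschetz condition for the structure sheaf of a quasi-affine scheme implies the Lefschetz
condition for all quasi-coherent modules (through presentations by free modules), hence full
faithfulness of restriction of finite étale covers (helper5). APPEND-ONLY once landed. -/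

set_option autoImplicit false
set_option linter.style.haveILetI false
universe u
open CategoryTheory CategoryTheory.Limits AlgebraicGeometry Opposite TopologicalSpace

namespace Groth.Agent.Lib.LefQA

variable {X : Scheme.{u}} (𝓘 : X.IdealSheafData)

/-- The Lefschetz condition passes to cokernels. -/
theorem htfb_of_presentation {F₁ F₀ E : X.Modules} (a : F₁ ⟶ F₀) (b : F₀ ⟶ E) [Epi b]
    (hex : ∀ {T : X.Modules} (φ₀ : F₀ ⟶ T), a ≫ φ₀ = 0 → ∃ φ : E ⟶ T, b ≫ φ = φ₀)
    (hab : a ≫ b = 0)
    (h₀ : Lef.HomToFormalBijective 𝓘 F₀) (h₁ : Lef.HomToFormalBijective 𝓘 F₁) :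
    Lef.HomToFormalBijective 𝓘 E := by
  refine ⟨fun φ ψ H => ?_, fun y hy => ?_⟩
  · rw [← cancel_epi b]
    apply h₀.1
    intro n
    rw [Category.assoc, Category.assoc, H n]
  · obtain ⟨φ₀, hφ₀⟩ := h₀.2 (fun n => b ≫ y n) (fun n => by
      show (b ≫ y (n + 1)) ≫ _ = b ≫ y n
      rw [Category.assoc, hy n])
    have hz : a ≫ φ₀ = 0 := by
      apply h₁.1
      intro n
      rw [Category.assoc, hφ₀ n, ← Category.assoc, hab, zero_comp, zero_comp]
    obtain ⟨φ, hφ⟩ := hex φ₀ hz
    refine ⟨φ, fun n => ?_⟩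
    rw [← cancel_epi b, ← Category.assoc, hφ, hφ₀ n]

/-- The Lefschetz condition passes to coproducts. -/
theorem htfb_sigma {I : Type u} (F : I → X.Modules)
    (h : ∀ i, Lef.HomToFormalBijective 𝓘 (F i)) : Lef.HomToFormalBijective 𝓘 (∐ F) := by
  refine ⟨fun φ ψ H => ?_, fun y hy => ?_⟩
  · apply Sigma.hom_ext
    intro i
    apply (h i).1
    intro n
    rw [Category.assoc, Category.assoc, H n]
  · have hi : ∀ i, ∃ φ : F i ⟶ Coh.structureModule X,
        ∀ n, φ ≫ ClSub.toSubscheme (𝓘 ^ (n + 1)) = Sigma.ι F i ≫ y n := fun i =>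
      (h i).2 (fun n => Sigma.ι F i ≫ y n) (fun n => by
        show (Sigma.ι F i ≫ y (n + 1)) ≫ _ = Sigma.ι F i ≫ y n
        rw [Category.assoc, hy n])
    choose φ hφ using hi
    refine ⟨Sigma.desc φ, fun n => ?_⟩
    apply Sigma.hom_ext
    intro i
    rw [← Category.assoc, Sigma.ι_desc, hφ i n]

theorem htfb_free (hO : Lef.HomToFormalBijective 𝓘 (Coh.structureModule X)) (I : Type u) :
    Lef.HomToFormalBijective 𝓘 (SheafOfModules.free I : X.Modules) :=
  htfb_sigma 𝓘 (fun _ : I => Coh.structureModule X) (fun _ => hO)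

set_option backward.isDefEq.respectTransparency false in
/-- On a quasi-affine scheme, the Lefschetz condition for the structure sheaf implies it for
every quasi-coherent module. -/
theorem htfb_of_isQuasiAffine [X.IsQuasiAffine]
    (hO : Lef.HomToFormalBijective 𝓘 (Coh.structureModule X)) (D : X.Modules)
    [D.IsQuasicoherent] : Lef.HomToFormalBijective 𝓘 D := by
  obtain ⟨I₀, b, hb⟩ := GlobGen.isGloballyGenerated_of_isQuasiAffine D
  haveI : (SheafOfModules.free (R := X.ringCatSheaf) I₀).IsQuasicoherent := inferInstance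
  have hK : (kernel b).IsQuasicoherent := SubExt.isQuasicoherent_kernel b
  obtain ⟨I₁, c, hc⟩ := @GlobGen.isGloballyGenerated_of_isQuasiAffine X _ (kernel b) hK
  haveI : Epi b := hb
  haveI : Epi c := hc
  refine htfb_of_presentation 𝓘 (c ≫ kernel.ι b) b (fun {T} φ₀ hφ₀ => ?_)
    (by rw [Category.assoc, kernel.condition, comp_zero])
    (htfb_free 𝓘 hO I₀) (htfb_free 𝓘 hO I₁)
  have h1 : kernel.ι b ≫ φ₀ = 0 := by
    rw [← cancel_epi c, comp_zero, ← Category.assoc]
    exact hφ₀
  have hcok := Abelian.epiIsCokernelOfKernel (KernelFork.ofι (kernel.ι b) (kernel.condition b))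
    (kernelIsKernel b)
  exact ⟨hcok.desc (CokernelCofork.ofπ φ₀ h1), hcok.fac _ WalkingParallelPair.one⟩

/-- Either alternative of the Lefschetz condition implies full faithfulness of restriction of
finite étale covers. -/
theorem main9489 (X : Scheme.{u}) (𝓘 : X.IdealSheafData)
    (h : (X.IsQuasiAffine ∧ Lef.HomToFormalBijective 𝓘 (Coh.structureModule X)) ∨
      (∀ D : X.Modules, FlatMod.IsFinLocFree D → Lef.HomToFormalBijective 𝓘 D)) :
    (FEt.restrict 𝓘.subschemeι).Full ∧ (FEt.restrict 𝓘.subschemeι).Faithful := by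
  rcases h with ⟨hQA, hO⟩ | hb
  · haveI := hQA
    refine TrDual.main_lef 𝓘 (fun D hD => ?_)
    haveI : D.IsQuasicoherent := FLFH8.isQuasicoherent_of_finLocFree D hD
    exact htfb_of_isQuasiAffine 𝓘 hO D
  · exact TrDual.main_lef 𝓘 hb

end Groth.Agent.Lib.LefQA
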