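import Mathlib
import Groth.Prelude
import Groth.Agent.Lib.LefAmp2_helper6
import Groth.Agent.Lib.LefAmp4_helper6
import Groth.Agent.Lib.LefAmp5_helper6
import Groth.Agent.Lib.LefQA1_helper5
import Groth.Agent.Lib.TwistEpi_helper5
import Groth.Agent.Lib.FinGG_helper5
import Groth.Agent.Lib.Tens29_helper8
import Groth.Agent.Lib.CohKer_helper8
import Groth.Agent.Lib.NegPow_helper5
import Groth.Agent.Lib.SubExt4_helper9
import Groth.Agent.Lib.Horrocks7_helper9
import Groth.Agent.Lib.ProperFin2_helper9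
import Groth.Agent.Lib.RelPCProp1_helper3

/-!
# The Lefschetz condition for an ample divisor with depth `≥ 2` (helper6)

* `exists_epi_sigma_tensorPow`: with `L` ample and `M` an inverse of `L`, every coherent module is a
  quotient of a finite direct sum of copies of some `M^{⊗a}`.
* `exists_epi_restrict`: the same for coherent modules on an open subscheme.
* `main2944`: S2944.
APPEND-ONLY once landed.
-/

set_option autoImplicit false
set_option linter.style.haveILetI false
universe u
open CategoryTheory CategoryTheory.Limits AlgebraicGeometry TopologicalSpace Opposite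

namespace Groth.Agent.Lib.LefAmpH6

open CohB1 Groth.Agent.TensInv

section Presentation

variable {X : Scheme.{u}}

/-- every coherent module is a quotient of a finite direct sum of copies of a negative power of an
ample invertible module. -/
theorem exists_epi_sigma_tensorPow [QuasiSeparatedSpace X] {L M : X.Modules}
    (hamp : CohB1.IsAmple L) (hM : ClSub.IsInverseOf L M) (F : X.Modules) (hF : Coh.IsCoh F) :
    ∃ (a r : ℕ) (p : (∐ fun _ : Fin r => tensorPow M a) ⟶ F), Epi p := by
  obtain ⟨hinv, hc, -⟩ := id hamp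
  haveI := hc
  obtain ⟨ε⟩ := hM
  have hMinv : PicF.IsInvertible M := InvTensH8.isInvertible_of_tensor_iso (comm M L ≪≫ ε)
  obtain ⟨n₀, hn₀⟩ := TensH8.exists_isGloballyGenerated_twist hamp F hF
  haveI : F.IsQuasicoherent := hF.1
  haveI : SheafOfModules.IsFiniteType (R := X.ringCatSheaf) F := hF.2
  have hLn := ProperFinH9.isCoh_of_isInvertible (TensH8.isInvertible_tensorPow hinv n₀)
  haveI : (tensorPow L n₀).IsQuasicoherent := hLn.1
  haveI : SheafOfModules.IsFiniteType (R := X.ringCatSheaf) (tensorPow L n₀) := hLn.2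
  haveI := TensQCH8.isQuasicoherent_tensorMod F (tensorPow L n₀)
  haveI := TensQCH8.isFiniteType_tensorMod F (tensorPow L n₀) hF.2 hLn.2
  obtain ⟨r, g, hloc⟩ := Groth.Agent.FinGG.exists_finite_locSpan
    (tensorMod F (tensorPow L n₀)) (hn₀ n₀ le_rfl)
  obtain ⟨α⟩ := Groth.Agent.NegPow.tensorPow_inverse ε n₀
  let Φ : tensorMod (tensorMod F (tensorPow L n₀)) (tensorPow M n₀) ≅ F :=
    assoc F _ _ ≪≫ mapL F α ≪≫ rightUnit F
  exact ⟨n₀, r, Groth.Agent.FinGG.untwistMap Φ g,
    Groth.Agent.FinGG.epi_untwistMap (TensH8.isInvertible_tensorPow hMinv n₀) Φ g hloc⟩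

/-- a coherent module on an open subscheme is a quotient of the restriction of a finite direct sum
of copies of a negative power of an ample invertible module. -/
theorem exists_epi_restrict [IsNoetherian X] {L M : X.Modules}
    (hamp : CohB1.IsAmple L) (hM : ClSub.IsInverseOf L M) (U : X.Opens)
    (D : (U : Scheme.{u}).Modules) (hD : Coh.IsCoh D) :
    ∃ (a r : ℕ) (q : (Scheme.Modules.restrictFunctor U.ι).obj (∐ fun _ : Fin r => tensorPow M a) ⟶ D),
      Epi q := by
  haveI : D.IsQuasicoherent := hD.1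
  have hX : ∀ x : X, ∃ V : X.Opens, x ∈ V ∧ NoetherianSpace (V : Set X) :=
    fun x => ⟨⊤, trivial, inferInstance⟩
  obtain ⟨D', hD'q, hD'f, ⟨e⟩⟩ := SubExt.extend_ft_module_locNoeth hX U D hD.2
  obtain ⟨a, r, p, hp⟩ := exists_epi_sigma_tensorPow hamp hM D' ⟨hD'q, hD'f⟩
  haveI := hp
  exact ⟨a, r, (Scheme.Modules.restrictFunctor U.ι).map p ≫ e.hom, inferInstance⟩

end Presentation

section Main

variable (k : Type u) [Field k] (X : Scheme.{u}) [X.Over (Spec (CommRingCat.of k))]
  [IsProper (X ↘ Spec (CommRingCat.of k))]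

include k in
/-- **S2944**: the Lefschetz condition `Lef(X, Y)` for an ample effective Cartier divisor `Y` on a
proper `k`-scheme with `depth O_{X,x} ≥ 2` at the closed points. -/
theorem main2944 (𝓘 : X.IdealSheafData) (L : X.Modules)
    (hL : ClSub.IsInverseOf L (ClSub.idealMod 𝓘)) (hamp : CohB1.IsAmple L)
    (hdepth : ∀ x : X, IsClosed ({x} : Set X) →
      (2 : ℕ∞) ≤ LocCoh.depth (X.presheaf.stalk x) (X.presheaf.stalk x)) :
    Lef.LefCond X 𝓘 := by
  haveI : IsLocallyNoetherian X :=
    LocallyOfFiniteType.isLocallyNoetherian (X ↘ Spec (CommRingCat.of k))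
  haveI : CompactSpace X := hamp.2.1
  haveI : IsNoetherian X := {}
  have hMinv : PicF.IsInvertible (ClSub.idealMod 𝓘) := by
    obtain ⟨ε⟩ := hL
    exact InvTensH8.isInvertible_of_tensor_iso (comm _ L ≪≫ ε)
  intro U hU D hD
  have hclosed : ∀ x : X, x ∉ U → IsClosed ({x} : Set X) := fun x hx =>
    isClosed_singleton_of_disjoint k X (X ↘ Spec (CommRingCat.of k)) 𝓘 L hL hamp
      ((U : Set X)ᶜ) U.isOpen.isClosed_compl
      (Set.disjoint_left.mpr fun y hy hy' => hy (hU hy')) x hx
  have hunit := isIso_unit_structureModule U (fun x hx => hdepth x (hclosed x hx))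
  have key : ∀ P : X.Modules, FlatMod.IsFinLocFree P →
      Lef.HomToFormalBijective (𝓘.comap U.ι) ((Scheme.Modules.restrictFunctor U.ι).obj P) :=
    fun P hP => htfb_restrict U 𝓘 hU hunit P
      (exists_bijective_comp_toSubscheme k X 𝓘 L hL hamp hdepth P hP)
  have hfl : ∀ a r : ℕ, FlatMod.IsFinLocFree (∐ fun _ : Fin r => tensorPow (ClSub.idealMod 𝓘) a) :=
    fun a r => FLFH8.IsFinLocFreeOfRank.isFinLocFree _
      (Groth.Agent.Horrocks.isFinLocFreeOfRank_sigma _
        (fun _ => TensH8.isInvertible_tensorPow hMinv a))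
  haveI : IsLocallyNoetherian (U : Scheme.{u}) := inferInstance
  have hDc : Coh.IsCoh D := KerFreeH8.isCoh_of_finLocFree hD
  obtain ⟨a, r, q₀, hq₀⟩ := exists_epi_restrict hamp hL U D hDc
  haveI : Epi q₀ := hq₀
  have hKc : Coh.IsCoh (kernel q₀) :=
    CohKerH8.isCoh_kernel (Groth.Agent.Lib.RelPCPropH3.isCoh_restrict U.ι _
      (KerFreeH8.isCoh_of_finLocFree (hfl a r))) hDc q₀
  obtain ⟨b, s, q₁, hq₁⟩ := exists_epi_restrict hamp hL U (kernel q₀) hKc
  haveI : Epi q₁ := hq₁
  refine Groth.Agent.Lib.LefQA.htfb_of_presentation (𝓘.comap U.ι) (q₁ ≫ kernel.ι q₀) q₀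
    (fun {T} φ₀ hφ₀ => ?_) (by rw [Category.assoc, kernel.condition, comp_zero])
    (key _ (hfl a r)) (key _ (hfl b s))
  have h1 : kernel.ι q₀ ≫ φ₀ = 0 := by
    rw [← cancel_epi q₁, comp_zero, ← Category.assoc]
    exact hφ₀
  have hcok := Abelian.epiIsCokernelOfKernel (KernelFork.ofι (kernel.ι q₀) (kernel.condition q₀))
    (kernelIsKernel q₀)
  exact ⟨hcok.desc (CokernelCofork.ofπ φ₀ h1), hcok.fac _ WalkingParallelPair.one⟩

end Main

end Groth.Agent.Lib.LefAmpH6
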