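import Mathlib
import Groth.Prelude
import Groth.Agent.Lib.ProjTwAmple2_helper5
import Groth.Agent.Lib.ProjTwW_helper5

/-!
# `O(D)` is ample and globally generated when `Proj` is covered by the `D_+(F)`, `F ∈ A_D`
(helper5)
-/

set_option autoImplicit false
universe u
open CategoryTheory CategoryTheory.Limits AlgebraicGeometry TopologicalSpace Opposite DirectSum
open HomogeneousLocalization

namespace Groth.Agent.ProjTw

section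
variable {R A : Type u} [CommRing R] [CommRing A] [Algebra R A] (𝒜 : ℕ → Submodule R A)
  [GradedAlgebra 𝒜]

/-- A homogeneous element of degree `D` as a morphism `O ⟶ O(D)`. -/
noncomputable def secHomD {D : ℕ} {g : A} (hg : g ∈ 𝒜 D) :
    Coh.structureModule (Proj 𝒜) ⟶ Twist.twist 𝒜 (D : ℤ) :=
  TensH8.homOfSec (Twist.twist 𝒜 (D : ℤ)) (topSec 𝒜 (D : ℤ) g hg rfl)

theorem val_secHomD {D : ℕ} {f g : A} (hf : f ∈ 𝒜 D) (hg : g ∈ 𝒜 D) :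
    SecTwist.val (secHomD 𝒜 hg) (Proj.basicOpen 𝒜 f) =
      (show Γ(Proj 𝒜, Proj.basicOpen 𝒜 f) from ratio 𝒜 hf hg) •
        (show Γ(Twist.twist 𝒜 (D : ℤ), Proj.basicOpen 𝒜 f) from
          genSecK 𝒜 hf 1 (D : ℤ) (by simp)) := by
  refine (TensH8.val_homOfSec (Twist.twist 𝒜 (D : ℤ)) _ (Proj.basicOpen 𝒜 f)).trans ?_
  apply Subtype.ext
  funext y
  apply Subtype.ext
  refine Eq.trans ?_ (smul_valN 𝒜 (D : ℤ) (op (ProjectiveSpectrum.basicOpen 𝒜 f))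
    (ratio 𝒜 hf hg) (genSecK 𝒜 hf 1 (D : ℤ) (by simp)) y).symm
  rw [ratio_val]
  show Localization.mk _ _ = Localization.mk _ _ * Localization.mk _ _
  rw [Localization.mk_mul, Localization.mk_eq_mk_iff, Localization.r_iff_exists]
  refine ⟨1, ?_⟩
  simp only [Submonoid.coe_mul, Submonoid.coe_one, one_mul]
  simp
  exact mul_comm f g

theorem genLocus_secHomD_inf {D : ℕ} (hD : 0 < D) {f g : A} (hf : f ∈ 𝒜 D) (hg : g ∈ 𝒜 D) :
    CohB1.genLocus (CohB1.tensorPow (Twist.twist 𝒜 (D : ℤ)) 1)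
      (SecTwist.powHom (secHomD 𝒜 hg) 1) ⊓ Proj.basicOpen 𝒜 f =
      Proj.basicOpen 𝒜 f ⊓ Proj.basicOpen 𝒜 g := by
  have he := isGen_genSecK 𝒜 hD hf 1 (D : ℤ) (by simp)
  have h1 : SecTwist.val (SecTwist.powHom (secHomD 𝒜 hg) 1) (Proj.basicOpen 𝒜 f) =
      (show Γ(Proj 𝒜, Proj.basicOpen 𝒜 f) from ratio 𝒜 hf hg) ^ 1 •
        (show Γ(CohB1.tensorPow (Twist.twist 𝒜 (D : ℤ)) 1, Proj.basicOpen 𝒜 f) from
          CycCov.lpow (Twist.twist 𝒜 (D : ℤ)) (Proj.basicOpen 𝒜 f)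
            (genSecK 𝒜 hf 1 (D : ℤ) (by simp)) 1) := by
    rw [SecTwist.val_powHom, ← CycCov.lpow_val, val_secHomD 𝒜 hf hg, TensH8.lpow_smul]
  rw [TensH8.genLocus_inf_eq _ (TensH8.isGen_lpow he 1) _ h1, pow_one]
  ext y
  constructor
  · intro hy
    have hyf : y ∈ Proj.basicOpen 𝒜 f := (Proj 𝒜).basicOpen_le _ hy
    refine ⟨hyf, ?_⟩
    have h2 := (Groth.Agent.ProjQC.mem_basicOpen_iff 𝒜 _ _ y hyf).mp hy
    exact (Groth.Agent.ProjQC.isUnit_iff_of_val 𝒜 y _ g (f ^ 1)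
      (fun h => hyf (y.isPrime.mem_of_pow_mem _ h)) (ratio_val 𝒜 hf hg ⟨y, hyf⟩)).mp h2
  · rintro ⟨hyf, hyg⟩
    apply (Groth.Agent.ProjQC.mem_basicOpen_iff 𝒜 _ _ y hyf).mpr
    exact (Groth.Agent.ProjQC.isUnit_iff_of_val 𝒜 y _ g (f ^ 1)
      (fun h => hyf (y.isPrime.mem_of_pow_mem _ h)) (ratio_val 𝒜 hf hg ⟨y, hyf⟩)).mpr hyg

theorem genLocus_secHomD {D : ℕ} (hD : 0 < D)
    (hcov : ∀ x : Proj 𝒜, ∃ f ∈ 𝒜 D, x ∈ Proj.basicOpen 𝒜 f) {g : A} (hg : g ∈ 𝒜 D) :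
    CohB1.genLocus (CohB1.tensorPow (Twist.twist 𝒜 (D : ℤ)) 1)
      (SecTwist.powHom (secHomD 𝒜 hg) 1) = Proj.basicOpen 𝒜 g := by
  ext y
  obtain ⟨f, hf, hy⟩ := hcov y
  have h := genLocus_secHomD_inf 𝒜 hD hf hg
  constructor
  · intro hy'
    have : y ∈ CohB1.genLocus (CohB1.tensorPow (Twist.twist 𝒜 (D : ℤ)) 1)
        (SecTwist.powHom (secHomD 𝒜 hg) 1) ⊓ Proj.basicOpen 𝒜 f := ⟨hy', hy⟩
    rw [h] at this
    exact this.2
  · intro hy'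
    have : y ∈ Proj.basicOpen 𝒜 f ⊓ Proj.basicOpen 𝒜 g := ⟨hy, hy'⟩
    rw [← h] at this
    exact this.1

/-- `O(D)` is ample on a quasi-compact `Proj` covered by the `D_+(f)`, `f` of degree `D > 0`. -/
theorem isAmple_twist_deg [CompactSpace (Proj 𝒜)] {D : ℕ} (hD : 0 < D)
    (hcov : ∀ x : Proj 𝒜, ∃ f ∈ 𝒜 D, x ∈ Proj.basicOpen 𝒜 f) :
    CohB1.IsAmple (Twist.twist 𝒜 (D : ℤ)) := by
  refine ⟨?_, inferInstance, fun x => ?_⟩
  · apply TensH8.isInvertible_of_gens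
    intro x
    obtain ⟨f, hf, hx⟩ := hcov x
    exact ⟨Proj.basicOpen 𝒜 f, Proj.isAffineOpen_basicOpen 𝒜 f hf hD, hx, _,
      isGen_genSecK 𝒜 hD hf 1 (D : ℤ) (by simp)⟩
  · obtain ⟨g, hg, hx⟩ := hcov x
    refine ⟨0, SecTwist.powHom (secHomD 𝒜 hg) 1, ?_, ?_⟩
    · rw [genLocus_secHomD 𝒜 hD hcov hg]
      exact hx
    · rw [genLocus_secHomD 𝒜 hD hcov hg]
      exact Proj.isAffineOpen_basicOpen 𝒜 g hg hD

theorem rF_globalOf_deg {D : ℕ} {g : A} (hg : g ∈ 𝒜 D) :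
    QcqsLoc.rF (Twist.twist 𝒜 (D : ℤ)) (le_top : Proj.basicOpen 𝒜 g ≤ ⊤)
      (Twist.globalOf 𝒜 (⟨g, hg⟩ : 𝒜 D)) = genSecK 𝒜 hg 1 (D : ℤ) (by simp) := by
  apply Subtype.ext
  funext x
  apply Subtype.ext
  show Localization.mk _ _ = Localization.mk _ _
  rw [Localization.mk_eq_mk_iff, Localization.r_iff_exists]
  exact ⟨1, by simp⟩

/-- `O(D)` is generated by the global sections `b/1`, `b ∈ A_D`. -/
theorem generatedBy_globalOf_deg {D : ℕ} (hD : 0 < D)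
    (hcov : ∀ x : Proj 𝒜, ∃ f ∈ 𝒜 D, x ∈ Proj.basicOpen 𝒜 f) :
    ProjUP.GeneratedBy (Twist.twist 𝒜 (D : ℤ))
      (fun b : 𝒜 D => (Twist.globalOf 𝒜 b : ProjUP.Γm (Twist.twist 𝒜 (D : ℤ)))) := by
  intro x
  obtain ⟨g, hg, hx⟩ := hcov x
  have he := isGen_genSecK 𝒜 hD hg 1 (D : ℤ) (by simp)
  obtain ⟨h1, -⟩ := SecOrdH8.stalk_gen he hx
  rw [eq_top_iff]
  intro z _
  obtain ⟨a, rfl⟩ := h1 z
  apply Submodule.smul_mem
  apply Submodule.subset_span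
  refine ⟨⟨g, hg⟩, ?_⟩
  rw [← rF_globalOf_deg 𝒜 hg]
  exact (SecOrdH8.germ_rF (Twist.twist 𝒜 (D : ℤ)) le_top x hx _).symm

/-- The weighted case: generators `f i` of degrees `deg i > 0`, `D > 0` a common multiple. -/
theorem ample_generated_of_adjoin {s : ℕ} (f : Fin s → A) (deg : Fin s → ℕ)
    (hdeg : ∀ i, 0 < deg i) (hf : ∀ i, f i ∈ 𝒜 (deg i))
    (hgen : Algebra.adjoin R (Set.range f) = ⊤) (D : ℕ) (hD : 0 < D) (hdvd : ∀ i, deg i ∣ D) :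
    CohB1.IsAmple (Twist.twist 𝒜 (D : ℤ)) ∧
      ProjUP.GeneratedBy (Twist.twist 𝒜 (D : ℤ))
        (fun b : 𝒜 D => (Twist.globalOf 𝒜 b : ProjUP.Γm (Twist.twist 𝒜 (D : ℤ)))) := by
  have hcov : ∀ x : Proj 𝒜, ∃ F ∈ 𝒜 D, x ∈ Proj.basicOpen 𝒜 F := by
    intro x
    obtain ⟨i, hi⟩ := cover_of_adjoin 𝒜 f deg hdeg hf hgen x
    have hpos : 0 < D / deg i := Nat.div_pos (Nat.le_of_dvd hD (hdvd i)) (hdeg i)
    refine ⟨f i ^ (D / deg i), ?_, ?_⟩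
    · have := SetLike.pow_mem_graded (D / deg i) (hf i)
      rwa [smul_eq_mul, Nat.div_mul_cancel (hdvd i)] at this
    · rw [Proj.basicOpen_pow 𝒜 (f i) (D / deg i) hpos]
      exact hi
  haveI : CompactSpace (Proj 𝒜) := by
    constructor
    have : (Set.univ : Set (Proj 𝒜)) =
        ⋃ i : Fin s, ((Proj.basicOpen 𝒜 (f i) : (Proj 𝒜).Opens) : Set (Proj 𝒜)) := by
      ext x
      simp only [Set.mem_univ, Set.mem_iUnion, SetLike.mem_coe, true_iff]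
      exact cover_of_adjoin 𝒜 f deg hdeg hf hgen x
    rw [this]
    exact isCompact_iUnion
      (fun i => (Proj.isAffineOpen_basicOpen 𝒜 (f i) (hf i) (hdeg i)).isCompact)
  exact ⟨isAmple_twist_deg 𝒜 hD hcov, generatedBy_globalOf_deg 𝒜 hD hcov⟩

end

end Groth.Agent.ProjTw
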