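import Mathlib
import Groth.Prelude
import Groth.Agent.Lib.ProjTwPow_helper5
import Groth.Agent.Lib.ProjTwAmpleD_helper5
import Groth.Agent.Lib.GradedGen_helper3
import Groth.Agent.Lib.TensInv2_helper9

/-!
# Twisting sheaves on a `Proj` covered by standard opens of a fixed degree `D` (helper6)

For `hcov : ∀ x, ∃ f ∈ 𝒜 D, x ∈ D_+(f)` with `D > 0`: `O ≅ O(0)`, `O(aD) ⊗ O(bD) ≅ O((a+b)D)`,
`O(cD)^{⊗ n} ≅ O(ncD)`; existence of such a `D` for Noetherian `A`.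
APPEND-ONLY once landed.
-/

set_option autoImplicit false
set_option linter.style.haveILetI false
universe u
open CategoryTheory CategoryTheory.Limits AlgebraicGeometry TopologicalSpace Opposite DirectSum
open HomogeneousLocalization

namespace Groth.Agent.Lib.ProjTwDH6

open Groth.Agent.ProjTw

section
variable {R A : Type u} [CommRing R] [CommRing A] [Algebra R A] (𝒜 : ℕ → Submodule R A)
  [GradedAlgebra 𝒜]

section cover

variable {D : ℕ} (hD : 0 < D)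
  (hcov : ∀ x : Proj 𝒜, ∃ f ∈ 𝒜 D, x ∈ Proj.basicOpen 𝒜 f)
include hD hcov

theorem isIso_unitToTwist0 : IsIso (unitToTwist0 𝒜) := by
  apply TensH8.isIso_of_isGen_cover
  intro x
  obtain ⟨f, hf, hx⟩ := hcov x
  refine ⟨Proj.basicOpen 𝒜 f, hx, FLFH8.toM 1, TensH8.isGen_one _, ?_⟩
  rw [unitToTwist0_one 𝒜 hf]
  exact isGen_genSecK 𝒜 hD hf 0 0 (by simp)

theorem isInvertible_twist (a : ℤ) : PicF.IsInvertible (Twist.twist 𝒜 (a * D)) := by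
  apply TensH8.isInvertible_of_gens
  intro x
  obtain ⟨f, hf, hx⟩ := hcov x
  exact ⟨Proj.basicOpen 𝒜 f, Proj.isAffineOpen_basicOpen 𝒜 f hf hD, hx, _,
    isGen_genSecK 𝒜 hD hf a (a * D) rfl⟩

theorem isIso_mulHom (a b : ℤ) : IsIso (mulHom 𝒜 (a * D) (b * D)) := by
  apply TensH8.isIso_of_isGen_cover
  intro x
  obtain ⟨f, hf, hx⟩ := hcov x
  refine ⟨Proj.basicOpen 𝒜 f, hx, SecTwist.tmul _ _ _ (genSecK 𝒜 hf a (a * D) rfl)
    (genSecK 𝒜 hf b (b * D) rfl),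
    TensH8.isGen_tmul (isGen_genSecK 𝒜 hD hf a (a * D) rfl)
      (isGen_genSecK 𝒜 hD hf b (b * D) rfl), ?_⟩
  rw [mulHom_tmul]
  exact (mulSec_genSecK 𝒜 hf a b (a * D) (b * D) rfl rfl).symm ▸
    isGen_genSecK 𝒜 hD hf (a + b) (a * D + b * D) (by ring)

theorem isGen_mulSec (a b : ℤ) {W : (Proj 𝒜).Opens} {s : Γ(Twist.twist 𝒜 (a * D), W)}
    {t : Γ(Twist.twist 𝒜 (b * D), W)} (hs : GenLocH8.IsGen (Twist.twist 𝒜 (a * D)) W s)
    (ht : GenLocH8.IsGen (Twist.twist 𝒜 (b * D)) W t) :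
    GenLocH8.IsGen (Twist.twist 𝒜 (a * D + b * D)) W (mulSec 𝒜 (a * D) (b * D) (op W) s t) := by
  haveI := isIso_mulHom 𝒜 hD hcov a b
  have h := TensH8.isGen_of_iso (asIso (mulHom 𝒜 (a * D) (b * D))) (TensH8.isGen_tmul hs ht)
  rw [asIso_hom, mulHom_tmul] at h
  exact h

/-- `O(m) ≅ O(m')` for `m = m'`. -/
noncomputable def twistCongr {m m' : ℤ} (h : m = m') : Twist.twist 𝒜 m ≅ Twist.twist 𝒜 m' :=
  eqToIso (congrArg (Twist.twist 𝒜) h)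

omit hD hcov in
theorem isInvertible_of_twistCongr {m m' : ℤ} (h : m = m')
    (hm : PicF.IsInvertible (Twist.twist 𝒜 m)) : PicF.IsInvertible (Twist.twist 𝒜 m') := by
  subst h
  exact hm

/-- `O(D) ⊗ O(-D) ≅ O`. -/
theorem nonempty_inverse :
    Nonempty (CohB1.tensorMod (Twist.twist 𝒜 (D : ℤ)) (Twist.twist 𝒜 (-1 * (D : ℤ))) ≅
      Coh.structureModule (Proj 𝒜)) := by
  haveI := isIso_mulHom 𝒜 hD hcov 1 (-1)
  haveI := isIso_unitToTwist0 𝒜 hD hcov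
  exact ⟨Groth.Agent.TensInv.mapR (twistCongr 𝒜 (one_mul (D : ℤ)).symm) _ ≪≫
    asIso (mulHom 𝒜 (1 * (D : ℤ)) (-1 * (D : ℤ))) ≪≫
    twistCongr 𝒜 (by ring) ≪≫ (asIso (unitToTwist0 𝒜)).symm⟩

/-- `O(cD)^{⊗ n} ≅ O(ncD)`. -/
theorem nonempty_tensorPow_iso (c : ℤ) (n : ℕ) :
    Nonempty (CohB1.tensorPow (Twist.twist 𝒜 (c * (D : ℤ))) n ≅
      Twist.twist 𝒜 ((n : ℤ) * c * (D : ℤ))) := by
  induction n with
  | zero =>
    haveI : IsIso (unitToTwist0 𝒜) := isIso_unitToTwist0 𝒜 hD hcov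
    have β : Coh.structureModule (Proj 𝒜) ≅ Twist.twist 𝒜 0 := asIso (unitToTwist0 𝒜)
    exact ⟨β ≪≫ twistCongr 𝒜 (by simp)⟩
  | succ n ih =>
    obtain ⟨α⟩ := ih
    haveI := isIso_mulHom 𝒜 hD hcov ((n : ℤ) * c) c
    exact ⟨Groth.Agent.TensInv.mapR α _ ≪≫ asIso (mulHom 𝒜 ((n : ℤ) * c * (D : ℤ)) (c * (D : ℤ))) ≪≫
      twistCongr 𝒜 (by push_cast; ring)⟩

end cover

/-- For a Noetherian graded ring, `Proj` is covered by the `D_+(f)` with `f` of a fixed positive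
degree `D`. -/
theorem exists_deg_cover [IsNoetherianRing A] :
    ∃ D : ℕ, 0 < D ∧ ∀ x : Proj 𝒜, ∃ f ∈ 𝒜 D, x ∈ Proj.basicOpen 𝒜 f := by
  classical
  obtain ⟨E, hE, hspan⟩ := Groth.Agent.Lib.GradedGen_helper3.exists_finset_homogeneous_of_fg 𝒜
    (IsNoetherian.noetherian _)
  choose! dx hdx using hE
  refine ⟨∏ e ∈ E, dx e, Finset.prod_pos (fun e he => (hdx e he).1), fun x => ?_⟩
  obtain ⟨e, heE, hex⟩ : ∃ e ∈ E, e ∉ (x : ProjectiveSpectrum 𝒜).asHomogeneousIdeal := by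
    by_contra hcon
    push Not at hcon
    apply (x : ProjectiveSpectrum 𝒜).not_irrelevant_le
    intro b hb
    have hb' : b ∈ (HomogeneousIdeal.irrelevant 𝒜).toIdeal := hb
    rw [hspan] at hb'
    exact (Ideal.span_le.mpr (fun e he => hcon e he)) hb'
  have hdvd : dx e ∣ ∏ e ∈ E, dx e := Finset.dvd_prod_of_mem dx heE
  have hpos : 0 < (∏ e ∈ E, dx e) / dx e :=
    Nat.div_pos (Nat.le_of_dvd (Finset.prod_pos (fun e he => (hdx e he).1)) hdvd) (hdx e heE).1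
  refine ⟨e ^ ((∏ e ∈ E, dx e) / dx e), ?_, ?_⟩
  · have := SetLike.pow_mem_graded ((∏ e ∈ E, dx e) / dx e) (hdx e heE).2
    rwa [smul_eq_mul, Nat.div_mul_cancel hdvd] at this
  · rw [Proj.basicOpen_pow 𝒜 e _ hpos]
    exact hex

end

end Groth.Agent.Lib.ProjTwDH6
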