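import Mathlib
import Groth.Prelude
import Groth.Agent.Lib.ProjTwD_helper6
import Groth.Agent.Lib.LefAmp6_helper6
import Groth.Agent.S2357

/-!
# Coherent modules on `Proj` of a Noetherian graded ring are quotients of sums of twists (helper6)

`main0846`: S0846.
APPEND-ONLY once landed.
-/

set_option autoImplicit false
set_option linter.style.haveILetI false
universe u
open CategoryTheory CategoryTheory.Limits AlgebraicGeometry TopologicalSpace Opposite

namespace Groth.Agent.Lib.ProjTwDH6

variable {R A : Type u} [CommRing R] [CommRing A] [Algebra R A] (𝒜 : ℕ → Submodule R A)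
  [GradedAlgebra 𝒜]

/-- **S0846**: every coherent module on `Proj A`, `A` Noetherian, is a quotient of a finite direct
sum of twisting modules. -/
theorem main0846 [IsNoetherianRing A] (F : (Proj 𝒜).Modules) (hF : Coh.IsCoh F) :
    ∃ (r : ℕ) (d : Fin r → ℤ) (φ : (∐ fun j : Fin r => Twist.twist 𝒜 (d j)) ⟶ F), Epi φ := by
  obtain ⟨D, hD, hcov⟩ := exists_deg_cover 𝒜
  haveI : IsNoetherian (Proj 𝒜) := Groth.Agent.S2357.result 𝒜
  haveI : CompactSpace (Proj 𝒜) := inferInstance
  haveI : QuasiSeparatedSpace (Proj 𝒜) := inferInstance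
  have hamp := Groth.Agent.ProjTw.isAmple_twist_deg 𝒜 hD hcov
  obtain ⟨a, r, p, hp⟩ := Groth.Agent.Lib.LefAmpH6.exists_epi_sigma_tensorPow hamp
    (nonempty_inverse 𝒜 hD hcov) F hF
  haveI := hp
  obtain ⟨α⟩ := nonempty_tensorPow_iso 𝒜 hD hcov (-1) a
  exact ⟨r, fun _ => (a : ℤ) * -1 * (D : ℤ), (Sigma.mapIso (fun _ : Fin r => α.symm)).hom ≫ p,
    inferInstance⟩

end Groth.Agent.Lib.ProjTwDH6
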