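import Mathlib
import Groth.Prelude
import Groth.Agent.Lib.ProjTwD2_helper6
import Groth.Agent.Lib.ProjTwW_helper5
import Groth.Agent.Lib.GrTwVal_helper5
import Groth.Agent.Lib.RelAmpleVan_helper9

/-!
# Serre vanishing on `Proj` of a Noetherian graded ring (helper6)

* `twist_tensor_iso`: `O(m) ⊗ O(qD) ≅ O(m + qD)` for a degree-`D` cover.
* `finite_sections`, `isCoh_twist`: `O(r)` is coherent for `A` Noetherian.
* `main0847`: S0847.
APPEND-ONLY once landed.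
-/

set_option autoImplicit false
set_option linter.style.haveILetI false
universe u
open CategoryTheory CategoryTheory.Limits AlgebraicGeometry TopologicalSpace Opposite DirectSum
open HomogeneousLocalization

namespace Groth.Agent.Lib.ProjTwDH6

open Groth.Agent.ProjTw

section
variable {R A : Type u} [CommRing R] [CommRing A] [Algebra R A] (𝒜 : ℕ → Submodule R A)
  [GradedAlgebra 𝒜]

/-- `O(m) ⊗ O(qD) ≅ O(m + qD)` for a degree-`D` cover. -/
theorem twist_tensor_iso {D : ℕ} (hD : 0 < D)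
    (hcov : ∀ x : Proj 𝒜, ∃ f ∈ 𝒜 D, x ∈ Proj.basicOpen 𝒜 f) (m q : ℤ) :
    Nonempty (CohB1.tensorMod (Twist.twist 𝒜 m) (Twist.twist 𝒜 (q * (D : ℤ))) ≅
      Twist.twist 𝒜 (m + q * (D : ℤ))) := by
  refine twist_tensor_iso_of_cover 𝒜 m (q * (D : ℤ))
    (fun f : {f : A // f ∈ 𝒜 D} => Proj.basicOpen 𝒜 f.1)
    (fun f => Proj.isAffineOpen_basicOpen 𝒜 f.1 f.2 hD) ?_
    (fun f => genSecK 𝒜 f.2 q (q * (D : ℤ)) rfl)
    (fun f => isGen_genSecK 𝒜 hD f.2 q _ rfl)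
    (fun f => genSecK 𝒜 f.2 (-q) (-(q * (D : ℤ))) (by ring))
    (fun f x => genSecK_mul_neg 𝒜 f.2 q _ _ rfl (by ring) x)
  rw [eq_top_iff]
  intro x _
  obtain ⟨f, hf, hx⟩ := hcov x
  exact Opens.mem_iSup.mpr ⟨⟨f, hf⟩, hx⟩

/-- Degree-`i` part of a combination of homogeneous elements. -/
theorem eq_sum_decompose_mul {i : ℕ} {b : A} (hb : b ∈ 𝒜 i) (T : Finset A) (c : A → A)
    (iT : A → ℕ) (hiT : ∀ g ∈ T, g ∈ 𝒜 (iT g)) (hsum : ∑ g ∈ T, c g * g = b) :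
    b = ∑ g ∈ T, if iT g ≤ i then (DirectSum.decompose 𝒜 (c g) (i - iT g) : A) * g else 0 := by
  classical
  have h1 : b = (DirectSum.decompose 𝒜 b i : A) := (DirectSum.decompose_of_mem_same 𝒜 hb).symm
  rw [h1, ← hsum, DirectSum.decompose_sum, DFinsupp.finsetSum_apply,
    AddSubmonoidClass.coe_finsetSum]
  refine Finset.sum_congr rfl (fun g hg => ?_)
  exact DirectSum.coe_decompose_mul_of_right_mem 𝒜 i (hiT g hg)

/-- Value of a section of `O(n)` at a point, as an additive map. -/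
def valAdd (n : ℤ) (U : (Proj 𝒜).Opens) (x : U) :
    Γ(Twist.twist 𝒜 n, U) →+ Twist.Loc 𝒜 x.1 where
  toFun s := (((show Twist.sectN (𝒜 := 𝒜) n (op U) from s).1 x : Twist.twistAt 𝒜 n x.1) :
    Twist.Loc 𝒜 x.1)
  map_zero' := rfl
  map_add' _ _ := rfl

theorem valAdd_smul (n : ℤ) (U : (Proj 𝒜).Opens) (x : U) (c : Γ(Proj 𝒜, U))
    (s : Γ(Twist.twist 𝒜 n, U)) :
    valAdd 𝒜 n U x (c • s) = Groth.Agent.GrTw.valO 𝒜 c x * valAdd 𝒜 n U x s :=
  smul_valN 𝒜 n (op U) c s x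

theorem mk_eq_algebraMap_mul {x : ProjectiveSpectrum 𝒜} (a : A)
    (t : x.asHomogeneousIdeal.toIdeal.primeCompl) :
    (Localization.mk a t : Twist.Loc 𝒜 x) =
      algebraMap A (Twist.Loc 𝒜 x) a * Localization.mk 1 t := by
  rw [Localization.mk_eq_mk', IsLocalization.mk'_eq_mul_mk'_one]

theorem mk_mul_mk_pow {x : ProjectiveSpectrum 𝒜} (f a g : A) (m n k : ℕ) (hmn : m + n = k)
    (h1 : f ^ m ∈ x.asHomogeneousIdeal.toIdeal.primeCompl)
    (h2 : f ^ n ∈ x.asHomogeneousIdeal.toIdeal.primeCompl)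
    (h3 : f ^ k ∈ x.asHomogeneousIdeal.toIdeal.primeCompl) :
    (Localization.mk a ⟨f ^ m, h1⟩ * Localization.mk g ⟨f ^ n, h2⟩ : Twist.Loc 𝒜 x) =
      algebraMap A (Twist.Loc 𝒜 x) (a * g) * Localization.mk 1 ⟨f ^ k, h3⟩ := by
  rw [← mk_eq_algebraMap_mul, Localization.mk_mul]
  congr 1
  apply Subtype.ext
  show f ^ m * f ^ n = f ^ k
  rw [← pow_add, hmn]

theorem finite_sections [IsNoetherianRing A] (r : ℤ) {D : ℕ} (hD : 0 < D) {f : A}
    (hf : f ∈ 𝒜 D) :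
    Module.Finite Γ(Proj 𝒜, Proj.basicOpen 𝒜 f) Γ(Twist.twist 𝒜 r, Proj.basicOpen 𝒜 f) := by
  classical
  set S : Set A := {g | ∃ i k : ℕ, g ∈ 𝒜 i ∧ (i : ℤ) = k * D + r} with hS
  obtain ⟨T, hTS, hspan⟩ := (Submodule.fg_span_iff_fg_span_finset_subset S).mp
    (IsNoetherian.noetherian (Submodule.span A S))
  have hT : ∀ g ∈ T, ∃ i k : ℕ, g ∈ 𝒜 i ∧ (i : ℤ) = k * D + r := fun g hg => hTS hg
  choose! iT kT hgi hik using hT
  have hfx : ∀ (j : ℕ) (x : Proj.basicOpen 𝒜 f), f ^ j ∉ x.1.asHomogeneousIdeal :=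
    fun j x h => x.2 (x.1.isPrime.mem_of_pow_mem _ h)
  let σ : T → Γ(Twist.twist 𝒜 r, Proj.basicOpen 𝒜 f) := fun g =>
    fracSecN 𝒜 r g.1 (hgi g.1 g.2) (f ^ kT g.1) (SetLike.pow_mem_graded (kT g.1) hf)
      (by rw [hik g.1 g.2]; simp) _ (hfx (kT g.1))
  refine ⟨⟨Finset.univ.image σ, eq_top_iff.mpr fun s _ => ?_⟩⟩
  obtain ⟨k, i, b, hi, hval⟩ := sections_basicOpenN 𝒜 r hD hf s
  have hbS : b.1 ∈ Submodule.span A S := Submodule.subset_span ⟨i, k, b.2, hi⟩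
  rw [hspan] at hbS
  obtain ⟨c, -, hc⟩ := Submodule.mem_span_finset.mp hbS
  have hb := eq_sum_decompose_mul 𝒜 b.2 T c iT hgi (by simpa [smul_eq_mul] using hc)
  -- coefficients
  let coef : T → Γ(Proj 𝒜, Proj.basicOpen 𝒜 f) := fun g =>
    if iT g.1 ≤ i then Groth.Agent.GrTw.fracO 𝒜 hf (k - kT g.1)
      (DirectSum.decompose 𝒜 (c g.1) ((k - kT g.1) • D)) (SetLike.coe_mem _) else 0
  have key : s = ∑ g : T, coef g • σ g := by
    have hx : ∀ x : Proj.basicOpen 𝒜 f,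
        valAdd 𝒜 r _ x s = valAdd 𝒜 r _ x (∑ g : T, coef g • σ g) := by
      intro x
      rw [map_sum]
      have h1 : valAdd 𝒜 r _ x s = Localization.mk b.1 ⟨f ^ k, hfx k x⟩ := hval x
      refine h1.trans ((mk_eq_algebraMap_mul 𝒜 (x := x.1) b.1 ⟨f ^ k, hfx k x⟩).trans ?_)
      rw [hb, map_sum, Finset.sum_mul, ← Finset.sum_coe_sort T]
      refine Finset.sum_congr rfl (fun g _ => ?_)
      rw [valAdd_smul]
      by_cases h : iT g.1 ≤ i
      · have hk : kT g.1 ≤ k := by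
          have h2 : (iT g.1 : ℤ) ≤ i := by exact_mod_cast h
          rw [hik g.1 g.2, hi] at h2
          have h3 : (kT g.1 : ℤ) * D ≤ k * D := by linarith
          have h4 : kT g.1 * D ≤ k * D := by exact_mod_cast h3
          exact Nat.le_of_mul_le_mul_right h4 hD
        have hidx : (k - kT g.1) • D = i - iT g.1 := by
          rw [smul_eq_mul, Nat.sub_mul]
          zify [h, Nat.mul_le_mul_right D hk]
          rw [hik g.1 g.2, hi]
          ring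
        have e1 : Groth.Agent.GrTw.valO 𝒜 (coef g) x =
            Localization.mk (DirectSum.decompose 𝒜 (c g.1) ((k - kT g.1) • D) : A)
              ⟨f ^ (k - kT g.1), hfx _ x⟩ := by
          simp only [coef, if_pos h]
          rfl
        have e2 : valAdd 𝒜 r _ x (σ g) = Localization.mk g.1 ⟨f ^ kT g.1, hfx _ x⟩ := rfl
        rw [e1, e2, if_pos h, hidx]
        exact (mk_mul_mk_pow 𝒜 (x := x.1) f _ g.1 (k - kT g.1) (kT g.1) k
          (Nat.sub_add_cancel hk) (hfx _ x) (hfx _ x) (hfx k x)).symm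
      · have e1 : Groth.Agent.GrTw.valO 𝒜 (coef g) x = 0 := by
          simp only [coef, if_neg h]
          exact HomogeneousLocalization.val_zero
        rw [e1, if_neg h, map_zero, zero_mul, zero_mul]
    apply Subtype.ext
    funext x
    apply Subtype.ext
    exact hx x
  rw [key]
  exact Submodule.sum_mem _ (fun g _ => Submodule.smul_mem _ _
    (Submodule.subset_span (Finset.mem_coe.mpr (Finset.mem_image_of_mem σ (Finset.mem_univ g)))))

/-- `O(r)` is coherent on `Proj` of a Noetherian graded ring. -/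
theorem isCoh_twist [IsNoetherianRing A] (r : ℤ) : Coh.IsCoh (Twist.twist 𝒜 r) := by
  obtain ⟨D, hD, hcov⟩ := exists_deg_cover 𝒜
  refine ⟨inferInstance, ?_⟩
  refine QCohCrit.isFiniteType_of_sections_cover (Twist.twist 𝒜 r)
    (fun f : {f : A // f ∈ 𝒜 D} => Proj.basicOpen 𝒜 f.1)
    (fun f => Proj.isAffineOpen_basicOpen 𝒜 f.1 f.2 hD) ?_
    (fun f => finite_sections 𝒜 r hD f.2)
  rw [eq_top_iff]
  intro x _
  obtain ⟨f, hf, hx⟩ := hcov x
  exact Opens.mem_iSup.mpr ⟨⟨f, hf⟩, hx⟩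

/-- **S0847**: Serre vanishing on `Proj` of a Noetherian graded ring. -/
theorem main0847 [IsNoetherianRing A] (F : (Proj 𝒜).Modules) (hF : Coh.IsCoh F)
    (p : ℕ) (hp : 0 < p) :
    ∃ d₀ : ℤ, ∀ d : ℤ, d₀ ≤ d → Subsingleton (Coh.HH (Proj 𝒜) (Twist.twistBy 𝒜 F d) p) := by
  obtain ⟨D, hD, hcov⟩ := exists_deg_cover 𝒜
  haveI : IsNoetherian (Proj 𝒜) := Groth.Agent.S2357.result 𝒜
  haveI : CompactSpace (Proj 𝒜) := inferInstance
  have hamp := Groth.Agent.ProjTw.isAmple_twist_deg 𝒜 hD hcov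
  haveI : Algebra.FiniteType (𝒜 0) A :=
    Groth.Agent.Lib.GradedGen_helper3.finiteType_of_isNoetherianRing 𝒜
  have hinv : PicF.IsInvertible (Twist.twist 𝒜 (D : ℤ)) :=
    isInvertible_of_twistCongr 𝒜 (one_mul (D : ℤ)) (isInvertible_twist 𝒜 hD hcov 1)
  -- vanishing for each residue
  have hres : ∀ r : ℕ, ∃ n₀ : ℕ, ∀ n : ℕ, n₀ ≤ n →
      Subsingleton (Coh.HH (Proj 𝒜) (Twist.twistBy 𝒜 F ((r : ℤ) + (n : ℤ) * (D : ℤ))) p) := by
    intro r
    obtain ⟨n₀, hn₀⟩ := RelAmpleVanH9.serre_vanishing_ample (Proj.toSpecZero 𝒜)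
      (Twist.twist 𝒜 (D : ℤ)) hinv hamp (CohB1.tensorMod F (Twist.twist 𝒜 (r : ℤ)))
      (RelAmpleVanH9.isCoh_tensorMod hF (isCoh_twist 𝒜 r))
    refine ⟨n₀, fun n hn => ?_⟩
    have h1 := hn₀ n hn p hp
    obtain ⟨α⟩ := nonempty_tensorPow_iso 𝒜 hD hcov 1 n
    obtain ⟨β⟩ := twist_tensor_iso 𝒜 hD hcov (r : ℤ) (n : ℤ)
    have α' : CohB1.tensorPow (Twist.twist 𝒜 (D : ℤ)) n ≅ Twist.twist 𝒜 ((n : ℤ) * (D : ℤ)) :=
      eqToIso (by rw [one_mul]) ≪≫ α ≪≫ twistCongr 𝒜 (by ring)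
    refine Groth.Agent.HHVan.subsingleton_of_iso
      (Groth.Agent.TensInv.mapL _ α' ≪≫ Groth.Agent.TensInv.assoc _ _ _ ≪≫
        Groth.Agent.TensInv.mapL F β) p h1
  choose n₀ hn₀ using hres
  refine ⟨((Finset.range D).sup n₀ : ℕ) * (D : ℤ), fun d hd => ?_⟩
  have hDz : (0 : ℤ) < D := by exact_mod_cast hD
  have h1 : 0 ≤ d % (D : ℤ) := Int.emod_nonneg d hDz.ne'
  have h2 : d % (D : ℤ) < D := Int.emod_lt_of_pos d hDz
  have h3 : (((Finset.range D).sup n₀ : ℕ) : ℤ) ≤ d / (D : ℤ) := Int.le_ediv_of_mul_le hDz hd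
  have h4 : 0 ≤ d / (D : ℤ) := le_trans (by positivity) h3
  obtain ⟨r, hr⟩ := Int.eq_ofNat_of_zero_le h1
  obtain ⟨n, hn⟩ := Int.eq_ofNat_of_zero_le h4
  have hrD : r < D := by rw [hr] at h2; exact_mod_cast h2
  have hnn : n₀ r ≤ n := by
    have h5 : n₀ r ≤ (Finset.range D).sup n₀ := Finset.le_sup (Finset.mem_range.mpr hrD)
    rw [hn] at h3
    have h6 : ((Finset.range D).sup n₀ : ℕ) ≤ n := by exact_mod_cast h3
    omega
  have hd' : d = (r : ℤ) + (n : ℤ) * (D : ℤ) := by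
    rw [← hr, ← hn]
    have h7 := Int.emod_add_mul_ediv d D
    linarith
  rw [hd']
  exact hn₀ r n hnn

end

end Groth.Agent.Lib.ProjTwDH6
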