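import Mathlib
import Groth.Prelude
import Groth.Agent.Lib.ProjTwD3_helper6
import Groth.Agent.Lib.DTorCmp_helper2
import Groth.Agent.Lib.ESZ5_helper6
import Groth.Agent.Lib.QCohExact_helper9

/-!
# Exactness of global sections of high twists on `Proj` (helper6)

* `sections_exact_of_H1`: `F → G → H` exact with `H¹(ker(F → G)) = 0` ⇒ global sections exact.
* `sections_exact_map`: the same after applying an equivalence `T`.
* `main2448`: S2448.
APPEND-ONLY once landed.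
-/

set_option autoImplicit false
set_option linter.style.haveILetI false
universe u
open CategoryTheory CategoryTheory.Limits AlgebraicGeometry TopologicalSpace Opposite

namespace Groth.Agent.Lib.ProjSecExH6

open Groth.Agent.Lib.ESZH6 Groth.Agent.HHVan

variable {X : Scheme.{u}}

/-- For an exact sequence `F → G → H` with `H¹(ker(F → G)) = 0`, global sections are exact. -/
theorem sections_exact_of_H1 (C : ShortComplex X.Modules) (hC : C.Exact)
    (h1 : Subsingleton (Coh.HH X (kernel C.f) 1)) (y : Γ(C.X₂, ⊤)) (hy : C.g.app ⊤ y = 0) :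
    ∃ x : Γ(C.X₁, ⊤), C.f.app ⊤ x = y := by
  -- `y` comes from the kernel of `g`
  let E : ShortComplex X.Modules := ShortComplex.mk (kernel.ι C.g) C.g (kernel.condition C.g)
  have hE : E.Exact := E.exact_of_f_is_kernel (kernelIsKernel C.g)
  haveI : Mono E.f := inferInstanceAs (Mono (kernel.ι C.g))
  obtain ⟨t, ht⟩ := QCohExact.app_exact E hE ⊤ y hy
  -- `F → ker g` is an epimorphism
  let f' : C.X₁ ⟶ kernel C.g := kernel.lift C.g C.f C.zero
  haveI : Epi f' := C.exact_iff_epi_kernel_lift.mp hC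
  let S1 : ShortComplex X.Modules := ShortComplex.mk (kernel.ι f') f' (kernel.condition f')
  have hS1 : S1.ShortExact :=
    ShortComplex.ShortExact.mk' (S1.exact_of_f_is_kernel (kernelIsKernel f'))
      (inferInstanceAs (Mono (kernel.ι f'))) (inferInstanceAs (Epi f'))
  have hff : f' ≫ kernel.ι C.g = C.f := kernel.lift_ι _ _ _
  have e : kernel C.f ≅ kernel f' :=
    kernelIsoOfEq hff.symm ≪≫ kernelCompMono f' (kernel.ι C.g)
  have h1' : Subsingleton (Coh.HH X S1.X₁ 1) := Groth.Agent.HHVan.subsingleton_of_iso e 1 h1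
  obtain ⟨u, hu⟩ := hmap_surjective_of_succ S1 hS1 0 h1' ((h0 (kernel C.g)).symm t)
  refine ⟨h0 C.X₁ u, ?_⟩
  have h2 : f'.app ⊤ (h0 C.X₁ u) = t := by
    have := h0_hmap f' u
    rw [← this]
    show h0 (kernel C.g) (hmap S1.g 0 u) = t
    rw [hu, AddEquiv.apply_symm_apply]
  rw [← ht, ← h2, ← hff]
  rfl

/-- Sections of `T(F) → T(G) → T(H)` are exact for an equivalence `T`. -/
theorem sections_exact_map (T : X.Modules ⥤ X.Modules) [T.IsEquivalence] [T.Additive]
    (C : ShortComplex X.Modules) (hC : C.Exact)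
    (h1 : Subsingleton (Coh.HH X (T.obj (kernel C.f)) 1)) (y : Γ(T.obj C.X₂, ⊤))
    (hy : (T.map C.g).app ⊤ y = 0) : ∃ x : Γ(T.obj C.X₁, ⊤), (T.map C.f).app ⊤ x = y := by
  have hC' : (C.map T).Exact := hC.map T
  have e : T.obj (kernel C.f) ≅ kernel (T.map C.f) := PreservesKernel.iso T C.f
  exact sections_exact_of_H1 (C.map T) hC' (subsingleton_of_iso e 1 h1) y hy

section Proj

open Groth.Agent.Lib.ProjTwDH6

variable {A S : Type u} [CommRing A] [IsNoetherianRing A] [CommRing S] [Algebra A S]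
  (𝒜 : ℕ → Submodule A S) [GradedAlgebra 𝒜]

/-- **S2448**. -/
theorem main2448 (r : ℕ) (g : Fin (r + 1) → S) (hg1 : ∀ i, g i ∈ 𝒜 1)
    (hgen : Algebra.adjoin A (Set.range g) = ⊤)
    (C : ShortComplex (Proj 𝒜).Modules) (hC : C.Exact) (h1 : Coh.IsCoh C.X₁)
    (h2 : Coh.IsCoh C.X₂) :
    ∃ N : ℤ, ∀ n : ℤ, N ≤ n →
      Function.Exact
        ((DCoh.tensorRightMod (Twist.twist 𝒜 n) ⋙ CohIII.globalSectionsA A).map C.f).hom
        ((DCoh.tensorRightMod (Twist.twist 𝒜 n) ⋙ CohIII.globalSectionsA A).map C.g).hom := by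
  classical
  haveI : Algebra.FiniteType A S := ⟨⟨Finset.univ.image g, by
    rw [Finset.coe_image, Finset.coe_univ, Set.image_univ]; exact hgen⟩⟩
  haveI : IsNoetherianRing S := Algebra.FiniteType.isNoetherianRing A S
  have hcov : ∀ x : Proj 𝒜, ∃ f ∈ 𝒜 1, x ∈ Proj.basicOpen 𝒜 f := fun x => by
    obtain ⟨i, hi⟩ := Groth.Agent.ProjTw.cover_of_adjoin 𝒜 g (fun _ => 1) (fun _ => one_pos)
      hg1 hgen x
    exact ⟨g i, hg1 i, hi⟩
  haveI : IsNoetherian (Proj 𝒜) := Groth.Agent.S2357.result 𝒜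
  have hK : Coh.IsCoh (kernel C.f) := CohKerH8.isCoh_kernel h1 h2 C.f
  obtain ⟨N, hN⟩ := main0847 𝒜 (kernel C.f) hK 1 one_pos
  refine ⟨N, fun n hn => ?_⟩
  have hinv : Nonempty (CohB1.tensorMod (Twist.twist 𝒜 n) (Twist.twist 𝒜 (-n)) ≅
      Coh.structureModule (Proj 𝒜)) := by
    haveI := Groth.Agent.ProjTw.isIso_mulHom 𝒜 hcov n (-n)
    haveI := Groth.Agent.ProjTw.isIso_unitToTwist0 𝒜 hcov
    exact ⟨asIso (Groth.Agent.ProjTw.mulHom 𝒜 n (-n)) ≪≫ twistCongr 𝒜 (by ring) ≪≫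
      (asIso (Groth.Agent.ProjTw.unitToTwist0 𝒜)).symm⟩
  have hE1 : (Groth.Agent.TensInv.tR (Twist.twist 𝒜 n)).IsEquivalence :=
    Groth.Agent.TensInv.isEquivalence_tR hinv
  haveI : (DCoh.tensorRightMod (Twist.twist 𝒜 n)).IsEquivalence :=
    @Functor.isEquivalence_of_iso _ _ _ _ _ _
      (Groth.Agent.Lib.DTorCmp.eT (Twist.twist 𝒜 n)).symm hE1
  intro y
  constructor
  · intro hy
    obtain ⟨x, hx⟩ := sections_exact_map (DCoh.tensorRightMod (Twist.twist 𝒜 n)) C hC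
      (hN n hn) y hy
    exact ⟨x, hx⟩
  · rintro ⟨x, rfl⟩
    have h3 : (DCoh.tensorRightMod (Twist.twist 𝒜 n)).map C.f ≫
        (DCoh.tensorRightMod (Twist.twist 𝒜 n)).map C.g = 0 := by
      rw [← Functor.map_comp, C.zero, Functor.map_zero]
    have h4 : ∀ x' : Γ((DCoh.tensorRightMod (Twist.twist 𝒜 n)).obj C.X₁, ⊤),
        ((DCoh.tensorRightMod (Twist.twist 𝒜 n)).map C.g).app ⊤
          (((DCoh.tensorRightMod (Twist.twist 𝒜 n)).map C.f).app ⊤ x') = 0 := by
      intro x'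
      exact congrArg (fun φ : (DCoh.tensorRightMod (Twist.twist 𝒜 n)).obj C.X₁ ⟶
        (DCoh.tensorRightMod (Twist.twist 𝒜 n)).obj C.X₃ => φ.app ⊤ x') h3
    exact h4 x

end Proj

end Groth.Agent.Lib.ProjSecExH6
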