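import Mathlib
import Groth.Prelude.Def_RDer
import Groth.Agent.Lib.FAcyc_helper9

/-!
# When `H^i (Ψ K) ⟶ Ψ (H^i K)` is an isomorphism (helper9)

`Ψ : B ⥤ C` left exact additive, `B` with enough injectives, `L` an `ℕ`-indexed cochain complex in
`B` all of whose terms and all of whose cohomology objects are `Ψ`-acyclic.  Then
`RDer.homologyComparison Ψ L i` is an isomorphism for every `i`.
APPEND-ONLY once landed.
-/

set_option autoImplicit false

namespace Groth.Agent.Lib.HComp

open CategoryTheory CategoryTheory.Limits HomologicalComplex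

universe v v' u u'

variable {B : Type u} [Category.{v} B] [Abelian B] {C : Type u'} [Category.{v'} C] [Abelian C]

section Cx

variable (L : CochainComplex B ℕ)

/-- `0 → B^n → Z^n → H^n → 0`. -/
noncomputable abbrev SBZ (n : ℕ) : ShortComplex B :=
  ShortComplex.mk (kernel.ι (L.homologyπ n)) (L.homologyπ n) (kernel.condition _)

theorem SBZ_shortExact (n : ℕ) : (SBZ L n).ShortExact :=
  ShortComplex.ShortExact.mk' (ShortComplex.exact_kernel (L.homologyπ n))
    (inferInstanceAs (Mono (kernel.ι (L.homologyπ n)))) (inferInstanceAs (Epi (L.homologyπ n)))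

/-- The map `X^n ⟶ B^{n+1}`. -/
noncomputable def beta (n : ℕ) : L.X n ⟶ kernel (L.homologyπ (n + 1)) :=
  kernel.lift (L.homologyπ (n + 1)) (L.toCycles n (n + 1)) (L.toCycles_comp_homologyπ n (n + 1))

theorem beta_ι (n : ℕ) : beta L n ≫ kernel.ι (L.homologyπ (n + 1)) = L.toCycles n (n + 1) :=
  kernel.lift_ι _ _ _

theorem epi_beta (n : ℕ) : Epi (beta L n) := by
  have hex : (ShortComplex.mk (L.toCycles n (n + 1)) (L.homologyπ (n + 1))
      (L.toCycles_comp_homologyπ n (n + 1))).Exact :=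
    ShortComplex.exact_of_g_is_cokernel _ (L.homologyIsCokernel n (n + 1) (by simp))
  exact (ShortComplex.exact_iff_epi_kernel_lift _).mp hex

theorem iCycles_beta (n : ℕ) : L.iCycles n ≫ beta L n = 0 := by
  rw [← cancel_mono (kernel.ι (L.homologyπ (n + 1))), ← cancel_mono (L.iCycles (n + 1)),
    Category.assoc, Category.assoc, zero_comp, zero_comp]
  rw [← Category.assoc (beta L n), beta_ι, L.toCycles_i, L.iCycles_d]

/-- `0 → Z^n → X^n → B^{n+1} → 0`. -/
noncomputable abbrev SZX (n : ℕ) : ShortComplex B :=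
  ShortComplex.mk (L.iCycles n) (beta L n) (iCycles_beta L n)

theorem SZX_shortExact (n : ℕ) : (SZX L n).ShortExact := by
  have hex : (ShortComplex.mk (L.iCycles n) (L.d n (n + 1)) (L.iCycles_d n (n + 1))).Exact :=
    ShortComplex.exact_of_f_is_kernel _ (L.cyclesIsKernel n (n + 1) (by simp))
  let φ : SZX L n ⟶ ShortComplex.mk (L.iCycles n) (L.d n (n + 1)) (L.iCycles_d n (n + 1)) :=
    { τ₁ := 𝟙 _
      τ₂ := 𝟙 _
      τ₃ := kernel.ι (L.homologyπ (n + 1)) ≫ L.iCycles (n + 1)
      comm₁₂ := by simp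
      comm₂₃ := by
        show 𝟙 _ ≫ L.d n (n + 1) = beta L n ≫ kernel.ι (L.homologyπ (n + 1)) ≫ L.iCycles (n + 1)
        rw [← Category.assoc, beta_ι, L.toCycles_i, Category.id_comp] }
  haveI : Epi φ.τ₁ := inferInstanceAs (Epi (𝟙 _))
  haveI : IsIso φ.τ₂ := inferInstanceAs (IsIso (𝟙 _))
  haveI : Mono φ.τ₃ := inferInstanceAs (Mono (kernel.ι (L.homologyπ (n + 1)) ≫ L.iCycles (n + 1)))
  have hex' : (SZX L n).Exact := (ShortComplex.exact_iff_of_epi_of_isIso_of_mono φ).mpr hex
  exact ShortComplex.ShortExact.mk' hex' (inferInstanceAs (Mono (L.iCycles n))) (epi_beta L n)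

end Cx

section Acyc

open Groth.Agent.Lib.FAcyc

variable [HasInjectiveResolutions B] (Ψ : B ⥤ C) [Ψ.Additive]

theorem acyc_of_iso {X Y : B} (e : X ≅ Y) (h : acyc Ψ X) : acyc Ψ Y :=
  fun i hi => IsZero.of_iso (h i hi) ((Ψ.rightDerived i).mapIso e.symm)

variable {L : CochainComplex B ℕ}

theorem acyc_cycles (hX : ∀ n, acyc Ψ (L.X n)) (hH : ∀ n, acyc Ψ (L.homology n)) :
    ∀ n, acyc Ψ (L.cycles n)
  | 0 => acyc_of_iso Ψ L.isoHomologyπ₀.symm (hH 0)
  | n + 1 => ((h2 Ψ (SBZ L (n + 1)) (SBZ_shortExact L (n + 1))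
      (((h2 Ψ (SZX L n) (SZX_shortExact L n) (acyc_cycles hX hH n)).1 (hX n)))).2 (hH (n + 1)))

theorem acyc_boundaries (hX : ∀ n, acyc Ψ (L.X n)) (hH : ∀ n, acyc Ψ (L.homology n)) (n : ℕ) :
    acyc Ψ (kernel (L.homologyπ (n + 1))) :=
  (h2 Ψ (SZX L n) (SZX_shortExact L n) (acyc_cycles Ψ hX hH n)).1 (hX n)

variable [PreservesFiniteLimits Ψ]

/-- `Ψ` of an epimorphism with `Ψ`-acyclic kernel is an epimorphism. -/
theorem epi_map_g {S : ShortComplex B} (hS : S.ShortExact) (h1 : acyc Ψ S.X₁) :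
    Epi (Ψ.map S.g) := by
  haveI := epi_zero Ψ S hS (h1 1 Nat.one_pos)
  have hn := Ψ.toRightDerivedZero.naturality S.g
  haveI : Epi (Ψ.map S.g ≫ Ψ.toRightDerivedZero.app S.X₃) := by
    rw [hn]
    infer_instance
  have h3 : Ψ.map S.g = (Ψ.map S.g ≫ Ψ.toRightDerivedZero.app S.X₃) ≫
      inv (Ψ.toRightDerivedZero.app S.X₃) := by
    rw [Category.assoc, IsIso.hom_inv_id, Category.comp_id]
  rw [h3]
  infer_instance

end Acyc

section Comparison

variable (Ψ : B ⥤ C) [Ψ.Additive] [PreservesFiniteLimits Ψ]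

set_option backward.isDefEq.respectTransparency false in
theorem isIso_cyclesComparison {ι' : Type*} {c : ComplexShape ι'} (K : HomologicalComplex B c)
    (i : ι') : IsIso (RDer.cyclesComparison Ψ K i) := by
  have hz : Ψ.map (K.iCycles i) ≫ ((Ψ.mapHomologicalComplex c).obj K).d i (c.next i) = 0 := by
    show Ψ.map (K.iCycles i) ≫ Ψ.map (K.d i (c.next i)) = 0
    rw [← Ψ.map_comp, K.iCycles_d, Ψ.map_zero]
  refine ⟨((Ψ.mapHomologicalComplex c).obj K).liftCycles (Ψ.map (K.iCycles i)) (c.next i) rfl hz,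
    ?_, ?_⟩
  · rw [← cancel_mono (((Ψ.mapHomologicalComplex c).obj K).iCycles i), Category.assoc,
      liftCycles_i, RDer.cyclesComparison_i, Category.id_comp]
  · haveI : Mono (Ψ.map (K.iCycles i)) := inferInstance
    rw [← cancel_mono (Ψ.map (K.iCycles i)), Category.assoc, RDer.cyclesComparison_i,
      liftCycles_i, Category.id_comp]

set_option backward.isDefEq.respectTransparency false in
theorem toCycles_cyclesComparison' {ι' : Type*} {c : ComplexShape ι'}
    (K : HomologicalComplex B c) (j i : ι') :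
    ((Ψ.mapHomologicalComplex c).obj K).toCycles j i ≫ RDer.cyclesComparison Ψ K i =
      Ψ.map (K.toCycles j i) := by
  haveI : Mono (Ψ.map (K.iCycles i)) := inferInstance
  rw [← cancel_mono (Ψ.map (K.iCycles i)), Category.assoc, RDer.cyclesComparison_i, toCycles_i,
    ← Ψ.map_comp, toCycles_i]
  rfl

variable (L : CochainComplex B ℕ)

set_option backward.isDefEq.respectTransparency false in
theorem isIso_homologyComparison_zero : IsIso (RDer.homologyComparison Ψ L 0) := by
  haveI := isIso_cyclesComparison Ψ L 0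
  have h := RDer.homologyπ_homologyComparison Ψ L 0
  have h' : RDer.homologyComparison Ψ L 0 =
      inv (((Ψ.mapHomologicalComplex _).obj L).homologyπ 0) ≫
        RDer.cyclesComparison Ψ L 0 ≫ Ψ.map (L.homologyπ 0) := by
    rw [← h, IsIso.inv_hom_id_assoc]
  rw [h']
  infer_instance

set_option backward.isDefEq.respectTransparency false in
theorem isIso_homologyComparison_succ (n : ℕ) (h1 : Epi (Ψ.map (beta L n)))
    (h2 : Epi (Ψ.map (L.homologyπ (n + 1)))) :
    IsIso (RDer.homologyComparison Ψ L (n + 1)) := by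
  haveI := isIso_cyclesComparison Ψ L (n + 1)
  have h := RDer.homologyπ_homologyComparison Ψ L (n + 1)
  haveI : Epi (RDer.homologyComparison Ψ L (n + 1)) := by
    haveI : Epi (((Ψ.mapHomologicalComplex _).obj L).homologyπ (n + 1) ≫
        RDer.homologyComparison Ψ L (n + 1)) := by
      rw [h]
      infer_instance
    exact epi_of_epi (((Ψ.mapHomologicalComplex _).obj L).homologyπ (n + 1)) _
  haveI : Mono (RDer.homologyComparison Ψ L (n + 1)) := by
    rw [Preadditive.mono_iff_cancel_zero]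
    intro A a ha
    obtain ⟨A', π, hπ, z, hz⟩ := surjective_up_to_refinements_of_epi
      (((Ψ.mapHomologicalComplex _).obj L).homologyπ (n + 1)) a
    have hz0 : (z ≫ RDer.cyclesComparison Ψ L (n + 1)) ≫ Ψ.map (L.homologyπ (n + 1)) = 0 := by
      rw [Category.assoc, ← h, ← Category.assoc, ← hz, Category.assoc, ha, comp_zero]
    -- factor through `Ψ (B^{n+1})`
    let hk := KernelFork.mapIsLimit _ (kernelIsKernel (L.homologyπ (n + 1))) Ψ
    obtain ⟨b, hb⟩ := KernelFork.IsLimit.lift' hk (z ≫ RDer.cyclesComparison Ψ L (n + 1)) hz0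
    have hb' : b ≫ Ψ.map (kernel.ι (L.homologyπ (n + 1))) =
        z ≫ RDer.cyclesComparison Ψ L (n + 1) := hb
    obtain ⟨A'', π', hπ', c, hc⟩ := surjective_up_to_refinements_of_epi (Ψ.map (beta L n)) b
    have key : c ≫ ((Ψ.mapHomologicalComplex _).obj L).toCycles n (n + 1) = π' ≫ z := by
      rw [← cancel_mono (RDer.cyclesComparison Ψ L (n + 1)), Category.assoc,
        toCycles_cyclesComparison', Category.assoc, ← hb', ← beta_ι, Ψ.map_comp,
        ← Category.assoc, ← hc, Category.assoc]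
    have h0 : (π' ≫ π) ≫ a = 0 := by
      rw [Category.assoc, hz, ← Category.assoc, ← key, Category.assoc,
        toCycles_comp_homologyπ, comp_zero]
    haveI := hπ
    haveI := hπ'
    exact (cancel_epi (π' ≫ π)).1 (h0.trans comp_zero.symm)
  exact isIso_of_mono_of_epi _

end Comparison

section Main

open Groth.Agent.Lib.FAcyc

variable [HasInjectiveResolutions B] (Ψ : B ⥤ C) [Ψ.Additive] [PreservesFiniteLimits Ψ]
  (L : CochainComplex B ℕ)

/-- If all terms and all cohomology objects of `L` are `Ψ`-acyclic, then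
`H^i (Ψ L) ⟶ Ψ (H^i L)` is an isomorphism. -/
theorem isIso_homologyComparison (hX : ∀ n, acyc Ψ (L.X n)) (hH : ∀ n, acyc Ψ (L.homology n))
    (i : ℕ) : IsIso (RDer.homologyComparison Ψ L i) := by
  cases i with
  | zero => exact isIso_homologyComparison_zero Ψ L
  | succ n =>
    apply isIso_homologyComparison_succ Ψ L n
    · exact epi_map_g Ψ (SZX_shortExact L n) (acyc_cycles Ψ hX hH n)
    · exact epi_map_g Ψ (SBZ_shortExact L (n + 1)) (acyc_boundaries Ψ hX hH n)

end Main

end Groth.Agent.Lib.HComp
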