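import Mathlib
import Groth.Agent.Lib.ModPushDer_helper2

/-!
# Modules with totally acyclic underlying abelian sheaf are acyclic for direct images
-/

set_option autoImplicit false
universe u
open CategoryTheory Limits Opposite Abelian

namespace Groth.Agent.Lib.ModFree
open Groth.Agent.Lib.FunctorialInjective

lemma isZero_of_isZero_obj_of_faithful {A B : Type*} [Category A] [Category B] [Preadditive A]
    [Preadditive B] (T : A ⥤ B) [T.Faithful] [T.PreservesZeroMorphisms] (X : A)
    (h : IsZero (T.obj X)) : IsZero X := by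
  rw [IsZero.iff_id_eq_zero]
  apply T.map_injective
  rw [T.map_id, T.map_zero]
  exact (IsZero.iff_id_eq_zero _).1 h

variable {C D : Type u} [SmallCategory C] [SmallCategory D] {J : GrothendieckTopology C}
  {K : GrothendieckTopology D} (u : D ⥤ C) [u.IsContinuous K J]
  (R : Sheaf J RingCat.{u})

theorem isZero_rightDerived_of_totallyAcyclic {𝒜' : Type (u + 1)} [Category.{u} 𝒜'] [Abelian 𝒜']
    (Fm : SheafOfModules.{u} R ⥤ 𝒜') [Fm.Additive] (T' : 𝒜' ⥤ Sheaf K AddCommGrpCat.{u})
    [T'.Additive] [T'.Faithful] [PreservesFiniteLimits T'] [PreservesFiniteColimits T']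
    (e : Fm ⋙ T' ≅ SheafOfModules.toSheaf R ⋙ CohSite.push J K u)
    [HasInjectiveResolutions (SheafOfModules.{u} R)]
    (N : SheafOfModules.{u} R)
    (hN : CohCx.IsTotallyAcyclic ((SheafOfModules.toSheaf R).obj N)) (q : ℕ) (hq : 0 < q) :
    IsZero ((Fm.rightDerived q).obj N) := by
  obtain ⟨i⟩ := nonempty_toSheaf_rightDerived_iso u R Fm T' e N q
  apply isZero_of_isZero_obj_of_faithful T'
  refine IsZero.of_iso ?_ i
  exact PushDerAcyc.acyclic_push_of_objAcyclic J K u _
    (PushAcyc.objAcyclic_of_totallyAcyclic _ hN) q hq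

end Groth.Agent.Lib.ModFree
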