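import Mathlib
import Groth.Prelude.Def_CohBC2
import Groth.Agent.Lib.HComp1_helper9
import Groth.Agent.Lib.RpushVanish_helper9
import Groth.Agent.Lib.RpushNat_helper9
import Groth.Agent.Lib.RpushQC3_helper9
import Groth.Agent.Lib.ModPushAcyc_helper2
import Groth.Agent.Lib.PushTot_helper2
import Groth.Agent.Lib.ModFree_helper2

/-!
# The second Leray edge map is an isomorphism when the second morphism is affine (helper9)
APPEND-ONLY once landed.
-/

set_option autoImplicit false
universe u

namespace Groth.Agent.Lib.HComp

open CategoryTheory CategoryTheory.Limits AlgebraicGeometry TopologicalSpace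
open Groth.Agent.Lib.FAcyc (acyc)

variable {X Y Z : Scheme.{u}} (f : X ⟶ Y) (g : Y ⟶ Z)

/-- the direct image of an injective module is acyclic for any further direct image -/
theorem acyc_push_injective [HasInjectiveResolutions Y.Modules] (I : X.Modules) [Injective I] :
    acyc (Scheme.Modules.pushforward g) ((Scheme.Modules.pushforward f).obj I) := by
  intro q hq
  have hcolZ := Groth.Agent.Lib.ModSiteH8.toSheaf_preservesColimitsOfSize Z.ringCatSheaf
  have hfcZ : Limits.PreservesFiniteColimits (SheafOfModules.toSheaf Z.ringCatSheaf) :=
    ⟨fun _ _ _ => inferInstance⟩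
  have hinjY : HasInjectiveResolutions (SheafOfModules Y.ringCatSheaf) :=
    ‹HasInjectiveResolutions Y.Modules›
  let Gm : SheafOfModules Y.ringCatSheaf ⥤ SheafOfModules Z.ringCatSheaf :=
    Scheme.Modules.pushforward g
  have haddG : Gm.Additive := inferInstanceAs ((Scheme.Modules.pushforward g).Additive)
  let eG : Gm ⋙ SheafOfModules.toSheaf Z.ringCatSheaf ≅
      SheafOfModules.toSheaf Y.ringCatSheaf ⋙
        CohSite.push (Opens.grothendieckTopology Y) (Opens.grothendieckTopology Z)
          (TopologicalSpace.Opens.map g.base) :=
    NatIso.ofComponents (fun M => Iso.refl _) (by intros; ext; rfl)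
  have hflat : ∀ n : ℕ, Limits.PreservesLimitsOfShape (Limits.WidePullbackShape (Fin (n + 1)))
      ((TopologicalSpace.Opens.map f.base).sheafPullback (Type u)
        (Opens.grothendieckTopology Y) (Opens.grothendieckTopology X)) := by
    haveI : Limits.PreservesFiniteLimits ((TopologicalSpace.Opens.map f.base).op.lan :
        ((TopologicalSpace.Opens Y)ᵒᵖ ⥤ Type u) ⥤ _) := inferInstance
    haveI : Limits.PreservesFiniteLimits ((TopologicalSpace.Opens.map f.base).sheafPullback (Type u)
        (Opens.grothendieckTopology Y) (Opens.grothendieckTopology X)) := by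
      apply Functor.sheafPullbackConstruction.preservesFiniteLimits
    exact fun n => inferInstance
  have hI : Injective (C := SheafOfModules X.ringCatSheaf) I := ‹Injective I›
  have h1 : CohCx.IsTotallyAcyclic ((SheafOfModules.toSheaf X.ringCatSheaf).obj I) :=
    @Groth.Agent.Lib.ModFree.totallyAcyclic_toSheaf_of_injective _ _ _ X.ringCatSheaf I hI
  have h2 := Groth.Agent.Lib.PushTot.push_totallyAcyclic (Opens.grothendieckTopology X)
    (Opens.grothendieckTopology Y) (TopologicalSpace.Opens.map f.base) _ h1
  exact Groth.Agent.Lib.ModFree.isZero_rightDerived_of_totallyAcyclic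
    (TopologicalSpace.Opens.map g.base) Y.ringCatSheaf Gm
    (SheafOfModules.toSheaf Z.ringCatSheaf) eG
    ((Scheme.Modules.pushforward f).obj I) h2 q hq

/-- quasi-coherent modules are acyclic for direct images along affine morphisms -/
theorem acyc_of_isAffineHom [HasInjectiveResolutions Y.Modules] [IsAffineHom g] (N : Y.Modules)
    [N.IsQuasicoherent] : acyc (Scheme.Modules.pushforward g) N := by
  intro q hq
  obtain ⟨k, rfl⟩ : ∃ k, q = k + 1 := ⟨q - 1, by omega⟩
  obtain ⟨e⟩ := RpushNat.nonempty_natIso g (k + 1)
  have hz := RpushVanish.isZero_RpushAb_of_isAffineHom g N k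
  have h : IsZero ((SheafOfModules.toSheaf Z.ringCatSheaf).obj ((Coh.Rpush g (k + 1)).obj N)) :=
    IsZero.of_iso hz (e.app N)
  exact Groth.Agent.Lib.ModFree.isZero_of_isZero_obj_of_faithful
    (SheafOfModules.toSheaf Z.ringCatSheaf) _ h

/-- **The second edge map of the Leray spectral sequence is an isomorphism when the second
morphism is affine** (quasi-coherent coefficients, first morphism quasi-compact
quasi-separated). -/
theorem isIso_lerayEdgeOut [QuasiCompact f] [QuasiSeparated f] [IsAffineHom g]
    [HasInjectiveResolutions X.Modules] (M : X.Modules) [M.IsQuasicoherent] (p : ℕ) :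
    IsIso (CohBC.lerayEdgeOut f g p M) := by
  haveI : HasInjectiveResolutions Y.Modules := by
    haveI := RpushQC.enoughInjectives_modules Y
    infer_instance
  haveI : IsIso (RDer.homologyComparison (Scheme.Modules.pushforward g)
      (((Scheme.Modules.pushforward f).mapHomologicalComplex _).obj
        (injectiveResolution M).cocomplex) p) := by
    apply isIso_homologyComparison
    · intro n
      exact acyc_push_injective f g ((injectiveResolution M).cocomplex.X n)
    · intro n
      haveI := RpushQC.isQuasicoherent_Rpush f M n
      exact acyc_of_iso _ ((injectiveResolution M).isoRightDerivedObj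
        (Scheme.Modules.pushforward f) n) (acyc_of_isAffineHom g _)
  have h1 : IsIso ((RDer.rightDerivedIso (Scheme.Modules.pushforwardComp f g) p).inv.app M) :=
    inferInstance
  have h2 : IsIso (RDer.edgeOut (Scheme.Modules.pushforward f) (Scheme.Modules.pushforward g)
      p M) := by
    dsimp only [RDer.edgeOut]
    have h3 : IsIso ((Scheme.Modules.pushforward g).map
        ((injectiveResolution M).isoRightDerivedObj (Scheme.Modules.pushforward f) p).inv) :=
      inferInstance
    have h4 : IsIso (((injectiveResolution M).isoRightDerivedObj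
        (Scheme.Modules.pushforward f ⋙ Scheme.Modules.pushforward g) p).hom) := inferInstance
    exact @IsIso.comp_isIso _ _ _ _ _ _ _ h4 (@IsIso.comp_isIso _ _ _ _ _ _ _ this h3)
  exact @IsIso.comp_isIso _ _ _ _ _ _ _ h1 h2

end Groth.Agent.Lib.HComp
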