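import Mathlib
import Groth.Prelude
import Groth.Agent.Lib.AcycComp_helper7
import Groth.Agent.Lib.HComp2_helper9
import Groth.Agent.Lib.ClPush2_helper8
import Groth.Agent.Lib.RpushCoh1_helper9
import Groth.Agent.Lib.CohOpen1_helper8

/-!
# Higher direct images of coherent modules with proper support (helper7)

* `nonempty_Rpush_comp_iso`: for `i` affine and `G` quasi-coherent,
  `R^q f_* (i_* G) ≅ R^q (i ≫ f)_* G`.
* `main795`: for `f` locally of finite type to a locally Noetherian base and `F` coherent with
  support proper over the base, `R^p f_* F` is coherent.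
APPEND-ONLY once landed.
-/

set_option autoImplicit false
set_option linter.style.haveILetI false
universe u

open CategoryTheory CategoryTheory.Limits AlgebraicGeometry

namespace Groth.Agent.Lib.RpushSuppH7

/-- the degenerate Leray spectral sequence for an affine morphism followed by any morphism -/
theorem nonempty_Rpush_comp_iso {Z X S : Scheme.{u}} (i : Z ⟶ X) (f : X ⟶ S) [IsAffineHom i]
    [HasInjectiveResolutions Z.Modules] [HasInjectiveResolutions X.Modules]
    (G : Z.Modules) [G.IsQuasicoherent] (q : ℕ) :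
    Nonempty ((Coh.Rpush f q).obj ((Scheme.Modules.pushforward i).obj G) ≅
      (Coh.Rpush (i ≫ f) q).obj G) := by
  obtain ⟨e⟩ := AcycCompH7.nonempty_iso (Scheme.Modules.pushforward i)
    (Scheme.Modules.pushforward f)
    (fun I hI => by
      haveI := hI
      exact HComp.acyc_push_injective i f I) q G (HComp.acyc_of_isAffineHom i G)
  exact ⟨e ≪≫ (RDer.rightDerivedIso (Scheme.Modules.pushforwardComp i f) q).app G⟩

/-- **Coherence of higher direct images of coherent modules with proper support.** -/
theorem main795 {X S : Scheme.{u}} (f : X ⟶ S) [LocallyOfFiniteType f] [IsLocallyNoetherian S]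
    [HasInjectiveResolutions X.Modules] (F : X.Modules) (hF : Coh.IsCoh F)
    (hs : ClSub.IsProperOver f (CohB1.support F)) (p : ℕ) :
    Coh.IsCoh ((Coh.Rpush f p).obj F) := by
  haveI : F.IsQuasicoherent := hF.1
  obtain ⟨Z, i, hi, hp, G, hGq, hGft, ⟨e⟩⟩ :=
    (ClPushH8.isProperOver_support_iff f F hF.2).mp hs
  haveI := hi
  haveI := hp
  haveI := hGq
  haveI : HasInjectiveResolutions Z.Modules := by
    haveI := RpushQC.enoughInjectives_modules Z
    infer_instance
  obtain ⟨e2⟩ := nonempty_Rpush_comp_iso i f G p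
  have h3 : Coh.IsCoh ((Coh.Rpush (i ≫ f) p).obj G) :=
    RpushQC.isCoh_Rpush (i ≫ f) G p ⟨hGq, hGft⟩
  have e3 : (Coh.Rpush f p).obj F ≅ (Coh.Rpush (i ≫ f) p).obj G :=
    (Coh.Rpush f p).mapIso e.symm ≪≫ e2
  haveI := h3.1
  haveI : ((Coh.Rpush f p).obj F).IsQuasicoherent := CohOpenH8.isQuasicoherent_of_iso e3
  exact ⟨inferInstance, CohOpenH8.isFiniteType_of_iso e3 h3.2⟩

end Groth.Agent.Lib.RpushSuppH7
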