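import Mathlib
import Groth.Prelude
import Groth.Agent.Lib.ProjSecEx_helper6
import Groth.Agent.Lib.RpushSupp_helper7
import Groth.Agent.Lib.RelAmpleCrit_helper9
import Groth.Agent.Lib.AmpleFin1_helper2
import Groth.Agent.Lib.Tens20_helper8
import Groth.Agent.Lib.Tens21_helper8
import Groth.Agent.Lib.Desc1_helper8
import Groth.Agent.Lib.ConeSP_lead
import Groth.Agent.Lib.CohDev2_helper8

/-!
# Direct images of high twists of an exact sequence with proper supports (helper6)

* `isZero_Rpush_twist_of_properSupport`: relative Serre vanishing `R^p f_*(K ⊗ L^n) = 0`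
  (`p > 0`, `n ≫ 0`) for `f` locally of finite type over a Noetherian base, `L` `f`-ample and `K`
  coherent with support proper over the base.
* `sections_exact_open`: `F → G → H` exact with `H¹(U, ker(F → G)|_U) = 0` ⇒ sections over `U` exact.
* `epi_of_surjective_basis`, `exact_of_basis`: light-import copies of helper4's lemmas.
* `main4465`: S4465.
APPEND-ONLY once landed.
-/

set_option autoImplicit false
set_option linter.style.haveILetI false
universe u
open CategoryTheory CategoryTheory.Limits AlgebraicGeometry TopologicalSpace Opposite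

namespace Groth.Agent.Lib.PushTwExH6

open CohB1 Groth.Agent.TensInv Groth.Agent.Lib.ProjSecExH6

/-- Relative Serre vanishing for a coherent module with support proper over the base. -/
theorem isZero_Rpush_twist_of_properSupport {X Y : Scheme.{u}} (f : X ⟶ Y) [IsNoetherian Y]
    [LocallyOfFiniteType f] [QuasiCompact f] (L : X.Modules) (hL : PicF.IsInvertible L)
    (hamp : RelAmple.IsRelAmple f L) (K : X.Modules) (hK : Coh.IsCoh K)
    (hs : ClSub.IsProperOver f (CohB1.support K)) :
    ∃ n₀ : ℕ, ∀ n : ℕ, n₀ ≤ n → ∀ p : ℕ, 0 < p →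
      IsZero ((Coh.Rpush f p).obj (CohB1.tensorMod K (CohB1.tensorPow L n))) := by
  haveI : K.IsQuasicoherent := hK.1
  obtain ⟨Z, i, hi, hp, G, hGq, hGft, ⟨e⟩⟩ := (ClPushH8.isProperOver_support_iff f K hK.2).mp hs
  haveI := hi
  haveI := hp
  haveI := hGq
  haveI : HasInjectiveResolutions Z.Modules := by
    haveI := RpushQC.enoughInjectives_modules Z
    infer_instance
  haveI : HasInjectiveResolutions X.Modules := by
    haveI := RpushQC.enoughInjectives_modules X
    infer_instance
  have hqa : Mor2.IsQuasiAffine i := ⟨inferInstance, fun V hV => by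
    haveI : IsAffine (i ⁻¹ᵁ V : Scheme.{u}) := hV.preimage i
    infer_instance⟩
  have hL' := TensH8.isInvertible_pullback i hL
  have hamp' := TensH8.isRelAmple_pullback_of_isQuasiAffine f i hqa hamp
  obtain ⟨n₀, hn₀⟩ := RelAmpleVanH9.relative_vanishing (i ≫ f) _ hL'
    (fun W hW => hamp'.2 ⟨W, hW⟩) G ⟨hGq, hGft⟩
  refine ⟨n₀, fun n hn p hp => ?_⟩
  have h1 := hn₀ n hn p hp
  have h2 : IsZero ((Coh.Rpush (i ≫ f) p).obj
      (tensorMod G (tensorPow ((Scheme.Modules.pullback i).obj L) n))) :=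
    (RelAmpleCrit.isZero_Rpush_iff (i ≫ f) p _).mpr h1
  haveI : (tensorPow ((Scheme.Modules.pullback i).obj L) n).IsQuasicoherent :=
    (ProperFinH9.isCoh_of_isInvertible (TensH8.isInvertible_tensorPow hL' n)).1
  haveI hq : (tensorMod G (tensorPow ((Scheme.Modules.pullback i).obj L) n)).IsQuasicoherent :=
    TensQCH8.isQuasicoherent_tensorMod _ _
  obtain ⟨e2⟩ := Groth.Agent.Lib.RpushSuppH7.nonempty_Rpush_comp_iso i f
    (tensorMod G (tensorPow ((Scheme.Modules.pullback i).obj L) n)) p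
  obtain ⟨ep⟩ := Groth.Agent.Lib.AmpleFinH2.pullback_tensorPow i hL n
  have e1 := (PFormH9.projIso i (tensorPow L n) (TensH8.isFinLocFree_of_isInvertible
    (TensH8.isInvertible_tensorPow hL n))).app G
  have e3 : tensorMod ((Scheme.Modules.pushforward i).obj G) (tensorPow L n) ≅
      (Scheme.Modules.pushforward i).obj
        (tensorMod G (tensorPow ((Scheme.Modules.pullback i).obj L) n)) :=
    comm _ _ ≪≫ e1 ≪≫ (Scheme.Modules.pushforward i).mapIso (mapR ep.symm G ≪≫ comm _ _)
  have e4 : tensorMod K (tensorPow L n) ≅ (Scheme.Modules.pushforward i).obj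
        (tensorMod G (tensorPow ((Scheme.Modules.pullback i).obj L) n)) :=
    mapR e.symm _ ≪≫ e3
  exact IsZero.of_iso h2 ((Coh.Rpush f p).mapIso e4 ≪≫ e2)

section Basis

variable {X : Scheme.{u}} {M₁ M₂ M₃ : X.Modules} (P : X.Opens → Prop)
  (hP : ∀ (O : X.Opens) (x : X), x ∈ O → ∃ W : X.Opens, P W ∧ x ∈ W ∧ W ≤ O)

include hP

/-- (copy of helper4's `OmegaCompat2H4.epi_of_surjective_basis`, lighter imports) -/
theorem epi_of_surjective_basis (c : M₁ ⟶ M₂)
    (h : ∀ W, P W → Function.Surjective (c.app W)) : Epi c := by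
  refine DescH8.epi_of_stk_surjective c (fun x z => ?_)
  obtain ⟨O, hxO, s, rfl⟩ := TopCat.Presheaf.exists_germ_eq M₂.presheaf z
  obtain ⟨W, hPW, hxW, hWO⟩ := hP O x hxO
  obtain ⟨t, ht⟩ := h W hPW (M₂.presheaf.map (homOfLE hWO).op s)
  refine ⟨M₁.presheaf.germ W x hxW t, ?_⟩
  rw [DescH8.stk_germ c hxW t, ht]
  exact TopCat.Presheaf.germ_res_apply M₂.presheaf (homOfLE hWO) x hxW s

/-- (copy of helper4's `ConormSeqH4.exact_of_basis`, lighter imports) -/
theorem exact_of_basis (f : M₁ ⟶ M₂) (g : M₂ ⟶ M₃) (w : f ≫ g = 0)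
    (h : ∀ W, P W → ∀ m : Γ(M₂, W), g.app W m = 0 → ∃ n : Γ(M₁, W), f.app W n = m) :
    (ShortComplex.mk f g w).Exact := by
  rw [ShortComplex.exact_iff_epi_kernel_lift]
  show Epi (kernel.lift g f w)
  refine epi_of_surjective_basis P hP (kernel.lift g f w) (fun W hW t => ?_)
  have h1 : g.app W ((kernel.ι g).app W t) = 0 := TensH8.kernel_section_mem g t
  obtain ⟨n, hn⟩ := h W hW _ h1
  refine ⟨n, QCohExact.app_injective_of_mono (kernel.ι g) W ?_⟩
  have h2 : (kernel.ι g).app W ((kernel.lift g f w).app W n) = f.app W n :=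
    Groth.Agent.Lib.ConeSP.app_congr (kernel.lift_ι g f w) W n
  exact h2.trans hn

end Basis

/-- Sections over an open `U` of an exact sequence `F → G → H` with `H¹(U, ker(F → G)|_U) = 0`
are exact. -/
theorem sections_exact_open {X : Scheme.{u}} (C : ShortComplex X.Modules) (hC : C.Exact) (U : X.Opens)
    (h1 : Subsingleton (Coh.HH (U : Scheme.{u}) ((kernel C.f).restrict U.ι) 1))
    (y : Γ(C.X₂, U)) (hy : C.g.app U y = 0) : ∃ x : Γ(C.X₁, U), C.f.app U x = y := by
  haveI : PreservesFiniteLimits (Scheme.Modules.restrictFunctor U.ι) :=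
    RpushQC.preservesFiniteLimits_restrictFunctor U
  haveI : PreservesFiniteColimits (Scheme.Modules.restrictFunctor U.ι) := inferInstance
  haveI : (Scheme.Modules.restrictFunctor U.ι).Additive := RpushQC.additive_restrictFunctor U
  have hC' : (C.map (Scheme.Modules.restrictFunctor U.ι)).Exact :=
    hC.map (Scheme.Modules.restrictFunctor U.ι)
  have e : (Scheme.Modules.restrictFunctor U.ι).obj (kernel C.f) ≅
      kernel ((Scheme.Modules.restrictFunctor U.ι).map C.f) :=
    PreservesKernel.iso (Scheme.Modules.restrictFunctor U.ι) C.f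
  have key := sections_exact_of_H1 (C.map (Scheme.Modules.restrictFunctor U.ι)) hC'
    (Groth.Agent.HHVan.subsingleton_of_iso e 1 h1)
  have key2 : ∀ W : X.Opens, W = U.ι ''ᵁ ⊤ → ∀ y : Γ(C.X₂, W), C.g.app W y = 0 →
      ∃ x : Γ(C.X₁, W), C.f.app W x = y := by
    rintro W rfl y hy
    exact key y hy
  exact key2 U (Scheme.Opens.ι_image_top U).symm y hy

/-- **S4465**. -/
theorem main4465 {X Y : Scheme.{u}} (f : X ⟶ Y)
    [IsNoetherian Y] [LocallyOfFiniteType f] [QuasiCompact f] (L : X.Modules)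
    (hL : PicF.IsInvertible L)
    (hamp : RelAmple.IsRelAmple f L) (C : ShortComplex X.Modules) (hC : C.Exact)
    (h1 : Coh.IsCoh C.X₁) (h2 : Coh.IsCoh C.X₂)
    (hs1 : ClSub.IsProperOver f (CohB1.support C.X₁)) :
    ∃ N : ℕ, ∀ n : ℕ, N ≤ n →
      (C.map (DCoh.tensorRightMod (CohB1.tensorPow L n) ⋙ Coh.push f)).Exact := by
  haveI : IsLocallyNoetherian X := LocallyOfFiniteType.isLocallyNoetherian f
  have hK : Coh.IsCoh (kernel C.f) := CohKerH8.isCoh_kernel h1 h2 C.f
  haveI := hK.1
  haveI : SheafOfModules.IsFiniteType (R := X.ringCatSheaf) (kernel C.f) := hK.2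
  have hsK : ClSub.IsProperOver f (support (kernel C.f)) :=
    ProperOver.isProperOver_of_subset f hs1 (@SupportCoh.isClosed_support X (kernel C.f) hK.1 hK.2)
      (CohDevH8.support_subset_of_mono (kernel.ι C.f))
  obtain ⟨N, hN⟩ := isZero_Rpush_twist_of_properSupport f L hL hamp _ hK hsK
  refine ⟨N, fun n hn => ?_⟩
  haveI : IsSeparated f := TensH8.isSeparated_of_isRelAmple f hamp
  haveI : HasInjectiveResolutions X.Modules := by
    haveI := RpushQC.enoughInjectives_modules X
    infer_instance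
  have hLn := TensH8.isInvertible_tensorPow hL n
  obtain ⟨K', -, hK'⟩ := Groth.Agent.InvTensP.exists_inverse (CohB1.tensorPow L n) hLn
  have hE1 : (Groth.Agent.TensInv.tR (CohB1.tensorPow L n)).IsEquivalence :=
    Groth.Agent.TensInv.isEquivalence_tR hK'
  haveI : (DCoh.tensorRightMod (CohB1.tensorPow L n)).IsEquivalence :=
    @Functor.isEquivalence_of_iso _ _ _ _ _ _
      (Groth.Agent.Lib.DTorCmp.eT (CohB1.tensorPow L n)).symm hE1
  have hCT : (C.map (DCoh.tensorRightMod (CohB1.tensorPow L n))).Exact :=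
    hC.map (DCoh.tensorRightMod (CohB1.tensorPow L n))
  have eK : (DCoh.tensorRightMod (CohB1.tensorPow L n)).obj (kernel C.f) ≅
      kernel ((DCoh.tensorRightMod (CohB1.tensorPow L n)).map C.f) :=
    PreservesKernel.iso (DCoh.tensorRightMod (CohB1.tensorPow L n)) C.f
  have hz : IsZero ((Coh.Rpush f 1).obj
      ((DCoh.tensorRightMod (CohB1.tensorPow L n)).obj (kernel C.f))) := hN n hn 1 one_pos
  haveI : (CohB1.tensorPow L n).IsQuasicoherent :=
    (ProperFinH9.isCoh_of_isInvertible hLn).1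
  haveI hq : ((DCoh.tensorRightMod (CohB1.tensorPow L n)).obj (kernel C.f)).IsQuasicoherent :=
    TensQCH8.isQuasicoherent_tensorMod (kernel C.f) (CohB1.tensorPow L n)
  refine exact_of_basis (fun V : Y.Opens => IsAffineOpen V) (fun O x hx => ?_) _ _ _
    (fun V hV m hm => ?_)
  · obtain ⟨_, ⟨V, hV : IsAffineOpen V, rfl⟩, hxV, hVO⟩ :=
      (Y.isBasis_affineOpens).exists_subset_of_mem_open hx O.isOpen
    exact ⟨V, hV, hxV, hVO⟩
  · have h5 := RelAmpleCrit.subsingleton_HH_restrict_of_isZero_Rpush f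
      ((DCoh.tensorRightMod (CohB1.tensorPow L n)).obj (kernel C.f)) 1 hz ⟨V, hV⟩
    have h6 := Groth.Agent.HHVan.subsingleton_of_iso
      ((Scheme.Modules.restrictFunctor (f ⁻¹ᵁ V).ι).mapIso eK) 1 h5
    exact sections_exact_open (C.map (DCoh.tensorRightMod (CohB1.tensorPow L n))) hCT
      (f ⁻¹ᵁ V) h6 m hm

end Groth.Agent.Lib.PushTwExH6
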