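import Mathlib
import Groth.Prelude
import Groth.Agent.Lib.PushTwEx_helper6
import Groth.Agent.Lib.ProjMorph1_helper5
import Groth.Agent.Lib.ProperFin3_helper9
import Groth.Agent.Lib.Tens29_helper8
import Groth.Agent.Lib.Tens19_helper8
import Groth.Agent.Lib.PForm3_helper9

/-!
# Twists of direct images along an affine base change (helper6)

`f : X ⟶ Y` proper, `L` `f`-ample, `g : Y' ⟶ Y` affine of finite type, `X' = X ×_Y Y'`, `G` coherent on
`X'`: for `n ≫ 0`, `R^p f_*(g'_* G ⊗ L^n) = 0` (`p > 0`) and `f^* f_*(g'_* G ⊗ L^n) → g'_* G ⊗ L^n` is epi.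

* `isRelAmple_of_isPullback`: relative ampleness is stable under base change (any pullback square).
* `isZero_RpushAb_comp_of_isAffineHom`: `R^p f'_* M = 0 ⇒ R^p (f' ≫ g)_* M = 0` for `g` affine.
* `nonempty_push_twist_iso`: `(i_* G) ⊗ L^n ≅ i_*(G ⊗ (i^*L)^n)`.
* `mem_span_of_locally`: span membership is local on an affine open (quasi-coherent module).
* `pushout_induction`: induction principle for elements of a pushout of commutative rings.
* `epi_counit_pushforward_of_isPullback`: relative global generation descends along `g'_*`.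
* `main5748`: S5748.
APPEND-ONLY once landed.
-/

set_option autoImplicit false
set_option linter.style.haveILetI false
universe u
open CategoryTheory CategoryTheory.Limits AlgebraicGeometry TopologicalSpace Opposite

namespace Groth.Agent.Lib.TwBCH6

open CohB1 Groth.Agent.TensInv QcqsLoc

/-- Relative ampleness is stable under base change, for an arbitrary pullback square. -/
theorem isRelAmple_of_isPullback {X Y X' Y' : Scheme.{u}} (f : X ⟶ Y) [QuasiCompact f]
    (g : Y' ⟶ Y) (g' : X' ⟶ X) (f' : X' ⟶ Y') (hsq : IsPullback g' f' f g) {L : X.Modules}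
    (hamp : RelAmple.IsRelAmple f L) :
    RelAmple.IsRelAmple f' ((Scheme.Modules.pullback g').obj L) := by
  have h0 := TensH8.isRelAmple_baseChange f g hamp
  have he1 : hsq.isoPullback.hom ≫ pullback.fst f g = g' := hsq.isoPullback_hom_fst
  have he2 : hsq.isoPullback.hom ≫ pullback.snd f g = f' := hsq.isoPullback_hom_snd
  have hqa : Mor2.IsQuasiAffine hsq.isoPullback.hom := ⟨inferInstance, fun V hV => by
    haveI : IsAffine (hsq.isoPullback.hom ⁻¹ᵁ V : Scheme.{u}) := hV.preimage hsq.isoPullback.hom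
    infer_instance⟩
  have h1 := TensH8.isRelAmple_pullback_of_isQuasiAffine (pullback.snd f g) hsq.isoPullback.hom
    hqa h0
  rw [he2] at h1
  have iso : (Scheme.Modules.pullback hsq.isoPullback.hom).obj
      ((Scheme.Modules.pullback (pullback.fst f g)).obj L) ≅
      (Scheme.Modules.pullback g').obj L :=
    (Scheme.Modules.pullbackComp hsq.isoPullback.hom (pullback.fst f g)).app L ≪≫
      (Scheme.Modules.pullbackCongr he1).app L
  exact (TensH8.isRelAmple_congr f' iso).mp h1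

/-- Vanishing of `R^p f'_*` implies vanishing of `R^p (f' ≫ g)_*` for `g` affine. -/
theorem isZero_RpushAb_comp_of_isAffineHom {X' Y' Y : Scheme.{u}} (f' : X' ⟶ Y') (g : Y' ⟶ Y)
    [IsAffineHom g] [QuasiCompact f'] [QuasiSeparated f'] [HasInjectiveResolutions X'.Modules]
    (M : X'.Modules) [M.IsQuasicoherent] (q : ℕ)
    (hz : IsZero ((Coh.Rpush f' (q + 1)).obj M)) :
    IsZero ((Coh.RpushAb (f' ≫ g) (q + 1)).obj (Coh.toAb M)) := by
  refine ProperFinH9.isZero_Rpush_succ_of_affine_cover (f' ≫ g) M q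
    (fun V : Y.affineOpens => V.1) (fun V => V.2) (fun y => ?_) ?_
  · obtain ⟨_, ⟨V, hV : IsAffineOpen V, rfl⟩, hyV, -⟩ :=
      (Y.isBasis_affineOpens).exists_subset_of_mem_open (Set.mem_univ y) isOpen_univ
    exact ⟨⟨V, hV⟩, hyV⟩
  · intro V
    have key : ∀ W : X'.Opens, (f' ⁻¹ᵁ (g ⁻¹ᵁ V.1)).ι.opensRange = W →
        ∀ ξ : Abelian.Ext (RpushVanish.fr (Y := X'.carrier) W) (Coh.toAb M) (q + 1), ξ = 0 := by
      rintro W rfl
      rw [OpenImmCohH9.ext_vanish_iff_restrict]
      exact RelAmpleCrit.subsingleton_HH_restrict_of_isZero_Rpush f' M (q + 1) hz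
        ⟨g ⁻¹ᵁ V.1, V.2.preimage g⟩
    exact key _ (Scheme.Opens.opensRange_ι _)

/-- Projection formula for twists: `(i_* G) ⊗ L^n ≅ i_*(G ⊗ (i^*L)^n)`. -/
theorem nonempty_push_twist_iso {X' X : Scheme.{u}} (i : X' ⟶ X) {L : X.Modules}
    (hL : PicF.IsInvertible L) (G : X'.Modules) (n : ℕ) :
    Nonempty (tensorMod ((Scheme.Modules.pushforward i).obj G) (tensorPow L n) ≅
      (Scheme.Modules.pushforward i).obj
        (tensorMod G (tensorPow ((Scheme.Modules.pullback i).obj L) n))) := by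
  obtain ⟨ep⟩ := Groth.Agent.Lib.AmpleFinH2.pullback_tensorPow i hL n
  have e1 := (PFormH9.projIso i (tensorPow L n) (TensH8.isFinLocFree_of_isInvertible
    (TensH8.isInvertible_tensorPow hL n))).app G
  exact ⟨comm _ _ ≪≫ e1 ≪≫ (Scheme.Modules.pushforward i).mapIso (mapR ep.symm G ≪≫ comm _ _)⟩

theorem vanish5748 {X Y X' Y' : Scheme.{u}} [IsNoetherian Y] (f : X ⟶ Y) [IsProper f]
    (L : X.Modules) (hL : PicF.IsInvertible L) (hamp : RelAmple.IsRelAmple f L)
    (g : Y' ⟶ Y) [IsAffineHom g] [LocallyOfFiniteType g] (g' : X' ⟶ X) (f' : X' ⟶ Y')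
    (hsq : IsPullback g' f' f g) (G : X'.Modules) (hG : Coh.IsCoh G) :
    ∃ N : ℕ, ∀ n : ℕ, N ≤ n → ∀ p : ℕ, 0 < p →
      IsZero ((Coh.RpushAb f p).obj
        (Coh.toAb (tensorMod ((Scheme.Modules.pushforward g').obj G) (tensorPow L n)))) := by
  haveI : IsProper f' := MorphismProperty.of_isPullback hsq ‹IsProper f›
  haveI : IsAffineHom g' := MorphismProperty.of_isPullback hsq.flip ‹IsAffineHom g›
  haveI : IsLocallyNoetherian Y' := LocallyOfFiniteType.isLocallyNoetherian g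
  haveI : CompactSpace Y' := QuasiCompact.compactSpace_of_compactSpace g
  haveI : IsNoetherian Y' := { toIsLocallyNoetherian := inferInstance, toCompactSpace := inferInstance }
  haveI : G.IsQuasicoherent := hG.1
  haveI : HasInjectiveResolutions X'.Modules := by
    haveI := RpushQC.enoughInjectives_modules X'
    infer_instance
  haveI : HasInjectiveResolutions X.Modules := by
    haveI := RpushQC.enoughInjectives_modules X
    infer_instance
  have hL' := TensH8.isInvertible_pullback g' hL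
  have hamp' := isRelAmple_of_isPullback f g g' f' hsq hamp
  obtain ⟨n₀, hn₀⟩ := RelAmpleVanH9.relative_vanishing f' _ hL'
    (fun W hW => hamp'.2 ⟨W, hW⟩) G hG
  refine ⟨n₀, fun n hn p hp => ?_⟩
  obtain ⟨q, rfl⟩ : ∃ q, p = q + 1 := ⟨p - 1, by omega⟩
  have h1 := hn₀ n hn (q + 1) hp
  have h2 : IsZero ((Coh.Rpush f' (q + 1)).obj
      (tensorMod G (tensorPow ((Scheme.Modules.pullback g').obj L) n))) :=
    (RelAmpleCrit.isZero_Rpush_iff f' (q + 1) _).mpr h1
  haveI : (tensorPow ((Scheme.Modules.pullback g').obj L) n).IsQuasicoherent :=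
    (ProperFinH9.isCoh_of_isInvertible (TensH8.isInvertible_tensorPow hL' n)).1
  haveI hq : (tensorMod G (tensorPow ((Scheme.Modules.pullback g').obj L) n)).IsQuasicoherent :=
    TensQCH8.isQuasicoherent_tensorMod _ _
  have h3 := isZero_RpushAb_comp_of_isAffineHom f' g
    (tensorMod G (tensorPow ((Scheme.Modules.pullback g').obj L) n)) q h2
  rw [← hsq.w] at h3
  have h4 : IsZero ((Coh.Rpush (g' ≫ f) (q + 1)).obj
      (tensorMod G (tensorPow ((Scheme.Modules.pullback g').obj L) n))) :=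
    (RelAmpleCrit.isZero_Rpush_iff (g' ≫ f) (q + 1) _).mpr h3
  obtain ⟨e2⟩ := Groth.Agent.Lib.RpushSuppH7.nonempty_Rpush_comp_iso g' f
    (tensorMod G (tensorPow ((Scheme.Modules.pullback g').obj L) n)) (q + 1)
  obtain ⟨e4⟩ := nonempty_push_twist_iso g' hL G n
  exact (RelAmpleCrit.isZero_Rpush_iff f (q + 1) _).mp
    (IsZero.of_iso h4 ((Coh.Rpush f (q + 1)).mapIso e4 ≪≫ e2))

/-- On a basic open `D(a)` of an affine open `O`: a combination of restrictions of elements of `S`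
becomes, after multiplying by a power of `a`, the restriction of a combination over `O`. -/
theorem exists_pow_smul_eq_res {X : Scheme.{u}} (F : X.Modules) [F.IsQuasicoherent] {O : X.Opens}
    (hO : IsAffineOpen O) (S : Set Γ(F, O)) (a : Γ(X, O)) (ζ : Γ(F, X.basicOpen a))
    (hζ : ζ ∈ Submodule.span Γ(X, X.basicOpen a) ((rF F (X.basicOpen_le a)) '' S)) :
    ∃ (k : ℕ) (n : Γ(F, O)), n ∈ Submodule.span Γ(X, O) S ∧
      rX (X.basicOpen_le a) a ^ k • ζ = rF F (X.basicOpen_le a) n := by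
  have hloc := (QCohCrit.locOnU_of_isQuasicoherent F hO a).isLoc
  induction hζ using Submodule.span_induction with
  | mem y hy =>
    obtain ⟨s, hs, rfl⟩ := hy
    exact ⟨0, s, Submodule.subset_span hs, by rw [pow_zero, one_smul]⟩
  | zero => exact ⟨0, 0, Submodule.zero_mem _, by rw [smul_zero, map_zero]⟩
  | add y₁ y₂ _ _ h₁ h₂ =>
    obtain ⟨k₁, n₁, hn₁, e₁⟩ := h₁
    obtain ⟨k₂, n₂, hn₂, e₂⟩ := h₂
    refine ⟨k₁ + k₂, a ^ k₂ • n₁ + a ^ k₁ • n₂,
      Submodule.add_mem _ (Submodule.smul_mem _ _ hn₁) (Submodule.smul_mem _ _ hn₂), ?_⟩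
    rw [map_add, rF_pow_smul, rF_pow_smul, ← e₁, ← e₂, smul_add, ← mul_smul, ← mul_smul,
      ← pow_add, ← pow_add, add_comm k₂ k₁]
  | smul c y _ h₁ =>
    obtain ⟨k, n, hn, e⟩ := h₁
    letI := (rX (X.basicOpen_le a)).toAlgebra
    haveI : IsLocalization.Away a Γ(X, X.basicOpen a) := hloc
    obtain ⟨⟨c', ⟨_, j, rfl⟩⟩, hc⟩ := IsLocalization.surj (Submonoid.powers a) c
    have hc' : c * rX (X.basicOpen_le a) a ^ j = rX (X.basicOpen_le a) c' := by
      simpa [RingHom.algebraMap_toAlgebra] using hc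
    refine ⟨k + j, c' • n, Submodule.smul_mem _ _ hn, ?_⟩
    rw [rF_smul, ← e, ← hc', ← mul_smul, ← mul_smul, pow_add]
    congr 1
    ring

/-- Membership in a span can be checked locally on an affine open, for a quasi-coherent module. -/
theorem mem_span_of_locally {X : Scheme.{u}} (F : X.Modules) [F.IsQuasicoherent] {O : X.Opens}
    (hO : IsAffineOpen O) (S : Set Γ(F, O)) (z : Γ(F, O))
    (h : ∀ x ∈ O, ∃ (W : X.Opens) (hW : W ≤ O), x ∈ W ∧
      rF F hW z ∈ Submodule.span Γ(X, W) ((rF F hW) '' S)) :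
    z ∈ Submodule.span Γ(X, O) S := by
  let I : Ideal Γ(X, O) :=
    { carrier := {a | a • z ∈ Submodule.span Γ(X, O) S}
      add_mem' := fun {a b} ha hb => by
        show (a + b) • z ∈ Submodule.span Γ(X, O) S
        rw [add_smul]
        exact Submodule.add_mem _ ha hb
      zero_mem' := by
        show (0 : Γ(X, O)) • z ∈ Submodule.span Γ(X, O) S
        rw [zero_smul]
        exact Submodule.zero_mem _
      smul_mem' := fun c a ha => by
        show (c • a) • z ∈ Submodule.span Γ(X, O) S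
        rw [smul_eq_mul, mul_smul]
        exact Submodule.smul_mem _ _ ha }
  have hI : Ideal.span (I : Set Γ(X, O)) = ⊤ := by
    rw [← hO.self_le_iSup_basicOpen_iff]
    intro x hx
    obtain ⟨W, hW, hxW, hz⟩ := h x hx
    obtain ⟨a, haW, hxa⟩ := hO.exists_basicOpen_le ⟨x, hxW⟩ hx
    have hz2 := TensH8.rF_mem_span F haW _ _ hz
    rw [rF_rF, Set.image_image] at hz2
    have hz3 : rF F (X.basicOpen_le a) z ∈ Submodule.span Γ(X, X.basicOpen a)
        ((rF F (X.basicOpen_le a)) '' S) := by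
      convert hz2 using 3
      exact (rF_rF F haW hW _).symm
    obtain ⟨k, n, hn, e⟩ := exists_pow_smul_eq_res F hO S a _ hz3
    have e2 : rF F (X.basicOpen_le a) (a ^ k • z - n) = 0 := by
      rw [map_sub, rF_pow_smul, e, sub_self]
    obtain ⟨m, hm⟩ := (QCohCrit.locOnU_of_isQuasicoherent F hO a).ker _ e2
    have hmem : a ^ (m + k) ∈ I := by
      show a ^ (m + k) • z ∈ Submodule.span Γ(X, O) S
      have : a ^ (m + k) • z = a ^ m • n := by
        rw [smul_sub, sub_eq_zero] at hm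
        rw [pow_add, mul_smul, hm]
      rw [this]
      exact Submodule.smul_mem _ _ hn
    refine Opens.mem_iSup.mpr ⟨⟨a ^ (m + k), hmem⟩, ?_⟩
    show x ∈ X.basicOpen (a ^ (m + k))
    by_cases h0 : m + k = 0
    · rw [h0, pow_zero, Scheme.basicOpen_of_isUnit _ isUnit_one]
      exact hx
    · rw [Scheme.basicOpen_pow _ _ (Nat.pos_of_ne_zero h0)]
      exact hxa
  rw [Ideal.span_eq] at hI
  have h1 : (1 : Γ(X, O)) ∈ I := hI ▸ Submodule.mem_top
  have h2 : (1 : Γ(X, O)) • z ∈ Submodule.span Γ(X, O) S := h1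
  rwa [one_smul] at h2

/-- In a pushout square of commutative rings, every element of the pushout is reached from the
image of `β` by sums and multiplications by elements in the image of `α`. -/
theorem pushout_induction {A R B R' : CommRingCat.{u}} {φ : A ⟶ R} {ψ : A ⟶ B} {α : R ⟶ R'}
    {β : B ⟶ R'} (hpo : IsPushout φ ψ α β) (motive : R' → Prop) (zero : motive 0)
    (base : ∀ b : B, motive (β.hom b))
    (smul : ∀ (r : R) (x : R'), motive x → motive (α.hom r * x))
    (add : ∀ x y, motive x → motive y → motive (x + y)) (x : R') : motive x := by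
  letI : Algebra A R := φ.hom.toAlgebra
  letI : Algebra A B := ψ.hom.toAlgebra
  letI : Algebra R R' := α.hom.toAlgebra
  letI : Algebra B R' := β.hom.toAlgebra
  letI : Algebra A R' := (φ ≫ α).hom.toAlgebra
  haveI : IsScalarTower A R R' := IsScalarTower.of_algebraMap_eq (fun _ => rfl)
  haveI : IsScalarTower A B R' := IsScalarTower.of_algebraMap_eq (fun a => by
    have := congrArg (fun t : A ⟶ R' => t.hom a) hpo.w
    exact this)
  have h1 : IsPushout (CommRingCat.ofHom (algebraMap A R)) (CommRingCat.ofHom (algebraMap A B))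
      (CommRingCat.ofHom (algebraMap R R')) (CommRingCat.ofHom (algebraMap B R')) := hpo
  have h2 : Algebra.IsPushout A R B R' := CommRingCat.isPushout_iff_isPushout.mp h1
  have h3 := h2.out
  refine IsBaseChange.inductionOn h3 x motive zero (fun b => base b) (fun r n hn => ?_) add
  exact smul r n hn

/-- Relative global generation descends along the affine morphism `g'` of a pullback square. -/
theorem epi_counit_pushforward_of_isPullback {X Y X' Y' : Scheme.{u}} (f : X ⟶ Y) (g : Y' ⟶ Y)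
    [IsAffineHom g] (g' : X' ⟶ X) (f' : X' ⟶ Y') (hsq : IsPullback g' f' f g)
    [QuasiCompact f'] [QuasiSeparated f'] (H : X'.Modules) [H.IsQuasicoherent]
    (hepi : Epi ((Scheme.Modules.pullbackPushforwardAdjunction f').counit.app H)) :
    Epi ((Scheme.Modules.pullbackPushforwardAdjunction f).counit.app
      ((Scheme.Modules.pushforward g').obj H)) := by
  haveI : IsAffineHom g' := MorphismProperty.of_isPullback hsq.flip ‹IsAffineHom g›
  apply TensH8.epi_counit_of_span
  intro x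
  obtain ⟨_, ⟨V, hV : IsAffineOpen V, rfl⟩, hxV, -⟩ :=
    (Y.isBasis_affineOpens).exists_subset_of_mem_open (Set.mem_univ (f x)) isOpen_univ
  refine ⟨V, hxV, fun W hW z hxW => ?_⟩
  obtain ⟨_, ⟨W', hW'aff : IsAffineOpen W', rfl⟩, hxW', hW'W⟩ :=
    (X.isBasis_affineOpens).exists_subset_of_mem_open hxW W.isOpen
  have hW'W' : W' ≤ W := hW'W
  refine ⟨W', hW'W', hxW', ?_⟩
  -- notation
  have hUaff : IsAffineOpen (g ⁻¹ᵁ V) := hV.preimage g
  have hPaff : IsAffineOpen (g' ⁻¹ᵁ W') := hW'aff.preimage g'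
  have hW'V : W' ≤ f ⁻¹ᵁ V := hW'W'.trans hW
  have hQU : g' ⁻¹ᵁ (f ⁻¹ᵁ V) ≤ f' ⁻¹ᵁ (g ⁻¹ᵁ V) := by
    intro t ht
    show g (f' t) ∈ V
    have : g (f' t) = f (g' t) := by
      rw [← Scheme.Hom.comp_apply, ← Scheme.Hom.comp_apply, hsq.w]
    rw [this]
    exact ht
  have hUQ : f' ⁻¹ᵁ (g ⁻¹ᵁ V) ≤ g' ⁻¹ᵁ (f ⁻¹ᵁ V) := by
    intro t ht
    show f (g' t) ∈ V
    have : g (f' t) = f (g' t) := by
      rw [← Scheme.Hom.comp_apply, ← Scheme.Hom.comp_apply, hsq.w]
    rw [← this]
    exact ht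
  have hPQ : g' ⁻¹ᵁ W' ≤ g' ⁻¹ᵁ (f ⁻¹ᵁ V) := PFormH9.preimage_mono g' hW'V
  have hPU : g' ⁻¹ᵁ W' ≤ f' ⁻¹ᵁ (g ⁻¹ᵁ V) := hPQ.trans hQU
  -- the section restricted
  set z' : Γ(H, g' ⁻¹ᵁ W') := rF ((Scheme.Modules.pushforward g').obj H) hW'W' z with hz'
  -- Step A + B
  have hB : z' ∈ Submodule.span Γ(X', g' ⁻¹ᵁ W')
      (Set.range (fun y : Γ(H, f' ⁻¹ᵁ (g ⁻¹ᵁ V)) => rF H hPU y)) := by
    refine mem_span_of_locally H hPaff _ z' (fun x' hx' => ?_)
    obtain ⟨W2, h2, hx'W2, hmem⟩ :=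
      TensH8.exists_mem_span_of_epi_counit f' hepi hUaff hPU z' hx'
    refine ⟨W2, h2, hx'W2, ?_⟩
    convert hmem using 2
    ext t
    constructor
    · rintro ⟨_, ⟨y, rfl⟩, rfl⟩
      exact ⟨y, (rF_rF H h2 hPU y).symm⟩
    · rintro ⟨y, rfl⟩
      exact ⟨_, ⟨y, rfl⟩, rF_rF H h2 hPU y⟩
  -- Step C
  let N' : Submodule Γ(X, W') Γ((Scheme.Modules.pushforward g').obj H, W') :=
    Submodule.span Γ(X, W') (Set.range fun y : Γ((Scheme.Modules.pushforward g').obj H, f ⁻¹ᵁ V) =>
      rF ((Scheme.Modules.pushforward g').obj H) hW'V y)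
  show rF ((Scheme.Modules.pushforward g').obj H) hW'W' z ∈ N'
  have hC1 : ∀ y : Γ(H, f' ⁻¹ᵁ (g ⁻¹ᵁ V)),
      (id (rF H hPU y) : Γ((Scheme.Modules.pushforward g').obj H, W')) ∈ N' := by
    intro y
    refine Submodule.subset_span ⟨(id (rF H hQU y) :
      Γ((Scheme.Modules.pushforward g').obj H, f ⁻¹ᵁ V)), ?_⟩
    exact rF_rF H hPQ hQU y
  have hUY : g' ⁻¹ᵁ W' = g' ⁻¹ᵁ W' ⊓ f' ⁻¹ᵁ (g ⁻¹ᵁ V) := (inf_eq_left.mpr hPU).symm
  have hpo := (isIso_pushoutSection_iff hsq (le_refl (g ⁻¹ᵁ V)) hW'V hUY).mp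
    (isIso_pushoutSection_of_isAffineOpen hsq (le_refl (g ⁻¹ᵁ V)) hW'V hUY hV hUaff hW'aff)
  have hC2 : ∀ c : Γ(X', g' ⁻¹ᵁ W'), ∀ n : Γ(H, g' ⁻¹ᵁ W'),
      (id n : Γ((Scheme.Modules.pushforward g').obj H, W')) ∈ N' →
      (id (c • n) : Γ((Scheme.Modules.pushforward g').obj H, W')) ∈ N' := by
    intro c
    refine pushout_induction hpo (fun c => ∀ n : Γ(H, g' ⁻¹ᵁ W'),
      (id n : Γ((Scheme.Modules.pushforward g').obj H, W')) ∈ N' →
      (id (c • n) : Γ((Scheme.Modules.pushforward g').obj H, W')) ∈ N') ?_ ?_ ?_ ?_ c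
    · intro n _
      rw [zero_smul]
      exact Submodule.zero_mem _
    · intro b n hn
      have hβ : ∀ m : Γ((Scheme.Modules.pushforward g').obj H, W'), m ∈ N' →
          (id ((f'.appLE (g ⁻¹ᵁ V) (g' ⁻¹ᵁ W') hPU).hom b • (id m : Γ(H, g' ⁻¹ᵁ W'))) :
            Γ((Scheme.Modules.pushforward g').obj H, W')) ∈ N' := by
        intro m hm
        induction hm using Submodule.span_induction with
        | mem t ht =>
          obtain ⟨y₂, rfl⟩ := ht
          refine Submodule.subset_span ⟨(id ((f'.appLE (g ⁻¹ᵁ V) (g' ⁻¹ᵁ (f ⁻¹ᵁ V)) hQU).hom b •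
            (id y₂ : Γ(H, g' ⁻¹ᵁ (f ⁻¹ᵁ V)))) :
              Γ((Scheme.Modules.pushforward g').obj H, f ⁻¹ᵁ V)), ?_⟩
          show rF H hPQ ((f'.appLE (g ⁻¹ᵁ V) (g' ⁻¹ᵁ (f ⁻¹ᵁ V)) hQU).hom b •
            (id y₂ : Γ(H, g' ⁻¹ᵁ (f ⁻¹ᵁ V)))) =
            (f'.appLE (g ⁻¹ᵁ V) (g' ⁻¹ᵁ W') hPU).hom b • rF H hPQ (id y₂ : Γ(H, g' ⁻¹ᵁ (f ⁻¹ᵁ V)))
          rw [rF_smul]
          congr 1
          exact congrArg (fun t : Γ(Y', g ⁻¹ᵁ V) ⟶ Γ(X', g' ⁻¹ᵁ W') => t.hom b)
            (Scheme.Hom.appLE_map f' hQU (homOfLE hPQ).op)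
        | zero =>
          show (id ((f'.appLE (g ⁻¹ᵁ V) (g' ⁻¹ᵁ W') hPU).hom b • (0 : Γ(H, g' ⁻¹ᵁ W'))) :
            Γ((Scheme.Modules.pushforward g').obj H, W')) ∈ N'
          rw [smul_zero]
          exact Submodule.zero_mem _
        | add a₁ a₂ _ _ h₁ h₂ =>
          show (id ((f'.appLE (g ⁻¹ᵁ V) (g' ⁻¹ᵁ W') hPU).hom b •
            ((id a₁ : Γ(H, g' ⁻¹ᵁ W')) + (id a₂ : Γ(H, g' ⁻¹ᵁ W')))) :
            Γ((Scheme.Modules.pushforward g').obj H, W')) ∈ N'
          rw [smul_add]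
          exact Submodule.add_mem _ h₁ h₂
        | smul r a _ h₁ =>
          show (id ((f'.appLE (g ⁻¹ᵁ V) (g' ⁻¹ᵁ W') hPU).hom b •
            ((g'.app W').hom r • (id a : Γ(H, g' ⁻¹ᵁ W')))) :
            Γ((Scheme.Modules.pushforward g').obj H, W')) ∈ N'
          rw [smul_comm]
          exact Submodule.smul_mem N' r h₁
      exact hβ n hn
    · intro r c ih n hn
      have e1 : (g'.appLE W' (g' ⁻¹ᵁ W') le_rfl) = g'.app W' := Scheme.Hom.appLE_eq_app g'
      show (id (((g'.appLE W' (g' ⁻¹ᵁ W') le_rfl).hom r * c) • n) :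
        Γ((Scheme.Modules.pushforward g').obj H, W')) ∈ N'
      rw [e1, mul_smul]
      exact Submodule.smul_mem N' r (ih n hn)
    · intro c₁ c₂ h₁ h₂ n hn
      rw [add_smul]
      exact Submodule.add_mem _ (h₁ n hn) (h₂ n hn)
  have key : ∀ m : Γ(H, g' ⁻¹ᵁ W'), m ∈ Submodule.span Γ(X', g' ⁻¹ᵁ W')
      (Set.range (fun y : Γ(H, f' ⁻¹ᵁ (g ⁻¹ᵁ V)) => rF H hPU y)) →
      (id m : Γ((Scheme.Modules.pushforward g').obj H, W')) ∈ N' := by
    intro m hm
    induction hm using Submodule.span_induction with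
    | mem t ht =>
      obtain ⟨y, rfl⟩ := ht
      exact hC1 y
    | zero => exact Submodule.zero_mem _
    | add a b _ _ ha hb => exact Submodule.add_mem _ ha hb
    | smul c a _ ha => exact hC2 c a ha
  exact key z' hB

/-- **S5748**. -/
theorem main5748 {X Y X' Y' : Scheme.{u}} [IsNoetherian Y] (f : X ⟶ Y)
    (hf : RelProj.IsProjective f) (L : X.Modules) (hL : PicF.IsInvertible L)
    (hamp : RelAmple.IsRelAmple f L) (g : Y' ⟶ Y) [IsAffineHom g] [LocallyOfFiniteType g]
    (g' : X' ⟶ X) (f' : X' ⟶ Y') (hsq : IsPullback g' f' f g) (G : X'.Modules)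
    (hG : Coh.IsCoh G) :
    ∃ N : ℕ, ∀ n : ℕ, N ≤ n →
      (∀ p : ℕ, 0 < p → IsZero ((Coh.RpushAb f p).obj (Coh.toAb
        (tensorMod ((Coh.push g').obj G) (tensorPow L n))))) ∧
      Epi ((Scheme.Modules.pullbackPushforwardAdjunction f).counit.app
        (tensorMod ((Coh.push g').obj G) (tensorPow L n))) := by
  haveI : IsProper f := (Groth.Agent.ProjMorph.quasiProjective_and_proper f hf).2
  obtain ⟨N1, hN1⟩ := vanish5748 f L hL hamp g g' f' hsq G hG
  haveI : IsProper f' := MorphismProperty.of_isPullback hsq ‹IsProper f›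
  haveI : IsLocallyNoetherian Y' := LocallyOfFiniteType.isLocallyNoetherian g
  haveI : CompactSpace Y' := QuasiCompact.compactSpace_of_compactSpace g
  haveI : IsLocallyNoetherian X' := LocallyOfFiniteType.isLocallyNoetherian f'
  haveI : CompactSpace X' := QuasiCompact.compactSpace_of_compactSpace f'
  haveI : IsNoetherian X' :=
    { toIsLocallyNoetherian := inferInstance, toCompactSpace := inferInstance }
  haveI : QuasiSeparatedSpace X' := inferInstance
  haveI : G.IsQuasicoherent := hG.1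
  have hL' := TensH8.isInvertible_pullback g' hL
  have hamp' := isRelAmple_of_isPullback f g g' f' hsq hamp
  obtain ⟨N2, hN2⟩ := TensH8.exists_epi_counit_twist f' hL' hamp' G hG
  refine ⟨max N1 N2, fun n hn => ⟨hN1 n (le_trans (le_max_left _ _) hn), ?_⟩⟩
  have h1 := hN2 n (le_trans (le_max_right _ _) hn)
  haveI : (tensorPow ((Scheme.Modules.pullback g').obj L) n).IsQuasicoherent :=
    (ProperFinH9.isCoh_of_isInvertible (TensH8.isInvertible_tensorPow hL' n)).1
  haveI hq : (tensorMod G (tensorPow ((Scheme.Modules.pullback g').obj L) n)).IsQuasicoherent :=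
    TensQCH8.isQuasicoherent_tensorMod _ _
  haveI h2 := epi_counit_pushforward_of_isPullback f g g' f' hsq
    (tensorMod G (tensorPow ((Scheme.Modules.pullback g').obj L) n)) h1
  obtain ⟨e4⟩ := nonempty_push_twist_iso g' hL G n
  have nat := (Scheme.Modules.pullbackPushforwardAdjunction f).counit.naturality e4.hom
  have h3 : (Scheme.Modules.pullbackPushforwardAdjunction f).counit.app
      (tensorMod ((Coh.push g').obj G) (tensorPow L n)) =
      (Scheme.Modules.pushforward f ⋙ Scheme.Modules.pullback f).map e4.hom ≫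
        ((Scheme.Modules.pullbackPushforwardAdjunction f).counit.app
          ((Scheme.Modules.pushforward g').obj
            (tensorMod G (tensorPow ((Scheme.Modules.pullback g').obj L) n)))) ≫ e4.inv := by
    rw [← Category.assoc, nat, Category.assoc]
    simp
  rw [h3]
  infer_instance

end Groth.Agent.Lib.TwBCH6
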