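import Mathlib
import Groth.Prelude
import Groth.Agent.Lib.AmpleDesc_helper6
import Groth.Agent.Lib.TwBC_helper6

/-!
# Relative ampleness descends along fpqc base change (helper6)
APPEND-ONLY once landed.
-/

set_option autoImplicit false
set_option linter.all false
universe u
open CategoryTheory CategoryTheory.Limits AlgebraicGeometry TopologicalSpace Opposite

namespace Groth.Agent.Lib.AmpleDescH6

open QcqsLoc GenLocH8 TensH8 FLFH8 QCohExtn PBH8

set_option backward.isDefEq.respectTransparency false in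
/-- **Relative ampleness descends along quasi-compact flat surjective base change.** -/
theorem isRelAmple_of_isRelAmple_pullback {X S S' : Scheme.{u}} (f : X ⟶ S) {L : X.Modules}
    (hL : PicF.IsInvertible L) (g : S' ⟶ S) [QuasiCompact g] [Flat g] [Surjective g]
    (h : RelAmple.IsRelAmple (pullback.snd f g) ((Scheme.Modules.pullback (pullback.fst f g)).obj L)) :
    RelAmple.IsRelAmple f L := by
  haveI := Groth.Agent.Lib.SchDescent_helper6.descendsAlong_quasiCompact.{u}
  haveI hqcf' : QuasiCompact (pullback.snd f g) := h.1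
  have hqc : QuasiCompact f :=
    MorphismProperty.of_pullback_snd_of_descendsAlong (P := @QuasiCompact)
      (Q := (@Surjective ⊓ @Flat ⊓ @QuasiCompact : MorphismProperty Scheme.{u})) (f := f) (g := g)
      ⟨⟨inferInstance, inferInstance⟩, inferInstance⟩ h.1
  refine ⟨hqc, fun V => ?_⟩
  -- an affine flat cover of the preimage of `V`
  haveI : CompactSpace (g ⁻¹ᵁ V.1 : Scheme.{u}) :=
    isCompact_iff_compactSpace.mp (QuasiCompact.isCompact_preimage (f := g) _ V.1.2 V.2.isCompact)
  obtain ⟨Y', p, hps, hpf, hY'⟩ :=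
    Scheme.exists_hom_isAffine_of_isZariskiLocalAtSource @Flat (g ⁻¹ᵁ V.1 : Scheme.{u})
  haveI := hps
  haveI := hpf
  haveI := hY'
  haveI : IsAffine (V.1 : Scheme.{u}) := V.2
  let c : Y' ⟶ (V.1 : Scheme.{u}) := p ≫ (g ∣_ V.1)
  let q : Y' ⟶ S' := p ≫ (g ⁻¹ᵁ V.1).ι
  have hqc' : q ≫ g = c ≫ V.1.ι := by
    simp only [q, c, Category.assoc, morphismRestrict_ι]
  haveI : Flat c := inferInstance
  haveI : Surjective (g ∣_ V.1) := IsZariskiLocalAtTarget.restrict ‹Surjective g› V.1
  haveI : Surjective c := inferInstance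
  -- the base change to `Y'`
  have hL' : PicF.IsInvertible ((Scheme.Modules.pullback (pullback.fst f g)).obj L) :=
    isInvertible_pullback _ hL
  have hsq1 := IsPullback.of_hasPullback (pullback.snd f g) q
  have hM := Groth.Agent.Lib.TwBCH6.isRelAmple_of_isPullback (pullback.snd f g) q
    (pullback.fst (pullback.snd f g) q) (pullback.snd (pullback.snd f g) q) hsq1 h
  have hMi : PicF.IsInvertible ((Scheme.Modules.pullback (pullback.fst (pullback.snd f g) q)).obj
      ((Scheme.Modules.pullback (pullback.fst f g)).obj L)) := isInvertible_pullback _ hL'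
  have hMa : CohB1.IsAmple ((Scheme.Modules.pullback (pullback.fst (pullback.snd f g) q)).obj
      ((Scheme.Modules.pullback (pullback.fst f g)).obj L)) := by
    have h1 := ((isRelAmple_iff _ hMi).mp hM).2 ⟨⊤, isAffineOpen_top Y'⟩
    exact (isAmple_iff_isAmpleOn_top hMi).mpr h1
  -- the map to `f⁻¹ V`
  set a := pullback.fst (pullback.snd f g) q with ha
  set f' := pullback.snd (pullback.snd f g) q with hf'
  have hrange : Set.range (a ≫ pullback.fst f g) ⊆ Set.range (f ⁻¹ᵁ V.1).ι := by
    rintro _ ⟨z, rfl⟩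
    rw [Scheme.Opens.range_ι]
    show f ((a ≫ pullback.fst f g) z) ∈ V.1
    rw [← Scheme.Hom.comp_apply, Category.assoc, pullback.condition, ← Category.assoc,
      pullback.condition, Category.assoc, hqc', Scheme.Hom.comp_apply, Scheme.Hom.comp_apply]
    exact (c (f' z)).2
  let g' : pullback (pullback.snd f g) q ⟶ (f ⁻¹ᵁ V.1 : Scheme.{u}) :=
    IsOpenImmersion.lift (f ⁻¹ᵁ V.1).ι (a ≫ pullback.fst f g) hrange
  have hg' : g' ≫ (f ⁻¹ᵁ V.1).ι = a ≫ pullback.fst f g := IsOpenImmersion.lift_fac _ _ _
  have hcomm : g' ≫ (f ∣_ V.1) = f' ≫ c := by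
    rw [← cancel_mono V.1.ι, Category.assoc, morphismRestrict_ι, ← Category.assoc, hg',
      Category.assoc, Category.assoc, ← hqc', pullback.condition, ← Category.assoc,
      pullback.condition, Category.assoc]
  have hsq2 : IsPullback g' f' (f ∣_ V.1) c := by
    refine IsPullback.of_right ?_ hcomm (isPullback_morphismRestrict f V.1).flip
    rw [hg', ← hqc']
    exact hsq1.paste_horiz (IsPullback.of_hasPullback f g)
  -- compare the modules
  have iso : (Scheme.Modules.pullback g').obj (L.restrict (f ⁻¹ᵁ V.1).ι) ≅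
      (Scheme.Modules.pullback a).obj ((Scheme.Modules.pullback (pullback.fst f g)).obj L) :=
    (Scheme.Modules.pullback g').mapIso
        ((Scheme.Modules.restrictFunctorIsoPullback (f ⁻¹ᵁ V.1).ι).app L) ≪≫
      (Scheme.Modules.pullbackComp g' (f ⁻¹ᵁ V.1).ι).app L ≪≫
      (Scheme.Modules.pullbackCongr hg').app L ≪≫
      ((Scheme.Modules.pullbackComp a (pullback.fst f g)).app L).symm
  haveI : CompactSpace (f ⁻¹ᵁ V.1 : Scheme.{u}) :=
    isCompact_iff_compactSpace.mp (QuasiCompact.isCompact_preimage (f := f) _ V.1.2 V.2.isCompact)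
  exact isAmple_of_isAmple_pullback_affine (f ∣_ V.1) c g' f' hsq2
    (isInvertible_restrict _ hL) ((isAmple_congr iso).mpr hMa)

end Groth.Agent.Lib.AmpleDescH6
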