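import Mathlib
import Groth.Prelude
import Groth.Agent.Lib.Tens28_helper8
import Groth.Agent.Lib.Tens11_helper8
import Groth.Agent.Lib.Tens9_helper8
import Groth.Agent.Lib.GG3_helper8
import Groth.Agent.Lib.OofD_helper6

/-!
# Ample families from effective Cartier divisors with ample complements (helper6)

* `exists_section_of_locus`: on a qcqs scheme, if `s` is a section of an invertible `K` and `σ` a
  section of `L^m` over `X_s` with generating locus `O ⊆ X_s`, then `O = X_t` for a global section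
  `t` of an invertible module (`L^m ⊗ K^N ⊗ K`).
* `quasiSeparatedSpace_of_cover`, `main`: S1500.
APPEND-ONLY once landed.
-/

set_option autoImplicit false
set_option linter.all false
set_option maxHeartbeats 1600000
set_option backward.isDefEq.respectTransparency false
set_option backward.isDefEq.respectTransparency.types false
set_option backward.defeqAttrib.useBackward true

universe u
open CategoryTheory CategoryTheory.Limits AlgebraicGeometry TopologicalSpace Opposite TensorProduct
open QcqsLoc MonoidalCategory GenLocH8 FLFH8 QCohExtn TensH8 SerreCrit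

namespace Groth.Agent.Lib.AmpleFam

variable {X : Scheme.{u}}

/-- A section `σ` of `L^m` over `X_s` (`s` a section of an invertible `K`) whose generating locus is
`O ⊆ X_s`: on a quasi-compact quasi-separated scheme, `O = X_t` for a global section `t` of some
invertible module. -/
theorem exists_section_of_locus [CompactSpace X] [QuasiSeparatedSpace X] {L K : X.Modules}
    (hL : PicF.IsInvertible L) (hK : PicF.IsInvertible K) (s : Coh.structureModule X ⟶ K) {m : ℕ}
    (V : X.Opens) (hV : CohB1.genLocus K s = V)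
    (σ : Γ(CohB1.tensorPow L m, V)) (O : X.Opens) (hO : O ≤ V)
    (hloc : HasLocus (Frame.pow L m) σ O) :
    ∃ (M : X.Modules) (t : Coh.structureModule X ⟶ M), PicF.IsInvertible M ∧
      CohB1.genLocus M t = O := by
  subst hV
  have hFi : PicF.IsInvertible (CohB1.tensorPow L m) := isInvertible_tensorPow hL m
  haveI : (CohB1.tensorPow L m).IsQuasicoherent := isQuasicoherent_of_isInvertible hFi
  have hctop : IsCompact ((⊤ : X.Opens) : Set X) := by simpa using isCompact_univ (X := X)
  have hlocs : HasLocus (Frame.self K) (SecTwist.val s ⊤) (CohB1.genLocus K s) := by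
    have := hasLocus_val (Frame.self K) s ⊤
    rwa [inf_top_eq] at this
  obtain ⟨N0, hN0⟩ := TFrame.exists_extend hK (CohB1.tensorPow L m) (Frame.self K) hctop
    (SecTwist.val s ⊤) le_top hlocs σ
  obtain ⟨y, hy⟩ := hN0 N0 le_rfl
    ((TFrame.tensor (Frame.pow K N0) (CohB1.tensorPow L m)).cast (one_mul N0).symm)
  have hTi : PicF.IsInvertible (CohB1.tensorMod (CohB1.tensorPow L m) (CohB1.tensorPow K N0)) := isInvertible_tensorMod hFi (isInvertible_tensorPow hK N0)
  obtain ⟨t, ht⟩ := Frame₂.exists_hom_genLocus_inf hTi hK (Frame.self (CohB1.tensorMod (CohB1.tensorPow L m) (CohB1.tensorPow K N0))) (homOfSec (CohB1.tensorMod (CohB1.tensorPow L m) (CohB1.tensorPow K N0)) y)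
    (Frame.self K) s (p := 1) (q := 1) one_pos one_pos
    (Frame₂.tmul (Frame.self (CohB1.tensorMod (CohB1.tensorPow L m) (CohB1.tensorPow K N0))) (Frame.self K)) rfl rfl
  refine ⟨CohB1.tensorMod (CohB1.tensorMod (CohB1.tensorPow L m) (CohB1.tensorPow K N0)) K, t, isInvertible_tensorMod hTi hK, ?_⟩
  rw [ht]
  -- local comparison on `X_s`
  have key : ∀ x ∈ CohB1.genLocus K s, ∃ W : X.Opens, x ∈ W ∧
      CohB1.genLocus (CohB1.tensorMod (CohB1.tensorPow L m) (CohB1.tensorPow K N0)) (homOfSec (CohB1.tensorMod (CohB1.tensorPow L m) (CohB1.tensorPow K N0)) y) ⊓ W = O ⊓ W := by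
    intro x hx
    obtain ⟨W₀, hxW₀, e₀, l₀, he₀, hl₀⟩ := exists_isGen₂ hK hL x
    set W := W₀ ⊓ CohB1.genLocus K s with hW
    have hWW₀ : W ≤ W₀ := inf_le_left
    have hWV : W ≤ CohB1.genLocus K s := inf_le_right
    have he := he₀.res hWW₀
    have hl := hl₀.res hWW₀
    refine ⟨W, ⟨hxW₀, hx⟩, ?_⟩
    have h1 := hy W hWV _ he
    have hc : IsUnit ((Frame.self K).coefOf (SecTwist.val s ⊤) W (hWV.trans le_top) _ he) := by
      apply isUnit_of_basicOpen_eq
      rw [← hlocs W (hWV.trans le_top) _ he]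
      exact inf_eq_right.mpr hWV
    set c := (Frame.self K).coefOf (SecTwist.val s ⊤) W (hWV.trans le_top) _ he with hcdef
    have ha := (Frame.pow L m).coefOf_spec σ W hWV _ hl
    set a := (Frame.pow L m).coefOf σ W hWV _ hl with hadef
    have hOW : O ⊓ W = X.basicOpen a := hloc W hWV _ hl
    have h2 : rF (CohB1.tensorMod (CohB1.tensorPow L m) (CohB1.tensorPow K N0)) (hWV.trans le_top) y =
        (c ^ N0 * a) • SecTwist.tmul (CohB1.tensorPow L m) (CohB1.tensorPow K N0) W ((Frame.pow L m).φ W (rF L hWW₀ l₀))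
          ((Frame.pow K N0).φ W (rF K hWW₀ e₀)) := by
      rw [h1, ha]
      show SecTwist.tmul (CohB1.tensorPow L m) (CohB1.tensorPow K N0) W _ _ = _
      rw [← mul_smul, tmul_smul_left]
    have hgen : IsGen (CohB1.tensorMod (CohB1.tensorPow L m) (CohB1.tensorPow K N0)) W (SecTwist.tmul (CohB1.tensorPow L m) (CohB1.tensorPow K N0) W
        ((Frame.pow L m).φ W (rF L hWW₀ l₀)) ((Frame.pow K N0).φ W (rF K hWW₀ e₀))) :=
      isGen_tmul ((Frame.pow L m).isGen hl) ((Frame.pow K N0).isGen he)
    have h3 := genLocus_inf_eq (homOfSec (CohB1.tensorMod (CohB1.tensorPow L m) (CohB1.tensorPow K N0)) y) hgen (c ^ N0 * a) (by rw [val_homOfSec]; exact h2)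
    rw [h3, hOW, Scheme.basicOpen_mul, Scheme.basicOpen_of_isUnit _ (hc.pow N0)]
    exact inf_eq_right.mpr (X.basicOpen_le a)
  ext x
  constructor
  · rintro ⟨hx1, hx2⟩
    obtain ⟨W, hxW, hW⟩ := key x hx2
    have : x ∈ CohB1.genLocus (CohB1.tensorMod (CohB1.tensorPow L m) (CohB1.tensorPow K N0)) (homOfSec (CohB1.tensorMod (CohB1.tensorPow L m) (CohB1.tensorPow K N0)) y) ⊓ W := ⟨hx1, hxW⟩
    rw [hW] at this
    exact this.1
  · intro hx
    have hx2 := hO hx
    obtain ⟨W, hxW, hW⟩ := key x hx2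
    have : x ∈ O ⊓ W := ⟨hx, hxW⟩
    rw [← hW] at this
    exact ⟨this.1, hx2⟩

/-- A scheme covered by finitely many quasi-separated opens `V i` meeting every affine open in a
quasi-compact open is quasi-separated. -/
theorem quasiSeparatedSpace_of_cover {m : ℕ} (V : Fin m → X.Opens)
    (hcov : ∀ x : X, ∃ i, x ∈ V i) (hqs : ∀ i, IsQuasiSeparated (V i : Set X))
    (haff : ∀ i (A : X.Opens), IsAffineOpen A → IsCompact ((V i ⊓ A : X.Opens) : Set X)) :
    QuasiSeparatedSpace X := by
  rw [quasiSeparatedSpace_iff_forall_affineOpens]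
  intro A B
  have h1 : ((A : X.Opens) : Set X) ∩ ((B : X.Opens) : Set X) =
      ⋃ i, (((V i ⊓ A.1 : X.Opens) : Set X) ∩ ((V i ⊓ B.1 : X.Opens) : Set X)) := by
    ext x
    simp only [Set.mem_inter_iff, Set.mem_iUnion, SetLike.mem_coe, Opens.mem_inf]
    constructor
    · rintro ⟨hA, hB⟩
      obtain ⟨i, hi⟩ := hcov x
      exact ⟨i, ⟨hi, hA⟩, ⟨hi, hB⟩⟩
    · rintro ⟨i, ⟨-, hA⟩, ⟨-, hB⟩⟩
      exact ⟨hA, hB⟩
  rw [h1]
  apply isCompact_iUnion
  intro i
  exact hqs i _ _ (fun x hx => hx.1) (V i ⊓ A.1).isOpen (haff i A.1 A.2)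
    (fun x hx => hx.1) (V i ⊓ B.1).isOpen (haff i B.1 B.2)

/-- **S1500**. -/
theorem main {X : Scheme.{u}} {m : ℕ} (D : Fin m → X.IdealSheafData)
    (hD : ∀ i, BlowUp.IsEffCartierIdeal (D i)) (hcap : ⋂ i, ((D i).support : Set ↑X) = ∅)
    (L : Fin m → X.Modules) (hL : ∀ i, PicF.IsInvertible (L i))
    (hamp : ∀ i, CohB1.IsAmple ((L i).restrict (Scheme.Opens.ι (D i).support.compl))) :
    MoreMor.HasAmpleFamily X := by
  have hcov : ∀ x : X, ∃ i, x ∈ (D i).support.compl := by
    intro x
    by_contra h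
    push_neg at h
    have : x ∈ ⋂ i, ((D i).support : Set ↑X) := by
      rw [Set.mem_iInter]
      intro i
      by_contra hx
      exact h i hx
    rw [hcap] at this
    exact this
  have hAO : ∀ i, IsAmpleOn (L i) (D i).support.compl := fun i =>
    (isAmple_restrict_ι_iff (hL i) _).1 (hamp i)
  haveI : CompactSpace X := by
    refine ⟨?_⟩
    have : (Set.univ : Set X) = ⋃ i, (((D i).support.compl : X.Opens) : Set X) := by
      ext x
      simp only [Set.mem_univ, Set.mem_iUnion, true_iff]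
      exact hcov x
    rw [this]
    exact isCompact_iUnion (fun i => (hAO i).1)
  have hKs : ∀ i, ∃ (K : X.Modules) (s : Coh.structureModule X ⟶ K), PicF.IsInvertible K ∧
      CohB1.genLocus K s = (D i).support.compl := by
    intro i
    obtain ⟨K, s, hK, hs⟩ := Groth.Agent.Lib.OofD.exists_invertible_section (D i) (hD i)
    exact ⟨K, s, hK, SetLike.coe_injective hs⟩
  choose K s hK hs using hKs
  haveI : QuasiSeparatedSpace X := by
    apply quasiSeparatedSpace_of_cover (fun i => (D i).support.compl) hcov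
    · intro i
      rw [isQuasiSeparated_iff_quasiSeparatedSpace _ ((D i).support.compl).isOpen]
      obtain ⟨hinv, -, h⟩ := hamp i
      exact quasiSeparatedSpace_of_affine_genLocus hinv h
    · intro i A hA
      rw [← hs i]
      exact (GGH8.isAffineOpen_inf_genLocus (hK i) (s i) hA).isCompact
  refine ⟨inferInstance, fun x => ?_⟩
  obtain ⟨i, hxi⟩ := hcov x
  obtain ⟨n, σ, O, hOaff, hxO, hOV, hloc⟩ := (hAO i).2 x hxi
  obtain ⟨M, t, hM, ht⟩ := exists_section_of_locus (hL i) (hK i) (s i) _ (hs i) σ O hOV hloc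
  refine ⟨M, 1, t ≫ (Groth.Agent.Lib.OofD.powOneIso M).symm.hom, hM, le_rfl, ?_, ?_⟩
  · rw [Groth.Agent.Lib.OofD.genLocus_comp_iso, ht]; exact hxO
  · rw [Groth.Agent.Lib.OofD.genLocus_comp_iso, ht]; exact hOaff

end Groth.Agent.Lib.AmpleFam
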