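import Mathlib
import Groth.Prelude
import Groth.Agent.Lib.Tens29_helper8
import Groth.Agent.Lib.Tens36_helper8
import Groth.Agent.Lib.Tens45_helper8
import Groth.Agent.Lib.TensQC3_helper8
import Groth.Agent.Lib.FLF7_helper8
import Groth.Agent.Lib.QCohFT_helper9
import Groth.Agent.Lib.SubExt_helper9
import Groth.Agent.Lib.QCohExact_helper9
import Groth.Agent.Lib.FLF8_helper8

/-!
# Ample invertible modules and K₀ of vector bundles, I: geometry (helper6)

Light-import copies of lead's `ResProp_lead` (`SpansNear`, `exists_finset_spans`,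
`epi_desc_of_spans`, `isFinLocFree_tensorMod_of_isInvertible`) and `PerfFlat3_lead`
(`isFinLocFree_of_shortExact`), plus:
* `exists_epi_freeMod_twist`: for `L` ample and `F` finite locally free, `F ⊗ L^n` is a quotient of
  `O^N` (with `N` as large as we like) for all large `n`;
* `exists_rank_of_connected`: on a connected scheme finite locally free modules have constant rank.
APPEND-ONLY once landed.
-/

set_option autoImplicit false
set_option linter.all false
set_option maxHeartbeats 1600000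
set_option backward.isDefEq.respectTransparency false
set_option backward.isDefEq.respectTransparency.types false
set_option backward.defeqAttrib.useBackward true

universe u

noncomputable section

namespace Groth.Agent.Lib.AmpleK

open CategoryTheory CategoryTheory.Limits AlgebraicGeometry TopologicalSpace Opposite
open QcqsLoc QCohExtn TensH8 FLFH8

variable {X : Scheme.{u}}

/-- restriction of global sections to `W`. -/
abbrev gres (T : X.Modules) (W : X.Opens) : Γ(T, ⊤) → Γ(T, W) :=
  fun y => rF T (le_top : W ≤ ⊤) y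

theorem exists_le_all_finset {ι : Type*} (s : Finset ι) (U : ι → X.Opens) (x : X)
    (hx : ∀ i ∈ s, x ∈ U i) : ∃ V : X.Opens, x ∈ V ∧ ∀ i ∈ s, V ≤ U i := by
  classical
  induction s using Finset.induction_on with
  | empty => exact ⟨⊤, trivial, fun i hi => by simp at hi⟩
  | insert a s ha ih =>
    obtain ⟨V, hxV, hV⟩ := ih (fun i hi => hx i (Finset.mem_insert_of_mem hi))
    refine ⟨V ⊓ U a, ⟨hxV, hx a (Finset.mem_insert_self a s)⟩, fun i hi => ?_⟩
    rcases Finset.mem_insert.mp hi with rfl | hi'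
    · exact inf_le_right
    · exact inf_le_left.trans (hV i hi')

/-- Near points of `V`, every local section of `T` is locally a combination of the global
sections in `Y`. -/
def SpansNear (T : X.Modules) (V : X.Opens) (Y : Set Γ(T, ⊤)) : Prop :=
  ∀ (W : X.Opens) (z : Γ(T, W)) (y : X), y ∈ W → y ∈ V →
    ∃ (W' : X.Opens) (h' : W' ≤ W), y ∈ W' ∧
      rF T h' z ∈ Submodule.span Γ(X, W') (gres T W' '' Y)

theorem exists_spansNear (T : X.Modules) [T.IsQuasicoherent]
    [SheafOfModules.IsFiniteType (R := X.ringCatSheaf) T]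
    (h : SpansNear T ⊤ Set.univ) (x : X) :
    ∃ (V : X.Opens) (Y : Finset Γ(T, ⊤)), x ∈ V ∧ SpansNear T V (Y : Set Γ(T, ⊤)) := by
  classical
  obtain ⟨_, ⟨O, hO : IsAffineOpen O, rfl⟩, hxO, -⟩ :=
    (X.isBasis_affineOpens).exists_subset_of_mem_open (Set.mem_univ x) isOpen_univ
  haveI := QCohFT.finite_of_isFiniteType T hO
  obtain ⟨G, hG⟩ := (Module.Finite.fg_top (R := Γ(X, O)) (M := Γ(T, O)))
  have key : ∀ g : Γ(T, O), ∃ (Wg : X.Opens) (hg : Wg ≤ O) (Yg : Finset Γ(T, ⊤)), x ∈ Wg ∧
      rF T hg g ∈ Submodule.span Γ(X, Wg) (gres T Wg '' (Yg : Set Γ(T, ⊤))) := by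
    intro g
    obtain ⟨Wg, hg, hxWg, hmem⟩ := h O g x hxO trivial
    obtain ⟨S, hS, hmemS⟩ := Submodule.mem_span_finite_of_mem_span hmem
    obtain ⟨Yg, -, hYg⟩ := Finset.subset_set_image_iff.mp hS
    refine ⟨Wg, hg, Yg, hxWg, ?_⟩
    rw [← Finset.coe_image, hYg]
    exact hmemS
  choose Wg hWgO Yg hxWg hmemg using key
  obtain ⟨V0, hxV0, hV0⟩ := exists_le_all_finset G Wg x (fun g _ => hxWg g)
  refine ⟨V0 ⊓ O, G.biUnion Yg, ⟨hxV0, hxO⟩, ?_⟩
  intro W z y hyW hyV
  have hyO : y ∈ O := hyV.2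
  obtain ⟨a, ha1, ha2⟩ := hO.exists_basicOpen_le (V := W ⊓ V0) ⟨y, ⟨hyW, hyV.1⟩⟩ hyO
  have hle : X.basicOpen a ≤ W := ha1.trans inf_le_left
  refine ⟨X.basicOpen a, hle, ha2, ?_⟩
  have h1 := mem_span_res_of_affine T hO (G : Set Γ(T, O)) hG a (rF T hle z)
  refine (Submodule.span_le.mpr ?_) h1
  rintro _ ⟨g, hgG, rfl⟩
  have hleg : X.basicOpen a ≤ Wg g := (ha1.trans inf_le_right).trans (hV0 g hgG)
  have h2 := rF_mem_span T hleg _ _ (hmemg g)
  rw [rF_rF] at h2
  refine (Submodule.span_mono ?_) h2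
  rintro _ ⟨_, ⟨y0, hy0, rfl⟩, rfl⟩
  exact ⟨y0, Finset.mem_coe.mpr (Finset.mem_biUnion.mpr ⟨g, hgG, hy0⟩),
    (rF_rF T hleg le_top y0).symm⟩

theorem exists_finset_spans [CompactSpace X] (T : X.Modules) [T.IsQuasicoherent]
    [SheafOfModules.IsFiniteType (R := X.ringCatSheaf) T]
    (h : SpansNear T ⊤ Set.univ) :
    ∃ Y : Finset Γ(T, ⊤), SpansNear T ⊤ (Y : Set Γ(T, ⊤)) := by
  classical
  choose V Y hxV hVY using exists_spansNear T h
  obtain ⟨Tf, hTf⟩ := isCompact_univ.elim_finite_subcover (fun x : X => ((V x : X.Opens) : Set X))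
    (fun x => (V x).isOpen) (fun y _ => Set.mem_iUnion.mpr ⟨y, hxV y⟩)
  refine ⟨Tf.biUnion Y, fun W z y hyW _ => ?_⟩
  obtain ⟨x, hxTf, hyx⟩ := Set.mem_iUnion₂.mp (hTf (Set.mem_univ y))
  obtain ⟨W', h', hyW', hmem⟩ := hVY x W z y hyW hyx
  refine ⟨W', h', hyW', Submodule.span_mono (Set.image_mono ?_) hmem⟩
  intro y0 hy0
  exact Finset.mem_coe.mpr (Finset.mem_biUnion.mpr ⟨x, hxTf, hy0⟩)

theorem epi_desc_of_spans (T : X.Modules) {N : ℕ} (y : Fin N → Γ(T, ⊤))
    (h : SpansNear T ⊤ (Set.range y)) :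
    Epi (Sigma.desc (fun j => homOfSec T (y j)) : FlatMod.freeMod X N ⟶ T) := by
  apply epi_of_locally_surjective
  intro U m x hx
  obtain ⟨W', h', hxW', hmem⟩ := h U m x hx trivial
  refine ⟨W', h', hxW', ?_⟩
  let lin : Γ(FlatMod.freeMod X N, W') →ₗ[Γ(X, W')] Γ(T, W') :=
    { toFun := ap (Sigma.desc (fun j => homOfSec T (y j)) : FlatMod.freeMod X N ⟶ T) W'
      map_add' := map_add _
      map_smul' := fun r z => ap_smul _ r z }
  have hle : Submodule.span Γ(X, W') (gres T W' '' Set.range y) ≤ LinearMap.range lin := by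
    rw [Submodule.span_le]
    rintro _ ⟨_, ⟨j, rfl⟩, rfl⟩
    refine ⟨ap (Sigma.ι (fun _ : Fin N => Coh.structureModule X) j) W' (toM 1), ?_⟩
    show ap (Sigma.desc (fun j => homOfSec T (y j)) : FlatMod.freeMod X N ⟶ T) W'
      (ap (Sigma.ι (fun _ : Fin N => Coh.structureModule X) j) W' (toM 1)) = gres T W' (y j)
    rw [← ap_comp', Sigma.ι_desc, ← val_eq_ap, val_homOfSec]
  obtain ⟨z, hz⟩ := hle hmem
  exact ⟨z, hz⟩

/-- A finite locally free module is quasi-coherent of finite type. -/
theorem isCoh_of_finLocFree' {M : X.Modules} (hM : FlatMod.IsFinLocFree M) : Coh.IsCoh M := by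
  haveI := isQuasicoherent_of_finLocFree M hM
  haveI := isFinitePresentation_of_finLocFree M hM
  exact ⟨inferInstance, inferInstance⟩

/-- The tensor product of a finite locally free module with an invertible module is finite locally
free. -/
theorem isFinLocFree_tensorMod_of_isInvertible {E K : X.Modules} (hE : FlatMod.IsFinLocFree E)
    (hK : PicF.IsInvertible K) : FlatMod.IsFinLocFree (CohB1.tensorMod E K) := by
  haveI : E.IsQuasicoherent := isQuasicoherent_of_finLocFree E hE
  haveI : K.IsQuasicoherent := isQuasicoherent_of_isInvertible hK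
  haveI : (CohB1.tensorMod E K).IsQuasicoherent := TensQCH8.isQuasicoherent_tensorMod E K
  intro x
  obtain ⟨U, -, hxU, k, hk⟩ := GenLocH8.exists_isGen hK x
  obtain ⟨W, hW, hxW, hWU, r, g, hspan, hli⟩ :=
    exists_affine_basis_le E hE (x := x) (O := U) hxU
  let ψ : Γ(E, W) →ₗ[Γ(X, W)] Γ(CohB1.tensorMod E K, W) :=
    { toFun := fun t => SecTwist.tmul E K W t (rF K hWU k)
      map_add' := fun t t' => tmul_add_left E K W t t' _
      map_smul' := fun c t => tmul_smul_left E K W c t _ }
  have hinj : Function.Injective ψ := fun t t' h => tmulGen_injective E K hk hWU t t' h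
  have hsurj : Function.Surjective ψ := fun y => tmulGen_surjective E K hk hWU y
  refine ⟨W, r, hxW, iso_of_basis (CohB1.tensorMod E K) hW (fun j => ψ (g j)) ?_ ?_⟩
  · have h1 : Set.range (fun j => ψ (g j)) = ψ '' Set.range g := by
      rw [← Set.range_comp]
      rfl
    rw [h1, ← Submodule.map_span, hspan, Submodule.map_top, LinearMap.range_eq_top]
    exact hsurj
  · exact hli.map' ψ (LinearMap.ker_eq_bot.mpr hinj)

/-- Serre: for `L` ample and `F` finite locally free, `F ⊗ L^n` is a quotient of a free module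
`O^N`, with `N ≥ M` for any given `M`, for all large `n`. -/
theorem exists_epi_freeMod_twist {L : X.Modules} (hL : CohB1.IsAmple L) (F : X.Modules)
    (hF : FlatMod.IsFinLocFree F) :
    ∃ n₀ : ℕ, ∀ n, n₀ ≤ n → ∀ M : ℕ, ∃ (N : ℕ)
      (p : FlatMod.freeMod X N ⟶ CohB1.tensorMod F (CohB1.tensorPow L n)), M ≤ N ∧ Epi p := by
  classical
  obtain ⟨hinv, hc, hcov⟩ := id hL
  haveI := hc
  haveI : QuasiSeparatedSpace X := quasiSeparatedSpace_of_affine_genLocus hinv hcov
  have hFc := isCoh_of_finLocFree' hF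
  haveI : F.IsQuasicoherent := hFc.1
  haveI : SheafOfModules.IsFiniteType (R := X.ringCatSheaf) F := hFc.2
  have hA : IsAmpleOn L ⊤ := isAmpleOn_of_isAmple hL ⊤ (by simpa using isCompact_univ (X := X))
  obtain ⟨n₀, hn₀⟩ := exists_gen_of_isAmpleOn hinv F hA
  refine ⟨n₀, fun n hn M => ?_⟩
  have hM : PicF.IsInvertible (CohB1.tensorPow L n) := isInvertible_tensorPow hinv n
  have hMc : Coh.IsCoh (CohB1.tensorPow L n) :=
    isCoh_of_finLocFree' (isFinLocFree_of_isInvertible hM)
  haveI : (CohB1.tensorPow L n).IsQuasicoherent := hMc.1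
  haveI : (CohB1.tensorMod F (CohB1.tensorPow L n)).IsQuasicoherent :=
    TensQCH8.isQuasicoherent_tensorMod F _
  haveI : SheafOfModules.IsFiniteType (R := X.ringCatSheaf)
      (CohB1.tensorMod F (CohB1.tensorPow L n)) :=
    TensQCH8.isFiniteType_tensorMod F _ hFc.2 hMc.2
  have hspan : SpansNear (CohB1.tensorMod F (CohB1.tensorPow L n)) ⊤ Set.univ := by
    intro W z y hyW _
    obtain ⟨W', h', hyW', hmem⟩ :=
      hn₀ n hn (TFrame.tensor (Frame.pow L n) F) (le_top : W ≤ ⊤) z y hyW
    refine ⟨W', h', hyW', ?_⟩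
    rw [Set.image_univ]
    exact hmem
  obtain ⟨Y, hY⟩ := exists_finset_spans _ hspan
  let yy : Fin (Y.card + M) → Γ(CohB1.tensorMod F (CohB1.tensorPow L n), ⊤) :=
    Fin.append (fun j => (Y.equivFin.symm j).1) (fun _ => 0)
  have hrange : (Y : Set _) ⊆ Set.range yy := by
    intro t ht
    refine ⟨Fin.castAdd M (Y.equivFin ⟨t, ht⟩), ?_⟩
    simp [yy]
  have hY' : SpansNear (CohB1.tensorMod F (CohB1.tensorPow L n)) ⊤ (Set.range yy) := by
    intro W z y hyW hy
    obtain ⟨W', h', hyW', hmem⟩ := hY W z y hyW hy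
    exact ⟨W', h', hyW', Submodule.span_mono (Set.image_mono hrange) hmem⟩
  exact ⟨Y.card + M, Sigma.desc (fun j => homOfSec _ (yy j)), Nat.le_add_left _ _,
    epi_desc_of_spans _ yy hY'⟩

/-- the kernel in a surjection of finitely presented flat modules is finitely presented and flat
(copy of lead's `DCohLocLead.fp_flat_ker_of_surjective`). -/
theorem fp_flat_ker_of_surjective {R : Type*} [CommRing R] {K A B : Type*} [AddCommGroup K]
    [AddCommGroup A] [AddCommGroup B] [Module R K] [Module R A] [Module R B]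
    (i : K →ₗ[R] A) (f : A →ₗ[R] B) (hi : Function.Injective i) (hf : Function.Surjective f)
    (hex : Function.Exact i f)
    [Module.FinitePresentation R A] [Module.Flat R A] [Module.FinitePresentation R B]
    [Module.Flat R B] : Module.FinitePresentation R K ∧ Module.Flat R K := by
  haveI : Module.Projective R A := Module.Flat.projective_of_finitePresentation
  haveI : Module.Projective R B := Module.Flat.projective_of_finitePresentation
  obtain ⟨s, hs⟩ := Module.projective_lifting_property f LinearMap.id hf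
  have hsplit : (∃ l, f ∘ₗ l = LinearMap.id) ↔ ∃ l, l ∘ₗ i = LinearMap.id :=
    (Function.Exact.split_tfae hex hi hf).out 0 1
  obtain ⟨r, hr⟩ := hsplit.1 ⟨s, hs⟩
  haveI : Module.Projective R K := Module.Projective.of_split i r hr
  haveI : Module.Finite R K :=
    Module.Finite.of_surjective r (fun k => ⟨i k, LinearMap.congr_fun hr k⟩)
  exact ⟨Module.finitePresentation_of_projective R K, inferInstance⟩

/-- the kernel of an epimorphism of finite locally free modules is finite locally free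
(copy of lead's `DCohLocLead.isFinLocFree_of_shortExact`). -/
theorem isFinLocFree_of_shortExact (S : ShortComplex X.Modules) (hS : S.ShortExact)
    (h2 : FlatMod.IsFinLocFree S.X₂) (h3 : FlatMod.IsFinLocFree S.X₃) :
    FlatMod.IsFinLocFree S.X₁ := by
  haveI := FLFH8.isQuasicoherent_of_finLocFree S.X₂ h2
  haveI := FLFH8.isQuasicoherent_of_finLocFree S.X₃ h3
  haveI : Mono S.f := hS.mono_f
  haveI : Epi S.g := hS.epi_g
  haveI : S.X₁.IsQuasicoherent := by
    haveI : (kernel S.g).IsQuasicoherent := SubExt.isQuasicoherent_kernel S.g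
    let e : S.X₁ ≅ kernel S.g :=
      IsLimit.conePointUniqueUpToIso hS.exact.fIsKernel (limit.isLimit _)
    exact (SheafOfModules.isQuasicoherent X.ringCatSheaf).prop_of_iso e.symm inferInstance
  refine FLFH8.finLocFree_of_fp_flat_sections S.X₁ (fun U => ?_)
  obtain ⟨fp2, fl2⟩ := FLFH8.fp_flat_sections_of_finLocFree S.X₂ h2 U.2
  obtain ⟨fp3, fl3⟩ := FLFH8.fp_flat_sections_of_finLocFree S.X₃ h3 U.2
  haveI := fp2
  haveI := fl2
  haveI := fp3
  haveI := fl3
  let i : Γ(S.X₁, U.1) →ₗ[Γ(X, U.1)] Γ(S.X₂, U.1) :=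
    { toFun := fun t => (S.f.app U.1).hom t
      map_add' := fun s t => map_add (S.f.app U.1).hom s t
      map_smul' := fun r t => Scheme.Modules.Hom.app_smul S.f r t }
  let f : Γ(S.X₂, U.1) →ₗ[Γ(X, U.1)] Γ(S.X₃, U.1) :=
    { toFun := fun t => (S.g.app U.1).hom t
      map_add' := fun s t => map_add (S.g.app U.1).hom s t
      map_smul' := fun r t => Scheme.Modules.Hom.app_smul S.g r t }
  have hi : Function.Injective i := QCohExact.app_injective_of_mono S.f U.1
  have hf : Function.Surjective f := QCohExact.app_surjective_of_epi S.g U.2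
  have hex : Function.Exact i f := by
    intro y
    constructor
    · intro hy
      exact QCohExact.app_exact S hS.exact U.1 y hy
    · rintro ⟨k, rfl⟩
      have := congrArg (fun χ => (χ.app U.1).hom k) S.zero
      exact this
  exact fp_flat_ker_of_surjective i f hi hf hex

/-- the stalk rank of a finite locally free module is the local rank. -/
theorem finrank_stalk_eq {G : X.Modules} (hG : FlatMod.IsFinLocFree G) {m : ℕ} {V : X.Opens}
    {z : X} (hzV : z ∈ V) (β : G.restrict V.ι ≅ FlatMod.freeMod (↑V) m) :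
    Module.finrank (X.presheaf.stalk z) (G.presheaf.stalk z) = m := by
  haveI := FLFH8.isQuasicoherent_of_finLocFree G hG
  obtain ⟨W, hW, hzW, -, t, ht⟩ := FLFH8.exists_affine_bases G hzV β
  obtain ⟨h1, h2⟩ := FLFH8.BasisOn.self G t (ht W le_rfl)
  exact (FLFH8.free_stalk_of_basis G hW hzW t h1 h2).2

/-- on a connected scheme a finite locally free module has constant rank. -/
theorem exists_rank_of_connected [ConnectedSpace X] {G : X.Modules}
    (hG : FlatMod.IsFinLocFree G) : ∃ r : ℕ, FlatMod.IsFinLocFreeOfRank r G := by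
  let ρ : X → ℕ := fun z => Module.finrank (X.presheaf.stalk z) (G.presheaf.stalk z)
  have hρ : IsLocallyConstant ρ := by
    rw [IsLocallyConstant.iff_exists_open]
    intro x
    obtain ⟨U, n, hxU, ⟨α⟩⟩ := hG x
    refine ⟨U, U.isOpen, hxU, fun z hz => ?_⟩
    exact (finrank_stalk_eq hG hz α).trans (finrank_stalk_eq hG hxU α).symm
  obtain ⟨x₀⟩ : Nonempty X := inferInstance
  refine ⟨ρ x₀, fun x => ?_⟩
  obtain ⟨U, n, hxU, ⟨α⟩⟩ := hG x
  have h1 : ρ x = n := finrank_stalk_eq hG hxU α
  have h2 : ρ x = ρ x₀ := hρ.apply_eq_of_isPreconnected isPreconnected_univ trivial trivial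
  exact ⟨U, hxU, ⟨h2 ▸ h1 ▸ α⟩⟩

end Groth.Agent.Lib.AmpleK
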