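import Mathlib
import Groth.Prelude.Def_KZero
import Groth.Prelude.Def_WeakSerre
import Groth.Agent.Lib.WayOut_helper4

set_option autoImplicit false
set_option linter.style.haveILetI false
set_option linter.unusedSectionVars false

universe w v u

open CategoryTheory Limits Pretriangulated DerivedCategory ZeroObject KZero

namespace Groth.Agent.Lib.KZeroH4

/-! ### finite support helper -/

lemma fin_supp {G : Type*} [AddCommGroup G] (f : ℤ → G) (lo hi : ℤ)
    (h : ∀ n, (n < lo ∨ hi < n) → f n = 0) : (Function.support f).Finite :=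
  (Set.finite_Icc lo hi).subset (fun n hn => by
    rw [Function.mem_support] at hn
    rw [Set.mem_Icc]
    by_contra hc
    exact hn (h n (by omega)))

/-! ### K₀ of a subcategory of an abelian category -/

section Sub

variable {A : Type u} [Category.{v} A] [Abelian A] (P : ObjectProperty A)

lemma clSub_eq (X : A) (h : P X) :
    clSub P X = QuotientAddGroup.mk (FreeAbelianGroup.of ⟨X, h⟩) := by
  unfold clSub
  exact dif_pos h

lemma clSub_ses (S : ShortComplex A) (hS : S.ShortExact) (h₁ : P S.X₁) (h₂ : P S.X₂)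
    (h₃ : P S.X₃) : clSub P S.X₂ = clSub P S.X₁ + clSub P S.X₃ := by
  rw [clSub_eq P _ h₁, clSub_eq P _ h₂, clSub_eq P _ h₃]
  have hmem : (FreeAbelianGroup.of ⟨S.X₂, h₂⟩ - FreeAbelianGroup.of ⟨S.X₁, h₁⟩ -
      FreeAbelianGroup.of ⟨S.X₃, h₃⟩ : FreeAbelianGroup (Subtype P)) ∈ relSub P :=
    AddSubgroup.subset_closure ⟨S, h₁, h₂, h₃, hS, rfl⟩
  have h0 := (QuotientAddGroup.eq_zero_iff _).2 hmem
  rw [QuotientAddGroup.mk_sub, QuotientAddGroup.mk_sub, sub_sub, sub_eq_zero] at h0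
  exact h0

noncomputable def liftSub {G : Type*} [AddCommGroup G] (f : A → G)
    (hf : ∀ S : ShortComplex A, S.ShortExact → P S.X₁ → P S.X₂ → P S.X₃ →
      f S.X₂ = f S.X₁ + f S.X₃) : K0sub P →+ G :=
  QuotientAddGroup.lift (relSub P) (FreeAbelianGroup.lift (fun x : Subtype P => f x.1))
    (by
      unfold relSub
      refine (AddSubgroup.closure_le _).2 ?_
      rintro x ⟨S, h₁, h₂, h₃, hS, rfl⟩
      simp only [SetLike.mem_coe, AddMonoidHom.mem_ker, map_sub, FreeAbelianGroup.lift_apply_of]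
      rw [hf S hS h₁ h₂ h₃]
      abel)

lemma liftSub_clSub {G : Type*} [AddCommGroup G] (f : A → G)
    (hf : ∀ S : ShortComplex A, S.ShortExact → P S.X₁ → P S.X₂ → P S.X₃ →
      f S.X₂ = f S.X₁ + f S.X₃) (X : A) (hX : P X) :
    liftSub P f hf (clSub P X) = f X := by
  rw [clSub_eq P X hX]
  exact (QuotientAddGroup.lift_mk _ _ _).trans (FreeAbelianGroup.lift_apply_of _ _)

lemma homSub_ext {G : Type*} [AddCommGroup G] (f g : K0sub P →+ G)
    (h : ∀ (X : A) (_ : P X), f (clSub P X) = g (clSub P X)) : f = g := by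
  apply QuotientAddGroup.addMonoidHom_ext
  apply FreeAbelianGroup.lift_ext
  rintro ⟨X, hX⟩
  have h' := h X hX
  rw [clSub_eq P X hX] at h'
  exact h'

variable [WSerre.IsWeakSerre P]

lemma clSub_isZero {X : A} (hX : IsZero X) : clSub P X = 0 := by
  have hPX : P X := P.prop_of_isZero hX
  have hS : (ShortComplex.mk (0 : X ⟶ X) (0 : X ⟶ X) zero_comp).ShortExact :=
    ShortComplex.ShortExact.mk' (ShortComplex.exact_of_isZero_X₂ _ hX) (hX.mono _) (hX.epi _)
  have h : clSub P X = clSub P X + clSub P X := clSub_ses P _ hS hPX hPX hPX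
  have h' : clSub P X + 0 = clSub P X + clSub P X := by rw [add_zero]; exact h
  exact (add_left_cancel h').symm

lemma clSub_iso {X Y : A} (e : X ≅ Y) (hX : P X) : clSub P X = clSub P Y := by
  have hY : P Y := P.prop_of_iso e hX
  haveI : Epi (0 : Y ⟶ (0 : A)) := (isZero_zero A).epi _
  have hS : (ShortComplex.mk e.hom (0 : Y ⟶ (0 : A)) comp_zero).ShortExact :=
    ShortComplex.ShortExact.mk' ((ShortComplex.exact_iff_epi _ rfl).2 (inferInstance : Epi e.hom))
      (inferInstance : Mono e.hom) (inferInstance : Epi (0 : Y ⟶ (0 : A)))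
  have h : clSub P Y = clSub P X + clSub P (0 : A) := clSub_ses P _ hS hX hY P.prop_zero
  rw [clSub_isZero P (isZero_zero A), add_zero] at h
  exact h.symm

lemma shortExact_kernel {X₁ X₂ X₃ : A} (f : X₁ ⟶ X₂) (g : X₂ ⟶ X₃) (w : f ≫ g = 0)
    (hS : (ShortComplex.mk f g w).Exact) :
    (ShortComplex.mk (kernel.ι f) (kernel.lift g f w)
      (by rw [← cancel_mono (kernel.ι g)]; simp)).ShortExact := by
  have hex : (ShortComplex.mk (kernel.ι f) (kernel.lift g f w)
      (by rw [← cancel_mono (kernel.ι g)]; simp)).Exact := by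
    let φ : ShortComplex.mk (kernel.ι f) (kernel.lift g f w)
        (by rw [← cancel_mono (kernel.ι g)]; simp) ⟶
        ShortComplex.mk (kernel.ι f) f (kernel.condition f) :=
      { τ₁ := 𝟙 _, τ₂ := 𝟙 _, τ₃ := kernel.ι g, comm₁₂ := by simp, comm₂₃ := by simp }
    haveI : Epi φ.τ₁ := by dsimp [φ]; infer_instance
    haveI : IsIso φ.τ₂ := by dsimp [φ]; infer_instance
    haveI : Mono φ.τ₃ := by dsimp [φ]; infer_instance
    exact (ShortComplex.exact_iff_of_epi_of_isIso_of_mono φ).2 (ShortComplex.exact_kernel f)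
  have hepi : Epi (kernel.lift g f w) :=
    (ShortComplex.exact_iff_epi_kernel_lift (ShortComplex.mk f g w)).1 hS
  exact ShortComplex.ShortExact.mk' hex (by dsimp; infer_instance) (by dsimp; exact hepi)

lemma clSub_exact {X₁ X₂ X₃ : A} (f : X₁ ⟶ X₂) (g : X₂ ⟶ X₃) (w : f ≫ g = 0)
    (hS : (ShortComplex.mk f g w).Exact) (h₁ : P X₁) (h₂ : P X₂) (h₃ : P X₃) :
    clSub P X₁ = clSub P (kernel f) + clSub P (kernel g) :=
  clSub_ses P _ (shortExact_kernel f g w hS) (P.prop_kernel f h₁ h₂) h₁ (P.prop_kernel g h₂ h₃)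

end Sub

/-! ### K₀ of a triangulated subcategory -/

section Tr

variable {D : Type u} [Category.{v} D] [Preadditive D] [HasZeroObject D] [HasShift D ℤ]
  [∀ n : ℤ, (shiftFunctor D n).Additive] [Pretriangulated D] (Q : ObjectProperty D)

lemma clTr_eq (X : D) (h : Q X) :
    clTr Q X = QuotientAddGroup.mk (FreeAbelianGroup.of ⟨X, h⟩) := by
  unfold clTr
  exact dif_pos h

lemma clTr_tri (T : Triangle D) (hT : T ∈ distTriang D) (h₁ : Q T.obj₁) (h₂ : Q T.obj₂)
    (h₃ : Q T.obj₃) : clTr Q T.obj₂ = clTr Q T.obj₁ + clTr Q T.obj₃ := by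
  rw [clTr_eq Q _ h₁, clTr_eq Q _ h₂, clTr_eq Q _ h₃]
  have hmem : (FreeAbelianGroup.of ⟨T.obj₂, h₂⟩ - FreeAbelianGroup.of ⟨T.obj₁, h₁⟩ -
      FreeAbelianGroup.of ⟨T.obj₃, h₃⟩ : FreeAbelianGroup (Subtype Q)) ∈ relTr Q :=
    AddSubgroup.subset_closure ⟨T, h₁, h₂, h₃, hT, rfl⟩
  have h0 := (QuotientAddGroup.eq_zero_iff _).2 hmem
  rw [QuotientAddGroup.mk_sub, QuotientAddGroup.mk_sub, sub_sub, sub_eq_zero] at h0
  exact h0

noncomputable def liftTr {G : Type*} [AddCommGroup G] (f : D → G)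
    (hf : ∀ T : Triangle D, T ∈ distTriang D → Q T.obj₁ → Q T.obj₂ → Q T.obj₃ →
      f T.obj₂ = f T.obj₁ + f T.obj₃) : K0tr Q →+ G :=
  QuotientAddGroup.lift (relTr Q) (FreeAbelianGroup.lift (fun x : Subtype Q => f x.1))
    (by
      unfold relTr
      refine (AddSubgroup.closure_le _).2 ?_
      rintro x ⟨T, h₁, h₂, h₃, hT, rfl⟩
      simp only [SetLike.mem_coe, AddMonoidHom.mem_ker, map_sub, FreeAbelianGroup.lift_apply_of]
      rw [hf T hT h₁ h₂ h₃]
      abel)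

lemma liftTr_clTr {G : Type*} [AddCommGroup G] (f : D → G)
    (hf : ∀ T : Triangle D, T ∈ distTriang D → Q T.obj₁ → Q T.obj₂ → Q T.obj₃ →
      f T.obj₂ = f T.obj₁ + f T.obj₃) (K : D) (hK : Q K) :
    liftTr Q f hf (clTr Q K) = f K := by
  rw [clTr_eq Q K hK]
  exact (QuotientAddGroup.lift_mk _ _ _).trans (FreeAbelianGroup.lift_apply_of _ _)

lemma homTr_ext {G : Type*} [AddCommGroup G] (f g : K0tr Q →+ G)
    (h : ∀ (K : D) (_ : Q K), f (clTr Q K) = g (clTr Q K)) : f = g := by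
  apply QuotientAddGroup.addMonoidHom_ext
  apply FreeAbelianGroup.lift_ext
  rintro ⟨K, hK⟩
  have h' := h K hK
  rw [clTr_eq Q K hK] at h'
  exact h'

variable [Q.IsTriangulated] [Q.IsClosedUnderIsomorphisms]

lemma clTr_zero : clTr Q (0 : D) = 0 := by
  have h0 : Q (0 : D) := Q.prop_zero
  have h : clTr Q (0 : D) = clTr Q (0 : D) + clTr Q (0 : D) :=
    clTr_tri Q _ (contractible_distinguished (0 : D)) h0 h0 h0
  have h' : clTr Q (0 : D) + 0 = clTr Q (0 : D) + clTr Q (0 : D) := by rw [add_zero]; exact h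
  exact (add_left_cancel h').symm

lemma clTr_iso {X Y : D} (e : X ≅ Y) (hX : Q X) : clTr Q X = clTr Q Y := by
  have hY : Q Y := Q.prop_of_iso e hX
  have hT : Triangle.mk e.hom (0 : Y ⟶ (0 : D)) (0 : (0 : D) ⟶ X⟦(1 : ℤ)⟧) ∈ distTriang D :=
    isomorphic_distinguished _ (contractible_distinguished X) _
      (Triangle.isoMk _ _ (Iso.refl X) e.symm (Iso.refl (0 : D))
        (by change e.hom ≫ e.inv = 𝟙 X ≫ 𝟙 X; simp)
        ((isZero_zero D).eq_of_tgt _ _) ((isZero_zero D).eq_of_src _ _))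
  have h : clTr Q Y = clTr Q X + clTr Q (0 : D) := clTr_tri Q _ hT hX hY Q.prop_zero
  rw [clTr_zero Q, add_zero] at h
  exact h.symm

lemma clTr_shift1 (X : D) (hX : Q X) : clTr Q (X⟦(1 : ℤ)⟧) = - clTr Q X := by
  have h : clTr Q (0 : D) = clTr Q X + clTr Q (X⟦(1 : ℤ)⟧) :=
    clTr_tri Q _ (contractible_distinguished₂ X) hX Q.prop_zero (Q.le_shift 1 X hX)
  rw [clTr_zero Q] at h
  exact (neg_eq_of_add_eq_zero_right h.symm).symm

lemma clTr_step (X : D) (hX : Q X) (m m' : ℤ) (h : m + 1 = m') :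
    clTr Q (X⟦m'⟧) = - clTr Q (X⟦m⟧) := by
  have e : X⟦m'⟧ ≅ (X⟦m⟧)⟦(1 : ℤ)⟧ := (shiftFunctorAdd' D m 1 m' h).app X
  rw [clTr_iso Q e (Q.le_shift m' X hX), clTr_shift1 Q _ (Q.le_shift m X hX)]

lemma clTr_shift (X : D) (hX : Q X) (n : ℤ) :
    clTr Q (X⟦n⟧) = ((n.negOnePow : ℤˣ) : ℤ) • clTr Q X := by
  induction n using Int.induction_on with
  | zero =>
    rw [Int.negOnePow_zero, Units.val_one, one_smul]
    exact clTr_iso Q ((shiftFunctorZero D ℤ).app X) (Q.le_shift 0 X hX)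
  | succ k ih =>
    rw [clTr_step Q X hX (k : ℤ) ((k : ℤ) + 1) rfl, ih, Int.negOnePow_succ, Units.val_neg,
      neg_smul]
  | pred k ih =>
    have h := clTr_step Q X hX (-(k : ℤ) - 1) (-(k : ℤ)) (by omega)
    rw [ih] at h
    rw [Int.negOnePow_sub, Int.negOnePow_one, mul_neg, mul_one, Units.val_neg, neg_smul, h,
      neg_neg]

/-- the objects whose class is fixed by an endomorphism of `K₀` form a triangulated
subcategory -/
def fixProp (θ : K0tr Q →+ K0tr Q) : ObjectProperty D :=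
  fun K => Q K ∧ θ (clTr Q K) = clTr Q K

instance fixProp_closedUnderIso (θ : K0tr Q →+ K0tr Q) :
    (fixProp Q θ).IsClosedUnderIsomorphisms where
  of_iso e hX := ⟨Q.prop_of_iso e hX.1, by
    rw [← clTr_iso Q e hX.1]
    exact hX.2⟩

instance fixProp_isTriangulated (θ : K0tr Q →+ K0tr Q) : (fixProp Q θ).IsTriangulated where
  exists_zero := ⟨0, isZero_zero _, Q.prop_zero, by rw [clTr_zero Q, map_zero]⟩
  isStableUnderShiftBy a := ⟨by
    intro X hX
    refine ⟨Q.le_shift a X hX.1, ?_⟩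
    rw [clTr_shift Q X hX.1 a, map_zsmul, hX.2]⟩
  toIsTriangulatedClosed₂ := .mk' (fun T hT h₁ h₃ => by
    have h₂ : Q T.obj₂ := Q.ext_of_isTriangulatedClosed₂ T hT h₁.1 h₃.1
    refine ⟨h₂, ?_⟩
    rw [clTr_tri Q T hT h₁.1 h₂ h₃.1, map_add, h₁.2, h₃.2])

end Tr

/-! ### the derived category -/

section Derived

variable {C : Type u} [Category.{v} C] [Abelian C] [HasDerivedCategory.{w} C]
  (P : ObjectProperty C)

/-- bounded objects with cohomology in `P` -/
def DP : ObjectProperty (DerivedCategory C) := fun K =>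
  (∀ i : ℤ, P ((DerivedCategory.homologyFunctor C i).obj K)) ∧
    ∃ a b : ℤ, (DerivedCategory.TStructure.t (C := C)).IsGE K a ∧
      (DerivedCategory.TStructure.t (C := C)).IsLE K b

lemma DP_iff (K : DerivedCategory C) : DP P K ↔
    (WSerre.cohIn P ⊓ (DerivedCategory.TStructure.t (C := C)).bounded) K := by
  constructor
  · rintro ⟨h, a, b, ha, hb⟩
    exact ⟨h, ⟨a, ha⟩, ⟨b, hb⟩⟩
  · rintro ⟨h, ⟨a, ha⟩, ⟨b, hb⟩⟩
    exact ⟨h, a, b, ha, hb⟩

lemma DP_eq : DP P = WSerre.cohIn P ⊓ (DerivedCategory.TStructure.t (C := C)).bounded := by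
  funext K
  exact propext (DP_iff P K)

noncomputable def chi (K : DerivedCategory C) : K0sub P :=
  ∑ᶠ n : ℤ, ((n.negOnePow : ℤˣ) : ℤ) • clSub P ((homologyFunctor C n).obj K)

lemma DP_isZero (K : DerivedCategory C) (h : DP P K) :
    ∃ lo hi : ℤ, ∀ n : ℤ, (n < lo ∨ hi < n) → IsZero ((homologyFunctor C n).obj K) := by
  obtain ⟨a, b, ha, hb⟩ := h.2
  haveI := ha
  haveI := hb
  refine ⟨a, b, fun n hn => ?_⟩
  rcases hn with hn | hn
  · exact isZero_of_isGE K a n hn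
  · exact isZero_of_isLE K b n hn

variable [WSerre.IsWeakSerre P]

instance DP_closedUnderIso : (DP P).IsClosedUnderIsomorphisms := by
  rw [DP_eq]
  infer_instance

instance DP_isTriangulated : (DP P).IsTriangulated := by
  rw [DP_eq]
  infer_instance

lemma DP_single (M : C) (hM : P M) : DP P ((singleFunctor C 0).obj M) := by
  refine ⟨fun i => ?_, 0, 0, inferInstance, inferInstance⟩
  by_cases hi : i = 0
  · subst hi
    exact P.prop_of_iso ((singleFunctorCompHomologyFunctorIso C 0).app M).symm hM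
  · rcases lt_or_gt_of_ne hi with h | h
    · exact P.prop_of_isZero (isZero_of_isGE _ 0 i h)
    · exact P.prop_of_isZero (isZero_of_isLE _ 0 i h)

lemma chi_single (M : C) (hM : P M) : chi P ((singleFunctor C 0).obj M) = clSub P M := by
  unfold chi
  refine (finsum_eq_single _ (0 : ℤ) ?_).trans ?_
  · intro n hn
    have hz : IsZero ((homologyFunctor C n).obj ((singleFunctor C 0).obj M)) := by
      rcases lt_or_gt_of_ne hn with h | h
      · exact isZero_of_isGE _ 0 n h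
      · exact isZero_of_isLE _ 0 n h
    rw [clSub_isZero P hz, smul_zero]
  · rw [Int.negOnePow_zero, Units.val_one, one_smul]
    exact (clSub_iso P ((singleFunctorCompHomologyFunctorIso C 0).app M).symm hM).symm

lemma chi_add (T : Triangle (DerivedCategory C)) (hT : T ∈ distTriang (DerivedCategory C))
    (h₁ : DP P T.obj₁) (h₂ : DP P T.obj₂) (h₃ : DP P T.obj₃) :
    chi P T.obj₂ = chi P T.obj₁ + chi P T.obj₃ := by
  obtain ⟨lo₁, hi₁, z₁⟩ := DP_isZero P _ h₁
  obtain ⟨lo₂, hi₂, z₂⟩ := DP_isZero P _ h₂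
  obtain ⟨lo₃, hi₃, z₃⟩ := DP_isZero P _ h₃
  obtain ⟨lo, hlo₁, hlo₂, hlo₃⟩ : ∃ lo : ℤ, lo ≤ lo₁ ∧ lo ≤ lo₂ ∧ lo ≤ lo₃ :=
    ⟨min lo₁ (min lo₂ lo₃), min_le_left _ _, le_trans (min_le_right _ _) (min_le_left _ _),
      le_trans (min_le_right _ _) (min_le_right _ _)⟩
  obtain ⟨hi, hhi₁, hhi₂, hhi₃⟩ : ∃ hi : ℤ, hi₁ ≤ hi ∧ hi₂ ≤ hi ∧ hi₃ ≤ hi :=
    ⟨max hi₁ (max hi₂ hi₃), le_max_left _ _, le_trans (le_max_left _ _) (le_max_right _ _),
      le_trans (le_max_right _ _) (le_max_right _ _)⟩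
  have Z₁ : ∀ n : ℤ, (n < lo ∨ hi < n) → IsZero ((homologyFunctor C n).obj T.obj₁) :=
    fun n hn => z₁ n (by omega)
  have Z₂ : ∀ n : ℤ, (n < lo ∨ hi < n) → IsZero ((homologyFunctor C n).obj T.obj₂) :=
    fun n hn => z₂ n (by omega)
  have Z₃ : ∀ n : ℤ, (n < lo ∨ hi < n) → IsZero ((homologyFunctor C n).obj T.obj₃) :=
    fun n hn => z₃ n (by omega)
  obtain ⟨a, ha⟩ : ∃ a : ℤ → K0sub P,
      ∀ n, a n = clSub P (kernel ((homologyFunctor C n).map T.mor₁)) :=
    ⟨fun n => clSub P (kernel ((homologyFunctor C n).map T.mor₁)), fun _ => rfl⟩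
  obtain ⟨b, hb⟩ : ∃ b : ℤ → K0sub P,
      ∀ n, b n = clSub P (kernel ((homologyFunctor C n).map T.mor₂)) :=
    ⟨fun n => clSub P (kernel ((homologyFunctor C n).map T.mor₂)), fun _ => rfl⟩
  obtain ⟨c, hc⟩ : ∃ c : ℤ → K0sub P,
      ∀ n, c n = clSub P (kernel (HomologySequence.δ T n (n + 1) rfl)) :=
    ⟨fun n => clSub P (kernel (HomologySequence.δ T n (n + 1) rfl)), fun _ => rfl⟩
  have E1 : ∀ n, clSub P ((homologyFunctor C n).obj T.obj₁) = a n + b n := fun n => by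
    rw [ha, hb]
    exact clSub_exact P _ _ _ (HomologySequence.exact₂ T hT n) (h₁.1 n) (h₂.1 n) (h₃.1 n)
  have E2 : ∀ n, clSub P ((homologyFunctor C n).obj T.obj₂) = b n + c n := fun n => by
    rw [hb, hc]
    exact clSub_exact P _ _ _ (HomologySequence.exact₃ T hT n (n + 1) rfl) (h₂.1 n) (h₃.1 n)
      (h₁.1 (n + 1))
  have E3 : ∀ n, clSub P ((homologyFunctor C n).obj T.obj₃) = c n + a (n + 1) := fun n => by
    rw [hc, ha]
    exact clSub_exact P _ _ _ (HomologySequence.exact₁ T hT n (n + 1) rfl) (h₃.1 n)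
      (h₁.1 (n + 1)) (h₂.1 (n + 1))
  have Za : ∀ n, (n < lo ∨ hi < n) → a n = 0 := fun n hn => by
    rw [ha]
    exact clSub_isZero P (IsZero.of_mono (kernel.ι _) (Z₁ n hn))
  have Zb : ∀ n, (n < lo ∨ hi < n) → b n = 0 := fun n hn => by
    rw [hb]
    exact clSub_isZero P (IsZero.of_mono (kernel.ι _) (Z₂ n hn))
  have Zc : ∀ n, (n < lo ∨ hi < n) → c n = 0 := fun n hn => by
    rw [hc]
    exact clSub_isZero P (IsZero.of_mono (kernel.ι _) (Z₃ n hn))
  obtain ⟨s, hs⟩ : ∃ s : ℤ → ℤ, ∀ n, s n = ((n.negOnePow : ℤˣ) : ℤ) :=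
    ⟨fun n => ((n.negOnePow : ℤˣ) : ℤ), fun _ => rfl⟩
  have hs1 : ∀ n, s (n + 1) = - s n := fun n => by
    rw [hs, hs, Int.negOnePow_succ, Units.val_neg]
  have F1 : ∀ n : ℤ, ((n.negOnePow : ℤˣ) : ℤ) • clSub P ((homologyFunctor C n).obj T.obj₁) =
      s n • a n + s n • b n := fun n => by rw [E1, smul_add, hs]
  have F2 : ∀ n : ℤ, ((n.negOnePow : ℤˣ) : ℤ) • clSub P ((homologyFunctor C n).obj T.obj₂) =
      s n • b n + s n • c n := fun n => by rw [E2, smul_add, hs]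
  have F3 : ∀ n : ℤ, ((n.negOnePow : ℤˣ) : ℤ) • clSub P ((homologyFunctor C n).obj T.obj₃) =
      s n • c n - s (n + 1) • a (n + 1) := fun n => by
    rw [E3, smul_add, hs1, neg_smul, sub_neg_eq_add, hs]
  have hα : (Function.support (fun n => s n • a n)).Finite :=
    fin_supp _ lo hi (fun n hn => by
      show s n • a n = 0
      rw [Za n hn, smul_zero])
  have hβ : (Function.support (fun n => s n • b n)).Finite :=
    fin_supp _ lo hi (fun n hn => by
      show s n • b n = 0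
      rw [Zb n hn, smul_zero])
  have hγ : (Function.support (fun n => s n • c n)).Finite :=
    fin_supp _ lo hi (fun n hn => by
      show s n • c n = 0
      rw [Zc n hn, smul_zero])
  have hα' : (Function.support (fun n => s (n + 1) • a (n + 1))).Finite :=
    fin_supp _ (lo - 1) (hi - 1) (fun n hn => by
      show s (n + 1) • a (n + 1) = 0
      rw [Za (n + 1) (by omega), smul_zero])
  have hshift : ∑ᶠ n : ℤ, s (n + 1) • a (n + 1) = ∑ᶠ n : ℤ, s n • a n :=
    finsum_comp_equiv (Equiv.addRight (1 : ℤ)) (f := fun n => s n • a n)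
  have e1 : chi P T.obj₁ = (∑ᶠ n : ℤ, s n • a n) + ∑ᶠ n : ℤ, s n • b n :=
    (finsum_congr F1).trans (finsum_add_distrib hα hβ)
  have e2 : chi P T.obj₂ = (∑ᶠ n : ℤ, s n • b n) + ∑ᶠ n : ℤ, s n • c n :=
    (finsum_congr F2).trans (finsum_add_distrib hβ hγ)
  have e3 : chi P T.obj₃ = (∑ᶠ n : ℤ, s n • c n) - ∑ᶠ n : ℤ, s n • a n :=
    ((finsum_congr F3).trans (finsum_sub_distrib hγ hα')).trans (by rw [hshift])
  rw [e1, e2, e3]
  abel

theorem main : ∃ φ : K0sub P ≃+ K0tr (DP P),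
    ∀ X : C, P X → φ (clSub P X) = clTr (DP P) ((singleFunctor C 0).obj X) := by
  obtain ⟨φ', hφ'⟩ : ∃ φ' : K0sub P →+ K0tr (DP P),
      ∀ X : C, P X → φ' (clSub P X) = clTr (DP P) ((singleFunctor C 0).obj X) :=
    ⟨liftSub P (fun X => clTr (DP P) ((singleFunctor C 0).obj X)) (fun S hS h₁ h₂ h₃ =>
      clTr_tri (DP P) _ hS.singleTriangle_distinguished (DP_single P _ h₁) (DP_single P _ h₂)
        (DP_single P _ h₃)),
     fun X hX => liftSub_clSub P _ _ X hX⟩
  obtain ⟨ψ, hψ⟩ : ∃ ψ : K0tr (DP P) →+ K0sub P,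
      ∀ K : DerivedCategory C, DP P K → ψ (clTr (DP P) K) = chi P K :=
    ⟨liftTr (DP P) (chi P) (fun T hT h₁ h₂ h₃ => chi_add P T hT h₁ h₂ h₃),
      fun K hK => liftTr_clTr (DP P) _ _ K hK⟩
  have h1 : ψ.comp φ' = AddMonoidHom.id _ := homSub_ext P _ _ (fun X hX => by
    rw [AddMonoidHom.comp_apply, hφ' X hX, hψ _ (DP_single P X hX), chi_single P X hX,
      AddMonoidHom.id_apply])
  have h2 : φ'.comp ψ = AddMonoidHom.id _ := homTr_ext (DP P) _ _ (fun K hK => by
    obtain ⟨a, b, ha, hb⟩ := hK.2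
    have key : fixProp (DP P) (φ'.comp ψ) K :=
      WayOutH4.bounded_devissage (fixProp (DP P) (φ'.comp ψ)) (b - a).toNat a b (by omega) K
        ha hb (fun q => ⟨DP_single P _ (hK.1 q), by
          rw [AddMonoidHom.comp_apply, hψ _ (DP_single P _ (hK.1 q)),
            chi_single P _ (hK.1 q), hφ' _ (hK.1 q)]⟩)
    rw [AddMonoidHom.id_apply]
    exact key.2)
  exact ⟨AddMonoidHom.toAddEquiv φ' ψ h1 h2, fun X hX => hφ' X hX⟩

end Derived

end Groth.Agent.Lib.KZeroH4
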