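import Mathlib
import Groth.Prelude
import Groth.Agent.Lib.AmpleK1_helper6
import Groth.Agent.Lib.ConeSP_lead
import Groth.Agent.Lib.KZero_helper4

/-!
# Ample invertible modules and K₀ of vector bundles, II: K-theory (helper6)

`cl_ses`, `cl_isZero`, `cl_iso`, `cl_biprod`, `exists_cl_sub` (every element of `Kvb X` is a
difference of two classes of bundles), `freeModSuccIso`, `cl_freeMod`
(`[O^m] = m • [O]`), `phi_cl_tensorPow`, `phi_cl_twist`, and `main` (S3743): the class of an ample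
invertible module is an ample line element of `K(X)`.
APPEND-ONLY once landed.
-/

set_option autoImplicit false
set_option linter.all false
set_option maxHeartbeats 1600000

universe v u

noncomputable section

namespace Groth.Agent.Lib.AmpleK

open CategoryTheory CategoryTheory.Limits AlgebraicGeometry TopologicalSpace Opposite
open KRR ZeroObject

variable {X : Scheme.{u}}

theorem cl_ses (S : ShortComplex X.Modules) (hS : S.ShortExact) (h₁ : FlatMod.IsFinLocFree S.X₁)
    (h₂ : FlatMod.IsFinLocFree S.X₂) (h₃ : FlatMod.IsFinLocFree S.X₃) :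
    cl X S.X₂ = cl X S.X₁ + cl X S.X₃ :=
  Groth.Agent.Lib.KZeroH4.clSub_ses (vbP X) S hS h₁ h₂ h₃

theorem isFinLocFree_of_isZero {M : X.Modules} (h : IsZero M) : FlatMod.IsFinLocFree M := by
  intro x
  refine ⟨⊤, 0, trivial, ⟨?_⟩⟩
  refine (Functor.map_isZero (Scheme.Modules.restrictFunctor (⊤ : X.Opens).ι) h).iso ?_
  rw [IsZero.iff_id_eq_zero]
  apply Sigma.hom_ext
  intro j
  exact j.elim0

theorem cl_isZero {M : X.Modules} (hM : IsZero M) : cl X M = 0 := by
  have hP : FlatMod.IsFinLocFree M := isFinLocFree_of_isZero hM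
  have hS : (ShortComplex.mk (0 : M ⟶ M) (0 : M ⟶ M) zero_comp).ShortExact :=
    ShortComplex.ShortExact.mk' (ShortComplex.exact_of_isZero_X₂ _ hM) (hM.mono _) (hM.epi _)
  have h : cl X M = cl X M + cl X M := cl_ses _ hS hP hP hP
  have h' : cl X M + 0 = cl X M + cl X M := by rw [add_zero]; exact h
  exact (add_left_cancel h').symm

theorem cl_iso {M N : X.Modules} (e : M ≅ N) (hM : FlatMod.IsFinLocFree M) :
    cl X M = cl X N := by
  have hN : FlatMod.IsFinLocFree N := FLFH8.IsFinLocFree.of_iso e hM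
  haveI : Epi (0 : N ⟶ (0 : X.Modules)) := (isZero_zero _).epi _
  have hS : (ShortComplex.mk e.hom (0 : N ⟶ (0 : X.Modules)) comp_zero).ShortExact :=
    ShortComplex.ShortExact.mk' ((ShortComplex.exact_iff_epi _ rfl).2 (inferInstance : Epi e.hom))
      (inferInstance : Mono e.hom) (inferInstance : Epi (0 : N ⟶ (0 : X.Modules)))
  have h : cl X N = cl X M + cl X (0 : X.Modules) :=
    cl_ses _ hS hM hN (isFinLocFree_of_isZero (isZero_zero _))
  rw [cl_isZero (isZero_zero _), add_zero] at h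
  exact h.symm

theorem cl_biprod {M N : X.Modules} (hM : FlatMod.IsFinLocFree M) (hN : FlatMod.IsFinLocFree N) :
    cl X (M ⊞ N) = cl X M + cl X N :=
  cl_ses _ (ShortComplex.Splitting.ofHasBinaryBiproduct M N).shortExact hM
    (Groth.Agent.Lib.ConeSP.finLocFree_biprod M N hM hN) hN

theorem exists_cl_sub (y : SGA6.Kvb X) :
    ∃ E F : X.Modules, FlatMod.IsFinLocFree E ∧ FlatMod.IsFinLocFree F ∧
      y = cl X E - cl X F := by
  obtain ⟨y, rfl⟩ := QuotientAddGroup.mk_surjective y
  refine FreeAbelianGroup.induction_on y ?_ ?_ ?_ ?_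
  · refine ⟨0, 0, isFinLocFree_of_isZero (isZero_zero _), isFinLocFree_of_isZero (isZero_zero _), ?_⟩
    rw [sub_self]; rfl
  · rintro ⟨E, hE⟩
    refine ⟨E, 0, hE, isFinLocFree_of_isZero (isZero_zero _), ?_⟩
    rw [cl_isZero (isZero_zero _), sub_zero]
    exact (Groth.Agent.Lib.KZeroH4.clSub_eq (vbP X) E hE).symm
  · rintro ⟨E, hE⟩ _
    refine ⟨0, E, isFinLocFree_of_isZero (isZero_zero _), hE, ?_⟩
    rw [cl_isZero (isZero_zero _), zero_sub]
    have h1 : cl X E = QuotientAddGroup.mk (FreeAbelianGroup.of ⟨E, hE⟩) :=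
      Groth.Agent.Lib.KZeroH4.clSub_eq (vbP X) E hE
    rw [h1]
    rfl
  · rintro a b ⟨E, F, hE, hF, hab⟩ ⟨E', F', hE', hF', hab'⟩
    refine ⟨E ⊞ E', F ⊞ F', Groth.Agent.Lib.ConeSP.finLocFree_biprod _ _ hE hE',
      Groth.Agent.Lib.ConeSP.finLocFree_biprod _ _ hF hF', ?_⟩
    rw [cl_biprod hE hE', cl_biprod hF hF', QuotientAddGroup.mk_add, hab, hab']
    abel

/-- `O^{m+1} ≅ O ⊞ O^m`. -/
def freeModSuccIso (m : ℕ) :
    FlatMod.freeMod X (m + 1) ≅ Coh.structureModule X ⊞ FlatMod.freeMod X m := by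
  let f : Fin (m + 1) → X.Modules := fun _ => Coh.structureModule X
  let c₁ : Cofan (fun i : Fin m => f i.succ) := Cofan.mk (∐ fun i : Fin m => f i.succ) (Sigma.ι _)
  have t₁ : IsColimit c₁ := coproductIsCoproduct _
  let c₂ : BinaryCofan (f 0) c₁.pt := (BinaryBiproduct.bicone (f 0) c₁.pt).toCocone
  have t₂ : IsColimit c₂ := BinaryBiproduct.isColimit (f 0) c₁.pt
  exact (coproductIsCoproduct f).coconePointUniqueUpToIso (extendCofanIsColimit f t₁ t₂)

theorem isFinLocFree_freeMod (m : ℕ) : FlatMod.IsFinLocFree (FlatMod.freeMod X m) :=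
  FLFH8.isFinLocFree_of_iso_free (Iso.refl _)

theorem isFinLocFree_structureModule : FlatMod.IsFinLocFree (Coh.structureModule X) :=
  TensH8.isFinLocFree_of_isInvertible TensH8.isInvertible_structureModule

theorem cl_freeMod (m : ℕ) :
    cl X (FlatMod.freeMod X m) = m • cl X (Coh.structureModule X) := by
  induction m with
  | zero =>
    rw [zero_smul]
    apply cl_isZero
    rw [IsZero.iff_id_eq_zero]
    apply Sigma.hom_ext
    intro j
    exact j.elim0
  | succ m ih =>
    rw [cl_iso (freeModSuccIso m) (isFinLocFree_freeMod _),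
      cl_biprod isFinLocFree_structureModule (isFinLocFree_freeMod _), ih, succ_nsmul, add_comm]

section Model

variable {K : Type v} [CommRing K] [LambdaRing.LambdaOps K] {Pos : LambdaRing.PosStructure K}
  {φ : SGA6.Kvb X →+ K} (hK : KRR.IsModel X K Pos φ)

include hK

theorem phi_cl_tensorPow {L : X.Modules} (hL : PicF.IsInvertible L) (n : ℕ) :
    φ (cl X (CohB1.tensorPow L n)) = φ (cl X L) ^ n := by
  induction n with
  | zero =>
    rw [pow_zero]
    exact hK.map_one
  | succ n ih =>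
    rw [pow_succ, ← ih]
    exact (hK.map_mul _ _ (TensH8.isFinLocFree_of_isInvertible (TensH8.isInvertible_tensorPow hL n))
      (TensH8.isFinLocFree_of_isInvertible hL)).symm

theorem phi_cl_twist {L : X.Modules} (hL : PicF.IsInvertible L) (F : X.Modules)
    (hF : FlatMod.IsFinLocFree F) (n : ℕ) :
    φ (cl X (CohB1.tensorMod F (CohB1.tensorPow L n))) = φ (cl X L) ^ n * φ (cl X F) := by
  rw [← phi_cl_tensorPow hK hL n, mul_comm]
  exact (hK.map_mul F _ hF
    (TensH8.isFinLocFree_of_isInvertible (TensH8.isInvertible_tensorPow hL n))).symm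

/-- **S3743**: the class of an ample invertible module is an ample line element. -/
theorem main [ConnectedSpace X] (L : X.Modules) (hL : CohB1.IsAmple L) :
    KRR.IsAmpleElt Pos (φ (cl X L)) := by
  obtain ⟨hinv, hc, hcov⟩ := id hL
  have hL1 : FlatMod.IsFinLocFreeOfRank 1 L := FLFH8.finLocFreeOfRank_one_of_isInvertible hinv
  have hu_aug : Pos.aug (φ (cl X L)) = 1 := by
    have := hK.aug_cl 1 L hL1
    simpa using this
  have hu_pos : φ (cl X L) ∈ Pos.pos := (hK.mem_pos_iff _).2 ⟨1, L, le_rfl, hL1, rfl⟩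
  refine ⟨⟨hu_pos, hu_aug⟩, fun x => ?_⟩
  obtain ⟨y, rfl⟩ := hK.bijective.2 x
  obtain ⟨E, F, hE, hF, rfl⟩ := exists_cl_sub y
  obtain ⟨rkE, hrkE⟩ := exists_rank_of_connected hE
  obtain ⟨rkF, hrkF⟩ := exists_rank_of_connected hF
  obtain ⟨n₀, hn₀⟩ := exists_epi_freeMod_twist hL F hF
  refine ⟨n₀, fun n hn => ?_⟩
  obtain ⟨N, p, hN, hp⟩ := hn₀ n hn (rkF + 1)
  have hLn : PicF.IsInvertible (CohB1.tensorPow L n) := TensH8.isInvertible_tensorPow hinv n
  have hFn : FlatMod.IsFinLocFree (CohB1.tensorMod F (CohB1.tensorPow L n)) :=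
    isFinLocFree_tensorMod_of_isInvertible hF hLn
  have hEn : FlatMod.IsFinLocFree (CohB1.tensorMod E (CohB1.tensorPow L n)) :=
    isFinLocFree_tensorMod_of_isInvertible hE hLn
  have hS : (ShortComplex.mk (kernel.ι p) p (kernel.condition p)).ShortExact :=
    ShortComplex.ShortExact.mk' (ShortComplex.exact_kernel p) (by dsimp; infer_instance)
      (by dsimp; exact hp)
  have hG : FlatMod.IsFinLocFree (kernel p) :=
    isFinLocFree_of_shortExact _ hS (isFinLocFree_freeMod N) hFn
  have hcl : cl X (FlatMod.freeMod X N) =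
      cl X (kernel p) + cl X (CohB1.tensorMod F (CohB1.tensorPow L n)) :=
    cl_ses _ hS hG (isFinLocFree_freeMod N) hFn
  have h1 : φ (cl X (CohB1.tensorMod F (CohB1.tensorPow L n))) =
      (N : K) - φ (cl X (kernel p)) := by
    have h := congrArg φ hcl
    rw [cl_freeMod, map_nsmul, hK.map_one, map_add, nsmul_eq_mul, mul_one] at h
    rw [h]
    ring
  have hT : FlatMod.IsFinLocFree (CohB1.tensorMod E (CohB1.tensorPow L n) ⊞ kernel p) :=
    Groth.Agent.Lib.ConeSP.finLocFree_biprod _ _ hEn hG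
  obtain ⟨rT, hrT⟩ := exists_rank_of_connected hT
  have h2 : φ (cl X L) ^ n * φ (cl X E - cl X F) =
      φ (cl X (CohB1.tensorMod E (CohB1.tensorPow L n) ⊞ kernel p)) - (N : K) := by
    rw [map_sub, mul_sub, ← phi_cl_twist hK hinv E hE n, ← phi_cl_twist hK hinv F hF n, h1,
      cl_biprod hEn hG, map_add]
    ring
  refine ⟨φ (cl X (CohB1.tensorMod E (CohB1.tensorPow L n) ⊞ kernel p)), N, ?_, h2⟩
  rw [hK.mem_pos_iff]
  refine ⟨rT, _, ?_, hrT, rfl⟩
  have a1 := hK.aug_cl rT _ hrT
  have a2 := hK.aug_cl rkE E hrkE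
  have a3 := hK.aug_cl rkF F hrkF
  have a4 := congrArg Pos.aug h2
  simp only [map_mul, map_pow, hu_aug, one_pow, one_mul, map_sub, a1, a2, a3, map_natCast] at a4
  omega

end Model

end Groth.Agent.Lib.AmpleK
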