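import Mathlib
import Groth.Prelude
import Groth.Agent.Lib.LambdaRing_helper1

/-!
# λ-rings with an ample line element: the augmentation ideal is nil (helper6)

* `isNilpotent_coeff_of_mul_eq_X_pow`: `A * B = X^(m+m')`, `deg A ≤ m`, `deg B ≤ m'` ⇒ the lower
  coefficients of `A` are nilpotent (via `reflect` and units of `K[X]`).
* `isNilpotent_sub_natCast`: `e + e' = m + m'`, `e, e'` positive of augmentations `m, m'` ⇒ `e - m`
  nilpotent.
* `isNilpotent_of_aug_eq_zero`: with an ample line element, `ε x = 0 ⇒ x` nilpotent.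
* `isUnit_tensor_iff`: then `y ∈ A ⊗ K` is a unit iff `(id ⊗ ε) y` is.
APPEND-ONLY once landed.
-/

set_option autoImplicit false
set_option linter.all false
set_option maxHeartbeats 1600000

universe u

namespace Groth.Agent.Lib.AmpleNil

open LambdaRing Groth.Agent.Lib.LambdaRingH1 Polynomial

variable {K : Type u} [CommRing K] [LambdaOps K]

/-- the polynomial `Σ_{i ≤ m} λ^i(e) X^i`. -/
noncomputable def lamPoly (m : ℕ) (e : K) : K[X] :=
  ∑ i ∈ Finset.range (m + 1), C (LambdaOps.lam i e) * X ^ i

theorem coeff_lamPoly (m : ℕ) (e : K) (k : ℕ) :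
    (lamPoly m e).coeff k = if k ≤ m then LambdaOps.lam k e else 0 := by
  unfold lamPoly
  rw [finset_sum_coeff]
  simp only [coeff_C_mul, coeff_X_pow]
  split_ifs with h
  · rw [Finset.sum_eq_single k]
    · simp
    · intro b _ hb
      rw [if_neg (Ne.symm hb), mul_zero]
    · intro hk
      exact absurd (Finset.mem_range.2 (by omega)) hk
  · apply Finset.sum_eq_zero
    intro b hb
    rw [if_neg, mul_zero]
    have := Finset.mem_range.1 hb
    omega

theorem natDegree_lamPoly_le (m : ℕ) (e : K) : (lamPoly m e).natDegree ≤ m := by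
  rw [natDegree_le_iff_coeff_eq_zero]
  intro k hk
  rw [coeff_lamPoly, if_neg (by omega)]

theorem coe_lamPoly (m : ℕ) (e : K) (h : ∀ i, m < i → LambdaOps.lam i e = 0) :
    ((lamPoly m e : K[X]) : PowerSeries K) = lamSeries e := by
  ext k
  rw [Polynomial.coeff_coe, coeff_lamPoly, coeff_lamSeries]
  split_ifs with hk
  · rfl
  · exact (h k (by omega)).symm

/-- Key algebra: if `A * B = X^(m+m')` with degrees `≤ m`, `≤ m'`, then the coefficients of `A`
below `m` are nilpotent. -/
theorem isNilpotent_coeff_of_mul_eq_X_pow {A B : K[X]} {m m' : ℕ} (hA : A.natDegree ≤ m)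
    (hB : B.natDegree ≤ m') (h : A * B = X ^ (m + m')) (k : ℕ) (hk : k < m) :
    IsNilpotent (A.coeff k) := by
  have h1 : reflect m A * reflect m' B = 1 := by
    rw [← reflect_mul A B hA hB, h]
    rw [reflect_monomial, revAt_le le_rfl, Nat.sub_self, pow_zero]
  have hu : IsUnit (reflect m A) := IsUnit.of_mul_eq_one _ h1
  have h2 := (Polynomial.isUnit_iff_coeff_isUnit_isNilpotent.1 hu).2 (m - k) (by omega)
  rw [coeff_reflect, revAt_le (by omega)] at h2
  have : m - (m - k) = k := by omega
  rwa [this] at h2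

theorem lam_one_eq_zero (P : PosStructure K) (k : ℕ) (hk : 2 ≤ k) : LambdaOps.lam k (1 : K) = 0 := by
  have h1 : (1 : K) ∈ P.pos := by
    have := P.natCast_mem 1 one_pos
    simpa using this
  refine P.lam_eq_zero 1 h1 k ?_
  rw [map_one]
  exact_mod_cast (by omega : 1 < k)

/-- If `e + e' = m + m'` with `e, e'` positive of augmentations `m, m'`, then `e - m` is
nilpotent. -/
theorem isNilpotent_sub_natCast (P : PosStructure K) {e e' : K} {m m' : ℕ} (he : e ∈ P.pos)
    (he' : e' ∈ P.pos) (hm : P.aug e = m) (hm' : P.aug e' = m')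
    (hsum : e + e' = ((m + m' : ℕ) : K)) : IsNilpotent (e - (m : K)) := by
  have h1 := lam_one_eq_zero P
  have hmpos : 1 ≤ m := by
    have := P.aug_pos e he
    rw [hm] at this
    exact_mod_cast this
  have hPe : ((lamPoly m e : K[X]) : PowerSeries K) = lamSeries e :=
    coe_lamPoly m e (fun i hi => P.lam_eq_zero e he i (by rw [hm]; exact_mod_cast hi))
  have hPe' : ((lamPoly m' e' : K[X]) : PowerSeries K) = lamSeries e' :=
    coe_lamPoly m' e' (fun i hi => P.lam_eq_zero e' he' i (by rw [hm']; exact_mod_cast hi))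
  have hprod : lamPoly m e * lamPoly m' e' = (1 + X) ^ (m + m') := by
    apply Polynomial.coe_injective
    rw [Polynomial.coe_mul, hPe, hPe', ← lamSeries_add, hsum, lamSeries_natCast h1]
    simp
  set A := (lamPoly m e).comp (X - 1) with hA
  set B := (lamPoly m' e').comp (X - 1) with hB
  have hAB : A * B = X ^ (m + m') := by
    rw [hA, hB, ← mul_comp, hprod]
    simp
  have hdeg : ∀ (n : ℕ) (x : K), ((lamPoly n x).comp (X - 1)).natDegree ≤ n := by
    intro n x
    refine (natDegree_comp_le).trans ?_
    have h2 : (X - 1 : K[X]).natDegree ≤ 1 := by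
      have := natDegree_X_sub_C_le (1 : K)
      simpa using this
    calc (lamPoly n x).natDegree * (X - 1 : K[X]).natDegree ≤ n * 1 :=
          Nat.mul_le_mul (natDegree_lamPoly_le n x) h2
      _ = n := mul_one n
  have hnil : ∀ k, k < m → IsNilpotent (A.coeff k) :=
    fun k hk => isNilpotent_coeff_of_mul_eq_X_pow (hdeg m e) (hdeg m' e') hAB k hk
  have hback : lamPoly m e = A.comp (X + 1) := by
    rw [hA, comp_assoc]
    simp
  have hAsum : A = ∑ k ∈ Finset.range (m + 1), C (A.coeff k) * X ^ k := by
    have := as_sum_range' A (m + 1) (Nat.lt_succ_of_le (hdeg m e))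
    simpa [← C_mul_X_pow_eq_monomial] using this
  have hPsum : lamPoly m e = ∑ k ∈ Finset.range (m + 1), C (A.coeff k) * (X + 1) ^ k := by
    rw [hback]
    conv_lhs => rw [hAsum]
    simp [Polynomial.sum_comp]
  have hc0 : (1 : K) = ∑ k ∈ Finset.range (m + 1), A.coeff k := by
    have := congrArg (fun p : K[X] => p.coeff 0) hPsum
    simp only [coeff_lamPoly, Nat.zero_le, if_true, LambdaOps.lam_zero, finset_sum_coeff,
      coeff_C_mul, coeff_X_add_one_pow, Nat.choose_zero_right, Nat.cast_one, mul_one] at this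
    exact this
  have hc1 : e = ∑ k ∈ Finset.range (m + 1), A.coeff k * (k : K) := by
    have := congrArg (fun p : K[X] => p.coeff 1) hPsum
    simp only [coeff_lamPoly, hmpos, if_true, LambdaOps.lam_one, finset_sum_coeff,
      coeff_C_mul, coeff_X_add_one_pow, Nat.choose_one_right] at this
    exact this
  have hfinal : e - (m : K) = ∑ k ∈ Finset.range (m + 1), A.coeff k * ((k : K) - (m : K)) := by
    calc e - (m : K) = e - (m : K) * 1 := by rw [mul_one]
      _ = ∑ k ∈ Finset.range (m + 1), A.coeff k * (k : K) -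
          (m : K) * ∑ k ∈ Finset.range (m + 1), A.coeff k := by rw [← hc1, ← hc0]
      _ = ∑ k ∈ Finset.range (m + 1), A.coeff k * ((k : K) - (m : K)) := by
          rw [Finset.mul_sum, ← Finset.sum_sub_distrib]
          apply Finset.sum_congr rfl
          intro k _
          ring
  rw [hfinal, ← mem_nilradical]
  apply Ideal.sum_mem
  intro k hk
  rcases Nat.lt_or_ge k m with hkm | hkm
  · exact Ideal.mul_mem_right _ _ (mem_nilradical.2 (hnil k hkm))
  · have : k = m := le_antisymm (Nat.lt_succ_iff.1 (Finset.mem_range.1 hk)) hkm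
    rw [this, sub_self, mul_zero]
    exact Ideal.zero_mem _

/-- In a λ-ring with positive structure having an ample line element, every element of
augmentation zero is nilpotent. -/
theorem isNilpotent_of_aug_eq_zero (P : PosStructure K) (u : K) (hu : KRR.IsAmpleElt P u)
    (x : K) (hx : P.aug x = 0) : IsNilpotent x := by
  obtain ⟨⟨hupos, huaug⟩, hamp⟩ := hu
  obtain ⟨n1, h1⟩ := hamp x
  obtain ⟨n2, h2⟩ := hamp (-x)
  obtain ⟨e, m, he, hem⟩ := h1 (max n1 n2) (le_max_left _ _)
  obtain ⟨e', m', he', hem'⟩ := h2 (max n1 n2) (le_max_right _ _)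
  set n := max n1 n2
  have ha : P.aug e = m := by
    have := congrArg P.aug hem
    simp only [map_mul, map_pow, huaug, one_pow, one_mul, hx, map_sub, map_natCast] at this
    linarith
  have ha' : P.aug e' = m' := by
    have := congrArg P.aug hem'
    simp only [map_mul, map_pow, huaug, one_pow, one_mul, hx, map_neg, neg_zero, map_sub,
      map_natCast] at this
    linarith
  have hsum : e + e' = ((m + m' : ℕ) : K) := by
    have h3 : u ^ n * x + u ^ n * (-x) = 0 := by ring
    rw [hem, hem'] at h3
    push_cast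
    linear_combination h3
  have hnil : IsNilpotent (u ^ n * x) := by
    rw [hem]
    exact isNilpotent_sub_natCast P he he' ha ha' hsum
  have huu : IsUnit u := by
    have := P.isUnit_lam u hupos
    rw [huaug] at this
    simpa [LambdaOps.lam_one] using this
  obtain ⟨v, hv⟩ := (huu.pow n).exists_left_inv
  have hx' : x = v * (u ^ n * x) := by rw [← mul_assoc, hv, one_mul]
  rw [hx', ← mem_nilradical]
  exact Ideal.mul_mem_left _ _ (mem_nilradical.2 hnil)

open scoped TensorProduct in
/-- If the augmentation ideal of `K` is nil, then `y ∈ A ⊗ K` is a unit iff `(id ⊗ ε)(y)` is. -/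
theorem isUnit_tensor_iff (P : PosStructure K) (hnil : ∀ x : K, P.aug x = 0 → IsNilpotent x)
    (A : Type u) [CommRing A] (y : A ⊗[ℤ] K) :
    IsUnit y ↔ IsUnit (Algebra.TensorProduct.map (AlgHom.id ℤ A) P.aug.toIntAlgHom y) := by
  set ε' := Algebra.TensorProduct.map (AlgHom.id ℤ A) P.aug.toIntAlgHom with hε'
  set ι := Algebra.TensorProduct.map (AlgHom.id ℤ A) (Algebra.ofId ℤ K) with hι
  have hει : ∀ w, ε' (ι w) = w := by
    intro w
    induction w using TensorProduct.induction_on with
    | zero => simp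
    | tmul a k => simp [hε', hι, Algebra.ofId_apply]
    | add a b ha hb => rw [map_add, map_add, ha, hb]
  have key : ∀ z : A ⊗[ℤ] K, z - ι (ε' z) ∈ nilradical (A ⊗[ℤ] K) := by
    intro z
    induction z using TensorProduct.induction_on with
    | zero => simp
    | tmul a x =>
      have h1 : a ⊗ₜ[ℤ] x - ι (ε' (a ⊗ₜ[ℤ] x)) =
          (a ⊗ₜ[ℤ] (1 : K)) * ((1 : A) ⊗ₜ[ℤ] (x - ((P.aug x : ℤ) : K))) := by
        simp [hε', hι, Algebra.ofId_apply, TensorProduct.tmul_sub, mul_sub]
      rw [h1]
      apply Ideal.mul_mem_left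
      rw [mem_nilradical]
      have h2 : IsNilpotent (x - ((P.aug x : ℤ) : K)) := hnil _ (by simp)
      exact h2.map (Algebra.TensorProduct.includeRight : K →ₐ[ℤ] A ⊗[ℤ] K)
    | add a b ha hb =>
      have : a + b - ι (ε' (a + b)) = (a - ι (ε' a)) + (b - ι (ε' b)) := by
        rw [map_add, map_add]; ring
      rw [this]
      exact Ideal.add_mem _ ha hb
  constructor
  · intro h
    exact h.map ε'
  · intro h
    have h1 : IsUnit (ι (ε' y)) := h.map ι
    have h2 : IsNilpotent (y - ι (ε' y)) := mem_nilradical.1 (key y)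
    have h3 : y = ι (ε' y) + (y - ι (ε' y)) := by ring
    rw [h3]
    exact h2.isUnit_add_left_of_commute h1 (Commute.all _ _)

end Groth.Agent.Lib.AmpleNil
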