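import Mathlib
import Groth.Prelude
import Groth.Agent.Lib.AmpleNil_helper6

/-!
# λ-rings with nil augmentation ideal: finitely generated subrings (helper6)

`isIntegral_of_nil`, `subring_closure_fg_nilpotent`.
APPEND-ONLY once landed.
-/

set_option autoImplicit false
set_option linter.all false
set_option maxHeartbeats 1600000

universe u

namespace Groth.Agent.Lib.AmpleNil

open LambdaRing Groth.Agent.Lib.LambdaRingH1 Polynomial

variable {K : Type u} [CommRing K] [LambdaOps K]

/-- If the augmentation ideal is nil, every element of `K` is integral over `ℤ`. -/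
theorem isIntegral_of_nil (P : PosStructure K) (hnil : ∀ x : K, P.aug x = 0 → IsNilpotent x)
    (y : K) : IsIntegral ℤ y := by
  have h1 : IsNilpotent (y - ((P.aug y : ℤ) : K)) := hnil _ (by simp)
  obtain ⟨n, hn⟩ := h1
  have h2 : IsIntegral ℤ (y - ((P.aug y : ℤ) : K)) := by
    rcases Nat.eq_zero_or_pos n with h0 | hpos
    · rw [h0, pow_zero] at hn
      have : (y - ((P.aug y : ℤ) : K)) = 0 := by
        have := congrArg (fun t => (y - ((P.aug y : ℤ) : K)) * t) hn
        simpa using this
      rw [this]; exact isIntegral_zero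
    · apply IsIntegral.of_pow hpos
      rw [hn]; exact isIntegral_zero
  have h3 : IsIntegral ℤ (((P.aug y : ℤ) : K)) := by
    have := isIntegral_algebraMap (R := ℤ) (A := K) (x := P.aug y)
    simpa using this
  have := h2.add h3
  simpa using this

/-- Nil augmentation ideal + finite generating set: the generated subring is a finitely generated
abelian group and its augmentation ideal is nilpotent. -/
theorem subring_closure_fg_nilpotent (P : PosStructure K)
    (hnil : ∀ x : K, P.aug x = 0 → IsNilpotent x) (S : Set K) (hS : S.Finite) :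
    (∃ n : ℕ, ∀ f : Fin n → K, (∀ t : Fin n, f t ∈ Subring.closure S ∧ P.aug (f t) = 0) →
        ∏ t, f t = 0) ∧ (Subring.closure S).toAddSubgroup.FG := by
  have hint : ∀ x ∈ S, IsIntegral ℤ x := fun x _ => isIntegral_of_nil P hnil x
  haveI hfin : Module.Finite ℤ (Algebra.adjoin ℤ S) :=
    Algebra.finite_adjoin_of_finite_of_isIntegral hS hint
  have hfg : (Algebra.adjoin ℤ S).toSubmodule.FG := fg_adjoin_of_finite hS hint
  have hmem : ∀ y : K, y ∈ Subring.closure S ↔ y ∈ Algebra.adjoin ℤ S := by
    intro y
    rw [Algebra.adjoin_int]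
    rfl
  constructor
  · haveI : IsNoetherian ℤ (Algebra.adjoin ℤ S) := isNoetherian_of_isNoetherianRing_of_finite ℤ _
    haveI : IsNoetherianRing (Algebra.adjoin ℤ S) := isNoetherian_of_tower ℤ inferInstance
    obtain ⟨n, hn⟩ := IsNoetherianRing.isNilpotent_nilradical (Algebra.adjoin ℤ S)
    refine ⟨n, fun f hf => ?_⟩
    let g : Fin n → Algebra.adjoin ℤ S := fun t => ⟨f t, (hmem _).1 (hf t).1⟩
    have hg : ∀ t, g t ∈ nilradical (Algebra.adjoin ℤ S) := by
      intro t
      rw [mem_nilradical]
      obtain ⟨a, ha⟩ := hnil (f t) (hf t).2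
      exact ⟨a, Subtype.ext (by simpa using ha)⟩
    have h1 : ∏ t, g t ∈ (nilradical (Algebra.adjoin ℤ S)) ^ n := by
      have := Ideal.prod_mem_prod (s := Finset.univ) (I := fun _ : Fin n => nilradical (Algebra.adjoin ℤ S))
        (x := g) (fun t _ => hg t)
      simpa using this
    rw [hn] at h1
    have h2 : ∏ t, g t = 0 := h1
    have h3 := congrArg (fun z : Algebra.adjoin ℤ S => (z : K)) h2
    simpa [g] using h3
  · rw [Submodule.fg_iff_addSubgroup_fg] at hfg
    have : (Algebra.adjoin ℤ S).toSubmodule.toAddSubgroup = (Subring.closure S).toAddSubgroup := by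
      ext y
      exact (hmem y).symm
    rwa [this] at hfg

end Groth.Agent.Lib.AmpleNil
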