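import Mathlib
import Groth.Prelude
import Groth.Agent.Lib.AmpleK2_helper6
import Groth.Agent.Lib.AmpleNil_helper6
import Groth.Agent.Lib.AmpleNil2_helper6

/-!
# Ample invertible modules and K₀ of vector bundles, III (helper6)

`isZero_of_rank_zero`, `lam_cl_eq_zero_of_lt`, `main8693` (S8693).
APPEND-ONLY once landed.
-/

set_option autoImplicit false
set_option linter.all false
set_option maxHeartbeats 1600000

universe v u

noncomputable section

namespace Groth.Agent.Lib.AmpleK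

open CategoryTheory CategoryTheory.Limits AlgebraicGeometry TopologicalSpace Opposite
open KRR ZeroObject QcqsLoc

variable {X : Scheme.{u}}

/-- a module which is finite locally free of rank zero is zero. -/
theorem isZero_of_rank_zero {G : X.Modules} (hG : FlatMod.IsFinLocFreeOfRank 0 G) : IsZero G := by
  rw [IsZero.iff_id_eq_zero]
  apply Scheme.Modules.hom_ext
  intro W
  ext s
  show s = 0
  apply eq_zero_of_cover G s
  intro x hx
  obtain ⟨U, hxU, ⟨α⟩⟩ := hG x
  have hle : U.ι ''ᵁ (U.ι ⁻¹ᵁ W) ≤ W := by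
    rintro _ ⟨y, hy, rfl⟩
    exact hy
  have hxm : x ∈ U.ι ''ᵁ (U.ι ⁻¹ᵁ W) := ⟨⟨x, hxU⟩, hx, rfl⟩
  refine ⟨U.ι ''ᵁ (U.ι ⁻¹ᵁ W), hle, hxm, ?_⟩
  have hz0 : IsZero (FlatMod.freeMod (↑U) 0) := by
    rw [IsZero.iff_id_eq_zero]
    apply Sigma.hom_ext
    intro j
    exact j.elim0
  have hz : IsZero (G.restrict U.ι) := IsZero.of_iso hz0 α
  have h1 : (𝟙 (G.restrict U.ι) : G.restrict U.ι ⟶ G.restrict U.ι) = 0 := hz.eq_of_src _ _
  have h2 := congrArg (fun φ : G.restrict U.ι ⟶ G.restrict U.ι =>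
    (φ.app (U.ι ⁻¹ᵁ W)).hom (rF G hle s)) h1
  exact h2

section Model

open LambdaRing Groth.Agent.Lib.LambdaRingH1

variable {K : Type v} [CommRing K] [LambdaRing.LambdaOps K] {Pos : LambdaRing.PosStructure K}
  {φ : SGA6.Kvb X →+ K} (hK : KRR.IsModel X K Pos φ)

include hK

theorem lam_cl_eq_zero_of_lt [ConnectedSpace X] (E : X.Modules) (hE : FlatMod.IsFinLocFree E) :
    ∃ r : ℕ, ∀ j, r < j → LambdaOps.lam j (φ (cl X E)) = 0 := by
  obtain ⟨r, hr⟩ := exists_rank_of_connected hE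
  refine ⟨r, fun j hj => ?_⟩
  rcases Nat.eq_zero_or_pos r with h0 | hpos
  · subst h0
    rw [cl_isZero (isZero_of_rank_zero hr), map_zero]
    have := congrArg (PowerSeries.coeff j) (lamSeries_zero (K := K))
    rw [coeff_lamSeries, PowerSeries.coeff_one, if_neg (by omega)] at this
    exact this
  · have hpos' : φ (cl X E) ∈ Pos.pos := (hK.mem_pos_iff _).2 ⟨r, E, hpos, hr, rfl⟩
    refine Pos.lam_eq_zero _ hpos' j ?_
    rw [hK.aug_cl r E hr]
    exact_mod_cast hj

/-- **S8693**. -/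
theorem main8693 [ConnectedSpace X] (L : X.Modules) (hL : CohB1.IsAmple L)
    (k : ℕ) (E : Fin k → X.Modules) (hE : ∀ i : Fin k, FlatMod.IsFinLocFree (E i)) :
    (∃ n : ℕ, ∀ f : Fin n → K,
      (∀ t : Fin n, f t ∈ Subring.closure {y : K | ∃ (i : Fin k) (j : ℕ),
        y = LambdaRing.LambdaOps.lam j (φ (KRR.cl X (E i)))} ∧ Pos.aug (f t) = 0) →
        ∏ t, f t = 0) ∧
    (Subring.closure {y : K | ∃ (i : Fin k) (j : ℕ),
      y = LambdaRing.LambdaOps.lam j (φ (KRR.cl X (E i)))}).toAddSubgroup.FG := by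
  have hnil : ∀ x : K, Pos.aug x = 0 → IsNilpotent x := fun x hx =>
    Groth.Agent.Lib.AmpleNil.isNilpotent_of_aug_eq_zero Pos _ (main hK L hL) x hx
  have hS : {y : K | ∃ (i : Fin k) (j : ℕ),
      y = LambdaRing.LambdaOps.lam j (φ (KRR.cl X (E i)))}.Finite := by
    choose r hr using fun i => lam_cl_eq_zero_of_lt hK (E i) (hE i)
    have hsub : {y : K | ∃ (i : Fin k) (j : ℕ),
        y = LambdaRing.LambdaOps.lam j (φ (KRR.cl X (E i)))} ⊆
        {0} ∪ ⋃ i, (fun j => LambdaOps.lam j (φ (cl X (E i)))) '' (Set.Iic (r i)) := by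
      rintro y ⟨i, j, rfl⟩
      rcases le_or_gt j (r i) with h | h
      · right
        exact Set.mem_iUnion.2 ⟨i, j, h, rfl⟩
      · left
        exact hr i j h
    exact ((Set.finite_singleton 0).union
      (Set.finite_iUnion fun i => (Set.finite_Iic _).image _)).subset hsub
  exact Groth.Agent.Lib.AmpleNil.subring_closure_fg_nilpotent Pos hnil _ hS

end Model

end Groth.Agent.Lib.AmpleK
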