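import Mathlib

/-!
# Density of Zariski-open subsets of irreducible complex affine varieties in the complex topology
(helper1).  Pure Mathlib: polynomial ideals in `ℂ[X_1..X_N]` and their zero sets in `ℂ^N`.
-/

set_option autoImplicit false
set_option maxHeartbeats 1000000

namespace Groth.Agent.Lib.AnDenseH1

/-- Polynomial ring in `n` variables over `ℂ`. -/
abbrev Pol (n : ℕ) : Type := MvPolynomial (Fin n) ℂ

section analytic

/-- A nonzero polynomial does not vanish identically near any point. -/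
lemma exists_near_eval_ne_zero {d : ℕ} (g : Pol d) (hg : g ≠ 0) (y : Fin d → ℂ) {δ : ℝ}
    (hδ : 0 < δ) : ∃ y' : Fin d → ℂ, dist y' y < δ ∧ MvPolynomial.eval y' g ≠ 0 := by
  by_contra hcon
  push Not at hcon
  have han : AnalyticOnNhd ℂ (fun x : Fin d → ℂ => MvPolynomial.eval x g) Set.univ :=
    AnalyticOnNhd.eval_mvPolynomial g
  have hev : (fun x : Fin d → ℂ => MvPolynomial.eval x g) =ᶠ[nhds y] 0 := by
    filter_upwards [Metric.ball_mem_nhds y hδ] with y' hy'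
    exact hcon y' hy'
  have hzero := han.eqOn_zero_of_preconnected_of_eventuallyEq_zero isPreconnected_univ
    (Set.mem_univ y) hev
  apply hg
  apply MvPolynomial.funext
  intro x
  rw [map_zero]
  exact hzero (Set.mem_univ x)

/-- Cauchy's bound for the roots of a monic polynomial. -/
lemma cauchy_bound (q : Polynomial ℂ) (hq : q.Monic) (M : ℝ)
    (hM : ∀ i < q.natDegree, ‖q.coeff i‖ ≤ M) (t : ℂ) (ht : q.IsRoot t) :
    ‖t‖ ≤ 1 + q.natDegree * M := by
  obtain ⟨e, he⟩ : ∃ e, e = q.natDegree := ⟨_, rfl⟩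
  rw [← he] at hM ⊢
  rcases Nat.eq_zero_or_pos e with h0 | hpos
  · exfalso
    have h1 : q = 1 := hq.natDegree_eq_zero.mp (he ▸ h0)
    rw [h1] at ht
    simp [Polynomial.IsRoot] at ht
  have hM0 : 0 ≤ M := (norm_nonneg _).trans (hM 0 hpos)
  by_cases h1 : ‖t‖ ≤ 1
  · have : 0 ≤ (e : ℝ) * M := mul_nonneg (Nat.cast_nonneg _) hM0
    linarith
  push Not at h1
  have hev : Polynomial.eval t q = 0 := ht
  rw [Polynomial.eval_eq_sum_range, ← he, Finset.sum_range_succ] at hev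
  have hlead : q.coeff e = 1 := by rw [he]; exact hq.coeff_natDegree
  rw [hlead, one_mul] at hev
  have hte : t ^ e = -∑ i ∈ Finset.range e, q.coeff i * t ^ i := by
    rw [eq_neg_iff_add_eq_zero, add_comm]; exact hev
  have hnorm : ‖t‖ ^ e ≤ (e : ℝ) * M * ‖t‖ ^ (e - 1) := by
    calc ‖t‖ ^ e = ‖t ^ e‖ := (norm_pow t e).symm
      _ = ‖∑ i ∈ Finset.range e, q.coeff i * t ^ i‖ := by rw [hte, norm_neg]
      _ ≤ ∑ i ∈ Finset.range e, ‖q.coeff i * t ^ i‖ := norm_sum_le _ _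
      _ ≤ ∑ _i ∈ Finset.range e, M * ‖t‖ ^ (e - 1) := by
          refine Finset.sum_le_sum fun i hi => ?_
          have hi' : i < e := Finset.mem_range.mp hi
          rw [norm_mul, norm_pow]
          refine mul_le_mul (hM i hi') ?_ (pow_nonneg (norm_nonneg _) _) hM0
          exact pow_le_pow_right₀ h1.le (by omega)
      _ = (e : ℝ) * M * ‖t‖ ^ (e - 1) := by
          rw [Finset.sum_const, Finset.card_range, nsmul_eq_mul]; ring
  have hpow : 0 < ‖t‖ ^ (e - 1) := pow_pos (lt_trans zero_lt_one h1) _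
  have hsplit : ‖t‖ ^ e = ‖t‖ * ‖t‖ ^ (e - 1) := by
    rw [← pow_succ']
    congr 1
    omega
  rw [hsplit] at hnorm
  have : ‖t‖ ≤ (e : ℝ) * M := le_of_mul_le_mul_right hnorm hpow
  linarith

/-- A monic complex polynomial with small constant coefficient has a small root. -/
lemma exists_root_norm_lt (q : Polynomial ℂ) (hq : q.Monic) (he : 0 < q.natDegree) {δ : ℝ}
    (hδ : 0 ≤ δ) (h0 : ‖q.coeff 0‖ < δ ^ q.natDegree) : ∃ t, q.IsRoot t ∧ ‖t‖ < δ := by
  by_contra hcon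
  push Not at hcon
  have hsp : q.Splits := IsAlgClosed.splits q
  have hc0 := hsp.coeff_zero_eq_prod_roots_of_monic hq
  have hcard : q.natDegree = q.roots.card := hsp.natDegree_eq_card_roots
  have hprod : ∀ s : Multiset ℂ, (∀ t ∈ s, δ ≤ ‖t‖) → δ ^ s.card ≤ ‖s.prod‖ := by
    intro s
    induction s using Multiset.induction_on with
    | empty => intro _; simp
    | cons a s ih =>
      intro hs
      rw [Multiset.card_cons, Multiset.prod_cons, norm_mul, pow_succ']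
      have ha : δ ≤ ‖a‖ := hs a (Multiset.mem_cons_self a s)
      have hs' : ∀ t ∈ s, δ ≤ ‖t‖ := fun t ht => hs t (Multiset.mem_cons_of_mem ht)
      exact mul_le_mul ha (ih hs') (pow_nonneg hδ _) (hδ.trans ha)
  have h1 : δ ^ q.roots.card ≤ ‖q.roots.prod‖ := by
    apply hprod
    intro t ht
    have hroot : q.IsRoot t := (Polynomial.mem_roots hq.ne_zero).mp ht
    exact hcon t hroot
  have h2 : ‖q.coeff 0‖ = ‖q.roots.prod‖ := by
    rw [hc0, norm_mul, norm_pow, norm_neg, norm_one, one_pow, one_mul]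
  rw [h2, hcard] at h0
  exact absurd h1 (not_le.mpr h0)

end analytic

section algebra

/-- Nullstellensatz: maximal ideals of finitely generated `ℂ`-algebras are kernels of points. -/
lemma exists_algHom_ker_eq (R : Type) [CommRing R] [Algebra ℂ R] [Algebra.FiniteType ℂ R]
    (Q : Ideal R) [Q.IsMaximal] : ∃ φ : R →ₐ[ℂ] ℂ, RingHom.ker φ = Q := by
  letI : Field (R ⧸ Q) := Ideal.Quotient.field Q
  haveI : Algebra.FiniteType ℂ (R ⧸ Q) :=
    Algebra.FiniteType.of_surjective (Ideal.Quotient.mkₐ ℂ Q) (Ideal.Quotient.mkₐ_surjective ℂ Q)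
  haveI : Module.Finite ℂ (R ⧸ Q) := finite_of_finite_type_of_isJacobsonRing ℂ (R ⧸ Q)
  haveI : Algebra.IsIntegral ℂ (R ⧸ Q) := Algebra.IsIntegral.of_finite ℂ (R ⧸ Q)
  have hbij : Function.Bijective (algebraMap ℂ (R ⧸ Q)) :=
    IsAlgClosed.algebraMap_bijective_of_isIntegral
  let e : ℂ ≃ₐ[ℂ] (R ⧸ Q) := AlgEquiv.ofBijective (Algebra.ofId ℂ (R ⧸ Q)) hbij
  refine ⟨e.symm.toAlgHom.comp (Ideal.Quotient.mkₐ ℂ Q), ?_⟩
  ext r
  rw [RingHom.mem_ker]
  show e.symm (Ideal.Quotient.mk Q r) = 0 ↔ r ∈ Q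
  rw [map_eq_zero_iff e.symm e.symm.injective, Ideal.Quotient.eq_zero_iff_mem]

/-- Lifting roots of the minimal polynomial to points (going-down for finite extensions of
polynomial rings). -/
lemma exists_algHom_lift {d : ℕ} {R : Type} [CommRing R] [IsDomain R] [Algebra ℂ R]
    [Algebra.FiniteType ℂ R] [Algebra (Pol d) R] [IsScalarTower ℂ (Pol d) R]
    [Algebra.IsIntegral (Pol d) R] [FaithfulSMul (Pol d) R]
    (F : R) (y' : Fin d → ℂ) (t' : ℂ)
    (ht : Polynomial.eval t' ((minpoly (Pol d) F).map (MvPolynomial.eval y')) = 0) :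
    ∃ φ : R →ₐ[ℂ] ℂ, (∀ b : Pol d, φ (algebraMap (Pol d) R b) = MvPolynomial.eval y' b) ∧
      φ F = t' := by
  obtain ⟨p, hp⟩ : ∃ p, p = minpoly (Pol d) F := ⟨_, rfl⟩
  rw [← hp] at ht
  have hFint : IsIntegral (Pol d) F := Algebra.IsIntegral.isIntegral F
  have hpF : p.eval₂ (algebraMap (Pol d) R) F = 0 := by
    rw [hp, ← Polynomial.aeval_def]; exact minpoly.aeval _ _
  obtain ⟨θ, hθ⟩ : ∃ θ : AdjoinRoot p →+* R, θ = AdjoinRoot.lift (algebraMap (Pol d) R) F hpF :=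
    ⟨_, rfl⟩
  have hθof : ∀ b : Pol d, θ (AdjoinRoot.of p b) = algebraMap (Pol d) R b := fun b => by
    rw [hθ]; exact AdjoinRoot.lift_of hpF
  have hθroot : θ (AdjoinRoot.root p) = F := by rw [hθ]; exact AdjoinRoot.lift_root hpF
  have hθinj : Function.Injective θ := by
    rw [injective_iff_map_eq_zero]
    intro a ha
    obtain ⟨q, rfl⟩ := AdjoinRoot.mk_surjective a
    rw [hθ, AdjoinRoot.lift_mk, ← Polynomial.aeval_def] at ha
    rw [AdjoinRoot.mk_eq_zero, hp]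
    exact minpoly.isIntegrallyClosed_dvd hFint ha
  have hψ0 : p.eval₂ (MvPolynomial.eval y') t' = 0 := by
    rw [Polynomial.eval₂_eq_eval_map]; exact ht
  obtain ⟨ψ, hψ⟩ : ∃ ψ : AdjoinRoot p →+* ℂ, ψ = AdjoinRoot.lift (MvPolynomial.eval y') t' hψ0 :=
    ⟨_, rfl⟩
  have hψof : ∀ b : Pol d, ψ (AdjoinRoot.of p b) = MvPolynomial.eval y' b := fun b => by
    rw [hψ]; exact AdjoinRoot.lift_of hψ0
  have hψroot : ψ (AdjoinRoot.root p) = t' := by rw [hψ]; exact AdjoinRoot.lift_root hψ0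
  have hψsurj : Function.Surjective ψ := fun c =>
    ⟨AdjoinRoot.of p (MvPolynomial.C c), by rw [hψof, MvPolynomial.eval_C]⟩
  haveI hmax : (RingHom.ker ψ).IsMaximal := RingHom.ker_isMaximal_of_surjective ψ hψsurj
  letI : Algebra (AdjoinRoot p) R := θ.toAlgebra
  haveI : IsScalarTower (Pol d) (AdjoinRoot p) R :=
    IsScalarTower.of_algebraMap_eq fun b => (hθof b).symm
  haveI : Algebra.IsIntegral (AdjoinRoot p) R := Algebra.IsIntegral.tower_top (Pol d)
  have hker : RingHom.ker (algebraMap (AdjoinRoot p) R) ≤ RingHom.ker ψ := by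
    have : RingHom.ker (algebraMap (AdjoinRoot p) R) = ⊥ :=
      (RingHom.injective_iff_ker_eq_bot _).mp hθinj
    rw [this]; exact bot_le
  obtain ⟨Q, hQmax, hQ⟩ := Ideal.exists_ideal_over_maximal_of_isIntegral (S := R)
    (RingHom.ker ψ) hker
  obtain ⟨φ, hφ⟩ := exists_algHom_ker_eq R Q
  have hcomp : ∀ a : AdjoinRoot p, φ (θ a) = ψ a := by
    intro a
    have h1 : a - AdjoinRoot.of p (MvPolynomial.C (ψ a)) ∈ RingHom.ker ψ := by
      rw [RingHom.mem_ker, map_sub, hψof, MvPolynomial.eval_C, sub_self]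
    rw [← hQ, Ideal.mem_comap] at h1
    have h2 : θ (a - AdjoinRoot.of p (MvPolynomial.C (ψ a))) ∈ RingHom.ker φ := by
      rw [hφ]; exact h1
    rw [RingHom.mem_ker, map_sub, map_sub, sub_eq_zero, hθof] at h2
    rw [h2]
    have h3 : algebraMap (Pol d) R (MvPolynomial.C (ψ a)) = algebraMap ℂ R (ψ a) := by
      rw [IsScalarTower.algebraMap_apply ℂ (Pol d) R, MvPolynomial.algebraMap_eq]
    rw [h3, AlgHom.commutes]
    rfl
  refine ⟨φ, fun b => ?_, ?_⟩
  · rw [← hθof, hcomp, hψof]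
  · rw [← hθroot, hcomp, hψroot]

end algebra

section zset

variable {N : ℕ}

/-- The zero set in `ℂ^N` of an ideal of polynomials. -/
def ZSet (𝔞 : Ideal (Pol N)) : Set (Fin N → ℂ) := {v | ∀ q ∈ 𝔞, MvPolynomial.eval v q = 0}

lemma isClosed_ZSet (𝔞 : Ideal (Pol N)) : IsClosed (ZSet 𝔞) := by
  have : ZSet 𝔞 = ⋂ q ∈ (𝔞 : Set (Pol N)), {v | MvPolynomial.eval v q = 0} := by
    ext v
    simp only [ZSet, Set.mem_iInter, SetLike.mem_coe]
    rfl
  rw [this]
  exact isClosed_biInter fun q _ => isClosed_eq (MvPolynomial.continuous_eval q) continuous_const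

/-- The point of `Pol N ⧸ 𝔞` attached to a point of the zero set. -/
noncomputable def algHomOf (𝔞 : Ideal (Pol N)) (v : Fin N → ℂ) (hv : v ∈ ZSet 𝔞) :
    (Pol N ⧸ 𝔞) →ₐ[ℂ] ℂ :=
  Ideal.Quotient.liftₐ 𝔞 (MvPolynomial.aeval v) (fun q hq => hv q hq)

lemma algHomOf_mk (𝔞 : Ideal (Pol N)) (v : Fin N → ℂ) (hv : v ∈ ZSet 𝔞) (q : Pol N) :
    algHomOf 𝔞 v hv (Ideal.Quotient.mk 𝔞 q) = MvPolynomial.eval v q := rfl

/-- The point of the zero set attached to a point of `Pol N ⧸ 𝔞`. -/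
noncomputable def pointOf (𝔞 : Ideal (Pol N)) (φ : (Pol N ⧸ 𝔞) →ₐ[ℂ] ℂ) : Fin N → ℂ :=
  fun k => φ (Ideal.Quotient.mk 𝔞 (MvPolynomial.X k))

lemma eval_pointOf (𝔞 : Ideal (Pol N)) (φ : (Pol N ⧸ 𝔞) →ₐ[ℂ] ℂ) (q : Pol N) :
    MvPolynomial.eval (pointOf 𝔞 φ) q = φ (Ideal.Quotient.mk 𝔞 q) := by
  have h : (MvPolynomial.aeval (pointOf 𝔞 φ) : Pol N →ₐ[ℂ] ℂ) =
      φ.comp (Ideal.Quotient.mkₐ ℂ 𝔞) := by
    apply MvPolynomial.algHom_ext
    intro k
    rw [MvPolynomial.aeval_X]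
    rfl
  exact congrArg (fun ψ : Pol N →ₐ[ℂ] ℂ => ψ q) h

lemma pointOf_mem (𝔞 : Ideal (Pol N)) (φ : (Pol N ⧸ 𝔞) →ₐ[ℂ] ℂ) : pointOf 𝔞 φ ∈ ZSet 𝔞 := by
  intro q hq
  rw [eval_pointOf, Ideal.Quotient.eq_zero_iff_mem.mpr hq, map_zero]

end zset

end Groth.Agent.Lib.AnDenseH1
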