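import Mathlib
import Groth.Agent.Lib.AnDense1_helper1

/-!
# Density of Zariski-open subsets of complex affine varieties in the complex topology, part 2
(helper1): finite surjective maps onto affine space are open at every point, and consequences.
-/

set_option autoImplicit false
set_option maxHeartbeats 2000000

namespace Groth.Agent.Lib.AnDenseH1

section setup

variable {N d : ℕ} (𝔞 : Ideal (Pol N))
  [Algebra (Pol d) (Pol N ⧸ 𝔞)] [IsScalarTower ℂ (Pol d) (Pol N ⧸ 𝔞)]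

/-- The polynomial map `ℂ^N → ℂ^d` with components `Y`. -/
noncomputable def proj (Y : Fin d → Pol N) (w : Fin N → ℂ) : Fin d → ℂ := fun k => MvPolynomial.eval w (Y k)

lemma continuous_proj (Y : Fin d → Pol N) : Continuous (proj Y) :=
  continuous_pi fun k => MvPolynomial.continuous_eval (Y k)

lemma eval_algebraMap (Y : Fin d → Pol N)
    (hY : ∀ k, Ideal.Quotient.mk 𝔞 (Y k) = algebraMap (Pol d) (Pol N ⧸ 𝔞) (MvPolynomial.X k))
    (w : Fin N → ℂ) (hw : w ∈ ZSet 𝔞) (b : Pol d) :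
    algHomOf 𝔞 w hw (algebraMap (Pol d) (Pol N ⧸ 𝔞) b) = MvPolynomial.eval (proj Y w) b := by
  have h : ((algHomOf 𝔞 w hw : (Pol N ⧸ 𝔞) →+* ℂ).comp (algebraMap (Pol d) (Pol N ⧸ 𝔞))) =
      MvPolynomial.eval (proj Y w) := by
    apply MvPolynomial.ringHom_ext
    · intro c
      have h3 : algebraMap (Pol d) (Pol N ⧸ 𝔞) (MvPolynomial.C c) =
          algebraMap ℂ (Pol N ⧸ 𝔞) c := by
        rw [IsScalarTower.algebraMap_apply ℂ (Pol d) (Pol N ⧸ 𝔞), MvPolynomial.algebraMap_eq]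
      rw [RingHom.comp_apply, h3, MvPolynomial.eval_C]
      exact (algHomOf 𝔞 w hw).commutes c
    · intro k
      rw [RingHom.comp_apply, ← hY k, MvPolynomial.eval_X]
      exact algHomOf_mk 𝔞 w hw (Y k)
  exact RingHom.congr_fun h b

lemma root_of_aeval (Y : Fin d → Pol N)
    (hY : ∀ k, Ideal.Quotient.mk 𝔞 (Y k) = algebraMap (Pol d) (Pol N ⧸ 𝔞) (MvPolynomial.X k))
    (w : Fin N → ℂ) (hw : w ∈ ZSet 𝔞) (r : Pol N ⧸ 𝔞) (Q : Polynomial (Pol d))
    (hQ : Polynomial.aeval r Q = 0) :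
    Polynomial.eval (algHomOf 𝔞 w hw r) (Q.map (MvPolynomial.eval (proj Y w))) = 0 := by
  have h1 : (algHomOf 𝔞 w hw : (Pol N ⧸ 𝔞) →+* ℂ)
      (Q.eval₂ (algebraMap (Pol d) (Pol N ⧸ 𝔞)) r) = 0 := by
    rw [← Polynomial.aeval_def, hQ, map_zero]
  rw [Polynomial.hom_eval₂] at h1
  have h2 : ((algHomOf 𝔞 w hw : (Pol N ⧸ 𝔞) →+* ℂ).comp (algebraMap (Pol d) (Pol N ⧸ 𝔞))) =
      MvPolynomial.eval (proj Y w) :=
    RingHom.ext fun b => eval_algebraMap 𝔞 Y hY w hw b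
  rw [h2] at h1
  rw [Polynomial.eval_map]
  exact h1

/-- A finite injective map from a polynomial ring: the induced map on points is open at every
point of the zero set. -/
theorem liftNear [𝔞.IsPrime] [Algebra.IsIntegral (Pol d) (Pol N ⧸ 𝔞)]
    [FaithfulSMul (Pol d) (Pol N ⧸ 𝔞)] (Y : Fin d → Pol N)
    (hY : ∀ k, Ideal.Quotient.mk 𝔞 (Y k) = algebraMap (Pol d) (Pol N ⧸ 𝔞) (MvPolynomial.X k))
    (v : Fin N → ℂ) (hv : v ∈ ZSet 𝔞) {ε : ℝ} (hε : 0 < ε) :
    ∃ δ > 0, ∀ y' : Fin d → ℂ, dist y' (proj Y v) < δ →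
      ∃ v' : Fin N → ℂ, v' ∈ ZSet 𝔞 ∧ proj Y v' = y' ∧ dist v' v < ε := by
  classical
  haveI : IsDomain (Pol N ⧸ 𝔞) := Ideal.Quotient.isDomain 𝔞
  haveI : Algebra.FiniteType ℂ (Pol N ⧸ 𝔞) :=
    Algebra.FiniteType.of_surjective (Ideal.Quotient.mkₐ ℂ 𝔞) (Ideal.Quotient.mkₐ_surjective ℂ 𝔞)
  obtain ⟨y, hy⟩ : ∃ y, y = proj Y v := ⟨_, rfl⟩
  rw [← hy]
  have hπc : Continuous (proj Y) := continuous_proj Y
  -- minimal polynomials of the coordinates
  obtain ⟨Q, hQdef⟩ : ∃ Q : Fin N → Polynomial (Pol d), Q = fun k =>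
      minpoly (Pol d) (Ideal.Quotient.mk 𝔞 (MvPolynomial.X k : Pol N)) := ⟨_, rfl⟩
  have hQm : ∀ k, (Q k).Monic := fun k => by
    rw [hQdef]; exact minpoly.monic (Algebra.IsIntegral.isIntegral _)
  have hQa : ∀ k, Polynomial.aeval (Ideal.Quotient.mk 𝔞 (MvPolynomial.X k : Pol N)) (Q k) = 0 :=
    fun k => by rw [hQdef]; exact minpoly.aeval _ _
  have hroot : ∀ w (_ : w ∈ ZSet 𝔞) k,
      Polynomial.eval (w k) ((Q k).map (MvPolynomial.eval (proj Y w))) = 0 := by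
    intro w hw k
    have := root_of_aeval 𝔞 Y hY w hw _ (Q k) (hQa k)
    rwa [algHomOf_mk, MvPolynomial.eval_X] at this
  -- finiteness of the fibre
  have hfin : {w | w ∈ ZSet 𝔞 ∧ proj Y w = y}.Finite := by
    have hsub : {w | w ∈ ZSet 𝔞 ∧ proj Y w = y} ⊆
        Set.pi Set.univ (fun k => {t | ((Q k).map (MvPolynomial.eval y)).IsRoot t}) := by
      rintro w ⟨hw, hwy⟩ k -
      have := hroot w hw k
      rw [hwy] at this
      exact this
    refine Set.Finite.subset (Set.Finite.pi fun k => ?_) hsub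
    exact Polynomial.finite_setOfPred_isRoot ((hQm k).map _).ne_zero
  -- a linear functional separating `v` from the rest of its fibre
  obtain ⟨ℓ, hℓ⟩ : ∃ ℓ : Module.Dual ℂ (Fin N → ℂ),
      ∀ w, w ∈ ZSet 𝔞 → proj Y w = y → w ≠ v → ℓ (w - v) ≠ 0 := by
    have hfin' : {w | (w ∈ ZSet 𝔞 ∧ proj Y w = y) ∧ w ≠ v}.Finite :=
      hfin.subset (fun w hw => hw.1)
    haveI : Finite {w | (w ∈ ZSet 𝔞 ∧ proj Y w = y) ∧ w ≠ v} := hfin'.to_subtype
    obtain ⟨ℓ, hℓ⟩ := Module.exists_dual_forall_apply_ne_zero (K := ℂ) (M := Fin N → ℂ)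
      (fun w : {w | (w ∈ ZSet 𝔞 ∧ proj Y w = y) ∧ w ≠ v} => (w : Fin N → ℂ) - v)
      (fun w => sub_ne_zero.mpr w.2.2)
    exact ⟨ℓ, fun w hw hwy hne => hℓ ⟨w, ⟨hw, hwy⟩, hne⟩⟩
  have hℓc : Continuous ℓ := LinearMap.continuous_of_finiteDimensional ℓ
  obtain ⟨L, hL⟩ : ∃ L : Pol N, ∀ w, MvPolynomial.eval w L = ℓ (w - v) := by
    refine ⟨∑ k : Fin N, MvPolynomial.C (ℓ (fun j => if k = j then 1 else 0)) *
      (MvPolynomial.X k - MvPolynomial.C (v k)), fun w => ?_⟩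
    rw [map_sum, LinearMap.pi_apply_eq_sum_univ ℓ (w - v)]
    refine Finset.sum_congr rfl fun k _ => ?_
    rw [map_mul, map_sub, MvPolynomial.eval_C, MvPolynomial.eval_X, MvPolynomial.eval_C,
      Pi.sub_apply, smul_eq_mul, mul_comm]
  obtain ⟨F, hF⟩ : ∃ F : Pol N ⧸ 𝔞, F = Ideal.Quotient.mk 𝔞 L := ⟨_, rfl⟩
  have hFint : IsIntegral (Pol d) F := Algebra.IsIntegral.isIntegral F
  obtain ⟨p, hp⟩ : ∃ p, p = minpoly (Pol d) F := ⟨_, rfl⟩
  have hpm : p.Monic := by rw [hp]; exact minpoly.monic hFint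
  have hpdeg : 0 < p.natDegree := by rw [hp]; exact minpoly.natDegree_pos hFint
  have hpa : Polynomial.aeval F p = 0 := by rw [hp]; exact minpoly.aeval _ _
  have hevF : ∀ w (hw : w ∈ ZSet 𝔞), algHomOf 𝔞 w hw F = ℓ (w - v) := fun w hw => by
    rw [hF, algHomOf_mk, hL]
  have hp0 : MvPolynomial.eval y (p.coeff 0) = 0 := by
    have h1 := root_of_aeval 𝔞 Y hY v hv F p hpa
    rw [hevF v hv, sub_self, map_zero, ← hy, ← Polynomial.coeff_zero_eq_eval_zero,
      Polynomial.coeff_map] at h1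
    exact h1
  -- compactness
  obtain ⟨δ₁, hδ₁pos, hδ₁⟩ : ∃ δ₁ > 0, ∀ w ∈ ZSet 𝔞, dist (proj Y w) y ≤ δ₁ →
      ‖ℓ (w - v)‖ ≤ δ₁ → dist w v < ε := by
    obtain ⟨C, hCdef⟩ : ∃ C : Set (Fin N → ℂ),
        C = {w | w ∈ ZSet 𝔞 ∧ dist (proj Y w) y ≤ 1 ∧ ε ≤ dist w v} := ⟨_, rfl⟩
    have hCclosed : IsClosed C := by
      rw [hCdef]
      exact (isClosed_ZSet 𝔞).inter ((isClosed_le (hπc.dist continuous_const) continuous_const).inter
        (isClosed_le continuous_const (continuous_id.dist continuous_const)))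
    have hCbdd : Bornology.IsBounded C := by
      obtain ⟨G, hG⟩ : ∃ G : (Fin d → ℂ) → ℝ, G = fun y' => ∑ k : Fin N,
          ∑ i ∈ Finset.range (Q k).natDegree, ‖MvPolynomial.eval y' ((Q k).coeff i)‖ := ⟨_, rfl⟩
      have hGc : Continuous G := by
        rw [hG]
        exact continuous_finsetSum _ fun k _ => continuous_finsetSum _ fun i _ =>
          (MvPolynomial.continuous_eval _).norm
      obtain ⟨M, hM⟩ := (isCompact_closedBall y 1).exists_bound_of_continuousOn hGc.continuousOn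
      have hM0 : 0 ≤ M := (norm_nonneg _).trans (hM y (Metric.mem_closedBall_self zero_le_one))
      rw [isBounded_iff_forall_norm_le]
      refine ⟨1 + (∑ k : Fin N, ((Q k).natDegree : ℝ)) * M, fun w hw => ?_⟩
      rw [hCdef] at hw
      obtain ⟨hwZ, hwy, -⟩ := hw
      have hsum0 : 0 ≤ (∑ k : Fin N, ((Q k).natDegree : ℝ)) * M :=
        mul_nonneg (Finset.sum_nonneg fun k _ => Nat.cast_nonneg _) hM0
      rw [pi_norm_le_iff_of_nonneg (by linarith)]
      intro k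
      have hmon := (hQm k).map (MvPolynomial.eval (proj Y w))
      have hdeg : ((Q k).map (MvPolynomial.eval (proj Y w))).natDegree = (Q k).natDegree :=
        (hQm k).natDegree_map _
      have hcoef : ∀ i < ((Q k).map (MvPolynomial.eval (proj Y w))).natDegree,
          ‖((Q k).map (MvPolynomial.eval (proj Y w))).coeff i‖ ≤ M := by
        intro i hi
        rw [hdeg] at hi
        rw [Polynomial.coeff_map]
        have hGw : ‖G (proj Y w)‖ ≤ M := hM _ (Metric.mem_closedBall.mpr hwy)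
        have h1 : ‖MvPolynomial.eval (proj Y w) ((Q k).coeff i)‖ ≤ G (proj Y w) := by
          rw [hG]
          have h2 : ‖MvPolynomial.eval (proj Y w) ((Q k).coeff i)‖ ≤
              ∑ i ∈ Finset.range (Q k).natDegree,
                ‖MvPolynomial.eval (proj Y w) ((Q k).coeff i)‖ :=
            Finset.single_le_sum
              (f := fun i => ‖MvPolynomial.eval (proj Y w) ((Q k).coeff i)‖)
              (fun i _ => norm_nonneg _) (Finset.mem_range.mpr hi)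
          refine h2.trans ?_
          exact Finset.single_le_sum
            (f := fun k => ∑ i ∈ Finset.range (Q k).natDegree,
              ‖MvPolynomial.eval (proj Y w) ((Q k).coeff i)‖)
            (fun k _ => Finset.sum_nonneg fun i _ => norm_nonneg _) (Finset.mem_univ k)
        exact h1.trans ((le_abs_self _).trans hGw)
      have hcb := cauchy_bound _ hmon M hcoef (w k) (hroot w hwZ k)
      rw [hdeg] at hcb
      refine hcb.trans ?_
      have h3 : ((Q k).natDegree : ℝ) ≤ ∑ k : Fin N, ((Q k).natDegree : ℝ) :=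
        Finset.single_le_sum (f := fun k => ((Q k).natDegree : ℝ))
          (fun k _ => Nat.cast_nonneg _) (Finset.mem_univ k)
      have h4 := mul_le_mul_of_nonneg_right h3 hM0
      linarith
    have hCcompact : IsCompact C := Metric.isCompact_of_isClosed_isBounded hCclosed hCbdd
    obtain ⟨Ψ, hΨ⟩ : ∃ Ψ : (Fin N → ℂ) → ℝ,
        Ψ = fun w => max (dist (proj Y w) y) ‖ℓ (w - v)‖ := ⟨_, rfl⟩
    have hΨc : Continuous Ψ := by
      rw [hΨ]
      exact (hπc.dist continuous_const).max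
        (hℓc.comp (continuous_id.sub continuous_const)).norm
    rcases C.eq_empty_or_nonempty with hCe | hCne
    · refine ⟨1, one_pos, fun w hw h1 _ => ?_⟩
      by_contra hcon
      push Not at hcon
      have : w ∈ C := by rw [hCdef]; exact ⟨hw, h1, hcon⟩
      rw [hCe] at this
      exact this
    · obtain ⟨w₀, hw₀C, hmin⟩ := hCcompact.exists_isMinOn hCne hΨc.continuousOn
      have hw₀ := hw₀C
      rw [hCdef] at hw₀
      obtain ⟨hw₀Z, hw₀y, hw₀ε⟩ := hw₀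
      have hμ : 0 < Ψ w₀ := by
        by_contra hcon
        push Not at hcon
        rw [hΨ] at hcon
        have h1 : dist (proj Y w₀) y ≤ 0 := (le_max_left _ _).trans hcon
        have h2 : ‖ℓ (w₀ - v)‖ ≤ 0 := (le_max_right _ _).trans hcon
        have h3 : proj Y w₀ = y := dist_le_zero.mp h1
        have h4 : ℓ (w₀ - v) = 0 := norm_le_zero_iff.mp h2
        have h5 : w₀ ≠ v := by
          intro h
          rw [h, dist_self] at hw₀ε
          linarith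
        exact hℓ w₀ hw₀Z h3 h5 h4
      refine ⟨min 1 (Ψ w₀ / 2), lt_min one_pos (half_pos hμ), fun w hw h1 h2 => ?_⟩
      by_contra hcon
      push Not at hcon
      have hwC : w ∈ C := by rw [hCdef]; exact ⟨hw, h1.trans (min_le_left _ _), hcon⟩
      have h3 : Ψ w₀ ≤ Ψ w := isMinOn_iff.mp hmin w hwC
      have h4 : Ψ w ≤ Ψ w₀ / 2 := by
        have hΨw : Ψ w = max (dist (proj Y w) y) ‖ℓ (w - v)‖ := by rw [hΨ]
        rw [hΨw]
        exact max_le (h1.trans (min_le_right _ _)) (h2.trans (min_le_right _ _))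
      linarith
  -- continuity of the constant coefficient
  obtain ⟨δ, hδpos, hδle, hδ⟩ : ∃ δ > 0, δ ≤ δ₁ ∧ ∀ y' : Fin d → ℂ, dist y' y < δ →
      ‖MvPolynomial.eval y' (p.coeff 0)‖ < δ₁ ^ p.natDegree := by
    have hc : Continuous (fun y' : Fin d → ℂ => MvPolynomial.eval y' (p.coeff 0)) :=
      MvPolynomial.continuous_eval _
    obtain ⟨δ', hδ'pos, hδ'⟩ := Metric.continuous_iff.mp hc y (δ₁ ^ p.natDegree)
      (pow_pos hδ₁pos _)
    refine ⟨min δ' δ₁, lt_min hδ'pos hδ₁pos, min_le_right _ _, fun y' hy' => ?_⟩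
    have := hδ' y' (lt_of_lt_of_le hy' (min_le_left _ _))
    rwa [hp0, dist_zero_right] at this
  refine ⟨δ, hδpos, fun y' hy' => ?_⟩
  obtain ⟨t', ht'root, ht'norm⟩ := exists_root_norm_lt (p.map (MvPolynomial.eval y'))
    (hpm.map _) (by rw [hpm.natDegree_map]; exact hpdeg) hδ₁pos.le
    (by rw [hpm.natDegree_map, Polynomial.coeff_map]; exact hδ y' hy')
  obtain ⟨φ', hφ'b, hφ'F⟩ := exists_algHom_lift (R := Pol N ⧸ 𝔞) F y' t'
    (by rw [← hp]; exact ht'root)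
  have hv'mem := pointOf_mem 𝔞 φ'
  have hproj : proj Y (pointOf 𝔞 φ') = y' := by
    funext k
    show MvPolynomial.eval (pointOf 𝔞 φ') (Y k) = y' k
    rw [eval_pointOf, hY k, hφ'b, MvPolynomial.eval_X]
  refine ⟨pointOf 𝔞 φ', hv'mem, hproj, ?_⟩
  apply hδ₁ _ hv'mem
  · rw [hproj]; exact (hy'.trans_le hδle).le
  · rw [← hL, eval_pointOf, ← hF, hφ'F]; exact ht'norm.le

end setup

section main

variable {N : ℕ}

/-- Key lemma: on the zero set of a prime ideal, the non-vanishing locus of a polynomial outside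
the ideal is dense for the complex topology. -/
theorem exists_near_ne_zero_of_prime (𝔞 : Ideal (Pol N)) [𝔞.IsPrime] (H : Pol N) (hH : H ∉ 𝔞)
    (v : Fin N → ℂ) (hv : v ∈ ZSet 𝔞) {ε : ℝ} (hε : 0 < ε) :
    ∃ v' ∈ ZSet 𝔞, dist v' v < ε ∧ MvPolynomial.eval v' H ≠ 0 := by
  haveI : IsDomain (Pol N ⧸ 𝔞) := Ideal.Quotient.isDomain 𝔞
  haveI : Algebra.FiniteType ℂ (Pol N ⧸ 𝔞) :=
    Algebra.FiniteType.of_surjective (Ideal.Quotient.mkₐ ℂ 𝔞) (Ideal.Quotient.mkₐ_surjective ℂ 𝔞)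
  obtain ⟨d, ι, hinj, hint⟩ := exists_integral_inj_algHom_of_fg ℂ (Pol N ⧸ 𝔞)
  letI : Algebra (Pol d) (Pol N ⧸ 𝔞) := ι.toRingHom.toAlgebra
  haveI : IsScalarTower ℂ (Pol d) (Pol N ⧸ 𝔞) :=
    IsScalarTower.of_algebraMap_eq fun c => (ι.commutes c).symm
  haveI : Algebra.IsIntegral (Pol d) (Pol N ⧸ 𝔞) := ⟨hint⟩
  haveI : FaithfulSMul (Pol d) (Pol N ⧸ 𝔞) :=
    (faithfulSMul_iff_algebraMap_injective _ _).mpr hinj
  choose Y hY using fun k : Fin d =>
    Ideal.Quotient.mk_surjective (I := 𝔞) (ι (MvPolynomial.X k))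
  have hY' : ∀ k, Ideal.Quotient.mk 𝔞 (Y k) =
      algebraMap (Pol d) (Pol N ⧸ 𝔞) (MvPolynomial.X k) := hY
  obtain ⟨δ, hδpos, hδ⟩ := liftNear 𝔞 Y hY' v hv hε
  have hHne : Ideal.Quotient.mk 𝔞 H ≠ 0 := fun h => hH (Ideal.Quotient.eq_zero_iff_mem.mp h)
  have hcomap := Ideal.comap_ne_bot_of_integral_mem (R := Pol d)
    (I := Ideal.span {Ideal.Quotient.mk 𝔞 H}) hHne (Ideal.subset_span rfl)
    (Algebra.IsIntegral.isIntegral _)
  obtain ⟨g, hgmem, hgne⟩ := Submodule.exists_mem_ne_zero_of_ne_bot hcomap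
  rw [Ideal.mem_comap, Ideal.mem_span_singleton'] at hgmem
  obtain ⟨r, hr⟩ := hgmem
  obtain ⟨y', hy'dist, hy'g⟩ := exists_near_eval_ne_zero g hgne (proj Y v) hδpos
  obtain ⟨v', hv'Z, hv'proj, hv'dist⟩ := hδ y' hy'dist
  refine ⟨v', hv'Z, hv'dist, fun hzero => hy'g ?_⟩
  have h1 := eval_algebraMap 𝔞 Y hY' v' hv'Z g
  rw [hv'proj] at h1
  rw [← h1, ← hr, map_mul, algHomOf_mk, hzero, mul_zero]

/-- General form: `v` lies in the Zariski closure of `V(𝔞) ∩ D(𝔧)` implies it lies in its closure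
for the complex topology. -/
theorem exists_near_of_radical (𝔞 : Ideal (Pol N)) (𝔧 : Set (Pol N)) (v : Fin N → ℂ)
    (hvq : ∀ q : Pol N, (∀ H ∈ 𝔧, ∃ n : ℕ, (H * q) ^ n ∈ 𝔞) → MvPolynomial.eval v q = 0)
    {ε : ℝ} (hε : 0 < ε) :
    ∃ v' ∈ ZSet 𝔞, dist v' v < ε ∧ ∃ H ∈ 𝔧, MvPolynomial.eval v' H ≠ 0 := by
  classical
  have hfin : 𝔞.minimalPrimes.Finite := Ideal.finite_minimalPrimes_of_isNoetherianRing _ 𝔞
  have hkey : ∃ p ∈ 𝔞.minimalPrimes, ¬ (𝔧 ⊆ (p : Set (Pol N))) ∧ v ∈ ZSet p := by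
    by_contra hcon
    push Not at hcon
    have hex : ∀ p : Ideal (Pol N), p ∈ 𝔞.minimalPrimes ∧ ¬ (𝔧 ⊆ (p : Set (Pol N))) →
        ∃ q : Pol N, q ∈ p ∧ MvPolynomial.eval v q ≠ 0 := by
      rintro p ⟨hp, hjp⟩
      have := hcon p hp hjp
      unfold ZSet at this
      simp only [Set.mem_setOf_eq, not_forall] at this
      obtain ⟨q, hq, hne⟩ := this
      exact ⟨q, hq, hne⟩
    choose! qf hqf using hex
    obtain ⟨T, hT⟩ : ∃ T : Finset (Ideal (Pol N)),
        T = Finset.filter (fun p : Ideal (Pol N) => ¬ (𝔧 ⊆ (p : Set (Pol N)))) hfin.toFinset :=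
      ⟨_, rfl⟩
    have hTmem : ∀ p, p ∈ T ↔ p ∈ 𝔞.minimalPrimes ∧ ¬ (𝔧 ⊆ (p : Set (Pol N))) := by
      intro p; rw [hT, Finset.mem_filter, Set.Finite.mem_toFinset]
    have hq0 : MvPolynomial.eval v (∏ p ∈ T, qf p) ≠ 0 := by
      rw [map_prod, Finset.prod_ne_zero_iff]
      intro p hp
      exact (hqf p ((hTmem p).mp hp)).2
    apply hq0
    apply hvq
    intro H hH
    have hrad : H * ∏ p ∈ T, qf p ∈ 𝔞.radical := by
      rw [← Ideal.sInf_minimalPrimes, Ideal.mem_sInf]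
      intro p hp
      by_cases hjp : 𝔧 ⊆ (p : Set (Pol N))
      · exact Ideal.mul_mem_right _ _ (hjp hH)
      · have hpT : p ∈ T := (hTmem p).mpr ⟨hp, hjp⟩
        have hdvd : qf p ∣ ∏ p ∈ T, qf p := Finset.dvd_prod_of_mem _ hpT
        exact Ideal.mul_mem_left _ _ (Ideal.mem_of_dvd _ hdvd (hqf p ⟨hp, hjp⟩).1)
    exact hrad
  obtain ⟨p, hp, hjp, hvp⟩ := hkey
  haveI : p.IsPrime := hp.1.1
  rw [Set.not_subset] at hjp
  obtain ⟨H, hHj, hHp⟩ := hjp
  obtain ⟨v', hv'Z, hv'dist, hv'H⟩ := exists_near_ne_zero_of_prime p H hHp v hvp hε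
  refine ⟨v', fun q hq => hv'Z q (hp.1.2 hq), hv'dist, H, hHj, hv'H⟩

end main

end Groth.Agent.Lib.AnDenseH1
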