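import Mathlib
import Groth.Prelude.Def_AnPts

/-!
# The complex topology on `An.Pts X` (helper1)

Basic lemmas on evaluation of sections at ℂ-points, the closed embedding of the ℂ-points of an
affine scheme of finite type into `ℂ^n` given by algebra generators, and consequences
(closed immersions give closed embeddings).
-/

set_option autoImplicit false
set_option maxHeartbeats 1000000

open CategoryTheory AlgebraicGeometry TopologicalSpace Opposite Topology

namespace Groth.Agent.Lib.AnPtsH1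

open An

section basic

variable {X : Scheme.{0}} [X.Over An.SC]

/-- Evaluation at a ℂ-point, as a ring homomorphism. -/
noncomputable def evHom (x : Pts X) (U : X.Opens) (h : x.pt ∈ U) : Γ(X, U) →+* ℂ :=
  (x.1.appLE U ⊤ (Pts.top_le_preimage x h) ≫ (Scheme.ΓSpecIso (CommRingCat.of ℂ)).hom).hom

lemma evHom_apply (x : Pts X) (U : X.Opens) (h : x.pt ∈ U) (f : Γ(X, U)) :
    evHom x U h f = x.ev U h f := rfl

lemma ev_mul (x : Pts X) (U : X.Opens) (h : x.pt ∈ U) (f g : Γ(X, U)) :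
    x.ev U h (f * g) = x.ev U h f * x.ev U h g := map_mul (evHom x U h) f g

lemma ev_pow (x : Pts X) (U : X.Opens) (h : x.pt ∈ U) (f : Γ(X, U)) (k : ℕ) :
    x.ev U h (f ^ k) = x.ev U h f ^ k := map_pow (evHom x U h) f k

lemma ev_zero (x : Pts X) (U : X.Opens) (h : x.pt ∈ U) :
    x.ev U h (0 : Γ(X, U)) = 0 := map_zero (evHom x U h)

lemma ev_one (x : Pts X) (U : X.Opens) (h : x.pt ∈ U) :
    x.ev U h (1 : Γ(X, U)) = 1 := map_one (evHom x U h)

lemma ev_res (x : Pts X) {U U' : X.Opens} (hle : U' ≤ U) (h' : x.pt ∈ U') (f : Γ(X, U)) :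
    x.ev U' h' (X.presheaf.map (homOfLE hle).op f) = x.ev U (hle h') f := by
  have key := ConcreteCategory.congr_hom
    (Scheme.Hom.map_appLE x.1 (Pts.top_le_preimage x h') (homOfLE hle).op) f
  unfold Pts.ev
  exact congrArg (fun r => (Scheme.ΓSpecIso (CommRingCat.of ℂ)).hom r) key

lemma appLE_top_top (x : Pts X) :
    x.1.appLE ⊤ ⊤ (Pts.top_le_preimage x (Opens.mem_top _)) = x.1.appTop :=
  Scheme.Hom.appLE_eq_app x.1

lemma evTop_eq (x : Pts X) (a : Γ(X, ⊤)) :
    x.evTop a = (Scheme.ΓSpecIso (CommRingCat.of ℂ)).hom (x.1.appTop a) := by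
  show (Scheme.ΓSpecIso (CommRingCat.of ℂ)).hom
    (x.1.appLE ⊤ ⊤ (Pts.top_le_preimage x (Opens.mem_top _)) a) = _
  rw [appLE_top_top]

lemma evTop_strHom (x : Pts X) (c : ℂ) : x.evTop (An.strHom X c) = c := by
  rw [evTop_eq]
  have h1 : (X ↘ An.SC).appTop ≫ x.1.appTop = 𝟙 _ := by
    rw [← Scheme.Hom.comp_appTop, x.2, Scheme.Hom.id_appTop]
  have h2 : x.1.appTop ((X ↘ An.SC).appTop ((Scheme.ΓSpecIso (CommRingCat.of ℂ)).inv c)) =
      (Scheme.ΓSpecIso (CommRingCat.of ℂ)).inv c := ConcreteCategory.congr_hom h1 _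
  show (Scheme.ΓSpecIso (CommRingCat.of ℂ)).hom
    (x.1.appTop ((X ↘ An.SC).appTop ((Scheme.ΓSpecIso (CommRingCat.of ℂ)).inv c))) = c
  rw [h2]
  exact ConcreteCategory.congr_hom (Scheme.ΓSpecIso (CommRingCat.of ℂ)).inv_hom_id c

lemma mem_basicOpen_iff (x : Pts X) (U : X.Opens) (h : x.pt ∈ U) (g : Γ(X, U)) :
    x.pt ∈ X.basicOpen g ↔ x.ev U h g ≠ 0 := by
  obtain ⟨r, hr⟩ : ∃ r, r = x.1.appLE U ⊤ (Pts.top_le_preimage x h) g := ⟨_, rfl⟩
  have hb : An.SC.basicOpen r = ⊤ ⊓ x.1 ⁻¹ᵁ X.basicOpen g := by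
    rw [hr]; exact Scheme.basicOpen_appLE x.1 ⊤ U _ g
  have hmem : x.pt ∈ X.basicOpen g ↔ An.cpt ∈ An.SC.basicOpen r := by
    rw [hb, top_inf_eq]
    exact Iff.rfl
  rw [hmem]
  have hev : x.ev U h g = (Scheme.ΓSpecIso (CommRingCat.of ℂ)).hom r := by
    rw [hr]; rfl
  rw [hev]
  have hinv : (Scheme.ΓSpecIso (CommRingCat.of ℂ)).inv
      ((Scheme.ΓSpecIso (CommRingCat.of ℂ)).hom r) = r :=
    ConcreteCategory.congr_hom (Scheme.ΓSpecIso (CommRingCat.of ℂ)).hom_inv_id r
  constructor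
  · intro hc h0
    have hr0 : r = 0 := by
      rw [← hinv, h0, map_zero]
    rw [hr0, Scheme.basicOpen_zero] at hc
    exact hc
  · intro hne
    have hu : IsUnit r := by
      have h1 : IsUnit ((Scheme.ΓSpecIso (CommRingCat.of ℂ)).hom r) := isUnit_iff_ne_zero.mpr hne
      have h2 := h1.map (Scheme.ΓSpecIso (CommRingCat.of ℂ)).inv.hom
      have h3 : (Scheme.ΓSpecIso (CommRingCat.of ℂ)).inv.hom
          ((Scheme.ΓSpecIso (CommRingCat.of ℂ)).hom r) = r := hinv
      rwa [h3] at h2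
    rw [Scheme.basicOpen_of_isUnit _ hu]
    trivial

lemma continuous_evTop (f : Γ(X, ⊤)) : Continuous (fun x : Pts X => x.evTop f) := by
  refine continuous_def.2 fun V hV => ?_
  have : (fun x : Pts X => x.evTop f) ⁻¹' V = Pts.basicSet ⊤ f V := by
    ext x
    constructor
    · intro hx; exact ⟨Opens.mem_top _, hx⟩
    · rintro ⟨_, hx⟩; exact hx
  rw [this]
  exact Pts.isOpen_basicSet _ _ hV

lemma evTop_eval₂ (x : Pts X) {n : ℕ} (s : Fin n → Γ(X, ⊤)) (p : MvPolynomial (Fin n) ℂ) :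
    x.evTop (MvPolynomial.eval₂Hom (An.strHom X) s p) =
      MvPolynomial.eval (fun i => x.evTop (s i)) p := by
  have h1 : (evHom x ⊤ (Opens.mem_top _)).comp (An.strHom X) = RingHom.id ℂ :=
    RingHom.ext fun c => evTop_strHom x c
  have h2 := MvPolynomial.eval₂_comp_left (evHom x ⊤ (Opens.mem_top _)) (An.strHom X) s p
  rw [h1] at h2
  exact h2

/-- A ℂ-point lying in an open lifts to a ℂ-point of the open subscheme. -/
lemma exists_lift_of_mem (U : X.Opens) (x : Pts X) (h : x.pt ∈ U) :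
    ∃ u : Pts U.toScheme, Pts.map U.ι u = x := by
  have H : Set.range x.1.base ⊆ Set.range U.ι.base := by
    rintro _ ⟨p, rfl⟩
    rw [An.eq_cpt p]
    have : Set.range U.ι.base = (U : Set X) := Scheme.Opens.range_ι U
    rw [this]
    exact h
  refine ⟨⟨IsOpenImmersion.lift U.ι x.1 H, ?_⟩, Subtype.ext (IsOpenImmersion.lift_fac U.ι x.1 H)⟩
  rw [← comp_over U.ι, ← Category.assoc, IsOpenImmersion.lift_fac, x.2]

end basic

section affine

variable {X : Scheme.{0}} [X.Over An.SC] [IsAffine X]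

lemma isoSpec_inv_appTop : X.isoSpec.inv.appTop = (Scheme.ΓSpecIso Γ(X, ⊤)).inv := by
  have h := congrArg Scheme.Hom.appTop X.isoSpec.hom_inv_id
  rw [Scheme.Hom.comp_appTop, Scheme.Hom.id_appTop] at h
  have h2 : X.isoSpec.hom.appTop = (Scheme.ΓSpecIso Γ(X, ⊤)).hom := Scheme.toSpecΓ_appTop X
  rw [h2] at h
  exact (Iso.comp_hom_eq_id _).mp h

/-- The morphism `Spec ℂ ⟶ X` attached to a ring homomorphism `Γ(X, ⊤) ⟶ ℂ`. -/
noncomputable def ofHomMor (ψ : Γ(X, ⊤) ⟶ CommRingCat.of ℂ) : An.SC ⟶ X :=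
  Spec.map ψ ≫ X.isoSpec.inv

lemma ofHomMor_appTop (ψ : Γ(X, ⊤) ⟶ CommRingCat.of ℂ) :
    (ofHomMor ψ).appTop = ψ ≫ (Scheme.ΓSpecIso (CommRingCat.of ℂ)).inv := by
  unfold ofHomMor
  rw [Scheme.Hom.comp_appTop, isoSpec_inv_appTop]
  exact (Scheme.ΓSpecIso_inv_naturality ψ).symm

lemma ofHomMor_over (ψ : Γ(X, ⊤) ⟶ CommRingCat.of ℂ) (hψ : ∀ c, ψ (An.strHom X c) = c) :
    ofHomMor ψ ≫ (X ↘ An.SC) = 𝟙 An.SC := by
  apply ext_of_isAffine
  rw [Scheme.Hom.comp_appTop, ofHomMor_appTop, Scheme.Hom.id_appTop]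
  ext r
  have hinv : (Scheme.ΓSpecIso (CommRingCat.of ℂ)).inv
      ((Scheme.ΓSpecIso (CommRingCat.of ℂ)).hom r) = r :=
    ConcreteCategory.congr_hom (Scheme.ΓSpecIso (CommRingCat.of ℂ)).hom_inv_id r
  have hr : (X ↘ An.SC).appTop r =
      An.strHom X ((Scheme.ΓSpecIso (CommRingCat.of ℂ)).hom r) := by
    show _ = (X ↘ An.SC).appTop ((Scheme.ΓSpecIso (CommRingCat.of ℂ)).inv
      ((Scheme.ΓSpecIso (CommRingCat.of ℂ)).hom r))
    rw [hinv]
  show (Scheme.ΓSpecIso (CommRingCat.of ℂ)).inv (ψ ((X ↘ An.SC).appTop r)) = r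
  rw [hr, hψ, hinv]

/-- The ℂ-point of an affine `X` attached to a ℂ-algebra homomorphism `Γ(X, ⊤) ⟶ ℂ`. -/
noncomputable def ofHom (ψ : Γ(X, ⊤) ⟶ CommRingCat.of ℂ) (hψ : ∀ c, ψ (An.strHom X c) = c) :
    Pts X :=
  ⟨ofHomMor ψ, ofHomMor_over ψ hψ⟩

lemma evTop_ofHom (ψ : Γ(X, ⊤) ⟶ CommRingCat.of ℂ) (hψ : ∀ c, ψ (An.strHom X c) = c)
    (a : Γ(X, ⊤)) : (ofHom ψ hψ).evTop a = ψ a := by
  rw [evTop_eq]
  show (Scheme.ΓSpecIso (CommRingCat.of ℂ)).hom ((ofHomMor ψ).appTop a) = ψ a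
  rw [ofHomMor_appTop]
  exact ConcreteCategory.congr_hom (Scheme.ΓSpecIso (CommRingCat.of ℂ)).inv_hom_id (ψ a)

lemma ext_of_evTop {x x' : Pts X} (h : ∀ a : Γ(X, ⊤), x.evTop a = x'.evTop a) : x = x' := by
  apply Subtype.ext
  apply ext_of_isAffine
  ext a
  have h1 := h a
  rw [evTop_eq, evTop_eq] at h1
  have h2 := congrArg (fun r => (Scheme.ΓSpecIso (CommRingCat.of ℂ)).inv r) h1
  have e1 : ∀ r, (Scheme.ΓSpecIso (CommRingCat.of ℂ)).inv
      ((Scheme.ΓSpecIso (CommRingCat.of ℂ)).hom r) = r := fun r =>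
    ConcreteCategory.congr_hom (Scheme.ΓSpecIso (CommRingCat.of ℂ)).hom_inv_id r
  simp only [e1] at h2
  exact h2

end affine

/-- S4184: generators of the coordinate ring of an affine scheme over ℂ give a closed embedding of
its ℂ-points into `ℂ^n`. -/
theorem isClosedEmbedding_of_generators (X : Scheme.{0}) [X.Over An.SC] [IsAffine X]
    (n : ℕ) (s : Fin n → Γ(X, ⊤))
    (hs : Function.Surjective (MvPolynomial.eval₂Hom (An.strHom X) s)) :
    Topology.IsClosedEmbedding (fun (x : An.Pts X) (i : Fin n) => x.evTop (s i)) := by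
  obtain ⟨E, hE⟩ : ∃ E : Pts X → (Fin n → ℂ), E = fun x i => x.evTop (s i) := ⟨_, rfl⟩
  rw [← hE]
  have hEx : ∀ x i, E x i = x.evTop (s i) := fun x i => by rw [hE]
  have hcont : Continuous E := by
    rw [hE]; exact continuous_pi fun i => continuous_evTop (s i)
  have hform : ∀ (x : Pts X) (p : MvPolynomial (Fin n) ℂ),
      x.evTop (MvPolynomial.eval₂Hom (An.strHom X) s p) = MvPolynomial.eval (E x) p := by
    intro x p; rw [hE]; exact evTop_eval₂ x s p
  have hinj : Function.Injective E := by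
    intro x x' h
    apply ext_of_evTop
    intro a
    obtain ⟨p, rfl⟩ := hs a
    rw [hform, hform, h]
  have hrange : Set.range E = ⋂ p ∈ (RingHom.ker (MvPolynomial.eval₂Hom (An.strHom X) s) :
      Set (MvPolynomial (Fin n) ℂ)), {v | MvPolynomial.eval v p = 0} := by
    ext v
    simp only [Set.mem_iInter, Set.mem_setOf_eq, Set.mem_range]
    constructor
    · rintro ⟨x, rfl⟩ p hp
      rw [← hform, (RingHom.mem_ker).mp hp]
      exact ev_zero x ⊤ _
    · intro hv
      obtain ⟨ψ, hψ⟩ : ∃ ψ : Γ(X, ⊤) →+* ℂ, ∀ p, ψ (MvPolynomial.eval₂Hom (An.strHom X) s p) =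
          MvPolynomial.eval v p :=
        ⟨RingHom.liftOfSurjective (MvPolynomial.eval₂Hom (An.strHom X) s) hs
          ⟨MvPolynomial.eval v, fun p hp => RingHom.mem_ker.mpr (hv p hp)⟩,
          fun p => RingHom.liftOfSurjective_comp_apply _ hs _ p⟩
      have hψc : ∀ c, ψ (An.strHom X c) = c := by
        intro c
        have := hψ (MvPolynomial.C c)
        rwa [MvPolynomial.eval₂Hom_C, MvPolynomial.eval_C] at this
      refine ⟨ofHom (CommRingCat.ofHom ψ) hψc, ?_⟩
      funext i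
      rw [hEx, evTop_ofHom]
      have := hψ (MvPolynomial.X i)
      rwa [MvPolynomial.eval₂Hom_X', MvPolynomial.eval_X] at this
  have hclosed : IsClosed (Set.range E) := by
    rw [hrange]
    refine isClosed_biInter fun p _ => ?_
    exact isClosed_eq (MvPolynomial.continuous_eval p) continuous_const
  have hind : Topology.IsInducing E := by
    constructor
    apply le_antisymm
    · exact hcont.le_induced
    · refine le_generateFrom ?_
      rintro _ ⟨U, f, V, hV, rfl⟩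
      rw [@isOpen_iff_forall_mem_open _ (TopologicalSpace.induced E inferInstance) _]
      rintro x0 ⟨hx0U, hx0V⟩
      obtain ⟨g, hgU, hx0g⟩ := (isAffineOpen_top X).exists_basicOpen_le (V := U)
        ⟨x0.pt, hx0U⟩ (Opens.mem_top _)
      have hgT : X.basicOpen g ≤ ⊤ := X.basicOpen_le g
      obtain ⟨⟨a, ⟨_, k, rfl⟩⟩, hak⟩ := IsLocalization.surj (Submonoid.powers g)
        (X.presheaf.map (homOfLE hgU).op f)
      have hak' : X.presheaf.map (homOfLE hgU).op f * X.presheaf.map (homOfLE hgT).op (g ^ k) =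
          X.presheaf.map (homOfLE hgT).op a := hak
      obtain ⟨Pg, hPg⟩ := hs g
      obtain ⟨Pa, hPa⟩ := hs a
      have hevg : ∀ x : Pts X, x.evTop g = MvPolynomial.eval (E x) Pg := fun x => by
        rw [← hPg, hform]
      have heva : ∀ x : Pts X, x.evTop a = MvPolynomial.eval (E x) Pa := fun x => by
        rw [← hPa, hform]
      obtain ⟨W, hWdef⟩ : ∃ W : Set (Fin n → ℂ), W = {v | MvPolynomial.eval v Pg ≠ 0} ∩
          (fun v => MvPolynomial.eval v Pa / (MvPolynomial.eval v Pg) ^ k) ⁻¹' V := ⟨_, rfl⟩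
      have hW : IsOpen W := by
        have hc : ContinuousOn
            (fun v : Fin n → ℂ => MvPolynomial.eval v Pa / (MvPolynomial.eval v Pg) ^ k)
            {v | MvPolynomial.eval v Pg ≠ 0} :=
          ContinuousOn.div (MvPolynomial.continuous_eval Pa).continuousOn
            ((MvPolynomial.continuous_eval Pg).pow k).continuousOn
            (fun v hv => pow_ne_zero k hv)
        have ho : IsOpen {v : Fin n → ℂ | MvPolynomial.eval v Pg ≠ 0} :=
          isOpen_ne_fun (MvPolynomial.continuous_eval Pg) continuous_const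
        rw [hWdef]
        exact hc.isOpen_inter_preimage ho hV
      have hmem : ∀ x : Pts X, E x ∈ W ↔
          ∃ h : x.pt ∈ X.basicOpen g, x.ev U (hgU h) f ∈ V := by
        intro x
        have hval : ∀ h : x.pt ∈ X.basicOpen g,
            x.ev U (hgU h) f = MvPolynomial.eval (E x) Pa / (MvPolynomial.eval (E x) Pg) ^ k := by
          intro h
          have h1 := congrArg (fun t => x.ev (X.basicOpen g) h t) hak'
          simp only [] at h1
          rw [ev_mul, ev_res x hgU h f, ev_res x hgT h (g ^ k), ev_res x hgT h a, ev_pow] at h1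
          have hg0 : x.evTop g ≠ 0 := (mem_basicOpen_iff x ⊤ (Opens.mem_top _) g).mp h
          rw [← hevg, ← heva]
          exact eq_div_of_mul_eq (pow_ne_zero k hg0) h1
        rw [hWdef]
        constructor
        · rintro ⟨h1, h2⟩
          have hg0 : x.evTop g ≠ 0 := by rw [hevg]; exact h1
          have h : x.pt ∈ X.basicOpen g := (mem_basicOpen_iff x ⊤ (Opens.mem_top _) g).mpr hg0
          refine ⟨h, ?_⟩
          rw [hval h]
          exact h2
        · rintro ⟨h, hv⟩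
          have hg0 : x.evTop g ≠ 0 := (mem_basicOpen_iff x ⊤ (Opens.mem_top _) g).mp h
          refine ⟨?_, ?_⟩
          · show MvPolynomial.eval (E x) Pg ≠ 0
            rw [← hevg]; exact hg0
          · show MvPolynomial.eval (E x) Pa / (MvPolynomial.eval (E x) Pg) ^ k ∈ V
            rw [← hval h]
            exact hv
      refine ⟨E ⁻¹' W, ?_, isOpen_induced_iff.mpr ⟨W, hW, rfl⟩, ?_⟩
      · intro x hx
        obtain ⟨h, hv⟩ := (hmem x).mp hx
        exact ⟨hgU h, hv⟩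
      · exact (hmem x0).mpr ⟨hx0g, hx0V⟩
  exact ⟨⟨hind, hinj⟩, hclosed⟩

end Groth.Agent.Lib.AnPtsH1
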