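import Mathlib
import Groth.Prelude.Def_AnPts
import Groth.Agent.Lib.AnPts_helper1
import Groth.Agent.S4196

/-!
# The complex topology on `An.Pts X`, part 2 (helper1)

Affine space, local compactness, closed immersions and immersions.
-/

set_option autoImplicit false
set_option maxHeartbeats 1000000

open CategoryTheory AlgebraicGeometry TopologicalSpace Opposite Topology

namespace Groth.Agent.Lib.AnPtsH1

open An

/-- An affine scheme of finite type over ℂ has finitely many algebra generators. -/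
lemma exists_generators (X : Scheme.{0}) [X.Over An.SC] [IsAffine X]
    [LocallyOfFiniteType (X ↘ An.SC)] :
    ∃ (n : ℕ) (s : Fin n → Γ(X, ⊤)),
      Function.Surjective (MvPolynomial.eval₂Hom (An.strHom X) s) := by
  have h1 : RingHom.FiniteType (X ↘ An.SC).appTop.hom :=
    (HasRingHomProperty.iff_of_isAffine (P := @LocallyOfFiniteType)).mp inferInstance
  have h2 : RingHom.FiniteType (An.strHom X) := by
    unfold An.strHom
    refine h1.comp (RingHom.FiniteType.of_surjective _ ?_)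
    intro r
    exact ⟨(Scheme.ΓSpecIso (CommRingCat.of ℂ)).hom r,
      ConcreteCategory.congr_hom (Scheme.ΓSpecIso (CommRingCat.of ℂ)).hom_inv_id r⟩
  letI : Algebra ℂ Γ(X, ⊤) := (An.strHom X).toAlgebra
  have h3 : Algebra.FiniteType ℂ Γ(X, ⊤) := h2
  obtain ⟨n, φ, hφ⟩ := Algebra.FiniteType.iff_quotient_mvPolynomial''.mp h3
  refine ⟨n, fun i => φ (MvPolynomial.X i), ?_⟩
  intro a
  obtain ⟨p, rfl⟩ := hφ a
  refine ⟨p, ?_⟩
  have h4 := MvPolynomial.aeval_unique φ
  conv_rhs => rw [h4]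
  rfl

/-- S4185 -/
theorem locallyCompactSpace_pts (X : Scheme.{0}) [X.Over An.SC]
    [LocallyOfFiniteType (X ↘ An.SC)] : LocallyCompactSpace (An.Pts X) := by
  refine ⟨fun x N hN => ?_⟩
  obtain ⟨U, hU, hxU, -⟩ := exists_isAffineOpen_mem_and_subset (X := X) (x := x.pt)
    (U := ⊤) (Opens.mem_top _)
  haveI : IsAffine U.toScheme := hU
  haveI : LocallyOfFiniteType (U.toScheme ↘ An.SC) :=
    inferInstanceAs (LocallyOfFiniteType (U.ι ≫ X ↘ An.SC))
  haveI : U.ι.IsOver An.SC := ⟨rfl⟩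
  have hoe := Groth.Agent.S4196.result U.toScheme X U.ι
  obtain ⟨u, rfl⟩ := exists_lift_of_mem U x hxU
  obtain ⟨n, s, hs⟩ := exists_generators U.toScheme
  have hce := isClosedEmbedding_of_generators U.toScheme n s hs
  haveI : LocallyCompactSpace (Pts U.toScheme) := hce.locallyCompactSpace
  obtain ⟨K, hK, hKN, hKc⟩ := local_compact_nhds
    (hoe.continuous.continuousAt.preimage_mem_nhds hN)
  refine ⟨Pts.map U.ι '' K, (hoe.image_mem_nhds).mpr hK, ?_, hKc.image hoe.continuous⟩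
  rintro _ ⟨k, hk, rfl⟩
  exact hKN hk

/-- S4183 -/
theorem affineSpace_isHomeomorph (n : ℕ) :
    IsHomeomorph (fun (x : An.Pts (𝔸(Fin n; An.SC))) (i : Fin n) =>
      x.evTop (AffineSpace.coord An.SC i)) := by
  have hs : Function.Surjective (MvPolynomial.eval₂Hom (An.strHom (𝔸(Fin n; An.SC)))
      (AffineSpace.coord An.SC)) := by
    have h := AffineSpace.SpecIso_hom_appTop (n := Fin n) (CommRingCat.of ℂ)
    intro y
    have h1 : (AffineSpace.SpecIso (Fin n) (CommRingCat.of ℂ)).inv.appTop ≫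
        (AffineSpace.SpecIso (Fin n) (CommRingCat.of ℂ)).hom.appTop = 𝟙 _ := by
      rw [← Scheme.Hom.comp_appTop, Iso.hom_inv_id, Scheme.Hom.id_appTop]
    have h2 : (AffineSpace.SpecIso (Fin n) (CommRingCat.of ℂ)).hom.appTop
        ((AffineSpace.SpecIso (Fin n) (CommRingCat.of ℂ)).inv.appTop y) = y :=
      ConcreteCategory.congr_hom h1 y
    refine ⟨(Scheme.ΓSpecIso _).hom
      ((AffineSpace.SpecIso (Fin n) (CommRingCat.of ℂ)).inv.appTop y), ?_⟩
    rw [h] at h2
    exact h2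
  have hce := isClosedEmbedding_of_generators (𝔸(Fin n; An.SC)) n (AffineSpace.coord An.SC) hs
  rw [isHomeomorph_iff_isEmbedding_surjective]
  refine ⟨hce.isEmbedding, ?_⟩
  intro v
  refine ⟨⟨AffineSpace.homOfVector (𝟙 An.SC)
    (fun i => (Scheme.ΓSpecIso (CommRingCat.of ℂ)).inv (v i)),
    AffineSpace.homOfVector_over _ _⟩, ?_⟩
  funext i
  refine (evTop_eq _ _).trans ?_
  show (Scheme.ΓSpecIso (CommRingCat.of ℂ)).hom
    ((AffineSpace.homOfVector (𝟙 An.SC)
      (fun i => (Scheme.ΓSpecIso (CommRingCat.of ℂ)).inv (v i))).appTop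
        (AffineSpace.coord An.SC i)) = v i
  rw [AffineSpace.homOfVector_appTop_coord]
  exact ConcreteCategory.congr_hom (Scheme.ΓSpecIso (CommRingCat.of ℂ)).inv_hom_id (v i)

section closedImm

variable {X Y : Scheme.{0}} [X.Over An.SC] [Y.Over An.SC]

lemma closedImmersion_key (f : X ⟶ Y) [f.IsOver An.SC] [IsClosedImmersion f]
    (U : X.Opens) (σ : Γ(X, U)) (V : Set ℂ) (hV : IsOpen V) (x0 : Pts X) (hx0U : x0.pt ∈ U)
    (hx0V : x0.ev U hx0U σ ∈ V) :
    ∃ O : Set (Pts Y), IsOpen O ∧ Pts.map f x0 ∈ O ∧ Pts.map f ⁻¹' O ⊆ Pts.basicSet U σ V := by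
  obtain ⟨W, hW, hyW, -⟩ := exists_isAffineOpen_mem_and_subset (X := Y) (x := f x0.pt)
    (U := ⊤) (Opens.mem_top _)
  have hU0 : IsAffineOpen (f ⁻¹ᵁ W) := hW.preimage f
  have hx0U0 : x0.pt ∈ f ⁻¹ᵁ W := hyW
  obtain ⟨g, hgU, hx0g⟩ := hU0.exists_basicOpen_le (V := U) ⟨x0.pt, hx0U⟩ hx0U0
  have hgU0 : X.basicOpen g ≤ f ⁻¹ᵁ W := X.basicOpen_le g
  obtain ⟨g', hg'⟩ := f.app_surjective W hW g
  haveI := hU0.isLocalization_basicOpen g
  obtain ⟨⟨a, ⟨_, k, rfl⟩⟩, hak⟩ := IsLocalization.surj (Submonoid.powers g)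
    (X.presheaf.map (homOfLE hgU).op σ)
  have hak' : X.presheaf.map (homOfLE hgU).op σ * X.presheaf.map (homOfLE hgU0).op (g ^ k) =
      X.presheaf.map (homOfLE hgU0).op a := hak
  obtain ⟨a', ha'⟩ := f.app_surjective W hW a
  obtain ⟨D', hD'⟩ : ∃ D' : Y.Opens, D' = Y.basicOpen g' := ⟨_, rfl⟩
  have hD'W : D' ≤ W := by rw [hD']; exact Y.basicOpen_le g'
  have hunit : IsUnit (Y.presheaf.map (homOfLE hD'W).op g') := by
    subst hD'
    exact Y.toRingedSpace.isUnit_res_basicOpen g'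
  obtain ⟨u, hu⟩ := hunit
  obtain ⟨τ, hτdef⟩ : ∃ τ : Γ(Y, D'), τ = Y.presheaf.map (homOfLE hD'W).op a' *
      ((u⁻¹ ^ k : (Γ(Y, D'))ˣ) : Γ(Y, D')) := ⟨_, rfl⟩
  have hτ : τ * (Y.presheaf.map (homOfLE hD'W).op g') ^ k =
      Y.presheaf.map (homOfLE hD'W).op a' := by
    rw [hτdef, ← hu, mul_assoc, ← Units.val_pow_eq_pow_val, ← Units.val_mul]
    simp
  have hpre : f ⁻¹ᵁ D' = X.basicOpen g := by
    rw [hD', Scheme.preimage_basicOpen, hg']
  have hcomp : ∀ (x : Pts X) (h : x.pt ∈ X.basicOpen g),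
      ∃ h' : (Pts.map f x).pt ∈ D', (Pts.map f x).ev D' h' τ = x.ev U (hgU h) σ := by
    intro x h
    have h' : (Pts.map f x).pt ∈ D' := by
      rw [Pts.pt_map]
      show x.pt ∈ f ⁻¹ᵁ D'
      rw [hpre]; exact h
    refine ⟨h', ?_⟩
    have hxU0 : x.pt ∈ f ⁻¹ᵁ W := hgU0 h
    have hyW' : (Pts.map f x).pt ∈ W := hD'W h'
    have hG : (Pts.map f x).ev D' h' (Y.presheaf.map (homOfLE hD'W).op g') =
        x.ev (f ⁻¹ᵁ W) hxU0 g := by
      rw [ev_res (Pts.map f x) hD'W h' g', Pts.ev_map f x W hyW' g', hg']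
    have hA : (Pts.map f x).ev D' h' (Y.presheaf.map (homOfLE hD'W).op a') =
        x.ev (f ⁻¹ᵁ W) hxU0 a := by
      rw [ev_res (Pts.map f x) hD'W h' a', Pts.ev_map f x W hyW' a', ha']
    have e1 : (Pts.map f x).ev D' h' τ * (x.ev (f ⁻¹ᵁ W) hxU0 g) ^ k =
        x.ev (f ⁻¹ᵁ W) hxU0 a := by
      rw [← hG, ← hA, ← ev_pow, ← ev_mul, hτ]
    have e2 : x.ev U (hgU h) σ * (x.ev (f ⁻¹ᵁ W) hxU0 g) ^ k = x.ev (f ⁻¹ᵁ W) hxU0 a := by
      have h1 := congrArg (fun t => x.ev (X.basicOpen g) h t) hak'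
      simp only [] at h1
      rw [ev_mul, ev_res x hgU h σ, ev_res x hgU0 h (g ^ k), ev_res x hgU0 h a, ev_pow] at h1
      exact h1
    have hG0 : x.ev (f ⁻¹ᵁ W) hxU0 g ≠ 0 := (mem_basicOpen_iff x _ hxU0 g).mp h
    exact mul_right_cancel₀ (pow_ne_zero k hG0) (e1.trans e2.symm)
  refine ⟨Pts.basicSet D' τ V, Pts.isOpen_basicSet _ _ hV, ?_, ?_⟩
  · obtain ⟨h', he⟩ := hcomp x0 hx0g
    exact ⟨h', by rw [he]; exact hx0V⟩
  · rintro x ⟨h', hv⟩
    have h : x.pt ∈ X.basicOpen g := by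
      rw [← hpre]
      rw [Pts.pt_map] at h'
      exact h'
    obtain ⟨h'', he⟩ := hcomp x h
    exact ⟨hgU h, by rw [← he]; exact hv⟩

/-- S4200 -/
theorem isClosedEmbedding_map_of_isClosedImmersion [LocallyOfFiniteType (X ↘ An.SC)]
    [LocallyOfFiniteType (Y ↘ An.SC)] (f : X ⟶ Y) [f.IsOver An.SC] [IsClosedImmersion f] :
    Topology.IsClosedEmbedding (An.Pts.map f) := by
  have hinj : Function.Injective (An.Pts.map f) := by
    intro x x' h
    apply Subtype.ext
    have := congrArg Subtype.val h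
    simp only [An.Pts.map_val] at this
    exact (cancel_mono f).mp this
  have hrange : Set.range (An.Pts.map f) = An.Pts.pt ⁻¹' (Set.range f.base) := by
    ext y
    constructor
    · rintro ⟨x, rfl⟩
      rw [Set.mem_preimage, An.Pts.pt_map]
      exact ⟨x.pt, rfl⟩
    · rintro ⟨x0, hx0⟩
      have e2 : y.1 (IsLocalRing.closedPoint ℂ) = y.pt := by
        show y.1 _ = y.1 An.cpt
        rw [An.eq_cpt (IsLocalRing.closedPoint ℂ)]
      have hyc : IsClosed ({y.pt} : Set Y) := by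
        have h1 := ((pointEquivClosedPoint (Y ↘ An.SC)) y).2
        have e : y.pt = ((pointEquivClosedPoint (Y ↘ An.SC)) y).1 := e2.symm
        rw [e]; exact h1
      have hx0c : x0 ∈ closedPoints X := by
        show IsClosed ({x0} : Set X)
        have : ({x0} : Set X) = f.base ⁻¹' {y.pt} := by
          ext z
          simp only [Set.mem_singleton_iff, Set.mem_preimage]
          constructor
          · rintro rfl; exact hx0
          · intro hz
            exact f.isClosedEmbedding.injective (hz.trans hx0.symm)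
        rw [this]; exact hyc.preimage f.continuous
      refine ⟨(pointEquivClosedPoint (X ↘ An.SC)).symm ⟨x0, hx0c⟩, ?_⟩
      apply Subtype.ext
      refine ext_of_apply_closedPoint_eq (Y ↘ An.SC) (An.Pts.map f _).2 y.2 ?_
      show (((pointEquivClosedPoint (X ↘ An.SC)).symm ⟨x0, hx0c⟩).1 ≫ f)
        (IsLocalRing.closedPoint ℂ) = y.1 (IsLocalRing.closedPoint ℂ)
      have e1 : ((pointEquivClosedPoint (X ↘ An.SC)).symm ⟨x0, hx0c⟩).1
          (IsLocalRing.closedPoint ℂ) = x0 := pointOfClosedPoint_apply _ _ _ _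
      exact (Scheme.Hom.comp_apply _ _ _).trans
        ((congrArg (fun z => f z) e1).trans (hx0.trans e2.symm))
  have hclosed : IsClosed (Set.range (An.Pts.map f)) := by
    rw [hrange]
    exact f.isClosedEmbedding.isClosed_range.preimage An.Pts.continuous_pt
  have hind : Topology.IsInducing (An.Pts.map f) := by
    constructor
    apply le_antisymm
    · exact (An.Pts.continuous_map f).le_induced
    · refine le_generateFrom ?_
      rintro _ ⟨U, σ, V, hV, rfl⟩
      rw [@isOpen_iff_forall_mem_open _ (TopologicalSpace.induced (An.Pts.map f) inferInstance) _]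
      rintro x0 ⟨hx0U, hx0V⟩
      obtain ⟨O, hO, hx0O, hOsub⟩ := closedImmersion_key f U σ V hV x0 hx0U hx0V
      exact ⟨Pts.map f ⁻¹' O, hOsub, isOpen_induced_iff.mpr ⟨O, hO, rfl⟩, hx0O⟩
  exact ⟨⟨hind, hinj⟩, hclosed⟩

/-- S4201 -/
theorem isEmbedding_map_of_isImmersion [LocallyOfFiniteType (X ↘ An.SC)]
    [LocallyOfFiniteType (Y ↘ An.SC)] (f : X ⟶ Y) [f.IsOver An.SC] [IsImmersion f] :
    Topology.IsEmbedding (An.Pts.map f) ∧ IsLocallyClosed (Set.range (An.Pts.map f)) := by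
  obtain ⟨U, hUdef⟩ : ∃ U : Y.Opens, U = f.coborderRange := ⟨_, rfl⟩
  have : LocallyOfFiniteType (f.coborderRange.toScheme ↘ An.SC) :=
    inferInstanceAs (LocallyOfFiniteType (f.coborderRange.ι ≫ Y ↘ An.SC))
  have : f.coborderRange.ι.IsOver An.SC := ⟨rfl⟩
  have : f.liftCoborder.IsOver An.SC := ⟨by
    show f.liftCoborder ≫ f.coborderRange.ι ≫ Y ↘ An.SC = X ↘ An.SC
    rw [← Category.assoc, f.liftCoborder_ι, comp_over]⟩
  have hoe := Groth.Agent.S4196.result f.coborderRange.toScheme Y f.coborderRange.ι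
  have hce := isClosedEmbedding_map_of_isClosedImmersion f.liftCoborder
  have hcomp : An.Pts.map f = An.Pts.map f.coborderRange.ι ∘ An.Pts.map f.liftCoborder := by
    funext x
    apply Subtype.ext
    show x.1 ≫ f = (x.1 ≫ f.liftCoborder) ≫ f.coborderRange.ι
    rw [Category.assoc, f.liftCoborder_ι]
  rw [hcomp]
  refine ⟨hoe.isEmbedding.comp hce.isEmbedding, ?_⟩
  rw [Set.range_comp]
  exact hce.isClosed_range.isLocallyClosed.image hoe.isInducing
    hoe.isOpen_range.isLocallyClosed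

end closedImm

end Groth.Agent.Lib.AnPtsH1
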