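import Mathlib
import Groth.Prelude.Def_AnPts
import Groth.Agent.Lib.AnPts_helper1
import Groth.Agent.Lib.AnPts2_helper1
import Groth.Agent.S4196

/-!
# The complex topology on `An.Pts X`, part 3 (helper1): fibre products
-/

set_option autoImplicit false
set_option maxHeartbeats 1000000

open CategoryTheory CategoryTheory.Limits AlgebraicGeometry TopologicalSpace Opposite Topology

namespace Groth.Agent.Lib.AnPtsH1

open An

/-- In a pushout square of commutative rings the images of the two legs generate. -/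
lemma closure_eq_top_of_isPushout {R A B C : CommRingCat.{0}} {f : R ⟶ A} {g : R ⟶ B}
    {inl : A ⟶ C} {inr : B ⟶ C} (h : IsPushout f g inl inr) :
    Subring.closure (Set.range inl.hom ∪ Set.range inr.hom) = ⊤ := by
  obtain ⟨C', hC'⟩ : ∃ C' : Subring C, C' = Subring.closure (Set.range inl.hom ∪ Set.range inr.hom) :=
    ⟨_, rfl⟩
  rw [← hC']
  have hl : ∀ a, inl.hom a ∈ C' := fun a => by
    rw [hC']; exact Subring.subset_closure (Or.inl ⟨a, rfl⟩)
  have hr : ∀ b, inr.hom b ∈ C' := fun b => by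
    rw [hC']; exact Subring.subset_closure (Or.inr ⟨b, rfl⟩)
  let inl' : A ⟶ CommRingCat.of C' := CommRingCat.ofHom (inl.hom.codRestrict C' hl)
  let inr' : B ⟶ CommRingCat.of C' := CommRingCat.ofHom (inr.hom.codRestrict C' hr)
  let ι : CommRingCat.of C' ⟶ C := CommRingCat.ofHom C'.subtype
  have w : f ≫ inl' = g ≫ inr' := by
    ext r
    exact ConcreteCategory.congr_hom h.w r
  have h1 : inl ≫ (h.desc inl' inr' w ≫ ι) = inl ≫ 𝟙 C := by
    rw [← Category.assoc, h.inl_desc]
    ext a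
    rfl
  have h2 : inr ≫ (h.desc inl' inr' w ≫ ι) = inr ≫ 𝟙 C := by
    rw [← Category.assoc, h.inr_desc]
    ext a
    rfl
  have h3 : h.desc inl' inr' w ≫ ι = 𝟙 C := h.hom_ext h1 h2
  rw [eq_top_iff]
  intro c _
  have h4 : ι.hom ((h.desc inl' inr' w).hom c) = c := ConcreteCategory.congr_hom h3 c
  rw [← h4]
  exact ((h.desc inl' inr' w).hom c).2

/-- Global sections of a fibre product of affine schemes form a pushout. -/
lemma isPushout_appTop {X Y S : Scheme.{0}} [IsAffine X] [IsAffine Y] [IsAffine S]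
    (f : X ⟶ S) (g : Y ⟶ S) :
    IsPushout f.appTop g.appTop (pullback.fst f g).appTop (pullback.snd f g).appTop := by
  have hpb : IsPullback (pullback.fst f g) (pullback.snd f g) f g := IsPullback.of_hasPullback f g
  have : ∀ j, IsAffine ((cospan f g).obj j) := by
    rintro (_ | (_ | _))
    · show IsAffine S; infer_instance
    · show IsAffine X; infer_instance
    · show IsAffine Y; infer_instance
  have h2 := Functor.map_isPullback Scheme.Γ.rightOp hpb
  exact h2.unop.flip

section pullback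

variable {X Y S : Scheme.{0}} [X.Over An.SC] [Y.Over An.SC] [S.Over An.SC]

lemma isInducing_pullback_affine [IsAffine X] [IsAffine Y] [IsAffine S]
    [LocallyOfFiniteType (X ↘ An.SC)] [LocallyOfFiniteType (Y ↘ An.SC)]
    (f : X ⟶ S) (g : Y ⟶ S) [f.IsOver An.SC] [g.IsOver An.SC] :
    Topology.IsInducing (fun z : Pts (pullback f g) =>
      (Pts.map (pullback.fst f g) z, Pts.map (pullback.snd f g) z)) := by
  obtain ⟨n, s, hs⟩ := exists_generators X
  obtain ⟨m, t, ht⟩ := exists_generators Y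
  obtain ⟨s', hs'def⟩ : ∃ s' : Fin (n + m) → Γ(pullback f g, ⊤),
      s' = Fin.append (fun i => (pullback.fst f g).appTop.hom (s i))
        (fun j => (pullback.snd f g).appTop.hom (t j)) := ⟨_, rfl⟩
  have hsX : ∀ c, (pullback.fst f g).appTop.hom (An.strHom X c) = An.strHom (pullback f g) c :=
    fun c => rfl
  have hsY : ∀ c, (pullback.snd f g).appTop.hom (An.strHom Y c) = An.strHom (pullback f g) c := by
    intro c
    have e : (pullback.snd f g ≫ (Y ↘ An.SC)).appTop = ((pullback f g) ↘ An.SC).appTop := by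
      rw [comp_over]
    exact ConcreteCategory.congr_hom e ((Scheme.ΓSpecIso (CommRingCat.of ℂ)).inv c)
  have hgen : Function.Surjective (MvPolynomial.eval₂Hom (An.strHom (pullback f g)) s') := by
    have hcl := closure_eq_top_of_isPushout (isPushout_appTop f g)
    intro c
    have hc : c ∈ Subring.closure (Set.range (pullback.fst f g).appTop.hom ∪
        Set.range (pullback.snd f g).appTop.hom) := by rw [hcl]; trivial
    have hsub : Set.range (pullback.fst f g).appTop.hom ∪ Set.range (pullback.snd f g).appTop.hom ⊆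
        ((MvPolynomial.eval₂Hom (An.strHom (pullback f g)) s').range : Set Γ(pullback f g, ⊤)) := by
      rintro _ (⟨a, rfl⟩ | ⟨b, rfl⟩)
      · obtain ⟨p, rfl⟩ := hs a
        refine ⟨MvPolynomial.rename (Fin.castAdd m) p, ?_⟩
        have e1 : s' ∘ Fin.castAdd m = (pullback.fst f g).appTop.hom ∘ s := by
          funext i
          rw [hs'def]
          simp only [Function.comp_apply, Fin.append_left]
        have e2 : (pullback.fst f g).appTop.hom.comp (An.strHom X) = An.strHom (pullback f g) :=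
          RingHom.ext hsX
        show MvPolynomial.eval₂ (An.strHom (pullback f g)) s'
          (MvPolynomial.rename (Fin.castAdd m) p) =
          (pullback.fst f g).appTop.hom (MvPolynomial.eval₂ (An.strHom X) s p)
        rw [MvPolynomial.eval₂_rename, MvPolynomial.eval₂_comp_left, e1, e2]
      · obtain ⟨p, rfl⟩ := ht b
        refine ⟨MvPolynomial.rename (Fin.natAdd n) p, ?_⟩
        have e1 : s' ∘ Fin.natAdd n = (pullback.snd f g).appTop.hom ∘ t := by
          funext i
          rw [hs'def]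
          simp only [Function.comp_apply, Fin.append_right]
        have e2 : (pullback.snd f g).appTop.hom.comp (An.strHom Y) = An.strHom (pullback f g) :=
          RingHom.ext hsY
        show MvPolynomial.eval₂ (An.strHom (pullback f g)) s'
          (MvPolynomial.rename (Fin.natAdd n) p) =
          (pullback.snd f g).appTop.hom (MvPolynomial.eval₂ (An.strHom Y) t p)
        rw [MvPolynomial.eval₂_rename, MvPolynomial.eval₂_comp_left, e1, e2]
    exact (Subring.closure_le.mpr hsub) hc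
  have hce := isClosedEmbedding_of_generators (pullback f g) (n + m) s' hgen
  obtain ⟨G, hG⟩ : ∃ G : Pts X × Pts Y → (Fin (n + m) → ℂ),
      G = fun q => Fin.append (fun i => q.1.evTop (s i)) (fun j => q.2.evTop (t j)) := ⟨_, rfl⟩
  have hGc : Continuous G := by
    rw [hG]
    refine continuous_pi fun k => ?_
    refine Fin.addCases (fun i => ?_) (fun j => ?_) k
    · simp only [Fin.append_left]
      exact (continuous_evTop (s i)).comp continuous_fst
    · simp only [Fin.append_right]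
      exact (continuous_evTop (t j)).comp continuous_snd
  have hΦc : Continuous (fun z : Pts (pullback f g) =>
      (Pts.map (pullback.fst f g) z, Pts.map (pullback.snd f g) z)) :=
    (Pts.continuous_map _).prodMk (Pts.continuous_map _)
  refine Topology.IsInducing.of_comp hΦc hGc ?_
  have hEq : (G ∘ fun z : Pts (pullback f g) =>
      (Pts.map (pullback.fst f g) z, Pts.map (pullback.snd f g) z)) =
      fun (x : Pts (pullback f g)) (i : Fin (n + m)) => x.evTop (s' i) := by
    funext z k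
    rw [hG, hs'def]
    refine Fin.addCases (fun i => ?_) (fun j => ?_) k
    · simp only [Function.comp_apply, Fin.append_left]
      exact Pts.ev_map (pullback.fst f g) z ⊤ (Opens.mem_top _) (s i)
    · simp only [Function.comp_apply, Fin.append_right]
      exact Pts.ev_map (pullback.snd f g) z ⊤ (Opens.mem_top _) (t j)
  rw [hEq]
  exact hce.isInducing

/-- A ℂ-point lying in the range of an open immersion lifts. -/
lemma exists_lift_of_isOpenImmersion {U X : Scheme.{0}} [U.Over An.SC] [X.Over An.SC]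
    (j : U ⟶ X) [j.IsOver An.SC] [IsOpenImmersion j] (x : Pts X)
    (h : x.pt ∈ Set.range j.base) : ∃ u : Pts U, Pts.map j u = x := by
  have H : Set.range x.1.base ⊆ Set.range j.base := by
    rintro _ ⟨p, rfl⟩
    rw [An.eq_cpt p]
    exact h
  refine ⟨⟨IsOpenImmersion.lift j x.1 H, ?_⟩, Subtype.ext (IsOpenImmersion.lift_fac j x.1 H)⟩
  rw [← comp_over j, ← Category.assoc, IsOpenImmersion.lift_fac, x.2]

lemma pullback_key [LocallyOfFiniteType (X ↘ An.SC)] [LocallyOfFiniteType (Y ↘ An.SC)]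
    [LocallyOfFiniteType (S ↘ An.SC)] (f : X ⟶ S) (g : Y ⟶ S) [f.IsOver An.SC] [g.IsOver An.SC]
    (B : Set (Pts (pullback f g))) (hB : IsOpen B) (z0 : Pts (pullback f g)) (hz0 : z0 ∈ B) :
    ∃ O : Set (Pts X × Pts Y), IsOpen O ∧
      (Pts.map (pullback.fst f g) z0, Pts.map (pullback.snd f g) z0) ∈ O ∧
      (fun z : Pts (pullback f g) =>
        (Pts.map (pullback.fst f g) z, Pts.map (pullback.snd f g) z)) ⁻¹' O ⊆ B := by
  have hs0 : f ((pullback.fst f g) z0.pt) = g ((pullback.snd f g) z0.pt) := by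
    rw [← Scheme.Hom.comp_apply, ← Scheme.Hom.comp_apply, pullback.condition]
  obtain ⟨S0, hS0, hsS0, -⟩ := exists_isAffineOpen_mem_and_subset (X := S)
    (x := f ((pullback.fst f g) z0.pt)) (U := ⊤) (Opens.mem_top _)
  obtain ⟨X0, hX0, hxX0, hX0le⟩ := exists_isAffineOpen_mem_and_subset (X := X)
    (x := (pullback.fst f g) z0.pt) (U := f ⁻¹ᵁ S0) hsS0
  have hyS0 : (pullback.snd f g) z0.pt ∈ g ⁻¹ᵁ S0 := by
    show g ((pullback.snd f g) z0.pt) ∈ S0
    rw [← hs0]; exact hsS0
  obtain ⟨Y0, hY0, hyY0, hY0le⟩ := exists_isAffineOpen_mem_and_subset (X := Y)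
    (x := (pullback.snd f g) z0.pt) (U := g ⁻¹ᵁ S0) hyS0
  haveI : IsAffine X0.toScheme := hX0
  haveI : IsAffine Y0.toScheme := hY0
  haveI : IsAffine S0.toScheme := hS0
  obtain ⟨f0, e1⟩ : ∃ f0 : X0.toScheme ⟶ S0.toScheme, f0 ≫ S0.ι = X0.ι ≫ f :=
    ⟨f.resLE S0 X0 hX0le, Scheme.Hom.resLE_comp_ι _ _⟩
  obtain ⟨g0, e2⟩ : ∃ g0 : Y0.toScheme ⟶ S0.toScheme, g0 ≫ S0.ι = Y0.ι ≫ g :=
    ⟨g.resLE S0 Y0 hY0le, Scheme.Hom.resLE_comp_ι _ _⟩
  have : LocallyOfFiniteType (X0.toScheme ↘ An.SC) :=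
    inferInstanceAs (LocallyOfFiniteType (X0.ι ≫ X ↘ An.SC))
  have : LocallyOfFiniteType (Y0.toScheme ↘ An.SC) :=
    inferInstanceAs (LocallyOfFiniteType (Y0.ι ≫ Y ↘ An.SC))
  have : LocallyOfFiniteType (S0.toScheme ↘ An.SC) :=
    inferInstanceAs (LocallyOfFiniteType (S0.ι ≫ S ↘ An.SC))
  have : X0.ι.IsOver An.SC := ⟨rfl⟩
  have : Y0.ι.IsOver An.SC := ⟨rfl⟩
  have : S0.ι.IsOver An.SC := ⟨rfl⟩
  have hf0 : f0.IsOver An.SC := ⟨by
    show f0 ≫ S0.ι ≫ (S ↘ An.SC) = X0.ι ≫ (X ↘ An.SC)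
    rw [← Category.assoc, e1, Category.assoc, comp_over]⟩
  have hg0 : g0.IsOver An.SC := ⟨by
    show g0 ≫ S0.ι ≫ (S ↘ An.SC) = Y0.ι ≫ (Y ↘ An.SC)
    rw [← Category.assoc, e2, Category.assoc, comp_over]⟩
  have hgft : LocallyOfFiniteType g := by
    have : LocallyOfFiniteType (g ≫ (S ↘ An.SC)) := by rw [comp_over g]; infer_instance
    exact locallyOfFiniteType_of_comp g (S ↘ An.SC)
  have hg0ft : LocallyOfFiniteType g0 := by
    have : LocallyOfFiniteType (g0 ≫ (S0.toScheme ↘ An.SC)) := by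
      rw [comp_over g0]; infer_instance
    exact locallyOfFiniteType_of_comp g0 (S0.toScheme ↘ An.SC)
  have hP : LocallyOfFiniteType ((pullback f g) ↘ An.SC) := by
    have : LocallyOfFiniteType (pullback.fst f g ≫ (X ↘ An.SC)) := inferInstance
    exact this
  have hP0 : LocallyOfFiniteType ((pullback f0 g0) ↘ An.SC) := by
    have : LocallyOfFiniteType (pullback.fst f0 g0 ≫ (X0.toScheme ↘ An.SC)) := inferInstance
    exact this
  obtain ⟨j, hjfst, hjsnd, hjrange, hjopen⟩ : ∃ j : pullback f0 g0 ⟶ pullback f g,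
      j ≫ pullback.fst f g = pullback.fst f0 g0 ≫ X0.ι ∧
      j ≫ pullback.snd f g = pullback.snd f0 g0 ≫ Y0.ι ∧
      Set.range j.base = pullback.fst f g ⁻¹' Set.range X0.ι ∩
        pullback.snd f g ⁻¹' Set.range Y0.ι ∧ IsOpenImmersion j :=
    ⟨pullback.map f0 g0 f g X0.ι Y0.ι S0.ι e1 e2, pullback.lift_fst _ _ _,
      pullback.lift_snd _ _ _, Scheme.Pullback.range_map _ _ _ _ _ _ _ _ _, inferInstance⟩
  have hjover : j.IsOver An.SC := ⟨by
    show j ≫ pullback.fst f g ≫ (X ↘ An.SC) = pullback.fst f0 g0 ≫ X0.ι ≫ (X ↘ An.SC)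
    rw [← Category.assoc, hjfst, Category.assoc]⟩
  have hoe := Groth.Agent.S4196.result (pullback f0 g0) (pullback f g) j
  have hoeX := Groth.Agent.S4196.result X0.toScheme X X0.ι
  have hoeY := Groth.Agent.S4196.result Y0.toScheme Y Y0.ι
  have hind0 := isInducing_pullback_affine f0 g0
  have hrX : Set.range X0.ι = (X0 : Set X) := Scheme.Opens.range_ι X0
  have hrY : Set.range Y0.ι = (Y0 : Set Y) := Scheme.Opens.range_ι Y0
  have hcompat : ∀ w : Pts (pullback f0 g0),
      (Pts.map (pullback.fst f g) (Pts.map j w), Pts.map (pullback.snd f g) (Pts.map j w)) =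
      Prod.map (Pts.map X0.ι) (Pts.map Y0.ι)
        (Pts.map (pullback.fst f0 g0) w, Pts.map (pullback.snd f0 g0) w) := by
    intro w
    apply Prod.ext <;> apply Subtype.ext
    · show (w.1 ≫ j) ≫ pullback.fst f g = (w.1 ≫ pullback.fst f0 g0) ≫ X0.ι
      rw [Category.assoc, hjfst, Category.assoc]
    · show (w.1 ≫ j) ≫ pullback.snd f g = (w.1 ≫ pullback.snd f0 g0) ≫ Y0.ι
      rw [Category.assoc, hjsnd, Category.assoc]
  have hz0range : z0.pt ∈ Set.range j.base := by
    rw [hjrange, hrX, hrY]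
    exact ⟨hxX0, hyY0⟩
  obtain ⟨w0, rfl⟩ := exists_lift_of_isOpenImmersion j z0 hz0range
  have hB0 : IsOpen (Pts.map j ⁻¹' B) := hB.preimage hoe.continuous
  obtain ⟨O0, hO0, hO0eq⟩ := hind0.isOpen_iff.mp hB0
  refine ⟨Prod.map (Pts.map X0.ι) (Pts.map Y0.ι) '' O0,
    (hoeX.prodMap hoeY).isOpenMap _ hO0, ?_, ?_⟩
  · rw [hcompat w0]
    refine ⟨_, ?_, rfl⟩
    have : w0 ∈ Pts.map j ⁻¹' B := hz0
    rw [← hO0eq] at this
    exact this
  · rintro z ⟨⟨x0', y0'⟩, hq, hqz⟩
    have hqz1 : Pts.map X0.ι x0' = Pts.map (pullback.fst f g) z := congrArg Prod.fst hqz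
    have hqz2 : Pts.map Y0.ι y0' = Pts.map (pullback.snd f g) z := congrArg Prod.snd hqz
    have hzrange : z.pt ∈ Set.range j.base := by
      rw [hjrange, hrX, hrY]
      refine ⟨?_, ?_⟩
      · show (pullback.fst f g) z.pt ∈ (X0 : Set X)
        rw [← Pts.pt_map, ← hqz1, Pts.pt_map, ← hrX]
        exact ⟨x0'.pt, rfl⟩
      · show (pullback.snd f g) z.pt ∈ (Y0 : Set Y)
        rw [← Pts.pt_map, ← hqz2, Pts.pt_map, ← hrY]
        exact ⟨y0'.pt, rfl⟩
    obtain ⟨w, rfl⟩ := exists_lift_of_isOpenImmersion j z hzrange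
    have h5 := hcompat w
    have h6 : Prod.map (Pts.map X0.ι) (Pts.map Y0.ι)
        (Pts.map (pullback.fst f0 g0) w, Pts.map (pullback.snd f0 g0) w) =
        Prod.map (Pts.map X0.ι) (Pts.map Y0.ι) (x0', y0') := by
      rw [← h5]; exact hqz.symm
    have h7 := (hoeX.injective.prodMap hoeY.injective) h6
    have h8 : w ∈ (fun z : Pts (pullback f0 g0) =>
        (Pts.map (pullback.fst f0 g0) z, Pts.map (pullback.snd f0 g0) z)) ⁻¹' O0 := by
      show (Pts.map (pullback.fst f0 g0) w, Pts.map (pullback.snd f0 g0) w) ∈ O0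
      rw [h7]; exact hq
    rw [hO0eq] at h8
    exact h8

theorem isInducing_pullback [LocallyOfFiniteType (X ↘ An.SC)] [LocallyOfFiniteType (Y ↘ An.SC)]
    [LocallyOfFiniteType (S ↘ An.SC)] (f : X ⟶ S) (g : Y ⟶ S) [f.IsOver An.SC] [g.IsOver An.SC] :
    Topology.IsInducing (fun z : Pts (pullback f g) =>
      (Pts.map (pullback.fst f g) z, Pts.map (pullback.snd f g) z)) := by
  obtain ⟨Φ, hΦ⟩ : ∃ Φ : Pts (pullback f g) → Pts X × Pts Y, Φ = fun z =>
      (Pts.map (pullback.fst f g) z, Pts.map (pullback.snd f g) z) := ⟨_, rfl⟩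
  rw [← hΦ]
  have hΦc : Continuous Φ := by
    rw [hΦ]; exact (Pts.continuous_map _).prodMk (Pts.continuous_map _)
  constructor
  apply le_antisymm
  · exact hΦc.le_induced
  · refine le_generateFrom ?_
    rintro _ ⟨W, σ, V, hV, rfl⟩
    rw [@isOpen_iff_forall_mem_open _ (TopologicalSpace.induced Φ inferInstance) _]
    intro z0 hz0
    obtain ⟨O, hO, hz0O, hOsub⟩ := pullback_key f g (Pts.basicSet W σ V)
      (Pts.isOpen_basicSet _ _ hV) z0 hz0
    exact ⟨Φ ⁻¹' O, by rw [hΦ]; exact hOsub, isOpen_induced_iff.mpr ⟨O, hO, rfl⟩,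
      by rw [hΦ]; exact hz0O⟩

/-- S4193 -/
theorem pullback_isHomeomorph [LocallyOfFiniteType (X ↘ An.SC)] [LocallyOfFiniteType (Y ↘ An.SC)]
    [LocallyOfFiniteType (S ↘ An.SC)] (f : X ⟶ S) (g : Y ⟶ S) [f.IsOver An.SC] [g.IsOver An.SC] :
    IsHomeomorph (fun z : An.Pts (Limits.pullback f g) =>
      (⟨(An.Pts.map (Limits.pullback.fst f g) z, An.Pts.map (Limits.pullback.snd f g) z),
        An.Pts.map_pullback_condition f g z⟩ :
        {q : An.Pts X × An.Pts Y // An.Pts.map f q.1 = An.Pts.map g q.2})) := by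
  rw [isHomeomorph_iff_isEmbedding_surjective]
  refine ⟨⟨?_, ?_⟩, ?_⟩
  · have hsv : Topology.IsInducing (Subtype.val :
        {q : An.Pts X × An.Pts Y // An.Pts.map f q.1 = An.Pts.map g q.2} → An.Pts X × An.Pts Y) :=
      Topology.IsEmbedding.subtypeVal.isInducing
    rw [← hsv.of_comp_iff]
    exact isInducing_pullback f g
  · intro z z' h
    have h1 : z.1 ≫ pullback.fst f g = z'.1 ≫ pullback.fst f g :=
      congrArg (fun q => q.1.1.1) h
    have h2 : z.1 ≫ pullback.snd f g = z'.1 ≫ pullback.snd f g :=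
      congrArg (fun q => q.1.2.1) h
    exact Subtype.ext (pullback.hom_ext h1 h2)
  · rintro ⟨⟨x, y⟩, hxy⟩
    have hc : x.1 ≫ f = y.1 ≫ g := congrArg Subtype.val hxy
    refine ⟨⟨pullback.lift x.1 y.1 hc, ?_⟩, ?_⟩
    · show pullback.lift x.1 y.1 hc ≫ pullback.fst f g ≫ (X ↘ An.SC) = 𝟙 _
      rw [pullback.lift_fst_assoc, x.2]
    · apply Subtype.ext
      apply Prod.ext <;> apply Subtype.ext
      · exact pullback.lift_fst _ _ _
      · exact pullback.lift_snd _ _ _

end pullback

end Groth.Agent.Lib.AnPtsH1
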