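import Mathlib
import Groth.Prelude.Def_AnPts
import Groth.Agent.Lib.AnPts3_helper1
import Groth.Agent.Lib.AnDense2_helper1
import Groth.Agent.S4198

/-!
# Zariski closure versus closure in the complex topology (helper1)

For `X` locally of finite type over `ℂ` and `T ⊆ X` locally constructible, the `ℂ`-points lying in
the closure of `T` form the closure of the `ℂ`-points lying in `T`; consequences (openness, density,
dominance, separatedness, discreteness).
-/

set_option autoImplicit false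
set_option maxHeartbeats 1000000

open CategoryTheory CategoryTheory.Limits AlgebraicGeometry TopologicalSpace Opposite Topology
open scoped Set.Notation

namespace Groth.Agent.Lib.AnDenseH1

open An Groth.Agent.Lib.AnPtsH1

section topology

lemma finite_locallyClosed_of_isConstructible {T : Type*} [TopologicalSpace T] {s : Set T}
    (hs : IsConstructible s) :
    (∃ F : Set (Set T), F.Finite ∧ (∀ A ∈ F, IsLocallyClosed A) ∧ s = ⋃₀ F) ∧
    (∃ F : Set (Set T), F.Finite ∧ (∀ A ∈ F, IsLocallyClosed A) ∧ sᶜ = ⋃₀ F) := by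
  induction hs using IsConstructible.empty_union_induction with
  | open_retrocompact U hUo hUc =>
    refine ⟨⟨{U}, Set.finite_singleton _, fun A hA => ?_, (Set.sUnion_singleton U).symm⟩,
      ⟨{Uᶜ}, Set.finite_singleton _, fun A hA => ?_, (Set.sUnion_singleton _).symm⟩⟩
    · rw [Set.mem_singleton_iff.mp hA]; exact hUo.isLocallyClosed
    · rw [Set.mem_singleton_iff.mp hA]; exact hUo.isClosed_compl.isLocallyClosed
  | union s hs t ht ihs iht =>
    obtain ⟨⟨F1, hF1, hF1l, hF1e⟩, ⟨G1, hG1, hG1l, hG1e⟩⟩ := ihs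
    obtain ⟨⟨F2, hF2, hF2l, hF2e⟩, ⟨G2, hG2, hG2l, hG2e⟩⟩ := iht
    refine ⟨⟨F1 ∪ F2, hF1.union hF2, ?_, ?_⟩,
      ⟨Set.image2 (fun A B => A ∩ B) G1 G2, Set.Finite.image2 _ hG1 hG2, ?_, ?_⟩⟩
    · rintro A (hA | hA)
      · exact hF1l A hA
      · exact hF2l A hA
    · rw [Set.sUnion_union, ← hF1e, ← hF2e]
    · rintro _ ⟨A, hA, B, hB, rfl⟩
      exact (hG1l A hA).inter (hG2l B hB)
    · rw [Set.compl_union, hG1e, hG2e]
      ext y
      constructor
      · rintro ⟨⟨A, hA, hyA⟩, ⟨B, hB, hyB⟩⟩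
        exact ⟨A ∩ B, ⟨A, hA, B, hB, rfl⟩, hyA, hyB⟩
      · rintro ⟨_, ⟨A, hA, B, hB, rfl⟩, hyA, hyB⟩
        exact ⟨⟨A, hA, hyA⟩, ⟨B, hB, hyB⟩⟩
  | compl s hs ih =>
    refine ⟨ih.2, ?_⟩
    rw [compl_compl]
    exact ih.1

lemma exists_locallyClosed_closure {T : Type*} [TopologicalSpace T] {s : Set T}
    (hs : IsConstructible s) (y : T) (hy : y ∈ closure s) :
    ∃ A, IsLocallyClosed A ∧ A ⊆ s ∧ y ∈ closure A := by
  obtain ⟨F, hF, hFl, hFe⟩ := (finite_locallyClosed_of_isConstructible hs).1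
  rw [hFe, hF.closure_sUnion] at hy
  obtain ⟨A, hA, hyA⟩ := Set.mem_iUnion₂.mp hy
  refine ⟨A, hFl A hA, ?_, hyA⟩
  rw [hFe]
  exact Set.subset_sUnion_of_mem hA

lemma isLocallyConstructible_compl {T : Type*} [TopologicalSpace T] {s : Set T}
    (hs : IsLocallyConstructible s) : IsLocallyConstructible sᶜ := by
  intro x
  obtain ⟨U, hxU, hU, hsU⟩ := hs x
  refine ⟨U, hxU, hU, ?_⟩
  rw [Set.preimage_compl]
  exact hsU.compl

end topology

section points

variable (X : Scheme.{0}) [X.Over An.SC] [LocallyOfFiniteType (X ↘ An.SC)]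

lemma exists_pts_of_closedPoint (a : X) (ha : a ∈ closedPoints X) : ∃ p : Pts X, p.pt = a := by
  refine ⟨(pointEquivClosedPoint (X ↘ An.SC)).symm ⟨a, ha⟩, ?_⟩
  show ((pointEquivClosedPoint (X ↘ An.SC)).symm ⟨a, ha⟩).1 An.cpt = a
  exact pointOfClosedPoint_apply _ _ _ _

lemma val_closedPoint (r : Pts X) : r.1 (IsLocalRing.closedPoint ℂ) = r.pt := by
  show r.1 _ = r.1 An.cpt
  rw [An.eq_cpt (IsLocalRing.closedPoint ℂ)]

lemma pt_mem_closedPoints (p : Pts X) : p.pt ∈ closedPoints X := by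
  have h1 := ((pointEquivClosedPoint (X ↘ An.SC)) p).2
  have e : p.pt = ((pointEquivClosedPoint (X ↘ An.SC)) p).1 := (val_closedPoint X p).symm
  rw [e]; exact h1

lemma pt_injective : Function.Injective (Pts.pt : Pts X → X) := by
  intro p q h
  apply Subtype.ext
  refine ext_of_apply_closedPoint_eq (X ↘ An.SC) p.2 q.2 ?_
  rw [val_closedPoint X p, val_closedPoint X q]
  exact h

end points

lemma exists_pts_map_eq {X Y : Scheme.{0}} [X.Over An.SC] [LocallyOfFiniteType (X ↘ An.SC)]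
    [Y.Over An.SC] [LocallyOfFiniteType (Y ↘ An.SC)] (f : X ⟶ Y) [f.IsOver An.SC]
    (y : Pts Y) (x0 : X) (hx0 : f.base x0 = y.pt) : ∃ x : Pts X, Pts.map f x = y := by
  have hJX : JacobsonSpace X := LocallyOfFiniteType.jacobsonSpace (X ↘ An.SC)
  have e2 : y.1 (IsLocalRing.closedPoint ℂ) = y.pt := val_closedPoint Y y
  have hyc : IsClosed ({y.pt} : Set Y) := pt_mem_closedPoints Y y
  have hZ : IsClosed (f.base ⁻¹' {y.pt}) := hyc.preimage f.continuous
  obtain ⟨x, hxZ, hxc⟩ := nonempty_inter_closedPoints (X := X) (Z := f.base ⁻¹' {y.pt})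
    ⟨x0, hx0⟩ hZ.isLocallyClosed
  refine ⟨(pointEquivClosedPoint (X ↘ An.SC)).symm ⟨x, hxc⟩, ?_⟩
  apply Subtype.ext
  refine ext_of_apply_closedPoint_eq (Y ↘ An.SC) (An.Pts.map f _).2 y.2 ?_
  show (((pointEquivClosedPoint (X ↘ An.SC)).symm ⟨x, hxc⟩).1 ≫ f) (IsLocalRing.closedPoint ℂ) =
    y.1 (IsLocalRing.closedPoint ℂ)
  have e1 : ((pointEquivClosedPoint (X ↘ An.SC)).symm ⟨x, hxc⟩).1 (IsLocalRing.closedPoint ℂ) = x :=
    pointOfClosedPoint_apply _ _ _ _
  have e0 : (((pointEquivClosedPoint (X ↘ An.SC)).symm ⟨x, hxc⟩).1 ≫ f)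
      (IsLocalRing.closedPoint ℂ) =
      f.base (((pointEquivClosedPoint (X ↘ An.SC)).symm ⟨x, hxc⟩).1 (IsLocalRing.closedPoint ℂ)) :=
    Scheme.Hom.comp_apply _ _ _
  have hxZ' : f.base x = y.pt := hxZ
  exact e0.trans ((congrArg (fun t => f.base t) e1).trans (hxZ'.trans e2.symm))

section affine

/-- Affine case of the key lemma. -/
theorem affine_key (X : Scheme.{0}) [X.Over An.SC] [IsAffine X] [LocallyOfFiniteType (X ↘ An.SC)]
    (O C : Set X) (hO : IsOpen O) (hC : IsClosed C) (x : Pts X)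
    (hx : x.pt ∈ closure (O ∩ C)) : x ∈ closure (Pts.pt ⁻¹' (O ∩ C) : Set (Pts X)) := by
  classical
  obtain ⟨n, s, hs⟩ := exists_generators X
  have hce := isClosedEmbedding_of_generators X n s hs
  obtain ⟨E, hE⟩ : ∃ E : Pts X → (Fin n → ℂ), E = fun x i => x.evTop (s i) := ⟨_, rfl⟩
  rw [← hE] at hce
  obtain ⟨π, hπ⟩ : ∃ π : Pol n →+* Γ(X, ⊤), π = MvPolynomial.eval₂Hom (An.strHom X) s :=
    ⟨_, rfl⟩
  rw [← hπ] at hs
  have hform : ∀ (x : Pts X) (p : Pol n), x.evTop (π p) = MvPolynomial.eval (E x) p := by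
    intro x p; rw [hE, hπ]; exact evTop_eval₂ x s p
  have hmemb : ∀ (x : Pts X) (p : Pol n),
      x.pt ∈ X.basicOpen (π p) ↔ MvPolynomial.eval (E x) p ≠ 0 := by
    intro x p
    have h1 := mem_basicOpen_iff x ⊤ (Opens.mem_top _) (π p)
    have h2 : x.ev ⊤ (Opens.mem_top _) (π p) = MvPolynomial.eval (E x) p := hform x p
    rw [h2] at h1
    exact h1
  obtain ⟨I, hI⟩ := (Scheme.eq_zeroLocus_of_isClosed_of_isAffine X C).mp hC
  obtain ⟨𝔞, h𝔞⟩ : ∃ 𝔞 : Ideal (Pol n), 𝔞 = Ideal.comap π I := ⟨_, rfl⟩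
  obtain ⟨𝔧, h𝔧⟩ : ∃ 𝔧 : Set (Pol n), 𝔧 = {H | (X.basicOpen (π H) : Set X) ⊆ O} := ⟨_, rfl⟩
  have hmemC : ∀ z : X, z ∈ C ↔ ∀ p ∈ 𝔞, z ∉ X.basicOpen (π p) := by
    intro z
    rw [hI, Scheme.mem_zeroLocus_iff]
    constructor
    · intro h p hp
      apply h (π p)
      rw [h𝔞] at hp
      exact hp
    · intro h f hf
      obtain ⟨p, rfl⟩ := hs f
      exact h p (by rw [h𝔞]; exact hf)
  -- the radical hypothesis
  have hvq : ∀ q : Pol n, (∀ H ∈ 𝔧, ∃ m : ℕ, (H * q) ^ m ∈ 𝔞) →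
      MvPolynomial.eval (E x) q = 0 := by
    intro q hq
    by_contra hne
    have hxq : x.pt ∈ X.basicOpen (π q) := (hmemb x q).mpr hne
    obtain ⟨z, hzq, hzO, hzC⟩ : ∃ z, z ∈ X.basicOpen (π q) ∧ z ∈ O ∧ z ∈ C := by
      obtain ⟨z, hz1, hz2⟩ := mem_closure_iff.mp hx (X.basicOpen (π q) : Set X)
        (X.basicOpen (π q)).isOpen hxq
      exact ⟨z, hz1, hz2.1, hz2.2⟩
    obtain ⟨_, ⟨g, rfl⟩, hzg, hgO⟩ := Opens.isBasis_iff_nbhd.mp (isBasis_basicOpen X)
      (show z ∈ (⟨O, hO⟩ : X.Opens) from hzO)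
    obtain ⟨H, rfl⟩ := hs g
    have hH : H ∈ 𝔧 := by
      rw [h𝔧]
      exact fun w hw => hgO hw
    obtain ⟨m, hm⟩ := hq H hH
    have hm' : (H * q) ^ (m + 1) ∈ 𝔞 := by
      rw [pow_succ]; exact Ideal.mul_mem_right _ _ hm
    have hnot := (hmemC z).mp hzC _ hm'
    apply hnot
    rw [map_pow, Scheme.basicOpen_pow _ _ (Nat.succ_pos m), map_mul, Scheme.basicOpen_mul]
    exact Opens.mem_inf.mpr ⟨hzg, hzq⟩
  rw [hce.isInducing.closure_eq_preimage_closure_image, Set.mem_preimage, Metric.mem_closure_iff]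
  intro ε hε
  obtain ⟨v', hv'Z, hv'dist, H, hHj, hv'H⟩ := exists_near_of_radical 𝔞 𝔧 (E x) hvq hε
  have hker : ∀ p ∈ RingHom.ker π, MvPolynomial.eval v' p = 0 := by
    intro p hp
    apply hv'Z
    rw [h𝔞, Ideal.mem_comap, RingHom.mem_ker.mp hp]
    exact I.zero_mem
  obtain ⟨ψ, hψ⟩ : ∃ ψ : Γ(X, ⊤) →+* ℂ, ∀ p, ψ (π p) = MvPolynomial.eval v' p :=
    ⟨RingHom.liftOfSurjective π hs
      ⟨MvPolynomial.eval v', fun p hp => RingHom.mem_ker.mpr (hker p hp)⟩,
      fun p => RingHom.liftOfSurjective_comp_apply _ hs _ p⟩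
  have hψc : ∀ c, ψ (An.strHom X c) = c := by
    intro c
    have := hψ (MvPolynomial.C c)
    rwa [hπ, MvPolynomial.eval₂Hom_C, MvPolynomial.eval_C] at this
  obtain ⟨x', hx'⟩ : ∃ x' : Pts X, x' = ofHom (CommRingCat.ofHom ψ) hψc := ⟨_, rfl⟩
  have hEx' : E x' = v' := by
    funext i
    rw [hE, hx']
    show (ofHom (CommRingCat.ofHom ψ) hψc).evTop (s i) = v' i
    rw [evTop_ofHom]
    have := hψ (MvPolynomial.X i)
    rwa [hπ, MvPolynomial.eval₂Hom_X', MvPolynomial.eval_X] at this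
  refine ⟨E x', ⟨x', ⟨?_, ?_⟩, rfl⟩, ?_⟩
  · have hHO : (X.basicOpen (π H) : Set X) ⊆ O := by rw [h𝔧] at hHj; exact hHj
    apply hHO
    apply (hmemb x' H).mpr
    rw [hEx']; exact hv'H
  · rw [hmemC]
    intro p hp hmem
    have := (hmemb x' p).mp hmem
    rw [hEx'] at this
    exact this (hv'Z p hp)
  · rw [hEx', dist_comm]; exact hv'dist

end affine

section general

variable (X : Scheme.{0}) [X.Over An.SC] [LocallyOfFiniteType (X ↘ An.SC)]

/-- The key lemma for locally closed subsets. -/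
theorem locallyClosed_key (O C : Set X) (hO : IsOpen O) (hC : IsClosed C) (x : Pts X)
    (hx : x.pt ∈ closure (O ∩ C)) : x ∈ closure (Pts.pt ⁻¹' (O ∩ C) : Set (Pts X)) := by
  obtain ⟨W, hW, hxW, -⟩ := exists_isAffineOpen_mem_and_subset (X := X) (x := x.pt)
    (U := ⊤) (Opens.mem_top _)
  haveI : IsAffine W.toScheme := hW
  haveI : LocallyOfFiniteType (W.toScheme ↘ An.SC) :=
    inferInstanceAs (LocallyOfFiniteType (W.ι ≫ X ↘ An.SC))
  haveI : W.ι.IsOver An.SC := ⟨rfl⟩
  obtain ⟨u, rfl⟩ := exists_lift_of_mem W x hxW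
  have hpt : (Pts.map W.ι u).pt = W.ι u.pt := Pts.pt_map W.ι u
  rw [hpt] at hx hxW
  have hcont : Continuous W.ι := W.ι.continuous
  have hu : u.pt ∈ closure (W.ι ⁻¹' O ∩ W.ι ⁻¹' C) := by
    rw [← Set.preimage_inter, W.ι.isOpenEmbedding.isInducing.closure_eq_preimage_closure_image,
      Set.mem_preimage, Set.image_preimage_eq_inter_range, Scheme.Opens.range_ι, Set.inter_comm]
    exact W.isOpen.inter_closure ⟨hxW, hx⟩
  have h1 := affine_key W.toScheme _ _ (hO.preimage hcont) (hC.preimage hcont) u hu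
  have h2 : Pts.map W.ι u ∈ closure (Pts.map W.ι '' (Pts.pt ⁻¹' (W.ι ⁻¹' O ∩ W.ι ⁻¹' C))) :=
    image_closure_subset_closure_image (Pts.continuous_map W.ι) ⟨u, h1, rfl⟩
  refine closure_mono ?_ h2
  rintro _ ⟨u', hu', rfl⟩
  show (Pts.map W.ι u').pt ∈ O ∩ C
  rw [Pts.pt_map]
  exact hu'

/-- S4188 -/
theorem preimage_closure_eq (T : Set X) (hT : IsLocallyConstructible T) :
    (An.Pts.pt ⁻¹' closure T : Set (An.Pts X)) = closure (An.Pts.pt ⁻¹' T) := by
  apply Set.Subset.antisymm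
  · intro x hx
    have hx' : x.pt ∈ closure T := hx
    obtain ⟨U, hU, hUo, hUc⟩ := hT x.pt
    have hxU : x.pt ∈ U := mem_of_mem_nhds hU
    have hy : (⟨x.pt, hxU⟩ : U) ∈ closure (U ↓∩ T) := by
      rw [Topology.IsEmbedding.subtypeVal.isInducing.closure_eq_preimage_closure_image,
        Set.mem_preimage, Subtype.image_preimage_coe]
      exact hUo.inter_closure ⟨hxU, hx'⟩
    obtain ⟨A, hA, hAT, hyA⟩ := exists_locallyClosed_closure hUc _ hy
    obtain ⟨O', C', hO', hC', rfl⟩ := hA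
    obtain ⟨C, hC, rfl⟩ := isClosed_induced_iff.mp hC'
    have hO : IsOpen (Subtype.val '' O' : Set X) := hUo.isOpenMap_subtype_val _ hO'
    have himg : (Subtype.val : U → X) '' (O' ∩ Subtype.val ⁻¹' C) = (Subtype.val '' O') ∩ C :=
      Set.image_inter_preimage _ _ _
    have hx2 : x.pt ∈ closure ((Subtype.val '' O') ∩ C) := by
      rw [← himg]
      exact image_closure_subset_closure_image continuous_subtype_val ⟨_, hyA, rfl⟩
    have h3 := locallyClosed_key X _ _ hO hC x hx2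
    refine closure_mono ?_ h3
    intro x' hx'
    have hmem : x'.pt ∈ (Subtype.val '' O') ∩ C := hx'
    rw [← himg] at hmem
    obtain ⟨a, ha, hax⟩ := hmem
    have haT : (a : X) ∈ T := hAT ha
    show x'.pt ∈ T
    rw [← hax]
    exact haT
  · exact Pts.continuous_pt.closure_preimage_subset T

lemma exists_pts_mem (T : Set X) (hT : IsLocallyConstructible T) (C : Set X) (hC : IsClosed C)
    (hne : (T ∩ C).Nonempty) : ∃ p : Pts X, p.pt ∈ T ∧ p.pt ∈ C := by
  have hJX : JacobsonSpace X := LocallyOfFiniteType.jacobsonSpace (X ↘ An.SC)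
  obtain ⟨y, hyT, hyC⟩ := hne
  obtain ⟨U, hU, hUo, hUc⟩ := hT y
  have hyU : y ∈ U := mem_of_mem_nhds hU
  obtain ⟨A, hA, hyA, hAs⟩ :=
    (Groth.Agent.S4198.exists_locallyClosed_of_isConstructible hUc).1 ⟨y, hyU⟩ hyT
  have hJU : JacobsonSpace U := JacobsonSpace.of_isOpenEmbedding hUo.isOpenEmbedding_subtypeVal
  have hA' : IsLocallyClosed (A ∩ (Subtype.val ⁻¹' C : Set U)) :=
    hA.inter (hC.preimage continuous_subtype_val).isLocallyClosed
  obtain ⟨a, ⟨haA, haC⟩, hac⟩ := nonempty_inter_closedPoints (X := U)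
    (Z := A ∩ (Subtype.val ⁻¹' C : Set U)) ⟨⟨y, hyU⟩, hyA, hyC⟩ hA'
  have hac' : (a : X) ∈ closedPoints X := by
    have h1 := hUo.isOpenEmbedding_subtypeVal.preimage_closedPoints
    rw [← h1] at hac
    exact hac
  obtain ⟨p, hp⟩ := exists_pts_of_closedPoint X _ hac'
  refine ⟨p, ?_, ?_⟩
  · rw [hp]; exact hAs haA
  · rw [hp]; exact haC

/-- S4189 -/
theorem isOpen_iff (T : Set X) (hT : IsLocallyConstructible T) :
    IsOpen T ↔ IsOpen (An.Pts.pt ⁻¹' T : Set (An.Pts X)) := by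
  constructor
  · intro h; exact h.preimage Pts.continuous_pt
  · intro h
    have hTc : IsLocallyConstructible Tᶜ := isLocallyConstructible_compl hT
    have h1 := preimage_closure_eq X Tᶜ hTc
    have h2 : closure (Pts.pt ⁻¹' Tᶜ : Set (Pts X)) = Pts.pt ⁻¹' Tᶜ := by
      rw [Set.preimage_compl]; exact (h.isClosed_compl).closure_eq
    rw [h2] at h1
    rw [← isClosed_compl_iff, ← closure_subset_iff_isClosed]
    intro y hy
    by_contra hyT
    rw [Set.notMem_compl_iff] at hyT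
    obtain ⟨p, hpT, hpC⟩ := exists_pts_mem X T hT (closure Tᶜ) isClosed_closure ⟨y, hyT, hy⟩
    have hp : p ∈ (Pts.pt ⁻¹' closure Tᶜ : Set (Pts X)) := hpC
    rw [h1] at hp
    exact hp hpT

/-- S4190 -/
theorem dense_iff (T : Set X) (hT : IsLocallyConstructible T) :
    Dense T ↔ Dense (An.Pts.pt ⁻¹' T : Set (An.Pts X)) := by
  have hJX : JacobsonSpace X := LocallyOfFiniteType.jacobsonSpace (X ↘ An.SC)
  rw [dense_iff_closure_eq, dense_iff_closure_eq, ← preimage_closure_eq X T hT]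
  constructor
  · intro h; rw [h]; rfl
  · intro h
    by_contra hne
    have hne' : ((closure T)ᶜ).Nonempty := Set.nonempty_compl.mpr hne
    obtain ⟨a, ha, hac⟩ := nonempty_inter_closedPoints (X := X) hne'
      isClosed_closure.isOpen_compl.isLocallyClosed
    obtain ⟨p, hp⟩ := exists_pts_of_closedPoint X a hac
    have hmem : p ∈ (Pts.pt ⁻¹' closure T : Set (Pts X)) := by rw [h]; trivial
    apply ha
    rw [← hp]; exact hmem

/-- A locally closed subset is closed as soon as its set of `ℂ`-points is closed. -/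
theorem isClosed_of_isLocallyClosed (R : Set X) (hR : IsLocallyClosed R)
    (h : IsClosed (Pts.pt ⁻¹' R : Set (Pts X))) : IsClosed R := by
  have hJX : JacobsonSpace X := LocallyOfFiniteType.jacobsonSpace (X ↘ An.SC)
  obtain ⟨O, C, hO, hC, rfl⟩ := hR
  rw [← closure_subset_iff_isClosed]
  intro y hy
  by_contra hyn
  have hyC : y ∈ C := (closure_minimal Set.inter_subset_right hC) hy
  have hyO : y ∉ O := fun hyO => hyn ⟨hyO, hyC⟩
  obtain ⟨a, ⟨haR, haO⟩, hac⟩ := nonempty_inter_closedPoints (X := X)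
    (Z := closure (O ∩ C) ∩ Oᶜ) ⟨y, hy, hyO⟩
    (isClosed_closure.inter hO.isClosed_compl).isLocallyClosed
  obtain ⟨p, rfl⟩ := exists_pts_of_closedPoint X a hac
  have h3 := locallyClosed_key X O C hO hC p haR
  rw [h.closure_eq] at h3
  exact haO h3.1

/-- S4187 -/
theorem discrete_iff : DiscreteTopology ↥X ↔ DiscreteTopology (An.Pts X) := by
  have hJX : JacobsonSpace X := LocallyOfFiniteType.jacobsonSpace (X ↘ An.SC)
  constructor
  · intro h
    rw [discreteTopology_iff_isOpen_singleton]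
    intro p
    have hp : ({p} : Set (Pts X)) = Pts.pt ⁻¹' {p.pt} := by
      ext q
      constructor
      · intro hq
        rw [Set.mem_singleton_iff.mp hq]
        rfl
      · intro hq
        exact pt_injective X hq
    rw [hp]
    exact (isOpen_discrete _).preimage Pts.continuous_pt
  · intro h
    have hopen : ∀ a ∈ closedPoints X, IsOpen ({a} : Set X) := by
      intro a ha
      obtain ⟨p, rfl⟩ := exists_pts_of_closedPoint X a ha
      have hacl : IsClosed ({p.pt} : Set X) := ha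
      by_contra hno
      have hcl : p.pt ∈ closure (({p.pt} : Set X)ᶜ) := by
        rw [closure_compl, Set.mem_compl_iff, mem_interior]
        rintro ⟨t, ht, hto, hpt⟩
        apply hno
        have hte : t = {p.pt} := Set.Subset.antisymm ht (Set.singleton_subset_iff.mpr hpt)
        rw [← hte]; exact hto
      have hcl' : p.pt ∈ closure (({p.pt} : Set X)ᶜ ∩ Set.univ) := by rwa [Set.inter_univ]
      have h3 := locallyClosed_key X _ _ hacl.isOpen_compl isClosed_univ p hcl'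
      have h4 : (Pts.pt ⁻¹' (({p.pt} : Set X)ᶜ ∩ Set.univ) : Set (Pts X)) = {p}ᶜ := by
        ext q
        simp only [Set.mem_preimage, Set.mem_inter_iff, Set.mem_compl_iff,
          Set.mem_singleton_iff, Set.mem_univ, and_true]
        exact not_congr ⟨fun hq => pt_injective X hq, fun hq => by rw [hq]⟩
      rw [h4, (isClosed_discrete _).closure_eq] at h3
      exact h3 rfl
    have hall : ∀ y : X, IsOpen ({y} : Set X) := by
      intro y
      obtain ⟨a, hay, hac⟩ := nonempty_inter_closedPoints (X := X) (Z := closure {y})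
        ⟨y, subset_closure rfl⟩ isClosed_closure.isLocallyClosed
      have hao := hopen a hac
      obtain ⟨z, hz1, hz2⟩ := mem_closure_iff.mp hay {a} hao rfl
      have hya : y = a :=
        (Set.mem_singleton_iff.mp hz2).symm.trans (Set.mem_singleton_iff.mp hz1)
      rw [hya]; exact hao
    exact discreteTopology_iff_isOpen_singleton.mpr hall

end general

section maps

variable {X Y : Scheme.{0}} [X.Over An.SC] [LocallyOfFiniteType (X ↘ An.SC)]
  [Y.Over An.SC] [LocallyOfFiniteType (Y ↘ An.SC)]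

lemma preimage_range_eq (f : X ⟶ Y) [f.IsOver An.SC] :
    (Pts.pt ⁻¹' Set.range f.base : Set (Pts Y)) = Set.range (Pts.map f) := by
  ext y
  constructor
  · rintro ⟨x0, hx0⟩
    exact exists_pts_map_eq f y x0 hx0
  · rintro ⟨x, rfl⟩
    exact ⟨x.pt, (Pts.pt_map f x).symm⟩

/-- S4199 -/
theorem denseRange_iff (f : X ⟶ Y) [f.IsOver An.SC] [QuasiCompact f] :
    DenseRange f.base ↔ DenseRange (An.Pts.map f) := by
  have hft : LocallyOfFiniteType f := by
    have : LocallyOfFiniteType (f ≫ (Y ↘ An.SC)) := by rw [comp_over f]; infer_instance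
    exact locallyOfFiniteType_of_comp f (Y ↘ An.SC)
  have hnoeth : IsLocallyNoetherian Y := LocallyOfFiniteType.isLocallyNoetherian (Y ↘ An.SC)
  have hfp : LocallyOfFinitePresentation f :=
    LocallyOfFinitePresentation.iff_locallyOfFiniteType.mpr hft
  have hlc : IsLocallyConstructible (Set.range f.base) := by
    have := f.isLocallyConstructible_image (s := Set.univ)
      (IsConstructible.univ.isLocallyConstructible)
    rwa [Set.image_univ] at this
  unfold DenseRange
  rw [dense_iff Y _ hlc, preimage_range_eq f]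

/-- S4195 -/
theorem isSeparated_iff (f : X ⟶ Y) [f.IsOver An.SC] :
    IsSeparated f ↔ IsSeparatedMap (An.Pts.map f) := by
  have hfft : LocallyOfFiniteType f := by
    have : LocallyOfFiniteType (f ≫ (Y ↘ An.SC)) := by rw [comp_over f]; infer_instance
    exact locallyOfFiniteType_of_comp f (Y ↘ An.SC)
  have hP : LocallyOfFiniteType ((pullback f f) ↘ An.SC) := by
    have : LocallyOfFiniteType (pullback.fst f f ≫ (X ↘ An.SC)) := inferInstance
    exact this
  obtain ⟨Δ, hΔ⟩ : ∃ Δ : X ⟶ pullback f f, Δ = pullback.diagonal f := ⟨_, rfl⟩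
  have hΔover : Δ.IsOver An.SC := ⟨by
    show Δ ≫ pullback.fst f f ≫ (X ↘ An.SC) = X ↘ An.SC
    rw [hΔ, pullback.diagonal_fst_assoc]⟩
  have hΔfst : Δ ≫ pullback.fst f f = 𝟙 X := by rw [hΔ]; exact pullback.diagonal_fst f
  have hΔsnd : Δ ≫ pullback.snd f f = 𝟙 X := by rw [hΔ]; exact pullback.diagonal_snd f
  have hΔimm : IsImmersion Δ := by rw [hΔ]; infer_instance
  have hh := pullback_isHomeomorph f f
  obtain ⟨h, hhdef⟩ : ∃ h : Pts (pullback f f) → Function.Pullback (Pts.map f) (Pts.map f),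
      h = fun z => ⟨(Pts.map (pullback.fst f f) z, Pts.map (pullback.snd f f) z),
        Pts.map_pullback_condition f f z⟩ := ⟨_, rfl⟩
  rw [← hhdef] at hh
  have hrange : Set.range (Pts.map Δ) = h ⁻¹' Function.pullbackDiagonal (Pts.map f) := by
    ext z
    constructor
    · rintro ⟨x, rfl⟩
      show (h (Pts.map Δ x)).fst = (h (Pts.map Δ x)).snd
      rw [hhdef]
      show Pts.map (pullback.fst f f) (Pts.map Δ x) = Pts.map (pullback.snd f f) (Pts.map Δ x)
      apply Subtype.ext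
      show (x.1 ≫ Δ) ≫ pullback.fst f f = (x.1 ≫ Δ) ≫ pullback.snd f f
      rw [Category.assoc, Category.assoc, hΔfst, hΔsnd]
    · intro hz
      have hz' : Pts.map (pullback.fst f f) z = Pts.map (pullback.snd f f) z := by
        rw [hhdef] at hz; exact hz
      have hz'' : z.1 ≫ pullback.fst f f = z.1 ≫ pullback.snd f f := congrArg Subtype.val hz'
      refine ⟨Pts.map (pullback.fst f f) z, ?_⟩
      apply Subtype.ext
      show (z.1 ≫ pullback.fst f f) ≫ Δ = z.1
      apply pullback.hom_ext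
      · rw [Category.assoc, hΔfst, Category.comp_id]
      · rw [Category.assoc, hΔsnd, Category.comp_id, hz'']
  have hrange2 : Set.range (Pts.map Δ) = Pts.pt ⁻¹' Set.range Δ.base :=
    (preimage_range_eq Δ).symm
  rw [isSeparatedMap_iff_isClosed_diagonal]
  constructor
  · intro hsep
    have hci : IsClosedImmersion Δ := by rw [hΔ]; exact hsep.isClosedImmersion_diagonal
    have hce := isClosedEmbedding_map_of_isClosedImmersion Δ
    have h1 : IsClosed (Set.range (Pts.map Δ)) := hce.isClosed_range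
    rw [hrange] at h1
    have h2 := hh.isClosedMap _ h1
    rwa [Set.image_preimage_eq _ hh.surjective] at h2
  · intro hcl
    have h1 : IsClosed (Set.range (Pts.map Δ)) := by
      rw [hrange]; exact hcl.preimage hh.continuous
    rw [hrange2] at h1
    have h2 : IsClosed (Set.range Δ) :=
      isClosed_of_isLocallyClosed (pullback f f) _ Δ.isLocallyClosed_range h1
    have h3 : IsClosedImmersion Δ := IsClosedImmersion.of_isPreimmersion Δ h2
    rw [hΔ] at h3
    exact ⟨h3⟩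

end maps

/-- S4204 -/
theorem isSeparated_iff_t2 (X : Scheme.{0}) [X.Over An.SC] [LocallyOfFiniteType (X ↘ An.SC)] :
    IsSeparated (X ↘ An.SC) ↔ T2Space (An.Pts X) := by
  letI iSC : An.SC.Over An.SC := ⟨𝟙 An.SC⟩
  haveI : LocallyOfFiniteType (An.SC ↘ An.SC) := inferInstanceAs (LocallyOfFiniteType (𝟙 An.SC))
  haveI : (X ↘ An.SC).IsOver An.SC := ⟨Category.comp_id _⟩
  rw [isSeparated_iff (X ↘ An.SC)]
  have hsub : ∀ a b : Pts An.SC, a = b := by
    intro a b
    apply Subtype.ext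
    have ha : a.1 ≫ 𝟙 An.SC = 𝟙 An.SC := a.2
    have hb : b.1 ≫ 𝟙 An.SC = 𝟙 An.SC := b.2
    rw [Category.comp_id] at ha hb
    rw [ha, hb]
  constructor
  · intro h
    exact ⟨fun x y hxy => h x y (hsub _ _) hxy⟩
  · intro h x y _ hxy
    exact t2_separation hxy

end Groth.Agent.Lib.AnDenseH1
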