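import Mathlib
import Groth.Prelude.Def_AnCl

/-!
# The opens of `T` form a dense subsite of the site of local homeomorphisms over `T` (helper7)
-/

set_option autoImplicit false
universe u
open CategoryTheory TopologicalSpace Topology Opposite An

namespace Groth.Agent.Lib.AnDense_helper7

variable (T : Type u) [TopologicalSpace T]

instance faithful_opensToCl : (opensToCl T).Faithful := ⟨fun _ => Subsingleton.elim _ _⟩

theorem le_of_hom {U V : Opens T} (f : (opensToCl T).obj U ⟶ (opensToCl T).obj V) : U ≤ V := by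
  intro x hx
  have h : (f.toFun ⟨x, hx⟩).1 = x := f.over ⟨x, hx⟩
  rw [← h]
  exact (f.toFun ⟨x, hx⟩).2

instance full_opensToCl : (opensToCl T).Full := ⟨fun {U V} f => ⟨homOfLE (le_of_hom T f), by
  apply Cl.hom_ext
  funext a
  apply Subtype.ext
  exact (f.over a).symm⟩⟩

theorem isDenseSubsite :
    (opensToCl T).IsDenseSubsite (Opens.grothendieckTopology T) (Cl.topology T) where
  isCoverDense' := ⟨fun A => by
    intro a
    obtain ⟨e, hae, he⟩ := A.lh a
    let U : Opens T := ⟨e.target, e.open_target⟩
    let g : (opensToCl T).obj U ⟶ A :=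
      ⟨fun u => e.symm u.1, e.symm.isOpenEmbedding_restrict.continuous, fun u => by
          show A.p (e.symm u.1) = u.1
          rw [he]
          exact e.right_inv u.2⟩
    exact ⟨(opensToCl T).obj U, g, ⟨⟨U, 𝟙 _, g, Category.id_comp _⟩⟩,
      e.symm.isOpenEmbedding_restrict, ⟨⟨e a, e.map_source hae⟩, e.left_inv hae⟩⟩⟩
  functorPushforward_mem_iff := by
    intro U₀ R
    constructor
    · intro h x hx
      obtain ⟨B, g, ⟨Z, k, l, hRk, rfl⟩, -, b, hb⟩ := h ⟨x, hx⟩
      refine ⟨Z, k, hRk, ?_⟩
      have h1 : ((l ≫ (opensToCl T).map k).toFun b).1 = x := congrArg Subtype.val hb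
      rw [← h1]
      exact (l.toFun b).2
    · intro h a
      obtain ⟨V, f, hRf, haV⟩ := h a.1 a.2
      exact ⟨(opensToCl T).obj V, (opensToCl T).map f,
        ⟨V, f, 𝟙 _, hRf, (Category.id_comp _).symm⟩,
        Opens.isOpenEmbedding_of_le f.le, ⟨⟨a.1, haV⟩, rfl⟩⟩

theorem opCont : An.OpCont T := by
  haveI := isDenseSubsite T
  infer_instance

theorem resOpens_isEquivalence [An.OpCont T] : (An.resOpens T).IsEquivalence := by
  haveI := isDenseSubsite T
  exact inferInstanceAs ((opensToCl T).sheafPushforwardContinuous AddCommGrpCat.{u + 1}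
    (Opens.grothendieckTopology T) (Cl.topology T)).IsEquivalence

end Groth.Agent.Lib.AnDense_helper7
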