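import Mathlib
import Groth.Prelude.Def_AnPts
import Groth.Agent.Lib.AnDense3_helper1

/-!
# Étale morphisms induce local homeomorphisms on `ℂ`-points, part 1 (helper1)

The affine standard-étale case: openness at every point, by continuity of roots.
-/

set_option autoImplicit false
set_option maxHeartbeats 1000000

open CategoryTheory CategoryTheory.Limits AlgebraicGeometry TopologicalSpace Opposite Topology

namespace Groth.Agent.Lib.AnEtaleH1

open An Groth.Agent.Lib.AnPtsH1 Groth.Agent.Lib.AnDenseH1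

section basics

variable {X Y : Scheme.{0}} [X.Over An.SC] [Y.Over An.SC]

/-- Evaluation of global sections at a `ℂ`-point, as a ring homomorphism. -/
noncomputable def evT (y : Pts Y) : Γ(Y, ⊤) →+* ℂ := evHom y ⊤ (Opens.mem_top _)

lemma evT_apply (y : Pts Y) (a : Γ(Y, ⊤)) : evT y a = y.evTop a := rfl

lemma evT_comp (g : X ⟶ Y) [g.IsOver An.SC] (x : Pts X) :
    (evT x).comp g.appTop.hom = evT (Pts.map g x) := by
  ext a
  exact (Pts.ev_map g x ⊤ (Opens.mem_top _) a).symm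

lemma appTop_strHom (g : X ⟶ Y) [g.IsOver An.SC] (c : ℂ) :
    g.appTop.hom (An.strHom Y c) = An.strHom X c := by
  have e : (g ≫ (Y ↘ An.SC)).appTop = (X ↘ An.SC).appTop := by rw [comp_over]
  exact ConcreteCategory.congr_hom e ((Scheme.ΓSpecIso (CommRingCat.of ℂ)).inv c)

lemma continuous_pv (p : Polynomial Γ(Y, ⊤)) :
    Continuous (fun q : Pts Y × ℂ => Polynomial.eval₂ (evT q.1) q.2 p) := by
  have h : (fun q : Pts Y × ℂ => Polynomial.eval₂ (evT q.1) q.2 p) =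
      fun q => ∑ i ∈ Finset.range (p.natDegree + 1), q.1.evTop (p.coeff i) * q.2 ^ i := by
    funext q
    exact Polynomial.eval₂_eq_sum_range _ _
  rw [h]
  exact continuous_finsetSum _ fun i _ =>
    ((continuous_evTop (p.coeff i)).comp continuous_fst).mul (continuous_snd.pow i)

lemma evT_polyEval₂ (g : X ⟶ Y) [g.IsOver An.SC] (x : Pts X) (t : Γ(X, ⊤))
    (p : Polynomial Γ(Y, ⊤)) :
    evT x (Polynomial.eval₂ g.appTop.hom t p) =
      Polynomial.eval₂ (evT (Pts.map g x)) (evT x t) p := by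
  have h := Polynomial.hom_eval₂ p g.appTop.hom (evT x) t
  rw [evT_comp] at h
  exact h

lemma exists_pts_of_hom [IsAffine X] (g : X ⟶ Y) [g.IsOver An.SC] (y : Pts Y)
    (ψ' : Γ(X, ⊤) →+* ℂ) (h : ψ'.comp g.appTop.hom = evT y) :
    ∃ x : Pts X, (∀ b, evT x b = ψ' b) ∧ (∀ a, (Pts.map g x).evTop a = y.evTop a) := by
  have hc : ∀ c, ψ' (An.strHom X c) = c := by
    intro c
    rw [← appTop_strHom g c]
    have h1 := RingHom.congr_fun h (An.strHom Y c)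
    rw [RingHom.comp_apply] at h1
    rw [h1]
    exact evTop_strHom y c
  refine ⟨ofHom (CommRingCat.ofHom ψ') hc, fun b => evTop_ofHom _ hc b, fun a => ?_⟩
  have h1 : (Pts.map g (ofHom (CommRingCat.ofHom ψ') hc)).evTop a =
      (ofHom (CommRingCat.ofHom ψ') hc).evTop (g.appTop.hom a) :=
    Pts.ev_map g _ ⊤ (Opens.mem_top _) a
  rw [h1, evTop_ofHom]
  exact RingHom.congr_fun h a

end basics

/-- The data of a standard étale presentation, in elementary terms. -/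
lemma std_data {A B : Type*} [CommRing A] [CommRing B] (φ : A →+* B)
    (hstd : @Algebra.IsStandardEtale A B _ _ φ.toAlgebra) :
    ∃ (F G : Polynomial A) (t : B), F.Monic ∧ Polynomial.eval₂ φ t F = 0 ∧
      IsUnit (Polynomial.eval₂ φ t G) ∧
      (∀ b : B, ∃ (p : Polynomial A) (n : ℕ),
        b * (Polynomial.eval₂ φ t G) ^ n = Polynomial.eval₂ φ t p) ∧
      (∀ (ψ : A →+* ℂ) (τ : ℂ), Polynomial.eval₂ ψ τ F = 0 → Polynomial.eval₂ ψ τ G ≠ 0 →
        ∃ ψ' : B →+* ℂ, ψ'.comp φ = ψ ∧ ψ' t = τ) := by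
  letI : Algebra A B := φ.toAlgebra
  obtain ⟨P⟩ := hstd.nonempty_standardEtalePresentation
  refine ⟨P.f, P.g, P.x, P.monic_f, P.hasMap.1, P.hasMap.2,
    fun b => P.exists_mul_aeval_x_g_pow_eq_aeval_x b, ?_⟩
  intro ψ τ hF hG
  letI : Algebra A ℂ := ψ.toAlgebra
  have hmap : P.P.HasMap τ := ⟨hF, isUnit_iff_ne_zero.mpr hG⟩
  refine ⟨((P.P.lift τ hmap).comp P.equivRing.toAlgHom).toRingHom, ?_, ?_⟩
  · ext a
    exact AlgHom.commutes ((P.P.lift τ hmap).comp P.equivRing.toAlgHom) a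
  · show P.P.lift τ hmap (P.equivRing P.x) = τ
    rw [P.equivRing_x, StandardEtalePair.lift_X]

section affine

variable {X Y : Scheme.{0}} [X.Over An.SC] [Y.Over An.SC]

/-- Openness at a point, in the affine standard étale case. -/
theorem affine_open_at [IsAffine X] [IsAffine Y] [LocallyOfFiniteType (X ↘ An.SC)]
    (g : X ⟶ Y) [g.IsOver An.SC]
    (hstd : @Algebra.IsStandardEtale Γ(Y, ⊤) Γ(X, ⊤) _ _ g.appTop.hom.toAlgebra) (x0 : Pts X) :
    𝓝 (Pts.map g x0) ≤ Filter.map (Pts.map g) (𝓝 x0) := by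
  classical
  obtain ⟨F, G, t, hFm, hFt, hGt, hgen, hlift⟩ := std_data g.appTop.hom hstd
  obtain ⟨w, hw⟩ : ∃ w : Γ(X, ⊤), Polynomial.eval₂ g.appTop.hom t G * w = 1 :=
    ⟨↑(hGt.unit⁻¹), hGt.mul_val_inv⟩
  obtain ⟨pv, hpv⟩ : ∃ pv : Polynomial Γ(Y, ⊤) → Pts Y → ℂ → ℂ,
      pv = fun p y τ => Polynomial.eval₂ (evT y) τ p := ⟨_, rfl⟩
  have hKF : ∀ (x : Pts X) (p : Polynomial Γ(Y, ⊤)),
      evT x (Polynomial.eval₂ g.appTop.hom t p) = pv p (Pts.map g x) (evT x t) := by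
    intro x p; rw [hpv]; exact evT_polyEval₂ g x t p
  have hpvc : ∀ p : Polynomial Γ(Y, ⊤), Continuous (fun q : Pts Y × ℂ => pv p q.1 q.2) := by
    intro p; rw [hpv]; exact continuous_pv p
  have hGw : ∀ x : Pts X, pv G (Pts.map g x) (evT x t) * evT x w = 1 := by
    intro x
    rw [← hKF, ← map_mul, hw, map_one]
  have hF0 : ∀ x : Pts X, pv F (Pts.map g x) (evT x t) = 0 := by
    intro x
    rw [← hKF, hFt, map_zero]
  obtain ⟨Ψ, hΨ⟩ : ∃ Ψ : Pts X → Pts Y × (ℂ × ℂ),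
      Ψ = fun x => (Pts.map g x, evT x t, evT x w) := ⟨_, rfl⟩
  have hΨc : Continuous Ψ := by
    rw [hΨ]
    exact (Pts.continuous_map g).prodMk ((continuous_evTop t).prodMk (continuous_evTop w))
  have hΨi : Topology.IsInducing Ψ := by
    obtain ⟨n, s, hs⟩ := exists_generators X
    have hce := isClosedEmbedding_of_generators X n s hs
    choose p k hpk using fun i => hgen (s i)
    obtain ⟨c, hc⟩ : ∃ c : Pts Y × (ℂ × ℂ) → (Fin n → ℂ),
        c = fun q i => pv (p i) q.1 q.2.1 * q.2.2 ^ (k i) := ⟨_, rfl⟩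
    have hcc : Continuous c := by
      rw [hc]
      refine continuous_pi fun i => ?_
      exact ((hpvc (p i)).comp (continuous_fst.prodMk (continuous_fst.comp continuous_snd))).mul
        ((continuous_snd.comp continuous_snd).pow (k i))
    refine Topology.IsInducing.of_comp hΨc hcc ?_
    have hEq : c ∘ Ψ = fun (x : Pts X) (i : Fin n) => x.evTop (s i) := by
      funext x i
      rw [hc, hΨ]
      show pv (p i) (Pts.map g x) (evT x t) * (evT x w) ^ (k i) = evT x (s i)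
      rw [← hKF, ← hpk i, ← map_pow, ← map_mul]
      congr 1
      rw [mul_assoc, ← mul_pow, hw, one_pow, mul_one]
    rw [hEq]
    exact hce.isInducing
  intro N' hN'
  rw [Filter.mem_map, hΨi.nhds_eq_comap x0, Filter.mem_comap] at hN'
  obtain ⟨O, hO, hOsub⟩ := hN'
  obtain ⟨y0, hy0⟩ : ∃ y0, y0 = Pts.map g x0 := ⟨_, rfl⟩
  obtain ⟨τ0, hτ0⟩ : ∃ τ0, τ0 = evT x0 t := ⟨_, rfl⟩
  obtain ⟨w0, hw0⟩ : ∃ w0, w0 = evT x0 w := ⟨_, rfl⟩
  have hΨx0 : Ψ x0 = (y0, τ0, w0) := by rw [hΨ, hy0, hτ0, hw0]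
  rw [hΨx0] at hO
  rw [← hy0]
  obtain ⟨N1, hN1, O2, hO2, hsub1⟩ := mem_nhds_prod_iff.mp hO
  obtain ⟨T1, hT1, W1, hW1, hsub2⟩ := mem_nhds_prod_iff.mp hO2
  have hG0 : pv G y0 τ0 * w0 = 1 := by rw [hy0, hτ0, hw0]; exact hGw x0
  have hG0ne : pv G y0 τ0 ≠ 0 := left_ne_zero_of_mul_eq_one hG0
  have hw0eq : w0 = (pv G y0 τ0)⁻¹ := eq_inv_of_mul_eq_one_right hG0
  have hF00 : pv F y0 τ0 = 0 := by rw [hy0, hτ0]; exact hF0 x0
  have hΘ : ContinuousAt (fun q : Pts Y × ℂ => (q.2, (pv G q.1 q.2)⁻¹)) (y0, τ0) :=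
    continuous_snd.continuousAt.prodMk ((hpvc G).continuousAt.inv₀ hG0ne)
  have hS1 : (fun q : Pts Y × ℂ => (q.2, (pv G q.1 q.2)⁻¹)) ⁻¹' (T1 ×ˢ W1) ∈ 𝓝 (y0, τ0) := by
    have hmem : T1 ×ˢ W1 ∈ 𝓝 ((fun q : Pts Y × ℂ => (q.2, (pv G q.1 q.2)⁻¹)) (y0, τ0)) := by
      show T1 ×ˢ W1 ∈ 𝓝 (τ0, (pv G y0 τ0)⁻¹)
      rw [← hw0eq]
      exact prod_mem_nhds hT1 hW1
    exact hΘ hmem
  have hS2 : {q : Pts Y × ℂ | pv G q.1 q.2 ≠ 0} ∈ 𝓝 (y0, τ0) :=
    (isOpen_ne_fun (hpvc G) continuous_const).mem_nhds hG0ne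
  obtain ⟨N2, hN2, T2, hT2, hsub3⟩ := mem_nhds_prod_iff.mp (Filter.inter_mem hS1 hS2)
  obtain ⟨ρ, hρ, hball⟩ := Metric.mem_nhds_iff.mp hT2
  have hdeg : 0 < F.natDegree := by
    by_contra hcon
    have h0 : F.natDegree = 0 := by omega
    have hF1 : F = 1 := hFm.natDegree_eq_zero.mp h0
    rw [hF1, hpv] at hF00
    simp at hF00
  have hN3 : {y : Pts Y | ‖pv F y τ0‖ < ρ ^ F.natDegree} ∈ 𝓝 y0 := by
    have hc : Continuous (fun y : Pts Y => ‖pv F y τ0‖) :=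
      ((hpvc F).comp (continuous_id.prodMk continuous_const)).norm
    refine (isOpen_lt hc continuous_const).mem_nhds ?_
    show ‖pv F y0 τ0‖ < ρ ^ F.natDegree
    rw [hF00, norm_zero]
    exact pow_pos hρ _
  refine Filter.mem_of_superset (Filter.inter_mem hN1 (Filter.inter_mem hN2 hN3)) ?_
  rintro y ⟨hy1, hy2, hy3⟩
  obtain ⟨Fy, hFy⟩ : ∃ Fy : Polynomial ℂ, Fy = F.map (evT y) := ⟨_, rfl⟩
  have hFym : Fy.Monic := by rw [hFy]; exact hFm.map _
  have hFydeg : Fy.natDegree = F.natDegree := by rw [hFy]; exact hFm.natDegree_map _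
  have hFyeval : ∀ τ, Fy.eval τ = pv F y τ := by
    intro τ; rw [hFy, hpv, Polynomial.eval_map]
  obtain ⟨q, hq⟩ : ∃ q : Polynomial ℂ, q = Fy.comp (Polynomial.X + Polynomial.C τ0) :=
    ⟨_, rfl⟩
  have hqm : q.Monic := by rw [hq]; exact hFym.comp_X_add_C τ0
  have hqdeg : q.natDegree = F.natDegree := by
    rw [hq, Polynomial.natDegree_comp, Polynomial.natDegree_X_add_C, mul_one, hFydeg]
  have hqeval : ∀ σ, q.eval σ = pv F y (σ + τ0) := by
    intro σ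
    rw [hq, Polynomial.eval_comp, Polynomial.eval_add, Polynomial.eval_X, Polynomial.eval_C,
      hFyeval]
  have hq0 : ‖q.coeff 0‖ < ρ ^ q.natDegree := by
    rw [Polynomial.coeff_zero_eq_eval_zero, hqeval, zero_add, hqdeg]
    exact hy3
  obtain ⟨σ, hσroot, hσnorm⟩ :=
    exists_root_norm_lt q hqm (by rw [hqdeg]; exact hdeg) hρ.le hq0
  obtain ⟨τ, hτ⟩ : ∃ τ, τ = σ + τ0 := ⟨_, rfl⟩
  have hFτ : pv F y τ = 0 := by
    rw [hτ, ← hqeval]; exact hσroot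
  have hτT2 : τ ∈ T2 := by
    apply hball
    rw [Metric.mem_ball, hτ, dist_eq_norm, add_sub_cancel_right]
    exact hσnorm
  have hmemS : (y, τ) ∈ (fun q : Pts Y × ℂ => (q.2, (pv G q.1 q.2)⁻¹)) ⁻¹' (T1 ×ˢ W1) ∩
      {q : Pts Y × ℂ | pv G q.1 q.2 ≠ 0} := hsub3 ⟨hy2, hτT2⟩
  obtain ⟨⟨hτT1, hwW1⟩, hGne⟩ := hmemS
  have hFτ' : Polynomial.eval₂ (evT y) τ F = 0 := by rw [hpv] at hFτ; exact hFτ
  have hGne' : Polynomial.eval₂ (evT y) τ G ≠ 0 := by rw [hpv] at hGne; exact hGne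
  obtain ⟨ψ', hψ'comp, hψ't⟩ := hlift (evT y) τ hFτ' hGne'
  obtain ⟨x, hxev, hxmap⟩ := exists_pts_of_hom g y ψ' hψ'comp
  have hxy : Pts.map g x = y := ext_of_evTop hxmap
  have hxt : evT x t = τ := (hxev t).trans hψ't
  have hxw : evT x w = (pv G y τ)⁻¹ := by
    have h1 := hGw x
    rw [hxy, hxt] at h1
    exact eq_inv_of_mul_eq_one_right h1
  have hΨx : Ψ x = (y, τ, (pv G y τ)⁻¹) := by rw [hΨ]; simp only [hxy, hxt, hxw]
  have hxO : Ψ x ∈ O := by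
    rw [hΨx]
    exact hsub1 ⟨hy1, hsub2 ⟨hτT1, hwW1⟩⟩
  have hfin := hOsub hxO
  rw [← hxy]
  exact hfin

end affine

end Groth.Agent.Lib.AnEtaleH1
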