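import Mathlib
import Groth.Prelude.Def_AnPts
import Groth.Agent.Lib.AnEtale1_helper1

/-!
# Étale morphisms induce local homeomorphisms on `ℂ`-points, part 2 (helper1)

Standard étale charts, local injectivity via the diagonal, and the final statement.
-/

set_option autoImplicit false
set_option maxHeartbeats 1000000

open CategoryTheory CategoryTheory.Limits AlgebraicGeometry TopologicalSpace Opposite Topology

namespace Groth.Agent.Lib.AnEtaleH1

open An Groth.Agent.Lib.AnPtsH1 Groth.Agent.Lib.AnDenseH1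

section chart

/-- Openness at a point for an étale morphism of affine schemes. -/
theorem open_at_affine_etale {X0 Y0 : Scheme.{0}} [X0.Over An.SC] [Y0.Over An.SC]
    [IsAffine X0] [IsAffine Y0] [LocallyOfFiniteType (X0 ↘ An.SC)]
    [LocallyOfFiniteType (Y0 ↘ An.SC)] (g0 : X0 ⟶ Y0) [g0.IsOver An.SC] [Etale g0]
    (u0 : Pts X0) : 𝓝 (Pts.map g0 u0) ≤ Filter.map (Pts.map g0) (𝓝 u0) := by
  obtain ⟨φ0, hφ0⟩ : ∃ φ0 : Γ(Y0, ⊤) →+* Γ(X0, ⊤), φ0 = g0.appTop.hom := ⟨_, rfl⟩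
  have hφ0et : φ0.Etale := by
    rw [hφ0]
    exact (HasRingHomProperty.iff_of_isAffine (P := @Etale)).mp inferInstance
  letI algAB : Algebra Γ(Y0, ⊤) Γ(X0, ⊤) := φ0.toAlgebra
  haveI hetAB : Algebra.Etale Γ(Y0, ⊤) Γ(X0, ⊤) := hφ0et
  obtain ⟨Q, hQ⟩ : ∃ Q : Ideal Γ(X0, ⊤), Q = RingHom.ker (evT u0) := ⟨_, rfl⟩
  haveI hQprime : Q.IsPrime := by rw [hQ]; exact RingHom.ker_isPrime _
  haveI : Algebra.IsEtaleAt Γ(Y0, ⊤) Q := by
    haveI : Algebra.FormallyEtale Γ(X0, ⊤) (Localization.AtPrime Q) :=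
      Algebra.FormallyEtale.of_isLocalization Q.primeCompl
    exact Algebra.FormallyEtale.comp Γ(Y0, ⊤) Γ(X0, ⊤) (Localization.AtPrime Q)
  obtain ⟨b, hbQ, hstd⟩ := Algebra.IsEtaleAt.exists_isStandardEtale (R := Γ(Y0, ⊤)) Q
  have hb0 : evT u0 b ≠ 0 := by
    intro h; apply hbQ; rw [hQ]; exact RingHom.mem_ker.mpr h
  have hu0V1 : u0.pt ∈ X0.basicOpen b :=
    (mem_basicOpen_iff u0 ⊤ (Opens.mem_top _) b).mpr hb0
  haveI : IsAffine (X0.basicOpen b).toScheme := (isAffineOpen_top X0).basicOpen b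
  haveI : LocallyOfFiniteType ((X0.basicOpen b).toScheme ↘ An.SC) :=
    inferInstanceAs (LocallyOfFiniteType ((X0.basicOpen b).ι ≫ X0 ↘ An.SC))
  haveI : (X0.basicOpen b).ι.IsOver An.SC := ⟨rfl⟩
  obtain ⟨u1, hu1⟩ := exists_lift_of_mem (X0.basicOpen b) u0 hu0V1
  obtain ⟨g1, hg1def⟩ : ∃ g1 : (X0.basicOpen b).toScheme ⟶ Y0,
      g1 = (X0.basicOpen b).ι ≫ g0 := ⟨_, rfl⟩
  haveI hg1over : g1.IsOver An.SC := by rw [hg1def]; infer_instance
  have hstd1 : @Algebra.IsStandardEtale Γ(Y0, ⊤) Γ((X0.basicOpen b).toScheme, ⊤) _ _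
      g1.appTop.hom.toAlgebra := by
    letI alg1 : Algebra Γ(Y0, ⊤) Γ((X0.basicOpen b).toScheme, ⊤) := g1.appTop.hom.toAlgebra
    haveI : IsScalarTower Γ(Y0, ⊤) Γ(X0, ⊤) Γ((X0.basicOpen b).toScheme, ⊤) :=
      IsScalarTower.of_algebraMap_eq (fun a => by
        show g1.appTop.hom a = (X0.basicOpen b).ι.appTop.hom (φ0 a)
        rw [hφ0, hg1def, Scheme.Hom.comp_appTop]
        rfl)
    haveI := Γ_restrict_isLocalization X0 b
    exact Algebra.IsStandardEtale.of_equiv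
      ((IsLocalization.algEquiv (Submonoid.powers b) (Localization.Away b)
        Γ((X0.basicOpen b).toScheme, ⊤)).restrictScalars Γ(Y0, ⊤))
  have h1 := affine_open_at g1 hstd1 u1
  have hoe := Groth.Agent.S4196.result (X0.basicOpen b).toScheme X0 (X0.basicOpen b).ι
  subst hg1def
  have hfun : Pts.map g0 ∘ Pts.map (X0.basicOpen b).ι =
      Pts.map ((X0.basicOpen b).ι ≫ g0) := by
    funext z
    exact (Pts.map_comp (X0.basicOpen b).ι g0 z).symm
  have e1 : Pts.map g0 (Pts.map (X0.basicOpen b).ι u1) =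
      Pts.map ((X0.basicOpen b).ι ≫ g0) u1 := congrFun hfun u1
  rw [← hu1, ← hoe.map_nhds_eq u1, Filter.map_map, hfun, e1]
  exact h1

variable {X Y : Scheme.{0}} [X.Over An.SC] [Y.Over An.SC]
  [LocallyOfFiniteType (X ↘ An.SC)] [LocallyOfFiniteType (Y ↘ An.SC)]

/-- Openness at a point for an étale morphism. -/
theorem open_at_of_etale (g : X ⟶ Y) [g.IsOver An.SC] [Etale g] (x : Pts X) :
    𝓝 (Pts.map g x) ≤ Filter.map (Pts.map g) (𝓝 x) := by
  obtain ⟨U, hU, hyU, -⟩ := exists_isAffineOpen_mem_and_subset (X := Y) (x := g x.pt)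
    (U := ⊤) (Opens.mem_top _)
  have hxU : x.pt ∈ g ⁻¹ᵁ U := hyU
  obtain ⟨V0, hV0, hxV0, hV0le'⟩ := exists_isAffineOpen_mem_and_subset (X := X) (x := x.pt)
    (U := g ⁻¹ᵁ U) hxU
  have hV0le : V0 ≤ g ⁻¹ᵁ U := hV0le'
  haveI : IsAffine U.toScheme := hU
  haveI : IsAffine V0.toScheme := hV0
  haveI : LocallyOfFiniteType (U.toScheme ↘ An.SC) :=
    inferInstanceAs (LocallyOfFiniteType (U.ι ≫ Y ↘ An.SC))
  haveI : LocallyOfFiniteType (V0.toScheme ↘ An.SC) :=
    inferInstanceAs (LocallyOfFiniteType (V0.ι ≫ X ↘ An.SC))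
  haveI : U.ι.IsOver An.SC := ⟨rfl⟩
  haveI : V0.ι.IsOver An.SC := ⟨rfl⟩
  obtain ⟨g0, hg0def⟩ : ∃ g0 : V0.toScheme ⟶ U.toScheme, g0 = g.resLE U V0 hV0le := ⟨_, rfl⟩
  have hg0ι : g0 ≫ U.ι = V0.ι ≫ g := by rw [hg0def]; exact Scheme.Hom.resLE_comp_ι g hV0le
  haveI hg0over : g0.IsOver An.SC := ⟨by
    show g0 ≫ U.ι ≫ (Y ↘ An.SC) = V0.ι ≫ (X ↘ An.SC)
    rw [← Category.assoc, hg0ι, Category.assoc, comp_over]⟩
  haveI hg0et : Etale g0 := by rw [hg0def]; infer_instance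
  obtain ⟨u0, hu0⟩ := exists_lift_of_mem V0 x hxV0
  have hoeV := Groth.Agent.S4196.result V0.toScheme X V0.ι
  have hoeU := Groth.Agent.S4196.result U.toScheme Y U.ι
  have h0 := open_at_affine_etale g0 u0
  have hfun : Pts.map g ∘ Pts.map V0.ι = Pts.map U.ι ∘ Pts.map g0 := by
    funext z
    show Pts.map g (Pts.map V0.ι z) = Pts.map U.ι (Pts.map g0 z)
    apply Subtype.ext
    show (z.1 ≫ V0.ι) ≫ g = (z.1 ≫ g0) ≫ U.ι
    rw [Category.assoc, Category.assoc, hg0ι]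
  have e1 : Pts.map g (Pts.map V0.ι u0) = Pts.map U.ι (Pts.map g0 u0) := congrFun hfun u0
  rw [← hu0, ← hoeV.map_nhds_eq u0, Filter.map_map, hfun, ← Filter.map_map, e1,
    ← hoeU.map_nhds_eq]
  exact Filter.map_mono h0

/-- Local injectivity: the diagonal of an étale morphism is an open immersion. -/
theorem isLocallyInjective_of_etale (g : X ⟶ Y) [g.IsOver An.SC] [Etale g] :
    IsLocallyInjective (Pts.map g) := by
  have hP : LocallyOfFiniteType ((pullback g g) ↘ An.SC) := by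
    have : LocallyOfFiniteType (pullback.fst g g ≫ (X ↘ An.SC)) := inferInstance
    exact this
  obtain ⟨Δ, hΔ⟩ : ∃ Δ : X ⟶ pullback g g, Δ = pullback.diagonal g := ⟨_, rfl⟩
  have hΔover : Δ.IsOver An.SC := ⟨by
    show Δ ≫ pullback.fst g g ≫ (X ↘ An.SC) = X ↘ An.SC
    rw [hΔ, pullback.diagonal_fst_assoc]⟩
  have hΔfst : Δ ≫ pullback.fst g g = 𝟙 X := by rw [hΔ]; exact pullback.diagonal_fst g
  have hΔsnd : Δ ≫ pullback.snd g g = 𝟙 X := by rw [hΔ]; exact pullback.diagonal_snd g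
  have hΔoi : IsOpenImmersion Δ := by rw [hΔ]; infer_instance
  have hh := pullback_isHomeomorph g g
  obtain ⟨h, hhdef⟩ : ∃ h : Pts (pullback g g) → Function.Pullback (Pts.map g) (Pts.map g),
      h = fun z => ⟨(Pts.map (pullback.fst g g) z, Pts.map (pullback.snd g g) z),
        Pts.map_pullback_condition g g z⟩ := ⟨_, rfl⟩
  rw [← hhdef] at hh
  have hrange : Set.range (Pts.map Δ) = h ⁻¹' Function.pullbackDiagonal (Pts.map g) := by
    ext z
    constructor
    · rintro ⟨x, rfl⟩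
      show (h (Pts.map Δ x)).fst = (h (Pts.map Δ x)).snd
      rw [hhdef]
      show Pts.map (pullback.fst g g) (Pts.map Δ x) = Pts.map (pullback.snd g g) (Pts.map Δ x)
      apply Subtype.ext
      show (x.1 ≫ Δ) ≫ pullback.fst g g = (x.1 ≫ Δ) ≫ pullback.snd g g
      rw [Category.assoc, Category.assoc, hΔfst, hΔsnd]
    · intro hz
      have hz' : Pts.map (pullback.fst g g) z = Pts.map (pullback.snd g g) z := by
        rw [hhdef] at hz; exact hz
      have hz'' : z.1 ≫ pullback.fst g g = z.1 ≫ pullback.snd g g := congrArg Subtype.val hz'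
      refine ⟨Pts.map (pullback.fst g g) z, ?_⟩
      apply Subtype.ext
      show (z.1 ≫ pullback.fst g g) ≫ Δ = z.1
      apply pullback.hom_ext
      · rw [Category.assoc, hΔfst, Category.comp_id]
      · rw [Category.assoc, hΔsnd, Category.comp_id, hz'']
  rw [isLocallyInjective_iff_isOpen_diagonal]
  have hoe := Groth.Agent.S4196.result X (pullback g g) Δ
  have h1 : IsOpen (Set.range (Pts.map Δ)) := hoe.isOpen_range
  rw [hrange] at h1
  have h2 := hh.isOpenMap _ h1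
  rwa [Set.image_preimage_eq _ hh.surjective] at h2

end chart

/-- S4197: an étale morphism of schemes over `ℂ` with target locally of finite type induces a local
homeomorphism on `ℂ`-points. -/
theorem isLocalHomeomorph_of_etale (X Y : Scheme.{0}) [X.Over An.SC] [Y.Over An.SC]
    [LocallyOfFiniteType (Y ↘ An.SC)] (g : X ⟶ Y) [g.IsOver An.SC] [Etale g] :
    IsLocalHomeomorph (Pts.map g) := by
  haveI : LocallyOfFiniteType (X ↘ An.SC) := by
    have h : LocallyOfFiniteType (g ≫ (Y ↘ An.SC)) := inferInstance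
    rwa [comp_over] at h
  have hinj := isLocallyInjective_of_etale g
  have hopen : IsOpenMap (Pts.map g) := isOpenMap_iff_nhds_le.mpr (open_at_of_etale g)
  rw [isLocalHomeomorph_iff_isOpenEmbedding_restrict]
  intro x
  obtain ⟨U, hU, hxU, hinjU⟩ := hinj x
  refine ⟨U, hU.mem_nhds hxU, ?_⟩
  refine Topology.IsOpenEmbedding.of_continuous_injective_isOpenMap ?_ ?_ ?_
  · exact (Pts.continuous_map g).comp continuous_subtype_val
  · exact Set.injOn_iff_injective.mp hinjU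
  · exact hopen.domRestrict hU

end Groth.Agent.Lib.AnEtaleH1
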