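import Mathlib
import Groth.Prelude.Def_AnPts
import Groth.Agent.Lib.AnEtale2_helper1

/-!
# Finite morphisms induce closed maps with finite fibres on `ℂ`-points; finite étale morphisms
induce covering maps (helper1)
-/

set_option autoImplicit false
set_option maxHeartbeats 1000000

open CategoryTheory CategoryTheory.Limits AlgebraicGeometry TopologicalSpace Opposite Topology

namespace Groth.Agent.Lib.AnEtaleH1

open An Groth.Agent.Lib.AnPtsH1 Groth.Agent.Lib.AnDenseH1

section topology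

/-- Even covering transfers along a cartesian square of open embeddings. -/
lemma isEvenlyCovered_of_cartesian {E' E B' B : Type*} [TopologicalSpace E'] [TopologicalSpace E]
    [TopologicalSpace B'] [TopologicalSpace B] {f' : E' → B'} {f : E → B} {j : E' → E}
    {k : B' → B} (hj : IsOpenEmbedding j) (hk : IsOpenEmbedding k)
    (hcomm : ∀ e, f (j e) = k (f' e)) (hcart : ∀ e, f e ∈ Set.range k → e ∈ Set.range j)
    {b' : B'} {I : Type*} [TopologicalSpace I] (h : IsEvenlyCovered f' b' I) :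
    IsEvenlyCovered f (k b') I := by
  have hs : IsOpen (Set.range k) := hk.isOpen_range
  have heq : Set.range j = f ⁻¹' Set.range k := by
    ext e
    constructor
    · rintro ⟨e', rfl⟩; exact ⟨f' e', (hcomm e').symm⟩
    · exact hcart e
  have hfs : IsOpen (f ⁻¹' Set.range k) := by rw [← heq]; exact hj.isOpen_range
  obtain ⟨k', hk'⟩ : ∃ k' : B' ≃ₜ Set.range k, ∀ b, (k' b : B) = k b :=
    ⟨hk.isEmbedding.toHomeomorph, fun b => rfl⟩
  obtain ⟨j', hj'⟩ : ∃ j' : E' ≃ₜ f ⁻¹' Set.range k, ∀ e, (j' e : E) = j e :=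
    ⟨hj.isEmbedding.toHomeomorph.trans (Homeomorph.setCongr heq), fun e => rfl⟩
  have h1 : IsEvenlyCovered (k' ∘ f') (k' b') I := h.homeomorph_comp k'
  have h2 : IsEvenlyCovered ((k' ∘ f') ∘ j'.symm) (k' b') I := h1.comp_homeomorph j'.symm
  have h3 : IsEvenlyCovered (Subtype.val ∘ ((k' ∘ f') ∘ j'.symm)) ((k' b' : Set.range k) : B) I :=
    h2.subtypeVal_comp _ hs
  have hfun : (Subtype.val ∘ ((k' ∘ f') ∘ j'.symm)) = fun e : f ⁻¹' Set.range k => f e := by
    funext e
    obtain ⟨e', rfl⟩ := j'.surjective e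
    simp only [Function.comp_apply, Homeomorph.symm_apply_apply]
    rw [hk', hj', hcomm]
  rw [hfun, hk'] at h3
  exact h3.comp_subtypeVal _ hs hfs ⟨b', rfl⟩

end topology

section finite

lemma t2Space_of_isAffine (X : Scheme.{0}) [X.Over An.SC] [IsAffine X]
    [LocallyOfFiniteType (X ↘ An.SC)] : T2Space (Pts X) := by
  obtain ⟨n, s, hs⟩ := exists_generators X
  exact (isClosedEmbedding_of_generators X n s hs).isEmbedding.t2Space

variable {X Y : Scheme.{0}} [X.Over An.SC] [Y.Over An.SC]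
  [LocallyOfFiniteType (X ↘ An.SC)] [LocallyOfFiniteType (Y ↘ An.SC)]

/-- A finite morphism of affine schemes induces a closed map on `ℂ`-points. -/
theorem isClosedMap_of_finite_affine [IsAffine X] [IsAffine Y] (f : X ⟶ Y) [f.IsOver An.SC]
    [IsFinite f] : IsClosedMap (Pts.map f) := by
  classical
  haveI : T2Space (Pts Y) := t2Space_of_isAffine Y
  obtain ⟨n, s, hs⟩ := exists_generators X
  have hce := isClosedEmbedding_of_generators X n s hs
  obtain ⟨E, hE⟩ : ∃ E : Pts X → (Fin n → ℂ), E = fun x i => x.evTop (s i) := ⟨_, rfl⟩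
  rw [← hE] at hce
  have hint : f.appTop.hom.IsIntegral := (f.finite_appTop).to_isIntegral
  choose P hPm hP0 using fun i => hint (s i)
  have hroot : ∀ (x : Pts X) (i : Fin n),
      ((P i).map (evT (Pts.map f x))).IsRoot (E x i) := by
    intro x i
    have h1 := evT_polyEval₂ f x (s i) (P i)
    rw [hP0 i, map_zero] at h1
    rw [Polynomial.IsRoot.def, Polynomial.eval_map, hE]
    exact h1.symm
  obtain ⟨G, hG⟩ : ∃ G : Pts Y → ℝ, G = fun y => ∑ i : Fin n,
      ∑ k ∈ Finset.range (P i).natDegree, ‖y.evTop ((P i).coeff k)‖ := ⟨_, rfl⟩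
  have hGc : Continuous G := by
    rw [hG]
    exact continuous_finsetSum _ fun i _ => continuous_finsetSum _ fun k _ =>
      (continuous_evTop _).norm
  have hGnonneg : ∀ y, 0 ≤ G y := by
    intro y; rw [hG]
    exact Finset.sum_nonneg fun i _ => Finset.sum_nonneg fun k _ => norm_nonneg _
  have hbound : ∀ (x : Pts X) (M : ℝ), G (Pts.map f x) ≤ M →
      ‖E x‖ ≤ 1 + (∑ i : Fin n, ((P i).natDegree : ℝ)) * M := by
    intro x M hM
    have hM0 : 0 ≤ M := (hGnonneg _).trans hM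
    have hsum0 : 0 ≤ (∑ i : Fin n, ((P i).natDegree : ℝ)) * M :=
      mul_nonneg (Finset.sum_nonneg fun i _ => Nat.cast_nonneg _) hM0
    rw [pi_norm_le_iff_of_nonneg (by linarith)]
    intro i
    have hmon := (hPm i).map (evT (Pts.map f x))
    have hdeg : ((P i).map (evT (Pts.map f x))).natDegree = (P i).natDegree :=
      (hPm i).natDegree_map _
    have hcoef : ∀ k < ((P i).map (evT (Pts.map f x))).natDegree,
        ‖((P i).map (evT (Pts.map f x))).coeff k‖ ≤ M := by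
      intro k hk
      rw [hdeg] at hk
      rw [Polynomial.coeff_map]
      have h1 : ‖(Pts.map f x).evTop ((P i).coeff k)‖ ≤ G (Pts.map f x) := by
        rw [hG]
        have h2 : ‖(Pts.map f x).evTop ((P i).coeff k)‖ ≤
            ∑ k ∈ Finset.range (P i).natDegree, ‖(Pts.map f x).evTop ((P i).coeff k)‖ :=
          Finset.single_le_sum (f := fun k => ‖(Pts.map f x).evTop ((P i).coeff k)‖)
            (fun k _ => norm_nonneg _) (Finset.mem_range.mpr hk)
        refine h2.trans ?_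
        exact Finset.single_le_sum
          (f := fun i => ∑ k ∈ Finset.range (P i).natDegree,
            ‖(Pts.map f x).evTop ((P i).coeff k)‖)
          (fun i _ => Finset.sum_nonneg fun k _ => norm_nonneg _) (Finset.mem_univ i)
      exact h1.trans hM
    have hcb := cauchy_bound _ hmon M hcoef (E x i) (hroot x i)
    rw [hdeg] at hcb
    refine hcb.trans ?_
    have h3 : ((P i).natDegree : ℝ) ≤ ∑ i : Fin n, ((P i).natDegree : ℝ) :=
      Finset.single_le_sum (f := fun i => ((P i).natDegree : ℝ))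
        (fun i _ => Nat.cast_nonneg _) (Finset.mem_univ i)
    have h4 := mul_le_mul_of_nonneg_right h3 hM0
    linarith
  intro Z hZ
  rw [← closure_subset_iff_isClosed]
  intro y0 hy0
  obtain ⟨M, hM⟩ : ∃ M : ℝ, M = G y0 + 1 := ⟨_, rfl⟩
  obtain ⟨N, hN⟩ : ∃ N : Set (Pts Y), N = {y | G y < M} := ⟨_, rfl⟩
  have hNo : IsOpen N := by rw [hN]; exact isOpen_lt hGc continuous_const
  have hy0N : y0 ∈ N := by
    rw [hN, hM]
    show G y0 < G y0 + 1
    linarith
  obtain ⟨R, hR⟩ : ∃ R : ℝ, R = 1 + (∑ i : Fin n, ((P i).natDegree : ℝ)) * M := ⟨_, rfl⟩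
  obtain ⟨ZN, hZN⟩ : ∃ ZN : Set (Pts X), ZN = Z ∩ E ⁻¹' Metric.closedBall 0 R := ⟨_, rfl⟩
  have hZNc : IsCompact ZN := by
    rw [hZN]
    exact (hce.isCompact_preimage (isCompact_closedBall 0 R)).inter_left hZ
  have himc : IsClosed (Pts.map f '' ZN) := (hZNc.image (Pts.continuous_map f)).isClosed
  have hsub : Pts.map f '' Z ∩ N ⊆ Pts.map f '' ZN := by
    rintro _ ⟨⟨x, hxZ, rfl⟩, hxN⟩
    refine ⟨x, ?_, rfl⟩
    rw [hZN]
    refine ⟨hxZ, ?_⟩
    rw [Set.mem_preimage, mem_closedBall_zero_iff, hR]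
    apply hbound
    rw [hN] at hxN
    exact le_of_lt hxN
  have h1 : y0 ∈ closure (Pts.map f '' Z ∩ N) := by
    have h := hNo.inter_closure ⟨hy0N, hy0⟩
    rwa [Set.inter_comm] at h
  have h2 : y0 ∈ Pts.map f '' ZN := (closure_minimal hsub himc) h1
  obtain ⟨x, hx, rfl⟩ := h2
  rw [hZN] at hx
  exact ⟨x, hx.1, rfl⟩

/-- Finite morphisms have finite fibres on `ℂ`-points. -/
lemma finite_fibre (f : X ⟶ Y) [f.IsOver An.SC] [IsFinite f] (y : Pts Y) :
    (Pts.map f ⁻¹' {y}).Finite := by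
  have h1 : (f ⁻¹' {y.pt}).Finite := f.finite_preimage_singleton y.pt
  have h2 : (Pts.pt ⁻¹' (f ⁻¹' {y.pt}) : Set (Pts X)).Finite :=
    h1.preimage (pt_injective X).injOn
  refine h2.subset ?_
  intro x hx
  have hxy : Pts.map f x = y := hx
  show f x.pt ∈ ({y.pt} : Set Y)
  rw [← Pts.pt_map, hxy]
  rfl

/-- The affine case of the covering-map theorem. -/
theorem affine_isCoveringMap [IsAffine X] [IsAffine Y] (f : X ⟶ Y) [f.IsOver An.SC]
    [IsFinite f] [Etale f] : IsCoveringMap (Pts.map f) := by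
  haveI : T2Space (Pts X) := t2Space_of_isAffine X
  rw [isCoveringMap_iff_isCoveringMapOn_univ]
  refine IsClosedMap.isCoveringMapOn_of_isLocalHomeomorphOn (isClosedMap_of_finite_affine f)
    (fun y _ => finite_fibre f y) ?_
  rw [Set.preimage_univ, ← isLocalHomeomorph_iff_isLocalHomeomorphOn_univ]
  exact isLocalHomeomorph_of_etale X Y f

/-- S4206 -/
theorem isCoveringMap_of_finite_etale (f : X ⟶ Y) [f.IsOver An.SC] [IsFinite f] [Etale f] :
    IsCoveringMap (An.Pts.map f) ∧ ∀ y : An.Pts Y, (An.Pts.map f ⁻¹' {y}).Finite := by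
  refine ⟨?_, fun y => finite_fibre f y⟩
  intro y
  obtain ⟨U, hU, hyU, -⟩ := exists_isAffineOpen_mem_and_subset (X := Y) (x := y.pt)
    (U := ⊤) (Opens.mem_top _)
  have hV : IsAffineOpen (f ⁻¹ᵁ U) := hU.preimage f
  haveI : IsAffine U.toScheme := hU
  haveI : IsAffine (f ⁻¹ᵁ U).toScheme := hV
  haveI : LocallyOfFiniteType (U.toScheme ↘ An.SC) :=
    inferInstanceAs (LocallyOfFiniteType (U.ι ≫ Y ↘ An.SC))
  haveI : LocallyOfFiniteType ((f ⁻¹ᵁ U).toScheme ↘ An.SC) :=
    inferInstanceAs (LocallyOfFiniteType ((f ⁻¹ᵁ U).ι ≫ X ↘ An.SC))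
  haveI : U.ι.IsOver An.SC := ⟨rfl⟩
  haveI : (f ⁻¹ᵁ U).ι.IsOver An.SC := ⟨rfl⟩
  obtain ⟨fU, hfUdef⟩ : ∃ fU : (f ⁻¹ᵁ U).toScheme ⟶ U.toScheme, fU = f ∣_ U := ⟨_, rfl⟩
  have hfUι : fU ≫ U.ι = (f ⁻¹ᵁ U).ι ≫ f := by rw [hfUdef]; exact morphismRestrict_ι f U
  haveI hfUover : fU.IsOver An.SC := ⟨by
    show fU ≫ U.ι ≫ (Y ↘ An.SC) = (f ⁻¹ᵁ U).ι ≫ (X ↘ An.SC)
    rw [← Category.assoc, hfUι, Category.assoc, comp_over]⟩
  haveI : IsFinite fU := by rw [hfUdef]; infer_instance
  haveI : Etale fU := by rw [hfUdef]; infer_instance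
  have hcov := affine_isCoveringMap fU
  obtain ⟨u, hu⟩ := exists_lift_of_mem U y hyU
  have hoeV := Groth.Agent.S4196.result (f ⁻¹ᵁ U).toScheme X (f ⁻¹ᵁ U).ι
  have hoeU := Groth.Agent.S4196.result U.toScheme Y U.ι
  have hcomm : ∀ e, Pts.map f (Pts.map (f ⁻¹ᵁ U).ι e) = Pts.map U.ι (Pts.map fU e) := by
    intro e
    apply Subtype.ext
    show (e.1 ≫ (f ⁻¹ᵁ U).ι) ≫ f = (e.1 ≫ fU) ≫ U.ι
    rw [Category.assoc, Category.assoc, hfUι]
  have hcart : ∀ e : Pts X, Pts.map f e ∈ Set.range (Pts.map U.ι) →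
      e ∈ Set.range (Pts.map (f ⁻¹ᵁ U).ι) := by
    rintro e ⟨u', hu'⟩
    have h1 : (Pts.map f e).pt ∈ U := by
      rw [← hu', Pts.pt_map]
      exact (u'.pt).2
    rw [Pts.pt_map] at h1
    exact exists_lift_of_mem (f ⁻¹ᵁ U) e h1
  have h := isEvenlyCovered_of_cartesian hoeV hoeU hcomm hcart (hcov u)
  rw [hu] at h
  exact h.to_isEvenlyCovered_preimage

end finite

end Groth.Agent.Lib.AnEtaleH1
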