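import Mathlib
import Groth.Prelude.Def_AnEps
import Groth.Agent.Lib.AnFinite_helper1

/-!
# Continuity of the comparison functor `ε : X_et → X(ℂ)_cl` (helper1)
-/

set_option autoImplicit false
set_option maxHeartbeats 1000000

universe w

open CategoryTheory CategoryTheory.Limits AlgebraicGeometry TopologicalSpace Opposite Topology

namespace Groth.Agent.Lib.AnEpsH1

open An Groth.Agent.Lib.AnPtsH1 Groth.Agent.Lib.AnDenseH1 Groth.Agent.Lib.AnEtaleH1

variable (X : Scheme.{0}) [X.Over An.SC] [LocallyOfFiniteType (X ↘ An.SC)]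

instance lft_etale (U : X.Etale) : LocallyOfFiniteType (U.left ↘ An.SC) :=
  inferInstanceAs (LocallyOfFiniteType ((U.left ↘ X) ≫ X ↘ An.SC))

lemma cover_aux [Fact An.EtaleLH] (U V : X.Etale) (gV : V ⟶ U) (S : Sieve U)
    (hSg : S.arrows gV) (a : Pts U.left) (v0 : V.left) (hv0 : gV.left.base v0 = a.pt) :
    ∃ (B : Cl (Pts X)) (g : B ⟶ (eps X).obj U),
      (Sieve.functorPushforward (eps X) S) g ∧ IsOpenEmbedding g.toFun ∧
        a ∈ Set.range g.toFun := by
  obtain ⟨v, hv⟩ := exists_pts_map_eq gV.left a v0 hv0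
  have hLH : IsLocalHomeomorph (Pts.map gV.left) :=
    isLocalHomeomorph_of_etale V.left U.left gV.left
  obtain ⟨e, hve, hfe⟩ := hLH v
  refine ⟨Cl.restrictOpen ((eps X).obj V) e.source e.open_source,
    Cl.restrictOpenι ((eps X).obj V) e.source e.open_source ≫ (eps X).map gV, ?_, ?_, ?_⟩
  · exact ⟨V, gV, Cl.restrictOpenι ((eps X).obj V) e.source e.open_source, hSg, rfl⟩
  · show IsOpenEmbedding ((Pts.map gV.left) ∘ (Subtype.val : e.source → Pts V.left))
    rw [hfe]
    exact e.isOpenEmbedding_restrict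
  · exact ⟨⟨v, hve⟩, hv⟩

set_option backward.isDefEq.respectTransparency.types false in
theorem eps_coverPreserving [Fact An.EtaleLH] :
    CoverPreserving X.smallEtaleTopology (An.Cl.topology (An.Pts X)) (An.eps X) := by
  constructor
  intro U S hS
  show ∀ a : Pts U.left, ∃ (B : Cl (Pts X)) (g : B ⟶ (eps X).obj U),
    (Sieve.functorPushforward (eps X) S) g ∧ IsOpenEmbedding g.toFun ∧ a ∈ Set.range g.toFun
  intro a
  obtain ⟨𝒰, h𝒰, hP, le⟩ := (Scheme.mem_smallGrothendieckTopology (P := @Etale) U S).1 hS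
  obtain ⟨i, v0, hv0⟩ := 𝒰.exists_eq a.pt
  exact cover_aux X U ((𝒰.X i).asOverProp (P := @Etale) X (hP i))
    (MorphismProperty.Over.homMk (𝒰.f i) (HomIsOver.comp_over (f := 𝒰.f i) (S := X)))
    S (le _ _ ⟨i⟩) a v0 hv0

set_option backward.isDefEq.respectTransparency.types false in
/-- Factorisation through the fibre product. -/
lemma exists_factor [Fact An.EtaleLH] {Z Y₁ Y₂ : X.Etale} (g₁ : Y₁ ⟶ Z) (g₂ : Y₂ ⟶ Z)
    {A : Cl (Pts X)} (f₁ : A ⟶ (eps X).obj Y₁) (f₂ : A ⟶ (eps X).obj Y₂)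
    (e : f₁ ≫ (eps X).map g₁ = f₂ ≫ (eps X).map g₂) :
    ∃ (W : X.Etale) (p₁ : W ⟶ Y₁) (p₂ : W ⟶ Y₂) (h : A ⟶ (eps X).obj W),
      p₁ ≫ g₁ = p₂ ≫ g₂ ∧ h ≫ (eps X).map p₁ = f₁ ∧ h ≫ (eps X).map p₂ = f₂ := by
  have hcond : ∀ a : A.E, (f₁.toFun a).1 ≫ g₁.left = (f₂.toFun a).1 ≫ g₂.left := by
    intro a
    exact congrArg (fun k => (k.toFun a).1) e
  have hg₁w : g₁.left ≫ Z.hom = Y₁.hom := Over.w g₁.hom
  have hg₂w : g₂.left ≫ Z.hom = Y₂.hom := Over.w g₂.hom
  have hw2 : pullback.snd g₁.left g₂.left ≫ Y₂.hom = pullback.fst g₁.left g₂.left ≫ Y₁.hom := by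
    rw [← hg₂w, ← hg₁w, ← Category.assoc, ← Category.assoc, pullback.condition]
  obtain ⟨π, hπ⟩ : ∃ π : pullback g₁.left g₂.left ⟶ X, π = pullback.fst g₁.left g₂.left ≫ Y₁.hom :=
    ⟨_, rfl⟩
  haveI hπet : Etale π := by rw [hπ]; infer_instance
  have hinst : @CategoryTheory.over _ _ (pullback g₁.left g₂.left) An.SC
      (An.pullbackOver g₁.left g₂.left) =
      @CategoryTheory.over _ _ (pullback g₁.left g₂.left) An.SC
        (An.etaleOverLeft X (Scheme.Etale.mk π)) := by
    show pullback.fst g₁.left g₂.left ≫ (Y₁.hom ≫ X ↘ An.SC) = π ≫ X ↘ An.SC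
    rw [hπ, Category.assoc]
  -- the map into the fibre product with its pullback structure
  have hsec : ∀ a : A.E, pullback.lift (f₁.toFun a).1 (f₂.toFun a).1 (hcond a) ≫
      @CategoryTheory.over _ _ (pullback g₁.left g₂.left) An.SC
        (An.pullbackOver g₁.left g₂.left) = 𝟙 An.SC := by
    intro a
    show pullback.lift (f₁.toFun a).1 (f₂.toFun a).1 (hcond a) ≫
      pullback.fst g₁.left g₂.left ≫ (Y₁.left ↘ An.SC) = 𝟙 An.SC
    rw [pullback.lift_fst_assoc]
    exact (f₁.toFun a).2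
  obtain ⟨h', hh'⟩ : ∃ h' : A.E → @Pts (pullback g₁.left g₂.left) (An.pullbackOver g₁.left g₂.left),
      h' = fun a => ⟨pullback.lift (f₁.toFun a).1 (f₂.toFun a).1 (hcond a), hsec a⟩ := ⟨_, rfl⟩
  have hh'val : ∀ a, (h' a).1 = pullback.lift (f₁.toFun a).1 (f₂.toFun a).1 (hcond a) := by
    intro a; rw [hh']
  have hh'c : Continuous h' := by
    have hind := isInducing_pullback g₁.left g₂.left
    rw [hind.continuous_iff]
    have heq : ((fun z : Pts (pullback g₁.left g₂.left) =>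
        (Pts.map (pullback.fst g₁.left g₂.left) z, Pts.map (pullback.snd g₁.left g₂.left) z)) ∘ h') =
        fun a => (f₁.toFun a, f₂.toFun a) := by
      funext a
      apply Prod.ext
      · apply Subtype.ext
        show (h' a).1 ≫ pullback.fst g₁.left g₂.left = (f₁.toFun a).1
        rw [hh'val, pullback.lift_fst]
      · apply Subtype.ext
        show (h' a).1 ≫ pullback.snd g₁.left g₂.left = (f₂.toFun a).1
        rw [hh'val, pullback.lift_snd]
    rw [heq]
    exact f₁.continuous.prodMk f₂.continuous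
  refine ⟨Scheme.Etale.mk π,
    MorphismProperty.Over.homMk (pullback.fst g₁.left g₂.left) hπ.symm trivial,
    MorphismProperty.Over.homMk (pullback.snd g₁.left g₂.left) (hw2.trans hπ.symm) trivial,
    ⟨fun a => Pts.cast _ _ hinst (h' a), (Pts.cast _ _ hinst).continuous.comp hh'c, ?_⟩,
    ?_, ?_, ?_⟩
  · intro a
    rw [← f₁.over a]
    apply Subtype.ext
    show (h' a).1 ≫ π = (f₁.toFun a).1 ≫ Y₁.hom
    rw [hh'val, hπ, pullback.lift_fst_assoc]
  · apply MorphismProperty.Over.Hom.ext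
    exact pullback.condition
  · apply Cl.hom_ext
    funext a
    apply Subtype.ext
    show (h' a).1 ≫ pullback.fst g₁.left g₂.left = (f₁.toFun a).1
    rw [hh'val, pullback.lift_fst]
  · apply Cl.hom_ext
    funext a
    apply Subtype.ext
    show (h' a).1 ≫ pullback.snd g₁.left g₂.left = (f₂.toFun a).1
    rw [hh'val, pullback.lift_snd]

set_option backward.isDefEq.respectTransparency.types false in
theorem eps_compatiblePreserving [Fact An.EtaleLH] :
    CompatiblePreserving.{w} (An.Cl.topology (An.Pts X)) (An.eps X) := by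
  constructor
  intro ℱ Z T x hx Y₁ Y₂ A f₁ f₂ g₁ g₂ hg₁ hg₂ e
  obtain ⟨W, p₁, p₂, h, hcomm, hf₁, hf₂⟩ := exists_factor X g₁ g₂ f₁ f₂ e
  have hx' := hx p₁ p₂ hg₁ hg₂ hcomm
  subst hf₁
  subst hf₂
  rw [op_comp, op_comp, FunctorToTypes.map_comp_apply, FunctorToTypes.map_comp_apply]
  exact congrArg _ hx'

/-- S4209: continuity of `ε`. -/
theorem epsCont [Fact An.EtaleLH] : An.EpsCont X :=
  Functor.isContinuous_of_coverPreserving (eps_compatiblePreserving X) (eps_coverPreserving X)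

end Groth.Agent.Lib.AnEpsH1
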