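import Mathlib
import Groth.Prelude.Def_AnEps
import Groth.Agent.Lib.AnEps1_helper1

/-!
# Exactness of the inverse image `ε^*` (helper1)

`ε : X_et → X(ℂ)_cl` is representably flat, and left Kan extension along a representably flat functor
preserves finite limits (general universes).
-/

set_option autoImplicit false
set_option maxHeartbeats 1000000

open CategoryTheory CategoryTheory.Limits AlgebraicGeometry TopologicalSpace Opposite Topology

namespace Groth.Agent.Lib.AnEpsH1

section Lan

universe v₁ v₂ v₃ u₁ u₂ u₃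

variable {C : Type u₁} [Category.{v₁} C] {D : Type u₂} [Category.{v₂} D]
  (E : Type u₃) [Category.{v₃} E]

set_option backward.defeqAttrib.useBackward true in
set_option backward.isDefEq.respectTransparency false in
/-- Universe-general version of Mathlib's `lanEvaluationIsoColim`. -/
noncomputable def lanEvaluationIsoColim' (F : C ⥤ D) (X : D)
    [∀ X : D, HasColimitsOfShape (CostructuredArrow F X) E] :
    F.lan ⋙ (evaluation D E).obj X ≅
      (Functor.whiskeringLeft _ _ E).obj (CostructuredArrow.proj F X) ⋙ colim :=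
  NatIso.ofComponents (fun G =>
    IsColimit.coconePointUniqueUpToIso
    (Functor.isPointwiseLeftKanExtensionLeftKanExtensionUnit F G X)
    (colimit.isColimit _)) (fun {G₁ G₂} φ => by
      apply (Functor.isPointwiseLeftKanExtensionLeftKanExtensionUnit F G₁ X).hom_ext
      intro T
      have h₁ := fun (G : C ⥤ E) => IsColimit.comp_coconePointUniqueUpToIso_hom
        (Functor.isPointwiseLeftKanExtensionLeftKanExtensionUnit F G X) (colimit.isColimit _) T
      have h₂ := congr_app (F.lanUnit.naturality φ) T.left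
      dsimp at h₁ h₂ ⊢
      simp only [Category.assoc] at h₁ ⊢
      simp only [Functor.lan, Functor.lanUnit] at h₂ ⊢
      rw [reassoc_of% h₁, NatTrans.naturality_assoc, ← reassoc_of% h₂, h₁,
        ι_colimMap, Functor.whiskerLeft_app]
      rfl)

/-- Universe-general version of Mathlib's `lan_preservesFiniteLimits_of_flat`. -/
theorem lan_preservesFiniteLimits_of_flat' [HasFiniteLimits E] (F : C ⥤ D) [RepresentablyFlat F]
    [∀ K : Dᵒᵖ, HasColimitsOfShape (CostructuredArrow F.op K) E]
    (hex : ∀ K : Dᵒᵖ, IsFiltered (CostructuredArrow F.op K) →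
      HasExactColimitsOfShape (CostructuredArrow F.op K) E) :
    PreservesFiniteLimits (F.op.lan : (Cᵒᵖ ⥤ E) ⥤ (Dᵒᵖ ⥤ E)) := by
  constructor
  intro J _ _
  apply preservesLimitsOfShape_of_evaluation (F.op.lan : (Cᵒᵖ ⥤ E) ⥤ Dᵒᵖ ⥤ E) J
  intro K
  have hfil : IsFiltered (CostructuredArrow F.op K) :=
    IsFiltered.of_equivalence (structuredArrowOpEquivalence F (unop K))
  haveI := hex K hfil
  haveI : PreservesFiniteLimits (colim : (CostructuredArrow F.op K ⥤ E) ⥤ E) :=
    HasExactColimitsOfShape.preservesFiniteLimits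
  exact preservesLimitsOfShape_of_natIso (lanEvaluationIsoColim' E F.op K).symm

end Lan

open An Groth.Agent.Lib.AnPtsH1 Groth.Agent.Lib.AnDenseH1 Groth.Agent.Lib.AnEtaleH1

variable (X : Scheme.{0}) [X.Over An.SC] [LocallyOfFiniteType (X ↘ An.SC)]

set_option backward.isDefEq.respectTransparency.types false in
lemma eps_cone_objs [Fact An.EtaleLH] (A : Cl (Pts X)) (S T : StructuredArrow A (eps X)) :
    ∃ (W : StructuredArrow A (eps X)) (_ : W ⟶ S) (_ : W ⟶ T), True := by
  have e : S.hom ≫ (eps X).map ((EtCore.topIsTerminal X).from S.right) =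
      T.hom ≫ (eps X).map ((EtCore.topIsTerminal X).from T.right) := by
    rw [← cancel_mono (epsTopIso X).hom]
    exact (Cl.selfIsTerminal _).hom_ext _ _
  obtain ⟨W, p₁, p₂, h, -, hf₁, hf₂⟩ := exists_factor X _ _ S.hom T.hom e
  exact ⟨StructuredArrow.mk h, StructuredArrow.homMk p₁ hf₁, StructuredArrow.homMk p₂ hf₂, trivial⟩

set_option backward.isDefEq.respectTransparency.types false in
lemma eps_cone_maps [Fact An.EtaleLH] (A : Cl (Pts X)) (S T : StructuredArrow A (eps X))
    (f g : S ⟶ T) : ∃ (W : StructuredArrow A (eps X)) (h : W ⟶ S), h ≫ f = h ≫ g := by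
  obtain ⟨Y, hY⟩ : ∃ Y : X.Etale, Y = T.right := ⟨_, rfl⟩
  obtain ⟨a, ha⟩ : ∃ a : S.right ⟶ T.right, a = f.right := ⟨_, rfl⟩
  obtain ⟨b, hb⟩ : ∃ b : S.right ⟶ T.right, b = g.right := ⟨_, rfl⟩
  have hwa : S.hom ≫ (eps X).map a = T.hom := by rw [ha]; exact StructuredArrow.w f
  have hwb : S.hom ≫ (eps X).map b = T.hom := by rw [hb]; exact StructuredArrow.w g
  have haw : a.left ≫ T.right.hom = S.right.hom := Over.w a.hom
  have hbw : b.left ≫ T.right.hom = S.right.hom := Over.w b.hom
  obtain ⟨π, hπ⟩ : ∃ π : pullback T.right.hom T.right.hom ⟶ X,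
      π = pullback.fst T.right.hom T.right.hom ≫ T.right.hom := ⟨_, rfl⟩
  haveI hπet : Etale π := by rw [hπ]; infer_instance
  have hπ2 : pullback.snd T.right.hom T.right.hom ≫ T.right.hom = π := by
    rw [hπ, pullback.condition]
  -- the four maps
  let pr₁ : Scheme.Etale.mk π ⟶ T.right :=
    MorphismProperty.Over.homMk (pullback.fst T.right.hom T.right.hom) hπ.symm trivial
  let pr₂ : Scheme.Etale.mk π ⟶ T.right :=
    MorphismProperty.Over.homMk (pullback.snd T.right.hom T.right.hom) hπ2 trivial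
  let dg : T.right ⟶ Scheme.Etale.mk π :=
    MorphismProperty.Over.homMk (pullback.lift (𝟙 _) (𝟙 _) rfl) (by
      show pullback.lift (𝟙 _) (𝟙 _) rfl ≫ π = T.right.hom
      rw [hπ, pullback.lift_fst_assoc, Category.id_comp]) trivial
  let ab : S.right ⟶ Scheme.Etale.mk π :=
    MorphismProperty.Over.homMk (pullback.lift a.left b.left (haw.trans hbw.symm)) (by
      show pullback.lift a.left b.left (haw.trans hbw.symm) ≫ π = S.right.hom
      rw [hπ, pullback.lift_fst_assoc, haw]) trivial
  have hd1 : dg ≫ pr₁ = 𝟙 _ := by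
    apply MorphismProperty.Over.Hom.ext
    exact pullback.lift_fst _ _ _
  have hd2 : dg ≫ pr₂ = 𝟙 _ := by
    apply MorphismProperty.Over.Hom.ext
    exact pullback.lift_snd _ _ _
  have ha1 : ab ≫ pr₁ = a := by
    apply MorphismProperty.Over.Hom.ext
    exact pullback.lift_fst _ _ _
  have ha2 : ab ≫ pr₂ = b := by
    apply MorphismProperty.Over.Hom.ext
    exact pullback.lift_snd _ _ _
  have e : T.hom ≫ (eps X).map dg = S.hom ≫ (eps X).map ab := by
    apply Cl.hom_ext
    funext x
    apply Subtype.ext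
    show (T.hom.toFun x).1 ≫ pullback.lift (𝟙 _) (𝟙 _) rfl =
      (S.hom.toFun x).1 ≫ pullback.lift a.left b.left (haw.trans hbw.symm)
    have h1 : (S.hom.toFun x).1 ≫ a.left = (T.hom.toFun x).1 :=
      congrArg (fun k => (k.toFun x).1) hwa
    have h2 : (S.hom.toFun x).1 ≫ b.left = (T.hom.toFun x).1 :=
      congrArg (fun k => (k.toFun x).1) hwb
    apply pullback.hom_ext
    · rw [Category.assoc, Category.assoc, pullback.lift_fst, pullback.lift_fst, Category.comp_id, h1]
    · rw [Category.assoc, Category.assoc, pullback.lift_snd, pullback.lift_snd, Category.comp_id, h2]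
  obtain ⟨W, p₁, p₂, h, hcomm, hf₁, hf₂⟩ := exists_factor X dg ab T.hom S.hom e
  refine ⟨StructuredArrow.mk h, StructuredArrow.homMk p₂ hf₂, ?_⟩
  apply StructuredArrow.hom_ext
  show p₂ ≫ f.right = p₂ ≫ g.right
  rw [← ha, ← hb, ← ha1, ← ha2, ← Category.assoc, ← Category.assoc, ← hcomm, Category.assoc,
    Category.assoc, hd1, hd2]

set_option backward.isDefEq.respectTransparency.types false in
/-- `ε` is representably flat. -/
theorem eps_flat [Fact An.EtaleLH] : RepresentablyFlat (eps X) := by
  constructor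
  intro A
  haveI : Nonempty (StructuredArrow A (eps X)) :=
    ⟨StructuredArrow.mk (Y := EtCoh.top X) ((Cl.selfIsTerminal _).from A ≫ (epsTopIso X).inv)⟩
  haveI : IsCofilteredOrEmpty (StructuredArrow A (eps X)) :=
    ⟨fun S T => eps_cone_objs X A S T, fun S T f g => eps_cone_maps X A S T f g⟩
  exact {}

/-- S4210: `ε^*` preserves finite limits. -/
theorem epsPull_preservesFiniteLimits [Fact An.EtaleLH] [An.EpsCont X] :
    PreservesFiniteLimits (An.epsPull X) := by
  haveI : RepresentablyFlat (eps X) := eps_flat X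
  haveI : HasFilteredColimitsOfSize.{0, 1} AddCommGrpCat.{1} := inferInstance
  haveI : AB5OfSize.{0, 1} AddCommGrpCat.{1} := AB5OfSize_of_univLE.{0, 1, 1, 1} AddCommGrpCat.{1}
  haveI : PreservesFiniteLimits ((eps X).op.lan :
      ((X.Etale)ᵒᵖ ⥤ AddCommGrpCat.{1}) ⥤ ((Cl (Pts X))ᵒᵖ ⥤ AddCommGrpCat.{1})) :=
    lan_preservesFiniteLimits_of_flat' AddCommGrpCat.{1} (eps X) (fun K hK => inferInstance)
  exact Functor.sheafPullbackConstruction.preservesFiniteLimits (eps X) AddCommGrpCat.{1}
    X.smallEtaleTopology (Cl.topology (Pts X))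

end Groth.Agent.Lib.AnEpsH1
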