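import Mathlib
import Groth.Prelude.Def_AnHol
import Groth.Agent.Lib.AnPts2_helper1

/-!
# Holomorphic functions on the ℂ-points of an affine scheme, in terms of coordinates (helper1)

For an affine scheme `X` over ℂ with algebra generators `s`, every function in the algebra
generated by chart functions is locally a differentiable function of the coordinates `s`.
Application: holomorphic functions on affine space (S4307).
-/

set_option autoImplicit false
set_option maxHeartbeats 1000000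

open CategoryTheory AlgebraicGeometry TopologicalSpace Opposite Topology

namespace Groth.Agent.Lib.AnHolH1

open Groth.Agent.Lib.AnPtsH1

noncomputable section

section affine

variable {X : Scheme.{0}} [X.Over An.SC] [IsAffine X] {n : ℕ} (s : Fin n → Γ(X, ⊤))

/-- The coordinates of a ℂ-point. -/
def crd (x : An.Pts X) : Fin n → ℂ := fun i => x.evTop (s i)

lemma ev_local_rational
    (hs : Function.Surjective (MvPolynomial.eval₂Hom (An.strHom X) s))
    (x0 : An.Pts X) (W : X.Opens) (h0 : x0.pt ∈ W) (f : Γ(X, W)) :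
    ∃ (Pa Pg : MvPolynomial (Fin n) ℂ) (k : ℕ), MvPolynomial.eval (crd s x0) Pg ≠ 0 ∧
      ∀ x : An.Pts X, MvPolynomial.eval (crd s x) Pg ≠ 0 →
        ∃ h : x.pt ∈ W, x.ev W h f =
          MvPolynomial.eval (crd s x) Pa / (MvPolynomial.eval (crd s x) Pg) ^ k := by
  obtain ⟨g, hgU, hx0g⟩ := (isAffineOpen_top X).exists_basicOpen_le (V := W)
    ⟨x0.pt, h0⟩ (Opens.mem_top _)
  have hgT : X.basicOpen g ≤ ⊤ := X.basicOpen_le g
  obtain ⟨⟨a, ⟨_, k, rfl⟩⟩, hak⟩ := IsLocalization.surj (Submonoid.powers g)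
    (X.presheaf.map (homOfLE hgU).op f)
  have hak' : X.presheaf.map (homOfLE hgU).op f * X.presheaf.map (homOfLE hgT).op (g ^ k) =
      X.presheaf.map (homOfLE hgT).op a := hak
  obtain ⟨Pg, hPg⟩ := hs g
  obtain ⟨Pa, hPa⟩ := hs a
  have hform : ∀ (x : An.Pts X) (p : MvPolynomial (Fin n) ℂ),
      x.evTop (MvPolynomial.eval₂Hom (An.strHom X) s p) = MvPolynomial.eval (crd s x) p :=
    fun x p => evTop_eval₂ x s p
  have hevg : ∀ x : An.Pts X, x.evTop g = MvPolynomial.eval (crd s x) Pg := fun x => by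
    rw [← hPg, hform]
  have heva : ∀ x : An.Pts X, x.evTop a = MvPolynomial.eval (crd s x) Pa := fun x => by
    rw [← hPa, hform]
  refine ⟨Pa, Pg, k, ?_, ?_⟩
  · rw [← hevg]
    exact (mem_basicOpen_iff x0 ⊤ (Opens.mem_top _) g).mp hx0g
  · intro x hx
    have hg0 : x.evTop g ≠ 0 := by rw [hevg]; exact hx
    have h : x.pt ∈ X.basicOpen g := (mem_basicOpen_iff x ⊤ (Opens.mem_top _) g).mpr hg0
    refine ⟨hgU h, ?_⟩
    have h1 := congrArg (fun t => x.ev (X.basicOpen g) h t) hak'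
    simp only [] at h1
    rw [Groth.Agent.Lib.AnPtsH1.ev_mul, Groth.Agent.Lib.AnPtsH1.ev_res x hgU h f,
      Groth.Agent.Lib.AnPtsH1.ev_res x hgT h (g ^ k),
      Groth.Agent.Lib.AnPtsH1.ev_res x hgT h a, Groth.Agent.Lib.AnPtsH1.ev_pow] at h1
    rw [← hevg, ← heva]
    exact eq_div_of_mul_eq (pow_ne_zero k hg0) h1

lemma differentiableAt_eval (p : MvPolynomial (Fin n) ℂ) (v : Fin n → ℂ) :
    DifferentiableAt ℂ (fun w : Fin n → ℂ => MvPolynomial.eval w p) v :=
  (AnalyticOnNhd.eval_mvPolynomial (𝕜 := ℂ) p v (Set.mem_univ v)).differentiableAt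

/-- `f : V → ℂ` is, near each point of `V`, a differentiable function of the coordinates. -/
def LocHol (V : Opens (An.top X)) (f : V → ℂ) : Prop :=
  ∀ x : V, ∃ (H : (Fin n → ℂ) → ℂ) (O : Set (Fin n → ℂ)),
    DifferentiableAt ℂ H (crd s x.1) ∧ IsOpen O ∧ crd s x.1 ∈ O ∧
      ∀ y : V, crd s y.1 ∈ O → f y = H (crd s y.1)

lemma locHol_const (V : Opens (An.top X)) (c : ℂ) :
    LocHol s V (algebraMap ℂ (V → ℂ) c) := by
  intro x
  exact ⟨fun _ => c, Set.univ, differentiableAt_const c, isOpen_univ, Set.mem_univ _,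
    fun y _ => rfl⟩

lemma locHol_add (V : Opens (An.top X)) (f g : V → ℂ) (hf : LocHol s V f) (hg : LocHol s V g) :
    LocHol s V (f + g) := by
  intro x
  obtain ⟨H1, O1, hH1, hO1, hx1, h1⟩ := hf x
  obtain ⟨H2, O2, hH2, hO2, hx2, h2⟩ := hg x
  refine ⟨fun w => H1 w + H2 w, O1 ∩ O2, hH1.add hH2, hO1.inter hO2, ⟨hx1, hx2⟩, ?_⟩
  intro y hy
  show f y + g y = _
  rw [h1 y hy.1, h2 y hy.2]

lemma locHol_mul (V : Opens (An.top X)) (f g : V → ℂ) (hf : LocHol s V f) (hg : LocHol s V g) :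
    LocHol s V (f * g) := by
  intro x
  obtain ⟨H1, O1, hH1, hO1, hx1, h1⟩ := hf x
  obtain ⟨H2, O2, hH2, hO2, hx2, h2⟩ := hg x
  refine ⟨fun w => H1 w * H2 w, O1 ∩ O2, hH1.mul hH2, hO1.inter hO2, ⟨hx1, hx2⟩, ?_⟩
  intro y hy
  show f y * g y = _
  rw [h1 y hy.1, h2 y hy.2]

lemma locHol_of_isChartFun
    (hs : Function.Surjective (MvPolynomial.eval₂Hom (An.strHom X) s))
    (V : Opens (An.top X)) (f : V → ℂ) (hf : An.IsChartFun V f) : LocHol s V f := by
  obtain ⟨W, hW, m, σ, V', G', hV', hG', h⟩ := hf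
  intro x
  choose Pa Pg k h0 hall using fun j => ev_local_rational s hs x.1 W (hW x) (σ j)
  obtain ⟨S, hS⟩ : ∃ S : (Fin n → ℂ) → (Fin m → ℂ), S = fun w j =>
      MvPolynomial.eval w (Pa j) / (MvPolynomial.eval w (Pg j)) ^ (k j) := ⟨_, rfl⟩
  obtain ⟨O, hOdef⟩ : ∃ O : Set (Fin n → ℂ), O = ⋂ j, {w | MvPolynomial.eval w (Pg j) ≠ 0} :=
    ⟨_, rfl⟩
  have hO : IsOpen O := by
    rw [hOdef]
    exact isOpen_iInter_of_finite fun j =>
      isOpen_ne_fun (MvPolynomial.continuous_eval (Pg j)) continuous_const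
  have hmemO : ∀ w, w ∈ O ↔ ∀ j, MvPolynomial.eval w (Pg j) ≠ 0 := by
    intro w
    rw [hOdef]
    simp only [Set.mem_iInter, Set.mem_setOf_eq]
  have hSy : ∀ y : V, crd s y.1 ∈ O →
      S (crd s y.1) = fun j => An.Pts.ev y.1 W (hW y) (σ j) := by
    intro y hy
    funext j
    obtain ⟨_, e⟩ := hall j y.1 ((hmemO _).mp hy j)
    rw [hS]
    exact e.symm
  have hxO : crd s x.1 ∈ O := (hmemO _).mpr h0
  have hSdiff : DifferentiableAt ℂ S (crd s x.1) := by
    rw [hS]
    refine differentiableAt_pi.mpr fun j => ?_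
    have e : (fun w : Fin n → ℂ =>
        MvPolynomial.eval w (Pa j) / (MvPolynomial.eval w (Pg j)) ^ (k j)) =
        (fun w : Fin n → ℂ => MvPolynomial.eval w (Pa j)) *
          ((fun w : Fin n → ℂ => MvPolynomial.eval w (Pg j)) ^ (k j))⁻¹ := by
      funext w
      simp only [Pi.mul_apply, Pi.inv_apply, Pi.pow_apply, div_eq_mul_inv]
    show DifferentiableAt ℂ (fun w : Fin n → ℂ =>
      MvPolynomial.eval w (Pa j) / (MvPolynomial.eval w (Pg j)) ^ (k j)) (crd s x.1)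
    rw [e]
    exact (differentiableAt_eval (Pa j) _).mul
      (((differentiableAt_eval (Pg j) _).pow (k j)).inv (pow_ne_zero _ (h0 j)))
  refine ⟨G' ∘ S, O, ?_, hO, hxO, ?_⟩
  · refine DifferentiableAt.comp _ ?_ hSdiff
    refine hG'.differentiableAt (hV'.mem_nhds ?_)
    rw [hSy x hxO]
    exact (h x).1
  · intro y hy
    show f y = G' (S (crd s y.1))
    rw [hSy y hy]
    exact (h y).2

lemma locHol_of_mem_chartAlg
    (hs : Function.Surjective (MvPolynomial.eval₂Hom (An.strHom X) s))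
    (V : Opens (An.top X)) (f : V → ℂ) (hf : f ∈ An.chartAlg V) : LocHol s V f := by
  unfold An.chartAlg at hf
  induction hf using Algebra.adjoin_induction with
  | mem f hf => exact locHol_of_isChartFun s hs V f hf
  | algebraMap c => exact locHol_const s V c
  | add f g _ _ hf hg => exact locHol_add s V f g hf hg
  | mul f g _ _ hf hg => exact locHol_mul s V f g hf hg

end affine

section affineSpace

lemma coord_surjective (n : ℕ) :
    Function.Surjective (MvPolynomial.eval₂Hom (An.strHom (𝔸(Fin n; An.SC)))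
      (AffineSpace.coord An.SC)) := by
  have h := AffineSpace.SpecIso_hom_appTop (n := Fin n) (CommRingCat.of ℂ)
  intro y
  have h1 : (AffineSpace.SpecIso (Fin n) (CommRingCat.of ℂ)).inv.appTop ≫
      (AffineSpace.SpecIso (Fin n) (CommRingCat.of ℂ)).hom.appTop = 𝟙 _ := by
    rw [← Scheme.Hom.comp_appTop, Iso.hom_inv_id, Scheme.Hom.id_appTop]
  have h2 : (AffineSpace.SpecIso (Fin n) (CommRingCat.of ℂ)).hom.appTop
      ((AffineSpace.SpecIso (Fin n) (CommRingCat.of ℂ)).inv.appTop y) = y :=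
    ConcreteCategory.congr_hom h1 y
  refine ⟨(Scheme.ΓSpecIso _).hom
    ((AffineSpace.SpecIso (Fin n) (CommRingCat.of ℂ)).inv.appTop y), ?_⟩
  rw [h] at h2
  exact h2

theorem main (n : ℕ) (U : TopologicalSpace.Opens (An.Pts (𝔸(Fin n; An.SC))))
    (g : U → ℂ) :
    (An.holPred (𝔸(Fin n; An.SC))).pred g ↔
      ∃ G : (Fin n → ℂ) → ℂ,
        DifferentiableOn ℂ G ((fun (x : An.Pts (𝔸(Fin n; An.SC))) (i : Fin n) =>
          x.evTop (AffineSpace.coord An.SC i)) '' (U : Set (An.Pts (𝔸(Fin n; An.SC))))) ∧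
        ∀ x : U, g x = G (fun i => (x : An.Pts (𝔸(Fin n; An.SC))).evTop
          (AffineSpace.coord An.SC i)) := by
  have hE := affineSpace_isHomeomorph n
  have hs := coord_surjective n
  obtain ⟨E, hEdef⟩ : ∃ E : An.Pts (𝔸(Fin n; An.SC)) → (Fin n → ℂ),
      E = crd (AffineSpace.coord An.SC) := ⟨_, rfl⟩
  change IsHomeomorph (crd (AffineSpace.coord An.SC)) at hE
  change _ ↔ ∃ G : (Fin n → ℂ) → ℂ,
    DifferentiableOn ℂ G (crd (AffineSpace.coord An.SC) '' (U : Set (An.Pts (𝔸(Fin n; An.SC))))) ∧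
      ∀ x : U, g x = G (crd (AffineSpace.coord An.SC) x.1)
  rw [← hEdef] at hE ⊢
  constructor
  · intro hg
    classical
    obtain ⟨G, hGdef⟩ : ∃ G : (Fin n → ℂ) → ℂ, ∀ x : U, G (E x.1) = g x := by
      refine ⟨fun v => if h : ∃ x : U, E x.1 = v then g h.choose else 0, fun x => ?_⟩
      have hex : ∃ y : U, E y.1 = E x.1 := ⟨x, rfl⟩
      show (if h : ∃ y : U, E y.1 = E x.1 then g h.choose else 0) = g x
      rw [dif_pos hex]
      congr 1
      exact Subtype.ext (hE.injective hex.choose_spec)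
    refine ⟨G, ?_, fun x => (hGdef x).symm⟩
    rintro _ ⟨x, hxU, rfl⟩
    apply DifferentiableAt.differentiableWithinAt
    obtain ⟨V, hxV, i, hmem⟩ := hg ⟨x, hxU⟩
    obtain ⟨H, O, hH, hO, hxO, hfH⟩ :=
      locHol_of_mem_chartAlg (AffineSpace.coord An.SC) hs V _ hmem ⟨x, hxV⟩
    rw [← hEdef] at hH hxO hfH
    refine hH.congr_of_eventuallyEq ?_
    have hopen : IsOpen (O ∩ E '' V.1) :=
      hO.inter (hE.isOpenMap _ V.2)
    refine Filter.eventuallyEq_of_mem (hopen.mem_nhds ⟨hxO, ⟨x, hxV, rfl⟩⟩) ?_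
    rintro _ ⟨hwO, y, hyV, rfl⟩
    have e1 := hGdef ⟨y, i.le hyV⟩
    have e2 := hfH ⟨y, hyV⟩ hwO
    show G (E y) = H (E y)
    rw [← e2]
    exact e1
  · rintro ⟨G, hG, hgG⟩
    subst hEdef
    refine An.holPred_of_chartAlg (Algebra.subset_adjoin ?_)
    refine ⟨⊤, fun x => Opens.mem_top _, n, AffineSpace.coord An.SC,
      crd (AffineSpace.coord An.SC) '' (U : Set (An.Pts (𝔸(Fin n; An.SC)))), G,
      hE.isOpenMap _ U.2, hG, fun x => ?_⟩
    exact ⟨⟨x.1, x.2, rfl⟩, hgG x⟩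

end affineSpace

end

end Groth.Agent.Lib.AnHolH1
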