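import Mathlib

/-!
# Analytic independence of generators of the maximal ideal forces regularity (helper8)
APPEND-ONLY once landed.
-/

set_option autoImplicit false
set_option maxHeartbeats 400000
universe u

namespace Groth.Agent.Lib.AnIndH8

open IsLocalRing MvPolynomial

variable {k : Type*} [Field k]

section basic
variable {R : Type*} [CommRing R] [IsLocalRing R] [Algebra k R]

/-- Analytic independence over the coefficient field `k`. -/
def AI {n : ℕ} (x : Fin n → R) : Prop :=
  ∀ (j : ℕ) (G : MvPolynomial (Fin n) k), G.IsHomogeneous j →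
    aeval x G ∈ maximalIdeal R ^ (j + 1) → G = 0

theorem aeval_mem_pow {n : ℕ} (x : Fin n → R) (hx : ∀ l, x l ∈ maximalIdeal R) {j : ℕ}
    {G : MvPolynomial (Fin n) k} (hG : G.IsHomogeneous j) :
    aeval x G ∈ maximalIdeal R ^ j := by
  rw [aeval_def, eval₂_eq]
  refine Ideal.sum_mem _ fun s hs => Ideal.mul_mem_left _ _ ?_
  have hdeg := hG.degree_eq_sum_deg_support hs
  rw [hdeg, ← Finset.prod_pow_eq_pow_sum]
  exact Ideal.prod_mem_prod fun i _ => Ideal.pow_mem_pow (hx i) _

theorem exists_const (hres : Function.Surjective (algebraMap k (ResidueField R))) (r : R) :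
    ∃ c : k, r - algebraMap k R c ∈ maximalIdeal R := by
  obtain ⟨c, hc⟩ := hres (residue R r)
  refine ⟨c, ?_⟩
  rw [← residue_eq_zero_iff, map_sub, ← hc, IsScalarTower.algebraMap_apply k R (ResidueField R)]
  exact sub_self _

theorem exists_linear {n : ℕ} (x : Fin n → R)
    (hres : Function.Surjective (algebraMap k (ResidueField R)))
    (hx : Ideal.span (Set.range x) = maximalIdeal R) (a : R) (ha : a ∈ maximalIdeal R) :
    ∃ L : MvPolynomial (Fin n) k, L.IsHomogeneous 1 ∧ a - aeval x L ∈ maximalIdeal R ^ 2 := by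
  rw [← hx] at ha
  obtain ⟨c, hc⟩ := (Ideal.mem_span_range_iff_exists_fun).1 ha
  choose c0 hc0 using fun l => exists_const (k := k) hres (c l)
  have hxm : ∀ l, x l ∈ maximalIdeal R := fun l => hx ▸ Ideal.subset_span ⟨l, rfl⟩
  refine ⟨∑ l, C (c0 l) * X l, IsHomogeneous.sum _ _ _ fun l _ => isHomogeneous_C_mul_X _ _, ?_⟩
  have : a - aeval x (∑ l, C (c0 l) * X l) = ∑ l, (c l - algebraMap k R (c0 l)) * x l := by
    rw [← hc, map_sum, ← Finset.sum_sub_distrib]
    refine Finset.sum_congr rfl fun l _ => ?_
    simp [sub_mul]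
  rw [this, pow_two]
  exact Ideal.sum_mem _ fun l _ => Ideal.mul_mem_mul (hc0 l) (hxm l)

theorem exists_form {n : ℕ} (x : Fin n → R)
    (hres : Function.Surjective (algebraMap k (ResidueField R)))
    (hx : Ideal.span (Set.range x) = maximalIdeal R) (i : ℕ) :
    ∀ r ∈ maximalIdeal R ^ i, ∃ H : MvPolynomial (Fin n) k,
      H.IsHomogeneous i ∧ r - aeval x H ∈ maximalIdeal R ^ (i + 1) := by
  have hxm : ∀ l, x l ∈ maximalIdeal R := fun l => hx ▸ Ideal.subset_span ⟨l, rfl⟩
  induction i with
  | zero =>
    intro r _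
    obtain ⟨c, hc⟩ := exists_const (k := k) hres r
    refine ⟨C c, isHomogeneous_C _ _, ?_⟩
    simpa using hc
  | succ i ih =>
    intro r hr
    rw [pow_succ'] at hr
    refine Submodule.mul_induction_on hr ?_ ?_
    · intro a ha b hb
      obtain ⟨L, hL, hLa⟩ := exists_linear (k := k) x hres hx a ha
      obtain ⟨H, hH, hHb⟩ := ih b hb
      refine ⟨L * H, by simpa [add_comm] using hL.mul hH, ?_⟩
      have hLm : aeval x L ∈ maximalIdeal R := by
        have := aeval_mem_pow (k := k) x hxm hL
        simpa using this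
      have : a * b - aeval x (L * H) = (a - aeval x L) * b + aeval x L * (b - aeval x H) := by
        rw [map_mul]; ring
      rw [this]
      refine Ideal.add_mem _ ?_ ?_
      · have h1 := Ideal.mul_mem_mul hLa hb
        rwa [← pow_add, show 2 + i = i + 1 + 1 by ring] at h1
      · have h1 := Ideal.mul_mem_mul hLm hHb
        rwa [← pow_succ'] at h1
    · intro r1 r2 ⟨H1, hH1, h1⟩ ⟨H2, hH2, h2⟩
      refine ⟨H1 + H2, hH1.add hH2, ?_⟩
      have : r1 + r2 - aeval x (H1 + H2) = (r1 - aeval x H1) + (r2 - aeval x H2) := by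
        rw [map_add]; ring
      rw [this]
      exact Ideal.add_mem _ h1 h2

end basic

section colon
variable {R : Type*} [CommRing R] [IsLocalRing R] [Algebra k R]

theorem colon {n : ℕ} (x : Fin (n + 1) → R)
    (hres : Function.Surjective (algebraMap k (ResidueField R)))
    (hx : Ideal.span (Set.range x) = maximalIdeal R) (hAI : AI (k := k) x)
    (j : ℕ) (r : R) (hr : x 0 * r ∈ maximalIdeal R ^ (j + 1)) :
    r ∈ maximalIdeal R ^ j := by
  have hxm : ∀ l, x l ∈ maximalIdeal R := fun l => hx ▸ Ideal.subset_span ⟨l, rfl⟩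
  have key : ∀ i, i ≤ j → r ∈ maximalIdeal R ^ i := by
    intro i
    induction i with
    | zero => intro _; simp
    | succ i ih =>
      intro hij
      have hri := ih (by omega)
      obtain ⟨H, hH, hHr⟩ := exists_form (k := k) x hres hx i r hri
      have hXH : (X 0 * H : MvPolynomial (Fin (n + 1)) k).IsHomogeneous (i + 1) := by
        simpa [add_comm] using (isHomogeneous_X k (0 : Fin (n + 1))).mul hH
      have hval : aeval x (X 0 * H : MvPolynomial (Fin (n + 1)) k)
          ∈ maximalIdeal R ^ (i + 1 + 1) := by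
        have e : aeval x (X 0 * H : MvPolynomial (Fin (n + 1)) k)
            = x 0 * r - x 0 * (r - aeval x H) := by
          rw [map_mul, aeval_X]; ring
        rw [e]
        refine Ideal.sub_mem _ (Ideal.pow_le_pow_right (by omega) hr) ?_
        have h1 := Ideal.mul_mem_mul (hxm 0) hHr
        rwa [← pow_succ'] at h1
      have h0 := hAI (i + 1) _ hXH hval
      have hH0 : H = 0 := by
        rcases mul_eq_zero.1 h0 with h | h
        · exact absurd h (X_ne_zero _)
        · exact h
      rw [hH0, map_zero, sub_zero] at hHr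
      exact hHr
  exact key j le_rfl

theorem mem_nonZeroDivisors [IsNoetherianRing R] {n : ℕ} (x : Fin (n + 1) → R)
    (hres : Function.Surjective (algebraMap k (ResidueField R)))
    (hx : Ideal.span (Set.range x) = maximalIdeal R) (hAI : AI (k := k) x) :
    x 0 ∈ nonZeroDivisors R := by
  rw [mem_nonZeroDivisors_iff_right]
  intro r hr
  have hall : ∀ j, r ∈ maximalIdeal R ^ j := fun j =>
    colon x hres hx hAI j r (by rw [mul_comm, hr]; exact Ideal.zero_mem _)
  have hbot := Ideal.iInf_pow_eq_bot_of_isLocalRing (maximalIdeal R) Ideal.IsPrime.ne_top'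
  have : r ∈ (⨅ j, maximalIdeal R ^ j : Ideal R) := by
    rw [Ideal.mem_iInf]; exact hall
  rw [hbot] at this
  simpa using this

end colon

section quot
variable {R R' : Type*} [CommRing R] [IsLocalRing R] [Algebra k R]
  [CommRing R'] [IsLocalRing R'] [Algebra k R']

theorem hres_of_surjective (hres : Function.Surjective (algebraMap k (ResidueField R)))
    (π : R →ₐ[k] R') (hπ : Function.Surjective π) :
    Function.Surjective (algebraMap k (ResidueField R')) := by
  intro y
  obtain ⟨r', rfl⟩ := residue_surjective y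
  obtain ⟨r, rfl⟩ := hπ r'
  obtain ⟨c, hc⟩ := exists_const (k := k) hres r
  refine ⟨c, ?_⟩
  have hloc : IsLocalHom π.toRingHom := IsLocalHom.of_surjective π.toRingHom hπ
  have h1 : π (r - algebraMap k R c) ∈ maximalIdeal R' := by
    have := map_maximalIdeal_of_surjective π.toRingHom hπ
    rw [← this]
    exact Ideal.mem_map_of_mem _ hc
  rw [map_sub, AlgHom.commutes, ← residue_eq_zero_iff, map_sub, sub_eq_zero] at h1
  rw [h1, IsScalarTower.algebraMap_apply k R' (ResidueField R')]
  rfl

theorem span_quot {n : ℕ} (x : Fin (n + 1) → R)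
    (hx : Ideal.span (Set.range x) = maximalIdeal R)
    (π : R →ₐ[k] R') (hπ : Function.Surjective π) (h0 : π (x 0) = 0) :
    Ideal.span (Set.range fun l : Fin n => π (x l.succ)) = maximalIdeal R' := by
  have hm := map_maximalIdeal_of_surjective π.toRingHom hπ
  rw [← hm, ← hx, Ideal.map_span]
  refine le_antisymm (Ideal.span_mono ?_) (Ideal.span_le.2 ?_)
  · rintro _ ⟨l, rfl⟩
    exact ⟨x l.succ, ⟨l.succ, rfl⟩, rfl⟩
  · rintro _ ⟨_, ⟨l, rfl⟩, rfl⟩
    induction l using Fin.cases with
    | zero =>
      change π (x 0) ∈ _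
      rw [h0]; exact Ideal.zero_mem _
    | succ l => exact Ideal.subset_span ⟨l, rfl⟩

theorem AI_quot {n : ℕ} (x : Fin (n + 1) → R)
    (hres : Function.Surjective (algebraMap k (ResidueField R)))
    (hx : Ideal.span (Set.range x) = maximalIdeal R) (hAI : AI (k := k) x)
    (π : R →ₐ[k] R') (hπ : Function.Surjective π)
    (hker : RingHom.ker π.toRingHom = Ideal.span {x 0}) :
    AI (k := k) (fun l : Fin n => π (x l.succ)) := by
  have hxm : ∀ l, x l ∈ maximalIdeal R := fun l => hx ▸ Ideal.subset_span ⟨l, rfl⟩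
  intro j G hG hmem
  have hm := map_maximalIdeal_of_surjective π.toRingHom hπ
  rw [← hm, ← Ideal.map_pow] at hmem
  have e1 : aeval (fun l : Fin n => π (x l.succ)) G = π (aeval x (rename Fin.succ G)) := by
    rw [comp_aeval_apply, aeval_rename]; rfl
  rw [e1] at hmem
  obtain ⟨s, hs, hsπ⟩ := (Ideal.mem_map_iff_of_surjective π.toRingHom hπ).1 hmem
  have hker' : aeval x (rename Fin.succ G) - s ∈ Ideal.span {x 0} := by
    rw [← hker, RingHom.mem_ker, map_sub, sub_eq_zero]
    exact hsπ.symm
  obtain ⟨r, hr⟩ := Ideal.mem_span_singleton'.1 hker'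
  have hGr : (rename Fin.succ G : MvPolynomial (Fin (n + 1)) k).IsHomogeneous j :=
    hG.rename_isHomogeneous
  have hfin : ∀ H : MvPolynomial (Fin (n + 1)) k, rename Fin.succ G = X 0 * H → G = 0 := by
    intro H hH
    have h2 := congrArg (aeval (Fin.cons 0 X : Fin (n + 1) → MvPolynomial (Fin n) k)) hH
    rw [aeval_rename, map_mul, aeval_X, Fin.cons_zero, zero_mul] at h2
    have h3 : ((Fin.cons 0 X : Fin (n + 1) → MvPolynomial (Fin n) k) ∘ Fin.succ) = X := by
      funext l; simp
    rw [h3, aeval_X_left_apply] at h2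
    exact h2
  rcases j with _ | j
  · -- constants
    have hG0 : G = C (coeff 0 G) := by
      have := hG.totalDegree_le
      exact totalDegree_eq_zero_iff_eq_C.1 (Nat.le_zero.1 this)
    by_contra hne
    have hc : coeff 0 G ≠ 0 := fun h => hne (by rw [hG0, h, map_zero])
    have hu : IsUnit (algebraMap k R (coeff 0 G)) := (isUnit_iff_ne_zero.2 hc).map _
    have hmem2 : algebraMap k R (coeff 0 G) ∈ maximalIdeal R := by
      have e2 : algebraMap k R (coeff 0 G) = aeval x (rename Fin.succ G) := by
        rw [hG0]; simp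
      have e3 : aeval x (rename Fin.succ G) = s + r * x 0 := by rw [hr]; ring
      rw [e2, e3]
      refine Ideal.add_mem _ ?_ (Ideal.mul_mem_left _ _ (hxm 0))
      simpa using hs
    exact (mem_maximalIdeal _).1 hmem2 hu
  · have hxr : x 0 * r ∈ maximalIdeal R ^ (j + 1) := by
      have e3 : x 0 * r = aeval x (rename Fin.succ G) - s := by rw [← hr]; ring
      rw [e3]
      exact Ideal.sub_mem _ (aeval_mem_pow (k := k) x hxm hGr)
        (Ideal.pow_le_pow_right (by omega) hs)
    have hrj := colon x hres hx hAI j r hxr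
    obtain ⟨H, hH, hHr⟩ := exists_form (k := k) x hres hx j r hrj
    have hXH : (X 0 * H : MvPolynomial (Fin (n + 1)) k).IsHomogeneous (j + 1) := by
      simpa [add_comm] using (isHomogeneous_X k (0 : Fin (n + 1))).mul hH
    have hdiff : aeval x (rename Fin.succ G - X 0 * H) ∈ maximalIdeal R ^ (j + 1 + 1) := by
      have e4 : aeval x (rename Fin.succ G - X 0 * H) = s + x 0 * (r - aeval x H) := by
        rw [map_sub, map_mul, aeval_X]
        have : aeval x (rename Fin.succ G) = s + r * x 0 := by rw [hr]; ring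
        rw [this]; ring
      rw [e4]
      refine Ideal.add_mem _ hs ?_
      have h1 := Ideal.mul_mem_mul (hxm 0) hHr
      rwa [← pow_succ'] at h1
    have h0 := hAI (j + 1) _ (hGr.sub hXH) hdiff
    exact hfin H (sub_eq_zero.1 h0)

end quot

section main

theorem le_ringKrullDim : ∀ (n : ℕ) (R : Type u) [CommRing R] [IsLocalRing R] [IsNoetherianRing R]
    [Algebra k R] (_hres : Function.Surjective (algebraMap k (ResidueField R)))
    (x : Fin n → R) (_hx : Ideal.span (Set.range x) = maximalIdeal R) (_hAI : AI (k := k) x),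
    (n : WithBot ℕ∞) ≤ ringKrullDim R := by
  intro n
  induction n with
  | zero =>
    intro R _ _ _ _ _ x _ _
    simpa using ringKrullDim_nonneg_of_nontrivial (R := R)
  | succ n ih =>
    intro R _ _ _ _ hres x hx hAI
    have hxm : ∀ l, x l ∈ maximalIdeal R := fun l => hx ▸ Ideal.subset_span ⟨l, rfl⟩
    have hne : Ideal.span {x 0} ≠ ⊤ := by
      intro h
      have : Ideal.span {x 0} ≤ maximalIdeal R := (Ideal.span_singleton_le_iff_mem _).2 (hxm 0)
      rw [h] at this
      exact Ideal.IsPrime.ne_top' (top_le_iff.1 this)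
    haveI : Nontrivial (R ⧸ Ideal.span {x 0}) := Ideal.Quotient.nontrivial_iff.2 hne
    haveI : IsLocalRing (R ⧸ Ideal.span {x 0}) :=
      IsLocalRing.of_surjective' (Ideal.Quotient.mk _) Ideal.Quotient.mk_surjective
    let π : R →ₐ[k] (R ⧸ Ideal.span {x 0}) := Ideal.Quotient.mkₐ k _
    have hπ : Function.Surjective π := Ideal.Quotient.mk_surjective
    have hker : RingHom.ker π.toRingHom = Ideal.span {x 0} := Ideal.mk_ker
    have h0 : π (x 0) = 0 := by
      have : x 0 ∈ RingHom.ker π.toRingHom := by rw [hker]; exact Ideal.mem_span_singleton_self _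
      exact this
    have hnzd := mem_nonZeroDivisors x hres hx hAI
    have h1 := ringKrullDim_quotient_succ_le_of_nonZeroDivisor hnzd
    have h2 := ih (R ⧸ Ideal.span {x 0}) (hres_of_surjective hres π hπ)
      (fun l : Fin n => π (x l.succ)) (span_quot x hx π hπ h0) (AI_quot x hres hx hAI π hπ hker)
    calc ((n + 1 : ℕ) : WithBot ℕ∞) = (n : WithBot ℕ∞) + 1 := by push_cast; rfl
      _ ≤ ringKrullDim (R ⧸ Ideal.span {x 0}) + 1 := by gcongr
      _ ≤ ringKrullDim R := h1

end main

end Groth.Agent.Lib.AnIndH8
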