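import Mathlib
import Groth.Prelude.Def_IdealRed
import Groth.Agent.Lib.IntegralHeight_helper5
import Groth.Agent.Lib.DimFT_helper8

/-!
# Fibre cones and analytic spread (helper5)

* `analyticSpread_le`: if `a` is a reduction of `b` then `ℓ(b) ≤ μ(a)`.
* `le_analyticSpread`: `t` analytically independent elements of `b` give `t ≤ ℓ(b)`.
-/

set_option autoImplicit false
universe u

open Polynomial IsLocalRing

namespace Groth.Agent.FibreCone

variable {R : Type u} [CommRing R]

/-- homogeneous element `c X^n` of the Rees algebra -/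
noncomputable def mono (b : Ideal R) (n : ℕ) (c : R) (hc : c ∈ b ^ n) : reesAlgebra b :=
  ⟨monomial n c, reesAlgebra.monomial_mem.mpr hc⟩

@[simp] theorem coe_mono (b : Ideal R) (n : ℕ) (c : R) (hc : c ∈ b ^ n) :
    ((mono b n c hc : reesAlgebra b) : R[X]) = monomial n c := rfl

/-- The ideal of elements of the Rees algebra whose `n`-th coefficient lies in `m * b ^ n`. -/
def coeffIdeal (m b : Ideal R) : Ideal (reesAlgebra b) where
  carrier := {x | ∀ n, (x : R[X]).coeff n ∈ m * b ^ n}
  zero_mem' := by
    show ∀ n, ((0 : reesAlgebra b) : R[X]).coeff n ∈ m * b ^ n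
    intro n; simp
  add_mem' := by
    intro x y hx hy
    show ∀ n, ((x + y : reesAlgebra b) : R[X]).coeff n ∈ m * b ^ n
    intro n
    have : ((x + y : reesAlgebra b) : R[X]).coeff n =
        (x : R[X]).coeff n + (y : R[X]).coeff n := by simp
    rw [this]; exact Ideal.add_mem _ (hx n) (hy n)
  smul_mem' := by
    intro y x hx
    show ∀ n, ((y • x : reesAlgebra b) : R[X]).coeff n ∈ m * b ^ n
    intro n
    have : ((y • x : reesAlgebra b) : R[X]) = (y : R[X]) * (x : R[X]) := by
      simp [smul_eq_mul]
    rw [this, Polynomial.coeff_mul]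
    refine Ideal.sum_mem _ fun ij hij => ?_
    have h1 : (y : R[X]).coeff ij.1 ∈ b ^ ij.1 := (mem_reesAlgebra_iff _ _).mp y.2 _
    have h2 : (x : R[X]).coeff ij.2 ∈ m * b ^ ij.2 := hx ij.2
    have hn : ij.1 + ij.2 = n := Finset.HasAntidiagonal.mem_antidiagonal.mp hij
    have h3 : (y : R[X]).coeff ij.1 * (x : R[X]).coeff ij.2 ∈ b ^ ij.1 * (m * b ^ ij.2) :=
      Ideal.mul_mem_mul h1 h2
    have h4 : b ^ ij.1 * (m * b ^ ij.2) = m * b ^ n := by
      rw [← hn, pow_add, mul_left_comm]
    rwa [h4] at h3

theorem coeff_mem_of_mem_map (m b : Ideal R) (x : reesAlgebra b)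
    (hx : x ∈ Ideal.map (algebraMap R (reesAlgebra b)) m) (n : ℕ) :
    (x : R[X]).coeff n ∈ m * b ^ n := by
  have hle : Ideal.map (algebraMap R (reesAlgebra b)) m ≤ coeffIdeal m b := by
    rw [Ideal.map_le_iff_le_comap]
    intro r hr
    show ∀ n, ((algebraMap R (reesAlgebra b) r : reesAlgebra b) : R[X]).coeff n ∈ m * b ^ n
    intro n
    have : ((algebraMap R (reesAlgebra b) r : reesAlgebra b) : R[X]) = C r := rfl
    rw [this, Polynomial.coeff_C]
    split_ifs with h
    · subst h; simpa using hr
    · exact zero_mem _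
  exact hle hx n

theorem mul_pow_eq_of_reduction {a b : Ideal R} {s : ℕ} (hs : a * b ^ s = b ^ (s + 1)) (n : ℕ)
    (hn : s ≤ n) : a * b ^ n = b ^ (n + 1) := by
  obtain ⟨k, rfl⟩ := Nat.exists_eq_add_of_le hn
  rw [pow_add, ← mul_assoc, hs, ← pow_add]
  congr 1; omega

variable {ι : Type*}

/-- The `R`-algebra map `R[T_i] → R[bX]`, `T_i ↦ v_i X`. -/
noncomputable def psi (b : Ideal R) (v : ι → R) (hv : ∀ i, v i ∈ b) :
    MvPolynomial ι R →ₐ[R] reesAlgebra b :=
  MvPolynomial.aeval (fun i => mono b 1 (v i) (by rw [pow_one]; exact hv i))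

theorem psi_X (b : Ideal R) (v : ι → R) (hv : ∀ i, v i ∈ b) (i : ι) :
    psi b v hv (MvPolynomial.X i) = mono b 1 (v i) (by rw [pow_one]; exact hv i) := by
  simp [psi]

theorem finite_of_reduction [IsNoetherianRing R] (a b : Ideal R) (v : ι → R)
    (hva : Ideal.span (Set.range v) = a) (hvb : ∀ i, v i ∈ b) (s : ℕ)
    (hs : a * b ^ s = b ^ (s + 1)) :
    (psi b v hvb).toRingHom.Finite := by
  classical
  letI : Algebra (MvPolynomial ι R) (reesAlgebra b) := (psi b v hvb).toRingHom.toAlgebra
  haveI : IsScalarTower R (MvPolynomial ι R) (reesAlgebra b) :=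
    IsScalarTower.of_algebraMap_eq (fun r => ((psi b v hvb).commutes r).symm)
  show Module.Finite (MvPolynomial ι R) (reesAlgebra b)
  have hfg : ∀ j : ℕ, ∃ S : Finset R, Ideal.span (S : Set R) = b ^ j :=
    fun j => (IsNoetherian.noetherian (b ^ j))
  choose G hG using hfg
  let T : Set (reesAlgebra b) := {x | ∃ j ≤ s, ∃ c ∈ G j, (x : R[X]) = monomial j c}
  have hTfin : T.Finite := by
    have h1 : (⋃ j ∈ Finset.range (s + 1),
        (fun c => (monomial j c : R[X])) '' (G j : Set R) : Set R[X]).Finite :=
      Set.Finite.biUnion (Finset.finite_toSet _) (fun j _ => (Finset.finite_toSet _).image _)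
    refine (h1.preimage (Subtype.val_injective.injOn)).subset ?_
    rintro x ⟨j, hj, c, hc, hx⟩
    simp only [Set.mem_preimage, Set.mem_iUnion]
    exact ⟨j, Finset.mem_coe.mpr (Finset.mem_range.mpr (by omega)), c, hc, hx.symm⟩
  let N : Submodule (MvPolynomial ι R) (reesAlgebra b) := Submodule.span _ T
  let NP : Submodule R R[X] := (N.restrictScalars R).map (reesAlgebra b).val.toLinearMap
  have c1 : ∀ (i : ι) (p : R[X]), p ∈ NP → monomial 1 (v i) * p ∈ NP := by
    intro i p hp
    obtain ⟨x, hx, rfl⟩ := Submodule.mem_map.mp hp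
    have hx' : x ∈ N := hx
    refine Submodule.mem_map.mpr
      ⟨(MvPolynomial.X i : MvPolynomial ι R) • x, N.smul_mem _ hx', ?_⟩
    have : (MvPolynomial.X i : MvPolynomial ι R) • x =
        mono b 1 (v i) (by rw [pow_one]; exact hvb i) * x := by
      rw [Algebra.smul_def]
      congr 1
      exact psi_X b v hvb i
    rw [this]
    rfl
  have c2 : ∀ n ≤ s, ∀ c ∈ b ^ n, monomial n c ∈ NP := by
    intro n hn c hc
    rw [← hG n] at hc
    induction hc using Submodule.span_induction with
    | mem c hc =>
      exact Submodule.mem_map.mpr ⟨⟨monomial n c, reesAlgebra.monomial_mem.mpr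
        (by rw [← hG n]; exact Ideal.subset_span hc)⟩,
        Submodule.subset_span ⟨n, hn, c, Finset.mem_coe.mp hc, rfl⟩, rfl⟩
    | zero => simp
    | add x y _ _ hx hy => rw [map_add]; exact NP.add_mem hx hy
    | smul r x _ hx =>
      rw [← Polynomial.smul_monomial]
      exact NP.smul_mem r hx
  have c3 : ∀ n, ∀ c ∈ b ^ n, monomial n c ∈ NP := by
    intro n
    induction n with
    | zero => exact c2 0 (Nat.zero_le _)
    | succ n ih =>
      by_cases hn : n + 1 ≤ s
      · exact c2 (n + 1) hn
      · intro c hc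
        rw [← mul_pow_eq_of_reduction hs n (by omega)] at hc
        refine Submodule.smul_induction_on hc ?_ ?_
        · intro a' ha' c' hc'
          rw [← hva] at ha'
          induction ha' using Submodule.span_induction with
          | mem x hx =>
            obtain ⟨i, rfl⟩ := hx
            have : monomial (n + 1) (v i • c') = monomial 1 (v i) * monomial n c' := by
              rw [Polynomial.monomial_mul_monomial, add_comm, smul_eq_mul]
            rw [this]
            exact c1 i _ (ih c' hc')
          | zero => simp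
          | add x y _ _ hx hy => rw [add_smul, map_add]; exact NP.add_mem hx hy
          | smul r x _ hx =>
            rw [smul_assoc, ← Polynomial.smul_monomial]
            exact NP.smul_mem r hx
        · intro x y hx hy; rw [map_add]; exact NP.add_mem hx hy
  have c4 : ∀ x : reesAlgebra b, x ∈ N := by
    intro x
    have hsum : ∑ i ∈ (x : R[X]).support, monomial i ((x : R[X]).coeff i) ∈ NP :=
      Submodule.sum_mem _ (fun i _ => c3 i _ ((mem_reesAlgebra_iff _ _).mp x.2 i))
    rw [← Polynomial.as_sum_support] at hsum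
    obtain ⟨y, hy, hyx⟩ := Submodule.mem_map.mp hsum
    have : y = x := Subtype.ext hyx
    rw [← this]; exact hy
  exact ⟨Submodule.fg_def.mpr ⟨T, hTfin, eq_top_iff.mpr (fun x _ => c4 x)⟩⟩

/-- abstract dimension bound: `A → B` finite, `B → F` surjective, `J` dying in `F`. -/
theorem dim_le_of_finite_of_surjective {A B F : Type*} [CommRing A] [CommRing B] [CommRing F]
    (ψ : A →+* B) (hψ : ψ.Finite) (q : B →+* F) (hq : Function.Surjective q) (J : Ideal A)
    (hJ : ∀ x ∈ J, q (ψ x) = 0) : ringKrullDim F ≤ ringKrullDim (A ⧸ J) := by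
  have h1 : ψ.IsIntegral := hψ.to_isIntegral
  have h2 : q.IsIntegral := RingHom.isIntegral_of_surjective q hq
  have hg0 : (q.comp ψ).IsIntegral := RingHom.IsIntegral.trans _ _ h1 h2
  have hJ' : ∀ x ∈ J, (q.comp ψ) x = 0 := hJ
  have hg1 : (Ideal.Quotient.lift J (q.comp ψ) hJ').IsIntegral := by
    apply RingHom.IsIntegral.tower_top (Ideal.Quotient.mk J) _
    rw [Ideal.Quotient.lift_comp_mk J (q.comp ψ) hJ']; exact hg0
  letI : Algebra (A ⧸ J) F := (Ideal.Quotient.lift J (q.comp ψ) hJ').toAlgebra
  haveI : Algebra.IsIntegral (A ⧸ J) F := ⟨hg1⟩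
  exact Groth.Agent.IntegralHeight.ringKrullDim_le_of_isIntegral _ _

/-- If `a` is a reduction of `b`, the analytic spread of `b` is at most `μ(a)`. -/
theorem analyticSpread_le [IsNoetherianRing R] [IsLocalRing R] (a b : Ideal R)
    (hab : IdealRed.IsReduction a b) :
    IdealRed.analyticSpread R b ≤ ((Submodule.spanFinrank a : ℕ∞) : WithBot ℕ∞) := by
  obtain ⟨hle, s, hs⟩ := hab
  have hfg : a.FG := IsNoetherian.noetherian a
  have hfin : (Submodule.generators a).Finite := Submodule.FG.finite_generators hfg
  haveI : Finite ↥(Submodule.generators a) := hfin.to_subtype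
  let v : ↥(Submodule.generators a) → R := Subtype.val
  have hva : Ideal.span (Set.range v) = a := by
    rw [Subtype.range_coe]; exact Submodule.span_generators a
  have hvb : ∀ i, v i ∈ b := fun i => hle (Submodule.FG.generators_mem a i.2)
  have hF := finite_of_reduction a b v hva hvb s hs
  have hdim1 : ringKrullDim (IdealRed.FibreCone R b) ≤
      ringKrullDim (MvPolynomial ↥(Submodule.generators a) R ⧸
        (Ideal.map MvPolynomial.C (maximalIdeal R) :
          Ideal (MvPolynomial ↥(Submodule.generators a) R))) := by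
    refine dim_le_of_finite_of_surjective (F := IdealRed.FibreCone R b)
      (psi b v hvb).toRingHom hF
      (Ideal.Quotient.mk (Ideal.map (algebraMap R (reesAlgebra b)) (maximalIdeal R)))
      Ideal.Quotient.mk_surjective _ ?_
    intro x hx
    have hle' : (Ideal.map MvPolynomial.C (maximalIdeal R) :
        Ideal (MvPolynomial ↥(Submodule.generators a) R)) ≤
        RingHom.ker ((Ideal.Quotient.mk (Ideal.map (algebraMap R (reesAlgebra b))
          (maximalIdeal R))).comp (psi b v hvb).toRingHom) := by
      rw [Ideal.map_le_iff_le_comap]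
      intro r hr
      rw [Ideal.mem_comap, RingHom.mem_ker]
      show Ideal.Quotient.mk _ ((psi b v hvb) (MvPolynomial.C r)) = 0
      rw [show (MvPolynomial.C r : MvPolynomial ↥(Submodule.generators a) R) =
        algebraMap R _ r from rfl, AlgHom.commutes]
      exact Ideal.Quotient.eq_zero_iff_mem.mpr (Ideal.mem_map_of_mem _ hr)
    exact hle' hx
  have hdim2 : ringKrullDim (MvPolynomial ↥(Submodule.generators a) R ⧸
      (Ideal.map MvPolynomial.C (maximalIdeal R) :
          Ideal (MvPolynomial ↥(Submodule.generators a) R))) =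
      ringKrullDim (MvPolynomial ↥(Submodule.generators a) (R ⧸ maximalIdeal R)) :=
    (ringKrullDim_eq_of_ringEquiv
      (MvPolynomial.quotientEquivQuotientMvPolynomial (maximalIdeal R)).toRingEquiv).symm
  have hdim3 : ringKrullDim (MvPolynomial ↥(Submodule.generators a) (R ⧸ maximalIdeal R)) =
      ringKrullDim (R ⧸ maximalIdeal R) + Nat.card ↥(Submodule.generators a) :=
    MvPolynomial.ringKrullDim_of_isNoetherianRing
  have hdim4 : ringKrullDim (R ⧸ maximalIdeal R) = 0 :=
    ringKrullDim_eq_zero_of_field (ResidueField R)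
  have hcard : Nat.card ↥(Submodule.generators a) = Submodule.spanFinrank a := by
    rw [Nat.card_coe_set_eq]; exact Submodule.FG.generators_ncard hfg
  unfold IdealRed.analyticSpread
  rw [hdim2, hdim3, hdim4, zero_add, hcard] at hdim1
  exact_mod_cast hdim1

/-! ### Lower bound from analytically independent elements -/

theorem prod_monomial (s : Finset ι) (e : ι → ℕ) (c : ι → R) :
    ∏ i ∈ s, (monomial (e i) (c i) : R[X]) = monomial (∑ i ∈ s, e i) (∏ i ∈ s, c i) := by
  classical
  induction s using Finset.induction_on with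
  | empty => simp
  | insert i s hi ih =>
    rw [Finset.prod_insert hi, Finset.sum_insert hi, Finset.prod_insert hi, ih,
      Polynomial.monomial_mul_monomial]

theorem aeval_monomial_monomial (v : ι → R) (u : ι →₀ ℕ) (a : R) :
    MvPolynomial.aeval (fun i => (monomial 1 (v i) : R[X])) (MvPolynomial.monomial u a) =
      monomial u.degree (a * u.prod (fun i k => v i ^ k)) := by
  classical
  simp only [MvPolynomial.aeval_monomial, Finsupp.prod, Polynomial.monomial_pow, one_mul]
  rw [prod_monomial, ← Polynomial.C_eq_algebraMap, Polynomial.C_mul_monomial]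
  rfl

theorem coeff_psi (b : Ideal R) (v : ι → R) (hv : ∀ i, v i ∈ b) (f : MvPolynomial ι R) (n : ℕ) :
    ((psi b v hv f : reesAlgebra b) : R[X]).coeff n =
      MvPolynomial.eval v (MvPolynomial.homogeneousComponent n f) := by
  classical
  have hval : ∀ f, ((psi b v hv f : reesAlgebra b) : R[X]) =
      MvPolynomial.aeval (fun i => (monomial 1 (v i) : R[X])) f := by
    intro f
    have : (reesAlgebra b).val.comp (psi b v hv) =
        MvPolynomial.aeval (fun i => (monomial 1 (v i) : R[X])) := by
      apply MvPolynomial.algHom_ext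
      intro i
      simp [psi]
    exact AlgHom.congr_fun this f
  rw [hval]
  induction f using MvPolynomial.induction_on' with
  | monomial u a =>
    rw [aeval_monomial_monomial, Polynomial.coeff_monomial,
      MvPolynomial.homogeneousComponent_of_mem ((MvPolynomial.mem_homogeneousSubmodule _ _).mpr
        (MvPolynomial.isHomogeneous_monomial a rfl))]
    by_cases h : u.degree = n
    · rw [if_pos h, if_pos h.symm, MvPolynomial.eval_monomial]
    · rw [if_neg h, if_neg (fun h' => h h'.symm), map_zero]
  | add p q hp hq =>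
    rw [map_add, Polynomial.coeff_add, hp, hq, map_add, map_add]

/-- A finitely generated algebra over a field containing a polynomial ring in `t` variables has
dimension at least `t`. -/
theorem natCast_le_ringKrullDim_of_injective (k F : Type u) [Field k] [CommRing F] [Algebra k F]
    [Algebra.FiniteType k F] (t : ℕ) (φ : MvPolynomial (Fin t) k →ₐ[k] F)
    (hφ : Function.Injective φ) : ((t : ℕ∞) : WithBot ℕ∞) ≤ ringKrullDim F := by
  classical
  let M : Submonoid F := Submonoid.map (φ : MvPolynomial (Fin t) k →* F)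
    (nonZeroDivisors (MvPolynomial (Fin t) k))
  have hdisj : Disjoint ((⊥ : Ideal F) : Set F) (M : Set F) := by
    rw [Set.disjoint_left]
    rintro x hx ⟨y, hy, rfl⟩
    have hx0 : φ y = 0 := by simpa using hx
    have : y = 0 := hφ (by rw [hx0, map_zero])
    exact (nonZeroDivisors.ne_zero hy) this
  obtain ⟨P, hP, -, hPM⟩ := Ideal.exists_le_prime_disjoint ⊥ M hdisj
  haveI := hP
  let φ' : MvPolynomial (Fin t) k →ₐ[k] F ⧸ P := (Ideal.Quotient.mkₐ k P).comp φ
  have hφ' : Function.Injective φ' := by
    rw [injective_iff_map_eq_zero]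
    intro x hx
    by_contra hne
    have h1 : φ x ∈ P := by
      have : Ideal.Quotient.mk P (φ x) = 0 := hx
      exact Ideal.Quotient.eq_zero_iff_mem.mp this
    have h2 : φ x ∈ (M : Set F) := ⟨x, mem_nonZeroDivisors_of_ne_zero hne, rfl⟩
    exact Set.disjoint_left.mp hPM h1 h2
  have hind : AlgebraicIndependent k (fun i : Fin t => φ' (MvPolynomial.X i)) := by
    rw [algebraicIndependent_iff_injective_aeval]
    have : (MvPolynomial.aeval (fun i : Fin t => φ' (MvPolynomial.X i))) = φ' := by
      apply MvPolynomial.algHom_ext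
      intro i; simp
    rw [this]; exact hφ'
  haveI : Algebra.FiniteType k (F ⧸ P) :=
    Algebra.FiniteType.of_surjective (Ideal.Quotient.mkₐ k P) (Ideal.Quotient.mkₐ_surjective k P)
  obtain ⟨n, -, hn, hdim, -⟩ := Groth.Agent.DimFTH8.exists_dim_eq k (F ⧸ P)
  have hcard := hind.lift_cardinalMk_le_trdeg
  rw [hn] at hcard
  have htn : t ≤ n := by simpa using hcard
  have h1 : ((t : ℕ) : WithBot ℕ∞) ≤ ringKrullDim (F ⧸ P) := by
    rw [hdim]; exact_mod_cast htn
  have h2 : ringKrullDim (F ⧸ P) ≤ ringKrullDim F := ringKrullDim_quotient_le P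
  exact_mod_cast h1.trans h2

/-- abstract lower bound -/
theorem natCast_le_ringKrullDim_of_forall [IsLocalRing R] {B F : Type u} [CommRing B]
    [Algebra R B] [Algebra.FiniteType R B] [CommRing F] (q : B →+* F)
    (hq : Function.Surjective q)
    (hker : ∀ r ∈ maximalIdeal R, q (algebraMap R B r) = 0) (t : ℕ)
    (ψ : MvPolynomial (Fin t) R →ₐ[R] B)
    (hinj : ∀ f : MvPolynomial (Fin t) R, q (ψ f) = 0 → ∀ d, f.coeff d ∈ maximalIdeal R) :
    ((t : ℕ∞) : WithBot ℕ∞) ≤ ringKrullDim F := by
  classical
  letI algRF : Algebra R F := (q.comp (algebraMap R B)).toAlgebra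
  let k2F : ResidueField R →+* F :=
    Ideal.Quotient.lift (maximalIdeal R) (q.comp (algebraMap R B)) hker
  letI algkF : Algebra (ResidueField R) F := k2F.toAlgebra
  haveI : IsScalarTower R (ResidueField R) F := IsScalarTower.of_algebraMap_eq (fun r => rfl)
  let qa : B →ₐ[R] F := { q with commutes' := fun r => rfl }
  haveI h2 : Algebra.FiniteType R F := Algebra.FiniteType.of_surjective qa hq
  haveI h3 : Algebra.FiniteType (ResidueField R) F :=
    Algebra.FiniteType.of_restrictScalars_finiteType R (ResidueField R) F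
  let φ : MvPolynomial (Fin t) (ResidueField R) →ₐ[ResidueField R] F :=
    MvPolynomial.aeval (fun i => q (ψ (MvPolynomial.X i)))
  have hcomp : ∀ f : MvPolynomial (Fin t) R,
      φ (MvPolynomial.map (residue R) f) = q (ψ f) := by
    intro f
    have : (φ : MvPolynomial (Fin t) (ResidueField R) →+* F).comp
        (MvPolynomial.map (residue R)) = q.comp ψ.toRingHom := by
      apply MvPolynomial.ringHom_ext
      · intro r
        show φ (MvPolynomial.map (residue R) (MvPolynomial.C r)) = q (ψ (MvPolynomial.C r))
        rw [MvPolynomial.map_C, show (MvPolynomial.C r : MvPolynomial (Fin t) R) =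
          algebraMap R _ r from rfl, AlgHom.commutes]
        show MvPolynomial.aeval _ (MvPolynomial.C (residue R r)) = _
        rw [MvPolynomial.aeval_C]
        rfl
      · intro i
        show φ (MvPolynomial.map (residue R) (MvPolynomial.X i)) = q (ψ (MvPolynomial.X i))
        rw [MvPolynomial.map_X]
        show MvPolynomial.aeval _ (MvPolynomial.X i) = _
        rw [MvPolynomial.aeval_X]
    exact RingHom.congr_fun this f
  have hinj' : Function.Injective φ := by
    rw [injective_iff_map_eq_zero]
    intro g hg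
    obtain ⟨f, rfl⟩ := MvPolynomial.map_surjective (residue R) residue_surjective g
    rw [hcomp] at hg
    have hall := hinj f hg
    ext d
    rw [MvPolynomial.coeff_map, MvPolynomial.coeff_zero]
    exact (residue_eq_zero_iff _).mpr (hall d)
  exact natCast_le_ringKrullDim_of_injective (ResidueField R) F t φ hinj'

/-- Analytically independent elements bound the analytic spread from below. -/
theorem le_analyticSpread [IsNoetherianRing R] [IsLocalRing R] (b : Ideal R) (t : ℕ)
    (v : Fin t → R) (hv : ∀ i, v i ∈ b)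
    (hind : ∀ (h : ℕ) (f : MvPolynomial (Fin t) R), f.IsHomogeneous h →
      MvPolynomial.eval v f ∈ b ^ h * maximalIdeal R →
        ∀ d : Fin t →₀ ℕ, f.coeff d ∈ maximalIdeal R) :
    ((t : ℕ∞) : WithBot ℕ∞) ≤ IdealRed.analyticSpread R b := by
  classical
  refine natCast_le_ringKrullDim_of_forall (B := reesAlgebra b) (F := IdealRed.FibreCone R b)
    (Ideal.Quotient.mk (Ideal.map (algebraMap R (reesAlgebra b)) (maximalIdeal R)))
    Ideal.Quotient.mk_surjective ?_ t (psi b v hv) ?_
  · intro r hr
    exact Ideal.Quotient.eq_zero_iff_mem.mpr (Ideal.mem_map_of_mem _ hr)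
  · intro f hg
    have hmem : psi b v hv f ∈ Ideal.map (algebraMap R (reesAlgebra b)) (maximalIdeal R) :=
      Ideal.Quotient.eq_zero_iff_mem.mp hg
    have hcoef : ∀ n, MvPolynomial.eval v (MvPolynomial.homogeneousComponent n f) ∈
        b ^ n * maximalIdeal R := by
      intro n
      have := coeff_mem_of_mem_map (maximalIdeal R) b _ hmem n
      rw [coeff_psi, mul_comm (maximalIdeal R) (b ^ n)] at this
      exact this
    intro d
    have := hind d.degree (MvPolynomial.homogeneousComponent d.degree f)
      (MvPolynomial.homogeneousComponent_isHomogeneous _ _) (hcoef _) d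
    rwa [MvPolynomial.coeff_homogeneousComponent, if_pos rfl] at this

end Groth.Agent.FibreCone
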