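import Mathlib
import Groth.Agent.Lib.ComplReg_helper3

/-!
# Analytically unramified DVR localizations (helper3)
-/

set_option autoImplicit false

namespace Groth.Agent.Lib.AnUnramDVRH3

universe u

open IsLocalRing

section DVR

variable (S : Type u) [CommRing S] [IsNoetherianRing S] [IsLocalRing S]

/-- A Noetherian local ring whose maximal ideal is generated by a non-zero-divisor is a DVR. -/
theorem isDVR_of_maximalIdeal_eq_span (α : S) (hα : maximalIdeal S = Ideal.span {α})
    (hreg : IsSMulRegular S α) :
    ∃ _ : IsDomain S, IsDiscreteValuationRing S := by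
  have hpow : ∀ n, (maximalIdeal S) ^ n = Ideal.span {α ^ n} := fun n => by
    rw [hα, Ideal.span_singleton_pow]
  have hregpow : ∀ n, IsSMulRegular S (α ^ n) := fun n => hreg.pow n
  have hfact : ∀ x : S, x ≠ 0 → ∃ (n : ℕ) (u : S), IsUnit u ∧ x = u * α ^ n := by
    intro x hx
    have hex : ∃ n, x ∉ (maximalIdeal S) ^ n := by
      by_contra hcon
      push_neg at hcon
      have : x ∈ (⨅ n, (maximalIdeal S) ^ n : Ideal S) := (Submodule.mem_iInf _).2 hcon
      rw [Ideal.iInf_pow_eq_bot_of_isLocalRing _ (Ideal.IsPrime.ne_top inferInstance)] at this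
      exact hx this
    classical
    have hn0 : Nat.find hex ≠ 0 := by
      intro h0
      have := Nat.find_spec hex
      rw [h0, pow_zero, Ideal.one_eq_top] at this
      exact this trivial
    obtain ⟨n, hn⟩ := Nat.exists_eq_succ_of_ne_zero hn0
    have h1 : x ∈ (maximalIdeal S) ^ n := by
      by_contra hcon
      exact Nat.find_min hex (by rw [hn]; exact Nat.lt_succ_self n) hcon
    have h2 : x ∉ (maximalIdeal S) ^ (n + 1) := by
      have := Nat.find_spec hex
      rwa [hn] at this
    rw [hpow, Ideal.mem_span_singleton'] at h1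
    obtain ⟨u, hu⟩ := h1
    refine ⟨n, u, ?_, hu.symm⟩
    by_contra hnu
    have hum : u ∈ maximalIdeal S := (mem_maximalIdeal u).2 hnu
    rw [hα, Ideal.mem_span_singleton'] at hum
    obtain ⟨v, hv⟩ := hum
    apply h2
    rw [hpow, Ideal.mem_span_singleton']
    exact ⟨v, by rw [← hu, ← hv, pow_succ]; ring⟩
  haveI : NoZeroDivisors S := ⟨fun {x y} hxy => by
    by_contra hcon
    push_neg at hcon
    obtain ⟨n, u, hu, rfl⟩ := hfact x hcon.1
    obtain ⟨m, v, hv, rfl⟩ := hfact y hcon.2
    have h1 : (u * v) * α ^ (n + m) = 0 := by rw [← hxy, pow_add]; ring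
    have h2 : α ^ (n + m) = 0 := ((hu.mul hv).mul_right_eq_zero).1 h1
    have h3 := hregpow (n + m) (show α ^ (n + m) • (1 : S) = α ^ (n + m) • (0 : S) by
      rw [h2, zero_smul, zero_smul])
    exact one_ne_zero h3⟩
  haveI : IsDomain S := NoZeroDivisors.to_isDomain S
  have hα0 : α ≠ 0 := by
    rintro rfl
    have := hreg (show (0 : S) • (1 : S) = (0 : S) • (0 : S) by simp)
    exact one_ne_zero this
  have hnf : ¬ IsField S := by
    rw [IsLocalRing.isField_iff_maximalIdeal_eq, hα]
    intro h
    exact hα0 (Ideal.span_singleton_eq_bot.1 h)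
  refine ⟨inferInstance, ((IsDiscreteValuationRing.TFAE S hnf).out 0 4).2 ?_⟩
  exact ⟨⟨α, hα⟩⟩

end DVR

section Main

variable (R : Type u) [CommRing R] [IsLocalRing R] [IsNoetherianRing R] (p : Ideal R) [p.IsPrime]

local notation "Rh" => AdicCompletion (maximalIdeal R) R

/-- flatness: `s ∉ p`, `s x ∈ p Rh` ⇒ `x ∈ p Rh`. -/
theorem mem_of_mul_mem (s : R) (hs : s ∉ p) (x : Rh)
    (hx : algebraMap R Rh s * x ∈ p.map (algebraMap R Rh)) : x ∈ p.map (algebraMap R Rh) := by
  haveI : Module.Flat R Rh := AdicCompletion.flat_of_isNoetherian _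
  haveI : IsDomain (R ⧸ p) := (Ideal.Quotient.isDomain_iff_prime p).2 inferInstance
  let μ : (R ⧸ p) →ₗ[R] (R ⧸ p) := LinearMap.lsmul R (R ⧸ p) s
  have hμ : Function.Injective μ := by
    rw [injective_iff_map_eq_zero]
    intro y hy
    obtain ⟨r, rfl⟩ := Ideal.Quotient.mk_surjective y
    have : Ideal.Quotient.mk p (s * r) = 0 := hy
    rw [Ideal.Quotient.eq_zero_iff_mem] at this ⊢
    exact (Ideal.IsPrime.mem_or_mem inferInstance this).resolve_left hs
  have hinj : Function.Injective (μ.lTensor Rh) :=
    Module.Flat.lTensor_preserves_injective_linearMap μ hμ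
  have hsm : ∀ t : TensorProduct R Rh (R ⧸ p), μ.lTensor Rh t = s • t := by
    intro t
    induction t using TensorProduct.induction_on with
    | zero => simp
    | tmul a b => simp [μ, TensorProduct.tmul_smul]
    | add a b ha hb => rw [map_add, ha, hb, smul_add]
  let e := TensorProduct.tensorQuotEquivQuotSMul Rh p
  have hx' : s • x ∈ (p • ⊤ : Submodule R Rh) := by
    rw [Ideal.smul_top_eq_map, Submodule.restrictScalars_mem, Algebra.smul_def]
    exact hx
  have h0 : s • e.symm (Submodule.Quotient.mk x) = 0 := by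
    rw [← map_smul, ← Submodule.Quotient.mk_smul, (Submodule.Quotient.mk_eq_zero _).2 hx', map_zero]
  rw [← hsm, ← map_zero (μ.lTensor Rh)] at h0
  have h1 := hinj h0
  rw [LinearEquiv.map_eq_zero_iff, Submodule.Quotient.mk_eq_zero, Ideal.smul_top_eq_map,
    Submodule.restrictScalars_mem] at h1
  exact h1

theorem main [IsDomain (Localization.AtPrime p)] [IsDiscreteValuationRing (Localization.AtPrime p)]
    (hp : IsReduced (Rh ⧸ p.map (algebraMap R Rh))) (q : Ideal Rh) [q.IsPrime]
    (hq : q ∈ associatedPrimes Rh (Rh ⧸ p.map (algebraMap R Rh))) :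
    ∃ _ : IsDomain (Localization.AtPrime q), IsDiscreteValuationRing (Localization.AtPrime q) := by
  haveI : IsNoetherianRing Rh := Groth.Agent.Lib.ComplRegH3.isNoetherianRing_adicCompletion R _
  obtain ⟨P, hP⟩ : ∃ P : Ideal Rh, P = p.map (algebraMap R Rh) := ⟨_, rfl⟩
  rw [← hP] at hp hq
  obtain ⟨-, xb, hxb⟩ := (isAssociatedPrime_iff).1 hq
  obtain ⟨x, rfl⟩ := Ideal.Quotient.mk_surjective xb
  have hxq : ∀ y, y ∈ q ↔ y * x ∈ P := by
    intro y
    rw [hxb, Submodule.mem_colon_singleton, Submodule.mem_bot, ← Ideal.Quotient.eq_zero_iff_mem,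
      map_mul]
    rfl
  have hPq : P ≤ q := fun y hy => (hxq y).2 (P.mul_mem_right x hy)
  have hxnq : x ∉ q := by
    intro hx
    have h1 : x * x ∈ P := (hxq x).1 hx
    have h2 : x ∈ P := by
      have : (Ideal.Quotient.mk P x) ^ 2 = 0 := by
        rw [sq, ← map_mul]; exact Ideal.Quotient.eq_zero_iff_mem.2 h1
      exact Ideal.Quotient.eq_zero_iff_mem.1 ((pow_eq_zero_iff two_ne_zero).1 this)
    have : q = ⊤ := by
      rw [Ideal.eq_top_iff_one, hxq, one_mul]; exact h2
    exact (Ideal.IsPrime.ne_top inferInstance) this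
  have hsq : ∀ s : R, s ∉ p → algebraMap R Rh s ∉ q := by
    intro s hs hsq'
    have h1 := (hxq _).1 hsq'
    rw [hP] at h1
    have hxP := mem_of_mul_mem R p s hs x h1
    rw [← hP] at hxP
    exact hxnq (hPq hxP)
  let g : R →+* Localization.AtPrime q :=
    (algebraMap Rh (Localization.AtPrime q)).comp (algebraMap R Rh)
  have hg : ∀ s : p.primeCompl, IsUnit (g s) := fun s =>
    (IsLocalization.AtPrime.isUnit_to_map_iff (Localization.AtPrime q) q _).2 (hsq s.1 s.2)
  let ψ : Localization.AtPrime p →+* Localization.AtPrime q := IsLocalization.lift hg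
  letI : Algebra (Localization.AtPrime p) (Localization.AtPrime q) := ψ.toAlgebra
  haveI : IsScalarTower R (Localization.AtPrime p) (Localization.AtPrime q) :=
    IsScalarTower.of_algebraMap_eq fun r => by
      rw [IsScalarTower.algebraMap_apply R Rh (Localization.AtPrime q)]
      exact (IsLocalization.lift_eq hg r).symm
  haveI : Module.Flat R Rh := AdicCompletion.flat_of_isNoetherian _
  haveI : Module.Flat R (Localization.AtPrime q) := inferInstance
  haveI : Module.Flat (Localization.AtPrime p) (Localization.AtPrime q) :=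
    (Module.flat_iff_of_isLocalization (Localization.AtPrime p) p.primeCompl
      (Localization.AtPrime q)).2 inferInstance
  obtain ⟨ϖ, hϖ⟩ := IsDiscreteValuationRing.exists_irreducible (Localization.AtPrime p)
  have hmax : maximalIdeal (Localization.AtPrime p) = Ideal.span {ϖ} := hϖ.maximalIdeal_eq
  obtain ⟨a, s, rfl⟩ := IsLocalization.exists_mk'_eq p.primeCompl ϖ
  have h1 : algebraMap R (Localization.AtPrime p) a =
      IsLocalization.mk' (Localization.AtPrime p) a s *
        algebraMap R (Localization.AtPrime p) (s : R) := (IsLocalization.mk'_spec _ _ _).symm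
  have hsu : IsUnit (algebraMap R (Localization.AtPrime p) (s : R)) :=
    IsLocalization.map_units _ s
  have hmax' : maximalIdeal (Localization.AtPrime p) =
      Ideal.span {algebraMap R (Localization.AtPrime p) a} := by
    rw [hmax, h1, Ideal.span_singleton_mul_right_unit hsu]
  have ha0 : algebraMap R (Localization.AtPrime p) a ≠ 0 := by
    rw [h1]; exact mul_ne_zero hϖ.ne_zero hsu.ne_zero
  have hap : a ∈ p := by
    have : algebraMap R (Localization.AtPrime p) a ∈ maximalIdeal (Localization.AtPrime p) := by
      rw [hmax']; exact Ideal.mem_span_singleton_self _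
    exact (IsLocalization.AtPrime.to_map_mem_maximal_iff (Localization.AtPrime p) p a).1 this
  obtain ⟨α, hα⟩ : ∃ α : Localization.AtPrime q,
      α = algebraMap Rh (Localization.AtPrime q) (algebraMap R Rh a) := ⟨_, rfl⟩
  have hαψ : ψ (algebraMap R (Localization.AtPrime p) a) = α := by
    rw [hα]; exact IsLocalization.lift_eq hg a
  have hreg : IsSMulRegular (Localization.AtPrime q) α := by
    have h0 : IsSMulRegular (Localization.AtPrime p) (algebraMap R (Localization.AtPrime p) a) :=
      (isRegular_of_ne_zero ha0).isSMulRegular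
    have := IsSMulRegular.of_flat (S := Localization.AtPrime q) h0
    rwa [show algebraMap (Localization.AtPrime p) (Localization.AtPrime q)
      (algebraMap R (Localization.AtPrime p) a) = α from hαψ] at this
  have hcomp : (algebraMap Rh (Localization.AtPrime q)).comp (algebraMap R Rh) =
      ψ.comp (algebraMap R (Localization.AtPrime p)) := by
    refine RingHom.ext fun r => ?_
    show g r = ψ (algebraMap R (Localization.AtPrime p) r)
    exact (IsLocalization.lift_eq hg r).symm
  have hPα : P.map (algebraMap Rh (Localization.AtPrime q)) ≤ Ideal.span {α} := by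
    rw [hP, Ideal.map_map, hcomp, ← Ideal.map_map, Localization.AtPrime.map_eq_maximalIdeal,
      hmax', Ideal.map_span, Set.image_singleton, hαψ]
  have hmaxq : maximalIdeal (Localization.AtPrime q) = Ideal.span {α} := by
    rw [← Localization.AtPrime.map_eq_maximalIdeal]
    apply le_antisymm
    · rw [Ideal.map_le_iff_le_comap]
      intro y hy
      rw [Ideal.mem_comap]
      have hyx : y * x ∈ P := (hxq y).1 hy
      have h2 : algebraMap Rh (Localization.AtPrime q) (y * x) ∈ Ideal.span {α} :=
        hPα (Ideal.mem_map_of_mem _ hyx)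
      have hxu : IsUnit (algebraMap Rh (Localization.AtPrime q) x) :=
        (IsLocalization.AtPrime.isUnit_to_map_iff _ q x).2 hxnq
      rw [map_mul] at h2
      obtain ⟨u, hu⟩ := hxu
      have : algebraMap Rh (Localization.AtPrime q) y =
          (algebraMap Rh (Localization.AtPrime q) y * algebraMap Rh (Localization.AtPrime q) x) *
            ↑u⁻¹ := by
        rw [← hu]; simp [mul_assoc]
      rw [this]; exact Ideal.mul_mem_right _ _ h2
    · rw [Ideal.span_le, Set.singleton_subset_iff, hα]
      refine Ideal.mem_map_of_mem _ (hPq ?_)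
      rw [hP]; exact Ideal.mem_map_of_mem _ hap
  haveI : IsNoetherianRing (Localization.AtPrime q) :=
    IsLocalization.isNoetherianRing q.primeCompl _ inferInstance
  exact isDVR_of_maximalIdeal_eq_span _ α hmaxq hreg

end Main

end Groth.Agent.Lib.AnUnramDVRH3
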