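import Mathlib.LinearAlgebra.QuadraticForm.Basic
import Mathlib.RingTheory.Nilpotent.Defs
import Mathlib.Tactic.LinearCombination
import Mathlib.Tactic.Ring

/-!
# Unipotent isometries of anisotropic quadratic forms are trivial (helper2)
-/

set_option autoImplicit false
universe u v

namespace Groth.Agent.Lib.AnisotropicUnipotent

/-- If `2 ≠ 0`, `q` is anisotropic, `f` preserves `q` and `f - 1` is nilpotent then `f = 1`. -/
theorem eq_one_of_isNilpotent_sub_one {K : Type u} [Field K] (h2 : (2:K) ≠ 0)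
    {V : Type v} [AddCommGroup V] [Module K V]
    (q : QuadraticForm K V) (hq : q.Anisotropic) (f : Module.End K V)
    (hf : ∀ x, q (f x) = q x) (hnil : IsNilpotent (f - 1)) : f = 1 := by
  classical
  by_contra hne
  have hN : f - 1 ≠ 0 := fun h => hne (sub_eq_zero.mp h)
  obtain ⟨n₀, hn₀, hmin⟩ : ∃ n₀, (f - 1) ^ n₀ = 0 ∧ ∀ k < n₀, (f - 1) ^ k ≠ 0 :=
    ⟨Nat.find hnil, Nat.find_spec hnil, fun k hk => Nat.find_min hnil hk⟩
  rcases n₀ with _ | _ | n
  · rw [pow_zero] at hn₀
    apply hN
    calc f - 1 = (f - 1) * 1 := (mul_one _).symm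
      _ = 0 := by rw [hn₀, mul_zero]
  · rw [zero_add, pow_one] at hn₀
    exact hN hn₀
  · have h1 : (f - 1) ^ (n + 1) ≠ 0 := hmin (n + 1) (by omega)
    obtain ⟨u, hu⟩ : ∃ u, ((f - 1) ^ (n + 1)) u ≠ 0 := by
      by_contra hall
      push Not at hall
      exact h1 (LinearMap.ext hall)
    obtain ⟨v, hv⟩ : ∃ v, v = ((f - 1) ^ n) u := ⟨_, rfl⟩
    obtain ⟨w, hw⟩ : ∃ w, w = (f - 1) v := ⟨_, rfl⟩
    have hw1 : w = ((f - 1) ^ (n + 1)) u := by
      rw [hw, hv, pow_succ', Module.End.mul_apply]
    have hw0 : w ≠ 0 := by rw [hw1]; exact hu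
    have hNw : (f - 1) w = 0 := by
      rw [hw1, ← Module.End.mul_apply, ← pow_succ', hn₀]
      rfl
    have hfv : f v = v + w := by
      rw [hw, LinearMap.sub_apply, Module.End.one_apply]
      abel
    have hfw : f w = w := by
      rw [LinearMap.sub_apply, Module.End.one_apply] at hNw
      exact sub_eq_zero.mp hNw
    have hfvw : f (v + w) = v + w + w := by rw [map_add, hfv, hfw]
    have e1 : q (v + w) = q v := by rw [← hfv, hf]
    have e2 : q (v + w + w) = q v := by rw [← hfvw, hf, e1]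
    have e3 : q (w + w) = 4 * q w := by
      rw [← two_smul K w, QuadraticMap.map_smul, smul_eq_mul]
      ring
    have e5 : q (w + v) = q v := by rw [add_comm, e1]
    have e4 := QuadraticMap.map_add_add_add_map q v w w
    rw [e2, e1, e3, e5] at e4
    have e6 : (2:K) * q w = 0 := by linear_combination -e4
    have e7 : q w = 0 := (mul_eq_zero.mp e6).resolve_left h2
    exact hw0 (hq w e7)

end Groth.Agent.Lib.AnisotropicUnipotent
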