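import Mathlib
import Groth.Prelude.Def_DRing3

/-!
# Annihilation dévissage in `D(A)` (helper1)

* `KillsH f Y a`: `f` kills `H^j(Y)` for all `j ≤ a`;
* `pow_smul_hom_eq_zero`: if `X ∈ D^{≤ a}`, `Y ∈ D^{≥ b}` and `f` kills `H^j(Y)` for `j ≤ a`, then
  `f ^ N` kills `Hom(X, Y)` as soon as `a - b + 1 ≤ N`;
* `smul_eq_zero_of_shift`: reduction of `Hom(X, K⟦i⟧)` to `Hom(X⟦-i⟧, K)`.
-/

set_option autoImplicit false
universe u
open CategoryTheory CategoryTheory.Limits CategoryTheory.Pretriangulated DerivedCategory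

attribute [local instance] HasDerivedCategory.standard

namespace Groth.Agent.Lib.AnnH1

variable {A : Type u} [CommRing A]

lemma eq_zero_of_iso_hom {M N : ModuleCat.{u} A} (e : M ≅ N) (x : M) (h : e.hom.hom x = 0) :
    x = 0 := by
  have h2 := congrArg e.inv.hom h
  have h3 : e.inv.hom (e.hom.hom x) = x := congrArg (fun t => t.hom x) e.hom_inv_id
  rw [h3, map_zero] at h2
  exact h2

/-- `f` kills `H^j(Y)` for all `j ≤ a` -/
def KillsH (f : A) (Y : Dual.D A) (a : ℤ) : Prop :=
  ∀ j : ℤ, j ≤ a → ∀ x : Dual.HD A Y j, f • x = 0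

lemma smul_id_single_eq_zero (f : A) (b : ℤ) (H : ModuleCat.{u} A) (hH : ∀ x : H, f • x = 0) :
    f • 𝟙 ((DerivedCategory.singleFunctor (ModuleCat.{u} A) b).obj H) = 0 := by
  have h0 : f • 𝟙 H = 0 := by
    ext x
    exact hH x
  have h1 := Functor.map_smul (DerivedCategory.singleFunctor (ModuleCat.{u} A) b) f (𝟙 H)
  rw [h0, Functor.map_zero, CategoryTheory.Functor.map_id] at h1
  exact h1.symm

lemma smul_id_eq_zero_of_isGE_of_isLE (f : A) (b : ℤ) (Z : Dual.D A)
    (hGE : DerivedCategory.IsGE Z b) (hLE : DerivedCategory.IsLE Z b)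
    (hZ : ∀ x : Dual.HD A Z b, f • x = 0) : f • 𝟙 Z = 0 := by
  obtain ⟨H, ⟨e⟩⟩ := DerivedCategory.exists_iso_singleFunctor_obj_of_isGE_of_isLE Z b
  let ι : H ≅ (homologyFunctor (ModuleCat.{u} A) b).obj Z :=
    ((singleFunctorCompHomologyFunctorIso (ModuleCat.{u} A) b).app H).symm ≪≫
      (homologyFunctor (ModuleCat.{u} A) b).mapIso e.symm
  have hH : ∀ x : H, f • x = 0 := by
    intro x
    apply eq_zero_of_iso_hom ι
    rw [map_smul]
    exact hZ _
  have h1 := smul_id_single_eq_zero f b H hH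
  have h2 : f • 𝟙 Z = e.hom ≫ (f • 𝟙 _) ≫ e.inv := by
    rw [Linear.smul_comp, Linear.comp_smul, Category.id_comp, Iso.hom_inv_id]
  rw [h2, h1, zero_comp, comp_zero]


/-- **dévissage**: if `X ∈ D^{≤ a}`, `Y ∈ D^{≥ b}` and `f` kills `H^j(Y)` for all `j ≤ a`, then
`f ^ N` kills `Hom(X, Y)` for `N ≥ a - b + 1`. -/
theorem pow_smul_hom_eq_zero (f : A) (a : ℤ) : ∀ (N : ℕ) (b : ℤ) (X Y : Dual.D A),
    a - b + 1 ≤ (N : ℤ) → DerivedCategory.IsLE X a → DerivedCategory.IsGE Y b → KillsH f Y a →
    ∀ φ : X ⟶ Y, f ^ N • φ = 0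
  | 0, b, X, Y, hN, hX, hY, _, φ => by
    have hab : a < b := by
      have : a - b + 1 ≤ 0 := by exact_mod_cast hN
      omega
    rw [DerivedCategory.TStructure.t.zero_of_isLE_of_isGE φ a b hab hX hY, smul_zero]
  | N + 1, b, X, Y, hN, hX, hY, hK, φ => by
    by_cases hab : a < b
    · rw [DerivedCategory.TStructure.t.zero_of_isLE_of_isGE φ a b hab hX hY, smul_zero]
    · have hba : b ≤ a := not_lt.1 hab
      obtain ⟨X', Y'', hX', hY'', i, p, δ, hT⟩ :=
        DerivedCategory.TStructure.t.exists_triangle Y b (b + 1) rfl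
      haveI hX'le : DerivedCategory.IsLE X' b := ⟨hX'⟩
      haveI hY''ge : DerivedCategory.IsGE Y'' (b + 1) := ⟨hY''⟩
      haveI := hY
      -- the cohomology of `Y''` is killed by `f` in degrees `≤ a`
      have hK'' : KillsH f Y'' a := by
        intro j hj x
        by_cases hjb : j < b + 1
        · have hz : IsZero ((homologyFunctor (ModuleCat.{u} A) j).obj Y'') :=
            DerivedCategory.isZero_of_isGE Y'' (b + 1) j hjb
          haveI := ModuleCat.subsingleton_of_isZero hz
          exact Subsingleton.elim _ _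
        · have hδ : DerivedCategory.HomologySequence.δ (Triangle.mk i p δ) j (j + 1) rfl = 0 := by
            apply IsZero.eq_of_tgt
            exact DerivedCategory.isZero_of_isLE X' b (j + 1) (by omega)
          have hepi : Epi ((homologyFunctor (ModuleCat.{u} A) j).map p) :=
            (DerivedCategory.HomologySequence.epi_homologyMap_mor₂_iff _ hT j (j + 1) rfl).2 hδ
          obtain ⟨y, rfl⟩ := (ModuleCat.epi_iff_surjective _).1 hepi x
          rw [← map_smul, hK j hj y, map_zero]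
      have hN' : a - (b + 1) + 1 ≤ (N : ℤ) := by
        have : a - b + 1 ≤ (N : ℤ) + 1 := by exact_mod_cast hN
        omega
      have hIH := pow_smul_hom_eq_zero f a N (b + 1) X Y'' hN' hX hY''ge hK'' (φ ≫ p)
      have h1 : (f ^ N • φ) ≫ p = 0 := by
        rw [Linear.smul_comp]
        exact hIH
      obtain ⟨ψ, hψ⟩ : ∃ ψ : X ⟶ X', f ^ N • φ = ψ ≫ i :=
        Triangle.coyoneda_exact₂ _ hT (f ^ N • φ) h1
      -- `X'` is concentrated in degree `b` and killed by `f`
      have hX'ge : DerivedCategory.IsGE X' b := by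
        rw [DerivedCategory.isGE_iff]
        intro j hj
        have hex := DerivedCategory.HomologySequence.exact₁ _ hT (j - 1) j (by omega)
        apply hex.isZero_of_both_isZero
        · exact DerivedCategory.isZero_of_isGE Y'' (b + 1) (j - 1) (by omega)
        · exact DerivedCategory.isZero_of_isGE Y b j hj
      have hkill : ∀ x : Dual.HD A X' b, f • x = 0 := by
        intro x
        have hδ : DerivedCategory.HomologySequence.δ (Triangle.mk i p δ) (b - 1) b (by omega) =
            0 := by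
          apply IsZero.eq_of_src
          exact DerivedCategory.isZero_of_isGE Y'' (b + 1) (b - 1) (by omega)
        have hmono : Mono ((homologyFunctor (ModuleCat.{u} A) b).map i) :=
          (DerivedCategory.HomologySequence.mono_homologyMap_mor₁_iff _ hT (b - 1) b
            (by omega)).2 hδ
        apply (ModuleCat.mono_iff_injective _).1 hmono
        rw [map_smul, map_zero]
        exact hK b hba _
      have h2 := smul_id_eq_zero_of_isGE_of_isLE f b X' hX'ge hX'le hkill
      have h3 : f ^ (N + 1) • φ = ψ ≫ (f • 𝟙 X') ≫ i := by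
        rw [pow_succ', mul_smul, hψ, Linear.smul_comp, Linear.comp_smul, Category.id_comp]
      rw [h3, h2, zero_comp, comp_zero]

/-- reduction of `Hom(X, K⟦i⟧)` to `Hom(X⟦-i⟧, K)` -/
lemma smul_eq_zero_of_shift (F : A) (X K : Dual.D A) (i : ℤ)
    (h : ∀ ψ : X⟦-i⟧ ⟶ K, F • ψ = 0) (φ : X ⟶ K⟦i⟧) : F • φ = 0 := by
  have h1 := h (φ⟦-i⟧' ≫ (shiftFunctorCompIsoId (Dual.D A) i (-i) (add_neg_cancel i)).hom.app K)
  rw [← Linear.smul_comp] at h1
  have h2 : F • (φ⟦-i⟧') = 0 := by
    have h3 := congrArg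
      (· ≫ (shiftFunctorCompIsoId (Dual.D A) i (-i) (add_neg_cancel i)).inv.app K) h1
    simpa using h3
  have h3 : (F • φ)⟦-i⟧' = 0 := by
    rw [Functor.map_smul]
    exact h2
  apply (shiftFunctor (Dual.D A) (-i)).map_injective
  rw [h3, Functor.map_zero]

end Groth.Agent.Lib.AnnH1
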