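import Mathlib
import Groth.Prelude.Def_DerCA

set_option autoImplicit false
universe u
open CategoryTheory CategoryTheory.Limits CochainComplex

namespace Groth.Agent.Lib.ExtCechOldH7

variable {R : Type u} [CommRing R]

theorem isZero_Q_cocone {K L : CochainComplex (ModuleCat.{u} R) ℤ} (φ : K ⟶ L)
    (h : IsIso ((HomotopyCategory.quotient (ModuleCat.{u} R) (ComplexShape.up ℤ)).map φ)) :
    IsZero ((HomotopyCategory.quotient (ModuleCat.{u} R) (ComplexShape.up ℤ)).obj
      (mappingCocone φ)) := by
  have hT := HomotopyCategory.mappingCone_triangleh_distinguished φ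
  have hz : IsZero ((HomotopyCategory.quotient (ModuleCat.{u} R) (ComplexShape.up ℤ)).obj
      (mappingCone φ)) :=
    (Pretriangulated.Triangle.isZero₃_iff_isIso₁ _ hT).mpr h
  have hz' := Functor.map_isZero
    (CategoryTheory.shiftFunctor (HomotopyCategory (ModuleCat.{u} R) (ComplexShape.up ℤ)) (-1 : ℤ)) hz
  exact IsZero.of_iso hz'
    (((HomotopyCategory.quotient (ModuleCat.{u} R) (ComplexShape.up ℤ)).commShiftIso
      (-1 : ℤ)).app (mappingCone φ))

theorem homotopy_of_isZero {K : CochainComplex (ModuleCat.{u} R) ℤ}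
    (h : IsZero ((HomotopyCategory.quotient (ModuleCat.{u} R) (ComplexShape.up ℤ)).obj K)) :
    Nonempty (Homotopy (𝟙 K) 0) :=
  ⟨HomotopyCategory.homotopyOfEq _ _ (h.eq_of_src _ _)⟩

theorem isZero_of_homotopy {K : CochainComplex (ModuleCat.{u} R) ℤ} (h : Homotopy (𝟙 K) 0) :
    IsZero ((HomotopyCategory.quotient (ModuleCat.{u} R) (ComplexShape.up ℤ)).obj K) := by
  rw [IsZero.iff_id_eq_zero, ← CategoryTheory.Functor.map_id,
    HomotopyCategory.eq_of_homotopy _ _ h, CategoryTheory.Functor.map_zero]

theorem mkLinearMap_bijective_of_isUnit (f : R) (hf : IsUnit f) (N : Type u) [AddCommGroup N]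
    [Module R N] :
    Function.Bijective (LocalizedModule.mkLinearMap (Submonoid.powers f) N) := by
  haveI : IsLocalization (Submonoid.powers f) R :=
    IsLocalization.of_le_isUnit (by
      rintro _ ⟨n, rfl⟩
      exact hf.pow n)
  haveI : IsLocalizedModule (Submonoid.powers f) (LinearMap.id : N →ₗ[R] N) :=
    isLocalizedModule_id (S := Submonoid.powers f) N R
  let e := IsLocalizedModule.linearEquiv (Submonoid.powers f) (LinearMap.id : N →ₗ[R] N)
    (LocalizedModule.mkLinearMap (Submonoid.powers f) N)
  have he : ∀ x, e x = LocalizedModule.mkLinearMap (Submonoid.powers f) N x := fun x =>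
    IsLocalizedModule.linearEquiv_apply (Submonoid.powers f) (LinearMap.id : N →ₗ[R] N) _ x
  have : (LocalizedModule.mkLinearMap (Submonoid.powers f) N : N → _) = e := by
    funext x; exact (he x).symm
  rw [this]
  exact e.bijective

theorem isIso_locCxUnit_of_isUnit (f : R) (hf : IsUnit f)
    (K : CochainComplex (ModuleCat.{u} R) ℤ) :
    IsIso (DerCA.locCxUnit (Submonoid.powers f) K) := by
  haveI : ∀ n, IsIso ((DerCA.locCxUnit (Submonoid.powers f) K).f n) := by
    intro n
    rw [ConcreteCategory.isIso_iff_bijective]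
    exact mkLinearMap_bijective_of_isUnit f hf (K.X n)
  exact HomologicalComplex.Hom.isIso_of_components _

theorem extCech_cons (M : ModuleCat.{u} R) (f : R) (fs : List R) :
    DerCA.extCech M (f :: fs) =
      mappingCocone (DerCA.locCxUnit (Submonoid.powers f) (DerCA.extCech M fs)) := rfl

theorem isZero_Q_extCech (M : ModuleCat.{u} R) :
    ∀ fs : List R, (∃ f ∈ fs, IsUnit f) →
      IsZero ((HomotopyCategory.quotient (ModuleCat.{u} R) (ComplexShape.up ℤ)).obj
        (DerCA.extCech M fs)) := by
  intro fs
  induction fs with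
  | nil => rintro ⟨f, hf, _⟩; simp at hf
  | cons g gs ih =>
    rintro ⟨f, hf, hu⟩
    rw [extCech_cons]
    apply isZero_Q_cocone
    rw [List.mem_cons] at hf
    rcases hf with rfl | hf
    · haveI := isIso_locCxUnit_of_isUnit f hu (DerCA.extCech M gs)
      infer_instance
    · have hK := ih ⟨f, hf, hu⟩
      obtain ⟨h⟩ := homotopy_of_isZero hK
      have hL : IsZero ((HomotopyCategory.quotient (ModuleCat.{u} R) (ComplexShape.up ℤ)).obj
          ((DerCA.locCx (Submonoid.powers g)).obj (DerCA.extCech M gs))) := by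
        apply isZero_of_homotopy
        have h' := (DerCA.locFunctor (Submonoid.powers g)).mapHomotopy h
        refine (Homotopy.ofEq ?_).trans (h'.trans (Homotopy.ofEq ?_))
        · exact (CategoryTheory.Functor.map_id _ _).symm
        · exact CategoryTheory.Functor.map_zero _ _ _
      exact ⟨⟨hL.to_ _, hK.eq_of_src _ _, hL.eq_of_src _ _⟩⟩

theorem S9263 (fs : List R) (hf : ∃ f ∈ fs, IsUnit f) (M : ModuleCat.{u} R) :
    Nonempty (Homotopy (𝟙 (DerCA.extCech M fs)) 0) :=
  homotopy_of_isZero (isZero_Q_extCech M fs hf)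

theorem isZero_X (M : ModuleCat.{u} R) :
    ∀ (fs : List R) (q : ℤ), (q < 0 ∨ (fs.length : ℤ) < q) →
      IsZero ((DerCA.extCech M fs).X q) := by
  intro fs
  induction fs with
  | nil =>
    intro q hq
    apply HomologicalComplex.isZero_single_obj_X
    rcases hq with hq | hq
    · omega
    · simp at hq; omega
  | cons g gs ih =>
    intro q hq
    rw [extCech_cons]
    have h1 : IsZero ((DerCA.extCech M gs).X q) := ih q (by
      rcases hq with hq | hq
      · exact Or.inl hq
      · right; simp at hq; omega)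
    have h2 : IsZero ((DerCA.extCech M gs).X (q + (-1))) := ih _ (by
      rcases hq with hq | hq
      · left; omega
      · right; simp at hq; omega)
    have h3 : IsZero (((DerCA.locCx (Submonoid.powers g)).obj (DerCA.extCech M gs)).X (q + (-1))) :=
      Functor.map_isZero (DerCA.locFunctor (Submonoid.powers g)) h2
    have key := (mappingCone.isZero_X_iff
      (DerCA.locCxUnit (Submonoid.powers g) (DerCA.extCech M gs)) (q + (-1))).mpr
      ⟨by rwa [show q + (-1) + 1 = q by omega], h3⟩
    exact key

theorem S9264 (fs : List R) (M : ModuleCat.{u} R) (q : ℤ)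
    (hq : q < 0 ∨ (fs.length : ℤ) < q) :
    IsZero ((DerCA.extCech M fs).homology q) := by
  have hX := isZero_X M fs q hq
  exact ShortComplex.isZero_homology_of_isZero_X₂ _ hX

end Groth.Agent.Lib.ExtCechOldH7
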