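import Mathlib
import Groth.Agent.Lib.DerProd_helper9

/-!
# Countable products of quasi-isomorphisms (helper7)

If countable products exist in an abelian category `B` and `lim : (Discrete ℕ ⥤ B) ⥤ B` preserves
epimorphisms, then a product of quasi-isomorphisms of cochain complexes is a quasi-isomorphism.
-/

set_option autoImplicit false
universe v u
open CategoryTheory Limits

namespace Groth.Agent.Lib.PiQis

variable {B : Type u} [Category.{v} B] [Abelian B]

/-- a family of complexes as a complex of functors on `Discrete ℕ` -/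
def fam (X : ℕ → CochainComplex B ℤ) : CochainComplex (Discrete ℕ ⥤ B) ℤ where
  X i := Discrete.functor fun n => (X n).X i
  d i j := Discrete.natTrans fun x => (X x.as).d i j
  shape i j h := by
    ext ⟨n⟩
    exact (X n).shape i j h
  d_comp_d' i j k _ _ := by
    ext ⟨n⟩
    exact (X n).d_comp_d i j k

/-- a family of morphisms of complexes as a morphism of complexes of functors -/
def famMap {X X' : ℕ → CochainComplex B ℤ} (s : ∀ n, X n ⟶ X' n) : fam X ⟶ fam X' where
  f i := Discrete.natTrans fun x => (s x.as).f i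
  comm' i j _ := by
    ext ⟨n⟩
    exact (s n).comm i j

lemma quasiIso_famMap {X X' : ℕ → CochainComplex B ℤ} (s : ∀ n, X n ⟶ X' n)
    (h : ∀ n, QuasiIso (s n)) : QuasiIso (famMap s) := by
  rw [HomologicalComplex.quasiIso_iff_evaluation]
  intro x
  exact h x.as

variable [HasProductsOfShape ℕ B]

instance additive_lim : (lim : (Discrete ℕ ⥤ B) ⥤ B).Additive where
  map_add {F G f g} := by
    apply limit.hom_ext
    intro j
    simp [Preadditive.add_comp, Preadditive.comp_add]

lemma preservesHomology_lim [(lim : (Discrete ℕ ⥤ B) ⥤ B).PreservesEpimorphisms] :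
    (lim : (Discrete ℕ ⥤ B) ⥤ B).PreservesHomology := by
  haveI : PreservesLimitsOfSize.{0, 0} (lim : (Discrete ℕ ⥤ B) ⥤ B) :=
    (constLimAdj (J := Discrete ℕ) (C := B)).rightAdjoint_preservesLimits
  exact Functor.preservesHomology_of_preservesEpis_and_kernels _

/-- the product complex is the image of the family under `lim` -/
noncomputable def limFamIso (X : ℕ → CochainComplex B ℤ) :
    ((lim : (Discrete ℕ ⥤ B) ⥤ B).mapHomologicalComplex (ComplexShape.up ℤ)).obj (fam X) ≅
      DerProd.pi X :=
  HomologicalComplex.Hom.isoOfComponents (fun i => Iso.refl _) (fun i j _ => by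
    refine (Category.id_comp _).trans (Eq.trans ?_ (Category.comp_id _).symm)
    rfl)

theorem quasiIso_lift [(lim : (Discrete ℕ ⥤ B) ⥤ B).PreservesEpimorphisms]
    (X X' : ℕ → CochainComplex B ℤ) (s : ∀ n, X n ⟶ X' n) (h : ∀ n, QuasiIso (s n)) :
    QuasiIso (DerProd.lift fun n => DerProd.π X n ≫ s n) := by
  haveI := quasiIso_famMap s h
  haveI : (lim : (Discrete ℕ ⥤ B) ⥤ B).PreservesHomology := preservesHomology_lim
  have e : DerProd.lift (fun n => DerProd.π X n ≫ s n) =
      (limFamIso X).inv ≫
        ((lim : (Discrete ℕ ⥤ B) ⥤ B).mapHomologicalComplex (ComplexShape.up ℤ)).map (famMap s) ≫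
          (limFamIso X').hom := by
    apply DerProd.hom_ext
    intro n
    rw [DerProd.lift_π]
    ext i
    show DerProd.πX X i n ≫ (s n).f i =
      (𝟙 _ ≫ limMap ((famMap s).f i) ≫ 𝟙 _) ≫ DerProd.πX X' i n
    rw [Category.id_comp, Category.comp_id]
    exact (limMap_π ((famMap s).f i) ⟨n⟩).symm
  rw [e]
  infer_instance

end Groth.Agent.Lib.PiQis
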