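import Mathlib
import Groth.Agent.Lib.PiQis_helper7

/-!
# Countable products in the derived category when countable products are exact (helper7)

If `B` has exact countable products then for an arbitrary family of complexes `X n` the product
complex `DerProd.pi X` represents the product of the `Q.obj (X n)` in `D(B)`.
-/

set_option autoImplicit false
universe w v u
open CategoryTheory Limits

namespace Groth.Agent.Lib.DerProdQ

open DerivedCategory

variable {B : Type u} [Category.{v} B] [Abelian B] [HasDerivedCategory.{w} B]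

lemma exists_postcomp_homotopy_zero {M X : CochainComplex B ℤ} (k : M ⟶ X)
    (hk : DerivedCategory.Q.map k = 0) :
    ∃ (X' : CochainComplex B ℤ) (u : X ⟶ X'), QuasiIso u ∧ Nonempty (Homotopy (k ≫ u) 0) := by
  have h1 : DerivedCategory.Qh.map ((HomotopyCategory.quotient B (ComplexShape.up ℤ)).map k) =
      DerivedCategory.Qh.map
        (0 : (HomotopyCategory.quotient B (ComplexShape.up ℤ)).obj M ⟶
          (HomotopyCategory.quotient B (ComplexShape.up ℤ)).obj X) := by
    rw [Functor.map_zero]
    exact hk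
  obtain ⟨Z, s, hs, fac⟩ := (MorphismProperty.map_eq_iff_postcomp DerivedCategory.Qh
    (HomotopyCategory.quasiIso B (ComplexShape.up ℤ)) _ _).1 h1
  obtain ⟨X', rfl⟩ := HomotopyCategory.quotient_obj_surjective Z
  obtain ⟨u, rfl⟩ := (HomotopyCategory.quotient _ _).map_surjective s
  rw [HomotopyCategory.quotient_map_mem_quasiIso_iff] at hs
  refine ⟨X', u, (HomologicalComplex.mem_quasiIso_iff _).1 hs,
    ⟨HomotopyCategory.homotopyOfEq _ _ ?_⟩⟩
  rw [Functor.map_comp, fac, zero_comp, Functor.map_zero]

variable [HasProductsOfShape ℕ B] [(lim : (Discrete ℕ ⥤ B) ⥤ B).PreservesEpimorphisms]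
  (X : ℕ → CochainComplex B ℤ)

lemma exists_lift (Y : DerivedCategory B) (f : ∀ n, Y ⟶ DerivedCategory.Q.obj (X n)) :
    ∃ φ : Y ⟶ DerivedCategory.Q.obj (DerProd.pi X),
      ∀ n, φ ≫ DerivedCategory.Q.map (DerProd.π X n) = f n := by
  let eM : DerivedCategory.Q.obj (DerivedCategory.Q.objPreimage Y) ≅ Y :=
    DerivedCategory.Q.objObjPreimageIso Y
  choose Y' g s hs hfac using fun n => DerivedCategory.left_fac (eM.hom ≫ f n)
  have hs' : ∀ n, QuasiIso (s n) := fun n =>
    (DerivedCategory.isIso_Q_map_iff_quasiIso B _).1 (hs n)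
  let S : DerProd.pi X ⟶ DerProd.pi Y' := DerProd.lift fun n => DerProd.π X n ≫ s n
  have hS : ∀ n, S ≫ DerProd.π Y' n = DerProd.π X n ≫ s n := fun n => DerProd.lift_π _ n
  haveI : QuasiIso S := PiQis.quasiIso_lift X Y' s hs'
  haveI : IsIso (DerivedCategory.Q.map S) :=
    (DerivedCategory.isIso_Q_map_iff_quasiIso B _).2 inferInstance
  refine ⟨eM.inv ≫ DerivedCategory.Q.map (DerProd.lift g) ≫ inv (DerivedCategory.Q.map S),
    fun n => ?_⟩
  haveI := hs n
  have h1 : inv (DerivedCategory.Q.map S) ≫ DerivedCategory.Q.map (DerProd.π X n) =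
      DerivedCategory.Q.map (DerProd.π Y' n) ≫ inv (DerivedCategory.Q.map (s n)) := by
    rw [IsIso.inv_comp_eq, ← Category.assoc, IsIso.eq_comp_inv, ← Functor.map_comp,
      ← Functor.map_comp, hS n]
  rw [Category.assoc, Category.assoc, h1, ← Category.assoc (DerivedCategory.Q.map _),
    ← Functor.map_comp, DerProd.lift_π, ← hfac n, Iso.inv_hom_id_assoc]

lemma eq_zero_of_comp (Y : DerivedCategory B) (φ : Y ⟶ DerivedCategory.Q.obj (DerProd.pi X))
    (hφ : ∀ n, φ ≫ DerivedCategory.Q.map (DerProd.π X n) = 0) : φ = 0 := by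
  let eM : DerivedCategory.Q.obj (DerivedCategory.Q.objPreimage Y) ≅ Y :=
    DerivedCategory.Q.objObjPreimageIso Y
  obtain ⟨M', s, hs, g, hfac⟩ := DerivedCategory.right_fac (eM.hom ≫ φ)
  haveI := hs
  have h0 : ∀ n, DerivedCategory.Q.map (g ≫ DerProd.π X n) = 0 := by
    intro n
    have hg : DerivedCategory.Q.map g = DerivedCategory.Q.map s ≫ eM.hom ≫ φ := by
      rw [hfac, IsIso.hom_inv_id_assoc]
    rw [Functor.map_comp, hg, Category.assoc, Category.assoc, hφ n, comp_zero, comp_zero]
  choose X' u hu hH using fun n => exists_postcomp_homotopy_zero _ (h0 n)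
  let U : DerProd.pi X ⟶ DerProd.pi X' := DerProd.lift fun n => DerProd.π X n ≫ u n
  have hU : ∀ n, U ≫ DerProd.π X' n = DerProd.π X n ≫ u n := fun n => DerProd.lift_π _ n
  haveI : QuasiIso U := PiQis.quasiIso_lift X X' u hu
  haveI : IsIso (DerivedCategory.Q.map U) :=
    (DerivedCategory.isIso_Q_map_iff_quasiIso B _).2 inferInstance
  have hH' : Nonempty (Homotopy (g ≫ U) 0) := ⟨DerProd.homotopyZero _ (fun n => by
    rw [Category.assoc, hU n, ← Category.assoc]
    exact (hH n).some)⟩
  have h1 : DerivedCategory.Q.map g ≫ DerivedCategory.Q.map U = 0 := by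
    rw [← Functor.map_comp, DerivedCategory.Q_map_eq_of_homotopy B hH'.some, Functor.map_zero]
  have h2 : DerivedCategory.Q.map g = 0 := by
    rw [← cancel_mono (DerivedCategory.Q.map U), h1, zero_comp]
  rw [← cancel_epi eM.hom, hfac, h2]
  simp

/-- the product complex gives a product in the derived category -/
noncomputable def isLimitFanQ :
    IsLimit (Fan.mk (DerivedCategory.Q.obj (DerProd.pi X))
      (fun n => DerivedCategory.Q.map (DerProd.π X n))) :=
  Fan.IsLimit.mk _ (fun t => (exists_lift X t.pt t.proj).choose)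
    (fun t j => (exists_lift X t.pt t.proj).choose_spec j)
    (fun t m hm => by
      rw [← sub_eq_zero]
      apply eq_zero_of_comp X
      intro j
      rw [Preadditive.sub_comp, sub_eq_zero]
      exact (hm j).trans ((exists_lift X t.pt t.proj).choose_spec j).symm)

end Groth.Agent.Lib.DerProdQ
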