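import Mathlib
import Groth.Agent.Lib.DerProdQ_helper7
import Groth.Agent.Lib.RDerGE_helper7

/-!
# Total right derived functors commute with derived limits (helper7)
-/

set_option autoImplicit false
universe w w' v v' u u'
open CategoryTheory Limits

namespace Groth.Agent.Lib.RlimDer

section General

open Pretriangulated

lemma exists_iso_of_isLimit {C : Type*} [Category C] {f g : ℕ → C} (c : Fan f) (hc : IsLimit c)
    [HasProduct g] (γ : ∀ n, f n ≅ g n) :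
    ∃ ρ : c.pt ≅ ∏ᶜ g, ∀ n, ρ.hom ≫ Pi.π g n = c.proj n ≫ (γ n).hom :=
  ⟨IsLimit.conePointsIsoOfNatIso hc (limit.isLimit _) (Discrete.natIso (fun j => γ j.as)),
    fun n => IsLimit.conePointsIsoOfNatIso_hom_comp _ _ _ (Discrete.mk n)⟩

lemma square_of_components {C : Type*} [Category C] [Preadditive C] {K : ℕ → C} [HasProduct K]
    (t : ∀ n, K (n + 1) ⟶ K n) {Y : C} (ρ : Y ⟶ ∏ᶜ K) (m0 : Y ⟶ Y) (p : ∀ n, Y ⟶ K n)
    (hρ : ∀ n, ρ ≫ Pi.π K n = p n) (hm : ∀ n, m0 ≫ p n = p n - p (n + 1) ≫ t n) :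
    m0 ≫ ρ = ρ ≫ Pi.lift fun n => Pi.π K n - Pi.π K (n + 1) ≫ t n := by
  apply Limits.Pi.hom_ext
  intro n
  rw [Category.assoc, hρ n, hm n, Category.assoc, Limits.Pi.lift_π, Preadditive.comp_sub, hρ n,
    ← Category.assoc, hρ (n + 1)]

variable {T : Type*} [Category T] [Preadditive T] [HasZeroObject T] [HasShift T ℤ]
  [∀ n : ℤ, (shiftFunctor T n).Additive] [Pretriangulated T]

lemma iso_cone_of_isRlim (K : ℕ → T) (t : ∀ n, K (n + 1) ⟶ K n) [HasProduct K] (L : T)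
    (a : L ⟶ ∏ᶜ K) (c : ∏ᶜ K ⟶ L⟦(1 : ℤ)⟧)
    (h : Triangle.mk a (Pi.lift fun n => Pi.π K n - Pi.π K (n + 1) ≫ t n) c ∈ distTriang T)
    (T₂ : Triangle T) (h₂ : T₂ ∈ distTriang T) (ρ₁ : T₂.obj₁ ≅ ∏ᶜ K) (ρ₂ : T₂.obj₂ ≅ ∏ᶜ K)
    (sq : T₂.mor₁ ≫ ρ₂.hom = ρ₁.hom ≫ Pi.lift fun n => Pi.π K n - Pi.π K (n + 1) ≫ t n) :
    Nonempty (L⟦(1 : ℤ)⟧ ≅ T₂.obj₃) := by
  have h' := rot_of_distTriang _ h
  refine ⟨Triangle.π₃.mapIso (isoTriangleOfIso₁₂ _ _ h' h₂ ρ₁.symm ρ₂.symm ?_)⟩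
  show (Pi.lift fun n => Pi.π K n - Pi.π K (n + 1) ≫ t n) ≫ ρ₂.inv = ρ₁.inv ≫ T₂.mor₁
  rw [Iso.eq_inv_comp, ← Category.assoc, ← sq, Category.assoc, Iso.hom_inv_id, Category.comp_id]

lemma isRlim_of_cone (K : ℕ → T) (t : ∀ n, K (n + 1) ⟶ K n) [HasProduct K] (X : T)
    (T₂ : Triangle T) (h₂ : T₂ ∈ distTriang T) (ρ₁ : T₂.obj₁ ≅ ∏ᶜ K) (ρ₂ : T₂.obj₂ ≅ ∏ᶜ K)
    (sq : T₂.mor₁ ≫ ρ₂.hom = ρ₁.hom ≫ Pi.lift fun n => Pi.π K n - Pi.π K (n + 1) ≫ t n)
    (ω : X⟦(1 : ℤ)⟧ ≅ T₂.obj₃) :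
    ∃ (a : X ⟶ ∏ᶜ K) (c : ∏ᶜ K ⟶ X⟦(1 : ℤ)⟧),
      Triangle.mk a (Pi.lift fun n => Pi.π K n - Pi.π K (n + 1) ≫ t n) c ∈ distTriang T := by
  let a : X ⟶ ∏ᶜ K :=
    (shiftFunctor T (1 : ℤ)).preimage (-(ω.hom ≫ T₂.mor₃ ≫ ρ₁.hom⟦(1 : ℤ)⟧'))
  let c : ∏ᶜ K ⟶ X⟦(1 : ℤ)⟧ := ρ₂.inv ≫ T₂.mor₂ ≫ ω.inv
  have ha : a⟦(1 : ℤ)⟧' = -(ω.hom ≫ T₂.mor₃ ≫ ρ₁.hom⟦(1 : ℤ)⟧') := Functor.map_preimage _ _
  refine ⟨a, c, ?_⟩
  rw [rotate_distinguished_triangle]
  refine isomorphic_distinguished _ h₂ _ (Triangle.isoMk _ _ ρ₁.symm ρ₂.symm ω ?_ ?_ ?_)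
  · show (Pi.lift fun n => Pi.π K n - Pi.π K (n + 1) ≫ t n) ≫ ρ₂.inv = ρ₁.inv ≫ T₂.mor₁
    rw [Iso.eq_inv_comp, ← Category.assoc, ← sq, Category.assoc, Iso.hom_inv_id, Category.comp_id]
  · show c ≫ ω.hom = ρ₂.inv ≫ T₂.mor₂
    simp [c]
  · show (-a⟦(1 : ℤ)⟧') ≫ ρ₁.inv⟦(1 : ℤ)⟧' = ω.hom ≫ T₂.mor₃
    rw [ha, neg_neg, Category.assoc, Category.assoc, ← Functor.map_comp, Iso.hom_inv_id,
      CategoryTheory.Functor.map_id, Category.comp_id]

end General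

section Cx

variable {A : Type u} [Category.{v} A] [Abelian A]

lemma isKInjective_mappingCone {K L : CochainComplex A ℤ} (φ : K ⟶ L) [hK : K.IsKInjective]
    [hL : L.IsKInjective] : (CochainComplex.mappingCone φ).IsKInjective := by
  rw [CochainComplex.isKInjective_iff_rightOrthogonal] at hK hL ⊢
  exact (HomotopyCategory.subcategoryAcyclic A).rightOrthogonal.ext_of_isTriangulatedClosed₃ _
    (HomotopyCategory.mappingCone_triangleh_distinguished φ) hK hL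

lemma hm_general [HasProductsOfShape ℕ A] {D : Type*} [Category D] [Preadditive D]
    (Φ : CochainComplex A ℤ ⥤ D) [Φ.Additive]
    (I : ℕ → CochainComplex A ℤ) (τ : ∀ n, I (n + 1) ⟶ I n) {K' : ℕ → D}
    (t' : ∀ n, K' (n + 1) ⟶ K' n) (γ : ∀ n, Φ.obj (I n) ⟶ K' n)
    (hγ : ∀ n, Φ.map (τ n) ≫ γ n = γ (n + 1) ≫ t' n) (n : ℕ) :
    Φ.map (DerProd.lift fun n => DerProd.π I n - DerProd.π I (n + 1) ≫ τ n) ≫
      Φ.map (DerProd.π I n) ≫ γ n =
    Φ.map (DerProd.π I n) ≫ γ n - (Φ.map (DerProd.π I (n + 1)) ≫ γ (n + 1)) ≫ t' n := by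
  have h1 : Φ.map (DerProd.lift fun n => DerProd.π I n - DerProd.π I (n + 1) ≫ τ n) ≫
      Φ.map (DerProd.π I n) =
      Φ.map (DerProd.π I n) - Φ.map (DerProd.π I (n + 1)) ≫ Φ.map (τ n) := by
    rw [← Functor.map_comp, DerProd.lift_π, Functor.map_sub, Functor.map_comp]
  rw [← Category.assoc, h1, Preadditive.sub_comp]
  simp only [Category.assoc]
  rw [hγ n]

variable {B : Type u'} [Category.{v'} B] [Abelian B] (F : A ⥤ B) [F.Additive]

/-- the functor induced on complexes -/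
abbrev G : CochainComplex A ℤ ⥤ CochainComplex B ℤ :=
  F.mapHomologicalComplex (ComplexShape.up ℤ)

variable [HasProductsOfShape ℕ A] [HasProductsOfShape ℕ B] [PreservesLimitsOfShape (Discrete ℕ) F]

/-- comparison of `F` applied to a product of complexes with the product of the images -/
noncomputable def θ (I : ℕ → CochainComplex A ℤ) :
    (G F).obj (DerProd.pi I) ⟶ DerProd.pi (fun n => (G F).obj (I n)) :=
  DerProd.lift fun n => (G F).map (DerProd.π I n)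

instance isIso_θ (I : ℕ → CochainComplex A ℤ) : IsIso (θ F I) := by
  haveI : ∀ i, IsIso ((θ F I).f i) := fun i => by
    show IsIso (piComparison F (fun j => (I j).X i))
    infer_instance
  exact HomologicalComplex.Hom.isIso_of_components _

omit [PreservesLimitsOfShape (Discrete ℕ) F] in
lemma θ_π (I : ℕ → CochainComplex A ℤ) (n : ℕ) :
    θ F I ≫ DerProd.π (fun n => (G F).obj (I n)) n = (G F).map (DerProd.π I n) :=
  DerProd.lift_π _ n

end Cx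

section Main

open Pretriangulated

variable {A : Type u} [Category.{v} A] [Abelian A] [IsGrothendieckAbelian.{v} A]
    [HasDerivedCategory.{w} A] {B : Type u'} [Category.{v'} B] [Abelian B]
    [HasDerivedCategory.{w'} B]
    (F : A ⥤ B) [F.Additive]
    [(F.mapHomotopyCategory (ComplexShape.up ℤ) ⋙ DerivedCategory.Qh).HasRightDerivedFunctor
      (HomotopyCategory.quasiIso A (ComplexShape.up ℤ))]

lemma unitIso_naturality {I I' : CochainComplex A ℤ} [I.IsKInjective] [I'.IsKInjective]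
    (g : I ⟶ I') :
    DerivedCategory.Q.map ((G F).map g) ≫ (RDerGE.unitIso F I').hom =
      (RDerGE.unitIso F I).hom ≫ (RDerGE.RF F).map (DerivedCategory.Q.map g) :=
  ((F.mapHomotopyCategory (ComplexShape.up ℤ) ⋙ DerivedCategory.Qh).totalRightDerivedUnit
      DerivedCategory.Qh (HomotopyCategory.quasiIso A (ComplexShape.up ℤ))).naturality
        ((HomotopyCategory.quotient A (ComplexShape.up ℤ)).map g)

variable [HasProductsOfShape ℕ B] [(lim : (Discrete ℕ ⥤ B) ⥤ B).PreservesEpimorphisms]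
  [PreservesLimitsOfShape (Discrete ℕ) F]

theorem main (K : ℕ → DerivedCategory A) (t : ∀ n, K (n + 1) ⟶ K n) (L : DerivedCategory A)
    [HasProduct K] [HasProduct fun n => (RDerGE.RF F).obj (K n)]
    (hL : ∃ (a : L ⟶ ∏ᶜ K) (c : ∏ᶜ K ⟶ L⟦(1 : ℤ)⟧),
      Triangle.mk a (Pi.lift fun n => Pi.π K n - Pi.π K (n + 1) ≫ t n) c ∈
        distinguishedTriangles) :
    ∃ (a : (RDerGE.RF F).obj L ⟶ ∏ᶜ fun n => (RDerGE.RF F).obj (K n))
      (c : (∏ᶜ fun n => (RDerGE.RF F).obj (K n)) ⟶ ((RDerGE.RF F).obj L)⟦(1 : ℤ)⟧),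
      Triangle.mk a
        (Pi.lift fun n => Pi.π (fun n => (RDerGE.RF F).obj (K n)) n -
          Pi.π (fun n => (RDerGE.RF F).obj (K n)) (n + 1) ≫ (RDerGE.RF F).map (t n)) c ∈
        distinguishedTriangles := by
  obtain ⟨a, c, hT⟩ := hL
  choose I hI _hinj e using fun n => KInjGen8.exists_kInjective_rep (K n)
  haveI := hI
  replace e : ∀ n, DerivedCategory.Q.obj (I n) ≅ K n := fun n => (e n).some
  choose τ hτ using fun n => DerProd.exists_lift_of_isKInjective (I (n + 1)) (I n)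
    ((e (n + 1)).hom ≫ t n ≫ (e n).inv)
  have hτ' : ∀ n, DerivedCategory.Q.map (τ n) ≫ (e n).hom = (e (n + 1)).hom ≫ t n := fun n => by
    rw [hτ n, Category.assoc, Category.assoc, Iso.inv_hom_id, Category.comp_id]
  let φ : DerProd.pi I ⟶ DerProd.pi I :=
    DerProd.lift fun n => DerProd.π I n - DerProd.π I (n + 1) ≫ τ n
  -- the `A` side
  obtain ⟨ε, hε⟩ := exists_iso_of_isLimit (g := K) _ (DerProd.isLimitFan I) e
  have hε' : ∀ n, ε.hom ≫ Pi.π K n = DerivedCategory.Q.map (DerProd.π I n) ≫ (e n).hom := hε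
  have sqA : DerivedCategory.Q.map φ ≫ ε.hom =
      ε.hom ≫ Pi.lift fun n => Pi.π K n - Pi.π K (n + 1) ≫ t n :=
    square_of_components t ε.hom (DerivedCategory.Q.map φ)
      (fun n => DerivedCategory.Q.map (DerProd.π I n) ≫ (e n).hom) hε'
      (fun n => hm_general DerivedCategory.Q I τ t (fun n => (e n).hom) hτ' n)
  have hTA : DerivedCategory.Q.mapTriangle.obj (CochainComplex.mappingCone.triangle φ) ∈
      distTriang _ :=
    (DerivedCategory.mem_distTriang_iff _).2 ⟨_, _, φ, ⟨Iso.refl _⟩⟩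
  obtain ⟨w⟩ := iso_cone_of_isRlim K t L a c hT _ hTA ε ε sqA
  -- the `B` side
  haveI : (CochainComplex.mappingCone φ).IsKInjective := isKInjective_mappingCone φ
  let γ : ∀ n, DerivedCategory.Q.obj ((G F).obj (I n)) ≅ (RDerGE.RF F).obj (K n) := fun n =>
    RDerGE.unitIso F (I n) ≪≫ (RDerGE.RF F).mapIso (e n)
  have hγ : ∀ n, DerivedCategory.Q.map ((G F).map (τ n)) ≫ (γ n).hom =
      (γ (n + 1)).hom ≫ (RDerGE.RF F).map (t n) := fun n => by
    show DerivedCategory.Q.map ((G F).map (τ n)) ≫ (RDerGE.unitIso F (I n)).hom ≫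
        (RDerGE.RF F).map (e n).hom =
      ((RDerGE.unitIso F (I (n + 1))).hom ≫ (RDerGE.RF F).map (e (n + 1)).hom) ≫
        (RDerGE.RF F).map (t n)
    rw [← Category.assoc, unitIso_naturality, Category.assoc, Category.assoc,
      ← Functor.map_comp, ← Functor.map_comp, hτ' n]
  obtain ⟨ρ₀, hρ₀⟩ := exists_iso_of_isLimit (g := fun n => (RDerGE.RF F).obj (K n)) _
    (DerProdQ.isLimitFanQ (fun n => (G F).obj (I n))) γ
  have hρ₀' : ∀ n, ρ₀.hom ≫ Pi.π (fun n => (RDerGE.RF F).obj (K n)) n =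
      DerivedCategory.Q.map (DerProd.π (fun n => (G F).obj (I n)) n) ≫ (γ n).hom := hρ₀
  let ρ : DerivedCategory.Q.obj ((G F).obj (DerProd.pi I)) ≅
      ∏ᶜ fun n => (RDerGE.RF F).obj (K n) :=
    DerivedCategory.Q.mapIso (asIso (θ F I)) ≪≫ ρ₀
  have hρ : ∀ n, ρ.hom ≫ Pi.π (fun n => (RDerGE.RF F).obj (K n)) n =
      DerivedCategory.Q.map ((G F).map (DerProd.π I n)) ≫ (γ n).hom := fun n => by
    show (DerivedCategory.Q.map (θ F I) ≫ ρ₀.hom) ≫ Pi.π (fun n => (RDerGE.RF F).obj (K n)) n = _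
    rw [Category.assoc, hρ₀' n, ← Category.assoc, ← Functor.map_comp, θ_π]
  have sqB : DerivedCategory.Q.map ((G F).map φ) ≫ ρ.hom =
      ρ.hom ≫ Pi.lift fun n => Pi.π (fun n => (RDerGE.RF F).obj (K n)) n -
        Pi.π (fun n => (RDerGE.RF F).obj (K n)) (n + 1) ≫ (RDerGE.RF F).map (t n) :=
    square_of_components (K := fun n => (RDerGE.RF F).obj (K n))
      (fun n => (RDerGE.RF F).map (t n)) ρ.hom (DerivedCategory.Q.map ((G F).map φ))
      (fun n => DerivedCategory.Q.map ((G F).map (DerProd.π I n)) ≫ (γ n).hom) hρ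
      (fun n => hm_general (G F ⋙ DerivedCategory.Q) I τ
        (K' := fun n => (RDerGE.RF F).obj (K n))
        (fun n => (RDerGE.RF F).map (t n)) (fun n => (γ n).hom) hγ n)
  have hTB : DerivedCategory.Q.mapTriangle.obj
      (CochainComplex.mappingCone.triangle ((G F).map φ)) ∈ distTriang _ :=
    (DerivedCategory.mem_distTriang_iff _).2 ⟨_, _, (G F).map φ, ⟨Iso.refl _⟩⟩
  -- the third vertex
  let ζ : (RDerGE.RF F).obj L ≅
      (DerivedCategory.Q.obj ((G F).obj (CochainComplex.mappingCone φ)))⟦(-1 : ℤ)⟧ :=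
    (RDerGE.RF F).mapIso
      ((shiftFunctorCompIsoId (DerivedCategory A) (1 : ℤ) (-1) (by norm_num)).symm.app L ≪≫
        (shiftFunctor (DerivedCategory A) (-1 : ℤ)).mapIso w ≪≫
        ((DerivedCategory.Q.commShiftIso (-1 : ℤ)).symm.app (CochainComplex.mappingCone φ))) ≪≫
    (RDerGE.unitIso F ((CochainComplex.mappingCone φ)⟦(-1 : ℤ)⟧)).symm ≪≫
    DerivedCategory.Q.mapIso (((G F).commShiftIso (-1 : ℤ)).app (CochainComplex.mappingCone φ)) ≪≫
    (DerivedCategory.Q.commShiftIso (-1 : ℤ)).app ((G F).obj (CochainComplex.mappingCone φ))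
  let ω : ((RDerGE.RF F).obj L)⟦(1 : ℤ)⟧ ≅
      DerivedCategory.Q.obj (CochainComplex.mappingCone ((G F).map φ)) :=
    (shiftFunctor (DerivedCategory B) (1 : ℤ)).mapIso ζ ≪≫
    (shiftFunctorCompIsoId (DerivedCategory B) (-1 : ℤ) 1 (by norm_num)).app
      (DerivedCategory.Q.obj ((G F).obj (CochainComplex.mappingCone φ))) ≪≫
    DerivedCategory.Q.mapIso (CochainComplex.mappingCone.mapHomologicalComplexIso φ F)
  exact isRlim_of_cone (fun n => (RDerGE.RF F).obj (K n)) (fun n => (RDerGE.RF F).map (t n))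
    ((RDerGE.RF F).obj L) _ hTB ρ ρ sqB ω

end Main

end Groth.Agent.Lib.RlimDer
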