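import Mathlib
import Groth.Prelude.Def_DRing3
import Groth.Prelude.Def_DCoh2
import Groth.Agent.Lib.DerProdQ_helper7
import Groth.Agent.Lib.RlimDer_helper7

/-!
# Towers of complexes of modules: concrete product, limit, and the derived limit triangle (helper1)

For a tower `τ n : X (n+1) ⟶ X n` of cochain complexes of `A`-modules:
* `piCx X`: the concrete product complex (terms `∀ n, (X n).X i`), isomorphic to `DerProd.pi X`;
* `limCx X τ`: the termwise inverse limit, `limι : limCx X τ ⟶ piCx X`;
* `dMap X τ : piCx X ⟶ piCx X`: "identity minus shift";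
* `limSC_shortExact`: `0 → lim → ∏ → ∏ → 0` is exact if the transition maps are termwise surjective;
* `isRlim_of_tower`: the resulting derived-limit triangle in `D(A)`.
-/

set_option autoImplicit false
universe u
open CategoryTheory CategoryTheory.Limits CategoryTheory.Pretriangulated DerivedCategory

attribute [local instance] HasDerivedCategory.standard

namespace Groth.Agent.Lib.RlimCechH1

variable {A : Type u} [CommRing A]

section Tower

variable (X : ℕ → DRing.Cx A)

/-- the concrete product complex -/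
noncomputable def piCx : DRing.Cx A where
  X i := ModuleCat.of A (∀ n, (X n).X i)
  d i j := ModuleCat.ofHom (LinearMap.pi fun n => ((X n).d i j).hom ∘ₗ LinearMap.proj n)
  shape i j h := by
    refine ModuleCat.hom_ext (LinearMap.ext fun x => funext fun n => ?_)
    show ((X n).d i j).hom (x n) = 0
    rw [(X n).shape i j h]
    rfl
  d_comp_d' i j k _ _ := by
    refine ModuleCat.hom_ext (LinearMap.ext fun x => funext fun n => ?_)
    show ((X n).d j k).hom (((X n).d i j).hom (x n)) = 0
    exact congrArg (fun g => g.hom (x n)) ((X n).d_comp_d i j k)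

lemma piCx_d_apply (i j : ℤ) (x : ∀ n, (X n).X i) (n : ℕ) :
    ((piCx X).d i j).hom x n = ((X n).d i j).hom (x n) := rfl

/-- the projections -/
noncomputable def piProj (n : ℕ) : piCx X ⟶ X n where
  f i := ModuleCat.ofHom (LinearMap.proj n)
  comm' i j _ := by
    refine ModuleCat.hom_ext (LinearMap.ext fun x => ?_)
    rfl

lemma piProj_f_apply (n : ℕ) (i : ℤ) (x : ∀ n, (X n).X i) : ((piProj X n).f i).hom x = x n := rfl

variable {X} in
/-- the universal property -/
noncomputable def piLift {L : DRing.Cx A} (g : ∀ n, L ⟶ X n) : L ⟶ piCx X where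
  f i := ModuleCat.ofHom (LinearMap.pi fun n => ((g n).f i).hom)
  comm' i j _ := by
    refine ModuleCat.hom_ext (LinearMap.ext fun x => funext fun n => ?_)
    show ((X n).d i j).hom (((g n).f i).hom x) = ((g n).f j).hom ((L.d i j).hom x)
    exact congrArg (fun h => h.hom x) ((g n).comm i j)

variable {X} in
lemma piLift_f_apply {L : DRing.Cx A} (g : ∀ n, L ⟶ X n) (i : ℤ) (x : L.X i) (n : ℕ) :
    ((piLift g).f i).hom x n = ((g n).f i).hom x := rfl

variable {X} in
@[reassoc (attr := simp)]
lemma piLift_proj {L : DRing.Cx A} (g : ∀ n, L ⟶ X n) (n : ℕ) : piLift g ≫ piProj X n = g n := by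
  refine HomologicalComplex.hom_ext _ _ fun i => ?_
  refine ModuleCat.hom_ext (LinearMap.ext fun x => ?_)
  rfl

variable {X} in
lemma piCx_hom_ext {L : DRing.Cx A} {a b : L ⟶ piCx X}
    (h : ∀ n, a ≫ piProj X n = b ≫ piProj X n) : a = b := by
  refine HomologicalComplex.hom_ext _ _ fun i => ?_
  refine ModuleCat.hom_ext (LinearMap.ext fun x => funext fun n => ?_)
  exact congrArg (fun g => (g.f i).hom x) (h n)

/-- comparison with the abstract product complex -/
noncomputable def piIso : piCx X ≅ DerProd.pi X where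
  hom := DerProd.lift (piProj X)
  inv := piLift (DerProd.π X)
  hom_inv_id := piCx_hom_ext fun n => by
    rw [Category.assoc, piLift_proj, DerProd.lift_π, Category.id_comp]
  inv_hom_id := DerProd.hom_ext fun n => by
    rw [Category.assoc, DerProd.lift_π, piLift_proj, Category.id_comp]

lemma piIso_hom_π (n : ℕ) : (piIso X).hom ≫ DerProd.π X n = piProj X n := DerProd.lift_π _ n

/-- `Q (piCx X)` is the product of the `Q (X n)` in the derived category -/
theorem exists_rho (K : ℕ → Dual.D A) [HasProduct K] (γ : ∀ n, Q.obj (X n) ≅ K n) :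
    ∃ ρ : Q.obj (piCx X) ≅ ∏ᶜ K, ∀ n, ρ.hom ≫ Pi.π K n = Q.map (piProj X n) ≫ (γ n).hom := by
  obtain ⟨ρ₀, hρ₀⟩ := Groth.Agent.Lib.RlimDer.exists_iso_of_isLimit (g := K) _
    (Groth.Agent.Lib.DerProdQ.isLimitFanQ X) γ
  refine ⟨Q.mapIso (piIso X) ≪≫ ρ₀, fun n => ?_⟩
  have h : ρ₀.hom ≫ Pi.π K n = Q.map (DerProd.π X n) ≫ (γ n).hom := hρ₀ n
  rw [Iso.trans_hom, Functor.mapIso_hom, Category.assoc, h, ← Category.assoc, ← Functor.map_comp,
    piIso_hom_π]

/-- a morphism to `Q (piCx X)` vanishes if its components do -/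
theorem eq_zero_of_comp_piProj (Y : Dual.D A) (φ : Y ⟶ Q.obj (piCx X))
    (h : ∀ n, φ ≫ Q.map (piProj X n) = 0) : φ = 0 := by
  have h1 : φ ≫ Q.map (piIso X).hom = 0 := by
    apply Groth.Agent.Lib.DerProdQ.eq_zero_of_comp X
    intro n
    rw [Category.assoc, ← Functor.map_comp, piIso_hom_π, h n]
  have h2 := congrArg (fun t => t ≫ Q.map (piIso X).inv) h1
  simp only [Category.assoc, zero_comp] at h2
  rwa [← Functor.map_comp, Iso.hom_inv_id, CategoryTheory.Functor.map_id, Category.comp_id] at h2

variable (τ : ∀ n, X (n + 1) ⟶ X n)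

/-- identity minus shift -/
noncomputable def dMap : piCx X ⟶ piCx X :=
  piLift fun n => piProj X n - piProj X (n + 1) ≫ τ n

lemma dMap_proj (n : ℕ) : dMap X τ ≫ piProj X n = piProj X n - piProj X (n + 1) ≫ τ n :=
  piLift_proj _ n

lemma dMap_apply (i : ℤ) (x : ∀ n, (X n).X i) (n : ℕ) :
    ((dMap X τ).f i).hom x n = x n - ((τ n).f i).hom (x (n + 1)) := by
  show ((piProj X n - piProj X (n + 1) ≫ τ n).f i).hom x = _
  rw [HomologicalComplex.sub_f_apply, ModuleCat.hom_sub, LinearMap.sub_apply]
  rfl

/-- compatible sequences -/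
def limSub (i : ℤ) : Submodule A (∀ n, (X n).X i) where
  carrier := {x | ∀ n, ((τ n).f i).hom (x (n + 1)) = x n}
  add_mem' := by
    intro x y hx hy n
    show ((τ n).f i).hom (x (n + 1) + y (n + 1)) = x n + y n
    rw [map_add, hx n, hy n]
  zero_mem' := fun n => map_zero _
  smul_mem' := by
    intro c x hx n
    show ((τ n).f i).hom (c • x (n + 1)) = c • x n
    rw [map_smul, hx n]

lemma mem_limSub (i : ℤ) (x : ∀ n, (X n).X i) :
    x ∈ limSub X τ i ↔ ∀ n, ((τ n).f i).hom (x (n + 1)) = x n := Iff.rfl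

/-- the termwise inverse limit of the tower -/
noncomputable def limCx : DRing.Cx A where
  X i := ModuleCat.of A (limSub X τ i)
  d i j := ModuleCat.ofHom (((piCx X).d i j).hom.restrict (p := limSub X τ i) (q := limSub X τ j) (by
    intro x hx n
    show ((τ n).f j).hom (((X (n + 1)).d i j).hom (x (n + 1))) = ((X n).d i j).hom (x n)
    rw [← hx n]
    exact (congrArg (fun h => h.hom (x (n + 1))) ((τ n).comm i j)).symm))
  shape i j h := by
    refine ModuleCat.hom_ext (LinearMap.ext fun x => Subtype.ext ?_)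
    show ((piCx X).d i j).hom x.1 = 0
    rw [(piCx X).shape i j h]
    rfl
  d_comp_d' i j k _ _ := by
    refine ModuleCat.hom_ext (LinearMap.ext fun x => Subtype.ext ?_)
    show ((piCx X).d j k).hom (((piCx X).d i j).hom x.1) = 0
    exact congrArg (fun g => g.hom x.1) ((piCx X).d_comp_d i j k)

/-- the inclusion of the limit into the product -/
noncomputable def limι : limCx X τ ⟶ piCx X where
  f i := ModuleCat.ofHom (limSub X τ i).subtype
  comm' i j _ := by
    refine ModuleCat.hom_ext (LinearMap.ext fun x => ?_)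
    rfl

lemma limι_f_apply (i : ℤ) (x : limSub X τ i) : ((limι X τ).f i).hom x = x.1 := rfl

variable {X τ} in
/-- the universal property of the limit -/
noncomputable def limLift {L : DRing.Cx A} (g : ∀ n, L ⟶ X n) (hg : ∀ n, g (n + 1) ≫ τ n = g n) :
    L ⟶ limCx X τ where
  f i := ModuleCat.ofHom (LinearMap.codRestrict (limSub X τ i) ((piLift g).f i).hom (by
    intro x n
    show ((τ n).f i).hom (((g (n + 1)).f i).hom x) = ((g n).f i).hom x
    exact congrArg (fun h => (h.f i).hom x) (hg n)))
  comm' i j _ := by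
    refine ModuleCat.hom_ext (LinearMap.ext fun x => Subtype.ext ?_)
    exact congrArg (fun h => h.hom x) ((piLift g).comm i j)

variable {X τ} in
lemma limLift_f_apply {L : DRing.Cx A} (g : ∀ n, L ⟶ X n) (hg : ∀ n, g (n + 1) ≫ τ n = g n)
    (i : ℤ) (x : L.X i) (n : ℕ) :
    (((limLift g hg).f i).hom x).1 n = ((g n).f i).hom x := rfl

lemma limι_dMap : limι X τ ≫ dMap X τ = 0 := by
  refine piCx_hom_ext fun n => ?_
  rw [Category.assoc, dMap_proj, zero_comp, Preadditive.comp_sub, sub_eq_zero]
  refine HomologicalComplex.hom_ext _ _ fun i => ?_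
  refine ModuleCat.hom_ext (LinearMap.ext fun x => ?_)
  exact (x.2 n).symm

/-- the short complex `lim → ∏ → ∏` -/
noncomputable def limSC : ShortComplex (DRing.Cx A) :=
  ShortComplex.mk (limι X τ) (dMap X τ) (limι_dMap X τ)

theorem limSC_shortExact (hτ : ∀ n i, Function.Surjective ((τ n).f i).hom) :
    (limSC X τ).ShortExact := by
  apply HomologicalComplex.shortExact_of_degreewise_shortExact
  intro i
  have h1 : Function.Injective ((limι X τ).f i).hom := fun x y h => Subtype.ext h
  have h2 : Function.Surjective ((dMap X τ).f i).hom := by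
    intro y
    let x : ∀ n, (X n).X i := fun n => Nat.rec (motive := fun n => (X n).X i) 0
      (fun n xn => (hτ n i (xn - y n)).choose) n
    refine ⟨x, funext fun n => ?_⟩
    rw [dMap_apply]
    have hx : ((τ n).f i).hom (x (n + 1)) = x n - y n := (hτ n i (x n - y n)).choose_spec
    rw [hx]
    abel
  have h3 : Function.Exact ((limι X τ).f i).hom ((dMap X τ).f i).hom := by
    intro y
    constructor
    · intro hy
      refine ⟨⟨y, fun n => ?_⟩, rfl⟩
      have h := congrFun hy n
      rw [dMap_apply] at h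
      exact (sub_eq_zero.1 h).symm
    · rintro ⟨x, rfl⟩
      exact congrArg (fun g => (g.f i).hom x) (limι_dMap X τ)
  exact
    { exact := (ShortComplex.ShortExact.moduleCat_exact_iff_function_exact _).2 h3
      mono_f := (ModuleCat.mono_iff_injective _).2 h1
      epi_g := (ModuleCat.epi_iff_surjective _).2 h2 }

/-- the derived limit triangle attached to a termwise surjective tower -/
theorem isRlim_of_tower (K : ℕ → Dual.D A) [HasProduct K] (t : ∀ n, K (n + 1) ⟶ K n)
    (γ : ∀ n, Q.obj (X n) ≅ K n) (hγ : ∀ n, Q.map (τ n) ≫ (γ n).hom = (γ (n + 1)).hom ≫ t n)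
    (hτ : ∀ n i, Function.Surjective ((τ n).f i).hom)
    (L : Dual.D A) (lam : L ≅ Q.obj (limCx X τ)) :
    DCoh.IsRlim K t L := by
  obtain ⟨ρ, hρ⟩ := exists_rho X K γ
  have hS := limSC_shortExact X τ hτ
  have hT := rot_of_distTriang _ (triangleOfSES_distinguished hS)
  have hm : ∀ n, Q.map (dMap X τ) ≫ (Q.map (piProj X n) ≫ (γ n).hom) =
      (Q.map (piProj X n) ≫ (γ n).hom) - (Q.map (piProj X (n + 1)) ≫ (γ (n + 1)).hom) ≫ t n := by
    intro n
    rw [← Category.assoc, ← Functor.map_comp, dMap_proj, Functor.map_sub, Functor.map_comp,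
      Preadditive.sub_comp, Category.assoc, Category.assoc, hγ n]
  have sq : Q.map (dMap X τ) ≫ ρ.hom =
      ρ.hom ≫ Pi.lift fun n => Pi.π K n - Pi.π K (n + 1) ≫ t n :=
    Groth.Agent.Lib.RlimDer.square_of_components t ρ.hom (Q.map (dMap X τ))
      (fun n => Q.map (piProj X n) ≫ (γ n).hom) hρ hm
  exact Groth.Agent.Lib.RlimDer.isRlim_of_cone K t L _ hT ρ ρ sq
    ((CategoryTheory.shiftFunctor (Dual.D A) (1 : ℤ)).mapIso lam)

end Tower

end Groth.Agent.Lib.RlimCechH1
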