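import Mathlib
import Groth.Prelude.Def_DRing3
import Groth.Agent.Lib.DerCompl6_helper2
import Groth.Agent.Lib.AdicDer3_helper2
import Groth.Agent.Lib.BrutalTrunc_helper2

/-!
# Morphisms inducing bijections on maps to derived complete objects (helper1)

`LEq I u`: precomposition with `u` is bijective on `Hom(-, E)` for every derived `I`-complete `E`.
* `LEq.shift`, `LEq.of_comm`, `LEq.of_triangle_mid`;
* `leq_single`: passage from degree `0` to degree `m` for maps of modules;
* `leq_of_termwise`: a map of bounded complexes which is termwise an `LEq` is an `LEq`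
  (induction on brutal truncations).
-/

set_option autoImplicit false
universe u
open CategoryTheory CategoryTheory.Limits CategoryTheory.Pretriangulated DerivedCategory

attribute [local instance] HasDerivedCategory.standard

namespace Groth.Agent.Lib.RlimCechH1

open Groth.Agent.Lib.DerCompl Groth.Agent.Lib.BrutalTrunc

variable {A : Type u} [CommRing A] (I : Ideal A)

/-- `u` induces bijections on maps to derived complete objects -/
def LEq {X Y : Dual.D A} (u : X ⟶ Y) : Prop :=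
  ∀ E : Dual.D A, DRing.IsDerivedComplete I E → Function.Bijective (fun a : Y ⟶ E => u ≫ a)

variable {I}

lemma LEq.of_comm {X Y X' Y' : Dual.D A} {u : X ⟶ Y} (hu : LEq I u) (u' : X' ⟶ Y') (a : X ≅ X')
    (b : Y ≅ Y') (h : u ≫ b.hom = a.hom ≫ u') : LEq I u' := fun E hE =>
  Groth.Agent.Lib.AdicDer.bijective_precomp_of_comm u u' a b h (hu E hE)

lemma LEq.of_isZero {X Y : Dual.D A} (hX : IsZero X) (hY : IsZero Y) (u : X ⟶ Y) : LEq I u := by
  intro E _
  constructor
  · intro a b _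
    exact hY.eq_of_src a b
  · intro b
    exact ⟨0, hX.eq_of_src _ _⟩

lemma LEq.shift {X Y : Dual.D A} {u : X ⟶ Y} (h : LEq I u) (n : ℤ) : LEq I (u⟦n⟧') := by
  intro E hE
  have hE' : DRing.IsDerivedComplete I (E⟦-n⟧) := isDerivedComplete_shift I E hE (-n)
  let e : (E⟦-n⟧)⟦n⟧ ≅ E := (shiftFunctorCompIsoId (Dual.D A) (-n) n (neg_add_cancel n)).app E
  have hΦ : ∀ Z : Dual.D A, Function.Bijective (fun a : Z ⟶ E⟦-n⟧ => a⟦n⟧' ≫ e.hom) := by
    intro Z
    constructor
    · intro a b hab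
      apply (CategoryTheory.shiftFunctor (Dual.D A) n).map_injective
      exact (cancel_mono e.hom).1 hab
    · intro g
      obtain ⟨a, ha⟩ := (CategoryTheory.shiftFunctor (Dual.D A) n).map_surjective (g ≫ e.inv)
      refine ⟨a, ?_⟩
      show a⟦n⟧' ≫ e.hom = g
      rw [ha, Category.assoc, Iso.inv_hom_id, Category.comp_id]
  have hb := h (E⟦-n⟧) hE'
  constructor
  · intro g g' hgg
    obtain ⟨a, rfl⟩ := (hΦ Y).2 g
    obtain ⟨a', rfl⟩ := (hΦ Y).2 g'
    have hgg' : u⟦n⟧' ≫ a⟦n⟧' ≫ e.hom = u⟦n⟧' ≫ a'⟦n⟧' ≫ e.hom := hgg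
    have h1 : u ≫ a = u ≫ a' := by
      apply (hΦ X).1
      show (u ≫ a)⟦n⟧' ≫ e.hom = (u ≫ a')⟦n⟧' ≫ e.hom
      rw [CategoryTheory.Functor.map_comp, CategoryTheory.Functor.map_comp, Category.assoc,
        Category.assoc]
      exact hgg'
    have haa : a = a' := hb.1 h1
    rw [haa]
  · intro g
    obtain ⟨b, hb'⟩ := (hΦ X).2 g
    have hb'' : b⟦n⟧' ≫ e.hom = g := hb'
    obtain ⟨a, ha⟩ := hb.2 b
    have ha' : u ≫ a = b := ha
    refine ⟨a⟦n⟧' ≫ e.hom, ?_⟩
    show u⟦n⟧' ≫ a⟦n⟧' ≫ e.hom = g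
    rw [← Category.assoc, ← CategoryTheory.Functor.map_comp, ha', hb'']

/-- two-out-of-three (middle vertex) for morphisms of distinguished triangles -/
theorem LEq.of_triangle_mid {T T' : Triangle (Dual.D A)} (hT : T ∈ distTriang (Dual.D A))
    (hT' : T' ∈ distTriang (Dual.D A)) (f : T ⟶ T') (h1 : LEq I f.hom₁) (h3 : LEq I f.hom₃) :
    LEq I f.hom₂ := by
  intro E hE
  let g := (Pretriangulated.invRotate (Dual.D A)).map f
  exact bijective_precomp_of_triangles T.invRotate T'.invRotate (inv_rot_of_distTriang _ hT)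
    (inv_rot_of_distTriang _ hT') g.hom₁ g.hom₂ g.hom₃ g.comm₁ g.comm₂ g.comm₃ E
    ((h3.shift (-1)) E hE).1 (h1 E hE) (((h3.shift (-1)).shift 1) E hE) ((h1.shift 1) E hE).2

/-- from degree `0` to degree `m` -/
theorem leq_single {P P' : ModuleCat.{u} A} (g : P ⟶ P') (m : ℤ)
    (h : LEq I (Q.map ((HomologicalComplex.single (ModuleCat.{u} A) (ComplexShape.up ℤ) 0).map g))) :
    LEq I (Q.map ((HomologicalComplex.single (ModuleCat.{u} A) (ComplexShape.up ℤ) m).map g)) := by
  let S0 := HomologicalComplex.single (ModuleCat.{u} A) (ComplexShape.up ℤ) 0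
  let Sm := HomologicalComplex.single (ModuleCat.{u} A) (ComplexShape.up ℤ) m
  let ν : Sm ⋙ CategoryTheory.shiftFunctor (DRing.Cx A) m ≅ S0 :=
    (CochainComplex.singleFunctors (ModuleCat.{u} A)).shiftIso m 0 m (add_zero m)
  let κ : ∀ P : ModuleCat.{u} A, (Q.obj (Sm.obj P))⟦m⟧ ≅ Q.obj (S0.obj P) := fun P =>
    ((Q.commShiftIso m).app (Sm.obj P)).symm ≪≫ Q.mapIso (ν.app P)
  have hκ : (Q.map (Sm.map g))⟦m⟧' ≫ (κ P').hom = (κ P).hom ≫ Q.map (S0.map g) := by
    have h1 : (Q.map (Sm.map g))⟦m⟧' ≫ (Q.commShiftIso m).inv.app (Sm.obj P') =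
        (Q.commShiftIso m).inv.app (Sm.obj P) ≫ Q.map ((Sm.map g)⟦m⟧') :=
      (Q.commShiftIso m).inv.naturality (Sm.map g)
    have h2 : (Sm.map g)⟦m⟧' ≫ ν.hom.app P' = ν.hom.app P ≫ S0.map g := ν.hom.naturality g
    show (Q.map (Sm.map g))⟦m⟧' ≫ (Q.commShiftIso m).inv.app (Sm.obj P') ≫ Q.map (ν.hom.app P') =
      ((Q.commShiftIso m).inv.app (Sm.obj P) ≫ Q.map (ν.hom.app P)) ≫ Q.map (S0.map g)
    rw [← Category.assoc, h1, Category.assoc, ← Functor.map_comp, h2, Functor.map_comp,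
      Category.assoc]
  have step1 : LEq I ((Q.map (Sm.map g))⟦m⟧') := by
    refine h.of_comm _ (κ P).symm (κ P').symm ?_
    show Q.map (S0.map g) ≫ (κ P').inv = (κ P).inv ≫ (Q.map (Sm.map g))⟦m⟧'
    rw [Iso.comp_inv_eq, Category.assoc, hκ, Iso.inv_hom_id_assoc]
  have step2 := step1.shift (-m)
  refine step2.of_comm _
    ((shiftFunctorCompIsoId (Dual.D A) m (-m) (add_neg_cancel m)).app (Q.obj (Sm.obj P)))
    ((shiftFunctorCompIsoId (Dual.D A) m (-m) (add_neg_cancel m)).app (Q.obj (Sm.obj P'))) ?_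
  exact (shiftFunctorCompIsoId (Dual.D A) m (-m) (add_neg_cancel m)).hom.naturality
    (Q.map (Sm.map g))

/-! ### Functoriality of brutal truncations -/

section Sigma

variable {B : Type*} [Category B] [Abelian B] {K L : CochainComplex B ℤ} (φ : K ⟶ L)

/-- the map induced on brutal truncations -/
noncomputable def sigmaMap (m : ℤ) : sigmaGE K m ⟶ sigmaGE L m where
  f n := ι K m n ≫ φ.f n ≫ ρ L m n
  comm' i j _ := by
    rw [sigmaGE_d, sigmaGE_d]
    simp only [Category.assoc]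
    by_cases hi : m ≤ i
    · rw [ρ_ι_assoc L hi, ι_d_ρ_ι_assoc K m i j, φ.comm_assoc]
    · simp [ι_eq_zero K hi]

@[simp] lemma sigmaMap_f (m n : ℤ) : (sigmaMap φ m).f n = ι K m n ≫ φ.f n ≫ ρ L m n := rfl

lemma sigmaMap_incl (m : ℤ) : sigmaMap φ m ≫ incl L m = incl K m ≫ φ := by
  ext n
  simp only [HomologicalComplex.comp_f, sigmaMap_f, incl_f, Category.assoc]
  by_cases hn : m ≤ n
  · rw [ρ_ι L hn, Category.comp_id]
  · simp [ι_eq_zero K hn]

lemma trans_sigmaMap {m m' : ℤ} (h : m ≤ m') :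
    trans K h ≫ sigmaMap φ m = sigmaMap φ m' ≫ trans L h := by
  ext n
  simp only [HomologicalComplex.comp_f, sigmaMap_f, trans_f, Category.assoc]
  by_cases hn : m' ≤ n
  · rw [ρ_ι_assoc K (h.trans hn), ρ_ι_assoc L hn]
  · simp [ι_eq_zero K hn]

lemma sigmaMap_proj (m : ℤ) :
    sigmaMap φ m ≫ proj L m =
      proj K m ≫ (HomologicalComplex.single B (ComplexShape.up ℤ) m).map (φ.f m) := by
  apply HomologicalComplex.to_single_hom_ext
  rw [HomologicalComplex.comp_f, HomologicalComplex.comp_f, proj_f, proj_f, sigmaMap_f,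
    HomologicalComplex.single_map_f_self]
  simp only [Category.assoc, Iso.inv_hom_id_assoc]
  rw [ρ_ι_assoc L (le_refl m)]

/-- the morphism of short complexes induced on the brutal truncation sequences -/
noncomputable def scMap (m m' : ℤ) (h : m + 1 = m') : sc K m m' h ⟶ sc L m m' h :=
  ShortComplex.homMk (sigmaMap φ m') (sigmaMap φ m)
    ((HomologicalComplex.single B (ComplexShape.up ℤ) m).map (φ.f m))
    (trans_sigmaMap φ (show m ≤ m' by omega)).symm (sigmaMap_proj φ m)

lemma isIso_incl (m : ℤ) (hK : ∀ n, n < m → IsZero (K.X n)) : IsIso (incl K m) := by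
  haveI : ∀ n, IsIso ((incl K m).f n) := by
    intro n
    by_cases hn : m ≤ n
    · exact isIso_ι K hn
    · exact ⟨0, (isZero_sigmaGE_X K hn).eq_of_src _ _, (hK n (by omega)).eq_of_src _ _⟩
  exact HomologicalComplex.Hom.isIso_of_components _

end Sigma

lemma isZero_Q_of_isZero_X (Z : DRing.Cx A) (h : ∀ n, IsZero (Z.X n)) : IsZero (Q.obj Z) := by
  have hZ : IsZero Z := by
    rw [IsZero.iff_id_eq_zero]
    refine HomologicalComplex.hom_ext _ _ fun n => ?_
    exact (h n).eq_of_src _ _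
  exact Q.map_isZero hZ

/-- **a termwise `LEq` between bounded complexes is an `LEq`** -/
theorem leq_of_termwise {X Y : DRing.Cx A} (φ : X ⟶ Y) (a b : ℤ)
    (hX : ∀ i, (i < a ∨ b < i) → IsZero (X.X i)) (hY : ∀ i, (i < a ∨ b < i) → IsZero (Y.X i))
    (h : ∀ i, LEq I (Q.map
      ((HomologicalComplex.single (ModuleCat.{u} A) (ComplexShape.up ℤ) 0).map (φ.f i)))) :
    LEq I (Q.map φ) := by
  have key : ∀ k : ℕ, LEq I (Q.map (sigmaMap φ (b + 1 - k))) := by
    intro k
    induction k with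
    | zero =>
      apply LEq.of_isZero
      · apply isZero_Q_of_isZero_X
        intro n
        by_cases hn : b + 1 - ((0 : ℕ) : ℤ) ≤ n
        · exact isZero_sigmaGE_X' X _ n (hX n (Or.inr (by omega)))
        · exact isZero_sigmaGE_X X hn
      · apply isZero_Q_of_isZero_X
        intro n
        by_cases hn : b + 1 - ((0 : ℕ) : ℤ) ≤ n
        · exact isZero_sigmaGE_X' Y _ n (hY n (Or.inr (by omega)))
        · exact isZero_sigmaGE_X Y hn
    | succ k ih =>
      have hm : b + 1 - ((k + 1 : ℕ) : ℤ) + 1 = b + 1 - (k : ℤ) := by push_cast; ring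
      let f := triangleOfSES.map (sc_shortExact X _ _ hm) (sc_shortExact Y _ _ hm)
        (scMap φ _ _ hm)
      exact LEq.of_triangle_mid (triangleOfSES_distinguished _) (triangleOfSES_distinguished _) f
        ih (leq_single _ _ (h _))
  have hk := key (b + 1 - a).toNat
  have hle : b + 1 - ((b + 1 - a).toNat : ℤ) ≤ a := by
    have := Int.self_le_toNat (b + 1 - a)
    omega
  haveI := isIso_incl (K := X) (b + 1 - ((b + 1 - a).toNat : ℤ))
    (fun n hn => hX n (Or.inl (by omega)))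
  haveI := isIso_incl (K := Y) (b + 1 - ((b + 1 - a).toNat : ℤ))
    (fun n hn => hY n (Or.inl (by omega)))
  refine hk.of_comm _ (asIso (Q.map (incl X _))) (asIso (Q.map (incl Y _))) ?_
  rw [asIso_hom, asIso_hom, ← Functor.map_comp, ← Functor.map_comp, sigmaMap_incl]

end Groth.Agent.Lib.RlimCechH1
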