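import Mathlib
import Groth.Prelude.Def_DerCA
import Groth.Agent.Lib.ExtCechFun_helper7
import Groth.Agent.Lib.DerCompl6_helper2

/-!
# The terms of the extended Čech complex are `N ⊗ F` with `F` flat, naturally in `N` (helper1)

* `ccXIso`: the degree `p` term of the homotopy fibre of `K ⟶ K_f` is `K^p ⊞ (K^{p-1})_f`, naturally.
* `TensData gs i`: a flat module `F` and isomorphisms `(extCech N gs)^i ≅ N ⊗ F` natural in `N`
  (with respect to `extCechMap`); `nonempty_tensData`.
* consequences: functoriality of `extCechMap`, termwise surjectivity, annihilators.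
-/

set_option autoImplicit false
universe u
open CategoryTheory CategoryTheory.Limits CochainComplex HomComplex MonoidalCategory

attribute [local instance] HasDerivedCategory.standard

namespace Groth.Agent.Lib.RlimCechH1

open Groth.Agent.Lib.ExtCechH7 Groth.Agent.Lib.DerCompl

variable {A : Type u} [CommRing A]

section CC

variable (f : A) (K : DRing.Cx A)

/-- first projection on the terms of the homotopy fibre -/
noncomputable def ccFst (p : ℤ) : (cc f K).X p ⟶ K.X p :=
  (mappingCone.fst (DerCA.locCxUnit (Submonoid.powers f) K)).1.v (p + -1) p (by omega)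

/-- second projection -/
noncomputable def ccSnd (p : ℤ) :
    (cc f K).X p ⟶ (DerCA.locFunctor (Submonoid.powers f)).obj (K.X (p + -1)) :=
  (mappingCone.snd (DerCA.locCxUnit (Submonoid.powers f) K)).v (p + -1) (p + -1) (add_zero _)

/-- first inclusion -/
noncomputable def ccInl (p : ℤ) : K.X p ⟶ (cc f K).X p :=
  (mappingCone.inl (DerCA.locCxUnit (Submonoid.powers f) K)).v p (p + -1) (by omega)

/-- second inclusion -/
noncomputable def ccInr (p : ℤ) :
    (DerCA.locFunctor (Submonoid.powers f)).obj (K.X (p + -1)) ⟶ (cc f K).X p :=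
  (mappingCone.inr (DerCA.locCxUnit (Submonoid.powers f) K)).f (p + -1)

lemma ccInl_ccFst (p : ℤ) : ccInl f K p ≫ ccFst f K p = 𝟙 _ :=
  mappingCone.inl_v_fst_v _ p (p + -1) (by omega)

lemma ccInl_ccSnd (p : ℤ) : ccInl f K p ≫ ccSnd f K p = 0 :=
  mappingCone.inl_v_snd_v _ p (p + -1) (by omega)

lemma ccInr_ccFst (p : ℤ) : ccInr f K p ≫ ccFst f K p = 0 :=
  mappingCone.inr_f_fst_v _ (p + -1) p (by omega)

lemma ccInr_ccSnd (p : ℤ) : ccInr f K p ≫ ccSnd f K p = 𝟙 _ :=
  mappingCone.inr_f_snd_v _ (p + -1)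

lemma cc_id (p : ℤ) : ccFst f K p ≫ ccInl f K p + ccSnd f K p ≫ ccInr f K p = 𝟙 _ :=
  mappingCone.id_X _ (p + -1) p (by omega)

/-- the terms of the homotopy fibre of the localization map -/
noncomputable def ccXIso (p : ℤ) :
    (cc f K).X p ≅ K.X p ⊞ (DerCA.locFunctor (Submonoid.powers f)).obj (K.X (p + -1)) where
  hom := biprod.lift (ccFst f K p) (ccSnd f K p)
  inv := biprod.fst ≫ ccInl f K p + biprod.snd ≫ ccInr f K p
  hom_inv_id := by
    rw [Preadditive.comp_add, biprod.lift_fst_assoc, biprod.lift_snd_assoc]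
    exact cc_id f K p
  inv_hom_id := by
    apply biprod.hom_ext
    · rw [Category.assoc, biprod.lift_fst, Preadditive.add_comp, Category.assoc, Category.assoc,
        ccInl_ccFst, ccInr_ccFst, Category.comp_id, comp_zero, add_zero, Category.id_comp]
    · rw [Category.assoc, biprod.lift_snd, Preadditive.add_comp, Category.assoc, Category.assoc,
        ccInl_ccSnd, ccInr_ccSnd, Category.comp_id, comp_zero, zero_add, Category.id_comp]

@[reassoc]
lemma ccXIso_hom_fst (p : ℤ) : (ccXIso f K p).hom ≫ biprod.fst = ccFst f K p := biprod.lift_fst _ _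

@[reassoc]
lemma ccXIso_hom_snd (p : ℤ) : (ccXIso f K p).hom ≫ biprod.snd = ccSnd f K p := biprod.lift_snd _ _

variable {K} in
@[reassoc]
lemma ccMap_ccFst {K' : DRing.Cx A} (a : K ⟶ K') (p : ℤ) :
    (ccMap f a).f p ≫ ccFst f K' p = ccFst f K p ≫ a.f p :=
  coneMap_fst _ _ a _ (locCxUnit_nat (Submonoid.powers f) a) (p + -1) p (by omega)

variable {K} in
@[reassoc]
lemma ccMap_ccSnd {K' : DRing.Cx A} (a : K ⟶ K') (p : ℤ) :
    (ccMap f a).f p ≫ ccSnd f K' p =
      ccSnd f K p ≫ (DerCA.locFunctor (Submonoid.powers f)).map (a.f (p + -1)) :=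
  coneMap_snd _ _ a _ (locCxUnit_nat (Submonoid.powers f) a) (p + -1)

end CC

lemma subsingleton_tensor_punit (N : Type u) [AddCommGroup N] [Module A N] :
    Subsingleton (TensorProduct A N PUnit.{u + 1}) := by
  refine subsingleton_of_forall_eq 0 fun z => ?_
  induction z using TensorProduct.induction_on with
  | zero => rfl
  | tmul x y => rw [Subsingleton.elim y 0, TensorProduct.tmul_zero]
  | add x y hx hy => rw [hx, hy, add_zero]

lemma flat_prod (M₁ M₂ : Type u) [AddCommGroup M₁] [Module A M₁] [AddCommGroup M₂] [Module A M₂]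
    [Module.Flat A M₁] [Module.Flat A M₂] : Module.Flat A (M₁ × M₂) := by
  rw [Module.Flat.iff_rTensor_preserves_injective_linearMap]
  intro N N' _ _ _ _ f hf
  have h1 := Module.Flat.rTensor_preserves_injective_linearMap (M := M₁) f hf
  have h2 := Module.Flat.rTensor_preserves_injective_linearMap (M := M₂) f hf
  have key : (TensorProduct.prodRight A A N' M₁ M₂).toLinearMap ∘ₗ f.rTensor (M₁ × M₂) =
      (LinearMap.prodMap (f.rTensor M₁) (f.rTensor M₂)) ∘ₗ
        (TensorProduct.prodRight A A N M₁ M₂).toLinearMap := by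
    apply TensorProduct.ext'
    intro n m
    simp
  have h4 : ∀ z, (TensorProduct.prodRight A A N' M₁ M₂) (f.rTensor (M₁ × M₂) z) =
      (LinearMap.prodMap (f.rTensor M₁) (f.rTensor M₂))
        (TensorProduct.prodRight A A N M₁ M₂ z) := fun z => LinearMap.congr_fun key z
  have h5 : Function.Injective (LinearMap.prodMap (f.rTensor M₁) (f.rTensor M₂)) := by
    rw [LinearMap.coe_prodMap]
    exact Prod.map_injective.2 ⟨h1, h2⟩
  intro x y hxy
  have h3 := congrArg (TensorProduct.prodRight A A N' M₁ M₂) hxy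
  rw [h4, h4] at h3
  exact (TensorProduct.prodRight A A N M₁ M₂).injective (h5 h3)

/-- `N ⊗ (F₁ ⊞ F₂) ≅ (N ⊗ F₁) ⊞ (N ⊗ F₂)` -/
noncomputable def tensBiprodIso (N F₁ F₂ : ModuleCat.{u} A) :
    N ⊗ (F₁ ⊞ F₂) ≅ (N ⊗ F₁) ⊞ (N ⊗ F₂) where
  hom := biprod.lift (N ◁ biprod.fst) (N ◁ biprod.snd)
  inv := biprod.fst ≫ N ◁ biprod.inl + biprod.snd ≫ N ◁ biprod.inr
  hom_inv_id := by
    rw [Preadditive.comp_add, biprod.lift_fst_assoc, biprod.lift_snd_assoc,
      ← MonoidalCategory.whiskerLeft_comp, ← MonoidalCategory.whiskerLeft_comp,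
      ← MonoidalPreadditive.whiskerLeft_add, biprod.total, MonoidalCategory.whiskerLeft_id]
  inv_hom_id := by
    apply biprod.hom_ext
    · rw [Category.assoc, biprod.lift_fst, Preadditive.add_comp, Category.assoc, Category.assoc,
        ← MonoidalCategory.whiskerLeft_comp, ← MonoidalCategory.whiskerLeft_comp, biprod.inl_fst,
        biprod.inr_fst, MonoidalCategory.whiskerLeft_id, MonoidalPreadditive.whiskerLeft_zero,
        Category.comp_id, comp_zero, add_zero, Category.id_comp]
    · rw [Category.assoc, biprod.lift_snd, Preadditive.add_comp, Category.assoc, Category.assoc,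
        ← MonoidalCategory.whiskerLeft_comp, ← MonoidalCategory.whiskerLeft_comp, biprod.inl_snd,
        biprod.inr_snd, MonoidalCategory.whiskerLeft_id, MonoidalPreadditive.whiskerLeft_zero,
        Category.comp_id, comp_zero, zero_add, Category.id_comp]

lemma tensBiprodIso_naturality {N N' : ModuleCat.{u} A} (g : N ⟶ N') (F₁ F₂ : ModuleCat.{u} A) :
    g ▷ (F₁ ⊞ F₂) ≫ (tensBiprodIso N' F₁ F₂).hom =
      (tensBiprodIso N F₁ F₂).hom ≫ biprod.map (g ▷ F₁) (g ▷ F₂) := by
  apply biprod.hom_ext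
  · rw [Category.assoc, Category.assoc, biprod.map_fst]
    show g ▷ (F₁ ⊞ F₂) ≫ biprod.lift (N' ◁ biprod.fst) (N' ◁ biprod.snd) ≫ biprod.fst =
      biprod.lift (N ◁ biprod.fst) (N ◁ biprod.snd) ≫ biprod.fst ≫ g ▷ F₁
    rw [biprod.lift_fst, biprod.lift_fst_assoc]
    exact (whisker_exchange g biprod.fst).symm
  · rw [Category.assoc, Category.assoc, biprod.map_snd]
    show g ▷ (F₁ ⊞ F₂) ≫ biprod.lift (N' ◁ biprod.fst) (N' ◁ biprod.snd) ≫ biprod.snd =
      biprod.lift (N ◁ biprod.fst) (N ◁ biprod.snd) ≫ biprod.snd ≫ g ▷ F₂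
    rw [biprod.lift_snd, biprod.lift_snd_assoc]
    exact (whisker_exchange g biprod.snd).symm

/-- a flat module `F` with natural isomorphisms `(extCech N gs)^i ≅ N ⊗ F` -/
structure TensData (gs : List A) (i : ℤ) where
  /-- the flat module -/
  F : ModuleCat.{u} A
  flat : Module.Flat A F
  /-- the isomorphisms -/
  θ : ∀ N : ModuleCat.{u} A, (DerCA.extCech N gs).X i ≅ N ⊗ F
  nat : ∀ {N N' : ModuleCat.{u} A} (g : N ⟶ N'),
    (extCechMap g gs).f i ≫ (θ N').hom = (θ N).hom ≫ (g ▷ F)

theorem nonempty_tensData : ∀ (gs : List A) (i : ℤ), Nonempty (TensData gs i)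
  | [], i => by
    by_cases hi : i = 0
    · subst hi
      have key : ∀ {N N' : ModuleCat.{u} A} (g : N ⟶ N'),
          ((HomologicalComplex.single (ModuleCat.{u} A) (ComplexShape.up ℤ) 0).map g).f 0 ≫
            (HomologicalComplex.singleObjXSelf (ComplexShape.up ℤ) 0 N' ≪≫ (ρ_ N').symm).hom =
          (HomologicalComplex.singleObjXSelf (ComplexShape.up ℤ) 0 N ≪≫ (ρ_ N).symm).hom ≫
            g ▷ 𝟙_ (ModuleCat.{u} A) := by
        intro N N' g
        rw [HomologicalComplex.single_map_f_self]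
        simp only [Iso.trans_hom, Iso.symm_hom, Category.assoc, Iso.inv_hom_id_assoc]
        rw [rightUnitor_inv_naturality]
      exact ⟨⟨𝟙_ (ModuleCat.{u} A), (inferInstance : Module.Flat A A), fun N =>
        HomologicalComplex.singleObjXSelf (ComplexShape.up ℤ) 0 N ≪≫ (ρ_ N).symm,
        fun g => key g⟩⟩
    · have hz : ∀ N : ModuleCat.{u} A, IsZero ((DerCA.extCech N []).X i) := fun N =>
        HomologicalComplex.isZero_single_obj_X (ComplexShape.up ℤ) 0 N i hi
      have hz' : ∀ N : ModuleCat.{u} A,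
          IsZero (MonoidalCategory.tensorObj N (ModuleCat.of A PUnit.{u + 1})) := fun N => by
        haveI : Subsingleton ↑(MonoidalCategory.tensorObj N (ModuleCat.of A PUnit.{u + 1})) :=
          subsingleton_tensor_punit N
        exact ModuleCat.isZero_of_subsingleton _
      refine ⟨⟨ModuleCat.of A PUnit.{u + 1}, (inferInstance : Module.Flat A PUnit.{u + 1}),
        fun N => (hz N).iso (hz' N), ?_⟩⟩
      intro N N' g
      exact (hz N).eq_of_src _ _
  | f :: gs, i => by
    obtain ⟨D₁⟩ := nonempty_tensData gs i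
    obtain ⟨D₂⟩ := nonempty_tensData gs (i + -1)
    let B : ModuleCat.{u} A := ModuleCat.of A (Localization.Away f)
    let L := DerCA.locFunctor (R := A) (Submonoid.powers f)
    let F₁ := D₁.F
    let F₂ := D₂.F
    let F' : ModuleCat.{u} A := F₂ ⊗ B
    haveI : Module.Flat A F₁ := D₁.flat
    haveI : Module.Flat A F₂ := D₂.flat
    haveI hF' : Module.Flat A F' :=
      (inferInstance : Module.Flat A (TensorProduct A F₂ (Localization.Away f)))
    haveI : Module.Flat A (↑F₁ × ↑F') := flat_prod _ _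
    have hF : Module.Flat A ↑(F₁ ⊞ F') :=
      Module.Flat.of_linearEquiv (ModuleCat.biprodIsoProd F₁ F').toLinearEquiv
    let β : ∀ N : ModuleCat.{u} A, L.obj ((DerCA.extCech N gs).X (i + -1)) ≅ N ⊗ F' := fun N =>
      L.mapIso (D₂.θ N) ≪≫ locTensIso f (N ⊗ F₂) ≪≫ α_ N F₂ B
    have hβ : ∀ {N N' : ModuleCat.{u} A} (g : N ⟶ N'),
        L.map ((extCechMap g gs).f (i + -1)) ≫ (β N').hom = (β N).hom ≫ g ▷ F' := by
      intro N N' g
      show L.map ((extCechMap g gs).f (i + -1)) ≫ L.map (D₂.θ N').hom ≫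
          (locTensIso f (N' ⊗ F₂)).hom ≫ (α_ N' F₂ B).hom =
        (L.map (D₂.θ N).hom ≫ (locTensIso f (N ⊗ F₂)).hom ≫ (α_ N F₂ B).hom) ≫ g ▷ F'
      rw [← Category.assoc, ← L.map_comp, D₂.nat g, L.map_comp, Category.assoc]
      have h1 : L.map (g ▷ F₂) ≫ (locTensIso f (N' ⊗ F₂)).hom =
          (locTensIso f (N ⊗ F₂)).hom ≫ (g ▷ F₂) ▷ B := locTens_naturality f (g ▷ F₂)
      rw [← Category.assoc (L.map (g ▷ F₂)), h1]
      simp only [Category.assoc]
      rw [associator_naturality_left]
    refine ⟨⟨F₁ ⊞ F', hF, fun N => ccXIso f (DerCA.extCech N gs) i ≪≫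
      biprod.mapIso (D₁.θ N) (β N) ≪≫ (tensBiprodIso N F₁ F').symm, ?_⟩⟩
    intro N N' g
    have hδ := tensBiprodIso_naturality g F₁ F'
    rw [← cancel_mono (tensBiprodIso N' F₁ F').hom]
    show (ccMap f (extCechMap g gs)).f i ≫ ((ccXIso f (DerCA.extCech N' gs) i).hom ≫
        biprod.map (D₁.θ N').hom (β N').hom ≫ (tensBiprodIso N' F₁ F').inv) ≫
        (tensBiprodIso N' F₁ F').hom =
      (((ccXIso f (DerCA.extCech N gs) i).hom ≫
        biprod.map (D₁.θ N).hom (β N).hom ≫ (tensBiprodIso N F₁ F').inv) ≫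
        g ▷ (F₁ ⊞ F')) ≫ (tensBiprodIso N' F₁ F').hom
    simp only [Category.assoc, Iso.inv_hom_id, Category.comp_id]
    rw [hδ, Iso.inv_hom_id_assoc]
    apply biprod.hom_ext
    · simp only [Category.assoc]
      rw [biprod.map_fst, biprod.map_fst, biprod.map_fst_assoc, ccXIso_hom_fst_assoc,
        ccXIso_hom_fst_assoc, ccMap_ccFst_assoc, D₁.nat g]
    · simp only [Category.assoc]
      rw [biprod.map_snd, biprod.map_snd, biprod.map_snd_assoc, ccXIso_hom_snd_assoc,
        ccXIso_hom_snd_assoc, ccMap_ccSnd_assoc, hβ g]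

/-- a choice of tensor data -/
noncomputable def tensData (gs : List A) (i : ℤ) : TensData gs i :=
  (nonempty_tensData gs i).some

section Consequences

variable (gs : List A)

lemma extCechMap_f_eq {N N' : ModuleCat.{u} A} (g : N ⟶ N') (i : ℤ) :
    (extCechMap g gs).f i =
      ((tensData gs i).θ N).hom ≫ g ▷ (tensData gs i).F ≫ ((tensData gs i).θ N').inv := by
  rw [← Category.assoc, ← (tensData gs i).nat g, Category.assoc, Iso.hom_inv_id, Category.comp_id]

lemma extCechMap_comp {N N' N'' : ModuleCat.{u} A} (g : N ⟶ N') (g' : N' ⟶ N'') :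
    extCechMap g gs ≫ extCechMap g' gs = extCechMap (g ≫ g') gs := by
  refine HomologicalComplex.hom_ext _ _ fun i => ?_
  rw [HomologicalComplex.comp_f, extCechMap_f_eq, extCechMap_f_eq, extCechMap_f_eq]
  simp only [Category.assoc, Iso.inv_hom_id_assoc, comp_whiskerRight]

lemma whiskerRight_surjective {N N' : ModuleCat.{u} A} (g : N ⟶ N') (F : ModuleCat.{u} A)
    (hg : Function.Surjective g.hom) : Function.Surjective (g ▷ F).hom := by
  intro z
  induction z using TensorProduct.induction_on with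
  | zero => exact ⟨0, map_zero _⟩
  | tmul x y =>
    obtain ⟨x', rfl⟩ := hg x
    exact ⟨TensorProduct.tmul A x' y, ModuleCat.MonoidalCategory.whiskerRight_apply g F x' y⟩
  | add x y hx hy =>
    obtain ⟨x', rfl⟩ := hx
    obtain ⟨y', rfl⟩ := hy
    exact ⟨x' + y', map_add _ _ _⟩

lemma extCechMap_f_surjective {N N' : ModuleCat.{u} A} (g : N ⟶ N')
    (hg : Function.Surjective g.hom) (i : ℤ) :
    Function.Surjective ((extCechMap g gs).f i).hom := by
  rw [extCechMap_f_eq]
  intro z
  obtain ⟨w, hw⟩ := whiskerRight_surjective g (tensData gs i).F hg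
    (((tensData gs i).θ N').hom.hom z)
  refine ⟨((tensData gs i).θ N).inv.hom w, ?_⟩
  show ((tensData gs i).θ N').inv.hom ((g ▷ (tensData gs i).F).hom
    (((tensData gs i).θ N).hom.hom (((tensData gs i).θ N).inv.hom w))) = z
  have h1 : ((tensData gs i).θ N).hom.hom (((tensData gs i).θ N).inv.hom w) = w :=
    congrArg (fun t => t.hom w) ((tensData gs i).θ N).inv_hom_id
  rw [h1, hw]
  exact congrArg (fun t => t.hom z) ((tensData gs i).θ N').hom_inv_id

lemma smul_eq_zero_of (N : ModuleCat.{u} A) (r : A) (hr : ∀ x : N, r • x = 0) (i : ℤ)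
    (z : (DerCA.extCech N gs).X i) : r • z = 0 := by
  have h0 : ∀ w : ↑(N ⊗ (tensData gs i).F), r • w = 0 := by
    intro w
    induction w using TensorProduct.induction_on with
    | zero => exact smul_zero _
    | tmul x y => rw [TensorProduct.smul_tmul', hr x, TensorProduct.zero_tmul]
    | add x y hx hy => rw [smul_add, hx, hy, add_zero]
  have h1 : ((tensData gs i).θ N).inv.hom (((tensData gs i).θ N).hom.hom z) = z :=
    congrArg (fun t => t.hom z) ((tensData gs i).θ N).hom_inv_id
  rw [← h1, ← map_smul, h0, map_zero]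

lemma smul_id_extCech_eq_zero (N : ModuleCat.{u} A) (r : A) (hr : ∀ x : N, r • x = 0) :
    r • 𝟙 (DerCA.extCech N gs) = 0 := by
  refine HomologicalComplex.hom_ext _ _ fun i => ?_
  refine ModuleCat.hom_ext (LinearMap.ext fun z => ?_)
  exact smul_eq_zero_of gs N r hr i z

end Consequences

end Groth.Agent.Lib.RlimCechH1
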