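import Mathlib
import Groth.Agent.Lib.RlimCech1_helper1
import Groth.Agent.Lib.RlimCech2_helper1
import Groth.Agent.Lib.RlimCech3_helper1
import Groth.Agent.Lib.AdicFlat4_helper6
import Groth.Agent.Lib.ExtCechOld_helper7

/-!
# The tower of extended Čech complexes of `M/I^n M` and its limit (helper1)

* `exists_equiv_adicCompletion`: a tower of quotients of `P` with kernels `I^n P` has limit the
  adic completion of `P`.
* `cMap`: the canonical map `extCech M gs ⟶ lim_n extCech (M/I^n M) gs`.
* `leq_cMap`: for `M` finite over Noetherian `A`, `Q (cMap)` is universal among maps to derived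
  complete objects.
-/

set_option autoImplicit false
universe u
open CategoryTheory CategoryTheory.Limits CategoryTheory.Pretriangulated DerivedCategory
  MonoidalCategory

attribute [local instance] HasDerivedCategory.standard

namespace Groth.Agent.Lib.RlimCechH1

open Groth.Agent.Lib.ExtCechH7 Groth.Agent.Lib.DerCompl

variable {A : Type u} [CommRing A]

/-- a tower of quotients of `P` with kernels `I^n P` has limit the adic completion of `P` -/
theorem exists_equiv_adicCompletion (I : Ideal A) (P : Type u) [AddCommGroup P] [Module A P]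
    (Pn : ℕ → Type u) [∀ n, AddCommGroup (Pn n)] [∀ n, Module A (Pn n)]
    (t : ∀ n, Pn (n + 1) →ₗ[A] Pn n) (p : ∀ n, P →ₗ[A] Pn n)
    (hsurj : ∀ n, Function.Surjective (p n))
    (hker : ∀ n, LinearMap.ker (p n) = (I ^ n • ⊤ : Submodule A P))
    (hcompat : ∀ n x, t n (p (n + 1) x) = p n x)
    (L : Submodule A (∀ n, Pn n)) (hL : ∀ x, x ∈ L ↔ ∀ n, t n (x (n + 1)) = x n) :
    ∃ Ψ : AdicCompletion I P ≃ₗ[A] L,
      ∀ (z : P) (n : ℕ), (Ψ (AdicCompletion.of I P z)).1 n = p n z := by
  let e : ∀ n, (P ⧸ (I ^ n • ⊤ : Submodule A P)) ≃ₗ[A] Pn n := fun n =>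
    (Submodule.quotEquivOfEq _ _ (hker n).symm).trans ((p n).quotKerEquivOfSurjective (hsurj n))
  have he : ∀ n z, e n (Submodule.Quotient.mk z) = p n z := fun n z => rfl
  have htr : ∀ {m n : ℕ} (hmn : m ≤ n) (z : P),
      AdicCompletion.transitionMap I P hmn (Submodule.Quotient.mk z) = Submodule.Quotient.mk z :=
    fun _ _ => rfl
  let Φ : AdicCompletion I P →ₗ[A] L :=
    { toFun := fun y => ⟨fun n => e n (y.val n), (hL _).2 (fun n => by
        obtain ⟨z, hz⟩ := Submodule.Quotient.mk_surjective _ (y.val (n + 1))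
        have h1 : y.val n = Submodule.Quotient.mk z := by
          rw [← y.2 (Nat.le_succ n), ← hz, htr]
        show t n (e (n + 1) (y.val (n + 1))) = e n (y.val n)
        rw [h1, ← hz, he, he, hcompat])⟩
      map_add' := fun y y' => Subtype.ext (funext fun n => by
        show e n ((y + y').val n) = e n (y.val n) + e n (y'.val n)
        rw [AdicCompletion.val_add_apply, map_add])
      map_smul' := fun r y => Subtype.ext (funext fun n => by
        show e n ((r • y).val n) = r • e n (y.val n)
        rw [AdicCompletion.val_smul_apply, map_smul]) }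
  have hΦ : ∀ y n, (Φ y).1 n = e n (y.val n) := fun _ _ => rfl
  have hinj : Function.Injective Φ := by
    intro y y' h
    apply AdicCompletion.ext
    intro n
    have h1 := congrFun (congrArg Subtype.val h) n
    rw [hΦ, hΦ] at h1
    exact (e n).injective h1
  have hsur : Function.Surjective Φ := by
    intro x
    have hx := (hL x.1).1 x.2
    have key : ∀ (m n : ℕ) (hmn : m ≤ n) (z : P), x.1 n = p n z → x.1 m = p m z := by
      intro m n hmn
      induction n, hmn using Nat.le_induction with
      | base => exact fun z h => h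
      | succ n hmn ih =>
        intro z hz
        apply ih
        rw [← hx n, hz, hcompat]
    refine ⟨⟨fun n => (e n).symm (x.1 n), ?_⟩, ?_⟩
    · intro m n hmn
      obtain ⟨z, hz⟩ := hsurj n (x.1 n)
      have h1 : (e n).symm (x.1 n) = Submodule.Quotient.mk z := by
        rw [LinearEquiv.symm_apply_eq, he, hz]
      have h2 : (e m).symm (x.1 m) = Submodule.Quotient.mk z := by
        rw [LinearEquiv.symm_apply_eq, he]
        exact key m n hmn z hz.symm
      show AdicCompletion.transitionMap I P hmn ((e n).symm (x.1 n)) = (e m).symm (x.1 m)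
      rw [h1, h2, htr]
    · apply Subtype.ext
      funext n
      rw [hΦ]
      exact (e n).apply_symm_apply _
  refine ⟨LinearEquiv.ofBijective Φ ⟨hinj, hsur⟩, fun z n => ?_⟩
  show e n ((AdicCompletion.of I P z).val n) = p n z
  rw [AdicCompletion.of_apply]
  exact he n z

lemma isZero_limCx_X (X : ℕ → DRing.Cx A) (τ : ∀ n, X (n + 1) ⟶ X n) (i : ℤ)
    (h : ∀ n, IsZero ((X n).X i)) : IsZero ((limCx X τ).X i) := by
  haveI : Subsingleton ↑((limCx X τ).X i) := by
    refine ⟨fun x y => Subtype.ext (funext fun n => ?_)⟩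
    haveI := ModuleCat.subsingleton_of_isZero (h n)
    exact Subsingleton.elim _ _
  exact ModuleCat.isZero_of_subsingleton _

section Quot

variable (I : Ideal A) (gs : List A) (M : Type u) [AddCommGroup M] [Module A M]

/-- `M/I^n M` -/
noncomputable abbrev Nn (n : ℕ) : ModuleCat.{u} A :=
  ModuleCat.of A (M ⧸ (I ^ n • ⊤ : Submodule A M))

/-- the transition maps -/
noncomputable abbrev qn (n : ℕ) : Nn I M (n + 1) ⟶ Nn I M n :=
  ModuleCat.ofHom (Submodule.mapQ (I ^ (n + 1) • ⊤ : Submodule A M) (I ^ n • ⊤ : Submodule A M)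
    LinearMap.id (Submodule.smul_mono (Ideal.pow_le_pow_right (Nat.le_succ n)) le_rfl))

/-- the projections -/
noncomputable abbrev πn (n : ℕ) : ModuleCat.of A M ⟶ Nn I M n :=
  ModuleCat.ofHom (Submodule.mkQ (I ^ n • ⊤ : Submodule A M))

lemma πn_qn (n : ℕ) : πn I M (n + 1) ≫ qn I M n = πn I M n := rfl

lemma πn_surjective (n : ℕ) : Function.Surjective (πn I M n).hom :=
  Submodule.mkQ_surjective _

lemma qn_surjective (n : ℕ) : Function.Surjective (qn I M n).hom := by
  intro y
  obtain ⟨x, rfl⟩ := Submodule.mkQ_surjective _ y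
  exact ⟨Submodule.Quotient.mk x, rfl⟩

/-- the tower of extended Čech complexes -/
noncomputable abbrev Xn (n : ℕ) : DRing.Cx A := DerCA.extCech (Nn I M n) gs

/-- its transition maps -/
noncomputable abbrev τn (n : ℕ) : Xn I gs M (n + 1) ⟶ Xn I gs M n := extCechMap (qn I M n) gs

lemma τn_surjective (n : ℕ) (i : ℤ) : Function.Surjective ((τn I gs M n).f i).hom :=
  extCechMap_f_surjective gs _ (qn_surjective I M n) i

/-- the canonical map to the limit of the tower -/
noncomputable def cMap :
    DerCA.extCech (ModuleCat.of A M) gs ⟶ limCx (Xn I gs M) (τn I gs M) :=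
  limLift (fun n => extCechMap (πn I M n) gs) (fun n => by
    rw [extCechMap_comp, πn_qn])

lemma cMap_f_apply (i : ℤ) (z : (DerCA.extCech (ModuleCat.of A M) gs).X i) (n : ℕ) :
    (((cMap I gs M).f i).hom z).1 n = ((extCechMap (πn I M n) gs).f i).hom z := rfl

end Quot

section Main

variable [IsNoetherianRing A] (fs gs : List A) (M : Type u) [AddCommGroup M] [Module A M]
  [Module.Finite A M]

/-- termwise, `cMap` is the adic completion map of `M ⊗ F` with `F` flat -/
theorem leq_cMap_f (i : ℤ) :
    LEq (Ideal.span {x : A | x ∈ fs}) (Q.map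
      ((HomologicalComplex.single (ModuleCat.{u} A) (ComplexShape.up ℤ) 0).map
        ((cMap (Ideal.span {x : A | x ∈ fs}) gs M).f i))) := by
  let I : Ideal A := Ideal.span {x : A | x ∈ fs}
  let D := tensData gs i
  let F : ModuleCat.{u} A := D.F
  haveI : Module.Flat A F := D.flat
  let Mm : ModuleCat.{u} A := ModuleCat.of A M
  let P := TensorProduct A M F
  let p : ∀ n, P →ₗ[A] ((Xn I gs M n).X i) := fun n =>
    (D.θ (Nn I M n)).inv.hom ∘ₗ (πn I M n ▷ F).hom
  have hθinj : ∀ n, Function.Injective (D.θ (Nn I M n)).inv.hom := fun n x y h => by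
    have := congrArg (D.θ (Nn I M n)).hom.hom h
    have e1 : ∀ w, (D.θ (Nn I M n)).hom.hom ((D.θ (Nn I M n)).inv.hom w) = w := fun w =>
      congrArg (fun t => t.hom w) (D.θ (Nn I M n)).inv_hom_id
    rwa [e1, e1] at this
  have hθsurj : ∀ n, Function.Surjective (D.θ (Nn I M n)).inv.hom := fun n y =>
    ⟨(D.θ (Nn I M n)).hom.hom y, congrArg (fun t => t.hom y) (D.θ (Nn I M n)).hom_inv_id⟩
  have hsurj : ∀ n, Function.Surjective (p n) := fun n =>
    (hθsurj n).comp (whiskerRight_surjective (πn I M n) F (πn_surjective I M n))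
  have hwr : ∀ n, (πn I M n ▷ F).hom =
      LinearMap.rTensor F (Submodule.mkQ (I ^ n • ⊤ : Submodule A M)) := fun n => rfl
  have hker : ∀ n, LinearMap.ker (p n) = (I ^ n • ⊤ : Submodule A P) := by
    intro n
    rw [Groth.Agent.Lib.AdicFlatH6.smul_top_tensor_eq_ker F (I ^ n), ← hwr]
    ext x
    rw [LinearMap.mem_ker, LinearMap.mem_ker]
    constructor
    · intro h
      exact hθinj n (h.trans (map_zero _).symm)
    · intro h
      show (D.θ (Nn I M n)).inv.hom ((πn I M n ▷ F).hom x) = 0
      rw [h, map_zero]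
  have hcompat : ∀ n x, ((τn I gs M n).f i).hom (p (n + 1) x) = p n x := by
    intro n x
    have h1 : (D.θ (Nn I M (n + 1))).inv ≫ (τn I gs M n).f i =
        qn I M n ▷ F ≫ (D.θ (Nn I M n)).inv := by
      rw [Iso.inv_comp_eq, ← Category.assoc, Iso.eq_comp_inv]
      exact D.nat (qn I M n)
    have h2 : πn I M (n + 1) ▷ F ≫ (D.θ (Nn I M (n + 1))).inv ≫ (τn I gs M n).f i =
        πn I M n ▷ F ≫ (D.θ (Nn I M n)).inv := by
      rw [h1, ← Category.assoc, ← comp_whiskerRight, πn_qn]
    exact congrArg (fun t => t.hom x) h2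
  obtain ⟨Ψ, hΨ⟩ := exists_equiv_adicCompletion I P (fun n => (Xn I gs M n).X i)
    (fun n => ((τn I gs M n).f i).hom) p hsurj hker hcompat
    (limSub (Xn I gs M) (τn I gs M) i) (fun x => Iff.rfl)
  let Ψ' : (limCx (Xn I gs M) (τn I gs M)).X i ≅ ModuleCat.of A (AdicCompletion I P) :=
    (Ψ.symm).toModuleIso
  have hsq : (cMap I gs M).f i ≫ Ψ'.hom =
      (D.θ Mm).hom ≫ ModuleCat.ofHom (AdicCompletion.of I P) := by
    refine ModuleCat.hom_ext (LinearMap.ext fun z => ?_)
    show Ψ.symm (((cMap I gs M).f i).hom z) = AdicCompletion.of I P ((D.θ Mm).hom.hom z)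
    rw [LinearEquiv.symm_apply_eq]
    apply Subtype.ext
    funext n
    rw [hΨ, cMap_f_apply]
    have h3 := congrArg (fun t => t.hom z) (extCechMap_f_eq gs (πn I M n) i)
    exact h3
  have h0 : LEq I (Q.map (Groth.Agent.Lib.AdicFlatH6.sgOf fs M F)) := fun E hE =>
    Groth.Agent.Lib.AdicFlatH6.bijective_precomp_sgOf fs M F E hE
  let S0 := HomologicalComplex.single (ModuleCat.{u} A) (ComplexShape.up ℤ) 0
  refine h0.of_comm _ (Q.mapIso (S0.mapIso (D.θ Mm).symm)) (Q.mapIso (S0.mapIso Ψ'.symm)) ?_
  show Q.map (S0.map (ModuleCat.ofHom (AdicCompletion.of I P))) ≫ Q.map (S0.map Ψ'.inv) =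
    Q.map (S0.map (D.θ Mm).inv) ≫ Q.map (S0.map ((cMap I gs M).f i))
  rw [← Functor.map_comp, ← Functor.map_comp, ← Functor.map_comp, ← Functor.map_comp]
  congr 2
  rw [Iso.eq_inv_comp, ← Category.assoc, Iso.comp_inv_eq]
  exact hsq.symm

/-- **`Q (cMap)` is universal among maps to derived complete objects** -/
theorem leq_cMap :
    LEq (Ideal.span {x : A | x ∈ fs}) (Q.map (cMap (Ideal.span {x : A | x ∈ fs}) gs M)) := by
  refine leq_of_termwise _ 0 (gs.length : ℤ) ?_ ?_ (leq_cMap_f fs gs M)
  · intro i hi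
    exact Groth.Agent.Lib.ExtCechOldH7.isZero_X _ gs i hi
  · intro i hi
    exact isZero_limCx_X _ _ i (fun n => Groth.Agent.Lib.ExtCechOldH7.isZero_X _ gs i hi)

end Main

end Groth.Agent.Lib.RlimCechH1
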