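import Mathlib
import Groth.Agent.Lib.RlimCech4_helper1
import Groth.Agent.Lib.LocFib4_helper2
import Groth.Agent.Lib.DerCompl4_helper2

/-!
# Derived completion of `RΓ_J(M)` as a derived limit (helper1)

* `gammaIso`: `Q (extCech N gs) ≅ RΓ_J (N[0])`, natural in `N` (from helper2's iterated fibres).
* `isDerivedComplete_Q_limCx`: the limit of the tower of Čech complexes of `M/I^n M` is derived
  complete.
* `main1815`: the derived completion of `RΓ_J(M)` is `R lim RΓ_J(M/I^n M)`.
-/

set_option autoImplicit false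
universe u
open CategoryTheory CategoryTheory.Limits CategoryTheory.Pretriangulated DerivedCategory

attribute [local instance] HasDerivedCategory.standard

namespace Groth.Agent.Lib.RlimCechH1

open Groth.Agent.Lib.ExtCechH7 Groth.Agent.Lib.DerCompl Groth.Agent.Lib.LocFib

variable {A : Type u} [CommRing A]

/-! ### The Čech model of `RΓ_J` -/

/-- the canonical map from the extended Čech complex to `N[0]` -/
noncomputable def epsC (N : ModuleCat.{u} A) : ∀ gs : List A, DerCA.extCech N gs ⟶
    (HomologicalComplex.single (ModuleCat.{u} A) (ComplexShape.up ℤ) 0).obj N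
  | [] => 𝟙 _
  | f :: gs => CochainComplex.mappingCocone.fst
      (DerCA.locCxUnit (Submonoid.powers f) (DerCA.extCech N gs)) ≫ epsC N gs

theorem iterFib_epsC (N : ModuleCat.{u} A) : ∀ gs : List A,
    IterFib gs (Q.obj (DerCA.extCech N gs))
      (Q.obj ((HomologicalComplex.single (ModuleCat.{u} A) (ComplexShape.up ℤ) 0).obj N))
      (Q.map (epsC N gs))
  | [] => by
    show IsIso (Q.map (𝟙 _))
    rw [Q.map_id]
    infer_instance
  | f :: gs => ⟨Q.obj (DerCA.extCech N gs),
      Q.map (CochainComplex.mappingCocone.fst (ηf f (DerCA.extCech N gs))),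
      Q.map (epsC N gs), iterFib_epsC N gs, fib_cc f _, by rw [← Q.map_comp]; rfl⟩

lemma extCechMap_epsC {N N' : ModuleCat.{u} A} (g : N ⟶ N') : ∀ gs : List A,
    extCechMap g gs ≫ epsC N' gs =
      epsC N gs ≫ (HomologicalComplex.single (ModuleCat.{u} A) (ComplexShape.up ℤ) 0).map g
  | [] => by
    show (HomologicalComplex.single (ModuleCat.{u} A) (ComplexShape.up ℤ) 0).map g ≫ 𝟙 _ =
      𝟙 _ ≫ (HomologicalComplex.single (ModuleCat.{u} A) (ComplexShape.up ℤ) 0).map g
    rw [Category.comp_id, Category.id_comp]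
  | f :: gs => by
    show ccMap f (extCechMap g gs) ≫ CochainComplex.mappingCocone.fst _ ≫ epsC N' gs =
      (CochainComplex.mappingCocone.fst _ ≫ epsC N gs) ≫ _
    rw [← Category.assoc, ccMap_fst, Category.assoc, extCechMap_epsC g gs, Category.assoc]

/-- `Q (N[0]) ≅ (singleFunctor 0).obj N` -/
noncomputable def sIso (N : ModuleCat.{u} A) :
    Q.obj ((HomologicalComplex.single (ModuleCat.{u} A) (ComplexShape.up ℤ) 0).obj N) ≅
      (DerivedCategory.singleFunctor (ModuleCat.{u} A) 0).obj N :=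
  ((DerivedCategory.singleFunctorIsoCompQ (ModuleCat.{u} A) 0).app N).symm

lemma sIso_naturality {N N' : ModuleCat.{u} A} (g : N ⟶ N') :
    Q.map ((HomologicalComplex.single (ModuleCat.{u} A) (ComplexShape.up ℤ) 0).map g) ≫
        (sIso N').hom =
      (sIso N).hom ≫ (DerivedCategory.singleFunctor (ModuleCat.{u} A) 0).map g :=
  (DerivedCategory.singleFunctorIsoCompQ (ModuleCat.{u} A) 0).inv.naturality g

section Gamma

variable [IsNoetherianRing A] (gs : List A) [DRing.HasRgammaI (Ideal.span {x : A | x ∈ gs})]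

theorem exists_gamma (N : ModuleCat.{u} A) :
    ∃ γ : Q.obj (DerCA.extCech N gs) ≅ (DRing.RgammaI (Ideal.span {x : A | x ∈ gs})).obj
        ((DerivedCategory.singleFunctor (ModuleCat.{u} A) 0).obj N),
      γ.hom ≫ (DRing.RgammaIε (Ideal.span {x : A | x ∈ gs})).app
          ((DerivedCategory.singleFunctor (ModuleCat.{u} A) 0).obj N) =
        Q.map (epsC N gs) ≫ (sIso N).hom :=
  IterFib.unique gs (Q.map (epsC N gs)) _ (sIso N) (iterFib_epsC N gs) (iterFib_RgammaIε gs _)

/-- the Čech model of `RΓ_J (N[0])` -/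
noncomputable def gammaIso (N : ModuleCat.{u} A) :
    Q.obj (DerCA.extCech N gs) ≅ (DRing.RgammaI (Ideal.span {x : A | x ∈ gs})).obj
      ((DerivedCategory.singleFunctor (ModuleCat.{u} A) 0).obj N) :=
  (exists_gamma gs N).choose

lemma gammaIso_eps (N : ModuleCat.{u} A) :
    (gammaIso gs N).hom ≫ (DRing.RgammaIε (Ideal.span {x : A | x ∈ gs})).app
        ((DerivedCategory.singleFunctor (ModuleCat.{u} A) 0).obj N) =
      Q.map (epsC N gs) ≫ (sIso N).hom :=
  (exists_gamma gs N).choose_spec

theorem gammaIso_naturality {N N' : ModuleCat.{u} A} (g : N ⟶ N') :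
    Q.map (extCechMap g gs) ≫ (gammaIso gs N').hom =
      (gammaIso gs N).hom ≫ (DRing.RgammaI (Ideal.span {x : A | x ∈ gs})).map
        ((DerivedCategory.singleFunctor (ModuleCat.{u} A) 0).map g) := by
  have htors : ∀ f ∈ gs, Tors f (Q.obj (DerCA.extCech N gs)) :=
    IterFib.tors gs _ (iterFib_epsC N gs)
  have hb := IterFib.bijective_postcomp gs _
    (iterFib_RgammaIε gs ((DerivedCategory.singleFunctor (ModuleCat.{u} A) 0).obj N'))
    (Q.obj (DerCA.extCech N gs)) htors
  apply hb.1
  show (Q.map (extCechMap g gs) ≫ (gammaIso gs N').hom) ≫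
      (DRing.RgammaIε (Ideal.span {x : A | x ∈ gs})).app _ =
    ((gammaIso gs N).hom ≫ (DRing.RgammaI (Ideal.span {x : A | x ∈ gs})).map
      ((DerivedCategory.singleFunctor (ModuleCat.{u} A) 0).map g)) ≫
      (DRing.RgammaIε (Ideal.span {x : A | x ∈ gs})).app _
  have hnat : (DRing.RgammaI (Ideal.span {x : A | x ∈ gs})).map
        ((DerivedCategory.singleFunctor (ModuleCat.{u} A) 0).map g) ≫
      (DRing.RgammaIε (Ideal.span {x : A | x ∈ gs})).app
        ((DerivedCategory.singleFunctor (ModuleCat.{u} A) 0).obj N') =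
      (DRing.RgammaIε (Ideal.span {x : A | x ∈ gs})).app
        ((DerivedCategory.singleFunctor (ModuleCat.{u} A) 0).obj N) ≫
        (DerivedCategory.singleFunctor (ModuleCat.{u} A) 0).map g :=
    (DRing.RgammaIε (Ideal.span {x : A | x ∈ gs})).naturality _
  rw [Category.assoc, gammaIso_eps, Category.assoc, hnat, ← Category.assoc (gammaIso gs N).hom,
    gammaIso_eps, Category.assoc, ← sIso_naturality, ← Category.assoc, ← Category.assoc,
    ← Q.map_comp, ← Q.map_comp, extCechMap_epsC]

end Gamma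

/-! ### Derived completeness -/

section Complete

lemma isIso_pow_smul {C : Type*} [Category C] [Preadditive C] [Linear A C] (f : A) {P : C}
    (hP : IsIso (f • 𝟙 P)) : ∀ k : ℕ, IsIso ((f ^ k) • 𝟙 P)
  | 0 => by
    rw [pow_zero, one_smul]
    infer_instance
  | k + 1 => by
    haveI := isIso_pow_smul f hP k
    haveI := hP
    have h : (f ^ (k + 1)) • 𝟙 P = ((f ^ k) • 𝟙 P) ≫ (f • 𝟙 P) := by
      rw [Linear.smul_comp, Linear.comp_smul, Category.id_comp, smul_smul, pow_succ]
    rw [h]
    infer_instance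

lemma eq_zero_of_isIso_of_nilp {C : Type*} [Category C] [Preadditive C] [Linear A C] (f : A)
    (k : ℕ) {P N : C} (hP : IsIso (f • 𝟙 P)) (hN : (f ^ k) • 𝟙 N = 0) (a : P ⟶ N) : a = 0 := by
  haveI := isIso_pow_smul f hP k
  have h2 : ((f ^ k) • 𝟙 P) ≫ a = a ≫ ((f ^ k) • 𝟙 N) := by
    rw [Linear.smul_comp, Linear.comp_smul, Category.id_comp, Category.comp_id]
  rw [hN, comp_zero] at h2
  exact (cancel_epi ((f ^ k) • 𝟙 P)).1 (h2.trans comp_zero.symm)

lemma isIso_smul_inD_away (f : A) : IsIso (f • 𝟙 (Dual.inD A (Localization.Away f))) := by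
  have h : f • 𝟙 (Dual.inD A (Localization.Away f)) =
      (DerivedCategory.singleFunctor (ModuleCat.{u} A) 0).map
        (f • 𝟙 (ModuleCat.of A (Localization.Away f))) := by
    rw [Functor.map_smul, CategoryTheory.Functor.map_id]
  rw [h]
  haveI : IsIso (f • 𝟙 (ModuleCat.of A (Localization.Away f))) := by
    apply (ConcreteCategory.isIso_iff_bijective _).2
    show Function.Bijective (fun x : Localization.Away f => f • x)
    obtain ⟨u, hu⟩ := IsLocalization.Away.algebraMap_isUnit (S := Localization.Away f) f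
    have h2 : (fun x : Localization.Away f => f • x) = fun x => (u : Localization.Away f) * x := by
      funext x
      rw [hu, Algebra.smul_def]
    rw [h2]
    exact Units.mulLeft_bijective u
  infer_instance

theorem isDerivedComplete_Q_extCech (I : Ideal A) (gs : List A) (N : ModuleCat.{u} A) (k : ℕ)
    (hk : ∀ r ∈ I ^ k, ∀ x : N, r • x = 0) :
    DRing.IsDerivedComplete I (Q.obj (DerCA.extCech N gs)) := by
  intro f hf n
  have hz : (f ^ k) • 𝟙 (DerCA.extCech N gs) = 0 :=
    smul_id_extCech_eq_zero gs N (f ^ k) (hk _ (Ideal.pow_mem_pow hf k))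
  have hz' : (f ^ k) • 𝟙 ((Q.obj (DerCA.extCech N gs))⟦n⟧) = 0 := by
    have h1 : (f ^ k) • 𝟙 ((Q.obj (DerCA.extCech N gs))⟦n⟧) =
        (Q.map ((f ^ k) • 𝟙 (DerCA.extCech N gs)))⟦n⟧' := by
      rw [Functor.map_smul, Functor.map_smul, CategoryTheory.Functor.map_id,
        CategoryTheory.Functor.map_id]
    rw [h1, hz, Functor.map_zero, Functor.map_zero]
  refine ⟨fun a b => ?_⟩
  rw [eq_zero_of_isIso_of_nilp f k (isIso_smul_inD_away f) hz' a,
    eq_zero_of_isIso_of_nilp f k (isIso_smul_inD_away f) hz' b]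

theorem isDerivedComplete_Q_piCx (I : Ideal A) (X : ℕ → DRing.Cx A)
    (h : ∀ n, DRing.IsDerivedComplete I (Q.obj (X n))) :
    DRing.IsDerivedComplete I (Q.obj (piCx X)) := by
  intro f hf n
  suffices h0 : ∀ a : Dual.inD A (Localization.Away f) ⟶ (Q.obj (piCx X))⟦n⟧, a = 0 from
    ⟨fun a b => by rw [h0 a, h0 b]⟩
  intro a
  let e := (shiftFunctorCompIsoId (Dual.D A) n (-n) (add_neg_cancel n)).app (Q.obj (piCx X))
  have h1 : a⟦-n⟧' ≫ e.hom = 0 := by
    apply eq_zero_of_comp_piProj X
    intro m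
    have hnat : ((Q.map (piProj X m))⟦n⟧')⟦-n⟧' ≫
        (shiftFunctorCompIsoId (Dual.D A) n (-n) (add_neg_cancel n)).hom.app (Q.obj (X m)) =
        e.hom ≫ Q.map (piProj X m) :=
      (shiftFunctorCompIsoId (Dual.D A) n (-n) (add_neg_cancel n)).hom.naturality
        (Q.map (piProj X m))
    have h0 : a ≫ (Q.map (piProj X m))⟦n⟧' = 0 := @Subsingleton.elim _ (h m f hf n) _ _
    rw [Category.assoc, ← hnat, ← Category.assoc, ← Functor.map_comp, h0, Functor.map_zero,
      zero_comp]
  have h2 : a⟦-n⟧' = 0 := by rw [← cancel_mono e.hom, h1, zero_comp]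
  exact (CategoryTheory.shiftFunctor (Dual.D A) (-n)).map_injective
    (h2.trans (Functor.map_zero _ _ _).symm)

theorem isDerivedComplete_Q_limCx (I : Ideal A) (X : ℕ → DRing.Cx A) (τ : ∀ n, X (n + 1) ⟶ X n)
    (hτ : ∀ n i, Function.Surjective ((τ n).f i).hom)
    (h : ∀ n, DRing.IsDerivedComplete I (Q.obj (X n))) :
    DRing.IsDerivedComplete I (Q.obj (limCx X τ)) := by
  have hS := limSC_shortExact X τ hτ
  have hT := inv_rot_of_distTriang _ (inv_rot_of_distTriang _ (triangleOfSES_distinguished hS))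
  have hp := isDerivedComplete_Q_piCx I X h
  exact isDerivedComplete_of_distinguished I _ hT (isDerivedComplete_shift I _ hp (-1))
    (isDerivedComplete_shift I _ hp (-1))

end Complete

/-! ### The main theorem -/

section Main

variable [IsNoetherianRing A]

theorem main1815_list (fs gs : List A) [DRing.HasRgammaI (Ideal.span {x : A | x ∈ gs})]
    [DRing.HasDerivedCompletion (Ideal.span {x : A | x ∈ fs})]
    [∀ K : ℕ → Dual.D A, HasProduct K] (M : Type u) [AddCommGroup M] [Module A M]
    [Module.Finite A M] :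
    DCoh.IsRlim
      (fun n : ℕ => (DRing.RgammaI (Ideal.span {x : A | x ∈ gs})).obj
        (Dual.inD A (M ⧸ ((Ideal.span {x : A | x ∈ fs}) ^ n • ⊤ : Submodule A M))))
      (fun n : ℕ => (DRing.RgammaI (Ideal.span {x : A | x ∈ gs})).map
        ((DerivedCategory.singleFunctor (ModuleCat.{u} A) 0).map
          (ModuleCat.ofHom (Submodule.mapQ
            ((Ideal.span {x : A | x ∈ fs}) ^ (n + 1) • ⊤ : Submodule A M)
            ((Ideal.span {x : A | x ∈ fs}) ^ n • ⊤ : Submodule A M) LinearMap.id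
            (Submodule.smul_mono (Ideal.pow_le_pow_right (Nat.le_succ n)) le_rfl)))))
      ((DRing.derivedCompletion (Ideal.span {x : A | x ∈ fs})).obj
        ((DRing.RgammaI (Ideal.span {x : A | x ∈ gs})).obj (Dual.inD A M))).obj ∧
    ∀ i : ℤ, i < 0 → Subsingleton (Dual.HD A
      ((DRing.derivedCompletion (Ideal.span {x : A | x ∈ fs})).obj
        ((DRing.RgammaI (Ideal.span {x : A | x ∈ gs})).obj (Dual.inD A M))).obj i) := by
  let I : Ideal A := Ideal.span {x : A | x ∈ fs}
  let J : Ideal A := Ideal.span {x : A | x ∈ gs}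
  let X := Xn I gs M
  let τ := τn I gs M
  have hτ : ∀ n i, Function.Surjective ((τ n).f i).hom := τn_surjective I gs M
  have hc : DRing.IsDerivedComplete I (Q.obj (limCx X τ)) := by
    apply isDerivedComplete_Q_limCx I X τ hτ
    intro n
    apply isDerivedComplete_Q_extCech I gs (Nn I M n) n
    intro r hr x
    obtain ⟨m, rfl⟩ := Submodule.mkQ_surjective _ x
    show r • Submodule.Quotient.mk m = 0
    rw [← Submodule.Quotient.mk_smul, Submodule.Quotient.mk_eq_zero]
    exact Submodule.smul_mem_smul hr Submodule.mem_top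
  let u : (DRing.RgammaI J).obj (Dual.inD A M) ⟶ Q.obj (limCx X τ) :=
    (gammaIso gs (ModuleCat.of A M)).inv ≫ Q.map (cMap I gs M)
  have hu : LEq I u := by
    refine (leq_cMap fs gs M).of_comm u (gammaIso gs (ModuleCat.of A M)) (Iso.refl _) ?_
    show Q.map (cMap I gs M) ≫ 𝟙 _ = (gammaIso gs (ModuleCat.of A M)).hom ≫
      (gammaIso gs (ModuleCat.of A M)).inv ≫ Q.map (cMap I gs M)
    rw [Category.comp_id, Iso.hom_inv_id_assoc]
  obtain ⟨lam, -⟩ := exists_iso_of_universal (DRing.IsDerivedComplete I)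
    (DRing.derivedCompletionAdj I) ((DRing.RgammaI J).obj (Dual.inD A M)) _ hc u hu
  refine ⟨?_, ?_⟩
  · exact isRlim_of_tower X τ _ _ (fun n => gammaIso gs (Nn I M n))
      (fun n => gammaIso_naturality gs (qn I M n)) hτ _ lam
  · intro i hi
    have hX : IsZero ((limCx X τ).X i) :=
      isZero_limCx_X X τ i (fun n => Groth.Agent.Lib.ExtCechOldH7.isZero_X _ gs i (Or.inl hi))
    have hz : IsZero ((limCx X τ).homology i) := ShortComplex.isZero_homology_of_isZero_X₂ _ hX
    have hz2 : IsZero ((DerivedCategory.homologyFunctor (ModuleCat.{u} A) i).obj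
        (Q.obj (limCx X τ))) :=
      hz.of_iso ((DerivedCategory.homologyFunctorFactors (ModuleCat.{u} A) i).app (limCx X τ))
    exact ModuleCat.subsingleton_of_isZero
      (hz2.of_iso ((DerivedCategory.homologyFunctor (ModuleCat.{u} A) i).mapIso lam))

theorem main1815 (I J : Ideal A) [DRing.HasRgammaI J] [DRing.HasDerivedCompletion I]
    [∀ K : ℕ → Dual.D A, HasProduct K] (M : Type u) [AddCommGroup M] [Module A M]
    [Module.Finite A M] :
    DCoh.IsRlim
      (fun n : ℕ => (DRing.RgammaI J).obj (Dual.inD A (M ⧸ (I ^ n • ⊤ : Submodule A M))))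
      (fun n : ℕ => (DRing.RgammaI J).map
        ((DerivedCategory.singleFunctor (ModuleCat.{u} A) 0).map
          (ModuleCat.ofHom (Submodule.mapQ (I ^ (n + 1) • ⊤ : Submodule A M)
            (I ^ n • ⊤ : Submodule A M) LinearMap.id
            (Submodule.smul_mono (Ideal.pow_le_pow_right (Nat.le_succ n)) le_rfl)))))
      ((DRing.derivedCompletion I).obj ((DRing.RgammaI J).obj (Dual.inD A M))).obj ∧
    ∀ i : ℤ, i < 0 → Subsingleton (Dual.HD A
      ((DRing.derivedCompletion I).obj ((DRing.RgammaI J).obj (Dual.inD A M))).obj i) := by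
  obtain ⟨fs, hfs⟩ := exists_list_span I
  obtain ⟨gs, hgs⟩ := exists_list_span J
  subst hfs
  subst hgs
  exact main1815_list fs gs M

end Main

end Groth.Agent.Lib.RlimCechH1
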