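import Mathlib
import Groth.Agent.Lib.Ann1_helper1
import Groth.Agent.Lib.RlimCech5_helper1
import Groth.Agent.Lib.DerCompl6_helper2
import Groth.Agent.Lib.ExtCechOld_helper7
import Groth.Agent.Lib.OrthDeriv_helper9
import Groth.Agent.Lib.KInjGen8_helper7
import Groth.Agent.S11623

/-!
# Annihilators of the cohomology of the derived completion of `RΓ_J(M)` (helper1)

* `homKill`: if `F` kills `Hom_{D(A)}(P, J[i])` for a K-injective `J`, it kills `H^i(Hom•(P, J))`;
* `core_general`, `core`: if `cd(A, I) ≤ d` and `f` kills `H^j_{I+J}(M)` for `j ≤ d + s`, then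
  `f^(d+s+1)` kills `H^i` of the derived `I`-adic completion of `RΓ_J(M)` for `i ≤ s`.
-/

set_option autoImplicit false
universe u
open CategoryTheory CategoryTheory.Limits CategoryTheory.Pretriangulated DerivedCategory
open CochainComplex CochainComplex.HomComplex

attribute [local instance] HasDerivedCategory.standard

namespace Groth.Agent.Lib.AnnH1

open Groth.Agent.Lib.ExtCechH7 Groth.Agent.Lib.DerCompl Groth.Agent.Lib.LocFib
  Groth.Agent.Lib.RlimCechH1

variable {A : Type u} [CommRing A]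

/-- the unbounded right derived functor of `Γ_I` exists -/
theorem hasRgammaI' (I : Ideal A) : DRing.HasRgammaI I :=
  (OrthDeriv.main (P := HomotopyCategory.subcategoryAcyclic (ModuleCat.{u} A))
    (HomotopyCategory.quasiIso _ _) (HomotopyCategory.quasiIso_eq_trW_subcategoryAcyclic _)
    Groth.Agent.Lib.KInjGen8.hP DerivedCategory.Qh (DRing.gammaIKh I)).1

/-! ### Killing homology classes -/

lemma smul_homology_eq_zero_of_boundary (K : DRing.Cx A) (i : ℤ) (F : A)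
    (h : ∀ z : K.X i, (K.d i (i + 1)).hom z = 0 →
      ∃ w : K.X (i - 1), (K.d (i - 1) i).hom w = F • z) :
    ∀ x : K.homology i, F • x = 0 := by
  intro x
  obtain ⟨c, rfl⟩ := (ModuleCat.epi_iff_surjective _).1 (inferInstance : Epi (K.homologyπ i)) x
  have hz : (K.d i (i + 1)).hom ((K.iCycles i).hom c) = 0 :=
    congrArg (fun g => g.hom c) (K.iCycles_d i (i + 1))
  obtain ⟨w, hw⟩ := h _ hz
  have hinj : Function.Injective (K.iCycles i).hom :=
    (ModuleCat.mono_iff_injective _).1 inferInstance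
  have h1 : (K.toCycles (i - 1) i).hom w = F • c := by
    apply hinj
    rw [map_smul, ← hw]
    exact congrArg (fun g => g.hom w) (K.toCycles_i (i - 1) i)
  rw [← map_smul, ← h1]
  exact congrArg (fun g => g.hom w) (K.toCycles_comp_homologyπ (i - 1) i)

/-- if `F` kills `Hom_{D(A)}(P, J[i])` for a K-injective `J`, it kills `H^i(Hom•(P, J))` -/
theorem homKill (P Jc : DRing.Cx A) [Jc.IsKInjective] (F : A) (i : ℤ)
    (h : ∀ φ : Q.obj P ⟶ (Q.obj Jc)⟦i⟧, F • φ = 0) :
    ∀ x : (DRing.homCx P Jc).homology i, F • x = 0 := by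
  apply smul_homology_eq_zero_of_boundary
  intro (z : Cochain P Jc i) hz
  have hz' : δ i (i + 1) z = 0 := hz
  obtain ⟨ζ, hζ⟩ : ∃ ζ : Cocycle P Jc i, ζ = Cocycle.mk z (i + 1) rfl hz' := ⟨_, rfl⟩
  obtain ⟨g, hg⟩ : ∃ g : P ⟶ Jc⟦i⟧, g = Cocycle.equivHomShift.symm ζ := ⟨_, rfl⟩
  obtain ⟨μ, hμ⟩ : ∃ μ : Jc ⟶ Jc, μ = F • 𝟙 Jc := ⟨_, rfl⟩
  have h1 : (ζ.postcomp μ).1 = F • z := by
    rw [hμ, hζ]
    ext p q hpq
    simp
  have h2 : Cocycle.equivHomShift.symm (ζ.postcomp μ) = g ≫ μ⟦i⟧' := by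
    rw [hg]
    exact Cocycle.equivHomShift_symm_postcomp ζ μ
  have h3 : Q.map (g ≫ μ⟦i⟧') = 0 := by
    have hμ' : μ⟦i⟧' = F • 𝟙 (Jc⟦i⟧) := by
      rw [hμ]
      ext p
      simp
    rw [hμ', Linear.comp_smul, Category.comp_id, Functor.map_smul]
    have h4 := h (Q.map g ≫ (Q.commShiftIso i).hom.app Jc)
    rw [← Linear.smul_comp] at h4
    have h5 := congrArg (· ≫ (Q.commShiftIso i).inv.app Jc) h4
    simpa using h5
  have h6 := quotient_map_eq_zero_of_kinj (g ≫ μ⟦i⟧') h3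
  rw [← h2, ← CohomologyClass.toHom_mk, CohomologyClass.toHom_mk_eq_zero_iff,
    mem_coboundaries_iff _ (i - 1) (by omega)] at h6
  obtain ⟨β, hβ⟩ := h6
  exact ⟨β, hβ.trans h1⟩

/-! ### Torsion, shifts and amplitude of the Čech complex -/

lemma tors_shift (g : A) (X : Dual.D A) (n : ℤ) (h : Tors g X) : Tors g (X⟦n⟧) := by
  intro j x
  let e : (homologyFunctor (ModuleCat.{u} A) j).obj (X⟦n⟧) ≅
      (homologyFunctor (ModuleCat.{u} A) (n + j)).obj X :=
    ((homologyFunctor (ModuleCat.{u} A) 0).shiftIso n j (n + j) rfl).app X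
  obtain ⟨k, hk⟩ := h (n + j) (e.hom.hom x)
  refine ⟨k, ?_⟩
  apply eq_zero_of_iso_hom e
  rw [map_smul]
  exact hk

lemma isLE_cech_of_cdLE [IsNoetherianRing A] (fs : List A) (hfs : fs ≠ []) (d : ℕ)
    (hcd : LocCoh.CdLE A (Ideal.span {x : A | x ∈ fs}) d) :
    DerivedCategory.IsLE (Q.obj (DerCA.extCech (ModuleCat.of A A) fs)) d := by
  rw [DerivedCategory.isLE_Q_obj_iff, CochainComplex.isLE_iff]
  intro i hi
  rw [HomologicalComplex.exactAt_iff_isZero_homology]
  obtain ⟨n, rfl⟩ := Int.eq_ofNat_of_zero_le (show 0 ≤ i by omega)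
  obtain ⟨e⟩ := Groth.Agent.S11623.result A fs hfs A n
  haveI := hcd A n (by exact_mod_cast hi)
  exact (ModuleCat.isZero_of_subsingleton _).of_iso e

/-! ### The cohomology of `RΓ_I RΓ_J M` -/

theorem killsH_RgammaI_RgammaI [IsNoetherianRing A] (fs gs : List A) (hne : fs ++ gs ≠ [])
    [DRing.HasRgammaI (Ideal.span {x : A | x ∈ fs})]
    [DRing.HasRgammaI (Ideal.span {x : A | x ∈ gs})]
    (M : Type u) [AddCommGroup M] [Module A M] (f : A) (n : ℕ)
    (hf : ∀ j : ℕ, j ≤ n → ∀ x : LocCoh.H (Ideal.span {x : A | x ∈ fs ++ gs}) j M, f • x = 0) :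
    DerivedCategory.IsGE ((DRing.RgammaI (Ideal.span {x : A | x ∈ fs})).obj
        ((DRing.RgammaI (Ideal.span {x : A | x ∈ gs})).obj (Dual.inD A M))) 0 ∧
      KillsH f ((DRing.RgammaI (Ideal.span {x : A | x ∈ fs})).obj
        ((DRing.RgammaI (Ideal.span {x : A | x ∈ gs})).obj (Dual.inD A M))) (n : ℤ) := by
  haveI : DRing.HasRgammaI (Ideal.span {x : A | x ∈ fs ++ gs}) := hasRgammaI' _
  obtain ⟨e1⟩ := S1816_aux (Ideal.span {x : A | x ∈ gs}) (Ideal.span {x : A | x ∈ fs})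
    (Ideal.span {x : A | x ∈ fs ++ gs}) gs fs rfl rfl rfl (Dual.inD A M)
  obtain ⟨E, hE⟩ : ∃ E : DRing.Cx A, E = DerCA.extCech (ModuleCat.of A M) (fs ++ gs) := ⟨_, rfl⟩
  have eY : (DRing.RgammaI (Ideal.span {x : A | x ∈ fs})).obj
      ((DRing.RgammaI (Ideal.span {x : A | x ∈ gs})).obj (Dual.inD A M)) ≅ Q.obj E := by
    rw [hE]
    exact e1 ≪≫ (gammaIso (fs ++ gs) (ModuleCat.of A M)).symm
  haveI hEge : E.IsStrictlyGE 0 := by
    rw [CochainComplex.isStrictlyGE_iff]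
    intro i hi
    rw [hE]
    exact Groth.Agent.Lib.ExtCechOldH7.isZero_X _ _ i (Or.inl hi)
  constructor
  · haveI : DerivedCategory.IsGE (Q.obj E) 0 := inferInstance
    exact DerivedCategory.TStructure.t.isGE_of_iso eY.symm 0
  · intro j hj x
    let α : (homologyFunctor (ModuleCat.{u} A) j).obj
        ((DRing.RgammaI (Ideal.span {x : A | x ∈ fs})).obj
          ((DRing.RgammaI (Ideal.span {x : A | x ∈ gs})).obj (Dual.inD A M))) ≅ E.homology j :=
      (homologyFunctor (ModuleCat.{u} A) j).mapIso eY ≪≫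
        (homologyFunctorFactors (ModuleCat.{u} A) j).app E
    by_cases hj0 : j < 0
    · have hz : IsZero (E.homology j) := by
        rw [hE]
        exact Groth.Agent.Lib.ExtCechOldH7.S9264 (fs ++ gs) _ j (Or.inl hj0)
      have hz' := hz.of_iso α
      haveI := ModuleCat.subsingleton_of_isZero hz'
      exact Subsingleton.elim _ _
    · obtain ⟨m, rfl⟩ := Int.eq_ofNat_of_zero_le (not_lt.1 hj0)
      obtain ⟨β⟩ := Groth.Agent.S11623.result A (fs ++ gs) hne M m
      have β' : E.homology (m : ℤ) ≅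
          (localCohomology (Ideal.span {x : A | x ∈ fs ++ gs}) m).obj (ModuleCat.of A M) := by
        rw [hE]
        exact β
      apply eq_zero_of_iso_hom (α ≪≫ β')
      rw [map_smul]
      exact hf m (by exact_mod_cast hj) _

/-! ### The core statement -/

theorem core_general [IsNoetherianRing A] (fs : List A) (hfs : fs ≠ [])
    [DRing.HasRgammaI (Ideal.span {x : A | x ∈ fs})]
    [DRing.HasDerivedCompletion (Ideal.span {x : A | x ∈ fs})]
    (K' : Dual.D A) (d s : ℕ) (hcd : LocCoh.CdLE A (Ideal.span {x : A | x ∈ fs}) d) (f : A)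
    (hge : DerivedCategory.IsGE ((DRing.RgammaI (Ideal.span {x : A | x ∈ fs})).obj K') 0)
    (hK : KillsH f ((DRing.RgammaI (Ideal.span {x : A | x ∈ fs})).obj K') ((d + s : ℕ) : ℤ))
    (i : ℤ) (hi : i ≤ s)
    (x : Dual.HD A ((DRing.derivedCompletion (Ideal.span {x : A | x ∈ fs})).obj K').obj i) :
    f ^ (d + s + 1) • x = 0 := by
  obtain ⟨Jc, hJc, e, u, hdc, huniv⟩ := exists_completion fs K'
  haveI := hJc
  obtain ⟨lam, -⟩ := exists_iso_of_universal
    (DRing.IsDerivedComplete (Ideal.span {x : A | x ∈ fs}))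
    (DRing.derivedCompletionAdj (Ideal.span {x : A | x ∈ fs})) K' _ hdc u huniv
  let α : (homologyFunctor (ModuleCat.{u} A) i).obj
      ((DRing.derivedCompletion (Ideal.span {x : A | x ∈ fs})).obj K').obj ≅
      (DRing.homCx (DerCA.extCech (ModuleCat.of A A) fs) Jc).homology i :=
    (homologyFunctor (ModuleCat.{u} A) i).mapIso lam ≪≫
      (homologyFunctorFactors (ModuleCat.{u} A) i).app _
  apply eq_zero_of_iso_hom α
  rw [map_smul]
  apply homKill
  intro φ
  have h1 : ∀ ψ : Q.obj (DerCA.extCech (ModuleCat.of A A) fs) ⟶ K'⟦i⟧,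
      f ^ (d + s + 1) • ψ = 0 := by
    intro ψ
    apply smul_eq_zero_of_shift
    intro χ
    have htors : ∀ g ∈ fs, Tors g ((Q.obj (DerCA.extCech (ModuleCat.of A A) fs))⟦-i⟧) :=
      fun g hg => tors_shift g _ _ (IterFib.tors fs _ (iterFib_epsC (ModuleCat.of A A) fs) g hg)
    obtain ⟨χ', hχ'⟩ := (IterFib.bijective_postcomp fs _ (iterFib_RgammaIε fs K') _ htors).2 χ
    have hχ'' : χ' ≫ (DRing.RgammaIε (Ideal.span {x : A | x ∈ fs})).app K' = χ := hχ'
    haveI := isLE_cech_of_cdLE fs hfs d hcd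
    have hXle : DerivedCategory.IsLE ((Q.obj (DerCA.extCech (ModuleCat.of A A) fs))⟦-i⟧)
        ((d : ℤ) + i) :=
      DerivedCategory.TStructure.t.isLE_shift _ (d : ℤ) (-i) ((d : ℤ) + i) (by omega)
    have hK' : KillsH f ((DRing.RgammaI (Ideal.span {x : A | x ∈ fs})).obj K') ((d : ℤ) + i) :=
      fun j hj y => hK j (by push_cast; omega) y
    have h0 := pow_smul_hom_eq_zero f ((d : ℤ) + i) (d + s + 1) 0 _ _
      (by push_cast; omega) hXle hge hK' χ'
    rw [← hχ'', ← Linear.smul_comp, h0, zero_comp]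
  have h2 := h1 (φ ≫ e.inv⟦i⟧')
  have h3 : φ = (φ ≫ e.inv⟦i⟧') ≫ e.hom⟦i⟧' := by
    rw [Category.assoc, ← Functor.map_comp, Iso.inv_hom_id, CategoryTheory.Functor.map_id,
      Category.comp_id]
  calc f ^ (d + s + 1) • φ = f ^ (d + s + 1) • ((φ ≫ e.inv⟦i⟧') ≫ e.hom⟦i⟧') :=
        congrArg (fun t => f ^ (d + s + 1) • t) h3
    _ = (f ^ (d + s + 1) • (φ ≫ e.inv⟦i⟧')) ≫ e.hom⟦i⟧' := (Linear.smul_comp _ _ _ _ _ _).symm
    _ = 0 := by rw [h2, zero_comp]

theorem core [IsNoetherianRing A] (fs gs : List A) (hfs : fs ≠ [])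
    [DRing.HasRgammaI (Ideal.span {x : A | x ∈ gs})]
    [DRing.HasDerivedCompletion (Ideal.span {x : A | x ∈ fs})]
    (M : Type u) [AddCommGroup M] [Module A M] (d s : ℕ)
    (hcd : LocCoh.CdLE A (Ideal.span {x : A | x ∈ fs}) d) (f : A)
    (hf : ∀ j : ℕ, j ≤ d + s →
      ∀ x : LocCoh.H (Ideal.span {x : A | x ∈ fs ++ gs}) j M, f • x = 0)
    (i : ℤ) (hi : i ≤ s)
    (x : Dual.HD A ((DRing.derivedCompletion (Ideal.span {x : A | x ∈ fs})).obj
      ((DRing.RgammaI (Ideal.span {x : A | x ∈ gs})).obj (Dual.inD A M))).obj i) :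
    f ^ (d + s + 1) • x = 0 := by
  haveI : DRing.HasRgammaI (Ideal.span {x : A | x ∈ fs}) := hasRgammaI' _
  have hne : fs ++ gs ≠ [] := by
    intro h
    exact hfs (List.append_eq_nil_iff.1 h).1
  obtain ⟨hge, hK⟩ := killsH_RgammaI_RgammaI fs gs hne M f (d + s) hf
  exact core_general fs hfs _ d s hcd f hge hK i hi x

end Groth.Agent.Lib.AnnH1
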