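import Mathlib
import Groth.Prelude.Def_DualLC
import Groth.Prelude.Def_DRing3
import Groth.Agent.Lib.LocFib3_helper2

/-!
# Sections with support in a specialization-stable subset `T`: the functor `Γ_T` (helper6)

`torsT T M` is the submodule of the elements of `M` killed by an ideal `J` with `V(J) ⊆ T`.  Over a
Noetherian ring `Γ_T` preserves injective modules.
-/

set_option autoImplicit false
set_option linter.style.haveILetI false
set_option linter.unusedSectionVars false
set_option linter.unusedVariables false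
universe u
open CategoryTheory CategoryTheory.Limits

namespace Groth.Agent.Lib.FaltT

variable {A : Type u} [CommRing A] (T : Set (PrimeSpectrum A))

/-- ideals whose zero locus lies in `T` -/
def InT (J : Ideal A) : Prop := PrimeSpectrum.zeroLocus (J : Set A) ⊆ T

lemma inT_top : InT T (⊤ : Ideal A) := by
  intro p hp
  exact absurd hp (by
    rw [PrimeSpectrum.mem_zeroLocus]
    intro h
    exact p.2.ne_top (top_le_iff.1 h))

variable {T}

lemma inT_mono {J J' : Ideal A} (h : J ≤ J') (hJ : InT T J) : InT T J' :=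
  fun p hp => hJ (PrimeSpectrum.zeroLocus_anti_mono h hp)

lemma inT_mul {J J' : Ideal A} (hJ : InT T J) (hJ' : InT T J') : InT T (J * J') := by
  intro p hp
  have h1 : p ∈ PrimeSpectrum.zeroLocus (J : Set A) ∪ PrimeSpectrum.zeroLocus (J' : Set A) := by
    rw [← PrimeSpectrum.zeroLocus_mul]
    exact hp
  rcases h1 with h | h
  · exact hJ h
  · exact hJ' h

lemma inT_inf {J J' : Ideal A} (hJ : InT T J) (hJ' : InT T J') : InT T (J ⊓ J') :=
  inT_mono Ideal.mul_le_inf (inT_mul hJ hJ')

lemma inT_pow {J : Ideal A} (hJ : InT T J) (n : ℕ) : InT T (J ^ n) := by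
  induction n with
  | zero =>
    rw [pow_zero, Ideal.one_eq_top]
    exact inT_top T
  | succ n ih =>
    rw [pow_succ]
    exact inT_mul ih hJ

lemma inT_finset_inf {ι : Type*} (s : Finset ι) (J : ι → Ideal A) (h : ∀ i ∈ s, InT T (J i)) :
    InT T (s.inf J) := by
  classical
  induction s using Finset.induction_on with
  | empty =>
    rw [Finset.inf_empty]
    exact inT_top T
  | insert a s ha ih =>
    rw [Finset.inf_insert]
    exact inT_inf (h a (Finset.mem_insert_self a s))
      (ih fun i hi => h i (Finset.mem_insert_of_mem hi))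

variable (T)

/-- the elements killed by an ideal with zero locus in `T` -/
def torsT (M : Type u) [AddCommGroup M] [Module A M] : Submodule A M where
  carrier := {m | ∃ J : Ideal A, InT T J ∧ ∀ a ∈ J, a • m = 0}
  zero_mem' := ⟨⊤, inT_top T, fun a _ => smul_zero a⟩
  add_mem' := by
    rintro m m' ⟨J, hJ, h⟩ ⟨J', hJ', h'⟩
    refine ⟨J ⊓ J', inT_inf hJ hJ', fun a ha => ?_⟩
    rw [smul_add, h a ha.1, h' a ha.2, add_zero]
  smul_mem' := by
    rintro c m ⟨J, hJ, h⟩
    exact ⟨J, hJ, fun a ha => by rw [smul_comm, h a ha, smul_zero]⟩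

variable {T}

lemma mem_torsT_iff {M : Type u} [AddCommGroup M] [Module A M] (m : M) :
    m ∈ torsT T M ↔ ∃ J : Ideal A, InT T J ∧ ∀ a ∈ J, a • m = 0 := Iff.rfl

theorem map_mem_torsT {M N : Type u} [AddCommGroup M] [Module A M] [AddCommGroup N] [Module A N]
    (f : M →ₗ[A] N) {m : M} (hm : m ∈ torsT T M) : f m ∈ torsT T N := by
  obtain ⟨J, hJ, h⟩ := hm
  exact ⟨J, hJ, fun a ha => by rw [← map_smul, h a ha, map_zero]⟩

lemma torsionSub_le_torsT {J : Ideal A} (hJ : InT T J) (M : Type u) [AddCommGroup M]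
    [Module A M] : DRing.torsionSub J M ≤ torsT T M := by
  rintro m ⟨n, hn⟩
  exact ⟨J ^ n, inT_pow hJ n, hn⟩

/-- a finitely generated submodule of `Γ_T M` is killed by a single ideal -/
lemma exists_inT_kills_of_fg {M : Type u} [AddCommGroup M] [Module A M] (N : Submodule A M)
    (hN : N.FG) (h : N ≤ torsT T M) :
    ∃ J : Ideal A, InT T J ∧ ∀ a ∈ J, ∀ m ∈ N, a • m = 0 := by
  revert h
  refine Submodule.fg_induction
    (motive := fun N _ => N ≤ torsT T M → ∃ J : Ideal A, InT T J ∧ ∀ a ∈ J, ∀ m ∈ N, a • m = 0)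
    ?_ ?_ N hN
  · intro x hx
    obtain ⟨J, hJ, h⟩ := hx (Submodule.mem_span_singleton_self x)
    refine ⟨J, hJ, fun a ha m hm => ?_⟩
    obtain ⟨c, rfl⟩ := Submodule.mem_span_singleton.1 hm
    rw [smul_comm, h a ha, smul_zero]
  · intro N₁ N₂ _ _ h₁ h₂ h
    obtain ⟨J₁, hJ₁, k₁⟩ := h₁ (le_trans le_sup_left h)
    obtain ⟨J₂, hJ₂, k₂⟩ := h₂ (le_trans le_sup_right h)
    refine ⟨J₁ ⊓ J₂, inT_inf hJ₁ hJ₂, fun a ha m hm => ?_⟩
    obtain ⟨m₁, hm₁, m₂, hm₂, rfl⟩ := Submodule.mem_sup.1 hm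
    rw [smul_add, k₁ a ha.1 m₁ hm₁, k₂ a ha.2 m₂ hm₂, add_zero]

variable (T)

/-- The functor `Γ_T`. -/
def gammaT : ModuleCat.{u} A ⥤ ModuleCat.{u} A where
  obj M := ModuleCat.of A (torsT T M)
  map {M N} f := ModuleCat.ofHom (f.hom.restrict fun m hm => map_mem_torsT f.hom hm)

instance additive_gammaT : (gammaT T).Additive where
  map_add := by intros; rfl

/-- The inclusion `Γ_T M ⊆ M`. -/
def gammaTι : gammaT T ⟶ 𝟭 (ModuleCat.{u} A) where
  app M := ModuleCat.ofHom (torsT T M).subtype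
  naturality _ _ _ := rfl

/-- `Γ_T` on complexes -/
noncomputable abbrev ΓTC : DRing.Cx A ⥤ DRing.Cx A :=
  (gammaT T).mapHomologicalComplex (ComplexShape.up ℤ)

/-- the inclusion `Γ_T X ⟶ X` -/
noncomputable def ΓTCι (X : DRing.Cx A) : (ΓTC T).obj X ⟶ X where
  f n := (gammaTι T).app (X.X n)
  comm' i j _ := ((gammaTι T).naturality (X.d i j)).symm

lemma ΓTCι_f_apply (X : DRing.Cx A) (n : ℤ) (x : ((ΓTC T).obj X).X n) :
    ((ΓTCι T X).f n).hom x = (x : torsT T (X.X n)).1 := rfl

variable {T}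

/-- over a Noetherian ring `Γ_T` preserves injective modules -/
theorem injective_torsT [IsNoetherianRing A] (M : Type u) [AddCommGroup M] [Module A M]
    (hM : Module.Injective A M) : Module.Injective A (torsT T M) := by
  apply Module.Baer.injective
  intro I g
  have hfg : (LinearMap.range ((torsT T M).subtype ∘ₗ g)).FG := by
    rw [LinearMap.range_eq_map]
    exact Submodule.FG.map _ ((Submodule.fg_top I).2 (IsNoetherian.noetherian I))
  have hle : LinearMap.range ((torsT T M).subtype ∘ₗ g) ≤ torsT T M := by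
    rintro _ ⟨x, rfl⟩
    exact (g x).2
  obtain ⟨J, hJ, hk⟩ := exists_inT_kills_of_fg _ hfg hle
  have hmem : ∀ x : I, ((torsT T M).subtype ∘ₗ g) x ∈ DRing.torsionSub J M := by
    intro x
    refine ⟨1, fun a ha => ?_⟩
    rw [pow_one] at ha
    exact hk a ha _ ⟨x, rfl⟩
  let g₁ : I →ₗ[A] DRing.torsionSub J M :=
    LinearMap.codRestrict _ ((torsT T M).subtype ∘ₗ g) hmem
  have hinj := Groth.Agent.Lib.LocFib.injective_torsionSub J M hM
  obtain ⟨g', hg'⟩ := (Module.Baer.of_injective hinj) I g₁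
  refine ⟨(Submodule.inclusion (torsionSub_le_torsT hJ M)) ∘ₗ g', fun x mem => ?_⟩
  apply Subtype.ext
  show ((g' x : DRing.torsionSub J M) : M) = ((g ⟨x, mem⟩ : torsT T M) : M)
  rw [hg' x mem]
  rfl

end Groth.Agent.Lib.FaltT
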