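import Mathlib
import Groth.Agent.Lib.FT1_helper6
import Groth.Agent.Lib.HDIColim2_helper2

/-!
# Morphisms `A/𝔞 ⟶ L` in `D(A)` and cycles killed by `𝔞` (helper6)

Generalization of helper2's `HDIColim` (stated for powers of an ideal) to an arbitrary ideal `𝔞`.
-/

set_option autoImplicit false
set_option linter.style.haveILetI false
set_option linter.unusedSectionVars false
set_option linter.unusedVariables false
universe u
open CategoryTheory CategoryTheory.Limits DerivedCategory Opposite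

attribute [local instance] HasDerivedCategory.standard

namespace Groth.Agent.Lib.FaltT

open Groth.Agent.Lib.RGamma Groth.Agent.HomologyColim Groth.Agent.Lib.HDIColim

variable {A : Type u} [CommRing A] (𝔞 : Ideal A) (J : DRing.Cx A)

/-- `A/𝔞` in degree 0 -/
noncomputable abbrev Sx : DRing.Cx A :=
  (HomologicalComplex.single (ModuleCat.{u} A) (ComplexShape.up ℤ) 0).obj
    (ModuleCat.of A (A ⧸ 𝔞))

/-- cycles of degree `0` killed by `𝔞` -/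
def P : Submodule A (J.X 0) where
  carrier := {x | (J.d 0 1).hom x = 0 ∧ ∀ a ∈ 𝔞, a • x = 0}
  zero_mem' := ⟨map_zero _, fun a _ => smul_zero a⟩
  add_mem' := by
    rintro x y ⟨hx, hx'⟩ ⟨hy, hy'⟩
    exact ⟨by rw [map_add, hx, hy, add_zero],
      fun a ha => by rw [smul_add, hx' a ha, hy' a ha, add_zero]⟩
  smul_mem' := by
    rintro c x ⟨hx, hx'⟩
    exact ⟨by rw [map_smul, hx, smul_zero], fun a ha => by rw [smul_comm, hx' a ha, smul_zero]⟩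

lemma P_mono {𝔞 𝔞' : Ideal A} (h : 𝔞' ≤ 𝔞) : P 𝔞 J ≤ P 𝔞' J :=
  fun _ hx => ⟨hx.1, fun a ha => hx.2 a (h ha)⟩

section Lin

variable {M : Type u} [AddCommGroup M] [Module A M]

/-- `A/𝔞 → M`, `1 ↦ x`, for `x` killed by `𝔞` -/
noncomputable def lin (x : M) (hx : ∀ a ∈ 𝔞, a • x = 0) : (A ⧸ 𝔞) →ₗ[A] M :=
  Submodule.liftQ 𝔞 (LinearMap.toSpanSingleton A M x) (by
    intro a ha
    rw [LinearMap.mem_ker, LinearMap.toSpanSingleton_apply]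
    exact hx a ha)

lemma lin_mk (x : M) (hx : ∀ a ∈ 𝔞, a • x = 0) (a : A) :
    lin 𝔞 x hx (Submodule.Quotient.mk a) = a • x := by
  rw [lin, Submodule.liftQ_apply, LinearMap.toSpanSingleton_apply]

lemma mk_eq_smul_one (a : A) :
    (Submodule.Quotient.mk a : A ⧸ 𝔞) = a • (Submodule.Quotient.mk 1 : A ⧸ 𝔞) := by
  rw [← Submodule.Quotient.mk_smul, smul_eq_mul, mul_one]

lemma smul_mk_one_eq_zero {a : A} (ha : a ∈ 𝔞) :
    a • (Submodule.Quotient.mk 1 : A ⧸ 𝔞) = 0 := by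
  rw [← mk_eq_smul_one]
  exact (Submodule.Quotient.mk_eq_zero _).2 ha

end Lin

/-- the generator of `A/𝔞[0]` -/
noncomputable def one : (Sx 𝔞).X 0 :=
  (HomologicalComplex.singleObjXSelf (ComplexShape.up ℤ) 0
    (ModuleCat.of A (A ⧸ 𝔞))).inv.hom (Submodule.Quotient.mk 1)

lemma self_hom_one :
    (HomologicalComplex.singleObjXSelf (ComplexShape.up ℤ) 0
      (ModuleCat.of A (A ⧸ 𝔞))).hom.hom (one 𝔞) = Submodule.Quotient.mk 1 := by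
  have := congrArg (fun f => f.hom (Submodule.Quotient.mk (1 : A) : A ⧸ 𝔞))
    (HomologicalComplex.singleObjXSelf (ComplexShape.up ℤ) 0
      (ModuleCat.of A (A ⧸ 𝔞))).inv_hom_id
  exact this

lemma smul_one_eq_zero {a : A} (ha : a ∈ 𝔞) : a • one 𝔞 = 0 := by
  rw [one, ← map_smul, smul_mk_one_eq_zero 𝔞 ha, map_zero]

variable {𝔞 J}

/-- chain maps out of `A/𝔞[0]` are determined by the image of the generator -/
lemma hom_ext_one {f g : Sx 𝔞 ⟶ J}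
    (h : (f.f 0).hom (one 𝔞) = (g.f 0).hom (one 𝔞)) : f = g := by
  apply HomologicalComplex.from_single_hom_ext
  rw [← cancel_epi (HomologicalComplex.singleObjXSelf (ComplexShape.up ℤ) 0
    (ModuleCat.of A (A ⧸ 𝔞))).inv]
  apply ModuleCat.hom_ext
  apply LinearMap.ext
  intro y
  obtain ⟨a, rfl⟩ := Submodule.mkQ_surjective _ y
  show (f.f 0).hom ((HomologicalComplex.singleObjXSelf (ComplexShape.up ℤ) 0
      (ModuleCat.of A (A ⧸ 𝔞))).inv.hom (Submodule.Quotient.mk a)) =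
    (g.f 0).hom ((HomologicalComplex.singleObjXSelf (ComplexShape.up ℤ) 0
      (ModuleCat.of A (A ⧸ 𝔞))).inv.hom (Submodule.Quotient.mk a))
  rw [mk_eq_smul_one, map_smul, map_smul, map_smul]
  exact congrArg (a • ·) h

variable (𝔞 J)

/-- the chain map `A/𝔞[0] ⟶ J`, `1 ↦ x` -/
noncomputable def ψ (x : P 𝔞 J) : Sx 𝔞 ⟶ J :=
  HomologicalComplex.mkHomFromSingle (ModuleCat.ofHom (lin 𝔞 x.1 x.2.2)) (by
    intro k hk
    obtain rfl : k = 1 := by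
      have : (0 : ℤ) + 1 = k := hk
      omega
    apply ModuleCat.hom_ext
    apply LinearMap.ext
    intro y
    obtain ⟨a, rfl⟩ := Submodule.mkQ_surjective _ y
    show (J.d 0 1).hom (lin 𝔞 x.1 x.2.2 (Submodule.Quotient.mk a)) = 0
    rw [lin_mk, map_smul, x.2.1, smul_zero])

lemma ψ_f_one (x : P 𝔞 J) : ((ψ 𝔞 J x).f 0).hom (one 𝔞) = x.1 := by
  rw [ψ, HomologicalComplex.mkHomFromSingle_f]
  show lin 𝔞 x.1 x.2.2 ((HomologicalComplex.singleObjXSelf (ComplexShape.up ℤ) 0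
      (ModuleCat.of A (A ⧸ 𝔞))).hom.hom (one 𝔞)) = x.1
  rw [self_hom_one, lin_mk, one_smul]

/-- every chain map out of `A/𝔞[0]` is a `ψ` -/
lemma exists_ψ_eq (χ : Sx 𝔞 ⟶ J) : ∃ x : P 𝔞 J, ψ 𝔞 J x = χ := by
  have h1 : (J.d 0 1).hom ((χ.f 0).hom (one 𝔞)) = 0 := by
    have := f_d χ 0 1 (one 𝔞)
    rw [← this, HomologicalComplex.single_obj_d]
    exact map_zero _
  have h2 : ∀ a ∈ 𝔞, a • (χ.f 0).hom (one 𝔞) = 0 := by
    intro a ha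
    rw [← map_smul, smul_one_eq_zero 𝔞 ha, map_zero]
  refine ⟨⟨(χ.f 0).hom (one 𝔞), h1, h2⟩, ?_⟩
  apply hom_ext_one
  rw [ψ_f_one]

lemma ψ_add (x y : P 𝔞 J) : ψ 𝔞 J (x + y) = ψ 𝔞 J x + ψ 𝔞 J y := by
  apply hom_ext_one
  rw [ψ_f_one, HomologicalComplex.add_f_apply]
  show _ = ((ψ 𝔞 J x).f 0).hom (one 𝔞) + ((ψ 𝔞 J y).f 0).hom (one 𝔞)
  rw [ψ_f_one, ψ_f_one]
  rfl

lemma ψ_smul (a : A) (x : P 𝔞 J) : ψ 𝔞 J (a • x) = a • ψ 𝔞 J x := by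
  apply hom_ext_one
  rw [ψ_f_one, HomologicalComplex.smul_f_apply]
  show _ = a • ((ψ 𝔞 J x).f 0).hom (one 𝔞)
  rw [ψ_f_one]
  rfl

/-- compatibility of `ψ` with the transition maps -/
lemma single_map_comp_ψ {𝔞 𝔞' : Ideal A} (h : 𝔞' ≤ 𝔞) (x : P 𝔞 J)
    (hle : 𝔞' ≤ Submodule.comap (LinearMap.id : A →ₗ[A] A) 𝔞) :
    (HomologicalComplex.single (ModuleCat.{u} A) (ComplexShape.up ℤ) 0).map
        (ModuleCat.ofHom (Submodule.mapQ 𝔞' 𝔞 LinearMap.id hle)) ≫ ψ 𝔞 J x =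
      ψ 𝔞' J ⟨x.1, P_mono J h x.2⟩ := by
  apply hom_ext_one
  rw [ψ_f_one]
  show ((ψ 𝔞 J x).f 0).hom
    ((((HomologicalComplex.single (ModuleCat.{u} A) (ComplexShape.up ℤ) 0).map
      (ModuleCat.ofHom (Submodule.mapQ 𝔞' 𝔞 LinearMap.id hle))).f 0).hom (one 𝔞')) = x.1
  have h1 : (((HomologicalComplex.single (ModuleCat.{u} A) (ComplexShape.up ℤ) 0).map
      (ModuleCat.ofHom (Submodule.mapQ 𝔞' 𝔞 LinearMap.id hle))).f 0).hom (one 𝔞') =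
      one 𝔞 := by
    rw [HomologicalComplex.single_map_f_self]
    show (HomologicalComplex.singleObjXSelf (ComplexShape.up ℤ) 0
        (ModuleCat.of A (A ⧸ 𝔞))).inv.hom
      (Submodule.mapQ 𝔞' 𝔞 LinearMap.id hle
        ((HomologicalComplex.singleObjXSelf (ComplexShape.up ℤ) 0
          (ModuleCat.of A (A ⧸ 𝔞'))).hom.hom (one 𝔞'))) = one 𝔞
    rw [self_hom_one, Submodule.mapQ_apply]
    rfl
  rw [h1, ψ_f_one]

/-- naturality of `ψ` in the target -/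
lemma ψ_comp {J' : DRing.Cx A} (φ : J ⟶ J') (x : P 𝔞 J) (x' : P 𝔞 J')
    (hx : (φ.f 0).hom x.1 = x'.1) : ψ 𝔞 J x ≫ φ = ψ 𝔞 J' x' := by
  apply hom_ext_one
  rw [ψ_f_one]
  show (φ.f 0).hom (((ψ 𝔞 J x).f 0).hom (one 𝔞)) = x'.1
  rw [ψ_f_one, hx]

/-- `A/𝔞[0]` in `D(A)` -/
noncomputable def ιn : Dual.inD A (A ⧸ 𝔞) ≅ Q.obj (Sx 𝔞) :=
  (DerivedCategory.singleFunctorIsoCompQ (ModuleCat.{u} A) 0).app (ModuleCat.of A (A ⧸ 𝔞))

lemma ιn_naturality {𝔞 𝔞' : Ideal A}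
    (hle : 𝔞' ≤ Submodule.comap (LinearMap.id : A →ₗ[A] A) 𝔞) :
    (DerivedCategory.singleFunctor (ModuleCat.{u} A) 0).map
        (ModuleCat.ofHom (Submodule.mapQ 𝔞' 𝔞 LinearMap.id hle)) ≫ (ιn 𝔞).hom =
      (ιn 𝔞').hom ≫ Q.map ((HomologicalComplex.single (ModuleCat.{u} A) (ComplexShape.up ℤ) 0).map
        (ModuleCat.ofHom (Submodule.mapQ 𝔞' 𝔞 LinearMap.id hle))) :=
  (DerivedCategory.singleFunctorIsoCompQ (ModuleCat.{u} A) 0).hom.naturality _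

variable {L : Dual.D A} (e' : L ≅ Q.obj J)

/-- the morphism of `D(A)` attached to a cycle killed by `𝔞` -/
noncomputable def τ : P 𝔞 J →ₗ[A] (Dual.inD A (A ⧸ 𝔞) ⟶ L) where
  toFun x := (ιn 𝔞).hom ≫ Q.map (ψ 𝔞 J x) ≫ e'.inv
  map_add' x y := by
    rw [ψ_add, CategoryTheory.Functor.map_add, Preadditive.add_comp, Preadditive.comp_add]
  map_smul' a x := by
    rw [ψ_smul, CategoryTheory.Functor.map_smul, Linear.smul_comp, Linear.comp_smul]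
    rfl

lemma τ_apply (x : P 𝔞 J) :
    τ 𝔞 J e' x = (ιn 𝔞).hom ≫ Q.map (ψ 𝔞 J x) ≫ e'.inv := rfl

lemma τ_surjective [J.IsKInjective] : Function.Surjective (τ 𝔞 J e') := by
  intro t
  obtain ⟨χ, hχ⟩ := Groth.Agent.Lib.DMod_helper6.exists_Q_map_eq_of_isKInjective
    ((ιn 𝔞).inv ≫ t ≫ e'.hom)
  obtain ⟨x, rfl⟩ := exists_ψ_eq 𝔞 J χ
  refine ⟨x, ?_⟩
  rw [τ_apply, hχ]
  simp

lemma Q_map_ψ_eq_zero_of_τ_eq_zero (x : P 𝔞 J) (h : τ 𝔞 J e' x = 0) : Q.map (ψ 𝔞 J x) = 0 := by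
  have h1 : (ιn 𝔞).hom ≫ Q.map (ψ 𝔞 J x) ≫ e'.inv = 0 := h
  have h2 : Q.map (ψ 𝔞 J x) =
      (ιn 𝔞).inv ≫ ((ιn 𝔞).hom ≫ Q.map (ψ 𝔞 J x) ≫ e'.inv) ≫ e'.hom := by
    rw [Category.assoc, Category.assoc, Iso.inv_hom_id, Category.comp_id, Iso.inv_hom_id_assoc]
  rw [h2, h1, zero_comp, comp_zero]

/-- if `τ x = 0` then `x` is the boundary of an element killed by `𝔞` -/
lemma exists_lift_of_τ_eq_zero [J.IsKInjective] (x : P 𝔞 J) (h : τ 𝔞 J e' x = 0) :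
    ∃ y : J.X (-1), (J.d (-1) 0).hom y = x.1 ∧ ∀ a ∈ 𝔞, a • y = 0 := by
  have hQ := Q_map_ψ_eq_zero_of_τ_eq_zero 𝔞 J e' x h
  obtain ⟨H⟩ := Groth.Agent.Lib.InjAmp.homotopy_zero_of_Q_map_eq_zero _ hQ
  obtain ⟨g, hg⟩ := exists_lift_of_homotopy J _ _ H
  refine ⟨g.hom (Submodule.Quotient.mk 1), ?_, ?_⟩
  · have := congrArg (fun f => f.hom (Submodule.Quotient.mk (1 : A) : A ⧸ 𝔞)) hg
    refine this.trans ?_
    show lin 𝔞 x.1 x.2.2 (Submodule.Quotient.mk 1) = x.1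
    rw [lin_mk, one_smul]
  · intro a ha
    rw [← map_smul, smul_mk_one_eq_zero 𝔞 ha, map_zero]

/-- a null-homotopy of `ψ` from a lift of the cycle -/
noncomputable def ψNullHomotopy (x : P 𝔞 J) (y : J.X (-1)) (hy : ∀ a ∈ 𝔞, a • y = 0)
    (hd : (J.d (-1) 0).hom y = x.1) : Homotopy (ψ 𝔞 J x) 0 :=
  nullHomotopy J (ModuleCat.ofHom (lin 𝔞 x.1 x.2.2)) _ (ModuleCat.ofHom (lin 𝔞 y hy)) (by
    apply ModuleCat.hom_ext
    apply LinearMap.ext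
    intro z
    obtain ⟨a, rfl⟩ := Submodule.mkQ_surjective _ z
    show (J.d (-1) 0).hom (lin 𝔞 y hy (Submodule.Quotient.mk a)) =
      lin 𝔞 x.1 x.2.2 (Submodule.Quotient.mk a)
    rw [lin_mk, lin_mk, map_smul, hd])

lemma τ_eq_zero_of_lift (x : P 𝔞 J) (y : J.X (-1)) (hy : ∀ a ∈ 𝔞, a • y = 0)
    (hd : (J.d (-1) 0).hom y = x.1) : τ 𝔞 J e' x = 0 := by
  have hQ : Q.map (ψ 𝔞 J x) = 0 :=
    Q_map_eq_zero_of_homotopy _ (ψNullHomotopy 𝔞 J x y hy hd)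
  rw [τ_apply, hQ, zero_comp, comp_zero]

lemma τ_mono {𝔞 𝔞' : Ideal A} (h : 𝔞' ≤ 𝔞)
    (hle : 𝔞' ≤ Submodule.comap (LinearMap.id : A →ₗ[A] A) 𝔞) (x : P 𝔞 J) :
    (DerivedCategory.singleFunctor (ModuleCat.{u} A) 0).map
        (ModuleCat.ofHom (Submodule.mapQ 𝔞' 𝔞 LinearMap.id hle)) ≫ τ 𝔞 J e' x =
      τ 𝔞' J e' ⟨x.1, P_mono J h x.2⟩ := by
  have h1 := ιn_naturality (𝔞 := 𝔞) (𝔞' := 𝔞') hle
  have h2 := single_map_comp_ψ J h x hle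
  rw [τ_apply, τ_apply]
  calc (DerivedCategory.singleFunctor (ModuleCat.{u} A) 0).map
          (ModuleCat.ofHom (Submodule.mapQ 𝔞' 𝔞 LinearMap.id hle)) ≫
          (ιn 𝔞).hom ≫ Q.map (ψ 𝔞 J x) ≫ e'.inv
      = ((DerivedCategory.singleFunctor (ModuleCat.{u} A) 0).map
          (ModuleCat.ofHom (Submodule.mapQ 𝔞' 𝔞 LinearMap.id hle)) ≫
          (ιn 𝔞).hom) ≫ Q.map (ψ 𝔞 J x) ≫ e'.inv := by rw [Category.assoc]
    _ = ((ιn 𝔞').hom ≫ Q.map ((HomologicalComplex.single (ModuleCat.{u} A)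
          (ComplexShape.up ℤ) 0).map
          (ModuleCat.ofHom (Submodule.mapQ 𝔞' 𝔞 LinearMap.id hle)))) ≫
          Q.map (ψ 𝔞 J x) ≫ e'.inv := by rw [h1]
    _ = (ιn 𝔞').hom ≫ Q.map ((HomologicalComplex.single (ModuleCat.{u} A)
          (ComplexShape.up ℤ) 0).map
          (ModuleCat.ofHom (Submodule.mapQ 𝔞' 𝔞 LinearMap.id hle)) ≫ ψ 𝔞 J x) ≫
          e'.inv := by rw [Q.map_comp, Category.assoc, Category.assoc]
    _ = _ := by rw [h2]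

/-! ### the class in `H^0(J)` of a cycle killed by `𝔞` -/

/-- the cycle of `J` attached to an element of `P` -/
noncomputable def cyc₀ : ModuleCat.of A (P 𝔞 J) ⟶ J.cycles 0 :=
  J.liftCycles (ModuleCat.ofHom (P 𝔞 J).subtype) 1 (by simp) (by
    apply ModuleCat.hom_ext
    apply LinearMap.ext
    intro x
    exact x.2.1)

lemma iCycles_cyc₀ (x : P 𝔞 J) : J.iCycles 0 ((cyc₀ 𝔞 J).hom x) = x.1 := by
  have := J.liftCycles_i (ModuleCat.ofHom (P 𝔞 J).subtype) 1 (by simp) (by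
    apply ModuleCat.hom_ext
    apply LinearMap.ext
    intro x
    exact x.2.1)
  exact congrArg (fun f => f.hom x) this

/-- the cohomology class of `J` attached to an element of `P` -/
noncomputable def κ₀ : P 𝔞 J →ₗ[A] J.homology 0 :=
  (cyc₀ 𝔞 J ≫ J.homologyπ 0).hom

lemma κ₀_apply (x : P 𝔞 J) : κ₀ 𝔞 J x = J.homologyπ 0 ((cyc₀ 𝔞 J).hom x) := rfl

lemma κ₀_eq_zero_of_τ_eq_zero [J.IsKInjective] (x : P 𝔞 J) (h : τ 𝔞 J e' x = 0) :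
    κ₀ 𝔞 J x = 0 := by
  obtain ⟨w, hw, -⟩ := exists_lift_of_τ_eq_zero 𝔞 J e' x h
  have hw' : J.toCycles (-1) 0 w = (cyc₀ 𝔞 J).hom x := by
    apply iCycles_injective
    have h3 : J.iCycles 0 (J.toCycles (-1) 0 w) = J.d (-1) 0 w := by
      have := J.toCycles_i (-1) 0
      exact congrArg (fun f => f.hom w) this
    exact h3.trans (hw.trans (iCycles_cyc₀ 𝔞 J x).symm)
  rw [κ₀_apply, ← hw']
  have := J.toCycles_comp_homologyπ (-1) 0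
  exact congrArg (fun f => f.hom w) this

lemma ker_τ_le₀ [J.IsKInjective] : LinearMap.ker (τ 𝔞 J e') ≤ LinearMap.ker (κ₀ 𝔞 J) :=
  fun x hx => κ₀_eq_zero_of_τ_eq_zero 𝔞 J e' x hx

/-- the class in `H^0(J)` of a morphism `A/𝔞 ⟶ L` -/
noncomputable def θ₀ [J.IsKInjective] : (Dual.inD A (A ⧸ 𝔞) ⟶ L) →ₗ[A] J.homology 0 :=
  (Submodule.liftQ _ (κ₀ 𝔞 J) (ker_τ_le₀ 𝔞 J e')) ∘ₗ
    ((τ 𝔞 J e').quotKerEquivOfSurjective (τ_surjective 𝔞 J e')).symm.toLinearMap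

lemma θ₀_τ [J.IsKInjective] (x : P 𝔞 J) : θ₀ 𝔞 J e' (τ 𝔞 J e' x) = κ₀ 𝔞 J x := by
  have h1 : ((τ 𝔞 J e').quotKerEquivOfSurjective (τ_surjective 𝔞 J e')).symm
      (τ 𝔞 J e' x) = Submodule.Quotient.mk x := by
    rw [LinearEquiv.symm_apply_eq]
    rfl
  show Submodule.liftQ _ (κ₀ 𝔞 J) (ker_τ_le₀ 𝔞 J e')
    (((τ 𝔞 J e').quotKerEquivOfSurjective (τ_surjective 𝔞 J e')).symm (τ 𝔞 J e' x)) = _
  rw [h1, Submodule.liftQ_apply]

/-- if `J` vanishes in degree `-1` and `𝔞` kills `H^0(J)`, every class comes from a morphism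
`A/𝔞 ⟶ L` -/
lemma θ₀_surjective [J.IsKInjective] (hJ : ∀ y : J.X (-1), y = 0)
    (hk : ∀ a ∈ 𝔞, ∀ h : J.homology 0, a • h = 0) : Function.Surjective (θ₀ 𝔞 J e') := by
  intro h
  obtain ⟨z, rfl⟩ := exists_homologyπ_eq J 0 h
  have hd : (J.d 0 1).hom (J.iCycles 0 z) = 0 := by
    have := J.iCycles_d 0 1
    exact congrArg (fun f => f.hom z) this
  have hk' : ∀ a ∈ 𝔞, a • J.iCycles 0 z = 0 := by
    intro a ha
    have h1 : J.homologyπ 0 (a • z) = 0 := by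
      rw [map_smul]
      exact hk a ha _
    obtain ⟨w, hw⟩ := (homologyπ_eq_zero_iff' J (-1) 0 (by simp) _).1 h1
    rw [hJ w, map_zero] at hw
    rw [← map_smul, ← hw, map_zero]
  refine ⟨τ 𝔞 J e' ⟨J.iCycles 0 z, hd, hk'⟩, ?_⟩
  rw [θ₀_τ, κ₀_apply]
  congr 1
  apply iCycles_injective
  exact iCycles_cyc₀ 𝔞 J _

end Groth.Agent.Lib.FaltT
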