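import Mathlib
import Groth.Agent.Lib.FT2_helper6

/-!
# `H^q(Γ_T J) = colim_{V(𝔞) ⊆ T} Hom_{D(A)}(A/𝔞, K[q])` for a K-injective complex `J` representing `K` (helper6)
-/

set_option autoImplicit false
set_option linter.style.haveILetI false
set_option linter.unusedSectionVars false
set_option linter.unusedVariables false
universe u
open CategoryTheory CategoryTheory.Limits DerivedCategory Opposite

attribute [local instance] HasDerivedCategory.standard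

namespace Groth.Agent.Lib.FaltT

open Groth.Agent.Lib.RGamma Groth.Agent.HomologyColim Groth.Agent.Lib.HDIColim

variable {A : Type u} [CommRing A] (T : Set (PrimeSpectrum A))

section Filtered

instance : Nonempty (Dual2.IdealsIn T) := ⟨⟨⊤, inT_top T⟩⟩

instance isCofiltered_idealsIn : IsCofiltered (Dual2.IdealsIn T) where
  cone_objs X Y :=
    ⟨⟨X.1 ⊓ Y.1, inT_inf (T := T) X.2 Y.2⟩, ObjectProperty.homMk (homOfLE inf_le_left),
      ObjectProperty.homMk (homOfLE inf_le_right), trivial⟩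
  cone_maps X Y f g := ⟨X, 𝟙 X, by
    apply ObjectProperty.hom_ext
    exact Subsingleton.elim _ _⟩

noncomputable instance preservesColimit_forget_idealsIn
    (F : (Dual2.IdealsIn T)ᵒᵖ ⥤ ModuleCat.{u+1} A) :
    PreservesColimit F (forget (ModuleCat.{u+1} A)) := by
  haveI h1 : PreservesColimit F (forget₂ (ModuleCat.{u+1} A) AddCommGrpCat.{u+1}) := inferInstance
  haveI h2 : PreservesFilteredColimitsOfSize.{u, u} (forget AddCommGrpCat.{u+1}) :=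
    preservesFilteredColimitsOfSize_shrink.{u, u+1, u, u+1} _
  haveI h3 : PreservesColimit (F ⋙ forget₂ (ModuleCat.{u+1} A) AddCommGrpCat.{u+1})
      (forget AddCommGrpCat.{u+1}) := by
    have := h2.preserves_filtered_colimits (Dual2.IdealsIn T)ᵒᵖ
    infer_instance
  exact (inferInstance : PreservesColimit F
    (forget₂ (ModuleCat.{u+1} A) AddCommGrpCat.{u+1} ⋙ forget AddCommGrpCat.{u+1}))

lemma exists_rep_idealsIn (F : (Dual2.IdealsIn T)ᵒᵖ ⥤ ModuleCat.{u+1} A)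
    (x : (colimit F : ModuleCat.{u+1} A)) :
    ∃ (j : (Dual2.IdealsIn T)ᵒᵖ) (y : F.obj j), (colimit.ι F j).hom y = x :=
  Concrete.colimit_exists_rep F x

end Filtered

variable (J : DRing.Cx A)

/-- `Γ_T J` -/
noncomputable abbrev G : DRing.Cx A := (ΓTC T).obj J

variable {T} {𝔞 : Ideal A} (h𝔞 : InT T 𝔞)

/-- the inclusion `P 𝔞 ⊆ Γ_T(J^0)` -/
noncomputable def incl : P 𝔞 J →ₗ[A] torsT T (J.X 0) :=
  LinearMap.codRestrict _ (P 𝔞 J).subtype (fun x => ⟨𝔞, h𝔞, x.2.2⟩)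

lemma incl_d :
    (ModuleCat.ofHom (incl J h𝔞) : ModuleCat.of A (P 𝔞 J) ⟶ (G T J).X 0) ≫ (G T J).d 0 1 = 0 := by
  apply ModuleCat.hom_ext
  apply LinearMap.ext
  intro x
  apply Subtype.ext
  exact x.2.1

/-- the cycle of `Γ_T J` attached to an element of `P 𝔞` -/
noncomputable def cyc : ModuleCat.of A (P 𝔞 J) ⟶ (G T J).cycles 0 :=
  (G T J).liftCycles (ModuleCat.ofHom (incl J h𝔞)) 1 (by simp) (incl_d J h𝔞)

lemma iCycles_cyc (x : P 𝔞 J) :
    (G T J).iCycles 0 ((cyc J h𝔞).hom x) = incl J h𝔞 x := by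
  have := (G T J).liftCycles_i (ModuleCat.ofHom (incl J h𝔞)) 1 (by simp) (incl_d J h𝔞)
  exact congrArg (fun f => f.hom x) this

/-- the cohomology class of `Γ_T J` attached to an element of `P 𝔞` -/
noncomputable def κ : P 𝔞 J →ₗ[A] (G T J).homology 0 :=
  (cyc J h𝔞 ≫ (G T J).homologyπ 0).hom

lemma κ_apply (x : P 𝔞 J) :
    κ J h𝔞 x = (G T J).homologyπ 0 ((cyc J h𝔞).hom x) := rfl

lemma κ_mono {𝔞' : Ideal A} (h : 𝔞' ≤ 𝔞) (h𝔞' : InT T 𝔞') (x : P 𝔞 J) :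
    κ J h𝔞' ⟨x.1, P_mono J h x.2⟩ = κ J h𝔞 x := by
  rw [κ_apply, κ_apply]
  congr 1
  apply iCycles_injective
  exact (iCycles_cyc J h𝔞' _).trans
    ((Subtype.ext rfl : incl J h𝔞' ⟨x.1, P_mono J h x.2⟩ = incl J h𝔞 x).trans
      (iCycles_cyc J h𝔞 x).symm)

variable (T) in
lemma exists_κ_eq (h : (G T J).homology 0) :
    ∃ (𝔞 : Ideal A) (h𝔞 : InT T 𝔞) (x : P 𝔞 J), κ J h𝔞 x = h := by
  obtain ⟨z, rfl⟩ := exists_homologyπ_eq (G T J) 0 h
  have hd : (G T J).d 0 1 ((G T J).iCycles 0 z) = 0 := by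
    have := (G T J).iCycles_d 0 1
    exact congrArg (fun f => f.hom z) this
  obtain ⟨𝔞, h𝔞, hn⟩ := ((G T J).iCycles 0 z).2
  refine ⟨𝔞, h𝔞, ⟨((G T J).iCycles 0 z).1, congrArg Subtype.val hd, hn⟩, ?_⟩
  rw [κ_apply]
  congr 1
  apply iCycles_injective
  exact (iCycles_cyc J h𝔞 _).trans (Subtype.ext rfl)

variable {L : Dual.D A} (e' : L ≅ Q.obj J)

lemma κ_eq_zero_of_τ_eq_zero [J.IsKInjective] (x : P 𝔞 J) (h : τ 𝔞 J e' x = 0) :
    κ J h𝔞 x = 0 := by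
  obtain ⟨y, hy1, hy2⟩ := exists_lift_of_τ_eq_zero 𝔞 J e' x h
  let w : (G T J).X (-1) := ⟨y, 𝔞, h𝔞, hy2⟩
  have hw : (G T J).toCycles (-1) 0 w = (cyc J h𝔞).hom x := by
    apply iCycles_injective
    have h3 : (G T J).iCycles 0 ((G T J).toCycles (-1) 0 w) = (G T J).d (-1) 0 w := by
      have := (G T J).toCycles_i (-1) 0
      exact congrArg (fun f => f.hom w) this
    refine h3.trans (Eq.trans ?_ (iCycles_cyc J h𝔞 x).symm)
    exact Subtype.ext hy1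
  rw [κ_apply, ← hw]
  have := (G T J).toCycles_comp_homologyπ (-1) 0
  exact congrArg (fun f => f.hom w) this

lemma exists_τ_eq_zero_of_κ_eq_zero (x : P 𝔞 J) (h : κ J h𝔞 x = 0) :
    ∃ (𝔞' : Ideal A) (hn : 𝔞' ≤ 𝔞) (_ : InT T 𝔞'), τ 𝔞' J e' ⟨x.1, P_mono J hn x.2⟩ = 0 := by
  rw [κ_apply] at h
  obtain ⟨w, hw⟩ := (homologyπ_eq_zero_iff' (G T J) (-1) 0 (by simp) _).1 h
  have h1 : (G T J).d (-1) 0 w = incl J h𝔞 x := by
    have h3 : (G T J).iCycles 0 ((G T J).toCycles (-1) 0 w) = (G T J).d (-1) 0 w := by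
      have := (G T J).toCycles_i (-1) 0
      exact congrArg (fun f => f.hom w) this
    rw [← h3, hw]
    exact iCycles_cyc J h𝔞 x
  obtain ⟨𝔟, h𝔟, hm⟩ := w.2
  have hy1 : (J.d (-1) 0).hom w.1 = x.1 := congrArg Subtype.val h1
  refine ⟨𝔞 ⊓ 𝔟, inf_le_left, inT_inf h𝔞 h𝔟, ?_⟩
  exact τ_eq_zero_of_lift (𝔞 ⊓ 𝔟) J e' _ w.1 (fun a ha => hm a ha.2) hy1

lemma ker_τ_le [J.IsKInjective] :
    LinearMap.ker (τ 𝔞 J e') ≤ LinearMap.ker (κ J h𝔞) :=
  fun x hx => κ_eq_zero_of_τ_eq_zero J h𝔞 e' x hx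

/-- the class in `H^0(Γ_T J)` of a morphism `A/𝔞 ⟶ L` -/
noncomputable def θ [J.IsKInjective] :
    (Dual.inD A (A ⧸ 𝔞) ⟶ L) →ₗ[A] (G T J).homology 0 :=
  (Submodule.liftQ _ (κ J h𝔞) (ker_τ_le J h𝔞 e')) ∘ₗ
    ((τ 𝔞 J e').quotKerEquivOfSurjective (τ_surjective 𝔞 J e')).symm.toLinearMap

lemma θ_τ [J.IsKInjective] (x : P 𝔞 J) : θ J h𝔞 e' (τ 𝔞 J e' x) = κ J h𝔞 x := by
  have h1 : ((τ 𝔞 J e').quotKerEquivOfSurjective (τ_surjective 𝔞 J e')).symm
      (τ 𝔞 J e' x) = Submodule.Quotient.mk x := by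
    rw [LinearEquiv.symm_apply_eq]
    rfl
  show Submodule.liftQ _ (κ J h𝔞) (ker_τ_le J h𝔞 e')
    (((τ 𝔞 J e').quotKerEquivOfSurjective (τ_surjective 𝔞 J e')).symm (τ 𝔞 J e' x)) = _
  rw [h1, Submodule.liftQ_apply]

lemma θ_compat [J.IsKInjective] {𝔞' : Ideal A} (h : 𝔞' ≤ 𝔞) (h𝔞' : InT T 𝔞')
    (hle : 𝔞' ≤ Submodule.comap (LinearMap.id : A →ₗ[A] A) 𝔞)
    (t : Dual.inD A (A ⧸ 𝔞) ⟶ L) :
    θ J h𝔞' e' ((DerivedCategory.singleFunctor (ModuleCat.{u} A) 0).map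
        (ModuleCat.ofHom (Submodule.mapQ 𝔞' 𝔞 LinearMap.id hle)) ≫ t) =
      θ J h𝔞 e' t := by
  obtain ⟨x, rfl⟩ := τ_surjective 𝔞 J e' t
  rw [τ_mono J e' h hle x, θ_τ, θ_τ, κ_mono J h𝔞 h h𝔞' x]

variable (T)

/-- **`H^0(Γ_T J) = colim_{V(𝔞) ⊆ T} Hom(A/𝔞, J)`** for a K-injective complex `J` -/
theorem main_lemma [J.IsKInjective] (L : Dual.D A) (e' : L ≅ Q.obj J) :
    Nonempty ((G T J).homology 0 ≃ₗ[A]
      (colimit ((localCohomology.ringModIdeals (Dual2.idealsInDiagram T) ⋙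
        DerivedCategory.singleFunctor (ModuleCat.{u} A) 0).op ⋙
          (linearYoneda A (Dual.D A)).obj L) : ModuleCat.{u+1} A)) := by
  let F : (Dual2.IdealsIn T)ᵒᵖ ⥤ ModuleCat.{u+1} A :=
    (localCohomology.ringModIdeals (Dual2.idealsInDiagram T) ⋙
      DerivedCategory.singleFunctor (ModuleCat.{u} A) 0).op ⋙ (linearYoneda A (Dual.D A)).obj L
  let c : Cocone F :=
    { pt := ModuleCat.of A (ULift.{u+1} ((G T J).homology 0))
      ι :=
        { app := fun j => ModuleCat.ofHom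
            ((ULift.moduleEquiv (R := A) (M := (G T J).homology 0)).symm.toLinearMap ∘ₗ
              θ J j.unop.2 e')
          naturality := by
            intro j j' g
            apply ModuleCat.hom_ext
            refine LinearMap.ext fun t => ?_
            exact congrArg ULift.up (θ_compat J j.unop.2 e' (leOfHom g.unop.hom) j'.unop.2 _ t) } }
  let d : colimit F ⟶ c.pt := colimit.desc F c
  have hd : ∀ (j : (Dual2.IdealsIn T)ᵒᵖ) (t : F.obj j),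
      d.hom ((colimit.ι F j).hom t) = ULift.up (θ J j.unop.2 e' t) := by
    intro j t
    have h1 : colimit.ι F j ≫ d = c.ι.app j := colimit.ι_desc c j
    exact LinearMap.congr_fun (congrArg ModuleCat.Hom.hom h1) t
  have hinj : Function.Injective d.hom := by
    rw [injective_iff_map_eq_zero]
    intro y hy
    obtain ⟨j, t, rfl⟩ := exists_rep_idealsIn T F y
    rw [hd] at hy
    have h1 : θ J j.unop.2 e' t = 0 := congrArg ULift.down hy
    obtain ⟨x, rfl⟩ := τ_surjective j.unop.1 J e' t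
    rw [θ_τ] at h1
    obtain ⟨𝔞', hn, h𝔞', h2⟩ := exists_τ_eq_zero_of_κ_eq_zero J j.unop.2 e' x h1
    let j' : (Dual2.IdealsIn T)ᵒᵖ := op ⟨𝔞', h𝔞'⟩
    let g : j ⟶ j' := (ObjectProperty.homMk (homOfLE hn) : (⟨𝔞', h𝔞'⟩ : Dual2.IdealsIn T) ⟶ j.unop).op
    have h3 : (F.map g).hom (τ j.unop.1 J e' x) = 0 := by
      refine Eq.trans ?_ h2
      exact τ_mono J e' hn _ x
    have h4 : colimit.ι F j = F.map g ≫ colimit.ι F j' := (colimit.w F g).symm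
    rw [h4]
    show (colimit.ι F j').hom ((F.map g).hom _) = 0
    rw [h3, map_zero]
  have hsurj : Function.Surjective d.hom := by
    intro y
    obtain ⟨𝔞, h𝔞, x, hx⟩ := exists_κ_eq T J y.down
    refine ⟨(colimit.ι F (op ⟨𝔞, h𝔞⟩)).hom (τ 𝔞 J e' x), ?_⟩
    rw [hd]
    show ULift.up (θ J h𝔞 e' (τ 𝔞 J e' x)) = y
    rw [θ_τ, hx]
  exact ⟨((LinearEquiv.ofBijective d.hom ⟨hinj, hsurj⟩).trans ULift.moduleEquiv).symm⟩

/-- for a K-injective complex `J` representing `K`: `H^q(Γ_T J) = colim Hom(A/𝔞, K[q])` -/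
theorem homology_equiv_HDT (J : DRing.Cx A) [J.IsKInjective] (K : Dual.D A) (e : K ≅ Q.obj J)
    (q : ℤ) : Nonempty (((ΓTC T).obj J).homology q ≃ₗ[A] Dual2.HDT A T K q) := by
  let e' : K⟦q⟧ ≅ Q.obj (J⟦q⟧) :=
    (shiftFunctor (Dual.D A) q).mapIso e ≪≫ ((Q.commShiftIso q).app J).symm
  obtain ⟨E⟩ := main_lemma T (J⟦q⟧) (K⟦q⟧) e'
  let i3 : (((ΓTC T).obj J)⟦q⟧).homology 0 ≅ ((ΓTC T).obj J).homology q :=
    (CochainComplex.ShiftSequence.shiftIso (ModuleCat.{u} A) q 0 q (add_zero q)).app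
      ((ΓTC T).obj J)
  let i4 : ((ΓTC T).obj (J⟦q⟧)).homology 0 ≅ (((ΓTC T).obj J)⟦q⟧).homology 0 :=
    (HomologicalComplex.homologyFunctor (ModuleCat.{u} A) (ComplexShape.up ℤ) 0).mapIso
      (((ΓTC T).commShiftIso q).app J)
  exact ⟨(i3.symm ≪≫ i4.symm).toLinearEquiv.trans E⟩

end Groth.Agent.Lib.FaltT
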