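import Mathlib
import Groth.Agent.Lib.FT3_helper6

/-!
# Cohomology classes of cycles, and ideals with zero locus in a specialization-stable set (helper6)
-/

set_option autoImplicit false
set_option linter.style.haveILetI false
set_option linter.unusedSectionVars false
set_option linter.unusedVariables false
universe u
open CategoryTheory CategoryTheory.Limits

namespace Groth.Agent.Lib.FaltT

open Groth.Agent.HomologyColim Groth.Agent.Lib.HDIColim

section Classes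

variable {A : Type u} [CommRing A] (Y : DRing.Cx A) (i : ℤ)

/-- the cycles of degree `i`, as a submodule -/
def Zc : Submodule A (Y.X i) := LinearMap.ker (Y.d i (i + 1)).hom

lemma mem_Zc {z : Y.X i} : z ∈ Zc Y i ↔ (Y.d i (i + 1)).hom z = 0 := LinearMap.mem_ker

lemma d_mem_Zc (j : ℤ) (w : Y.X j) : (Y.d j i).hom w ∈ Zc Y i := by
  rw [mem_Zc]
  have := Y.d_comp_d j i (i + 1)
  exact congrArg (fun f => f.hom w) this

/-- the cycle attached to an element of `Zc` -/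
noncomputable def cycOf : ModuleCat.of A (Zc Y i) ⟶ Y.cycles i :=
  Y.liftCycles (ModuleCat.ofHom (Zc Y i).subtype) (i + 1) (by simp) (by
    apply ModuleCat.hom_ext
    apply LinearMap.ext
    intro x
    exact x.2)

lemma iCycles_cycOf (z : Zc Y i) : Y.iCycles i ((cycOf Y i).hom z) = z.1 := by
  have := Y.liftCycles_i (ModuleCat.ofHom (Zc Y i).subtype) (i + 1) (by simp) (by
    apply ModuleCat.hom_ext
    apply LinearMap.ext
    intro x
    exact x.2)
  exact congrArg (fun f => f.hom z) this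

/-- the cohomology class of a cycle -/
noncomputable def mkH : Zc Y i →ₗ[A] Y.homology i := (cycOf Y i ≫ Y.homologyπ i).hom

lemma mkH_apply (z : Zc Y i) : mkH Y i z = Y.homologyπ i ((cycOf Y i).hom z) := rfl

lemma mkH_surjective : Function.Surjective (mkH Y i) := by
  intro h
  obtain ⟨c, rfl⟩ := exists_homologyπ_eq Y i h
  have hd : (Y.d i (i + 1)).hom (Y.iCycles i c) = 0 := by
    have := Y.iCycles_d i (i + 1)
    exact congrArg (fun f => f.hom c) this
  refine ⟨⟨Y.iCycles i c, hd⟩, ?_⟩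
  rw [mkH_apply]
  congr 1
  apply iCycles_injective
  exact iCycles_cycOf Y i _

lemma mkH_eq_zero_iff (j : ℤ) (hj : j + 1 = i) (z : Zc Y i) :
    mkH Y i z = 0 ↔ ∃ w : Y.X j, (Y.d j i).hom w = z.1 := by
  rw [mkH_apply, homologyπ_eq_zero_iff' Y j i hj]
  constructor
  · rintro ⟨w, hw⟩
    refine ⟨w, ?_⟩
    have h3 : Y.iCycles i (Y.toCycles j i w) = Y.d j i w := by
      have := Y.toCycles_i j i
      exact congrArg (fun f => f.hom w) this
    rw [← iCycles_cycOf Y i z, ← hw]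
    exact h3.symm
  · rintro ⟨w, hw⟩
    refine ⟨w, ?_⟩
    apply iCycles_injective
    have h3 : Y.iCycles i (Y.toCycles j i w) = Y.d j i w := by
      have := Y.toCycles_i j i
      exact congrArg (fun f => f.hom w) this
    rw [h3, iCycles_cycOf]
    exact hw

lemma mkH_eq_iff (j : ℤ) (hj : j + 1 = i) (z z' : Zc Y i) :
    mkH Y i z = mkH Y i z' ↔ ∃ w : Y.X j, (Y.d j i).hom w = z.1 - z'.1 := by
  rw [← sub_eq_zero, ← map_sub, mkH_eq_zero_iff Y i j hj]
  rfl

variable {Y} {Y' : DRing.Cx A} (φ : Y ⟶ Y')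

lemma map_mem_Zc {z : Y.X i} (hz : z ∈ Zc Y i) : (φ.f i).hom z ∈ Zc Y' i := by
  rw [mem_Zc] at hz ⊢
  have := f_d φ i (i + 1) z
  rw [← this, hz, map_zero]

lemma homologyMap_mkH (z : Zc Y i) :
    (HomologicalComplex.homologyMap φ i).hom (mkH Y i z) =
      mkH Y' i ⟨(φ.f i).hom z.1, map_mem_Zc i φ z.2⟩ := by
  rw [mkH_apply, mkH_apply]
  have h1 := homologyMap_homologyπ φ i ((cycOf Y i).hom z)
  refine h1.trans ?_
  congr 1
  apply iCycles_injective
  rw [iCycles_cyclesMap, iCycles_cycOf, iCycles_cycOf]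

end Classes

section Ideals

variable {A : Type u} [CommRing A] [IsNoetherianRing A]

/-- **Localization lemma for ideals.** If every prime `p ≤ q` containing `𝔟` lies in the
specialization-stable set `W`, then `t 𝔠 ⊆ 𝔟` for some `t ∉ q` and an ideal `𝔠` with `V(𝔠) ⊆ W`. -/
theorem exists_mul_le_of_forall_mem {W : Set (PrimeSpectrum A)} (hW : StableUnderSpecialization W)
    (q : PrimeSpectrum A) (𝔟 : Ideal A)
    (h : ∀ p : PrimeSpectrum A, 𝔟 ≤ p.asIdeal → p ≤ q → p ∈ W) :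
    ∃ (t : A) (𝔠 : Ideal A), t ∉ q.asIdeal ∧ InT W 𝔠 ∧ ∀ c ∈ 𝔠, t * c ∈ 𝔟 := by
  classical
  have hfin : (𝔟.minimalPrimes).Finite := Ideal.finite_minimalPrimes_of_isNoetherianRing A 𝔟
  let S : Finset (Ideal A) := hfin.toFinset
  have hS : ∀ P, P ∈ S ↔ P ∈ 𝔟.minimalPrimes := fun P => hfin.mem_toFinset
  let S₁ : Finset (Ideal A) := S.filter (fun P => P ≤ q.asIdeal)
  let S₂ : Finset (Ideal A) := S.filter (fun P => ¬ P ≤ q.asIdeal)
  -- elements outside `q` in the primes of `S₂`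
  have hex : ∀ P ∈ S₂, ∃ t : A, t ∈ P ∧ t ∉ q.asIdeal := by
    intro P hP
    have hP' := (Finset.mem_filter.1 hP).2
    exact SetLike.not_le_iff_exists.1 hP'
  choose! tf htf using hex
  let t₀ : A := ∏ P ∈ S₂, tf P
  have ht₀ : t₀ ∉ q.asIdeal := by
    intro hmem
    obtain ⟨P, hP, hPq⟩ := (Ideal.IsPrime.prod_mem_iff).1 hmem
    exact (htf P hP).2 hPq
  let 𝔠₀ : Ideal A := S₁.inf id
  have h𝔠₀ : InT W 𝔠₀ := by
    apply inT_finset_inf
    intro P hP
    have hP1 := (Finset.mem_filter.1 hP)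
    have hPmin : P ∈ 𝔟.minimalPrimes := (hS P).1 hP1.1
    haveI : P.IsPrime := hPmin.1.1
    have hPW : (⟨P, inferInstance⟩ : PrimeSpectrum A) ∈ W := h ⟨P, inferInstance⟩ hPmin.1.2 hP1.2
    intro p hp
    have hle : P ≤ p.asIdeal := (PrimeSpectrum.mem_zeroLocus _ _).1 hp
    exact hW ((PrimeSpectrum.le_iff_specializes _ _).1 hle) hPW
  -- `t₀ 𝔠₀ ⊆ rad 𝔟`
  have hrad : ∀ c ∈ 𝔠₀, t₀ * c ∈ 𝔟.radical := by
    intro c hc
    rw [← Ideal.sInf_minimalPrimes, Ideal.mem_sInf]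
    intro P hP
    haveI : P.IsPrime := hP.1.1
    by_cases hPq : P ≤ q.asIdeal
    · have hP1 : P ∈ S₁ := Finset.mem_filter.2 ⟨(hS P).2 hP, hPq⟩
      have : 𝔠₀ ≤ P := Finset.inf_le (f := id) hP1
      exact P.mul_mem_left _ (this hc)
    · have hP2 : P ∈ S₂ := Finset.mem_filter.2 ⟨(hS P).2 hP, hPq⟩
      have h1 : t₀ ∈ P := by
        have : tf P ∣ t₀ := Finset.dvd_prod_of_mem tf hP2
        exact Ideal.mem_of_dvd P this (htf P hP2).1
      exact P.mul_mem_right _ h1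
  obtain ⟨N, hN⟩ := Ideal.exists_radical_pow_le_of_fg 𝔟 (IsNoetherian.noetherian 𝔟.radical)
  refine ⟨t₀ ^ N, 𝔠₀ ^ N, fun hmem => ht₀ (q.isPrime.mem_of_pow_mem N hmem), inT_pow h𝔠₀ N, ?_⟩
  intro c hc
  apply hN
  have h2 : Ideal.span {t₀} * 𝔠₀ ≤ 𝔟.radical := by
    rw [Ideal.mul_le]
    intro r hr c' hc'
    obtain ⟨a, rfl⟩ := Ideal.mem_span_singleton'.1 hr
    rw [mul_assoc]
    exact Ideal.mul_mem_left _ _ (hrad c' hc')
  have h3 : t₀ ^ N * c ∈ (Ideal.span {t₀} * 𝔠₀) ^ N := by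
    rw [mul_pow, Ideal.span_singleton_pow]
    exact Ideal.mul_mem_mul (Ideal.mem_span_singleton_self _) hc
  exact Ideal.pow_right_mono h2 N h3

/-- over a Noetherian ring, `V(𝔠) ⊆ V(I)` iff a power of `I` lies in `𝔠` -/
lemma exists_pow_le_of_inT_zeroLocus (I 𝔠 : Ideal A)
    (h : InT (PrimeSpectrum.zeroLocus (I : Set A)) 𝔠) : ∃ N : ℕ, I ^ N ≤ 𝔠 := by
  have h1 : I ≤ 𝔠.radical := (PrimeSpectrum.zeroLocus_subset_zeroLocus_iff 𝔠 I).1 h
  exact Ideal.exists_pow_le_of_le_radical_of_fg h1 (IsNoetherian.noetherian I)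

lemma inT_zeroLocus_self (I : Ideal A) : InT (PrimeSpectrum.zeroLocus (I : Set A)) I :=
  fun _ hp => hp

/-- `Γ_{V(I)} = Γ_I` over a Noetherian ring -/
theorem torsT_zeroLocus_eq (I : Ideal A) (M : Type u) [AddCommGroup M] [Module A M] :
    torsT (PrimeSpectrum.zeroLocus (I : Set A)) M = DRing.torsionSub I M := by
  apply le_antisymm
  · rintro m ⟨𝔠, h𝔠, hm⟩
    obtain ⟨N, hN⟩ := exists_pow_le_of_inT_zeroLocus I 𝔠 h𝔠
    exact ⟨N, fun a ha => hm a (hN ha)⟩
  · exact torsionSub_le_torsT (inT_zeroLocus_self I) M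

end Ideals

end Groth.Agent.Lib.FaltT
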