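import Mathlib
import Groth.Agent.Lib.FT9_helper6
import Groth.Agent.Lib.ExtCech3_helper7

/-!
# The Cousin-type step for `Γ_U ⊆ Γ_V` (helper6)

`U ⊆ V` specialization-stable, every point of `V ∖ U` without proper generalization in `V`.  For a complex
`I` of injective modules over a Noetherian ring, a cohomology class of `Γ_V I` which dies after
localization at every point of `V ∖ U` comes from `Γ_U I`.
-/

set_option autoImplicit false
set_option linter.style.haveILetI false
set_option linter.unusedSectionVars false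
set_option linter.unusedVariables false
universe u
open CategoryTheory CategoryTheory.Limits

namespace Groth.Agent.Lib.FaltT

open Groth.Agent.HomologyColim Groth.Agent.Lib.HDIColim

variable {A : Type u} [CommRing A]

section Mono

variable {U V : Set (PrimeSpectrum A)}

lemma inT_subset (h : U ⊆ V) {J : Ideal A} (hJ : InT U J) : InT V J := fun _ hp => h (hJ hp)

lemma torsT_mono (h : U ⊆ V) (M : Type u) [AddCommGroup M] [Module A M] :
    torsT U M ≤ torsT V M := by
  rintro m ⟨J, hJ, hm⟩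
  exact ⟨J, inT_subset h hJ, hm⟩

/-- `Γ_U ⟶ Γ_V` for `U ⊆ V` -/
noncomputable def gammaTle (h : U ⊆ V) : gammaT U ⟶ gammaT V where
  app M := ModuleCat.ofHom (Submodule.inclusion (torsT_mono h M))
  naturality _ _ _ := rfl

/-- `Γ_U X ⟶ Γ_V X` for `U ⊆ V` -/
noncomputable def ΓTCle (h : U ⊆ V) (X : DRing.Cx A) : (ΓTC U).obj X ⟶ (ΓTC V).obj X :=
  (NatTrans.mapHomologicalComplex (gammaTle h) (ComplexShape.up ℤ)).app X

lemma ΓTCle_f_apply (h : U ⊆ V) (X : DRing.Cx A) (n : ℤ) (x : torsT U (X.X n)) :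
    (((ΓTCle h X).f n).hom x : torsT V (X.X n)).1 = x.1 := rfl

end Mono

section Noeth

variable [IsNoetherianRing A]

/-- element form of the surjectivity of localization on injective modules -/
lemma exists_div_of_injective (E : Type u) [AddCommGroup E] [Module A E]
    (hE : Module.Injective A E) (f : A) (e : E) :
    ∃ (y : E) (n : ℕ), f ^ n • (f • y - e) = 0 := by
  have hs := Groth.Agent.Lib.ExtCechH7.surjective_of_injective_module f hE
    (LocalizedModule.mkLinearMap (Submonoid.powers f) E)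
  obtain ⟨y, hy⟩ := hs (LocalizedModule.mk e ⟨f, 1, pow_one f⟩)
  rw [LocalizedModule.mkLinearMap_apply, LocalizedModule.mk_eq] at hy
  obtain ⟨⟨_, n, rfl⟩, hu⟩ := hy
  refine ⟨y, n, ?_⟩
  have h1 : f ^ n • f • y = f ^ n • e := by
    have : f ^ n • ((⟨f, 1, pow_one f⟩ : Submonoid.powers f) • y) =
        f ^ n • ((1 : Submonoid.powers f) • e) := hu
    rw [one_smul] at this
    exact this
  rw [smul_sub, h1, sub_self]

variable {V : Set (PrimeSpectrum A)}

/-- if `q ∈ V` has no proper generalization in `V` then `Γ_V M` and `Γ_q M` agree after localizing at `q` -/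
lemma exists_smul_mem_torsionSub (q : PrimeSpectrum A) (hgen : ∀ p : PrimeSpectrum A, p < q → p ∉ V)
    {M : Type u} [AddCommGroup M] [Module A M] (m : M) (hm : m ∈ torsT V M) :
    ∃ t : A, t ∉ q.asIdeal ∧ t • m ∈ DRing.torsionSub q.asIdeal M := by
  obtain ⟨𝔞, h𝔞, hk⟩ := hm
  have hW : StableUnderSpecialization (PrimeSpectrum.zeroLocus (q.asIdeal : Set A)) :=
    (PrimeSpectrum.isClosed_zeroLocus _).stableUnderSpecialization
  obtain ⟨t, 𝔠, ht, h𝔠, hmul⟩ := exists_mul_le_of_forall_mem hW q 𝔞 (by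
    intro p hp hpq
    have hpV : p ∈ V := h𝔞 ((PrimeSpectrum.mem_zeroLocus _ _).2 hp)
    rcases eq_or_lt_of_le hpq with h | h
    · rw [h]
      exact (PrimeSpectrum.mem_zeroLocus _ _).2 le_rfl
    · exact absurd hpV (hgen p h))
  obtain ⟨N, hN⟩ := exists_pow_le_of_inT_zeroLocus q.asIdeal 𝔠 h𝔠
  refine ⟨t, ht, N, fun a ha => ?_⟩
  rw [smul_smul, mul_comm]
  exact hk _ (hmul a (hN ha))

/-- lifting elements of `(Γ_V E)_q` to `Γ_q E`, for `E` injective -/
lemma exists_lift_torsion (q : PrimeSpectrum A) (hgen : ∀ p : PrimeSpectrum A, p < q → p ∉ V)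
    (E : Type u) [AddCommGroup E] [Module A E] (hE : Module.Injective A E)
    (m : E) (hm : m ∈ torsT V E) (t₁ : A) (ht₁ : t₁ ∉ q.asIdeal) :
    ∃ (y : E) (t₂ : A), y ∈ DRing.torsionSub q.asIdeal E ∧ t₂ ∉ q.asIdeal ∧
      t₂ • (t₁ • y - m) = 0 := by
  obtain ⟨t, ht, htm⟩ := exists_smul_mem_torsionSub q hgen m hm
  have hinj := Groth.Agent.Lib.LocFib.injective_torsionSub q.asIdeal E hE
  obtain ⟨y, n, hy⟩ := exists_div_of_injective (DRing.torsionSub q.asIdeal E) hinj (t * t₁)
    ⟨t • m, htm⟩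
  refine ⟨y.1, (t * t₁) ^ n * t, y.2, ?_, ?_⟩
  · intro hmem
    rcases q.isPrime.mem_or_mem hmem with h | h
    · rcases q.isPrime.mem_or_mem (q.isPrime.mem_of_pow_mem n h) with h' | h'
      · exact ht h'
      · exact ht₁ h'
    · exact ht h
  · have h1 : (t * t₁) ^ n • ((t * t₁) • y.1 - t • m) = 0 := congrArg Subtype.val hy
    rw [mul_smul, smul_sub, smul_smul t t₁ y.1]
    exact h1

/-- an element of `Γ_V M` which dies at every point of `V ∖ U` lies in `Γ_U M` -/
lemma mem_torsT_of_forall_localization {U : Set (PrimeSpectrum A)} {M : Type u} [AddCommGroup M]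
    [Module A M] (x : M) (hx : x ∈ torsT V M)
    (h : ∀ P : PrimeSpectrum A, P ∈ V → P ∉ U → ∃ t : A, t ∉ P.asIdeal ∧ t • x = 0) :
    x ∈ torsT U M := by
  obtain ⟨𝔞, h𝔞, hk⟩ := hx
  refine ⟨LinearMap.ker (LinearMap.toSpanSingleton A M x), ?_, fun a ha => ?_⟩
  · intro P hP
    have hle : LinearMap.ker (LinearMap.toSpanSingleton A M x) ≤ P.asIdeal :=
      (PrimeSpectrum.mem_zeroLocus _ _).1 hP
    have hPV : P ∈ V := by
      apply h𝔞
      rw [PrimeSpectrum.mem_zeroLocus]
      intro a ha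
      apply hle
      rw [LinearMap.mem_ker, LinearMap.toSpanSingleton_apply]
      exact hk a ha
    by_contra hPU
    obtain ⟨t, ht, htx⟩ := h P hPV hPU
    apply ht
    apply hle
    rw [LinearMap.mem_ker, LinearMap.toSpanSingleton_apply]
    exact htx
  · have := ha
    rw [LinearMap.mem_ker, LinearMap.toSpanSingleton_apply] at this
    exact this

end Noeth

end Groth.Agent.Lib.FaltT
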