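import Mathlib
import Groth.Agent.Lib.FT10_helper6

/-!
# The Cousin-type step for `Γ_U ⊆ Γ_V`, II (helper6)
-/

set_option autoImplicit false
set_option linter.style.haveILetI false
set_option linter.unusedSectionVars false
set_option linter.unusedVariables false
universe u
open CategoryTheory CategoryTheory.Limits

namespace Groth.Agent.Lib.FaltT

open Groth.Agent.HomologyColim Groth.Agent.Lib.HDIColim

variable {A : Type u} [CommRing A] [IsNoetherianRing A]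

/-- an element of `Γ_q M` is killed by an element outside `P` when `q ⊄ P` -/
lemma exists_kill_of_not_le (q P : PrimeSpectrum A) (hqP : ¬ q.asIdeal ≤ P.asIdeal)
    {M : Type u} [AddCommGroup M] [Module A M] (y : M)
    (hy : y ∈ DRing.torsionSub q.asIdeal M) : ∃ c : A, c ∉ P.asIdeal ∧ c • y = 0 := by
  obtain ⟨a, haq, haP⟩ := SetLike.not_le_iff_exists.1 hqP
  obtain ⟨N, hN⟩ := hy
  exact ⟨a ^ N, fun h => haP (P.isPrime.mem_of_pow_mem N h), hN _ (Ideal.pow_mem_pow haq N)⟩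

variable {U V : Set (PrimeSpectrum A)}

/-- the local-to-global principle for the correction term -/
lemma exists_kill_sub_sum
    (hgen : ∀ q : PrimeSpectrum A, q ∈ V → q ∉ U → ∀ p : PrimeSpectrum A, p < q → p ∉ V)
    {E₀ E₁ : Type u} [AddCommGroup E₀] [Module A E₀] [AddCommGroup E₁] [Module A E₁]
    (d : E₁ →ₗ[A] E₀) (z : E₀) (𝔞 : Ideal A) (h𝔞 : InT V 𝔞) (hz : ∀ a ∈ 𝔞, a • z = 0)
    (S : Finset (PrimeSpectrum A))
    (hS : ∀ q : PrimeSpectrum A, q ∈ S ↔ q.asIdeal ∈ 𝔞.minimalPrimes ∧ q ∉ U)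
    (y : PrimeSpectrum A → E₁)
    (hy : ∀ q ∈ S, y q ∈ DRing.torsionSub q.asIdeal E₁ ∧
      ∃ t : A, t ∉ q.asIdeal ∧ t • (z - d (y q)) = 0)
    (P : PrimeSpectrum A) (hPV : P ∈ V) (hPU : P ∉ U) :
    ∃ t : A, t ∉ P.asIdeal ∧ t • (z - d (∑ q ∈ S, y q)) = 0 := by
  classical
  have hSV : ∀ q ∈ S, q ∈ V := by
    intro q hq
    have h1 := ((hS q).1 hq).1
    exact h𝔞 ((PrimeSpectrum.mem_zeroLocus _ _).2 h1.1.2)
  -- the primes of `S` other than `P` are not contained in `P`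
  have hnle : ∀ q ∈ S.erase P, ¬ q.asIdeal ≤ P.asIdeal := by
    intro q hq hle
    have hq' := Finset.mem_erase.1 hq
    have hqP : q ≤ P := hle
    rcases eq_or_lt_of_le hqP with h | h
    · exact hq'.1 h
    · exact hgen P hPV hPU q h (hSV q hq'.2)
  have hc : ∀ q ∈ S.erase P, ∃ c : A, c ∉ P.asIdeal ∧ c • y q = 0 := by
    intro q hq
    exact exists_kill_of_not_le q P (hnle q hq) (y q) (hy q (Finset.mem_erase.1 hq).2).1
  choose! c hc using hc
  let t₁ : A := ∏ q ∈ S.erase P, c q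
  have ht₁ : t₁ ∉ P.asIdeal := by
    intro hmem
    obtain ⟨q, hq, hqP⟩ := (Ideal.IsPrime.prod_mem_iff).1 hmem
    exact (hc q hq).1 hqP
  have hkill : t₁ • d (∑ q ∈ S.erase P, y q) = 0 := by
    rw [map_sum, Finset.smul_sum]
    apply Finset.sum_eq_zero
    intro q hq
    obtain ⟨r, hr⟩ : c q ∣ t₁ := Finset.dvd_prod_of_mem c hq
    rw [hr, mul_comm, mul_smul, ← map_smul, (hc q hq).2, map_zero, smul_zero]
  by_cases hPS : P ∈ S
  · obtain ⟨-, t₀, ht₀, hk₀⟩ := hy P hPS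
    refine ⟨t₀ * t₁, fun h => (P.isPrime.mem_or_mem h).elim ht₀ ht₁, ?_⟩
    rw [← Finset.add_sum_erase S y hPS, map_add, ← sub_sub, smul_sub, mul_smul,
      smul_comm t₀ t₁, hk₀, smul_zero, mul_comm, mul_smul, smul_comm t₁ t₀, hkill, smul_zero,
      sub_zero]
  · -- `𝔞 ⊄ P`
    have h𝔞P : ¬ 𝔞 ≤ P.asIdeal := by
      intro hle
      obtain ⟨P', hP', hP'P⟩ := Ideal.exists_minimalPrimes_le hle
      haveI : P'.IsPrime := hP'.1.1
      have hP'V : (⟨P', inferInstance⟩ : PrimeSpectrum A) ∈ V :=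
        h𝔞 ((PrimeSpectrum.mem_zeroLocus _ _).2 hP'.1.2)
      have hle' : (⟨P', inferInstance⟩ : PrimeSpectrum A) ≤ P := hP'P
      rcases eq_or_lt_of_le hle' with h | h
      · apply hPS
        rw [hS]
        refine ⟨?_, hPU⟩
        rw [← h]
        exact hP'
      · exact hgen P hPV hPU _ h hP'V
    obtain ⟨t₀, ht₀𝔞, ht₀P⟩ := SetLike.not_le_iff_exists.1 h𝔞P
    refine ⟨t₀ * t₁, fun h => (P.isPrime.mem_or_mem h).elim ht₀P ht₁, ?_⟩
    rw [Finset.erase_eq_of_notMem hPS] at hkill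
    rw [smul_sub, mul_smul, smul_comm t₀ t₁, hz t₀ ht₀𝔞, smul_zero, mul_comm, mul_smul,
      smul_comm t₁ t₀, hkill, smul_zero, sub_zero]

end Groth.Agent.Lib.FaltT
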