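import Mathlib
import Groth.Agent.Lib.FT11_helper6

/-!
# The Cousin-type step for `Γ_U ⊆ Γ_V`, III: the main lemma (helper6)
-/

set_option autoImplicit false
set_option linter.style.haveILetI false
set_option linter.unusedSectionVars false
set_option linter.unusedVariables false
universe u
open CategoryTheory CategoryTheory.Limits

namespace Groth.Agent.Lib.FaltT

open Groth.Agent.HomologyColim Groth.Agent.Lib.HDIColim

variable {A : Type u} [CommRing A] [IsNoetherianRing A] {U V : Set (PrimeSpectrum A)}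

lemma inT_asIdeal_of_mem (hV : StableUnderSpecialization V) (q : PrimeSpectrum A) (hq : q ∈ V) :
    InT V q.asIdeal := by
  intro p hp
  have hle : q.asIdeal ≤ p.asIdeal := (PrimeSpectrum.mem_zeroLocus _ _).1 hp
  exact hV ((PrimeSpectrum.le_iff_specializes _ _).1 hle) hq

lemma ΓT_d_val (I : DRing.Cx A) (j i : ℤ) (m : ((ΓTC V).obj I).X j) :
    ((((ΓTC V).obj I).d j i).hom m : torsT V (I.X i)).1 = (I.d j i).hom (m : torsT V (I.X j)).1 :=
  rfl

/-- **Cousin step.** A class of `H^i(Γ_V I)` which dies after localization at every point of `V ∖ U`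
comes from `H^i(Γ_U I)`. -/
theorem exists_preimage_of_locally_zero (hV : StableUnderSpecialization V) (hUV : U ⊆ V)
    (hgen : ∀ q : PrimeSpectrum A, q ∈ V → q ∉ U → ∀ p : PrimeSpectrum A, p < q → p ∉ V)
    (I : DRing.Cx A) (hI : ∀ n, Module.Injective A (I.X n)) (i : ℤ)
    (h : ((ΓTC V).obj I).homology i)
    (hloc : ∀ q : PrimeSpectrum A, q ∈ V → q ∉ U → ∃ t : A, t ∉ q.asIdeal ∧ t • h = 0) :
    ∃ h' : ((ΓTC U).obj I).homology i,
      (HomologicalComplex.homologyMap (ΓTCle hUV I) i).hom h' = h := by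
  classical
  obtain ⟨z, rfl⟩ := mkH_surjective ((ΓTC V).obj I) i h
  obtain ⟨𝔞, h𝔞, hz𝔞⟩ := (z.1 : torsT V (I.X i)).2
  let z₀ : I.X i := (z.1 : torsT V (I.X i)).1
  let d : I.X (i - 1) →ₗ[A] I.X i := (I.d (i - 1) i).hom
  have hdz₀ : (I.d i (i + 1)).hom z₀ = 0 := by
    have := z.2
    rw [mem_Zc] at this
    exact congrArg Subtype.val this
  -- the finite set of minimal primes of `𝔞` outside `U`
  have hfinS : {q : PrimeSpectrum A | q.asIdeal ∈ 𝔞.minimalPrimes ∧ q ∉ U}.Finite := by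
    have h1 : {q : PrimeSpectrum A | q.asIdeal ∈ 𝔞.minimalPrimes}.Finite :=
      (Ideal.finite_minimalPrimes_of_isNoetherianRing A 𝔞).preimage
        (fun a _ b _ hab => PrimeSpectrum.ext hab)
    exact h1.subset (fun q hq => hq.1)
  let S : Finset (PrimeSpectrum A) := hfinS.toFinset
  have hS : ∀ q : PrimeSpectrum A, q ∈ S ↔ q.asIdeal ∈ 𝔞.minimalPrimes ∧ q ∉ U :=
    fun q => hfinS.mem_toFinset
  have hdata : ∀ q ∈ S, ∃ y : I.X (i - 1), y ∈ DRing.torsionSub q.asIdeal (I.X (i - 1)) ∧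
      ∃ t : A, t ∉ q.asIdeal ∧ t • (z₀ - d y) = 0 := by
    intro q hq
    obtain ⟨hqmin, hqU⟩ := (hS q).1 hq
    have hqV : q ∈ V := h𝔞 ((PrimeSpectrum.mem_zeroLocus _ _).2 hqmin.1.2)
    obtain ⟨t₁, ht₁, hk₁⟩ := hloc q hqV hqU
    rw [← map_smul, mkH_eq_zero_iff ((ΓTC V).obj I) i (i - 1) (by omega)] at hk₁
    obtain ⟨m, hm⟩ := hk₁
    have hm' : d (m : torsT V (I.X (i - 1))).1 = t₁ • z₀ := congrArg Subtype.val hm
    obtain ⟨y, t₂, hy, ht₂, hk₂⟩ := exists_lift_torsion q (hgen q hqV hqU) (I.X (i - 1))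
      (hI _) (m : torsT V (I.X (i - 1))).1 (m : torsT V (I.X (i - 1))).2 t₁ ht₁
    refine ⟨y, hy, t₂ * t₁, fun hmem => (q.isPrime.mem_or_mem hmem).elim ht₂ ht₁, ?_⟩
    have h3 : d (t₂ • (t₁ • y - (m : torsT V (I.X (i - 1))).1)) = 0 := by rw [hk₂, map_zero]
    rw [map_smul, map_sub, map_smul, hm', ← smul_sub] at h3
    rw [mul_smul, ← neg_eq_zero, ← smul_neg, ← smul_neg, neg_sub]
    exact h3
  choose! y hy using hdata
  let w : I.X (i - 1) := ∑ q ∈ S, y q
  have hwV : w ∈ torsT V (I.X (i - 1)) := by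
    apply Submodule.sum_mem
    intro q hq
    have hqV : q ∈ V := h𝔞 ((PrimeSpectrum.mem_zeroLocus _ _).2 ((hS q).1 hq).1.1.2)
    exact torsionSub_le_torsT (inT_asIdeal_of_mem hV q hqV) _ (hy q hq).1
  let x : I.X i := z₀ - d w
  have hxV : x ∈ torsT V (I.X i) :=
    Submodule.sub_mem _ (z.1 : torsT V (I.X i)).2 (map_mem_torsT d hwV)
  have hxU : x ∈ torsT U (I.X i) :=
    mem_torsT_of_forall_localization x hxV (fun P hPV hPU =>
      exists_kill_sub_sum hgen d z₀ 𝔞 h𝔞 hz𝔞 S hS y hy P hPV hPU)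
  have hdx : (I.d i (i + 1)).hom x = 0 := by
    show (I.d i (i + 1)).hom (z₀ - (I.d (i - 1) i).hom w) = 0
    rw [map_sub, hdz₀, zero_sub, neg_eq_zero]
    have := I.d_comp_d (i - 1) i (i + 1)
    exact congrArg (fun f => f.hom w) this
  let x' : Zc ((ΓTC U).obj I) i := ⟨(⟨x, hxU⟩ : torsT U (I.X i)), by
    rw [mem_Zc]
    exact Subtype.ext hdx⟩
  refine ⟨mkH _ i x', ?_⟩
  rw [homologyMap_mkH, mkH_eq_iff ((ΓTC V).obj I) i (i - 1) (by omega)]
  refine ⟨(-(⟨w, hwV⟩ : torsT V (I.X (i - 1))) : torsT V (I.X (i - 1))), ?_⟩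
  apply Subtype.ext
  show (I.d (i - 1) i).hom (-w) = x - z₀
  rw [map_neg]
  show -d w = z₀ - d w - z₀
  abel

end Groth.Agent.Lib.FaltT
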