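import Mathlib
import Groth.Agent.Lib.FT12_helper6

/-!
# Annihilation of `H^i(Γ_T I)` from local annihilation, by induction on the levels of a dimension function (helper6)
-/

set_option autoImplicit false
set_option linter.style.haveILetI false
set_option linter.unusedSectionVars false
set_option linter.unusedVariables false
universe u
open CategoryTheory CategoryTheory.Limits

namespace Groth.Agent.Lib.FaltT

open Groth.Agent.HomologyColim Groth.Agent.Lib.HDIColim Groth.Agent.Lib.RGamma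

variable {A : Type u} [CommRing A] [IsNoetherianRing A]

/-- local annihilation of `H^i(Γ_q I)` at `q` implies local annihilation of `H^i(Γ_V I)` at `q`, when `q ∈ V`
has no proper generalization in `V` -/
lemma killsAt_ΓV_of_killsAt_Γq {V : Set (PrimeSpectrum A)} (hV : StableUnderSpecialization V)
    (q : PrimeSpectrum A) (hqV : q ∈ V) (hgen : ∀ p : PrimeSpectrum A, p < q → p ∉ V)
    (I : DRing.Cx A) (i : ℤ) (x : A)
    (hq : ∀ h : ((ΓC q.asIdeal).obj I).homology i, ∃ t : A, t ∉ q.asIdeal ∧ (t * x) • h = 0)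
    (h : ((ΓTC V).obj I).homology i) : ∃ t : A, t ∉ q.asIdeal ∧ (t * x) • h = 0 := by
  obtain ⟨z, rfl⟩ := mkH_surjective ((ΓTC V).obj I) i h
  let z₀ : I.X i := (z.1 : torsT V (I.X i)).1
  have hdz₀ : (I.d i (i + 1)).hom z₀ = 0 := by
    have := z.2
    rw [mem_Zc] at this
    exact congrArg Subtype.val this
  obtain ⟨t₁, ht₁, hmem⟩ := exists_smul_mem_torsionSub q hgen z₀ (z.1 : torsT V (I.X i)).2
  let z' : Zc ((ΓC q.asIdeal).obj I) i :=
    ⟨(⟨t₁ • z₀, hmem⟩ : DRing.torsionSub q.asIdeal (I.X i)), by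
      rw [mem_Zc]
      apply Subtype.ext
      show (I.d i (i + 1)).hom (t₁ • z₀) = 0
      rw [map_smul, hdz₀, smul_zero]⟩
  obtain ⟨t₂, ht₂, hk⟩ := hq (mkH _ i z')
  rw [← map_smul, mkH_eq_zero_iff _ i (i - 1) (by omega)] at hk
  obtain ⟨w, hw⟩ := hk
  have hw' : (I.d (i - 1) i).hom (w : DRing.torsionSub q.asIdeal (I.X (i - 1))).1 =
      (t₂ * x) • (t₁ • z₀) := congrArg Subtype.val hw
  refine ⟨t₂ * t₁, fun hm => (q.isPrime.mem_or_mem hm).elim ht₂ ht₁, ?_⟩
  rw [← map_smul, mkH_eq_zero_iff _ i (i - 1) (by omega)]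
  have hwV : (w : DRing.torsionSub q.asIdeal (I.X (i - 1))).1 ∈ torsT V (I.X (i - 1)) :=
    torsionSub_le_torsT (inT_asIdeal_of_mem hV q hqV) _ w.2
  refine ⟨(⟨_, hwV⟩ : torsT V (I.X (i - 1))), ?_⟩
  apply Subtype.ext
  show (I.d (i - 1) i).hom (w : DRing.torsionSub q.asIdeal (I.X (i - 1))).1 =
    (t₂ * t₁ * x) • z₀
  rw [hw', smul_smul]
  congr 1
  ring

section Levels

variable (T : Set (PrimeSpectrum A)) (ν : PrimeSpectrum A → ℤ)

/-- the points of `T` where the dimension function is at least `m` -/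
def Tm (m : ℤ) : Set (PrimeSpectrum A) := {q | q ∈ T ∧ m ≤ ν q}

variable {T ν}

lemma stable_Tm (hT : StableUnderSpecialization T)
    (hν : ∀ p q : PrimeSpectrum A, p < q → ν p < ν q) (m : ℤ) :
    StableUnderSpecialization (Tm T ν m) := by
  intro p q hpq hp
  refine ⟨hT hpq hp.1, ?_⟩
  have hle : p ≤ q := (PrimeSpectrum.le_iff_specializes _ _).2 hpq
  rcases eq_or_lt_of_le hle with h | h
  · rw [← h]; exact hp.2
  · exact hp.2.trans (hν p q h).le

lemma homology_ΓTC_empty_eq_zero (I : DRing.Cx A) (i : ℤ) {V : Set (PrimeSpectrum A)}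
    (hV : V = ∅) (h : ((ΓTC V).obj I).homology i) : h = 0 := by
  subst hV
  obtain ⟨z, rfl⟩ := mkH_surjective _ i h
  have hz : z = 0 := by
    apply Subtype.ext
    apply Subtype.ext
    obtain ⟨J, hJ, hk⟩ := (z.1 : torsT (∅ : Set (PrimeSpectrum A)) (I.X i)).2
    have hJtop : J = ⊤ := by
      rw [← PrimeSpectrum.zeroLocus_empty_iff_eq_top]
      exact Set.subset_empty_iff.1 hJ
    have := hk 1 (by rw [hJtop]; exact Submodule.mem_top)
    rw [one_smul] at this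
    exact this
  rw [hz, map_zero]

/-- **Induction on levels.** -/
theorem kills_homology_ΓT_of_local (hT : StableUnderSpecialization T)
    (hν : ∀ p q : PrimeSpectrum A, p < q → ν p < ν q) (b₀ : ℤ) (hb₀ : ∀ q, ν q ≤ b₀)
    (I : DRing.Cx A) (hI : ∀ n, Module.Injective A (I.X n)) (s : ℤ) (J₀ : Ideal A)
    (hJ₀ : ∀ q : PrimeSpectrum A, q ∈ T → ∀ i : ℤ, i ≤ s → ∀ x ∈ J₀,
      ∀ h : ((ΓC q.asIdeal).obj I).homology i, ∃ t : A, t ∉ q.asIdeal ∧ (t * x) • h = 0) :
    ∀ (k : ℕ) (i : ℤ), i ≤ s → ∀ x ∈ J₀ ^ k,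
      ∀ h : ((ΓTC (Tm T ν (b₀ + 1 - k))).obj I).homology i, x • h = 0 := by
  intro k
  induction k with
  | zero =>
    intro i hi x hx h
    have hempty : Tm T ν (b₀ + 1 - (0 : ℕ)) = ∅ := by
      ext q
      simp only [Tm, Set.mem_setOf_eq, Set.mem_empty_iff_false, iff_false, not_and, not_le]
      intro _
      have := hb₀ q
      push_cast
      omega
    rw [homology_ΓTC_empty_eq_zero I i hempty h, smul_zero]
  | succ k ih =>
    intro i hi x hx h
    have hUV : Tm T ν (b₀ + 1 - (k : ℕ)) ⊆ Tm T ν (b₀ + 1 - ((k + 1 : ℕ) : ℤ)) := by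
      intro q hq
      refine ⟨hq.1, ?_⟩
      have := hq.2
      push_cast
      omega
    have hVst := stable_Tm hT hν (b₀ + 1 - ((k + 1 : ℕ) : ℤ))
    have hgen : ∀ q : PrimeSpectrum A, q ∈ Tm T ν (b₀ + 1 - ((k + 1 : ℕ) : ℤ)) →
        q ∉ Tm T ν (b₀ + 1 - (k : ℕ)) → ∀ p : PrimeSpectrum A, p < q →
        p ∉ Tm T ν (b₀ + 1 - ((k + 1 : ℕ) : ℤ)) := by
      intro q hqV hqU p hpq hpV
      have h1 : ¬ (b₀ + 1 - (k : ℕ) ≤ ν q) := fun h => hqU ⟨hqV.1, h⟩
      have h2 := hpV.2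
      have h3 := hν p q hpq
      push_cast at h2
      omega
    rw [pow_succ] at hx
    refine Submodule.mul_induction_on hx ?_ ?_
    · intro x₁ hx₁ x₂ hx₂
      have hloc : ∀ q : PrimeSpectrum A, q ∈ Tm T ν (b₀ + 1 - ((k + 1 : ℕ) : ℤ)) →
          q ∉ Tm T ν (b₀ + 1 - (k : ℕ)) → ∃ t : A, t ∉ q.asIdeal ∧ t • (x₂ • h) = 0 := by
        intro q hqV hqU
        obtain ⟨t, ht, hk⟩ := killsAt_ΓV_of_killsAt_Γq hVst q hqV (hgen q hqV hqU) I i x₂
          (hJ₀ q hqV.1 i hi x₂ hx₂) h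
        exact ⟨t, ht, by rw [smul_smul]; exact hk⟩
      obtain ⟨h', hh'⟩ := exists_preimage_of_locally_zero hVst hUV hgen I hI i (x₂ • h) hloc
      rw [mul_smul, ← hh', ← map_smul, ih i hi x₁ hx₁ h', map_zero]
    · intro x₁ x₂ h₁ h₂
      rw [add_smul, h₁, h₂, add_zero]

end Levels

end Groth.Agent.Lib.FaltT
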