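import Mathlib
import Groth.Agent.Lib.FT13_helper6
import Groth.Agent.Lib.LocFib4_helper2

/-!
# From annihilation of `H^i(Γ_T I)` to annihilation of `H^i(Γ_q I)` for `q ∈ T` (helper6)
-/

set_option autoImplicit false
set_option linter.style.haveILetI false
set_option linter.unusedSectionVars false
set_option linter.unusedVariables false
universe u
open CategoryTheory CategoryTheory.Limits

namespace Groth.Agent.Lib.FaltT

open Groth.Agent.HomologyColim Groth.Agent.Lib.HDIColim Groth.Agent.Lib.RGamma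
open Groth.Agent.Lib.LocFib

variable {A : Type u} [CommRing A] [IsNoetherianRing A]

/-- **One step**: if `J` kills `H^j(Γ_{I'} X)` for `j ≤ s` then `J²` kills `H^j(Γ_{(f) + I'} X)` for `j ≤ s`. -/
theorem kills_Γ_step (f : A) {I' I : Ideal A} (hle : I' ≤ I) (hf : f ∈ I)
    (hI : I ≤ Ideal.span {f} ⊔ I') (X : DRing.Cx A) (hX : ∀ n, Module.Injective A (X.X n))
    (s : ℤ) (J : Ideal A)
    (hJ : ∀ j : ℤ, j ≤ s → ∀ x ∈ J, ∀ h : ((ΓC I').obj X).homology j, x • h = 0) :
    ∀ j : ℤ, j ≤ s → ∀ x ∈ J * J, ∀ h : ((ΓC I).obj X).homology j, x • h = 0 := by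
  intro j hj x hx h
  refine Submodule.mul_induction_on hx ?_ ?_
  · intro a ha b hb
    obtain ⟨z, rfl⟩ := mkH_surjective ((ΓC I).obj X) j h
    let z₀ : X.X j := (z.1 : DRing.torsionSub I (X.X j)).1
    have hdz₀ : (X.d j (j + 1)).hom z₀ = 0 := by
      have := z.2
      rw [mem_Zc] at this
      exact congrArg Subtype.val this
    have hz₀I' : z₀ ∈ DRing.torsionSub I' (X.X j) :=
      torsionSub_le hle _ (z.1 : DRing.torsionSub I (X.X j)).2
    -- `a z₀ = d m`
    let z'' : Zc ((ΓC I').obj X) j := ⟨(⟨z₀, hz₀I'⟩ : DRing.torsionSub I' (X.X j)), by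
      rw [mem_Zc]
      exact Subtype.ext hdz₀⟩
    have h1 := hJ j hj a ha (mkH _ j z'')
    rw [← map_smul, mkH_eq_zero_iff _ j (j - 1) (by omega)] at h1
    obtain ⟨m, hm⟩ := h1
    let m₀ : X.X (j - 1) := (m : DRing.torsionSub I' (X.X (j - 1))).1
    have hm₀ : (X.d (j - 1) j).hom m₀ = a • z₀ := congrArg Subtype.val hm
    -- `f^k z₀ = 0`
    obtain ⟨k, hk⟩ := ΓC_torsion I hf X j z.1
    have hk₀ : f ^ k • z₀ = 0 := congrArg Subtype.val hk
    -- `f^k m` is a cycle
    let c : Zc ((ΓC I').obj X) (j - 1) := ⟨f ^ k • m, by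
      rw [mem_Zc]
      apply Subtype.ext
      show (X.d (j - 1) (j - 1 + 1)).hom (f ^ k • m₀) = 0
      have e : j - 1 + 1 = j := by omega
      rw [e, map_smul, hm₀, smul_comm, hk₀, smul_zero]⟩
    have h2 := hJ (j - 1) (by omega) b hb (mkH _ (j - 1) c)
    rw [← map_smul, mkH_eq_zero_iff _ (j - 1) (j - 1 - 1) (by omega)] at h2
    obtain ⟨m', hm'⟩ := h2
    have hm'₀ : (X.d (j - 1 - 1) (j - 1)).hom (m' : DRing.torsionSub I' (X.X (j - 1 - 1))).1 =
        b • (f ^ k • m₀) := congrArg Subtype.val hm'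
    obtain ⟨m'', n, hm''⟩ := exists_div_of_injective (DRing.torsionSub I' (X.X (j - 1 - 1)))
      (injective_torsionSub I' _ (hX _)) (f ^ k) m'
    have hm''₀ : (f ^ k) ^ n • (f ^ k • (m'' : DRing.torsionSub I' (X.X (j - 1 - 1))).1 -
        (m' : DRing.torsionSub I' (X.X (j - 1 - 1))).1) = 0 := congrArg Subtype.val hm''
    let u₀ : X.X (j - 1) := b • m₀ -
      (X.d (j - 1 - 1) (j - 1)).hom (m'' : DRing.torsionSub I' (X.X (j - 1 - 1))).1
    have hu₀I' : u₀ ∈ DRing.torsionSub I' (X.X (j - 1)) :=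
      Submodule.sub_mem _ (Submodule.smul_mem _ _ (m : DRing.torsionSub I' (X.X (j - 1))).2)
        (DRing.map_mem_torsionSub I' _ (m'' : DRing.torsionSub I' (X.X (j - 1 - 1))).2)
    have hu₀f : f ^ (k * n + k) • u₀ = 0 := by
      have h3 := congrArg (X.d (j - 1 - 1) (j - 1)).hom hm''₀
      rw [map_zero, map_smul, map_sub, map_smul, hm'₀] at h3
      show f ^ (k * n + k) • (b • m₀ - _) = 0
      rw [pow_add, pow_mul, mul_smul, smul_sub, smul_comm (f ^ k) b m₀, ← neg_eq_zero, ← smul_neg,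
        neg_sub]
      exact h3
    have hu₀I : u₀ ∈ DRing.torsionSub I (X.X (j - 1)) :=
      mem_torsionSub_of hI u₀ hu₀I' _ hu₀f
    rw [← map_smul, mkH_eq_zero_iff _ j (j - 1) (by omega)]
    refine ⟨(⟨u₀, hu₀I⟩ : DRing.torsionSub I (X.X (j - 1))), ?_⟩
    apply Subtype.ext
    show (X.d (j - 1) j).hom u₀ = (a * b) • z₀
    show (X.d (j - 1) j).hom (b • m₀ - (X.d (j - 1 - 1) (j - 1)).hom _) = (a * b) • z₀
    rw [map_sub, map_smul, hm₀, smul_smul, mul_comm b a]
    have hdd := X.d_comp_d (j - 1 - 1) (j - 1) j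
    have hdd' := congrArg (fun φ => φ.hom (m'' : DRing.torsionSub I' (X.X (j - 1 - 1))).1) hdd
    have hdd'' : (X.d (j - 1) j).hom ((X.d (j - 1 - 1) (j - 1)).hom
        (m'' : DRing.torsionSub I' (X.X (j - 1 - 1))).1) = 0 := hdd'
    rw [hdd'', sub_zero]
  · intro x₁ x₂ h₁ h₂
    rw [add_smul, h₁, h₂, add_zero]

/-- iteration over a list of generators -/
theorem kills_Γ_span (X : DRing.Cx A) (hX : ∀ n, Module.Injective A (X.X n)) (s : ℤ) :
    ∀ (fs : List A) (J : Ideal A),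
      (∀ j : ℤ, j ≤ s → ∀ x ∈ J, ∀ h : X.homology j, x • h = 0) →
      ∀ j : ℤ, j ≤ s → ∀ x ∈ J ^ (2 ^ fs.length),
        ∀ h : ((ΓC (Ideal.span {x : A | x ∈ fs})).obj X).homology j, x • h = 0
  | [], J, hJ => by
    intro j hj x hx h
    haveI := isIso_ΓCι_nil X
    have hinj : Function.Injective (HomologicalComplex.homologyMap
        (ΓCι (Ideal.span {x : A | x ∈ ([] : List A)}) X) j).hom :=
      (ModuleCat.mono_iff_injective _).1 inferInstance
    apply hinj
    rw [map_smul, map_zero]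
    rw [List.length_nil, pow_zero, pow_one] at hx
    exact hJ j hj x hx _
  | f :: fs, J, hJ => by
    have hle : Ideal.span {x : A | x ∈ fs} ≤ Ideal.span {x : A | x ∈ f :: fs} :=
      Ideal.span_mono (fun x hx => List.mem_cons_of_mem _ hx)
    have hf : f ∈ Ideal.span {x : A | x ∈ f :: fs} := Ideal.subset_span (List.mem_cons_self)
    have hI : Ideal.span {x : A | x ∈ f :: fs} ≤ Ideal.span {f} ⊔ Ideal.span {x : A | x ∈ fs} := by
      rw [Ideal.span_le]
      intro x hx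
      rcases List.mem_cons.1 hx with rfl | hx'
      · exact Ideal.mem_sup_left (Ideal.subset_span rfl)
      · exact Ideal.mem_sup_right (Ideal.subset_span hx')
    have ih := kills_Γ_span X hX s fs J hJ
    have key := kills_Γ_step f hle hf hI X hX s (J ^ (2 ^ fs.length)) ih
    intro j hj x hx h
    apply key j hj x _ h
    rw [List.length_cons, pow_succ, pow_mul, pow_two] at hx
    exact hx

/-- if `J` kills `H^j(Γ_T I)` for `j ≤ s` then a power of `J` kills `H^j(Γ_q I)` for `j ≤ s`, `q ∈ T` -/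
theorem exists_pow_kills_Γq {T : Set (PrimeSpectrum A)} (hT : StableUnderSpecialization T)
    (I : DRing.Cx A) (hI : ∀ n, Module.Injective A (I.X n)) (s : ℤ) (J : Ideal A)
    (hJ : ∀ j : ℤ, j ≤ s → ∀ x ∈ J, ∀ h : ((ΓTC T).obj I).homology j, x • h = 0)
    (q : PrimeSpectrum A) (hq : q ∈ T) :
    ∃ N : ℕ, ∀ j : ℤ, j ≤ s → ∀ x ∈ J ^ N,
      ∀ h : ((ΓC q.asIdeal).obj I).homology j, x • h = 0 := by
  obtain ⟨fs, hfs⟩ := exists_list_span q.asIdeal
  have hXinj : ∀ n, Module.Injective A (((ΓTC T).obj I).X n) :=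
    fun n => injective_torsT (I.X n) (hI n)
  have key := kills_Γ_span ((ΓTC T).obj I) hXinj s fs J hJ
  rw [hfs] at key
  refine ⟨2 ^ fs.length, fun j hj x hx h => ?_⟩
  obtain ⟨z, rfl⟩ := mkH_surjective ((ΓC q.asIdeal).obj I) j h
  let z₀ : I.X j := (z.1 : DRing.torsionSub q.asIdeal (I.X j)).1
  have hz₀T : z₀ ∈ torsT T (I.X j) :=
    torsionSub_le_torsT (inT_asIdeal_of_mem hT q hq) _ (z.1 : DRing.torsionSub q.asIdeal (I.X j)).2
  have hdz₀ : (I.d j (j + 1)).hom z₀ = 0 := by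
    have := z.2
    rw [mem_Zc] at this
    exact congrArg Subtype.val this
  let z' : Zc ((ΓC q.asIdeal).obj ((ΓTC T).obj I)) j :=
    ⟨(⟨(⟨z₀, hz₀T⟩ : torsT T (I.X j)), by
        obtain ⟨n, hn⟩ := (z.1 : DRing.torsionSub q.asIdeal (I.X j)).2
        exact ⟨n, fun a ha => Subtype.ext (hn a ha)⟩⟩ :
        DRing.torsionSub q.asIdeal (torsT T (I.X j))), by
      rw [mem_Zc]
      apply Subtype.ext
      apply Subtype.ext
      exact hdz₀⟩
  have h1 := key j hj x hx (mkH _ j z')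
  have h2 := congrArg (HomologicalComplex.homologyMap ((ΓC q.asIdeal).map (ΓTCι T I)) j).hom h1
  rw [map_zero, map_smul, homologyMap_mkH] at h2
  refine Eq.trans ?_ h2
  congr 2

end Groth.Agent.Lib.FaltT
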