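import Mathlib
import Groth.Agent.Lib.DMod99_helper6
import Groth.Agent.Lib.DMod95_helper6

/-!
# The normalizing shift function of a dualizing complex (helper6)

`ν p` is the integer such that `(ω_p)[ν p]` is a normalized dualizing complex over `A_p`.  It is strictly
increasing, bounded, jumps by one on coverings, and `ν q - ν p` is the height of `q` in `Spec A/p`.
-/

set_option autoImplicit false
set_option linter.style.haveILetI false
set_option linter.unusedSectionVars false
set_option linter.unusedVariables false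
universe u
open CategoryTheory CategoryTheory.Limits

attribute [local instance] HasDerivedCategory.standard

namespace Groth.Agent.Lib.FaltT

open Groth.Agent.Lib.DMod_helper6

variable {A : Type u} [CommRing A] [IsNoetherianRing A]

/-- the normalizing shift function -/
theorem exists_normalizing_function (ω : Dual.D A) (hω : Dual.IsDualizing A ω) :
    ∃ ν : PrimeSpectrum A → ℤ,
      (∀ p : PrimeSpectrum A, Dual.IsNormalized (Localization.AtPrime p.asIdeal)
        ((locD ω p.asIdeal)⟦ν p⟧)) ∧
      (∀ p q : PrimeSpectrum A, p < q → ν p < ν q) ∧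
      (∀ p q : PrimeSpectrum A, p ⋖ q → ν q = ν p + 1) ∧
      (∃ a b : ℤ, ∀ q : PrimeSpectrum A, a ≤ ν q ∧ ν q ≤ b) := by
  have hex : ∀ p : PrimeSpectrum A, ∃ n : ℤ,
      Dual.IsNormalized (Localization.AtPrime p.asIdeal) ((locD ω p.asIdeal)⟦n⟧) :=
    fun p => exists_isNormalized_locD_shift ω p.asIdeal hω
  choose ν hν using hex
  have key : ∀ (p : PrimeSpectrum A) (i : ℤ),
      p ∈ Module.support A (Dual.inD A (A ⧸ p.asIdeal) ⟶ ω⟦i⟧) ↔ i = ν p := by
    intro p i
    haveI := isNoetherianRing_atPrime p.asIdeal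
    exact (mem_support_hom_quot_iff ω p.asIdeal hω i).trans
      (nontrivial_hom_residueField_iff _ (isDualizing_locD ω p.asIdeal hω) (ν p) (hν p) i)
  refine ⟨ν, hν, fun p q hpq => normalizing_shift_strictMono ω hω ν hν p q hpq, ?_, ?_⟩
  · intro p q hpq
    have h := normalizing_shift_covBy ω hω p q hpq (ν p) (ν q) ((key p (ν p)).2 rfl) (hν q)
    omega
  · obtain ⟨a, b, hab⟩ := hω.finite_injective_dimension
    refine ⟨a, b, fun q => ?_⟩
    have h1 := (key q (ν q)).2 rfl
    by_contra hcon
    have h2 : ν q < a ∨ b < ν q := by omega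
    haveI := hab (A ⧸ q.asIdeal) (ν q) h2
    rw [Module.support_eq_empty] at h1
    exact h1

/-- `ν q - ν p` is the height of `q` above `p` -/
theorem height_Ici_eq_sub (ν : PrimeSpectrum A → ℤ)
    (hmono : ∀ p q : PrimeSpectrum A, p < q → ν p < ν q)
    (hcov : ∀ p q : PrimeSpectrum A, p ⋖ q → ν q = ν p + 1) (p : PrimeSpectrum A) :
    ∀ (n : ℕ) (q : PrimeSpectrum A) (hpq : p ≤ q), (ν q - ν p).toNat = n →
      Order.height (⟨q, hpq⟩ : Set.Ici p) = (n : ℕ∞) := by
  have hle : ∀ r : PrimeSpectrum A, p ≤ r → ν p ≤ ν r := by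
    intro r hr
    rcases eq_or_lt_of_le hr with h | h
    · rw [h]
    · exact (hmono p r h).le
  have wf : WellFounded (fun x y : PrimeSpectrum A => y < x) :=
    InvImage.wf PrimeSpectrum.asIdeal (wellFounded_gt (α := Ideal A))
  intro n
  induction n using Nat.strong_induction_on with
  | _ n ih =>
    intro q hpq hn
    apply le_antisymm
    · rw [Order.height_eq_iSup_lt_height]
      refine iSup₂_le fun y hy => ?_
      obtain ⟨r, hpr⟩ := y
      have hrq : r < q := hy
      have h1 := hmono r q hrq
      have h2 := hle r hpr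
      have hm : (ν r - ν p).toNat < n := by omega
      rw [ih _ hm r hpr rfl]
      exact_mod_cast hm
    · rcases Nat.eq_zero_or_pos n with h0 | hpos
      · rw [h0]; exact bot_le
      · have hpq' : p < q := by
          rcases eq_or_lt_of_le hpq with h | h
          · rw [h] at hn; simp at hn; omega
          · exact h
        obtain ⟨r, ⟨hpr, hrq⟩, hmax⟩ :=
          wf.has_min {r : PrimeSpectrum A | p ≤ r ∧ r < q} ⟨p, le_rfl, hpq'⟩
        have hcv : r ⋖ q := ⟨hrq, fun c hrc hcq => hmax c ⟨hpr.trans hrc.le, hcq⟩ hrc⟩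
        have h1 := hcov r q hcv
        have h2 := hle r hpr
        have hm : (ν r - ν p).toNat = n - 1 := by omega
        have h3 := ih (n - 1) (by omega) r hpr hm
        have h4 : Order.height (⟨r, hpr⟩ : Set.Ici p) + 1 ≤ Order.height (⟨q, hpq⟩ : Set.Ici p) :=
          Order.height_add_one_le (show (⟨r, hpr⟩ : Set.Ici p) < ⟨q, hpq⟩ from hrq)
        rw [h3] at h4
        refine le_trans ?_ h4
        have : ((n - 1 : ℕ) : ℕ∞) + 1 = (n : ℕ∞) := by
          have : n - 1 + 1 = n := by omega
          exact_mod_cast this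
        rw [this]

end Groth.Agent.Lib.FaltT
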