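import Mathlib
import Groth.Agent.Lib.FlatHom5_helper2
import Groth.Agent.Lib.DMod103_helper6
import Groth.Agent.Lib.FT15_helper6

/-!
# Local duality bridge at a prime (helper6)

For a Noetherian ring `A` with dualizing complex `ω`, a prime `q` with normalizing shift `ν`, a bounded above
complex `K` with finite cohomology and `x ∈ A`:
`x` kills `Hom(K, ω[ν - i])_q` iff `x` kills `(colim_n Hom(A/q^n, K[i]))_q`.
-/

set_option autoImplicit false
set_option linter.style.haveILetI false
set_option linter.unusedSectionVars false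
set_option linter.unusedVariables false
universe u
open CategoryTheory CategoryTheory.Limits DerivedCategory
open scoped TensorProduct

attribute [local instance] HasDerivedCategory.standard

namespace Groth.Agent.Lib.FaltT

open Groth.Agent.Lib.DMod_helper6 DRing Groth.Agent.ExtendScalarsLib Groth.Agent.Lib.FlatHom

section Alg

variable {A B : Type*} [CommRing A] [CommRing B] [Algebra A B] (S : Submonoid A)
  [IsLocalization S B]

include S in
lemma kills_tensor_localization_iff (H : Type*) [AddCommGroup H] [Module A H] (x : A) :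
    (∀ y : B ⊗[A] H, algebraMap A B x • y = 0) ↔
      (∀ y : H, ∃ t : A, t ∈ S ∧ (t * x) • y = 0) := by
  let f : H →ₗ[A] B ⊗[A] H := TensorProduct.mk A B H 1
  haveI : IsLocalizedModule S f :=
    (isLocalizedModule_iff_isBaseChange S B f).2 (TensorProduct.isBaseChange A H B)
  have hx : ∀ z : B ⊗[A] H, algebraMap A B x • z = x • z := fun z => (algebraMap_smul B x z)
  constructor
  · intro h y
    have h1 : f (x • y) = 0 := by
      rw [map_smul, ← hx]
      exact h _
    obtain ⟨c, hc⟩ := (IsLocalizedModule.eq_zero_iff S f).1 h1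
    exact ⟨c, c.2, by rw [mul_smul]; exact hc⟩
  · intro h z
    obtain ⟨⟨y, s⟩, hs⟩ := IsLocalizedModule.surj S f z
    obtain ⟨t, ht, hk⟩ := h y
    have hs' : (s : A) • z = f y := hs
    have h2 : (⟨t, ht⟩ * s : S) • (x • z) = 0 := by
      show ((t * (s : A)) : A) • (x • z) = 0
      rw [mul_smul, smul_comm (s : A) x z, hs', ← map_smul, ← map_smul, smul_smul, hk, map_zero]
    rw [hx]
    exact (IsLocalizedModule.smul_injective f (⟨t, ht⟩ * s)) (by
      show (⟨t, ht⟩ * s : S) • (x • z) = (⟨t, ht⟩ * s : S) • (0 : B ⊗[A] H)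
      rw [h2, smul_zero])

end Alg

section Hom

variable {A B : Type u} [CommRing A] [CommRing B] [Algebra A B] [Module.Flat A B]
  (S : Submonoid A) [IsLocalization S B]

include S in
/-- an element kills `Hom(K_S, L_S)` iff it kills `Hom(K, L)` up to denominators -/
lemma kills_hom_bcD_iff (K L : Dual.D A) (hK : IsPseudoCoherent' A K) (a : ℤ)
    [DerivedCategory.IsGE L a] (x : A) :
    (∀ g' : (bcD A B).obj K ⟶ (bcD A B).obj L, algebraMap A B x • g' = 0) ↔
      (∀ g : K ⟶ L, ∃ t : A, t ∈ S ∧ (t * x) • g = 0) := by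
  obtain ⟨hsurj, hinj⟩ := locHom (B := B) S K L hK a
  constructor
  · intro h g
    have h1 : (bcD A B).map (x • g) = 0 := by
      rw [bcD_map_smul]
      exact h _
    obtain ⟨s, hs⟩ := hinj _ h1
    exact ⟨s, s.2, by rw [mul_smul]; exact hs⟩
  · intro h g'
    obtain ⟨s, f, hf⟩ := hsurj g'
    obtain ⟨t, ht, hk⟩ := h f
    have h1 : (bcD A B).map ((t * x) • f) = 0 := by rw [hk, Functor.map_zero]
    rw [bcD_map_smul, ← hf, map_mul, mul_smul, smul_comm (algebraMap A B x)] at h1
    have h2 := smul_eq_zero_of_algebraMap_smul S (⟨t, ht⟩ : S) _ h1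
    exact smul_eq_zero_of_algebraMap_smul S s _ h2

end Hom

section Main

variable {A : Type u} [CommRing A] [IsNoetherianRing A]

/-- bounded above with finite cohomology implies pseudo-coherent -/
lemma isPseudoCoherent'_of_bounded_finite (K : Dual.D A)
    (hb : ∃ b : ℤ, ∀ i : ℤ, b < i → Subsingleton (Dual.HD A K i))
    (hfin : ∀ i : ℤ, Module.Finite A (Dual.HD A K i)) : IsPseudoCoherent' A K :=
  isPseudoCoherent'_of_homology K hb (fun i => by
    haveI := hfin i
    exact (isPseudoCoherentModule'_iff_noeth _).2 inferInstance)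

lemma isPseudoCoherent'_bcD {B : Type u} [CommRing B] [Algebra A B] [Module.Flat A B]
    [IsNoetherianRing B] (K : Dual.D A)
    (hb : ∃ b : ℤ, ∀ i : ℤ, b < i → Subsingleton (Dual.HD A K i))
    (hfin : ∀ i : ℤ, Module.Finite A (Dual.HD A K i)) :
    IsPseudoCoherent' B ((bcD A B).obj K) := by
  apply isPseudoCoherent'_of_bounded_finite
  · obtain ⟨b, hb⟩ := hb
    refine ⟨b, fun i hi => ?_⟩
    obtain ⟨e⟩ := nonempty_HD_bcD_linearEquiv (B := B) K i
    haveI := hb i hi
    exact e.toEquiv.subsingleton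
  · intro i
    obtain ⟨e⟩ := nonempty_HD_bcD_linearEquiv (B := B) K i
    haveI := hfin i
    exact Module.Finite.equiv e.symm

/-- **Local duality bridge.** -/
theorem killsAt_hom_iff_killsAt_hdi (ω : Dual.D A) (hω : Dual.IsDualizing A ω)
    (q : PrimeSpectrum A) (νq : ℤ)
    (hνq : Dual.IsNormalized (Localization.AtPrime q.asIdeal) ((locD ω q.asIdeal)⟦νq⟧))
    (K : Dual.D A) (hb : ∃ b : ℤ, ∀ i : ℤ, b < i → Subsingleton (Dual.HD A K i))
    (hfin : ∀ i : ℤ, Module.Finite A (Dual.HD A K i)) (i : ℤ) (x : A) :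
    (∀ g : K ⟶ ω⟦νq - i⟧, ∃ t : A, t ∉ q.asIdeal ∧ (t * x) • g = 0) ↔
      (∀ y : Dual2.HDI A q.asIdeal K i, ∃ t : A, t ∉ q.asIdeal ∧ (t * x) • y = 0) := by
  haveI := isNoetherianRing_atPrime q.asIdeal
  have hKpc := isPseudoCoherent'_of_bounded_finite K hb hfin
  have hKBpc := isPseudoCoherent'_bcD (B := Localization.AtPrime q.asIdeal) K hb hfin
  obtain ⟨a, b, hab⟩ := hω.finite_injective_dimension
  haveI hge : DerivedCategory.IsGE ω a := by
    rw [DerivedCategory.isGE_iff]
    intro j hj
    haveI := subsingleton_HD_of_hom_quot_bot ω j (hab (A ⧸ (⊥ : Ideal A)) j (Or.inl hj))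
    exact ModuleCat.isZero_of_subsingleton _
  haveI : DerivedCategory.IsGE (ω⟦νq - i⟧) (a - (νq - i)) :=
    TStructure.t.isGE_shift ω a (νq - i) (a - (νq - i)) (by omega)
  have s1 := kills_hom_bcD_iff (B := Localization.AtPrime q.asIdeal) q.asIdeal.primeCompl K
    (ω⟦νq - i⟧) hKpc (a - (νq - i)) x
  let e : (bcD A (Localization.AtPrime q.asIdeal)).obj (ω⟦νq - i⟧) ≅
      ((locD ω q.asIdeal)⟦νq⟧)⟦(-i)⟧ :=
    ((bcD A (Localization.AtPrime q.asIdeal)).commShiftIso (νq - i)).app ω ≪≫
      (shiftShiftIso (locD ω q.asIdeal) νq (-i) (νq - i) (by ring)).symm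
  have s2 := kills_iff_of_equiv (Linear.homCongr (Localization.AtPrime q.asIdeal)
    (Iso.refl ((bcD A (Localization.AtPrime q.asIdeal)).obj K)) e)
    (algebraMap A (Localization.AtPrime q.asIdeal) x)
  have hωB : Dual.IsDualizing (Localization.AtPrime q.asIdeal) ((locD ω q.asIdeal)⟦νq⟧) :=
    isDualizing_locD_shift ω q.asIdeal hω νq
  have s3 := kills_hom_iff_kills_hdi (Localization.AtPrime q.asIdeal) _ hωB hνq
    ((bcD A (Localization.AtPrime q.asIdeal)).obj K) hKBpc i (-i) rfl
    (algebraMap A (Localization.AtPrime q.asIdeal) x)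
  obtain ⟨e4⟩ := hdi_bcD_equiv (B := Localization.AtPrime q.asIdeal) q.asIdeal K i
  rw [Localization.AtPrime.map_eq_maximalIdeal] at e4
  have s4 := kills_iff_of_equiv e4 (algebraMap A (Localization.AtPrime q.asIdeal) x)
  have s5 := kills_tensor_localization_iff (B := Localization.AtPrime q.asIdeal)
    q.asIdeal.primeCompl (Dual2.HDI A q.asIdeal K i) x
  exact s1.symm.trans (s2.trans (s3.trans (s4.trans s5)))

end Main

end Groth.Agent.Lib.FaltT
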