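import Mathlib
import Groth.Agent.Lib.FT16_helper6
import Groth.Agent.Lib.DMod79_helper6
import Groth.Agent.Lib.DMod73_helper6

/-!
# Colimit congruences for `HDI`/`HDT`, truncation, and vanishing after localization (helper6)
-/

set_option autoImplicit false
set_option linter.style.haveILetI false
set_option linter.unusedSectionVars false
set_option linter.unusedVariables false
universe u
open CategoryTheory CategoryTheory.Limits DerivedCategory Pretriangulated
open scoped TensorProduct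

attribute [local instance] HasDerivedCategory.standard

namespace Groth.Agent.Lib.FaltT

open Groth.Agent.Lib.DMod_helper6 DRing Groth.Agent.ExtendScalarsLib Groth.Agent.Lib.FlatHom
  Groth.Agent.Lib.DerivedTrunc_helper2

variable {A : Type u} [CommRing A]

/-- a morphism `L' ⟶ L` inducing bijections on `Hom(G d, -)` induces an isomorphism on the colimits -/
theorem nonempty_colimit_equiv_of_bijective {D : Type*} [Category D] (G : D ⥤ Dual.D A)
    {L' L : Dual.D A} (g : L' ⟶ L)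
    (hg : ∀ d : D, Function.Bijective (fun φ : G.obj d ⟶ L' => φ ≫ g))
    [HasColimit (G.op ⋙ (linearYoneda A (Dual.D A)).obj L')]
    [HasColimit (G.op ⋙ (linearYoneda A (Dual.D A)).obj L)] :
    Nonempty ((colimit (G.op ⋙ (linearYoneda A (Dual.D A)).obj L') : ModuleCat A) ≃ₗ[A]
      (colimit (G.op ⋙ (linearYoneda A (Dual.D A)).obj L) : ModuleCat A)) := by
  let α : G.op ⋙ (linearYoneda A (Dual.D A)).obj L' ⟶
      G.op ⋙ (linearYoneda A (Dual.D A)).obj L :=
    Functor.whiskerLeft G.op ((linearYoneda A (Dual.D A)).map g)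
  haveI : ∀ d, IsIso (α.app d) := fun d => by
    rw [ConcreteCategory.isIso_iff_bijective]
    exact hg d.unop
  haveI : IsIso α := NatIso.isIso_of_isIso_app α
  exact ⟨(HasColimit.isoOfNatIso (asIso α)).toLinearEquiv⟩

theorem nonempty_HDT_equiv_of_bijective (T : Set (PrimeSpectrum A)) {K' K : Dual.D A}
    (g : K' ⟶ K) (i : ℤ)
    (hg : ∀ J : Ideal A, Function.Bijective
      (fun φ : (DerivedCategory.singleFunctor (ModuleCat.{u} A) 0).obj (ModuleCat.of A (A ⧸ J)) ⟶
        K'⟦i⟧ => φ ≫ g⟦i⟧')) :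
    Nonempty (Dual2.HDT A T K' i ≃ₗ[A] Dual2.HDT A T K i) :=
  nonempty_colimit_equiv_of_bijective
    (localCohomology.ringModIdeals (Dual2.idealsInDiagram T) ⋙
      DerivedCategory.singleFunctor (ModuleCat.{u} A) 0) (g⟦i⟧') (fun d => hg _)

theorem nonempty_HDI_equiv_of_bijective (I : Ideal A) {K' K : Dual.D A}
    (g : K' ⟶ K) (i : ℤ)
    (hg : ∀ J : Ideal A, Function.Bijective
      (fun φ : (DerivedCategory.singleFunctor (ModuleCat.{u} A) 0).obj (ModuleCat.of A (A ⧸ J)) ⟶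
        K'⟦i⟧ => φ ≫ g⟦i⟧')) :
    Nonempty (Dual2.HDI A I K' i ≃ₗ[A] Dual2.HDI A I K i) :=
  nonempty_colimit_equiv_of_bijective
    (localCohomology.ringModIdeals (localCohomology.idealPowersDiagram I) ⋙
      DerivedCategory.singleFunctor (ModuleCat.{u} A) 0) (g⟦i⟧') (fun d => hg _)

lemma bijective_postcomp_of_isIso {Z K' K : Dual.D A} (g : K' ⟶ K) [IsIso g] (i : ℤ) :
    Function.Bijective (fun φ : Z ⟶ K'⟦i⟧ => φ ≫ g⟦i⟧') := by
  constructor
  · intro φ ψ h
    exact (cancel_mono (g⟦i⟧')).1 h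
  · intro f
    exact ⟨f ≫ inv (g⟦i⟧'), by simp⟩

theorem nonempty_HDT_equiv_of_iso (T : Set (PrimeSpectrum A)) {K' K : Dual.D A} (e : K' ≅ K)
    (i : ℤ) : Nonempty (Dual2.HDT A T K' i ≃ₗ[A] Dual2.HDT A T K i) :=
  nonempty_HDT_equiv_of_bijective T e.hom i (fun J => bijective_postcomp_of_isIso e.hom i)

theorem nonempty_HDI_equiv_of_iso (I : Ideal A) {K' K : Dual.D A} (e : K' ≅ K)
    (i : ℤ) : Nonempty (Dual2.HDI A I K' i ≃ₗ[A] Dual2.HDI A I K i) :=
  nonempty_HDI_equiv_of_bijective I e.hom i (fun J => bijective_postcomp_of_isIso e.hom i)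

/-- maps from an object of `D^{≤ 0}` to `K[i]` factor uniquely through `(τ_{≤ N} K)[i]` for `i ≤ N` -/
lemma bijective_postcomp_truncLEι (Z K : Dual.D A) [Z.IsLE 0] (N i : ℤ) (hi : i ≤ N) :
    Function.Bijective (fun φ : Z ⟶ (((tt (ModuleCat.{u} A)).truncLE N).obj K)⟦i⟧ =>
      φ ≫ (((tt (ModuleCat.{u} A)).truncLEι N).app K)⟦i⟧') := by
  have hT := (tt (ModuleCat.{u} A)).triangleLEGT_distinguished N K
  haveI : DerivedCategory.IsGE ((((tt (ModuleCat.{u} A)).truncGT N).obj K)⟦i⟧) (N + 1 - i) :=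
    TStructure.t.isGE_shift _ (N + 1) i (N + 1 - i) (by omega)
  haveI : DerivedCategory.IsGE (((((tt (ModuleCat.{u} A)).truncGT N).obj K)⟦i⟧)⟦(-1 : ℤ)⟧)
      (N + 2 - i) := TStructure.t.isGE_shift _ (N + 1 - i) (-1) (N + 2 - i) (by omega)
  have h3 : ∀ g : Z ⟶ (((tt (ModuleCat.{u} A)).truncGT N).obj K)⟦i⟧, g = 0 := fun g =>
    TStructure.t.zero_of_isLE_of_isGE g 0 (N + 1 - i) (by omega) inferInstance inferInstance
  have h3' : ∀ g : Z ⟶ ((((tt (ModuleCat.{u} A)).truncGT N).obj K)⟦i⟧)⟦(-1 : ℤ)⟧, g = 0 :=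
    fun g => TStructure.t.zero_of_isLE_of_isGE g 0 (N + 2 - i) (by omega) inferInstance
      inferInstance
  constructor
  · intro φ ψ h
    have h0 : (φ - ψ) ≫ (((tt (ModuleCat.{u} A)).truncLEι N).app K)⟦i⟧' = 0 := by
      rw [Preadditive.sub_comp]; exact sub_eq_zero.2 h
    have hT' := Triangle.shift_distinguished _ hT i
    obtain ⟨g₁, hg₁⟩ := Pretriangulated.Triangle.coyoneda_exact₂ _
      (inv_rot_of_distTriang _ hT') (φ - ψ) (by
        show (φ - ψ) ≫ (i.negOnePow • (((tt (ModuleCat.{u} A)).truncLEι N).app K)⟦i⟧') = 0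
        rw [Linear.comp_units_smul, h0, smul_zero])
    have : g₁ = 0 := h3' g₁
    rw [this, zero_comp] at hg₁
    exact sub_eq_zero.1 hg₁
  · intro f
    obtain ⟨g, hg⟩ := coyoneda_exact₂_shift _ hT i f (h3 _)
    exact ⟨g, hg.symm⟩

end Groth.Agent.Lib.FaltT
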