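import Mathlib
import Groth.Agent.Lib.FT3_helper6
import Groth.Agent.Lib.DMod82_helper6
import Groth.Agent.Lib.DMod118_helper6
import Groth.Agent.Lib.DerivedTrunc_helper2

/-!
# Finiteness of cohomology from annihilation (helper6)

`finite_HD_of_kills`: if `X ∈ D(A)` (`A` Noetherian) is bounded below, all `Hom(A/J, X[m])` are finite modules
and `J` kills `H^i(X)` for `i < c`, then `H^i(X)` is finite for `i < c`.
-/

set_option autoImplicit false
set_option linter.style.haveILetI false
set_option linter.unusedSectionVars false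
set_option linter.unusedVariables false
universe u
open CategoryTheory CategoryTheory.Limits DerivedCategory Opposite Pretriangulated

attribute [local instance] HasDerivedCategory.standard

namespace Groth.Agent.Lib.FaltT

open Groth.Agent.Lib.RGamma Groth.Agent.HomologyColim Groth.Agent.Lib.HDIColim
open Groth.Agent.Lib.DMod_helper6 Groth.Agent.Lib.DerivedTrunc_helper2

section Alg

variable {A : Type*} [CommRing A] [IsNoetherianRing A]

lemma finite_of_exact {M' M M'' : Type*} [AddCommGroup M'] [Module A M'] [AddCommGroup M]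
    [Module A M] [AddCommGroup M''] [Module A M''] (f : M' →ₗ[A] M) (g : M →ₗ[A] M'')
    (h : LinearMap.ker g ≤ LinearMap.range f) [Module.Finite A M'] [Module.Finite A M''] :
    Module.Finite A M := by
  haveI : IsNoetherian A M' := isNoetherian_of_isNoetherianRing_of_finite A M'
  haveI : IsNoetherian A M'' := isNoetherian_of_isNoetherianRing_of_finite A M''
  have h1 : (LinearMap.ker g).FG := by
    have h2 : (Submodule.comap f (LinearMap.ker g)).FG := IsNoetherian.noetherian _
    have h3 : Submodule.map f (Submodule.comap f (LinearMap.ker g)) = LinearMap.ker g := by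
      rw [Submodule.map_comap_eq]
      exact inf_eq_right.2 h
    rw [← h3]
    exact h2.map f
  have h4 : (Submodule.map g ⊤).FG := IsNoetherian.noetherian _
  refine ⟨Submodule.fg_of_fg_map_of_fg_inf_ker g h4 ?_⟩
  rw [top_inf_eq]
  exact h1

end Alg

variable {A : Type u} [CommRing A]

/-- `H^i(K[n]) ≃ H^{n+i}(K)` -/
noncomputable def HDShiftEquiv (K : Dual.D A) (n i : ℤ) :
    Dual.HD A (K⟦n⟧) i ≃ₗ[A] Dual.HD A K (n + i) :=
  (((homologyFunctor (ModuleCat.{u} A) 0).shiftIso n i (n + i) rfl).app K).toLinearEquiv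

/-- `H^i(K[n]) ≃ H^j(K)` for `n + i = j` -/
noncomputable def HDShiftEquiv' (K : Dual.D A) (n i j : ℤ) (h : n + i = j) :
    Dual.HD A (K⟦n⟧) i ≃ₗ[A] Dual.HD A K j :=
  (((homologyFunctor (ModuleCat.{u} A) 0).shiftIso n i j h).app K).toLinearEquiv

/-- `H^i(K) ≃ H^i(K')` for `K ≅ K'` -/
noncomputable def HDIsoEquiv {K K' : Dual.D A} (e : K ≅ K') (i : ℤ) :
    Dual.HD A K i ≃ₗ[A] Dual.HD A K' i :=
  ((homologyFunctor (ModuleCat.{u} A) i).mapIso e).toLinearEquiv

/-- `H^i(Q E) ≃ H^i(E)` -/
noncomputable def HDQEquiv (E : DRing.Cx A) (i : ℤ) :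
    Dual.HD A (Q.obj E) i ≃ₗ[A] E.homology i :=
  ((homologyFunctorFactors (ModuleCat.{u} A) i).app E).toLinearEquiv

/-- a bounded below object is represented by a bounded below complex of injectives -/
lemma exists_injective_model (G' : Dual.D A) (a : ℤ) [G'.IsGE a] :
    ∃ (E : DRing.Cx A) (_ : E.IsStrictlyGE a) (_ : ∀ n, Injective (E.X n)) (_ : E.IsKInjective),
      Nonempty (G' ≅ Q.obj E) := by
  obtain ⟨L, hL, ⟨e₀⟩⟩ := DerivedCategory.exists_iso_Q_obj_of_isGE G' a
  obtain ⟨E, i, hi, hE, hE'⟩ :=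
    CochainComplex.Plus.modelCategoryQuillen.exists_quasiIso_injective L a
  haveI : IsIso (Q.map i) := (isIso_Q_map_iff_quasiIso (C := ModuleCat.{u} A) i).2 hi
  exact ⟨E, hE', hE, CochainComplex.isKInjective_of_injective E a,
    ⟨e₀ ≪≫ asIso (Q.map i)⟩⟩

/-- if `G' ∈ D^{≥ 0}` and `J` kills `H^0(G')`, then `H^0(G')` is a quotient of `Hom(A/J, G')` -/
lemma exists_surjective_hom_to_HD (G' : Dual.D A) [G'.IsGE 0] (J : Ideal A)
    (hk : ∀ x ∈ J, ∀ y : Dual.HD A G' 0, x • y = 0) :
    ∃ f : (Dual.inD A (A ⧸ J) ⟶ G') →ₗ[A] Dual.HD A G' 0, Function.Surjective f := by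
  obtain ⟨E, hE, hinj, hK, ⟨e⟩⟩ := exists_injective_model G' 0
  let ε : Dual.HD A G' 0 ≃ₗ[A] E.homology 0 := (HDIsoEquiv e 0).trans (HDQEquiv E 0)
  have hz : ∀ y : E.X (-1), y = 0 := by
    intro y
    haveI : Subsingleton (E.X (-1)) :=
      ModuleCat.subsingleton_of_isZero (E.isZero_of_isStrictlyGE 0 (-1) (by norm_num))
    exact Subsingleton.elim _ _
  have hk' : ∀ a ∈ J, ∀ h : E.homology 0, a • h = 0 := by
    intro a ha h
    obtain ⟨y, rfl⟩ := ε.surjective h
    rw [← map_smul, hk a ha y, map_zero]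
  refine ⟨ε.symm.toLinearMap ∘ₗ θ₀ J E e, ?_⟩
  exact ε.symm.surjective.comp (θ₀_surjective J E e hz hk')

variable [IsNoetherianRing A]

lemma isPseudoCoherent'_inD_quot (J : Ideal A) : DRing.IsPseudoCoherent' A (Dual.inD A (A ⧸ J)) :=
  (isPseudoCoherentModule'_iff_noeth (A ⧸ J)).2 inferInstance

/-- **Finiteness from annihilation.** -/
theorem finite_HD_of_kills (X : Dual.D A) (J : Ideal A) (a : ℤ)
    (hXa : ∀ i : ℤ, i < a → Subsingleton (Dual.HD A X i))
    (hfin : ∀ m : ℤ, Module.Finite A (Dual.inD A (A ⧸ J) ⟶ X⟦m⟧)) :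
    ∀ k : ℕ, (∀ i : ℤ, i < a + k → ∀ x ∈ J, ∀ y : Dual.HD A X i, x • y = 0) →
      ∀ i : ℤ, i < a + k → Module.Finite A (Dual.HD A X i) := by
  intro k
  induction k with
  | zero =>
    intro _ i hi
    haveI := hXa i (by simpa using hi)
    exact Module.Finite.of_finite
  | succ k ih =>
    intro hk i hi
    have ih' := ih (fun i hi => hk i (by push_cast; omega))
    by_cases hik : i < a + k
    · exact ih' i hik
    obtain ⟨c, hc⟩ : ∃ c : ℤ, c + 1 = i := ⟨i - 1, by omega⟩
    have hci : c + 1 = a + k := by push_cast at hi; omega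
    let Y : Dual.D A := Dual.inD A (A ⧸ J)
    have hY : DRing.IsPseudoCoherent' A Y := isPseudoCoherent'_inD_quot J
    let C := ((tt (ModuleCat.{u} A)).truncLE c).obj X
    let N := ((tt (ModuleCat.{u} A)).truncGT c).obj X
    let Tr := ((tt (ModuleCat.{u} A)).triangleLEGT c).obj X
    have hTr : Tr ∈ distTriang _ := (tt (ModuleCat.{u} A)).triangleLEGT_distinguished c X
    -- cohomology of `C`
    have hCfin : ∀ j : ℤ, Module.Finite A (Dual.HD A C j) := by
      intro j
      by_cases hj : j ≤ c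
      · haveI := isIso_homology_map_truncLEι X c j hj
        exact finite_of_iso (asIso ((DerivedCategory.homologyFunctor _ j).map
          (((tt _).truncLEι c).app X))).symm (ih' j (by omega))
      · haveI : Subsingleton ((DerivedCategory.homologyFunctor (ModuleCat.{u} A) j).obj C) :=
          ModuleCat.subsingleton_of_isZero (isZero_homology_truncLE X c j (by omega))
        exact Module.Finite.of_finite
    have hCvan : ∀ j : ℤ, j < a → Subsingleton (Dual.HD A C j) := by
      intro j hj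
      by_cases hj' : j ≤ c
      · haveI := isIso_homology_map_truncLEι X c j hj'
        haveI := hXa j hj
        exact ModuleCat.subsingleton_of_isZero (IsZero.of_iso
          (show IsZero ((DerivedCategory.homologyFunctor (ModuleCat.{u} A) j).obj X)
            from ModuleCat.isZero_of_subsingleton _)
          (asIso ((DerivedCategory.homologyFunctor _ j).map (((tt _).truncLEι c).app X))))
      · exact ModuleCat.subsingleton_of_isZero (isZero_homology_truncLE X c j (by omega))
    -- finiteness of `Hom(Y, C[1][i])`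
    haveI h3 : Module.Finite A (Y ⟶ (C⟦(1 : ℤ)⟧)⟦i⟧) := by
      refine hom_finite_of_pc_of_boundedBelow Y hY 0 _ (a - 1 - i) ?_ ?_
      · intro j hj
        rw [subsingleton_HD_shift_iff, subsingleton_HD_shift_iff]
        exact hCvan _ (by omega)
      · intro j
        exact Module.Finite.equiv
          (((HDShiftEquiv (C⟦(1 : ℤ)⟧) i j).trans (HDShiftEquiv C 1 (i + j))).symm)
    haveI h2 : Module.Finite A (Y ⟶ X⟦i⟧) := hfin i
    -- the middle term
    haveI hmid : Module.Finite A (Y ⟶ N⟦i⟧) := by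
      refine finite_of_exact
        (Linear.rightComp A Y (Tr.mor₂⟦i⟧') : (Y ⟶ X⟦i⟧) →ₗ[A] (Y ⟶ N⟦i⟧))
        (Linear.rightComp A Y (Tr.mor₃⟦i⟧') : (Y ⟶ N⟦i⟧) →ₗ[A] (Y ⟶ (C⟦(1 : ℤ)⟧)⟦i⟧)) ?_
      intro f hf
      obtain ⟨g, hg⟩ := coyoneda_exact₃_shift Tr hTr i f hf
      exact ⟨g, hg.symm⟩
    -- `N[i] ∈ D^{≥ 0}`
    haveI hN1 : (tt (ModuleCat.{u} A)).IsGE N (c + 1) := inferInstance
    haveI hN2 : (N⟦i⟧).IsGE 0 := (tt (ModuleCat.{u} A)).isGE_shift N (c + 1) i 0 (by omega)
    haveI := isIso_homology_map_truncGTπ X c i (by omega)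
    let ε : Dual.HD A (N⟦i⟧) 0 ≃ₗ[A] Dual.HD A X i :=
      (HDShiftEquiv' N i 0 i (add_zero i)).trans
        (asIso ((DerivedCategory.homologyFunctor _ i).map
          (((tt (ModuleCat.{u} A)).truncGTπ c).app X))).symm.toLinearEquiv
    have hkN : ∀ x ∈ J, ∀ y : Dual.HD A (N⟦i⟧) 0, x • y = 0 := by
      intro x hx y
      apply ε.injective
      rw [map_smul, map_zero]
      exact hk i hi x hx _
    obtain ⟨f, hf⟩ := exists_surjective_hom_to_HD (N⟦i⟧) J hkN
    haveI : Module.Finite A (Dual.HD A (N⟦i⟧) 0) := Module.Finite.of_surjective f hf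
    exact Module.Finite.equiv ε

end Groth.Agent.Lib.FaltT
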