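import Mathlib
import Groth.Agent.Lib.FT17_helper6
import Groth.Agent.Lib.FT4_helper6

/-!
# Truncation `τ_{≤ N} K` and `HDI`/`HDT`; vanishing after localization (helper6)
-/

set_option autoImplicit false
set_option linter.style.haveILetI false
set_option linter.unusedSectionVars false
set_option linter.unusedVariables false
universe u
open CategoryTheory CategoryTheory.Limits DerivedCategory Pretriangulated
open scoped TensorProduct

attribute [local instance] HasDerivedCategory.standard

namespace Groth.Agent.Lib.FaltT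

open Groth.Agent.Lib.DMod_helper6 DRing Groth.Agent.ExtendScalarsLib Groth.Agent.Lib.FlatHom
  Groth.Agent.Lib.DerivedTrunc_helper2

variable {A : Type u} [CommRing A]

/-- the truncation `τ_{≤ N} K` -/
noncomputable abbrev trLE (K : Dual.D A) (N : ℤ) : Dual.D A :=
  ((tt (ModuleCat.{u} A)).truncLE N).obj K

theorem nonempty_HDT_trLE_equiv (T : Set (PrimeSpectrum A)) (K : Dual.D A) (N i : ℤ)
    (hi : i ≤ N) : Nonempty (Dual2.HDT A T (trLE K N) i ≃ₗ[A] Dual2.HDT A T K i) :=
  nonempty_HDT_equiv_of_bijective T (((tt (ModuleCat.{u} A)).truncLEι N).app K) i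
    (fun J => bijective_postcomp_truncLEι _ K N i hi)

theorem nonempty_HDI_trLE_equiv (I : Ideal A) (K : Dual.D A) (N i : ℤ)
    (hi : i ≤ N) : Nonempty (Dual2.HDI A I (trLE K N) i ≃ₗ[A] Dual2.HDI A I K i) :=
  nonempty_HDI_equiv_of_bijective I (((tt (ModuleCat.{u} A)).truncLEι N).app K) i
    (fun J => bijective_postcomp_truncLEι _ K N i hi)

lemma subsingleton_HD_trLE_of_gt (K : Dual.D A) (N i : ℤ) (hi : N < i) :
    Subsingleton (Dual.HD A (trLE K N) i) :=
  ModuleCat.subsingleton_of_isZero (isZero_homology_truncLE K N i hi)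

/-- `H^i(τ_{≤ N} K) ≃ H^i(K)` for `i ≤ N` -/
noncomputable def HDtrLEEquiv (K : Dual.D A) (N i : ℤ) (hi : i ≤ N) :
    Dual.HD A (trLE K N) i ≃ₗ[A] Dual.HD A K i :=
  haveI := isIso_homology_map_truncLEι K N i hi
  (asIso ((homologyFunctor (ModuleCat.{u} A) i).map
    (((tt (ModuleCat.{u} A)).truncLEι N).app K))).toLinearEquiv

lemma finite_HD_trLE (K : Dual.D A) (hK : ∀ i : ℤ, Module.Finite A (Dual.HD A K i)) (N i : ℤ) :
    Module.Finite A (Dual.HD A (trLE K N) i) := by
  by_cases hi : i ≤ N
  · haveI := hK i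
    exact Module.Finite.equiv (HDtrLEEquiv K N i hi).symm
  · haveI := subsingleton_HD_trLE_of_gt K N i (by omega)
    infer_instance

lemma subsingleton_HD_trLE_of_lt (K : Dual.D A) (a : ℤ)
    (hKa : ∀ i : ℤ, i < a → Subsingleton (Dual.HD A K i)) (N i : ℤ) (hi : i < a) :
    Subsingleton (Dual.HD A (trLE K N) i) := by
  by_cases hiN : i ≤ N
  · haveI := hKa i hi
    exact (HDtrLEEquiv K N i hiN).toEquiv.subsingleton
  · exact subsingleton_HD_trLE_of_gt K N i (by omega)

section Loc

variable [IsNoetherianRing A]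

/-- the local cohomology of `K_p` at the maximal ideal vanishes in degree `i` iff every element of
`colim_n Hom(A/p^n, K[i])` is killed by an element outside `p` -/
theorem subsingleton_HDI_LBC_iff (p : PrimeSpectrum A)
    [DRing.HasLBaseChange (algebraMap A (Localization.AtPrime p.asIdeal))] (K : Dual.D A)
    (i : ℤ) :
    Subsingleton (Dual2.HDI (Localization.AtPrime p.asIdeal)
      (IsLocalRing.maximalIdeal (Localization.AtPrime p.asIdeal))
      ((DRing.LBaseChange (algebraMap A (Localization.AtPrime p.asIdeal))).obj K) i) ↔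
    ∀ y : Dual2.HDI A p.asIdeal K i, ∃ t : A, t ∉ p.asIdeal ∧ t • y = 0 := by
  haveI := isNoetherianRing_atPrime p.asIdeal
  haveI : Module.Flat A (Localization.AtPrime p.asIdeal) :=
    IsLocalization.flat _ p.asIdeal.primeCompl
  obtain ⟨e⟩ := nonempty_lBaseChange_iso_bcD (A := A) (B := Localization.AtPrime p.asIdeal)
  obtain ⟨e1⟩ := nonempty_HDI_equiv_of_iso
    (IsLocalRing.maximalIdeal (Localization.AtPrime p.asIdeal)) (e.app K) i
  obtain ⟨e2⟩ := hdi_bcD_equiv (B := Localization.AtPrime p.asIdeal) p.asIdeal K i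
  rw [Localization.AtPrime.map_eq_maximalIdeal] at e2
  have h1 := kills_tensor_localization_iff (B := Localization.AtPrime p.asIdeal)
    p.asIdeal.primeCompl (Dual2.HDI A p.asIdeal K i) 1
  rw [e1.toEquiv.subsingleton_congr, e2.toEquiv.subsingleton_congr]
  constructor
  · intro hs y
    obtain ⟨t, ht, hty⟩ := h1.1 (fun z => by rw [Subsingleton.elim z 0, smul_zero]) y
    exact ⟨t, ht, by rwa [mul_one] at hty⟩
  · intro h
    have h2 := h1.2 (fun y => by
      obtain ⟨t, ht, hty⟩ := h y
      exact ⟨t, ht, by rwa [mul_one]⟩)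
    refine ⟨fun z w => ?_⟩
    have hz := h2 z
    have hw := h2 w
    rw [map_one, one_smul] at hz hw
    rw [hz, hw]

end Loc

end Groth.Agent.Lib.FaltT
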