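import Mathlib
import Groth.Agent.Lib.FT4_helper6
import Groth.Agent.Lib.DMod50_helper6

/-!
# Finiteness of `H^i_T(K)` ⇔ annihilation by an ideal (S1764) (helper6)
-/

set_option autoImplicit false
set_option linter.style.haveILetI false
set_option linter.unusedSectionVars false
set_option linter.unusedVariables false
universe u
open CategoryTheory CategoryTheory.Limits DerivedCategory Opposite Pretriangulated

attribute [local instance] HasDerivedCategory.standard

namespace Groth.Agent.Lib.FaltT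

open Groth.Agent.Lib.RGamma Groth.Agent.HomologyColim Groth.Agent.Lib.HDIColim
open Groth.Agent.Lib.DMod_helper6 Groth.Agent.Lib.DerivedTrunc_helper2

variable {A : Type u} [CommRing A]

/-- postcomposition with a morphism represented by a chain map `φ : N' ⟶ E` of K-injective complexes is
injective on `Hom(A/𝔞, -)` when `φ` is injective in degree `0` and the elements of `E^{-1}` killed by
`𝔞` lift to elements of `N'^{-1}` killed by `𝔞`. -/
lemma hom_postcomp_injective {N' E : DRing.Cx A} [N'.IsKInjective] [E.IsKInjective] (φ : N' ⟶ E)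
    (𝔞 : Ideal A) (h0 : Function.Injective (φ.f 0).hom)
    (h1 : ∀ y : E.X (-1), (∀ a ∈ 𝔞, a • y = 0) →
      ∃ w : N'.X (-1), (φ.f (-1)).hom w = y ∧ ∀ a ∈ 𝔞, a • w = 0)
    {L L' : Dual.D A} (eN : L ≅ Q.obj N') (eE : L' ≅ Q.obj E) (g : L ⟶ L')
    (hg : g ≫ eE.hom = eN.hom ≫ Q.map φ) :
    Function.Injective (fun f : Dual.inD A (A ⧸ 𝔞) ⟶ L => f ≫ g) := by
  have hg' : eN.inv ≫ g = Q.map φ ≫ eE.inv := by
    rw [Iso.inv_comp_eq, ← Category.assoc, ← hg, Category.assoc, Iso.hom_inv_id, Category.comp_id]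
  intro f₁ f₂ h12
  rw [← sub_eq_zero]
  have h12' : (f₁ - f₂) ≫ g = 0 := by
    rw [Preadditive.sub_comp]
    exact sub_eq_zero.2 h12
  obtain ⟨x, hx⟩ := τ_surjective 𝔞 N' eN (f₁ - f₂)
  rw [← hx] at h12' ⊢
  have hx'mem : (φ.f 0).hom x.1 ∈ P 𝔞 E := by
    refine ⟨?_, fun a ha => ?_⟩
    · have := f_d φ 0 1 x.1
      rw [← this, x.2.1, map_zero]
    · rw [← map_smul, x.2.2 a ha, map_zero]
  have h2 : τ 𝔞 N' eN x ≫ g = τ 𝔞 E eE ⟨(φ.f 0).hom x.1, hx'mem⟩ := by
    rw [τ_apply, τ_apply, Category.assoc, Category.assoc, hg', ← ψ_comp 𝔞 N' φ x ⟨_, hx'mem⟩ rfl,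
      Q.map_comp, Category.assoc]
  rw [h2] at h12'
  obtain ⟨y, hy1, hy2⟩ := exists_lift_of_τ_eq_zero 𝔞 E eE _ h12'
  obtain ⟨w, hw1, hw2⟩ := h1 y hy2
  refine τ_eq_zero_of_lift 𝔞 N' eN x w hw2 ?_
  apply h0
  have := f_d φ (-1) 0 w
  rw [this, hw1]
  exact hy1

section Noeth

variable [IsNoetherianRing A] (T : Set (PrimeSpectrum A))

lemma injective_ΓTC_X (I : DRing.Cx A) (hI : ∀ n, Injective (I.X n)) (n : ℤ) :
    Injective (((ΓTC T).obj I).X n) := by
  haveI : Injective (ModuleCat.of A (I.X n)) := hI n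
  haveI : Module.Injective A (I.X n) := Module.injective_module_of_injective_object A (I.X n)
  haveI : Module.Injective A (torsT T (I.X n)) := injective_torsT (I.X n) inferInstance
  exact Module.injective_object_of_injective_module A (torsT T (I.X n))

lemma isStrictlyGE_ΓTC (I : DRing.Cx A) (a : ℤ) [I.IsStrictlyGE a] :
    ((ΓTC T).obj I).IsStrictlyGE a := by
  rw [CochainComplex.isStrictlyGE_iff]
  intro i hi
  haveI : Subsingleton (I.X i) :=
    ModuleCat.subsingleton_of_isZero (I.isZero_of_isStrictlyGE a i hi)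
  haveI : Subsingleton (torsT T (I.X i)) := ⟨fun x y => Subtype.ext (Subsingleton.elim _ _)⟩
  exact ModuleCat.isZero_of_subsingleton (ModuleCat.of A (torsT T (I.X i)))

lemma isKInjective_ΓTC (I : DRing.Cx A) (a : ℤ) [I.IsStrictlyGE a] (hI : ∀ n, Injective (I.X n)) :
    ((ΓTC T).obj I).IsKInjective := by
  haveI := isStrictlyGE_ΓTC T I a
  haveI := injective_ΓTC_X T I hI
  exact CochainComplex.isKInjective_of_injective _ a

variable {T}

/-- (P1): `Hom(A/𝔞, RΓ_T(K)[m])` embeds into `Hom(A/𝔞, K[m])` -/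
lemma hom_ΓT_postcomp_injective (I : DRing.Cx A) (a : ℤ) [I.IsStrictlyGE a]
    (hI : ∀ n, Injective (I.X n)) {𝔞 : Ideal A} (h𝔞 : InT T 𝔞) (m : ℤ) :
    Function.Injective (fun f : Dual.inD A (A ⧸ 𝔞) ⟶ (Q.obj ((ΓTC T).obj I))⟦m⟧ =>
      f ≫ (Q.map (ΓTCι T I))⟦m⟧') := by
  haveI := isKInjective_ΓTC T I a hI
  haveI : I.IsKInjective := CochainComplex.isKInjective_of_injective I a
  let N := (ΓTC T).obj I
  refine hom_postcomp_injective (N' := N⟦m⟧) (E := I⟦m⟧) ((ΓTCι T I)⟦m⟧') 𝔞 ?_ ?_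
    ((Q.commShiftIso m).app N).symm ((Q.commShiftIso m).app I).symm _ ?_
  · intro x y hxy
    exact Subtype.ext hxy
  · intro y hy
    exact ⟨(⟨y, 𝔞, h𝔞, hy⟩ : torsT T (I.X (-1 + m))), rfl, fun a ha => Subtype.ext (hy a ha)⟩
  · have := (Q.commShiftIso m).inv.naturality (ΓTCι T I)
    exact this

lemma finite_hom_QΓT (I : DRing.Cx A) (a : ℤ) [I.IsStrictlyGE a]
    (hI : ∀ n, Injective (I.X n)) (K : Dual.D A) (e : K ≅ Q.obj I)
    (hK : ∀ i : ℤ, Module.Finite A (Dual.HD A K i)) {𝔞 : Ideal A} (h𝔞 : InT T 𝔞) (m : ℤ) :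
    Module.Finite A (Dual.inD A (A ⧸ 𝔞) ⟶ (Q.obj ((ΓTC T).obj I))⟦m⟧) := by
  have hKa : ∀ i : ℤ, i < a → Subsingleton (Dual.HD A (Q.obj I) i) := by
    intro i hi
    haveI : (Q.obj I).IsGE a := inferInstance
    exact ModuleCat.subsingleton_of_isZero ((Q.obj I).isZero_of_isGE a i hi)
  haveI : Module.Finite A (Dual.inD A (A ⧸ 𝔞) ⟶ (Q.obj I)⟦m⟧) := by
    refine hom_finite_of_pc_of_boundedBelow _ (isPseudoCoherent'_inD_quot 𝔞) 0 _ (a - m) ?_ ?_
    · intro j hj
      rw [subsingleton_HD_shift_iff]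
      exact hKa _ (by omega)
    · intro j
      haveI := hK (m + j)
      exact Module.Finite.equiv ((HDShiftEquiv (Q.obj I) m j).trans (HDIsoEquiv e (m + j)).symm).symm
  haveI : IsNoetherian A (Dual.inD A (A ⧸ 𝔞) ⟶ (Q.obj I)⟦m⟧) :=
    isNoetherian_of_isNoetherianRing_of_finite A _
  exact Module.Finite.of_injective
    (Linear.rightComp A (Dual.inD A (A ⧸ 𝔞)) ((Q.map (ΓTCι T I))⟦m⟧'))
    (hom_ΓT_postcomp_injective I a hI h𝔞 m)

variable (T)

/-- `H^i(Q Γ_T I) ≃ H^i_T(K)` -/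
lemma nonempty_HD_QΓT_equiv (I : DRing.Cx A) [I.IsKInjective] (K : Dual.D A) (e : K ≅ Q.obj I)
    (i : ℤ) : Nonempty (Dual.HD A (Q.obj ((ΓTC T).obj I)) i ≃ₗ[A] Dual2.HDT A T K i) := by
  obtain ⟨E⟩ := homology_equiv_HDT T I K e i
  exact ⟨(HDQEquiv _ i).trans E⟩

/-- every cohomology class of `Γ_T I` is killed by an ideal in `T` -/
lemma exists_inT_kills_homology (I : DRing.Cx A) (i : ℤ) (h : ((ΓTC T).obj I).homology i) :
    ∃ 𝔞 : Ideal A, InT T 𝔞 ∧ ∀ a ∈ 𝔞, a • h = 0 := by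
  obtain ⟨z, rfl⟩ := exists_homologyπ_eq ((ΓTC T).obj I) i h
  obtain ⟨𝔞, h𝔞, hn⟩ := (((ΓTC T).obj I).iCycles i z).2
  refine ⟨𝔞, h𝔞, fun a ha => ?_⟩
  have h1 : a • z = 0 := by
    apply iCycles_injective
    rw [map_smul, map_zero]
    exact Subtype.ext (hn a ha)
  rw [← map_smul, h1, map_zero]

variable {T}

theorem S1764_main (K : Dual.D A) (a : ℤ)
    (hKa : ∀ i : ℤ, i < a → Subsingleton (Dual.HD A K i))
    (hK : ∀ i : ℤ, Module.Finite A (Dual.HD A K i)) (n : ℤ) :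
    (∀ i : ℤ, i ≤ n → Module.Finite A (Dual2.HDT A T K i)) ↔
      ∃ J : Ideal A, PrimeSpectrum.zeroLocus (J : Set A) ⊆ T ∧
        ∀ i : ℤ, i ≤ n → ∀ x : A, x ∈ J → ∀ y : Dual2.HDT A T K i, x • y = 0 := by
  haveI : K.IsGE a := Groth.Agent.Lib.DMod_helper6.isGE_of_subsingleton_HD K a hKa
  obtain ⟨I, hI, hinj, hKI, ⟨e⟩⟩ := exists_injective_model K a
  let N := (ΓTC T).obj I
  haveI := isStrictlyGE_ΓTC T I a
  have hE : ∀ i : ℤ, Nonempty (N.homology i ≃ₗ[A] Dual2.HDT A T K i) :=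
    fun i => homology_equiv_HDT T I K e i
  have hNa : ∀ i : ℤ, i < a → Subsingleton (N.homology i) := by
    intro i hi
    exact ModuleCat.subsingleton_of_isZero
      ((N.exactAt_of_isGE a i hi).isZero_homology)
  constructor
  · intro hfin
    have h1 : ∀ i : ℤ, i ≤ n → ∃ Ji : Ideal A, InT T Ji ∧
        ∀ x ∈ Ji, ∀ y : N.homology i, x • y = 0 := by
      intro i hi
      obtain ⟨E⟩ := hE i
      haveI := hfin i hi
      haveI : Module.Finite A (N.homology i) := Module.Finite.equiv E.symm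
      have hle : (⊤ : Submodule A (N.homology i)) ≤ torsT T (N.homology i) := by
        intro h _
        exact exists_inT_kills_homology T I i h
      obtain ⟨Ji, hJi, hk⟩ := exists_inT_kills_of_fg _ Module.Finite.fg_top hle
      exact ⟨Ji, hJi, fun x hx y => hk x hx y Submodule.mem_top⟩
    choose! Jf hJf using h1
    refine ⟨(Finset.Icc a n).inf Jf,
      inT_finset_inf _ _ (fun i hi => (hJf i (Finset.mem_Icc.1 hi).2).1), ?_⟩
    intro i hi x hx y
    obtain ⟨E⟩ := hE i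
    obtain ⟨y', rfl⟩ := E.surjective y
    rw [← map_smul]
    by_cases hia : i < a
    · haveI := hNa i hia
      rw [Subsingleton.elim (x • y') 0, map_zero]
    · have hx' : x ∈ Jf i :=
        (Finset.inf_le (Finset.mem_Icc.2 ⟨not_lt.1 hia, hi⟩) : (Finset.Icc a n).inf Jf ≤ Jf i) hx
      rw [(hJf i hi).2 x hx' y', map_zero]
  · rintro ⟨J, hJ, hk⟩ i hi
    let X : Dual.D A := Q.obj N
    have hXa : ∀ i : ℤ, i < a → Subsingleton (Dual.HD A X i) := by
      intro i hi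
      haveI := hNa i hi
      exact (HDQEquiv N i).toEquiv.subsingleton
    have hfin : ∀ m : ℤ, Module.Finite A (Dual.inD A (A ⧸ J) ⟶ X⟦m⟧) :=
      fun m => finite_hom_QΓT I a hinj K e hK hJ m
    have hkX : ∀ j : ℤ, j < a + ((n + 1 - a).toNat : ℕ) → ∀ x ∈ J, ∀ y : Dual.HD A X j,
        x • y = 0 := by
      intro j hj x hx y
      by_cases hja : j < a
      · haveI := hXa j hja
        exact Subsingleton.elim _ _
      · have hjn : j ≤ n := by omega
        obtain ⟨E⟩ := hE j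
        apply ((HDQEquiv N j).trans E).injective
        rw [map_smul, map_zero]
        exact hk j hjn x hx _
    by_cases hia : i < a
    · obtain ⟨E⟩ := hE i
      haveI := hNa i hia
      haveI : Module.Finite A (N.homology i) := Module.Finite.of_finite
      exact Module.Finite.equiv E
    · have := finite_HD_of_kills X J a hXa hfin (n + 1 - a).toNat hkX i (by omega)
      obtain ⟨E⟩ := hE i
      exact Module.Finite.equiv ((HDQEquiv N i).trans E)

end Noeth

end Groth.Agent.Lib.FaltT
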