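import Mathlib
import Groth.Agent.Lib.FT18_helper6
import Groth.Agent.Lib.FT14_helper6
import Groth.Agent.Lib.FT13_helper6
import Groth.Agent.Lib.FT5_helper6
import Groth.Agent.Lib.DMod86_helper6
import Groth.Agent.Lib.DMod74_helper6
import Groth.Agent.Lib.HDIColim3_helper2

/-!
# Faltings' annihilator theorem for complexes: the core equivalence (helper6)
-/

set_option autoImplicit false
set_option linter.style.haveILetI false
set_option linter.unusedSectionVars false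
set_option linter.unusedVariables false
universe u
open CategoryTheory CategoryTheory.Limits DerivedCategory Pretriangulated
open scoped TensorProduct

attribute [local instance] HasDerivedCategory.standard

namespace Groth.Agent.Lib.FaltT

open Groth.Agent.Lib.DMod_helper6 DRing Groth.Agent.ExtendScalarsLib Groth.Agent.Lib.FlatHom
  Groth.Agent.Lib.DerivedTrunc_helper2 Groth.Agent.Lib.HDIColim Groth.Agent.Lib.RGamma

variable {A : Type u} [CommRing A]

lemma homology_eq_zero_of_subsingleton (Y : DRing.Cx A) (i : ℤ) [Subsingleton (Y.X i)]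
    (h : Y.homology i) : h = 0 := by
  obtain ⟨z, rfl⟩ := mkH_surjective Y i h
  have : z = 0 := Subtype.ext (Subsingleton.elim _ _)
  rw [this, map_zero]

/-- universe-polymorphic version of `exists_inT_kills_of_fg` -/
lemma exists_inT_kills_tors [IsNoetherianRing A] (T : Set (PrimeSpectrum A)) (M : Type*)
    [AddCommGroup M] [Module A M] [Module.Finite A M] :
    ∃ J : Ideal A, InT T J ∧ ∀ m : M, (∃ J' : Ideal A, InT T J' ∧ ∀ a ∈ J', a • m = 0) →
      ∀ a ∈ J, a • m = 0 := by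
  let N : Submodule A M :=
    { carrier := {m | ∃ J : Ideal A, InT T J ∧ ∀ a ∈ J, a • m = 0}
      zero_mem' := ⟨⊤, inT_top T, fun a _ => smul_zero a⟩
      add_mem' := by
        rintro m m' ⟨J, hJ, h⟩ ⟨J', hJ', h'⟩
        refine ⟨J ⊓ J', inT_inf hJ hJ', fun a ha => ?_⟩
        rw [smul_add, h a ha.1, h' a ha.2, add_zero]
      smul_mem' := by
        rintro c m ⟨J, hJ, h⟩
        exact ⟨J, hJ, fun a ha => by rw [smul_comm, h a ha, smul_zero]⟩ }
  haveI : IsNoetherian A M := isNoetherian_of_isNoetherianRing_of_finite A M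
  have hN : N.FG := IsNoetherian.noetherian N
  have key : ∀ N' : Submodule A M, N'.FG → N' ≤ N →
      ∃ J : Ideal A, InT T J ∧ ∀ a ∈ J, ∀ m ∈ N', a • m = 0 := by
    intro N' hN'
    refine Submodule.fg_induction
      (motive := fun N' _ => N' ≤ N → ∃ J : Ideal A, InT T J ∧ ∀ a ∈ J, ∀ m ∈ N', a • m = 0)
      ?_ ?_ N' hN'
    · intro x hx
      obtain ⟨J, hJ, h⟩ := hx (Submodule.mem_span_singleton_self x)
      refine ⟨J, hJ, fun a ha m hm => ?_⟩
      obtain ⟨c, rfl⟩ := Submodule.mem_span_singleton.1 hm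
      rw [smul_comm, h a ha, smul_zero]
    · intro N₁ N₂ _ _ h₁ h₂ h
      obtain ⟨J₁, hJ₁, k₁⟩ := h₁ (le_trans le_sup_left h)
      obtain ⟨J₂, hJ₂, k₂⟩ := h₂ (le_trans le_sup_right h)
      refine ⟨J₁ ⊓ J₂, inT_inf hJ₁ hJ₂, fun a ha m hm => ?_⟩
      obtain ⟨m₁, hm₁, m₂, hm₂, rfl⟩ := Submodule.mem_sup.1 hm
      rw [smul_add, k₁ a ha.1 m₁ hm₁, k₂ a ha.2 m₂ hm₂, add_zero]
  obtain ⟨J, hJ, hk⟩ := key N hN le_rfl
  exact ⟨J, hJ, fun m hm a ha => hk a ha m hm⟩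

variable [IsNoetherianRing A]

section Core

variable (ω : Dual.D A) (ν : PrimeSpectrum A → ℤ) (T T' : Set (PrimeSpectrum A)) (s : ℤ)
  (K : Dual.D A)

/-- the intermediate condition: `Hom(K, ω[j])_p = 0` for `p ≤ q`, `p ∉ T'`, `q ∈ T`, `j ≥ ν q - s` -/
def CondC : Prop :=
  ∀ p q : PrimeSpectrum A, p ≤ q → p ∉ T' → q ∈ T → ∀ j : ℤ, ν q - s ≤ j →
    ∀ g : K ⟶ ω⟦j⟧, ∃ t : A, t ∉ p.asIdeal ∧ t • g = 0

variable {ω ν T T' s K}

theorem condC_iff (hω : Dual.IsDualizing A ω)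
    (hν : ∀ p : PrimeSpectrum A, Dual.IsNormalized (Localization.AtPrime p.asIdeal)
      ((locD ω p.asIdeal)⟦ν p⟧))
    (hb : ∃ b : ℤ, ∀ i : ℤ, b < i → Subsingleton (Dual.HD A K i))
    (hfin : ∀ i : ℤ, Module.Finite A (Dual.HD A K i)) :
    CondC ω ν T T' s K ↔
      ∀ p q : PrimeSpectrum A, p ≤ q → p ∉ T' → q ∈ T → ∀ i : ℤ, i ≤ s - (ν q - ν p) →
        ∀ y : Dual2.HDI A p.asIdeal K i, ∃ t : A, t ∉ p.asIdeal ∧ t • y = 0 := by
  constructor
  · intro hC p q hpq hp hq i hi y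
    obtain ⟨t, ht, hty⟩ := (killsAt_hom_iff_killsAt_hdi ω hω p (ν p) (hν p) K hb hfin i 1).1
      (fun g => by
        obtain ⟨t, ht, htg⟩ := hC p q hpq hp hq (ν p - i) (by omega) g
        exact ⟨t, ht, by rwa [mul_one]⟩) y
    exact ⟨t, ht, by rwa [mul_one] at hty⟩
  · intro h p q hpq hp hq j hj
    obtain ⟨i, rfl⟩ : ∃ i, j = ν p - i := ⟨ν p - j, by omega⟩
    intro g
    obtain ⟨t, ht, htg⟩ := (killsAt_hom_iff_killsAt_hdi ω hω p (ν p) (hν p) K hb hfin i 1).2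
      (fun y => by
        obtain ⟨t, ht, hty⟩ := h p q hpq hp hq i (by omega) y
        exact ⟨t, ht, by rwa [mul_one]⟩) g
    exact ⟨t, ht, by rwa [mul_one] at htg⟩

theorem condC_of_kills (hω : Dual.IsDualizing A ω)
    (hν : ∀ p : PrimeSpectrum A, Dual.IsNormalized (Localization.AtPrime p.asIdeal)
      ((locD ω p.asIdeal)⟦ν p⟧))
    (hb : ∃ b : ℤ, ∀ i : ℤ, b < i → Subsingleton (Dual.HD A K i))
    (hfin : ∀ i : ℤ, Module.Finite A (Dual.HD A K i))
    (hT : StableUnderSpecialization T)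
    (I : DRing.Cx A) [I.IsKInjective] (hI : ∀ n, Module.Injective A (I.X n)) (e : K ≅ Q.obj I)
    (J : Ideal A) (hJ : InT T' J)
    (hk : ∀ i : ℤ, i ≤ s → ∀ x ∈ J, ∀ y : Dual2.HDT A T K i, x • y = 0) :
    CondC ω ν T T' s K := by
  intro p q hpq hp hq j hj g
  have hk' : ∀ i : ℤ, i ≤ s → ∀ x ∈ J, ∀ h : ((ΓTC T).obj I).homology i, x • h = 0 := by
    intro i hi x hx h
    obtain ⟨E⟩ := homology_equiv_HDT T I K e i
    exact E.injective (by rw [map_smul, hk i hi x hx, map_zero])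
  obtain ⟨N, hN⟩ := exists_pow_kills_Γq hT I hI s J hk' q hq
  -- pick `x ∈ J^N ∖ p`
  have hJp : ¬ J ^ N ≤ p.asIdeal := by
    intro hle
    exact hp (hJ ((PrimeSpectrum.mem_zeroLocus _ _).2 (p.2.le_of_pow_le hle)))
  obtain ⟨x, hxJ, hxp⟩ := Set.not_subset.1 hJp
  obtain ⟨i, rfl⟩ : ∃ i, j = ν q - i := ⟨ν q - j, by omega⟩
  obtain ⟨E1⟩ := homology_equiv_HDI q.asIdeal I K e i
  obtain ⟨t, ht, htg⟩ := (killsAt_hom_iff_killsAt_hdi ω hω q (ν q) (hν q) K hb hfin i x).2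
    (fun y => by
      refine ⟨1, fun h1 => q.2.ne_top ((Ideal.eq_top_iff_one _).2 h1), ?_⟩
      rw [one_mul]
      apply E1.symm.injective
      rw [map_smul, map_zero]
      exact hN i (by omega) x hxJ (E1.symm y)) g
  refine ⟨t * x, fun hmem => ?_, htg⟩
  rcases p.2.mem_or_mem hmem with h | h
  · exact ht (hpq h)
  · exact hxp h

theorem exists_kills_of_condC (hω : Dual.IsDualizing A ω)
    (hν : ∀ p : PrimeSpectrum A, Dual.IsNormalized (Localization.AtPrime p.asIdeal)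
      ((locD ω p.asIdeal)⟦ν p⟧))
    (hmono : ∀ p q : PrimeSpectrum A, p < q → ν p < ν q)
    (a₀ b₀ : ℤ) (hab : ∀ q : PrimeSpectrum A, a₀ ≤ ν q ∧ ν q ≤ b₀)
    (hb : ∃ b : ℤ, ∀ i : ℤ, b < i → Subsingleton (Dual.HD A K i))
    (hfin : ∀ i : ℤ, Module.Finite A (Dual.HD A K i))
    (hT : StableUnderSpecialization T) (hT' : StableUnderSpecialization T')
    (I : DRing.Cx A) [I.IsKInjective] (hI : ∀ n, Module.Injective A (I.X n)) (a : ℤ)
    [I.IsStrictlyGE a] (e : K ≅ Q.obj I)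
    (hC : CondC ω ν T T' s K) :
    ∃ J : Ideal A, InT T' J ∧ ∀ i : ℤ, i ≤ s → ∀ x ∈ J, ∀ y : Dual2.HDT A T K i, x • y = 0 := by
  classical
  haveI hEfin : ∀ j : ℤ, Module.Finite A (K ⟶ ω⟦j⟧) := fun j =>
    hom_finite_of_finiteInjDim K ω hfin hω.finite_cohomology
      (hasFiniteInjDim_of_isDualizing ω hω) j
  choose Jj hJj hJjk using fun j : ℤ => exists_inT_kills_tors T' (K ⟶ ω⟦j⟧)
  let J₀ : Ideal A := (Finset.Icc (a₀ - s) (b₀ - a)).inf Jj
  have hJ₀T : InT T' J₀ := inT_finset_inf _ _ (fun j _ => hJj j)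
  have hJ₀ : ∀ q : PrimeSpectrum A, q ∈ T → ∀ i : ℤ, i ≤ s → ∀ x ∈ J₀,
      ∀ h : ((ΓC q.asIdeal).obj I).homology i, ∃ t : A, t ∉ q.asIdeal ∧ (t * x) • h = 0 := by
    intro q hq i hi x hx h
    by_cases hia : i < a
    · refine ⟨1, fun h1 => q.2.ne_top ((Ideal.eq_top_iff_one _).2 h1), ?_⟩
      haveI : Subsingleton (I.X i) :=
        ModuleCat.subsingleton_of_isZero (I.isZero_of_isStrictlyGE a i hia)
      haveI : Subsingleton (((ΓC q.asIdeal).obj I).X i) :=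
        ⟨fun x y => Subtype.ext (Subsingleton.elim _ _)⟩
      rw [homology_eq_zero_of_subsingleton _ i h, smul_zero]
    · rw [not_lt] at hia
      obtain ⟨E1⟩ := homology_equiv_HDI q.asIdeal I K e i
      have hx' : x ∈ Jj (ν q - i) :=
        SetLike.le_def.1 (Finset.inf_le
          (Finset.mem_Icc.2 ⟨by have := hab q; omega, by have := hab q; omega⟩)) hx
      obtain ⟨t, ht, hty⟩ :=
        (killsAt_hom_iff_killsAt_hdi ω hω q (ν q) (hν q) K hb hfin i x).1 (fun g => by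
          let 𝔟 : Ideal A := LinearMap.ker (LinearMap.toSpanSingleton A _ g)
          have h𝔟 : ∀ c : A, c ∈ 𝔟 ↔ c • g = 0 := fun c => by
            rw [LinearMap.mem_ker, LinearMap.toSpanSingleton_apply]
          obtain ⟨t, 𝔠, ht, h𝔠, htc⟩ := exists_mul_le_of_forall_mem hT' q 𝔟 (fun p hp hpq => by
            by_contra hpT'
            obtain ⟨t, htp, htg⟩ := hC p q hpq hpT' hq (ν q - i) (by omega) g
            exact htp (hp ((h𝔟 t).2 htg)))
          refine ⟨t, ht, ?_⟩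
          have hkill : ∀ c ∈ 𝔠, c • (t • g) = 0 := fun c hc => by
            rw [smul_smul, mul_comm]
            exact (h𝔟 _).1 (htc c hc)
          rw [mul_comm, mul_smul]
          exact hJjk (ν q - i) (t • g) ⟨𝔠, h𝔠, hkill⟩ x hx') (E1 h)
      exact ⟨t, ht, E1.injective (by rw [map_smul, hty, map_zero])⟩
  have hmain := kills_homology_ΓT_of_local hT hmono b₀ (fun q => (hab q).2) I hI s J₀ hJ₀
    (b₀ + 1 - a₀).toNat
  have hTm : Tm T ν (b₀ + 1 - ((b₀ + 1 - a₀).toNat : ℤ)) = T := by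
    ext q
    show (q ∈ T ∧ _ ≤ ν q) ↔ q ∈ T
    rw [and_iff_left_iff_imp]
    intro _
    have := (hab q).1
    omega
  rw [hTm] at hmain
  refine ⟨J₀ ^ (b₀ + 1 - a₀).toNat, inT_pow hJ₀T _, fun i hi x hx y => ?_⟩
  obtain ⟨E⟩ := homology_equiv_HDT T I K e i
  apply E.symm.injective
  rw [map_smul, map_zero]
  exact hmain i hi x hx (E.symm y)

end Core

end Groth.Agent.Lib.FaltT
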