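import Mathlib
import Groth.Agent.Lib.FT19_helper6

/-!
# Faltings' annihilator theorem for complexes: S1791 (helper6)
-/

set_option autoImplicit false
set_option linter.style.haveILetI false
set_option linter.unusedSectionVars false
set_option linter.unusedVariables false
universe u
open CategoryTheory CategoryTheory.Limits DerivedCategory Pretriangulated
open scoped TensorProduct

attribute [local instance] HasDerivedCategory.standard

namespace Groth.Agent.Lib.FaltT

open Groth.Agent.Lib.DMod_helper6 DRing Groth.Agent.ExtendScalarsLib Groth.Agent.Lib.FlatHom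
  Groth.Agent.Lib.DerivedTrunc_helper2 Groth.Agent.Lib.HDIColim Groth.Agent.Lib.RGamma

variable {A : Type u} [CommRing A] [IsNoetherianRing A]

theorem S1791_main (hA : ∃ ω : Dual.D A, Dual.IsDualizing A ω)
    (T T' : Set (PrimeSpectrum A)) (hT : StableUnderSpecialization T)
    (hT' : StableUnderSpecialization T') (s : ℤ) (K : Dual.D A) (a : ℤ)
    (hKa : ∀ i : ℤ, i < a → Subsingleton (Dual.HD A K i))
    (hK : ∀ i : ℤ, Module.Finite A (Dual.HD A K i))
    [∀ p : PrimeSpectrum A, DRing.HasLBaseChange (algebraMap A (Localization.AtPrime p.asIdeal))] :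
    (∃ J : Ideal A, PrimeSpectrum.zeroLocus (J : Set A) ⊆ T' ∧
      ∀ i : ℤ, i ≤ s → ∀ x ∈ J, ∀ y : Dual2.HDT A T K i, x • y = 0) ↔
    (∀ (p q : PrimeSpectrum A) (hpq : p ≤ q), p ∉ T' → q ∈ T → ∀ h : ℕ,
      Order.height (⟨q, hpq⟩ : Set.Ici p) = h → ∀ i : ℤ, i ≤ s - h →
      Subsingleton (Dual2.HDI (Localization.AtPrime p.asIdeal)
        (IsLocalRing.maximalIdeal (Localization.AtPrime p.asIdeal))
        ((DRing.LBaseChange (algebraMap A (Localization.AtPrime p.asIdeal))).obj K) i)) := by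
  obtain ⟨ω, hω⟩ := hA
  obtain ⟨ν, hν, hmono, hcov, a₀, b₀, hab⟩ := exists_normalizing_function ω hω
  have hb' : ∃ b : ℤ, ∀ i : ℤ, b < i → Subsingleton (Dual.HD A (trLE K s) i) :=
    ⟨s, fun i hi => subsingleton_HD_trLE_of_gt K s i hi⟩
  have hfin' := finite_HD_trLE K hK s
  have hKa' := fun i hi => subsingleton_HD_trLE_of_lt K a hKa s i hi
  haveI : (trLE K s).IsGE a :=
    Groth.Agent.Lib.DMod_helper6.isGE_of_subsingleton_HD (trLE K s) a hKa'
  obtain ⟨I, hIge, hIinj, hIK, ⟨e⟩⟩ := exists_injective_model (trLE K s) a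
  have hIinj' : ∀ n, Module.Injective A (I.X n) := fun n =>
    Module.injective_module_of_injective_object A (I.X n)
  have hle : ∀ p q : PrimeSpectrum A, p ≤ q → ν p ≤ ν q := by
    intro p q hpq
    rcases eq_or_lt_of_le hpq with h | h
    · rw [h]
    · exact (hmono p q h).le
  have hL : (∃ J : Ideal A, PrimeSpectrum.zeroLocus (J : Set A) ⊆ T' ∧
      ∀ i : ℤ, i ≤ s → ∀ x ∈ J, ∀ y : Dual2.HDT A T K i, x • y = 0) ↔
      (∃ J : Ideal A, InT T' J ∧
        ∀ i : ℤ, i ≤ s → ∀ x ∈ J, ∀ y : Dual2.HDT A T (trLE K s) i, x • y = 0) := by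
    constructor
    · rintro ⟨J, hJ, hk⟩
      refine ⟨J, hJ, fun i hi x hx y => ?_⟩
      obtain ⟨E⟩ := nonempty_HDT_trLE_equiv T K s i hi
      exact E.injective (by rw [map_smul, hk i hi x hx (E y), map_zero])
    · rintro ⟨J, hJ, hk⟩
      refine ⟨J, hJ, fun i hi x hx y => ?_⟩
      obtain ⟨E⟩ := nonempty_HDT_trLE_equiv T K s i hi
      exact E.symm.injective (by rw [map_smul, hk i hi x hx (E.symm y), map_zero])
  have hR : (∀ (p q : PrimeSpectrum A) (hpq : p ≤ q), p ∉ T' → q ∈ T → ∀ h : ℕ,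
      Order.height (⟨q, hpq⟩ : Set.Ici p) = h → ∀ i : ℤ, i ≤ s - h →
      Subsingleton (Dual2.HDI (Localization.AtPrime p.asIdeal)
        (IsLocalRing.maximalIdeal (Localization.AtPrime p.asIdeal))
        ((DRing.LBaseChange (algebraMap A (Localization.AtPrime p.asIdeal))).obj K) i)) ↔
      (∀ p q : PrimeSpectrum A, p ≤ q → p ∉ T' → q ∈ T → ∀ i : ℤ, i ≤ s - (ν q - ν p) →
        ∀ y : Dual2.HDI A p.asIdeal (trLE K s) i, ∃ t : A, t ∉ p.asIdeal ∧ t • y = 0) := by
    constructor
    · intro h p q hpq hp hq i hi y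
      have hh := height_Ici_eq_sub ν hmono hcov p (ν q - ν p).toNat q hpq rfl
      have hνpq := hle p q hpq
      have h1 := h p q hpq hp hq (ν q - ν p).toNat hh i (by
        rw [Int.toNat_of_nonneg (by omega)]; exact hi)
      rw [subsingleton_HDI_LBC_iff] at h1
      obtain ⟨E⟩ := nonempty_HDI_trLE_equiv p.asIdeal K s i (by omega)
      obtain ⟨t, ht, hty⟩ := h1 (E y)
      exact ⟨t, ht, E.injective (by rw [map_smul, hty, map_zero])⟩
    · intro h p q hpq hp hq n hn i hi
      have hh := height_Ici_eq_sub ν hmono hcov p (ν q - ν p).toNat q hpq rfl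
      have hνpq := hle p q hpq
      have hn' : n = (ν q - ν p).toNat := by
        rw [hh] at hn
        exact_mod_cast hn.symm
      rw [subsingleton_HDI_LBC_iff]
      intro y
      have hn'' : (n : ℤ) = ν q - ν p := by
        rw [hn', Int.toNat_of_nonneg (by omega)]
      obtain ⟨E⟩ := nonempty_HDI_trLE_equiv p.asIdeal K s i (by omega)
      obtain ⟨t, ht, hty⟩ := h p q hpq hp hq i (by omega) (E.symm y)
      exact ⟨t, ht, E.symm.injective (by rw [map_smul, hty, map_zero])⟩
  rw [hL, hR, ← condC_iff hω hν hb' hfin']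
  constructor
  · rintro ⟨J, hJ, hk⟩
    exact condC_of_kills hω hν hb' hfin' hT I hIinj' e J hJ hk
  · intro hC
    exact exists_kills_of_condC hω hν hmono a₀ b₀ hab hb' hfin' hT hT' I hIinj' a e hC

end Groth.Agent.Lib.FaltT
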