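import Mathlib
import Groth.Prelude.Def_DualLC
import Groth.Agent.Lib.ExtCompare2_helper7
import Groth.Agent.Lib.ExtCompare_helper7

/-!
# Bridge between the `Ext` functor of `localCohomology` and morphisms in `D(A)` (helper6)

For `A`-modules `X`, `M` we construct a linear equivalence
`Φ X M n : ((Ext A (ModuleCat A) n).obj (op X)).obj M ≃ₗ[A] (X[0] ⟶ M[0]⟦n⟧)` which is natural in `X`.
-/

set_option autoImplicit false
set_option linter.style.haveILetI false
set_option linter.unusedSectionVars false
set_option linter.unusedVariables false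
universe u
open CategoryTheory CategoryTheory.Limits Opposite

attribute [local instance] HasDerivedCategory.standard

namespace Groth.Agent.Lib.FaltT

open Groth.Agent.Lib.ExtCompareH7

section Alg

variable {R : Type*} [Ring R] {Z H E : Type*} [AddCommGroup Z] [Module R Z] [AddCommGroup H]
  [Module R H] [AddCommGroup E] [Module R E]

/-- two surjections with the same kernel have isomorphic targets -/
lemma exists_linearEquiv_of_surj (φ : Z →ₗ[R] H) (ψ : Z →ₗ[R] E) (hφ : Function.Surjective φ)
    (hψ : Function.Surjective ψ) (hk : LinearMap.ker φ = LinearMap.ker ψ) :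
    ∃ e : H ≃ₗ[R] E, ∀ z, e (φ z) = ψ z := by
  refine ⟨((φ.quotKerEquivOfSurjective hφ).symm.trans (Submodule.quotEquivOfEq _ _ hk)).trans
    (ψ.quotKerEquivOfSurjective hψ), fun z => ?_⟩
  have h1 : (φ.quotKerEquivOfSurjective hφ).symm (φ z) = Submodule.Quotient.mk z := by
    rw [LinearEquiv.symm_apply_eq]
    rfl
  show (ψ.quotKerEquivOfSurjective hψ) ((Submodule.quotEquivOfEq _ _ hk)
    ((φ.quotKerEquivOfSurjective hφ).symm (φ z))) = ψ z
  rw [h1]
  rfl

end Alg

variable {A : Type u} [CommRing A]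

section ExtMk

variable {X : ModuleCat.{u} A} (P : ProjectiveResolution X)

open CochainComplex HomComplex

/-- in degree `0`, `extMk f = 0` iff `f = 0` -/
lemma extMk_zero_eq_zero_iff {M : ModuleCat.{u} A} (f : P.complex.X 0 ⟶ M) (hf : P.complex.d 1 0 ≫ f = 0) :
    P.extMk f 1 rfl hf = 0 ↔ f = 0 := by
  constructor
  · intro h
    have h1 := congrArg P.extEquivCohomologyClass h
    rw [ProjectiveResolution.extEquivCohomologyClass_extMk,
      ProjectiveResolution.extEquivCohomologyClass_zero, CohomologyClass.mk_eq_zero_iff,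
      Cocycle.toSingleMk_mem_coboundaries_iff _ _ _ _ _ 1 (by simp)] at h1
    obtain ⟨g, hg⟩ := h1
    have hz : IsZero (P.cochainComplex.X 1) := P.cochainComplex.isZero_of_isStrictlyLE 0 1 (by omega)
    have hg0 : g = 0 := hz.eq_of_src _ _
    rw [hg0, comp_zero] at hg
    rw [← cancel_epi (P.cochainComplexXIso (-(0 : ℕ)) 0 rfl).hom, comp_zero]
    exact hg.symm
  · rintro rfl
    exact P.extMk_zero 1 rfl

variable (M : ModuleCat.{u} A)

/-- the Hom complex of the resolution -/
noncomputable abbrev HC : CochainComplex (ModuleCat.{u} A) ℕ := P.complex.linearYonedaObj A M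

lemma d_iCycles (n : ℕ) (z : (HC P M).cycles n) :
    P.complex.d (n + 1) n ≫ ((HC P M).iCycles n).hom z = 0 := by
  have h1 := congrArg (fun φ => φ.hom z) ((HC P M).iCycles_d n (n + 1))
  exact h1

/-- the class in `Ext` of a cycle of the Hom complex -/
noncomputable def cycToExt (n : ℕ) : (HC P M).cycles n →ₗ[A] Abelian.Ext.{u} X M n where
  toFun z := P.extMk (((HC P M).iCycles n).hom z) (n + 1) rfl (d_iCycles P M n z)
  map_add' z z' := by
    rw [P.add_extMk]
    congr 1
    exact map_add ((HC P M).iCycles n).hom z z'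
  map_smul' a z := by
    rw [RingHom.id_apply, Abelian.Ext.smul_eq_comp_mk₀, P.extMk_comp_mk₀]
    congr 1
    rw [Linear.comp_smul, Category.comp_id]
    exact map_smul ((HC P M).iCycles n).hom a z

lemma cycToExt_apply (n : ℕ) (z : (HC P M).cycles n) :
    cycToExt P M n z = P.extMk (((HC P M).iCycles n).hom z) (n + 1) rfl (d_iCycles P M n z) := rfl

lemma cycToExt_surjective (n : ℕ) : Function.Surjective (cycToExt P M n) := by
  intro x
  obtain ⟨f, hf, rfl⟩ := P.extMk_surjective x (n + 1) rfl
  obtain ⟨z, hz⟩ := exists_cycle (HC P M) n f hf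
  refine ⟨z, ?_⟩
  rw [cycToExt_apply]
  congr 1

lemma ker_homologyπ_eq (n : ℕ) :
    LinearMap.ker ((HC P M).homologyπ n).hom = LinearMap.ker (cycToExt P M n) := by
  ext z
  rw [LinearMap.mem_ker, LinearMap.mem_ker, cycToExt_apply]
  cases n with
  | zero =>
    rw [extMk_zero_eq_zero_iff, π_eq_zero_iff (HC P M) 0 0 (by simp)]
    constructor
    · rintro ⟨g, hg⟩
      rw [← hg, HomologicalComplex.shape _ _ _ (by simp)]
      rfl
    · intro h
      exact ⟨0, by rw [map_zero, h]; rfl⟩
  | succ p =>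
    rw [P.extMk_eq_zero_iff _ (p + 2) rfl _ p rfl, π_eq_zero_iff (HC P M) p (p + 1) (by simp)]
    rfl

/-- `H^n(Hom(P, M)) ≃ Ext^n(X, M)` -/
noncomputable def homologyEquivExt (n : ℕ) : (HC P M).homology n ≃ₗ[A] Abelian.Ext.{u} X M n :=
  (exists_linearEquiv_of_surj ((HC P M).homologyπ n).hom (cycToExt P M n)
    (π_surjective (HC P M) n) (cycToExt_surjective P M n) (ker_homologyπ_eq P M n)).choose

lemma homologyEquivExt_π (n : ℕ) (z : (HC P M).cycles n) :
    homologyEquivExt P M n (((HC P M).homologyπ n).hom z) = cycToExt P M n z :=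
  (exists_linearEquiv_of_surj ((HC P M).homologyπ n).hom (cycToExt P M n)
    (π_surjective (HC P M) n) (cycToExt_surjective P M n) (ker_homologyπ_eq P M n)).choose_spec z

end ExtMk

section Phi

variable (X M : ModuleCat.{u} A) (n : ℕ)

/-- the old `Ext` module -/
noncomputable abbrev oldExt : ModuleCat.{u} A := ((Ext A (ModuleCat.{u} A) n).obj (op X)).obj M

/-- the comparison between the old `Ext` and morphisms in the derived category -/
noncomputable def Φ : oldExt X M n ≃ₗ[A]
    ((DerivedCategory.singleFunctor (ModuleCat.{u} A) 0).obj X ⟶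
      ((DerivedCategory.singleFunctor (ModuleCat.{u} A) 0).obj M)⟦(n : ℤ)⟧) :=
  (((ProjectiveResolution.of X).isoExt n M).toLinearEquiv.trans
    (homologyEquivExt (ProjectiveResolution.of X) M n)).trans Abelian.Ext.homLinearEquiv

variable {X M}

lemma Φ_naturality {X' : ModuleCat.{u} A} (q : X' ⟶ X) (ξ : oldExt X M n) :
    Φ X' M n ((((Ext A (ModuleCat.{u} A) n).map q.op).app M).hom ξ) =
      (DerivedCategory.singleFunctor (ModuleCat.{u} A) 0).map q ≫ Φ X M n ξ := by
  let P := ProjectiveResolution.of X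
  let P' := ProjectiveResolution.of X'
  let φ : P'.complex ⟶ P.complex := ProjectiveResolution.lift q P' P
  have comm : φ.f 0 ≫ P.π.f 0 = P'.π.f 0 ≫ ((ChainComplex.single₀ _).map q).f 0 := by
    have := ProjectiveResolution.lift_commutes q P' P
    exact congrArg (fun α => α.f 0) this
  have comm' : φ.f 0 ≫ P.π.f 0 = P'.π.f 0 ≫ q := by
    rw [comm]
    congr 1
  let φh : ProjectiveResolution.Hom P' P q := ⟨φ, comm⟩
  have ha := isoExt_naturality_X q P' P φ comm' n M
  obtain ⟨z, hz⟩ := π_surjective (HC P M) n ((P.isoExt n M).hom.hom ξ)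
  have h1 : (P'.isoExt n M).hom.hom ((((Ext A (ModuleCat.{u} A) n).map q.op).app M).hom ξ) =
      ((HC P' M).homologyπ n).hom ((HomologicalComplex.cyclesMap (pre φ M) n).hom z) := by
    have h2 := congrArg (fun α => α.hom ξ) ha
    refine h2.trans ?_
    show (HomologicalComplex.homologyMap (pre φ M) n).hom ((P.isoExt n M).hom.hom ξ) = _
    rw [← hz, homologyMap_π]
  have h3 : homologyEquivExt P' M n ((P'.isoExt n M).hom.hom
      ((((Ext A (ModuleCat.{u} A) n).map q.op).app M).hom ξ)) =
      (Abelian.Ext.mk₀ q).comp (homologyEquivExt P M n ((P.isoExt n M).hom.hom ξ)) (zero_add n) := by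
    rw [h1, homologyEquivExt_π, ← hz, homologyEquivExt_π, cycToExt_apply, cycToExt_apply,
      ProjectiveResolution.mk₀_comp_extMk _ _ _ _ φh]
    congr 1
    rw [cyclesMap_i, pre_apply]
  show Abelian.Ext.homLinearEquiv (R := A) (homologyEquivExt P' M n ((P'.isoExt n M).hom.hom
      ((((Ext A (ModuleCat.{u} A) n).map q.op).app M).hom ξ))) =
    (DerivedCategory.singleFunctor (ModuleCat.{u} A) 0).map q ≫
      Abelian.Ext.homLinearEquiv (R := A) (homologyEquivExt P M n ((P.isoExt n M).hom.hom ξ))
  rw [h3]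
  show ((Abelian.Ext.mk₀ q).comp _ (zero_add n)).hom = _ ≫ (Abelian.Ext.hom _)
  rw [Abelian.Ext.comp_hom, Abelian.Ext.mk₀_hom, ShiftedHom.mk₀_comp]

end Phi

end Groth.Agent.Lib.FaltT
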