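import Mathlib
import Groth.Agent.Lib.FT6_helper6
import Groth.Agent.Lib.FT3_helper6

/-!
# `H^i_T(M)` (colimit of the old `Ext`) is `colim Hom_{D(A)}(A/J, M[i])` (helper6)
-/

set_option autoImplicit false
set_option linter.style.haveILetI false
set_option linter.unusedSectionVars false
set_option linter.unusedVariables false
universe u
open CategoryTheory CategoryTheory.Limits Opposite

attribute [local instance] HasDerivedCategory.standard

namespace Groth.Agent.Lib.FaltT

variable {A : Type u} [CommRing A] (T : Set (PrimeSpectrum A)) (i : ℕ) (M : ModuleCat.{u} A)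

/-- the diagram defining `H^i_T` -/
noncomputable abbrev FO : (Dual2.IdealsIn T)ᵒᵖ ⥤ ModuleCat.{u} A ⥤ ModuleCat.{u} A :=
  localCohomology.diagram (Dual2.idealsInDiagram T) i

/-- `A/J` -/
noncomputable abbrev Xk (k : (Dual2.IdealsIn T)ᵒᵖ) : ModuleCat.{u} A :=
  (localCohomology.ringModIdeals (Dual2.idealsInDiagram T)).obj (unop k)

/-- the transition map of quotients -/
noncomputable abbrev qw {k k' : (Dual2.IdealsIn T)ᵒᵖ} (w : k ⟶ k') : Xk T k' ⟶ Xk T k :=
  (localCohomology.ringModIdeals (Dual2.idealsInDiagram T)).map w.unop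

lemma exists_rep_HT (m : ((colimit (FO T i)).obj M : ModuleCat.{u} A)) :
    ∃ (k : (Dual2.IdealsIn T)ᵒᵖ) (y : (((FO T i).obj k).obj M : ModuleCat.{u} A)),
      ((colimit.ι (FO T i) k).app M).hom y = m := by
  have hc := isColimitOfPreserves ((evaluation _ _).obj M) (colimit.isColimit (FO T i))
  haveI : PreservesColimitsOfShape (Dual2.IdealsIn T)ᵒᵖ (forget (ModuleCat.{u} A)) :=
    PreservesFilteredColimitsOfSize.preserves_filtered_colimits _
  obtain ⟨k, y, hy⟩ := Concrete.isColimit_exists_rep _ hc m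
  exact ⟨k, y, hy⟩

lemma exists_map_eq_zero_HT (k : (Dual2.IdealsIn T)ᵒᵖ)
    (ξ : (((FO T i).obj k).obj M : ModuleCat.{u} A))
    (h : ((colimit.ι (FO T i) k).app M).hom ξ = 0) :
    ∃ (k' : (Dual2.IdealsIn T)ᵒᵖ) (w : k ⟶ k'), (((FO T i).map w).app M).hom ξ = 0 := by
  have hc := isColimitOfPreserves ((evaluation _ _).obj M) (colimit.isColimit (FO T i))
  haveI : PreservesColimitsOfShape (Dual2.IdealsIn T)ᵒᵖ (forget (ModuleCat.{u} A)) :=
    PreservesFilteredColimitsOfSize.preserves_filtered_colimits _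
  have h1 : ((colimit.ι (FO T i) k).app M).hom ξ = ((colimit.ι (FO T i) k).app M).hom 0 := by
    rw [map_zero]; exact h
  obtain ⟨k', f, g, hfg⟩ := Concrete.isColimit_exists_of_rep_eq _ hc ξ 0 h1
  have h2 : (((FO T i).map f).app M).hom ξ = (((FO T i).map g).app M).hom 0 := hfg
  rw [map_zero] at h2
  exact ⟨k', f, h2⟩

/-- the diagram defining `H^i_T` in the derived category -/
noncomputable abbrev GD : (Dual2.IdealsIn T)ᵒᵖ ⥤ ModuleCat.{u+1} A :=
  (localCohomology.ringModIdeals (Dual2.idealsInDiagram T) ⋙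
    DerivedCategory.singleFunctor (ModuleCat.{u} A) 0).op ⋙
      (linearYoneda A (Dual.D A)).obj
        (((DerivedCategory.singleFunctor (ModuleCat.{u} A) 0).obj M)⟦(i : ℤ)⟧)

/-- the comparison at stage `k` -/
noncomputable def Φk (k : (Dual2.IdealsIn T)ᵒᵖ) :
    (((FO T i).obj k).obj M : ModuleCat.{u} A) ≃ₗ[A] ((GD T i M).obj k : ModuleCat.{u+1} A) :=
  Φ (Xk T k) M i

lemma Φk_naturality {k k' : (Dual2.IdealsIn T)ᵒᵖ} (w : k ⟶ k')
    (ξ : (((FO T i).obj k).obj M : ModuleCat.{u} A)) :
    Φk T i M k' ((((FO T i).map w).app M).hom ξ) = ((GD T i M).map w).hom (Φk T i M k ξ) :=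
  Φ_naturality i (qw T w) ξ

theorem nonempty_HT_equiv_HDT' :
    Nonempty (((colimit (FO T i)).obj M : ModuleCat.{u} A) ≃ₗ[A]
      (colimit (GD T i M) : ModuleCat.{u+1} A)) := by
  let HT := ((colimit (FO T i)).obj M : ModuleCat.{u} A)
  let c : Cocone (GD T i M) :=
    { pt := ModuleCat.of A (ULift.{u+1} HT)
      ι :=
        { app := fun k => ModuleCat.ofHom
            ((ULift.moduleEquiv (R := A) (M := HT)).symm.toLinearMap ∘ₗ
              ((colimit.ι (FO T i) k).app M).hom ∘ₗ (Φk T i M k).symm.toLinearMap)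
          naturality := by
            intro k k' w
            apply ModuleCat.hom_ext
            refine LinearMap.ext fun t => ?_
            show ULift.up (((colimit.ι (FO T i) k').app M).hom
              ((Φk T i M k').symm (((GD T i M).map w).hom t))) =
              ULift.up (((colimit.ι (FO T i) k).app M).hom ((Φk T i M k).symm t))
            congr 1
            have h1 : (Φk T i M k').symm (((GD T i M).map w).hom t) =
                (((FO T i).map w).app M).hom ((Φk T i M k).symm t) := by
              rw [LinearEquiv.symm_apply_eq, Φk_naturality, LinearEquiv.apply_symm_apply]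
            rw [h1]
            have hw := congrArg (fun α => (α.app M).hom ((Φk T i M k).symm t))
              (colimit.w (FO T i) w)
            exact hw } }
  let d : colimit (GD T i M) ⟶ c.pt := colimit.desc (GD T i M) c
  have hd : ∀ (k : (Dual2.IdealsIn T)ᵒᵖ) (t : (GD T i M).obj k),
      d.hom ((colimit.ι (GD T i M) k).hom t) =
        ULift.up (((colimit.ι (FO T i) k).app M).hom ((Φk T i M k).symm t)) := by
    intro k t
    have h1 : colimit.ι (GD T i M) k ≫ d = c.ι.app k := colimit.ι_desc c k
    exact LinearMap.congr_fun (congrArg ModuleCat.Hom.hom h1) t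
  have hinj : Function.Injective d.hom := by
    rw [injective_iff_map_eq_zero]
    intro y hy
    obtain ⟨k, t, rfl⟩ := exists_rep_idealsIn T (GD T i M) y
    rw [hd] at hy
    have h1 : ((colimit.ι (FO T i) k).app M).hom ((Φk T i M k).symm t) = 0 :=
      congrArg ULift.down hy
    obtain ⟨k', w, h2⟩ := exists_map_eq_zero_HT T i M k _ h1
    have h3 : ((GD T i M).map w).hom t = 0 := by
      have := Φk_naturality T i M w ((Φk T i M k).symm t)
      rw [h2, map_zero, LinearEquiv.apply_symm_apply] at this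
      exact this.symm
    have h4 : colimit.ι (GD T i M) k = (GD T i M).map w ≫ colimit.ι (GD T i M) k' :=
      (colimit.w (GD T i M) w).symm
    rw [h4]
    show (colimit.ι (GD T i M) k').hom (((GD T i M).map w).hom t) = 0
    rw [h3, map_zero]
  have hsurj : Function.Surjective d.hom := by
    intro y
    obtain ⟨k, ξ, hξ⟩ := exists_rep_HT T i M y.down
    refine ⟨(colimit.ι (GD T i M) k).hom (Φk T i M k ξ), ?_⟩
    rw [hd, LinearEquiv.symm_apply_apply, hξ]
  exact ⟨((LinearEquiv.ofBijective d.hom ⟨hinj, hsurj⟩).trans ULift.moduleEquiv).symm⟩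

/-- **the bridge**: `H^i_T(M)` defined through the `Ext` functors is `H^i_T(M[0])` defined in the derived
category -/
theorem nonempty_HT_equiv_HDT (M : Type u) [AddCommGroup M] [Module A M] :
    Nonempty (Dual2.HT T i M ≃ₗ[A] Dual2.HDT A T (Dual.inD A M) (i : ℤ)) :=
  nonempty_HT_equiv_HDT' T i (ModuleCat.of A M)

end Groth.Agent.Lib.FaltT
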