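import Mathlib
import Groth.Agent.Lib.FT5_helper6
import Groth.Agent.Lib.FT7_helper6
import Groth.Agent.Lib.DMod86_helper6

/-!
# Finiteness of `H^i_T(M)` ⇔ annihilation by an ideal, for modules (S1751) (helper6)
-/

set_option autoImplicit false
set_option linter.style.haveILetI false
set_option linter.unusedSectionVars false
set_option linter.unusedVariables false
universe u
open CategoryTheory CategoryTheory.Limits Opposite

attribute [local instance] HasDerivedCategory.standard

namespace Groth.Agent.Lib.FaltT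

open Groth.Agent.Lib.DMod_helper6

variable {A : Type u} [CommRing A] [IsNoetherianRing A] {T : Set (PrimeSpectrum A)}

lemma subsingleton_HD_inD_of_neg (M : Type u) [AddCommGroup M] [Module A M] (i : ℤ) (hi : i < 0) :
    Subsingleton (Dual.HD A (Dual.inD A M) i) :=
  ModuleCat.subsingleton_of_isZero (isZero_HD_inD _ i (by omega))

/-- `H^i_T(K) = 0` below the lowest cohomology degree of `K` -/
lemma subsingleton_HDT_of_lt (K : Dual.D A) (a : ℤ)
    (hKa : ∀ i : ℤ, i < a → Subsingleton (Dual.HD A K i)) (i : ℤ) (hi : i < a) :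
    Subsingleton (Dual2.HDT A T K i) := by
  haveI : K.IsGE a := Groth.Agent.Lib.DMod_helper6.isGE_of_subsingleton_HD K a hKa
  obtain ⟨I, hI, hinj, hKI, ⟨e⟩⟩ := exists_injective_model K a
  haveI := isStrictlyGE_ΓTC T I a
  obtain ⟨E⟩ := homology_equiv_HDT T I K e i
  haveI : Subsingleton (((ΓTC T).obj I).homology i) :=
    ModuleCat.subsingleton_of_isZero
      ((((ΓTC T).obj I).exactAt_of_isGE a i hi).isZero_homology)
  exact E.symm.toEquiv.subsingleton

theorem S1751_main (M : Type u) [AddCommGroup M] [Module A M] [Module.Finite A M] (n : ℕ) :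
    (∀ i : ℕ, i ≤ n → Module.Finite A (Dual2.HT T i M)) ↔
      ∃ J : Ideal A, PrimeSpectrum.zeroLocus (J : Set A) ⊆ T ∧
        ∀ i : ℕ, i ≤ n → ∀ a ∈ J, ∀ x : Dual2.HT T i M, a • x = 0 := by
  have hE : ∀ i : ℕ, Nonempty (Dual2.HT T i M ≃ₗ[A] Dual2.HDT A T (Dual.inD A M) (i : ℤ)) :=
    fun i => nonempty_HT_equiv_HDT T i M
  have hneg : ∀ i : ℤ, i < 0 → Subsingleton (Dual2.HDT A T (Dual.inD A M) i) :=
    fun i hi => subsingleton_HDT_of_lt (Dual.inD A M) 0 (subsingleton_HD_inD_of_neg M) i hi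
  have key := S1764_main (T := T) (Dual.inD A M) 0 (subsingleton_HD_inD_of_neg M)
    (finite_HD_inD M) (n : ℤ)
  constructor
  · intro hfin
    have h1 : ∀ i : ℤ, i ≤ n → Module.Finite A (Dual2.HDT A T (Dual.inD A M) i) := by
      intro i hi
      by_cases hi0 : i < 0
      · haveI := hneg i hi0
        exact Module.Finite.of_finite
      · obtain ⟨k, rfl⟩ : ∃ k : ℕ, i = (k : ℤ) := ⟨i.toNat, (Int.toNat_of_nonneg (by omega)).symm⟩
        obtain ⟨E⟩ := hE k
        haveI := hfin k (by exact_mod_cast hi)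
        exact Module.Finite.equiv E
    obtain ⟨J, hJ, hk⟩ := key.1 h1
    refine ⟨J, hJ, fun i hi a ha x => ?_⟩
    obtain ⟨E⟩ := hE i
    apply E.injective
    rw [map_smul, map_zero]
    exact hk (i : ℤ) (by exact_mod_cast hi) a ha _
  · rintro ⟨J, hJ, hk⟩ i hi
    have h1 : ∀ j : ℤ, j ≤ n → ∀ x : A, x ∈ J → ∀ y : Dual2.HDT A T (Dual.inD A M) j,
        x • y = 0 := by
      intro j hj x hx y
      by_cases hj0 : j < 0
      · haveI := hneg j hj0
        exact Subsingleton.elim _ _
      · obtain ⟨k, rfl⟩ : ∃ k : ℕ, j = (k : ℤ) := ⟨j.toNat, (Int.toNat_of_nonneg (by omega)).symm⟩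
        obtain ⟨E⟩ := hE k
        obtain ⟨y', rfl⟩ := E.surjective y
        rw [← map_smul, hk k (by exact_mod_cast hj) x hx y', map_zero]
    have h2 := key.2 ⟨J, hJ, h1⟩ (i : ℤ) (by exact_mod_cast hi)
    obtain ⟨E⟩ := hE i
    exact Module.Finite.equiv E.symm

end Groth.Agent.Lib.FaltT
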