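import Mathlib
import Groth.Prelude
import Groth.Agent.Lib.LocCohFin_helper7
import Groth.Agent.Lib.InjHull_helper3

/-!
# The finiteness dimension relative to an ideal is unchanged by killing torsion (helper7)
-/

open CategoryTheory CategoryTheory.Limits Opposite

namespace Groth.Agent.Lib.LocCohFinDimH7

open Groth.Agent.Lib.LocCohLESH7 Groth.Agent.Lib.LocCohFunctH7 Groth.Agent.Lib.LocCohFinH7
open Groth.Agent.Lib.InjHull_helper3

universe u

variable {R : Type u} [CommRing R]

/-- some power of `b` kills `X` -/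
def Kb (b : Ideal R) (X : Type u) [AddCommGroup X] [Module R X] : Prop :=
  ∃ k : ℕ, ∀ r ∈ b ^ k, ∀ x : X, r • x = 0

theorem kb_iff_radical (b : Ideal R) (hb : b.FG) (X : Type u) [AddCommGroup X] [Module R X] :
    Kb b X ↔ b ≤ (Module.annihilator R X).radical := by
  constructor
  · rintro ⟨k, hk⟩ x hx
    exact ⟨k, Module.mem_annihilator.2 (hk _ (Ideal.pow_mem_pow hx k))⟩
  · intro h
    obtain ⟨k, hk⟩ := Ideal.exists_pow_le_of_le_radical_of_fg h hb
    exact ⟨k, fun r hr x => Module.mem_annihilator.1 (hk hr) x⟩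

theorem kb_add (b : Ideal R) (X : Type u) [AddCommGroup X] [Module R X] (N k : ℕ)
    (h : ∀ u ∈ b ^ N, ∀ s ∈ b ^ k, ∀ x : X, (u * s) • x = 0) : Kb b X := by
  refine ⟨N + k, fun r hr x => ?_⟩
  rw [pow_add] at hr
  refine Submodule.mul_induction_on hr ?_ ?_
  · intro u hu s hs
    exact h u hu s hs x
  · intro r₁ r₂ h₁ h₂
    rw [add_smul, h₁, h₂, add_zero]

theorem kb_iff_of_killed (a b : Ideal R) (M : Type u) [AddCommGroup M] [Module R M]
    (T : Submodule R M) (N : ℕ) (hT : ∀ r ∈ b ^ N, ∀ t ∈ T, r • t = 0) (i : ℕ) :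
    Kb b (LocCoh.H a i M) ↔ Kb b (LocCoh.H a i (M ⧸ T)) := by
  -- the two maps
  have key : ∀ u ∈ b ^ N, ∃ ubar : (M ⧸ T) →ₗ[R] M,
      (∀ z : LocCoh.H a i (M ⧸ T),
        ((localCohomology a i).map (ModuleCat.ofHom T.mkQ)).hom
          (((localCohomology a i).map (ModuleCat.ofHom ubar)).hom z) = u • z) ∧
      (∀ z : LocCoh.H a i M,
        ((localCohomology a i).map (ModuleCat.ofHom ubar)).hom
          (((localCohomology a i).map (ModuleCat.ofHom T.mkQ)).hom z) = u • z) := by
    intro u hu
    let ubar : (M ⧸ T) →ₗ[R] M := T.liftQ (u • LinearMap.id) (fun t ht => by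
      rw [LinearMap.mem_ker, LinearMap.smul_apply, LinearMap.id_apply]
      exact hT u hu t ht)
    have hc1 : ModuleCat.ofHom ubar ≫ ModuleCat.ofHom T.mkQ = u • 𝟙 (ModuleCat.of R (M ⧸ T)) := by
      apply ModuleCat.hom_ext
      apply LinearMap.ext
      intro z
      obtain ⟨m, rfl⟩ := Submodule.mkQ_surjective T z
      show T.mkQ (u • m) = u • T.mkQ m
      rw [map_smul]
    have hc2 : ModuleCat.ofHom T.mkQ ≫ ModuleCat.ofHom ubar = u • 𝟙 (ModuleCat.of R M) := by
      apply ModuleCat.hom_ext
      apply LinearMap.ext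
      intro m
      rfl
    have hH1 : (localCohomology a i).map (ModuleCat.ofHom ubar) ≫
        (localCohomology a i).map (ModuleCat.ofHom T.mkQ) =
        u • 𝟙 ((localCohomology a i).obj (ModuleCat.of R (M ⧸ T))) := by
      rw [← Functor.map_comp, hc1, H_map_smul, CategoryTheory.Functor.map_id]
    have hH2 : (localCohomology a i).map (ModuleCat.ofHom T.mkQ) ≫
        (localCohomology a i).map (ModuleCat.ofHom ubar) =
        u • 𝟙 ((localCohomology a i).obj (ModuleCat.of R M)) := by
      rw [← Functor.map_comp, hc2, H_map_smul, CategoryTheory.Functor.map_id]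
    refine ⟨ubar, fun z => ?_, fun z => ?_⟩
    · exact congrArg (fun φ : (localCohomology a i).obj (ModuleCat.of R (M ⧸ T)) ⟶
        (localCohomology a i).obj (ModuleCat.of R (M ⧸ T)) => φ.hom z) hH1
    · exact congrArg (fun φ : (localCohomology a i).obj (ModuleCat.of R M) ⟶
        (localCohomology a i).obj (ModuleCat.of R M) => φ.hom z) hH2
  constructor
  · rintro ⟨k, hk⟩
    apply kb_add b _ N k
    intro u hu s hs z
    obtain ⟨ubar, h1, -⟩ := key u hu
    rw [mul_comm, mul_smul, ← h1 z, ← map_smul,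
      hk s hs (((localCohomology a i).map (ModuleCat.ofHom ubar)).hom z), map_zero]
  · rintro ⟨k, hk⟩
    apply kb_add b _ N k
    intro u hu s hs z
    obtain ⟨ubar, -, h2⟩ := key u hu
    rw [mul_comm, mul_smul, ← h2 z, ← map_smul,
      hk s hs (((localCohomology a i).map (ModuleCat.ofHom T.mkQ)).hom z), map_zero]

theorem finDimRel_congr (a b : Ideal R) (M M' : Type u) [AddCommGroup M] [Module R M]
    [AddCommGroup M'] [Module R M']
    (h : ∀ i : ℕ, (b ≤ (Module.annihilator R (LocCoh.H a i M)).radical ↔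
      b ≤ (Module.annihilator R (LocCoh.H a i M')).radical)) :
    LocCoh.finDimRel a b M = LocCoh.finDimRel a b M' := by
  unfold LocCoh.finDimRel
  exact iInf_congr fun i => iInf_congr_Prop (not_congr (h i)) (fun _ => rfl)

theorem iSup_torsionBy_eq [IsNoetherianRing R] (c : Ideal R) (M : Type u) [AddCommGroup M]
    [Module R M] : (⨆ n : ℕ, LocCoh.torsionBy (c ^ n) M) = DRing.torsionSub c M := by
  ext x
  exact mem_Γ_iff c x

/-- S11644 -/
theorem main [IsNoetherianRing R] (a b c : Ideal R) (M : Type u) [AddCommGroup M] [Module R M]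
    [Module.Finite R M] :
    (b ≤ c → LocCoh.finDimRel a b M =
      LocCoh.finDimRel a b (M ⧸ (⨆ n : ℕ, LocCoh.torsionBy (c ^ n) M))) ∧
    (0 < LocCoh.finDimRel a b M → LocCoh.finDimRel a b M =
      LocCoh.finDimRel a b (M ⧸ (⨆ n : ℕ, LocCoh.torsionBy (a ^ n) M))) := by
  have hbfg : b.FG := IsNoetherian.noetherian b
  constructor
  · intro hbc
    rw [iSup_torsionBy_eq c M]
    apply finDimRel_congr
    intro i
    rw [← kb_iff_radical b hbfg, ← kb_iff_radical b hbfg]
    have hXt : LocCoh.IsPowerTorsion c ↥(DRing.torsionSub c M) := by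
      intro m
      obtain ⟨k, hk⟩ := m.2
      exact ⟨k, fun r hr => Subtype.ext (hk r hr)⟩
    obtain ⟨N, hN⟩ := finite_torsion_killed c ↥(DRing.torsionSub c M) hXt
    exact kb_iff_of_killed a b M (DRing.torsionSub c M) N
      (fun r hr t ht => congrArg Subtype.val (hN r (Ideal.pow_right_mono hbc N hr) ⟨t, ht⟩)) i
  · intro hpos
    rw [iSup_torsionBy_eq a M]
    apply finDimRel_congr
    intro i
    rcases i with _ | q
    · have h0 : b ≤ (Module.annihilator R (LocCoh.H a 0 M)).radical := by
        by_contra hcon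
        have h1 : LocCoh.finDimRel a b M ≤ ((0 : ℕ) : ℕ∞) := by
          unfold LocCoh.finDimRel
          exact iInf_le_of_le 0 (iInf_le _ hcon)
        have h2 : LocCoh.finDimRel a b M = 0 := le_antisymm (by simpa using h1) zero_le
        rw [h2] at hpos
        exact lt_irrefl _ hpos
      have hsub : Subsingleton (LocCoh.H a 0 (M ⧸ DRing.torsionSub a M)) := by
        obtain ⟨Ψ, hΨ⟩ := H0_injective a (M ⧸ DRing.torsionSub a M)
        have key : ∀ z : LocCoh.H a 0 (M ⧸ DRing.torsionSub a M), z = 0 := by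
          intro z
          obtain ⟨n, hn⟩ := Groth.Agent.Lib.LocCohTorsH7.main R a 0 (M ⧸ DRing.torsionSub a M) z
          have h1 : Ψ z ∈ DRing.torsionSub a (M ⧸ DRing.torsionSub a M) :=
            ⟨n, fun r hr => by rw [← map_smul, hn r hr, map_zero]⟩
          rw [torsionSub_quot_eq_bot a M, Submodule.mem_bot] at h1
          exact hΨ (h1.trans (map_zero Ψ).symm)
        exact ⟨fun x y => (key x).trans (key y).symm⟩
      have h3 : Module.annihilator R (LocCoh.H a 0 (M ⧸ DRing.torsionSub a M)) = ⊤ :=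
        Module.annihilator_eq_top_iff.2 hsub
      constructor
      · intro _
        rw [h3, Ideal.radical_top]
        exact le_top
      · intro _
        exact h0
    · have hb := map_mkQ_torsionSub_bijective a M q
      let e : LocCoh.H a (q + 1) M ≃ₗ[R] LocCoh.H a (q + 1) (M ⧸ DRing.torsionSub a M) :=
        LinearEquiv.ofBijective
          ((localCohomology a (q + 1)).map (ModuleCat.ofHom (DRing.torsionSub a M).mkQ)).hom hb
      rw [e.annihilator_eq]

end Groth.Agent.Lib.LocCohFinDimH7
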