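import Mathlib
import Groth.Prelude.Def_Wider
import Groth.Agent.Lib.LocCohFlatBC_helper7
import Groth.Agent.Lib.LocCohArt2_helper7

/-!
# Descent of top vanishing along ideals inside the Jacobson radical (helper7)
-/

open CategoryTheory CategoryTheory.Limits Opposite Pointwise TensorProduct

namespace Groth.Agent.Lib.LocCohJacH7

open Groth.Agent.Lib.LocCohLESH7 Groth.Agent.DepthLib Groth.Agent.Lib.InjHull_helper3
open Groth.Agent.Lib.LocCohCdSupH7 Groth.Agent.Lib.LocCohDeltaZeroH7 Groth.Agent.Lib.LocCohGVH7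
open Groth.Agent.Lib.LocCohAraH7 LocCoh

universe u

/-- vanishing in degrees `≥ d` on all modules -/
abbrev Van (R : Type u) [CommRing R] (K : Ideal R) (d : ℕ) : Prop :=
  ∀ (M : Type u) [AddCommGroup M] [Module R M] (i : ℕ), d ≤ i → Subsingleton (LocCoh.H K i M)

section General

variable {R : Type u} [CommRing R] [IsNoetherianRing R]

theorem exists_pow_smul_add (E' : Type u) [AddCommGroup E'] [Module R E']
    (hE : Module.Injective R E') (y : R) (n : ℕ) (e : E') :
    ∃ (t e' : E'), (∃ m : ℕ, y ^ m • t = 0) ∧ e = t + y ^ n • e' := by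
  induction n generalizing e with
  | zero => exact ⟨0, e, ⟨0, smul_zero _⟩, by rw [pow_zero, one_smul, zero_add]⟩
  | succ n ih =>
    obtain ⟨t, e₁, ⟨m, hm⟩, he⟩ := ih e
    obtain ⟨t₁, e₂, ⟨m₁, hm₁⟩, he₁⟩ :=
      Groth.Agent.Lib.LocCohInjAcycH7.exists_smul_add E' hE y e₁
    refine ⟨t + y ^ n • t₁, e₂, ⟨m + m₁, ?_⟩, ?_⟩
    · have h1 : y ^ (m + m₁) • t = 0 := by rw [pow_add, mul_comm, mul_smul, hm, smul_zero]
      have h2 : y ^ (m + m₁) • t₁ = 0 := by rw [pow_add, mul_smul, hm₁, smul_zero]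
      rw [smul_add, h1, smul_comm, h2, smul_zero, add_zero]
    · rw [he, he₁, smul_add, pow_succ, mul_smul]
      abel

theorem T (J : Ideal R) (f : R) (p : ℕ) : ∀ (M : Type u) [AddCommGroup M] [Module R M],
    Subsingleton (LocCoh.H (J ⊔ Ideal.span {f}) (p + 1) M) →
    (∀ x : LocCoh.H J (p + 1) M, ∃ n : ℕ, f ^ n • x = 0) →
    Subsingleton (LocCoh.H J (p + 1) M) := by
  induction p with
  | zero =>
    intro M _ _ hK htors
    obtain ⟨N, _, _, ι, hN, hι⟩ := exists_injective_embedding (R := R) M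
    have hg : Function.Surjective (LinearMap.range ι).mkQ := Submodule.mkQ_surjective _
    have hfg : Function.Exact ι (LinearMap.range ι).mkQ := LinearMap.exact_map_mkQ_range ι
    haveI := hN
    have hN1 : Subsingleton (LocCoh.H J 1 N) :=
      Groth.Agent.Lib.LocCohInjAcycH7.main (R := R) (R' := R) J N 1 one_pos
    let cJ := cMap J ι (LinearMap.range ι).mkQ hι hg hfg
    let cK := cMap (J ⊔ Ideal.span {f}) ι (LinearMap.range ι).mkQ hι hg hfg
    have hcJ : Function.Surjective cJ := cMap_surjective _ _ _ hι hg hfg hN1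
    have key : ∀ q : ↥(Γ J (N ⧸ LinearMap.range ι)), cJ q = 0 := by
      intro q
      obtain ⟨n, hn⟩ := htors (cJ q)
      have h1 : cJ (f ^ n • q) = 0 := by rw [map_smul]; exact hn
      obtain ⟨y₀, hy₀, hgy₀⟩ :=
        (cMap_eq_zero_iff J ι (LinearMap.range ι).mkQ hι hg hfg (f ^ n • q)).1 h1
      have hΓinj : Module.Injective R ↥(Γ J N) := injective_Γ hN J
      obtain ⟨t, y₁, ⟨m, hm⟩, hy⟩ := exists_pow_smul_add ↥(Γ J N) hΓinj f n ⟨y₀, hy₀⟩
      have hy' : y₀ = (t : N) + f ^ n • (y₁ : N) := congrArg Subtype.val hy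
      have hm' : f ^ m • (t : N) = 0 := congrArg Subtype.val hm
      set q' : N ⧸ LinearMap.range ι := q.1 - (LinearMap.range ι).mkQ (y₁ : N) with hq'
      have hq'J : q' ∈ Γ J (N ⧸ LinearMap.range ι) :=
        sub_mem q.2 (map_mem_Γ J (LinearMap.range ι).mkQ y₁.2)
      have e1 : f ^ n • q' = (LinearMap.range ι).mkQ (t : N) := by
        have ht : (t : N) = y₀ - f ^ n • (y₁ : N) := by rw [hy']; abel
        rw [ht, map_sub, map_smul, hgy₀, hq', smul_sub]
        rfl
      have hfq' : f ^ (n + m) • q' = 0 := by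
        rw [pow_add, mul_comm, mul_smul, e1, ← map_smul, hm', map_zero]
      have hq'K : q' ∈ Γ (J ⊔ Ideal.span {f}) (N ⧸ LinearMap.range ι) := by
        obtain ⟨a, ha⟩ := (mem_Γ_iff J q').1 hq'J
        rw [mem_Γ_iff]
        refine ⟨a + (n + m), fun r hr => ?_⟩
        have hr2 := Ideal.sup_pow_add_le_pow_sup_pow hr
        obtain ⟨x, hx, y, hy2, hxy⟩ := Submodule.mem_sup.1 hr2
        rw [Ideal.span_singleton_pow] at hy2
        obtain ⟨z, hz⟩ := Ideal.mem_span_singleton'.1 hy2
        rw [← hxy, ← hz, add_smul, ha x hx, mul_smul, hfq', smul_zero, add_zero]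
      have hK0 : cK ⟨q', hq'K⟩ = 0 := hK.elim _ _
      obtain ⟨y₂, hy₂, hgy₂⟩ :=
        (cMap_eq_zero_iff _ ι (LinearMap.range ι).mkQ hι hg hfg ⟨q', hq'K⟩).1 hK0
      have hy₂J : y₂ ∈ Γ J N := by
        obtain ⟨b, hb⟩ := (mem_Γ_iff _ y₂).1 hy₂
        exact (mem_Γ_iff J y₂).2
          ⟨b, fun r hr => hb r (Ideal.pow_right_mono le_sup_left b hr)⟩
      rw [cMap_eq_zero_iff]
      refine ⟨y₂ + (y₁ : N), add_mem hy₂J y₁.2, ?_⟩
      have hgy₂' : (LinearMap.range ι).mkQ y₂ = q' := hgy₂
      rw [map_add, hgy₂', hq']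
      abel
    refine ⟨fun a b => ?_⟩
    obtain ⟨qa, rfl⟩ := hcJ a
    obtain ⟨qb, rfl⟩ := hcJ b
    rw [key qa, key qb]
  | succ p ih =>
    intro M _ _ hK htors
    obtain ⟨N, _, _, ι, hN, hι⟩ := exists_injective_embedding (R := R) M
    have hg : Function.Surjective (LinearMap.range ι).mkQ := Submodule.mkQ_surjective _
    have hfg : Function.Exact ι (LinearMap.range ι).mkQ := LinearMap.exact_map_mkQ_range ι
    haveI := hN
    have hS := shortComplexOf_shortExact ι (LinearMap.range ι).mkQ hι hg hfg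
    have hbJ := δ_bijective J hS p
      (Groth.Agent.Lib.LocCohInjAcycH7.main (R := R) (R' := R) J N (p + 1) (Nat.succ_pos p))
      (Groth.Agent.Lib.LocCohInjAcycH7.main (R := R) (R' := R) J N (p + 2)
        (Nat.succ_pos (p + 1)))
    have hbK := δ_bijective (J ⊔ Ideal.span {f}) hS p
      (Groth.Agent.Lib.LocCohInjAcycH7.main (R := R) (R' := R) (J ⊔ Ideal.span {f}) N (p + 1)
        (Nat.succ_pos p))
      (Groth.Agent.Lib.LocCohInjAcycH7.main (R := R) (R' := R) (J ⊔ Ideal.span {f}) N (p + 2)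
        (Nat.succ_pos (p + 1)))
    have hK' : Subsingleton (LocCoh.H (J ⊔ Ideal.span {f}) (p + 2) M) := hK
    have hKC : Subsingleton (LocCoh.H (J ⊔ Ideal.span {f}) (p + 1) (N ⧸ LinearMap.range ι)) := by
      refine ⟨fun a b => hbK.1 ?_⟩
      exact hK'.elim _ _
    have htC : ∀ x : LocCoh.H J (p + 1) (N ⧸ LinearMap.range ι), ∃ n : ℕ, f ^ n • x = 0 := by
      intro x
      obtain ⟨n, hn⟩ := htors ((δ J hS p).hom x)
      refine ⟨n, hbJ.1 ?_⟩
      have h1 : (δ J hS p).hom (f ^ n • x) = f ^ n • (δ J hS p).hom x := map_smul _ _ _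
      exact h1.trans (hn.trans (map_zero _).symm)
    have hC := ih (N ⧸ LinearMap.range ι) hKC htC
    refine ⟨fun a b => ?_⟩
    obtain ⟨xa, rfl⟩ := hbJ.2 a
    obtain ⟨xb, rfl⟩ := hbJ.2 b
    rw [hC.elim xa xb]

theorem exists_pow_smul_eq_zero_of_artinian (H : Type u) [AddCommGroup H] [Module R H]
    [IsArtinian R H] (f : R) (hf : f ∈ (⊥ : Ideal R).jacobson) (x : H) :
    ∃ n : ℕ, f ^ n • x = 0 := by
  have e := Ideal.quotTorsionOfEquivSpanSingleton R H x
  haveI : IsArtinian R (R ⧸ Ideal.torsionOf R H x) := isArtinian_of_linearEquiv e.symm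
  haveI : IsArtinianRing (R ⧸ Ideal.torsionOf R H x) :=
    isArtinian_of_tower R (inferInstance : IsArtinian R (R ⧸ Ideal.torsionOf R H x))
  obtain ⟨n, hn⟩ := IsArtinianRing.isNilpotent_jacobson_bot (R := R ⧸ Ideal.torsionOf R H x)
  have hfbar : Ideal.Quotient.mk (Ideal.torsionOf R H x) f ∈
      (⊥ : Ideal (R ⧸ Ideal.torsionOf R H x)).jacobson := by
    rw [Ideal.mem_jacobson_bot] at hf ⊢
    intro y
    obtain ⟨y', rfl⟩ := Ideal.Quotient.mk_surjective y
    have h1 := (hf y').map (Ideal.Quotient.mk (Ideal.torsionOf R H x))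
    rwa [map_add, map_mul, map_one] at h1
  have h0 : (Ideal.Quotient.mk (Ideal.torsionOf R H x) f) ^ n ∈
      ((⊥ : Ideal (R ⧸ Ideal.torsionOf R H x)).jacobson) ^ n := Ideal.pow_mem_pow hfbar n
  rw [hn, Ideal.zero_eq_bot, Ideal.mem_bot, ← map_pow] at h0
  exact ⟨n, (Ideal.mem_torsionOf_iff x _).1 (Ideal.Quotient.eq_zero_iff_mem.1 h0)⟩

theorem van_zero_imp_top (K : Ideal R) (h : Van R K 0) : K = ⊤ := by
  obtain ⟨e⟩ := H0_equiv' K (R ⧸ K)
  haveI : Subsingleton (LocCoh.H K 0 (R ⧸ K)) := h (R ⧸ K) 0 le_rfl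
  haveI : Subsingleton ↥(Γ K (R ⧸ K)) := e.symm.toEquiv.subsingleton
  have hmem : (Ideal.Quotient.mk K 1 : R ⧸ K) ∈ Γ K (R ⧸ K) := by
    rw [mem_Γ_iff]
    refine ⟨1, fun a ha => ?_⟩
    rw [pow_one] at ha
    rw [Algebra.smul_def, Ideal.Quotient.algebraMap_eq, ← map_mul, mul_one]
    exact Ideal.Quotient.eq_zero_iff_mem.2 ha
  have h0 : (⟨Ideal.Quotient.mk K 1, hmem⟩ : ↥(Γ K (R ⧸ K))) = 0 := Subsingleton.elim _ _
  have h1 : (Ideal.Quotient.mk K 1 : R ⧸ K) = 0 := congrArg Subtype.val h0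
  exact (Ideal.eq_top_iff_one K).2 (Ideal.Quotient.eq_zero_iff_mem.1 h1)

end General

section Local

variable {B : Type u} [CommRing B] [IsNoetherianRing B] [IsLocalRing B]

theorem local_step (d : ℕ) (hd : ringKrullDim B = d) (J : Ideal B) (f : B)
    (hJ : J ≤ IsLocalRing.maximalIdeal B) (hf : f ∈ IsLocalRing.maximalIdeal B)
    (h : Van B (J ⊔ Ideal.span {f}) d) : Van B J d := by
  intro M _ _ i hi
  rcases Nat.eq_zero_or_pos i with rfl | hpos
  · have hd0 : d = 0 := Nat.le_zero.1 hi
    subst hd0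
    have htop := van_zero_imp_top _ h
    exfalso
    have hle : J ⊔ Ideal.span {f} ≤ IsLocalRing.maximalIdeal B :=
      sup_le hJ ((Ideal.span_singleton_le_iff_mem _).2 hf)
    rw [htop] at hle
    exact (IsLocalRing.maximalIdeal.isMaximal B).ne_top (top_le_iff.1 hle)
  · rcases Nat.lt_or_ge d i with hlt | hge
    · exact GV J M i (lt_of_le_of_lt (Module.supportDim_le_ringKrullDim B M)
        (by rw [hd]; exact_mod_cast hlt))
    · have hid : i = d := le_antisymm hge hi
      subst hid
      obtain ⟨p, rfl⟩ : ∃ p, i = p + 1 := ⟨i - 1, by omega⟩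
      apply subsingleton_of_forall_fg J (p + 1) M
      intro N hN
      haveI : Module.Finite B ↥N := Module.Finite.iff_fg.2 hN
      haveI : IsArtinian B (LocCoh.H J (p + 1) ↥N) :=
        Groth.Agent.Lib.LocCohArtH7.main3262 B J (p + 1) ↥N
          ((Module.supportDim_le_ringKrullDim B ↥N).trans (le_of_eq hd))
      apply T J f p ↥N (h ↥N (p + 1) le_rfl)
      intro x
      exact exists_pow_smul_eq_zero_of_artinian _ f
        (by rw [IsLocalRing.jacobson_eq_maximalIdeal ⊥ bot_ne_top]; exact hf) x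

theorem local_finset (d : ℕ) (hd : ringKrullDim B = d) (s : Finset B) :
    ∀ (J : Ideal B), J ≤ IsLocalRing.maximalIdeal B →
      (∀ x ∈ s, x ∈ IsLocalRing.maximalIdeal B) →
      Van B (J ⊔ Ideal.span (s : Set B)) d → Van B J d := by
  classical
  induction s using Finset.induction_on with
  | empty =>
    intro J _ _ h
    rw [Finset.coe_empty, Ideal.span_empty, sup_bot_eq] at h
    exact h
  | insert f s hfs ih =>
    intro J hJ hs h
    have hf := hs f (Finset.mem_insert_self f s)
    apply local_step d hd J f hJ hf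
    apply ih (J ⊔ Ideal.span {f}) (sup_le hJ ((Ideal.span_singleton_le_iff_mem _).2 hf))
      (fun x hx => hs x (Finset.mem_insert_of_mem hx))
    have e : J ⊔ Ideal.span {f} ⊔ Ideal.span (s : Set B) =
        J ⊔ Ideal.span ((insert f s : Finset B) : Set B) := by
      rw [Finset.coe_insert, Ideal.span_insert, sup_assoc]
    rw [e]
    exact h

end Local

/-- S1736 -/
theorem main (A : Type u) [CommRing A] [IsNoetherianRing A] (d : ℕ) (hd : ringKrullDim A = d)
    (I I' : Ideal A) (hII' : I ≤ I') (hJ : I' ≤ (⊥ : Ideal A).jacobson) (h : Van A I' d) :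
    Van A I d := by
  classical
  intro M _ _ i hi
  apply Module.subsingleton_of_localization_maximal (R := A)
    (fun P => LocalizedModule P.primeCompl (LocCoh.H I i M))
    (fun P => LocalizedModule.mkLinearMap P.primeCompl (LocCoh.H I i M))
  intro P hP
  haveI : P.IsPrime := hP.isPrime
  haveI : IsNoetherianRing (Localization.AtPrime P) :=
    IsLocalization.isNoetherianRing P.primeCompl _ inferInstance
  haveI : Module.Flat A (Localization.AtPrime P) := IsLocalization.flat _ P.primeCompl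
  obtain ⟨e⟩ := Groth.Agent.Lib.LocCohFlatBCH7.main (Localization.AtPrime P) I i M
  let e1 := LocalizedModule.equivTensorProduct P.primeCompl (LocCoh.H I i M)
  suffices hB : Van (Localization.AtPrime P) (I.map (algebraMap A (Localization.AtPrime P))) d by
    haveI := hB (TensorProduct A (Localization.AtPrime P) M) i hi
    exact (e1.trans e).toEquiv.subsingleton
  have hdB : ringKrullDim (Localization.AtPrime P) ≤ d := by
    rw [IsLocalization.AtPrime.ringKrullDim_eq_height P (Localization.AtPrime P), ← hd]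
    exact Ideal.height_le_ringKrullDim_of_isPrime
  have hI'B : Van (Localization.AtPrime P)
      (I'.map (algebraMap A (Localization.AtPrime P))) d := by
    intro N _ _ j hj
    letI : Module A N := Module.compHom N (algebraMap A (Localization.AtPrime P))
    haveI : IsScalarTower A (Localization.AtPrime P) N :=
      IsScalarTower.of_algebraMap_smul fun r x => rfl
    obtain ⟨φ, -⟩ := Groth.Agent.Lib.LocCohBaseIndepH7.main (Localization.AtPrime P) I' j N
    haveI : Subsingleton (LocCoh.H I' j N) := h N j hj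
    exact φ.toEquiv.subsingleton
  rcases lt_or_eq_of_le hdB with hlt | heq
  · intro N _ _ j hj
    exact GV _ N j (lt_of_le_of_lt (Module.supportDim_le_ringKrullDim _ N)
      (lt_of_lt_of_le hlt (by exact_mod_cast hj)))
  · obtain ⟨s, hs⟩ := (IsNoetherian.noetherian I' : I'.FG)
    have hs' : Ideal.span (s : Set A) = I' := hs
    have hsup : (I.map (algebraMap A (Localization.AtPrime P))) ⊔
        Ideal.span ((s.image (algebraMap A (Localization.AtPrime P)) :
          Finset (Localization.AtPrime P)) : Set (Localization.AtPrime P)) =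
        I'.map (algebraMap A (Localization.AtPrime P)) := by
      rw [Finset.coe_image, ← Ideal.map_span, ← Ideal.map_sup, hs', sup_eq_right.2 hII']
    have hP' : I' ≤ P := hJ.trans (sInf_le ⟨bot_le, hP⟩)
    apply local_finset d heq (s.image (algebraMap A (Localization.AtPrime P)))
      (I.map (algebraMap A (Localization.AtPrime P)))
    · rw [Ideal.map_le_iff_le_comap]
      intro x hx
      exact (IsLocalization.AtPrime.to_map_mem_maximal_iff (Localization.AtPrime P) P x).2
        (hP' (hII' hx))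
    · intro x hx
      obtain ⟨y, hy, rfl⟩ := Finset.mem_image.1 hx
      have hyI : y ∈ I' := by rw [← hs']; exact Ideal.subset_span hy
      exact (IsLocalization.AtPrime.to_map_mem_maximal_iff (Localization.AtPrime P) P y).2
        (hP' hyI)
    · rw [hsup]
      exact hI'B

end Groth.Agent.Lib.LocCohJacH7
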