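import Mathlib
import Groth.Prelude.Def_Wider
import Groth.Agent.Lib.TFunSmul_helper7

open CategoryTheory CategoryTheory.Limits Opposite

namespace Groth.Agent.Lib.LocCohAnnH7

universe u

variable {R : Type u} [CommRing R]

lemma smul_id_ext_eq_zero (X M : ModuleCat.{u} R) (n : ℕ) (s : R) (hs : s • 𝟙 M = 0) :
    s • 𝟙 (((Ext R (ModuleCat.{u} R) n).obj (op X)).obj M) = 0 := by
  let P := ProjectiveResolution.of X
  let e := P.isoExt (R := R) n M
  have hK : s • 𝟙 (P.complex.linearYonedaObj R M) = 0 := by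
    ext j : 1
    apply ModuleCat.hom_ext
    ext (f : P.complex.X j ⟶ M)
    show s • f = 0
    rw [← Category.comp_id f, ← Linear.comp_smul, hs, comp_zero]
  have hH : s • 𝟙 ((P.complex.linearYonedaObj R M).homology n) = 0 := by
    rw [← HomologicalComplex.homologyMap_id, ← Groth.Agent.Lib.TFunSmulH7.homologyMap_smul, hK,
      HomologicalComplex.homologyMap_zero]
  calc s • 𝟙 _ = e.hom ≫ (s • 𝟙 _) ≫ e.inv := by
        rw [Linear.smul_comp, Linear.comp_smul, Category.id_comp, e.hom_inv_id]
    _ = 0 := by rw [hH, zero_comp, comp_zero]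

lemma smul_id_colimit_eq_zero (b : Ideal R) (i : ℕ) (M : ModuleCat.{u} R) (s : R)
    (hs : s • 𝟙 M = 0) :
    s • 𝟙 ((colimit (localCohomology.diagram (localCohomology.idealPowersDiagram b) i)).obj M)
      = 0 := by
  let F := localCohomology.diagram (localCohomology.idealPowersDiagram b) i
  have hc := isColimitOfPreserves ((evaluation _ _).obj M) (colimit.isColimit F)
  apply hc.hom_ext
  intro k
  show (colimit.ι F k).app M ≫ (s • 𝟙 ((colimit F).obj M)) = (colimit.ι F k).app M ≫ 0
  rw [comp_zero, Linear.comp_smul, Category.comp_id, ← Category.id_comp ((colimit.ι F k).app M),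
    ← Linear.smul_comp]
  have : s • 𝟙 ((F.obj k).obj M) = 0 := smul_id_ext_eq_zero _ M i s hs
  rw [this, zero_comp]

lemma smul_id_H_eq_zero (b : Ideal R) (i : ℕ) (M : ModuleCat.{u} R) (s : R) (hs : s • 𝟙 M = 0) :
    s • 𝟙 ((localCohomology b i).obj M) = 0 :=
  smul_id_colimit_eq_zero b i M s hs

theorem main (R : Type u) [CommRing R] [IsNoetherianRing R] (M : Type u) [AddCommGroup M]
    [Module R M] [Module.Finite R M] (p : PrimeSpectrum R) (hp : p ∉ Module.support R M) :
    ∃ s : R, s ∉ p.asIdeal ∧ ∀ (b : Ideal R) (i : ℕ) (x : LocCoh.H b i M), s • x = 0 := by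
  rw [Module.mem_support_iff_of_finite, SetLike.not_le_iff_exists] at hp
  obtain ⟨s, hs, hsp⟩ := hp
  refine ⟨s, hsp, fun b i x => ?_⟩
  have h0 : s • 𝟙 (ModuleCat.of R M) = 0 := by
    apply ModuleCat.hom_ext
    ext m
    show s • m = 0
    exact Module.mem_annihilator.mp hs m
  have h1 := smul_id_H_eq_zero b i (ModuleCat.of R M) s h0
  have h2 := congrArg (fun φ => φ.hom x) h1
  exact h2

end Groth.Agent.Lib.LocCohAnnH7
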