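import Mathlib
import Groth.Prelude.Def_Wider
import Groth.Agent.Lib.Depth_helper5
import Groth.Agent.Lib.LocCohBridge_helper7

/-!
# Annihilating local cohomology below the grade at primes where `M` is free (helper7)
-/

open CategoryTheory CategoryTheory.Limits Opposite

namespace Groth.Agent.Lib.LocCohFreeH7

open Groth.Agent.Lib.LocCohBridgeH7

universe u

variable {R : Type u} [CommRing R]

/-- `Ext^i(R/b^k, R) = 0` below the `b`-depth of `R`. -/
theorem ext_quot_pow_self_subsingleton [IsNoetherianRing R] (b : Ideal R) (hb : b ≠ ⊤) (i : ℕ)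
    (hi : (i : ℕ∞) < LocCoh.idealDepth b R) (k : ℕ) :
    Subsingleton (Abelian.Ext (ModuleCat.of R (R ⧸ b ^ k)) (ModuleCat.of R R) i) := by
  have h1 : ((i + 1 : ℕ) : ℕ∞) ≤ LocCoh.idealDepth b R := by
    have := Order.add_one_le_of_lt hi
    exact_mod_cast this
  rw [Groth.Agent.DepthLib.le_idealDepth_iff] at h1
  have hbt : b • (⊤ : Submodule R R) ≠ ⊤ := by
    rw [smul_eq_mul, Ideal.mul_top]; exact hb
  rcases h1 with h1 | ⟨rs, hreg, hmem, hlen⟩
  · exact absurd h1 hbt
  · have hsupp : Module.support R (ModuleCat.of R (R ⧸ b ^ k)) ⊆ PrimeSpectrum.zeroLocus b := by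
      intro q hq
      have hq' : q ∈ Module.support R (R ⧸ b ^ k) := hq
      rw [Module.support_eq_zeroLocus, Ideal.annihilator_quotient,
        PrimeSpectrum.mem_zeroLocus] at hq'
      rw [PrimeSpectrum.mem_zeroLocus]
      exact Ideal.IsPrime.le_of_pow_le (n := k) hq'
    have hle : Ideal.ofList rs ≤ b := by
      rw [Ideal.ofList, Ideal.span_le]
      intro r hr
      exact hmem r hr
    have hreg' : RingTheory.Sequence.IsRegular R rs := by
      refine ⟨hreg, fun htop => hbt ?_⟩
      exact top_le_iff.1 (htop.le.trans (Submodule.smul_mono_left hle))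
    have := ModuleCat.subsingleton_ext_of_exists_isRegular b (ModuleCat.of R (R ⧸ b ^ k)) hsupp
      (ModuleCat.of R R) (lt_top_iff_ne_top.2 hbt) rs hmem hreg' i (by omega)
    exact this

theorem exists_factor_of_free [IsNoetherianRing R] (M : Type u) [AddCommGroup M] [Module R M]
    [Module.Finite R M] (p : Ideal R) [p.IsPrime]
    [Module.Free (Localization.AtPrime p) (LocalizedModule p.primeCompl M)] :
    ∃ (n : ℕ) (α : Fin n → (R →ₗ[R] M)) (β : Fin n → (M →ₗ[R] R)) (s : R), s ∉ p ∧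
      ∀ m, ∑ j, α j (β j m) = s • m := by
  classical
  let S := p.primeCompl
  let Rp := Localization.AtPrime p
  let Mp := LocalizedModule S M
  haveI : Module.Finite Rp Mp :=
    Module.Finite.of_isLocalizedModule S (LocalizedModule.mkLinearMap S M)
  let n := Module.finrank Rp Mp
  let bas : Module.Basis (Fin n) Rp Mp := Module.finBasis Rp Mp
  let e : Mp ≃ₗ[Rp] (Fin n → Rp) := bas.equivFun
  let eR : Mp ≃ₗ[R] (Fin n → Rp) := e.restrictScalars R
  let floc : (Fin n → R) →ₗ[R] (Fin n → Rp) :=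
    LinearMap.pi fun i => (Algebra.linearMap R Rp) ∘ₗ LinearMap.proj i
  haveI : IsLocalizedModule S floc := IsLocalizedModule.pi S (fun _ => Algebra.linearMap R Rp)
  let mk := LocalizedModule.mkLinearMap S M
  haveI : Module.FinitePresentation R M := Module.finitePresentation_of_finite R M
  obtain ⟨ψ, s₁, h₁⟩ := Module.FinitePresentation.exists_lift_of_isLocalizedModule S floc
    (eR.toLinearMap ∘ₗ mk)
  obtain ⟨φ, t, h₂⟩ := Module.FinitePresentation.exists_lift_of_isLocalizedModule S mk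
    (eR.symm.toLinearMap ∘ₗ floc)
  have H : mk ∘ₗ (φ ∘ₗ ψ) = mk ∘ₗ (((t : R) * (s₁ : R)) • LinearMap.id) := by
    ext m
    have e1 : mk (φ (ψ m)) = (t : R) • eR.symm (floc (ψ m)) := LinearMap.congr_fun h₂ (ψ m)
    have e2 : floc (ψ m) = (s₁ : R) • eR (mk m) := LinearMap.congr_fun h₁ m
    show mk (φ (ψ m)) = mk (((t : R) * (s₁ : R)) • m)
    rw [e1, e2, map_smul, LinearEquiv.symm_apply_apply, smul_smul, map_smul]
  obtain ⟨u, hu⟩ := Module.Finite.exists_smul_of_comp_eq_of_isLocalizedModule S mk _ _ H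
  refine ⟨n, fun j => ((u : R) • φ) ∘ₗ LinearMap.single R (fun _ => R) j,
    fun j => LinearMap.proj j ∘ₗ ψ, (u : R) * ((t : R) * (s₁ : R)), ?_, ?_⟩
  · exact S.mul_mem u.2 (S.mul_mem t.2 s₁.2)
  · intro m
    have hsum : ∑ j, (LinearMap.single R (fun _ : Fin n => R) j) (ψ m j) = ψ m := by
      simp only [LinearMap.coe_single]
      exact Finset.univ_sum_single (ψ m)
    calc ∑ j, (((u : R) • φ) ∘ₗ LinearMap.single R (fun _ => R) j) ((LinearMap.proj j ∘ₗ ψ) m)
        = ((u : R) • φ) (∑ j, LinearMap.single R (fun _ : Fin n => R) j (ψ m j)) := by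
          rw [map_sum]; rfl
      _ = (u : R) • φ (ψ m) := by rw [hsum]; rfl
      _ = ((u : R) * ((t : R) * (s₁ : R))) • m := by
          have := LinearMap.congr_fun hu m
          rw [mul_smul]
          exact this

theorem main (R : Type u) [CommRing R] [IsNoetherianRing R] (M : Type u) [AddCommGroup M]
    [Module R M] [Module.Finite R M] (p : Ideal R) [p.IsPrime]
    [Module.Free (Localization.AtPrime p) (LocalizedModule p.primeCompl M)] :
    ∃ s : R, s ∉ p ∧ ∀ (b : Ideal R), b ≠ ⊤ → ∀ (i : ℕ), (i : ℕ∞) < LocCoh.idealDepth b R →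
      ∀ x : LocCoh.H b i M, s • x = 0 := by
  obtain ⟨n, α, β, s, hs, hsum⟩ := exists_factor_of_free M p
  refine ⟨s, hs, fun b hb i hi x => ?_⟩
  have h0 : s • 𝟙 (ModuleCat.of R M) =
      ∑ j ∈ Finset.univ, ModuleCat.ofHom (β j) ≫ ModuleCat.ofHom (α j) := by
    apply ModuleCat.hom_ext
    ext m
    rw [ModuleCat.hom_sum, LinearMap.sum_apply]
    exact (hsum m).symm
  exact smul_H_eq_zero b i M s (fun k y =>
    ext_smul_eq_zero_of_factor i Finset.univ (fun j => ModuleCat.ofHom (α j))
      (fun j => ModuleCat.ofHom (β j)) s h0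
      (fun z => (ext_quot_pow_self_subsingleton b hb i hi k).elim _ _) y) x

end Groth.Agent.Lib.LocCohFreeH7
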