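import Mathlib
import Groth.Prelude.Def_Wider
import Groth.Agent.Lib.Depth_helper5
import Groth.Agent.Lib.LocCohBridge_helper7
import Groth.Agent.Lib.LocCohFree_helper7

/-!
# Annihilating local cohomology below grade minus projective dimension (helper7)
-/

open CategoryTheory CategoryTheory.Limits Opposite

namespace Groth.Agent.Lib.LocCohPDH7

open Groth.Agent.Lib.LocCohBridgeH7 Groth.Agent.Lib.LocCohFreeH7 Groth.Agent.DepthLib

universe u

variable {R : Type u} [CommRing R]

/-- `Ext^i(R/b^k, R^m) = 0` below the `b`-depth of `R`. -/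
theorem ext_quot_pow_pi_eq_zero [IsNoetherianRing R] (b : Ideal R) (hb : b ≠ ⊤) (i : ℕ)
    (hi : (i : ℕ∞) < LocCoh.idealDepth b R) (k m : ℕ)
    (x : Abelian.Ext (ModuleCat.of R (R ⧸ b ^ k)) (ModuleCat.of R (Fin m → R)) i) : x = 0 := by
  classical
  have hone : (1 : R) • 𝟙 (ModuleCat.of R (Fin m → R)) =
      ∑ j ∈ Finset.univ, ModuleCat.ofHom (LinearMap.proj (R := R) (φ := fun _ : Fin m => R) j) ≫
        ModuleCat.ofHom (LinearMap.single R (fun _ : Fin m => R) j) := by
    apply ModuleCat.hom_ext
    refine LinearMap.ext fun v => ?_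
    rw [ModuleCat.hom_sum, LinearMap.sum_apply]
    show (1 : R) • v = ∑ j, Pi.single j (v j)
    rw [one_smul, Finset.univ_sum_single]
  have := ext_smul_eq_zero_of_factor i Finset.univ
    (fun j => ModuleCat.ofHom (LinearMap.single R (fun _ : Fin m => R) j))
    (fun j => ModuleCat.ofHom (LinearMap.proj (R := R) (φ := fun _ : Fin m => R) j)) (1 : R) hone
    (fun z => (ext_quot_pow_self_subsingleton b hb i hi k).elim _ _) x
  rwa [one_smul] at this

theorem key [IsNoetherianRing R] (p : Ideal R) [p.IsPrime] :
    ∀ (h : ℕ) (M : Type u) [AddCommGroup M] [Module R M] [Module.Finite R M],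
      HasProjectiveDimensionLE
        (ModuleCat.of (Localization.AtPrime p) (LocalizedModule p.primeCompl M)) h →
      ∃ s : R, s ∉ p ∧ ∀ b : Ideal R, b ≠ ⊤ → ∀ i : ℕ,
        ((i + h : ℕ) : ℕ∞) < LocCoh.idealDepth b R →
        ∀ (k : ℕ) (x : Abelian.Ext (ModuleCat.of R (R ⧸ b ^ k)) (ModuleCat.of R M) i),
          s • x = 0 := by
  intro h
  induction h with
  | zero =>
    intro M _ _ _ hpd
    haveI : Module.Finite (Localization.AtPrime p) (LocalizedModule p.primeCompl M) :=
      Module.Finite.of_isLocalizedModule p.primeCompl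
        (LocalizedModule.mkLinearMap p.primeCompl M)
    have hproj : Projective
        (ModuleCat.of (Localization.AtPrime p) (LocalizedModule p.primeCompl M)) :=
      projective_iff_hasProjectiveDimensionLT_one.2 hpd
    haveI : Module.Projective (Localization.AtPrime p) (LocalizedModule p.primeCompl M) :=
      (IsProjective.iff_projective _).2 hproj
    haveI : Module.Free (Localization.AtPrime p) (LocalizedModule p.primeCompl M) :=
      Module.free_of_flat_of_isLocalRing
    obtain ⟨n, α, β, s, hs, hsum⟩ := exists_factor_of_free M p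
    refine ⟨s, hs, fun b hb i hi k x => ?_⟩
    have h0 : s • 𝟙 (ModuleCat.of R M) =
        ∑ j ∈ Finset.univ, ModuleCat.ofHom (β j) ≫ ModuleCat.ofHom (α j) := by
      apply ModuleCat.hom_ext
      ext m
      rw [ModuleCat.hom_sum, LinearMap.sum_apply]
      exact (hsum m).symm
    exact ext_smul_eq_zero_of_factor i Finset.univ (fun j => ModuleCat.ofHom (α j))
      (fun j => ModuleCat.ofHom (β j)) s h0
      (fun z => (ext_quot_pow_self_subsingleton b hb i (by simpa using hi) k).elim _ _) x
  | succ h ih =>
    intro M _ _ _ hpd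
    obtain ⟨m, f, hf⟩ := Module.Finite.exists_fin' R M
    let K := LinearMap.ker f
    -- the short exact sequence over `R`
    have hS := shortComplexOf_shortExact K.subtype f Subtype.val_injective hf
      (LinearMap.exact_subtype_ker_map f)
    -- the localized short exact sequence
    have hex : Function.Exact (LocalizedModule.map p.primeCompl K.subtype)
        (LocalizedModule.map p.primeCompl f) :=
      LocalizedModule.map_exact p.primeCompl K.subtype f (LinearMap.exact_subtype_ker_map f)
    have hSp := shortComplexOf_shortExact (A := Localization.AtPrime p)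
      (N' := LocalizedModule p.primeCompl K) (N := LocalizedModule p.primeCompl (Fin m → R))
      (N'' := LocalizedModule p.primeCompl M) (LocalizedModule.map p.primeCompl K.subtype)
      (LocalizedModule.map p.primeCompl f)
      (LocalizedModule.map_injective p.primeCompl _ Subtype.val_injective)
      (LocalizedModule.map_surjective p.primeCompl _ hf) hex
    have hprojF : Projective (ModuleCat.of (Localization.AtPrime p)
        (LocalizedModule p.primeCompl (Fin m → R))) :=
      (IsProjective.iff_projective (R := Localization.AtPrime p)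
        (LocalizedModule p.primeCompl (Fin m → R))).1 inferInstance
    have hK : HasProjectiveDimensionLE
        (ModuleCat.of (Localization.AtPrime p) (LocalizedModule p.primeCompl K)) h :=
      (hSp.hasProjectiveDimensionLT_X₃_iff h hprojF).1 hpd
    obtain ⟨s, hs, hs'⟩ := ih K hK
    refine ⟨s, hs, fun b hb i hi k x => ?_⟩
    have hiK : ((i + 1 + h : ℕ) : ℕ∞) < LocCoh.idealDepth b R := by
      have : i + 1 + h = i + (h + 1) := by omega
      rw [this]; exact hi
    have hi0 : (i : ℕ∞) < LocCoh.idealDepth b R :=
      lt_of_le_of_lt (by exact_mod_cast Nat.le_add_right i (h + 1)) hi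
    have hx3 : (s • x).comp hS.extClass rfl = 0 := by
      rw [Abelian.Ext.smul_comp]
      exact hs' b hb (i + 1) hiK k _
    obtain ⟨x₂, hx₂⟩ := Abelian.Ext.covariant_sequence_exact₃ _ hS (s • x) rfl hx3
    have hx20 : x₂ = 0 := ext_quot_pow_pi_eq_zero b hb i hi0 k m x₂
    rw [← hx₂, hx20, Abelian.Ext.zero_comp]
    rfl

theorem main (R : Type u) [CommRing R] [IsNoetherianRing R] (M : Type u) [AddCommGroup M]
    [Module R M] [Module.Finite R M] (p : Ideal R) [p.IsPrime] (h : ℕ)
    (hpd : HasProjectiveDimensionLE
      (ModuleCat.of (Localization.AtPrime p) (LocalizedModule p.primeCompl M)) h) :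
    ∃ s : R, s ∉ p ∧ ∀ (b : Ideal R), b ≠ ⊤ → ∀ (i : ℕ),
      ((i + h : ℕ) : ℕ∞) < LocCoh.idealDepth b R → ∀ x : LocCoh.H b i M, s • x = 0 := by
  obtain ⟨s, hs, hs'⟩ := key p h M hpd
  exact ⟨s, hs, fun b hb i hi x => smul_H_eq_zero b i M s (fun k y => hs' b hb i hi k y) x⟩

end Groth.Agent.Lib.LocCohPDH7
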