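import Mathlib
import Groth.Prelude.Def_Wider
import Groth.Prelude.Def_W4bk5brsh7111920
import Groth.Agent.Lib.LocCohFinDim_helper7
import Groth.Agent.Lib.LocCohJac_helper7
import Groth.Agent.Lib.LocCohTors_helper7
import Groth.Agent.Lib.LocCohBaseIndep_helper7
import Groth.Agent.Lib.AdjDepth_helper5
import Groth.Agent.Lib.AdjDepth_helper7
import Groth.Agent.Lib.AdjDepth_helper6
import Groth.Agent.Lib.DepthRefl_helper5
import Groth.Agent.S11654
import Groth.Agent.S11656

/-!
# Faltings' annihilator theorem: `λ_a^b(M) ≤ f_a^b(M)` over images of regular rings (helper6, S11660)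

Brodmann–Sharp 9.5.1.  The proof is a Noetherian induction on `a` over a regular ring:
pick a prime `Q ⊇ a` with `ht Q = ht a`; every prime `p ⊆ Q` not containing `b` admits `s ∉ p`
killing `H^i_a(M)` (annihilation below grade minus projective dimension, Auslander–Buchsbaum);
hence `x b^n` kills `H^i_a(M)` for some `x ∉ Q`; the `x`-torsion of `H^i_a(M)` is controlled by
`H^i_{a+xR}(M)` (lemma `Ts`), to which the induction hypothesis applies.
-/

set_option autoImplicit false
universe u

open CategoryTheory Pointwise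

namespace Groth.Agent.Lib.FaltingsAnn_helper6

open Groth.Agent.Lib.LocCohLESH7 Groth.Agent.DepthLib Groth.Agent.Lib.InjHull_helper3
open Groth.Agent.Lib.LocCohCdSupH7 Groth.Agent.Lib.LocCohDeltaZeroH7 Groth.Agent.Lib.LocCohGVH7
open Groth.Agent.Lib.LocCohAraH7 Groth.Agent.Lib.LocCohJacH7 Groth.Agent.Lib.LocCohFinDimH7 LocCoh

section Ts

variable {R : Type u} [CommRing R] [IsNoetherianRing R]

theorem mem_Γ_sup (J : Ideal R) (f : R) {X : Type u} [AddCommGroup X] [Module R X] (q : X)
    (hq : q ∈ Γ J X) (k : ℕ) (hk : f ^ k • q = 0) : q ∈ Γ (J ⊔ Ideal.span {f}) X := by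
  obtain ⟨a, ha⟩ := (mem_Γ_iff J q).1 hq
  rw [mem_Γ_iff]
  refine ⟨a + k, fun r hr => ?_⟩
  have hr2 := Ideal.sup_pow_add_le_pow_sup_pow hr
  obtain ⟨x, hx, y, hy2, hxy⟩ := Submodule.mem_sup.1 hr2
  rw [Ideal.span_singleton_pow] at hy2
  obtain ⟨z, hz⟩ := Ideal.mem_span_singleton'.1 hy2
  rw [← hxy, ← hz, add_smul, ha x hx, mul_smul, hk, smul_zero, add_zero]

theorem mem_Γ_of_sup (J : Ideal R) (f : R) {X : Type u} [AddCommGroup X] [Module R X] (q : X)
    (hq : q ∈ Γ (J ⊔ Ideal.span {f}) X) : q ∈ Γ J X := by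
  obtain ⟨b, hb⟩ := (mem_Γ_iff _ q).1 hq
  exact (mem_Γ_iff J q).2 ⟨b, fun r hr => hb r (Ideal.pow_right_mono le_sup_left b hr)⟩

/-- degree zero: `s` kills the `f`-power torsion of `H^0_J(M)` if it kills `H^0_{J+fR}(M)` -/
theorem Ts_zero (J : Ideal R) (f s : R) (M : Type u) [AddCommGroup M] [Module R M]
    (hK : ∀ y : LocCoh.H (J ⊔ Ideal.span {f}) 0 M, s • y = 0)
    (z : LocCoh.H J 0 M) (hz : ∃ n : ℕ, f ^ n • z = 0) : s • z = 0 := by
  obtain ⟨n, hn⟩ := hz
  obtain ⟨eJ⟩ := H0_equiv' J M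
  obtain ⟨eK⟩ := H0_equiv' (J ⊔ Ideal.span {f}) M
  have h0 : f ^ n • eJ z = 0 := by rw [← map_smul, hn, map_zero]
  have h1 : f ^ n • ((eJ z : ↥(Γ J M)) : M) = 0 := congrArg Subtype.val h0
  have hK' : ((eJ z : ↥(Γ J M)) : M) ∈ Γ (J ⊔ Ideal.span {f}) M :=
    mem_Γ_sup J f _ (eJ z).2 n h1
  have h2 : s • eK.symm ⟨((eJ z : ↥(Γ J M)) : M), hK'⟩ = 0 := hK _
  have h3 : s • (⟨((eJ z : ↥(Γ J M)) : M), hK'⟩ : ↥(Γ (J ⊔ Ideal.span {f}) M)) = 0 := by
    rw [← map_smul] at h2
    exact (LinearEquiv.map_eq_zero_iff eK.symm).1 h2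
  have h4 : s • ((eJ z : ↥(Γ J M)) : M) = 0 := congrArg Subtype.val h3
  have h5 : s • eJ z = 0 := Subtype.ext h4
  rw [← map_smul] at h5
  exact (LinearEquiv.map_eq_zero_iff eJ).1 h5

/-- positive degrees: `s` kills the `f`-power torsion of `H^{p+1}_J(M)` if it kills
`H^{p+1}_{J+fR}(M)` -/
theorem Ts (J : Ideal R) (f s : R) (p : ℕ) : ∀ (M : Type u) [AddCommGroup M] [Module R M],
    (∀ y : LocCoh.H (J ⊔ Ideal.span {f}) (p + 1) M, s • y = 0) →
    ∀ z : LocCoh.H J (p + 1) M, (∃ n : ℕ, f ^ n • z = 0) → s • z = 0 := by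
  induction p with
  | zero =>
    intro M _ _ hK z hz
    obtain ⟨n, hn⟩ := hz
    obtain ⟨N, _, _, ι, hN, hι⟩ := exists_injective_embedding (R := R) M
    have hg : Function.Surjective (LinearMap.range ι).mkQ := Submodule.mkQ_surjective _
    have hfg : Function.Exact ι (LinearMap.range ι).mkQ := LinearMap.exact_map_mkQ_range ι
    haveI := hN
    have hN1 : Subsingleton (LocCoh.H J 1 N) :=
      Groth.Agent.Lib.LocCohInjAcycH7.main (R := R) (R' := R) J N 1 one_pos
    let cJ := cMap J ι (LinearMap.range ι).mkQ hι hg hfg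
    let cK := cMap (J ⊔ Ideal.span {f}) ι (LinearMap.range ι).mkQ hι hg hfg
    have hcJ : Function.Surjective cJ := cMap_surjective _ _ _ hι hg hfg hN1
    obtain ⟨q, rfl⟩ := hcJ z
    have h1 : cJ (f ^ n • q) = 0 := by rw [map_smul]; exact hn
    obtain ⟨y₀, hy₀, hgy₀⟩ :=
      (cMap_eq_zero_iff J ι (LinearMap.range ι).mkQ hι hg hfg (f ^ n • q)).1 h1
    have hΓinj : Module.Injective R ↥(Γ J N) := injective_Γ hN J
    obtain ⟨t, y₁, ⟨m, hm⟩, hy⟩ := exists_pow_smul_add ↥(Γ J N) hΓinj f n ⟨y₀, hy₀⟩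
    have hy' : y₀ = (t : N) + f ^ n • (y₁ : N) := congrArg Subtype.val hy
    have hm' : f ^ m • (t : N) = 0 := congrArg Subtype.val hm
    set q' : N ⧸ LinearMap.range ι := q.1 - (LinearMap.range ι).mkQ (y₁ : N) with hq'
    have hq'J : q' ∈ Γ J (N ⧸ LinearMap.range ι) :=
      sub_mem q.2 (map_mem_Γ J (LinearMap.range ι).mkQ y₁.2)
    have e1 : f ^ n • q' = (LinearMap.range ι).mkQ (t : N) := by
      have ht : (t : N) = y₀ - f ^ n • (y₁ : N) := by rw [hy']; abel
      rw [ht, map_sub, map_smul, hgy₀, hq', smul_sub]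
      rfl
    have hfq' : f ^ (n + m) • q' = 0 := by
      rw [pow_add, mul_comm, mul_smul, e1, ← map_smul, hm', map_zero]
    have hq'K : q' ∈ Γ (J ⊔ Ideal.span {f}) (N ⧸ LinearMap.range ι) :=
      mem_Γ_sup J f q' hq'J (n + m) hfq'
    have hK0 : cK (s • ⟨q', hq'K⟩) = 0 := by rw [map_smul]; exact hK _
    obtain ⟨y₂, hy₂, hgy₂⟩ :=
      (cMap_eq_zero_iff _ ι (LinearMap.range ι).mkQ hι hg hfg (s • ⟨q', hq'K⟩)).1 hK0
    have hy₂J : y₂ ∈ Γ J N := mem_Γ_of_sup J f y₂ hy₂
    have hfin : cJ (s • q) = 0 := by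
      rw [cMap_eq_zero_iff]
      refine ⟨y₂ + s • (y₁ : N), add_mem hy₂J ((Γ J N).smul_mem s y₁.2), ?_⟩
      have hgy₂' : (LinearMap.range ι).mkQ y₂ = s • q' := hgy₂
      rw [map_add, map_smul, hgy₂', hq', smul_sub]
      change _ = s • q.1
      abel
    exact (map_smul cJ s q).symm.trans hfin
  | succ p ih =>
    intro M _ _ hK z hz
    obtain ⟨n, hn⟩ := hz
    obtain ⟨N, _, _, ι, hN, hι⟩ := exists_injective_embedding (R := R) M
    have hg : Function.Surjective (LinearMap.range ι).mkQ := Submodule.mkQ_surjective _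
    have hfg : Function.Exact ι (LinearMap.range ι).mkQ := LinearMap.exact_map_mkQ_range ι
    haveI := hN
    have hS := shortComplexOf_shortExact ι (LinearMap.range ι).mkQ hι hg hfg
    have hbJ := δ_bijective J hS p
      (Groth.Agent.Lib.LocCohInjAcycH7.main (R := R) (R' := R) J N (p + 1) (Nat.succ_pos p))
      (Groth.Agent.Lib.LocCohInjAcycH7.main (R := R) (R' := R) J N (p + 2)
        (Nat.succ_pos (p + 1)))
    have hbK := δ_bijective (J ⊔ Ideal.span {f}) hS p
      (Groth.Agent.Lib.LocCohInjAcycH7.main (R := R) (R' := R) (J ⊔ Ideal.span {f}) N (p + 1)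
        (Nat.succ_pos p))
      (Groth.Agent.Lib.LocCohInjAcycH7.main (R := R) (R' := R) (J ⊔ Ideal.span {f}) N (p + 2)
        (Nat.succ_pos (p + 1)))
    obtain ⟨x, rfl⟩ := hbJ.2 z
    have hx : f ^ n • x = 0 := by
      apply hbJ.1
      have h1 : (δ J hS p).hom (f ^ n • x) = f ^ n • (δ J hS p).hom x := map_smul _ _ _
      exact h1.trans (hn.trans (map_zero _).symm)
    have hKC : ∀ y : LocCoh.H (J ⊔ Ideal.span {f}) (p + 1) (N ⧸ LinearMap.range ι),
        s • y = 0 := by
      intro y
      apply hbK.1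
      have h1 : (δ (J ⊔ Ideal.span {f}) hS p).hom (s • y) =
          s • (δ (J ⊔ Ideal.span {f}) hS p).hom y := map_smul _ _ _
      exact h1.trans ((hK _).trans (map_zero _).symm)
    have h2 : s • x = 0 := ih (N ⧸ LinearMap.range ι) hKC x ⟨n, hx⟩
    have h1 : (δ J hS p).hom (s • x) = s • (δ J hS p).hom x := map_smul _ _ _
    exact h1.symm.trans ((congrArg (fun w => (δ J hS p).hom w) h2).trans (map_zero _))

/-- if `x b^n` and a power of `b` kill `H^i_a(M)` resp. `H^i_{a+xR}(M)` then a power of `b`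
kills `H^i_a(M)` -/
theorem kb_of_sup (a b : Ideal R) (x : R) (M : Type u) [AddCommGroup M] [Module R M] (i : ℕ)
    (h1 : Kb b (LocCoh.H (a ⊔ Ideal.span {x}) i M))
    (n : ℕ) (h2 : ∀ r ∈ b ^ n, ∀ z : LocCoh.H a i M, (x * r) • z = 0) :
    Kb b (LocCoh.H a i M) := by
  obtain ⟨k, hk⟩ := h1
  apply kb_add b _ k n
  intro u hu r hr z
  have hz : ∃ m : ℕ, x ^ m • (r • z) = 0 :=
    ⟨1, by rw [pow_one, smul_smul]; exact h2 r hr z⟩
  rw [mul_smul]
  rcases i with _ | p
  · exact Ts_zero a x u M (fun y => hk u hu y) (r • z) hz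
  · exact Ts a x u p M (fun y => hk u hu y) (r • z) hz

end Ts

section Height

variable {R : Type u} [CommRing R]

theorem height_add_le (p Q : Ideal R) [hp : p.IsPrime] [hQ : Q.IsPrime] (h : p ≤ Q) :
    p.height + (Q.map (Ideal.Quotient.mk p)).height ≤ Q.height := by
  haveI hQp : (Q.map (Ideal.Quotient.mk p)).IsPrime :=
    Ideal.map_isPrime_of_surjective Ideal.Quotient.mk_surjective (by rw [Ideal.mk_ker]; exact h)
  have hφ : Function.Surjective (Ideal.Quotient.mk p) := Ideal.Quotient.mk_surjective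
  have hf : StrictMono (PrimeSpectrum.comap (Ideal.Quotient.mk p)) := by
    intro a b hab
    refine lt_of_le_of_ne ?_ ?_
    · show Ideal.comap (Ideal.Quotient.mk p) a.asIdeal ≤
        Ideal.comap (Ideal.Quotient.mk p) b.asIdeal
      exact Ideal.comap_mono hab.le
    · intro h'
      exact hab.ne (PrimeSpectrum.comap_injective_of_surjective _ hφ h')
  have h1 := Groth.Agent.Lib.AdjDepthH7.order_height_add_le
    (PrimeSpectrum.comap (Ideal.Quotient.mk p)) hf ⟨p, hp⟩ (fun a => by
      show p ≤ Ideal.comap (Ideal.Quotient.mk p) a.asIdeal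
      intro x hx
      rw [Ideal.mem_comap, Ideal.Quotient.eq_zero_iff_mem.mpr hx]
      exact zero_mem _) ⟨Q.map (Ideal.Quotient.mk p), hQp⟩
  rw [← PrimeSpectrum.height_eq_orderHeight, ← PrimeSpectrum.height_eq_orderHeight,
    ← PrimeSpectrum.height_eq_orderHeight] at h1
  refine h1.trans (le_of_eq ?_)
  show (Ideal.comap (Ideal.Quotient.mk p) (Q.map (Ideal.Quotient.mk p))).height = Q.height
  rw [Ideal.comap_map_of_surjective _ hφ, ← RingHom.ker_eq_comap_bot, Ideal.mk_ker,
    sup_eq_left.2 h]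

theorem minAdjDepth_mono {a a' : Ideal R} (h : a ≤ a') (b : Ideal R) (M : Type u)
    [AddCommGroup M] [Module R M] :
    LocCoh.minAdjDepth a b M ≤ LocCoh.minAdjDepth a' b M := by
  unfold LocCoh.minAdjDepth
  refine iInf₂_mono fun p hp => ?_
  unfold LocCoh.adjDepth
  exact add_le_add le_rfl (Ideal.height_mono (Ideal.map_mono (sup_le_sup_right h _)))

end Height

section Regular

variable (R : Type u) [CommRing R] [IsRegularRing R]

/-- in a regular ring the grade of an ideal is at least its height -/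
theorem height_le_idealDepth (a : Ideal R) : a.height ≤ LocCoh.idealDepth a R := by
  rw [← ENat.forall_natCast_le_iff_le]
  intro n hn
  apply le_idealDepth_of_forall_localization a n R
  intro p _ hap
  rw [depth_locSelf]
  obtain ⟨h, hh⟩ := ENat.ne_top_iff_exists.mp (Ideal.height_ne_top_of_isPrime (I := p))
  have hdimA : ringKrullDim (Localization.AtPrime p) = (h : WithBot ℕ∞) := by
    rw [IsLocalization.AtPrime.ringKrullDim_eq_height p, ← hh]; rfl
  have h1 : LocCoh.depth (Localization.AtPrime p) (Localization.AtPrime p) = h :=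
    Groth.Agent.ExtTop.regular_depth (Localization.AtPrime p) h hdimA
  rw [h1, hh]
  exact hn.trans (Ideal.height_mono hap)

/-- every prime `p ⊆ Q` at which the adjusted depth exceeds `i` is outside the support of
`R / Ann H^i_a(M)` -/
theorem exists_kill (a : Ideal R) (ha : a ≠ ⊤) (Q : Ideal R) [Q.IsPrime] (haQ : a ≤ Q)
    (hQ : Q.height = a.height) (M : Type u) [AddCommGroup M] [Module R M] [Module.Finite R M]
    (i : ℕ) (p : Ideal R) [hp : p.IsPrime] (hpQ : p ≤ Q)
    (hi : (i : ℕ∞) < LocCoh.adjDepth a M ⟨p, hp⟩) :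
    ∃ s : R, s ∉ p ∧ ∀ z : LocCoh.H a i M, s • z = 0 := by
  by_cases hsub : Subsingleton (LocalizedModule p.primeCompl M)
  · have hsupp : (⟨p, hp⟩ : PrimeSpectrum R) ∉ Module.support R M := by
      rw [Module.notMem_support_iff]; exact hsub
    obtain ⟨s, hs, hkill⟩ := Groth.Agent.S11654.result R M ⟨p, hp⟩ hsupp
    exact ⟨s, hs, fun z => hkill a i z⟩
  · rw [not_subsingleton_iff_nontrivial] at hsub
    haveI := hsub
    haveI hreg : IsRegularLocalRing (Localization.AtPrime p) := inferInstance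
    obtain ⟨h, hh⟩ := ENat.ne_top_iff_exists.mp (Ideal.height_ne_top_of_isPrime (I := p))
    have hdimA : ringKrullDim (Localization.AtPrime p) = (h : WithBot ℕ∞) := by
      rw [IsLocalization.AtPrime.ringKrullDim_eq_height p, ← hh]; rfl
    haveI : Module.Finite (Localization.AtPrime p) (LocalizedModule p.primeCompl M) :=
      Module.Finite.of_isLocalizedModule p.primeCompl (Rₚ := Localization.AtPrime p)
        (LocalizedModule.mkLinearMap p.primeCompl M)
    have hpdfin := Groth.Agent.GlDim.hasProjectiveDimensionLT_of_regular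
      (Localization.AtPrime p) h hdimA (LocalizedModule p.primeCompl M)
    obtain ⟨e, he1, he2⟩ := Groth.Agent.ExtTop.exists_pd
      (LocalizedModule p.primeCompl M) ⟨h + 1, hpdfin⟩
    have hpd : projectiveDimension (ModuleCat.of (Localization.AtPrime p)
        (LocalizedModule p.primeCompl M)) = (e : WithBot ℕ∞) :=
      le_antisymm ((projectiveDimension_le_iff _ e).mpr he1)
        ((projectiveDimension_ge_iff _ e).mpr he2)
    have hAB := Groth.Agent.AB.auslander_buchsbaum (Localization.AtPrime p)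
      (LocalizedModule p.primeCompl M) e hpd
    have hdepA : LocCoh.depth (Localization.AtPrime p) (Localization.AtPrime p) = h :=
      Groth.Agent.ExtTop.regular_depth (Localization.AtPrime p) h hdimA
    have hABh : (h : ℕ∞) = e + LocCoh.depth (Localization.AtPrime p)
        (LocalizedModule p.primeCompl M) := by rw [← hdepA]; exact hAB
    have hδ_ne : LocCoh.depth (Localization.AtPrime p)
        (LocalizedModule p.primeCompl M) ≠ ⊤ := by
      intro htop
      rw [htop] at hABh
      simp at hABh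
    obtain ⟨δ, hδ⟩ := ENat.ne_top_iff_exists.mp hδ_ne
    obtain ⟨Hn, hHn⟩ := ENat.ne_top_iff_exists.mp (Ideal.height_ne_top_of_isPrime (I := Q))
    have hsum := height_add_le p Q hpQ
    rw [← hh, ← hHn] at hsum
    have hc_ne : (Q.map (Ideal.Quotient.mk p)).height ≠ ⊤ := by
      intro htop
      rw [htop] at hsum
      simp at hsum
    obtain ⟨c', hc'⟩ := ENat.ne_top_iff_exists.mp hc_ne
    have hcc : ((a ⊔ p).map (Ideal.Quotient.mk p)).height ≤
        (Q.map (Ideal.Quotient.mk p)).height :=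
      Ideal.height_mono (Ideal.map_mono (sup_le haQ hpQ))
    have hi' : (i : ℕ∞) < LocCoh.depth (Localization.AtPrime p)
        (LocalizedModule p.primeCompl M) + ((a ⊔ p).map (Ideal.Quotient.mk p)).height := hi
    have hi2 : (i : ℕ∞) < (δ : ℕ∞) + (c' : ℕ∞) := by
      rw [hδ, hc']
      exact lt_of_lt_of_le hi' (add_le_add le_rfl hcc)
    rw [← hδ] at hABh
    rw [← hc'] at hsum
    have h1 : h = e + δ := by exact_mod_cast hABh
    have h2 : h + c' ≤ Hn := by exact_mod_cast hsum
    have h3 : i < δ + c' := by exact_mod_cast hi2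
    have h4 : i + e < Hn := by omega
    have hgrade : ((i + e : ℕ) : ℕ∞) < LocCoh.idealDepth a R := by
      refine lt_of_lt_of_le (by exact_mod_cast h4 : ((i + e : ℕ) : ℕ∞) < (Hn : ℕ∞)) ?_
      rw [hHn, hQ]
      exact height_le_idealDepth R a
    obtain ⟨s, hs, hkill⟩ := Groth.Agent.S11656.result R M p e he1
    exact ⟨s, hs, fun z => hkill a ha i hgrade z⟩

end Regular

section Saturate

variable {R : Type u} [CommRing R] [IsNoetherianRing R]

theorem exists_common (Q : Ideal R) [hQ : Q.IsPrime] (I : Ideal R) (G : Finset R) :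
    (∀ g ∈ G, ∃ x, x ∉ Q ∧ x * g ∈ I) → ∃ x, x ∉ Q ∧ ∀ g ∈ G, x * g ∈ I := by
  classical
  induction G using Finset.induction_on with
  | empty =>
    intro _
    exact ⟨1, (Ideal.ne_top_iff_one Q).1 hQ.ne_top, fun g hg => absurd hg (Finset.notMem_empty g)⟩
  | insert g G hg ih =>
    intro h
    obtain ⟨x₁, hx₁, h₁⟩ := ih (fun g' hg' => h g' (Finset.mem_insert_of_mem hg'))
    obtain ⟨x₂, hx₂, h₂⟩ := h g (Finset.mem_insert_self g G)
    refine ⟨x₁ * x₂, fun hmem => (hQ.mem_or_mem hmem).elim hx₁ hx₂, ?_⟩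
    intro g' hg'
    rcases Finset.mem_insert.1 hg' with rfl | hg''
    · rw [mul_assoc]
      exact I.mul_mem_left x₁ h₂
    · rw [mul_comm x₁ x₂, mul_assoc]
      exact I.mul_mem_left x₂ (h₁ g' hg'')

theorem exists_mul_kill (Q : Ideal R) [hQ : Q.IsPrime] (b : Ideal R)
    (H : Type u) [AddCommGroup H] [Module R H]
    (hgood : ∀ (p : Ideal R) [p.IsPrime], p ≤ Q → ¬ b ≤ p →
      ∃ s : R, s ∉ p ∧ ∀ z : H, s • z = 0) :
    ∃ x : R, x ∉ Q ∧ ∃ n : ℕ, ∀ r ∈ b ^ n, ∀ z : H, (x * r) • z = 0 := by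
  classical
  haveI : IsNoetherianRing (Localization.AtPrime Q) :=
    IsLocalization.isNoetherianRing Q.primeCompl _ inferInstance
  have hrad : b.map (algebraMap R (Localization.AtPrime Q)) ≤
      ((Module.annihilator R H).map (algebraMap R (Localization.AtPrime Q))).radical := by
    rw [Ideal.radical_eq_sInf]
    refine le_sInf ?_
    rintro P ⟨hP, hPprime⟩
    haveI := hPprime
    have hpQ : P.comap (algebraMap R (Localization.AtPrime Q)) ≤ Q := by
      intro x hx
      exact (IsLocalization.AtPrime.to_map_mem_maximal_iff (Localization.AtPrime Q) Q x).1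
        (IsLocalRing.le_maximalIdeal hPprime.ne_top hx)
    have hsp : Module.annihilator R H ≤ P.comap (algebraMap R (Localization.AtPrime Q)) :=
      Ideal.map_le_iff_le_comap.1 hP
    rw [Ideal.map_le_iff_le_comap]
    by_contra hb
    obtain ⟨s, hs, hkill⟩ := hgood (P.comap (algebraMap R (Localization.AtPrime Q))) hpQ hb
    exact hs (hsp (Module.mem_annihilator.2 hkill))
  obtain ⟨n, hn⟩ := Ideal.exists_pow_le_of_le_radical_of_fg hrad (IsNoetherian.noetherian _)
  rw [← Ideal.map_pow] at hn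
  obtain ⟨G, hG⟩ : (b ^ n).FG := IsNoetherian.noetherian _
  have hgen : ∀ g ∈ G, ∃ x, x ∉ Q ∧ x * g ∈ Module.annihilator R H := by
    intro g hg
    have hgb : g ∈ b ^ n := by rw [← hG]; exact Submodule.subset_span hg
    have h1 : algebraMap R (Localization.AtPrime Q) g ∈
        (Module.annihilator R H).map (algebraMap R (Localization.AtPrime Q)) :=
      hn (Ideal.mem_map_of_mem _ hgb)
    rw [IsLocalization.mem_map_algebraMap_iff Q.primeCompl (Localization.AtPrime Q)] at h1
    obtain ⟨⟨⟨y, hy⟩, ⟨m, hm⟩⟩, hym⟩ := h1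
    have hym' : algebraMap R (Localization.AtPrime Q) (g * m) =
        algebraMap R (Localization.AtPrime Q) y := by rw [map_mul]; exact hym
    rw [IsLocalization.eq_iff_exists Q.primeCompl (Localization.AtPrime Q)] at hym'
    obtain ⟨⟨c, hc⟩, hc2⟩ := hym'
    refine ⟨c * m, fun hmem => (hQ.mem_or_mem hmem).elim hc hm, ?_⟩
    have hc3 : c * (g * m) = c * y := hc2
    have h3 : c * m * g = c * y := by rw [← hc3]; ring
    rw [h3]
    exact (Module.annihilator R H).mul_mem_left c hy
  obtain ⟨x, hxQ, hx⟩ := exists_common Q (Module.annihilator R H) G hgen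
  refine ⟨x, hxQ, n, fun r hr z => ?_⟩
  have hr' : r ∈ Submodule.span R (G : Set R) := by
    have h0 : r ∈ Ideal.span (G : Set R) := by rw [hG]; exact hr
    exact h0
  have hmem : x * r ∈ Module.annihilator R H := by
    refine Submodule.span_induction (p := fun r _ => x * r ∈ Module.annihilator R H)
      ?_ ?_ ?_ ?_ hr'
    · intro g hg
      exact hx g hg
    · rw [mul_zero]
      exact (Module.annihilator R H).zero_mem
    · intro u v _ _ hu hv
      rw [mul_add]
      exact (Module.annihilator R H).add_mem hu hv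
    · intro c u _ hu
      rw [smul_eq_mul, mul_left_comm]
      exact (Module.annihilator R H).mul_mem_left c hu
  exact Module.mem_annihilator.1 hmem z

end Saturate

section Main

variable (R : Type u) [CommRing R] [IsRegularRing R]

theorem regular_kb : ∀ (a b : Ideal R) (M : Type u) [AddCommGroup M] [Module R M]
    [Module.Finite R M] (i : ℕ),
    (i : ℕ∞) < LocCoh.minAdjDepth a b M → Kb b (LocCoh.H a i M) := by
  intro a
  refine IsNoetherian.induction (P := fun a : Ideal R => ∀ (b : Ideal R) (M : Type u)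
    [AddCommGroup M] [Module R M] [Module.Finite R M] (i : ℕ),
    (i : ℕ∞) < LocCoh.minAdjDepth a b M → Kb b (LocCoh.H a i M)) ?_ a
  intro (a : Ideal R) ih b M _ _ _ i hi
  by_cases ha : a = ⊤
  · subst ha
    refine ⟨0, fun r _ z => ?_⟩
    obtain ⟨n, hn⟩ := Groth.Agent.Lib.LocCohTorsH7.main R ⊤ i M z
    have h1 : (1 : R) ∈ (⊤ : Ideal R) ^ n := by rw [Ideal.top_pow]; trivial
    have h2 := hn 1 h1
    rw [one_smul] at h2
    rw [h2, smul_zero]
  · obtain ⟨hn, hhn⟩ := ENat.ne_top_iff_exists.mp (Ideal.height_ne_top ha)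
    obtain ⟨Q, hQprime, haQ, hQh⟩ := Ideal.exists_isPrime_height_eq hhn.symm
    haveI := hQprime
    have hQa : Q.height = a.height := by rw [hQh, hhn]
    have hgood : ∀ (p : Ideal R) [p.IsPrime], p ≤ Q → ¬ b ≤ p →
        ∃ s : R, s ∉ p ∧ ∀ z : LocCoh.H a i M, s • z = 0 := by
      intro p hp hpQ hbp
      exact exists_kill R a ha Q haQ hQa M i p hpQ
        (lt_of_lt_of_le hi (by
          unfold LocCoh.minAdjDepth
          exact iInf₂_le (⟨p, hp⟩ : PrimeSpectrum R) hbp))
    obtain ⟨x, hxQ, n, hx⟩ := exists_mul_kill Q b (LocCoh.H a i M) hgood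
    have hxa : x ∉ a := fun h => hxQ (haQ h)
    have hlt : a < a ⊔ Ideal.span {x} := by
      refine lt_of_le_of_ne le_sup_left (fun h => hxa ?_)
      rw [h]
      exact Ideal.mem_sup_right (Ideal.mem_span_singleton_self x)
    have h1 : Kb b (LocCoh.H (a ⊔ Ideal.span {x}) i M) :=
      ih (a ⊔ Ideal.span {x}) hlt b M i
        (lt_of_lt_of_le hi (minAdjDepth_mono le_sup_left b M))
    exact kb_of_sup a b x M i h1 n hx

theorem regular_main (a b : Ideal R) (M : Type u) [AddCommGroup M] [Module R M]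
    [Module.Finite R M] : LocCoh.minAdjDepth a b M ≤ LocCoh.finDimRel a b M := by
  unfold LocCoh.finDimRel
  refine le_iInf₂ fun i hi => ?_
  by_contra hlt
  rw [not_le] at hlt
  apply hi
  exact (kb_iff_radical b (IsNoetherian.noetherian b) _).1 (regular_kb R a b M i hlt)

end Main

section Transfer

variable {S R : Type u} [CommRing S] [CommRing R] [IsNoetherianRing S] [IsNoetherianRing R]
  [Algebra S R] (hs : Function.Surjective (algebraMap S R))
  (M : Type u) [AddCommGroup M] [Module R M] [Module S M] [IsScalarTower S R M]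

theorem adjDepth_eq_top_of_not_le' (a' : Ideal S) (p : PrimeSpectrum S)
    (hc : ¬ RingHom.ker (algebraMap S R) ≤ p.asIdeal) : LocCoh.adjDepth a' M p = ⊤ := by
  obtain ⟨x, hxc, hxp⟩ := SetLike.not_le_iff_exists.1 hc
  haveI : Subsingleton (LocalizedModule p.asIdeal.primeCompl M) := by
    rw [LocalizedModule.subsingleton_iff]
    intro m
    refine ⟨x, hxp, ?_⟩
    rw [← algebraMap_smul R x m, (RingHom.mem_ker).1 hxc, zero_smul]
  unfold LocCoh.adjDepth LocCoh.depth LocCoh.idealDepth
  rw [if_pos (Subsingleton.elim _ _), top_add]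

include hs in
theorem adjDepth_surj [Module.Finite R M] (a : Ideal R) (P : PrimeSpectrum R) :
    LocCoh.adjDepth a M P =
      LocCoh.adjDepth (a.comap (algebraMap S R)) M
        (⟨P.asIdeal.comap (algebraMap S R), inferInstance⟩ : PrimeSpectrum S) := by
  have h1 := (Groth.Agent.Lib.DMod_helper6.depth_dim_transfer hs M P.asIdeal).1
  have h2 : ((a ⊔ P.asIdeal).map (Ideal.Quotient.mk P.asIdeal)).height =
      ((a.comap (algebraMap S R) ⊔ P.asIdeal.comap (algebraMap S R)).map
        (Ideal.Quotient.mk (P.asIdeal.comap (algebraMap S R)))).height := by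
    rw [Groth.Agent.Lib.AdjDepth_helper6.height_quot_eq (Ideal.Quotient.mk P.asIdeal)
        Ideal.Quotient.mk_surjective a P.asIdeal Ideal.mk_ker,
      Groth.Agent.Lib.AdjDepth_helper6.height_quot_eq
        ((Ideal.Quotient.mk P.asIdeal).comp (algebraMap S R))
        (Ideal.Quotient.mk_surjective.comp hs) (a.comap (algebraMap S R))
        (P.asIdeal.comap (algebraMap S R)) (by rw [← RingHom.comap_ker, Ideal.mk_ker]),
      ← Ideal.map_map, Ideal.map_comap_of_surjective _ hs]
  unfold LocCoh.adjDepth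
  rw [h2]
  congr 1
  exact h1.symm

include hs in
theorem minAdjDepth_transfer [Module.Finite R M] (a b : Ideal R) :
    LocCoh.minAdjDepth a b M ≤
      LocCoh.minAdjDepth (a.comap (algebraMap S R)) (b.comap (algebraMap S R)) M := by
  unfold LocCoh.minAdjDepth
  refine le_iInf₂ fun p hp => ?_
  by_cases hc : RingHom.ker (algebraMap S R) ≤ p.asIdeal
  · have hprime : (p.asIdeal.map (algebraMap S R)).IsPrime :=
      Ideal.map_isPrime_of_surjective hs hc
    let P : PrimeSpectrum R := ⟨p.asIdeal.map (algebraMap S R), hprime⟩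
    have hcomap : P.asIdeal.comap (algebraMap S R) = p.asIdeal := by
      show (p.asIdeal.map (algebraMap S R)).comap (algebraMap S R) = p.asIdeal
      rw [Ideal.comap_map_of_surjective _ hs, ← RingHom.ker_eq_comap_bot, sup_eq_left.2 hc]
    have hpeq : (⟨P.asIdeal.comap (algebraMap S R), inferInstance⟩ : PrimeSpectrum S) = p :=
      PrimeSpectrum.ext hcomap
    have hP : ¬ b ≤ P.asIdeal := by
      intro h
      apply hp
      rw [← hcomap]
      exact Ideal.comap_mono h
    refine (iInf₂_le P hP).trans ?_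
    rw [adjDepth_surj hs M a P, hpeq]
  · rw [adjDepth_eq_top_of_not_le' M _ p hc]
    exact le_top

theorem ann_transfer (a' : Ideal S) (a : Ideal R) (ha : a'.map (algebraMap S R) = a) (i : ℕ)
    (s : S) (hkill : ∀ z : LocCoh.H a' i M, s • z = 0) :
    ∀ z : LocCoh.H a i M, algebraMap S R s • z = 0 := by
  subst ha
  obtain ⟨φ, hφ⟩ := Groth.Agent.Lib.LocCohBaseIndepH7.main (R := S) R a' i M
  intro z
  have h1 := hφ s z
  rw [hkill] at h1
  exact (AddEquiv.map_eq_zero_iff φ).1 h1

include hs in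
theorem finDimRel_transfer (a b : Ideal R) :
    LocCoh.finDimRel (a.comap (algebraMap S R)) (b.comap (algebraMap S R)) M ≤
      LocCoh.finDimRel a b M := by
  unfold LocCoh.finDimRel
  refine le_iInf₂ fun i hi => ?_
  refine iInf₂_le i ?_
  intro hle
  apply hi
  intro r hr
  obtain ⟨s, rfl⟩ := hs r
  obtain ⟨n, hn⟩ := hle (show s ∈ b.comap (algebraMap S R) from hr)
  refine ⟨n, ?_⟩
  rw [Module.mem_annihilator]
  intro z
  rw [← map_pow]
  exact ann_transfer M (a.comap (algebraMap S R)) a (Ideal.map_comap_of_surjective _ hs a) i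
    (s ^ n) (fun w => Module.mem_annihilator.1 hn w) z

end Transfer

/-- S11660: Faltings' annihilator theorem, the inequality `λ_a^b(M) ≤ f_a^b(M)` -/
theorem main (S : Type u) [CommRing S] [IsRegularRing S] (R : Type u) [CommRing R]
    [IsNoetherianRing R] (π : S →+* R) (hπ : Function.Surjective π) (a b : Ideal R)
    (M : Type u) [AddCommGroup M] [Module R M] [Module.Finite R M] :
    LocCoh.minAdjDepth a b M ≤ LocCoh.finDimRel a b M := by
  letI : Algebra S R := π.toAlgebra
  letI : Module S M := Module.compHom M π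
  haveI : IsScalarTower S R M := IsScalarTower.of_algebraMap_smul (fun r m => rfl)
  have hs : Function.Surjective (algebraMap S R) := hπ
  haveI : Module.Finite S R := Module.Finite.of_surjective (Algebra.linearMap S R) hs
  haveI : Module.Finite S M := Module.Finite.trans R M
  calc LocCoh.minAdjDepth a b M
      ≤ LocCoh.minAdjDepth (a.comap (algebraMap S R)) (b.comap (algebraMap S R)) M :=
        minAdjDepth_transfer hs M a b
    _ ≤ LocCoh.finDimRel (a.comap (algebraMap S R)) (b.comap (algebraMap S R)) M :=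
        regular_main S _ _ M
    _ ≤ LocCoh.finDimRel a b M := finDimRel_transfer hs M a b

end Groth.Agent.Lib.FaltingsAnn_helper6
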