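import Mathlib
import Groth.Prelude.Def_CAlg
import Groth.Agent.Lib.Depth_helper5

/-!
# Semicontinuity of depth along `V(p)` (helper6)
-/

set_option autoImplicit false
universe u

namespace Groth.Agent.Lib.DepthSemi_helper6

open Groth.Agent.DepthLib

theorem enat_eq_add_one {d d' : ℕ∞}
    (h : ∀ n : ℕ, (n : ℕ∞) ≤ d' ↔ ((n + 1 : ℕ) : ℕ∞) ≤ d) : d = d' + 1 := by
  induction d' using ENat.recTopCoe with
  | top =>
    rw [top_add]
    induction d using ENat.recTopCoe with
    | top => rfl
    | coe k =>
      have h1 := (h k).1 le_top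
      exfalso
      have h2 : k + 1 ≤ k := by exact_mod_cast h1
      omega
  | coe k =>
    have h1 := (h k).1 le_rfl
    have h2 : ¬ ((k + 1 + 1 : ℕ) : ℕ∞) ≤ d := by
      intro h3
      have h4 := (h (k + 1)).2 h3
      have h5 : k + 1 ≤ k := by exact_mod_cast h4
      omega
    induction d using ENat.recTopCoe with
    | top => exact absurd le_top h2
    | coe j =>
      have h1' : k + 1 ≤ j := by exact_mod_cast h1
      have h2' : ¬ (k + 1 + 1 ≤ j) := by
        intro h3
        apply h2
        exact_mod_cast h3
      have h6 : j = k + 1 := by omega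
      subst h6
      simp

theorem enat_cancel {d' : ℕ∞} {e : ℕ} (h : d' + 1 = ((e + 1 : ℕ) : ℕ∞)) : d' = e := by
  induction d' using ENat.recTopCoe with
  | top =>
    exfalso
    rw [top_add] at h
    exact ENat.top_ne_coe _ h
  | coe k =>
    have h1 : k + 1 = e + 1 := by exact_mod_cast h
    have h2 : k = e := by omega
    rw [h2]

section

variable {R : Type u} [CommRing R] [IsNoetherianRing R] (M : Type u) [AddCommGroup M] [Module R M]
  [Module.Finite R M]

theorem mem_associatedPrimes_of_depth_eq_zero (q : Ideal R) [q.IsPrime]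
    (h : LocCoh.depth (Localization.AtPrime q) (LocalizedModule q.primeCompl M) = 0) :
    q ∈ associatedPrimes R M := by
  haveI : IsNoetherianRing (Localization.AtPrime q) :=
    IsLocalization.isNoetherianRing q.primeCompl _ inferInstance
  haveI : Module.Finite (Localization.AtPrime q) (LocalizedModule q.primeCompl M) :=
    Module.Finite.of_isLocalizedModule q.primeCompl (LocalizedModule.mkLinearMap q.primeCompl M)
  have h1 : ¬ 1 ≤ LocCoh.idealDepth (IsLocalRing.maximalIdeal (Localization.AtPrime q))
      (LocalizedModule q.primeCompl M) := by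
    unfold LocCoh.depth at h
    rw [h]
    simp
  obtain ⟨Q, hQ, hle⟩ := exists_associatedPrime_of_not_one_le _ _ h1
  have hQmax : Q = IsLocalRing.maximalIdeal (Localization.AtPrime q) :=
    le_antisymm (IsLocalRing.le_maximalIdeal hQ.isPrime.ne_top) hle
  have h2 := Module.associatedPrimes.comap_mem_associatedPrimes_of_mem_associatedPrimes_of_isLocalizedModule_of_fg
    q.primeCompl (LocalizedModule.mkLinearMap q.primeCompl M) Q hQ
    ((isNoetherianRing_iff_ideal_fg R).mp inferInstance _)
  have h3 : Ideal.comap (algebraMap R (Localization.AtPrime q))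
      (IsLocalRing.maximalIdeal (Localization.AtPrime q)) = q :=
    Localization.AtPrime.under_maximalIdeal
  rw [hQmax, h3] at h2
  exact h2

theorem isSMulRegular_localized (x f : R) (hf : ∀ m : M, x • m = 0 → f • m = 0) (q : Ideal R)
    [q.IsPrime] (hfq : f ∉ q) :
    IsSMulRegular (LocalizedModule q.primeCompl M) (algebraMap R (Localization.AtPrime q) x) := by
  rw [isSMulRegular_iff_right_eq_zero_of_smul]
  intro z hz
  induction z using LocalizedModule.induction_on with
  | h m s =>
    rw [algebraMap_smul, LocalizedModule.smul'_mk, ← LocalizedModule.zero_mk s,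
      LocalizedModule.mk_eq] at hz
    obtain ⟨u, hu⟩ := hz
    simp only [Submonoid.smul_def, smul_zero] at hu
    have h1 : x • (((u : R) * (s : R)) • m) = 0 := by
      rw [← hu]
      simp only [smul_smul]
      congr 1
      ring
    have h2 := hf _ h1
    rw [← LocalizedModule.zero_mk s, LocalizedModule.mk_eq]
    refine ⟨⟨f * ((u : R) * (s : R)),
      q.primeCompl.mul_mem hfq (q.primeCompl.mul_mem u.2 s.2)⟩, ?_⟩
    simp only [Submonoid.smul_def, smul_zero]
    rw [smul_comm, mul_smul, h2, smul_zero]

theorem depth_localized_eq_add_one (x f : R) (hf : ∀ m : M, x • m = 0 → f • m = 0) (q : Ideal R)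
    [q.IsPrime] (hxq : x ∈ q) (hfq : f ∉ q) :
    LocCoh.depth (Localization.AtPrime q) (LocalizedModule q.primeCompl M) =
      LocCoh.depth (Localization.AtPrime q) (LocalizedModule q.primeCompl (QuotSMulTop x M)) + 1 := by
  haveI : IsNoetherianRing (Localization.AtPrime q) :=
    IsLocalization.isNoetherianRing q.primeCompl _ inferInstance
  haveI : Module.Finite (Localization.AtPrime q) (LocalizedModule q.primeCompl M) :=
    Module.Finite.of_isLocalizedModule q.primeCompl (LocalizedModule.mkLinearMap q.primeCompl M)
  haveI : Module.Finite (Localization.AtPrime q) (LocalizedModule q.primeCompl (QuotSMulTop x M)) :=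
    Module.Finite.of_isLocalizedModule q.primeCompl
      (LocalizedModule.mkLinearMap q.primeCompl (QuotSMulTop x M))
  have hx'mem : algebraMap R (Localization.AtPrime q) x ∈
      IsLocalRing.maximalIdeal (Localization.AtPrime q) :=
    (IsLocalization.AtPrime.to_map_mem_maximal_iff _ q x).2 hxq
  have hreg := isSMulRegular_localized M x f hf q hfq
  let g : M →ₗ[R] QuotSMulTop x M := Submodule.mkQ _
  have hgs : Function.Surjective g := Submodule.mkQ_surjective _
  have hex : Function.Exact (x • LinearMap.id : M →ₗ[R] M) g := by
    intro m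
    show Submodule.mkQ _ m = 0 ↔ _
    rw [Submodule.mkQ_apply, Submodule.Quotient.mk_eq_zero]
    constructor
    · intro hm
      obtain ⟨m', _, hm'⟩ := (Submodule.mem_smul_pointwise_iff_exists _ _ _).1 hm
      exact ⟨m', hm'⟩
    · rintro ⟨m', rfl⟩
      exact Submodule.smul_mem_pointwise_smul _ _ _ Submodule.mem_top
  let gq := LocalizedModule.map q.primeCompl g
  have hgqs : Function.Surjective gq := LocalizedModule.map_surjective q.primeCompl g hgs
  have hexq0 := LocalizedModule.map_exact q.primeCompl _ _ hex
  have hmapg : ∀ y, IsLocalizedModule.map q.primeCompl (LocalizedModule.mkLinearMap q.primeCompl M)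
      (LocalizedModule.mkLinearMap q.primeCompl (QuotSMulTop x M)) g y = gq y := by
    intro y
    induction y using LocalizedModule.induction_on with
    | h m s => rw [IsLocalizedModule.map_LocalizedModules, LocalizedModule.map_mk]
  have hmapx : ∀ z, IsLocalizedModule.map q.primeCompl (LocalizedModule.mkLinearMap q.primeCompl M)
      (LocalizedModule.mkLinearMap q.primeCompl M) (x • LinearMap.id : M →ₗ[R] M) z =
      algebraMap R (Localization.AtPrime q) x • z := by
    intro z
    induction z using LocalizedModule.induction_on with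
    | h m s =>
      rw [IsLocalizedModule.map_LocalizedModules, algebraMap_smul, LocalizedModule.smul'_mk]
      rfl
  have hexq : Function.Exact
      (algebraMap R (Localization.AtPrime q) x • LinearMap.id :
        LocalizedModule q.primeCompl M →ₗ[Localization.AtPrime q] LocalizedModule q.primeCompl M)
      gq := by
    intro y
    rw [← hmapg y, hexq0 y]
    constructor
    · rintro ⟨z, rfl⟩
      exact ⟨z, (hmapx z).symm⟩
    · rintro ⟨z, rfl⟩
      exact ⟨z, hmapx z⟩
  apply enat_eq_add_one
  intro n
  exact le_idealDepth_iff_of_smul_ses (IsLocalRing.maximalIdeal (Localization.AtPrime q))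
    (LocalizedModule q.primeCompl M) (LocalizedModule q.primeCompl (QuotSMulTop x M)) hx'mem hreg
    gq hgqs hexq n

end

theorem main {R : Type u} [CommRing R] [IsNoetherianRing R] (p : Ideal R) [p.IsPrime] :
    ∀ (e : ℕ) (M : Type u) [AddCommGroup M] [Module R M] [Module.Finite R M],
      LocCoh.depth (Localization.AtPrime p) (LocalizedModule p.primeCompl M) = e →
      ∃ f : R, f ∉ p ∧
        (∀ (q : Ideal R) [q.IsPrime], p ≤ q → f ∉ q →
          (e : ℕ∞) ≤ LocCoh.depth (Localization.AtPrime q) (LocalizedModule q.primeCompl M)) ∧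
        {q : PrimeSpectrum R | p ≤ q.asIdeal ∧ f ∉ q.asIdeal ∧
          LocCoh.depth (Localization.AtPrime q.asIdeal)
            (LocalizedModule q.asIdeal.primeCompl M) = e}.Finite := by
  intro e
  induction e with
  | zero =>
    intro M _ _ _ _
    refine ⟨1, fun h => (inferInstance : p.IsPrime).ne_top ((Ideal.eq_top_iff_one p).2 h), ?_, ?_⟩
    · intro q _ _ _
      simp
    · have hfin : {q : PrimeSpectrum R | q.asIdeal ∈ associatedPrimes R M}.Finite :=
        (associatedPrimes.finite R M).preimage
          (fun a _ b _ hab => PrimeSpectrum.ext hab)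
      refine hfin.subset ?_
      rintro q ⟨_, _, h3⟩
      exact mem_associatedPrimes_of_depth_eq_zero M q.asIdeal (by simpa using h3)
  | succ e ih =>
    intro M _ _ _ he
    haveI : IsNoetherianRing (Localization.AtPrime p) :=
      IsLocalization.isNoetherianRing p.primeCompl _ inferInstance
    -- a regular element in `p`
    have h1 : 1 ≤ LocCoh.idealDepth (IsLocalRing.maximalIdeal (Localization.AtPrime p))
        (LocalizedModule p.primeCompl M) := by
      unfold LocCoh.depth at he
      rw [he]
      exact_mod_cast Nat.succ_le_succ (Nat.zero_le e)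
    have hnt : ¬ (IsLocalRing.maximalIdeal (Localization.AtPrime p) •
        (⊤ : Submodule (Localization.AtPrime p) (LocalizedModule p.primeCompl M)) = ⊤) := by
      intro htop
      unfold LocCoh.depth LocCoh.idealDepth at he
      rw [if_pos htop] at he
      exact ENat.top_ne_coe _ he
    rcases (one_le_idealDepth_iff _ _).1 h1 with htop | ⟨y, hy, hyreg⟩
    · exact absurd htop hnt
    obtain ⟨x, s, rfl⟩ := IsLocalization.exists_mk'_eq p.primeCompl y
    have hxp : x ∈ p := (IsLocalization.AtPrime.mk'_mem_maximal_iff _ p x s).1 hy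
    have hxreg : IsSMulRegular (LocalizedModule p.primeCompl M)
        (algebraMap R (Localization.AtPrime p) x) := by
      have hu : IsUnit (algebraMap R (Localization.AtPrime p) (s : R)) :=
        IsLocalization.map_units _ s
      have h2 : algebraMap R (Localization.AtPrime p) x =
          algebraMap R (Localization.AtPrime p) (s : R) * IsLocalization.mk' _ x s := by
        rw [mul_comm, IsLocalization.mk'_spec]
      rw [h2]
      exact (hu.isSMulRegular _).mul hyreg
    -- the kernel of `x` is killed by some `f ∉ p`
    let K : Submodule R M := LinearMap.ker (x • LinearMap.id : M →ₗ[R] M)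
    have hK : ∀ m : M, m ∈ K ↔ x • m = 0 := fun m => by
      show (x • LinearMap.id : M →ₗ[R] M) m = 0 ↔ _
      rfl
    haveI : IsNoetherian R M := isNoetherian_of_isNoetherianRing_of_finite R M
    haveI : Module.Finite R K := Module.Finite.of_fg (IsNoetherian.noetherian K)
    have hKp : Subsingleton (LocalizedModule p.primeCompl K) := by
      rw [LocalizedModule.subsingleton_iff]
      intro k
      have hk : x • (k : M) = 0 := (hK _).1 k.2
      have h3 : algebraMap R (Localization.AtPrime p) x •
          (LocalizedModule.mk (k : M) (1 : p.primeCompl) : LocalizedModule p.primeCompl M) = 0 := by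
        rw [algebraMap_smul, LocalizedModule.smul'_mk, hk, LocalizedModule.zero_mk]
      have h4 := (isSMulRegular_iff_right_eq_zero_of_smul.1 hxreg) _ h3
      rw [← LocalizedModule.zero_mk 1, LocalizedModule.mk_eq] at h4
      obtain ⟨u, hu⟩ := h4
      simp only [Submonoid.smul_def, smul_zero, one_smul] at hu
      exact ⟨u, u.2, Subtype.ext hu⟩
    have hsupp : (⟨p, inferInstance⟩ : PrimeSpectrum R) ∉ Module.support R K :=
      Module.notMem_support_iff.2 hKp
    rw [Module.mem_support_iff_of_finite] at hsupp
    obtain ⟨f, hfann, hfp⟩ := SetLike.not_le_iff_exists.1 hsupp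
    have hf : ∀ m : M, x • m = 0 → f • m = 0 := by
      intro m hm
      have h5 := ((Module.mem_annihilator (R := R) (M := K)).1 hfann) (⟨m, (hK m).2 hm⟩ : K)
      exact congrArg Subtype.val h5
    -- the quotient has depth `e` at `p`
    have heq := depth_localized_eq_add_one M x f hf p hxp hfp
    rw [he] at heq
    have he' := (enat_cancel heq.symm)
    obtain ⟨f', hf'p, hge, hfin⟩ := ih (QuotSMulTop x M) he'
    refine ⟨f * f', fun h => (Ideal.IsPrime.mem_or_mem inferInstance h).elim hfp hf'p, ?_, ?_⟩
    · intro q _ hpq hq
      have hfq : f ∉ q := fun h => hq (Ideal.mul_mem_right _ _ h)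
      have hf'q : f' ∉ q := fun h => hq (Ideal.mul_mem_left _ _ h)
      rw [depth_localized_eq_add_one M x f hf q (hpq hxp) hfq]
      have h6 := hge q hpq hf'q
      have h7 : ((e + 1 : ℕ) : ℕ∞) = (e : ℕ∞) + 1 := by simp
      rw [h7]
      exact add_le_add h6 le_rfl
    · refine hfin.subset ?_
      rintro q ⟨hpq, hq, h3⟩
      have hfq : f ∉ q.asIdeal := fun h => hq (Ideal.mul_mem_right _ _ h)
      have hf'q : f' ∉ q.asIdeal := fun h => hq (Ideal.mul_mem_left _ _ h)
      refine ⟨hpq, hf'q, ?_⟩
      rw [depth_localized_eq_add_one M x f hf q.asIdeal (hpq hxp) hfq] at h3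
      exact enat_cancel h3

end Groth.Agent.Lib.DepthSemi_helper6
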