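import Mathlib
import Groth.Prelude.Def_CAlg
import Groth.Agent.Lib.Depth_helper5
import Groth.Agent.Lib.DepthLoc_helper5
import Groth.Agent.Lib.DepthChain_helper5
import Groth.Agent.Lib.DepthSemi_helper6
import Groth.Agent.Lib.SupportLoc_helper5

/-!
# Dimension and depth under restriction of scalars along `A → B`, `M` finite over `A` (helper6)

`A → B` Noetherian rings, `M` a `B`-module finite over `A`, `p` a prime of `A`:
* `supportDim_eq_iSup`: `dim M_p = sup_q dim M_q`,
* `depth_eq_iInf`: `depth M_p = inf_q depth M_q`,
`q` running over the primes of `B` over `p` in the support of `M`.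
-/

set_option autoImplicit false
universe u

namespace Groth.Agent.Lib.FiniteRestrict_helper6

open Groth.Agent.DepthLib Pointwise

section KeyStep

variable {R : Type u} [CommRing R] [IsNoetherianRing R] (M M' : Type u) [AddCommGroup M]
  [Module R M] [Module.Finite R M] [AddCommGroup M'] [Module R M'] [Module.Finite R M']

theorem le_depth_iff_of_exact (x : R) (g : M →ₗ[R] M') (hgs : Function.Surjective g)
    (hex : Function.Exact (x • LinearMap.id : M →ₗ[R] M) g) (q : Ideal R) [q.IsPrime]
    (hxq : x ∈ q)
    (hreg : IsSMulRegular (LocalizedModule q.primeCompl M)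
      (algebraMap R (Localization.AtPrime q) x)) (n : ℕ) :
    (n : ℕ∞) ≤ LocCoh.depth (Localization.AtPrime q) (LocalizedModule q.primeCompl M') ↔
      ((n + 1 : ℕ) : ℕ∞) ≤
        LocCoh.depth (Localization.AtPrime q) (LocalizedModule q.primeCompl M) := by
  haveI : IsNoetherianRing (Localization.AtPrime q) :=
    IsLocalization.isNoetherianRing q.primeCompl _ inferInstance
  haveI : Module.Finite (Localization.AtPrime q) (LocalizedModule q.primeCompl M) :=
    Module.Finite.of_isLocalizedModule q.primeCompl (LocalizedModule.mkLinearMap q.primeCompl M)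
  haveI : Module.Finite (Localization.AtPrime q) (LocalizedModule q.primeCompl M') :=
    Module.Finite.of_isLocalizedModule q.primeCompl (LocalizedModule.mkLinearMap q.primeCompl M')
  have hx'mem : algebraMap R (Localization.AtPrime q) x ∈
      IsLocalRing.maximalIdeal (Localization.AtPrime q) :=
    (IsLocalization.AtPrime.to_map_mem_maximal_iff _ q x).2 hxq
  let gq := LocalizedModule.map q.primeCompl g
  have hgqs : Function.Surjective gq := LocalizedModule.map_surjective q.primeCompl g hgs
  have hexq0 := LocalizedModule.map_exact q.primeCompl _ _ hex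
  have hmapg : ∀ y, IsLocalizedModule.map q.primeCompl (LocalizedModule.mkLinearMap q.primeCompl M)
      (LocalizedModule.mkLinearMap q.primeCompl M') g y = gq y := by
    intro y
    induction y using LocalizedModule.induction_on with
    | h m s => rw [IsLocalizedModule.map_LocalizedModules, LocalizedModule.map_mk]
  have hmapx : ∀ z, IsLocalizedModule.map q.primeCompl (LocalizedModule.mkLinearMap q.primeCompl M)
      (LocalizedModule.mkLinearMap q.primeCompl M) (x • LinearMap.id : M →ₗ[R] M) z =
      algebraMap R (Localization.AtPrime q) x • z := by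
    intro z
    induction z using LocalizedModule.induction_on with
    | h m s =>
      rw [IsLocalizedModule.map_LocalizedModules, algebraMap_smul, LocalizedModule.smul'_mk]
      rfl
  have hexq : Function.Exact
      (algebraMap R (Localization.AtPrime q) x • LinearMap.id :
        LocalizedModule q.primeCompl M →ₗ[Localization.AtPrime q] LocalizedModule q.primeCompl M)
      gq := by
    intro y
    rw [← hmapg y, hexq0 y]
    constructor
    · rintro ⟨z, rfl⟩
      exact ⟨z, (hmapx z).symm⟩
    · rintro ⟨z, rfl⟩
      exact ⟨z, hmapx z⟩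
  unfold LocCoh.depth
  exact le_idealDepth_iff_of_smul_ses (IsLocalRing.maximalIdeal (Localization.AtPrime q))
    (LocalizedModule q.primeCompl M) (LocalizedModule q.primeCompl M') hx'mem hreg
    gq hgqs hexq n

end KeyStep

theorem depth_eq_top_of_subsingleton (R : Type u) [CommRing R] [IsLocalRing R] (N : Type u)
    [AddCommGroup N] [Module R N] [Subsingleton N] : LocCoh.depth R N = ⊤ := by
  unfold LocCoh.depth LocCoh.idealDepth
  rw [if_pos (Subsingleton.elim _ _)]

section Setup

variable {A B : Type u} [CommRing A] [CommRing B] [Algebra A B] (M : Type u) [AddCommGroup M]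
  [Module B M] [Module A M] [IsScalarTower A B M]

theorem subsingleton_of_over (p : Ideal A) [p.IsPrime] (q : Ideal B) [q.IsPrime]
    (hqp : q.comap (algebraMap A B) = p) (h : Subsingleton (LocalizedModule p.primeCompl M)) :
    Subsingleton (LocalizedModule q.primeCompl M) := by
  rw [LocalizedModule.subsingleton_iff] at h ⊢
  intro m
  obtain ⟨r, hr, hrm⟩ := h m
  refine ⟨algebraMap A B r, ?_, by rw [algebraMap_smul]; exact hrm⟩
  intro hmem
  apply hr
  rw [← hqp]
  exact hmem

theorem comap_mem_support (q : PrimeSpectrum B) (hq : q ∈ Module.support B M) :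
    (⟨q.asIdeal.comap (algebraMap A B), inferInstance⟩ : PrimeSpectrum A) ∈
      Module.support A M := by
  rw [Module.mem_support_iff] at hq ⊢
  by_contra hcon
  rw [not_nontrivial_iff_subsingleton] at hcon
  haveI := subsingleton_of_over M (q.asIdeal.comap (algebraMap A B)) q.asIdeal rfl hcon
  exact not_nontrivial _ hq

theorem regular_of_over (x : A) (p : Ideal A) [p.IsPrime] (q : Ideal B) [q.IsPrime]
    (hqp : q.comap (algebraMap A B) = p)
    (h : IsSMulRegular (LocalizedModule p.primeCompl M)
      (algebraMap A (Localization.AtPrime p) x)) :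
    IsSMulRegular (LocalizedModule q.primeCompl M)
      (algebraMap B (Localization.AtPrime q) (algebraMap A B x)) := by
  rw [isSMulRegular_localizedModule_iff] at h ⊢
  intro m hm
  rw [algebraMap_smul] at hm
  obtain ⟨t, ht, htm⟩ := h m hm
  refine ⟨algebraMap A B t, ?_, by rw [algebraMap_smul]; exact htm⟩
  intro hmem
  apply ht
  rw [← hqp]
  exact hmem

theorem exact_B (y : B) :
    Function.Exact (y • LinearMap.id : M →ₗ[B] M) (Submodule.mkQ (y • (⊤ : Submodule B M))) := by
  intro m
  rw [Submodule.mkQ_apply, Submodule.Quotient.mk_eq_zero]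
  constructor
  · intro hm
    obtain ⟨m', _, hm'⟩ := (Submodule.mem_smul_pointwise_iff_exists _ _ _).1 hm
    exact ⟨m', hm'⟩
  · rintro ⟨m', rfl⟩
    exact Submodule.smul_mem_pointwise_smul _ _ _ Submodule.mem_top

theorem exact_A (x : A) :
    Function.Exact (x • LinearMap.id : M →ₗ[A] M)
      ((Submodule.mkQ ((algebraMap A B x) • (⊤ : Submodule B M))).restrictScalars A) := by
  intro m
  show Submodule.mkQ ((algebraMap A B x) • (⊤ : Submodule B M)) m = 0 ↔ _
  rw [Submodule.mkQ_apply, Submodule.Quotient.mk_eq_zero]
  constructor
  · intro hm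
    obtain ⟨m', _, hm'⟩ := (Submodule.mem_smul_pointwise_iff_exists _ _ _).1 hm
    refine ⟨m', ?_⟩
    rw [LinearMap.smul_apply, LinearMap.id_apply, ← hm', algebraMap_smul]
  · rintro ⟨m', rfl⟩
    have h1 : (x • LinearMap.id : M →ₗ[A] M) m' = algebraMap A B x • m' := by
      rw [LinearMap.smul_apply, LinearMap.id_apply, algebraMap_smul]
    rw [h1]
    exact Submodule.smul_mem_pointwise_smul _ _ _ Submodule.mem_top

/-- an associated prime of `M` over `A` is the contraction of an associated prime over `B` -/
theorem exists_ass_over [IsNoetherianRing A] [IsNoetherianRing B] (p : Ideal A)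
    (hpAss : p ∈ associatedPrimes A M) :
    ∃ q ∈ associatedPrimes B M, q.comap (algebraMap A B) = p := by
  obtain ⟨hpprime, m, hm⟩ := isAssociatedPrime_iff.1 hpAss
  haveI := hpprime
  have hcomap : ((⊥ : Submodule B M).colon {m}).comap (algebraMap A B) = p := by
    ext a
    rw [Ideal.mem_comap, hm, Submodule.mem_colon_singleton, Submodule.mem_colon_singleton,
      Submodule.mem_bot, Submodule.mem_bot, algebraMap_smul]
  have hpmin : p ∈ (((⊥ : Submodule B M).colon {m}).comap (algebraMap A B)).minimalPrimes := by
    rw [hcomap, Ideal.minimalPrimes_eq_subsingleton_self]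
    exact Set.mem_singleton p
  obtain ⟨q, hqmin, hq⟩ := Ideal.exists_minimalPrimes_comap_eq (algebraMap A B) p hpmin
  obtain ⟨m', hm'⟩ := Submodule.exists_eq_colon_of_mem_minimalPrimes hqmin
  exact ⟨q, isAssociatedPrime_iff.2 ⟨hqmin.1.1, m', hm'⟩, hq⟩

end Setup

section Depth

variable {A B : Type u} [CommRing A] [CommRing B] [Algebra A B] [IsNoetherianRing A]
  [IsNoetherianRing B]

theorem le_depth_iff (p : Ideal A) [p.IsPrime] (n : ℕ) :
    ∀ (M : Type u) [AddCommGroup M] [Module B M] [Module A M] [IsScalarTower A B M]
      [Module.Finite A M],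
      ((n : ℕ∞) ≤ LocCoh.depth (Localization.AtPrime p) (LocalizedModule p.primeCompl M) ↔
        ∀ (q : Ideal B) [q.IsPrime], q.comap (algebraMap A B) = p →
          (n : ℕ∞) ≤ LocCoh.depth (Localization.AtPrime q) (LocalizedModule q.primeCompl M)) := by
  induction n with
  | zero =>
    intro M _ _ _ _ _
    simp
  | succ n ih =>
    intro M _ _ _ _ _
    haveI : Module.Finite B M := Module.Finite.of_restrictScalars_finite A B M
    haveI : IsNoetherianRing (Localization.AtPrime p) :=
      IsLocalization.isNoetherianRing p.primeCompl _ inferInstance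
    haveI : Module.Finite (Localization.AtPrime p) (LocalizedModule p.primeCompl M) :=
      Module.Finite.of_isLocalizedModule p.primeCompl (LocalizedModule.mkLinearMap p.primeCompl M)
    have hmain : 1 ≤ LocCoh.depth (Localization.AtPrime p) (LocalizedModule p.primeCompl M) →
        (((n + 1 : ℕ) : ℕ∞) ≤
            LocCoh.depth (Localization.AtPrime p) (LocalizedModule p.primeCompl M) ↔
          ∀ (q : Ideal B) [q.IsPrime], q.comap (algebraMap A B) = p →
            ((n + 1 : ℕ) : ℕ∞) ≤
              LocCoh.depth (Localization.AtPrime q) (LocalizedModule q.primeCompl M)) := by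
      intro h1
      unfold LocCoh.depth at h1
      rcases (one_le_idealDepth_iff _ _).1 h1 with htop | ⟨y, hy, hyreg⟩
      · have hbot : (⊤ : Submodule (Localization.AtPrime p) (LocalizedModule p.primeCompl M)) = ⊥ :=
          Submodule.eq_bot_of_le_smul_of_le_jacobson_bot _ ⊤ Module.Finite.fg_top (by rw [htop])
            (IsLocalRing.maximalIdeal_le_jacobson _)
        have hsub : Subsingleton (LocalizedModule p.primeCompl M) := by
          rw [← Submodule.subsingleton_iff (Localization.AtPrime p)]
          exact subsingleton_of_bot_eq_top hbot.symm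
        constructor
        · intro _ q _ hqp
          haveI := subsingleton_of_over M p q hqp hsub
          rw [depth_eq_top_of_subsingleton]
          exact le_top
        · intro _
          rw [depth_eq_top_of_subsingleton]
          exact le_top
      · rw [← Localization.AtPrime.map_eq_maximalIdeal] at hy
        obtain ⟨⟨⟨x, hx⟩, t⟩, hxt⟩ :=
          (IsLocalization.mem_map_algebraMap_iff p.primeCompl (Localization.AtPrime p)).1 hy
        have hxreg : IsSMulRegular (LocalizedModule p.primeCompl M)
            (algebraMap A (Localization.AtPrime p) x) := by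
          have hu : IsUnit (algebraMap A (Localization.AtPrime p) (t : A)) :=
            IsLocalization.map_units _ t
          have := hyreg.mul (hu.isSMulRegular (LocalizedModule p.primeCompl M))
          rw [hxt] at this
          exact this
        have hgs : Function.Surjective
            ((Submodule.mkQ ((algebraMap A B x) • (⊤ : Submodule B M))).restrictScalars A) := by
          intro z
          obtain ⟨m, rfl⟩ := Submodule.mkQ_surjective _ z
          exact ⟨m, rfl⟩
        haveI : Module.Finite A (QuotSMulTop (algebraMap A B x) M) :=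
          Module.Finite.of_surjective
            ((Submodule.mkQ ((algebraMap A B x) • (⊤ : Submodule B M))).restrictScalars A) hgs
        have hA := le_depth_iff_of_exact M (QuotSMulTop (algebraMap A B x) M) x
          ((Submodule.mkQ ((algebraMap A B x) • (⊤ : Submodule B M))).restrictScalars A)
          hgs (exact_A M x) p hx hxreg n
        have hB : ∀ (q : Ideal B) [q.IsPrime], q.comap (algebraMap A B) = p →
            ((n : ℕ∞) ≤ LocCoh.depth (Localization.AtPrime q)
                (LocalizedModule q.primeCompl (QuotSMulTop (algebraMap A B x) M)) ↔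
              ((n + 1 : ℕ) : ℕ∞) ≤ LocCoh.depth (Localization.AtPrime q)
                (LocalizedModule q.primeCompl M)) := by
          intro q _ hqp
          have hxq : algebraMap A B x ∈ q := by
            have h2 : x ∈ q.comap (algebraMap A B) := by rw [hqp]; exact hx
            exact h2
          exact le_depth_iff_of_exact M (QuotSMulTop (algebraMap A B x) M) (algebraMap A B x)
            (Submodule.mkQ _) (Submodule.mkQ_surjective _) (exact_B M _) q hxq
            (regular_of_over M x p q hqp hxreg) n
        rw [← hA, ih (QuotSMulTop (algebraMap A B x) M)]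
        constructor
        · intro h q _ hqp
          exact (hB q hqp).1 (h q hqp)
        · intro h q _ hqp
          exact (hB q hqp).2 (h q hqp)
    have hone : (1 : ℕ∞) ≤ ((n + 1 : ℕ) : ℕ∞) := by
      exact_mod_cast Nat.succ_le_succ (Nat.zero_le n)
    constructor
    · intro h
      exact (hmain (le_trans hone h)).1 h
    · intro h
      by_cases h1 : 1 ≤ LocCoh.depth (Localization.AtPrime p) (LocalizedModule p.primeCompl M)
      · exact (hmain h1).2 h
      · exfalso
        have h0 : LocCoh.depth (Localization.AtPrime p) (LocalizedModule p.primeCompl M) = 0 :=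
          ENat.lt_one_iff_eq_zero.1 (not_le.1 h1)
        have hpAss := Groth.Agent.Lib.DepthSemi_helper6.mem_associatedPrimes_of_depth_eq_zero M p h0
        obtain ⟨q, hqAss, hqp⟩ := exists_ass_over (B := B) M p hpAss
        haveI := IsAssociatedPrime.isPrime hqAss
        haveI : IsNoetherianRing (Localization.AtPrime q) :=
          IsLocalization.isNoetherianRing q.primeCompl _ inferInstance
        haveI : Module.Finite (Localization.AtPrime q) (LocalizedModule q.primeCompl M) :=
          Module.Finite.of_isLocalizedModule q.primeCompl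
            (LocalizedModule.mkLinearMap q.primeCompl M)
        have hmass :=
          Module.associatedPrimes.mem_associatedPrimes_atPrime_of_mem_associatedPrimes hqAss
        have h2 := not_one_le_idealDepth_of_le_associatedPrime
          (IsLocalRing.maximalIdeal (Localization.AtPrime q))
          (LocalizedModule q.primeCompl M) _ hmass le_rfl
        apply h2
        have h3 := h q hqp
        unfold LocCoh.depth at h3
        exact le_trans hone h3

theorem depth_eq_iInf (M : Type u) [AddCommGroup M] [Module B M] [Module A M]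
    [IsScalarTower A B M] [Module.Finite A M] (p : Ideal A) [p.IsPrime] :
    LocCoh.depth (Localization.AtPrime p) (LocalizedModule p.primeCompl M) =
      ⨅ q ∈ {q : PrimeSpectrum B | q.asIdeal.comap (algebraMap A B) = p ∧
          q ∈ Module.support B M},
        LocCoh.depth (Localization.AtPrime q.asIdeal)
          (LocalizedModule q.asIdeal.primeCompl M) := by
  apply le_antisymm
  · refine le_iInf₂ (fun q hq => ?_)
    rw [← ENat.forall_natCast_le_iff_le]
    intro n hn
    exact (le_depth_iff (B := B) p n M).1 hn q.asIdeal hq.1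
  · rw [← ENat.forall_natCast_le_iff_le]
    intro n hn
    refine (le_depth_iff (B := B) p n M).2 (fun q hqprime hqp => ?_)
    by_cases hqM : (⟨q, hqprime⟩ : PrimeSpectrum B) ∈ Module.support B M
    · exact le_trans hn (iInf₂_le (⟨q, hqprime⟩ : PrimeSpectrum B) ⟨hqp, hqM⟩)
    · haveI : Subsingleton (LocalizedModule q.primeCompl M) := by
        rw [← not_nontrivial_iff_subsingleton]
        exact hqM
      rw [depth_eq_top_of_subsingleton]
      exact le_top

end Depth

section Dim

variable {A B : Type u} [CommRing A] [CommRing B] [Algebra A B] (M : Type u) [AddCommGroup M]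
  [Module B M] [Module A M] [IsScalarTower A B M] [Module.Finite A M]

theorem isIntegral_quot : Algebra.IsIntegral A (B ⧸ Module.annihilator B M) := by
  let φ : B →ₐ[A] Module.End A M := Algebra.lsmul A A M
  have hφ : ∀ b : B, b ∈ Module.annihilator B M → φ b = 0 := by
    intro b hb
    ext m
    exact Module.mem_annihilator.1 hb m
  let ψ : (B ⧸ Module.annihilator B M) →ₐ[A] Module.End A M := Ideal.Quotient.liftₐ _ φ hφ
  have hψ : Function.Injective ψ := by
    rw [injective_iff_map_eq_zero]
    intro z hz
    obtain ⟨b, rfl⟩ := Ideal.Quotient.mk_surjective z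
    rw [Ideal.Quotient.eq_zero_iff_mem, Module.mem_annihilator]
    intro m
    have h1 : ψ (Ideal.Quotient.mk _ b) m = b • m := rfl
    rw [← h1, hz]
    rfl
  constructor
  intro z
  exact (isIntegral_algHom_iff ψ hψ).1 (Algebra.IsIntegral.isIntegral (ψ z))

theorem comap_mk_map (J : Ideal B) (hJ : Module.annihilator B M ≤ J) :
    (J.map (Ideal.Quotient.mk (Module.annihilator B M))).comap
      (Ideal.Quotient.mk (Module.annihilator B M)) = J := by
  rw [Ideal.comap_map_of_surjective _ Ideal.Quotient.mk_surjective, ← RingHom.ker_eq_comap_bot,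
    Ideal.mk_ker, sup_eq_left.2 hJ]

theorem comap_alg_map (J : Ideal B) (hJ : Module.annihilator B M ≤ J) :
    (J.map (Ideal.Quotient.mk (Module.annihilator B M))).comap
      (algebraMap A (B ⧸ Module.annihilator B M)) = J.comap (algebraMap A B) := by
  ext a
  have h1 : a ∈ (J.map (Ideal.Quotient.mk (Module.annihilator B M))).comap
      (algebraMap A (B ⧸ Module.annihilator B M)) ↔
      algebraMap A B a ∈ (J.map (Ideal.Quotient.mk (Module.annihilator B M))).comap
        (Ideal.Quotient.mk (Module.annihilator B M)) := Iff.rfl
  rw [h1, comap_mk_map M J hJ]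
  rfl

theorem exists_prime_over (I : Ideal B) (hI : Module.annihilator B M ≤ I) (p : Ideal A)
    [p.IsPrime] (hIp : I.comap (algebraMap A B) ≤ p) :
    ∃ q : Ideal B, I ≤ q ∧ q.IsPrime ∧ q.comap (algebraMap A B) = p := by
  haveI := isIntegral_quot (A := A) (B := B) M
  have h1 : (I.map (Ideal.Quotient.mk (Module.annihilator B M))).comap
      (algebraMap A (B ⧸ Module.annihilator B M)) ≤ p := by
    rw [comap_alg_map M I hI]
    exact hIp
  obtain ⟨Q, hQI, hQprime, hQp⟩ := Ideal.exists_ideal_over_prime_of_isIntegral p _ h1
  haveI := hQprime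
  refine ⟨Q.comap (Ideal.Quotient.mk _), Ideal.map_le_iff_le_comap.1 hQI,
    Ideal.comap_isPrime _ Q, ?_⟩
  rw [← hQp]
  exact Ideal.ext fun a => Iff.rfl

theorem comap_lt_comap_of_lt (q q' : Ideal B) [q.IsPrime] (hq : Module.annihilator B M ≤ q)
    (hlt : q < q') : q.comap (algebraMap A B) < q'.comap (algebraMap A B) := by
  haveI := isIntegral_quot (A := A) (B := B) M
  obtain ⟨hle, x, hxq', hxq⟩ := SetLike.lt_iff_le_and_exists.1 hlt
  haveI : (q.map (Ideal.Quotient.mk (Module.annihilator B M))).IsPrime :=
    Ideal.map_isPrime_of_surjective Ideal.Quotient.mk_surjective (by rw [Ideal.mk_ker]; exact hq)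
  have hxnot : Ideal.Quotient.mk (Module.annihilator B M) x ∉
      q.map (Ideal.Quotient.mk (Module.annihilator B M)) := by
    intro hmem
    have h2 : x ∈ (q.map (Ideal.Quotient.mk (Module.annihilator B M))).comap
        (Ideal.Quotient.mk (Module.annihilator B M)) := hmem
    rw [comap_mk_map M q hq] at h2
    exact hxq h2
  have h := Ideal.comap_lt_comap_of_integral_mem_sdiff (R := A)
    (Ideal.map_mono (f := Ideal.Quotient.mk (Module.annihilator B M)) hle)
    ⟨Ideal.mem_map_of_mem _ hxq', hxnot⟩ (Algebra.IsIntegral.isIntegral _)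
  rw [comap_alg_map M q hq, comap_alg_map M q' (le_trans hq hle)] at h
  exact h

/-- contraction on supports -/
noncomputable def phi : Module.support B M → Module.support A M := fun q =>
  ⟨⟨q.1.asIdeal.comap (algebraMap A B), inferInstance⟩, comap_mem_support M q.1 q.2⟩

theorem phi_strictMono : StrictMono (phi (A := A) (B := B) M) := by
  haveI : Module.Finite B M := Module.Finite.of_restrictScalars_finite A B M
  intro q q' h
  have h0 : q.1.asIdeal < q'.1.asIdeal := h
  have h1 := comap_lt_comap_of_lt (A := A) M q.1.asIdeal q'.1.asIdeal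
    (Module.mem_support_iff_of_finite.1 q.2) h0
  exact h1

theorem key (N : ℕ) : ∀ (p : Ideal A) (hp : p.IsPrime)
    (hpM : (⟨p, hp⟩ : PrimeSpectrum A) ∈ Module.support A M),
    (N : ℕ∞) ≤ Order.height (⟨⟨p, hp⟩, hpM⟩ : Module.support A M) →
    ∃ (q : Ideal B) (hq : q.IsPrime)
      (hqM : (⟨q, hq⟩ : PrimeSpectrum B) ∈ Module.support B M),
      q.comap (algebraMap A B) = p ∧
        (N : ℕ∞) ≤ Order.height (⟨⟨q, hq⟩, hqM⟩ : Module.support B M) := by
  haveI : Module.Finite B M := Module.Finite.of_restrictScalars_finite A B M
  induction N with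
  | zero =>
    intro p hp hpM _
    haveI := hp
    have hann : (Module.annihilator B M).comap (algebraMap A B) ≤ p := by
      intro a ha
      apply Module.mem_support_iff_of_finite.1 hpM
      rw [Module.mem_annihilator]
      intro m
      have h1 : algebraMap A B a ∈ Module.annihilator B M := ha
      have h2 := Module.mem_annihilator.1 h1 m
      rwa [algebraMap_smul] at h2
    obtain ⟨q, hIq, hqprime, hqp⟩ := exists_prime_over M _ le_rfl p hann
    exact ⟨q, hqprime, Module.mem_support_iff_of_finite.2 hIq, hqp, by simp⟩
  | succ N ih =>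
    intro p hp hpM hN
    haveI := hp
    have hex : ∃ y : Module.support A M, y < ⟨⟨p, hp⟩, hpM⟩ ∧ (N : ℕ∞) ≤ Order.height y := by
      by_contra hcon
      push_neg at hcon
      have h1 : Order.height (⟨⟨p, hp⟩, hpM⟩ : Module.support A M) ≤ N := by
        rw [Order.height_eq_iSup_lt_height]
        exact iSup₂_le (fun y hy => Order.add_one_le_of_lt (hcon y hy))
      have h2 := le_trans hN h1
      have h3 : N + 1 ≤ N := by exact_mod_cast h2
      omega
    obtain ⟨⟨⟨p', hp'⟩, hp'M⟩, hlt, hN'⟩ := hex
    obtain ⟨q', hq', hq'M, hq'p, hq'N⟩ := ih p' hp' hp'M hN'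
    haveI := hq'
    have hp'p : p' < p := hlt
    obtain ⟨q, hq'q, hqprime, hqp⟩ := exists_prime_over M q'
      (Module.mem_support_iff_of_finite.1 hq'M) p (by rw [hq'p]; exact hp'p.le)
    have hqM : (⟨q, hqprime⟩ : PrimeSpectrum B) ∈ Module.support B M :=
      Module.mem_support_iff_of_finite.2
        (le_trans (Module.mem_support_iff_of_finite.1 hq'M) hq'q)
    have hne : q' ≠ q := by
      intro e
      rw [e, hqp] at hq'p
      exact hp'p.ne hq'p.symm
    have h0 : q' < q := lt_of_le_of_ne hq'q hne
    have hlt' : (⟨⟨q', hq'⟩, hq'M⟩ : Module.support B M) < ⟨⟨q, hqprime⟩, hqM⟩ := h0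
    refine ⟨q, hqprime, hqM, hqp, ?_⟩
    have h4 := Order.height_add_one_le hlt'
    refine le_trans ?_ h4
    push_cast
    exact add_le_add hq'N le_rfl

theorem supportDim_eq_iSup [IsNoetherianRing A] (p : Ideal A) [hp : p.IsPrime] :
    Module.supportDim (Localization.AtPrime p) (LocalizedModule p.primeCompl M) =
      ⨆ q ∈ {q : PrimeSpectrum B | q.asIdeal.comap (algebraMap A B) = p ∧
          q ∈ Module.support B M},
        Module.supportDim (Localization.AtPrime q.asIdeal)
          (LocalizedModule q.asIdeal.primeCompl M) := by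
  by_cases hpM : (⟨p, hp⟩ : PrimeSpectrum A) ∈ Module.support A M
  · rw [supportDim_localizedModule M p hpM]
    apply le_antisymm
    · have hfin : Order.height (⟨⟨p, hp⟩, hpM⟩ : Module.support A M) ≠ ⊤ := by
        have h1 := Order.height_le_height_apply_of_strictMono
          (Subtype.val : Module.support A M → PrimeSpectrum A) (fun _ _ h => h) ⟨⟨p, hp⟩, hpM⟩
        have h2 : Order.height (⟨p, hp⟩ : PrimeSpectrum A) ≠ ⊤ := by
          rw [← PrimeSpectrum.height_eq_orderHeight]
          exact Ideal.height_ne_top_of_isPrime
        intro htop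
        rw [htop] at h1
        exact h2 (top_le_iff.1 h1)
      obtain ⟨N, hN⟩ := ENat.ne_top_iff_exists.1 hfin
      obtain ⟨q, hq, hqM, hqp, hle⟩ := key (B := B) M N p hp hpM (le_of_eq hN)
      rw [← hN]
      refine le_trans ?_ (le_iSup₂ (f := fun (q : PrimeSpectrum B)
        (_ : q ∈ {q : PrimeSpectrum B | q.asIdeal.comap (algebraMap A B) = p ∧
          q ∈ Module.support B M}) =>
          Module.supportDim (Localization.AtPrime q.asIdeal)
            (LocalizedModule q.asIdeal.primeCompl M)) (⟨q, hq⟩ : PrimeSpectrum B) ⟨hqp, hqM⟩)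
      show _ ≤ Module.supportDim (Localization.AtPrime q) (LocalizedModule q.primeCompl M)
      rw [supportDim_localizedModule M q hqM]
      exact_mod_cast hle
    · refine iSup₂_le (fun q hq => ?_)
      rw [supportDim_localizedModule M q.asIdeal hq.2]
      have h1 := Order.height_le_height_apply_of_strictMono (phi (A := A) (B := B) M)
        (phi_strictMono M) ⟨q, hq.2⟩
      have e : phi (A := A) (B := B) M ⟨q, hq.2⟩ = ⟨⟨p, hp⟩, hpM⟩ :=
        Subtype.ext (PrimeSpectrum.ext hq.1)
      rw [e] at h1
      exact_mod_cast h1
  · have hsub : Subsingleton (LocalizedModule p.primeCompl M) := by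
      rw [← not_nontrivial_iff_subsingleton]
      exact hpM
    rw [Module.supportDim_eq_bot_of_subsingleton]
    symm
    rw [iSup₂_eq_bot]
    intro q hq
    exfalso
    apply hpM
    have h1 := comap_mem_support (A := A) M q hq.2
    have e : (⟨q.asIdeal.comap (algebraMap A B), inferInstance⟩ : PrimeSpectrum A) = ⟨p, hp⟩ :=
      PrimeSpectrum.ext hq.1
    rw [e] at h1
    exact h1

end Dim

end Groth.Agent.Lib.FiniteRestrict_helper6
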