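import Mathlib
import Groth.Prelude.Def_Wider
import Groth.Agent.Lib.LocCohCdSup_helper7

/-!
# `b ⊄ rad ann H^1_a(M)` for an associated prime of relative height one (helper7)
-/

open CategoryTheory CategoryTheory.Limits Opposite Pointwise

namespace Groth.Agent.Lib.LocCohAnnH1H7

open Groth.Agent.Lib.DT_helper3

universe u

/-- for a minimal prime `q` over `I` in a Noetherian ring and `J ≤ q`, some `u ∉ q` and `n`
satisfy `u J^n ⊆ I` -/
theorem exists_smul_pow_le_of_minimalPrimes {A : Type*} [CommRing A] [IsNoetherianRing A]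
    (I q J : Ideal A) (hq : q ∈ I.minimalPrimes) (hJ : J ≤ q) :
    ∃ (n : ℕ) (u : A), u ∉ q ∧ ∀ x ∈ J ^ n, u * x ∈ I := by
  classical
  haveI : q.IsPrime := hq.1.1
  have hrad := IsLocalization.AtPrime.radical_map_of_mem_minimalPrimes
    (A := Localization.AtPrime q) q I hq
  have hJq : J.map (algebraMap A (Localization.AtPrime q)) ≤
      (I.map (algebraMap A (Localization.AtPrime q))).radical := by
    rw [hrad]; exact Ideal.map_mono hJ
  obtain ⟨n, hn⟩ := Ideal.exists_pow_le_of_le_radical_of_fg_radical hJq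
    (IsNoetherian.noetherian _)
  obtain ⟨t, ht⟩ := (IsNoetherian.noetherian (J ^ n) : (J ^ n).FG)
  have hex : ∀ x ∈ J ^ n, ∃ u : A, u ∉ q ∧ u * x ∈ I := by
    intro x hx
    have h1 : algebraMap A (Localization.AtPrime q) x ∈
        I.map (algebraMap A (Localization.AtPrime q)) :=
      hn (by rw [← Ideal.map_pow]; exact Ideal.mem_map_of_mem _ hx)
    rw [IsLocalization.mem_map_algebraMap_iff (M := q.primeCompl)] at h1
    obtain ⟨⟨a, b⟩, hab⟩ := h1
    rw [← map_mul, IsLocalization.eq_iff_exists q.primeCompl] at hab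
    obtain ⟨c, hc⟩ := hab
    refine ⟨c * b, (c * b).2, ?_⟩
    have h2 : (c : A) * (b : A) * x = c * a := by rw [← hc]; ring
    rw [h2]
    exact I.mul_mem_left _ a.2
  choose! uf huf using hex
  refine ⟨n, ∏ y ∈ t, uf y, ?_, ?_⟩
  · have hmem : ∏ y ∈ t, uf y ∈ q.primeCompl :=
      Submonoid.prod_mem q.primeCompl (fun y hy => (huf y (by
        rw [← ht]; exact Submodule.subset_span (Finset.mem_coe.2 hy))).1)
    exact hmem
  · intro x hx
    rw [← ht] at hx
    induction hx using Submodule.span_induction with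
    | mem y hy =>
      have hyt : y ∈ t := Finset.mem_coe.1 hy
      have hyJ : y ∈ J ^ n := by rw [← ht]; exact Submodule.subset_span hy
      rw [← Finset.mul_prod_erase t uf hyt]
      have h3 : uf y * (∏ z ∈ t.erase y, uf z) * y = (∏ z ∈ t.erase y, uf z) * (uf y * y) := by
        ring
      rw [h3]
      exact I.mul_mem_left _ (huf y hyJ).2
    | zero => rw [mul_zero]; exact I.zero_mem
    | add x y _ _ hx hy => rw [mul_add]; exact I.add_mem hx hy
    | smul r x _ hx => rw [smul_eq_mul, mul_left_comm]; exact I.mul_mem_left _ hx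

variable {R : Type u} [CommRing R]

theorem exists_of_smul_H1 (K : Ideal R) (M : Type u) [AddCommGroup M] [Module R M] (σ : R)
    (h : ∀ y : LocCoh.H K 1 M, σ • y = 0) (n : ℕ) (φ : ↥(K ^ n) →ₗ[R] M) :
    ∃ (k : ℕ) (hk : n ≤ k) (m : M), ∀ (r : R) (hr : r ∈ K ^ k),
      σ • φ ⟨r, Ideal.pow_le_pow_right hk hr⟩ = r • m := by
  obtain ⟨e⟩ := Groth.Agent.Lib.LocCohDTH7.coker_equiv K M
  have hmem : cls K n (σ • φ) ∈ LinearMap.range (LocCoh.toDT K M) := by
    have h0 : Submodule.Quotient.mk (p := LinearMap.range (LocCoh.toDT K M))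
        (cls K n (σ • φ)) = 0 := by
      apply e.injective
      rw [map_zero, map_smul, Submodule.Quotient.mk_smul, map_smul]
      exact h _
    exact (Submodule.Quotient.mk_eq_zero _).1 h0
  obtain ⟨m, hm⟩ := hmem
  rw [toDT_eq_cls' K n m] at hm
  have h0 : cls K n (σ • φ - smulMap K n m) = 0 := by rw [map_sub, hm, sub_self]
  obtain ⟨k, hk, hres⟩ := (Groth.Agent.Lib.DT_helper3.cls_eq_zero_iff K n _).1 h0
  refine ⟨k, hk, m, fun r hr => ?_⟩
  have h1 := LinearMap.congr_fun hres ⟨r, hr⟩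
  rw [res_apply, LinearMap.sub_apply, LinearMap.smul_apply, smulMap_apply,
    LinearMap.zero_apply] at h1
  exact sub_eq_zero.1 h1

/-- the `c`-power torsion submodule -/
def cTors (c : R) (M : Type u) [AddCommGroup M] [Module R M] : Submodule R M where
  carrier := {y | ∃ k : ℕ, c ^ k • y = 0}
  add_mem' := by
    rintro y z ⟨k, hk⟩ ⟨l, hl⟩
    refine ⟨k + l, ?_⟩
    have h1 : c ^ (k + l) • y = 0 := by rw [pow_add, mul_comm, mul_smul, hk, smul_zero]
    have h2 : c ^ (k + l) • z = 0 := by rw [pow_add, mul_smul, hl, smul_zero]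
    rw [smul_add, h1, h2, add_zero]
  zero_mem' := ⟨0, smul_zero _⟩
  smul_mem' := by
    rintro r y ⟨k, hk⟩
    exact ⟨k, by rw [smul_comm, hk, smul_zero]⟩

theorem core [IsNoetherianRing R] (a p : Ideal R) [hpp : p.IsPrime] (M : Type u)
    [AddCommGroup M] [Module R M] [Module.Finite R M] (x : M)
    (hxp : ∀ r : R, r ∈ p ↔ r • x = 0) (σ : R) (hσp : σ ∉ p)
    (hσH : ∀ y : LocCoh.H a 1 M, σ • y = 0) (q : Ideal R) [hqp : q.IsPrime] (hpq : p ≤ q)
    (c : R) (hca : c ∈ a) (hcp : c ∉ p) (hcq : c ∈ q) (u : R) (huq : u ∉ q) (n : ℕ)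
    (hun : ∀ j : ℕ, ∀ r ∈ a ^ (n * j), ∃ d : R, u ^ j * r - c ^ j * d ∈ p) : False := by
  have hker : p ≤ LinearMap.ker (LinearMap.toSpanSingleton R M x) := fun r hr => by
    rw [LinearMap.mem_ker, LinearMap.toSpanSingleton_apply]; exact (hxp r).1 hr
  let ψ : R ⧸ p →ₗ[R] M := Submodule.liftQ p (LinearMap.toSpanSingleton R M x) hker
  have hψ : ∀ r : R, ψ (Ideal.Quotient.mk p r) = r • x := fun r => by
    show Submodule.liftQ p _ hker (Submodule.Quotient.mk r) = _
    rw [Submodule.liftQ_apply, LinearMap.toSpanSingleton_apply]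
  have star : ∀ j : ℕ, ∃ (m : M) (k' : ℕ), c ^ k' • (σ • u ^ j • x - c ^ j • m) = 0 := by
    intro j
    let μ : R ⧸ p →ₗ[R] M := c ^ j • ψ
    have hμ : Function.Injective μ := by
      rw [← LinearMap.ker_eq_bot, LinearMap.ker_eq_bot']
      intro d hd
      obtain ⟨r, rfl⟩ := Ideal.Quotient.mk_surjective d
      have h1 : c ^ j • ψ (Ideal.Quotient.mk p r) = 0 := hd
      rw [hψ, ← mul_smul] at h1
      have h2 : c ^ j * r ∈ p := (hxp _).2 h1
      have h3 : r ∈ p := (hpp.mem_or_mem h2).resolve_left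
        (fun h => hcp (hpp.mem_of_pow_mem j h))
      exact Ideal.Quotient.eq_zero_iff_mem.2 h3
    let ν : ↥(a ^ (n * j)) →ₗ[R] M := smulMap a (n * j) (u ^ j • x)
    have hν : ∀ r : ↥(a ^ (n * j)), ν r ∈ LinearMap.range μ := by
      intro r
      obtain ⟨d, hd⟩ := hun j r.1 r.2
      refine ⟨Ideal.Quotient.mk p d, ?_⟩
      show c ^ j • ψ (Ideal.Quotient.mk p d) = (r : R) • u ^ j • x
      rw [hψ, ← mul_smul, ← mul_smul]
      have h1 := (hxp _).1 hd
      rw [sub_smul, sub_eq_zero] at h1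
      rw [← h1, mul_comm]
    let eqv := LinearEquiv.ofInjective μ hμ
    let ν₀ : ↥(a ^ (n * j)) →ₗ[R] ↥(LinearMap.range μ) :=
      LinearMap.codRestrict (LinearMap.range μ) ν hν
    let φ : ↥(a ^ (n * j)) →ₗ[R] M := ψ ∘ₗ eqv.symm.toLinearMap ∘ₗ ν₀
    have hφ : ∀ r : ↥(a ^ (n * j)), c ^ j • φ r = (r : R) • u ^ j • x := by
      intro r
      have h1 : μ (eqv.symm (ν₀ r)) =
          ((eqv (eqv.symm (ν₀ r)) : ↥(LinearMap.range μ)) : M) := rfl
      rw [LinearEquiv.apply_symm_apply] at h1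
      exact h1
    obtain ⟨k', hk', m, hm⟩ := exists_of_smul_H1 a M σ hσH (n * j) φ
    refine ⟨m, k', ?_⟩
    have hck : c ^ k' ∈ a ^ k' := Ideal.pow_mem_pow hca k'
    have h2 : σ • φ ⟨c ^ k', Ideal.pow_le_pow_right hk' hck⟩ = c ^ k' • m := hm (c ^ k') hck
    have h3 : c ^ j • φ ⟨c ^ k', Ideal.pow_le_pow_right hk' hck⟩ = c ^ k' • u ^ j • x :=
      hφ ⟨c ^ k', Ideal.pow_le_pow_right hk' hck⟩
    have h4 : c ^ j • (σ • φ ⟨c ^ k', Ideal.pow_le_pow_right hk' hck⟩) =
        c ^ j • (c ^ k' • m) := by rw [h2]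
    rw [smul_comm (c ^ j) σ, h3] at h4
    rw [smul_sub, smul_comm (c ^ k') σ, h4, smul_comm (c ^ k') (c ^ j), sub_self]
  -- pass to `M ⧸ T`
  let T : Submodule R M := cTors c M
  have star' : ∀ j : ℕ, ∃ mt : M ⧸ T, σ • u ^ j • T.mkQ x = c ^ j • mt := by
    intro j
    obtain ⟨m, k', h⟩ := star j
    refine ⟨T.mkQ m, ?_⟩
    have hmem : σ • u ^ j • x - c ^ j • m ∈ T := ⟨k', h⟩
    have h0 : T.mkQ (σ • u ^ j • x - c ^ j • m) = 0 := (Submodule.Quotient.mk_eq_zero T).2 hmem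
    rw [map_sub, map_smul, map_smul, map_smul, sub_eq_zero] at h0
    exact h0
  haveI : IsNoetherianRing (Localization.AtPrime q) :=
    IsLocalization.isNoetherianRing q.primeCompl _ inferInstance
  let I : Ideal (Localization.AtPrime q) :=
    Ideal.span {algebraMap R (Localization.AtPrime q) c}
  have hI : I ≠ ⊤ := by
    intro htop
    have h1 : algebraMap R (Localization.AtPrime q) c ∈
        IsLocalRing.maximalIdeal (Localization.AtPrime q) :=
      (IsLocalization.AtPrime.to_map_mem_maximal_iff (Localization.AtPrime q) q c).2 hcq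
    have h2 : I ≤ IsLocalRing.maximalIdeal (Localization.AtPrime q) :=
      (Ideal.span_singleton_le_iff_mem _).2 h1
    rw [htop] at h2
    exact (IsLocalRing.maximalIdeal.isMaximal (Localization.AtPrime q)).ne_top (top_le_iff.1 h2)
  let z : LocalizedModule q.primeCompl (M ⧸ T) := LocalizedModule.mk (σ • T.mkQ x) 1
  have hz : ∀ j : ℕ, z ∈ I ^ j •
      (⊤ : Submodule (Localization.AtPrime q) (LocalizedModule q.primeCompl (M ⧸ T))) := by
    intro j
    obtain ⟨mt, hmt⟩ := star' j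
    have h1 : z = (algebraMap R (Localization.AtPrime q) c) ^ j •
        LocalizedModule.mk mt ((⟨u, huq⟩ : q.primeCompl) ^ j) := by
      rw [← map_pow, algebraMap_smul, LocalizedModule.smul'_mk, LocalizedModule.mk_eq]
      refine ⟨1, ?_⟩
      rw [one_smul, one_smul, one_smul, Submonoid.smul_def, SubmonoidClass.coe_pow,
        smul_comm, hmt]
    rw [h1]
    exact Submodule.smul_mem_smul (Ideal.pow_mem_pow (Ideal.mem_span_singleton_self _) j)
      Submodule.mem_top
  have hz0 : z = 0 := by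
    have h1 : z ∈ (⨅ i : ℕ, I ^ i •
        (⊤ : Submodule (Localization.AtPrime q) (LocalizedModule q.primeCompl (M ⧸ T)))) :=
      (Submodule.mem_iInf _).2 hz
    rw [Ideal.iInf_pow_smul_eq_bot_of_isLocalRing I hI] at h1
    exact (Submodule.mem_bot _).1 h1
  have hz1 : LocalizedModule.mkLinearMap q.primeCompl (M ⧸ T) (σ • T.mkQ x) = 0 := hz0
  obtain ⟨v, hv⟩ := (IsLocalizedModule.eq_zero_iff q.primeCompl
    (LocalizedModule.mkLinearMap q.primeCompl (M ⧸ T))).1 hz1
  have hv' : T.mkQ ((v : R) • σ • x) = 0 := by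
    rw [map_smul, map_smul]; exact hv
  obtain ⟨k'', hk''⟩ : (v : R) • σ • x ∈ T := (Submodule.Quotient.mk_eq_zero T).1 hv'
  rw [← mul_smul, ← mul_smul] at hk''
  have h5 := (hxp _).2 hk''
  rcases hpp.mem_or_mem h5 with h | h
  · rcases hpp.mem_or_mem h with h | h
    · exact hcp (hpp.mem_of_pow_mem k'' h)
    · exact v.2 (hpq h)
  · exact hσp h

/-- S11648 -/
theorem main11648 (R : Type u) [CommRing R] [IsNoetherianRing R] (a b : Ideal R) (M : Type u)
    [AddCommGroup M] [Module R M] [Module.Finite R M] (p : Ideal R) [hpp : p.IsPrime]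
    (hp : p ∈ associatedPrimes R M) (hb : ¬ b ≤ p)
    (hht : ((a ⊔ p).map (Ideal.Quotient.mk p)).height = 1) :
    ¬ b ≤ (Module.annihilator R (LocCoh.H a 1 M)).radical := by
  intro hle
  obtain ⟨s, hsb, hsp⟩ := SetLike.not_le_iff_exists.1 hb
  obtain ⟨k, hk⟩ := hle hsb
  obtain ⟨-, x, hx⟩ := isAssociatedPrime_iff.1 hp
  have hxp : ∀ r : R, r ∈ p ↔ r • x = 0 := fun r => by
    rw [hx, Submodule.mem_colon_singleton, Submodule.mem_bot]
  haveI : IsDomain (R ⧸ p) := Ideal.Quotient.isDomain p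
  obtain ⟨Q, hQp, h𝔞Q, hQht⟩ := Ideal.exists_isPrime_height_eq
    (I := (a ⊔ p).map (Ideal.Quotient.mk p)) (n := 1) (by rw [hht]; rfl)
  have hQht' : Q.height = 1 := by rw [hQht]; rfl
  have h𝔞ne : (a ⊔ p).map (Ideal.Quotient.mk p) ≠ ⊥ := Ideal.ne_bot_of_height_eq_one hht
  obtain ⟨c, hca, hcp⟩ : ∃ c ∈ a, c ∉ p := by
    by_contra hcon
    push Not at hcon
    apply h𝔞ne
    have hap : a ⊔ p = p := sup_eq_right.2 hcon
    rw [hap, Ideal.map_quotient_self]
  have hcQ : Ideal.Quotient.mk p c ∈ Q :=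
    h𝔞Q (Ideal.mem_map_of_mem _ (Ideal.mem_sup_left hca))
  have hcb : Ideal.Quotient.mk p c ≠ 0 := fun h => hcp (Ideal.Quotient.eq_zero_iff_mem.1 h)
  have hQmin : Q ∈ (Ideal.span {Ideal.Quotient.mk p c}).minimalPrimes := by
    refine ⟨⟨hQp, (Ideal.span_singleton_le_iff_mem _).2 hcQ⟩, ?_⟩
    rintro P ⟨hPp, hcP⟩ hPQ
    by_contra hne
    have hlt : P < Q := lt_of_le_of_ne hPQ (fun h => hne h.ge)
    haveI := hPp
    have h1 : P.height < Q.height := Ideal.height_strict_mono_of_isPrime hlt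
    rw [hQht'] at h1
    have h2 : P.height = 0 := ENat.lt_one_iff_eq_zero.1 h1
    have h3 : P = ⊥ := Ideal.height_eq_zero_iff_eq_bot.1 h2
    have h4 : Ideal.Quotient.mk p c ∈ P := hcP (Ideal.mem_span_singleton_self _)
    rw [h3] at h4
    exact hcb (Ideal.mem_bot.1 h4)
  obtain ⟨n, ub, hubQ, hub⟩ := exists_smul_pow_le_of_minimalPrimes
    (Ideal.span {Ideal.Quotient.mk p c}) Q ((a ⊔ p).map (Ideal.Quotient.mk p)) hQmin h𝔞Q
  obtain ⟨u, rfl⟩ := Ideal.Quotient.mk_surjective ub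
  have hpow : ∀ j : ℕ, ∀ y ∈ ((a ⊔ p).map (Ideal.Quotient.mk p)) ^ (n * j),
      (Ideal.Quotient.mk p u) ^ j * y ∈ Ideal.span {(Ideal.Quotient.mk p c) ^ j} := by
    intro j
    have h1 : Ideal.span {Ideal.Quotient.mk p u} * ((a ⊔ p).map (Ideal.Quotient.mk p)) ^ n ≤
        Ideal.span {Ideal.Quotient.mk p c} := by
      rw [Ideal.mul_le]
      intro r hr y hy
      obtain ⟨w, rfl⟩ := Ideal.mem_span_singleton'.1 hr
      rw [mul_assoc]
      exact Ideal.mul_mem_left _ w (hub y hy)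
    have h2 := Ideal.pow_right_mono h1 j
    rw [mul_pow, Ideal.span_singleton_pow, Ideal.span_singleton_pow, ← pow_mul] at h2
    intro y hy
    exact h2 (Ideal.mul_mem_mul (Ideal.mem_span_singleton_self _) hy)
  haveI := hQp
  haveI hqp : (Q.comap (Ideal.Quotient.mk p)).IsPrime := Ideal.comap_isPrime _ Q
  refine core a p M x hxp (s ^ k) (fun h => hsp (hpp.mem_of_pow_mem k h))
    (fun y => Module.mem_annihilator.1 hk y) (Q.comap (Ideal.Quotient.mk p)) ?_ c hca hcp hcQ u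
    hubQ n ?_
  · intro r hr
    show Ideal.Quotient.mk p r ∈ Q
    rw [Ideal.Quotient.eq_zero_iff_mem.2 hr]; exact Q.zero_mem
  · intro j r hr
    have h1 : Ideal.Quotient.mk p r ∈ ((a ⊔ p).map (Ideal.Quotient.mk p)) ^ (n * j) := by
      rw [← Ideal.map_pow]
      exact Ideal.mem_map_of_mem _ (Ideal.pow_right_mono le_sup_left _ hr)
    have h2 := hpow j _ h1
    obtain ⟨d', hd'⟩ := Ideal.mem_span_singleton'.1 h2
    obtain ⟨d, rfl⟩ := Ideal.Quotient.mk_surjective d'
    refine ⟨d, ?_⟩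
    rw [← Ideal.Quotient.eq_zero_iff_mem, map_sub, map_mul, map_mul, map_pow, map_pow, ← hd',
      mul_comm, sub_self]

end Groth.Agent.Lib.LocCohAnnH1H7
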