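import Mathlib
import Groth.Prelude.Def_Wider
import Groth.Agent.Lib.LocCohDepth_helper7
import Groth.Agent.S11618

/-!
# `b ⊄ rad ann H^t_a(M)` at the local grade (helper7)
-/

namespace Groth.Agent.Lib.LocCohAnnRadH7

universe u

theorem main11649 (R : Type u) [CommRing R] [IsNoetherianRing R] (a b : Ideal R) (M : Type u)
    [AddCommGroup M] [Module R M] [Module.Finite R M] (p : PrimeSpectrum R)
    (hsupp : p ∈ Module.support R M) (ha : a ≤ p.asIdeal) (hb : ¬ b ≤ p.asIdeal) (t : ℕ)
    (ht : LocCoh.idealDepth (a.map (algebraMap R (Localization.AtPrime p.asIdeal)))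
      (LocalizedModule p.asIdeal.primeCompl M) = t) :
    ¬ b ≤ (Module.annihilator R (LocCoh.H a t M)).radical := by
  intro hle
  obtain ⟨s, hsb, hsp⟩ := SetLike.not_le_iff_exists.1 hb
  obtain ⟨k, hk⟩ := hle hsb
  haveI : IsNoetherianRing (Localization.AtPrime p.asIdeal) :=
    IsLocalization.isNoetherianRing p.asIdeal.primeCompl _ inferInstance
  haveI : Nontrivial (LocalizedModule p.asIdeal.primeCompl M) := Module.mem_support_iff.1 hsupp
  have hsub : Subsingleton (LocalizedModule p.asIdeal.primeCompl (LocCoh.H a t M)) := by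
    rw [LocalizedModule.subsingleton_iff]
    intro x
    exact ⟨s ^ k, Submonoid.pow_mem _ hsp k, Module.mem_annihilator.1 hk x⟩
  obtain ⟨e⟩ := Groth.Agent.S11618.result R a p.asIdeal.primeCompl M t
  have hsub2 : Subsingleton (LocCoh.H (Ideal.map (algebraMap R (Localization.AtPrime p.asIdeal)) a)
      t (LocalizedModule p.asIdeal.primeCompl M)) := e.symm.toEquiv.subsingleton
  have hIM : (a.map (algebraMap R (Localization.AtPrime p.asIdeal))) •
      (⊤ : Submodule (Localization.AtPrime p.asIdeal)
        (LocalizedModule p.asIdeal.primeCompl M)) ≠ ⊤ := by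
    intro htop
    have hjac : a.map (algebraMap R (Localization.AtPrime p.asIdeal)) ≤
        (⊥ : Ideal (Localization.AtPrime p.asIdeal)).jacobson := by
      rw [IsLocalRing.jacobson_eq_maximalIdeal ⊥ bot_ne_top, Ideal.map_le_iff_le_comap]
      intro x hx
      rw [Ideal.mem_comap]
      exact (IsLocalization.AtPrime.to_map_mem_maximal_iff _ p.asIdeal x).2 (ha hx)
    have h0 := Submodule.eq_bot_of_le_smul_of_le_jacobson_bot _
      (⊤ : Submodule (Localization.AtPrime p.asIdeal) (LocalizedModule p.asIdeal.primeCompl M))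
      Module.Finite.fg_top (le_of_eq htop.symm) hjac
    exact top_ne_bot h0
  haveI := Groth.Agent.Lib.LocCohDepthH7.nonvanishing _ _ hIM t ht
  exact (not_subsingleton _) hsub2

end Groth.Agent.Lib.LocCohAnnRadH7
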