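import Mathlib
import Groth.Prelude.Def_Wider
import Groth.Prelude.Def_W4bk5brsh7111920
import Groth.Agent.Lib.LocCohFinDim_helper7
import Groth.Agent.Lib.LocCohDelta_helper7
import Groth.Agent.Lib.LocCohDeltaZero_helper7
import Groth.Agent.Lib.LocCohAnnRad_helper7
import Groth.Agent.Lib.LocCohAnnH1_helper7
import Groth.Agent.Lib.AdjDepth_helper7
import Groth.Agent.S11652
import Groth.Agent.Lib.DepthSemi_helper6
import Groth.Agent.Lib.FiniteRestrict_helper6

/-!
# The finiteness dimension is at most the minimum adjusted depth (helper6, S11653)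

`f_a^b(M) ≤ λ_a^b(M)` for a finitely generated module over a Noetherian ring
(Brodmann–Sharp 9.3.5), assembled from the lemmas of that section.
-/

set_option autoImplicit false
universe u

open CategoryTheory Pointwise

namespace Groth.Agent.Lib.FinDimLe_helper6

open Groth.Agent.DepthLib Groth.Agent.Lib.FiniteRestrict_helper6
open Groth.Agent.Lib.LocCohFinDimH7 Groth.Agent.Lib.LocCohLESH7
open Groth.Agent.Lib.LocCohDeltaZeroH7 Groth.Agent.Lib.InjHull_helper3

section Basic

variable {R : Type u} [CommRing R]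

/-- some `H^i_a(M)` with `i ≤ n` is not killed by a power of `b` -/
def F (a b : Ideal R) (M : Type u) [AddCommGroup M] [Module R M] (n : ℕ) : Prop :=
  ∃ i : ℕ, i ≤ n ∧ ¬ b ≤ (Module.annihilator R (LocCoh.H a i M)).radical

theorem F_mono {a b : Ideal R} {M : Type u} [AddCommGroup M] [Module R M] {n n' : ℕ}
    (h : F a b M n) (hn : n ≤ n') : F a b M n' := by
  obtain ⟨i, hi, hib⟩ := h
  exact ⟨i, le_trans hi hn, hib⟩

theorem F_of_le {a b b' : Ideal R} {M : Type u} [AddCommGroup M] [Module R M] {n : ℕ}
    (hbb : b' ≤ b) (h : F a b' M n) : F a b M n := by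
  obtain ⟨i, hi, hib⟩ := h
  exact ⟨i, hi, fun hle => hib (le_trans hbb hle)⟩

theorem idealDepth_mono {A : Type u} [CommRing A] (I J : Ideal A) (hIJ : I ≤ J) (N : Type u)
    [AddCommGroup N] [Module A N] (hJ : J • (⊤ : Submodule A N) ≠ ⊤) :
    LocCoh.idealDepth I N ≤ LocCoh.idealDepth J N := by
  classical
  have hI : I • (⊤ : Submodule A N) ≠ ⊤ := by
    intro h
    apply hJ
    have h1 : I • (⊤ : Submodule A N) ≤ J • (⊤ : Submodule A N) :=
      Submodule.smul_mono_left hIJ
    rw [h] at h1
    exact top_le_iff.1 h1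
  unfold LocCoh.idealDepth
  rw [if_neg hI, if_neg hJ]
  refine iSup₂_le (fun rs hrs => ?_)
  exact le_iSup₂_of_le rs ⟨hrs.1, fun r hr => hIJ (hrs.2 r hr)⟩ le_rfl

/-- the shift step: exactness of `H^i(X₂) → H^i(X₃) → H^{i+1}(X₁)` at the middle -/
theorem kb_shift (a b : Ideal R) {X₁ X₂ X₃ : Type u} [AddCommGroup X₁] [Module R X₁]
    [AddCommGroup X₂] [Module R X₂] [AddCommGroup X₃] [Module R X₃]
    (f : X₁ →ₗ[R] X₂) (g : X₂ →ₗ[R] X₃) (hf : Function.Injective f)
    (hg : Function.Surjective g) (hfg : Function.Exact f g) (i : ℕ)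
    (h2 : Kb b (LocCoh.H a i X₂)) (h1 : Kb b (LocCoh.H a (i + 1) X₁)) :
    Kb b (LocCoh.H a i X₃) := by
  obtain ⟨k, hk⟩ := h2
  obtain ⟨l, hl⟩ := h1
  cases i with
  | zero =>
    obtain ⟨e₂⟩ := H0_equiv' a X₂
    obtain ⟨e₃⟩ := H0_equiv' a X₃
    apply kb_add b _ k l
    intro u hu s hs z
    have hc : cMap a f g hf hg hfg (s • e₃ z) = 0 := by
      rw [map_smul]
      exact hl s hs _
    obtain ⟨y, hyΓ, hy⟩ := (cMap_eq_zero_iff a f g hf hg hfg (s • e₃ z)).1 hc
    have h3 : u • (⟨y, hyΓ⟩ : ↥(Γ a X₂)) = 0 := by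
      have h4 := hk u hu (e₂.symm ⟨y, hyΓ⟩)
      rw [← map_smul] at h4
      exact (LinearEquiv.map_eq_zero_iff e₂.symm).1 h4
    have h4 : u • y = 0 := congrArg Subtype.val h3
    have h5 : (u * s) • e₃ z = 0 := by
      apply Subtype.ext
      have h6 : ((s • e₃ z : ↥(Γ a X₃)) : X₃) = s • ((e₃ z : ↥(Γ a X₃)) : X₃) := rfl
      have h7 : (((u * s) • e₃ z : ↥(Γ a X₃)) : X₃) = (u * s) • ((e₃ z : ↥(Γ a X₃)) : X₃) := rfl
      rw [h7, mul_smul, ← h6, ← hy, ← map_smul, h4, map_zero]
      rfl
    have h8 : (u * s) • z = e₃.symm ((u * s) • e₃ z) := by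
      rw [map_smul, LinearEquiv.symm_apply_apply]
    rw [h8, h5, map_zero]
  | succ j =>
    have hS := shortComplexOf_shortExact f g hf hg hfg
    apply kb_add b _ k l
    intro u hu s hs z
    have hδ : (δ a hS j).hom (s • z) = 0 :=
      ((δ a hS j).hom.map_smul s z).trans (hl s hs _)
    obtain ⟨m₂, hm₂⟩ := exists_of_δ_eq_zero a hS j (s • z) hδ
    have h3 : u • m₂ = 0 := hk u hu m₂
    calc (u * s) • z = u • (s • z) := mul_smul u s z
      _ = u • (((localCohomology a (j + 1)).map (shortComplexOf f g hfg).g).hom m₂) :=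
          congrArg (fun w => u • w) hm₂.symm
      _ = ((localCohomology a (j + 1)).map (shortComplexOf f g hfg).g).hom (u • m₂) :=
          (((localCohomology a (j + 1)).map (shortComplexOf f g hfg).g).hom.map_smul u m₂).symm
      _ = ((localCohomology a (j + 1)).map (shortComplexOf f g hfg).g).hom 0 := by rw [h3]
      _ = 0 := map_zero _

end Basic

section Main

variable {R : Type u} [CommRing R] [IsNoetherianRing R] (a : Ideal R)

theorem exists_regular (M : Type u) [AddCommGroup M] [Module R M] [Module.Finite R M]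
    (p : Ideal R) [p.IsPrime]
    (h1 : 1 ≤ LocCoh.depth (Localization.AtPrime p) (LocalizedModule p.primeCompl M))
    (hne : LocCoh.depth (Localization.AtPrime p) (LocalizedModule p.primeCompl M) ≠ ⊤) :
    ∃ x ∈ p, IsSMulRegular (LocalizedModule p.primeCompl M)
      (algebraMap R (Localization.AtPrime p) x) := by
  haveI : IsNoetherianRing (Localization.AtPrime p) :=
    IsLocalization.isNoetherianRing p.primeCompl _ inferInstance
  haveI : Module.Finite (Localization.AtPrime p) (LocalizedModule p.primeCompl M) :=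
    Module.Finite.of_isLocalizedModule p.primeCompl (LocalizedModule.mkLinearMap p.primeCompl M)
  unfold LocCoh.depth at h1
  rcases (one_le_idealDepth_iff _ _).1 h1 with htop | ⟨y, hy, hyreg⟩
  · exfalso
    have hbot : (⊤ : Submodule (Localization.AtPrime p) (LocalizedModule p.primeCompl M)) = ⊥ :=
      Submodule.eq_bot_of_le_smul_of_le_jacobson_bot _ ⊤ Module.Finite.fg_top (by rw [htop])
        (IsLocalRing.maximalIdeal_le_jacobson _)
    have hsub : Subsingleton (LocalizedModule p.primeCompl M) := by
      rw [← Submodule.subsingleton_iff (Localization.AtPrime p)]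
      exact subsingleton_of_bot_eq_top hbot.symm
    exact hne (depth_eq_top_of_subsingleton _ _)
  · rw [← Localization.AtPrime.map_eq_maximalIdeal] at hy
    obtain ⟨⟨⟨x, hx⟩, t⟩, hxt⟩ :=
      (IsLocalization.mem_map_algebraMap_iff p.primeCompl (Localization.AtPrime p)).1 hy
    refine ⟨x, hx, ?_⟩
    have hu : IsUnit (algebraMap R (Localization.AtPrime p) (t : R)) :=
      IsLocalization.map_units _ t
    have := hyreg.mul (hu.isSMulRegular (LocalizedModule p.primeCompl M))
    rw [hxt] at this
    exact this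

/-- the case `a ≤ p` -/
theorem caseZero (M : Type u) [AddCommGroup M] [Module R M] [Module.Finite R M] (b : Ideal R)
    (p : Ideal R) [p.IsPrime] (hbp : ¬ b ≤ p) (hap : a ≤ p) (d : ℕ)
    (hd : LocCoh.depth (Localization.AtPrime p) (LocalizedModule p.primeCompl M) = d) :
    F a b M d := by
  haveI : IsNoetherianRing (Localization.AtPrime p) :=
    IsLocalization.isNoetherianRing p.primeCompl _ inferInstance
  haveI : Module.Finite (Localization.AtPrime p) (LocalizedModule p.primeCompl M) :=
    Module.Finite.of_isLocalizedModule p.primeCompl (LocalizedModule.mkLinearMap p.primeCompl M)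
  have hnt : Nontrivial (LocalizedModule p.primeCompl M) := by
    by_contra hcon
    rw [not_nontrivial_iff_subsingleton] at hcon
    rw [depth_eq_top_of_subsingleton] at hd
    exact ENat.top_ne_coe d hd
  have hJ : IsLocalRing.maximalIdeal (Localization.AtPrime p) •
      (⊤ : Submodule (Localization.AtPrime p) (LocalizedModule p.primeCompl M)) ≠ ⊤ := by
    intro htop
    have hbot : (⊤ : Submodule (Localization.AtPrime p) (LocalizedModule p.primeCompl M)) = ⊥ :=
      Submodule.eq_bot_of_le_smul_of_le_jacobson_bot _ ⊤ Module.Finite.fg_top (by rw [htop])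
        (IsLocalRing.maximalIdeal_le_jacobson _)
    have hsub : Subsingleton (LocalizedModule p.primeCompl M) := by
      rw [← Submodule.subsingleton_iff (Localization.AtPrime p)]
      exact subsingleton_of_bot_eq_top hbot.symm
    exact not_subsingleton _ hsub
  have hle : a.map (algebraMap R (Localization.AtPrime p)) ≤
      IsLocalRing.maximalIdeal (Localization.AtPrime p) := by
    rw [Ideal.map_le_iff_le_comap]
    intro y hy
    rw [Ideal.mem_comap]
    exact (IsLocalization.AtPrime.to_map_mem_maximal_iff _ p y).2 (hap hy)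
  have hmono := idealDepth_mono _ _ hle (LocalizedModule p.primeCompl M) hJ
  unfold LocCoh.depth at hd
  rw [hd] at hmono
  have hfin : LocCoh.idealDepth (a.map (algebraMap R (Localization.AtPrime p)))
      (LocalizedModule p.primeCompl M) ≠ ⊤ := ne_top_of_le_ne_top (ENat.coe_ne_top d) hmono
  obtain ⟨t, ht⟩ := ENat.ne_top_iff_exists.1 hfin
  have htd : t ≤ d := by
    rw [← ht] at hmono
    exact_mod_cast hmono
  refine ⟨t, htd, ?_⟩
  exact Groth.Agent.Lib.LocCohAnnRadH7.main11649 R a b M ⟨p, inferInstance⟩
    (Module.mem_support_iff.2 hnt) hap hbp t ht.symm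

/-- the case where `(a + p)/p` has height one: induction on the depth -/
theorem caseOne (p : Ideal R) [p.IsPrime]
    (hht : ((a ⊔ p).map (Ideal.Quotient.mk p)).height = 1) :
    ∀ (d : ℕ) (M : Type u) [AddCommGroup M] [Module R M] [Module.Finite R M] (b : Ideal R),
      ¬ b ≤ p →
      LocCoh.depth (Localization.AtPrime p) (LocalizedModule p.primeCompl M) = d →
      F a b M (d + 1) := by
  intro d
  induction d with
  | zero =>
    intro M _ _ _ b hbp hd
    have hp : p ∈ associatedPrimes R M :=
      Groth.Agent.Lib.DepthSemi_helper6.mem_associatedPrimes_of_depth_eq_zero M p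
        (by rw [hd]; rfl)
    exact ⟨1, le_refl _,
      Groth.Agent.Lib.LocCohAnnH1H7.main11648 R a b M p hp hbp hht⟩
  | succ d ih =>
    intro M _ _ _ b hbp hd
    haveI : IsNoetherianRing (Localization.AtPrime p) :=
      IsLocalization.isNoetherianRing p.primeCompl _ inferInstance
    have h1 : (1 : ℕ∞) ≤
        LocCoh.depth (Localization.AtPrime p) (LocalizedModule p.primeCompl M) := by
      rw [hd]
      exact_mod_cast Nat.succ_le_succ (Nat.zero_le d)
    obtain ⟨x, hx, hxreg⟩ := exists_regular M p h1 (by rw [hd]; exact ENat.coe_ne_top _)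
    -- the quotient `M/xM`
    have hgs : Function.Surjective (Submodule.mkQ (x • (⊤ : Submodule R M))) :=
      Submodule.mkQ_surjective _
    haveI : Module.Finite R (QuotSMulTop x M) := Module.Finite.of_surjective _ hgs
    have hdep : ∀ n : ℕ, (n : ℕ∞) ≤ LocCoh.depth (Localization.AtPrime p)
          (LocalizedModule p.primeCompl (QuotSMulTop x M)) ↔
        ((n + 1 : ℕ) : ℕ∞) ≤
          LocCoh.depth (Localization.AtPrime p) (LocalizedModule p.primeCompl M) :=
      fun n => le_depth_iff_of_exact M (QuotSMulTop x M) x (Submodule.mkQ _) hgs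
        (exact_B M x) p hx hxreg n
    have hd3 : LocCoh.depth (Localization.AtPrime p)
        (LocalizedModule p.primeCompl (QuotSMulTop x M)) = d := by
      apply le_antisymm
      · rw [← ENat.forall_natCast_le_iff_le]
        intro n hn
        have h2 := (hdep n).1 hn
        rw [hd] at h2
        have h3 : n + 1 ≤ d + 1 := by exact_mod_cast h2
        exact_mod_cast Nat.le_of_succ_le_succ h3
      · apply (hdep d).2
        rw [hd]
    -- the kernel of multiplication by `x`
    obtain ⟨K₁, hK₁⟩ : ∃ K₁ : Submodule R M,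
        K₁ = LinearMap.ker (x • LinearMap.id : M →ₗ[R] M) := ⟨_, rfl⟩
    have hK₁mem : ∀ k ∈ K₁, x • k = 0 := by
      intro k hk
      rw [hK₁, LinearMap.mem_ker] at hk
      exact hk
    have hreg' := (isSMulRegular_localizedModule_iff p.primeCompl M x).1 hxreg
    have hsupp : (⟨p, inferInstance⟩ : PrimeSpectrum R) ∉ Module.support R K₁ := by
      rw [Module.notMem_support_iff, LocalizedModule.subsingleton_iff]
      intro k
      obtain ⟨t, ht, htk⟩ := hreg' k.1 (hK₁mem k.1 k.2)
      exact ⟨t, ht, Subtype.ext htk⟩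
    rw [Module.mem_support_iff_of_finite] at hsupp
    obtain ⟨s, hsann, hsp⟩ := SetLike.not_le_iff_exists.1 hsupp
    have hsK : ∀ k ∈ K₁, s • k = 0 := by
      intro k hk
      have := Module.mem_annihilator.1 hsann ⟨k, hk⟩
      exact congrArg Subtype.val this
    -- the smaller ideal
    obtain ⟨b', hb'⟩ : ∃ b' : Ideal R, b' = b * Ideal.span {s} := ⟨_, rfl⟩
    have hb'b : b' ≤ b := by rw [hb']; exact Ideal.mul_le_left
    have hb's : b' ≤ Ideal.span {s} := by rw [hb']; exact Ideal.mul_le_right
    have hb'p : ¬ b' ≤ p := by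
      rw [hb']
      intro hle
      rcases (Ideal.IsPrime.mul_le inferInstance).1 hle with h | h
      · exact hbp h
      · exact hsp (h (Ideal.subset_span rfl))
    have hb'fg : b'.FG := IsNoetherian.noetherian b'
    have hT : ∀ r ∈ b' ^ 1, ∀ t ∈ K₁, r • t = 0 := by
      intro r hr t ht
      rw [pow_one] at hr
      obtain ⟨c, rfl⟩ := Ideal.mem_span_singleton'.1 (hb's hr)
      rw [mul_smul, hsK t ht, smul_zero]
    have hkill := fun i => kb_iff_of_killed a b' M K₁ 1 hT i
    -- the short exact sequence `0 → M/K₁ → M → M/xM → 0`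
    have hle : K₁ ≤ LinearMap.ker (x • LinearMap.id : M →ₗ[R] M) := by rw [hK₁]
    obtain ⟨f, hf⟩ : ∃ f : (M ⧸ K₁) →ₗ[R] M,
        f = K₁.liftQ (x • LinearMap.id : M →ₗ[R] M) hle := ⟨_, rfl⟩
    have hfmk : ∀ m : M, f (Submodule.Quotient.mk m) = x • m := by
      intro m
      rw [hf]
      rfl
    have hfinj : Function.Injective f := by
      rw [← LinearMap.ker_eq_bot, hf]
      apply Submodule.ker_liftQ_eq_bot
      rw [hK₁]
    have hex : Function.Exact f (Submodule.mkQ (x • (⊤ : Submodule R M))) := by
      intro m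
      rw [(exact_B M x) m]
      constructor
      · rintro ⟨m', rfl⟩
        exact ⟨Submodule.Quotient.mk m', hfmk m'⟩
      · rintro ⟨z, rfl⟩
        obtain ⟨m', rfl⟩ := Submodule.mkQ_surjective _ z
        exact ⟨m', (hfmk m').symm⟩
    -- induction hypothesis for `M/xM`
    obtain ⟨i, hi, hib⟩ := ih (QuotSMulTop x M) b' hb'p hd3
    rw [← kb_iff_radical b' hb'fg] at hib
    have hor : ¬ Kb b' (LocCoh.H a i M) ∨ ¬ Kb b' (LocCoh.H a (i + 1) (M ⧸ K₁)) := by
      by_contra hcon
      push_neg at hcon
      exact hib (kb_shift a b' f (Submodule.mkQ (x • (⊤ : Submodule R M))) hfinj hgs hex i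
        hcon.1 hcon.2)
    apply F_of_le hb'b
    rcases hor with h | h
    · refine ⟨i, by omega, ?_⟩
      rw [← kb_iff_radical b' hb'fg]
      exact h
    · refine ⟨i + 1, by omega, ?_⟩
      rw [← kb_iff_radical b' hb'fg, hkill (i + 1)]
      exact h

/-- the general case: induction on the height of `(a + p)/p` -/
theorem general (M : Type u) [AddCommGroup M] [Module R M] [Module.Finite R M] (b : Ideal R) :
    ∀ (h : ℕ) (p : Ideal R) [p.IsPrime], ¬ b ≤ p →
      ((a ⊔ p).map (Ideal.Quotient.mk p)).height = h →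
      ∀ d : ℕ, LocCoh.depth (Localization.AtPrime p) (LocalizedModule p.primeCompl M) = d →
        F a b M (d + h) := by
  intro h
  induction h using Nat.strong_induction_on with
  | _ h ih =>
    intro p _ hbp hht d hd
    rcases Nat.lt_or_ge h 2 with hlt | hge
    · interval_cases h
      · -- height zero
        have h0 : (a ⊔ p).map (Ideal.Quotient.mk p) = ⊥ :=
          Ideal.height_eq_zero_iff_eq_bot.1 (by rw [hht]; rfl)
        have hap : a ≤ p := by
          have h1 : a ⊔ p ≤ p := by
            have := (Ideal.map_eq_bot_iff_le_ker (Ideal.Quotient.mk p)).1 h0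
            rwa [Ideal.mk_ker] at this
          exact le_trans le_sup_left h1
        exact caseZero a M b p hbp hap d hd
      · exact caseOne a p (by rw [hht]; rfl) d M b hbp hd
    · -- height at least two
      obtain ⟨Q, hQp, hQle, hQh⟩ := Ideal.exists_isPrime_height_eq hht
      haveI := hQp
      obtain ⟨q, hq⟩ : ∃ q : Ideal R, q = Q.comap (Ideal.Quotient.mk p) := ⟨_, rfl⟩
      haveI : q.IsPrime := by rw [hq]; infer_instance
      have hqmap : q.map (Ideal.Quotient.mk p) = Q := by
        rw [hq]
        exact Ideal.map_comap_of_surjective _ Ideal.Quotient.mk_surjective Q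
      have hapq : a ⊔ p ≤ q := by
        rw [hq, ← Ideal.map_le_iff_le_comap]
        exact hQle
      have hpq : p ≤ q := le_trans le_sup_right hapq
      have haq : a ≤ q := le_trans le_sup_left hapq
      have hqh : (q.map (Ideal.Quotient.mk p)).height = h := by rw [hqmap]; exact hQh
      have hdq := Groth.Agent.S11650.result R M p q hpq
      rw [hd, hqh] at hdq
      by_cases hbq : b ≤ q
      · obtain ⟨r, hrb, hrp⟩ := SetLike.not_le_iff_exists.1 hbp
        have hne : p ≠ q := by
          intro hpq2
          have h0 : q.map (Ideal.Quotient.mk p) = ⊥ := by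
            rw [← hpq2, Ideal.map_quotient_self]
          rw [h0, Ideal.height_bot] at hqh
          have h1 : (0 : ℕ) = h := by exact_mod_cast hqh
          omega
        obtain ⟨t, htp, hpt, htq, hrt⟩ := Groth.Agent.S11652.result R p q
          (lt_of_le_of_ne hpq hne) (by rw [hqh]; exact_mod_cast hge) r (hbq hrb) hrp
        haveI := htp
        have hbt : ¬ b ≤ t := fun hb => hrt (hb hrb)
        have h1 := Groth.Agent.Lib.AdjDepthH7.height_add_height_le p t q hpt.le htq.le
        rw [hqh] at h1
        have h2 : ((a ⊔ t).map (Ideal.Quotient.mk t)).height ≤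
            (q.map (Ideal.Quotient.mk t)).height :=
          Ideal.height_mono (Ideal.map_mono (sup_le haq htq.le))
        have h3 : 1 ≤ (t.map (Ideal.Quotient.mk p)).height := by
          rw [ENat.one_le_iff_ne_zero]
          intro h0
          rw [Ideal.height_eq_zero_iff_eq_bot] at h0
          have h4 : t ≤ p := by
            have := (Ideal.map_eq_bot_iff_le_ker (Ideal.Quotient.mk p)).1 h0
            rwa [Ideal.mk_ker] at this
          exact absurd hpt (not_lt_of_ge h4)
        have hefin : (t.map (Ideal.Quotient.mk p)).height ≠ ⊤ :=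
          ne_top_of_le_ne_top (ENat.coe_ne_top h) (le_trans le_self_add h1)
        have hcfin : (q.map (Ideal.Quotient.mk t)).height ≠ ⊤ :=
          ne_top_of_le_ne_top (ENat.coe_ne_top h) (le_trans le_add_self h1)
        have hh'fin : ((a ⊔ t).map (Ideal.Quotient.mk t)).height ≠ ⊤ :=
          ne_top_of_le_ne_top hcfin h2
        obtain ⟨e, he⟩ := ENat.ne_top_iff_exists.1 hefin
        obtain ⟨c, hc⟩ := ENat.ne_top_iff_exists.1 hcfin
        obtain ⟨h', hh'⟩ := ENat.ne_top_iff_exists.1 hh'fin
        rw [← he, ← hc] at h1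
        rw [← hh', ← hc] at h2
        rw [← he] at h3
        have h1' : e + c ≤ h := by exact_mod_cast h1
        have h2' : h' ≤ c := by exact_mod_cast h2
        have h3' : 1 ≤ e := by exact_mod_cast h3
        have hdt := Groth.Agent.S11650.result R M p t hpt.le
        rw [hd, ← he] at hdt
        have hdtfin : LocCoh.depth (Localization.AtPrime t)
            (LocalizedModule t.primeCompl M) ≠ ⊤ :=
          ne_top_of_le_ne_top (by exact_mod_cast ENat.coe_ne_top (d + e)) hdt
        obtain ⟨d', hd'⟩ := ENat.ne_top_iff_exists.1 hdtfin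
        rw [← hd'] at hdt
        have hdt' : d' ≤ d + e := by exact_mod_cast hdt
        have key := ih h' (by omega) t hbt hh'.symm d' hd'.symm
        exact F_mono key (by omega)
      · have hdqfin : LocCoh.depth (Localization.AtPrime q)
            (LocalizedModule q.primeCompl M) ≠ ⊤ :=
          ne_top_of_le_ne_top (by exact_mod_cast ENat.coe_ne_top (d + h)) hdq
        obtain ⟨dq, hdq'⟩ := ENat.ne_top_iff_exists.1 hdqfin
        rw [← hdq'] at hdq
        have hdq2 : dq ≤ d + h := by exact_mod_cast hdq
        exact F_mono (caseZero a M b q hbq haq dq hdq'.symm) hdq2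

/-- `f_a^b(M) ≤ λ_a^b(M)` -/
theorem main (b : Ideal R) (M : Type u) [AddCommGroup M] [Module R M] [Module.Finite R M] :
    LocCoh.finDimRel a b M ≤ LocCoh.minAdjDepth a b M := by
  unfold LocCoh.minAdjDepth
  refine le_iInf₂ (fun p hbp => ?_)
  unfold LocCoh.adjDepth
  by_cases hd : LocCoh.depth (Localization.AtPrime p.asIdeal)
      (LocalizedModule p.asIdeal.primeCompl M) = ⊤
  · rw [hd, top_add]
    exact le_top
  by_cases hh : ((a ⊔ p.asIdeal).map (Ideal.Quotient.mk p.asIdeal)).height = ⊤
  · rw [hh, add_top]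
    exact le_top
  obtain ⟨d, hd'⟩ := ENat.ne_top_iff_exists.1 hd
  obtain ⟨h, hh'⟩ := ENat.ne_top_iff_exists.1 hh
  obtain ⟨i, hi, hib⟩ := general a M b h p.asIdeal hbp hh'.symm d hd'.symm
  rw [← hd', ← hh']
  unfold LocCoh.finDimRel
  refine le_trans (iInf₂_le i hib) ?_
  exact_mod_cast hi

end Main

end Groth.Agent.Lib.FinDimLe_helper6
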