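import Mathlib
import Groth.Prelude.Def_Wider
import Groth.Prelude.Def_W4bk5brsh7111920
import Groth.Agent.Lib.FaltingsAnn_helper6
import Groth.Agent.Lib.FinDimLe_helper6
import Groth.Agent.Lib.LocCohFin_helper7

/-!
# Consequences of Faltings' annihilator theorem (helper6)

* `finDimRel_eq`: `f_a^b(M) = λ_a^b(M)` over a homomorphic image of a regular ring.
* `finite_iff_lt_finDimRel`: `H^i_I(M)` is finite for all `i ≤ n` iff `n < f_I(M)`.
* `lt_minAdjDepth_iff`: `n < λ_I^I(M)` iff `depth M_p ≥ n` at all primes `p ⊉ I` covered by a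
  prime containing `I` (SGA 2 VIII, (ii) ⇔ (iii)).
-/

set_option autoImplicit false
universe u

open CategoryTheory Pointwise

namespace Groth.Agent.Lib.FaltingsCor_helper6

section General

variable {A : Type u} [CommRing A] [IsNoetherianRing A]

theorem finite_iff_lt_finDimRel (I : Ideal A) (M : Type u) [AddCommGroup M] [Module A M]
    [Module.Finite A M] (n : ℕ) :
    (∀ i : ℕ, i ≤ n → Module.Finite A (LocCoh.H I i M)) ↔
      (n : ℕ∞) < LocCoh.finDimRel I I M := by
  rw [Groth.Agent.Lib.LocCohFinH7.main I M n]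
  constructor
  · rintro ⟨J, hJ, hkill⟩
    have key : ((n + 1 : ℕ) : ℕ∞) ≤ LocCoh.finDimRel I I M := by
      unfold LocCoh.finDimRel
      refine le_iInf₂ fun i hi => ?_
      by_contra hlt
      rw [not_le] at hlt
      have hin : i ≤ n := by
        have h1 : i < n + 1 := by exact_mod_cast hlt
        omega
      apply hi
      refine hJ.trans (Ideal.radical_mono ?_)
      intro a ha
      exact Module.mem_annihilator.2 (hkill i hin a ha)
    exact lt_of_lt_of_le (by exact_mod_cast Nat.lt_succ_self n) key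
  · intro hlt
    have hN : ∀ q : ℕ, ∃ N : ℕ, q ≤ n → ∀ a ∈ I ^ N, ∀ x : LocCoh.H I q M, a • x = 0 := by
      intro q
      by_cases hq : q ≤ n
      · have hle : I ≤ (Module.annihilator A (LocCoh.H I q M)).radical := by
          by_contra hne
          have h1 : LocCoh.finDimRel I I M ≤ q := by
            unfold LocCoh.finDimRel
            exact iInf₂_le q hne
          have h2 : (n : ℕ∞) < (q : ℕ∞) := lt_of_lt_of_le hlt h1
          have h3 : n < q := by exact_mod_cast h2
          omega
        obtain ⟨N, hN⟩ := Ideal.exists_pow_le_of_le_radical_of_fg hle (IsNoetherian.noetherian I)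
        exact ⟨N, fun _ a ha x => Module.mem_annihilator.1 (hN ha) x⟩
      · exact ⟨0, fun h => absurd h hq⟩
    choose Nf hNf using hN
    refine ⟨I ^ (∑ q ∈ Finset.range (n + 1), Nf q), ?_, ?_⟩
    · intro a ha
      exact ⟨_, Ideal.pow_mem_pow ha _⟩
    · intro q hq a ha x
      exact hNf q hq a (Ideal.pow_le_pow_right
        (Finset.single_le_sum (fun _ _ => Nat.zero_le _)
          (Finset.mem_range.2 (by omega))) ha) x

theorem one_le_height_of_lt (p t : Ideal A) [p.IsPrime] (hpt : p < t) :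
    1 ≤ (t.map (Ideal.Quotient.mk p)).height := by
  rw [ENat.one_le_iff_ne_zero]
  intro h0
  rw [Ideal.height_eq_zero_iff_eq_bot] at h0
  have h4 : t ≤ p := by
    have := (Ideal.map_eq_bot_iff_le_ker (Ideal.Quotient.mk p)).1 h0
    rwa [Ideal.mk_ker] at this
  exact absurd hpt (not_lt_of_ge h4)

theorem height_le_one_of_covBy (p q : PrimeSpectrum A) (h : p ⋖ q) :
    (q.asIdeal.map (Ideal.Quotient.mk p.asIdeal)).height ≤ 1 := by
  have hpq : p.asIdeal ≤ q.asIdeal := h.1.le
  have hπ : Function.Surjective (Ideal.Quotient.mk p.asIdeal) := Ideal.Quotient.mk_surjective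
  haveI hQ : (q.asIdeal.map (Ideal.Quotient.mk p.asIdeal)).IsPrime :=
    Ideal.map_isPrime_of_surjective hπ (by rw [Ideal.mk_ker]; exact hpq)
  have hcomapQ : (q.asIdeal.map (Ideal.Quotient.mk p.asIdeal)).comap
      (Ideal.Quotient.mk p.asIdeal) = q.asIdeal := by
    rw [Ideal.comap_map_of_surjective _ hπ, ← RingHom.ker_eq_comap_bot, Ideal.mk_ker,
      sup_eq_left.2 hpq]
  have h1 : (q.asIdeal.map (Ideal.Quotient.mk p.asIdeal)).height ≤ ((1 : ℕ) : ℕ∞) := by
    rw [Ideal.height_le_iff]
    intro P' hP' hlt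
    haveI := hP'
    let s : PrimeSpectrum A := ⟨P'.comap (Ideal.Quotient.mk p.asIdeal), inferInstance⟩
    have hps : p ≤ s := by
      show p.asIdeal ≤ P'.comap (Ideal.Quotient.mk p.asIdeal)
      intro x hx
      rw [Ideal.mem_comap, Ideal.Quotient.eq_zero_iff_mem.mpr hx]
      exact zero_mem _
    have hmapcomap : (P'.comap (Ideal.Quotient.mk p.asIdeal)).map
        (Ideal.Quotient.mk p.asIdeal) = P' := Ideal.map_comap_of_surjective _ hπ P'
    have hsq : s < q := by
      refine lt_of_le_of_ne ?_ ?_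
      · show P'.comap (Ideal.Quotient.mk p.asIdeal) ≤ q.asIdeal
        rw [← hcomapQ]
        exact Ideal.comap_mono hlt.le
      · intro e
        have e' : P'.comap (Ideal.Quotient.mk p.asIdeal) = q.asIdeal :=
          congrArg PrimeSpectrum.asIdeal e
        rw [e'] at hmapcomap
        exact hlt.ne hmapcomap.symm
    have hsp : s = p := by
      by_contra hne
      exact h.2 (lt_of_le_of_ne hps (Ne.symm hne)) hsq
    have e' : P'.comap (Ideal.Quotient.mk p.asIdeal) = p.asIdeal :=
      congrArg PrimeSpectrum.asIdeal hsp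
    rw [e', Ideal.map_quotient_self] at hmapcomap
    rw [← hmapcomap, Ideal.height_bot]
    exact_mod_cast Nat.zero_lt_one
  exact_mod_cast h1

/-- the inductive step behind SGA 2 VIII (ii) ⇔ (iii) -/
theorem G (I : Ideal A) (M : Type u) [AddCommGroup M] [Module A M] [Module.Finite A M] (n : ℕ)
    (hyp : ∀ p q : PrimeSpectrum A, ¬ I ≤ p.asIdeal → I ≤ q.asIdeal → p ⋖ q →
      (n : ℕ∞) ≤ LocCoh.depth (Localization.AtPrime p.asIdeal)
        (LocalizedModule p.asIdeal.primeCompl M)) :
    ∀ (h : ℕ) (p : Ideal A) [p.IsPrime], ¬ I ≤ p →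
      ((I ⊔ p).map (Ideal.Quotient.mk p)).height = h →
      ∀ d : ℕ, LocCoh.depth (Localization.AtPrime p) (LocalizedModule p.primeCompl M) = d →
        n + 1 ≤ d + h := by
  intro h
  induction h using Nat.strong_induction_on with
  | _ h ih =>
    intro p hp hIp hht d hd
    have hh0 : h ≠ 0 := by
      rintro rfl
      have h0 : (I ⊔ p).map (Ideal.Quotient.mk p) = ⊥ :=
        Ideal.height_eq_zero_iff_eq_bot.1 (by rw [hht]; rfl)
      have h1 : I ⊔ p ≤ p := by
        have := (Ideal.map_eq_bot_iff_le_ker (Ideal.Quotient.mk p)).1 h0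
        rwa [Ideal.mk_ker] at this
      exact hIp (le_trans le_sup_left h1)
    obtain ⟨Q, hQp, hQle, hQh⟩ := Ideal.exists_isPrime_height_eq hht
    haveI := hQp
    obtain ⟨q, hq⟩ : ∃ q : Ideal A, q = Q.comap (Ideal.Quotient.mk p) := ⟨_, rfl⟩
    haveI hqprime : q.IsPrime := by rw [hq]; infer_instance
    have hqmap : q.map (Ideal.Quotient.mk p) = Q := by
      rw [hq]
      exact Ideal.map_comap_of_surjective _ Ideal.Quotient.mk_surjective Q
    have hIpq : I ⊔ p ≤ q := by
      rw [hq, ← Ideal.map_le_iff_le_comap]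
      exact hQle
    have hpq : p ≤ q := le_trans le_sup_right hIpq
    have hIq : I ≤ q := le_trans le_sup_left hIpq
    have hqh : (q.map (Ideal.Quotient.mk p)).height = h := by rw [hqmap]; exact hQh
    have hne : p ≠ q := fun e => hIp (e ▸ hIq)
    have hlt : p < q := lt_of_le_of_ne hpq hne
    rcases Nat.lt_or_ge h 2 with hlt2 | hge
    · have h1 : h = 1 := by omega
      subst h1
      have hcov : (⟨p, hp⟩ : PrimeSpectrum A) ⋖ ⟨q, hqprime⟩ := by
        refine ⟨hlt, ?_⟩
        intro c hpc hcq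
        have hpc' : p < c.asIdeal := hpc
        have hcq' : c.asIdeal < q := hcq
        have e1 := Groth.Agent.Lib.AdjDepthH7.height_add_height_le p c.asIdeal q hpc'.le hcq'.le
        rw [hqh] at e1
        have e2 := one_le_height_of_lt p c.asIdeal hpc'
        have e3 := one_le_height_of_lt c.asIdeal q hcq'
        have e4 : (1 : ℕ∞) + 1 ≤ ((1 : ℕ) : ℕ∞) := le_trans (add_le_add e2 e3) e1
        have e5 : ((2 : ℕ) : ℕ∞) ≤ ((1 : ℕ) : ℕ∞) := by
          refine le_trans (le_of_eq ?_) e4
          norm_num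
        have e6 : 2 ≤ 1 := by exact_mod_cast e5
        omega
      have h2 : (n : ℕ∞) ≤ LocCoh.depth (Localization.AtPrime p)
          (LocalizedModule p.primeCompl M) := hyp ⟨p, hp⟩ ⟨q, hqprime⟩ hIp hIq hcov
      rw [hd] at h2
      have h3 : n ≤ d := by exact_mod_cast h2
      omega
    · obtain ⟨r, hrI, hrp⟩ := SetLike.not_le_iff_exists.1 hIp
      obtain ⟨t, htp, hpt, htq, hrt⟩ := Groth.Agent.S11652.result A p q hlt
        (by rw [hqh]; exact_mod_cast hge) r (hIq hrI) hrp
      haveI := htp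
      have hIt : ¬ I ≤ t := fun hb => hrt (hb hrI)
      have h1 := Groth.Agent.Lib.AdjDepthH7.height_add_height_le p t q hpt.le htq.le
      rw [hqh] at h1
      have h2 : ((I ⊔ t).map (Ideal.Quotient.mk t)).height ≤
          (q.map (Ideal.Quotient.mk t)).height :=
        Ideal.height_mono (Ideal.map_mono (sup_le hIq htq.le))
      have h3 : 1 ≤ (t.map (Ideal.Quotient.mk p)).height := one_le_height_of_lt p t hpt
      have hefin : (t.map (Ideal.Quotient.mk p)).height ≠ ⊤ :=
        ne_top_of_le_ne_top (ENat.coe_ne_top h) (le_trans le_self_add h1)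
      have hcfin : (q.map (Ideal.Quotient.mk t)).height ≠ ⊤ :=
        ne_top_of_le_ne_top (ENat.coe_ne_top h) (le_trans le_add_self h1)
      have hh'fin : ((I ⊔ t).map (Ideal.Quotient.mk t)).height ≠ ⊤ :=
        ne_top_of_le_ne_top hcfin h2
      obtain ⟨e, he⟩ := ENat.ne_top_iff_exists.1 hefin
      obtain ⟨c, hc⟩ := ENat.ne_top_iff_exists.1 hcfin
      obtain ⟨h', hh'⟩ := ENat.ne_top_iff_exists.1 hh'fin
      rw [← he, ← hc] at h1
      rw [← hh', ← hc] at h2
      rw [← he] at h3
      have h1' : e + c ≤ h := by exact_mod_cast h1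
      have h2' : h' ≤ c := by exact_mod_cast h2
      have h3' : 1 ≤ e := by exact_mod_cast h3
      have hdt := Groth.Agent.S11650.result A M p t hpt.le
      rw [hd, ← he] at hdt
      have hdtfin : LocCoh.depth (Localization.AtPrime t)
          (LocalizedModule t.primeCompl M) ≠ ⊤ :=
        ne_top_of_le_ne_top (by exact_mod_cast ENat.coe_ne_top (d + e)) hdt
      obtain ⟨d', hd'⟩ := ENat.ne_top_iff_exists.1 hdtfin
      rw [← hd'] at hdt
      have hdt' : d' ≤ d + e := by exact_mod_cast hdt
      have key := ih h' (by omega) t hIt hh'.symm d' hd'.symm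
      omega

theorem lt_minAdjDepth_iff (I : Ideal A) (M : Type u) [AddCommGroup M] [Module A M]
    [Module.Finite A M] (n : ℕ) :
    (n : ℕ∞) < LocCoh.minAdjDepth I I M ↔
      ∀ p q : PrimeSpectrum A, ¬ I ≤ p.asIdeal → I ≤ q.asIdeal → p ⋖ q →
        (n : ℕ∞) ≤ LocCoh.depth (Localization.AtPrime p.asIdeal)
          (LocalizedModule p.asIdeal.primeCompl M) := by
  constructor
  · intro hlt p q hIp hIq hcov
    have h1 : (n : ℕ∞) < LocCoh.adjDepth I M p :=
      lt_of_lt_of_le hlt (by unfold LocCoh.minAdjDepth; exact iInf₂_le p hIp)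
    unfold LocCoh.adjDepth at h1
    have h2 : ((I ⊔ p.asIdeal).map (Ideal.Quotient.mk p.asIdeal)).height ≤ 1 :=
      (Ideal.height_mono (Ideal.map_mono (sup_le hIq hcov.1.le))).trans
        (height_le_one_of_covBy p q hcov)
    by_contra hcon
    rw [not_le] at hcon
    have h3 : LocCoh.depth (Localization.AtPrime p.asIdeal)
        (LocalizedModule p.asIdeal.primeCompl M) + 1 ≤ (n : ℕ∞) := Order.add_one_le_of_lt hcon
    exact absurd (lt_of_lt_of_le h1 ((add_le_add le_rfl h2).trans h3)) (lt_irrefl _)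
  · intro hyp
    have key : ((n + 1 : ℕ) : ℕ∞) ≤ LocCoh.minAdjDepth I I M := by
      unfold LocCoh.minAdjDepth
      refine le_iInf₂ fun p hIp => ?_
      unfold LocCoh.adjDepth
      by_cases hd : LocCoh.depth (Localization.AtPrime p.asIdeal)
          (LocalizedModule p.asIdeal.primeCompl M) = ⊤
      · rw [hd, top_add]
        exact le_top
      by_cases hh : ((I ⊔ p.asIdeal).map (Ideal.Quotient.mk p.asIdeal)).height = ⊤
      · rw [hh, add_top]
        exact le_top
      obtain ⟨d, hd'⟩ := ENat.ne_top_iff_exists.1 hd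
      obtain ⟨h, hh'⟩ := ENat.ne_top_iff_exists.1 hh
      have h1 := G I M n hyp h p.asIdeal hIp hh'.symm d hd'.symm
      rw [← hd', ← hh']
      exact_mod_cast h1
    exact lt_of_lt_of_le (by exact_mod_cast Nat.lt_succ_self n) key

end General

theorem finDimRel_eq (R : Type u) [CommRing R] [IsRegularRing R] (A : Type u) [CommRing A]
    [IsNoetherianRing A] (π : R →+* A) (hπ : Function.Surjective π) (a b : Ideal A)
    (M : Type u) [AddCommGroup M] [Module A M] [Module.Finite A M] :
    LocCoh.finDimRel a b M = LocCoh.minAdjDepth a b M :=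
  le_antisymm (Groth.Agent.Lib.FinDimLe_helper6.main a b M)
    (Groth.Agent.Lib.FaltingsAnn_helper6.main R A π hπ a b M)

/-- S2930 -/
theorem main2930 (R : Type u) [CommRing R] [IsRegularRing R] (A : Type u) [CommRing A]
    [IsNoetherianRing A] (π : R →+* A) (hπ : Function.Surjective π) (I : Ideal A) (M : Type u)
    [AddCommGroup M] [Module A M] [Module.Finite A M] (n : ℕ) :
    (∀ i : ℕ, i ≤ n → Module.Finite A (LocCoh.H I i M)) ↔
      ∀ p q : PrimeSpectrum A, ¬ I ≤ p.asIdeal → I ≤ q.asIdeal → p ⋖ q →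
        (n : ℕ∞) ≤ LocCoh.depth (Localization.AtPrime p.asIdeal)
          (LocalizedModule p.asIdeal.primeCompl M) := by
  rw [finite_iff_lt_finDimRel I M n, finDimRel_eq R A π hπ I I M]
  exact lt_minAdjDepth_iff I M n

end Groth.Agent.Lib.FaltingsCor_helper6
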