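import Mathlib
import Groth.Prelude.Def_SGA2

/-!
# Basic facts on `SGA2.relCodim` (helper6)
-/

set_option autoImplicit false
universe u

namespace Groth.Agent.Lib.RelCodim_helper6

variable {A : Type u} [CommRing A]

theorem one_le_height_Ici (I : Ideal A) (p q : PrimeSpectrum A) (hpq : p ≤ q)
    (hIp : ¬ I ≤ p.asIdeal) (hIq : I ≤ q.asIdeal) :
    1 ≤ Order.height (⟨q, hpq⟩ : Set.Ici p) := by
  rw [ENat.one_le_iff_ne_zero, Ne, Order.height_eq_zero]
  intro hmin
  have h1 : (⟨q, hpq⟩ : Set.Ici p) ≤ ⟨p, Set.mem_Ici.2 le_rfl⟩ := hmin (b := ⟨p, Set.mem_Ici.2 le_rfl⟩) hpq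
  have h1' : q.asIdeal ≤ p.asIdeal := h1
  exact hIp (le_trans hIq h1')

theorem one_le_relCodim (I : Ideal A) (p : PrimeSpectrum A) (hIp : ¬ I ≤ p.asIdeal) :
    1 ≤ SGA2.relCodim I p := by
  unfold SGA2.relCodim
  refine le_iInf fun q => ?_
  exact one_le_height_Ici I p q.1 q.2.1 hIp q.2.2

theorem relCodim_le (I : Ideal A) (p q : PrimeSpectrum A) (hpq : p ≤ q) (hIq : I ≤ q.asIdeal) :
    SGA2.relCodim I p ≤ Order.height (⟨q, hpq⟩ : Set.Ici p) := by
  unfold SGA2.relCodim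
  exact iInf_le (fun q : {q : PrimeSpectrum A // p ≤ q ∧ I ≤ q.asIdeal} =>
    Order.height (⟨q.1, q.2.1⟩ : Set.Ici p)) ⟨q, hpq, hIq⟩

theorem exists_height_eq_relCodim (I : Ideal A) (p : PrimeSpectrum A)
    (h : SGA2.relCodim I p ≠ ⊤) :
    ∃ (q : PrimeSpectrum A) (hpq : p ≤ q), I ≤ q.asIdeal ∧
      Order.height (⟨q, hpq⟩ : Set.Ici p) = SGA2.relCodim I p := by
  by_cases hne : Nonempty {q : PrimeSpectrum A // p ≤ q ∧ I ≤ q.asIdeal}
  · obtain ⟨q, hq⟩ := ENat.exists_eq_iInf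
      (fun q : {q : PrimeSpectrum A // p ≤ q ∧ I ≤ q.asIdeal} =>
        Order.height (⟨q.1, q.2.1⟩ : Set.Ici p))
    exact ⟨q.1, q.2.1, q.2.2, hq⟩
  · exfalso
    apply h
    rw [not_nonempty_iff] at hne
    unfold SGA2.relCodim
    exact iInf_of_empty _

theorem height_Ici_succ_le (p p' q : PrimeSpectrum A) (hpp' : p < p') (hp'q : p' ≤ q) :
    Order.height (⟨q, hp'q⟩ : Set.Ici p') + 1 ≤
      Order.height (⟨q, le_trans hpp'.le hp'q⟩ : Set.Ici p) := by
  let f : WithBot (Set.Ici p') → Set.Ici p := fun a =>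
    WithBot.recBotCoe (⟨p, Set.mem_Ici.2 le_rfl⟩ : Set.Ici p) (fun x => ⟨x.1, le_trans hpp'.le x.2⟩) a
  have hf : StrictMono f := by
    intro a b hab
    induction a using WithBot.recBotCoe with
    | bot =>
      induction b using WithBot.recBotCoe with
      | bot => exact absurd hab (lt_irrefl _)
      | coe y =>
        show (⟨p, Set.mem_Ici.2 le_rfl⟩ : Set.Ici p) < ⟨y.1, _⟩
        have hy : p' ≤ y.1 := y.2
        exact Subtype.mk_lt_mk.2 (lt_of_lt_of_le hpp' hy)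
    | coe x =>
      induction b using WithBot.recBotCoe with
      | bot => exact absurd hab not_lt_bot
      | coe y =>
        have hxy : x < y := WithBot.coe_lt_coe.1 hab
        show (⟨x.1, _⟩ : Set.Ici p) < ⟨y.1, _⟩
        exact Subtype.mk_lt_mk.2 (show x.1 < y.1 from hxy)
  have h1 := Order.height_le_height_apply_of_strictMono f hf
    ((⟨q, hp'q⟩ : Set.Ici p') : WithBot (Set.Ici p'))
  rw [Order.height_coe_withBot] at h1
  exact h1

end Groth.Agent.Lib.RelCodim_helper6
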