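import Mathlib
import Groth.Prelude.Def_Wider
import Groth.Prelude.Def_W4bk5brsh7111920
import Groth.Prelude.Def_SGA2
import Groth.Prelude.Def_Found
import Groth.Agent.Lib.FaltingsCor_helper6
import Groth.Agent.Lib.RelCodim_helper6
import Groth.Agent.Lib.RegUC_helper8
import Groth.Agent.Lib.CatHt_helper8
import Groth.Agent.Lib.Catenary_helper4
import Groth.Agent.Lib.DepthSk_helper5
import Groth.Agent.Lib.SupportLoc_helper5

/-!
# Finiteness of local cohomology for modules Cohen–Macaulay off `V(I)` (helper6, S2931)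
-/

set_option autoImplicit false
universe u

open CategoryTheory Pointwise

namespace Groth.Agent.Lib.FaltingsCM_helper6

open Groth.Agent.DepthLib Groth.Agent.Lib.FaltingsCor_helper6

section General

variable {A : Type u} [CommRing A]

theorem height_Ici_eq (p q : PrimeSpectrum A) (hpq : p ≤ q) :
    Order.height (⟨q, hpq⟩ : Set.Ici p) =
      (q.asIdeal.map (Ideal.Quotient.mk p.asIdeal)).height := by
  have hπ : Function.Surjective (Ideal.Quotient.mk p.asIdeal) := Ideal.Quotient.mk_surjective
  have hset : PrimeSpectrum.zeroLocus (p.asIdeal : Set A) = Set.Ici p := by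
    ext x
    rw [PrimeSpectrum.mem_zeroLocus, Set.mem_Ici]
    exact Iff.rfl
  haveI hQ : (q.asIdeal.map (Ideal.Quotient.mk p.asIdeal)).IsPrime :=
    Ideal.map_isPrime_of_surjective hπ (by rw [Ideal.mk_ker]; exact hpq)
  have hcomap : (q.asIdeal.map (Ideal.Quotient.mk p.asIdeal)).comap
      (Ideal.Quotient.mk p.asIdeal) = q.asIdeal := by
    rw [Ideal.comap_map_of_surjective _ hπ, ← RingHom.ker_eq_comap_bot, Ideal.mk_ker,
      sup_eq_left.2 hpq]
  have h1 : (OrderIso.setCongr _ _ hset)
      ((Ideal.primeSpectrumQuotientOrderIsoZeroLocus p.asIdeal)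
        (⟨q.asIdeal.map (Ideal.Quotient.mk p.asIdeal), hQ⟩ : PrimeSpectrum (A ⧸ p.asIdeal))) =
      (⟨q, hpq⟩ : Set.Ici p) := by
    apply Subtype.ext
    apply PrimeSpectrum.ext
    exact hcomap
  rw [← h1, Order.height_orderIso, Order.height_orderIso, ← PrimeSpectrum.height_eq_orderHeight]

theorem le_relCodim (I : Ideal A) (p : PrimeSpectrum A) :
    ((I ⊔ p.asIdeal).map (Ideal.Quotient.mk p.asIdeal)).height ≤ SGA2.relCodim I p := by
  unfold SGA2.relCodim
  refine le_iInf fun q => ?_
  rw [height_Ici_eq p q.1 q.2.1]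
  exact Ideal.height_mono (Ideal.map_mono (sup_le q.2.2 q.2.1))

theorem relCodim_le_height (I : Ideal A) (p q : PrimeSpectrum A) (hpq : p ≤ q)
    (hIq : I ≤ q.asIdeal) :
    SGA2.relCodim I p ≤ (q.asIdeal.map (Ideal.Quotient.mk p.asIdeal)).height := by
  rw [← height_Ici_eq p q hpq]
  exact Groth.Agent.Lib.RelCodim_helper6.relCodim_le I p q hpq hIq

/-- third isomorphism theorem for heights -/
theorem height_quot_quot (p₀ p q : Ideal A) (hp₀p : p₀ ≤ p) (hpq : p ≤ q) :
    ((q.map (Ideal.Quotient.mk p₀)).map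
      (Ideal.Quotient.mk (p.map (Ideal.Quotient.mk p₀)))).height =
      (q.map (Ideal.Quotient.mk p)).height := by
  have hπ : Function.Surjective (Ideal.Quotient.mk p₀) := Ideal.Quotient.mk_surjective
  have hker : RingHom.ker ((Ideal.Quotient.mk (p.map (Ideal.Quotient.mk p₀))).comp
      (Ideal.Quotient.mk p₀)) = p := by
    rw [← RingHom.comap_ker, Ideal.mk_ker, Ideal.comap_map_of_surjective _ hπ,
      ← RingHom.ker_eq_comap_bot, Ideal.mk_ker, sup_eq_left.2 hp₀p]
  have h1 := Groth.Agent.Lib.AdjDepth_helper6.height_quot_eq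
    ((Ideal.Quotient.mk (p.map (Ideal.Quotient.mk p₀))).comp (Ideal.Quotient.mk p₀))
    (Ideal.Quotient.mk_surjective.comp hπ) q p hker
  rw [sup_eq_left.2 hpq, ← Ideal.map_map] at h1
  exact h1.symm

end General

section Noeth

variable {A : Type u} [CommRing A] [IsNoetherianRing A]

theorem height_map_le_supportDim (M : Type u) [AddCommGroup M] [Module A M] [Module.Finite A M]
    (p₀ p : Ideal A) [hp₀ : p₀.IsPrime] [hp : p.IsPrime] (hann : Module.annihilator A M ≤ p₀)
    (hp₀p : p₀ ≤ p) :
    (((p.map (Ideal.Quotient.mk p₀)).height : ℕ∞) : WithBot ℕ∞) ≤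
      Module.supportDim (Localization.AtPrime p) (LocalizedModule p.primeCompl M) := by
  have hmem : ∀ x : PrimeSpectrum A, (⟨p₀, hp₀⟩ : PrimeSpectrum A) ≤ x →
      x ∈ Module.support A M := fun x hx =>
    Module.mem_support_iff_of_finite.2 (le_trans hann hx)
  have hpM : (⟨p, hp⟩ : PrimeSpectrum A) ∈ Module.support A M := hmem _ hp₀p
  rw [supportDim_localizedModule M p hpM]
  have h1 := height_Ici_eq (⟨p₀, hp₀⟩ : PrimeSpectrum A) ⟨p, hp⟩ hp₀p
  let f : Set.Ici (⟨p₀, hp₀⟩ : PrimeSpectrum A) → Module.support A M :=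
    fun x => ⟨x.1, hmem x.1 x.2⟩
  have hf : StrictMono f := fun a b hab => hab
  have h2 := Order.height_le_height_apply_of_strictMono f hf
    (⟨⟨p, hp⟩, hp₀p⟩ : Set.Ici (⟨p₀, hp₀⟩ : PrimeSpectrum A))
  have h3 : (p.map (Ideal.Quotient.mk p₀)).height ≤
      Order.height (⟨⟨p, hp⟩, hpM⟩ : Module.support A M) := by
    rw [← h1]
    exact h2
  exact_mod_cast h3

theorem isCatenary_of_surjective (R : Type u) [CommRing R] [IsRegularRing R] (π : R →+* A)
    (hπ : Function.Surjective π) : CAlg.IsCatenary A :=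
  RegUCH8.isCatenary_of_ringEquiv (RingHom.quotientKerEquivOfSurjective hπ)
    (Groth.Agent.Lib.Catenary_helper4.isCatenary_quotient R (RingHom.ker π)
      (RegUCH8.isCatenary_of_isRegularRing R))

/-- S2931 -/
theorem main2931 (R : Type u) [CommRing R] [IsRegularRing R] (π : R →+* A)
    (hπ : Function.Surjective π) (I : Ideal A) (M : Type u)
    [AddCommGroup M] [Module A M] [Module.Finite A M]
    (hCM : ∀ p : PrimeSpectrum A, ¬ I ≤ p.asIdeal →
      Subsingleton (LocalizedModule p.asIdeal.primeCompl M) ∨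
        LocCoh.IsCohenMacaulayModule (Localization.AtPrime p.asIdeal)
          (LocalizedModule p.asIdeal.primeCompl M)) (n : ℕ) :
    (∀ i : ℕ, i ≤ n → Module.Finite A (LocCoh.H I i M)) ↔
      ∀ p : PrimeSpectrum A, ¬ I ≤ p.asIdeal →
        p.asIdeal ∈ (Module.annihilator A M).minimalPrimes → (n : ℕ∞) < SGA2.relCodim I p := by
  have hcat : CAlg.IsCatenary A := isCatenary_of_surjective R π hπ
  rw [finite_iff_lt_finDimRel I M n, finDimRel_eq R A π hπ I I M]
  constructor
  · intro hlt p hIp hpmin
    have h1 : (n : ℕ∞) < LocCoh.adjDepth I M p :=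
      lt_of_lt_of_le hlt (by unfold LocCoh.minAdjDepth; exact iInf₂_le p hIp)
    unfold LocCoh.adjDepth at h1
    have hpM : p ∈ Module.support A M := Module.mem_support_iff_of_finite.2 hpmin.1.2
    haveI : Nontrivial (LocalizedModule p.asIdeal.primeCompl M) := Module.mem_support_iff.1 hpM
    haveI : IsNoetherianRing (Localization.AtPrime p.asIdeal) :=
      IsLocalization.isNoetherianRing p.asIdeal.primeCompl _ inferInstance
    haveI : Module.Finite (Localization.AtPrime p.asIdeal)
        (LocalizedModule p.asIdeal.primeCompl M) :=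
      Module.Finite.of_isLocalizedModule p.asIdeal.primeCompl
        (LocalizedModule.mkLinearMap p.asIdeal.primeCompl M)
    have hdim0 : Module.supportDim (Localization.AtPrime p.asIdeal)
        (LocalizedModule p.asIdeal.primeCompl M) ≤ 0 :=
      (supportDim_localizedModule_le_zero_iff M p.asIdeal hpM).2 hpmin
    have hdep := depth_le_supportDim (Localization.AtPrime p.asIdeal)
      (LocalizedModule p.asIdeal.primeCompl M)
    have hd0 : LocCoh.depth (Localization.AtPrime p.asIdeal)
        (LocalizedModule p.asIdeal.primeCompl M) = 0 := by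
      have h2 : ((LocCoh.depth (Localization.AtPrime p.asIdeal)
          (LocalizedModule p.asIdeal.primeCompl M) : ℕ∞) : WithBot ℕ∞) ≤ ((0 : ℕ∞) : WithBot ℕ∞) :=
        le_trans hdep hdim0
      exact le_antisymm (WithBot.coe_le_coe.1 h2) zero_le
    rw [hd0, zero_add] at h1
    exact lt_of_lt_of_le h1 (le_relCodim I p)
  · intro hyp
    have key : ((n + 1 : ℕ) : ℕ∞) ≤ LocCoh.minAdjDepth I I M := by
      unfold LocCoh.minAdjDepth
      refine le_iInf₂ fun p hIp => ?_
      unfold LocCoh.adjDepth
      rcases hCM p hIp with hsub | hcm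
      · haveI := hsub
        have hd : LocCoh.depth (Localization.AtPrime p.asIdeal)
            (LocalizedModule p.asIdeal.primeCompl M) = ⊤ := by
          unfold LocCoh.depth LocCoh.idealDepth
          rw [if_pos (Subsingleton.elim _ _)]
        rw [hd, top_add]
        exact le_top
      by_cases hh : ((I ⊔ p.asIdeal).map (Ideal.Quotient.mk p.asIdeal)).height = ⊤
      · rw [hh, add_top]
        exact le_top
      obtain ⟨h, hh'⟩ := ENat.ne_top_iff_exists.1 hh
      -- the prime `q`
      obtain ⟨Q, hQp, hQle, hQh⟩ := Ideal.exists_isPrime_height_eq hh'.symm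
      haveI := hQp
      obtain ⟨q, hq⟩ : ∃ q : Ideal A, q = Q.comap (Ideal.Quotient.mk p.asIdeal) := ⟨_, rfl⟩
      haveI hqprime : q.IsPrime := by rw [hq]; infer_instance
      have hqmap : q.map (Ideal.Quotient.mk p.asIdeal) = Q := by
        rw [hq]
        exact Ideal.map_comap_of_surjective _ Ideal.Quotient.mk_surjective Q
      have hIpq : I ⊔ p.asIdeal ≤ q := by
        rw [hq, ← Ideal.map_le_iff_le_comap]
        exact hQle
      have hpq : p.asIdeal ≤ q := le_trans le_sup_right hIpq
      have hIq : I ≤ q := le_trans le_sup_left hIpq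
      have hqh : (q.map (Ideal.Quotient.mk p.asIdeal)).height = h := by rw [hqmap]; exact hQh
      -- the minimal prime `p₀`
      have hnt : Nontrivial (LocalizedModule p.asIdeal.primeCompl M) := by
        by_contra hcon
        rw [not_nontrivial_iff_subsingleton] at hcon
        have hd : LocCoh.depth (Localization.AtPrime p.asIdeal)
            (LocalizedModule p.asIdeal.primeCompl M) = ⊤ := by
          unfold LocCoh.depth LocCoh.idealDepth
          rw [if_pos (Subsingleton.elim _ _)]
        have hcm' : Module.supportDim (Localization.AtPrime p.asIdeal)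
            (LocalizedModule p.asIdeal.primeCompl M) = _ := hcm
        rw [hd, Module.supportDim_eq_bot_of_subsingleton] at hcm'
        exact WithBot.bot_ne_coe hcm'
      have hpM : p ∈ Module.support A M := Module.mem_support_iff.2 hnt
      have hannp : Module.annihilator A M ≤ p.asIdeal := Module.mem_support_iff_of_finite.1 hpM
      obtain ⟨p₀, hp₀min, hp₀p⟩ := Ideal.exists_minimalPrimes_le hannp
      haveI hp₀prime : p₀.IsPrime := hp₀min.1.1
      have hIp₀ : ¬ I ≤ p₀ := fun hle => hIp (le_trans hle hp₀p)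
      have h1 : (n : ℕ∞) < SGA2.relCodim I ⟨p₀, hp₀prime⟩ := hyp ⟨p₀, hp₀prime⟩ hIp₀ hp₀min
      have h2 : SGA2.relCodim I ⟨p₀, hp₀prime⟩ ≤ (q.map (Ideal.Quotient.mk p₀)).height :=
        relCodim_le_height I ⟨p₀, hp₀prime⟩ ⟨q, hqprime⟩ (le_trans hp₀p hpq) hIq
      -- catenary additivity in `A ⧸ p₀`
      have hcatD : CAlg.IsCatenary (A ⧸ p₀) :=
        Groth.Agent.Lib.Catenary_helper4.isCatenary_quotient A p₀ hcat
      haveI hP1 : (p.asIdeal.map (Ideal.Quotient.mk p₀)).IsPrime :=
        Ideal.map_isPrime_of_surjective Ideal.Quotient.mk_surjective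
          (by rw [Ideal.mk_ker]; exact hp₀p)
      haveI hP2 : (q.map (Ideal.Quotient.mk p₀)).IsPrime :=
        Ideal.map_isPrime_of_surjective Ideal.Quotient.mk_surjective
          (by rw [Ideal.mk_ker]; exact le_trans hp₀p hpq)
      have h3 := Groth.Agent.CatHtH8.height_add_height_map_mk_eq hcatD
        (p.asIdeal.map (Ideal.Quotient.mk p₀)) (q.map (Ideal.Quotient.mk p₀))
        (Ideal.map_mono hpq)
      rw [height_quot_quot p₀ p.asIdeal q hp₀p hpq, hqh] at h3
      -- the depth
      have h4 := height_map_le_supportDim M p₀ p.asIdeal hp₀min.1.2 hp₀p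
      have hcm' : Module.supportDim (Localization.AtPrime p.asIdeal)
          (LocalizedModule p.asIdeal.primeCompl M) =
          ((LocCoh.depth (Localization.AtPrime p.asIdeal)
            (LocalizedModule p.asIdeal.primeCompl M) : ℕ∞) : WithBot ℕ∞) := hcm
      rw [hcm'] at h4
      have h5 : (p.asIdeal.map (Ideal.Quotient.mk p₀)).height ≤
          LocCoh.depth (Localization.AtPrime p.asIdeal)
            (LocalizedModule p.asIdeal.primeCompl M) := WithBot.coe_le_coe.1 h4
      rw [← hh']
      have h6 : ((n + 1 : ℕ) : ℕ∞) ≤ (q.map (Ideal.Quotient.mk p₀)).height := by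
        have := Order.add_one_le_of_lt (lt_of_lt_of_le h1 h2)
        exact_mod_cast this
      rw [← h3] at h6
      exact le_trans h6 (add_le_add h5 le_rfl)
    exact lt_of_lt_of_le (by exact_mod_cast Nat.lt_succ_self n) key

end Noeth

end Groth.Agent.Lib.FaltingsCM_helper6
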