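import Mathlib
import Groth.Agent.Lib.FT20_helper6
import Groth.Agent.Lib.FT8_helper6
import Groth.Agent.Lib.LocCohDepth_helper7
import Groth.Agent.Lib.DepthTensor_helper5
import Groth.Agent.Lib.FaltingsCM_helper6
import Groth.Agent.Lib.DMod87_helper6

/-!
# Faltings' annihilator theorem for modules: translation to depth (helper6)
-/

set_option autoImplicit false
set_option linter.style.haveILetI false
set_option linter.unusedSectionVars false
set_option linter.unusedVariables false
universe u
open CategoryTheory CategoryTheory.Limits DerivedCategory Pretriangulated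
open scoped TensorProduct

attribute [local instance] HasDerivedCategory.standard

namespace Groth.Agent.Lib.FaltT

open Groth.Agent.Lib.DMod_helper6 DRing Groth.Agent.ExtendScalarsLib Groth.Agent.Lib.FlatHom
  Groth.Agent.Lib.DerivedTrunc_helper2 Groth.Agent.Lib.HDIColim Groth.Agent.Lib.RGamma
  Groth.Agent.Lib.LocCohDepthH7 Groth.Agent.Lib.LocCohBridgeH7

lemma subsingleton_H_of_subsingleton {R : Type u} [CommRing R] (I : Ideal R) (i : ℕ) (N : Type u)
    [AddCommGroup N] [Module R N] [Subsingleton N] : Subsingleton (LocCoh.H I i N) := by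
  have key : ∀ x : LocCoh.H I i N, x = 0 := fun x => by
    have := smul_H_eq_zero I i N (1 : R) (fun k y => by
      have h0 : (𝟙 (ModuleCat.of R N)) = 0 := by
        ext z
        exact Subsingleton.elim _ _
      have h1 : y = y.comp (Abelian.Ext.mk₀ (𝟙 (ModuleCat.of R N))) (add_zero i) := by
        rw [Abelian.Ext.comp_mk₀_id]
      rw [h0, Abelian.Ext.mk₀_zero, Abelian.Ext.comp_zero] at h1
      rw [h1, smul_zero]) x
    rwa [one_smul] at this
  exact ⟨fun x y => by rw [key x, key y]⟩

/-- depth and vanishing of local cohomology at the maximal ideal -/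
theorem forall_subsingleton_H_iff_lt_depth (R : Type u) [CommRing R] [IsLocalRing R]
    [IsNoetherianRing R] (N : Type u) [AddCommGroup N] [Module R N] [Module.Finite R N] (n : ℕ) :
    (∀ i : ℕ, i ≤ n → Subsingleton (LocCoh.H (IsLocalRing.maximalIdeal R) i N)) ↔
      (n : ℕ∞) < LocCoh.depth R N := by
  rcases subsingleton_or_nontrivial N with hs | hnt
  · have hd : LocCoh.depth R N = ⊤ := by
      unfold LocCoh.depth LocCoh.idealDepth
      rw [if_pos (Subsingleton.elim _ _)]
    rw [hd]
    exact ⟨fun _ => ENat.coe_lt_top n, fun _ i _ => subsingleton_H_of_subsingleton _ i N⟩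
  · have hIM := Groth.Agent.DepthTensor.smul_top_ne_top (A := R) N
    constructor
    · intro h
      by_contra hcon
      rw [not_lt] at hcon
      obtain ⟨m, hm⟩ := ENat.ne_top_iff_exists.1 (ne_top_of_le_ne_top (ENat.coe_ne_top n) hcon)
      have hm' : LocCoh.idealDepth (IsLocalRing.maximalIdeal R) N = (m : ℕ) := hm.symm
      have hmn : m ≤ n := by
        have : ((m : ℕ) : ℕ∞) ≤ n := by rw [hm]; exact hcon
        exact_mod_cast this
      haveI := h m hmn
      haveI := nonvanishing (IsLocalRing.maximalIdeal R) N hIM m hm'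
      exact not_subsingleton (LocCoh.H (IsLocalRing.maximalIdeal R) m N) ‹_›
    · intro h i hi
      exact vanishing (IsLocalRing.maximalIdeal R) N hIM i
        (lt_of_le_of_lt (by exact_mod_cast hi) h)

lemma krullDim_Icc_eq_height {α : Type*} [PartialOrder α] (p q : α) (hpq : p ≤ q) :
    Order.krullDim (Set.Icc p q) =
      ((Order.height (⟨q, hpq⟩ : Set.Ici p) : ℕ∞) : WithBot ℕ∞) := by
  rw [Order.height_eq_krullDim_Iic]
  apply Order.krullDim_eq_of_orderIso
  exact
    { toFun := fun x => ⟨⟨x.1, x.2.1⟩, x.2.2⟩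
      invFun := fun y => ⟨y.1.1, y.1.2, y.2⟩
      left_inv := fun x => rfl
      right_inv := fun y => rfl
      map_rel_iff' := Iff.rfl }

section HDI

variable {B : Type u} [CommRing B]

lemma isStrictlyGE_ΓC (I : Ideal B) (E : DRing.Cx B) (a : ℤ) [E.IsStrictlyGE a] :
    ((ΓC I).obj E).IsStrictlyGE a := by
  rw [CochainComplex.isStrictlyGE_iff]
  intro i hi
  haveI : Subsingleton (E.X i) :=
    ModuleCat.subsingleton_of_isZero (E.isZero_of_isStrictlyGE a i hi)
  haveI : Subsingleton (((ΓC I).obj E).X i) := ⟨fun x y => Subtype.ext (Subsingleton.elim _ _)⟩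
  exact ModuleCat.isZero_of_subsingleton _

/-- `H^i_I(K) = 0` below the lowest cohomology degree of `K` -/
lemma subsingleton_HDI_of_lt [IsNoetherianRing B] (I : Ideal B) (K : Dual.D B) (a : ℤ)
    (hKa : ∀ i : ℤ, i < a → Subsingleton (Dual.HD B K i)) (i : ℤ) (hi : i < a) :
    Subsingleton (Dual2.HDI B I K i) := by
  haveI : K.IsGE a := Groth.Agent.Lib.DMod_helper6.isGE_of_subsingleton_HD K a hKa
  obtain ⟨E, hE, hinj, hKI, ⟨e⟩⟩ := exists_injective_model K a
  haveI := isStrictlyGE_ΓC I E a
  obtain ⟨Eq⟩ := homology_equiv_HDI I E K e i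
  haveI : Subsingleton (((ΓC I).obj E).homology i) :=
    ModuleCat.subsingleton_of_isZero
      ((((ΓC I).obj E).exactAt_of_isGE a i hi).isZero_homology)
  exact Eq.symm.toEquiv.subsingleton

end HDI

end Groth.Agent.Lib.FaltT
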