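import Mathlib
import Groth.Agent.Lib.FT21_helper6

/-!
# Faltings' annihilator theorem for modules: S1711, S1727 (helper6)
-/

set_option autoImplicit false
set_option linter.style.haveILetI false
set_option linter.unusedSectionVars false
set_option linter.unusedVariables false
universe u
open CategoryTheory CategoryTheory.Limits DerivedCategory Pretriangulated
open scoped TensorProduct

attribute [local instance] HasDerivedCategory.standard

namespace Groth.Agent.Lib.FaltT

open Groth.Agent.Lib.DMod_helper6 DRing Groth.Agent.ExtendScalarsLib Groth.Agent.Lib.FlatHom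
  Groth.Agent.Lib.DerivedTrunc_helper2 Groth.Agent.Lib.HDIColim Groth.Agent.Lib.RGamma

variable {A : Type u} [CommRing A] [IsNoetherianRing A]

/-- derived base change exists along a flat map -/
lemma hasLBaseChange_atPrime (p : PrimeSpectrum A) :
    HasLBaseChange (algebraMap A (Localization.AtPrime p.asIdeal)) := by
  haveI : Module.Flat A (Localization.AtPrime p.asIdeal) :=
    IsLocalization.flat _ p.asIdeal.primeCompl
  haveI : (bcD A (Localization.AtPrime p.asIdeal)).IsLeftDerivedFunctor
      ((ES A (Localization.AtPrime p.asIdeal)).mapDerivedCategoryFactorsh).hom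
      (HomotopyCategory.quasiIso (ModuleCat.{u} A) (ComplexShape.up ℤ)) :=
    Functor.isLeftDerivedFunctor_of_inverts _ (bcD A (Localization.AtPrime p.asIdeal))
      ((ES A (Localization.AtPrime p.asIdeal)).mapDerivedCategoryFactorsh)
  exact Functor.HasLeftDerivedFunctor.mk' (bcD A (Localization.AtPrime p.asIdeal))
    ((ES A (Localization.AtPrime p.asIdeal)).mapDerivedCategoryFactorsh).hom

/-- `H^i_{m_p}((M[0])_p)` vanishes iff `i < 0` or `H^i_{m_p}(M_p) = 0` -/
lemma subsingleton_HDI_LBC_inD_iff (p : PrimeSpectrum A)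
    [DRing.HasLBaseChange (algebraMap A (Localization.AtPrime p.asIdeal))]
    (M : Type u) [AddCommGroup M] [Module A M] (k : ℕ) :
    Subsingleton (Dual2.HDI (Localization.AtPrime p.asIdeal)
      (IsLocalRing.maximalIdeal (Localization.AtPrime p.asIdeal))
      ((DRing.LBaseChange (algebraMap A (Localization.AtPrime p.asIdeal))).obj (Dual.inD A M))
      (k : ℤ)) ↔
    Subsingleton (LocCoh.H (IsLocalRing.maximalIdeal (Localization.AtPrime p.asIdeal)) k
      (LocalizedModule p.asIdeal.primeCompl M)) := by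
  haveI := isNoetherianRing_atPrime p.asIdeal
  haveI : Module.Flat A (Localization.AtPrime p.asIdeal) :=
    IsLocalization.flat _ p.asIdeal.primeCompl
  obtain ⟨e⟩ := nonempty_lBaseChange_iso_bcD (A := A) (B := Localization.AtPrime p.asIdeal)
  have eqv : ((Localization.AtPrime p.asIdeal) ⊗[A] M) ≃ₗ[Localization.AtPrime p.asIdeal]
      LocalizedModule p.asIdeal.primeCompl M :=
    (IsLocalizedModule.isBaseChange p.asIdeal.primeCompl (Localization.AtPrime p.asIdeal)
      (LocalizedModule.mkLinearMap p.asIdeal.primeCompl M)).equiv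
  let iso : (DRing.LBaseChange (algebraMap A (Localization.AtPrime p.asIdeal))).obj
      (Dual.inD A M) ≅ Dual.inD (Localization.AtPrime p.asIdeal)
        (LocalizedModule p.asIdeal.primeCompl M) :=
    e.app (Dual.inD A M) ≪≫ bcSingleIso M ≪≫ inDIsoOfLinearEquiv eqv
  obtain ⟨e1⟩ := nonempty_HDI_equiv_of_iso
    (IsLocalRing.maximalIdeal (Localization.AtPrime p.asIdeal)) iso (k : ℤ)
  obtain ⟨e2⟩ := hdi_inD_equiv_locCoh
    (IsLocalRing.maximalIdeal (Localization.AtPrime p.asIdeal))
    (LocalizedModule p.asIdeal.primeCompl M) k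
  exact (e1.trans e2).toEquiv.subsingleton_congr

lemma subsingleton_HDI_LBC_inD_of_neg (p : PrimeSpectrum A)
    [DRing.HasLBaseChange (algebraMap A (Localization.AtPrime p.asIdeal))]
    (M : Type u) [AddCommGroup M] [Module A M] (i : ℤ) (hi : i < 0) :
    Subsingleton (Dual2.HDI (Localization.AtPrime p.asIdeal)
      (IsLocalRing.maximalIdeal (Localization.AtPrime p.asIdeal))
      ((DRing.LBaseChange (algebraMap A (Localization.AtPrime p.asIdeal))).obj (Dual.inD A M))
      i) := by
  haveI := isNoetherianRing_atPrime p.asIdeal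
  haveI : Module.Flat A (Localization.AtPrime p.asIdeal) :=
    IsLocalization.flat _ p.asIdeal.primeCompl
  obtain ⟨e⟩ := nonempty_lBaseChange_iso_bcD (A := A) (B := Localization.AtPrime p.asIdeal)
  let iso : (DRing.LBaseChange (algebraMap A (Localization.AtPrime p.asIdeal))).obj
      (Dual.inD A M) ≅ Dual.inD (Localization.AtPrime p.asIdeal)
        ((Localization.AtPrime p.asIdeal) ⊗[A] M) :=
    e.app (Dual.inD A M) ≪≫ bcSingleIso M
  obtain ⟨e1⟩ := nonempty_HDI_equiv_of_iso
    (IsLocalRing.maximalIdeal (Localization.AtPrime p.asIdeal)) iso i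
  haveI := subsingleton_HDI_of_lt (IsLocalRing.maximalIdeal (Localization.AtPrime p.asIdeal))
    (Dual.inD (Localization.AtPrime p.asIdeal) ((Localization.AtPrime p.asIdeal) ⊗[A] M)) 0
    (subsingleton_HD_inD_of_neg _) i hi
  exact e1.toEquiv.subsingleton

/-- translation of the vanishing condition into the depth condition -/
theorem vanishing_iff_depth (p q : PrimeSpectrum A) (hpq : p ≤ q) (s : ℕ)
    [DRing.HasLBaseChange (algebraMap A (Localization.AtPrime p.asIdeal))]
    (M : Type u) [AddCommGroup M] [Module A M] [Module.Finite A M] :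
    (∀ h : ℕ, Order.height (⟨q, hpq⟩ : Set.Ici p) = h → ∀ i : ℤ, i ≤ (s : ℤ) - h →
      Subsingleton (Dual2.HDI (Localization.AtPrime p.asIdeal)
        (IsLocalRing.maximalIdeal (Localization.AtPrime p.asIdeal))
        ((DRing.LBaseChange (algebraMap A (Localization.AtPrime p.asIdeal))).obj (Dual.inD A M))
        i)) ↔
    (s : WithBot ℕ∞) < ((LocCoh.depth (Localization.AtPrime p.asIdeal)
      (LocalizedModule p.asIdeal.primeCompl M) : ℕ∞) : WithBot ℕ∞) +
        Order.krullDim (Set.Icc p q) := by
  haveI := isNoetherianRing_atPrime p.asIdeal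
  obtain ⟨h₀, hh₀⟩ : ∃ h₀ : ℕ, Order.height (⟨q, hpq⟩ : Set.Ici p) = h₀ := by
    rw [Groth.Agent.Lib.FaltingsCM_helper6.height_Ici_eq p q hpq]
    haveI hQ : (q.asIdeal.map (Ideal.Quotient.mk p.asIdeal)).IsPrime :=
      Ideal.map_isPrime_of_surjective Ideal.Quotient.mk_surjective
        (by rw [Ideal.mk_ker]; exact hpq)
    obtain ⟨h, hh⟩ := ENat.ne_top_iff_exists.mp
      (Ideal.height_ne_top_of_isPrime (I := q.asIdeal.map (Ideal.Quotient.mk p.asIdeal)))
    exact ⟨h, hh.symm⟩
  have hL : (∀ h : ℕ, Order.height (⟨q, hpq⟩ : Set.Ici p) = h → ∀ i : ℤ, i ≤ (s : ℤ) - h →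
      Subsingleton (Dual2.HDI (Localization.AtPrime p.asIdeal)
        (IsLocalRing.maximalIdeal (Localization.AtPrime p.asIdeal))
        ((DRing.LBaseChange (algebraMap A (Localization.AtPrime p.asIdeal))).obj (Dual.inD A M))
        i)) ↔
      (∀ k : ℕ, (k : ℤ) ≤ (s : ℤ) - h₀ →
        Subsingleton (LocCoh.H (IsLocalRing.maximalIdeal (Localization.AtPrime p.asIdeal)) k
          (LocalizedModule p.asIdeal.primeCompl M))) := by
    constructor
    · intro h k hk
      exact (subsingleton_HDI_LBC_inD_iff p M k).1 (h h₀ hh₀ (k : ℤ) hk)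
    · intro h n hn i hi
      have hn' : n = h₀ := by
        rw [hh₀] at hn
        exact_mod_cast hn.symm
      subst hn'
      by_cases hi0 : i < 0
      · exact subsingleton_HDI_LBC_inD_of_neg p M i hi0
      · obtain ⟨k, rfl⟩ : ∃ k : ℕ, i = (k : ℤ) :=
          ⟨i.toNat, (Int.toNat_of_nonneg (by omega)).symm⟩
        exact (subsingleton_HDI_LBC_inD_iff p M k).2 (h k hi)
  rw [hL, krullDim_Icc_eq_height p q hpq, hh₀]
  have hcast : (s : WithBot ℕ∞) = (((s : ℕ) : ℕ∞) : WithBot ℕ∞) := rfl
  rw [hcast, ← WithBot.coe_add, WithBot.coe_lt_coe]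
  set d := LocCoh.depth (Localization.AtPrime p.asIdeal)
    (LocalizedModule p.asIdeal.primeCompl M) with hd
  by_cases hs : s < h₀
  · constructor
    · intro _
      calc ((s : ℕ) : ℕ∞) < (h₀ : ℕ∞) := by exact_mod_cast hs
        _ ≤ d + h₀ := le_add_self
    · intro _ k hk
      omega
  · rw [not_lt] at hs
    obtain ⟨n, rfl⟩ := Nat.exists_eq_add_of_le hs
    have h1 : (∀ k : ℕ, (k : ℤ) ≤ ((h₀ + n : ℕ) : ℤ) - h₀ →
        Subsingleton (LocCoh.H (IsLocalRing.maximalIdeal (Localization.AtPrime p.asIdeal)) k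
          (LocalizedModule p.asIdeal.primeCompl M))) ↔
        (∀ k : ℕ, k ≤ n →
        Subsingleton (LocCoh.H (IsLocalRing.maximalIdeal (Localization.AtPrime p.asIdeal)) k
          (LocalizedModule p.asIdeal.primeCompl M))) := by
      constructor
      · intro h k hk
        exact h k (by push_cast; omega)
      · intro h k hk
        exact h k (by push_cast at hk; omega)
    rw [h1, forall_subsingleton_H_iff_lt_depth]
    have h2 : (((h₀ + n : ℕ) : ℕ) : ℕ∞) = (n : ℕ∞) + (h₀ : ℕ∞) := by
      push_cast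
      exact add_comm _ _
    rw [h2, ← hd]
    exact (ENat.add_lt_add_iff_right (ENat.coe_ne_top h₀)).symm

end Groth.Agent.Lib.FaltT
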