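import Mathlib
import Groth.Agent.Lib.FT22_helper6

/-!
# Faltings' annihilator theorem for modules: S1711, S1727 (helper6)
-/

set_option autoImplicit false
set_option linter.style.haveILetI false
set_option linter.unusedSectionVars false
set_option linter.unusedVariables false
universe u
open CategoryTheory CategoryTheory.Limits DerivedCategory Pretriangulated
open scoped TensorProduct

attribute [local instance] HasDerivedCategory.standard

namespace Groth.Agent.Lib.FaltT

open Groth.Agent.Lib.DMod_helper6 DRing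

variable {A : Type u} [CommRing A] [IsNoetherianRing A]

theorem S1711_main (hA : ∃ ω : Dual.D A, Dual.IsDualizing A ω)
    (T T' : Set (PrimeSpectrum A)) (hT : StableUnderSpecialization T)
    (hT' : StableUnderSpecialization T') (s : ℕ) (M : Type u) [AddCommGroup M] [Module A M]
    [Module.Finite A M] :
    (∃ J : Ideal A, PrimeSpectrum.zeroLocus (J : Set A) ⊆ T' ∧
      ∀ i : ℕ, i ≤ s → ∀ a ∈ J, ∀ x : Dual2.HT T i M, a • x = 0) ↔
    (∀ p q : PrimeSpectrum A, p ∉ T' → q ∈ T → p ≤ q →
      (s : WithBot ℕ∞) < ((LocCoh.depth (Localization.AtPrime p.asIdeal)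
        (LocalizedModule p.asIdeal.primeCompl M) : ℕ∞) : WithBot ℕ∞) +
          Order.krullDim (Set.Icc p q)) := by
  haveI : ∀ p : PrimeSpectrum A,
      DRing.HasLBaseChange (algebraMap A (Localization.AtPrime p.asIdeal)) :=
    fun p => hasLBaseChange_atPrime p
  have hE : ∀ i : ℕ, Nonempty (Dual2.HT T i M ≃ₗ[A] Dual2.HDT A T (Dual.inD A M) (i : ℤ)) :=
    fun i => nonempty_HT_equiv_HDT T i M
  have hneg : ∀ i : ℤ, i < 0 → Subsingleton (Dual2.HDT A T (Dual.inD A M) i) :=
    fun i hi => subsingleton_HDT_of_lt (Dual.inD A M) 0 (subsingleton_HD_inD_of_neg M) i hi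
  have key := S1791_main hA T T' hT hT' (s : ℤ) (Dual.inD A M) 0 (subsingleton_HD_inD_of_neg M)
    (finite_HD_inD M)
  have hL : (∃ J : Ideal A, PrimeSpectrum.zeroLocus (J : Set A) ⊆ T' ∧
      ∀ i : ℕ, i ≤ s → ∀ a ∈ J, ∀ x : Dual2.HT T i M, a • x = 0) ↔
      (∃ J : Ideal A, PrimeSpectrum.zeroLocus (J : Set A) ⊆ T' ∧
      ∀ i : ℤ, i ≤ (s : ℤ) → ∀ x ∈ J, ∀ y : Dual2.HDT A T (Dual.inD A M) i, x • y = 0) := by
    constructor
    · rintro ⟨J, hJ, hk⟩
      refine ⟨J, hJ, fun j hj x hx y => ?_⟩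
      by_cases hj0 : j < 0
      · haveI := hneg j hj0
        exact Subsingleton.elim _ _
      · obtain ⟨k, rfl⟩ : ∃ k : ℕ, j = (k : ℤ) := ⟨j.toNat, (Int.toNat_of_nonneg (by omega)).symm⟩
        obtain ⟨E⟩ := hE k
        apply E.symm.injective
        rw [map_smul, map_zero]
        exact hk k (by exact_mod_cast hj) x hx _
    · rintro ⟨J, hJ, hk⟩
      refine ⟨J, hJ, fun i hi a ha x => ?_⟩
      obtain ⟨E⟩ := hE i
      apply E.injective
      rw [map_smul, map_zero]
      exact hk (i : ℤ) (by exact_mod_cast hi) a ha _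
  rw [hL, key]
  constructor
  · intro h p q hp hq hpq
    exact (vanishing_iff_depth p q hpq s M).1 (fun n hn i hi => h p q hpq hp hq n hn i hi)
  · intro h p q hpq hp hq n hn i hi
    exact (vanishing_iff_depth p q hpq s M).2 (h p q hp hq hpq) n hn i hi

theorem S1727_main (hA : ∃ ω : Dual.D A, Dual.IsDualizing A ω)
    (T : Set (PrimeSpectrum A)) (hT : StableUnderSpecialization T)
    (s : ℕ) (M : Type u) [AddCommGroup M] [Module A M] [Module.Finite A M] :
    (∀ i : ℕ, i ≤ s → Module.Finite A (Dual2.HT T i M)) ↔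
    (∀ p q : PrimeSpectrum A, p ∉ T → q ∈ T → p ≤ q →
      (s : WithBot ℕ∞) < ((LocCoh.depth (Localization.AtPrime p.asIdeal)
        (LocalizedModule p.asIdeal.primeCompl M) : ℕ∞) : WithBot ℕ∞) +
          Order.krullDim (Set.Icc p q)) := by
  rw [S1751_main (T := T) M s]
  exact S1711_main hA T T hT hT s M

end Groth.Agent.Lib.FaltT
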