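import Mathlib
import Groth.Agent.Lib.FT23_helper6
import Groth.Agent.Lib.KInjResInj_helper2

/-!
# Local annihilation of `H^i_I(M)`: S1765 (helper6)
-/

set_option autoImplicit false
set_option linter.style.haveILetI false
set_option linter.unusedSectionVars false
set_option linter.unusedVariables false
universe u
open CategoryTheory CategoryTheory.Limits DerivedCategory Pretriangulated
open scoped TensorProduct

attribute [local instance] HasDerivedCategory.standard

namespace Groth.Agent.Lib.FaltT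

open Groth.Agent.Lib.DMod_helper6 DRing Groth.Agent.Lib.FlatHom Groth.Agent.Lib.HDIColim
  Groth.Agent.Lib.RGamma

variable {A : Type u} [CommRing A] [IsNoetherianRing A]

/-- `Γ_{V(I)} ≅ Γ_I` over a Noetherian ring -/
noncomputable def gammaTIso (I : Ideal A) :
    gammaT (PrimeSpectrum.zeroLocus (I : Set A)) ≅ DRing.gammaI I :=
  NatIso.ofComponents
    (fun M => (LinearEquiv.ofEq _ _ (torsT_zeroLocus_eq I M)).toModuleIso)
    (by
      intro M N f
      ext x
      rfl)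

/-- `H^i_{V(I)}(K) ≃ H^i_I(K)` -/
theorem nonempty_HDT_zeroLocus_equiv_HDI (I : Ideal A) (K : Dual.D A) (i : ℤ) :
    Nonempty (Dual2.HDT A (PrimeSpectrum.zeroLocus (I : Set A)) K i ≃ₗ[A] Dual2.HDI A I K i) := by
  let X := Q.objPreimage K
  let eK : Q.obj X ≅ K := Q.objObjPreimageIso K
  obtain ⟨J, a, hJ, ha, -⟩ := Groth.Agent.Lib.KInjRes.exists_kinj_resolution_inj X
  haveI := hJ
  haveI : IsIso (Q.map a) := (isIso_Q_map_iff_quasiIso (C := ModuleCat.{u} A) a).2 ha
  let e : K ≅ Q.obj J := eK.symm ≪≫ asIso (Q.map a)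
  obtain ⟨E1⟩ := homology_equiv_HDT (PrimeSpectrum.zeroLocus (I : Set A)) J K e i
  obtain ⟨E2⟩ := homology_equiv_HDI I J K e i
  let iso : (ΓTC (PrimeSpectrum.zeroLocus (I : Set A))).obj J ≅ (ΓC I).obj J :=
    (NatIso.mapHomologicalComplex (gammaTIso I) (ComplexShape.up ℤ)).app J
  exact ⟨(E1.symm.trans ((HomologicalComplex.homologyFunctor (ModuleCat.{u} A)
    (ComplexShape.up ℤ) i).mapIso iso).toLinearEquiv).trans E2⟩

theorem S1765_main (hA : ∃ ω : Dual.D A, Dual.IsDualizing A ω) (I : Ideal A) (M : Type u)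
    [AddCommGroup M] [Module A M] [Module.Finite A M] (p : PrimeSpectrum A)
    (hp : ¬ I ≤ p.asIdeal) (s : ℕ)
    (h : ∀ p' q : PrimeSpectrum A, p' ≤ p → I ≤ q.asIdeal → p' ≤ q →
      (s : WithBot ℕ∞) < ((LocCoh.depth (Localization.AtPrime p'.asIdeal)
        (LocalizedModule p'.asIdeal.primeCompl M) : ℕ∞) : WithBot ℕ∞) +
          Order.krullDim (Set.Icc p' q)) :
    ∃ f : A, f ∉ p.asIdeal ∧ ∀ i : ℕ, i ≤ s → ∀ x : LocCoh.H I i M, f • x = 0 := by
  have hT : StableUnderSpecialization (PrimeSpectrum.zeroLocus (I : Set A)) :=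
    (PrimeSpectrum.isClosed_zeroLocus _).stableUnderSpecialization
  have hT' : StableUnderSpecialization {r : PrimeSpectrum A | ¬ r ≤ p} := by
    intro r r' hrr' hr hle
    exact hr (le_trans ((PrimeSpectrum.le_iff_specializes _ _).2 hrr') hle)
  obtain ⟨J, hJ, hk⟩ := (S1711_main hA (PrimeSpectrum.zeroLocus (I : Set A))
    {r : PrimeSpectrum A | ¬ r ≤ p} hT hT' s M).2
    (fun p' q hp' hq hpq => h p' q (not_not.1 hp') ((PrimeSpectrum.mem_zeroLocus _ _).1 hq) hpq)
  have hJp : ¬ J ≤ p.asIdeal := fun hle =>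
    (hJ ((PrimeSpectrum.mem_zeroLocus _ _).2 hle)) le_rfl
  obtain ⟨f, hfJ, hfp⟩ := Set.not_subset.1 hJp
  refine ⟨f, hfp, fun i hi x => ?_⟩
  obtain ⟨E1⟩ := nonempty_HT_equiv_HDT (PrimeSpectrum.zeroLocus (I : Set A)) i M
  obtain ⟨E2⟩ := nonempty_HDT_zeroLocus_equiv_HDI I (Dual.inD A M) (i : ℤ)
  obtain ⟨E3⟩ := hdi_inD_equiv_locCoh I M i
  apply ((E1.trans E2).trans E3).symm.injective
  rw [map_smul, map_zero]
  exact hk i hi f hfJ _

end Groth.Agent.Lib.FaltT
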