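import Mathlib
import Groth.Prelude.Def_Wider
import Groth.Prelude.Def_DualLC
import Groth.Agent.Lib.HmapExact_helper6

/-!
# Surjectivity / injectivity of `H^i_{I'}(M) → H^i_I(M)` from local vanishing (helper6)
-/

open CategoryTheory CategoryTheory.Limits Opposite TensorProduct

namespace Groth.Agent.Lib.HmapLocal_helper6

open Groth.Agent.Lib.HmapBasic_helper6 Groth.Agent.Lib.HmapExact_helper6 LocCoh

universe u

variable {R : Type u} [CommRing R]

/-- the `b`-power torsion submodule -/
def btors (b : R) (X : Type u) [AddCommGroup X] [Module R X] : Submodule R X where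
  carrier := {x | ∃ n : ℕ, b ^ n • x = 0}
  add_mem' := by
    rintro x y ⟨n, hn⟩ ⟨m, hm⟩
    refine ⟨n + m, ?_⟩
    have h1 : b ^ (n + m) • x = 0 := by rw [pow_add, mul_comm, mul_smul, hn, smul_zero]
    have h2 : b ^ (n + m) • y = 0 := by rw [pow_add, mul_smul, hm, smul_zero]
    rw [smul_add, h1, h2, add_zero]
  zero_mem' := ⟨0, smul_zero _⟩
  smul_mem' := by
    rintro r x ⟨n, hn⟩
    exact ⟨n, by rw [smul_comm, hn, smul_zero]⟩

variable [IsNoetherianRing R]

/-- if the local cohomology `H^i_p(M)` vanishes after localizing at `p`, for all primes `p ⊇ a` not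
containing `b`, then `H^i_a(M)` is `b`-power torsion -/
theorem torsion_of_LV (b : R) (M : Type u) [AddCommGroup M] [Module R M] (i : ℕ) (a : Ideal R) :
    (∀ p : Ideal R, p.IsPrime → a ≤ p → b ∉ p →
      ∀ x : LocCoh.H p i M, ∃ s : R, s ∉ p ∧ s • x = 0) →
    ∀ y : LocCoh.H a i M, ∃ n : ℕ, b ^ n • y = 0 := by
  induction a using IsNoetherian.induction with
  | hgt a ih =>
  intro hLV y
  by_contra hy
  let T := btors b (LocCoh.H a i M)
  have hyT : y ∉ T := hy
  haveI : Nontrivial (LocCoh.H a i M ⧸ T) := by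
    refine ⟨⟨T.mkQ y, 0, ?_⟩⟩
    intro h0
    exact hyT ((Submodule.Quotient.mk_eq_zero T).1 h0)
  obtain ⟨q, hq⟩ := associatedPrimes.nonempty R (LocCoh.H a i M ⧸ T)
  obtain ⟨hqp, xbar, hqx⟩ := isAssociatedPrime_iff.1 hq
  obtain ⟨x, rfl⟩ := Submodule.mkQ_surjective T xbar
  have hmem : ∀ r : R, r ∈ q ↔ r • x ∈ T := by
    intro r
    rw [hqx, Submodule.mem_colon_singleton, Submodule.mem_bot, ← map_smul, Submodule.mkQ_apply,
      Submodule.Quotient.mk_eq_zero]
  have hbq : b ∉ q := by
    intro hb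
    obtain ⟨n, hn⟩ := (hmem b).1 hb
    have hx : x ∈ T := ⟨n + 1, by rw [pow_succ, mul_smul, hn]⟩
    have h1 : (1 : R) ∈ q := (hmem 1).2 (by rw [one_smul]; exact hx)
    exact hqp.ne_top ((Ideal.eq_top_iff_one q).2 h1)
  obtain ⟨m, hm⟩ : ∃ m : ℕ, ∀ t ∈ q, b ^ m • (t • x) = 0 := by
    let ψ : ↥q →ₗ[R] LocCoh.H a i M :=
      (LinearMap.toSpanSingleton R (LocCoh.H a i M) x) ∘ₗ q.subtype
    obtain ⟨r, s, hs⟩ := Module.Finite.exists_fin (R := R) (M := ↥q)
    choose nf hnf using fun j => (hmem (s j : R)).1 (s j).2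
    refine ⟨∑ j, nf j, fun t ht => ?_⟩
    have hle2 : Submodule.span R (Set.range s) ≤ LinearMap.ker ((b ^ (∑ j, nf j)) • ψ) := by
      rw [Submodule.span_le]
      rintro _ ⟨j, rfl⟩
      rw [SetLike.mem_coe, LinearMap.mem_ker, LinearMap.smul_apply]
      have hpow : b ^ (∑ j, nf j) = b ^ (∑ j', nf j' - nf j) * b ^ nf j := by
        rw [← pow_add, Nat.sub_add_cancel
          (Finset.single_le_sum (fun _ _ => Nat.zero_le _) (Finset.mem_univ j))]
      have h0 : b ^ nf j • ψ (s j) = 0 := hnf j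
      rw [hpow, mul_smul, h0, smul_zero]
    have ht' : (⟨t, ht⟩ : ↥q) ∈ Submodule.span R (Set.range s) := by rw [hs]; trivial
    exact LinearMap.mem_ker.1 (hle2 ht')
  have hann : ∀ u : R, u • (b ^ m • x) = 0 ↔ u ∈ q := by
    intro u
    constructor
    · intro hu
      have h1 : (u * b ^ m) • x ∈ T := ⟨0, by rw [pow_zero, one_smul, mul_smul]; exact hu⟩
      have h2 : u * b ^ m ∈ q := (hmem _).2 h1
      rcases hqp.mem_or_mem h2 with h3 | h3
      · exact h3
      · exact absurd (hqp.mem_of_pow_mem m h3) hbq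
    · intro hu
      rw [smul_comm]
      exact hm u hu
  have haq : a ≤ q := by
    obtain ⟨k, hk⟩ := Groth.Agent.Lib.LocCohTorsH7.main R a i M (b ^ m • x)
    have h1 : a ^ k ≤ q := fun r hr => (hann r).1 (hk r hr)
    exact hqp.le_of_pow_le h1
  by_cases haq' : a = q
  · subst haq'
    obtain ⟨s, hs, hsx⟩ := hLV a hqp le_rfl hbq (b ^ m • x)
    exact hs ((hann s).1 hsx)
  · have hlt : a < q := lt_of_le_of_ne haq haq'
    obtain ⟨t, htq, hta⟩ := SetLike.exists_of_lt hlt
    have hty : t ^ 1 • (b ^ m • x) = 0 := by rw [pow_one]; exact (hann t).2 htq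
    obtain ⟨z, hz⟩ := PA_all a t i M (b ^ m • x) 1 hty
    have hJ : a < a ⊔ Ideal.span {t} := by
      refine lt_of_le_of_ne le_sup_left ?_
      intro heq
      have h1 : t ∈ a ⊔ Ideal.span {t} := Ideal.mem_sup_right (Ideal.mem_span_singleton_self t)
      rw [← heq] at h1
      exact hta h1
    obtain ⟨n, hn⟩ := ih (a ⊔ Ideal.span {t}) hJ
      (fun p hp hap hbp x => hLV p hp (le_sup_left.trans hap) hbp x) z
    have h2 : b ^ n • (b ^ m • x) = 0 := by rw [← hz, ← map_smul, hn, map_zero]
    exact hbq (hqp.mem_of_pow_mem n ((hann _).1 h2))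

/-- vanishing of the local cohomology of `M_p` at the maximal ideal kills `H^i_p(M)` locally -/
theorem LV_of_local (p : Ideal R) [hp : p.IsPrime] (M : Type u) [AddCommGroup M] [Module R M]
    (i : ℕ)
    (h : Subsingleton (LocCoh.H (IsLocalRing.maximalIdeal (Localization.AtPrime p)) i
      (LocalizedModule p.primeCompl M)))
    (x : LocCoh.H p i M) : ∃ s : R, s ∉ p ∧ s • x = 0 := by
  haveI : IsNoetherianRing (Localization.AtPrime p) :=
    IsLocalization.isNoetherianRing p.primeCompl _ inferInstance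
  obtain ⟨φ⟩ := Groth.Agent.Lib.LocCohFlatBCH7.main (Localization.AtPrime p) p i M
  have hmax : p.map (algebraMap R (Localization.AtPrime p)) =
      IsLocalRing.maximalIdeal (Localization.AtPrime p) :=
    Localization.AtPrime.map_eq_maximalIdeal
  let e : LocalizedModule p.primeCompl M ≃ₗ[Localization.AtPrime p]
      (Localization.AtPrime p) ⊗[R] M := LocalizedModule.equivTensorProduct p.primeCompl M
  have h2 : Subsingleton (LocCoh.H (p.map (algebraMap R (Localization.AtPrime p))) i
      ((Localization.AtPrime p) ⊗[R] M)) := by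
    rw [hmax]
    haveI := h
    exact (((localCohomology (IsLocalRing.maximalIdeal (Localization.AtPrime p)) i).mapIso
      e.toModuleIso).toLinearEquiv.symm.toEquiv).subsingleton
  have h3 : Subsingleton ((Localization.AtPrime p) ⊗[R] (LocCoh.H p i M)) :=
    φ.toEquiv.subsingleton
  have hloc : IsLocalizedModule p.primeCompl
      (TensorProduct.mk R (Localization.AtPrime p) (LocCoh.H p i M) 1) :=
    (isLocalizedModule_iff_isBaseChange p.primeCompl (Localization.AtPrime p) _).2
      (TensorProduct.isBaseChange R (LocCoh.H p i M) (Localization.AtPrime p))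
  have h4 : (TensorProduct.mk R (Localization.AtPrime p) (LocCoh.H p i M) 1) x = 0 :=
    Subsingleton.elim _ _
  obtain ⟨s, hs⟩ := (IsLocalizedModule.eq_zero_iff p.primeCompl _).1 h4
  exact ⟨s.1, s.2, hs⟩

section span

lemma surj_congr {J K K' : Ideal R} (hK : K = K') (h : J ≤ K) (h' : J ≤ K') (i : ℕ)
    (X : ModuleCat.{u} R) :
    Function.Surjective ((Dual2.HmapOfLE h i).app X).hom ↔
      Function.Surjective ((Dual2.HmapOfLE h' i).app X).hom := by
  subst hK
  rfl

lemma inj_congr {J K K' : Ideal R} (hK : K = K') (h : J ≤ K) (h' : J ≤ K') (i : ℕ)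
    (X : ModuleCat.{u} R) :
    Function.Injective ((Dual2.HmapOfLE h i).app X).hom ↔
      Function.Injective ((Dual2.HmapOfLE h' i).app X).hom := by
  subst hK
  rfl

theorem surj_span (M : Type u) [AddCommGroup M] [Module R M] (i : ℕ) (s : Finset R) :
    ∀ (I : Ideal R),
    (∀ p : Ideal R, p.IsPrime → I ≤ p → ¬ (I ⊔ Ideal.span (s : Set R)) ≤ p →
      ∀ x : LocCoh.H p i M, ∃ t : R, t ∉ p ∧ t • x = 0) →
    Function.Surjective ((Dual2.HmapOfLE (le_sup_left : I ≤ I ⊔ Ideal.span (s : Set R)) i).app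
      (ModuleCat.of R M)).hom := by
  classical
  induction s using Finset.induction_on with
  | empty =>
    intro I _
    exact (hmap_bijective_of_eq _ (by simp) i _).2
  | insert b s hb ih =>
    intro I hLV
    have heq : (I ⊔ Ideal.span {b}) ⊔ Ideal.span (s : Set R) =
        I ⊔ Ideal.span ((insert b s : Finset R) : Set R) := by
      rw [Finset.coe_insert, Ideal.span_insert, sup_assoc]
    have h₁ : I ≤ I ⊔ Ideal.span {b} := le_sup_left
    have h₂ : I ⊔ Ideal.span {b} ≤ I ⊔ Ideal.span ((insert b s : Finset R) : Set R) :=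
      heq ▸ le_sup_left
    have hs₁ : Function.Surjective ((Dual2.HmapOfLE h₁ i).app (ModuleCat.of R M)).hom := by
      apply surj_of_torsion I b i M
      apply torsion_of_LV b M i I
      intro p hp hIp hbp x
      refine hLV p hp hIp ?_ x
      intro hle
      exact hbp (hle (Ideal.mem_sup_right (Ideal.subset_span (by simp))))
    have hs₂ : Function.Surjective ((Dual2.HmapOfLE h₂ i).app (ModuleCat.of R M)).hom := by
      rw [← surj_congr heq le_sup_left h₂ i]
      apply ih (I ⊔ Ideal.span {b})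
      intro p hp hIp hnp x
      refine hLV p hp (le_sup_left.trans hIp) ?_ x
      rw [← heq]
      exact hnp
    intro y
    obtain ⟨x₁, hx₁⟩ := hs₁ y
    obtain ⟨x₂, hx₂⟩ := hs₂ x₁
    refine ⟨x₂, ?_⟩
    rw [← hx₁, ← hx₂]
    exact hmap_comp h₁ h₂ i _ x₂

theorem inj_span (M : Type u) [AddCommGroup M] [Module R M] (i : ℕ) (s : Finset R) :
    ∀ (I : Ideal R),
    (∀ p : Ideal R, p.IsPrime → I ≤ p → ¬ (I ⊔ Ideal.span (s : Set R)) ≤ p →
      ∀ x : LocCoh.H p i M, ∃ t : R, t ∉ p ∧ t • x = 0) →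
    Function.Injective
      ((Dual2.HmapOfLE (le_sup_left : I ≤ I ⊔ Ideal.span (s : Set R)) (i + 1)).app
        (ModuleCat.of R M)).hom := by
  classical
  induction s using Finset.induction_on with
  | empty =>
    intro I _
    exact (hmap_bijective_of_eq _ (by simp) (i + 1) _).1
  | insert b s hb ih =>
    intro I hLV
    have heq : (I ⊔ Ideal.span {b}) ⊔ Ideal.span (s : Set R) =
        I ⊔ Ideal.span ((insert b s : Finset R) : Set R) := by
      rw [Finset.coe_insert, Ideal.span_insert, sup_assoc]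
    have h₁ : I ≤ I ⊔ Ideal.span {b} := le_sup_left
    have h₂ : I ⊔ Ideal.span {b} ≤ I ⊔ Ideal.span ((insert b s : Finset R) : Set R) :=
      heq ▸ le_sup_left
    have hs₁ : Function.Injective ((Dual2.HmapOfLE h₁ (i + 1)).app (ModuleCat.of R M)).hom := by
      apply inj_succ_of_torsion I b i M
      apply torsion_of_LV b M i I
      intro p hp hIp hbp x
      refine hLV p hp hIp ?_ x
      intro hle
      exact hbp (hle (Ideal.mem_sup_right (Ideal.subset_span (by simp))))
    have hs₂ : Function.Injective ((Dual2.HmapOfLE h₂ (i + 1)).app (ModuleCat.of R M)).hom := by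
      rw [← inj_congr heq le_sup_left h₂ (i + 1)]
      apply ih (I ⊔ Ideal.span {b})
      intro p hp hIp hnp x
      refine hLV p hp (le_sup_left.trans hIp) ?_ x
      rw [← heq]
      exact hnp
    intro x y hxy
    apply hs₂
    apply hs₁
    have e1 := hmap_comp h₁ h₂ (i + 1) (ModuleCat.of R M) x
    have e2 := hmap_comp h₁ h₂ (i + 1) (ModuleCat.of R M) y
    exact e1.symm.trans (hxy.trans e2)

end span

/-- S1806 -/
theorem main1806 (I I' : Ideal R) (h : I ≤ I') (M : Type u) [AddCommGroup M] [Module R M]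
    (i : ℕ) :
    ((∀ p : PrimeSpectrum R, I ≤ p.asIdeal → ¬ I' ≤ p.asIdeal →
        Subsingleton (LocCoh.H (IsLocalRing.maximalIdeal (Localization.AtPrime p.asIdeal)) i
          (LocalizedModule p.asIdeal.primeCompl M))) →
      Function.Surjective ((Dual2.HmapOfLE h i).app (ModuleCat.of R M)).hom) ∧
    ((∀ p : PrimeSpectrum R, I ≤ p.asIdeal → ¬ I' ≤ p.asIdeal → ∀ j : ℕ, j + 1 = i →
        Subsingleton (LocCoh.H (IsLocalRing.maximalIdeal (Localization.AtPrime p.asIdeal)) j
          (LocalizedModule p.asIdeal.primeCompl M))) →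
      Function.Injective ((Dual2.HmapOfLE h i).app (ModuleCat.of R M)).hom) := by
  obtain ⟨s, hs⟩ := (IsNoetherian.noetherian I' : I'.FG)
  have hs' : Ideal.span (s : Set R) = I' := hs
  have heq : I ⊔ Ideal.span (s : Set R) = I' := by
    rw [hs']
    exact sup_eq_right.2 h
  constructor
  · intro hyp
    rw [← surj_congr heq le_sup_left h i]
    apply surj_span M i s I
    intro p hp hIp hnp x
    haveI := hp
    rw [heq] at hnp
    exact LV_of_local p M i (hyp ⟨p, hp⟩ hIp hnp) x
  · intro hyp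
    rcases i with _ | j
    · exact hmap_zero_injective h M
    · rw [← inj_congr heq le_sup_left h (j + 1)]
      apply inj_span M j s I
      intro p hp hIp hnp x
      haveI := hp
      rw [heq] at hnp
      exact LV_of_local p M j (hyp ⟨p, hp⟩ hIp hnp j rfl) x

end Groth.Agent.Lib.HmapLocal_helper6
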