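import Mathlib
import Groth.Agent.Lib.Ann2_helper1
import Groth.Agent.Lib.LocCohDepth_helper7
import Groth.Agent.S1765
import Groth.Agent.S1806
import Groth.Agent.S11650

/-!
# Annihilators of `H^i(RΓ_J(M)^∧)` away from a prime (helper1)

* `dimBetween_le_krullDim_Icc`: `dim (A/p)_q ≤ krullDim [p, q]`;
* `height_add_dim_le`: `ht(p/p') + dim(A/p) ≤ krullDim [p', q]` if every prime is `≤ q`;
* `main8793`, `main8794`.
-/

set_option autoImplicit false
universe u
open CategoryTheory CategoryTheory.Limits DerivedCategory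

attribute [local instance] HasDerivedCategory.standard

namespace Groth.Agent.Lib.AnnH1

open Groth.Agent.Lib.LocFib

variable {A : Type u} [CommRing A]

/-! ### Lists of generators -/

lemma exists_list_span_ne_nil [IsNoetherianRing A] (I : Ideal A) :
    ∃ fs : List A, fs ≠ [] ∧ Ideal.span {x : A | x ∈ fs} = I := by
  obtain ⟨fs, hfs⟩ := exists_list_span I
  refine ⟨0 :: fs, List.cons_ne_nil _ _, ?_⟩
  rw [← hfs]
  apply le_antisymm
  · rw [Ideal.span_le]
    intro x hx
    rcases List.mem_cons.1 hx with rfl | hx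
    · exact Ideal.zero_mem _
    · exact Ideal.subset_span hx
  · exact Ideal.span_mono (fun x hx => List.mem_cons_of_mem _ hx)

lemma span_append_le_iff (fs gs : List A) (q : Ideal A) :
    Ideal.span {x : A | x ∈ fs ++ gs} ≤ q ↔
      Ideal.span {x : A | x ∈ fs} ≤ q ∧ Ideal.span {x : A | x ∈ gs} ≤ q := by
  simp only [Ideal.span_le]
  constructor
  · intro h
    exact ⟨fun x hx => h (List.mem_append_left _ hx), fun x hx => h (List.mem_append_right _ hx)⟩
  · rintro ⟨h1, h2⟩ x hx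
    rcases List.mem_append.1 hx with hx | hx
    · exact h1 hx
    · exact h2 hx

/-! ### Dimension theory -/

lemma comap_lt_comap_of_surjective {R S : Type*} [CommRing R] [CommRing S] (f : R →+* S)
    (hf : Function.Surjective f) {P P' : PrimeSpectrum S} (h : P < P') :
    PrimeSpectrum.comap f P < PrimeSpectrum.comap f P' := by
  rw [lt_iff_le_not_ge] at h ⊢
  refine ⟨fun a ha => h.1 ha, fun hle => h.2 ?_⟩
  intro x hx
  obtain ⟨a, rfl⟩ := hf x
  exact hle hx

lemma dimBetween_le_krullDim_Icc (p q : PrimeSpectrum A) :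
    Formal2.dimBetween A p.asIdeal q.asIdeal ≤ Order.krullDim (Set.Icc p q) := by
  obtain ⟨g, hg⟩ : ∃ g : A →+* (Localization.AtPrime q.asIdeal ⧸
      p.asIdeal.map (algebraMap A (Localization.AtPrime q.asIdeal))),
      g = (Ideal.Quotient.mk _).comp (algebraMap A (Localization.AtPrime q.asIdeal)) := ⟨_, rfl⟩
  have hunit : ∀ s : A, s ∉ q.asIdeal → IsUnit (g s) := by
    intro s hs
    rw [hg]
    exact (IsLocalization.map_units (Localization.AtPrime q.asIdeal)
      (⟨s, hs⟩ : q.asIdeal.primeCompl)).map (Ideal.Quotient.mk _)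
  have hrep : ∀ x, ∃ a s : A, s ∉ q.asIdeal ∧ x * g s = g a := by
    intro x
    obtain ⟨y, rfl⟩ := Ideal.Quotient.mk_surjective x
    obtain ⟨a, s, rfl⟩ := IsLocalization.exists_mk'_eq q.asIdeal.primeCompl y
    refine ⟨a, s.1, s.2, ?_⟩
    rw [hg]
    show Ideal.Quotient.mk _ (IsLocalization.mk' _ a s) *
      Ideal.Quotient.mk _ (algebraMap A _ s.1) = Ideal.Quotient.mk _ (algebraMap A _ a)
    rw [← map_mul, IsLocalization.mk'_spec]
  have hzero : ∀ a ∈ p.asIdeal, g a = 0 := by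
    intro a ha
    rw [hg]
    exact Ideal.Quotient.eq_zero_iff_mem.2 (Ideal.mem_map_of_mem _ ha)
  have hle : ∀ P P' : PrimeSpectrum (Localization.AtPrime q.asIdeal ⧸
      p.asIdeal.map (algebraMap A (Localization.AtPrime q.asIdeal))),
      PrimeSpectrum.comap g P' ≤ PrimeSpectrum.comap g P → P' ≤ P := by
    intro P P' h x hx
    obtain ⟨a, s, hs, hxs⟩ := hrep x
    have ha : a ∈ (PrimeSpectrum.comap g P').asIdeal := by
      show g a ∈ P'.asIdeal
      rw [← hxs]
      exact P'.asIdeal.mul_mem_right _ hx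
    have ha' : g a ∈ P.asIdeal := h ha
    rw [← hxs] at ha'
    rcases P.isPrime.mem_or_mem ha' with h1 | h1
    · exact h1
    · exact absurd (P.asIdeal.eq_top_of_isUnit_mem h1 (hunit s hs)) P.isPrime.ne_top
  have hlow : ∀ P : PrimeSpectrum (Localization.AtPrime q.asIdeal ⧸
      p.asIdeal.map (algebraMap A (Localization.AtPrime q.asIdeal))),
      p ≤ PrimeSpectrum.comap g P := by
    intro P a ha
    show g a ∈ P.asIdeal
    rw [hzero a ha]
    exact P.asIdeal.zero_mem
  have hup : ∀ P : PrimeSpectrum (Localization.AtPrime q.asIdeal ⧸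
      p.asIdeal.map (algebraMap A (Localization.AtPrime q.asIdeal))),
      PrimeSpectrum.comap g P ≤ q := by
    intro P a ha
    by_contra hq
    exact P.isPrime.ne_top (P.asIdeal.eq_top_of_isUnit_mem ha (hunit a hq))
  have hF : StrictMono (fun P : PrimeSpectrum (Localization.AtPrime q.asIdeal ⧸
      p.asIdeal.map (algebraMap A (Localization.AtPrime q.asIdeal))) =>
      (⟨PrimeSpectrum.comap g P, hlow P, hup P⟩ : Set.Icc p q)) := by
    intro P P' h
    rw [lt_iff_le_not_ge] at h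
    show PrimeSpectrum.comap g P < PrimeSpectrum.comap g P'
    rw [lt_iff_le_not_ge]
    exact ⟨fun a ha => h.1 ha, fun hle' => h.2 (hle P P' hle')⟩
  exact Order.krullDim_le_of_strictMono _ hF

lemma height_add_dim_le (p' p q : PrimeSpectrum A) (hp'p : p' ≤ p) (hpq : p ≤ q)
    (hq : ∀ r : PrimeSpectrum A, r ≤ q) :
    (((p.asIdeal.map (Ideal.Quotient.mk p'.asIdeal)).height : ℕ∞) : WithBot ℕ∞) +
      ringKrullDim (A ⧸ p.asIdeal) ≤ Order.krullDim (Set.Icc p' q) := by
  obtain ⟨x₀, hx₀⟩ : ∃ x₀ : Set.Icc p' q, x₀ = ⟨p, hp'p, hpq⟩ := ⟨_, rfl⟩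
  haveI : Nonempty (Set.Icc p' q) := ⟨x₀⟩
  -- the height
  have ha : (p.asIdeal.map (Ideal.Quotient.mk p'.asIdeal)).height ≤ Order.height x₀ := by
    have hlow : ∀ P : PrimeSpectrum (A ⧸ p'.asIdeal),
        p' ≤ PrimeSpectrum.comap (Ideal.Quotient.mk p'.asIdeal) P := by
      intro P a ha
      show Ideal.Quotient.mk p'.asIdeal a ∈ P.asIdeal
      rw [Ideal.Quotient.eq_zero_iff_mem.2 ha]
      exact P.asIdeal.zero_mem
    have hF₁ : StrictMono (fun P : PrimeSpectrum (A ⧸ p'.asIdeal) =>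
        (⟨PrimeSpectrum.comap (Ideal.Quotient.mk p'.asIdeal) P, hlow P, hq _⟩ : Set.Icc p' q)) :=
      fun P P' h => comap_lt_comap_of_surjective _ Ideal.Quotient.mk_surjective h
    have hprime : (p.asIdeal.map (Ideal.Quotient.mk p'.asIdeal)).IsPrime :=
      Ideal.map_isPrime_of_surjective Ideal.Quotient.mk_surjective
        (by rw [Ideal.mk_ker]; exact hp'p)
    have h1 := PrimeSpectrum.height_eq_orderHeight
      (⟨p.asIdeal.map (Ideal.Quotient.mk p'.asIdeal), hprime⟩ : PrimeSpectrum (A ⧸ p'.asIdeal))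
    have h1' : (p.asIdeal.map (Ideal.Quotient.mk p'.asIdeal)).height = Order.height
      (⟨p.asIdeal.map (Ideal.Quotient.mk p'.asIdeal), hprime⟩ :
        PrimeSpectrum (A ⧸ p'.asIdeal)) := h1
    rw [h1']
    refine (Order.height_le_height_apply_of_strictMono _ hF₁ _).trans ?_
    apply Order.height_mono
    rw [hx₀]
    show PrimeSpectrum.comap (Ideal.Quotient.mk p'.asIdeal)
      (⟨p.asIdeal.map (Ideal.Quotient.mk p'.asIdeal), hprime⟩ :
        PrimeSpectrum (A ⧸ p'.asIdeal)) ≤ p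
    intro a ha
    have ha' : Ideal.Quotient.mk p'.asIdeal a ∈ p.asIdeal.map (Ideal.Quotient.mk p'.asIdeal) := ha
    obtain ⟨b, hb, hab⟩ :=
      (Ideal.mem_map_iff_of_surjective _ Ideal.Quotient.mk_surjective).1 ha'
    have h2 : b - a ∈ p'.asIdeal := by
      rw [← Ideal.Quotient.eq_zero_iff_mem, map_sub, hab, sub_self]
    have h3 : a = b - (b - a) := by ring
    rw [h3]
    exact p.asIdeal.sub_mem hb (hp'p h2)
  -- the coheight
  have hb : ringKrullDim (A ⧸ p.asIdeal) ≤ ((Order.coheight x₀ : ℕ∞) : WithBot ℕ∞) := by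
    rw [Order.coheight_eq_krullDim_Ici]
    have hlow : ∀ P : PrimeSpectrum (A ⧸ p.asIdeal),
        p ≤ PrimeSpectrum.comap (Ideal.Quotient.mk p.asIdeal) P := by
      intro P a ha
      show Ideal.Quotient.mk p.asIdeal a ∈ P.asIdeal
      rw [Ideal.Quotient.eq_zero_iff_mem.2 ha]
      exact P.asIdeal.zero_mem
    have hF₂ : StrictMono (fun P : PrimeSpectrum (A ⧸ p.asIdeal) =>
        (⟨⟨PrimeSpectrum.comap (Ideal.Quotient.mk p.asIdeal) P,
          hp'p.trans (hlow P), hq _⟩, by rw [hx₀]; exact hlow P⟩ : Set.Ici x₀)) :=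
      fun P P' h => comap_lt_comap_of_surjective _ Ideal.Quotient.mk_surjective h
    exact Order.krullDim_le_of_strictMono _ hF₂
  calc (((p.asIdeal.map (Ideal.Quotient.mk p'.asIdeal)).height : ℕ∞) : WithBot ℕ∞) +
        ringKrullDim (A ⧸ p.asIdeal)
      ≤ ((Order.height x₀ : ℕ∞) : WithBot ℕ∞) + ((Order.coheight x₀ : ℕ∞) : WithBot ℕ∞) :=
        add_le_add (WithBot.coe_le_coe.2 ha) hb
    _ = ((Order.height x₀ + Order.coheight x₀ : ℕ∞) : WithBot ℕ∞) := (WithBot.coe_add _ _).symm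
    _ ≤ Order.krullDim (Set.Icc p' q) := by
        rw [Order.krullDim_eq_iSup_height_add_coheight_of_nonempty]
        exact WithBot.coe_le_coe.2
          (le_iSup (fun a : Set.Icc p' q => Order.height a + Order.coheight a) x₀)

/-! ### The first statement -/

theorem main8793 [IsNoetherianRing A] (hdc : ∃ ω : Dual.D A, Dual.IsDualizing A ω)
    (I J : Ideal A) [DRing.HasRgammaI J] [DRing.HasDerivedCompletion I] (M : Type u)
    [AddCommGroup M] [Module A M] [Module.Finite A M] (p : PrimeSpectrum A) (s d : ℕ)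
    (h2 : ¬ (J ≤ p.asIdeal ∧ I ≤ p.asIdeal)) (h3 : LocCoh.CdLE A I d)
    (h4 : ∀ p' : PrimeSpectrum A, p' ≤ p → ∀ q : PrimeSpectrum A, p' ≤ q → J ≤ q.asIdeal →
      I ≤ q.asIdeal → (((d + s : ℕ) : ℕ∞) : WithBot ℕ∞) <
        ((LocCoh.depth (Localization.AtPrime p'.asIdeal)
          (LocalizedModule p'.asIdeal.primeCompl M) : ℕ∞) : WithBot ℕ∞) +
          Formal2.dimBetween A p'.asIdeal q.asIdeal) :
    ∃ f : A, f ∉ p.asIdeal ∧ ∀ i : ℤ, i ≤ s → ∀ x : Dual.HD A
      ((DRing.derivedCompletion I).obj ((DRing.RgammaI J).obj (Dual.inD A M))).obj i,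
      f • x = 0 := by
  obtain ⟨fs, hfs, hI⟩ := exists_list_span_ne_nil I
  obtain ⟨gs, hJ⟩ := exists_list_span J
  subst hI
  subst hJ
  have hp : ¬ Ideal.span {x : A | x ∈ fs ++ gs} ≤ p.asIdeal := by
    intro h
    obtain ⟨h1, h2'⟩ := (span_append_le_iff fs gs _).1 h
    exact h2 ⟨h2', h1⟩
  obtain ⟨f, hfp, hf⟩ := Groth.Agent.S1765.result A hdc (Ideal.span {x : A | x ∈ fs ++ gs}) M p
    hp (d + s) (by
      intro p' q hp' hq hp'q
      obtain ⟨h1, h2'⟩ := (span_append_le_iff fs gs _).1 hq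
      have h5 := h4 p' hp' q hp'q h2' h1
      have h6 := dimBetween_le_krullDim_Icc p' q
      calc ((d + s : ℕ) : WithBot ℕ∞) = (((d + s : ℕ) : ℕ∞) : WithBot ℕ∞) := rfl
        _ < ((LocCoh.depth (Localization.AtPrime p'.asIdeal)
            (LocalizedModule p'.asIdeal.primeCompl M) : ℕ∞) : WithBot ℕ∞) +
            Formal2.dimBetween A p'.asIdeal q.asIdeal := h5
        _ ≤ ((LocCoh.depth (Localization.AtPrime p'.asIdeal)
            (LocalizedModule p'.asIdeal.primeCompl M) : ℕ∞) : WithBot ℕ∞) +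
            Order.krullDim (Set.Icc p' q) := add_le_add le_rfl h6)
  refine ⟨f ^ (d + s + 1), fun hmem => hfp (p.isPrime.mem_of_pow_mem _ hmem), fun i hi x => ?_⟩
  exact core fs gs hfs M d s h3 f hf i hi x

end Groth.Agent.Lib.AnnH1
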