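import Mathlib
import Groth.Agent.Lib.Ann3_helper1

/-!
# Annihilators of `H^i(RΓ_m(M)^∧)` over a local ring (helper1)
-/

set_option autoImplicit false
universe w u
open CategoryTheory CategoryTheory.Limits DerivedCategory

attribute [local instance] HasDerivedCategory.standard

namespace Groth.Agent.Lib.AnnH1

open Groth.Agent.Lib.LocFib Groth.Agent.Lib.LocCohBridgeH7

variable {A : Type u} [CommRing A]

lemma ext_eq_zero_of_isZero_src {C : Type*} [Category C] [Abelian C] [HasExt.{w} C] {X Y : C}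
    (hX : IsZero X) (n : ℕ) (x : Abelian.Ext X Y n) : x = 0 := by
  have h1 : (Abelian.Ext.mk₀ (𝟙 X)).comp x (zero_add n) = x := Abelian.Ext.mk₀_id_comp x
  rw [← h1, hX.eq_of_src (𝟙 X) 0, Abelian.Ext.mk₀_zero, Abelian.Ext.zero_comp]

lemma ext_eq_zero_of_isZero_tgt {C : Type*} [Category C] [Abelian C] [HasExt.{w} C] {X Y : C}
    (hY : IsZero Y) (n : ℕ) (x : Abelian.Ext X Y n) : x = 0 := by
  have h1 : x.comp (Abelian.Ext.mk₀ (𝟙 Y)) (add_zero n) = x := Abelian.Ext.comp_mk₀_id x
  rw [← h1, hY.eq_of_src (𝟙 Y) 0, Abelian.Ext.mk₀_zero, Abelian.Ext.comp_zero]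

lemma subsingleton_H_top (j : ℕ) (M : Type u) [AddCommGroup M] [Module A M] :
    Subsingleton (LocCoh.H (⊤ : Ideal A) j M) := by
  have key : ∀ x : LocCoh.H (⊤ : Ideal A) j M, x = 0 := fun x => by
    have := smul_H_eq_zero (⊤ : Ideal A) j M (1 : A) (fun k y => by
      rw [one_smul]
      apply ext_eq_zero_of_isZero_src
      haveI : Subsingleton (A ⧸ (⊤ : Ideal A) ^ k) := by
        rw [Ideal.top_pow]
        exact Ideal.Quotient.subsingleton_iff.2 rfl
      exact ModuleCat.isZero_of_subsingleton _) x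
    rwa [one_smul] at this
  exact ⟨fun a b => by rw [key a, key b]⟩

lemma subsingleton_H_of_lt_depth (R : Type u) [CommRing R] [IsNoetherianRing R] [IsLocalRing R]
    (N : Type u) [AddCommGroup N] [Module R N] [Module.Finite R N] (j : ℕ)
    (hj : (j : ℕ∞) < LocCoh.depth R N) :
    Subsingleton (LocCoh.H (IsLocalRing.maximalIdeal R) j N) := by
  by_cases hN : Subsingleton N
  · have key : ∀ x : LocCoh.H (IsLocalRing.maximalIdeal R) j N, x = 0 := fun x => by
      have := smul_H_eq_zero (IsLocalRing.maximalIdeal R) j N (1 : R) (fun k y => by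
        rw [one_smul]
        apply ext_eq_zero_of_isZero_tgt
        exact ModuleCat.isZero_of_subsingleton _) x
      rwa [one_smul] at this
    exact ⟨fun a b => by rw [key a, key b]⟩
  · have hIM : IsLocalRing.maximalIdeal R • (⊤ : Submodule R N) ≠ ⊤ := by
      intro htop
      apply hN
      have h1 := Submodule.eq_bot_of_le_smul_of_le_jacobson_bot (IsLocalRing.maximalIdeal R)
        (⊤ : Submodule R N) Module.Finite.fg_top (by rw [htop])
        (IsLocalRing.maximalIdeal_le_jacobson ⊥)
      exact (Submodule.subsingleton_iff R).1 (subsingleton_of_bot_eq_top h1.symm)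
    exact Groth.Agent.Lib.LocCohDepthH7.vanishing (IsLocalRing.maximalIdeal R) N hIM j hj

theorem main8794 [IsNoetherianRing A] [IsLocalRing A]
    (hdc : ∃ ω : Dual.D A, Dual.IsDualizing A ω)
    (I J : Ideal A) (hJm : J = IsLocalRing.maximalIdeal A) [DRing.HasRgammaI J]
    [DRing.HasDerivedCompletion I] (M : Type u) [AddCommGroup M] [Module A M] [Module.Finite A M]
    (p : PrimeSpectrum A) (s d : ℕ) (h2 : LocCoh.CdLE A I d)
    (h3 : (((d + s : ℕ) : ℕ∞) : WithBot ℕ∞) < ((LocCoh.depth (Localization.AtPrime p.asIdeal)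
      (LocalizedModule p.asIdeal.primeCompl M) : ℕ∞) : WithBot ℕ∞) +
        ringKrullDim (A ⧸ p.asIdeal)) :
    ∃ f : A, f ∉ p.asIdeal ∧ ∀ i : ℤ, i ≤ s → ∀ x : Dual.HD A
      ((DRing.derivedCompletion I).obj ((DRing.RgammaI J).obj (Dual.inD A M))).obj i,
      f • x = 0 := by
  obtain ⟨fs, hfs, hI⟩ := exists_list_span_ne_nil I
  obtain ⟨gs, hJ⟩ := exists_list_span J
  subst hI
  subst hJ
  have hm𝔞 : IsLocalRing.maximalIdeal A ≤ Ideal.span {x : A | x ∈ fs ++ gs} := by
    rw [← hJm]
    exact Ideal.span_mono (fun x hx => List.mem_append_right _ hx)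
  have hq𝔞 : ∀ q : PrimeSpectrum A, Ideal.span {x : A | x ∈ fs ++ gs} ≤ q.asIdeal →
      q.asIdeal = IsLocalRing.maximalIdeal A := by
    intro q hq
    exact ((IsLocalRing.maximalIdeal.isMaximal A).eq_of_le q.isPrime.ne_top
      (hm𝔞.trans hq)).symm
  by_cases hpm : p.asIdeal = IsLocalRing.maximalIdeal A
  · -- the case `p = m`
    have hdepth : (((d + s : ℕ) : ℕ∞)) < LocCoh.depth (Localization.AtPrime p.asIdeal)
        (LocalizedModule p.asIdeal.primeCompl M) := by
      haveI : p.asIdeal.IsMaximal := hpm ▸ IsLocalRing.maximalIdeal.isMaximal A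
      have h0 : ringKrullDim (A ⧸ p.asIdeal) = 0 :=
        ringKrullDim_eq_zero_of_isField
          ((Ideal.Quotient.maximal_ideal_iff_isField_quotient p.asIdeal).1 inferInstance)
      rw [h0, add_zero] at h3
      exact WithBot.coe_lt_coe.1 h3
    have hvan : ∀ j : ℕ, j ≤ d + s →
        ∀ x : LocCoh.H (Ideal.span {x : A | x ∈ fs ++ gs}) j M, (1 : A) • x = 0 := by
      intro j hj x
      have hsurj := (Groth.Agent.S1806.result A (Ideal.span {x : A | x ∈ fs ++ gs}) ⊤ le_top
        M j).1 (by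
          intro P hP _
          obtain rfl : P = p := PrimeSpectrum.ext ((hq𝔞 P hP).trans hpm.symm)
          apply subsingleton_H_of_lt_depth
          exact lt_of_le_of_lt (by exact_mod_cast hj) hdepth)
      obtain ⟨y, rfl⟩ := hsurj x
      haveI := subsingleton_H_top (A := A) j M
      rw [Subsingleton.elim y 0, map_zero, smul_zero]
    refine ⟨1, (Ideal.ne_top_iff_one _).1 p.isPrime.ne_top, fun i hi x => ?_⟩
    have := core fs gs hfs M d s h2 1 hvan i hi x
    simpa using this
  · -- the case `p ≠ m`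
    have hp : ¬ Ideal.span {x : A | x ∈ fs ++ gs} ≤ p.asIdeal := fun h => hpm (hq𝔞 p h)
    obtain ⟨f, hfp, hf⟩ := Groth.Agent.S1765.result A hdc
      (Ideal.span {x : A | x ∈ fs ++ gs}) M p hp (d + s) (by
        intro p' q hp' hq hp'q
        have hqm := hq𝔞 q hq
        have hall : ∀ r : PrimeSpectrum A, r ≤ q := by
          intro r
          show r.asIdeal ≤ q.asIdeal
          rw [hqm]
          exact IsLocalRing.le_maximalIdeal r.isPrime.ne_top
        have h5 := Groth.Agent.S11650.result A M p'.asIdeal p.asIdeal hp'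
        have h6 := height_add_dim_le p' p q hp' (hall p) hall
        calc ((d + s : ℕ) : WithBot ℕ∞) = (((d + s : ℕ) : ℕ∞) : WithBot ℕ∞) := rfl
          _ < ((LocCoh.depth (Localization.AtPrime p.asIdeal)
              (LocalizedModule p.asIdeal.primeCompl M) : ℕ∞) : WithBot ℕ∞) +
              ringKrullDim (A ⧸ p.asIdeal) := h3
          _ ≤ ((LocCoh.depth (Localization.AtPrime p'.asIdeal)
              (LocalizedModule p'.asIdeal.primeCompl M) +
                (p.asIdeal.map (Ideal.Quotient.mk p'.asIdeal)).height : ℕ∞) : WithBot ℕ∞) +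
              ringKrullDim (A ⧸ p.asIdeal) := add_le_add (WithBot.coe_le_coe.2 h5) le_rfl
          _ = ((LocCoh.depth (Localization.AtPrime p'.asIdeal)
              (LocalizedModule p'.asIdeal.primeCompl M) : ℕ∞) : WithBot ℕ∞) +
              ((((p.asIdeal.map (Ideal.Quotient.mk p'.asIdeal)).height : ℕ∞) : WithBot ℕ∞) +
                ringKrullDim (A ⧸ p.asIdeal)) := by rw [WithBot.coe_add, add_assoc]
          _ ≤ ((LocCoh.depth (Localization.AtPrime p'.asIdeal)
              (LocalizedModule p'.asIdeal.primeCompl M) : ℕ∞) : WithBot ℕ∞) +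
              Order.krullDim (Set.Icc p' q) := add_le_add le_rfl h6)
    refine ⟨f ^ (d + s + 1), fun hmem => hfp (p.isPrime.mem_of_pow_mem _ hmem),
      fun i hi x => ?_⟩
    exact core fs gs hfs M d s h2 f hf i hi x

end Groth.Agent.Lib.AnnH1
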