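import Mathlib
import Groth.Agent.Lib.Ann4_helper1
import Groth.Agent.S1751

/-!
# Comparison maps of local cohomology: bijectivity and annihilation below the depth bound (helper1)

S8790, S8791, S8792.  Everything is deduced from Faltings' annihilator theorem (`S1711_main`), the
local-to-global criterion `S1806` and the depth inequality `S11650`, via the dimension function of a
dualizing complex.
-/

set_option autoImplicit false
set_option linter.unusedVariables false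
universe u
open CategoryTheory

attribute [local instance] HasDerivedCategory.standard

namespace Groth.Agent.Lib.AnnH1

open Groth.Agent.Lib.FaltT Groth.Agent.Lib.FlatHom

variable {A : Type u} [CommRing A]

/-! ### `krullDim (Icc p q) ≤ dim (A/p)_q` -/

lemma krullDim_Icc_le_dimBetween (p q : PrimeSpectrum A) :
    Order.krullDim (Set.Icc p q) ≤ Formal2.dimBetween A p.asIdeal q.asIdeal := by
  show _ ≤ ringKrullDim (Localization.AtPrime q.asIdeal ⧸
      p.asIdeal.map (algebraMap A (Localization.AtPrime q.asIdeal)))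
  rw [ringKrullDim_quotient]
  obtain ⟨e, he⟩ : ∃ e : PrimeSpectrum (Localization.AtPrime q.asIdeal) ≃o Set.Iic q,
      ∀ P, (e P).1.asIdeal = P.asIdeal.comap (algebraMap A (Localization.AtPrime q.asIdeal)) :=
    ⟨IsLocalization.AtPrime.primeSpectrumOrderIso (Localization.AtPrime q.asIdeal) q.asIdeal,
      fun P => rfl⟩
  have hmem : ∀ r : Set.Icc p q, e.symm ⟨r.1, r.2.2⟩ ∈ PrimeSpectrum.zeroLocus
      ((p.asIdeal.map (algebraMap A (Localization.AtPrime q.asIdeal)) :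
        Ideal (Localization.AtPrime q.asIdeal)) : Set (Localization.AtPrime q.asIdeal)) := by
    intro r
    rw [PrimeSpectrum.mem_zeroLocus, SetLike.coe_subset_coe, Ideal.map_le_iff_le_comap, ← he,
      OrderIso.apply_symm_apply]
    exact r.2.1
  exact Order.krullDim_le_of_strictMono
    (fun r : Set.Icc p q => (⟨e.symm ⟨r.1, r.2.2⟩, hmem r⟩ :
      PrimeSpectrum.zeroLocus ((p.asIdeal.map (algebraMap A (Localization.AtPrime q.asIdeal)) :
        Ideal (Localization.AtPrime q.asIdeal)) : Set (Localization.AtPrime q.asIdeal))))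
    (fun r r' h => e.symm.strictMono h)

/-! ### Arithmetic in `ℕ∞` -/

lemma enat_E1 {x y : ℕ∞} {s a b : ℕ} (h1 : x ≤ y + (a : ℕ∞)) (h2 : (s : ℕ∞) ≤ x) (hb : 1 ≤ b) :
    (s : ℕ∞) < y + ((a + b : ℕ) : ℕ∞) := by
  induction y using ENat.recTopCoe with
  | top => rw [top_add]; exact ENat.natCast_lt_top s
  | coe m =>
    induction x using ENat.recTopCoe with
    | top => exact absurd h1 (not_le.2 (by exact_mod_cast ENat.natCast_lt_top (m + a)))
    | coe n =>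
      have h1' : n ≤ m + a := by exact_mod_cast h1
      have h2' : s ≤ n := by exact_mod_cast h2
      have h3 : s < m + (a + b) := by omega
      exact_mod_cast h3

lemma enat_E2 {x y : ℕ∞} {n a b : ℕ} (h1 : x ≤ y + (a : ℕ∞)) (h : (n : ℕ∞) < x + (b : ℕ∞)) :
    (n : ℕ∞) < y + ((a + b : ℕ) : ℕ∞) := by
  induction y using ENat.recTopCoe with
  | top => rw [top_add]; exact ENat.natCast_lt_top n
  | coe m =>
    induction x using ENat.recTopCoe with
    | top => exact absurd h1 (not_le.2 (by exact_mod_cast ENat.natCast_lt_top (m + a)))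
    | coe k =>
      have h1' : k ≤ m + a := by exact_mod_cast h1
      have h2' : n < k + b := by exact_mod_cast h
      have h3 : n < m + (a + b) := by omega
      exact_mod_cast h3

lemma enat_E3 {x : ℕ∞} {d s c : ℕ} (h4 : ((d + s : ℕ) : ℕ∞) < x + (c : ℕ∞))
    (hx : x ≤ (s : ℕ∞)) (hc : c ≤ d) : False := by
  induction x using ENat.recTopCoe with
  | top => exact absurd hx (not_le.2 (ENat.natCast_lt_top s))
  | coe k =>
    have h1' : d + s < k + c := by exact_mod_cast h4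
    have h2' : k ≤ s := by exact_mod_cast hx
    omega

lemma enat_E5a {x : ℕ∞} {s a : ℕ} (h : (s : ℕ∞) ≤ x) (ha : 1 ≤ a) :
    (s : ℕ∞) < x + (a : ℕ∞) := by
  induction x using ENat.recTopCoe with
  | top => rw [top_add]; exact ENat.natCast_lt_top s
  | coe k =>
    have h1' : s ≤ k := by exact_mod_cast h
    have h3 : s < k + a := by omega
    exact_mod_cast h3

lemma enat_E5b {x : ℕ∞} {d s a : ℕ} (h : ((d + s : ℕ) : ℕ∞) < x + (a : ℕ∞)) :
    (s : ℕ∞) < x + (a : ℕ∞) := by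
  induction x using ENat.recTopCoe with
  | top => rw [top_add]; exact ENat.natCast_lt_top s
  | coe k =>
    have h1' : d + s < k + a := by exact_mod_cast h
    have h3 : s < k + a := by omega
    exact_mod_cast h3

lemma enat_E5c {x : ℕ∞} {d s a c : ℕ} (h : ((d + s : ℕ) : ℕ∞) < x + ((a + c : ℕ) : ℕ∞))
    (hc : c ≤ d) : (s : ℕ∞) < x + (a : ℕ∞) := by
  induction x using ENat.recTopCoe with
  | top => rw [top_add]; exact ENat.natCast_lt_top s
  | coe k =>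
    have h1' : d + s < k + (a + c) := by exact_mod_cast h
    have h3 : s < k + a := by omega
    exact_mod_cast h3

/-! ### Density of `B` along a minimal prime of its vanishing ideal -/

lemma exists_mem_of_minimalPrimes [IsNoetherianRing A] (B : Set (PrimeSpectrum A)) (P₀ : Ideal A)
    (hP₀ : P₀ ∈ (PrimeSpectrum.vanishingIdeal B).minimalPrimes) (f : A) (hf : f ∉ P₀) :
    ∃ b ∈ B, P₀ ≤ b.asIdeal ∧ f ∉ b.asIdeal := by
  classical
  have hfin : ((PrimeSpectrum.vanishingIdeal B).minimalPrimes).Finite :=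
    Ideal.finite_minimalPrimes_of_isNoetherianRing A _
  have hprime : P₀.IsPrime := hP₀.1.1
  obtain ⟨g, hg, hgP₀⟩ : ∃ g : A,
      (∀ P' ∈ (PrimeSpectrum.vanishingIdeal B).minimalPrimes, P' ≠ P₀ → g ∈ P') ∧ g ∉ P₀ := by
    by_contra hcon
    push_neg at hcon
    have hle : (hfin.toFinset.erase P₀).inf id ≤ P₀ := by
      intro g hg
      apply hcon g
      intro P' hP' hne
      have h1 : (hfin.toFinset.erase P₀).inf id ≤ id P' :=
        Finset.inf_le (Finset.mem_erase.2 ⟨hne, hfin.mem_toFinset.2 hP'⟩)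
      exact h1 hg
    obtain ⟨P', hP', hP'le⟩ := (Ideal.IsPrime.inf_le' hprime).1 hle
    rw [Finset.mem_erase, Set.Finite.mem_toFinset] at hP'
    exact hP'.1 (le_antisymm hP'le (hP₀.2 hP'.2.1 hP'le))
  have hfg : f * g ∉ P₀ := fun h => (hprime.mem_or_mem h).elim hf hgP₀
  have hfg' : f * g ∉ PrimeSpectrum.vanishingIdeal B := fun h => hfg (hP₀.1.2 h)
  rw [PrimeSpectrum.mem_vanishingIdeal] at hfg'
  push_neg at hfg'
  obtain ⟨b, hbB, hb⟩ := hfg'
  have hBb : PrimeSpectrum.vanishingIdeal B ≤ b.asIdeal :=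
    fun a ha => (PrimeSpectrum.mem_vanishingIdeal _ _).1 ha b hbB
  obtain ⟨P', hP', hP'b⟩ := Ideal.exists_minimalPrimes_le hBb
  have hP'eq : P' = P₀ := by
    by_contra hne
    exact hb (b.asIdeal.mul_mem_left f (hP'b (hg P' hP' hne)))
  rw [hP'eq] at hP'b
  exact ⟨b, hbB, hP'b, fun h => hb (b.asIdeal.mul_mem_right g h)⟩

/-! ### The abstract context -/

section

variable [IsNoetherianRing A]

/-- depth of `M` at the prime `p` -/
noncomputable abbrev dep (M : Type u) [AddCommGroup M] [Module A M] (p : PrimeSpectrum A) : ℕ∞ :=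
  LocCoh.depth (Localization.AtPrime p.asIdeal) (LocalizedModule p.asIdeal.primeCompl M)

/-- `H^i_{V(K)}(M) ≃ H^i_K(M)` -/
lemma nonempty_HT_equiv_locCoh (K : Ideal A) (i : ℕ) (M : Type u) [AddCommGroup M] [Module A M] :
    Nonempty (Dual2.HT (PrimeSpectrum.zeroLocus (K : Set A)) i M ≃ₗ[A] LocCoh.H K i M) := by
  obtain ⟨E1⟩ := nonempty_HT_equiv_HDT (PrimeSpectrum.zeroLocus (K : Set A)) i M
  obtain ⟨E2⟩ := nonempty_HDT_zeroLocus_equiv_HDI K (Dual.inD A M) (i : ℤ)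
  obtain ⟨E3⟩ := hdi_inD_equiv_locCoh K M i
  exact ⟨(E1.trans E2).trans E3⟩

/-- all hypotheses, translated through a dimension function `ν` -/
structure Ctx (M : Type u) [AddCommGroup M] [Module A M] [Module.Finite A M] (I J : Ideal A)
    (s d : ℕ) (T : Set (PrimeSpectrum A)) where
  ν : PrimeSpectrum A → ℤ
  hT : ∀ p : PrimeSpectrum A, p ∈ T ↔
    ∀ q : PrimeSpectrum A, p ≤ q → I ≤ q.asIdeal → J ≤ q.asIdeal
  hmono : ∀ p q : PrimeSpectrum A, p < q → ν p < ν q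
  hdim : ∀ p q : PrimeSpectrum A, p ≤ q →
    Order.krullDim (Set.Icc p q) = ((((ν q - ν p).toNat : ℕ) : ℕ∞) : WithBot ℕ∞)
  falt : ∀ (T₁ T₂ : Set (PrimeSpectrum A)), StableUnderSpecialization T₁ →
    StableUnderSpecialization T₂ → ∀ s' : ℕ,
    ((∃ K : Ideal A, PrimeSpectrum.zeroLocus (K : Set A) ⊆ T₂ ∧
        ∀ i : ℕ, i ≤ s' → ∀ a ∈ K, ∀ x : Dual2.HT T₁ i M, a • x = 0) ↔
      ∀ p q : PrimeSpectrum A, p ∉ T₂ → q ∈ T₁ → p ≤ q →
        (s' : ℕ∞) < dep M p + (((ν q - ν p).toNat : ℕ) : ℕ∞))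
  hdep : ∀ p q : PrimeSpectrum A, p ≤ q →
    dep M q ≤ dep M p + (((ν q - ν p).toNat : ℕ) : ℕ∞)
  h3 : ∀ p : PrimeSpectrum A, ¬ I ≤ p.asIdeal → p ∈ T → ∃ q : PrimeSpectrum A,
    p ≤ q ∧ J ≤ q.asIdeal ∧ I ≤ q.asIdeal ∧ (ν q - ν p).toNat ≤ d
  h4 : ∀ p : PrimeSpectrum A, ¬ I ≤ p.asIdeal → p ∉ T → ∀ q : PrimeSpectrum A, p ≤ q →
    J ≤ q.asIdeal → I ≤ q.asIdeal → (s : ℕ∞) ≤ dep M p ∨
      ((d + s : ℕ) : ℕ∞) < dep M p + (((ν q - ν p).toNat : ℕ) : ℕ∞)

/-- the ideals `J₀` for which the conclusions hold -/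
structure Good (M : Type u) [AddCommGroup M] [Module A M] (I J : Ideal A) (s : ℕ)
    (T : Set (PrimeSpectrum A)) (J₀ : Ideal A) : Prop where
  le : J₀ ≤ J
  inter : PrimeSpectrum.zeroLocus ((J₀ : Ideal A) : Set A) ∩
      PrimeSpectrum.zeroLocus ((I : Ideal A) : Set A) =
    PrimeSpectrum.zeroLocus ((J : Ideal A) : Set A) ∩
      PrimeSpectrum.zeroLocus ((I : Ideal A) : Set A)
  hdepth : ∀ p : PrimeSpectrum A, p ∈ T → ¬ I ≤ p.asIdeal → ¬ J₀ ≤ p.asIdeal →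
    (s : ℕ∞) < dep M p

variable {M : Type u} [AddCommGroup M] [Module A M] [Module.Finite A M] {I J : Ideal A}
  {s d : ℕ} {T : Set (PrimeSpectrum A)}

namespace Ctx

lemma T_up (c : Ctx M I J s d T) {p q : PrimeSpectrum A} (hp : p ∈ T) (hpq : p ≤ q) : q ∈ T := by
  rw [c.hT] at hp ⊢
  exact fun q' hqq' hI => hp q' (hpq.trans hqq') hI

lemma nu_le (c : Ctx M I J s d T) {p q : PrimeSpectrum A} (hpq : p ≤ q) : c.ν p ≤ c.ν q := by
  rcases eq_or_lt_of_le hpq with h | h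
  · rw [h]
  · exact (c.hmono p q h).le

lemma Dn_add (c : Ctx M I J s d T) {p q q' : PrimeSpectrum A} (hpq : p ≤ q) (hqq' : q ≤ q') :
    (c.ν q' - c.ν p).toNat = (c.ν q - c.ν p).toNat + (c.ν q' - c.ν q).toNat := by
  have h1 := c.nu_le hpq
  have h2 := c.nu_le hqq'
  omega

lemma Dn_pos (c : Ctx M I J s d T) {p q : PrimeSpectrum A} (h : p < q) :
    1 ≤ (c.ν q - c.ν p).toNat := by
  have h1 := c.hmono p q h
  omega

/-- the key inequality -/
lemma keyIneq (c : Ctx M I J s d T) (p q : PrimeSpectrum A) (hpq : p ≤ q)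
    (hpI : ¬ I ≤ p.asIdeal) (hq : q ∈ T) (hp : p ∈ T → (s : ℕ∞) < dep M p) :
    (s : ℕ∞) < dep M p + (((c.ν q - c.ν p).toNat : ℕ) : ℕ∞) := by
  by_cases hpT : p ∈ T
  · exact lt_of_lt_of_le (hp hpT) le_self_add
  · have hlt : p < q := lt_of_le_of_ne hpq (fun h => hpT (by rw [h]; exact hq))
    have hpos := c.Dn_pos hlt
    by_cases hqI : I ≤ q.asIdeal
    · have hqJ : J ≤ q.asIdeal := (c.hT q).1 hq q le_rfl hqI
      rcases c.h4 p hpI hpT q hpq hqJ hqI with h | h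
      · exact enat_E5a h hpos
      · exact enat_E5b h
    · obtain ⟨q', hqq', hq'J, hq'I, hd⟩ := c.h3 q hqI hq
      rcases c.h4 p hpI hpT q' (hpq.trans hqq') hq'J hq'I with h | h
      · exact enat_E5a h hpos
      · rw [c.Dn_add hpq hqq'] at h
        exact enat_E5c h hd

/-- the closure of a set of "bad" primes of `T` stays inside `T` -/
lemma mem_T_of_vanishingIdeal_le (c : Ctx M I J s d T) (B : Set (PrimeSpectrum A))
    (hBT : B ⊆ T) (hBI : ∀ b ∈ B, ¬ I ≤ b.asIdeal) (hBs : ∀ b ∈ B, dep M b ≤ (s : ℕ∞))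
    (q : PrimeSpectrum A) (hq : PrimeSpectrum.vanishingIdeal B ≤ q.asIdeal) : q ∈ T := by
  obtain ⟨P₀, hP₀, hP₀q⟩ := Ideal.exists_minimalPrimes_le hq
  have hP₀prime : P₀.IsPrime := hP₀.1.1
  obtain ⟨p₀, hp₀⟩ : ∃ p₀ : PrimeSpectrum A, p₀ = ⟨P₀, hP₀prime⟩ := ⟨_, rfl⟩
  have hp₀q : p₀ ≤ q := by rw [hp₀]; exact hP₀q
  suffices h : p₀ ∈ T from c.T_up h hp₀q
  by_contra hp₀T
  have hdense : ∀ f : A, f ∉ p₀.asIdeal → ∃ b ∈ B, p₀ ≤ b ∧ f ∉ b.asIdeal := by
    intro f hf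
    rw [hp₀] at hf ⊢
    exact exists_mem_of_minimalPrimes B P₀ hP₀ f hf
  have hp₀I : ¬ I ≤ p₀.asIdeal := by
    intro hI
    obtain ⟨b, hbB, hb, -⟩ := hdense 1
      (fun h => p₀.isPrime.ne_top ((Ideal.eq_top_iff_one _).2 h))
    exact hBI b hbB (fun x hx => hb (hI hx))
  have hT' : StableUnderSpecialization {r : PrimeSpectrum A | ¬ r ≤ p₀} := by
    intro r r' hrr' hr hle
    exact hr (le_trans ((PrimeSpectrum.le_iff_specializes _ _).2 hrr') hle)
  have hstep : ∀ (T₁ : Set (PrimeSpectrum A)) (hT₁ : StableUnderSpecialization T₁) (s' : ℕ),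
      (∀ r q' : PrimeSpectrum A, r ≤ p₀ → q' ∈ T₁ → r ≤ q' →
        (s' : ℕ∞) < dep M r + (((c.ν q' - c.ν r).toNat : ℕ) : ℕ∞)) →
      ∃ b ∈ B, p₀ ≤ b ∧ ∀ q' : PrimeSpectrum A, q' ∈ T₁ → b ≤ q' →
        (s' : ℕ∞) < dep M b + (((c.ν q' - c.ν b).toNat : ℕ) : ℕ∞) := by
    intro T₁ hT₁ s' hcond
    obtain ⟨K, hK, hkill⟩ := (c.falt T₁ {r | ¬ r ≤ p₀} hT₁ hT' s').2
      (fun r q' hr hq' hrq' => hcond r q' (not_not.1 hr) hq' hrq')
    have hKp : ¬ K ≤ p₀.asIdeal := fun hle =>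
      (hK ((PrimeSpectrum.mem_zeroLocus _ _).2 hle)) le_rfl
    obtain ⟨f, hfK, hfp⟩ := Set.not_subset.1 hKp
    obtain ⟨b, hbB, hb, hfb⟩ := hdense f hfp
    refine ⟨b, hbB, hb, fun q' hq' hbq' => ?_⟩
    have hVf : StableUnderSpecialization (PrimeSpectrum.zeroLocus ({f} : Set A)) :=
      (PrimeSpectrum.isClosed_zeroLocus _).stableUnderSpecialization
    refine (c.falt T₁ (PrimeSpectrum.zeroLocus ({f} : Set A)) hT₁ hVf s').1
      ⟨Ideal.span {f}, ?_, ?_⟩ b q' ?_ hq' hbq'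
    · rw [PrimeSpectrum.zeroLocus_span]
    · intro i hi a ha x
      obtain ⟨c', rfl⟩ := Ideal.mem_span_singleton'.1 ha
      rw [mul_smul, hkill i hi f hfK x, smul_zero]
    · intro hmem
      exact hfb ((PrimeSpectrum.mem_zeroLocus _ _).1 hmem (Set.mem_singleton f))
  by_cases hs : (s : ℕ∞) ≤ dep M p₀
  · -- the depth at `p₀` is at least `s`
    have hT₂ : StableUnderSpecialization {q' : PrimeSpectrum A | p₀ < q'} := by
      intro r r' hrr' hr
      exact lt_of_lt_of_le hr ((PrimeSpectrum.le_iff_specializes _ _).2 hrr')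
    obtain ⟨b, hbB, hb, hbq⟩ := hstep {q' | p₀ < q'} hT₂ s (by
      intro r q' hr hq' hrq'
      have h1 := c.hdep r p₀ hr
      have h2 := c.Dn_add hr (le_of_lt hq')
      have h3 := c.Dn_pos hq'
      rw [h2]
      exact enat_E1 h1 hs h3)
    have hlt : p₀ < b := lt_of_le_of_ne hb (fun h => hp₀T (by rw [h]; exact hBT hbB))
    have h4 := hbq b hlt le_rfl
    rw [sub_self, Int.toNat_zero, Nat.cast_zero, add_zero] at h4
    exact absurd (hBs b hbB) (not_le.2 h4)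
  · -- the depth at `p₀` is smaller than `s`
    have hT₄ : StableUnderSpecialization
        {q' : PrimeSpectrum A | p₀ ≤ q' ∧ J ≤ q'.asIdeal ∧ I ≤ q'.asIdeal} := by
      intro r r' hrr' hr
      have hle : r ≤ r' := (PrimeSpectrum.le_iff_specializes _ _).2 hrr'
      exact ⟨hr.1.trans hle, fun x hx => hle (hr.2.1 hx), fun x hx => hle (hr.2.2 hx)⟩
    obtain ⟨b, hbB, hb, hbq⟩ := hstep _ hT₄ (d + s) (by
      intro r q' hr hq' hrq'
      have h1 := c.hdep r p₀ hr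
      have h2 := c.Dn_add hr hq'.1
      rcases c.h4 p₀ hp₀I hp₀T q' hq'.1 hq'.2.1 hq'.2.2 with h | h
      · exact absurd h hs
      · rw [h2]
        exact enat_E2 h1 h)
    obtain ⟨qb, hbqb, hqbJ, hqbI, hd⟩ := c.h3 b (hBI b hbB) (hBT hbB)
    have h4 := hbq qb ⟨hb.trans hbqb, hqbJ, hqbI⟩ hbqb
    exact enat_E3 h4 (hBs b hbB) hd

/-- annihilation of `H^i_{K₁}(M)` by a power of `K₂` -/
lemma exists_pow_kills (c : Ctx M I J s d T) (K₁ K₂ : Ideal A)
    (h : ∀ p q : PrimeSpectrum A, ¬ K₂ ≤ p.asIdeal → K₁ ≤ q.asIdeal → p ≤ q →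
      (s : ℕ∞) < dep M p + (((c.ν q - c.ν p).toNat : ℕ) : ℕ∞)) :
    ∃ n : ℕ, ∀ a ∈ K₂ ^ n, ∀ i : ℕ, i ≤ s → ∀ x : LocCoh.H K₁ i M, a • x = 0 := by
  have hT₁ : StableUnderSpecialization (PrimeSpectrum.zeroLocus (K₁ : Set A)) :=
    (PrimeSpectrum.isClosed_zeroLocus _).stableUnderSpecialization
  have hT₂ : StableUnderSpecialization (PrimeSpectrum.zeroLocus (K₂ : Set A)) :=
    (PrimeSpectrum.isClosed_zeroLocus _).stableUnderSpecialization
  obtain ⟨𝔟, h𝔟, hkill⟩ := (c.falt _ _ hT₁ hT₂ s).2 (fun p q hp hq hpq =>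
    h p q (fun hle => hp ((PrimeSpectrum.mem_zeroLocus _ _).2 hle))
      ((PrimeSpectrum.mem_zeroLocus _ _).1 hq) hpq)
  have hrad : K₂ ≤ 𝔟.radical := (PrimeSpectrum.zeroLocus_subset_zeroLocus_iff _ _).1 h𝔟
  obtain ⟨n, hn⟩ := Ideal.exists_pow_le_of_le_radical_of_fg hrad (IsNoetherian.noetherian K₂)
  refine ⟨n, fun a ha i hi x => ?_⟩
  obtain ⟨E⟩ := nonempty_HT_equiv_locCoh K₁ i M
  apply E.symm.injective
  rw [map_smul, map_zero]
  exact hkill i hi a (hn ha) _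

end Ctx

namespace Good

lemma subset_T (c : Ctx M I J s d T) {J₀ : Ideal A} (h : Good M I J s T J₀)
    {q : PrimeSpectrum A} (hq : J₀ ≤ q.asIdeal) : q ∈ T := by
  rw [c.hT]
  intro q' hqq' hI
  have hmem : q' ∈ PrimeSpectrum.zeroLocus ((J₀ : Ideal A) : Set A) ∩
      PrimeSpectrum.zeroLocus ((I : Ideal A) : Set A) :=
    ⟨(PrimeSpectrum.mem_zeroLocus _ _).2 (fun x hx => hqq' (hq hx)),
      (PrimeSpectrum.mem_zeroLocus _ _).2 hI⟩
  rw [h.inter] at hmem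
  exact (PrimeSpectrum.mem_zeroLocus _ _).1 hmem.1

lemma bijective (c : Ctx M I J s d T) {J₀ : Ideal A} (h : Good M I J s T J₀)
    {J' : Ideal A} (hJ' : J' ≤ J₀)
    (hint : PrimeSpectrum.zeroLocus ((J' : Ideal A) : Set A) ∩
        PrimeSpectrum.zeroLocus ((I : Ideal A) : Set A) =
      PrimeSpectrum.zeroLocus ((J : Ideal A) : Set A) ∩
        PrimeSpectrum.zeroLocus ((I : Ideal A) : Set A))
    (i : ℕ) (hi : i ≤ s) :
    Function.Bijective ((Dual2.HmapOfLE hJ' i).app (ModuleCat.of A M)).hom := by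
  have hvan : ∀ P : PrimeSpectrum A, J' ≤ P.asIdeal → ¬ J₀ ≤ P.asIdeal → ∀ j : ℕ, j ≤ s →
      Subsingleton (LocCoh.H (IsLocalRing.maximalIdeal (Localization.AtPrime P.asIdeal)) j
        (LocalizedModule P.asIdeal.primeCompl M)) := by
    intro P hP1 hP2 j hj
    have hPI : ¬ I ≤ P.asIdeal := by
      intro hI
      have hmem : P ∈ PrimeSpectrum.zeroLocus ((J' : Ideal A) : Set A) ∩
          PrimeSpectrum.zeroLocus ((I : Ideal A) : Set A) :=
        ⟨(PrimeSpectrum.mem_zeroLocus _ _).2 hP1, (PrimeSpectrum.mem_zeroLocus _ _).2 hI⟩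
      rw [hint, ← h.inter] at hmem
      exact hP2 ((PrimeSpectrum.mem_zeroLocus _ _).1 hmem.1)
    have hPT : P ∈ T := by
      rw [c.hT]
      intro q hPq hIq
      have hmem : q ∈ PrimeSpectrum.zeroLocus ((J' : Ideal A) : Set A) ∩
          PrimeSpectrum.zeroLocus ((I : Ideal A) : Set A) :=
        ⟨(PrimeSpectrum.mem_zeroLocus _ _).2 (fun x hx => hPq (hP1 hx)),
          (PrimeSpectrum.mem_zeroLocus _ _).2 hIq⟩
      rw [hint] at hmem
      exact (PrimeSpectrum.mem_zeroLocus _ _).1 hmem.1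
    apply subsingleton_H_of_lt_depth
    exact lt_of_le_of_lt (by exact_mod_cast hj) (h.hdepth P hPT hPI hP2)
  have h1806 := Groth.Agent.S1806.result A J' J₀ hJ' M i
  exact ⟨h1806.2 (fun P h1 h2 j hj => hvan P h1 h2 j (by omega)),
    h1806.1 (fun P h1 h2 => hvan P h1 h2 i hi)⟩

lemma ann (c : Ctx M I J s d T) {J₀ : Ideal A} (h : Good M I J s T J₀) :
    ∃ n : ℕ, ∀ a ∈ (J₀ * I) ^ n, ∀ i : ℕ, i ≤ s → ∀ x : LocCoh.H J₀ i M, a • x = 0 := by
  refine c.exists_pow_kills J₀ (J₀ * I) (fun p q hp hq hpq => ?_)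
  have hp' : ¬ J₀ ≤ p.asIdeal ∧ ¬ I ≤ p.asIdeal := by
    rw [← not_or]
    exact fun hor => hp ((Ideal.IsPrime.mul_le p.isPrime).2 hor)
  exact c.keyIneq p q hpq hp'.2 (h.subset_T c hq) (fun hpT => h.hdepth p hpT hp'.2 hp'.1)

lemma finite (c : Ctx M I J s d T) {J₀ : Ideal A} (h : Good M I J s T J₀)
    (h2 : ∀ p : PrimeSpectrum A, I ≤ p.asIdeal → ¬ J ≤ p.asIdeal → ∀ q : PrimeSpectrum A,
      p ≤ q → J ≤ q.asIdeal → I ≤ q.asIdeal →
        (s : ℕ∞) < dep M p + (((c.ν q - c.ν p).toNat : ℕ) : ℕ∞))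
    (i : ℕ) (hi : i ≤ s) : Module.Finite A (LocCoh.H J₀ i M) := by
  have hT₁ : StableUnderSpecialization (PrimeSpectrum.zeroLocus (J₀ : Set A)) :=
    (PrimeSpectrum.isClosed_zeroLocus _).stableUnderSpecialization
  have hex := (c.falt _ _ hT₁ hT₁ s).2 (fun p q hp hq hpq => by
    have hpJ₀ : ¬ J₀ ≤ p.asIdeal := fun hle => hp ((PrimeSpectrum.mem_zeroLocus _ _).2 hle)
    have hqJ₀ : J₀ ≤ q.asIdeal := (PrimeSpectrum.mem_zeroLocus _ _).1 hq
    by_cases hpI : I ≤ p.asIdeal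
    · have hqI : I ≤ q.asIdeal := fun x hx => hpq (hpI hx)
      have hqJ : J ≤ q.asIdeal := (c.hT q).1 (h.subset_T c hqJ₀) q le_rfl hqI
      exact h2 p hpI (fun hle => hpJ₀ (h.le.trans hle)) q hpq hqJ hqI
    · exact c.keyIneq p q hpq hpI (h.subset_T c hqJ₀) (fun hpT => h.hdepth p hpT hpI hpJ₀))
  have hfin := (Groth.Agent.S1751.result A _ hT₁ M s).2 hex i hi
  obtain ⟨E⟩ := nonempty_HT_equiv_locCoh J₀ i M
  exact Module.Finite.equiv E

end Good

namespace Ctx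

lemma exists_good (c : Ctx M I J s d T) : ∃ J₀ : Ideal A, Good M I J s T J₀ := by
  obtain ⟨B, hB⟩ : ∃ B : Set (PrimeSpectrum A),
      B = {p | ¬ I ≤ p.asIdeal ∧ p ∈ T ∧ dep M p ≤ (s : ℕ∞)} := ⟨_, rfl⟩
  have hBT : B ⊆ T := fun b hb => by rw [hB] at hb; exact hb.2.1
  have hBI : ∀ b ∈ B, ¬ I ≤ b.asIdeal := fun b hb => by rw [hB] at hb; exact hb.1
  have hBs : ∀ b ∈ B, dep M b ≤ (s : ℕ∞) := fun b hb => by rw [hB] at hb; exact hb.2.2
  refine ⟨J ⊓ PrimeSpectrum.vanishingIdeal B, inf_le_left, ?_, ?_⟩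
  · apply Set.Subset.antisymm
    · rintro q ⟨hq1, hq2⟩
      have hq1' : J ⊓ PrimeSpectrum.vanishingIdeal B ≤ q.asIdeal :=
        (PrimeSpectrum.mem_zeroLocus _ _).1 hq1
      have hq2' : I ≤ q.asIdeal := (PrimeSpectrum.mem_zeroLocus _ _).1 hq2
      refine ⟨(PrimeSpectrum.mem_zeroLocus _ _).2 ?_, hq2⟩
      rcases (Ideal.IsPrime.inf_le q.isPrime).1 hq1' with h | h
      · exact h
      · exact (c.hT q).1 (c.mem_T_of_vanishingIdeal_le B hBT hBI hBs q h) q le_rfl hq2'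
    · rintro q ⟨hq1, hq2⟩
      have hq1' : J ≤ q.asIdeal := (PrimeSpectrum.mem_zeroLocus _ _).1 hq1
      exact ⟨(PrimeSpectrum.mem_zeroLocus _ _).2 (inf_le_left.trans hq1'), hq2⟩
  · intro p hpT hpI hpJ₀
    by_contra hcon
    rw [not_lt] at hcon
    apply hpJ₀
    have hpB : p ∈ B := by rw [hB]; exact ⟨hpI, hpT, hcon⟩
    exact inf_le_right.trans (fun a ha => (PrimeSpectrum.mem_vanishingIdeal _ _).1 ha p hpB)

end Ctx

/-! ### Building the context -/

theorem nonempty_ctx (hdc : ∃ ω : Dual.D A, Dual.IsDualizing A ω) (I J : Ideal A) (M : Type u)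
    [AddCommGroup M] [Module A M] [Module.Finite A M] (s d : ℕ) (T : Set (PrimeSpectrum A))
    (hT : ∀ p : PrimeSpectrum A, p ∈ T ↔
      ∀ q : PrimeSpectrum A, p ≤ q → I ≤ q.asIdeal → J ≤ q.asIdeal)
    (h3 : ∀ p : PrimeSpectrum A, ¬ I ≤ p.asIdeal → p ∈ T → ∃ q : PrimeSpectrum A, p ≤ q ∧
      J ≤ q.asIdeal ∧ I ≤ q.asIdeal ∧
        Formal2.dimBetween A p.asIdeal q.asIdeal ≤ ((d : ℕ∞) : WithBot ℕ∞))
    (h4 : ∀ p : PrimeSpectrum A, ¬ I ≤ p.asIdeal → p ∉ T → ∀ q : PrimeSpectrum A, p ≤ q →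
      J ≤ q.asIdeal → I ≤ q.asIdeal →
      (s : ℕ∞) ≤ LocCoh.depth (Localization.AtPrime p.asIdeal)
        (LocalizedModule p.asIdeal.primeCompl M) ∨
      (((d + s : ℕ) : ℕ∞) : WithBot ℕ∞) < ((LocCoh.depth (Localization.AtPrime p.asIdeal)
        (LocalizedModule p.asIdeal.primeCompl M) : ℕ∞) : WithBot ℕ∞) +
          Formal2.dimBetween A p.asIdeal q.asIdeal) :
    Nonempty (Ctx M I J s d T) := by
  obtain ⟨ω, hω⟩ := hdc
  obtain ⟨ν, -, hmono, hcov, -⟩ := exists_normalizing_function ω hω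
  have hD : ∀ p q : PrimeSpectrum A, p ≤ q → Order.krullDim (Set.Icc p q) =
      ((((ν q - ν p).toNat : ℕ) : ℕ∞) : WithBot ℕ∞) := fun p q hpq => by
    rw [krullDim_Icc_eq_height p q hpq, height_Ici_eq_sub ν hmono hcov p _ q hpq rfl]
  refine ⟨⟨ν, hT, hmono, hD, ?_, ?_, ?_, ?_⟩⟩
  · intro T₁ T₂ hT₁ hT₂ s'
    refine (S1711_main ⟨ω, hω⟩ T₁ T₂ hT₁ hT₂ s' M).trans ?_
    refine forall_congr' fun p => forall_congr' fun q => forall_congr' fun hp =>
      forall_congr' fun hq => forall_congr' fun hpq => ?_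
    show (((s' : ℕ) : ℕ∞) : WithBot ℕ∞) < _ ↔ _
    rw [hD p q hpq, ← WithBot.coe_add, WithBot.coe_lt_coe]
  · intro p q hpq
    have h1 := Groth.Agent.S11650.result A M p.asIdeal q.asIdeal hpq
    rw [← Groth.Agent.Lib.FaltingsCM_helper6.height_Ici_eq p q hpq,
      height_Ici_eq_sub ν hmono hcov p _ q hpq rfl] at h1
    exact h1
  · intro p hpI hpT
    obtain ⟨q, hpq, hqJ, hqI, hd⟩ := h3 p hpI hpT
    refine ⟨q, hpq, hqJ, hqI, ?_⟩
    have h5 := (krullDim_Icc_le_dimBetween p q).trans hd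
    rw [hD p q hpq, WithBot.coe_le_coe] at h5
    exact_mod_cast h5
  · intro p hpI hpT q hpq hqJ hqI
    rcases h4 p hpI hpT q hpq hqJ hqI with h | h
    · exact Or.inl h
    · refine Or.inr ?_
      have h5 := lt_of_lt_of_le h (add_le_add le_rfl (dimBetween_le_krullDim_Icc p q))
      rw [hD p q hpq, ← WithBot.coe_add, WithBot.coe_lt_coe] at h5
      exact h5

end

end Groth.Agent.Lib.AnnH1
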