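import Mathlib
import Groth.Agent.Lib.AnnSh_helper8
import Groth.Agent.Lib.ComapId2_helper8
set_option autoImplicit false
open TensorProduct AlgebraicGeometry CategoryTheory TopologicalSpace Opposite
universe u
namespace AnnBCH8

section Alg
variable {A B : Type u} [CommRing A] [CommRing B] [Algebra A B] [Module.Flat A B]
  {M : Type u} [AddCommGroup M] [Module A M] [Module.Finite A M]

theorem annihilator_tensor :
    Module.annihilator B (B ⊗[A] M) = (Module.annihilator A M).map (algebraMap A B) := by
  classical
  apply le_antisymm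
  · obtain ⟨s, hs⟩ := Module.Finite.fg_top (R := A) (M := M)
    let g : A →ₗ[A] (s → M) := LinearMap.pi (fun i => LinearMap.toSpanSingleton A M i.1)
    have hker : ∀ a : A, a ∈ LinearMap.ker g → a ∈ Module.annihilator A M := by
      intro a ha
      rw [Module.mem_annihilator]
      have ha' : ∀ i : s, a • (i.1 : M) = 0 := by
        intro i
        have := congrFun (LinearMap.mem_ker.mp ha) i
        simpa [g] using this
      intro m
      have hm : m ∈ Submodule.span A (s : Set M) := by rw [hs]; trivial
      induction hm using Submodule.span_induction with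
      | mem x hx => exact ha' ⟨x, hx⟩
      | zero => exact smul_zero _
      | add x y _ _ hx hy => rw [smul_add, hx, hy, add_zero]
      | smul r x _ hx => rw [smul_comm, hx, smul_zero]
    have h1 := Module.Flat.ker_lTensor_eq B B g
    intro b hb
    rw [Module.mem_annihilator] at hb
    have hb1 : (b ⊗ₜ[A] (1 : A)) ∈ LinearMap.ker (AlgebraTensorModule.lTensor B B g) := by
      rw [LinearMap.mem_ker, AlgebraTensorModule.lTensor_tmul]
      have hg1 : g 1 = ∑ i : s, Pi.single i (i.1 : M) := by
        funext j
        simp [g, Finset.sum_apply, Pi.single_apply]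
      rw [hg1, tmul_sum]
      apply Finset.sum_eq_zero
      intro i _
      have h2 : b ⊗ₜ[A] (Pi.single i (i.1 : M) : s → M) =
          (LinearMap.lTensor B (LinearMap.single A (fun _ : s => M) i)) (b ⊗ₜ[A] (i.1 : M)) := by
        simp
      rw [h2]
      have h3 : b ⊗ₜ[A] (i.1 : M) = b • ((1 : B) ⊗ₜ[A] (i.1 : M)) := by
        rw [smul_tmul', smul_eq_mul, mul_one]
      rw [h3, hb, map_zero]
    rw [h1] at hb1
    obtain ⟨t, ht⟩ := hb1
    have key : ∀ t : B ⊗[A] (LinearMap.ker g),
        Algebra.TensorProduct.rid A B B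
          ((AlgebraTensorModule.lTensor B B (LinearMap.ker g).subtype) t) ∈
          (Module.annihilator A M).map (algebraMap A B) := by
      intro t
      induction t using TensorProduct.induction_on with
      | zero => simp
      | tmul b' k =>
        rw [AlgebraTensorModule.lTensor_tmul]
        simp only [Submodule.subtype_apply, Algebra.TensorProduct.rid_tmul]
        rw [Algebra.smul_def]
        exact Ideal.mul_mem_right _ _ (Ideal.mem_map_of_mem _ (hker _ k.2))
      | add x y hx hy =>
        rw [map_add, map_add]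
        exact Ideal.add_mem _ hx hy
    have h4 := key t
    rw [ht] at h4
    simpa using h4
  · rw [Ideal.map_le_iff_le_comap]
    intro a ha
    rw [Ideal.mem_comap, Module.mem_annihilator]
    intro n
    induction n using TensorProduct.induction_on with
    | zero => exact smul_zero _
    | tmul b m =>
      rw [smul_tmul', smul_eq_mul, ← Algebra.smul_def, smul_tmul,
        Module.mem_annihilator.mp ha m, tmul_zero]
    | add x y hx hy => rw [smul_add, hx, hy, add_zero]

theorem annihilator_of_isBaseChange {N : Type u} [AddCommGroup N] [Module A N] [Module B N]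
    [IsScalarTower A B N] (φ : M →ₗ[A] N) (h : IsBaseChange B φ) :
    Module.annihilator B N = (Module.annihilator A M).map (algebraMap A B) := by
  rw [← annihilator_tensor (A := A) (B := B) (M := M)]
  exact (h.equiv.annihilator_eq).symm

end Alg

theorem comap_annIdeal {Y X : Scheme.{u}} (f : Y ⟶ X) [Flat f] (F : X.Modules) [F.IsQuasicoherent]
    [SheafOfModules.IsFiniteType (R := X.ringCatSheaf) F] (J : X.IdealSheafData)
    (hJ : ∀ U : X.affineOpens, J.ideal U = Module.annihilator Γ(X, U.1) Γ(F, U.1))
    (V : Y.affineOpens) :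
    (J.comap f).ideal V =
      Module.annihilator Γ(Y, V.1) Γ((Scheme.Modules.pullback f).obj F, V.1) := by
  haveI := PBH8.isQuasicoherent_pullback f F
  haveI := FpqcH8.isFiniteType_pullback f F
  have key : J.comap f = AnnShH8.annIdeal ((Scheme.Modules.pullback f).obj F) := by
    let ι := {p : Y.affineOpens × X.affineOpens // (p.1 : Y.Opens) ≤ f ⁻¹ᵁ (p.2 : X.Opens)}
    have hcov : ⨆ j : ι, ((j.1.1 : Y.affineOpens) : Y.Opens) = ⊤ := by
      rw [eq_top_iff]
      intro x _
      obtain ⟨U, V', hU, hV', hxV', hVU⟩ := PBH8.exists_affine_pair' f x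
      exact Opens.mem_iSup.mpr ⟨⟨⟨⟨V', hV'⟩, ⟨U, hU⟩⟩, hVU⟩, hxV'⟩
    refine Scheme.IdealSheafData.ext_of_iSup_eq_top (fun j : ι => j.1.1) hcov ?_
    rintro ⟨⟨V', U⟩, hVU⟩
    show (J.comap f).ideal V' = (AnnShH8.annIdeal ((Scheme.Modules.pullback f).obj F)).ideal V'
    rw [ComapIdH8.comap_ideal f J V' U hVU, hJ U, AnnShH8.annIdeal_ideal]
    letI := (f.appLE U V' hVU).hom.toAlgebra
    letI : Module Γ(X, (U : X.Opens)) Γ((Scheme.Modules.pullback f).obj F, (V' : Y.Opens)) :=
      Module.compHom _ (f.appLE U V' hVU).hom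
    haveI : IsScalarTower Γ(X, (U : X.Opens)) Γ(Y, (V' : Y.Opens))
        Γ((Scheme.Modules.pullback f).obj F, (V' : Y.Opens)) :=
      IsScalarTower.of_algebraMap_smul fun _ _ => rfl
    have bc := PBH8.isBaseChange_cUV f F hVU V'.2 U.2
    haveI : Module.Flat Γ(X, (U : X.Opens)) Γ(Y, (V' : Y.Opens)) := f.flat_appLE U.2 V'.2 hVU
    haveI : Module.Finite Γ(X, (U : X.Opens)) Γ(F, (U : X.Opens)) :=
      QCohFT.finite_of_isFiniteType F U.2
    exact (annihilator_of_isBaseChange _ bc).symm
  rw [key]
  rfl

end AnnBCH8
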