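import Mathlib
import Groth.Agent.Lib.LatticeDist_helper9

/-!
# Lattices over a one-dimensional Noetherian local domain and finiteness of length
-/

set_option autoImplicit false

universe u v

namespace Groth.Agent.LatticeFin

open Groth.Agent.LatticeDist
open scoped Pointwise

section Span

variable {A : Type u} [CommRing A] [IsDomain A] {K : Type u} [Field K] [Algebra A K]
  [IsFractionRing A K] {V : Type v} [AddCommGroup V] [Module K V] [Module A V]
  [IsScalarTower A K V]

lemma span_eq_top_of_smul_le (M M' : Submodule A V) (hM : Submodule.span K (M : Set V) = ⊤)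
    {a : A} (ha : a ∈ nonZeroDivisors A) (h : ∀ m ∈ M, a • m ∈ M') :
    Submodule.span K (M' : Set V) = ⊤ := by
  rw [eq_top_iff, ← hM]
  apply Submodule.span_le.2
  intro m hm
  have ha0 : algebraMap A K a ≠ 0 := by
    intro h0
    exact (nonZeroDivisors.ne_zero ha)
      ((FaithfulSMul.algebraMap_injective A K) (by rw [h0, map_zero]))
  have hmm : m = (algebraMap A K a)⁻¹ • (a • m) := by
    rw [← algebraMap_smul K a m, smul_smul, inv_mul_cancel₀ ha0, one_smul]
  rw [hmm]
  exact Submodule.smul_mem _ _ (Submodule.subset_span (h m hm))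

end Span

section Kill

variable {A : Type u} [CommRing A] [IsLocalRing A]

/-- A module of finite length over a local ring is killed by a power of any element of the
maximal ideal. -/
lemma exists_pow_smul_eq_zero_of_length_ne_top (Q : Type v) [AddCommGroup Q] [Module A Q]
    (hQ : Module.length A Q ≠ ⊤) {x : A} (hx : x ∈ IsLocalRing.maximalIdeal A) :
    ∃ k : ℕ, ∀ q : Q, x ^ k • q = 0 := by
  have hfl : IsFiniteLength A Q := Module.length_ne_top_iff.1 hQ
  obtain ⟨hN, hArt⟩ := isFiniteLength_iff_isNoetherian_isArtinian.1 hfl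
  have hanti : ∀ k l : ℕ, k ≤ l →
      x ^ l • (⊤ : Submodule A Q) ≤ x ^ k • (⊤ : Submodule A Q) := by
    intro k l hkl q hq
    obtain ⟨y, -, rfl⟩ := (Submodule.mem_smul_pointwise_iff_exists _ _ _).1 hq
    rw [← Nat.sub_add_cancel hkl, pow_add, mul_comm, mul_smul]
    exact Submodule.smul_mem_pointwise_smul _ _ _ trivial
  obtain ⟨n, hn⟩ := IsArtinian.monotone_stabilizes
    (⟨fun k => OrderDual.toDual (x ^ k • (⊤ : Submodule A Q)), fun k l hkl => hanti k l hkl⟩ :
      ℕ →o (Submodule A Q)ᵒᵈ)
  have hn1 : x ^ n • (⊤ : Submodule A Q) = x ^ (n + 1) • (⊤ : Submodule A Q) :=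
    congrArg OrderDual.ofDual (hn (n + 1) (Nat.le_succ n))
  have hbot : x ^ n • (⊤ : Submodule A Q) = ⊥ := by
    apply Submodule.eq_bot_of_le_smul_of_le_jacobson_bot (Ideal.span {x}) _
      (IsNoetherian.noetherian _)
    · rw [Submodule.ideal_span_singleton_smul]
      conv_lhs => rw [hn1]
      rw [pow_succ', mul_smul]
    · rw [IsLocalRing.jacobson_eq_maximalIdeal ⊥ bot_ne_top, Ideal.span_le,
        Set.singleton_subset_iff]
      exact hx
  refine ⟨n, fun q => ?_⟩
  have hq : x ^ n • q ∈ x ^ n • (⊤ : Submodule A Q) :=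
    Submodule.smul_mem_pointwise_smul _ _ _ trivial
  rw [hbot] at hq
  exact (Submodule.mem_bot A).1 hq

end Kill

section Main

variable {R : Type u} [CommRing R] [IsDomain R] [IsNoetherianRing R] [IsLocalRing R]
  {K : Type u} [Field K] [Algebra R K] [IsFractionRing R K] {V : Type v} [AddCommGroup V]
  [Module K V] [Module R V] [IsScalarTower R K V]

omit [IsDomain R] [IsNoetherianRing R] in
lemma exists_ne_zero_mem_maximalIdeal (hdim : ringKrullDim R = 1) :
    ∃ x ∈ IsLocalRing.maximalIdeal R, x ≠ 0 := by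
  by_contra hcon
  push Not at hcon
  have hbot : IsLocalRing.maximalIdeal R = ⊥ := by
    rw [eq_bot_iff]
    intro x hx
    exact (Submodule.mem_bot R).2 (hcon x hx)
  have hf : IsField R := IsLocalRing.isField_iff_maximalIdeal_eq.2 hbot
  have h0 := ringKrullDim_eq_zero_of_isField hf
  rw [hdim] at h0
  exact one_ne_zero h0

theorem lattice_main (hdim : ringKrullDim R = 1) (M : Submodule R V)
    [Submodule.IsLattice K M] :
    (∀ M' : Submodule R V, M ≤ M' →
        (Submodule.IsLattice K M' ↔
            Module.length R (M' ⧸ Submodule.comap M'.subtype M) ≠ ⊤) ∧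
          (Submodule.IsLattice K M' ↔ M'.FG)) ∧
      (∀ M' : Submodule R V, M' ≤ M →
        (Submodule.IsLattice K M' ↔
          Module.length R (M ⧸ Submodule.comap M.subtype M') ≠ ⊤)) ∧
      ∀ M' : Submodule R V, Submodule.IsLattice K M' → Submodule.IsLattice K (M ⊓ M') := by
  have hd : Ring.KrullDimLE 1 R := by
    rw [Ring.KrullDimLE, Order.krullDimLE_iff]
    exact le_of_eq hdim
  have hMfg : M.FG := Submodule.IsLattice.fg
  have hMsp : Submodule.span K (M : Set V) = ⊤ := Submodule.IsLattice.span_eq_top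
  have hMN : IsNoetherian R M := isNoetherian_of_fg_of_noetherian M hMfg
  refine ⟨fun M' hle => ?_, fun M' hle => ?_, fun M' hM' => ?_⟩
  · have hfgiff : Submodule.IsLattice K M' ↔ M'.FG :=
      ⟨fun h => h.fg, fun h => Submodule.IsLattice.of_le_of_isLattice_of_fg K hle h⟩
    refine ⟨?_, hfgiff⟩
    rw [hfgiff]
    constructor
    · intro hfg
      obtain ⟨a, ha, h⟩ := exists_smul_le (K := K) M' M hfg hMsp
      exact length_quot_ne_top M' M hfg ha h
    · intro hlen
      have hfl : IsFiniteLength R (M' ⧸ Submodule.comap M'.subtype M) :=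
        Module.length_ne_top_iff.1 hlen
      obtain ⟨hN, -⟩ := isFiniteLength_iff_isNoetherian_isArtinian.1 hfl
      have hN' : IsNoetherian R M' := isNoetherian_of_range_eq_ker (Submodule.inclusion hle)
        (Submodule.mkQ (Submodule.comap M'.subtype M))
        (by rw [Submodule.range_inclusion, Submodule.ker_mkQ])
      exact (Submodule.fg_top M').1 (IsNoetherian.noetherian _)
  · have hfg' : M'.FG := isNoetherian_submodule.1 hMN M' hle
    constructor
    · intro hL
      obtain ⟨a, ha, h⟩ := exists_smul_le (K := K) M M' hMfg hL.span_eq_top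
      exact length_quot_ne_top M M' hMfg ha h
    · intro hlen
      obtain ⟨x, hxm, hx0⟩ := exists_ne_zero_mem_maximalIdeal hdim
      obtain ⟨k, hk⟩ := exists_pow_smul_eq_zero_of_length_ne_top _ hlen hxm
      refine ⟨hfg', span_eq_top_of_smul_le M M' hMsp (a := x ^ k)
        (mem_nonZeroDivisors_of_ne_zero (pow_ne_zero k hx0)) ?_⟩
      intro m hm
      have h1 := hk (Submodule.Quotient.mk ⟨m, hm⟩)
      rw [← Submodule.Quotient.mk_smul, Submodule.Quotient.mk_eq_zero] at h1
      exact h1
  · obtain ⟨a, ha, h⟩ := exists_smul_le (K := K) M M' hMfg hM'.span_eq_top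
    exact ⟨isNoetherian_submodule.1 hMN _ inf_le_left,
      span_eq_top_of_smul_le M (M ⊓ M') hMsp ha (fun m hm => ⟨M.smul_mem _ hm, h m hm⟩)⟩

end Main

end Groth.Agent.LatticeFin
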