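import Mathlib

/-!
# Length of a localized module does not change when the ring is replaced by a quotient (helper9)
-/

namespace Groth.Agent.Lib.LocQuotLength

open Submodule

section sat

variable {R : Type*} [CommRing R] (S : Submonoid R)
variable {M : Type*} [AddCommGroup M] [Module R M]
variable (T : Type*) [CommRing T] [Algebra R T] [IsLocalization S T]
variable {N : Type*} [AddCommGroup N] [Module R N] [Module T N] [IsScalarTower R T N]
variable (f : M →ₗ[R] N) [IsLocalizedModule S f]

/-- Membership in the saturation. -/
lemma mem_localized'_iff (P : Submodule R M) (m : M) :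
    f m ∈ Submodule.localized' T S f P ↔ ∃ s ∈ S, s • m ∈ P := by
  constructor
  · rintro ⟨m₀, hm₀, s, h⟩
    rw [IsLocalizedModule.mk'_eq_iff] at h
    have h' : f m₀ = f ((s : R) • m) := by rw [h, map_smul]; rfl
    obtain ⟨c, hc⟩ := IsLocalizedModule.exists_of_eq (S := S) h'
    refine ⟨c * s, S.mul_mem c.2 s.2, ?_⟩
    rw [mul_smul]
    have : (c : R) • (s : R) • m = (c : R) • m₀ := hc.symm
    rw [this]
    exact P.smul_mem _ hm₀
  · rintro ⟨s, hs, hmem⟩
    exact ⟨s • m, hmem, ⟨s, hs⟩, IsLocalizedModule.mk'_cancel f m ⟨s, hs⟩⟩

end sat

section main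

variable {R R' : Type*} [CommRing R] [CommRing R'] [Algebra R R']
variable (S : Submonoid R)
variable {M : Type*} [AddCommGroup M] [Module R M] [Module R' M] [IsScalarTower R R' M]
variable (T : Type*) [CommRing T] [Algebra R T] [IsLocalization S T]
variable {N : Type*} [AddCommGroup N] [Module R N] [Module T N] [IsScalarTower R T N]
variable (f : M →ₗ[R] N) [IsLocalizedModule S f]
variable (T' : Type*) [CommRing T'] [Algebra R' T']
  [IsLocalization (Algebra.algebraMapSubmonoid R' S) T']
variable {N' : Type*} [AddCommGroup N'] [Module R' N'] [Module T' N'] [IsScalarTower R' T' N']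
variable (f' : M →ₗ[R'] N') [IsLocalizedModule (Algebra.algebraMapSubmonoid R' S) f']

/-- An `R`-submodule as an `R'`-submodule when `R → R'` is surjective. -/
def toR' (hπ : Function.Surjective (algebraMap R R')) (P : Submodule R M) : Submodule R' M where
  carrier := P
  add_mem' := P.add_mem
  zero_mem' := P.zero_mem
  smul_mem' c x hx := by
    obtain ⟨r, rfl⟩ := hπ c
    rw [algebraMap_smul]
    exact P.smul_mem r hx

lemma mem_toR' (hπ : Function.Surjective (algebraMap R R')) (P : Submodule R M) (m : M) :
    m ∈ toR' hπ P ↔ m ∈ P := Iff.rfl

lemma toR'_restrictScalars (hπ : Function.Surjective (algebraMap R R')) (P' : Submodule R' M) :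
    toR' hπ (P'.restrictScalars R) = P' := by
  ext m; rfl

omit [IsLocalization S T] [IsLocalizedModule S f] in
lemma key (hπ : Function.Surjective (algebraMap R R')) [IsLocalization S T]
    [IsLocalizedModule S f] (P : Submodule R M) (m : M) :
    f' m ∈ Submodule.localized' T' (Algebra.algebraMapSubmonoid R' S) f' (toR' hπ P) ↔
      f m ∈ Submodule.localized' T S f P := by
  rw [mem_localized'_iff, mem_localized'_iff]
  constructor
  · rintro ⟨s', ⟨s, hs, rfl⟩, hmem⟩
    refine ⟨s, hs, ?_⟩
    rw [mem_toR', algebraMap_smul] at hmem
    exact hmem
  · rintro ⟨s, hs, hmem⟩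
    refine ⟨algebraMap R R' s, ⟨s, hs, rfl⟩, ?_⟩
    rw [mem_toR', algebraMap_smul]
    exact hmem

/-- The order isomorphism between the submodule lattices of the two localizations. -/
noncomputable def orderIso (hπ : Function.Surjective (algebraMap R R')) :
    Submodule T N ≃o Submodule T' N' where
  toFun Q := Submodule.localized' T' (Algebra.algebraMapSubmonoid R' S) f'
    (toR' hπ (Submodule.comap f (Q.restrictScalars R)))
  invFun Q' := Submodule.localized' T S f
    ((Submodule.comap f' (Q'.restrictScalars R')).restrictScalars R)
  left_inv Q := by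
    have h1 : (Submodule.comap f' ((Submodule.localized' T' (Algebra.algebraMapSubmonoid R' S) f'
        (toR' hπ (Submodule.comap f (Q.restrictScalars R)))).restrictScalars R')).restrictScalars R
        = Submodule.comap f ((Submodule.localized' T S f
          (Submodule.comap f (Q.restrictScalars R))).restrictScalars R) := by
      ext m
      exact key S T f T' f' hπ _ m
    dsimp only
    rw [h1]
    have e1 : Submodule.localized' T S f (Submodule.comap f (Q.restrictScalars R)) = Q :=
      (Submodule.localized'gi T S f).l_u_eq Q
    rw [e1]
    exact e1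
  right_inv Q' := by
    have h1 : toR' hπ (Submodule.comap f ((Submodule.localized' T S f
        ((Submodule.comap f' (Q'.restrictScalars R')).restrictScalars R)).restrictScalars R)) =
        Submodule.comap f' ((Submodule.localized' T' (Algebra.algebraMapSubmonoid R' S) f'
          (Submodule.comap f' (Q'.restrictScalars R'))).restrictScalars R') := by
      ext m
      have := key S T f T' f' hπ
        ((Submodule.comap f' (Q'.restrictScalars R')).restrictScalars R) m
      rw [toR'_restrictScalars] at this
      exact this.symm
    dsimp only
    rw [h1]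
    have e1 : Submodule.localized' T' (Algebra.algebraMapSubmonoid R' S) f'
        (Submodule.comap f' (Q'.restrictScalars R')) = Q' :=
      (Submodule.localized'gi T' (Algebra.algebraMapSubmonoid R' S) f').l_u_eq Q'
    rw [e1]
    exact e1
  map_rel_iff' := by
    intro Q₁ Q₂
    have gi := Submodule.localized'gi T S f
    constructor
    · intro h
      have h2 : ∀ m, m ∈ Submodule.comap f (Q₁.restrictScalars R) →
          m ∈ Submodule.comap f (Q₂.restrictScalars R) := by
        intro m hm
        have hm1 : f' m ∈ Submodule.localized' T' (Algebra.algebraMapSubmonoid R' S) f'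
            (toR' hπ (Submodule.comap f (Q₁.restrictScalars R))) :=
          ⟨m, hm, 1, by simp⟩
        have hm2 := h hm1
        have hm3 := (key S T f T' f' hπ _ m).mp hm2
        have : Submodule.localized' T S f (Submodule.comap f (Q₂.restrictScalars R)) = Q₂ :=
          gi.l_u_eq Q₂
        rw [this] at hm3
        exact hm3
      have e1 : Submodule.localized' T S f (Submodule.comap f (Q₁.restrictScalars R)) = Q₁ :=
        gi.l_u_eq Q₁
      have e2 : Submodule.localized' T S f (Submodule.comap f (Q₂.restrictScalars R)) = Q₂ :=
        gi.l_u_eq Q₂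
      rw [← e1, ← e2]
      exact gi.gc.monotone_l h2
    · intro h
      apply (Submodule.localized'gi T' (Algebra.algebraMapSubmonoid R' S) f').gc.monotone_l
      intro m hm
      exact h hm

include S f f' in
theorem length_eq (hπ : Function.Surjective (algebraMap R R')) :
    Module.length T N = Module.length T' N' := by
  apply WithBot.coe_injective
  rw [Module.coe_length, Module.coe_length]
  exact Order.krullDim_eq_of_orderIso (orderIso S T f T' f' hπ)

end main

end Groth.Agent.Lib.LocQuotLength
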