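import Mathlib
import Groth.Agent.Lib.MultDim1_helper9

/-!
# `ℓ(M/tM) ≥ ∑_p ℓ(M_p)` over a one-dimensional Noetherian local ring
-/

set_option autoImplicit false

universe u v

namespace Groth.Agent.MultIneq

open Function IsLocalRing Groth.Agent.MultDim1 Groth.Agent.HerbrandDim1
open scoped Pointwise

variable {A : Type u} [CommRing A]

section Setup

variable {t : A}

/-- Primes containing `t` are maximal when `A/(t)` is Artinian. -/
lemma isMaximal_of_mem (hart : IsArtinianRing (A ⧸ Ideal.span {t})) (q : Ideal A) [q.IsPrime]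
    (htq : t ∈ q) : q.IsMaximal := by
  have hsurj : Surjective (Ideal.Quotient.mk (Ideal.span {t})) := Ideal.Quotient.mk_surjective
  have hker : RingHom.ker (Ideal.Quotient.mk (Ideal.span {t})) ≤ q := by
    rw [Ideal.mk_ker, Ideal.span_le, Set.singleton_subset_iff]
    exact htq
  have hprime : (q.map (Ideal.Quotient.mk (Ideal.span {t}))).IsPrime :=
    Ideal.map_isPrime_of_surjective hsurj hker
  have hmax : (q.map (Ideal.Quotient.mk (Ideal.span {t}))).IsMaximal := inferInstance
  have hcm : (q.map (Ideal.Quotient.mk (Ideal.span {t}))).comap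
      (Ideal.Quotient.mk (Ideal.span {t})) = q := by
    rw [Ideal.comap_map_of_surjective _ hsurj, ← RingHom.ker_eq_comap_bot]
    exact sup_eq_left.2 hker
  rw [← hcm]
  exact Ideal.comap_isMaximal_of_surjective _ hsurj

variable [IsNoetherianRing A] [IsLocalRing A]

lemma krullDimLE_one (hart : IsArtinianRing (A ⧸ Ideal.span {t})) (ht : t ∈ maximalIdeal A) :
    Ring.KrullDimLE 1 A := by
  rw [Ring.krullDimLE_iff, ← IsLocalRing.maximalIdeal_height_eq_ringKrullDim]
  have hmin : maximalIdeal A ∈ (Ideal.span {t}).minimalPrimes := by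
    refine ⟨⟨inferInstance, by rw [Ideal.span_le, Set.singleton_subset_iff]; exact ht⟩, ?_⟩
    rintro q ⟨hq, hle⟩ hqm
    have htq : t ∈ q := hle (Ideal.mem_span_singleton_self t)
    have hqmax := isMaximal_of_mem hart q htq
    exact (IsLocalRing.eq_maximalIdeal hqmax).ge
  have h1 := Ideal.height_le_one_of_isPrincipal_of_mem_minimalPrimes (Ideal.span {t}) _ hmin
  exact_mod_cast h1

omit [IsNoetherianRing A] in
lemma notMem_of_minimal (hart : IsArtinianRing (A ⧸ Ideal.span {t}))
    (hdim : 0 < ringKrullDim A) (p : Ideal A) (hp : p ∈ minimalPrimes A) : t ∉ p := by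
  intro htp
  have hpp : p.IsPrime := hp.1.1
  have hmax := isMaximal_of_mem hart p htp
  have hpm : p = maximalIdeal A := IsLocalRing.eq_maximalIdeal hmax
  have h0 : (maximalIdeal A).height = 0 := by
    rw [← hpm]
    exact Ideal.height_eq_zero_iff.2 hp
  rw [← IsLocalRing.maximalIdeal_height_eq_ringKrullDim, h0] at hdim
  exact lt_irrefl _ hdim

end Setup

section Reindex

/-- Reindexing the minimal primes. -/
def equivSmin : ↥(minimalPrimes A) ≃ ↥(Smin A) where
  toFun I := ⟨⟨I.1, I.2.1.1⟩, I.2⟩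
  invFun p := ⟨p.1.asIdeal, p.2⟩
  left_inv _ := rfl
  right_inv _ := rfl

lemma finsum_Smin (G : PrimeSpectrum A → ℕ∞) :
    ∑ᶠ p ∈ Smin A, G p = ∑ᶠ I : minimalPrimes A, G ⟨I.1, I.2.1.1⟩ := by
  rw [← finsum_set_coe_eq_finsum_mem]
  exact (finsum_comp_equiv equivSmin (f := fun j : ↥(Smin A) => G j.1)).symm

end Reindex

section Ineq

variable [IsNoetherianRing A] [IsLocalRing A] {t : A}

omit [IsNoetherianRing A] in
lemma one_le_length_quot (ht : t ∈ maximalIdeal A) (p : Ideal A) [hp : p.IsPrime] :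
    1 ≤ Module.length A (A ⧸ (p ⊔ Ideal.span {t})) := by
  rw [Order.one_le_iff_ne_zero, Ne, Module.length_eq_zero_iff, Submodule.Quotient.subsingleton_iff]
  intro htop
  have hle : p ⊔ Ideal.span {t} ≤ maximalIdeal A :=
    sup_le (IsLocalRing.le_maximalIdeal hp.ne_top)
      (by rw [Ideal.span_le, Set.singleton_subset_iff]; exact ht)
  rw [htop] at hle
  exact (maximalIdeal.isMaximal A).ne_top (top_le_iff.1 hle)

theorem sum_le (hdim : 0 < ringKrullDim A) (ht : t ∈ maximalIdeal A)
    (hart : IsArtinianRing (A ⧸ Ideal.span {t})) (M : Type u) [AddCommGroup M] [Module A M]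
    [Module.Finite A M] :
    (∑ᶠ I : minimalPrimes A, haveI : I.1.IsPrime := I.2.1.1; lam I.1 M) ≤
      Module.length A (M ⧸ (Ideal.span {t} • (⊤ : Submodule A M))) := by
  have hd := krullDimLE_one hart ht
  have ha := fun p hp => notMem_of_minimal hart hdim p hp
  have hF : Module.length A (QuotSMulTop t M) =
      Module.length A (LinearMap.ker (mulT t M)) + Rsum t M := formula_of_finite ha M
  rw [Submodule.ideal_span_singleton_smul]
  change _ ≤ Module.length A (QuotSMulTop t M)
  rw [hF]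
  refine le_trans ?_ le_add_self
  have hre := finsum_Smin (fun p : PrimeSpectrum A => lam p.asIdeal M)
  change _ = ∑ᶠ I : minimalPrimes A, haveI : I.1.IsPrime := I.2.1.1; lam I.1 M at hre
  rw [← hre]
  unfold Rsum
  rw [finsum_mem_eq_finite_toFinset_sum _ Smin_finite,
    finsum_mem_eq_finite_toFinset_sum _ Smin_finite]
  apply Finset.sum_le_sum
  intro p _
  calc lam p.asIdeal M = lam p.asIdeal M * 1 := (mul_one _).symm
    _ ≤ _ := mul_le_mul_right (one_le_length_quot ht p.asIdeal) _

end Ineq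


section Eq

lemma nat_sum_eq_iff {ι : Type*} (S : Finset ι) (l c : ι → ℕ) (k : ℕ) (hc : ∀ i ∈ S, 1 ≤ c i) :
    (∑ i ∈ S, l i = k + ∑ i ∈ S, l i * c i) ↔ k = 0 ∧ ∀ i ∈ S, l i = 0 ∨ c i = 1 := by
  have hle : ∀ i ∈ S, l i ≤ l i * c i := fun i hi => Nat.le_mul_of_pos_right _ (hc i hi)
  have hsum : ∑ i ∈ S, l i ≤ ∑ i ∈ S, l i * c i := Finset.sum_le_sum hle
  constructor
  · intro h
    have hk : k = 0 := by omega
    refine ⟨hk, ?_⟩
    have h' : ∑ i ∈ S, l i = ∑ i ∈ S, l i * c i := by omega
    have h'' := (Finset.sum_eq_sum_iff_of_le hle).1 h'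
    intro i hi
    have hi' := h'' i hi
    rcases Nat.eq_zero_or_pos (l i) with h0 | hpos
    · exact Or.inl h0
    · right
      have : l i * 1 = l i * c i := by rw [mul_one]; exact hi'
      exact (Nat.eq_of_mul_eq_mul_left hpos this).symm
  · rintro ⟨hk, h⟩
    rw [hk, zero_add]
    apply Finset.sum_congr rfl
    intro i hi
    rcases h i hi with h0 | h1
    · rw [h0, zero_mul]
    · rw [h1, mul_one]

variable [IsNoetherianRing A]

lemma lam_ne_top (p : Ideal A) [p.IsPrime] (hp : p ∈ minimalPrimes A) (M : Type v)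
    [AddCommGroup M] [Module A M] [Module.Finite A M] : lam p M ≠ ⊤ := by
  have hdim : ringKrullDim (Localization.AtPrime p) = 0 := by
    rw [IsLocalization.AtPrime.ringKrullDim_eq_height p, Ideal.height_eq_zero_iff.2 hp]
    rfl
  have hk : Ring.KrullDimLE 0 (Localization.AtPrime p) := by
    rw [Ring.krullDimLE_iff, hdim]
    rfl
  have hnoeth : IsNoetherianRing (Localization.AtPrime p) :=
    IsLocalization.isNoetherianRing p.primeCompl _ inferInstance
  have hart : IsArtinianRing (Localization.AtPrime p) := isArtinianRing_iff_krullDimLE_zero.2 hk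
  have h1 : IsArtinian (Localization.AtPrime p) (LocalizedModule p.primeCompl M) :=
    isArtinian_of_fg_of_artinian'
  have h2 : IsNoetherian (Localization.AtPrime p) (LocalizedModule p.primeCompl M) :=
    isNoetherian_of_isNoetherianRing_of_finite _ _
  exact Module.length_ne_top

variable [IsLocalRing A] {t : A}

omit [IsLocalRing A] in
lemma c_ne_top [Ring.KrullDimLE 1 A] (ha : ∀ p ∈ minimalPrimes A, t ∉ p) (p : Ideal A) :
    Module.length A (A ⧸ (p ⊔ Ideal.span {t})) ≠ ⊤ := by
  apply ne_of_lt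
  apply length_lt_top_of_finite' (length_quot_lt_top ha)
  intro x
  rw [Algebra.smul_def, Ideal.Quotient.algebraMap_eq,
    Ideal.Quotient.eq_zero_iff_mem.2 (le_sup_right (a := p) (Ideal.mem_span_singleton_self t)),
    zero_mul]

omit [IsNoetherianRing A] in
lemma c_eq_one_iff (p : Ideal A) [hp : p.IsPrime] :
    Module.length A (A ⧸ (p ⊔ Ideal.span {t})) = 1 ↔
      Ideal.map (Ideal.Quotient.mk p) (maximalIdeal A) =
        Ideal.span {Ideal.Quotient.mk p t} := by
  have hmap : Ideal.map (Ideal.Quotient.mk p) (p ⊔ Ideal.span {t}) =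
      Ideal.span {Ideal.Quotient.mk p t} := by
    rw [Ideal.map_sup, Ideal.map_quotient_self, bot_sup_eq, Ideal.map_span, Set.image_singleton]
  have hsurj : Surjective (Ideal.Quotient.mk p) := Ideal.Quotient.mk_surjective
  rw [Module.length_eq_one_iff, isSimpleModule_iff_isCoatom, ← Ideal.isMaximal_def]
  constructor
  · intro hmax
    rw [← hmap, IsLocalRing.eq_maximalIdeal hmax]
  · intro h
    have h2 : p ⊔ Ideal.span {t} = maximalIdeal A := by
      have e1 := congrArg (Ideal.comap (Ideal.Quotient.mk p)) (h.trans hmap.symm)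
      rw [Ideal.comap_map_of_surjective _ hsurj, Ideal.comap_map_of_surjective _ hsurj,
        ← RingHom.ker_eq_comap_bot, Ideal.mk_ker] at e1
      rw [sup_eq_left.2 (IsLocalRing.le_maximalIdeal hp.ne_top), sup_comm, ← sup_assoc,
        sup_idem] at e1
      exact e1.symm
    rw [h2]
    exact maximalIdeal.isMaximal A

theorem sum_eq_iff (hdim : 0 < ringKrullDim A) (ht : t ∈ maximalIdeal A)
    (hart : IsArtinianRing (A ⧸ Ideal.span {t})) (M : Type u) [AddCommGroup M] [Module A M]
    [Module.Finite A M] :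
    (∑ᶠ I : minimalPrimes A, haveI : I.1.IsPrime := I.2.1.1; lam I.1 M) =
      Module.length A (M ⧸ (Ideal.span {t} • (⊤ : Submodule A M))) ↔
    IsSMulRegular M t ∧ ∀ I : minimalPrimes A,
      (haveI : I.1.IsPrime := I.2.1.1; Nontrivial (LocalizedModule I.1.primeCompl M)) →
        Ideal.map (Ideal.Quotient.mk I.1) (maximalIdeal A) =
          Ideal.span {Ideal.Quotient.mk I.1 t} := by
  have hd := krullDimLE_one hart ht
  have ha := fun p hp => notMem_of_minimal hart hdim p hp
  have hF : Module.length A (QuotSMulTop t M) =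
      Module.length A (LinearMap.ker (mulT t M)) + Rsum t M := formula_of_finite ha M
  rw [Submodule.ideal_span_singleton_smul]
  change _ = Module.length A (QuotSMulTop t M) ↔ _
  rw [hF]
  have hre := finsum_Smin (fun p : PrimeSpectrum A => lam p.asIdeal M)
  change _ = ∑ᶠ I : minimalPrimes A, haveI : I.1.IsPrime := I.2.1.1; lam I.1 M at hre
  rw [← hre]
  unfold Rsum
  rw [finsum_mem_eq_finite_toFinset_sum _ Smin_finite,
    finsum_mem_eq_finite_toFinset_sum _ Smin_finite]
  have hmemS : ∀ p : PrimeSpectrum A, p ∈ Smin_finite.toFinset ↔ p.asIdeal ∈ minimalPrimes A :=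
    fun p => Set.Finite.mem_toFinset _
  have hl : ∀ p ∈ (Smin_finite (A := A)).toFinset,
      lam p.asIdeal M = ((lam p.asIdeal M).toNat : ℕ∞) :=
    fun p hp => (ENat.natCast_toNat (lam_ne_top p.asIdeal ((hmemS p).1 hp) M)).symm
  have hc : ∀ p : PrimeSpectrum A, Module.length A (A ⧸ (p.asIdeal ⊔ Ideal.span {t})) =
      ((Module.length A (A ⧸ (p.asIdeal ⊔ Ideal.span {t}))).toNat : ℕ∞) :=
    fun p => (ENat.natCast_toNat (c_ne_top ha p.asIdeal)).symm
  have hk : Module.length A (LinearMap.ker (mulT t M)) =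
      ((Module.length A (LinearMap.ker (mulT t M))).toNat : ℕ∞) :=
    (ENat.natCast_toNat (length_ker_ne_top' ha M)).symm
  have e1 : ∑ p ∈ (Smin_finite (A := A)).toFinset, lam p.asIdeal M =
      ((∑ p ∈ (Smin_finite (A := A)).toFinset, (lam p.asIdeal M).toNat : ℕ) : ℕ∞) := by
    rw [Nat.cast_sum]
    exact Finset.sum_congr rfl hl
  have e2 : ∑ p ∈ (Smin_finite (A := A)).toFinset,
      lam p.asIdeal M * Module.length A (A ⧸ (p.asIdeal ⊔ Ideal.span {t})) =
      ((∑ p ∈ (Smin_finite (A := A)).toFinset, (lam p.asIdeal M).toNat *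
        (Module.length A (A ⧸ (p.asIdeal ⊔ Ideal.span {t}))).toNat : ℕ) : ℕ∞) := by
    rw [Nat.cast_sum]
    apply Finset.sum_congr rfl
    intro p hp
    rw [Nat.cast_mul, ← hl p hp, ← hc p]
  have hc1 : ∀ p ∈ (Smin_finite (A := A)).toFinset,
      1 ≤ (Module.length A (A ⧸ (p.asIdeal ⊔ Ideal.span {t}))).toNat := by
    intro p _
    have h1 := one_le_length_quot ht p.asIdeal
    rw [hc p] at h1
    exact_mod_cast h1
  rw [e1, e2, hk, ← Nat.cast_add, Nat.cast_inj, nat_sum_eq_iff _ _ _ _ hc1]
  -- translate the two conditions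
  have hreg : (Module.length A (LinearMap.ker (mulT t M))).toNat = 0 ↔ IsSMulRegular M t := by
    rw [ENat.toNat_eq_zero, or_iff_left (length_ker_ne_top' ha M), Module.length_eq_zero_iff,
      Submodule.subsingleton_iff_eq_bot, LinearMap.ker_eq_bot]
    rfl
  have hp1 : ∀ p : PrimeSpectrum A, p.asIdeal ∈ minimalPrimes A →
      (((lam p.asIdeal M).toNat = 0 ∨
        (Module.length A (A ⧸ (p.asIdeal ⊔ Ideal.span {t}))).toNat = 1) ↔
      (Nontrivial (LocalizedModule p.asIdeal.primeCompl M) →
        Ideal.map (Ideal.Quotient.mk p.asIdeal) (maximalIdeal A) =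
          Ideal.span {Ideal.Quotient.mk p.asIdeal t})) := by
    intro p hp
    rw [ENat.toNat_eq_zero, or_iff_left (lam_ne_top p.asIdeal hp M), Module.length_eq_zero_iff,
      ENat.toNat_eq_iff one_ne_zero, Nat.cast_one, c_eq_one_iff, ← not_nontrivial_iff_subsingleton]
    tauto
  rw [hreg]
  apply and_congr_right
  intro _
  constructor
  · intro h I
    have := (hp1 ⟨I.1, I.2.1.1⟩ I.2).1 (h _ ((hmemS _).2 I.2))
    exact this
  · intro h p hp
    have hp' := (hmemS p).1 hp
    exact (hp1 p hp').2 (h ⟨p.asIdeal, hp'⟩)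

end Eq

end Groth.Agent.MultIneq
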