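import Mathlib
import Groth.Agent.Lib.LocQuotLength_helper9
import Groth.Agent.Lib.LatticeFin_helper9
import Groth.Agent.Lib.MultIneq_helper9

/-!
# Transfer of statements about a finite module `M` over `B` to the ring `B / ann M` (helper9)
-/

set_option autoImplicit false

universe u

namespace Groth.Agent.Lib.AnnTransfer

open IsLocalRing

section general

variable {B A : Type u} [CommRing B] [CommRing A] [Algebra B A]
variable (hπ : Function.Surjective (algebraMap B A))
variable (M : Type u) [AddCommGroup M] [Module B M] [Module A M] [IsScalarTower B A M]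

/-- primeCompl of a comap under a surjection. -/
lemma algebraMapSubmonoid_primeCompl (hπ : Function.Surjective (algebraMap B A))
    (q : Ideal A) [q.IsPrime] :
    Algebra.algebraMapSubmonoid A (q.comap (algebraMap B A)).primeCompl = q.primeCompl := by
  ext x
  constructor
  · rintro ⟨b, hb, rfl⟩
    exact hb
  · intro hx
    obtain ⟨b, rfl⟩ := hπ x
    exact ⟨b, hx, rfl⟩

/-- Lengths of localizations at corresponding primes agree. -/
lemma length_localized_eq (hπ : Function.Surjective (algebraMap B A))
    (q : Ideal A) [q.IsPrime] :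
    Module.length (Localization.AtPrime q) (LocalizedModule q.primeCompl M) =
      Module.length (Localization.AtPrime (q.comap (algebraMap B A)))
        (LocalizedModule (q.comap (algebraMap B A)).primeCompl M) := by
  have heq := algebraMapSubmonoid_primeCompl hπ q
  haveI : IsLocalization (Algebra.algebraMapSubmonoid A (q.comap (algebraMap B A)).primeCompl)
      (Localization.AtPrime q) := by rw [heq]; infer_instance
  haveI : IsLocalizedModule (Algebra.algebraMapSubmonoid A (q.comap (algebraMap B A)).primeCompl)
      (LocalizedModule.mkLinearMap q.primeCompl M) := by rw [heq]; infer_instance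
  exact (LocQuotLength.length_eq (q.comap (algebraMap B A)).primeCompl
    (Localization.AtPrime (q.comap (algebraMap B A)))
    (LocalizedModule.mkLinearMap (q.comap (algebraMap B A)).primeCompl M)
    (Localization.AtPrime q) (LocalizedModule.mkLinearMap q.primeCompl M) hπ).symm

/-- The bijection between minimal primes of `A` and minimal primes over `ker`. -/
noncomputable def minEquiv (hπ : Function.Surjective (algebraMap B A)) :
    ↥(minimalPrimes A) ≃ ↥((RingHom.ker (algebraMap B A)).minimalPrimes) :=
  Equiv.ofBijective
    (fun q => ⟨q.1.comap (algebraMap B A), by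
      have := Ideal.comap_minimalPrimes_eq_of_surjective hπ (⊥ : Ideal A)
      rw [← RingHom.ker_eq_comap_bot] at this
      rw [this]
      exact ⟨q.1, q.2, rfl⟩⟩)
    ⟨fun q₁ q₂ h => Subtype.ext (Ideal.comap_injective_of_surjective _ hπ
        (congrArg Subtype.val h)),
      fun ⟨p, hp⟩ => by
        have := Ideal.comap_minimalPrimes_eq_of_surjective hπ (⊥ : Ideal A)
        rw [← RingHom.ker_eq_comap_bot] at this
        have hp' := hp
        rw [this] at hp'
        obtain ⟨q, hq, hqp⟩ := hp'
        exact ⟨⟨q, hq⟩, Subtype.ext hqp⟩⟩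

lemma minEquiv_coe (hπ : Function.Surjective (algebraMap B A)) (q : ↥(minimalPrimes A)) :
    ((minEquiv hπ q : ↥((RingHom.ker (algebraMap B A)).minimalPrimes)) : Ideal B) =
      q.1.comap (algebraMap B A) := rfl

/-- `M/tM` over `A` and over `B` have the same length. -/
lemma length_quot_eq (hπ : Function.Surjective (algebraMap B A)) (t : B) :
    Module.length A (M ⧸ (Ideal.span {algebraMap B A t} • (⊤ : Submodule A M))) =
      Module.length B (M ⧸ (Ideal.span {t} • (⊤ : Submodule B M))) := by
  rw [← Module.length_eq_of_surjective (S := B) (R := A) hπ]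
  have h : (Ideal.span {algebraMap B A t} • (⊤ : Submodule A M)).restrictScalars B =
      Ideal.span {t} • (⊤ : Submodule B M) := by
    ext x
    rw [Submodule.restrictScalars_mem, Submodule.ideal_span_singleton_smul,
      Submodule.ideal_span_singleton_smul, Submodule.mem_smul_pointwise_iff_exists,
      Submodule.mem_smul_pointwise_iff_exists]
    simp only [Submodule.mem_top, true_and, algebraMap_smul]
  rw [← h]
  exact (Submodule.Quotient.restrictScalarsEquiv B _).length_eq.symm

end general


section local'

variable {B A : Type u} [CommRing B] [CommRing A] [Algebra B A]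
variable (M : Type u) [AddCommGroup M] [Module B M]

/-- A prime containing `ann M` and `t` is maximal when `M/tM` has finite length. -/
lemma isMaximal_of_le [IsLocalRing B] [Module.Finite B M] (t : B)
    (hfin : Module.length B (M ⧸ (Ideal.span {t} • (⊤ : Submodule B M))) ≠ ⊤)
    (q : Ideal B) [hq : q.IsPrime] (hI : Module.annihilator B M ≤ q) (ht : t ∈ q) :
    q.IsMaximal := by
  have hsupp : (⟨q, hq⟩ : PrimeSpectrum B) ∈
      Module.support B (M ⧸ (Ideal.span {t} • (⊤ : Submodule B M))) := by
    rw [Module.support_quotient]
    refine ⟨Module.mem_support_iff_of_finite.mpr hI, ?_⟩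
    rw [PrimeSpectrum.mem_zeroLocus, SetLike.coe_subset_coe, Ideal.span_le,
      Set.singleton_subset_iff]
    exact ht
  have hann := Module.mem_support_iff_of_finite.mp hsupp
  have hle : maximalIdeal B ≤ q := by
    intro x hx
    obtain ⟨k, hk⟩ := Groth.Agent.LatticeFin.exists_pow_smul_eq_zero_of_length_ne_top _ hfin hx
    have : x ^ k ∈ Module.annihilator B (M ⧸ (Ideal.span {t} • (⊤ : Submodule B M))) :=
      Module.mem_annihilator.mpr hk
    exact hq.mem_of_pow_mem k (hann this)
  have : q = maximalIdeal B :=
    ((maximalIdeal.isMaximal B).eq_of_le hq.ne_top hle).symm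
  rw [this]
  exact maximalIdeal.isMaximal B

/-- `A/tA` is Artinian. -/
lemma isArtinianRing_quot [IsNoetherianRing B] [IsLocalRing B] [Module.Finite B M]
    [IsNoetherianRing A]
    (hπ : Function.Surjective (algebraMap B A))
    (hker : RingHom.ker (algebraMap B A) = Module.annihilator B M) (t : B)
    (hfin : Module.length B (M ⧸ (Ideal.span {t} • (⊤ : Submodule B M))) ≠ ⊤) :
    IsArtinianRing (A ⧸ Ideal.span {algebraMap B A t}) := by
  rw [isArtinianRing_iff_krullDimLE_zero, Ring.krullDimLE_zero_iff]
  intro Q hQ
  set g : B →+* A ⧸ Ideal.span {algebraMap B A t} :=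
    (Ideal.Quotient.mk _).comp (algebraMap B A) with hg
  have hgs : Function.Surjective g := Ideal.Quotient.mk_surjective.comp hπ
  haveI : (Q.comap g).IsPrime := Ideal.comap_isPrime g Q
  have h1 : Module.annihilator B M ≤ Q.comap g := by
    rw [← hker]
    intro x hx
    rw [RingHom.mem_ker] at hx
    rw [Ideal.mem_comap, hg, RingHom.comp_apply, hx, map_zero]
    exact Q.zero_mem
  have h2 : t ∈ Q.comap g := by
    rw [Ideal.mem_comap, hg, RingHom.comp_apply]
    have : Ideal.Quotient.mk (Ideal.span {algebraMap B A t}) (algebraMap B A t) = 0 :=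
      Ideal.Quotient.eq_zero_iff_mem.mpr (Ideal.subset_span (Set.mem_singleton _))
    rw [this]
    exact Q.zero_mem
  haveI := isMaximal_of_le M t hfin (Q.comap g) h1 h2
  have := Ideal.map_eq_top_or_isMaximal_of_surjective g hgs (I := Q.comap g) inferInstance
  rw [Ideal.map_comap_of_surjective g hgs] at this
  rcases this with h | h
  · exact absurd h hQ.ne_top
  · exact h

lemma map_maximalIdeal [IsLocalRing B] [IsLocalRing A]
    (hπ : Function.Surjective (algebraMap B A)) :
    maximalIdeal A = Ideal.map (algebraMap B A) (maximalIdeal B) := by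
  haveI : ((maximalIdeal A).comap (algebraMap B A)).IsMaximal :=
    Ideal.comap_isMaximal_of_surjective _ hπ
  have : (maximalIdeal A).comap (algebraMap B A) = maximalIdeal B :=
    IsLocalRing.eq_maximalIdeal inferInstance
  rw [← this, Ideal.map_comap_of_surjective _ hπ]

/-- The condition "`t` generates the maximal ideal of `A/q`" transfers. -/
lemma cond_iff [IsLocalRing B] [IsLocalRing A] (hπ : Function.Surjective (algebraMap B A))
    (t : B) (q : Ideal A) [q.IsPrime] :
    Ideal.map (Ideal.Quotient.mk q) (maximalIdeal A) =
        Ideal.span {Ideal.Quotient.mk q (algebraMap B A t)} ↔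
      Ideal.map (Ideal.Quotient.mk (q.comap (algebraMap B A))) (maximalIdeal B) =
        Ideal.span {Ideal.Quotient.mk (q.comap (algebraMap B A)) t} := by
  have e1 : Ideal.span {Ideal.Quotient.mk q (algebraMap B A t)} =
      Ideal.map ((Ideal.Quotient.mk q).comp (algebraMap B A)) (Ideal.span {t}) := by
    rw [Ideal.map_span, Set.image_singleton]; rfl
  have e2 : Ideal.span {Ideal.Quotient.mk (q.comap (algebraMap B A)) t} =
      Ideal.map (Ideal.Quotient.mk (q.comap (algebraMap B A))) (Ideal.span {t}) := by
    rw [Ideal.map_span, Set.image_singleton]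
  have e3 : Ideal.map (Ideal.Quotient.mk q) (maximalIdeal A) =
      Ideal.map ((Ideal.Quotient.mk q).comp (algebraMap B A)) (maximalIdeal B) := by
    rw [map_maximalIdeal hπ, Ideal.map_map]
  have hs : Function.Surjective ((Ideal.Quotient.mk q).comp (algebraMap B A)) :=
    Ideal.Quotient.mk_surjective.comp hπ
  have hk : RingHom.ker ((Ideal.Quotient.mk q).comp (algebraMap B A)) =
      q.comap (algebraMap B A) := by
    rw [← RingHom.comap_ker, Ideal.mk_ker]
  rw [e1, e2, e3, Ideal.map_eq_iff_sup_ker_eq_of_surjective _ hs,
    Ideal.map_eq_iff_sup_ker_eq_of_surjective _ Ideal.Quotient.mk_surjective, hk, Ideal.mk_ker]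

end local'


section assemble

variable {B A : Type u} [CommRing B] [CommRing A] [Algebra B A]

/-- `minEquiv` with a prescribed kernel. -/
noncomputable def minEquiv' (hπ : Function.Surjective (algebraMap B A)) (K : Ideal B)
    (hK : RingHom.ker (algebraMap B A) = K) : ↥(minimalPrimes A) ≃ ↥(K.minimalPrimes) := by
  subst hK
  exact minEquiv hπ

lemma minEquiv'_coe (hπ : Function.Surjective (algebraMap B A)) (K : Ideal B)
    (hK : RingHom.ker (algebraMap B A) = K) (q : ↥(minimalPrimes A)) :
    ((minEquiv' hπ K hK q : ↥(K.minimalPrimes)) : Ideal B) = q.1.comap (algebraMap B A) := by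
  subst hK
  rfl

variable (M : Type u) [AddCommGroup M] [Module B M]

lemma length_congr_prime (p p' : Ideal B) [hp : p.IsPrime] [hp' : p'.IsPrime] (h : p = p') :
    Module.length (Localization.AtPrime p) (LocalizedModule p.primeCompl M) =
      Module.length (Localization.AtPrime p') (LocalizedModule p'.primeCompl M) := by
  subst h
  rfl

lemma cond_congr [IsLocalRing B] (t : B) (p p' : Ideal B) (h : p = p') :
    (Ideal.map (Ideal.Quotient.mk p) (maximalIdeal B) = Ideal.span {Ideal.Quotient.mk p t}) ↔
      (Ideal.map (Ideal.Quotient.mk p') (maximalIdeal B) =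
        Ideal.span {Ideal.Quotient.mk p' t}) := by
  subst h
  rfl

variable [Module A M] [IsScalarTower B A M]

lemma annihilator_eq_bot (hπ : Function.Surjective (algebraMap B A))
    (hker : RingHom.ker (algebraMap B A) = Module.annihilator B M) :
    Module.annihilator A M = ⊥ := by
  rw [eq_bot_iff]
  intro a ha
  obtain ⟨b, rfl⟩ := hπ a
  have hb : b ∈ Module.annihilator B M := by
    rw [Module.mem_annihilator] at ha ⊢
    intro m
    rw [← algebraMap_smul A b m]
    exact ha m
  rw [← hker, RingHom.mem_ker] at hb
  rw [hb]
  exact Ideal.zero_mem _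

theorem main_generic [IsNoetherianRing B] [IsLocalRing B] [IsNoetherianRing A] [IsLocalRing A]
    (hπ : Function.Surjective (algebraMap B A)) [Module.Finite B M]
    (hker : RingHom.ker (algebraMap B A) = Module.annihilator B M)
    (t : B) (ht : t ∈ maximalIdeal B) (hdim : 0 < ringKrullDim A)
    (hfin : Module.length B (M ⧸ (Ideal.span {t} • (⊤ : Submodule B M))) ≠ ⊤) :
    (∑ᶠ p : (Module.annihilator B M).minimalPrimes,
        haveI : p.1.IsPrime := p.2.1.1
        Module.length (Localization.AtPrime p.1) (LocalizedModule p.1.primeCompl M)) ≤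
      Module.length B (M ⧸ (Ideal.span {t} • (⊤ : Submodule B M))) ∧
    ((∑ᶠ p : (Module.annihilator B M).minimalPrimes,
        haveI : p.1.IsPrime := p.2.1.1
        Module.length (Localization.AtPrime p.1) (LocalizedModule p.1.primeCompl M)) =
      Module.length B (M ⧸ (Ideal.span {t} • (⊤ : Submodule B M))) ↔
    IsSMulRegular M t ∧
      ∀ p : (Module.annihilator B M).minimalPrimes,
        Ideal.map (Ideal.Quotient.mk p.1) (IsLocalRing.maximalIdeal B) =
          Ideal.span {Ideal.Quotient.mk p.1 t}) := by
  haveI : Module.Finite A M := Module.Finite.of_restrictScalars_finite B A M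
  have htA : algebraMap B A t ∈ maximalIdeal A := by
    rw [map_maximalIdeal hπ]
    exact Ideal.mem_map_of_mem _ ht
  have hart := isArtinianRing_quot M hπ hker t hfin
  have h1 := Groth.Agent.MultIneq.sum_le hdim htA hart M
  have h2 := Groth.Agent.MultIneq.sum_eq_iff hdim htA hart M
  set e := minEquiv' hπ _ hker with he
  have hsum : (∑ᶠ p : (Module.annihilator B M).minimalPrimes,
        haveI : p.1.IsPrime := p.2.1.1
        Module.length (Localization.AtPrime p.1) (LocalizedModule p.1.primeCompl M)) =
      ∑ᶠ I : minimalPrimes A, haveI : I.1.IsPrime := I.2.1.1;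
        Groth.Agent.MultDim1.lam I.1 M := by
    rw [← finsum_comp_equiv e]
    apply finsum_congr
    intro q
    haveI : q.1.IsPrime := q.2.1.1
    haveI : (e q).1.IsPrime := (e q).2.1.1
    exact (length_congr_prime M _ _ (minEquiv'_coe hπ _ hker q)).trans
      (length_localized_eq M hπ q.1).symm
  have hL := length_quot_eq M hπ t
  rw [hsum, ← hL]
  refine ⟨h1, ?_⟩
  rw [h2]
  have hreg : IsSMulRegular M (algebraMap B A t) ↔ IsSMulRegular M t := by
    have : (fun m : M => algebraMap B A t • m) = fun m => t • m :=
      funext (algebraMap_smul A t)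
    unfold IsSMulRegular
    rw [this]
  rw [hreg]
  apply and_congr_right
  intro _
  constructor
  · intro h p
    have hp : ((e.symm p : ↥(minimalPrimes A)) : Ideal A).comap (algebraMap B A) = p.1 := by
      rw [← minEquiv'_coe hπ _ hker, ← he, e.apply_symm_apply]
    haveI : (e.symm p).1.IsPrime := (e.symm p).2.1.1
    have hnt : Nontrivial (LocalizedModule (e.symm p).1.primeCompl M) := by
      have : (⟨(e.symm p).1, inferInstance⟩ : PrimeSpectrum A) ∈ Module.support A M := by
        rw [Module.mem_support_iff_of_finite, annihilator_eq_bot M hπ hker]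
        exact bot_le
      exact Module.mem_support_iff.mp this
    have := h (e.symm p) hnt
    rw [cond_iff hπ t] at this
    exact (cond_congr t _ _ hp).mp this
  · intro h q _
    haveI : q.1.IsPrime := q.2.1.1
    rw [cond_iff hπ t]
    exact (cond_congr t _ _ (minEquiv'_coe hπ _ hker q)).mp (h (e q))

end assemble

end Groth.Agent.Lib.AnnTransfer
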