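import Groth.Statements.S16127
import Groth.Agent.Lib.PBGeomQuot_lead

/-! # Global functions on the base of a principal bundle are the invariant functions (lead) -/

set_option backward.isDefEq.respectTransparency false
set_option backward.isDefEq.respectTransparency.types false
set_option linter.unusedSimpArgs false
set_option linter.unusedVariables false
set_option linter.unusedSectionVars false
set_option linter.style.longLine false
set_option linter.style.haveILetI false
set_option maxHeartbeats 800000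

universe u

open CategoryTheory CategoryTheory.Limits MonoidalCategory CartesianMonoidalCategory MonObj GrpObj
  AlgebraicGeometry Opposite Topology

namespace Groth.Agent.Lib.PBInvFun

open Groth.Agent.Lib.AssocBundle Groth.Agent.Lib.GeomQuotSep Groth.Agent.Lib.PBGeomQuot SchFpqcCovH7

theorem global_core {GX X Y : Scheme.{u}} (φ : X ⟶ Y) [Flat φ] [Surjective φ] [QuasiCompact φ]
    (s p : GX ⟶ X) (hpb : IsPullback s p φ φ) :
    Function.Injective (φ.appTop) ∧
      Set.range (φ.appTop) = {f : Γ(X, ⊤) | s.appTop f = p.appTop f} := by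
  have hcov := isCov_of_flat φ
  haveI : EffectiveEpi φ := hcov.effectiveEpi
  haveI : Epi φ := inferInstance
  constructor
  · intro c₁ c₂ hc
    obtain ⟨g₁, hg₁⟩ := fromA1_surj c₁
    obtain ⟨g₂, hg₂⟩ := fromA1_surj c₂
    have h3 : φ ≫ g₁ = φ ≫ g₂ := by
      apply fromA1_inj
      rw [fromA1_comp, fromA1_comp, hg₁, hg₂, hc]
    have hg : g₁ = g₂ := (cancel_epi φ).mp h3
    rw [← hg₁, ← hg₂, hg]
  · ext f
    constructor
    · rintro ⟨c, rfl⟩
      show s.appTop (φ.appTop c) = p.appTop (φ.appTop c)
      rw [appTop_comp_apply, appTop_comp_apply, hpb.w]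
    · intro hf
      have hf' : s.appTop f = p.appTop f := hf
      obtain ⟨g, hg⟩ := fromA1_surj f
      have hsg : s ≫ g = p ≫ g := by
        apply fromA1_inj
        rw [fromA1_comp, fromA1_comp, hg, hf']
      have hdesc : ∀ {Z : Scheme.{u}} (g₁ g₂ : Z ⟶ X), g₁ ≫ φ = g₂ ≫ φ → g₁ ≫ g = g₂ ≫ g := by
        intro Z g₁ g₂ hg12
        obtain ⟨l, hl1, hl2⟩ : ∃ l : Z ⟶ GX, l ≫ s = g₁ ∧ l ≫ p = g₂ :=
          ⟨hpb.lift _ _ hg12, hpb.lift_fst _ _ _, hpb.lift_snd _ _ _⟩
        rw [← hl1, ← hl2, Category.assoc, Category.assoc, hsg]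
      obtain ⟨h, hh⟩ : ∃ h : Y ⟶ Spec R1.{u}, φ ≫ h = g :=
        ⟨EffectiveEpi.desc φ g hdesc, EffectiveEpi.fac φ g hdesc⟩
      refine ⟨fromA1 h, ?_⟩
      rw [← fromA1_comp, hh, hg]

theorem main (k : Type u) [Field k]
    (G X Y : Over (Spec (CommRingCat.of k))) [GrpObj G]
    [QuasiCompact X.hom] [IsSeparated Y.hom]
    (a : AlgGrp.Action G X) (f : X ⟶ Y) [Flat f.left] [Surjective f.left]
    (hsq : IsPullback a.act.left (snd G X).left f.left f.left) :
    Function.Injective (f.left.appTop) ∧
      Set.range (f.left.appTop) = {s : Γ(X.left, ⊤) | a.act.left.appTop s = (snd G X).left.appTop s} := by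
  haveI : QuasiCompact f.left := qc_left f
  exact global_core f.left a.act.left (snd G X).left hsq

end Groth.Agent.Lib.PBInvFun
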