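import Groth.Agent.Lib.IsogKernel_lead
import Groth.Agent.Lib.PBInvFun_lead

/-! # Anti-affine group schemes: products and extensions, via the Künneth formula (lead) -/

set_option backward.isDefEq.respectTransparency false
set_option backward.isDefEq.respectTransparency.types false
set_option linter.unusedSimpArgs false
set_option linter.unusedVariables false
set_option linter.unusedSectionVars false
set_option linter.style.longLine false
set_option linter.style.haveILetI false
set_option maxHeartbeats 800000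

universe u

open CategoryTheory CategoryTheory.Limits MonoidalCategory CartesianMonoidalCategory MonObj GrpObj
  AlgebraicGeometry Opposite Topology

namespace Groth.Agent.Lib.AntiAffine

open Groth.Agent.Lib.AssocBundle Groth.Agent.Lib.IsogKernel

section cat

variable {C : Type*} [Category C]

theorem isIso_of_comp_iso_of_mono {A B D : C} (a : A ⟶ B) (b : B ⟶ D) [IsIso (a ≫ b)] [Mono b] :
    IsIso a := by
  refine ⟨⟨b ≫ inv (a ≫ b), ?_, ?_⟩⟩
  · rw [← Category.assoc, IsIso.hom_inv_id]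
  · rw [← cancel_mono b]
    simp only [Category.assoc, IsIso.inv_hom_id, Category.comp_id, Category.id_comp]

theorem eq_of_common_section {A B : C} (u v : A ⟶ B) (w : B ⟶ A) [IsIso v] (hu : u ≫ w = 𝟙 A)
    (hv : v ≫ w = 𝟙 A) : u = v := by
  have hw : w = inv v := IsIso.eq_inv_of_hom_inv_id hv
  rw [hw] at hu
  have := (IsIso.comp_inv_eq v).mp hu
  rwa [Category.id_comp] at this

end cat

section kunneth

theorem appLE_top_eq {A B : Scheme.{u}} (h : A ⟶ B) (e : (⊤ : A.Opens) ≤ h ⁻¹ᵁ ⊤) :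
    h.appLE ⊤ ⊤ e = h.appTop := by
  rw [Scheme.Hom.appTop, Scheme.Hom.app_eq_appLE]
  rfl

/-- Künneth: if `Γ(S) ≅ Γ(X)` then `Γ(T) ≅ Γ(X ×_S T)` -/
theorem snd_appTop_isIso {X T S : Scheme.{u}} (iX : X ⟶ S) (f : T ⟶ S) [IsAffine S] [Flat f]
    [CompactSpace X] [QuasiSeparatedSpace X] [CompactSpace T] [QuasiSeparatedSpace T]
    (hflat : iX.appTop.hom.Flat) [IsIso iX.appTop] : IsIso (pullback.snd iX f).appTop := by
  have H : IsPullback (pullback.fst iX f) (pullback.snd iX f) iX f := IsPullback.of_hasPullback iX f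
  have hUST : (⊤ : T.Opens) ≤ f ⁻¹ᵁ ⊤ := le_of_eq rfl
  have hUSX : (⊤ : X.Opens) ≤ iX ⁻¹ᵁ ⊤ := le_of_eq rfl
  have hUY : (⊤ : (pullback iX f).Opens) =
      (pullback.fst iX f) ⁻¹ᵁ ⊤ ⊓ (pullback.snd iX f) ⁻¹ᵁ ⊤ := by simp
  have hiso : IsIso (pushoutSection H hUST hUSX hUY) :=
    isIso_pushoutSection_of_isCompact_of_flat_right_of_ringHomFlat H hUST hUSX hUY
      (isAffineOpen_top S) (show IsCompact (Set.univ : Set T) from isCompact_univ)
      (isQuasiSeparated_univ_iff.mpr inferInstance)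
      (show IsCompact (Set.univ : Set X) from isCompact_univ)
      (isQuasiSeparated_univ_iff.mpr inferInstance) (by rwa [appLE_top_eq])
  haveI : IsIso (iX.appLE ⊤ ⊤ hUSX) := by rw [appLE_top_eq]; infer_instance
  have e : (pullback.snd iX f).appTop =
      pushout.inr (iX.appLE ⊤ ⊤ hUSX) (f.appLE ⊤ ⊤ hUST) ≫ pushoutSection H hUST hUSX hUY := by
    rw [pushout.inr_desc, appLE_top_eq]
  rw [e]
  infer_instance

end kunneth

section field

variable {k : Type u} [Field k]

/-- `G` is anti-affine -/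
def AA (G : Over (Spec (CommRingCat.of k))) : Prop := IsIso G.hom.appTop

theorem aa_iff (G : Over (Spec (CommRingCat.of k))) :
    Function.Bijective ((Scheme.ΓSpecIso (CommRingCat.of k)).inv ≫ G.hom.appTop).hom ↔ AA G := by
  unfold AA
  rw [← isIso_comp_left_iff (Scheme.ΓSpecIso (CommRingCat.of k)).inv G.hom.appTop]
  exact (ConcreteCategory.isIso_iff_bijective _).symm

theorem flat_appTop (G : Over (Spec (CommRingCat.of k))) : G.hom.appTop.hom.Flat := by
  have h1 : ((Scheme.ΓSpecIso (CommRingCat.of k)).inv ≫ G.hom.appTop).hom.Flat := by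
    letI : Algebra k Γ(G.left, ⊤) :=
      ((Scheme.ΓSpecIso (CommRingCat.of k)).inv ≫ G.hom.appTop).hom.toAlgebra
    show Module.Flat k Γ(G.left, ⊤)
    infer_instance
  exact (RingHom.Flat.respectsIso.cancel_left_isIso (Scheme.ΓSpecIso (CommRingCat.of k)).inv
    G.hom.appTop).mp h1

theorem qcqs (G : Over (Spec (CommRingCat.of k))) [LocallyOfFiniteType G.hom] [QuasiCompact G.hom] :
    CompactSpace G.left ∧ QuasiSeparatedSpace G.left := by
  haveI : IsNoetherianRing (CommRingCat.of k) := inferInstanceAs (IsNoetherianRing k)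
  haveI : IsLocallyNoetherian G.left := LocallyOfFiniteType.isLocallyNoetherian G.hom
  exact ⟨QuasiCompact.compactSpace_of_compactSpace G.hom, inferInstance⟩

/-- Künneth for an anti-affine first factor -/
theorem snd_isIso (X T : Over (Spec (CommRingCat.of k))) [LocallyOfFiniteType X.hom]
    [QuasiCompact X.hom] [LocallyOfFiniteType T.hom] [QuasiCompact T.hom] (hX : AA X) :
    IsIso (snd X T).left.appTop := by
  obtain ⟨h1, h2⟩ := qcqs X
  obtain ⟨h3, h4⟩ := qcqs T
  haveI := h1; haveI := h2; haveI := h3; haveI := h4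
  haveI : IsIso X.hom.appTop := hX
  exact snd_appTop_isIso X.hom T.hom (flat_appTop X)

theorem aa_tensor (X T : Over (Spec (CommRingCat.of k))) [LocallyOfFiniteType X.hom]
    [QuasiCompact X.hom] [LocallyOfFiniteType T.hom] [QuasiCompact T.hom] (hX : AA X) (hT : AA T) :
    AA (X ⊗ T) := by
  haveI := snd_isIso X T hX
  haveI : IsIso T.hom.appTop := hT
  have e : (X ⊗ T).hom = (snd X T).left ≫ T.hom := (Over.w (snd X T)).symm
  unfold AA
  rw [e, Scheme.Hom.comp_appTop]
  infer_instance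

/-- a factor of an anti-affine product with a pointed other factor is anti-affine -/
theorem aa_of_retract {X Y : Over (Spec (CommRingCat.of k))} (p : Y ⟶ X) (σ : X ⟶ Y)
    (hσ : σ ≫ p = 𝟙 X) (hY : AA Y) : AA X := by
  unfold AA at hY ⊢
  have e1 : p.left.appTop ≫ σ.left.appTop = 𝟙 _ := by
    rw [← Scheme.Hom.comp_appTop, ← Over.comp_left, hσ]
    simp
  haveI : Mono p.left.appTop := (SplitMono.mk _ e1).mono
  have e2 : X.hom.appTop ≫ p.left.appTop = Y.hom.appTop := by
    rw [← Scheme.Hom.comp_appTop, Over.w p]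
  haveI : IsIso (X.hom.appTop ≫ p.left.appTop) := by rw [e2]; exact hY
  exact isIso_of_comp_iso_of_mono X.hom.appTop p.left.appTop

theorem prod_iff (G₁ G₂ : Over (Spec (CommRingCat.of k))) [GrpObj G₁] [GrpObj G₂]
    [LocallyOfFiniteType G₁.hom] [QuasiCompact G₁.hom] [LocallyOfFiniteType G₂.hom]
    [QuasiCompact G₂.hom] : AA (G₁ ⊗ G₂) ↔ AA G₁ ∧ AA G₂ := by
  constructor
  · intro h
    exact ⟨aa_of_retract (fst G₁ G₂) (lift (𝟙 G₁) (toUnit G₁ ≫ η[G₂])) (lift_fst _ _) h,
      aa_of_retract (snd G₁ G₂) (lift (toUnit G₂ ≫ η[G₁]) (𝟙 G₂)) (lift_snd _ _) h⟩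
  · rintro ⟨h1, h2⟩
    exact aa_tensor G₁ G₂ h1 h2

section ext

variable {N G Q : Over (Spec (CommRingCat.of k))} [GrpObj N] [GrpObj G] [GrpObj Q]
  [LocallyOfFiniteType N.hom] [QuasiCompact N.hom] [LocallyOfFiniteType G.hom] [QuasiCompact G.hom]
  [LocallyOfFiniteType Q.hom]
  (i : N ⟶ G) [IsMonHom i] (q : G ⟶ Q) [IsMonHom q] [Flat q.left] [Surjective q.left]
  (hker : AlgGrp.IsKernel i q)

include hker in
theorem core : Function.Injective (q.left.appTop) ∧
    Set.range (q.left.appTop) =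
      {f : Γ(G.left, ⊤) | ((i ▷ G) ≫ μ[G]).left.appTop f = (snd N G).left.appTop f} := by
  haveI : IsNoetherianRing (CommRingCat.of k) := inferInstanceAs (IsNoetherianRing k)
  haveI : IsLocallyNoetherian Q.left := LocallyOfFiniteType.isLocallyNoetherian Q.hom
  haveI : QuasiSeparated Q.hom := QuasiSeparated.of_quasiSeparatedSpace Q.hom
  haveI : QuasiCompact q.left := qc_left q
  exact Groth.Agent.Lib.PBInvFun.global_core q.left ((i ▷ G) ≫ μ[G]).left (snd N G).left
    ((cart_q i q hker).map (Over.forget _))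

include hker in
theorem aa_quot (hG : AA G) : AA Q := by
  obtain ⟨hinj, -⟩ := core i q hker
  haveI : Mono q.left.appTop := ConcreteCategory.mono_of_injective _ hinj
  unfold AA at hG ⊢
  have e2 : Q.hom.appTop ≫ q.left.appTop = G.hom.appTop := by
    rw [← Scheme.Hom.comp_appTop, Over.w q]
  haveI : IsIso (Q.hom.appTop ≫ q.left.appTop) := by rw [e2]; exact hG
  exact isIso_of_comp_iso_of_mono Q.hom.appTop q.left.appTop

include hker in
theorem aa_ext (hN : AA N) (hQ : AA Q) : AA G := by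
  obtain ⟨hinj, hrange⟩ := core i q hker
  haveI := snd_isIso N G hN
  -- the common section `g ↦ (e, g)`
  have hσ1 : lift (toUnit G ≫ η[N]) (𝟙 G) ≫ (i ▷ G) ≫ μ[G] = 𝟙 G := by
    rw [act_pt, Category.assoc, IsMonHom.one_hom, ← Hom.one_def, _root_.one_mul]
  have hσ2 : lift (toUnit G ≫ η[N]) (𝟙 G) ≫ snd N G = 𝟙 G := lift_snd _ _
  have e1 : ((i ▷ G) ≫ μ[G]).left.appTop ≫ (lift (toUnit G ≫ η[N]) (𝟙 G)).left.appTop = 𝟙 _ := by
    rw [← Scheme.Hom.comp_appTop, ← Over.comp_left, hσ1]
    simp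
  have e2 : (snd N G).left.appTop ≫ (lift (toUnit G ≫ η[N]) (𝟙 G)).left.appTop = 𝟙 _ := by
    rw [← Scheme.Hom.comp_appTop, ← Over.comp_left, hσ2]
    simp
  have huv : ((i ▷ G) ≫ μ[G]).left.appTop = (snd N G).left.appTop :=
    eq_of_common_section _ _ _ e1 e2
  have hsurj : Function.Surjective (q.left.appTop) := by
    intro f
    have : f ∈ Set.range (q.left.appTop) := by
      rw [hrange]
      show ((i ▷ G) ≫ μ[G]).left.appTop f = (snd N G).left.appTop f
      rw [huv]
    exact this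
  haveI : IsIso q.left.appTop := (ConcreteCategory.isIso_iff_bijective _).mpr ⟨hinj, hsurj⟩
  haveI : IsIso Q.hom.appTop := hQ
  unfold AA
  have e : G.hom = q.left ≫ Q.hom := (Over.w q).symm
  rw [e, Scheme.Hom.comp_appTop]
  infer_instance

end ext

end field

end Groth.Agent.Lib.AntiAffine
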