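import Mathlib
import Groth.Prelude
import Groth.Agent.Lib.MVPush6_lead
import Groth.Agent.Lib.StalkSky4_lead
import Groth.Agent.Lib.PerfFlat2_lead
import Groth.Agent.Lib.BCOpen2_lead
import Groth.Agent.Lib.DerAdjPlus_helper9
import Groth.Agent.Lib.FlatBC1_helper6

/-!
# Approximation by perfect complexes extends from an open containing the support (lead; S7265)

* `adjShriek U : j_! ⊣ j^*` on derived categories, with invertible unit (`isIso_unit_adjShriek`);
* `main7265`.

APPEND-ONLY once landed.
-/

set_option autoImplicit false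
set_option linter.all false
set_option maxHeartbeats 1600000
set_option backward.isDefEq.respectTransparency false
set_option backward.isDefEq.respectTransparency.types false
set_option backward.defeqAttrib.useBackward true

universe u
open CategoryTheory CategoryTheory.Limits AlgebraicGeometry Opposite TopologicalSpace
open DerivedCategory CategoryTheory.Pretriangulated
attribute [local instance] HasDerivedCategory.standard

namespace Groth.Agent.Lib.ApproxOpenL

open Groth.Agent.Lib Groth.Agent.Lib.DCohLocLead Groth.Agent.Lib.StalkSkyL Groth.Agent.Lib.MVPushL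

noncomputable section

variable {X : Scheme.{u}} (U : X.Opens)

/-- the square for `j_!` -/
@[reducible] def csqShriek : CatCommSq
    ((CxOX.extZero U.ι).mapHomologicalComplex (ComplexShape.up ℤ))
    (DerivedCategory.Q (C := (U : Scheme.{u}).Modules)) (DerivedCategory.Q (C := X.Modules))
    (CxOX.extZeroD U.ι) :=
  ⟨(CxOX.extZero U.ι).mapDerivedCategoryFactors.symm⟩

/-- the square for `j^*` -/
@[reducible] def csqRestr : CatCommSq
    ((Scheme.Modules.restrictFunctor U.ι).mapHomologicalComplex (ComplexShape.up ℤ))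
    (DerivedCategory.Q (C := X.Modules)) (DerivedCategory.Q (C := (U : Scheme.{u}).Modules))
    (DD U.ι) :=
  ⟨(Scheme.Modules.restrictFunctor U.ι).mapDerivedCategoryFactors.symm⟩

attribute [local instance] csqShriek csqRestr

/-- the derived adjunction `j_! ⊣ j^*` -/
def adjShriek : CxOX.extZeroD U.ι ⊣ DD U.ι :=
  (DerAdjPlus.adjHC (CxOX.extZeroAdj U.ι) (ComplexShape.up ℤ)).localization
    (DerivedCategory.Q (C := (U : Scheme.{u}).Modules))
    (HomologicalComplex.quasiIso (U : Scheme.{u}).Modules (ComplexShape.up ℤ))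
    (DerivedCategory.Q (C := X.Modules))
    (HomologicalComplex.quasiIso X.Modules (ComplexShape.up ℤ))
    (CxOX.extZeroD U.ι) (DD U.ι)

theorem isIso_unit_adjShriek_Q (K : CochainComplex (U : Scheme.{u}).Modules ℤ) :
    IsIso ((adjShriek U).unit.app (DerivedCategory.Q.obj K)) := by
  have hu := Adjunction.localization_unit_app
    (DerAdjPlus.adjHC (CxOX.extZeroAdj U.ι) (ComplexShape.up ℤ))
    (DerivedCategory.Q (C := (U : Scheme.{u}).Modules))
    (HomologicalComplex.quasiIso (U : Scheme.{u}).Modules (ComplexShape.up ℤ))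
    (DerivedCategory.Q (C := X.Modules))
    (HomologicalComplex.quasiIso X.Modules (ComplexShape.up ℤ))
    (CxOX.extZeroD U.ι) (DD U.ι) K
  haveI : ∀ n, IsIso (((DerAdjPlus.adjHC (CxOX.extZeroAdj U.ι) (ComplexShape.up ℤ)).unit.app
      K).f n) := by
    intro n
    show IsIso ((CxOX.extZeroAdj U.ι).unit.app (K.X n))
    infer_instance
  haveI : IsIso ((DerAdjPlus.adjHC (CxOX.extZeroAdj U.ι) (ComplexShape.up ℤ)).unit.app K) :=
    HomologicalComplex.Hom.isIso_of_components _
  show IsIso (((DerAdjPlus.adjHC (CxOX.extZeroAdj U.ι) (ComplexShape.up ℤ)).localization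
    (DerivedCategory.Q (C := (U : Scheme.{u}).Modules))
    (HomologicalComplex.quasiIso (U : Scheme.{u}).Modules (ComplexShape.up ℤ))
    (DerivedCategory.Q (C := X.Modules))
    (HomologicalComplex.quasiIso X.Modules (ComplexShape.up ℤ))
    (CxOX.extZeroD U.ι) (DD U.ι)).unit.app (DerivedCategory.Q.obj K))
  rw [hu]
  infer_instance

theorem isIso_unit_adjShriek (P : DCoh.D (U : Scheme.{u})) :
    IsIso ((adjShriek U).unit.app P) := by
  let e : DerivedCategory.Q.obj (DerivedCategory.Q.objPreimage P) ≅ P :=
    DerivedCategory.Q.objObjPreimageIso P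
  haveI := isIso_unit_adjShriek_Q U (DerivedCategory.Q.objPreimage P)
  have hnat := (adjShriek U).unit.naturality e.hom
  have h : (adjShriek U).unit.app P = e.inv ≫
      ((adjShriek U).unit.app (DerivedCategory.Q.obj (DerivedCategory.Q.objPreimage P)) ≫
        (CxOX.extZeroD U.ι ⋙ DD U.ι).map e.hom) := by
    rw [← hnat]
    simp
  rw [h]
  infer_instance

/-- stalks of a morphism whose source and target have trivial stalks -/
theorem isIso_stalk_of_subsingleton {M N : X.Modules} (g : M ⟶ N) (x : X)
    (hM : Subsingleton (M.presheaf.stalk x)) (hN : Subsingleton (N.presheaf.stalk x)) :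
    IsIso ((DerSch.stalkFunctor X x).map g) := by
  rw [ConcreteCategory.isIso_iff_bijective]
  constructor
  · intro a b _
    exact hM.elim a b
  · intro b
    exact ⟨0, hN.elim _ _⟩

theorem isIso_stalk_of_restrict {M N : X.Modules} (g : M ⟶ N) (y : (U : Scheme.{u}))
    (h : IsIso ((Scheme.Modules.restrictFunctor U.ι).map g)) :
    IsIso ((DerSch.stalkFunctor X (U.ι.base y)).map g) := by
  rw [ConcreteCategory.isIso_iff_bijective]
  refine (stalk_bijective_iff U.ι y g).1 ?_
  haveI : IsIso ((DerSch.stalkFunctor (U : Scheme.{u}) y).map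
      ((Scheme.Modules.restrictFunctor U.ι).map g)) := Functor.map_isIso _ _
  exact ConcreteCategory.bijective_of_isIso _

theorem epi_stalk_of_restrict {M N : X.Modules} (g : M ⟶ N) (y : (U : Scheme.{u}))
    (h : Epi ((Scheme.Modules.restrictFunctor U.ι).map g)) :
    Epi ((DerSch.stalkFunctor X (U.ι.base y)).map g) := by
  haveI : Epi ((DerSch.stalkFunctor (U : Scheme.{u}) y).map
      ((Scheme.Modules.restrictFunctor U.ι).map g)) := inferInstance
  have hs : Function.Surjective ((DerSch.stalkFunctor (U : Scheme.{u}) y).map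
      ((Scheme.Modules.restrictFunctor U.ι).map g)) :=
    (ModuleCat.epi_iff_surjective _).1 inferInstance
  rw [ModuleCat.epi_iff_surjective]
  intro b
  obtain ⟨b', rfl⟩ := (RestrStalkH8.restrictStalkEquiv U.ι N y).surjective b
  obtain ⟨a, rfl⟩ := hs b'
  exact ⟨RestrStalkH8.restrictStalkEquiv U.ι M y a, (restrStalk_natural U.ι y g a).symm⟩

/-- **S7265** -/
theorem main7265 (T : Set ↥X) (hT : IsClosed T) (hTU : T ⊆ (U : Set ↥X)) (E : DCoh.D X)
    (hE : DCoh.IsQCohD E) (m : ℤ)
    (happ : ∃ (P : DCoh.D (U : Scheme.{u})) (α : P ⟶ (DCoh.restrictD U.ι).obj E),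
      DCoh.IsPerfect P ∧
      (∀ i : ℤ, CohB1.support (DCoh.HD P i) ⊆ {v : ↥(U : Scheme.{u}) | U.ι.base v ∈ T}) ∧
      (∀ i : ℤ, m < i → IsIso ((DerivedCategory.homologyFunctor _ i).map α)) ∧
      Epi ((DerivedCategory.homologyFunctor _ m).map α))
    (hsupp : ∀ i : ℤ, m ≤ i → CohB1.support (DCoh.HD E i) ⊆ T) :
    ∃ (P : DCoh.D X) (α : P ⟶ E), DCoh.IsPerfect P ∧
      (∀ i : ℤ, CohB1.support (DCoh.HD P i) ⊆ T) ∧
      (∀ i : ℤ, m < i → IsIso ((DerivedCategory.homologyFunctor X.Modules i).map α)) ∧
      Epi ((DerivedCategory.homologyFunctor X.Modules m).map α) := by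
  obtain ⟨P, α, hP, hPs, hiso, hepi⟩ := happ
  haveI := BCOpenL.hasRpush U.ι
  have hF : ∀ i : ℤ, (fun x : (U : Scheme.{u}) => U.ι.base x) '' CohB1.support (DCoh.HD P i) ⊆
      T := by
    rintro i _ ⟨y, hy, rfl⟩
    exact hPs i hy
  have himg : (fun x : (U : Scheme.{u}) => U.ι.base x) ''
      {v : ↥(U : Scheme.{u}) | U.ι.base v ∈ T} = T := by
    ext x
    constructor
    · rintro ⟨y, hy, rfl⟩
      exact hy
    · intro hx
      exact ⟨⟨x, hTU hx⟩, hx, rfl⟩
  -- perfectness
  have hperf : DCoh.IsPerfect ((CxOX.extZeroD U.ι).obj P) := by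
    obtain ⟨e⟩ := part2 U T hT hTU P hF
    have h1 : DCoh.IsPerfect ((DCoh.Rpush U.ι).obj P) :=
      main6519 U P hP {v : ↥(U : Scheme.{u}) | U.ι.base v ∈ T}
        (hT.preimage U.ι.continuous) (by rw [himg]; exact hT) hPs
    exact isPerfect_of_iso e.symm h1
  -- supports
  have hsuppP : ∀ i : ℤ, CohB1.support (DCoh.HD ((CxOX.extZeroD U.ι).obj P) i) ⊆ T := by
    intro i
    obtain ⟨e⟩ := nonempty_HD_extZeroD_iso U P i
    rw [support_eq_of_iso e]
    exact (support_extZero_subset U _).trans (hF i)
  -- the map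
  obtain ⟨αX, hαX⟩ : ∃ αX : (CxOX.extZeroD U.ι).obj P ⟶ E,
      (adjShriek U).unit.app P ≫ (DD U.ι).map αX = α :=
    ⟨((adjShriek U).homEquiv P E).symm α, by
      have h := (adjShriek U).homEquiv_unit (X := P) (Y := E)
        (f := ((adjShriek U).homEquiv P E).symm α)
      rw [Equiv.apply_symm_apply] at h
      exact h.symm⟩
  haveI := isIso_unit_adjShriek U P
  -- cohomology of the restriction of the map
  have hres : ∀ i : ℤ, (Scheme.Modules.restrictFunctor U.ι).map
      ((DerivedCategory.homologyFunctor X.Modules i).map αX) =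
      (FlatBCH6.exactHomologyIso (Scheme.Modules.restrictFunctor U.ι) i).inv.app _ ≫
        (DerivedCategory.homologyFunctor (U : Scheme.{u}).Modules i).map ((DD U.ι).map αX) ≫
        (FlatBCH6.exactHomologyIso (Scheme.Modules.restrictFunctor U.ι) i).hom.app _ := by
    intro i
    have hn := (FlatBCH6.exactHomologyIso (Scheme.Modules.restrictFunctor U.ι) i).hom.naturality αX
    have hn' : (DerivedCategory.homologyFunctor (U : Scheme.{u}).Modules i).map
        ((DD U.ι).map αX) ≫
        (FlatBCH6.exactHomologyIso (Scheme.Modules.restrictFunctor U.ι) i).hom.app E =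
        (FlatBCH6.exactHomologyIso (Scheme.Modules.restrictFunctor U.ι) i).hom.app _ ≫
        (Scheme.Modules.restrictFunctor U.ι).map
          ((DerivedCategory.homologyFunctor X.Modules i).map αX) := hn
    rw [hn', Iso.inv_hom_id_app_assoc]
  have hcoh : ∀ i : ℤ, (DerivedCategory.homologyFunctor (U : Scheme.{u}).Modules i).map α =
      (DerivedCategory.homologyFunctor (U : Scheme.{u}).Modules i).map
        ((adjShriek U).unit.app P) ≫
      (DerivedCategory.homologyFunctor (U : Scheme.{u}).Modules i).map ((DD U.ι).map αX) := by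
    intro i
    rw [← CategoryTheory.Functor.map_comp, hαX]
  -- stalks outside `U`
  have hout : ∀ (i : ℤ) (x : X), m ≤ i → x ∉ U →
      IsIso ((DerSch.stalkFunctor X x).map
        ((DerivedCategory.homologyFunctor X.Modules i).map αX)) := by
    intro i x hi hx
    have hxT : x ∉ T := fun h => hx (hTU h)
    apply isIso_stalk_of_subsingleton
    · exact not_not.mp (fun h => hxT (hsuppP i h))
    · exact not_not.mp (fun h => hxT (hsupp i hi h))
  refine ⟨(CxOX.extZeroD U.ι).obj P, αX, hperf, hsuppP, ?_, ?_⟩
  · intro i hi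
    haveI := hiso i hi
    haveI h1 : IsIso ((DerivedCategory.homologyFunctor (U : Scheme.{u}).Modules i).map
        ((DD U.ι).map αX)) := by
      have h2 := hcoh i
      have h3 : (DerivedCategory.homologyFunctor (U : Scheme.{u}).Modules i).map
          ((DD U.ι).map αX) =
          inv ((DerivedCategory.homologyFunctor (U : Scheme.{u}).Modules i).map
            ((adjShriek U).unit.app P)) ≫
          (DerivedCategory.homologyFunctor (U : Scheme.{u}).Modules i).map α := by
        rw [IsIso.eq_inv_comp]
        exact h2.symm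
      rw [h3]
      infer_instance
    haveI h4 : IsIso ((Scheme.Modules.restrictFunctor U.ι).map
        ((DerivedCategory.homologyFunctor X.Modules i).map αX)) := by
      rw [hres i]
      infer_instance
    apply isIso_of_forall_stalk_isIso
    intro x
    by_cases hx : x ∈ U
    · exact isIso_stalk_of_restrict U _ ⟨x, hx⟩ h4
    · exact hout i x hi.le hx
  · haveI := hepi
    haveI h1 : Epi ((DerivedCategory.homologyFunctor (U : Scheme.{u}).Modules m).map
        ((DD U.ι).map αX)) := by
      haveI : Epi ((DerivedCategory.homologyFunctor (U : Scheme.{u}).Modules m).map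
          ((adjShriek U).unit.app P) ≫
          (DerivedCategory.homologyFunctor (U : Scheme.{u}).Modules m).map
            ((DD U.ι).map αX)) := by
        rw [← hcoh m]
        infer_instance
      exact epi_of_epi ((DerivedCategory.homologyFunctor (U : Scheme.{u}).Modules m).map
        ((adjShriek U).unit.app P)) _
    haveI h4 : Epi ((Scheme.Modules.restrictFunctor U.ι).map
        ((DerivedCategory.homologyFunctor X.Modules m).map αX)) := by
      rw [hres m]
      infer_instance
    apply epi_of_forall_stalk_epi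
    intro x
    by_cases hx : x ∈ U
    · exact epi_stalk_of_restrict U _ ⟨x, hx⟩ h4
    · haveI := hout m x le_rfl hx
      infer_instance

end

end Groth.Agent.Lib.ApproxOpenL
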