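import Mathlib

/-!
# Gaussian elimination for cochain complexes (lead)

If `e : X ⟶ K.X j` and `e ≫ K.d j (j+1)` are monomorphisms then `K` is quasi-isomorphic to the
quotient of `K` by the contractible subcomplex `X = X` in degrees `j, j+1`.
-/

set_option autoImplicit false
set_option linter.all false
set_option maxHeartbeats 1600000
set_option backward.isDefEq.respectTransparency false
set_option backward.isDefEq.respectTransparency.types false
set_option backward.defeqAttrib.useBackward true

universe w v u
open CategoryTheory CategoryTheory.Limits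
open CategoryTheory.Pretriangulated
open ZeroObject

namespace Groth.Agent.Lib.GaussElimL

noncomputable section

variable {C : Type u} [Category.{v} C] [Abelian C]

theorem hrel (j : ℤ) : (ComplexShape.up ℤ).Rel j (j + 1) := rfl

/-- the disk complex `X = X` in degrees `j`, `j + 1` -/
abbrev disk (X : C) (j : ℤ) : CochainComplex C ℤ :=
  HomologicalComplex.double (𝟙 X) (show (ComplexShape.up ℤ).Rel j (j + 1) from rfl)

theorem disk_d_isIso (X : C) (j : ℤ) : IsIso ((disk X j).d j (j + 1)) := by
  rw [HomologicalComplex.double_d (𝟙 X) (hrel j) (by omega : j ≠ j + 1)]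
  infer_instance

theorem disk_exactAt (X : C) (j k : ℤ) : (disk X j).ExactAt k := by
  haveI := disk_d_isIso X j
  by_cases h0 : k = j
  · subst h0
    rw [HomologicalComplex.exactAt_iff' (disk X k) (k - 1) k (k + 1) (by simp) (by simp)]
    rw [ShortComplex.exact_iff_mono _
      (HomologicalComplex.double_d_eq_zero₀ (𝟙 X) (hrel k) (k - 1) k (by omega))]
    show Mono ((disk X k).d k (k + 1))
    infer_instance
  · by_cases h1 : k = j + 1
    · subst h1
      rw [HomologicalComplex.exactAt_iff' (disk X j) j (j + 1) (j + 1 + 1) (by simp) (by simp)]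
      rw [ShortComplex.exact_iff_epi _
        (HomologicalComplex.double_d_eq_zero₀ (𝟙 X) (hrel j) (j + 1) (j + 1 + 1) (by omega))]
      show Epi ((disk X j).d j (j + 1))
      infer_instance
    · rw [HomologicalComplex.exactAt_iff' (disk X j) (k - 1) k (k + 1) (by simp) (by simp)]
      exact ShortComplex.exact_of_isZero_X₂ _
        (HomologicalComplex.isZero_double_X (𝟙 X)
          (show (ComplexShape.up ℤ).Rel j (j + 1) from rfl) k h0 h1)

variable [HasDerivedCategory.{w} C]

theorem isZero_Q_disk (X : C) (j : ℤ) : IsZero (DerivedCategory.Q.obj (disk X j)) := by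
  have h : ∀ n : ℤ, IsZero ((DerivedCategory.homologyFunctor C n).obj
      (DerivedCategory.Q.obj (disk X j))) := by
    intro n
    refine IsZero.of_iso ?_ ((DerivedCategory.homologyFunctorFactors C n).app (disk X j))
    exact (HomologicalComplex.exactAt_iff_isZero_homology _ _).1 (disk_exactAt X j n)
  haveI : IsIso (0 : DerivedCategory.Q.obj (disk X j) ⟶ 0) := by
    rw [DerivedCategory.isIso_iff]
    intro n
    exact isIso_of_source_target_iso_zero _ (h n).isoZero
      (((DerivedCategory.homologyFunctor C n).map_isZero (isZero_zero _)).isoZero)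
  exact IsZero.of_iso (isZero_zero _) (asIso (0 : DerivedCategory.Q.obj (disk X j) ⟶ 0))

section Step

variable (K : CochainComplex C ℤ) (j : ℤ) {X : C} (e : X ⟶ K.X j)

/-- the chain map from the disk -/
def diskMap : disk X j ⟶ K :=
  HomologicalComplex.mkHomFromDouble (show (ComplexShape.up ℤ).Rel j (j + 1) from rfl)
    (by omega : j ≠ j + 1) e (e ≫ K.d j (j + 1)) (by simp) (fun k _ => by simp)

theorem diskMap_f₀ : (diskMap K j e).f j =
    (HomologicalComplex.doubleXIso₀ (𝟙 X)
      (show (ComplexShape.up ℤ).Rel j (j + 1) from rfl)).hom ≫ e :=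
  HomologicalComplex.mkHomFromDouble_f₀ _ _ _ _ _ _

theorem diskMap_f₁ : (diskMap K j e).f (j + 1) =
    (HomologicalComplex.doubleXIso₁ (𝟙 X)
      (show (ComplexShape.up ℤ).Rel j (j + 1) from rfl) (by omega : j ≠ j + 1)).hom ≫
      (e ≫ K.d j (j + 1)) :=
  HomologicalComplex.mkHomFromDouble_f₁ _ _ _ _ _ _

theorem mono_diskMap [Mono e] [Mono (e ≫ K.d j (j + 1))] : Mono (diskMap K j e) := by
  apply HomologicalComplex.mono_of_mono_f
  intro k
  by_cases h0 : k = j
  · subst h0
    rw [diskMap_f₀]
    infer_instance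
  · by_cases h1 : k = j + 1
    · subst h1
      rw [diskMap_f₁]
      infer_instance
    · exact (HomologicalComplex.isZero_double_X (𝟙 X) _ k h0 h1).mono _

theorem isIso_Q_cokernel_π [Mono e] [Mono (e ≫ K.d j (j + 1))] :
    IsIso (DerivedCategory.Q.map (cokernel.π (diskMap K j e))) := by
  haveI := mono_diskMap K j e
  have hS : (ShortComplex.mk (diskMap K j e) (cokernel.π (diskMap K j e))
      (cokernel.condition _)).ShortExact :=
    ShortComplex.ShortExact.mk' (ShortComplex.exact_cokernel _) inferInstance inferInstance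
  have hT := DerivedCategory.triangleOfSES_distinguished hS
  exact (Triangle.isZero₁_iff_isIso₂ _ hT).1 (isZero_Q_disk X j)

/-- terms of the quotient complex -/
def cokerXIso (k : ℤ) : (cokernel (diskMap K j e)).X k ≅ cokernel ((diskMap K j e).f k) :=
  PreservesCokernel.iso (HomologicalComplex.eval C (ComplexShape.up ℤ) k) (diskMap K j e)

/-- **Gaussian elimination** -/
theorem gauss_step [Mono e] [Mono (e ≫ K.d j (j + 1))] :
    ∃ K' : CochainComplex C ℤ,
      Nonempty (DerivedCategory.Q.obj K ≅ DerivedCategory.Q.obj K') ∧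
      Nonempty (K'.X j ≅ cokernel e) ∧
      Nonempty (K'.X (j + 1) ≅ cokernel (e ≫ K.d j (j + 1))) ∧
      ∀ k, k ≠ j → k ≠ j + 1 → Nonempty (K'.X k ≅ K.X k) := by
  haveI := isIso_Q_cokernel_π K j e
  refine ⟨cokernel (diskMap K j e),
    ⟨asIso (DerivedCategory.Q.map (cokernel.π (diskMap K j e)))⟩, ⟨?_⟩, ⟨?_⟩,
    fun k h0 h1 => ⟨?_⟩⟩
  · exact cokerXIso K j e j ≪≫ cokernelIsoOfEq (diskMap_f₀ K j e) ≪≫ cokernelEpiComp _ _
  · exact cokerXIso K j e (j + 1) ≪≫ cokernelIsoOfEq (diskMap_f₁ K j e) ≪≫
      cokernelEpiComp _ _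
  · have hz : IsZero ((disk X j).X k) := HomologicalComplex.isZero_double_X (𝟙 X) _ k h0 h1
    have h : (diskMap K j e).f k = 0 := hz.eq_of_src _ _
    exact cokerXIso K j e k ≪≫ cokernelIsoOfEq h ≪≫ cokernelZeroIsoTarget

end Step

section Split

variable {A B : C} (e : A ⟶ B) (ρ : B ⟶ A) (h : e ≫ ρ = 𝟙 A)

include h in
theorem split_aux : e ≫ (𝟙 B - ρ ≫ e) = 0 := by
  rw [Preadditive.comp_sub, Category.comp_id, ← Category.assoc, h, Category.id_comp, sub_self]

/-- the section of `cokernel.π e` attached to a retraction of `e` -/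
def cokerSection : cokernel e ⟶ B := cokernel.desc e (𝟙 B - ρ ≫ e) (split_aux e ρ h)

theorem π_cokerSection : cokernel.π e ≫ cokerSection e ρ h = 𝟙 B - ρ ≫ e :=
  cokernel.π_desc _ _ _

theorem cokerSection_π : cokerSection e ρ h ≫ cokernel.π e = 𝟙 _ := by
  rw [← cancel_epi (cokernel.π e), ← Category.assoc, π_cokerSection, Preadditive.sub_comp,
    Category.id_comp, Category.assoc, cokernel.condition, comp_zero, sub_zero, Category.comp_id]

theorem cokerSection_ρ : cokerSection e ρ h ≫ ρ = 0 := by
  rw [← cancel_epi (cokernel.π e), ← Category.assoc, π_cokerSection, Preadditive.sub_comp,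
    Category.id_comp, Category.assoc, h, Category.comp_id, sub_self, comp_zero]

theorem ρ_e_add : ρ ≫ e + cokernel.π e ≫ cokerSection e ρ h = 𝟙 B := by
  rw [π_cokerSection]
  abel

/-- a split monomorphism decomposes its target -/
def splitIso : B ≅ A ⊞ cokernel e where
  hom := biprod.lift ρ (cokernel.π e)
  inv := biprod.desc e (cokerSection e ρ h)
  hom_inv_id := by
    rw [biprod.lift_desc]
    exact ρ_e_add e ρ h
  inv_hom_id := by
    apply biprod.hom_ext' <;> apply biprod.hom_ext <;>
      simp [h, cokerSection_π e ρ h, cokerSection_ρ e ρ h]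

end Split

section Misc

/-- homology of a complex with vanishing differentials -/
def homologyIsoOfZero (K : CochainComplex C ℤ) (h : ∀ i j, K.d i j = 0) (k : ℤ) :
    K.homology k ≅ K.X k :=
  (ShortComplex.HomologyData.ofZeros (K.sc k) (h _ _) (h _ _)).left.homologyIso

/-- a complex concentrated in one degree -/
theorem nonempty_Q_iso_single (K : CochainComplex C ℤ) (i : ℤ)
    (hK : ∀ k, k ≠ i → IsZero (K.X k)) :
    Nonempty (DerivedCategory.Q.obj K ≅ (DerivedCategory.singleFunctor C i).obj (K.X i)) := by
  let φ : (HomologicalComplex.single C (ComplexShape.up ℤ) i).obj (K.X i) ⟶ K :=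
    HomologicalComplex.mkHomFromSingle (𝟙 (K.X i))
      (fun k hk => (hK k (by have : i + 1 = k := hk; omega)).eq_of_tgt _ _)
  haveI : ∀ k, IsIso (φ.f k) := by
    intro k
    by_cases hk : k = i
    · subst hk
      have : φ.f k = (HomologicalComplex.singleObjXSelf (ComplexShape.up ℤ) k (K.X k)).hom ≫
          𝟙 (K.X k) := HomologicalComplex.mkHomFromSingle_f _ _
      rw [this]
      infer_instance
    · exact isIso_of_source_target_iso_zero _
        (HomologicalComplex.isZero_single_obj_X (ComplexShape.up ℤ) i (K.X i) k hk).isoZero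
        (hK k hk).isoZero
  haveI : IsIso φ := HomologicalComplex.Hom.isIso_of_components φ
  exact ⟨(asIso (DerivedCategory.Q.map φ)).symm ≪≫
    ((DerivedCategory.singleFunctorIsoCompQ C i).app (K.X i)).symm⟩

theorem isZero_homology_single (A : C) (i k : ℤ) (hk : k ≠ i) :
    IsZero ((DerivedCategory.homologyFunctor C k).obj
      ((DerivedCategory.singleFunctor C i).obj A)) := by
  have e1 := (DerivedCategory.homologyFunctor C k).mapIso
    ((DerivedCategory.singleFunctorIsoCompQ C i).app A)
  have e2 := (DerivedCategory.homologyFunctorFactors C k).app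
    ((CochainComplex.singleFunctor C i).obj A)
  refine IsZero.of_iso ?_ (e1 ≪≫ e2)
  exact (HomologicalComplex.ExactAt.of_isZero
    (HomologicalComplex.isZero_single_obj_X (ComplexShape.up ℤ) i A k hk)).isZero_homology

/-- `Hⁱ(A[-i]) ≅ A` -/
def homologySingleIso (A : C) (i : ℤ) :
    (DerivedCategory.homologyFunctor C i).obj ((DerivedCategory.singleFunctor C i).obj A) ≅ A :=
  (DerivedCategory.homologyFunctor C i).mapIso
      ((DerivedCategory.singleFunctorIsoCompQ C i).app A) ≪≫
    (DerivedCategory.homologyFunctorFactors C i).app _ ≪≫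
    HomologicalComplex.singleObjHomologySelfIso (ComplexShape.up ℤ) i A

end Misc

end

end Groth.Agent.Lib.GaussElimL
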