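import Mathlib

/-!
# Euler–Poincaré for bounded complexes of finite-dimensional vector spaces (lead)
-/

set_option autoImplicit false
set_option linter.all false
set_option maxHeartbeats 1600000

universe u
open CategoryTheory CategoryTheory.Limits

namespace Groth.Agent.Lib.EulerPoinL

variable {k : Type u} [Field k]

theorem finrank_homology_add (S : ShortComplex (ModuleCat.{u} k)) [Module.Finite k S.X₂] :
    Module.finrank k S.homology + Module.finrank k (LinearMap.range S.f.hom) =
      Module.finrank k (LinearMap.ker S.g.hom) := by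
  have e1 : Module.finrank k S.homology =
      Module.finrank k (LinearMap.ker S.g.hom ⧸ LinearMap.range S.moduleCatToCycles) :=
    (S.moduleCatHomologyIso.toLinearEquiv).finrank_eq
  have hle : LinearMap.range S.f.hom ≤ LinearMap.ker S.g.hom := by
    rintro _ ⟨x, rfl⟩
    exact LinearMap.mem_ker.2 (S.moduleCat_zero_apply x)
  have e2 : Module.finrank k (LinearMap.range S.moduleCatToCycles) =
      Module.finrank k (LinearMap.range S.f.hom) := by
    have h : LinearMap.range S.moduleCatToCycles =
        Submodule.comap (LinearMap.ker S.g.hom).subtype (LinearMap.range S.f.hom) :=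
      LinearMap.range_codRestrict _ _ _
    rw [h]
    exact (Submodule.comapSubtypeEquivOfLe hle).finrank_eq
  rw [e1, ← e2]
  exact Submodule.finrank_quotient_add_finrank _

theorem finrank_X₂ (S : ShortComplex (ModuleCat.{u} k)) [Module.Finite k S.X₂] :
    Module.finrank k S.X₂ = Module.finrank k (LinearMap.ker S.g.hom) +
      Module.finrank k (LinearMap.range S.g.hom) := by
  have := LinearMap.finrank_range_add_finrank_ker S.g.hom
  omega

variable (M : CochainComplex (ModuleCat.{u} k) ℤ)

/-- rank of the differential -/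
noncomputable def rk (p q : ℤ) : ℕ := Module.finrank k (LinearMap.range (M.d p q).hom)

theorem key (hfin : ∀ i, Module.Finite k (M.X i)) (i : ℤ) :
    Module.finrank k (M.X i) =
      Module.finrank k (M.homology i) + rk M (i - 1) i + rk M i (i + 1) := by
  haveI := hfin i
  haveI : Module.Finite k (M.sc' (i - 1) i (i + 1)).X₂ := hfin i
  have e : M.homology i ≅ (M.sc' (i - 1) i (i + 1)).homology :=
    ShortComplex.homologyMapIso (M.isoSc' (i - 1) i (i + 1) (by simp) (by simp))
  have h0 : Module.finrank k (M.homology i) =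
      Module.finrank k (M.sc' (i - 1) i (i + 1)).homology := e.toLinearEquiv.finrank_eq
  have h1 : Module.finrank k (M.sc' (i - 1) i (i + 1)).homology +
      Module.finrank k (LinearMap.range (M.d (i - 1) i).hom) =
      Module.finrank k (LinearMap.ker (M.d i (i + 1)).hom) :=
    finrank_homology_add (M.sc' (i - 1) i (i + 1))
  have h2 : Module.finrank k (M.X i) = Module.finrank k (LinearMap.ker (M.d i (i + 1)).hom) +
      Module.finrank k (LinearMap.range (M.d i (i + 1)).hom) :=
    finrank_X₂ (M.sc' (i - 1) i (i + 1))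
  simp only [rk]
  omega

theorem finite_support_of_bounds (a b : ℤ) (f : ℤ → ℤ)
    (hf : ∀ i, (i < a ∨ b < i) → f i = 0) : (Function.support f).Finite := by
  refine (Set.finite_Icc a b).subset ?_
  intro i hi
  by_contra h
  apply hi
  apply hf
  simp only [Set.mem_Icc, not_and_or, not_le] at h
  exact h

/-- **Euler–Poincaré** -/
theorem eulerPoincare (hfin : ∀ i, Module.Finite k (M.X i)) (a b : ℤ)
    (hv : ∀ i, i < a ∨ b < i → Subsingleton (M.X i)) :
    (∑ᶠ i : ℤ, ((i.negOnePow : ℤˣ) : ℤ) * (Module.finrank k (M.homology i) : ℤ)) =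
      ∑ᶠ i : ℤ, ((i.negOnePow : ℤˣ) : ℤ) * (Module.finrank k (M.X i) : ℤ) := by
  have hx0 : ∀ i, i < a ∨ b < i → Module.finrank k (M.X i) = 0 := by
    intro i hi
    haveI := hv i hi
    exact Module.finrank_zero_of_subsingleton
  let c : ℤ → ℤ := fun i => ((i.negOnePow : ℤˣ) : ℤ) * (rk M (i - 1) i : ℤ)
  have hc1 : ∀ i, c (i + 1) = -(((i.negOnePow : ℤˣ) : ℤ) * (rk M i (i + 1) : ℤ)) := by
    intro i
    show (((i + 1).negOnePow : ℤˣ) : ℤ) * (rk M (i + 1 - 1) (i + 1) : ℤ) = _
    rw [Int.negOnePow_succ, add_sub_cancel_right]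
    simp
  have hpt : ∀ i : ℤ, ((i.negOnePow : ℤˣ) : ℤ) * (Module.finrank k (M.X i) : ℤ) =
      ((i.negOnePow : ℤˣ) : ℤ) * (Module.finrank k (M.homology i) : ℤ) + (c i - c (i + 1)) := by
    intro i
    rw [hc1, key M hfin i]
    show _ = _ + (((i.negOnePow : ℤˣ) : ℤ) * (rk M (i - 1) i : ℤ) - _)
    push_cast
    ring
  have hh0 : ∀ i, i < a ∨ b < i → Module.finrank k (M.homology i) = 0 := by
    intro i hi
    have h1 := key M hfin i
    have h2 := hx0 i hi
    omega
  have hr0 : ∀ i, i < a ∨ b < i → rk M (i - 1) i = 0 := by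
    intro i hi
    have h1 := key M hfin i
    have h2 := hx0 i hi
    omega
  have hfh : (Function.support fun i : ℤ =>
      ((i.negOnePow : ℤˣ) : ℤ) * (Module.finrank k (M.homology i) : ℤ)).Finite := by
    apply finite_support_of_bounds a b
    intro i hi
    rw [hh0 i hi]
    simp
  have hc : (Function.support c).Finite := by
    apply finite_support_of_bounds a b
    intro i hi
    show ((i.negOnePow : ℤˣ) : ℤ) * (rk M (i - 1) i : ℤ) = 0
    rw [hr0 i hi]
    simp
  have hc' : (Function.support fun i : ℤ => c (i + 1)).Finite := by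
    apply finite_support_of_bounds (a - 1) (b - 1)
    intro i hi
    show (((i + 1).negOnePow : ℤˣ) : ℤ) * (rk M (i + 1 - 1) (i + 1) : ℤ) = 0
    rw [hr0 (i + 1) (by omega)]
    simp
  have hcd : (Function.support fun i : ℤ => c i - c (i + 1)).Finite :=
    (hc.union hc').subset (Function.support_sub _ _)
  have hshift : (∑ᶠ i : ℤ, c (i + 1)) = ∑ᶠ i : ℤ, c i :=
    finsum_comp_equiv (Equiv.addRight (1 : ℤ))
  rw [finsum_congr hpt, finsum_add_distrib hfh hcd, finsum_sub_distrib hc hc', hshift, sub_self,
    add_zero]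

end Groth.Agent.Lib.EulerPoinL
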