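import Mathlib
import Groth.Prelude
import Groth.Agent.Lib.EulerPoin_lead
import Groth.Agent.Lib.LpullQC_lead
import Groth.Agent.Lib.FLF6_helper8
import Groth.Agent.Lib.PB9_helper8

/-!
# Fibres of strictly perfect complexes at a point (lead; towards S1059)

* `finrank_sections_eq_of_iso`, `finrank_sections_spec` : ranks of global sections;
* `nonempty_Γ_homology_iso` : on `Spec K`, global sections commute with the cohomology of a
  complex of quasi-coherent modules;
* `nonempty_Γ_freeMod`, `nonempty_iso_freeMod_of_subsingleton`, `nonempty_Γ_pullback_iso` :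
  global sections of the pullback of a locally free module to the spectrum of a field;
* `eulerChar_strictlyPerfect` : Euler–Poincaré on the spectrum of a field.
-/

set_option autoImplicit false
set_option linter.all false
set_option maxHeartbeats 1600000
set_option backward.isDefEq.respectTransparency false
set_option backward.isDefEq.respectTransparency.types false
set_option backward.defeqAttrib.useBackward true

universe u
open CategoryTheory CategoryTheory.Limits AlgebraicGeometry Opposite TopologicalSpace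
open DerivedCategory CategoryTheory.Pretriangulated
attribute [local instance] HasDerivedCategory.standard

namespace Groth.Agent.Lib.PerfEulerL

open Groth.Agent.Lib Groth.Agent.Lib.DCohLocLead

/-- the sections functor over `⊤`, valued in modules over the global functions -/
noncomputable abbrev evTop (Z : Scheme.{u}) : Z.Modules ⥤ ModuleCat.{u} (Coh.Γtop Z) :=
  SheafOfModules.evaluation (R := Z.ringCatSheaf) (op ⊤)

theorem finrank_sections_eq_of_iso {Z : Scheme.{u}} {M N : Z.Modules} (e : M ≅ N) :
    Module.finrank (Coh.Γtop Z) (M.val.obj (op ⊤)) =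
      Module.finrank (Coh.Γtop Z) (N.val.obj (op ⊤)) :=
  (((evTop Z).mapIso e).toLinearEquiv).finrank_eq

/-- global sections on `Spec K`, as a `K`-module -/
noncomputable abbrev GΓ (K : Type u) [CommRing K] :
    (Spec (CommRingCat.of K)).Modules ⥤ ModuleCat.{u} K :=
  moduleSpecΓFunctor (R := CommRingCat.of K)

instance (K : Type u) [CommRing K] : (GΓ K).Additive :=
  (tilde.adjunction (R := CommRingCat.of K)).right_adjoint_additive

instance (K : Type u) [CommRing K] : (GΓ K).PreservesZeroMorphisms :=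
  Functor.preservesZeroMorphisms_of_additive _

section SpecK

variable (K : Type u) [CommRing K]

theorem finrank_sections_spec (N : (Spec (CommRingCat.of K)).Modules) :
    Module.finrank (Coh.Γtop (Spec (CommRingCat.of K))) (N.val.obj (op ⊤)) =
      Module.finrank K ((GΓ K).obj N) := by
  have h := rank_eq_of_equiv_equiv (R := K) (R' := Coh.Γtop (Spec (CommRingCat.of K)))
    (M := ((GΓ K).obj N)) (M₁ := N.val.obj (op ⊤))
    (fun r => (Scheme.ΓSpecIso (CommRingCat.of K)).inv.hom r) (AddEquiv.refl _)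
    (ConcreteCategory.bijective_of_isIso (Scheme.ΓSpecIso (CommRingCat.of K)).inv) ?_
  · exact (congrArg Cardinal.toNat h).symm
  · intro r m
    have h1 : (Spec (CommRingCat.of K)).presheaf.map
        (⊤ : (Spec (CommRingCat.of K)).Opens).leTop.op = 𝟙 _ := by
      have h2 : (⊤ : (Spec (CommRingCat.of K)).Opens).leTop = 𝟙 _ := Subsingleton.elim _ _
      rw [h2, op_id, CategoryTheory.Functor.map_id]
    refine (Scheme.Modules.smul_Spec_def (M := N) (U := ⊤) r m).trans ?_
    rw [h1]
    rfl

theorem nonempty_Γ_homology_iso (R : CommRingCat.{u})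
    (C : CochainComplex (Spec (CommRingCat.of R)).Modules ℤ)
    (hC : ∀ n, (C.X n).IsQuasicoherent) (i : ℤ) :
    Nonempty ((moduleSpecΓFunctor (R := R)).obj (C.homology i) ≅
      (((moduleSpecΓFunctor (R := R)).mapHomologicalComplex (ComplexShape.up ℤ)).obj C).homology
        i) := by
  haveI : PreservesFiniteLimits (tilde.functor R) := LpullQCL.preservesFiniteLimits_tilde R
  haveI : (tilde.functor R).IsLeftAdjoint := (tilde.adjunction (R := R)).isLeftAdjoint
  haveI : PreservesFiniteColimits (tilde.functor R) := inferInstance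
  let M := ((moduleSpecΓFunctor (R := R)).mapHomologicalComplex (ComplexShape.up ℤ)).obj C
  let ε : ((tilde.functor R).mapHomologicalComplex (ComplexShape.up ℤ)).obj M ⟶ C :=
    (StalkSkyL.counitC (tilde.adjunction (R := R)) (ComplexShape.up ℤ)).app C
  haveI : ∀ n, IsIso (ε.f n) := fun n => by
    haveI := hC n
    haveI h : IsIso ((tilde.adjunction (R := R)).counit.app (C.X n)) :=
      inferInstanceAs (IsIso (C.X n).fromTildeΓ)
    exact h
  haveI : IsIso ε := HomologicalComplex.Hom.isIso_of_components ε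
  let e1 : (((tilde.functor R).mapHomologicalComplex (ComplexShape.up ℤ)).obj M).homology i ≅
      C.homology i :=
    asIso ((HomologicalComplex.homologyFunctor _ _ i).map ε)
  obtain ⟨e0⟩ := nonempty_homology_mapExact_iso (tilde.functor R) (Q.obj M) i
  let e2 : (((tilde.functor R).mapHomologicalComplex (ComplexShape.up ℤ)).obj M).homology i ≅
      (tilde.functor R).obj (M.homology i) :=
    ((homologyFunctorFactors (Spec (CommRingCat.of R)).Modules i).app _).symm ≪≫
      (homologyFunctor _ i).mapIso ((tilde.functor R).mapDerivedCategoryFactors.app M).symm ≪≫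
      e0 ≪≫ (tilde.functor R).mapIso ((homologyFunctorFactors (ModuleCat.{u} R) i).app M)
  exact ⟨(moduleSpecΓFunctor (R := R)).mapIso (e1.symm ≪≫ e2) ≪≫
    ((tilde.toTildeΓNatIso (R := R)).app (M.homology i)).symm⟩

theorem nonempty_Γ_freeMod (n : ℕ) :
    Nonempty ((GΓ K).obj (FlatMod.freeMod (Spec (CommRingCat.of K)) n) ≅
      ModuleCat.of K (Fin n → K)) := by
  haveI : (tilde.functor (CommRingCat.of K)).IsLeftAdjoint :=
    (tilde.adjunction (R := CommRingCat.of K)).isLeftAdjoint
  let f : Fin n → ModuleCat.{u} K := fun _ => ModuleCat.of K K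
  let e1 : FlatMod.freeMod (Spec (CommRingCat.of K)) n ≅
      ∐ fun j => (tilde.functor (CommRingCat.of K)).obj (f j) :=
    Sigma.mapIso (fun _ => (tildeSelf (R := CommRingCat.of K)).symm)
  let e2 : (tilde.functor (CommRingCat.of K)).obj (∐ f) ≅
      ∐ fun j => (tilde.functor (CommRingCat.of K)).obj (f j) :=
    PreservesCoproduct.iso (tilde.functor (CommRingCat.of K)) f
  let e3 : (GΓ K).obj ((tilde.functor (CommRingCat.of K)).obj (∐ f)) ≅ ∐ f :=
    ((tilde.toTildeΓNatIso (R := CommRingCat.of K)).app (∐ f)).symm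
  let e4 : (∐ f) ≅ ModuleCat.of K (Fin n → K) :=
    (biproduct.isoCoproduct f).symm ≪≫ ModuleCat.biproductIsoPi f
  exact ⟨(GΓ K).mapIso (e1 ≪≫ e2.symm) ≪≫ e3 ≪≫ e4⟩

end SpecK

/-- on a scheme with at most one point, a module which is free near that point is free -/
theorem nonempty_iso_freeMod_of_subsingleton {T : Scheme.{u}} (hT : ∀ s t : T, s = t)
    (N : T.Modules) (t : T) (W : T.Opens) (ht : t ∈ W) (n : ℕ)
    (α : N.restrict W.ι ≅ FlatMod.freeMod (↑W) n) :
    Nonempty (N ≅ FlatMod.freeMod T n) := by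
  have hW : W = ⊤ := by
    ext x
    simp only [Opens.coe_top, Set.mem_univ, iff_true, SetLike.mem_coe]
    rw [hT x t]
    exact ht
  subst hW
  let a : ((⊤ : T.Opens) : Scheme.{u}) ⟶ T := (⊤ : T.Opens).ι
  haveI : IsIso a := inferInstanceAs (IsIso T.topIso.hom)
  let η : 𝟭 T.Modules ≅
      Scheme.Modules.restrictFunctor a ⋙ Scheme.Modules.restrictFunctor (inv a) :=
    (Scheme.Modules.restrictFunctorId (X := T)).symm ≪≫
      (Scheme.Modules.restrictFunctorCongr (IsIso.inv_hom_id a)).symm ≪≫
      Scheme.Modules.restrictFunctorComp (inv a) a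
  exact ⟨η.app N ≪≫ (Scheme.Modules.restrictFunctor (inv a)).mapIso α ≪≫
    (Scheme.Modules.restrictFunctorIsoPullback (inv a)).app _ ≪≫ PBH8.pullbackFreeIso (inv a) n⟩

section Field

variable (K : Type u) [Field K]

theorem nonempty_Γ_pullback_iso {V : Scheme.{u}} (g : Spec (CommRingCat.of K) ⟶ V)
    (F : V.Modules) (U : V.Opens) (n : ℕ) (α : F.restrict U.ι ≅ FlatMod.freeMod (↑U) n)
    (hU : ∀ t : ↥(Spec (CommRingCat.of K)), g t ∈ U) :
    Nonempty ((GΓ K).obj ((Scheme.Modules.pullback g).obj F) ≅ ModuleCat.of K (Fin n → K)) := by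
  have comm : (g ⁻¹ᵁ U).ι ≫ g = (g ∣_ U) ≫ U.ι := (morphismRestrict_ι g U).symm
  let β : ((Scheme.Modules.pullback g).obj F).restrict (g ⁻¹ᵁ U).ι ≅
      FlatMod.freeMod (↑(g ⁻¹ᵁ U)) n :=
    (PBH8.beta g (g ⁻¹ᵁ U).ι U.ι (g ∣_ U) comm).app F ≪≫
      (Scheme.Modules.pullback (g ∣_ U)).mapIso α ≪≫ PBH8.pullbackFreeIso (g ∣_ U) n
  let t₀ : ↥(Spec (CommRingCat.of K)) := (default : PrimeSpectrum K)
  have hsub : ∀ s t : ↥(Spec (CommRingCat.of K)), s = t :=
    fun s t => Subsingleton.elim (α := PrimeSpectrum K) s t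
  obtain ⟨γ⟩ := nonempty_iso_freeMod_of_subsingleton hsub _ t₀ (g ⁻¹ᵁ U) (hU t₀) n β
  obtain ⟨δ⟩ := nonempty_Γ_freeMod K n
  exact ⟨(GΓ K).mapIso γ ≪≫ δ⟩

/-- **Euler–Poincaré** for a bounded complex of quasi-coherent modules with finite dimensional
sections on the spectrum of a field -/
theorem eulerChar_strictlyPerfect (C : CochainComplex (Spec (CommRingCat.of K)).Modules ℤ)
    (a b : ℤ) (hv : DCoh.VanishesOutside C a b) (hq : ∀ i, (C.X i).IsQuasicoherent)
    (hfin : ∀ i, Module.Finite K ((GΓ K).obj (C.X i))) :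
    (∑ᶠ i : ℤ, ((i.negOnePow : ℤˣ) : ℤ) *
      (Module.finrank (Coh.Γtop (Spec (CommRingCat.of K)))
        ((DCoh.HD (DerivedCategory.Q.obj C) i).val.obj (op ⊤)) : ℤ)) =
    ∑ᶠ i : ℤ, ((i.negOnePow : ℤˣ) : ℤ) * (Module.finrank K ((GΓ K).obj (C.X i)) : ℤ) := by
  let M := ((GΓ K).mapHomologicalComplex (ComplexShape.up ℤ)).obj C
  have h1 : ∀ i : ℤ, Module.finrank (Coh.Γtop (Spec (CommRingCat.of K)))
      ((DCoh.HD (DerivedCategory.Q.obj C) i).val.obj (op ⊤)) =
        Module.finrank K (M.homology i) := by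
    intro i
    obtain ⟨e⟩ := nonempty_Γ_homology_iso (CommRingCat.of K) C hq i
    exact (finrank_sections_eq_of_iso
      ((homologyFunctorFactors (Spec (CommRingCat.of K)).Modules i).app C)).trans
      ((finrank_sections_spec K (C.homology i)).trans e.toLinearEquiv.finrank_eq)
  have h2 := EulerPoinL.eulerPoincare M hfin a b
    (fun i hi => ModuleCat.subsingleton_of_isZero ((GΓ K).map_isZero (hv i hi)))
  rw [finsum_congr (fun i => by rw [h1 i])]
  exact h2

end Field

end Groth.Agent.Lib.PerfEulerL
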