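import Mathlib
import Groth.Prelude
import Groth.Agent.Lib.PerfEuler1_lead

/-!
# The Euler characteristic of a perfect complex is locally constant (lead; S1059)
-/

set_option autoImplicit false
set_option linter.all false
set_option maxHeartbeats 1600000
set_option backward.isDefEq.respectTransparency false
set_option backward.isDefEq.respectTransparency.types false
set_option backward.defeqAttrib.useBackward true

universe u
open CategoryTheory CategoryTheory.Limits AlgebraicGeometry Opposite TopologicalSpace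
open DerivedCategory CategoryTheory.Pretriangulated
attribute [local instance] HasDerivedCategory.standard

namespace Groth.Agent.Lib.PerfEulerL

open Groth.Agent.Lib Groth.Agent.Lib.DCohLocLead

/-- the derived pullback of a locally strictly perfect object to a scheme mapping into the
trivialising open -/
theorem nonempty_Lpull_point_iso {X T : Scheme.{u}} (E : DCoh.D X) (V : X.Opens)
    (P : CochainComplex (V : Scheme.{u}).Modules ℤ) (hP : DCoh.IsStrictlyPerfect P)
    (e : (DCoh.restrictD V.ι).obj E ≅ Q.obj P) (i : T ⟶ X) (g : T ⟶ (V : Scheme.{u}))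
    (hg : g ≫ V.ι = i) [DCoh.HasLpull i] :
    Nonempty ((DCoh.Lpull i).obj E ≅ Q.obj ((LpullLocH3.pullCx g).obj P)) := by
  subst hg
  haveI := LpullExH3.hasLpull g
  haveI := LpullExH3.hasLpull V.ι
  obtain ⟨c⟩ := LpullQCL.lpull_comp_obj_iso g V.ι E
  exact ⟨c ≪≫ (DCoh.Lpull g).mapIso ((LpullLocH3.restrictDIsoLpull V.ι).app E).symm ≪≫
    (DCoh.Lpull g).mapIso e ≪≫
    LpullLocH3.LpullQIso g P (LpullLocH3.isKFlat_of_isStrictlyPerfect hP)⟩

theorem eulerChar_eq {X : Scheme.{u}} (E : DCoh.D X) (V : X.Opens)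
    (P : CochainComplex (V : Scheme.{u}).Modules ℤ) (hP : DCoh.IsStrictlyPerfect P) (a b : ℤ)
    (hv : DCoh.VanishesOutside P a b) (e : (DCoh.restrictD V.ι).obj E ≅ Q.obj P)
    (U : ℤ → (V : Scheme.{u}).Opens) (n : ℤ → ℕ)
    (hα : ∀ i, Nonempty ((P.X i).restrict (U i).ι ≅ FlatMod.freeMod (↑(U i)) (n i)))
    (y : X) (y' : (V : Scheme.{u})) (hyy' : V.ι y' = y)
    (hy' : ∀ i, a ≤ i → i ≤ b → y' ∈ U i) [DCoh.HasLpull (X.fromSpecResidueField y)] :
    PerfD.eulerChar E y =
      ∑ᶠ i : ℤ, ((i.negOnePow : ℤˣ) : ℤ) * (if a ≤ i ∧ i ≤ b then (n i : ℤ) else 0) := by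
  have hy : y ∈ V := by
    rw [← hyy']
    exact y'.2
  have hr : Set.range (X.fromSpecResidueField y) ⊆ Set.range V.ι := by
    rw [Scheme.range_fromSpecResidueField, Scheme.Opens.range_ι]
    exact Set.singleton_subset_iff.2 hy
  let g : Spec (X.residueField y) ⟶ (V : Scheme.{u}) :=
    IsOpenImmersion.lift V.ι (X.fromSpecResidueField y) hr
  have hg : g ≫ V.ι = X.fromSpecResidueField y := IsOpenImmersion.lift_fac _ _ hr
  have hgt : ∀ t : ↥(Spec (X.residueField y)), g t = y' := by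
    intro t
    apply V.ι.isOpenEmbedding.injective
    rw [← Scheme.Hom.comp_apply, hg, Scheme.fromSpecResidueField_apply, hyy']
  obtain ⟨φ⟩ := nonempty_Lpull_point_iso E V P hP e (X.fromSpecResidueField y) g hg
  let K : Type u := ↑(X.residueField y)
  letI : Field K := inferInstanceAs (Field (X.residueField y))
  let g' : Spec (CommRingCat.of K) ⟶ (V : Scheme.{u}) := g
  let C : CochainComplex (Spec (CommRingCat.of K)).Modules ℤ := (LpullLocH3.pullCx g').obj P
  have hq : ∀ i, (C.X i).IsQuasicoherent := fun i =>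
    FLFH8.isQuasicoherent_of_finLocFree _ (PBH8.isFinLocFree_pullback g' (hP.2 i))
  let t₀ : ↥(Spec (CommRingCat.of K)) := (default : PrimeSpectrum K)
  have hfin : ∀ i, Module.Finite K ((GΓ K).obj (C.X i)) := by
    intro i
    obtain ⟨U₀, n₀, hU₀, ⟨α₀⟩⟩ := hP.2 i (g' t₀)
    obtain ⟨δ⟩ := nonempty_Γ_pullback_iso K g' (P.X i) U₀ n₀ α₀
      (fun t => by
        rw [Subsingleton.elim (α := PrimeSpectrum K) t t₀]
        exact hU₀)
    exact Module.Finite.equiv δ.toLinearEquiv.symm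
  have hstar := eulerChar_strictlyPerfect K C a b
    (LpullLocH3.vanishesOutside_pullCx g' hv) hq hfin
  have hb : ∀ i : ℤ, PerfD.betti E y i =
      Module.finrank (Coh.Γtop (Spec (CommRingCat.of K)))
        ((DCoh.HD (DerivedCategory.Q.obj C) i).val.obj (op ⊤)) := fun i =>
    finrank_sections_eq_of_iso ((DerivedCategory.homologyFunctor _ i).mapIso φ)
  show (∑ᶠ i : ℤ, ((i.negOnePow : ℤˣ) : ℤ) * (PerfD.betti E y i : ℤ)) = _
  rw [finsum_congr (fun i => by rw [hb i]), hstar]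
  refine finsum_congr (fun i => ?_)
  congr 1
  by_cases hi : a ≤ i ∧ i ≤ b
  · rw [if_pos hi]
    obtain ⟨α⟩ := hα i
    obtain ⟨δ⟩ := nonempty_Γ_pullback_iso K g' (P.X i) (U i) (n i) α
      (fun t => by
        have htt : g' t = y' := hgt t
        rw [htt]
        exact hy' i hi.1 hi.2)
    have h1 : Module.finrank K ((GΓ K).obj (C.X i)) = n i :=
      δ.toLinearEquiv.finrank_eq.trans (Module.finrank_fin_fun K)
    rw [h1]
  · rw [if_neg hi]
    have hz : IsZero (C.X i) := LpullLocH3.vanishesOutside_pullCx g' hv i (by omega)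
    haveI := ModuleCat.subsingleton_of_isZero ((GΓ K).map_isZero hz)
    rw [Module.finrank_zero_of_subsingleton]
    rfl

/-- **S1059** -/
theorem main1059 (X : Scheme.{u}) [∀ x : X, DCoh.HasLpull (X.fromSpecResidueField x)]
    (E : DCoh.D X) (hE : DCoh.IsPerfect E) :
    IsLocallyConstant (fun x : X => PerfD.eulerChar E x) := by
  rw [IsLocallyConstant.iff_exists_open]
  intro x₀
  obtain ⟨V, hxV, P, hP, ⟨e⟩⟩ := (isPerfect_iff E).1 hE x₀
  have hP' : DCoh.IsStrictlyPerfect P := hP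
  obtain ⟨⟨a, b, hv⟩, hfl⟩ := hP'
  let x₀' : (V : Scheme.{u}) := ⟨x₀, hxV⟩
  choose U n hU hα using fun i : ℤ => hfl i x₀'
  let W' : (V : Scheme.{u}).Opens := (Finset.Icc a b).inf U
  have hW' : x₀' ∈ W' := by
    refine Finset.inf_induction (p := fun O : (V : Scheme.{u}).Opens => x₀' ∈ O) trivial ?_ ?_
    · intro O₁ h₁ O₂ h₂
      exact ⟨h₁, h₂⟩
    · intro i _
      exact hU i
  have key : ∀ y' : (V : Scheme.{u}), y' ∈ W' → PerfD.eulerChar E (V.ι y') =
      ∑ᶠ i : ℤ, ((i.negOnePow : ℤˣ) : ℤ) * (if a ≤ i ∧ i ≤ b then (n i : ℤ) else 0) := by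
    intro y' hy'
    exact eulerChar_eq E V P ⟨⟨a, b, hv⟩, hfl⟩ a b hv e U n hα (V.ι y') y' rfl
      (fun i h1 h2 => (Finset.inf_le (Finset.mem_Icc.2 ⟨h1, h2⟩) : W' ≤ U i) hy')
  refine ⟨((V.ι ''ᵁ W' : X.Opens) : Set X), (V.ι ''ᵁ W').isOpen, ⟨x₀', hW', rfl⟩, ?_⟩
  rintro y ⟨y', hy', rfl⟩
  exact (key y' hy').trans (key x₀' hW').symm

end Groth.Agent.Lib.PerfEulerL
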