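import Mathlib
import Groth.Prelude
import Groth.Agent.Lib.PerfEuler1_lead
import Groth.Agent.Lib.FLF8_helper8
import Groth.Agent.Lib.PB8_helper8

/-!
# Unit entries of matrices of maps between free modules (lead)

An endomorphism of the structure module whose fibre at a point is non-zero is an isomorphism on an
open neighbourhood of the point; consequently a map between free modules whose fibre at a point is
non-zero has, near that point, a "unit entry", which gives a split pair `(e, e ≫ d)`.
-/

set_option autoImplicit false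
set_option linter.all false
set_option maxHeartbeats 1600000
set_option backward.isDefEq.respectTransparency false
set_option backward.isDefEq.respectTransparency.types false
set_option backward.defeqAttrib.useBackward true

universe u
open CategoryTheory CategoryTheory.Limits AlgebraicGeometry Opposite TopologicalSpace
open QcqsLoc QCohExtn FLFH8 PBH8 SDivFreeH8

namespace Groth.Agent.Lib.UnitEntryL

open Groth.Agent.Lib.PerfEulerL

variable {W : Scheme.{u}}

/-- the function attached to an endomorphism of the structure module -/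
noncomputable def secOf (φ : Coh.structureModule W ⟶ Coh.structureModule W) (V : W.Opens) :
    Γ(W, V) :=
  ofM (ap φ V (toM (1 : Γ(W, V))))

theorem ap_eq_mul (φ : Coh.structureModule W ⟶ Coh.structureModule W) (V : W.Opens)
    (x : Γ(Coh.structureModule W, V)) :
    ap φ V x = toM (secOf φ V * ofM x) := by
  have h1 : x = (ofM x) • toM (1 : Γ(W, V)) := (mul_one (ofM x)).symm
  have h2 : ap φ V ((ofM x) • toM (1 : Γ(W, V))) = (ofM x) • ap φ V (toM (1 : Γ(W, V))) :=
    Scheme.Modules.Hom.app_smul _ _ _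
  calc ap φ V x = ap φ V ((ofM x) • toM (1 : Γ(W, V))) := congrArg _ h1
    _ = (ofM x) • ap φ V (toM (1 : Γ(W, V))) := h2
    _ = toM (secOf φ V * ofM x) := mul_comm (ofM x) (secOf φ V)

theorem secOf_res (φ : Coh.structureModule W ⟶ Coh.structureModule W) {V' V : W.Opens}
    (h : V' ≤ V) : secOf φ V' = rX h (secOf φ V) := by
  have h1 := ap_rF φ h (toM (1 : Γ(W, V)))
  have h2 : rF (Coh.structureModule W) h (toM (1 : Γ(W, V))) = toM (1 : Γ(W, V')) :=
    map_one (rX h)
  rw [h2] at h1
  exact congrArg ofM h1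

theorem isUnit_secOf_of_le (φ : Coh.structureModule W ⟶ Coh.structureModule W) (V O : W.Opens)
    (hO : O ≤ W.basicOpen (secOf φ V)) : IsUnit (secOf φ O) := by
  have hOV : O ≤ V := hO.trans (W.basicOpen_le _)
  rw [secOf_res φ hOV]
  apply W.toRingedSpace.isUnit_of_isUnit_germ O
  intro x hx
  have h1 : x ∈ W.basicOpen (secOf φ V) := hO hx
  rw [Scheme.mem_basicOpen _ _ _ (hOV hx)] at h1
  have h2 := TopCat.Presheaf.germ_res_apply W.presheaf (homOfLE hOV) x hx (secOf φ V)
  exact h2 ▸ h1

theorem bijective_ap_of_le (φ : Coh.structureModule W ⟶ Coh.structureModule W) (V O : W.Opens)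
    (hO : O ≤ W.basicOpen (secOf φ V)) : Function.Bijective (ap φ O) := by
  have hu := isUnit_secOf_of_le φ V O hO
  have hb : Function.Bijective (fun a : Γ(W, O) => secOf φ O * a) :=
    IsUnit.isUnit_iff_mulLeft_bijective.mp hu
  have h1 : (ap φ O : Γ(Coh.structureModule W, O) → Γ(Coh.structureModule W, O)) =
      fun x => toM (secOf φ O * ofM x) := funext (ap_eq_mul φ O)
  rw [h1]
  exact hb

theorem isIso_restrict (φ : Coh.structureModule W ⟶ Coh.structureModule W) (V : W.Opens) :
    IsIso ((Scheme.Modules.restrictFunctor (W.basicOpen (secOf φ V)).ι).map φ) := by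
  apply SubExt.isIso_of_bijective
  intro O
  exact bijective_ap_of_le φ V _ ((W.basicOpen (secOf φ V)).ι_image_le O)

/-- an endomorphism of the structure module with non-zero fibre at a point is an isomorphism near
the point -/
theorem exists_open_isIso (L : Type u) [Field L] (g : Spec (CommRingCat.of L) ⟶ W)
    (φ : Coh.structureModule W ⟶ Coh.structureModule W)
    (h : (GΓ L).map ((Scheme.Modules.pullback g).map φ) ≠ 0) :
    ∃ W' : W.Opens, (∀ t, g t ∈ W') ∧
      IsIso ((Scheme.Modules.restrictFunctor W'.ι).map φ) := by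
  let t₀ : ↥(Spec (CommRingCat.of L)) := (default : PrimeSpectrum L)
  have hsub : ∀ t : ↥(Spec (CommRingCat.of L)), t = t₀ :=
    fun t => Subsingleton.elim (α := PrimeSpectrum L) t t₀
  obtain ⟨_, ⟨V, hV : IsAffineOpen V, rfl⟩, hxV, -⟩ :=
    (W.isBasis_affineOpens).exists_subset_of_mem_open (Set.mem_univ (g t₀)) isOpen_univ
  have hle : (⊤ : (Spec (CommRingCat.of L)).Opens) ≤ g ⁻¹ᵁ V := by
    intro t _
    rw [hsub t]
    exact hxV
  refine ⟨W.basicOpen (secOf φ V), ?_, isIso_restrict φ V⟩
  have hne : g.appLE V ⊤ hle (secOf φ V) ≠ 0 := by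
    intro h0
    apply h
    have key : ∀ y : Γ((Scheme.Modules.pullback g).obj (Coh.structureModule W), ⊤),
        ap ((Scheme.Modules.pullback g).map φ) ⊤ y = 0 := by
      intro y
      have hy : y ∈ Submodule.span Γ(Spec (CommRingCat.of L), ⊤)
          (Set.range (cUV g (Coh.structureModule W) hle)) := by
        rw [span_cUV g (Coh.structureModule W) (isAffineOpen_top _) hV hle]
        trivial
      refine Submodule.span_induction ?_ ?_ ?_ ?_ hy
      · rintro _ ⟨x, rfl⟩
        have h1 := cUV_naturality g φ hle x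
        refine h1.trans ?_
        have h2 : φ.app V x = (secOf φ V) • x := ap_eq_mul φ V x
        rw [h2, cUV_smul, h0, zero_smul]
      · exact map_zero _
      · intro a b _ _ ha hb
        rw [map_add, ha, hb, add_zero]
      · intro c a _ ha
        have h3 : ap ((Scheme.Modules.pullback g).map φ) ⊤ (c • a) =
            c • ap ((Scheme.Modules.pullback g).map φ) ⊤ a :=
          Scheme.Modules.Hom.app_smul _ _ _
        rw [h3, ha, smul_zero]
    apply ModuleCat.hom_ext
    apply LinearMap.ext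
    intro y
    exact key y
  intro t
  rw [hsub t]
  have hu : IsUnit (g.appLE V ⊤ hle (secOf φ V)) := by
    let e : Γ(Spec (CommRingCat.of L), ⊤) ≃+* L :=
      (Scheme.ΓSpecIso (CommRingCat.of L)).commRingCatIsoToRingEquiv
    rw [← isUnit_map_iff e]
    exact isUnit_iff_ne_zero.2 ((map_ne_zero_iff e e.injective).2 hne)
  have hb := Scheme.basicOpen_appLE g ⊤ V hle (secOf φ V)
  rw [Scheme.basicOpen_of_isUnit _ hu] at hb
  have h4 : t₀ ∈ (⊤ : (Spec (CommRingCat.of L)).Opens) ⊓ g ⁻¹ᵁ W.basicOpen (secOf φ V) :=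
    hb ▸ (trivial : t₀ ∈ (⊤ : (Spec (CommRingCat.of L)).Opens))
  exact h4.2

section Additive

variable {D : Type*} [Category D] [Preadditive D] (Φ : W.Modules ⥤ D) [Φ.Additive]

theorem map_eq_zero_of_proj {A : W.Modules} {n : ℕ} (f : A ⟶ FlatMod.freeMod W n)
    (h : ∀ k : Fin n, Φ.map (f ≫ projM k) = 0) : Φ.map f = 0 := by
  have h1 : f = ∑ k : Fin n, f ≫ projM k ≫
      (ιM k : Coh.structureModule W ⟶ FlatMod.freeMod W n) :=
    calc f = f ≫ 𝟙 _ := (Category.comp_id f).symm
      _ = f ≫ ∑ k : Fin n, projM k ≫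
          (ιM k : Coh.structureModule W ⟶ FlatMod.freeMod W n) := by rw [← id_eq_sumM]
      _ = _ := Preadditive.comp_sum _ _ _
  have h2 : Φ.map f = Φ.map (∑ k : Fin n, f ≫ projM k ≫
      (ιM k : Coh.structureModule W ⟶ FlatMod.freeMod W n)) := congrArg _ h1
  rw [h2, Functor.map_sum]
  apply Finset.sum_eq_zero
  intro k _
  rw [← Category.assoc, Functor.map_comp, h k, zero_comp]

theorem map_eq_zero_of_incl {B : W.Modules} {m : ℕ} (f : FlatMod.freeMod W m ⟶ B)
    (h : ∀ l : Fin m, Φ.map ((ιM l : Coh.structureModule W ⟶ FlatMod.freeMod W m) ≫ f) = 0) :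
    Φ.map f = 0 := by
  have h1 : f = ∑ l : Fin m, (projM l ≫
      (ιM l : Coh.structureModule W ⟶ FlatMod.freeMod W m)) ≫ f :=
    calc f = 𝟙 _ ≫ f := (Category.id_comp f).symm
      _ = (∑ l : Fin m, projM l ≫
          (ιM l : Coh.structureModule W ⟶ FlatMod.freeMod W m)) ≫ f := by rw [← id_eq_sumM]
      _ = _ := Preadditive.sum_comp _ _ _
  have h2 : Φ.map f = Φ.map (∑ l : Fin m, (projM l ≫
      (ιM l : Coh.structureModule W ⟶ FlatMod.freeMod W m)) ≫ f) := congrArg _ h1
  rw [h2, Functor.map_sum]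
  apply Finset.sum_eq_zero
  intro l _
  rw [Category.assoc, Functor.map_comp, h l, comp_zero]

theorem exists_entry {M N : W.Modules} {m n : ℕ} (α : M ≅ FlatMod.freeMod W m)
    (β : N ≅ FlatMod.freeMod W n) (d : M ⟶ N) (h : Φ.map d ≠ 0) :
    ∃ (l : Fin m) (k : Fin n),
      Φ.map ((ιM l : Coh.structureModule W ⟶ FlatMod.freeMod W m) ≫ α.inv ≫ d ≫ β.hom ≫
        projM k) ≠ 0 := by
  by_contra hcon
  push Not at hcon
  apply h
  have h1 : Φ.map (α.inv ≫ d ≫ β.hom) = 0 := by
    apply map_eq_zero_of_incl Φ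
    intro l
    apply map_eq_zero_of_proj Φ
    intro k
    have := hcon l k
    simpa only [Category.assoc] using this
  have h2 : d = α.hom ≫ (α.inv ≫ d ≫ β.hom) ≫ β.inv := by simp
  rw [h2, Functor.map_comp, Functor.map_comp, h1, zero_comp, comp_zero]

end Additive

/-- **split pair near a point** -/
theorem exists_split (L : Type u) [Field L] (g : Spec (CommRingCat.of L) ⟶ W)
    {M N : W.Modules} {m n : ℕ} (α : M ≅ FlatMod.freeMod W m) (β : N ≅ FlatMod.freeMod W n)
    (d : M ⟶ N) (h : (GΓ L).map ((Scheme.Modules.pullback g).map d) ≠ 0) :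
    ∃ (W' : W.Opens), (∀ t, g t ∈ W') ∧
      ∃ (e : (Scheme.Modules.restrictFunctor W'.ι).obj (Coh.structureModule W) ⟶
          (Scheme.Modules.restrictFunctor W'.ι).obj M)
        (ρ : (Scheme.Modules.restrictFunctor W'.ι).obj M ⟶
          (Scheme.Modules.restrictFunctor W'.ι).obj (Coh.structureModule W))
        (ρ' : (Scheme.Modules.restrictFunctor W'.ι).obj N ⟶
          (Scheme.Modules.restrictFunctor W'.ι).obj (Coh.structureModule W)),
        e ≫ ρ = 𝟙 _ ∧ (e ≫ (Scheme.Modules.restrictFunctor W'.ι).map d) ≫ ρ' = 𝟙 _ := by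
  obtain ⟨l, k, hlk⟩ := exists_entry (Scheme.Modules.pullback g ⋙ GΓ L) α β d h
  obtain ⟨W', hW', hiso⟩ := exists_open_isIso L g _ hlk
  refine ⟨W', hW', (Scheme.Modules.restrictFunctor W'.ι).map
      ((ιM l : Coh.structureModule W ⟶ FlatMod.freeMod W m) ≫ α.inv),
    (Scheme.Modules.restrictFunctor W'.ι).map (α.hom ≫ projM l),
    (Scheme.Modules.restrictFunctor W'.ι).map (β.hom ≫ projM k) ≫
      inv ((Scheme.Modules.restrictFunctor W'.ι).map
        ((ιM l : Coh.structureModule W ⟶ FlatMod.freeMod W m) ≫ α.inv ≫ d ≫ β.hom ≫ projM k)),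
    ?_, ?_⟩
  · rw [← Functor.map_comp]
    have h1 : ((ιM l : Coh.structureModule W ⟶ FlatMod.freeMod W m) ≫ α.inv) ≫
        α.hom ≫ projM l = 𝟙 _ := by
      rw [Category.assoc, Iso.inv_hom_id_assoc, ι_projM, if_pos rfl]
    rw [h1, CategoryTheory.Functor.map_id]
  · rw [← Functor.map_comp, ← Category.assoc, ← Functor.map_comp]
    have h1 : (((ιM l : Coh.structureModule W ⟶ FlatMod.freeMod W m) ≫ α.inv) ≫ d) ≫
        β.hom ≫ projM k =
        (ιM l : Coh.structureModule W ⟶ FlatMod.freeMod W m) ≫ α.inv ≫ d ≫ β.hom ≫ projM k := by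
      simp only [Category.assoc]
    rw [h1, IsIso.hom_inv_id]

end Groth.Agent.Lib.UnitEntryL
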