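import Mathlib
import Groth.Prelude
import Groth.Agent.Lib.GaussElim_lead
import Groth.Agent.Lib.UnitEntry_lead
import Groth.Agent.Lib.PerfEuler2_lead
import Groth.Agent.Lib.FLF7_helper8

/-!
# Local structure of perfect complexes whose derived fibre at a point is a vector space in one
degree (lead)
-/

set_option autoImplicit false
set_option linter.all false
set_option maxHeartbeats 1600000
set_option backward.isDefEq.respectTransparency false
set_option backward.isDefEq.respectTransparency.types false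
set_option backward.defeqAttrib.useBackward true

universe u
open CategoryTheory CategoryTheory.Limits AlgebraicGeometry Opposite TopologicalSpace
open DerivedCategory CategoryTheory.Pretriangulated
attribute [local instance] HasDerivedCategory.standard

namespace Groth.Agent.Lib.PerfLocL

open Groth.Agent.Lib Groth.Agent.Lib.DCohLocLead Groth.Agent.Lib.PerfEulerL
  Groth.Agent.Lib.GaussElimL Groth.Agent.Lib.UnitEntryL

/-- derived pullbacks exist -/
local instance hasLpullInst {X Y : Scheme.{u}} (g : X ⟶ Y) : DCoh.HasLpull g :=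
  LpullExH3.hasLpull g

/-- a module placed in degree `i` -/
noncomputable abbrev sgl (T : Scheme.{u}) (i : ℤ) (M : T.Modules) : DCoh.D T :=
  (DerivedCategory.singleFunctor T.Modules i).obj M

section Fibre

variable (L : Type u) [Field L] {T : Scheme.{u}} (g : Spec (CommRingCat.of L) ⟶ T)

/-- the fibre functor at an `L`-point -/
noncomputable abbrev Fib : T.Modules ⥤ ModuleCat.{u} L := Scheme.Modules.pullback g ⋙ GΓ L

theorem fib_free {F : T.Modules} {n : ℕ} (γ : F ≅ FlatMod.freeMod T n) :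
    Nonempty ((Fib L g).obj F ≅ ModuleCat.of L (Fin n → L)) := by
  obtain ⟨e⟩ := nonempty_Γ_freeMod L n
  exact ⟨(GΓ L).mapIso ((Scheme.Modules.pullback g).mapIso γ ≪≫ PBH8.pullbackFreeIso g n) ≪≫ e⟩

variable {L}

theorem finrank_of_iso_fin {M : ModuleCat.{u} L} {n : ℕ} (e : M ≅ ModuleCat.of L (Fin n → L)) :
    Module.finrank L M = n ∧ Module.Finite L M :=
  ⟨e.toLinearEquiv.finrank_eq.trans (Module.finrank_fin_fun L),
    Module.Finite.equiv e.toLinearEquiv.symm⟩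

theorem finrank_split (Ψ : T.Modules ⥤ ModuleCat.{u} L) [Ψ.Additive] {A B : T.Modules}
    (e : A ⟶ B) (ρ : B ⟶ A) (h : e ≫ ρ = 𝟙 A) (hfin : Module.Finite L (Ψ.obj B)) :
    Module.finrank L (Ψ.obj B) =
      Module.finrank L (Ψ.obj A) + Module.finrank L (Ψ.obj (cokernel e)) := by
  haveI : PreservesBinaryBiproducts Ψ := preservesBinaryBiproducts_of_preservesBiproducts Ψ
  let ι1 : Ψ.obj B ≅ ModuleCat.of L ((Ψ.obj A) × (Ψ.obj (cokernel e))) :=
    Ψ.mapIso (splitIso e ρ h) ≪≫ Ψ.mapBiprod A (cokernel e) ≪≫ ModuleCat.biprodIsoProd _ _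
  let le : (Ψ.obj B) ≃ₗ[L] ((Ψ.obj A) × (Ψ.obj (cokernel e))) := ι1.toLinearEquiv
  haveI : Module.Finite L ((Ψ.obj A) × (Ψ.obj (cokernel e))) := Module.Finite.equiv le
  haveI : Module.Finite L (Ψ.obj A) :=
    Module.Finite.of_surjective (LinearMap.fst L (Ψ.obj A) (Ψ.obj (cokernel e)))
      LinearMap.fst_surjective
  haveI : Module.Finite L (Ψ.obj (cokernel e)) :=
    Module.Finite.of_surjective (LinearMap.snd L (Ψ.obj A) (Ψ.obj (cokernel e)))
      LinearMap.snd_surjective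
  exact le.finrank_eq.trans Module.finrank_prod

end Fibre

theorem nonempty_Lpull_DD_iso {S T W : Scheme.{u}} (g' : S ⟶ T) (j : T ⟶ W) [IsOpenImmersion j]
    (g : S ⟶ W) (hg : g' ≫ j = g) (K : DCoh.D W) :
    Nonempty ((DCoh.Lpull g).obj K ≅ (DCoh.Lpull g').obj ((DD j).obj K)) := by
  subst hg
  obtain ⟨c⟩ := LpullQCL.lpull_comp_obj_iso g' j K
  exact ⟨c ≪≫ (DCoh.Lpull g').mapIso ((LpullLocH3.restrictDIsoLpull j).app K).symm⟩

theorem nonempty_DD_id_iso {W : Scheme.{u}} (P : CochainComplex W.Modules ℤ) :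
    Nonempty ((DD (𝟙 W)).obj (Q.obj P) ≅ Q.obj P) :=
  ⟨facIso (𝟙 W) P ≪≫ Q.mapIso ((NatIso.mapHomologicalComplex
    (Scheme.Modules.restrictFunctorId (X := W)) (ComplexShape.up ℤ)).app P)⟩

section Min

/-- **the minimal case** -/
theorem ge_min_free {W : Scheme.{u}} (P : CochainComplex W.Modules ℤ) (a b : ℤ)
    (hv : DCoh.VanishesOutside P a b) (n : ℤ → ℕ) (α : ∀ k, P.X k ≅ FlatMod.freeMod W (n k))
    (L : Type u) [Field L] (g : Spec (CommRingCat.of L) ⟶ W) (i : ℤ) (r : ℕ)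
    (hmin : ∀ k, (Fib L g).map (P.d k (k + 1)) = 0)
    (V'' : (Spec (CommRingCat.of L)).Modules) (hV'' : FlatMod.IsFinLocFreeOfRank r V'')
    (hFC : Nonempty ((DCoh.Lpull g).obj (Q.obj P) ≅ sgl _ i V'')) :
    Nonempty (Q.obj P ≅ sgl W i (FlatMod.freeMod W r)) := by
  have hSP : DCoh.IsStrictlyPerfect P :=
    ⟨⟨a, b, hv⟩, fun k => FLFH8.isFinLocFree_of_iso_free (α k)⟩
  have hKf : DCoh.IsKFlat P := LpullLocH3.isKFlat_of_isStrictlyPerfect hSP
  let C : CochainComplex (Spec (CommRingCat.of L)).Modules ℤ := (LpullLocH3.pullCx g).obj P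
  obtain ⟨eFC⟩ := hFC
  let eC : Q.obj C ≅ sgl _ i V'' := (LpullLocH3.LpullQIso g P hKf).symm ≪≫ eFC
  have hq : ∀ k, (C.X k).IsQuasicoherent := fun k =>
    FLFH8.isQuasicoherent_of_finLocFree _ (PBH8.isFinLocFree_pullback g (hSP.2 k))
  let M : CochainComplex (ModuleCat.{u} L) ℤ :=
    ((GΓ L).mapHomologicalComplex (ComplexShape.up ℤ)).obj C
  have hMd : ∀ p q, M.d p q = 0 := by
    intro p q
    by_cases hpq : p + 1 = q
    · subst hpq
      exact hmin p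
    · exact M.shape p q hpq
  -- the key isomorphisms
  have key : ∀ k, Nonempty ((Fib L g).obj (P.X k) ≅
      (GΓ L).obj (DCoh.HD (sgl (Spec (CommRingCat.of L)) i V'') k)) := by
    intro k
    obtain ⟨e1⟩ := nonempty_Γ_homology_iso (CommRingCat.of L) C hq k
    exact ⟨(homologyIsoOfZero M hMd k).symm ≪≫ e1.symm ≪≫
      (GΓ L).mapIso ((homologyFunctorFactors (Spec (CommRingCat.of L)).Modules k).app C).symm ≪≫
      (GΓ L).mapIso ((DerivedCategory.homologyFunctor _ k).mapIso eC)⟩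
  have hn : ∀ k, Module.finrank L ((Fib L g).obj (P.X k)) = n k := fun k => by
    obtain ⟨e⟩ := fib_free L g (α k)
    exact (finrank_of_iso_fin e).1
  have hn0 : ∀ k, k ≠ i → n k = 0 := by
    intro k hk
    obtain ⟨e⟩ := key k
    have hz : IsZero ((GΓ L).obj (DCoh.HD (sgl (Spec (CommRingCat.of L)) i V'') k)) :=
      (GΓ L).map_isZero (isZero_homology_single V'' i k hk)
    haveI := ModuleCat.subsingleton_of_isZero (hz.of_iso e)
    rw [← hn k]
    exact Module.finrank_zero_of_subsingleton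
  have hni : n i = r := by
    obtain ⟨e⟩ := key i
    let t₀ : ↥(Spec (CommRingCat.of L)) := (default : PrimeSpectrum L)
    obtain ⟨U₀, ht₀, ⟨β⟩⟩ := hV'' t₀
    obtain ⟨β'⟩ := nonempty_iso_freeMod_of_subsingleton
      (fun s t => Subsingleton.elim (α := PrimeSpectrum L) s t) V'' t₀ U₀ ht₀ r β
    obtain ⟨e2⟩ := nonempty_Γ_freeMod L r
    have e3 : (Fib L g).obj (P.X i) ≅ ModuleCat.of L (Fin r → L) :=
      e ≪≫ (GΓ L).mapIso (homologySingleIso V'' i ≪≫ β') ≪≫ e2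
    rw [← hn i]
    exact (finrank_of_iso_fin e3).1
  have hz : ∀ k, k ≠ i → IsZero (P.X k) := by
    intro k hk
    have h0 : IsZero (FlatMod.freeMod W (n k)) := by
      rw [hn0 k hk]
      exact isZero_freeMod_zero W
    exact h0.of_iso (α k)
  obtain ⟨e4⟩ := nonempty_Q_iso_single P i hz
  have e5 : P.X i ≅ FlatMod.freeMod W r := α i ≪≫ eqToIso (by rw [hni])
  exact ⟨e4 ≪≫ (DerivedCategory.singleFunctor W.Modules i).mapIso e5⟩

end Min

section Step

/-- **the elimination step** -/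
theorem ge_step_free {W : Scheme.{u}} (P : CochainComplex W.Modules ℤ) (a b : ℤ)
    (hv : DCoh.VanishesOutside P a b) (n : ℤ → ℕ) (α : ∀ k, P.X k ≅ FlatMod.freeMod W (n k))
    (L : Type u) [Field L] (g : Spec (CommRingCat.of L) ⟶ W) (k₀ : ℤ)
    (hk₀ : (Fib L g).map (P.d k₀ (k₀ + 1)) ≠ 0) :
    ∃ (W₂ : W.Opens) (_ : ∀ t, g t ∈ W₂) (K' : CochainComplex (W₂ : Scheme.{u}).Modules ℤ),
      DCoh.VanishesOutside K' a b ∧ (∀ k, FlatMod.IsFinLocFree (K'.X k)) ∧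
      Nonempty (Q.obj ((RC W₂.ι).obj P) ≅ Q.obj K') ∧
      ∀ (g₂ : Spec (CommRingCat.of L) ⟶ (W₂ : Scheme.{u})),
        (∑ k ∈ Finset.Icc a b, Module.finrank L ((Fib L g₂).obj (K'.X k))) <
          ∑ k ∈ Finset.Icc a b, n k := by
  have hk₀a : a ≤ k₀ := by
    by_contra hlt
    apply hk₀
    have hz := hv k₀ (Or.inl (by omega))
    rw [hz.eq_of_src (P.d k₀ (k₀ + 1)) 0, Functor.map_zero]
  have hk₀b : k₀ + 1 ≤ b := by
    by_contra hlt
    apply hk₀
    have hz := hv (k₀ + 1) (Or.inr (by omega))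
    rw [hz.eq_of_tgt (P.d k₀ (k₀ + 1)) 0, Functor.map_zero]
  obtain ⟨W₂, hW₂, e, ρ, ρ', h1, h2⟩ :=
    exists_split L g (α k₀) (α (k₀ + 1)) (P.d k₀ (k₀ + 1)) hk₀
  let R := Scheme.Modules.restrictFunctor W₂.ι
  let K : CochainComplex (W₂ : Scheme.{u}).Modules ℤ := (RC W₂.ι).obj P
  let e' : R.obj (Coh.structureModule W) ⟶ K.X k₀ := e
  have h1' : e' ≫ ρ = 𝟙 _ := h1
  have h2' : (e' ≫ K.d k₀ (k₀ + 1)) ≫ ρ' = 𝟙 _ := h2
  haveI : Mono e' := by
    haveI : Mono (e' ≫ ρ) := by rw [h1']; infer_instance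
    exact mono_of_mono e' ρ
  haveI : Mono (e' ≫ K.d k₀ (k₀ + 1)) := by
    haveI : Mono ((e' ≫ K.d k₀ (k₀ + 1)) ≫ ρ') := by rw [h2']; infer_instance
    exact mono_of_mono _ ρ'
  obtain ⟨K', ⟨eQ⟩, ⟨e0⟩, ⟨e1⟩, hother⟩ := gauss_step K k₀ e'
  let γ : ∀ k, K.X k ≅ FlatMod.freeMod (W₂ : Scheme.{u}) (n k) := fun k =>
    R.mapIso (α k) ≪≫ restrictFreeIso W₂.ι (n k)
  refine ⟨W₂, hW₂, K', ?_, ?_, ⟨eQ⟩, ?_⟩
  · intro k hk
    obtain ⟨ek⟩ := hother k (by omega) (by omega)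
    exact IsZero.of_iso (R.map_isZero (hv k hk)) ek
  · intro k
    by_cases hk0 : k = k₀
    · subst hk0
      refine FLFH8.IsFinLocFree.of_iso e0.symm
        (FLFH8.finLocFree_of_retract (cokerSection e' ρ h1' ≫ (γ k).hom)
          ((γ k).inv ≫ cokernel.π e') ?_)
      rw [Category.assoc, Iso.hom_inv_id_assoc, cokerSection_π]
    · by_cases hk1 : k = k₀ + 1
      · subst hk1
        refine FLFH8.IsFinLocFree.of_iso e1.symm
          (FLFH8.finLocFree_of_retract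
            (cokerSection (e' ≫ K.d k₀ (k₀ + 1)) ρ' h2' ≫ (γ (k₀ + 1)).hom)
            ((γ (k₀ + 1)).inv ≫ cokernel.π (e' ≫ K.d k₀ (k₀ + 1))) ?_)
        rw [Category.assoc, Iso.hom_inv_id_assoc, cokerSection_π]
      · obtain ⟨ek⟩ := hother k hk0 hk1
        exact FLFH8.IsFinLocFree.of_iso ek.symm (FLFH8.isFinLocFree_of_iso_free (γ k))
  · intro g₂
    have hK : ∀ k, Module.finrank L ((Fib L g₂).obj (K.X k)) = n k ∧
        Module.Finite L ((Fib L g₂).obj (K.X k)) := fun k => by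
      obtain ⟨e⟩ := fib_free L g₂ (γ k)
      exact finrank_of_iso_fin e
    -- the structure module has fibre rank one
    have hX : Module.finrank L ((Fib L g₂).obj (R.obj (Coh.structureModule W))) = 1 := by
      let δ : Coh.structureModule W ≅ FlatMod.freeMod W 1 :=
        (coproductUniqueIso (fun _ : Fin 1 => Coh.structureModule W)).symm
      obtain ⟨e⟩ := fib_free L g₂ (R.mapIso δ ≪≫ restrictFreeIso W₂.ι 1)
      exact (finrank_of_iso_fin e).1
    have hs0 := finrank_split (Fib L g₂) e' ρ h1' (hK k₀).2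
    have hs1 := finrank_split (Fib L g₂) (e' ≫ K.d k₀ (k₀ + 1)) ρ' h2' (hK (k₀ + 1)).2
    rw [(hK k₀).1, hX] at hs0
    rw [(hK (k₀ + 1)).1, hX] at hs1
    have hf0 : Module.finrank L ((Fib L g₂).obj (K'.X k₀)) =
        Module.finrank L ((Fib L g₂).obj (cokernel e')) :=
      ((Fib L g₂).mapIso e0).toLinearEquiv.finrank_eq
    have hf1 : Module.finrank L ((Fib L g₂).obj (K'.X (k₀ + 1))) =
        Module.finrank L ((Fib L g₂).obj (cokernel (e' ≫ K.d k₀ (k₀ + 1)))) :=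
      ((Fib L g₂).mapIso e1).toLinearEquiv.finrank_eq
    have hfo : ∀ k, k ≠ k₀ → k ≠ k₀ + 1 →
        Module.finrank L ((Fib L g₂).obj (K'.X k)) = n k := by
      intro k hk0 hk1
      obtain ⟨ek⟩ := hother k hk0 hk1
      exact (((Fib L g₂).mapIso ek).toLinearEquiv.finrank_eq).trans (hK k).1
    apply Finset.sum_lt_sum
    · intro k _
      by_cases hk0 : k = k₀
      · subst hk0
        omega
      · by_cases hk1 : k = k₀ + 1
        · subst hk1
          omega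
        · exact (hfo k hk0 hk1).le
    · exact ⟨k₀, Finset.mem_Icc.2 ⟨hk₀a, by omega⟩, by omega⟩

end Step

section Induction

theorem LS_free (i : ℤ) (r : ℕ) (L : Type u) [Field L] :
    ∀ (N : ℕ) {W : Scheme.{u}} (P : CochainComplex W.Modules ℤ) (a b : ℤ)
      (hv : DCoh.VanishesOutside P a b) (n : ℤ → ℕ)
      (α : ∀ k, P.X k ≅ FlatMod.freeMod W (n k))
      (g : Spec (CommRingCat.of L) ⟶ W) (hN : ∑ k ∈ Finset.Icc a b, n k ≤ N)
      (V'' : (Spec (CommRingCat.of L)).Modules) (hV'' : FlatMod.IsFinLocFreeOfRank r V'')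
      (hFC : Nonempty ((DCoh.Lpull g).obj (Q.obj P) ≅ sgl _ i V'')),
      ∃ (T : Scheme.{u}) (j : T ⟶ W) (_ : IsOpenImmersion j), (∀ t, g t ∈ Set.range j) ∧
        Nonempty ((DD j).obj (Q.obj P) ≅ sgl T i (FlatMod.freeMod T r)) := by
  intro N
  induction N using Nat.strong_induction_on with
  | _ N ih =>
    intro W P a b hv n α g hN V'' hV'' hFC
    by_cases hmin : ∀ k, (Fib L g).map (P.d k (k + 1)) = 0
    · obtain ⟨e⟩ := ge_min_free P a b hv n α L g i r hmin V'' hV'' hFC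
      obtain ⟨e0⟩ := nonempty_DD_id_iso P
      exact ⟨W, 𝟙 W, inferInstance, fun t => ⟨g t, rfl⟩, ⟨e0 ≪≫ e⟩⟩
    · push Not at hmin
      obtain ⟨k₀, hk₀⟩ := hmin
      obtain ⟨W₂, hW₂, K', hv', hfl', ⟨eQ⟩, hrank⟩ := ge_step_free P a b hv n α L g k₀ hk₀
      have hr2 : Set.range g ⊆ Set.range W₂.ι := by
        rw [Scheme.Opens.range_ι]
        rintro _ ⟨t, rfl⟩
        exact hW₂ t
      let g₂ : Spec (CommRingCat.of L) ⟶ (W₂ : Scheme.{u}) := IsOpenImmersion.lift W₂.ι g hr2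
      have hg₂ : g₂ ≫ W₂.ι = g := IsOpenImmersion.lift_fac _ _ hr2
      let t₀ : ↥(Spec (CommRingCat.of L)) := (default : PrimeSpectrum L)
      have hsub : ∀ t : ↥(Spec (CommRingCat.of L)), t = t₀ :=
        fun t => Subsingleton.elim (α := PrimeSpectrum L) t t₀
      obtain ⟨W₃, hyW₃, hSF⟩ := exists_opens_isStrictlyFree
        (P := K') ⟨⟨a, b, hv'⟩, hfl'⟩ (g₂ t₀)
      let K'' : CochainComplex (W₃ : Scheme.{u}).Modules ℤ := (RC W₃.ι).obj K'
      obtain ⟨-, hfr⟩ := hSF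
      choose n' α' using hfr
      have hr3 : Set.range g₂ ⊆ Set.range W₃.ι := by
        rw [Scheme.Opens.range_ι]
        rintro _ ⟨t, rfl⟩
        rw [hsub t]
        exact hyW₃
      let g₃ : Spec (CommRingCat.of L) ⟶ (W₃ : Scheme.{u}) := IsOpenImmersion.lift W₃.ι g₂ hr3
      have hg₃ : g₃ ≫ W₃.ι = g₂ := IsOpenImmersion.lift_fac _ _ hr3
      have hv'' : DCoh.VanishesOutside K'' a b := fun k hk =>
        (Scheme.Modules.restrictFunctor W₃.ι).map_isZero (hv' k hk)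
      have hn' : ∀ k, Module.finrank L ((Fib L g₂).obj (K'.X k)) = n' k := by
        intro k
        obtain ⟨e⟩ := nonempty_Γ_pullback_iso L g₂ (K'.X k) W₃ (n' k) (α' k).some
          (fun t => by rw [hsub t]; exact hyW₃)
        exact (finrank_of_iso_fin e).1
      have hlt : ∑ k ∈ Finset.Icc a b, n' k < N :=
        lt_of_lt_of_le (lt_of_eq_of_lt
          (Finset.sum_congr rfl fun k _ => (hn' k).symm) (hrank g₂)) hN
      -- transport of the fibre condition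
      obtain ⟨c1⟩ := nonempty_DD_comp_iso W₃.ι W₂.ι (Q.obj P)
      let eT : (DD (W₃.ι ≫ W₂.ι)).obj (Q.obj P) ≅ Q.obj K'' :=
        c1 ≪≫ (DD W₃.ι).mapIso (facIso W₂.ι P ≪≫ eQ) ≪≫ facIso W₃.ι K'
      have hg : g₃ ≫ (W₃.ι ≫ W₂.ι) = g := by rw [← Category.assoc, hg₃, hg₂]
      obtain ⟨c2⟩ := nonempty_Lpull_DD_iso g₃ (W₃.ι ≫ W₂.ι) g hg (Q.obj P)
      obtain ⟨eFC⟩ := hFC
      have hFC'' : Nonempty ((DCoh.Lpull g₃).obj (Q.obj K'') ≅ sgl _ i V'') :=
        ⟨(DCoh.Lpull g₃).mapIso eT.symm ≪≫ c2.symm ≪≫ eFC⟩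
      obtain ⟨T, j₂, hj₂, hrange, ⟨e₂⟩⟩ := ih _ hlt K'' a b hv'' n' (fun k => (α' k).some) g₃
        le_rfl V'' hV'' hFC''
      haveI := hj₂
      obtain ⟨c3⟩ := nonempty_DD_comp_iso j₂ (W₃.ι ≫ W₂.ι) (Q.obj P)
      refine ⟨T, j₂ ≫ (W₃.ι ≫ W₂.ι), inferInstance, ?_, ⟨c3 ≪≫ (DD j₂).mapIso eT ≪≫ e₂⟩⟩
      intro t
      obtain ⟨s, hs⟩ := hrange t
      refine ⟨s, ?_⟩
      rw [Scheme.Hom.comp_apply, hs, ← Scheme.Hom.comp_apply, hg]

/-- **local structure** -/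
theorem LS (i : ℤ) (r : ℕ) (L : Type u) [Field L] {W : Scheme.{u}}
    (P : CochainComplex W.Modules ℤ) (hP : DCoh.IsStrictlyPerfect P)
    (g : Spec (CommRingCat.of L) ⟶ W)
    (V'' : (Spec (CommRingCat.of L)).Modules) (hV'' : FlatMod.IsFinLocFreeOfRank r V'')
    (hFC : Nonempty ((DCoh.Lpull g).obj (Q.obj P) ≅ sgl _ i V'')) :
    ∃ (T : Scheme.{u}) (j : T ⟶ W) (_ : IsOpenImmersion j), (∀ t, g t ∈ Set.range j) ∧
      Nonempty ((DD j).obj (Q.obj P) ≅ sgl T i (FlatMod.freeMod T r)) := by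
  let t₀ : ↥(Spec (CommRingCat.of L)) := (default : PrimeSpectrum L)
  have hsub : ∀ t : ↥(Spec (CommRingCat.of L)), t = t₀ :=
    fun t => Subsingleton.elim (α := PrimeSpectrum L) t t₀
  obtain ⟨W₁, hxW₁, hSF⟩ := exists_opens_isStrictlyFree hP (g t₀)
  obtain ⟨⟨a, b, hv⟩, hfr⟩ := hSF
  choose n α using hfr
  have hr1 : Set.range g ⊆ Set.range W₁.ι := by
    rw [Scheme.Opens.range_ι]
    rintro _ ⟨t, rfl⟩
    rw [hsub t]
    exact hxW₁
  let g₁ : Spec (CommRingCat.of L) ⟶ (W₁ : Scheme.{u}) := IsOpenImmersion.lift W₁.ι g hr1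
  have hg₁ : g₁ ≫ W₁.ι = g := IsOpenImmersion.lift_fac _ _ hr1
  obtain ⟨c⟩ := nonempty_Lpull_DD_iso g₁ W₁.ι g hg₁ (Q.obj P)
  obtain ⟨eFC⟩ := hFC
  have hFC₁ : Nonempty ((DCoh.Lpull g₁).obj (Q.obj ((RC W₁.ι).obj P)) ≅ sgl _ i V'') :=
    ⟨(DCoh.Lpull g₁).mapIso (facIso W₁.ι P).symm ≪≫ c.symm ≪≫ eFC⟩
  obtain ⟨T, j₂, hj₂, hrange, ⟨e₂⟩⟩ := LS_free i r L _ ((RC W₁.ι).obj P) a b hv n
    (fun k => (α k).some) g₁ le_rfl V'' hV'' hFC₁
  haveI := hj₂
  obtain ⟨c3⟩ := nonempty_DD_comp_iso j₂ W₁.ι (Q.obj P)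
  refine ⟨T, j₂ ≫ W₁.ι, inferInstance, ?_, ⟨c3 ≪≫ (DD j₂).mapIso (facIso W₁.ι P) ≪≫ e₂⟩⟩
  intro t
  obtain ⟨s, hs⟩ := hrange t
  refine ⟨s, ?_⟩
  rw [Scheme.Hom.comp_apply, hs, ← Scheme.Hom.comp_apply, hg₁]

end Induction

end Groth.Agent.Lib.PerfLocL
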