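import Mathlib
import Groth.Prelude
import Groth.Agent.Lib.PerfLoc1_lead

/-!
# The open locus where a perfect complex is a vector bundle of rank `r` in degree `i` (lead)
-/

set_option autoImplicit false
set_option linter.all false
set_option maxHeartbeats 1600000
set_option backward.isDefEq.respectTransparency false
set_option backward.isDefEq.respectTransparency.types false
set_option backward.defeqAttrib.useBackward true

universe u
open CategoryTheory CategoryTheory.Limits AlgebraicGeometry Opposite TopologicalSpace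
open DerivedCategory CategoryTheory.Pretriangulated
attribute [local instance] HasDerivedCategory.standard

namespace Groth.Agent.Lib.PerfLocL

open Groth.Agent.Lib Groth.Agent.Lib.DCohLocLead Groth.Agent.Lib.PerfEulerL
  Groth.Agent.Lib.GaussElimL Groth.Agent.Lib.UnitEntryL

attribute [local instance] hasLpullInst

/-- restriction to an open commutes with placing a module in degree `i` -/
theorem nonempty_DD_sgl {T S : Scheme.{u}} (j : S ⟶ T) [IsOpenImmersion j] (i : ℤ)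
    (M : T.Modules) :
    Nonempty ((DD j).obj (sgl T i M) ≅ sgl S i ((Scheme.Modules.restrictFunctor j).obj M)) :=
  ⟨((Scheme.Modules.restrictFunctor j).mapDerivedCategorySingleFunctor i).app M⟩

theorem isFinLocFree_of_isZero {T : Scheme.{u}} {M : T.Modules} (hM : IsZero M) :
    FlatMod.IsFinLocFree M := fun _ =>
  ⟨⊤, 0, trivial,
    ⟨((Scheme.Modules.restrictFunctor _).map_isZero hM).iso (isZero_freeMod_zero _)⟩⟩

theorem isStrictlyPerfect_single {T : Scheme.{u}} (i : ℤ) (M : T.Modules)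
    (hM : FlatMod.IsFinLocFree M) :
    DCoh.IsStrictlyPerfect
      ((HomologicalComplex.single T.Modules (ComplexShape.up ℤ) i).obj M) := by
  refine ⟨⟨i, i, fun k hk =>
    HomologicalComplex.isZero_single_obj_X (ComplexShape.up ℤ) i M k (by omega)⟩, fun k => ?_⟩
  by_cases hk : k = i
  · subst hk
    exact FLFH8.IsFinLocFree.of_iso
      (HomologicalComplex.singleObjXSelf (ComplexShape.up ℤ) k M).symm hM
  · exact isFinLocFree_of_isZero
      (HomologicalComplex.isZero_single_obj_X (ComplexShape.up ℤ) i M k hk)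

/-- the derived pullback of a finite locally free module placed in degree `i` -/
theorem nonempty_Lpull_sgl {S T : Scheme.{u}} (h : S ⟶ T) (i : ℤ) (M : T.Modules)
    (hM : FlatMod.IsFinLocFree M) :
    Nonempty ((DCoh.Lpull h).obj (sgl T i M) ≅
      sgl S i ((Scheme.Modules.pullback h).obj M)) := by
  have hK := LpullLocH3.isKFlat_of_isStrictlyPerfect (isStrictlyPerfect_single i M hM)
  have e1 : (DCoh.Lpull h).obj
      (Q.obj ((HomologicalComplex.single T.Modules (ComplexShape.up ℤ) i).obj M)) ≅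
      Q.obj ((LpullLocH3.pullCx h).obj
        ((HomologicalComplex.single T.Modules (ComplexShape.up ℤ) i).obj M)) :=
    LpullLocH3.LpullQIso h _ hK
  have e2 : (LpullLocH3.pullCx h).obj
      ((HomologicalComplex.single T.Modules (ComplexShape.up ℤ) i).obj M) ≅
      (HomologicalComplex.single S.Modules (ComplexShape.up ℤ) i).obj
        ((Scheme.Modules.pullback h).obj M) :=
    (HomologicalComplex.singleMapHomologicalComplex (Scheme.Modules.pullback h)
      (ComplexShape.up ℤ) i).app M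
  exact ⟨e1 ≪≫ Q.mapIso e2⟩

/-- a module in degree `i` is the `-i`-shift of the module in degree `0` -/
theorem nonempty_sgl_shift {Y : Scheme.{u}} (i : ℤ) (V : Y.Modules) :
    Nonempty (sgl Y i V ≅ (DCoh.inD Y V)⟦-i⟧) :=
  ⟨(((DerivedCategory.singleFunctors Y.Modules).shiftIso (-i) i 0 (by omega)).app V).symm⟩

/-- **gluing**: an object which is locally a free module of rank `r` in degree `i` is a locally
free module of rank `r` in degree `i` -/
theorem glue {Y : Scheme.{u}} (K : DCoh.D Y) (i : ℤ) (r : ℕ)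
    (H : ∀ y : Y, ∃ O : Y.Opens, y ∈ O ∧
      Nonempty ((DD O.ι).obj K ≅ sgl (↑O) i (FlatMod.freeMod (↑O) r))) :
    ∃ V : Y.Modules, FlatMod.IsFinLocFreeOfRank r V ∧ Nonempty (K ≅ sgl Y i V) := by
  choose O hO hK using H
  have hz : ∀ k : ℤ, k ≠ i → IsZero (DCoh.HD K k) := by
    intro k hk
    refine isZero_of_isZero_restrict (DCoh.HD K k) O (fun y => ⟨y, hO y⟩) (fun y => ?_)
    obtain ⟨e1⟩ := nonempty_HD_restrict_iso (O y).ι K k
    obtain ⟨e2⟩ := hK y
    exact (isZero_homology_single (FlatMod.freeMod (↑(O y)) r) i k hk).of_iso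
      (e1.symm ≪≫ (DerivedCategory.homologyFunctor _ k).mapIso e2)
  haveI : DerivedCategory.IsGE K i :=
    (DerivedCategory.isGE_iff K i).2 (fun k hk => hz k (by omega))
  haveI : DerivedCategory.IsLE K i :=
    (DerivedCategory.isLE_iff K i).2 (fun k hk => hz k (by omega))
  obtain ⟨V, ⟨e⟩⟩ := DerivedCategory.exists_iso_singleFunctor_obj_of_isGE_of_isLE K i
  refine ⟨V, fun y => ⟨O y, hO y, ?_⟩, ⟨e⟩⟩
  obtain ⟨e2⟩ := hK y
  obtain ⟨e3⟩ := nonempty_DD_sgl (O y).ι i V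
  have e4 : sgl (↑(O y)) i ((Scheme.Modules.restrictFunctor (O y).ι).obj V) ≅
      sgl (↑(O y)) i (FlatMod.freeMod (↑(O y)) r) :=
    e3.symm ≪≫ (DD (O y).ι).mapIso e.symm ≪≫ e2
  exact ⟨(homologySingleIso _ i).symm ≪≫ (DerivedCategory.homologyFunctor _ i).mapIso e4 ≪≫
    homologySingleIso _ i⟩

/-- the opens over which `E` is a free module of rank `r` in degree `i` -/
def goodOpens {X : Scheme.{u}} (E : DCoh.D X) (i : ℤ) (r : ℕ) : Set X.Opens :=
  {O | ∃ (T : Scheme.{u}) (j : T ⟶ X) (_ : IsOpenImmersion j),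
      j.opensRange = O ∧ Nonempty ((DD j).obj E ≅ sgl T i (FlatMod.freeMod T r))}

theorem forward {X Y : Scheme.{u}} (E : DCoh.D X) (i : ℤ) (r : ℕ) (f : Y ⟶ X)
    (hsub : ∀ y : Y, f y ∈ sSup (goodOpens E i r)) :
    ∃ V : Y.Modules, FlatMod.IsFinLocFreeOfRank r V ∧
      Nonempty ((DCoh.Lpull f).obj E ≅ sgl Y i V) := by
  apply glue
  intro y
  have hy := hsub y
  rw [TopologicalSpace.Opens.mem_sSup] at hy
  obtain ⟨O', ⟨T, j, hj, rfl, ⟨e⟩⟩, hyO⟩ := hy
  haveI := hj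
  let O : Y.Opens := f ⁻¹ᵁ j.opensRange
  have hr : Set.range (O.ι ≫ f) ⊆ Set.range j := by
    rintro _ ⟨s, rfl⟩
    have hs : O.ι s ∈ (O : Set Y) := by
      rw [← Scheme.Opens.range_ι]
      exact ⟨s, rfl⟩
    rw [Scheme.Hom.comp_apply]
    exact hs
  let fO : (O : Scheme.{u}) ⟶ T := IsOpenImmersion.lift j (O.ι ≫ f) hr
  have hfO : fO ≫ j = O.ι ≫ f := IsOpenImmersion.lift_fac _ _ hr
  refine ⟨O, hyO, ?_⟩
  obtain ⟨c1⟩ := LpullQCL.lpull_comp_obj_iso O.ι f E
  obtain ⟨c2⟩ := nonempty_Lpull_DD_iso fO j (O.ι ≫ f) hfO E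
  obtain ⟨c3⟩ := nonempty_Lpull_sgl fO i (FlatMod.freeMod T r)
    (FLFH8.isFinLocFree_of_iso_free (Iso.refl _))
  exact ⟨(LpullLocH3.restrictDIsoLpull O.ι).app _ ≪≫ c1.symm ≪≫ c2 ≪≫
    (DCoh.Lpull fO).mapIso e ≪≫ c3 ≪≫
    (DerivedCategory.singleFunctor _ i).mapIso (PBH8.pullbackFreeIso fO r)⟩

theorem backward {X Y : Scheme.{u}} (E : DCoh.D X) (hE : DCoh.IsPerfect E) (i : ℤ) (r : ℕ)
    (f : Y ⟶ X) (V : Y.Modules) (hV : FlatMod.IsFinLocFreeOfRank r V)
    (φ : (DCoh.Lpull f).obj E ≅ sgl Y i V) (y : Y) : f y ∈ sSup (goodOpens E i r) := by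
  obtain ⟨V₀, hxV₀, P, hP, ⟨e⟩⟩ := (isPerfect_iff E).1 hE (f y)
  have hP' : DCoh.IsStrictlyPerfect P := hP
  let K : Type u := ↑(Y.residueField y)
  letI : Field K := inferInstanceAs (Field (Y.residueField y))
  let t : Spec (CommRingCat.of K) ⟶ Y := Y.fromSpecResidueField y
  have hts : ∀ s : ↥(Spec (CommRingCat.of K)), t s = y := fun s =>
    Scheme.fromSpecResidueField_apply y s
  let g : Spec (CommRingCat.of K) ⟶ X := t ≫ f
  have hgs : ∀ s : ↥(Spec (CommRingCat.of K)), g s = f y := by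
    intro s
    show (t ≫ f) s = f y
    rw [Scheme.Hom.comp_apply, hts s]
  have hr : Set.range g ⊆ Set.range V₀.ι := by
    rw [Scheme.Opens.range_ι]
    rintro _ ⟨s, rfl⟩
    rw [hgs s]
    exact hxV₀
  let g₀ : Spec (CommRingCat.of K) ⟶ (V₀ : Scheme.{u}) := IsOpenImmersion.lift V₀.ι g hr
  have hg₀ : g₀ ≫ V₀.ι = g := IsOpenImmersion.lift_fac _ _ hr
  let V'' : (Spec (CommRingCat.of K)).Modules := (Scheme.Modules.pullback t).obj V
  have hV'' : FlatMod.IsFinLocFreeOfRank r V'' := PBH8.isFinLocFreeOfRank_pullback t hV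
  have hVf : FlatMod.IsFinLocFree V := fun x => by
    obtain ⟨U, hx, h⟩ := hV x
    exact ⟨U, r, hx, h⟩
  obtain ⟨c1⟩ := nonempty_Lpull_DD_iso g₀ V₀.ι g hg₀ E
  obtain ⟨c2⟩ := LpullQCL.lpull_comp_obj_iso t f E
  obtain ⟨c3⟩ := nonempty_Lpull_sgl t i V hVf
  have hFC : Nonempty ((DCoh.Lpull g₀).obj (Q.obj P) ≅ sgl _ i V'') :=
    ⟨(DCoh.Lpull g₀).mapIso e.symm ≪≫ c1.symm ≪≫ c2 ≪≫ (DCoh.Lpull t).mapIso φ ≪≫ c3⟩
  obtain ⟨T, j, hj, hjr, ⟨ψ⟩⟩ := LS i r K P hP' g₀ V'' hV'' hFC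
  haveI := hj
  obtain ⟨c4⟩ := nonempty_DD_comp_iso j V₀.ι E
  have hmem : (j ≫ V₀.ι).opensRange ∈ goodOpens E i r :=
    ⟨T, j ≫ V₀.ι, inferInstance, rfl, ⟨c4 ≪≫ (DD j).mapIso e ≪≫ ψ⟩⟩
  refine (le_sSup hmem : (j ≫ V₀.ι).opensRange ≤ sSup (goodOpens E i r)) ?_
  let s₀ : ↥(Spec (CommRingCat.of K)) := (default : PrimeSpectrum K)
  obtain ⟨τ, hτ⟩ := hjr s₀
  show f y ∈ Set.range (j ≫ V₀.ι)
  refine ⟨τ, ?_⟩
  rw [Scheme.Hom.comp_apply, hτ, ← Scheme.Hom.comp_apply, hg₀]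
  exact hgs s₀

/-- **S1064** -/
theorem main1064 (X : Scheme.{u}) (E : DCoh.D X) (hE : DCoh.IsPerfect E) (i : ℤ) (r : ℕ) :
    ∃ U : X.Opens, ∀ (Y : Scheme.{u}) (f : Y ⟶ X) [DCoh.HasLpull f],
      Set.range f.base ⊆ (U : Set X) ↔
        ∃ V : Y.Modules, FlatMod.IsFinLocFreeOfRank r V ∧
          Nonempty ((DCoh.Lpull f).obj E ≅ (DCoh.inD Y V)⟦-i⟧) := by
  refine ⟨sSup (goodOpens E i r), fun Y f _ => ⟨fun hsub => ?_, fun hV => ?_⟩⟩
  · obtain ⟨V, hV, ⟨e⟩⟩ := forward E i r f (fun y => hsub ⟨y, rfl⟩)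
    obtain ⟨c⟩ := nonempty_sgl_shift i V
    exact ⟨V, hV, ⟨e ≪≫ c⟩⟩
  · obtain ⟨V, hV, ⟨φ⟩⟩ := hV
    obtain ⟨c⟩ := nonempty_sgl_shift i V
    rintro _ ⟨y, rfl⟩
    exact backward E hE i r f V hV (φ ≪≫ c.symm) y

end Groth.Agent.Lib.PerfLocL
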