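import Mathlib
import Groth.Prelude
import Groth.Agent.Lib.DMod14_helper6
import Groth.Agent.Lib.TruncSect_helper7
import Groth.Agent.Lib.SDivFree_helper8
import Groth.Agent.Lib.PerfLoc2_lead

/-!
# Vanishing of morphisms out of a perfect complex: abstract part and the affine case (lead)
-/

set_option autoImplicit false
set_option linter.all false
set_option maxHeartbeats 1600000
set_option backward.isDefEq.respectTransparency false
set_option backward.isDefEq.respectTransparency.types false
set_option backward.defeqAttrib.useBackward true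

universe w v u' u
open CategoryTheory CategoryTheory.Limits AlgebraicGeometry Opposite TopologicalSpace
open DerivedCategory CategoryTheory.Pretriangulated
attribute [local instance] HasDerivedCategory.standard

namespace Groth.Agent.Lib.HomVanL

open Groth.Agent.Lib Groth.Agent.Lib.DCohLocLead Groth.Agent.Lib.PerfLocL

/-! ### Abstract nonsense -/

section Abstract

variable {C : Type*} [Category C] [Preadditive C]

/-- there are no nonzero morphisms `K ⟶ L` -/
def NoHom (K L : C) : Prop := ∀ φ : K ⟶ L, φ = 0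

theorem NoHom.of_iso_left {K K' L : C} (h : NoHom K L) (e : K ≅ K') : NoHom K' L := fun φ => by
  have h1 := h (e.hom ≫ φ)
  rw [← cancel_epi e.hom, h1, comp_zero]

theorem NoHom.of_iso_right {K L L' : C} (h : NoHom K L) (e : L ≅ L') : NoHom K L' := fun φ => by
  have h1 := h (φ ≫ e.inv)
  rw [← cancel_mono e.inv, h1, zero_comp]

theorem NoHom.of_isZero_left {K L : C} (h : IsZero K) : NoHom K L := fun φ => h.eq_of_src _ _

theorem NoHom.of_isZero_right {K L : C} (h : IsZero L) : NoHom K L := fun φ => h.eq_of_tgt _ _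

theorem NoHom.of_adj {D : Type*} [Category D] [Preadditive D] {F : C ⥤ D} {G : D ⥤ C}
    (adj : F ⊣ G) {A : C} {M : D} (h : NoHom (F.obj A) M) : NoHom A (G.obj M) := fun ψ =>
  (adj.homEquiv A M).symm.injective ((h _).trans (h _).symm)

theorem NoHom.of_adj' {D : Type*} [Category D] [Preadditive D] {F : C ⥤ D} {G : D ⥤ C}
    (adj : F ⊣ G) {A : C} {M : D} (h : NoHom A (G.obj M)) : NoHom (F.obj A) M := fun ψ =>
  (adj.homEquiv A M).injective ((h _).trans (h _).symm)

theorem NoHom.biprod {K A B : C} [HasBinaryBiproduct A B] (hA : NoHom K A) (hB : NoHom K B) :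
    NoHom K (A ⊞ B) := fun φ =>
  biprod.hom_ext _ _ ((hA _).trans (hA _).symm) ((hB _).trans (hB _).symm)

variable [HasShift C ℤ]

theorem NoHom.shift_right {K L : C} (n n' : ℤ) (hn : n + n' = 0) (h : NoHom (K⟦n'⟧) L) :
    NoHom K (L⟦n⟧) := fun g => by
  have h' : NoHom (K⟦n'⟧) ((L⟦n⟧)⟦n'⟧) :=
    h.of_iso_right ((shiftFunctorCompIsoId C n n' hn).app L).symm
  exact (shiftFunctor C n').map_injective ((h' _).trans (h' _).symm)

variable [HasZeroObject C] [∀ n : ℤ, (shiftFunctor C n).Additive] [Pretriangulated C]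

theorem NoHom.ext_left {L : C} (T : Triangle C) (hT : T ∈ distTriang C) (h1 : NoHom T.obj₁ L)
    (h3 : NoHom T.obj₃ L) : NoHom T.obj₂ L := fun φ => by
  obtain ⟨g, hg⟩ := Triangle.yoneda_exact₂ T hT φ (h1 _)
  rw [hg, h3 g, comp_zero]

theorem NoHom.ext_right {K : C} (T : Triangle C) (hT : T ∈ distTriang C) (h1 : NoHom K T.obj₁)
    (h3 : NoHom K T.obj₃) : NoHom K T.obj₂ := fun φ => by
  obtain ⟨g, hg⟩ := Triangle.coyoneda_exact₂ T hT φ (h3 _)
  rw [hg, h1 g, zero_comp]

/-- maps from a shifted extension -/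
theorem NoHom.ext_left_shift {L : C} (m : ℤ) (T : Triangle C) (hT : T ∈ distTriang C)
    (h1 : NoHom (T.obj₁⟦m⟧) L) (h3 : NoHom (T.obj₃⟦m⟧) L) : NoHom (T.obj₂⟦m⟧) L :=
  NoHom.ext_left ((Triangle.shiftFunctor C m).obj T) (Triangle.shift_distinguished T hT m) h1 h3

/-- the shape used in Mayer–Vietoris arguments -/
theorem NoHom.of_triangle_inv {K : C} (T : Triangle C) (hT : T ∈ distTriang C)
    (h2 : NoHom K T.obj₂) (h3 : NoHom K (T.obj₃⟦(-1 : ℤ)⟧)) : NoHom K T.obj₁ :=
  NoHom.ext_right T.invRotate (inv_rot_of_distTriang T hT) h3 h2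

end Abstract

/-! ### Induction on the length of a bounded complex -/

section Induction

variable {A : Type u'} [Category.{v} A] [Abelian A] [HasDerivedCategory.{w} A]

/-- induction along the brutal filtration (after helper2's `perfect_induction₀`) -/
theorem bounded_induction (P : DerivedCategory A → Prop)
    (hiso : ∀ {K K' : DerivedCategory A}, (K ≅ K') → P K → P K')
    (h0 : ∀ K : DerivedCategory A, IsZero K → P K)
    (hext : ∀ T : Triangle (DerivedCategory A), T ∈ distTriang _ → P T.obj₁ → P T.obj₃ →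
      P T.obj₂)
    (R : ℤ → A → Prop) (hR0 : ∀ (i : ℤ) (X : A), IsZero X → R i X)
    (hRiso : ∀ (i : ℤ) {X Y : A}, (X ≅ Y) → R i X → R i Y)
    (hsingle : ∀ (i : ℤ) (X : A), R i X → P ((DerivedCategory.singleFunctor A i).obj X))
    (n : ℕ) : ∀ (a : ℤ) (E : CochainComplex A ℤ), (∀ i, R i (E.X i)) →
      (∀ i, i < a → IsZero (E.X i)) → (∀ i, a + n ≤ i → IsZero (E.X i)) →
      P (DerivedCategory.Q.obj E) := by
  induction n with
  | zero =>
    intro a E _ ha hb
    apply h0
    have hE : IsZero E := by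
      rw [IsZero.iff_id_eq_zero]
      ext i : 1
      by_cases hi : i < a
      · exact (ha i hi).eq_of_src _ _
      · exact (hb i (by push_cast; omega)).eq_of_src _ _
    exact (DerivedCategory.Q).map_isZero hE
  | succ n ih =>
    intro a E hR ha hb
    let f : E ⟶ (HomologicalComplex.single A (ComplexShape.up ℤ) a).obj (E.X a) :=
      HomologicalComplex.mkHomToSingle (𝟙 _)
        (fun i hi => (ha i (by simp at hi; omega)).eq_of_src _ _)
    have hfa : IsIso (f.f a) := by
      rw [HomologicalComplex.mkHomToSingle_f]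
      infer_instance
    have htgt : ∀ i, i ≠ a →
        IsZero (((HomologicalComplex.single A (ComplexShape.up ℤ) a).obj (E.X a)).X i) :=
      fun i hi => HomologicalComplex.isZero_single_obj_X _ a _ i hi
    haveI : Epi f := by
      refine HomologicalComplex.epi_of_epi_f f (fun i => ?_)
      by_cases h : i = a
      · subst h; infer_instance
      · exact ⟨fun g h' _ => (htgt i h).eq_of_src g h'⟩
    have hS : (ShortComplex.kernelSequence f).ShortExact :=
      ShortComplex.ShortExact.mk' (ShortComplex.kernelSequence_exact f) inferInstance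
        (by show Epi f; infer_instance)
    let e : ∀ i, (kernel f).X i ≅ kernel (f.f i) := fun i =>
      PreservesKernel.iso (HomologicalComplex.eval _ _ i) f
    have hker_zero : ∀ i, IsZero (E.X i) → IsZero ((kernel f).X i) := fun i hi =>
      IsZero.of_iso (IsZero.of_mono (kernel.ι (f.f i)) hi) (e i)
    have hker_a : IsZero ((kernel f).X a) :=
      IsZero.of_iso (isZero_kernel_of_mono (f.f a)) (e a)
    have hker_iso : ∀ i, i ≠ a → Nonempty ((kernel f).X i ≅ E.X i) := fun i hi => by
      have h0' : f.f i = 0 := (htgt i hi).eq_of_tgt _ _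
      refine ⟨e i ≪≫ ?_⟩
      rw [h0']
      exact asIso (kernel.ι (0 : E.X i ⟶ _))
    have hRk : ∀ i, R i ((kernel f).X i) := by
      intro i
      by_cases h : i = a
      · subst h
        exact hR0 _ _ hker_a
      · obtain ⟨e'⟩ := hker_iso i h
        exact hRiso i e'.symm (hR i)
    have h1 : P (DerivedCategory.Q.obj (kernel f)) := by
      refine ih (a + 1) (kernel f) hRk (fun i hi => ?_) (fun i hi => ?_)
      · by_cases h : i = a
        · subst h; exact hker_a
        · exact hker_zero i (ha i (by omega))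
      · exact hker_zero i (hb i (by push_cast; omega))
    have h3 : P (DerivedCategory.Q.obj
        ((HomologicalComplex.single A (ComplexShape.up ℤ) a).obj (E.X a))) :=
      hsingle a (E.X a) (hR a)
    exact hext (triangleOfSES hS) (triangleOfSES_distinguished hS) h1 h3

end Induction

/-! ### Rings -/

section Ring

/-- maps out of a bounded K-projective complex vanish if the target has no cohomology in the
range of the complex -/
theorem noHom_Q_of_isZero_homology {A : Type u} [CommRing A]
    (P : CochainComplex (ModuleCat.{u} A) ℤ) [P.IsKProjective] (a b : ℤ)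
    (hP : ∀ i, i < a ∨ b < i → IsZero (P.X i)) (N : DerivedCategory (ModuleCat.{u} A))
    (hN : ∀ i, a ≤ i → i ≤ b → IsZero ((homologyFunctor (ModuleCat.{u} A) i).obj N)) :
    NoHom (Q.obj P) N := by
  intro ψ
  haveI : P.IsStrictlyLE b :=
    (CochainComplex.isStrictlyLE_iff P b).2 (fun i hi => hP i (Or.inr hi))
  let t : Triangulated.TStructure (DerivedCategory (ModuleCat.{u} A)) := TStructure.t
  haveI : t.IsLE (Q.obj P) b := inferInstanceAs ((Q.obj P).IsLE b)
  have hψ := t.liftTruncLT_ι ψ b (b + 1) rfl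
  haveI : DerivedCategory.IsLE ((t.truncLT (b + 1)).obj N) (a - 1) := by
    rw [DerivedCategory.isLE_iff]
    intro i hi
    by_cases hib : i ≤ b
    · haveI := TruncSect_helper7.isIso_homology_truncLTι N (b + 1) i (by omega)
      exact (hN i (by omega) hib).of_iso
        (asIso ((homologyFunctor _ i).map ((t.truncLTι (b + 1)).app N)))
    · exact TruncSect_helper7.isZero_homology_truncLT N (b + 1) i (by omega)
  have h0 : t.liftTruncLT ψ b (b + 1) rfl = 0 :=
    DMod_helper6.hom_eq_zero_of_isKProjective_of_isLE P (a - 1)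
      (fun i hi => hP i (Or.inl (by omega))) ((t.truncLT (b + 1)).obj N) _
  rw [← hψ, h0, zero_comp]

end Ring

/-! ### The affine case -/

section Affine

variable (R : CommRingCat.{u}) [PreservesFiniteLimits (tilde.functor R)]

theorem isZero_of_isZero_tilde (M : ModuleCat.{u} R) (h : IsZero ((tilde.functor R).obj M)) :
    IsZero M := by
  rw [IsZero.iff_id_eq_zero]
  apply (tilde.functor R).map_injective
  rw [CategoryTheory.Functor.map_id, Functor.map_zero]
  exact (IsZero.iff_id_eq_zero _).1 h

/-- `Hom(O[-k], L) = 0` if `H^k(L) = 0` -/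
theorem noHom_sgl_unit (k : ℤ) (L : DCoh.D (Spec (CommRingCat.of R))) (hL : DCoh.IsQCohD L)
    (hk : IsZero (DCoh.HD L k)) :
    NoHom ((singleFunctor (Spec (CommRingCat.of R)).Modules k).obj
      (Coh.structureModule (Spec (CommRingCat.of R)))) L := by
  obtain ⟨hfull, hfaith, hess⟩ := DSectX.main0997 R
  obtain ⟨N, ⟨e⟩⟩ := (hess L).1 hL
  refine NoHom.of_iso_right ?_ e
  have hN : IsZero ((homologyFunctor (ModuleCat.{u} R) k).obj N) := by
    obtain ⟨c⟩ := nonempty_homology_mapExact_iso (tilde.functor R) N k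
    apply isZero_of_isZero_tilde R
    exact (hk.of_iso ((homologyFunctor _ k).mapIso e)).of_iso c.symm
  have c : (singleFunctor (Spec (CommRingCat.of R)).Modules k).obj
      (Coh.structureModule (Spec (CommRingCat.of R))) ≅
      (DCoh.tildeD R).obj ((singleFunctor (ModuleCat.{u} R) k).obj (ModuleCat.of R R)) :=
    (((tilde.functor R).mapDerivedCategorySingleFunctor k).app (ModuleCat.of R R)).symm
  refine NoHom.of_iso_left ?_ c.symm
  intro φ
  haveI := hfull
  obtain ⟨ψ, rfl⟩ := (DCoh.tildeD R).map_surjective φ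
  haveI : Projective (ModuleCat.of R R) := inferInstance
  haveI := DMod_helper6.isKProjective_single (ModuleCat.of R R) k
  have hψ : ψ = 0 := noHom_Q_of_isZero_homology
    ((HomologicalComplex.single (ModuleCat.{u} R) (ComplexShape.up ℤ) k).obj (ModuleCat.of R R))
    k k (fun i hi => HomologicalComplex.isZero_single_obj_X _ k _ i (by omega)) N
    (fun i h1 h2 => by
      obtain rfl : i = k := by omega
      exact hN) ψ
  rw [hψ, Functor.map_zero]

theorem noHom_sgl_free (k : ℤ) (n : ℕ) (M : (Spec (CommRingCat.of R)).Modules)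
    (α : M ≅ FlatMod.freeMod (Spec (CommRingCat.of R)) n)
    (L : DCoh.D (Spec (CommRingCat.of R))) (hL : DCoh.IsQCohD L) (hk : IsZero (DCoh.HD L k)) :
    NoHom ((singleFunctor (Spec (CommRingCat.of R)).Modules k).obj M) L := by
  intro φ
  have hu := noHom_sgl_unit R k L hL hk
  have h1 : 𝟙 M = ∑ i : Fin n, (α.hom ≫ SDivFreeH8.projM i) ≫ (SDivFreeH8.ιM i ≫ α.inv) := by
    calc 𝟙 M = α.hom ≫ 𝟙 (FlatMod.freeMod _ n) ≫ α.inv := by simp
      _ = α.hom ≫ (∑ i : Fin n, SDivFreeH8.projM i ≫ SDivFreeH8.ιM i) ≫ α.inv := by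
          rw [← SDivFreeH8.id_eq_sumM]
      _ = _ := by
          rw [Preadditive.sum_comp, Preadditive.comp_sum]
          exact Finset.sum_congr rfl (fun i _ => by simp only [Category.assoc])
  have h2 : φ = (singleFunctor (Spec (CommRingCat.of R)).Modules k).map (𝟙 M) ≫ φ := by
    rw [CategoryTheory.Functor.map_id, Category.id_comp]
  rw [h2, h1, Functor.map_sum, Preadditive.sum_comp]
  refine Finset.sum_eq_zero (fun i _ => ?_)
  rw [Functor.map_comp, Category.assoc,
    hu ((singleFunctor (Spec (CommRingCat.of R)).Modules k).map (SDivFreeH8.ιM i ≫ α.inv) ≫ φ),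
    comp_zero]

/-- **the affine case**: a bounded complex of finite free modules on `Spec R` -/
theorem noHom_Q_strictlyFree (P : CochainComplex (Spec (CommRingCat.of R)).Modules ℤ) (a b : ℤ)
    (hv : DCoh.VanishesOutside P a b)
    (hfree : ∀ i, ∃ n : ℕ, Nonempty (P.X i ≅ FlatMod.freeMod (Spec (CommRingCat.of R)) n))
    (m : ℤ) (L : DCoh.D (Spec (CommRingCat.of R))) (hL : DCoh.IsQCohD L)
    (hz : ∀ i, a - m ≤ i → i ≤ b - m → IsZero (DCoh.HD L i)) :
    NoHom ((Q.obj P)⟦m⟧) L := by
  refine bounded_induction (A := (Spec (CommRingCat.of R)).Modules)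
    (fun Z => NoHom (Z⟦m⟧) L) ?_ ?_ ?_
    (fun i X => IsZero X ∨ (a ≤ i ∧ i ≤ b ∧
      ∃ n : ℕ, Nonempty (X ≅ FlatMod.freeMod (Spec (CommRingCat.of R)) n))) ?_ ?_ ?_
    (b + 1 - a).toNat a P ?_ ?_ ?_
  · intro K K' e h
    exact h.of_iso_left ((shiftFunctor _ m).mapIso e)
  · intro K hK
    exact NoHom.of_isZero_left ((shiftFunctor _ m).map_isZero hK)
  · intro T hT h1 h3
    exact NoHom.ext_left_shift m T hT h1 h3
  · intro i X hX
    exact Or.inl hX
  · intro i X Y e hX
    rcases hX with hX | ⟨h1, h2, n, ⟨c⟩⟩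
    · exact Or.inl (hX.of_iso e.symm)
    · exact Or.inr ⟨h1, h2, n, ⟨e.symm ≪≫ c⟩⟩
  · intro i X hX
    rcases hX with hX | ⟨h1, h2, n, ⟨c⟩⟩
    · exact NoHom.of_isZero_left ((shiftFunctor _ m).map_isZero ((singleFunctor _ i).map_isZero hX))
    · have h := noHom_sgl_free R (i - m) n X c L hL (hz (i - m) (by omega) (by omega))
      exact h.of_iso_left
        (((DerivedCategory.singleFunctors (Spec (CommRingCat.of R)).Modules).shiftIso m (i - m) i
          (by omega)).app X).symm
  · intro i
    by_cases hi : a ≤ i ∧ i ≤ b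
    · exact Or.inr ⟨hi.1, hi.2, hfree i⟩
    · exact Or.inl (hv i (by omega))
  · intro i hi
    exact hv i (Or.inl hi)
  · intro i hi
    have := Int.self_le_toNat (b + 1 - a)
    exact hv i (Or.inr (by omega))

end Affine

end Groth.Agent.Lib.HomVanL
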