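import Mathlib
import Groth.Prelude
import Groth.Agent.Lib.HomVan1_lead
import Groth.Agent.Lib.RpushQC_lead
import Groth.Agent.Lib.MVPush5_lead
import Groth.Agent.Lib.LpullAdj_helper3

/-!
# Vanishing of morphisms out of a perfect complex on a qcqs scheme (lead)
-/

set_option autoImplicit false
set_option linter.all false
set_option maxHeartbeats 1600000
set_option backward.isDefEq.respectTransparency false
set_option backward.isDefEq.respectTransparency.types false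
set_option backward.defeqAttrib.useBackward true

universe u
open CategoryTheory CategoryTheory.Limits AlgebraicGeometry Opposite TopologicalSpace
open DerivedCategory CategoryTheory.Pretriangulated
attribute [local instance] HasDerivedCategory.standard

namespace Groth.Agent.Lib.HomVanL

open Groth.Agent.Lib Groth.Agent.Lib.DCohLocLead Groth.Agent.Lib.PerfLocL

attribute [local instance] hasLpullInst

/-- derived pushforwards exist -/
local instance hasRpushInst {X Y : Scheme.{u}} (g : X ⟶ Y) : DCoh.HasRpush g :=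
  BCOpenL.hasRpush g

theorem nonempty_adj_DD {T X : Scheme.{u}} (j : T ⟶ X) [IsOpenImmersion j] :
    Nonempty (DD j ⊣ DCoh.Rpush j) := by
  obtain ⟨adj⟩ := LpullAdjH3.nonempty_adj j
  exact ⟨adj.ofNatIsoLeft (LpullLocH3.restrictDIsoLpull j).symm⟩

theorem isZero_HD_DD {T X : Scheme.{u}} (j : T ⟶ X) [IsOpenImmersion j] (L : DCoh.D X) (i : ℤ)
    (h : IsZero (DCoh.HD L i)) : IsZero (DCoh.HD ((DD j).obj L) i) := by
  obtain ⟨e⟩ := nonempty_HD_restrict_iso j L i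
  exact ((Scheme.Modules.restrictFunctor j).map_isZero h).of_iso e

theorem nonempty_DD_congr {T X : Scheme.{u}} {j j' : T ⟶ X} [IsOpenImmersion j]
    [IsOpenImmersion j'] (h : j = j') (K : DCoh.D X) :
    Nonempty ((DD j).obj K ≅ (DD j').obj K) := by
  subst h
  exact ⟨Iso.refl _⟩

theorem nonempty_DD_id {X : Scheme.{u}} (K : DCoh.D X) : Nonempty ((DD (𝟙 X)).obj K ≅ K) := by
  obtain ⟨c⟩ := nonempty_DD_id_iso (Q.objPreimage K)
  exact ⟨(DD (𝟙 X)).mapIso (Q.objObjPreimageIso K).symm ≪≫ c ≪≫ Q.objObjPreimageIso K⟩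

/-! ### The vanishing range property -/

/-- `K` admits no nonzero map from a shift `K[m]` to an object of `D_QCoh` without cohomology
in degrees `[a - m, b - m]` -/
def VR {T : Scheme.{u}} (K : DCoh.D T) (a b : ℤ) : Prop :=
  ∀ (m : ℤ) (K' : DCoh.D T), Nonempty (K' ≅ K⟦m⟧) → ∀ L : DCoh.D T, DCoh.IsQCohD L →
    (∀ i, a - m ≤ i → i ≤ b - m → IsZero (DCoh.HD L i)) → NoHom K' L

theorem VR.of_iso {T : Scheme.{u}} {K K₁ : DCoh.D T} {a b : ℤ} (h : VR K a b) (e : K ≅ K₁) :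
    VR K₁ a b := fun m K' hc L hL hz => by
  obtain ⟨c⟩ := hc
  exact h m K' ⟨c ≪≫ (shiftFunctor _ m).mapIso e.symm⟩ L hL hz

theorem VR.mono {T : Scheme.{u}} {K : DCoh.D T} {a b a' b' : ℤ} (h : VR K a b) (ha : a' ≤ a)
    (hb : b ≤ b') : VR K a' b' := fun m K' hc L hL hz =>
  h m K' hc L hL (fun i h1 h2 => hz i (by omega) (by omega))

theorem VR.of_iso_scheme {T₁ T₂ : Scheme.{u}} (α : T₁ ⟶ T₂) [IsIso α] {K : DCoh.D T₂} {a b : ℤ}
    (h : VR K a b) : VR ((DD α).obj K) a b := by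
  intro m K' hc L hL hz
  obtain ⟨c⟩ := hc
  obtain ⟨adj⟩ := nonempty_adj_DD α
  obtain ⟨ρ⟩ := RpushQCL.nonempty_Rpush_iso_restrictD α
  have θ : (DD α).obj (K⟦m⟧) ≅ ((DD α).obj K)⟦m⟧ := ((DD α).commShiftIso m).app K
  refine NoHom.of_iso_left ?_ (θ ≪≫ c.symm)
  refine NoHom.of_adj' adj ?_
  refine NoHom.of_iso_right ?_ (ρ.app L).symm
  exact h m _ ⟨Iso.refl _⟩ _ (LpullQCL.isQCohD_restrictD (inv α) L hL)
    (fun i h1 h2 => isZero_HD_DD (inv α) L i (hz i h1 h2))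

theorem VR.of_cover {T : Scheme.{u}} (U V : T.Opens) (hUV : U ⊔ V = ⊤) {K : DCoh.D T} {a b : ℤ}
    (hU : VR ((DD U.ι).obj K) a b) (hV : VR ((DD V.ι).obj K) a b)
    (hI : VR ((DD (U ⊓ V).ι).obj K) (a + 1) (b + 1)) : VR K a b := by
  intro m K' hc L hL hz
  obtain ⟨c⟩ := hc
  refine NoHom.of_iso_left ?_ c.symm
  obtain ⟨f, g, δ, hT⟩ := MVPushL.main6510 U V hUV L
  obtain ⟨adjU⟩ := nonempty_adj_DD U.ι
  obtain ⟨adjV⟩ := nonempty_adj_DD V.ι
  obtain ⟨adjI⟩ := nonempty_adj_DD (U ⊓ V).ι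
  have key : ∀ (W : T.Opens) (a' b' m' : ℤ) (K₁ : DCoh.D T), VR ((DD W.ι).obj K) a' b' →
      Nonempty (K₁ ≅ K⟦m'⟧) → (∀ i, a' - m' ≤ i → i ≤ b' - m' → IsZero (DCoh.HD L i)) →
      NoHom ((DD W.ι).obj K₁) ((DD W.ι).obj L) := by
    intro W a' b' m' K₁ hW hc' hz'
    obtain ⟨c'⟩ := hc'
    exact hW m' _ ⟨(DD W.ι).mapIso c' ≪≫ ((DD W.ι).commShiftIso m').app K⟩ _
      (LpullQCL.isQCohD_restrictD W.ι L hL) (fun i h1 h2 => isZero_HD_DD W.ι L i (hz' i h1 h2))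
  refine NoHom.of_triangle_inv (Triangle.mk f g δ) hT ?_ ?_
  · exact NoHom.biprod (NoHom.of_adj adjU (key U a b m _ hU ⟨Iso.refl _⟩ hz))
      (NoHom.of_adj adjV (key V a b m _ hV ⟨Iso.refl _⟩ hz))
  · refine NoHom.shift_right (-1) 1 (by norm_num) ?_
    refine NoHom.of_adj adjI ?_
    exact key (U ⊓ V) (a + 1) (b + 1) (m + 1) _ hI
      ⟨((shiftFunctorAdd' (DCoh.D T) m 1 (m + 1) rfl).app K).symm⟩
      (fun i h1 h2 => hz i (by omega) (by omega))

/-! ### Good opens -/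

/-- `K` is a bounded complex of finite free modules over `W` -/
def GoodOpen {X : Scheme.{u}} (K : DCoh.D X) (W : X.Opens) : Prop :=
  ∃ P : CochainComplex (W : Scheme.{u}).Modules ℤ, IsStrictlyFree P ∧
    Nonempty ((DD W.ι).obj K ≅ Q.obj P)

theorem GoodOpen.of_openImm {X T : Scheme.{u}} {K : DCoh.D X} (j : T ⟶ X) [IsOpenImmersion j]
    (P : CochainComplex T.Modules ℤ) (hP : IsStrictlyFree P) (e : (DD j).obj K ≅ Q.obj P)
    (W : X.Opens) (hW : W ≤ j.opensRange) : GoodOpen K W := by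
  have hr : Set.range W.ι ⊆ Set.range j := by
    rw [Scheme.Opens.range_ι]
    exact hW
  let γ : (W : Scheme.{u}) ⟶ T := IsOpenImmersion.lift j W.ι hr
  have hγ : γ ≫ j = W.ι := IsOpenImmersion.lift_fac _ _ hr
  haveI : IsOpenImmersion (γ ≫ j) := by
    rw [hγ]
    infer_instance
  haveI : IsOpenImmersion γ := IsOpenImmersion.of_comp γ j
  obtain ⟨c1⟩ := nonempty_DD_congr hγ.symm K
  obtain ⟨c2⟩ := nonempty_DD_comp_iso γ j K
  exact ⟨(RC γ).obj P, IsStrictlyFree.RC γ hP,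
    ⟨c1 ≪≫ c2 ≪≫ (DD γ).mapIso e ≪≫ facIso γ P⟩⟩

theorem GoodOpen.of_le {X : Scheme.{u}} {K : DCoh.D X} {O W : X.Opens} (h : GoodOpen K W)
    (hOW : O ≤ W) : GoodOpen K O := by
  obtain ⟨P, hP, ⟨e⟩⟩ := h
  refine GoodOpen.of_openImm W.ι P hP e O ?_
  rw [Scheme.Opens.opensRange_ι]
  exact hOW

theorem exists_good_nhd {X : Scheme.{u}} (K : DCoh.D X) (hK : DCoh.IsPerfect K) (S : X.Opens)
    (x : X) (hx : x ∈ S) :
    ∃ W : X.Opens, IsAffineOpen W ∧ x ∈ W ∧ W ≤ S ∧ GoodOpen K W := by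
  obtain ⟨V, hxV, P, hP, ⟨e⟩⟩ := (isPerfect_iff K).1 hK x
  have hP' : DCoh.IsStrictlyPerfect P := hP
  obtain ⟨W₁, hxW₁, hSF⟩ := exists_opens_isStrictlyFree hP' (⟨x, hxV⟩ : (V : Scheme.{u}))
  obtain ⟨e₁⟩ := nonempty_iso_comp W₁.ι V.ι e
  have hz : (W₁.ι ≫ V.ι) (⟨⟨x, hxV⟩, hxW₁⟩ : (W₁ : Scheme.{u})) = x := rfl
  have hxr : x ∈ (W₁.ι ≫ V.ι).opensRange ⊓ S := ⟨⟨_, hz⟩, hx⟩
  obtain ⟨W, hW, hxW, hWle⟩ := exists_isAffineOpen_mem_and_subset hxr
  exact ⟨W, hW, hxW, fun y hy => (hWle hy).2,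
    GoodOpen.of_openImm (W₁.ι ≫ V.ι) _ hSF e₁ W (fun y hy => (hWle hy).1)⟩

/-! ### The induction -/

/-- the vanishing range property over an open -/
def VRon {X : Scheme.{u}} (K : DCoh.D X) (S : X.Opens) : Prop :=
  ∃ a b : ℤ, VR ((DD S.ι).obj K) a b

theorem VRon.sup {X : Scheme.{u}} {K : DCoh.D X} {U V : X.Opens} (hU : VRon K U) (hV : VRon K V)
    (hI : VRon K (U ⊓ V)) : VRon K (U ⊔ V) := by
  obtain ⟨aU, bU, hU⟩ := hU
  obtain ⟨aV, bV, hV⟩ := hV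
  obtain ⟨aI, bI, hI⟩ := hI
  let Wo : X.Opens := U ⊔ V
  let U' : (Wo : Scheme.{u}).Opens := Wo.ι ⁻¹ᵁ U
  let V' : (Wo : Scheme.{u}).Opens := Wo.ι ⁻¹ᵁ V
  have hcov : U' ⊔ V' = ⊤ := by
    rw [eq_top_iff]
    rintro x -
    have hx : (Wo.ι x) ∈ U ⊔ V := x.2
    rcases hx with hx | hx
    · exact Or.inl hx
    · exact Or.inr hx
  have rU := RpushQCL.range_eq_of Wo U U' le_sup_left (fun y => Iff.rfl)
  have rV := RpushQCL.range_eq_of Wo V V' le_sup_right (fun y => Iff.rfl)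
  have rI := RpushQCL.range_eq_of Wo (U ⊓ V) (U' ⊓ V') (inf_le_left.trans le_sup_left)
    (fun y => Iff.rfl)
  have key : ∀ (O : X.Opens) (O' : (Wo : Scheme.{u}).Opens)
      (r : Set.range (O'.ι ≫ Wo.ι) = Set.range O.ι) (a b : ℤ),
      VR ((DD O.ι).obj K) a b → VR ((DD O'.ι).obj ((DD Wo.ι).obj K)) a b := by
    intro O O' r a b h
    have hα : (IsOpenImmersion.isoOfRangeEq (O'.ι ≫ Wo.ι) O.ι r).hom ≫ O.ι = O'.ι ≫ Wo.ι :=
      IsOpenImmersion.isoOfRangeEq_hom_fac _ _ r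
    obtain ⟨c1⟩ := nonempty_DD_comp_iso O'.ι Wo.ι K
    obtain ⟨c2⟩ := nonempty_DD_congr hα K
    obtain ⟨c3⟩ := nonempty_DD_comp_iso
      (IsOpenImmersion.isoOfRangeEq (O'.ι ≫ Wo.ι) O.ι r).hom O.ι K
    exact (h.of_iso_scheme (IsOpenImmersion.isoOfRangeEq (O'.ι ≫ Wo.ι) O.ι r).hom).of_iso
      (c3.symm ≪≫ c2 ≪≫ c1)
  have h1 : min aU (min aV (aI - 1)) ≤ aU := min_le_left _ _
  have h2 : min aU (min aV (aI - 1)) ≤ aV := (min_le_right _ _).trans (min_le_left _ _)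
  have h3 : min aU (min aV (aI - 1)) ≤ aI - 1 := (min_le_right _ _).trans (min_le_right _ _)
  have h4 : bU ≤ max bU (max bV (bI - 1)) := le_max_left _ _
  have h5 : bV ≤ max bU (max bV (bI - 1)) := (le_max_left _ _).trans (le_max_right _ _)
  have h6 : bI - 1 ≤ max bU (max bV (bI - 1)) := (le_max_right _ _).trans (le_max_right _ _)
  refine ⟨min aU (min aV (aI - 1)), max bU (max bV (bI - 1)), ?_⟩
  refine VR.of_cover U' V' hcov ?_ ?_ ?_
  · exact (key U U' rU _ _ hU).mono h1 h4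
  · exact (key V V' rV _ _ hV).mono h2 h5
  · exact (key (U ⊓ V) (U' ⊓ V') rI _ _ hI).mono (by omega) (by omega)

theorem VR_of_affine_strictlyFree (S : Scheme.{u}) [IsAffine S] (P : CochainComplex S.Modules ℤ)
    (hP : IsStrictlyFree P) : ∃ a b : ℤ, VR (Q.obj P) a b := by
  obtain ⟨⟨a, b, hv⟩, hfr⟩ := hP
  refine ⟨a, b, ?_⟩
  haveI := LpullQCL.preservesFiniteLimits_tilde Γ(S, ⊤)
  have hP' : IsStrictlyFree ((RC S.isoSpec.inv).obj P) :=
    IsStrictlyFree.RC S.isoSpec.inv ⟨⟨a, b, hv⟩, hfr⟩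
  have hbase : VR (Q.obj ((RC S.isoSpec.inv).obj P)) a b := by
    intro m K' hc L hL hz
    obtain ⟨c⟩ := hc
    refine NoHom.of_iso_left ?_ c.symm
    exact noHom_Q_strictlyFree Γ(S, ⊤) ((RC S.isoSpec.inv).obj P) a b
      (fun i hi => (Scheme.Modules.restrictFunctor S.isoSpec.inv).map_isZero (hv i hi))
      hP'.2 m L hL hz
  obtain ⟨c1⟩ := nonempty_DD_comp_iso S.isoSpec.hom S.isoSpec.inv (Q.obj P)
  obtain ⟨c2⟩ := nonempty_DD_congr S.isoSpec.hom_inv_id (Q.obj P)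
  obtain ⟨c3⟩ := nonempty_DD_id (Q.obj P)
  exact (hbase.of_iso_scheme S.isoSpec.hom).of_iso
    ((DD S.isoSpec.hom).mapIso (facIso S.isoSpec.inv P).symm ≪≫ c1.symm ≪≫ c2 ≪≫ c3)

theorem VRon_of_good {X : Scheme.{u}} [QuasiSeparatedSpace X] (K : DCoh.D X) (O : X.Opens)
    (hO : IsCompact (O : Set X)) (hg : GoodOpen K O) : VRon K O := by
  refine RpushQCL.qcqs_induction (fun O => GoodOpen K O → VRon K O) ?_ ?_ O hO hg
  · intro U hU hgU
    haveI : IsAffine (U : Scheme.{u}) := hU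
    obtain ⟨P, hP, ⟨e⟩⟩ := hgU
    obtain ⟨a, b, h⟩ := VR_of_affine_strictlyFree (U : Scheme.{u}) P hP
    exact ⟨a, b, h.of_iso e.symm⟩
  · intro U V hU hV hI hg'
    exact VRon.sup (hU (hg'.of_le le_sup_left)) (hV (hg'.of_le le_sup_right))
      (hI (hg'.of_le (inf_le_left.trans le_sup_left)))

theorem VRon_bot {X : Scheme.{u}} (K : DCoh.D X) : VRon K ⊥ := by
  refine ⟨0, 0, fun m K' _ L _ _ => NoHom.of_isZero_right ?_⟩
  apply MVPushL.isZero_of_forall_isZero_homology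
  intro i
  exact isZero_of_isZero_restrict (DCoh.HD L i) (fun e : Empty => e.elim)
    (fun x => False.elim x.2) (fun e => e.elim)

theorem VRon_of_isCompact {X : Scheme.{u}} [QuasiSeparatedSpace X] (K : DCoh.D X)
    (hK : DCoh.IsPerfect K) (S : X.Opens) (hS : IsCompact (S : Set X)) : VRon K S := by
  classical
  choose W hWaff hxW hWS hWg using fun x : S => exists_good_nhd K hK S x.1 x.2
  obtain ⟨t, ht⟩ := hS.elim_finite_subcover (fun x : S => ((W x : X.Opens) : Set X))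
    (fun x => (W x).isOpen) (fun x hx => Set.mem_iUnion.2 ⟨⟨x, hx⟩, hxW ⟨x, hx⟩⟩)
  have key : ∀ t' : Finset S, IsCompact ((t'.sup W : X.Opens) : Set X) ∧ VRon K (t'.sup W) := by
    intro t'
    induction t' using Finset.induction_on with
    | empty =>
      rw [Finset.sup_empty]
      exact ⟨by simp, VRon_bot K⟩
    | insert x t' hx ih =>
      rw [Finset.sup_insert]
      obtain ⟨hc, hv⟩ := ih
      have hcW : IsCompact ((W x : X.Opens) : Set X) := (hWaff x).isCompact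
      have hcI : IsCompact ((W x ⊓ t'.sup W : X.Opens) : Set X) :=
        QuasiSeparatedSpace.inter_isCompact _ _ (W x).isOpen hcW (t'.sup W).isOpen hc
      exact ⟨hcW.union hc, VRon.sup (VRon_of_good K _ hcW (hWg x)) hv
        (VRon_of_good K _ hcI ((hWg x).of_le inf_le_left))⟩
  have hEq : t.sup W = S := by
    apply le_antisymm
    · exact Finset.sup_le (fun x _ => hWS x)
    · intro y hy
      obtain ⟨x, hx⟩ := Set.mem_iUnion.1 (ht hy)
      obtain ⟨hxt, hyx⟩ := Set.mem_iUnion.1 hx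
      exact (Finset.le_sup hxt : W x ≤ t.sup W) hyx
  rw [← hEq]
  exact (key t).2

theorem exists_VR {X : Scheme.{u}} [CompactSpace X] [QuasiSeparatedSpace X] (K : DCoh.D X)
    (hK : DCoh.IsPerfect K) : ∃ a b : ℤ, VR K a b := by
  obtain ⟨a, b, h⟩ := VRon_of_isCompact K hK ⊤
    (by simpa using CompactSpace.isCompact_univ (X := X))
  refine ⟨a, b, ?_⟩
  obtain ⟨c1⟩ := nonempty_DD_comp_iso X.topIso.inv (⊤ : X.Opens).ι K
  obtain ⟨c2⟩ := nonempty_DD_congr X.toIso_inv_ι K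
  obtain ⟨c3⟩ := nonempty_DD_id K
  exact (h.of_iso_scheme X.topIso.inv).of_iso (c1.symm ≪≫ c2 ≪≫ c3)

/-- the shift of an object of `D_QCoh` -/
theorem isQCohD_shift {X : Scheme.{u}} (L : DCoh.D X) (hL : DCoh.IsQCohD L) (n : ℤ) :
    DCoh.IsQCohD (L⟦n⟧) := fun i =>
  (SheafOfModules.isQuasicoherent X.ringCatSheaf).prop_of_iso
    (((homologyFunctor X.Modules 0).shiftIso n i (n + i) rfl).app L).symm (hL (n + i))

/-- **S1011** -/
theorem main1011 (X : Scheme.{u}) [CompactSpace ↥X] [QuasiSeparatedSpace ↥X]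
    (K : DCoh.D X) (hK : DCoh.IsPerfect K) :
    (∃ a b : ℤ, a ≤ b ∧ ∀ L : DCoh.D X, DCoh.IsQCohD L →
      (∀ i : ℤ, a ≤ i → i ≤ b → IsZero (DCoh.HD L i)) → ∀ φ : K ⟶ L, φ = 0) ∧
    ∀ (L : DCoh.D X) (a' b' : ℤ), DCoh.IsQCohD L → DerivedCategory.IsGE L a' →
      DerivedCategory.IsLE L b' → {n : ℤ | ∃ φ : K ⟶ L⟦n⟧, φ ≠ 0}.Finite := by
  obtain ⟨a₀, b₀, h₀⟩ := exists_VR K hK
  have h : VR K a₀ (max a₀ b₀) := h₀.mono le_rfl (le_max_right _ _)
  have key : ∀ L : DCoh.D X, DCoh.IsQCohD L →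
      (∀ i, a₀ ≤ i → i ≤ max a₀ b₀ → IsZero (DCoh.HD L i)) → NoHom K L := by
    intro L hL hz
    exact h 0 K ⟨((shiftFunctorZero (DCoh.D X) ℤ).app K).symm⟩ L hL
      (fun i h1 h2 => hz i (by omega) (by omega))
  refine ⟨⟨a₀, max a₀ b₀, le_max_left _ _, fun L hL hz φ => key L hL hz φ⟩, ?_⟩
  intro L a' b' hL hge hle
  haveI := hge
  haveI := hle
  refine (Set.finite_Icc (a' - max a₀ b₀) (b' - a₀)).subset ?_
  rintro n ⟨φ, hφ⟩
  by_contra hn
  apply hφ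
  refine key (L⟦n⟧) (isQCohD_shift L hL n) ?_ φ
  intro i h1 h2
  have e := ((homologyFunctor X.Modules 0).shiftIso n i (n + i) rfl).app L
  refine IsZero.of_iso ?_ e
  rw [Set.mem_Icc, not_and_or, not_le, not_le] at hn
  rcases hn with hn | hn
  · exact DerivedCategory.isZero_of_isGE L a' (n + i) (by omega)
  · exact DerivedCategory.isZero_of_isLE L b' (n + i) (by omega)

end Groth.Agent.Lib.HomVanL
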