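import Mathlib
import Groth.Prelude
import Groth.Agent.Lib.HomVan2_lead
import Groth.Agent.Lib.TruncSect_helper7
import Groth.Agent.Lib.SubExt_helper9

/-!
# Vanishing of morphisms out of a perfect complex and truncations (lead; S1022, S1023)
-/

set_option autoImplicit false
set_option linter.all false
set_option maxHeartbeats 1600000
set_option backward.isDefEq.respectTransparency false
set_option backward.isDefEq.respectTransparency.types false
set_option backward.defeqAttrib.useBackward true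

universe u
open CategoryTheory CategoryTheory.Limits AlgebraicGeometry Opposite TopologicalSpace
open DerivedCategory CategoryTheory.Pretriangulated
attribute [local instance] HasDerivedCategory.standard

namespace Groth.Agent.Lib.HomVanL

open Groth.Agent.Lib Groth.Agent.Lib.DCohLocLead Groth.Agent.Lib.PerfLocL

section Trunc

variable {X : Scheme.{u}}

/-- the t-structure on `D(O_X)` -/
noncomputable abbrev tX (X : Scheme.{u}) : Triangulated.TStructure (DCoh.D X) :=
  DerivedCategory.TStructure.t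

theorem isQCoh_of_isZero (M : X.Modules) (hM : M.IsQuasicoherent) (Z : X.Modules)
    (hZ : IsZero Z) : Z.IsQuasicoherent := by
  haveI := hM
  haveI := SubExt.isQuasicoherent_kernel (𝟙 M)
  exact (SheafOfModules.isQuasicoherent X.ringCatSheaf).prop_of_iso
    ((isZero_kernel_of_mono (𝟙 M)).iso hZ) (inferInstance : (kernel (𝟙 M)).IsQuasicoherent)

theorem isQCohD_truncLE (E : DCoh.D X) (hE : DCoh.IsQCohD E) (c : ℤ) :
    DCoh.IsQCohD (((tX X).truncLE c).obj E) := by
  intro j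
  by_cases hj : j ≤ c
  · haveI : IsIso ((homologyFunctor X.Modules j).map (((tX X).truncLEι c).app E)) :=
      TruncSect_helper7.isIso_homology_truncLTι E (c + 1) j (by omega)
    exact (SheafOfModules.isQuasicoherent X.ringCatSheaf).prop_of_iso
      (asIso ((homologyFunctor X.Modules j).map (((tX X).truncLEι c).app E))).symm (hE j)
  · exact isQCoh_of_isZero _ (hE 0) _
      (DerivedCategory.isZero_of_isLE (((tX X).truncLE c).obj E) c j (by omega))

theorem isQCohD_truncGE (E : DCoh.D X) (hE : DCoh.IsQCohD E) (c : ℤ) :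
    DCoh.IsQCohD (((tX X).truncGE c).obj E) := by
  intro j
  by_cases hj : c ≤ j
  · haveI : IsIso ((homologyFunctor X.Modules j).map (((tX X).truncGEπ c).app E)) :=
      TruncTower_helper7.isIso_homology_truncGEπ E c j hj
    exact (SheafOfModules.isQuasicoherent X.ringCatSheaf).prop_of_iso
      (asIso ((homologyFunctor X.Modules j).map (((tX X).truncGEπ c).app E))) (hE j)
  · exact isQCoh_of_isZero _ (hE 0) _
      (DerivedCategory.isZero_of_isGE (((tX X).truncGE c).obj E) c j (by omega))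

theorem VR.noHom_shift {K : DCoh.D X} {a b : ℤ} (h : VR K a b) (m : ℤ) (L : DCoh.D X)
    (hL : DCoh.IsQCohD L) (hz : ∀ i, a - m ≤ i → i ≤ b - m → IsZero (DCoh.HD L i)) :
    NoHom (K⟦m⟧) L :=
  h m _ ⟨Iso.refl _⟩ L hL hz

theorem isZero_HD_shift (L : DCoh.D X) (n j : ℤ) (h : IsZero (DCoh.HD L (n + j))) :
    IsZero (DCoh.HD (L⟦n⟧) j) :=
  h.of_iso (((homologyFunctor X.Modules 0).shiftIso n j (n + j) rfl).app L)

end Trunc

/-- **S1022** -/
theorem main1022 (X : Scheme.{u}) [CompactSpace ↥X] [QuasiSeparatedSpace ↥X]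
    (P : DCoh.D X) (hP : DCoh.IsPerfect P) (E : DCoh.D X) (hE : DCoh.IsQCohD E) (a : ℤ) :
    (∃ N : ℤ, ∀ i : ℤ, N ≤ i → ∀ φ : P⟦-i⟧ ⟶ E, φ = 0) ↔
    (∃ N : ℤ, ∀ i : ℤ, N ≤ i → ∀ φ : P⟦-i⟧ ⟶
      ((DerivedCategory.TStructure.t : CategoryTheory.Triangulated.TStructure (DCoh.D X)).truncGE
        a).obj E, φ = 0) := by
  obtain ⟨a₀, b₀, h₀⟩ := exists_VR P hP
  have hT : ((tX X).triangleLEGE (a - 1) a (by omega)).obj E ∈ distTriang _ :=
    (tX X).triangleLEGE_distinguished (a - 1) a (by omega) E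
  have hM : DCoh.IsQCohD (((tX X).truncLE (a - 1)).obj E) := isQCohD_truncLE E hE (a - 1)
  have hMz : ∀ j, a ≤ j → IsZero (DCoh.HD (((tX X).truncLE (a - 1)).obj E) j) := fun j hj =>
    DerivedCategory.isZero_of_isLE (((tX X).truncLE (a - 1)).obj E) (a - 1) j (by omega)
  constructor
  · rintro ⟨N, hN⟩
    refine ⟨max N (a - 1 - a₀), fun i hi => ?_⟩
    have hi1 : N ≤ i := le_trans (le_max_left _ _) hi
    have hi2 : a - 1 - a₀ ≤ i := le_trans (le_max_right _ _) hi
    have h1 : NoHom (P⟦-i⟧) E := hN i hi1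
    have h3 : NoHom (P⟦-i⟧) ((((tX X).truncLE (a - 1)).obj E)⟦(1 : ℤ)⟧) := by
      refine h₀.noHom_shift (-i) _ (isQCohD_shift _ hM 1) (fun j hj1 hj2 => ?_)
      exact isZero_HD_shift _ 1 j (hMz (1 + j) (by omega))
    exact NoHom.ext_right (((tX X).triangleLEGE (a - 1) a (by omega)).obj E).rotate
      (rot_of_distTriang _ hT) h1 h3
  · rintro ⟨N, hN⟩
    refine ⟨max N (a - a₀), fun i hi => ?_⟩
    have hi1 : N ≤ i := le_trans (le_max_left _ _) hi
    have hi2 : a - a₀ ≤ i := le_trans (le_max_right _ _) hi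
    have h1 : NoHom (P⟦-i⟧) (((tX X).truncLE (a - 1)).obj E) :=
      h₀.noHom_shift (-i) _ hM (fun j hj1 hj2 => hMz j (by omega))
    have h3 : NoHom (P⟦-i⟧) (((tX X).truncGE a).obj E) := hN i hi1
    exact NoHom.ext_right (((tX X).triangleLEGE (a - 1) a (by omega)).obj E) hT h1 h3

/-- **S1023** -/
theorem main1023 (X : Scheme.{u}) [CompactSpace ↥X] [QuasiSeparatedSpace ↥X]
    (P : DCoh.D X) (hP : DCoh.IsPerfect P) (E : DCoh.D X) (hE : DCoh.IsQCohD E) (a : ℤ) :
    (∃ N : ℤ, ∀ i : ℤ, i ≤ N → ∀ φ : P⟦-i⟧ ⟶ E, φ = 0) ↔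
    (∃ N : ℤ, ∀ i : ℤ, i ≤ N → ∀ φ : P⟦-i⟧ ⟶
      ((DerivedCategory.TStructure.t : CategoryTheory.Triangulated.TStructure (DCoh.D X)).truncLE
        a).obj E, φ = 0) := by
  obtain ⟨a₀, b₀, h₀⟩ := exists_VR P hP
  have hT : ((tX X).triangleLEGE a (a + 1) rfl).obj E ∈ distTriang _ :=
    (tX X).triangleLEGE_distinguished a (a + 1) rfl E
  have hG : DCoh.IsQCohD (((tX X).truncGE (a + 1)).obj E) := isQCohD_truncGE E hE (a + 1)
  have hGz : ∀ j, j ≤ a → IsZero (DCoh.HD (((tX X).truncGE (a + 1)).obj E) j) := fun j hj =>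
    DerivedCategory.isZero_of_isGE (((tX X).truncGE (a + 1)).obj E) (a + 1) j (by omega)
  constructor
  · rintro ⟨N, hN⟩
    refine ⟨min N (a + 1 - b₀), fun i hi => ?_⟩
    have hi1 : i ≤ N := le_trans hi (min_le_left _ _)
    have hi2 : i ≤ a + 1 - b₀ := le_trans hi (min_le_right _ _)
    have h2 : NoHom (P⟦-i⟧) E := hN i hi1
    have h3 : NoHom (P⟦-i⟧) ((((tX X).truncGE (a + 1)).obj E)⟦(-1 : ℤ)⟧) := by
      refine h₀.noHom_shift (-i) _ (isQCohD_shift _ hG (-1)) (fun j hj1 hj2 => ?_)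
      exact isZero_HD_shift _ (-1) j (hGz (-1 + j) (by omega))
    exact NoHom.of_triangle_inv (((tX X).triangleLEGE a (a + 1) rfl).obj E) hT h2 h3
  · rintro ⟨N, hN⟩
    refine ⟨min N (a - b₀), fun i hi => ?_⟩
    have hi1 : i ≤ N := le_trans hi (min_le_left _ _)
    have hi2 : i ≤ a - b₀ := le_trans hi (min_le_right _ _)
    have h1 : NoHom (P⟦-i⟧) (((tX X).truncLE a).obj E) := hN i hi1
    have h3 : NoHom (P⟦-i⟧) (((tX X).truncGE (a + 1)).obj E) :=
      h₀.noHom_shift (-i) _ hG (fun j hj1 hj2 => hGz j (by omega))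
    exact NoHom.ext_right (((tX X).triangleLEGE a (a + 1) rfl).obj E) hT h1 h3

end Groth.Agent.Lib.HomVanL
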