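import Mathlib
import Groth.Prelude
import Groth.Agent.Lib.PCohFT3_lead
import Groth.Agent.Lib.PerfFlat5_lead
import Groth.Agent.Lib.GlDim_helper5
import Groth.Agent.Lib.TorLES_helper5

/-!
# Bounded coherent complexes on regular schemes are perfect (lead)

`isZero_tor_of_pdLT`, `hasFiniteTorDim_of_regular`, `main1005`.  APPEND-ONLY once landed.
-/

set_option autoImplicit false
set_option linter.all false
set_option maxHeartbeats 1600000
set_option backward.isDefEq.respectTransparency false
set_option backward.isDefEq.respectTransparency.types false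
set_option backward.defeqAttrib.useBackward true

universe u

open CategoryTheory CategoryTheory.Limits AlgebraicGeometry TopologicalSpace Opposite
open CategoryTheory.Pretriangulated

attribute [local instance] HasDerivedCategory.standard

namespace Groth.Agent.Lib.DCohLocLead

open DerSch Groth.Agent.Lib.TorAmpIdL

noncomputable section

open DerivedCategory

section Alg

variable {R : Type u} [CommRing R]

/-- projective dimension `≤ n` forces `Tor_p(M, -) = 0` for `p > n`. -/
theorem isZero_tor_of_pdLT : ∀ (n : ℕ) (M : ModuleCat.{u} R), HasProjectiveDimensionLT M (n + 1) →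
    ∀ (Y : ModuleCat.{u} R) (p : ℕ), n < p →
      IsZero (((Tor (ModuleCat.{u} R) p).obj M).obj Y) := by
  intro n
  induction n with
  | zero =>
    intro M hM Y p hp
    haveI : Projective M := projective_iff_hasProjectiveDimensionLT_one.2 hM
    haveI : Module.Projective R M := (IsProjective.iff_projective M).2 inferInstance
    haveI : Module.Flat R M := inferInstance
    obtain ⟨q, rfl⟩ : ∃ q, p = q + 1 := ⟨p - 1, by omega⟩
    exact Groth.Agent.TorLES.isZero_tor_succ_of_flat_left M Y q
  | succ n ih =>
    intro M hM Y p hp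
    obtain ⟨q, rfl⟩ : ∃ q, p = q + 1 := ⟨p - 1, by omega⟩
    let P : ModuleCat.{u} R := Projective.over M
    let π : P ⟶ M := Projective.π M
    let S : ShortComplex (ModuleCat.{u} R) :=
      ShortComplex.mk (kernel.ι π) π (kernel.condition π)
    haveI : Mono S.f := inferInstanceAs (Mono (kernel.ι π))
    haveI : Epi S.g := inferInstanceAs (Epi (Projective.π M))
    have hS : S.ShortExact := { exact := S.exact_of_f_is_kernel (kernelIsKernel π) }
    haveI : Projective S.X₂ := inferInstanceAs (Projective (Projective.over M))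
    haveI : Module.Projective R S.X₂ := (IsProjective.iff_projective S.X₂).2 inferInstance
    haveI : Module.Flat R S.X₂ := inferInstance
    have h₂ : HasProjectiveDimensionLT S.X₂ (n + 1) :=
      hasProjectiveDimensionLT_of_ge S.X₂ 1 (n + 1) (by omega)
    have hK : HasProjectiveDimensionLT S.X₁ (n + 1) :=
      hS.hasProjectiveDimensionLT_X₁ (n + 1) h₂ hM
    have h2 : IsZero (((Tor (ModuleCat.{u} R) (q + 1)).obj S.X₂).obj Y) :=
      Groth.Agent.TorLES.isZero_tor_succ_of_flat_left S.X₂ Y q
    have h1 : IsZero (((Tor (ModuleCat.{u} R) q).obj S.X₁).obj Y) :=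
      ih S.X₁ hK Y q (by omega)
    exact Groth.Agent.TorLES.isZero_tor_succ_right Y S hS q h2 h1

/-- every module over a regular local ring has finite tor dimension. -/
theorem hasFiniteTorDim_of_regular (R : Type u) [CommRing R] [IsRegularLocalRing R]
    (M : Type u) [AddCommGroup M] [Module R M] : DRing.HasFiniteTorDim R M := by
  obtain ⟨d, hd⟩ := Groth.Agent.GlDim.exists_dim R
  refine ⟨d, fun N _ _ p hp => ?_⟩
  have h := isZero_tor_of_pdLT d (ModuleCat.of R M)
    (Groth.Agent.GlDim.hasProjectiveDimensionLT_of_regular R d hd M) (ModuleCat.of R N) p hp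
  exact ModuleCat.subsingleton_of_isZero h

end Alg

/-! ### S1005 -/

theorem main1005 (X : Scheme.{u}) [IsLocallyNoetherian X]
    (hreg : ∀ x : X, IsRegularLocalRing (X.presheaf.stalk x))
    (K : DCoh.D X) (a b : ℤ) [K.IsGE a] [K.IsLE b] (hK : DCoh.IsCohD K) : DCoh.IsPerfect K := by
  let F : CochainComplex X.Modules ℤ := Q.objPreimage K
  let e : Q.obj F ≅ K := Q.objObjPreimageIso K
  haveI : (DCoh.toD X F).IsGE a := TStructure.t.isGE_of_iso e.symm a
  haveI : (DCoh.toD X F).IsLE b := TStructure.t.isLE_of_iso e.symm b
  have hX : ∀ (x : X) (M : Type u) [AddCommGroup M] [Module (X.presheaf.stalk x) M],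
      DRing.HasFiniteTorDim (X.presheaf.stalk x) M := fun x M _ _ => by
    haveI := hreg x
    exact hasFiniteTorDim_of_regular _ M
  have hpc : ∀ m : ℤ, DCoh.IsPseudoCoherentD m (DCoh.toD X F) := fun m =>
    isPC_of_iso e.symm (isPC_of_coh K b m inferInstance (fun i _ => hK i))
  exact isPerfect_of_iso e ((main6194 hX F a b).1 hpc)

end

end Groth.Agent.Lib.DCohLocLead
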