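import Mathlib
import Groth.Prelude
import Groth.Agent.Lib.PerfReg1_lead

/-!
# Perfect = bounded coherent on regular Noetherian schemes; K₀ (lead)

`isQCohD_of_isPerfect`, `exists_isGE_of_isPerfect`, `isPerfect_iff_bddCoh`, `main1111`.
APPEND-ONLY once landed.
-/

set_option autoImplicit false
set_option linter.all false
set_option maxHeartbeats 1600000
set_option backward.isDefEq.respectTransparency false
set_option backward.isDefEq.respectTransparency.types false
set_option backward.defeqAttrib.useBackward true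

universe u

open CategoryTheory CategoryTheory.Limits AlgebraicGeometry TopologicalSpace Opposite
open CategoryTheory.Pretriangulated

attribute [local instance] HasDerivedCategory.standard

namespace Groth.Agent.Lib.DCohLocLead

open DerSch Groth.Agent.Lib.TorAmpIdL

noncomputable section

open DerivedCategory

theorem isQCohD_of_isPerfect {X : Scheme.{u}} (K : DCoh.D X) (hK : DCoh.IsPerfect K) :
    DCoh.IsQCohD K :=
  fun i => (main7240 (i - 1) K (isPC_of_isPerfect hK (i - 1))).1 i (by omega)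

theorem exists_isGE_of_isPerfect {X : Scheme.{u}} [CompactSpace X] (K : DCoh.D X)
    (hK : DCoh.IsPerfect K) : ∃ a : ℤ, K.IsGE a := by
  choose V hxV P hP hiso using fun x => (isPerfect_iff K).1 hK x
  choose a b hab using fun x => (hP x).1
  obtain ⟨t, ht⟩ := isCompact_univ.elim_finite_subcover
    (fun x : X => ((V x : X.Opens) : Set X))
    (fun x => (V x).isOpen) (fun y _ => Set.mem_iUnion.2 ⟨y, hxV y⟩)
  have hzero : ∀ i : ℤ, (∀ x ∈ t, i < a x) → IsZero (DCoh.HD K i) := by
    intro i hi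
    refine isZero_of_isZero_restrict (DCoh.HD K i) (fun x : {x // x ∈ t} => V x.1) ?_ ?_
    · intro y
      have hy := ht (Set.mem_univ y)
      simp only [Set.mem_iUnion] at hy
      obtain ⟨x, hx, hyx⟩ := hy
      exact ⟨⟨x, hx⟩, hyx⟩
    · rintro ⟨x, hx⟩
      obtain ⟨e⟩ := hiso x
      obtain ⟨e1⟩ := nonempty_HD_restrict_iso (V x).ι K i
      have e2 : DCoh.HD ((DD (V x).ι).obj K) i ≅ (P x).homology i :=
        (homologyFunctor _ i).mapIso e ≪≫ (homologyFunctorFactors _ i).app (P x)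
      exact IsZero.of_iso
        (isZero_homology_of_isZero_X (P x) i (hab x i (Or.inl (hi x hx)))) (e1.symm ≪≫ e2)
  refine ⟨-(∑ x ∈ t, |a x|) - 1, ?_⟩
  rw [DerivedCategory.isGE_iff]
  intro i hi
  refine hzero i (fun x hx => ?_)
  have h1 : |a x| ≤ ∑ y ∈ t, |a y| :=
    Finset.single_le_sum (f := fun y => |a y|) (fun y _ => abs_nonneg _) hx
  have h2 := neg_abs_le (a x)
  omega

theorem isPerfect_iff_bddCoh (X : Scheme.{u}) [IsNoetherian X]
    (hreg : ∀ x : X, IsRegularLocalRing (X.presheaf.stalk x)) (K : DCoh.D X) :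
    DCoh.IsPerfect K ↔ (DCoh.IsCohD K ∧ ∃ a b : ℤ, K.IsGE a ∧ K.IsLE b) := by
  constructor
  · intro hK
    have hq := isQCohD_of_isPerfect K hK
    have h1 := fun m => (main1039 X K hq m).1 (isPC_of_isPerfect hK m)
    obtain ⟨a, ha⟩ := exists_isGE_of_isPerfect K hK
    obtain ⟨b, hb⟩ := (h1 0).2
    exact ⟨fun i => (h1 i).1 i le_rfl, a, b, ha, hb⟩
  · rintro ⟨hc, a, b, ha, hb⟩
    haveI := ha
    haveI := hb
    exact main1005 X hreg K a b hc

theorem main1111 (X : Scheme.{u}) [IsNoetherian X]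
    (hreg : ∀ x : X, IsRegularLocalRing (X.presheaf.stalk x)) :
    ∃ φ : KZero.K0tr (fun K : DCoh.D X => DCoh.IsPerfect K) ≃+
        KZero.K0tr (fun K : DCoh.D X => DCoh.IsCohD K ∧ ∃ a b : ℤ, K.IsGE a ∧ K.IsLE b),
      ∀ K : DCoh.D X, DCoh.IsPerfect K →
        φ (KZero.clTr (fun K : DCoh.D X => DCoh.IsPerfect K) K) =
          KZero.clTr (fun K : DCoh.D X => DCoh.IsCohD K ∧ ∃ a b : ℤ, K.IsGE a ∧ K.IsLE b) K := by
  have key : ∀ P' : ObjectProperty (DCoh.D X),
      ((fun K : DCoh.D X => DCoh.IsPerfect K : ObjectProperty (DCoh.D X)) = P') →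
      ∃ φ : KZero.K0tr (fun K : DCoh.D X => DCoh.IsPerfect K) ≃+ KZero.K0tr P',
        ∀ K : DCoh.D X, DCoh.IsPerfect K →
          φ (KZero.clTr (fun K : DCoh.D X => DCoh.IsPerfect K) K) = KZero.clTr P' K := by
    rintro _ rfl
    exact ⟨AddEquiv.refl _, fun _ _ => rfl⟩
  exact key _ (funext fun K => propext (isPerfect_iff_bddCoh X hreg K))

end

end Groth.Agent.Lib.DCohLocLead
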