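import Mathlib
import Groth.Prelude
import Groth.Agent.Lib.DSect4_lead
import Groth.Agent.Lib.HomVan1_lead

/-!
# Koszul complexes in the derived category of a ring (lead)

* `TorsAt f P N`: every morphism `P ⟶ N` is killed by a power of `f` (in a linear category);
* `torsAt_SA`, `isZero_H0_of_noHom`: `Hom(A, N)` versus `H⁰(N)` in `D(A)`;
* `KTri`: the distinguished triangle `K(l) --g--> K(l) ⟶ K(g :: l) ⟶`;
* `torsAt_Kz`, `noHom_SA_of_noHom_Kz`, `exists_kills_Kz`, `exists_factor`.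

APPEND-ONLY once landed.
-/

set_option autoImplicit false
set_option linter.all false
set_option maxHeartbeats 1600000
set_option backward.isDefEq.respectTransparency false
set_option backward.isDefEq.respectTransparency.types false
set_option backward.defeqAttrib.useBackward true

universe u
open CategoryTheory CategoryTheory.Limits Opposite
open DerivedCategory CategoryTheory.Pretriangulated
attribute [local instance] HasDerivedCategory.standard

namespace Groth.Agent.Lib.KoszL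

open Groth.Agent.Lib Groth.Agent.Lib.HomVanL Groth.Agent.Lib.DSectL

noncomputable section

/-! ### Torsion of morphisms in a linear category -/

section Abstract

variable {R : Type*} [CommRing R] {C : Type*} [Category C] [Preadditive C] [Linear R C]

/-- every morphism `P ⟶ N` is killed by a power of `f` -/
def TorsAt (f : R) (P N : C) : Prop := ∀ ψ : P ⟶ N, ∃ k : ℕ, (f ^ k) • ψ = 0

theorem TorsAt.of_iso_left {f : R} {P P' N : C} (h : TorsAt f P N) (e : P ≅ P') :
    TorsAt f P' N := fun ψ => by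
  obtain ⟨k, hk⟩ := h (e.hom ≫ ψ)
  refine ⟨k, ?_⟩
  have h1 : e.hom ≫ ((f ^ k) • ψ) = 0 := by rw [Linear.comp_smul]; exact hk
  exact (cancel_epi e.hom).1 (h1.trans comp_zero.symm)

theorem TorsAt.of_iso_right {f : R} {P N N' : C} (h : TorsAt f P N) (e : N ≅ N') :
    TorsAt f P N' := fun ψ => by
  obtain ⟨k, hk⟩ := h (ψ ≫ e.inv)
  refine ⟨k, ?_⟩
  have h1 : ((f ^ k) • ψ) ≫ e.inv = 0 := by rw [Linear.smul_comp]; exact hk
  exact (cancel_mono e.inv).1 (h1.trans zero_comp.symm)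

theorem noHom_of_torsAt_one {P N : C} (h : TorsAt (1 : R) P N) : NoHom P N := fun ψ => by
  obtain ⟨k, hk⟩ := h ψ
  rwa [one_pow, one_smul] at hk

theorem smul_id_comp {X Y : C} (r : R) (φ : X ⟶ Y) : (r • 𝟙 X) ≫ φ = r • φ := by
  rw [Linear.smul_comp, Category.id_comp]

theorem comp_smul_id {X Y : C} (r : R) (φ : X ⟶ Y) : φ ≫ (r • 𝟙 Y) = r • φ := by
  rw [Linear.comp_smul, Category.comp_id]

variable [HasZeroObject C] [HasShift C ℤ] [∀ n : ℤ, (shiftFunctor C n).Additive]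
  [Pretriangulated C]

theorem TorsAt.ext_left {f : R} {N : C} (T : Triangle C) (hT : T ∈ distTriang C)
    (h1 : TorsAt f T.obj₁ N) (h3 : TorsAt f T.obj₃ N) : TorsAt f T.obj₂ N := fun ψ => by
  obtain ⟨k, hk⟩ := h1 (T.mor₁ ≫ ψ)
  have hk' : T.mor₁ ≫ ((f ^ k) • ψ) = 0 := by rw [Linear.comp_smul]; exact hk
  obtain ⟨χ, hχ⟩ := Triangle.yoneda_exact₂ T hT _ hk'
  obtain ⟨k', hk2⟩ := h3 χ
  refine ⟨k' + k, ?_⟩
  rw [pow_add, mul_smul, hχ, ← Linear.comp_smul, hk2, comp_zero]

theorem TorsAt.ext_left_shift {f : R} {N : C} (m : ℤ) (T : Triangle C) (hT : T ∈ distTriang C)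
    (h1 : TorsAt f (T.obj₁⟦m⟧) N) (h3 : TorsAt f (T.obj₃⟦m⟧) N) : TorsAt f (T.obj₂⟦m⟧) N :=
  TorsAt.ext_left ((Triangle.shiftFunctor C m).obj T) (Triangle.shift_distinguished T hT m) h1 h3

/-- if `r` kills the second and third morphisms of a triangle, `r²` kills the third object -/
theorem kills_cone (T : Triangle C) (hT : T ∈ distTriang C) (r : R) (h2 : r • T.mor₂ = 0)
    (h3 : r • T.mor₃ = 0) : (r * r) • 𝟙 T.obj₃ = 0 := by
  have h : T.mor₂ ≫ (r • 𝟙 T.obj₃) = 0 := by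
    rw [Linear.comp_smul, Category.comp_id]; exact h2
  obtain ⟨χ, hχ⟩ := Triangle.yoneda_exact₃ T hT _ h
  rw [mul_smul, hχ, ← Linear.smul_comp, h3, zero_comp]

theorem NoHom.shift_left' {K L : C} (a b : ℤ) (hab : a + b = 0) (h : NoHom K (L⟦b⟧)) :
    NoHom (K⟦a⟧) L := fun φ => by
  let e : K ≅ (K⟦a⟧)⟦b⟧ := ((shiftFunctorCompIsoId C a b hab).app K).symm
  exact (shiftFunctor C b).map_injective ((cancel_epi e.hom).1 ((h _).trans (h _).symm))

variable [∀ n : ℤ, (shiftFunctor C n).Linear R]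

theorem TorsAt.shift_left {f : R} {P N : C} (a b : ℤ) (hab : a + b = 0)
    (h : TorsAt f P (N⟦b⟧)) : TorsAt f (P⟦a⟧) N := fun ψ => by
  let e : P ≅ (P⟦a⟧)⟦b⟧ := ((shiftFunctorCompIsoId C a b hab).app P).symm
  obtain ⟨k, hk⟩ := h (e.hom ≫ ψ⟦b⟧')
  refine ⟨k, ?_⟩
  apply (shiftFunctor C b).map_injective
  rw [CategoryTheory.Functor.map_smul, Functor.map_zero]
  have h1 : e.hom ≫ ((f ^ k) • ψ⟦b⟧') = 0 := by rw [Linear.comp_smul]; exact hk
  exact (cancel_epi e.hom).1 (h1.trans comp_zero.symm)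

theorem comp_shift_smul_id {X Y : C} (r : R) (φ : X ⟶ Y⟦(1 : ℤ)⟧) :
    φ ≫ (r • 𝟙 Y)⟦(1 : ℤ)⟧' = r • φ := by
  rw [CategoryTheory.Functor.map_smul, CategoryTheory.Functor.map_id, Linear.comp_smul,
    Category.comp_id]

end Abstract

/-! ### Morphisms out of `A` in `D(A)` -/

section Corep

variable {A : Type u} [CommRing A]

/-- `f`-power torsion modules -/
def HTm (f : A) (M : ModuleCat.{u} A) : Prop := ∀ x : M, ∃ k : ℕ, f ^ k • x = 0

theorem HTm.of_iso {f : A} {M M' : ModuleCat.{u} A} (h : HTm f M) (e : M ≅ M') :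
    HTm f M' := fun x => by
  obtain ⟨k, hk⟩ := h (e.inv.hom x)
  refine ⟨k, ?_⟩
  have h2 : e.hom.hom (e.inv.hom x) = x := by
    rw [← LinearMap.comp_apply, ← ModuleCat.hom_comp, e.inv_hom_id, ModuleCat.hom_id,
      LinearMap.id_apply]
  calc f ^ k • x = f ^ k • e.hom.hom (e.inv.hom x) := by rw [h2]
    _ = e.hom.hom (f ^ k • e.inv.hom x) := (map_smul _ _ _).symm
    _ = 0 := by rw [hk, map_zero]

theorem eq_zero_of_isZero {M : ModuleCat.{u} A} (h : IsZero M) (x : M) : x = 0 := by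
  have h1 : (𝟙 M : M ⟶ M) = 0 := h.eq_of_src _ _
  have h2 := congrArg (fun φ : M ⟶ M => φ.hom x) h1
  simpa using h2

theorem HTm.of_isZero {f : A} {M : ModuleCat.{u} A} (h : IsZero M) : HTm f M := fun x =>
  ⟨0, by rw [eq_zero_of_isZero h x, smul_zero]⟩

/-- the `i`-th cohomology module of `N` is `f`-power torsion -/
def HT (f : A) (N : DerivedCategory (ModuleCat.{u} A)) (i : ℤ) : Prop :=
  HTm f ((homologyFunctor (ModuleCat.{u} A) i).obj N)

theorem HT.of_iso {f : A} {N N' : DerivedCategory (ModuleCat.{u} A)} {i : ℤ} (h : HT f N i)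
    (e : N ≅ N') : HT f N' i :=
  HTm.of_iso h ((homologyFunctor _ i).mapIso e)

theorem HT.shift {f : A} {N : DerivedCategory (ModuleCat.{u} A)} (n i i' : ℤ) (hi : n + i = i')
    (h : HT f N i') : HT f (N⟦n⟧) i :=
  HTm.of_iso h (((homologyFunctor (ModuleCat.{u} A) 0).shiftIso n i i' hi).app N).symm

/-- the unit object -/
abbrev SA (A : Type u) [CommRing A] : DerivedCategory (ModuleCat.{u} A) :=
  (DerivedCategory.singleFunctor (ModuleCat.{u} A) 0).obj (ModuleCat.of A A)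

instance isKProjective_SA : CochainComplex.IsKProjective
    ((CochainComplex.singleFunctor (ModuleCat.{u} A) 0).obj (ModuleCat.of A A)) :=
  DMod_helper6.isKProjective_single (ModuleCat.of A A) 0

lemma exists_cycle_of_isKProjective {P : ModuleCat.{u} A}
    [CochainComplex.IsKProjective ((CochainComplex.singleFunctor (ModuleCat.{u} A) 0).obj P)]
    (K : CochainComplex (ModuleCat.{u} A) ℤ)
    (σ : (DerivedCategory.singleFunctor (ModuleCat.{u} A) 0).obj P ⟶ Q.obj K) :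
    ∃ (c : P ⟶ K.X 0) (hc : c ≫ K.d 0 1 = 0), thetaC K c hc = σ := by
  obtain ⟨g, hg⟩ := (CochainComplex.IsKProjective.Qh_map_bijective
    ((CochainComplex.singleFunctor (ModuleCat.{u} A) 0).obj P)
    ((HomotopyCategory.quotient (ModuleCat.{u} A) (ComplexShape.up ℤ)).obj K)).2 σ
  obtain ⟨γ, rfl⟩ :=
    (HomotopyCategory.quotient (ModuleCat.{u} A) (ComplexShape.up ℤ)).map_surjective g
  obtain ⟨c, hc, rfl⟩ := eq_fromSingle γ
  exact ⟨c, hc, hg⟩

lemma boundary_of_isKProjective {P : ModuleCat.{u} A}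
    [CochainComplex.IsKProjective ((CochainComplex.singleFunctor (ModuleCat.{u} A) 0).obj P)]
    (K : CochainComplex (ModuleCat.{u} A) ℤ) (c : P ⟶ K.X 0) (hc : c ≫ K.d 0 1 = 0)
    (h : thetaC K c hc = 0) : ∃ w : P ⟶ K.X (-1), w ≫ K.d (-1) 0 = c := by
  have h0 : (HomotopyCategory.quotient (ModuleCat.{u} A) (ComplexShape.up ℤ)).map
      (HDSheaf_helper7.fromSingle c hc) = 0 := by
    apply (CochainComplex.IsKProjective.Qh_map_bijective
      ((CochainComplex.singleFunctor (ModuleCat.{u} A) 0).obj P) _).1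
    exact h.trans (Functor.map_zero DerivedCategory.Qh _ _).symm
  have h1 : (HomotopyCategory.quotient (ModuleCat.{u} A) (ComplexShape.up ℤ)).map
      (HDSheaf_helper7.fromSingle c hc) =
      (HomotopyCategory.quotient (ModuleCat.{u} A) (ComplexShape.up ℤ)).map 0 :=
    h0.trans (Functor.map_zero _ _ _).symm
  exact exists_boundary_of_homotopy c hc (HomotopyCategory.homotopyOfEq _ _ h1)

lemma fromSingle_smul {P : ModuleCat.{u} A} {K : CochainComplex (ModuleCat.{u} A) ℤ} (r : A)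
    (c : P ⟶ K.X 0) (hc : c ≫ K.d 0 1 = 0) (hc' : (r • c) ≫ K.d 0 1 = 0) :
    HDSheaf_helper7.fromSingle (r • c) hc' = r • HDSheaf_helper7.fromSingle c hc := by
  apply HomologicalComplex.from_single_hom_ext
  rw [HomologicalComplex.smul_f_apply, HomologicalComplex.mkHomFromSingle_f,
    HomologicalComplex.mkHomFromSingle_f, Linear.comp_smul]

lemma thetaC_smul {P : ModuleCat.{u} A} {K : CochainComplex (ModuleCat.{u} A) ℤ} (r : A)
    (c : P ⟶ K.X 0) (hc : c ≫ K.d 0 1 = 0) (hc' : (r • c) ≫ K.d 0 1 = 0) :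
    thetaC K (r • c) hc' = r • thetaC K c hc := by
  show Q.map (HDSheaf_helper7.fromSingle (r • c) hc') =
    r • Q.map (HDSheaf_helper7.fromSingle c hc)
  rw [fromSingle_smul r c hc hc', CategoryTheory.Functor.map_smul]

/-- morphisms `A ⟶ N` are `f`-power torsion if `H⁰(N)` is -/
theorem torsAt_SA (f : A) (N : DerivedCategory (ModuleCat.{u} A)) (h : HT f N 0) :
    TorsAt f (SA A) N := by
  let N' : CochainComplex (ModuleCat.{u} A) ℤ := Q.objPreimage N
  let e : Q.obj N' ≅ N := Q.objObjPreimageIso N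
  refine TorsAt.of_iso_right ?_ e
  have h' : HT f (Q.obj N') 0 := h.of_iso e.symm
  let S : ShortComplex (ModuleCat.{u} A) := N'.sc' (-1) 0 1
  have hH : HTm f S.moduleCatLeftHomologyData.H :=
    HTm.of_iso h' ((homologyFunctorFactors (ModuleCat.{u} A) 0).app N' ≪≫
      N'.homologyIsoSc' (-1) 0 1 (by simp) (by simp) ≪≫ S.moduleCatHomologyIso)
  intro ψ
  obtain ⟨c, hc, rfl⟩ := exists_cycle_of_isKProjective N' ψ
  have hz : S.g.hom (c.hom 1) = 0 := by
    have h1 := congrArg (fun φ : ModuleCat.of A A ⟶ N'.X 1 => φ.hom (1 : A)) hc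
    show (N'.d 0 1).hom (c.hom 1) = 0
    simpa using h1
  obtain ⟨k, hk⟩ := hH (Submodule.Quotient.mk ⟨c.hom 1, LinearMap.mem_ker.2 hz⟩)
  refine ⟨k, ?_⟩
  have hmem : f ^ k • (⟨c.hom 1, LinearMap.mem_ker.2 hz⟩ : LinearMap.ker S.g.hom) ∈
      LinearMap.range S.moduleCatToCycles := by
    rw [← Submodule.Quotient.mk_eq_zero, Submodule.Quotient.mk_smul]
    exact hk
  obtain ⟨w0, hw0⟩ := hmem
  have hw0' : (N'.d (-1) 0).hom w0 = f ^ k • c.hom 1 := congrArg Subtype.val hw0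
  let w : ModuleCat.of A A ⟶ N'.X (-1) := ModuleCat.ofHom (LinearMap.toSpanSingleton A _ w0)
  have hw : w ≫ N'.d (-1) 0 = (f ^ k) • c := by
    apply ModuleCat.hom_ext
    apply LinearMap.ext_ring
    rw [ModuleCat.hom_comp, LinearMap.comp_apply, ModuleCat.hom_smul, LinearMap.smul_apply]
    show (N'.d (-1) 0).hom (LinearMap.toSpanSingleton A _ w0 1) = _
    rw [LinearMap.toSpanSingleton_apply, one_smul, hw0']
  have hc' : ((f ^ k) • c) ≫ N'.d 0 1 = 0 := by rw [Linear.smul_comp, hc, smul_zero]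
  rw [← thetaC_smul (f ^ k) c hc hc']
  exact thetaC_eq_zero_of_boundary _ hc' w hw

/-- `H⁰(N) = 0` if there are no nonzero morphisms `A ⟶ N` -/
theorem isZero_H0_of_noHom (N : DerivedCategory (ModuleCat.{u} A)) (h : NoHom (SA A) N) :
    IsZero ((homologyFunctor (ModuleCat.{u} A) 0).obj N) := by
  let N' : CochainComplex (ModuleCat.{u} A) ℤ := Q.objPreimage N
  let e : Q.obj N' ≅ N := Q.objObjPreimageIso N
  have h' : NoHom (SA A) (Q.obj N') := h.of_iso_right e.symm
  refine IsZero.of_iso ?_ ((homologyFunctor _ 0).mapIso e.symm ≪≫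
    (homologyFunctorFactors (ModuleCat.{u} A) 0).app N')
  show IsZero (N'.homology 0)
  rw [← HomologicalComplex.exactAt_iff_isZero_homology,
    HomologicalComplex.exactAt_iff' N' (-1) 0 1 (by simp) (by simp),
    ShortComplex.moduleCat_exact_iff]
  intro z hz
  let c : ModuleCat.of A A ⟶ N'.X 0 := ModuleCat.ofHom (LinearMap.toSpanSingleton A _ z)
  have hc : c ≫ N'.d 0 1 = 0 := by
    apply ModuleCat.hom_ext
    apply LinearMap.ext_ring
    rw [ModuleCat.hom_comp, LinearMap.comp_apply]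
    show (N'.d 0 1).hom (LinearMap.toSpanSingleton A _ z 1) = 0
    rw [LinearMap.toSpanSingleton_apply, one_smul]
    exact hz
  obtain ⟨w, hw⟩ := boundary_of_isKProjective N' c hc (h' _)
  refine ⟨w.hom 1, ?_⟩
  have h1 := congrArg (fun φ : ModuleCat.of A A ⟶ N'.X 0 => φ.hom (1 : A)) hw
  simp only [ModuleCat.hom_comp, LinearMap.comp_apply] at h1
  refine h1.trans ?_
  show LinearMap.toSpanSingleton A _ z 1 = z
  rw [LinearMap.toSpanSingleton_apply, one_smul]

theorem homologyMap_smul_id (K : CochainComplex (ModuleCat.{u} A) ℤ) (r : A) (i : ℤ) :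
    HomologicalComplex.homologyMap (r • 𝟙 K) i = r • 𝟙 (K.homology i) := by
  have h1 : HomologicalComplex.cyclesMap (r • 𝟙 K) i = r • 𝟙 _ := by
    rw [← cancel_mono (K.iCycles i), HomologicalComplex.cyclesMap_i,
      HomologicalComplex.smul_f_apply, HomologicalComplex.id_f, Linear.comp_smul,
      Category.comp_id, Linear.smul_comp, Category.id_comp]
  rw [← cancel_epi (K.homologyπ i), HomologicalComplex.homologyπ_naturality, h1,
    Linear.smul_comp, Category.id_comp, Linear.comp_smul, Category.comp_id]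

theorem homology_map_smul_id_apply (K : CochainComplex (ModuleCat.{u} A) ℤ) (r : A) (i : ℤ)
    (x : (homologyFunctor (ModuleCat.{u} A) i).obj (Q.obj K)) :
    ((homologyFunctor (ModuleCat.{u} A) i).map (r • 𝟙 (Q.obj K))).hom x = r • x := by
  have h1 : r • 𝟙 (Q.obj K) = Q.map (r • 𝟙 K) := by
    rw [CategoryTheory.Functor.map_smul, CategoryTheory.Functor.map_id]
  have h2 : (homologyFunctor (ModuleCat.{u} A) i).map (Q.map (r • 𝟙 K)) = r • 𝟙 _ := by
    have nat' : (homologyFunctor (ModuleCat.{u} A) i).map (Q.map (r • 𝟙 K)) ≫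
        (homologyFunctorFactors (ModuleCat.{u} A) i).hom.app K =
        (homologyFunctorFactors (ModuleCat.{u} A) i).hom.app K ≫
          HomologicalComplex.homologyMap (r • 𝟙 K) i :=
      (homologyFunctorFactors (ModuleCat.{u} A) i).hom.naturality (r • 𝟙 K)
    have e3 : (homologyFunctorFactors (ModuleCat.{u} A) i).hom.app K ≫
        HomologicalComplex.homologyMap (r • 𝟙 K) i =
        r • (homologyFunctorFactors (ModuleCat.{u} A) i).hom.app K := by
      rw [homologyMap_smul_id, Linear.comp_smul]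
      congr 1
    have e4 : (r • 𝟙 ((homologyFunctor (ModuleCat.{u} A) i).obj (Q.obj K))) ≫
        (homologyFunctorFactors (ModuleCat.{u} A) i).hom.app K =
        r • (homologyFunctorFactors (ModuleCat.{u} A) i).hom.app K := by
      rw [Linear.smul_comp]
      congr 1
    exact (Iso.cancel_iso_hom_right _ _ ((homologyFunctorFactors (ModuleCat.{u} A) i).app K)).1
      (nat'.trans (e3.trans e4.symm))
  rw [h1, h2, ModuleCat.hom_smul, LinearMap.smul_apply, ModuleCat.hom_id, LinearMap.id_apply]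

end Corep

/-! ### Koszul complexes -/

section Koszul

variable {A : Type u} [CommRing A]

/-- the Koszul complex as an object of `D(A)` -/
abbrev Kz (l : List A) : DerivedCategory (ModuleCat.{u} A) := Q.obj (Koszul.koszul A l)

/-- the triangle `K(l) --g--> K(l) ⟶ K(g :: l) ⟶ K(l)[1]` -/
def KTri (g : A) (l : List A) : Triangle (DerivedCategory (ModuleCat.{u} A)) :=
  Q.mapTriangle.obj (CochainComplex.mappingCone.triangle (g • 𝟙 (Koszul.koszul A l)))

theorem KTri_dist (g : A) (l : List A) : KTri g l ∈ distTriang _ :=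
  DerivedCategory.mappingCone_triangle_distinguished _

theorem KTri_mor₁ (g : A) (l : List A) : (KTri g l).mor₁ = g • 𝟙 (Kz l) := by
  show Q.map (g • 𝟙 (Koszul.koszul A l)) = _
  rw [CategoryTheory.Functor.map_smul, CategoryTheory.Functor.map_id]

theorem KTri_mor₁_comp (g : A) (l : List A) {N : DerivedCategory (ModuleCat.{u} A)}
    (χ : Kz l ⟶ N) : (KTri g l).mor₁ ≫ χ = g • χ :=
  (congrArg (fun t : Kz l ⟶ Kz l => t ≫ χ) (KTri_mor₁ g l)).trans (smul_id_comp g χ)

theorem comp_KTri_mor₁ (g : A) (l : List A) {N : DerivedCategory (ModuleCat.{u} A)}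
    (χ : N ⟶ Kz l) : χ ≫ (KTri g l).mor₁ = g • χ :=
  (congrArg (fun t : Kz l ⟶ Kz l => χ ≫ t) (KTri_mor₁ g l)).trans (comp_smul_id g χ)

theorem smul_KTri_mor₂ (g : A) (l : List A) : g • (KTri g l).mor₂ = 0 :=
  (KTri_mor₁_comp g l (KTri g l).mor₂).symm.trans
    (comp_distTriang_mor_zero₁₂ _ (KTri_dist g l))

theorem smul_KTri_mor₃ (g : A) (l : List A) : g • (KTri g l).mor₃ = 0 := by
  have e : (KTri g l).mor₃ ≫ (KTri g l).mor₁⟦(1 : ℤ)⟧' = g • (KTri g l).mor₃ :=
    (congrArg (fun t : Kz l ⟶ Kz l => (KTri g l).mor₃ ≫ t⟦(1 : ℤ)⟧') (KTri_mor₁ g l)).trans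
      (comp_shift_smul_id g (KTri g l).mor₃)
  exact e.symm.trans (comp_distTriang_mor_zero₃₁ _ (KTri_dist g l))

theorem smul_KTri_mor₂_of_kills (g : A) (l : List A) (r : A) (hr : r • 𝟙 (Kz l) = 0) :
    r • (KTri g l).mor₂ = 0 :=
  (smul_id_comp r (KTri g l).mor₂).symm.trans
    ((congrArg (fun t : Kz l ⟶ Kz l => t ≫ (KTri g l).mor₂) hr).trans zero_comp)

theorem smul_KTri_mor₃_of_kills (g : A) (l : List A) (r : A) (hr : r • 𝟙 (Kz l) = 0) :
    r • (KTri g l).mor₃ = 0 :=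
  (comp_shift_smul_id r (KTri g l).mor₃).symm.trans
    ((congrArg (fun t : Kz l ⟶ Kz l => (KTri g l).mor₃ ≫ t⟦(1 : ℤ)⟧') hr).trans
      ((congrArg (fun t : (Kz l)⟦(1 : ℤ)⟧ ⟶ (Kz l)⟦(1 : ℤ)⟧ => (KTri g l).mor₃ ≫ t)
        (Functor.map_zero _ _ _)).trans comp_zero))

theorem torsAt_SA_shift (f : A) (N : DerivedCategory (ModuleCat.{u} A)) (p : ℤ)
    (h : HT f N (-p)) : TorsAt f ((SA A)⟦p⟧) N :=
  TorsAt.shift_left p (-p) (by omega) (torsAt_SA f (N⟦-p⟧) (HT.shift (-p) 0 (-p) (by omega) h))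

theorem torsAt_Kz (f : A) (N : DerivedCategory (ModuleCat.{u} A)) : ∀ (l : List A) (m : ℤ),
    (∀ p : ℤ, m ≤ p → p ≤ m + l.length → TorsAt f ((SA A)⟦p⟧) N) →
      TorsAt f ((Kz l)⟦m⟧) N := by
  intro l
  induction l with
  | nil =>
    intro m h
    exact h m le_rfl (by simp)
  | cons g l ih =>
    intro m h
    have h1 : TorsAt f ((Kz l)⟦m⟧) N :=
      ih m (fun p hp1 hp2 => h p hp1 (by rw [List.length_cons]; push_cast; omega))
    have h3 : TorsAt f (((Kz l)⟦(1 : ℤ)⟧)⟦m⟧) N :=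
      (ih (m + 1) (fun p hp1 hp2 => h p (by omega)
        (by rw [List.length_cons]; push_cast; omega))).of_iso_left
        ((shiftFunctorAdd' (DerivedCategory (ModuleCat.{u} A)) 1 m (m + 1) (by omega)).app (Kz l))
    exact TorsAt.ext_left_shift m (KTri g l).rotate (rot_of_distTriang _ (KTri_dist g l)) h1 h3

theorem torsAt_Kz_of_HT (f : A) (N : DerivedCategory (ModuleCat.{u} A)) (l : List A) (m : ℤ)
    (h : ∀ i : ℤ, -m - l.length ≤ i → i ≤ -m → HT f N i) : TorsAt f ((Kz l)⟦m⟧) N :=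
  torsAt_Kz f N l m (fun p hp1 hp2 => torsAt_SA_shift f N p (h (-p) (by omega) (by omega)))

theorem torsAt_Kz0_of_HT (f : A) (N : DerivedCategory (ModuleCat.{u} A)) (l : List A)
    (h : ∀ i : ℤ, -(l.length : ℤ) ≤ i → i ≤ 0 → HT f N i) : TorsAt f (Kz l) N :=
  (torsAt_Kz_of_HT f N l 0 (fun i h1 h2 => h i (by omega) (by omega))).of_iso_left
    ((shiftFunctorZero (DerivedCategory (ModuleCat.{u} A)) ℤ).app (Kz l))

/-- morphisms out of a shifted Koszul complex vanish if the target has no cohomology in the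
range of the complex -/
theorem noHom_Kz_shift (N : DerivedCategory (ModuleCat.{u} A)) (l : List A) (m : ℤ)
    (h : ∀ i : ℤ, -m - l.length ≤ i → i ≤ -m →
      IsZero ((homologyFunctor (ModuleCat.{u} A) i).obj N)) : NoHom ((Kz l)⟦m⟧) N :=
  noHom_of_torsAt_one (R := A)
    (torsAt_Kz_of_HT (1 : A) N l m (fun i h1 h2 => HTm.of_isZero (h i h1 h2)))

/-- if `N` has `l`-power torsion cohomology and admits no nonzero map from `K(l)`, it admits no
nonzero map from `A` -/
theorem noHom_SA_of_noHom_Kz : ∀ (l : List A) (N : DerivedCategory (ModuleCat.{u} A)),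
    (∀ f ∈ l, ∀ i : ℤ, HT f N i) → NoHom (Kz l) N → NoHom (SA A) N
  | [], N, _, h => h
  | g :: l, N, hN, h => by
    have hl : NoHom (Kz l) N := by
      have hinj : ∀ χ : Kz l ⟶ N, g • χ = 0 → χ = 0 := fun χ hχ => by
        have h0 : (KTri g l).mor₁ ≫ χ = 0 := (KTri_mor₁_comp g l χ).trans hχ
        obtain ⟨χ', hχ'⟩ := Triangle.yoneda_exact₂ (KTri g l) (KTri_dist g l) χ h0
        rw [hχ', h χ', comp_zero]
      have htors : TorsAt g (Kz l) N :=
        torsAt_Kz0_of_HT g N l (fun i _ _ => hN g (List.mem_cons_self ..) i)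
      intro ψ
      obtain ⟨k, hk⟩ := htors ψ
      have key : ∀ k : ℕ, g ^ k • ψ = 0 → ψ = 0 := by
        intro k
        induction k with
        | zero => intro hk; rwa [pow_zero, one_smul] at hk
        | succ k ih =>
          intro hk
          exact ih (hinj _ (by rw [← mul_smul, ← pow_succ']; exact hk))
      exact key k hk
    exact noHom_SA_of_noHom_Kz l N (fun f hf i => hN f (List.mem_cons_of_mem _ hf) i) hl

theorem isZero_H_of_noHom_Kz_shift (l : List A) (N : DerivedCategory (ModuleCat.{u} A))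
    (hN : ∀ f ∈ l, ∀ i : ℤ, HT f N i) (m i : ℤ) (hi : m + i = 0) (h : NoHom ((Kz l)⟦m⟧) N) :
    IsZero ((homologyFunctor (ModuleCat.{u} A) i).obj N) := by
  obtain rfl : i = -m := by omega
  have h1 : NoHom (Kz l) (N⟦-m⟧) := NoHom.shift_right (-m) m (by omega) h
  have hN' : ∀ f ∈ l, ∀ i : ℤ, HT f (N⟦-m⟧) i := fun f hf i =>
    HT.shift (-m) i (-m + i) rfl (hN f hf _)
  have h2 := noHom_SA_of_noHom_Kz l (N⟦-m⟧) hN' h1
  have h3 := isZero_H0_of_noHom (N⟦-m⟧) h2
  exact h3.of_iso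
    (((homologyFunctor (ModuleCat.{u} A) 0).shiftIso (-m) 0 (-m) (by omega)).app N).symm

/-- a power of each `f ∈ l` kills `K(l)` -/
theorem exists_kills_Kz : ∀ (l : List A) (f : A), f ∈ l → ∃ k : ℕ, (f ^ k) • 𝟙 (Kz l) = 0
  | g :: l, f, hf => by
    have hcase : ∃ k : ℕ, (f ^ k) • (KTri g l).mor₂ = 0 ∧ (f ^ k) • (KTri g l).mor₃ = 0 := by
      rcases List.mem_cons.1 hf with rfl | hf'
      · exact ⟨1, by rw [pow_one]; exact smul_KTri_mor₂ f l,
          by rw [pow_one]; exact smul_KTri_mor₃ f l⟩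
      · obtain ⟨k, hk⟩ := exists_kills_Kz l f hf'
        exact ⟨k, smul_KTri_mor₂_of_kills g l _ hk, smul_KTri_mor₃_of_kills g l _ hk⟩
    obtain ⟨k, h2, h3⟩ := hcase
    refine ⟨k + k, ?_⟩
    rw [pow_add]
    exact kills_cone (KTri g l) (KTri_dist g l) _ h2 h3

theorem HT_Kz (l : List A) (f : A) (hf : f ∈ l) (i : ℤ) : HT f (Kz l) i := by
  obtain ⟨k, hk⟩ := exists_kills_Kz l f hf
  intro x
  refine ⟨k, ?_⟩
  rw [← homology_map_smul_id_apply (Koszul.koszul A l) (f ^ k) i x, hk, Functor.map_zero]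
  rfl

/-- the canonical map `A ⟶ K(l)` -/
def tK : ∀ l : List A, SA A ⟶ Kz l
  | [] => 𝟙 _
  | g :: l => tK l ≫ (KTri g l).mor₂

/-- `K(l₁)` maps to `K(l₂)` compatibly with the maps from `A` -/
def Dom (l₁ l₂ : List A) : Prop := ∃ c : Kz l₁ ⟶ Kz l₂, tK l₁ ≫ c = tK l₂

theorem Dom.cons {l₁ l₂ : List A} (h : Dom l₁ l₂) (g h' : A) :
    Dom ((h' * g) :: l₁) (h' :: l₂) := by
  obtain ⟨c₀, hc₀⟩ := h
  have comm : (KTri (h' * g) l₁).mor₁ ≫ c₀ = (g • c₀) ≫ (KTri h' l₂).mor₁ :=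
    (KTri_mor₁_comp (h' * g) l₁ c₀).trans
      ((mul_smul h' g c₀).trans (comp_KTri_mor₁ h' l₂ (g • c₀)).symm)
  obtain ⟨c, hc1, _⟩ := complete_distinguished_triangle_morphism _ _
    (KTri_dist (h' * g) l₁) (KTri_dist h' l₂) (g • c₀) c₀ comm
  refine ⟨c, ?_⟩
  show (tK l₁ ≫ (KTri (h' * g) l₁).mor₂) ≫ c = tK l₂ ≫ (KTri h' l₂).mor₂
  rw [Category.assoc, hc1, ← Category.assoc, hc₀]

theorem Dom.pow (e e' : ℕ) (h : e ≤ e') : ∀ l : List A,
    Dom (l.map (fun a => a ^ e')) (l.map (fun a => a ^ e))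
  | [] => ⟨𝟙 _, Category.comp_id _⟩
  | f :: l => by
    have h1 := (Dom.pow e e' h l).cons (f ^ (e' - e)) (f ^ e)
    have h2 : f ^ e * f ^ (e' - e) = f ^ e' := by rw [← pow_add, Nat.add_sub_cancel' h]
    rw [h2] at h1
    exact h1

/-- a section of `N` factors through a Koszul complex on powers, if the cohomology of `N` is
power torsion in the range of the Koszul complex -/
theorem exists_factor : ∀ (l : List A) (N : DerivedCategory (ModuleCat.{u} A)),
    (∀ f ∈ l, ∀ i : ℤ, -(l.length : ℤ) < i → i ≤ 0 → HT f N i) → ∀ s : SA A ⟶ N,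
      ∃ (e : ℕ) (ψ : Kz (l.map (fun a => a ^ e)) ⟶ N), tK (l.map (fun a => a ^ e)) ≫ ψ = s
  | [], N, _, s => ⟨0, s, Category.id_comp s⟩
  | f :: l, N, hN, s => by
    obtain ⟨e, ψ, hψ⟩ := exists_factor l N (fun g hg i hi1 hi2 =>
      hN g (List.mem_cons_of_mem _ hg) i (by rw [List.length_cons]; push_cast; omega) hi2) s
    have htors : TorsAt f (Kz (l.map (fun a => a ^ e))) N := by
      refine torsAt_Kz0_of_HT f N _ (fun i hi1 hi2 => ?_)
      rw [List.length_map] at hi1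
      exact hN f (List.mem_cons_self ..) i (by rw [List.length_cons]; push_cast; omega) hi2
    obtain ⟨e', he'⟩ := htors ψ
    have h0 : (KTri (f ^ e') (l.map (fun a => a ^ e))).mor₁ ≫ ψ = 0 :=
      (KTri_mor₁_comp _ _ ψ).trans he'
    obtain ⟨ψ', hψ'⟩ := Triangle.yoneda_exact₂ _ (KTri_dist _ _) ψ h0
    obtain ⟨c, hc⟩ : Dom ((f :: l).map (fun a => a ^ (e + e')))
        (f ^ e' :: l.map (fun a => a ^ e)) := by
      have h1 := (Dom.pow e (e + e') (Nat.le_add_right _ _) l).cons (f ^ e) (f ^ e')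
      have h2 : f ^ e' * f ^ e = f ^ (e + e') := by rw [← pow_add, add_comm]
      rw [h2] at h1
      exact h1
    refine ⟨e + e', c ≫ ψ', ?_⟩
    rw [← Category.assoc, hc]
    show (tK (l.map (fun a => a ^ e)) ≫ (KTri (f ^ e') (l.map (fun a => a ^ e))).mor₂) ≫ ψ' = s
    rw [Category.assoc, ← hψ', hψ]

end Koszul

end

end Groth.Agent.Lib.KoszL
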