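import Mathlib
import Groth.Prelude
import Groth.Agent.Lib.Kosz1_lead
import Groth.Agent.Lib.QcqsLoc_helper9
import Groth.Agent.Lib.CoprodQP2_helper5
import Groth.Agent.Lib.DCohLoc6_lead

/-!
# Power torsion modules and vanishing of `M~` on basic opens (lead)

APPEND-ONLY once landed.
-/

set_option autoImplicit false
set_option linter.all false
set_option maxHeartbeats 1600000
set_option backward.isDefEq.respectTransparency false
set_option backward.isDefEq.respectTransparency.types false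
set_option backward.defeqAttrib.useBackward true

universe u
open CategoryTheory CategoryTheory.Limits AlgebraicGeometry Opposite TopologicalSpace

namespace Groth.Agent.Lib.KoszL

noncomputable section

section TildeTorsionR

variable {R : CommRingCat.{u}} (M : ModuleCat.{u} R)

theorem toOpen_eq_zero_of_sections (f : R)
    (h0 : ∀ t : Γ(tilde M, (PrimeSpectrum.basicOpen f : (Spec R).Opens)), t = 0) (x : M) :
    (tilde.toOpen M (PrimeSpectrum.basicOpen f)).hom x = 0 :=
  h0 _

theorem pow_smul_eq_zero_of_sections (f : R)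
    (h0 : ∀ t : Γ(tilde M, (PrimeSpectrum.basicOpen f : (Spec R).Opens)), t = 0) (x : M) :
    ∃ k : ℕ, f ^ k • x = 0 := by
  have h1 : (tilde.toOpen M (PrimeSpectrum.basicOpen f)).hom x =
      (tilde.toOpen M (PrimeSpectrum.basicOpen f)).hom 0 := by
    rw [toOpen_eq_zero_of_sections M f h0 x, map_zero]
  obtain ⟨k, hk⟩ := IsLocalizedModule.Away.exists_of_eq
    (f := (tilde.toOpen M (PrimeSpectrum.basicOpen f)).hom) f h1
  exact ⟨k, hk.trans (smul_zero _)⟩

theorem section_basicOpen_eq_zero (f g : R)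
    (hgf : (PrimeSpectrum.basicOpen g : (Spec R).Opens) ≤ PrimeSpectrum.basicOpen f)
    (h : ∀ x : M, ∃ k : ℕ, f ^ k • x = 0)
    (y : Γ(tilde M, (PrimeSpectrum.basicOpen g : (Spec R).Opens))) : y = 0 := by
  obtain ⟨n, m, hmc⟩ := IsLocalizedModule.Away.surj
    (tilde.toOpen M (PrimeSpectrum.basicOpen g)).hom g y
  obtain ⟨k, hk⟩ := h m
  have hregf : IsSMulRegular Γ(tilde M, (PrimeSpectrum.basicOpen g : (Spec R).Opens)) f :=
    Scheme.Modules.isSMulRegular_of_le_basicOpen hgf
  have hregg : IsSMulRegular Γ(tilde M, (PrimeSpectrum.basicOpen g : (Spec R).Opens)) g :=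
    Scheme.Modules.isSMulRegular_of_le_basicOpen le_rfl
  have h2 : (tilde.toOpen M (PrimeSpectrum.basicOpen g)).hom (f ^ k • m) = 0 := by
    rw [hk, map_zero]
  have h3 : f ^ k • (tilde.toOpen M (PrimeSpectrum.basicOpen g)).hom m = 0 :=
    ((tilde.toOpen M (PrimeSpectrum.basicOpen g)).hom.map_smul (f ^ k) m).symm.trans h2
  have h1 : (tilde.toOpen M (PrimeSpectrum.basicOpen g)).hom m = 0 := by
    apply hregf.pow k
    exact h3.trans (smul_zero _).symm
  apply hregg.pow n
  exact (hmc.trans h1).trans (smul_zero _).symm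

theorem sections_eq_zero_of_torsion (fs : List R)
    (h : ∀ f ∈ fs, ∀ x : M, ∃ k : ℕ, f ^ k • x = 0)
    (V : (Spec R).Opens)
    (hV : ∀ x ∈ V, ∃ f ∈ fs, x ∈ (PrimeSpectrum.basicOpen f : (Spec R).Opens))
    (t : Γ(tilde M, V)) : t = 0 := by
  apply QcqsLoc.eq_zero_of_cover _ t
  intro x hx
  obtain ⟨f, hf, hfx⟩ := hV x hx
  have hx' : x ∈ (V ⊓ PrimeSpectrum.basicOpen f : (Spec R).Opens) := ⟨hx, hfx⟩
  obtain ⟨_, ⟨_, ⟨g, rfl⟩, rfl⟩, hxg, hgV⟩ :=
    PrimeSpectrum.isBasis_basic_opens.exists_subset_of_mem_open hx'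
      (V ⊓ PrimeSpectrum.basicOpen f : (Spec R).Opens).2
  have hgV' : (PrimeSpectrum.basicOpen g : (Spec R).Opens) ≤ V := fun y hy => (hgV hy).1
  have hgf : (PrimeSpectrum.basicOpen g : (Spec R).Opens) ≤ PrimeSpectrum.basicOpen f :=
    fun y hy => (hgV hy).2
  refine ⟨PrimeSpectrum.basicOpen g, hgV', hxg, ?_⟩
  exact section_basicOpen_eq_zero M f g hgf (h f hf) (QcqsLoc.rF (tilde M) hgV' t)

end TildeTorsionR

end

end Groth.Agent.Lib.KoszL
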