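import Mathlib
import Groth.Prelude
import Groth.Agent.Lib.Kosz1_lead
import Groth.Agent.Lib.KoszT_lead
import Groth.Agent.Lib.HomVan3_lead
import Groth.Agent.Lib.RpushQC_lead
import Groth.Agent.Lib.BCOpen2_lead
import Groth.Agent.Lib.DSect7_lead

/-!
# The Koszul object on `Spec A` and the punctured open (lead)

* `nonempty_Rpush_comp_DD_iso_id`: `Rj_* ⋙ j^* ≅ 𝟭` for an open immersion `j`;
* `HTm_of_isZero_restrict`, `isZero_restrict_of_HTm`: `M~` vanishes on `Spec A ∖ V(fs)` iff `M` is
  `f`-power torsion for all `f ∈ fs`;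
* `isZero_DD_KX`, `noHom_KX_Rpush`, `vr_KX`, `isIso_homology_unit`.

APPEND-ONLY once landed.
-/

set_option autoImplicit false
set_option linter.all false
set_option maxHeartbeats 1600000
set_option backward.isDefEq.respectTransparency false
set_option backward.isDefEq.respectTransparency.types false
set_option backward.defeqAttrib.useBackward true

universe u
open CategoryTheory CategoryTheory.Limits AlgebraicGeometry Opposite TopologicalSpace
open DerivedCategory CategoryTheory.Pretriangulated
attribute [local instance] HasDerivedCategory.standard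

namespace Groth.Agent.Lib.KoszL

open Groth.Agent.Lib Groth.Agent.Lib.HomVanL Groth.Agent.Lib.DCohLocLead Groth.Agent.Lib.PerfLocL
open Groth.Agent.Lib.StalkSkyL Groth.Agent.Lib.MVPushL

noncomputable section

/-! ### `Rj_* ⋙ j^* ≅ 𝟭` -/

section OpenImm

/-- the identity functor induces the identity on the homotopy category -/
def mapHomotopyCategoryIdIso (V : Type*) [Category V] [Preadditive V] :
    (𝟭 V).mapHomotopyCategory (ComplexShape.up ℤ) ≅
      𝟭 (HomotopyCategory V (ComplexShape.up ℤ)) :=
  Quotient.natIsoLift _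
    (Functor.isoWhiskerRight (Functor.mapHomologicalComplexIdIso V (ComplexShape.up ℤ))
      (HomotopyCategory.quotient V (ComplexShape.up ℤ)) ≪≫ Functor.leftUnitor _ ≪≫
      (Functor.rightUnitor _).symm)

variable {U X : Scheme.{u}} (j : U ⟶ X) [IsOpenImmersion j]

theorem nonempty_Rpush_comp_DD_iso_id [DCoh.HasRpush j] :
    Nonempty (DCoh.Rpush j ⋙ DD j ≅ 𝟭 (DCoh.D U)) := by
  haveI := grothendieck_modules U
  let WU := HomotopyCategory.quasiIso U.Modules (ComplexShape.up ℤ)
  let RV := (Scheme.Modules.restrictFunctor j).mapHomotopyCategory (ComplexShape.up ℤ)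
  let facV : Qh ⋙ DD j ≅ RV ⋙ Qh :=
    (Scheme.Modules.restrictFunctor j).mapDerivedCategoryFactorsh
  let β₁ : DCoh.pushKh j ⟶ (Qh : _ ⥤ DCoh.D U) ⋙ DCoh.Rpush j :=
    (DCoh.pushKh j).totalRightDerivedUnit Qh WU
  have hβ₁ : ∀ K, (HomotopyCategory.subcategoryAcyclic U.Modules).rightOrthogonal K →
      IsIso (β₁.app K) := fun K hK =>
    (OrthDeriv.main (P := HomotopyCategory.subcategoryAcyclic U.Modules) WU
      (HomotopyCategory.quasiIso_eq_trW_subcategoryAcyclic _)
      Groth.Agent.Lib.KInjGen8.hP (Qh : _ ⥤ DCoh.D U) (DCoh.pushKh j)).2 K hK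
  let α₁ : DCoh.pushKh j ⋙ DD j ⟶ (Qh : _ ⥤ DCoh.D U) ⋙ (DCoh.Rpush j ⋙ DD j) :=
    Functor.whiskerRight β₁ (DD j) ≫ (Functor.associator _ _ _).hom
  haveI h1 : (DCoh.Rpush j ⋙ DD j).IsRightDerivedFunctor α₁ WU := by
    refine BCOpenL.isRightDerivedFunctor_of_isIso_on
      (P := HomotopyCategory.subcategoryAcyclic U.Modules) WU
      (HomotopyCategory.quasiIso_eq_trW_subcategoryAcyclic _)
      Groth.Agent.Lib.KInjGen8.hP Qh _ _ _ (fun K hK => ?_)
    haveI : IsIso (β₁.app K) := hβ₁ K hK
    rw [NatTrans.comp_app]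
    dsimp
    infer_instance
  let e2 : (Qh : _ ⥤ DCoh.D U) ⋙ 𝟭 (DCoh.D U) ≅ Qh := Functor.rightUnitor _
  haveI h2 : (𝟭 (DCoh.D U)).IsRightDerivedFunctor e2.inv WU :=
    Functor.isRightDerivedFunctor_of_inverts WU _ e2
  let κ : (Scheme.Modules.pushforward j).mapHomotopyCategory (ComplexShape.up ℤ) ⋙ RV ≅ 𝟭 _ :=
    Functor.mapHomotopyCategoryCompIso (Scheme.Modules.restrictFunctorAdjCounitIso j)
      (ComplexShape.up ℤ) ≪≫ mapHomotopyCategoryIdIso U.Modules
  let ι : DCoh.pushKh j ⋙ DD j ≅ Qh :=
    Functor.associator _ _ _ ≪≫ Functor.isoWhiskerLeft _ facV ≪≫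
      (Functor.associator _ _ _).symm ≪≫ Functor.isoWhiskerRight κ Qh ≪≫ Functor.leftUnitor _
  exact ⟨Functor.rightDerivedNatIso _ _ α₁ e2.inv WU ι⟩

end OpenImm

/-! ### Truncations -/

section Trunc

variable {X : Scheme.{u}}

theorem isIso_of_isZero' {C : Type*} [Category C] [HasZeroMorphisms C] {P Q' : C} (f : P ⟶ Q')
    (hP : IsZero P) (hQ : IsZero Q') : IsIso f :=
  ⟨⟨0, hP.eq_of_src _ _, hQ.eq_of_src _ _⟩⟩

theorem isIso_truncGE_map {E F : DCoh.D X} (η : E ⟶ F) (a : ℤ)
    (h : ∀ k, a ≤ k → IsIso ((homologyFunctor X.Modules k).map η)) :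
    IsIso (((tX X).truncGE a).map η) := by
  rw [DerivedCategory.isIso_iff]
  intro k
  by_cases hk : a ≤ k
  · haveI := h k hk
    haveI h1 : IsIso ((homologyFunctor X.Modules k).map (((tX X).truncGEπ a).app E)) :=
      TruncTower_helper7.isIso_homology_truncGEπ E a k hk
    haveI h2 : IsIso ((homologyFunctor X.Modules k).map (((tX X).truncGEπ a).app F)) :=
      TruncTower_helper7.isIso_homology_truncGEπ F a k hk
    have nat : η ≫ ((tX X).truncGEπ a).app F =
        ((tX X).truncGEπ a).app E ≫ ((tX X).truncGE a).map η :=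
      ((tX X).truncGEπ a).naturality η
    have nat' : (homologyFunctor X.Modules k).map η ≫
        (homologyFunctor X.Modules k).map (((tX X).truncGEπ a).app F) =
        (homologyFunctor X.Modules k).map (((tX X).truncGEπ a).app E) ≫
          (homologyFunctor X.Modules k).map (((tX X).truncGE a).map η) := by
      rw [← CategoryTheory.Functor.map_comp, ← CategoryTheory.Functor.map_comp, nat]
    have e : (homologyFunctor X.Modules k).map (((tX X).truncGE a).map η) =
        inv ((homologyFunctor X.Modules k).map (((tX X).truncGEπ a).app E)) ≫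
          (homologyFunctor X.Modules k).map η ≫
            (homologyFunctor X.Modules k).map (((tX X).truncGEπ a).app F) := by
      rw [IsIso.eq_inv_comp]; exact nat'.symm
    rw [e]; infer_instance
  · exact isIso_of_isZero' _
      (DerivedCategory.isZero_of_isGE (((tX X).truncGE a).obj E) a k (by omega))
      (DerivedCategory.isZero_of_isGE (((tX X).truncGE a).obj F) a k (by omega))

theorem isIso_truncLE_map {E F : DCoh.D X} (η : E ⟶ F) (c : ℤ)
    (h : ∀ k, k ≤ c → IsIso ((homologyFunctor X.Modules k).map η)) :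
    IsIso (((tX X).truncLE c).map η) := by
  rw [DerivedCategory.isIso_iff]
  intro k
  by_cases hk : k ≤ c
  · haveI := h k hk
    haveI h1 : IsIso ((homologyFunctor X.Modules k).map (((tX X).truncLEι c).app E)) :=
      TruncSect_helper7.isIso_homology_truncLTι E (c + 1) k (by omega)
    haveI h2 : IsIso ((homologyFunctor X.Modules k).map (((tX X).truncLEι c).app F)) :=
      TruncSect_helper7.isIso_homology_truncLTι F (c + 1) k (by omega)
    have nat : ((tX X).truncLE c).map η ≫ ((tX X).truncLEι c).app F =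
        ((tX X).truncLEι c).app E ≫ η :=
      ((tX X).truncLEι c).naturality η
    have nat' : (homologyFunctor X.Modules k).map (((tX X).truncLE c).map η) ≫
        (homologyFunctor X.Modules k).map (((tX X).truncLEι c).app F) =
        (homologyFunctor X.Modules k).map (((tX X).truncLEι c).app E) ≫
          (homologyFunctor X.Modules k).map η := by
      rw [← CategoryTheory.Functor.map_comp, ← CategoryTheory.Functor.map_comp, nat]
    have e : (homologyFunctor X.Modules k).map (((tX X).truncLE c).map η) =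
        ((homologyFunctor X.Modules k).map (((tX X).truncLEι c).app E) ≫
          (homologyFunctor X.Modules k).map η) ≫
            inv ((homologyFunctor X.Modules k).map (((tX X).truncLEι c).app F)) := by
      rw [IsIso.eq_comp_inv]; exact nat'
    rw [e]; infer_instance
  · exact isIso_of_isZero' _
      (DerivedCategory.isZero_of_isLE (((tX X).truncLE c).obj E) c k (by omega))
      (DerivedCategory.isZero_of_isLE (((tX X).truncLE c).obj F) c k (by omega))

end Trunc

/-! ### Power torsion modules and the punctured open -/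

section TildeTorsion

variable (A : Type u) [CommRing A]

/-- the complement of `V(fs)` in `Spec A` -/
abbrev UA (fs : List A) : (Spec (CommRingCat.of A)).Opens :=
  LocCoh.puncturedOpen A (Ideal.span {a | a ∈ fs})

theorem exists_mem_basicOpen_of_mem_UA (fs : List A) (x : Spec (CommRingCat.of A))
    (hx : x ∈ UA A fs) :
    ∃ f ∈ fs, x ∈ (PrimeSpectrum.basicOpen f : (Spec (CommRingCat.of A)).Opens) := by
  have hx2 : x ∉ PrimeSpectrum.zeroLocus (R := A)
      ((Ideal.span {a | a ∈ fs} : Ideal A) : Set A) := hx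
  rw [PrimeSpectrum.zeroLocus_span, PrimeSpectrum.mem_zeroLocus, Set.not_subset] at hx2
  obtain ⟨f, hf, hfx⟩ := hx2
  exact ⟨f, hf, hfx⟩

theorem basicOpen_le_UA (fs : List A) (f : A) (hf : f ∈ fs) :
    (PrimeSpectrum.basicOpen f : (Spec (CommRingCat.of A)).Opens) ≤ UA A fs := by
  intro x hx hx'
  exact hx (hx' (Ideal.subset_span hf))

theorem isCompact_UA (fs : List A) :
    IsCompact ((UA A fs : (Spec (CommRingCat.of A)).Opens) : Set (Spec (CommRingCat.of A))) := by
  classical
  have h := (PrimeSpectrum.isCompact_isOpen_iff (R := A)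
    (s := (PrimeSpectrum.zeroLocus (R := A)
      ((Ideal.span {a | a ∈ fs} : Ideal A) : Set A))ᶜ)).2 ⟨fs.toFinset, by
      rw [PrimeSpectrum.zeroLocus_span]
      congr 2
      ext a
      simp⟩
  exact h.1

instance quasiCompact_UA (fs : List A) : QuasiCompact (UA A fs).ι := by
  haveI : CompactSpace ((UA A fs : (Spec (CommRingCat.of A)).Opens) : Scheme.{u}) :=
    isCompact_iff_compactSpace.mp (isCompact_UA A fs)
  exact (HasAffineProperty.iff_of_isAffine (P := @QuasiCompact) (f := (UA A fs).ι)).2
    inferInstance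

theorem HTm_of_isZero_restrict (fs : List A) (M : ModuleCat.{u} A)
    (hz : IsZero ((Scheme.Modules.restrictFunctor (UA A fs).ι).obj
      ((tilde.functor (CommRingCat.of A)).obj M)))
    (f : A) (hf : f ∈ fs) : HTm f M := by
  intro x
  have hle := basicOpen_le_UA A fs f hf
  have h0 : ∀ t : Γ(tilde (R := CommRingCat.of A) M,
      (PrimeSpectrum.basicOpen f : (Spec (CommRingCat.of A)).Opens)), t = 0 := by
    have h2 : ∀ W₂ : (Spec (CommRingCat.of A)).Opens,
        (UA A fs).ι ''ᵁ ((UA A fs).ι ⁻¹ᵁ (PrimeSpectrum.basicOpen f)) = W₂ →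
        ∀ t : Γ(tilde (R := CommRingCat.of A) M, W₂), t = 0 := by
      rintro _ rfl t
      exact sections_eq_zero_of_isZero hz ((UA A fs).ι ⁻¹ᵁ (PrimeSpectrum.basicOpen f)) t
    exact h2 _ (image_preimage_of_le hle)
  exact pow_smul_eq_zero_of_sections (R := CommRingCat.of A) M f h0 x

theorem isZero_restrict_of_HTm (fs : List A) (M : ModuleCat.{u} A) (h : ∀ f ∈ fs, HTm f M) :
    IsZero ((Scheme.Modules.restrictFunctor (UA A fs).ι).obj
      ((tilde.functor (CommRingCat.of A)).obj M)) := by
  apply Groth.Agent.CoprodQP.isZero_of_sections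
  intro W' s
  exact sections_eq_zero_of_torsion (R := CommRingCat.of A) M fs h _
    (fun x hx => exists_mem_basicOpen_of_mem_UA A fs x ((UA A fs).ι_image_le W' hx)) s

end TildeTorsion

end

end Groth.Agent.Lib.KoszL
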