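import Mathlib
import Groth.Prelude
import Groth.Agent.Lib.ApproxOpen_lead
import Groth.Agent.Lib.RpushQC_lead
import Groth.Agent.Lib.RDPlusLES_helper9

/-!
# `RΓ_Z` on `D⁺`: quasi-coherence and support (lead; S1046)

* `epi_unit_of_injective`: `J ⟶ j_* j^* J` is an epimorphism for an injective module `J`;
* `shortExact_gzSCx`: `0 → Γ_Z(I) → I → j_* j^* I → 0` for a complex of injectives;
* `main1046`.

APPEND-ONLY once landed.
-/

set_option autoImplicit false
set_option linter.all false
set_option maxHeartbeats 1600000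
set_option backward.isDefEq.respectTransparency false
set_option backward.isDefEq.respectTransparency.types false
set_option backward.defeqAttrib.useBackward true

universe u
open CategoryTheory CategoryTheory.Limits AlgebraicGeometry Opposite TopologicalSpace
open DerivedCategory CategoryTheory.Pretriangulated
attribute [local instance] HasDerivedCategory.standard

namespace Groth.Agent.Lib.RGammaZL

open Groth.Agent.Lib Groth.Agent.Lib.DCohLocLead Groth.Agent.Lib.StalkSkyL Groth.Agent.Lib.MVPushL

noncomputable section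

section Abstract

theorem epi_unit_abstract {C D : Type*} [Category C] [Category D] {Z : D ⥤ C} {R : C ⥤ D}
    {P : D ⥤ C} (adj : Z ⊣ R) (adj' : R ⊣ P) (J : C) [Injective J]
    (hm : Mono (adj.counit.app (P.obj (R.obj J)))) : Epi (adj'.unit.app J) := by
  let c : Z.obj (R.obj (P.obj (R.obj J))) ⟶ J :=
    Z.map (adj'.counit.app (R.obj J)) ≫ adj.counit.app J
  let s : P.obj (R.obj J) ⟶ J := Injective.factorThru c (adj.counit.app (P.obj (R.obj J)))
  have hs : adj.counit.app (P.obj (R.obj J)) ≫ s = c := Injective.comp_factorThru c _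
  have e1 : adj.unit.app (R.obj (P.obj (R.obj J))) ≫
      R.map (adj.counit.app (P.obj (R.obj J)) ≫ s) = R.map s := by
    rw [R.map_comp, ← Category.assoc, adj.right_triangle_components]
    exact Category.id_comp _
  have e2 : adj.unit.app (R.obj (P.obj (R.obj J))) ≫ R.map c = adj'.counit.app (R.obj J) := by
    have hn : adj'.counit.app (R.obj J) ≫ adj.unit.app (R.obj J) =
        adj.unit.app (R.obj (P.obj (R.obj J))) ≫ R.map (Z.map (adj'.counit.app (R.obj J))) :=
      adj.unit.naturality (adj'.counit.app (R.obj J))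
    show adj.unit.app (R.obj (P.obj (R.obj J))) ≫
      R.map (Z.map (adj'.counit.app (R.obj J)) ≫ adj.counit.app J) = _
    rw [R.map_comp, ← Category.assoc, ← hn, Category.assoc, adj.right_triangle_components]
    exact Category.comp_id _
  have h1 : R.map s = adj'.counit.app (R.obj J) := by
    rw [← e1, hs, e2]
  have h3 : s ≫ adj'.unit.app J = 𝟙 (P.obj (R.obj J)) := by
    apply (adj'.homEquiv (P.obj (R.obj J)) (R.obj J)).symm.injective
    have l1 : (adj'.homEquiv (P.obj (R.obj J)) (R.obj J)).symm (s ≫ adj'.unit.app J) =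
        R.map (s ≫ adj'.unit.app J) ≫ adj'.counit.app (R.obj J) := by
      rw [Adjunction.homEquiv_counit]
    have l2 : (adj'.homEquiv (P.obj (R.obj J)) (R.obj J)).symm (𝟙 (P.obj (R.obj J))) =
        R.map (𝟙 (P.obj (R.obj J))) ≫ adj'.counit.app (R.obj J) := by
      rw [Adjunction.homEquiv_counit]
    have l3 : R.map (s ≫ adj'.unit.app J) ≫ adj'.counit.app (R.obj J) = R.map s := by
      first
        | (rw [R.map_comp, Category.assoc, adj'.left_triangle_components]
           exact Category.comp_id _)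
        | (rw [R.map_comp, Category.assoc]
           erw [adj'.left_triangle_components]
           exact Category.comp_id _)
        | simp
    have l4 : R.map (𝟙 (P.obj (R.obj J))) ≫ adj'.counit.app (R.obj J) =
        adj'.counit.app (R.obj J) := by
      rw [R.map_id]
      exact Category.id_comp _
    exact l1.trans (l3.trans (h1.trans (l4.symm.trans l2.symm)))
  exact epi_of_epi_fac h3

end Abstract

variable {X : Scheme.{u}} (W : X.Opens)

theorem mono_eps (M : X.Modules) : Mono (eps W M) := by
  apply mono_of_forall_stalk_mono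
  intro x
  by_cases hx : x ∈ W
  · haveI := isIso_stalk_eps W M x hx
    infer_instance
  · exact ⟨fun a b _ => (isZero_stalk_LR W M x hx).eq_of_tgt a b⟩

theorem epi_unit_of_injective (J : X.Modules) [Injective J] :
    Epi ((Scheme.Modules.restrictAdjunction W.ι).unit.app J) :=
  epi_unit_abstract (CxOX.extZeroAdj W.ι) (Scheme.Modules.restrictAdjunction W.ι) J
    (mono_eps W _)

/-- `Γ_Z` on complexes -/
abbrev GCx : CochainComplex X.Modules ℤ ⥤ CochainComplex X.Modules ℤ :=
  (DCoh.gammaZ W.ι).mapHomologicalComplex (ComplexShape.up ℤ)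

/-- `Γ_Z(I) ⟶ I` -/
def gamCx (I : CochainComplex X.Modules ℤ) : (GCx W).obj I ⟶ I where
  f i := (CxOX.gammaZι W.ι).app (I.X i)
  comm' i k _ := ((CxOX.gammaZι W.ι).naturality (I.d i k)).symm

/-- `I ⟶ j_* j^* I` via the unit of `j^* ⊣ j_*` -/
def unitCx (I : CochainComplex X.Modules ℤ) : I ⟶ BCx W I where
  f i := (Scheme.Modules.restrictAdjunction W.ι).unit.app (I.X i)
  comm' i k _ := ((Scheme.Modules.restrictAdjunction W.ι).unit.naturality (I.d i k)).symm

/-- `Γ_Z(I) → I → j_* j^* I` -/
def gzSCx (I : CochainComplex X.Modules ℤ) : ShortComplex (CochainComplex X.Modules ℤ) :=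
  ShortComplex.mk (gamCx W I) (unitCx W I) (by
    refine HomologicalComplex.hom_ext _ _ (fun i => ?_)
    show (CxOX.gammaZι W.ι).app (I.X i) ≫
      (Scheme.Modules.restrictAdjunction W.ι).unit.app (I.X i) = 0
    exact kernel.condition ((Scheme.Modules.restrictAdjunction W.ι).unit.app (I.X i)))

theorem shortExact_gzSCx (I : CochainComplex X.Modules ℤ) (hI : ∀ n, Injective (I.X n)) :
    (gzSCx W I).ShortExact := by
  apply HomologicalComplex.shortExact_of_degreewise_shortExact
  intro i
  haveI := hI i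
  haveI hm : Mono ((gzSCx W I).map
      (HomologicalComplex.eval X.Modules (ComplexShape.up ℤ) i)).f := by
    show Mono (kernel.ι ((Scheme.Modules.restrictAdjunction W.ι).unit.app (I.X i)))
    infer_instance
  haveI he : Epi ((gzSCx W I).map
      (HomologicalComplex.eval X.Modules (ComplexShape.up ℤ) i)).g := by
    show Epi ((Scheme.Modules.restrictAdjunction W.ι).unit.app (I.X i))
    exact epi_unit_of_injective W (I.X i)
  refine ShortComplex.ShortExact.mk' ?_ hm he
  exact ShortComplex.exact_of_f_is_kernel _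
    (kernelIsKernel ((Scheme.Modules.restrictAdjunction W.ι).unit.app (I.X i)))

theorem isQCohD_of_iso' {E E' : DCoh.D X} (e : E ≅ E') (h : DCoh.IsQCohD E) :
    DCoh.IsQCohD E' :=
  fun i => (SheafOfModules.isQuasicoherent X.ringCatSheaf).prop_of_iso
    ((DerivedCategory.homologyFunctor X.Modules i).mapIso e) (h i)

theorem isQCohD_Q_gam [QuasiCompact W.ι] (I : CochainComplex X.Modules ℤ)
    (hI : ∀ n, Injective (I.X n)) [I.IsKInjective]
    (hq : DCoh.IsQCohD (DerivedCategory.Q.obj I)) :
    DCoh.IsQCohD (DerivedCategory.Q.obj ((GCx W).obj I)) := by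
  haveI := BCOpenL.hasRpush W.ι
  have hS := shortExact_gzSCx W I hI
  have hT := DerivedCategory.triangleOfSES_distinguished hS
  have e := iB W I (DerivedCategory.Q.obj I) (Iso.refl _)
  have h1 : DCoh.IsQCohD ((DCoh.restrictD W.ι).obj (DerivedCategory.Q.obj I)) :=
    LpullQCL.isQCohD_restrictD W.ι _ hq
  have h2 := RpushQCL.main0998 W.ι _ h1
  have h3 : DCoh.IsQCohD (DerivedCategory.Q.obj (BCx W I)) := isQCohD_of_iso' e h2
  exact RpushQCL.isQCohD_obj₁ (DerivedCategory.triangleOfSES hS) hT hq h3

theorem isZero_restrict_gammaZ (M : X.Modules) :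
    IsZero ((Scheme.Modules.restrictFunctor W.ι).obj ((DCoh.gammaZ W.ι).obj M)) := by
  haveI : (Scheme.Modules.restrictFunctor W.ι).IsRightAdjoint :=
    (CxOX.extZeroAdj W.ι).isRightAdjoint
  have hk : (CxOX.gammaZι W.ι).app M ≫ (Scheme.Modules.restrictAdjunction W.ι).unit.app M = 0 :=
    kernel.condition ((Scheme.Modules.restrictAdjunction W.ι).unit.app M)
  haveI : Mono ((CxOX.gammaZι W.ι).app M) := by
    show Mono (kernel.ι ((Scheme.Modules.restrictAdjunction W.ι).unit.app M))
    infer_instance
  haveI : Mono ((Scheme.Modules.restrictFunctor W.ι).map ((CxOX.gammaZι W.ι).app M)) :=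
    inferInstance
  have hsplit : (Scheme.Modules.restrictFunctor W.ι).map
      ((Scheme.Modules.restrictAdjunction W.ι).unit.app M) ≫
      (Scheme.Modules.restrictAdjunction W.ι).counit.app
        ((Scheme.Modules.restrictFunctor W.ι).obj M) = 𝟙 _ :=
    (Scheme.Modules.restrictAdjunction W.ι).left_triangle_components M
  have hz : (Scheme.Modules.restrictFunctor W.ι).map ((CxOX.gammaZι W.ι).app M) = 0 := by
    have h1 : (Scheme.Modules.restrictFunctor W.ι).map ((CxOX.gammaZι W.ι).app M) ≫
        (Scheme.Modules.restrictFunctor W.ι).map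
          ((Scheme.Modules.restrictAdjunction W.ι).unit.app M) = 0 := by
      rw [← CategoryTheory.Functor.map_comp, hk, Functor.map_zero]
    have h2 := congrArg (fun t => t ≫ (Scheme.Modules.restrictAdjunction W.ι).counit.app
        ((Scheme.Modules.restrictFunctor W.ι).obj M)) h1
    simp only [Category.assoc, zero_comp] at h2
    rw [hsplit, Category.comp_id] at h2
    exact h2
  exact IsZero.of_mono_eq_zero _ hz

theorem support_subset_compl_of_isZero_restrict (M : X.Modules)
    (h : IsZero ((Scheme.Modules.restrictFunctor W.ι).obj M)) :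
    CohB1.support M ⊆ (W : Set X)ᶜ := by
  intro x hx hxW
  apply hx
  have hz : IsZero ((DerSch.stalkFunctor (W : Scheme.{u}) ⟨x, hxW⟩).obj
      ((Scheme.Modules.restrictFunctor W.ι).obj M)) := Functor.map_isZero _ h
  haveI hsub : Subsingleton (((Scheme.Modules.restrictFunctor W.ι).obj M).presheaf.stalk
      (⟨x, hxW⟩ : (W : Scheme.{u}))) := ModuleCat.subsingleton_of_isZero hz
  exact (RestrStalkH8.restrictStalkEquiv W.ι M ⟨x, hxW⟩).symm.toEquiv.subsingleton

theorem support_HD_Q_gam (I : CochainComplex X.Modules ℤ) (i : ℤ) :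
    CohB1.support (DCoh.HD (DerivedCategory.Q.obj ((GCx W).obj I)) i) ⊆ (W : Set X)ᶜ := by
  apply support_subset_compl_of_isZero_restrict
  obtain ⟨e1⟩ := nonempty_HD_restrict_iso W.ι (DerivedCategory.Q.obj ((GCx W).obj I)) i
  refine IsZero.of_iso ?_ e1.symm
  let e2 : (DD W.ι).obj (DerivedCategory.Q.obj ((GCx W).obj I)) ≅
      DerivedCategory.Q.obj ((RCx W).obj ((GCx W).obj I)) :=
    (Scheme.Modules.restrictFunctor W.ι).mapDerivedCategoryFactors.app _
  refine IsZero.of_iso ?_ ((DerivedCategory.homologyFunctor _ i).mapIso e2 ≪≫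
    (DerivedCategory.homologyFunctorFactors _ i).app _)
  show IsZero (((RCx W).obj ((GCx W).obj I)).homology i)
  apply HomologicalComplex.ExactAt.isZero_homology
  apply HomologicalComplex.ExactAt.of_isZero
  exact isZero_restrict_gammaZ W (I.X i)

/-- **S1046** -/
theorem main1046 (X : Scheme.{u}) (U : X.Opens) [QuasiCompact U.ι] [EnoughInjectives X.Modules]
    (E : DerivedCategory.Plus X.Modules) (hE : DCoh.IsQCohD E.obj) :
    DCoh.IsQCohD ((DCoh.RgammaZPlus U.ι).obj E).obj ∧
    ∀ i : ℤ, CohB1.support (DCoh.HD ((DCoh.RgammaZPlus U.ι).obj E).obj i) ⊆ (U : Set X)ᶜ := by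
  obtain ⟨n, hn⟩ := E.property
  haveI : E.IsGE n := (DerivedCategory.Plus.isGE_ι_obj_iff E n).1 hn
  obtain ⟨L, hL, ⟨e⟩⟩ := DerivedCategory.Plus.exists_injective_nonempty_iso E n
  let K : CochainComplex.Plus X.Modules :=
    (InjectiveObject.ι X.Modules).mapCochainComplexPlus.obj L
  have hK : ∀ q, Injective (K.obj.X q) := fun q => (L.obj.X q).property
  haveI hKI : CochainComplex.IsKInjective K.obj :=
    inferInstanceAs (CochainComplex.IsKInjective
      (((InjectiveObject.ι X.Modules).mapHomologicalComplex (ComplexShape.up ℤ)).obj L.obj))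
  have eD : DerivedCategory.Q.obj K.obj ≅ E.obj := DerivedCategory.Plus.ι.mapIso e
  have hqI : DCoh.IsQCohD (DerivedCategory.Q.obj K.obj) := isQCohD_of_iso' eD.symm hE
  have hG := isQCohD_Q_gam U K.obj hK hqI
  have hiso : ∀ i : ℤ, Nonempty (DCoh.HD ((DCoh.RgammaZPlus U.ι).obj E).obj i ≅
      DCoh.HD (DerivedCategory.Q.obj ((GCx U).obj K.obj)) i) := by
    intro i
    haveI := RDPlusLES.isIso_beta (DCoh.gammaZ U.ι) i K hK
    let b : RDPlusLES.HQF (DCoh.gammaZ U.ι) i K.obj ≅ (RDPlusLES.Phi (DCoh.gammaZ U.ι) i).obj K :=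
      asIso (RDPlusLES.beta (DCoh.gammaZ U.ι) i K)
    let a : (RDPlusLES.Phi (DCoh.gammaZ U.ι) i).obj K ≅
        DCoh.HD ((DCoh.RgammaZPlus U.ι).obj E).obj i :=
      (DerivedCategory.Plus.homologyFunctor X.Modules i).mapIso
        ((DCoh.RgammaZPlus U.ι).mapIso e)
    exact ⟨a.symm ≪≫ b.symm⟩
  constructor
  · intro i
    obtain ⟨a⟩ := hiso i
    exact (SheafOfModules.isQuasicoherent X.ringCatSheaf).prop_of_iso a.symm (hG i)
  · intro i
    obtain ⟨a⟩ := hiso i
    rw [support_eq_of_iso a]
    exact support_HD_Q_gam U K.obj i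

end

end Groth.Agent.Lib.RGammaZL
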