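import Mathlib
import Groth.Prelude
import Groth.Agent.Lib.RGammaZ_lead
import Groth.Agent.Lib.HomVan2_lead
import Groth.Agent.Lib.Kosz2_lead
import Groth.Agent.Lib.BCOpen2_lead

/-!
# Unbounded `RΓ_Z` and `Rj_*`: units, supports (lead; S14368, S14366)

* `subsingleton_stalk_HD_restrictD_iff`, `isZero_restrictD_of_stalks`, `stalks_of_isZero_restrictD`;
* `isIso_unit_of_isZero_restrict`: the unit `K ⟶ Rj_* j^* K` is an isomorphism when `K` vanishes on
  an open `W` whose complement lies in the image of `j`;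
* `iG`: `RΓ_Z(G) ≅ Q(Γ_Z I)` for a K-injective representative;
* `nonempty_Rpush_comp_obj`: `Rg_* Rf_* F ≅ R(gf)_* F` for `f` an open immersion;
* `main14368`, `main14366`.

APPEND-ONLY once landed.
-/

set_option autoImplicit false
set_option linter.all false
set_option maxHeartbeats 1600000
set_option backward.isDefEq.respectTransparency false
set_option backward.isDefEq.respectTransparency.types false
set_option backward.defeqAttrib.useBackward true

universe u
open CategoryTheory CategoryTheory.Limits AlgebraicGeometry Opposite TopologicalSpace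
open DerivedCategory CategoryTheory.Pretriangulated
attribute [local instance] HasDerivedCategory.standard

namespace Groth.Agent.Lib.RGammaZL

open Groth.Agent.Lib Groth.Agent.Lib.DCohLocLead Groth.Agent.Lib.StalkSkyL Groth.Agent.Lib.MVPushL
open Groth.Agent.Lib.ApproxOpenL Groth.Agent.Lib.KoszL

noncomputable section

/-- derived pushforwards exist -/
local instance hasRpushInst3 {X Y : Scheme.{u}} (g : X ⟶ Y) : DCoh.HasRpush g :=
  BCOpenL.hasRpush g

section Stalks

variable {U Y : Scheme.{u}} (j : U ⟶ Y) [IsOpenImmersion j]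

theorem subsingleton_stalk_HD_restrictD_iff (K : DCoh.D Y) (i : ℤ) (y : U) :
    Subsingleton ((DCoh.HD ((DCoh.restrictD j).obj K) i).presheaf.stalk y) ↔
      Subsingleton ((DCoh.HD K i).presheaf.stalk (j.base y)) := by
  obtain ⟨e⟩ := nonempty_HD_restrict_iso j K i
  have e1 := ((DerSch.stalkFunctor U y).mapIso e).toLinearEquiv.toEquiv
  have e2 := (RestrStalkH8.restrictStalkEquiv j (DCoh.HD K i) y).toEquiv
  constructor
  · intro h
    have h1 : Subsingleton
        (((Scheme.Modules.restrictFunctor j).obj (DCoh.HD K i)).presheaf.stalk y) :=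
      @Equiv.subsingleton _ _ e1.symm h
    exact @Equiv.subsingleton _ _ e2.symm h1
  · intro h
    have h1 : Subsingleton
        (((Scheme.Modules.restrictFunctor j).obj (DCoh.HD K i)).presheaf.stalk y) :=
      @Equiv.subsingleton _ _ e2 h
    exact @Equiv.subsingleton _ _ e1 h1

theorem isZero_restrictD_of_stalks (K : DCoh.D Y)
    (h : ∀ (i : ℤ) (y : U), Subsingleton ((DCoh.HD K i).presheaf.stalk (j.base y))) :
    IsZero ((DCoh.restrictD j).obj K) := by
  apply isZero_of_forall_isZero_homology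
  intro n
  apply isZero_of_forall_stalk
  intro y
  exact (subsingleton_stalk_HD_restrictD_iff j K n y).2 (h n y)

theorem stalks_of_isZero_restrictD (K : DCoh.D Y)
    (h : IsZero ((DCoh.restrictD j).obj K)) (i : ℤ) (y : U) :
    Subsingleton ((DCoh.HD K i).presheaf.stalk (j.base y)) := by
  refine (subsingleton_stalk_HD_restrictD_iff j K i y).1 ?_
  have hz : IsZero (DCoh.HD ((DCoh.restrictD j).obj K) i) :=
    (DerivedCategory.homologyFunctor U.Modules i).map_isZero h
  have hz' : IsZero ((DerSch.stalkFunctor U y).obj (DCoh.HD ((DCoh.restrictD j).obj K) i)) :=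
    Functor.map_isZero _ hz
  exact ModuleCat.subsingleton_of_isZero hz'

theorem isIso_restrict_homology_map {K L : DCoh.D Y} (φ : K ⟶ L)
    (h : IsIso ((DCoh.restrictD j).map φ)) (i : ℤ) :
    IsIso ((Scheme.Modules.restrictFunctor j).map
      ((DerivedCategory.homologyFunctor Y.Modules i).map φ)) := by
  have hn := (FlatBCH6.exactHomologyIso (Scheme.Modules.restrictFunctor j) i).hom.naturality φ
  have hn' : (DerivedCategory.homologyFunctor U.Modules i).map ((DCoh.restrictD j).map φ) ≫
      (FlatBCH6.exactHomologyIso (Scheme.Modules.restrictFunctor j) i).hom.app L =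
      (FlatBCH6.exactHomologyIso (Scheme.Modules.restrictFunctor j) i).hom.app K ≫
      (Scheme.Modules.restrictFunctor j).map
        ((DerivedCategory.homologyFunctor Y.Modules i).map φ) := hn
  have h3 : (Scheme.Modules.restrictFunctor j).map
      ((DerivedCategory.homologyFunctor Y.Modules i).map φ) =
      (FlatBCH6.exactHomologyIso (Scheme.Modules.restrictFunctor j) i).inv.app K ≫
      (DerivedCategory.homologyFunctor U.Modules i).map ((DCoh.restrictD j).map φ) ≫
      (FlatBCH6.exactHomologyIso (Scheme.Modules.restrictFunctor j) i).hom.app L := by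
    rw [hn', Iso.inv_hom_id_app_assoc]
  rw [h3]
  infer_instance

theorem isIso_stalk_of_restrictD {K L : DCoh.D Y} (φ : K ⟶ L)
    (h : IsIso ((DCoh.restrictD j).map φ)) (i : ℤ) (y : U) :
    IsIso ((DerSch.stalkFunctor Y (j.base y)).map
      ((DerivedCategory.homologyFunctor Y.Modules i).map φ)) := by
  have h4 := isIso_restrict_homology_map j φ h i
  rw [ConcreteCategory.isIso_iff_bijective]
  refine (stalk_bijective_iff j y _).1 ?_
  haveI : IsIso ((DerSch.stalkFunctor U y).map ((Scheme.Modules.restrictFunctor j).map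
      ((DerivedCategory.homologyFunctor Y.Modules i).map φ))) := Functor.map_isIso _ _
  exact ConcreteCategory.bijective_of_isIso _

end Stalks

section Abstract

variable {C D : Type*} [Category C] [Category D] {L : C ⥤ D} {R : D ⥤ C}

theorem isIso_unit_of_iso_R (adj : L ⊣ R) [IsIso adj.counit] {G : C} {F : D}
    (e : G ≅ R.obj F) : IsIso (adj.unit.app G) := by
  haveI : R.Full := adj.fullyFaithfulROfIsIsoCounit.full
  haveI : R.Faithful := adj.fullyFaithfulROfIsIsoCounit.faithful
  exact adj.isIso_unit_app_of_iso e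

end Abstract

/-- the unit `K ⟶ Rj_* j^* K` is an isomorphism when `K` vanishes on an open whose complement
lies in the image of `j` -/
theorem isIso_unit_of_isZero_restrict {X Y : Scheme.{u}} (j : X ⟶ Y) [IsOpenImmersion j]
    (W : Y.Opens) (hW : (W : Set Y)ᶜ ⊆ Set.range j.base) [DCoh.HasRpush j]
    (adj : DCoh.restrictD j ⊣ DCoh.Rpush j) (K : DCoh.D Y)
    (hK : ∀ (i : ℤ) (x : Y), x ∈ W → Subsingleton ((DCoh.HD K i).presheaf.stalk x)) :
    IsIso (adj.unit.app K) := by
  obtain ⟨κ⟩ := nonempty_Rpush_comp_DD_iso_id j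
  haveI : IsIso adj.counit := adj.isIso_counit_of_iso κ
  obtain ⟨η, hη⟩ : ∃ η : K ⟶ (DCoh.Rpush j).obj ((DCoh.restrictD j).obj K),
      η = adj.unit.app K := ⟨_, rfl⟩
  obtain ⟨ε, hε⟩ : ∃ ε : (DCoh.restrictD j).obj ((DCoh.Rpush j).obj
      ((DCoh.restrictD j).obj K)) ⟶ (DCoh.restrictD j).obj K,
      ε = adj.counit.app ((DCoh.restrictD j).obj K) := ⟨_, rfl⟩
  haveI : IsIso ε := by
    rw [hε]
    exact NatIso.isIso_app_of_isIso adj.counit _
  have hh : (DCoh.restrictD j).map η ≫ ε = 𝟙 ((DCoh.restrictD j).obj K) := by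
    rw [hη, hε]
    exact adj.left_triangle_components K
  have h2 : IsIso ((DCoh.restrictD j).map η) := IsIso.of_isIso_fac_right hh
  -- the target vanishes on `W`
  have hT : ∀ (i : ℤ) (x : Y), x ∈ W → Subsingleton
      ((DCoh.HD ((DCoh.Rpush j).obj ((DCoh.restrictD j).obj K)) i).presheaf.stalk x) := by
    intro i x hx
    obtain ⟨e⟩ := BCOpenL.main6508 j W
    have hz0 : IsZero ((DCoh.restrictD (j ⁻¹ᵁ W).ι).obj ((DCoh.restrictD j).obj K)) := by
      apply isZero_restrictD_of_stalks
      intro i' y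
      refine (subsingleton_stalk_HD_restrictD_iff j K i' ((j ⁻¹ᵁ W).ι.base y)).2 ?_
      exact hK i' _ y.2
    have hz1 : IsZero ((DCoh.restrictD W.ι).obj
        ((DCoh.Rpush j).obj ((DCoh.restrictD j).obj K))) :=
      IsZero.of_iso (BCOpenL.isZero_Rpush_of_isZero (j ∣_ W) _ hz0) (e.app _)
    exact stalks_of_isZero_restrictD W.ι _ hz1 i ⟨x, hx⟩
  rw [← hη]
  rw [DerivedCategory.isIso_iff]
  intro n
  apply isIso_of_forall_stalk_isIso
  intro x
  by_cases hx : x ∈ W
  · exact isIso_stalk_of_subsingleton _ x (hK n x hx) (hT n x hx)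
  · obtain ⟨y, rfl⟩ := hW hx
    exact isIso_stalk_of_restrictD j η h2 n y

section RG

variable {Y : Scheme.{u}}

/-- `RΓ_Z(G) ≅ Q(Γ_Z I)` for a K-injective representative `I` of `G` -/
def iG (W : Y.Opens) [CxOX.HasRgammaZ W.ι] (I : CochainComplex Y.Modules ℤ) [I.IsKInjective]
    (G : DCoh.D Y) (eG : DerivedCategory.Q.obj I ≅ G) :
    (CxOX.RgammaZ W.ι).obj G ≅ DerivedCategory.Q.obj ((GCx W).obj I) :=
  haveI := grothendieck_modules Y
  (CxOX.RgammaZ W.ι).mapIso eG.symm ≪≫
    (Groth.Agent.Lib.RDerGE.unitIso (DCoh.gammaZ W.ι) I).symm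

/-- the cohomology sheaves of `RΓ_Z(G)` vanish on the open complement -/
theorem subsingleton_stalk_HD_RgammaZ (W : Y.Opens) [CxOX.HasRgammaZ W.ι] (G : DCoh.D Y)
    (i : ℤ) (x : Y) (hx : x ∈ W) :
    Subsingleton ((DCoh.HD ((CxOX.RgammaZ W.ι).obj G) i).presheaf.stalk x) := by
  haveI := grothendieck_modules Y
  obtain ⟨I, hI, hinj, ⟨eG⟩⟩ := Groth.Agent.Lib.KInjGen8.exists_kInjective_rep G
  haveI := hI
  have e := (DerivedCategory.homologyFunctor Y.Modules i).mapIso (iG W I G eG)
  have hs := support_HD_Q_gam W I i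
  rw [← support_eq_of_iso e] at hs
  exact not_not.mp (fun h => hs h hx)

end RG

/-- **S14368** -/
theorem main14368 {X Xbar : Scheme.{u}} (j : X ⟶ Xbar) [IsOpenImmersion j] (W : Xbar.Opens)
    (hW : (W : Set Xbar)ᶜ ⊆ Set.range j.base)
    [DCoh.HasRpush j] [CxOX.HasRgammaZ W.ι]
    (adj : DCoh.restrictD j ⊣ DCoh.Rpush j) (G : DCoh.D Xbar) :
    IsIso (adj.unit.app ((CxOX.RgammaZ W.ι).obj G)) :=
  isIso_unit_of_isZero_restrict j W hW adj _
    (fun i x hx => subsingleton_stalk_HD_RgammaZ W G i x hx)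

end

end Groth.Agent.Lib.RGammaZL
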