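import Mathlib
import Groth.Prelude
import Groth.Agent.Lib.RGammaZ3_lead

/-!
# `Rj_*` and `j^*` between supported objects (lead; S14366)

* `nonempty_Rpush_comp_obj`: `Rg_* Rf_* F ≅ R(gf)_* F` for `f` an open immersion;
* `isZero_gammaZ_pushforward`, `isZero_RgammaZ_Rpush`: `RΓ_Z(Rj_* F) = 0` when `j(X) ∩ Z = ∅`;
* `isIso_unit_14366`, `main14366`.

APPEND-ONLY once landed.
-/

set_option autoImplicit false
set_option linter.all false
set_option maxHeartbeats 1600000
set_option backward.isDefEq.respectTransparency false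
set_option backward.isDefEq.respectTransparency.types false
set_option backward.defeqAttrib.useBackward true

universe u
open CategoryTheory CategoryTheory.Limits AlgebraicGeometry Opposite TopologicalSpace
open DerivedCategory CategoryTheory.Pretriangulated
attribute [local instance] HasDerivedCategory.standard

namespace Groth.Agent.Lib.RGammaZL

open Groth.Agent.Lib Groth.Agent.Lib.DCohLocLead Groth.Agent.Lib.StalkSkyL Groth.Agent.Lib.MVPushL
open Groth.Agent.Lib.ApproxOpenL Groth.Agent.Lib.KoszL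

noncomputable section

/-- derived pushforwards exist -/
local instance hasRpushInst4 {X Y : Scheme.{u}} (g : X ⟶ Y) : DCoh.HasRpush g :=
  BCOpenL.hasRpush g

theorem mem_range_ι_base_iff {X : Scheme.{u}} (U : X.Opens) (x : X) :
    x ∈ Set.range U.ι.base ↔ x ∈ U := by
  constructor
  · rintro ⟨y, rfl⟩
    exact y.2
  · intro hx
    exact ⟨⟨x, hx⟩, rfl⟩

/-- `Rg_* Rf_* F ≅ R(gf)_* F` for an open immersion `f` -/
theorem nonempty_Rpush_comp_obj {X Y Z : Scheme.{u}} (f : X ⟶ Y) [IsOpenImmersion f] (g : Y ⟶ Z)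
    (h : X ⟶ Z) (hfg : f ≫ g = h) [DCoh.HasRpush f] [DCoh.HasRpush g] [DCoh.HasRpush h]
    (F : DCoh.D X) :
    Nonempty ((DCoh.Rpush g).obj ((DCoh.Rpush f).obj F) ≅ (DCoh.Rpush h).obj F) := by
  subst hfg
  haveI := grothendieck_modules X
  haveI := grothendieck_modules Y
  obtain ⟨J, hJ, _, ⟨eF⟩⟩ := Groth.Agent.Lib.KInjGen8.exists_kInjective_rep F
  haveI := hJ
  haveI hPJ : CochainComplex.IsKInjective
      (((Scheme.Modules.pushforward f).mapHomologicalComplex (ComplexShape.up ℤ)).obj J) :=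
    isKInjective_map_of_adjunction (Scheme.Modules.restrictAdjunction f) J
  let e1 := Groth.Agent.Lib.RDerGE.unitIso (Scheme.Modules.pushforward f) J
  let e2 := Groth.Agent.Lib.RDerGE.unitIso (Scheme.Modules.pushforward g)
    (((Scheme.Modules.pushforward f).mapHomologicalComplex (ComplexShape.up ℤ)).obj J)
  let e3 := Groth.Agent.Lib.RDerGE.unitIso (Scheme.Modules.pushforward (f ≫ g)) J
  let c : ((Scheme.Modules.pushforward g).mapHomologicalComplex (ComplexShape.up ℤ)).obj
      (((Scheme.Modules.pushforward f).mapHomologicalComplex (ComplexShape.up ℤ)).obj J) ≅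
      ((Scheme.Modules.pushforward (f ≫ g)).mapHomologicalComplex (ComplexShape.up ℤ)).obj J :=
    (NatIso.mapHomologicalComplex (Scheme.Modules.pushforwardComp f g) (ComplexShape.up ℤ)).app J
  exact ⟨(DCoh.Rpush g).mapIso ((DCoh.Rpush f).mapIso eF.symm ≪≫ e1.symm) ≪≫ e2.symm ≪≫
    (DerivedCategory.Q (C := Z.Modules)).mapIso c ≪≫ e3 ≪≫ (DCoh.Rpush (f ≫ g)).mapIso eF⟩

section Gamma

variable {X Y : Scheme.{u}} (j : X ⟶ Y) [IsOpenImmersion j]

/-- `Γ_Z(j_* M) = 0` when the image of `j` lies in the open complement of `Z` -/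
theorem isZero_gammaZ_pushforward (T : Y.Opens) (hjT : Set.range j.base ⊆ (T : Set Y))
    (M : X.Modules) :
    IsZero ((DCoh.gammaZ T.ι).obj ((Scheme.Modules.pushforward j).obj M)) := by
  have hzT := isZero_restrict_gammaZ T ((Scheme.Modules.pushforward j).obj M)
  have hsupp := support_subset_compl_of_isZero_restrict T _ hzT
  have hzj : IsZero ((Scheme.Modules.restrictFunctor j).obj
      ((DCoh.gammaZ T.ι).obj ((Scheme.Modules.pushforward j).obj M))) := by
    apply isZero_of_forall_stalk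
    intro y
    haveI h1 : Subsingleton (((DCoh.gammaZ T.ι).obj
        ((Scheme.Modules.pushforward j).obj M)).presheaf.stalk (j.base y)) :=
      not_not.mp (fun h => hsupp h (hjT ⟨y, rfl⟩))
    exact (RestrStalkH8.restrictStalkEquiv j _ y).toEquiv.subsingleton
  have hκ : ((CxOX.gammaZι T.ι).app ((Scheme.Modules.pushforward j).obj M) :
      (DCoh.gammaZ T.ι).obj ((Scheme.Modules.pushforward j).obj M) ⟶
        (Scheme.Modules.pushforward j).obj M) = 0 :=
    ((Scheme.Modules.restrictAdjunction j).homEquiv _ M).symm.injective (hzj.eq_of_src _ _)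
  haveI : Mono ((CxOX.gammaZι T.ι).app ((Scheme.Modules.pushforward j).obj M)) := by
    show Mono (kernel.ι ((Scheme.Modules.restrictAdjunction T.ι).unit.app _))
    infer_instance
  exact IsZero.of_mono_eq_zero _ hκ

theorem isZero_RgammaZ_Rpush (T : Y.Opens) (hjT : Set.range j.base ⊆ (T : Set Y))
    [DCoh.HasRpush j] [CxOX.HasRgammaZ T.ι] (F : DCoh.D X) :
    IsZero ((CxOX.RgammaZ T.ι).obj ((DCoh.Rpush j).obj F)) := by
  haveI := grothendieck_modules X
  haveI := grothendieck_modules Y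
  obtain ⟨J, hJ, _, ⟨eF⟩⟩ := Groth.Agent.Lib.KInjGen8.exists_kInjective_rep F
  haveI := hJ
  haveI hPJ : CochainComplex.IsKInjective
      (((Scheme.Modules.pushforward j).mapHomologicalComplex (ComplexShape.up ℤ)).obj J) :=
    isKInjective_map_of_adjunction (Scheme.Modules.restrictAdjunction j) J
  let e1 : DerivedCategory.Q.obj
      (((Scheme.Modules.pushforward j).mapHomologicalComplex (ComplexShape.up ℤ)).obj J) ≅
      (DCoh.Rpush j).obj F :=
    Groth.Agent.Lib.RDerGE.unitIso (Scheme.Modules.pushforward j) J ≪≫ (DCoh.Rpush j).mapIso eF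
  refine IsZero.of_iso ?_ (iG T _ _ e1)
  have hz : IsZero ((GCx T).obj
      (((Scheme.Modules.pushforward j).mapHomologicalComplex (ComplexShape.up ℤ)).obj J)) := by
    rw [IsZero.iff_id_eq_zero]
    refine HomologicalComplex.hom_ext _ _ (fun n => ?_)
    exact (isZero_gammaZ_pushforward j T hjT (J.X n)).eq_of_src _ _
  exact (DerivedCategory.Q (C := Y.Modules)).map_isZero hz

end Gamma

theorem isIso_unit_14366 {X Xbar : Scheme.{u}} (j : X ⟶ Xbar) [IsOpenImmersion j]
    (U' T : Xbar.Opens) (hT : (T : Set Xbar) = (U' : Set Xbar) ∪ Set.range j.base)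
    [DCoh.HasRpush j] [CxOX.HasRgammaZ T.ι] (adj : DCoh.restrictD j ⊣ DCoh.Rpush j)
    (G : DCoh.D Xbar) (hGs : CxOX.IsSuppD U'.ι G)
    (hRG : IsZero ((CxOX.RgammaZ T.ι).obj G)) : IsIso (adj.unit.app G) := by
  haveI := grothendieck_modules Xbar
  obtain ⟨κ⟩ := nonempty_Rpush_comp_DD_iso_id j
  haveI : IsIso adj.counit := adj.isIso_counit_of_iso κ
  obtain ⟨I, hI, hinj, ⟨eG⟩⟩ := Groth.Agent.Lib.KInjGen8.exists_kInjective_rep G
  haveI := hI
  -- step 1: `G ≅ RT_*(G|_T)`
  have hS := shortExact_gzSCx T I hinj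
  have hTri := DerivedCategory.triangleOfSES_distinguished hS
  have hz1 : IsZero (DerivedCategory.Q.obj ((GCx T).obj I)) :=
    IsZero.of_iso hRG (iG T I G eG).symm
  haveI h1 : IsIso (DerivedCategory.Q.map (gzSCx T I).g) :=
    (Triangle.isZero₁_iff_isIso₂ _ hTri).mp hz1
  let e1 : G ≅ (DCoh.Rpush T.ι).obj ((DCoh.restrictD T.ι).obj G) :=
    eG.symm ≪≫ asIso (DerivedCategory.Q.map (gzSCx T I).g) ≪≫ (iB T I G eG).symm
  -- step 2: on `T`
  have hjT' : Set.range j.base ⊆ Set.range T.ι.base := by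
    intro x hx
    refine (mem_range_ι_base_iff T x).2 ?_
    show x ∈ (T : Set Xbar)
    rw [hT]
    exact Or.inr hx
  let jT : X ⟶ T.toScheme := IsOpenImmersion.lift T.ι j hjT'
  have hfac : jT ≫ T.ι = j := IsOpenImmersion.lift_fac _ _ _
  haveI : IsOpenImmersion (jT ≫ T.ι) := by
    rw [hfac]
    infer_instance
  haveI : IsOpenImmersion jT := IsOpenImmersion.of_comp jT T.ι
  obtain ⟨adjT⟩ := HomVanL.nonempty_adj_DD jT
  let WT : T.toScheme.Opens := T.ι ⁻¹ᵁ U'
  have hWT : (WT : Set T.toScheme)ᶜ ⊆ Set.range jT.base := by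
    intro t ht
    have htT : T.ι.base t ∈ (T : Set Xbar) := t.2
    rw [hT] at htT
    rcases htT with h | ⟨x, hx⟩
    · exact absurd h ht
    · refine ⟨x, ?_⟩
      apply T.ι.isOpenEmbedding.injective
      have h5 : T.ι.base (jT.base x) = j.base x :=
        congrArg (fun φ : X ⟶ Xbar => φ.base x) hfac
      exact h5.trans hx
  have hGT : ∀ (i : ℤ) (t : T.toScheme), t ∈ WT →
      Subsingleton ((DCoh.HD ((DCoh.restrictD T.ι).obj G) i).presheaf.stalk t) := by
    intro i t ht
    refine (subsingleton_stalk_HD_restrictD_iff T.ι G i t).2 ?_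
    have h6 : T.ι.base t ∈ U' := ht
    exact not_not.mp (fun h => hGs i h ((mem_range_ι_base_iff U' _).2 h6))
  haveI h7 : IsIso (adjT.unit.app ((DCoh.restrictD T.ι).obj G)) :=
    isIso_unit_of_isZero_restrict jT WT hWT adjT _ hGT
  let e2 : (DCoh.restrictD T.ι).obj G ≅
      (DCoh.Rpush jT).obj ((DCoh.restrictD jT).obj ((DCoh.restrictD T.ι).obj G)) :=
    asIso (adjT.unit.app ((DCoh.restrictD T.ι).obj G))
  obtain ⟨e3⟩ := nonempty_Rpush_comp_obj jT T.ι j hfac
    ((DCoh.restrictD jT).obj ((DCoh.restrictD T.ι).obj G))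
  exact isIso_unit_of_iso_R adj (e1 ≪≫ (DCoh.Rpush T.ι).mapIso e2 ≪≫ e3)

/-- **S14366** -/
theorem main14366 {X Xbar : Scheme.{u}} (j : X ⟶ Xbar) [IsOpenImmersion j] (U : X.Opens)
    (U' T : Xbar.Opens)
    (hU' : (U' : Set Xbar) = (closure (j.base '' ((U : Set X)ᶜ)))ᶜ)
    (hT : (T : Set Xbar) = (U' : Set Xbar) ∪ Set.range j.base)
    [DCoh.HasRpush j] [CxOX.HasRgammaZ T.ι]
    (adj : DCoh.restrictD j ⊣ DCoh.Rpush j) :
    (∀ F : DCoh.D X, DCoh.IsQCohD F → CxOX.IsSuppD U.ι F →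
        CxOX.IsSuppD U'.ι ((DCoh.Rpush j).obj F) ∧
          IsZero ((CxOX.RgammaZ T.ι).obj ((DCoh.Rpush j).obj F))) ∧
    (∀ F : DCoh.D X, IsIso (adj.counit.app F)) ∧
    (∀ G : DCoh.D Xbar, DCoh.IsQCohD G → CxOX.IsSuppD U'.ι G →
        IsZero ((CxOX.RgammaZ T.ι).obj G) →
        IsIso (adj.unit.app G) ∧ DCoh.IsQCohD ((DCoh.restrictD j).obj G) ∧
          CxOX.IsSuppD U.ι ((DCoh.restrictD j).obj G)) := by
  have hjT : Set.range j.base ⊆ (T : Set Xbar) := by
    rw [hT]
    exact Set.subset_union_right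
  have hyU : ∀ y : X, j.base y ∈ U' → y ∈ U := by
    intro y hy
    by_contra hyn
    have h1 : j.base y ∈ closure (j.base '' ((U : Set X)ᶜ)) := subset_closure ⟨y, hyn, rfl⟩
    have h2 : j.base y ∈ (U' : Set Xbar) := hy
    rw [hU'] at h2
    exact h2 h1
  have hjU : ∀ y : X, y ∈ U → j.base y ∈ U' := by
    intro y hy
    show j.base y ∈ (U' : Set Xbar)
    rw [hU']
    intro h1
    have h3 : y ∈ closure ((U : Set X)ᶜ) := by
      rw [j.isOpenEmbedding.isInducing.closure_eq_preimage_closure_image]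
      exact h1
    rw [U.isOpen.isClosed_compl.closure_eq] at h3
    exact h3 hy
  obtain ⟨κ⟩ := nonempty_Rpush_comp_DD_iso_id j
  haveI : IsIso adj.counit := adj.isIso_counit_of_iso κ
  refine ⟨?_, ?_, ?_⟩
  · intro F _ hFs
    refine ⟨?_, isZero_RgammaZ_Rpush j T hjT F⟩
    intro i x hx hxU'
    rw [mem_range_ι_base_iff] at hxU'
    apply hx
    obtain ⟨e⟩ := BCOpenL.main6508 j U'
    have hz0 : IsZero ((DCoh.restrictD (j ⁻¹ᵁ U').ι).obj F) := by
      apply isZero_restrictD_of_stalks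
      intro i' y
      have hy : (j ⁻¹ᵁ U').ι.base y ∈ U := hyU _ y.2
      exact not_not.mp (fun h => hFs i' h ((mem_range_ι_base_iff U _).2 hy))
    have hz1 : IsZero ((DCoh.restrictD U'.ι).obj ((DCoh.Rpush j).obj F)) :=
      IsZero.of_iso (BCOpenL.isZero_Rpush_of_isZero (j ∣_ U') _ hz0) (e.app _)
    exact stalks_of_isZero_restrictD U'.ι _ hz1 i ⟨x, hxU'⟩
  · intro F
    infer_instance
  · intro G hG hGs hRG
    refine ⟨isIso_unit_14366 j U' T hT adj G hGs hRG,
      LpullQCL.isQCohD_restrictD j G hG, ?_⟩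
    intro i y hy hyU'
    rw [mem_range_ι_base_iff] at hyU'
    apply hy
    refine (subsingleton_stalk_HD_restrictD_iff j G i y).2 ?_
    exact not_not.mp (fun h => hGs i h ((mem_range_ι_base_iff U' _).2 (hjU y hyU')))

end

end Groth.Agent.Lib.RGammaZL
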