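import Mathlib
import Groth.Prelude
import Groth.Agent.Lib.RGammaZ4_lead

/-!
# The universal property of `RΓ_Z(B) ⟶ B` (lead; S14364, S17639)

* `bijective_comp_mor₁`: composition with the first map of a distinguished triangle;
* `RgammaZToId_app_Q`, `RgammaZToId_app_eq`: the canonical map `RΓ_Z(G) ⟶ G` on a K-injective model;
* `bijective_comp_RgammaZToId`: maps from an object vanishing on `U` into `B` factor uniquely
  through `RΓ_Z(B)`.

APPEND-ONLY once landed.
-/

set_option autoImplicit false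
set_option linter.all false
set_option maxHeartbeats 1600000
set_option backward.isDefEq.respectTransparency false
set_option backward.isDefEq.respectTransparency.types false
set_option backward.defeqAttrib.useBackward true

universe u
open CategoryTheory CategoryTheory.Limits AlgebraicGeometry Opposite TopologicalSpace
open DerivedCategory CategoryTheory.Pretriangulated
attribute [local instance] HasDerivedCategory.standard

namespace Groth.Agent.Lib.RGammaZL

open Groth.Agent.Lib Groth.Agent.Lib.DCohLocLead Groth.Agent.Lib.StalkSkyL Groth.Agent.Lib.MVPushL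
open Groth.Agent.Lib.ApproxOpenL Groth.Agent.Lib.KoszL Groth.Agent.Lib.HomVanL

noncomputable section

/-- derived pushforwards exist -/
local instance hasRpushInst5 {X Y : Scheme.{u}} (g : X ⟶ Y) : DCoh.HasRpush g :=
  BCOpenL.hasRpush g

section Abstract

variable {C : Type*} [Category C] [Preadditive C] [HasZeroObject C] [HasShift C ℤ]
  [∀ n : ℤ, (shiftFunctor C n).Additive] [Pretriangulated C]

theorem bijective_comp_mor₁ (T : Triangle C) (hT : T ∈ distTriang C) (A : C)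
    (h3 : NoHom A T.obj₃) (h3' : NoHom A (T.obj₃⟦(-1 : ℤ)⟧)) :
    Function.Bijective (fun a : A ⟶ T.obj₁ => a ≫ T.mor₁) := by
  constructor
  · intro a₁ a₂ h
    have h0 : (a₁ - a₂) ≫ T.invRotate.mor₂ = 0 := by
      show (a₁ - a₂) ≫ T.mor₁ = 0
      rw [Preadditive.sub_comp]
      exact sub_eq_zero.mpr h
    obtain ⟨c, hc⟩ := Triangle.coyoneda_exact₂ T.invRotate (inv_rot_of_distTriang T hT)
      (a₁ - a₂) h0
    rw [h3' c, zero_comp] at hc
    exact sub_eq_zero.mp hc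
  · intro b
    obtain ⟨a, ha⟩ := Triangle.coyoneda_exact₂ T hT b (h3 _)
    exact ⟨a, ha.symm⟩

end Abstract

section Compat

variable {Y : Scheme.{u}} (W : Y.Opens) [CxOX.HasRgammaZ W.ι]

theorem gammaZKhι_app_quotient (I : CochainComplex Y.Modules ℤ) :
    (CxOX.gammaZKhι W.ι).app ((HomotopyCategory.quotient _ _).obj I) =
      DerivedCategory.Q.map (gamCx W I) := by
  have hc : gamCx W I =
      (NatTrans.mapHomologicalComplex (CxOX.gammaZι W.ι) (ComplexShape.up ℤ)).app I ≫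
        (Functor.mapHomologicalComplexIdIso Y.Modules (ComplexShape.up ℤ)).hom.app I := by
    ext n
    simp [gamCx]
  rw [hc, Functor.map_comp]
  dsimp only [CxOX.gammaZKhι]
  erw [Quotient.natTransLift_app]
  simp only [NatTrans.comp_app, Functor.whiskerRight_app, Functor.associator_inv_app,
    Functor.associator_hom_app, Functor.leftUnitor_hom_app, Category.id_comp, Category.comp_id]
  have h1 : ((DCoh.gammaZ W.ι).mapHomotopyCategoryFactors (ComplexShape.up ℤ)).hom.app I = 𝟙 _ :=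
    rfl
  rw [h1, CategoryTheory.Functor.map_id]
  erw [Category.id_comp, Category.comp_id]

theorem RgammaZToId_app_Q (I : CochainComplex Y.Modules ℤ) [I.IsKInjective] :
    haveI := grothendieck_modules Y
    (CxOX.RgammaZToId W.ι).app (DerivedCategory.Q.obj I) =
      (Groth.Agent.Lib.RDerGE.unitIso (DCoh.gammaZ W.ι) I).inv ≫
        DerivedCategory.Q.map (gamCx W I) := by
  haveI := grothendieck_modules Y
  rw [Iso.eq_inv_comp]
  have h := Functor.rightDerived_fac_app (CxOX.RgammaZ W.ι)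
    ((CxOX.gammaZKh W.ι).totalRightDerivedUnit DerivedCategory.Qh
      (HomotopyCategory.quasiIso Y.Modules (ComplexShape.up ℤ)))
    (HomotopyCategory.quasiIso Y.Modules (ComplexShape.up ℤ)) (𝟭 (DCoh.D Y))
    (CxOX.gammaZKhι W.ι ≫ (Functor.rightUnitor _).inv)
    ((HomotopyCategory.quotient _ _).obj I)
  refine h.trans ?_
  rw [NatTrans.comp_app, gammaZKhι_app_quotient]
  simp

theorem RgammaZToId_app_eq (I : CochainComplex Y.Modules ℤ) [I.IsKInjective] (G : DCoh.D Y)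
    (eG : DerivedCategory.Q.obj I ≅ G) :
    (CxOX.RgammaZToId W.ι).app G =
      (iG W I G eG).hom ≫ DerivedCategory.Q.map (gamCx W I) ≫ eG.hom := by
  haveI := grothendieck_modules Y
  have hn := (CxOX.RgammaZToId W.ι).naturality eG.hom
  have hn' : (CxOX.RgammaZ W.ι).map eG.hom ≫ (CxOX.RgammaZToId W.ι).app G =
      (CxOX.RgammaZToId W.ι).app (DerivedCategory.Q.obj I) ≫ eG.hom := hn
  have h2 : (CxOX.RgammaZToId W.ι).app G =
      (CxOX.RgammaZ W.ι).map eG.inv ≫
        (CxOX.RgammaZToId W.ι).app (DerivedCategory.Q.obj I) ≫ eG.hom := by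
    rw [← hn', ← Category.assoc, ← CategoryTheory.Functor.map_comp, eG.inv_hom_id,
      CategoryTheory.Functor.map_id]
    exact (Category.id_comp _).symm
  rw [h2, RgammaZToId_app_Q]
  simp only [iG, Iso.trans_hom, Functor.mapIso_hom, Iso.symm_hom, Category.assoc]

/-- maps from an object vanishing on `W` into `B` factor uniquely through `RΓ_Z(B)` -/
theorem bijective_comp_RgammaZToId (A B : DCoh.D Y)
    (hA : IsZero ((DCoh.restrictD W.ι).obj A)) :
    Function.Bijective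
      (fun a : A ⟶ (CxOX.RgammaZ W.ι).obj B => a ≫ (CxOX.RgammaZToId W.ι).app B) := by
  haveI := grothendieck_modules Y
  obtain ⟨I, hI, hinj, ⟨eB⟩⟩ := Groth.Agent.Lib.KInjGen8.exists_kInjective_rep B
  haveI := hI
  obtain ⟨adjW⟩ := nonempty_adj_DD W.ι
  have hS := shortExact_gzSCx W I hinj
  have hTri := DerivedCategory.triangleOfSES_distinguished hS
  have hno : ∀ A' : DCoh.D Y, IsZero ((DCoh.restrictD W.ι).obj A') →
      NoHom A' (DerivedCategory.Q.obj (BCx W I)) := by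
    intro A' hA'
    refine NoHom.of_iso_right ?_ (iB W I (DerivedCategory.Q.obj I) (Iso.refl _))
    exact NoHom.of_adj adjW (NoHom.of_isZero_left hA')
  have h3 : NoHom A (DerivedCategory.triangleOfSES hS).obj₃ := hno A hA
  have h3' : NoHom A ((DerivedCategory.triangleOfSES hS).obj₃⟦(-1 : ℤ)⟧) := by
    refine NoHom.shift_right (-1) 1 (by omega) ?_
    apply hno
    exact IsZero.of_iso ((shiftFunctor _ (1 : ℤ)).map_isZero hA)
      (((DCoh.restrictD W.ι).commShiftIso (1 : ℤ)).app A)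
  have hb := bijective_comp_mor₁ _ hTri A h3 h3'
  have hcompat := RgammaZToId_app_eq W I B eB
  constructor
  · intro a₁ a₂ h
    have h' : a₁ ≫ (CxOX.RgammaZToId W.ι).app B = a₂ ≫ (CxOX.RgammaZToId W.ι).app B := h
    rw [hcompat] at h'
    have h'' : (a₁ ≫ (iG W I B eB).hom) ≫ DerivedCategory.Q.map (gamCx W I) =
        (a₂ ≫ (iG W I B eB).hom) ≫ DerivedCategory.Q.map (gamCx W I) := by
      rw [← cancel_mono eB.hom]
      simpa only [Category.assoc] using h'
    have h4 : a₁ ≫ (iG W I B eB).hom = a₂ ≫ (iG W I B eB).hom := hb.1 h''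
    exact (cancel_mono (iG W I B eB).hom).1 h4
  · intro b
    obtain ⟨a', ha'⟩ := hb.2 (b ≫ eB.inv)
    have ha'' : a' ≫ DerivedCategory.Q.map (gamCx W I) = b ≫ eB.inv := ha'
    refine ⟨a' ≫ (iG W I B eB).inv, ?_⟩
    show (a' ≫ (iG W I B eB).inv) ≫ (CxOX.RgammaZToId W.ι).app B = b
    rw [hcompat]
    simp only [Category.assoc, Iso.inv_hom_id_assoc]
    rw [← Category.assoc, ha'', Category.assoc, eB.inv_hom_id]
    exact Category.comp_id _

/-- `RΓ_Z(G)` vanishes on the open complement -/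
theorem isZero_restrictD_RgammaZ (G : DCoh.D Y) :
    IsZero ((DCoh.restrictD W.ι).obj ((CxOX.RgammaZ W.ι).obj G)) := by
  apply isZero_restrictD_of_stalks
  intro i y
  exact subsingleton_stalk_HD_RgammaZ W G i _ y.2

end Compat

section Adj

variable {C D : Type*} [Category C] [Category D] [Preadditive C] [Preadditive D]
  {L : C ⥤ D} {R : D ⥤ C}

theorem isZero_leftAdjoint_obj (adj : L ⊣ R) {Z : C} (hZ : IsZero Z) : IsZero (L.obj Z) := by
  rw [IsZero.iff_id_eq_zero]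
  exact (adj.homEquiv _ _).injective (hZ.eq_of_src _ _)

end Adj

open Groth.Agent.Lib.PerfLocL in
attribute [local instance] hasLpullInst

/-- **S14364** -/
theorem main14364 {X Y : Scheme.{u}} (f : X ⟶ Y) (U : Y.Opens)
    [CxOX.HasRgammaZ U.ι] [CxOX.HasRgammaZ (f ⁻¹ᵁ U).ι] [DCoh.HasRpush f] (K : DCoh.D X) :
    (∃ α : (DCoh.Rpush f).obj ((CxOX.RgammaZ (f ⁻¹ᵁ U).ι).obj K) ⟶
        (CxOX.RgammaZ U.ι).obj ((DCoh.Rpush f).obj K),
        α ≫ (CxOX.RgammaZToId U.ι).app ((DCoh.Rpush f).obj K) =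
          (DCoh.Rpush f).map ((CxOX.RgammaZToId (f ⁻¹ᵁ U).ι).app K)) ∧
    ∀ α : (DCoh.Rpush f).obj ((CxOX.RgammaZ (f ⁻¹ᵁ U).ι).obj K) ⟶
        (CxOX.RgammaZ U.ι).obj ((DCoh.Rpush f).obj K),
        α ≫ (CxOX.RgammaZToId U.ι).app ((DCoh.Rpush f).obj K) =
          (DCoh.Rpush f).map ((CxOX.RgammaZToId (f ⁻¹ᵁ U).ι).app K) → IsIso α := by
  -- the source vanishes on `U`
  have hA : IsZero ((DCoh.restrictD U.ι).obj
      ((DCoh.Rpush f).obj ((CxOX.RgammaZ (f ⁻¹ᵁ U).ι).obj K))) := by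
    obtain ⟨e⟩ := BCOpenL.main6508 f U
    exact IsZero.of_iso (BCOpenL.isZero_Rpush_of_isZero (f ∣_ U) _
      (isZero_restrictD_RgammaZ (f ⁻¹ᵁ U) K)) (e.app _)
  have hH : IsZero ((DCoh.restrictD U.ι).obj
      ((CxOX.RgammaZ U.ι).obj ((DCoh.Rpush f).obj K))) :=
    isZero_restrictD_RgammaZ U _
  have hUP := fun A' hA' => bijective_comp_RgammaZToId U A' ((DCoh.Rpush f).obj K) hA'
  refine ⟨(hUP _ hA).2 _, ?_⟩
  intro α hα
  obtain ⟨adjf⟩ := LpullAdjH3.nonempty_adj f
  obtain ⟨adjg⟩ := LpullAdjH3.nonempty_adj (f ∣_ U)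
  -- claim R
  have hR : ∀ A' : DCoh.D Y, IsZero ((DCoh.restrictD U.ι).obj A') →
      Function.Bijective (fun a : A' ⟶ (DCoh.Rpush f).obj ((CxOX.RgammaZ (f ⁻¹ᵁ U).ι).obj K) =>
        a ≫ (DCoh.Rpush f).map ((CxOX.RgammaZToId (f ⁻¹ᵁ U).ι).app K)) := by
    intro A' hA'
    obtain ⟨e⟩ := LpullLocH3.nonempty_restrict_Lpull_iso f U
    have hz : IsZero ((DCoh.restrictD (f ⁻¹ᵁ U).ι).obj ((DCoh.Lpull f).obj A')) :=
      IsZero.of_iso (isZero_leftAdjoint_obj adjg hA') (e.app A')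
    have hX := bijective_comp_RgammaZToId (f ⁻¹ᵁ U) ((DCoh.Lpull f).obj A') K hz
    have hnat : ∀ a' : (DCoh.Lpull f).obj A' ⟶ (CxOX.RgammaZ (f ⁻¹ᵁ U).ι).obj K,
        adjf.homEquiv A' _ (a' ≫ (CxOX.RgammaZToId (f ⁻¹ᵁ U).ι).app K) =
          adjf.homEquiv A' _ a' ≫
            (DCoh.Rpush f).map ((CxOX.RgammaZToId (f ⁻¹ᵁ U).ι).app K) :=
      fun a' => adjf.homEquiv_naturality_right a' _
    constructor
    · intro a₁ a₂ h
      have h' : a₁ ≫ (DCoh.Rpush f).map ((CxOX.RgammaZToId (f ⁻¹ᵁ U).ι).app K) =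
          a₂ ≫ (DCoh.Rpush f).map ((CxOX.RgammaZToId (f ⁻¹ᵁ U).ι).app K) := h
      obtain ⟨b₁, rfl⟩ := (adjf.homEquiv A' _).surjective a₁
      obtain ⟨b₂, rfl⟩ := (adjf.homEquiv A' _).surjective a₂
      rw [← hnat, ← hnat] at h'
      rw [hX.1 ((adjf.homEquiv A' _).injective h')]
    · intro b
      obtain ⟨a', ha'⟩ := hX.2 ((adjf.homEquiv A' _).symm b)
      refine ⟨adjf.homEquiv A' _ a', ?_⟩
      show adjf.homEquiv A' _ a' ≫
        (DCoh.Rpush f).map ((CxOX.RgammaZToId (f ⁻¹ᵁ U).ι).app K) = b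
      rw [← hnat]
      have ha'' : a' ≫ (CxOX.RgammaZToId (f ⁻¹ᵁ U).ι).app K = (adjf.homEquiv A' _).symm b := ha'
      rw [ha'', Equiv.apply_symm_apply]
  -- composition with `α` is bijective on objects vanishing on `U`
  have hα' : ∀ A' : DCoh.D Y, IsZero ((DCoh.restrictD U.ι).obj A') →
      Function.Bijective (fun a : A' ⟶ (DCoh.Rpush f).obj ((CxOX.RgammaZ (f ⁻¹ᵁ U).ι).obj K) =>
        a ≫ α) := by
    intro A' hA'
    constructor
    · intro a₁ a₂ h
      have h' : a₁ ≫ α = a₂ ≫ α := h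
      apply (hR A' hA').1
      show a₁ ≫ (DCoh.Rpush f).map ((CxOX.RgammaZToId (f ⁻¹ᵁ U).ι).app K) =
        a₂ ≫ (DCoh.Rpush f).map ((CxOX.RgammaZToId (f ⁻¹ᵁ U).ι).app K)
      rw [← hα, ← Category.assoc, ← Category.assoc, h']
    · intro c
      obtain ⟨a, ha⟩ := (hR A' hA').2 (c ≫ (CxOX.RgammaZToId U.ι).app ((DCoh.Rpush f).obj K))
      have ha' : a ≫ (DCoh.Rpush f).map ((CxOX.RgammaZToId (f ⁻¹ᵁ U).ι).app K) =
          c ≫ (CxOX.RgammaZToId U.ι).app ((DCoh.Rpush f).obj K) := ha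
      refine ⟨a, ?_⟩
      apply (hUP A' hA').1
      show (a ≫ α) ≫ (CxOX.RgammaZToId U.ι).app ((DCoh.Rpush f).obj K) =
        c ≫ (CxOX.RgammaZToId U.ι).app ((DCoh.Rpush f).obj K)
      rw [Category.assoc, hα, ha']
  obtain ⟨β, hβ⟩ := (hα' _ hH).2 (𝟙 _)
  have hβ' : β ≫ α = 𝟙 _ := hβ
  have hαβ : α ≫ β = 𝟙 _ := by
    apply (hα' _ hA).1
    show (α ≫ β) ≫ α = 𝟙 _ ≫ α
    rw [Category.assoc, hβ', Category.comp_id, Category.id_comp]
  exact ⟨β, hαβ, hβ'⟩

end

end Groth.Agent.Lib.RGammaZL
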