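import Mathlib
import Groth.Prelude
import Groth.Agent.Lib.RGammaZ5_lead

/-!
# `Rf_*` is left adjoint to `RΓ_{Z'} f^!` on supported objects (lead; S17639)

* `noHom_of_isZero_restrict_of_stalks`, `noHom_restrictD_Rpush`,
  `injective_comp_restrictD_RgammaZToId`;
* `bijective_comp_of_fac`, `bijective_map_comp_inv_unit`, `bijective_step4`;
* `main17639`.

APPEND-ONLY once landed.
-/

set_option autoImplicit false
set_option linter.all false
set_option maxHeartbeats 1600000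
set_option backward.isDefEq.respectTransparency false
set_option backward.isDefEq.respectTransparency.types false
set_option backward.defeqAttrib.useBackward true

universe u
open CategoryTheory CategoryTheory.Limits AlgebraicGeometry Opposite TopologicalSpace
open DerivedCategory CategoryTheory.Pretriangulated
attribute [local instance] HasDerivedCategory.standard

namespace Groth.Agent.Lib.RGammaZL

open Groth.Agent.Lib Groth.Agent.Lib.DCohLocLead Groth.Agent.Lib.StalkSkyL Groth.Agent.Lib.MVPushL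
open Groth.Agent.Lib.ApproxOpenL Groth.Agent.Lib.KoszL Groth.Agent.Lib.HomVanL

noncomputable section

/-- derived pushforwards exist -/
local instance hasRpushInst6 {X Y : Scheme.{u}} (g : X ⟶ Y) : DCoh.HasRpush g :=
  BCOpenL.hasRpush g

section Abstract

variable {C D : Type*} [Category C] [Category D]

theorem bijective_comp_of_fac {F R Hj S : C} (θ : R ⟶ Hj) (p : Hj ⟶ S) (q : R ⟶ S)
    (h : θ ≫ p = q) (hq : Function.Bijective (fun φ : F ⟶ R => φ ≫ q))
    (hp : Function.Injective (fun ψ : F ⟶ Hj => ψ ≫ p)) :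
    Function.Bijective (fun φ : F ⟶ R => φ ≫ θ) := by
  constructor
  · intro φ₁ φ₂ hφ
    have hφ' : φ₁ ≫ θ = φ₂ ≫ θ := hφ
    apply hq.1
    show φ₁ ≫ q = φ₂ ≫ q
    rw [← h, ← Category.assoc, ← Category.assoc, hφ']
  · intro ψ
    obtain ⟨φ, hφ⟩ := hq.2 (ψ ≫ p)
    have hφ' : φ ≫ q = ψ ≫ p := hφ
    refine ⟨φ, ?_⟩
    apply hp
    show (φ ≫ θ) ≫ p = ψ ≫ p
    rw [Category.assoc, h, hφ']

theorem bijective_map_comp_inv_unit {L : C ⥤ D} {R : D ⥤ C} (adj : L ⊣ R) [IsIso adj.counit]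
    {F : D} {Hh A : C} [IsIso (adj.unit.app Hh)] (ι : Hh ⟶ A)
    (h3 : Function.Bijective (fun χ : R.obj F ⟶ Hh => χ ≫ ι)) :
    Function.Bijective (fun ψ : F ⟶ L.obj Hh => R.map ψ ≫ inv (adj.unit.app Hh) ≫ ι) := by
  have hff := adj.fullyFaithfulROfIsIsoCounit
  constructor
  · intro ψ₁ ψ₂ h
    have h' : R.map ψ₁ ≫ inv (adj.unit.app Hh) ≫ ι =
        R.map ψ₂ ≫ inv (adj.unit.app Hh) ≫ ι := h
    have h'' : (R.map ψ₁ ≫ inv (adj.unit.app Hh)) ≫ ι =
        (R.map ψ₂ ≫ inv (adj.unit.app Hh)) ≫ ι := by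
      simpa only [Category.assoc] using h'
    have h2 : R.map ψ₁ ≫ inv (adj.unit.app Hh) = R.map ψ₂ ≫ inv (adj.unit.app Hh) := h3.1 h''
    exact hff.map_injective ((cancel_mono (inv (adj.unit.app Hh))).1 h2)
  · intro ω
    obtain ⟨χ, hχ⟩ := h3.2 ω
    have hχ' : χ ≫ ι = ω := hχ
    refine ⟨hff.preimage (χ ≫ adj.unit.app Hh), ?_⟩
    show R.map (hff.preimage (χ ≫ adj.unit.app Hh)) ≫ inv (adj.unit.app Hh) ≫ ι = ω
    rw [hff.map_preimage, Category.assoc, IsIso.hom_inv_id_assoc, hχ']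

end Abstract

/-- the adjunction bijection for `Rg_* ⊣ a` on `D_QCoh`, on underlying morphisms -/
theorem bijective_step4 {X Y : Scheme.{u}} (g : X ⟶ Y) [DCoh.HasRpush g]
    (hg : DCoh.RpushPreservesQCoh g) (a : DCoh.DQCoh Y ⥤ DCoh.DQCoh X)
    (adj : DCoh.RpushQ g hg ⊣ a) (G : DCoh.DQCoh Y) (M : DCoh.D X) (hM : DCoh.IsQCohD M) :
    Function.Bijective (fun ω : M ⟶ (a.obj G).obj =>
      (DCoh.Rpush g).map ω ≫ (adj.counit.app G).hom) := by
  let M' : DCoh.DQCoh X := ⟨M, hM⟩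
  have key : ∀ ω : M ⟶ (a.obj G).obj, (DCoh.Rpush g).map ω ≫ (adj.counit.app G).hom =
      ((adj.homEquiv M' G).symm (ObjectProperty.homMk ω)).hom := by
    intro ω
    rw [Adjunction.homEquiv_counit]
    rfl
  constructor
  · intro ω₁ ω₂ h
    have h0 : (DCoh.Rpush g).map ω₁ ≫ (adj.counit.app G).hom =
        (DCoh.Rpush g).map ω₂ ≫ (adj.counit.app G).hom := h
    have h' : ((adj.homEquiv M' G).symm (ObjectProperty.homMk ω₁)).hom =
        ((adj.homEquiv M' G).symm (ObjectProperty.homMk ω₂)).hom := by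
      rw [← key, ← key]
      exact h0
    have h2 : (ObjectProperty.homMk ω₁ : M' ⟶ a.obj G) = ObjectProperty.homMk ω₂ :=
      (adj.homEquiv M' G).symm.injective (ObjectProperty.hom_ext _ h')
    exact congrArg (fun t => t.hom) h2
  · intro b
    let b' : (DCoh.RpushQ g hg).obj M' ⟶ G := ObjectProperty.homMk b
    refine ⟨((adj.homEquiv M' G) b').hom, ?_⟩
    show (DCoh.Rpush g).map ((adj.homEquiv M' G) b').hom ≫ (adj.counit.app G).hom = b
    rw [key]
    have h1 : (ObjectProperty.homMk ((adj.homEquiv M' G) b').hom : M' ⟶ a.obj G) =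
        (adj.homEquiv M' G) b' := ObjectProperty.hom_ext _ rfl
    rw [h1, Equiv.symm_apply_apply]
    rfl

section Geo

variable {X Y : Scheme.{u}} (j : X ⟶ Y) [IsOpenImmersion j]

/-- the cone of the unit restricts to zero on `X` -/
theorem isZero_restrictD_cone_unit [DCoh.HasRpush j] (adj : DCoh.restrictD j ⊣ DCoh.Rpush j)
    (E : DCoh.D Y) {C' : DCoh.D Y}
    (b : (DCoh.Rpush j).obj ((DCoh.restrictD j).obj E) ⟶ C') (c : C' ⟶ E⟦(1 : ℤ)⟧)
    (hT : Triangle.mk (adj.unit.app E) b c ∈ distTriang _) :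
    IsZero ((DCoh.restrictD j).obj C') := by
  obtain ⟨κ⟩ := nonempty_Rpush_comp_DD_iso_id j
  haveI : IsIso adj.counit := adj.isIso_counit_of_iso κ
  obtain ⟨η, hη⟩ : ∃ η : E ⟶ (DCoh.Rpush j).obj ((DCoh.restrictD j).obj E),
      η = adj.unit.app E := ⟨_, rfl⟩
  obtain ⟨ε, hε⟩ : ∃ ε : (DCoh.restrictD j).obj ((DCoh.Rpush j).obj
      ((DCoh.restrictD j).obj E)) ⟶ (DCoh.restrictD j).obj E,
      ε = adj.counit.app ((DCoh.restrictD j).obj E) := ⟨_, rfl⟩
  haveI : IsIso ε := by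
    rw [hε]
    exact NatIso.isIso_app_of_isIso adj.counit _
  have hh : (DCoh.restrictD j).map η ≫ ε = 𝟙 ((DCoh.restrictD j).obj E) := by
    rw [hη, hε]
    exact adj.left_triangle_components E
  have h2 : IsIso ((DCoh.restrictD j).map η) := IsIso.of_isIso_fac_right hh
  rw [hη] at h2
  have hT' := (DCoh.restrictD j).map_distinguished _ hT
  exact (Triangle.isZero₃_iff_isIso₁ _ hT').2 h2

variable (W : Y.Opens) (hW : (W : Set Y)ᶜ ⊆ Set.range j.base)

include hW in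
/-- no maps from an object vanishing on `W` to an object vanishing on `j(X)` when
`W ∪ j(X) = Y` -/
theorem noHom_of_isZero_restrict_of_stalks (N D : DCoh.D Y)
    (hN : IsZero ((DCoh.restrictD W.ι).obj N))
    (hD : ∀ (i : ℤ) (x : X), Subsingleton ((DCoh.HD D i).presheaf.stalk (j.base x))) :
    NoHom N D := by
  obtain ⟨adjW⟩ := nonempty_adj_DD W.ι
  let O : Y.Opens := ⟨Set.range j.base, j.isOpenEmbedding.isOpen_range⟩
  have hO : (O : Set Y)ᶜ ⊆ Set.range W.ι.base := by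
    intro x hx
    refine (mem_range_ι_base_iff W x).2 ?_
    by_contra hxW
    exact hx (hW hxW)
  haveI : IsIso (adjW.unit.app D) :=
    isIso_unit_of_isZero_restrict W.ι O hO adjW D (fun i x hx => by
      obtain ⟨y, rfl⟩ := (hx : x ∈ Set.range j.base)
      exact hD i y)
  exact NoHom.of_iso_right (NoHom.of_adj adjW (NoHom.of_isZero_left hN))
    (asIso (adjW.unit.app D)).symm

include hW in
theorem noHom_restrictD_Rpush [DCoh.HasRpush j] (adjj : DCoh.restrictD j ⊣ DCoh.Rpush j)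
    (F' : DCoh.D X) (hF' : IsZero ((DCoh.restrictD (j ⁻¹ᵁ W).ι).obj F'))
    (M : DCoh.D (W : Scheme.{u})) :
    NoHom F' ((DCoh.restrictD j).obj ((DCoh.Rpush W.ι).obj M)) := by
  obtain ⟨κ⟩ := nonempty_Rpush_comp_DD_iso_id j
  haveI : IsIso adjj.counit := adjj.isIso_counit_of_iso κ
  obtain ⟨adjW⟩ := nonempty_adj_DD W.ι
  have hN : IsZero ((DCoh.restrictD W.ι).obj ((DCoh.Rpush j).obj F')) := by
    obtain ⟨e⟩ := BCOpenL.main6508 j W
    exact IsZero.of_iso (BCOpenL.isZero_Rpush_of_isZero (j ∣_ W) _ hF') (e.app _)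
  have h1 : NoHom ((DCoh.Rpush j).obj F') ((DCoh.Rpush W.ι).obj M) :=
    NoHom.of_adj adjW (NoHom.of_isZero_left hN)
  obtain ⟨D, b, c, hT⟩ :=
    distinguished_cocone_triangle (adjj.unit.app ((DCoh.Rpush W.ι).obj M))
  have hD := isZero_restrictD_cone_unit j adjj _ b c hT
  have h3 : NoHom ((DCoh.Rpush j).obj F') D :=
    noHom_of_isZero_restrict_of_stalks j W hW _ D hN
      (fun i x => stalks_of_isZero_restrictD j D hD i x)
  have h2 : NoHom ((DCoh.Rpush j).obj F')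
      ((DCoh.Rpush j).obj ((DCoh.restrictD j).obj ((DCoh.Rpush W.ι).obj M))) :=
    NoHom.ext_right (Triangle.mk (adjj.unit.app ((DCoh.Rpush W.ι).obj M)) b c) hT h1 h3
  intro ψ
  have hff := adjj.fullyFaithfulROfIsIsoCounit
  apply hff.map_injective
  exact (h2 ((DCoh.Rpush j).map ψ)).trans (h2 ((DCoh.Rpush j).map 0)).symm

include hW in
theorem injective_comp_restrictD_RgammaZToId [DCoh.HasRpush j] [CxOX.HasRgammaZ W.ι]
    (adjj : DCoh.restrictD j ⊣ DCoh.Rpush j) (B : DCoh.D Y) (F : DCoh.D X)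
    (hF : IsZero ((DCoh.restrictD (j ⁻¹ᵁ W).ι).obj F)) :
    Function.Injective (fun ψ : F ⟶ (DCoh.restrictD j).obj ((CxOX.RgammaZ W.ι).obj B) =>
      ψ ≫ (DCoh.restrictD j).map ((CxOX.RgammaZToId W.ι).app B)) := by
  haveI := grothendieck_modules Y
  obtain ⟨I, hI, hinj, ⟨eB⟩⟩ := Groth.Agent.Lib.KInjGen8.exists_kInjective_rep B
  haveI := hI
  have hS := shortExact_gzSCx W I hinj
  have hTri := DerivedCategory.triangleOfSES_distinguished hS
  have hTri' := (DCoh.restrictD j).map_distinguished _ hTri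
  have hF1 : IsZero ((DCoh.restrictD (j ⁻¹ᵁ W).ι).obj (F⟦(1 : ℤ)⟧)) :=
    IsZero.of_iso ((shiftFunctor _ (1 : ℤ)).map_isZero hF)
      (((DCoh.restrictD (j ⁻¹ᵁ W).ι).commShiftIso (1 : ℤ)).app F)
  have hno : ∀ F' : DCoh.D X, IsZero ((DCoh.restrictD (j ⁻¹ᵁ W).ι).obj F') →
      NoHom F' ((DCoh.restrictD j).obj (DerivedCategory.Q.obj (BCx W I))) := by
    intro F' hF'
    refine NoHom.of_iso_right (noHom_restrictD_Rpush j W hW adjj F' hF'
      ((DCoh.restrictD W.ι).obj (DerivedCategory.Q.obj I))) ?_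
    exact (DCoh.restrictD j).mapIso (iB W I (DerivedCategory.Q.obj I) (Iso.refl _))
  have h3 : NoHom F
      ((DCoh.restrictD j).mapTriangle.obj (DerivedCategory.triangleOfSES hS)).obj₃ := hno F hF
  have h3' : NoHom F
      (((DCoh.restrictD j).mapTriangle.obj (DerivedCategory.triangleOfSES hS)).obj₃⟦(-1 : ℤ)⟧) :=
    NoHom.shift_right (-1) 1 (by omega) (hno _ hF1)
  have hb := bijective_comp_mor₁ _ hTri' F h3 h3'
  have hcompat := RgammaZToId_app_eq W I B eB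
  intro ψ₁ ψ₂ h
  have h' : ψ₁ ≫ (DCoh.restrictD j).map ((CxOX.RgammaZToId W.ι).app B) =
      ψ₂ ≫ (DCoh.restrictD j).map ((CxOX.RgammaZToId W.ι).app B) := h
  rw [hcompat, CategoryTheory.Functor.map_comp, CategoryTheory.Functor.map_comp] at h'
  have h'' : (ψ₁ ≫ (DCoh.restrictD j).map (iG W I B eB).hom) ≫
      (DCoh.restrictD j).map (DerivedCategory.Q.map (gamCx W I)) =
      (ψ₂ ≫ (DCoh.restrictD j).map (iG W I B eB).hom) ≫
      (DCoh.restrictD j).map (DerivedCategory.Q.map (gamCx W I)) := by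
    rw [← cancel_mono ((DCoh.restrictD j).map eB.hom)]
    simpa only [Category.assoc] using h'
  have h4 : ψ₁ ≫ (DCoh.restrictD j).map (iG W I B eB).hom =
      ψ₂ ≫ (DCoh.restrictD j).map (iG W I B eB).hom := hb.1 h''
  exact (cancel_mono ((DCoh.restrictD j).map (iG W I B eB).hom)).1 h4

end Geo

/-- **S17639** -/
theorem main17639 {X Xbar Y : Scheme.{u}} (j : X ⟶ Xbar) [IsOpenImmersion j] (fbar : Xbar ⟶ Y)
    (W : Xbar.Opens) (hW : (W : Set Xbar)ᶜ ⊆ Set.range j.base)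
    [DCoh.HasRpush fbar] [DCoh.HasRpush j] (hfbar : DCoh.RpushPreservesQCoh fbar)
    (hj : DCoh.RpushPreservesQCoh j)
    (a : DCoh.DQCoh Y ⥤ DCoh.DQCoh Xbar) (adj : DCoh.RpushQ fbar hfbar ⊣ a)
    (adjj : DCoh.restrictD j ⊣ DCoh.Rpush j)
    [CxOX.HasRgammaZ W.ι] [CxOX.HasRgammaZ (j ⁻¹ᵁ W).ι]
    (G : DCoh.DQCoh Y)
    (θ : (CxOX.RgammaZ (j ⁻¹ᵁ W).ι).obj ((DCoh.restrictD j).obj (a.obj G).obj) ⟶
      (DCoh.restrictD j).obj ((CxOX.RgammaZ W.ι).obj (a.obj G).obj))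
    (hθ : θ ≫ (DCoh.restrictD j).map ((CxOX.RgammaZToId W.ι).app (a.obj G).obj) =
      (CxOX.RgammaZToId (j ⁻¹ᵁ W).ι).app ((DCoh.restrictD j).obj (a.obj G).obj))
    [IsIso (adjj.unit.app ((CxOX.RgammaZ W.ι).obj (a.obj G).obj))]
    (F : DCoh.D X) (hF : DCoh.IsQCohD F) (hFZ : CxOX.IsSuppD (j ⁻¹ᵁ W).ι F) :
    Function.Bijective
      (fun φ : F ⟶ (CxOX.RgammaZ (j ⁻¹ᵁ W).ι).obj ((DCoh.restrictD j).obj (a.obj G).obj) =>
        (DCoh.Rpush fbar).map ((DCoh.Rpush j).map (φ ≫ θ) ≫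
            inv (adjj.unit.app ((CxOX.RgammaZ W.ι).obj (a.obj G).obj)) ≫
            (CxOX.RgammaZToId W.ι).app (a.obj G).obj) ≫
          (adj.counit.app G).hom) := by
  obtain ⟨κ⟩ := nonempty_Rpush_comp_DD_iso_id j
  haveI : IsIso adjj.counit := adjj.isIso_counit_of_iso κ
  have hFV : IsZero ((DCoh.restrictD (j ⁻¹ᵁ W).ι).obj F) :=
    isZero_restrictD_of_stalks (j ⁻¹ᵁ W).ι F
      (fun i y => not_not.mp (fun h => hFZ i h ⟨y, rfl⟩))
  have hN : IsZero ((DCoh.restrictD W.ι).obj ((DCoh.Rpush j).obj F)) := by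
    obtain ⟨e⟩ := BCOpenL.main6508 j W
    exact IsZero.of_iso (BCOpenL.isZero_Rpush_of_isZero (j ∣_ W) _ hFV) (e.app _)
  have hA := bijective_comp_of_fac θ _ _ hθ
    (bijective_comp_RgammaZToId (j ⁻¹ᵁ W) F _ hFV)
    (injective_comp_restrictD_RgammaZToId j W hW adjj (a.obj G).obj F hFV)
  have hB := bijective_map_comp_inv_unit adjj (F := F)
    ((CxOX.RgammaZToId W.ι).app (a.obj G).obj)
    (bijective_comp_RgammaZToId W ((DCoh.Rpush j).obj F) (a.obj G).obj hN)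
  have h4 := bijective_step4 fbar hfbar a adj G ((DCoh.Rpush j).obj F) (hj F hF)
  exact h4.comp (hB.comp hA)

end

end Groth.Agent.Lib.RGammaZL
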