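import Mathlib
import Groth.Prelude
import Groth.Agent.Lib.HomVan2_lead
import Groth.Agent.Lib.FLF7_helper8

/-!
# Uniform vanishing of `Ext^n(F, E)` for finite locally free `F` on a qcqs scheme (lead; S1010)
-/

set_option autoImplicit false
set_option linter.all false
set_option maxHeartbeats 1600000
set_option backward.isDefEq.respectTransparency false
set_option backward.isDefEq.respectTransparency.types false
set_option backward.defeqAttrib.useBackward true

universe u
open CategoryTheory CategoryTheory.Limits AlgebraicGeometry Opposite TopologicalSpace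
open DerivedCategory CategoryTheory.Pretriangulated
attribute [local instance] HasDerivedCategory.standard

namespace Groth.Agent.Lib.HomVanL

open Groth.Agent.Lib Groth.Agent.Lib.DCohLocLead Groth.Agent.Lib.PerfLocL

attribute [local instance] hasLpullInst

section Affine

variable (R : CommRingCat.{u}) [PreservesFiniteLimits (tilde.functor R)]

/-- `Hom(F[-k], L) = 0` if `H^k(L) = 0`, for `F` finite locally free on an affine scheme -/
theorem noHom_sgl_flf (k : ℤ) (F : (Spec (CommRingCat.of R)).Modules)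
    (hF : FlatMod.IsFinLocFree F) (L : DCoh.D (Spec (CommRingCat.of R))) (hL : DCoh.IsQCohD L)
    (hk : IsZero (DCoh.HD L k)) :
    NoHom ((singleFunctor (Spec (CommRingCat.of R)).Modules k).obj F) L := by
  obtain ⟨hfull, hfaith, hess⟩ := DSectX.main0997 R
  obtain ⟨N, ⟨e⟩⟩ := (hess L).1 hL
  refine NoHom.of_iso_right ?_ e
  have hN : IsZero ((homologyFunctor (ModuleCat.{u} R) k).obj N) := by
    obtain ⟨c⟩ := nonempty_homology_mapExact_iso (tilde.functor R) N k
    apply isZero_of_isZero_tilde R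
    exact (hk.of_iso ((homologyFunctor _ k).mapIso e)).of_iso c.symm
  haveI : F.IsQuasicoherent := FLFH8.isQuasicoherent_of_finLocFree F hF
  let M₀ : ModuleCat.{u} R := (modulesSpecToSheaf.obj F).presheaf.obj (.op ⊤)
  haveI : IsIso (Scheme.Modules.fromTildeΓ F) :=
    Scheme.Modules.isIso_fromTildeΓ_of_isQuasicoherent F
  let eF : (tilde.functor R).obj M₀ ≅ F := asIso (Scheme.Modules.fromTildeΓ F)
  have hM₀ := (FLFH8.tilde_finLocFree_iff M₀).1 (FLFH8.IsFinLocFree.of_iso eF.symm hF)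
  haveI : Module.Projective R M₀ := hM₀.2
  haveI : Projective M₀ := inferInstance
  have c : (singleFunctor (Spec (CommRingCat.of R)).Modules k).obj F ≅
      (DCoh.tildeD R).obj ((singleFunctor (ModuleCat.{u} R) k).obj M₀) :=
    (singleFunctor _ k).mapIso eF.symm ≪≫
      (((tilde.functor R).mapDerivedCategorySingleFunctor k).app M₀).symm
  refine NoHom.of_iso_left ?_ c.symm
  intro φ
  haveI := hfull
  obtain ⟨ψ, rfl⟩ := (DCoh.tildeD R).map_surjective φ
  haveI := DMod_helper6.isKProjective_single M₀ k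
  have hψ : ψ = 0 := noHom_Q_of_isZero_homology
    ((HomologicalComplex.single (ModuleCat.{u} R) (ComplexShape.up ℤ) k).obj M₀)
    k k (fun i hi => HomologicalComplex.isZero_single_obj_X _ k _ i (by omega)) N
    (fun i h1 h2 => by
      obtain rfl : i = k := by omega
      exact hN) ψ
  rw [hψ, Functor.map_zero]

end Affine

/-! ### The uniform vanishing range -/

/-- all finite locally free modules on `T` have a common vanishing range -/
def UV (T : Scheme.{u}) : Prop :=
  ∃ a b : ℤ, ∀ F : T.Modules, FlatMod.IsFinLocFree F → VR (sgl T 0 F) a b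

theorem UV_spec (R : CommRingCat.{u}) [PreservesFiniteLimits (tilde.functor R)] :
    UV (Spec (CommRingCat.of R)) := by
  refine ⟨0, 0, fun F hF m K' hc L hL hz => ?_⟩
  obtain ⟨c⟩ := hc
  refine NoHom.of_iso_left ?_ c.symm
  have h := noHom_sgl_flf R (-m) F hF L hL (hz (-m) (by omega) (by omega))
  exact h.of_iso_left
    (((DerivedCategory.singleFunctors (Spec (CommRingCat.of R)).Modules).shiftIso m (-m) 0
      (by omega)).app F).symm

theorem UV.of_iso {T₁ T₂ : Scheme.{u}} (α : T₁ ⟶ T₂) [IsIso α] (h : UV T₂) : UV T₁ := by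
  obtain ⟨a, b, h⟩ := h
  refine ⟨a, b, fun F hF => ?_⟩
  have hG : FlatMod.IsFinLocFree ((Scheme.Modules.restrictFunctor (inv α)).obj F) :=
    isFinLocFree_restrictFunctor (inv α) hF
  obtain ⟨c1⟩ := nonempty_DD_sgl α 0 ((Scheme.Modules.restrictFunctor (inv α)).obj F)
  let ε : Scheme.Modules.restrictFunctor (inv α) ⋙ Scheme.Modules.restrictFunctor α ≅
      𝟭 T₁.Modules :=
    (Scheme.Modules.restrictFunctorComp α (inv α)).symm ≪≫
      Scheme.Modules.restrictFunctorCongr (IsIso.hom_inv_id α) ≪≫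
      Scheme.Modules.restrictFunctorId (X := T₁)
  exact ((h _ hG).of_iso_scheme α).of_iso
    (c1 ≪≫ (singleFunctor T₁.Modules 0).mapIso (ε.app F))

theorem UV.of_cover {T : Scheme.{u}} (U V : T.Opens) (hUV : U ⊔ V = ⊤)
    (hU : UV (U : Scheme.{u})) (hV : UV (V : Scheme.{u}))
    (hI : UV ((U ⊓ V : T.Opens) : Scheme.{u})) : UV T := by
  obtain ⟨aU, bU, hU⟩ := hU
  obtain ⟨aV, bV, hV⟩ := hV
  obtain ⟨aI, bI, hI⟩ := hI
  have h1 : min aU (min aV (aI - 1)) ≤ aU := min_le_left _ _
  have h2 : min aU (min aV (aI - 1)) ≤ aV := (min_le_right _ _).trans (min_le_left _ _)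
  have h3 : min aU (min aV (aI - 1)) ≤ aI - 1 := (min_le_right _ _).trans (min_le_right _ _)
  have h4 : bU ≤ max bU (max bV (bI - 1)) := le_max_left _ _
  have h5 : bV ≤ max bU (max bV (bI - 1)) := (le_max_left _ _).trans (le_max_right _ _)
  have h6 : bI - 1 ≤ max bU (max bV (bI - 1)) := (le_max_right _ _).trans (le_max_right _ _)
  refine ⟨min aU (min aV (aI - 1)), max bU (max bV (bI - 1)), fun F hF => ?_⟩
  have key : ∀ (W : T.Opens) (a b : ℤ),
      (∀ G : (W : Scheme.{u}).Modules, FlatMod.IsFinLocFree G → VR (sgl (W : Scheme.{u}) 0 G) a b) →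
      VR ((DD W.ι).obj (sgl T 0 F)) a b := by
    intro W a b hW
    obtain ⟨c⟩ := nonempty_DD_sgl W.ι 0 F
    exact (hW _ (isFinLocFree_restrictFunctor W.ι hF)).of_iso c.symm
  refine VR.of_cover U V hUV ?_ ?_ ?_
  · exact (key U _ _ hU).mono h1 h4
  · exact (key V _ _ hV).mono h2 h5
  · exact (key (U ⊓ V) _ _ hI).mono (by omega) (by omega)

theorem UV_of_isCompact {X : Scheme.{u}} [QuasiSeparatedSpace X] (S : X.Opens)
    (hS : IsCompact (S : Set X)) : UV (S : Scheme.{u}) := by
  refine RpushQCL.qcqs_induction (fun S => UV (S : Scheme.{u})) ?_ ?_ S hS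
  · intro U hU
    haveI : IsAffine (U : Scheme.{u}) := hU
    haveI := LpullQCL.preservesFiniteLimits_tilde Γ((U : Scheme.{u}), ⊤)
    exact UV.of_iso (U : Scheme.{u}).isoSpec.hom (UV_spec Γ((U : Scheme.{u}), ⊤))
  · intro U V hU hV hI
    let Wo : X.Opens := U ⊔ V
    let U' : (Wo : Scheme.{u}).Opens := Wo.ι ⁻¹ᵁ U
    let V' : (Wo : Scheme.{u}).Opens := Wo.ι ⁻¹ᵁ V
    have hcov : U' ⊔ V' = ⊤ := by
      rw [eq_top_iff]
      rintro x -
      have hx : (Wo.ι x) ∈ U ⊔ V := x.2
      rcases hx with hx | hx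
      · exact Or.inl hx
      · exact Or.inr hx
    have rU := RpushQCL.range_eq_of Wo U U' le_sup_left (fun y => Iff.rfl)
    have rV := RpushQCL.range_eq_of Wo V V' le_sup_right (fun y => Iff.rfl)
    have rI := RpushQCL.range_eq_of Wo (U ⊓ V) (U' ⊓ V') (inf_le_left.trans le_sup_left)
      (fun y => Iff.rfl)
    exact UV.of_cover U' V' hcov
      (UV.of_iso (IsOpenImmersion.isoOfRangeEq (U'.ι ≫ Wo.ι) U.ι rU).hom hU)
      (UV.of_iso (IsOpenImmersion.isoOfRangeEq (V'.ι ≫ Wo.ι) V.ι rV).hom hV)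
      (UV.of_iso (IsOpenImmersion.isoOfRangeEq ((U' ⊓ V').ι ≫ Wo.ι) (U ⊓ V).ι rI).hom hI)

/-- **S1010** -/
theorem main1010 (X : Scheme.{u}) [CompactSpace ↥X] [QuasiSeparatedSpace ↥X]
    (E : DCoh.D X) (hE : DCoh.IsQCohD E) (a b : ℤ) [DerivedCategory.IsGE E a]
    [DerivedCategory.IsLE E b] :
    ∃ n₀ : ℤ, 0 < n₀ ∧ ∀ (F : X.Modules), FlatMod.IsFinLocFree F → ∀ n : ℤ, n₀ ≤ n →
      ∀ φ : DCoh.inD X F ⟶ E⟦n⟧, φ = 0 := by
  have hX : UV X := UV.of_iso X.topIso.inv
    (UV_of_isCompact (⊤ : X.Opens) (by simpa using CompactSpace.isCompact_univ (X := X)))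
  obtain ⟨a₀, b₀, h⟩ := hX
  refine ⟨max 1 (b - a₀ + 1), lt_of_lt_of_le one_pos (le_max_left _ _), fun F hF n hn φ => ?_⟩
  have hn' : b - a₀ + 1 ≤ n := le_trans (le_max_right _ _) hn
  refine h F hF 0 (DCoh.inD X F) ⟨((shiftFunctorZero (DCoh.D X) ℤ).app _).symm⟩ (E⟦n⟧)
    (isQCohD_shift E hE n) (fun i h1 h2 => ?_) φ
  have e := ((homologyFunctor X.Modules 0).shiftIso n i (n + i) rfl).app E
  exact (DerivedCategory.isZero_of_isLE E b (n + i) (by omega)).of_iso e

end Groth.Agent.Lib.HomVanL
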