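import Mathlib
import Groth.Prelude.Def_CohCx

/-!
# Quasi-compact objects of a site: finite subcovers (helper7)
-/

set_option autoImplicit false
universe u
open CategoryTheory Limits Opposite

namespace Groth.Agent.Lib.QcSite

variable {C : Type u} [SmallCategory C] {J : GrothendieckTopology C}

/-- the sheaf associated to a representable presheaf -/
noncomputable abbrev hSh (J : GrothendieckTopology C) (W : C) : Sheaf J (Type u) :=
  (presheafToSheaf J (Type u)).obj (yoneda.obj W)

/-- the canonical map `h_W ⟶ h_W^#` -/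
noncomputable abbrev η (J : GrothendieckTopology C) (W : C) : yoneda.obj W ⟶ (hSh J W).obj :=
  toSheafify J (yoneda.obj W)

/-- the map `h_V^# ⟶ h_W^#` induced by `g : V ⟶ W` -/
noncomputable abbrev hMap (J : GrothendieckTopology C) {V W : C} (g : V ⟶ W) : hSh J V ⟶ hSh J W :=
  (presheafToSheaf J (Type u)).map (yoneda.map g)

lemma hMap_η {V W : C} (g : V ⟶ W) (U : C) (x : U ⟶ V) :
    (hMap J g).hom.app (op U) ((η J V).app (op U) x) = (η J W).app (op U) (x ≫ g) := by
  have h := toSheafify_naturality J (yoneda.map g)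
  have h2 := congrArg (fun τ => (τ.app (op U)) x) h
  exact h2.symm

lemma η_map {W : C} {U U' : C} (a : U' ⟶ U) (x : U ⟶ W) :
    (hSh J W).obj.map a.op ((η J W).app (op U) x) = (η J W).app (op U') (a ≫ x) :=
  (NatTrans.naturality_apply (η J W) a.op x).symm

theorem exists_finite_subcover {W : C}
    (hW : CohCx.IsQcObject ((presheafToSheaf J (Type u)).obj (yoneda.obj W)))
    (S : Sieve W) (hS : S ∈ J W) :
    ∃ t : Finset (Σ V : C, {g : V ⟶ W // S g}),
      Sieve.ofArrows (fun p : t => p.1.1) (fun p : t => p.1.2.1) ∈ J W := by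
  let I : Type u := Σ V : C, {g : V ⟶ W // S g}
  let L : I → Sheaf J (Type u) := fun p => hSh J p.1
  let f : ∀ p : I, L p ⟶ hSh J W := fun p => hMap J p.2.1
  have hjs : CohCx.JointlySurjective f := by
    intro U s
    refine ⟨Sieve.bind (Presheaf.imageSieve (η J W) s).arrows
      (fun V g hg => S.pullback (Presheaf.localPreimage (η J W) (U := op U) s g hg)),
      J.bind_covering (Presheaf.imageSieve_mem J (η J W) (U := op U) s)
        (fun V g hg => J.pullback_stable _ hS), ?_⟩
    rintro V' g' ⟨Z, a, b, hb, ha, rfl⟩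
    have ht : (η J W).app (op Z) (Presheaf.localPreimage (η J W) (U := op U) s b hb) =
        (hSh J W).obj.map b.op s := Presheaf.app_localPreimage (η J W) (U := op U) s b hb
    have ha' : S (a ≫ Presheaf.localPreimage (η J W) (U := op U) s b hb) := ha
    refine ⟨⟨V', ⟨a ≫ Presheaf.localPreimage (η J W) (U := op U) s b hb, ha'⟩⟩,
      (η J V').app (op V') (𝟙 V'), ?_⟩
    change (hMap J (a ≫ Presheaf.localPreimage (η J W) (U := op U) s b hb)).hom.app (op V')
      ((η J V').app (op V') (𝟙 V')) = (hSh J W).obj.map (a ≫ b).op s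
    rw [hMap_η, Category.id_comp, op_comp, Functor.map_comp, ConcreteCategory.comp_apply, ← ht, η_map]
  obtain ⟨t, ht⟩ := hW I L f hjs
  refine ⟨t, ?_⟩
  obtain ⟨S₂, hS₂, h₂⟩ := ht W ((η J W).app (op W) (𝟙 W))
  refine J.transitive hS₂ _ (fun V' g' hg' => ?_)
  obtain ⟨i, x, hx⟩ := h₂ V' g' hg'
  refine J.transitive (Presheaf.imageSieve_mem J (η J i.1.1) (U := op V') x) _
    (fun V'' g'' hg'' => ?_)
  obtain ⟨t', ht'⟩ := hg''
  have heq : (η J W).app (op V'') (t' ≫ i.1.2.1) = (η J W).app (op V'') (g'' ≫ g') := by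
    rw [← hMap_η, ht']
    have h3 := NatTrans.naturality_apply (hMap J i.1.2.1).hom g''.op x
    change (hMap J i.1.2.1).hom.app (op V'') ((hSh J i.1.1).obj.map g''.op x) = _
    rw [h3]
    change (hSh J W).obj.map g''.op ((f i.1).hom.app (op V') x) = _
    rw [hx, η_map, η_map, Category.comp_id]
  refine J.superset_covering ?_ (Presheaf.equalizerSieve_mem J (η J W) (X := op V'') _ _ heq)
  intro V₃ g₃ hg₃
  have h4 : g₃ ≫ t' ≫ i.1.2.1 = g₃ ≫ g'' ≫ g' := hg₃
  change Sieve.ofArrows _ _ ((g₃ ≫ g'') ≫ g')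
  rw [Category.assoc, ← h4, ← Category.assoc]
  exact ⟨_, g₃ ≫ t', _, Presieve.ofArrows.mk i, rfl⟩

end Groth.Agent.Lib.QcSite
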