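import Mathlib
import Groth.Prelude.Def_CohCx
import Groth.Prelude.Def_ModSite
import Groth.Agent.Lib.QcSite_helper7
import Groth.Agent.Lib.ModSite13_helper8

/-!
# Sections over a quasi-compact object commute with direct sums (helper7)
-/

set_option autoImplicit false
universe u
open CategoryTheory Limits Opposite ModSite

namespace Groth.Agent.Lib.QcSect

section Proj

variable {A : Type*} [Category A] [Preadditive A] {ι : Type*} {F : ι → A} {X : A}
  {inj : ∀ l, F l ⟶ X} (hc : IsColimit (Cofan.mk X inj))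

open Classical in
/-- projection onto a summand -/
noncomputable def π (l : ι) : X ⟶ F l :=
  Cofan.IsColimit.desc hc (fun k => if h : k = l then eqToHom (congrArg F h) else 0)

lemma inj_π_self (l : ι) : inj l ≫ π hc l = 𝟙 _ := by
  classical
  have h := Cofan.IsColimit.fac hc
    (fun k => if h : k = l then eqToHom (congrArg F h) else 0) l
  exact h.trans (by simp)

lemma inj_π_ne {k l : ι} (hkl : k ≠ l) : inj k ≫ π hc l = 0 := by
  classical
  have h := Cofan.IsColimit.fac hc
    (fun k => if h : k = l then eqToHom (congrArg F h) else 0) k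
  exact h.trans (by simp [hkl])

/-- the idempotent attached to a finite set of indices -/
noncomputable def e (T : Finset ι) : X ⟶ X := ∑ l ∈ T, π hc l ≫ inj l

lemma inj_e_mem {T : Finset ι} {k : ι} (hk : k ∈ T) : inj k ≫ e hc T = inj k := by
  classical
  unfold e
  rw [Preadditive.comp_sum, Finset.sum_eq_single k]
  · rw [← Category.assoc, inj_π_self, Category.id_comp]
  · intro l _ hl
    rw [← Category.assoc, inj_π_ne hc (Ne.symm hl), zero_comp]
  · intro h
    exact absurd hk h

end Proj

section Ab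

lemma sum_apply {M N : AddCommGrpCat.{u}} {κ : Type*} (T : Finset κ) (g : κ → (M ⟶ N)) (x : M) :
    (∑ l ∈ T, g l) x = ∑ l ∈ T, g l x := by
  classical
  induction T using Finset.induction_on with
  | empty =>
    simp only [Finset.sum_empty]
    rfl
  | insert a T ha ih =>
    rw [Finset.sum_insert ha, Finset.sum_insert ha, AddCommGrpCat.hom_add_apply, ih]

lemma mem_of_legs {K : Type*} [Category K] {D : K ⥤ AddCommGrpCat.{u}} {d : Cocone D}
    (hd : IsColimit d) (H : AddSubgroup d.pt) (h : ∀ (k : K) (x : D.obj k), d.ι.app k x ∈ H)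
    (y : d.pt) : y ∈ H := by
  let q : d.pt ⟶ AddCommGrpCat.of ((d.pt : Type u) ⧸ H) :=
    AddCommGrpCat.ofHom (QuotientAddGroup.mk' H)
  have hq : q = 0 := by
    apply hd.hom_ext
    intro k
    rw [comp_zero]
    apply ConcreteCategory.hom_ext
    intro x
    change QuotientAddGroup.mk' H (d.ι.app k x) = 0
    exact (QuotientAddGroup.eq_zero_iff _).2 (h k x)
  have h2 := ConcreteCategory.congr_hom hq y
  exact (QuotientAddGroup.eq_zero_iff y).1 h2

variable {ι : Type u} {D : ι → AddCommGrpCat.{u}} {B : AddCommGrpCat.{u}}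
  (f : ∀ l, D l ⟶ B) (p : ∀ l, B ⟶ D l)
  (hp1 : ∀ l, f l ≫ p l = 𝟙 _) (hp2 : ∀ k l, k ≠ l → f k ≫ p l = 0)
  (hs : ∀ y : B, ∃ T : Finset ι, y = ∑ l ∈ T, f l (p l y))

include hp2 in
lemma p_eq_zero {y : B} {T : Finset ι} (hT : y = ∑ l ∈ T, f l (p l y)) {l : ι} (hl : l ∉ T) :
    p l y = 0 := by
  have h1 : p l y = p l (∑ k ∈ T, f k (p k y)) := congrArg (fun z => p l z) hT
  rw [h1, map_sum]
  refine Finset.sum_eq_zero (fun k hk => ?_)
  have h2 : p l (f k (p k y)) = (f k ≫ p l) (p k y) := rfl
  rw [h2, hp2 k l (fun h => hl (h ▸ hk))]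
  rfl

include hp2 hs in
lemma supp_fin (s : Cofan D) (y : B) : (Function.support fun l => s.inj l (p l y)).Finite := by
  obtain ⟨T, hT⟩ := hs y
  refine T.finite_toSet.subset (fun l hl => ?_)
  by_contra hl'
  apply hl
  change s.inj l (p l y) = 0
  rw [p_eq_zero f p hp2 hT hl', map_zero]

/-- the descent homomorphism -/
noncomputable def descHom (s : Cofan D) : B →+ s.pt where
  toFun y := ∑ᶠ l, s.inj l (p l y)
  map_zero' := by
    refine finsum_eq_zero_of_forall_eq_zero (fun l => ?_)
    rw [map_zero, map_zero]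
  map_add' y y' := by
    have h1 : ∀ l, s.inj l (p l (y + y')) = s.inj l (p l y) + s.inj l (p l y') := fun l => by
      rw [map_add, map_add]
    rw [finsum_congr h1]
    exact finsum_add_distrib (supp_fin f p hp2 hs s y) (supp_fin f p hp2 hs s y')

/-- criterion for a cofan of abelian groups to be a coproduct -/
noncomputable def isColimitAb : IsColimit (Cofan.mk B f) :=
  mkCofanColimit _ (fun s => AddCommGrpCat.ofHom (descHom f p hp2 hs s))
    (fun s k => by
      apply ConcreteCategory.hom_ext
      intro x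
      change (∑ᶠ l, s.inj l (p l (f k x))) = s.inj k x
      rw [finsum_eq_single _ k]
      · have h2 : p k (f k x) = (f k ≫ p k) x := rfl
        rw [h2, hp1]
        rfl
      · intro l hl
        have h2 : p l (f k x) = (f k ≫ p l) x := rfl
        rw [h2, hp2 k l (Ne.symm hl)]
        exact map_zero _)
    (fun s m hm => by
      apply ConcreteCategory.hom_ext
      intro y
      obtain ⟨T, hT⟩ := hs y
      change m y = ∑ᶠ l, s.inj l (p l y)
      rw [finsum_eq_sum_of_support_subset _ (s := T) (fun l hl => by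
        by_contra hl'
        apply hl
        change s.inj l (p l y) = 0
        rw [p_eq_zero f p hp2 hT hl', map_zero])]
      have h3 : m y = m (∑ l ∈ T, f l (p l y)) := congrArg (fun z => m z) hT
      rw [h3, map_sum]
      refine Finset.sum_congr rfl (fun l _ => ?_)
      rw [← hm l]
      rfl)

end Ab

section Sect

variable {C : Type u} [SmallCategory C] {J : GrothendieckTopology C} (O : Sheaf J CommRingCat.{u})

/-- sections functor -/
noncomputable abbrev Γ (V : C) : Mod O ⥤ AddCommGrpCat.{u} :=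
  SheafOfModules.toSheaf (ringSh O) ⋙ (sheafSections J AddCommGrpCat.{u}).obj (op V)

instance sectAdditive (V : C) : ((sheafSections J AddCommGrpCat.{u}).obj (op V)).Additive where
  map_add := rfl

instance (V : C) : (Γ O V).Additive := inferInstance

variable {O}

/-- restriction of sections -/
noncomputable abbrev res (M : Mod O) {V V' : C} (g : V' ⟶ V) :
    (Γ O V).obj M ⟶ (Γ O V').obj M :=
  ((SheafOfModules.toSheaf (ringSh O)).obj M).obj.map g.op

lemma Γ_comp_apply {M N K : Mod O} (V : C) (f : M ⟶ N) (g : N ⟶ K) (x : (Γ O V).obj M) :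
    (Γ O V).map (f ≫ g) x = (Γ O V).map g ((Γ O V).map f x) := by
  rw [Functor.map_comp, ConcreteCategory.comp_apply]

lemma Γ_res {M N : Mod O} {V V' : C} (g : V' ⟶ V) (f : M ⟶ N) (x : (Γ O V).obj M) :
    (Γ O V').map f (res M g x) = res N g ((Γ O V).map f x) :=
  NatTrans.naturality_apply ((SheafOfModules.toSheaf (ringSh O)).map f).hom g.op x

lemma res_comp (M : Mod O) {V V' V'' : C} (g : V' ⟶ V) (a : V'' ⟶ V') (x : (Γ O V).obj M) :
    res M (a ≫ g) x = res M a (res M g x) := by
  change ((SheafOfModules.toSheaf (ringSh O)).obj M).obj.map (a ≫ g).op x = _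
  rw [op_comp, Functor.map_comp, ConcreteCategory.comp_apply]

lemma sect_ext (M : Mod O) {V : C} (S : Sieve V) (hS : S ∈ J V) (x y : (Γ O V).obj M)
    (h : ∀ (V' : C) (g : V' ⟶ V), S g → res M g x = res M g y) : x = y :=
  (Presheaf.IsSheaf.isSeparated ((SheafOfModules.toSheaf (ringSh O)).obj M).property) V S hS x y h

variable (O) in
/-- sheafification of presheaves of modules -/
noncomputable abbrev shf : PresheafOfModules.{u} (ringSh O).obj ⥤ Mod O :=
  PresheafOfModules.sheafification (𝟙 (ringSh O).obj)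

variable (O) in
/-- the forgetful functor -/
noncomputable abbrev Rt : Mod O ⥤ PresheafOfModules.{u} (ringSh O).obj :=
  SheafOfModules.forget (ringSh O) ⋙ PresheafOfModules.restrictScalars (𝟙 (ringSh O).obj)

variable (O) in
/-- the sheafification adjunction -/
noncomputable abbrev adj : shf O ⊣ Rt O :=
  PresheafOfModules.sheafificationAdjunction (𝟙 (ringSh O).obj)

variable {ι : Type u} {F : ι → Mod O} {X : Mod O} {inj : ∀ l, F l ⟶ X}
  (hc : IsColimit (Cofan.mk X inj))

/-- the underlying presheaves of modules -/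
noncomputable abbrev Fp (F : ι → Mod O) : ι → PresheafOfModules.{u} (ringSh O).obj :=
  fun i => (Rt O).obj (F i)

/-- the coproduct of presheaves of modules -/
noncomputable abbrev PP (F : ι → Mod O) : PresheafOfModules.{u} (ringSh O).obj := ∐ (Fp F)

/-- the comparison map from the presheaf coproduct -/
noncomputable def ψ (inj : ∀ l, F l ⟶ X) : PP F ⟶ (Rt O).obj X :=
  Sigma.desc (fun i => (Rt O).map (inj i))

/-- the adjoint map -/
noncomputable def aa (inj : ∀ l, F l ⟶ X) : (shf O).obj (PP F) ⟶ X :=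
  ((adj O).homEquiv _ _).symm (ψ inj)

/-- a section of `aa` -/
noncomputable def bb : X ⟶ (shf O).obj (PP F) :=
  Cofan.IsColimit.desc hc
    (fun i => inv ((adj O).counit.app (F i)) ≫ (shf O).map (Sigma.ι (Fp F) i))

lemma bb_aa : bb hc ≫ aa inj = 𝟙 X := by
  apply Cofan.IsColimit.hom_ext hc
  intro i
  have h1 : inj i ≫ bb hc =
      inv ((adj O).counit.app (F i)) ≫ (shf O).map (Sigma.ι (Fp F) i) :=
    Cofan.IsColimit.fac hc
      (fun i => inv ((adj O).counit.app (F i)) ≫ (shf O).map (Sigma.ι (Fp F) i)) i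
  change inj i ≫ bb hc ≫ aa inj = inj i ≫ 𝟙 X
  rw [← Category.assoc, h1, Category.assoc, Category.comp_id]
  unfold aa
  rw [← Adjunction.homEquiv_naturality_left_symm]
  have h2 : Sigma.ι (Fp F) i ≫ ψ inj = (Rt O).map (inj i) := by
    unfold ψ
    simp
  rw [h2, Adjunction.homEquiv_counit, IsIso.inv_comp_eq]
  exact (adj O).counit.naturality (inj i)

lemma ψ_eq : ψ inj = (adj O).unit.app (PP F) ≫ (Rt O).map (aa inj) := by
  have h := Adjunction.homEquiv_unit (adj O) (PP F) X (aa inj)
  rw [← h]
  unfold aa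
  rw [Equiv.apply_symm_apply]

/-- the comparison map on sections -/
noncomputable abbrev Ψ (inj : ∀ l, F l ⟶ X) (V : C) :
    (PP F).presheaf.obj (op V) ⟶ (Γ O V).obj X :=
  (toSheafify J (PP F).presheaf).app (op V) ≫ (Γ O V).map (aa inj)

lemma Ψ_leg (V : C) (j : ι) (x : (Γ O V).obj (F j)) :
    Ψ inj V (((PresheafOfModules.toPresheaf _).map (Sigma.ι (Fp F) j)).app (op V) x) =
      (Γ O V).map (inj j) x := by
  have h2 : Sigma.ι (Fp F) j ≫ ψ inj = (Rt O).map (inj j) := by
    unfold ψ
    simp
  have h3 : Sigma.ι (Fp F) j ≫ (adj O).unit.app (PP F) ≫ (Rt O).map (aa inj) =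
      (Rt O).map (inj j) := by
    rw [← ψ_eq, h2]
  have h4 := congrArg (fun τ => ((PresheafOfModules.toPresheaf _).map τ).app (op V) x) h3
  exact h4

/-- the subgroup of sections fixed by large idempotents -/
noncomputable def Hsub (V : C) : AddSubgroup ((PP F).presheaf.obj (op V)) where
  carrier := {p | ∃ T₀ : Finset ι, ∀ T, T₀ ⊆ T →
    (Γ O V).map (e hc T) (Ψ inj V p) = Ψ inj V p}
  zero_mem' := ⟨∅, fun T _ => by rw [map_zero, map_zero]⟩
  add_mem' := by
    classical
    rintro p p' ⟨T₀, h⟩ ⟨T₀', h'⟩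
    exact ⟨T₀ ∪ T₀', fun T hT => by
      rw [map_add, map_add, h T (Finset.union_subset_left hT),
        h' T (Finset.union_subset_right hT)]⟩
  neg_mem' := by
    rintro p ⟨T₀, h⟩
    exact ⟨T₀, fun T hT => by rw [map_neg, map_neg, h T hT]⟩

lemma mem_Hsub (V : C) (p : (PP F).presheaf.obj (op V)) : p ∈ Hsub hc V := by
  have hcol : IsColimit ((PresheafOfModules.toPresheaf (ringSh O).obj ⋙
      (evaluation _ _).obj (op V)).mapCocone (colimit.cocone (Discrete.functor (Fp F)))) :=
    isColimitOfPreserves _ (colimit.isColimit _)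
  refine mem_of_legs hcol (Hsub hc V) ?_ p
  rintro ⟨j⟩ x
  refine ⟨{j}, fun T hT => ?_⟩
  have h1 := Ψ_leg (inj := inj) V j x
  change (Γ O V).map (e hc T) (Ψ inj V (((PresheafOfModules.toPresheaf _).map
    (Sigma.ι (Fp F) j)).app (op V) x)) = Ψ inj V (((PresheafOfModules.toPresheaf _).map
    (Sigma.ι (Fp F) j)).app (op V) x)
  rw [h1, ← Γ_comp_apply, inj_e_mem hc (hT (Finset.mem_singleton_self j))]

/-- every section of a direct sum is locally fixed by the idempotent of a finite set of indices -/
lemma locally_finite (V : C) (s : (Γ O V).obj X) :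
    ∃ S ∈ J V, ∀ (V' : C) (g : V' ⟶ V), S g → ∃ T₀ : Finset ι, ∀ T, T₀ ⊆ T →
      (Γ O V').map (e hc T) (res X g s) = res X g s := by
  have hy : (Γ O V).map (aa inj) ((Γ O V).map (bb hc) s) = s := by
    rw [← Γ_comp_apply, bb_aa, CategoryTheory.Functor.map_id]
    rfl
  refine ⟨Presheaf.imageSieve (toSheafify J (PP F).presheaf) (U := V) ((Γ O V).map (bb hc) s),
    Presheaf.imageSieve_mem J (toSheafify J (PP F).presheaf) (U := op V) _, ?_⟩
  rintro V' g ⟨p, hp⟩
  obtain ⟨T₀, hT₀⟩ := mem_Hsub hc V' p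
  have h5 : Ψ inj V' p = res X g s := by
    change (Γ O V').map (aa inj) ((toSheafify J (PP F).presheaf).app (op V') p) = _
    rw [hp]
    have h6 := Γ_res g (aa inj) ((Γ O V).map (bb hc) s)
    rw [hy] at h6
    exact h6
  rw [h5] at hT₀
  exact ⟨T₀, hT₀⟩

end Sect

section Main

variable {C : Type u} [SmallCategory C] {J : GrothendieckTopology C} {O : Sheaf J CommRingCat.{u}}
  {ι : Type u} {F : ι → Mod O} {X : Mod O} {inj : ∀ l, F l ⟶ X}
  (hc : IsColimit (Cofan.mk X inj))
  {W : C} (hW : CohCx.IsQcObject ((presheafToSheaf J (Type u)).obj (yoneda.obj W)))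

include hW in
lemma exists_fixed (s : (Γ O W).obj X) : ∃ T : Finset ι, (Γ O W).map (e hc T) s = s := by
  classical
  obtain ⟨S, hS, h⟩ := locally_finite hc W s
  obtain ⟨t, ht⟩ := QcSite.exists_finite_subcover hW S hS
  choose T₀ hT₀ using fun (p : Σ V : C, {g : V ⟶ W // S g}) => h p.1 p.2.1 p.2.2
  refine ⟨t.biUnion T₀, ?_⟩
  refine sect_ext X _ ht _ _ (fun V' g hg => ?_)
  obtain ⟨_, a, _, ⟨i⟩, rfl⟩ := hg
  rw [res_comp, res_comp, ← Γ_res, hT₀ i.1 _ (Finset.subset_biUnion_of_mem T₀ i.2)]

include hW in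
lemma exists_sum (s : (Γ O W).obj X) :
    ∃ T : Finset ι, s = ∑ l ∈ T, (Γ O W).map (inj l) ((Γ O W).map (π hc l) s) := by
  obtain ⟨T, hT⟩ := exists_fixed hc hW s
  refine ⟨T, ?_⟩
  conv_lhs => rw [← hT]
  unfold e
  rw [Functor.map_sum, sum_apply]
  refine Finset.sum_congr rfl (fun l _ => ?_)
  rw [Γ_comp_apply]

include hW in
/-- sections over a quasi-compact object of a coproduct -/
noncomputable def isColimitΓ :
    IsColimit (Cofan.mk ((Γ O W).obj X) (fun l => (Γ O W).map (inj l))) :=
  isColimitAb (fun l => (Γ O W).map (inj l)) (fun l => (Γ O W).map (π hc l))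
    (fun l => by rw [← Functor.map_comp, inj_π_self, CategoryTheory.Functor.map_id])
    (fun k l hkl => by rw [← Functor.map_comp, inj_π_ne hc hkl, Functor.map_zero])
    (fun y => exists_sum hc hW y)

include hW in
theorem preserves (ι : Type u) : PreservesColimitsOfShape (Discrete ι) (Γ O W) := by
  constructor
  intro K
  let F : ι → Mod O := fun i => K.obj ⟨i⟩
  have e : K ≅ Discrete.functor F := Discrete.natIsoFunctor
  haveI : PreservesColimit (Discrete.functor F) (Γ O W) :=
    preservesColimit_of_preserves_colimit_cocone (coproductIsCoproduct F)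
      ((isColimitMapCoconeCofanMkEquiv _ _ _).symm (isColimitΓ (coproductIsCoproduct F) hW))
  exact preservesColimit_of_iso_diagram _ e.symm

open Groth.Agent.Lib.ModSiteH8 in
/-- `Hom(j_! O_U, -)` is the sections functor -/
noncomputable def coyonedaIso (U : C) : preadditiveCoyoneda.obj (op (freeOn O U)) ≅ Γ O U :=
  NatIso.ofComponents
    (fun M => AddEquiv.toAddCommGrpIso
      (X := (preadditiveCoyoneda.obj (op (freeOn O U))).obj M) (Y := (Γ O U).obj M)
      (freeOnAddEquiv O U M))
    (by
      intro M N g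
      apply ConcreteCategory.hom_ext
      intro h
      exact freeOnEquiv_comp O U h g)

include hW in
theorem preserves_coyoneda (ι : Type u) :
    PreservesColimitsOfShape (Discrete ι) (preadditiveCoyoneda.obj (op (freeOn O W))) := by
  haveI := preserves (O := O) hW ι
  exact preservesColimitsOfShape_of_natIso (coyonedaIso W).symm

end Main

end Groth.Agent.Lib.QcSect
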