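import Mathlib
import Groth.Agent.Lib.QcSect_helper7

/-!
# Sections over an object with the finite subcover property commute with direct sums (helper7)
-/

set_option autoImplicit false
universe u
open CategoryTheory Limits Opposite ModSite TopologicalSpace

namespace Groth.Agent.Lib.QcSect

section FinSub

variable {C : Type u} [SmallCategory C] {J : GrothendieckTopology C} {O : Sheaf J CommRingCat.{u}}

/-- the finite subcover property of an object of a site -/
def FinSub (J : GrothendieckTopology C) (W : C) : Prop :=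
  ∀ (S : Sieve W), S ∈ J W → ∃ t : Finset (Σ V : C, {g : V ⟶ W // S g}),
    Sieve.ofArrows (fun p : t => p.1.1) (fun p : t => p.1.2.1) ∈ J W

lemma finSub_of_qc {W : C}
    (hW : CohCx.IsQcObject ((presheafToSheaf J (Type u)).obj (yoneda.obj W))) : FinSub J W :=
  fun S hS => QcSite.exists_finite_subcover hW S hS

variable {ι : Type u} {F : ι → Mod O} {X : Mod O} {inj : ∀ l, F l ⟶ X}
  (hc : IsColimit (Cofan.mk X inj)) {W : C} (hW : FinSub J W)

include hW in
lemma exists_fixed' (s : (Γ O W).obj X) : ∃ T : Finset ι, (Γ O W).map (e hc T) s = s := by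
  classical
  obtain ⟨S, hS, h⟩ := locally_finite hc W s
  obtain ⟨t, ht⟩ := hW S hS
  choose T₀ hT₀ using fun (p : Σ V : C, {g : V ⟶ W // S g}) => h p.1 p.2.1 p.2.2
  refine ⟨t.biUnion T₀, ?_⟩
  refine sect_ext X _ ht _ _ (fun V' g hg => ?_)
  obtain ⟨_, a, _, ⟨i⟩, rfl⟩ := hg
  rw [res_comp, res_comp, ← Γ_res, hT₀ i.1 _ (Finset.subset_biUnion_of_mem T₀ i.2)]

include hW in
lemma exists_sum' (s : (Γ O W).obj X) :
    ∃ T : Finset ι, s = ∑ l ∈ T, (Γ O W).map (inj l) ((Γ O W).map (π hc l) s) := by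
  obtain ⟨T, hT⟩ := exists_fixed' hc hW s
  refine ⟨T, ?_⟩
  conv_lhs => rw [← hT]
  unfold e
  rw [Functor.map_sum, sum_apply]
  refine Finset.sum_congr rfl (fun l _ => ?_)
  rw [Γ_comp_apply]

include hc in
lemma eq_zero_of_sum_eq_zero (V : C) (S : Finset ι) (t : ∀ i, (Γ O V).obj (F i))
    (h : ∑ i ∈ S, (Γ O V).map (inj i) (t i) = 0) : ∀ i ∈ S, t i = 0 := by
  classical
  intro j hj
  have h1 := congrArg (fun z => (Γ O V).map (π hc j) z) h
  simp only [map_sum, map_zero] at h1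
  rw [Finset.sum_eq_single j] at h1
  · rw [← Γ_comp_apply, inj_π_self, CategoryTheory.Functor.map_id] at h1
    exact h1
  · intro i _ hij
    rw [← Γ_comp_apply, inj_π_ne hc hij, Functor.map_zero]
    rfl
  · intro h'
    exact absurd hj h'

end FinSub

section Top

variable {X : TopCat.{u}}

lemma finSub_of_isCompact (U : Opens X) (hU : IsCompact (U : Set X)) :
    FinSub (Opens.grothendieckTopology X) U := by
  classical
  intro S hS
  have h : ∀ x : U, ∃ (V : Opens X) (f : V ⟶ U), S f ∧ (x : X) ∈ V := fun x => hS x.1 x.2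
  choose V f hf hx using h
  obtain ⟨t₀, ht₀⟩ := hU.elim_finite_subcover (fun x : U => ((V x : Opens X) : Set X))
    (fun x => (V x).isOpen) (fun y hy => Set.mem_iUnion.2 ⟨⟨y, hy⟩, hx ⟨y, hy⟩⟩)
  refine ⟨t₀.image (fun x => (⟨V x, ⟨f x, hf x⟩⟩ : Σ V : Opens X, {g : V ⟶ U // S g})), ?_⟩
  intro y hy
  obtain ⟨x, hxt, hyx⟩ : ∃ x ∈ t₀, y ∈ ((V x : Opens X) : Set X) := by
    have := ht₀ hy
    simpa using this
  let p : ↥(t₀.image (fun x => (⟨V x, ⟨f x, hf x⟩⟩ : Σ V : Opens X, {g : V ⟶ U // S g}))) :=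
    ⟨⟨V x, ⟨f x, hf x⟩⟩, Finset.mem_image_of_mem _ hxt⟩
  exact ⟨V x, f x, Sieve.ofArrows_mk _ _ p, hyx⟩

end Top

end Groth.Agent.Lib.QcSect
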