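import Mathlib
import Groth.Prelude
import Groth.Agent.Lib.QcSect2_helper7
import Groth.Agent.Lib.DSect6_lead
import Groth.Agent.Lib.RpushQC_lead
import Groth.Agent.Lib.HomVan4_lead
import Groth.Agent.Lib.ApproxOpen_lead
import Groth.Agent.Lib.StalkSky5_lead
import Groth.Agent.Lib.PerfLoc2_lead
import Groth.Agent.Lib.ModFreeExt_helper2
import Groth.Agent.Lib.BMod1_helper6
import Groth.Agent.Lib.LpullQC_lead

/-!
# Finite factorisation of maps from the structure sheaf into direct sums (lead)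

`CQ E` : every map from `E` to a direct sum of objects of `D_QCoh` is fixed by the idempotent of a
finite set of indices.  We prove `CQ (O_T[i])` for `T` quasi-compact and quasi-separated.
-/

set_option autoImplicit false
set_option linter.all false
set_option maxHeartbeats 1600000
set_option backward.isDefEq.respectTransparency false
set_option backward.isDefEq.respectTransparency.types false
set_option backward.defeqAttrib.useBackward true

universe u

open CategoryTheory CategoryTheory.Limits AlgebraicGeometry TopologicalSpace Opposite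
open DerivedCategory CategoryTheory.Pretriangulated

attribute [local instance] HasDerivedCategory.standard

namespace Groth.Agent.Lib.CompQL

open Groth.Agent.Lib Groth.Agent.Lib.DCohLocLead Groth.Agent.Lib.PerfLocL

noncomputable section

/-- derived pushforwards exist -/
local instance rpushI {X Y : Scheme.{u}} (g : X ⟶ Y) : DCoh.HasRpush g := BCOpenL.hasRpush g

/-- derived pullbacks exist -/
local instance lpullI {X Y : Scheme.{u}} (g : X ⟶ Y) : DCoh.HasLpull g := LpullExH3.hasLpull g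

/-! ### Idempotents of a coproduct cofan -/

section Cofan

variable {A : Type*} [Category A] [Preadditive A] {ι : Type*} {F : ι → A} {X : A}
  {inj : ∀ l, F l ⟶ X} (hc : IsColimit (Cofan.mk X inj))

lemma inj_e_not_mem {T : Finset ι} {k : ι} (hk : k ∉ T) : inj k ≫ QcSect.e hc T = 0 := by
  classical
  unfold QcSect.e
  rw [Preadditive.comp_sum]
  refine Finset.sum_eq_zero (fun l hl => ?_)
  have hkl : k ≠ l := fun h => hk (h ▸ hl)
  rw [← Category.assoc, QcSect.inj_π_ne hc hkl, zero_comp]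

lemma e_eq_of {T : Finset ι} {ε : X ⟶ X} (h1 : ∀ k, k ∈ T → inj k ≫ ε = inj k)
    (h0 : ∀ k, k ∉ T → inj k ≫ ε = 0) : ε = QcSect.e hc T := by
  classical
  apply Cofan.IsColimit.hom_ext hc
  intro k
  change inj k ≫ ε = inj k ≫ QcSect.e hc T
  by_cases hk : k ∈ T
  · rw [h1 k hk, QcSect.inj_e_mem hc hk]
  · rw [h0 k hk, inj_e_not_mem hc hk]

lemma e_comm {G : ι → A} {Y : A} {inj' : ∀ l, G l ⟶ Y} (hc' : IsColimit (Cofan.mk Y inj'))
    (a : ∀ l, F l ⟶ G l) (θ : X ⟶ Y) (h : ∀ l, inj l ≫ θ = a l ≫ inj' l) (T : Finset ι) :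
    QcSect.e hc T ≫ θ = θ ≫ QcSect.e hc' T := by
  classical
  apply Cofan.IsColimit.hom_ext hc
  intro k
  change inj k ≫ QcSect.e hc T ≫ θ = inj k ≫ θ ≫ QcSect.e hc' T
  by_cases hk : k ∈ T
  · have e1 : inj k ≫ QcSect.e hc T ≫ θ = a k ≫ inj' k := by
      rw [← Category.assoc, QcSect.inj_e_mem hc hk, h k]
    have e2 : inj k ≫ θ ≫ QcSect.e hc' T = a k ≫ inj' k := by
      rw [← Category.assoc, h k, Category.assoc, QcSect.inj_e_mem hc' hk]
    rw [e1, e2]
  · have e1 : inj k ≫ QcSect.e hc T ≫ θ = 0 := by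
      rw [← Category.assoc, inj_e_not_mem hc hk, zero_comp]
    have e2 : inj k ≫ θ ≫ QcSect.e hc' T = 0 := by
      rw [← Category.assoc, h k, Category.assoc, inj_e_not_mem hc' hk, comp_zero]
    rw [e1, e2]

lemma map_e {B : Type*} [Category B] [Preadditive B] (G : A ⥤ B) [G.PreservesZeroMorphisms]
    (hc' : IsColimit (Cofan.mk (G.obj X) (fun l => G.map (inj l)))) (T : Finset ι) :
    G.map (QcSect.e hc T) = QcSect.e hc' T := by
  apply e_eq_of hc'
  · intro k hk
    show G.map (inj k) ≫ G.map (QcSect.e hc T) = G.map (inj k)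
    rw [← G.map_comp, QcSect.inj_e_mem hc hk]
  · intro k hk
    show G.map (inj k) ≫ G.map (QcSect.e hc T) = 0
    rw [← G.map_comp, inj_e_not_mem hc hk, G.map_zero]

lemma e_comp_e {T T' : Finset ι} (hTT' : T ⊆ T') :
    QcSect.e hc T ≫ QcSect.e hc T' = QcSect.e hc T := by
  apply e_eq_of hc
  · intro k hk
    rw [← Category.assoc, QcSect.inj_e_mem hc hk, QcSect.inj_e_mem hc (hTT' hk)]
  · intro k hk
    rw [← Category.assoc, inj_e_not_mem hc hk, zero_comp]

lemma fixed_mono {Z : A} {φ : Z ⟶ X} {T T' : Finset ι} (hTT' : T ⊆ T')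
    (h : φ ≫ QcSect.e hc T = φ) : φ ≫ QcSect.e hc T' = φ := by
  have h2 : (φ ≫ QcSect.e hc T) ≫ QcSect.e hc T' = φ ≫ QcSect.e hc T := by
    rw [Category.assoc, e_comp_e hc hTT']
  rw [h] at h2
  exact h2

end Cofan

section Cofan2

variable {A : Type*} [Category A] {ι : Type*} {F : ι → A} {X : A}
  {inj : ∀ l, F l ⟶ X} (hc : IsColimit (Cofan.mk X inj))

include hc

/-- reindexing a coproduct cofan along isomorphisms of the summands -/
def cofanPrecomp {G : ι → A} (a : ∀ l, G l ≅ F l) :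
    IsColimit (Cofan.mk X (fun l => (a l).hom ≫ inj l)) :=
  mkCofanColimit _ (fun t => Cofan.IsColimit.desc hc (fun l => (a l).inv ≫ t.inj l))
    (fun t l => by
      have h1 : inj l ≫ Cofan.IsColimit.desc hc (fun l => (a l).inv ≫ t.inj l) =
          (a l).inv ≫ t.inj l := Cofan.IsColimit.fac hc _ l
      change ((a l).hom ≫ inj l) ≫ _ = t.inj l
      rw [Category.assoc, h1, Iso.hom_inv_id_assoc])
    (fun t m hm => by
      apply Cofan.IsColimit.hom_ext hc
      intro l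
      have h1 : inj l ≫ Cofan.IsColimit.desc hc (fun l => (a l).inv ≫ t.inj l) =
          (a l).inv ≫ t.inj l := Cofan.IsColimit.fac hc _ l
      have h2 : ((a l).hom ≫ inj l) ≫ m = t.inj l := hm l
      change inj l ≫ m = inj l ≫ _
      rw [h1, ← h2, Category.assoc, Iso.inv_hom_id_assoc])

/-- a left adjoint preserves coproduct cofans -/
lemma nonempty_cofan_of_adj {B : Type*} [Category B] {G : A ⥤ B} {R : B ⥤ A} (adj : G ⊣ R) :
    Nonempty (IsColimit (Cofan.mk (G.obj X) (fun l => G.map (inj l)))) := by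
  haveI : PreservesColimitsOfShape (Discrete ι) G :=
    (adj.leftAdjoint_preservesColimits).preservesColimitsOfShape
  exact ⟨isColimitCofanMkObjOfIsColimit G F inj hc⟩

/-- a morphism of coproduct cofans which is an isomorphism on the summands is an isomorphism -/
lemma isIso_of_cofans {G : ι → A} {Y : A} {inj' : ∀ l, G l ⟶ Y}
    (hc' : IsColimit (Cofan.mk Y inj')) (c : ∀ l, F l ≅ G l) (m : X ⟶ Y)
    (h : ∀ l, inj l ≫ m = (c l).hom ≫ inj' l) : IsIso m := by
  refine ⟨Cofan.IsColimit.desc hc' (fun l => (c l).inv ≫ inj l), ?_, ?_⟩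
  · apply Cofan.IsColimit.hom_ext hc
    intro l
    have h1 : inj' l ≫ Cofan.IsColimit.desc hc' (fun l => (c l).inv ≫ inj l) =
        (c l).inv ≫ inj l := Cofan.IsColimit.fac hc' _ l
    change inj l ≫ m ≫ _ = inj l ≫ 𝟙 X
    rw [← Category.assoc, h l, Category.assoc, h1, Iso.hom_inv_id_assoc, Category.comp_id]
  · apply Cofan.IsColimit.hom_ext hc'
    intro l
    have h1 : inj' l ≫ Cofan.IsColimit.desc hc' (fun l => (c l).inv ≫ inj l) =
        (c l).inv ≫ inj l := Cofan.IsColimit.fac hc' _ l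
    change inj' l ≫ _ ≫ m = inj' l ≫ 𝟙 Y
    rw [← Category.assoc, h1, Category.assoc, h l, Iso.inv_hom_id_assoc, Category.comp_id]

end Cofan2

/-! ### The finite factorisation property -/

/-- every map from `E` to a direct sum of objects of `D_QCoh` is fixed by the idempotent of a
finite set of indices -/
def CQ {T : Scheme.{u}} (E : DCoh.D T) : Prop :=
  ∀ (ι : Type u) (K : ι → DCoh.D T), (∀ i, DCoh.IsQCohD (K i)) →
    ∀ (P : DCoh.D T) (g : ∀ i, K i ⟶ P) (hc : IsColimit (Cofan.mk P g)) (φ : E ⟶ P),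
      ∃ s : Finset ι, φ ≫ QcSect.e hc s = φ

theorem CQ.of_iso {T : Scheme.{u}} {E E' : DCoh.D T} (a : E ≅ E') (h : CQ E) : CQ E' := by
  intro ι K hK P g hc φ
  obtain ⟨s, hs⟩ := h ι K hK P g hc (a.hom ≫ φ)
  refine ⟨s, ?_⟩
  rw [← cancel_epi a.hom, ← Category.assoc]
  exact hs

theorem CQ.of_adj {T T' : Scheme.{u}} {L : DCoh.D T ⥤ DCoh.D T'} {R : DCoh.D T' ⥤ DCoh.D T}
    (adj : L ⊣ R) (hRq : ∀ K, DCoh.IsQCohD K → DCoh.IsQCohD (R.obj K))
    (hRc : ∀ (ι : Type u) (K : ι → DCoh.D T') (P : DCoh.D T') (g : ∀ i, K i ⟶ P),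
      IsColimit (Cofan.mk P g) → Nonempty (IsColimit (Cofan.mk (R.obj P) (fun i => R.map (g i)))))
    {E : DCoh.D T} (h : CQ E) : CQ (L.obj E) := by
  intro ι K hK P g hc φ
  obtain ⟨hc'⟩ := hRc ι K P g hc
  haveI : R.IsRightAdjoint := adj.isRightAdjoint
  obtain ⟨s, hs⟩ := h ι (fun i => R.obj (K i)) (fun i => hRq _ (hK i)) (R.obj P)
    (fun i => R.map (g i)) hc' (adj.homEquiv E P φ)
  refine ⟨s, ?_⟩
  apply (adj.homEquiv E P).injective
  rw [Adjunction.homEquiv_naturality_right, map_e hc R hc' s]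
  exact hs

theorem CQ.shift {T : Scheme.{u}} {E : DCoh.D T} (h : CQ E) (n : ℤ) : CQ (E⟦n⟧) := by
  refine CQ.of_adj (L := shiftFunctor (DCoh.D T) n) (R := shiftFunctor (DCoh.D T) (-n))
    (shiftEquiv (DCoh.D T) n).toAdjunction (fun K hK => HomVanL.isQCohD_shift K hK (-n)) ?_ h
  intro ι K P g hc
  exact nonempty_cofan_of_adj hc (shiftEquiv (DCoh.D T) n).symm.toAdjunction

theorem CQ.biprod {T : Scheme.{u}} {A B : DCoh.D T} (hA : CQ A) (hB : CQ B) : CQ (A ⊞ B) := by
  classical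
  intro ι K hK P g hc φ
  obtain ⟨sA, hsA⟩ := hA ι K hK P g hc (biprod.inl ≫ φ)
  obtain ⟨sB, hsB⟩ := hB ι K hK P g hc (biprod.inr ≫ φ)
  refine ⟨sA ∪ sB, ?_⟩
  apply biprod.hom_ext'
  · rw [← Category.assoc]
    exact fixed_mono hc Finset.subset_union_left hsA
  · rw [← Category.assoc]
    exact fixed_mono hc Finset.subset_union_right hsB

theorem CQ.third {T : Scheme.{u}} (Tr : Triangle (DCoh.D T)) (hTr : Tr ∈ distTriang (DCoh.D T))
    (h2 : CQ Tr.obj₂) (h1 : CQ (Tr.obj₁⟦(1 : ℤ)⟧)) : CQ Tr.obj₃ := by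
  classical
  intro ι K hK P g hc φ
  obtain ⟨s₂, hs₂⟩ := h2 ι K hK P g hc (Tr.mor₂ ≫ φ)
  have h0 : Tr.mor₂ ≫ (φ - φ ≫ QcSect.e hc s₂) = 0 := by
    rw [Preadditive.comp_sub, ← Category.assoc, hs₂, sub_self]
  obtain ⟨ψ, hψ⟩ := Triangle.yoneda_exact₃ Tr hTr (φ - φ ≫ QcSect.e hc s₂) h0
  obtain ⟨s₁, hs₁⟩ := h1 ι K hK P g hc ψ
  refine ⟨s₁ ∪ s₂, ?_⟩
  have hφ : φ = Tr.mor₃ ≫ ψ + φ ≫ QcSect.e hc s₂ := by
    rw [← hψ, sub_add_cancel]
  have e1 : (Tr.mor₃ ≫ ψ) ≫ QcSect.e hc (s₁ ∪ s₂) = Tr.mor₃ ≫ ψ := by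
    rw [Category.assoc, fixed_mono hc Finset.subset_union_left hs₁]
  have e2 : (φ ≫ QcSect.e hc s₂) ≫ QcSect.e hc (s₁ ∪ s₂) = φ ≫ QcSect.e hc s₂ := by
    rw [Category.assoc, e_comp_e hc Finset.subset_union_right]
  calc φ ≫ QcSect.e hc (s₁ ∪ s₂)
      = (Tr.mor₃ ≫ ψ + φ ≫ QcSect.e hc s₂) ≫ QcSect.e hc (s₁ ∪ s₂) := by rw [← hφ]
    _ = Tr.mor₃ ≫ ψ + φ ≫ QcSect.e hc s₂ := by rw [Preadditive.add_comp, e1, e2]
    _ = φ := hφ.symm

/-! ### The structure sheaf as a free module -/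

section Rho

/-- a natural bijection of corepresented functors comes from an isomorphism -/
def isoOfHomEquiv {A : Type*} [Category A] {P Q : A} (Φ : ∀ M, (P ⟶ M) ≃ (Q ⟶ M))
    (hΦ : ∀ {M M' : A} (g : P ⟶ M) (k : M ⟶ M'), Φ M' (g ≫ k) = Φ M g ≫ k) : P ≅ Q where
  hom := (Φ Q).symm (𝟙 Q)
  inv := Φ P (𝟙 P)
  hom_inv_id := by
    apply (Φ P).injective
    rw [hΦ, Equiv.apply_symm_apply, Category.id_comp]
  inv_hom_id := by
    rw [← hΦ, Category.id_comp, Equiv.apply_symm_apply]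

/-- the free module on the terminal presheaf is the unit -/
def L₁ptIso {C : Type u} [SmallCategory C] {J : GrothendieckTopology C} (R : Sheaf J RingCat.{u}) :
    (ModFree.L₁ R).obj (ModFree.pt C) ≅ SheafOfModules.unit R :=
  isoOfHomEquiv (fun M => (ModFree.e₁ R (ModFree.pt C) M).trans (ModFree.s₁ R M).symm)
    (by
      intro M M' g k
      change (ModFree.s₁ R M').symm (ModFree.e₁ R (ModFree.pt C) M' (g ≫ k)) =
        (ModFree.s₁ R M).symm (ModFree.e₁ R (ModFree.pt C) M g) ≫ k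
      rw [ModFree.e₁_comp]
      apply (ModFree.s₁ R M').injective
      rw [Equiv.apply_symm_apply, ModFree.s₁_comp, Equiv.apply_symm_apply])

/-- the presheaf represented by the whole space is terminal -/
def yonedaTopIso (T : Scheme.{u}) : yoneda.obj (⊤ : T.Opens) ≅ ModFree.pt T.Opens :=
  NatIso.ofComponents
    (fun V => Equiv.toIso
      { toFun := fun _ => PUnit.unit
        invFun := fun _ => homOfLE le_top
        left_inv := fun _ => Subsingleton.elim (α := (V.unop ⟶ (⊤ : T.Opens))) _ _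
        right_inv := fun _ => rfl })
    (by
      intro V W f
      ext x
      rfl)

/-- `j_! O` for the whole space is the structure sheaf -/
def rho (T : Scheme.{u}) : (DSectX.PX T).obj ⊤ ≅ Coh.structureModule T :=
  (ModFree.L₁ T.ringCatSheaf).mapIso (yonedaTopIso T) ≪≫ L₁ptIso T.ringCatSheaf

end Rho

/-! ### The base case: affine schemes -/

section Base

variable (T : Scheme.{u}) [IsAffine T]

theorem model_fixed {ι : Type u} (C : ι → CochainComplex T.Modules ℤ)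
    (hCq : ∀ i n, Coh.IsQCoh ((C i).X n))
    (φ : (singleFunctor T.Modules 0).obj ((DSectX.PX T).obj ⊤) ⟶ Q.obj (DerCoprod.sigma C)) :
    ∃ s : Finset ι,
      φ ≫ QcSect.e (DerCoprod.isColimitCofan C (QCohSigmaL.exists_kInj T)) s = φ := by
  classical
  have hq : ∀ n : ℤ, Coh.IsQCoh ((DerCoprod.sigma C).X n) := by
    intro n
    haveI : ∀ i, ((C i).X n).IsQuasicoherent := fun i => hCq i n
    exact BModH6.isQuasicoherent_sigma (fun i => (C i).X n)
  obtain ⟨c, hcyc, hcφ⟩ :=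
    (DSectX.rep_of_qcoh (DerCoprod.sigma C) hq ⊤ (isAffineOpen_top T)).1 φ
  have hc0 : IsColimit (Cofan.mk ((DerCoprod.sigma C).X 0) (DerCoprod.ιX C 0)) :=
    coproductIsCoproduct (fun j => (C j).X 0)
  have hfin : QcSect.FinSub (Opens.grothendieckTopology T) (⊤ : T.Opens) :=
    QcSect.finSub_of_isCompact ⊤ (by simpa using CompactSpace.isCompact_univ (X := T))
  obtain ⟨s, hs⟩ := QcSect.exists_fixed' (O := T.sheaf) (F := fun j => (C j).X 0)
    (X := (DerCoprod.sigma C).X 0) (inj := DerCoprod.ιX C 0) hc0 hfin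
    (DSectX.evX T ⊤ _ c)
  have hcs : c ≫ QcSect.e hc0 s = c := by
    apply (DSectX.evX T ⊤ _).injective
    rw [DSectX.evX_comp]
    exact hs
  refine ⟨s, ?_⟩
  let Es : DerCoprod.sigma C ⟶ DerCoprod.sigma C :=
    DerCoprod.desc (fun i => if i ∈ s then DerCoprod.ι C i else 0)
  have hE0 : Es.f 0 = QcSect.e hc0 s := by
    apply e_eq_of hc0
    · intro k hk
      change DerCoprod.ιX C 0 k ≫ DerCoprod.descX C 0 _ = _
      rw [DerCoprod.ιX_descX]
      show (if k ∈ s then DerCoprod.ι C k else 0).f 0 = _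
      rw [if_pos hk]
      rfl
    · intro k hk
      change DerCoprod.ιX C 0 k ≫ DerCoprod.descX C 0 _ = _
      rw [DerCoprod.ιX_descX]
      show (if k ∈ s then DerCoprod.ι C k else 0).f 0 = _
      rw [if_neg hk]
      rfl
  have hEQ : Q.map Es = QcSect.e (DerCoprod.isColimitCofan C (QCohSigmaL.exists_kInj T)) s := by
    apply e_eq_of
    · intro k hk
      show Q.map (DerCoprod.ι C k) ≫ Q.map Es = Q.map (DerCoprod.ι C k)
      rw [← Q.map_comp, DerCoprod.ι_desc, if_pos hk]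
    · intro k hk
      show Q.map (DerCoprod.ι C k) ≫ Q.map Es = 0
      rw [← Q.map_comp, DerCoprod.ι_desc, if_neg hk, Q.map_zero]
  rw [← hcφ, ← hEQ, DSectL.thetaC_comp c hcyc Es]
  exact DSectL.thetaC_congr _ (by rw [hE0, hcs]) _ _

theorem cq_PX_top : CQ ((singleFunctor T.Modules 0).obj ((DSectX.PX T).obj ⊤)) := by
  classical
  intro ι K hK P g hc φ
  choose C hCq hCiso using fun i => RpushQCL.exists_qcoh_rep T (K i) (hK i)
  let a : ∀ i, Q.obj (C i) ≅ K i := fun i => (hCiso i).some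
  have hcm := DerCoprod.isColimitCofan C (QCohSigmaL.exists_kInj T)
  have hc2 := cofanPrecomp hc a
  let θ : Q.obj (DerCoprod.sigma C) ≅ P := IsColimit.coconePointUniqueUpToIso hcm hc2
  have hθ : ∀ j, Q.map (DerCoprod.ι C j) ≫ θ.hom = (a j).hom ≫ g j := fun j =>
    IsColimit.comp_coconePointUniqueUpToIso_hom hcm hc2 ⟨j⟩
  obtain ⟨s, hs⟩ := model_fixed T C hCq (φ ≫ θ.inv)
  refine ⟨s, ?_⟩
  have hcomm := e_comm (DerCoprod.isColimitCofan C (QCohSigmaL.exists_kInj T)) hc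
    (fun l => (a l).hom) θ.hom hθ s
  calc φ ≫ QcSect.e hc s = (φ ≫ θ.inv) ≫ θ.hom ≫ QcSect.e hc s := by
        rw [Category.assoc, Iso.inv_hom_id_assoc]
    _ = (φ ≫ θ.inv) ≫
          QcSect.e (DerCoprod.isColimitCofan C (QCohSigmaL.exists_kInj T)) s ≫ θ.hom := by
        rw [hcomm]
    _ = φ := by
        rw [← Category.assoc, hs, Category.assoc, Iso.inv_hom_id, Category.comp_id]

end Base

/-! ### The structure sheaf on a quasi-compact quasi-separated scheme -/

/-- maps from shifts of the structure sheaf to direct sums in `D_QCoh` factor finitely -/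
def CompS (T : Scheme.{u}) : Prop :=
  ∀ (i : ℤ) (E : DCoh.D T), Nonempty (E ≅ sgl T i (Coh.structureModule T)) → CQ E

theorem compS_of_affine (T : Scheme.{u}) [IsAffine T] : CompS T := by
  intro i E hE
  obtain ⟨e⟩ := hE
  obtain ⟨c⟩ := PerfLocL.nonempty_sgl_shift i (Coh.structureModule T)
  have h0 : CQ (DCoh.inD T (Coh.structureModule T)) :=
    (cq_PX_top T).of_iso ((singleFunctor T.Modules 0).mapIso (rho T))
  exact (h0.shift (-i)).of_iso (e ≪≫ c).symm

theorem nonempty_adj_DD_iso {T₁ T₂ : Scheme.{u}} (α : T₁ ⟶ T₂) [IsIso α] :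
    Nonempty (DD α ⊣ DD (inv α)) := by
  obtain ⟨adj⟩ := HomVanL.nonempty_adj_DD α
  obtain ⟨ρ⟩ := RpushQCL.nonempty_Rpush_iso_restrictD α
  exact ⟨adj.ofNatIsoRight ρ⟩

theorem CompS.of_iso {T₁ T₂ : Scheme.{u}} (α : T₁ ⟶ T₂) [IsIso α] (h : CompS T₂) :
    CompS T₁ := by
  intro i E hE
  obtain ⟨e⟩ := hE
  obtain ⟨adj'⟩ := nonempty_adj_DD_iso α
  obtain ⟨adj2⟩ := HomVanL.nonempty_adj_DD (inv α)
  obtain ⟨c1⟩ := PerfLocL.nonempty_DD_sgl α i (Coh.structureModule T₂)
  have c : (DD α).obj (sgl T₂ i (Coh.structureModule T₂)) ≅ E :=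
    c1 ≪≫ (singleFunctor T₁.Modules i).mapIso (Scheme.Modules.restrictUnitIso α) ≪≫ e.symm
  exact CQ.of_iso c (CQ.of_adj adj'
    (fun K hK => LpullQCL.isQCohD_restrictD (inv α) K hK)
    (fun ι K P g hc => nonempty_cofan_of_adj hc adj2) (h i _ ⟨Iso.refl _⟩))

theorem CompS.of_cover {T : Scheme.{u}} (U V : T.Opens) (hUV : U ⊔ V = ⊤)
    (hU : CompS (U : Scheme.{u})) (hV : CompS (V : Scheme.{u}))
    (hI : CompS ((U ⊓ V : T.Opens) : Scheme.{u})) : CompS T := by
  intro i E hE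
  obtain ⟨e⟩ := hE
  have key : ∀ W : T.Opens, CompS (W : Scheme.{u}) →
      CQ ((CxOX.extZeroD W.ι).obj ((DCoh.restrictD W.ι).obj E)) := by
    intro W hW
    obtain ⟨c1⟩ := PerfLocL.nonempty_DD_sgl W.ι i (Coh.structureModule T)
    obtain ⟨adj2⟩ := HomVanL.nonempty_adj_DD W.ι
    have c : (DD W.ι).obj E ≅
        sgl (W : Scheme.{u}) i (Coh.structureModule (W : Scheme.{u})) :=
      (DD W.ι).mapIso e ≪≫ c1 ≪≫
        (singleFunctor (W : Scheme.{u}).Modules i).mapIso (Scheme.Modules.restrictUnitIso W.ι)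
    exact CQ.of_adj (ApproxOpenL.adjShriek W)
      (fun K hK => LpullQCL.isQCohD_restrictD W.ι K hK)
      (fun ι K P g hc => nonempty_cofan_of_adj hc adj2) (hW i _ ⟨c⟩)
  obtain ⟨a, b, c, hT⟩ := StalkSkyL.main6513 U V hUV E
  exact CQ.third (Triangle.mk a b c) hT (CQ.biprod (key U hU) (key V hV))
    ((key (U ⊓ V) hI).shift (1 : ℤ))

theorem compS_of_isCompact {X : Scheme.{u}} [QuasiSeparatedSpace X] (S : X.Opens)
    (hS : IsCompact (S : Set X)) : CompS (S : Scheme.{u}) := by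
  refine RpushQCL.qcqs_induction (fun S => CompS (S : Scheme.{u})) ?_ ?_ S hS
  · intro U hU
    haveI : IsAffine (U : Scheme.{u}) := hU
    exact compS_of_affine _
  · intro U V hU hV hI
    let Wo : X.Opens := U ⊔ V
    let U' : (Wo : Scheme.{u}).Opens := Wo.ι ⁻¹ᵁ U
    let V' : (Wo : Scheme.{u}).Opens := Wo.ι ⁻¹ᵁ V
    have hcov : U' ⊔ V' = ⊤ := by
      rw [eq_top_iff]
      rintro x -
      have hx : (Wo.ι x) ∈ U ⊔ V := x.2
      rcases hx with hx | hx
      · exact Or.inl hx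
      · exact Or.inr hx
    have rU := RpushQCL.range_eq_of Wo U U' le_sup_left (fun y => Iff.rfl)
    have rV := RpushQCL.range_eq_of Wo V V' le_sup_right (fun y => Iff.rfl)
    have rI := RpushQCL.range_eq_of Wo (U ⊓ V) (U' ⊓ V') (inf_le_left.trans le_sup_left)
      (fun y => Iff.rfl)
    exact CompS.of_cover U' V' hcov
      (CompS.of_iso (IsOpenImmersion.isoOfRangeEq (U'.ι ≫ Wo.ι) U.ι rU).hom hU)
      (CompS.of_iso (IsOpenImmersion.isoOfRangeEq (V'.ι ≫ Wo.ι) V.ι rV).hom hV)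
      (CompS.of_iso (IsOpenImmersion.isoOfRangeEq ((U' ⊓ V').ι ≫ Wo.ι) (U ⊓ V).ι rI).hom hI)

theorem compS_of_qcqs (X : Scheme.{u}) [CompactSpace X] [QuasiSeparatedSpace X] : CompS X :=
  CompS.of_iso X.topIso.inv
    (compS_of_isCompact (⊤ : X.Opens) (by simpa using CompactSpace.isCompact_univ (X := X)))

end

end Groth.Agent.Lib.CompQL
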