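import Mathlib
import Groth.Prelude
import Groth.Agent.Lib.RpushQC_lead
import Groth.Agent.Lib.DSect8_lead

/-!
# `Rf_*` for affine `f` reflects isomorphisms on `D_QCoh` (lead; S7257)

* `isIso_of_mapDerivedCategory` : an exact functor reflecting zero objects of the derived category
  reflects isomorphisms there;
* `isZeroD_of_cover`, `isIso_of_cover` : vanishing / being an isomorphism in `D(O_X)` is local;
* `Cons g` : `Rg_*` reflects isomorphisms between objects of `D_QCoh`; `cons_spec`, `cons_of_affine`;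
* `main7257`.
-/

set_option autoImplicit false
set_option linter.all false
set_option maxHeartbeats 1600000
set_option backward.isDefEq.respectTransparency false
set_option backward.isDefEq.respectTransparency.types false
set_option backward.defeqAttrib.useBackward true

universe u
open CategoryTheory CategoryTheory.Limits AlgebraicGeometry Opposite TopologicalSpace
open DerivedCategory CategoryTheory.Pretriangulated
attribute [local instance] HasDerivedCategory.standard

namespace Groth.Agent.Lib.RpushConsL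

open Groth.Agent.Lib Groth.Agent.Lib.DCohLocLead

section GenericExact

universe w₁ w₂ v₁ v₂ u₁ u₂

variable {C₁ : Type u₁} [Category.{v₁} C₁] [Abelian C₁] [HasDerivedCategory.{w₁} C₁]
  {C₂ : Type u₂} [Category.{v₂} C₂] [Abelian C₂] [HasDerivedCategory.{w₂} C₂]
  (G : C₁ ⥤ C₂) [G.Additive] [PreservesFiniteLimits G] [PreservesFiniteColimits G]

theorem isIso_of_mapDerivedCategory
    (hG : ∀ K : DerivedCategory C₁, IsZero (G.mapDerivedCategory.obj K) → IsZero K)
    {E F : DerivedCategory C₁} (α : E ⟶ F) (h : IsIso (G.mapDerivedCategory.map α)) :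
    IsIso α := by
  obtain ⟨K, β, γ, hT⟩ := distinguished_cocone_triangle α
  have hT' := G.mapDerivedCategory.map_distinguished _ hT
  have h0 : IsZero (G.mapDerivedCategory.obj K) := (Triangle.isZero₃_iff_isIso₁ _ hT').2 h
  exact (Triangle.isZero₃_iff_isIso₁ _ hT).1 (hG K h0)

end GenericExact

section Local

variable {X : Scheme.{u}}

theorem isZeroD_of_cover (C : DCoh.D X) {ι : Type*} (𝒰 : ι → X.Opens)
    (hcov : ∀ x : X, ∃ i, x ∈ 𝒰 i)
    (H : ∀ i, IsZero ((DCoh.restrictD (𝒰 i).ι).obj C)) : IsZero C := by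
  apply MVPushL.isZero_of_forall_isZero_homology
  intro n
  refine isZero_of_isZero_restrict _ 𝒰 hcov (fun i => ?_)
  obtain ⟨e⟩ := nonempty_homology_mapExact_iso (Scheme.Modules.restrictFunctor (𝒰 i).ι) C n
  exact IsZero.of_iso ((homologyFunctor _ n).map_isZero (H i)) e.symm

theorem isIso_of_cover {E F : DCoh.D X} (α : E ⟶ F) {ι : Type*} (𝒰 : ι → X.Opens)
    (hcov : ∀ x : X, ∃ i, x ∈ 𝒰 i)
    (H : ∀ i, IsIso ((DCoh.restrictD (𝒰 i).ι).map α)) : IsIso α := by
  obtain ⟨K, β, γ, hT⟩ := distinguished_cocone_triangle α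
  refine (Triangle.isZero₃_iff_isIso₁ _ hT).1 (isZeroD_of_cover K 𝒰 hcov (fun i => ?_))
  have hT' := (DCoh.restrictD (𝒰 i).ι).map_distinguished _ hT
  exact (Triangle.isZero₃_iff_isIso₁ _ hT').2 (H i)

end Local

section IsoRes

variable {W₁ W₂ : Scheme.{u}} (b : W₂ ⟶ W₁) [IsIso b]

theorem isZero_of_isZero_restrict_iso (M : W₁.Modules)
    (h : IsZero ((Scheme.Modules.restrictFunctor b).obj M)) : IsZero M := by
  let η : 𝟭 W₁.Modules ≅
      Scheme.Modules.restrictFunctor b ⋙ Scheme.Modules.restrictFunctor (inv b) :=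
    (Scheme.Modules.restrictFunctorId (X := W₁)).symm ≪≫
      (Scheme.Modules.restrictFunctorCongr (IsIso.inv_hom_id b)).symm ≪≫
      Scheme.Modules.restrictFunctorComp (inv b) b
  exact IsZero.of_iso ((Scheme.Modules.restrictFunctor (inv b)).map_isZero h) (η.app M)

theorem isZeroD_of_isZero_restrictD_iso (C : DCoh.D W₁)
    (h : IsZero ((DCoh.restrictD b).obj C)) : IsZero C := by
  apply MVPushL.isZero_of_forall_isZero_homology
  intro n
  apply isZero_of_isZero_restrict_iso b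
  obtain ⟨e⟩ := nonempty_homology_mapExact_iso (Scheme.Modules.restrictFunctor b) C n
  exact IsZero.of_iso ((homologyFunctor _ n).map_isZero h) e.symm

end IsoRes

section SpecCase

variable {R S : CommRingCat.{u}} (φ : R ⟶ S)

theorem isZero_of_isZero_restrictScalarsD (C : DerivedCategory (ModuleCat.{u} S))
    (h : IsZero ((ModuleCat.restrictScalars.{u} φ.hom).mapDerivedCategory.obj C)) : IsZero C := by
  apply MVPushL.isZero_of_forall_isZero_homology
  intro n
  obtain ⟨e⟩ := nonempty_homology_mapExact_iso (ModuleCat.restrictScalars.{u} φ.hom) C n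
  have h1 : IsZero ((ModuleCat.restrictScalars.{u} φ.hom).obj ((homologyFunctor _ n).obj C)) :=
    IsZero.of_iso ((homologyFunctor _ n).map_isZero h) e.symm
  rw [ModuleCat.isZero_iff_subsingleton] at h1 ⊢
  exact h1

end SpecCase

/-- `Rg_*` reflects isomorphisms between objects of `D_QCoh` -/
def Cons {W S : Scheme.{u}} (g : W ⟶ S) : Prop :=
  haveI := BCOpenL.hasRpush g
  ∀ (E F : DCoh.D W), DCoh.IsQCohD E → DCoh.IsQCohD F → ∀ α : E ⟶ F,
    IsIso ((DCoh.Rpush g).map α) → IsIso α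

theorem cons_spec {R S : CommRingCat.{u}} (φ : R ⟶ S) : Cons (Spec.map φ) := by
  intro E F hE hF α hα
  haveI := BCOpenL.hasRpush (Spec.map φ)
  haveI := LpullQCL.preservesFiniteLimits_tilde R
  haveI := LpullQCL.preservesFiniteLimits_tilde S
  obtain ⟨M, ⟨eM⟩⟩ := ((DSectX.main0997 S).2.2 E).1 hE
  obtain ⟨N, ⟨eN⟩⟩ := ((DSectX.main0997 S).2.2 F).1 hF
  haveI : (DCoh.tildeD S).Full := (DSectX.main0997 S).1
  haveI : (DCoh.tildeD S).Faithful := (DSectX.main0997 S).2.1
  haveI : (DCoh.tildeD R).Full := (DSectX.main0997 R).1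
  haveI : (DCoh.tildeD R).Faithful := (DSectX.main0997 R).2.1
  obtain ⟨β, hβ⟩ := (DCoh.tildeD S).map_surjective (eM.hom ≫ α ≫ eN.inv)
  obtain ⟨ι⟩ := DSectX.nonempty_iso_7268 φ
  haveI := hα
  have h1 : IsIso ((DCoh.Rpush (Spec.map φ)).map ((DCoh.tildeD S).map β)) := by
    rw [hβ, Functor.map_comp, Functor.map_comp]
    infer_instance
  have h2 : IsIso ((DCoh.tildeD R).map
      ((ModuleCat.restrictScalars.{u} φ.hom).mapDerivedCategory.map β)) :=
    (NatIso.isIso_map_iff ι β).1 h1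
  have h3 : IsIso ((ModuleCat.restrictScalars.{u} φ.hom).mapDerivedCategory.map β) :=
    isIso_of_fully_faithful (DCoh.tildeD R) _
  haveI h4 : IsIso β :=
    isIso_of_mapDerivedCategory _ (isZero_of_isZero_restrictScalarsD φ) β h3
  have h5 : IsIso (eM.hom ≫ α ≫ eN.inv) := by
    rw [← hβ]
    infer_instance
  have h6 : α = eM.inv ≫ (eM.hom ≫ α ≫ eN.inv) ≫ eN.hom := by simp
  rw [h6]
  infer_instance

theorem Cons.of_iso_source {W₁ W₂ S : Scheme.{u}} (a : W₁ ⟶ W₂) [IsIso a] (g₂ : W₂ ⟶ S)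
    (g₁ : W₁ ⟶ S) (h : a ≫ g₂ = g₁) (hg : Cons g₂) : Cons g₁ := by
  subst h
  haveI := BCOpenL.hasRpush a
  haveI := BCOpenL.hasRpush g₂
  haveI := BCOpenL.hasRpush (a ≫ g₂)
  intro E F hE hF α hα
  obtain ⟨e1⟩ := LpullAdjH3.nonempty_Rpush_comp_iso a g₂
  obtain ⟨e2⟩ := RpushQCL.nonempty_Rpush_iso_restrictD a
  have hE' : DCoh.IsQCohD ((DCoh.Rpush a).obj E) :=
    DSectX.isQCohD_of_iso (e2.app E).symm (LpullQCL.isQCohD_restrictD (inv a) E hE)
  have hF' : DCoh.IsQCohD ((DCoh.Rpush a).obj F) :=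
    DSectX.isQCohD_of_iso (e2.app F).symm (LpullQCL.isQCohD_restrictD (inv a) F hF)
  have h1 : IsIso ((DCoh.Rpush g₂).map ((DCoh.Rpush a).map α)) :=
    (NatIso.isIso_map_iff e1 α).2 hα
  have h2 : IsIso ((DCoh.Rpush a).map α) := hg _ _ hE' hF' _ h1
  have h3 : IsIso ((DCoh.restrictD (inv a)).map α) := (NatIso.isIso_map_iff e2 α).1 h2
  exact isIso_of_mapDerivedCategory _ (isZeroD_of_isZero_restrictD_iso (inv a)) α h3

theorem Cons.of_iso_target {W V V' : Scheme.{u}} (g : W ⟶ V) (b : V ⟶ V')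
    (hg : Cons (g ≫ b)) : Cons g := by
  haveI := BCOpenL.hasRpush g
  haveI := BCOpenL.hasRpush b
  haveI := BCOpenL.hasRpush (g ≫ b)
  intro E F hE hF α hα
  obtain ⟨e1⟩ := LpullAdjH3.nonempty_Rpush_comp_iso g b
  refine hg E F hE hF α ((NatIso.isIso_map_iff e1 α).1 ?_)
  haveI := hα
  show IsIso ((DCoh.Rpush b).map ((DCoh.Rpush g).map α))
  infer_instance

theorem cons_of_affine {W V : Scheme.{u}} [IsAffine W] [IsAffine V] (g : W ⟶ V) : Cons g := by
  refine Cons.of_iso_target g V.isoSpec.hom ?_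
  exact Cons.of_iso_source W.isoSpec.hom (Spec.map g.appTop) (g ≫ V.isoSpec.hom)
    (Scheme.isoSpec_hom_naturality g) (cons_spec g.appTop)

/-- **S7257** -/
theorem main7257 {X S : Scheme.{u}} (f : X ⟶ S) [IsAffineHom f] [DCoh.HasRpush f]
    {E F : DCoh.D X} (hE : DCoh.IsQCohD E) (hF : DCoh.IsQCohD F) (α : E ⟶ F)
    (hα : IsIso ((DCoh.Rpush f).map α)) : IsIso α := by
  refine isIso_of_cover α (fun V : S.affineOpens => f ⁻¹ᵁ V.1) ?_ (fun V => ?_)
  · intro x
    have hx : f x ∈ (⊤ : S.Opens) := trivial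
    rw [← iSup_affineOpens_eq_top S, Opens.mem_iSup] at hx
    obtain ⟨V, hV⟩ := hx
    exact ⟨V, hV⟩
  · haveI := BCOpenL.hasRpush (f ∣_ V.1)
    obtain ⟨e⟩ := BCOpenL.main6508 f V.1
    haveI : IsAffine (V.1 : Scheme.{u}) := V.2
    haveI : IsAffine ((f ⁻¹ᵁ V.1 : X.Opens) : Scheme.{u}) :=
      IsAffineHom.isAffine_preimage V.1 V.2
    have hc := cons_of_affine (f ∣_ V.1)
    refine hc _ _ (LpullQCL.isQCohD_restrictD (f ⁻¹ᵁ V.1).ι E hE)
      (LpullQCL.isQCohD_restrictD (f ⁻¹ᵁ V.1).ι F hF) _ ?_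
    refine (NatIso.isIso_map_iff e α).1 ?_
    haveI := hα
    show IsIso ((DCoh.restrictD V.1.ι).map ((DCoh.Rpush f).map α))
    infer_instance

end Groth.Agent.Lib.RpushConsL
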