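import Mathlib
import Groth.Prelude
import Groth.Agent.Lib.CompQ1_lead
import Groth.Agent.Lib.RpushCons_lead
import Groth.Agent.Lib.DerAdj1_lead
import Groth.Agent.Lib.PB9_helper8
import Groth.Agent.Lib.FlatQuot1_lead

/-!
# `Rf_*` commutes with direct sums on `D_QCoh` (lead)
-/

set_option autoImplicit false
set_option linter.all false
set_option maxHeartbeats 1600000
set_option backward.isDefEq.respectTransparency false
set_option backward.isDefEq.respectTransparency.types false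
set_option backward.defeqAttrib.useBackward true

universe u

open CategoryTheory CategoryTheory.Limits AlgebraicGeometry TopologicalSpace Opposite
open DerivedCategory CategoryTheory.Pretriangulated

attribute [local instance] HasDerivedCategory.standard

namespace Groth.Agent.Lib.CompQL

open Groth.Agent.Lib Groth.Agent.Lib.DCohLocLead Groth.Agent.Lib.PerfLocL

noncomputable section

attribute [local instance] rpushI lpullI

/-! ### Generation of `D_QCoh` of an affine scheme by the structure sheaf -/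

theorem bij_shift {C : Type*} [Category C] [HasShift C ℤ] {A' A L L' : C} (m : L ⟶ L') (q : ℤ)
    (a : A'⟦q⟧ ≅ A) (h : Function.Bijective (fun ψ : A' ⟶ L => ψ ≫ m)) :
    Function.Bijective (fun ψ : A ⟶ L⟦q⟧ => ψ ≫ m⟦q⟧') := by
  constructor
  · intro ψ₁ ψ₂ h12
    have h12' : ψ₁ ≫ m⟦q⟧' = ψ₂ ≫ m⟦q⟧' := h12
    obtain ⟨χ₁, hχ₁⟩ := (shiftFunctor C q).map_surjective (a.hom ≫ ψ₁)
    obtain ⟨χ₂, hχ₂⟩ := (shiftFunctor C q).map_surjective (a.hom ≫ ψ₂)
    have e1 : ψ₁ = a.inv ≫ χ₁⟦q⟧' := by rw [hχ₁, Iso.inv_hom_id_assoc]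
    have e2 : ψ₂ = a.inv ≫ χ₂⟦q⟧' := by rw [hχ₂, Iso.inv_hom_id_assoc]
    have h3 : (χ₁ ≫ m)⟦q⟧' = (χ₂ ≫ m)⟦q⟧' := by
      rw [CategoryTheory.Functor.map_comp, CategoryTheory.Functor.map_comp, ← cancel_epi a.inv,
        ← Category.assoc, ← Category.assoc, ← e1, ← e2]
      exact h12'
    have h4 : χ₁ ≫ m = χ₂ ≫ m := (shiftFunctor C q).map_injective h3
    have h5 : χ₁ = χ₂ := h.1 h4
    rw [e1, e2, h5]
  · intro ξ
    obtain ⟨χ', hχ'⟩ := (shiftFunctor C q).map_surjective (a.hom ≫ ξ)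
    obtain ⟨χ, hχ⟩ := h.2 χ'
    have hχ2 : χ ≫ m = χ' := hχ
    refine ⟨a.inv ≫ χ⟦q⟧', ?_⟩
    show (a.inv ≫ χ⟦q⟧') ≫ m⟦q⟧' = ξ
    rw [Category.assoc, ← CategoryTheory.Functor.map_comp, hχ2, hχ', Iso.inv_hom_id_assoc]

/-- a map in `D_QCoh(T)` is an isomorphism as soon as it induces bijections on maps from all shifts
of the structure sheaf -/
def Gen (T : Scheme.{u}) : Prop :=
  ∀ (L L' : DCoh.D T) (m : L ⟶ L'), DCoh.IsQCohD L → DCoh.IsQCohD L' →
    (∀ (i : ℤ) (E : DCoh.D T), Nonempty (E ≅ sgl T i (Coh.structureModule T)) →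
      Function.Bijective (fun ψ : E ⟶ L => ψ ≫ m)) → IsIso m

theorem gen_of_key (T : Scheme.{u}) (htop : IsAffineOpen (⊤ : T.Opens))
    (hkey : ∀ {A B : T.Modules}, Coh.IsQCoh A → Coh.IsQCoh B → ∀ g : A ⟶ B,
      Function.Bijective ((((DSectX.ΓX T).map g).hom.app (op ⊤)).hom) → IsIso g) : Gen T := by
  intro L L' m hL hL' hbij
  rw [DerivedCategory.isIso_iff]
  intro q
  let A₀ : DCoh.D T := (singleFunctor T.Modules 0).obj ((DSectX.PX T).obj ⊤)
  have hA' : Nonempty (A₀⟦-q⟧ ≅ sgl T q (Coh.structureModule T)) := by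
    obtain ⟨c⟩ := PerfLocL.nonempty_sgl_shift q (Coh.structureModule T)
    exact ⟨(shiftFunctor (DCoh.D T) (-q)).mapIso
      ((singleFunctor T.Modules 0).mapIso (rho T)) ≪≫ c.symm⟩
  have hb0 := hbij q (A₀⟦-q⟧) hA'
  let a : (A₀⟦-q⟧)⟦q⟧ ≅ A₀ := (shiftFunctorCompIsoId (DCoh.D T) (-q) q (by omega)).app A₀
  have hb1 : Function.Bijective (fun ψ : A₀ ⟶ L⟦q⟧ => ψ ≫ m⟦q⟧') := bij_shift m q a hb0
  have hLq : DCoh.IsQCohD (L⟦q⟧) := HomVanL.isQCohD_shift L hL q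
  have hL'q : DCoh.IsQCohD (L'⟦q⟧) := HomVanL.isQCohD_shift L' hL' q
  have hη := DSectX.etaX_bijective T (L⟦q⟧) (fun j _ => hLq j) ⊤ htop
  have hη' := DSectX.etaX_bijective T (L'⟦q⟧) (fun j _ => hL'q j) ⊤ htop
  have hcomp : ∀ φ : A₀ ⟶ L⟦q⟧, DSectL.etaA (DSectX.sdX T) (L'⟦q⟧) ⊤ (φ ≫ m⟦q⟧') =
      ((((DSectX.ΓX T).map ((homologyFunctor T.Modules 0).map (m⟦q⟧'))).hom.app (op ⊤)).hom)
        (DSectL.etaA (DSectX.sdX T) (L⟦q⟧) ⊤ φ) :=
    fun φ => DSectL.etaA_comp (DSectX.sdX T) (m⟦q⟧') ⊤ φ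
  have hΓ : Function.Bijective
      ((((DSectX.ΓX T).map ((homologyFunctor T.Modules 0).map (m⟦q⟧'))).hom.app (op ⊤)).hom) := by
    constructor
    · intro x y hxy
      obtain ⟨φx, rfl⟩ := hη.2 x
      obtain ⟨φy, rfl⟩ := hη.2 y
      have h3 : DSectL.etaA (DSectX.sdX T) (L'⟦q⟧) ⊤ (φx ≫ m⟦q⟧') =
          DSectL.etaA (DSectX.sdX T) (L'⟦q⟧) ⊤ (φy ≫ m⟦q⟧') :=
        (hcomp φx).trans (hxy.trans (hcomp φy).symm)
      have h4 : φx = φy := hb1.1 (hη'.1 h3)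
      rw [h4]
    · intro z
      obtain ⟨φz, rfl⟩ := hη'.2 z
      obtain ⟨φ, hφ⟩ := hb1.2 φz
      have hφ' : φ ≫ m⟦q⟧' = φz := hφ
      exact ⟨_, ((hcomp φ).symm.trans (by rw [hφ']))⟩
  have hiso : IsIso ((homologyFunctor T.Modules 0).map (m⟦q⟧')) :=
    hkey (hLq 0) (hL'q 0) _ hΓ
  exact (NatIso.isIso_map_iff ((homologyFunctor T.Modules 0).shiftIso q 0 q (by omega)) m).1 hiso

theorem gen_spec (R : CommRingCat.{u}) : Gen (Spec (CommRingCat.of R)) :=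
  gen_of_key _ (isAffineOpen_top _)
    (fun hA hB g h => DSectX.isIso_of_bijective_top R hA hB g h)

theorem isIso_of_isIso_restrictD_iso {W₁ W₂ : Scheme.{u}} (b : W₂ ⟶ W₁) [IsIso b]
    {E F : DCoh.D W₁} (α : E ⟶ F) (h : IsIso ((DCoh.restrictD b).map α)) : IsIso α :=
  RpushConsL.isIso_of_mapDerivedCategory (Scheme.Modules.restrictFunctor b)
    (fun K hK => RpushConsL.isZeroD_of_isZero_restrictD_iso b K hK) α h

theorem Gen.of_iso {T₁ T₂ : Scheme.{u}} (α : T₁ ⟶ T₂) [IsIso α] (h : Gen T₂) : Gen T₁ := by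
  intro L L' m hL hL' hbij
  obtain ⟨adj'⟩ := nonempty_adj_DD_iso α
  have hR : IsIso ((DD (inv α)).map m) := by
    refine h _ _ _ (LpullQCL.isQCohD_restrictD (inv α) L hL)
      (LpullQCL.isQCohD_restrictD (inv α) L' hL') ?_
    intro i E' hE'
    obtain ⟨e'⟩ := hE'
    obtain ⟨c1⟩ := PerfLocL.nonempty_DD_sgl α i (Coh.structureModule T₂)
    have c : (DD α).obj E' ≅ sgl T₁ i (Coh.structureModule T₁) :=
      (DD α).mapIso e' ≪≫ c1 ≪≫
        (singleFunctor T₁.Modules i).mapIso (Scheme.Modules.restrictUnitIso α)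
    have hb := hbij i _ ⟨c⟩
    constructor
    · intro ψ₁ ψ₂ h12
      have h12' : ψ₁ ≫ (DD (inv α)).map m = ψ₂ ≫ (DD (inv α)).map m := h12
      apply (adj'.homEquiv E' L).symm.injective
      apply hb.1
      show (adj'.homEquiv E' L).symm ψ₁ ≫ m = (adj'.homEquiv E' L).symm ψ₂ ≫ m
      rw [← Adjunction.homEquiv_naturality_right_symm, ← Adjunction.homEquiv_naturality_right_symm,
        h12']
    · intro ξ
      obtain ⟨χ, hχ⟩ := hb.2 ((adj'.homEquiv E' L').symm ξ)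
      have hχ' : χ ≫ m = (adj'.homEquiv E' L').symm ξ := hχ
      refine ⟨adj'.homEquiv E' L χ, ?_⟩
      show adj'.homEquiv E' L χ ≫ (DD (inv α)).map m = ξ
      rw [← Adjunction.homEquiv_naturality_right, hχ', Equiv.apply_symm_apply]
  exact isIso_of_isIso_restrictD_iso (inv α) m hR

theorem gen_of_affine (S : Scheme.{u}) [IsAffine S] : Gen S :=
  Gen.of_iso S.isoSpec.hom (gen_spec Γ(S, ⊤))

/-! ### Auxiliary facts -/

theorem additive_of_adj {C D : Type*} [Category C] [Category D] [Preadditive C] [Preadditive D]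
    [HasZeroObject C] [HasZeroObject D] [HasBinaryProducts D] {L : C ⥤ D} {R : D ⥤ C}
    (adj : L ⊣ R) : R.Additive := by
  haveI : R.IsRightAdjoint := adj.isRightAdjoint
  haveI : PreservesLimitsOfShape (Discrete WalkingPair) R :=
    (adj.rightAdjoint_preservesLimits).preservesLimitsOfShape
  exact Functor.additive_of_preserves_binary_products R

theorem isQCohD_of_cofan {T : Scheme.{u}} {ι : Type u} (K : ι → DCoh.D T)
    (hK : ∀ i, DCoh.IsQCohD (K i)) {P : DCoh.D T} {g : ∀ i, K i ⟶ P}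
    (hc : IsColimit (Cofan.mk P g)) : DCoh.IsQCohD P := by
  haveI : HasCoproduct K := ⟨⟨⟨_, hc⟩⟩⟩
  exact DSectX.isQCohD_of_iso
    (IsColimit.coconePointUniqueUpToIso (coproductIsCoproduct K) hc)
    (QCohSigmaL.main1040 T K hK)

theorem lpull_sgl_unit {X S : Scheme.{u}} (f : X ⟶ S) (i : ℤ) (E : DCoh.D S)
    (hE : Nonempty (E ≅ sgl S i (Coh.structureModule S))) :
    Nonempty ((DCoh.Lpull f).obj E ≅ sgl X i (Coh.structureModule X)) := by
  obtain ⟨e⟩ := hE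
  obtain ⟨c⟩ := PerfLocL.nonempty_Lpull_sgl f i (Coh.structureModule S)
    (FlatQuotL.isFinLocFree_structureModule S)
  exact ⟨(DCoh.Lpull f).mapIso e ≪≫ c ≪≫
    (singleFunctor X.Modules i).mapIso (PBH8.pullbackUnitIso f)⟩

/-! ### The key case: affine target -/

theorem key_affine {X S : Scheme.{u}} (f : X ⟶ S) [IsAffine S] [CompactSpace X]
    [QuasiSeparatedSpace X] {ι : Type u} (K : ι → DCoh.D X) (hK : ∀ i, DCoh.IsQCohD (K i))
    (P : DCoh.D X) (g : ∀ i, K i ⟶ P) (hc : IsColimit (Cofan.mk P g))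
    (P' : DCoh.D S) (g' : ∀ i, (DCoh.Rpush f).obj (K i) ⟶ P')
    (hc' : IsColimit (Cofan.mk P' g'))
    (m : P' ⟶ (DCoh.Rpush f).obj P) (hm : ∀ i, g' i ≫ m = (DCoh.Rpush f).map (g i)) :
    IsIso m := by
  classical
  obtain ⟨adj⟩ := DerAdjL.nonempty_adj f
  haveI : (DCoh.Rpush f).Additive := additive_of_adj adj
  have hgood := RpushQCL.good_of_qcqs f
  have hFK : ∀ i, DCoh.IsQCohD ((DCoh.Rpush f).obj (K i)) := fun i => hgood _ (hK i)
  have hP : DCoh.IsQCohD P := isQCohD_of_cofan K hK hc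
  have hP' : DCoh.IsQCohD P' := isQCohD_of_cofan _ hFK hc'
  have hFP : DCoh.IsQCohD ((DCoh.Rpush f).obj P) := hgood _ hP
  have hcompS : CompS S := compS_of_affine S
  have hcompX : CompS X := compS_of_qcqs X
  have hπ : ∀ l, m ≫ (DCoh.Rpush f).map (QcSect.π hc l) = QcSect.π hc' l := by
    intro l
    apply Cofan.IsColimit.hom_ext hc'
    intro k
    change g' k ≫ m ≫ (DCoh.Rpush f).map (QcSect.π hc l) = g' k ≫ QcSect.π hc' l
    rw [← Category.assoc, hm k, ← CategoryTheory.Functor.map_comp]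
    by_cases hkl : k = l
    · subst hkl
      rw [QcSect.inj_π_self, QcSect.inj_π_self, CategoryTheory.Functor.map_id]
    · rw [QcSect.inj_π_ne hc hkl, QcSect.inj_π_ne hc' hkl, Functor.map_zero]
  refine gen_of_affine S P' _ m hP' hFP ?_
  intro i E hE
  constructor
  · intro ψ₁ ψ₂ h12
    have h12' : ψ₁ ≫ m = ψ₂ ≫ m := h12
    have h0 : (ψ₁ - ψ₂) ≫ m = 0 := by rw [Preadditive.sub_comp, h12', sub_self]
    obtain ⟨s, hs⟩ := hcompS i E hE ι _ hFK P' g' hc' (ψ₁ - ψ₂)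
    have hz : (ψ₁ - ψ₂) ≫ QcSect.e hc' s = 0 := by
      unfold QcSect.e
      rw [Preadditive.comp_sum]
      refine Finset.sum_eq_zero (fun l _ => ?_)
      have h1 : (ψ₁ - ψ₂) ≫ QcSect.π hc' l = 0 := by
        rw [← hπ l, ← Category.assoc, h0, zero_comp]
      rw [← Category.assoc, h1, zero_comp]
    rw [hz] at hs
    exact sub_eq_zero.1 hs.symm
  · intro θ
    have hLE : CQ ((DCoh.Lpull f).obj E) := hcompX i _ (lpull_sgl_unit f i E hE)
    obtain ⟨s, hs⟩ := hLE ι K hK P g hc ((adj.homEquiv E P).symm θ)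
    have hθ : θ ≫ (DCoh.Rpush f).map (QcSect.e hc s) = θ := by
      have h5 := congrArg (adj.homEquiv E P) hs
      rw [Adjunction.homEquiv_naturality_right, Equiv.apply_symm_apply] at h5
      exact h5
    have hsum : (∑ l ∈ s, (DCoh.Rpush f).map (QcSect.π hc l) ≫ g' l) ≫ m =
        (DCoh.Rpush f).map (QcSect.e hc s) := by
      unfold QcSect.e
      rw [Preadditive.sum_comp, Functor.map_sum]
      refine Finset.sum_congr rfl (fun l _ => ?_)
      rw [Category.assoc, hm l, CategoryTheory.Functor.map_comp]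
    refine ⟨θ ≫ ∑ l ∈ s, (DCoh.Rpush f).map (QcSect.π hc l) ≫ g' l, ?_⟩
    show (θ ≫ ∑ l ∈ s, (DCoh.Rpush f).map (QcSect.π hc l) ≫ g' l) ≫ m = θ
    rw [Category.assoc, hsum, hθ]

/-! ### The general case -/

/-- **S1000** (cofan form) -/
theorem main1000 {X S : Scheme.{u}} (f : X ⟶ S) [QuasiCompact f] [QuasiSeparated f]
    {ι : Type u} (K : ι → DCoh.D X) (hK : ∀ i, DCoh.IsQCohD (K i))
    (P : DCoh.D X) (g : ∀ i, K i ⟶ P) (hc : IsColimit (Cofan.mk P g))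
    (P' : DCoh.D S) (g' : ∀ i, (DCoh.Rpush f).obj (K i) ⟶ P')
    (hc' : IsColimit (Cofan.mk P' g'))
    (m : P' ⟶ (DCoh.Rpush f).obj P) (hm : ∀ i, g' i ≫ m = (DCoh.Rpush f).map (g i)) :
    IsIso m := by
  have hcov : ∀ x : S, ∃ V : S.affineOpens, x ∈ V.1 := by
    intro x
    obtain ⟨V, hV, hxV, -⟩ :=
      Opens.isBasis_iff_nbhd.1 S.isBasis_affineOpens (Opens.mem_top x)
    exact ⟨⟨V, hV⟩, hxV⟩
  refine RpushConsL.isIso_of_cover m (fun V : S.affineOpens => V.1) hcov (fun V => ?_)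
  obtain ⟨e⟩ := BCOpenL.main6508 f V.1
  haveI : IsAffine (V.1 : Scheme.{u}) := V.2
  haveI : CompactSpace ((f ⁻¹ᵁ V.1 : X.Opens) : Scheme.{u}) :=
    QuasiCompact.compactSpace_of_compactSpace (f ∣_ V.1)
  haveI : QuasiSeparatedSpace ((f ⁻¹ᵁ V.1 : X.Opens) : Scheme.{u}) :=
    quasiSeparatedSpace_of_quasiSeparated (f ∣_ V.1)
  obtain ⟨adjV⟩ := HomVanL.nonempty_adj_DD V.1.ι
  obtain ⟨adjU⟩ := HomVanL.nonempty_adj_DD (f ⁻¹ᵁ V.1).ι
  obtain ⟨hcG'⟩ := nonempty_cofan_of_adj hc' adjV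
  obtain ⟨hcG⟩ := nonempty_cofan_of_adj hc adjU
  have hc2 := cofanPrecomp hcG' (fun i => (e.app (K i)).symm)
  have key : IsIso ((DD V.1.ι).map m ≫ e.hom.app P) := by
    refine key_affine (f ∣_ V.1) (fun i => (DD (f ⁻¹ᵁ V.1).ι).obj (K i))
      (fun i => LpullQCL.isQCohD_restrictD _ _ (hK i)) _ _ hcG _ _ hc2 _ ?_
    intro i
    have nat : (DD V.1.ι).map ((DCoh.Rpush f).map (g i)) ≫ e.hom.app P =
        e.hom.app (K i) ≫
          (DCoh.Rpush (f ∣_ V.1)).map ((DD (f ⁻¹ᵁ V.1).ι).map (g i)) :=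
      e.hom.naturality (g i)
    have h1 : (DD V.1.ι).map (g' i) ≫ (DD V.1.ι).map m =
        (DD V.1.ι).map ((DCoh.Rpush f).map (g i)) := by
      rw [← CategoryTheory.Functor.map_comp, hm i]
    have h2 : (e.inv.app (K i) ≫ (DD V.1.ι).map (g' i)) ≫ (DD V.1.ι).map m ≫ e.hom.app P =
        e.inv.app (K i) ≫ e.hom.app (K i) ≫
          (DCoh.Rpush (f ∣_ V.1)).map ((DD (f ⁻¹ᵁ V.1).ι).map (g i)) := by
      rw [Category.assoc, ← Category.assoc ((DD V.1.ι).map (g' i)), h1, nat]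
    rw [Iso.inv_hom_id_app_assoc] at h2
    exact h2
  haveI := key
  exact IsIso.of_isIso_comp_right ((DD V.1.ι).map m) (e.hom.app P)

end

end Groth.Agent.Lib.CompQL
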