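import Mathlib
import Groth.Prelude
import Groth.Agent.Lib.HomVan4_lead
import Groth.Agent.Lib.HomVan3_lead
import Groth.Agent.Lib.RpushCons_lead
import Groth.Agent.Lib.FlatQuot1_lead

/-!
# Explicit vanishing ranges on unions of basic opens; detecting `H^k = 0` on an affine scheme by maps
from finite locally free modules (lead; for S7252)

* `UVab T a b`: every finite locally free module on `T` has vanishing range `[a, b]`;
* `UVab_supB`: a union of `n + 1` basic opens of an affine open has `UVab (-n) 0`;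
* `isZero_HD_of_noHom_affine`: on an affine scheme, `H^k(L) = 0` for `L ∈ D_QCoh` as soon as there
  are no nonzero maps `F[-k] ⟶ L` from finite locally free `F`.

APPEND-ONLY once landed.
-/

set_option autoImplicit false
set_option linter.all false
set_option maxHeartbeats 1600000
set_option backward.isDefEq.respectTransparency false
set_option backward.isDefEq.respectTransparency.types false
set_option backward.defeqAttrib.useBackward true

universe u
open CategoryTheory CategoryTheory.Limits AlgebraicGeometry Opposite TopologicalSpace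
open DerivedCategory CategoryTheory.Pretriangulated
attribute [local instance] HasDerivedCategory.standard

namespace Groth.Agent.Lib.LocCohVanL

open Groth.Agent.Lib Groth.Agent.Lib.DCohLocLead Groth.Agent.Lib.PerfLocL Groth.Agent.Lib.HomVanL

attribute [local instance] hasLpullInst

/-- derived pushforwards exist -/
local instance hasRpushInst' {X Y : Scheme.{u}} (g : X ⟶ Y) : DCoh.HasRpush g :=
  BCOpenL.hasRpush g

/-! ### explicit uniform vanishing ranges -/

/-- all finite locally free modules on `T` have the vanishing range `[a, b]` -/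
def UVab (T : Scheme.{u}) (a b : ℤ) : Prop :=
  ∀ F : T.Modules, FlatMod.IsFinLocFree F → VR (sgl T 0 F) a b

theorem UVab.mono {T : Scheme.{u}} {a b a' b' : ℤ} (h : UVab T a b) (ha : a' ≤ a) (hb : b ≤ b') :
    UVab T a' b' := fun F hF => (h F hF).mono ha hb

theorem UVab_spec (R : CommRingCat.{u}) [PreservesFiniteLimits (tilde.functor R)] :
    UVab (Spec (CommRingCat.of R)) 0 0 := by
  intro F hF m K' hc L hL hz
  obtain ⟨c⟩ := hc
  refine NoHom.of_iso_left ?_ c.symm
  have h := noHom_sgl_flf R (-m) F hF L hL (hz (-m) (by omega) (by omega))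
  exact h.of_iso_left
    (((DerivedCategory.singleFunctors (Spec (CommRingCat.of R)).Modules).shiftIso m (-m) 0
      (by omega)).app F).symm

theorem UVab.of_iso {T₁ T₂ : Scheme.{u}} (α : T₁ ⟶ T₂) [IsIso α] {a b : ℤ} (h : UVab T₂ a b) :
    UVab T₁ a b := by
  intro F hF
  have hG : FlatMod.IsFinLocFree ((Scheme.Modules.restrictFunctor (inv α)).obj F) :=
    isFinLocFree_restrictFunctor (inv α) hF
  obtain ⟨c1⟩ := nonempty_DD_sgl α 0 ((Scheme.Modules.restrictFunctor (inv α)).obj F)
  let ε : Scheme.Modules.restrictFunctor (inv α) ⋙ Scheme.Modules.restrictFunctor α ≅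
      𝟭 T₁.Modules :=
    (Scheme.Modules.restrictFunctorComp α (inv α)).symm ≪≫
      Scheme.Modules.restrictFunctorCongr (IsIso.hom_inv_id α) ≪≫
      Scheme.Modules.restrictFunctorId (X := T₁)
  exact ((h _ hG).of_iso_scheme α).of_iso
    (c1 ≪≫ (singleFunctor T₁.Modules 0).mapIso (ε.app F))

theorem UVab.of_cover {T : Scheme.{u}} (U V : T.Opens) (hUV : U ⊔ V = ⊤) {a b : ℤ}
    (hU : UVab (U : Scheme.{u}) a b) (hV : UVab (V : Scheme.{u}) a b)
    (hI : UVab ((U ⊓ V : T.Opens) : Scheme.{u}) (a + 1) (b + 1)) : UVab T a b := by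
  intro F hF
  have key : ∀ (W : T.Opens) (a b : ℤ), UVab (W : Scheme.{u}) a b →
      VR ((DD W.ι).obj (sgl T 0 F)) a b := by
    intro W a b hW
    obtain ⟨c⟩ := nonempty_DD_sgl W.ι 0 F
    exact (hW _ (isFinLocFree_restrictFunctor W.ι hF)).of_iso c.symm
  exact VR.of_cover U V hUV (key U _ _ hU) (key V _ _ hV) (key (U ⊓ V) _ _ hI)

theorem UVab_sup {X : Scheme.{u}} (U V : X.Opens) {a b : ℤ} (hU : UVab (U : Scheme.{u}) a b)
    (hV : UVab (V : Scheme.{u}) a b)
    (hI : UVab ((U ⊓ V : X.Opens) : Scheme.{u}) (a + 1) (b + 1)) :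
    UVab ((U ⊔ V : X.Opens) : Scheme.{u}) a b := by
  let Wo : X.Opens := U ⊔ V
  let U' : (Wo : Scheme.{u}).Opens := Wo.ι ⁻¹ᵁ U
  let V' : (Wo : Scheme.{u}).Opens := Wo.ι ⁻¹ᵁ V
  have hcov : U' ⊔ V' = ⊤ := by
    rw [eq_top_iff]
    rintro x -
    have hx : (Wo.ι x) ∈ U ⊔ V := x.2
    rcases hx with hx | hx
    · exact Or.inl hx
    · exact Or.inr hx
  have rU := RpushQCL.range_eq_of Wo U U' le_sup_left (fun y => Iff.rfl)
  have rV := RpushQCL.range_eq_of Wo V V' le_sup_right (fun y => Iff.rfl)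
  have rI := RpushQCL.range_eq_of Wo (U ⊓ V) (U' ⊓ V') (inf_le_left.trans le_sup_left)
    (fun y => Iff.rfl)
  exact UVab.of_cover U' V' hcov
    (UVab.of_iso (IsOpenImmersion.isoOfRangeEq (U'.ι ≫ Wo.ι) U.ι rU).hom hU)
    (UVab.of_iso (IsOpenImmersion.isoOfRangeEq (V'.ι ≫ Wo.ι) V.ι rV).hom hV)
    (UVab.of_iso (IsOpenImmersion.isoOfRangeEq ((U' ⊓ V').ι ≫ Wo.ι) (U ⊓ V).ι rI).hom hI)

theorem UVab_affine {X : Scheme.{u}} (U : X.Opens) (hU : IsAffineOpen U) :
    UVab (U : Scheme.{u}) 0 0 := by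
  haveI : IsAffine (U : Scheme.{u}) := hU
  haveI := LpullQCL.preservesFiniteLimits_tilde Γ((U : Scheme.{u}), ⊤)
  exact UVab.of_iso (U : Scheme.{u}).isoSpec.hom (UVab_spec Γ((U : Scheme.{u}), ⊤))

theorem UVab_bot {X : Scheme.{u}} (a b : ℤ) : UVab ((⊥ : X.Opens) : Scheme.{u}) a b := by
  intro F hF m K' _ L _ _
  refine NoHom.of_isZero_right ?_
  apply MVPushL.isZero_of_forall_isZero_homology
  intro i
  exact isZero_of_isZero_restrict (DCoh.HD L i) (fun e : Empty => e.elim)
    (fun x => False.elim x.2) (fun e => e.elim)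

/-! ### unions of basic opens -/

/-- the union of the basic opens of a list of sections -/
def supB {X : Scheme.{u}} {V₀ : X.Opens} : List Γ(X, V₀) → X.Opens
  | [] => ⊥
  | f :: l => X.basicOpen f ⊔ supB l

theorem mem_supB {X : Scheme.{u}} {V₀ : X.Opens} (l : List Γ(X, V₀)) (y : X) :
    y ∈ supB l ↔ ∃ f ∈ l, y ∈ X.basicOpen f := by
  induction l with
  | nil =>
    constructor
    · intro h
      exact (h : y ∈ (⊥ : X.Opens)).elim
    · rintro ⟨f, hf, _⟩
      simp at hf
  | cons f l ih =>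
    constructor
    · intro h
      rcases (h : y ∈ X.basicOpen f ⊔ supB l) with h | h
      · exact ⟨f, List.mem_cons_self, h⟩
      · obtain ⟨g, hg, hy⟩ := ih.1 h
        exact ⟨g, List.mem_cons_of_mem _ hg, hy⟩
    · rintro ⟨g, hg, hy⟩
      rcases List.mem_cons.1 hg with rfl | hg
      · exact Or.inl hy
      · exact Or.inr (ih.2 ⟨g, hg, hy⟩)

theorem inf_supB {X : Scheme.{u}} {V₀ : X.Opens} (f : Γ(X, V₀)) (l : List Γ(X, V₀)) :
    X.basicOpen f ⊓ supB l = supB (l.map (fun g => f * g)) := by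
  induction l with
  | nil =>
    show X.basicOpen f ⊓ ⊥ = ⊥
    exact inf_bot_eq _
  | cons g l ih =>
    show X.basicOpen f ⊓ (X.basicOpen g ⊔ supB l) =
      X.basicOpen (f * g) ⊔ supB (l.map (fun g => f * g))
    rw [inf_sup_left, ih, Scheme.basicOpen_mul]

theorem isCompact_supB {X : Scheme.{u}} {V₀ : X.Opens} (hV₀ : IsAffineOpen V₀)
    (l : List Γ(X, V₀)) : IsCompact ((supB l : X.Opens) : Set X) := by
  induction l with
  | nil =>
    show IsCompact (((⊥ : X.Opens)) : Set X)
    simp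
  | cons f l ih =>
    show IsCompact (((X.basicOpen f ⊔ supB l : X.Opens)) : Set X)
    rw [Opens.coe_sup]
    exact (hV₀.basicOpen f).isCompact.union ih

theorem UVab_supB {X : Scheme.{u}} {V₀ : X.Opens} (hV₀ : IsAffineOpen V₀) :
    ∀ (n : ℕ) (l : List Γ(X, V₀)), l.length ≤ n + 1 →
      UVab ((supB l : X.Opens) : Scheme.{u}) (-(n : ℤ)) 0 := by
  intro n
  induction n with
  | zero =>
    intro l hl
    rcases l with _ | ⟨f, _ | ⟨g, l'⟩⟩
    · exact UVab_bot _ _
    · have h : supB [f] = X.basicOpen f := sup_bot_eq _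
      rw [h]
      simpa using UVab_affine _ (hV₀.basicOpen f)
    · simp at hl
  | succ n ih =>
    intro l hl
    rcases l with _ | ⟨f, l'⟩
    · exact UVab_bot _ _
    · have hl' : l'.length ≤ n + 1 := by simpa using hl
      show UVab ((X.basicOpen f ⊔ supB l' : X.Opens) : Scheme.{u}) (-((n + 1 : ℕ) : ℤ)) 0
      refine UVab_sup _ _ ?_ ?_ ?_
      · exact (UVab_affine _ (hV₀.basicOpen f)).mono (by push_cast; omega) le_rfl
      · exact (ih l' hl').mono (by push_cast; omega) le_rfl
      · rw [inf_supB]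
        exact (ih (l'.map (fun g => f * g)) (by simpa using hl')).mono (by push_cast; omega)
          (by norm_num)

/-- the form used below: a union of at most `c` basic opens -/
theorem UVab_supB' {X : Scheme.{u}} {V₀ : X.Opens} (hV₀ : IsAffineOpen V₀) (c : ℕ)
    (l : List Γ(X, V₀)) (hl : l.length ≤ c) :
    UVab ((supB l : X.Opens) : Scheme.{u}) (-(c : ℤ) + 1) 0 := by
  rcases c with _ | n
  · have : l = [] := List.length_eq_zero_iff.1 (Nat.le_zero.1 hl)
    subst this
    exact UVab_bot _ _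
  · exact (UVab_supB hV₀ n l hl).mono (by push_cast; omega) le_rfl

/-! ### detecting vanishing of cohomology on an affine scheme -/

section Conv

theorem boundary_of_isKProjective {A : Type (u + 1)} [Category.{u} A] [Abelian A]
    {P : A} (K : CochainComplex A ℤ)
    (hP : CochainComplex.IsKProjective
      ((HomologicalComplex.single A (ComplexShape.up ℤ) 0).obj P))
    (c : P ⟶ K.X 0) (hc : c ≫ K.d 0 1 = 0) (h : DSectL.thetaC K c hc = 0) :
    ∃ w : P ⟶ K.X (-1), w ≫ K.d (-1) 0 = c := by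
  haveI := hP
  have h0 : (HomotopyCategory.quotient A (ComplexShape.up ℤ)).map
      (HDSheaf_helper7.fromSingle c hc) = 0 := by
    apply (CochainComplex.IsKProjective.Qh_map_bijective
      ((HomologicalComplex.single A (ComplexShape.up ℤ) 0).obj P) _).1
    exact h.trans (Functor.map_zero DerivedCategory.Qh _ _).symm
  have h1 : (HomotopyCategory.quotient A (ComplexShape.up ℤ)).map
      (HDSheaf_helper7.fromSingle c hc) =
      (HomotopyCategory.quotient A (ComplexShape.up ℤ)).map 0 :=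
    h0.trans (Functor.map_zero _ _ _).symm
  exact DSectL.exists_boundary_of_homotopy c hc (HomotopyCategory.homotopyOfEq _ _ h1)

variable (R : CommRingCat.{u}) [PreservesFiniteLimits (tilde.functor R)]

theorem isZero_HD_zero_of_noHom (L : DCoh.D (Spec (CommRingCat.of R))) (hL : DCoh.IsQCohD L)
    (h : NoHom ((singleFunctor (Spec (CommRingCat.of R)).Modules 0).obj
      (Coh.structureModule (Spec (CommRingCat.of R)))) L) : IsZero (DCoh.HD L 0) := by
  obtain ⟨hfull, hfaith, hess⟩ := DSectX.main0997 R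
  obtain ⟨N, ⟨e⟩⟩ := (hess L).1 hL
  obtain ⟨c0⟩ := nonempty_homology_mapExact_iso (tilde.functor R) N 0
  suffices hN : IsZero ((homologyFunctor (ModuleCat.{u} R) 0).obj N) by
    exact (((tilde.functor R).map_isZero hN).of_iso c0).of_iso
      ((homologyFunctor _ 0).mapIso e.symm)
  let N' : CochainComplex (ModuleCat.{u} R) ℤ := Q.objPreimage N
  let eN : Q.obj N' ≅ N := Q.objObjPreimageIso N
  haveI : Projective (ModuleCat.of R R) := inferInstance
  have hKP := DMod_helper6.isKProjective_single (ModuleCat.of R R) 0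
  let cO : (singleFunctor (Spec (CommRingCat.of R)).Modules 0).obj
      (Coh.structureModule (Spec (CommRingCat.of R))) ≅
      (DCoh.tildeD R).obj ((singleFunctor (ModuleCat.{u} R) 0).obj (ModuleCat.of R R)) :=
    (((tilde.functor R).mapDerivedCategorySingleFunctor 0).app (ModuleCat.of R R)).symm
  have hex : N'.ExactAt 0 := by
    rw [N'.exactAt_iff' (-1) 0 1 (by simp) (by simp), ShortComplex.moduleCat_exact_iff]
    intro x hx
    let c : ModuleCat.of R R ⟶ N'.X 0 :=
      ModuleCat.ofHom (LinearMap.toSpanSingleton R (N'.X 0) x)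
    have hc : c ≫ N'.d 0 1 = 0 := by
      apply ModuleCat.hom_ext
      apply LinearMap.ext_ring
      show (N'.d 0 1).hom ((LinearMap.toSpanSingleton R (N'.X 0) x) 1) = 0
      rw [LinearMap.toSpanSingleton_apply, one_smul]
      exact hx
    have h2 := h (cO.hom ≫ (DCoh.tildeD R).map (DSectL.thetaC N' c hc ≫ eN.hom) ≫ e.hom)
    have h1 : (DCoh.tildeD R).map (DSectL.thetaC N' c hc ≫ eN.hom) =
        cO.inv ≫ (cO.hom ≫ (DCoh.tildeD R).map (DSectL.thetaC N' c hc ≫ eN.hom) ≫ e.hom) ≫
          e.inv := by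
      simp
    rw [h2, zero_comp, comp_zero] at h1
    haveI := hfaith
    have h3 : DSectL.thetaC N' c hc ≫ eN.hom = 0 :=
      (DCoh.tildeD R).map_injective (h1.trans (Functor.map_zero _ _ _).symm)
    have h4 : DSectL.thetaC N' c hc = 0 := by
      rw [← cancel_mono eN.hom, h3, zero_comp]
    obtain ⟨w, hw⟩ := boundary_of_isKProjective N' hKP c hc h4
    refine ⟨w.hom 1, ?_⟩
    have h5 := congrArg (fun t : ModuleCat.of R R ⟶ N'.X 0 => t.hom (1 : R)) hw
    simp only [c] at h5
    show (N'.d (-1) 0).hom (w.hom 1) = x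
    have h6 : (ModuleCat.ofHom (LinearMap.toSpanSingleton R (N'.X 0) x)).hom (1 : R) = x := by
      show (LinearMap.toSpanSingleton R (N'.X 0) x) 1 = x
      rw [LinearMap.toSpanSingleton_apply, one_smul]
    exact h5.trans h6
  exact (hex.isZero_homology.of_iso ((homologyFunctorFactors _ 0).app N')).of_iso
    ((homologyFunctor _ 0).mapIso eN.symm)

theorem isZero_HD_of_noHom_spec (L : DCoh.D (Spec (CommRingCat.of R))) (hL : DCoh.IsQCohD L)
    (k : ℤ) (h : NoHom ((singleFunctor (Spec (CommRingCat.of R)).Modules k).obj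
      (Coh.structureModule (Spec (CommRingCat.of R)))) L) : IsZero (DCoh.HD L k) := by
  have h0 : IsZero (DCoh.HD (L⟦k⟧) 0) := by
    apply isZero_HD_zero_of_noHom R (L⟦k⟧) (isQCohD_shift L hL k)
    refine NoHom.shift_right k (-k) (by omega) ?_
    exact h.of_iso_left
      (((DerivedCategory.singleFunctors (Spec (CommRingCat.of R)).Modules).shiftIso (-k) k 0
        (by omega)).app _).symm
  have h1 : IsZero (DCoh.HD ((L⟦k⟧)⟦-k⟧) k) :=
    isZero_HD_shift (L⟦k⟧) (-k) k (by rw [neg_add_cancel]; exact h0)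
  exact h1.of_iso ((DerivedCategory.homologyFunctor _ k).mapIso
    ((shiftFunctorCompIsoId (DCoh.D (Spec (CommRingCat.of R))) k (-k) (by omega)).app L).symm)

end Conv

theorem isZero_HD_of_noHom_affine (T : Scheme.{u}) [IsAffine T] (L : DCoh.D T)
    (hL : DCoh.IsQCohD L) (k : ℤ)
    (h : ∀ F : T.Modules, FlatMod.IsFinLocFree F → NoHom (sgl T k F) L) :
    IsZero (DCoh.HD L k) := by
  haveI := LpullQCL.preservesFiniteLimits_tilde Γ(T, ⊤)
  obtain ⟨adj⟩ := nonempty_adj_DD T.isoSpec.hom
  obtain ⟨ρ⟩ := RpushQCL.nonempty_Rpush_iso_restrictD T.isoSpec.hom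
  have hL₁ : DCoh.IsQCohD ((DD (inv T.isoSpec.hom)).obj L) :=
    LpullQCL.isQCohD_restrictD (inv T.isoSpec.hom) L hL
  have hno : NoHom ((singleFunctor (Spec (CommRingCat.of Γ(T, ⊤))).Modules k).obj
      (Coh.structureModule (Spec (CommRingCat.of Γ(T, ⊤))))) ((DD (inv T.isoSpec.hom)).obj L) := by
    refine NoHom.of_iso_right ?_ (ρ.app L)
    refine NoHom.of_adj adj ?_
    obtain ⟨c⟩ := nonempty_DD_sgl T.isoSpec.hom k
      (Coh.structureModule (Spec (CommRingCat.of Γ(T, ⊤))))
    refine NoHom.of_iso_left ?_ c.symm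
    exact h _ (isFinLocFree_restrictFunctor T.isoSpec.hom
      (FlatQuotL.isFinLocFree_structureModule _))
  have hz := isZero_HD_of_noHom_spec Γ(T, ⊤) _ hL₁ k hno
  obtain ⟨e⟩ := nonempty_HD_restrict_iso (inv T.isoSpec.hom) L k
  exact RpushConsL.isZero_of_isZero_restrict_iso (inv T.isoSpec.hom) _ (hz.of_iso e.symm)

end Groth.Agent.Lib.LocCohVanL
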