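import Mathlib
import Groth.Prelude
import Groth.Agent.Lib.LocCohVan1_lead
import Groth.Agent.Lib.RGammaZ_lead
import Groth.Agent.Lib.RDPlusSingle_helper9

/-!
# Local cohomology vanishes above the number of local equations (lead; S7252)

APPEND-ONLY once landed.
-/

set_option autoImplicit false
set_option linter.all false
set_option maxHeartbeats 1600000
set_option backward.isDefEq.respectTransparency false
set_option backward.isDefEq.respectTransparency.types false
set_option backward.defeqAttrib.useBackward true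

universe u
open CategoryTheory CategoryTheory.Limits AlgebraicGeometry Opposite TopologicalSpace
open DerivedCategory CategoryTheory.Pretriangulated
attribute [local instance] HasDerivedCategory.standard

namespace Groth.Agent.Lib.LocCohVanL

open Groth.Agent.Lib Groth.Agent.Lib.DCohLocLead Groth.Agent.Lib.PerfLocL Groth.Agent.Lib.HomVanL
  Groth.Agent.Lib.RGammaZL Groth.Agent.Lib.MVPushL Groth.Agent.Lib.StalkSkyL

attribute [local instance] hasLpullInst

/-- derived pushforwards exist -/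
local instance hasRpushInst'' {X Y : Scheme.{u}} (g : X ⟶ Y) : DCoh.HasRpush g :=
  BCOpenL.hasRpush g

section Generic

variable {C : Type*} [Category C] [Abelian C] {D : Type*} [Category D] [Abelian D]
  (F : C ⥤ D) [F.Additive]

/-- the homology of `F` applied to the `ℤ`-indexed injective resolution -/
noncomputable def homologyExtendIso' {X : C} (I : InjectiveResolution X) (n : ℕ) :
    ((F.mapHomologicalComplex (ComplexShape.up ℤ)).obj I.cochainComplex).homology (n : ℤ) ≅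
      ((F.mapHomologicalComplex (ComplexShape.up ℕ)).obj I.cocomplex).homology n :=
  (HomologicalComplex.homologyFunctor D (ComplexShape.up ℤ) (n : ℤ)).mapIso
      (RDPlusSingle.extendMapIso ComplexShape.embeddingUpNat F I.cocomplex) ≪≫
    HomologicalComplex.extendHomologyIso _ ComplexShape.embeddingUpNat (by simp)

end Generic

theorem exists_local_shape {X : Scheme.{u}} (U : X.Opens) (c : ℕ)
    (hT : ∀ x : X, ∃ (V : X.Opens) (fs : Finset Γ(X, V)), x ∈ V ∧ fs.card ≤ c ∧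
      X.zeroLocus (U := V) (↑fs : Set Γ(X, V)) ∩ (V : Set ↥X) = (U : Set ↥X)ᶜ ∩ (V : Set ↥X))
    (x : X) :
    ∃ (V₀ : X.Opens) (l : List Γ(X, V₀)), x ∈ V₀ ∧ IsAffineOpen V₀ ∧ l.length ≤ c ∧
      U ⊓ V₀ = supB l := by
  classical
  obtain ⟨V, fs, hxV, hcard, hzl⟩ := hT x
  obtain ⟨V₀, hV₀, hxV₀, hV₀V⟩ := Opens.isBasis_iff_nbhd.mp X.isBasis_affineOpens hxV
  refine ⟨V₀, fs.toList.map (fun f => X.presheaf.map (homOfLE hV₀V).op f), hxV₀, hV₀, ?_, ?_⟩
  · rw [List.length_map, Finset.length_toList]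
    exact hcard
  · have key : ∀ y : X, y ∈ V → (y ∈ U ↔ ∃ f ∈ fs, y ∈ X.basicOpen f) := by
      intro y hyV
      have h1 : y ∈ X.zeroLocus (U := V) (↑fs : Set Γ(X, V)) ↔ y ∉ U := by
        constructor
        · intro hz
          have h2 : y ∈ (U : Set X)ᶜ ∩ (V : Set X) :=
            hzl ▸ (⟨hz, hyV⟩ : y ∈ X.zeroLocus (U := V) (↑fs : Set Γ(X, V)) ∩ (V : Set X))
          exact h2.1
        · intro hyU
          have h2 : y ∈ X.zeroLocus (U := V) (↑fs : Set Γ(X, V)) ∩ (V : Set X) :=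
            hzl.symm ▸ (⟨hyU, hyV⟩ : y ∈ (U : Set X)ᶜ ∩ (V : Set X))
          exact h2.1
      rw [Scheme.mem_zeroLocus_iff] at h1
      constructor
      · intro hyU
        by_contra hne
        push_neg at hne
        exact (h1.1 (fun f hf => hne f (Finset.mem_coe.1 hf))) hyU
      · rintro ⟨f, hf, hyf⟩
        by_contra hyU
        exact (h1.2 hyU) f (Finset.mem_coe.2 hf) hyf
    apply le_antisymm
    · intro y hy
      obtain ⟨f, hf, hyf⟩ := (key y (hV₀V hy.2)).1 hy.1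
      refine (mem_supB _ y).2 ⟨X.presheaf.map (homOfLE hV₀V).op f,
        List.mem_map.2 ⟨f, Finset.mem_toList.2 hf, rfl⟩, ?_⟩
      rw [Scheme.basicOpen_res]
      exact ⟨hy.2, hyf⟩
    · intro y hy
      obtain ⟨g, hg, hyg⟩ := (mem_supB _ y).1 hy
      obtain ⟨f, hf, rfl⟩ := List.mem_map.1 hg
      rw [Scheme.basicOpen_res] at hyg
      exact ⟨(key y (hV₀V hyg.1)).2 ⟨f, Finset.mem_toList.1 hf, hyg.2⟩, hyg.1⟩

theorem isZero_restrict_HD_Rpush {X : Scheme.{u}} (U V₀ : X.Opens) (hV₀ : IsAffineOpen V₀)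
    (l : List Γ(X, V₀)) (c : ℕ) (hlen : l.length ≤ c) (hUl : U ⊓ V₀ = supB l)
    (E : DCoh.D X) (hE : DCoh.IsQCohD E) (hE0 : ∀ m : ℤ, m ≠ 0 → IsZero (DCoh.HD E m))
    (k : ℤ) (hk : (c : ℤ) ≤ k) :
    IsZero ((Scheme.Modules.restrictFunctor V₀.ι).obj
      (DCoh.HD ((DCoh.Rpush U.ι).obj ((DD U.ι).obj E)) k)) := by
  haveI : IsAffine (V₀ : Scheme.{u}) := hV₀
  let U' : (U : Scheme.{u}).Opens := U.ι ⁻¹ᵁ V₀
  have hle : supB l ≤ U := by
    rw [← hUl]
    exact inf_le_left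
  have hmem : ∀ y : (U : Scheme.{u}), y ∈ U' ↔ (U.ι y) ∈ supB l := by
    intro y
    rw [← hUl]
    exact ⟨fun hy => ⟨y.2, hy⟩, fun hy => hy.2⟩
  have r := RpushQCL.range_eq_of U (supB l) U' hle hmem
  let eS := IsOpenImmersion.isoOfRangeEq (U'.ι ≫ U.ι) (supB l).ι r
  haveI : CompactSpace ↥((supB l : X.Opens) : Scheme.{u}) :=
    isCompact_iff_compactSpace.mp (isCompact_supB hV₀ l)
  haveI : CompactSpace ↥((U' : (U : Scheme.{u}).Opens) : Scheme.{u}) :=
    (Scheme.homeoOfIso eS.symm).compactSpace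
  haveI : QuasiCompact (U.ι ∣_ V₀) := (quasiCompact_iff_compactSpace _).mpr inferInstance
  have hUV : UVab ((U' : (U : Scheme.{u}).Opens) : Scheme.{u}) (-(c : ℤ) + 1) 0 :=
    UVab.of_iso eS.hom (UVab_supB' hV₀ c l hlen)
  let G : DCoh.D (U : Scheme.{u}) := (DD U.ι).obj E
  let G' : DCoh.D ((U' : (U : Scheme.{u}).Opens) : Scheme.{u}) := (DD U'.ι).obj G
  have hG' : DCoh.IsQCohD G' :=
    LpullQCL.isQCohD_restrictD U'.ι G (LpullQCL.isQCohD_restrictD U.ι E hE)
  have hG'0 : ∀ m : ℤ, m ≠ 0 → IsZero (DCoh.HD G' m) := fun m hm =>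
    isZero_HD_DD U'.ι G m (isZero_HD_DD U.ι E m (hE0 m hm))
  obtain ⟨bc⟩ := BCOpenL.main6508 U.ι V₀
  obtain ⟨e1⟩ := nonempty_HD_restrict_iso V₀.ι ((DCoh.Rpush U.ι).obj G) k
  refine IsZero.of_iso ?_ e1.symm
  refine IsZero.of_iso ?_ ((DerivedCategory.homologyFunctor _ k).mapIso (bc.app G))
  show IsZero (DCoh.HD ((DCoh.Rpush (U.ι ∣_ V₀)).obj G') k)
  have hLq : DCoh.IsQCohD ((DCoh.Rpush (U.ι ∣_ V₀)).obj G') :=
    RpushQCL.main0998 (U.ι ∣_ V₀) G' hG'
  apply isZero_HD_of_noHom_affine (V₀ : Scheme.{u}) _ hLq k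
  intro F' hF'
  obtain ⟨adj⟩ := nonempty_adj_DD (U.ι ∣_ V₀)
  refine NoHom.of_adj adj ?_
  obtain ⟨cs⟩ := nonempty_DD_sgl (U.ι ∣_ V₀) k F'
  refine NoHom.of_iso_left ?_ cs.symm
  have hF'' := isFinLocFree_restrictFunctor (U.ι ∣_ V₀) hF'
  refine hUV _ hF'' (-k) _ ⟨?_⟩ G' hG' ?_
  · exact (((DerivedCategory.singleFunctors _).shiftIso (-k) k 0 (by omega)).app _).symm
  · intro i h1 h2
    exact hG'0 i (by omega)

theorem isZero_homology_GCx {X : Scheme.{u}} (U : X.Opens) (c : ℕ)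
    (hloc : ∀ x : X, ∃ (V₀ : X.Opens) (l : List Γ(X, V₀)), x ∈ V₀ ∧ IsAffineOpen V₀ ∧
      l.length ≤ c ∧ U ⊓ V₀ = supB l)
    (J : CochainComplex X.Modules ℤ) (hJinj : ∀ n, Injective (J.X n)) [J.IsStrictlyGE 0]
    (hJq : DCoh.IsQCohD (DerivedCategory.Q.obj J)) (hJ0 : ∀ m : ℤ, m ≠ 0 → J.ExactAt m)
    (i : ℤ) (hi : (c : ℤ) < i) : IsZero (((GCx U).obj J).homology i) := by
  classical
  choose V₀ l hxV₀ hV₀ hlen hUl using hloc
  haveI : ∀ n, Injective (J.X n) := hJinj
  haveI : J.IsKInjective := CochainComplex.isKInjective_of_injective J 0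
  have hS := shortExact_gzSCx U J hJinj
  have hE0 : ∀ m : ℤ, m ≠ 0 → IsZero (DCoh.HD (DerivedCategory.Q.obj J) m) := fun m hm =>
    ((hJ0 m hm).isZero_homology).of_iso ((DerivedCategory.homologyFunctorFactors _ m).app J)
  have hex := hS.homology_exact₁ (i - 1) i (by simp)
  refine hex.isZero_X₂ ?_ ?_
  · apply IsZero.eq_of_src
    show IsZero ((BCx U J).homology (i - 1))
    have eB := iB U J (DerivedCategory.Q.obj J) (Iso.refl _)
    refine IsZero.of_iso ?_
      ((DerivedCategory.homologyFunctorFactors X.Modules (i - 1)).app (BCx U J)).symm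
    refine IsZero.of_iso ?_ ((DerivedCategory.homologyFunctor X.Modules (i - 1)).mapIso eB.symm)
    refine isZero_of_isZero_restrict _ V₀ (fun x => ⟨x, hxV₀ x⟩) (fun x => ?_)
    exact isZero_restrict_HD_Rpush U (V₀ x) (hV₀ x) (l x) c (hlen x) (hUl x)
      (DerivedCategory.Q.obj J) hJq hE0 (i - 1) (by omega)
  · apply IsZero.eq_of_tgt
    show IsZero (J.homology i)
    exact (hJ0 i (by omega)).isZero_homology

/-- **S7252** -/
theorem main7252 {X : Scheme.{u}} (U : X.Opens) [HasInjectiveResolutions X.Modules]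
    (c : ℕ) (hT : ∀ x : X, ∃ (V : X.Opens) (fs : Finset Γ(X, V)), x ∈ V ∧ fs.card ≤ c ∧
      X.zeroLocus (U := V) (↑fs : Set Γ(X, V)) ∩ (V : Set ↥X) = (U : Set ↥X)ᶜ ∩ (V : Set ↥X))
    (F : X.Modules) (hF : Coh.IsQCoh F) (i : ℕ) (hi : c < i) :
    IsZero (((DCoh.gammaZ U.ι).rightDerived i).obj F) := by
  let I := injectiveResolution F
  have e1 := I.isoRightDerivedObj (DCoh.gammaZ U.ι) i
  have e2 := homologyExtendIso' (DCoh.gammaZ U.ι) I i
  refine IsZero.of_iso ?_ (e1 ≪≫ e2.symm)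
  have hJ0 : ∀ m : ℤ, m ≠ 0 → I.cochainComplex.ExactAt m := by
    intro m hm
    rcases lt_or_gt_of_ne hm with h | h
    · exact I.cochainComplex.exactAt_of_isGE 0 m h
    · exact I.cochainComplex.exactAt_of_isLE 0 m h
  refine isZero_homology_GCx U c (exists_local_shape U c hT) I.cochainComplex
    (fun n => inferInstance) ?_ hJ0 (i : ℤ) (by exact_mod_cast hi)
  intro m
  rcases eq_or_ne m 0 with rfl | hm
  · haveI : QuasiIsoAt I.ι' 0 := inferInstance
    haveI : IsIso (HomologicalComplex.homologyMap I.ι' 0) :=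
      (quasiIsoAt_iff_isIso_homologyMap I.ι' 0).1 inferInstance
    let a : DCoh.HD (DerivedCategory.Q.obj I.cochainComplex) 0 ≅ F :=
      (DerivedCategory.homologyFunctorFactors X.Modules 0).app I.cochainComplex ≪≫
        (asIso (HomologicalComplex.homologyMap I.ι' 0)).symm ≪≫
        HomologicalComplex.singleObjHomologySelfIso (ComplexShape.up ℤ) 0 F
    exact (SheafOfModules.isQuasicoherent X.ringCatSheaf).prop_of_iso a.symm hF
  · have hz : IsZero (DCoh.HD (DerivedCategory.Q.obj I.cochainComplex) m) :=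
      ((hJ0 m hm).isZero_homology).of_iso
        ((DerivedCategory.homologyFunctorFactors _ m).app I.cochainComplex)
    exact isQCoh_of_isZero F hF _ hz

end Groth.Agent.Lib.LocCohVanL
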