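import Mathlib
import Groth.Prelude
import Groth.Agent.Lib.LocCohVan2_lead

/-!
# Local cohomology sheaves of quasi-coherent modules are quasi-coherent (lead; S6030)

The statements of `RGammaZ_lead` for a general open immersion `j : U ⟶ Y`.

APPEND-ONLY once landed.
-/

set_option autoImplicit false
set_option linter.all false
set_option maxHeartbeats 1600000
set_option backward.isDefEq.respectTransparency false
set_option backward.isDefEq.respectTransparency.types false
set_option backward.defeqAttrib.useBackward true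

universe u
open CategoryTheory CategoryTheory.Limits AlgebraicGeometry Opposite TopologicalSpace
open DerivedCategory CategoryTheory.Pretriangulated
attribute [local instance] HasDerivedCategory.standard

namespace Groth.Agent.Lib.RGammaZL

open Groth.Agent.Lib Groth.Agent.Lib.DCohLocLead Groth.Agent.Lib.StalkSkyL Groth.Agent.Lib.MVPushL
  Groth.Agent.Lib.HomVanL

noncomputable section

section GenJ

variable {U Y : Scheme.{u}} (j : U ⟶ Y) [IsOpenImmersion j]

theorem mono_counit_extZero (M : Y.Modules) : Mono ((CxOX.extZeroAdj j).counit.app M) := by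
  apply mono_of_forall_stalk_mono
  intro x
  by_cases hx : x ∈ Set.range j.base
  · obtain ⟨y, rfl⟩ := hx
    haveI := isIso_stalk_counit j M y
    infer_instance
  · have hz : IsZero ((DerSch.stalkFunctor Y x).obj
        ((CxOX.extZero j).obj ((Scheme.Modules.restrictFunctor j).obj M))) := by
      haveI : Subsingleton ↑((DerSch.stalkFunctor Y x).obj
          ((CxOX.extZero j).obj ((Scheme.Modules.restrictFunctor j).obj M))) :=
        subsingleton_stalk_extZero j ((Scheme.Modules.restrictFunctor j).obj M) x hx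
      exact ModuleCat.isZero_of_subsingleton _
    exact ⟨fun a b _ => hz.eq_of_tgt a b⟩

theorem epi_unit_of_injective_gen (J : Y.Modules) [Injective J] :
    Epi ((Scheme.Modules.restrictAdjunction j).unit.app J) :=
  epi_unit_abstract (CxOX.extZeroAdj j) (Scheme.Modules.restrictAdjunction j) J
    (mono_counit_extZero j _)

/-- `Γ_Z` on complexes -/
abbrev GCxJ : CochainComplex Y.Modules ℤ ⥤ CochainComplex Y.Modules ℤ :=
  (DCoh.gammaZ j).mapHomologicalComplex (ComplexShape.up ℤ)

/-- `j^*` on complexes -/
abbrev RCxJ : CochainComplex Y.Modules ℤ ⥤ CochainComplex U.Modules ℤ :=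
  (Scheme.Modules.restrictFunctor j).mapHomologicalComplex (ComplexShape.up ℤ)

/-- `j_* j^* I` -/
abbrev BCxJ (I : CochainComplex Y.Modules ℤ) : CochainComplex Y.Modules ℤ :=
  ((Scheme.Modules.pushforward j).mapHomologicalComplex (ComplexShape.up ℤ)).obj
    ((RCxJ j).obj I)

/-- `Γ_Z(I) ⟶ I` -/
def gamCxJ (I : CochainComplex Y.Modules ℤ) : (GCxJ j).obj I ⟶ I where
  f i := (CxOX.gammaZι j).app (I.X i)
  comm' i k _ := ((CxOX.gammaZι j).naturality (I.d i k)).symm

/-- `I ⟶ j_* j^* I` -/
def unitCxJ (I : CochainComplex Y.Modules ℤ) : I ⟶ BCxJ j I where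
  f i := (Scheme.Modules.restrictAdjunction j).unit.app (I.X i)
  comm' i k _ := ((Scheme.Modules.restrictAdjunction j).unit.naturality (I.d i k)).symm

/-- `Γ_Z(I) → I → j_* j^* I` -/
def gzSCxJ (I : CochainComplex Y.Modules ℤ) : ShortComplex (CochainComplex Y.Modules ℤ) :=
  ShortComplex.mk (gamCxJ j I) (unitCxJ j I) (by
    refine HomologicalComplex.hom_ext _ _ (fun i => ?_)
    show (CxOX.gammaZι j).app (I.X i) ≫
      (Scheme.Modules.restrictAdjunction j).unit.app (I.X i) = 0
    exact kernel.condition ((Scheme.Modules.restrictAdjunction j).unit.app (I.X i)))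

theorem shortExact_gzSCxJ (I : CochainComplex Y.Modules ℤ) (hI : ∀ n, Injective (I.X n)) :
    (gzSCxJ j I).ShortExact := by
  apply HomologicalComplex.shortExact_of_degreewise_shortExact
  intro i
  haveI := hI i
  haveI hm : Mono ((gzSCxJ j I).map
      (HomologicalComplex.eval Y.Modules (ComplexShape.up ℤ) i)).f := by
    show Mono (kernel.ι ((Scheme.Modules.restrictAdjunction j).unit.app (I.X i)))
    infer_instance
  haveI he : Epi ((gzSCxJ j I).map
      (HomologicalComplex.eval Y.Modules (ComplexShape.up ℤ) i)).g := by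
    show Epi ((Scheme.Modules.restrictAdjunction j).unit.app (I.X i))
    exact epi_unit_of_injective_gen j (I.X i)
  refine ShortComplex.ShortExact.mk' ?_ hm he
  exact ShortComplex.exact_of_f_is_kernel _
    (kernelIsKernel ((Scheme.Modules.restrictAdjunction j).unit.app (I.X i)))

theorem isQCohD_Q_gamJ [QuasiCompact j] (I : CochainComplex Y.Modules ℤ)
    (hI : ∀ n, Injective (I.X n)) [I.IsKInjective]
    (hq : DCoh.IsQCohD (DerivedCategory.Q.obj I)) :
    DCoh.IsQCohD (DerivedCategory.Q.obj ((GCxJ j).obj I)) := by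
  haveI := BCOpenL.hasRpush j
  haveI := grothendieck_modules U
  haveI : CochainComplex.IsKInjective ((RCxJ j).obj I) :=
    isKInjective_map_of_adjunction (CxOX.extZeroAdj j) I
  have hS := shortExact_gzSCxJ j I hI
  have hT := DerivedCategory.triangleOfSES_distinguished hS
  have e : (DCoh.Rpush j).obj ((DCoh.restrictD j).obj (DerivedCategory.Q.obj I)) ≅
      DerivedCategory.Q.obj (BCxJ j I) :=
    (DCoh.Rpush j).mapIso
        ((Scheme.Modules.restrictFunctor j).mapDerivedCategoryFactors.app I) ≪≫
      (Groth.Agent.Lib.RDerGE.unitIso (Scheme.Modules.pushforward j) ((RCxJ j).obj I)).symm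
  have h1 : DCoh.IsQCohD ((DCoh.restrictD j).obj (DerivedCategory.Q.obj I)) :=
    LpullQCL.isQCohD_restrictD j _ hq
  have h2 := RpushQCL.main0998 j _ h1
  have h3 : DCoh.IsQCohD (DerivedCategory.Q.obj (BCxJ j I)) := isQCohD_of_iso' e h2
  exact RpushQCL.isQCohD_obj₁ (DerivedCategory.triangleOfSES hS) hT hq h3

end GenJ

theorem exactAt_injRes {Y : Scheme.{u}} {F : Y.Modules} (I : InjectiveResolution F)
    (m : ℤ) (hm : m ≠ 0) : I.cochainComplex.ExactAt m := by
  rcases lt_or_gt_of_ne hm with h | h
  · exact I.cochainComplex.exactAt_of_isGE 0 m h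
  · exact I.cochainComplex.exactAt_of_isLE 0 m h

theorem isQCohD_Q_injRes {Y : Scheme.{u}} (F : Y.Modules) (hF : Coh.IsQCoh F)
    (I : InjectiveResolution F) : DCoh.IsQCohD (DerivedCategory.Q.obj I.cochainComplex) := by
  intro m
  rcases eq_or_ne m 0 with rfl | hm
  · haveI : QuasiIsoAt I.ι' 0 := inferInstance
    haveI : IsIso (HomologicalComplex.homologyMap I.ι' 0) :=
      (quasiIsoAt_iff_isIso_homologyMap I.ι' 0).1 inferInstance
    let a : DCoh.HD (DerivedCategory.Q.obj I.cochainComplex) 0 ≅ F :=
      (DerivedCategory.homologyFunctorFactors Y.Modules 0).app I.cochainComplex ≪≫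
        (asIso (HomologicalComplex.homologyMap I.ι' 0)).symm ≪≫
        HomologicalComplex.singleObjHomologySelfIso (ComplexShape.up ℤ) 0 F
    exact (SheafOfModules.isQuasicoherent Y.ringCatSheaf).prop_of_iso a.symm hF
  · have hz : IsZero (DCoh.HD (DerivedCategory.Q.obj I.cochainComplex) m) :=
      ((exactAt_injRes I m hm).isZero_homology).of_iso
        ((DerivedCategory.homologyFunctorFactors _ m).app I.cochainComplex)
    exact isQCoh_of_isZero F hF _ hz

/-- **S6030** -/
theorem main6030 {U Y : Scheme.{u}} (j : U ⟶ Y) [IsOpenImmersion j] [QuasiCompact j]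
    [HasInjectiveResolutions Y.Modules] (M : Y.Modules) (hM : Coh.IsQCoh M) (q : ℕ) :
    Coh.IsQCoh ((LocCohZ.HZshM j q).obj M) := by
  let I := injectiveResolution M
  have e1 := I.isoRightDerivedObj (DCoh.gammaZ j) q
  have e2 := LocCohVanL.homologyExtendIso' (DCoh.gammaZ j) I q
  have hJq := isQCohD_Q_injRes M hM I
  haveI : I.cochainComplex.IsKInjective := CochainComplex.isKInjective_of_injective _ 0
  have hG := isQCohD_Q_gamJ j I.cochainComplex (fun n => inferInstance) hJq
  have e3 := (DerivedCategory.homologyFunctorFactors Y.Modules (q : ℤ)).app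
    ((GCxJ j).obj I.cochainComplex)
  exact (SheafOfModules.isQuasicoherent Y.ringCatSheaf).prop_of_iso
    (e3 ≪≫ e2 ≪≫ e1.symm) (hG q)

end

end Groth.Agent.Lib.RGammaZL
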