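import Mathlib
import Groth.Prelude
import Groth.Agent.Lib.CompQ2_lead
import Groth.Agent.Lib.RGammaZ2_lead
import Groth.Agent.Lib.RGammaZ5_lead
import Groth.Agent.S6593

/-!
# `RΓ_Z` commutes with direct sums on `D_QCoh` (lead)
-/

set_option autoImplicit false
set_option linter.all false
set_option maxHeartbeats 1600000
set_option backward.isDefEq.respectTransparency false
set_option backward.isDefEq.respectTransparency.types false
set_option backward.defeqAttrib.useBackward true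

universe u

open CategoryTheory CategoryTheory.Limits AlgebraicGeometry TopologicalSpace Opposite
open DerivedCategory CategoryTheory.Pretriangulated

attribute [local instance] HasDerivedCategory.standard

namespace Groth.Agent.Lib.CompQL

open Groth.Agent.Lib Groth.Agent.Lib.DCohLocLead Groth.Agent.Lib.PerfLocL

noncomputable section

attribute [local instance] rpushI lpullI

/-! ### Abstract nonsense -/

section Abstract

variable {A : Type*} [Category A] {ι : Type*} {F : ι → A} {X : A} {inj : ∀ l, F l ⟶ X}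

/-- transporting a coproduct cofan along an isomorphism of the vertex -/
def cofanPostcomp (hc : IsColimit (Cofan.mk X inj)) {Y : A} (b : X ≅ Y) :
    IsColimit (Cofan.mk Y (fun l => inj l ≫ b.hom)) :=
  mkCofanColimit _ (fun t => b.inv ≫ Cofan.IsColimit.desc hc (fun l => t.inj l))
    (fun t l => by
      have h1 : inj l ≫ Cofan.IsColimit.desc hc (fun l => t.inj l) = t.inj l :=
        Cofan.IsColimit.fac hc _ l
      change (inj l ≫ b.hom) ≫ b.inv ≫ _ = t.inj l
      rw [Category.assoc, Iso.hom_inv_id_assoc, h1])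
    (fun t m hm => by
      rw [Iso.eq_inv_comp]
      apply Cofan.IsColimit.hom_ext hc
      intro l
      have h1 : inj l ≫ Cofan.IsColimit.desc hc (fun l => t.inj l) = t.inj l :=
        Cofan.IsColimit.fac hc _ l
      have h2 : (inj l ≫ b.hom) ≫ m = t.inj l := hm l
      change inj l ≫ b.hom ≫ m = inj l ≫ _
      rw [h1, ← Category.assoc, h2])

lemma nonempty_cofan_of_isIso_desc [HasCoproduct F] (inj : ∀ l, F l ⟶ X)
    (h : IsIso (Sigma.desc inj)) : Nonempty (IsColimit (Cofan.mk X inj)) := by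
  have h1 := cofanPostcomp (coproductIsCoproduct F) (asIso (Sigma.desc inj))
  have hfun : (fun l => Sigma.ι F l ≫ (asIso (Sigma.desc inj)).hom) = inj :=
    funext (fun l => by simp)
  rw [hfun] at h1
  exact ⟨h1⟩

lemma isZero_of_cofan [HasZeroMorphisms A] (hc : IsColimit (Cofan.mk X inj))
    (hF : ∀ l, IsZero (F l)) : IsZero X := by
  rw [IsZero.iff_id_eq_zero]
  apply Cofan.IsColimit.hom_ext hc
  intro l
  exact (hF l).eq_of_src _ _

/-- two objects with the same universal property are isomorphic, compatibly -/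
theorem isIso_of_UP (𝒜 : A → Prop) {T₁ T₂ B : A} (ε₁ : T₁ ⟶ B) (ε₂ : T₂ ⟶ B)
    (h₁ : 𝒜 T₁) (h₂ : 𝒜 T₂)
    (hb₁ : ∀ Z, 𝒜 Z → Function.Bijective (fun t : Z ⟶ T₁ => t ≫ ε₁))
    (hb₂ : ∀ Z, 𝒜 Z → Function.Bijective (fun t : Z ⟶ T₂ => t ≫ ε₂))
    (σ : T₁ ⟶ T₂) (hσ : σ ≫ ε₂ = ε₁) : IsIso σ := by
  obtain ⟨τ, hτ⟩ := (hb₁ T₂ h₂).2 ε₂
  have hτ' : τ ≫ ε₁ = ε₂ := hτ
  refine ⟨τ, ?_, ?_⟩
  · apply (hb₁ T₁ h₁).1
    show (σ ≫ τ) ≫ ε₁ = 𝟙 T₁ ≫ ε₁
    rw [Category.assoc, hτ', hσ, Category.id_comp]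
  · apply (hb₂ T₂ h₂).1
    show (τ ≫ σ) ≫ ε₂ = 𝟙 T₂ ≫ ε₂
    rw [Category.assoc, hσ, hτ', Category.id_comp]

end Abstract

theorem bijective_of_sum {C : Type*} [Category C] [Preadditive C] [HasZeroObject C]
    [HasShift C ℤ] [∀ n : ℤ, (shiftFunctor C n).Additive] [Pretriangulated C] {ι : Type*}
    (Tr : ι → Triangle C) (hTr : ∀ i, Tr i ∈ distTriang C)
    [HasCoproduct (fun i => (Tr i).obj₁)] [HasCoproduct (fun i => (Tr i).obj₂)]
    [HasCoproduct (fun i => (Tr i).obj₃)]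
    {B : C} (δ : (∐ fun i => (Tr i).obj₂) ⟶ B) [IsIso δ] (Z : C)
    (h3 : HomVanL.NoHom Z (∐ fun i => (Tr i).obj₃))
    (h3' : HomVanL.NoHom Z ((∐ fun i => (Tr i).obj₃)⟦(-1 : ℤ)⟧)) :
    Function.Bijective (fun t : Z ⟶ ∐ fun i => (Tr i).obj₁ =>
      t ≫ Limits.Sigma.map (fun i => (Tr i).mor₁) ≫ δ) := by
  have hsum := Groth.Agent.S6593.result Tr hTr
  have hbij := RGammaZL.bijective_comp_mor₁ _ hsum Z h3 h3'
  constructor
  · intro t₁ t₂ h12
    have h12' : t₁ ≫ Limits.Sigma.map (fun i => (Tr i).mor₁) ≫ δ =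
        t₂ ≫ Limits.Sigma.map (fun i => (Tr i).mor₁) ≫ δ := h12
    apply hbij.1
    show t₁ ≫ Limits.Sigma.map (fun i => (Tr i).mor₁) =
      t₂ ≫ Limits.Sigma.map (fun i => (Tr i).mor₁)
    rw [← cancel_mono δ]
    simpa only [Category.assoc] using h12'
  · intro y
    obtain ⟨t, ht⟩ := hbij.2 (y ≫ inv δ)
    have ht' : t ≫ Limits.Sigma.map (fun i => (Tr i).mor₁) = y ≫ inv δ := ht
    refine ⟨t, ?_⟩
    show t ≫ Limits.Sigma.map (fun i => (Tr i).mor₁) ≫ δ = y
    rw [← Category.assoc, ht', Category.assoc, IsIso.inv_hom_id, Category.comp_id]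

/-- the derived category of a scheme has small coproducts -/
theorem hasCoproduct_D (T : Scheme.{u}) {ι : Type u} (K : ι → DCoh.D T) : HasCoproduct K := by
  let F : ι → CochainComplex T.Modules ℤ := fun i => Q.objPreimage (K i)
  let e : ∀ i, K i ≅ Q.obj (F i) := fun i => (Q.objObjPreimageIso (K i)).symm
  exact ⟨⟨⟨_, cofanPrecomp (DerCoprod.isColimitCofan F (QCohSigmaL.exists_kInj T)) e⟩⟩⟩

/-! ### Sections with support -/

section GZ

variable {U X : Scheme.{u}} (j : U ⟶ X) [IsOpenImmersion j]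

theorem isZero_restrict_gammaZJ (M : X.Modules) :
    IsZero ((Scheme.Modules.restrictFunctor j).obj ((DCoh.gammaZ j).obj M)) := by
  haveI : (Scheme.Modules.restrictFunctor j).IsRightAdjoint :=
    (CxOX.extZeroAdj j).isRightAdjoint
  have hk : (CxOX.gammaZι j).app M ≫ (Scheme.Modules.restrictAdjunction j).unit.app M = 0 :=
    kernel.condition ((Scheme.Modules.restrictAdjunction j).unit.app M)
  haveI : Mono ((CxOX.gammaZι j).app M) := by
    show Mono (kernel.ι ((Scheme.Modules.restrictAdjunction j).unit.app M))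
    infer_instance
  haveI : Mono ((Scheme.Modules.restrictFunctor j).map ((CxOX.gammaZι j).app M)) :=
    inferInstance
  have hsplit : (Scheme.Modules.restrictFunctor j).map
      ((Scheme.Modules.restrictAdjunction j).unit.app M) ≫
      (Scheme.Modules.restrictAdjunction j).counit.app
        ((Scheme.Modules.restrictFunctor j).obj M) = 𝟙 _ :=
    (Scheme.Modules.restrictAdjunction j).left_triangle_components M
  have hz : (Scheme.Modules.restrictFunctor j).map ((CxOX.gammaZι j).app M) = 0 := by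
    have h1 : (Scheme.Modules.restrictFunctor j).map ((CxOX.gammaZι j).app M) ≫
        (Scheme.Modules.restrictFunctor j).map
          ((Scheme.Modules.restrictAdjunction j).unit.app M) = 0 := by
      rw [← CategoryTheory.Functor.map_comp, hk, Functor.map_zero]
    have h2 := congrArg (fun t => t ≫ (Scheme.Modules.restrictAdjunction j).counit.app
        ((Scheme.Modules.restrictFunctor j).obj M)) h1
    simp only [Category.assoc, zero_comp] at h2
    rw [hsplit, Category.comp_id] at h2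
    exact h2
  exact IsZero.of_mono_eq_zero _ hz

theorem isZero_DD_Q_gam (I : CochainComplex X.Modules ℤ) :
    IsZero ((DD j).obj (Q.obj ((RGammaZL.GCxJ j).obj I))) := by
  apply MVPushL.isZero_of_forall_isZero_homology
  intro i
  let e2 : (DD j).obj (Q.obj ((RGammaZL.GCxJ j).obj I)) ≅
      Q.obj ((RGammaZL.RCxJ j).obj ((RGammaZL.GCxJ j).obj I)) :=
    (Scheme.Modules.restrictFunctor j).mapDerivedCategoryFactors.app _
  refine IsZero.of_iso ?_ ((homologyFunctor _ i).mapIso e2 ≪≫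
    (homologyFunctorFactors _ i).app _)
  show IsZero (((RGammaZL.RCxJ j).obj ((RGammaZL.GCxJ j).obj I)).homology i)
  apply HomologicalComplex.ExactAt.isZero_homology
  apply HomologicalComplex.ExactAt.of_isZero
  exact isZero_restrict_gammaZJ j (I.X i)

/-- chain-level naturality of `Γ_Z(I) ⟶ I` -/
theorem GCxJ_map_gam {I J : CochainComplex X.Modules ℤ} (u : I ⟶ J) :
    (RGammaZL.GCxJ j).map u ≫ RGammaZL.gamCxJ j J = RGammaZL.gamCxJ j I ≫ u := by
  refine HomologicalComplex.hom_ext _ _ (fun n => ?_)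
  exact (CxOX.gammaZι j).naturality (u.f n)

theorem unitIso_natural [CxOX.HasRgammaZ j] {I J : CochainComplex X.Modules ℤ}
    [I.IsKInjective] [J.IsKInjective] (u : I ⟶ J) :
    haveI := MVPushL.grothendieck_modules X
    Q.map ((RGammaZL.GCxJ j).map u) ≫ (RDerGE.unitIso (DCoh.gammaZ j) J).hom =
      (RDerGE.unitIso (DCoh.gammaZ j) I).hom ≫ (CxOX.RgammaZ j).map (Q.map u) := by
  haveI := MVPushL.grothendieck_modules X
  exact ((CxOX.gammaZKh j).totalRightDerivedUnit DerivedCategory.Qh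
    (HomotopyCategory.quasiIso X.Modules (ComplexShape.up ℤ))).naturality
      ((HomotopyCategory.quotient _ _).map u)

/-- objects killed by `j^*` admit no maps to objects `Rj_* N` -/
theorem noHom_Rpush_of_kill (Z : DCoh.D X) (hZ : IsZero ((DD j).obj Z)) (N : DCoh.D U) :
    HomVanL.NoHom Z ((DCoh.Rpush j).obj N) := by
  obtain ⟨adjj⟩ := HomVanL.nonempty_adj_DD j
  exact HomVanL.NoHom.of_adj adjj (HomVanL.NoHom.of_isZero_left hZ)

theorem kill_shift (Z : DCoh.D X) (hZ : IsZero ((DD j).obj Z)) :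
    IsZero ((DD j).obj (Z⟦(1 : ℤ)⟧)) :=
  IsZero.of_iso ((shiftFunctor _ (1 : ℤ)).map_isZero hZ) (((DD j).commShiftIso (1 : ℤ)).app Z)

/-- `Q(j_* j^* I) ≅ Rj_* j^* Q(I)` for `I` K-injective -/
def eB (I : CochainComplex X.Modules ℤ) [I.IsKInjective] :
    (DCoh.Rpush j).obj ((DD j).obj (Q.obj I)) ≅ Q.obj (RGammaZL.BCxJ j I) :=
  haveI := MVPushL.grothendieck_modules U
  haveI : CochainComplex.IsKInjective ((RGammaZL.RCxJ j).obj I) :=
    StalkSkyL.isKInjective_map_of_adjunction (CxOX.extZeroAdj j) I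
  (DCoh.Rpush j).mapIso ((Scheme.Modules.restrictFunctor j).mapDerivedCategoryFactors.app I) ≪≫
    (RDerGE.unitIso (Scheme.Modules.pushforward j) ((RGammaZL.RCxJ j).obj I)).symm

variable [QuasiCompact j]

/-- **S7280** (cofan form) -/
theorem main7280 [CxOX.HasRgammaZ j] {ι : Type u} (E : ι → DCoh.D X)
    (hE : ∀ i, DCoh.IsQCohD (E i))
    (P : DCoh.D X) (g : ∀ i, E i ⟶ P) (hc : IsColimit (Cofan.mk P g))
    (P' : DCoh.D X) (g' : ∀ i, (CxOX.RgammaZ j).obj (E i) ⟶ P')
    (hc' : IsColimit (Cofan.mk P' g'))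
    (m : P' ⟶ (CxOX.RgammaZ j).obj P) (hm : ∀ i, g' i ≫ m = (CxOX.RgammaZ j).map (g i)) :
    IsIso m := by
  classical
  haveI := MVPushL.grothendieck_modules X
  haveI : ∀ (K : ι → DCoh.D X), HasCoproduct K := fun K => hasCoproduct_D X K
  haveI : ∀ (K : ι → DCoh.D U), HasCoproduct K := fun K => hasCoproduct_D U K
  choose I hIK hIinj hIiso using fun i => KInjGen8.exists_kInjective_rep (E i)
  haveI : ∀ i, (I i).IsKInjective := hIK
  let a : ∀ i, Q.obj (I i) ≅ E i := fun i => (hIiso i).some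
  obtain ⟨J, hJK, hJinj, ⟨b⟩⟩ := KInjGen8.exists_kInjective_rep P
  haveI : J.IsKInjective := hJK
  choose u hu using fun i =>
    DerProd.exists_lift_of_isKInjective (I i) J ((a i).hom ≫ g i ≫ b.inv)
  -- `(Q J, Q u_i)` is a coproduct of the `Q (I i)`
  have hcJ : IsColimit (Cofan.mk (Q.obj J) (fun i => Q.map (u i))) := by
    have hfun : (fun i => Q.map (u i)) = (fun l => ((a l).hom ≫ g l) ≫ b.symm.hom) :=
      funext (fun i => by rw [hu i]; simp)
    rw [hfun]
    exact cofanPostcomp (cofanPrecomp hc a) b.symm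
  -- the triangles
  let Tr : ι → Triangle (DCoh.D X) := fun i =>
    DerivedCategory.triangleOfSES (RGammaZL.shortExact_gzSCxJ j (I i) (hIinj i))
  have hTr : ∀ i, Tr i ∈ distTriang (DCoh.D X) := fun i =>
    DerivedCategory.triangleOfSES_distinguished (RGammaZL.shortExact_gzSCxJ j (I i) (hIinj i))
  have hSJ := RGammaZL.shortExact_gzSCxJ j J hJinj
  have hTrJ := DerivedCategory.triangleOfSES_distinguished hSJ
  have hkill_shift := kill_shift j
  have hno := noHom_Rpush_of_kill j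
  -- the universal property of `Q (Γ_Z J)`
  have hb₂ : ∀ Z : DCoh.D X, IsZero ((DD j).obj Z) → Function.Bijective
      (fun t : Z ⟶ Q.obj ((RGammaZL.GCxJ j).obj J) => t ≫ Q.map (RGammaZL.gamCxJ j J)) := by
    intro Z hZ
    have h3 : HomVanL.NoHom Z (Q.obj (RGammaZL.BCxJ j J)) := (hno Z hZ _).of_iso_right (eB j J)
    have h3' : HomVanL.NoHom Z ((Q.obj (RGammaZL.BCxJ j J))⟦(-1 : ℤ)⟧) := by
      refine HomVanL.NoHom.shift_right (-1) 1 (by omega) ?_
      exact (hno _ (hkill_shift Z hZ) _).of_iso_right (eB j J)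
    exact RGammaZL.bijective_comp_mor₁ (DerivedCategory.triangleOfSES hSJ) hTrJ Z h3 h3'
  -- the coproduct of the third terms
  let N : ι → DCoh.D U := fun i => (DD j).obj (Q.obj (I i))
  have hN : ∀ i, DCoh.IsQCohD (N i) := fun i =>
    LpullQCL.isQCohD_restrictD j _ (DSectX.isQCohD_of_iso (a i).symm (hE i))
  have hno3 : ∀ Z : DCoh.D X, IsZero ((DD j).obj Z) →
      HomVanL.NoHom Z (∐ fun i => (Tr i).obj₃) := by
    intro Z hZ
    have hc3 : IsColimit (Cofan.mk (∐ fun i => (Tr i).obj₃)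
        (fun i => (eB j (I i)).hom ≫ Sigma.ι (fun i => (Tr i).obj₃) i)) :=
      cofanPrecomp (coproductIsCoproduct (fun i => (Tr i).obj₃)) (fun i => eB j (I i))
    let m3 : (∐ fun i => (Tr i).obj₃) ⟶ (DCoh.Rpush j).obj (∐ N) :=
      Sigma.desc (fun i => (eB j (I i)).inv ≫ (DCoh.Rpush j).map (Sigma.ι N i))
    have hm3 : ∀ i, ((eB j (I i)).hom ≫ Sigma.ι (fun i => (Tr i).obj₃) i) ≫ m3 =
        (DCoh.Rpush j).map (Sigma.ι N i) := by
      intro i
      show ((eB j (I i)).hom ≫ Sigma.ι (fun i => (Tr i).obj₃) i) ≫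
        Sigma.desc (fun i => (eB j (I i)).inv ≫ (DCoh.Rpush j).map (Sigma.ι N i)) = _
      rw [Category.assoc, Sigma.ι_desc, Iso.hom_inv_id_assoc]
    haveI : IsIso m3 :=
      main1000 j N hN (∐ N) (Sigma.ι N) (coproductIsCoproduct N) _ _ hc3 m3 hm3
    exact (hno Z hZ _).of_iso_right (asIso m3).symm
  -- the universal property of the coproduct
  haveI hδ : IsIso (Sigma.desc (fun i => Q.map (u i)) :
      (∐ fun i => (Tr i).obj₂) ⟶ Q.obj J) :=
    isIso_of_cofans (coproductIsCoproduct (fun i => (Tr i).obj₂)) hcJ (fun _ => Iso.refl _) _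
      (fun l => by
        rw [Sigma.ι_desc]
        exact (Category.id_comp _).symm)
  have hb₁ : ∀ Z : DCoh.D X, IsZero ((DD j).obj Z) → Function.Bijective
      (fun t : Z ⟶ (∐ fun i => (Tr i).obj₁) =>
        t ≫ Limits.Sigma.map (fun i => (Tr i).mor₁) ≫
          (Sigma.desc (fun i => Q.map (u i)) : (∐ fun i => (Tr i).obj₂) ⟶ Q.obj J)) := by
    intro Z hZ
    exact bijective_of_sum Tr hTr _ Z (hno3 Z hZ)
      (HomVanL.NoHom.shift_right (-1) 1 (by omega) (hno3 _ (hkill_shift Z hZ)))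
  have h₁ : IsZero ((DD j).obj (∐ fun i => (Tr i).obj₁)) := by
    obtain ⟨adjj⟩ := HomVanL.nonempty_adj_DD j
    obtain ⟨hcD⟩ := nonempty_cofan_of_adj (coproductIsCoproduct (fun i => (Tr i).obj₁)) adjj
    exact isZero_of_cofan hcD (fun i => isZero_DD_Q_gam j (I i))
  have hσ' : (Sigma.desc (fun i => Q.map ((RGammaZL.GCxJ j).map (u i))) :
        (∐ fun i => (Tr i).obj₁) ⟶ Q.obj ((RGammaZL.GCxJ j).obj J)) ≫
        Q.map (RGammaZL.gamCxJ j J) =
      Limits.Sigma.map (fun i => (Tr i).mor₁) ≫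
        (Sigma.desc (fun i => Q.map (u i)) : (∐ fun i => (Tr i).obj₂) ⟶ Q.obj J) := by
    apply Sigma.hom_ext
    intro i
    have e1 : Sigma.ι (fun i => (Tr i).obj₁) i ≫
        (Sigma.desc (fun i => Q.map ((RGammaZL.GCxJ j).map (u i))) :
          (∐ fun i => (Tr i).obj₁) ⟶ Q.obj ((RGammaZL.GCxJ j).obj J)) ≫
        Q.map (RGammaZL.gamCxJ j J) =
        Q.map (RGammaZL.gamCxJ j (I i)) ≫ Q.map (u i) := by
      rw [Sigma.ι_desc_assoc, ← Q.map_comp, GCxJ_map_gam, Q.map_comp]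
    have e2 : Sigma.ι (fun i => (Tr i).obj₁) i ≫
        Limits.Sigma.map (fun i => (Tr i).mor₁) ≫
        (Sigma.desc (fun i => Q.map (u i)) : (∐ fun i => (Tr i).obj₂) ⟶ Q.obj J) =
        (Tr i).mor₁ ≫ Q.map (u i) := by
      rw [Sigma.ι_map_assoc, Sigma.ι_desc]
    exact e1.trans e2.symm
  have hσiso : IsIso (Sigma.desc (fun i => Q.map ((RGammaZL.GCxJ j).map (u i))) :
      (∐ fun i => (Tr i).obj₁) ⟶ Q.obj ((RGammaZL.GCxJ j).obj J)) :=
    isIso_of_UP (fun Z => IsZero ((DD j).obj Z)) _ _ h₁ (isZero_DD_Q_gam j J) hb₁ hb₂ _ hσ'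
  obtain ⟨claim⟩ := nonempty_cofan_of_isIso_desc
    (fun i => Q.map ((RGammaZL.GCxJ j).map (u i))) hσiso
  -- conclusion
  let c : ∀ i, (CxOX.RgammaZ j).obj (E i) ≅ (Tr i).obj₁ := fun i =>
    (CxOX.RgammaZ j).mapIso (a i).symm ≪≫ (RDerGE.unitIso (DCoh.gammaZ j) (I i)).symm
  have hm' : ∀ i, g' i ≫ (m ≫ (CxOX.RgammaZ j).map b.inv ≫
      (RDerGE.unitIso (DCoh.gammaZ j) J).inv) =
      (c i).hom ≫ Q.map ((RGammaZL.GCxJ j).map (u i)) := by
    intro i
    have hnat := unitIso_natural j (u i)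
    have hnat' : (CxOX.RgammaZ j).map (Q.map (u i)) ≫ (RDerGE.unitIso (DCoh.gammaZ j) J).inv =
        (RDerGE.unitIso (DCoh.gammaZ j) (I i)).inv ≫ Q.map ((RGammaZL.GCxJ j).map (u i)) := by
      rw [Iso.comp_inv_eq, Category.assoc, hnat, Iso.inv_hom_id_assoc]
    have hgb : g i ≫ b.inv = (a i).inv ≫ Q.map (u i) := by
      rw [hu i, Iso.inv_hom_id_assoc]
    calc g' i ≫ (m ≫ (CxOX.RgammaZ j).map b.inv ≫ (RDerGE.unitIso (DCoh.gammaZ j) J).inv)
        = ((CxOX.RgammaZ j).map (g i) ≫ (CxOX.RgammaZ j).map b.inv) ≫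
            (RDerGE.unitIso (DCoh.gammaZ j) J).inv := by
          rw [← Category.assoc, hm i, Category.assoc]
      _ = ((CxOX.RgammaZ j).map (a i).inv ≫ (CxOX.RgammaZ j).map (Q.map (u i))) ≫
            (RDerGE.unitIso (DCoh.gammaZ j) J).inv := by
          rw [← CategoryTheory.Functor.map_comp, hgb, CategoryTheory.Functor.map_comp]
      _ = (CxOX.RgammaZ j).map (a i).inv ≫ (RDerGE.unitIso (DCoh.gammaZ j) (I i)).inv ≫
            Q.map ((RGammaZL.GCxJ j).map (u i)) := by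
          rw [Category.assoc, hnat']
      _ = (c i).hom ≫ Q.map ((RGammaZL.GCxJ j).map (u i)) := (Category.assoc _ _ _).symm
  haveI : IsIso (m ≫ (CxOX.RgammaZ j).map b.inv ≫ (RDerGE.unitIso (DCoh.gammaZ j) J).inv) :=
    isIso_of_cofans hc' claim c _ hm'
  have hfin : m = (m ≫ (CxOX.RgammaZ j).map b.inv ≫ (RDerGE.unitIso (DCoh.gammaZ j) J).inv) ≫
      (RDerGE.unitIso (DCoh.gammaZ j) J).hom ≫ (CxOX.RgammaZ j).map b.hom := by
    simp only [Category.assoc, Iso.inv_hom_id_assoc]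
    rw [← CategoryTheory.Functor.map_comp, b.inv_hom_id, CategoryTheory.Functor.map_id,
      Category.comp_id]
  rw [hfin]
  infer_instance

end GZ

end

end Groth.Agent.Lib.CompQL
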