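import Mathlib
import Groth.Prelude
import Groth.Agent.Lib.CompQ3_lead
import Groth.Agent.Lib.DCohLoc6_lead

/-!
# Perfect complexes are compact in `D_QCoh` of a qcqs scheme (lead)

`CQ K` (cofan form of compactness with respect to direct sums of objects of `D_QCoh`) for
perfect `K`, the translation between `CQ` and `PerfAux.IsCompactObjRel`, and the restriction of
`CQ` objects to quasi-compact opens.
-/

set_option autoImplicit false
set_option linter.all false
set_option maxHeartbeats 1600000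
set_option backward.isDefEq.respectTransparency false
set_option backward.isDefEq.respectTransparency.types false
set_option backward.defeqAttrib.useBackward true

universe u

open CategoryTheory CategoryTheory.Limits AlgebraicGeometry TopologicalSpace Opposite
open DerivedCategory CategoryTheory.Pretriangulated

attribute [local instance] HasDerivedCategory.standard

namespace Groth.Agent.Lib.CptPerfL

open Groth.Agent.Lib Groth.Agent.Lib.DCohLocLead Groth.Agent.Lib.PerfLocL
open Groth.Agent.Lib.HomVanL Groth.Agent.Lib.CompQL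

noncomputable section

attribute [local instance] rpushI lpullI

/-! ### Formal properties of `CQ` -/

theorem cq_of_isZero {T : Scheme.{u}} {E : DCoh.D T} (h : IsZero E) : CQ E :=
  fun ι K hK P g hc φ => ⟨∅, h.eq_of_src _ _⟩

theorem cq_of_adj_qc {T T' : Scheme.{u}} {L : DCoh.D T ⥤ DCoh.D T'} {R : DCoh.D T' ⥤ DCoh.D T}
    (adj : L ⊣ R) (hRq : ∀ K, DCoh.IsQCohD K → DCoh.IsQCohD (R.obj K))
    (hRc : ∀ (ι : Type u) (K : ι → DCoh.D T'), (∀ i, DCoh.IsQCohD (K i)) →
      ∀ (P : DCoh.D T') (g : ∀ i, K i ⟶ P), IsColimit (Cofan.mk P g) →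
        Nonempty (IsColimit (Cofan.mk (R.obj P) (fun i => R.map (g i)))))
    {E : DCoh.D T} (h : CQ E) : CQ (L.obj E) := by
  intro ι K hK P g hc φ
  obtain ⟨hc'⟩ := hRc ι K hK P g hc
  haveI : R.IsRightAdjoint := adj.isRightAdjoint
  obtain ⟨s, hs⟩ := h ι (fun i => R.obj (K i)) (fun i => hRq _ (hK i)) (R.obj P)
    (fun i => R.map (g i)) hc' (adj.homEquiv E P φ)
  refine ⟨s, ?_⟩
  apply (adj.homEquiv E P).injective
  rw [Adjunction.homEquiv_naturality_right, map_e hc R hc' s]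
  exact hs

theorem cq_of_iso_scheme {T₁ T₂ : Scheme.{u}} (α : T₁ ⟶ T₂) [IsIso α] {K : DCoh.D T₂}
    (h : CQ K) : CQ ((DD α).obj K) := by
  obtain ⟨adj'⟩ := nonempty_adj_DD_iso α
  obtain ⟨adj2⟩ := HomVanL.nonempty_adj_DD (inv α)
  exact CQ.of_adj adj' (fun K hK => LpullQCL.isQCohD_restrictD (inv α) K hK)
    (fun ι K P g hc => nonempty_cofan_of_adj hc adj2) h

/-- Mayer-Vietoris for `CQ` -/
theorem cq_of_cover {T : Scheme.{u}} (U V : T.Opens) (hUV : U ⊔ V = ⊤) (E : DCoh.D T)
    (hU : CQ ((DD U.ι).obj E)) (hV : CQ ((DD V.ι).obj E))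
    (hI : CQ ((DD (U ⊓ V).ι).obj E)) : CQ E := by
  have key : ∀ W : T.Opens, CQ ((DD W.ι).obj E) →
      CQ ((CxOX.extZeroD W.ι).obj ((DCoh.restrictD W.ι).obj E)) := by
    intro W hW
    obtain ⟨adj2⟩ := HomVanL.nonempty_adj_DD W.ι
    exact CQ.of_adj (ApproxOpenL.adjShriek W)
      (fun K hK => LpullQCL.isQCohD_restrictD W.ι K hK)
      (fun ι K P g hc => nonempty_cofan_of_adj hc adj2) hW
  obtain ⟨a, b, c, hT⟩ := StalkSkyL.main6513 U V hUV E
  exact CQ.third (Triangle.mk a b c) hT (CQ.biprod (key U hU) (key V hV))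
    ((key (U ⊓ V) hI).shift (1 : ℤ))

/-! ### The affine base case -/

theorem cq_sgl_free (S : Scheme.{u}) [IsAffine S] (k : ℤ) (n : ℕ) (M : S.Modules)
    (α : M ≅ FlatMod.freeMod S n) : CQ ((singleFunctor S.Modules k).obj M) := by
  classical
  intro ι K hK P g hc φ
  have hu : ∀ ψ : (singleFunctor S.Modules k).obj (Coh.structureModule S) ⟶ P,
      ∃ s : Finset ι, ψ ≫ QcSect.e hc s = ψ := fun ψ =>
    compS_of_affine S k _ ⟨Iso.refl _⟩ ι K hK P g hc ψ
  have h1 : 𝟙 M = ∑ i : Fin n, (α.hom ≫ SDivFreeH8.projM i) ≫ (SDivFreeH8.ιM i ≫ α.inv) := by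
    calc 𝟙 M = α.hom ≫ 𝟙 (FlatMod.freeMod _ n) ≫ α.inv := by simp
      _ = α.hom ≫ (∑ i : Fin n, SDivFreeH8.projM i ≫ SDivFreeH8.ιM i) ≫ α.inv := by
          rw [← SDivFreeH8.id_eq_sumM]
      _ = _ := by
          rw [Preadditive.sum_comp, Preadditive.comp_sum]
          exact Finset.sum_congr rfl (fun i _ => by simp only [Category.assoc])
  let p : ∀ i : Fin n, (singleFunctor S.Modules k).obj M ⟶
      (singleFunctor S.Modules k).obj (Coh.structureModule S) := fun i =>
    (singleFunctor S.Modules k).map (α.hom ≫ SDivFreeH8.projM i)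
  let ψ : ∀ i : Fin n, (singleFunctor S.Modules k).obj (Coh.structureModule S) ⟶ P := fun i =>
    (singleFunctor S.Modules k).map (SDivFreeH8.ιM i ≫ α.inv) ≫ φ
  have h2 : φ = ∑ i : Fin n, p i ≫ ψ i := by
    have h3 : φ = (singleFunctor S.Modules k).map (𝟙 M) ≫ φ := by
      rw [CategoryTheory.Functor.map_id, Category.id_comp]
    rw [h3, h1, Functor.map_sum, Preadditive.sum_comp]
    refine Finset.sum_congr rfl (fun i _ => ?_)
    rw [CategoryTheory.Functor.map_comp, Category.assoc]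
  choose s hs using fun i : Fin n => hu (ψ i)
  refine ⟨Finset.univ.biUnion s, ?_⟩
  calc φ ≫ QcSect.e hc (Finset.univ.biUnion s)
      = (∑ i : Fin n, p i ≫ ψ i) ≫ QcSect.e hc (Finset.univ.biUnion s) := by rw [← h2]
    _ = ∑ i : Fin n, p i ≫ ψ i := by
        rw [Preadditive.sum_comp]
        refine Finset.sum_congr rfl (fun i _ => ?_)
        rw [Category.assoc,
          fixed_mono hc (Finset.subset_biUnion_of_mem s (Finset.mem_univ i)) (hs i)]
    _ = φ := h2.symm

theorem cq_of_affine_strictlyFree (S : Scheme.{u}) [IsAffine S]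
    (P : CochainComplex S.Modules ℤ) (hP : IsStrictlyFree P) : CQ (Q.obj P) := by
  obtain ⟨⟨a, b, hv⟩, hfr⟩ := hP
  refine HomVanL.bounded_induction (A := S.Modules) (fun Z => CQ Z) ?_ ?_ ?_
    (fun _ X => IsZero X ∨ ∃ n : ℕ, Nonempty (X ≅ FlatMod.freeMod S n)) ?_ ?_ ?_
    (b + 1 - a).toNat a P ?_ ?_ ?_
  · intro K K' e h
    exact h.of_iso e
  · intro K hK
    exact cq_of_isZero hK
  · intro T hT h1 h3
    have hT' := inv_rot_of_distTriang _ hT
    exact CQ.third T.invRotate hT' h1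
      (h3.of_iso ((shiftFunctorCompIsoId (DCoh.D S) (-1 : ℤ) 1 (by omega)).app T.obj₃).symm)
  · intro i X hX
    exact Or.inl hX
  · intro i X Y e hX
    rcases hX with hX | ⟨n, ⟨c⟩⟩
    · exact Or.inl (hX.of_iso e.symm)
    · exact Or.inr ⟨n, ⟨e.symm ≪≫ c⟩⟩
  · intro i X hX
    rcases hX with hX | ⟨n, ⟨c⟩⟩
    · exact cq_of_isZero ((singleFunctor _ i).map_isZero hX)
    · exact cq_sgl_free S i n X c
  · intro i
    exact Or.inr (hfr i)
  · intro i hi
    exact hv i (Or.inl hi)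
  · intro i hi
    have := Int.self_le_toNat (b + 1 - a)
    exact hv i (Or.inr (by omega))

/-! ### The induction over quasi-compact opens -/

/-- `CQ` for the restriction to an open -/
def CQon {X : Scheme.{u}} (K : DCoh.D X) (S : X.Opens) : Prop := CQ ((DD S.ι).obj K)

theorem CQon.sup {X : Scheme.{u}} {K : DCoh.D X} {U V : X.Opens} (hU : CQon K U)
    (hV : CQon K V) (hI : CQon K (U ⊓ V)) : CQon K (U ⊔ V) := by
  let Wo : X.Opens := U ⊔ V
  let U' : (Wo : Scheme.{u}).Opens := Wo.ι ⁻¹ᵁ U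
  let V' : (Wo : Scheme.{u}).Opens := Wo.ι ⁻¹ᵁ V
  have hcov : U' ⊔ V' = ⊤ := by
    rw [eq_top_iff]
    rintro x -
    have hx : (Wo.ι x) ∈ U ⊔ V := x.2
    rcases hx with hx | hx
    · exact Or.inl hx
    · exact Or.inr hx
  have rU := RpushQCL.range_eq_of Wo U U' le_sup_left (fun y => Iff.rfl)
  have rV := RpushQCL.range_eq_of Wo V V' le_sup_right (fun y => Iff.rfl)
  have rI := RpushQCL.range_eq_of Wo (U ⊓ V) (U' ⊓ V') (inf_le_left.trans le_sup_left)
    (fun y => Iff.rfl)
  have key : ∀ (O : X.Opens) (O' : (Wo : Scheme.{u}).Opens)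
      (r : Set.range (O'.ι ≫ Wo.ι) = Set.range O.ι),
      CQ ((DD O.ι).obj K) → CQ ((DD O'.ι).obj ((DD Wo.ι).obj K)) := by
    intro O O' r h
    have hα : (IsOpenImmersion.isoOfRangeEq (O'.ι ≫ Wo.ι) O.ι r).hom ≫ O.ι = O'.ι ≫ Wo.ι :=
      IsOpenImmersion.isoOfRangeEq_hom_fac _ _ r
    obtain ⟨c1⟩ := nonempty_DD_comp_iso O'.ι Wo.ι K
    obtain ⟨c2⟩ := nonempty_DD_congr hα K
    obtain ⟨c3⟩ := nonempty_DD_comp_iso
      (IsOpenImmersion.isoOfRangeEq (O'.ι ≫ Wo.ι) O.ι r).hom O.ι K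
    exact CQ.of_iso (c3.symm ≪≫ c2 ≪≫ c1)
      (cq_of_iso_scheme (IsOpenImmersion.isoOfRangeEq (O'.ι ≫ Wo.ι) O.ι r).hom h)
  exact cq_of_cover U' V' hcov _ (key U U' rU hU) (key V V' rV hV)
    (key (U ⊓ V) (U' ⊓ V') rI hI)

theorem cqon_of_good {X : Scheme.{u}} [QuasiSeparatedSpace X] (K : DCoh.D X) (O : X.Opens)
    (hO : IsCompact (O : Set X)) (hg : GoodOpen K O) : CQon K O := by
  refine RpushQCL.qcqs_induction (fun O => GoodOpen K O → CQon K O) ?_ ?_ O hO hg
  · intro U hU hgU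
    haveI : IsAffine (U : Scheme.{u}) := hU
    obtain ⟨P, hP, ⟨e⟩⟩ := hgU
    exact CQ.of_iso e.symm (cq_of_affine_strictlyFree (U : Scheme.{u}) P hP)
  · intro U V hU hV hI hg'
    exact CQon.sup (hU (hg'.of_le le_sup_left)) (hV (hg'.of_le le_sup_right))
      (hI (hg'.of_le (inf_le_left.trans le_sup_left)))

theorem cqon_bot {X : Scheme.{u}} (K : DCoh.D X) : CQon K ⊥ := by
  apply cq_of_isZero
  apply MVPushL.isZero_of_forall_isZero_homology
  intro i
  exact isZero_of_isZero_restrict (DCoh.HD ((DD (⊥ : X.Opens).ι).obj K) i)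
    (fun e : Empty => e.elim) (fun x => False.elim x.2) (fun e => e.elim)

theorem cqon_of_isCompact {X : Scheme.{u}} [QuasiSeparatedSpace X] (K : DCoh.D X)
    (hK : DCoh.IsPerfect K) (S : X.Opens) (hS : IsCompact (S : Set X)) : CQon K S := by
  classical
  choose W hWaff hxW hWS hWg using fun x : S => exists_good_nhd K hK S x.1 x.2
  obtain ⟨t, ht⟩ := hS.elim_finite_subcover (fun x : S => ((W x : X.Opens) : Set X))
    (fun x => (W x).isOpen) (fun x hx => Set.mem_iUnion.2 ⟨⟨x, hx⟩, hxW ⟨x, hx⟩⟩)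
  have key : ∀ t' : Finset S, IsCompact ((t'.sup W : X.Opens) : Set X) ∧
      CQon K (t'.sup W) := by
    intro t'
    induction t' using Finset.induction_on with
    | empty =>
      rw [Finset.sup_empty]
      exact ⟨by simp, cqon_bot K⟩
    | insert x t' hx ih =>
      rw [Finset.sup_insert]
      obtain ⟨hc, hv⟩ := ih
      have hcW : IsCompact ((W x : X.Opens) : Set X) := (hWaff x).isCompact
      have hcI : IsCompact ((W x ⊓ t'.sup W : X.Opens) : Set X) :=
        QuasiSeparatedSpace.inter_isCompact _ _ (W x).isOpen hcW (t'.sup W).isOpen hc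
      exact ⟨hcW.union hc, CQon.sup (cqon_of_good K _ hcW (hWg x)) hv
        (cqon_of_good K _ hcI ((hWg x).of_le inf_le_left))⟩
  have hEq : t.sup W = S := by
    apply le_antisymm
    · exact Finset.sup_le (fun x _ => hWS x)
    · intro y hy
      obtain ⟨x, hx⟩ := Set.mem_iUnion.1 (ht hy)
      obtain ⟨hxt, hyx⟩ := Set.mem_iUnion.1 hx
      exact (Finset.le_sup hxt : W x ≤ t.sup W) hyx
  rw [← hEq]
  exact (key t).2

/-- **perfect objects are compact in `D_QCoh`** (cofan form) -/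
theorem cq_of_isPerfect {X : Scheme.{u}} [CompactSpace X] [QuasiSeparatedSpace X]
    (K : DCoh.D X) (hK : DCoh.IsPerfect K) : CQ K := by
  have h : CQon K ⊤ := cqon_of_isCompact K hK ⊤
    (by simpa using CompactSpace.isCompact_univ (X := X))
  obtain ⟨c1⟩ := nonempty_DD_comp_iso X.topIso.inv (⊤ : X.Opens).ι K
  obtain ⟨c2⟩ := nonempty_DD_congr X.toIso_inv_ι K
  obtain ⟨c3⟩ := nonempty_DD_id K
  exact CQ.of_iso (c1.symm ≪≫ c2 ≪≫ c3) (cq_of_iso_scheme X.topIso.inv h)

/-! ### Translation to `PerfAux.IsCompactObjRel` -/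

section Translate

variable {D : Type*} [Category D] [Preadditive D]

open scoped Classical in
lemma homSum_of' (K : D) {ι : Type*} (X : ι → D) [HasCoproduct X] (k : ι) (g : K ⟶ X k) :
    PerfAux.homSumToHomCoprod K X (DirectSum.of (fun i => K ⟶ X i) k g) = g ≫ Sigma.ι X k := by
  unfold PerfAux.homSumToHomCoprod
  simp
  rfl

open scoped Classical in
lemma homSum_comp_π (K : D) {ι : Type*} (X : ι → D) [HasCoproduct X]
    (x : DirectSum ι (fun i => K ⟶ X i)) (l : ι) :
    PerfAux.homSumToHomCoprod K X x ≫ QcSect.π (coproductIsCoproduct X) l = x l := by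
  induction x using DirectSum.induction_on with
  | zero => rw [map_zero, zero_comp, DirectSum.zero_apply]
  | of i y =>
    rw [homSum_of', Category.assoc]
    by_cases hil : i = l
    · subst hil
      rw [QcSect.inj_π_self (coproductIsCoproduct X) i, Category.comp_id, DirectSum.of_eq_same]
    · rw [QcSect.inj_π_ne (coproductIsCoproduct X) hil, comp_zero,
        DirectSum.of_eq_of_ne _ _ _ (Ne.symm hil)]
  | add x y hx hy => rw [map_add, Preadditive.add_comp, hx, hy, DirectSum.add_apply]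

open scoped Classical in
theorem bijective_of_fix {K : D} {ι : Type*} (X : ι → D) [HasCoproduct X]
    (h : ∀ φ : K ⟶ ∐ X, ∃ s : Finset ι, φ ≫ QcSect.e (coproductIsCoproduct X) s = φ) :
    Function.Bijective (PerfAux.homSumToHomCoprod K X) := by
  constructor
  · rw [injective_iff_map_eq_zero]
    intro x hx
    apply DFinsupp.ext
    intro l
    rw [← homSum_comp_π K X x l, hx, zero_comp]
    rfl
  · intro φ
    obtain ⟨s, hs⟩ := h φ
    refine ⟨∑ l ∈ s, DirectSum.of (fun i => K ⟶ X i) l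
      (φ ≫ QcSect.π (coproductIsCoproduct X) l), ?_⟩
    rw [map_sum]
    have h1 : ∀ l ∈ s, PerfAux.homSumToHomCoprod K X (DirectSum.of (fun i => K ⟶ X i) l
        (φ ≫ QcSect.π (coproductIsCoproduct X) l)) =
        φ ≫ (QcSect.π (coproductIsCoproduct X) l ≫ Sigma.ι X l) := fun l _ => by
      rw [homSum_of', Category.assoc]
    rw [Finset.sum_congr rfl h1, ← Preadditive.comp_sum]
    exact hs

end Translate

theorem isCompactObjRel_of_cq {T : Scheme.{u}} {E : DCoh.D T} (h : CQ E) :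
    PerfAux.IsCompactObjRel.{u} (fun L : DCoh.D T => DCoh.IsQCohD L) E := by
  intro ι X _ hX
  exact bijective_of_fix X (fun φ => h ι X hX _ _ (coproductIsCoproduct X) φ)

theorem cq_of_isCompactObjRel {T : Scheme.{u}} {E : DCoh.D T}
    (h : PerfAux.IsCompactObjRel.{u} (fun L : DCoh.D T => DCoh.IsQCohD L) E) : CQ E := by
  classical
  intro ι K hK P g hc φ
  haveI : HasCoproduct K := ⟨⟨⟨_, hc⟩⟩⟩
  have hb := h ι K hK
  let θ : ∐ K ≅ P := IsColimit.coconePointUniqueUpToIso (coproductIsCoproduct K) hc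
  have hθ : ∀ l, Sigma.ι K l ≫ θ.hom = g l := fun l =>
    IsColimit.comp_coconePointUniqueUpToIso_hom (coproductIsCoproduct K) hc ⟨l⟩
  obtain ⟨x, hx⟩ := hb.2 (φ ≫ θ.inv)
  refine ⟨x.support, ?_⟩
  have hφ : φ = ∑ l ∈ x.support, x l ≫ g l := by
    have h1 : PerfAux.homSumToHomCoprod E K x = ∑ l ∈ x.support, x l ≫ Sigma.ι K l := by
      conv_lhs => rw [← DirectSum.sum_support_of x]
      rw [map_sum]
      exact Finset.sum_congr rfl (fun l _ => homSum_of' E K l (x l))
    have h2 : φ = (φ ≫ θ.inv) ≫ θ.hom := by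
      rw [Category.assoc, Iso.inv_hom_id, Category.comp_id]
    rw [h2, ← hx, h1, Preadditive.sum_comp]
    exact Finset.sum_congr rfl (fun l _ => by rw [Category.assoc, hθ l])
  rw [hφ, Preadditive.sum_comp]
  refine Finset.sum_congr rfl (fun l hl => ?_)
  rw [Category.assoc, QcSect.inj_e_mem hc hl]

/-! ### Restriction to quasi-compact opens -/

theorem quasiCompact_ι {X : Scheme.{u}} [QuasiSeparatedSpace X] (U : X.Opens)
    (hU : IsCompact (U : Set X)) : QuasiCompact U.ι := by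
  refine ⟨fun V hVo hVc => ?_⟩
  rw [U.ι.isOpenEmbedding.isInducing.isCompact_iff, Set.image_preimage_eq_inter_range,
    Scheme.Opens.range_ι]
  exact QuasiSeparatedSpace.inter_isCompact _ _ hVo hVc U.isOpen hU

theorem nonempty_cofan_Rpush {X S : Scheme.{u}} (f : X ⟶ S) [QuasiCompact f] [QuasiSeparated f]
    {ι : Type u} (K : ι → DCoh.D X) (hK : ∀ i, DCoh.IsQCohD (K i)) (P : DCoh.D X)
    (g : ∀ i, K i ⟶ P) (hc : IsColimit (Cofan.mk P g)) :
    Nonempty (IsColimit (Cofan.mk ((DCoh.Rpush f).obj P)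
      (fun i => (DCoh.Rpush f).map (g i)))) := by
  haveI : HasCoproduct (fun i => (DCoh.Rpush f).obj (K i)) := hasCoproduct_D S _
  haveI : IsIso (Sigma.desc (fun i => (DCoh.Rpush f).map (g i))) :=
    main1000 f K hK P g hc _ _ (coproductIsCoproduct (fun i => (DCoh.Rpush f).obj (K i)))
      (Sigma.desc (fun i => (DCoh.Rpush f).map (g i))) (fun i => Sigma.ι_desc _ i)
  exact nonempty_cofan_of_isIso_desc (fun i => (DCoh.Rpush f).map (g i)) inferInstance

theorem cq_restrict {X : Scheme.{u}} [QuasiSeparatedSpace X] (U : X.Opens)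
    (hU : IsCompact (U : Set X)) {K : DCoh.D X} (h : CQ K) : CQ ((DD U.ι).obj K) := by
  haveI : QuasiCompact U.ι := quasiCompact_ι U hU
  obtain ⟨adj⟩ := HomVanL.nonempty_adj_DD U.ι
  exact cq_of_adj_qc adj (fun K hK => RpushQCL.main0998 U.ι K hK)
    (fun ι K hK P g hc => nonempty_cofan_Rpush U.ι K hK P g hc) h

end

end Groth.Agent.Lib.CptPerfL
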