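import Mathlib
import Groth.Prelude
import Groth.Agent.Lib.CptPerf1_lead

/-!
# Serre classes of `Hom` groups out of perfect complexes, I (lead)

* `mulD r`: multiplication by a global function `r` as a natural endomorphism of the identity of
  `D(O_T)`, with its compatibilities (cohomology sheaves, restriction to opens, shifts, the
  linear structure over a base ring).
* `SClass`: a "Serre class" of abelian groups with an endomorphism.
* `Hyp`, `HC`: the hypothesis on the coefficients and the conclusion on `Hom(E, K)`; formal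
  properties of `HC` (isomorphisms, triangles, sums, shifts, adjunctions with restrictions).
-/

set_option autoImplicit false
set_option linter.all false
set_option maxHeartbeats 1600000
set_option backward.isDefEq.respectTransparency false
set_option backward.isDefEq.respectTransparency.types false
set_option backward.defeqAttrib.useBackward true

universe u

open CategoryTheory CategoryTheory.Limits AlgebraicGeometry TopologicalSpace Opposite
open DerivedCategory CategoryTheory.Pretriangulated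

attribute [local instance] HasDerivedCategory.standard

namespace Groth.Agent.Lib.SerreHomL

open Groth.Agent.Lib Groth.Agent.Lib.DCohLocLead Groth.Agent.Lib.PerfLocL
open Groth.Agent.Lib.HomVanL Groth.Agent.Lib.CompQL

noncomputable section

/-! ### Multiplication by a global function -/

section Mul

variable {T : Scheme.{u}}

/-- multiplication by `r` on a complex -/
def ρCx (r : Coh.Γtop T) (C : CochainComplex T.Modules ℤ) : C ⟶ C where
  f i := Formal.smulModΓ (C.X i) r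
  comm' i j _ := (KLin.comp_smulModΓ (C.d i j) r).symm

theorem ρCx_comm (r : Coh.Γtop T) {C C' : CochainComplex T.Modules ℤ} (φ : C ⟶ C') :
    φ ≫ ρCx r C' = ρCx r C ≫ φ := by
  refine HomologicalComplex.hom_ext _ _ (fun i => ?_)
  exact KLin.comp_smulModΓ (φ.f i) r

/-- the natural endomorphism of `Q` induced by multiplication -/
def ρQ (r : Coh.Γtop T) : (DerivedCategory.Q (C := T.Modules)) ⟶ DerivedCategory.Q where
  app C := DerivedCategory.Q.map (ρCx r C)
  naturality C C' φ := by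
    rw [← CategoryTheory.Functor.map_comp, ← CategoryTheory.Functor.map_comp, ρCx_comm]

/-- multiplication by a global function on the derived category -/
def mulD (r : Coh.Γtop T) : 𝟭 (DCoh.D T) ⟶ 𝟭 (DCoh.D T) :=
  Localization.liftNatTrans DerivedCategory.Q
    (HomologicalComplex.quasiIso T.Modules (ComplexShape.up ℤ))
    DerivedCategory.Q DerivedCategory.Q (𝟭 _) (𝟭 _) (ρQ r)

theorem mulD_Q (r : Coh.Γtop T) (C : CochainComplex T.Modules ℤ) :
    (mulD r).app (DerivedCategory.Q.obj C) = DerivedCategory.Q.map (ρCx r C) := by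
  unfold mulD
  rw [Localization.liftNatTrans_app]
  show 𝟙 _ ≫ DerivedCategory.Q.map (ρCx r C) ≫ 𝟙 _ = _
  rw [Category.id_comp, Category.comp_id]

theorem mulD_comm (r : Coh.Γtop T) {K L : DCoh.D T} (φ : K ⟶ L) :
    φ ≫ (mulD r).app L = (mulD r).app K ≫ φ :=
  (mulD r).naturality φ

/-- a compatibility of natural endomorphisms can be checked on complexes -/
theorem map_app_of_Q {𝒞 : Type*} [Category 𝒞] (F : DCoh.D T ⥤ 𝒞)
    (μ : 𝟭 (DCoh.D T) ⟶ 𝟭 (DCoh.D T)) (μ' : 𝟭 𝒞 ⟶ 𝟭 𝒞)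
    (h : ∀ C : CochainComplex T.Modules ℤ,
      F.map (μ.app (DerivedCategory.Q.obj C)) = μ'.app (F.obj (DerivedCategory.Q.obj C)))
    (K : DCoh.D T) : F.map (μ.app K) = μ'.app (F.obj K) := by
  obtain ⟨C, ⟨e⟩⟩ : ∃ C : CochainComplex T.Modules ℤ, Nonempty (DerivedCategory.Q.obj C ≅ K) :=
    ⟨_, ⟨DerivedCategory.Q.objObjPreimageIso K⟩⟩
  have hn : e.hom ≫ μ.app K = μ.app (DerivedCategory.Q.obj C) ≫ e.hom := μ.naturality e.hom
  have h1 : μ.app K = e.inv ≫ μ.app (DerivedCategory.Q.obj C) ≫ e.hom := by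
    rw [← hn, Iso.inv_hom_id_assoc]
  have hn' : F.map e.hom ≫ μ'.app (F.obj K) =
      μ'.app (F.obj (DerivedCategory.Q.obj C)) ≫ F.map e.hom := μ'.naturality (F.map e.hom)
  rw [h1, F.map_comp, F.map_comp, h, ← hn', ← Category.assoc, ← F.map_comp, e.inv_hom_id]
  simp

/-- multiplication on modules, as a natural endomorphism -/
def ρM (r : Coh.Γtop T) : 𝟭 T.Modules ⟶ 𝟭 T.Modules where
  app N := Formal.smulModΓ N r
  naturality _ _ f := KLin.comp_smulModΓ f r

theorem homologyMap_ρCx (r : Coh.Γtop T) (C : CochainComplex T.Modules ℤ) (m : ℤ) :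
    HomologicalComplex.homologyMap (ρCx r C) m = Formal.smulModΓ (C.homology m) r := by
  have hc : HomologicalComplex.cyclesMap (ρCx r C) m = Formal.smulModΓ (C.cycles m) r := by
    rw [← cancel_mono (C.iCycles m), HomologicalComplex.cyclesMap_i]
    exact KLin.comp_smulModΓ (C.iCycles m) r
  rw [← cancel_epi (C.homologyπ m), HomologicalComplex.homologyπ_naturality, hc]
  exact (KLin.comp_smulModΓ (C.homologyπ m) r).symm

/-- **(a)** on cohomology sheaves, `mulD r` is multiplication by `r` -/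
theorem HD_map_mulD (r : Coh.Γtop T) (K : DCoh.D T) (m : ℤ) :
    (DerivedCategory.homologyFunctor T.Modules m).map ((mulD r).app K) =
      Formal.smulModΓ ((DerivedCategory.homologyFunctor T.Modules m).obj K) r := by
  refine map_app_of_Q (DerivedCategory.homologyFunctor T.Modules m) (mulD r) (ρM r) ?_ K
  intro C
  have hn := (DerivedCategory.homologyFunctorFactors T.Modules m).hom.naturality (ρCx r C)
  have hn' : (DerivedCategory.homologyFunctor T.Modules m).map
      (DerivedCategory.Q.map (ρCx r C)) ≫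
        (DerivedCategory.homologyFunctorFactors T.Modules m).hom.app C =
      (DerivedCategory.homologyFunctorFactors T.Modules m).hom.app C ≫
        HomologicalComplex.homologyMap (ρCx r C) m := hn
  rw [mulD_Q, ← cancel_mono ((DerivedCategory.homologyFunctorFactors T.Modules m).hom.app C),
    hn', homologyMap_ρCx]
  exact KLin.comp_smulModΓ _ r

/-- restriction of scalars along an open immersion, on sections -/
theorem scalar_restrict {Y : Scheme.{u}} (j : Y ⟶ T) [IsOpenImmersion j] (r : Γ(T, ⊤))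
    (U : Y.Opens) :
    (j.appIso U).inv.hom ((Y.presheaf.map (homOfLE (le_top : U ≤ ⊤)).op).hom (j.appTop.hom r)) =
      (T.presheaf.map (homOfLE (le_top : j ''ᵁ U ≤ ⊤)).op).hom r := by
  have h1 : ((j.appIso ⊤).inv ≫
      T.presheaf.map (j.opensFunctor.op.map (homOfLE (le_top : U ≤ ⊤)).op)).hom (j.appTop.hom r) =
      (j.appIso U).inv.hom
        ((Y.presheaf.map (homOfLE (le_top : U ≤ ⊤)).op).hom (j.appTop.hom r)) := by
    have := congrArg (fun φ => φ.hom (j.appTop.hom r))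
      (j.appIso_inv_naturality (homOfLE (le_top : U ≤ ⊤)).op)
    exact this.symm
  have h2 : (j.appIso ⊤).inv.hom (j.appTop.hom r) =
      (T.presheaf.map (homOfLE (le_top : j ''ᵁ ⊤ ≤ ⊤)).op).hom r := by
    have := congrArg (fun φ => φ.hom r) (j.app_appIso_inv ⊤)
    exact this
  rw [← h1]
  change (T.presheaf.map _).hom ((j.appIso ⊤).inv.hom (j.appTop.hom r)) = _
  rw [h2]
  change (T.presheaf.map _ ≫ T.presheaf.map _).hom r = _
  rw [← CategoryTheory.Functor.map_comp]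
  rfl

theorem restrict_map_smulModΓ {Y : Scheme.{u}} (j : Y ⟶ T) [IsOpenImmersion j] (M : T.Modules)
    (r : Coh.Γtop T) :
    (Scheme.Modules.restrictFunctor j).map (Formal.smulModΓ M r) =
      Formal.smulModΓ ((Scheme.Modules.restrictFunctor j).obj M) (j.appTop.hom r) := by
  refine Scheme.Modules.hom_ext _ _ fun U => ?_
  ext m
  change (Formal.smulModΓ M r).app (j ''ᵁ U) m =
    (Formal.smulModΓ ((Scheme.Modules.restrictFunctor j).obj M) (j.appTop.hom r)).app U m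
  rw [KLin.smulModΓ_app_apply, KLin.smulModΓ_app_apply]
  exact congrArg (fun t => t • (show Γ(M, j ''ᵁ U) from m)) (scalar_restrict j r U).symm

/-- **(b)** restriction to an open is compatible with `mulD` -/
theorem DD_map_mulD {Y : Scheme.{u}} (j : Y ⟶ T) [IsOpenImmersion j] (r : Coh.Γtop T)
    (K : DCoh.D T) :
    (DD j).map ((mulD r).app K) = (mulD (j.appTop.hom r)).app ((DD j).obj K) := by
  refine map_app_of_Q (DD j) (mulD r) (mulD (j.appTop.hom r)) ?_ K
  intro C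
  have h2 : (RC j).map (ρCx r C) = ρCx (j.appTop.hom r) ((RC j).obj C) := by
    refine HomologicalComplex.hom_ext _ _ (fun i => ?_)
    exact restrict_map_smulModΓ j (C.X i) r
  have hn := (Scheme.Modules.restrictFunctor j).mapDerivedCategoryFactors.hom.naturality (ρCx r C)
  have hn' : (DD j).map (DerivedCategory.Q.map (ρCx r C)) ≫ (facIso j C).hom =
      (facIso j C).hom ≫ DerivedCategory.Q.map ((RC j).map (ρCx r C)) := hn
  rw [mulD_Q, ← cancel_mono (facIso j C).hom, hn', h2, ← mulD_Q]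
  exact mulD_comm _ _

/-- **(d)** shifts are compatible with `mulD` -/
theorem shift_map_mulD (r : Coh.Γtop T) (K : DCoh.D T) (n : ℤ) :
    ((mulD r).app K)⟦n⟧' = (mulD r).app (K⟦n⟧) := by
  refine map_app_of_Q (shiftFunctor (DCoh.D T) n) (mulD r) (mulD r) ?_ K
  intro C
  have h2 : (ρCx r C)⟦n⟧' = ρCx r (C⟦n⟧) := by
    refine HomologicalComplex.hom_ext _ _ (fun i => ?_)
    rfl
  have hn := ((DerivedCategory.Q (C := T.Modules)).commShiftIso n).hom.naturality (ρCx r C)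
  have hn' : DerivedCategory.Q.map ((ρCx r C)⟦n⟧') ≫
      ((DerivedCategory.Q (C := T.Modules)).commShiftIso n).hom.app C =
      ((DerivedCategory.Q (C := T.Modules)).commShiftIso n).hom.app C ≫
        (DerivedCategory.Q.map (ρCx r C))⟦n⟧' := hn
  rw [mulD_Q, ← cancel_epi (((DerivedCategory.Q (C := T.Modules)).commShiftIso n).hom.app C),
    ← hn', h2, ← mulD_Q]
  exact (mulD_comm _ _).symm

end Mul

/-- **(c)** the linear structure over a base ring is given by `mulD` -/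
theorem smul_id_eq_mulD (A : Type u) [CommRing A] (X : Scheme.{u})
    [X.Over (Spec (CommRingCat.of A))] (a : A) (K : DCoh.D X) :
    a • 𝟙 K = (mulD (Coh.toGlobal (X ↘ Spec (CommRingCat.of A)) a)).app K := by
  let μ : 𝟭 (DCoh.D X) ⟶ 𝟭 (DCoh.D X) :=
    { app := fun K => a • 𝟙 K
      naturality := fun K L φ => by
        show φ ≫ (a • 𝟙 L) = (a • 𝟙 K) ≫ φ
        rw [Linear.comp_smul, Linear.smul_comp, Category.comp_id, Category.id_comp] }
  refine map_app_of_Q (𝟭 _) μ (mulD (Coh.toGlobal (X ↘ Spec (CommRingCat.of A)) a)) ?_ K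
  intro C
  show a • 𝟙 (DerivedCategory.Q.obj C) =
    (mulD (Coh.toGlobal (X ↘ Spec (CommRingCat.of A)) a)).app (DerivedCategory.Q.obj C)
  rw [mulD_Q, ← CategoryTheory.Functor.map_id, ← Functor.map_smul]
  congr 1

theorem smul_eq_comp_mulD (A : Type u) [CommRing A] (X : Scheme.{u})
    [X.Over (Spec (CommRingCat.of A))] (a : A) {E K : DCoh.D X} (φ : E ⟶ K) :
    a • φ = φ ≫ (mulD (Coh.toGlobal (X ↘ Spec (CommRingCat.of A)) a)).app K := by
  rw [← smul_id_eq_mulD, Linear.comp_smul, Category.comp_id]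

/-! ### Serre classes -/

/-- a class of abelian groups with an endomorphism, closed under extensions and finite
"jointly injective" families -/
structure SClass : Type (u + 2) where
  P : ∀ (G : Type (u + 1)) [AddCommGroup G], (G →+ G) → Prop
  P₀ : ∀ (G : Type u) [AddCommGroup G], (G →+ G) → Prop
  triv : ∀ {G : Type (u + 1)} [AddCommGroup G] (t : G →+ G), (∀ x : G, x = 0) → P G t
  ext : ∀ {G' G G'' : Type (u + 1)} [AddCommGroup G'] [AddCommGroup G] [AddCommGroup G'']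
    (t' : G' →+ G') (t : G →+ G) (t'' : G'' →+ G'') (f : G' →+ G) (g : G →+ G''),
    (∀ x, f (t' x) = t (f x)) → (∀ x, g (t x) = t'' (g x)) →
    (∀ x, g x = 0 → ∃ y, f y = x) → P G' t' → P G'' t'' → P G t
  fin_inj : ∀ {G : Type (u + 1)} {G0 : Type u} [AddCommGroup G] [AddCommGroup G0]
    (t : G →+ G) (t0 : G0 →+ G0) (n : ℕ) (g : Fin n → (G →+ G0)),
    (∀ j x, g j (t x) = t0 (g j x)) → (∀ x, (∀ j, g j x = 0) → x = 0) → P₀ G0 t0 → P G t
  fin_inj₁ : ∀ {G G1 : Type (u + 1)} [AddCommGroup G] [AddCommGroup G1]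
    (t : G →+ G) (t1 : G1 →+ G1) (n : ℕ) (g : Fin n → (G →+ G1)),
    (∀ j x, g j (t x) = t1 (g j x)) → (∀ x, (∀ j, g j x = 0) → x = 0) → P G1 t1 → P G t
  sub₀ : ∀ {G G' : Type u} [AddCommGroup G] [AddCommGroup G'] (t : G →+ G) (t' : G' →+ G')
    (e : G →+ G'), Function.Injective e → (∀ x, e (t x) = t' (e x)) → P₀ G' t' → P₀ G t

namespace SClass

variable (𝒮 : SClass.{u})

theorem of_inj {G G' : Type (u + 1)} [AddCommGroup G] [AddCommGroup G'] (t : G →+ G)
    (t' : G' →+ G') (g : G →+ G') (hg : Function.Injective g) (hc : ∀ x, g (t x) = t' (g x))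
    (h : 𝒮.P G' t') : 𝒮.P G t :=
  𝒮.fin_inj₁ t t' 1 (fun _ => g) (fun _ x => hc x)
    (fun x hx => hg ((hx 0).trans (map_zero g).symm)) h

theorem of_surj {G' G : Type (u + 1)} [AddCommGroup G'] [AddCommGroup G] (t' : G' →+ G')
    (t : G →+ G) (f : G' →+ G) (hf : Function.Surjective f) (hc : ∀ x, f (t' x) = t (f x))
    (h : 𝒮.P G' t') : 𝒮.P G t :=
  𝒮.ext t' t (0 : PUnit.{u + 2} →+ PUnit.{u + 2}) f (0 : G →+ PUnit.{u + 2}) hc
    (fun x => Subsingleton.elim _ _) (fun x _ => hf x) h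
    (𝒮.triv _ (fun x => Subsingleton.elim _ _))

end SClass

/-! ### The hypothesis on coefficients and the conclusion -/

section HC

variable {T : Scheme.{u}}

/-- sections of the cohomology sheaves over affine opens, with multiplication by `r`, belong to
the class -/
def Hyp (𝒮 : SClass.{u}) (r : Coh.Γtop T) (K : DCoh.D T) : Prop :=
  ∀ (V : T.Opens), IsAffineOpen V → ∀ m : ℤ,
    𝒮.P₀ (((DSectX.sdX T).Γ.obj (DCoh.HD K m)).obj.obj (op V))
      ((((DSectX.sdX T).Γ.map (Formal.smulModΓ (DCoh.HD K m) r)).hom.app (op V)).hom)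

/-- `Hom(E, K)` with post-composition by `r` belongs to the class, for all admissible `K` -/
def HC (𝒮 : SClass.{u}) (r : Coh.Γtop T) (E : DCoh.D T) : Prop :=
  ∀ K : DCoh.D T, DCoh.IsQCohD K → Hyp 𝒮 r K →
    𝒮.P (E ⟶ K) (Preadditive.rightComp E ((mulD r).app K))

variable {𝒮 : SClass.{u}} {r : Coh.Γtop T}

theorem Hyp.of_iso_HD {K K' : DCoh.D T}
    (h : ∀ m : ℤ, ∃ m' : ℤ, Nonempty (DCoh.HD K' m ≅ DCoh.HD K m')) (hy : Hyp 𝒮 r K) :
    Hyp 𝒮 r K' := by
  intro V hV m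
  obtain ⟨m', ⟨e⟩⟩ := h m
  refine 𝒮.sub₀ _ _ ((((DSectX.sdX T).Γ.map e.hom).hom.app (op V)).hom)
    (DSectL.bijective_Γ_of_isIso (DSectX.sdX T) e.hom V).1 ?_ (hy V hV m')
  intro x
  exact DSectL.sq_apply (DSectX.sdX T) (Formal.smulModΓ (DCoh.HD K' m) r) e.hom e.hom
    (Formal.smulModΓ (DCoh.HD K m') r) (KLin.comp_smulModΓ e.hom r).symm V x

theorem Hyp.shift {K : DCoh.D T} (hy : Hyp 𝒮 r K) (n : ℤ) : Hyp 𝒮 r (K⟦n⟧) :=
  Hyp.of_iso_HD (fun m =>
    ⟨n + m, ⟨((homologyFunctor T.Modules 0).shiftIso n m (n + m) rfl).app K⟩⟩) hy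

theorem Hyp.of_iso {K K' : DCoh.D T} (e : K ≅ K') (hy : Hyp 𝒮 r K) : Hyp 𝒮 r K' :=
  Hyp.of_iso_HD (fun m => ⟨m, ⟨(homologyFunctor T.Modules m).mapIso e.symm⟩⟩) hy

theorem Hyp.restrict {Y : Scheme.{u}} (j : Y ⟶ T) [IsOpenImmersion j] {K : DCoh.D T}
    (hy : Hyp 𝒮 r K) : Hyp 𝒮 (j.appTop.hom r) ((DD j).obj K) := by
  intro V hV m
  obtain ⟨e⟩ := nonempty_HD_restrict_iso j K m
  have h0 := hy (j ''ᵁ V) (hV.image_of_isOpenImmersion j) m
  refine 𝒮.sub₀ _ ((((DSectX.sdX Y).Γ.map (Formal.smulModΓ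
      ((Scheme.Modules.restrictFunctor j).obj (DCoh.HD K m)) (j.appTop.hom r))).hom.app (op V)).hom)
    ((((DSectX.sdX Y).Γ.map e.hom).hom.app (op V)).hom)
    (DSectL.bijective_Γ_of_isIso (DSectX.sdX Y) e.hom V).1 ?_ ?_
  · intro x
    exact DSectL.sq_apply (DSectX.sdX Y) (Formal.smulModΓ _ (j.appTop.hom r)) e.hom e.hom
      (Formal.smulModΓ _ (j.appTop.hom r)) (KLin.comp_smulModΓ e.hom (j.appTop.hom r)).symm V x
  · rw [← restrict_map_smulModΓ]
    exact h0

theorem hc_of_isZero {E : DCoh.D T} (h : IsZero E) : HC 𝒮 r E :=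
  fun K _ _ => 𝒮.triv _ (fun x => h.eq_of_src x 0)

theorem HC.congr_r {r' : Coh.Γtop T} (h : r = r') {E : DCoh.D T} (hE : HC 𝒮 r E) :
    HC 𝒮 r' E := h ▸ hE

theorem HC.of_iso {E E' : DCoh.D T} (a : E ≅ E') (h : HC 𝒮 r E) : HC 𝒮 r E' := by
  intro K hK hy
  refine 𝒮.of_inj _ _ (Preadditive.leftComp K a.hom) ?_ ?_ (h K hK hy)
  · intro φ ψ hφ
    exact (cancel_epi a.hom).1 hφ
  · intro φ
    show a.hom ≫ (φ ≫ _) = (a.hom ≫ φ) ≫ _
    rw [Category.assoc]

theorem HC.third (Tr : Triangle (DCoh.D T)) (hTr : Tr ∈ distTriang (DCoh.D T))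
    (h2 : HC 𝒮 r Tr.obj₂) (h1 : HC 𝒮 r (Tr.obj₁⟦(1 : ℤ)⟧)) : HC 𝒮 r Tr.obj₃ := by
  intro K hK hy
  refine 𝒮.ext _ _ _ (Preadditive.leftComp K Tr.mor₃) (Preadditive.leftComp K Tr.mor₂) ?_ ?_ ?_
    (h1 K hK hy) (h2 K hK hy)
  · intro ψ
    show Tr.mor₃ ≫ (ψ ≫ _) = (Tr.mor₃ ≫ ψ) ≫ _
    rw [Category.assoc]
  · intro φ
    show Tr.mor₂ ≫ (φ ≫ _) = (Tr.mor₂ ≫ φ) ≫ _
    rw [Category.assoc]
  · intro φ hφ
    obtain ⟨ψ, hψ⟩ := Triangle.yoneda_exact₃ Tr hTr φ hφ
    exact ⟨ψ, hψ.symm⟩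

theorem HC.biprod {A B : DCoh.D T} (hA : HC 𝒮 r A) (hB : HC 𝒮 r B) : HC 𝒮 r (A ⊞ B) := by
  intro K hK hy
  refine 𝒮.ext _ _ _ (Preadditive.leftComp K (biprod.snd : A ⊞ B ⟶ B))
    (Preadditive.leftComp K (biprod.inl : A ⟶ A ⊞ B)) ?_ ?_ ?_ (hB K hK hy) (hA K hK hy)
  · intro ψ
    show biprod.snd ≫ (ψ ≫ _) = (biprod.snd ≫ ψ) ≫ _
    rw [Category.assoc]
  · intro φ
    show biprod.inl ≫ (φ ≫ _) = (biprod.inl ≫ φ) ≫ _
    rw [Category.assoc]
  · intro φ hφ
    have hφ' : biprod.inl ≫ φ = 0 := hφ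
    refine ⟨biprod.inr ≫ φ, ?_⟩
    show biprod.snd ≫ biprod.inr ≫ φ = φ
    calc biprod.snd ≫ biprod.inr ≫ φ
        = (biprod.fst ≫ biprod.inl + biprod.snd ≫ biprod.inr) ≫ φ := by
          rw [Preadditive.add_comp, Category.assoc, Category.assoc, hφ', comp_zero, zero_add]
      _ = φ := by rw [biprod.total, Category.id_comp]

theorem HC.shift {E : DCoh.D T} (h : HC 𝒮 r E) (n : ℤ) : HC 𝒮 r (E⟦n⟧) := by
  intro K hK hy
  let c : (K⟦-n⟧)⟦n⟧ ≅ K := (shiftFunctorCompIsoId (DCoh.D T) (-n) n (by omega)).app K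
  have h0 := h (K⟦-n⟧) (isQCohD_shift K hK (-n)) (hy.shift (-n))
  refine 𝒮.of_surj _ _
    ((Preadditive.rightComp (E⟦n⟧) c.hom).comp (shiftFunctor (DCoh.D T) n).mapAddHom) ?_ ?_ h0
  · intro φ
    obtain ⟨ψ, hψ⟩ := (shiftFunctor (DCoh.D T) n).map_surjective (φ ≫ c.inv)
    refine ⟨ψ, ?_⟩
    show ψ⟦n⟧' ≫ c.hom = φ
    rw [hψ, Category.assoc, Iso.inv_hom_id, Category.comp_id]
  · intro ψ
    show (ψ ≫ (mulD r).app (K⟦-n⟧))⟦n⟧' ≫ c.hom = (ψ⟦n⟧' ≫ c.hom) ≫ (mulD r).app K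
    rw [CategoryTheory.Functor.map_comp, shift_map_mulD, Category.assoc, Category.assoc,
      mulD_comm]

theorem HC.of_adj_DD {Y : Scheme.{u}} (j : Y ⟶ T) [IsOpenImmersion j]
    {L : DCoh.D Y ⥤ DCoh.D T} (adj : L ⊣ DD j) {E : DCoh.D Y}
    (h : HC 𝒮 (j.appTop.hom r) E) : HC 𝒮 r (L.obj E) := by
  intro K hK hy
  have h0 := h ((DD j).obj K) (LpullQCL.isQCohD_restrictD j K hK) (hy.restrict j)
  refine 𝒮.of_inj _ _
    ((Preadditive.leftComp _ (adj.unit.app E)).comp (DD j).mapAddHom) ?_ ?_ h0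
  · intro φ ψ hφψ
    apply (adj.homEquiv E K).injective
    rw [Adjunction.homEquiv_unit, Adjunction.homEquiv_unit]
    exact hφψ
  · intro φ
    show adj.unit.app E ≫ (DD j).map (φ ≫ (mulD r).app K) =
      (adj.unit.app E ≫ (DD j).map φ) ≫ (mulD (j.appTop.hom r)).app ((DD j).obj K)
    rw [CategoryTheory.Functor.map_comp, DD_map_mulD, Category.assoc]

theorem HC.of_iso_scheme {T₁ T₂ : Scheme.{u}} (α : T₁ ⟶ T₂) [IsIso α] {r : Coh.Γtop T₂}
    {K : DCoh.D T₂} (h : HC 𝒮 r K) : HC 𝒮 (α.appTop.hom r) ((DD α).obj K) := by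
  obtain ⟨adj'⟩ := nonempty_adj_DD_iso α
  refine HC.of_adj_DD (inv α) adj' (HC.congr_r ?_ h)
  have h1 : α.appTop ≫ (inv α).appTop = 𝟙 _ := by
    rw [← Scheme.Hom.comp_appTop, IsIso.inv_hom_id, Scheme.Hom.id_appTop]
  exact (congrArg (fun φ => φ.hom r) h1).symm

end HC

end

end Groth.Agent.Lib.SerreHomL
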