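import Mathlib
import Groth.Prelude
import Groth.Agent.Lib.SerreHom1_lead

/-!
# Serre classes of `Hom` groups out of perfect complexes, II (lead)

The Mayer-Vietoris induction: for a perfect object `E` of `D(O_X)`, `X` quasi-separated, and a
quasi-compact open `S`, the groups `Hom(E|_S, K)` belong to a Serre class as soon as the sections
of the cohomology sheaves of `K` over affine opens do (`hcon_of_isCompact`, `hc_of_isPerfect`).
-/

set_option autoImplicit false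
set_option linter.all false
set_option maxHeartbeats 1600000
set_option backward.isDefEq.respectTransparency false
set_option backward.isDefEq.respectTransparency.types false
set_option backward.defeqAttrib.useBackward true

universe u

open CategoryTheory CategoryTheory.Limits AlgebraicGeometry TopologicalSpace Opposite
open DerivedCategory CategoryTheory.Pretriangulated

attribute [local instance] HasDerivedCategory.standard

namespace Groth.Agent.Lib.SerreHomL

open Groth.Agent.Lib Groth.Agent.Lib.DCohLocLead Groth.Agent.Lib.PerfLocL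
open Groth.Agent.Lib.HomVanL Groth.Agent.Lib.CompQL

noncomputable section

attribute [local instance] rpushI lpullI

variable {𝒮 : SClass.{u}}

/-- Mayer-Vietoris for `HC` -/
theorem hc_of_cover {T : Scheme.{u}} (U V : T.Opens) (hUV : U ⊔ V = ⊤) (r : Coh.Γtop T)
    (E : DCoh.D T)
    (hU : HC (T := (U : Scheme.{u})) 𝒮 (U.ι.appTop.hom r) ((DD U.ι).obj E))
    (hV : HC (T := (V : Scheme.{u})) 𝒮 (V.ι.appTop.hom r) ((DD V.ι).obj E))
    (hI : HC (T := ((U ⊓ V : T.Opens) : Scheme.{u})) 𝒮 ((U ⊓ V).ι.appTop.hom r)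
      ((DD (U ⊓ V).ι).obj E)) : HC 𝒮 r E := by
  have key : ∀ W : T.Opens, HC (T := (W : Scheme.{u})) 𝒮 (W.ι.appTop.hom r) ((DD W.ι).obj E) →
      HC 𝒮 r ((CxOX.extZeroD W.ι).obj ((DCoh.restrictD W.ι).obj E)) :=
    fun W hW => HC.of_adj_DD W.ι (ApproxOpenL.adjShriek W) hW
  obtain ⟨a, b, c, hT⟩ := StalkSkyL.main6513 U V hUV E
  exact HC.third (Triangle.mk a b c) hT (HC.biprod (key U hU) (key V hV))
    ((key (U ⊓ V) hI).shift (1 : ℤ))

/-! ### The affine base case -/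

theorem hc_PX_top (T : Scheme.{u}) [IsAffine T] (r : Coh.Γtop T) :
    HC 𝒮 r ((singleFunctor T.Modules 0).obj ((DSectX.PX T).obj ⊤)) := by
  intro K hK hy
  have hb := DSectX.etaX_bijective T K (fun j _ => hK j) ⊤ (isAffineOpen_top T)
  refine 𝒮.fin_inj _ _ 1 (fun _ => DSectL.etaA (DSectX.sdX T) K ⊤) ?_ ?_
    (hy ⊤ (isAffineOpen_top T) 0)
  · intro _ φ
    show DSectL.etaA (DSectX.sdX T) K ⊤ (φ ≫ (mulD r).app K) = _
    rw [DSectL.etaA_comp, HD_map_mulD]
    rfl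
  · intro φ hφ
    exact hb.1 ((hφ 0).trans (map_zero _).symm)

theorem hc_sgl_unit (T : Scheme.{u}) [IsAffine T] (r : Coh.Γtop T) (k : ℤ) :
    HC 𝒮 r (sgl T k (Coh.structureModule T)) := by
  have h0 : HC 𝒮 r (DCoh.inD T (Coh.structureModule T)) :=
    (hc_PX_top T r).of_iso ((singleFunctor T.Modules 0).mapIso (rho T))
  obtain ⟨c⟩ := PerfLocL.nonempty_sgl_shift k (Coh.structureModule T)
  exact (h0.shift (-k)).of_iso c.symm

theorem hc_sgl_free (T : Scheme.{u}) [IsAffine T] (r : Coh.Γtop T) (k : ℤ) (n : ℕ)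
    (M : T.Modules) (α : M ≅ FlatMod.freeMod T n) :
    HC 𝒮 r ((singleFunctor T.Modules k).obj M) := by
  intro K hK hy
  have hu := hc_sgl_unit (𝒮 := 𝒮) T r k K hK hy
  have h1 : 𝟙 M = ∑ i : Fin n, (α.hom ≫ SDivFreeH8.projM i) ≫ (SDivFreeH8.ιM i ≫ α.inv) := by
    calc 𝟙 M = α.hom ≫ 𝟙 (FlatMod.freeMod _ n) ≫ α.inv := by simp
      _ = α.hom ≫ (∑ i : Fin n, SDivFreeH8.projM i ≫ SDivFreeH8.ιM i) ≫ α.inv := by
          rw [← SDivFreeH8.id_eq_sumM]
      _ = _ := by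
          rw [Preadditive.sum_comp, Preadditive.comp_sum]
          exact Finset.sum_congr rfl (fun i _ => by simp only [Category.assoc])
  refine 𝒮.fin_inj₁ _ _ n (fun i => Preadditive.leftComp K
    ((singleFunctor T.Modules k).map (SDivFreeH8.ιM i ≫ α.inv))) ?_ ?_ hu
  · intro i φ
    show (singleFunctor T.Modules k).map (SDivFreeH8.ιM i ≫ α.inv) ≫ (φ ≫ _) =
      ((singleFunctor T.Modules k).map (SDivFreeH8.ιM i ≫ α.inv) ≫ φ) ≫ _
    rw [Category.assoc]
  · intro φ hφ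
    have h3 : φ = (singleFunctor T.Modules k).map (𝟙 M) ≫ φ := by
      rw [CategoryTheory.Functor.map_id, Category.id_comp]
    rw [h3, h1, Functor.map_sum, Preadditive.sum_comp]
    refine Finset.sum_eq_zero (fun i _ => ?_)
    have h4 : (singleFunctor T.Modules k).map (SDivFreeH8.ιM i ≫ α.inv) ≫ φ = 0 := hφ i
    rw [CategoryTheory.Functor.map_comp, Category.assoc, h4, comp_zero]

theorem hc_of_affine_strictlyFree (S : Scheme.{u}) [IsAffine S] (r : Coh.Γtop S)
    (P : CochainComplex S.Modules ℤ) (hP : IsStrictlyFree P) : HC 𝒮 r (Q.obj P) := by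
  obtain ⟨⟨a, b, hv⟩, hfr⟩ := hP
  refine HomVanL.bounded_induction (A := S.Modules) (fun Z => HC 𝒮 r Z) ?_ ?_ ?_
    (fun _ X => IsZero X ∨ ∃ n : ℕ, Nonempty (X ≅ FlatMod.freeMod S n)) ?_ ?_ ?_
    (b + 1 - a).toNat a P ?_ ?_ ?_
  · intro K K' e h
    exact h.of_iso e
  · intro K hK
    exact hc_of_isZero hK
  · intro T hT h1 h3
    have hT' := inv_rot_of_distTriang _ hT
    exact HC.third T.invRotate hT' h1
      (h3.of_iso ((shiftFunctorCompIsoId (DCoh.D S) (-1 : ℤ) 1 (by omega)).app T.obj₃).symm)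
  · intro i X hX
    exact Or.inl hX
  · intro i X Y e hX
    rcases hX with hX | ⟨n, ⟨c⟩⟩
    · exact Or.inl (hX.of_iso e.symm)
    · exact Or.inr ⟨n, ⟨e.symm ≪≫ c⟩⟩
  · intro i X hX
    rcases hX with hX | ⟨n, ⟨c⟩⟩
    · exact hc_of_isZero ((singleFunctor _ i).map_isZero hX)
    · exact hc_sgl_free S r i n X c
  · intro i
    exact Or.inr (hfr i)
  · intro i hi
    exact hv i (Or.inl hi)
  · intro i hi
    have := Int.self_le_toNat (b + 1 - a)
    exact hv i (Or.inr (by omega))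

/-! ### The induction over quasi-compact opens -/

/-- `HC` for the restriction to an open -/
def HCon (𝒮 : SClass.{u}) {X : Scheme.{u}} (r : Coh.Γtop X) (E : DCoh.D X) (S : X.Opens) :
    Prop :=
  HC (T := (S : Scheme.{u})) 𝒮 (S.ι.appTop.hom r) ((DD S.ι).obj E)

theorem HCon.sup {X : Scheme.{u}} {r : Coh.Γtop X} {E : DCoh.D X} {U V : X.Opens}
    (hU : HCon 𝒮 r E U) (hV : HCon 𝒮 r E V) (hI : HCon 𝒮 r E (U ⊓ V)) :
    HCon 𝒮 r E (U ⊔ V) := by
  let Wo : X.Opens := U ⊔ V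
  let U' : (Wo : Scheme.{u}).Opens := Wo.ι ⁻¹ᵁ U
  let V' : (Wo : Scheme.{u}).Opens := Wo.ι ⁻¹ᵁ V
  have hcov : U' ⊔ V' = ⊤ := by
    rw [eq_top_iff]
    rintro x -
    have hx : (Wo.ι x) ∈ U ⊔ V := x.2
    rcases hx with hx | hx
    · exact Or.inl hx
    · exact Or.inr hx
  have rU := RpushQCL.range_eq_of Wo U U' le_sup_left (fun y => Iff.rfl)
  have rV := RpushQCL.range_eq_of Wo V V' le_sup_right (fun y => Iff.rfl)
  have rI := RpushQCL.range_eq_of Wo (U ⊓ V) (U' ⊓ V') (inf_le_left.trans le_sup_left)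
    (fun y => Iff.rfl)
  have key : ∀ (O : X.Opens) (O' : (Wo : Scheme.{u}).Opens)
      (rr : Set.range (O'.ι ≫ Wo.ι) = Set.range O.ι),
      HC (T := (O : Scheme.{u})) 𝒮 (O.ι.appTop.hom r) ((DD O.ι).obj E) →
      HC (T := (O' : Scheme.{u})) 𝒮 (O'.ι.appTop.hom (Wo.ι.appTop.hom r))
        ((DD O'.ι).obj ((DD Wo.ι).obj E)) := by
    intro O O' rr h
    have hα : (IsOpenImmersion.isoOfRangeEq (O'.ι ≫ Wo.ι) O.ι rr).hom ≫ O.ι = O'.ι ≫ Wo.ι :=
      IsOpenImmersion.isoOfRangeEq_hom_fac _ _ rr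
    obtain ⟨c1⟩ := nonempty_DD_comp_iso O'.ι Wo.ι E
    obtain ⟨c2⟩ := nonempty_DD_congr hα E
    obtain ⟨c3⟩ := nonempty_DD_comp_iso
      (IsOpenImmersion.isoOfRangeEq (O'.ι ≫ Wo.ι) O.ι rr).hom O.ι E
    have h1 := HC.of_iso_scheme (IsOpenImmersion.isoOfRangeEq (O'.ι ≫ Wo.ι) O.ι rr).hom h
    have hr : (IsOpenImmersion.isoOfRangeEq (O'.ι ≫ Wo.ι) O.ι rr).hom.appTop.hom
        (O.ι.appTop.hom r) = O'.ι.appTop.hom (Wo.ι.appTop.hom r) := by
      have h2 : O.ι.appTop ≫ (IsOpenImmersion.isoOfRangeEq (O'.ι ≫ Wo.ι) O.ι rr).hom.appTop =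
          Wo.ι.appTop ≫ O'.ι.appTop := by
        rw [← Scheme.Hom.comp_appTop, ← Scheme.Hom.comp_appTop, hα]
      exact congrArg (fun φ => φ.hom r) h2
    exact (HC.congr_r hr h1).of_iso (c3.symm ≪≫ c2 ≪≫ c1)
  exact hc_of_cover U' V' hcov _ _ (key U U' rU hU) (key V V' rV hV)
    (key (U ⊓ V) (U' ⊓ V') rI hI)

theorem hcon_of_good {X : Scheme.{u}} [QuasiSeparatedSpace X] (r : Coh.Γtop X) (E : DCoh.D X)
    (O : X.Opens) (hO : IsCompact (O : Set X)) (hg : GoodOpen E O) : HCon 𝒮 r E O := by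
  refine RpushQCL.qcqs_induction (fun O => GoodOpen E O → HCon 𝒮 r E O) ?_ ?_ O hO hg
  · intro U hU hgU
    haveI : IsAffine (U : Scheme.{u}) := hU
    obtain ⟨P, hP, ⟨e⟩⟩ := hgU
    exact HC.of_iso e.symm (hc_of_affine_strictlyFree (U : Scheme.{u}) _ P hP)
  · intro U V hU hV hI hg'
    exact HCon.sup (hU (hg'.of_le le_sup_left)) (hV (hg'.of_le le_sup_right))
      (hI (hg'.of_le (inf_le_left.trans le_sup_left)))

theorem hcon_bot {X : Scheme.{u}} (r : Coh.Γtop X) (E : DCoh.D X) : HCon 𝒮 r E ⊥ := by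
  apply hc_of_isZero
  apply MVPushL.isZero_of_forall_isZero_homology
  intro i
  exact isZero_of_isZero_restrict (DCoh.HD ((DD (⊥ : X.Opens).ι).obj E) i)
    (fun e : Empty => e.elim) (fun x => False.elim x.2) (fun e => e.elim)

theorem hcon_of_isCompact {X : Scheme.{u}} [QuasiSeparatedSpace X] (r : Coh.Γtop X)
    (E : DCoh.D X) (hE : DCoh.IsPerfect E) (S : X.Opens) (hS : IsCompact (S : Set X)) :
    HCon 𝒮 r E S := by
  classical
  choose W hWaff hxW hWS hWg using fun x : S => exists_good_nhd E hE S x.1 x.2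
  obtain ⟨t, ht⟩ := hS.elim_finite_subcover (fun x : S => ((W x : X.Opens) : Set X))
    (fun x => (W x).isOpen) (fun x hx => Set.mem_iUnion.2 ⟨⟨x, hx⟩, hxW ⟨x, hx⟩⟩)
  have key : ∀ t' : Finset S, IsCompact ((t'.sup W : X.Opens) : Set X) ∧
      HCon 𝒮 r E (t'.sup W) := by
    intro t'
    induction t' using Finset.induction_on with
    | empty =>
      rw [Finset.sup_empty]
      exact ⟨by simp, hcon_bot r E⟩
    | insert x t' hx ih =>
      rw [Finset.sup_insert]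
      obtain ⟨hc, hv⟩ := ih
      have hcW : IsCompact ((W x : X.Opens) : Set X) := (hWaff x).isCompact
      have hcI : IsCompact ((W x ⊓ t'.sup W : X.Opens) : Set X) :=
        QuasiSeparatedSpace.inter_isCompact _ _ (W x).isOpen hcW (t'.sup W).isOpen hc
      exact ⟨hcW.union hc, HCon.sup (hcon_of_good r E _ hcW (hWg x)) hv
        (hcon_of_good r E _ hcI ((hWg x).of_le inf_le_left))⟩
  have hEq : t.sup W = S := by
    apply le_antisymm
    · exact Finset.sup_le (fun x _ => hWS x)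
    · intro y hy
      obtain ⟨x, hx⟩ := Set.mem_iUnion.1 (ht hy)
      obtain ⟨hxt, hyx⟩ := Set.mem_iUnion.1 hx
      exact (Finset.le_sup hxt : W x ≤ t.sup W) hyx
  rw [← hEq]
  exact (key t).2

/-- **the generic theorem** on a quasi-compact quasi-separated scheme -/
theorem hc_of_isPerfect {X : Scheme.{u}} [CompactSpace X] [QuasiSeparatedSpace X]
    (r : Coh.Γtop X) (E : DCoh.D X) (hE : DCoh.IsPerfect E) : HC 𝒮 r E := by
  have h : HCon 𝒮 r E ⊤ := hcon_of_isCompact r E hE ⊤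
    (by simpa using CompactSpace.isCompact_univ (X := X))
  obtain ⟨c1⟩ := nonempty_DD_comp_iso X.topIso.inv (⊤ : X.Opens).ι E
  obtain ⟨c2⟩ := nonempty_DD_congr X.toIso_inv_ι E
  obtain ⟨c3⟩ := nonempty_DD_id E
  have h1 := HC.of_iso_scheme X.topIso.inv h
  have hr : X.topIso.inv.appTop.hom ((⊤ : X.Opens).ι.appTop.hom r) = r := by
    have h2 : (⊤ : X.Opens).ι.appTop ≫ X.topIso.inv.appTop = 𝟙 _ := by
      rw [← Scheme.Hom.comp_appTop, X.toIso_inv_ι, Scheme.Hom.id_appTop]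
    exact congrArg (fun φ => φ.hom r) h2
  exact (HC.congr_r hr h1).of_iso (c1.symm ≪≫ c2 ≪≫ c3)

end

end Groth.Agent.Lib.SerreHomL
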