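import Mathlib
import Groth.Prelude
import Groth.Agent.Lib.SerreHom2_lead
import Groth.Agent.Lib.QCohCrit_helper9

/-!
# Serre classes of `Hom` groups out of perfect complexes, III (lead)

Applications: the class of countable groups (`main1099`) and the class of groups on which the
endomorphism is locally nilpotent (`main7276`).
-/

set_option autoImplicit false
set_option linter.all false
set_option maxHeartbeats 1600000
set_option backward.isDefEq.respectTransparency false
set_option backward.isDefEq.respectTransparency.types false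
set_option backward.defeqAttrib.useBackward true

universe u

open CategoryTheory CategoryTheory.Limits AlgebraicGeometry TopologicalSpace Opposite
open DerivedCategory CategoryTheory.Pretriangulated

attribute [local instance] HasDerivedCategory.standard

namespace Groth.Agent.Lib.SerreHomL

open Groth.Agent.Lib Groth.Agent.Lib.DCohLocLead Groth.Agent.Lib.PerfLocL
open Groth.Agent.Lib.HomVanL Groth.Agent.Lib.CompQL

noncomputable section

/-! ### The class of countable groups -/

theorem countable_of_exact {G' G G'' : Type*} [AddCommGroup G'] [AddCommGroup G]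
    [AddCommGroup G''] (f : G' →+ G) (g : G →+ G'')
    (hex : ∀ x, g x = 0 → ∃ y, f y = x) [Countable G'] [Countable G''] : Countable G := by
  classical
  let σ : G'' → G := fun z => if hz : ∃ x, g x = z then hz.choose else 0
  have hσ : ∀ x, g (σ (g x)) = g x := fun x => by
    have hz : ∃ x', g x' = g x := ⟨x, rfl⟩
    simp only [σ, dif_pos hz]
    exact hz.choose_spec
  have hk : ∀ x, ∃ y, f y = x - σ (g x) := fun x =>
    hex _ (by rw [map_sub, hσ, sub_self])
  choose τ hτ using hk
  have hinj : Function.Injective (fun x => (g x, τ x)) := by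
    intro x x' hxx
    have h1 : g x = g x' := congrArg Prod.fst hxx
    have h2 : τ x = τ x' := congrArg Prod.snd hxx
    calc x = f (τ x) + σ (g x) := by rw [hτ x]; abel
      _ = f (τ x') + σ (g x') := by rw [h2, h1]
      _ = x' := by rw [hτ x']; abel
  exact hinj.countable

theorem countable_of_fin_inj {G G0 : Type*} [AddCommGroup G] [AddCommGroup G0] (n : ℕ)
    (g : Fin n → (G →+ G0)) (hinj : ∀ x, (∀ j, g j x = 0) → x = 0) [Countable G0] :
    Countable G := by
  have h : Function.Injective (fun x : G => fun j => g j x) := by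
    intro x x' hxx
    have h1 : ∀ j, g j (x - x') = 0 := fun j => by
      rw [map_sub, sub_eq_zero]
      exact congrFun hxx j
    exact sub_eq_zero.1 (hinj _ h1)
  exact h.countable

/-- the class of countable groups -/
def cntClass : SClass.{u} where
  P G _ _ := Countable G
  P₀ G _ _ := Countable G
  triv {G} _ t h := by
    haveI : Subsingleton G := ⟨fun a b => (h a).trans (h b).symm⟩
    infer_instance
  ext t' t t'' f g _ _ hex h' h'' := by
    haveI := h'
    haveI := h''
    exact countable_of_exact f g hex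
  fin_inj t t0 n g _ hinj h0 := by
    haveI := h0
    exact countable_of_fin_inj n g hinj
  fin_inj₁ t t1 n g _ hinj h1 := by
    haveI := h1
    exact countable_of_fin_inj n g hinj
  sub₀ t t' e he _ h := by
    haveI := h
    exact he.countable

/-! ### The class of groups with locally nilpotent endomorphism -/

theorem iter_comm {G G' : Type*} [AddCommGroup G] [AddCommGroup G'] (g : G →+ G') (t : G →+ G)
    (t' : G' →+ G') (h : ∀ x, g (t x) = t' (g x)) (n : ℕ) (x : G) :
    g ((⇑t)^[n] x) = (⇑t')^[n] (g x) :=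
  (Function.Semiconj.iterate_right (f := ⇑g) (ga := ⇑t) (gb := ⇑t') h n).eq x

theorem iter_zero {G : Type*} [AddCommGroup G] (t : G →+ G) (d : ℕ) : (⇑t)^[d] 0 = 0 :=
  Function.iterate_fixed (map_zero t) d

theorem tors_of_fin_inj {G G0 : Type*} [AddCommGroup G] [AddCommGroup G0] (t : G →+ G)
    (t0 : G0 →+ G0) (n : ℕ) (g : Fin n → (G →+ G0)) (hc : ∀ j x, g j (t x) = t0 (g j x))
    (hinj : ∀ x, (∀ j, g j x = 0) → x = 0) (h0 : ∀ x : G0, ∃ k : ℕ, (⇑t0)^[k] x = 0) (x : G) :
    ∃ k : ℕ, (⇑t)^[k] x = 0 := by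
  choose k hk using fun j => h0 (g j x)
  refine ⟨Finset.univ.sup k, ?_⟩
  apply hinj
  intro j
  rw [iter_comm (g j) t t0 (hc j)]
  have hle : k j ≤ Finset.univ.sup k := Finset.le_sup (Finset.mem_univ j)
  obtain ⟨d, hd⟩ := Nat.exists_eq_add_of_le hle
  rw [hd, Nat.add_comm, Function.iterate_add_apply, hk j, iter_zero]

/-- the class of groups on which the endomorphism is locally nilpotent -/
def torsClass : SClass.{u} where
  P G _ t := ∀ x : G, ∃ n : ℕ, (⇑t)^[n] x = 0
  P₀ G _ t := ∀ x : G, ∃ n : ℕ, (⇑t)^[n] x = 0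
  triv t h := fun x => ⟨0, h _⟩
  ext t' t t'' f g hf hg hex h' h'' := by
    intro x
    obtain ⟨n, hn⟩ := h'' (g x)
    have h1 : g ((⇑t)^[n] x) = 0 := by rw [iter_comm g t t'' hg, hn]
    obtain ⟨y, hy⟩ := hex _ h1
    obtain ⟨m, hm⟩ := h' y
    refine ⟨m + n, ?_⟩
    rw [Function.iterate_add_apply, ← hy, ← iter_comm f t' t hf, hm, map_zero]
  fin_inj t t0 n g hc hinj h0 := tors_of_fin_inj t t0 n g hc hinj h0
  fin_inj₁ t t1 n g hc hinj h1 := tors_of_fin_inj t t1 n g hc hinj h1
  sub₀ t t' e he hc h := fun x => by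
    obtain ⟨n, hn⟩ := h (e x)
    exact ⟨n, he (by rw [iter_comm e t t' hc, hn, map_zero])⟩

/-! ### Countability of `Hom` groups -/

theorem main1099 (X : Scheme.{u}) [QuasiSeparatedSpace ↥X]
    (K : DCoh.D X) (hK : DCoh.IsQCohD K)
    (hKc : ∀ V : X.Opens, IsAffineOpen V → ∀ i : ℤ,
      Countable ((DCoh.HD K i).val.obj (op V)))
    (E : DCoh.D X) (hE : DCoh.IsPerfect E) (U : X.Opens) (hU : IsCompact (U : Set X)) (i : ℤ) :
    Countable ((DD U.ι).obj E ⟶ ((DD U.ι).obj K)⟦i⟧) := by
  have hy : Hyp cntClass (0 : Coh.Γtop X) K := fun V hV m => hKc V hV m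
  have h := hcon_of_isCompact (𝒮 := cntClass) (0 : Coh.Γtop X) E hE U hU
  exact h (((DD U.ι).obj K)⟦i⟧) (isQCohD_shift _ (LpullQCL.isQCohD_restrictD U.ι K hK) i)
    ((hy.restrict U.ι).shift i)

/-! ### Powers of a function kill maps to objects supported on its zero locus -/

/-- A section over an open set missing the support is zero. -/
theorem section_eq_zero_of_notMem_support {X : Scheme.{u}} (F : X.Modules) {V : X.Opens}
    (h : ∀ x ∈ V, x ∉ CohB1.support F) (s : Γ(F, V)) : s = 0 := by
  refine TopCat.Presheaf.section_ext ⟨F.presheaf, F.isSheaf⟩ V s 0 (fun x hx => ?_)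
  have hsub : Subsingleton (F.presheaf.stalk x) := not_not.mp (h x hx)
  exact Subsingleton.elim _ _

theorem tors_of_support {X : Scheme.{u}} (M : X.Modules) [M.IsQuasicoherent] (r : Γ(X, ⊤))
    (hsupp : CohB1.support M ⊆ (X.zeroLocus (U := ⊤) {r} : Set X)) (V : X.Opens)
    (hV : IsAffineOpen V) (x : Γ(M, V)) :
    ∃ n : ℕ, ((X.presheaf.map (homOfLE (le_top : V ≤ ⊤)).op).hom r) ^ n • x = 0 := by
  have hloc := QCohCrit.locOnU_of_isQuasicoherent M hV
    ((X.presheaf.map (homOfLE (le_top : V ≤ ⊤)).op).hom r)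
  apply hloc.ker
  apply section_eq_zero_of_notMem_support M
  intro y hy hys
  have h1 : y ∈ X.zeroLocus (U := ⊤) {r} := hsupp hys
  rw [Scheme.mem_zeroLocus_iff] at h1
  have h2 : y ∉ X.basicOpen r := h1 r (Set.mem_singleton _)
  apply h2
  have h3 : X.basicOpen ((X.presheaf.map (homOfLE (le_top : V ≤ ⊤)).op).hom r) =
      V ⊓ X.basicOpen r := Scheme.basicOpen_res X r (homOfLE (le_top : V ≤ ⊤)).op
  rw [h3] at hy
  exact hy.2

theorem hyp_tors {X : Scheme.{u}} (K : DCoh.D X) (hK : DCoh.IsQCohD K) (r : Coh.Γtop X)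
    (hsupp : ∀ i : ℤ, CohB1.support (DCoh.HD K i) ⊆ (X.zeroLocus (U := ⊤) {r} : Set X)) :
    Hyp torsClass r K := by
  intro V hV m x
  haveI : (DCoh.HD K m).IsQuasicoherent := hK m
  obtain ⟨n, hn⟩ := tors_of_support (DCoh.HD K m) r (hsupp m) V hV x
  refine ⟨n, ?_⟩
  have key : ∀ k : ℕ,
      (⇑((((DSectX.sdX X).Γ.map (Formal.smulModΓ (DCoh.HD K m) r)).hom.app (op V)).hom))^[k] x =
        ((X.presheaf.map (homOfLE (le_top : V ≤ ⊤)).op).hom r) ^ k •
          (show Γ(DCoh.HD K m, V) from x) := by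
    intro k
    induction k with
    | zero => simp
    | succ k ih =>
      rw [Function.iterate_succ_apply', ih, pow_succ', mul_smul]
      rfl
  rw [key]
  exact hn

theorem main7276 (A : Type u) [CommRing A] (X : Scheme.{u})
    [X.Over (Spec (CommRingCat.of A))] [CompactSpace ↥X] [QuasiSeparatedSpace ↥X] (a : A)
    {E E' : DCoh.D X} (hE : DCoh.IsPerfect E) (hE'q : DCoh.IsQCohD E')
    (hsupp : ∀ i : ℤ, CohB1.support (DCoh.HD E' i) ⊆
      (X.zeroLocus (U := ⊤) {Coh.toGlobal (X ↘ Spec (CommRingCat.of A)) a} : Set X))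
    (α : E ⟶ E') : ∃ n : ℕ, (a ^ n) • α = 0 := by
  have h := hc_of_isPerfect (𝒮 := torsClass) (Coh.toGlobal (X ↘ Spec (CommRingCat.of A)) a) E hE
    E' hE'q (hyp_tors E' hE'q _ hsupp)
  obtain ⟨n, hn⟩ := h α
  refine ⟨n, ?_⟩
  have key : ∀ k : ℕ, (⇑(Preadditive.rightComp E
      ((mulD (Coh.toGlobal (X ↘ Spec (CommRingCat.of A)) a)).app E')))^[k] α = (a ^ k) • α := by
    intro k
    induction k with
    | zero => simp
    | succ k ih =>
      rw [Function.iterate_succ_apply', ih]
      show ((a ^ k) • α) ≫ (mulD (Coh.toGlobal (X ↘ Spec (CommRingCat.of A)) a)).app E' = _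
      rw [← smul_eq_comp_mulD, ← mul_smul, ← pow_succ']
  rw [← key]
  exact hn

end

end Groth.Agent.Lib.SerreHomL
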