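import Mathlib
import Groth.Prelude
import Groth.Agent.Lib.SerreHom3_lead
import Groth.Agent.Lib.RGammaZ6_lead
import Groth.Agent.Lib.RpushQC_lead
import Groth.Agent.Lib.PerfFlat2_lead
import Groth.Agent.Lib.MVPush5_lead

/-!
# Lifting maps from a quasi-compact open of an affine scheme (lead)

Thomason–Trobaugh type lifting: for `X` affine, `U ⊆ X` quasi-compact open, `E` perfect and `E'` in
`D_QCoh(X)`, every `α : E|_U ⟶ E'|_U` is of the form `γ|_U ∘ (β|_U)⁻¹` with `β : E₁ ⟶ E`,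
`γ : E₁ ⟶ E'`, `E₁` perfect and `β|_U` an isomorphism (`main1097`).

Also: algebra of `mulD` (`mulD_one_app`, `mulD_mul_app`, `isIso_mulD_of_isUnit`), killing maps to
objects supported off `D(f)` by cones of powers of `f` (`exists_factor_cone`, `exists_kill`),
`isZero_DD_of_le`, `isZero_DD_of_cover`.
-/

set_option autoImplicit false
set_option linter.all false
set_option maxHeartbeats 1600000
set_option backward.isDefEq.respectTransparency false
set_option backward.isDefEq.respectTransparency.types false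
set_option backward.defeqAttrib.useBackward true

universe u

open CategoryTheory CategoryTheory.Limits AlgebraicGeometry TopologicalSpace Opposite
open DerivedCategory CategoryTheory.Pretriangulated

attribute [local instance] HasDerivedCategory.standard

namespace Groth.Agent.Lib.TTLiftL

open Groth.Agent.Lib Groth.Agent.Lib.DCohLocLead Groth.Agent.Lib.PerfLocL
open Groth.Agent.Lib.HomVanL Groth.Agent.Lib.CompQL Groth.Agent.Lib.SerreHomL

noncomputable section

attribute [local instance] rpushI lpullI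

/-! ### Algebra of `mulD` -/

section Mul

variable {T : Scheme.{u}}

theorem ρCx_one (C : CochainComplex T.Modules ℤ) : ρCx (1 : Coh.Γtop T) C = 𝟙 C := by
  refine HomologicalComplex.hom_ext _ _ (fun i => ?_)
  exact KLin.smulModΓ_one (C.X i)

theorem ρCx_mul (r s : Coh.Γtop T) (C : CochainComplex T.Modules ℤ) :
    ρCx (r * s) C = ρCx r C ≫ ρCx s C := by
  refine HomologicalComplex.hom_ext _ _ (fun i => ?_)
  exact KLin.smulModΓ_mul (C.X i) r s

theorem mulD_one_app (K : DCoh.D T) : (mulD (1 : Coh.Γtop T)).app K = 𝟙 K := by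
  have h := map_app_of_Q (𝟭 (DCoh.D T)) (mulD (1 : Coh.Γtop T)) (𝟙 (𝟭 (DCoh.D T))) ?_ K
  · exact h
  · intro C
    show (mulD (1 : Coh.Γtop T)).app (DerivedCategory.Q.obj C) = 𝟙 _
    rw [mulD_Q, ρCx_one, CategoryTheory.Functor.map_id]
    rfl

theorem mulD_mul_app (r s : Coh.Γtop T) (K : DCoh.D T) :
    (mulD (r * s)).app K = (mulD r).app K ≫ (mulD s).app K := by
  have h := map_app_of_Q (𝟭 (DCoh.D T)) (mulD (r * s)) (mulD r ≫ mulD s) ?_ K
  · exact h
  · intro C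
    show (mulD (r * s)).app (DerivedCategory.Q.obj C) =
      (mulD r).app (DerivedCategory.Q.obj C) ≫ (mulD s).app (DerivedCategory.Q.obj C)
    rw [mulD_Q, mulD_Q, mulD_Q, ρCx_mul, CategoryTheory.Functor.map_comp]

theorem isIso_mulD_of_isUnit (r : Coh.Γtop T) (hr : IsUnit r) (K : DCoh.D T) :
    IsIso ((mulD r).app K) := by
  obtain ⟨s, hs⟩ := hr.exists_right_inv
  have hs' : s * r = 1 := (mul_comm (show Γ(T, ⊤) from s) (show Γ(T, ⊤) from r)).trans hs
  refine ⟨(mulD s).app K, ?_, ?_⟩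
  · exact (mulD_mul_app r s K).symm.trans
      ((congrArg (fun t => (mulD t).app K) hs).trans (mulD_one_app K))
  · exact (mulD_mul_app s r K).symm.trans
      ((congrArg (fun t => (mulD t).app K) hs').trans (mulD_one_app K))

theorem iterate_rightComp (r : Coh.Γtop T) {E K : DCoh.D T} (φ : E ⟶ K) (k : ℕ) :
    (⇑(Preadditive.rightComp E ((mulD r).app K)))^[k] φ = φ ≫ (mulD (r ^ k)).app K := by
  induction k with
  | zero =>
    rw [Function.iterate_zero_apply, pow_zero, mulD_one_app, Category.comp_id]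
  | succ k ih =>
    rw [Function.iterate_succ_apply', ih, pow_succ, mulD_mul_app]
    show (φ ≫ (mulD (r ^ k)).app K) ≫ (mulD r).app K = _
    rw [Category.assoc]

theorem isUnit_ι_appTop (f : Γ(T, ⊤)) : IsUnit ((T.basicOpen f).ι.appTop.hom f) := by
  have h0 := Scheme.preimage_basicOpen_top (T.basicOpen f).ι f
  have h1 : ((T.basicOpen f : T.Opens) : Scheme.{u}).basicOpen
      ((T.basicOpen f).ι.appTop.hom f) = ⊤ :=
    h0.symm.trans (Scheme.Opens.ι_preimage_self _)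
  apply RingedSpace.isUnit_of_isUnit_germ
  intro x hx
  have hx' : x ∈ ((T.basicOpen f : T.Opens) : Scheme.{u}).basicOpen
      ((T.basicOpen f).ι.appTop.hom f) := by
    rw [h1]; trivial
  exact (Scheme.mem_basicOpen _ _ _ hx).1 hx'

end Mul

/-! ### Vanishing of restrictions -/

section Van

variable {X : Scheme.{u}}

theorem sections_eq_zero_of_isZero_restrict (M : X.Modules) (U : X.Opens)
    (H : IsZero ((Scheme.Modules.restrictFunctor U.ι).obj M)) (W : X.Opens) (hW : W ≤ U)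
    (t : Γ(M, W)) : t = 0 := by
  have h2 : ∀ W₂ : X.Opens, U.ι ''ᵁ (U.ι ⁻¹ᵁ W) = W₂ → ∀ t : Γ(M, W₂), t = 0 := by
    rintro _ rfl t
    exact sections_eq_zero_of_isZero H (U.ι ⁻¹ᵁ W) t
  exact h2 W (DCohLocLead.image_preimage_of_le hW) t

theorem tors_of_restrict (M : X.Modules) [M.IsQuasicoherent] (r : Γ(X, ⊤))
    (hz : IsZero ((Scheme.Modules.restrictFunctor (X.basicOpen r).ι).obj M)) (V : X.Opens)
    (hV : IsAffineOpen V) (x : Γ(M, V)) :
    ∃ n : ℕ, ((X.presheaf.map (homOfLE (le_top : V ≤ ⊤)).op).hom r) ^ n • x = 0 := by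
  have hloc := QCohCrit.locOnU_of_isQuasicoherent M hV
    ((X.presheaf.map (homOfLE (le_top : V ≤ ⊤)).op).hom r)
  apply hloc.ker
  refine sections_eq_zero_of_isZero_restrict M (X.basicOpen r) hz _ ?_ _
  have h3 : X.basicOpen ((X.presheaf.map (homOfLE (le_top : V ≤ ⊤)).op).hom r) =
      V ⊓ X.basicOpen r := Scheme.basicOpen_res X r (homOfLE (le_top : V ≤ ⊤)).op
  rw [h3]
  exact inf_le_right

theorem isZero_HD_restrict (K : DCoh.D X) (V : X.Opens) (hz : IsZero ((DD V.ι).obj K)) (m : ℤ) :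
    IsZero ((Scheme.Modules.restrictFunctor V.ι).obj (DCoh.HD K m)) := by
  obtain ⟨e⟩ := nonempty_HD_restrict_iso V.ι K m
  exact ((DerivedCategory.homologyFunctor _ m).map_isZero hz).of_iso e.symm

theorem hyp_tors_of_restrict (K : DCoh.D X) (hK : DCoh.IsQCohD K) (r : Coh.Γtop X)
    (hz : IsZero ((DD (X.basicOpen r).ι).obj K)) : Hyp torsClass r K := by
  intro V hV m x
  haveI : (DCoh.HD K m).IsQuasicoherent := hK m
  obtain ⟨n, hn⟩ := tors_of_restrict (DCoh.HD K m) r (isZero_HD_restrict K _ hz m) V hV x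
  refine ⟨n, ?_⟩
  have key : ∀ k : ℕ,
      (⇑((((DSectX.sdX X).Γ.map (Formal.smulModΓ (DCoh.HD K m) r)).hom.app (op V)).hom))^[k] x =
        ((X.presheaf.map (homOfLE (le_top : V ≤ ⊤)).op).hom r) ^ k •
          (show Γ(DCoh.HD K m, V) from x) := by
    intro k
    induction k with
    | zero => simp
    | succ k ih =>
      rw [Function.iterate_succ_apply', ih, pow_succ', mul_smul]
      rfl
  rw [key]
  exact hn

theorem isZero_DD_of_le {V U : X.Opens} (h : V ≤ U) (N : DCoh.D X)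
    (hz : IsZero ((DD U.ι).obj N)) : IsZero ((DD V.ι).obj N) := by
  obtain ⟨c1⟩ := nonempty_DD_comp_iso (X.homOfLE h) U.ι N
  obtain ⟨c2⟩ := nonempty_DD_congr (X.homOfLE_ι h) N
  exact (((DD (X.homOfLE h)).map_isZero hz).of_iso c1).of_iso c2.symm

theorem isZero_DD_of_cover (G : DCoh.D X) (U : X.Opens) {ι : Type*} (𝒱 : ι → X.Opens)
    (hcov : ∀ x ∈ U, ∃ i, x ∈ 𝒱 i) (H : ∀ i, IsZero ((DD (𝒱 i).ι).obj G)) :
    IsZero ((DD U.ι).obj G) := by
  apply MVPushL.isZero_of_forall_isZero_homology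
  intro m
  obtain ⟨e⟩ := nonempty_HD_restrict_iso U.ι G m
  refine IsZero.of_iso ?_ e
  have key : ∀ (i : ι) (W : X.Opens), W ≤ 𝒱 i → ∀ t : Γ(DCoh.HD G m, W), t = 0 := by
    intro i W hW t
    exact sections_eq_zero_of_isZero_restrict _ _ (isZero_HD_restrict G _ (H i) m) W hW t
  apply Groth.Agent.CoprodQP.isZero_of_sections
  intro W' s
  have h2 : ∀ t : Γ(DCoh.HD G m, U.ι ''ᵁ W'), t = 0 := by
    intro t
    apply QcqsLoc.eq_zero_of_cover (DCoh.HD G m) t
    intro x hx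
    have hxU : x ∈ U := (U.ι_image_le W') hx
    obtain ⟨i, hi⟩ := hcov x hxU
    exact ⟨U.ι ''ᵁ W' ⊓ 𝒱 i, inf_le_left, ⟨hx, hi⟩, key i _ inf_le_right _⟩
  exact h2 s

end Van

/-! ### Killing maps into objects supported off basic opens -/

section Kill

variable {X : Scheme.{u}} [CompactSpace X] [QuasiSeparatedSpace X]

theorem exists_factor_cone (f : Coh.Γtop X) (G N : DCoh.D X) (hG : DCoh.IsPerfect G)
    (hN : DCoh.IsQCohD N) (hz : IsZero ((DD (X.basicOpen f).ι).obj N)) (φ : G ⟶ N) :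
    ∃ (G' : DCoh.D X) (p : G ⟶ G') (φ' : G' ⟶ N), DCoh.IsPerfect G' ∧ p ≫ φ' = φ ∧
      IsZero ((DD (X.basicOpen f).ι).obj G') ∧
      (∀ V : X.Opens, IsZero ((DD V.ι).obj G) → IsZero ((DD V.ι).obj G')) := by
  have h := hc_of_isPerfect (𝒮 := torsClass) f G hG N hN (hyp_tors_of_restrict N hN f hz)
  obtain ⟨n, hn⟩ := h φ
  have hn2 : φ ≫ (mulD (f ^ n)).app N = 0 := (iterate_rightComp f φ n).symm.trans hn
  have hn' : (mulD (f ^ n)).app G ≫ φ = 0 := by
    rw [← mulD_comm]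
    exact hn2
  obtain ⟨G', p, q, hT⟩ := distinguished_cocone_triangle ((mulD (f ^ n)).app G)
  obtain ⟨φ', hφ'⟩ := Triangle.yoneda_exact₂ _ hT φ hn'
  refine ⟨G', p, φ', isPerfect_obj₃ _ hT hG hG, hφ'.symm, ?_, ?_⟩
  · have hT' := (DD (X.basicOpen f).ι).map_distinguished _ hT
    refine (Triangle.isZero₃_iff_isIso₁ _ hT').2 ?_
    show IsIso ((DD (X.basicOpen f).ι).map ((mulD (f ^ n)).app G))
    rw [DD_map_mulD]
    refine isIso_mulD_of_isUnit _ ?_ _
    rw [map_pow]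
    exact (isUnit_ι_appTop f).pow n
  · intro V hV
    have hT' := (DD V.ι).map_distinguished _ hT
    refine (Triangle.isZero₃_iff_isIso₁ _ hT').2 ?_
    show IsIso ((DD V.ι).map ((mulD (f ^ n)).app G))
    exact ⟨0, hV.eq_of_src _ _, hV.eq_of_src _ _⟩

theorem exists_kill (N : DCoh.D X) (hN : DCoh.IsQCohD N) (fs : List (Coh.Γtop X))
    (hz : ∀ f ∈ fs, IsZero ((DD (X.basicOpen f).ι).obj N))
    (E : DCoh.D X) (hE : DCoh.IsPerfect E) (φ : E ⟶ N) :
    ∃ (G : DCoh.D X) (ψ : E ⟶ G) (φ' : G ⟶ N), DCoh.IsPerfect G ∧ ψ ≫ φ' = φ ∧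
      ∀ f ∈ fs, IsZero ((DD (X.basicOpen f).ι).obj G) := by
  induction fs with
  | nil => exact ⟨E, 𝟙 E, φ, hE, Category.id_comp _, fun f hf => absurd hf List.not_mem_nil⟩
  | cons f fs ih =>
    obtain ⟨G, ψ, φ', hG, hc, hG0⟩ := ih (fun g hg => hz g (List.mem_cons_of_mem _ hg))
    obtain ⟨G', p, φ'', hG', hc', hz', hmono⟩ :=
      exists_factor_cone f G N hG hN (hz f List.mem_cons_self) φ'
    refine ⟨G', ψ ≫ p, φ'', hG', by rw [Category.assoc, hc', hc], ?_⟩
    intro g hg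
    rcases List.mem_cons.1 hg with rfl | hg'
    · exact hz'
    · exact hmono _ (hG0 g hg')

end Kill

/-! ### The lifting theorem -/

theorem main1097 (X : Scheme.{u}) [IsAffine X] (U : X.Opens) (hU : IsCompact (U : Set X))
    (E E' : DCoh.D X) (hE : DCoh.IsPerfect E) (hE' : DCoh.IsQCohD E')
    (α : (DD U.ι).obj E ⟶ (DD U.ι).obj E') :
    ∃ (E₁ : DCoh.D X) (β : E₁ ⟶ E) (γ : E₁ ⟶ E'), DCoh.IsPerfect E₁ ∧
      IsIso ((DD U.ι).map β) ∧ (DD U.ι).map β ≫ α = (DD U.ι).map γ := by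
  haveI : QuasiCompact U.ι := CptPerfL.quasiCompact_ι U hU
  obtain ⟨adj⟩ := nonempty_adj_DD U.ι
  obtain ⟨N, δ, c, hT⟩ := distinguished_cocone_triangle (adj.unit.app E')
  have hNz : IsZero ((DD U.ι).obj N) := RGammaZL.isZero_restrictD_cone_unit U.ι adj E' δ c hT
  have hRq : DCoh.IsQCohD ((DCoh.Rpush U.ι).obj ((DD U.ι).obj E')) :=
    RpushQCL.main0998 U.ι _ (LpullQCL.isQCohD_restrictD U.ι E' hE')
  have hN : DCoh.IsQCohD N := RpushQCL.isQCohD_obj₃ _ hT hE' hRq
  obtain ⟨s, hs, hUs⟩ :=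
    isCompact_and_isOpen_iff_finite_and_eq_biUnion_basicOpen.1 ⟨hU, U.isOpen⟩
  have hle : ∀ f ∈ s, X.basicOpen f ≤ U := by
    intro f hf x hx
    show x ∈ (U : Set X)
    rw [hUs]
    exact Set.mem_biUnion hf hx
  have hcov : ∀ x ∈ U, ∃ f : s, x ∈ X.basicOpen f.1 := by
    intro x hx
    have hx' : x ∈ (U : Set X) := hx
    rw [hUs] at hx'
    obtain ⟨f, hf, hxf⟩ := Set.mem_iUnion₂.1 hx'
    exact ⟨⟨f, hf⟩, hxf⟩
  obtain ⟨α', hα'⟩ : ∃ α' : E ⟶ (DCoh.Rpush U.ι).obj ((DD U.ι).obj E'),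
      α' = adj.homEquiv _ _ α := ⟨_, rfl⟩
  obtain ⟨G, ψ, φ', hG, hc, hGz⟩ := exists_kill N hN hs.toFinset.toList
    (fun f hf => isZero_DD_of_le (hle f (by simpa using hf)) N hNz) E hE (α' ≫ δ)
  have hGU : IsZero ((DD U.ι).obj G) :=
    isZero_DD_of_cover G U (fun f : s => X.basicOpen f.1) hcov
      (fun f => hGz f.1 (by simpa using f.2))
  obtain ⟨E₁, β, w, hT₁⟩ := distinguished_cocone_triangle₁ ψ
  have hE₁ : DCoh.IsPerfect E₁ := by
    have h1 : DCoh.IsPerfect (E₁⟦(1 : ℤ)⟧) :=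
      isPerfect_obj₃ _ (rot_of_distTriang _ hT₁) hE hG
    exact isPerfect_of_iso (shiftShiftNeg E₁ (1 : ℤ)) (isPerfect_shift h1 (-1))
  have hβ : IsIso ((DD U.ι).map β) := by
    have hT' := (DD U.ι).map_distinguished _ hT₁
    exact (Triangle.isZero₃_iff_isIso₁ _ hT').1 hGU
  have hzero : (β ≫ α') ≫ δ = 0 := by
    have h0 : β ≫ ψ = 0 := comp_distTriang_mor_zero₁₂ _ hT₁
    rw [Category.assoc, ← hc, ← Category.assoc, h0, zero_comp]
  obtain ⟨γ, hγ⟩ := Triangle.coyoneda_exact₂ _ hT (β ≫ α') hzero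
  refine ⟨E₁, β, γ, hE₁, hβ, ?_⟩
  have e1 : adj.homEquiv _ _ ((DD U.ι).map β ≫ α) = β ≫ adj.homEquiv _ _ α :=
    adj.homEquiv_naturality_left β α
  have e2 : adj.homEquiv _ _ ((DD U.ι).map γ) = γ ≫ adj.unit.app E' := by
    rw [adj.homEquiv_unit, adj.unit_naturality]
    rfl
  rw [hα'] at hγ
  exact (adj.homEquiv _ _).injective (e1.trans (hγ.trans e2.symm))

end

end Groth.Agent.Lib.TTLiftL
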