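import Mathlib
import Groth.Prelude
import Groth.Agent.Lib.TTLift1_lead
import Groth.Agent.Lib.PCohFT1_lead
import Groth.Agent.Lib.PCohFT2_lead
import Groth.Agent.Lib.PerfReg2_lead
import Groth.Agent.Lib.QCohFT_helper9
import Groth.Agent.Lib.QCohExact_helper9
import Groth.Agent.Lib.FlatQuot1_lead
import Groth.Agent.Lib.HomVan3_lead

/-!
# Approximation by perfect complexes on a quasi-compact open of an affine scheme, I (lead)

Generalities: restriction of perfect objects, boundedness, sections of quasi-coherent modules over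
affine opens, maps from shifted structure sheaves realizing global sections of cohomology sheaves
(`exists_map_of_section`), finite generation of the top cohomology (`exists_gens`).
-/

set_option autoImplicit false
set_option linter.all false
set_option maxHeartbeats 1600000
set_option backward.isDefEq.respectTransparency false
set_option backward.isDefEq.respectTransparency.types false
set_option backward.defeqAttrib.useBackward true

universe u

open CategoryTheory CategoryTheory.Limits AlgebraicGeometry TopologicalSpace Opposite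
open DerivedCategory CategoryTheory.Pretriangulated

attribute [local instance] HasDerivedCategory.standard

namespace Groth.Agent.Lib.TTApxL

open Groth.Agent.Lib Groth.Agent.Lib.DCohLocLead Groth.Agent.Lib.PerfLocL
open Groth.Agent.Lib.HomVanL Groth.Agent.Lib.CompQL Groth.Agent.Lib.SerreHomL
open Groth.Agent.Lib.TTLiftL

noncomputable section

attribute [local instance] rpushI lpullI

/-! ### Perfect objects -/

theorem isPerfect_DD {Y X : Scheme.{u}} (j : Y ⟶ X) [IsOpenImmersion j] (K : DCoh.D X)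
    (hK : DCoh.IsPerfect K) : DCoh.IsPerfect ((DD j).obj K) := by
  apply isPerfect_of_locRep
  intro y
  obtain ⟨V, hxV, P, hP, ⟨e⟩⟩ := (isPerfect_iff K).1 hK (j y)
  refine ⟨_, (j ⁻¹ᵁ V).ι, inferInstance, ⟨⟨y, hxV⟩, rfl⟩, ?_⟩
  obtain ⟨c1⟩ := nonempty_DD_comp_iso (j ⁻¹ᵁ V).ι j K
  obtain ⟨c2⟩ := nonempty_DD_congr (morphismRestrict_ι j V).symm K
  obtain ⟨c3⟩ := nonempty_DD_comp_iso (j ∣_ V) V.ι K
  exact ⟨(RC (j ∣_ V)).obj P, isStrictlyPerfect_RC _ hP,
    ⟨c1.symm ≪≫ c2 ≪≫ c3 ≪≫ (DD (j ∣_ V)).mapIso e ≪≫ facIso (j ∣_ V) P⟩⟩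

open ZeroObject in
theorem isPerfect_of_isZero {X : Scheme.{u}} {K : DCoh.D X} (h : IsZero K) : DCoh.IsPerfect K := by
  have h0 : IsZero (Q.obj (0 : CochainComplex X.Modules ℤ)) := Q.map_isZero (isZero_zero _)
  exact isPerfect_of_iso (h0.iso h) (isPerfect_Q_obj _ (MVPushL.isStrictlyPerfect_zero X))

theorem isPerfect_biprod {X : Scheme.{u}} {K L : DCoh.D X} (hK : DCoh.IsPerfect K)
    (hL : DCoh.IsPerfect L) : DCoh.IsPerfect (K ⊞ L) :=
  isPerfect_obj₃ _ (inv_rot_of_distTriang _ (binaryBiproductTriangle_distinguished K L))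
    (isPerfect_shift hL (-1)) hK

theorem exists_bound_of_isPerfect {X : Scheme.{u}} [CompactSpace X] (K : DCoh.D X)
    (hK : DCoh.IsPerfect K) : ∃ b : ℤ, ∀ i : ℤ, b < i → IsZero (DCoh.HD K i) := by
  choose V hxV P hP hiso using fun x => (isPerfect_iff K).1 hK x
  choose a b hab using fun x => (hP x).1
  obtain ⟨t, ht⟩ := isCompact_univ.elim_finite_subcover
    (fun x : X => ((V x : X.Opens) : Set X))
    (fun x => (V x).isOpen) (fun y _ => Set.mem_iUnion.2 ⟨y, hxV y⟩)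
  have hzero : ∀ i : ℤ, (∀ x ∈ t, b x < i) → IsZero (DCoh.HD K i) := by
    intro i hi
    refine isZero_of_isZero_restrict (DCoh.HD K i) (fun x : {x // x ∈ t} => V x.1) ?_ ?_
    · intro y
      have hy := ht (Set.mem_univ y)
      simp only [Set.mem_iUnion] at hy
      obtain ⟨x, hx, hyx⟩ := hy
      exact ⟨⟨x, hx⟩, hyx⟩
    · rintro ⟨x, hx⟩
      obtain ⟨e⟩ := hiso x
      obtain ⟨e1⟩ := nonempty_HD_restrict_iso (V x).ι K i
      have e2 : DCoh.HD ((DD (V x).ι).obj K) i ≅ (P x).homology i :=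
        (homologyFunctor _ i).mapIso e ≪≫ (homologyFunctorFactors _ i).app (P x)
      exact IsZero.of_iso
        (isZero_homology_of_isZero_X (P x) i (hab x i (Or.inr (hi x hx)))) (e1.symm ≪≫ e2)
  refine ⟨∑ x ∈ t, |b x|, ?_⟩
  intro i hi
  refine hzero i (fun x hx => ?_)
  have h1 : |b x| ≤ ∑ y ∈ t, |b y| :=
    Finset.single_le_sum (f := fun y => |b y|) (fun y _ => abs_nonneg _) hx
  have h2 := le_abs_self (b x)
  omega

/-! ### Sections -/

section Sections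

variable {X : Scheme.{u}}

theorem comp_app_apply {M N P : X.Modules} (φ : M ⟶ N) (ψ : N ⟶ P) (V : X.Opens) (x : Γ(M, V)) :
    (φ ≫ ψ).app V x = ψ.app V (φ.app V x) := rfl

theorem zero_app_apply {M N : X.Modules} (V : X.Opens) (x : Γ(M, V)) :
    (0 : M ⟶ N).app V x = 0 := rfl

theorem id_app_apply {M : X.Modules} (V : X.Opens) (x : Γ(M, V)) :
    (𝟙 M : M ⟶ M).app V x = x := rfl

theorem app_res {M N : X.Modules} (φ : M ⟶ N) {V W : X.Opens} (h : V ≤ W) (x : Γ(M, W)) :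
    φ.app V (QcqsLoc.rF M h x) = QcqsLoc.rF N h (φ.app W x) :=
  ConcreteCategory.congr_hom (φ.mapPresheaf.naturality (homOfLE h).op) x

/-- the linear map on sections -/
def secLin {M N : X.Modules} (φ : M ⟶ N) (V : X.Opens) : Γ(M, V) →ₗ[Γ(X, V)] Γ(N, V) where
  toFun m := φ.app V m
  map_add' a b := map_add _ a b
  map_smul' r m := Scheme.Modules.Hom.app_smul φ r m

theorem secLin_apply {M N : X.Modules} (φ : M ⟶ N) (V : X.Opens) (m : Γ(M, V)) :
    secLin φ V m = φ.app V m := rfl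

/-- a quasi-coherent module without sections over an affine open vanishes on its opens -/
theorem sections_eq_zero_of_affine (F : X.Modules) [F.IsQuasicoherent] {V : X.Opens}
    (hV : IsAffineOpen V) (h0 : ∀ s : Γ(F, V), s = 0) (W : X.Opens) (hW : W ≤ V)
    (t : Γ(F, W)) : t = 0 := by
  apply QcqsLoc.eq_zero_of_cover F t
  intro x hx
  obtain ⟨a, ha, hxa⟩ := hV.exists_basicOpen_le (V := W) ⟨x, hx⟩ (hW hx)
  refine ⟨X.basicOpen a, ha, hxa, ?_⟩
  have hloc := QCohCrit.locOnU_of_isQuasicoherent F hV a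
  obtain ⟨n, m, hnm⟩ := hloc.surj (QcqsLoc.rF F ha t)
  rw [h0 m, map_zero] at hnm
  have hunit : IsUnit ((X.presheaf.map (homOfLE (X.basicOpen_le a)).op).hom a ^ n) :=
    (X.toRingedSpace.isUnit_res_basicOpen a).pow n
  exact hunit.smul_eq_zero.mp hnm

end Sections

/-! ### Maps from the shifted structure sheaf -/

section Cells

variable (X : Scheme.{u})

/-- the test object `j_! O` for the whole space, in degree zero -/
abbrev T0 : DCoh.D X := (singleFunctor X.Modules 0).obj ((DSectX.PX X).obj ⊤)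

theorem isPerfect_T0 : DCoh.IsPerfect (T0 X) :=
  isPerfect_of_iso ((singleFunctor X.Modules 0).mapIso (rho X)).symm
    (isPerfect_inD _ (FlatQuotL.isFinLocFree_structureModule X))

theorem isZero_HD_T0 (i : ℤ) (hi : i ≠ 0) : IsZero (DCoh.HD (T0 X) i) := by
  have e : DCoh.HD (T0 X) i ≅
      ((CochainComplex.singleFunctor X.Modules 0).obj ((DSectX.PX X).obj ⊤)).homology i :=
    (homologyFunctorFactors X.Modules i).app _
  exact IsZero.of_iso (isZero_homology_of_isZero_X _ i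
    (HomologicalComplex.isZero_single_obj_X (ComplexShape.up ℤ) 0 _ i hi)) e

theorem isZero_HD_T0_shift (k i : ℤ) (hi : i ≠ k) : IsZero (DCoh.HD ((T0 X)⟦-k⟧) i) :=
  isZero_HD_shift (T0 X) (-k) i (isZero_HD_T0 X _ (by omega))

/-- the tautological section of `H⁰` of the test object -/
def u0 : Γ(DCoh.HD (T0 X) 0, ⊤) :=
  (DSectX.sdX X).ev ⊤ _ (DSectL.sigA ((DSectX.PX X).obj ⊤)).inv

theorem etaA_eq_app (L : DCoh.D X) (φ : T0 X ⟶ L) :
    DSectL.etaA (DSectX.sdX X) L ⊤ φ =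
      ((homologyFunctor X.Modules 0).map φ).app ⊤ (u0 X) := by
  rw [DSectL.etaA_apply]
  exact (DSectX.sdX X).ev_comp ⊤ (DSectL.sigA ((DSectX.PX X).obj ⊤)).inv
    ((homologyFunctor X.Modules 0).map φ)

theorem exists_map_of_section [IsAffine X] (C : DCoh.D X) (hC : DCoh.IsQCohD C) (k : ℤ)
    (m : Γ(DCoh.HD C k, ⊤)) :
    ∃ (φ : (T0 X)⟦-k⟧ ⟶ C) (u : Γ(DCoh.HD ((T0 X)⟦-k⟧) k, ⊤)),
      ((homologyFunctor X.Modules k).map φ).app ⊤ u = m := by
  obtain ⟨b, hb⟩ : ∃ b : shiftFunctor (DCoh.D X) (-k) ⋙ homologyFunctor X.Modules k ≅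
      homologyFunctor X.Modules 0, b = (homologyFunctor X.Modules 0).shiftIso (-k) k 0
        (neg_add_cancel k) := ⟨_, rfl⟩
  obtain ⟨e, he⟩ : ∃ e : (C⟦k⟧)⟦-k⟧ ≅ C, e = shiftShiftNeg C k := ⟨_, rfl⟩
  obtain ⟨c, hc⟩ : ∃ c : DCoh.HD (C⟦k⟧) 0 ≅ DCoh.HD C k,
      c = (b.app (C⟦k⟧)).symm ≪≫ (homologyFunctor X.Modules k).mapIso e := ⟨_, rfl⟩
  have hbij := DSectX.etaX_bijective X (C⟦k⟧) (fun j _ => isQCohD_shift C hC k j) ⊤
    (isAffineOpen_top X)
  obtain ⟨φ₀, hφ₀⟩ : ∃ φ₀ : T0 X ⟶ C⟦k⟧,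
      DSectL.etaA (DSectX.sdX X) (C⟦k⟧) ⊤ φ₀ = c.inv.app ⊤ m := hbij.2 (c.inv.app ⊤ m)
  have h1 : ((homologyFunctor X.Modules 0).map φ₀).app ⊤ (u0 X) = c.inv.app ⊤ m :=
    (etaA_eq_app X _ φ₀).symm.trans hφ₀
  have hn : (homologyFunctor X.Modules k).map (φ₀⟦-k⟧') ≫ b.hom.app (C⟦k⟧) =
      b.hom.app (T0 X) ≫ (homologyFunctor X.Modules 0).map φ₀ := b.hom.naturality φ₀
  have hc' : c.hom = b.inv.app (C⟦k⟧) ≫ (homologyFunctor X.Modules k).map e.hom := by
    rw [hc]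
    rfl
  have h3 : b.hom.app (T0 X) ≫ (homologyFunctor X.Modules 0).map φ₀ ≫ b.inv.app (C⟦k⟧) =
      (homologyFunctor X.Modules k).map (φ₀⟦-k⟧') := by
    rw [← Category.assoc, ← hn]
    simp
  have hmor : b.inv.app (T0 X) ≫ (homologyFunctor X.Modules k).map (φ₀⟦-k⟧' ≫ e.hom) =
      (homologyFunctor X.Modules 0).map φ₀ ≫ c.hom := by
    rw [CategoryTheory.Functor.map_comp, hc', ← h3]
    simp
  refine ⟨φ₀⟦-k⟧' ≫ e.hom, (b.inv.app (T0 X)).app ⊤ (u0 X), ?_⟩
  show (b.inv.app (T0 X) ≫ (homologyFunctor X.Modules k).map (φ₀⟦-k⟧' ≫ e.hom)).app ⊤ (u0 X) = m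
  rw [hmor]
  show c.hom.app ⊤ (((homologyFunctor X.Modules 0).map φ₀).app ⊤ (u0 X)) = m
  rw [h1]
  show (c.inv ≫ c.hom).app ⊤ m = m
  rw [Iso.inv_hom_id]
  rfl

end Cells

/-! ### Finite generation of the top cohomology -/

section Gens

variable {X : Scheme.{u}}

theorem finite_sections_HD (U : X.Opens) (C : DCoh.D X) (k : ℤ)
    (hL : DCoh.IsPerfect ((DD U.ι).obj C))
    (hvan : ∀ j : ℤ, k < j → IsZero (DCoh.HD ((DD U.ι).obj C) j))
    (V : X.Opens) (hV : IsAffineOpen V) (hVU : V ≤ U) :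
    Module.Finite Γ(X, V) Γ(DCoh.HD C k, V) := by
  have hft : CohB1.IsFT (DCoh.HD ((DD U.ι).obj C) k) :=
    (main890 k _ (isPC_of_isPerfect hL k)).1 hvan
  haveI : (DCoh.HD ((DD U.ι).obj C) k).IsQuasicoherent := isQCohD_of_isPerfect _ hL k
  haveI : SheafOfModules.IsFiniteType (R := (U : Scheme.{u}).ringCatSheaf)
      (DCoh.HD ((DD U.ι).obj C) k) := hft
  have hV' : IsAffineOpen (U.ι ⁻¹ᵁ V) := by
    rw [← Scheme.Hom.isAffineOpen_iff_of_isOpenImmersion U.ι,
      DCohLocLead.image_preimage_of_le hVU]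
    exact hV
  have h1 : Module.Finite Γ((U : Scheme.{u}), U.ι ⁻¹ᵁ V)
      Γ(DCoh.HD ((DD U.ι).obj C) k, U.ι ⁻¹ᵁ V) :=
    QCohFT.finite_of_isFiniteType _ hV'
  obtain ⟨e⟩ := nonempty_HD_restrict_iso U.ι C k
  have h2 : Module.Finite Γ((U : Scheme.{u}), U.ι ⁻¹ᵁ V)
      Γ((Scheme.Modules.restrictFunctor U.ι).obj (DCoh.HD C k), U.ι ⁻¹ᵁ V) := by
    haveI := h1
    refine Module.Finite.of_surjective (secLin e.hom (U.ι ⁻¹ᵁ V)) ?_
    intro y
    refine ⟨e.inv.app _ y, ?_⟩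
    show e.hom.app _ (e.inv.app _ y) = y
    rw [← comp_app_apply, e.inv_hom_id]
    rfl
  have h3 := finite_sections_of_restrict U.ι (DCoh.HD C k) (U.ι ⁻¹ᵁ V) h2
  exact QCohFT.finite_congr (DCoh.HD C k) (DCohLocLead.image_preimage_of_le hVU) h3

/-- restriction of global sections -/
abbrev resTop (M : X.Modules) (V : X.Opens) : Γ(M, ⊤) →+ Γ(M, V) :=
  (M.presheaf.map (homOfLE (le_top : V ≤ ⊤)).op).hom

open scoped Classical in
theorem exists_gens [IsAffine X] (U : X.Opens) (C : DCoh.D X) (hC : DCoh.IsQCohD C) (k : ℤ)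
    (hL : DCoh.IsPerfect ((DD U.ι).obj C))
    (hvan : ∀ j : ℤ, k < j → IsZero (DCoh.HD ((DD U.ι).obj C) j))
    (g : Γ(X, ⊤)) (hg : X.basicOpen g ≤ U) :
    ∃ ms : Finset Γ(DCoh.HD C k, ⊤),
      Submodule.span Γ(X, X.basicOpen g)
        ((fun m => resTop (DCoh.HD C k) (X.basicOpen g) m) '' (ms : Set Γ(DCoh.HD C k, ⊤))) = ⊤ := by
  haveI : (DCoh.HD C k).IsQuasicoherent := hC k
  have hfin : Module.Finite Γ(X, X.basicOpen g) Γ(DCoh.HD C k, X.basicOpen g) :=
    finite_sections_HD U C k hL hvan _ ((isAffineOpen_top X).basicOpen g) hg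
  obtain ⟨t, ht⟩ := hfin.fg_top
  have hloc := QCohCrit.locOnU_of_isQuasicoherent (DCoh.HD C k) (isAffineOpen_top X) g
  choose n mm hnm using fun x : Γ(DCoh.HD C k, X.basicOpen g) => hloc.surj x
  refine ⟨t.image mm, ?_⟩
  rw [eq_top_iff, ← ht]
  apply Submodule.span_le.2
  intro x hx
  have hunit : IsUnit ((X.presheaf.map (homOfLE (X.basicOpen_le g)).op).hom g ^ n x) :=
    (X.toRingedSpace.isUnit_res_basicOpen g).pow (n x)
  obtain ⟨w, hw⟩ := hunit
  have hx' : x = (↑w⁻¹ : Γ(X, X.basicOpen g)) •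
      resTop (DCoh.HD C k) (X.basicOpen g) (mm x) := by
    have h5 := hnm x
    rw [← hw] at h5
    show x = (↑w⁻¹ : Γ(X, X.basicOpen g)) •
      (((DCoh.HD C k).presheaf.map (homOfLE (X.basicOpen_le g)).op).hom (mm x))
    rw [← h5, smul_smul, Units.inv_mul, one_smul]
  rw [hx']
  refine Submodule.smul_mem _ _ (Submodule.subset_span ⟨mm x, ?_, rfl⟩)
  exact Finset.mem_coe.2 (Finset.mem_image_of_mem mm hx)

end Gens

end

end Groth.Agent.Lib.TTApxL
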