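import Mathlib
import Groth.Prelude
import Groth.Agent.Lib.TTApx1_lead

/-!
# Approximation by perfect complexes on a quasi-compact open of an affine scheme, II (lead)

* `single_step`: killing the top cohomology over `U` by attaching finitely many cells.
* `approx`: for `K ∈ D_QCoh(X)` (`X` affine) with `K|_U` perfect, a perfect `P ⟶ K` whose cone has
  no cohomology over `U` above any prescribed degree.
* `exists_retract`: every perfect object on `U` is a direct summand of the restriction of a perfect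
  object on `X`.
-/

set_option autoImplicit false
set_option linter.all false
set_option maxHeartbeats 1600000
set_option backward.isDefEq.respectTransparency false
set_option backward.isDefEq.respectTransparency.types false
set_option backward.defeqAttrib.useBackward true

universe u

open CategoryTheory CategoryTheory.Limits AlgebraicGeometry TopologicalSpace Opposite
open DerivedCategory CategoryTheory.Pretriangulated

attribute [local instance] HasDerivedCategory.standard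

namespace Groth.Agent.Lib.TTApxL

open Groth.Agent.Lib Groth.Agent.Lib.DCohLocLead Groth.Agent.Lib.PerfLocL
open Groth.Agent.Lib.HomVanL Groth.Agent.Lib.CompQL Groth.Agent.Lib.SerreHomL
open Groth.Agent.Lib.TTLiftL

noncomputable section

attribute [local instance] rpushI lpullI

theorem isZero_restrict_of_sections {X : Scheme.{u}} (M : X.Modules) (U : X.Opens) {ι : Type*}
    (𝒱 : ι → X.Opens) (hcov : ∀ x ∈ U, ∃ i, x ∈ 𝒱 i)
    (key : ∀ (i : ι) (W : X.Opens), W ≤ 𝒱 i → ∀ t : Γ(M, W), t = 0) :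
    IsZero ((Scheme.Modules.restrictFunctor U.ι).obj M) := by
  apply Groth.Agent.CoprodQP.isZero_of_sections
  intro W' s
  have h2 : ∀ t : Γ(M, U.ι ''ᵁ W'), t = 0 := by
    intro t
    apply QcqsLoc.eq_zero_of_cover M t
    intro x hx
    have hxU : x ∈ U := (U.ι_image_le W') hx
    obtain ⟨i, hi⟩ := hcov x hxU
    exact ⟨U.ι ''ᵁ W' ⊓ 𝒱 i, inf_le_left, ⟨hx, hi⟩, key i _ inf_le_right _⟩
  exact h2 s

open ZeroObject in
/-- finitely many maps from `T` factor through a single map from a finite sum of copies of `T` -/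
theorem exists_sum_map {X : Scheme.{u}} (k : ℤ) (T C : DCoh.D X) (hT : DCoh.IsPerfect T)
    (hTv : ∀ i : ℤ, k < i → IsZero (DCoh.HD T i)) (φs : List (T ⟶ C)) :
    ∃ (S : DCoh.D X) (ξ : S ⟶ C), DCoh.IsPerfect S ∧
      (∀ i : ℤ, k < i → IsZero (DCoh.HD S i)) ∧ ∀ φ ∈ φs, ∃ a : T ⟶ S, a ≫ ξ = φ := by
  induction φs with
  | nil =>
    exact ⟨0, 0, isPerfect_of_isZero (isZero_zero _),
      fun i _ => (homologyFunctor X.Modules i).map_isZero (isZero_zero _),
      fun φ hφ => absurd hφ List.not_mem_nil⟩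
  | cons φ φs ih =>
    obtain ⟨S, ξ, hS, hSv, hfac⟩ := ih
    refine ⟨S ⊞ T, biprod.desc ξ φ, isPerfect_biprod hS hT, ?_, ?_⟩
    · intro i hi
      have hex := DerivedCategory.HomologySequence.exact₂ _
        (binaryBiproductTriangle_distinguished S T) i
      exact hex.isZero_of_both_zeros ((hSv i hi).eq_of_src _ _) ((hTv i hi).eq_of_tgt _ _)
    · intro ψ hψ
      rcases List.mem_cons.1 hψ with h | hψ'
      · exact ⟨biprod.inr, by rw [biprod.inr_desc, h]⟩
      · obtain ⟨a, ha⟩ := hfac ψ hψ'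
        exact ⟨a ≫ biprod.inl, by rw [Category.assoc, biprod.inl_desc, ha]⟩

open scoped Classical in
theorem single_step (X : Scheme.{u}) [IsAffine X] (U : X.Opens) (gs : Finset Γ(X, ⊤))
    (hle : ∀ g ∈ gs, X.basicOpen g ≤ U) (hcov : ∀ x ∈ U, ∃ g ∈ gs, x ∈ X.basicOpen g)
    (C : DCoh.D X) (hC : DCoh.IsQCohD C) (k : ℤ)
    (hL : DCoh.IsPerfect ((DD U.ι).obj C))
    (hvan : ∀ j : ℤ, k < j → IsZero (DCoh.HD ((DD U.ι).obj C) j)) :
    ∃ (S C' : DCoh.D X) (ξ : S ⟶ C) (q : C ⟶ C') (r : C' ⟶ S⟦(1 : ℤ)⟧),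
      Triangle.mk ξ q r ∈ distTriang (DCoh.D X) ∧ DCoh.IsPerfect S ∧
      ∀ j : ℤ, k ≤ j → IsZero (DCoh.HD ((DD U.ι).obj C') j) := by
  choose ms hms using fun g : {g // g ∈ gs} => exists_gens U C hC k hL hvan g.1 (hle g.1 g.2)
  choose φ u hφu using fun m : Γ(DCoh.HD C k, ⊤) => exists_map_of_section X C hC k m
  obtain ⟨S, ξ, hS, hSv, hfac⟩ := exists_sum_map k ((T0 X)⟦-k⟧) C
    (isPerfect_shift (isPerfect_T0 X) (-k)) (fun i hi => isZero_HD_T0_shift X k i (by omega))
    ((gs.attach.biUnion ms).toList.map φ)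
  obtain ⟨C', q, r, hT⟩ := distinguished_cocone_triangle ξ
  have hC' : DCoh.IsQCohD C' := RpushQCL.isQCohD_obj₃ _ hT (isQCohD_of_isPerfect S hS) hC
  have hξq : ξ ≫ q = 0 := comp_distTriang_mor_zero₁₂ _ hT
  have hkey : ∀ (g : {g // g ∈ gs}) (m : Γ(DCoh.HD C k, ⊤)), m ∈ ms g →
      ((homologyFunctor X.Modules k).map q).app ⊤ m = 0 := by
    intro g m hm
    have hmem : φ m ∈ (gs.attach.biUnion ms).toList.map φ :=
      List.mem_map.2 ⟨m, Finset.mem_toList.2
        (Finset.mem_biUnion.2 ⟨g, Finset.mem_attach _ _, hm⟩), rfl⟩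
    obtain ⟨a, ha⟩ := hfac (φ m) hmem
    have h1 : ((homologyFunctor X.Modules k).map (φ m)).app ⊤ (u m) = m := hφu m
    calc ((homologyFunctor X.Modules k).map q).app ⊤ m
        = ((homologyFunctor X.Modules k).map q).app ⊤
            (((homologyFunctor X.Modules k).map (φ m)).app ⊤ (u m)) := by rw [h1]
      _ = ((homologyFunctor X.Modules k).map (φ m ≫ q)).app ⊤ (u m) := by
          rw [CategoryTheory.Functor.map_comp]
          rfl
      _ = 0 := by
          rw [← ha, Category.assoc, hξq, comp_zero, CategoryTheory.Functor.map_zero]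
          rfl
  refine ⟨S, C', ξ, q, r, hT, hS, ?_⟩
  have hT' := (DD U.ι).map_distinguished _ hT
  intro j hj
  rcases eq_or_lt_of_le hj with hjk | hj'
  · subst hjk
    obtain ⟨e⟩ := nonempty_HD_restrict_iso U.ι C' k
    refine IsZero.of_iso ?_ e
    haveI : (DCoh.HD C k).IsQuasicoherent := hC k
    haveI : (DCoh.HD C' k).IsQuasicoherent := hC' k
    have hex := DerivedCategory.HomologySequence.exact₃ _ hT k (k + 1) rfl
    haveI : Epi ((homologyFunctor X.Modules k).map q) :=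
      hex.epi_f ((hSv (k + 1) (by omega)).eq_of_tgt _ _)
    refine isZero_restrict_of_sections (DCoh.HD C' k) U
      (fun g : {g // g ∈ gs} => X.basicOpen g.1) ?_ ?_
    · intro x hx
      obtain ⟨g, hg, hxg⟩ := hcov x hx
      exact ⟨⟨g, hg⟩, hxg⟩
    · intro g W hW t
      have hV : IsAffineOpen (X.basicOpen g.1) := (isAffineOpen_top X).basicOpen g.1
      refine sections_eq_zero_of_affine (DCoh.HD C' k) hV ?_ W hW t
      intro s
      obtain ⟨t', ht'⟩ :=
        QCohExact.app_surjective_of_epi ((homologyFunctor X.Modules k).map q) hV s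
      have hker : (⊤ : Submodule Γ(X, X.basicOpen g.1) Γ(DCoh.HD C k, X.basicOpen g.1)) ≤
          LinearMap.ker (secLin ((homologyFunctor X.Modules k).map q) (X.basicOpen g.1)) := by
        rw [← hms g]
        apply Submodule.span_le.2
        rintro _ ⟨m, hm, rfl⟩
        show secLin ((homologyFunctor X.Modules k).map q) (X.basicOpen g.1)
          (resTop (DCoh.HD C k) (X.basicOpen g.1) m) = 0
        rw [secLin_apply]
        have h2 := app_res ((homologyFunctor X.Modules k).map q)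
          (le_top : X.basicOpen g.1 ≤ ⊤) m
        refine h2.trans ?_
        rw [hkey g m (Finset.mem_coe.1 hm), map_zero]
      have h3 : secLin ((homologyFunctor X.Modules k).map q) (X.basicOpen g.1) t' = 0 :=
        LinearMap.mem_ker.1 (hker Submodule.mem_top)
      rw [← ht']
      exact h3
  · have hex := DerivedCategory.HomologySequence.exact₃ _ hT' j (j + 1) rfl
    exact hex.isZero_of_both_zeros ((hvan j hj').eq_of_src _ _)
      ((isZero_HD_DD U.ι S (j + 1) (hSv (j + 1) (by omega))).eq_of_tgt _ _)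

open ZeroObject in
theorem approx (X : Scheme.{u}) [IsAffine X] (U : X.Opens) (gs : Finset Γ(X, ⊤))
    (hle : ∀ g ∈ gs, X.basicOpen g ≤ U) (hcov : ∀ x ∈ U, ∃ g ∈ gs, x ∈ X.basicOpen g)
    (K : DCoh.D X) (hK : DCoh.IsQCohD K) (hKU : DCoh.IsPerfect ((DD U.ι).obj K)) (b : ℤ)
    (hb : ∀ j : ℤ, b < j → IsZero (DCoh.HD ((DD U.ι).obj K) j)) (n : ℕ) :
    ∃ (P C : DCoh.D X) (θ : P ⟶ K) (p : K ⟶ C) (d : C ⟶ P⟦(1 : ℤ)⟧),
      Triangle.mk θ p d ∈ distTriang (DCoh.D X) ∧ DCoh.IsPerfect P ∧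
      ∀ j : ℤ, b - (n : ℤ) < j → IsZero (DCoh.HD ((DD U.ι).obj C) j) := by
  induction n with
  | zero =>
    refine ⟨0, K, 0, 𝟙 K, 0, contractible_distinguished₁ K,
      isPerfect_of_isZero (isZero_zero _), ?_⟩
    intro j hj
    exact hb j (by simpa using hj)
  | succ n ih =>
    obtain ⟨P, C, θ, p, d, hT, hP, hv⟩ := ih
    have hC : DCoh.IsQCohD C := RpushQCL.isQCohD_obj₃ _ hT (isQCohD_of_isPerfect P hP) hK
    have hCU : DCoh.IsPerfect ((DD U.ι).obj C) :=
      isPerfect_obj₃ _ ((DD U.ι).map_distinguished _ hT) (isPerfect_DD U.ι P hP) hKU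
    obtain ⟨S, C', ξ, q, r, hT₂, hS, hv'⟩ :=
      single_step X U gs hle hcov C hC (b - (n : ℤ)) hCU hv
    obtain ⟨P', θ', d', hT₃⟩ := distinguished_cocone_triangle₁ (p ≫ q)
    have o := Triangulated.someOctahedron' (rfl : p ≫ q = p ≫ q) hT hT₂ hT₃
    have hP' : DCoh.IsPerfect P' :=
      isPerfect_obj₃ _ (inv_rot_of_distTriang _ o.mem) (isPerfect_shift hS (-1)) hP
    refine ⟨P', C', θ', p ≫ q, d', hT₃, hP', ?_⟩
    intro j hj
    refine hv' j ?_
    push_cast at hj
    omega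

theorem exists_retract (X : Scheme.{u}) [IsAffine X] (U : X.Opens) (hU : IsCompact (U : Set X))
    (F : DCoh.D (U : Scheme.{u})) (hF : DCoh.IsPerfect F) :
    ∃ (P : DCoh.D X) (D : DCoh.D (U : Scheme.{u})), DCoh.IsPerfect P ∧
      Nonempty ((DD U.ι).obj P ≅ D ⊞ F) := by
  haveI : QuasiCompact U.ι := CptPerfL.quasiCompact_ι U hU
  haveI : CompactSpace (U : Scheme.{u}) := isCompact_iff_compactSpace.mp hU
  haveI : QuasiSeparatedSpace (U : Scheme.{u}) :=
    QuasiSeparatedSpace.of_isOpenEmbedding U.ι.isOpenEmbedding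
  obtain ⟨κ⟩ := KoszL.nonempty_Rpush_comp_DD_iso_id U.ι
  have hK : DCoh.IsQCohD ((DCoh.Rpush U.ι).obj F) :=
    RpushQCL.main0998 U.ι F (isQCohD_of_isPerfect F hF)
  have hKU : DCoh.IsPerfect ((DD U.ι).obj ((DCoh.Rpush U.ι).obj F)) :=
    isPerfect_of_iso (κ.app F).symm hF
  obtain ⟨b, hb⟩ := exists_bound_of_isPerfect _ hKU
  obtain ⟨a, b', hVR⟩ := exists_VR _ hKU
  obtain ⟨s, hs, hUs⟩ :=
    isCompact_and_isOpen_iff_finite_and_eq_biUnion_basicOpen.1 ⟨hU, U.isOpen⟩
  have hle : ∀ g ∈ hs.toFinset, X.basicOpen g ≤ U := by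
    intro g hg x hx
    show x ∈ (U : Set X)
    rw [hUs]
    exact Set.mem_biUnion (hs.mem_toFinset.1 hg) hx
  have hcov : ∀ x ∈ U, ∃ g ∈ hs.toFinset, x ∈ X.basicOpen g := by
    intro x hx
    have hx' : x ∈ (U : Set X) := hx
    rw [hUs] at hx'
    obtain ⟨g, hg, hxg⟩ := Set.mem_iUnion₂.1 hx'
    exact ⟨g, hs.mem_toFinset.2 hg, hxg⟩
  obtain ⟨P, C, θ, p, d, hT, hP, hv⟩ :=
    approx X U hs.toFinset hle hcov _ hK hKU b hb (b - a + 1).toNat
  have hC : DCoh.IsQCohD C := RpushQCL.isQCohD_obj₃ _ hT (isQCohD_of_isPerfect P hP) hK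
  have hT' := (DD U.ι).map_distinguished _ hT
  have hp0 : (DD U.ι).map p = 0 := by
    refine hVR 0 _ ⟨((shiftFunctorZero (DCoh.D (U : Scheme.{u})) ℤ).app _).symm⟩ _
      (LpullQCL.isQCohD_restrictD U.ι C hC) (fun i hi _ => hv i ?_) _
    have := Int.self_le_toNat (b - a + 1)
    omega
  have hz : ((DD U.ι).mapTriangle.obj (Triangle.mk θ p d)).invRotate.mor₃ = 0 := by
    show (DD U.ι).map p ≫ _ = 0
    rw [hp0, zero_comp]
  obtain ⟨e, -, -⟩ :=
    exists_iso_binaryBiproduct_of_distTriang _ (inv_rot_of_distTriang _ hT') hz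
  exact ⟨P, _, hP, ⟨e ≪≫ biprod.mapIso (Iso.refl _) (κ.app F)⟩⟩

end

end Groth.Agent.Lib.TTApxL
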