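import Mathlib
import Groth.Prelude
import Groth.Agent.Lib.TTApx2_lead

/-!
# Extending `F ⊕ F[1]` from a quasi-compact open of an affine scheme (lead)

* `cone_projector`: the cone of the projector of `D ⊞ F` onto `D` is `F ⊞ F[1]`.
* `main1014`.
-/

set_option autoImplicit false
set_option linter.all false
set_option maxHeartbeats 1600000
set_option backward.isDefEq.respectTransparency false
set_option backward.isDefEq.respectTransparency.types false
set_option backward.defeqAttrib.useBackward true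

universe u

open CategoryTheory CategoryTheory.Limits AlgebraicGeometry TopologicalSpace Opposite
open DerivedCategory CategoryTheory.Pretriangulated

attribute [local instance] HasDerivedCategory.standard

namespace Groth.Agent.Lib.TTApxL

open Groth.Agent.Lib Groth.Agent.Lib.DCohLocLead Groth.Agent.Lib.PerfLocL
open Groth.Agent.Lib.HomVanL Groth.Agent.Lib.CompQL Groth.Agent.Lib.SerreHomL
open Groth.Agent.Lib.TTLiftL

noncomputable section

attribute [local instance] rpushI lpullI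

/-- the cone of a map which is, up to isomorphisms, the projector of `D ⊞ F` onto `D` -/
theorem cone_projector {Y : Scheme.{u}} {A A' D F : DCoh.D Y} (ε : A ≅ D ⊞ F) (β' : A' ≅ A)
    (T : Triangle (DCoh.D Y)) (hT : T ∈ distTriang (DCoh.D Y))
    (e₁ : T.obj₁ = A') (e₂ : T.obj₂ = A)
    (hg : T.mor₁ = eqToHom e₁ ≫ β'.hom ≫ ε.hom ≫ biprod.fst ≫ biprod.inl ≫ ε.inv ≫
      eqToHom e₂.symm) :
    Nonempty (T.obj₃ ≅ F ⊞ F⟦(1 : ℤ)⟧) := by
  obtain ⟨Z₁, Z₂, Z₃, g, a, b⟩ := T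
  dsimp at e₁ e₂ hg hT
  subst e₁ e₂
  simp only [eqToHom_refl, Category.id_comp, Category.comp_id] at hg
  -- the two factors
  obtain ⟨π', hπ'⟩ : ∃ π' : Z₁ ⟶ D, π' = β'.hom ≫ ε.hom ≫ biprod.fst := ⟨_, rfl⟩
  obtain ⟨ι', hι'⟩ : ∃ ι' : D ⟶ Z₂, ι' = biprod.inl ≫ ε.inv := ⟨_, rfl⟩
  have hcomm : π' ≫ ι' = g := by
    rw [hg, hπ', hι']
    simp only [Category.assoc]
  -- the triangle on `ι'`
  have h₂₃ : Triangle.mk ι' (ε.hom ≫ biprod.snd) (0 : F ⟶ D⟦(1 : ℤ)⟧) ∈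
      distTriang (DCoh.D Y) := by
    refine isomorphic_distinguished _ (binaryBiproductTriangle_distinguished D F) _ ?_
    refine Triangle.isoMk _ _ (Iso.refl _) ε (Iso.refl _) ?_ ?_ ?_
    · dsimp
      rw [hι']
      simp
    · dsimp
      simp
    · dsimp
      simp
  -- the triangle on `π'`
  have h₁₂' : Triangle.mk (biprod.inr ≫ ε.inv ≫ β'.inv : F ⟶ Z₁) π' (0 : D ⟶ F⟦(1 : ℤ)⟧) ∈
      distTriang (DCoh.D Y) := by
    refine isomorphic_distinguished _ (biprodTriangle'_distinguished D F) _ ?_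
    refine Triangle.isoMk _ _ (Iso.refl _) (β' ≪≫ ε) (Iso.refl _) ?_ ?_ ?_
    · dsimp
      simp
    · dsimp
      rw [hπ']
      simp
    · dsimp
      simp
  have h₁₂ := rot_of_distTriang _ h₁₂'
  have o := Triangulated.someOctahedron hcomm h₁₂ h₂₃ hT
  have hz : (Triangle.mk o.m₁ o.m₃ ((0 : F ⟶ D⟦(1 : ℤ)⟧) ≫
      (0 : D ⟶ F⟦(1 : ℤ)⟧)⟦(1 : ℤ)⟧')).mor₃ = 0 := by
    dsimp
    rw [zero_comp]
  obtain ⟨e, -, -⟩ := exists_iso_binaryBiproduct_of_distTriang _ o.mem hz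
  exact ⟨e ≪≫ biprod.braiding _ _⟩

/-- **S1014** -/
theorem main1014 (X : Scheme.{u}) [IsAffine X] (U : X.Opens) (hU : IsCompact (U : Set X))
    (F : DCoh.D (U : Scheme.{u})) (hF : DCoh.IsPerfect F) :
    ∃ G : CochainComplex X.Modules ℤ, DCoh.IsPerfect (DCoh.toD X G) ∧
      Nonempty (DerivedCategory.Q.obj ((DCoh.restrictCx U).obj G) ≅ F ⊞ F⟦(1 : ℤ)⟧) := by
  obtain ⟨P, D, hP, ⟨ε⟩⟩ := exists_retract X U hU F hF
  obtain ⟨α, hα⟩ : ∃ α : (DD U.ι).obj P ⟶ (DD U.ι).obj P,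
      α = ε.hom ≫ biprod.fst ≫ biprod.inl ≫ ε.inv := ⟨_, rfl⟩
  obtain ⟨E₁, β, γ, hE₁, hβ, hc⟩ :=
    main1097 X U hU P P hP (isQCohD_of_isPerfect P hP) α
  obtain ⟨G, a, b, hTG⟩ := distinguished_cocone_triangle γ
  have hG : DCoh.IsPerfect G := isPerfect_obj₃ _ hTG hE₁ hP
  have hTG' := (DD U.ι).map_distinguished _ hTG
  haveI := hβ
  obtain ⟨c⟩ := cone_projector ε (asIso ((DD U.ι).map β)) _ hTG' rfl rfl (by
    simp only [eqToHom_refl, Category.id_comp, Category.comp_id]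
    show (DD U.ι).map γ = (DD U.ι).map β ≫ ε.hom ≫ biprod.fst ≫ biprod.inl ≫ ε.inv
    rw [← hc, hα])
  refine ⟨Q.objPreimage G, isPerfect_of_iso (Q.objObjPreimageIso G).symm hG, ⟨?_⟩⟩
  exact (facIso U.ι (Q.objPreimage G)).symm ≪≫ (DD U.ι).mapIso (Q.objObjPreimageIso G) ≪≫ c

end

end Groth.Agent.Lib.TTApxL
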