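import Mathlib
import Groth.Prelude
import Groth.Agent.Lib.TTApx3_lead

/-!
# Thomason–Trobaugh extension with supports, affine case (lead)

* `exists_kill'`, `main1097'`: the lifting theorem `main1097` keeping track of vanishing
  restrictions;
* `exists_biprod_of_retract`: a retract in `D(O_Y)` is a direct summand;
* `exists_mulD_pow_eq_zero`: a power of `r` kills a perfect complex vanishing on `D(r)`;
* `retract_step`, `retract_kill`: killing a perfect complex on `D(g)`s keeping `F` as a retract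
  of the restriction to `U`;
* `main1041'`, `main1041`.
-/

set_option autoImplicit false
set_option linter.all false
set_option maxHeartbeats 1600000
set_option backward.isDefEq.respectTransparency false
set_option backward.isDefEq.respectTransparency.types false
set_option backward.defeqAttrib.useBackward true

universe u

open CategoryTheory CategoryTheory.Limits AlgebraicGeometry TopologicalSpace Opposite
open DerivedCategory CategoryTheory.Pretriangulated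

attribute [local instance] HasDerivedCategory.standard

namespace Groth.Agent.Lib.TTSuppL

open Groth.Agent.Lib Groth.Agent.Lib.DCohLocLead Groth.Agent.Lib.PerfLocL
open Groth.Agent.Lib.HomVanL Groth.Agent.Lib.CompQL Groth.Agent.Lib.SerreHomL
open Groth.Agent.Lib.TTLiftL Groth.Agent.Lib.TTApxL

noncomputable section

attribute [local instance] rpushI lpullI

section Kill

variable {X : Scheme.{u}} [CompactSpace X] [QuasiSeparatedSpace X]

theorem exists_kill' (N : DCoh.D X) (hN : DCoh.IsQCohD N) (fs : List (Coh.Γtop X))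
    (hz : ∀ f ∈ fs, IsZero ((DD (X.basicOpen f).ι).obj N))
    (E : DCoh.D X) (hE : DCoh.IsPerfect E) (φ : E ⟶ N) :
    ∃ (G : DCoh.D X) (ψ : E ⟶ G) (φ' : G ⟶ N), DCoh.IsPerfect G ∧ ψ ≫ φ' = φ ∧
      (∀ f ∈ fs, IsZero ((DD (X.basicOpen f).ι).obj G)) ∧
      (∀ V : X.Opens, IsZero ((DD V.ι).obj E) → IsZero ((DD V.ι).obj G)) := by
  induction fs with
  | nil =>
    exact ⟨E, 𝟙 E, φ, hE, Category.id_comp _, fun f hf => absurd hf List.not_mem_nil,
      fun V h => h⟩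
  | cons f fs ih =>
    obtain ⟨G, ψ, φ', hG, hc, hG0, hGm⟩ := ih (fun g hg => hz g (List.mem_cons_of_mem _ hg))
    obtain ⟨G', p, φ'', hG', hc', hz', hmono⟩ :=
      exists_factor_cone f G N hG hN (hz f List.mem_cons_self) φ'
    refine ⟨G', ψ ≫ p, φ'', hG', by rw [Category.assoc, hc', hc], ?_,
      fun V h => hmono V (hGm V h)⟩
    intro g hg
    rcases List.mem_cons.1 hg with rfl | hg'
    · exact hz'
    · exact hmono _ (hG0 g hg')

end Kill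

/-- the lifting theorem, keeping track of vanishing restrictions -/
theorem main1097' (X : Scheme.{u}) [IsAffine X] (U : X.Opens) (hU : IsCompact (U : Set X))
    (E E' : DCoh.D X) (hE : DCoh.IsPerfect E) (hE' : DCoh.IsQCohD E')
    (α : (DD U.ι).obj E ⟶ (DD U.ι).obj E') :
    ∃ (E₁ : DCoh.D X) (β : E₁ ⟶ E) (γ : E₁ ⟶ E'), DCoh.IsPerfect E₁ ∧
      IsIso ((DD U.ι).map β) ∧ (DD U.ι).map β ≫ α = (DD U.ι).map γ ∧
      (∀ V : X.Opens, IsZero ((DD V.ι).obj E) → IsZero ((DD V.ι).obj E₁)) := by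
  haveI : QuasiCompact U.ι := CptPerfL.quasiCompact_ι U hU
  obtain ⟨adj⟩ := nonempty_adj_DD U.ι
  obtain ⟨N, δ, c, hT⟩ := distinguished_cocone_triangle (adj.unit.app E')
  have hNz : IsZero ((DD U.ι).obj N) := RGammaZL.isZero_restrictD_cone_unit U.ι adj E' δ c hT
  have hRq : DCoh.IsQCohD ((DCoh.Rpush U.ι).obj ((DD U.ι).obj E')) :=
    RpushQCL.main0998 U.ι _ (LpullQCL.isQCohD_restrictD U.ι E' hE')
  have hN : DCoh.IsQCohD N := RpushQCL.isQCohD_obj₃ _ hT hE' hRq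
  obtain ⟨s, hs, hUs⟩ :=
    isCompact_and_isOpen_iff_finite_and_eq_biUnion_basicOpen.1 ⟨hU, U.isOpen⟩
  have hle : ∀ f ∈ s, X.basicOpen f ≤ U := by
    intro f hf x hx
    show x ∈ (U : Set X)
    rw [hUs]
    exact Set.mem_biUnion hf hx
  have hcov : ∀ x ∈ U, ∃ f : s, x ∈ X.basicOpen f.1 := by
    intro x hx
    have hx' : x ∈ (U : Set X) := hx
    rw [hUs] at hx'
    obtain ⟨f, hf, hxf⟩ := Set.mem_iUnion₂.1 hx'
    exact ⟨⟨f, hf⟩, hxf⟩
  obtain ⟨α', hα'⟩ : ∃ α' : E ⟶ (DCoh.Rpush U.ι).obj ((DD U.ι).obj E'),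
      α' = adj.homEquiv _ _ α := ⟨_, rfl⟩
  obtain ⟨G, ψ, φ', hG, hc, hGz, hGm⟩ := exists_kill' N hN hs.toFinset.toList
    (fun f hf => isZero_DD_of_le (hle f (by simpa using hf)) N hNz) E hE (α' ≫ δ)
  have hGU : IsZero ((DD U.ι).obj G) :=
    isZero_DD_of_cover G U (fun f : s => X.basicOpen f.1) hcov
      (fun f => hGz f.1 (by simpa using f.2))
  obtain ⟨E₁, β, w, hT₁⟩ := distinguished_cocone_triangle₁ ψ
  have hE₁ : DCoh.IsPerfect E₁ := by
    have h1 : DCoh.IsPerfect (E₁⟦(1 : ℤ)⟧) :=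
      isPerfect_obj₃ _ (rot_of_distTriang _ hT₁) hE hG
    exact isPerfect_of_iso (shiftShiftNeg E₁ (1 : ℤ)) (isPerfect_shift h1 (-1))
  have hβ : IsIso ((DD U.ι).map β) := by
    have hT' := (DD U.ι).map_distinguished _ hT₁
    exact (Triangle.isZero₃_iff_isIso₁ _ hT').1 hGU
  have hzero : (β ≫ α') ≫ δ = 0 := by
    have h0 : β ≫ ψ = 0 := comp_distTriang_mor_zero₁₂ _ hT₁
    rw [Category.assoc, ← hc, ← Category.assoc, h0, zero_comp]
  obtain ⟨γ, hγ⟩ := Triangle.coyoneda_exact₂ _ hT (β ≫ α') hzero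
  refine ⟨E₁, β, γ, hE₁, hβ, ?_, ?_⟩
  · have e1 : adj.homEquiv _ _ ((DD U.ι).map β ≫ α) = β ≫ adj.homEquiv _ _ α :=
      adj.homEquiv_naturality_left β α
    have e2 : adj.homEquiv _ _ ((DD U.ι).map γ) = γ ≫ adj.unit.app E' := by
      rw [adj.homEquiv_unit, adj.unit_naturality]
      rfl
    rw [hα'] at hγ
    exact (adj.homEquiv _ _).injective (e1.trans (hγ.trans e2.symm))
  · intro V hV
    have hT' := (DD V.ι).map_distinguished _ hT₁
    refine (Triangle.isZero₁_iff_isIso₂ _ hT').2 ?_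
    show IsIso ((DD V.ι).map ψ)
    exact ⟨0, hV.eq_of_src _ _, (hGm V hV).eq_of_src _ _⟩

/-- a retract in `D(O_Y)` is a direct summand -/
theorem exists_biprod_of_retract {Y : Scheme.{u}} {A F : DCoh.D Y} (i : F ⟶ A) (p : A ⟶ F)
    (h : i ≫ p = 𝟙 F) : ∃ D : DCoh.D Y, Nonempty (A ≅ D ⊞ F) := by
  obtain ⟨D, b, c, hT⟩ := distinguished_cocone_triangle i
  have hc : c = 0 := by
    have h0 : c ≫ i⟦(1 : ℤ)⟧' = 0 := comp_distTriang_mor_zero₃₁ _ hT
    have h1 : i⟦(1 : ℤ)⟧' ≫ p⟦(1 : ℤ)⟧' = 𝟙 _ := by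
      rw [← CategoryTheory.Functor.map_comp, h, CategoryTheory.Functor.map_id]
    calc c = c ≫ (i⟦(1 : ℤ)⟧' ≫ p⟦(1 : ℤ)⟧') := by rw [h1, Category.comp_id]
      _ = 0 := by rw [← Category.assoc, h0, zero_comp]
  obtain ⟨e, -, -⟩ := exists_iso_binaryBiproduct_of_distTriang _ hT hc
  exact ⟨D, ⟨e ≪≫ biprod.braiding _ _⟩⟩

/-- a power of `r` kills a perfect complex vanishing on `D(r)` -/
theorem exists_mulD_pow_eq_zero {Y : Scheme.{u}} [CompactSpace Y] [QuasiSeparatedSpace Y]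
    (F : DCoh.D Y) (hF : DCoh.IsPerfect F) (r : Coh.Γtop Y)
    (hz : IsZero ((DD (Y.basicOpen r).ι).obj F)) : ∃ n : ℕ, (mulD (r ^ n)).app F = 0 := by
  have hFq := isQCohD_of_isPerfect F hF
  have h := hc_of_isPerfect (𝒮 := torsClass) r F hF F hFq (hyp_tors_of_restrict F hFq r hz)
  obtain ⟨n, hn⟩ := h (𝟙 F)
  refine ⟨n, ?_⟩
  have h2 : 𝟙 F ≫ (mulD (r ^ n)).app F = 0 := (iterate_rightComp r (𝟙 F) n).symm.trans hn
  rwa [Category.id_comp] at h2

theorem retract_step {X : Scheme.{u}} (U : X.Opens) (g : Coh.Γtop X) (C : DCoh.D X)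
    (hC : DCoh.IsPerfect C) (F : DCoh.D (U : Scheme.{u}))
    (i : F ⟶ (DD U.ι).obj C) (p : (DD U.ι).obj C ⟶ F) (hip : i ≫ p = 𝟙 F) (n : ℕ)
    (hn : (mulD (T := (U : Scheme.{u})) ((U.ι.appTop.hom g) ^ n)).app F = 0) :
    ∃ (C' : DCoh.D X) (i' : F ⟶ (DD U.ι).obj C') (p' : (DD U.ι).obj C' ⟶ F),
      DCoh.IsPerfect C' ∧ i' ≫ p' = 𝟙 F ∧ IsZero ((DD (X.basicOpen g).ι).obj C') ∧
      (∀ V : X.Opens, IsZero ((DD V.ι).obj C) → IsZero ((DD V.ι).obj C')) := by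
  obtain ⟨C', q, w, hT⟩ := distinguished_cocone_triangle ((mulD (g ^ n)).app C)
  have hTU := (DD U.ι).map_distinguished _ hT
  have hm : (DD U.ι).map ((mulD (g ^ n)).app C) =
      (mulD (T := (U : Scheme.{u})) ((U.ι.appTop.hom g) ^ n)).app ((DD U.ι).obj C) := by
    rw [DD_map_mulD, map_pow]
  have h0 : (DD U.ι).map ((mulD (g ^ n)).app C) ≫ p = 0 := by
    have e1 : (mulD (T := (U : Scheme.{u})) ((U.ι.appTop.hom g) ^ n)).app ((DD U.ι).obj C) ≫ p =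
        p ≫ (mulD (T := (U : Scheme.{u})) ((U.ι.appTop.hom g) ^ n)).app F := (mulD_comm _ p).symm
    rw [hm, e1, hn, comp_zero]
  obtain ⟨p', hp'⟩ : ∃ p' : (DD U.ι).obj C' ⟶ F, p = (DD U.ι).map q ≫ p' :=
    Triangle.yoneda_exact₂ _ hTU p h0
  refine ⟨C', i ≫ (DD U.ι).map q, p', isPerfect_obj₃ _ hT hC hC, ?_, ?_, ?_⟩
  · rw [Category.assoc, ← hp', hip]
  · have hT' := (DD (X.basicOpen g).ι).map_distinguished _ hT
    refine (Triangle.isZero₃_iff_isIso₁ _ hT').2 ?_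
    show IsIso ((DD (X.basicOpen g).ι).map ((mulD (g ^ n)).app C))
    rw [DD_map_mulD]
    refine isIso_mulD_of_isUnit _ ?_ _
    rw [map_pow]
    exact (isUnit_ι_appTop g).pow n
  · intro V hV
    have hT' := (DD V.ι).map_distinguished _ hT
    refine (Triangle.isZero₃_iff_isIso₁ _ hT').2 ?_
    show IsIso ((DD V.ι).map ((mulD (g ^ n)).app C))
    exact ⟨0, hV.eq_of_src _ _, hV.eq_of_src _ _⟩

theorem retract_kill {X : Scheme.{u}} (U : X.Opens) (F : DCoh.D (U : Scheme.{u}))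
    (fs : List (Coh.Γtop X))
    (hn : ∀ g ∈ fs, ∃ n : ℕ, (mulD (T := (U : Scheme.{u})) ((U.ι.appTop.hom g) ^ n)).app F = 0)
    (P : DCoh.D X) (hP : DCoh.IsPerfect P)
    (i : F ⟶ (DD U.ι).obj P) (p : (DD U.ι).obj P ⟶ F) (hip : i ≫ p = 𝟙 F) :
    ∃ (C : DCoh.D X) (i' : F ⟶ (DD U.ι).obj C) (p' : (DD U.ι).obj C ⟶ F),
      DCoh.IsPerfect C ∧ i' ≫ p' = 𝟙 F ∧
      (∀ g ∈ fs, IsZero ((DD (X.basicOpen g).ι).obj C)) ∧
      (∀ V : X.Opens, IsZero ((DD V.ι).obj P) → IsZero ((DD V.ι).obj C)) := by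
  induction fs with
  | nil => exact ⟨P, i, p, hP, hip, fun g hg => absurd hg List.not_mem_nil, fun V h => h⟩
  | cons f fs ih =>
    obtain ⟨C, i₁, p₁, hC, h1, hz, hm⟩ := ih (fun g hg => hn g (List.mem_cons_of_mem _ hg))
    obtain ⟨n, hn'⟩ := hn f List.mem_cons_self
    obtain ⟨C', i', p', hC', h', hz', hmono⟩ := retract_step U f C hC F i₁ p₁ h1 n hn'
    refine ⟨C', i', p', hC', h', ?_, fun V h => hmono V (hm V h)⟩
    intro g hg
    rcases List.mem_cons.1 hg with rfl | hg'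
    · exact hz'
    · exact hmono _ (hz g hg')

theorem isZero_DD_basicOpen_of_support {X : Scheme.{u}} (T : Set X) (U : X.Opens)
    (F : DCoh.D (U : Scheme.{u}))
    (hFT : ∀ i : ℤ, CohB1.support (DCoh.HD F i) ⊆ {x : ↥(U : Scheme.{u}) | U.ι.base x ∈ T})
    (g : Γ(X, ⊤)) (hg : ∀ x ∈ X.basicOpen g, x ∉ T) :
    IsZero ((DD ((U : Scheme.{u}).basicOpen (U.ι.appTop.hom g)).ι).obj F) := by
  apply MVPushL.isZero_restrictD_of_support
  intro i x hx hxs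
  have h1 : U.ι.base x ∈ T := hFT i hxs
  have h0 := Scheme.preimage_basicOpen_top U.ι g
  have h2 : x ∈ U.ι ⁻¹ᵁ (X.basicOpen g) := by
    rw [h0]
    exact hx
  exact hg _ h2 h1

theorem support_subset_of_isZero {X : Scheme.{u}} (T : Set X) (G : DCoh.D X)
    (hcov : ∀ x : X, x ∉ T → ∃ V : X.Opens, x ∈ V ∧ IsZero ((DD V.ι).obj G)) (i : ℤ) :
    CohB1.support (DCoh.HD G i) ⊆ T := by
  intro x hx
  by_contra hxT
  obtain ⟨V, hxV, hz⟩ := hcov x hxT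
  exact hx (RGammaZL.stalks_of_isZero_restrictD V.ι G hz i ⟨x, hxV⟩)

/-- derived category version of **S1041** -/
theorem main1041' (X : Scheme.{u}) [IsAffine X] (U : X.Opens) (hU : IsCompact (U : Set X))
    (gs : List (Coh.Γtop X))
    (F : DCoh.D (U : Scheme.{u})) (hF : DCoh.IsPerfect F)
    (hFz : ∀ g ∈ gs, IsZero ((DD ((U : Scheme.{u}).basicOpen (U.ι.appTop.hom g)).ι).obj F)) :
    ∃ G : DCoh.D X, DCoh.IsPerfect G ∧ (∀ g ∈ gs, IsZero ((DD (X.basicOpen g).ι).obj G)) ∧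
      Nonempty ((DD U.ι).obj G ≅ F ⊞ F⟦(1 : ℤ)⟧) := by
  haveI : CompactSpace (U : Scheme.{u}) := isCompact_iff_compactSpace.mp hU
  haveI : QuasiSeparatedSpace (U : Scheme.{u}) :=
    QuasiSeparatedSpace.of_isOpenEmbedding U.ι.isOpenEmbedding
  obtain ⟨P, D₀, hP, ⟨ε₀⟩⟩ := exists_retract X U hU F hF
  obtain ⟨i₀, hi₀⟩ : ∃ i₀ : F ⟶ (DD U.ι).obj P, i₀ = biprod.inr ≫ ε₀.inv := ⟨_, rfl⟩
  obtain ⟨p₀, hp₀⟩ : ∃ p₀ : (DD U.ι).obj P ⟶ F, p₀ = ε₀.hom ≫ biprod.snd := ⟨_, rfl⟩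
  have hip₀ : i₀ ≫ p₀ = 𝟙 F := by
    rw [hi₀, hp₀, Category.assoc, Iso.inv_hom_id_assoc, biprod.inr_snd]
  have hpow : ∀ g ∈ gs, ∃ n : ℕ,
      (mulD (T := (U : Scheme.{u})) ((U.ι.appTop.hom g) ^ n)).app F = 0 :=
    fun g hg => exists_mulD_pow_eq_zero F hF _ (hFz g hg)
  obtain ⟨C, i, p, hC, hip, hCz, -⟩ := retract_kill U F gs hpow P hP i₀ p₀ hip₀
  obtain ⟨D, ⟨ε⟩⟩ := exists_biprod_of_retract i p hip
  obtain ⟨α, hα⟩ : ∃ α : (DD U.ι).obj C ⟶ (DD U.ι).obj C,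
      α = ε.hom ≫ biprod.fst ≫ biprod.inl ≫ ε.inv := ⟨_, rfl⟩
  obtain ⟨E₁, β, γ, hE₁, hβ, hc, hmono⟩ :=
    main1097' X U hU C C hC (isQCohD_of_isPerfect C hC) α
  obtain ⟨G, a, b, hTG⟩ := distinguished_cocone_triangle γ
  have hG : DCoh.IsPerfect G := isPerfect_obj₃ _ hTG hE₁ hC
  have hTG' := (DD U.ι).map_distinguished _ hTG
  haveI := hβ
  obtain ⟨c⟩ := cone_projector ε (asIso ((DD U.ι).map β)) _ hTG' rfl rfl (by
    simp only [eqToHom_refl, Category.id_comp, Category.comp_id]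
    show (DD U.ι).map γ = (DD U.ι).map β ≫ ε.hom ≫ biprod.fst ≫ biprod.inl ≫ ε.inv
    rw [← hc, hα])
  refine ⟨G, hG, ?_, ⟨c⟩⟩
  intro g hg
  have hT' := (DD (X.basicOpen g).ι).map_distinguished _ hTG
  refine (Triangle.isZero₃_iff_isIso₁ _ hT').2 ?_
  show IsIso ((DD (X.basicOpen g).ι).map γ)
  exact ⟨0, (hmono _ (hCz g hg)).eq_of_src _ _, (hCz g hg).eq_of_src _ _⟩

/-- **S1041** -/
theorem main1041 (X : Scheme.{u}) [IsAffine X] (T : Set X) (hT : IsClosed T)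
    (hTc : IsCompact Tᶜ) (U : X.Opens) (hU : IsCompact (U : Set X))
    (F : DCoh.D (U : Scheme.{u})) (hF : DCoh.IsPerfect F)
    (hFT : ∀ i : ℤ, CohB1.support (DCoh.HD F i) ⊆
      {x : ↥(U : Scheme.{u}) | U.ι.base x ∈ T}) :
    ∃ G : CochainComplex X.Modules ℤ, DCoh.IsPerfect (DCoh.toD X G) ∧
      (∀ i : ℤ, CohB1.support (DCoh.HD (DCoh.toD X G) i) ⊆ T) ∧
      Nonempty (DerivedCategory.Q.obj ((DCoh.restrictCx U).obj G) ≅ F ⊞ F⟦(1 : ℤ)⟧) := by
  obtain ⟨gs, hgs, hTgs⟩ :=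
    isCompact_and_isOpen_iff_finite_and_eq_biUnion_basicOpen.1 ⟨hTc, hT.isOpen_compl⟩
  have hdisj : ∀ g ∈ gs, ∀ x ∈ X.basicOpen g, x ∉ T := by
    intro g hg x hx hxT
    have h1 : x ∈ Tᶜ := by
      rw [hTgs]
      exact Set.mem_biUnion hg hx
    exact h1 hxT
  obtain ⟨G, hG, hGz, ⟨c⟩⟩ := main1041' X U hU hgs.toFinset.toList F hF
    (fun g hg => isZero_DD_basicOpen_of_support T U F hFT g
      (hdisj g (by simpa using hg)))
  have hsupp : ∀ i : ℤ, CohB1.support (DCoh.HD G i) ⊆ T := by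
    intro i
    apply support_subset_of_isZero T G
    intro x hxT
    have hx' : x ∈ Tᶜ := hxT
    rw [hTgs] at hx'
    obtain ⟨g, hg, hxg⟩ := Set.mem_iUnion₂.1 hx'
    exact ⟨X.basicOpen g, hxg, hGz g (by simpa using hg)⟩
  refine ⟨Q.objPreimage G, isPerfect_of_iso (Q.objObjPreimageIso G).symm hG, ?_, ⟨?_⟩⟩
  · intro i
    have e : DCoh.HD (DCoh.toD X (Q.objPreimage G)) i ≅ DCoh.HD G i :=
      (DerivedCategory.homologyFunctor _ i).mapIso (Q.objObjPreimageIso G)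
    rw [MVPushL.support_eq_of_iso e]
    exact hsupp i
  · exact (facIso U.ι (Q.objPreimage G)).symm ≪≫ (DD U.ι).mapIso (Q.objObjPreimageIso G) ≪≫ c

end

end Groth.Agent.Lib.TTSuppL
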