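import Mathlib
import Groth.Prelude
import Groth.Agent.Lib.TTSupp1_lead
import Groth.Agent.Lib.PCohFT3_lead

/-!
# Approximation by perfect complexes on affine schemes, I (helper3; towards S7261)

* `VR.obj₃`, `VR.shift`, `vr_T0`: calculus of the vanishing range property of lead.
* `exists_factor_cone_vr`, `exists_kill_vr`: lead's killing lemmas, keeping track of the vanishing
  range and of the vanishing of the cohomology above a degree.
* `single_step'`: killing the top cohomology sheaf by a perfect complex supported on `V(fs)`.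
-/

set_option autoImplicit false
set_option linter.all false
set_option maxHeartbeats 1600000
set_option backward.isDefEq.respectTransparency false
set_option backward.isDefEq.respectTransparency.types false
set_option backward.defeqAttrib.useBackward true

universe u

open CategoryTheory CategoryTheory.Limits AlgebraicGeometry TopologicalSpace Opposite
open DerivedCategory CategoryTheory.Pretriangulated

attribute [local instance] HasDerivedCategory.standard

namespace Groth.Agent.Lib.ApxAffH3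

open Groth.Agent.Lib Groth.Agent.Lib.DCohLocLead Groth.Agent.Lib.PerfLocL
open Groth.Agent.Lib.HomVanL Groth.Agent.Lib.CompQL Groth.Agent.Lib.SerreHomL
open Groth.Agent.Lib.TTLiftL Groth.Agent.Lib.TTApxL Groth.Agent.Lib.TTSuppL

noncomputable section

attribute [local instance] rpushI lpullI

/-! ### Calculus of vanishing ranges -/

theorem VR.obj₃ {T : Scheme.{u}} (Tr : Triangle (DCoh.D T)) (hT : Tr ∈ distTriang (DCoh.D T))
    {a b : ℤ} (h₁ : VR Tr.obj₁ a b) (h₂ : VR Tr.obj₂ a b) : VR Tr.obj₃ (a - 1) b := by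
  intro m K' hc L hL hz
  obtain ⟨c⟩ := hc
  refine NoHom.of_iso_left ?_ c.symm
  refine NoHom.ext_left_shift m Tr.rotate (rot_of_distTriang _ hT) ?_ ?_
  · exact h₂ m _ ⟨Iso.refl _⟩ L hL (fun i h1 h2 => hz i (by omega) h2)
  · exact h₁ (m + 1) _
      ⟨((shiftFunctorAdd' (DCoh.D T) (1 : ℤ) m (m + 1) (by omega)).app Tr.obj₁).symm⟩ L hL
      (fun i h1 h2 => hz i (by omega) (by omega))

theorem VR.shift {T : Scheme.{u}} {K : DCoh.D T} {a b : ℤ} (h : VR K a b) (n : ℤ) :
    VR (K⟦n⟧) (a - n) (b - n) := by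
  intro m K' hc L hL hz
  obtain ⟨c⟩ := hc
  exact h (n + m) K'
    ⟨c ≪≫ ((shiftFunctorAdd' (DCoh.D T) n m (n + m) rfl).app K).symm⟩ L hL
    (fun i h1 h2 => hz i (by omega) (by omega))

theorem vr_T0 (X : Scheme.{u}) [IsAffine X] : VR (T0 X) 0 0 := by
  intro m K' hc L hL hz
  obtain ⟨c⟩ := hc
  refine NoHom.of_iso_left ?_ c.symm
  refine Groth.Agent.Lib.KoszL.NoHom.shift_left' m (-m) (by omega) ?_
  intro φ
  have hq : DCoh.IsQCohD (L⟦-m⟧) := isQCohD_shift L hL (-m)
  have h0 : IsZero (DCoh.HD (L⟦-m⟧) 0) :=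
    isZero_HD_shift L (-m) 0 (hz _ (by omega) (by omega))
  have hbij := DSectX.etaX_bijective X (L⟦-m⟧) (fun j _ => hq j) ⊤ (isAffineOpen_top X)
  apply hbij.1
  rw [map_zero, etaA_eq_app, h0.eq_of_tgt ((homologyFunctor X.Modules 0).map φ) 0]
  rfl

/-! ### Killing lemmas with vanishing ranges -/

section Kill

variable {X : Scheme.{u}} [CompactSpace X] [QuasiSeparatedSpace X]

theorem exists_factor_cone_vr (f : Coh.Γtop X) (G N : DCoh.D X) (hG : DCoh.IsPerfect G)
    (hN : DCoh.IsQCohD N) (hz : IsZero ((DD (X.basicOpen f).ι).obj N)) (φ : G ⟶ N)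
    (a b : ℤ) (hVR : VR G a b) (hub : ∀ i : ℤ, b < i → IsZero (DCoh.HD G i)) :
    ∃ (G' : DCoh.D X) (p : G ⟶ G') (φ' : G' ⟶ N), DCoh.IsPerfect G' ∧ p ≫ φ' = φ ∧
      IsZero ((DD (X.basicOpen f).ι).obj G') ∧
      (∀ V : X.Opens, IsZero ((DD V.ι).obj G) → IsZero ((DD V.ι).obj G')) ∧
      VR G' (a - 1) b ∧ ∀ i : ℤ, b < i → IsZero (DCoh.HD G' i) := by
  have h := hc_of_isPerfect (𝒮 := torsClass) f G hG N hN (hyp_tors_of_restrict N hN f hz)
  obtain ⟨n, hn⟩ := h φ
  have hn2 : φ ≫ (mulD (f ^ n)).app N = 0 := (iterate_rightComp f φ n).symm.trans hn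
  have hn' : (mulD (f ^ n)).app G ≫ φ = 0 := by
    rw [← mulD_comm]
    exact hn2
  obtain ⟨G', p, q, hT⟩ := distinguished_cocone_triangle ((mulD (f ^ n)).app G)
  obtain ⟨φ', hφ'⟩ := Triangle.yoneda_exact₂ _ hT φ hn'
  refine ⟨G', p, φ', isPerfect_obj₃ _ hT hG hG, hφ'.symm, ?_, ?_, VR.obj₃ _ hT hVR hVR, ?_⟩
  · have hT' := (DD (X.basicOpen f).ι).map_distinguished _ hT
    refine (Triangle.isZero₃_iff_isIso₁ _ hT').2 ?_
    show IsIso ((DD (X.basicOpen f).ι).map ((mulD (f ^ n)).app G))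
    rw [DD_map_mulD]
    refine isIso_mulD_of_isUnit _ ?_ _
    rw [map_pow]
    exact (isUnit_ι_appTop f).pow n
  · intro V hV
    have hT' := (DD V.ι).map_distinguished _ hT
    refine (Triangle.isZero₃_iff_isIso₁ _ hT').2 ?_
    show IsIso ((DD V.ι).map ((mulD (f ^ n)).app G))
    exact ⟨0, hV.eq_of_src _ _, hV.eq_of_src _ _⟩
  · intro i hi
    have hex := DerivedCategory.HomologySequence.exact₃ _ hT i (i + 1) rfl
    exact hex.isZero_of_both_zeros ((hub i hi).eq_of_src _ _)
      ((hub (i + 1) (by omega)).eq_of_tgt _ _)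

theorem exists_kill_vr (N : DCoh.D X) (hN : DCoh.IsQCohD N) (fs : List (Coh.Γtop X))
    (hz : ∀ f ∈ fs, IsZero ((DD (X.basicOpen f).ι).obj N))
    (E : DCoh.D X) (hE : DCoh.IsPerfect E) (φ : E ⟶ N)
    (a b : ℤ) (hVR : VR E a b) (hub : ∀ i : ℤ, b < i → IsZero (DCoh.HD E i)) :
    ∃ (G : DCoh.D X) (ψ : E ⟶ G) (φ' : G ⟶ N), DCoh.IsPerfect G ∧ ψ ≫ φ' = φ ∧
      (∀ f ∈ fs, IsZero ((DD (X.basicOpen f).ι).obj G)) ∧
      VR G (a - (fs.length : ℤ)) b ∧ ∀ i : ℤ, b < i → IsZero (DCoh.HD G i) := by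
  induction fs with
  | nil =>
    exact ⟨E, 𝟙 E, φ, hE, Category.id_comp _, fun f hf => absurd hf List.not_mem_nil,
      hVR.mono (by simp) le_rfl, hub⟩
  | cons f fs ih =>
    obtain ⟨G, ψ, φ', hG, hc, hG0, hGVR, hGub⟩ :=
      ih (fun g hg => hz g (List.mem_cons_of_mem _ hg))
    obtain ⟨G', p, φ'', hG', hc', hz', hmono, hVR', hub'⟩ :=
      exists_factor_cone_vr f G N hG hN (hz f List.mem_cons_self) φ' _ _ hGVR hGub
    refine ⟨G', ψ ≫ p, φ'', hG', by rw [Category.assoc, hc', hc], ?_,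
      hVR'.mono (by rw [List.length_cons]; push_cast; omega) le_rfl, hub'⟩
    intro g hg
    rcases List.mem_cons.1 hg with rfl | hg'
    · exact hz'
    · exact hmono _ (hG0 g hg')

end Kill

/-! ### Truncations -/

theorem isZero_DD_truncGE {X : Scheme.{u}} (C : DCoh.D X) (c : ℤ) (V : X.Opens)
    (h : ∀ i : ℤ, c ≤ i →
      IsZero ((Scheme.Modules.restrictFunctor V.ι).obj (DCoh.HD C i))) :
    IsZero ((DD V.ι).obj (((tX X).truncGE c).obj C)) := by
  apply MVPushL.isZero_of_forall_isZero_homology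
  intro i
  obtain ⟨e⟩ := nonempty_HD_restrict_iso V.ι (((tX X).truncGE c).obj C) i
  refine IsZero.of_iso ?_ e
  by_cases hi : c ≤ i
  · haveI : IsIso ((homologyFunctor X.Modules i).map (((tX X).truncGEπ c).app C)) :=
      TruncTower_helper7.isIso_homology_truncGEπ C c i hi
    exact (h i hi).of_iso ((Scheme.Modules.restrictFunctor V.ι).mapIso
      (asIso ((homologyFunctor X.Modules i).map (((tX X).truncGEπ c).app C))).symm)
  · exact (Scheme.Modules.restrictFunctor V.ι).map_isZero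
      (DerivedCategory.isZero_of_isGE (((tX X).truncGE c).obj C) c i (by omega))

/-! ### The single step -/

open ZeroObject in
open scoped Classical in
theorem single_step' (X : Scheme.{u}) [IsAffine X] (fs : List (Coh.Γtop X))
    (C : DCoh.D X) (hC : DCoh.IsQCohD C) (t : ℤ)
    (hvan : ∀ j : ℤ, t < j → IsZero (DCoh.HD C j))
    (hft : CohB1.IsFT (DCoh.HD C t))
    (hsupp : ∀ f ∈ fs, ∀ i : ℤ, t - (fs.length : ℤ) + 1 ≤ i →
      IsZero ((Scheme.Modules.restrictFunctor (X.basicOpen f).ι).obj (DCoh.HD C i))) :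
    ∃ (S C' : DCoh.D X) (ξ : S ⟶ C) (q : C ⟶ C') (r : C' ⟶ S⟦(1 : ℤ)⟧),
      Triangle.mk ξ q r ∈ distTriang (DCoh.D X) ∧ DCoh.IsPerfect S ∧
      (∀ f ∈ fs, IsZero ((DD (X.basicOpen f).ι).obj S)) ∧
      ∀ j : ℤ, t ≤ j → IsZero (DCoh.HD C' j) := by
  obtain ⟨c, hc⟩ : ∃ c : ℤ, c = min t (t - (fs.length : ℤ) + 1) := ⟨_, rfl⟩
  have hct : c ≤ t := by rw [hc]; exact min_le_left _ _
  have hcr : c ≤ t - (fs.length : ℤ) + 1 := by rw [hc]; exact min_le_right _ _
  obtain ⟨E₁, hE₁⟩ : ∃ E₁ : DCoh.D X, E₁ = ((tX X).truncGE c).obj C := ⟨_, rfl⟩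
  obtain ⟨π, hπ⟩ : ∃ π : C ⟶ ((tX X).truncGE c).obj C, π = ((tX X).truncGEπ c).app C := ⟨_, rfl⟩
  have hTtr : ((tX X).triangleLEGE (c - 1) c (by omega)).obj C ∈ distTriang _ :=
    (tX X).triangleLEGE_distinguished (c - 1) c (by omega) C
  have hE₁q : DCoh.IsQCohD (((tX X).truncGE c).obj C) := isQCohD_truncGE C hC c
  have hZq : DCoh.IsQCohD (((tX X).truncLE (c - 1)).obj C) := isQCohD_truncLE C hC (c - 1)
  have hE₁z : ∀ f ∈ fs, IsZero ((DD (X.basicOpen f).ι).obj (((tX X).truncGE c).obj C)) := by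
    intro f hf
    have hpos : 0 < fs.length := List.length_pos_of_mem hf
    apply isZero_DD_truncGE
    intro i hi
    refine hsupp f hf i ?_
    have h1 : (1 : ℤ) ≤ (fs.length : ℤ) := by exact_mod_cast hpos
    rw [hc] at hi
    omega
  haveI hπiso : IsIso ((homologyFunctor X.Modules t).map π) := by
    rw [hπ]
    exact TruncTower_helper7.isIso_homology_truncGEπ C c t hct
  -- finite generation of the top cohomology
  haveI : (DCoh.HD C t).IsQuasicoherent := hC t
  haveI : SheafOfModules.IsFiniteType (R := X.ringCatSheaf) (DCoh.HD C t) := hft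
  have hfin : Module.Finite Γ(X, ⊤) Γ(DCoh.HD C t, ⊤) :=
    QCohFT.finite_of_isFiniteType _ (isAffineOpen_top X)
  obtain ⟨ms, hms⟩ : (⊤ : Submodule Γ(X, ⊤) Γ(DCoh.HD C t, ⊤)).FG := Module.Finite.fg_top
  -- one cell for each section
  have key : ∀ m : Γ(DCoh.HD C t, ⊤), ∃ (G : DCoh.D X) (ψ : G ⟶ C) (w : Γ(DCoh.HD G t, ⊤)),
      DCoh.IsPerfect G ∧ (∀ f ∈ fs, IsZero ((DD (X.basicOpen f).ι).obj G)) ∧
      (∀ i : ℤ, t < i → IsZero (DCoh.HD G i)) ∧
      ((homologyFunctor X.Modules t).map ψ).app ⊤ w = m := by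
    intro m
    obtain ⟨φ, u, hφu⟩ := exists_map_of_section X C hC t m
    have hVR0 : VR ((T0 X)⟦-t⟧) t t :=
      (VR.shift (vr_T0 X) (-t)).mono (by omega) (by omega)
    obtain ⟨G, p, φ', hG, hpφ, hGz, hGVR, hGub⟩ :=
      exists_kill_vr (((tX X).truncGE c).obj C) hE₁q fs hE₁z ((T0 X)⟦-t⟧)
        (isPerfect_shift (isPerfect_T0 X) (-t)) (φ ≫ π) t t hVR0
        (fun i hi => isZero_HD_T0_shift X t i (by omega))
    have hno : NoHom G ((((tX X).truncLE (c - 1)).obj C)⟦(1 : ℤ)⟧) := by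
      refine hGVR 0 G ⟨((shiftFunctorZero (DCoh.D X) ℤ).app G).symm⟩ _
        (isQCohD_shift _ hZq 1) ?_
      intro i h1 h2
      exact isZero_HD_shift _ 1 i
        (DerivedCategory.isZero_of_isLE (((tX X).truncLE (c - 1)).obj C) (c - 1) (1 + i)
          (by omega))
    obtain ⟨ψ, hψ'⟩ : ∃ ψ : G ⟶ C, φ' = ψ ≫ π := by
      rw [hπ]
      exact Triangle.coyoneda_exact₃ _ hTtr φ' (hno _)
    refine ⟨G, ψ, ((homologyFunctor X.Modules t).map p).app ⊤ u, hG, hGz, hGub, ?_⟩
    have e1 : (homologyFunctor X.Modules t).map (p ≫ ψ) ≫ (homologyFunctor X.Modules t).map π =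
        (homologyFunctor X.Modules t).map φ ≫ (homologyFunctor X.Modules t).map π := by
      rw [← CategoryTheory.Functor.map_comp, ← CategoryTheory.Functor.map_comp, Category.assoc,
        ← hψ', hpφ]
    have e2 : (homologyFunctor X.Modules t).map (p ≫ ψ) = (homologyFunctor X.Modules t).map φ :=
      (cancel_mono _).1 e1
    have e3 : ((homologyFunctor X.Modules t).map ψ).app ⊤
          (((homologyFunctor X.Modules t).map p).app ⊤ u)
        = ((homologyFunctor X.Modules t).map (p ≫ ψ)).app ⊤ u := by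
      rw [CategoryTheory.Functor.map_comp]
      rfl
    rw [e3, e2]
    exact hφu
  -- finitely many cells
  have sum : ∀ l : List Γ(DCoh.HD C t, ⊤), ∃ (S : DCoh.D X) (ξ : S ⟶ C), DCoh.IsPerfect S ∧
      (∀ f ∈ fs, IsZero ((DD (X.basicOpen f).ι).obj S)) ∧
      (∀ i : ℤ, t < i → IsZero (DCoh.HD S i)) ∧
      ∀ m ∈ l, ∃ w : Γ(DCoh.HD S t, ⊤), ((homologyFunctor X.Modules t).map ξ).app ⊤ w = m := by
    intro l
    induction l with
    | nil =>
      exact ⟨0, 0, isPerfect_of_isZero (isZero_zero _),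
        fun f _ => (DD (X.basicOpen f).ι).map_isZero (isZero_zero _),
        fun i _ => (homologyFunctor X.Modules i).map_isZero (isZero_zero _),
        fun m hm => absurd hm List.not_mem_nil⟩
    | cons m l ih =>
      obtain ⟨S, ξ, hS, hSz, hSv, hfac⟩ := ih
      obtain ⟨G, ψ, w, hG, hGz, hGub, hw⟩ := key m
      refine ⟨S ⊞ G, biprod.desc ξ ψ, isPerfect_biprod hS hG, ?_, ?_, ?_⟩
      · intro f hf
        have hT' := (DD (X.basicOpen f).ι).map_distinguished _
          (binaryBiproductTriangle_distinguished S G)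
        exact Triangle.isZero₂_of_isZero₁₃ _ hT' (hSz f hf) (hGz f hf)
      · intro i hi
        have hex := DerivedCategory.HomologySequence.exact₂ _
          (binaryBiproductTriangle_distinguished S G) i
        exact hex.isZero_of_both_zeros ((hSv i hi).eq_of_src _ _) ((hGub i hi).eq_of_tgt _ _)
      · intro m' hm'
        rcases List.mem_cons.1 hm' with h | hm''
        · refine ⟨((homologyFunctor X.Modules t).map (biprod.inr : G ⟶ S ⊞ G)).app ⊤ w, ?_⟩
          calc ((homologyFunctor X.Modules t).map (biprod.desc ξ ψ)).app ⊤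
                (((homologyFunctor X.Modules t).map (biprod.inr : G ⟶ S ⊞ G)).app ⊤ w)
              = ((homologyFunctor X.Modules t).map
                  ((biprod.inr : G ⟶ S ⊞ G) ≫ biprod.desc ξ ψ)).app ⊤ w := by
                rw [CategoryTheory.Functor.map_comp]
                rfl
            _ = ((homologyFunctor X.Modules t).map ψ).app ⊤ w := by rw [biprod.inr_desc]
            _ = m' := by rw [hw, h]
        · obtain ⟨w', hw'⟩ := hfac m' hm''
          refine ⟨((homologyFunctor X.Modules t).map (biprod.inl : S ⟶ S ⊞ G)).app ⊤ w', ?_⟩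
          calc ((homologyFunctor X.Modules t).map (biprod.desc ξ ψ)).app ⊤
                (((homologyFunctor X.Modules t).map (biprod.inl : S ⟶ S ⊞ G)).app ⊤ w')
              = ((homologyFunctor X.Modules t).map
                  ((biprod.inl : S ⟶ S ⊞ G) ≫ biprod.desc ξ ψ)).app ⊤ w' := by
                rw [CategoryTheory.Functor.map_comp]
                rfl
            _ = ((homologyFunctor X.Modules t).map ξ).app ⊤ w' := by rw [biprod.inl_desc]
            _ = m' := hw'
  obtain ⟨S, ξ, hS, hSz, hSv, hfac⟩ := sum ms.toList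
  obtain ⟨C', q, r, hT⟩ := distinguished_cocone_triangle ξ
  have hC' : DCoh.IsQCohD C' := RpushQCL.isQCohD_obj₃ _ hT (isQCohD_of_isPerfect S hS) hC
  have hξq : ξ ≫ q = 0 := comp_distTriang_mor_zero₁₂ _ hT
  refine ⟨S, C', ξ, q, r, hT, hS, hSz, ?_⟩
  intro j hj
  rcases eq_or_lt_of_le hj with hjt | hj'
  · subst hjt
    haveI : (DCoh.HD C' t).IsQuasicoherent := hC' t
    have hex := DerivedCategory.HomologySequence.exact₃ _ hT t (t + 1) rfl
    haveI : Epi ((homologyFunctor X.Modules t).map q) :=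
      hex.epi_f ((hSv (t + 1) (by omega)).eq_of_tgt _ _)
    apply Groth.Agent.CoprodQP.isZero_of_sections
    intro W s
    refine sections_eq_zero_of_affine (DCoh.HD C' t) (isAffineOpen_top X) ?_ W le_top s
    intro s
    obtain ⟨t', ht'⟩ :=
      QCohExact.app_surjective_of_epi ((homologyFunctor X.Modules t).map q)
        (isAffineOpen_top X) s
    have hker : (⊤ : Submodule Γ(X, ⊤) Γ(DCoh.HD C t, ⊤)) ≤
        LinearMap.ker (secLin ((homologyFunctor X.Modules t).map q) ⊤) := by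
      rw [← hms]
      apply Submodule.span_le.2
      intro m hm
      obtain ⟨w, hw⟩ := hfac m (Finset.mem_toList.2 (Finset.mem_coe.1 hm))
      show secLin ((homologyFunctor X.Modules t).map q) ⊤ m = 0
      rw [secLin_apply, ← hw]
      calc ((homologyFunctor X.Modules t).map q).app ⊤
            (((homologyFunctor X.Modules t).map ξ).app ⊤ w)
          = ((homologyFunctor X.Modules t).map (ξ ≫ q)).app ⊤ w := by
            rw [CategoryTheory.Functor.map_comp]
            rfl
        _ = 0 := by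
            rw [hξq, CategoryTheory.Functor.map_zero]
            rfl
    have h3 : secLin ((homologyFunctor X.Modules t).map q) ⊤ t' = 0 :=
      LinearMap.mem_ker.1 (hker Submodule.mem_top)
    rw [← ht']
    exact h3
  · have hex := DerivedCategory.HomologySequence.exact₃ _ hT j (j + 1) rfl
    exact hex.isZero_of_both_zeros ((hvan j hj').eq_of_src _ _)
      ((hSv (j + 1) (by omega)).eq_of_tgt _ _)

end

end Groth.Agent.Lib.ApxAffH3
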