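import Mathlib
import Groth.Prelude
import Groth.Agent.Lib.ApxAff1_helper3

/-!
# Approximation by perfect complexes on affine schemes, II (helper3; S7261)

* `exists_bound_of_isPC`: a pseudo-coherent object on a quasi-compact scheme is bounded above.
* `approx_cone`: the inductive construction.
* `main7261`: approximation holds on an affine scheme for `(V(fs), E, m)`.
-/

set_option autoImplicit false
set_option linter.all false
set_option maxHeartbeats 1600000
set_option backward.isDefEq.respectTransparency false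
set_option backward.isDefEq.respectTransparency.types false
set_option backward.defeqAttrib.useBackward true

universe u

open CategoryTheory CategoryTheory.Limits AlgebraicGeometry TopologicalSpace Opposite
open DerivedCategory CategoryTheory.Pretriangulated

attribute [local instance] HasDerivedCategory.standard

namespace Groth.Agent.Lib.ApxAffH3

open Groth.Agent.Lib Groth.Agent.Lib.DCohLocLead Groth.Agent.Lib.PerfLocL
open Groth.Agent.Lib.HomVanL Groth.Agent.Lib.CompQL Groth.Agent.Lib.SerreHomL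
open Groth.Agent.Lib.TTLiftL Groth.Agent.Lib.TTApxL Groth.Agent.Lib.TTSuppL

noncomputable section

attribute [local instance] rpushI lpullI

theorem exists_bound_of_isPC {X : Scheme.{u}} [CompactSpace X] (m : ℤ) (K : DCoh.D X)
    (hK : DCoh.IsPseudoCoherentD m K) : ∃ b : ℤ, ∀ i : ℤ, b < i → IsZero (DCoh.HD K i) := by
  choose V hxV hV using fun x => (isPC_iff m K).1 hK x
  have hV' : ∀ x : X, ∃ (E : CochainComplex ((V x : X.Opens) : Scheme.{u}).Modules ℤ)
      (α : Q.obj E ⟶ (DD (V x).ι).obj K), DCoh.IsStrictlyPerfect E ∧ IsApprox m α := hV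
  choose P α hP hα using hV'
  choose a b hab using fun x => (hP x).1
  obtain ⟨t, ht⟩ := isCompact_univ.elim_finite_subcover
    (fun x : X => ((V x : X.Opens) : Set X))
    (fun x => (V x).isOpen) (fun y _ => Set.mem_iUnion.2 ⟨y, hxV y⟩)
  have hzero : ∀ i : ℤ, m < i → (∀ x ∈ t, b x < i) → IsZero (DCoh.HD K i) := by
    intro i him hi
    refine isZero_of_isZero_restrict (DCoh.HD K i) (fun x : {x // x ∈ t} => V x.1) ?_ ?_
    · intro y
      have hy := ht (Set.mem_univ y)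
      simp only [Set.mem_iUnion] at hy
      obtain ⟨x, hx, hyx⟩ := hy
      exact ⟨⟨x, hx⟩, hyx⟩
    · rintro ⟨x, hx⟩
      obtain ⟨e1⟩ := nonempty_HD_restrict_iso (V x).ι K i
      haveI : IsIso ((homologyFunctor _ i).map (α x)) := (hα x).1 i him
      have e2 : DCoh.HD ((DD (V x).ι).obj K) i ≅ (P x).homology i :=
        (asIso ((homologyFunctor _ i).map (α x))).symm ≪≫
          (homologyFunctorFactors _ i).app (P x)
      exact IsZero.of_iso
        (isZero_homology_of_isZero_X (P x) i (hab x i (Or.inr (hi x hx)))) (e1.symm ≪≫ e2)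
  refine ⟨|m| + ∑ x ∈ t, |b x|, ?_⟩
  intro i hi
  have hs : 0 ≤ ∑ y ∈ t, |b y| := Finset.sum_nonneg (fun y _ => abs_nonneg _)
  have hm := le_abs_self m
  refine hzero i (by omega) (fun x hx => ?_)
  have h1 : |b x| ≤ ∑ y ∈ t, |b y| :=
    Finset.single_le_sum (f := fun y => |b y|) (fun y _ => abs_nonneg _) hx
  have h2 := le_abs_self (b x)
  have h3 := abs_nonneg m
  omega

theorem isZero_restrict_HD_obj₃ {X : Scheme.{u}} (T : Triangle (DCoh.D X))
    (hT : T ∈ distTriang (DCoh.D X)) (V : X.Opens)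
    (h1 : IsZero ((DD V.ι).obj T.obj₁)) (i : ℤ)
    (h2 : IsZero ((Scheme.Modules.restrictFunctor V.ι).obj (DCoh.HD T.obj₂ i))) :
    IsZero ((Scheme.Modules.restrictFunctor V.ι).obj (DCoh.HD T.obj₃ i)) := by
  have hT' := (DD V.ι).map_distinguished _ hT
  obtain ⟨e2⟩ := nonempty_HD_restrict_iso V.ι T.obj₂ i
  obtain ⟨e3⟩ := nonempty_HD_restrict_iso V.ι T.obj₃ i
  have hex := DerivedCategory.HomologySequence.exact₃ _ hT' i (i + 1) rfl
  have hz2 : IsZero (DCoh.HD ((DD V.ι).obj T.obj₂) i) := h2.of_iso e2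
  have hz1 : IsZero (DCoh.HD ((DD V.ι).obj T.obj₁) (i + 1)) :=
    (homologyFunctor _ (i + 1)).map_isZero h1
  have hz3 : IsZero (DCoh.HD ((DD V.ι).obj T.obj₃) i) :=
    hex.isZero_of_both_zeros (hz2.eq_of_src _ _) (hz1.eq_of_tgt _ _)
  exact hz3.of_iso e3.symm

open ZeroObject in
theorem approx_cone (X : Scheme.{u}) [IsAffine X] (fs : List (Coh.Γtop X)) (m : ℤ)
    (E : DCoh.D X) (hq : DCoh.IsQCohD E) (hpc : DCoh.IsPseudoCoherentD m E)
    (hsupp : ∀ f ∈ fs, ∀ i : ℤ, m - (fs.length : ℤ) + 1 ≤ i →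
      IsZero ((Scheme.Modules.restrictFunctor (X.basicOpen f).ι).obj (DCoh.HD E i)))
    (b : ℤ) (hb : ∀ i : ℤ, b < i → IsZero (DCoh.HD E i)) (n : ℕ)
    (hn : m - 1 ≤ b - (n : ℤ)) :
    ∃ (P C : DCoh.D X) (θ : P ⟶ E) (p : E ⟶ C) (d : C ⟶ P⟦(1 : ℤ)⟧),
      Triangle.mk θ p d ∈ distTriang (DCoh.D X) ∧ DCoh.IsPerfect P ∧
      (∀ f ∈ fs, IsZero ((DD (X.basicOpen f).ι).obj P)) ∧
      ∀ j : ℤ, b - (n : ℤ) < j → IsZero (DCoh.HD C j) := by
  induction n with
  | zero =>
    refine ⟨0, E, 0, 𝟙 E, 0, contractible_distinguished₁ E,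
      isPerfect_of_isZero (isZero_zero _),
      fun f _ => (DD (X.basicOpen f).ι).map_isZero (isZero_zero _), ?_⟩
    intro j hj
    exact hb j (by simpa using hj)
  | succ n ih =>
    have hn' : m - 1 ≤ b - (n : ℤ) := by push_cast at hn; omega
    have ht : m ≤ b - (n : ℤ) := by push_cast at hn; omega
    obtain ⟨P, C, θ, p, d, hT, hP, hPz, hv⟩ := ih hn'
    have hC : DCoh.IsQCohD C := RpushQCL.isQCohD_obj₃ _ hT (isQCohD_of_isPerfect P hP) hq
    have hCpc : DCoh.IsPseudoCoherentD m C :=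
      isPC_obj₃ m _ hT (isPC_of_isPerfect hP (m + 1)) hpc
    have hCpc' : DCoh.IsPseudoCoherentD (b - (n : ℤ)) C := isPC_mono hCpc ht
    have hft : CohB1.IsFT (DCoh.HD C (b - (n : ℤ))) := (main890 (b - (n : ℤ)) C hCpc').1 hv
    have hCsupp : ∀ f ∈ fs, ∀ i : ℤ, (b - (n : ℤ)) - (fs.length : ℤ) + 1 ≤ i →
        IsZero ((Scheme.Modules.restrictFunctor (X.basicOpen f).ι).obj (DCoh.HD C i)) := by
      intro f hf i hi
      exact isZero_restrict_HD_obj₃ _ hT (X.basicOpen f) (hPz f hf) i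
        (hsupp f hf i (by omega))
    obtain ⟨S, C', ξ, q, r, hT₂, hS, hSz, hv'⟩ :=
      single_step' X fs C hC (b - (n : ℤ)) hv hft hCsupp
    obtain ⟨P', θ', d', hT₃⟩ := distinguished_cocone_triangle₁ (p ≫ q)
    have o := Triangulated.someOctahedron' (rfl : p ≫ q = p ≫ q) hT hT₂ hT₃
    have hP' : DCoh.IsPerfect P' :=
      isPerfect_obj₃ _ (inv_rot_of_distTriang _ o.mem) (isPerfect_shift hS (-1)) hP
    refine ⟨P', C', θ', p ≫ q, d', hT₃, hP', ?_, ?_⟩
    · intro f hf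
      have hT' := (DD (X.basicOpen f).ι).map_distinguished _ (inv_rot_of_distTriang _ o.mem)
      have hz1 : IsZero ((DD (X.basicOpen f).ι).obj (S⟦(-1 : ℤ)⟧)) :=
        IsZero.of_iso ((shiftFunctor _ (-1 : ℤ)).map_isZero (hSz f hf))
          (((DD (X.basicOpen f).ι).commShiftIso (-1 : ℤ)).app S)
      exact (Triangle.isZero₃_iff_isIso₁ _ hT').2
        ⟨0, hz1.eq_of_src _ _, (hPz f hf).eq_of_src _ _⟩
    · intro j hj
      refine hv' j ?_
      push_cast at hj
      omega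

/-- **S7261** -/
theorem main7261 (X : Scheme.{u}) [IsAffine X] (fs : Finset Γ(X, ⊤))
    (m : ℤ) (E : DCoh.D X) (hq : DCoh.IsQCohD E) (hpc : DCoh.IsPseudoCoherentD m E)
    (hsupp : ∀ i : ℤ, m - (fs.card : ℤ) + 1 ≤ i →
      CohB1.support (DCoh.HD E i) ⊆ X.zeroLocus (U := ⊤) (↑fs : Set Γ(X, ⊤))) :
    ∃ (P : DCoh.D X) (α : P ⟶ E), DCoh.IsPerfect P ∧
      (∀ i : ℤ, CohB1.support (DCoh.HD P i) ⊆ X.zeroLocus (U := ⊤) (↑fs : Set Γ(X, ⊤))) ∧
      (∀ i : ℤ, m < i → IsIso ((DerivedCategory.homologyFunctor X.Modules i).map α)) ∧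
      Epi ((DerivedCategory.homologyFunctor X.Modules m).map α) := by
  have hlen : (fs.toList.length : ℤ) = (fs.card : ℤ) := by rw [Finset.length_toList]
  have hsupp' : ∀ f ∈ fs.toList, ∀ i : ℤ, m - (fs.toList.length : ℤ) + 1 ≤ i →
      IsZero ((Scheme.Modules.restrictFunctor (X.basicOpen f).ι).obj (DCoh.HD E i)) := by
    intro f hf i hi
    apply MVPushL.isZero_restrict_of_support
    intro x hx hxs
    have h1 := hsupp i (by rw [← hlen]; exact hi) hxs
    rw [Scheme.mem_zeroLocus_iff] at h1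
    exact h1 f (Finset.mem_coe.2 (Finset.mem_toList.1 hf)) hx
  obtain ⟨b₀, hb₀⟩ := exists_bound_of_isPC m E hpc
  obtain ⟨b, hb⟩ : ∃ b : ℤ, b = max b₀ (m - 1) := ⟨_, rfl⟩
  have hbb : ∀ i : ℤ, b < i → IsZero (DCoh.HD E i) := fun i hi =>
    hb₀ i (lt_of_le_of_lt (by rw [hb]; exact le_max_left _ _) hi)
  have hbm : m - 1 ≤ b := by rw [hb]; exact le_max_right _ _
  obtain ⟨n, hn⟩ : ∃ n : ℕ, (n : ℤ) = b - (m - 1) := ⟨(b - (m - 1)).toNat, Int.toNat_of_nonneg (by omega)⟩
  obtain ⟨P, C, θ, p, d, hT, hP, hPz, hv⟩ :=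
    approx_cone X fs.toList m E hq hpc hsupp' b hbb n (by omega)
  have hz : ∀ k : ℤ, m ≤ k → IsZero (DCoh.HD C k) := fun k hk => hv k (by omega)
  refine ⟨P, θ, hP, ?_, ?_, ?_⟩
  · intro i
    apply support_subset_of_isZero
    intro x hx
    rw [Scheme.mem_zeroLocus_iff] at hx
    push Not at hx
    obtain ⟨f, hf, hxf⟩ := hx
    exact ⟨X.basicOpen f, hxf, hPz f (Finset.mem_toList.2 (Finset.mem_coe.1 hf))⟩
  · intro i hi
    haveI : Epi ((homologyFunctor X.Modules i).map θ) :=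
      (HomologySequence.epi_homologyMap_mor₁_iff _ hT i).2 ((hz i (by omega)).eq_of_tgt _ _)
    haveI : Mono ((homologyFunctor X.Modules i).map θ) :=
      (HomologySequence.mono_homologyMap_mor₁_iff _ hT (i - 1) i (by omega)).2
        ((hz (i - 1) (by omega)).eq_of_src _ _)
    exact isIso_of_mono_of_epi _
  · exact (HomologySequence.epi_homologyMap_mor₁_iff _ hT m).2 ((hz m le_rfl).eq_of_tgt _ _)

end

end Groth.Agent.Lib.ApxAffH3
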