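import Mathlib
import Groth.Prelude
import Groth.Agent.Lib.MVPush5_lead
import Groth.Agent.Lib.DerProd_helper9

/-!
# Gluing objects of the derived category on a union of two opens (lead)
-/

set_option autoImplicit false
set_option linter.all false
set_option maxHeartbeats 1600000
set_option backward.isDefEq.respectTransparency false
set_option backward.isDefEq.respectTransparency.types false
set_option backward.defeqAttrib.useBackward true

universe u
open CategoryTheory CategoryTheory.Limits AlgebraicGeometry Opposite TopologicalSpace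
open CategoryTheory.Pretriangulated
attribute [local instance] HasDerivedCategory.standard

namespace Groth.Agent.Lib.GlueL

open Groth.Agent.Lib.StalkSkyL Groth.Agent.Lib.MVPushL Groth.Agent.Lib.DCohLocLead

noncomputable section

/-! ### a triangulated lemma -/

section Abstract

variable {C : Type*} [Category C] [Preadditive C] [HasZeroObject C] [HasShift C ℤ]
  [∀ n : ℤ, (shiftFunctor C n).Additive] [Pretriangulated C]

/-- if `X₂ = A₁ ⊕ A₂` and `X₁ → X₂ → A₂` is an isomorphism, the cone of `X₁ → X₂` is `A₁` -/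
theorem nonempty_obj₃_iso (T : Triangle C) (hT : T ∈ distTriang C) {A₁ A₂ : C}
    (i₁ : A₁ ⟶ T.obj₂) (i₂ : A₂ ⟶ T.obj₂) (p₁ : T.obj₂ ⟶ A₁) (p₂ : T.obj₂ ⟶ A₂)
    (h11 : i₁ ≫ p₁ = 𝟙 _) (h22 : i₂ ≫ p₂ = 𝟙 _) (h12 : i₁ ≫ p₂ = 0) (h21 : i₂ ≫ p₁ = 0)
    (hsum : p₁ ≫ i₁ + p₂ ≫ i₂ = 𝟙 _) (hiso : IsIso (T.mor₁ ≫ p₂)) :
    Nonempty (T.obj₃ ≅ A₁) := by
  let e : T.obj₂ ≅ A₂ ⊞ A₁ :=
    { hom := biprod.lift p₂ p₁
      inv := biprod.desc i₂ i₁
      hom_inv_id := by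
        rw [biprod.lift_desc, add_comm]
        exact hsum
      inv_hom_id := by
        ext <;> simp [h11, h22, h12, h21] }
  have hT' : Triangle.mk i₂ p₁ (0 : A₁ ⟶ A₂⟦(1 : ℤ)⟧) ∈ distTriang C := by
    refine isomorphic_distinguished _ (binaryBiproductTriangle_distinguished A₂ A₁) _
      (Triangle.isoMk _ _ (Iso.refl _) e (Iso.refl _) ?_ ?_ ?_)
    · refine biprod.hom_ext _ _ ?_ ?_ <;> simp [e, h22, h21]
    · simp [e]
    · simp
  obtain ⟨n, hn⟩ : ∃ n : T.obj₂ ⟶ T.obj₂,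
      n = p₂ ≫ inv (T.mor₁ ≫ p₂) ≫ T.mor₁ ≫ p₁ ≫ i₁ := ⟨_, rfl⟩
  have hnn : n ≫ n = 0 := by
    rw [hn]
    simp only [Category.assoc]
    rw [reassoc_of% h12]
    simp
  let σ : T.obj₂ ≅ T.obj₂ :=
    { hom := 𝟙 _ - n
      inv := 𝟙 _ + n
      hom_inv_id := by
        simp only [Preadditive.sub_comp, Preadditive.comp_add, Category.id_comp,
          Category.comp_id, hnn]
        abel
      inv_hom_id := by
        simp only [Preadditive.add_comp, Preadditive.comp_sub, Category.id_comp,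
          Category.comp_id, hnn]
        abel }
  have h1 : T.mor₁ ≫ n = T.mor₁ ≫ p₁ ≫ i₁ := by
    calc T.mor₁ ≫ n = ((T.mor₁ ≫ p₂) ≫ inv (T.mor₁ ≫ p₂)) ≫ T.mor₁ ≫ p₁ ≫ i₁ := by
          rw [hn]
          simp only [Category.assoc]
      _ = T.mor₁ ≫ p₁ ≫ i₁ := by rw [IsIso.hom_inv_id, Category.id_comp]
  have h2 : T.mor₁ = T.mor₁ ≫ p₁ ≫ i₁ + T.mor₁ ≫ p₂ ≫ i₂ := by
    rw [← Preadditive.comp_add, hsum, Category.comp_id]
  have comm : T.mor₁ ≫ (𝟙 _ - n) = (T.mor₁ ≫ p₂) ≫ i₂ := by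
    rw [Preadditive.comp_sub, Category.comp_id, h1, Category.assoc]
    exact sub_eq_iff_eq_add.2 (h2.trans (add_comm _ _))
  exact ⟨Triangle.π₃.mapIso (isoTriangleOfIso₁₂ T _ hT hT' (asIso (T.mor₁ ≫ p₂)) σ comm)⟩

/-- the cone of `(a, b) : L → M₁ ⊕ M₂` is `M₁` if `b` is invertible, `M₂` if `a` is -/
theorem nonempty_iso_of_lift {C₀ : Type*} [Category C₀] [Preadditive C₀] (H : C₀ ⥤ C)
    [H.Additive] {L M₁ M₂ : C₀} [HasBinaryBiproduct M₁ M₂] (a : L ⟶ M₁) (b : L ⟶ M₂) {Z : C}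
    (g : H.obj (M₁ ⊞ M₂) ⟶ Z) (h : Z ⟶ (H.obj L)⟦(1 : ℤ)⟧)
    (hT : Triangle.mk (H.map (biprod.lift a b)) g h ∈ distTriang C) :
    (IsIso (H.map b) → Nonempty (Z ≅ H.obj M₁)) ∧
      (IsIso (H.map a) → Nonempty (Z ≅ H.obj M₂)) := by
  have e1 : H.map (biprod.inl : M₁ ⟶ M₁ ⊞ M₂) ≫ H.map biprod.fst = 𝟙 _ := by
    rw [← H.map_comp, biprod.inl_fst, H.map_id]
  have e2 : H.map (biprod.inr : M₂ ⟶ M₁ ⊞ M₂) ≫ H.map biprod.snd = 𝟙 _ := by
    rw [← H.map_comp, biprod.inr_snd, H.map_id]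
  have e3 : H.map (biprod.inl : M₁ ⟶ M₁ ⊞ M₂) ≫ H.map biprod.snd = 0 := by
    rw [← H.map_comp, biprod.inl_snd, H.map_zero]
  have e4 : H.map (biprod.inr : M₂ ⟶ M₁ ⊞ M₂) ≫ H.map biprod.fst = 0 := by
    rw [← H.map_comp, biprod.inr_fst, H.map_zero]
  have e5 : H.map (biprod.fst : M₁ ⊞ M₂ ⟶ M₁) ≫ H.map biprod.inl +
      H.map (biprod.snd : M₁ ⊞ M₂ ⟶ M₂) ≫ H.map biprod.inr = 𝟙 _ := by
    rw [← H.map_comp, ← H.map_comp, ← H.map_add, biprod.total, H.map_id]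
  have e6 : H.map (biprod.lift a b) ≫ H.map biprod.snd = H.map b := by
    rw [← H.map_comp, biprod.lift_snd]
  have e7 : H.map (biprod.lift a b) ≫ H.map biprod.fst = H.map a := by
    rw [← H.map_comp, biprod.lift_fst]
  constructor
  · intro hb
    exact nonempty_obj₃_iso _ hT (H.map biprod.inl) (H.map biprod.inr) (H.map biprod.fst)
      (H.map biprod.snd) e1 e2 e3 e4 e5 (by
        show IsIso (H.map (biprod.lift a b) ≫ H.map biprod.snd)
        rw [e6]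
        exact hb)
  · intro ha
    exact nonempty_obj₃_iso _ hT (H.map biprod.inr) (H.map biprod.inl) (H.map biprod.snd)
      (H.map biprod.fst) e2 e1 e4 e3 ((add_comm _ _).trans e5) (by
        show IsIso (H.map (biprod.lift a b) ≫ H.map biprod.fst)
        rw [e7]
        exact ha)

end Abstract

variable {X : Scheme.{u}}

/-! ### restrictions of the transition maps -/

theorem isIso_restrict_tau (W U V : X.Opens) (hWV : W ≤ V) (hUVW : U ⊓ V ≤ W) (M : X.Modules) :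
    IsIso ((Scheme.Modules.restrictFunctor U.ι).map (tau W V hWV M)) := by
  apply isIso_of_forall_stalk_isIso
  intro y
  rw [ConcreteCategory.isIso_iff_bijective, stalk_bijective_iff U.ι y,
    ← ConcreteCategory.isIso_iff_bijective]
  by_cases hy : U.ι.base y ∈ W
  · exact isIso_stalk_tau W V hWV M _ hy
  · have hyV : U.ι.base y ∉ V := fun hV => hy (hUVW ⟨y.2, hV⟩)
    have h1 := isZero_stalk_LR W M _ hy
    have h2 := isZero_stalk_LR V M _ hyV
    exact ⟨⟨0, h1.eq_of_src _ _, h2.eq_of_tgt _ _⟩⟩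

theorem isIso_DD_map_Q_map (U : X.Opens) {K L : CochainComplex X.Modules ℤ} (t : K ⟶ L)
    (h : ∀ i, IsIso ((Scheme.Modules.restrictFunctor U.ι).map (t.f i))) :
    IsIso ((DCoh.restrictD U.ι).map (DerivedCategory.Q.map t)) := by
  haveI : ∀ i, IsIso (((RCx U).map t).f i) := h
  haveI : IsIso ((RCx U).map t) := HomologicalComplex.Hom.isIso_of_components _
  have nat := (Scheme.Modules.restrictFunctor U.ι).mapDerivedCategoryFactors_hom_naturality t
  have key : (DCoh.restrictD U.ι).map (DerivedCategory.Q.map t) =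
      (Scheme.Modules.restrictFunctor U.ι).mapDerivedCategoryFactors.hom.app K ≫
        DerivedCategory.Q.map ((RCx U).map t) ≫
        (Scheme.Modules.restrictFunctor U.ι).mapDerivedCategoryFactors.inv.app L := by
    rw [← Category.assoc, ← nat, Category.assoc, Iso.hom_inv_id_app]
    exact (Category.comp_id _).symm
  rw [key]
  infer_instance

/-! ### gluing, for objects given on `X` -/

theorem glue_onX (U V : X.Opens) (A' B' : DCoh.D X)
    (c' : (DCoh.restrictD (U ⊓ V).ι).obj A' ≅ (DCoh.restrictD (U ⊓ V).ι).obj B') :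
    ∃ F : DCoh.D X, Nonempty ((DCoh.restrictD U.ι).obj F ≅ (DCoh.restrictD U.ι).obj A') ∧
      Nonempty ((DCoh.restrictD V.ι).obj F ≅ (DCoh.restrictD V.ι).obj B') := by
  haveI := grothendieck_modules X
  obtain ⟨K, ⟨eK⟩⟩ : ∃ K : CochainComplex X.Modules ℤ,
      Nonempty (DerivedCategory.Q.obj K ≅ A') :=
    ⟨DerivedCategory.Q.objPreimage A', ⟨DerivedCategory.Q.objObjPreimageIso A'⟩⟩
  obtain ⟨I, hI, _, ⟨eI⟩⟩ := Groth.Agent.Lib.KInjGen8.exists_kInjective_rep B'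
  haveI := hI
  haveI := isKInjective_RCx (U ⊓ V) I
  obtain ⟨φ, hφ⟩ := DerProd.exists_lift_of_isKInjective
    ((RCx (U ⊓ V)).obj K) ((RCx (U ⊓ V)).obj I)
    ((iR (U ⊓ V) K A' eK).symm ≪≫ c' ≪≫ iR (U ⊓ V) I B' eI).hom
  haveI hqi : QuasiIso φ := by
    rw [← DerivedCategory.isIso_Q_map_iff_quasiIso, hφ]
    infer_instance
  haveI hqi' : QuasiIso ((LCx (U ⊓ V)).map φ) := inferInstance
  haveI hQ : IsIso (DerivedCategory.Q.map ((LCx (U ⊓ V)).map φ)) := by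
    rw [DerivedCategory.isIso_Q_map_iff_quasiIso]
    exact hqi'
  have hT := DerivedCategory.mappingCone_triangle_distinguished
    (biprod.lift (tauCx (U ⊓ V) U inf_le_left K)
      ((LCx (U ⊓ V)).map φ ≫ tauCx (U ⊓ V) V inf_le_right I))
  refine ⟨DerivedCategory.Q.obj (CochainComplex.mappingCone
    (biprod.lift (tauCx (U ⊓ V) U inf_le_left K)
      ((LCx (U ⊓ V)).map φ ≫ tauCx (U ⊓ V) V inf_le_right I))), ?_, ?_⟩
  · have hb : IsIso ((DerivedCategory.Q ⋙ DCoh.restrictD U.ι).map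
        ((LCx (U ⊓ V)).map φ ≫ tauCx (U ⊓ V) V inf_le_right I)) := by
      show IsIso ((DCoh.restrictD U.ι).map (DerivedCategory.Q.map
        ((LCx (U ⊓ V)).map φ ≫ tauCx (U ⊓ V) V inf_le_right I)))
      rw [Functor.map_comp, Functor.map_comp]
      haveI := isIso_DD_map_Q_map U (tauCx (U ⊓ V) V inf_le_right I)
        (fun i => isIso_restrict_tau (U ⊓ V) U V inf_le_right le_rfl (I.X i))
      infer_instance
    obtain ⟨e⟩ := (nonempty_iso_of_lift (DerivedCategory.Q ⋙ DCoh.restrictD U.ι)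
      (tauCx (U ⊓ V) U inf_le_left K)
      ((LCx (U ⊓ V)).map φ ≫ tauCx (U ⊓ V) V inf_le_right I) _ _
      ((DCoh.restrictD U.ι).map_distinguished _ hT)).1 hb
    haveI := isIso_DD_map_Q_map U (epsCx U K)
      (fun i => isIso_restrict_eps U U le_rfl (K.X i))
    exact ⟨e ≪≫ asIso ((DCoh.restrictD U.ι).map (DerivedCategory.Q.map (epsCx U K))) ≪≫
      (DCoh.restrictD U.ι).mapIso eK⟩
  · have ha : IsIso ((DerivedCategory.Q ⋙ DCoh.restrictD V.ι).map
        (tauCx (U ⊓ V) U inf_le_left K)) :=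
      isIso_DD_map_Q_map V (tauCx (U ⊓ V) U inf_le_left K)
        (fun i => isIso_restrict_tau (U ⊓ V) V U inf_le_left (inf_comm V U).le (K.X i))
    obtain ⟨e⟩ := (nonempty_iso_of_lift (DerivedCategory.Q ⋙ DCoh.restrictD V.ι)
      (tauCx (U ⊓ V) U inf_le_left K)
      ((LCx (U ⊓ V)).map φ ≫ tauCx (U ⊓ V) V inf_le_right I) _ _
      ((DCoh.restrictD V.ι).map_distinguished _ hT)).2 ha
    haveI := isIso_DD_map_Q_map V (epsCx V I)
      (fun i => isIso_restrict_eps V V le_rfl (I.X i))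
    exact ⟨e ≪≫ asIso ((DCoh.restrictD V.ι).map (DerivedCategory.Q.map (epsCx V I))) ≪≫
      (DCoh.restrictD V.ι).mapIso eI⟩

/-! ### the general case -/

theorem nonempty_DD_of_comp {Z Y X : Scheme.{u}} (k : Z ⟶ Y) (j : Y ⟶ X) (l : Z ⟶ X)
    [IsOpenImmersion k] [IsOpenImmersion j] [IsOpenImmersion l] (h : k ≫ j = l)
    (K : DCoh.D X) :
    Nonempty ((DD l).obj K ≅ (DD k).obj ((DD j).obj K)) := by
  subst h
  exact nonempty_DD_comp_iso k j K

theorem main0945 (U V : X.Opens)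
    (A : DCoh.D (U : Scheme.{u})) (B : DCoh.D (V : Scheme.{u}))
    (c : (DCoh.restrictD (X.homOfLE (inf_le_left : U ⊓ V ≤ U))).obj A ≅
      (DCoh.restrictD (X.homOfLE (inf_le_right : U ⊓ V ≤ V))).obj B) :
    ∃ F : DCoh.D X, Nonempty ((DCoh.restrictD U.ι).obj F ≅ A) ∧
      Nonempty ((DCoh.restrictD V.ι).obj F ≅ B) := by
  obtain ⟨eA⟩ := nonempty_restrictD_extZeroD_iso U A
  obtain ⟨eB⟩ := nonempty_restrictD_extZeroD_iso V B
  obtain ⟨cA⟩ := nonempty_DD_of_comp (X.homOfLE (inf_le_left : U ⊓ V ≤ U)) U.ι (U ⊓ V).ι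
    (X.homOfLE_ι _) ((CxOX.extZeroD U.ι).obj A)
  obtain ⟨cB⟩ := nonempty_DD_of_comp (X.homOfLE (inf_le_right : U ⊓ V ≤ V)) V.ι (U ⊓ V).ι
    (X.homOfLE_ι _) ((CxOX.extZeroD V.ι).obj B)
  obtain ⟨F, ⟨e1⟩, ⟨e2⟩⟩ := glue_onX U V ((CxOX.extZeroD U.ι).obj A) ((CxOX.extZeroD V.ι).obj B)
    (cA ≪≫ (DD (X.homOfLE (inf_le_left : U ⊓ V ≤ U))).mapIso eA ≪≫ c ≪≫
      (DD (X.homOfLE (inf_le_right : U ⊓ V ≤ V))).mapIso eB.symm ≪≫ cB.symm)
  exact ⟨F, ⟨e1 ≪≫ eA⟩, ⟨e2 ≪≫ eB⟩⟩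

end

end Groth.Agent.Lib.GlueL
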