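import Mathlib
import Groth.Prelude
import Groth.Agent.Lib.TTSupp1_lead
import Groth.Agent.Lib.Glue1_lead

/-!
# Tools for Thomason–Trobaugh gluing on quasi-compact quasi-separated schemes (lead)

* `exists_lift`, `nonempty_DD_iso_of_range_le`, `isZero_DD_of_range_le`,
  `isPerfect_DD_of_range_le`: comparing restrictions along open immersions with nested ranges;
* `isPerfect_of_cover`: perfectness is local;
* `DDcompIso`: the natural isomorphism `(k ≫ j)^* ≅ k^* j^*`.
-/

set_option autoImplicit false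
set_option linter.all false
set_option maxHeartbeats 1600000
set_option backward.isDefEq.respectTransparency false
set_option backward.isDefEq.respectTransparency.types false
set_option backward.defeqAttrib.useBackward true

universe u

open CategoryTheory CategoryTheory.Limits AlgebraicGeometry TopologicalSpace Opposite
open DerivedCategory CategoryTheory.Pretriangulated

attribute [local instance] HasDerivedCategory.standard

namespace Groth.Agent.Lib.TTGlueL

open Groth.Agent.Lib Groth.Agent.Lib.DCohLocLead Groth.Agent.Lib.PerfLocL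
open Groth.Agent.Lib.HomVanL Groth.Agent.Lib.CompQL Groth.Agent.Lib.SerreHomL
open Groth.Agent.Lib.TTLiftL Groth.Agent.Lib.TTApxL Groth.Agent.Lib.TTSuppL

noncomputable section

attribute [local instance] rpushI lpullI

section Range

variable {A B X : Scheme.{u}}

theorem exists_lift (a : A ⟶ X) (b : B ⟶ X) [IsOpenImmersion a] [IsOpenImmersion b]
    (h : Set.range b ⊆ Set.range a) :
    ∃ (l : B ⟶ A) (_ : IsOpenImmersion l), l ≫ a = b := by
  refine ⟨IsOpenImmersion.lift a b h, ?_, IsOpenImmersion.lift_fac a b h⟩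
  haveI : IsOpenImmersion (IsOpenImmersion.lift a b h ≫ a) := by
    rw [IsOpenImmersion.lift_fac]
    infer_instance
  exact IsOpenImmersion.of_comp _ a

theorem nonempty_DD_iso_of_range_le (a : A ⟶ X) (b : B ⟶ X) [IsOpenImmersion a]
    [IsOpenImmersion b] (h : Set.range b ⊆ Set.range a) {K L : DCoh.D X}
    (e : (DD a).obj K ≅ (DD a).obj L) : Nonempty ((DD b).obj K ≅ (DD b).obj L) := by
  obtain ⟨l, hl, hfac⟩ := exists_lift a b h
  haveI := hl
  obtain ⟨cK⟩ := GlueL.nonempty_DD_of_comp l a b hfac K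
  obtain ⟨cL⟩ := GlueL.nonempty_DD_of_comp l a b hfac L
  exact ⟨cK ≪≫ (DD l).mapIso e ≪≫ cL.symm⟩

theorem isZero_DD_of_range_le (a : A ⟶ X) (b : B ⟶ X) [IsOpenImmersion a]
    [IsOpenImmersion b] (h : Set.range b ⊆ Set.range a) (K : DCoh.D X)
    (hz : IsZero ((DD a).obj K)) : IsZero ((DD b).obj K) := by
  obtain ⟨l, hl, hfac⟩ := exists_lift a b h
  haveI := hl
  obtain ⟨cK⟩ := GlueL.nonempty_DD_of_comp l a b hfac K
  exact ((DD l).map_isZero hz).of_iso cK

theorem isPerfect_DD_of_range_le (a : A ⟶ X) (b : B ⟶ X) [IsOpenImmersion a]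
    [IsOpenImmersion b] (h : Set.range b ⊆ Set.range a) (K : DCoh.D X)
    (hp : DCoh.IsPerfect ((DD a).obj K)) : DCoh.IsPerfect ((DD b).obj K) := by
  obtain ⟨l, hl, hfac⟩ := exists_lift a b h
  haveI := hl
  obtain ⟨cK⟩ := GlueL.nonempty_DD_of_comp l a b hfac K
  exact isPerfect_of_iso cK.symm (isPerfect_DD l _ hp)

/-- perfectness is local -/
theorem isPerfect_of_cover (K : DCoh.D X)
    (h : ∀ x : X, ∃ (Y : Scheme.{u}) (j : Y ⟶ X) (_ : IsOpenImmersion j),
      (∃ y : Y, j y = x) ∧ DCoh.IsPerfect ((DD j).obj K)) : DCoh.IsPerfect K := by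
  apply isPerfect_of_locRep
  intro x
  obtain ⟨Y, j, hj, ⟨y, hy⟩, hK⟩ := h x
  haveI := hj
  obtain ⟨V, hyV, P, hP, ⟨e⟩⟩ := (isPerfect_iff _).1 hK y
  obtain ⟨c⟩ := nonempty_DD_comp_iso V.ι j K
  refine ⟨_, V.ι ≫ j, inferInstance, ⟨⟨y, hyV⟩, ?_⟩, P, hP, ⟨c ≪≫ e⟩⟩
  rw [← hy]
  rfl

end Range

section Comp

variable {Z Y X : Scheme.{u}}

/-- the natural isomorphism `(k ≫ j)^* ≅ k^* j^*` on derived categories -/
def DDcompIso (k : Z ⟶ Y) (j : Y ⟶ X) [IsOpenImmersion k] [IsOpenImmersion j] :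
    DD (k ≫ j) ≅ DD j ⋙ DD k :=
  Localization.liftNatIso DerivedCategory.Q
    (HomologicalComplex.quasiIso X.Modules (ComplexShape.up ℤ))
    (DerivedCategory.Q ⋙ DD (k ≫ j)) (DerivedCategory.Q ⋙ (DD j ⋙ DD k))
    (DD (k ≫ j)) (DD j ⋙ DD k)
    ((Scheme.Modules.restrictFunctor (k ≫ j)).mapDerivedCategoryFactors ≪≫
      Functor.isoWhiskerRight (Functor.mapHomologicalComplexCompIso
        (Scheme.Modules.restrictFunctorComp k j).symm (ComplexShape.up ℤ)).symm
        DerivedCategory.Q ≪≫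
      Functor.associator _ _ _ ≪≫
      Functor.isoWhiskerLeft (RC j) (Scheme.Modules.restrictFunctor k).mapDerivedCategoryFactors.symm ≪≫
      (Functor.associator _ _ _).symm ≪≫
      Functor.isoWhiskerRight (Scheme.Modules.restrictFunctor j).mapDerivedCategoryFactors.symm (DD k) ≪≫
      Functor.associator _ _ _)

theorem nonempty_DD_natIso_of_comp (k : Z ⟶ Y) (j : Y ⟶ X) (l : Z ⟶ X) [IsOpenImmersion k]
    [IsOpenImmersion j] [IsOpenImmersion l] (h : k ≫ j = l) :
    Nonempty (DD l ≅ DD j ⋙ DD k) := by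
  subst h
  exact ⟨DDcompIso k j⟩

end Comp

end

end Groth.Agent.Lib.TTGlueL
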