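import Mathlib
import Groth.Prelude
import Groth.Agent.Lib.TTGlue1_lead

/-!
# Lifting maps from an open, for `X = U ∪ V` with `V` affine (lead)

`lift_two_opens`: the lifting theorem `main1097'` for a quasi-compact quasi-separated scheme `X`
covered by (the image of) a quasi-compact open immersion `j : U₀ ⟶ X` and an affine open `V`.
-/

set_option autoImplicit false
set_option linter.all false
set_option maxHeartbeats 1600000
set_option backward.isDefEq.respectTransparency false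
set_option backward.isDefEq.respectTransparency.types false
set_option backward.defeqAttrib.useBackward true

universe u

open CategoryTheory CategoryTheory.Limits AlgebraicGeometry TopologicalSpace Opposite
open DerivedCategory CategoryTheory.Pretriangulated

attribute [local instance] HasDerivedCategory.standard

namespace Groth.Agent.Lib.TTGlueL

open Groth.Agent.Lib Groth.Agent.Lib.DCohLocLead Groth.Agent.Lib.PerfLocL
open Groth.Agent.Lib.HomVanL Groth.Agent.Lib.CompQL Groth.Agent.Lib.SerreHomL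
open Groth.Agent.Lib.TTLiftL Groth.Agent.Lib.TTApxL Groth.Agent.Lib.TTSuppL

noncomputable section

attribute [local instance] rpushI lpullI

theorem isZero_DD_Rpush_ι {X : Scheme.{u}} (V S : X.Opens) (K : DCoh.D (V : Scheme.{u}))
    (hz : IsZero ((DD (V.ι ⁻¹ᵁ S).ι).obj K)) :
    IsZero ((DD S.ι).obj ((DCoh.Rpush V.ι).obj K)) := by
  obtain ⟨e⟩ := BCOpenL.main6508 V.ι S
  exact (BCOpenL.isZero_Rpush_of_isZero (V.ι ∣_ S) _ hz).of_iso (e.app K)

theorem range_comp_ι_subset {X : Scheme.{u}} (V S : X.Opens) :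
    Set.range ((V.ι ⁻¹ᵁ S).ι ≫ V.ι) ⊆ Set.range S.ι := by
  rintro _ ⟨y, rfl⟩
  rw [Scheme.Opens.range_ι]
  exact y.2

theorem lift_two_opens (X : Scheme.{u}) [CompactSpace X] [QuasiSeparatedSpace X]
    {U₀ : Scheme.{u}} (j : U₀ ⟶ X) [IsOpenImmersion j] [CompactSpace U₀]
    (V : X.Opens) (hV : IsAffineOpen V) (hcov : ∀ x : X, x ∈ Set.range j ∨ x ∈ V)
    (R₀ E : DCoh.D X) (hR₀ : DCoh.IsPerfect R₀) (hE : DCoh.IsQCohD E)
    (α₀ : (DD j).obj R₀ ⟶ (DD j).obj E) :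
    ∃ (R₁ : DCoh.D X) (β : R₁ ⟶ R₀) (γ : R₁ ⟶ E), DCoh.IsPerfect R₁ ∧
      IsIso ((DD j).map β) ∧ (DD j).map β ≫ α₀ = (DD j).map γ ∧
      (∀ S : X.Opens, IsZero ((DD S.ι).obj R₀) → IsZero ((DD S.ι).obj R₁)) := by
  haveI : IsAffine (V : Scheme.{u}) := hV
  obtain ⟨adj⟩ := nonempty_adj_DD j
  obtain ⟨adjV⟩ := nonempty_adj_DD V.ι
  obtain ⟨N, δ, c, hT⟩ := distinguished_cocone_triangle (adj.unit.app E)
  have hNz : IsZero ((DD j).obj N) := RGammaZL.isZero_restrictD_cone_unit j adj E δ c hT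
  have hRq : DCoh.IsQCohD ((DCoh.Rpush j).obj ((DD j).obj E)) :=
    RpushQCL.main0998 j _ (LpullQCL.isQCohD_restrictD j E hE)
  have hN : DCoh.IsQCohD N := RpushQCL.isQCohD_obj₃ _ hT hE hRq
  -- the intersection, inside `V`
  have hjc : IsCompact ((j.opensRange : X.Opens) : Set X) := by
    rw [Scheme.Hom.coe_opensRange]
    exact isCompact_range j.continuous
  obtain ⟨O, hO⟩ : ∃ O : (V : Scheme.{u}).Opens, O = V.ι ⁻¹ᵁ j.opensRange := ⟨_, rfl⟩
  have hOc : IsCompact (O : Set (V : Scheme.{u})) := by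
    rw [hO]
    exact QuasiCompact.isCompact_preimage (f := V.ι) _ j.opensRange.isOpen hjc
  have hOrange : Set.range (O.ι ≫ V.ι) ⊆ Set.range j := by
    rw [hO]
    rintro _ ⟨y, rfl⟩
    have h1 : V.ι y.1 ∈ j.opensRange := y.2
    exact h1
  obtain ⟨s, hs, hOs⟩ :=
    isCompact_and_isOpen_iff_finite_and_eq_biUnion_basicOpen.1 ⟨hOc, O.isOpen⟩
  have hle : ∀ f ∈ s, (V : Scheme.{u}).basicOpen f ≤ O := by
    intro f hf x hx
    show x ∈ (O : Set (V : Scheme.{u}))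
    rw [hOs]
    exact Set.mem_biUnion hf hx
  have hcovO : ∀ x ∈ O, ∃ f : s, x ∈ (V : Scheme.{u}).basicOpen f.1 := by
    intro x hx
    have hx' : x ∈ (O : Set (V : Scheme.{u})) := hx
    rw [hOs] at hx'
    obtain ⟨f, hf, hxf⟩ := Set.mem_iUnion₂.1 hx'
    exact ⟨⟨f, hf⟩, hxf⟩
  -- `N` on `V`
  have hNV : DCoh.IsQCohD ((DD V.ι).obj N) := LpullQCL.isQCohD_restrictD V.ι N hN
  have hNVO : IsZero ((DD O.ι).obj ((DD V.ι).obj N)) := by
    obtain ⟨c1⟩ := nonempty_DD_comp_iso O.ι V.ι N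
    exact (isZero_DD_of_range_le j (O.ι ≫ V.ι) hOrange N hNz).of_iso c1.symm
  obtain ⟨α', hα'⟩ : ∃ α' : R₀ ⟶ (DCoh.Rpush j).obj ((DD j).obj E),
      α' = adj.homEquiv _ _ α₀ := ⟨_, rfl⟩
  obtain ⟨φ, hφ⟩ : ∃ φ : R₀ ⟶ N, φ = α' ≫ δ := ⟨_, rfl⟩
  obtain ⟨GV, ψV, φV, hGV, hcV, hGVz, hGVm⟩ := exists_kill' ((DD V.ι).obj N) hNV
    hs.toFinset.toList
    (fun f hf => isZero_DD_of_le (hle f (by simpa using hf)) _ hNVO)
    ((DD V.ι).obj R₀) (isPerfect_DD V.ι R₀ hR₀) ((DD V.ι).map φ)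
  have hGVO : IsZero ((DD O.ι).obj GV) :=
    isZero_DD_of_cover GV O (fun f : s => (V : Scheme.{u}).basicOpen f.1) hcovO
      (fun f => hGVz f.1 (by simpa using f.2))
  -- the object `G = Rj_{V,*} G_V` on `X`
  obtain ⟨κV⟩ := KoszL.nonempty_Rpush_comp_DD_iso_id V.ι
  have hGj : IsZero ((DD j).obj ((DCoh.Rpush V.ι).obj GV)) := by
    refine isZero_DD_of_range_le j.opensRange.ι j ?_ _
      (isZero_DD_Rpush_ι V j.opensRange GV ?_)
    · rw [Scheme.Opens.range_ι, Scheme.Hom.coe_opensRange]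
    · rw [← hO]
      exact hGVO
  have hGm : ∀ S : X.Opens, IsZero ((DD S.ι).obj R₀) →
      IsZero ((DD S.ι).obj ((DCoh.Rpush V.ι).obj GV)) := by
    intro S hS
    refine isZero_DD_Rpush_ι V S GV (hGVm _ ?_)
    obtain ⟨c1⟩ := nonempty_DD_comp_iso (V.ι ⁻¹ᵁ S).ι V.ι R₀
    exact (isZero_DD_of_range_le S.ι ((V.ι ⁻¹ᵁ S).ι ≫ V.ι)
      (range_comp_ι_subset V S) R₀ hS).of_iso c1.symm
  have hGp : DCoh.IsPerfect ((DCoh.Rpush V.ι).obj GV) := by
    apply isPerfect_of_cover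
    intro x
    rcases hcov x with ⟨y, hy⟩ | hx
    · exact ⟨U₀, j, inferInstance, ⟨y, hy⟩, isPerfect_of_isZero hGj⟩
    · exact ⟨_, V.ι, inferInstance, ⟨⟨x, hx⟩, rfl⟩, isPerfect_of_iso (κV.app GV).symm hGV⟩
  -- the unit of `N` for `V`
  haveI hunit : IsIso (adjV.unit.app N) := by
    refine RGammaZL.isIso_unit_of_isZero_restrict V.ι j.opensRange ?_ adjV N ?_
    · intro x hx
      rcases hcov x with hxj | hxV
      · exact absurd (show x ∈ (j.opensRange : Set X) by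
          rw [Scheme.Hom.coe_opensRange]; exact hxj) hx
      · exact ⟨⟨x, hxV⟩, rfl⟩
    · rintro i x ⟨y, rfl⟩
      exact RGammaZL.stalks_of_isZero_restrictD j N hNz i y
  obtain ⟨ψ, hψ⟩ : ∃ ψ : R₀ ⟶ (DCoh.Rpush V.ι).obj GV, ψ = adjV.homEquiv _ _ ψV := ⟨_, rfl⟩
  obtain ⟨φ', hφ'⟩ : ∃ φ' : (DCoh.Rpush V.ι).obj GV ⟶ N,
      φ' = (DCoh.Rpush V.ι).map φV ≫ inv (adjV.unit.app N) := ⟨_, rfl⟩
  have e2 : adjV.homEquiv _ _ ((DD V.ι).map φ) = φ ≫ adjV.unit.app N := by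
    rw [adjV.homEquiv_unit, adjV.unit_naturality]
    try rfl
  have e3 : adjV.homEquiv _ _ (ψV ≫ φV) = adjV.homEquiv _ _ ψV ≫ (DCoh.Rpush V.ι).map φV :=
    adjV.homEquiv_naturality_right ψV φV
  have hψφ : ψ ≫ φ' = φ := by
    have h1 : (ψ ≫ φ') ≫ adjV.unit.app N = φ ≫ adjV.unit.app N := by
      rw [hφ', hψ]
      simp only [Category.assoc, IsIso.inv_hom_id, Category.comp_id]
      rw [← e3, hcV, e2]
    exact (cancel_mono (adjV.unit.app N)).1 h1
  obtain ⟨R₁, β, w, hT₁⟩ := distinguished_cocone_triangle₁ ψ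
  have hR₁ : DCoh.IsPerfect R₁ := by
    have h1 : DCoh.IsPerfect (R₁⟦(1 : ℤ)⟧) :=
      isPerfect_obj₃ _ (rot_of_distTriang _ hT₁) hR₀ hGp
    exact isPerfect_of_iso (shiftShiftNeg R₁ (1 : ℤ)) (isPerfect_shift h1 (-1))
  have hβ : IsIso ((DD j).map β) := by
    have hT' := (DD j).map_distinguished _ hT₁
    exact (Triangle.isZero₃_iff_isIso₁ _ hT').1 hGj
  have hzero : (β ≫ α') ≫ δ = 0 := by
    have h0 : β ≫ ψ = 0 := comp_distTriang_mor_zero₁₂ _ hT₁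
    rw [Category.assoc, ← hφ, ← hψφ, ← Category.assoc, h0, zero_comp]
  obtain ⟨γ, hγ⟩ := Triangle.coyoneda_exact₂ _ hT (β ≫ α') hzero
  refine ⟨R₁, β, γ, hR₁, hβ, ?_, ?_⟩
  · have e1 : adj.homEquiv _ _ ((DD j).map β ≫ α₀) = β ≫ adj.homEquiv _ _ α₀ :=
      adj.homEquiv_naturality_left β α₀
    have e2' : adj.homEquiv _ _ ((DD j).map γ) = γ ≫ adj.unit.app E := by
      rw [adj.homEquiv_unit, adj.unit_naturality]
      try rfl
    rw [hα'] at hγ
    exact (adj.homEquiv _ _).injective (e1.trans (hγ.trans e2'.symm))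
  · intro S hS
    have hT' := (DD S.ι).map_distinguished _ hT₁
    refine (Triangle.isZero₁_iff_isIso₂ _ hT').2 ?_
    show IsIso ((DD S.ι).map ψ)
    exact ⟨0, hS.eq_of_src _ _, (hGm S hS).eq_of_src _ _⟩

end

end Groth.Agent.Lib.TTGlueL
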