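import Mathlib
import Groth.Prelude
import Groth.Agent.Lib.TTGlue2_lead

/-!
# Thomason–Trobaugh: extending perfect complexes with supports and maps, qcqs case (lead; S1098)

* `two_opens`: the case `X = j(U₀) ∪ V` with `V` affine;
* `main1098_aux`: induction on the number of affine opens needed;
* `main1098`.
-/

set_option autoImplicit false
set_option linter.all false
set_option maxHeartbeats 1600000
set_option backward.isDefEq.respectTransparency false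
set_option backward.isDefEq.respectTransparency.types false
set_option backward.defeqAttrib.useBackward true

universe u

open CategoryTheory CategoryTheory.Limits AlgebraicGeometry TopologicalSpace Opposite
open DerivedCategory CategoryTheory.Pretriangulated

attribute [local instance] HasDerivedCategory.standard

namespace Groth.Agent.Lib.TTGlueL

open Groth.Agent.Lib Groth.Agent.Lib.DCohLocLead Groth.Agent.Lib.PerfLocL
open Groth.Agent.Lib.HomVanL Groth.Agent.Lib.CompQL Groth.Agent.Lib.SerreHomL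
open Groth.Agent.Lib.TTLiftL Groth.Agent.Lib.TTApxL Groth.Agent.Lib.TTSuppL

noncomputable section

attribute [local instance] rpushI lpullI

theorem nonempty_DD_biprod_shift {Y X : Scheme.{u}} (l : Y ⟶ X) [IsOpenImmersion l]
    (P : DCoh.D X) :
    Nonempty ((DD l).obj (P ⊞ P⟦(1 : ℤ)⟧) ≅ (DD l).obj P ⊞ ((DD l).obj P)⟦(1 : ℤ)⟧) := by
  haveI := preservesBinaryBiproducts_of_preservesBiproducts (DD l)
  exact ⟨(DD l).mapBiprod P (P⟦(1 : ℤ)⟧) ≪≫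
    biprod.mapIso (Iso.refl _) (((DD l).commShiftIso (1 : ℤ)).app P)⟩

theorem isZero_DD_biprod_shift {Y X : Scheme.{u}} (l : Y ⟶ X) [IsOpenImmersion l]
    (P : DCoh.D X) (hz : IsZero ((DD l).obj P)) : IsZero ((DD l).obj (P ⊞ P⟦(1 : ℤ)⟧)) := by
  obtain ⟨e⟩ := nonempty_DD_biprod_shift l P
  refine IsZero.of_iso ?_ e
  have h1 : IsZero (((DD l).obj P)⟦(1 : ℤ)⟧) := (shiftFunctor _ (1 : ℤ)).map_isZero hz
  rw [IsZero.iff_id_eq_zero, ← biprod.total, hz.eq_of_tgt biprod.fst 0,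
    h1.eq_of_tgt biprod.snd 0, zero_comp, zero_comp, add_zero]

/-- the case of two opens, one of them affine -/
theorem two_opens (X : Scheme.{u}) [CompactSpace X] [QuasiSeparatedSpace X]
    {U₀ : Scheme.{u}} (j : U₀ ⟶ X) [IsOpenImmersion j] [CompactSpace U₀]
    (V : X.Opens) (hV : IsAffineOpen V) (hcov : ∀ x : X, x ∈ Set.range j ∨ x ∈ V)
    (Tc : X.Opens) (hTc : IsCompact (Tc : Set X))
    (E : DCoh.D X) (hE : DCoh.IsQCohD E)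
    (P : DCoh.D U₀) (hP : DCoh.IsPerfect P) (hPz : IsZero ((DD (j ⁻¹ᵁ Tc).ι).obj P))
    (α : P ⟶ (DD j).obj E) :
    ∃ (R : DCoh.D X) (β : R ⟶ E) (i : P ⟶ (DD j).obj R) (p : (DD j).obj R ⟶ P),
      DCoh.IsPerfect R ∧ IsZero ((DD Tc.ι).obj R) ∧ i ≫ p = 𝟙 P ∧ i ≫ (DD j).map β = α := by
  haveI : IsAffine (V : Scheme.{u}) := hV
  have hjc : IsCompact ((j.opensRange : X.Opens) : Set X) := by
    rw [Scheme.Hom.coe_opensRange]
    exact isCompact_range j.continuous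
  obtain ⟨O, hO⟩ : ∃ O : (V : Scheme.{u}).Opens, O = V.ι ⁻¹ᵁ j.opensRange := ⟨_, rfl⟩
  have hOc : IsCompact (O : Set (V : Scheme.{u})) := by
    rw [hO]
    exact QuasiCompact.isCompact_preimage (f := V.ι) _ j.opensRange.isOpen hjc
  have hOmem : ∀ y : (V : Scheme.{u}), y ∈ O ↔ V.ι y ∈ Set.range j := by
    intro y
    rw [hO]
    exact Iff.rfl
  have hOrange : Set.range (O.ι ≫ V.ι) ⊆ Set.range j := by
    rintro _ ⟨y, rfl⟩
    exact (hOmem y.1).1 y.2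
  obtain ⟨l, hl, hfac⟩ := exists_lift j (O.ι ≫ V.ι) hOrange
  haveI := hl
  have hpt : ∀ z : (O : Scheme.{u}), j (l z) = V.ι (O.ι z) := by
    intro z
    have h4 := congrArg (fun f : (O : Scheme.{u}) ⟶ X => f z) hfac
    simpa only [Scheme.Hom.comp_apply] using h4
  obtain ⟨F, hFdef⟩ : ∃ F : DCoh.D (O : Scheme.{u}), F = (DD l).obj P := ⟨_, rfl⟩
  have hF : DCoh.IsPerfect F := by
    rw [hFdef]
    exact isPerfect_DD l P hP
  -- generators of `Tc ∩ V`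
  have hTVc : IsCompact ((V.ι ⁻¹ᵁ Tc : (V : Scheme.{u}).Opens) : Set (V : Scheme.{u})) :=
    QuasiCompact.isCompact_preimage (f := V.ι) _ Tc.isOpen hTc
  obtain ⟨gs, hgs, hTgs⟩ :=
    isCompact_and_isOpen_iff_finite_and_eq_biUnion_basicOpen.1 ⟨hTVc, (V.ι ⁻¹ᵁ Tc).isOpen⟩
  have hgmem : ∀ g ∈ gs, ∀ y ∈ (V : Scheme.{u}).basicOpen g, V.ι y ∈ Tc := by
    intro g hg y hy
    have h1 : y ∈ ((V.ι ⁻¹ᵁ Tc : (V : Scheme.{u}).Opens) : Set (V : Scheme.{u})) := by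
      rw [hTgs]
      exact Set.mem_biUnion hg hy
    exact h1
  have hFz : ∀ g ∈ hgs.toFinset.toList,
      IsZero ((DD ((O : Scheme.{u}).basicOpen (O.ι.appTop.hom g)).ι).obj F) := by
    intro g hg
    have hg' : g ∈ gs := by simpa using hg
    rw [hFdef]
    obtain ⟨c1⟩ := nonempty_DD_comp_iso ((O : Scheme.{u}).basicOpen (O.ι.appTop.hom g)).ι l P
    refine (isZero_DD_of_range_le (j ⁻¹ᵁ Tc).ι
      (((O : Scheme.{u}).basicOpen (O.ι.appTop.hom g)).ι ≫ l) ?_ P hPz).of_iso c1.symm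
    rintro _ ⟨z, rfl⟩
    rw [Scheme.Opens.range_ι]
    have h0 := Scheme.preimage_basicOpen_top O.ι g
    have h2 : z.1 ∈ O.ι ⁻¹ᵁ ((V : Scheme.{u}).basicOpen g) := by
      rw [h0]
      exact z.2
    have h3 : V.ι (O.ι z.1) ∈ Tc := hgmem g hg' _ h2
    rw [← hpt] at h3
    exact h3
  obtain ⟨Q', hQ', hQz, ⟨c₀⟩⟩ := main1041' (V : Scheme.{u}) O hOc hgs.toFinset.toList F hF hFz
  -- the objects on `X`
  obtain ⟨κj⟩ := KoszL.nonempty_Rpush_comp_DD_iso_id j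
  obtain ⟨κV⟩ := KoszL.nonempty_Rpush_comp_DD_iso_id V.ι
  obtain ⟨A', κA⟩ : ∃ A' : DCoh.D X, Nonempty ((DD j).obj A' ≅ P ⊞ P⟦(1 : ℤ)⟧) :=
    ⟨(DCoh.Rpush j).obj (P ⊞ P⟦(1 : ℤ)⟧), ⟨κj.app _⟩⟩
  obtain ⟨κA⟩ := κA
  obtain ⟨B', κB⟩ : ∃ B' : DCoh.D X, Nonempty ((DD V.ι).obj B' ≅ Q') :=
    ⟨(DCoh.Rpush V.ι).obj Q', ⟨κV.app _⟩⟩
  obtain ⟨κB⟩ := κB
  -- the comparison on the intersection
  obtain ⟨cB⟩ := nonempty_DD_comp_iso O.ι V.ι B'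
  obtain ⟨cA⟩ := GlueL.nonempty_DD_of_comp l j (O.ι ≫ V.ι) hfac A'
  obtain ⟨bs⟩ := nonempty_DD_biprod_shift l P
  obtain ⟨c''⟩ : Nonempty ((DD (O.ι ≫ V.ι)).obj A' ≅ (DD (O.ι ≫ V.ι)).obj B') := by
    rw [hFdef] at c₀
    exact ⟨cA ≪≫ (DD l).mapIso κA ≪≫ bs ≪≫ c₀.symm ≪≫ (DD O.ι).mapIso κB.symm ≪≫ cB.symm⟩
  have hrange' : Set.range (j.opensRange ⊓ V).ι ⊆ Set.range (O.ι ≫ V.ι) := by
    rw [Scheme.Opens.range_ι]
    rintro x ⟨hxU, hxV⟩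
    have hxO : (⟨x, hxV⟩ : (V : Scheme.{u})) ∈ O := by
      rw [hOmem]
      have h1 : x ∈ (j.opensRange : Set X) := hxU
      rw [Scheme.Hom.coe_opensRange] at h1
      exact h1
    exact ⟨⟨⟨x, hxV⟩, hxO⟩, rfl⟩
  obtain ⟨c'⟩ := nonempty_DD_iso_of_range_le (O.ι ≫ V.ι) (j.opensRange ⊓ V).ι hrange' c''
  obtain ⟨R₀, ⟨e1⟩, ⟨e2⟩⟩ := GlueL.glue_onX j.opensRange V A' B' c'
  have hjU : Set.range j ⊆ Set.range j.opensRange.ι := by
    rw [Scheme.Opens.range_ι, Scheme.Hom.coe_opensRange]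
  obtain ⟨εj⟩ := nonempty_DD_iso_of_range_le j.opensRange.ι j hjU e1
  obtain ⟨ε, hε⟩ : ∃ ε : (DD j).obj R₀ ≅ P ⊞ P⟦(1 : ℤ)⟧, ε = εj ≪≫ κA := ⟨_, rfl⟩
  obtain ⟨eV, heV⟩ : ∃ eV : (DD V.ι).obj R₀ ≅ Q', eV = e2 ≪≫ κB := ⟨_, rfl⟩
  -- `R₀` is perfect
  have hR₀ : DCoh.IsPerfect R₀ := by
    apply isPerfect_of_cover
    intro x
    rcases hcov x with ⟨y, hy⟩ | hx
    · exact ⟨U₀, j, inferInstance, ⟨y, hy⟩,
        isPerfect_of_iso ε.symm (isPerfect_biprod hP (isPerfect_shift hP 1))⟩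
    · exact ⟨_, V.ι, inferInstance, ⟨⟨x, hx⟩, rfl⟩, isPerfect_of_iso eV.symm hQ'⟩
  -- `R₀` vanishes on `Tc`
  have hz1 : IsZero ((DD (Tc ⊓ j.opensRange).ι).obj R₀) := by
    have h1 : IsZero ((DD ((j ⁻¹ᵁ Tc).ι ≫ j)).obj R₀) := by
      obtain ⟨c1⟩ := nonempty_DD_comp_iso (j ⁻¹ᵁ Tc).ι j R₀
      refine IsZero.of_iso ?_ (c1 ≪≫ (DD (j ⁻¹ᵁ Tc).ι).mapIso ε)
      exact isZero_DD_biprod_shift _ P hPz
    refine isZero_DD_of_range_le ((j ⁻¹ᵁ Tc).ι ≫ j) (Tc ⊓ j.opensRange).ι ?_ R₀ h1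
    rw [Scheme.Opens.range_ι]
    rintro x ⟨hxT, hxU⟩
    have h2 : x ∈ (j.opensRange : Set X) := hxU
    rw [Scheme.Hom.coe_opensRange] at h2
    obtain ⟨y, rfl⟩ := h2
    exact ⟨⟨y, hxT⟩, rfl⟩
  have hz2 : IsZero ((DD (Tc ⊓ V).ι).obj R₀) := by
    have hQT : IsZero ((DD (V.ι ⁻¹ᵁ Tc).ι).obj Q') := by
      refine isZero_DD_of_cover Q' (V.ι ⁻¹ᵁ Tc) (fun g : gs => (V : Scheme.{u}).basicOpen g.1) ?_
        (fun g => hQz g.1 (by simpa using g.2))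
      intro y hy
      have hy' : y ∈ ((V.ι ⁻¹ᵁ Tc : (V : Scheme.{u}).Opens) : Set (V : Scheme.{u})) := hy
      rw [hTgs] at hy'
      obtain ⟨g, hg, hyg⟩ := Set.mem_iUnion₂.1 hy'
      exact ⟨⟨g, hg⟩, hyg⟩
    have h1 : IsZero ((DD ((V.ι ⁻¹ᵁ Tc).ι ≫ V.ι)).obj R₀) := by
      obtain ⟨c1⟩ := nonempty_DD_comp_iso (V.ι ⁻¹ᵁ Tc).ι V.ι R₀
      exact IsZero.of_iso hQT (c1 ≪≫ (DD (V.ι ⁻¹ᵁ Tc).ι).mapIso eV)
    refine isZero_DD_of_range_le ((V.ι ⁻¹ᵁ Tc).ι ≫ V.ι) (Tc ⊓ V).ι ?_ R₀ h1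
    rw [Scheme.Opens.range_ι]
    rintro x ⟨hxT, hxV⟩
    exact ⟨⟨⟨x, hxV⟩, hxT⟩, rfl⟩
  have hR₀T : IsZero ((DD Tc.ι).obj R₀) := by
    refine isZero_DD_of_cover R₀ Tc
      (fun b : Bool => if b then Tc ⊓ j.opensRange else Tc ⊓ V) ?_ ?_
    · intro x hx
      rcases hcov x with hxj | hxV
      · refine ⟨true, ?_⟩
        have h2 : x ∈ (j.opensRange : Set X) := by
          rw [Scheme.Hom.coe_opensRange]
          exact hxj
        exact ⟨hx, h2⟩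
      · exact ⟨false, ⟨hx, hxV⟩⟩
    · intro b
      cases b
      · exact hz2
      · exact hz1
  -- lifting the map
  obtain ⟨α₀, hα₀⟩ : ∃ α₀ : (DD j).obj R₀ ⟶ (DD j).obj E, α₀ = ε.hom ≫ biprod.fst ≫ α :=
    ⟨_, rfl⟩
  obtain ⟨R₁, β₁, γ, hR₁, hβ₁, hcomm, hmono⟩ :=
    lift_two_opens X j V hV hcov R₀ E hR₀ hE α₀
  haveI := hβ₁
  refine ⟨R₁, γ, biprod.inl ≫ ε.inv ≫ inv ((DD j).map β₁),
    (DD j).map β₁ ≫ ε.hom ≫ biprod.fst, hR₁, hmono Tc hR₀T, ?_, ?_⟩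
  · simp
  · rw [← hcomm, hα₀]
    simp

end

end Groth.Agent.Lib.TTGlueL
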