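import Mathlib
import Groth.Prelude
import Groth.Agent.Lib.ApxGlue1_helper3

/-!
# Approximation by perfect complexes: the induction step (helper3; towards S1103)

* `ApxHolds Y`: approximation by perfect complexes holds on `Y` (form of S1103).
* `ConeApx`: cone form of an approximation, with `of_approx`, `comp`, `out`.
* `base_case`, `step`: `X = U ∪ V`, `V` affine, approximation holds on `U` ⟹ on `X`
  (`X` quasi-compact quasi-separated).
-/

set_option autoImplicit false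
set_option linter.all false
set_option maxHeartbeats 1600000
set_option backward.isDefEq.respectTransparency false
set_option backward.isDefEq.respectTransparency.types false
set_option backward.defeqAttrib.useBackward true

universe u

open CategoryTheory CategoryTheory.Limits AlgebraicGeometry TopologicalSpace Opposite
open DerivedCategory CategoryTheory.Pretriangulated

attribute [local instance] HasDerivedCategory.standard

namespace Groth.Agent.Lib.ApxGlueH3

open Groth.Agent.Lib Groth.Agent.Lib.DCohLocLead Groth.Agent.Lib.PerfLocL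
open Groth.Agent.Lib.HomVanL Groth.Agent.Lib.CompQL Groth.Agent.Lib.SerreHomL
open Groth.Agent.Lib.TTLiftL Groth.Agent.Lib.TTApxL Groth.Agent.Lib.TTSuppL
open Groth.Agent.Lib.TTGlueL Groth.Agent.Lib.ApxAffH3

noncomputable section

attribute [local instance] rpushI lpullI

/-- approximation by perfect complexes holds on `Y` -/
def ApxHolds (Y : Scheme.{u}) : Prop :=
  ∀ (T : Set Y), IsClosed T → IsCompact Tᶜ →
    ∃ r : ℤ, ∀ (m : ℤ) (E : DCoh.D Y), DCoh.IsQCohD E → DCoh.IsPseudoCoherentD (m - r) E →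
      (∀ i : ℤ, m - r ≤ i → CohB1.support (DCoh.HD E i) ⊆ T) →
      ∃ (P : DCoh.D Y) (α : P ⟶ E), DCoh.IsPerfect P ∧
        (∀ i : ℤ, CohB1.support (DCoh.HD P i) ⊆ T) ∧
        (∀ i : ℤ, m < i → IsIso ((DerivedCategory.homologyFunctor Y.Modules i).map α)) ∧
        Epi ((DerivedCategory.homologyFunctor Y.Modules m).map α)

/-! ### Supports -/

theorem not_mem_support_of_isZero_restrict {X : Scheme.{u}} (W : X.Opens) (M : X.Modules)
    (h : IsZero ((Scheme.Modules.restrictFunctor W.ι).obj M)) (x : X) (hx : x ∈ W) :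
    x ∉ CohB1.support M := by
  intro hxs
  apply hxs
  have hz' : IsZero ((DerSch.stalkFunctor (W : Scheme.{u}) ⟨x, hx⟩).obj
      ((Scheme.Modules.restrictFunctor W.ι).obj M)) := Functor.map_isZero _ h
  have h1 : Subsingleton
      (((Scheme.Modules.restrictFunctor W.ι).obj M).presheaf.stalk ⟨x, hx⟩) :=
    ModuleCat.subsingleton_of_isZero hz'
  exact @Equiv.subsingleton _ _
    (RestrStalkH8.restrictStalkEquiv W.ι M ⟨x, hx⟩).toEquiv.symm h1

theorem mem_support_HD_DD_iff {Y X : Scheme.{u}} (j : Y ⟶ X) [IsOpenImmersion j]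
    (K : DCoh.D X) (i : ℤ) (y : Y) :
    y ∈ CohB1.support (DCoh.HD ((DD j).obj K) i) ↔ j.base y ∈ CohB1.support (DCoh.HD K i) :=
  not_congr (RGammaZL.subsingleton_stalk_HD_restrictD_iff j K i y)

theorem isZero_DD_of_support_subset {X : Scheme.{u}} (Tc : X.Opens) (T : Set X)
    (hTc : ∀ x ∈ Tc, x ∉ T) (P : DCoh.D X)
    (h : ∀ i : ℤ, CohB1.support (DCoh.HD P i) ⊆ T) : IsZero ((DD Tc.ι).obj P) := by
  apply MVPushL.isZero_restrictD_of_support
  intro i x hx hxs
  exact hTc x hx (h i hxs)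

/-! ### The cone form -/

/-- cone form of an approximation -/
def ConeApx {X : Scheme.{u}} (Tc : X.Opens) (E : DCoh.D X) (m : ℤ) : Prop :=
  ∃ (P C : DCoh.D X) (θ : P ⟶ E) (p : E ⟶ C) (d : C ⟶ P⟦(1 : ℤ)⟧),
    Triangle.mk θ p d ∈ distTriang (DCoh.D X) ∧ DCoh.IsPerfect P ∧
    IsZero ((DD Tc.ι).obj P) ∧ ∀ j : ℤ, m ≤ j → IsZero (DCoh.HD C j)

theorem ConeApx.of_approx {X : Scheme.{u}} (Tc : X.Opens) (E : DCoh.D X) (m : ℤ)
    (P : DCoh.D X) (α : P ⟶ E) (hP : DCoh.IsPerfect P) (hPz : IsZero ((DD Tc.ι).obj P))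
    (hiso : ∀ i : ℤ, m < i → IsIso ((homologyFunctor X.Modules i).map α))
    (hepi : Epi ((homologyFunctor X.Modules m).map α)) : ConeApx Tc E m := by
  obtain ⟨C, p, d, hT⟩ := distinguished_cocone_triangle α
  refine ⟨P, C, α, p, d, hT, hP, hPz, ?_⟩
  intro j hj
  have hex := DerivedCategory.HomologySequence.exact₃ _ hT j (j + 1) rfl
  have hepi' : Epi ((homologyFunctor X.Modules j).map α) := by
    rcases eq_or_lt_of_le hj with h | h
    · subst h
      exact hepi
    · haveI := hiso j h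
      infer_instance
  haveI := hiso (j + 1) (by omega)
  have h1 := (HomologySequence.epi_homologyMap_mor₁_iff _ hT j).1 hepi'
  have hmono' : Mono ((homologyFunctor X.Modules (j + 1)).map α) := inferInstance
  have h2 := (HomologySequence.mono_homologyMap_mor₁_iff _ hT j (j + 1) rfl).1 hmono'
  exact hex.isZero_of_both_zeros h1 h2

theorem ConeApx.comp {X : Scheme.{u}} (Tc : X.Opens) {R E E' : DCoh.D X} (β : R ⟶ E)
    (q : E ⟶ E') (δ : E' ⟶ R⟦(1 : ℤ)⟧)
    (hT : Triangle.mk β q δ ∈ distTriang (DCoh.D X)) (hR : DCoh.IsPerfect R)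
    (hRz : IsZero ((DD Tc.ι).obj R)) (m : ℤ) (h : ConeApx Tc E' m) : ConeApx Tc E m := by
  obtain ⟨S, C', ξ, q', r, hT₂, hS, hSz, hv⟩ := h
  obtain ⟨P', θ', d', hT₃⟩ := distinguished_cocone_triangle₁ (q ≫ q')
  have o := Triangulated.someOctahedron' (rfl : q ≫ q' = q ≫ q') hT hT₂ hT₃
  have hP' : DCoh.IsPerfect P' :=
    isPerfect_obj₃ _ (inv_rot_of_distTriang _ o.mem) (isPerfect_shift hS (-1)) hR
  refine ⟨P', C', θ', q ≫ q', d', hT₃, hP', ?_, hv⟩
  have hT' := (DD Tc.ι).map_distinguished _ (inv_rot_of_distTriang _ o.mem)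
  have hz1 : IsZero ((DD Tc.ι).obj (S⟦(-1 : ℤ)⟧)) :=
    IsZero.of_iso ((shiftFunctor _ (-1 : ℤ)).map_isZero hSz)
      (((DD Tc.ι).commShiftIso (-1 : ℤ)).app S)
  exact (Triangle.isZero₃_iff_isIso₁ _ hT').2 ⟨0, hz1.eq_of_src _ _, hRz.eq_of_src _ _⟩

theorem ConeApx.out {X : Scheme.{u}} (Tc : X.Opens) (E : DCoh.D X) (m : ℤ)
    (h : ConeApx Tc E m) :
    ∃ (P : DCoh.D X) (α : P ⟶ E), DCoh.IsPerfect P ∧ IsZero ((DD Tc.ι).obj P) ∧
      (∀ i : ℤ, m < i → IsIso ((homologyFunctor X.Modules i).map α)) ∧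
      Epi ((homologyFunctor X.Modules m).map α) := by
  obtain ⟨P, C, θ, p, d, hT, hP, hPz, hz⟩ := h
  refine ⟨P, θ, hP, hPz, ?_, ?_⟩
  · intro i hi
    haveI : Epi ((homologyFunctor X.Modules i).map θ) :=
      (HomologySequence.epi_homologyMap_mor₁_iff _ hT i).2 ((hz i (by omega)).eq_of_tgt _ _)
    haveI : Mono ((homologyFunctor X.Modules i).map θ) :=
      (HomologySequence.mono_homologyMap_mor₁_iff _ hT (i - 1) i (by omega)).2
        ((hz (i - 1) (by omega)).eq_of_src _ _)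
    exact isIso_of_mono_of_epi _
  · exact (HomologySequence.epi_homologyMap_mor₁_iff _ hT m).2 ((hz m le_rfl).eq_of_tgt _ _)

/-! ### The base case: everything lives on the affine part -/

theorem base_case (X : Scheme.{u}) (V : X.Opens) (hV : IsAffineOpen V) (Tc : X.Opens)
    (T' : Set X) (hT' : IsClosed T') (hT'V : T' ⊆ (V : Set X))
    (gs : Finset Γ((V : Scheme.{u}), ⊤))
    (hgs : ∀ v : (V : Scheme.{u}),
      v ∈ (V : Scheme.{u}).zeroLocus (U := ⊤) (↑gs : Set Γ((V : Scheme.{u}), ⊤)) ↔ V.ι.base v ∈ T')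
    (hTcT' : ∀ x ∈ Tc, x ∉ T')
    (m : ℤ) (E : DCoh.D X) (hq : DCoh.IsQCohD E) (hpc : DCoh.IsPseudoCoherentD m E)
    (hsupp : ∀ i : ℤ, min m (m - (gs.card : ℤ) + 1) ≤ i → CohB1.support (DCoh.HD E i) ⊆ T') :
    ConeApx Tc E m := by
  haveI : IsAffine (V : Scheme.{u}) := hV
  have hqV : DCoh.IsQCohD ((DD V.ι).obj E) := LpullQCL.isQCohD_restrictD V.ι E hq
  have hpcV : DCoh.IsPseudoCoherentD m ((DD V.ι).obj E) := isPC_restrict hpc V.ι
  have hsuppV : ∀ i : ℤ, m - (gs.card : ℤ) + 1 ≤ i →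
      CohB1.support (DCoh.HD ((DD V.ι).obj E) i) ⊆
        (V : Scheme.{u}).zeroLocus (U := ⊤) (↑gs : Set Γ((V : Scheme.{u}), ⊤)) := by
    intro i hi v hv
    rw [hgs]
    exact hsupp i (le_trans (min_le_right _ _) hi) ((mem_support_HD_DD_iff V.ι E i v).1 hv)
  obtain ⟨PV, αV, hPV, hPVs, hiso, hepi⟩ :=
    main7261 (V : Scheme.{u}) gs m ((DD V.ι).obj E) hqV hpcV hsuppV
  obtain ⟨P, α, hP, hPs, hiso', hepi'⟩ := ApproxOpenL.main7265 V T' hT' hT'V E hq m
    ⟨PV, αV, hPV, fun i v hv => (hgs v).1 (hPVs i hv), hiso, hepi⟩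
    (fun i hi => hsupp i (le_trans (min_le_left _ _) hi))
  exact ConeApx.of_approx Tc E m P α hP (isZero_DD_of_support_subset Tc T' hTcT' P hPs) hiso' hepi'

/-! ### The induction step -/

theorem isZero_HD_biprod_shift {Y : Scheme.{u}} (P : DCoh.D Y) (t : ℤ)
    (h : ∀ j : ℤ, t < j → IsZero (DCoh.HD P j)) (j : ℤ) (hj : t < j) :
    IsZero (DCoh.HD (P ⊞ P⟦(1 : ℤ)⟧) j) := by
  have hex := DerivedCategory.HomologySequence.exact₂ _
    (binaryBiproductTriangle_distinguished P (P⟦(1 : ℤ)⟧)) j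
  refine hex.isZero_of_both_zeros ((h j hj).eq_of_src _ _) (IsZero.eq_of_tgt ?_ _ _)
  exact isZero_HD_shift P 1 j (h (1 + j) (by omega))

theorem step (X : Scheme.{u}) [CompactSpace X] [QuasiSeparatedSpace X] (U V : X.Opens)
    (hU : IsCompact (U : Set X)) (hV : IsAffineOpen V) (hcov : U ⊔ V = ⊤)
    (hAU : ApxHolds (U : Scheme.{u})) : ApxHolds X := by
  intro T hT hTc
  haveI : IsAffine (V : Scheme.{u}) := hV
  haveI : QuasiCompact U.ι := CptPerfL.quasiCompact_ι U hU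
  haveI : QuasiCompact V.ι := CptPerfL.quasiCompact_ι V hV.isCompact
  haveI : CompactSpace (U : Scheme.{u}) := isCompact_iff_compactSpace.mp hU
  obtain ⟨Tc, hTcdef⟩ : ∃ Tc : X.Opens, (Tc : Set X) = Tᶜ := ⟨⟨Tᶜ, hT.isOpen_compl⟩, rfl⟩
  have hTc' : IsCompact (Tc : Set X) := by rw [hTcdef]; exact hTc
  have hmemTc : ∀ x : X, x ∈ Tc ↔ x ∉ T := by
    intro x
    have : x ∈ (Tc : Set X) ↔ x ∈ Tᶜ := by rw [hTcdef]
    exact this
  have hcov' : ∀ x : X, x ∈ Set.range U.ι ∨ x ∈ V := by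
    intro x
    have hx : x ∈ U ⊔ V := by rw [hcov]; trivial
    rcases hx with hx | hx
    · left
      rw [Scheme.Opens.range_ι]
      exact hx
    · exact Or.inr hx
  -- the closed subset of `U`
  obtain ⟨TU, hTUdef⟩ : ∃ TU : Set (U : Scheme.{u}), TU = {v | U.ι.base v ∈ T} := ⟨_, rfl⟩
  have hTUc : IsClosed TU := by
    rw [hTUdef]
    exact hT.preimage U.ι.continuous
  have hTUcc : IsCompact TUᶜ := by
    have h1 : TUᶜ = ((U.ι ⁻¹ᵁ Tc : (U : Scheme.{u}).Opens) : Set (U : Scheme.{u})) := by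
      ext v
      rw [hTUdef]
      exact ((hmemTc (U.ι.base v)).symm)
    rw [h1]
    exact QuasiCompact.isCompact_preimage (f := U.ι) _ Tc.isOpen hTc'
  obtain ⟨rU, hrU⟩ := hAU TU hTUc hTUcc
  -- the closed subset of `V`
  obtain ⟨T', hT'def⟩ : ∃ T' : Set X, T' = T ∩ (U : Set X)ᶜ := ⟨_, rfl⟩
  have hT'c : IsClosed T' := by
    rw [hT'def]
    exact hT.inter U.isOpen.isClosed_compl
  have hT'V : T' ⊆ (V : Set X) := by
    rw [hT'def]
    rintro x ⟨-, hxU⟩
    rcases hcov' x with h | h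
    · rw [Scheme.Opens.range_ι] at h
      exact absurd h hxU
    · exact h
  have hTcT' : ∀ x ∈ Tc, x ∉ T' := by
    intro x hx hxT'
    rw [hT'def] at hxT'
    exact (hmemTc x).1 hx hxT'.1
  have hWc : IsCompact ((V.ι ⁻¹ᵁ (Tc ⊔ U) : (V : Scheme.{u}).Opens) : Set (V : Scheme.{u})) := by
    refine QuasiCompact.isCompact_preimage (f := V.ι) _ (Tc ⊔ U).isOpen ?_
    have : ((Tc ⊔ U : X.Opens) : Set X) = (Tc : Set X) ∪ (U : Set X) := rfl
    rw [this]
    exact hTc'.union hU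
  obtain ⟨gs₀, hgs₀, hWgs⟩ :=
    isCompact_and_isOpen_iff_finite_and_eq_biUnion_basicOpen.1
      ⟨hWc, (V.ι ⁻¹ᵁ (Tc ⊔ U)).isOpen⟩
  obtain ⟨gs, hgsdef⟩ : ∃ gs : Finset Γ((V : Scheme.{u}), ⊤), gs = hgs₀.toFinset := ⟨_, rfl⟩
  have hgs : ∀ v : (V : Scheme.{u}),
      v ∈ (V : Scheme.{u}).zeroLocus (U := ⊤) (↑gs : Set Γ((V : Scheme.{u}), ⊤)) ↔
        V.ι.base v ∈ T' := by
    intro v
    have hmem : v ∈ ((V.ι ⁻¹ᵁ (Tc ⊔ U) : (V : Scheme.{u}).Opens) : Set (V : Scheme.{u})) ↔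
        ∃ g ∈ gs₀, v ∈ (V : Scheme.{u}).basicOpen g := by
      rw [hWgs]
      simp only [Set.mem_iUnion, SetLike.mem_coe, exists_prop]
    have hmem' : v ∈ ((V.ι ⁻¹ᵁ (Tc ⊔ U) : (V : Scheme.{u}).Opens) : Set (V : Scheme.{u})) ↔
        (V.ι.base v ∈ Tc ∨ V.ι.base v ∈ U) := Iff.rfl
    rw [Scheme.mem_zeroLocus_iff, hT'def]
    constructor
    · intro h
      have h1 : ¬ (V.ι.base v ∈ Tc ∨ V.ι.base v ∈ U) := by
        rw [← hmem', hmem]
        rintro ⟨g, hg, hvg⟩
        exact h g (by rw [hgsdef]; simpa using hg) hvg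
      push Not at h1
      exact ⟨by_contra fun hn => h1.1 ((hmemTc _).2 hn), h1.2⟩
    · rintro ⟨h1, h2⟩ g hg hvg
      have h3 : V.ι.base v ∈ Tc ∨ V.ι.base v ∈ U := by
        rw [← hmem', hmem]
        exact ⟨g, by rw [hgsdef] at hg; simpa using hg, hvg⟩
      rcases h3 with h3 | h3
      · exact (hmemTc _).1 h3 h1
      · exact h2 h3
  obtain ⟨s, hs⟩ : ∃ s : ℤ, s = (gs.card : ℤ) := ⟨_, rfl⟩
  have hs0 : 0 ≤ s := by rw [hs]; exact Int.natCast_nonneg _
  refine ⟨|rU| + s, ?_⟩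
  intro m E hq hpc hsupp
  obtain ⟨m₀, hm₀⟩ : ∃ m₀ : ℤ, m₀ = min m (m - s + 1) := ⟨_, rfl⟩
  have hm₀m : m₀ ≤ m := by rw [hm₀]; exact min_le_left _ _
  have hm₀s : m - s ≤ m₀ := by rw [hm₀]; exact le_min (by omega) (by omega)
  have habs := le_abs_self rU
  have habs0 := abs_nonneg rU
  -- the inductive claim
  have claim : ∀ (n : ℕ) (E : DCoh.D X), DCoh.IsQCohD E →
      DCoh.IsPseudoCoherentD (m - (|rU| + s)) E →
      (∀ i : ℤ, m - (|rU| + s) ≤ i → CohB1.support (DCoh.HD E i) ⊆ T) →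
      (∀ i : ℤ, m₀ - 1 + (n : ℤ) < i →
        IsZero ((Scheme.Modules.restrictFunctor U.ι).obj (DCoh.HD E i))) →
      ConeApx Tc E m := by
    intro n
    induction n with
    | zero =>
      intro E hq hpc hsupp hUz
      refine base_case X V hV Tc T' hT'c hT'V gs hgs hTcT' m E hq
        (isPC_mono hpc (by omega)) ?_
      intro i hi x hx
      rw [← hs, ← hm₀] at hi
      rw [hT'def]
      refine ⟨hsupp i (by omega) hx, fun hxU => ?_⟩
      exact not_mem_support_of_isZero_restrict U _ (hUz i (by push_cast; omega)) x hxU hx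
    | succ n ih =>
      intro E hq hpc hsupp hUz
      obtain ⟨t, ht⟩ : ∃ t : ℤ, t = m₀ + (n : ℤ) := ⟨_, rfl⟩
      have hUz' : ∀ i : ℤ, t < i →
          IsZero ((Scheme.Modules.restrictFunctor U.ι).obj (DCoh.HD E i)) := by
        intro i hi
        exact hUz i (by push_cast; omega)
      -- approximation on `U`
      have hqU : DCoh.IsQCohD ((DD U.ι).obj E) := LpullQCL.isQCohD_restrictD U.ι E hq
      have hpcU : DCoh.IsPseudoCoherentD (t - rU) ((DD U.ι).obj E) :=
        isPC_mono (isPC_restrict hpc U.ι) (by omega)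
      have hsuppU : ∀ i : ℤ, t - rU ≤ i →
          CohB1.support (DCoh.HD ((DD U.ι).obj E) i) ⊆ TU := by
        intro i hi v hv
        rw [hTUdef]
        exact hsupp i (by omega) ((mem_support_HD_DD_iff U.ι E i v).1 hv)
      obtain ⟨PU, αU, hPU, hPUs, hisoU, hepiU⟩ := hrU t ((DD U.ι).obj E) hqU hpcU hsuppU
      have hPUz : IsZero ((DD (U.ι ⁻¹ᵁ Tc).ι).obj PU) := by
        apply MVPushL.isZero_restrictD_of_support
        intro k v hv hvs
        have h1 : U.ι.base v ∈ T := by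
          have := hPUs k hvs
          rw [hTUdef] at this
          exact this
        exact (hmemTc _).1 hv h1
      obtain ⟨R, β, i, p, hR, hRz, hip, hiβ, ⟨ε⟩⟩ :=
        two_opens' X U.ι V hV hcov' Tc hTc' E hq PU hPU hPUz αU
      -- vanishing of the cohomology of `PU` and `R|_U` above `t`
      have hEUz : ∀ j : ℤ, t < j → IsZero (DCoh.HD ((DD U.ι).obj E) j) := by
        intro j hj
        obtain ⟨e⟩ := nonempty_HD_restrict_iso U.ι E j
        exact (hUz' j hj).of_iso e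
      have hPUv : ∀ j : ℤ, t < j → IsZero (DCoh.HD PU j) := by
        intro j hj
        haveI := hisoU j hj
        exact (hEUz j hj).of_iso (asIso ((homologyFunctor _ j).map αU))
      have hRUv : ∀ j : ℤ, t < j → IsZero (DCoh.HD ((DD U.ι).obj R) j) := by
        intro j hj
        exact (isZero_HD_biprod_shift PU t hPUv j hj).of_iso ((homologyFunctor _ j).mapIso ε)
      haveI hepiβ : Epi ((homologyFunctor (U : Scheme.{u}).Modules t).map ((DD U.ι).map β)) := by
        haveI : Epi ((homologyFunctor (U : Scheme.{u}).Modules t).map i ≫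
            (homologyFunctor (U : Scheme.{u}).Modules t).map ((DD U.ι).map β)) := by
          rw [← CategoryTheory.Functor.map_comp, hiβ]
          exact hepiU
        exact epi_of_epi ((homologyFunctor (U : Scheme.{u}).Modules t).map i) _
      -- the cone
      obtain ⟨E', q, δ, hTri⟩ := distinguished_cocone_triangle β
      have hq' : DCoh.IsQCohD E' :=
        RpushQCL.isQCohD_obj₃ _ hTri (isQCohD_of_isPerfect R hR) hq
      have hpc' : DCoh.IsPseudoCoherentD (m - (|rU| + s)) E' :=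
        isPC_obj₃ _ _ hTri (isPC_of_isPerfect hR _) hpc
      have hsupp' : ∀ k : ℤ, m - (|rU| + s) ≤ k → CohB1.support (DCoh.HD E' k) ⊆ T := by
        intro k hk x hx
        by_contra hxT
        have hxTc : x ∈ Tc := (hmemTc x).2 hxT
        have h1 : IsZero ((Scheme.Modules.restrictFunctor Tc.ι).obj (DCoh.HD E k)) := by
          apply MVPushL.isZero_restrict_of_support
          intro y hy hys
          exact (hmemTc y).1 hy (hsupp k hk hys)
        have h2 := isZero_restrict_HD_obj₃ _ hTri Tc hRz k h1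
        exact not_mem_support_of_isZero_restrict Tc _ h2 x hxTc hx
      have hUz'' : ∀ k : ℤ, m₀ - 1 + (n : ℤ) < k →
          IsZero ((Scheme.Modules.restrictFunctor U.ι).obj (DCoh.HD E' k)) := by
        intro k hk
        have hkt : t ≤ k := by omega
        obtain ⟨e⟩ := nonempty_HD_restrict_iso U.ι E' k
        refine IsZero.of_iso ?_ e.symm
        have hTU' := (DD U.ι).map_distinguished _ hTri
        have hex := DerivedCategory.HomologySequence.exact₃ _ hTU' k (k + 1) rfl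
        rcases eq_or_lt_of_le hkt with h | h
        · subst h
          have h1 := (HomologySequence.epi_homologyMap_mor₁_iff _ hTU' t).1 hepiβ
          exact hex.isZero_of_both_zeros h1 ((hRUv (t + 1) (by omega)).eq_of_tgt _ _)
        · exact hex.isZero_of_both_zeros ((hEUz k h).eq_of_src _ _)
            ((hRUv (k + 1) (by omega)).eq_of_tgt _ _)
      exact ConeApx.comp Tc β q δ hTri hR hRz m (ih E' hq' hpc' hsupp' hUz'')
  -- a bound for `E`
  obtain ⟨b₀, hb₀⟩ := exists_bound_of_isPC _ E hpc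
  obtain ⟨b, hb⟩ : ∃ b : ℤ, b = max b₀ (m₀ - 1) := ⟨_, rfl⟩
  have hbb : ∀ i : ℤ, b < i → IsZero (DCoh.HD E i) := fun i hi =>
    hb₀ i (lt_of_le_of_lt (by rw [hb]; exact le_max_left _ _) hi)
  have hbm : m₀ - 1 ≤ b := by rw [hb]; exact le_max_right _ _
  obtain ⟨n, hn⟩ : ∃ n : ℕ, (n : ℤ) = b - (m₀ - 1) :=
    ⟨(b - (m₀ - 1)).toNat, Int.toNat_of_nonneg (by omega)⟩
  have hcone : ConeApx Tc E m := by
    refine claim n E hq hpc hsupp ?_
    intro i hi
    exact (Scheme.Modules.restrictFunctor U.ι).map_isZero (hbb i (by omega))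
  obtain ⟨P, α, hP, hPz, hiso, hepi⟩ := hcone.out
  refine ⟨P, α, hP, ?_, hiso, hepi⟩
  intro i
  apply support_subset_of_isZero
  intro x hx
  exact ⟨Tc, (hmemTc x).2 hx, hPz⟩

end

end Groth.Agent.Lib.ApxGlueH3
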