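import Mathlib
import Groth.Prelude
import Groth.Agent.Lib.ApxGlue2_helper3

/-!
# Approximation by perfect complexes on quasi-compact quasi-separated schemes (helper3; S1103)

* `apx_affine`: approximation holds on affine schemes (from S7261);
* `apx_of_cover`: induction on the number of affine opens needed;
* `main1103`.
-/

set_option autoImplicit false
set_option linter.all false
set_option maxHeartbeats 1600000
set_option backward.isDefEq.respectTransparency false
set_option backward.isDefEq.respectTransparency.types false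
set_option backward.defeqAttrib.useBackward true

universe u

open CategoryTheory CategoryTheory.Limits AlgebraicGeometry TopologicalSpace Opposite
open DerivedCategory CategoryTheory.Pretriangulated

attribute [local instance] HasDerivedCategory.standard

namespace Groth.Agent.Lib.ApxGlueH3

open Groth.Agent.Lib Groth.Agent.Lib.DCohLocLead Groth.Agent.Lib.PerfLocL
open Groth.Agent.Lib.HomVanL Groth.Agent.Lib.CompQL Groth.Agent.Lib.SerreHomL
open Groth.Agent.Lib.TTLiftL Groth.Agent.Lib.TTApxL Groth.Agent.Lib.TTSuppL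
open Groth.Agent.Lib.TTGlueL Groth.Agent.Lib.ApxAffH3

noncomputable section

attribute [local instance] rpushI lpullI

theorem apx_affine (X : Scheme.{u}) [IsAffine X] : ApxHolds X := by
  intro T hT hTc
  obtain ⟨gs₀, hgs₀, hWgs⟩ :=
    isCompact_and_isOpen_iff_finite_and_eq_biUnion_basicOpen.1 ⟨hTc, hT.isOpen_compl⟩
  obtain ⟨gs, hgsdef⟩ : ∃ gs : Finset Γ(X, ⊤), gs = hgs₀.toFinset := ⟨_, rfl⟩
  have hgs : ∀ x : X, x ∈ X.zeroLocus (U := ⊤) (↑gs : Set Γ(X, ⊤)) ↔ x ∈ T := by
    intro x
    have hmem : x ∈ Tᶜ ↔ ∃ g ∈ gs₀, x ∈ X.basicOpen g := by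
      rw [hWgs]
      simp only [Set.mem_iUnion, SetLike.mem_coe, exists_prop]
    rw [Scheme.mem_zeroLocus_iff]
    constructor
    · intro h
      by_contra hxT
      obtain ⟨g, hg, hxg⟩ := hmem.1 hxT
      exact h g (by rw [hgsdef]; simpa using hg) hxg
    · intro hxT g hg hxg
      have h3 : x ∈ Tᶜ := hmem.2 ⟨g, by rw [hgsdef] at hg; simpa using hg, hxg⟩
      exact h3 hxT
  refine ⟨(gs.card : ℤ), ?_⟩
  intro m E hq hpc hsupp
  have hc0 : (0 : ℤ) ≤ (gs.card : ℤ) := Int.natCast_nonneg _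
  obtain ⟨P, α, hP, hPs, hiso, hepi⟩ := main7261 X gs m E hq (isPC_mono hpc (by omega))
    (fun i hi x hx => (hgs x).2 (hsupp i (by omega) hx))
  exact ⟨P, α, hP, fun i x hx => (hgs x).1 (hPs i hx), hiso, hepi⟩

theorem apx_of_cover (n : ℕ) : ∀ (X : Scheme.{u}) [CompactSpace X] [QuasiSeparatedSpace X]
    (Vs : Fin n → X.Opens) (hVs : ∀ i, IsAffineOpen (Vs i)) (hcov : ∀ x : X, ∃ i, x ∈ Vs i),
    ApxHolds X := by
  induction n with
  | zero =>
    intro X _ _ Vs hVs hcov
    haveI : IsEmpty X := ⟨fun x => (hcov x).choose.elim0⟩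
    exact apx_affine X
  | succ n ih =>
    intro X _ _ Vs hVs hcov
    obtain ⟨U, hUdef⟩ : ∃ U : X.Opens, U = ⨆ i : Fin n, Vs i.succ := ⟨_, rfl⟩
    have hU : IsCompact (U : Set X) := by
      rw [hUdef, Opens.coe_iSup]
      exact isCompact_iUnion (fun i => (hVs i.succ).isCompact)
    have hle : ∀ i : Fin n, Vs i.succ ≤ U := by
      intro i
      rw [hUdef]
      exact le_iSup (fun i : Fin n => Vs i.succ) i
    have hUV : U ⊔ Vs 0 = ⊤ := by
      rw [eq_top_iff]
      intro x _
      obtain ⟨i, hi⟩ := hcov x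
      revert hi
      refine Fin.cases ?_ ?_ i
      · intro hi
        exact Or.inr hi
      · intro k hk
        exact Or.inl (hle k hk)
    haveI : CompactSpace (U : Scheme.{u}) := isCompact_iff_compactSpace.mp hU
    haveI : QuasiSeparatedSpace (U : Scheme.{u}) :=
      QuasiSeparatedSpace.of_isOpenEmbedding U.ι.isOpenEmbedding
    have hV' : ∀ i : Fin n, IsAffineOpen (U.ι ⁻¹ᵁ Vs i.succ) := by
      intro i
      refine (Scheme.Hom.isAffineOpen_iff_of_isOpenImmersion U.ι).1 ?_
      rw [image_preimage_of_le (hle i)]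
      exact hVs i.succ
    have hcovU : ∀ x' : (U : Scheme.{u}), ∃ i : Fin n, x' ∈ U.ι ⁻¹ᵁ Vs i.succ := by
      intro x'
      have hx' : x'.1 ∈ (⨆ i : Fin n, Vs i.succ : X.Opens) := by
        rw [← hUdef]
        exact x'.2
      obtain ⟨i, hi⟩ := Opens.mem_iSup.1 hx'
      exact ⟨i, hi⟩
    exact step X U (Vs 0) hU (hVs 0) hUV
      (ih (U : Scheme.{u}) (fun i => U.ι ⁻¹ᵁ Vs i.succ) hV' hcovU)

/-- **S1103** -/
theorem main1103 (X : Scheme.{u}) [CompactSpace X] [QuasiSeparatedSpace X] : ApxHolds X := by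
  have hcovA : (Set.univ : Set X) ⊆ ⋃ V : X.affineOpens, ((V.1 : X.Opens) : Set X) := by
    intro x _
    have h1 : x ∈ ((⨆ V : X.affineOpens, V.1 : X.Opens) : Set X) := by
      rw [iSup_affineOpens_eq_top]
      trivial
    simpa using h1
  obtain ⟨t, ht⟩ := isCompact_univ.elim_finite_subcover
    (fun V : X.affineOpens => ((V.1 : X.Opens) : Set X)) (fun V => V.1.isOpen) hcovA
  have hcov : ∀ x : X, ∃ i : Fin t.toList.length, x ∈ (t.toList.get i).1 := by
    intro x
    obtain ⟨V, hV, hxV⟩ := Set.mem_iUnion₂.1 (ht (Set.mem_univ x))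
    obtain ⟨n, hn⟩ := List.mem_iff_get.1 (Finset.mem_toList.2 hV)
    exact ⟨n, by rw [hn]; exact hxV⟩
  exact apx_of_cover t.toList.length X (fun i => (t.toList.get i).1)
    (fun i => (t.toList.get i).2) hcov

end

end Groth.Agent.Lib.ApxGlueH3
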