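import Mathlib
import Groth.Prelude
import Groth.Agent.Lib.ApxGlue2_helper3

/-!
# Approximation by perfect complexes: the induction step without quasi-separatedness
(helper3; S7266)

* `lift_two_opens'`, `two_opens''`: versions of lead's `TTGlueL.lift_two_opens`, `two_opens`
  where quasi-separatedness of `X` is replaced by quasi-compactness of `U ∩ V` and of `Tc ∩ V`
  (same proofs; the only new point is that the cone of `E ⟶ Rj_* j^* E` restricted to the affine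
  `V` has quasi-coherent cohomology, by base change to `V`).
* `step_core`, `main7266`.
-/

set_option autoImplicit false
set_option linter.all false
set_option maxHeartbeats 1600000
set_option backward.isDefEq.respectTransparency false
set_option backward.isDefEq.respectTransparency.types false
set_option backward.defeqAttrib.useBackward true

universe u

open CategoryTheory CategoryTheory.Limits AlgebraicGeometry TopologicalSpace Opposite
open DerivedCategory CategoryTheory.Pretriangulated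

attribute [local instance] HasDerivedCategory.standard

namespace Groth.Agent.Lib.ApxGlueH3

open Groth.Agent.Lib Groth.Agent.Lib.DCohLocLead Groth.Agent.Lib.PerfLocL
open Groth.Agent.Lib.HomVanL Groth.Agent.Lib.CompQL Groth.Agent.Lib.SerreHomL
open Groth.Agent.Lib.TTLiftL Groth.Agent.Lib.TTApxL Groth.Agent.Lib.TTSuppL
open Groth.Agent.Lib.TTGlueL Groth.Agent.Lib.ApxAffH3

noncomputable section

attribute [local instance] rpushI lpullI

theorem isCompact_preimage_of_isCompact_preimage {X U₀ : Scheme.{u}} (j : U₀ ⟶ X)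
    [IsOpenImmersion j] (V : X.Opens)
    (h : IsCompact ((V.ι ⁻¹ᵁ j.opensRange : (V : Scheme.{u}).Opens) : Set (V : Scheme.{u}))) :
    IsCompact ((j ⁻¹ᵁ V : U₀.Opens) : Set U₀) := by
  have h1 : IsCompact ((V : Set X) ∩ Set.range j) := by
    have h2 := h.image V.ι.continuous
    have h3 : (V : Set X) ∩ Set.range j = (fun y : (V : Scheme.{u}) => V.ι y) ''
        ((V.ι ⁻¹ᵁ j.opensRange : (V : Scheme.{u}).Opens) : Set (V : Scheme.{u})) := by
      ext x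
      constructor
      · rintro ⟨hxV, hxj⟩
        refine ⟨⟨x, hxV⟩, ?_, rfl⟩
        show V.ι (⟨x, hxV⟩ : (V : Scheme.{u})) ∈ (j.opensRange : Set X)
        rw [Scheme.Hom.coe_opensRange]
        exact hxj
      · rintro ⟨y, hy, rfl⟩
        have hy' : V.ι y ∈ (j.opensRange : Set X) := hy
        rw [Scheme.Hom.coe_opensRange] at hy'
        exact ⟨y.2, hy'⟩
    rw [h3]
    exact h2
  have h4 := (j.isOpenEmbedding.isInducing.isCompact_preimage_iff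
    (K := (V : Set X) ∩ Set.range j) Set.inter_subset_right).2 h1
  have h5 : ((j ⁻¹ᵁ V : U₀.Opens) : Set U₀) = j ⁻¹' ((V : Set X) ∩ Set.range j) := by
    ext y
    constructor
    · intro hy
      exact ⟨hy, ⟨y, rfl⟩⟩
    · rintro ⟨hy, -⟩
      exact hy
  rw [h5]
  exact h4

theorem lift_two_opens' (X : Scheme.{u})
    {U₀ : Scheme.{u}} (j : U₀ ⟶ X) [IsOpenImmersion j] [CompactSpace U₀]
    (V : X.Opens) (hV : IsAffineOpen V) (hcov : ∀ x : X, x ∈ Set.range j ∨ x ∈ V)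
    (hOc' : IsCompact ((V.ι ⁻¹ᵁ j.opensRange : (V : Scheme.{u}).Opens) : Set (V : Scheme.{u})))
    (R₀ E : DCoh.D X) (hR₀ : DCoh.IsPerfect R₀) (hE : DCoh.IsQCohD E)
    (α₀ : (DD j).obj R₀ ⟶ (DD j).obj E) :
    ∃ (R₁ : DCoh.D X) (β : R₁ ⟶ R₀) (γ : R₁ ⟶ E), DCoh.IsPerfect R₁ ∧
      IsIso ((DD j).map β) ∧ (DD j).map β ≫ α₀ = (DD j).map γ ∧
      (∀ S : X.Opens, IsZero ((DD S.ι).obj R₀) → IsZero ((DD S.ι).obj R₁)) := by
  haveI : IsAffine (V : Scheme.{u}) := hV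
  obtain ⟨adj⟩ := nonempty_adj_DD j
  obtain ⟨adjV⟩ := nonempty_adj_DD V.ι
  obtain ⟨N, δ, c, hT⟩ := distinguished_cocone_triangle (adj.unit.app E)
  have hNz : IsZero ((DD j).obj N) := RGammaZL.isZero_restrictD_cone_unit j adj E δ c hT
  -- the intersection, inside `V`
  have hjc : IsCompact ((j.opensRange : X.Opens) : Set X) := by
    rw [Scheme.Hom.coe_opensRange]
    exact isCompact_range j.continuous
  obtain ⟨O, hO⟩ : ∃ O : (V : Scheme.{u}).Opens, O = V.ι ⁻¹ᵁ j.opensRange := ⟨_, rfl⟩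
  have hOc : IsCompact (O : Set (V : Scheme.{u})) := by
    rw [hO]
    exact hOc'
  have hOrange : Set.range (O.ι ≫ V.ι) ⊆ Set.range j := by
    rw [hO]
    rintro _ ⟨y, rfl⟩
    have h1 : V.ι y.1 ∈ j.opensRange := y.2
    exact h1
  obtain ⟨s, hs, hOs⟩ :=
    isCompact_and_isOpen_iff_finite_and_eq_biUnion_basicOpen.1 ⟨hOc, O.isOpen⟩
  have hle : ∀ f ∈ s, (V : Scheme.{u}).basicOpen f ≤ O := by
    intro f hf x hx
    show x ∈ (O : Set (V : Scheme.{u}))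
    rw [hOs]
    exact Set.mem_biUnion hf hx
  have hcovO : ∀ x ∈ O, ∃ f : s, x ∈ (V : Scheme.{u}).basicOpen f.1 := by
    intro x hx
    have hx' : x ∈ (O : Set (V : Scheme.{u})) := hx
    rw [hOs] at hx'
    obtain ⟨f, hf, hxf⟩ := Set.mem_iUnion₂.1 hx'
    exact ⟨⟨f, hf⟩, hxf⟩
  -- `N` on `V`
  have hNV : DCoh.IsQCohD ((DD V.ι).obj N) := by
    obtain ⟨e⟩ := BCOpenL.main6508 j V
    haveI : CompactSpace ((j ⁻¹ᵁ V : U₀.Opens) : Scheme.{u}) :=
      isCompact_iff_compactSpace.mp (isCompact_preimage_of_isCompact_preimage j V hOc')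
    haveI : QuasiCompact (j ∣_ V) := inferInstance
    have h1 : DCoh.IsQCohD ((DCoh.Rpush (j ∣_ V)).obj
        ((DD (j ⁻¹ᵁ V).ι).obj ((DD j).obj E))) :=
      RpushQCL.main0998 (j ∣_ V) _
        (LpullQCL.isQCohD_restrictD _ _ (LpullQCL.isQCohD_restrictD j E hE))
    have h2 : DCoh.IsQCohD ((DD V.ι).obj ((DCoh.Rpush j).obj ((DD j).obj E))) :=
      DSectX.isQCohD_of_iso (e.app ((DD j).obj E)).symm h1
    have hT' := (DD V.ι).map_distinguished _ hT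
    exact RpushQCL.isQCohD_obj₃ _ hT' (LpullQCL.isQCohD_restrictD V.ι E hE) h2
  have hNVO : IsZero ((DD O.ι).obj ((DD V.ι).obj N)) := by
    obtain ⟨c1⟩ := nonempty_DD_comp_iso O.ι V.ι N
    exact (isZero_DD_of_range_le j (O.ι ≫ V.ι) hOrange N hNz).of_iso c1.symm
  obtain ⟨α', hα'⟩ : ∃ α' : R₀ ⟶ (DCoh.Rpush j).obj ((DD j).obj E),
      α' = adj.homEquiv _ _ α₀ := ⟨_, rfl⟩
  obtain ⟨φ, hφ⟩ : ∃ φ : R₀ ⟶ N, φ = α' ≫ δ := ⟨_, rfl⟩
  obtain ⟨GV, ψV, φV, hGV, hcV, hGVz, hGVm⟩ := exists_kill' ((DD V.ι).obj N) hNV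
    hs.toFinset.toList
    (fun f hf => isZero_DD_of_le (hle f (by simpa using hf)) _ hNVO)
    ((DD V.ι).obj R₀) (isPerfect_DD V.ι R₀ hR₀) ((DD V.ι).map φ)
  have hGVO : IsZero ((DD O.ι).obj GV) :=
    isZero_DD_of_cover GV O (fun f : s => (V : Scheme.{u}).basicOpen f.1) hcovO
      (fun f => hGVz f.1 (by simpa using f.2))
  -- the object `G = Rj_{V,*} G_V` on `X`
  obtain ⟨κV⟩ := KoszL.nonempty_Rpush_comp_DD_iso_id V.ι
  have hGj : IsZero ((DD j).obj ((DCoh.Rpush V.ι).obj GV)) := by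
    refine isZero_DD_of_range_le j.opensRange.ι j ?_ _
      (isZero_DD_Rpush_ι V j.opensRange GV ?_)
    · rw [Scheme.Opens.range_ι, Scheme.Hom.coe_opensRange]
    · rw [← hO]
      exact hGVO
  have hGm : ∀ S : X.Opens, IsZero ((DD S.ι).obj R₀) →
      IsZero ((DD S.ι).obj ((DCoh.Rpush V.ι).obj GV)) := by
    intro S hS
    refine isZero_DD_Rpush_ι V S GV (hGVm _ ?_)
    obtain ⟨c1⟩ := nonempty_DD_comp_iso (V.ι ⁻¹ᵁ S).ι V.ι R₀
    exact (isZero_DD_of_range_le S.ι ((V.ι ⁻¹ᵁ S).ι ≫ V.ι)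
      (range_comp_ι_subset V S) R₀ hS).of_iso c1.symm
  have hGp : DCoh.IsPerfect ((DCoh.Rpush V.ι).obj GV) := by
    apply isPerfect_of_cover
    intro x
    rcases hcov x with ⟨y, hy⟩ | hx
    · exact ⟨U₀, j, inferInstance, ⟨y, hy⟩, isPerfect_of_isZero hGj⟩
    · exact ⟨_, V.ι, inferInstance, ⟨⟨x, hx⟩, rfl⟩, isPerfect_of_iso (κV.app GV).symm hGV⟩
  -- the unit of `N` for `V`
  haveI hunit : IsIso (adjV.unit.app N) := by
    refine RGammaZL.isIso_unit_of_isZero_restrict V.ι j.opensRange ?_ adjV N ?_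
    · intro x hx
      rcases hcov x with hxj | hxV
      · exact absurd (show x ∈ (j.opensRange : Set X) by
          rw [Scheme.Hom.coe_opensRange]; exact hxj) hx
      · exact ⟨⟨x, hxV⟩, rfl⟩
    · rintro i x ⟨y, rfl⟩
      exact RGammaZL.stalks_of_isZero_restrictD j N hNz i y
  obtain ⟨ψ, hψ⟩ : ∃ ψ : R₀ ⟶ (DCoh.Rpush V.ι).obj GV, ψ = adjV.homEquiv _ _ ψV := ⟨_, rfl⟩
  obtain ⟨φ', hφ'⟩ : ∃ φ' : (DCoh.Rpush V.ι).obj GV ⟶ N,
      φ' = (DCoh.Rpush V.ι).map φV ≫ inv (adjV.unit.app N) := ⟨_, rfl⟩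
  have e2 : adjV.homEquiv _ _ ((DD V.ι).map φ) = φ ≫ adjV.unit.app N := by
    rw [adjV.homEquiv_unit, adjV.unit_naturality]
    try rfl
  have e3 : adjV.homEquiv _ _ (ψV ≫ φV) = adjV.homEquiv _ _ ψV ≫ (DCoh.Rpush V.ι).map φV :=
    adjV.homEquiv_naturality_right ψV φV
  have hψφ : ψ ≫ φ' = φ := by
    have h1 : (ψ ≫ φ') ≫ adjV.unit.app N = φ ≫ adjV.unit.app N := by
      rw [hφ', hψ]
      simp only [Category.assoc, IsIso.inv_hom_id, Category.comp_id]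
      rw [← e3, hcV, e2]
    exact (cancel_mono (adjV.unit.app N)).1 h1
  obtain ⟨R₁, β, w, hT₁⟩ := distinguished_cocone_triangle₁ ψ
  have hR₁ : DCoh.IsPerfect R₁ := by
    have h1 : DCoh.IsPerfect (R₁⟦(1 : ℤ)⟧) :=
      isPerfect_obj₃ _ (rot_of_distTriang _ hT₁) hR₀ hGp
    exact isPerfect_of_iso (shiftShiftNeg R₁ (1 : ℤ)) (isPerfect_shift h1 (-1))
  have hβ : IsIso ((DD j).map β) := by
    have hT' := (DD j).map_distinguished _ hT₁
    exact (Triangle.isZero₃_iff_isIso₁ _ hT').1 hGj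
  have hzero : (β ≫ α') ≫ δ = 0 := by
    have h0 : β ≫ ψ = 0 := comp_distTriang_mor_zero₁₂ _ hT₁
    rw [Category.assoc, ← hφ, ← hψφ, ← Category.assoc, h0, zero_comp]
  obtain ⟨γ, hγ⟩ := Triangle.coyoneda_exact₂ _ hT (β ≫ α') hzero
  refine ⟨R₁, β, γ, hR₁, hβ, ?_, ?_⟩
  · have e1 : adj.homEquiv _ _ ((DD j).map β ≫ α₀) = β ≫ adj.homEquiv _ _ α₀ :=
      adj.homEquiv_naturality_left β α₀
    have e2' : adj.homEquiv _ _ ((DD j).map γ) = γ ≫ adj.unit.app E := by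
      rw [adj.homEquiv_unit, adj.unit_naturality]
      try rfl
    rw [hα'] at hγ
    exact (adj.homEquiv _ _).injective (e1.trans (hγ.trans e2'.symm))
  · intro S hS
    have hT' := (DD S.ι).map_distinguished _ hT₁
    refine (Triangle.isZero₁_iff_isIso₂ _ hT').2 ?_
    show IsIso ((DD S.ι).map ψ)
    exact ⟨0, hS.eq_of_src _ _, (hGm S hS).eq_of_src _ _⟩


/-- the case of two opens, one of them affine -/
theorem two_opens'' (X : Scheme.{u})
    {U₀ : Scheme.{u}} (j : U₀ ⟶ X) [IsOpenImmersion j] [CompactSpace U₀]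
    (V : X.Opens) (hV : IsAffineOpen V) (hcov : ∀ x : X, x ∈ Set.range j ∨ x ∈ V)
    (hOc' : IsCompact ((V.ι ⁻¹ᵁ j.opensRange : (V : Scheme.{u}).Opens) : Set (V : Scheme.{u})))
    (Tc : X.Opens)
    (hTVc : IsCompact ((V.ι ⁻¹ᵁ Tc : (V : Scheme.{u}).Opens) : Set (V : Scheme.{u})))
    (E : DCoh.D X) (hE : DCoh.IsQCohD E)
    (P : DCoh.D U₀) (hP : DCoh.IsPerfect P) (hPz : IsZero ((DD (j ⁻¹ᵁ Tc).ι).obj P))
    (α : P ⟶ (DD j).obj E) :
    ∃ (R : DCoh.D X) (β : R ⟶ E) (i : P ⟶ (DD j).obj R) (p : (DD j).obj R ⟶ P),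
      DCoh.IsPerfect R ∧ IsZero ((DD Tc.ι).obj R) ∧ i ≫ p = 𝟙 P ∧ i ≫ (DD j).map β = α ∧
      Nonempty ((DD j).obj R ≅ P ⊞ P⟦(1 : ℤ)⟧) := by
  haveI : IsAffine (V : Scheme.{u}) := hV
  have hjc : IsCompact ((j.opensRange : X.Opens) : Set X) := by
    rw [Scheme.Hom.coe_opensRange]
    exact isCompact_range j.continuous
  obtain ⟨O, hO⟩ : ∃ O : (V : Scheme.{u}).Opens, O = V.ι ⁻¹ᵁ j.opensRange := ⟨_, rfl⟩
  have hOc : IsCompact (O : Set (V : Scheme.{u})) := by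
    rw [hO]
    exact hOc'
  have hOmem : ∀ y : (V : Scheme.{u}), y ∈ O ↔ V.ι y ∈ Set.range j := by
    intro y
    rw [hO]
    exact Iff.rfl
  have hOrange : Set.range (O.ι ≫ V.ι) ⊆ Set.range j := by
    rintro _ ⟨y, rfl⟩
    exact (hOmem y.1).1 y.2
  obtain ⟨l, hl, hfac⟩ := exists_lift j (O.ι ≫ V.ι) hOrange
  haveI := hl
  have hpt : ∀ z : (O : Scheme.{u}), j (l z) = V.ι (O.ι z) := by
    intro z
    have h4 := congrArg (fun f : (O : Scheme.{u}) ⟶ X => f z) hfac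
    simpa only [Scheme.Hom.comp_apply] using h4
  obtain ⟨F, hFdef⟩ : ∃ F : DCoh.D (O : Scheme.{u}), F = (DD l).obj P := ⟨_, rfl⟩
  have hF : DCoh.IsPerfect F := by
    rw [hFdef]
    exact isPerfect_DD l P hP
  -- generators of `Tc ∩ V`
  obtain ⟨gs, hgs, hTgs⟩ :=
    isCompact_and_isOpen_iff_finite_and_eq_biUnion_basicOpen.1 ⟨hTVc, (V.ι ⁻¹ᵁ Tc).isOpen⟩
  have hgmem : ∀ g ∈ gs, ∀ y ∈ (V : Scheme.{u}).basicOpen g, V.ι y ∈ Tc := by
    intro g hg y hy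
    have h1 : y ∈ ((V.ι ⁻¹ᵁ Tc : (V : Scheme.{u}).Opens) : Set (V : Scheme.{u})) := by
      rw [hTgs]
      exact Set.mem_biUnion hg hy
    exact h1
  have hFz : ∀ g ∈ hgs.toFinset.toList,
      IsZero ((DD ((O : Scheme.{u}).basicOpen (O.ι.appTop.hom g)).ι).obj F) := by
    intro g hg
    have hg' : g ∈ gs := by simpa using hg
    rw [hFdef]
    obtain ⟨c1⟩ := nonempty_DD_comp_iso ((O : Scheme.{u}).basicOpen (O.ι.appTop.hom g)).ι l P
    refine (isZero_DD_of_range_le (j ⁻¹ᵁ Tc).ι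
      (((O : Scheme.{u}).basicOpen (O.ι.appTop.hom g)).ι ≫ l) ?_ P hPz).of_iso c1.symm
    rintro _ ⟨z, rfl⟩
    rw [Scheme.Opens.range_ι]
    have h0 := Scheme.preimage_basicOpen_top O.ι g
    have h2 : z.1 ∈ O.ι ⁻¹ᵁ ((V : Scheme.{u}).basicOpen g) := by
      rw [h0]
      exact z.2
    have h3 : V.ι (O.ι z.1) ∈ Tc := hgmem g hg' _ h2
    rw [← hpt] at h3
    exact h3
  obtain ⟨Q', hQ', hQz, ⟨c₀⟩⟩ := main1041' (V : Scheme.{u}) O hOc hgs.toFinset.toList F hF hFz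
  -- the objects on `X`
  obtain ⟨κj⟩ := KoszL.nonempty_Rpush_comp_DD_iso_id j
  obtain ⟨κV⟩ := KoszL.nonempty_Rpush_comp_DD_iso_id V.ι
  obtain ⟨A', κA⟩ : ∃ A' : DCoh.D X, Nonempty ((DD j).obj A' ≅ P ⊞ P⟦(1 : ℤ)⟧) :=
    ⟨(DCoh.Rpush j).obj (P ⊞ P⟦(1 : ℤ)⟧), ⟨κj.app _⟩⟩
  obtain ⟨κA⟩ := κA
  obtain ⟨B', κB⟩ : ∃ B' : DCoh.D X, Nonempty ((DD V.ι).obj B' ≅ Q') :=
    ⟨(DCoh.Rpush V.ι).obj Q', ⟨κV.app _⟩⟩
  obtain ⟨κB⟩ := κB
  -- the comparison on the intersection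
  obtain ⟨cB⟩ := nonempty_DD_comp_iso O.ι V.ι B'
  obtain ⟨cA⟩ := GlueL.nonempty_DD_of_comp l j (O.ι ≫ V.ι) hfac A'
  obtain ⟨bs⟩ := nonempty_DD_biprod_shift l P
  obtain ⟨c''⟩ : Nonempty ((DD (O.ι ≫ V.ι)).obj A' ≅ (DD (O.ι ≫ V.ι)).obj B') := by
    rw [hFdef] at c₀
    exact ⟨cA ≪≫ (DD l).mapIso κA ≪≫ bs ≪≫ c₀.symm ≪≫ (DD O.ι).mapIso κB.symm ≪≫ cB.symm⟩
  have hrange' : Set.range (j.opensRange ⊓ V).ι ⊆ Set.range (O.ι ≫ V.ι) := by
    rw [Scheme.Opens.range_ι]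
    rintro x ⟨hxU, hxV⟩
    have hxO : (⟨x, hxV⟩ : (V : Scheme.{u})) ∈ O := by
      rw [hOmem]
      have h1 : x ∈ (j.opensRange : Set X) := hxU
      rw [Scheme.Hom.coe_opensRange] at h1
      exact h1
    exact ⟨⟨⟨x, hxV⟩, hxO⟩, rfl⟩
  obtain ⟨c'⟩ := nonempty_DD_iso_of_range_le (O.ι ≫ V.ι) (j.opensRange ⊓ V).ι hrange' c''
  obtain ⟨R₀, ⟨e1⟩, ⟨e2⟩⟩ := GlueL.glue_onX j.opensRange V A' B' c'
  have hjU : Set.range j ⊆ Set.range j.opensRange.ι := by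
    rw [Scheme.Opens.range_ι, Scheme.Hom.coe_opensRange]
  obtain ⟨εj⟩ := nonempty_DD_iso_of_range_le j.opensRange.ι j hjU e1
  obtain ⟨ε, hε⟩ : ∃ ε : (DD j).obj R₀ ≅ P ⊞ P⟦(1 : ℤ)⟧, ε = εj ≪≫ κA := ⟨_, rfl⟩
  obtain ⟨eV, heV⟩ : ∃ eV : (DD V.ι).obj R₀ ≅ Q', eV = e2 ≪≫ κB := ⟨_, rfl⟩
  -- `R₀` is perfect
  have hR₀ : DCoh.IsPerfect R₀ := by
    apply isPerfect_of_cover
    intro x
    rcases hcov x with ⟨y, hy⟩ | hx
    · exact ⟨U₀, j, inferInstance, ⟨y, hy⟩,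
        isPerfect_of_iso ε.symm (isPerfect_biprod hP (isPerfect_shift hP 1))⟩
    · exact ⟨_, V.ι, inferInstance, ⟨⟨x, hx⟩, rfl⟩, isPerfect_of_iso eV.symm hQ'⟩
  -- `R₀` vanishes on `Tc`
  have hz1 : IsZero ((DD (Tc ⊓ j.opensRange).ι).obj R₀) := by
    have h1 : IsZero ((DD ((j ⁻¹ᵁ Tc).ι ≫ j)).obj R₀) := by
      obtain ⟨c1⟩ := nonempty_DD_comp_iso (j ⁻¹ᵁ Tc).ι j R₀
      refine IsZero.of_iso ?_ (c1 ≪≫ (DD (j ⁻¹ᵁ Tc).ι).mapIso ε)
      exact isZero_DD_biprod_shift _ P hPz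
    refine isZero_DD_of_range_le ((j ⁻¹ᵁ Tc).ι ≫ j) (Tc ⊓ j.opensRange).ι ?_ R₀ h1
    rw [Scheme.Opens.range_ι]
    rintro x ⟨hxT, hxU⟩
    have h2 : x ∈ (j.opensRange : Set X) := hxU
    rw [Scheme.Hom.coe_opensRange] at h2
    obtain ⟨y, rfl⟩ := h2
    exact ⟨⟨y, hxT⟩, rfl⟩
  have hz2 : IsZero ((DD (Tc ⊓ V).ι).obj R₀) := by
    have hQT : IsZero ((DD (V.ι ⁻¹ᵁ Tc).ι).obj Q') := by
      refine isZero_DD_of_cover Q' (V.ι ⁻¹ᵁ Tc) (fun g : gs => (V : Scheme.{u}).basicOpen g.1) ?_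
        (fun g => hQz g.1 (by simpa using g.2))
      intro y hy
      have hy' : y ∈ ((V.ι ⁻¹ᵁ Tc : (V : Scheme.{u}).Opens) : Set (V : Scheme.{u})) := hy
      rw [hTgs] at hy'
      obtain ⟨g, hg, hyg⟩ := Set.mem_iUnion₂.1 hy'
      exact ⟨⟨g, hg⟩, hyg⟩
    have h1 : IsZero ((DD ((V.ι ⁻¹ᵁ Tc).ι ≫ V.ι)).obj R₀) := by
      obtain ⟨c1⟩ := nonempty_DD_comp_iso (V.ι ⁻¹ᵁ Tc).ι V.ι R₀
      exact IsZero.of_iso hQT (c1 ≪≫ (DD (V.ι ⁻¹ᵁ Tc).ι).mapIso eV)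
    refine isZero_DD_of_range_le ((V.ι ⁻¹ᵁ Tc).ι ≫ V.ι) (Tc ⊓ V).ι ?_ R₀ h1
    rw [Scheme.Opens.range_ι]
    rintro x ⟨hxT, hxV⟩
    exact ⟨⟨⟨x, hxV⟩, hxT⟩, rfl⟩
  have hR₀T : IsZero ((DD Tc.ι).obj R₀) := by
    refine isZero_DD_of_cover R₀ Tc
      (fun b : Bool => if b then Tc ⊓ j.opensRange else Tc ⊓ V) ?_ ?_
    · intro x hx
      rcases hcov x with hxj | hxV
      · refine ⟨true, ?_⟩
        have h2 : x ∈ (j.opensRange : Set X) := by
          rw [Scheme.Hom.coe_opensRange]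
          exact hxj
        exact ⟨hx, h2⟩
      · exact ⟨false, ⟨hx, hxV⟩⟩
    · intro b
      cases b
      · exact hz2
      · exact hz1
  -- lifting the map
  obtain ⟨α₀, hα₀⟩ : ∃ α₀ : (DD j).obj R₀ ⟶ (DD j).obj E, α₀ = ε.hom ≫ biprod.fst ≫ α :=
    ⟨_, rfl⟩
  obtain ⟨R₁, β₁, γ, hR₁, hβ₁, hcomm, hmono⟩ :=
    lift_two_opens' X j V hV hcov hOc' R₀ E hR₀ hE α₀
  haveI := hβ₁
  refine ⟨R₁, γ, biprod.inl ≫ ε.inv ≫ inv ((DD j).map β₁),
    (DD j).map β₁ ≫ ε.hom ≫ biprod.fst, hR₁, hmono Tc hR₀T, ?_, ?_,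
    ⟨asIso ((DD j).map β₁) ≪≫ ε⟩⟩
  · simp
  · rw [← hcomm, hα₀]
    simp

theorem step_core (X : Scheme.{u}) (U V : X.Opens)
    (hU : IsCompact (U : Set X)) (hV : IsAffineOpen V) (hcov : U ⊔ V = ⊤)
    (hUVc : IsCompact ((V.ι ⁻¹ᵁ U : (V : Scheme.{u}).Opens) : Set (V : Scheme.{u})))
    (T : Set X) (hT : IsClosed T) (Tc : X.Opens) (hTcdef : (Tc : Set X) = Tᶜ)
    (hTcV : IsCompact ((V.ι ⁻¹ᵁ Tc : (V : Scheme.{u}).Opens) : Set (V : Scheme.{u})))
    (rU : ℤ)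
    (hrU : ∀ (m : ℤ) (E : DCoh.D (U : Scheme.{u})), DCoh.IsQCohD E →
      DCoh.IsPseudoCoherentD (m - rU) E →
      (∀ i : ℤ, m - rU ≤ i →
        CohB1.support (DCoh.HD E i) ⊆ {v : (U : Scheme.{u}) | U.ι.base v ∈ T}) →
      ∃ (P : DCoh.D (U : Scheme.{u})) (α : P ⟶ E), DCoh.IsPerfect P ∧
        (∀ i : ℤ, CohB1.support (DCoh.HD P i) ⊆ {v : (U : Scheme.{u}) | U.ι.base v ∈ T}) ∧
        (∀ i : ℤ, m < i →
          IsIso ((DerivedCategory.homologyFunctor (U : Scheme.{u}).Modules i).map α)) ∧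
        Epi ((DerivedCategory.homologyFunctor (U : Scheme.{u}).Modules m).map α)) :
    ∃ r : ℤ, ∀ (m : ℤ) (E : DCoh.D X), DCoh.IsQCohD E → DCoh.IsPseudoCoherentD (m - r) E →
      (∀ i : ℤ, m - r ≤ i → CohB1.support (DCoh.HD E i) ⊆ T) →
      ∃ (P : DCoh.D X) (α : P ⟶ E), DCoh.IsPerfect P ∧
        (∀ i : ℤ, CohB1.support (DCoh.HD P i) ⊆ T) ∧
        (∀ i : ℤ, m < i → IsIso ((DerivedCategory.homologyFunctor X.Modules i).map α)) ∧
        Epi ((DerivedCategory.homologyFunctor X.Modules m).map α) := by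
  haveI : IsAffine (V : Scheme.{u}) := hV
  haveI : CompactSpace (U : Scheme.{u}) := isCompact_iff_compactSpace.mp hU
  haveI : CompactSpace X := by
    refine ⟨?_⟩
    have h1 : (Set.univ : Set X) = (U : Set X) ∪ (V : Set X) := by
      rw [← Opens.coe_sup, hcov]
      rfl
    rw [h1]
    exact hU.union hV.isCompact
  have hmemTc : ∀ x : X, x ∈ Tc ↔ x ∉ T := by
    intro x
    have : x ∈ (Tc : Set X) ↔ x ∈ Tᶜ := by rw [hTcdef]
    exact this
  have hcov' : ∀ x : X, x ∈ Set.range U.ι ∨ x ∈ V := by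
    intro x
    have hx : x ∈ U ⊔ V := by rw [hcov]; trivial
    rcases hx with hx | hx
    · left
      rw [Scheme.Opens.range_ι]
      exact hx
    · exact Or.inr hx
  obtain ⟨TU, hTUdef⟩ : ∃ TU : Set (U : Scheme.{u}), TU = {v | U.ι.base v ∈ T} := ⟨_, rfl⟩
  have hOc' : IsCompact ((V.ι ⁻¹ᵁ U.ι.opensRange : (V : Scheme.{u}).Opens) :
      Set (V : Scheme.{u})) := by
    rw [Scheme.Opens.opensRange_ι]
    exact hUVc
  -- the closed subset of `V`
  obtain ⟨T', hT'def⟩ : ∃ T' : Set X, T' = T ∩ (U : Set X)ᶜ := ⟨_, rfl⟩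
  have hT'c : IsClosed T' := by
    rw [hT'def]
    exact hT.inter U.isOpen.isClosed_compl
  have hT'V : T' ⊆ (V : Set X) := by
    rw [hT'def]
    rintro x ⟨-, hxU⟩
    rcases hcov' x with h | h
    · rw [Scheme.Opens.range_ι] at h
      exact absurd h hxU
    · exact h
  have hTcT' : ∀ x ∈ Tc, x ∉ T' := by
    intro x hx hxT'
    rw [hT'def] at hxT'
    exact (hmemTc x).1 hx hxT'.1
  have hWc : IsCompact ((V.ι ⁻¹ᵁ (Tc ⊔ U) : (V : Scheme.{u}).Opens) : Set (V : Scheme.{u})) := by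
    have : ((V.ι ⁻¹ᵁ (Tc ⊔ U) : (V : Scheme.{u}).Opens) : Set (V : Scheme.{u})) =
        ((V.ι ⁻¹ᵁ Tc : (V : Scheme.{u}).Opens) : Set (V : Scheme.{u})) ∪
          ((V.ι ⁻¹ᵁ U : (V : Scheme.{u}).Opens) : Set (V : Scheme.{u})) := rfl
    rw [this]
    exact hTcV.union hUVc
  obtain ⟨gs₀, hgs₀, hWgs⟩ :=
    isCompact_and_isOpen_iff_finite_and_eq_biUnion_basicOpen.1
      ⟨hWc, (V.ι ⁻¹ᵁ (Tc ⊔ U)).isOpen⟩
  obtain ⟨gs, hgsdef⟩ : ∃ gs : Finset Γ((V : Scheme.{u}), ⊤), gs = hgs₀.toFinset := ⟨_, rfl⟩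
  have hgs : ∀ v : (V : Scheme.{u}),
      v ∈ (V : Scheme.{u}).zeroLocus (U := ⊤) (↑gs : Set Γ((V : Scheme.{u}), ⊤)) ↔
        V.ι.base v ∈ T' := by
    intro v
    have hmem : v ∈ ((V.ι ⁻¹ᵁ (Tc ⊔ U) : (V : Scheme.{u}).Opens) : Set (V : Scheme.{u})) ↔
        ∃ g ∈ gs₀, v ∈ (V : Scheme.{u}).basicOpen g := by
      rw [hWgs]
      simp only [Set.mem_iUnion, SetLike.mem_coe, exists_prop]
    have hmem' : v ∈ ((V.ι ⁻¹ᵁ (Tc ⊔ U) : (V : Scheme.{u}).Opens) : Set (V : Scheme.{u})) ↔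
        (V.ι.base v ∈ Tc ∨ V.ι.base v ∈ U) := Iff.rfl
    rw [Scheme.mem_zeroLocus_iff, hT'def]
    constructor
    · intro h
      have h1 : ¬ (V.ι.base v ∈ Tc ∨ V.ι.base v ∈ U) := by
        rw [← hmem', hmem]
        rintro ⟨g, hg, hvg⟩
        exact h g (by rw [hgsdef]; simpa using hg) hvg
      push Not at h1
      exact ⟨by_contra fun hn => h1.1 ((hmemTc _).2 hn), h1.2⟩
    · rintro ⟨h1, h2⟩ g hg hvg
      have h3 : V.ι.base v ∈ Tc ∨ V.ι.base v ∈ U := by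
        rw [← hmem', hmem]
        exact ⟨g, by rw [hgsdef] at hg; simpa using hg, hvg⟩
      rcases h3 with h3 | h3
      · exact (hmemTc _).1 h3 h1
      · exact h2 h3
  obtain ⟨s, hs⟩ : ∃ s : ℤ, s = (gs.card : ℤ) := ⟨_, rfl⟩
  have hs0 : 0 ≤ s := by rw [hs]; exact Int.natCast_nonneg _
  refine ⟨|rU| + s, ?_⟩
  intro m E hq hpc hsupp
  obtain ⟨m₀, hm₀⟩ : ∃ m₀ : ℤ, m₀ = min m (m - s + 1) := ⟨_, rfl⟩
  have hm₀m : m₀ ≤ m := by rw [hm₀]; exact min_le_left _ _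
  have hm₀s : m - s ≤ m₀ := by rw [hm₀]; exact le_min (by omega) (by omega)
  have habs := le_abs_self rU
  have habs0 := abs_nonneg rU
  -- the inductive claim
  have claim : ∀ (n : ℕ) (E : DCoh.D X), DCoh.IsQCohD E →
      DCoh.IsPseudoCoherentD (m - (|rU| + s)) E →
      (∀ i : ℤ, m - (|rU| + s) ≤ i → CohB1.support (DCoh.HD E i) ⊆ T) →
      (∀ i : ℤ, m₀ - 1 + (n : ℤ) < i →
        IsZero ((Scheme.Modules.restrictFunctor U.ι).obj (DCoh.HD E i))) →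
      ConeApx Tc E m := by
    intro n
    induction n with
    | zero =>
      intro E hq hpc hsupp hUz
      refine base_case X V hV Tc T' hT'c hT'V gs hgs hTcT' m E hq
        (isPC_mono hpc (by omega)) ?_
      intro i hi x hx
      rw [← hs, ← hm₀] at hi
      rw [hT'def]
      refine ⟨hsupp i (by omega) hx, fun hxU => ?_⟩
      exact not_mem_support_of_isZero_restrict U _ (hUz i (by push_cast; omega)) x hxU hx
    | succ n ih =>
      intro E hq hpc hsupp hUz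
      obtain ⟨t, ht⟩ : ∃ t : ℤ, t = m₀ + (n : ℤ) := ⟨_, rfl⟩
      have hUz' : ∀ i : ℤ, t < i →
          IsZero ((Scheme.Modules.restrictFunctor U.ι).obj (DCoh.HD E i)) := by
        intro i hi
        exact hUz i (by push_cast; omega)
      -- approximation on `U`
      have hqU : DCoh.IsQCohD ((DD U.ι).obj E) := LpullQCL.isQCohD_restrictD U.ι E hq
      have hpcU : DCoh.IsPseudoCoherentD (t - rU) ((DD U.ι).obj E) :=
        isPC_mono (isPC_restrict hpc U.ι) (by omega)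
      have hsuppU : ∀ i : ℤ, t - rU ≤ i →
          CohB1.support (DCoh.HD ((DD U.ι).obj E) i) ⊆ TU := by
        intro i hi v hv
        rw [hTUdef]
        exact hsupp i (by omega) ((mem_support_HD_DD_iff U.ι E i v).1 hv)
      obtain ⟨PU, αU, hPU, hPUs, hisoU, hepiU⟩ :=
        hrU t ((DD U.ι).obj E) hqU hpcU (by rw [← hTUdef]; exact hsuppU)
      have hPUz : IsZero ((DD (U.ι ⁻¹ᵁ Tc).ι).obj PU) := by
        apply MVPushL.isZero_restrictD_of_support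
        intro k v hv hvs
        have h1 : U.ι.base v ∈ T := by
          exact hPUs k hvs
        exact (hmemTc _).1 hv h1
      obtain ⟨R, β, i, p, hR, hRz, hip, hiβ, ⟨ε⟩⟩ :=
        two_opens'' X U.ι V hV hcov' hOc' Tc hTcV E hq PU hPU hPUz αU
      -- vanishing of the cohomology of `PU` and `R|_U` above `t`
      have hEUz : ∀ j : ℤ, t < j → IsZero (DCoh.HD ((DD U.ι).obj E) j) := by
        intro j hj
        obtain ⟨e⟩ := nonempty_HD_restrict_iso U.ι E j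
        exact (hUz' j hj).of_iso e
      have hPUv : ∀ j : ℤ, t < j → IsZero (DCoh.HD PU j) := by
        intro j hj
        haveI := hisoU j hj
        exact (hEUz j hj).of_iso (asIso ((homologyFunctor _ j).map αU))
      have hRUv : ∀ j : ℤ, t < j → IsZero (DCoh.HD ((DD U.ι).obj R) j) := by
        intro j hj
        exact (isZero_HD_biprod_shift PU t hPUv j hj).of_iso ((homologyFunctor _ j).mapIso ε)
      haveI hepiβ : Epi ((homologyFunctor (U : Scheme.{u}).Modules t).map ((DD U.ι).map β)) := by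
        haveI : Epi ((homologyFunctor (U : Scheme.{u}).Modules t).map i ≫
            (homologyFunctor (U : Scheme.{u}).Modules t).map ((DD U.ι).map β)) := by
          rw [← CategoryTheory.Functor.map_comp, hiβ]
          exact hepiU
        exact epi_of_epi ((homologyFunctor (U : Scheme.{u}).Modules t).map i) _
      -- the cone
      obtain ⟨E', q, δ, hTri⟩ := distinguished_cocone_triangle β
      have hq' : DCoh.IsQCohD E' :=
        RpushQCL.isQCohD_obj₃ _ hTri (isQCohD_of_isPerfect R hR) hq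
      have hpc' : DCoh.IsPseudoCoherentD (m - (|rU| + s)) E' :=
        isPC_obj₃ _ _ hTri (isPC_of_isPerfect hR _) hpc
      have hsupp' : ∀ k : ℤ, m - (|rU| + s) ≤ k → CohB1.support (DCoh.HD E' k) ⊆ T := by
        intro k hk x hx
        by_contra hxT
        have hxTc : x ∈ Tc := (hmemTc x).2 hxT
        have h1 : IsZero ((Scheme.Modules.restrictFunctor Tc.ι).obj (DCoh.HD E k)) := by
          apply MVPushL.isZero_restrict_of_support
          intro y hy hys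
          exact (hmemTc y).1 hy (hsupp k hk hys)
        have h2 := isZero_restrict_HD_obj₃ _ hTri Tc hRz k h1
        exact not_mem_support_of_isZero_restrict Tc _ h2 x hxTc hx
      have hUz'' : ∀ k : ℤ, m₀ - 1 + (n : ℤ) < k →
          IsZero ((Scheme.Modules.restrictFunctor U.ι).obj (DCoh.HD E' k)) := by
        intro k hk
        have hkt : t ≤ k := by omega
        obtain ⟨e⟩ := nonempty_HD_restrict_iso U.ι E' k
        refine IsZero.of_iso ?_ e.symm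
        have hTU' := (DD U.ι).map_distinguished _ hTri
        have hex := DerivedCategory.HomologySequence.exact₃ _ hTU' k (k + 1) rfl
        rcases eq_or_lt_of_le hkt with h | h
        · subst h
          have h1 := (HomologySequence.epi_homologyMap_mor₁_iff _ hTU' t).1 hepiβ
          exact hex.isZero_of_both_zeros h1 ((hRUv (t + 1) (by omega)).eq_of_tgt _ _)
        · exact hex.isZero_of_both_zeros ((hEUz k h).eq_of_src _ _)
            ((hRUv (k + 1) (by omega)).eq_of_tgt _ _)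
      exact ConeApx.comp Tc β q δ hTri hR hRz m (ih E' hq' hpc' hsupp' hUz'')
  -- a bound for `E`
  obtain ⟨b₀, hb₀⟩ := exists_bound_of_isPC _ E hpc
  obtain ⟨b, hb⟩ : ∃ b : ℤ, b = max b₀ (m₀ - 1) := ⟨_, rfl⟩
  have hbb : ∀ i : ℤ, b < i → IsZero (DCoh.HD E i) := fun i hi =>
    hb₀ i (lt_of_le_of_lt (by rw [hb]; exact le_max_left _ _) hi)
  have hbm : m₀ - 1 ≤ b := by rw [hb]; exact le_max_right _ _
  obtain ⟨n, hn⟩ : ∃ n : ℕ, (n : ℤ) = b - (m₀ - 1) :=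
    ⟨(b - (m₀ - 1)).toNat, Int.toNat_of_nonneg (by omega)⟩
  have hcone : ConeApx Tc E m := by
    refine claim n E hq hpc hsupp ?_
    intro i hi
    exact (Scheme.Modules.restrictFunctor U.ι).map_isZero (hbb i (by omega))
  obtain ⟨P, α, hP, hPz, hiso, hepi⟩ := hcone.out
  refine ⟨P, α, hP, ?_, hiso, hepi⟩
  intro i
  apply support_subset_of_isZero
  intro x hx
  exact ⟨Tc, (hmemTc x).2 hx, hPz⟩


/-- **S7266** -/
theorem main7266 {X : Scheme.{u}} (U V : X.Opens)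
    (hU : IsCompact (U : Set X)) (hV : IsAffineOpen V)
    (hUV : IsCompact ((U ⊓ V : X.Opens) : Set X)) (hcov : U ⊔ V = ⊤)
    (hAU : ∀ (T : Set (U : Scheme.{u})), IsClosed T → IsRetrocompact Tᶜ → ∃ r : ℤ,
      ∀ (m : ℤ) (E : DCoh.D (U : Scheme.{u})), DCoh.IsQCohD E →
        DCoh.IsPseudoCoherentD (m - r) E →
        (∀ i : ℤ, m - r ≤ i → CohB1.support (DCoh.HD E i) ⊆ T) →
        ∃ (P : DCoh.D (U : Scheme.{u})) (α : P ⟶ E), DCoh.IsPerfect P ∧
          (∀ i : ℤ, CohB1.support (DCoh.HD P i) ⊆ T) ∧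
          (∀ i : ℤ, m < i →
            IsIso ((DerivedCategory.homologyFunctor (U : Scheme.{u}).Modules i).map α)) ∧
          Epi ((DerivedCategory.homologyFunctor (U : Scheme.{u}).Modules m).map α))
    (T : Set X) (hT : IsClosed T) (hTr : IsRetrocompact Tᶜ) :
    ∃ r : ℤ, ∀ (m : ℤ) (E : DCoh.D X), DCoh.IsQCohD E → DCoh.IsPseudoCoherentD (m - r) E →
      (∀ i : ℤ, m - r ≤ i → CohB1.support (DCoh.HD E i) ⊆ T) →
      ∃ (P : DCoh.D X) (α : P ⟶ E), DCoh.IsPerfect P ∧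
        (∀ i : ℤ, CohB1.support (DCoh.HD P i) ⊆ T) ∧
        (∀ i : ℤ, m < i → IsIso ((DerivedCategory.homologyFunctor X.Modules i).map α)) ∧
        Epi ((DerivedCategory.homologyFunctor X.Modules m).map α) := by
  obtain ⟨Tc, hTcdef⟩ : ∃ Tc : X.Opens, (Tc : Set X) = Tᶜ := ⟨⟨Tᶜ, hT.isOpen_compl⟩, rfl⟩
  have hpre : ∀ (W : X.Opens) (K : Set X), K ⊆ (W : Set X) → IsCompact K →
      IsCompact ((fun w : (W : Scheme.{u}) => W.ι w) ⁻¹' K) := by
    intro W K hKW hK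
    refine (W.ι.isOpenEmbedding.isInducing.isCompact_preimage_iff (K := K) ?_).2 hK
    rw [Scheme.Opens.range_ι]
    exact hKW
  have hUVc : IsCompact ((V.ι ⁻¹ᵁ U : (V : Scheme.{u}).Opens) : Set (V : Scheme.{u})) := by
    have h1 := hpre V ((U ⊓ V : X.Opens) : Set X) (fun x hx => hx.2) hUV
    have h2 : ((V.ι ⁻¹ᵁ U : (V : Scheme.{u}).Opens) : Set (V : Scheme.{u})) =
        (fun w : (V : Scheme.{u}) => V.ι w) ⁻¹' ((U ⊓ V : X.Opens) : Set X) := by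
      ext v
      constructor
      · intro hv
        exact ⟨hv, v.2⟩
      · intro hv
        exact hv.1
    rw [h2]
    exact h1
  have hTcV : IsCompact ((V.ι ⁻¹ᵁ Tc : (V : Scheme.{u}).Opens) : Set (V : Scheme.{u})) := by
    have h0 : IsCompact (Tᶜ ∩ (V : Set X)) := hTr hV.isCompact V.isOpen
    have h1 := hpre V (Tᶜ ∩ (V : Set X)) Set.inter_subset_right h0
    have h2 : ((V.ι ⁻¹ᵁ Tc : (V : Scheme.{u}).Opens) : Set (V : Scheme.{u})) =
        (fun w : (V : Scheme.{u}) => V.ι w) ⁻¹' (Tᶜ ∩ (V : Set X)) := by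
      ext v
      constructor
      · intro hv
        have h3 : V.ι v ∈ (Tc : Set X) := hv
        rw [hTcdef] at h3
        exact ⟨h3, v.2⟩
      · intro hv
        show V.ι v ∈ (Tc : Set X)
        rw [hTcdef]
        exact hv.1
    rw [h2]
    exact h1
  have hTUc : IsClosed {v : (U : Scheme.{u}) | U.ι.base v ∈ T} := hT.preimage U.ι.continuous
  have hTUr : IsRetrocompact {v : (U : Scheme.{u}) | U.ι.base v ∈ T}ᶜ := by
    intro W hWc hWo
    have hWimg : IsCompact ((fun w : (U : Scheme.{u}) => U.ι w) '' W) :=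
      hWc.image U.ι.continuous
    have hWimgo : IsOpen ((fun w : (U : Scheme.{u}) => U.ι w) '' W) :=
      U.ι.isOpenEmbedding.isOpenMap W hWo
    have h1 := hTr hWimg hWimgo
    have h2 := hpre U _ (by rintro x ⟨-, w, -, rfl⟩; exact w.2) h1
    have h3 : {v : (U : Scheme.{u}) | U.ι.base v ∈ T}ᶜ ∩ W =
        (fun w : (U : Scheme.{u}) => U.ι w) ⁻¹'
          (Tᶜ ∩ (fun w : (U : Scheme.{u}) => U.ι w) '' W) := by
      ext v
      constructor
      · rintro ⟨hv1, hv2⟩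
        exact ⟨hv1, v, hv2, rfl⟩
      · rintro ⟨hv1, w, hw, hwv⟩
        have hwv' : w = v := U.ι.isOpenEmbedding.injective hwv
        exact ⟨hv1, hwv' ▸ hw⟩
    rw [h3]
    exact h2
  obtain ⟨rU, hrU⟩ := hAU _ hTUc hTUr
  exact step_core X U V hU hV hcov hUVc T hT Tc hTcdef hTcV rU hrU

end

end Groth.Agent.Lib.ApxGlueH3
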