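import Groth.Agent.Lib.ArSing83_helper1

/-!
# Power series lemmas for S14081/S14082: congruences of substitutions, the `N`-twisted subring
(helper1)
-/

set_option autoImplicit false
set_option maxHeartbeats 1000000

namespace Groth.Agent.Lib.ArSingH1

universe u

variable (k : Type u) [Field k]

theorem algHom_C (f : PowerSeries k →ₐ[k] PowerSeries k) (c : k) :
    f (PowerSeries.C c) = PowerSeries.C c := f.commutes c

/-- two endomorphisms of `k[[t]]` congruent at `t` modulo `t^n` are congruent modulo `t^n` -/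
theorem agree_mod (f f' : PowerSeries k →ₐ[k] PowerSeries k) (n : ℕ)
    (hX : PowerSeries.X ∣ f PowerSeries.X)
    (h : PowerSeries.X ^ n ∣ f PowerSeries.X - f' PowerSeries.X) :
    ∀ j, j ≤ n → ∀ g, PowerSeries.X ^ j ∣ f g - f' g := by
  intro j
  induction j with
  | zero =>
    intro _ g
    rw [pow_zero]
    exact one_dvd _
  | succ j ih =>
    intro hj g
    obtain ⟨g', c, rfl⟩ : ∃ g' c, g = PowerSeries.X * g' + PowerSeries.C c :=
      ⟨_, _, PowerSeries.eq_X_mul_shift_add_const g⟩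
    have e : f (PowerSeries.X * g' + PowerSeries.C c) -
        f' (PowerSeries.X * g' + PowerSeries.C c) =
        f PowerSeries.X * (f g' - f' g') + (f PowerSeries.X - f' PowerSeries.X) * f' g' := by
      rw [map_add, map_add, map_mul, map_mul, algHom_C, algHom_C]
      ring
    rw [e]
    apply dvd_add
    · rw [pow_succ']
      exact mul_dvd_mul hX (ih (Nat.le_of_succ_le hj) g')
    · exact Dvd.dvd.mul_right ((pow_dvd_pow _ hj).trans h) _

theorem hom_dvd (f : PowerSeries k →ₐ[k] PowerSeries k) (hX : PowerSeries.X ∣ f PowerSeries.X)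
    (n : ℕ) (g : PowerSeries k) (h : PowerSeries.X ^ n ∣ g) : PowerSeries.X ^ n ∣ f g := by
  obtain ⟨g', rfl⟩ := h
  rw [map_mul, map_pow]
  exact Dvd.dvd.mul_right (pow_dvd_pow_of_dvd hX n) _

theorem inR_add (d : ℕ) (f g : PowerSeries k) (hf : PowerSeries.X ^ d ∣ f - N k f)
    (hg : PowerSeries.X ^ d ∣ g - N k g) : PowerSeries.X ^ d ∣ (f + g) - N k (f + g) := by
  have e : (f + g) - N k (f + g) = (f - N k f) + (g - N k g) := by
    rw [map_add]
    ring
  rw [e]
  exact dvd_add hf hg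

theorem inR_of_dvd (d : ℕ) (hd : Odd d) (f : PowerSeries k) (hf : PowerSeries.X ^ d ∣ f) :
    PowerSeries.X ^ d ∣ f - N k f := by
  obtain ⟨g, rfl⟩ := hf
  have e : PowerSeries.X ^ d * g - N k (PowerSeries.X ^ d * g) =
      PowerSeries.X ^ d * (g + N k g) := by
    rw [map_mul, map_pow, N_X, hd.neg_pow]
    ring
  rw [e]
  exact dvd_mul_right _ _

theorem inR_hom (d : ℕ) (hd : Odd d) (τ : PowerSeries k →ₐ[k] PowerSeries k)
    (hX : PowerSeries.X ∣ τ PowerSeries.X)
    (h : PowerSeries.X ^ d ∣ τ (PowerSeries.X ^ 2) - N k (τ (PowerSeries.X ^ 2)))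
    (p q : PowerSeries k) :
    PowerSeries.X ^ d ∣ τ (E k p + E k q * PowerSeries.X ^ d) -
      N k (τ (E k p + E k q * PowerSeries.X ^ d)) := by
  rw [map_add, map_mul, map_pow]
  apply inR_add
  · have h1 : PowerSeries.X ^ d ∣ (τ.comp (E k)) p - (((N k).comp τ).comp (E k)) p :=
      agree_mod k (τ.comp (E k)) (((N k).comp τ).comp (E k)) d
        (by
          show PowerSeries.X ∣ τ (E k PowerSeries.X)
          rw [E_X, map_pow]
          exact dvd_pow hX two_ne_zero)
        (by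
          show PowerSeries.X ^ d ∣ τ (E k PowerSeries.X) - N k (τ (E k PowerSeries.X))
          rw [E_X]
          exact h) d le_rfl p
    exact h1
  · apply inR_of_dvd k d hd
    exact Dvd.dvd.mul_left (pow_dvd_pow_of_dvd hX d) _

theorem inR_sq_of_inC (n : ℕ) (s : PowerSeries k) (hC : PowerSeries.X ^ n ∣ s + N k s) :
    PowerSeries.X ^ (n + 1) ∣ s ^ 2 - N k (s ^ 2) := by
  have hX : PowerSeries.X ∣ s - N k s := by
    rw [PowerSeries.X_dvd_iff, map_sub, constantCoeff_N, sub_self]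
  have e : s ^ 2 - N k (s ^ 2) = (s - N k s) * (s + N k s) := by
    rw [map_pow]
    ring
  rw [e, pow_succ']
  exact mul_dvd_mul hX hC

theorem inC_of_inR_sq (h2 : (2 : k) ≠ 0) (n : ℕ) (s : PowerSeries k)
    (h1 : PowerSeries.coeff 1 s ≠ 0)
    (hR : PowerSeries.X ^ (n + 1) ∣ s ^ 2 - N k (s ^ 2)) : PowerSeries.X ^ n ∣ s + N k s := by
  have hX : PowerSeries.X ∣ s - N k s := by
    rw [PowerSeries.X_dvd_iff, map_sub, constantCoeff_N, sub_self]
  obtain ⟨w, hw⟩ := hX
  have e1 : PowerSeries.coeff 1 (s - N k s) = 2 * PowerSeries.coeff 1 s := by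
    rw [map_sub, N_apply, PowerSeries.coeff_rescale, pow_one]
    ring
  have e2 : PowerSeries.constantCoeff w = 2 * PowerSeries.coeff 1 s := by
    have e3 := PowerSeries.coeff_succ_X_mul 0 w
    rw [zero_add, ← hw, e1, PowerSeries.coeff_zero_eq_constantCoeff_apply] at e3
    exact e3.symm
  have hwu : IsUnit w := by
    rw [PowerSeries.isUnit_iff_constantCoeff, e2]
    exact isUnit_iff_ne_zero.2 (mul_ne_zero h2 h1)
  have e : s ^ 2 - N k (s ^ 2) = PowerSeries.X * (w * (s + N k s)) := by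
    rw [map_pow]
    linear_combination (s + N k s) * hw
  rw [e, pow_succ', mul_dvd_mul_iff_left PowerSeries.X_ne_zero] at hR
  exact (IsUnit.dvd_mul_left hwu).1 hR

theorem inC_half (n : ℕ) (s : PowerSeries k) (hC : PowerSeries.X ^ n ∣ s + N k s) :
    PowerSeries.X ^ n ∣
      PowerSeries.C (2⁻¹ : k) * (PowerSeries.X + PowerSeries.C (-1 : k) * s) +
      N k (PowerSeries.C (2⁻¹ : k) * (PowerSeries.X + PowerSeries.C (-1 : k) * s)) := by
  have e : PowerSeries.C (2⁻¹ : k) * (PowerSeries.X + PowerSeries.C (-1 : k) * s) +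
      N k (PowerSeries.C (2⁻¹ : k) * (PowerSeries.X + PowerSeries.C (-1 : k) * s)) =
      -PowerSeries.C (2⁻¹ : k) * (s + N k s) := by
    rw [map_mul, map_add, map_mul, N_X, algHom_C, algHom_C, map_neg, map_one]
    ring
  rw [e]
  exact Dvd.dvd.mul_left hC _

theorem inC_symm (n : ℕ) (τ : PowerSeries k ≃ₐ[k] PowerSeries k)
    (h : PowerSeries.X ^ n ∣ τ PowerSeries.X + N k (τ PowerSeries.X)) :
    PowerSeries.X ^ n ∣ τ.symm PowerSeries.X + N k (τ.symm PowerSeries.X) := by
  have hτX : PowerSeries.X ∣ τ PowerSeries.X :=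
    PowerSeries.X_dvd_iff.2 (Groth.Agent.Lib.WildASH1.constantCoeff_aut_X τ)
  have hτ'X : PowerSeries.X ∣ τ.symm PowerSeries.X :=
    PowerSeries.X_dvd_iff.2 (Groth.Agent.Lib.WildASH1.constantCoeff_aut_X τ.symm)
  have key : PowerSeries.X ^ n ∣ τ (-(N k (τ.symm PowerSeries.X))) -
      N k (τ (N k (-(N k (τ.symm PowerSeries.X))))) :=
    agree_mod k τ.toAlgHom (((N k).comp τ.toAlgHom).comp (N k)) n hτX
      (by
        show PowerSeries.X ^ n ∣ τ PowerSeries.X - N k (τ (N k PowerSeries.X))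
        rw [N_X, map_neg, map_neg, sub_neg_eq_add]
        exact h) n le_rfl (-(N k (τ.symm PowerSeries.X)))
  have e1 : N k (τ (N k (-(N k (τ.symm PowerSeries.X))))) = PowerSeries.X := by
    rw [map_neg, N_N, map_neg, AlgEquiv.apply_symm_apply, map_neg, N_X, neg_neg]
  rw [e1] at key
  have key3 := hom_dvd k τ.symm.toAlgHom hτ'X n _ key
  have e2 : τ.symm.toAlgHom (τ (-(N k (τ.symm PowerSeries.X))) - PowerSeries.X) =
      -(τ.symm PowerSeries.X + N k (τ.symm PowerSeries.X)) := by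
    show τ.symm (τ (-(N k (τ.symm PowerSeries.X))) - PowerSeries.X) = _
    rw [map_sub, AlgEquiv.symm_apply_apply]
    ring
  rw [e2, dvd_neg] at key3
  exact key3

/-- linearisation of an involutive endomorphism of `k[[t]]`, keeping the explicit coordinate -/
theorem exists_lin' (h2 : (2 : k) ≠ 0) (ψ : PowerSeries k →ₐ[k] PowerSeries k)
    (hψ : ∀ g, ψ (ψ g) = g) :
    ∃ φ : PowerSeries k ≃ₐ[k] PowerSeries k,
      (PowerSeries.coeff 1 (ψ PowerSeries.X) = 1 ∨ PowerSeries.coeff 1 (ψ PowerSeries.X) = -1) ∧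
      φ PowerSeries.X = PowerSeries.C (2⁻¹ : k) *
        (PowerSeries.X + PowerSeries.C (PowerSeries.coeff 1 (ψ PowerSeries.X)) *
          ψ PowerSeries.X) ∧
      ∀ f, ψ (φ f) = φ (PowerSeries.rescale (PowerSeries.coeff 1 (ψ PowerSeries.X)) f) := by
  obtain ⟨EE, hEE⟩ : ∃ EE : PowerSeries k ≃ₐ[k] PowerSeries k, ∀ g, EE g = ψ g :=
    ⟨AlgEquiv.ofAlgHom ψ ψ (AlgHom.ext hψ) (AlgHom.ext hψ), fun g => rfl⟩
  obtain ⟨hξ, φ, hφX, hφ⟩ := Groth.Agent.Lib.PSAutH1.main14080 h2 EE
    (fun f => by rw [hEE, hEE, hψ])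
  simp only [hEE] at hξ hφX hφ
  refine ⟨φ, ?_, hφX, fun f => ?_⟩
  · have h3 : (PowerSeries.coeff 1 (ψ PowerSeries.X) - 1) *
        (PowerSeries.coeff 1 (ψ PowerSeries.X) + 1) = 0 := by
      linear_combination hξ
    rcases mul_eq_zero.1 h3 with h | h
    · exact Or.inl (sub_eq_zero.1 h)
    · exact Or.inr (eq_neg_of_add_eq_zero_left h)
  · have h3 := hφ f
    rw [AlgEquiv.symm_apply_eq] at h3
    exact h3

end Groth.Agent.Lib.ArSingH1
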