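import Groth.Agent.Lib.ArSing81a_helper1

/-!
# S14081: involutions of `k[[x,y]]/(y^2 - x^(r+1))`, `r` even, via the normalisation
`x ↦ t^2, y ↦ t^(r+1)` (helper1)
-/

set_option autoImplicit false
set_option maxHeartbeats 1000000

namespace Groth.Agent.Lib.ArSingH1

universe u

variable (k : Type u) [Field k] (r : ℕ)

noncomputable def ie : A1 k →+* PowerSeries k :=
  ((E k : PowerSeries k →ₐ[k] PowerSeries k) : PowerSeries k →+* PowerSeries k).comp (ia k)

theorem ie_iota (p : PowerSeries k) : ie k (iota k p) = E k p := by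
  show E k (ia k (iota k p)) = _
  rw [ia_iota]

theorem ie_x0 : ie k (x0 k) = PowerSeries.X ^ 2 := by
  show E k (ia k (x0 k)) = _
  rw [ia_x0, E_X]

theorem nu_eval : (gpol k r).eval₂ (ie k) (PowerSeries.X ^ (r + 1)) = 0 := by
  rw [gpol, Polynomial.eval₂_sub, Polynomial.eval₂_pow, Polynomial.eval₂_X, Polynomial.eval₂_C,
    map_pow, ie_x0]
  ring

/-- the normalisation map `x ↦ t^2, y ↦ t^(r+1)` -/
noncomputable def nuR : ArSing.ring k r →+* PowerSeries k :=
  (AdjoinRoot.lift (ie k) (PowerSeries.X ^ (r + 1)) (nu_eval k r)).comp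
    (Psi k r : ArSing.ring k r →+* _)

theorem nuR_apply (p q : PowerSeries k) :
    nuR k r (ArSing.xMap k r p + ArSing.xMap k r q * ArSing.y k r) =
      E k p + E k q * PowerSeries.X ^ (r + 1) := by
  show AdjoinRoot.lift (ie k) (PowerSeries.X ^ (r + 1)) (nu_eval k r)
    (Psi k r (ArSing.xMap k r p + ArSing.xMap k r q * ArSing.y k r)) = _
  rw [map_add, map_mul, Psi_xMap, Psi_xMap, Psi_y, map_add, map_mul, AdjoinRoot.lift_of,
    AdjoinRoot.lift_of, AdjoinRoot.lift_root, ie_iota, ie_iota]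

theorem algebraMap_eq_r (c : k) : algebraMap k (ArSing.ring k r) c =
    ArSing.xMap k r (algebraMap k (PowerSeries k) c) +
      ArSing.xMap k r 0 * ArSing.y k r := by
  rw [AlgHom.commutes, map_zero, zero_mul, add_zero]

noncomputable def nuA : ArSing.ring k r →ₐ[k] PowerSeries k :=
  { nuR k r with
    commutes' := fun c => by
      show nuR k r (algebraMap k (ArSing.ring k r) c) = algebraMap k (PowerSeries k) c
      rw [algebraMap_eq_r, nuR_apply, map_zero, zero_mul, add_zero, AlgHom.commutes] }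

theorem nuA_apply (a : ArSing.ring k r) : nuA k r a = nuR k r a := rfl

theorem nu_xMap (p : PowerSeries k) : nuR k r (ArSing.xMap k r p) = E k p := by
  simpa using nuR_apply k r p 0

theorem nu_x : nuR k r (ArSing.x k r) = PowerSeries.X ^ 2 := by
  rw [← xMap_X, nu_xMap, E_X]

theorem nu_y : nuR k r (ArSing.y k r) = PowerSeries.X ^ (r + 1) := by
  simpa using nuR_apply k r 0 1

theorem nu_inj (m : ℕ) (a b : ArSing.ring k (m + m))
    (h : nuR k (m + m) a = nuR k (m + m) b) : a = b := by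
  rw [← sub_eq_zero]
  have h0 : nuR k (m + m) (a - b) = 0 := by rw [map_sub, h, sub_self]
  obtain ⟨p, q, hpq⟩ := decomp k (m + m) (a - b)
  rw [hpq] at h0 ⊢
  rw [nuR_apply] at h0
  have e : E k p + E k q * PowerSeries.X ^ (m + m + 1) =
      E k p + PowerSeries.X * E k (PowerSeries.X ^ m * q) := by
    rw [map_mul, map_pow, E_X]
    ring
  rw [e] at h0
  obtain ⟨hp, hq⟩ := eo_uniq k _ _ h0
  have hq0 : q = 0 := (mul_eq_zero.1 hq).resolve_left (pow_ne_zero _ PowerSeries.X_ne_zero)
  rw [hp, hq0, map_zero, zero_mul, add_zero]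

theorem nu_mem (m : ℕ) (a : ArSing.ring k (m + m)) :
    PowerSeries.X ^ (m + m + 1) ∣ nuR k (m + m) a - N k (nuR k (m + m) a) := by
  obtain ⟨p, q, rfl⟩ := decomp k (m + m) a
  rw [nuR_apply]
  apply inR_add
  · rw [N_E, sub_self]
    exact dvd_zero _
  · exact inR_of_dvd k _ ⟨m, by ring⟩ _ (dvd_mul_left _ _)

theorem nu_range (h2 : (2 : k) ≠ 0) (m : ℕ) (f : PowerSeries k)
    (h : PowerSeries.X ^ (m + m + 1) ∣ f - N k f) : ∃ a, nuR k (m + m) a = f := by
  obtain ⟨a, b, rfl⟩ : ∃ a b, f = E k a + PowerSeries.X * E k b := ⟨_, _, eo_decomp k f⟩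
  rw [N_eo] at h
  have e : (E k a + PowerSeries.X * E k b) - (E k a - PowerSeries.X * E k b) =
      E k 0 + PowerSeries.X * E k (b + b) := by
    rw [map_zero, map_add]
    ring
  rw [e] at h
  have hb : PowerSeries.X ^ m ∣ b := by
    rw [PowerSeries.X_pow_dvd_iff]
    intro j hj
    have h1 := (PowerSeries.X_pow_dvd_iff.1 h) (2 * j + 1) (by omega)
    rw [coeff_odd, map_add, ← two_mul] at h1
    exact (mul_eq_zero.1 h1).resolve_left h2
  obtain ⟨b', rfl⟩ := hb
  refine ⟨ArSing.xMap k (m + m) a + ArSing.xMap k (m + m) b' * ArSing.y k (m + m), ?_⟩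
  rw [nuR_apply, map_mul, map_pow, E_X]
  ring

theorem cc_hom_x (f : ArSing.ring k r →ₐ[k] PowerSeries k) :
    PowerSeries.constantCoeff (f (ArSing.x k r)) = 0 := by
  haveI : Nontrivial (ArSing.ring k r) := nontrivial_ring k r
  haveI : IsLocalRing (ArSing.ring k r) := isLocalRing_ring k r
  have hsurj : Function.Surjective
      ((PowerSeries.constantCoeff : PowerSeries k →+* k).comp f.toRingHom) := fun c =>
    ⟨algebraMap k _ c, by
      show PowerSeries.constantCoeff (f (algebraMap k _ c)) = c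
      rw [f.commutes]
      exact PowerSeries.constantCoeff_C c⟩
  have hker := RingHom.ker_isMaximal_of_surjective _ hsurj
  have hx : ArSing.x k r ∈ IsLocalRing.maximalIdeal (ArSing.ring k r) :=
    (IsLocalRing.mem_maximalIdeal _).2 (x_not_isUnit k r)
  rw [← IsLocalRing.eq_maximalIdeal hker] at hx
  exact RingHom.mem_ker.1 hx

theorem exists_root (m : ℕ) (a b : PowerSeries k) (ha0 : a ≠ 0)
    (hab : b ^ 2 = a ^ (m + m + 1)) :
    ∃ s : PowerSeries k, s ^ 2 = a ∧ s ^ (m + m + 1) = b := by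
  obtain ⟨s, hs⟩ : ∃ s : PowerSeries k, s * a ^ m = b := by
    obtain ⟨aK, haK⟩ : ∃ aK, aK =
        algebraMap (PowerSeries k) (FractionRing (PowerSeries k)) a := ⟨_, rfl⟩
    obtain ⟨bK, hbK⟩ : ∃ bK, bK =
        algebraMap (PowerSeries k) (FractionRing (PowerSeries k)) b := ⟨_, rfl⟩
    have haK0 : aK ≠ 0 := by
      rw [haK]
      exact (map_ne_zero_iff _
        (IsFractionRing.injective (PowerSeries k) (FractionRing (PowerSeries k)))).2 ha0
    have hK : bK ^ 2 = aK ^ (m + m + 1) := by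
      rw [haK, hbK, ← map_pow, ← map_pow, hab]
    have hint : IsIntegral (PowerSeries k) (bK / aK ^ m) := by
      refine ⟨Polynomial.X ^ 2 - Polynomial.C a, Polynomial.monic_X_pow_sub_C a two_ne_zero, ?_⟩
      rw [Polynomial.eval₂_sub, Polynomial.eval₂_pow, Polynomial.eval₂_X, Polynomial.eval₂_C,
        ← haK, sub_eq_zero, div_pow, hK, div_eq_iff (pow_ne_zero _ (pow_ne_zero _ haK0))]
      ring
    obtain ⟨s, hs⟩ := IsIntegrallyClosed.isIntegral_iff.1 hint
    refine ⟨s, IsFractionRing.injective (PowerSeries k) (FractionRing (PowerSeries k)) ?_⟩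
    rw [map_mul, map_pow, hs, ← haK, ← hbK, div_mul_cancel₀ _ (pow_ne_zero _ haK0)]
  have hs2 : s ^ 2 = a := by
    have h1 : s ^ 2 * a ^ (m + m) = a * a ^ (m + m) := by
      rw [← hs] at hab
      linear_combination hab
    exact mul_right_cancel₀ (pow_ne_zero _ ha0) h1
  refine ⟨s, hs2, ?_⟩
  calc s ^ (m + m + 1) = s * (s ^ 2) ^ m := by ring
    _ = s * a ^ m := by rw [hs2]
    _ = b := hs

/-- an involution of `A_{2m}` extends to an involution of the normalisation `k[[t]]` -/
theorem exists_ext (h2 : (2 : k) ≠ 0) (m : ℕ)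
    (σ : ArSing.ring k (m + m) ≃ₐ[k] ArSing.ring k (m + m)) (hσ : ∀ a, σ (σ a) = a) :
    ∃ ψ : PowerSeries k →ₐ[k] PowerSeries k,
      (∀ a, nuR k (m + m) (σ a) = ψ (nuR k (m + m) a)) ∧ (∀ g, ψ (ψ g) = g) ∧
      PowerSeries.X ∣ ψ PowerSeries.X := by
  obtain ⟨a, ha⟩ : ∃ a, a = nuR k (m + m) (σ (ArSing.x k (m + m))) := ⟨_, rfl⟩
  obtain ⟨b, hb⟩ : ∃ b, b = nuR k (m + m) (σ (ArSing.y k (m + m))) := ⟨_, rfl⟩
  have hab : b ^ 2 = a ^ (m + m + 1) := by
    have h1 : σ (ArSing.y k (m + m)) ^ 2 = σ (ArSing.x k (m + m)) ^ (m + m + 1) := by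
      rw [← map_pow σ, ← map_pow σ, y_sq]
    have h3 := congrArg (nuR k (m + m)) h1
    rw [map_pow, map_pow] at h3
    rw [ha, hb]
    exact h3
  have hx0 : ArSing.x k (m + m) ≠ 0 := fun h => by
    have h1 := nu_x k (m + m)
    rw [h, map_zero] at h1
    exact pow_ne_zero 2 PowerSeries.X_ne_zero h1.symm
  have ha0 : a ≠ 0 := fun h => by
    apply hx0
    have h1 : σ (ArSing.x k (m + m)) = 0 := nu_inj k m _ _ (by rw [← ha, h, map_zero])
    have h3 := congrArg σ h1
    rwa [hσ, map_zero] at h3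
  have hcca : PowerSeries.constantCoeff a = 0 := by
    rw [ha]
    exact cc_hom_x k (m + m) ((nuA k (m + m)).comp σ.toAlgHom)
  obtain ⟨s, hs2, hsodd⟩ := exists_root k m a b ha0 hab
  have hccs : PowerSeries.constantCoeff s = 0 := by
    have h1 : PowerSeries.constantCoeff s ^ 2 = 0 := by rw [← map_pow, hs2, hcca]
    exact (pow_eq_zero_iff two_ne_zero).1 h1
  have hS : PowerSeries.HasSubst s := PowerSeries.HasSubst.of_constantCoeff_zero' hccs
  obtain ⟨ψ, hψX⟩ : ∃ ψ : PowerSeries k →ₐ[k] PowerSeries k, ψ PowerSeries.X = s :=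
    ⟨PowerSeries.substAlgHom hS, by rw [PowerSeries.coe_substAlgHom, PowerSeries.subst_X hS]⟩
  have hXs : PowerSeries.X ∣ s := PowerSeries.X_dvd_iff.2 hccs
  have hXa : PowerSeries.X ∣ a := PowerSeries.X_dvd_iff.2 hcca
  have h1 : ((nuA k (m + m)).comp σ.toAlgHom).comp (ArSing.xMap k (m + m)) = ψ.comp (E k) :=
    algHom_ext_of_sep k PowerSeries.X (eq_zero_of_forall_X_pow_dvd k) _ _
      (by
        show nuR k (m + m) (σ (ArSing.xMap k (m + m) PowerSeries.X)) = ψ (E k PowerSeries.X)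
        rw [xMap_X, E_X, map_pow, hψX, hs2, ha])
      (by
        show PowerSeries.X ∣ nuR k (m + m) (σ (ArSing.xMap k (m + m) PowerSeries.X))
        rw [xMap_X, ← ha]
        exact hXa)
  have hint : ∀ a', nuR k (m + m) (σ a') = ψ (nuR k (m + m) a') := by
    intro a'
    obtain ⟨p, q, rfl⟩ := decomp k (m + m) a'
    have hp : nuR k (m + m) (σ (ArSing.xMap k (m + m) p)) = ψ (E k p) := DFunLike.congr_fun h1 p
    have hq : nuR k (m + m) (σ (ArSing.xMap k (m + m) q)) = ψ (E k q) := DFunLike.congr_fun h1 q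
    have e1 : σ (ArSing.xMap k (m + m) p + ArSing.xMap k (m + m) q * ArSing.y k (m + m)) =
        σ (ArSing.xMap k (m + m) p) + σ (ArSing.xMap k (m + m) q) * σ (ArSing.y k (m + m)) := by
      rw [map_add, map_mul]
    rw [e1, nuR_apply, map_add (nuR k (m + m)), map_mul (nuR k (m + m)), hp, hq, ← hb,
      map_add ψ, map_mul ψ, map_pow ψ, hψX, hsodd]
  have hfix : ∀ a', ψ (ψ (nuR k (m + m) a')) = nuR k (m + m) a' := fun a' => by
    rw [← hint, ← hint, hσ]
  have hz2 : (ψ (ψ PowerSeries.X)) ^ 2 = PowerSeries.X ^ 2 := by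
    have h3 := hfix (ArSing.x k (m + m))
    rw [nu_x, map_pow, map_pow] at h3
    exact h3
  have hodd : Odd (m + m + 1) := ⟨m, by ring⟩
  have hzodd : (ψ (ψ PowerSeries.X)) ^ (m + m + 1) = PowerSeries.X ^ (m + m + 1) := by
    have h3 := hfix (ArSing.y k (m + m))
    rw [nu_y, map_pow, map_pow] at h3
    exact h3
  have hz : ψ (ψ PowerSeries.X) = PowerSeries.X := by
    have h3 : (ψ (ψ PowerSeries.X) - PowerSeries.X) * (ψ (ψ PowerSeries.X) + PowerSeries.X) = 0 := by
      linear_combination hz2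
    rcases mul_eq_zero.1 h3 with h | h
    · exact sub_eq_zero.1 h
    · exfalso
      have h4 : ψ (ψ PowerSeries.X) = -PowerSeries.X := eq_neg_of_add_eq_zero_left h
      rw [h4, hodd.neg_pow] at hzodd
      have h5 : PowerSeries.X ^ (m + m + 1) + PowerSeries.X ^ (m + m + 1) =
          (0 : PowerSeries k) := by
        linear_combination -hzodd
      exact pow_ne_zero _ PowerSeries.X_ne_zero (two_ps_eq_zero k h2 _ h5)
  have hsq : ψ.comp ψ = AlgHom.id k (PowerSeries k) :=
    algHom_ext_of_sep k PowerSeries.X (eq_zero_of_forall_X_pow_dvd k) _ _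
      (by
        show ψ (ψ PowerSeries.X) = PowerSeries.X
        exact hz)
      (by
        show PowerSeries.X ∣ ψ (ψ PowerSeries.X)
        rw [hz])
  refine ⟨ψ, hint, fun g => DFunLike.congr_fun hsq g, ?_⟩
  rw [hψX]
  exact hXs

theorem exists_restrictHom (m : ℕ) (f : ArSing.ring k (m + m) →ₐ[k] PowerSeries k)
    (h : ∀ a, ∃ a', nuR k (m + m) a' = f a) :
    ∃ Φ : ArSing.ring k (m + m) →ₐ[k] ArSing.ring k (m + m),
      ∀ a, nuR k (m + m) (Φ a) = f a := by
  choose F hF using h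
  refine ⟨{ toFun := F
            map_one' := by
              show F 1 = 1
              apply nu_inj k m
              rw [hF, map_one, map_one]
            map_mul' := by
              intro a b
              show F (a * b) = F a * F b
              apply nu_inj k m
              rw [hF, map_mul, map_mul, hF, hF]
            map_zero' := by
              show F 0 = 0
              apply nu_inj k m
              rw [hF, map_zero, map_zero]
            map_add' := by
              intro a b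
              show F (a + b) = F a + F b
              apply nu_inj k m
              rw [hF, map_add, map_add, hF, hF]
            commutes' := by
              intro c
              show F (algebraMap k (ArSing.ring k (m + m)) c) =
                algebraMap k (ArSing.ring k (m + m)) c
              apply nu_inj k m
              rw [hF, AlgHom.commutes]
              exact ((nuA k (m + m)).commutes c).symm }, hF⟩

theorem main14081 (h2 : (2 : k) ≠ 0) (hev : Even r)
    (σ : ArSing.ring k r ≃ₐ[k] ArSing.ring k r) (hσ : ∀ a, σ (σ a) = a)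
    (hne : σ ≠ AlgEquiv.refl) :
    ∃ φ : ArSing.ring k r ≃ₐ[k] ArSing.ring k r,
      φ.symm (σ (φ (ArSing.x k r))) = ArSing.x k r ∧
      φ.symm (σ (φ (ArSing.y k r))) = -ArSing.y k r := by
  obtain ⟨m, rfl⟩ := hev
  obtain ⟨ψ, hψν, hψsq, hψX⟩ := exists_ext k h2 m σ hσ
  obtain ⟨φ, hξ, hφX, hφ⟩ := exists_lin' k h2 ψ hψsq
  rcases hξ with hξ | hξ
  · exfalso
    apply hne
    rw [hξ] at hφ
    have hid : ∀ f, ψ f = f := fun f => by
      have h3 := hφ (φ.symm f)
      rw [resc_one, AlgEquiv.apply_symm_apply] at h3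
      exact h3
    apply AlgEquiv.ext
    intro a
    show σ a = a
    apply nu_inj k m
    rw [hψν, hid]
  · rw [hξ] at hφ hφX
    have hodd : Odd (m + m + 1) := ⟨m, by ring⟩
    have hsR : PowerSeries.X ^ (m + m + 1) ∣
        (ψ PowerSeries.X) ^ 2 - N k ((ψ PowerSeries.X) ^ 2) := by
      have h3 := nu_mem k m (σ (ArSing.x k (m + m)))
      rw [hψν, nu_x, map_pow] at h3
      exact h3
    have hsC : PowerSeries.X ^ (m + m) ∣ ψ PowerSeries.X + N k (ψ PowerSeries.X) :=
      inC_of_inR_sq k h2 (m + m) (ψ PowerSeries.X)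
        (by rw [hξ]; exact neg_ne_zero.2 one_ne_zero) hsR
    have hφC : PowerSeries.X ^ (m + m) ∣ φ PowerSeries.X + N k (φ PowerSeries.X) := by
      rw [hφX]
      exact inC_half k (m + m) (ψ PowerSeries.X) hsC
    have hφ'C : PowerSeries.X ^ (m + m) ∣ φ.symm PowerSeries.X + N k (φ.symm PowerSeries.X) :=
      inC_symm k (m + m) φ hφC
    have hpres : ∀ τ : PowerSeries k ≃ₐ[k] PowerSeries k,
        PowerSeries.X ^ (m + m) ∣ τ PowerSeries.X + N k (τ PowerSeries.X) →
        ∀ a, ∃ a', nuR k (m + m) a' = (τ.toAlgHom.comp (nuA k (m + m))) a := by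
      intro τ hτ a
      apply nu_range k h2 m
      show PowerSeries.X ^ (m + m + 1) ∣ τ (nuR k (m + m) a) - N k (τ (nuR k (m + m) a))
      obtain ⟨p, q, rfl⟩ := decomp k (m + m) a
      rw [nuR_apply]
      exact inR_hom k (m + m + 1) hodd τ.toAlgHom
        (PowerSeries.X_dvd_iff.2 (Groth.Agent.Lib.WildASH1.constantCoeff_aut_X τ))
        (by
          show PowerSeries.X ^ (m + m + 1) ∣ τ (PowerSeries.X ^ 2) - N k (τ (PowerSeries.X ^ 2))
          rw [map_pow]
          exact inR_sq_of_inC k (m + m) (τ PowerSeries.X) hτ) p q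
    obtain ⟨Φ, hΦ⟩ := exists_restrictHom k m _ (hpres φ hφC)
    obtain ⟨Φ', hΦ'⟩ := exists_restrictHom k m _ (hpres φ.symm hφ'C)
    have hΦν : ∀ a, nuR k (m + m) (Φ a) = φ (nuR k (m + m) a) := hΦ
    have hΦ'ν : ∀ a, nuR k (m + m) (Φ' a) = φ.symm (nuR k (m + m) a) := hΦ'
    have key : ∀ a t : ArSing.ring k (m + m), N k (nuR k (m + m) a) = nuR k (m + m) t →
        σ (Φ a) = Φ t := by
      intro a t e
      apply nu_inj k m
      rw [hψν, hΦν a, hφ, resc_neg_one, e, hΦν t]
    obtain ⟨Ψ, hΨ⟩ : ∃ Ψ : ArSing.ring k (m + m) ≃ₐ[k] ArSing.ring k (m + m),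
        ∀ a, Ψ a = Φ a :=
      ⟨AlgEquiv.ofAlgHom Φ Φ'
        (by
          apply AlgHom.ext
          intro a
          show Φ (Φ' a) = a
          apply nu_inj k m
          rw [hΦν, hΦ'ν, AlgEquiv.apply_symm_apply])
        (by
          apply AlgHom.ext
          intro a
          show Φ' (Φ a) = a
          apply nu_inj k m
          rw [hΦ'ν, hΦν, AlgEquiv.symm_apply_apply]), fun a => rfl⟩
    refine ⟨Ψ, ?_, ?_⟩
    · rw [AlgEquiv.symm_apply_eq, hΨ]
      apply key
      rw [nu_x, map_pow, N_X, neg_sq]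
    · rw [AlgEquiv.symm_apply_eq, hΨ, hΨ]
      apply key
      rw [map_neg, nu_y, map_pow, N_X, hodd.neg_pow]

end Groth.Agent.Lib.ArSingH1
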