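import Groth.Agent.Lib.ArSing81b_helper1

/-!
# S14082: involutions of `k[[x,y]]/(y^2 - x^(2n))`, `n ≥ 2`, via the two branch maps
`x ↦ t, y ↦ ± t^n` (helper1)
-/

set_option autoImplicit false
set_option maxHeartbeats 1000000

namespace Groth.Agent.Lib.ArSingH1

universe u

variable (k : Type u) [Field k] (j : ℕ)

theorem an_eval : (gpol k (2 * j + 1)).eval₂ (ia k) (PowerSeries.X ^ (j + 1)) = 0 := by
  rw [gpol, Polynomial.eval₂_sub, Polynomial.eval₂_pow, Polynomial.eval₂_X, Polynomial.eval₂_C,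
    map_pow, ia_x0]
  ring

theorem bn_eval : (gpol k (2 * j + 1)).eval₂ (ia k) (-(PowerSeries.X ^ (j + 1))) = 0 := by
  rw [gpol, Polynomial.eval₂_sub, Polynomial.eval₂_pow, Polynomial.eval₂_X, Polynomial.eval₂_C,
    map_pow, ia_x0]
  ring

noncomputable def anR : ArSing.ring k (2 * j + 1) →+* PowerSeries k :=
  (AdjoinRoot.lift (ia k) (PowerSeries.X ^ (j + 1)) (an_eval k j)).comp
    (Psi k (2 * j + 1) : ArSing.ring k (2 * j + 1) →+* _)

noncomputable def bnR : ArSing.ring k (2 * j + 1) →+* PowerSeries k :=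
  (AdjoinRoot.lift (ia k) (-(PowerSeries.X ^ (j + 1))) (bn_eval k j)).comp
    (Psi k (2 * j + 1) : ArSing.ring k (2 * j + 1) →+* _)

theorem anR_apply (p q : PowerSeries k) :
    anR k j (ArSing.xMap k (2 * j + 1) p + ArSing.xMap k (2 * j + 1) q * ArSing.y k (2 * j + 1)) = p + q * PowerSeries.X ^ (j + 1) := by
  show AdjoinRoot.lift (ia k) (PowerSeries.X ^ (j + 1)) (an_eval k j)
    (Psi k (2 * j + 1) (ArSing.xMap k (2 * j + 1) p + ArSing.xMap k (2 * j + 1) q * ArSing.y k (2 * j + 1))) = _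
  rw [map_add, map_mul, Psi_xMap, Psi_xMap, Psi_y, map_add, map_mul, AdjoinRoot.lift_of,
    AdjoinRoot.lift_of, AdjoinRoot.lift_root, ia_iota, ia_iota]

theorem bnR_apply (p q : PowerSeries k) :
    bnR k j (ArSing.xMap k (2 * j + 1) p + ArSing.xMap k (2 * j + 1) q * ArSing.y k (2 * j + 1)) = p - q * PowerSeries.X ^ (j + 1) := by
  show AdjoinRoot.lift (ia k) (-(PowerSeries.X ^ (j + 1))) (bn_eval k j)
    (Psi k (2 * j + 1) (ArSing.xMap k (2 * j + 1) p + ArSing.xMap k (2 * j + 1) q * ArSing.y k (2 * j + 1))) = _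
  rw [map_add, map_mul, Psi_xMap, Psi_xMap, Psi_y, map_add, map_mul, AdjoinRoot.lift_of,
    AdjoinRoot.lift_of, AdjoinRoot.lift_root, ia_iota, ia_iota]
  ring

noncomputable def anA : ArSing.ring k (2 * j + 1) →ₐ[k] PowerSeries k :=
  { anR k j with
    commutes' := fun c => by
      show anR k j (algebraMap k (ArSing.ring k (2 * j + 1)) c) = algebraMap k (PowerSeries k) c
      rw [algebraMap_eq_r, anR_apply, zero_mul, add_zero] }

noncomputable def bnA : ArSing.ring k (2 * j + 1) →ₐ[k] PowerSeries k :=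
  { bnR k j with
    commutes' := fun c => by
      show bnR k j (algebraMap k (ArSing.ring k (2 * j + 1)) c) = algebraMap k (PowerSeries k) c
      rw [algebraMap_eq_r, bnR_apply, zero_mul, sub_zero] }

theorem an_xMap (p : PowerSeries k) : anR k j (ArSing.xMap k (2 * j + 1) p) = p := by
  simpa using anR_apply k j p 0

theorem bn_xMap (p : PowerSeries k) : bnR k j (ArSing.xMap k (2 * j + 1) p) = p := by
  simpa using bnR_apply k j p 0

theorem an_x : anR k j (ArSing.x k (2 * j + 1)) = PowerSeries.X := by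
  rw [← xMap_X, an_xMap]

theorem bn_x : bnR k j (ArSing.x k (2 * j + 1)) = PowerSeries.X := by
  rw [← xMap_X, bn_xMap]

theorem an_y : anR k j (ArSing.y k (2 * j + 1)) = PowerSeries.X ^ (j + 1) := by
  simpa using anR_apply k j 0 1

theorem bn_y : bnR k j (ArSing.y k (2 * j + 1)) = -(PowerSeries.X ^ (j + 1)) := by
  simpa using bnR_apply k j 0 1

theorem diff_dvd (c : ArSing.ring k (2 * j + 1)) : PowerSeries.X ^ (j + 1) ∣ anR k j c - bnR k j c := by
  obtain ⟨p, q, rfl⟩ := decomp k (2 * j + 1) c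
  rw [anR_apply, bnR_apply]
  exact ⟨q + q, by ring⟩

theorem pair_inj_n (h2 : (2 : k) ≠ 0) (a b : ArSing.ring k (2 * j + 1)) (hα : anR k j a = anR k j b)
    (hβ : bnR k j a = bnR k j b) : a = b := by
  rw [← sub_eq_zero]
  have hα' : anR k j (a - b) = 0 := by rw [map_sub, hα, sub_self]
  have hβ' : bnR k j (a - b) = 0 := by rw [map_sub, hβ, sub_self]
  obtain ⟨p, q, hpq⟩ := decomp k (2 * j + 1) (a - b)
  rw [hpq] at hα' hβ' ⊢
  rw [anR_apply] at hα'
  rw [bnR_apply] at hβ'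
  have hp : p + p = 0 := by linear_combination hα' + hβ'
  have hp0 := two_ps_eq_zero k h2 p hp
  rw [hp0, zero_add] at hα'
  have hq0 : q = 0 := (mul_eq_zero.1 hα').resolve_right (pow_ne_zero _ PowerSeries.X_ne_zero)
  rw [hp0, hq0, map_zero, zero_mul, add_zero]

theorem exists_pair_n (h2 : (2 : k) ≠ 0) (f h : PowerSeries k) (hd : PowerSeries.X ^ (j + 1) ∣ f - h) :
    ∃ a : ArSing.ring k (2 * j + 1), anR k j a = f ∧ bnR k j a = h := by
  obtain ⟨d, hd⟩ := hd
  refine ⟨ArSing.xMap k (2 * j + 1) (half k * (f + h)) + ArSing.xMap k (2 * j + 1) (half k * d) * ArSing.y k (2 * j + 1), ?_, ?_⟩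
  · rw [anR_apply]
    have e : half k * (f + h) + half k * d * PowerSeries.X ^ (j + 1) = half k * (f + f) := by
      linear_combination (-(half k)) * hd
    rw [e, half_mul k h2]
  · rw [bnR_apply]
    have e : half k * (f + h) - half k * d * PowerSeries.X ^ (j + 1) = half k * (h + h) := by
      linear_combination (half k) * hd
    rw [e, half_mul k h2]

theorem ker_an (a : ArSing.ring k (2 * j + 1)) (h : anR k j a = 0) :
    ∃ c, c * (ArSing.y k (2 * j + 1) - ArSing.x k (2 * j + 1) ^ (j + 1)) = a := by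
  obtain ⟨p, q, rfl⟩ := decomp k (2 * j + 1) a
  rw [anR_apply] at h
  have hp : p = -(q * PowerSeries.X ^ (j + 1)) := eq_neg_of_add_eq_zero_left h
  refine ⟨ArSing.xMap k (2 * j + 1) q, ?_⟩
  rw [hp, map_neg, map_mul, map_pow, xMap_X]
  ring

theorem ker_bn (a : ArSing.ring k (2 * j + 1)) (h : bnR k j a = 0) :
    ∃ c, c * (ArSing.y k (2 * j + 1) + ArSing.x k (2 * j + 1) ^ (j + 1)) = a := by
  obtain ⟨p, q, rfl⟩ := decomp k (2 * j + 1) a
  rw [bnR_apply] at h
  have hp : p = q * PowerSeries.X ^ (j + 1) := sub_eq_zero.1 h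
  refine ⟨ArSing.xMap k (2 * j + 1) q, ?_⟩
  rw [hp, map_mul, map_pow, xMap_X]
  ring

theorem an_v : anR k j (ArSing.y k (2 * j + 1) - ArSing.x k (2 * j + 1) ^ (j + 1)) = 0 := by
  rw [map_sub, map_pow, an_y, an_x, sub_self]

theorem bn_u : bnR k j (ArSing.y k (2 * j + 1) + ArSing.x k (2 * j + 1) ^ (j + 1)) = 0 := by
  rw [map_add, map_pow, bn_y, bn_x, neg_add_cancel]

theorem an_u : anR k j (ArSing.y k (2 * j + 1) + ArSing.x k (2 * j + 1) ^ (j + 1)) = PowerSeries.X ^ (j + 1) + PowerSeries.X ^ (j + 1) := by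
  rw [map_add, map_pow, an_y, an_x]

theorem bn_v : bnR k j (ArSing.y k (2 * j + 1) - ArSing.x k (2 * j + 1) ^ (j + 1)) = -(PowerSeries.X ^ (j + 1) + PowerSeries.X ^ (j + 1)) := by
  rw [map_sub, map_pow, bn_y, bn_x]
  ring

theorem u_mul_v_n : (ArSing.y k (2 * j + 1) + ArSing.x k (2 * j + 1) ^ (j + 1)) * (ArSing.y k (2 * j + 1) - ArSing.x k (2 * j + 1) ^ (j + 1)) = 0 := by
  have h := y_sq k (2 * j + 1)
  linear_combination h

theorem factor_an (ρ : ArSing.ring k (2 * j + 1) →+* PowerSeries k) (σ : ArSing.ring k (2 * j + 1) ≃ₐ[k] ArSing.ring k (2 * j + 1))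
    (hf : ρ (σ (ArSing.y k (2 * j + 1) - ArSing.x k (2 * j + 1) ^ (j + 1))) = 0) (a : ArSing.ring k (2 * j + 1)) :
    ρ (σ a) = ρ (σ (ArSing.xMap k (2 * j + 1) (anR k j a))) := by
  have hm : anR k j (a - ArSing.xMap k (2 * j + 1) (anR k j a)) = 0 := by
    rw [map_sub, an_xMap, sub_self]
  obtain ⟨c, hc⟩ := ker_an k j _ hm
  have h3 : ρ (σ (a - ArSing.xMap k (2 * j + 1) (anR k j a))) = 0 := by
    rw [← hc, map_mul, map_mul, hf, mul_zero]
  rw [map_sub, map_sub, sub_eq_zero] at h3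
  exact h3

theorem factor_bn (ρ : ArSing.ring k (2 * j + 1) →+* PowerSeries k) (σ : ArSing.ring k (2 * j + 1) ≃ₐ[k] ArSing.ring k (2 * j + 1))
    (hf : ρ (σ (ArSing.y k (2 * j + 1) + ArSing.x k (2 * j + 1) ^ (j + 1))) = 0) (a : ArSing.ring k (2 * j + 1)) :
    ρ (σ a) = ρ (σ (ArSing.xMap k (2 * j + 1) (bnR k j a))) := by
  have hm : bnR k j (a - ArSing.xMap k (2 * j + 1) (bnR k j a)) = 0 := by
    rw [map_sub, bn_xMap, sub_self]
  obtain ⟨c, hc⟩ := ker_bn k j _ hm
  have h3 : ρ (σ (a - ArSing.xMap k (2 * j + 1) (bnR k j a))) = 0 := by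
    rw [← hc, map_mul, map_mul, hf, mul_zero]
  rw [map_sub, map_sub, sub_eq_zero] at h3
  exact h3

theorem exists_glue_n (h2 : (2 : k) ≠ 0) (f₁ f₂ : ArSing.ring k (2 * j + 1) →ₐ[k] PowerSeries k)
    (hc : ∀ a, PowerSeries.X ^ (j + 1) ∣ f₁ a - f₂ a) :
    ∃ Φ : ArSing.ring k (2 * j + 1) →ₐ[k] ArSing.ring k (2 * j + 1),
      (∀ a, anR k j (Φ a) = f₁ a) ∧ (∀ a, bnR k j (Φ a) = f₂ a) := by
  choose F hFα hFβ using fun a => exists_pair_n k j h2 (f₁ a) (f₂ a) (hc a)
  refine ⟨{ toFun := F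
            map_one' := by
              show F 1 = 1
              apply pair_inj_n k j h2
              · rw [hFα, map_one, map_one]
              · rw [hFβ, map_one, map_one]
            map_mul' := by
              intro a b
              show F (a * b) = F a * F b
              apply pair_inj_n k j h2
              · rw [hFα, map_mul, map_mul, hFα, hFα]
              · rw [hFβ, map_mul, map_mul, hFβ, hFβ]
            map_zero' := by
              show F 0 = 0
              apply pair_inj_n k j h2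
              · rw [hFα, map_zero, map_zero]
              · rw [hFβ, map_zero, map_zero]
            map_add' := by
              intro a b
              show F (a + b) = F a + F b
              apply pair_inj_n k j h2
              · rw [hFα, map_add, map_add, hFα, hFα]
              · rw [hFβ, map_add, map_add, hFβ, hFβ]
            commutes' := by
              intro c
              show F (algebraMap k (ArSing.ring k (2 * j + 1)) c) = algebraMap k (ArSing.ring k (2 * j + 1)) c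
              apply pair_inj_n k j h2
              · rw [hFα, AlgHom.commutes]
                exact ((anA k j).commutes c).symm
              · rw [hFβ, AlgHom.commutes]
                exact ((bnA k j).commutes c).symm }, hFα, hFβ⟩

theorem cong_apply (n : ℕ) (g₁ g₂ : PowerSeries k ≃ₐ[k] PowerSeries k)
    (h : PowerSeries.X ^ n ∣ g₁ PowerSeries.X - g₂ PowerSeries.X) (f f' : PowerSeries k) (hf : PowerSeries.X ^ n ∣ f - f') :
    PowerSeries.X ^ n ∣ g₁ f - g₂ f' := by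
  have hX₁ : PowerSeries.X ∣ g₁ PowerSeries.X :=
    PowerSeries.X_dvd_iff.2 (Groth.Agent.Lib.WildASH1.constantCoeff_aut_X g₁)
  have hX₂ : PowerSeries.X ∣ g₂ PowerSeries.X :=
    PowerSeries.X_dvd_iff.2 (Groth.Agent.Lib.WildASH1.constantCoeff_aut_X g₂)
  have h1 : PowerSeries.X ^ n ∣ g₁ f - g₂ f := agree_mod k g₁.toAlgHom g₂.toAlgHom n hX₁ h n le_rfl f
  have h3 : PowerSeries.X ^ n ∣ g₂ (f - f') := hom_dvd k g₂.toAlgHom hX₂ n _ hf
  have e : g₁ f - g₂ f' = (g₁ f - g₂ f) + g₂ (f - f') := by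
    rw [map_sub]
    ring
  rw [e]
  exact dvd_add h1 h3

theorem cong_symm (n : ℕ) (g₁ g₂ : PowerSeries k ≃ₐ[k] PowerSeries k)
    (h : PowerSeries.X ^ n ∣ g₁ PowerSeries.X - g₂ PowerSeries.X) : PowerSeries.X ^ n ∣ g₁.symm PowerSeries.X - g₂.symm PowerSeries.X := by
  have hX₁ : PowerSeries.X ∣ g₁ PowerSeries.X :=
    PowerSeries.X_dvd_iff.2 (Groth.Agent.Lib.WildASH1.constantCoeff_aut_X g₁)
  have hX₁' : PowerSeries.X ∣ g₁.symm PowerSeries.X :=
    PowerSeries.X_dvd_iff.2 (Groth.Agent.Lib.WildASH1.constantCoeff_aut_X g₁.symm)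
  have h1 : PowerSeries.X ^ n ∣ g₁ (g₂.symm PowerSeries.X) - g₂ (g₂.symm PowerSeries.X) :=
    agree_mod k g₁.toAlgHom g₂.toAlgHom n hX₁ h n le_rfl (g₂.symm PowerSeries.X)
  rw [AlgEquiv.apply_symm_apply] at h1
  have h3 := hom_dvd k g₁.symm.toAlgHom hX₁' n _ h1
  have e : g₁.symm.toAlgHom (g₁ (g₂.symm PowerSeries.X) - PowerSeries.X) = -(g₁.symm PowerSeries.X - g₂.symm PowerSeries.X) := by
    show g₁.symm (g₁ (g₂.symm PowerSeries.X) - PowerSeries.X) = _
    rw [map_sub, AlgEquiv.symm_apply_apply]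
    ring
  rw [e, dvd_neg] at h3
  exact h3

theorem exists_glueD_n (h2 : (2 : k) ≠ 0) (g₁ g₂ : PowerSeries k ≃ₐ[k] PowerSeries k)
    (h : PowerSeries.X ^ (j + 1) ∣ g₁ PowerSeries.X - g₂ PowerSeries.X) :
    ∃ Φ : ArSing.ring k (2 * j + 1) ≃ₐ[k] ArSing.ring k (2 * j + 1),
      (∀ a, anR k j (Φ a) = g₁ (anR k j a)) ∧ (∀ a, bnR k j (Φ a) = g₂ (bnR k j a)) := by
  obtain ⟨Φ, hΦα, hΦβ⟩ := exists_glue_n k j h2 (g₁.toAlgHom.comp (anA k j))
    (g₂.toAlgHom.comp (bnA k j))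
    (fun a => by
      show PowerSeries.X ^ (j + 1) ∣ g₁ (anR k j a) - g₂ (bnR k j a)
      exact cong_apply k (j + 1) g₁ g₂ h _ _ (diff_dvd k j a))
  obtain ⟨Φ', hΦα', hΦβ'⟩ := exists_glue_n k j h2 (g₁.symm.toAlgHom.comp (anA k j))
    (g₂.symm.toAlgHom.comp (bnA k j))
    (fun a => by
      show PowerSeries.X ^ (j + 1) ∣ g₁.symm (anR k j a) - g₂.symm (bnR k j a)
      exact cong_apply k (j + 1) g₁.symm g₂.symm (cong_symm k (j + 1) g₁ g₂ h) _ _ (diff_dvd k j a))
  have hα : ∀ a, anR k j (Φ a) = g₁ (anR k j a) := hΦα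
  have hβ : ∀ a, bnR k j (Φ a) = g₂ (bnR k j a) := hΦβ
  have hα' : ∀ a, anR k j (Φ' a) = g₁.symm (anR k j a) := hΦα'
  have hβ' : ∀ a, bnR k j (Φ' a) = g₂.symm (bnR k j a) := hΦβ'
  refine ⟨AlgEquiv.ofAlgHom Φ Φ' ?_ ?_, hα, hβ⟩
  · apply AlgHom.ext
    intro a
    show Φ (Φ' a) = a
    apply pair_inj_n k j h2
    · rw [hα, hα', AlgEquiv.apply_symm_apply]
    · rw [hβ, hβ', AlgEquiv.apply_symm_apply]
  · apply AlgHom.ext
    intro a
    show Φ' (Φ a) = a
    apply pair_inj_n k j h2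
    · rw [hα', hα, AlgEquiv.symm_apply_apply]
    · rw [hβ', hβ, AlgEquiv.symm_apply_apply]

open PowerSeries in
theorem exists_aut_of_X (y₀ : PowerSeries k) (h0 : PowerSeries.constantCoeff y₀ = 0)
    (h1 : PowerSeries.coeff 1 y₀ ≠ 0) : ∃ φ : PowerSeries k ≃ₐ[k] PowerSeries k, φ PowerSeries.X = y₀ := by
  have hys : HasSubst y₀ := HasSubst.of_constantCoeff_zero' h0
  have hu : IsUnit (coeff 1 y₀) := isUnit_iff_ne_zero.2 h1
  obtain ⟨Q, hQ⟩ : ∃ Q, Q = y₀.substInvOfIsUnit hu := ⟨_, rfl⟩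
  have hQs : HasSubst Q := by rw [hQ]; exact HasSubst.substInvOfIsUnit y₀ hu
  have hyQ : PowerSeries.subst Q y₀ = X := by
    rw [hQ]; exact subst_substInvOfIsUnit_right y₀ h0 hu
  have hQy : PowerSeries.subst y₀ Q = X := by
    rw [hQ]; exact subst_substInvOfIsUnit_left y₀ h0 hu
  refine ⟨AlgEquiv.ofAlgHom (substAlgHom hys) (substAlgHom hQs) ?_ ?_, ?_⟩
  · ext1 f
    show (substAlgHom hys) ((substAlgHom hQs) f) = f
    rw [coe_substAlgHom, coe_substAlgHom, subst_comp_subst_apply hQs hys, hQy, X_subst]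
  · ext1 f
    show (substAlgHom hQs) ((substAlgHom hys) f) = f
    rw [coe_substAlgHom, coe_substAlgHom, subst_comp_subst_apply hys hQs, hyQ, X_subst]
  · show (substAlgHom hys) X = y₀
    rw [coe_substAlgHom, subst_X hys]

end Groth.Agent.Lib.ArSingH1
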