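import Groth.Agent.Lib.ArSing82a_helper1

/-!
# S14082: involutions of `k[[x,y]]/(y^2 - x^(r+1))`, `r ≥ 3` odd (helper1)
-/

set_option autoImplicit false
set_option maxHeartbeats 1000000

namespace Groth.Agent.Lib.ArSingH1

universe u

variable (k : Type u) [Field k]

theorem main14082 (r : ℕ) (h2 : (2 : k) ≠ 0) (hodd : Odd r) (h3 : 3 ≤ r)
    (σ : ArSing.ring k r ≃ₐ[k] ArSing.ring k r) (hσ : ∀ a, σ (σ a) = a)
    (hne : σ ≠ AlgEquiv.refl) :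
    ∃ φ : ArSing.ring k r ≃ₐ[k] ArSing.ring k r,
      (φ.symm (σ (φ (ArSing.x k r))) = ArSing.x k r ∧
        φ.symm (σ (φ (ArSing.y k r))) = -ArSing.y k r) ∨
      (φ.symm (σ (φ (ArSing.x k r))) = -ArSing.x k r ∧
        φ.symm (σ (φ (ArSing.y k r))) = ArSing.y k r) ∨
      (φ.symm (σ (φ (ArSing.x k r))) = -ArSing.x k r ∧
        φ.symm (σ (φ (ArSing.y k r))) = -ArSing.y k r) := by
  obtain ⟨j, rfl⟩ := hodd
  have hj : 1 < j + 1 := by omega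
  have hX2 : (PowerSeries.X ^ (j + 1) + PowerSeries.X ^ (j + 1) : PowerSeries k) ≠ 0 := fun h =>
    pow_ne_zero _ PowerSeries.X_ne_zero (two_ps_eq_zero k h2 _ h)
  have huv : σ (ArSing.y k (2 * j + 1) + ArSing.x k (2 * j + 1) ^ (j + 1)) * σ (ArSing.y k (2 * j + 1) - ArSing.x k (2 * j + 1) ^ (j + 1)) = 0 := by
    rw [← map_mul σ, u_mul_v_n, map_zero]
  have hαuv : anR k j (σ (ArSing.y k (2 * j + 1) + ArSing.x k (2 * j + 1) ^ (j + 1))) * anR k j (σ (ArSing.y k (2 * j + 1) - ArSing.x k (2 * j + 1) ^ (j + 1))) = 0 := by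
    rw [← map_mul (anR k j), huv, map_zero]
  have hβuv : bnR k j (σ (ArSing.y k (2 * j + 1) + ArSing.x k (2 * j + 1) ^ (j + 1))) * bnR k j (σ (ArSing.y k (2 * j + 1) - ArSing.x k (2 * j + 1) ^ (j + 1))) = 0 := by
    rw [← map_mul (bnR k j), huv, map_zero]
  have hu0 : (ArSing.y k (2 * j + 1) + ArSing.x k (2 * j + 1) ^ (j + 1) : ArSing.ring k (2 * j + 1)) ≠ 0 := fun h => hX2 (by rw [← an_u, h, map_zero])
  have hv0 : (ArSing.y k (2 * j + 1) - ArSing.x k (2 * j + 1) ^ (j + 1) : ArSing.ring k (2 * j + 1)) ≠ 0 := fun h => hX2 (by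
    have h4 := bn_v k j
    rw [h, map_zero] at h4
    exact neg_eq_zero.1 h4.symm)
  have hσ0 : ∀ a, σ a = 0 → a = 0 := fun a h => by
    have h4 := congrArg σ h
    rwa [hσ, map_zero] at h4
  have hnz : ∀ a : ArSing.ring k (2 * j + 1), anR k j a = 0 → bnR k j a = 0 → a = 0 := fun a h1 h4 =>
    pair_inj_n k j h2 a 0 (by rw [h1, map_zero]) (by rw [h4, map_zero])
  by_cases hc : anR k j (σ (ArSing.y k (2 * j + 1) - ArSing.x k (2 * j + 1) ^ (j + 1))) = 0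
  · -- Case I : the two branches are preserved
    have hβv : bnR k j (σ (ArSing.y k (2 * j + 1) - ArSing.x k (2 * j + 1) ^ (j + 1))) ≠ 0 := fun h => hv0 (hσ0 _ (hnz _ hc h))
    have hβu : bnR k j (σ (ArSing.y k (2 * j + 1) + ArSing.x k (2 * j + 1) ^ (j + 1))) = 0 := (mul_eq_zero.1 hβuv).resolve_right hβv
    obtain ⟨ψ₁, hψ₁⟩ : ∃ ψ : PowerSeries k →ₐ[k] PowerSeries k, ∀ g, ψ g = anR k j (σ (ArSing.xMap k (2 * j + 1) g)) :=
      ⟨((anA k j).comp σ.toAlgHom).comp (ArSing.xMap k (2 * j + 1)), fun g => rfl⟩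
    obtain ⟨ψ₂, hψ₂⟩ : ∃ ψ : PowerSeries k →ₐ[k] PowerSeries k, ∀ g, ψ g = bnR k j (σ (ArSing.xMap k (2 * j + 1) g)) :=
      ⟨((bnA k j).comp σ.toAlgHom).comp (ArSing.xMap k (2 * j + 1)), fun g => rfl⟩
    have hψ₁α : ∀ a, anR k j (σ a) = ψ₁ (anR k j a) := fun a => by
      rw [hψ₁]
      exact factor_an k j (anR k j) σ hc a
    have hψ₂β : ∀ a, bnR k j (σ a) = ψ₂ (bnR k j a) := fun a => by
      rw [hψ₂]
      exact factor_bn k j (bnR k j) σ hβu a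
    have hψ₁sq : ∀ g, ψ₁ (ψ₁ g) = g := fun g => by
      rw [hψ₁ g, ← hψ₁α, hσ, an_xMap]
    have hψ₂sq : ∀ g, ψ₂ (ψ₂ g) = g := fun g => by
      rw [hψ₂ g, ← hψ₂β, hσ, bn_xMap]
    have hcong : ∀ g, PowerSeries.X ^ (j + 1) ∣ ψ₁ g - ψ₂ g := fun g => by
      rw [hψ₁, hψ₂]
      exact diff_dvd k j _
    obtain ⟨φ₁, hξ₁, hφ₁X, hφ₁⟩ := exists_lin' k h2 ψ₁ hψ₁sq
    obtain ⟨φ₂, hξ₂, hφ₂X, hφ₂⟩ := exists_lin' k h2 ψ₂ hψ₂sq
    have hcc : PowerSeries.coeff 1 (ψ₁ PowerSeries.X) = PowerSeries.coeff 1 (ψ₂ PowerSeries.X) := by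
      have h5 := (PowerSeries.X_pow_dvd_iff.1 (hcong PowerSeries.X)) 1 hj
      rw [map_sub, sub_eq_zero] at h5
      exact h5
    rw [← hcc] at hφ₂X hφ₂
    rcases hξ₁ with h1 | h1
    · exfalso
      apply hne
      rw [h1] at hφ₁ hφ₂
      have hid₁ : ∀ f, ψ₁ f = f := fun f => by
        have h4 := hφ₁ (φ₁.symm f)
        rw [resc_one, AlgEquiv.apply_symm_apply] at h4
        exact h4
      have hid₂ : ∀ f, ψ₂ f = f := fun f => by
        have h4 := hφ₂ (φ₂.symm f)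
        rw [resc_one, AlgEquiv.apply_symm_apply] at h4
        exact h4
      apply AlgEquiv.ext
      intro a
      show σ a = a
      apply pair_inj_n k j h2
      · rw [hψ₁α, hid₁]
      · rw [hψ₂β, hid₂]
    · rw [h1] at hφ₁ hφ₂ hφ₁X hφ₂X
      have hφcong : PowerSeries.X ^ (j + 1) ∣ φ₁ PowerSeries.X - φ₂ PowerSeries.X := by
        have e : φ₁ PowerSeries.X - φ₂ PowerSeries.X = -PowerSeries.C (2⁻¹ : k) * (ψ₁ PowerSeries.X - ψ₂ PowerSeries.X) := by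
          rw [hφ₁X, hφ₂X, map_neg, map_one]
          ring
        rw [e]
        exact Dvd.dvd.mul_left (hcong PowerSeries.X) _
      obtain ⟨Φ, hΦα, hΦβ⟩ := exists_glueD_n k j h2 φ₁ φ₂ hφcong
      have key : ∀ a t : ArSing.ring k (2 * j + 1), N k (anR k j a) = anR k j t →
          N k (bnR k j a) = bnR k j t → Φ.symm (σ (Φ a)) = t := by
        intro a t e₁ e₂
        rw [AlgEquiv.symm_apply_eq]
        apply pair_inj_n k j h2
        · rw [hψ₁α (Φ a), hΦα a, hφ₁, resc_neg_one, e₁, hΦα t]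
        · rw [hψ₂β (Φ a), hΦβ a, hφ₂, resc_neg_one, e₂, hΦβ t]
      rcases Nat.even_or_odd (j + 1) with hn | hn
      · refine ⟨Φ, Or.inr (Or.inl ⟨key _ _ ?_ ?_, key _ _ ?_ ?_⟩)⟩
        all_goals
          simp only [an_x, an_y, bn_x, bn_y, map_neg, map_pow, N_X, hn.neg_pow, neg_neg]
      · refine ⟨Φ, Or.inr (Or.inr ⟨key _ _ ?_ ?_, key _ _ ?_ ?_⟩)⟩
        all_goals
          simp only [an_x, an_y, bn_x, bn_y, map_neg, map_pow, N_X, hn.neg_pow, neg_neg]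
  · -- Case II : the two branches are exchanged
    have hαu : anR k j (σ (ArSing.y k (2 * j + 1) + ArSing.x k (2 * j + 1) ^ (j + 1))) = 0 := (mul_eq_zero.1 hαuv).resolve_right hc
    have hβu : bnR k j (σ (ArSing.y k (2 * j + 1) + ArSing.x k (2 * j + 1) ^ (j + 1))) ≠ 0 := fun h => hu0 (hσ0 _ (hnz _ hαu h))
    have hβv : bnR k j (σ (ArSing.y k (2 * j + 1) - ArSing.x k (2 * j + 1) ^ (j + 1))) = 0 := (mul_eq_zero.1 hβuv).resolve_left hβu
    obtain ⟨χ₁, hχ₁⟩ : ∃ χ : PowerSeries k →ₐ[k] PowerSeries k, ∀ g, χ g = anR k j (σ (ArSing.xMap k (2 * j + 1) g)) :=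
      ⟨((anA k j).comp σ.toAlgHom).comp (ArSing.xMap k (2 * j + 1)), fun g => rfl⟩
    obtain ⟨χ₂, hχ₂⟩ : ∃ χ : PowerSeries k →ₐ[k] PowerSeries k, ∀ g, χ g = bnR k j (σ (ArSing.xMap k (2 * j + 1) g)) :=
      ⟨((bnA k j).comp σ.toAlgHom).comp (ArSing.xMap k (2 * j + 1)), fun g => rfl⟩
    have hχ₁β : ∀ a, anR k j (σ a) = χ₁ (bnR k j a) := fun a => by
      rw [hχ₁]
      exact factor_bn k j (anR k j) σ hαu a
    have hχ₂α : ∀ a, bnR k j (σ a) = χ₂ (anR k j a) := fun a => by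
      rw [hχ₂]
      exact factor_an k j (bnR k j) σ hβv a
    have h12 : ∀ g, χ₁ (χ₂ g) = g := fun g => by
      rw [hχ₂ g, ← hχ₁β, hσ, an_xMap]
    have h21 : ∀ g, χ₂ (χ₁ g) = g := fun g => by
      rw [hχ₁ g, ← hχ₂α, hσ, bn_xMap]
    have hcong : ∀ g, PowerSeries.X ^ (j + 1) ∣ χ₁ g - χ₂ g := fun g => by
      rw [hχ₁, hχ₂]
      exact diff_dvd k j _
    obtain ⟨EE, hEE⟩ : ∃ EE : PowerSeries k ≃ₐ[k] PowerSeries k, ∀ g, EE g = χ₁ g :=
      ⟨AlgEquiv.ofAlgHom χ₁ χ₂ (AlgHom.ext h12) (AlgHom.ext h21), fun g => rfl⟩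
    have hccX : PowerSeries.constantCoeff (χ₁ PowerSeries.X) = 0 := by
      rw [← hEE]
      exact Groth.Agent.Lib.WildASH1.constantCoeff_aut_X EE
    have hχ₁X : PowerSeries.X ∣ χ₁ PowerSeries.X := PowerSeries.X_dvd_iff.2 hccX
    have hsq : PowerSeries.X ^ (j + 1) ∣ χ₁ (χ₁ PowerSeries.X) - PowerSeries.X := by
      have h5 := hom_dvd k χ₁ hχ₁X (j + 1) _ (hcong PowerSeries.X)
      rw [map_sub, h12] at h5
      exact h5
    obtain ⟨ξ, hξd⟩ : ∃ ξ, ξ = PowerSeries.coeff 1 (χ₁ PowerSeries.X) := ⟨_, rfl⟩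
    have hξ2 : ξ * ξ = 1 := by
      have h6 := Groth.Agent.Lib.PSAutH1.coeff_one_aut EE (EE PowerSeries.X)
        (Groth.Agent.Lib.WildASH1.constantCoeff_aut_X EE)
      simp only [hEE] at h6
      have h7 := (PowerSeries.X_pow_dvd_iff.1 hsq) 1 hj
      rw [map_sub, PowerSeries.coeff_one_X, sub_eq_zero] at h7
      rw [hξd, ← h6, h7]
    have hξ' : ξ = 1 ∨ ξ = -1 := by
      have h8 : (ξ - 1) * (ξ + 1) = 0 := by linear_combination hξ2
      rcases mul_eq_zero.1 h8 with h | h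
      · exact Or.inl (sub_eq_zero.1 h)
      · exact Or.inr (eq_neg_of_add_eq_zero_left h)
    obtain ⟨y₀, hy₀⟩ : ∃ y₀, y₀ =
        PowerSeries.C (2⁻¹ : k) * (PowerSeries.X + PowerSeries.C ξ * χ₁ PowerSeries.X) := ⟨_, rfl⟩
    have hy00 : PowerSeries.constantCoeff y₀ = 0 := by
      rw [hy₀, map_mul, map_add, map_mul, hccX, PowerSeries.constantCoeff_X, mul_zero, add_zero,
        mul_zero]
    have hy01 : PowerSeries.coeff 1 y₀ = 1 := by
      rw [hy₀, PowerSeries.coeff_C_mul, map_add, PowerSeries.coeff_C_mul, PowerSeries.coeff_one_X,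
        ← hξd, hξ2]
      rw [show (1 : k) + 1 = 2 by norm_num]
      exact inv_mul_cancel₀ h2
    obtain ⟨g₂, hg₂X⟩ := exists_aut_of_X k y₀ hy00 (by rw [hy01]; exact one_ne_zero)
    obtain ⟨Θ, hΘ⟩ : ∃ Θ : PowerSeries k ≃ₐ[k] PowerSeries k, ∀ g, Θ g = PowerSeries.rescale ξ g := by
      rcases hξ' with h | h
      · exact ⟨AlgEquiv.refl, fun g => by rw [h, resc_one]; rfl⟩
      · exact ⟨AlgEquiv.ofAlgHom (N k) (N k) (AlgHom.ext (N_N k)) (AlgHom.ext (N_N k)),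
          fun g => by rw [h, resc_neg_one]; rfl⟩
    obtain ⟨g₁, hg₁⟩ : ∃ g₁ : PowerSeries k ≃ₐ[k] PowerSeries k, ∀ f, g₁ f = χ₁ (g₂ (Θ f)) :=
      ⟨(Θ.trans g₂).trans EE, fun f => hEE _⟩
    have hCC : (PowerSeries.C ξ : PowerSeries k) * PowerSeries.C ξ = 1 := by
      rw [← map_mul, hξ2, map_one]
    have hgcong : PowerSeries.X ^ (j + 1) ∣ g₁ PowerSeries.X - g₂ PowerSeries.X := by
      have e : g₁ PowerSeries.X - g₂ PowerSeries.X = PowerSeries.C (2⁻¹ : k) * (χ₁ (χ₁ PowerSeries.X) - PowerSeries.X) := by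
        rw [hg₁, hΘ, PowerSeries.rescale_X, map_mul, Groth.Agent.Lib.WildASH1.aut_C, hg₂X,
          map_mul, algHom_C, hy₀, map_mul, algHom_C, map_add, map_mul, algHom_C]
        linear_combination (PowerSeries.C (2⁻¹ : k) * χ₁ (χ₁ PowerSeries.X)) * hCC
      rw [e]
      exact Dvd.dvd.mul_left hsq _
    obtain ⟨Φ, hΦα, hΦβ⟩ := exists_glueD_n k j h2 g₁ g₂ hgcong
    have key : ∀ a t : ArSing.ring k (2 * j + 1), bnR k j a = Θ (anR k j t) → Θ (anR k j a) = bnR k j t →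
        Φ.symm (σ (Φ a)) = t := by
      intro a t e₁ e₂
      rw [AlgEquiv.symm_apply_eq]
      apply pair_inj_n k j h2
      · rw [hχ₁β (Φ a), hΦβ a, hΦα t, hg₁, e₁]
      · rw [hχ₂α (Φ a), hΦα a, hg₁, h21, e₂, hΦβ t]
    rcases hξ' with hξ1 | hξ1
    · refine ⟨Φ, Or.inl ⟨key _ _ ?_ ?_, key _ _ ?_ ?_⟩⟩
      all_goals
        simp only [hΘ, hξ1, resc_one, an_x, an_y, bn_x, bn_y, map_neg, neg_neg]
    · rcases Nat.even_or_odd (j + 1) with hn | hn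
      · refine ⟨Φ, Or.inr (Or.inr ⟨key _ _ ?_ ?_, key _ _ ?_ ?_⟩)⟩
        all_goals
          simp only [hΘ, hξ1, resc_neg_one, an_x, an_y, bn_x, bn_y, map_neg, map_pow, N_X,
            hn.neg_pow, neg_neg]
      · refine ⟨Φ, Or.inr (Or.inl ⟨key _ _ ?_ ?_, key _ _ ?_ ?_⟩)⟩
        all_goals
          simp only [hΘ, hξ1, resc_neg_one, an_x, an_y, bn_x, bn_y, map_neg, map_pow, N_X,
            hn.neg_pow, neg_neg]

end Groth.Agent.Lib.ArSingH1
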