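import Mathlib

/-!
# Artin–Schreier conductor equals the ramification break (helper1)

Order-`p` automorphisms of `k[[u]]` in characteristic `p`.
-/

set_option autoImplicit false
set_option maxHeartbeats 1000000

open PowerSeries

namespace Groth.Agent.Lib.WildASH1

universe u

section Basic

variable {k : Type u} [Field k]

/-- decomposition `h = X^n * w` with `w(0) ≠ 0`. -/
lemma exists_eq_X_pow_mul {h : PowerSeries k} (hh : h ≠ 0) :
    ∃ (n : ℕ) (w : PowerSeries k), h = X ^ n * w ∧ constantCoeff w ≠ 0 := by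
  have hfin : h.order ≠ ⊤ := by rwa [Ne, order_eq_top]
  obtain ⟨n, hn⟩ := ENat.ne_top_iff_exists.mp hfin
  obtain ⟨hne, hlt⟩ := order_eq_nat.mp hn.symm
  obtain ⟨w, hw⟩ := X_pow_dvd_iff.mpr hlt
  refine ⟨n, w, hw, ?_⟩
  rw [hw] at hne
  have := coeff_X_pow_mul w n 0
  rw [zero_add] at this
  rwa [this, coeff_zero_eq_constantCoeff_apply] at hne

lemma order_X_pow_mul (n : ℕ) (v : PowerSeries k) (hv : constantCoeff v ≠ 0) :
    (X ^ n * v).order = (n : ℕ∞) := by
  have h0 : v.order = ((0 : ℕ) : ℕ∞) :=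
    order_eq_nat.mpr ⟨by rwa [coeff_zero_eq_constantCoeff_apply], by simp⟩
  rw [order_mul, order_X_pow, h0]
  simp

lemma pow_eq_of_X_pow_mul_eq {i j : ℕ} {u w : PowerSeries k} (hu : constantCoeff u ≠ 0)
    (hw : constantCoeff w ≠ 0) (h : X ^ i * u = X ^ j * w) : i = j := by
  have h1 := order_X_pow_mul i u hu
  rw [h, order_X_pow_mul j w hw] at h1
  exact_mod_cast h1.symm

lemma C_eq_smul_one (c : k) : (C c : PowerSeries k) = c • (1 : PowerSeries k) := by
  rw [smul_eq_C_mul, mul_one]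

lemma aut_C (τ : PowerSeries k ≃ₐ[k] PowerSeries k) (c : k) : τ (C c) = C c := by
  rw [C_eq_smul_one, map_smul, map_one]

lemma constantCoeff_aut_X (τ : PowerSeries k ≃ₐ[k] PowerSeries k) :
    constantCoeff (τ X) = 0 := by
  by_contra h
  have hu : IsUnit (τ X) := by
    rw [isUnit_iff_constantCoeff]
    exact isUnit_iff_ne_zero.mpr h
  have h2 : IsUnit (X : PowerSeries k) := by
    have := hu.map τ.symm
    rwa [AlgEquiv.symm_apply_apply] at this
  rw [isUnit_iff_constantCoeff, constantCoeff_X] at h2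
  exact not_isUnit_zero h2

lemma constantCoeff_aut (τ : PowerSeries k ≃ₐ[k] PowerSeries k) (h : PowerSeries k) :
    constantCoeff (τ h) = constantCoeff h := by
  obtain ⟨h', c, rfl⟩ : ∃ h' c, h = X * h' + C c := ⟨_, _, eq_X_mul_shift_add_const h⟩
  rw [map_add, map_mul, aut_C, map_add, map_mul, constantCoeff_aut_X, zero_mul, map_add, map_mul,
    constantCoeff_X, zero_mul]

/-- `τ X = X * ε` with `ε` a unit. -/
lemma aut_X_eq (τ : PowerSeries k ≃ₐ[k] PowerSeries k) :
    ∃ ε : PowerSeries k, τ X = X * ε ∧ constantCoeff ε ≠ 0 := by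
  have h1 : ∀ ρ : PowerSeries k ≃ₐ[k] PowerSeries k, ∃ ε, ρ X = X * ε := by
    intro ρ
    have := eq_X_mul_shift_add_const (ρ X)
    rw [constantCoeff_aut_X, map_zero, add_zero] at this
    exact ⟨_, this⟩
  obtain ⟨ε, hε⟩ := h1 τ
  obtain ⟨ε', hε'⟩ := h1 τ.symm
  refine ⟨ε, hε, ?_⟩
  have hX : (X : PowerSeries k) = X * (ε' * τ.symm ε) := by
    conv_lhs => rw [← τ.symm_apply_apply X, hε, map_mul, hε']
    ring
  have h2 : ε' * τ.symm ε = 1 := by
    have h3 : (X : PowerSeries k) * (ε' * τ.symm ε) = X * 1 := by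
      rw [mul_one]
      exact hX.symm
    exact mul_left_cancel₀ X_ne_zero h3
  intro h0
  have h4 : constantCoeff (ε' * τ.symm ε) = 1 := by rw [h2, map_one]
  rw [map_mul, constantCoeff_aut, h0, mul_zero] at h4
  exact zero_ne_one h4

lemma binom_two {A : Type*} [CommRing A] (y : A) (n : ℕ) :
    ∃ s : A, (1 + y) ^ n = 1 + n * y + y ^ 2 * s := by
  induction n with
  | zero => exact ⟨0, by simp⟩
  | succ n ih =>
    obtain ⟨s, hs⟩ := ih
    refine ⟨n + s + y * s, ?_⟩
    rw [pow_succ, hs]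
    push_cast
    ring

end Basic

section Sigma

variable {k : Type u} [Field k] (σ : PowerSeries k ≃ₐ[k] PowerSeries k) {m : ℕ}

lemma exists_v (hm : (σ X - X).order = ((m + 1 : ℕ) : ℕ∞)) :
    ∃ v : PowerSeries k, σ X - X = X ^ (m + 1) * v ∧ constantCoeff v ≠ 0 := by
  obtain ⟨hne, hlt⟩ := order_eq_nat.mp hm
  obtain ⟨w, hw⟩ := X_pow_dvd_iff.mpr hlt
  refine ⟨w, hw, ?_⟩
  rw [hw] at hne
  have := coeff_X_pow_mul w (m + 1) 0
  rw [zero_add] at this
  rwa [this, coeff_zero_eq_constantCoeff_apply] at hne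

variable {σ}

lemma claimA_aux {v : PowerSeries k} (hv : σ X - X = X ^ (m + 1) * v) :
    ∀ n : ℕ, n ≤ m + 1 → ∀ h : PowerSeries k, X ^ n ∣ σ h - h := by
  intro n
  induction n with
  | zero => intro _ h; simp
  | succ n ih =>
    intro hn h
    obtain ⟨h', c, rfl⟩ : ∃ h' c, h = X * h' + C c := ⟨_, _, eq_X_mul_shift_add_const h⟩
    obtain ⟨t, ht⟩ := ih (by omega) h'
    obtain ⟨d, rfl⟩ : ∃ d, m = n + d := ⟨m - n, by omega⟩
    have e : σ (X * h' + C c) - (X * h' + C c) = (σ X - X) * σ h' + X * (σ h' - h') := by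
      rw [map_add, map_mul, aut_C]
      ring
    rw [e, hv, ht]
    exact ⟨X ^ d * v * σ h' + t, by ring⟩

lemma claimA {v : PowerSeries k} (hv : σ X - X = X ^ (m + 1) * v) (h : PowerSeries k) :
    ∃ t, σ h - h = X ^ (m + 1) * t := claimA_aux hv (m + 1) le_rfl h

lemma claimB {v : PowerSeries k} (hv : σ X - X = X ^ (m + 1) * v) (hm0 : m ≠ 0) (n : ℕ)
    (w : PowerSeries k) :
    ∃ g : PowerSeries k, σ (X ^ n * w) - X ^ n * w = X ^ (n + m) * g ∧
      constantCoeff g = n * constantCoeff v * constantCoeff w := by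
  obtain ⟨t, ht⟩ := claimA hv w
  have hσX : σ X = X * (1 + X ^ m * v) := by
    have := sub_eq_iff_eq_add.mp hv
    rw [this]
    ring
  have hσw : σ w = w + X ^ (m + 1) * t := by
    have := sub_eq_iff_eq_add.mp ht
    rw [this]
    ring
  obtain ⟨s, hs⟩ := binom_two (X ^ m * v) n
  refine ⟨(n : PowerSeries k) * (v * w) + X ^ m * (v ^ 2 * s * w) +
    (1 + (n : PowerSeries k) * (X ^ m * v) + (X ^ m * v) ^ 2 * s) * (X * t), ?_, ?_⟩
  · rw [map_mul, map_pow, hσX, hσw, mul_pow, hs]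
    ring
  · simp only [map_add, map_mul, map_pow, map_natCast, constantCoeff_X, zero_pow hm0, zero_mul,
      mul_zero, add_zero, map_one]
    ring

end Sigma

section Main

variable {k : Type u} [Field k] (p : ℕ) [Fact p.Prime] [CharP k p]

instance : CharP (PowerSeries k) p :=
  charP_of_injective_algebraMap (algebraMap k (PowerSeries k)).injective p

variable (σ : PowerSeries k ≃ₐ[k] PowerSeries k) {m : ℕ}

lemma m_ne_zero (hσp : σ ^ p = 1) {v : PowerSeries k} (hv : σ X - X = X ^ (m + 1) * v)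
    (hv0 : constantCoeff v ≠ 0) : m ≠ 0 := by
  rintro rfl
  have hσX : σ X = X * (1 + v) := by
    have := sub_eq_iff_eq_add.mp hv
    rw [this]
    ring
  set lam : k := 1 + constantCoeff v with hlam
  have hlin : ∀ h : PowerSeries k, constantCoeff h = 0 → coeff 1 (σ h) = lam * coeff 1 h := by
    intro h hh
    obtain ⟨h', c, rfl⟩ : ∃ h' c, h = X * h' + C c := ⟨_, _, eq_X_mul_shift_add_const h⟩
    have hc : c = 0 := by
      rw [map_add, map_mul, constantCoeff_X, zero_mul, zero_add, constantCoeff_C] at hh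
      exact hh
    subst hc
    rw [map_zero, add_zero, map_mul, hσX, mul_assoc]
    have e1 := coeff_succ_X_mul 0 ((1 + v) * σ h')
    have e2 := coeff_succ_X_mul 0 h'
    rw [zero_add] at e1 e2
    rw [e1, e2, coeff_zero_eq_constantCoeff_apply, coeff_zero_eq_constantCoeff_apply, map_mul,
      constantCoeff_aut, map_add, map_one]
  have hpow : ∀ i : ℕ, coeff 1 ((σ ^ i) X) = lam ^ i := by
    intro i
    induction i with
    | zero => simp
    | succ i ih =>
      rw [pow_succ', AlgEquiv.mul_apply, hlin _ (by rw [constantCoeff_aut, constantCoeff_X]), ih,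
        pow_succ']
  have h1 := hpow p
  rw [hσp, AlgEquiv.one_apply, coeff_one_X] at h1
  have h2 : (lam - 1) ^ p = 0 := by
    rw [sub_pow_char, ← h1, one_pow, sub_self]
  have h3 : lam - 1 = 0 := pow_eq_zero_iff (Fact.out : p.Prime).ne_zero |>.mp h2
  apply hv0
  rw [hlam] at h3
  linear_combination h3

lemma prod_aut_X (σ : PowerSeries k ≃ₐ[k] PowerSeries k) (n : ℕ) :
    ∃ x₁ : PowerSeries k, (∏ i ∈ Finset.range n, (σ ^ i) X) = X ^ n * x₁ ∧
      constantCoeff x₁ ≠ 0 := by
  choose ε hε hε0 using fun i : ℕ => aut_X_eq (σ ^ i)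
  refine ⟨∏ i ∈ Finset.range n, ε i, ?_, ?_⟩
  · rw [Finset.prod_congr rfl (fun i _ => hε i), Finset.prod_mul_distrib, Finset.prod_const,
      Finset.card_range]
  · rw [map_prod]
    exact Finset.prod_ne_zero_iff.mpr fun i _ => hε0 i

lemma sigma_prod (hσp : σ ^ p = 1) :
    σ (∏ i ∈ Finset.range p, (σ ^ i) X) = ∏ i ∈ Finset.range p, (σ ^ i) X := by
  rw [map_prod]
  have h1 : ∀ i : ℕ, σ ((σ ^ i) X) = (σ ^ (i + 1)) X := by
    intro i
    rw [pow_succ', AlgEquiv.mul_apply]
  rw [Finset.prod_congr rfl (fun i _ => h1 i)]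
  have e1 := Finset.prod_range_succ' (fun i => (σ ^ i) (X : PowerSeries k)) p
  have e2 := Finset.prod_range_succ (fun i => (σ ^ i) (X : PowerSeries k)) p
  rw [e1] at e2
  simp only [pow_zero, AlgEquiv.one_apply, hσp] at e2
  exact mul_right_cancel₀ X_ne_zero e2

theorem main15813 (hσp : σ ^ p = 1)
    (hm : (σ PowerSeries.X - PowerSeries.X).order = ((m + 1 : ℕ) : ℕ∞))
    (f : PowerSeries k) (hfσ : σ f = f) (hf0 : PowerSeries.constantCoeff f ≠ 0)
    (μ : ℕ) (hμ : 0 < μ) (hpμ : ¬ p ∣ μ)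
    (z : FractionRing (PowerSeries k))
    (hz : z ^ p - z = algebraMap (PowerSeries k) (FractionRing (PowerSeries k)) f /
      algebraMap (PowerSeries k) (FractionRing (PowerSeries k))
        (∏ i ∈ Finset.range p, (σ ^ i) PowerSeries.X) ^ μ) :
    μ = m := by
  have hp := (Fact.out : p.Prime)
  obtain ⟨s, hs⟩ : ∃ s, p = s + 1 := ⟨p - 1, by have := hp.pos; omega⟩
  have hs1 : 1 ≤ s := by have := hp.two_le; omega
  obtain ⟨v, hv, hv0⟩ := exists_v σ hm
  have hm0 := m_ne_zero p σ hσp hv hv0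
  set x := ∏ i ∈ Finset.range p, (σ ^ i) (X : PowerSeries k) with hx
  obtain ⟨x₁, hx₁, hx₁0⟩ := prod_aut_X σ p
  rw [← hx] at hx₁
  have hσx : σ x = x := sigma_prod p σ hσp
  have hxne : x ≠ 0 := by
    rw [hx₁]
    intro h0
    have := order_X_pow_mul p x₁ hx₁0
    rw [h0, order_zero] at this
    exact ENat.top_ne_natCast _ this
  have hfne : f ≠ 0 := by
    rintro rfl
    exact hf0 (map_zero _)
  -- clear denominators
  set φ := algebraMap (PowerSeries k) (FractionRing (PowerSeries k)) with hφ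
  have hφinj : Function.Injective φ := IsFractionRing.injective _ _
  obtain ⟨a, b, hb, hzab⟩ := IsFractionRing.div_surjective (A := PowerSeries k) z
  have hbne : b ≠ 0 := nonZeroDivisors.ne_zero hb
  have hφb : φ b ≠ 0 := (map_ne_zero_iff φ hφinj).mpr hbne
  have hφx : φ x ≠ 0 := (map_ne_zero_iff φ hφinj).mpr hxne
  have E1 : (a ^ p - a * b ^ s) * x ^ μ = f * b ^ p := by
    apply hφinj
    rw [← hzab] at hz
    have h1 : (φ a / φ b) ^ p - φ a / φ b = (φ a ^ p - φ a * φ b ^ s) / φ b ^ p := by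
      rw [div_pow, sub_div]
      congr 1
      rw [div_eq_div_iff hφb (pow_ne_zero p hφb), hs]
      ring
    rw [h1, div_eq_div_iff (pow_ne_zero p hφb) (pow_ne_zero μ hφx)] at hz
    simp only [map_mul, map_sub, map_pow]
    exact hz
  -- apply σ
  have E1' : ((σ a) ^ p - σ a * (σ b) ^ s) * x ^ μ = f * (σ b) ^ p := by
    have := congrArg σ E1
    simp only [map_mul, map_sub, map_pow, hσx, hfσ] at this
    exact this
  have hane : a ≠ 0 := by
    rintro rfl
    rw [zero_pow hp.ne_zero, zero_mul, sub_zero, zero_mul] at E1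
    exact mul_ne_zero hfne (pow_ne_zero p hbne) E1.symm
  obtain ⟨α, a₁, ha, ha₁⟩ := exists_eq_X_pow_mul hane
  obtain ⟨β, b₁, hbd, hb₁⟩ := exists_eq_X_pow_mul hbne
  -- valuation of z is -μ
  have hβ : β = α + μ := by
    rcases le_or_gt β α with hle | hlt
    · exfalso
      obtain ⟨γ, rfl⟩ : ∃ γ, α = β + γ := ⟨α - β, by omega⟩
      have h2 : X ^ (p * β) * ((X ^ (p * γ) * a₁ ^ p - X ^ γ * (a₁ * b₁ ^ s)) *
          (X ^ (p * μ) * x₁ ^ μ)) = X ^ (p * β) * (f * b₁ ^ p) := by
        have := E1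
        rw [ha, hbd, hx₁, hs] at this
        rw [hs]
        linear_combination this
      have h3 := mul_left_cancel₀ (pow_ne_zero _ X_ne_zero) h2
      have h4 := congrArg constantCoeff h3
      have hpμ0 : p * μ ≠ 0 := Nat.mul_ne_zero hp.ne_zero (by omega)
      rw [map_mul, map_mul, map_mul, map_pow, constantCoeff_X, zero_pow hpμ0, zero_mul, mul_zero,
        map_pow] at h4
      exact mul_ne_zero hf0 (pow_ne_zero p hb₁) h4.symm
    · obtain ⟨δ, rfl⟩ : ∃ δ, β = α + δ := ⟨β - α, by omega⟩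
      have hδ : 1 ≤ δ := by omega
      have h2 : X ^ (p * α + p * μ) * ((a₁ ^ p - X ^ (s * δ) * (a₁ * b₁ ^ s)) * x₁ ^ μ) =
          X ^ (p * α + p * δ) * (f * b₁ ^ p) := by
        have := E1
        rw [ha, hbd, hx₁, hs] at this
        rw [hs]
        linear_combination this
      have hsδ : s * δ ≠ 0 := Nat.mul_ne_zero (by omega) (by omega)
      have hU1 : constantCoeff ((a₁ ^ p - X ^ (s * δ) * (a₁ * b₁ ^ s)) * x₁ ^ μ) ≠ 0 := by
        rw [map_mul, map_sub, map_mul, map_pow, map_pow, map_pow, constantCoeff_X, zero_pow hsδ,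
          zero_mul, sub_zero]
        exact mul_ne_zero (pow_ne_zero p ha₁) (pow_ne_zero μ hx₁0)
      have hU2 : constantCoeff (f * b₁ ^ p) ≠ 0 := by
        rw [map_mul, map_pow]
        exact mul_ne_zero hf0 (pow_ne_zero p hb₁)
      have h3 := pow_eq_of_X_pow_mul_eq hU1 hU2 h2
      have h4 : p * μ = p * δ := by omega
      have := Nat.eq_of_mul_eq_mul_left hp.pos h4
      omega
  subst hβ
  -- the difference D
  obtain ⟨ga, hga, hga0⟩ := claimB hv hm0 α a₁
  obtain ⟨gb, hgb, hgb0⟩ := claimB hv hm0 (α + μ) b₁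
  rw [← ha] at hga
  rw [← hbd] at hgb
  have hσa : σ a = a + X ^ (α + m) * ga := by
    rw [← hga]; ring
  have hσb : σ b = b + X ^ (α + μ + m) * gb := by
    rw [← hgb]; ring
  obtain ⟨U, hU⟩ : ∃ U, U = ga * b₁ - a₁ * gb := ⟨_, rfl⟩
  have hD : σ a * b - a * σ b = X ^ (α + (α + μ) + m) * U := by
    rw [hσa, hσb, hU]
    conv_lhs => rw [ha, hbd]
    ring
  have hμk : (μ : k) ≠ 0 := by
    intro h0
    exact hpμ ((CharP.cast_eq_zero_iff k p μ).mp h0)
  have hU0 : constantCoeff U ≠ 0 := by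
    rw [hU, map_sub, map_mul, map_mul, hga0, hgb0]
    have : (α : k) * constantCoeff v * constantCoeff a₁ * constantCoeff b₁ -
        constantCoeff a₁ * (((α + μ : ℕ) : k) * constantCoeff v * constantCoeff b₁) =
        -((μ : k) * constantCoeff v * constantCoeff a₁ * constantCoeff b₁) := by
      push_cast
      ring
    rw [this]
    exact neg_ne_zero.mpr (mul_ne_zero (mul_ne_zero (mul_ne_zero hμk hv0) ha₁) hb₁)
  obtain ⟨b₁', hb₁'⟩ : ∃ b₁', b₁' = b₁ + X ^ m * gb := ⟨_, rfl⟩
  have hσb' : σ b = X ^ (α + μ) * b₁' := by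
    rw [hσb, hb₁']
    conv_lhs => rw [hbd]
    ring
  have hb₁'0 : constantCoeff b₁' ≠ 0 := by
    rw [hb₁', map_add, map_mul, map_pow, constantCoeff_X, zero_pow hm0, zero_mul, add_zero]
    exact hb₁
  -- E2
  have hcancel : (a ^ p - a * b ^ s) * (σ b) ^ p = ((σ a) ^ p - σ a * (σ b) ^ s) * b ^ p := by
    have h1 : x ^ μ * ((a ^ p - a * b ^ s) * (σ b) ^ p) =
        x ^ μ * (((σ a) ^ p - σ a * (σ b) ^ s) * b ^ p) := by
      linear_combination (σ b) ^ p * E1 - b ^ p * E1'
    exact mul_left_cancel₀ (pow_ne_zero μ hxne) h1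
  have E2 : (σ a * b - a * σ b) ^ p = (σ a * b - a * σ b) * (b * σ b) ^ s := by
    rw [sub_pow_char, mul_pow, mul_pow]
    rw [hs] at hcancel ⊢
    linear_combination -hcancel
  rw [hD] at E2
  have E2' : X ^ (p * (α + (α + μ) + m)) * U ^ p =
      X ^ ((α + (α + μ) + m) + 2 * (α + μ) * s) * (U * (b₁ * b₁') ^ s) := by
    have := E2
    rw [hσb'] at this
    conv_rhs at this => rw [hbd]
    linear_combination this
  have h5 := pow_eq_of_X_pow_mul_eq (by rw [map_pow]; exact pow_ne_zero p hU0)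
    (by
      rw [map_mul, map_pow, map_mul]
      exact mul_ne_zero hU0 (pow_ne_zero s (mul_ne_zero hb₁ hb₁'0))) E2'
  rw [hs] at h5
  have h6 : s * (α + (α + μ) + m) = s * (2 * (α + μ)) := by
    have : (s + 1) * (α + (α + μ) + m) = (α + (α + μ) + m) + s * (α + (α + μ) + m) := by ring
    rw [this] at h5
    have h7 : 2 * (α + μ) * s = s * (2 * (α + μ)) := by ring
    omega
  have h8 := Nat.eq_of_mul_eq_mul_left (by omega : 0 < s) h6
  omega

end Main

section Uniformizer

variable {k : Type u} [Field k] (p : ℕ) [Fact p.Prime] [CharP k p]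
variable (σ : PowerSeries k ≃ₐ[k] PowerSeries k) {m : ℕ}

/-- the operator `T = σ - 1`. -/
noncomputable def TT (h : PowerSeries k) : PowerSeries k := σ h - h

lemma ordT {v : PowerSeries k} (hv : σ X - X = X ^ (m + 1) * v) (hv0 : constantCoeff v ≠ 0)
    (hm0 : m ≠ 0) (n : ℕ) (hn : ¬ p ∣ n) (w : PowerSeries k) (hw : constantCoeff w ≠ 0) :
    ∃ g : PowerSeries k, TT σ (X ^ n * w) = X ^ (n + m) * g ∧ constantCoeff g ≠ 0 := by
  obtain ⟨g, hg, hg0⟩ := claimB hv hm0 n w
  refine ⟨g, hg, ?_⟩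
  rw [hg0]
  have hn0 : (n : k) ≠ 0 := by
    intro h0
    exact hn ((CharP.cast_eq_zero_iff k p n).mp h0)
  exact mul_ne_zero (mul_ne_zero hn0 hv0) hw

instance : CharP (Module.End k (PowerSeries k)) p :=
  charP_of_injective_algebraMap (algebraMap k (Module.End k (PowerSeries k))).injective p

lemma TT_iterate_p (hσp : σ ^ p = 1) (h : PowerSeries k) : (TT σ)^[p] h = 0 := by
  set S : Module.End k (PowerSeries k) := σ.toLinearMap with hS
  have hpow : ∀ (n : ℕ) (h : PowerSeries k), (S ^ n) h = (σ ^ n) h := by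
    intro n
    induction n with
    | zero => intro h; simp
    | succ n ih =>
      intro h
      rw [pow_succ', Module.End.mul_apply, ih, pow_succ', AlgEquiv.mul_apply]
      rfl
  have hSp : S ^ p = 1 := by
    ext1 h
    rw [hpow, hσp]
    rfl
  have h1 : (S - 1) ^ p = 0 := by
    rw [sub_pow_char_of_commute (p := p) (Commute.one_right S), hSp, one_pow, sub_self]
  have h2 : ⇑(S - 1) = TT σ := by
    funext h
    rfl
  have h3 := Module.End.pow_apply (S - 1) p h
  rw [h1, h2] at h3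
  exact h3.symm

theorem main19996 (hσp : σ ^ p = 1)
    (hm : (σ PowerSeries.X - PowerSeries.X).order = ((m + 1 : ℕ) : ℕ∞)) :
    p ∣ m + 1 ↔
      ∃ s a : PowerSeries k, s.order = 1 ∧ σ a = a ∧ σ s = s + a := by
  have hp := (Fact.out : p.Prime)
  obtain ⟨v, hv, hv0⟩ := exists_v σ hm
  have hm0 := m_ne_zero p σ hσp hv hv0
  constructor
  · intro hdvd
    obtain ⟨s₀, hs₀⟩ : ∃ s₀, p = s₀ + 2 := ⟨p - 2, by have := hp.two_le; omega⟩
    -- iterates of T on X^(1+2m)
    have hiter : ∀ j : ℕ, j + 2 ≤ p → ∃ w : PowerSeries k,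
        (TT σ)^[j] (X ^ (1 + 2 * m)) = X ^ (1 + 2 * m + j * m) * w ∧ constantCoeff w ≠ 0 := by
      intro j
      induction j with
      | zero =>
        intro _
        exact ⟨1, by simp, by simp⟩
      | succ j ih =>
        intro hj
        obtain ⟨w, hw, hw0⟩ := ih (by omega)
        have hnd : ¬ p ∣ 1 + 2 * m + j * m := by
          intro hd
          have h1 : p ∣ (j + 2) * (m + 1) := Dvd.dvd.mul_left hdvd _
          have h2 : (j + 2) * (m + 1) = (1 + 2 * m + j * m) + (j + 1) := by ring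
          rw [h2] at h1
          have h3 : p ∣ j + 1 := (Nat.dvd_add_right hd).mp h1
          have := Nat.le_of_dvd (by omega) h3
          omega
        obtain ⟨g, hg, hg0⟩ := ordT p σ hv hv0 hm0 _ hnd w hw0
        refine ⟨g, ?_, hg0⟩
        rw [Function.iterate_succ_apply', hw, hg]
        congr 1
        ring
    obtain ⟨w', hw', hw'0⟩ := hiter s₀ (by omega)
    have hexp : 1 + 2 * m + s₀ * m = 1 + p * m := by rw [hs₀]; ring
    rw [hexp] at hw'
    obtain ⟨x₁, hx₁, hx₁0⟩ := prod_aut_X σ p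
    have hσx := sigma_prod p σ hσp
    set x := ∏ i ∈ Finset.range p, (σ ^ i) (X : PowerSeries k) with hx
    have hinv : x₁ * x₁⁻¹ = 1 := PowerSeries.mul_inv_cancel x₁ hx₁0
    have hinv0 : constantCoeff (x₁⁻¹) ≠ 0 := by
      intro h0
      have := congrArg constantCoeff hinv
      rw [map_mul, h0, mul_zero, map_one] at this
      exact zero_ne_one this
    obtain ⟨s', hs'⟩ : ∃ s', s' = (TT σ)^[s₀] (X ^ (1 + 2 * m)) := ⟨_, rfl⟩
    rw [← hs'] at hw'
    obtain ⟨s, hs⟩ : ∃ s, s = X * (w' * x₁⁻¹ ^ m) := ⟨_, rfl⟩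
    have hs's : s' = x ^ m * s := by
      rw [hw', hs, hx₁]
      have : (X ^ p * x₁) ^ m * (X * (w' * x₁⁻¹ ^ m)) =
          X ^ (1 + p * m) * w' * (x₁ * x₁⁻¹) ^ m := by
        rw [mul_pow x₁]
        ring
      rw [this, hinv, one_pow, mul_one]
    have hxne : x ≠ 0 := by
      rw [hx₁]
      intro h0
      have := order_X_pow_mul p x₁ hx₁0
      rw [h0, order_zero] at this
      exact ENat.top_ne_natCast _ this
    have hσxm : σ (x ^ m) = x ^ m := by rw [map_pow, hσx]
    have hT2 : TT σ (TT σ s') = 0 := by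
      have := TT_iterate_p p σ hσp (X ^ (1 + 2 * m))
      rw [hs₀, Function.iterate_succ_apply', Function.iterate_succ_apply', ← hs'] at this
      exact this
    refine ⟨s, σ s - s, ?_, ?_, by ring⟩
    · have := order_X_pow_mul 1 (w' * x₁⁻¹ ^ m) (by
        rw [map_mul, map_pow]
        exact mul_ne_zero hw'0 (pow_ne_zero m hinv0))
      rw [pow_one, ← hs] at this
      rw [this]
      rfl
    · have h1 : x ^ m * (σ (σ s - s) - (σ s - s)) = TT σ (TT σ s') := by
        unfold TT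
        rw [hs's]
        simp only [map_mul, map_sub, hσxm]
        ring
      rw [hT2] at h1
      have h2 := (mul_eq_zero.mp h1).resolve_left (pow_ne_zero m hxne)
      exact sub_eq_zero.mp h2
  · rintro ⟨s, a, hs, hσa, hσs⟩
    have hsne : s ≠ 0 := by
      rintro rfl
      rw [order_zero] at hs
      exact ENat.top_ne_one hs
    obtain ⟨n₁, w, hsw, hw0⟩ := exists_eq_X_pow_mul hsne
    have hn₁ : n₁ = 1 := by
      have := order_X_pow_mul n₁ w hw0
      rw [← hsw, hs] at this
      exact_mod_cast this.symm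
    subst hn₁
    have hnd : ¬ p ∣ 1 := by
      intro h
      have := Nat.le_of_dvd one_pos h
      have := hp.two_le
      omega
    obtain ⟨g, hg, hg0⟩ := ordT p σ hv hv0 hm0 1 hnd w hw0
    have ha : a = X ^ (1 + m) * g := by
      rw [← hg, ← hsw]
      unfold TT
      rw [hσs]
      ring
    obtain ⟨g', hg', hg'0⟩ := claimB hv hm0 (1 + m) g
    rw [← ha, hσa, sub_self] at hg'
    have hg'z : g' = 0 := (mul_eq_zero.mp hg'.symm).resolve_left (pow_ne_zero _ X_ne_zero)
    rw [hg'z, map_zero] at hg'0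
    have h3 : ((1 + m : ℕ) : k) = 0 := by
      rcases mul_eq_zero.mp hg'0.symm with h | h
      · rcases mul_eq_zero.mp h with h | h
        · exact h
        · exact absurd h hv0
      · exact absurd h hg0
    have := (CharP.cast_eq_zero_iff k p (1 + m)).mp h3
    rwa [add_comm] at this

end Uniformizer

end Groth.Agent.Lib.WildASH1
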