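import Mathlib
import Groth.Agent.Lib.WildAS_helper1

/-!
# Automorphisms of `k[[t]]` are substitutions; linearisation of involutions (helper1)
-/

set_option autoImplicit false
set_option maxHeartbeats 1000000

open PowerSeries

namespace Groth.Agent.Lib.PSAutH1

open Groth.Agent.Lib.WildASH1

universe u

variable {k : Type u} [Field k]

lemma subst_C' {s : PowerSeries k} (hs : HasSubst s) (c : k) :
    PowerSeries.subst s (C c : PowerSeries k) = C c := by
  rw [C_eq_smul_one, subst_smul hs, ← coe_substAlgHom hs, map_one]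

/-- every `k`-algebra automorphism of `k[[t]]` is the substitution `t ↦ σ t`. -/
lemma aut_eq_subst (σ : PowerSeries k ≃ₐ[k] PowerSeries k) (f : PowerSeries k) :
    σ f = PowerSeries.subst (σ X) f := by
  have hs0 : constantCoeff (σ X) = 0 := constantCoeff_aut_X σ
  have hs : HasSubst (σ X) := HasSubst.of_constantCoeff_zero' hs0
  obtain ⟨ε, hε⟩ : ∃ ε, σ X = X * ε := by
    have := eq_X_mul_shift_add_const (σ X)
    rw [hs0, map_zero, add_zero] at this
    exact ⟨_, this⟩
  have key : ∀ n : ℕ, ∀ f : PowerSeries k, X ^ n ∣ σ f - PowerSeries.subst (σ X) f := by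
    intro n
    induction n with
    | zero => intro f; simp
    | succ n ih =>
      intro f
      obtain ⟨f', c, rfl⟩ : ∃ f' c, f = X * f' + C c := ⟨_, _, eq_X_mul_shift_add_const f⟩
      obtain ⟨t, ht⟩ := ih f'
      have e : σ (X * f' + C c) - PowerSeries.subst (σ X) (X * f' + C c) =
          σ X * (σ f' - PowerSeries.subst (σ X) f') := by
        rw [map_add, map_mul, aut_C, subst_add hs, subst_mul hs, subst_X hs, subst_C' hs]
        ring
      rw [e, ht, hε]
      exact ⟨ε * t, by ring⟩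
  have h0 : σ f - PowerSeries.subst (σ X) f = 0 := by
    ext n
    have := X_pow_dvd_iff.mp (key (n + 1) f) n (Nat.lt_succ_self n)
    rw [this, map_zero]
  exact sub_eq_zero.mp h0

lemma coeff_one_aut (τ : PowerSeries k ≃ₐ[k] PowerSeries k) (h : PowerSeries k)
    (hh : constantCoeff h = 0) : coeff 1 (τ h) = coeff 1 (τ X) * coeff 1 h := by
  obtain ⟨ε, hε⟩ : ∃ ε, τ X = X * ε := by
    have := eq_X_mul_shift_add_const (τ X)
    rw [constantCoeff_aut_X, map_zero, add_zero] at this
    exact ⟨_, this⟩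
  obtain ⟨h', c, rfl⟩ : ∃ h' c, h = X * h' + C c := ⟨_, _, eq_X_mul_shift_add_const h⟩
  have hc : c = 0 := by
    rw [map_add, map_mul, constantCoeff_X, zero_mul, zero_add, constantCoeff_C] at hh
    exact hh
  subst hc
  rw [map_zero, add_zero, map_mul, hε, mul_assoc]
  have e1 := coeff_succ_X_mul 0 (ε * τ h')
  have e2 := coeff_succ_X_mul 0 h'
  have e3 := coeff_succ_X_mul 0 ε
  rw [zero_add] at e1 e2 e3
  rw [e1, e2, e3, coeff_zero_eq_constantCoeff_apply, coeff_zero_eq_constantCoeff_apply,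
    coeff_zero_eq_constantCoeff_apply, map_mul, constantCoeff_aut]

theorem main14080 (h2 : (2 : k) ≠ 0)
    (σ : PowerSeries k ≃ₐ[k] PowerSeries k) (hσ : ∀ f, σ (σ f) = f) :
    (PowerSeries.coeff 1 (σ PowerSeries.X)) ^ 2 = 1 ∧
    ∃ φ : PowerSeries k ≃ₐ[k] PowerSeries k,
      φ PowerSeries.X = PowerSeries.C (2⁻¹ : k) *
        (PowerSeries.X + PowerSeries.C (PowerSeries.coeff 1 (σ PowerSeries.X)) * σ PowerSeries.X) ∧
      ∀ f, φ.symm (σ (φ f)) = PowerSeries.rescale (PowerSeries.coeff 1 (σ PowerSeries.X)) f := by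
  obtain ⟨ξ, hξ⟩ : ∃ ξ, ξ = coeff 1 (σ (X : PowerSeries k)) := ⟨_, rfl⟩
  rw [← hξ]
  have hs0 : constantCoeff (σ X) = 0 := constantCoeff_aut_X σ
  have hs : HasSubst (σ X) := HasSubst.of_constantCoeff_zero' hs0
  have hξ2 : ξ * ξ = 1 := by
    have := coeff_one_aut σ (σ X) hs0
    rw [hσ, coeff_one_X, ← hξ] at this
    exact this.symm
  refine ⟨by rw [pow_two, hξ2], ?_⟩
  obtain ⟨y, hy⟩ : ∃ y, y = C (2⁻¹ : k) * (X + C ξ * σ X) := ⟨_, rfl⟩
  have hy0 : constantCoeff y = 0 := by
    rw [hy, map_mul, map_add, map_mul, hs0, constantCoeff_X, mul_zero, add_zero, mul_zero]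
  have hy1 : coeff 1 y = 1 := by
    rw [hy, coeff_C_mul, map_add, coeff_C_mul, coeff_one_X, ← hξ, hξ2]
    rw [show (1 : k) + 1 = 2 by norm_num]
    exact inv_mul_cancel₀ h2
  have hys : HasSubst y := HasSubst.of_constantCoeff_zero' hy0
  have hu : IsUnit (coeff 1 y) := by rw [hy1]; exact isUnit_one
  obtain ⟨Q, hQ⟩ : ∃ Q, Q = y.substInvOfIsUnit hu := ⟨_, rfl⟩
  have hQs : HasSubst Q := by rw [hQ]; exact HasSubst.substInvOfIsUnit y hu
  have hyQ : PowerSeries.subst Q y = X := by rw [hQ]; exact subst_substInvOfIsUnit_right y hy0 hu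
  have hQy : PowerSeries.subst y Q = X := by rw [hQ]; exact subst_substInvOfIsUnit_left y hy0 hu
  let φ : PowerSeries k ≃ₐ[k] PowerSeries k :=
    AlgEquiv.ofAlgHom (substAlgHom hys) (substAlgHom hQs)
      (by
        ext1 f
        show (substAlgHom hys) ((substAlgHom hQs) f) = f
        rw [coe_substAlgHom, coe_substAlgHom, subst_comp_subst_apply hQs hys, hQy, X_subst])
      (by
        ext1 f
        show (substAlgHom hQs) ((substAlgHom hys) f) = f
        rw [coe_substAlgHom, coe_substAlgHom, subst_comp_subst_apply hys hQs, hyQ, X_subst])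
  have hφ : ∀ f, φ f = PowerSeries.subst y f := by
    intro f
    show (substAlgHom hys) f = _
    rw [coe_substAlgHom]
  refine ⟨φ, ?_, ?_⟩
  · rw [hφ, subst_X hys, hy]
  · intro f
    rw [AlgEquiv.symm_apply_eq, hφ, hφ, aut_eq_subst σ (PowerSeries.subst y f),
      subst_comp_subst_apply hys hs, ← aut_eq_subst σ y, rescale_eq_subst,
      subst_comp_subst_apply (HasSubst.smul_X' ξ) hys, subst_smul hys, subst_X hys]
    congr 1
    have hCC : (C ξ : PowerSeries k) * C ξ = 1 := by rw [← map_mul, hξ2, map_one]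
    rw [smul_eq_C_mul, hy, map_mul, aut_C, map_add, map_mul, aut_C, hσ]
    linear_combination (-(C (2⁻¹ : k) * σ X)) * hCC

end Groth.Agent.Lib.PSAutH1
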