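import Groth.Agent.Lib.ArSing96_helper1
import Groth.Agent.Lib.PSAut_helper1

/-!
# S14083: involutions of the node `k[[x,y]]/(y^2 - x^2)` up to conjugacy (helper1)

The node `A_1` embeds in `k[[t]] × k[[t]]` via `(α, β)` with image the pairs with equal constant
coefficient; an involution either preserves or swaps the two branches.
-/

set_option autoImplicit false
set_option maxHeartbeats 1000000

namespace Groth.Agent.Lib.ArSingH1

universe u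

variable (k : Type u) [Field k]

theorem resc_one (f : PowerSeries k) : PowerSeries.rescale (1 : k) f = f := by
  rw [PowerSeries.rescale_one]
  rfl

theorem resc_neg_one (f : PowerSeries k) : PowerSeries.rescale (-1 : k) f = N k f :=
  (N_apply k f).symm

theorem alpha_xMap (p : PowerSeries k) : alphaR k (ArSing.xMap k 1 p) = p := by
  simpa using alphaR_apply k p 0

theorem beta_xMap (p : PowerSeries k) : betaR k (ArSing.xMap k 1 p) = N k p := by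
  simpa using betaR_apply k p 0

theorem ker_beta (h2 : (2 : k) ≠ 0) :
    Ideal.span {ArSing.x k 1 + ArSing.y k 1} = RingHom.ker (betaR k) := by
  ext a
  rw [Ideal.mem_span_singleton', RingHom.mem_ker]
  constructor
  · rintro ⟨c, rfl⟩
    rw [map_mul, beta_u, mul_zero]
  · intro ha
    have h1 : PowerSeries.X ∣ alphaR k a := by
      rw [PowerSeries.X_dvd_iff, cc_eq, ha, map_zero]
    obtain ⟨d, hd⟩ := h1
    refine ⟨ArSing.xMap k 1 (half k * d), pair_inj k h2 _ _ ?_ ?_⟩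
    · rw [map_mul, alpha_u, alpha_xMap, hd]
      have := half_mul k h2 PowerSeries.X
      linear_combination d * this
    · rw [map_mul, beta_u, mul_zero, ha]

theorem factor_alpha (h2 : (2 : k) ≠ 0) (ρ : ArSing.ring k 1 →+* PowerSeries k)
    (σ : ArSing.ring k 1 ≃ₐ[k] ArSing.ring k 1)
    (hf : ρ (σ (ArSing.y k 1 - ArSing.x k 1)) = 0) (a : ArSing.ring k 1) :
    ρ (σ a) = ρ (σ (ArSing.xMap k 1 (alphaR k a))) := by
  have hm : a - ArSing.xMap k 1 (alphaR k a) ∈ RingHom.ker (alphaR k) := by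
    rw [RingHom.mem_ker, map_sub, alpha_xMap, sub_self]
  rw [← ker_alpha k h2, Ideal.mem_span_singleton'] at hm
  obtain ⟨c, hc⟩ := hm
  have h3 : ρ (σ (a - ArSing.xMap k 1 (alphaR k a))) = 0 := by
    rw [← hc, map_mul, map_mul, hf, mul_zero]
  rw [map_sub, map_sub, sub_eq_zero] at h3
  exact h3

theorem factor_beta (h2 : (2 : k) ≠ 0) (ρ : ArSing.ring k 1 →+* PowerSeries k)
    (σ : ArSing.ring k 1 ≃ₐ[k] ArSing.ring k 1)
    (hf : ρ (σ (ArSing.x k 1 + ArSing.y k 1)) = 0) (a : ArSing.ring k 1) :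
    ρ (σ a) = ρ (σ (ArSing.xMap k 1 (N k (betaR k a)))) := by
  have hm : a - ArSing.xMap k 1 (N k (betaR k a)) ∈ RingHom.ker (betaR k) := by
    rw [RingHom.mem_ker, map_sub, beta_xMap, N_N, sub_self]
  rw [← ker_beta k h2, Ideal.mem_span_singleton'] at hm
  obtain ⟨c, hc⟩ := hm
  have h3 : ρ (σ (a - ArSing.xMap k 1 (N k (betaR k a)))) = 0 := by
    rw [← hc, map_mul, map_mul, hf, mul_zero]
  rw [map_sub, map_sub, sub_eq_zero] at h3
  exact h3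

/-- glue two maps to `k[[t]]` with matching constant terms into an endomorphism of the node -/
theorem exists_glue (h2 : (2 : k) ≠ 0) (f₁ f₂ : ArSing.ring k 1 →ₐ[k] PowerSeries k)
    (hc : ∀ a, PowerSeries.constantCoeff (f₁ a) = PowerSeries.constantCoeff (f₂ a)) :
    ∃ Φ : ArSing.ring k 1 →ₐ[k] ArSing.ring k 1,
      (∀ a, alphaR k (Φ a) = f₁ a) ∧ (∀ a, betaR k (Φ a) = f₂ a) := by
  choose F hFα hFβ using fun a => exists_pair k h2 (f₁ a) (f₂ a) (hc a)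
  refine ⟨{ toFun := F
            map_one' := by
              show F 1 = 1
              apply pair_inj k h2
              · rw [hFα, map_one, map_one]
              · rw [hFβ, map_one, map_one]
            map_mul' := by
              intro a b
              show F (a * b) = F a * F b
              apply pair_inj k h2
              · rw [hFα, map_mul, map_mul, hFα, hFα]
              · rw [hFβ, map_mul, map_mul, hFβ, hFβ]
            map_zero' := by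
              show F 0 = 0
              apply pair_inj k h2
              · rw [hFα, map_zero, map_zero]
              · rw [hFβ, map_zero, map_zero]
            map_add' := by
              intro a b
              show F (a + b) = F a + F b
              apply pair_inj k h2
              · rw [hFα, map_add, map_add, hFα, hFα]
              · rw [hFβ, map_add, map_add, hFβ, hFβ]
            commutes' := by
              intro c
              show F (algebraMap k (ArSing.ring k 1) c) = algebraMap k (ArSing.ring k 1) c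
              apply pair_inj k h2
              · rw [hFα, AlgHom.commutes]
                exact ((alphaA k).commutes c).symm
              · rw [hFβ, AlgHom.commutes]
                exact ((betaA k).commutes c).symm }, hFα, hFβ⟩

theorem exists_glueD (h2 : (2 : k) ≠ 0) (g₁ g₂ : PowerSeries k ≃ₐ[k] PowerSeries k) :
    ∃ Φ : ArSing.ring k 1 ≃ₐ[k] ArSing.ring k 1,
      (∀ a, alphaR k (Φ a) = g₁ (alphaR k a)) ∧ (∀ a, betaR k (Φ a) = g₂ (betaR k a)) := by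
  obtain ⟨Φ, hΦα, hΦβ⟩ := exists_glue k h2 (g₁.toAlgHom.comp (alphaA k))
    (g₂.toAlgHom.comp (betaA k))
    (fun a => by
      show PowerSeries.constantCoeff (g₁ (alphaR k a)) =
        PowerSeries.constantCoeff (g₂ (betaR k a))
      rw [Groth.Agent.Lib.WildASH1.constantCoeff_aut, Groth.Agent.Lib.WildASH1.constantCoeff_aut,
        cc_eq])
  obtain ⟨Φ', hΦα', hΦβ'⟩ := exists_glue k h2 (g₁.symm.toAlgHom.comp (alphaA k))
    (g₂.symm.toAlgHom.comp (betaA k))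
    (fun a => by
      show PowerSeries.constantCoeff (g₁.symm (alphaR k a)) =
        PowerSeries.constantCoeff (g₂.symm (betaR k a))
      rw [Groth.Agent.Lib.WildASH1.constantCoeff_aut, Groth.Agent.Lib.WildASH1.constantCoeff_aut,
        cc_eq])
  have hα : ∀ a, alphaR k (Φ a) = g₁ (alphaR k a) := hΦα
  have hβ : ∀ a, betaR k (Φ a) = g₂ (betaR k a) := hΦβ
  have hα' : ∀ a, alphaR k (Φ' a) = g₁.symm (alphaR k a) := hΦα'
  have hβ' : ∀ a, betaR k (Φ' a) = g₂.symm (betaR k a) := hΦβ'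
  refine ⟨AlgEquiv.ofAlgHom Φ Φ' ?_ ?_, hα, hβ⟩
  · apply AlgHom.ext
    intro a
    show Φ (Φ' a) = a
    apply pair_inj k h2
    · rw [hα, hα', AlgEquiv.apply_symm_apply]
    · rw [hβ, hβ', AlgEquiv.apply_symm_apply]
  · apply AlgHom.ext
    intro a
    show Φ' (Φ a) = a
    apply pair_inj k h2
    · rw [hα', hα, AlgEquiv.symm_apply_apply]
    · rw [hβ', hβ, AlgEquiv.symm_apply_apply]

theorem exists_glueA (h2 : (2 : k) ≠ 0) (g₁ g₂ : PowerSeries k ≃ₐ[k] PowerSeries k) :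
    ∃ Φ : ArSing.ring k 1 ≃ₐ[k] ArSing.ring k 1,
      (∀ a, alphaR k (Φ a) = g₁ (betaR k a)) ∧ (∀ a, betaR k (Φ a) = g₂ (alphaR k a)) := by
  obtain ⟨Φ, hΦα, hΦβ⟩ := exists_glue k h2 (g₁.toAlgHom.comp (betaA k))
    (g₂.toAlgHom.comp (alphaA k))
    (fun a => by
      show PowerSeries.constantCoeff (g₁ (betaR k a)) =
        PowerSeries.constantCoeff (g₂ (alphaR k a))
      rw [Groth.Agent.Lib.WildASH1.constantCoeff_aut, Groth.Agent.Lib.WildASH1.constantCoeff_aut,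
        cc_eq])
  obtain ⟨Φ', hΦα', hΦβ'⟩ := exists_glue k h2 (g₂.symm.toAlgHom.comp (betaA k))
    (g₁.symm.toAlgHom.comp (alphaA k))
    (fun a => by
      show PowerSeries.constantCoeff (g₂.symm (betaR k a)) =
        PowerSeries.constantCoeff (g₁.symm (alphaR k a))
      rw [Groth.Agent.Lib.WildASH1.constantCoeff_aut, Groth.Agent.Lib.WildASH1.constantCoeff_aut,
        cc_eq])
  have hα : ∀ a, alphaR k (Φ a) = g₁ (betaR k a) := hΦα
  have hβ : ∀ a, betaR k (Φ a) = g₂ (alphaR k a) := hΦβ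
  have hα' : ∀ a, alphaR k (Φ' a) = g₂.symm (betaR k a) := hΦα'
  have hβ' : ∀ a, betaR k (Φ' a) = g₁.symm (alphaR k a) := hΦβ'
  refine ⟨AlgEquiv.ofAlgHom Φ Φ' ?_ ?_, hα, hβ⟩
  · apply AlgHom.ext
    intro a
    show Φ (Φ' a) = a
    apply pair_inj k h2
    · rw [hα, hβ', AlgEquiv.apply_symm_apply]
    · rw [hβ, hα', AlgEquiv.apply_symm_apply]
  · apply AlgHom.ext
    intro a
    show Φ' (Φ a) = a
    apply pair_inj k h2
    · rw [hα', hβ, AlgEquiv.symm_apply_apply]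
    · rw [hβ', hα, AlgEquiv.symm_apply_apply]

theorem conjD (h2 : (2 : k) ≠ 0) (σ Φ : ArSing.ring k 1 ≃ₐ[k] ArSing.ring k 1)
    (ψ₁ ψ₂ : PowerSeries k →ₐ[k] PowerSeries k) (φ₁ φ₂ : PowerSeries k ≃ₐ[k] PowerSeries k)
    (ξ₁ ξ₂ : k)
    (hψ₁α : ∀ a, alphaR k (σ a) = ψ₁ (alphaR k a)) (hψ₂β : ∀ a, betaR k (σ a) = ψ₂ (betaR k a))
    (h₁ : ∀ f, ψ₁ (φ₁ f) = φ₁ (PowerSeries.rescale ξ₁ f))
    (h₂ : ∀ f, ψ₂ (φ₂ f) = φ₂ (PowerSeries.rescale ξ₂ f))
    (hΦα : ∀ a, alphaR k (Φ a) = φ₁ (alphaR k a)) (hΦβ : ∀ a, betaR k (Φ a) = φ₂ (betaR k a))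
    (a t : ArSing.ring k 1)
    (e₁ : PowerSeries.rescale ξ₁ (alphaR k a) = alphaR k t)
    (e₂ : PowerSeries.rescale ξ₂ (betaR k a) = betaR k t) :
    Φ.symm (σ (Φ a)) = t := by
  rw [AlgEquiv.symm_apply_eq]
  apply pair_inj k h2
  · rw [hψ₁α (Φ a), hΦα a, h₁, e₁, hΦα t]
  · rw [hψ₂β (Φ a), hΦβ a, h₂, e₂, hΦβ t]

theorem conjA (h2 : (2 : k) ≠ 0) (σ Φ : ArSing.ring k 1 ≃ₐ[k] ArSing.ring k 1)
    (ψ₁ ψ₂ : PowerSeries k →ₐ[k] PowerSeries k) (φ₁ φ₂ : PowerSeries k ≃ₐ[k] PowerSeries k)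
    (ξ₁ ξ₂ : k)
    (hψ₁α : ∀ a, alphaR k (σ a) = ψ₁ (alphaR k a)) (hψ₂β : ∀ a, betaR k (σ a) = ψ₂ (betaR k a))
    (h₁ : ∀ f, ψ₁ (φ₁ f) = φ₁ (PowerSeries.rescale ξ₁ f))
    (h₂ : ∀ f, ψ₂ (φ₂ f) = φ₂ (PowerSeries.rescale ξ₂ f))
    (hΦα : ∀ a, alphaR k (Φ a) = φ₁ (betaR k a)) (hΦβ : ∀ a, betaR k (Φ a) = φ₂ (alphaR k a))
    (a t : ArSing.ring k 1)
    (e₁ : PowerSeries.rescale ξ₁ (betaR k a) = betaR k t)
    (e₂ : PowerSeries.rescale ξ₂ (alphaR k a) = alphaR k t) :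
    Φ.symm (σ (Φ a)) = t := by
  rw [AlgEquiv.symm_apply_eq]
  apply pair_inj k h2
  · rw [hψ₁α (Φ a), hΦα a, h₁, e₁, hΦα t]
  · rw [hψ₂β (Φ a), hΦβ a, h₂, e₂, hΦβ t]

/-- linearisation of an involutive endomorphism of `k[[t]]` (from S14080) -/
theorem exists_lin (h2 : (2 : k) ≠ 0) (ψ : PowerSeries k →ₐ[k] PowerSeries k)
    (hψ : ∀ g, ψ (ψ g) = g) :
    ∃ (ξ : k) (φ : PowerSeries k ≃ₐ[k] PowerSeries k), (ξ = 1 ∨ ξ = -1) ∧
      ∀ f, ψ (φ f) = φ (PowerSeries.rescale ξ f) := by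
  obtain ⟨EE, hEE⟩ : ∃ EE : PowerSeries k ≃ₐ[k] PowerSeries k, ∀ g, EE g = ψ g :=
    ⟨AlgEquiv.ofAlgHom ψ ψ (AlgHom.ext hψ) (AlgHom.ext hψ), fun g => rfl⟩
  obtain ⟨hξ, φ, -, hφ⟩ := Groth.Agent.Lib.PSAutH1.main14080 h2 EE
    (fun f => by rw [hEE, hEE, hψ])
  refine ⟨PowerSeries.coeff 1 (EE PowerSeries.X), φ, ?_, fun f => ?_⟩
  · have h3 : (PowerSeries.coeff 1 (EE PowerSeries.X) - 1) *
        (PowerSeries.coeff 1 (EE PowerSeries.X) + 1) = 0 := by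
      linear_combination hξ
    rcases mul_eq_zero.1 h3 with h | h
    · exact Or.inl (sub_eq_zero.1 h)
    · exact Or.inr (eq_neg_of_add_eq_zero_left h)
  · have h3 := hφ f
    rw [AlgEquiv.symm_apply_eq, hEE (φ f)] at h3
    exact h3

theorem main14083 (h2 : (2 : k) ≠ 0)
    (σ : ArSing.ring k 1 ≃ₐ[k] ArSing.ring k 1) (hσ : ∀ a, σ (σ a) = a)
    (hne : σ ≠ AlgEquiv.refl) :
    ∃ φ : ArSing.ring k 1 ≃ₐ[k] ArSing.ring k 1,
      (φ.symm (σ (φ (ArSing.x k 1))) = ArSing.x k 1 ∧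
        φ.symm (σ (φ (ArSing.y k 1))) = -ArSing.y k 1) ∨
      (φ.symm (σ (φ (ArSing.x k 1))) = -ArSing.x k 1 ∧
        φ.symm (σ (φ (ArSing.y k 1))) = -ArSing.y k 1) ∨
      (φ.symm (σ (φ (ArSing.x k 1))) = ArSing.y k 1 ∧
        φ.symm (σ (φ (ArSing.y k 1))) = ArSing.x k 1) := by
  have huv : σ (ArSing.x k 1 + ArSing.y k 1) * σ (ArSing.y k 1 - ArSing.x k 1) = 0 := by
    rw [← map_mul, u_mul_v, map_zero]
  have hαuv : alphaR k (σ (ArSing.x k 1 + ArSing.y k 1)) *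
      alphaR k (σ (ArSing.y k 1 - ArSing.x k 1)) = 0 := by
    rw [← map_mul, huv, map_zero]
  have hβuv : betaR k (σ (ArSing.x k 1 + ArSing.y k 1)) *
      betaR k (σ (ArSing.y k 1 - ArSing.x k 1)) = 0 := by
    rw [← map_mul, huv, map_zero]
  have hu0 : (ArSing.x k 1 + ArSing.y k 1 : ArSing.ring k 1) ≠ 0 := fun h =>
    X_add_X_ne_zero k h2 (by rw [← alpha_u, h, map_zero])
  have hv0 : (ArSing.y k 1 - ArSing.x k 1 : ArSing.ring k 1) ≠ 0 := fun h =>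
    X_add_X_ne_zero k h2 (by rw [← beta_v, h, map_zero])
  have hσ0 : ∀ a, σ a = 0 → a = 0 := fun a h => by
    have h3 := congrArg σ h
    rwa [hσ, map_zero] at h3
  have hnz : ∀ a : ArSing.ring k 1, alphaR k a = 0 → betaR k a = 0 → a = 0 := fun a h1 h3 =>
    pair_inj k h2 a 0 (by rw [h1, map_zero]) (by rw [h3, map_zero])
  by_cases hc : alphaR k (σ (ArSing.y k 1 - ArSing.x k 1)) = 0
  · -- Case I : σ preserves the two branches
    have hβv : betaR k (σ (ArSing.y k 1 - ArSing.x k 1)) ≠ 0 := fun h =>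
      hv0 (hσ0 _ (hnz _ hc h))
    have hβu : betaR k (σ (ArSing.x k 1 + ArSing.y k 1)) = 0 :=
      (mul_eq_zero.1 hβuv).resolve_right hβv
    obtain ⟨ψ₁, hψ₁⟩ : ∃ ψ : PowerSeries k →ₐ[k] PowerSeries k,
        ∀ g, ψ g = alphaR k (σ (ArSing.xMap k 1 g)) :=
      ⟨((alphaA k).comp σ.toAlgHom).comp (ArSing.xMap k 1), fun g => rfl⟩
    obtain ⟨ψ₂, hψ₂⟩ : ∃ ψ : PowerSeries k →ₐ[k] PowerSeries k,
        ∀ g, ψ g = betaR k (σ (ArSing.xMap k 1 (N k g))) :=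
      ⟨(((betaA k).comp σ.toAlgHom).comp (ArSing.xMap k 1)).comp (N k), fun g => rfl⟩
    have hψ₁α : ∀ a, alphaR k (σ a) = ψ₁ (alphaR k a) := fun a => by
      rw [hψ₁]
      exact factor_alpha k h2 (alphaR k) σ hc a
    have hψ₂β : ∀ a, betaR k (σ a) = ψ₂ (betaR k a) := fun a => by
      rw [hψ₂]
      exact factor_beta k h2 (betaR k) σ hβu a
    have hψ₁sq : ∀ g, ψ₁ (ψ₁ g) = g := fun g => by
      rw [hψ₁ g, ← hψ₁α, hσ, alpha_xMap]
    have hψ₂sq : ∀ g, ψ₂ (ψ₂ g) = g := fun g => by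
      rw [hψ₂ g, ← hψ₂β, hσ, beta_xMap, N_N]
    obtain ⟨ξ₁, φ₁, hξ₁, h₁⟩ := exists_lin k h2 ψ₁ hψ₁sq
    obtain ⟨ξ₂, φ₂, hξ₂, h₂⟩ := exists_lin k h2 ψ₂ hψ₂sq
    rcases hξ₁ with rfl | rfl <;> rcases hξ₂ with rfl | rfl
    · -- (1, 1): σ is the identity
      exfalso
      apply hne
      have hid₁ : ∀ f, ψ₁ f = f := fun f => by
        have h3 := h₁ (φ₁.symm f)
        rw [resc_one, AlgEquiv.apply_symm_apply] at h3
        exact h3
      have hid₂ : ∀ f, ψ₂ f = f := fun f => by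
        have h3 := h₂ (φ₂.symm f)
        rw [resc_one, AlgEquiv.apply_symm_apply] at h3
        exact h3
      apply AlgEquiv.ext
      intro a
      show σ a = a
      apply pair_inj k h2
      · rw [hψ₁α, hid₁]
      · rw [hψ₂β, hid₂]
    · -- (1, -1): the swap
      obtain ⟨Φ, hΦα, hΦβ⟩ := exists_glueD k h2 φ₁ φ₂
      refine ⟨Φ, Or.inr (Or.inr
        ⟨conjD k h2 σ Φ ψ₁ ψ₂ φ₁ φ₂ 1 (-1) hψ₁α hψ₂β h₁ h₂ hΦα hΦβ _ _ ?_ ?_,
         conjD k h2 σ Φ ψ₁ ψ₂ φ₁ φ₂ 1 (-1) hψ₁α hψ₂β h₁ h₂ hΦα hΦβ _ _ ?_ ?_⟩)⟩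
      all_goals
        simp only [resc_neg_one, resc_one, map_neg, alpha_x, beta_x, alpha_y, beta_y, N_X, neg_neg]
    · -- (-1, 1): conjugate to the swap through the branch exchange
      obtain ⟨Φ, hΦα, hΦβ⟩ := exists_glueA k h2 φ₁ φ₂
      refine ⟨Φ, Or.inr (Or.inr
        ⟨conjA k h2 σ Φ ψ₁ ψ₂ φ₁ φ₂ (-1) 1 hψ₁α hψ₂β h₁ h₂ hΦα hΦβ _ _ ?_ ?_,
         conjA k h2 σ Φ ψ₁ ψ₂ φ₁ φ₂ (-1) 1 hψ₁α hψ₂β h₁ h₂ hΦα hΦβ _ _ ?_ ?_⟩)⟩
      all_goals
        simp only [resc_neg_one, resc_one, map_neg, alpha_x, beta_x, alpha_y, beta_y, N_X, neg_neg]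
    · -- (-1, -1): the antipode
      obtain ⟨Φ, hΦα, hΦβ⟩ := exists_glueD k h2 φ₁ φ₂
      refine ⟨Φ, Or.inr (Or.inl
        ⟨conjD k h2 σ Φ ψ₁ ψ₂ φ₁ φ₂ (-1) (-1) hψ₁α hψ₂β h₁ h₂ hΦα hΦβ _ _ ?_ ?_,
         conjD k h2 σ Φ ψ₁ ψ₂ φ₁ φ₂ (-1) (-1) hψ₁α hψ₂β h₁ h₂ hΦα hΦβ _ _ ?_ ?_⟩)⟩
      all_goals
        simp only [resc_neg_one, resc_one, map_neg, alpha_x, beta_x, alpha_y, beta_y, N_X, neg_neg]
  · -- Case II : σ swaps the two branches
    have hαu : alphaR k (σ (ArSing.x k 1 + ArSing.y k 1)) = 0 :=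
      (mul_eq_zero.1 hαuv).resolve_right hc
    have hβu : betaR k (σ (ArSing.x k 1 + ArSing.y k 1)) ≠ 0 := fun h =>
      hu0 (hσ0 _ (hnz _ hαu h))
    have hβv : betaR k (σ (ArSing.y k 1 - ArSing.x k 1)) = 0 :=
      (mul_eq_zero.1 hβuv).resolve_left hβu
    obtain ⟨χ₁, hχ₁⟩ : ∃ χ : PowerSeries k →ₐ[k] PowerSeries k,
        ∀ g, χ g = alphaR k (σ (ArSing.xMap k 1 (N k g))) :=
      ⟨(((alphaA k).comp σ.toAlgHom).comp (ArSing.xMap k 1)).comp (N k), fun g => rfl⟩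
    obtain ⟨χ₂, hχ₂⟩ : ∃ χ : PowerSeries k →ₐ[k] PowerSeries k,
        ∀ g, χ g = betaR k (σ (ArSing.xMap k 1 g)) :=
      ⟨((betaA k).comp σ.toAlgHom).comp (ArSing.xMap k 1), fun g => rfl⟩
    have hχ₁β : ∀ a, alphaR k (σ a) = χ₁ (betaR k a) := fun a => by
      rw [hχ₁]
      exact factor_beta k h2 (alphaR k) σ hαu a
    have hχ₂α : ∀ a, betaR k (σ a) = χ₂ (alphaR k a) := fun a => by
      rw [hχ₂]
      exact factor_alpha k h2 (betaR k) σ hβv a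
    have h12 : ∀ g, χ₁ (χ₂ g) = g := fun g => by
      rw [hχ₂ g, ← hχ₁β, hσ, alpha_xMap]
    have h21 : ∀ g, χ₂ (χ₁ g) = g := fun g => by
      rw [hχ₁ g, ← hχ₂α, hσ, beta_xMap, N_N]
    obtain ⟨EE, hEE⟩ : ∃ EE : PowerSeries k ≃ₐ[k] PowerSeries k, ∀ g, EE g = χ₁ g :=
      ⟨AlgEquiv.ofAlgHom χ₁ χ₂ (AlgHom.ext h12) (AlgHom.ext h21), fun g => rfl⟩
    obtain ⟨NE, hNE⟩ : ∃ NE : PowerSeries k ≃ₐ[k] PowerSeries k, ∀ g, NE g = N k g :=
      ⟨AlgEquiv.ofAlgHom (N k) (N k) (AlgHom.ext (N_N k)) (AlgHom.ext (N_N k)), fun g => rfl⟩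
    obtain ⟨Φ, hΦα, hΦβ⟩ := exists_glueD k h2 EE NE
    have key : ∀ a t : ArSing.ring k 1, N k (betaR k a) = alphaR k t →
        alphaR k a = N k (betaR k t) → Φ.symm (σ (Φ a)) = t := by
      intro a t e₁ e₂
      rw [AlgEquiv.symm_apply_eq]
      apply pair_inj k h2
      · rw [hχ₁β (Φ a), hΦβ a, hNE, hΦα t, hEE, e₁]
      · rw [hχ₂α (Φ a), hΦα a, hEE, h21, hΦβ t, hNE, e₂]
    refine ⟨Φ, Or.inl ⟨key _ _ ?_ ?_, key _ _ ?_ ?_⟩⟩
    all_goals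
      simp only [map_neg, alpha_x, beta_x, alpha_y, beta_y, N_X, neg_neg]

end Groth.Agent.Lib.ArSingH1
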