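import Groth.Agent.Lib.ArSingStruct_helper1

/-!
# S14093: the involution `x ↦ x, y ↦ -y` of `k[[x,y]]/(y^2 - x^(r+1))` (helper1)
-/

namespace Groth.Agent.Lib.ArSingH1

universe u

theorem two_ps_eq_zero (k : Type u) [Field k] (h2 : (2 : k) ≠ 0) (q : PowerSeries k)
    (h : q + q = 0) : q = 0 := by
  ext n
  have h1 := congrArg (PowerSeries.coeff n) h
  rw [map_add, map_zero, ← two_mul] at h1
  rw [map_zero]
  exact (mul_eq_zero.1 h1).resolve_left h2

/-- a `k`-algebra endomorphism of `A_r` fixing `x` fixes the image of `k[[t]]` -/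
theorem fix_xMap (k : Type u) [Field k] (r : ℕ)
    (σ : ArSing.ring k r →ₐ[k] ArSing.ring k r) (hx : σ (ArSing.x k r) = ArSing.x k r)
    (p : PowerSeries k) : σ (ArSing.xMap k r p) = ArSing.xMap k r p := by
  have h := algHom_ext_ring k r (σ.comp (ArSing.xMap k r)) (ArSing.xMap k r)
    (by
      show σ (ArSing.xMap k r PowerSeries.X) = _
      rw [xMap_X, hx])
    (by
      show ArSing.x k r ∣ σ (ArSing.xMap k r PowerSeries.X)
      rw [xMap_X, hx])
  exact DFunLike.congr_fun h p

theorem main14093 (k : Type u) [Field k] [IsAlgClosed k] (r : ℕ)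
    (h2 : (2 : k) ≠ 0) (hr : ((r + 1 : ℕ) : k) ≠ 0)
    (σ : ArSing.ring k r ≃ₐ[k] ArSing.ring k r) (hx : σ (ArSing.x k r) = ArSing.x k r)
    (hy : σ (ArSing.y k r) = -ArSing.y k r) :
    (∀ a : ArSing.ring k r, σ a = a ↔ a ∈ (ArSing.xMap k r).range) ∧
    ((ArSing.xMap k r).toRingHom.Flat ∧
      Ideal.map (ArSing.xMap k r) (IsLocalRing.maximalIdeal (PowerSeries k)) ≠ ⊤) ∧
    (∃ g : ArSing.ring k r, g ∈ nonZeroDivisors (ArSing.ring k r) ∧
      Ideal.span (Set.range fun a : ArSing.ring k r => σ a - a) = Ideal.span {g}) ∧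
    Module.length (ArSing.ring k r)
      (ArSing.ring k r ⧸ Ideal.span (Set.range fun a : ArSing.ring k r => σ a - a)) = r + 1 := by
  have hσx : ∀ p, σ (ArSing.xMap k r p) = ArSing.xMap k r p :=
    fun p => fix_xMap k r (σ : ArSing.ring k r →ₐ[k] ArSing.ring k r) hx p
  have hσ : ∀ p q, σ (ArSing.xMap k r p + ArSing.xMap k r q * ArSing.y k r) =
      ArSing.xMap k r p - ArSing.xMap k r q * ArSing.y k r := by
    intro p q
    rw [map_add, map_mul, hσx, hσx, hy]
    ring
  have hJ : Ideal.span (Set.range fun a : ArSing.ring k r => σ a - a) =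
      Ideal.span {ArSing.y k r} := by
    apply le_antisymm
    · rw [Ideal.span_le]
      rintro _ ⟨a, rfl⟩
      obtain ⟨p, q, rfl⟩ := decomp k r a
      show σ _ - _ ∈ Ideal.span {ArSing.y k r}
      rw [hσ, Ideal.mem_span_singleton']
      exact ⟨-(ArSing.xMap k r q + ArSing.xMap k r q), by ring⟩
    · rw [Ideal.span_le, Set.singleton_subset_iff]
      have hmem : σ (ArSing.y k r) - ArSing.y k r ∈
          Ideal.span (Set.range fun a : ArSing.ring k r => σ a - a) :=
        Ideal.subset_span ⟨ArSing.y k r, rfl⟩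
      have e1 : ArSing.y k r = algebraMap k (ArSing.ring k r) ((-2 : k)⁻¹) *
          (σ (ArSing.y k r) - ArSing.y k r) := by
        rw [hy]
        have e2 : -ArSing.y k r - ArSing.y k r =
            algebraMap k (ArSing.ring k r) (-2 : k) * ArSing.y k r := by
          rw [map_neg, map_ofNat]
          ring
        rw [e2, ← mul_assoc, ← map_mul, inv_mul_cancel₀ (neg_ne_zero.2 h2), map_one, one_mul]
      rw [SetLike.mem_coe, e1]
      exact Ideal.mul_mem_left _ _ hmem
  refine ⟨?_, ⟨flat_xMap k r, map_maximalIdeal_ne_top k r⟩,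
    ⟨ArSing.y k r, y_mem_nonZeroDivisors k r, hJ⟩, ?_⟩
  · intro a
    obtain ⟨p, q, rfl⟩ := decomp k r a
    rw [hσ]
    constructor
    · intro h
      have h3 : ArSing.xMap k r 0 + ArSing.xMap k r (q + q) * ArSing.y k r = 0 := by
        rw [map_zero, map_add]
        linear_combination (-1 : ArSing.ring k r) * h
      obtain ⟨-, hq⟩ := uniq k r _ _ h3
      have hq0 := two_ps_eq_zero k h2 q hq
      exact (AlgHom.mem_range _).2 ⟨p, by rw [hq0, map_zero, zero_mul, add_zero]⟩
    · intro h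
      obtain ⟨p', hp'⟩ := (AlgHom.mem_range _).1 h
      have h3 := uniq' k r p' 0 p q (by
        rw [map_zero, zero_mul, add_zero]
        exact hp')
      rw [← h3.2, map_zero, zero_mul, add_zero, sub_zero]
  · rw [hJ]
    exact length_quot_y k r

end Groth.Agent.Lib.ArSingH1
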