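import Groth.Agent.Lib.ArSing93_helper1

/-!
# S14094: the involution `x ↦ -x, y ↦ y` of `k[[x,y]]/(y^2 - x^(r+1))` (helper1)
-/

namespace Groth.Agent.Lib.ArSingH1

universe u

variable (k : Type u) [Field k]

section EvenOdd

noncomputable def E : PowerSeries k →ₐ[k] PowerSeries k := PowerSeries.expand 2 two_ne_zero

noncomputable def N : PowerSeries k →ₐ[k] PowerSeries k := PowerSeries.rescaleAlgHom (-1)

noncomputable def ev (p : PowerSeries k) : PowerSeries k :=
  PowerSeries.mk fun n => PowerSeries.coeff (2 * n) p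

noncomputable def od (p : PowerSeries k) : PowerSeries k :=
  PowerSeries.mk fun n => PowerSeries.coeff (2 * n + 1) p

theorem E_X : E k PowerSeries.X = PowerSeries.X ^ 2 := PowerSeries.expand_X 2 two_ne_zero

theorem N_apply (p : PowerSeries k) : N k p = PowerSeries.rescale (-1 : k) p :=
  RingHom.congr_fun (PowerSeries.coe_rescaleAlgHom (-1 : k)) p

theorem N_X : N k PowerSeries.X = -PowerSeries.X := by
  rw [N_apply]
  exact PowerSeries.rescale_neg_one_X

theorem N_E (a : PowerSeries k) : N k (E k a) = E k a := by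
  rw [N_apply]
  ext n
  rw [PowerSeries.coeff_rescale]
  by_cases h : 2 ∣ n
  · rw [(even_iff_two_dvd.2 h).neg_one_pow, one_mul]
  · rw [E, PowerSeries.coeff_expand_of_not_dvd 2 two_ne_zero _ h, mul_zero]

theorem coeff_even (a b : PowerSeries k) (j : ℕ) :
    PowerSeries.coeff (2 * j) (E k a + PowerSeries.X * E k b) = PowerSeries.coeff j a := by
  rw [map_add, E, PowerSeries.coeff_expand_mul]
  cases j with
  | zero => rw [Nat.mul_zero, PowerSeries.coeff_zero_X_mul, add_zero]
  | succ i =>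
    have h1 : 2 * (i + 1) = (2 * i + 1) + 1 := by ring
    rw [h1, PowerSeries.coeff_succ_X_mul,
      PowerSeries.coeff_expand_of_not_dvd 2 two_ne_zero _ (by omega), add_zero]

theorem coeff_odd (a b : PowerSeries k) (j : ℕ) :
    PowerSeries.coeff (2 * j + 1) (E k a + PowerSeries.X * E k b) = PowerSeries.coeff j b := by
  rw [map_add, PowerSeries.coeff_succ_X_mul, E, PowerSeries.coeff_expand_mul,
    PowerSeries.coeff_expand_of_not_dvd 2 two_ne_zero _ (by omega), zero_add]

theorem eo_decomp (p : PowerSeries k) :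
    p = E k (ev k p) + PowerSeries.X * E k (od k p) := by
  ext n
  rcases Nat.even_or_odd' n with ⟨j, rfl | rfl⟩
  · rw [coeff_even, ev, PowerSeries.coeff_mk]
  · rw [coeff_odd, od, PowerSeries.coeff_mk]

theorem eo_uniq (a b : PowerSeries k) (h : E k a + PowerSeries.X * E k b = 0) :
    a = 0 ∧ b = 0 := by
  constructor
  · ext j
    rw [← coeff_even k a b j, h, map_zero, map_zero]
  · ext j
    rw [← coeff_odd k a b j, h, map_zero, map_zero]

theorem N_eo (a b : PowerSeries k) :
    N k (E k a + PowerSeries.X * E k b) = E k a - PowerSeries.X * E k b := by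
  rw [map_add, map_mul, N_E, N_E, N_X]
  ring

theorem exists_E_of_N (h2 : (2 : k) ≠ 0) (p : PowerSeries k) (h : N k p = p) :
    ∃ a, p = E k a := by
  obtain ⟨a, b, rfl⟩ : ∃ a b, p = E k a + PowerSeries.X * E k b := ⟨_, _, eo_decomp k p⟩
  rw [N_eo] at h
  have h3 : E k 0 + PowerSeries.X * E k (b + b) = 0 := by
    rw [map_zero, map_add]
    linear_combination (-1 : PowerSeries k) * h
  obtain ⟨-, hb⟩ := eo_uniq k _ _ h3
  have hb0 := two_ps_eq_zero k h2 b hb
  exact ⟨a, by rw [hb0, map_zero, mul_zero, add_zero]⟩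

end EvenOdd

section Tools

variable (r : ℕ)

theorem map_xMap {s : ℕ} (ψ : ArSing.ring k s →ₐ[k] ArSing.ring k r)
    (u : PowerSeries k →ₐ[k] PowerSeries k)
    (h : ψ (ArSing.x k s) = ArSing.xMap k r (u PowerSeries.X))
    (hd : ArSing.x k r ∣ ArSing.xMap k r (u PowerSeries.X)) (p : PowerSeries k) :
    ψ (ArSing.xMap k s p) = ArSing.xMap k r (u p) := by
  have h1 := algHom_ext_ring k r (ψ.comp (ArSing.xMap k s)) ((ArSing.xMap k r).comp u)
    (by
      show ψ (ArSing.xMap k s PowerSeries.X) = ArSing.xMap k r (u PowerSeries.X)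
      rw [xMap_X, h])
    (by
      show ArSing.x k r ∣ ψ (ArSing.xMap k s PowerSeries.X)
      rw [xMap_X, h]
      exact hd)
  exact DFunLike.congr_fun h1 p

theorem x_mul (p q : PowerSeries k) :
    ArSing.x k r * (ArSing.xMap k r p + ArSing.xMap k r q * ArSing.y k r) =
      ArSing.xMap k r (PowerSeries.X * p) +
        ArSing.xMap k r (PowerSeries.X * q) * ArSing.y k r := by
  have h := x_pow_mul k r 1 p q
  rw [pow_one, pow_one] at h
  exact h

theorem x_mem_nonZeroDivisors : ArSing.x k r ∈ nonZeroDivisors (ArSing.ring k r) := by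
  rw [mem_nonZeroDivisors_iff_right]
  intro a ha
  obtain ⟨p, q, rfl⟩ := decomp k r a
  rw [mul_comm, x_mul] at ha
  obtain ⟨h1, h2⟩ := uniq k r _ _ ha
  have hp : p = 0 := (mul_eq_zero.1 h1).resolve_left PowerSeries.X_ne_zero
  have hq : q = 0 := (mul_eq_zero.1 h2).resolve_left PowerSeries.X_ne_zero
  rw [hp, hq, map_zero, zero_mul, add_zero]

noncomputable def aug : ArSing.ring k r →+* k :=
  Ideal.Quotient.lift _ (MvPowerSeries.constantCoeff (σ := Fin 2) (R := k)) (by
    intro a ha
    obtain ⟨c, rfl⟩ := Ideal.mem_span_singleton'.1 ha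
    rw [map_mul, ArSing.eqn, map_sub, map_pow, map_pow, MvPowerSeries.constantCoeff_X,
      MvPowerSeries.constantCoeff_X, zero_pow two_ne_zero, zero_pow (Nat.succ_ne_zero r),
      sub_zero, mul_zero])

theorem aug_algebraMap (c : k) : aug k r (algebraMap k (ArSing.ring k r) c) = c := by
  show MvPowerSeries.constantCoeff (algebraMap k (MvPowerSeries (Fin 2) k) c) = c
  rw [MvPowerSeries.algebraMap_apply, MvPowerSeries.constantCoeff_C]
  rfl

theorem nontrivial_ring : Nontrivial (ArSing.ring k r) :=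
  ⟨⟨0, 1, fun h => by
    have h1 := congrArg (aug k r) h
    rw [map_zero, map_one] at h1
    exact zero_ne_one h1⟩⟩

theorem isLocalRing_ring : IsLocalRing (ArSing.ring k r) :=
  haveI := nontrivial_ring k r
  IsLocalRing.of_surjective' (Ideal.Quotient.mk (Ideal.span {ArSing.eqn k r}))
    Ideal.Quotient.mk_surjective

/-- a `k`-algebra map between `A_s` and `A_r` does not blow maximal ideals up to the unit ideal -/
theorem map_maximal_ne_top {s : ℕ} (φ : ArSing.ring k s →ₐ[k] ArSing.ring k r)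
    (I : Ideal (ArSing.ring k s)) (hI : I.IsMaximal) : Ideal.map φ I ≠ ⊤ := by
  haveI : Nontrivial (ArSing.ring k s) := nontrivial_ring k s
  haveI : IsLocalRing (ArSing.ring k s) := isLocalRing_ring k s
  have hsurj : Function.Surjective ((aug k r).comp φ.toRingHom) := fun c =>
    ⟨algebraMap k _ c, by
      show aug k r (φ (algebraMap k _ c)) = c
      rw [φ.commutes, aug_algebraMap]⟩
  have hker := RingHom.ker_isMaximal_of_surjective _ hsurj
  have e1 : I = RingHom.ker ((aug k r).comp φ.toRingHom) := by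
    rw [IsLocalRing.eq_maximalIdeal hI, IsLocalRing.eq_maximalIdeal hker]
  intro htop
  have h1 : (1 : ArSing.ring k r) ∈ Ideal.map φ I := by
    rw [htop]
    trivial
  have h3 : Ideal.map φ I ≤ RingHom.ker (aug k r) := by
    rw [Ideal.map_le_iff_le_comap]
    intro b hb
    rw [e1] at hb
    exact hb
  have h4 := h3 h1
  rw [RingHom.mem_ker, map_one] at h4
  exact one_ne_zero h4

theorem length_of_theta (J : Ideal (ArSing.ring k r)) (n : ℕ)
    (θ : ArSing.ring k r →+* PowerSeries k ⧸ IsLocalRing.maximalIdeal (PowerSeries k) ^ n)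
    (hsurj : Function.Surjective θ) (hker : ∀ a, θ a = 0 ↔ a ∈ J) :
    Module.length (ArSing.ring k r) (ArSing.ring k r ⧸ J) = n := by
  letI : Algebra (ArSing.ring k r)
      (PowerSeries k ⧸ IsLocalRing.maximalIdeal (PowerSeries k) ^ n) := θ.toAlgebra
  have halg : ∀ a, algebraMap (ArSing.ring k r)
      (PowerSeries k ⧸ IsLocalRing.maximalIdeal (PowerSeries k) ^ n) a = θ a := fun a => rfl
  have hsurj' : Function.Surjective (algebraMap (ArSing.ring k r)
      (PowerSeries k ⧸ IsLocalRing.maximalIdeal (PowerSeries k) ^ n)) := hsurj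
  have ea : Module.length (ArSing.ring k r)
      (PowerSeries k ⧸ IsLocalRing.maximalIdeal (PowerSeries k) ^ n) =
      Module.length (PowerSeries k ⧸ IsLocalRing.maximalIdeal (PowerSeries k) ^ n)
        (PowerSeries k ⧸ IsLocalRing.maximalIdeal (PowerSeries k) ^ n) :=
    Module.length_eq_of_surjective hsurj'
  have eb : Module.length (PowerSeries k)
      (PowerSeries k ⧸ IsLocalRing.maximalIdeal (PowerSeries k) ^ n) =
      Module.length (PowerSeries k ⧸ IsLocalRing.maximalIdeal (PowerSeries k) ^ n)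
        (PowerSeries k ⧸ IsLocalRing.maximalIdeal (PowerSeries k) ^ n) :=
    Module.length_eq_of_surjective Ideal.Quotient.mk_surjective
  have ec : Module.length (PowerSeries k)
      (PowerSeries k ⧸ IsLocalRing.maximalIdeal (PowerSeries k) ^ n) = n :=
    IsDiscreteValuationRing.length_quotient_pow_maximalIdeal (R := PowerSeries k) n
  have hker' : J = LinearMap.ker (Algebra.linearMap (ArSing.ring k r)
      (PowerSeries k ⧸ IsLocalRing.maximalIdeal (PowerSeries k) ^ n)) := by
    ext a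
    rw [LinearMap.mem_ker, Algebra.linearMap_apply, halg, hker]
  have ed : Module.length (ArSing.ring k r) (ArSing.ring k r ⧸ J) =
      Module.length (ArSing.ring k r)
        (PowerSeries k ⧸ IsLocalRing.maximalIdeal (PowerSeries k) ^ n) :=
    ((Submodule.quotEquivOfEq _ _ hker').trans
      (LinearMap.quotKerEquivOfSurjective (Algebra.linearMap (ArSing.ring k r)
        (PowerSeries k ⧸ IsLocalRing.maximalIdeal (PowerSeries k) ^ n)) hsurj')).length_eq
  rw [ed, ea, ← eb, ec]

abbrev Sq2 : Type u := PowerSeries k ⧸ IsLocalRing.maximalIdeal (PowerSeries k) ^ 2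

noncomputable def tht0 : A1 k →+* Sq2 k :=
  (algebraMap k (Sq2 k)).comp (MvPowerSeries.constantCoeff (σ := Fin 1) (R := k))

theorem X_sq_mem : (PowerSeries.X : PowerSeries k) ^ 2 ∈
    IsLocalRing.maximalIdeal (PowerSeries k) ^ 2 := by
  rw [PowerSeries.maximalIdeal_eq_span_X, Ideal.span_singleton_pow]
  exact Ideal.subset_span rfl

theorem tht0_eval :
    (gpol k r).eval₂ (tht0 k) (Ideal.Quotient.mk _ PowerSeries.X) = 0 := by
  rw [gpol, Polynomial.eval₂_sub, Polynomial.eval₂_pow, Polynomial.eval₂_X, Polynomial.eval₂_C]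
  have h1 : tht0 k (x0 k ^ (r + 1)) = 0 := by
    show algebraMap k (Sq2 k) (MvPowerSeries.constantCoeff (x0 k ^ (r + 1))) = 0
    rw [map_pow, x0, MvPowerSeries.constantCoeff_X, zero_pow (Nat.succ_ne_zero r), map_zero]
  rw [h1, sub_zero, ← map_pow, Ideal.Quotient.eq_zero_iff_mem]
  exact X_sq_mem k

noncomputable def theta2 : ArSing.ring k r →+* Sq2 k :=
  (AdjoinRoot.lift (tht0 k) (Ideal.Quotient.mk _ PowerSeries.X) (tht0_eval k r)).comp
    (Psi k r : ArSing.ring k r →+* _)

theorem tht0_iota (p : PowerSeries k) :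
    tht0 k (iota k p) = Ideal.Quotient.mk _ (PowerSeries.C (PowerSeries.constantCoeff p)) := by
  show algebraMap k (Sq2 k) (MvPowerSeries.constantCoeff (iota k p)) = _
  have h1 : MvPowerSeries.constantCoeff (iota k p) = PowerSeries.constantCoeff p :=
    MvPowerSeries.constantCoeff_rename _ p
  rw [h1]
  rfl

theorem theta2_apply (p q : PowerSeries k) :
    theta2 k r (ArSing.xMap k r p + ArSing.xMap k r q * ArSing.y k r) =
      Ideal.Quotient.mk _ (PowerSeries.C (PowerSeries.constantCoeff p) +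
        PowerSeries.C (PowerSeries.constantCoeff q) * PowerSeries.X) := by
  show AdjoinRoot.lift (tht0 k) (Ideal.Quotient.mk _ PowerSeries.X) (tht0_eval k r)
    (Psi k r (ArSing.xMap k r p + ArSing.xMap k r q * ArSing.y k r)) = _
  rw [map_add, map_mul, Psi_xMap, Psi_xMap, Psi_y, map_add, map_mul, AdjoinRoot.lift_of,
    AdjoinRoot.lift_of, AdjoinRoot.lift_root, tht0_iota, tht0_iota, map_add, map_mul]

theorem coeffs_lin (a b : k) :
    (∀ m < 2, PowerSeries.coeff m (PowerSeries.C a + PowerSeries.C b * PowerSeries.X) = 0) ↔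
      a = 0 ∧ b = 0 := by
  constructor
  · intro h
    have h0 := h 0 (by norm_num)
    have h1 := h 1 (by norm_num)
    simp at h0 h1
    exact ⟨h0, h1⟩
  · rintro ⟨rfl, rfl⟩ m _
    simp

theorem mem_span_x_iff (p q : PowerSeries k) :
    ArSing.xMap k r p + ArSing.xMap k r q * ArSing.y k r ∈ Ideal.span {ArSing.x k r} ↔
      PowerSeries.constantCoeff p = 0 ∧ PowerSeries.constantCoeff q = 0 := by
  rw [Ideal.mem_span_singleton']
  constructor
  · rintro ⟨c, hc⟩
    obtain ⟨p', q', rfl⟩ := decomp k r c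
    rw [mul_comm, x_mul] at hc
    obtain ⟨h1, h2⟩ := uniq' k r _ _ _ _ hc
    rw [← h1, ← h2, map_mul, map_mul, PowerSeries.constantCoeff_X, zero_mul, zero_mul]
    exact ⟨rfl, rfl⟩
  · rintro ⟨hp, hq⟩
    obtain ⟨p', rfl⟩ := PowerSeries.X_dvd_iff.2 hp
    obtain ⟨q', rfl⟩ := PowerSeries.X_dvd_iff.2 hq
    exact ⟨ArSing.xMap k r p' + ArSing.xMap k r q' * ArSing.y k r, by rw [mul_comm, x_mul]⟩

theorem theta2_eq_zero_iff (a : ArSing.ring k r) :
    theta2 k r a = 0 ↔ a ∈ Ideal.span {ArSing.x k r} := by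
  obtain ⟨p, q, rfl⟩ := decomp k r a
  rw [theta2_apply, Ideal.Quotient.eq_zero_iff_mem, PowerSeries.maximalIdeal_eq_span_X,
    Ideal.span_singleton_pow, Ideal.mem_span_singleton, PowerSeries.X_pow_dvd_iff, coeffs_lin,
    mem_span_x_iff]

theorem theta2_surjective : Function.Surjective (theta2 k r) := by
  intro s
  obtain ⟨f, rfl⟩ := Ideal.Quotient.mk_surjective s
  refine ⟨ArSing.xMap k r (PowerSeries.C (PowerSeries.coeff 0 f)) +
    ArSing.xMap k r (PowerSeries.C (PowerSeries.coeff 1 f)) * ArSing.y k r, ?_⟩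
  rw [theta2_apply, Ideal.Quotient.mk_eq_mk_iff_sub_mem, PowerSeries.maximalIdeal_eq_span_X,
    Ideal.span_singleton_pow, Ideal.mem_span_singleton, PowerSeries.X_pow_dvd_iff]
  intro m hm
  interval_cases m <;> simp

theorem length_quot_x :
    Module.length (ArSing.ring k r) (ArSing.ring k r ⧸ Ideal.span {ArSing.x k r}) = 2 :=
  length_of_theta k r _ 2 (theta2 k r) (theta2_surjective k r) (theta2_eq_zero_iff k r)

end Tools

theorem main14094 (k : Type u) [Field k] [IsAlgClosed k] (m r : ℕ)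
    (hm : 2 ≤ m) (hr : r = 2 * m - 1) (h2 : (2 : k) ≠ 0) (hr1 : ((r + 1 : ℕ) : k) ≠ 0)
    (σ : ArSing.ring k r ≃ₐ[k] ArSing.ring k r) (hx : σ (ArSing.x k r) = -ArSing.x k r)
    (hy : σ (ArSing.y k r) = ArSing.y k r)
    (φ : ArSing.ring k (m - 1) →ₐ[k] ArSing.ring k r)
    (hφx : φ (ArSing.x k (m - 1)) = ArSing.x k r ^ 2)
    (hφy : φ (ArSing.y k (m - 1)) = ArSing.y k r) :
    (∀ a : ArSing.ring k r, σ a = a ↔ a ∈ φ.range) ∧
    (φ.toRingHom.Flat ∧ ∀ I : Ideal (ArSing.ring k (m - 1)), I.IsMaximal → Ideal.map φ I ≠ ⊤) ∧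
    (∃ g : ArSing.ring k r, g ∈ nonZeroDivisors (ArSing.ring k r) ∧
      Ideal.span (Set.range fun a : ArSing.ring k r => σ a - a) = Ideal.span {g}) ∧
    Module.length (ArSing.ring k r)
      (ArSing.ring k r ⧸ Ideal.span (Set.range fun a : ArSing.ring k r => σ a - a)) = 2 := by
  have hσ1 : ∀ p, σ (ArSing.xMap k r p) = ArSing.xMap k r (N k p) :=
    map_xMap k r (σ : ArSing.ring k r →ₐ[k] ArSing.ring k r) (N k)
      (by
        rw [N_X, map_neg, xMap_X]
        exact hx)
      (by
        rw [N_X, map_neg, xMap_X]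
        exact (dvd_neg (a := ArSing.x k r)).2 (dvd_refl (ArSing.x k r)))
  have hσ : ∀ p q, σ (ArSing.xMap k r p + ArSing.xMap k r q * ArSing.y k r) =
      ArSing.xMap k r (N k p) + ArSing.xMap k r (N k q) * ArSing.y k r := by
    intro p q
    rw [map_add, map_mul, hσ1, hσ1, hy]
  have hφ1 : ∀ p, φ (ArSing.xMap k (m - 1) p) = ArSing.xMap k r (E k p) :=
    map_xMap k r φ (E k)
      (by rw [E_X, map_pow, xMap_X, hφx])
      (by
        rw [E_X, map_pow, xMap_X]
        exact dvd_pow_self (ArSing.x k r) two_ne_zero)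
  have hφ : ∀ p q, φ (ArSing.xMap k (m - 1) p + ArSing.xMap k (m - 1) q * ArSing.y k (m - 1)) =
      ArSing.xMap k r (E k p) + ArSing.xMap k r (E k q) * ArSing.y k r := by
    intro p q
    rw [map_add, map_mul, hφ1, hφ1, hφy]
  have hF : ∀ p₀ q₀ p₁ q₁ : PowerSeries k,
      φ (ArSing.xMap k (m - 1) p₀ + ArSing.xMap k (m - 1) q₀ * ArSing.y k (m - 1)) +
        ArSing.x k r *
          φ (ArSing.xMap k (m - 1) p₁ + ArSing.xMap k (m - 1) q₁ * ArSing.y k (m - 1)) =
      ArSing.xMap k r (E k p₀ + PowerSeries.X * E k p₁) +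
        ArSing.xMap k r (E k q₀ + PowerSeries.X * E k q₁) * ArSing.y k r := by
    intro p₀ q₀ p₁ q₁
    rw [hφ, hφ, map_add, map_add, map_mul, map_mul, xMap_X]
    ring
  have hJ : Ideal.span (Set.range fun a : ArSing.ring k r => σ a - a) =
      Ideal.span {ArSing.x k r} := by
    apply le_antisymm
    · rw [Ideal.span_le]
      rintro _ ⟨a, rfl⟩
      obtain ⟨p, q, rfl⟩ := decomp k r a
      show σ _ - _ ∈ Ideal.span {ArSing.x k r}
      rw [hσ, Ideal.mem_span_singleton']
      obtain ⟨a0, b0, rfl⟩ : ∃ a0 b0, p = E k a0 + PowerSeries.X * E k b0 :=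
        ⟨_, _, eo_decomp k p⟩
      obtain ⟨a1, b1, rfl⟩ : ∃ a1 b1, q = E k a1 + PowerSeries.X * E k b1 :=
        ⟨_, _, eo_decomp k q⟩
      rw [N_eo, N_eo]
      refine ⟨-(ArSing.xMap k r (E k b0 + E k b0) +
        ArSing.xMap k r (E k b1 + E k b1) * ArSing.y k r), ?_⟩
      simp only [map_add, map_sub, map_mul, xMap_X]
      ring
    · rw [Ideal.span_le, Set.singleton_subset_iff]
      have hmem : σ (ArSing.x k r) - ArSing.x k r ∈
          Ideal.span (Set.range fun a : ArSing.ring k r => σ a - a) :=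
        Ideal.subset_span ⟨ArSing.x k r, rfl⟩
      have e1 : ArSing.x k r = algebraMap k (ArSing.ring k r) ((-2 : k)⁻¹) *
          (σ (ArSing.x k r) - ArSing.x k r) := by
        rw [hx]
        have e2 : -ArSing.x k r - ArSing.x k r =
            algebraMap k (ArSing.ring k r) (-2 : k) * ArSing.x k r := by
          rw [map_neg, map_ofNat]
          ring
        rw [e2, ← mul_assoc, ← map_mul, inv_mul_cancel₀ (neg_ne_zero.2 h2), map_one, one_mul]
      rw [SetLike.mem_coe, e1]
      exact Ideal.mul_mem_left _ _ hmem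
  have hflat : φ.toRingHom.Flat := by
    letI : Algebra (ArSing.ring k (m - 1)) (ArSing.ring k r) := φ.toRingHom.toAlgebra
    show Module.Flat (ArSing.ring k (m - 1)) (ArSing.ring k r)
    have hsm : ∀ (c : ArSing.ring k (m - 1)) (a : ArSing.ring k r), c • a = φ c * a :=
      fun c a => rfl
    let L : (ArSing.ring k (m - 1) × ArSing.ring k (m - 1)) →ₗ[ArSing.ring k (m - 1)]
        ArSing.ring k r :=
      { toFun := fun b => φ b.1 + ArSing.x k r * φ b.2
        map_add' := fun a b => by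
          simp only [Prod.fst_add, Prod.snd_add, map_add]
          ring
        map_smul' := fun c a => by
          simp only [Prod.smul_fst, Prod.smul_snd, smul_eq_mul, map_mul, RingHom.id_apply, hsm]
          ring }
    have hL : Function.Bijective L := by
      constructor
      · rw [injective_iff_map_eq_zero]
        rintro ⟨b0, b1⟩ hb
        obtain ⟨p0, q0, rfl⟩ := decomp k (m - 1) b0
        obtain ⟨p1, q1, rfl⟩ := decomp k (m - 1) b1
        change φ _ + ArSing.x k r * φ _ = 0 at hb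
        rw [hF] at hb
        obtain ⟨h1, h2'⟩ := uniq k r _ _ hb
        obtain ⟨e1, e2⟩ := eo_uniq k _ _ h1
        obtain ⟨e3, e4⟩ := eo_uniq k _ _ h2'
        rw [e1, e2, e3, e4]
        simp
      · intro a
        obtain ⟨p, q, rfl⟩ := decomp k r a
        refine ⟨(ArSing.xMap k (m - 1) (ev k p) +
          ArSing.xMap k (m - 1) (ev k q) * ArSing.y k (m - 1),
          ArSing.xMap k (m - 1) (od k p) +
            ArSing.xMap k (m - 1) (od k q) * ArSing.y k (m - 1)), ?_⟩
        change φ _ + ArSing.x k r * φ _ = _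
        rw [hF, ← eo_decomp, ← eo_decomp]
    exact Module.Flat.of_linearEquiv (LinearEquiv.ofBijective L hL).symm
  refine ⟨?_, ⟨hflat, fun I hI => map_maximal_ne_top k r φ I hI⟩,
    ⟨ArSing.x k r, x_mem_nonZeroDivisors k r, hJ⟩, ?_⟩
  · intro a
    obtain ⟨p, q, rfl⟩ := decomp k r a
    rw [hσ]
    constructor
    · intro h
      obtain ⟨hp, hq⟩ := uniq' k r _ _ _ _ h
      obtain ⟨a0, rfl⟩ := exists_E_of_N k h2 p hp
      obtain ⟨b0, rfl⟩ := exists_E_of_N k h2 q hq
      exact (AlgHom.mem_range _).2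
        ⟨ArSing.xMap k (m - 1) a0 + ArSing.xMap k (m - 1) b0 * ArSing.y k (m - 1), hφ a0 b0⟩
    · intro h
      obtain ⟨b, hb⟩ := (AlgHom.mem_range _).1 h
      obtain ⟨p0, q0, rfl⟩ := decomp k (m - 1) b
      rw [hφ] at hb
      obtain ⟨h1, h2'⟩ := uniq' k r _ _ _ _ hb
      rw [← h1, ← h2', N_E, N_E]
  · rw [hJ]
    exact length_quot_x k r

end Groth.Agent.Lib.ArSingH1
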