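import Groth.Agent.Lib.ArSing94_helper1

/-!
# S14095: the involution `x ↦ -x, y ↦ -y` of `k[[x,y]]/(y^2 - x^(r+1))` (helper1)
-/

namespace Groth.Agent.Lib.ArSingH1

universe u

variable (k : Type u) [Field k] (r : ℕ)

theorem mem_J_iff (p q : PowerSeries k) :
    ArSing.xMap k r p + ArSing.xMap k r q * ArSing.y k r ∈
        Ideal.span {ArSing.x k r, ArSing.y k r} ↔ PowerSeries.constantCoeff p = 0 := by
  rw [Ideal.mem_span_pair]
  constructor
  · rintro ⟨c, d, h⟩
    obtain ⟨p1, q1, rfl⟩ := decomp k r c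
    obtain ⟨p2, q2, rfl⟩ := decomp k r d
    rw [mul_comm _ (ArSing.x k r), x_mul, y_mul] at h
    have h' : ArSing.xMap k r (PowerSeries.X * p1 + PowerSeries.X ^ (r + 1) * q2) +
        ArSing.xMap k r (PowerSeries.X * q1 + p2) * ArSing.y k r =
        ArSing.xMap k r p + ArSing.xMap k r q * ArSing.y k r := by
      rw [← h, map_add, map_add]
      ring
    obtain ⟨h1, -⟩ := uniq' k r _ _ _ _ h'
    rw [← h1, map_add, map_mul, map_mul, map_pow, PowerSeries.constantCoeff_X,
      zero_pow (Nat.succ_ne_zero r), zero_mul, zero_mul, add_zero]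
  · intro hp
    obtain ⟨p', rfl⟩ := PowerSeries.X_dvd_iff.2 hp
    exact ⟨ArSing.xMap k r p', ArSing.xMap k r q, by rw [map_mul, xMap_X]; ring⟩

theorem one_notMem_J : (1 : ArSing.ring k r) ∉ Ideal.span {ArSing.x k r, ArSing.y k r} := by
  have h1 : (1 : ArSing.ring k r) =
      ArSing.xMap k r 1 + ArSing.xMap k r 0 * ArSing.y k r := by
    rw [map_one, map_zero, zero_mul, add_zero]
  rw [h1, mem_J_iff, map_one]
  exact one_ne_zero

theorem max_pow_le : IsLocalRing.maximalIdeal (PowerSeries k) ^ 2 ≤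
    IsLocalRing.maximalIdeal (PowerSeries k) ^ 1 :=
  Ideal.pow_le_pow_right (by norm_num : 1 ≤ 2)

noncomputable def theta1 :
    ArSing.ring k r →+* PowerSeries k ⧸ IsLocalRing.maximalIdeal (PowerSeries k) ^ 1 :=
  (Ideal.Quotient.factor (max_pow_le k)).comp (theta2 k r)

theorem theta1_apply (p q : PowerSeries k) :
    theta1 k r (ArSing.xMap k r p + ArSing.xMap k r q * ArSing.y k r) =
      Ideal.Quotient.mk _ (PowerSeries.C (PowerSeries.constantCoeff p) +
        PowerSeries.C (PowerSeries.constantCoeff q) * PowerSeries.X) := by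
  show Ideal.Quotient.factor (max_pow_le k) (theta2 k r _) = _
  rw [theta2_apply, Ideal.Quotient.factor_mk]

theorem theta1_eq_zero_iff (a : ArSing.ring k r) :
    theta1 k r a = 0 ↔ a ∈ Ideal.span {ArSing.x k r, ArSing.y k r} := by
  obtain ⟨p, q, rfl⟩ := decomp k r a
  rw [theta1_apply, Ideal.Quotient.eq_zero_iff_mem, PowerSeries.maximalIdeal_eq_span_X,
    Ideal.span_singleton_pow, Ideal.mem_span_singleton, PowerSeries.X_pow_dvd_iff, mem_J_iff]
  constructor
  · intro h
    have h0 := h 0 (by norm_num)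
    simpa using h0
  · intro h m hm
    interval_cases m
    simp [h]

theorem theta1_surjective : Function.Surjective (theta1 k r) := by
  intro s
  obtain ⟨f, rfl⟩ := Ideal.Quotient.mk_surjective s
  refine ⟨ArSing.xMap k r (PowerSeries.C (PowerSeries.coeff 0 f)) +
    ArSing.xMap k r 0 * ArSing.y k r, ?_⟩
  rw [theta1_apply, Ideal.Quotient.mk_eq_mk_iff_sub_mem, PowerSeries.maximalIdeal_eq_span_X,
    Ideal.span_singleton_pow, Ideal.mem_span_singleton, PowerSeries.X_pow_dvd_iff]
  intro m hm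
  interval_cases m
  simp

theorem length_quot_J :
    Module.length (ArSing.ring k r)
      (ArSing.ring k r ⧸ Ideal.span {ArSing.x k r, ArSing.y k r}) = 1 := by
  have h := length_of_theta k r _ 1 (theta1 k r) (theta1_surjective k r) (theta1_eq_zero_iff k r)
  rw [h]
  rfl

theorem constantCoeff_N (p : PowerSeries k) :
    PowerSeries.constantCoeff (N k p) = PowerSeries.constantCoeff p := by
  rw [N_apply, ← PowerSeries.coeff_zero_eq_constantCoeff_apply,
    ← PowerSeries.coeff_zero_eq_constantCoeff_apply, PowerSeries.coeff_rescale, pow_zero, one_mul]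

theorem flat_relation {R S : Type*} [CommRing R] [CommRing S] (φ : R →+* S) (hflat : φ.Flat)
    (f : Fin 2 → R) (z : Fin 2 → S) (h : φ (f 0) * z 0 + φ (f 1) * z 1 = 0) :
    ∃ (K : ℕ) (a : Fin 2 → Fin K → R) (w : Fin K → S),
      (∀ i, z i = ∑ j, φ (a i j) * w j) ∧ ∀ j, f 0 * a 0 j + f 1 * a 1 j = 0 := by
  letI : Algebra R S := φ.toAlgebra
  haveI : Module.Flat R S := hflat
  have hsm : ∀ (c : R) (a : S), c • a = φ c * a := fun c a => rfl
  have hrel : ∑ i : Fin 2, f i • z i = 0 := by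
    rw [Fin.sum_univ_two, hsm, hsm]
    exact h
  obtain ⟨K, a, w, hz, ha⟩ := Module.Flat.isTrivialRelation_of_sum_smul_eq_zero
    (R := R) (M := S) (f := f) (x := z) hrel
  refine ⟨K, a, w, fun i => ?_, fun j => ?_⟩
  · rw [hz i]
    exact Finset.sum_congr rfl (fun j _ => hsm _ _)
  · have := ha j
    rw [Fin.sum_univ_two] at this
    exact this

theorem notflat (m r : ℕ) (φ : ArSing.ring k m →ₐ[k] ArSing.ring k r)
    (hφx : φ (ArSing.x k m) = ArSing.x k r ^ 2)
    (hφy : φ (ArSing.y k m) = ArSing.x k r * ArSing.y k r)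
    (hφ : ∀ p q, φ (ArSing.xMap k m p + ArSing.xMap k m q * ArSing.y k m) =
      ArSing.xMap k r (E k p) + ArSing.xMap k r (PowerSeries.X * E k q) * ArSing.y k r) :
    ¬ φ.toRingHom.Flat := by
    intro hflat
    obtain ⟨K, a, w, hz, ha⟩ := flat_relation φ.toRingHom hflat
      ![ArSing.y k m, -ArSing.x k m] ![ArSing.x k r, ArSing.y k r] (by
        show φ (ArSing.y k m) * ArSing.x k r + φ (-ArSing.x k m) * ArSing.y k r = 0
        rw [map_neg, hφx, hφy]
        ring)
    have hc : ∀ j, ∃ c, c ∈ Ideal.span {ArSing.x k r, ArSing.y k r} ∧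
        φ (a 0 j) = ArSing.x k r * c := by
      intro j
      have h1 : ArSing.y k m * a 0 j + -ArSing.x k m * a 1 j = 0 := ha j
      obtain ⟨α, β, hαβ⟩ := decomp k m (a 0 j)
      obtain ⟨γ, δ, hγδ⟩ := decomp k m (a 1 j)
      rw [hαβ, hγδ, mul_comm (ArSing.y k m), y_mul, neg_mul (ArSing.x k m), x_mul,
        ← sub_eq_add_neg, sub_eq_zero] at h1
      obtain ⟨-, h4⟩ := uniq' k m _ _ _ _ h1
      refine ⟨ArSing.xMap k r (PowerSeries.X * E k δ) + ArSing.xMap k r (E k β) * ArSing.y k r,
        ?_, ?_⟩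
      · rw [mem_J_iff, map_mul, PowerSeries.constantCoeff_X, zero_mul]
      · rw [hαβ, hφ, h4, map_mul, E_X, map_mul, map_pow, map_mul, xMap_X, map_mul, xMap_X]
        ring
    choose c hcJ hcφ using hc
    have h5 : ArSing.x k r = ∑ j, φ (a 0 j) * w j := hz 0
    simp only [hcφ] at h5
    have h6 : (1 - ∑ j, c j * w j) * ArSing.x k r = 0 := by
      have : ArSing.x k r = ArSing.x k r * ∑ j, c j * w j := by
        rw [Finset.mul_sum]
        conv_lhs => rw [h5]
        exact Finset.sum_congr rfl (fun j _ => by ring)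
      linear_combination this
    have h7 := (mem_nonZeroDivisors_iff_right.1 (x_mem_nonZeroDivisors k r)) _ h6
    have h8 : (1 : ArSing.ring k r) = ∑ j, c j * w j := sub_eq_zero.1 h7
    apply one_notMem_J k r
    rw [h8]
    exact Ideal.sum_mem _ (fun j _ => Ideal.mul_mem_right _ _ (hcJ j))

theorem main14095 (k : Type u) [Field k] [IsAlgClosed k] (m r : ℕ)
    (hm : 1 ≤ m) (hr : r = 2 * m - 1) (h2 : (2 : k) ≠ 0) (hr1 : ((r + 1 : ℕ) : k) ≠ 0)
    (σ : ArSing.ring k r ≃ₐ[k] ArSing.ring k r) (hx : σ (ArSing.x k r) = -ArSing.x k r)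
    (hy : σ (ArSing.y k r) = -ArSing.y k r)
    (φ : ArSing.ring k m →ₐ[k] ArSing.ring k r) (hφx : φ (ArSing.x k m) = ArSing.x k r ^ 2)
    (hφy : φ (ArSing.y k m) = ArSing.x k r * ArSing.y k r) :
    (∀ a : ArSing.ring k r, σ a = a ↔ a ∈ φ.range) ∧ Function.Injective φ ∧
    ¬ φ.toRingHom.Flat ∧
    Module.length (ArSing.ring k r)
      (ArSing.ring k r ⧸ Ideal.span (Set.range fun a : ArSing.ring k r => σ a - a)) = 1 ∧
    ¬ (∃ g : ArSing.ring k r, g ∈ nonZeroDivisors (ArSing.ring k r) ∧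
      Ideal.span (Set.range fun a : ArSing.ring k r => σ a - a) = Ideal.span {g}) := by
  have hr1' : 1 ≤ r := by omega
  have hσ1 : ∀ p, σ (ArSing.xMap k r p) = ArSing.xMap k r (N k p) :=
    map_xMap k r (σ : ArSing.ring k r →ₐ[k] ArSing.ring k r) (N k)
      (by
        rw [N_X, map_neg, xMap_X]
        exact hx)
      (by
        rw [N_X, map_neg, xMap_X]
        exact (dvd_neg (a := ArSing.x k r)).2 (dvd_refl (ArSing.x k r)))
  have hσ : ∀ p q, σ (ArSing.xMap k r p + ArSing.xMap k r q * ArSing.y k r) =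
      ArSing.xMap k r (N k p) + ArSing.xMap k r (-N k q) * ArSing.y k r := by
    intro p q
    rw [map_add, map_mul, hσ1, hσ1, hy, map_neg]
    ring
  have hφ1 : ∀ p, φ (ArSing.xMap k m p) = ArSing.xMap k r (E k p) :=
    map_xMap k r φ (E k)
      (by rw [E_X, map_pow, xMap_X, hφx])
      (by
        rw [E_X, map_pow, xMap_X]
        exact dvd_pow_self (ArSing.x k r) two_ne_zero)
  have hφ : ∀ p q, φ (ArSing.xMap k m p + ArSing.xMap k m q * ArSing.y k m) =
      ArSing.xMap k r (E k p) + ArSing.xMap k r (PowerSeries.X * E k q) * ArSing.y k r := by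
    intro p q
    rw [map_add, map_mul, hφ1, hφ1, hφy, map_mul, xMap_X]
    ring
  have hJ : Ideal.span (Set.range fun a : ArSing.ring k r => σ a - a) =
      Ideal.span {ArSing.x k r, ArSing.y k r} := by
    apply le_antisymm
    · rw [Ideal.span_le]
      rintro _ ⟨a, rfl⟩
      obtain ⟨p, q, rfl⟩ := decomp k r a
      show σ _ - _ ∈ Ideal.span {ArSing.x k r, ArSing.y k r}
      rw [hσ]
      have e : ArSing.xMap k r (N k p) + ArSing.xMap k r (-N k q) * ArSing.y k r -
          (ArSing.xMap k r p + ArSing.xMap k r q * ArSing.y k r) =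
          ArSing.xMap k r (N k p - p) + ArSing.xMap k r (-N k q - q) * ArSing.y k r := by
        rw [map_sub, map_sub]
        ring
      rw [e, mem_J_iff, map_sub, constantCoeff_N, sub_self]
    · have key : ∀ z : ArSing.ring k r, σ z = -z →
          z ∈ Ideal.span (Set.range fun a : ArSing.ring k r => σ a - a) := by
        intro z hz
        have hmem : σ z - z ∈ Ideal.span (Set.range fun a : ArSing.ring k r => σ a - a) :=
          Ideal.subset_span ⟨z, rfl⟩
        have e1 : z = algebraMap k (ArSing.ring k r) ((-2 : k)⁻¹) * (σ z - z) := by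
          rw [hz]
          have e2 : -z - z = algebraMap k (ArSing.ring k r) (-2 : k) * z := by
            rw [map_neg, map_ofNat]
            ring
          rw [e2, ← mul_assoc, ← map_mul, inv_mul_cancel₀ (neg_ne_zero.2 h2), map_one, one_mul]
        rw [e1]
        exact Ideal.mul_mem_left _ _ hmem
      rw [Ideal.span_le, Set.insert_subset_iff, Set.singleton_subset_iff]
      exact ⟨key _ hx, key _ hy⟩
  have hinj : Function.Injective φ := by
    rw [injective_iff_map_eq_zero]
    intro b hb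
    obtain ⟨p0, q0, rfl⟩ := decomp k m b
    rw [hφ] at hb
    obtain ⟨h1, h3⟩ := uniq k r _ _ hb
    have e1 : p0 = 0 := (eo_uniq k p0 0 (by rw [map_zero, mul_zero, add_zero]; exact h1)).1
    have e2 : q0 = 0 := (eo_uniq k 0 q0 (by rw [map_zero, zero_add]; exact h3)).2
    rw [e1, e2, map_zero, zero_mul, add_zero]
  have hnotflat : ¬ φ.toRingHom.Flat := notflat k m r φ hφx hφy hφ
  refine ⟨?_, hinj, hnotflat, ?_, ?_⟩
  · intro a
    obtain ⟨p, q, rfl⟩ := decomp k r a
    rw [hσ]
    constructor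
    · intro h
      obtain ⟨hp, hq⟩ := uniq' k r _ _ _ _ h
      obtain ⟨a0, rfl⟩ := exists_E_of_N k h2 p hp
      obtain ⟨a1, b1, rfl⟩ : ∃ a1 b1, q = E k a1 + PowerSeries.X * E k b1 :=
        ⟨_, _, eo_decomp k q⟩
      rw [N_eo] at hq
      have h3 : E k (a1 + a1) + PowerSeries.X * E k 0 = 0 := by
        rw [map_zero, map_add, mul_zero, add_zero]
        linear_combination (-1 : PowerSeries k) * hq
      obtain ⟨ha1, -⟩ := eo_uniq k _ _ h3
      have ha10 := two_ps_eq_zero k h2 a1 ha1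
      refine (AlgHom.mem_range _).2
        ⟨ArSing.xMap k m a0 + ArSing.xMap k m b1 * ArSing.y k m, ?_⟩
      rw [hφ, ha10, map_zero, zero_add]
    · intro h
      obtain ⟨b, hb⟩ := (AlgHom.mem_range _).1 h
      obtain ⟨p0, q0, rfl⟩ := decomp k m b
      rw [hφ] at hb
      obtain ⟨h1, h3⟩ := uniq' k r _ _ _ _ hb
      rw [← h1, ← h3, N_E, map_mul, N_X, N_E]
      congr 2
      ring
  · rw [hJ]
    exact length_quot_J k r
  · rintro ⟨g, hg, hgJ⟩
    rw [hJ] at hgJ
    have hxg : ArSing.x k r ∈ Ideal.span {g} := by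
      rw [← hgJ]
      exact Ideal.subset_span (Set.mem_insert _ _)
    have hyg : ArSing.y k r ∈ Ideal.span {g} := by
      rw [← hgJ]
      exact Ideal.subset_span (Set.mem_insert_of_mem _ rfl)
    have hgJ' : g ∈ Ideal.span {ArSing.x k r, ArSing.y k r} := by
      rw [hgJ]
      exact Ideal.subset_span rfl
    obtain ⟨u, hu⟩ := Ideal.mem_span_singleton'.1 hxg
    obtain ⟨v, hv⟩ := Ideal.mem_span_singleton'.1 hyg
    obtain ⟨c, d, hcd⟩ := Ideal.mem_span_pair.1 hgJ'
    have hnz := mem_nonZeroDivisors_iff_right.1 hg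
    have h1 : (u * ArSing.y k r - v * ArSing.x k r) * g = 0 := by
      linear_combination (ArSing.y k r) * hu - (ArSing.x k r) * hv
    have h3 : u * ArSing.y k r = v * ArSing.x k r := sub_eq_zero.1 (hnz _ h1)
    obtain ⟨up, uq, rfl⟩ := decomp k r u
    obtain ⟨vp, vq, rfl⟩ := decomp k r v
    rw [y_mul, mul_comm _ (ArSing.x k r), x_mul] at h3
    obtain ⟨h4, h5⟩ := uniq' k r _ _ _ _ h3
    have hup : PowerSeries.constantCoeff up = 0 := by
      rw [h5, map_mul, PowerSeries.constantCoeff_X, zero_mul]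
    have hvp : PowerSeries.constantCoeff vp = 0 := by
      have h6 : PowerSeries.X * vp = PowerSeries.X * (PowerSeries.X ^ r * uq) := by
        rw [← h4, pow_succ]
        ring
      have h7 := mul_left_cancel₀ PowerSeries.X_ne_zero h6
      rw [h7, map_mul, map_pow, PowerSeries.constantCoeff_X, zero_pow (by omega), zero_mul]
    have huJ := (mem_J_iff k r up uq).2 hup
    have hvJ := (mem_J_iff k r vp vq).2 hvp
    have h8 : (1 - (c * (ArSing.xMap k r up + ArSing.xMap k r uq * ArSing.y k r) +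
        d * (ArSing.xMap k r vp + ArSing.xMap k r vq * ArSing.y k r))) * g = 0 := by
      linear_combination (-1 : ArSing.ring k r) * hcd - c * hu - d * hv
    have h9 := sub_eq_zero.1 (hnz _ h8)
    apply one_notMem_J k r
    rw [h9]
    exact Ideal.add_mem _ (Ideal.mul_mem_left _ _ huJ) (Ideal.mul_mem_left _ _ hvJ)

end Groth.Agent.Lib.ArSingH1
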