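import Groth.Agent.Lib.ArSing95_helper1

/-!
# S14096: the involution exchanging `x` and `y` on the node `k[[x,y]]/(y^2 - x^2)` (helper1)
-/

namespace Groth.Agent.Lib.ArSingH1

universe u

variable (k : Type u) [Field k]

theorem N_N (p : PowerSeries k) : N k (N k p) = p := by
  rw [N_apply, N_apply, PowerSeries.rescale_rescale, neg_mul_neg, one_mul,
    PowerSeries.rescale_one]
  rfl

noncomputable def half : PowerSeries k := PowerSeries.C (2⁻¹ : k)

theorem half_mul (h2 : (2 : k) ≠ 0) (f : PowerSeries k) : half k * (f + f) = f := by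
  have h1 : f + f = PowerSeries.C (2 : k) * f := by
    rw [map_ofNat]
    ring
  rw [h1, half, ← mul_assoc, ← map_mul, inv_mul_cancel₀ h2, map_one, one_mul]

theorem X_add_X_ne_zero (h2 : (2 : k) ≠ 0) :
    (PowerSeries.X + PowerSeries.X : PowerSeries k) ≠ 0 := by
  intro h
  exact PowerSeries.X_ne_zero (two_ps_eq_zero k h2 _ h)

noncomputable def ia : A1 k →+* PowerSeries k := ((iota k).symm : A1 k →+* PowerSeries k)

theorem ia_x0 : ia k (x0 k) = PowerSeries.X := by
  show (iota k).symm (x0 k) = _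
  rw [← iota_X, AlgEquiv.symm_apply_apply]

theorem ia_iota (p : PowerSeries k) : ia k (iota k p) = p := (iota k).symm_apply_apply p

theorem alpha_eval : (gpol k 1).eval₂ (ia k) PowerSeries.X = 0 := by
  rw [gpol, Polynomial.eval₂_sub, Polynomial.eval₂_pow, Polynomial.eval₂_X, Polynomial.eval₂_C,
    map_pow, ia_x0]
  ring

noncomputable def alphaR : ArSing.ring k 1 →+* PowerSeries k :=
  (AdjoinRoot.lift (ia k) PowerSeries.X (alpha_eval k)).comp
    (Psi k 1 : ArSing.ring k 1 →+* _)

theorem alphaR_apply (p q : PowerSeries k) :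
    alphaR k (ArSing.xMap k 1 p + ArSing.xMap k 1 q * ArSing.y k 1) =
      p + q * PowerSeries.X := by
  show AdjoinRoot.lift (ia k) PowerSeries.X (alpha_eval k)
    (Psi k 1 (ArSing.xMap k 1 p + ArSing.xMap k 1 q * ArSing.y k 1)) = _
  rw [map_add, map_mul, Psi_xMap, Psi_xMap, Psi_y, map_add, map_mul, AdjoinRoot.lift_of,
    AdjoinRoot.lift_of, AdjoinRoot.lift_root, ia_iota, ia_iota]

noncomputable def ib : A1 k →+* PowerSeries k :=
  ((N k : PowerSeries k →ₐ[k] PowerSeries k) : PowerSeries k →+* PowerSeries k).comp (ia k)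

theorem ib_iota (p : PowerSeries k) : ib k (iota k p) = N k p := by
  show N k (ia k (iota k p)) = _
  rw [ia_iota]

theorem beta_eval : (gpol k 1).eval₂ (ib k) PowerSeries.X = 0 := by
  rw [gpol, Polynomial.eval₂_sub, Polynomial.eval₂_pow, Polynomial.eval₂_X, Polynomial.eval₂_C,
    map_pow]
  have h1 : ib k (x0 k) = -PowerSeries.X := by
    show N k (ia k (x0 k)) = _
    rw [ia_x0, N_X]
  rw [h1]
  ring

noncomputable def betaR : ArSing.ring k 1 →+* PowerSeries k :=
  (AdjoinRoot.lift (ib k) PowerSeries.X (beta_eval k)).comp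
    (Psi k 1 : ArSing.ring k 1 →+* _)

theorem betaR_apply (p q : PowerSeries k) :
    betaR k (ArSing.xMap k 1 p + ArSing.xMap k 1 q * ArSing.y k 1) =
      N k p + N k q * PowerSeries.X := by
  show AdjoinRoot.lift (ib k) PowerSeries.X (beta_eval k)
    (Psi k 1 (ArSing.xMap k 1 p + ArSing.xMap k 1 q * ArSing.y k 1)) = _
  rw [map_add, map_mul, Psi_xMap, Psi_xMap, Psi_y, map_add, map_mul, AdjoinRoot.lift_of,
    AdjoinRoot.lift_of, AdjoinRoot.lift_root, ib_iota, ib_iota]

theorem algebraMap_eq (c : k) : algebraMap k (ArSing.ring k 1) c =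
    ArSing.xMap k 1 (algebraMap k (PowerSeries k) c) +
      ArSing.xMap k 1 0 * ArSing.y k 1 := by
  rw [AlgHom.commutes, map_zero, zero_mul, add_zero]

noncomputable def alphaA : ArSing.ring k 1 →ₐ[k] PowerSeries k :=
  { alphaR k with
    commutes' := fun c => by
      show alphaR k (algebraMap k (ArSing.ring k 1) c) = algebraMap k (PowerSeries k) c
      rw [algebraMap_eq, alphaR_apply, zero_mul, add_zero] }

noncomputable def betaA : ArSing.ring k 1 →ₐ[k] PowerSeries k :=
  { betaR k with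
    commutes' := fun c => by
      show betaR k (algebraMap k (ArSing.ring k 1) c) = algebraMap k (PowerSeries k) c
      rw [algebraMap_eq, betaR_apply, map_zero, zero_mul, add_zero, AlgHom.commutes] }

theorem alphaA_apply (a : ArSing.ring k 1) : alphaA k a = alphaR k a := rfl

theorem betaA_apply (a : ArSing.ring k 1) : betaA k a = betaR k a := rfl

theorem x_eq : ArSing.x k 1 =
    ArSing.xMap k 1 PowerSeries.X + ArSing.xMap k 1 0 * ArSing.y k 1 := by
  rw [xMap_X, map_zero, zero_mul, add_zero]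

theorem y_eq : ArSing.y k 1 =
    ArSing.xMap k 1 0 + ArSing.xMap k 1 1 * ArSing.y k 1 := by
  rw [map_zero, map_one, one_mul, zero_add]

theorem alpha_x : alphaR k (ArSing.x k 1) = PowerSeries.X := by
  rw [x_eq, alphaR_apply, zero_mul, add_zero]

theorem alpha_y : alphaR k (ArSing.y k 1) = PowerSeries.X := by
  rw [y_eq, alphaR_apply, one_mul, zero_add]

theorem beta_x : betaR k (ArSing.x k 1) = -PowerSeries.X := by
  rw [x_eq, betaR_apply, map_zero, zero_mul, add_zero, N_X]

theorem beta_y : betaR k (ArSing.y k 1) = PowerSeries.X := by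
  rw [y_eq, betaR_apply, map_zero, map_one, one_mul, zero_add]

theorem alpha_v : alphaR k (ArSing.y k 1 - ArSing.x k 1) = 0 := by
  rw [map_sub, alpha_x, alpha_y, sub_self]

theorem alpha_u : alphaR k (ArSing.x k 1 + ArSing.y k 1) = PowerSeries.X + PowerSeries.X := by
  rw [map_add, alpha_x, alpha_y]

theorem beta_v : betaR k (ArSing.y k 1 - ArSing.x k 1) = PowerSeries.X + PowerSeries.X := by
  rw [map_sub, beta_x, beta_y, sub_neg_eq_add]

theorem beta_u : betaR k (ArSing.x k 1 + ArSing.y k 1) = 0 := by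
  rw [map_add, beta_x, beta_y, neg_add_cancel]

theorem u_mul_v : (ArSing.x k 1 + ArSing.y k 1) * (ArSing.y k 1 - ArSing.x k 1) = 0 := by
  have h := y_sq k 1
  linear_combination h

theorem cc_eq (a : ArSing.ring k 1) :
    PowerSeries.constantCoeff (alphaR k a) = PowerSeries.constantCoeff (betaR k a) := by
  obtain ⟨p, q, rfl⟩ := decomp k 1 a
  rw [alphaR_apply, betaR_apply, map_add, map_add, map_mul, map_mul, PowerSeries.constantCoeff_X,
    mul_zero, mul_zero, add_zero, add_zero, constantCoeff_N]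

theorem pair_inj (h2 : (2 : k) ≠ 0) (a b : ArSing.ring k 1) (hα : alphaR k a = alphaR k b)
    (hβ : betaR k a = betaR k b) : a = b := by
  rw [← sub_eq_zero]
  have hα' : alphaR k (a - b) = 0 := by rw [map_sub, hα, sub_self]
  have hβ' : betaR k (a - b) = 0 := by rw [map_sub, hβ, sub_self]
  obtain ⟨p, q, hpq⟩ := decomp k 1 (a - b)
  rw [hpq] at hα' hβ' ⊢
  rw [alphaR_apply] at hα'
  rw [betaR_apply] at hβ'
  have h3 := congrArg (N k) hβ'
  rw [map_add, map_mul, N_N, N_N, N_X, map_zero] at h3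
  have hp : p + p = 0 := by linear_combination hα' + h3
  have hp0 := two_ps_eq_zero k h2 p hp
  rw [hp0, zero_add] at hα'
  have hq0 : q = 0 := (mul_eq_zero.1 hα').resolve_right PowerSeries.X_ne_zero
  rw [hp0, hq0, map_zero, zero_mul, add_zero]

theorem exists_beta (t : PowerSeries k) :
    ∃ c : ArSing.ring k 1, betaR k c = t :=
  ⟨ArSing.xMap k 1 (N k t) + ArSing.xMap k 1 0 * ArSing.y k 1, by
    rw [betaR_apply, N_N, map_zero, zero_mul, add_zero]⟩

theorem exists_pair (h2 : (2 : k) ≠ 0) (f h : PowerSeries k)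
    (hc : PowerSeries.constantCoeff f = PowerSeries.constantCoeff h) :
    ∃ a : ArSing.ring k 1, alphaR k a = f ∧ betaR k a = h := by
  have h1 : PowerSeries.X ∣ f - N k h := by
    rw [PowerSeries.X_dvd_iff, map_sub, constantCoeff_N, hc, sub_self]
  obtain ⟨d, hd⟩ := h1
  have hNd : PowerSeries.X * N k d = h - N k f := by
    have h3 := congrArg (N k) hd
    rw [map_sub, N_N, map_mul, N_X] at h3
    linear_combination h3
  refine ⟨ArSing.xMap k 1 (half k * (f + N k h)) + ArSing.xMap k 1 (half k * d) * ArSing.y k 1,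
    ?_, ?_⟩
  · rw [alphaR_apply]
    have e : half k * (f + N k h) + half k * d * PowerSeries.X = half k * (f + f) := by
      linear_combination (-(half k)) * hd
    rw [e, half_mul k h2]
  · rw [betaR_apply, map_mul, map_mul, map_add, N_N]
    have hh : N k (half k) = half k := by
      rw [half, N_apply]
      ext n
      rw [PowerSeries.coeff_rescale, PowerSeries.coeff_C]
      split_ifs with hn
      · rw [hn, pow_zero, one_mul]
      · rw [mul_zero]
    rw [hh]
    have e : half k * (N k f + h) + half k * N k d * PowerSeries.X = half k * (h + h) := by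
      linear_combination (half k) * hNd
    rw [e, half_mul k h2]

/-- algebra maps `A_1 → k[[t]]` are determined by the images of `u = x + y` and `v = y - x` -/
theorem hom_ext_B (h2 : (2 : k) ≠ 0) (f f' : ArSing.ring k 1 →ₐ[k] PowerSeries k)
    (hu : f (ArSing.x k 1 + ArSing.y k 1) = f' (ArSing.x k 1 + ArSing.y k 1))
    (hv : f (ArSing.y k 1 - ArSing.x k 1) = f' (ArSing.y k 1 - ArSing.x k 1))
    (hX : PowerSeries.X ∣ f' (ArSing.x k 1)) : f = f' := by
  have e : ArSing.x k 1 = algebraMap k (ArSing.ring k 1) (2⁻¹ : k) *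
      ((ArSing.x k 1 + ArSing.y k 1) - (ArSing.y k 1 - ArSing.x k 1)) := by
    have e2 : (ArSing.x k 1 + ArSing.y k 1) - (ArSing.y k 1 - ArSing.x k 1) =
        algebraMap k (ArSing.ring k 1) (2 : k) * ArSing.x k 1 := by
      rw [map_ofNat]
      ring
    rw [e2, ← mul_assoc, ← map_mul, inv_mul_cancel₀ h2, map_one, one_mul]
  have huv : f ((ArSing.x k 1 + ArSing.y k 1) - (ArSing.y k 1 - ArSing.x k 1)) =
      f' ((ArSing.x k 1 + ArSing.y k 1) - (ArSing.y k 1 - ArSing.x k 1)) := by
    rw [map_sub f, map_sub f', hu, hv]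
  have hx : f (ArSing.x k 1) = f' (ArSing.x k 1) :=
    calc f (ArSing.x k 1) = f (algebraMap k (ArSing.ring k 1) (2⁻¹ : k) *
          ((ArSing.x k 1 + ArSing.y k 1) - (ArSing.y k 1 - ArSing.x k 1))) := congrArg f e
      _ = f' (algebraMap k (ArSing.ring k 1) (2⁻¹ : k) *
          ((ArSing.x k 1 + ArSing.y k 1) - (ArSing.y k 1 - ArSing.x k 1))) := by
        rw [map_mul, map_mul, AlgHom.commutes, AlgHom.commutes, huv]
      _ = f' (ArSing.x k 1) := (congrArg f' e).symm
  have hy : f (ArSing.y k 1) = f' (ArSing.y k 1) := by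
    have e3 : ArSing.y k 1 = (ArSing.x k 1 + ArSing.y k 1) - ArSing.x k 1 := by ring
    calc f (ArSing.y k 1) = f ((ArSing.x k 1 + ArSing.y k 1) - ArSing.x k 1) := congrArg f e3
      _ = f' ((ArSing.x k 1 + ArSing.y k 1) - ArSing.x k 1) := by
        rw [map_sub f, map_sub f', hu, hx]
      _ = f' (ArSing.y k 1) := (congrArg f' e3).symm
  have h1 : f.comp (ArSing.xMap k 1) = f'.comp (ArSing.xMap k 1) :=
    algHom_ext_of_sep k PowerSeries.X (eq_zero_of_forall_X_pow_dvd k) _ _
      (by
        show f (ArSing.xMap k 1 PowerSeries.X) = f' (ArSing.xMap k 1 PowerSeries.X)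
        rw [xMap_X, hx])
      (by
        show PowerSeries.X ∣ f (ArSing.xMap k 1 PowerSeries.X)
        rw [xMap_X, hx]
        exact hX)
  apply AlgHom.ext
  intro a
  obtain ⟨p, q, rfl⟩ := decomp k 1 a
  have hp : f (ArSing.xMap k 1 p) = f' (ArSing.xMap k 1 p) := DFunLike.congr_fun h1 p
  have hq : f (ArSing.xMap k 1 q) = f' (ArSing.xMap k 1 q) := DFunLike.congr_fun h1 q
  rw [map_add, map_add, map_mul, map_mul, hy, hp, hq]

noncomputable def E' : PowerSeries k →ₐ[k] PowerSeries k :=
  (E k).comp (PowerSeries.rescaleAlgHom (2 : k))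

theorem E'_apply (p : PowerSeries k) : E' k p = E k (PowerSeries.rescale (2 : k) p) := by
  show E k (PowerSeries.rescaleAlgHom (2 : k) p) = _
  congr 1
  exact RingHom.congr_fun (PowerSeries.coe_rescaleAlgHom (2 : k)) p

theorem E'_X : E' k PowerSeries.X = PowerSeries.X ^ 2 + PowerSeries.X ^ 2 := by
  rw [E'_apply, PowerSeries.rescale_X, map_mul, E_X, E, PowerSeries.expand_C, map_ofNat]
  ring

theorem E'_injective (h2 : (2 : k) ≠ 0) (p : PowerSeries k) (h : E' k p = 0) : p = 0 := by
  rw [E'_apply] at h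
  have h1 : PowerSeries.rescale (2 : k) p = 0 :=
    (eo_uniq k _ 0 (by rw [map_zero, mul_zero, add_zero]; exact h)).1
  ext n
  have h3 := congrArg (PowerSeries.coeff n) h1
  rw [PowerSeries.coeff_rescale, map_zero] at h3
  rw [map_zero]
  exact (mul_eq_zero.1 h3).resolve_left (pow_ne_zero _ h2)

theorem N_E' (p : PowerSeries k) : N k (E' k p) = E' k p := by
  rw [E'_apply, N_E]

theorem exists_E' (h2 : (2 : k) ≠ 0) (g : PowerSeries k) :
    ∃ h, E' k h = E k g ∧ PowerSeries.constantCoeff h = PowerSeries.constantCoeff (E k g) := by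
  refine ⟨PowerSeries.rescale (2⁻¹ : k) g, ?_, ?_⟩
  · rw [E'_apply, PowerSeries.rescale_rescale, inv_mul_cancel₀ h2, PowerSeries.rescale_one]
    rfl
  · rw [E, PowerSeries.constantCoeff_expand, ← PowerSeries.coeff_zero_eq_constantCoeff_apply,
      ← PowerSeries.coeff_zero_eq_constantCoeff_apply, PowerSeries.coeff_rescale, pow_zero,
      one_mul]

theorem ker_alpha (h2 : (2 : k) ≠ 0) :
    Ideal.span {ArSing.y k 1 - ArSing.x k 1} = RingHom.ker (alphaR k) := by
  ext a
  rw [Ideal.mem_span_singleton', RingHom.mem_ker]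
  constructor
  · rintro ⟨c, rfl⟩
    rw [map_mul, alpha_v, mul_zero]
  · intro ha
    have h1 : PowerSeries.X ∣ betaR k a := by
      rw [PowerSeries.X_dvd_iff, ← cc_eq, ha, map_zero]
    obtain ⟨d, hd⟩ := h1
    obtain ⟨c, hc⟩ := exists_beta k (half k * d)
    refine ⟨c, pair_inj k h2 _ _ ?_ ?_⟩
    · rw [map_mul, alpha_v, mul_zero, ha]
    · rw [map_mul, beta_v, hc, hd]
      have := half_mul k h2 PowerSeries.X
      linear_combination d * this

theorem main14096 (k : Type u) [Field k] [IsAlgClosed k]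
    (h2 : (2 : k) ≠ 0)
    (σ : ArSing.ring k 1 ≃ₐ[k] ArSing.ring k 1) (hx : σ (ArSing.x k 1) = ArSing.y k 1)
    (hy : σ (ArSing.y k 1) = ArSing.x k 1)
    (φ : ArSing.ring k 1 →ₐ[k] ArSing.ring k 1)
    (hφu : φ (ArSing.x k 1 + ArSing.y k 1) = ArSing.x k 1 + ArSing.y k 1)
    (hφv : φ (ArSing.y k 1 - ArSing.x k 1) = (ArSing.y k 1 - ArSing.x k 1) ^ 2) :
    (∀ a : ArSing.ring k 1, σ a = a ↔ a ∈ φ.range) ∧ Function.Injective φ ∧
    Ideal.span (Set.range fun a : ArSing.ring k 1 => σ a - a) =
      Ideal.span {ArSing.y k 1 - ArSing.x k 1} ∧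
    (ArSing.y k 1 - ArSing.x k 1) ∉ nonZeroDivisors (ArSing.ring k 1) ∧
    Ideal.span {ArSing.y k 1 - ArSing.x k 1} ∈ minimalPrimes (ArSing.ring k 1) ∧
    ¬ φ.toRingHom.Flat := by
  have hασ : ∀ a, alphaR k (σ a) = alphaR k a := by
    have h := hom_ext_B k h2 ((alphaA k).comp (σ : ArSing.ring k 1 →ₐ[k] ArSing.ring k 1))
      (alphaA k)
      (by
        show alphaR k (σ (ArSing.x k 1 + ArSing.y k 1)) = alphaR k (ArSing.x k 1 + ArSing.y k 1)
        rw [map_add, hx, hy, add_comm])
      (by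
        show alphaR k (σ (ArSing.y k 1 - ArSing.x k 1)) = alphaR k (ArSing.y k 1 - ArSing.x k 1)
        rw [map_sub, hx, hy, map_sub, map_sub, alpha_x, alpha_y])
      (by
        show PowerSeries.X ∣ alphaR k (ArSing.x k 1)
        rw [alpha_x])
    exact fun a => DFunLike.congr_fun h a
  have hβσ : ∀ a, betaR k (σ a) = N k (betaR k a) := by
    have h := hom_ext_B k h2 ((betaA k).comp (σ : ArSing.ring k 1 →ₐ[k] ArSing.ring k 1))
      ((N k).comp (betaA k))
      (by
        show betaR k (σ (ArSing.x k 1 + ArSing.y k 1)) =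
          N k (betaR k (ArSing.x k 1 + ArSing.y k 1))
        rw [map_add, hx, hy, add_comm, beta_u, map_zero])
      (by
        show betaR k (σ (ArSing.y k 1 - ArSing.x k 1)) =
          N k (betaR k (ArSing.y k 1 - ArSing.x k 1))
        rw [map_sub, hx, hy, beta_v, map_sub, beta_x, beta_y, map_add, N_X]
        ring)
      (by
        show PowerSeries.X ∣ N k (betaR k (ArSing.x k 1))
        rw [beta_x, map_neg, N_X, neg_neg])
    exact fun a => DFunLike.congr_fun h a
  have hαφ : ∀ a, alphaR k (φ a) = alphaR k a := by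
    have h := hom_ext_B k h2 ((alphaA k).comp φ) (alphaA k)
      (by
        show alphaR k (φ (ArSing.x k 1 + ArSing.y k 1)) = alphaR k (ArSing.x k 1 + ArSing.y k 1)
        rw [hφu])
      (by
        show alphaR k (φ (ArSing.y k 1 - ArSing.x k 1)) = alphaR k (ArSing.y k 1 - ArSing.x k 1)
        rw [hφv, map_pow, alpha_v, zero_pow two_ne_zero])
      (by
        show PowerSeries.X ∣ alphaR k (ArSing.x k 1)
        rw [alpha_x])
    exact fun a => DFunLike.congr_fun h a
  have hβφ : ∀ a, betaR k (φ a) = E' k (betaR k a) := by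
    have h := hom_ext_B k h2 ((betaA k).comp φ) ((E' k).comp (betaA k))
      (by
        show betaR k (φ (ArSing.x k 1 + ArSing.y k 1)) =
          E' k (betaR k (ArSing.x k 1 + ArSing.y k 1))
        rw [hφu, beta_u, map_zero])
      (by
        show betaR k (φ (ArSing.y k 1 - ArSing.x k 1)) =
          E' k (betaR k (ArSing.y k 1 - ArSing.x k 1))
        rw [hφv, map_pow, beta_v, map_add, E'_X]
        ring)
      (by
        show PowerSeries.X ∣ E' k (betaR k (ArSing.x k 1))
        rw [beta_x, map_neg, E'_X]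
        exact ⟨-(PowerSeries.X + PowerSeries.X), by ring⟩)
    exact fun a => DFunLike.congr_fun h a
  have hinj : Function.Injective φ := by
    rw [injective_iff_map_eq_zero]
    intro b hb
    have h1 : alphaR k b = 0 := by rw [← hαφ, hb, map_zero]
    have h3 : betaR k b = 0 := by
      apply E'_injective k h2
      rw [← hβφ, hb, map_zero]
    exact pair_inj k h2 _ _ (by rw [h1, map_zero]) (by rw [h3, map_zero])
  have hσv : σ (ArSing.y k 1 - ArSing.x k 1) = -(ArSing.y k 1 - ArSing.x k 1) := by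
    rw [map_sub, hx, hy]
    ring
  have hJ : Ideal.span (Set.range fun a : ArSing.ring k 1 => σ a - a) =
      Ideal.span {ArSing.y k 1 - ArSing.x k 1} := by
    apply le_antisymm
    · rw [Ideal.span_le]
      rintro _ ⟨a, rfl⟩
      show σ a - a ∈ Ideal.span {ArSing.y k 1 - ArSing.x k 1}
      rw [ker_alpha k h2, RingHom.mem_ker, map_sub, hασ, sub_self]
    · rw [Ideal.span_le, Set.singleton_subset_iff]
      have hmem : σ (ArSing.y k 1 - ArSing.x k 1) - (ArSing.y k 1 - ArSing.x k 1) ∈
          Ideal.span (Set.range fun a : ArSing.ring k 1 => σ a - a) :=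
        Ideal.subset_span ⟨ArSing.y k 1 - ArSing.x k 1, rfl⟩
      have e1 : ArSing.y k 1 - ArSing.x k 1 = algebraMap k (ArSing.ring k 1) ((-2 : k)⁻¹) *
          (σ (ArSing.y k 1 - ArSing.x k 1) - (ArSing.y k 1 - ArSing.x k 1)) := by
        rw [hσv]
        have e2 : -(ArSing.y k 1 - ArSing.x k 1) - (ArSing.y k 1 - ArSing.x k 1) =
            algebraMap k (ArSing.ring k 1) (-2 : k) * (ArSing.y k 1 - ArSing.x k 1) := by
          rw [map_neg, map_ofNat]
          ring
        rw [e2, ← mul_assoc, ← map_mul, inv_mul_cancel₀ (neg_ne_zero.2 h2), map_one, one_mul]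
      rw [SetLike.mem_coe, e1]
      exact Ideal.mul_mem_left _ _ hmem
  have hu_ne : alphaR k (ArSing.x k 1 + ArSing.y k 1) ≠ 0 := by
    rw [alpha_u]
    exact X_add_X_ne_zero k h2
  have hnzd : (ArSing.y k 1 - ArSing.x k 1) ∉ nonZeroDivisors (ArSing.ring k 1) := by
    intro h
    have h1 := (mem_nonZeroDivisors_iff_right.1 h) _ (u_mul_v k)
    apply hu_ne
    rw [h1, map_zero]
  have hprime : Ideal.span {ArSing.y k 1 - ArSing.x k 1} ∈ minimalPrimes (ArSing.ring k 1) := by
    rw [minimalPrimes_eq_minimals]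
    refine ⟨?_, ?_⟩
    · rw [ker_alpha k h2]
      exact RingHom.ker_isPrime _
    · intro P hP hle
      rw [Ideal.span_le, Set.singleton_subset_iff]
      have h0 : (ArSing.x k 1 + ArSing.y k 1) * (ArSing.y k 1 - ArSing.x k 1) ∈ P := by
        rw [u_mul_v]
        exact P.zero_mem
      rcases hP.mem_or_mem h0 with h | h
      · exfalso
        have h1 := hle h
        rw [ker_alpha k h2, RingHom.mem_ker] at h1
        exact hu_ne h1
      · exact h
  have hnotflat : ¬ φ.toRingHom.Flat := by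
    intro hflat
    obtain ⟨K, a, w, hz, ha⟩ := flat_relation φ.toRingHom hflat
      ![ArSing.x k 1 + ArSing.y k 1, 0] ![ArSing.y k 1 - ArSing.x k 1, 0] (by
        show φ (ArSing.x k 1 + ArSing.y k 1) * (ArSing.y k 1 - ArSing.x k 1) + φ 0 * 0 = 0
        rw [hφu, u_mul_v, mul_zero, add_zero])
    have hc : ∀ j, ∃ c, c * (ArSing.y k 1 - ArSing.x k 1) = a 0 j := by
      intro j
      have h1 : (ArSing.x k 1 + ArSing.y k 1) * a 0 j + 0 * a 1 j = 0 := ha j
      rw [zero_mul, add_zero] at h1
      have h3 := congrArg (alphaR k) h1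
      rw [map_mul, map_zero] at h3
      have h4 : alphaR k (a 0 j) = 0 := (mul_eq_zero.1 h3).resolve_left hu_ne
      have h5 : a 0 j ∈ Ideal.span {ArSing.y k 1 - ArSing.x k 1} := by
        rw [ker_alpha k h2, RingHom.mem_ker]
        exact h4
      exact Ideal.mem_span_singleton'.1 h5
    choose c hc using hc
    have h5 : ArSing.y k 1 - ArSing.x k 1 = ∑ j, φ (a 0 j) * w j := hz 0
    have h6 : ArSing.y k 1 - ArSing.x k 1 =
        (ArSing.y k 1 - ArSing.x k 1) ^ 2 * ∑ j, φ (c j) * w j := by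
      rw [Finset.mul_sum]
      conv_lhs => rw [h5]
      refine Finset.sum_congr rfl (fun j _ => ?_)
      rw [← hc j, map_mul, hφv]
      ring
    have h7 := congrArg (betaR k) h6
    rw [map_mul, map_pow, beta_v] at h7
    have h8 : (PowerSeries.X + PowerSeries.X : PowerSeries k) * 1 =
        (PowerSeries.X + PowerSeries.X) *
          ((PowerSeries.X + PowerSeries.X) * betaR k (∑ j, φ (c j) * w j)) := by
      rw [mul_one]
      conv_lhs => rw [h7]
      ring
    have h9 := mul_left_cancel₀ (X_add_X_ne_zero k h2) h8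
    have h10 := congrArg PowerSeries.constantCoeff h9
    rw [map_one, map_mul, map_add, PowerSeries.constantCoeff_X, add_zero, zero_mul] at h10
    exact one_ne_zero h10
  refine ⟨?_, hinj, hJ, hnzd, hprime, hnotflat⟩
  intro a
  constructor
  · intro h
    have h1 : N k (betaR k a) = betaR k a := by rw [← hβσ, h]
    obtain ⟨g, hg⟩ := exists_E_of_N k h2 _ h1
    obtain ⟨t, ht, htc⟩ := exists_E' k h2 g
    obtain ⟨b, hb1, hb2⟩ := exists_pair k h2 (alphaR k a) t (by rw [htc, ← hg, cc_eq])
    refine (AlgHom.mem_range _).2 ⟨b, pair_inj k h2 _ _ ?_ ?_⟩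
    · rw [hαφ, hb1]
    · rw [hβφ, hb2, ht, hg]
  · intro h
    obtain ⟨b, rfl⟩ := (AlgHom.mem_range _).1 h
    apply pair_inj k h2
    · rw [hασ]
    · rw [hβσ, hβφ, N_E']

end Groth.Agent.Lib.ArSingH1
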