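import Mathlib

/-!
# Formal inverse function theorem for multivariate power series (helper4)

`Ifil σ R N` : power series of order `≥ N`; every `R`-algebra homomorphism between power series
rings in finitely many variables sending the variables to series without constant term respects
these filtrations and is determined by the images of the variables (`algHom_ext_of_X`);
`bijective_of_near_id`, `formal_inverse`, `bijective_of_diag`, `bijective_of_shear`,
`exists_cube_root` (characteristic two).
-/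

set_option autoImplicit false

namespace Groth.Agent.Lib.PSInvH4

open MvPowerSeries Finsupp

section Fil

variable (σ : Type*) (R : Type*) [CommRing R]

/-- power series all of whose coefficients in degree `< N` vanish -/
def Ifil (N : ℕ) : Submodule R (MvPowerSeries σ R) where
  carrier := {f | ∀ d : σ →₀ ℕ, d.degree < N → coeff d f = 0}
  add_mem' := by
    intro f g hf hg d hd
    rw [map_add, hf d hd, hg d hd, add_zero]
  zero_mem' := by
    intro d _
    exact map_zero _
  smul_mem' := by
    intro c f hf d hd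
    rw [map_smul, hf d hd, smul_zero]

variable {σ R}

theorem mem_Ifil {N : ℕ} {f : MvPowerSeries σ R} :
    f ∈ Ifil σ R N ↔ ∀ d : σ →₀ ℕ, d.degree < N → coeff d f = 0 := Iff.rfl

theorem mem_Ifil_iff_le_order {N : ℕ} {f : MvPowerSeries σ R} :
    f ∈ Ifil σ R N ↔ (N : ℕ∞) ≤ f.order := by
  constructor
  · intro h
    exact MvPowerSeries.le_order fun d hd => h d (by exact_mod_cast hd)
  · intro h d hd
    exact coeff_of_lt_order (lt_of_lt_of_le (by exact_mod_cast hd) h)

theorem Ifil_mono {N M : ℕ} (h : N ≤ M) : Ifil σ R M ≤ Ifil σ R N :=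
  fun _ hf d hd => hf d (lt_of_lt_of_le hd h)

theorem mem_Ifil_zero (f : MvPowerSeries σ R) : f ∈ Ifil σ R 0 :=
  fun d hd => absurd hd (Nat.not_lt_zero _)

theorem mul_mem_Ifil {a b : ℕ} {f g : MvPowerSeries σ R} (hf : f ∈ Ifil σ R a)
    (hg : g ∈ Ifil σ R b) : f * g ∈ Ifil σ R (a + b) := by
  rw [mem_Ifil_iff_le_order] at hf hg ⊢
  rw [Nat.cast_add]
  exact (add_le_add hf hg).trans le_order_mul

theorem eq_zero_of_forall_mem_Ifil {f : MvPowerSeries σ R} (h : ∀ N, f ∈ Ifil σ R N) :
    f = 0 := by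
  ext d
  rw [map_zero]
  exact h (d.degree + 1) d (Nat.lt_succ_self _)

theorem mem_Ifil_one_iff {f : MvPowerSeries σ R} :
    f ∈ Ifil σ R 1 ↔ constantCoeff f = 0 := by
  rw [mem_Ifil_iff_le_order, Nat.cast_one, one_le_order_iff_constCoeff_eq_zero]

theorem X_mem_Ifil_one (i : σ) : (X i : MvPowerSeries σ R) ∈ Ifil σ R 1 :=
  mem_Ifil_one_iff.mpr (constantCoeff_X i)

theorem exists_single_of_degree_eq_one {d : σ →₀ ℕ} (h : d.degree = 1) :
    ∃ j, d = single j 1 := by
  classical
  have hd : d ≠ 0 := by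
    rintro rfl
    rw [map_zero] at h
    exact zero_ne_one h
  obtain ⟨j, hj⟩ := Finsupp.support_nonempty_iff.mpr hd
  have hj' : d j ≠ 0 := Finsupp.mem_support_iff.mp hj
  have hle : single j 1 ≤ d := Finsupp.single_le_iff.mpr (Nat.one_le_iff_ne_zero.mpr hj')
  have hadd : d - single j 1 + single j 1 = d := tsub_add_cancel_of_le hle
  have hdeg : (d - single j 1).degree + 1 = d.degree := by
    conv_rhs => rw [← hadd, map_add, degree_single]
  have h0 : (d - single j 1).degree = 0 := by omega
  have he : d - single j 1 = 0 := (degree_eq_zero_iff _).mp h0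
  refine ⟨j, ?_⟩
  rw [← hadd, he, zero_add]

end Fil

section Decomp

variable {σ : Type*} [Fintype σ] [DecidableEq σ] {R : Type*} [CommRing R]

theorem exists_pick [Nonempty σ] :
    ∃ pick : (σ →₀ ℕ) → σ, ∀ d : σ →₀ ℕ, d ≠ 0 → d (pick d) ≠ 0 := by
  have h : ∀ d : σ →₀ ℕ, ∃ i : σ, d ≠ 0 → d i ≠ 0 := by
    intro d
    by_cases hd : d = 0
    · exact ⟨Classical.arbitrary σ, fun h => absurd hd h⟩
    · obtain ⟨i, hi⟩ := Finsupp.support_nonempty_iff.mpr hd
      exact ⟨i, fun _ => Finsupp.mem_support_iff.mp hi⟩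
  choose pick hpick using h
  exact ⟨pick, hpick⟩

/-- a power series of order `≥ N + 1` is a combination of the variables with coefficients of
order `≥ N` -/
theorem decomp {N : ℕ} {f : MvPowerSeries σ R} (hf : f ∈ Ifil σ R (N + 1)) :
    ∃ g : σ → MvPowerSeries σ R, (∀ i, g i ∈ Ifil σ R N) ∧ f = ∑ i, X i * g i := by
  rcases isEmpty_or_nonempty σ with hσ | hσ
  · refine ⟨fun _ => 0, fun _ => Submodule.zero_mem _, ?_⟩
    rw [Finset.univ_eq_empty, Finset.sum_empty]
    ext d
    rw [map_zero]
    exact hf d (by rw [Subsingleton.elim d 0, map_zero]; exact Nat.succ_pos N)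
  · obtain ⟨pick, hpick⟩ := exists_pick (σ := σ)
    obtain ⟨g, hg⟩ : ∃ g : σ → MvPowerSeries σ R, ∀ i e,
        coeff e (g i) = if pick (e + single i 1) = i then coeff (e + single i 1) f else 0 :=
      ⟨fun i e => if pick (e + single i 1) = i then coeff (e + single i 1) f else 0,
        fun i e => rfl⟩
    refine ⟨g, ?_, ?_⟩
    · intro i e he
      rw [hg]
      split_ifs with h
      · exact hf _ (by rw [map_add, degree_single]; omega)
      · rfl
    · ext d
      rw [map_sum]
      by_cases hd : d = 0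
      · subst hd
        rw [hf 0 (by rw [map_zero]; exact Nat.succ_pos N)]
        symm
        apply Finset.sum_eq_zero
        intro i _
        exact coeff_zero_X_mul _ i
      · have hp := hpick d hd
        rw [Finset.sum_eq_single (pick d)]
        · have hle : single (pick d) 1 ≤ d :=
            Finsupp.single_le_iff.mpr (Nat.one_le_iff_ne_zero.mpr hp)
          have hadd : d - single (pick d) 1 + single (pick d) 1 = d := tsub_add_cancel_of_le hle
          rw [X_def, coeff_monomial_mul, if_pos hle, one_mul, hg, hadd, if_pos rfl]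
        · intro i _ hi
          rw [X_def, coeff_monomial_mul]
          split_ifs with hle
          · have hadd : d - single i 1 + single i 1 = d := tsub_add_cancel_of_le hle
            rw [one_mul, hg, hadd, if_neg (fun h => hi h.symm)]
          · rfl
        · intro h
          exact absurd (Finset.mem_univ _) h

end Decomp

section Hom

variable {σ : Type*} [Fintype σ] [DecidableEq σ] {τ : Type*} {R : Type*} [CommRing R]

/-- algebra homomorphisms sending the variables to series without constant term respect the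
order filtration -/
theorem algHom_mem_Ifil (φ : MvPowerSeries σ R →ₐ[R] MvPowerSeries τ R)
    (h0 : ∀ i, φ (X i) ∈ Ifil τ R 1) :
    ∀ (N : ℕ) (f : MvPowerSeries σ R), f ∈ Ifil σ R N → φ f ∈ Ifil τ R N := by
  intro N
  induction N with
  | zero =>
    intro f _
    exact mem_Ifil_zero _
  | succ N ih =>
    intro f hf
    obtain ⟨g, hg, rfl⟩ := decomp hf
    rw [map_sum]
    refine Submodule.sum_mem _ fun i _ => ?_
    rw [map_mul, add_comm N 1]
    exact mul_mem_Ifil (h0 i) (ih _ (hg i))

theorem agree_on_poly {B : Type*} [Semiring B] [Algebra R B]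
    (φ ψ : MvPowerSeries σ R →ₐ[R] B)
    (h : ∀ i, φ (X i) = ψ (X i)) (p : MvPolynomial σ R) :
    φ (p : MvPowerSeries σ R) = ψ (p : MvPowerSeries σ R) := by
  induction p using MvPolynomial.induction_on with
  | C a =>
    rw [MvPolynomial.coe_C]
    exact (φ.commutes a).trans (ψ.commutes a).symm
  | add p q hp hq => rw [MvPolynomial.coe_add, map_add, map_add, hp, hq]
  | mul_X p i hp => rw [MvPolynomial.coe_mul, MvPolynomial.coe_X, map_mul, map_mul, hp, h]

/-- such algebra homomorphisms are determined by the images of the variables -/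
theorem algHom_ext_of_X (φ ψ : MvPowerSeries σ R →ₐ[R] MvPowerSeries τ R)
    (h0 : ∀ i, constantCoeff (φ (X i)) = 0) (h : ∀ i, φ (X i) = ψ (X i)) : φ = ψ := by
  have h0φ : ∀ i, φ (X i) ∈ Ifil τ R 1 := fun i => mem_Ifil_one_iff.mpr (h0 i)
  have h0ψ : ∀ i, ψ (X i) ∈ Ifil τ R 1 := fun i => by rw [← h i]; exact h0φ i
  apply AlgHom.ext
  intro f
  ext d
  obtain ⟨p, hp⟩ : ∃ p : MvPolynomial σ R,
      f - (p : MvPowerSeries σ R) ∈ Ifil σ R (d.degree + 1) := by
    refine ⟨truncTotal (d.degree + 1) f, fun e he => ?_⟩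
    rw [map_sub, MvPolynomial.coeff_coe, coeff_truncTotal _ he, sub_self]
  have h1 := algHom_mem_Ifil φ h0φ _ _ hp d (Nat.lt_succ_self _)
  have h2 := algHom_mem_Ifil ψ h0ψ _ _ hp d (Nat.lt_succ_self _)
  rw [map_sub, map_sub, sub_eq_zero] at h1 h2
  rw [h1, h2, agree_on_poly φ ψ h p]

theorem exists_algHom (a : σ → MvPowerSeries τ R) (h0 : ∀ i, constantCoeff (a i) = 0) :
    ∃ φ : MvPowerSeries σ R →ₐ[R] MvPowerSeries τ R, ∀ i, φ (X i) = a i :=
  ⟨substAlgHom (hasSubst_of_constantCoeff_zero h0), fun i => substAlgHom_X _ i⟩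

end Hom

section NearId

variable {σ : Type*} [Fintype σ] [DecidableEq σ] {R : Type*} [CommRing R]
  (φ : MvPowerSeries σ R →ₐ[R] MvPowerSeries σ R)

theorem sub_self_mem (h2 : ∀ i, φ (X i) - X i ∈ Ifil σ R 2) :
    ∀ (N : ℕ) (f : MvPowerSeries σ R), f ∈ Ifil σ R N → φ f - f ∈ Ifil σ R (N + 1) := by
  have h0 : ∀ i, φ (X i) ∈ Ifil σ R 1 := fun i => by
    have := Submodule.add_mem _ (Ifil_mono (by norm_num : 1 ≤ 2) (h2 i)) (X_mem_Ifil_one i)
    rwa [sub_add_cancel] at this
  have hpres := algHom_mem_Ifil φ h0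
  intro N
  induction N with
  | zero =>
    intro f _
    have hf1 : f - C (constantCoeff f) ∈ Ifil σ R 1 := by
      rw [mem_Ifil_one_iff, map_sub, constantCoeff_C, sub_self]
    have hC : φ (C (constantCoeff f)) = C (constantCoeff f) := φ.commutes _
    have h3 := hpres 1 _ hf1
    have e : φ f - f = φ (f - C (constantCoeff f)) - (f - C (constantCoeff f)) := by
      rw [map_sub, hC]; ring
    rw [e]
    exact Submodule.sub_mem _ h3 hf1
  | succ N ih =>
    intro f hf
    obtain ⟨g, hg, rfl⟩ := decomp hf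
    rw [map_sum, ← Finset.sum_sub_distrib]
    refine Submodule.sum_mem _ fun i _ => ?_
    have e : φ (X i * g i) - X i * g i =
        (φ (X i) - X i) * φ (g i) + X i * (φ (g i) - g i) := by
      rw [map_mul]; ring
    rw [e]
    refine Submodule.add_mem _ ?_ ?_
    · have := mul_mem_Ifil (h2 i) (hpres N _ (hg i))
      exact Ifil_mono (by omega) this
    · have := mul_mem_Ifil (X_mem_Ifil_one i) (ih _ (hg i))
      exact Ifil_mono (by omega) this

theorem injective_of_near_id (h2 : ∀ i, φ (X i) - X i ∈ Ifil σ R 2) :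
    Function.Injective φ := by
  rw [injective_iff_map_eq_zero]
  intro f hf
  apply eq_zero_of_forall_mem_Ifil
  intro N
  induction N with
  | zero => exact mem_Ifil_zero f
  | succ N ih =>
    have := sub_self_mem φ h2 N f ih
    rw [hf, zero_sub] at this
    exact (Submodule.neg_mem_iff _).mp this

theorem surjective_of_near_id (h2 : ∀ i, φ (X i) - X i ∈ Ifil σ R 2) :
    Function.Surjective φ := by
  intro g
  obtain ⟨s, hs0, hs1⟩ : ∃ s : ℕ → MvPowerSeries σ R,
      s 0 = g ∧ ∀ k, s (k + 1) = g - (φ (s k) - s k) :=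
    ⟨fun k => Nat.rec g (fun _ prev => g - (φ prev - prev)) k, rfl, fun k => rfl⟩
  have hdiff : ∀ k, s (k + 1) - s k ∈ Ifil σ R (k + 1) := by
    intro k
    induction k with
    | zero =>
      rw [hs1, hs0]
      have := sub_self_mem φ h2 0 g (mem_Ifil_zero g)
      have e : g - (φ g - g) - g = -(φ g - g) := by ring
      rw [e]
      exact Submodule.neg_mem _ this
    | succ k ih =>
      rw [hs1 (k + 1)]
      have := sub_self_mem φ h2 (k + 1) _ ih
      have e : g - (φ (s (k + 1)) - s (k + 1)) - s (k + 1) =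
          -(φ (s (k + 1) - s k) - (s (k + 1) - s k)) := by
        rw [map_sub]
        conv_lhs => rw [hs1 k]
        conv_rhs => rw [hs1 k]
        ring
      rw [e]
      exact Submodule.neg_mem _ this
  have hstab : ∀ k j, s (k + j) - s k ∈ Ifil σ R (k + 1) := by
    intro k j
    induction j with
    | zero =>
      rw [add_zero, sub_self]
      exact Submodule.zero_mem _
    | succ j ih =>
      rw [show k + (j + 1) = k + j + 1 from rfl]
      have e : s (k + j + 1) - s k = (s (k + j + 1) - s (k + j)) + (s (k + j) - s k) := by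
        ring
      rw [e]
      exact Submodule.add_mem _ (Ifil_mono (by omega) (hdiff (k + j))) ih
  obtain ⟨f, hfdef⟩ : ∃ f : MvPowerSeries σ R, ∀ d, coeff d f = coeff d (s d.degree) :=
    ⟨fun d => coeff d (s d.degree), fun d => rfl⟩
  have hf : ∀ k, f - s k ∈ Ifil σ R (k + 1) := by
    intro k d hd
    rw [map_sub, hfdef]
    obtain ⟨j, rfl⟩ : ∃ j, k = d.degree + j := ⟨k - d.degree, by omega⟩
    have := hstab d.degree j d (Nat.lt_succ_self _)
    rw [map_sub] at this
    rw [← neg_sub, this, neg_zero]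
  refine ⟨f, ?_⟩
  rw [← sub_eq_zero]
  apply eq_zero_of_forall_mem_Ifil
  intro N
  have e : φ f - g = (f - s (N + 1)) + (φ (f - s N) - (f - s N)) := by
    rw [hs1 N, map_sub]; ring
  rw [e]
  refine Submodule.add_mem _ (Ifil_mono (by omega) (hf (N + 1))) ?_
  exact Ifil_mono (by omega) (sub_self_mem φ h2 (N + 1) _ (hf N))

theorem bijective_of_near_id (h2 : ∀ i, φ (X i) - X i ∈ Ifil σ R 2) :
    Function.Bijective φ :=
  ⟨injective_of_near_id φ h2, surjective_of_near_id φ h2⟩

end NearId

section Lin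

variable {σ : Type*} [Fintype σ] [DecidableEq σ] {R : Type*} [CommRing R]

/-- the linear form attached to row `i` of the matrix `M` -/
noncomputable def lin (M : Matrix σ σ R) (i : σ) : MvPowerSeries σ R :=
  ∑ j, C (M i j) * X j

theorem constantCoeff_lin (M : Matrix σ σ R) (i : σ) : constantCoeff (lin M i) = 0 := by
  rw [lin, map_sum]
  apply Finset.sum_eq_zero
  intro j _
  rw [map_mul, constantCoeff_X, mul_zero]

theorem coeff_single_lin (M : Matrix σ σ R) (i j : σ) :
    coeff (single j 1) (lin M i) = M i j := by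
  rw [lin, map_sum, Finset.sum_eq_single j]
  · rw [coeff_C_mul, coeff_index_single_self_X, mul_one]
  · intro m _ hm
    rw [coeff_C_mul, coeff_index_single_X, if_neg (fun h => hm h.symm), mul_zero]
  · intro h
    exact absurd (Finset.mem_univ _) h

theorem lin_one (i : σ) : lin (1 : Matrix σ σ R) i = X i := by
  rw [lin, Finset.sum_eq_single i]
  · rw [Matrix.one_apply_eq, map_one, one_mul]
  · intro j _ hj
    rw [Matrix.one_apply_ne (Ne.symm hj), map_zero, zero_mul]
  · intro h
    exact absurd (Finset.mem_univ _) h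

theorem exists_linHom (M : Matrix σ σ R) :
    ∃ φ : MvPowerSeries σ R →ₐ[R] MvPowerSeries σ R, ∀ i, φ (X i) = lin M i :=
  exists_algHom (lin M) (constantCoeff_lin M)

theorem algHom_lin (φ : MvPowerSeries σ R →ₐ[R] MvPowerSeries σ R) (M L : Matrix σ σ R)
    (hφ : ∀ i, φ (X i) = lin M i) (i : σ) : φ (lin L i) = lin (L * M) i := by
  have hC : ∀ r : R, φ (C r) = C r := fun r => φ.commutes r
  rw [lin, map_sum]
  simp only [map_mul, hφ, hC]
  simp only [lin, Finset.mul_sum]
  rw [Finset.sum_comm]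
  refine Finset.sum_congr rfl fun m _ => ?_
  rw [Matrix.mul_apply, map_sum, Finset.sum_mul]
  refine Finset.sum_congr rfl fun j _ => ?_
  rw [map_mul, mul_assoc]

theorem bijective_of_lin (φ : MvPowerSeries σ R →ₐ[R] MvPowerSeries σ R)
    (M K : Matrix σ σ R) (hMK : M * K = 1) (hKM : K * M = 1)
    (hφ : ∀ i, φ (X i) = lin M i) : Function.Bijective φ := by
  obtain ⟨ψ, hψ⟩ := exists_linHom K
  have h1 : ψ.comp φ = AlgHom.id R _ := by
    apply algHom_ext_of_X
    · intro i
      rw [AlgHom.comp_apply, hφ, algHom_lin ψ K M hψ, hMK, lin_one, constantCoeff_X]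
    · intro i
      rw [AlgHom.comp_apply, hφ, algHom_lin ψ K M hψ, hMK, lin_one]
      rfl
  have h2 : φ.comp ψ = AlgHom.id R _ := by
    apply algHom_ext_of_X
    · intro i
      rw [AlgHom.comp_apply, hψ, algHom_lin φ M K hφ, hKM, lin_one, constantCoeff_X]
    · intro i
      rw [AlgHom.comp_apply, hψ, algHom_lin φ M K hφ, hKM, lin_one]
      rfl
  exact Function.bijective_iff_has_inverse.mpr
    ⟨ψ, fun x => DFunLike.congr_fun h1 x, fun y => DFunLike.congr_fun h2 y⟩

/-- **Formal inverse function theorem**: an algebra endomorphism of a power series ring in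
finitely many variables, sending the variables to series without constant term and with
invertible Jacobian matrix at the origin, is bijective. -/
theorem formal_inverse (φ : MvPowerSeries σ R →ₐ[R] MvPowerSeries σ R)
    (h0 : ∀ i, constantCoeff (φ (X i)) = 0)
    (hJ : IsUnit (Matrix.det (Matrix.of fun i j : σ => coeff (single j 1) (φ (X i))))) :
    Function.Bijective φ := by
  obtain ⟨J, hJdef⟩ : ∃ J : Matrix σ σ R,
      J = Matrix.of fun i j : σ => coeff (single j 1) (φ (X i)) := ⟨_, rfl⟩
  rw [← hJdef] at hJ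
  have hJK : J * J⁻¹ = 1 := Matrix.mul_nonsing_inv J hJ
  have hKJ : J⁻¹ * J = 1 := Matrix.nonsing_inv_mul J hJ
  obtain ⟨lam, hlam⟩ := exists_linHom (J⁻¹)
  have hlamb : Function.Bijective lam := bijective_of_lin lam J⁻¹ J hKJ hJK hlam
  have hr : ∀ i, φ (X i) - lin J i ∈ Ifil σ R 2 := by
    intro i d hd
    rw [map_sub, sub_eq_zero]
    have hcases : d.degree = 0 ∨ d.degree = 1 := by omega
    rcases hcases with h | h
    · have hd0 : d = 0 := (degree_eq_zero_iff d).mp h
      subst hd0
      rw [coeff_zero_eq_constantCoeff_apply, h0, coeff_zero_eq_constantCoeff_apply,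
        constantCoeff_lin]
    · obtain ⟨j, rfl⟩ := exists_single_of_degree_eq_one h
      rw [coeff_single_lin, hJdef, Matrix.of_apply]
  have h2 : ∀ i, (lam.comp φ) (X i) - X i ∈ Ifil σ R 2 := by
    intro i
    have h3 : lam (lin J i) = X i := by rw [algHom_lin lam J⁻¹ J hlam, hJK, lin_one]
    have h4 : (lam.comp φ) (X i) - X i = lam (φ (X i) - lin J i) := by
      rw [AlgHom.comp_apply, map_sub, h3]
    rw [h4]
    exact algHom_mem_Ifil lam
      (fun j => by rw [hlam]; exact mem_Ifil_one_iff.mpr (constantCoeff_lin _ j)) 2 _ (hr i)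
  have hb := bijective_of_near_id (lam.comp φ) h2
  have hb' : Function.Bijective (⇑lam ∘ ⇑φ) := by
    rw [← AlgHom.coe_comp]
    exact hb
  exact (Function.Bijective.of_comp_iff' hlamb φ).mp hb'

/-- diagonal criterion -/
theorem bijective_of_diag (φ : MvPowerSeries σ R →ₐ[R] MvPowerSeries σ R)
    (u : σ → MvPowerSeries σ R) (hu : ∀ i, IsUnit (constantCoeff (u i)))
    (hφ : ∀ i, φ (X i) = X i * u i) : Function.Bijective φ := by
  apply formal_inverse φ
  · intro i
    rw [hφ, map_mul, constantCoeff_X, zero_mul]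
  · have hM : (Matrix.of fun i j : σ => coeff (single j 1) (φ (X i))) =
        Matrix.diagonal (fun i => constantCoeff (u i)) := by
      ext i j
      rw [Matrix.of_apply, hφ, X_def, coeff_monomial_mul, one_mul]
      by_cases hij : i = j
      · subst hij
        rw [if_pos le_rfl, tsub_self, Matrix.diagonal_apply_eq,
          coeff_zero_eq_constantCoeff_apply]
      · rw [Matrix.diagonal_apply_ne _ hij, if_neg]
        intro hle
        have h1 := Finsupp.single_le_iff.mp hle
        rw [Finsupp.single_apply, if_neg (Ne.symm hij)] at h1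
        exact absurd h1 (by norm_num)
    rw [hM, Matrix.det_diagonal]
    exact IsUnit.prod_univ_iff.mpr hu

theorem exists_algEquiv_of_diag (u : σ → MvPowerSeries σ R)
    (hu : ∀ i, IsUnit (constantCoeff (u i))) :
    ∃ e : MvPowerSeries σ R ≃ₐ[R] MvPowerSeries σ R, ∀ i, e (X i) = X i * u i := by
  obtain ⟨φ, hφ⟩ := exists_algHom (σ := σ) (τ := σ) (R := R) (fun i => X i * u i)
    (fun i => by rw [map_mul, constantCoeff_X, zero_mul])
  exact ⟨AlgEquiv.ofBijective φ (bijective_of_diag φ u hu hφ), hφ⟩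

/-- shear criterion: `X k ↦ X k + d` with `d` fixed by the substitution -/
theorem bijective_of_shear (φ ψ : MvPowerSeries σ R →ₐ[R] MvPowerSeries σ R) (k : σ)
    (d : MvPowerSeries σ R) (hd0 : constantCoeff d = 0)
    (hφ : ∀ i, i ≠ k → φ (X i) = X i) (hφk : φ (X k) = X k + d)
    (hψ : ∀ i, i ≠ k → ψ (X i) = X i) (hψk : ψ (X k) = X k - d)
    (hφd : φ d = d) (hψd : ψ d = d) : Function.Bijective φ := by
  have e1 : ∀ i, (ψ.comp φ) (X i) = X i := by
    intro i
    rw [AlgHom.comp_apply]
    by_cases hik : i = k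
    · subst hik
      rw [hφk, map_add, hψk, hψd, sub_add_cancel]
    · rw [hφ i hik, hψ i hik]
  have e2 : ∀ i, (φ.comp ψ) (X i) = X i := by
    intro i
    rw [AlgHom.comp_apply]
    by_cases hik : i = k
    · subst hik
      rw [hψk, map_sub, hφk, hφd, add_sub_cancel_right]
    · rw [hψ i hik, hφ i hik]
  have h1 : ψ.comp φ = AlgHom.id R _ :=
    algHom_ext_of_X _ _ (fun i => by rw [e1, constantCoeff_X]) (fun i => by rw [e1]; rfl)
  have h2 : φ.comp ψ = AlgHom.id R _ :=
    algHom_ext_of_X _ _ (fun i => by rw [e2, constantCoeff_X]) (fun i => by rw [e2]; rfl)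
  exact Function.bijective_iff_has_inverse.mpr
    ⟨ψ, fun x => DFunLike.congr_fun h1 x, fun y => DFunLike.congr_fun h2 y⟩

end Lin

section CubeRoot

variable {R : Type*} [CommRing R] [CharP R 2]

theorem two_eq_zero' (τ : Type*) : (2 : MvPowerSeries τ R) = 0 := by
  have h : (2 : R) = 0 := CharTwo.two_eq_zero
  rw [← map_ofNat (C : R →+* MvPowerSeries τ R) 2, h, map_zero]

/-- cube roots of `1 + y` in one variable, characteristic two -/
theorem exists_cube_root_one_var :
    ∃ g : MvPowerSeries (Fin 1) R, constantCoeff g = 0 ∧ (1 + g) ^ 3 = 1 + X 0 := by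
  obtain ⟨Ω, hΩ⟩ := exists_algHom (σ := Fin 1) (τ := Fin 1) (R := R)
    (fun _ => X 0 + X 0 ^ 2 + X 0 ^ 3)
    (fun _ => by simp only [map_add, map_pow, constantCoeff_X]; ring)
  have hX2 : (X 0 : MvPowerSeries (Fin 1) R) ^ 2 ∈ Ifil (Fin 1) R 2 := by
    rw [pow_two]
    exact mul_mem_Ifil (X_mem_Ifil_one 0) (X_mem_Ifil_one 0)
  have hX3 : (X 0 : MvPowerSeries (Fin 1) R) ^ 3 ∈ Ifil (Fin 1) R 2 := by
    rw [pow_succ]
    exact Ifil_mono (by norm_num) (mul_mem_Ifil hX2 (X_mem_Ifil_one 0))
  have h2 : ∀ i, Ω (X i) - X i ∈ Ifil (Fin 1) R 2 := by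
    intro i
    rw [hΩ, Subsingleton.elim i 0]
    have e : (X 0 + X 0 ^ 2 + X 0 ^ 3 : MvPowerSeries (Fin 1) R) - X 0 = X 0 ^ 2 + X 0 ^ 3 := by
      ring
    rw [e]
    exact Submodule.add_mem _ hX2 hX3
  have hb := bijective_of_near_id Ω h2
  obtain ⟨g, hg⟩ := hb.2 (X 0)
  -- apply the inverse to Ω (X 0)
  obtain ⟨e, he⟩ : ∃ e : MvPowerSeries (Fin 1) R ≃ₐ[R] MvPowerSeries (Fin 1) R, ∀ f, e f = Ω f :=
    ⟨AlgEquiv.ofBijective Ω hb, fun f => rfl⟩
  obtain ⟨w, hw⟩ : ∃ w, w = e.symm (X 0) := ⟨_, rfl⟩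
  have h3 : e.symm (Ω (X 0)) = X 0 := by rw [← he, AlgEquiv.symm_apply_apply]
  rw [hΩ, map_add, map_add, map_pow, map_pow, ← hw] at h3
  have hw0 : constantCoeff w = 0 := by
    -- constant coefficients are preserved by Ω
    have h4 : Ω w = X 0 := by rw [hw, ← he, AlgEquiv.apply_symm_apply]
    have h5 := sub_self_mem Ω h2 0 w (mem_Ifil_zero w)
    rw [h4] at h5
    have h6 := mem_Ifil_one_iff.mp h5
    rw [map_sub, constantCoeff_X, zero_sub, neg_eq_zero] at h6
    exact h6
  refine ⟨w, hw0, ?_⟩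
  have h22 := two_eq_zero' (R := R) (Fin 1)
  linear_combination h3 + (w + w ^ 2) * h22

/-- cube roots of `1 + x`, characteristic two -/
theorem exists_cube_root {τ : Type*} (x : MvPowerSeries τ R) (hx : constantCoeff x = 0) :
    ∃ w : MvPowerSeries τ R, IsUnit (constantCoeff w) ∧ w ^ 3 = 1 + x := by
  obtain ⟨g, _, hg⟩ := exists_cube_root_one_var (R := R)
  obtain ⟨S, hS⟩ := exists_algHom (σ := Fin 1) (τ := τ) (R := R) (fun _ => x) (fun _ => hx)
  have h1 : S (1 + g) ^ 3 = 1 + x := by
    rw [← map_pow, hg, map_add, map_one, hS]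
  refine ⟨S (1 + g), ?_, h1⟩
  have h2 : (constantCoeff (S (1 + g))) ^ 3 = 1 := by
    rw [← map_pow, h1, map_add, map_one, hx, add_zero]
  exact IsUnit.of_pow_eq_one h2 (by norm_num)

end CubeRoot

end Groth.Agent.Lib.PSInvH4
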