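import Mathlib
import Groth.Prelude.Def_W4c1arstab1appArSing
import Groth.Agent.Lib.PSComplete_helper1
import Groth.Agent.Lib.PowerSeriesInv_helper4

/-!
# Structure of `k[[x,y]]/(y^2 - x^(r+1))` as a free `k[[x]]`-module with basis `1, y` (helper1)
-/

namespace Groth.Agent.Lib.ArSingH1

universe u

variable (k : Type u) [Field k] (r : ℕ)

abbrev A1 := MvPowerSeries (Fin 1) k

noncomputable def x0 : A1 k := MvPowerSeries.X 0

noncomputable def gpol : Polynomial (A1 k) :=
  Polynomial.X ^ 2 - Polynomial.C (x0 k ^ (r + 1))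

theorem gpol_monic : (gpol k r).Monic := Polynomial.monic_X_pow_sub_C _ two_ne_zero

theorem gpol_natDegree : (gpol k r).natDegree = 2 := Polynomial.natDegree_X_pow_sub_C

theorem x0_mem : x0 k ^ (r + 1) ∈ IsLocalRing.maximalIdeal (A1 k) := by
  rw [Groth.Agent.Lib.PSCompleteH1.mem_maximalIdeal_iff, map_pow, x0,
    MvPowerSeries.constantCoeff_X, zero_pow (Nat.succ_ne_zero r)]
  exact Ideal.zero_mem _

theorem gpol_dist : (gpol k r).IsDistinguishedAt (IsLocalRing.maximalIdeal (A1 k)) where
  mem := by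
    intro n hn
    rw [gpol_natDegree] at hn
    rw [gpol, Polynomial.coeff_sub, Polynomial.coeff_X_pow, Polynomial.coeff_C]
    interval_cases n
    · simp only [OfNat.zero_ne_ofNat, if_false, if_true, zero_sub]
      exact neg_mem (x0_mem k r)
    · simp
  monic := gpol_monic k r

instance : IsAdicComplete (IsLocalRing.maximalIdeal (A1 k)) (A1 k) := by
  haveI : IsAdicComplete (IsLocalRing.maximalIdeal k) k := by
    rw [IsLocalRing.maximalIdeal_eq_bot]
    infer_instance
  exact Groth.Agent.Lib.PSCompleteH1.isAdicComplete_maximalIdeal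

noncomputable def Phi : MvPowerSeries (Fin 2) k ≃ₐ[k] PowerSeries (A1 k) :=
  (MvPowerSeries.renameEquiv k (Equiv.swap (0 : Fin 2) 1)).trans (MvPowerSeries.finSuccEquiv k 1)

theorem Phi_X0 : Phi k (MvPowerSeries.X 0) = PowerSeries.C (x0 k) := by
  show MvPowerSeries.finSuccEquiv k 1
    (MvPowerSeries.rename (Equiv.swap (0 : Fin 2) 1) (MvPowerSeries.X 0)) = _
  rw [MvPowerSeries.rename_X, Equiv.swap_apply_left]
  exact MvPowerSeries.finSuccEquiv_X_succ (0 : Fin 1)

theorem Phi_X1 : Phi k (MvPowerSeries.X 1) = PowerSeries.X := by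
  show MvPowerSeries.finSuccEquiv k 1
    (MvPowerSeries.rename (Equiv.swap (0 : Fin 2) 1) (MvPowerSeries.X 1)) = _
  rw [MvPowerSeries.rename_X, Equiv.swap_apply_right]
  exact MvPowerSeries.finSuccEquiv_X_zero

theorem Phi_eqn :
    Phi k (ArSing.eqn k r) = ((gpol k r : Polynomial (A1 k)) : PowerSeries (A1 k)) := by
  rw [ArSing.eqn, map_sub, map_pow, map_pow, Phi_X0, Phi_X1, gpol, Polynomial.coe_sub,
    Polynomial.coe_pow, Polynomial.coe_X, Polynomial.coe_C, map_pow]

noncomputable def W :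
    (Polynomial (A1 k) ⧸ Ideal.span {gpol k r}) ≃ₐ[A1 k]
      PowerSeries (A1 k) ⧸ Ideal.span {((gpol k r : Polynomial (A1 k)) : PowerSeries (A1 k))} :=
  (gpol_dist k r).algEquivQuotient

theorem W_mk (f : Polynomial (A1 k)) :
    W k r (Ideal.Quotient.mk _ f) = Ideal.Quotient.mk _ (f : PowerSeries (A1 k)) := by
  show Ideal.Quotient.mk _ (Polynomial.coeToPowerSeries.algHom (A1 k) f) = _
  rw [Polynomial.coeToPowerSeries.algHom_apply, Algebra.algebraMap_self, PowerSeries.map_id]
  rfl

noncomputable def Q : ArSing.ring k r ≃+*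
    (PowerSeries (A1 k) ⧸ Ideal.span {((gpol k r : Polynomial (A1 k)) : PowerSeries (A1 k))}) :=
  Ideal.quotientEquiv _ _ (Phi k).toRingEquiv (by
    rw [Ideal.map_span, Set.image_singleton]
    exact congrArg (fun z => Ideal.span {z}) (Phi_eqn k r).symm)

noncomputable def Psi : ArSing.ring k r ≃+* AdjoinRoot (gpol k r) :=
  (Q k r).trans (W k r).symm.toRingEquiv

theorem Psi_mk (F : MvPowerSeries (Fin 2) k) (f : Polynomial (A1 k))
    (h : Phi k F = (f : PowerSeries (A1 k))) :
    Psi k r (Ideal.Quotient.mk _ F) = AdjoinRoot.mk (gpol k r) f := by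
  show (W k r).symm (Q k r (Ideal.Quotient.mk _ F)) =
    Ideal.Quotient.mk (Ideal.span {gpol k r}) f
  rw [AlgEquiv.symm_apply_eq]
  show Ideal.Quotient.mk _ (Phi k F) = W k r (Ideal.Quotient.mk _ f)
  rw [h, W_mk]

noncomputable def iota : PowerSeries k ≃ₐ[k] A1 k :=
  MvPowerSeries.renameEquiv k (Equiv.ofUnique Unit (Fin 1))

theorem iota_X : iota k PowerSeries.X = x0 k := by
  show MvPowerSeries.rename _ (MvPowerSeries.X ()) = _
  rw [MvPowerSeries.rename_X]
  rfl

noncomputable def phi1 : PowerSeries k →ₐ[k] MvPowerSeries (Fin 2) k :=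
  PowerSeries.substAlgHom (PowerSeries.HasSubst.of_constantCoeff_zero
    (MvPowerSeries.constantCoeff_X (0 : Fin 2) :
      MvPowerSeries.constantCoeff (MvPowerSeries.X (0 : Fin 2) : MvPowerSeries (Fin 2) k) = 0))

theorem xMap_apply (p : PowerSeries k) :
    ArSing.xMap k r p = Ideal.Quotient.mk _ (phi1 k p) := rfl

theorem phi1_X : phi1 k PowerSeries.X = MvPowerSeries.X 0 := PowerSeries.substAlgHom_X _

noncomputable def phi2 : PowerSeries k →ₐ[k] MvPowerSeries (Fin 2) k :=
  ((Phi k).symm : PowerSeries (A1 k) →ₐ[k] MvPowerSeries (Fin 2) k).comp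
    ((IsScalarTower.toAlgHom k (A1 k) (PowerSeries (A1 k))).comp
      (iota k : PowerSeries k →ₐ[k] A1 k))

theorem algebraMap_eq_C (a : A1 k) :
    algebraMap (A1 k) (PowerSeries (A1 k)) a = PowerSeries.C a := rfl

theorem phi2_X : phi2 k PowerSeries.X = MvPowerSeries.X 0 := by
  show (Phi k).symm (algebraMap (A1 k) (PowerSeries (A1 k)) (iota k PowerSeries.X)) = _
  rw [iota_X, algebraMap_eq_C, AlgEquiv.symm_apply_eq, Phi_X0]

theorem phi1_eq_phi2 : phi1 k = phi2 k := by
  apply Groth.Agent.Lib.PSInvH4.algHom_ext_of_X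
  · intro i
    show MvPowerSeries.constantCoeff (phi1 k PowerSeries.X) = 0
    rw [phi1_X, MvPowerSeries.constantCoeff_X]
  · intro i
    show phi1 k PowerSeries.X = phi2 k PowerSeries.X
    rw [phi1_X, phi2_X]

theorem Phi_phi1 (p : PowerSeries k) : Phi k (phi1 k p) = PowerSeries.C (iota k p) := by
  rw [phi1_eq_phi2]
  show Phi k ((Phi k).symm (algebraMap (A1 k) (PowerSeries (A1 k)) (iota k p))) = _
  rw [AlgEquiv.apply_symm_apply, algebraMap_eq_C]

theorem Psi_y : Psi k r (ArSing.y k r) = AdjoinRoot.root (gpol k r) :=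
  Psi_mk k r _ Polynomial.X (by rw [Phi_X1, Polynomial.coe_X])

theorem Psi_xMap (p : PowerSeries k) :
    Psi k r (ArSing.xMap k r p) = AdjoinRoot.of (gpol k r) (iota k p) :=
  Psi_mk k r (phi1 k p) (Polynomial.C (iota k p)) (by rw [Phi_phi1, Polynomial.coe_C])

theorem Psi_lin (p q : PowerSeries k) :
    Psi k r (ArSing.xMap k r p + ArSing.xMap k r q * ArSing.y k r) =
      AdjoinRoot.mk (gpol k r) (Polynomial.C (iota k q) * Polynomial.X + Polynomial.C (iota k p)) := by
  rw [map_add, map_mul, Psi_xMap, Psi_xMap, Psi_y, map_add, map_mul, add_comm]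
  rfl

/-- existence of the decomposition -/
theorem decomp (a : ArSing.ring k r) :
    ∃ p q : PowerSeries k, a = ArSing.xMap k r p + ArSing.xMap k r q * ArSing.y k r := by
  obtain ⟨f, hf⟩ := AdjoinRoot.mk_surjective (g := gpol k r) (Psi k r a)
  have hmon := gpol_monic k r
  have hne : gpol k r ≠ 1 := by
    intro h
    have := gpol_natDegree k r
    rw [h, Polynomial.natDegree_one] at this
    omega
  have hdeg : (f %ₘ gpol k r).natDegree < 2 := by
    have := Polynomial.natDegree_modByMonic_lt f hmon hne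
    rwa [gpol_natDegree] at this
  have h1 : f %ₘ gpol k r = Polynomial.C ((f %ₘ gpol k r).coeff 1) * Polynomial.X +
      Polynomial.C ((f %ₘ gpol k r).coeff 0) :=
    Polynomial.eq_X_add_C_of_degree_le_one
      (Polynomial.degree_le_of_natDegree_le (Nat.le_of_lt_succ hdeg))
  have h2 : AdjoinRoot.mk (gpol k r) f = AdjoinRoot.mk (gpol k r) (f %ₘ gpol k r) := by
    rw [AdjoinRoot.mk_eq_mk]
    refine ⟨f /ₘ gpol k r, ?_⟩
    have := Polynomial.modByMonic_add_div f (gpol k r)
    exact (sub_eq_of_eq_add' this.symm)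
  obtain ⟨p, hp⟩ := (iota k).surjective ((f %ₘ gpol k r).coeff 0)
  obtain ⟨q, hq⟩ := (iota k).surjective ((f %ₘ gpol k r).coeff 1)
  refine ⟨p, q, (Psi k r).injective ?_⟩
  rw [Psi_lin, hp, hq, ← h1, ← h2, hf]

/-- uniqueness of the decomposition -/
theorem uniq (p q : PowerSeries k)
    (h : ArSing.xMap k r p + ArSing.xMap k r q * ArSing.y k r = 0) : p = 0 ∧ q = 0 := by
  have h1 := congrArg (Psi k r) h
  rw [Psi_lin, map_zero, AdjoinRoot.mk_eq_zero] at h1
  have h2 : Polynomial.C (iota k q) * Polynomial.X + Polynomial.C (iota k p) = 0 := by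
    apply Polynomial.eq_zero_of_dvd_of_degree_lt h1
    calc (Polynomial.C (iota k q) * Polynomial.X + Polynomial.C (iota k p)).degree
        ≤ 1 := Polynomial.degree_linear_le
      _ < (gpol k r).degree := by
        rw [Polynomial.degree_eq_natDegree (gpol_monic k r).ne_zero, gpol_natDegree]
        norm_num
  have h3 := congrArg (fun f => Polynomial.coeff f 0) h2
  have h4 := congrArg (fun f => Polynomial.coeff f 1) h2
  simp only [Polynomial.coeff_add, Polynomial.coeff_C_mul, Polynomial.coeff_X_zero,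
    Polynomial.coeff_C_zero, mul_zero, zero_add, Polynomial.coeff_zero] at h3
  simp only [Polynomial.coeff_add, Polynomial.coeff_C_mul, Polynomial.coeff_X_one,
    Polynomial.coeff_C_succ, mul_one, add_zero, Polynomial.coeff_zero] at h4
  exact ⟨(iota k).injective (by rw [h3, map_zero]), (iota k).injective (by rw [h4, map_zero])⟩

theorem uniq' (p q p' q' : PowerSeries k)
    (h : ArSing.xMap k r p + ArSing.xMap k r q * ArSing.y k r =
      ArSing.xMap k r p' + ArSing.xMap k r q' * ArSing.y k r) : p = p' ∧ q = q' := by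
  have h1 := uniq k r (p - p') (q - q') (by
    rw [map_sub, map_sub, sub_mul]
    linear_combination h)
  exact ⟨sub_eq_zero.1 h1.1, sub_eq_zero.1 h1.2⟩

theorem xMap_X : ArSing.xMap k r PowerSeries.X = ArSing.x k r := by
  rw [xMap_apply, phi1_X]

theorem y_sq : ArSing.y k r ^ 2 = ArSing.x k r ^ (r + 1) := by
  have h : Ideal.Quotient.mk (Ideal.span {ArSing.eqn k r}) (ArSing.eqn k r) = 0 :=
    Ideal.Quotient.eq_zero_iff_mem.2 (Ideal.subset_span rfl)
  rw [ArSing.eqn, map_sub, map_pow, map_pow, sub_eq_zero] at h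
  exact h

theorem x_pow_mul (n : ℕ) (p q : PowerSeries k) :
    ArSing.x k r ^ n * (ArSing.xMap k r p + ArSing.xMap k r q * ArSing.y k r) =
      ArSing.xMap k r (PowerSeries.X ^ n * p) +
        ArSing.xMap k r (PowerSeries.X ^ n * q) * ArSing.y k r := by
  rw [map_mul, map_mul, map_pow, xMap_X]
  ring

theorem y_mul (p q : PowerSeries k) :
    (ArSing.xMap k r p + ArSing.xMap k r q * ArSing.y k r) * ArSing.y k r =
      ArSing.xMap k r (PowerSeries.X ^ (r + 1) * q) + ArSing.xMap k r p * ArSing.y k r := by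
  rw [map_mul, map_pow, xMap_X, ← y_sq]
  ring

theorem eq_zero_of_forall_X_pow_dvd (p : PowerSeries k)
    (h : ∀ n : ℕ, (PowerSeries.X : PowerSeries k) ^ n ∣ p) : p = 0 := by
  ext m
  rw [map_zero]
  exact (PowerSeries.X_pow_dvd_iff.1 (h (m + 1))) m (Nat.lt_succ_self m)

/-- `x`-adic separatedness -/
theorem sep (a : ArSing.ring k r) (h : ∀ n : ℕ, ArSing.x k r ^ n ∣ a) : a = 0 := by
  obtain ⟨p, q, rfl⟩ := decomp k r a
  have hpq : ∀ n : ℕ, (PowerSeries.X : PowerSeries k) ^ n ∣ p ∧
      (PowerSeries.X : PowerSeries k) ^ n ∣ q := by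
    intro n
    obtain ⟨b, hb⟩ := h n
    obtain ⟨p', q', rfl⟩ := decomp k r b
    rw [x_pow_mul] at hb
    obtain ⟨h1, h2⟩ := uniq' k r _ _ _ _ hb
    exact ⟨⟨p', h1⟩, ⟨q', h2⟩⟩
  rw [eq_zero_of_forall_X_pow_dvd k p (fun n => (hpq n).1),
    eq_zero_of_forall_X_pow_dvd k q (fun n => (hpq n).2), map_zero, zero_mul, add_zero]

theorem poly_agree {T : Type*} [CommRing T] [Algebra k T] (f f' : PowerSeries k →ₐ[k] T)
    (h : f PowerSeries.X = f' PowerSeries.X) (q : Polynomial k) :
    f (q : PowerSeries k) = f' (q : PowerSeries k) := by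
  induction q using Polynomial.induction_on with
  | C a =>
    rw [Polynomial.coe_C]
    exact (f.commutes a).trans (f'.commutes a).symm
  | add p q hp hq => rw [Polynomial.coe_add, map_add, map_add, hp, hq]
  | monomial n a _ =>
    rw [Polynomial.coe_mul, Polynomial.coe_C, Polynomial.coe_pow, Polynomial.coe_X, map_mul,
      map_mul, map_pow, map_pow, h]
    congr 1
    exact (f.commutes a).trans (f'.commutes a).symm

/-- automatic continuity: algebra maps out of `k[[t]]` into a `t'`-adically separated algebra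
are determined by the image of `t` -/
theorem algHom_ext_of_sep {T : Type*} [CommRing T] [Algebra k T] (t : T)
    (hsep : ∀ a : T, (∀ n : ℕ, t ^ n ∣ a) → a = 0)
    (f f' : PowerSeries k →ₐ[k] T) (h : f PowerSeries.X = f' PowerSeries.X)
    (ht : t ∣ f PowerSeries.X) : f = f' := by
  apply AlgHom.ext
  intro p
  rw [← sub_eq_zero]
  apply hsep
  intro n
  have h1 : (PowerSeries.X : PowerSeries k) ^ n ∣ p - ((PowerSeries.trunc n p : Polynomial k) :
      PowerSeries k) := by
    rw [PowerSeries.X_pow_dvd_iff]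
    intro m hm
    rw [map_sub, Polynomial.coeff_coe, PowerSeries.coeff_trunc, if_pos hm, sub_self]
  obtain ⟨p', hp'⟩ := h1
  have h2 : p = ((PowerSeries.trunc n p : Polynomial k) : PowerSeries k) +
      PowerSeries.X ^ n * p' := by
    rw [← hp']
    ring
  have h3 : f p - f' p = f PowerSeries.X ^ n * (f p' - f' p') := by
    conv_lhs => rw [h2]
    rw [map_add, map_add, map_mul, map_mul, map_pow, map_pow, poly_agree k f f' h, h]
    ring
  rw [h3]
  exact Dvd.dvd.mul_right (pow_dvd_pow_of_dvd ht n) _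

/-- `k`-algebra maps `k[[t]] → A_r` agreeing at `t` with value divisible by `x` coincide -/
theorem algHom_ext_ring (f f' : PowerSeries k →ₐ[k] ArSing.ring k r)
    (h : f PowerSeries.X = f' PowerSeries.X) (ht : ArSing.x k r ∣ f PowerSeries.X) : f = f' :=
  algHom_ext_of_sep k (ArSing.x k r) (sep k r) f f' h ht

theorem flat_xMap : (ArSing.xMap k r).toRingHom.Flat := by
  letI : Algebra (PowerSeries k) (ArSing.ring k r) := (ArSing.xMap k r).toRingHom.toAlgebra
  show Module.Flat (PowerSeries k) (ArSing.ring k r)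
  have hsm : ∀ (c : PowerSeries k) (a : ArSing.ring k r), c • a = ArSing.xMap k r c * a :=
    fun c a => rfl
  let L : (PowerSeries k × PowerSeries k) →ₗ[PowerSeries k] ArSing.ring k r :=
    { toFun := fun pq => ArSing.xMap k r pq.1 + ArSing.xMap k r pq.2 * ArSing.y k r
      map_add' := fun a b => by
        simp only [Prod.fst_add, Prod.snd_add, map_add]
        ring
      map_smul' := fun c a => by
        simp only [Prod.smul_fst, Prod.smul_snd, smul_eq_mul, map_mul, RingHom.id_apply, hsm]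
        ring }
  have hL : Function.Bijective L := by
    constructor
    · intro a b hab
      obtain ⟨h1, h2⟩ := uniq' k r _ _ _ _ hab
      exact Prod.ext h1 h2
    · intro a
      obtain ⟨p, q, rfl⟩ := decomp k r a
      exact ⟨(p, q), rfl⟩
  exact Module.Flat.of_linearEquiv (LinearEquiv.ofBijective L hL).symm

theorem x_not_isUnit : ¬ IsUnit (ArSing.x k r) := by
  rintro ⟨⟨u, b, hub, hbu⟩, rfl⟩
  obtain ⟨p, q, rfl⟩ := decomp k r b
  have h1 := x_pow_mul k r 1 p q
  rw [pow_one] at h1
  change ArSing.x k r * _ = 1 at hub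
  rw [h1] at hub
  have h2 : (1 : ArSing.ring k r) =
      ArSing.xMap k r 1 + ArSing.xMap k r 0 * ArSing.y k r := by
    rw [map_one, map_zero, zero_mul, add_zero]
  rw [h2] at hub
  obtain ⟨h3, -⟩ := uniq' k r _ _ _ _ hub
  have h4 := congrArg (PowerSeries.coeff 0) h3
  rw [pow_one, PowerSeries.coeff_zero_X_mul, PowerSeries.coeff_one, if_pos rfl] at h4
  exact zero_ne_one h4

theorem map_maximalIdeal_ne_top :
    Ideal.map (ArSing.xMap k r) (IsLocalRing.maximalIdeal (PowerSeries k)) ≠ ⊤ := by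
  rw [PowerSeries.maximalIdeal_eq_span_X, Ideal.map_span, Set.image_singleton, xMap_X, Ne,
    Ideal.span_singleton_eq_top]
  exact x_not_isUnit k r

theorem y_mem_nonZeroDivisors : ArSing.y k r ∈ nonZeroDivisors (ArSing.ring k r) := by
  rw [mem_nonZeroDivisors_iff_right]
  intro a ha
  obtain ⟨p, q, rfl⟩ := decomp k r a
  rw [y_mul] at ha
  obtain ⟨h1, h2⟩ := uniq k r _ _ ha
  rcases mul_eq_zero.1 h1 with h | h
  · exact absurd h (pow_ne_zero _ PowerSeries.X_ne_zero)
  · rw [h, h2, map_zero, zero_mul, add_zero]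

theorem xMap_mem_span_y_iff (p : PowerSeries k) :
    ArSing.xMap k r p ∈ Ideal.span {ArSing.y k r} ↔
      p ∈ IsLocalRing.maximalIdeal (PowerSeries k) ^ (r + 1) := by
  rw [PowerSeries.maximalIdeal_eq_span_X, Ideal.span_singleton_pow, Ideal.mem_span_singleton,
    Ideal.mem_span_singleton']
  constructor
  · rintro ⟨c, hc⟩
    obtain ⟨p', q', rfl⟩ := decomp k r c
    rw [mul_comm, y_mul] at hc
    have h2 : ArSing.xMap k r p = ArSing.xMap k r p + ArSing.xMap k r 0 * ArSing.y k r := by
      rw [map_zero, zero_mul, add_zero]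
    rw [h2] at hc
    obtain ⟨h3, -⟩ := uniq' k r _ _ _ _ hc
    exact ⟨q', by rw [h3]; ring⟩
  · rintro ⟨p', rfl⟩
    refine ⟨ArSing.y k r * ArSing.xMap k r p', ?_⟩
    rw [map_mul, map_pow, xMap_X, ← y_sq]
    ring

abbrev Sq : Type u := PowerSeries k ⧸ IsLocalRing.maximalIdeal (PowerSeries k) ^ (r + 1)

noncomputable def theta0 : A1 k →+* Sq k r :=
  (Ideal.Quotient.mk (IsLocalRing.maximalIdeal (PowerSeries k) ^ (r + 1))).comp
    ((iota k).symm : A1 k →+* PowerSeries k)

theorem theta0_eval : (gpol k r).eval₂ (theta0 k r) 0 = 0 := by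
  rw [gpol, Polynomial.eval₂_sub, Polynomial.eval₂_pow, Polynomial.eval₂_X, Polynomial.eval₂_C,
    zero_pow two_ne_zero, zero_sub, neg_eq_zero, map_pow]
  show Ideal.Quotient.mk _ ((iota k).symm (x0 k)) ^ (r + 1) = 0
  rw [← iota_X, AlgEquiv.symm_apply_apply, ← map_pow, Ideal.Quotient.eq_zero_iff_mem,
    PowerSeries.maximalIdeal_eq_span_X, Ideal.span_singleton_pow]
  exact Ideal.subset_span rfl

noncomputable def theta : ArSing.ring k r →+* Sq k r :=
  (AdjoinRoot.lift (theta0 k r) 0 (theta0_eval k r)).comp (Psi k r : ArSing.ring k r →+* _)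

theorem theta_apply (p q : PowerSeries k) :
    theta k r (ArSing.xMap k r p + ArSing.xMap k r q * ArSing.y k r) =
      Ideal.Quotient.mk _ p := by
  show AdjoinRoot.lift (theta0 k r) 0 (theta0_eval k r)
    (Psi k r (ArSing.xMap k r p + ArSing.xMap k r q * ArSing.y k r)) = _
  rw [map_add, map_mul, Psi_xMap, Psi_xMap, Psi_y, map_add, map_mul, AdjoinRoot.lift_of,
    AdjoinRoot.lift_of, AdjoinRoot.lift_root, mul_zero, add_zero]
  show Ideal.Quotient.mk _ ((iota k).symm (iota k p)) = _
  rw [AlgEquiv.symm_apply_apply]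

theorem theta_surjective : Function.Surjective (theta k r) := by
  intro s
  obtain ⟨p, rfl⟩ := Ideal.Quotient.mk_surjective s
  refine ⟨ArSing.xMap k r p + ArSing.xMap k r 0 * ArSing.y k r, ?_⟩
  rw [theta_apply]

theorem theta_eq_zero_iff (a : ArSing.ring k r) :
    theta k r a = 0 ↔ a ∈ Ideal.span {ArSing.y k r} := by
  obtain ⟨p, q, rfl⟩ := decomp k r a
  rw [theta_apply, Ideal.Quotient.eq_zero_iff_mem, ← xMap_mem_span_y_iff]
  have hq : ArSing.xMap k r q * ArSing.y k r ∈ Ideal.span {ArSing.y k r} :=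
    Ideal.mul_mem_left _ _ (Ideal.subset_span rfl)
  exact ((Ideal.span {ArSing.y k r}).add_mem_iff_left hq).symm

theorem length_quot_y :
    Module.length (ArSing.ring k r) (ArSing.ring k r ⧸ Ideal.span {ArSing.y k r}) = r + 1 := by
  letI : Algebra (ArSing.ring k r) (Sq k r) := (theta k r).toAlgebra
  have halg : ∀ a, algebraMap (ArSing.ring k r) (Sq k r) a = theta k r a := fun a => rfl
  have hsurj : Function.Surjective (algebraMap (ArSing.ring k r) (Sq k r)) := theta_surjective k r
  have ea : Module.length (ArSing.ring k r) (Sq k r) = Module.length (Sq k r) (Sq k r) :=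
    Module.length_eq_of_surjective hsurj
  have eb : Module.length (PowerSeries k) (Sq k r) = Module.length (Sq k r) (Sq k r) :=
    Module.length_eq_of_surjective Ideal.Quotient.mk_surjective
  have ec : Module.length (PowerSeries k) (Sq k r) = r + 1 := by
    have := IsDiscreteValuationRing.length_quotient_pow_maximalIdeal (R := PowerSeries k) (r + 1)
    rw [this]
    rfl
  have hker : Ideal.span {ArSing.y k r} =
      LinearMap.ker (Algebra.linearMap (ArSing.ring k r) (Sq k r)) := by
    ext a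
    rw [LinearMap.mem_ker, Algebra.linearMap_apply, halg, theta_eq_zero_iff]
  have ed : Module.length (ArSing.ring k r) (ArSing.ring k r ⧸ Ideal.span {ArSing.y k r}) =
      Module.length (ArSing.ring k r) (Sq k r) :=
    ((Submodule.quotEquivOfEq _ _ hker).trans
      (LinearMap.quotKerEquivOfSurjective (Algebra.linearMap (ArSing.ring k r) (Sq k r))
        hsurj)).length_eq
  rw [ed, ea, ← eb, ec]

end Groth.Agent.Lib.ArSingH1
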