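import Mathlib

/-!
Helper library (helper3): generating ideals up to radical on primes of small height
(arithmetic rank bounds).
-/

set_option autoImplicit false

namespace Groth.Agent.Lib.Ara_helper3

universe u

variable {R : Type u} [CommRing R]

theorem exists_fin_span_le_iff [IsNoetherianRing R] (I : Ideal R) (r : ℕ) :
    ∃ f : Fin r → R, (∀ i, f i ∈ I) ∧ ∀ (p : Ideal R) [p.IsPrime], p.height < r →
      (I ≤ p ↔ Ideal.span (Set.range f) ≤ p) := by
  classical
  induction r with
  | zero =>
    refine ⟨Fin.elim0, fun i => i.elim0, fun p _ hp => ?_⟩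
    simp at hp
  | succ r ih =>
    obtain ⟨f, hfI, hf⟩ := ih
    set J : Ideal R := Ideal.span (Set.range f) with hJ
    have hJI : J ≤ I := Ideal.span_le.mpr (by rintro _ ⟨i, rfl⟩; exact hfI i)
    have hfin : (J.minimalPrimes).Finite := Ideal.finite_minimalPrimes_of_isNoetherianRing R J
    let Q : Finset (Ideal R) := hfin.toFinset.filter fun q => ¬ I ≤ q
    have hQprime : ∀ q ∈ Q, q.IsPrime := by
      intro q hq
      have := (Finset.mem_filter.mp hq).1
      exact (hfin.mem_toFinset.mp this).1.1
    have havoid : ¬ ((I : Set R) ⊆ ⋃ q ∈ (Q : Set (Ideal R)), (q : Set R)) := by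
      intro hsub
      have := (Ideal.subset_union_prime (s := Q) (f := fun q => q) ⊥ ⊥
        (fun q hq _ _ => hQprime q hq)).mp hsub
      obtain ⟨q, hq, hIq⟩ := this
      exact (Finset.mem_filter.mp hq).2 hIq
    obtain ⟨g, hgI, hg⟩ := Set.not_subset.mp havoid
    have hgQ : ∀ q ∈ Q, g ∉ q := by
      intro q hq hgq
      exact hg (Set.mem_iUnion₂.mpr ⟨q, hq, hgq⟩)
    refine ⟨Fin.snoc f g, ?_, ?_⟩
    · intro i
      refine Fin.lastCases ?_ (fun i => ?_) i
      · simpa using hgI
      · simpa using hfI i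
    · intro p _ hp
      constructor
      · intro hIp
        refine le_trans (Ideal.span_le.mpr ?_) hIp
        rintro _ ⟨i, rfl⟩
        refine Fin.lastCases ?_ (fun i => ?_) i
        · simpa using hgI
        · simpa using hfI i
      · intro hsp
        have hall : ∀ i, (Fin.snoc f g : Fin (r + 1) → R) i ∈ p := fun i =>
          hsp (Ideal.subset_span ⟨i, rfl⟩)
        have hgp : g ∈ p := by simpa using hall (Fin.last r)
        have hJp : J ≤ p := by
          refine Ideal.span_le.mpr ?_
          rintro _ ⟨i, rfl⟩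
          simpa using hall i.castSucc
        obtain ⟨q, hqmin, hqp⟩ := Ideal.exists_minimalPrimes_le hJp
        haveI : q.IsPrime := hqmin.1.1
        by_cases hIq : I ≤ q
        · exact hIq.trans hqp
        · exfalso
          have hqQ : q ∈ Q := Finset.mem_filter.mpr ⟨hfin.mem_toFinset.mpr hqmin, hIq⟩
          have hne : q ≠ p := fun h => hgQ q hqQ (h ▸ hgp)
          have hlt : q < p := lt_of_le_of_ne hqp hne
          have h1 := Ideal.height_add_one_le_of_lt_of_isPrime hlt
          have hqr : q.height < r := by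
            have hp' : p.height ≠ ⊤ := ne_top_of_lt hp
            obtain ⟨a, ha⟩ := ENat.ne_top_iff_exists.mp hp'
            have hq' : q.height ≠ ⊤ := by
              intro h
              rw [h] at h1
              simp at h1
              exact hp' h1
            obtain ⟨b, hb⟩ := ENat.ne_top_iff_exists.mp hq'
            rw [← ha] at hp h1
            rw [← hb] at h1 ⊢
            norm_cast at hp h1 ⊢
            omega
          exact hIq ((hf q hqr).mpr hqmin.1.2)

theorem radical_eq_of_forall_prime_iff (I J : Ideal R)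
    (h : ∀ (p : Ideal R) [p.IsPrime], I ≤ p ↔ J ≤ p) : I.radical = J.radical := by
  rw [Ideal.radical_eq_sInf, Ideal.radical_eq_sInf]
  congr 1
  ext p
  constructor
  · rintro ⟨h1, h2⟩
    exact ⟨(@h p h2).mp h1, h2⟩
  · rintro ⟨h1, h2⟩
    exact ⟨(@h p h2).mpr h1, h2⟩

theorem exists_radical_eq_dim_succ [IsNoetherianRing R] (d : ℕ) (hd : ringKrullDim R = d)
    (I : Ideal R) : ∃ f : Fin (d + 1) → R, (∀ i, f i ∈ I) ∧
      I.radical = (Ideal.span (Set.range f)).radical := by
  obtain ⟨f, hfI, hf⟩ := exists_fin_span_le_iff I (d + 1)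
  refine ⟨f, hfI, radical_eq_of_forall_prime_iff _ _ fun p _ => hf p ?_⟩
  have h1 := Ideal.height_le_ringKrullDim_of_ne_top (Ideal.IsPrime.ne_top (I := p) inferInstance)
  rw [hd] at h1
  have h2 : p.height ≤ (d : ℕ∞) := by exact_mod_cast h1
  refine lt_of_le_of_lt h2 ?_
  exact_mod_cast Nat.lt_succ_self d

theorem exists_radical_eq_dim_of_isLocalRing [IsNoetherianRing R] [IsLocalRing R] (d : ℕ)
    (hd : ringKrullDim R = d) (I : Ideal R) (hI : I ≠ ⊤) :
    ∃ f : Fin d → R, (∀ i, f i ∈ I) ∧ I.radical = (Ideal.span (Set.range f)).radical := by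
  obtain ⟨f, hfI, hf⟩ := exists_fin_span_le_iff I d
  have hJI : Ideal.span (Set.range f) ≤ I :=
    Ideal.span_le.mpr (by rintro _ ⟨i, rfl⟩; exact hfI i)
  refine ⟨f, hfI, radical_eq_of_forall_prime_iff _ _ fun p _ => ?_⟩
  by_cases hp : p.height < d
  · exact hf p hp
  · have h1 := Ideal.height_le_ringKrullDim_of_ne_top
      (Ideal.IsPrime.ne_top (I := p) inferInstance)
    rw [hd] at h1
    have h2 : p.height ≤ (d : ℕ∞) := by exact_mod_cast h1
    have h3 : p.height = (d : ℕ∞) := le_antisymm h2 (not_lt.mp hp)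
    have : FiniteRingKrullDim R := by
      rw [finiteRingKrullDim_iff_ne_bot_and_top, hd]
      refine ⟨by simp, ?_⟩
      intro h
      have h5 : ((d : ℕ∞) : WithBot ℕ∞) = ((⊤ : ℕ∞) : WithBot ℕ∞) := h
      exact ENat.coe_ne_top d (WithBot.coe_injective h5)
    have h4 : (p.height : WithBot ℕ∞) = ringKrullDim R := by
      rw [hd, h3]; rfl
    have hpm : p = IsLocalRing.maximalIdeal R := Ideal.height_eq_ringKrullDim_iff.mp h4
    have hIm : I ≤ p := hpm ▸ IsLocalRing.le_maximalIdeal hI
    exact ⟨fun _ => hJI.trans hIm, fun _ => hIm⟩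

end Groth.Agent.Lib.Ara_helper3
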