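import Mathlib
import Groth.Agent.Lib.DimFT3_helper8

/-! Miscellaneous commutative algebra (helper1): saturated chains in polynomial rings,
finitely generated fields over domains, Bézout domains, filtrations and supports,
Artinian local algebras. -/

universe u

namespace Groth.Agent.Lib.CAlgMiscH1

open Ideal

/-! ## Saturated chains in f.g. domains over a field -/

theorem height_covBy (k B : Type u) [Field k] [CommRing B] [IsDomain B] [Algebra k B]
    [Algebra.FiniteType k B] (n : ℕ) (hB : Algebra.trdeg k B = n) (P Q : PrimeSpectrum B)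
    (h : P ⋖ Q) : P.asIdeal.height + 1 = Q.asIdeal.height := by
  obtain ⟨rP, hrP, hP⟩ := Groth.Agent.DimFT3H8.height_add_trdeg_quotient n k B hB P.asIdeal
  obtain ⟨rQ, hrQ, hQ⟩ := Groth.Agent.DimFT3H8.height_add_trdeg_quotient n k B hB Q.asIdeal
  have hle : P.asIdeal ≤ Q.asIdeal := h.1.le
  have hne : P.asIdeal ≠ Q.asIdeal := fun e => h.1.ne (PrimeSpectrum.ext e)
  haveI : Algebra.FiniteType k (B ⧸ P.asIdeal) :=
    Algebra.FiniteType.of_surjective (Ideal.Quotient.mkₐ k P.asIdeal)
      (Ideal.Quotient.mkₐ_surjective k P.asIdeal)
  set Q' : Ideal (B ⧸ P.asIdeal) := Q.asIdeal.map (Ideal.Quotient.mkₐ k P.asIdeal) with hQ'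
  have hsurj : Function.Surjective (Ideal.Quotient.mkₐ k P.asIdeal) :=
    Ideal.Quotient.mkₐ_surjective k P.asIdeal
  have hkerP : RingHom.ker (Ideal.Quotient.mkₐ k P.asIdeal) = P.asIdeal :=
    Ideal.Quotient.mkₐ_ker k P.asIdeal
  have hker : RingHom.ker (Ideal.Quotient.mkₐ k P.asIdeal) ≤ Q.asIdeal := by rwa [hkerP]
  haveI hQ'p : Q'.IsPrime := Ideal.map_isPrime_of_surjective hsurj hker
  have hcomap : Q'.comap (Ideal.Quotient.mkₐ k P.asIdeal) = Q.asIdeal := by
    rw [hQ', Ideal.comap_map_of_surjective _ hsurj, ← RingHom.ker_eq_comap_bot]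
    exact sup_eq_left.mpr hker
  have hQ'ne : Q' ≠ ⊥ := by
    intro e
    apply hne
    rw [← hcomap, e, ← RingHom.ker_eq_comap_bot, hkerP]
  have h1 : Q'.height = 1 := by
    apply le_antisymm
    · have h1' : Q'.height ≤ ((1 : ℕ) : ℕ∞) := by
        rw [Ideal.height_le_iff]
        intro q hq hlt
        have hq0 : q = ⊥ := by
          by_contra hq0
          let q₁ : PrimeSpectrum B := ⟨q.comap (Ideal.Quotient.mkₐ k P.asIdeal), inferInstance⟩
          have hPq : P < q₁ := by
            refine lt_of_le_of_ne ?_ ?_
            · change P.asIdeal ≤ q.comap (Ideal.Quotient.mkₐ k P.asIdeal)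
              intro x hx
              rw [Ideal.mem_comap]
              have hx0 : (Ideal.Quotient.mkₐ k P.asIdeal) x = 0 := by
                rw [← RingHom.mem_ker, hkerP]
                exact hx
              rw [hx0]
              exact zero_mem _
            · intro e
              apply hq0
              have e' : q.comap (Ideal.Quotient.mkₐ k P.asIdeal) = P.asIdeal :=
                (congrArg PrimeSpectrum.asIdeal e).symm
              rw [← Ideal.map_comap_of_surjective _ hsurj q, e', Ideal.map_eq_bot_iff_le_ker, hkerP]
          have hqQ : q₁ < Q := by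
            refine lt_of_le_of_ne ?_ ?_
            · change q.comap (Ideal.Quotient.mkₐ k P.asIdeal) ≤ Q.asIdeal
              rw [← hcomap]
              exact Ideal.comap_mono hlt.le
            · intro e
              have e' : q.comap (Ideal.Quotient.mkₐ k P.asIdeal) = Q.asIdeal :=
                congrArg PrimeSpectrum.asIdeal e
              apply hlt.ne
              rw [← Ideal.map_comap_of_surjective _ hsurj q, e']
          exact h.2 hPq hqQ
        rw [hq0, Ideal.height_bot]
        exact_mod_cast zero_lt_one
      simpa using h1'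
    · rw [Order.one_le_iff_ne_zero]
      intro e
      exact hQ'ne (Ideal.height_eq_zero_iff_eq_bot.mp e)
  have h2 := Groth.Agent.DimFT3H8.trdeg_quotient_of_height_eq_one k (B ⧸ P.asIdeal) Q' h1
  have e : ((B ⧸ P.asIdeal) ⧸ Q') ≃ₐ[k] (B ⧸ Q.asIdeal) := DoubleQuot.quotQuotEquivQuotOfLEₐ k hle
  have h3 : Algebra.trdeg k ((B ⧸ P.asIdeal) ⧸ Q') = Algebra.trdeg k (B ⧸ Q.asIdeal) := e.trdeg_eq
  rw [h3, hrQ, hrP] at h2
  have h4 : rQ + 1 = rP := by exact_mod_cast h2
  have hPt : P.asIdeal.height ≠ ⊤ := by
    intro e
    rw [e] at hP
    simp at hP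
  have hQt : Q.asIdeal.height ≠ ⊤ := by
    intro e
    rw [e] at hQ
    simp at hQ
  lift P.asIdeal.height to ℕ using hPt with a
  lift Q.asIdeal.height to ℕ using hQt with b
  have hP' : a + rP = n := by exact_mod_cast hP
  have hQ' : b + rQ = n := by exact_mod_cast hQ
  have : a + 1 = b := by omega
  exact_mod_cast this

theorem chain_length (k : Type u) [Field k] (n : ℕ)
    (s : LTSeries (PrimeSpectrum (MvPolynomial (Fin n) k)))
    (hsat : ∀ i : Fin s.length, s (Fin.castSucc i) ⋖ s (Fin.succ i)) :
    (s.length : ℕ∞) + s.head.asIdeal.height = s.last.asIdeal.height := by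
  have hB : Algebra.trdeg k (MvPolynomial (Fin n) k) = n := by
    rw [MvPolynomial.trdeg_of_isDomain]
    simp
  have key : ∀ i : Fin (s.length + 1),
      ((i : ℕ) : ℕ∞) + (s 0).asIdeal.height = (s i).asIdeal.height := by
    intro i
    induction i using Fin.induction with
    | zero => simp
    | succ i ih =>
      have h1 := height_covBy k _ n hB _ _ (hsat i)
      rw [← h1, ← ih]
      simp only [Fin.val_succ, Fin.val_castSucc]
      push_cast
      ring
  have h := key (Fin.last s.length)
  rw [Fin.val_last] at h
  exact h

/-! ## Finitely generated field extensions of a domain -/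

theorem field_ft_over_domain {R K : Type u} [CommRing R] [Field K] [Algebra R K]
    (hinj : Function.Injective (algebraMap R K)) [Algebra.FiniteType R K] :
    ∃ f : R, f ≠ 0 ∧ ∃ Rf : Subalgebra R K,
      IsLocalization.Away f Rf ∧ IsField Rf ∧ Module.Finite Rf K := by
  haveI : IsDomain R := hinj.isDomain (algebraMap R K)
  letI : Algebra (FractionRing R) K := (IsFractionRing.lift hinj).toAlgebra
  haveI : IsScalarTower R (FractionRing R) K :=
    IsScalarTower.of_algebraMap_eq (fun x => (IsFractionRing.lift_algebraMap hinj x).symm)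
  haveI : Algebra.FiniteType (FractionRing R) K :=
    Algebra.FiniteType.of_restrictScalars_finiteType R (FractionRing R) K
  haveI : Module.Finite (FractionRing R) K :=
    finite_of_finite_type_of_isJacobsonRing (FractionRing R) K
  haveI : Algebra.IsAlgebraic (FractionRing R) K := Algebra.IsAlgebraic.of_finite (FractionRing R) K
  have halg : ∀ x : K, IsAlgebraic R x := fun x =>
    (IsFractionRing.isAlgebraic_iff R (FractionRing R) K).mpr (Algebra.IsAlgebraic.isAlgebraic x)
  obtain ⟨s, hs⟩ := (Algebra.FiniteType.out : (⊤ : Subalgebra R K).FG)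
  choose a ha0 haint using fun x : K => (halg x).exists_integral_multiple
  classical
  let f : R := ∏ x ∈ s, a x
  have hf0 : f ≠ 0 := Finset.prod_ne_zero_iff.mpr (fun x _ => ha0 x)
  refine ⟨f, hf0, ?_⟩
  have hfK : algebraMap R K f ≠ 0 := fun e => hf0 (hinj (by rw [e, map_zero]))
  have hunit : ∀ y : Submonoid.powers f, IsUnit (algebraMap R K y) := by
    rintro ⟨y, m, rfl⟩
    rw [map_pow]
    exact (isUnit_iff_ne_zero.mpr hfK).pow m
  let φ : Localization.Away f →ₐ[R] K :=
    { IsLocalization.lift hunit with commutes' := fun r => by simp }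
  have hφinj : Function.Injective φ := by
    refine (IsLocalization.lift_injective_iff (M := Submonoid.powers f) hunit).2 (fun x y => ?_)
    have hle : Submonoid.powers f ≤ nonZeroDivisors R :=
      Submonoid.powers_le.mpr (mem_nonZeroDivisors_of_ne_zero hf0)
    exact ⟨fun h => congr_arg _ (IsLocalization.injective _ hle h),
      fun h => congr_arg _ (hinj h)⟩
  let Rf : Subalgebra R K := φ.range
  let e : Localization.Away f ≃ₐ[R] Rf := AlgEquiv.ofInjective φ hφinj
  have hloc : IsLocalization.Away f Rf :=
    IsLocalization.isLocalization_of_algEquiv (Submonoid.powers f) e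
  have hfinv : (algebraMap R K f)⁻¹ ∈ Rf := by
    have hz : φ (IsLocalization.mk' (Localization.Away f) (1 : R)
        (⟨f, Submonoid.mem_powers f⟩ : Submonoid.powers f)) = (algebraMap R K f)⁻¹ := by
      apply eq_inv_of_mul_eq_one_left
      have h1 : φ (algebraMap R (Localization.Away f) f) = algebraMap R K f := φ.commutes f
      rw [← h1, ← map_mul]
      have h2 := IsLocalization.mk'_spec (Localization.Away f) (1 : R)
        (⟨f, Submonoid.mem_powers f⟩ : Submonoid.powers f)
      rw [h2, map_one, map_one]
    rw [← hz]
    exact φ.mem_range_self _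
  have hint : ∀ x ∈ s, IsIntegral Rf x := by
    intro x hx
    obtain ⟨d, hd⟩ := Finset.dvd_prod_of_mem a hx
    have hc0 : algebraMap R K (a x) ≠ 0 := fun e => ha0 x (hinj (by rw [e, map_zero]))
    have hf' : algebraMap R K f = algebraMap R K (a x) * algebraMap R K d := by
      rw [← map_mul]
      exact congrArg _ hd
    have hd0 : algebraMap R K d ≠ 0 := by
      intro e
      apply hfK
      rw [hf', e, mul_zero]
    have hy : (algebraMap R K (a x))⁻¹ ∈ Rf := by
      have : (algebraMap R K (a x))⁻¹ = algebraMap R K d * (algebraMap R K f)⁻¹ := by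
        rw [hf', mul_inv, ← mul_assoc, mul_comm (algebraMap R K d), mul_assoc,
          mul_inv_cancel₀ hd0, mul_one]
      rw [this]
      exact Rf.mul_mem (Rf.algebraMap_mem d) hfinv
    have h1 : IsIntegral Rf (a x • x) := (haint x).tower_top
    have h2 : IsIntegral Rf ((algebraMap R K (a x))⁻¹) :=
      isIntegral_algebraMap (R := Rf) (A := K) (x := ⟨_, hy⟩)
    have hx' : x = (a x • x) * (algebraMap R K (a x))⁻¹ := by
      rw [Algebra.smul_def, mul_comm (algebraMap R K (a x)) x, mul_assoc, mul_inv_cancel₀ hc0,
        mul_one]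
    rw [hx']
    exact h1.mul h2
  haveI : Algebra.IsIntegral Rf K := by
    constructor
    intro z
    have hle : Algebra.adjoin R (s : Set K) ≤ (integralClosure Rf K).restrictScalars R :=
      Algebra.adjoin_le (fun x hx => hint x hx)
    rw [hs] at hle
    exact hle Algebra.mem_top
  refine ⟨Rf, hloc, ?_, ?_⟩
  · exact isField_of_isIntegral_of_isField (R := Rf) (S := K)
      (fun a b h => Subtype.ext h) (Field.toIsField K)
  · haveI : Algebra.FiniteType Rf K := Algebra.FiniteType.of_restrictScalars_finiteType R Rf K
    exact Algebra.IsIntegral.finite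

/-! ## Bézout domains -/

theorem bezout_free_aux (R : Type u) [CommRing R] [IsDomain R] [IsBezout R] :
    ∀ (n : ℕ) (M : Type u) [AddCommGroup M] [Module R M] [Module.Finite R M]
      (φ : M →ₗ[R] (Fin n → R)), Function.Injective φ → Module.Free R M := by
  intro n
  induction n with
  | zero =>
    intro M _ _ _ φ hφ
    haveI : Subsingleton M := hφ.subsingleton
    exact Module.Free.of_subsingleton R M
  | succ n ih =>
    intro M _ _ _ φ hφ
    let ψ : M →ₗ[R] R := (LinearMap.proj (Fin.last n)).comp φ
    let g : M →ₗ[R] LinearMap.range ψ := ψ.rangeRestrict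
    have hg : Function.Surjective g := LinearMap.surjective_rangeRestrict ψ
    have hfg : (LinearMap.range ψ).FG := by
      rw [LinearMap.range_eq_map]
      exact (Module.Finite.fg_top).map ψ
    haveI hpr : (LinearMap.range ψ).IsPrincipal := IsBezout.isPrincipal_of_FG _ hfg
    haveI : Module.Free R (LinearMap.range ψ) := by
      by_cases hI : LinearMap.range ψ = ⊥
      · haveI : Subsingleton (LinearMap.range ψ) := Submodule.subsingleton_iff_eq_bot.mpr hI
        exact Module.Free.of_subsingleton R _
      · have e0 : R ≃ₗ[R] (LinearMap.range ψ) :=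
          Ideal.isoBaseOfIsPrincipal (I := LinearMap.range ψ) hI
        exact Module.Free.of_equiv e0
    obtain ⟨l, hl⟩ := Module.projective_lifting_property g LinearMap.id hg
    obtain ⟨e, -, -⟩ := (LinearMap.exact_subtype_ker_map g).splitSurjectiveEquiv
      (Submodule.injective_subtype _) ⟨l, hl⟩
    haveI : Module.Finite R (LinearMap.ker g) :=
      Module.Finite.of_surjective
        ((LinearMap.fst R (LinearMap.ker g) (LinearMap.range ψ)).comp e.toLinearMap)
        (fun y => ⟨e.symm (y, 0), by simp⟩)
    let φ' : LinearMap.ker g →ₗ[R] (Fin n → R) :=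
      (LinearMap.funLeft R R Fin.castSucc).comp (φ.comp (LinearMap.ker g).subtype)
    have hφ' : Function.Injective φ' := by
      rw [← LinearMap.ker_eq_bot, LinearMap.ker_eq_bot']
      intro x hx
      have hx0 : ψ x.1 = 0 := by
        have h1 := x.2
        rw [LinearMap.mem_ker] at h1
        exact congrArg Subtype.val h1
      have h2 : φ x.1 = 0 := by
        funext i
        refine Fin.lastCases ?_ (fun j => ?_) i
        · exact hx0
        · have h3 := congrFun hx j
          exact h3
      exact Subtype.ext (hφ (by rw [h2]; exact (map_zero φ).symm))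
    haveI := ih (LinearMap.ker g) φ' hφ'
    exact Module.Free.of_equiv e.symm

theorem bezout_fg_free (R : Type u) [CommRing R] [IsDomain R] [IsBezout R]
    (F : Type u) [AddCommGroup F] [Module R F] [Module.Free R F] (N : Submodule R F) (hN : N.FG) :
    Module.Free R N ∧ Module.Finite R N := by
  haveI hfin : Module.Finite R N := Module.Finite.iff_fg.mpr hN
  refine ⟨?_, hfin⟩
  let b := Module.Free.chooseBasis R F
  obtain ⟨s, hs⟩ := hN
  classical
  let t : Finset (Module.Free.ChooseBasisIndex R F) := s.biUnion (fun x => (b.repr x).support)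
  have hsup : ∀ x ∈ N, ∀ i, i ∉ t → b.repr x i = 0 := by
    intro x hx
    rw [← hs] at hx
    induction hx using Submodule.span_induction with
    | mem x hx =>
      intro i hi
      by_contra h
      exact hi (Finset.mem_biUnion.mpr ⟨x, hx, Finsupp.mem_support_iff.mpr h⟩)
    | zero => intro i _; simp
    | add x y _ _ hx hy =>
      intro i hi
      rw [map_add, Finsupp.add_apply, hx i hi, hy i hi, add_zero]
    | smul c x _ hx =>
      intro i hi
      rw [map_smul, Finsupp.smul_apply, hx i hi, smul_zero]
  let φ₀ : N →ₗ[R] (t → R) :=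
    LinearMap.pi (fun i : t => (Finsupp.lapply (i : Module.Free.ChooseBasisIndex R F)).comp
      (b.repr.toLinearMap.comp N.subtype))
  have hφ₀ : Function.Injective φ₀ := by
    rw [← LinearMap.ker_eq_bot, LinearMap.ker_eq_bot']
    intro x hx
    have h1 : b.repr x.1 = 0 := by
      ext i
      by_cases hi : i ∈ t
      · exact congrFun hx ⟨i, hi⟩
      · exact hsup x.1 x.2 i hi
    exact Subtype.ext (b.repr.map_eq_zero_iff.mp h1)
  let φ : N →ₗ[R] (Fin t.card → R) :=
    (LinearEquiv.funCongrLeft R R t.equivFin.symm).toLinearMap.comp φ₀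
  have hφ : Function.Injective φ := by
    intro x y hxy
    exact hφ₀ ((LinearEquiv.funCongrLeft R R t.equivFin.symm).injective hxy)
  exact bezout_free_aux R t.card N φ hφ

/-! ## Filtrations and supports -/

theorem minimal_filtration {R : Type u} [CommRing R] [IsNoetherianRing R] (M : Type u)
    [AddCommGroup M] [Module R M] [Module.Finite R M]
    {n : ℕ} (N : Fin (n + 1) → Submodule R M) (hN : Monotone N) (h0 : N 0 = ⊥)
    (hlast : N (Fin.last n) = ⊤)
    (p : Fin n → PrimeSpectrum R)
    (hquot : ∀ i : Fin n, Nonempty ((↥(N i.succ) ⧸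
      Submodule.comap (N i.succ).subtype (N i.castSucc)) ≃ₗ[R] (R ⧸ (p i).asIdeal))) :
    {q : PrimeSpectrum R | Minimal (fun x => x ∈ Set.range p) q} =
      {q : PrimeSpectrum R | Minimal (fun x => x ∈ Module.support R M) q} := by
  have key : ∀ (i : Fin (n + 1)) (q : PrimeSpectrum R),
      q ∈ Module.support R (N i) ↔ ∃ j : Fin n, j.castSucc < i ∧ p j ≤ q := by
    intro i
    induction i using Fin.induction with
    | zero =>
      intro q
      haveI : Subsingleton (N 0) := Submodule.subsingleton_iff_eq_bot.mpr h0
      rw [Module.support_eq_empty]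
      simp
    | succ i ih =>
      intro q
      have hle : N i.castSucc ≤ N i.succ := hN (Fin.castSucc_lt_succ).le
      have hex : Function.Exact (Submodule.inclusion hle)
          (Submodule.comap (N i.succ).subtype (N i.castSucc)).mkQ := by
        rw [LinearMap.exact_iff, Submodule.ker_mkQ, Submodule.range_inclusion]
      have hsupp := Module.support_of_exact hex (Submodule.inclusion_injective hle)
        (Submodule.mkQ_surjective _)
      rw [hsupp, Set.mem_union, ih q, (hquot i).some.support_eq, Module.support_of_algebra,
        Ideal.Quotient.algebraMap_eq, Ideal.mk_ker,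
        PrimeSpectrum.mem_zeroLocus, SetLike.coe_subset_coe]
      constructor
      · rintro (⟨j, hj, hjq⟩ | h)
        · exact ⟨j, lt_trans hj Fin.castSucc_lt_succ, hjq⟩
        · exact ⟨i, Fin.castSucc_lt_succ, h⟩
      · rintro ⟨j, hj, hjq⟩
        rw [Fin.castSucc_lt_succ_iff] at hj
        rcases hj.lt_or_eq with h | h
        · exact Or.inl ⟨j, Fin.castSucc_lt_castSucc_iff.mpr h, hjq⟩
        · subst h
          exact Or.inr hjq
  have hsupp : ∀ q : PrimeSpectrum R, q ∈ Module.support R M ↔ ∃ j : Fin n, p j ≤ q := by
    intro q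
    rw [← (LinearEquiv.ofTop (N (Fin.last n)) hlast).support_eq, key]
    constructor
    · rintro ⟨j, -, h⟩
      exact ⟨j, h⟩
    · rintro ⟨j, h⟩
      exact ⟨j, Fin.castSucc_lt_last j, h⟩
  ext q
  simp only [Set.mem_setOf_eq]
  constructor
  · rintro ⟨⟨i, rfl⟩, hmin⟩
    refine ⟨(hsupp _).mpr ⟨i, le_rfl⟩, ?_⟩
    intro y hy hyi
    obtain ⟨j, hj⟩ := (hsupp y).mp hy
    exact (hmin ⟨j, rfl⟩ (hj.trans hyi)).trans hj
  · rintro ⟨hq, hmin⟩
    obtain ⟨j, hj⟩ := (hsupp q).mp hq
    have hqj : q ≤ p j := hmin ((hsupp _).mpr ⟨j, le_rfl⟩) hj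
    have hqe : q = p j := le_antisymm hqj hj
    refine ⟨⟨j, hqe.symm⟩, ?_⟩
    intro y hy hyq
    obtain ⟨i, rfl⟩ := hy
    exact hmin ((hsupp _).mpr ⟨i, le_rfl⟩) hyq

/-! ## Artinian local algebras -/

theorem finite_of_killed {R S : Type u} [CommRing R] [CommRing S] [Algebra R S] (m : Ideal S)
    [Module.Finite R (S ⧸ m)] (M : Type u) [AddCommGroup M] [Module S M] [Module R M]
    [IsScalarTower R S M] [Module.Finite S M]
    (hk : ∀ x ∈ m, ∀ y : M, x • y = 0) : Module.Finite R M := by
  obtain ⟨Y, hY⟩ := (Module.Finite.fg_top : (⊤ : Submodule S M).FG)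
  obtain ⟨B, hB⟩ := (Module.Finite.fg_top : (⊤ : Submodule R (S ⧸ m)).FG)
  choose lift hlift using
    (Ideal.Quotient.mk_surjective : Function.Surjective (Ideal.Quotient.mk m))
  classical
  refine ⟨⟨(B.image lift ×ˢ Y).image (fun z : S × M => z.1 • z.2), ?_⟩⟩
  rw [eq_top_iff]
  set T : Submodule R M :=
    Submodule.span R ↑((B.image lift ×ˢ Y).image (fun z : S × M => z.1 • z.2)) with hT
  have hmk : ∀ (c : R) (a : S), Ideal.Quotient.mk m (c • a) = c • Ideal.Quotient.mk m a :=
    fun c a => map_smul (Ideal.Quotient.mkₐ R m) c a
  have h1 : ∀ (s : S) (y : M), y ∈ Y → s • y ∈ T := by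
    intro s y hy
    have hs : Ideal.Quotient.mk m s ∈ Submodule.span R (B : Set (S ⧸ m)) := by
      rw [hB]
      trivial
    have h2 : ∀ z ∈ Submodule.span R (B : Set (S ⧸ m)),
        ∀ s : S, Ideal.Quotient.mk m s = z → s • y ∈ T := by
      intro z hz
      induction hz using Submodule.span_induction with
      | mem z hz =>
        intro s hs
        have hd : s - lift z ∈ m := by rw [← Ideal.Quotient.eq, hs, hlift]
        have h3 : s • y = lift z • y := by
          have h4 := hk _ hd y
          rw [sub_smul, sub_eq_zero] at h4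
          exact h4
        rw [h3]
        apply Submodule.subset_span
        exact Finset.mem_coe.mpr (Finset.mem_image.mpr
          ⟨(lift z, y), Finset.mem_product.mpr ⟨Finset.mem_image_of_mem _ hz, hy⟩, rfl⟩)
      | zero =>
        intro s hs
        have hs' : s ∈ m := Ideal.Quotient.eq_zero_iff_mem.mp hs
        rw [hk s hs' y]
        exact zero_mem _
      | add z w _ _ hz hw =>
        intro s hs
        have h5 := hz (lift z) (hlift z)
        have h6 := hw (lift w) (hlift w)
        have hd : s - (lift z + lift w) ∈ m := by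
          rw [← Ideal.Quotient.eq, hs, map_add, hlift, hlift]
        have h3 : s • y = lift z • y + lift w • y := by
          have h4 := hk _ hd y
          rw [sub_smul, sub_eq_zero, add_smul] at h4
          exact h4
        rw [h3]
        exact add_mem h5 h6
      | smul c z _ hz =>
        intro s hs
        have h5 := hz (lift z) (hlift z)
        have hd : s - c • lift z ∈ m := by
          rw [← Ideal.Quotient.eq, hs, hmk, hlift]
        have h3 : s • y = c • (lift z • y) := by
          have h4 := hk _ hd y
          rw [sub_smul, sub_eq_zero, smul_assoc] at h4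
          exact h4
        rw [h3]
        exact T.smul_mem c h5
    exact h2 _ hs s rfl
  intro x _
  have hx : x ∈ Submodule.span S (Y : Set M) := by
    rw [hY]
    trivial
  have h7 : ∀ x ∈ Submodule.span S (Y : Set M), ∀ s : S, s • x ∈ T := by
    intro x hx
    induction hx using Submodule.span_induction with
    | mem x hx => intro s; exact h1 s x hx
    | zero => intro s; rw [smul_zero]; exact zero_mem _
    | add x y _ _ hx hy => intro s; rw [smul_add]; exact add_mem (hx s) (hy s)
    | smul s' x _ hx => intro s; rw [← mul_smul]; exact hx (s * s')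
  have h8 := h7 x hx 1
  rwa [one_smul] at h8

theorem artin_local_fin_iff {R S : Type u} [CommRing R] [CommRing S] [Algebra R S]
    [IsArtinianRing S] [IsLocalRing S] :
    (Module.Finite R S ↔ Module.Finite R (S ⧸ IsLocalRing.maximalIdeal S)) ∧
      (Algebra.FiniteType R S ↔ Algebra.FiniteType R (S ⧸ IsLocalRing.maximalIdeal S)) := by
  set m := IsLocalRing.maximalIdeal S with hm
  obtain ⟨n, hn⟩ : ∃ n : ℕ, m ^ n = ⊥ := by
    have h1 := IsArtinianRing.isNilpotent_jacobson_bot (R := S)
    rw [IsLocalRing.jacobson_eq_maximalIdeal _ bot_ne_top] at h1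
    exact h1
  constructor
  · constructor
    · intro h
      exact Module.Finite.of_surjective (Ideal.Quotient.mkₐ R m).toLinearMap
        (Ideal.Quotient.mkₐ_surjective R m)
    · intro h
      have claim : ∀ (j : ℕ) (M : Type u) [AddCommGroup M] [Module S M] [Module R M]
          [IsScalarTower R S M] [Module.Finite S M],
          (∀ x ∈ m ^ j, ∀ y : M, x • y = 0) → Module.Finite R M := by
        intro j
        induction j with
        | zero =>
          intro M _ _ _ _ _ hk
          have h0 : ∀ a : M, a = 0 := by
            intro a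
            have ha := hk 1 (by simp) a
            rwa [one_smul] at ha
          exact Module.Finite.of_surjective (0 : R →ₗ[R] M) (fun y => ⟨0, by rw [h0 y]; rfl⟩)
        | succ j ih =>
          intro M _ _ _ _ _ hk
          let N : Submodule S M := m • (⊤ : Submodule S M)
          haveI : Module.Finite S N := inferInstance
          haveI hNfin : Module.Finite R N := ih N (by
            intro x hx y
            obtain ⟨y, hy⟩ := y
            apply Subtype.ext
            change x • y = 0
            refine Submodule.smul_induction_on hy ?_ ?_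
            · intro r hr z _
              rw [← mul_smul]
              exact hk _ (by rw [pow_succ]; exact Ideal.mul_mem_mul hx hr) z
            · intro a b ha hb
              rw [smul_add, ha, hb, add_zero])
          haveI hQfin : Module.Finite R (M ⧸ N) := finite_of_killed m (M ⧸ N) (by
            intro x hx y
            obtain ⟨y, rfl⟩ := Submodule.Quotient.mk_surjective N y
            rw [← Submodule.Quotient.mk_smul, Submodule.Quotient.mk_eq_zero]
            exact Submodule.smul_mem_smul hx Submodule.mem_top)
          exact Module.Finite.of_exact (f := N.subtype.restrictScalars R)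
            (g := N.mkQ.restrictScalars R) (LinearMap.exact_subtype_mkQ N)
            (Submodule.mkQ_surjective N)
      exact claim n S (by
        intro x hx y
        rw [hn, Ideal.mem_bot] at hx
        rw [hx, zero_smul])
  · constructor
    · intro h
      exact Algebra.FiniteType.of_surjective (Ideal.Quotient.mkₐ R m)
        (Ideal.Quotient.mkₐ_surjective R m)
    · intro h
      obtain ⟨C, hC⟩ := (Algebra.FiniteType.out : (⊤ : Subalgebra R (S ⧸ m)).FG)
      obtain ⟨Z, hZ⟩ : m.FG := IsNoetherian.noetherian m
      choose lift hlift using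
        (Ideal.Quotient.mk_surjective : Function.Surjective (Ideal.Quotient.mk m))
      classical
      let A : Subalgebra R S := Algebra.adjoin R (↑(C.image lift ∪ Z) : Set S)
      have hZA : ∀ z ∈ Z, z ∈ A := by
        intro z hz
        apply Algebra.subset_adjoin
        rw [Finset.coe_union]
        exact Or.inr hz
      have hZm : ∀ z ∈ Z, z ∈ m := by
        intro z hz
        rw [← hZ]
        exact Submodule.subset_span hz
      have P0 : ∀ s : S, ∃ a ∈ A, s - a ∈ m := by
        intro s
        have hs : Ideal.Quotient.mk m s ∈ Algebra.adjoin R (C : Set (S ⧸ m)) := by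
          rw [hC]
          trivial
        have hle : Algebra.adjoin R (C : Set (S ⧸ m)) ≤ A.map (Ideal.Quotient.mkₐ R m) := by
          apply Algebra.adjoin_le
          intro c hc
          refine Subalgebra.mem_map.mpr ⟨lift c, Algebra.subset_adjoin ?_, hlift c⟩
          rw [Finset.coe_union, Finset.coe_image]
          exact Or.inl ⟨c, hc, rfl⟩
        obtain ⟨a, ha, hae⟩ := Subalgebra.mem_map.mp (hle hs)
        refine ⟨a, ha, ?_⟩
        rw [← Ideal.Quotient.eq]
        exact hae.symm
      have P : ∀ i : ℕ, ∀ x ∈ m ^ i, ∃ a ∈ A, x - a ∈ m ^ (i + 1) := by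
        intro i
        induction i with
        | zero =>
          intro x _
          obtain ⟨a, ha, h1⟩ := P0 x
          exact ⟨a, ha, by rwa [zero_add, pow_one]⟩
        | succ i ih =>
          have hv' : ∀ v ∈ m, ∀ u ∈ m ^ i, ∃ a ∈ A, u * v - a ∈ m ^ (i + 1 + 1) := by
            intro v hv
            rw [← hZ] at hv
            induction hv using Submodule.span_induction with
            | mem z hz =>
              intro u hu
              obtain ⟨a, ha, hua⟩ := ih u hu
              refine ⟨a * z, A.mul_mem ha (hZA z hz), ?_⟩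
              have h2 : u * z - a * z = (u - a) * z := by ring
              rw [h2, pow_succ m (i + 1)]
              exact Ideal.mul_mem_mul hua (hZm z hz)
            | zero =>
              intro u _
              exact ⟨0, A.zero_mem, by simp⟩
            | add v w _ _ hv hw =>
              intro u hu
              obtain ⟨a, ha, h1⟩ := hv u hu
              obtain ⟨b, hb, h2⟩ := hw u hu
              refine ⟨a + b, A.add_mem ha hb, ?_⟩
              have h3 : u * (v + w) - (a + b) = (u * v - a) + (u * w - b) := by ring
              rw [h3]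
              exact add_mem h1 h2
            | smul s v _ hv =>
              intro u hu
              obtain ⟨a, ha, h1⟩ := hv (u * s) (Ideal.mul_mem_right s _ hu)
              refine ⟨a, ha, ?_⟩
              have h3 : u * (s • v) - a = u * s * v - a := by rw [smul_eq_mul]; ring
              rw [h3]
              exact h1
          intro x hx
          rw [pow_succ] at hx
          refine Submodule.mul_induction_on hx (fun u hu v hv => hv' v hv u hu) ?_
          intro x y hx hy
          obtain ⟨a, ha, h1⟩ := hx
          obtain ⟨b, hb, h2⟩ := hy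
          refine ⟨a + b, A.add_mem ha hb, ?_⟩
          have h3 : x + y - (a + b) = (x - a) + (y - b) := by ring
          rw [h3]
          exact add_mem h1 h2
      have Q : ∀ i : ℕ, ∀ s : S, ∃ a ∈ A, s - a ∈ m ^ i := by
        intro i
        induction i with
        | zero =>
          intro s
          exact ⟨0, A.zero_mem, by simp⟩
        | succ i ih =>
          intro s
          obtain ⟨a, ha, h1⟩ := ih s
          obtain ⟨b, hb, h2⟩ := P i _ h1
          refine ⟨a + b, A.add_mem ha hb, ?_⟩
          have h3 : s - (a + b) = s - a - b := by ring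
          rw [h3]
          exact h2
      have hA : A = ⊤ := by
        rw [eq_top_iff]
        intro s _
        obtain ⟨a, ha, h1⟩ := Q n s
        rw [hn, Ideal.mem_bot, sub_eq_zero] at h1
        rw [h1]
        exact ha
      exact ⟨⟨C.image lift ∪ Z, hA⟩⟩

end Groth.Agent.Lib.CAlgMiscH1
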