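import Mathlib
import Groth.Agent.Lib.CAlgMisc_helper1

/-!
# Finitely presented modules over Bézout domains (helper3)

* `free_of_torsionFree`: a finite torsion-free module over a Bézout domain is free.
* `exists_splitting`: `M ≃ R^r × M_tors` for `M` finitely presented.
* `valuation_structure`: a finitely presented torsion module over a valuation ring is a finite
  product of cyclic modules `V/(d)`, `d ≠ 0`.
* `local_retract`, `global_retract`: over a Bézout domain a finitely presented torsion module is a
  retract of a finite product of cyclic modules `R/(f)`, `f ≠ 0`.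
-/

universe u

namespace BezoutFPH3

open Submodule

section partB

variable (R : Type u) [CommRing R] [IsDomain R] [IsBezout R]

/-- A finite torsion-free module over a Bézout domain is free. -/
theorem free_of_torsionFree (M : Type u) [AddCommGroup M] [Module R M] [Module.Finite R M]
    [Module.IsTorsionFree R M] : Module.Free R M := by
  classical
  obtain ⟨n, s, hs⟩ := Module.Finite.exists_fin (R := R) (M := M)
  have := exists_maximal_linearIndepOn R s
  let I : Set (Fin n) := this.choose
  obtain ⟨indepI : LinearIndependent R (s ∘ (fun x => x) : I → M), hI :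
      ∀ i ∉ I, ∃ a : R, a ≠ 0 ∧ a • s i ∈ span R (s '' I)⟩ := this.choose_spec
  let N := span R (Set.range <| (s ∘ (fun x => x) : I → M))
  let sI_basis : Module.Basis I R N := Module.Basis.span indepI
  have exists_a : ∀ i : Fin n, ∃ a : R, a ≠ 0 ∧ a • s i ∈ N := by
    intro i
    by_cases hi : i ∈ I
    · use 1, zero_ne_one.symm
      rw [one_smul]
      exact subset_span (Set.mem_range_self (⟨i, hi⟩ : I))
    · simpa [Set.image_eq_range s I] using! hI i hi
  choose a ha ha' using exists_a
  let A := ∏ i, a i
  have hA : A ≠ 0 := by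
    rw [Finset.prod_ne_zero_iff]
    simpa using! ha
  let φ : M →ₗ[R] M := LinearMap.lsmul R M A
  have hker : LinearMap.ker φ = ⊥ := LinearMap.ker_lsmul hA
  have hrange : ∀ x, φ x ∈ N := by
    have : LinearMap.range φ ≤ N := by
      suffices ∀ i, φ (s i) ∈ N by
        rw [LinearMap.range_eq_map, ← hs, map_span_le]
        rintro _ ⟨i, rfl⟩
        apply this
      intro i
      calc
        (∏ j ∈ {i}ᶜ, a j) • a i • s i ∈ N := N.smul_mem _ (ha' i)
        _ = (∏ j, a j) • s i := by rw [Fintype.prod_eq_prod_compl_mul i, mul_smul]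
    intro x
    exact this ⟨x, rfl⟩
  let ψ : M →ₗ[R] N := LinearMap.codRestrict N φ hrange
  have hψ : Function.Injective ψ := by
    intro x y hxy
    have h1 : φ x = φ y := congrArg Subtype.val hxy
    exact LinearMap.ker_eq_bot.mp hker h1
  haveI : Module.Free R N := Module.Free.of_basis sI_basis
  haveI : Module.Finite R N := Module.Finite.of_basis sI_basis
  let eN : N ≃ₗ[R] (Fin (Module.finrank R N) → R) := (Module.finBasis R N).equivFun
  exact Groth.Agent.Lib.CAlgMiscH1.bezout_free_aux R _ M (eN.toLinearMap.comp ψ)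
    (eN.injective.comp hψ)

/-- A finitely presented module over a Bézout domain is `R^r × M_tors`, and `M_tors` is finitely
presented. -/
theorem exists_splitting (M : Type u) [AddCommGroup M] [Module R M]
    [Module.FinitePresentation R M] :
    (∃ r : ℕ, Nonempty (M ≃ₗ[R] ((Fin r → R) × Submodule.torsion R M))) ∧
      Module.FinitePresentation R (Submodule.torsion R M) := by
  let Q := M ⧸ Submodule.torsion R M
  haveI : Module.Free R Q := free_of_torsionFree R Q
  let g : M →ₗ[R] Q := (Submodule.torsion R M).mkQ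
  have hg : Function.Surjective g := Submodule.mkQ_surjective _
  obtain ⟨l, hl⟩ := Module.projective_lifting_property g LinearMap.id hg
  obtain ⟨e, he1, he2⟩ := (LinearMap.exact_subtype_ker_map g).splitSurjectiveEquiv
    (Submodule.injective_subtype _) ⟨l, hl⟩
  have hk : LinearMap.ker g = Submodule.torsion R M := Submodule.ker_mkQ _
  let e1 : LinearMap.ker g ≃ₗ[R] Submodule.torsion R M := LinearEquiv.ofEq _ _ hk
  let eQ : Q ≃ₗ[R] (Fin (Module.finrank R Q) → R) := (Module.finBasis R Q).equivFun
  let E : M ≃ₗ[R] ((Fin (Module.finrank R Q) → R) × Submodule.torsion R M) :=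
    e.trans ((LinearEquiv.prodCongr e1 eQ).trans (LinearEquiv.prodComm R _ _))
  refine ⟨⟨_, ⟨E⟩⟩, ?_⟩
  -- torsion part is finitely presented
  let pr : M →ₗ[R] Submodule.torsion R M :=
    (LinearMap.snd R _ _).comp E.toLinearMap
  have hpr : Function.Surjective pr := by
    intro t
    exact ⟨E.symm (0, t), by simp [pr]⟩
  apply Module.finitePresentation_of_surjective pr hpr
  have hker : LinearMap.ker pr = LinearMap.range
      (E.symm.toLinearMap.comp (LinearMap.inl R (Fin (Module.finrank R Q) → R)
        (Submodule.torsion R M))) := by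
    ext x
    simp only [LinearMap.mem_ker, LinearMap.mem_range, LinearMap.coe_comp, LinearEquiv.coe_coe,
      Function.comp_apply, LinearMap.coe_inl, pr, LinearMap.snd_apply]
    constructor
    · intro hx
      refine ⟨(E x).1, ?_⟩
      rw [LinearEquiv.symm_apply_eq]
      exact Prod.ext rfl hx.symm
    · rintro ⟨v, rfl⟩
      simp
  rw [hker]
  exact Submodule.fg_range _

end partB

section partD

variable (V : Type u) [CommRing V] [IsDomain V] [ValuationRing V]

/-- In a valuation ring, a finite nonempty set has an element dividing all the others. -/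
theorem exists_dvd_all (C : Finset V) (hC : C.Nonempty) : ∃ d ∈ C, ∀ c ∈ C, d ∣ c := by
  classical
  induction hC using Finset.Nonempty.cons_induction with
  | singleton a =>
    exact ⟨a, Finset.mem_singleton_self a, fun c hc => by rw [Finset.mem_singleton.mp hc]⟩
  | cons a s ha hs ih =>
    obtain ⟨d, hd, hdc⟩ := ih
    rcases ValuationRing.dvd_total a d with h | h
    · refine ⟨a, Finset.mem_cons_self a s, fun c hc => ?_⟩
      rcases Finset.mem_cons.mp hc with rfl | hc
      · exact dvd_rfl
      · exact h.trans (hdc c hc)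
    · refine ⟨d, Finset.mem_cons.mpr (Or.inr hd), fun c hc => ?_⟩
      rcases Finset.mem_cons.mp hc with rfl | hc
      · exact h
      · exact hdc c hc

theorem structure_of_subsingleton (T : Type u) [AddCommGroup T] [Module V T] [Subsingleton T] :
    ∃ (m : ℕ) (d : Fin m → V), (∀ j, d j ≠ 0) ∧
      Nonempty (T ≃ₗ[V] ((j : Fin m) → V ⧸ Ideal.span {d j})) :=
  ⟨0, Fin.elim0, fun j => j.elim0, ⟨LinearEquiv.ofSubsingleton _ _⟩⟩

/-- Structure of finitely presented torsion modules over a valuation ring. -/
theorem valuation_structure :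
    ∀ (n : ℕ) (T : Type u) [AddCommGroup T] [Module V T] [Module.FinitePresentation V T]
      (_ : ∀ x : T, ∃ a : V, a ≠ 0 ∧ a • x = 0) (s : Finset T), s.card ≤ n →
      Submodule.span V (s : Set T) = ⊤ →
      ∃ (m : ℕ) (d : Fin m → V), (∀ j, d j ≠ 0) ∧
        Nonempty (T ≃ₗ[V] ((j : Fin m) → V ⧸ Ideal.span {d j})) := by
  intro n
  induction n with
  | zero =>
    intro T _ _ _ htors s hs hspan
    have hs0 : s = ∅ := Finset.card_eq_zero.mp (Nat.le_zero.mp hs)
    rw [hs0, Finset.coe_empty, Submodule.span_empty] at hspan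
    haveI : Subsingleton T := (Submodule.subsingleton_iff V).mp (subsingleton_of_bot_eq_top hspan)
    exact structure_of_subsingleton V T
  | succ n ih =>
    intro T _ _ _ htors s hs hspan
    classical
    by_cases hse : s = ∅
    · rw [hse, Finset.coe_empty, Submodule.span_empty] at hspan
      haveI : Subsingleton T :=
        (Submodule.subsingleton_iff V).mp (subsingleton_of_bot_eq_top hspan)
      exact structure_of_subsingleton V T
    obtain ⟨i0, hi0⟩ := Finset.nonempty_iff_ne_empty.mpr hse
    -- the presentation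
    let π : (s → V) →ₗ[V] T := Fintype.linearCombination V (fun i : s => (i : T))
    have hπ : Function.Surjective π := by
      rw [← LinearMap.range_eq_top, Fintype.range_linearCombination]
      rw [Subtype.range_coe_subtype]
      exact hspan
    have hK : (LinearMap.ker π).FG := Module.FinitePresentation.fg_ker π hπ
    obtain ⟨S, hS⟩ := hK
    let C : Finset V := S.biUnion (fun k => Finset.univ.image k)
    obtain ⟨a0, ha0, ha0'⟩ := htors i0
    have hmemK : Pi.single (⟨i0, hi0⟩ : s) a0 ∈ LinearMap.ker π := by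
      rw [LinearMap.mem_ker]
      change Fintype.linearCombination V (fun i : s => (i : T)) (Pi.single (⟨i0, hi0⟩ : s) a0) = 0
      rw [Fintype.linearCombination_apply_single]
      exact ha0'
    have hSne : S.Nonempty := by
      by_contra h
      rw [Finset.not_nonempty_iff_eq_empty] at h
      rw [h, Finset.coe_empty, Submodule.span_empty] at hS
      rw [← hS, Submodule.mem_bot] at hmemK
      have h2 := congrFun hmemK ⟨i0, hi0⟩
      rw [Pi.single_eq_same] at h2
      exact ha0 h2
    have hCne : C.Nonempty := by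
      obtain ⟨k, hk⟩ := hSne
      exact ⟨k ⟨i0, hi0⟩, Finset.mem_biUnion.mpr
        ⟨k, hk, Finset.mem_image_of_mem _ (Finset.mem_univ _)⟩⟩
    obtain ⟨d, hdC, hd⟩ := exists_dvd_all V C hCne
    have hdK : ∀ k ∈ LinearMap.ker π, ∀ i, d ∣ k i := by
      intro k hk
      rw [← hS] at hk
      induction hk using Submodule.span_induction with
      | mem k hk =>
        intro i
        exact hd _ (Finset.mem_biUnion.mpr ⟨k, hk, Finset.mem_image_of_mem _ (Finset.mem_univ _)⟩)
      | zero => intro i; exact dvd_zero _
      | add x y _ _ hx hy => intro i; exact dvd_add (hx i) (hy i)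
      | smul c x _ hx => intro i; exact Dvd.dvd.mul_left (hx i) c
    have hd0 : d ≠ 0 := by
      intro h
      have h2 := hdK _ hmemK ⟨i0, hi0⟩
      rw [h, zero_dvd_iff, Pi.single_eq_same] at h2
      exact ha0 h2
    obtain ⟨k0, hk0S, hk0⟩ := Finset.mem_biUnion.mp hdC
    obtain ⟨l, -, hl⟩ := Finset.mem_image.mp hk0
    have hk0K : k0 ∈ LinearMap.ker π := by rw [← hS]; exact Submodule.subset_span hk0S
    choose r' hr' using fun i => hdK k0 hk0K i
    have hr'l : r' l = 1 := by
      have h2 := hr' l
      rw [hl] at h2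
      exact (mul_left_cancel₀ hd0 (by rw [mul_one]; exact h2)).symm
    let x : T := π r'
    have hdx : d • x = 0 := by
      have h2 : d • r' = k0 := by
        funext i
        rw [Pi.smul_apply, smul_eq_mul, ← hr' i]
      rw [← map_smul, h2]
      exact hk0K
    -- the retraction onto V/(d)
    let ρ0 : (s → V) →ₗ[V] (V ⧸ Ideal.span {d}) :=
      (Submodule.mkQ (Ideal.span {d})).comp (LinearMap.proj l)
    have hρ0 : LinearMap.ker π ≤ LinearMap.ker ρ0 := by
      intro k hk
      rw [LinearMap.mem_ker]
      change Submodule.Quotient.mk (k l) = 0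
      rw [Submodule.Quotient.mk_eq_zero]
      exact Ideal.mem_span_singleton.mpr (hdK k hk l)
    let ρ : T →ₗ[V] (V ⧸ Ideal.span {d}) :=
      ((LinearMap.ker π).liftQ ρ0 hρ0).comp (π.quotKerEquivOfSurjective hπ).symm.toLinearMap
    have hρ : ∀ v, ρ (π v) = Submodule.Quotient.mk (v l) := by
      intro v
      change ((LinearMap.ker π).liftQ ρ0 hρ0) ((π.quotKerEquivOfSurjective hπ).symm (π v)) = _
      rw [LinearMap.quotKerEquivOfSurjective_symm_apply, Submodule.liftQ_apply]
      rfl
    have hρx : ρ x = Submodule.Quotient.mk 1 := by rw [hρ, hr'l]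
    let mk2 : T →ₗ[V] (T ⧸ Submodule.span V {x}) := (Submodule.span V {x}).mkQ
    have hmk2x : mk2 x = 0 :=
      (Submodule.Quotient.mk_eq_zero _).mpr (Submodule.mem_span_singleton_self x)
    let Θ : T →ₗ[V] ((V ⧸ Ideal.span {d}) × (T ⧸ Submodule.span V {x})) := ρ.prod mk2
    have hΘinj : Function.Injective Θ := by
      rw [← LinearMap.ker_eq_bot, LinearMap.ker_eq_bot']
      intro t ht
      have h1 : ρ t = 0 := congrArg Prod.fst ht
      have h2 : mk2 t = 0 := congrArg Prod.snd ht
      rw [Submodule.mkQ_apply, Submodule.Quotient.mk_eq_zero, Submodule.mem_span_singleton] at h2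
      obtain ⟨c, rfl⟩ := h2
      rw [map_smul, hρx, ← Submodule.Quotient.mk_smul, smul_eq_mul, mul_one,
        Submodule.Quotient.mk_eq_zero, Ideal.mem_span_singleton'] at h1
      obtain ⟨e, rfl⟩ := h1
      rw [mul_smul, hdx, smul_zero]
    have hΘsurj : Function.Surjective Θ := by
      rintro ⟨y, q⟩
      obtain ⟨c, rfl⟩ := Submodule.Quotient.mk_surjective _ y
      obtain ⟨t, rfl⟩ := Submodule.Quotient.mk_surjective _ q
      obtain ⟨c0, hc0⟩ := Submodule.Quotient.mk_surjective _ (ρ t)
      refine ⟨t + (c - c0) • x, ?_⟩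
      apply Prod.ext
      · change ρ (t + (c - c0) • x) = _
        rw [map_add, map_smul, hρx, ← hc0, ← Submodule.Quotient.mk_smul,
          ← Submodule.Quotient.mk_add]
        congr 1
        rw [smul_eq_mul, mul_one]; ring
      · change mk2 (t + (c - c0) • x) = _
        rw [map_add, map_smul, hmk2x, smul_zero, add_zero]
        rfl
    let eΘ : T ≃ₗ[V] ((V ⧸ Ideal.span {d}) × (T ⧸ Submodule.span V {x})) :=
      LinearEquiv.ofBijective Θ ⟨hΘinj, hΘsurj⟩
    -- the quotient T'' = T/Vx
    haveI : Module.FinitePresentation V (T ⧸ Submodule.span V {x}) :=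
      Module.finitePresentation_of_surjective mk2 (Submodule.mkQ_surjective _)
        (by rw [Submodule.ker_mkQ]; exact Submodule.fg_span_singleton x)
    have htors2 : ∀ q : T ⧸ Submodule.span V {x}, ∃ a : V, a ≠ 0 ∧ a • q = 0 := by
      intro q
      obtain ⟨t, rfl⟩ := Submodule.Quotient.mk_surjective _ q
      obtain ⟨a, ha, hat⟩ := htors t
      exact ⟨a, ha, by rw [← Submodule.Quotient.mk_smul, hat, Submodule.Quotient.mk_zero]⟩
    let s2 : Finset (T ⧸ Submodule.span V {x}) := (s.erase (l : T)).image mk2
    have hcard2 : s2.card ≤ n := by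
      refine Finset.card_image_le.trans ?_
      rw [Finset.card_erase_of_mem l.2]
      omega
    have hspan2 : Submodule.span V (s2 : Set (T ⧸ Submodule.span V {x})) = ⊤ := by
      rw [eq_top_iff, ← LinearMap.range_eq_top.mpr (Submodule.mkQ_surjective (Submodule.span V {x})),
        LinearMap.range_eq_map, ← hspan, Submodule.map_span, Submodule.span_le]
      rintro _ ⟨i, hi, rfl⟩
      by_cases hil : i = (l : T)
      · -- the class of `l` is a combination of the others
        have hx : x = ∑ j : s, r' j • (j : T) := Fintype.linearCombination_apply V _ r'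
        rw [← Finset.add_sum_erase Finset.univ _ (Finset.mem_univ l), hr'l, one_smul] at hx
        have hl2 : (l : T) = x - ∑ j ∈ Finset.univ.erase l, r' j • (j : T) := by
          rw [hx]; abel
        rw [hil, hl2]
        change mk2 _ ∈ _
        rw [map_sub, hmk2x, zero_sub, map_sum]
        refine Submodule.neg_mem _ (Submodule.sum_mem _ fun j hj => ?_)
        rw [map_smul]
        refine Submodule.smul_mem _ _ (Submodule.subset_span ?_)
        have hjl : j ≠ l := Finset.ne_of_mem_erase hj
        exact Finset.mem_coe.mpr (Finset.mem_image_of_mem _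
          (Finset.mem_erase.mpr ⟨fun h => hjl (Subtype.ext h), j.2⟩))
      · exact Submodule.subset_span (Finset.mem_coe.mpr (Finset.mem_image_of_mem _
          (Finset.mem_erase.mpr ⟨hil, hi⟩)))
    obtain ⟨m, d', hd', ⟨e2⟩⟩ := ih (T ⧸ Submodule.span V {x}) htors2 s2 hcard2 hspan2
    refine ⟨m + 1, Fin.cons d d', ?_, ⟨?_⟩⟩
    · intro j
      refine Fin.cases ?_ (fun i => ?_) j
      · rw [Fin.cons_zero]; exact hd0
      · rw [Fin.cons_succ]; exact hd' i
    · have h0 : (Ideal.span {d} : Ideal V) = Ideal.span {(Fin.cons d d' : Fin (m + 1) → V) 0} := by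
        rw [Fin.cons_zero]
      have hi : ∀ i : Fin m, (Ideal.span {d' i} : Ideal V)
          = Ideal.span {(Fin.cons d d' : Fin (m + 1) → V) i.succ} := by
        intro i; rw [Fin.cons_succ]
      exact eΘ.trans ((LinearEquiv.prodCongr (Submodule.quotEquivOfEq _ _ h0)
        (e2.trans (LinearEquiv.piCongrRight fun i => Submodule.quotEquivOfEq _ _ (hi i)))).trans
        (Fin.consLinearEquiv V (fun j => V ⧸ Ideal.span {(Fin.cons d d' : Fin (m + 1) → V) j})))

end partD

section partE

variable (R : Type u) [CommRing R] [IsDomain R] [IsBezout R]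

theorem isBezout_localization (S : Submonoid R) : IsBezout (Localization S) := by
  rw [IsBezout.iff_span_pair_isPrincipal]
  intro x y
  obtain ⟨⟨a, s⟩, hx⟩ := IsLocalization.surj S x
  obtain ⟨⟨b, t⟩, hy⟩ := IsLocalization.surj S y
  obtain ⟨d, hd⟩ := (IsBezout.span_pair_isPrincipal a b).principal
  rw [Ideal.submodule_span_eq] at hd
  obtain ⟨us, hus⟩ := (IsLocalization.map_units (Localization S) s).exists_left_inv
  obtain ⟨ut, hut⟩ := (IsLocalization.map_units (Localization S) t).exists_left_inv
  simp only at hx hy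
  refine ⟨⟨algebraMap R (Localization S) d, ?_⟩⟩
  rw [Ideal.submodule_span_eq]
  apply le_antisymm
  · rw [Ideal.span_le]
    have ha : a ∈ Ideal.span {d} := by
      rw [← hd]; exact Ideal.subset_span (Set.mem_insert a _)
    have hb : b ∈ Ideal.span {d} := by
      rw [← hd]; exact Ideal.subset_span (Set.mem_insert_of_mem a rfl)
    rw [Ideal.mem_span_singleton'] at ha hb
    obtain ⟨r, hr⟩ := ha
    obtain ⟨r2, hr2⟩ := hb
    have hra := congrArg (algebraMap R (Localization S)) hr
    have hrb := congrArg (algebraMap R (Localization S)) hr2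
    rw [map_mul] at hra hrb
    rintro z (rfl | rfl)
    · rw [SetLike.mem_coe, Ideal.mem_span_singleton']
      exact ⟨us * algebraMap R _ r, by linear_combination us * hra - us * hx + z * hus⟩
    · rw [SetLike.mem_coe, Ideal.mem_span_singleton']
      exact ⟨ut * algebraMap R _ r2, by linear_combination ut * hrb - ut * hy + z * hut⟩
  · rw [Ideal.span_le, Set.singleton_subset_iff, SetLike.mem_coe]
    have hdm : d ∈ Ideal.span {a, b} := by
      rw [hd]; exact Ideal.subset_span rfl
    rw [Ideal.mem_span_pair] at hdm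
    obtain ⟨p, q, hpq⟩ := hdm
    rw [Ideal.mem_span_pair]
    refine ⟨algebraMap R _ p * algebraMap R _ s, algebraMap R _ q * algebraMap R _ t, ?_⟩
    rw [← hpq, map_add, map_mul, map_mul, ← hx, ← hy]
    ring

theorem fp_quot_span (f : R) : Module.FinitePresentation R (R ⧸ Ideal.span {f}) :=
  Module.finitePresentation_of_surjective (Submodule.mkQ (Ideal.span {f}))
    (Submodule.mkQ_surjective _)
    (by rw [Submodule.ker_mkQ]; exact Submodule.fg_span_singleton f)

/-- Local version: near a maximal ideal, a finitely presented torsion module is a retract up to an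
element outside the maximal ideal of a finite product of cyclic modules. -/
theorem local_retract (T : Type u) [AddCommGroup T] [Module R T] [Module.FinitePresentation R T]
    (htors : ∀ x : T, ∃ a : R, a ≠ 0 ∧ a • x = 0) (m : Ideal R) [m.IsMaximal] :
    ∃ (n : ℕ) (f : Fin n → R), (∀ j, f j ≠ 0) ∧
      ∃ (a : ((j : Fin n) → R ⧸ Ideal.span {f j}) →ₗ[R] T)
        (b : T →ₗ[R] ((j : Fin n) → R ⧸ Ideal.span {f j})) (g : R),
        g ∉ m ∧ a ∘ₗ b = g • LinearMap.id := by
  classical
  have hS : m.primeCompl ≤ nonZeroDivisors R := m.primeCompl_le_nonZeroDivisors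
  haveI : IsDomain (Localization m.primeCompl) := IsLocalization.isDomain_localization hS
  haveI : IsBezout (Localization m.primeCompl) := isBezout_localization R m.primeCompl
  haveI : IsLocalRing (Localization m.primeCompl) :=
    inferInstanceAs (IsLocalRing (Localization.AtPrime m))
  haveI : ValuationRing (Localization m.primeCompl) := inferInstance
  have hinjV : Function.Injective (algebraMap R (Localization m.primeCompl)) :=
    IsLocalization.injective _ hS
  -- torsion
  have htorsS : ∀ y : LocalizedModule m.primeCompl T,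
      ∃ a : Localization m.primeCompl, a ≠ 0 ∧ a • y = 0 := by
    intro y
    induction y using LocalizedModule.induction_on with
    | h t s =>
      obtain ⟨a, ha, hat⟩ := htors t
      refine ⟨algebraMap R _ a, fun h => ha (hinjV (h.trans (map_zero _).symm)), ?_⟩
      rw [algebraMap_smul, LocalizedModule.smul'_mk, hat, LocalizedModule.zero_mk]
  obtain ⟨s, hs⟩ := (Module.Finite.fg_top :
    (⊤ : Submodule (Localization m.primeCompl) (LocalizedModule m.primeCompl T)).FG)
  obtain ⟨n, d, hd, ⟨e⟩⟩ := valuation_structure (Localization m.primeCompl) s.card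
    (LocalizedModule m.primeCompl T) htorsS s le_rfl hs
  choose fs hfs using fun j => IsLocalization.surj m.primeCompl (d j)
  let f : Fin n → R := fun j => (fs j).1
  have hf : ∀ j, d j * algebraMap R _ ((fs j).2 : R) = algebraMap R _ (f j) := hfs
  have hf0 : ∀ j, f j ≠ 0 := by
    intro j h
    have h2 := hf j
    rw [h, map_zero] at h2
    have hu : IsUnit (algebraMap R (Localization m.primeCompl) ((fs j).2 : R)) :=
      IsLocalization.map_units _ (fs j).2
    exact hd j ((hu.mul_left_eq_zero).mp h2)
  have hj : ∀ j, (Ideal.span {d j} : Ideal (Localization m.primeCompl))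
      = (Ideal.span {f j} : Submodule R R).localized' (Localization m.primeCompl) m.primeCompl
          (Algebra.linearMap R (Localization m.primeCompl)) := by
    intro j
    rw [Ideal.span, Submodule.localized'_span, Set.image_singleton, Algebra.linearMap_apply,
      ← hf j]
    exact (Ideal.span_singleton_mul_right_unit (IsLocalization.map_units _ (fs j).2) (d j)).symm
  let e' : LocalizedModule m.primeCompl T ≃ₗ[Localization m.primeCompl]
      ((j : Fin n) → (Localization m.primeCompl) ⧸
        (Ideal.span {f j} : Submodule R R).localized' (Localization m.primeCompl) m.primeCompl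
          (Algebra.linearMap R (Localization m.primeCompl))) :=
    e.trans (LinearEquiv.piCongrRight fun j => Submodule.quotEquivOfEq _ _ (hj j))
  let ν : ((j : Fin n) → R ⧸ Ideal.span {f j}) →ₗ[R]
      ((j : Fin n) → (Localization m.primeCompl) ⧸
        (Ideal.span {f j} : Submodule R R).localized' (Localization m.primeCompl) m.primeCompl
          (Algebra.linearMap R (Localization m.primeCompl))) :=
    LinearMap.pi fun j => (Submodule.toLocalizedQuotient' (Localization m.primeCompl) m.primeCompl
      (Algebra.linearMap R (Localization m.primeCompl)) (Ideal.span {f j})) ∘ₗ LinearMap.proj j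
  haveI : IsLocalizedModule m.primeCompl ν := inferInstance
  haveI : ∀ j, Module.FinitePresentation R (R ⧸ Ideal.span {f j}) := fun j => fp_quot_span R (f j)
  let mkT : T →ₗ[R] LocalizedModule m.primeCompl T := LocalizedModule.mkLinearMap m.primeCompl T
  let g1 : ((j : Fin n) → R ⧸ Ideal.span {f j}) →ₗ[R] LocalizedModule m.primeCompl T :=
    (e'.symm.toLinearMap.restrictScalars R) ∘ₗ ν
  let g2 : T →ₗ[R] ((j : Fin n) → (Localization m.primeCompl) ⧸
        (Ideal.span {f j} : Submodule R R).localized' (Localization m.primeCompl) m.primeCompl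
          (Algebra.linearMap R (Localization m.primeCompl))) :=
    (e'.toLinearMap.restrictScalars R) ∘ₗ mkT
  obtain ⟨a, s1, ha⟩ :=
    Module.FinitePresentation.exists_lift_of_isLocalizedModule m.primeCompl mkT g1
  obtain ⟨b, s2, hb⟩ :=
    Module.FinitePresentation.exists_lift_of_isLocalizedModule m.primeCompl ν g2
  have hcomp : mkT ∘ₗ (a ∘ₗ b) = mkT ∘ₗ (((s1 : R) * (s2 : R)) • LinearMap.id) := by
    ext t
    have h1 : mkT (a (b t)) = (s1 : R) • g1 (b t) := by
      have := LinearMap.congr_fun ha (b t)
      rw [LinearMap.smul_apply, Submonoid.smul_def] at this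
      exact this
    have h2 : ν (b t) = (s2 : R) • g2 t := by
      have := LinearMap.congr_fun hb t
      rw [LinearMap.smul_apply, Submonoid.smul_def] at this
      exact this
    change mkT (a (b t)) = mkT (((s1 : R) * (s2 : R)) • t)
    rw [h1]
    change (s1 : R) • e'.symm (ν (b t)) = _
    rw [h2]
    change (s1 : R) • e'.symm ((s2 : R) • e' (mkT t)) = _
    rw [← algebraMap_smul (Localization m.primeCompl) (s2 : R) (e' (mkT t)), map_smul,
      LinearEquiv.symm_apply_apply, algebraMap_smul, smul_smul, map_smul]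
  obtain ⟨t, ht⟩ := Module.Finite.exists_smul_of_comp_eq_of_isLocalizedModule m.primeCompl mkT
    _ _ hcomp
  refine ⟨n, f, hf0, (t : R) • a, b, (t : R) * ((s1 : R) * (s2 : R)), ?_, ?_⟩
  · exact (t * (s1 * s2)).2
  · rw [LinearMap.smul_comp]
    have := ht
    rw [Submonoid.smul_def, Submonoid.smul_def, smul_smul] at this
    exact this

/-- Reindexing a finite product of cyclic modules by `Fin n`. -/
theorem exists_fin_reindex {ι : Type*} [Fintype ι] (f : ι → R) (hf : ∀ i, f i ≠ 0) :
    ∃ (n : ℕ) (F : Fin n → R), (∀ j, F j ≠ 0) ∧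
      Nonempty (((i : ι) → R ⧸ Ideal.span {f i}) ≃ₗ[R] ((j : Fin n) → R ⧸ Ideal.span {F j})) :=
  ⟨Fintype.card ι, fun j => f ((Fintype.equivFin ι).symm j), fun j => hf _,
    ⟨LinearEquiv.piCongrLeft' R (fun i => R ⧸ Ideal.span {f i}) (Fintype.equivFin ι)⟩⟩

/-- Over a Bézout domain, a finitely presented torsion module is a retract of a finite product of
cyclic modules `R/(f)` with `f ≠ 0`. -/
theorem global_retract (T : Type u) [AddCommGroup T] [Module R T] [Module.FinitePresentation R T]
    (htors : ∀ x : T, ∃ a : R, a ≠ 0 ∧ a • x = 0) :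
    ∃ (n : ℕ) (f : Fin n → R), (∀ j, f j ≠ 0) ∧
      ∃ (i : T →ₗ[R] ((j : Fin n) → R ⧸ Ideal.span {f j}))
        (p : ((j : Fin n) → R ⧸ Ideal.span {f j}) →ₗ[R] T), p ∘ₗ i = LinearMap.id := by
  classical
  let G : Set R := {g | ∃ (n : ℕ) (f : Fin n → R), (∀ j, f j ≠ 0) ∧
      ∃ (a : ((j : Fin n) → R ⧸ Ideal.span {f j}) →ₗ[R] T)
        (b : T →ₗ[R] ((j : Fin n) → R ⧸ Ideal.span {f j})), a ∘ₗ b = g • LinearMap.id}
  have hG : Ideal.span G = ⊤ := by
    by_contra h
    obtain ⟨m, hm, hle⟩ := Ideal.exists_le_maximal _ h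
    obtain ⟨n, f, hf, a, b, g, hg, hab⟩ := local_retract R T htors m
    exact hg (hle (Ideal.subset_span ⟨n, f, hf, a, b, hab⟩))
  have h1 : (1 : R) ∈ Ideal.span G := by rw [hG]; trivial
  rw [Ideal.span, Submodule.mem_span_set'] at h1
  obtain ⟨N, c, g, hsum⟩ := h1
  have hg : ∀ i : Fin N, ∃ (n : ℕ) (f : Fin n → R), (∀ j, f j ≠ 0) ∧
      ∃ (a : ((j : Fin n) → R ⧸ Ideal.span {f j}) →ₗ[R] T)
        (b : T →ₗ[R] ((j : Fin n) → R ⧸ Ideal.span {f j})),
        a ∘ₗ b = (g i : R) • LinearMap.id := fun i => (g i).2
  choose n f hf a b hab using hg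
  let F : (Σ i : Fin N, Fin (n i)) → R := fun p => f p.1 p.2
  let bbig : T →ₗ[R] ((p : Σ i : Fin N, Fin (n i)) → R ⧸ Ideal.span {F p}) :=
    LinearMap.pi fun p => (LinearMap.proj p.2) ∘ₗ (b p.1)
  let sel : ∀ i : Fin N, ((p : Σ i : Fin N, Fin (n i)) → R ⧸ Ideal.span {F p}) →ₗ[R]
      ((j : Fin (n i)) → R ⧸ Ideal.span {f i j}) :=
    fun i => LinearMap.pi fun j => LinearMap.proj (⟨i, j⟩ : Σ i : Fin N, Fin (n i))
  let abig : ((p : Σ i : Fin N, Fin (n i)) → R ⧸ Ideal.span {F p}) →ₗ[R] T :=
    ∑ i, c i • ((a i) ∘ₗ (sel i))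
  have hsel : ∀ i t, sel i (bbig t) = b i t := by
    intro i t
    funext j
    rfl
  have hbig : abig ∘ₗ bbig = LinearMap.id := by
    ext t
    change abig (bbig t) = t
    simp only [abig, LinearMap.sum_apply, LinearMap.smul_apply,
      LinearMap.coe_comp, Function.comp_apply, hsel]
    have h2 : ∀ i, (a i) (b i t) = (g i : R) • t := fun i => LinearMap.congr_fun (hab i) t
    simp only [h2, smul_smul]
    rw [← Finset.sum_smul]
    have h3 : ∑ i, c i * (g i : R) = 1 := by
      rw [← hsum]
      exact Finset.sum_congr rfl fun i _ => (smul_eq_mul _ _).symm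
    rw [h3, one_smul]
  obtain ⟨n', F', hF', ⟨E⟩⟩ := exists_fin_reindex R F (fun p => hf p.1 p.2)
  refine ⟨n', F', hF', E.toLinearMap ∘ₗ bbig, abig ∘ₗ E.symm.toLinearMap, ?_⟩
  ext t
  change abig (E.symm (E (bbig t))) = t
  rw [LinearEquiv.symm_apply_apply]
  exact LinearMap.congr_fun hbig t

end partE

/-- The main theorem on finitely presented modules over Bézout domains. -/
theorem main (R : Type u) [CommRing R] [IsDomain R] [IsBezout R]
    (M : Type u) [AddCommGroup M] [Module R M] [Module.FinitePresentation R M] :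
    (∃ r : ℕ, Nonempty (M ≃ₗ[R] ((Fin r → R) × Submodule.torsion R M))) ∧
      ∃ (n : ℕ) (f : Fin n → R), (∀ j, f j ≠ 0) ∧
        ∃ (i : Submodule.torsion R M →ₗ[R] ((j : Fin n) → R ⧸ Ideal.span {f j}))
          (p : ((j : Fin n) → R ⧸ Ideal.span {f j}) →ₗ[R] Submodule.torsion R M),
          p ∘ₗ i = LinearMap.id := by
  obtain ⟨h1, h2⟩ := exists_splitting R M
  refine ⟨h1, ?_⟩
  haveI := h2
  apply global_retract R (Submodule.torsion R M)
  rintro ⟨x, hx⟩
  rw [Submodule.mem_torsion_iff] at hx
  obtain ⟨a, ha⟩ := hx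
  refine ⟨(a : R), nonZeroDivisors.coe_ne_zero a, ?_⟩
  apply Subtype.ext
  exact ha

end BezoutFPH3
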