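import Mathlib
import Groth.Agent.Lib.BezoutFP_helper3

/-!
# Finitely presented modules over rings whose localizations have total divisibility (helper3)

Generalization of `BezoutFP_helper3` (no domain hypothesis): if all localizations of `R` at maximal
ideals have total divisibility, then a finitely presented module is a retract of a finite product
of cyclic modules `R/(f)`.
-/

universe u

namespace ArithRingFPH3

open Submodule

section partD

variable (V : Type u) [CommRing V] (hV : ∀ a b : V, a ∣ b ∨ b ∣ a)
include hV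

theorem exists_dvd_all (C : Finset V) (hC : C.Nonempty) : ∃ d ∈ C, ∀ c ∈ C, d ∣ c := by
  classical
  induction hC using Finset.Nonempty.cons_induction with
  | singleton a =>
    exact ⟨a, Finset.mem_singleton_self a, fun c hc => by rw [Finset.mem_singleton.mp hc]⟩
  | cons a s ha hs ih =>
    obtain ⟨d, hd, hdc⟩ := ih
    rcases hV a d with h | h
    · refine ⟨a, Finset.mem_cons_self a s, fun c hc => ?_⟩
      rcases Finset.mem_cons.mp hc with rfl | hc
      · exact dvd_rfl
      · exact h.trans (hdc c hc)
    · refine ⟨d, Finset.mem_cons.mpr (Or.inr hd), fun c hc => ?_⟩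
      rcases Finset.mem_cons.mp hc with rfl | hc
      · exact h
      · exact hdc c hc

omit hV in
theorem structure_of_subsingleton (T : Type u) [AddCommGroup T] [Module V T] [Subsingleton T] :
    ∃ (m : ℕ) (d : Fin m → V),
      Nonempty (T ≃ₗ[V] ((j : Fin m) → V ⧸ Ideal.span {d j})) :=
  ⟨0, Fin.elim0, ⟨LinearEquiv.ofSubsingleton _ _⟩⟩

/-- Structure of finitely presented modules over a ring with total divisibility. -/
theorem dvdTotal_structure :
    ∀ (n : ℕ) (T : Type u) [AddCommGroup T] [Module V T] [Module.FinitePresentation V T]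
      (s : Finset T), s.card ≤ n → Submodule.span V (s : Set T) = ⊤ →
      ∃ (m : ℕ) (d : Fin m → V),
        Nonempty (T ≃ₗ[V] ((j : Fin m) → V ⧸ Ideal.span {d j})) := by
  intro n
  induction n with
  | zero =>
    intro T _ _ _ s hs hspan
    have hs0 : s = ∅ := Finset.card_eq_zero.mp (Nat.le_zero.mp hs)
    rw [hs0, Finset.coe_empty, Submodule.span_empty] at hspan
    haveI : Subsingleton T := (Submodule.subsingleton_iff V).mp (subsingleton_of_bot_eq_top hspan)
    exact structure_of_subsingleton V T
  | succ n ih =>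
    intro T _ _ _ s hs hspan
    classical
    by_cases hse : s = ∅
    · rw [hse, Finset.coe_empty, Submodule.span_empty] at hspan
      haveI : Subsingleton T :=
        (Submodule.subsingleton_iff V).mp (subsingleton_of_bot_eq_top hspan)
      exact structure_of_subsingleton V T
    obtain ⟨i0, hi0⟩ := Finset.nonempty_iff_ne_empty.mpr hse
    -- the presentation
    let π : (s → V) →ₗ[V] T := Fintype.linearCombination V (fun i : s => (i : T))
    have hπ : Function.Surjective π := by
      rw [← LinearMap.range_eq_top, Fintype.range_linearCombination]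
      rw [Subtype.range_coe_subtype]
      exact hspan
    have hK : (LinearMap.ker π).FG := Module.FinitePresentation.fg_ker π hπ
    obtain ⟨S, hS⟩ := hK
    obtain ⟨d, l, r', hdK, hr'l, hdr⟩ : ∃ (d : V) (l : s) (r' : s → V),
        (∀ k ∈ LinearMap.ker π, ∀ i, d ∣ k i) ∧ r' l = 1 ∧ d • r' ∈ LinearMap.ker π := by
      by_cases hSe : S = ∅
      · refine ⟨0, ⟨i0, hi0⟩, Pi.single ⟨i0, hi0⟩ 1, ?_, Pi.single_eq_same _ _, ?_⟩
        · intro k hk i
          rw [← hS, hSe, Finset.coe_empty, Submodule.span_empty, Submodule.mem_bot] at hk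
          rw [hk]
          exact dvd_zero _
        · rw [zero_smul]; exact Submodule.zero_mem _
      · have hSne : S.Nonempty := Finset.nonempty_iff_ne_empty.mpr hSe
        let C : Finset V := S.biUnion (fun k => Finset.univ.image k)
        have hCne : C.Nonempty := by
          obtain ⟨k, hk⟩ := hSne
          exact ⟨k ⟨i0, hi0⟩, Finset.mem_biUnion.mpr
            ⟨k, hk, Finset.mem_image_of_mem _ (Finset.mem_univ _)⟩⟩
        obtain ⟨d, hdC, hd⟩ := exists_dvd_all V hV C hCne
        have hdK : ∀ k ∈ LinearMap.ker π, ∀ i, d ∣ k i := by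
          intro k hk
          rw [← hS] at hk
          induction hk using Submodule.span_induction with
          | mem k hk =>
            intro i
            exact hd _ (Finset.mem_biUnion.mpr
              ⟨k, hk, Finset.mem_image_of_mem _ (Finset.mem_univ _)⟩)
          | zero => intro i; exact dvd_zero _
          | add x y _ _ hx hy => intro i; exact dvd_add (hx i) (hy i)
          | smul c x _ hx => intro i; exact Dvd.dvd.mul_left (hx i) c
        obtain ⟨k0, hk0S, hk0⟩ := Finset.mem_biUnion.mp hdC
        obtain ⟨l, -, hl⟩ := Finset.mem_image.mp hk0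
        have hk0K : k0 ∈ LinearMap.ker π := by rw [← hS]; exact Submodule.subset_span hk0S
        choose r'' hr'' using fun i => hdK k0 hk0K i
        refine ⟨d, l, Function.update r'' l 1, hdK, Function.update_self _ _ _, ?_⟩
        have h2 : d • Function.update r'' l 1 = k0 := by
          funext i
          rw [Pi.smul_apply, smul_eq_mul]
          by_cases hil : i = l
          · rw [hil, Function.update_self, mul_one, hl]
          · rw [Function.update_of_ne hil, ← hr'' i]
        rw [h2]
        exact hk0K
    let x : T := π r'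
    have hdx : d • x = 0 := by
      rw [← map_smul]
      exact hdr
    -- the retraction onto V/(d)
    let ρ0 : (s → V) →ₗ[V] (V ⧸ Ideal.span {d}) :=
      (Submodule.mkQ (Ideal.span {d})).comp (LinearMap.proj l)
    have hρ0 : LinearMap.ker π ≤ LinearMap.ker ρ0 := by
      intro k hk
      rw [LinearMap.mem_ker]
      change Submodule.Quotient.mk (k l) = 0
      rw [Submodule.Quotient.mk_eq_zero]
      exact Ideal.mem_span_singleton.mpr (hdK k hk l)
    let ρ : T →ₗ[V] (V ⧸ Ideal.span {d}) :=
      ((LinearMap.ker π).liftQ ρ0 hρ0).comp (π.quotKerEquivOfSurjective hπ).symm.toLinearMap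
    have hρ : ∀ v, ρ (π v) = Submodule.Quotient.mk (v l) := by
      intro v
      change ((LinearMap.ker π).liftQ ρ0 hρ0) ((π.quotKerEquivOfSurjective hπ).symm (π v)) = _
      rw [LinearMap.quotKerEquivOfSurjective_symm_apply, Submodule.liftQ_apply]
      rfl
    have hρx : ρ x = Submodule.Quotient.mk 1 := by rw [hρ, hr'l]
    let mk2 : T →ₗ[V] (T ⧸ Submodule.span V {x}) := (Submodule.span V {x}).mkQ
    have hmk2x : mk2 x = 0 :=
      (Submodule.Quotient.mk_eq_zero _).mpr (Submodule.mem_span_singleton_self x)
    let Θ : T →ₗ[V] ((V ⧸ Ideal.span {d}) × (T ⧸ Submodule.span V {x})) := ρ.prod mk2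
    have hΘinj : Function.Injective Θ := by
      rw [← LinearMap.ker_eq_bot, LinearMap.ker_eq_bot']
      intro t ht
      have h1 : ρ t = 0 := congrArg Prod.fst ht
      have h2 : mk2 t = 0 := congrArg Prod.snd ht
      rw [Submodule.mkQ_apply, Submodule.Quotient.mk_eq_zero, Submodule.mem_span_singleton] at h2
      obtain ⟨c, rfl⟩ := h2
      rw [map_smul, hρx, ← Submodule.Quotient.mk_smul, smul_eq_mul, mul_one,
        Submodule.Quotient.mk_eq_zero, Ideal.mem_span_singleton'] at h1
      obtain ⟨e, rfl⟩ := h1
      rw [mul_smul, hdx, smul_zero]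
    have hΘsurj : Function.Surjective Θ := by
      rintro ⟨y, q⟩
      obtain ⟨c, rfl⟩ := Submodule.Quotient.mk_surjective _ y
      obtain ⟨t, rfl⟩ := Submodule.Quotient.mk_surjective _ q
      obtain ⟨c0, hc0⟩ := Submodule.Quotient.mk_surjective _ (ρ t)
      refine ⟨t + (c - c0) • x, ?_⟩
      apply Prod.ext
      · change ρ (t + (c - c0) • x) = _
        rw [map_add, map_smul, hρx, ← hc0, ← Submodule.Quotient.mk_smul,
          ← Submodule.Quotient.mk_add]
        congr 1
        rw [smul_eq_mul, mul_one]; ring
      · change mk2 (t + (c - c0) • x) = _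
        rw [map_add, map_smul, hmk2x, smul_zero, add_zero]
        rfl
    let eΘ : T ≃ₗ[V] ((V ⧸ Ideal.span {d}) × (T ⧸ Submodule.span V {x})) :=
      LinearEquiv.ofBijective Θ ⟨hΘinj, hΘsurj⟩
    -- the quotient T'' = T/Vx
    haveI : Module.FinitePresentation V (T ⧸ Submodule.span V {x}) :=
      Module.finitePresentation_of_surjective mk2 (Submodule.mkQ_surjective _)
        (by rw [Submodule.ker_mkQ]; exact Submodule.fg_span_singleton x)
    let s2 : Finset (T ⧸ Submodule.span V {x}) := (s.erase (l : T)).image mk2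
    have hcard2 : s2.card ≤ n := by
      refine Finset.card_image_le.trans ?_
      rw [Finset.card_erase_of_mem l.2]
      omega
    have hspan2 : Submodule.span V (s2 : Set (T ⧸ Submodule.span V {x})) = ⊤ := by
      rw [eq_top_iff, ← LinearMap.range_eq_top.mpr (Submodule.mkQ_surjective (Submodule.span V {x})),
        LinearMap.range_eq_map, ← hspan, Submodule.map_span, Submodule.span_le]
      rintro _ ⟨i, hi, rfl⟩
      by_cases hil : i = (l : T)
      · have hx : x = ∑ j : s, r' j • (j : T) := Fintype.linearCombination_apply V _ r'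
        rw [← Finset.add_sum_erase Finset.univ _ (Finset.mem_univ l), hr'l, one_smul] at hx
        have hl2 : (l : T) = x - ∑ j ∈ Finset.univ.erase l, r' j • (j : T) := by
          rw [hx]; abel
        rw [hil, hl2]
        change mk2 _ ∈ _
        rw [map_sub, hmk2x, zero_sub, map_sum]
        refine Submodule.neg_mem _ (Submodule.sum_mem _ fun j hj => ?_)
        rw [map_smul]
        refine Submodule.smul_mem _ _ (Submodule.subset_span ?_)
        have hjl : j ≠ l := Finset.ne_of_mem_erase hj
        exact Finset.mem_coe.mpr (Finset.mem_image_of_mem _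
          (Finset.mem_erase.mpr ⟨fun h => hjl (Subtype.ext h), j.2⟩))
      · exact Submodule.subset_span (Finset.mem_coe.mpr (Finset.mem_image_of_mem _
          (Finset.mem_erase.mpr ⟨hil, hi⟩)))
    obtain ⟨m, d', ⟨e2⟩⟩ := ih (T ⧸ Submodule.span V {x}) s2 hcard2 hspan2
    refine ⟨m + 1, Fin.cons d d', ⟨?_⟩⟩
    have h0 : (Ideal.span {d} : Ideal V) = Ideal.span {(Fin.cons d d' : Fin (m + 1) → V) 0} := by
      rw [Fin.cons_zero]
    have hi : ∀ i : Fin m, (Ideal.span {d' i} : Ideal V)
        = Ideal.span {(Fin.cons d d' : Fin (m + 1) → V) i.succ} := by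
      intro i; rw [Fin.cons_succ]
    exact eΘ.trans ((LinearEquiv.prodCongr (Submodule.quotEquivOfEq _ _ h0)
      (e2.trans (LinearEquiv.piCongrRight fun i => Submodule.quotEquivOfEq _ _ (hi i)))).trans
      (Fin.consLinearEquiv V (fun j => V ⧸ Ideal.span {(Fin.cons d d' : Fin (m + 1) → V) j})))

end partD

section partE

variable (R : Type u) [CommRing R]

/-- Local version: near a maximal ideal at which the localization has total divisibility, a
finitely presented module is a retract up to an element outside the maximal ideal of a finite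
product of cyclic modules. -/
theorem local_retract (T : Type u) [AddCommGroup T] [Module R T] [Module.FinitePresentation R T]
    (m : Ideal R) [m.IsMaximal] (hm : ∀ a b : Localization.AtPrime m, a ∣ b ∨ b ∣ a) :
    ∃ (n : ℕ) (f : Fin n → R),
      ∃ (a : ((j : Fin n) → R ⧸ Ideal.span {f j}) →ₗ[R] T)
        (b : T →ₗ[R] ((j : Fin n) → R ⧸ Ideal.span {f j})) (g : R),
        g ∉ m ∧ a ∘ₗ b = g • LinearMap.id := by
  classical
  obtain ⟨s, hs⟩ := (Module.Finite.fg_top :
    (⊤ : Submodule (Localization m.primeCompl) (LocalizedModule m.primeCompl T)).FG)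
  obtain ⟨n, d, ⟨e⟩⟩ := dvdTotal_structure (Localization m.primeCompl) hm s.card
    (LocalizedModule m.primeCompl T) s le_rfl hs
  choose fs hfs using fun j => IsLocalization.surj m.primeCompl (d j)
  let f : Fin n → R := fun j => (fs j).1
  have hf : ∀ j, d j * algebraMap R _ ((fs j).2 : R) = algebraMap R _ (f j) := hfs
  have hj : ∀ j, (Ideal.span {d j} : Ideal (Localization m.primeCompl))
      = (Ideal.span {f j} : Submodule R R).localized' (Localization m.primeCompl) m.primeCompl
          (Algebra.linearMap R (Localization m.primeCompl)) := by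
    intro j
    rw [Ideal.span, Submodule.localized'_span, Set.image_singleton, Algebra.linearMap_apply,
      ← hf j]
    exact (Ideal.span_singleton_mul_right_unit (IsLocalization.map_units _ (fs j).2) (d j)).symm
  let e' : LocalizedModule m.primeCompl T ≃ₗ[Localization m.primeCompl]
      ((j : Fin n) → (Localization m.primeCompl) ⧸
        (Ideal.span {f j} : Submodule R R).localized' (Localization m.primeCompl) m.primeCompl
          (Algebra.linearMap R (Localization m.primeCompl))) :=
    e.trans (LinearEquiv.piCongrRight fun j => Submodule.quotEquivOfEq _ _ (hj j))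
  let ν : ((j : Fin n) → R ⧸ Ideal.span {f j}) →ₗ[R]
      ((j : Fin n) → (Localization m.primeCompl) ⧸
        (Ideal.span {f j} : Submodule R R).localized' (Localization m.primeCompl) m.primeCompl
          (Algebra.linearMap R (Localization m.primeCompl))) :=
    LinearMap.pi fun j => (Submodule.toLocalizedQuotient' (Localization m.primeCompl) m.primeCompl
      (Algebra.linearMap R (Localization m.primeCompl)) (Ideal.span {f j})) ∘ₗ LinearMap.proj j
  haveI : IsLocalizedModule m.primeCompl ν := inferInstance
  haveI : ∀ j, Module.FinitePresentation R (R ⧸ Ideal.span {f j}) := fun j =>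
    Module.finitePresentation_of_surjective (Submodule.mkQ (Ideal.span {f j}))
      (Submodule.mkQ_surjective _)
      (by rw [Submodule.ker_mkQ]; exact Submodule.fg_span_singleton (f j))
  let mkT : T →ₗ[R] LocalizedModule m.primeCompl T := LocalizedModule.mkLinearMap m.primeCompl T
  let g1 : ((j : Fin n) → R ⧸ Ideal.span {f j}) →ₗ[R] LocalizedModule m.primeCompl T :=
    (e'.symm.toLinearMap.restrictScalars R) ∘ₗ ν
  let g2 : T →ₗ[R] ((j : Fin n) → (Localization m.primeCompl) ⧸
        (Ideal.span {f j} : Submodule R R).localized' (Localization m.primeCompl) m.primeCompl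
          (Algebra.linearMap R (Localization m.primeCompl))) :=
    (e'.toLinearMap.restrictScalars R) ∘ₗ mkT
  obtain ⟨a, s1, ha⟩ :=
    Module.FinitePresentation.exists_lift_of_isLocalizedModule m.primeCompl mkT g1
  obtain ⟨b, s2, hb⟩ :=
    Module.FinitePresentation.exists_lift_of_isLocalizedModule m.primeCompl ν g2
  have hcomp : mkT ∘ₗ (a ∘ₗ b) = mkT ∘ₗ (((s1 : R) * (s2 : R)) • LinearMap.id) := by
    ext t
    have h1 : mkT (a (b t)) = (s1 : R) • g1 (b t) := by
      have := LinearMap.congr_fun ha (b t)
      rw [LinearMap.smul_apply, Submonoid.smul_def] at this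
      exact this
    have h2 : ν (b t) = (s2 : R) • g2 t := by
      have := LinearMap.congr_fun hb t
      rw [LinearMap.smul_apply, Submonoid.smul_def] at this
      exact this
    change mkT (a (b t)) = mkT (((s1 : R) * (s2 : R)) • t)
    rw [h1]
    change (s1 : R) • e'.symm (ν (b t)) = _
    rw [h2]
    change (s1 : R) • e'.symm ((s2 : R) • e' (mkT t)) = _
    rw [← algebraMap_smul (Localization m.primeCompl) (s2 : R) (e' (mkT t)), map_smul,
      LinearEquiv.symm_apply_apply, algebraMap_smul, smul_smul, map_smul]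
  obtain ⟨t, ht⟩ := Module.Finite.exists_smul_of_comp_eq_of_isLocalizedModule m.primeCompl mkT
    _ _ hcomp
  refine ⟨n, f, (t : R) • a, b, (t : R) * ((s1 : R) * (s2 : R)), ?_, ?_⟩
  · exact (t * (s1 * s2)).2
  · rw [LinearMap.smul_comp]
    have := ht
    rw [Submonoid.smul_def, Submonoid.smul_def, smul_smul] at this
    exact this

/-- Reindexing a finite product of cyclic modules by `Fin n`. -/
theorem exists_fin_reindex {ι : Type*} [Fintype ι] (f : ι → R) :
    ∃ (n : ℕ) (F : Fin n → R),
      Nonempty (((i : ι) → R ⧸ Ideal.span {f i}) ≃ₗ[R] ((j : Fin n) → R ⧸ Ideal.span {F j})) :=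
  ⟨Fintype.card ι, fun j => f ((Fintype.equivFin ι).symm j),
    ⟨LinearEquiv.piCongrLeft' R (fun i => R ⧸ Ideal.span {f i}) (Fintype.equivFin ι)⟩⟩

/-- If all localizations at maximal ideals have total divisibility, a finitely presented module is
a retract of a finite product of cyclic modules `R/(f)`. -/
theorem global_retract
    (h : ∀ (m : Ideal R) [m.IsMaximal], ∀ a b : Localization.AtPrime m, a ∣ b ∨ b ∣ a)
    (T : Type u) [AddCommGroup T] [Module R T] [Module.FinitePresentation R T] :
    ∃ (n : ℕ) (f : Fin n → R),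
      ∃ (i : T →ₗ[R] ((j : Fin n) → R ⧸ Ideal.span {f j}))
        (p : ((j : Fin n) → R ⧸ Ideal.span {f j}) →ₗ[R] T), p ∘ₗ i = LinearMap.id := by
  classical
  let G : Set R := {g | ∃ (n : ℕ) (f : Fin n → R),
      ∃ (a : ((j : Fin n) → R ⧸ Ideal.span {f j}) →ₗ[R] T)
        (b : T →ₗ[R] ((j : Fin n) → R ⧸ Ideal.span {f j})), a ∘ₗ b = g • LinearMap.id}
  have hG : Ideal.span G = ⊤ := by
    by_contra hne
    obtain ⟨m, hm, hle⟩ := Ideal.exists_le_maximal _ hne
    obtain ⟨n, f, a, b, g, hg, hab⟩ := local_retract R T m (h m)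
    exact hg (hle (Ideal.subset_span ⟨n, f, a, b, hab⟩))
  have h1 : (1 : R) ∈ Ideal.span G := by rw [hG]; trivial
  rw [Ideal.span, Submodule.mem_span_set'] at h1
  obtain ⟨N, c, g, hsum⟩ := h1
  have hg : ∀ i : Fin N, ∃ (n : ℕ) (f : Fin n → R),
      ∃ (a : ((j : Fin n) → R ⧸ Ideal.span {f j}) →ₗ[R] T)
        (b : T →ₗ[R] ((j : Fin n) → R ⧸ Ideal.span {f j})),
        a ∘ₗ b = (g i : R) • LinearMap.id := fun i => (g i).2
  choose n f a b hab using hg
  let F : (Σ i : Fin N, Fin (n i)) → R := fun p => f p.1 p.2
  let bbig : T →ₗ[R] ((p : Σ i : Fin N, Fin (n i)) → R ⧸ Ideal.span {F p}) :=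
    LinearMap.pi fun p => (LinearMap.proj p.2) ∘ₗ (b p.1)
  let sel : ∀ i : Fin N, ((p : Σ i : Fin N, Fin (n i)) → R ⧸ Ideal.span {F p}) →ₗ[R]
      ((j : Fin (n i)) → R ⧸ Ideal.span {f i j}) :=
    fun i => LinearMap.pi fun j => LinearMap.proj (⟨i, j⟩ : Σ i : Fin N, Fin (n i))
  let abig : ((p : Σ i : Fin N, Fin (n i)) → R ⧸ Ideal.span {F p}) →ₗ[R] T :=
    ∑ i, c i • ((a i) ∘ₗ (sel i))
  have hsel : ∀ i t, sel i (bbig t) = b i t := by
    intro i t
    funext j
    rfl
  have hbig : abig ∘ₗ bbig = LinearMap.id := by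
    ext t
    change abig (bbig t) = t
    simp only [abig, LinearMap.sum_apply, LinearMap.smul_apply,
      LinearMap.coe_comp, Function.comp_apply, hsel]
    have h2 : ∀ i, (a i) (b i t) = (g i : R) • t := fun i => LinearMap.congr_fun (hab i) t
    simp only [h2, smul_smul]
    rw [← Finset.sum_smul]
    have h3 : ∑ i, c i * (g i : R) = 1 := by
      rw [← hsum]
      exact Finset.sum_congr rfl fun i _ => (smul_eq_mul _ _).symm
    rw [h3, one_smul]
  obtain ⟨n', F', ⟨E⟩⟩ := exists_fin_reindex R F
  refine ⟨n', F', E.toLinearMap ∘ₗ bbig, abig ∘ₗ E.symm.toLinearMap, ?_⟩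
  ext t
  change abig (E.symm (E (bbig t))) = t
  rw [LinearEquiv.symm_apply_apply]
  exact LinearMap.congr_fun hbig t

/-- Main theorem: a finitely presented module is a direct summand of a finite product of cyclic
modules. -/
theorem main
    (h : ∀ (m : Ideal R) [m.IsMaximal], ∀ a b : Localization.AtPrime m, a ∣ b ∨ b ∣ a)
    (M : Type u) [AddCommGroup M] [Module R M] [Module.FinitePresentation R M] :
    ∃ (n : ℕ) (f : Fin n → R) (N : Type u) (_ : AddCommGroup N) (_ : Module R N),
      Nonempty ((M × N) ≃ₗ[R] ((i : Fin n) → R ⧸ Ideal.span {f i})) := by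
  obtain ⟨n, f, i, p, hpi⟩ := global_retract R h M
  refine ⟨n, f, LinearMap.ker p, inferInstance, inferInstance, ⟨?_⟩⟩
  have hpi' : ∀ x, p (i x) = x := fun x => LinearMap.congr_fun hpi x
  refine LinearEquiv.ofBijective (i.coprod (LinearMap.ker p).subtype) ⟨?_, ?_⟩
  · rw [← LinearMap.ker_eq_bot, LinearMap.ker_eq_bot']
    rintro ⟨x, k⟩ hxk
    rw [LinearMap.coprod_apply] at hxk
    have h1 := congrArg p hxk
    rw [map_add, hpi', map_zero] at h1
    have hk : p (k : _) = 0 := k.2
    rw [Submodule.subtype_apply, hk, add_zero] at h1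
    subst h1
    rw [map_zero, zero_add, Submodule.subtype_apply] at hxk
    exact Prod.ext rfl (Subtype.ext hxk)
  · intro y
    refine ⟨(p y, ⟨y - i (p y), ?_⟩), ?_⟩
    · rw [LinearMap.mem_ker, map_sub, hpi', sub_self]
    · rw [LinearMap.coprod_apply, Submodule.subtype_apply]
      exact add_sub_cancel _ _

end partE

end ArithRingFPH3
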