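import Groth.Agent.Lib.Nil5_helper8

set_option autoImplicit false
universe u

open AlgebraicGeometry CategoryTheory CategoryTheory.Limits
open Groth.Agent.Lib.NilThick_helper6

namespace ArtBaseH8

/-- `Spec` of a surjection with nilpotent kernel is a finite order thickening. -/
theorem isFiniteOrderThickening_SpecMap {A B : CommRingCat.{u}} (φ : A ⟶ B)
    (hφ : Function.Surjective φ.hom) (hnil : IsNilpotent (RingHom.ker φ.hom)) :
    MoreMor.IsFiniteOrderThickening (Spec.map φ) := by
  haveI : IsClosedImmersion (Spec.map φ) := IsClosedImmersion.spec_of_surjective φ hφ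
  refine ⟨⟨inferInstance, ⟨?_⟩⟩, ?_⟩
  · intro p
    have hle : RingHom.ker φ.hom ≤ p.asIdeal := by
      obtain ⟨n, hn⟩ := hnil
      intro x hx
      have : x ^ n ∈ (RingHom.ker φ.hom) ^ n := Ideal.pow_mem_pow hx n
      rw [hn] at this
      have h0 : x ^ n = 0 := this
      exact p.2.mem_of_pow_mem n (h0 ▸ p.asIdeal.zero_mem)
    have hp : p ∈ Set.range (PrimeSpectrum.comap φ.hom) := by
      rw [range_comap_of_surjective _ _ hφ]
      exact (PrimeSpectrum.mem_zeroLocus _ _).mpr hle
    obtain ⟨q, hq⟩ := hp
    exact ⟨q, hq⟩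
  · obtain ⟨n, hn⟩ := hnil
    refine ⟨n, ?_⟩
    apply Scheme.IdealSheafData.ext_of_isAffine
    show ((Spec.map φ).ker.ideal ⟨⊤, isAffineOpen_top _⟩) ^ n = ⊥
    rw [Scheme.Hom.ker_apply]
    have hle : RingHom.ker ((Spec.map φ).app ⊤).hom ≤
        Ideal.comap (Scheme.ΓSpecIso A).hom.hom (RingHom.ker φ.hom) := by
      intro x hx
      rw [Ideal.mem_comap, RingHom.mem_ker]
      have h1 : (Scheme.ΓSpecIso A).hom ≫ φ =
          (Spec.map φ).appTop ≫ (Scheme.ΓSpecIso B).hom := (Scheme.ΓSpecIso_naturality φ).symm
      have h2 := congrArg (fun ψ => ψ.hom x) h1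
      simp only [CommRingCat.hom_comp, RingHom.comp_apply] at h2
      rw [h2]
      have h3 : ((Spec.map φ).appTop).hom x = 0 := RingHom.mem_ker.mp hx
      rw [h3, map_zero]
    rw [eq_bot_iff]
    calc (RingHom.ker ((Spec.map φ).app ⊤).hom) ^ n
        ≤ (Ideal.comap (Scheme.ΓSpecIso A).hom.hom (RingHom.ker φ.hom)) ^ n :=
          Ideal.pow_right_mono hle n
      _ ≤ Ideal.comap (Scheme.ΓSpecIso A).hom.hom ((RingHom.ker φ.hom) ^ n) :=
          Ideal.le_comap_pow _ n
      _ = ⊥ := by
          rw [hn]
          rw [eq_bot_iff]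
          intro x hx
          rw [Ideal.mem_comap] at hx
          have hinj : Function.Injective (Scheme.ΓSpecIso A).hom.hom :=
            (ConcreteCategory.bijective_of_isIso (Scheme.ΓSpecIso A).hom).1
          exact hinj (by rw [map_zero]; exact hx)

theorem isFiniteOrderThickening_residue (A : Type u) [CommRing A] [IsArtinianRing A]
    [IsLocalRing A] :
    MoreMor.IsFiniteOrderThickening
      (Spec.map (CommRingCat.ofHom (IsLocalRing.residue A))) := by
  refine isFiniteOrderThickening_SpecMap _ IsLocalRing.residue_surjective ?_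
  have h1 : RingHom.ker (CommRingCat.ofHom (IsLocalRing.residue A)).hom =
      IsLocalRing.maximalIdeal A := IsLocalRing.ker_residue
  rw [h1, ← IsLocalRing.jacobson_eq_maximalIdeal (⊥ : Ideal A) bot_ne_top]
  exact IsArtinianRing.isNilpotent_jacobson_bot

end ArtBaseH8

namespace ArtBaseH8

variable {S S' : Scheme.{u}} (i : S ⟶ S')

/-- Base change to a finite order thickening of the base detects local finite typeness. -/
theorem locallyOfFiniteType_of_pullback (hi : MoreMor.IsFiniteOrderThickening i)
    {X' : Scheme.{u}} (p : X' ⟶ S') (h : LocallyOfFiniteType (pullback.snd p i)) :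
    LocallyOfFiniteType p := by
  haveI := hi.1.1
  exact NilH8.locallyOfFiniteType_of_thickening_of_nil (pullback.fst p i) i (pullback.snd p i) p
    hi.1 (IsPullback.of_hasPullback p i) (fun U => isNilpotent_ker_app i hi.2 U)

theorem quasiCompact_of_pullback (hi : MoreMor.IsFiniteOrderThickening i)
    {X' : Scheme.{u}} (p : X' ⟶ S') (h : QuasiCompact (pullback.snd p i)) :
    QuasiCompact p := by
  haveI := hi.1.1
  haveI := hi.1.2
  haveI : IsClosedImmersion (pullback.fst p i) :=
    MorphismProperty.pullback_fst (P := @IsClosedImmersion) _ _ inferInstance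
  haveI : Surjective (pullback.fst p i) :=
    MorphismProperty.pullback_fst (P := @Surjective) _ _ inferInstance
  exact (Groth.Agent.Lib.Thickening_helper7.quasiCompact_iff_of_thickenings (pullback.fst p i) i
    (pullback.snd p i) p pullback.condition).1 h

/-- The square comparing the base changes of source and target of an `S'`-morphism. -/
theorem isPullback_overPullback (X Y : Over S') (u : X ⟶ Y) :
    IsPullback (pullback.fst X.hom i) ((Over.pullback i).map u).left u.left
      (pullback.fst Y.hom i) := by
  have hright : IsPullback (pullback.fst Y.hom i) (pullback.snd Y.hom i) Y.hom i :=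
    IsPullback.of_hasPullback Y.hom i
  have houter : IsPullback (pullback.fst X.hom i)
      (((Over.pullback i).map u).left ≫ pullback.snd Y.hom i) (u.left ≫ Y.hom) i := by
    have h1 : ((Over.pullback i).map u).left ≫ pullback.snd Y.hom i = pullback.snd X.hom i := by
      simp only [Over.pullback_map_left]
      exact pullback.lift_snd _ _ _
    rw [h1, Over.w u]
    exact IsPullback.of_hasPullback X.hom i
  refine IsPullback.of_bot houter ?_ hright
  simp only [Over.pullback_map_left]
  exact (pullback.lift_fst _ _ _).symm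

theorem isImmersion_of_pullback (hi : MoreMor.IsFiniteOrderThickening i) (X Y : Over S')
    (u : X ⟶ Y) (h : IsImmersion ((Over.pullback i).map u).left) : IsImmersion u.left := by
  have hY := NilH8.isFiniteOrderThickening_of_isPullback hi (IsPullback.of_hasPullback Y.hom i)
  haveI := hY.1.1
  have hc := isPullback_overPullback i X Y u
  haveI : LocallyOfFiniteType u.left :=
    NilH8.locallyOfFiniteType_of_thickening_of_nil _ _ _ _ hY.1 hc
      (fun U => isNilpotent_ker_app _ hY.2 U)
  exact (thickening_lft_isImmersion_iff _ _ _ _ hY.1 hc).1 h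

theorem isClosedImmersion_of_pullback (hi : MoreMor.IsFiniteOrderThickening i) (X Y : Over S')
    (u : X ⟶ Y) (h : IsClosedImmersion ((Over.pullback i).map u).left) :
    IsClosedImmersion u.left := by
  have hY := NilH8.isFiniteOrderThickening_of_isPullback hi (IsPullback.of_hasPullback Y.hom i)
  haveI := hY.1.1
  have hc := isPullback_overPullback i X Y u
  haveI : LocallyOfFiniteType u.left :=
    NilH8.locallyOfFiniteType_of_thickening_of_nil _ _ _ _ hY.1 hc
      (fun U => isNilpotent_ker_app _ hY.2 U)
  exact (thickening_lft_isClosedImmersion_iff _ _ _ _ hY.1 hc).1 h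

end ArtBaseH8
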