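import Mathlib
import Groth.Prelude.Def_Exal

set_option autoImplicit false
universe u

namespace Groth.Agent.Lib.ArtExtH1

open MvPolynomial IsLocalRing

section LemmaN
variable {k B : Type*} [Field k] [CommRing B] [Algebra k B]

theorem step (𝔪 : Ideal B) (hB : ∀ x : B, ∃ c : k, x - algebraMap k B c ∈ 𝔪)
    (S : Subalgebra k B) (hS : ∀ x ∈ 𝔪, ∃ s ∈ S, x - s ∈ 𝔪 ^ 2) :
    ∀ (r : ℕ) (y : B), y ∈ 𝔪 ^ r → ∃ s ∈ S, y - s ∈ 𝔪 ^ (r + 1) := by
  intro r
  induction r with
  | zero =>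
    intro y _
    obtain ⟨c, hc⟩ := hB y
    exact ⟨algebraMap k B c, S.algebraMap_mem c, by simpa using hc⟩
  | succ r ih =>
    intro y hy
    rw [pow_succ] at hy
    refine Submodule.mul_induction_on hy ?_ ?_
    · intro a ha b hb
      obtain ⟨sa, hsa, ha'⟩ := ih a ha
      obtain ⟨sb, hsb, hb'⟩ := hS b hb
      refine ⟨sa * sb, S.mul_mem hsa hsb, ?_⟩
      have e : a * b - sa * sb = a * (b - sb) + (a - sa) * b - (a - sa) * (b - sb) := by ring
      rw [e]
      have h1 : a * (b - sb) ∈ 𝔪 ^ (r + 1 + 1) := by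
        have : a * (b - sb) ∈ 𝔪 ^ r * 𝔪 ^ 2 := Ideal.mul_mem_mul ha hb'
        rw [← pow_add] at this
        exact Ideal.pow_le_pow_right (by omega) this
      have h2 : (a - sa) * b ∈ 𝔪 ^ (r + 1 + 1) := by
        have : (a - sa) * b ∈ 𝔪 ^ (r + 1) * 𝔪 := Ideal.mul_mem_mul ha' hb
        rw [← pow_succ] at this
        exact Ideal.pow_le_pow_right (by omega) this
      have h3 : (a - sa) * (b - sb) ∈ 𝔪 ^ (r + 1 + 1) := by
        have : (a - sa) * (b - sb) ∈ 𝔪 ^ (r + 1) * 𝔪 ^ 2 := Ideal.mul_mem_mul ha' hb'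
        rw [← pow_add] at this
        exact Ideal.pow_le_pow_right (by omega) this
      exact sub_mem (add_mem h1 h2) h3
    · rintro x y ⟨s, hs, hx⟩ ⟨t, ht, hy⟩
      refine ⟨s + t, S.add_mem hs ht, ?_⟩
      have : x + y - (s + t) = (x - s) + (y - t) := by ring
      rw [this]; exact add_mem hx hy

theorem approx (𝔪 : Ideal B) (hB : ∀ x : B, ∃ c : k, x - algebraMap k B c ∈ 𝔪)
    (S : Subalgebra k B) (hS : ∀ x ∈ 𝔪, ∃ s ∈ S, x - s ∈ 𝔪 ^ 2) :
    ∀ (r : ℕ) (x : B), ∃ s ∈ S, x - s ∈ 𝔪 ^ r := by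
  intro r
  induction r with
  | zero => intro x; exact ⟨0, S.zero_mem, by simp⟩
  | succ r ih =>
    intro x
    obtain ⟨s, hs, hx⟩ := ih x
    obtain ⟨t, ht, hy⟩ := step 𝔪 hB S hS r _ hx
    exact ⟨s + t, S.add_mem hs ht, by rwa [← sub_sub]⟩

theorem subalgebra_eq_top (𝔪 : Ideal B) (M : ℕ) (hM : 𝔪 ^ M = ⊥)
    (hB : ∀ x : B, ∃ c : k, x - algebraMap k B c ∈ 𝔪)
    (S : Subalgebra k B) (hS : ∀ x ∈ 𝔪, ∃ s ∈ S, x - s ∈ 𝔪 ^ 2) : S = ⊤ := by
  rw [eq_top_iff]
  intro x _
  obtain ⟨s, hs, hx⟩ := approx 𝔪 hB S hS M x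
  rw [hM, Ideal.mem_bot, sub_eq_zero] at hx
  rw [hx]; exact hs

end LemmaN

section Poly
variable {k : Type*} [Field k] {ι : Type*}

theorem lin_mem (l : ι →₀ k) :
    Finsupp.linearCombination k (X : ι → MvPolynomial ι k) l ∈
      Ideal.span (Set.range (X : ι → MvPolynomial ι k)) := by
  rw [Finsupp.linearCombination_apply, Finsupp.sum]
  refine Ideal.sum_mem _ ?_
  intro i _
  rw [MvPolynomial.smul_eq_C_mul]
  exact Ideal.mul_mem_left _ _ (Ideal.subset_span ⟨i, rfl⟩)

theorem decomp (f : MvPolynomial ι k) : ∃ (c : k) (l : ι →₀ k),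
    f - C c - Finsupp.linearCombination k (X : ι → MvPolynomial ι k) l ∈
      (Ideal.span (Set.range (X : ι → MvPolynomial ι k))) ^ 2 := by
  induction f using MvPolynomial.induction_on with
  | C a => exact ⟨a, 0, by simp⟩
  | add f g hf hg =>
    obtain ⟨c, l, h⟩ := hf
    obtain ⟨c', l', h'⟩ := hg
    refine ⟨c + c', l + l', ?_⟩
    have : f + g - C (c + c') - Finsupp.linearCombination k (X : ι → MvPolynomial ι k) (l + l') =
        (f - C c - Finsupp.linearCombination k (X : ι → MvPolynomial ι k) l) +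
        (g - C c' - Finsupp.linearCombination k (X : ι → MvPolynomial ι k) l') := by
      rw [map_add, map_add]; ring
    rw [this]; exact add_mem h h'
  | mul_X f j hf =>
    obtain ⟨c, l, h⟩ := hf
    refine ⟨0, Finsupp.single j c, ?_⟩
    have hX : (X j : MvPolynomial ι k) ∈ Ideal.span (Set.range (X : ι → MvPolynomial ι k)) :=
      Ideal.subset_span ⟨j, rfl⟩
    have hl := lin_mem (k := k) l
    have : f * X j - C 0 - Finsupp.linearCombination k (X : ι → MvPolynomial ι k)
          (Finsupp.single j c) =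
        (f - C c - Finsupp.linearCombination k (X : ι → MvPolynomial ι k) l) * X j +
          Finsupp.linearCombination k (X : ι → MvPolynomial ι k) l * X j := by
      rw [Finsupp.linearCombination_single, C_0, MvPolynomial.smul_eq_C_mul]; ring
    rw [this]
    refine add_mem ?_ ?_
    · exact Ideal.mul_mem_right _ _ h
    · rw [pow_two]; exact Ideal.mul_mem_mul hl hX

theorem X_pow_not_mem (i : ι) (N : ℕ) :
    (X i : MvPolynomial ι k) ^ N ∉
      (Ideal.span (Set.range (X : ι → MvPolynomial ι k))) ^ (N + 1) := by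
  intro h
  let ρ : MvPolynomial ι k →ₐ[k] Polynomial k := MvPolynomial.aeval (fun _ => Polynomial.X)
  have hρ : ∀ j, ρ (X j) = Polynomial.X := fun j => MvPolynomial.aeval_X _ j
  have h1 : Ideal.span (Set.range (X : ι → MvPolynomial ι k)) ≤
      (Ideal.span {(Polynomial.X : Polynomial k)}).comap ρ := by
    refine Ideal.span_le.2 ?_
    rintro _ ⟨j, rfl⟩
    rw [SetLike.mem_coe, Ideal.mem_comap, hρ]
    exact Ideal.subset_span (Set.mem_singleton _)
  have h2 : (Ideal.span (Set.range (X : ι → MvPolynomial ι k))) ^ (N + 1) ≤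
      ((Ideal.span {(Polynomial.X : Polynomial k)}) ^ (N + 1)).comap ρ :=
    (Ideal.pow_right_mono h1 _).trans (Ideal.le_comap_pow _ _)
  have h3 := h2 h
  rw [Ideal.mem_comap, Ideal.span_singleton_pow, Ideal.mem_span_singleton, map_pow, hρ] at h3
  have := (pow_dvd_pow_iff (Polynomial.X_ne_zero (R := k)) Polynomial.not_isUnit_X).1 h3
  omega

end Poly

section Core
variable {k : Type u} [Field k] {A : Type u} [CommRing A] [Algebra k A] [IsLocalRing A]

set_option maxHeartbeats 1600000 in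
theorem core (hres : ∀ a : A, ∃ c : k, a - algebraMap k A c ∈ maximalIdeal A)
    (N : ℕ) (hN : maximalIdeal A ^ N = ⊥) {ι : Type u} [hι : Nonempty ι] (x : ι → A)
    (h1 : ∀ i, x i ∈ maximalIdeal A)
    (h2 : ∀ a ∈ maximalIdeal A, ∃ l : ι →₀ k,
      a - Finsupp.linearCombination k x l ∈ maximalIdeal A ^ 2)
    (h3 : ∀ l : ι →₀ k, Finsupp.linearCombination k x l ∈ maximalIdeal A ^ 2 → l = 0) :
    ∃ X : Exal.Ext k A (ResidueField A), ¬ X.IsTrivial := by
  classical
  set m : Ideal A := maximalIdeal A with hm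
  obtain ⟨π, hπdef⟩ : ∃ π : MvPolynomial ι k →ₐ[k] A, π = MvPolynomial.aeval x := ⟨_, rfl⟩
  have hπX : ∀ i, π (X i) = x i := fun i => by rw [hπdef, MvPolynomial.aeval_X]
  have hπC : ∀ c : k, π (C c) = algebraMap k A c := fun c => by rw [hπdef, MvPolynomial.aeval_C]
  clear hπdef
  obtain ⟨𝔫, h𝔫def⟩ : ∃ 𝔫 : Ideal (MvPolynomial ι k),
      𝔫 = Ideal.span (Set.range (X : ι → MvPolynomial ι k)) := ⟨_, rfl⟩
  have hX𝔫 : ∀ i, (X i : MvPolynomial ι k) ∈ 𝔫 := fun i => by
    rw [h𝔫def]; exact Ideal.subset_span ⟨i, rfl⟩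
  have hlin𝔫 : ∀ l : ι →₀ k,
      Finsupp.linearCombination k (X : ι → MvPolynomial ι k) l ∈ 𝔫 := fun l => by
    rw [h𝔫def]; exact lin_mem l
  have hdecomp : ∀ f : MvPolynomial ι k, ∃ (c : k) (l : ι →₀ k),
      f - C c - Finsupp.linearCombination k (X : ι → MvPolynomial ι k) l ∈ 𝔫 ^ 2 := fun f => by
    rw [h𝔫def]; exact decomp f
  have hXpow : ∀ (i : ι), (X i : MvPolynomial ι k) ^ N ∉ 𝔫 ^ (N + 1) := fun i => by
    rw [h𝔫def]; exact X_pow_not_mem i N
  have h𝔫le : 𝔫 ≤ m.comap π := by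
    rw [h𝔫def]
    refine Ideal.span_le.2 ?_
    rintro _ ⟨i, rfl⟩
    show π (X i) ∈ m
    rw [hπX]; exact h1 i
  clear h𝔫def
  have h𝔫pow : ∀ r : ℕ, 𝔫 ^ r ≤ (m ^ r).comap π := fun r =>
    (Ideal.pow_right_mono h𝔫le r).trans (Ideal.le_comap_pow _ r)
  have hπlin : ∀ l : ι →₀ k, π (Finsupp.linearCombination k (X : ι → MvPolynomial ι k) l) =
      Finsupp.linearCombination k x l := by
    intro l
    have := Finsupp.apply_linearCombination k π.toLinearMap (X : ι → MvPolynomial ι k) l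
    have hc : (⇑π.toLinearMap ∘ (X : ι → MvPolynomial ι k)) = x := funext hπX
    rw [hc] at this
    exact this
  have hunit : ∀ c : k, algebraMap k A c ∈ m → c = 0 := by
    intro c hc
    by_contra h0
    have hu : IsUnit (algebraMap k A c) := (IsUnit.mk0 c h0).map (algebraMap k A)
    exact (mem_nonunits_iff.1 ((mem_maximalIdeal _).1 hc)) hu
  have hexp : ∀ (f : MvPolynomial ι k) (c : k) (l : ι →₀ k),
      π f = algebraMap k A c + Finsupp.linearCombination k x l +
        π (f - C c - Finsupp.linearCombination k (X : ι → MvPolynomial ι k) l) := by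
    intro f c l
    rw [map_sub, map_sub, hπC, hπlin]; ring
  have hlinm : ∀ l : ι →₀ k, Finsupp.linearCombination k x l ∈ m := fun l => by
    rw [← hπlin]; exact h𝔫le (hlin𝔫 l)
  have h𝔫iff : ∀ f : MvPolynomial ι k, π f ∈ m → f ∈ 𝔫 := by
    intro f hf
    obtain ⟨c, l, hg⟩ := hdecomp f
    have hg2 : π (f - C c - Finsupp.linearCombination k (X : ι → MvPolynomial ι k) l) ∈ m :=
      Ideal.pow_le_self two_ne_zero (h𝔫pow 2 hg)
    have hc : algebraMap k A c ∈ m := by
      have e : algebraMap k A c = π f - Finsupp.linearCombination k x l -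
          π (f - C c - Finsupp.linearCombination k (X : ι → MvPolynomial ι k) l) := by
        have := hexp f c l
        linear_combination -this
      rw [e]; exact sub_mem (sub_mem hf (hlinm l)) hg2
    have hc0 := hunit c hc
    have e : f = (f - C c - Finsupp.linearCombination k (X : ι → MvPolynomial ι k) l) +
        Finsupp.linearCombination k (X : ι → MvPolynomial ι k) l := by
      rw [hc0, C_0]; ring
    rw [e]; exact add_mem (Ideal.pow_le_self two_ne_zero hg) (hlin𝔫 l)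
  have hconst : ∀ f : MvPolynomial ι k, ∃ c : k, f - C c ∈ 𝔫 := by
    intro f
    obtain ⟨c, hc⟩ := hres (π f)
    refine ⟨c, h𝔫iff _ ?_⟩
    rw [map_sub, hπC]; exact hc
  have hπsurj : Function.Surjective π := by
    have : π.range = ⊤ := by
      refine subalgebra_eq_top m N hN hres π.range ?_
      intro a ha
      obtain ⟨l, hl⟩ := h2 a ha
      exact ⟨_, (AlgHom.mem_range π).2 ⟨_, hπlin l⟩, hl⟩
    exact (AlgHom.range_eq_top π).1 this
  obtain ⟨I, hIdef⟩ : ∃ I : Ideal (MvPolynomial ι k), I = RingHom.ker π := ⟨_, rfl⟩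
  have hI : ∀ f, f ∈ I ↔ π f = 0 := fun f => by rw [hIdef, RingHom.mem_ker]
  clear hIdef
  have hI2 : I ≤ 𝔫 ^ 2 := by
    intro f hf
    have hf0 := (hI f).1 hf
    obtain ⟨c, l, hg⟩ := hdecomp f
    have hg2 : π (f - C c - Finsupp.linearCombination k (X : ι → MvPolynomial ι k) l) ∈ m ^ 2 :=
      h𝔫pow 2 hg
    have hc : algebraMap k A c ∈ m := by
      have e : algebraMap k A c = - Finsupp.linearCombination k x l -
          π (f - C c - Finsupp.linearCombination k (X : ι → MvPolynomial ι k) l) := by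
        have := hexp f c l
        rw [hf0] at this
        linear_combination -this
      rw [e]; exact sub_mem (neg_mem (hlinm l)) (Ideal.pow_le_self two_ne_zero hg2)
    have hc0 := hunit c hc
    have hl : Finsupp.linearCombination k x l ∈ m ^ 2 := by
      have e : Finsupp.linearCombination k x l =
          - π (f - C c - Finsupp.linearCombination k (X : ι → MvPolynomial ι k) l) := by
        have := hexp f c l
        have hc' : algebraMap k A c = 0 := by rw [hc0, map_zero]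
        rw [hf0] at this
        linear_combination -this - hc'
      rw [e]; exact neg_mem hg2
    have hl0 := h3 l hl
    have e : f = f - C c - Finsupp.linearCombination k (X : ι → MvPolynomial ι k) l := by
      rw [hc0, hl0, C_0, map_zero]; ring
    rw [e]; exact hg
  have h𝔫NI : 𝔫 ^ N ≤ I := by
    intro f hf
    rw [hI]
    have := h𝔫pow N hf
    rw [Ideal.mem_comap, hN] at this
    simpa using this
  have hne : ¬ (I ≤ 𝔫 * I) := by
    intro hle
    have hall : ∀ r : ℕ, I ≤ 𝔫 ^ r := by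
      intro r
      induction r with
      | zero => rw [pow_zero, Ideal.one_eq_top]; exact le_top
      | succ r ih =>
        rw [pow_succ']
        exact hle.trans (Ideal.mul_mono_right ih)
    obtain ⟨i⟩ := hι
    have h1' : (X i : MvPolynomial ι k) ^ N ∈ 𝔫 ^ N := Ideal.pow_mem_pow (hX𝔫 i) N
    exact hXpow i (hall (N + 1) (h𝔫NI h1'))
  obtain ⟨f₀, hf₀I, hf₀⟩ := SetLike.not_le_iff_exists.1 hne
  obtain ⟨ψ, hψ0, hψf₀⟩ : ∃ ψ : MvPolynomial ι k →ₗ[k] k,
      (∀ h ∈ 𝔫 * I, ψ h = 0) ∧ ψ f₀ ≠ 0 := by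
    have hne0 : (Ideal.Quotient.mk (𝔫 * I) f₀) ≠ 0 :=
      fun h => hf₀ (Ideal.Quotient.eq_zero_iff_mem.1 h)
    have := (Module.forall_dual_apply_eq_zero_iff k (Ideal.Quotient.mk (𝔫 * I) f₀)).not.2 hne0
    push Not at this
    obtain ⟨φ, hφ⟩ := this
    refine ⟨φ ∘ₗ (Ideal.Quotient.mkₐ k (𝔫 * I)).toLinearMap, ?_, ?_⟩
    · intro h hh
      have : Ideal.Quotient.mk (𝔫 * I) h = 0 := Ideal.Quotient.eq_zero_iff_mem.2 hh
      show φ (Ideal.Quotient.mk (𝔫 * I) h) = 0
      rw [this, map_zero]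
    · exact hφ
  have hψmul : ∀ (p : MvPolynomial ι k) (c : k), p - C c ∈ 𝔫 → ∀ f ∈ I,
      ψ (p * f) = c * ψ f := by
    intro p c hp f hf
    have e : p * f = c • f + (p - C c) * f := by
      rw [MvPolynomial.smul_eq_C_mul]; ring
    rw [e, map_add, map_smul, hψ0 _ (Ideal.mul_mem_mul hp hf), add_zero, smul_eq_mul]
  let J : Ideal (MvPolynomial ι k) :=
    { carrier := {f | f ∈ I ∧ ψ f = 0}
      add_mem' := fun {a b} ha hb =>
        ⟨I.add_mem ha.1 hb.1, by rw [map_add, ha.2, hb.2, add_zero]⟩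
      zero_mem' := ⟨I.zero_mem, map_zero ψ⟩
      smul_mem' := by
        intro p f hf
        obtain ⟨c, hc⟩ := hconst p
        exact ⟨I.mul_mem_left p hf.1, by
          rw [smul_eq_mul, hψmul p c hc f hf.1, hf.2, mul_zero]⟩ }
  have hJ : ∀ f, f ∈ J ↔ f ∈ I ∧ ψ f = 0 := fun f => Iff.rfl
  have hJI : J ≤ I := fun f hf => ((hJ f).1 hf).1
  have h𝔫IJ : ∀ h, h ∈ 𝔫 * I → h ∈ J := by
    intro h hh
    rw [hJ]
    exact ⟨Ideal.mul_le_right hh, hψ0 h hh⟩
  let proj : (MvPolynomial ι k ⧸ J) →ₐ[k] A :=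
    Ideal.Quotient.liftₐ J π (fun f hf => (hI f).1 (hJI hf))
  have hproj : ∀ f, proj (Ideal.Quotient.mk J f) = π f := fun f => rfl
  let θ : k →+* ResidueField A := (residue A).comp (algebraMap k A)
  have hθbij : Function.Bijective θ := by
    refine ⟨θ.injective, ?_⟩
    intro z
    obtain ⟨a, rfl⟩ := residue_surjective z
    obtain ⟨c, hc⟩ := hres a
    refine ⟨c, ?_⟩
    show residue A (algebraMap k A c) = residue A a
    symm
    rw [← sub_eq_zero, ← map_sub, residue_eq_zero_iff]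
    exact hc
  let e : k ≃+* ResidueField A := RingEquiv.ofBijective θ hθbij
  have he : ∀ c, e c = residue A (algebraMap k A c) := fun c => rfl
  let g0 : k →+ (MvPolynomial ι k ⧸ J) :=
    { toFun := fun c => Ideal.Quotient.mk J (C c * f₀)
      map_zero' := by simp
      map_add' := fun a b => by rw [C_add, add_mul, map_add] }
  let incl : ResidueField A →+ (MvPolynomial ι k ⧸ J) := g0.comp e.symm.toAddMonoidHom
  have hincl : ∀ z, incl z = Ideal.Quotient.mk J (C (e.symm z) * f₀) := fun z => rfl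
  have hψC : ∀ c : k, ψ (C c * f₀) = c * ψ f₀ := fun c => by
    rw [← MvPolynomial.smul_eq_C_mul, map_smul, smul_eq_mul]
  have hkerproj : ∀ f : MvPolynomial ι k, f ∈ I →
      ∃ c : k, Ideal.Quotient.mk J f = Ideal.Quotient.mk J (C c * f₀) := by
    intro f hf
    refine ⟨ψ f / ψ f₀, ?_⟩
    rw [Ideal.Quotient.eq, hJ]
    refine ⟨I.sub_mem hf (I.mul_mem_left _ hf₀I), ?_⟩
    rw [map_sub, hψC, div_mul_cancel₀ _ hψf₀, sub_self]
  have hext : Exal.IsExtension proj incl := by
    refine ⟨?_, ?_, ?_, ?_⟩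
    · intro a
      obtain ⟨f, rfl⟩ := hπsurj a
      exact ⟨Ideal.Quotient.mk J f, hproj f⟩
    · rw [injective_iff_map_eq_zero]
      intro z hz
      rw [hincl, Ideal.Quotient.eq_zero_iff_mem, hJ] at hz
      have h0 := hz.2
      rw [hψC] at h0
      have hc : e.symm z = 0 := (mul_eq_zero.1 h0).resolve_right hψf₀
      have := congrArg e hc
      rwa [RingEquiv.apply_symm_apply, map_zero] at this
    · intro y
      obtain ⟨f, rfl⟩ := Ideal.Quotient.mk_surjective y
      rw [hproj]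
      constructor
      · intro hf
        obtain ⟨c, hc⟩ := hkerproj f ((hI f).2 hf)
        refine ⟨e c, ?_⟩
        rw [hincl, RingEquiv.symm_apply_apply, hc]
      · rintro ⟨z, hz⟩
        rw [hincl] at hz
        have := congrArg proj hz
        rw [hproj, hproj, map_mul, (hI f₀).1 hf₀I, mul_zero] at this
        exact this.symm
    · intro y z
      obtain ⟨g, rfl⟩ := Ideal.Quotient.mk_surjective y
      obtain ⟨d, hd⟩ := hconst g
      have hz : e.symm (proj (Ideal.Quotient.mk J g) • z) = d * e.symm z := by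
        rw [RingEquiv.symm_apply_eq, map_mul, RingEquiv.apply_symm_apply, hproj, he,
          Algebra.smul_def, ResidueField.algebraMap_eq]
        congr 1
        rw [← sub_eq_zero, ← map_sub, residue_eq_zero_iff, ← hπC, ← map_sub]
        exact h𝔫le hd
      rw [hincl, hincl, hz, ← map_mul, Ideal.Quotient.eq, C_mul]
      apply h𝔫IJ
      have e1 : g * (C (e.symm z) * f₀) - C d * C (e.symm z) * f₀ =
          (g - C d) * (C (e.symm z) * f₀) := by ring
      rw [e1]
      exact Ideal.mul_mem_mul hd (I.mul_mem_left _ hf₀I)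
  refine ⟨{ E := MvPolynomial ι k ⧸ J, proj := proj, incl := incl, isExtension := hext }, ?_⟩
  rintro ⟨s, hs⟩
  change A →ₐ[k] (MvPolynomial ι k ⧸ J) at s
  change ∀ a, proj (s a) = a at hs
  set 𝔪E : Ideal (MvPolynomial ι k ⧸ J) := m.comap proj with h𝔪E
  have hmapn : 𝔫.map (Ideal.Quotient.mk J) ≤ 𝔪E := by
    rw [Ideal.map_le_iff_le_comap]
    intro f hf
    show proj (Ideal.Quotient.mk J f) ∈ m
    rw [hproj]; exact h𝔫le hf
  have h𝔪Ele : 𝔪E ≤ 𝔫.map (Ideal.Quotient.mk J) := by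
    intro y hy
    obtain ⟨f, rfl⟩ := Ideal.Quotient.mk_surjective y
    have : π f ∈ m := by rw [← hproj]; exact hy
    exact Ideal.mem_map_of_mem _ (h𝔫iff f this)
  have hM : 𝔪E ^ (N + 1) = ⊥ := by
    rw [eq_bot_iff]
    calc 𝔪E ^ (N + 1) ≤ (𝔫.map (Ideal.Quotient.mk J)) ^ (N + 1) :=
          Ideal.pow_right_mono h𝔪Ele _
      _ = (𝔫 ^ (N + 1)).map (Ideal.Quotient.mk J) := (Ideal.map_pow _ _ _).symm
      _ ≤ ⊥ := by
        rw [Ideal.map_le_iff_le_comap]
        intro f hf
        rw [Ideal.mem_comap, Ideal.mem_bot, Ideal.Quotient.eq_zero_iff_mem]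
        apply h𝔫IJ
        rw [pow_succ'] at hf
        exact Ideal.mul_mono_right h𝔫NI hf
  have hBE : ∀ y : MvPolynomial ι k ⧸ J, ∃ c : k,
      y - algebraMap k (MvPolynomial ι k ⧸ J) c ∈ 𝔪E := by
    intro y
    obtain ⟨f, rfl⟩ := Ideal.Quotient.mk_surjective y
    obtain ⟨c, hc⟩ := hconst f
    refine ⟨c, ?_⟩
    show proj (Ideal.Quotient.mk J f - algebraMap k _ c) ∈ m
    rw [map_sub, AlgHom.commutes, hproj, ← hπC, ← map_sub]
    exact h𝔫le hc
  have hSE : ∀ y ∈ 𝔪E, ∃ t ∈ s.range, y - t ∈ 𝔪E ^ 2 := by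
    intro y _
    refine ⟨s (proj y), AlgHom.mem_range_self s _, ?_⟩
    have h0 : proj (y - s (proj y)) = 0 := by rw [map_sub, hs, sub_self]
    obtain ⟨z, hz⟩ := (hext.exact _).1 h0
    rw [← hz, hincl]
    have : C (e.symm z) * f₀ ∈ 𝔫 ^ 2 := Ideal.mul_mem_left _ _ (hI2 hf₀I)
    have h2' : Ideal.Quotient.mk J (C (e.symm z) * f₀) ∈ (𝔫 ^ 2).map (Ideal.Quotient.mk J) :=
      Ideal.mem_map_of_mem _ this
    rw [Ideal.map_pow] at h2'
    exact Ideal.pow_right_mono hmapn 2 h2'
  have htop := subalgebra_eq_top 𝔪E (N + 1) hM hBE s.range hSE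
  have hmem : Ideal.Quotient.mk J f₀ ∈ s.range := by rw [htop]; trivial
  obtain ⟨a, ha⟩ := (AlgHom.mem_range s).1 hmem
  have ha0 : a = 0 := by
    have := hs a
    rw [ha, hproj, (hI f₀).1 hf₀I] at this
    exact this.symm
  rw [ha0, map_zero] at ha
  have : f₀ ∈ J := Ideal.Quotient.eq_zero_iff_mem.1 ha.symm
  exact hψf₀ this.2

end Core

section Main
variable {k : Type u} [Field k] {A : Type u} [CommRing A] [Algebra k A] [IsLocalRing A]
  [IsArtinianRing A]

theorem main11291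
    (hres : ∀ a : A, ∃ c : k, a - algebraMap k A c ∈ IsLocalRing.maximalIdeal A)
    (hA : IsLocalRing.maximalIdeal A ≠ ⊥) :
    ∃ X : Exal.Ext k A (IsLocalRing.ResidueField A), ¬ X.IsTrivial := by
  classical
  obtain ⟨N, hN⟩ : ∃ N : ℕ, maximalIdeal A ^ N = ⊥ := by
    have h1 : IsNilpotent (Ideal.jacobson (⊥ : Ideal A)) := IsArtinianRing.isNilpotent_jacobson_bot
    rw [IsLocalRing.jacobson_eq_maximalIdeal ⊥ bot_ne_top] at h1
    obtain ⟨N, hN⟩ := h1
    exact ⟨N, hN⟩
  let M : Submodule k A := (maximalIdeal A).restrictScalars k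
  let W : Submodule k A := ((maximalIdeal A) ^ 2).restrictScalars k
  have hWM : W ≤ M := fun x hx => Ideal.pow_le_self two_ne_zero hx
  obtain ⟨V₀, hV₀⟩ := Submodule.exists_isCompl W
  let V : Submodule k A := V₀ ⊓ M
  have hVM : V ≤ M := inf_le_right
  have hVW : ∀ x, x ∈ V → x ∈ W → x = 0 := by
    intro x hx hw
    have : x ∈ W ⊓ V₀ := ⟨hw, hx.1⟩
    rw [hV₀.inf_eq_bot] at this
    simpa using this
  have hsum : ∀ x ∈ M, ∃ v ∈ V, ∃ w ∈ W, x = v + w := by
    intro x hx
    have : x ∈ W ⊔ V₀ := by rw [hV₀.sup_eq_top]; trivial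
    obtain ⟨w, hw, v, hv, rfl⟩ := Submodule.mem_sup.1 this
    refine ⟨v, ⟨hv, ?_⟩, w, hw, add_comm _ _⟩
    have : v = (w + v) - w := by ring
    rw [this]; exact sub_mem hx (hWM hw)
  have hVne : V ≠ ⊥ := by
    intro hV
    have hle : maximalIdeal A ≤ maximalIdeal A ^ 2 := by
      intro a ha
      obtain ⟨v, hv, w, hw, rfl⟩ := hsum a ha
      rw [hV, Submodule.mem_bot] at hv
      rw [hv, zero_add]; exact hw
    have hall : ∀ r : ℕ, maximalIdeal A ≤ maximalIdeal A ^ (r + 1) := by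
      intro r
      induction r with
      | zero => rw [zero_add, pow_one]
      | succ r ih =>
        calc maximalIdeal A ≤ maximalIdeal A ^ 2 := hle
          _ = maximalIdeal A * maximalIdeal A := pow_two _
          _ ≤ maximalIdeal A * maximalIdeal A ^ (r + 1) := Ideal.mul_mono_right ih
          _ = maximalIdeal A ^ (r + 1 + 1) := (pow_succ' _ _).symm
    apply hA
    rw [eq_bot_iff]
    calc maximalIdeal A ≤ maximalIdeal A ^ (N + 1) := hall N
      _ ≤ maximalIdeal A ^ N := Ideal.pow_le_pow_right (Nat.le_succ N)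
      _ = ⊥ := hN
  haveI : Nontrivial V := Submodule.nontrivial_iff_ne_bot.2 hVne
  let b := Module.Basis.ofVectorSpace k V
  haveI : Nonempty (Module.Basis.ofVectorSpaceIndex k V) := b.index_nonempty
  have hcoe : ∀ l : (Module.Basis.ofVectorSpaceIndex k V) →₀ k,
      Finsupp.linearCombination k (fun i => ((b i : V) : A)) l =
        ((Finsupp.linearCombination k b l : V) : A) := fun l =>
    (Finsupp.apply_linearCombination k V.subtype (⇑b) l).symm
  refine core hres N hN (fun i => ((b i : V) : A)) ?_ ?_ ?_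
  · intro i; exact hVM (b i).2
  · intro a ha
    obtain ⟨v, hv, w, hw, rfl⟩ := hsum a ha
    refine ⟨b.repr ⟨v, hv⟩, ?_⟩
    rw [hcoe, b.linearCombination_repr]
    have e : v + w - v = w := by ring
    show v + w - v ∈ maximalIdeal A ^ 2
    rw [e]; exact hw
  · intro l hl
    rw [hcoe] at hl
    have h0 := hVW _ (Finsupp.linearCombination k b l).2 hl
    have h0' : Finsupp.linearCombination k b l = 0 := Subtype.ext h0
    exact (linearIndependent_iff.1 b.linearIndependent) l h0'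

end Main

end Groth.Agent.Lib.ArtExtH1
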