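import Mathlib
import Groth.Prelude.Def_CAlgX
import Groth.Agent.Lib.ArtFunSchl_helper1
import Groth.Agent.S12707

/-!
Helper lemmas (helper1): smoothness of `h_R` versus adic formal smoothness of `Λ → R`.
APPEND-ONLY once landed.
-/

set_option autoImplicit false
universe u v

open CategoryTheory

namespace Groth.Agent.Lib.SchlH1

open ArtFun ArtFun.Art Groth.Agent.Lib.ArtFunH1

variable {Λ : Type u} {k : Type u} [CommRing Λ] [Field k] [Algebra Λ k]


theorem isLocalRing_of_sqZero_ker {B C : Type*} [CommRing B] [CommRing C] [IsLocalRing C]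
    (q : B →+* C) (hq : Function.Surjective q)
    (hsq : ∀ x y, q x = 0 → q y = 0 → x * y = 0) : IsLocalRing B := by
  haveI hloc : IsLocalHom q := by
    refine ⟨fun x hx => ?_⟩
    obtain ⟨c₀, hc₀⟩ := hx.exists_right_inv
    obtain ⟨y, rfl⟩ := hq c₀
    have hn : q (x * y - 1) = 0 := by
      rw [map_sub, map_mul, map_one]
      exact sub_eq_zero.2 hc₀
    have hnil : IsNilpotent (x * y - 1) := ⟨2, by rw [pow_two]; exact hsq _ _ hn hn⟩
    have hu : IsUnit (x * y) := by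
      have := hnil.isUnit_one_add
      rwa [add_sub_cancel] at this
    exact isUnit_of_mul_isUnit_left hu
  exact RingHom.domain_isLocalRing q

set_option synthInstance.maxHeartbeats 400000 in
theorem isArtinianRing_of_sqZero_ker {B C : Type*} [CommRing B] [CommRing C]
    [IsNoetherianRing B] [IsArtinianRing C]
    (q : B →+* C) (hq : Function.Surjective q)
    (hsq : ∀ x y, q x = 0 → q y = 0 → x * y = 0) : IsArtinianRing B := by
  haveI : IsArtinianRing (B ⧸ RingHom.ker q) :=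
    Function.Surjective.isArtinianRing
      (f := (RingHom.quotientKerEquivOfSurjective hq).symm.toRingHom)
      (RingHom.quotientKerEquivOfSurjective hq).symm.surjective
  have htors : Module.IsTorsionBySet B (RingHom.ker q) (RingHom.ker q : Set B) := by
    intro x a
    apply Subtype.ext
    show (a : B) * (x : B) = 0
    exact hsq _ _ (RingHom.mem_ker.1 a.2) (RingHom.mem_ker.1 x.2)
  letI : Module (B ⧸ RingHom.ker q) (RingHom.ker q) := htors.module
  haveI : IsScalarTower B (B ⧸ RingHom.ker q) (RingHom.ker q) := htors.isScalarTower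
  haveI : Module.Finite (B ⧸ RingHom.ker q) (RingHom.ker q) :=
    Module.Finite.of_restrictScalars_finite B _ _
  haveI : IsArtinian (B ⧸ RingHom.ker q) (RingHom.ker q) := inferInstance
  haveI : IsArtinian B (RingHom.ker q) :=
    isArtinian_of_surjective_algebraMap (R := B ⧸ RingHom.ker q) (S := B) (M := RingHom.ker q)
      Ideal.Quotient.mk_surjective
  haveI : IsArtinian B (B ⧸ RingHom.ker q) :=
    isArtinian_of_surjective_algebraMap (R := B ⧸ RingHom.ker q) (S := B)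
      (M := B ⧸ RingHom.ker q) Ideal.Quotient.mk_surjective
  exact isArtinian_of_range_eq_ker (Submodule.subtype (RingHom.ker q))
    (Submodule.mkQ (RingHom.ker q)) (by rw [Submodule.range_subtype, Submodule.ker_mkQ])

section AdicSm

variable [IsNoetherianRing Λ] [Module.Finite Λ k]

theorem smooth_of_adicFormallySmooth (R : CRing Λ k)
    (h : CAlgX.IsAdicFormallySmooth Λ R.carrier (IsLocalRing.maximalIdeal R.carrier)) :
    IsSmoothFunctor (hR R.carrier R.res) := by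
  intro B A μ hμ (φ' : HomSet R.carrier R.res A)
  show ∃ ψ : HomSet R.carrier R.res B, HomSet.map μ ψ = φ'
  revert φ'
  refine Groth.Agent.S12707.result
    (fun ⦃A B⦄ f => ∀ φ : HomSet R.carrier R.res A,
      ∃ ψ : HomSet R.carrier R.res B, HomSet.map f ψ = φ) ?_ ?_ ?_ μ hμ
  · intro A B e he φ
    haveI := he
    refine ⟨HomSet.map (inv e) φ, ?_⟩
    rw [← hmap_comp, IsIso.inv_hom_id, hmap_id]
  · intro A B p hp φ
    have hJ2 : (RingHom.ker p.toAlgHom) ^ 2 = ⊥ := by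
      rw [eq_bot_iff, pow_two, ← hp.2.2.2]
      exact Ideal.mul_mono_left (Groth.Agent.S12707.ker_le_maximalIdeal p)
    let e := Ideal.quotientKerAlgEquivOfSurjective (f := p.toAlgHom) hp.1
    obtain ⟨N, hN⟩ := exists_pow_le_ker R A φ
    obtain ⟨χ, hχ⟩ := h B (RingHom.ker p.toAlgHom) hJ2 (e.symm.toAlgHom.comp φ.1)
      ⟨N, fun x hx => by
        show e.symm (φ.1 x) = 0
        rw [RingHom.mem_ker.1 (hN hx), map_zero]⟩
    have hpχ : ∀ r, p.toAlgHom (χ r) = φ.1 r := by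
      intro r
      have h1 : Ideal.Quotient.mk (RingHom.ker p.toAlgHom) (χ r) = e.symm (φ.1 r) :=
        AlgHom.congr_fun hχ r
      have h2 : e.symm (p.toAlgHom (χ r)) = Ideal.Quotient.mk _ (χ r) := by
        rw [AlgEquiv.symm_apply_eq]
        rfl
      exact e.symm.injective (h2.trans h1)
    refine ⟨⟨χ, ?_⟩, ?_⟩
    · apply AlgHom.ext
      intro r
      show B.res (χ r) = R.res r
      rw [← Art.res_app p]
      show A.res (p.toAlgHom (χ r)) = R.res r
      rw [hpχ, res_hom]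
    · apply Subtype.ext
      apply AlgHom.ext
      intro r
      exact hpχ r
  · intro A B C p q hp hq φ
    obtain ⟨ψ₁, h₁⟩ := hq φ
    obtain ⟨ψ₂, h₂⟩ := hp ψ₁
    exact ⟨ψ₂, by rw [hmap_comp, h₂, h₁]⟩

theorem exists_art_thickening (R : CRing Λ k) (A₀ : Type u) [CommRing A₀] [Algebra Λ A₀]
    (J : Ideal A₀) (hJ : J ^ 2 = ⊥) (ψ : R.carrier →ₐ[Λ] A₀ ⧸ J)
    (h𝔞 : RingHom.ker ψ ≤ IsLocalRing.maximalIdeal R.carrier)
    (hN : ∃ N : ℕ, IsLocalRing.maximalIdeal R.carrier ^ N ≤ RingHom.ker ψ) :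
    ∃ (B : Art Λ k) (q : B ⟶ qObj R (RingHom.ker ψ) h𝔞 hN) (ι : B →ₐ[Λ] A₀),
      Function.Surjective q ∧
      ∀ (x : B) (r : R.carrier), q x = (qHom R (RingHom.ker ψ) h𝔞 hN).1 r →
        Ideal.Quotient.mk J (ι x) = ψ r := by
  classical
  haveI : IsLocalRing (R.carrier ⧸ RingHom.ker ψ) := (qObj R _ h𝔞 hN).isLocalRing
  haveI : IsArtinianRing (R.carrier ⧸ RingHom.ker ψ) := (qObj R _ h𝔞 hN).isArtinianRing
  haveI : Module.Finite Λ (R.carrier ⧸ RingHom.ker ψ) := by
    have h1 : IsFiniteLength Λ (qObj R _ h𝔞 hN) := isFiniteLength_art _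
    haveI : IsNoetherian Λ (qObj R _ h𝔞 hN) :=
      (isFiniteLength_iff_isNoetherian_isArtinian.mp h1).1
    exact (inferInstance : Module.Finite Λ (qObj R _ h𝔞 hN))
  obtain ⟨s, c, hc⟩ := Module.Finite.exists_fin (R := Λ) (M := R.carrier ⧸ RingHom.ker ψ)
  choose r hr using fun i => Ideal.Quotient.mk_surjective (c i)
  choose a ha using fun i => Ideal.Quotient.mk_surjective (ψ (r i))
  obtain ⟨B₁, hB₁⟩ : ∃ B₁ : Subalgebra Λ A₀, B₁ = Algebra.adjoin Λ (Set.range a) := ⟨_, rfl⟩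
  have haB : ∀ i, a i ∈ B₁ := fun i => by
    rw [hB₁]; exact Algebra.subset_adjoin ⟨i, rfl⟩
  -- the image of `B₁` lies in the image of `ψ`
  have claim1 : ∀ x ∈ B₁, Ideal.Quotient.mkₐ Λ J x ∈ ψ.range := by
    have h1 : B₁ ≤ ψ.range.comap (Ideal.Quotient.mkₐ Λ J) := by
      rw [hB₁]
      refine Algebra.adjoin_le ?_
      rintro _ ⟨i, rfl⟩
      show Ideal.Quotient.mkₐ Λ J (a i) ∈ ψ.range
      exact (AlgHom.mem_range ψ).2 ⟨r i, (ha i).symm⟩
    intro x hx
    exact h1 hx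
  -- and is all of it
  have claim2 : ∀ r₀ : R.carrier, ∃ x ∈ B₁, Ideal.Quotient.mk J x = ψ r₀ := by
    intro r₀
    have hmem : Ideal.Quotient.mk (RingHom.ker ψ) r₀ ∈ Submodule.span Λ (Set.range c) := by
      rw [hc]; trivial
    obtain ⟨l, hl⟩ := (Submodule.mem_span_range_iff_exists_fun Λ).1 hmem
    refine ⟨∑ i, l i • a i, Subalgebra.sum_mem _ fun i _ => Subalgebra.smul_mem _ (haB i) _, ?_⟩
    have h1 : Ideal.Quotient.mkₐ Λ (RingHom.ker ψ) (∑ i, l i • r i) =
        Ideal.Quotient.mkₐ Λ (RingHom.ker ψ) r₀ := by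
      rw [map_sum]
      refine Eq.trans (Finset.sum_congr rfl fun i _ => ?_) hl
      rw [map_smul]
      congr 1
      exact hr i
    have h2 : (∑ i, l i • r i) - r₀ ∈ RingHom.ker ψ := Ideal.Quotient.eq.1 h1
    have h3 : ψ (∑ i, l i • r i) = ψ r₀ := by
      rw [RingHom.mem_ker, map_sub, sub_eq_zero] at h2
      exact h2
    have h4 : Ideal.Quotient.mkₐ Λ J (∑ i, l i • a i) = ψ (∑ i, l i • r i) := by
      rw [map_sum, map_sum]
      refine Finset.sum_congr rfl fun i _ => ?_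
      rw [map_smul, map_smul]
      congr 1
      exact ha i
    exact h4.trans h3
  have hinj : Function.Injective (Ideal.kerLiftAlg ψ) := Ideal.kerLiftAlg_injective ψ
  have claim1' : ∀ x : B₁, ((Ideal.Quotient.mkₐ Λ J).comp B₁.val) x ∈
      (Ideal.kerLiftAlg ψ).range := by
    intro x
    obtain ⟨r', hr'⟩ := (AlgHom.mem_range ψ).1 (claim1 x x.2)
    refine (AlgHom.mem_range _).2 ⟨Ideal.Quotient.mk _ r', ?_⟩
    rw [Ideal.kerLiftAlg_mk]
    exact hr'
  let e := AlgEquiv.ofInjective (Ideal.kerLiftAlg ψ) hinj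
  obtain ⟨q₁, hq₁def⟩ : ∃ q₁ : B₁ →ₐ[Λ] R.carrier ⧸ RingHom.ker ψ,
      q₁ = e.symm.toAlgHom.comp
        (((Ideal.Quotient.mkₐ Λ J).comp B₁.val).codRestrict (Ideal.kerLiftAlg ψ).range claim1') :=
    ⟨_, rfl⟩
  have hq₁ : ∀ x : B₁, Ideal.kerLiftAlg ψ (q₁ x) = Ideal.Quotient.mk J (x : A₀) := by
    intro x
    have h1 : e (q₁ x) = ((Ideal.Quotient.mkₐ Λ J).comp B₁.val).codRestrict
        (Ideal.kerLiftAlg ψ).range claim1' x := by
      rw [hq₁def]
      exact e.apply_symm_apply _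
    exact congrArg Subtype.val h1
  have hq₁s : Function.Surjective q₁ := by
    intro c₀
    obtain ⟨r₀, rfl⟩ := Ideal.Quotient.mk_surjective c₀
    obtain ⟨x, hx, hxe⟩ := claim2 r₀
    refine ⟨⟨x, hx⟩, hinj ?_⟩
    rw [hq₁, Ideal.kerLiftAlg_mk]
    exact hxe
  have hker : ∀ x : B₁, q₁ x = 0 → (x : A₀) ∈ J := by
    intro x hx
    have h1 := hq₁ x
    rw [hx, map_zero] at h1
    exact Ideal.Quotient.eq_zero_iff_mem.1 h1.symm
  have hsq : ∀ x y : B₁, q₁ x = 0 → q₁ y = 0 → x * y = 0 := by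
    intro x y hx hy
    apply Subtype.ext
    show (x : A₀) * (y : A₀) = 0
    have h1 : (x : A₀) * (y : A₀) ∈ J ^ 2 := by
      rw [pow_two]; exact Ideal.mul_mem_mul (hker x hx) (hker y hy)
    rw [hJ] at h1
    exact Ideal.mem_bot.1 h1
  haveI : IsLocalRing B₁ :=
    isLocalRing_of_sqZero_ker (q₁ : B₁ →+* R.carrier ⧸ RingHom.ker ψ) hq₁s hsq
  haveI : Algebra.FiniteType Λ B₁ := by
    rw [← Subalgebra.fg_iff_finiteType, hB₁]
    exact Subalgebra.fg_def.2 ⟨Set.range a, Set.finite_range a, rfl⟩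
  haveI : IsNoetherianRing B₁ := Algebra.FiniteType.isNoetherianRing Λ B₁
  haveI : IsArtinianRing B₁ :=
    isArtinianRing_of_sqZero_ker (q₁ : B₁ →+* R.carrier ⧸ RingHom.ker ψ) hq₁s hsq
  let Bobj : Art Λ k :=
    { carrier := B₁
      res := (qObj R _ h𝔞 hN).res.comp q₁
      res_surjective := (qObj R _ h𝔞 hN).res_surjective.comp hq₁s }
  refine ⟨Bobj, ⟨q₁, rfl⟩, B₁.val, hq₁s, ?_⟩
  intro x r₀ hx
  have hx' : q₁ x = Ideal.Quotient.mk (RingHom.ker ψ) r₀ := hx
  have h1 := hq₁ x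
  rw [hx', Ideal.kerLiftAlg_mk] at h1
  exact h1.symm

theorem adicFormallySmooth_of_smooth (R : CRing Λ k)
    (hsm : IsSmoothFunctor (hR R.carrier R.res)) :
    CAlgX.IsAdicFormallySmooth Λ R.carrier (IsLocalRing.maximalIdeal R.carrier) := by
  intro A₀ _ _ J hJ ψ hex
  obtain ⟨N, hN⟩ := hex
  by_cases htop : RingHom.ker ψ = ⊤
  · have h1 : (1 : A₀ ⧸ J) = 0 := by
      have h : (1 : R.carrier) ∈ RingHom.ker ψ := by rw [htop]; trivial
      rw [RingHom.mem_ker, map_one] at h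
      exact h
    have h2 : (1 : A₀) ∈ J := by
      apply Ideal.Quotient.eq_zero_iff_mem.1
      rw [map_one]
      exact h1
    have h3 : (1 : A₀) = 0 := by
      have h : (1 : A₀) * 1 ∈ J ^ 2 := by rw [pow_two]; exact Ideal.mul_mem_mul h2 h2
      rw [hJ, Ideal.mem_bot, mul_one] at h
      exact h
    haveI : Subsingleton A₀ := subsingleton_of_zero_eq_one h3.symm
    haveI : Subsingleton (A₀ ⧸ J) := subsingleton_of_zero_eq_one h1.symm
    refine ⟨{ toFun := fun _ => 0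
              map_one' := Subsingleton.elim _ _
              map_mul' := fun _ _ => Subsingleton.elim _ _
              map_zero' := rfl
              map_add' := fun _ _ => Subsingleton.elim _ _
              commutes' := fun _ => Subsingleton.elim _ _ }, ?_⟩
    apply AlgHom.ext
    intro x
    exact Subsingleton.elim _ _
  · have h𝔞 : RingHom.ker ψ ≤ IsLocalRing.maximalIdeal R.carrier :=
      IsLocalRing.le_maximalIdeal htop
    have hN' : ∃ N : ℕ, IsLocalRing.maximalIdeal R.carrier ^ N ≤ RingHom.ker ψ :=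
      ⟨N, fun x hx => RingHom.mem_ker.2 (hN x hx)⟩
    obtain ⟨B, q, ι, hq, hι⟩ := exists_art_thickening R A₀ J hJ ψ h𝔞 hN'
    obtain ⟨φ₁, hφ₁⟩ : ∃ φ₁ : HomSet R.carrier R.res B,
        HomSet.map q φ₁ = qHom R (RingHom.ker ψ) h𝔞 hN' := hsm q hq (qHom R _ h𝔞 hN')
    refine ⟨ι.comp φ₁.1, ?_⟩
    apply AlgHom.ext
    intro r
    show Ideal.Quotient.mk J (ι (φ₁.1 r)) = ψ r
    exact hι _ r (congrArg
      (fun θ : HomSet R.carrier R.res (qObj R (RingHom.ker ψ) h𝔞 hN') => θ.1 r) hφ₁)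

end AdicSm

end Groth.Agent.Lib.SchlH1
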