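import Mathlib
import Groth.Agent.Lib.ArtFunFib_helper1
import Groth.Agent.Lib.ArtFunFormal_helper1

/-!
Helper lemmas (helper1): Hensel's lemma in Artinian local rings and fibre products in `Art Λ k`
when `k` is separable over the image of `Λ`.  APPEND-ONLY once landed.
-/

set_option autoImplicit false
universe u v

open CategoryTheory

namespace Groth.Agent.Lib.ArtFunH1

open ArtFun ArtFun.Art Polynomial

section Hensel

variable {A : Type*} [CommRing A] [IsLocalRing A]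

theorem exists_root_of_nilpotent (h : ∃ N : ℕ, IsLocalRing.maximalIdeal A ^ N = ⊥) (f : A[X])
    (a₀ : A) (h₁ : f.eval a₀ ∈ IsLocalRing.maximalIdeal A)
    (h₂ : IsUnit (f.derivative.eval a₀)) :
    ∃ a : A, f.eval a = 0 ∧ a - a₀ ∈ IsLocalRing.maximalIdeal A := by
  obtain ⟨N, hN⟩ := h
  have key : ∀ n : ℕ, ∃ a : A, a - a₀ ∈ IsLocalRing.maximalIdeal A ∧
      f.eval a ∈ IsLocalRing.maximalIdeal A ^ (n + 1) := by
    intro n
    induction n with
    | zero =>
      exact ⟨a₀, by rw [sub_self]; exact zero_mem _, by rw [zero_add, pow_one]; exact h₁⟩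
    | succ n ih =>
      obtain ⟨a, ha, hfa⟩ := ih
      have hu : IsUnit (f.derivative.eval a) := by
        rw [← IsLocalRing.notMem_maximalIdeal]
        intro hmem
        have hd : f.derivative.eval a - f.derivative.eval a₀ ∈ IsLocalRing.maximalIdeal A :=
          Ideal.mem_of_dvd _ (sub_dvd_eval_sub a a₀ f.derivative) ha
        have h3 : f.derivative.eval a₀ ∈ IsLocalRing.maximalIdeal A := by
          have h4 := Ideal.sub_mem _ hmem hd
          rwa [sub_sub_cancel] at h4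
        exact (IsLocalRing.notMem_maximalIdeal.2 h₂) h3
      obtain ⟨u, hu'⟩ := hu.exists_right_inv
      obtain ⟨k, hk⟩ := f.binomExpansion a (-(f.eval a) * u)
      have hh : -(f.eval a) * u ∈ IsLocalRing.maximalIdeal A ^ (n + 1) :=
        Ideal.mul_mem_right _ _ ((Ideal.neg_mem_iff _).2 hfa)
      refine ⟨a + -(f.eval a) * u, ?_, ?_⟩
      · have e : a + -(f.eval a) * u - a₀ = (a - a₀) + -(f.eval a) * u := by ring
        rw [e]
        exact Ideal.add_mem _ ha (Ideal.pow_le_self (Nat.succ_ne_zero n) hh)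
      · rw [hk]
        have e : f.eval a + f.derivative.eval a * (-(f.eval a) * u) +
            k * (-(f.eval a) * u) ^ 2 = k * (-(f.eval a) * u) ^ 2 := by
          have e2 : f.derivative.eval a * (-(f.eval a) * u) =
              -(f.eval a) * (f.derivative.eval a * u) := by ring
          rw [e2, hu']
          ring
        rw [e]
        apply Ideal.mul_mem_left
        have h2 := Ideal.pow_mem_pow hh 2
        rw [← pow_mul] at h2
        exact Ideal.pow_le_pow_right (by omega) h2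
  obtain ⟨a, ha, hfa⟩ := key N
  refine ⟨a, ?_, ha⟩
  have h5 : f.eval a ∈ IsLocalRing.maximalIdeal A ^ N :=
    Ideal.pow_le_pow_right (Nat.le_succ N) hfa
  rw [hN] at h5
  exact Ideal.mem_bot.1 h5

theorem root_unique_of_isUnit (f : A[X]) (a b : A) (ha : f.eval a = 0) (hb : f.eval b = 0)
    (hab : b - a ∈ IsLocalRing.maximalIdeal A) (hu : IsUnit (f.derivative.eval a)) : a = b := by
  obtain ⟨k, hk⟩ := f.binomExpansion a (b - a)
  rw [add_sub_cancel, hb, ha, zero_add] at hk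
  have e : (b - a) * (f.derivative.eval a + k * (b - a)) = 0 := by
    rw [hk]; ring
  have hunit : IsUnit (f.derivative.eval a + k * (b - a)) := by
    rw [← IsLocalRing.notMem_maximalIdeal]
    intro hmem
    have h3 : f.derivative.eval a ∈ IsLocalRing.maximalIdeal A := by
      have h4 := Ideal.sub_mem _ hmem (Ideal.mul_mem_left _ k hab)
      rwa [add_sub_cancel_right] at h4
    exact (IsLocalRing.notMem_maximalIdeal.2 hu) h3
  have h6 : b - a = 0 := (hunit.mul_left_eq_zero).1 e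
  exact (sub_eq_zero.1 h6).symm

end Hensel

variable {Λ : Type u} {k : Type u} [CommRing Λ] [Field k] [Algebra Λ k]

section ArtRoots

theorem res_eval_map (B : Art Λ k) (G : Λ[X]) (b : B) :
    B.res ((G.map (algebraMap Λ B)).eval b) = G.eval₂ (algebraMap Λ k) (B.res b) := by
  rw [Polynomial.eval_map]
  have h1 := Polynomial.hom_eval₂ G (algebraMap Λ B) (B.res : B →+* k) b
  have h2 : (B.res : B →+* k).comp (algebraMap Λ B) = algebraMap Λ k := B.res.comp_algebraMap
  rw [h2] at h1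
  exact h1

theorem hom_eval_map {B B' : Art Λ k} (g : B ⟶ B') (G : Λ[X]) (b : B) :
    (G.map (algebraMap Λ B')).eval (g b) = g ((G.map (algebraMap Λ B)).eval b) := by
  rw [Polynomial.eval_map, Polynomial.eval_map]
  have h1 := Polynomial.hom_eval₂ G (algebraMap Λ B) (g.toAlgHom : B →+* B') b
  have h2 : (g.toAlgHom : B →+* B').comp (algebraMap Λ B) = algebraMap Λ B' :=
    g.toAlgHom.comp_algebraMap
  rw [h2] at h1
  exact h1.symm

theorem exists_root_art (B : Art Λ k) (G : Λ[X]) (c : k)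
    (h0 : G.eval₂ (algebraMap Λ k) c = 0) (h1 : G.derivative.eval₂ (algebraMap Λ k) c ≠ 0) :
    ∃ b : B, (G.map (algebraMap Λ B)).eval b = 0 ∧ B.res b = c := by
  obtain ⟨b₀, hb₀⟩ := B.res_surjective c
  have e1 : (G.map (algebraMap Λ B)).eval b₀ ∈ IsLocalRing.maximalIdeal B := by
    rw [Art.mem_maximalIdeal_iff, res_eval_map, hb₀, h0]
  have e2 : IsUnit ((G.map (algebraMap Λ B)).derivative.eval b₀) := by
    rw [← IsLocalRing.notMem_maximalIdeal, Art.mem_maximalIdeal_iff, derivative_map,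
      res_eval_map, hb₀]
    exact h1
  obtain ⟨b, hb, hbb⟩ := exists_root_of_nilpotent (exists_maximalIdeal_pow_eq_bot B) _ b₀ e1 e2
  refine ⟨b, hb, ?_⟩
  rw [Art.mem_maximalIdeal_iff, map_sub, sub_eq_zero] at hbb
  rw [hbb, hb₀]

theorem root_unique_art (B : Art Λ k) (G : Λ[X]) (c : k)
    (h1 : G.derivative.eval₂ (algebraMap Λ k) c ≠ 0) (b b' : B)
    (hb : (G.map (algebraMap Λ B)).eval b = 0) (hb' : (G.map (algebraMap Λ B)).eval b' = 0)
    (hr : B.res b = c) (hr' : B.res b' = c) : b = b' := by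
  apply root_unique_of_isUnit _ b b' hb hb'
  · rw [Art.mem_maximalIdeal_iff, map_sub, hr, hr', sub_self]
  · rw [← IsLocalRing.notMem_maximalIdeal, Art.mem_maximalIdeal_iff, derivative_map,
      res_eval_map, hr]
    exact h1

end ArtRoots

section SepFib

variable [IsNoetherianRing Λ] [Module.Finite Λ k]
  [Algebra.IsSeparable (↥(algebraMap Λ k).range) k]

omit [IsNoetherianRing Λ] [Module.Finite Λ k] in
theorem exists_sep_poly (c : k) : ∃ G : Λ[X], G.eval₂ (algebraMap Λ k) c = 0 ∧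
    G.derivative.eval₂ (algebraMap Λ k) c ≠ 0 := by
  have hsep : (minpoly (↥(algebraMap Λ k).range) c).Separable :=
    Algebra.IsSeparable.isSeparable (↥(algebraMap Λ k).range) c
  obtain ⟨G, hG⟩ := Polynomial.map_surjective (algebraMap Λ k).rangeRestrict
    (algebraMap Λ k).rangeRestrict_surjective (minpoly (↥(algebraMap Λ k).range) c)
  have hcomp : (algebraMap (↥(algebraMap Λ k).range) k).comp (algebraMap Λ k).rangeRestrict =
      algebraMap Λ k := RingHom.ext fun _ => rfl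
  have h0 : (minpoly (↥(algebraMap Λ k).range) c).eval₂
      (algebraMap (↥(algebraMap Λ k).range) k) c = 0 := minpoly.aeval _ c
  refine ⟨G, ?_, ?_⟩
  · rw [← hcomp, ← eval₂_map, hG]
    exact h0
  · rw [← hcomp, ← eval₂_map, ← derivative_map, hG]
    exact hsep.eval₂_derivative_ne_zero _ h0

omit [IsNoetherianRing Λ] [Module.Finite Λ k] in
theorem exists_lift_pair {A A₁ A₂ : Art Λ k} (f₁ : A₁ ⟶ A) (f₂ : A₂ ⟶ A) (c : k) :
    ∃ (a₁ : A₁) (a₂ : A₂), f₁ a₁ = f₂ a₂ ∧ A₁.res a₁ = c := by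
  obtain ⟨G, h0, h1⟩ := exists_sep_poly (Λ := Λ) c
  obtain ⟨a₁, ha₁, hr₁⟩ := exists_root_art A₁ G c h0 h1
  obtain ⟨a₂, ha₂, hr₂⟩ := exists_root_art A₂ G c h0 h1
  refine ⟨a₁, a₂, ?_, hr₁⟩
  apply root_unique_art A G c h1
  · rw [hom_eval_map, ha₁, map_zero]
  · rw [hom_eval_map, ha₂, map_zero]
  · rw [Art.res_app, hr₁]
  · rw [Art.res_app, hr₂]

/-- The fibre product `A₁ ×_A A₂` as an object, in the separable case. -/
noncomputable def sepFibObj {A A₁ A₂ : Art Λ k} (f₁ : A₁ ⟶ A) (f₂ : A₂ ⟶ A) : Art Λ k :=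
  haveI : IsLocalHom f₂.toAlgHom := Art.isLocalHom f₂
  haveI : IsLocalRing (AlgHom.pullback f₁.toAlgHom f₂.toAlgHom) :=
    AlgHom.isLocalRing_pullback f₁.toAlgHom f₂.toAlgHom
  haveI : IsArtinianRing (AlgHom.pullback f₁.toAlgHom f₂.toAlgHom) := by
    have h1 : IsArtinian Λ (A₁ × A₂) := inferInstance
    have h2 : IsArtinian Λ (Subalgebra.toSubmodule (AlgHom.pullback f₁.toAlgHom f₂.toAlgHom)) :=
      inferInstance
    exact isArtinian_of_tower Λ h2
  { carrier := AlgHom.pullback f₁.toAlgHom f₂.toAlgHom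
    res := A₁.res.comp (AlgHom.pullbackFst f₁.toAlgHom f₂.toAlgHom)
    res_surjective := fun c => by
      obtain ⟨a₁, a₂, h, hc⟩ := exists_lift_pair f₁ f₂ c
      exact ⟨⟨(a₁, a₂), h⟩, hc⟩ }

noncomputable def sepFibFst {A A₁ A₂ : Art Λ k} (f₁ : A₁ ⟶ A) (f₂ : A₂ ⟶ A) :
    sepFibObj f₁ f₂ ⟶ A₁ :=
  ⟨AlgHom.pullbackFst f₁.toAlgHom f₂.toAlgHom, rfl⟩

noncomputable def sepFibSnd {A A₁ A₂ : Art Λ k} (f₁ : A₁ ⟶ A) (f₂ : A₂ ⟶ A) :
    sepFibObj f₁ f₂ ⟶ A₂ :=
  ⟨AlgHom.pullbackSnd f₁.toAlgHom f₂.toAlgHom, by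
    apply AlgHom.ext
    intro x
    have hx : f₁ x.1.1 = f₂ x.1.2 := x.2
    show A₂.res x.1.2 = A₁.res x.1.1
    rw [← Art.res_app f₂, ← hx, Art.res_app f₁]⟩

theorem isFibreProd_sepFib {A A₁ A₂ : Art Λ k} (f₁ : A₁ ⟶ A) (f₂ : A₂ ⟶ A) :
    Art.IsFibreProd (sepFibFst f₁ f₂) (sepFibSnd f₁ f₂) f₁ f₂ where
  w := by
    apply Art.hom_ext
    exact AlgHom.pullback_comm_sq f₁.toAlgHom f₂.toAlgHom
  inj b₁ b₂ h₁ h₂ := Subtype.ext (Prod.ext h₁ h₂)
  surj a' a'' h := ⟨⟨(a', a''), h⟩, rfl, rfl⟩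

end SepFib

end Groth.Agent.Lib.ArtFunH1
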