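import Mathlib
import Groth.Agent.Lib.ArtFunSepFib_helper1
import Groth.Agent.S12709

/-!
Helper lemmas (helper1): coefficient-field sections in the separable case, hyperplane ideals, and
essential surjections in `Art Λ k`.  APPEND-ONLY once landed.
-/

set_option autoImplicit false
universe u v

open CategoryTheory

namespace Groth.Agent.Lib.ArtFunH1

open ArtFun ArtFun.Art Polynomial

variable {Λ : Type u} {k : Type u} [CommRing Λ] [Field k] [Algebra Λ k]

section Section

variable [IsNoetherianRing Λ] [Module.Finite Λ k]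
  [Algebra.IsSeparable (↥(algebraMap Λ k).range) k]

set_option synthInstance.maxHeartbeats 400000 in
set_option maxHeartbeats 1000000 in
/-- In the separable case an object killed by `m_Λ` contains a coefficient field. -/
theorem exists_section_of_sep (B₁ : Art Λ k)
    (hkill : ∀ l : Λ, algebraMap Λ k l = 0 → algebraMap Λ B₁ l = 0) :
    ∃ s : base Λ k ⟶ B₁, s ≫ toBase B₁ = 𝟙 (base Λ k) := by
  haveI hmax : (RingHom.ker (algebraMap Λ k)).IsMaximal := ker_algebraMap_isMaximal
  letI : Field (Λ ⧸ RingHom.ker (algebraMap Λ k)) := Ideal.Quotient.field _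
  letI algk : Algebra (Λ ⧸ RingHom.ker (algebraMap Λ k)) k :=
    (Ideal.Quotient.lift _ (algebraMap Λ k) (fun a ha => ha)).toAlgebra
  letI algB : Algebra (Λ ⧸ RingHom.ker (algebraMap Λ k)) B₁ :=
    (Ideal.Quotient.lift _ (algebraMap Λ B₁) (fun a ha => hkill a ha)).toAlgebra
  haveI : IsScalarTower Λ (Λ ⧸ RingHom.ker (algebraMap Λ k)) k :=
    IsScalarTower.of_algebraMap_eq (fun l => rfl)
  haveI : IsScalarTower Λ (Λ ⧸ RingHom.ker (algebraMap Λ k)) B₁ :=
    IsScalarTower.of_algebraMap_eq (fun l => rfl)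
  haveI : Module.Finite (Λ ⧸ RingHom.ker (algebraMap Λ k)) k :=
    Module.Finite.of_restrictScalars_finite Λ _ _
  have hc : (algebraMap (Λ ⧸ RingHom.ker (algebraMap Λ k)) k).comp
      (Ideal.Quotient.mk (RingHom.ker (algebraMap Λ k))) = algebraMap Λ k :=
    RingHom.ext fun _ => rfl
  haveI : Algebra.IsSeparable (Λ ⧸ RingHom.ker (algebraMap Λ k)) k := by
    refine ⟨fun c => ?_⟩
    obtain ⟨G, h0, h1⟩ := exists_sep_poly (Λ := Λ) c
    have hp0 : aeval c (G.map (Ideal.Quotient.mk (RingHom.ker (algebraMap Λ k)))) = 0 := by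
      rw [aeval_def, eval₂_map, hc]
      exact h0
    have hp1 : eval₂ (algebraMap (Λ ⧸ RingHom.ker (algebraMap Λ k)) k) c
        (G.map (Ideal.Quotient.mk (RingHom.ker (algebraMap Λ k)))).derivative ≠ 0 := by
      rw [derivative_map, eval₂_map, hc]
      exact h1
    have hdvd := minpoly.dvd (Λ ⧸ RingHom.ker (algebraMap Λ k)) c hp0
    have hint : IsIntegral (Λ ⧸ RingHom.ker (algebraMap Λ k)) c :=
      Algebra.IsIntegral.isIntegral c
    have hirr := minpoly.irreducible hint
    show (minpoly (Λ ⧸ RingHom.ker (algebraMap Λ k)) c).Separable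
    rw [separable_iff_derivative_ne_zero hirr]
    intro hd0
    obtain ⟨h, hh⟩ := hdvd
    apply hp1
    rw [hh, derivative_mul, hd0, zero_mul, zero_add, eval₂_mul, ← aeval_def, minpoly.aeval,
      zero_mul]
  haveI : Algebra.FormallyEtale (Λ ⧸ RingHom.ker (algebraMap Λ k)) k :=
    Algebra.FormallyEtale.of_isSeparable _ _
  let g : B₁ →ₐ[Λ ⧸ RingHom.ker (algebraMap Λ k)] k :=
    { (B₁.res : B₁ →+* k) with
      commutes' := fun r => by
        obtain ⟨l, rfl⟩ := Ideal.Quotient.mk_surjective r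
        exact B₁.res.commutes l }
  have hg : Function.Surjective g := B₁.res_surjective
  have hker : RingHom.ker (g : B₁ →+* k) = IsLocalRing.maximalIdeal B₁ := by
    ext x
    rw [RingHom.mem_ker, Art.mem_maximalIdeal_iff]
    rfl
  have hg' : IsNilpotent (RingHom.ker (g : B₁ →+* k)) := by
    rw [hker]
    obtain ⟨N, hN⟩ := exists_maximalIdeal_pow_eq_bot B₁
    exact ⟨N, hN⟩
  let σ := Algebra.FormallySmooth.liftOfSurjective
    (AlgHom.id (Λ ⧸ RingHom.ker (algebraMap Λ k)) k) g hg hg'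
  have hσ : ∀ c : k, g (σ c) = c := fun c =>
    AlgHom.congr_fun (Algebra.FormallySmooth.comp_liftOfSurjective
      (AlgHom.id (Λ ⧸ RingHom.ker (algebraMap Λ k)) k) g hg hg') c
  refine ⟨⟨σ.restrictScalars Λ, ?_⟩, (Art.eq_toBase _).trans (Art.eq_toBase _).symm⟩
  apply AlgHom.ext
  intro c
  exact hσ c

end Section

section Hyperplane

theorem exists_hyperplane_ideal (B : Art Λ k) (J : Ideal B)
    (hJ : IsLocalRing.maximalIdeal B ^ 2 ≤ J) (hJm : J ≤ IsLocalRing.maximalIdeal B) (b : B)
    (hbJ : b ∉ J) :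
    ∃ H : Ideal B, J ≤ H ∧ H ≤ IsLocalRing.maximalIdeal B ∧ b ∉ H ∧
      ∀ x ∈ IsLocalRing.maximalIdeal B, ∃ y : B, x - y * b ∈ H := by
  obtain ⟨H, ⟨hH1, hH2, hH3⟩, hmax⟩ := set_has_maximal_iff_noetherian.2
    (inferInstance : IsNoetherian B B)
    {I : Ideal B | J ≤ I ∧ I ≤ IsLocalRing.maximalIdeal B ∧ b ∉ I} ⟨J, le_rfl, hJm, hbJ⟩
  refine ⟨H, hH1, hH2, hH3, fun x hx => ?_⟩
  by_cases hxH : x ∈ H
  · exact ⟨0, by rw [zero_mul, sub_zero]; exact hxH⟩
  · have hlt : H < H ⊔ Ideal.span {x} := by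
      refine lt_of_le_of_ne le_sup_left fun heq => hxH ?_
      rw [heq]
      exact Ideal.mem_sup_right (Ideal.subset_span rfl)
    have hbH' : b ∈ H ⊔ Ideal.span {x} := by
      by_contra hb'
      exact hmax (H ⊔ Ideal.span {x}) ⟨le_trans hH1 le_sup_left,
        sup_le hH2 ((Ideal.span_singleton_le_iff_mem _).2 hx), hb'⟩ hlt
    obtain ⟨h, hh, z, hz, hsum⟩ := Submodule.mem_sup.1 hbH'
    obtain ⟨y', rfl⟩ := Ideal.mem_span_singleton'.1 hz
    have hy' : IsUnit y' := by
      rw [← IsLocalRing.notMem_maximalIdeal]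
      intro hym
      apply hH3
      rw [← hsum]
      refine Ideal.add_mem _ hh (hH1 (hJ ?_))
      rw [pow_two]
      exact Ideal.mul_mem_mul hym hx
    obtain ⟨u, hu⟩ := hy'.exists_left_inv
    refine ⟨u, ?_⟩
    have e : x - u * b = -(u * h) := by
      rw [← hsum]
      have : u * (h + y' * x) = u * h + (u * y') * x := by ring
      rw [this, hu]
      ring
    rw [e]
    exact (Ideal.neg_mem_iff _).2 (Ideal.mul_mem_left _ _ hh)

end Hyperplane

section Rel

/-- `m_Λ B + m_B²` -/
def relIdeal (B : Art Λ k) : Ideal B :=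
  Ideal.map (algebraMap Λ B) (RingHom.ker (algebraMap Λ k)) ⊔ IsLocalRing.maximalIdeal B ^ 2

theorem relIdeal_le (B : Art Λ k) : relIdeal B ≤ IsLocalRing.maximalIdeal B := by
  refine sup_le ?_ (Ideal.pow_le_self two_ne_zero)
  rw [Ideal.map_le_iff_le_comap]
  intro l hl
  rw [Ideal.mem_comap, Art.mem_maximalIdeal_iff, AlgHom.commutes]
  exact hl

theorem map_maximalIdeal_art {A B : Art Λ k} (f : B ⟶ A) (hf : Function.Surjective f) :
    Ideal.map f.toAlgHom (IsLocalRing.maximalIdeal B) = IsLocalRing.maximalIdeal A := by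
  apply le_antisymm
  · rw [Ideal.map_le_iff_le_comap]
    intro x hx
    rw [Ideal.mem_comap, Art.mem_maximalIdeal_iff]
    show A.res (f x) = 0
    rw [Art.res_app]
    exact (Art.mem_maximalIdeal_iff B x).1 hx
  · intro y hy
    obtain ⟨x, rfl⟩ := hf y
    refine Ideal.mem_map_of_mem _ ?_
    rw [Art.mem_maximalIdeal_iff] at hy ⊢
    rw [← Art.res_app f]
    exact hy

theorem map_relIdeal {A B : Art Λ k} (f : B ⟶ A) (hf : Function.Surjective f) :
    Ideal.map f.toAlgHom (relIdeal B) = relIdeal A := by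
  unfold relIdeal
  have h2 : Ideal.map f.toAlgHom
      (Ideal.map (algebraMap Λ B) (RingHom.ker (algebraMap Λ k))) =
      Ideal.map (algebraMap Λ A) (RingHom.ker (algebraMap Λ k)) := by
    have h1 : (f.toAlgHom : B →+* A).comp (algebraMap Λ B) = algebraMap Λ A :=
      f.toAlgHom.comp_algebraMap
    rw [← h1, ← Ideal.map_map]
    rfl
  rw [Ideal.map_sup, Ideal.map_pow, map_maximalIdeal_art f hf, h2]

end Rel

section Essential

variable [IsNoetherianRing Λ] [Module.Finite Λ k]

/-- sufficiency: relative cotangent isomorphism implies essential surjection -/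
theorem essential_of_cotangent {A B : Art Λ k} (f : B ⟶ A)
    (h1 : Ideal.map (algebraMap Λ A) (RingHom.ker (algebraMap Λ k)) ⊔
      Ideal.map f.toAlgHom (IsLocalRing.maximalIdeal B) ⊔ IsLocalRing.maximalIdeal A ^ 2 =
        IsLocalRing.maximalIdeal A)
    (h2 : ∀ b ∈ IsLocalRing.maximalIdeal B, f b ∈ relIdeal A → b ∈ relIdeal B) :
    Function.Surjective f ∧ ∀ (C : Art Λ k) (g : C ⟶ B),
      Function.Surjective (g ≫ f) → Function.Surjective g := by
  have hfs : Function.Surjective f := ((Groth.Agent.S12709.result f).out 0 2).2 h1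
  refine ⟨hfs, fun C g hgf => ?_⟩
  apply ((Groth.Agent.S12709.result g).out 0 2).2
  apply le_antisymm
  · refine sup_le (sup_le ?_ ?_) (Ideal.pow_le_self two_ne_zero)
    · exact le_trans le_sup_left (relIdeal_le B)
    · rw [Ideal.map_le_iff_le_comap]
      intro x hx
      rw [Ideal.mem_comap, Art.mem_maximalIdeal_iff]
      show B.res (g x) = 0
      rw [Art.res_app]
      exact (Art.mem_maximalIdeal_iff C x).1 hx
  · intro b hb
    have hfb : f b ∈ IsLocalRing.maximalIdeal A := by
      rw [Art.mem_maximalIdeal_iff]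
      show A.res (f b) = 0
      rw [Art.res_app]
      exact (Art.mem_maximalIdeal_iff B b).1 hb
    have h3 := ((Groth.Agent.S12709.result (g ≫ f)).out 0 2).1 hgf
    rw [← h3] at hfb
    -- decompose `f b`
    have h4 : Ideal.map (algebraMap Λ A) (RingHom.ker (algebraMap Λ k)) ⊔
        Ideal.map (g ≫ f).toAlgHom (IsLocalRing.maximalIdeal C) ⊔
        IsLocalRing.maximalIdeal A ^ 2 =
        Ideal.map (g ≫ f).toAlgHom (IsLocalRing.maximalIdeal C) ⊔ relIdeal A := by
      unfold relIdeal
      ac_rfl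
    rw [h4] at hfb
    obtain ⟨y, hy, j, hj, hsum⟩ := Submodule.mem_sup.1 hfb
    obtain ⟨c, hc, rfl⟩ := (Ideal.mem_map_iff_of_surjective (g ≫ f).toAlgHom hgf).1 hy
    have hgc : g c ∈ IsLocalRing.maximalIdeal B := by
      rw [Art.mem_maximalIdeal_iff]
      show B.res (g c) = 0
      rw [Art.res_app]
      exact (Art.mem_maximalIdeal_iff C c).1 hc
    have h5 : b - g c ∈ relIdeal B := by
      apply h2 _ (Ideal.sub_mem _ hb hgc)
      have e : f (b - g c) = j := by
        have e1 : f (b - g c) = f b - f (g c) := map_sub f.toAlgHom b (g c)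
        rw [e1, ← hsum]
        show (g ≫ f).toAlgHom c + j - f (g c) = j
        show f (g c) + j - f (g c) = j
        ring
      rw [e]
      exact hj
    have h6 : b = (b - g c) + g c := by ring
    rw [h6]
    have h7 : relIdeal B ≤ Ideal.map (algebraMap Λ B) (RingHom.ker (algebraMap Λ k)) ⊔
        Ideal.map g.toAlgHom (IsLocalRing.maximalIdeal C) ⊔ IsLocalRing.maximalIdeal B ^ 2 := by
      unfold relIdeal
      exact sup_le (le_trans le_sup_left le_sup_left) le_sup_right
    exact Ideal.add_mem _ (h7 h5)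
      (Ideal.mem_sup_left (Ideal.mem_sup_right (Ideal.mem_map_of_mem _ hc)))

variable [Algebra.IsSeparable (↥(algebraMap Λ k).range) k]

/-- necessity of injectivity on relative cotangent spaces, in the separable case -/
theorem cotangent_injective_of_essential {A B : Art Λ k} (f : B ⟶ A)
    (hess : Function.Surjective f ∧ ∀ (C : Art Λ k) (g : C ⟶ B),
      Function.Surjective (g ≫ f) → Function.Surjective g) :
    ∀ b ∈ IsLocalRing.maximalIdeal B, f b ∈ relIdeal A → b ∈ relIdeal B := by
  intro b hb hfb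
  by_contra hbJ
  obtain ⟨H, hH1, hH2, hH3, hH4⟩ := exists_hyperplane_ideal B (relIdeal B) le_sup_right
    (relIdeal_le B) b hbJ
  have hq : Function.Surjective (Art.quotMk B H hH2) := Art.quotMk_surjective B H hH2
  have hkill : ∀ l : Λ, algebraMap Λ k l = 0 → algebraMap Λ (Art.quot B H hH2) l = 0 := by
    intro l hl
    show Ideal.Quotient.mk H (algebraMap Λ B l) = 0
    apply Ideal.Quotient.eq_zero_iff_mem.2
    exact hH1 (Ideal.mem_sup_left (Ideal.mem_map_of_mem _ (RingHom.mem_ker.2 hl)))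
  obtain ⟨s, hs⟩ := exists_section_of_sep (Art.quot B H hH2) hkill
  have hsres : ∀ c : k, (Art.quot B H hH2).res (s c) = c := fun c => by
    have := congrArg (fun t : base Λ k ⟶ base Λ k => t c) hs
    exact this
  have hfp := isFibreProd_fib s (Art.quotMk B H hH2) hq
  have hqres : ∀ x : B, (Art.quot B H hH2).res (Art.quotMk B H hH2 x) = B.res x := fun x =>
    Art.res_app (Art.quotMk B H hH2) x
  have hqH : ∀ x : B, x ∈ H → Art.quotMk B H hH2 x = 0 := fun x hx =>
    Ideal.Quotient.eq_zero_iff_mem.2 hx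
  -- the composite is surjective
  have hgf : Function.Surjective (fibSnd s (Art.quotMk B H hH2) hq ≫ f) := by
    intro a
    obtain ⟨x₀, rfl⟩ := hess.1 a
    obtain ⟨t, ht⟩ := hq (s (B.res x₀))
    have hz : x₀ - t ∈ IsLocalRing.maximalIdeal B := by
      rw [Art.mem_maximalIdeal_iff, map_sub, ← hqres t, ht, hsres, sub_self]
    obtain ⟨y, hy⟩ := hH4 _ hz
    rw [← map_relIdeal f hess.1] at hfb
    obtain ⟨j, hj, hjb⟩ := (Ideal.mem_map_iff_of_surjective f.toAlgHom hess.1).1 hfb
    have hx' : s (B.res x₀) = Art.quotMk B H hH2 (x₀ - y * b + y * j) := by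
      have e : x₀ - y * b + y * j = t + (x₀ - t - y * b) + y * j := by ring
      rw [e]
      have e1 : Art.quotMk B H hH2 (t + (x₀ - t - y * b) + y * j) =
          Art.quotMk B H hH2 t + Art.quotMk B H hH2 (x₀ - t - y * b) +
            Art.quotMk B H hH2 (y * j) := by
        rw [map_add (Art.quotMk B H hH2).toAlgHom, map_add (Art.quotMk B H hH2).toAlgHom]
      rw [e1, hqH _ hy, hqH _ (Ideal.mul_mem_left _ _ (hH1 hj)), add_zero, add_zero, ht]
    obtain ⟨w, _, hw2⟩ := hfp.surj (B.res x₀) (x₀ - y * b + y * j) hx'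
    refine ⟨w, ?_⟩
    show f (fibSnd s (Art.quotMk B H hH2) hq w) = f x₀
    rw [hw2]
    have e2 : f (x₀ - y * b + y * j) = f x₀ - f y * f b + f y * f j := by
      have := map_add f.toAlgHom (x₀ - y * b) (y * j)
      have h2 := map_sub f.toAlgHom x₀ (y * b)
      have h3 := map_mul f.toAlgHom y b
      have h4 := map_mul f.toAlgHom y j
      show f.toAlgHom (x₀ - y * b + y * j) = f.toAlgHom x₀ - f.toAlgHom y * f.toAlgHom b +
        f.toAlgHom y * f.toAlgHom j
      rw [this, h2, h3, h4]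
    rw [e2]
    have e3 : f j = f b := hjb
    rw [e3]
    ring
  have hgs := hess.2 _ _ hgf
  obtain ⟨w, hw⟩ := hgs b
  have h1 := hfp.w_apply w
  rw [hw] at h1
  have h2 : (fibFst s (Art.quotMk B H hH2) hq w : (base Λ k)) = (0 : (base Λ k)) := by
    have h3 : (Art.quot B H hH2).res (s (fibFst s (Art.quotMk B H hH2) hq w)) =
        (Art.quot B H hH2).res (Art.quotMk B H hH2 b) := congrArg (Art.quot B H hH2).res h1
    have h5 : (Art.quot B H hH2).res (s (fibFst s (Art.quotMk B H hH2) hq w)) =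
        fibFst s (Art.quotMk B H hH2) hq w := hsres _
    have h6 := hqres b
    rw [h5, h6] at h3
    exact h3.trans ((Art.mem_maximalIdeal_iff B b).1 hb)
  have h7 : Art.quotMk B H hH2 b = 0 := by
    rw [← h1, h2]
    exact map_zero s.toAlgHom
  exact hH3 (Ideal.Quotient.eq_zero_iff_mem.1 h7)

end Essential

end Groth.Agent.Lib.ArtFunH1
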