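import Mathlib
import Groth.Agent.Lib.ArtFunEss_helper1
import Groth.Agent.Lib.ArtFunTan_helper1
import Groth.Agent.Lib.ArtFunFib_helper1
import Groth.Agent.S12709

/-!
Helper lemmas (helper1): Kähler differentials tensored to the residue field versus derivations into
`k`; surjectivity and essential surjectivity of morphisms of `Art Λ k` in terms of them.
APPEND-ONLY once landed.
-/

set_option autoImplicit false
universe u v

open CategoryTheory

namespace Groth.Agent.Lib.ArtFunH1

open ArtFun ArtFun.Art TensorProduct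

section General

variable {R S k : Type*} [CommRing R] [CommRing S] [Algebra R S] [Field k] [Algebra S k]
  [Algebra R k] [IsScalarTower R S k]

/-- Linear forms on `k ⊗ Ω` give derivations into `k`. -/
noncomputable def dualToDer : Module.Dual k (k ⊗[S] Ω[S⁄R]) →ₗ[k] Derivation R S k where
  toFun θ := ((θ.restrictScalars S).comp (TensorProduct.mk S k Ω[S⁄R] 1)).compDer
    (KaehlerDifferential.D R S)
  map_add' θ θ' := by ext s; rfl
  map_smul' c θ := by ext s; rfl

theorem dualToDer_apply (θ : Module.Dual k (k ⊗[S] Ω[S⁄R])) (s : S) :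
    dualToDer θ s = θ (1 ⊗ₜ KaehlerDifferential.D R S s) := rfl

theorem dualToDer_bijective :
    Function.Bijective (dualToDer (R := R) (S := S) (k := k)) := by
  constructor
  · intro θ θ' h
    have h1 : (θ.restrictScalars S).comp (TensorProduct.mk S k Ω[S⁄R] 1) =
        (θ'.restrictScalars S).comp (TensorProduct.mk S k Ω[S⁄R] 1) :=
      Derivation.liftKaehlerDifferential_unique _ _ h
    apply TensorProduct.AlgebraTensorModule.ext
    intro x y
    have h2 : θ (1 ⊗ₜ y) = θ' (1 ⊗ₜ y) := LinearMap.congr_fun h1 y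
    have e : x ⊗ₜ[S] y = x • ((1 : k) ⊗ₜ[S] y) := by
      rw [TensorProduct.smul_tmul', smul_eq_mul, mul_one]
    rw [e, map_smul, map_smul, h2]
  · intro D
    refine ⟨LinearMap.liftBaseChange k D.liftKaehlerDifferential, ?_⟩
    ext s
    rw [dualToDer_apply, LinearMap.liftBaseChange_tmul, one_smul,
      Derivation.liftKaehlerDifferential_comp_D]

theorem finrank_tensor_kaehler_eq :
    Module.finrank k (k ⊗[S] Ω[S⁄R]) = Module.finrank k (Derivation R S k) := by
  rw [← Subspace.dual_finrank_eq]
  exact LinearEquiv.finrank_eq (LinearEquiv.ofBijective dualToDer dualToDer_bijective)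

theorem finite_derivation [Module.Finite S Ω[S⁄R]] : Module.Finite k (Derivation R S k) := by
  have h1 : Module.Finite k (k ⊗[S] Ω[S⁄R]) := inferInstance
  have h2 : Module.Finite k (Module.Dual k (k ⊗[S] Ω[S⁄R])) := inferInstance
  exact Module.Finite.equiv (LinearEquiv.ofBijective dualToDer dualToDer_bijective)

theorem subsingleton_tensor_kaehler_iff :
    Subsingleton (k ⊗[S] Ω[S⁄R]) ↔ ∀ D : Derivation R S k, D = 0 := by
  constructor
  · intro h D
    obtain ⟨θ, rfl⟩ := dualToDer_bijective.2 D
    ext s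
    rw [dualToDer_apply, Subsingleton.elim ((1 : k) ⊗ₜ[S] KaehlerDifferential.D R S s) 0, map_zero]
    rfl
  · intro h
    refine subsingleton_of_forall_eq 0 fun v => ?_
    rw [← Module.forall_dual_apply_eq_zero_iff k v]
    intro θ
    have h0 := h (dualToDer θ)
    have hθ : θ = 0 := dualToDer_bijective.1 (by rw [h0, map_zero])
    rw [hθ]
    rfl

/-- Build a derivation into `k` from a raw function. -/
noncomputable def mkDer (D : S → k) (hadd : ∀ s t, D (s + t) = D s + D t)
    (hmul : ∀ s t, D (s * t) = algebraMap S k s * D t + algebraMap S k t * D s)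
    (hR : ∀ r, D (algebraMap R S r) = 0) : Derivation R S k where
  toFun := D
  map_add' := hadd
  map_smul' r s := by
    show D (r • s) = r • D s
    rw [Algebra.smul_def, hmul, hR, mul_zero, add_zero, ← IsScalarTower.algebraMap_apply,
      Algebra.smul_def]
  map_one_eq_zero' := by
    show D 1 = 0
    rw [← map_one (algebraMap R S)]
    exact hR 1
  leibniz' s t := by
    show D (s * t) = s • D t + t • D s
    rw [hmul, Algebra.smul_def, Algebra.smul_def]

theorem mkDer_apply (D : S → k) (hadd : ∀ s t, D (s + t) = D s + D t)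
    (hmul : ∀ s t, D (s * t) = algebraMap S k s * D t + algebraMap S k t * D s)
    (hR : ∀ r, D (algebraMap R S r) = 0) (s : S) : mkDer D hadd hmul hR s = D s := rfl

/-- A derivation killing the kernel of a surjection descends. -/
theorem exists_descent {T : Type*} [CommRing T] [Algebra R T] [Algebra T k] [IsScalarTower R T k]
    (f : S →ₐ[R] T) (hf : Function.Surjective f)
    (hc : ∀ s, algebraMap S k s = algebraMap T k (f s))
    (D : Derivation R S k) (hD : ∀ s, f s = 0 → D s = 0) :
    ∃ D' : Derivation R T k, ∀ s, D' (f s) = D s := by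
  have hwd : ∀ s s', f s = f s' → D s = D s' := by
    intro s s' h
    have h0 := hD (s - s') (by rw [map_sub, h, sub_self])
    rw [map_sub, sub_eq_zero] at h0
    exact h0
  have hσ : ∀ t, f (Function.surjInv hf t) = t := Function.surjInv_eq hf
  refine ⟨mkDer (fun t => D (Function.surjInv hf t)) ?_ ?_ ?_, ?_⟩
  · intro s t
    show D (Function.surjInv hf (s + t)) = D (Function.surjInv hf s) + D (Function.surjInv hf t)
    rw [← map_add]
    apply hwd
    rw [map_add, hσ, hσ, hσ]
  · intro s t
    show D (Function.surjInv hf (s * t)) = algebraMap T k s * D (Function.surjInv hf t) +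
      algebraMap T k t * D (Function.surjInv hf s)
    rw [hwd (Function.surjInv hf (s * t)) (Function.surjInv hf s * Function.surjInv hf t)
      (by rw [map_mul, hσ, hσ, hσ]), Derivation.leibniz, Algebra.smul_def, Algebra.smul_def,
      hc, hc, hσ, hσ]
  · intro r
    show D (Function.surjInv hf (algebraMap R T r)) = 0
    rw [hwd (Function.surjInv hf (algebraMap R T r)) (algebraMap R S r)
      (by rw [hσ, AlgHom.commutes]), Derivation.map_algebraMap]
  · intro s
    show D (Function.surjInv hf (f s)) = D s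
    exact hwd _ _ (hσ _)

theorem subsingleton_tensor_of_subsingleton_right {R₀ M N : Type*} [CommRing R₀]
    [AddCommGroup M] [Module R₀ M] [AddCommGroup N] [Module R₀ N] [Subsingleton N] :
    Subsingleton (M ⊗[R₀] N) := by
  refine subsingleton_of_forall_eq 0 fun x => ?_
  induction x using TensorProduct.induction_on with
  | zero => rfl
  | tmul a b => rw [Subsingleton.elim b 0, TensorProduct.tmul_zero]
  | add x y hx hy => rw [hx, hy, add_zero]

end General

section ArtLevel

variable {Λ : Type u} {k : Type u} [CommRing Λ] [Field k] [Algebra Λ k]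
  [IsNoetherianRing Λ] [Module.Finite Λ k]

/-- A non-surjective morphism is killed by a nonzero raw derivation into `k`. -/
theorem exists_raw_deriv_of_not_surjective {C B : Art Λ k} (g : C ⟶ B)
    (hns : ¬ Function.Surjective g) :
    ∃ D : B → k, (∀ s t, D (s + t) = D s + D t) ∧
      (∀ s t, D (s * t) = B.res s * D t + B.res t * D s) ∧ (∀ c, D (g c) = 0) ∧
      ∃ x₀, D x₀ ≠ 0 := by
  have hJne : Ideal.map g.toAlgHom (IsLocalRing.maximalIdeal C) ⊔ IsLocalRing.maximalIdeal B ^ 2 ≠
      IsLocalRing.maximalIdeal B := by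
    intro h
    exact hns (((Groth.Agent.S12709.result g).out 0 1).2 h)
  have hJle : Ideal.map g.toAlgHom (IsLocalRing.maximalIdeal C) ⊔ IsLocalRing.maximalIdeal B ^ 2 ≤
      IsLocalRing.maximalIdeal B := by
    refine sup_le ?_ (Ideal.pow_le_self two_ne_zero)
    rw [Ideal.map_le_iff_le_comap]
    intro a ha
    rw [Ideal.mem_comap, Art.mem_maximalIdeal_iff]
    show B.res (g a) = 0
    rw [Art.res_app]
    exact (Art.mem_maximalIdeal_iff C a).1 ha
  obtain ⟨x₀, hx₀m, hx₀⟩ := SetLike.exists_of_lt (lt_of_le_of_ne hJle hJne)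
  have hJ1 : ∀ s t, B.res s = 0 → B.res t = 0 → s * t ∈
      Ideal.map g.toAlgHom (IsLocalRing.maximalIdeal C) ⊔ IsLocalRing.maximalIdeal B ^ 2 := by
    intro s t hs ht
    apply Ideal.mem_sup_right
    rw [pow_two]
    exact Ideal.mul_mem_mul ((Art.mem_maximalIdeal_iff B s).2 hs)
      ((Art.mem_maximalIdeal_iff B t).2 ht)
  have hJ2 : ∀ r, C.res r = 0 → g.toAlgHom r ∈
      Ideal.map g.toAlgHom (IsLocalRing.maximalIdeal C) ⊔ IsLocalRing.maximalIdeal B ^ 2 := by
    intro r hr
    apply Ideal.mem_sup_left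
    exact Ideal.mem_map_of_mem _ ((Art.mem_maximalIdeal_iff C r).2 hr)
  obtain ⟨D, h1, h2, h3, h4⟩ := exists_deriv_of_not_mem C.res B.res C.res_surjective g.toAlgHom
    g.res_comp _ hJ1 hJ2 x₀ ((Art.mem_maximalIdeal_iff B x₀).1 hx₀m) hx₀
  exact ⟨D, h1, h2, h3, x₀, h4⟩

/-- The kernel of a raw `Λ`-derivation `B → k` not vanishing on the maximal ideal is an object. -/
theorem exists_kerD_art (B : Art Λ k) (D : B → k) (hadd : ∀ s t, D (s + t) = D s + D t)
    (hmul : ∀ s t, D (s * t) = B.res s * D t + B.res t * D s)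
    (hΛ : ∀ c, D (algebraMap Λ B c) = 0) (hDm : ∃ m, B.res m = 0 ∧ D m ≠ 0) :
    ∃ (C : Art Λ k) (g : C ⟶ B), ∀ b, (∃ c, g c = b) ↔ D b = 0 := by
  obtain ⟨m, hm0, hDm⟩ := hDm
  have hD0 : D 0 = 0 := by
    have h := hadd 0 0
    rw [add_zero] at h
    exact left_eq_add.mp h
  have hD1 : D 1 = 0 := by
    rw [← map_one (algebraMap Λ B)]
    exact hΛ 1
  have hneg : ∀ x, D (-x) = -D x := by
    intro x
    have h := hadd (-x) x
    rw [neg_add_cancel, hD0] at h
    exact eq_neg_of_add_eq_zero_left h.symm
  have hsub : ∀ x y, D (x - y) = D x - D y := by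
    intro x y
    rw [sub_eq_add_neg, hadd, hneg, ← sub_eq_add_neg]
  let C₀ : Subalgebra Λ B :=
    { carrier := {b | D b = 0}
      mul_mem' := by
        intro a b ha hb
        show D (a * b) = 0
        have ha' : D a = 0 := ha
        have hb' : D b = 0 := hb
        rw [hmul, ha', hb', mul_zero, mul_zero, add_zero]
      one_mem' := hD1
      add_mem' := by
        intro a b ha hb
        show D (a + b) = 0
        have ha' : D a = 0 := ha
        have hb' : D b = 0 := hb
        rw [hadd, ha', hb', add_zero]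
      zero_mem' := hD0
      algebraMap_mem' := hΛ }
  have hmemC : ∀ b : B, b ∈ C₀ ↔ D b = 0 := fun b => Iff.rfl
  haveI hloc : IsLocalHom (C₀.val.toRingHom) := by
    refine ⟨fun c hc => ?_⟩
    obtain ⟨u, hu⟩ := hc
    have hu' : (u : B) = (c : B) := hu
    have hc0 : D (c : B) = 0 := c.2
    have h1 : (c : B) * ((u⁻¹ : Bˣ) : B) = 1 := by
      rw [← hu']
      exact u.mul_inv
    have hres : B.res (c : B) * B.res ((u⁻¹ : Bˣ) : B) = 1 := by
      rw [← map_mul, h1, map_one]
    have hresne : B.res (c : B) ≠ 0 := left_ne_zero_of_mul_eq_one hres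
    have h2 : D ((u⁻¹ : Bˣ) : B) = 0 := by
      have h3 := hmul (c : B) ((u⁻¹ : Bˣ) : B)
      rw [h1, hD1, hc0, mul_zero, add_zero] at h3
      rcases mul_eq_zero.1 h3.symm with h | h
      · exact absurd h hresne
      · exact h
    exact IsUnit.of_mul_eq_one ⟨((u⁻¹ : Bˣ) : B), h2⟩ (Subtype.ext h1)
  haveI : IsLocalRing ↥C₀ := RingHom.domain_isLocalRing C₀.val.toRingHom
  haveI : IsArtinianRing ↥C₀ := by
    have h2 : IsArtinian Λ (Subalgebra.toSubmodule C₀) := inferInstance
    exact isArtinian_of_tower Λ h2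
  have hsurj : Function.Surjective (B.res.comp C₀.val) := by
    intro x
    obtain ⟨b, rfl⟩ := B.res_surjective x
    obtain ⟨t, ht⟩ := B.res_surjective (D b / D m)
    refine ⟨⟨b - t * m, ?_⟩, ?_⟩
    · show D (b - t * m) = 0
      rw [hsub, hmul, hm0, ht, zero_mul, add_zero, div_mul_cancel₀ _ hDm, sub_self]
    · show B.res (b - t * m) = B.res b
      rw [map_sub, map_mul, hm0, mul_zero, sub_zero]
  refine ⟨Art.of ↥C₀ (B.res.comp C₀.val) hsurj, ⟨C₀.val, rfl⟩, ?_⟩
  intro b
  constructor
  · rintro ⟨c, rfl⟩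
    exact c.2
  · intro hb
    exact ⟨⟨b, hb⟩, rfl⟩

/-- The raw-derivation criterion: every `Λ`-derivation `B → k` kills `ker f`. -/
def KillsKer {A B : Art Λ k} (f : B ⟶ A) : Prop :=
  ∀ D : B → k, (∀ s t, D (s + t) = D s + D t) →
    (∀ s t, D (s * t) = B.res s * D t + B.res t * D s) →
    (∀ c, D (algebraMap Λ B c) = 0) → ∀ x, f x = 0 → D x = 0

theorem killsKer_of_essential {A B : Art Λ k} (f : B ⟶ A) (hfs : Function.Surjective f)
    (hess : ∀ (C : Art Λ k) (g : C ⟶ B), Function.Surjective (g ≫ f) → Function.Surjective g) :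
    KillsKer f := by
  intro D hadd hmul hΛ x₀ hx₀
  by_contra hne
  have hres0 : B.res x₀ = 0 := by
    rw [← Art.res_app f, hx₀, map_zero]
  obtain ⟨C, g, hg⟩ := exists_kerD_art B D hadd hmul hΛ ⟨x₀, hres0, hne⟩
  have hD0 : D 0 = 0 := by
    have h := hadd 0 0
    rw [add_zero] at h
    exact left_eq_add.mp h
  have hneg : ∀ x, D (-x) = -D x := by
    intro x
    have h := hadd (-x) x
    rw [neg_add_cancel, hD0] at h
    exact eq_neg_of_add_eq_zero_left h.symm
  have hsub : ∀ x y, D (x - y) = D x - D y := by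
    intro x y
    rw [sub_eq_add_neg, hadd, hneg, ← sub_eq_add_neg]
  have hgs : Function.Surjective (g ≫ f) := by
    intro a
    obtain ⟨b, rfl⟩ := hfs a
    obtain ⟨t, ht⟩ := B.res_surjective (D b / D x₀)
    have hmem : D (b - t * x₀) = 0 := by
      rw [hsub, hmul, hres0, ht, zero_mul, add_zero, div_mul_cancel₀ _ hne, sub_self]
    obtain ⟨c, hc⟩ := (hg _).2 hmem
    refine ⟨c, ?_⟩
    show f (g c) = f b
    rw [hc, map_sub, map_mul, hx₀, mul_zero, sub_zero]
  obtain ⟨c, hc⟩ := hess C g hgs x₀
  exact hne ((hg x₀).1 ⟨c, hc⟩)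

theorem essential_of_killsKer {A B : Art Λ k} (f : B ⟶ A) (hK : KillsKer f)
    (C : Art Λ k) (g : C ⟶ B) (hgs : Function.Surjective (g ≫ f)) : Function.Surjective g := by
  by_contra hns
  obtain ⟨D, hadd, hmul, hDg, x₀, hx₀⟩ := exists_raw_deriv_of_not_surjective g hns
  have hΛ : ∀ c, D (algebraMap Λ B c) = 0 := by
    intro c
    rw [← g.toAlgHom.commutes c]
    exact hDg _
  have hD0 : D 0 = 0 := by
    have h := hadd 0 0
    rw [add_zero] at h
    exact left_eq_add.mp h
  have hneg : ∀ x, D (-x) = -D x := by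
    intro x
    have h := hadd (-x) x
    rw [neg_add_cancel, hD0] at h
    exact eq_neg_of_add_eq_zero_left h.symm
  have hsub : ∀ x y, D (x - y) = D x - D y := by
    intro x y
    rw [sub_eq_add_neg, hadd, hneg, ← sub_eq_add_neg]
  obtain ⟨c, hc⟩ := hgs (f x₀)
  have hc' : f (g c) = f x₀ := hc
  have h0 := hK D hadd hmul hΛ (x₀ - g c) (by rw [map_sub, hc', sub_self])
  rw [hsub, hDg, sub_zero] at h0
  exact hx₀ h0

section Instances

variable {A B : Art Λ k} (f : B ⟶ A) [Algebra B A] [Algebra A k]

theorem surjective_iff_kaehler (hBA : ∀ b, algebraMap B A b = f b)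
    (hAk : ∀ a, algebraMap A k a = A.res a) :
    Function.Surjective f ↔ Subsingleton (k ⊗[A] Ω[A⁄B]) := by
  letI : Algebra B k := B.res.toRingHom.toAlgebra
  haveI : IsScalarTower B A k := IsScalarTower.of_algebraMap_eq fun b => by
    rw [hBA, hAk, Art.res_app]
    rfl
  constructor
  · intro hfs
    haveI : Subsingleton Ω[A⁄B] := KaehlerDifferential.subsingleton_of_surjective B A (by
      intro a
      obtain ⟨b, rfl⟩ := hfs a
      exact ⟨b, hBA b⟩)
    exact subsingleton_tensor_of_subsingleton_right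
  · intro hsub
    by_contra hns
    obtain ⟨D, hadd, hmul, hDf, x₀, hx₀⟩ := exists_raw_deriv_of_not_surjective f hns
    have h0 := (subsingleton_tensor_kaehler_iff (R := B) (S := A) (k := k)).1 hsub
      (mkDer D hadd (fun s t => by rw [hAk, hAk]; exact hmul s t)
        (fun b => by rw [hBA]; exact hDf b))
    apply hx₀
    have h1 := DFunLike.congr_fun h0 x₀
    rw [mkDer_apply] at h1
    exact h1

variable [Algebra B k]

theorem essential_iff_kaehler (hBA : ∀ b, algebraMap B A b = f b)
    (hAk : ∀ a, algebraMap A k a = A.res a) (hBk : ∀ b, algebraMap B k b = B.res b) :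
    (Function.Surjective f ∧ ∀ (C : Art Λ k) (g : C ⟶ B),
        Function.Surjective (g ≫ f) → Function.Surjective g) ↔
      (Subsingleton (k ⊗[A] Ω[A⁄B]) ∧
        Module.finrank k (k ⊗[B] Ω[B⁄Λ]) = Module.finrank k (k ⊗[A] Ω[A⁄Λ])) := by
  haveI : IsScalarTower Λ B A := IsScalarTower.of_algebraMap_eq fun c => by
    rw [hBA]
    exact (f.toAlgHom.commutes c).symm
  haveI : IsScalarTower Λ A k := IsScalarTower.of_algebraMap_eq fun c => by
    rw [hAk]
    exact (A.res.commutes c).symm
  haveI : IsScalarTower Λ B k := IsScalarTower.of_algebraMap_eq fun c => by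
    rw [hBk]
    exact (B.res.commutes c).symm
  haveI : IsScalarTower B A k := IsScalarTower.of_algebraMap_eq fun b => by
    rw [hBA, hAk, hBk, Art.res_app]
  have : Module.Finite Λ A := by
    have h := (isFiniteLength_iff_isNoetherian_isArtinian.mp (isFiniteLength_art A)).1
    infer_instance
  have : Module.Finite Λ B := by
    have h := (isFiniteLength_iff_isNoetherian_isArtinian.mp (isFiniteLength_art B)).1
    infer_instance
  haveI : Module.Finite k (Derivation Λ A k) := finite_derivation
  haveI : Module.Finite k (Derivation Λ B k) := finite_derivation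
  let ψ : Derivation Λ A k →ₗ[k] Derivation Λ B k :=
    { toFun := fun D => D.compAlgebraMap B
      map_add' := fun _ _ => rfl
      map_smul' := fun _ _ => rfl }
  have hψ : ∀ (D : Derivation Λ A k) (b : B), ψ D b = D (f b) := by
    intro D b
    show D (algebraMap B A b) = D (f b)
    rw [hBA]
  have hψinj : Function.Surjective f → Function.Injective ψ := by
    intro hfs D D' h
    ext a
    obtain ⟨b, rfl⟩ := hfs a
    rw [← hψ, ← hψ, h]
  have hrawB : ∀ D : Derivation Λ B k, ∀ s t, D (s * t) = B.res s * D t + B.res t * D s := by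
    intro D s t
    rw [Derivation.leibniz, Algebra.smul_def, Algebra.smul_def, hBk, hBk]
  have hkey : Function.Surjective f → (Function.Surjective ψ ↔ KillsKer f) := by
    intro hfs
    constructor
    · intro hs D hadd hmul hΛ x hx
      obtain ⟨D', hD'⟩ := hs (mkDer D hadd (fun s t => by rw [hBk, hBk]; exact hmul s t) hΛ)
      have h1 := DFunLike.congr_fun hD' x
      rw [mkDer_apply, hψ, hx, map_zero] at h1
      exact h1.symm
    · intro hK D
      obtain ⟨D', hD'⟩ := exists_descent (R := Λ) (S := B) (T := A) (k := k) f.toAlgHom hfs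
        (fun s => by rw [hBk, hAk]; exact (Art.res_app f s).symm) D
        (fun s hs => hK D (fun s t => map_add D s t) (hrawB D) (fun c => D.map_algebraMap c) s hs)
      refine ⟨D', ?_⟩
      ext b
      rw [hψ]
      exact hD' b
  constructor
  · rintro ⟨hfs, hess⟩
    refine ⟨(surjective_iff_kaehler f hBA hAk).1 hfs, ?_⟩
    rw [finrank_tensor_kaehler_eq, finrank_tensor_kaehler_eq]
    have hbij : Function.Bijective ψ :=
      ⟨hψinj hfs, (hkey hfs).2 (killsKer_of_essential f hfs hess)⟩
    exact (LinearEquiv.finrank_eq (LinearEquiv.ofBijective ψ hbij)).symm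
  · rintro ⟨hsub, hfin⟩
    have hfs : Function.Surjective f := (surjective_iff_kaehler f hBA hAk).2 hsub
    refine ⟨hfs, ?_⟩
    rw [finrank_tensor_kaehler_eq, finrank_tensor_kaehler_eq] at hfin
    have hsurj : Function.Surjective ψ :=
      (LinearMap.injective_iff_surjective_of_finrank_eq_finrank hfin.symm).1 (hψinj hfs)
    exact essential_of_killsKer f ((hkey hfs).1 hsurj)

end Instances

end ArtLevel

end Groth.Agent.Lib.ArtFunH1
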