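import Mathlib
import Groth.Agent.Lib.ArtFunSchl_helper1
import Groth.Agent.Lib.ArtFunAmb_helper1

/-!
# Minimal presentations of Artinian objects by ambient rings (helper1)
APPEND-ONLY once landed.
-/

set_option autoImplicit false
universe u v

open CategoryTheory

namespace Groth.Agent.Lib.SchlH1

open ArtFun ArtFun.Art Groth.Agent.Lib.ArtFunH1

variable {Λ : Type u} {k : Type u} [CommRing Λ] [Field k] [Algebra Λ k]

section MinFamily

variable [IsLocalRing Λ]

theorem mem_maxΛ_iff (hk : Function.Surjective (algebraMap Λ k)) (l : Λ) :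
    l ∈ IsLocalRing.maximalIdeal Λ ↔ algebraMap Λ k l = 0 := by
  have hmax : (RingHom.ker (algebraMap Λ k)).IsMaximal :=
    RingHom.ker_isMaximal_of_surjective _ hk
  rw [← IsLocalRing.eq_maximalIdeal hmax, RingHom.mem_ker]

theorem exists_min_family (R : Art Λ k) :
    ∃ (r : ℕ) (x : Fin r → R), (∀ i, x i ∈ IsLocalRing.maximalIdeal R) ∧
      IsLocalRing.maximalIdeal R ≤ Ideal.span (Set.range x) ⊔
        (IsLocalRing.maximalIdeal R ^ 2 ⊔
          (IsLocalRing.maximalIdeal Λ).map (algebraMap Λ R)) ∧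
      ∀ c : Fin r → Λ, (∑ i, algebraMap Λ R (c i) * x i) ∈
        IsLocalRing.maximalIdeal R ^ 2 ⊔ (IsLocalRing.maximalIdeal Λ).map (algebraMap Λ R) →
          ∀ i, c i ∈ IsLocalRing.maximalIdeal Λ := by
  classical
  obtain ⟨W, hW⟩ : ∃ W : Ideal R, W = IsLocalRing.maximalIdeal R ^ 2 ⊔
      (IsLocalRing.maximalIdeal Λ).map (algebraMap Λ R) := ⟨_, rfl⟩
  rw [← hW]
  let P : ℕ → Prop := fun r => ∃ x : Fin r → R, (∀ i, x i ∈ IsLocalRing.maximalIdeal R) ∧
    IsLocalRing.maximalIdeal R ≤ Ideal.span (Set.range x) ⊔ W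
  have hex : ∃ r, P r := by
    have hfg : (IsLocalRing.maximalIdeal R : Submodule R R).FG := IsNoetherian.noetherian _
    obtain ⟨r, x, hx⟩ := Submodule.fg_iff_exists_fin_generating_family.1 hfg
    refine ⟨r, x, fun i => ?_, ?_⟩
    · rw [← hx]
      exact Submodule.subset_span ⟨i, rfl⟩
    · intro y hy
      rw [← hx] at hy
      exact Ideal.mem_sup_left hy
  obtain ⟨r, ⟨x, hxm, hxs⟩, hmin⟩ : ∃ r, P r ∧ ∀ m < r, ¬ P m :=
    ⟨Nat.find hex, Nat.find_spec hex, fun m hm => Nat.find_min hex hm⟩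
  refine ⟨r, x, hxm, hxs, ?_⟩
  intro c hc j
  by_contra hj
  have hu : IsUnit (c j) := by
    by_contra h
    exact hj ((IsLocalRing.mem_maximalIdeal _).2 h)
  cases r with
  | zero => exact j.elim0
  | succ r' =>
    apply hmin r' (Nat.lt_succ_self r')
    have hxj : x j ∈ Ideal.span (Set.range fun i' => x (j.succAbove i')) ⊔ W := by
      obtain ⟨v, hv⟩ := hu.map (algebraMap Λ R)
      have h1 : (v : R) * x j = (∑ i, algebraMap Λ R (c i) * x i) -
          ∑ i', algebraMap Λ R (c (j.succAbove i')) * x (j.succAbove i') := by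
        rw [Fin.sum_univ_succAbove _ j, hv]
        ring
      have h2 : (v : R) * x j ∈ Ideal.span (Set.range fun i' => x (j.succAbove i')) ⊔ W := by
        rw [h1]
        refine Ideal.sub_mem _ (Ideal.mem_sup_right hc) (Ideal.mem_sup_left ?_)
        refine Ideal.sum_mem _ fun i' _ => Ideal.mul_mem_left _ _ ?_
        exact Ideal.subset_span ⟨i', rfl⟩
      have h3 : x j = (↑v⁻¹ : R) * ((v : R) * x j) := by
        rw [← mul_assoc, Units.inv_mul, one_mul]
      rw [h3]
      exact Ideal.mul_mem_left _ _ h2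
    refine ⟨fun i' => x (j.succAbove i'), fun i' => hxm _, ?_⟩
    refine hxs.trans (sup_le ?_ le_sup_right)
    rw [Ideal.span_le]
    rintro _ ⟨i, rfl⟩
    by_cases hij : i = j
    · rw [hij]
      exact hxj
    · obtain ⟨i', rfl⟩ := Fin.exists_succAbove_eq hij
      exact Ideal.mem_sup_left (Ideal.subset_span ⟨i', rfl⟩)

end MinFamily

section KerAeval

theorem ker_aeval_zero_le (r : ℕ) :
    RingHom.ker (MvPolynomial.aeval (fun _ : Fin r => (0 : k)) :
        MvPolynomial (Fin r) Λ →ₐ[Λ] k) ≤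
      Ideal.span (Set.range (MvPolynomial.X : Fin r → MvPolynomial (Fin r) Λ)) ⊔
        (RingHom.ker (algebraMap Λ k)).map MvPolynomial.C := by
  intro p hp
  rw [RingHom.mem_ker, MvPolynomial.aeval_zero'] at hp
  have h1 : p = (p - MvPolynomial.C (MvPolynomial.constantCoeff p)) +
      MvPolynomial.C (MvPolynomial.constantCoeff p) := by ring
  rw [h1]
  refine Ideal.add_mem _ (Ideal.mem_sup_left ?_)
    (Ideal.mem_sup_right (Ideal.mem_map_of_mem _ (RingHom.mem_ker.2 hp)))
  rw [← Set.image_univ, MvPolynomial.mem_ideal_span_X_image]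
  intro m hm
  have hm0 : m ≠ 0 := by
    rintro rfl
    apply MvPolynomial.mem_support_iff.1 hm
    simp [MvPolynomial.constantCoeff_eq]
  obtain ⟨i, hi⟩ := Finsupp.ne_iff.1 hm0
  exact ⟨i, Set.mem_univ _, by simpa using hi⟩

end KerAeval

section RelW

variable {S : CRing Λ k}

theorem map_maximalIdeal_of_surjective {A : Art Λ k} (φ : HomSet S.carrier S.res A)
    (hφ : Function.Surjective φ.1) :
    (IsLocalRing.maximalIdeal S.carrier).map (φ.1 : S.carrier →+* A) =
      IsLocalRing.maximalIdeal A := by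
  apply le_antisymm
  · rw [Ideal.map_le_iff_le_comap]
    intro s hs
    rw [Ideal.mem_comap, Art.mem_maximalIdeal_iff]
    show A.res (φ.1 s) = 0
    rw [res_hom]
    exact (CRing.mem_maximalIdeal_iff S s).1 hs
  · intro y hy
    obtain ⟨s, rfl⟩ := hφ y
    refine Ideal.mem_map_of_mem _ ?_
    rw [Art.mem_maximalIdeal_iff, res_hom] at hy
    exact (CRing.mem_maximalIdeal_iff S s).2 hy

theorem map_relW [IsLocalRing Λ] {A : Art Λ k} (φ : HomSet S.carrier S.res A)
    (hφ : Function.Surjective φ.1) :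
    (IsLocalRing.maximalIdeal S.carrier ^ 2 ⊔
        (IsLocalRing.maximalIdeal Λ).map (algebraMap Λ S.carrier)).map
      (φ.1 : S.carrier →+* A) =
      IsLocalRing.maximalIdeal A ^ 2 ⊔ (IsLocalRing.maximalIdeal Λ).map (algebraMap Λ A) := by
  rw [Ideal.map_sup, Ideal.map_pow, map_maximalIdeal_of_surjective φ hφ, Ideal.map_map]
  have h1 : (φ.1 : S.carrier →+* A).comp (algebraMap Λ S.carrier) = algebraMap Λ A :=
    φ.1.comp_algebraMap
  rw [h1]

end RelW

section Presentation

variable [IsLocalRing Λ] [IsNoetherianRing Λ]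

/-- the abstract part: a coefficient ring whose maximal ideal is generated by `r` elements and
`m_Λ`, mapping these elements to a minimal family of `R` -/
theorem presentation_core (hk : Function.Surjective (algebraMap Λ k)) (R : Art Λ k)
    (S : CRing Λ k) (r : ℕ) (X : Fin r → S.carrier) (x : Fin r → R)
    (hX : ∀ i, X i ∈ IsLocalRing.maximalIdeal S.carrier)
    (hgen : IsLocalRing.maximalIdeal S.carrier ≤ Ideal.span (Set.range X) ⊔
      (IsLocalRing.maximalIdeal Λ).map (algebraMap Λ S.carrier))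
    (hxm : ∀ i, x i ∈ IsLocalRing.maximalIdeal R)
    (hxs : IsLocalRing.maximalIdeal R ≤ Ideal.span (Set.range x) ⊔
        (IsLocalRing.maximalIdeal R ^ 2 ⊔
          (IsLocalRing.maximalIdeal Λ).map (algebraMap Λ R)))
    (hxi : ∀ c : Fin r → Λ, (∑ i, algebraMap Λ R (c i) * x i) ∈
        IsLocalRing.maximalIdeal R ^ 2 ⊔ (IsLocalRing.maximalIdeal Λ).map (algebraMap Λ R) →
          ∀ i, c i ∈ IsLocalRing.maximalIdeal Λ)
    (ψ : HomSet S.carrier S.res R) (hψX : ∀ i, ψ.1 (X i) = x i) :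
    Function.Surjective ψ.1 ∧
      RingHom.ker ψ.1 ≤ IsLocalRing.maximalIdeal S.carrier ^ 2 ⊔
        (IsLocalRing.maximalIdeal Λ).map (algebraMap Λ S.carrier) := by
  classical
  haveI : Module.Finite Λ k := Module.Finite.of_surjective (Algebra.linearMap Λ k) hk
  have f3 : ∀ l ∈ IsLocalRing.maximalIdeal Λ,
      algebraMap Λ S.carrier l ∈ IsLocalRing.maximalIdeal S.carrier := fun l hl => by
    rw [CRing.mem_maximalIdeal_iff, AlgHom.commutes]
    exact (mem_maxΛ_iff hk l).1 hl
  have hψm : ∀ s ∈ IsLocalRing.maximalIdeal S.carrier,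
      ψ.1 s ∈ IsLocalRing.maximalIdeal R := fun s hs => by
    rw [Art.mem_maximalIdeal_iff, res_hom]
    exact (CRing.mem_maximalIdeal_iff S s).1 hs
  have hψΛ : ∀ l : Λ, ψ.1 (algebraMap Λ S.carrier l) = algebraMap Λ R l :=
    fun l => ψ.1.commutes l
  have hmapΛ : ((IsLocalRing.maximalIdeal Λ).map (algebraMap Λ S.carrier)).map
        (ψ.1 : S.carrier →+* R) = (IsLocalRing.maximalIdeal Λ).map (algebraMap Λ R) := by
    rw [Ideal.map_map]
    have h1 : (ψ.1 : S.carrier →+* R).comp (algebraMap Λ S.carrier) = algebraMap Λ R :=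
      ψ.1.comp_algebraMap
    rw [h1]
  -- surjectivity
  have ha : IsLocalRing.maximalIdeal R ≤ (IsLocalRing.maximalIdeal S.carrier).map
      (ψ.1 : S.carrier →+* R) := by
    have h1 : IsLocalRing.maximalIdeal R ≤
        (IsLocalRing.maximalIdeal S.carrier).map (ψ.1 : S.carrier →+* R) ⊔
        IsLocalRing.maximalIdeal R • IsLocalRing.maximalIdeal R := by
      refine hxs.trans (sup_le ?_ (sup_le ?_ ?_))
      · rw [Ideal.span_le]
        rintro _ ⟨i, rfl⟩
        rw [← hψX i]
        exact Ideal.mem_sup_left (Ideal.mem_map_of_mem _ (hX i))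
      · rw [pow_two]
        exact le_sup_right
      · rw [← hmapΛ]
        refine le_sup_of_le_left (Ideal.map_mono ?_)
        rw [Ideal.map_le_iff_le_comap]
        intro l hl
        exact f3 l hl
    exact Submodule.le_of_le_smul_of_le_jacobson_bot (IsNoetherian.noetherian _)
      (IsLocalRing.maximalIdeal_le_jacobson _) h1
  have hψs : Function.Surjective ψ.1 := by
    letI algSR : Algebra S.carrier R := (ψ.1 : S.carrier →+* R).toAlgebra
    haveI : IsScalarTower Λ S.carrier R :=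
      IsScalarTower.of_algebraMap_eq (fun l => (hψΛ l).symm)
    haveI : IsNoetherian Λ R :=
      (isFiniteLength_iff_isNoetherian_isArtinian.mp (isFiniteLength_art R)).1
    haveI : Module.Finite S.carrier R := Module.Finite.of_restrictScalars_finite Λ S.carrier R
    have htop : (⊤ : Submodule S.carrier R) ≤
        LinearMap.range (Algebra.linearMap S.carrier R) ⊔
          IsLocalRing.maximalIdeal S.carrier • (⊤ : Submodule S.carrier R) := by
      intro y _
      obtain ⟨l, hl⟩ := hk (R.res y)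
      have hy : y - algebraMap Λ R l ∈ IsLocalRing.maximalIdeal R := by
        rw [Art.mem_maximalIdeal_iff, map_sub, AlgHom.commutes, hl, sub_self]
      have hy2 : y - algebraMap Λ R l ∈ IsLocalRing.maximalIdeal S.carrier •
          (⊤ : Submodule S.carrier R) := by
        rw [Ideal.smul_top_eq_map]
        exact ha hy
      have hy3 : y = Algebra.linearMap S.carrier R (algebraMap Λ S.carrier l) +
          (y - algebraMap Λ R l) := by
        rw [Algebra.linearMap_apply]
        show y = ψ.1 (algebraMap Λ S.carrier l) + _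
        rw [hψΛ]
        ring
      rw [hy3]
      exact Submodule.add_mem_sup (LinearMap.mem_range_self _ _) hy2
    have hrange := Submodule.le_of_le_smul_of_le_jacobson_bot
      (Module.Finite.fg_top (R := S.carrier) (M := R))
      (IsLocalRing.maximalIdeal_le_jacobson _) htop
    intro y
    obtain ⟨s, hs⟩ := hrange (Submodule.mem_top (x := y))
    exact ⟨s, hs⟩
  refine ⟨hψs, ?_⟩
  -- the kernel condition
  intro s hs
  have hsm : s ∈ IsLocalRing.maximalIdeal S.carrier := ker_le_max S ψ hs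
  obtain ⟨s₁, hs₁, t, ht, hst⟩ := Submodule.mem_sup.1 (hgen hsm)
  obtain ⟨uu, huu⟩ := (Ideal.mem_span_range_iff_exists_fun).1 hs₁
  choose c hc using fun i => hk (S.res (uu i))
  have hv : ∀ i, uu i - algebraMap Λ S.carrier (c i) ∈
      IsLocalRing.maximalIdeal S.carrier := fun i => by
    rw [CRing.mem_maximalIdeal_iff, map_sub, AlgHom.commutes, hc, sub_self]
  have hψt : ψ.1 t ∈ (IsLocalRing.maximalIdeal Λ).map (algebraMap Λ R) := by
    rw [← hmapΛ]
    exact Ideal.mem_map_of_mem _ ht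
  have hsum : (∑ i, algebraMap Λ R (c i) * x i) ∈ IsLocalRing.maximalIdeal R ^ 2 ⊔
      (IsLocalRing.maximalIdeal Λ).map (algebraMap Λ R) := by
    have h0 : ψ.1 s = 0 := RingHom.mem_ker.1 hs
    rw [← hst, ← huu, map_add, map_sum] at h0
    have h1 : (∑ i, algebraMap Λ R (c i) * x i) =
        -(∑ i, ψ.1 (uu i - algebraMap Λ S.carrier (c i)) * x i) - ψ.1 t := by
      have h2 : ∀ i, ψ.1 (uu i * X i) =
          algebraMap Λ R (c i) * x i +
            ψ.1 (uu i - algebraMap Λ S.carrier (c i)) * x i := fun i => by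
        rw [map_mul, hψX, map_sub, hψΛ]
        ring
      rw [Finset.sum_congr rfl (fun i _ => h2 i), Finset.sum_add_distrib] at h0
      linear_combination h0
    rw [h1]
    refine Ideal.sub_mem _ ((Ideal.neg_mem_iff _).2 (Ideal.mem_sup_left ?_))
      (Ideal.mem_sup_right hψt)
    refine Ideal.sum_mem _ fun i _ => ?_
    rw [pow_two]
    exact Ideal.mul_mem_mul (hψm _ (hv i)) (hxm i)
  have hcm := hxi c hsum
  rw [← hst, ← huu]
  refine Ideal.add_mem _ ?_ (Ideal.mem_sup_right ht)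
  refine Ideal.sum_mem _ fun i _ => ?_
  have h3 : uu i * X i = algebraMap Λ S.carrier (c i) * X i +
      (uu i - algebraMap Λ S.carrier (c i)) * X i := by ring
  rw [h3]
  refine Ideal.add_mem _ (Ideal.mem_sup_right ?_) (Ideal.mem_sup_left ?_)
  · exact Ideal.mul_mem_right _ _ (Ideal.mem_map_of_mem _ (hcm i))
  · rw [pow_two]
    exact Ideal.mul_mem_mul (hv i) (hX i)

theorem exists_min_presentation (hk : Function.Surjective (algebraMap Λ k)) (R : Art Λ k) :
    ∃ (S : CRing Λ k), IsSmoothFunctor (hR S.carrier S.res) ∧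
      ∃ π : HomSet S.carrier S.res R, Function.Surjective π.1 ∧
        RingHom.ker π.1 ≤ IsLocalRing.maximalIdeal S.carrier ^ 2 ⊔
          (IsLocalRing.maximalIdeal Λ).map (algebraMap Λ S.carrier) := by
  classical
  haveI : Module.Finite Λ k := Module.Finite.of_surjective (Algebra.linearMap Λ k) hk
  obtain ⟨r, x, hxm, hxs, hxi⟩ := exists_min_family R
  obtain ⟨π₀, hπ₀def⟩ : ∃ π₀ : MvPolynomial (Fin r) Λ →ₐ[Λ] k,
      π₀ = MvPolynomial.aeval (fun _ => (0 : k)) := ⟨_, rfl⟩
  have hπ₀X : ∀ i, π₀ (MvPolynomial.X i) = 0 := fun i => by rw [hπ₀def, MvPolynomial.aeval_X]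
  have hπ₀C : ∀ l, π₀ (MvPolynomial.C l) = algebraMap Λ k l := fun l => by
    rw [hπ₀def, MvPolynomial.aeval_C]
  have hπ₀ : Function.Surjective π₀ := fun c => by
    obtain ⟨l, rfl⟩ := hk c
    exact ⟨MvPolynomial.C l, hπ₀C l⟩
  obtain ⟨θ₀, hθ₀def⟩ : ∃ θ₀ : MvPolynomial (Fin r) Λ →ₐ[Λ] R,
      θ₀ = MvPolynomial.aeval x := ⟨_, rfl⟩
  have hθ₀X : ∀ i, θ₀ (MvPolynomial.X i) = x i := fun i => by
    rw [hθ₀def, MvPolynomial.aeval_X]
  have hθ₀ : R.res.comp θ₀ = π₀ := by
    apply MvPolynomial.algHom_ext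
    intro i
    show R.res (θ₀ (MvPolynomial.X i)) = π₀ (MvPolynomial.X i)
    rw [hθ₀X, hπ₀X]
    exact (Art.mem_maximalIdeal_iff R _).1 (hxm i)
  obtain ⟨ψ, hψ⟩ : ∃ ψ : HomSet (ambient π₀ hπ₀).carrier (ambient π₀ hπ₀).res R,
      ∀ p, ψ.1 (ambι π₀ p) = θ₀ p := amb_exists_extension π₀ R θ₀ hθ₀
  have hSsm : IsSmoothFunctor (hR (ambient π₀ hπ₀).carrier (ambient π₀ hπ₀).res) :=
    ambient_isSmoothFunctor π₀
  have f1 : IsLocalRing.maximalIdeal (ambient π₀ hπ₀).carrier =
      (RingHom.ker π₀).map (ambι π₀) :=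
    (@IsLocalRing.eq_maximalIdeal (ambient π₀ hπ₀).carrier _ (ambient π₀ hπ₀).isLocalRing _
      (ambM_isMaximal π₀ hπ₀)).symm
  have hkerΛ : RingHom.ker (algebraMap Λ k) = IsLocalRing.maximalIdeal Λ :=
    IsLocalRing.eq_maximalIdeal (RingHom.ker_isMaximal_of_surjective _ hk)
  have hX : ∀ i, (ambι π₀ (MvPolynomial.X i) : (ambient π₀ hπ₀).carrier) ∈
      IsLocalRing.maximalIdeal (ambient π₀ hπ₀).carrier := fun i => by
    rw [f1]
    exact Ideal.mem_map_of_mem _ (RingHom.mem_ker.2 (hπ₀X i))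
  have hgen : IsLocalRing.maximalIdeal (ambient π₀ hπ₀).carrier ≤
      Ideal.span (Set.range fun i =>
        (ambι π₀ (MvPolynomial.X i) : (ambient π₀ hπ₀).carrier)) ⊔
        (IsLocalRing.maximalIdeal Λ).map (algebraMap Λ (ambient π₀ hπ₀).carrier) := by
    intro s hs
    rw [f1] at hs
    have h1 : RingHom.ker π₀ ≤
        Ideal.span (Set.range (MvPolynomial.X : Fin r → MvPolynomial (Fin r) Λ)) ⊔
          (RingHom.ker (algebraMap Λ k)).map MvPolynomial.C := by
      rw [hπ₀def]
      exact ker_aeval_zero_le r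
    have h2 := Ideal.map_mono (f := ambι π₀) h1 hs
    rw [Ideal.map_sup, Ideal.map_span, Ideal.map_map, hkerΛ, ← Set.range_comp] at h2
    exact h2
  obtain ⟨hs, hk'⟩ := presentation_core hk R (ambient π₀ hπ₀) r
    (fun i => (ambι π₀ (MvPolynomial.X i) : (ambient π₀ hπ₀).carrier)) x hX hgen hxm hxs hxi ψ
    (fun i => by rw [hψ, hθ₀X])
  exact ⟨ambient π₀ hπ₀, hSsm, ψ, hs, hk'⟩

end Presentation

end Groth.Agent.Lib.SchlH1
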