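import Mathlib

/-!
# Noetherian spaces are locally connected (helper7)
-/

open TopologicalSpace Topology

namespace Groth.Agent.Lib.NoethLocConnH7

theorem isPreirreducible_inter_open {T : Type*} [TopologicalSpace T] {Z W : Set T}
    (hZ : IsPreirreducible Z) (hW : IsOpen W) : IsPreirreducible (Z ∩ W) := by
  intro u v hu hv ⟨a, ⟨haZ, haW⟩, hau⟩ ⟨b, ⟨hbZ, hbW⟩, hbv⟩
  obtain ⟨c, hcZ, ⟨hcu, hcW⟩, ⟨hcv, _⟩⟩ := hZ (u ∩ W) (v ∩ W) (hu.inter hW) (hv.inter hW)
    ⟨a, haZ, hau, haW⟩ ⟨b, hbZ, hbv, hbW⟩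
  exact ⟨c, ⟨hcZ, hcW⟩, hcu, hcv⟩

theorem exists_preconnected_nhds {T : Type*} [TopologicalSpace T] [NoetherianSpace T] (x : T)
    (U : Set T) (hU : U ∈ 𝓝 x) : ∃ V ∈ 𝓝 x, IsPreconnected V ∧ V ⊆ U := by
  have hWo : IsOpen (interior U) := isOpen_interior
  have hxW : x ∈ interior U := mem_interior_iff_mem_nhds.mpr hU
  have hfin : (irreducibleComponents T).Finite := NoetherianSpace.finite_irreducibleComponents
  let c : Set (Set T) := (fun Z => Z ∩ interior U) '' {Z ∈ irreducibleComponents T | x ∈ Z}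
  refine ⟨⋃₀ c, ?_, ?_, ?_⟩
  · let V' : Set T := interior U ∩ (⋃ Z ∈ {Z ∈ irreducibleComponents T | x ∉ Z}, Z)ᶜ
    have hV'o : IsOpen V' := hWo.inter
      ((hfin.subset (fun Z hZ => hZ.1)).isClosed_biUnion
        (fun Z hZ => isClosed_of_mem_irreducibleComponents Z hZ.1)).isOpen_compl
    have hxV' : x ∈ V' := ⟨hxW, fun h => by
      obtain ⟨Z, hZ, hxZ⟩ := Set.mem_iUnion₂.mp h
      exact hZ.2 hxZ⟩
    refine Filter.mem_of_superset (hV'o.mem_nhds hxV') ?_
    rintro t ⟨htW, ht⟩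
    refine ⟨irreducibleComponent t ∩ interior U, ⟨irreducibleComponent t,
      ⟨irreducibleComponent_mem_irreducibleComponents t, ?_⟩, rfl⟩, mem_irreducibleComponent, htW⟩
    by_contra hx
    exact ht (Set.mem_iUnion₂.mpr ⟨irreducibleComponent t,
      ⟨irreducibleComponent_mem_irreducibleComponents t, hx⟩, mem_irreducibleComponent⟩)
  · apply isPreconnected_sUnion x
    · rintro _ ⟨Z, hZ, rfl⟩
      exact ⟨hZ.2, hxW⟩
    · rintro _ ⟨Z, hZ, rfl⟩
      exact (isPreirreducible_inter_open hZ.1.1.2 hWo).isPreconnected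
  · rintro t ⟨_, ⟨Z, hZ, rfl⟩, htZ, htW⟩
    exact interior_subset htW

/-- A space in which every point has a Noetherian neighbourhood is locally connected. -/
theorem locallyConnectedSpace (X : Type*) [TopologicalSpace X]
    (hX : ∀ x : X, ∃ U ∈ 𝓝 x, NoetherianSpace U) : LocallyConnectedSpace X := by
  rw [locallyConnectedSpace_iff_connected_subsets]
  intro x U hU
  obtain ⟨N, hN, hNoeth⟩ := hX x
  have hWo : IsOpen (interior N) := isOpen_interior
  have hxW : x ∈ interior N := mem_interior_iff_mem_nhds.mpr hN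
  haveI : NoetherianSpace (interior N) := by
    rw [noetherianSpace_set_iff] at hNoeth ⊢
    intro t ht
    exact hNoeth t (ht.trans interior_subset)
  have hU₀ : (Subtype.val ⁻¹' U : Set (interior N)) ∈ 𝓝 (⟨x, hxW⟩ : interior N) :=
    continuous_subtype_val.continuousAt.preimage_mem_nhds hU
  obtain ⟨V₀, hV₀, hV₀c, hV₀U⟩ := exists_preconnected_nhds (⟨x, hxW⟩ : interior N) _ hU₀
  refine ⟨Subtype.val '' V₀, ?_, hV₀c.image _ continuous_subtype_val.continuousOn, ?_⟩
  · exact (hWo.isOpenEmbedding_subtypeVal.image_mem_nhds (x := ⟨x, hxW⟩)).mpr hV₀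
  · rintro _ ⟨t, ht, rfl⟩
    exact hV₀U ht

end Groth.Agent.Lib.NoethLocConnH7
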