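import Mathlib
import Groth.Prelude
import Groth.Agent.Lib.Hartogs_helper5
import Groth.Agent.Lib.WeakAssSch3_helper4
import Groth.Agent.Lib.SerreCrit1_helper9

/-!
# Hartogs extension for the structure sheaf, and extension of morphisms to affine targets (helper5)
-/

universe u

open CategoryTheory IsLocalRing AlgebraicGeometry TopologicalSpace Opposite

namespace Groth.Agent.HartogsRing

open QcqsLoc Groth.Agent.DepthLib

variable {X : Scheme.{u}}

/-- the stalk of the structure module has the same depth as the local ring -/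
theorem depth_structureModule_stalk (x : X) :
    LocCoh.depth (X.presheaf.stalk x) ((Coh.structureModule X).presheaf.stalk x) =
      LocCoh.depth (X.presheaf.stalk x) (X.presheaf.stalk x) := by
  obtain ⟨_, ⟨W, hW : IsAffineOpen W, rfl⟩, hxW, -⟩ :=
    (X.isBasis_affineOpens).exists_subset_of_mem_open (Set.mem_univ x) isOpen_univ
  have hx : x ∈ W := hxW
  haveI : (Coh.structureModule X).IsQuasicoherent := SerreCrit.isQuasicoherent_OO
  letI := TopCat.Presheaf.algebra_section_stalk X.presheaf (⟨x, hx⟩ : W)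
  haveI : IsLocalization.AtPrime (X.presheaf.stalk x) (hW.primeIdealOf ⟨x, hx⟩).asIdeal :=
    hW.isLocalization_stalk ⟨x, hx⟩
  letI modF : Module Γ(X, W) ((Coh.structureModule X).presheaf.stalk x) :=
    StalkLocH8.modSec (Coh.structureModule X) hx
  haveI : IsScalarTower Γ(X, W) (X.presheaf.stalk x)
      ((Coh.structureModule X).presheaf.stalk x) :=
    IsScalarTower.of_algebraMap_smul (fun _ _ => rfl)
  haveI hloc := StalkLocH8.isLocalizedModule_germLin (Coh.structureModule X) hW hx
  set S := (hW.primeIdealOf ⟨x, hx⟩).asIdeal.primeCompl with hS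
  let e := Groth.Agent.Lib.WeakAssSch3_helper4.structureEquiv (X := X) W
  let g : Γ(X, W) →ₗ[Γ(X, W)] ((Coh.structureModule X).presheaf.stalk x) :=
    (StalkLocH8.germLin (Coh.structureModule X) hx) ∘ₗ e.symm.toLinearMap
  haveI : IsLocalizedModule S g :=
    IsLocalizedModule.of_linearEquiv_right S (StalkLocH8.germLin (Coh.structureModule X) hx) e.symm
  let eA : (X.presheaf.stalk x) ≃ₗ[Γ(X, W)] ((Coh.structureModule X).presheaf.stalk x) :=
    IsLocalizedModule.linearEquiv S (Algebra.linearMap Γ(X, W) (X.presheaf.stalk x)) g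
  let eB : (X.presheaf.stalk x) ≃ₗ[X.presheaf.stalk x]
      ((Coh.structureModule X).presheaf.stalk x) :=
    LinearEquiv.extendScalarsOfIsLocalization S (X.presheaf.stalk x) eA
  unfold LocCoh.depth
  exact (idealDepth_congr _ _ eB).symm

variable [IsLocallyNoetherian X]

/-- the structure module is of finite type -/
theorem isFiniteType_structureModule :
    SheafOfModules.IsFiniteType (R := X.ringCatSheaf) (Coh.structureModule X) := by
  haveI : (Coh.structureModule X).IsQuasicoherent := SerreCrit.isQuasicoherent_OO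
  exact QCohCrit.isFiniteType_of_sections_cover _ (fun U : X.affineOpens => (U : X.Opens))
    (fun U => U.2) (iSup_affineOpens_eq_top X)
    (fun U => inferInstanceAs (Module.Finite Γ(X, (U : X.Opens)) Γ(X, (U : X.Opens))))

/-- Hartogs for the structure sheaf: restriction `Γ(X, V) → Γ(X, U')` is bijective when the local
rings outside `U'` have depth ≥ 2 -/
theorem bijective_res (U' : X.Opens)
    (hU : ∀ x : X, x ∉ U' → (2 : ℕ∞) ≤ LocCoh.depth (X.presheaf.stalk x) (X.presheaf.stalk x))
    (V : X.Opens) (hUV : U' ≤ V) :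
    Function.Bijective (X.presheaf.map (homOfLE hUV).op) := by
  haveI : (Coh.structureModule X).IsQuasicoherent := SerreCrit.isQuasicoherent_OO
  haveI := isFiniteType_structureModule (X := X)
  have hd : ∀ x : X, x ∉ U' → (2 : ℕ∞) ≤
      LocCoh.depth (X.presheaf.stalk x) ((Coh.structureModule X).presheaf.stalk x) := by
    intro x hx
    rw [depth_structureModule_stalk]
    exact hU x hx
  have hinj := Groth.Agent.Hartogs.inj (Coh.structureModule X) U' hd V
  have hsurj := Groth.Agent.Hartogs.surj (Coh.structureModule X) U' hd V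
  have hle1 : V ⊓ U' ≤ U' := inf_le_right
  have hle2 : U' ≤ V ⊓ U' := le_inf hUV le_rfl
  -- restriction on the structure module is restriction of functions
  have hres : ∀ {A B : X.Opens} (h : A ≤ B) (a : Γ(X, B)),
      rF (Coh.structureModule X) h (a : Γ(Coh.structureModule X, B)) = rX h a := fun _ _ => rfl
  constructor
  · intro a b hab
    have hab' : rX hUV a = rX hUV b := hab
    have h0 : rF (Coh.structureModule X) (inf_le_left : V ⊓ U' ≤ V)
        ((a - b : Γ(X, V)) : Γ(Coh.structureModule X, V)) = 0 := by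
      rw [hres]
      have : rX (inf_le_left : V ⊓ U' ≤ V) (a - b) = rX hle1 (rX hUV (a - b)) := by
        rw [rX_rX]
      rw [this, map_sub, hab', sub_self, map_zero]
      rfl
    have := hinj _ h0
    exact sub_eq_zero.mp this
  · intro b
    obtain ⟨a, ha⟩ := hsurj ((rX hle1 b : Γ(X, V ⊓ U')) : Γ(Coh.structureModule X, V ⊓ U'))
    refine ⟨(a : Γ(X, V)), ?_⟩
    have ha' : rX (inf_le_left : V ⊓ U' ≤ V) (a : Γ(X, V)) = rX hle1 b := ha
    have h1 := congrArg (rX hle2) ha'
    rw [rX_rX, rX_rX] at h1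
    have h2 : rX (hle2.trans hle1) b = b := by
      have : (homOfLE (hle2.trans hle1)).op = 𝟙 (op U') := Subsingleton.elim _ _
      show (X.presheaf.map (homOfLE (hle2.trans hle1)).op).hom b = b
      rw [this, X.presheaf.map_id]
      rfl
    rw [h2] at h1
    exact h1

/-- extension of morphisms to an affine target -/
theorem extend_affine (Y : Scheme.{u}) [IsAffine Y] (U : X.Opens)
    (hU : ∀ x : X, x ∉ U → (2 : ℕ∞) ≤ LocCoh.depth (X.presheaf.stalk x) (X.presheaf.stalk x))
    (f : (U : Scheme.{u}) ⟶ Y) : ∃! g : X ⟶ Y, U.ι ≫ g = f := by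
  have hU' : ∀ x : X, x ∉ U.ι ''ᵁ ⊤ →
      (2 : ℕ∞) ≤ LocCoh.depth (X.presheaf.stalk x) (X.presheaf.stalk x) := by
    intro x hx
    apply hU x
    rwa [Scheme.Opens.ι_image_top] at hx
  have hbij := bijective_res (U.ι ''ᵁ ⊤) hU' ⊤ le_top
  haveI hr : IsIso U.ι.appTop := by
    rw [Scheme.Opens.ι_appTop]
    exact (ConcreteCategory.isIso_iff_bijective _).mpr hbij
  let φ : Γ(Y, ⊤) ⟶ Γ(X, ⊤) := f.appTop ≫ inv U.ι.appTop
  have hφ : φ ≫ U.ι.appTop = f.appTop := by
    simp only [φ, Category.assoc, IsIso.inv_hom_id, Category.comp_id]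
  have hg : U.ι ≫ (X.toSpecΓ ≫ Spec.map φ ≫ inv Y.toSpecΓ) = f := by
    rw [← cancel_mono Y.toSpecΓ]
    simp only [Category.assoc, IsIso.inv_hom_id, Category.comp_id]
    rw [← Category.assoc, Scheme.toSpecΓ_naturality, Category.assoc, ← Spec.map_comp, hφ,
      Scheme.toSpecΓ_naturality]
  refine ⟨X.toSpecΓ ≫ Spec.map φ ≫ inv Y.toSpecΓ, hg, ?_⟩
  intro g' hg'
  apply ext_of_isAffine
  have h1 : (U.ι ≫ g').appTop = (U.ι ≫ (X.toSpecΓ ≫ Spec.map φ ≫ inv Y.toSpecΓ)).appTop := by
    rw [hg', hg]
  rw [Scheme.Hom.comp_appTop, Scheme.Hom.comp_appTop] at h1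
  exact (cancel_mono U.ι.appTop).mp h1

end Groth.Agent.HartogsRing
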