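import Mathlib
import Groth.Prelude
import Groth.Agent.Lib.HartogsRing_helper5
import Groth.Agent.Lib.FlatCM_helper9
import Groth.Agent.Lib.SerreNormal_helper5

set_option autoImplicit false
set_option linter.unusedVariables false
set_option linter.unusedTactic false
set_option linter.unreachableTactic false
set_option linter.unusedSectionVars false
set_option linter.style.haveILetI false
set_option maxHeartbeats 800000
set_option backward.isDefEq.respectTransparency false

universe u

open CategoryTheory AlgebraicGeometry Opposite IsLocalRing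

namespace Groth.Agent.Lib.ArtNormHartogsH4

variable (C : Type u) [CommRing C] [IsLocalRing C] [IsArtinianRing C]
  (A : Type u) [CommRing A] [IsNoetherianRing A] [Algebra C A]

/-- the fibre local ring at `P` is a normal domain when the special fibre is a normal scheme -/
theorem fib_normal
    (hnorm : Pi1.IsNormalScheme (Spec (CommRingCat.of (A ⧸ (maximalIdeal C).map (algebraMap C A)))))
    (P : Ideal A) [P.IsPrime] :
    IsDomain (EGA4.FibLocRing C A P) ∧ IsIntegrallyClosed (EGA4.FibLocRing C A P) := by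
  have hp₀ : P.comap (algebraMap C A) = maximalIdeal C :=
    IsLocalRing.eq_maximalIdeal (IsArtinianRing.isMaximal_of_isPrime _)
  obtain ⟨I, hI⟩ : ∃ I : Ideal A, I = (maximalIdeal C).map (algebraMap C A) := ⟨_, rfl⟩
  rw [← hI] at hnorm
  have hIP : I ≤ P := by
    rw [hI, Ideal.map_le_iff_le_comap]
    exact hp₀.ge
  have hmap : (P.comap (algebraMap C A)).map (algebraMap C (Localization.AtPrime P)) =
      I.map (algebraMap A (Localization.AtPrime P)) := by
    rw [hp₀, hI, Ideal.map_map, ← IsScalarTower.algebraMap_eq]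
  obtain ⟨e₁⟩ : Nonempty (EGA4.FibLocRing C A P ≃+*
      (Localization.AtPrime P ⧸ I.map (algebraMap A (Localization.AtPrime P)))) :=
    ⟨Ideal.quotEquivOfEq hmap⟩
  haveI hPbar : (P.map (Ideal.Quotient.mk I)).IsPrime :=
    Ideal.map_isPrime_of_surjective Ideal.Quotient.mk_surjective
      (by rw [Ideal.mk_ker]; exact hIP)
  obtain ⟨z, hz⟩ : ∃ z : PrimeSpectrum (A ⧸ I), z.asIdeal = P.map (Ideal.Quotient.mk I) :=
    ⟨⟨P.map (Ideal.Quotient.mk I), hPbar⟩, rfl⟩
  have hsub : Algebra.algebraMapSubmonoid (A ⧸ I) P.primeCompl = z.asIdeal.primeCompl := by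
    ext y
    constructor
    · rintro ⟨x, hx, rfl⟩
      show (algebraMap A (A ⧸ I)) x ∉ z.asIdeal
      rw [hz]
      intro hmem
      exact hx ((Ideal.mem_quotient_iff_mem hIP).mp hmem)
    · intro hy
      have hy' : y ∉ z.asIdeal := hy
      rw [hz] at hy'
      obtain ⟨a, rfl⟩ := Ideal.Quotient.mk_surjective y
      exact ⟨a, fun ha => hy' ((Ideal.mem_quotient_iff_mem hIP).mpr ha), rfl⟩
  haveI hloc : IsLocalization.AtPrime
      (Localization.AtPrime P ⧸ I.map (algebraMap A (Localization.AtPrime P))) z.asIdeal := by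
    have h : IsLocalization (Algebra.algebraMapSubmonoid (A ⧸ I) P.primeCompl)
        (Localization.AtPrime P ⧸ I.map (algebraMap A (Localization.AtPrime P))) := inferInstance
    rw [hsub] at h
    exact h
  obtain ⟨hdom, hic⟩ := hnorm z
  letI : Algebra (A ⧸ I) ↑((Spec (CommRingCat.of (A ⧸ I))).presheaf.stalk z) :=
    StructureSheaf.stalkAlgebra (A ⧸ I) z
  haveI : IsLocalization.AtPrime (↑((Spec (CommRingCat.of (A ⧸ I))).presheaf.stalk z)) z.asIdeal :=
    StructureSheaf.IsLocalization.to_stalk (A ⧸ I) z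
  obtain ⟨e₂⟩ : Nonempty ((Localization.AtPrime P ⧸ I.map (algebraMap A (Localization.AtPrime P)))
      ≃+* ↑((Spec (CommRingCat.of (A ⧸ I))).presheaf.stalk z)) :=
    ⟨(IsLocalization.algEquiv z.asIdeal.primeCompl _ _).toRingEquiv⟩
  haveI := hdom
  haveI := hic
  haveI hdomB : IsDomain (Localization.AtPrime P ⧸ I.map (algebraMap A (Localization.AtPrime P))) :=
    e₂.toMulEquiv.isDomain _
  haveI hicB : IsIntegrallyClosed
      (Localization.AtPrime P ⧸ I.map (algebraMap A (Localization.AtPrime P))) :=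
    IsIntegrallyClosed.of_equiv e₂.symm
  exact ⟨e₁.toMulEquiv.isDomain _, IsIntegrallyClosed.of_equiv e₁.symm⟩

theorem two_le_depth_loc [Module.Flat C A]
    (hnorm : Pi1.IsNormalScheme (Spec (CommRingCat.of (A ⧸ (maximalIdeal C).map (algebraMap C A)))))
    (P : Ideal A) [P.IsPrime] (hP : (2 : ℕ∞) ≤ P.height) :
    (2 : ℕ∞) ≤ LocCoh.depth (Localization.AtPrime P) (Localization.AtPrime P) := by
  obtain ⟨hdepth, hdim⟩ := Groth.Agent.FlatCM.depth_dim_localization_eq_add C A P
  obtain ⟨hdom, hic⟩ := fib_normal C A hnorm P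
  haveI := hdom
  haveI := hic
  haveI : IsNoetherianRing (Localization.AtPrime P) :=
    IsLocalization.isNoetherianRing P.primeCompl _ inferInstance
  have hC0 : ringKrullDim C ≤ 0 := by
    have h : Ring.KrullDimLE 0 C := inferInstance
    exact_mod_cast Ring.krullDimLE_iff.mp h
  have hh : ((P.comap (algebraMap C A)).height : WithBot ℕ∞) ≤ 0 :=
    (Ideal.height_le_ringKrullDim_of_ne_top (Ideal.IsPrime.ne_top inferInstance)).trans hC0
  have hh0 : (P.comap (algebraMap C A)).height = 0 := by
    have h : (P.comap (algebraMap C A)).height ≤ 0 := by exact_mod_cast hh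
    exact le_antisymm h bot_le
  have h0 : ringKrullDim (Localization.AtPrime (P.comap (algebraMap C A))) = 0 := by
    rw [IsLocalization.AtPrime.ringKrullDim_eq_height (P.comap (algebraMap C A)), hh0]
    rfl
  have hA : ringKrullDim (Localization.AtPrime P) = (P.height : WithBot ℕ∞) :=
    IsLocalization.AtPrime.ringKrullDim_eq_height P _
  rw [h0, zero_add, hA] at hdim
  have hmin := Groth.Agent.SerreLib.min_two_dim_le_depth (EGA4.FibLocRing C A P)
  rw [← hdim] at hmin
  have h2 : (2 : WithBot ℕ∞) ≤ (P.height : WithBot ℕ∞) := by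
    have h := WithBot.coe_le_coe.mpr hP
    rwa [WithBot.coe_ofNat] at h
  rw [min_eq_left h2] at hmin
  have h3 : (2 : ℕ∞) ≤ LocCoh.depth (EGA4.FibLocRing C A P) (EGA4.FibLocRing C A P) := by
    have h : ((2 : ℕ∞) : WithBot ℕ∞) ≤
        ((LocCoh.depth (EGA4.FibLocRing C A P) (EGA4.FibLocRing C A P) : ℕ∞) : WithBot ℕ∞) := by
      rw [WithBot.coe_ofNat]; exact hmin
    exact WithBot.coe_le_coe.mp h
  rw [hdepth]
  exact h3.trans le_add_self

theorem main [Module.Flat C A]
    (hnorm : Pi1.IsNormalScheme (Spec (CommRingCat.of (A ⧸ (IsLocalRing.maximalIdeal C).map (algebraMap C A)))))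
    (U : (Spec (CommRingCat.of A)).Opens)
    (hU : ∀ p : ↥(Spec (CommRingCat.of A)), p ∉ U → (2 : ℕ∞) ≤ p.asIdeal.height) :
    Function.Bijective ((Spec (CommRingCat.of A)).presheaf.map (homOfLE (le_top : U ≤ ⊤)).op) := by
  apply Groth.Agent.HartogsRing.bijective_res U ?_ ⊤ le_top
  intro x hx
  have hht := hU x hx
  letI : Algebra A ↑((Spec (CommRingCat.of A)).presheaf.stalk x) := StructureSheaf.stalkAlgebra A x
  haveI : IsLocalization.AtPrime (↑((Spec (CommRingCat.of A)).presheaf.stalk x)) x.asIdeal :=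
    StructureSheaf.IsLocalization.to_stalk A x
  obtain ⟨e⟩ : Nonempty (↑((Spec (CommRingCat.of A)).presheaf.stalk x) ≃+*
      Localization.AtPrime x.asIdeal) :=
    ⟨(IsLocalization.algEquiv x.asIdeal.primeCompl _ _).toRingEquiv⟩
  haveI : IsNoetherianRing (Localization.AtPrime x.asIdeal) :=
    IsLocalization.isNoetherianRing x.asIdeal.primeCompl _ inferInstance
  rw [Groth.Agent.FlatCM.depth_ringEquiv e]
  exact two_le_depth_loc C A hnorm x.asIdeal hht

end Groth.Agent.Lib.ArtNormHartogsH4
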