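import Groth.Agent.Lib.RegPS_helper3
import Groth.Agent.Lib.CohenStruct_helper3
import Groth.Agent.Lib.CohenLift3_helper3
import Groth.Agent.S4511

/-!
# Artinian local rings with `𝔪² = 0` are regular local rings modulo `𝔫²` (EGA 0_IV 19.?)
-/

set_option autoImplicit false
set_option maxSynthPendingDepth 3

namespace Groth.Agent.Lib.ArtSqZeroH3

universe u

open IsLocalRing MvPowerSeries EGA41

theorem isAdicComplete_of_pow_eq_bot {A : Type*} [CommRing A] (J : Ideal A) (n : ℕ)
    (h : J ^ n = ⊥) : IsAdicComplete J A := by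
  refine { haus' := fun x hx => ?_, prec' := fun f hf => ⟨f n, fun k => ?_⟩ }
  · have h1 := hx n
    rw [h, Submodule.bot_smul, SModEq.bot] at h1
    exact h1
  · rcases le_total k n with hkn | hnk
    · exact hf hkn
    · have h1 := hf hnk
      rw [h, Submodule.bot_smul, SModEq.bot] at h1
      rw [h1]

theorem exists_basis_fin_succ {K V : Type*} [Field K] [AddCommGroup V] [Module K V]
    [FiniteDimensional K V] (v₀ : V) (hv : v₀ ≠ 0) :
    ∃ (r : ℕ) (b : Module.Basis (Fin (r + 1)) K V), b 0 = v₀ := by
  classical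
  have hs : LinearIndepOn K id ({v₀} : Set V) := LinearIndepOn.singleton (fun h => hv h)
  let b₀ := Module.Basis.extend hs
  haveI : Fintype ↥(hs.extend (Set.subset_univ _)) := FiniteDimensional.fintypeBasisIndex b₀
  let i₀ : ↥(hs.extend (Set.subset_univ _)) :=
    ⟨v₀, Module.Basis.subset_extend hs (Set.mem_singleton v₀)⟩
  have hcard : 0 < Fintype.card ↥(hs.extend (Set.subset_univ _)) := Fintype.card_pos_iff.2 ⟨i₀⟩
  obtain ⟨r, hr⟩ : ∃ r, Fintype.card ↥(hs.extend (Set.subset_univ _)) = r + 1 :=
    ⟨_, (Nat.succ_pred_eq_of_pos hcard).symm⟩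
  let e₀ : ↥(hs.extend (Set.subset_univ _)) ≃ Fin (r + 1) :=
    (Fintype.equivFin _).trans (finCongr hr)
  let e : ↥(hs.extend (Set.subset_univ _)) ≃ Fin (r + 1) := e₀.trans (Equiv.swap (e₀ i₀) 0)
  refine ⟨r, b₀.reindex e, ?_⟩
  have he : e i₀ = 0 := by
    show Equiv.swap (e₀ i₀) 0 (e₀ i₀) = 0
    exact Equiv.swap_apply_left _ _
  rw [Module.Basis.reindex_apply, ← he, Equiv.symm_apply_apply]
  exact Module.Basis.extend_apply_self hs i₀

theorem nonempty_equiv_of_ker {A B : Type*} [CommRing A] [CommRing B] [IsLocalRing B]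
    (f : B →+* A) (hf : Function.Surjective f) (hker : RingHom.ker f = maximalIdeal B ^ 2) :
    Nonempty (A ≃+* B ⧸ maximalIdeal B ^ 2) :=
  ⟨((Ideal.quotEquivOfEq hker).symm.trans (RingHom.quotientKerEquivOfSurjective hf)).symm⟩

theorem sq_le_ker {A B : Type*} [CommRing A] [CommRing B] [IsLocalRing A] [IsLocalRing B]
    (h : maximalIdeal A ^ 2 = ⊥) (f : B →+* A) [IsLocalHom f] :
    maximalIdeal B ^ 2 ≤ RingHom.ker f := by
  have hloc : ∀ g ∈ maximalIdeal B, f g ∈ maximalIdeal A := by
    intro g hg
    rw [mem_maximalIdeal, mem_nonunits_iff] at hg ⊢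
    exact fun hu => hg (isUnit_of_map_unit f g hu)
  rw [sq, Ideal.mul_le]
  intro a ha b hb
  rw [RingHom.mem_ker, map_mul]
  have : f a * f b ∈ maximalIdeal A ^ 2 := by
    rw [sq]
    exact Ideal.mul_mem_mul (hloc a ha) (hloc b hb)
  rwa [h] at this

/-- **EGA 0_IV**: an Artinian local ring with `𝔪² = 0` is `B/𝔫²` for a regular local ring `B`. -/
theorem exists_regular_quot (A : Type u) [CommRing A] [IsLocalRing A] [IsArtinianRing A]
    (h : maximalIdeal A ^ 2 = ⊥) :
    ∃ (B : Type u) (_ : CommRing B) (_ : IsRegularLocalRing B),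
      Nonempty (A ≃+* B ⧸ IsLocalRing.maximalIdeal B ^ 2) := by
  classical
  haveI : IsAdicComplete (maximalIdeal A) A := isAdicComplete_of_pow_eq_bot _ 2 h
  obtain ⟨p, hp⟩ := CharP.exists (ResidueField A)
  by_cases hp0 : (p : A) = 0
  · -- equal characteristic
    obtain ⟨K, _, n, f, hf, hker⟩ := (Groth.Agent.S4511.result A p).2 hp0
    haveI : IsRegularLocalRing (MvPowerSeries (Fin n) K) :=
      Groth.Agent.Lib.RegPSH3.isRegularLocalRing_mvPowerSeries K n
    haveI : IsLocalHom f := IsLocalHom.of_surjective f hf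
    exact ⟨MvPowerSeries (Fin n) K, inferInstance, inferInstance,
      nonempty_equiv_of_ker f hf (le_antisymm hker (sq_le_ker h f))⟩
  · -- mixed characteristic
    have hpp : p.Prime := by
      rcases CharP.char_is_prime_or_zero (ResidueField A) p with hpp | rfl
      · exact hpp
      · exact absurd Nat.cast_zero hp0
    haveI : Fact p.Prime := ⟨hpp⟩
    obtain ⟨W, _, _, hW, ⟨e⟩⟩ := Groth.Agent.Lib.CohenRingH3.exists_cohenRing p (ResidueField A)
    obtain ⟨hdom, hdvr, -, -⟩ := id hW
    haveI : CharP (ResidueField W) p :=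
      RingHom.charP (e : ResidueField W →+* ResidueField A) e.injective p
    obtain ⟨-, hcompW, hmW, -⟩ := Groth.Agent.Lib.CohenLiftH3.cohen_basic (Or.inr hW) p
    haveI : IsAdicComplete (maximalIdeal W) W := hcompW
    let u : W →+* A ⧸ maximalIdeal A := (e : ResidueField W →+* ResidueField A).comp (residue W)
    haveI : IsLocalHom u := ⟨fun a ha => by
      by_contra hna
      have h1 : residue W a = 0 := (residue_eq_zero_iff a).2 ((mem_maximalIdeal a).2 hna)
      have h2 : u a = 0 := by
        show e (residue W a) = 0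
        rw [h1, map_zero]
      rw [h2] at ha
      haveI : Nontrivial (A ⧸ maximalIdeal A) :=
        Ideal.Quotient.nontrivial_iff.2 (maximalIdeal.isMaximal A).ne_top
      exact not_isUnit_zero ha⟩
    obtain ⟨v, hv⟩ := Groth.Agent.Lib.CohenStructH3.exists_lift_residue (Or.inr hW) u
    have hvu : ∀ a, residue A (v a) = e (residue W a) := fun a => RingHom.congr_fun hv a
    letI : Algebra W A := v.toAlgebra
    have hφ : Function.Surjective ((residue A).comp (algebraMap W A)) := fun y => by
      obtain ⟨z, hz⟩ := e.surjective y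
      obtain ⟨a, rfl⟩ := residue_surjective z
      exact ⟨a, (hvu a).trans hz⟩
    have hloc : ∀ a ∈ maximalIdeal W, algebraMap W A a ∈ maximalIdeal A := fun a ha => by
      rw [← residue_eq_zero_iff]
      show residue A (v a) = 0
      rw [hvu, (residue_eq_zero_iff a).2 ha, map_zero]
    have hpm : (p : A) ∈ maximalIdeal A := by
      rw [← residue_eq_zero_iff, map_natCast]
      exact CharP.cast_eq_zero _ p
    have hv₀ : (maximalIdeal A).toCotangent ⟨(p : A), hpm⟩ ≠ 0 := by
      intro h0
      rw [Ideal.toCotangent_eq_zero, h, Ideal.mem_bot] at h0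
      exact hp0 h0
    obtain ⟨r, b, hb0⟩ := exists_basis_fin_succ (K := ResidueField A)
      ((maximalIdeal A).toCotangent ⟨(p : A), hpm⟩) hv₀
    have hxs : ∀ i : Fin r, ∃ x : maximalIdeal A, (maximalIdeal A).toCotangent x = b i.succ :=
      fun i => Ideal.toCotangent_surjective _ _
    choose xs hxs using hxs
    let x' : Fin (r + 1) → maximalIdeal A := Fin.cons ⟨(p : A), hpm⟩ xs
    have hx' : ∀ j, (maximalIdeal A).toCotangent (x' j) = b j := by
      intro j
      refine Fin.cases ?_ (fun i => ?_) j
      · exact hb0.symm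
      · exact hxs i
    obtain ⟨ψ, hψX⟩ := Groth.Agent.Lib.RegPSH3.exists_algHom_X (Λ := W) r
      (fun i => (xs i : A)) (fun i => (xs i).2)
    -- generators of the maximal ideal of `W[[T]]`
    let gens : Fin (r + 1) → MvPowerSeries (Fin r) W :=
      Fin.cons ((p : ℕ) : MvPowerSeries (Fin r) W) X
    have hgens_mem : ∀ j, gens j ∈ maximalIdeal (MvPowerSeries (Fin r) W) := by
      intro j
      refine Fin.cases ?_ (fun i => ?_) j
      · show ((p : ℕ) : MvPowerSeries (Fin r) W) ∈ _
        rw [Groth.Agent.Lib.PSCompleteH1.mem_maximalIdeal_iff, map_natCast, hmW]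
        exact Ideal.subset_span (Set.mem_singleton _)
      · show (X i : MvPowerSeries (Fin r) W) ∈ _
        rw [Groth.Agent.Lib.PSCompleteH1.mem_maximalIdeal_iff, constantCoeff_X]
        exact Ideal.zero_mem _
    have hψgens : ∀ j, ψ (gens j) = (x' j : A) := by
      intro j
      refine Fin.cases ?_ (fun i => ?_) j
      · show ψ ((p : ℕ) : MvPowerSeries (Fin r) W) = (p : A)
        exact map_natCast ψ p
      · show ψ (X i) = (xs i : A)
        exact hψX i
    have hspan_gens : maximalIdeal (MvPowerSeries (Fin r) W) = Ideal.span (Set.range gens) := by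
      rw [Groth.Agent.Lib.RegPSH3.maximalIdeal_eq, hmW, Ideal.map_span, Set.image_singleton,
        ← Ideal.span_union]
      congr 1
      ext g
      simp only [Set.mem_union, Set.mem_singleton_iff, Set.mem_range, gens]
      constructor
      · rintro (rfl | ⟨i, rfl⟩)
        · exact ⟨0, by simp⟩
        · exact ⟨i.succ, by simp⟩
      · rintro ⟨j, rfl⟩
        refine Fin.cases ?_ (fun i => ?_) j
        · left
          simp
        · right
          exact ⟨i, by simp⟩
    -- `𝔪_A` is generated by the `x'`
    have hspanA : Submodule.span A (Set.range x') = ⊤ := by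
      rw [← CotangentSpace.span_image_eq_top_iff, ← Set.range_comp]
      have : (⇑(maximalIdeal A).toCotangent ∘ x') = ⇑b := funext hx'
      rw [this]
      exact b.span_eq
    have hge : maximalIdeal A ≤
        (maximalIdeal (MvPowerSeries (Fin r) W)).map ψ.toRingHom := by
      intro y hy
      have h1 : (⟨y, hy⟩ : maximalIdeal A) ∈ Submodule.span A (Set.range x') := by
        rw [hspanA]
        trivial
      have h2 : ∀ z : maximalIdeal A, z ∈ Submodule.span A (Set.range x') →
          (z : A) ∈ (maximalIdeal (MvPowerSeries (Fin r) W)).map ψ.toRingHom := by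
        intro z hz
        induction hz using Submodule.span_induction with
        | mem z hz =>
          obtain ⟨j, rfl⟩ := hz
          rw [← hψgens j]
          exact Ideal.mem_map_of_mem _ (hgens_mem j)
        | zero => exact Ideal.zero_mem _
        | add z w _ _ hz hw => exact Ideal.add_mem _ hz hw
        | smul a z _ hz => exact Ideal.mul_mem_left _ a hz
      exact h2 _ h1
    have hsurj : Function.Surjective ψ :=
      Groth.Agent.Lib.RegPSH3.surjective_of_le_map r ψ hge
        (fun i => by rw [hψX]; exact (xs i).2) hφ hloc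
    haveI : IsLocalHom ψ.toRingHom := IsLocalHom.of_surjective ψ.toRingHom hsurj
    have hkerle : RingHom.ker ψ.toRingHom ≤ maximalIdeal (MvPowerSeries (Fin r) W) ^ 2 := by
      intro g hg
      rw [RingHom.mem_ker] at hg
      have hgn : g ∈ maximalIdeal (MvPowerSeries (Fin r) W) := by
        rw [mem_maximalIdeal, mem_nonunits_iff]
        intro hu
        have := hu.map ψ.toRingHom
        rw [hg] at this
        exact not_isUnit_zero this
      rw [hspan_gens] at hgn
      obtain ⟨c, hc⟩ := (Ideal.mem_span_range_iff_exists_fun).1 hgn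
      have hsum : ∑ j, ψ (c j) • x' j = 0 := by
        apply Subtype.ext
        rw [Submodule.coe_sum, Submodule.coe_zero]
        have : (ψ.toRingHom g : A) = ∑ j, ψ (c j) * (x' j : A) := by
          rw [← hc, map_sum]
          refine Finset.sum_congr rfl fun j _ => ?_
          rw [map_mul]
          show ψ (c j) * ψ (gens j) = _
          rw [hψgens]
        rw [hg] at this
        rw [this]
        rfl
      have hsum' : ∑ j, residue A (ψ (c j)) • b j = 0 := by
        have := congrArg (maximalIdeal A).toCotangent hsum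
        rw [map_sum, map_zero] at this
        rw [← this]
        refine Finset.sum_congr rfl fun j _ => ?_
        rw [map_smul, hx']
        exact (IsScalarTower.algebraMap_smul (ResidueField A) (ψ (c j)) (b j))
      have hcj : ∀ j, c j ∈ maximalIdeal (MvPowerSeries (Fin r) W) := by
        intro j
        have h0 := Fintype.linearIndependent_iff.1 b.linearIndependent _ hsum' j
        have h1 : ψ.toRingHom (c j) ∈ maximalIdeal A := (residue_eq_zero_iff _).1 h0
        rw [mem_maximalIdeal, mem_nonunits_iff] at h1 ⊢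
        exact fun hu => h1 (hu.map _)
      rw [← hc, sq]
      exact Ideal.sum_mem _ fun j _ => Ideal.mul_mem_mul (hcj j) (hgens_mem j)
    haveI : IsDomain W := hdom
    haveI : IsDiscreteValuationRing W := hdvr
    haveI : IsRegularLocalRing (MvPowerSeries (Fin r) W) :=
      Groth.Agent.Lib.RegPSH3.isRegularLocalRing_mvPowerSeries W r
    exact ⟨MvPowerSeries (Fin r) W, inferInstance, inferInstance,
      nonempty_equiv_of_ker ψ.toRingHom hsurj (le_antisymm hkerle (sq_le_ker h ψ.toRingHom))⟩

end Groth.Agent.Lib.ArtSqZeroH3
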