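import Groth.Agent.Lib.EtCharts_helper7
import Mathlib.AlgebraicGeometry.Artinian
import Mathlib.AlgebraicGeometry.Morphisms.QuasiFinite

/-!
# Morphisms from the spectrum of an Artinian ring to a quasi-separated algebraic space are affine
(helper7)
-/

set_option autoImplicit false
universe u
open CategoryTheory CategoryTheory.Limits AlgebraicGeometry Opposite TopologicalSpace

namespace Groth.Agent.Lib.ArtinAffineH7

open AlgSp Groth.Agent.Lib.AlgSpPoints_helper7 Groth.Agent.Lib.AlgSpTop_helper7
  Groth.Agent.Lib.AlgSpPullback_helper7 Groth.Agent.Lib.AlgSpBasic_helper7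
  Groth.Agent.Lib.AlgSpEtale_helper7
  Groth.Agent.Lib.AlgSpFpqc3_helper7 Groth.Agent.Lib.AlgSpFpqc_helper7
  Groth.Agent.Lib.AlgSpQC_helper7 Groth.Agent.Lib.AlgSpQC2_helper7
  Groth.Agent.Lib.AffDescH7 Groth.Agent.Lib.EtChartsH7

variable {S : Scheme.{u}}

theorem isAffineMor_from_spec_artinian [QuasiSeparatedSpace ↥S] {X : Sp S} (hXa : IsAlgSpace X)
    (hX : IsQuasiSeparatedSp X) (A : Type u) [CommRing A] [IsArtinianRing A]
    (str : Spec (CommRingCat.of A) ⟶ S) (a : (yon S).obj (Over.mk str) ⟶ X) : IsAffineMor a := by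
  haveI : CompactSpace ↥(Over.mk str).left :=
    (inferInstance : CompactSpace ↥(Spec (CommRingCat.of A)))
  have hqc : IsQuasiCompactMor a :=
    isQuasiCompactMor_of_isQuasiCompactSp_of_isQuasiSeparatedSp (IsAlgSpace.yon_obj _) a
      (isQuasiCompactSp_yon _) hX
  refine isAffineMor_of_affine_etale_charts (IsAlgSpace.yon_obj _) hXa a
    (fun V hV b hbe P fst snd sq => ?_)
  haveI := hV
  have hPqc : IsQuasiCompactSp P :=
    hqc (IsAlgSpace.yon_obj V) (isQuasiCompactSp_yon V) b fst snd sq
  have sqW := hbe.rep.isPullback a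
  let e := sqW.isoIsPullback _ _ sq.flip
  haveI : Etale (hbe.rep.snd a).left := hbe.property_snd a
  haveI : CompactSpace ↥(hbe.rep.pullback a).left :=
    compactSpace_of_isQuasiCompactSp_yon _ (isQuasiCompactSp_of_iso e hPqc)
  refine ⟨hbe.rep.pullback a, ?_, ⟨e⟩⟩
  haveI : IsLocallyArtinian (Spec (CommRingCat.of A)) :=
    Scheme.isLocallyArtinianScheme_Spec.mpr inferInstance
  haveI : IsAffine (Over.mk str).left := (inferInstance : IsAffine (Spec (CommRingCat.of A)))
  haveI : LocallyQuasiFinite (hbe.rep.snd a).left := locallyQuasiFinite_of_unramified _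
  haveI : QuasiCompact (hbe.rep.snd a).left := (quasiCompact_iff_compactSpace _).2 inferInstance
  haveI : IsFinite (hbe.rep.snd a).left :=
    IsFinite.of_locallyQuasiFinite (Y := Spec (CommRingCat.of A)) (hbe.rep.snd a).left
  exact isAffine_of_isAffineHom (hbe.rep.snd a).left

end Groth.Agent.Lib.ArtinAffineH7
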