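import Mathlib
import Groth.Prelude.Def_Smoothing
import Groth.Prelude.Def_Found
import Groth.Agent.Lib.ArtinApx6_helper5

set_option autoImplicit false
set_option linter.style.haveILetI false
set_option linter.unusedVariables false
set_option linter.deprecated false
set_option maxHeartbeats 1600000

universe u

open TensorProduct IsLocalRing CategoryTheory Limits

namespace Groth.Agent.Lib.ArtinApxH5

/-- a `C`-algebra `C'` with `C/J^(k+1) ≅ C'/J^(k+1)C'` also has `C/J → C'/JC'` injective -/
theorem mem_of_algebraMap_mem_map {C C' : Type u} [CommRing C] [CommRing C'] [Algebra C C']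
    (J : Ideal C) (k : ℕ)
    (hbij : Function.Bijective
      (algebraMap (C ⧸ J ^ (k + 1)) (C' ⧸ (J ^ (k + 1)).map (algebraMap C C'))))
    (c : C) (hc : algebraMap C C' c ∈ J.map (algebraMap C C')) : c ∈ J := by
  let e : C ⧸ J ^ (k + 1) ≃+* C' ⧸ (J ^ (k + 1)).map (algebraMap C C') :=
    RingEquiv.ofBijective _ hbij
  have hle : J ^ (k + 1) ≤ J := Ideal.pow_le_self (Nat.succ_ne_zero k)
  let θ : C' →+* C ⧸ J :=
    ((Ideal.Quotient.factor hle).comp e.symm.toRingHom).comp
      (Ideal.Quotient.mk ((J ^ (k + 1)).map (algebraMap C C')))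
  have hθ : ∀ x : C, θ (algebraMap C C' x) = Ideal.Quotient.mk J x := by
    intro x
    show Ideal.Quotient.factor hle (e.symm (Ideal.Quotient.mk _ (algebraMap C C' x))) = _
    have : Ideal.Quotient.mk ((J ^ (k + 1)).map (algebraMap C C')) (algebraMap C C' x) =
        e (Ideal.Quotient.mk _ x) := rfl
    rw [this, e.symm_apply_apply, Ideal.Quotient.factor_mk]
  have hker : J.map (algebraMap C C') ≤ RingHom.ker θ := by
    rw [Ideal.map_le_iff_le_comap]
    intro j hj
    rw [Ideal.mem_comap, RingHom.mem_ker, hθ]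
    exact Ideal.Quotient.eq_zero_iff_mem.mpr hj
  have h1 := hker hc
  rw [RingHom.mem_ker, hθ] at h1
  exact Ideal.Quotient.eq_zero_iff_mem.mp h1

/-- **Approximation of maps of adic completions of finite type algebras over a G-ring**
(form of S8823). -/
theorem adic_approx (A : Type u) [CommRing A] (hA : CAlg.IsGRing A) (I : Ideal A)
    (B C : Type u) [CommRing B] [Algebra A B] [Algebra.FiniteType A B] [CommRing C]
    [Algebra A C] [Algebra.FiniteType A C]
    (φ : (AdicCompletion (I.map (algebraMap A B)) B) →ₐ[A]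
      (AdicCompletion (I.map (algebraMap A C)) C)) (N : ℕ) (hN : 1 ≤ N) :
    ∃ (C' : Type u) (_ : CommRing C') (_ : Algebra C C') (_ : Algebra A C')
      (_ : IsScalarTower A C C') (_ : Algebra.Etale C C') (ψ : B →ₐ[A] C'),
      ((∀ c' : C', ∃ c : C, algebraMap C C' c - c' ∈ I.map (algebraMap A C')) ∧
        ∀ c : C, algebraMap C C' c ∈ I.map (algebraMap A C') → c ∈ I.map (algebraMap A C)) ∧
      ∀ b : B, ∃ c : C, ψ b - algebraMap C C' c ∈ (I.map (algebraMap A C')) ^ N ∧
        AdicCompletion.eval (I.map (algebraMap A C)) C N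
          (φ (AdicCompletion.of (I.map (algebraMap A B)) B b)) = Submodule.Quotient.mk c := by
  classical
  obtain ⟨k, rfl⟩ : ∃ k, N = k + 1 := Nat.exists_eq_succ_of_ne_zero (by omega)
  haveI := hA.1
  have hGC : CAlg.IsGRing C := Groth.Agent.Lib.GRingPolyH3.main599 A hA C
  haveI := hGC.1
  have hreg : CAlg.IsRegularHom C (AdicCompletion (I.map (algebraMap A C)) C) :=
    Groth.Agent.Lib.IAdicRegularH3.isRegularHom_adicCompletion C _ hGC
  haveI : Algebra.FinitePresentation A B :=
    Algebra.FinitePresentation.of_finiteType.mp inferInstance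
  haveI twB : IsScalarTower A B (AdicCompletion (I.map (algebraMap A B)) B) :=
    IsScalarTower.of_algebraMap_eq (fun _ => rfl)
  haveI twC : IsScalarTower A C (AdicCompletion (I.map (algebraMap A C)) C) :=
    IsScalarTower.of_algebraMap_eq (fun _ => rfl)
  let ofB : B →ₐ[A] AdicCompletion (I.map (algebraMap A B)) B :=
    (Algebra.ofId B (AdicCompletion (I.map (algebraMap A B)) B)).restrictScalars A
  have hofB : ∀ b, ofB b = AdicCompletion.of (I.map (algebraMap A B)) B b := fun b => rfl
  let f : B →ₐ[A] AdicCompletion (I.map (algebraMap A C)) C := φ.comp ofB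
  let Ff : C ⊗[A] B →ₐ[C] AdicCompletion (I.map (algebraMap A C)) C :=
    Algebra.TensorProduct.lift (Algebra.ofId C _) f (fun _ _ => Commute.all _ _)
  obtain ⟨C', iC1, iC2, het, hbij, t, ht⟩ :=
    etale_approx_hom C (I.map (algebraMap A C)) hreg (C ⊗[A] B) Ff k
  letI algAC' : Algebra A C' := ((algebraMap C C').comp (algebraMap A C)).toAlgebra
  haveI tw : IsScalarTower A C C' := IsScalarTower.of_algebraMap_eq (fun _ => rfl)
  have hmap : I.map (algebraMap A C') = (I.map (algebraMap A C)).map (algebraMap C C') := by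
    rw [Ideal.map_map]
    rfl
  have hpow : (I.map (algebraMap A C')) ^ (k + 1) =
      ((I.map (algebraMap A C)) ^ (k + 1)).map (algebraMap C C') := by
    rw [hmap, Ideal.map_pow]
  have hle : ((I.map (algebraMap A C)) ^ (k + 1)).map (algebraMap C C') ≤
      I.map (algebraMap A C') := by
    rw [hmap]
    exact Ideal.map_mono (Ideal.pow_le_self (Nat.succ_ne_zero k))
  refine ⟨C', iC1, iC2, algAC', tw, het,
    (t.restrictScalars A).comp Algebra.TensorProduct.includeRight, ⟨fun c' => ?_, fun c hc => ?_⟩,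
    fun b => ?_⟩
  · obtain ⟨cbar, hcbar⟩ := hbij.2 (Ideal.Quotient.mk _ c')
    obtain ⟨c, rfl⟩ := Ideal.Quotient.mk_surjective cbar
    refine ⟨c, hle ?_⟩
    exact Ideal.Quotient.eq.mp hcbar
  · rw [hmap] at hc
    exact mem_of_algebraMap_mem_map _ k hbij c hc
  · obtain ⟨c, hc⟩ := Ideal.Quotient.mk_surjective
      (AdicCompletion.evalₐ (I.map (algebraMap A C)) (k + 1) (f b))
    refine ⟨c, ?_, ?_⟩
    · rw [hpow]
      apply Ideal.Quotient.eq.mp
      show Ideal.Quotient.mk _ (t ((1 : C) ⊗ₜ[A] b)) = _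
      rw [ht]
      have h1 : Ff ((1 : C) ⊗ₜ[A] b) = f b := by
        show Algebra.TensorProduct.lift (Algebra.ofId C _) f (fun _ _ => Commute.all _ _)
          ((1 : C) ⊗ₜ[A] b) = f b
        rw [Algebra.TensorProduct.lift_tmul, map_one, one_mul]
      rw [h1, ← hc]
      rfl
    · have h2 : f b = φ (AdicCompletion.of (I.map (algebraMap A B)) B b) := rfl
      rw [← h2, ← AdicCompletion.factor_evalₐ_eq_eval (I.map (algebraMap A C)) (f b) (by simp),
        ← hc, Ideal.Quotient.factor_mk]
      rfl

end Groth.Agent.Lib.ArtinApxH5
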