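import Mathlib
import Groth.Agent.Lib.SmoothRegField_helper3

/-!
# Artinian local rings formally smooth over a field are fields (helper3)
-/

set_option autoImplicit false
universe u v

namespace Groth.Agent.Lib.ArtinFSH3

open IsLocalRing TensorProduct

/-- An Artinian local ring which is formally smooth over a field is a field
(universe-polymorphic form). -/
theorem isField_of_formallySmooth {k : Type u} {F : Type (max u v)} [Field k] [CommRing F]
    [IsLocalRing F] [IsArtinianRing F] [Algebra k F] [Algebra.FormallySmooth k F] : IsField F := by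
  classical
  letI : Algebra (ULift.{v} k) F := ULift.algebra' k F
  letI : Algebra (ULift.{v} k) k := ULift.algebra' k k
  haveI : IsScalarTower (ULift.{v} k) k F := IsScalarTower.of_algebraMap_eq (fun _ => rfl)
  let e : ULift.{v} k ≃ₐ[ULift.{v} k] k :=
    AlgEquiv.ofRingEquiv (f := ULift.ringEquiv) (fun _ => rfl)
  haveI : Algebra.FormallySmooth (ULift.{v} k) k := Algebra.FormallySmooth.of_equiv e
  haveI : Algebra.FormallySmooth (ULift.{v} k) F :=
    Algebra.FormallySmooth.comp (ULift.{v} k) k F
  haveI : IsRegularLocalRing F :=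
    Groth.Agent.Lib.SmoothRegFieldH3.regular_of_formallySmooth_field (k := ULift.{v} k)
  haveI : Ring.KrullDimLE 0 F :=
    Ring.KrullDimLE.mk₀ (fun I hI => IsArtinianRing.isMaximal_of_isPrime I)
  have hdim : ringKrullDim F = 0 := ringKrullDimZero_iff_ringKrullDim_eq_zero.1 inferInstance
  have h0 : (maximalIdeal F).spanFinrank = 0 := by
    have h1 := IsRegularLocalRing.spanFinrank_maximalIdeal (R := F)
    rw [hdim] at h1
    exact_mod_cast h1
  have hbot : maximalIdeal F = ⊥ :=
    (Submodule.spanFinrank_eq_zero_iff_eq_bot (IsNoetherian.noetherian _)).1 h0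
  exact IsLocalRing.isField_iff_maximalIdeal_eq.2 hbot

end Groth.Agent.Lib.ArtinFSH3
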