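import Mathlib

open TensorProduct

namespace Groth.Agent.Lib.NilFlat

universe u

/-- nilpotent Nakayama with a module-level nilpotency hypothesis -/
theorem eq_top_of_sup_smul_top {A M : Type*} [CommRing A] [AddCommGroup M] [Module A M]
    (J : Ideal A) (n : ℕ) (hn : J ^ n • (⊤ : Submodule A M) = ⊥) (R' : Submodule A M)
    (h : ⊤ ≤ R' ⊔ J • (⊤ : Submodule A M)) : R' = ⊤ := by
  have hstep : ∀ n : ℕ, ⊤ ≤ R' ⊔ J ^ n • (⊤ : Submodule A M) := by
    intro n
    induction n with
    | zero => simp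
    | succ n ih =>
      calc ⊤ ≤ R' ⊔ J ^ n • (⊤ : Submodule A M) := ih
        _ ≤ R' ⊔ J ^ n • (R' ⊔ J • (⊤ : Submodule A M)) :=
            sup_le_sup_left (Submodule.smul_mono le_rfl h) _
        _ = R' ⊔ (J ^ n • R' ⊔ J ^ n • J • (⊤ : Submodule A M)) := by rw [Submodule.smul_sup]
        _ ≤ R' ⊔ J ^ (n + 1) • (⊤ : Submodule A M) := by
            rw [← Submodule.mul_smul, ← pow_succ]
            exact sup_le le_sup_left
              (sup_le (le_sup_of_le_left Submodule.smul_le_right) le_sup_right)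
  have := hstep n
  rw [hn, sup_bot_eq] at this
  exact top_le_iff.mp this

/-- Lemma Y'' -/
theorem injective_of_flat_of_ker_le {B : Type u} [CommRing B] (I : Ideal B)
    {P M : Type u} [AddCommGroup P] [Module B P] [AddCommGroup M] [Module B M] [Module.Flat B M]
    (ψ : P →ₗ[B] M) (hsurj : Function.Surjective ψ)
    (hker : LinearMap.ker ψ ≤ I • (⊤ : Submodule B P))
    (n : ℕ) (hn : I ^ n • (⊤ : Submodule B P) = ⊥) : Function.Injective ψ := by
  rw [← LinearMap.ker_eq_bot]
  have hex : Function.Exact (LinearMap.ker ψ).subtype ψ := by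
    intro x; constructor
    · intro hx; exact ⟨⟨x, hx⟩, rfl⟩
    · rintro ⟨k, rfl⟩; exact k.2
  have hinjT := LinearMap.lTensor_injective_of_exact_of_flat ψ hsurj (LinearMap.ker ψ).subtype
      (LinearMap.ker ψ).injective_subtype hex (B ⧸ I)
  have hstep1 : (⊤ : Submodule B (LinearMap.ker ψ)) ≤ I • ⊤ := by
    intro k _
    have h1 : (k : P) ∈ I • (⊤ : Submodule B P) := hker k.2
    have h2 : ((LinearMap.ker ψ).subtype.lTensor (B ⧸ I)) ((1 : B ⧸ I) ⊗ₜ[B] k) = 0 := by
      rw [LinearMap.lTensor_tmul]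
      apply (TensorProduct.quotTensorEquivQuotSMul P I).injective
      rw [map_zero, TensorProduct.quotTensorEquivQuotSMul_mk_one_tmul]
      simpa using h1
    have h3 : ((1 : B ⧸ I) ⊗ₜ[B] k : (B ⧸ I) ⊗[B] (LinearMap.ker ψ)) = 0 :=
      hinjT (by rw [h2, map_zero])
    have h4 := congrArg (TensorProduct.quotTensorEquivQuotSMul (LinearMap.ker ψ) I) h3
    rw [TensorProduct.quotTensorEquivQuotSMul_mk_one_tmul, map_zero] at h4
    simpa using h4
  have hstep : ∀ m : ℕ, (⊤ : Submodule B (LinearMap.ker ψ)) ≤ I ^ m • ⊤ := by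
    intro m
    induction m with
    | zero => simp
    | succ m ih =>
      calc (⊤ : Submodule B (LinearMap.ker ψ)) ≤ I ^ m • ⊤ := ih
        _ ≤ I ^ m • (I • ⊤) := Submodule.smul_mono le_rfl hstep1
        _ = I ^ (m+1) • ⊤ := by rw [← Submodule.mul_smul, ← pow_succ]
  rw [eq_bot_iff]
  intro x hx
  have h1 : (⟨x, hx⟩ : LinearMap.ker ψ) ∈ I ^ n • (⊤ : Submodule B (LinearMap.ker ψ)) :=
    hstep n Submodule.mem_top
  have h2 : x ∈ Submodule.map (LinearMap.ker ψ).subtype (I ^ n • ⊤) := ⟨_, h1, rfl⟩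
  rw [Submodule.map_smul''] at h2
  have h3 : I ^ n • Submodule.map (LinearMap.ker ψ).subtype ⊤ ≤ I ^ n • (⊤ : Submodule B P) :=
    Submodule.smul_mono le_rfl le_top
  have := h3 h2
  rw [hn] at this
  exact this

section family
variable {A : Type u} [CommRing A] (I : Ideal A)
  {P M : Type u} [AddCommGroup P] [Module A P] [AddCommGroup M] [Module A M]
  (B : Type u) [CommRing B] [Algebra A B]

/-- `I^n P = 0` implies `(IB)^n (B ⊗ P) = 0`. -/
lemma smul_top_baseChange_eq_bot (n : ℕ) (hnP : I ^ n • (⊤ : Submodule A P) = ⊥) :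
    (I.map (algebraMap A B)) ^ n • (⊤ : Submodule B (B ⊗[A] P)) = ⊥ := by
  rw [eq_bot_iff, ← Ideal.map_pow, Submodule.smul_le]
  intro r hr z _
  rw [Submodule.mem_bot]
  have key : ∀ a ∈ I ^ n, ∀ z : B ⊗[A] P, (algebraMap A B a) • z = 0 := by
    intro a ha z
    induction z using TensorProduct.induction_on with
    | zero => simp
    | add x y hx hy => rw [smul_add, hx, hy, add_zero]
    | tmul b p =>
      have hap : a • p = 0 := by
        have : a • p ∈ I ^ n • (⊤ : Submodule A P) :=
          Submodule.smul_mem_smul ha Submodule.mem_top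
        rw [hnP] at this
        exact this
      rw [TensorProduct.smul_tmul', smul_eq_mul, ← Algebra.smul_def,
        TensorProduct.smul_tmul, hap, TensorProduct.tmul_zero]
  refine Submodule.span_induction (p := fun r _ => ∀ z : B ⊗[A] P, r • z = 0) ?_ ?_ ?_ ?_ hr z
  · rintro _ ⟨a, ha, rfl⟩ z
    exact key a ha z
  · intro z; simp
  · intro x y _ _ hx hy z
    rw [add_smul, hx, hy, add_zero]
  · intro c x _ hx z
    rw [smul_eq_mul, mul_smul, hx, smul_zero]

/-- elements `b ⊗ y` with `y ∈ I P` lie in `(IB)(B ⊗ P)`. -/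
lemma tmul_mem_smul_top (b : B) (y : P) (hy : y ∈ I • (⊤ : Submodule A P)) :
    b ⊗ₜ[A] y ∈ (I.map (algebraMap A B)) • (⊤ : Submodule B (B ⊗[A] P)) := by
  refine Submodule.smul_induction_on hy ?_ ?_
  · intro a ha p _
    have : b ⊗ₜ[A] (a • p) = (algebraMap A B a) • (b ⊗ₜ[A] p) := by
      rw [TensorProduct.smul_tmul', smul_eq_mul, ← Algebra.smul_def,
        TensorProduct.smul_tmul]
    rw [this]
    exact Submodule.smul_mem_smul (Ideal.mem_map_of_mem _ ha) Submodule.mem_top
  · intro x y hx hy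
    rw [TensorProduct.tmul_add]
    exact Submodule.add_mem _ hx hy

lemma range_lTensor_subtype_le (w : B ⊗[A] ↥(I • (⊤ : Submodule A P))) :
    ((I • (⊤ : Submodule A P)).subtype.lTensor B) w ∈
      (I.map (algebraMap A B)) • (⊤ : Submodule B (B ⊗[A] P)) := by
  induction w using TensorProduct.induction_on with
  | zero => simp
  | add x y hx hy => rw [map_add]; exact Submodule.add_mem _ hx hy
  | tmul b y =>
    rw [LinearMap.lTensor_tmul]
    exact tmul_mem_smul_top I B b y.1 y.2

variable {B}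

/-- the base change of `φ` is injective. -/
theorem baseChange_injective (n : ℕ) (hnP : I ^ n • (⊤ : Submodule A P) = ⊥)
    (φ : P →ₗ[A] M) (hφs : Function.Surjective φ)
    (H1 : ∀ m : M, ∃ p : P, m - φ p ∈ I • (⊤ : Submodule A M))
    (H2 : ∀ p : P, φ p ∈ I • (⊤ : Submodule A M) → p ∈ I • (⊤ : Submodule A P))
    [Module.Flat B (B ⊗[A] M)] : Function.Injective (φ.baseChange B) := by
  -- φ̄
  have hle : I • (⊤ : Submodule A P) ≤ Submodule.comap φ (I • (⊤ : Submodule A M)) := by
    rw [← Submodule.map_le_iff_le_comap, Submodule.map_smul'']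
    exact Submodule.smul_mono le_rfl le_top
  let φbar : (P ⧸ I • (⊤ : Submodule A P)) →ₗ[A] (M ⧸ I • (⊤ : Submodule A M)) :=
    Submodule.mapQ _ _ φ hle
  have hφbar : ∀ p, φbar (Submodule.Quotient.mk p) = Submodule.Quotient.mk (φ p) := fun p => rfl
  have hbij : Function.Bijective φbar := by
    constructor
    · rw [injective_iff_map_eq_zero]
      intro x hx
      obtain ⟨p, rfl⟩ := Submodule.Quotient.mk_surjective _ x
      rw [hφbar, Submodule.Quotient.mk_eq_zero] at hx
      rw [Submodule.Quotient.mk_eq_zero]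
      exact H2 p hx
    · intro y
      obtain ⟨m, rfl⟩ := Submodule.Quotient.mk_surjective _ y
      obtain ⟨p, hp⟩ := H1 m
      refine ⟨Submodule.Quotient.mk p, ?_⟩
      rw [hφbar, eq_comm, ← sub_eq_zero, ← Submodule.Quotient.mk_sub, Submodule.Quotient.mk_eq_zero]
      exact hp
  let ebar := LinearEquiv.ofBijective φbar hbij
  have hcomm : ∀ z : B ⊗[A] P, (φbar.lTensor B) (((I • (⊤ : Submodule A P)).mkQ.lTensor B) z) =
      ((I • (⊤ : Submodule A M)).mkQ.lTensor B) ((φ.lTensor B) z) := by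
    intro z
    rw [← LinearMap.comp_apply, ← LinearMap.comp_apply, ← LinearMap.lTensor_comp,
      ← LinearMap.lTensor_comp]
    rfl
  have hinjbar : Function.Injective (φbar.lTensor B) := by
    have hcomp : (ebar.symm.toLinearMap.lTensor B) ∘ₗ (φbar.lTensor B) = LinearMap.id := by
      rw [← LinearMap.lTensor_comp]
      have h0 : ebar.symm.toLinearMap ∘ₗ φbar = LinearMap.id := by
        ext x
        exact ebar.symm_apply_apply _
      rw [h0, LinearMap.lTensor_id]
    intro x y hxy
    have h5 := congrArg (ebar.symm.toLinearMap.lTensor B) hxy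
    rw [← LinearMap.comp_apply, ← LinearMap.comp_apply, hcomp] at h5
    exact h5
  have hex : Function.Exact ((I • (⊤ : Submodule A P)).subtype.lTensor B)
      ((I • (⊤ : Submodule A P)).mkQ.lTensor B) := by
    apply lTensor_exact B _ (Submodule.mkQ_surjective _)
    intro x
    rw [Submodule.mkQ_apply, Submodule.Quotient.mk_eq_zero]
    constructor
    · intro hx; exact ⟨⟨x, hx⟩, rfl⟩
    · rintro ⟨k, rfl⟩; exact k.2
  have hker : LinearMap.ker (φ.baseChange B) ≤
      (I.map (algebraMap A B)) • (⊤ : Submodule B (B ⊗[A] P)) := by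
    intro z hz
    have hz' : (φ.lTensor B) z = 0 := hz
    have h1 : ((I • (⊤ : Submodule A P)).mkQ.lTensor B) z = 0 := by
      apply hinjbar
      rw [hcomm, hz', map_zero, map_zero]
    obtain ⟨w, rfl⟩ := (hex z).mp h1
    exact range_lTensor_subtype_le I B w
  refine injective_of_flat_of_ker_le (I.map (algebraMap A B)) (φ.baseChange B) ?_ hker n
    (smul_top_baseChange_eq_bot I B n hnP)
  exact LinearMap.lTensor_surjective B hφs

end family

/-- Lemma X'' -/
theorem bijective_of_family {A : Type u} [CommRing A] (I : Ideal A) (n : ℕ)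
    {P M : Type u} [AddCommGroup P] [Module A P] [AddCommGroup M] [Module A M]
    [Module.Projective A P]
    (hnP : I ^ n • (⊤ : Submodule A P) = ⊥) (hnM : I ^ n • (⊤ : Submodule A M) = ⊥)
    (φ : P →ₗ[A] M)
    (H1 : ∀ m : M, ∃ p : P, m - φ p ∈ I • (⊤ : Submodule A M))
    (H2 : ∀ p : P, φ p ∈ I • (⊤ : Submodule A M) → p ∈ I • (⊤ : Submodule A P))
    {ι : Type u} (B : ι → Type u) [∀ i, CommRing (B i)] [∀ i, Algebra A (B i)]
    (hB : ∀ a : A, (∀ i, algebraMap A (B i) a = 0) → a = 0)
    (hflat : ∀ i, Module.Flat (B i) (B i ⊗[A] M)) : Function.Bijective φ := by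
  have hsurj : Function.Surjective φ := by
    rw [← LinearMap.range_eq_top]
    apply eq_top_of_sup_smul_top I n hnM
    intro m _
    obtain ⟨p, hp⟩ := H1 m
    have : m = φ p + (m - φ p) := by abel
    rw [this]
    exact Submodule.add_mem_sup (LinearMap.mem_range_self _ _) hp
  refine ⟨?_, hsurj⟩
  rw [injective_iff_map_eq_zero]
  intro k hk
  obtain ⟨s, hs⟩ := (Module.projective_def' (R := A) (P := P)).mp inferInstance
  have hs' : ∀ p, Finsupp.linearCombination A id (s p) = p := fun p => LinearMap.congr_fun hs p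
  have hsk : s k = 0 := by
    ext x
    rw [Finsupp.zero_apply]
    apply hB
    intro i
    haveI := hflat i
    have hinj := baseChange_injective (B := B i) I n hnP φ hsurj H1 H2
    have h1 : ((1 : B i) ⊗ₜ[A] k : B i ⊗[A] P) = 0 := by
      apply hinj
      rw [LinearMap.baseChange_tmul, hk, TensorProduct.tmul_zero, map_zero]
    have h2 := congrArg (TensorProduct.rid A (B i))
      (congrArg (((Finsupp.lapply x : (P →₀ A) →ₗ[A] A) ∘ₗ s).lTensor (B i)) h1)
    rw [LinearMap.lTensor_tmul, map_zero, map_zero, TensorProduct.rid_tmul] at h2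
    rw [Algebra.algebraMap_eq_smul_one]
    exact h2
  rw [← hs' k, hsk, map_zero]

end Groth.Agent.Lib.NilFlat
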