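import Mathlib
import Groth.Agent.Lib.NilFlat_lead

/-!
# Flat modules over rings with a nilpotent ideal / Artinian local rings

* `bijective_of_mod`: a map into a flat module which is bijective modulo a nilpotent ideal is
  bijective.
* `exists_complement`: over a local ring with nilpotent maximal ideal, a map into a flat module
  which is injective modulo the maximal ideal can be completed by a free module to an isomorphism.
-/

namespace Groth.Agent.Lib.ArtinFlat

open TensorProduct

universe u v w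

section nil

variable {A : Type u} [CommRing A] (I : Ideal A)
  {M : Type v} {N : Type w} [AddCommGroup M] [Module A M] [AddCommGroup N] [Module A N]

lemma one_tmul_eq_zero_iff (x : M) :
    ((1 : A ⧸ I) ⊗ₜ[A] x : (A ⧸ I) ⊗[A] M) = 0 ↔ x ∈ I • (⊤ : Submodule A M) := by
  constructor
  · intro h
    have h4 := congrArg (TensorProduct.quotTensorEquivQuotSMul M I) h
    rw [TensorProduct.quotTensorEquivQuotSMul_mk_one_tmul, map_zero] at h4
    simpa using h4
  · intro h
    apply (TensorProduct.quotTensorEquivQuotSMul M I).injective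
    rw [map_zero, TensorProduct.quotTensorEquivQuotSMul_mk_one_tmul]
    simpa using h

lemma exists_one_tmul (ξ : (A ⧸ I) ⊗[A] M) : ∃ x : M, ξ = (1 : A ⧸ I) ⊗ₜ[A] x := by
  obtain ⟨x, hx⟩ := Submodule.Quotient.mk_surjective _
    (TensorProduct.quotTensorEquivQuotSMul M I ξ)
  refine ⟨x, ?_⟩
  apply (TensorProduct.quotTensorEquivQuotSMul M I).injective
  rw [TensorProduct.quotTensorEquivQuotSMul_mk_one_tmul, hx]

theorem injective_of_flat_of_ker_le' [Module.Flat A N]
    (ψ : M →ₗ[A] N) (hsurj : Function.Surjective ψ)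
    (hker : LinearMap.ker ψ ≤ I • (⊤ : Submodule A M))
    (n : ℕ) (hn : I ^ n • (⊤ : Submodule A M) = ⊥) : Function.Injective ψ := by
  rw [← LinearMap.ker_eq_bot]
  have hex : Function.Exact (LinearMap.ker ψ).subtype ψ := by
    intro x; constructor
    · intro hx; exact ⟨⟨x, hx⟩, rfl⟩
    · rintro ⟨k, rfl⟩; exact k.2
  have hinjT := LinearMap.lTensor_injective_of_exact_of_flat ψ hsurj (LinearMap.ker ψ).subtype
      (LinearMap.ker ψ).injective_subtype hex (A ⧸ I)
  have hstep1 : (⊤ : Submodule A (LinearMap.ker ψ)) ≤ I • ⊤ := by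
    intro k _
    have h1 : (k : M) ∈ I • (⊤ : Submodule A M) := hker k.2
    have h2 : ((LinearMap.ker ψ).subtype.lTensor (A ⧸ I)) ((1 : A ⧸ I) ⊗ₜ[A] k) = 0 := by
      rw [LinearMap.lTensor_tmul]
      exact (one_tmul_eq_zero_iff I _).mpr h1
    have h3 : ((1 : A ⧸ I) ⊗ₜ[A] k : (A ⧸ I) ⊗[A] (LinearMap.ker ψ)) = 0 :=
      hinjT (by rw [h2, map_zero])
    exact (one_tmul_eq_zero_iff I _).mp h3
  have hstep : ∀ m : ℕ, (⊤ : Submodule A (LinearMap.ker ψ)) ≤ I ^ m • ⊤ := by
    intro m
    induction m with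
    | zero => simp
    | succ m ih =>
      calc (⊤ : Submodule A (LinearMap.ker ψ)) ≤ I ^ m • ⊤ := ih
        _ ≤ I ^ m • (I • ⊤) := Submodule.smul_mono le_rfl hstep1
        _ = I ^ (m+1) • ⊤ := by rw [← Submodule.mul_smul, ← pow_succ]
  rw [eq_bot_iff]
  intro x hx
  have h1 : (⟨x, hx⟩ : LinearMap.ker ψ) ∈ I ^ n • (⊤ : Submodule A (LinearMap.ker ψ)) :=
    hstep n Submodule.mem_top
  have h2 : x ∈ Submodule.map (LinearMap.ker ψ).subtype (I ^ n • ⊤) := ⟨_, h1, rfl⟩
  rw [Submodule.map_smul''] at h2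
  have h3 : I ^ n • Submodule.map (LinearMap.ker ψ).subtype ⊤ ≤ I ^ n • (⊤ : Submodule A M) :=
    Submodule.smul_mono le_rfl le_top
  have := h3 h2
  rw [hn] at this
  exact this

theorem surjective_of_mod (n : ℕ) (hn : I ^ n = ⊥) (f : M →ₗ[A] N)
    (H1 : ∀ y : N, ∃ x : M, y - f x ∈ I • (⊤ : Submodule A N)) : Function.Surjective f := by
  rw [← LinearMap.range_eq_top]
  apply Groth.Agent.Lib.NilFlat.eq_top_of_sup_smul_top I n (by rw [hn]; simp)
  intro y _
  obtain ⟨x, hx⟩ := H1 y
  have : y = f x + (y - f x) := by abel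
  rw [this]
  exact Submodule.add_mem_sup ⟨x, rfl⟩ hx

theorem bijective_of_mod [Module.Flat A N] (n : ℕ) (hn : I ^ n = ⊥) (f : M →ₗ[A] N)
    (H1 : ∀ y : N, ∃ x : M, y - f x ∈ I • (⊤ : Submodule A N))
    (H2 : ∀ x : M, f x ∈ I • (⊤ : Submodule A N) → x ∈ I • (⊤ : Submodule A M)) :
    Function.Bijective f := by
  have hsurj : Function.Surjective f := surjective_of_mod I n hn f H1
  refine ⟨injective_of_flat_of_ker_le' I f hsurj ?_ n (by rw [hn]; simp), hsurj⟩
  intro x hx
  apply H2
  rw [LinearMap.mem_ker.mp hx]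
  exact zero_mem _

theorem surjective_of_lTensor (n : ℕ) (hn : I ^ n = ⊥) (f : M →ₗ[A] N)
    (hf : Function.Surjective (f.lTensor (A ⧸ I))) : Function.Surjective f := by
  apply surjective_of_mod I n hn f
  intro y
  obtain ⟨ξ, hξ⟩ := hf ((1 : A ⧸ I) ⊗ₜ[A] y)
  obtain ⟨x, rfl⟩ := exists_one_tmul I ξ
  refine ⟨x, ?_⟩
  rw [← one_tmul_eq_zero_iff, TensorProduct.tmul_sub, ← hξ, LinearMap.lTensor_tmul, sub_self]

theorem bijective_of_lTensor [Module.Flat A N] (n : ℕ) (hn : I ^ n = ⊥) (f : M →ₗ[A] N)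
    (hf : Function.Bijective (f.lTensor (A ⧸ I))) : Function.Bijective f := by
  apply bijective_of_mod I n hn f
  · intro y
    obtain ⟨ξ, hξ⟩ := hf.2 ((1 : A ⧸ I) ⊗ₜ[A] y)
    obtain ⟨x, rfl⟩ := exists_one_tmul I ξ
    refine ⟨x, ?_⟩
    rw [← one_tmul_eq_zero_iff, TensorProduct.tmul_sub, ← hξ, LinearMap.lTensor_tmul, sub_self]
  · intro x hx
    rw [← one_tmul_eq_zero_iff] at hx ⊢
    apply hf.1
    rw [LinearMap.lTensor_tmul, hx, map_zero]

end nil

section loc

variable {A : Type u} [CommRing A] [IsLocalRing A]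
  {X : Type v} {N : Type w} [AddCommGroup X] [Module A X] [AddCommGroup N] [Module A N]

local notation "𝔪" => IsLocalRing.maximalIdeal A
local notation "k" => A ⧸ IsLocalRing.maximalIdeal A

lemma tmul_linearCombination {S : Type*} (n : S → N) (φ : S →₀ A) :
    ((1 : k) ⊗ₜ[A] (Finsupp.linearCombination A n φ) : k ⊗[A] N) =
      Finsupp.linearCombination k (fun s => ((1 : k) ⊗ₜ[A] n s : k ⊗[A] N))
        (φ.mapRange (Ideal.Quotient.mk 𝔪) (map_zero _)) := by
  induction φ using Finsupp.induction_linear with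
  | zero => simp
  | add φ ψ hφ hψ =>
    rw [map_add, TensorProduct.tmul_add, hφ, hψ,
      Finsupp.mapRange_add (fun x y => map_add (Ideal.Quotient.mk 𝔪) x y), map_add]
  | single s a =>
    rw [Finsupp.linearCombination_single, Finsupp.mapRange_single,
      Finsupp.linearCombination_single, TensorProduct.tmul_smul, TensorProduct.smul_tmul',
      TensorProduct.smul_tmul']
    congr 1

theorem exists_complement [Module.Flat A N] (n : ℕ) (hn : 𝔪 ^ n = ⊥) (u : X →ₗ[A] N)
    (hu : Function.Injective (u.lTensor k)) :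
    ∃ (S : Type (max u w)) (v : (S →₀ A) →ₗ[A] N), Function.Bijective (u.coprod v) := by
  classical
  letI : Field k := Ideal.Quotient.field 𝔪
  have hexc : ∃ W' : Submodule k (k ⊗[A] N), IsCompl (LinearMap.range (u.baseChange k)) W' :=
    Submodule.exists_isCompl _
  obtain ⟨W', hW'⟩ := hexc
  haveI : Module.Free k W' := Module.Free.of_divisionRing k W'
  let b := Module.Free.chooseBasis k W'
  have hlift : ∀ s, ∃ y : N, ((b s : W') : k ⊗[A] N) = (1 : k) ⊗ₜ[A] y :=
    fun s => exists_one_tmul 𝔪 _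
  choose nn hnn using hlift
  refine ⟨Module.Free.ChooseBasisIndex k W', Finsupp.linearCombination A nn, ?_⟩
  have key : ∀ φ : Module.Free.ChooseBasisIndex k W' →₀ A,
      ((1 : k) ⊗ₜ[A] (Finsupp.linearCombination A nn φ) : k ⊗[A] N) =
      W'.subtype (Finsupp.linearCombination k b
        (φ.mapRange (Ideal.Quotient.mk 𝔪) (map_zero _))) := by
    intro φ
    have hfun : (fun s => ((1 : k) ⊗ₜ[A] nn s : k ⊗[A] N)) = (W'.subtype ∘ b) :=
      funext fun s => (hnn s).symm
    rw [tmul_linearCombination, Finsupp.apply_linearCombination, hfun]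
  apply bijective_of_mod 𝔪 n hn
  · intro y
    have hy : ((1 : k) ⊗ₜ[A] y : k ⊗[A] N) ∈ LinearMap.range (u.baseChange k) ⊔ W' := by
      rw [hW'.sup_eq_top]; trivial
    obtain ⟨a, ⟨ξ, rfl⟩, c, hc, hac⟩ := Submodule.mem_sup.mp hy
    obtain ⟨x, rfl⟩ := exists_one_tmul 𝔪 ξ
    obtain ⟨φ, hφ⟩ := Finsupp.mapRange_surjective (Ideal.Quotient.mk 𝔪) (map_zero _)
      Ideal.Quotient.mk_surjective (b.repr ⟨c, hc⟩)
    refine ⟨(x, φ), ?_⟩
    rw [← one_tmul_eq_zero_iff, TensorProduct.tmul_sub, LinearMap.coprod_apply,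
      TensorProduct.tmul_add, key φ, hφ, b.linearCombination_repr, ← hac,
      LinearMap.baseChange_tmul]
    simp
  · rintro ⟨x, φ⟩ hp
    rw [← one_tmul_eq_zero_iff, LinearMap.coprod_apply, TensorProduct.tmul_add, key φ] at hp
    have h1 : ((1 : k) ⊗ₜ[A] u x : k ⊗[A] N) ∈ LinearMap.range (u.baseChange k) :=
      ⟨(1 : k) ⊗ₜ[A] x, by rw [LinearMap.baseChange_tmul]⟩
    have h2 : ((1 : k) ⊗ₜ[A] u x : k ⊗[A] N) ∈ W' := by
      have : ((1 : k) ⊗ₜ[A] u x : k ⊗[A] N) = -(W'.subtype (Finsupp.linearCombination k b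
        (φ.mapRange (Ideal.Quotient.mk 𝔪) (map_zero _)))) := eq_neg_of_add_eq_zero_left hp
      rw [this]
      exact neg_mem (Subtype.property _)
    have h3 : ((1 : k) ⊗ₜ[A] u x : k ⊗[A] N) = 0 :=
      Submodule.disjoint_def.mp hW'.disjoint _ h1 h2
    have hx : x ∈ 𝔪 • (⊤ : Submodule A X) := by
      rw [← one_tmul_eq_zero_iff]
      apply hu
      rw [LinearMap.lTensor_tmul, h3, map_zero]
    have hc0 : Finsupp.linearCombination k b
        (φ.mapRange (Ideal.Quotient.mk 𝔪) (map_zero _)) = 0 := by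
      apply Subtype.ext
      rw [h3, zero_add] at hp
      exact hp
    have hφ0 : φ.mapRange (Ideal.Quotient.mk 𝔪) (map_zero _) = 0 := by
      have hrepr := congrArg b.repr hc0
      rw [b.repr_linearCombination, map_zero] at hrepr
      exact hrepr
    have hφm : ∀ s, φ s ∈ 𝔪 := by
      intro s
      have := DFunLike.congr_fun hφ0 s
      rw [Finsupp.mapRange_apply, Finsupp.zero_apply, Ideal.Quotient.eq_zero_iff_mem] at this
      exact this
    have e1 : (x, φ) = LinearMap.inl A X (Module.Free.ChooseBasisIndex k W' →₀ A) x +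
        LinearMap.inr A X (Module.Free.ChooseBasisIndex k W' →₀ A) φ := by simp
    rw [e1]
    refine Submodule.add_mem _ ?_ ?_
    · have := Submodule.mem_map_of_mem
        (f := LinearMap.inl A X (Module.Free.ChooseBasisIndex k W' →₀ A)) hx
      rw [Submodule.map_smul''] at this
      exact Submodule.smul_mono le_rfl le_top this
    · have hφ' : φ = φ.sum Finsupp.single := (Finsupp.sum_single φ).symm
      rw [hφ', Finsupp.sum, map_sum]
      refine Submodule.sum_mem _ fun s _ => ?_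
      have : Finsupp.single s (φ s) = φ s • Finsupp.single s (1 : A) := by
        rw [Finsupp.smul_single, smul_eq_mul, mul_one]
      rw [this, map_smul]
      exact Submodule.smul_mem_smul (hφm s) Submodule.mem_top

theorem injective_of_lTensor [Module.Flat A N] (n : ℕ) (hn : 𝔪 ^ n = ⊥) (u : X →ₗ[A] N)
    (hu : Function.Injective (u.lTensor k)) : Function.Injective u := by
  obtain ⟨S, v, hw⟩ := exists_complement n hn u hu
  intro x y hxy
  have := hw.1 (a₁ := (x, 0)) (a₂ := (y, 0)) (by simp [LinearMap.coprod_apply, hxy])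
  exact (Prod.mk.inj this).1

end loc

end Groth.Agent.Lib.ArtinFlat
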