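import Mathlib
import Groth.Agent.Lib.ArtinFlat_lead

/-!
# Flatness in exact sequences over a local ring with nilpotent maximal ideal
-/

namespace Groth.Agent.Lib.ArtinFlat

open TensorProduct

universe u v w w'

section ses

variable {A : Type u} [CommRing A] [IsLocalRing A]
  {M : Type v} {N : Type w} {P : Type w'} [AddCommGroup M] [Module A M] [AddCommGroup N]
  [Module A N] [AddCommGroup P] [Module A P]

local notation "𝔪" => IsLocalRing.maximalIdeal A
local notation "k" => A ⧸ IsLocalRing.maximalIdeal A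

theorem flat_coker [Module.Flat A N] (n : ℕ) (hn : 𝔪 ^ n = ⊥) (f : M →ₗ[A] N) (g : N →ₗ[A] P)
    (hg : Function.Surjective g) (hfg : Function.Exact f g)
    (hinj : Function.Injective (f.lTensor k)) : Module.Flat A P := by
  obtain ⟨S, v, hw⟩ := exists_complement n hn f hinj
  have hgf : ∀ x, g (f x) = 0 := fun x => (hfg (f x)).mpr ⟨x, rfl⟩
  have hgv : Function.Bijective (g ∘ₗ v) := by
    constructor
    · rw [injective_iff_map_eq_zero]
      intro φ hφ
      rw [LinearMap.comp_apply] at hφ
      obtain ⟨x, hx⟩ := (hfg (v φ)).mp hφ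
      have h1 : (f.coprod v) (-x, φ) = (f.coprod v) (0, 0) := by
        simp [LinearMap.coprod_apply, hx]
      have h2 := hw.1 h1
      exact (Prod.mk.inj h2).2
    · intro p
      obtain ⟨y, rfl⟩ := hg p
      obtain ⟨⟨x, φ⟩, rfl⟩ := hw.2 y
      refine ⟨φ, ?_⟩
      simp [LinearMap.coprod_apply, hgf]
  exact Module.Flat.of_linearEquiv (LinearEquiv.ofBijective (g ∘ₗ v) hgv).symm

theorem flat_ker [Module.Flat A N] [Module.Flat A P] (n : ℕ) (hn : 𝔪 ^ n = ⊥)
    (f : M →ₗ[A] N) (g : N →ₗ[A] P) (hf : Function.Injective f)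
    (hg : Function.Surjective g) (hfg : Function.Exact f g) : Module.Flat A M := by
  have hinj : Function.Injective (f.lTensor k) :=
    LinearMap.lTensor_injective_of_exact_of_flat g hg f hf hfg _
  obtain ⟨S, v, hw⟩ := exists_complement n hn f hinj
  let e := LinearEquiv.ofBijective (f.coprod v) hw
  apply Module.Flat.of_retract f ((LinearMap.fst A M (S →₀ A)) ∘ₗ e.symm.toLinearMap)
  ext x
  have h1 : e (x, 0) = f x := by simp [e, LinearMap.coprod_apply]
  simp [← h1]

end ses

section four

variable {A : Type u} [CommRing A] [IsLocalRing A]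
  {P : Type v} {Q : Type w} {R : Type w'} {M : Type*} [AddCommGroup P] [Module A P]
  [AddCommGroup Q] [Module A Q] [AddCommGroup R] [Module A R] [AddCommGroup M] [Module A M]

local notation "𝔪" => IsLocalRing.maximalIdeal A
local notation "k" => A ⧸ IsLocalRing.maximalIdeal A

theorem four_term [Module.Flat A Q] [Module.Flat A R] (n : ℕ) (hn : 𝔪 ^ n = ⊥)
    (f : P →ₗ[A] Q) (g : Q →ₗ[A] R) (h : R →ₗ[A] M)
    (hfg : g ∘ₗ f = 0) (hgh : Function.Exact g h) (hh : Function.Surjective h)
    (hred : Function.Exact (f.lTensor k) (g.lTensor k)) :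
    Module.Flat A M ∧ Function.Exact f g := by
  have hgf : ∀ p, g (f p) = 0 := fun p => LinearMap.congr_fun hfg p
  have hg' : Function.Surjective g.rangeRestrict := g.surjective_rangeRestrict
  have hιh : Function.Exact (LinearMap.range g).subtype h := by
    intro r
    rw [hgh r]
    constructor
    · rintro ⟨q, rfl⟩
      exact ⟨⟨g q, ⟨q, rfl⟩⟩, rfl⟩
    · rintro ⟨⟨_, ⟨q, rfl⟩⟩, rfl⟩
      exact ⟨q, rfl⟩
  have hιinj : Function.Injective ((LinearMap.range g).subtype.lTensor k) := by
    rw [injective_iff_map_eq_zero]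
    intro η hη
    obtain ⟨β, rfl⟩ := exists_one_tmul 𝔪 η
    obtain ⟨q, hq⟩ := hg' β
    rw [LinearMap.lTensor_tmul] at hη
    have h1 : (g.lTensor k) ((1 : k) ⊗ₜ[A] q) = 0 := by
      rw [LinearMap.lTensor_tmul]
      rw [← hq] at hη
      exact hη
    obtain ⟨ξ, hξ⟩ := (hred _).mp h1
    obtain ⟨p, rfl⟩ := exists_one_tmul 𝔪 ξ
    rw [LinearMap.lTensor_tmul] at hξ
    have h2 : q - f p ∈ 𝔪 • (⊤ : Submodule A Q) := by
      rw [← one_tmul_eq_zero_iff, TensorProduct.tmul_sub, hξ, sub_self]
    have h3 : g.rangeRestrict (q - f p) = β := by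
      rw [map_sub, hq]
      have : g.rangeRestrict (f p) = 0 := by
        apply Subtype.ext
        exact hgf p
      rw [this, sub_zero]
    rw [← h3, one_tmul_eq_zero_iff]
    have := Submodule.mem_map_of_mem (f := g.rangeRestrict) h2
    rw [Submodule.map_smul''] at this
    exact Submodule.smul_mono le_rfl le_top this
  have hM : Module.Flat A M :=
    flat_coker n hn (LinearMap.range g).subtype h hh hιh hιinj
  haveI := hM
  have hB : Module.Flat A (LinearMap.range g) :=
    flat_ker n hn (LinearMap.range g).subtype h (LinearMap.range g).injective_subtype hh hιh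
  haveI := hB
  refine ⟨hM, ?_⟩
  have hZex : Function.Exact (LinearMap.ker g).subtype g.rangeRestrict := by
    intro q
    constructor
    · intro hq
      exact ⟨⟨q, by rw [LinearMap.mem_ker]; exact congrArg Subtype.val hq⟩, rfl⟩
    · rintro ⟨z, rfl⟩
      apply Subtype.ext
      exact z.2
  have hZinj : Function.Injective ((LinearMap.ker g).subtype.lTensor k) :=
    LinearMap.lTensor_injective_of_exact_of_flat g.rangeRestrict hg' (LinearMap.ker g).subtype
      (LinearMap.ker g).injective_subtype hZex k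
  have hf' : Function.Surjective (f.codRestrict (LinearMap.ker g)
      (fun p => by rw [LinearMap.mem_ker]; exact hgf p)) := by
    apply surjective_of_mod 𝔪 n hn
    intro z
    have h1 : (g.lTensor k) ((1 : k) ⊗ₜ[A] (z : Q)) = 0 := by
      rw [LinearMap.lTensor_tmul, LinearMap.mem_ker.mp z.2, TensorProduct.tmul_zero]
    obtain ⟨ξ, hξ⟩ := (hred _).mp h1
    obtain ⟨p, rfl⟩ := exists_one_tmul 𝔪 ξ
    rw [LinearMap.lTensor_tmul] at hξ
    refine ⟨p, ?_⟩
    rw [← one_tmul_eq_zero_iff]
    apply hZinj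
    rw [map_zero, LinearMap.lTensor_tmul, map_sub, TensorProduct.tmul_sub]
    show (1 : k) ⊗ₜ[A] (z : Q) - (1 : k) ⊗ₜ[A] (f p) = 0
    rw [hξ, sub_self]
  intro q
  constructor
  · intro hq
    obtain ⟨p, hp⟩ := hf' ⟨q, hq⟩
    exact ⟨p, congrArg Subtype.val hp⟩
  · rintro ⟨p, rfl⟩
    exact hgf p

end four

end Groth.Agent.Lib.ArtinFlat
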