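import Mathlib
import Groth.Prelude
import Groth.Agent.Lib.NilpFlat_helper4

/-!
# Flatness of kernels/cokernels in complexes of flat modules over an Artinian local ring (helper4).
APPEND-ONLY once landed.
-/

set_option autoImplicit false
set_option linter.style.haveILetI false

universe u

open TensorProduct CategoryTheory

namespace Groth.Agent.Lib.ArtinFlatCxH4

open Groth.Agent.TorLES Groth.Agent.TorBal Groth.Agent.Lib.NilpFlatH4

section nak

variable {A : Type u} [CommRing A] (I : Ideal A)

theorem top_le_pow_smul {K : Type*} [AddCommGroup K] [Module A K]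
    (h : (⊤ : Submodule A K) ≤ I • (⊤ : Submodule A K)) (n : ℕ) :
    (⊤ : Submodule A K) ≤ I ^ n • (⊤ : Submodule A K) := by
  induction n with
  | zero => rw [pow_zero, Ideal.one_eq_top, Submodule.top_smul]
  | succ n ih =>
    calc (⊤ : Submodule A K) ≤ I • (⊤ : Submodule A K) := h
      _ ≤ I • (I ^ n • (⊤ : Submodule A K)) := Submodule.smul_mono le_rfl ih
      _ = I ^ (n + 1) • (⊤ : Submodule A K) := by rw [pow_succ', Submodule.mul_smul]

theorem eq_zero_of_nilp (N : ℕ) (hN : I ^ N = ⊥) {K : Type*} [AddCommGroup K] [Module A K]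
    (h : ∀ x : K, x ∈ I • (⊤ : Submodule A K)) (x : K) : x = 0 := by
  have h1 := top_le_pow_smul I (fun y _ => h y) N
  rw [hN, Submodule.bot_smul] at h1
  exact (Submodule.mem_bot A).mp (h1 Submodule.mem_top)

end nak

/-- Over a ring with a nilpotent maximal ideal `I`: if `P` is flat and `M/IM → P/IP` is injective,
then `M` and `P/f(M)` are flat (and `f` is injective). -/
theorem key {A : Type u} [CommRing A] (I : Ideal A) [I.IsMaximal] (N : ℕ) (hN : I ^ N = ⊥)
    {M P : Type u} [AddCommGroup M] [Module A M] [AddCommGroup P] [Module A P] [Module.Flat A P]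
    (f : M →ₗ[A] P) (hf : Function.Injective (f.lTensor (A ⧸ I))) :
    Module.Flat A M ∧ Module.Flat A (P ⧸ LinearMap.range f) := by
  have hfr : Function.Injective (f.rTensor (A ⧸ I)) :=
    (LinearMap.lTensor_inj_iff_rTensor_inj (A ⧸ I) f).mp hf
  set M' : Submodule A P := LinearMap.range f with hM'
  let f' : M →ₗ[A] M' := f.rangeRestrict
  have hf's : Function.Surjective f' := LinearMap.surjective_rangeRestrict f
  have hcomp : M'.subtype ∘ₗ f' = f := LinearMap.ext fun x => rfl
  have hcompT : (M'.subtype.rTensor (A ⧸ I)) ∘ₗ (f'.rTensor (A ⧸ I)) = f.rTensor (A ⧸ I) := by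
    rw [← LinearMap.rTensor_comp, hcomp]
  have hf'T_inj : Function.Injective (f'.rTensor (A ⧸ I)) := by
    intro a b hab
    apply hfr
    rw [← hcompT, LinearMap.comp_apply, LinearMap.comp_apply, hab]
  have hf'T_surj : Function.Surjective (f'.rTensor (A ⧸ I)) :=
    LinearMap.rTensor_surjective _ hf's
  have hsub : Function.Injective (M'.subtype.rTensor (A ⧸ I)) := by
    intro a b hab
    obtain ⟨a', rfl⟩ := hf'T_surj a
    obtain ⟨b', rfl⟩ := hf'T_surj b
    have : (f.rTensor (A ⧸ I)) a' = (f.rTensor (A ⧸ I)) b' := by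
      rw [← hcompT]; exact hab
    rw [hfr this]
  have hTorC : TorZero A 1 (P ⧸ M') (A ⧸ I) :=
    (torZero_one_iff_left M'.subtype M'.mkQ (A ⧸ I) (Submodule.injective_subtype _)
      (LinearMap.exact_subtype_mkQ M') (Submodule.mkQ_surjective M')).mpr hsub
  have hCflat : Module.Flat A (P ⧸ M') := by
    refine flat_of_nilpotent I N hN (P ⧸ M') ?_ ?_
    · letI := Ideal.Quotient.field I
      infer_instance
    · exact (torZero_one_iff_left (Submodule.subtype I) (Submodule.mkQ I) (P ⧸ M')
        (Submodule.injective_subtype _) (LinearMap.exact_subtype_mkQ I)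
        (Submodule.mkQ_surjective I)).mp ((torZero_symm 1 _ _).mp hTorC)
  have hM'flat : Module.Flat A M' := by
    rw [Module.Flat.iff_rTensor_injective']
    intro J
    have h3 : TorZero A 2 (P ⧸ M') (A ⧸ J) := torZero_succ_of_flat_left (A ⧸ J) (P ⧸ M') 1
    have h2 : TorZero A 1 P (A ⧸ J) := torZero_succ_of_flat_left (A ⧸ J) P 0
    have h1 : TorZero A 1 M' (A ⧸ J) :=
      torZero_left M'.subtype M'.mkQ (A ⧸ J) (Submodule.injective_subtype _)
        (LinearMap.exact_subtype_mkQ M') (Submodule.mkQ_surjective M') 1 h3 h2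
    exact (torZero_one_iff_left (Submodule.subtype J) (Submodule.mkQ J) M'
        (Submodule.injective_subtype _) (LinearMap.exact_subtype_mkQ J)
        (Submodule.mkQ_surjective J)).mp ((torZero_symm 1 _ _).mp h1)
  have hf'inj : Function.Injective f' := by
    rw [← LinearMap.ker_eq_bot]
    set K : Submodule A M := LinearMap.ker f' with hK
    have hTorM' : TorZero A 1 M' (A ⧸ I) := torZero_succ_of_flat_left (A ⧸ I) M' 0
    have hKinj : Function.Injective (K.subtype.rTensor (A ⧸ I)) :=
      rTensor_injective_of_torZero_one K.subtype f' (A ⧸ I) (Submodule.injective_subtype _)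
        (LinearMap.exact_subtype_ker_map f') hf's hTorM'
    have hzero : ∀ z : K ⊗[A] (A ⧸ I), z = 0 := by
      intro z
      apply hKinj
      rw [map_zero]
      apply hf'T_inj
      rw [map_zero, ← LinearMap.comp_apply, ← LinearMap.rTensor_comp]
      have : f' ∘ₗ K.subtype = 0 := LinearMap.comp_ker_subtype f'
      rw [this, LinearMap.rTensor_zero, LinearMap.zero_apply]
    have hmem : ∀ x : K, x ∈ I • (⊤ : Submodule A K) := by
      intro x
      apply mem_of_one_tmul_eq_zero I K x
      have h1 := hzero (x ⊗ₜ[A] (1 : A ⧸ I))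
      have h2 := congrArg (TensorProduct.comm A K (A ⧸ I)) h1
      rw [TensorProduct.comm_tmul, map_zero] at h2
      exact h2
    rw [Submodule.eq_bot_iff]
    intro x hx
    have := eq_zero_of_nilp I N hN hmem ⟨x, hx⟩
    exact congrArg Subtype.val this
  haveI := hM'flat
  exact ⟨Module.Flat.of_linearEquiv (LinearEquiv.ofBijective f' ⟨hf'inj, hf's⟩), hCflat⟩

theorem red_inj_lift {A : Type u} [CommRing A] {M₁ M₂ M₃ : Type u} [AddCommGroup M₁] [Module A M₁]
    [AddCommGroup M₂] [Module A M₂] [AddCommGroup M₃] [Module A M₃]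
    (k : Type u) [AddCommGroup k] [Module A k]
    (d₁ : M₁ →ₗ[A] M₂) (d₂ : M₂ →ₗ[A] M₃) (h : d₂ ∘ₗ d₁ = 0)
    (hex : Function.Exact (d₁.lTensor k) (d₂.lTensor k)) :
    Function.Injective
      (((LinearMap.range d₁).liftQ d₂ (LinearMap.range_le_ker_iff.mpr h)).lTensor k) := by
  have hcomp : ((LinearMap.range d₁).liftQ d₂ (LinearMap.range_le_ker_iff.mpr h)) ∘ₗ
      (LinearMap.range d₁).mkQ = d₂ := Submodule.liftQ_mkQ _ _ _
  rw [injective_iff_map_eq_zero]
  intro x hx
  obtain ⟨x', rfl⟩ :=
    LinearMap.lTensor_surjective k (Submodule.mkQ_surjective (LinearMap.range d₁)) x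
  rw [← LinearMap.comp_apply, ← LinearMap.lTensor_comp, hcomp] at hx
  obtain ⟨w, rfl⟩ := (hex x').mp hx
  rw [← LinearMap.comp_apply, ← LinearMap.lTensor_comp]
  have : (LinearMap.range d₁).mkQ ∘ₗ d₁ = 0 := LinearMap.range_mkQ_comp d₁
  rw [this, LinearMap.lTensor_zero, LinearMap.zero_apply]

section cx

variable {A : Type u} [CommRing A] [IsLocalRing A]

/-- the reduced complex `k ⊗ C`. -/
noncomputable abbrev KC (C : CochainComplex (ModuleCat.{u} A) ℕ) :
    CochainComplex (ModuleCat.{u} A) ℕ :=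
  ((MonoidalCategory.tensorLeft
    (ModuleCat.of A (IsLocalRing.ResidueField A))).mapHomologicalComplex (ComplexShape.up ℕ)).obj C

theorem red_exact (C : CochainComplex (ModuleCat.{u} A) ℕ) (j : ℕ)
    (h : (KC C).ExactAt (j + 1)) :
    Function.Exact
      (LinearMap.lTensor (A ⧸ IsLocalRing.maximalIdeal A) (C.d j (j + 1)).hom)
      (LinearMap.lTensor (A ⧸ IsLocalRing.maximalIdeal A) (C.d (j + 1) (j + 1 + 1)).hom) := by
  rw [HomologicalComplex.exactAt_iff' _ j (j + 1) (j + 1 + 1) (by simp) (by simp),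
    ShortComplex.ShortExact.moduleCat_exact_iff_function_exact] at h
  exact h

theorem red_zero (C : CochainComplex (ModuleCat.{u} A) ℕ) (h : (KC C).ExactAt 0) :
    Function.Injective
      (LinearMap.lTensor (A ⧸ IsLocalRing.maximalIdeal A) (C.d 0 1).hom) := by
  rw [HomologicalComplex.exactAt_iff' _ 0 0 1 (by simp) (by simp),
    ShortComplex.ShortExact.moduleCat_exact_iff_function_exact] at h
  have h' : Function.Exact ((KC C).d 0 0).hom
      (LinearMap.lTensor (A ⧸ IsLocalRing.maximalIdeal A) (C.d 0 1).hom) := h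
  have hd : ((KC C).d 0 0).hom = 0 := by
    rw [(KC C).shape 0 0 (by simp)]; rfl
  rw [injective_iff_map_eq_zero]
  intro y hy
  obtain ⟨w, hw⟩ := (h' y).mp hy
  rw [← hw, hd, LinearMap.zero_apply]
  rfl

theorem main15133 (A : Type u) [CommRing A] [IsLocalRing A] [IsArtinianRing A] (n : ℕ)
    (C : CochainComplex (ModuleCat.{u} A) ℕ)
    (hflat : ∀ i, i ≤ n → Module.Flat A (C.X (i + 1)))
    (hred : ∀ j, j ≤ n →
      (((MonoidalCategory.tensorLeft (ModuleCat.of A
        (IsLocalRing.ResidueField A))).mapHomologicalComplex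
        (ComplexShape.up ℕ)).obj C).ExactAt j) :
    Module.Flat A (C.X 0) ∧
      Module.Flat A (C.X (n + 1) ⧸ LinearMap.range (C.d n (n + 1)).hom) := by
  obtain ⟨N, hN⟩ : ∃ N, (IsLocalRing.maximalIdeal A) ^ N = ⊥ := by
    have h := IsArtinianRing.isNilpotent_jacobson_bot (R := A)
    rw [IsLocalRing.jacobson_eq_maximalIdeal ⊥ bot_ne_top] at h
    exact h
  haveI h1 : Module.Flat A (C.X 1) := hflat 0 (Nat.zero_le n)
  have h0 := key (IsLocalRing.maximalIdeal A) N hN (C.d 0 1).hom
    (red_zero C (hred 0 (Nat.zero_le n)))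
  have hall : ∀ j, j ≤ n →
      Module.Flat A (C.X (j + 1) ⧸ LinearMap.range (C.d j (j + 1)).hom) := by
    intro j
    induction j with
    | zero => intro _; exact h0.2
    | succ j ih =>
      intro hj
      haveI := ih (by omega)
      haveI : Module.Flat A (C.X (j + 1 + 1)) := hflat (j + 1) hj
      have hdd : (C.d (j + 1) (j + 1 + 1)).hom ∘ₗ (C.d j (j + 1)).hom = 0 := by
        rw [← ModuleCat.hom_comp, C.d_comp_d]; rfl
      have hk := key (IsLocalRing.maximalIdeal A) N hN _
        (red_inj_lift (A ⧸ IsLocalRing.maximalIdeal A) (C.d j (j + 1)).hom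
          (C.d (j + 1) (j + 1 + 1)).hom hdd (red_exact C j (hred (j + 1) hj)))
      have h2 := hk.2
      rw [Submodule.range_liftQ] at h2
      exact h2
  exact ⟨h0.1, hall n le_rfl⟩

end cx

end Groth.Agent.Lib.ArtinFlatCxH4
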