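import Mathlib
import Groth.Agent.Lib.AlgColim2_helper7

/-!
# Artin approximation for functors from approximation for polynomial systems (helper1)
-/

set_option autoImplicit false
universe u
open CategoryTheory Limits

namespace Groth.Agent.Lib.ArtinFunH1

open Groth.Agent.Lib.AlgColim2H7

variable {A : Type u} [CommRing A] (m : Ideal A)

/-- stage lemma: a finitely presented stage of the completion maps to `A` compatibly mod `m^c`. -/
theorem exists_stage_hom
    (hAP : ∀ (k l c : ℕ) (f : Fin l → MvPolynomial (Fin k) A) (â : Fin k → AdicCompletion m A),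
      (∀ i, MvPolynomial.aeval â (f i) = 0) →
      ∃ a : Fin k → A, (∀ i, MvPolynomial.eval a (f i) = 0) ∧
        ∀ j, Ideal.Quotient.mk (m ^ c) (a j) = AdicCompletion.evalₐ m c (â j))
    (c : ℕ) (p : Idx A (AdicCompletion m A)) :
    ∃ g : (Sub p ⧸ Rel p) →+* A, (∀ r : A, g (algebraMap A (Sub p ⧸ Rel p) r) = r) ∧
      ∀ y : Sub p, Ideal.Quotient.mk (m ^ c) (g (Ideal.Quotient.mk (Rel p) y)) =
        AdicCompletion.evalₐ m c (ev A (AdicCompletion m A) y.1) := by
  classical
  haveI : Finite ↥(↑p.1.1 : Set (AdicCompletion m A)) := p.1.1.finite_toSet.to_subtype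
  obtain ⟨k, ⟨e0⟩⟩ := Finite.exists_equiv_fin ↥(↑p.1.1 : Set (AdicCompletion m A))
  obtain ⟨l, ⟨e1⟩⟩ := Finite.exists_equiv_fin ↥p.1.2
  obtain ⟨E, hE⟩ : ∃ E : Sub p ≃ₐ[A] MvPolynomial (Fin k) A, ∀ j : Fin k,
      ((E.symm (MvPolynomial.X j) : Sub p) : MvPolynomial (AdicCompletion m A) A) =
        MvPolynomial.X ((e0.symm j : ↥(↑p.1.1 : Set (AdicCompletion m A))) :
          AdicCompletion m A) := by
    refine ⟨(MvPolynomial.supportedEquivMvPolynomial (R := A)
      (↑p.1.1 : Set (AdicCompletion m A))).trans (MvPolynomial.renameEquiv A e0), ?_⟩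
    intro j
    have h0 : ((MvPolynomial.supportedEquivMvPolynomial (R := A)
        (↑p.1.1 : Set (AdicCompletion m A))).trans (MvPolynomial.renameEquiv A e0)).symm
          (MvPolynomial.X j) =
        (MvPolynomial.supportedEquivMvPolynomial (R := A)
          (↑p.1.1 : Set (AdicCompletion m A))).symm (MvPolynomial.X (e0.symm j)) := by
      show (MvPolynomial.supportedEquivMvPolynomial (R := A) _).symm
        ((MvPolynomial.renameEquiv A e0).symm (MvPolynomial.X j)) = _
      rw [MvPolynomial.renameEquiv_symm, MvPolynomial.renameEquiv_apply, MvPolynomial.rename_X]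
    rw [h0, MvPolynomial.supportedEquivMvPolynomial_symm_X]
  obtain ⟨â, hâ⟩ : ∃ â : Fin k → AdicCompletion m A, ∀ j,
      â j = ((e0.symm j : ↥(↑p.1.1 : Set (AdicCompletion m A))) : AdicCompletion m A) :=
    ⟨fun j => (e0.symm j).1, fun _ => rfl⟩
  have h1 : ((ev A (AdicCompletion m A)).comp (Sub p).val).comp E.symm.toAlgHom =
      MvPolynomial.aeval â := by
    apply MvPolynomial.algHom_ext
    intro j
    show ev A (AdicCompletion m A) ((E.symm (MvPolynomial.X j) : Sub p) :
      MvPolynomial (AdicCompletion m A) A) = MvPolynomial.aeval â (MvPolynomial.X j)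
    rw [hE j, ev_X, MvPolynomial.aeval_X, hâ j]
  have h1' : ∀ y : Sub p, ev A (AdicCompletion m A) y.1 = MvPolynomial.aeval â (E y) := by
    intro y
    have := DFunLike.congr_fun h1 (E y)
    rw [← this]
    show _ = ev A (AdicCompletion m A) ((E.symm (E y) : Sub p) :
      MvPolynomial (AdicCompletion m A) A)
    rw [E.symm_apply_apply]
  have hr : ∀ i : Fin l, ((e1.symm i : ↥p.1.2) : MvPolynomial (AdicCompletion m A) A) ∈ Sub p :=
    fun i => (p.2 _ (e1.symm i).2).1
  obtain ⟨f, hf⟩ : ∃ f : Fin l → MvPolynomial (Fin k) A, ∀ i,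
      f i = E ⟨((e1.symm i : ↥p.1.2) : MvPolynomial (AdicCompletion m A) A), hr i⟩ :=
    ⟨fun i => E ⟨_, hr i⟩, fun _ => rfl⟩
  have h2 : ∀ i, MvPolynomial.aeval â (f i) = 0 := by
    intro i
    rw [hf i, ← h1']
    exact (p.2 _ (e1.symm i).2).2
  obtain ⟨a, ha1, ha2⟩ := hAP k l c f â h2
  have key : ∀ q : MvPolynomial (Fin k) A, Ideal.Quotient.mk (m ^ c) (MvPolynomial.eval a q) =
      AdicCompletion.evalₐ m c (MvPolynomial.aeval â q) := by
    intro q
    induction q using MvPolynomial.induction_on with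
    | C r =>
      rw [MvPolynomial.eval_C, MvPolynomial.aeval_C, AlgHom.commutes]
      rfl
    | add p q hp hq => rw [map_add, map_add, map_add, map_add, hp, hq]
    | mul_X p j hp =>
      rw [map_mul, map_mul, map_mul, map_mul, hp, MvPolynomial.eval_X, MvPolynomial.aeval_X,
        ha2 j]
  have hker : Rel p ≤ RingHom.ker ((MvPolynomial.eval a).comp
      (E : Sub p →+* MvPolynomial (Fin k) A)) := by
    rw [Ideal.span_le]
    intro x hx
    have hx1 : (x : MvPolynomial (AdicCompletion m A) A) ∈ p.1.2 := by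
      simpa only [Set.mem_preimage, Subalgebra.coe_val, Finset.mem_coe] using hx
    rw [SetLike.mem_coe, RingHom.mem_ker]
    have hxi : ((e1.symm (e1 ⟨x.1, hx1⟩) : ↥p.1.2) : MvPolynomial (AdicCompletion m A) A)
        = x.1 := by
      rw [Equiv.symm_apply_apply]
    have hx2 : x = ⟨((e1.symm (e1 ⟨x.1, hx1⟩) : ↥p.1.2) :
        MvPolynomial (AdicCompletion m A) A), hr _⟩ := Subtype.ext hxi.symm
    show MvPolynomial.eval a (E x) = 0
    have := ha1 (e1 ⟨x.1, hx1⟩)
    rw [hf, ← hx2] at this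
    exact this
  refine ⟨Ideal.Quotient.lift (Rel p) ((MvPolynomial.eval a).comp
    (E : Sub p →+* MvPolynomial (Fin k) A)) (fun x hx => hker hx), ?_, ?_⟩
  · intro r
    show (MvPolynomial.eval a) (E (algebraMap A (Sub p) r)) = r
    rw [E.commutes, MvPolynomial.algebraMap_eq, MvPolynomial.eval_C]
  · intro y
    show Ideal.Quotient.mk (m ^ c) (MvPolynomial.eval a (E y)) = _
    rw [key (E y), ← h1' y]

/-- Artin approximation for functors preserving filtered colimits. -/
theorem main14624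
    (hm : m ≠ ⊤)
    (hAP : ∀ (k l c : ℕ) (f : Fin l → MvPolynomial (Fin k) A) (â : Fin k → AdicCompletion m A),
      (∀ i, MvPolynomial.aeval â (f i) = 0) →
      ∃ a : Fin k → A, (∀ i, MvPolynomial.eval a (f i) = 0) ∧
        ∀ j, Ideal.Quotient.mk (m ^ c) (a j) = AdicCompletion.evalₐ m c (â j))
    (F : Under (CommRingCat.of A) ⥤ Type u)
    (hF : ∀ (J : Type u) [SmallCategory J] [IsFiltered J], PreservesColimitsOfShape J F)
    (c : ℕ)
    (π : Under.mk (CommRingCat.ofHom (algebraMap A (AdicCompletion m A))) ⟶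
      Under.mk (CommRingCat.ofHom (algebraMap A (A ⧸ m ^ c))))
    (hπ : π.right = CommRingCat.ofHom
      (AdicCompletion.evalₐ m c : AdicCompletion m A →ₐ[A] A ⧸ m ^ c).toRingHom)
    (ρ : Under.mk (𝟙 (CommRingCat.of A)) ⟶ Under.mk (CommRingCat.ofHom (algebraMap A (A ⧸ m ^ c))))
    (ξ : F.obj (Under.mk (CommRingCat.ofHom (algebraMap A (AdicCompletion m A))))) :
    ∃ η : F.obj (Under.mk (𝟙 (CommRingCat.of A))), F.map ρ η = F.map π ξ := by
  classical
  haveI := hF (Idx A (AdicCompletion m A))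
  have hcol := isColimitOfPreserves F (isColimit (R := A) (A := AdicCompletion m A))
  obtain ⟨p, ξp, hξp⟩ := Types.jointly_surjective_of_isColimit hcol ξ
  obtain ⟨g, hg1, hg2⟩ := exists_stage_hom m hAP c p
  obtain ⟨χ, hχ⟩ : ∃ χ : (D (R := A) (A := AdicCompletion m A)).obj p ⟶
      Under.mk (𝟙 (CommRingCat.of A)), χ.right = CommRingCat.ofHom g :=
    ⟨Under.homMk (CommRingCat.ofHom g) (by
      apply CommRingCat.hom_ext
      apply RingHom.ext
      intro r
      exact hg1 r), rfl⟩
  refine ⟨F.map χ ξp, ?_⟩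
  obtain ⟨ι', hι'⟩ : ∃ ι' : (D (R := A) (A := AdicCompletion m A)).obj p ⟶
      Under.mk (CommRingCat.ofHom (algebraMap A (AdicCompletion m A))),
      ι' = (cocone (R := A) (A := AdicCompletion m A)).ι.app p := ⟨_, rfl⟩
  have hι'r : ∀ y : Sub p, ι'.right.hom (Ideal.Quotient.mk (Rel p) y) =
      ev A (AdicCompletion m A) y.1 := by
    intro y
    rw [hι']
    rfl
  have hξp' : F.map ι' ξp = ξ := by
    rw [hι']
    exact hξp
  have hρ : ρ.right = CommRingCat.ofHom (algebraMap A (A ⧸ m ^ c)) := by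
    have := Under.w ρ
    simpa using this
  have hcomm : χ ≫ ρ = ι' ≫ π := by
    apply Under.UnderMorphism.ext
    rw [Under.comp_right, Under.comp_right, hρ, hπ, hχ]
    apply CommRingCat.hom_ext
    apply RingHom.ext
    intro x
    obtain ⟨y, rfl⟩ := Ideal.Quotient.mk_surjective x
    show algebraMap A (A ⧸ m ^ c) (g (Ideal.Quotient.mk (Rel p) y)) =
      AdicCompletion.evalₐ m c (ι'.right.hom (Ideal.Quotient.mk (Rel p) y))
    rw [hι'r]
    exact hg2 y
  rw [← hξp', ← Functor.map_comp_apply, ← Functor.map_comp_apply, hcomm]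

end Groth.Agent.Lib.ArtinFunH1
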