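import Mathlib
import Groth.Prelude.Def_Wider

/-!
# Lifting along surjections of local Artinian rings: the `C ×_κ κ₀` trick (helper1)
-/

set_option autoImplicit false
universe u v w

namespace Groth.Agent.Lib.ArtinLiftH1

open CategoryTheory AlgebraicGeometry IsLocalRing

section RingLevel

variable {D : Type u} [CommRing D] [IsLocalRing D] {K : Type v} [CommRing K] {k : Type w}
  [CommRing k] (ρ : D →+* K) (φ : k →+* K)

/-- the subring of elements whose "residue" lies in the subfield `φ(k)`. -/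
def sub₀ : Subring D := φ.range.comap ρ

omit [IsLocalRing D] in
lemma mem_sub₀ (d : D) : d ∈ sub₀ ρ φ ↔ ∃ z, φ z = ρ d := Iff.rfl

variable {ρ φ}

lemma isUnit_iff_of_surjective (hK : IsField K) (hρ : Function.Surjective ρ) (d : D) :
    IsUnit d ↔ ρ d ≠ 0 := by
  haveI := hK.nontrivial
  constructor
  · intro h
    exact (h.map ρ).ne_zero
  · intro h
    obtain ⟨κ, hκ⟩ := hK.mul_inv_cancel h
    obtain ⟨e, rfl⟩ := hρ κ
    have hker : RingHom.ker ρ ≤ maximalIdeal D := le_maximalIdeal (by
      rw [Ne, Ideal.eq_top_iff_one, RingHom.mem_ker, map_one]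
      exact one_ne_zero)
    have hmem : d * e - 1 ∈ maximalIdeal D := hker (by
      rw [RingHom.mem_ker, map_sub, map_mul, hκ, map_one, sub_self])
    have hde : IsUnit (d * e) := by
      by_contra hn
      have h1 : d * e ∈ maximalIdeal D := (mem_maximalIdeal _).mpr hn
      have h2 : (1 : D) ∈ maximalIdeal D := by
        have := (maximalIdeal D).sub_mem h1 hmem
        rwa [sub_sub_cancel] at this
      exact (maximalIdeal.isMaximal D).ne_top ((Ideal.eq_top_iff_one _).mpr h2)
    exact isUnit_of_mul_isUnit_left hde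

lemma isUnit_sub₀_iff (hK : IsField K) (hk : IsField k) (hρ : Function.Surjective ρ)
    (d : sub₀ ρ φ) : IsUnit d ↔ ρ d ≠ 0 := by
  constructor
  · intro h
    exact (isUnit_iff_of_surjective hK hρ _).mp (h.map (sub₀ ρ φ).subtype)
  · intro h
    obtain ⟨e, he⟩ := isUnit_iff_exists_inv.mp ((isUnit_iff_of_surjective hK hρ _).mpr h)
    obtain ⟨z, hz⟩ := (mem_sub₀ ρ φ _).mp d.2
    have hz0 : z ≠ 0 := by
      rintro rfl
      rw [map_zero] at hz
      exact h hz.symm
    obtain ⟨z', hz'⟩ := hk.mul_inv_cancel hz0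
    have hρe : ρ e = φ z' := by
      calc ρ e = ρ e * φ (z * z') := by rw [hz', map_one, mul_one]
        _ = (ρ (d : D) * ρ e) * φ z' := by rw [map_mul, hz]; ring
        _ = φ z' := by rw [← map_mul, he, map_one, one_mul]
    have hemem : e ∈ sub₀ ρ φ := ⟨z', hρe.symm⟩
    exact isUnit_iff_exists_inv.mpr ⟨⟨e, hemem⟩, Subtype.ext he⟩

lemma isLocalRing_sub₀ (hK : IsField K) (hk : IsField k) (hρ : Function.Surjective ρ) :
    IsLocalRing (sub₀ ρ φ) := by
  refine IsLocalRing.of_nonunits_add fun a b ha hb => ?_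
  rw [mem_nonunits_iff, isUnit_sub₀_iff hK hk hρ, not_not] at ha hb ⊢
  rw [Subring.coe_add, map_add, ha, hb, add_zero]

lemma isLocalHom_subtype (hK : IsField K) (hk : IsField k) (hρ : Function.Surjective ρ) :
    IsLocalHom (sub₀ ρ φ).subtype :=
  ⟨fun d hd => (isUnit_sub₀_iff hK hk hρ d).mpr ((isUnit_iff_of_surjective hK hρ _).mp hd)⟩

omit [IsLocalRing D] in
lemma finite_over_sub₀ (hρ : Function.Surjective ρ) (hφ : φ.Finite) :
    Module.Finite (sub₀ ρ φ) D := by
  classical
  letI := φ.toAlgebra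
  have hfin : Module.Finite k K := hφ
  obtain ⟨t, ht⟩ := (Module.Finite.fg_top : (⊤ : Submodule k K).FG)
  let lift : K → D := fun κ => Classical.choose (hρ κ)
  have hlift : ∀ κ, ρ (lift κ) = κ := fun κ => Classical.choose_spec (hρ κ)
  let G : Finset D := insert 1 (t.image lift)
  refine ⟨⟨G, ?_⟩⟩
  set N : Submodule (sub₀ ρ φ) D := Submodule.span (sub₀ ρ φ) (G : Set D) with hN
  have h1N : (1 : D) ∈ N := Submodule.subset_span (by simp [G])
  have hker : ∀ d, ρ d = 0 → d ∈ N := by
    intro d hd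
    have hdm : d ∈ sub₀ ρ φ := ⟨0, by rw [map_zero, hd]⟩
    have : d = (⟨d, hdm⟩ : sub₀ ρ φ) • (1 : D) := by
      rw [Subring.smul_def, smul_eq_mul, mul_one]
    rw [this]
    exact N.smul_mem _ h1N
  have key : ∀ κ ∈ Submodule.span k (t : Set K), ∀ d, ρ d = κ → d ∈ N := by
    intro κ hκ
    induction hκ using Submodule.span_induction with
    | mem κ hκ =>
      intro d hd
      have h1 : lift κ ∈ N := Submodule.subset_span (by
        simp only [G, Finset.coe_insert, Finset.coe_image]
        exact Set.mem_insert_of_mem _ ⟨κ, hκ, rfl⟩)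
      have h2 : d - lift κ ∈ N := hker _ (by rw [map_sub, hd, hlift, sub_self])
      have := N.add_mem h2 h1
      rwa [sub_add_cancel] at this
    | zero => exact fun d hd => hker d hd
    | add κ₁ κ₂ _ _ h₁ h₂ =>
      intro d hd
      have h1 : lift κ₁ ∈ N := h₁ _ (hlift κ₁)
      have h2 : d - lift κ₁ ∈ N := h₂ _ (by rw [map_sub, hd, hlift, add_sub_cancel_left])
      have := N.add_mem h2 h1
      rwa [sub_add_cancel] at this
    | smul c κ _ h =>
      intro d hd
      have hl : lift (φ c) ∈ sub₀ ρ φ := ⟨c, (hlift _).symm⟩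
      have h1 : lift κ ∈ N := h _ (hlift κ)
      have h2 : lift (φ c) * lift κ ∈ N := by
        have : lift (φ c) * lift κ = (⟨lift (φ c), hl⟩ : sub₀ ρ φ) • lift κ := by
          rw [Subring.smul_def, smul_eq_mul]
        rw [this]
        exact N.smul_mem _ h1
      have h3 : d - lift (φ c) * lift κ ∈ N := hker _ (by
        rw [map_sub, hd, map_mul, hlift, hlift, Algebra.smul_def]
        exact sub_self _)
      have := N.add_mem h3 h2
      rwa [sub_add_cancel] at this
  rw [eq_top_iff]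
  intro d _
  exact key (ρ d) (by rw [ht]; trivial) d rfl

lemma isArtinianRing_sub₀ [IsArtinianRing D] (hK : IsField K) (hk : IsField k)
    (hρ : Function.Surjective ρ) (hφ : φ.Finite) :
    IsArtinianRing (sub₀ ρ φ) := by
  haveI := isLocalRing_sub₀ (φ := φ) hK hk hρ
  haveI : IsLocalHom (algebraMap (sub₀ ρ φ) D) := isLocalHom_subtype (φ := φ) hK hk hρ
  haveI := finite_over_sub₀ hρ hφ
  have hlen := IsLocalRing.length_restrictScalars (sub₀ ρ φ) D D
  have h1 : Module.length D D ≠ ⊤ := Module.length_ne_top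
  have h2 : Module.length (ResidueField (sub₀ ρ φ)) (ResidueField D) ≠ ⊤ := Module.length_ne_top
  have h3 : Module.length (sub₀ ρ φ) D ≠ ⊤ := by
    rw [hlen]
    exact WithTop.mul_ne_top h1 h2
  rw [Module.length_ne_top_iff, isFiniteLength_iff_isNoetherian_isArtinian] at h3
  haveI := h3.2
  exact isArtinian_of_injective (Algebra.linearMap (sub₀ ρ φ) D) Subtype.val_injective

end RingLevel

section SchemeLevel

variable {X : Scheme.{u}}

/-- congruence of `stalkClosedPointTo` on germs along an equality of morphisms -/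
lemma sct_congr {R : CommRingCat.{u}} [IsLocalRing R] {f₁ f₂ : Spec R ⟶ X} (h : f₁ = f₂)
    (V : X.Opens) (h₁ : f₁ (closedPoint R) ∈ V) (r : Γ(X, V)) :
    (Scheme.stalkClosedPointTo f₁).hom ((X.presheaf.germ V _ h₁).hom r) =
      (Scheme.stalkClosedPointTo f₂).hom ((X.presheaf.germ V _ (h ▸ h₁)).hom r) := by
  subst h
  rfl

/-- cancellation of `Spec` of an injective local homomorphism of local rings -/
lemma SpecMap_cancel {R₀ R : Type u} [CommRing R₀] [CommRing R] [IsLocalRing R₀] [IsLocalRing R]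
    (ι : R₀ →+* R) [IsLocalHom ι] (hι : Function.Injective ι)
    (f₁ f₂ : Spec (CommRingCat.of R₀) ⟶ X)
    (h : Spec.map (CommRingCat.ofHom ι) ≫ f₁ = Spec.map (CommRingCat.ofHom ι) ≫ f₂) :
    f₁ = f₂ := by
  haveI : IsLocalHom (CommRingCat.ofHom ι).hom := ‹IsLocalHom ι›
  have hx : (Spec.map (CommRingCat.ofHom ι)) (closedPoint R) = closedPoint R₀ :=
    Spec_closedPoint (f := CommRingCat.ofHom ι)
  have h12 : f₁ (closedPoint R₀) = f₂ (closedPoint R₀) := by
    have e := congrArg (fun f : Spec (CommRingCat.of R) ⟶ X => f.base (closedPoint R)) h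
    have e1 : f₁ ((Spec.map (CommRingCat.ofHom ι)) (closedPoint R)) =
        f₂ ((Spec.map (CommRingCat.ofHom ι)) (closedPoint R)) := e
    rwa [hx] at e1
  obtain ⟨V, hV, hxV, -⟩ := exists_isAffineOpen_mem_and_subset
    (x := f₁ (closedPoint R₀)) (U := ⊤) trivial
  have hp₁ : f₁ ⁻¹ᵁ V = ⊤ :=
    Scheme.preimage_eq_top_of_closedPoint_mem (R := CommRingCat.of R₀) f₁ hxV
  have hp₂ : f₂ ⁻¹ᵁ V = ⊤ :=
    Scheme.preimage_eq_top_of_closedPoint_mem (R := CommRingCat.of R₀) f₂ (h12 ▸ hxV)
  have hr₁ : Set.range f₁ ⊆ Set.range V.ι := by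
    rw [Scheme.Opens.range_ι]
    rintro _ ⟨y, rfl⟩
    have : y ∈ f₁ ⁻¹ᵁ V := by rw [hp₁]; trivial
    exact this
  have hr₂ : Set.range f₂ ⊆ Set.range V.ι := by
    rw [Scheme.Opens.range_ι]
    rintro _ ⟨y, rfl⟩
    have : y ∈ f₂ ⁻¹ᵁ V := by rw [hp₂]; trivial
    exact this
  have e₁ := IsOpenImmersion.lift_fac V.ι f₁ hr₁
  have e₂ := IsOpenImmersion.lift_fac V.ι f₂ hr₂
  haveI : IsAffine V := hV
  have hg : Spec.map (CommRingCat.ofHom ι) ≫ IsOpenImmersion.lift V.ι f₁ hr₁ =
      Spec.map (CommRingCat.ofHom ι) ≫ IsOpenImmersion.lift V.ι f₂ hr₂ := by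
    rw [← cancel_mono V.ι, Category.assoc, Category.assoc, e₁, e₂, h]
  have hmono : Mono (Spec.map (CommRingCat.ofHom ι)).appTop := by
    have hm : Mono (CommRingCat.ofHom ι) := ConcreteCategory.mono_of_injective _ hι
    have := Scheme.ΓSpecIso_naturality (CommRingCat.ofHom ι)
    have h' : (Spec.map (CommRingCat.ofHom ι)).appTop =
        (Scheme.ΓSpecIso (CommRingCat.of R₀)).hom ≫ CommRingCat.ofHom ι ≫
          (Scheme.ΓSpecIso (CommRingCat.of R)).inv := by
      rw [← Category.assoc, ← this, Category.assoc, Iso.hom_inv_id, Category.comp_id]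
    rw [h']
    infer_instance
  have happ : (IsOpenImmersion.lift V.ι f₁ hr₁).appTop = (IsOpenImmersion.lift V.ι f₂ hr₂).appTop := by
    have := congrArg Scheme.Hom.appTop hg
    rw [Scheme.Hom.comp_appTop, Scheme.Hom.comp_appTop] at this
    exact (cancel_mono _).mp this
  rw [← e₁, ← e₂, ext_of_isAffine happ]

variable {R : Type u} [CommRing R] [IsLocalRing R] (f : Spec (CommRingCat.of R) ⟶ X)
  (R₀ : Subring R) (h : ∀ s, (Scheme.stalkClosedPointTo f).hom s ∈ R₀)

/-- the local homomorphism into the subring -/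
noncomputable def ψ₀ : X.presheaf.stalk (f (closedPoint R)) ⟶ CommRingCat.of R₀ :=
  CommRingCat.ofHom ((Scheme.stalkClosedPointTo f).hom.codRestrict R₀ h)

lemma ψ₀_subtype : ψ₀ f R₀ h ≫ CommRingCat.ofHom R₀.subtype = Scheme.stalkClosedPointTo f := by
  ext s
  rfl

instance isLocalHom_ψ₀ : IsLocalHom (ψ₀ f R₀ h).hom := by
  constructor
  intro s hs
  have h1 : IsUnit ((Scheme.stalkClosedPointTo f).hom s) := hs.map R₀.subtype
  exact IsLocalHom.map_nonunit (f := (Scheme.stalkClosedPointTo f).hom) s h1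

/-- the descended morphism -/
noncomputable def descend : Spec (CommRingCat.of R₀) ⟶ X :=
  Spec.map (ψ₀ f R₀ h) ≫ X.fromSpecStalk (f (closedPoint R))

lemma ι_descend : Spec.map (CommRingCat.ofHom R₀.subtype) ≫ descend f R₀ h = f := by
  rw [descend, ← Category.assoc, ← Spec.map_comp, ψ₀_subtype]
  exact Scheme.Spec_stalkClosedPointTo_fromSpecStalk f

lemma descend_closedPoint [IsLocalRing R₀] :
    descend f R₀ h (closedPoint R₀) = f (closedPoint R) := by
  have e2 : (Spec.map (ψ₀ f R₀ h)) (closedPoint R₀) =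
      closedPoint (X.presheaf.stalk (f (closedPoint R))) := Spec_closedPoint (f := ψ₀ f R₀ h)
  exact (congrArg (fun y => (X.fromSpecStalk (f (closedPoint R))) y) e2).trans
    Scheme.fromSpecStalk_closedPoint

end SchemeLevel

section Main

variable {S T : Scheme.{u}}

/-- the evaluation-at-the-closed-point ring hom `C → κ(x)` -/
noncomputable def ρC (C : Type u) [CommRing C] [IsLocalRing C] :=
  ((stalkClosedPointIso (CommRingCat.of C)).inv ≫
    (Spec (CommRingCat.of C)).residue (closedPoint C)).hom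

lemma ρC_surjective (C : Type u) [CommRing C] [IsLocalRing C] : Function.Surjective (ρC C) := by
  intro y
  obtain ⟨σ, rfl⟩ := (Spec (CommRingCat.of C)).residue_surjective _ y
  refine ⟨(stalkClosedPointIso (CommRingCat.of C)).hom.hom σ, ?_⟩
  have h : (stalkClosedPointIso (CommRingCat.of C)).hom ≫
      (stalkClosedPointIso (CommRingCat.of C)).inv ≫
        (Spec (CommRingCat.of C)).residue (closedPoint C) =
      (Spec (CommRingCat.of C)).residue (closedPoint C) := by
    rw [Iso.hom_inv_id_assoc]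
  exact congrArg (fun f => f.hom σ) h

lemma ρC_sct {C : Type u} [CommRing C] [IsLocalRing C] (a : Spec (CommRingCat.of C) ⟶ T)
    (s : T.presheaf.stalk (a (closedPoint C))) :
    ρC C ((Scheme.stalkClosedPointTo a).hom s) =
      (a.residueFieldMap (closedPoint C)).hom ((T.residue _).hom s) := by
  have h : Scheme.stalkClosedPointTo a ≫ (stalkClosedPointIso (CommRingCat.of C)).inv ≫
      (Spec (CommRingCat.of C)).residue (closedPoint C) =
      T.residue _ ≫ a.residueFieldMap (closedPoint C) := by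
    rw [Scheme.stalkClosedPointTo, Category.assoc, Iso.hom_inv_id_assoc]
    exact (Scheme.residue_residueFieldMap a _).symm
  exact congrArg (fun f => f.hom s) h

set_option backward.isDefEq.respectTransparency.types false in
theorem main18018 (g : T ⟶ S) (t : T)
    (hT : ∀ (C C' : Type u) [CommRing C] [CommRing C'] [IsLocalRing C] [IsLocalRing C']
        [IsArtinianRing C] [IsArtinianRing C'] (π : C' →+* C), Function.Surjective π →
        ∀ (a : Spec (CommRingCat.of C) ⟶ T) (b : Spec (CommRingCat.of C') ⟶ S),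
          a (IsLocalRing.closedPoint C) = t →
          Function.Surjective (a.residueFieldMap (IsLocalRing.closedPoint C)).hom →
          Spec.map (CommRingCat.ofHom π) ≫ b = a ≫ g →
          ∃ c : Spec (CommRingCat.of C') ⟶ T,
            Spec.map (CommRingCat.ofHom π) ≫ c = a ∧ c ≫ g = b) :
    ∀ (C C' : Type u) [CommRing C] [CommRing C'] [IsLocalRing C] [IsLocalRing C']
        [IsArtinianRing C] [IsArtinianRing C'] (π : C' →+* C), Function.Surjective π →
        ∀ (a : Spec (CommRingCat.of C) ⟶ T) (b : Spec (CommRingCat.of C') ⟶ S),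
          a (IsLocalRing.closedPoint C) = t →
          (a.residueFieldMap (IsLocalRing.closedPoint C)).hom.Finite →
          Spec.map (CommRingCat.ofHom π) ≫ b = a ≫ g →
          ∃ c : Spec (CommRingCat.of C') ⟶ T,
            Spec.map (CommRingCat.ofHom π) ≫ c = a ∧ c ≫ g = b := by
  intro C C' _ _ _ _ _ _ π hπ a b hat hfin hcomp
  subst hat
  haveI hπloc : IsLocalHom π := IsLocalHom.of_surjective π hπ
  haveI : IsLocalHom (CommRingCat.ofHom π).hom := hπloc
  have hρ := ρC_surjective C
  have hρ' : Function.Surjective ((ρC C).comp π) := hρ.comp hπ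
  have hK : IsField ((Spec (CommRingCat.of C)).residueField (closedPoint C)) :=
    @Field.toIsField _ ((Spec (CommRingCat.of C)).instFieldCarrierResidueField (closedPoint C))
  have hk : IsField (T.residueField (a (closedPoint C))) :=
    @Field.toIsField _ (T.instFieldCarrierResidueField (a (closedPoint C)))
  set φ := (a.residueFieldMap (closedPoint C)).hom with hφ
  have hfin' : φ.Finite := hfin
  haveI : IsLocalRing (sub₀ (ρC C) φ) := isLocalRing_sub₀ hK hk hρ
  haveI : IsLocalRing (sub₀ ((ρC C).comp π) φ) := isLocalRing_sub₀ hK hk hρ'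
  haveI : IsArtinianRing (sub₀ (ρC C) φ) := isArtinianRing_sub₀ hK hk hρ hfin'
  haveI : IsArtinianRing (sub₀ ((ρC C).comp π) φ) := isArtinianRing_sub₀ hK hk hρ' hfin'
  haveI : IsLocalHom (sub₀ (ρC C) φ).subtype := isLocalHom_subtype hK hk hρ
  have ha_mem : ∀ s, (Scheme.stalkClosedPointTo a).hom s ∈ sub₀ (ρC C) φ :=
    fun s => ⟨(T.residue _).hom s, (ρC_sct a s).symm⟩
  have hb_mem : ∀ s, (Scheme.stalkClosedPointTo b).hom s ∈ sub₀ ((ρC C).comp π) φ := by
    intro s
    obtain ⟨V, hV, r, rfl⟩ := S.presheaf.exists_germ_eq s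
    show π ((Scheme.stalkClosedPointTo b).hom (S.presheaf.germ V _ hV r)) ∈ sub₀ (ρC C) φ
    have h_eq : Spec.map (Scheme.stalkClosedPointTo b ≫ CommRingCat.ofHom π) ≫
        S.fromSpecStalk (b (closedPoint C')) = a ≫ g := by
      rw [Spec.map_comp, Category.assoc, Scheme.Spec_stalkClosedPointTo_fromSpecStalk, hcomp]
    haveI hloc : IsLocalHom (Scheme.stalkClosedPointTo b ≫ CommRingCat.ofHom π).hom :=
      inferInstanceAs (IsLocalHom
        ((CommRingCat.ofHom π).hom.comp (Scheme.stalkClosedPointTo b).hom))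
    have e2 : (Spec.map (Scheme.stalkClosedPointTo b ≫ CommRingCat.ofHom π)) (closedPoint C) =
        closedPoint (S.presheaf.stalk (b (closedPoint C'))) :=
      Spec_closedPoint (f := Scheme.stalkClosedPointTo b ≫ CommRingCat.ofHom π)
    have hpt : (Spec.map (Scheme.stalkClosedPointTo b ≫ CommRingCat.ofHom π) ≫
        S.fromSpecStalk (b (closedPoint C'))) (closedPoint C) = b (closedPoint C') :=
      (congrArg (fun y => (S.fromSpecStalk (b (closedPoint C'))) y) e2).trans
        Scheme.fromSpecStalk_closedPoint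
    have hV' : (Spec.map (Scheme.stalkClosedPointTo b ≫ CommRingCat.ofHom π) ≫
        S.fromSpecStalk (b (closedPoint C'))) (closedPoint C) ∈ V := hpt.symm ▸ hV
    have stepA := congrArg (fun f => f.hom r)
      (Scheme.germ_stalkClosedPointTo_Spec_fromSpecStalk
        (Scheme.stalkClosedPointTo b ≫ CommRingCat.ofHom π) V hV')
    simp only [CommRingCat.hom_comp, RingHom.comp_apply, CommRingCat.hom_ofHom] at stepA
    have hV'' : (a ≫ g) (closedPoint C) ∈ V := by
      rw [← h_eq]
      exact hV'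
    have stepC : ∀ (F' : Spec (CommRingCat.of C) ⟶ S) (hF : F' = a ≫ g)
        (hm : F' (closedPoint C) ∈ V),
        (Scheme.stalkClosedPointTo F').hom ((S.presheaf.germ V _ hm).hom r) =
        (Scheme.stalkClosedPointTo (a ≫ g)).hom ((S.presheaf.germ V _ hV'').hom r) := by
      intro F' hF hm
      subst hF
      rfl
    have stepD : (Scheme.stalkClosedPointTo (a ≫ g)).hom
          ((S.presheaf.germ V _ hV'').hom r) =
        (Scheme.stalkClosedPointTo a).hom
          ((g.stalkMap _).hom ((S.presheaf.germ V _ hV'').hom r)) := by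
      rw [Scheme.stalkClosedPointTo_comp]
      rfl
    show π ((Scheme.stalkClosedPointTo b).hom ((S.presheaf.germ V _ hV).hom r)) ∈ sub₀ (ρC C) φ
    rw [← stepA, stepC _ h_eq hV', stepD]
    exact ha_mem _
  set C₀ := sub₀ (ρC C) φ with hC₀
  set C₀' := sub₀ ((ρC C).comp π) φ with hC₀'
  let a₀ := descend a C₀ ha_mem
  let b₀ := descend b C₀' hb_mem
  let π₀ : C₀' →+* C₀ := (π.comp C₀'.subtype).codRestrict C₀ (fun c => c.2)
  have hπ₀ : Function.Surjective π₀ := by
    rintro ⟨c, hc⟩
    obtain ⟨c', rfl⟩ := hπ c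
    exact ⟨⟨c', hc⟩, rfl⟩
  have hsq : CommRingCat.ofHom π₀ ≫ CommRingCat.ofHom C₀.subtype =
      CommRingCat.ofHom C₀'.subtype ≫ CommRingCat.ofHom π := rfl
  have hsq' : Spec.map (CommRingCat.ofHom C₀.subtype) ≫ Spec.map (CommRingCat.ofHom π₀) =
      Spec.map (CommRingCat.ofHom π) ≫ Spec.map (CommRingCat.ofHom C₀'.subtype) := by
    rw [← Spec.map_comp, ← Spec.map_comp, hsq]
  have h1 : a₀ (closedPoint C₀) = a (closedPoint C) := descend_closedPoint a C₀ ha_mem
  have ha₀ : Spec.map (CommRingCat.ofHom C₀.subtype) ≫ a₀ = a := ι_descend a C₀ ha_mem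
  have hb₀ : Spec.map (CommRingCat.ofHom C₀'.subtype) ≫ b₀ = b := ι_descend b C₀' hb_mem
  have h3 : Spec.map (CommRingCat.ofHom π₀) ≫ b₀ = a₀ ≫ g := by
    apply SpecMap_cancel C₀.subtype Subtype.val_injective
    rw [← Category.assoc, hsq', Category.assoc, hb₀, hcomp, ← Category.assoc, ha₀]
  have h2 : Function.Surjective (a₀.residueFieldMap (closedPoint C₀)).hom := by
    intro y
    obtain ⟨σ, rfl⟩ := (Spec (CommRingCat.of C₀)).residue_surjective _ y
    obtain ⟨z, hz⟩ := (mem_sub₀ _ _ _).mp ((stalkClosedPointIso (CommRingCat.of C₀)).hom.hom σ).2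
    obtain ⟨s, rfl⟩ := T.residue_surjective _ z
    obtain ⟨U, hU, r, rfl⟩ := T.presheaf.exists_germ_eq s
    have hU' : a₀ (closedPoint C₀) ∈ U := h1.symm ▸ hU
    have key := congrArg (fun f => f.hom r)
      (Scheme.germ_stalkClosedPointTo_Spec_fromSpecStalk (ψ₀ a C₀ ha_mem) U hU')
    have k1 : (stalkClosedPointIso (CommRingCat.of C₀)).hom.hom
        ((a₀.stalkMap (closedPoint C₀)).hom (T.presheaf.germ U _ hU' r)) =
        (ψ₀ a C₀ ha_mem).hom (T.presheaf.germ U _ hU r) := key
    have k1' : ρC C ((stalkClosedPointIso (CommRingCat.of C₀)).hom.hom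
        ((a₀.stalkMap (closedPoint C₀)).hom (T.presheaf.germ U _ hU' r)) : C₀) =
        φ ((T.residue _).hom (T.presheaf.germ U _ hU r)) := by
      rw [k1]
      exact ρC_sct a _
    refine ⟨(T.residue _).hom (T.presheaf.germ U _ hU' r), ?_⟩
    have e1 := congrArg (fun f => f.hom (T.presheaf.germ U _ hU' r))
      (Scheme.residue_residueFieldMap a₀ (closedPoint C₀))
    refine e1.trans ?_
    show IsLocalRing.residue _ ((a₀.stalkMap (closedPoint C₀)).hom (T.presheaf.germ U _ hU' r)) =
      IsLocalRing.residue _ σ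
    rw [← sub_eq_zero, ← map_sub, IsLocalRing.residue_eq_zero_iff, mem_maximalIdeal,
      mem_nonunits_iff]
    intro hunit
    have hu2 := hunit.map (stalkClosedPointIso (CommRingCat.of C₀)).hom.hom
    rw [map_sub, isUnit_sub₀_iff hK hk hρ] at hu2
    apply hu2
    show ρC C (_ - _) = 0
    rw [map_sub, k1', ← hz, sub_self]
  obtain ⟨c₀, hc1, hc2⟩ := hT C₀ C₀' π₀ hπ₀ a₀ b₀ h1 h2 h3
  refine ⟨Spec.map (CommRingCat.ofHom C₀'.subtype) ≫ c₀, ?_, ?_⟩
  · rw [← Category.assoc, ← hsq', Category.assoc, hc1, ha₀]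
  · rw [Category.assoc, hc2, hb₀]

end Main

end Groth.Agent.Lib.ArtinLiftH1
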