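import Mathlib
import Groth.Prelude.Def_Wider
import Groth.Agent.Lib.ArtinLift_helper1

/-!
# Étale lifting along surjections of local Artinian rings (helper1)
-/

set_option autoImplicit false
universe u

namespace Groth.Agent.Lib.ArtinLiftH1

open CategoryTheory AlgebraicGeometry IsLocalRing

section RingLift

lemma ring_lift {R A B C : Type u} [CommRing R] [CommRing A] [CommRing B] [CommRing C]
    (ε : R →+* A) (hε : ε.Etale) (π : B →+* C) (hπ : Function.Surjective π)
    (hnil : IsNilpotent (RingHom.ker π)) (α : A →+* C) (γ' : R →+* B)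
    (h : π.comp γ' = α.comp ε) : ∃ γ : A →+* B, π.comp γ = α ∧ γ.comp ε = γ' := by
  letI := ε.toAlgebra
  letI := γ'.toAlgebra
  letI : Algebra R C := (π.comp γ').toAlgebra
  haveI : Algebra.Etale R A := hε
  let f : A →ₐ[R] C :=
    { α with
      commutes' := fun r => by
        show α (ε r) = π (γ' r)
        exact (congrArg (fun φ : R →+* C => φ r) h).symm }
  let g : B →ₐ[R] C :=
    { π with
      commutes' := fun r => rfl }
  have hg : Function.Surjective g := hπ
  have hnil' : IsNilpotent (RingHom.ker (g : B →+* C)) := hnil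
  refine ⟨(Algebra.FormallySmooth.liftOfSurjective f g hg hnil').toRingHom, ?_, ?_⟩
  · ext x
    exact Algebra.FormallySmooth.liftOfSurjective_apply f g hg hnil' x
  · ext r
    exact (Algebra.FormallySmooth.liftOfSurjective f g hg hnil').commutes r

lemma isNilpotent_ker_of_artinian {B C : Type u} [CommRing B] [CommRing C] [IsLocalRing B]
    [IsArtinianRing B] [Nontrivial C] (π : B →+* C) : IsNilpotent (RingHom.ker π) := by
  obtain ⟨n, hn⟩ := IsArtinianRing.isNilpotent_jacobson_bot (R := B)
  rw [jacobson_eq_maximalIdeal _ bot_ne_top] at hn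
  have hle : RingHom.ker π ≤ maximalIdeal B :=
    le_maximalIdeal (RingHom.ker_ne_top π)
  refine ⟨n, ?_⟩
  rw [Ideal.zero_eq_bot, eq_bot_iff] at hn ⊢
  exact (Ideal.pow_right_mono hle n).trans hn

end RingLift

section Etale

variable {U T : Scheme.{u}}

lemma finite_residueFieldMap_of_etale (e : U ⟶ T) [Etale e] (u : U) :
    (e.residueFieldMap u).hom.Finite := by
  algebraize [(e.stalkMap u).hom]
  have : IsLocalHom (algebraMap (T.presheaf.stalk (e u)) (U.presheaf.stalk u)) :=
    inferInstanceAs <| IsLocalHom (e.stalkMap u).hom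
  have : Algebra.EssFiniteType (T.presheaf.stalk (e u)) (U.presheaf.stalk u) := by
    rw [← RingHom.essFiniteType_algebraMap, RingHom.algebraMap_toAlgebra]
    exact LocallyOfFiniteType.stalkMap e u
  have : Algebra.FormallyUnramified (T.presheaf.stalk (e u)) (U.presheaf.stalk u) := by
    rw [← RingHom.formallyUnramified_algebraMap, RingHom.algebraMap_toAlgebra]
    exact FormallyUnramified.stalkMap e u
  have h : Module.Finite (IsLocalRing.ResidueField (T.presheaf.stalk (e u)))
      (IsLocalRing.ResidueField (U.presheaf.stalk u)) := inferInstance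
  have h2 : (algebraMap (IsLocalRing.ResidueField (T.presheaf.stalk (e u)))
      (IsLocalRing.ResidueField (U.presheaf.stalk u))).Finite := RingHom.finite_algebraMap.mpr h
  exact h2

set_option backward.isDefEq.respectTransparency.types false in
theorem etale_lift (e : U ⟶ T) [Etale e] {C C' : Type u} [CommRing C] [CommRing C']
    [IsLocalRing C] [IsLocalRing C'] [IsArtinianRing C'] (π : C' →+* C)
    (hπ : Function.Surjective π)
    (a : Spec (CommRingCat.of C) ⟶ U) (c' : Spec (CommRingCat.of C') ⟶ T)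
    (hsq : Spec.map (CommRingCat.ofHom π) ≫ c' = a ≫ e) :
    ∃ c : Spec (CommRingCat.of C') ⟶ U,
      Spec.map (CommRingCat.ofHom π) ≫ c = a ∧ c ≫ e = c' := by
  haveI : IsLocalHom π := IsLocalHom.of_surjective π hπ
  haveI : IsLocalHom (CommRingCat.ofHom π).hom := ‹IsLocalHom π›
  have hx : (Spec.map (CommRingCat.ofHom π)) (closedPoint C) = closedPoint C' :=
    Spec_closedPoint (f := CommRingCat.ofHom π)
  have hpt : c' (closedPoint C') = e (a (closedPoint C)) := by
    have e0 := congrArg (fun f : Spec (CommRingCat.of C) ⟶ T => f.base (closedPoint C)) hsq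
    have e1 : c' ((Spec.map (CommRingCat.ofHom π)) (closedPoint C)) = e (a (closedPoint C)) := e0
    rwa [hx] at e1
  obtain ⟨T', hT', htT', -⟩ := exists_isAffineOpen_mem_and_subset
    (x := e (a (closedPoint C))) (U := ⊤) trivial
  obtain ⟨U', hU', huU', hUle⟩ := exists_isAffineOpen_mem_and_subset
    (x := a (closedPoint C)) (U := e ⁻¹ᵁ T') htT'
  have hle : U' ≤ e ⁻¹ᵁ T' := hUle
  have ha : (⊤ : (Spec (CommRingCat.of C)).Opens) ≤ a ⁻¹ᵁ U' :=
    (Scheme.preimage_eq_top_of_closedPoint_mem (R := CommRingCat.of C) a huU').ge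
  have hc' : (⊤ : (Spec (CommRingCat.of C')).Opens) ≤ c' ⁻¹ᵁ T' :=
    (Scheme.preimage_eq_top_of_closedPoint_mem (R := CommRingCat.of C') c'
      (hpt.symm ▸ htT')).ge
  have fa := IsAffineOpen.SpecMap_appLE_fromSpec a hU' (isAffineOpen_top _) ha
  rw [IsAffineOpen.fromSpec_top, Iso.eq_inv_comp, Scheme.isoSpec_Spec_hom, ← Category.assoc,
    ← Spec.map_comp] at fa
  have fc := IsAffineOpen.SpecMap_appLE_fromSpec c' hT' (isAffineOpen_top _) hc'
  rw [IsAffineOpen.fromSpec_top, Iso.eq_inv_comp, Scheme.isoSpec_Spec_hom, ← Category.assoc,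
    ← Spec.map_comp] at fc
  have fe := IsAffineOpen.SpecMap_appLE_fromSpec e hT' hU' hle
  set α := a.appLE U' ⊤ ha ≫ (Scheme.ΓSpecIso (CommRingCat.of C)).hom with hα
  set γ' := c'.appLE T' ⊤ hc' ≫ (Scheme.ΓSpecIso (CommRingCat.of C')).hom with hγ'
  set ε := e.appLE T' U' hle with hε
  have hring : γ' ≫ CommRingCat.ofHom π = ε ≫ α := by
    apply Spec.map_injective
    rw [← cancel_mono hT'.fromSpec, Spec.map_comp, Category.assoc, fc, hsq, Spec.map_comp,
      Category.assoc, fe, ← Category.assoc, fa]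
  have hεet : ε.hom.Etale :=
    HasRingHomProperty.appLE @Etale e ‹Etale e› ⟨T', hT'⟩ ⟨U', hU'⟩ hle
  have hnil : IsNilpotent (RingHom.ker π) := isNilpotent_ker_of_artinian π
  obtain ⟨γ, hγ1, hγ2⟩ := ring_lift ε.hom hεet π hπ hnil α.hom γ'.hom
    (congrArg CommRingCat.Hom.hom hring)
  refine ⟨Spec.map (CommRingCat.ofHom γ) ≫ hU'.fromSpec, ?_, ?_⟩
  · have h1 : CommRingCat.ofHom γ ≫ CommRingCat.ofHom π = α := CommRingCat.hom_ext hγ1
    rw [← Category.assoc, ← Spec.map_comp, h1, fa]
  · have h2 : ε ≫ CommRingCat.ofHom γ = γ' := CommRingCat.hom_ext hγ2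
    rw [Category.assoc, ← fe, ← Category.assoc, ← Spec.map_comp, h2, fc]

end Etale

section Main

variable {S T U : Scheme.{u}}

set_option backward.isDefEq.respectTransparency.types false in
theorem main18017 (g : T ⟶ S) (e : U ⟶ T) [Etale e] (u : U)
    (hT : ∀ (C C' : Type u) [CommRing C] [CommRing C'] [IsLocalRing C] [IsLocalRing C']
        [IsArtinianRing C] [IsArtinianRing C'] (π : C' →+* C), Function.Surjective π →
        ∀ (a : Spec (CommRingCat.of C) ⟶ T) (b : Spec (CommRingCat.of C') ⟶ S),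
          a (IsLocalRing.closedPoint C) = e u →
          Function.Surjective (a.residueFieldMap (IsLocalRing.closedPoint C)).hom →
          Spec.map (CommRingCat.ofHom π) ≫ b = a ≫ g →
          ∃ c : Spec (CommRingCat.of C') ⟶ T,
            Spec.map (CommRingCat.ofHom π) ≫ c = a ∧ c ≫ g = b) :
    ∀ (C C' : Type u) [CommRing C] [CommRing C'] [IsLocalRing C] [IsLocalRing C']
        [IsArtinianRing C] [IsArtinianRing C'] (π : C' →+* C), Function.Surjective π →
        ∀ (a : Spec (CommRingCat.of C) ⟶ U) (b : Spec (CommRingCat.of C') ⟶ S),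
          a (IsLocalRing.closedPoint C) = u →
          Function.Surjective (a.residueFieldMap (IsLocalRing.closedPoint C)).hom →
          Spec.map (CommRingCat.ofHom π) ≫ b = a ≫ (e ≫ g) →
          ∃ c : Spec (CommRingCat.of C') ⟶ U,
            Spec.map (CommRingCat.ofHom π) ≫ c = a ∧ c ≫ (e ≫ g) = b := by
  intro C C' _ _ _ _ _ _ π hπ a b hau hsurj hcomp
  subst hau
  have hfin : ((a ≫ e).residueFieldMap (closedPoint C)).hom.Finite := by
    rw [Scheme.residueFieldMap_comp]
    show ((a.residueFieldMap (closedPoint C)).hom.comp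
      (e.residueFieldMap (a (closedPoint C))).hom).Finite
    exact RingHom.Finite.comp (RingHom.Finite.of_surjective _ hsurj)
      (finite_residueFieldMap_of_etale e _)
  obtain ⟨c', hc1, hc2⟩ := main18018 g (e (a (closedPoint C))) hT C C' π hπ (a ≫ e) b rfl hfin
    (by rw [hcomp, Category.assoc])
  obtain ⟨c, h1, h2⟩ := etale_lift e π hπ a c' hc1
  exact ⟨c, h1, by rw [← Category.assoc, h2, hc2]⟩

end Main

end Groth.Agent.Lib.ArtinLiftH1
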