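import Mathlib
import Groth.Agent.Lib.ArtinLocalFlat_helper9

/-! Regular sequences on flat modules over an Artinian local ring can be tested modulo a proper
ideal. -/

namespace Groth.Agent.Lib.ArtinLocalReg

open IsLocalRing Groth.Agent.Lib.ArtinLocalFlat RingTheory.Sequence Submodule
open scoped Pointwise

universe u v

section iso

variable {S : Type*} [CommRing S] (M : Type*) [AddCommGroup M] [Module S M]

/-- `(M/rM)/K(M/rM) ≅ (M/KM)/r(M/KM)`. -/
noncomputable def quotSwap (K : Ideal S) (r : S) :
    (QuotSMulTop r M ⧸ (K • ⊤ : Submodule S (QuotSMulTop r M))) ≃ₗ[S]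
      QuotSMulTop r (M ⧸ (K • ⊤ : Submodule S M)) :=
  (quotEquivOfEq _ _ (by rw [map_smul'', Submodule.map_top, range_mkQ])).symm ≪≫ₗ
    quotientQuotientEquivQuotientSup (r • ⊤ : Submodule S M) (K • ⊤) ≪≫ₗ
    quotEquivOfEq _ _ (sup_comm _ _) ≪≫ₗ
    (quotientQuotientEquivQuotientSup (K • ⊤ : Submodule S M) (r • ⊤)).symm ≪≫ₗ
    quotEquivOfEq _ _ (by rw [map_pointwise_smul, Submodule.map_top, range_mkQ])

end iso

variable {A : Type u} [CommRing A] [IsLocalRing A] {S : Type*} [CommRing S] [Algebra A S]

section single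

variable {M : Type*} [AddCommGroup M] [Module S M] [Module A M] [IsScalarTower A S M]

omit [IsLocalRing A] in
lemma isSMulRegular_quot_iff (J : Ideal A) (r : S) :
    IsSMulRegular (M ⧸ ((J.map (algebraMap A S)) • ⊤ : Submodule S M)) r ↔
      InjMod ((LinearMap.lsmul S M r).restrictScalars A) J := by
  have hJ := Ideal.smul_restrictScalars J (⊤ : Submodule S M)
  rw [Submodule.restrictScalars_top] at hJ
  unfold InjMod
  rw [← hJ]
  simp only [Submodule.restrictScalars_mem, LinearMap.coe_restrictScalars, LinearMap.lsmul_apply]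
  rw [isSMulRegular_iff_right_eq_zero_of_smul]
  constructor
  · intro h x hx
    rw [← Submodule.Quotient.mk_eq_zero] at hx ⊢
    exact h _ hx
  · intro h x hx
    obtain ⟨x, rfl⟩ := Submodule.Quotient.mk_surjective _ x
    rw [← Submodule.Quotient.mk_smul, Submodule.Quotient.mk_eq_zero] at hx
    rw [Submodule.Quotient.mk_eq_zero]
    exact h x hx

omit [IsLocalRing A] in
lemma isSMulRegular_iff (r : S) :
    IsSMulRegular M r ↔ InjMod ((LinearMap.lsmul S M r).restrictScalars A) ⊥ := by
  rw [injMod_bot_iff]
  rfl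

omit [IsLocalRing A] in
lemma range_lsmul (r : S) :
    LinearMap.range ((LinearMap.lsmul S M r).restrictScalars A) =
      (r • (⊤ : Submodule S M)).restrictScalars A := by
  ext x
  simp only [LinearMap.mem_range, LinearMap.coe_restrictScalars, LinearMap.lsmul_apply,
    Submodule.restrictScalars_mem, Submodule.mem_smul_pointwise_iff_exists, Submodule.mem_top,
    true_and]

variable [Module.Flat A M] (hnil : IsNilpotent (maximalIdeal A)) (I : Ideal A) (hI : I ≠ ⊤)

include hnil hI

theorem isSMulRegular_iff_quot (r : S) :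
    IsSMulRegular M r ↔ IsSMulRegular (M ⧸ ((I.map (algebraMap A S)) • ⊤ : Submodule S M)) r := by
  rw [isSMulRegular_iff (A := A), isSMulRegular_quot_iff]
  constructor
  · intro h
    exact injMod_of_injMod_maximal _ hnil (injMod_maximal_of_injMod _ hnil ⊥ bot_ne_top h) I
  · intro h
    exact injMod_of_injMod_maximal _ hnil (injMod_maximal_of_injMod _ hnil I hI h) ⊥

omit hI in
theorem flat_quotSMulTop (r : S) (h : IsSMulRegular M r) : Module.Flat A (QuotSMulTop r M) := by
  rw [isSMulRegular_iff (A := A)] at h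
  have h2 := flat_quotient_range _ hnil (injMod_maximal_of_injMod _ hnil ⊥ bot_ne_top h)
  exact Module.Flat.of_linearEquiv
    ((Submodule.Quotient.restrictScalarsEquiv A (r • (⊤ : Submodule S M))).symm.trans
      (Submodule.quotEquivOfEq _ _ (range_lsmul (A := A) r).symm))

end single

section nakayama

variable {M : Type*} [AddCommGroup M] [Module S M] [Module A M] [IsScalarTower A S M]

/-- nilpotent Nakayama. -/
lemma subsingleton_of_quot (hnil : IsNilpotent (maximalIdeal A)) (I : Ideal A) (hI : I ≠ ⊤)
    (h : Subsingleton (M ⧸ ((I.map (algebraMap A S)) • ⊤ : Submodule S M))) : Subsingleton M := by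
  rw [Submodule.Quotient.subsingleton_iff] at h
  obtain ⟨n, hn⟩ := hnil
  have hIm : I ≤ maximalIdeal A := IsLocalRing.le_maximalIdeal hI
  have hIn : I ^ n = ⊥ := by
    rw [eq_bot_iff, ← Ideal.zero_eq_bot, ← hn]
    exact Ideal.pow_right_mono hIm n
  have hJ := Ideal.smul_restrictScalars I (⊤ : Submodule S M)
  rw [Submodule.restrictScalars_top, h, Submodule.restrictScalars_top] at hJ
  have key : ∀ k : ℕ, (I ^ k) • (⊤ : Submodule A M) = ⊤ := by
    intro k
    induction k with
    | zero => rw [pow_zero, Ideal.one_eq_top, Submodule.top_smul]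
    | succ k ih => rw [pow_succ, mul_smul, ← hJ, ih]
  have := key n
  rw [hIn, Submodule.bot_smul] at this
  exact (Submodule.subsingleton_iff A).mp (subsingleton_of_bot_eq_top this)

end nakayama

section main

/-- regular sequences on a flat module can be tested modulo `I`. -/
theorem isRegular_iff_quot (hnil : IsNilpotent (maximalIdeal A)) (I : Ideal A) (hI : I ≠ ⊤)
    (rs : List S) : ∀ (M : Type v) [AddCommGroup M] [Module S M] [Module A M] [IsScalarTower A S M]
    [Module.Flat A M],
    IsRegular M rs ↔ IsRegular (M ⧸ ((I.map (algebraMap A S)) • ⊤ : Submodule S M)) rs := by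
  induction rs with
  | nil =>
    intro M _ _ _ _ _
    rw [isRegular_iff, isRegular_iff]
    simp only [IsWeaklyRegular.nil, Ideal.ofList_nil, Submodule.bot_smul, true_and]
    have key : ∀ (N : Type v) [AddCommGroup N] [Module S N],
        (⊤ : Submodule S N) ≠ ⊥ ↔ ¬ Subsingleton N := by
      intro N _ _
      rw [ne_comm, Ne, subsingleton_iff_bot_eq_top, Submodule.subsingleton_iff]
    rw [key, key]
    refine not_congr ⟨fun h => ?_, fun h => subsingleton_of_quot hnil I hI h⟩
    infer_instance
  | cons r rs ih =>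
    intro M _ _ _ _ _
    rw [isRegular_cons_iff, isRegular_cons_iff, ← isSMulRegular_iff_quot hnil I hI r]
    refine and_congr_right fun hr => ?_
    haveI := flat_quotSMulTop hnil r hr
    rw [ih (QuotSMulTop r M)]
    exact (quotSwap M (I.map (algebraMap A S)) r).isRegular_congr rs

/-- ring version. -/
theorem isRegular_iff_ring (hnil : IsNilpotent (maximalIdeal A)) (I : Ideal A) (hI : I ≠ ⊤)
    {S : Type v} [CommRing S] [Algebra A S] [Module.Flat A S] (rs : List S) :
    IsRegular S rs ↔ IsRegular (S ⧸ I.map (algebraMap A S))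
      (rs.map (Ideal.Quotient.mk (I.map (algebraMap A S)))) := by
  rw [isRegular_iff_quot hnil I hI rs S]
  have h : ((I.map (algebraMap A S)) • ⊤ : Submodule S S) = I.map (algebraMap A S) := by
    rw [smul_eq_mul, Ideal.mul_top]
  refine (quotEquivOfEq _ _ h).toAddEquiv.isRegular_congr ?_
  rw [List.forall₂_map_right_iff, List.forall₂_same]
  intro r _ x
  obtain ⟨y, rfl⟩ := Submodule.Quotient.mk_surjective _ x
  rfl

end main

end Groth.Agent.Lib.ArtinLocalReg

namespace Groth.Agent.Lib.ArtinLocalReg

open IsLocalRing Groth.Agent.Lib.ArtinLocalFlat RingTheory.Sequence Submodule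
open scoped Pointwise

universe u v

section flatquot

variable {A : Type u} [CommRing A] [IsLocalRing A] {S : Type*} [CommRing S] [Algebra A S]

/-- If `rs` is weakly regular on `M/IM` (with `M` flat over `A`), then `M/(rs)M` is flat over `A`. -/
theorem flat_quot_ofList (hnil : IsNilpotent (maximalIdeal A)) (I : Ideal A) (hI : I ≠ ⊤)
    (rs : List S) : ∀ (M : Type v) [AddCommGroup M] [Module S M] [Module A M] [IsScalarTower A S M]
    [Module.Flat A M],
    IsWeaklyRegular (M ⧸ ((I.map (algebraMap A S)) • ⊤ : Submodule S M)) rs →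
      Module.Flat A (M ⧸ (Ideal.ofList rs • ⊤ : Submodule S M)) := by
  induction rs with
  | nil =>
    intro M _ _ _ _ _ _
    have h : (Ideal.ofList ([] : List S) • ⊤ : Submodule S M) = ⊥ := by
      rw [Ideal.ofList_nil, Submodule.bot_smul]
    exact Module.Flat.of_linearEquiv ((quotEquivOfEqBot _ h).restrictScalars A)
  | cons r rs ih =>
    intro M _ _ _ _ _ h
    rw [isWeaklyRegular_cons_iff] at h
    obtain ⟨h1, h2⟩ := h
    have hr : IsSMulRegular M r := (isSMulRegular_iff_quot hnil I hI r).mpr h1
    haveI := flat_quotSMulTop hnil r hr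
    have h3 : IsWeaklyRegular (QuotSMulTop r M ⧸
        ((I.map (algebraMap A S)) • ⊤ : Submodule S (QuotSMulTop r M))) rs :=
      ((quotSwap M (I.map (algebraMap A S)) r).isWeaklyRegular_congr rs).mpr h2
    haveI := ih (QuotSMulTop r M) h3
    exact Module.Flat.of_linearEquiv
      ((quotOfListConsSMulTopEquivQuotSMulTopInner M r rs).restrictScalars A)

/-- transport of weak regularity along a surjective ring map. -/
lemma isWeaklyRegular_quot_ker_iff {S T : Type*} [CommRing S] [CommRing T] (π : S →+* T)
    (hπ : Function.Surjective π) (K : Ideal S) (hK : RingHom.ker π = K) (rs : List S) :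
    IsWeaklyRegular (S ⧸ (K • ⊤ : Submodule S S)) rs ↔ IsWeaklyRegular T (rs.map π) := by
  have h : (K • ⊤ : Submodule S S) = RingHom.ker π := by
    rw [smul_eq_mul, Ideal.mul_top, hK]
  refine ((quotEquivOfEq _ _ h).toAddEquiv.trans
    (RingHom.quotientKerEquivOfSurjective hπ).toAddEquiv).isWeaklyRegular_congr ?_
  rw [List.forall₂_map_right_iff, List.forall₂_same]
  intro r _ x
  obtain ⟨y, rfl⟩ := Submodule.Quotient.mk_surjective _ x
  change π (r * y) = π r * π y
  exact map_mul _ _ _

/-- ring version: the quotient of a flat algebra by a sequence which is weakly regular modulo `I`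
is flat. -/
theorem flat_quot_span_range (hnil : IsNilpotent (maximalIdeal A)) (I : Ideal A) (hI : I ≠ ⊤)
    {S : Type v} [CommRing S] [Algebra A S] [Module.Flat A S] {T : Type*} [CommRing T]
    (π : S →+* T) (hπ : Function.Surjective π)
    (hK : RingHom.ker π = I.map (algebraMap A S)) (rs : List S)
    (h : IsWeaklyRegular T (rs.map π)) : Module.Flat A (S ⧸ Ideal.ofList rs) := by
  have h1 := (isWeaklyRegular_quot_ker_iff π hπ _ hK rs).mpr h
  haveI := flat_quot_ofList hnil I hI rs S h1
  have h2 : (Ideal.ofList rs • ⊤ : Submodule S S) = Ideal.ofList rs := by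
    rw [smul_eq_mul, Ideal.mul_top]
  exact Module.Flat.of_linearEquiv ((quotEquivOfEq _ _ h2).symm.restrictScalars A)

end flatquot

end Groth.Agent.Lib.ArtinLocalReg
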