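import Mathlib

/-!
# A closed immersion with the Artinian lifting property is an open immersion (helper4)
-/

open AlgebraicGeometry CategoryTheory Limits MorphismProperty

universe u

set_option autoImplicit false
set_option linter.style.haveILetI false

namespace Groth.Agent.Lib.ArtinOpenH4

section Ring

variable (R : Type u) [CommRing R] [IsNoetherianRing R] (I : Ideal R)

set_option maxHeartbeats 800000 in
theorem map_le_pow_of_lifting
    (H : ∀ (A : Type u) [CommRing A] [IsArtinianRing A] [IsLocalRing A] (γ : R →+* A),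
      I ≤ RingHom.ker ((IsLocalRing.residue A).comp γ) → I ≤ RingHom.ker γ)
    (P : Ideal R) [P.IsMaximal] (hIP : I ≤ P) (k : ℕ) :
    Ideal.map (algebraMap R (Localization.AtPrime P)) I ≤
      (IsLocalRing.maximalIdeal (Localization.AtPrime P)) ^ (k + 1) := by
  set L := Localization.AtPrime P
  set m := IsLocalRing.maximalIdeal L
  have hmtop : m ≠ ⊤ := (IsLocalRing.maximalIdeal.isMaximal L).ne_top
  have hm : m ^ (k + 1) ≠ ⊤ := fun h =>
    hmtop (top_le_iff.mp (h ▸ Ideal.pow_le_self (Nat.succ_ne_zero k)))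
  haveI : Nontrivial (L ⧸ m ^ (k + 1)) := Ideal.Quotient.nontrivial_iff.mpr hm
  haveI : IsLocalRing (L ⧸ m ^ (k + 1)) :=
    IsLocalRing.of_surjective' (Ideal.Quotient.mk (m ^ (k + 1))) Ideal.Quotient.mk_surjective
  have hmk : ∀ y ∈ m, Ideal.Quotient.mk (m ^ (k + 1)) y ∈
      IsLocalRing.maximalIdeal (L ⧸ m ^ (k + 1)) := by
    intro y hy
    rw [IsLocalRing.mem_maximalIdeal, mem_nonunits_iff]
    intro hu
    obtain ⟨z, hz⟩ := hu.exists_right_inv
    obtain ⟨z', rfl⟩ := Ideal.Quotient.mk_surjective z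
    rw [← map_mul, ← map_one (Ideal.Quotient.mk (m ^ (k + 1))), Ideal.Quotient.eq] at hz
    have h1 : y * z' - 1 ∈ m := Ideal.pow_le_self (Nat.succ_ne_zero k) hz
    have h2 : y * z' ∈ m := m.mul_mem_right _ hy
    have h3 : (1 : L) ∈ m := by
      have := m.sub_mem h2 h1
      simpa using this
    exact hmtop ((Ideal.eq_top_iff_one _).mpr h3)
  haveI : IsArtinianRing (L ⧸ m ^ (k + 1)) := by
    rw [isArtinianRing_iff_isNilpotent_maximalIdeal]
    refine ⟨k + 1, ?_⟩
    rw [Ideal.zero_eq_bot, eq_bot_iff]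
    have hle : IsLocalRing.maximalIdeal (L ⧸ m ^ (k + 1)) ≤
        m.map (Ideal.Quotient.mk (m ^ (k + 1))) := by
      intro x hx
      obtain ⟨y, rfl⟩ := Ideal.Quotient.mk_surjective x
      apply Ideal.mem_map_of_mem
      by_contra hy
      have hyu : IsUnit y := by
        rwa [IsLocalRing.mem_maximalIdeal, mem_nonunits_iff, not_not] at hy
      exact (IsLocalRing.mem_maximalIdeal _).mp hx (hyu.map _)
    calc IsLocalRing.maximalIdeal (L ⧸ m ^ (k + 1)) ^ (k + 1)
        ≤ (m.map (Ideal.Quotient.mk (m ^ (k + 1)))) ^ (k + 1) := Ideal.pow_right_mono hle _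
      _ = (m ^ (k + 1)).map (Ideal.Quotient.mk (m ^ (k + 1))) := (Ideal.map_pow _ _ _).symm
      _ = ⊥ := Ideal.map_quotient_self _
  let γ : R →+* L ⧸ m ^ (k + 1) := (Ideal.Quotient.mk (m ^ (k + 1))).comp (algebraMap R L)
  have hγ : I ≤ RingHom.ker ((IsLocalRing.residue (L ⧸ m ^ (k + 1))).comp γ) := by
    intro a ha
    rw [RingHom.mem_ker, RingHom.comp_apply, IsLocalRing.residue_eq_zero_iff]
    apply hmk
    exact (IsLocalization.AtPrime.to_map_mem_maximal_iff L P a).mpr (hIP ha)
  have hker := H (L ⧸ m ^ (k + 1)) γ hγ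
  rw [Ideal.map_le_iff_le_comap]
  intro a ha
  have h0 : γ a = 0 := hker ha
  rw [Ideal.mem_comap]
  exact Ideal.Quotient.eq_zero_iff_mem.mp h0

theorem exists_idempotent
    (H : ∀ (A : Type u) [CommRing A] [IsArtinianRing A] [IsLocalRing A] (γ : R →+* A),
      I ≤ RingHom.ker ((IsLocalRing.residue A).comp γ) → I ≤ RingHom.ker γ) :
    ∃ e : R, IsIdempotentElem e ∧ I = Ideal.span {e} := by
  have hI2 : I ≤ I ^ 2 := by
    apply Ideal.le_of_localization_maximal
    intro P hP
    haveI := hP
    by_cases hIP : I ≤ P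
    · have hbot : Ideal.map (algebraMap R (Localization.AtPrime P)) I = ⊥ := by
        rw [eq_bot_iff, ← Ideal.iInf_pow_eq_bot_of_isLocalRing
          (IsLocalRing.maximalIdeal (Localization.AtPrime P))
          (IsLocalRing.maximalIdeal.isMaximal _).ne_top]
        refine le_iInf fun n => ?_
        cases n with
        | zero => rw [pow_zero, Ideal.one_eq_top]; exact le_top
        | succ k => exact map_le_pow_of_lifting R I H P hIP k
      rw [hbot]; exact bot_le
    · obtain ⟨a, haI, haP⟩ := Set.not_subset.mp hIP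
      have hu : IsUnit (algebraMap R (Localization.AtPrime P) a) :=
        IsLocalization.map_units _ (⟨a, haP⟩ : P.primeCompl)
      have htop : Ideal.map (algebraMap R (Localization.AtPrime P)) I = ⊤ :=
        Ideal.eq_top_of_isUnit_mem _ (Ideal.mem_map_of_mem _ haI) hu
      rw [Ideal.map_pow, htop, Ideal.top_pow]
  have hI : IsIdempotentElem I := by
    change I * I = I
    rw [← pow_two]
    exact le_antisymm (Ideal.pow_le_self two_ne_zero) hI2
  exact (Ideal.isIdempotentElem_iff_of_fg I (IsNoetherian.noetherian I)).mp hI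

end Ring

theorem isOpenImmersion_spec_quotient_of_idempotent (R : Type u) [CommRing R] (e : R)
    (he : IsIdempotentElem e) :
    IsOpenImmersion (Spec.map (CommRingCat.ofHom (Ideal.Quotient.mk (Ideal.span {e})))) := by
  haveI : IsLocalization.Away (1 - e) (R ⧸ Ideal.span {e}) :=
    IsLocalization.away_of_isIdempotentElem he.one_sub
      (by rw [Ideal.Quotient.algebraMap_eq, Ideal.mk_ker, sub_sub_cancel])
      Ideal.Quotient.mk_surjective
  exact IsOpenImmersion.of_isLocalization (1 - e)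

/-- The Artinian lifting property of a morphism `i : Z ⟶ S`. -/
def ArtinLift {S Z : Scheme.{u}} (i : Z ⟶ S) : Prop :=
  ∀ (A : Type u) [CommRing A] [IsArtinianRing A] [IsLocalRing A]
    (g : Spec (CommRingCat.of A) ⟶ S),
    (∃ t : Spec (CommRingCat.of (IsLocalRing.ResidueField A)) ⟶ Z,
        t ≫ i = Spec.map (CommRingCat.ofHom (IsLocalRing.residue A)) ≫ g) →
      ∃ g' : Spec (CommRingCat.of A) ⟶ Z, g' ≫ i = g

theorem artinLift_baseChange {S S' Z : Scheme.{u}} (i : Z ⟶ S) (b : S' ⟶ S) (h : ArtinLift i) :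
    ArtinLift (pullback.snd i b) := by
  intro A _ _ _ g ht
  obtain ⟨t, ht⟩ := ht
  obtain ⟨G', hG'⟩ := h A (g ≫ b) ⟨t ≫ pullback.fst i b, by
    rw [Category.assoc, pullback.condition, ← Category.assoc, ht, Category.assoc]⟩
  exact ⟨pullback.lift G' g hG', pullback.lift_snd _ _ _⟩

set_option maxHeartbeats 800000 in
theorem affine_case (R : CommRingCat.{u}) [IsNoetherianRing R] {Z : Scheme.{u}}
    (i : Z ⟶ Spec R) [IsClosedImmersion i] (h : ArtinLift i) : IsOpenImmersion i := by
  obtain ⟨I, e, hi⟩ := (IsClosedImmersion.Spec_iff (f := i)).mp inferInstance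
  have key : ∃ e₀ : R, IsIdempotentElem e₀ ∧ I = Ideal.span {e₀} := by
    apply exists_idempotent (R : Type u) I
    intro A _ _ _ γ hγ
    let ψ : (R : Type u) ⧸ I →+* IsLocalRing.ResidueField A :=
      Ideal.Quotient.lift I ((IsLocalRing.residue A).comp γ) (fun a ha => RingHom.mem_ker.mp (hγ ha))
    have hψ : ψ.comp (Ideal.Quotient.mk I) = (IsLocalRing.residue A).comp γ :=
      Ideal.Quotient.lift_comp_mk _ _ _
    have hcomm : (Spec.map (CommRingCat.ofHom ψ) ≫ e.inv) ≫ i =
        Spec.map (CommRingCat.ofHom (IsLocalRing.residue A)) ≫ Spec.map (CommRingCat.ofHom γ) := by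
      rw [hi, Category.assoc, e.inv_hom_id_assoc, ← Spec.map_comp, ← Spec.map_comp,
        ← CommRingCat.ofHom_comp, ← CommRingCat.ofHom_comp, hψ]
    obtain ⟨g', hg'⟩ := h A (Spec.map (CommRingCat.ofHom γ)) ⟨_, hcomm⟩
    let θ : CommRingCat.of ((R : Type u) ⧸ I) ⟶ CommRingCat.of A := Spec.preimage (g' ≫ e.hom)
    have hθ : Spec.map θ = g' ≫ e.hom := Spec.map_preimage _
    have hfac : CommRingCat.ofHom (Ideal.Quotient.mk I) ≫ θ = CommRingCat.ofHom γ := by
      apply Spec.map_injective
      rw [Spec.map_comp, hθ, Category.assoc, ← hi, hg']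
    intro a ha
    rw [RingHom.mem_ker]
    have h1 : γ a = θ.hom (Ideal.Quotient.mk I a) := by
      have := congrArg (fun φ => φ.hom a) hfac
      exact this.symm
    rw [h1, Ideal.Quotient.eq_zero_iff_mem.mpr ha, map_zero]
  obtain ⟨e₀, he₀, rfl⟩ := key
  haveI := isOpenImmersion_spec_quotient_of_idempotent (R : Type u) e₀ he₀
  rw [hi]
  infer_instance

theorem main14614 (S : Scheme.{u}) [IsLocallyNoetherian S]
    {Z : Scheme.{u}} (i : Z ⟶ S) [IsClosedImmersion i] (h : ArtinLift i) :
    IsOpenImmersion i := by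
  rw [IsZariskiLocalAtTarget.iff_of_openCover (P := @IsOpenImmersion) S.affineCover]
  intro j
  have hj : ArtinLift (pullback.snd i (S.affineCover.f j)) := artinLift_baseChange i _ h
  haveI : IsLocallyNoetherian (S.affineCover.X j) :=
    isLocallyNoetherian_of_isOpenImmersion (S.affineCover.f j)
  obtain ⟨R, hR⟩ : ∃ R : CommRingCat.{u}, S.affineCover.X j = Spec R := ⟨_, rfl⟩
  have : ∀ (T : Scheme.{u}) (_ : T = Spec R) [IsLocallyNoetherian T] (i' : pullback i (S.affineCover.f j) ⟶ T)
      [IsClosedImmersion i'] (_ : ArtinLift i'), IsOpenImmersion i' := by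
    rintro T rfl _ i' _ hi'
    haveI : IsNoetherian (Spec R) := {}
    haveI : IsNoetherianRing R := isNoetherian_Spec.mp inferInstance
    exact affine_case R i' hi'
  exact this _ hR (pullback.snd i (S.affineCover.f j)) hj

end Groth.Agent.Lib.ArtinOpenH4
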