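import Groth.Statements.S5335

/-! # Morphisms to the spectrum of an artinian local ring are universally open (lead) -/

set_option backward.isDefEq.respectTransparency false
set_option backward.isDefEq.respectTransparency.types false
set_option linter.unusedSimpArgs false
set_option linter.unusedVariables false
set_option linter.unusedSectionVars false
set_option linter.style.longLine false
set_option maxHeartbeats 800000

universe u

open CategoryTheory CategoryTheory.Limits MonoidalCategory CartesianMonoidalCategory MonObj GrpObj
  AlgebraicGeometry Opposite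

namespace Groth.Agent.Lib.ArtinOpen

theorem isOpenMap_of_comp_surjective {α β δ : Type*} [TopologicalSpace α] [TopologicalSpace β]
    [TopologicalSpace δ] {f : α → β} {g : β → δ} (hf : Function.Surjective f) (hf' : Continuous f)
    (h : IsOpenMap (g ∘ f)) : IsOpenMap g := by
  intro U hU
  rw [← Set.image_preimage_eq U hf, ← Set.image_comp]
  exact h _ (hU.preimage hf')

theorem universallyOpen_of_comp_surjective {X Y Z : Scheme.{u}} (f : X ⟶ Y) (g : Y ⟶ Z)
    [UniversallyOpen (f ≫ g)] [Surjective f] : UniversallyOpen g := by
  constructor
  intro X' Y' i₁ i₂ f' H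
  have := UniversallyOpen.universally_isOpenMap _ _ _
    ((IsPullback.of_hasPullback i₁ f).paste_horiz H)
  exact isOpenMap_of_comp_surjective
    (MorphismProperty.pullback_fst (P := @Surjective) _ _ ‹_›).1
    (Scheme.Hom.continuous _) this

theorem universallyOpen_of_isClosedImmersion_of_surjective {X Y : Scheme.{u}} (i : X ⟶ Y)
    [IsClosedImmersion i] [Surjective i] : UniversallyOpen i := by
  constructor
  intro X' Y' i₁ i₂ f' H
  have h1 : IsClosedImmersion f' := MorphismProperty.of_isPullback H.flip inferInstance
  have h2 : Surjective f' := MorphismProperty.of_isPullback H.flip inferInstance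
  exact (f'.isClosedEmbedding.isEmbedding.toHomeomorphOfSurjective f'.surjective).isOpenMap

theorem universallyOpen_of_artinian (A : Type u) [CommRing A] [IsArtinianRing A] [IsLocalRing A]
    {Y : Scheme.{u}} (q : Y ⟶ Spec (CommRingCat.of A)) : UniversallyOpen q := by
  let i : Spec (CommRingCat.of (IsLocalRing.ResidueField A)) ⟶ Spec (CommRingCat.of A) :=
    Spec.map (CommRingCat.ofHom (IsLocalRing.residue A))
  haveI hci : IsClosedImmersion i :=
    IsClosedImmersion.spec_of_surjective _ IsLocalRing.residue_surjective
  haveI hss : Subsingleton ↥(Spec (CommRingCat.of A)) :=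
    Ring.KrullDimLE.subsingleton_primeSpectrum A
  haveI hne : Nonempty ↥(Spec (CommRingCat.of (IsLocalRing.ResidueField A))) :=
    (inferInstance : Nonempty (PrimeSpectrum (IsLocalRing.ResidueField A)))
  haveI hsurj : Surjective i := ⟨fun x => ⟨hne.some, Subsingleton.elim _ _⟩⟩
  haveI : UniversallyOpen i := universallyOpen_of_isClosedImmersion_of_surjective i
  haveI hss' : Subsingleton ↥(Spec (CommRingCat.of (IsLocalRing.ResidueField A))) :=
    (inferInstance : Subsingleton (PrimeSpectrum (IsLocalRing.ResidueField A)))
  haveI h1 : UniversallyOpen (pullback.snd q i) := inferInstance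
  haveI h2 : UniversallyOpen (pullback.fst q i ≫ q) := by
    rw [pullback.condition]; infer_instance
  haveI : Surjective (pullback.fst q i) := inferInstance
  exact universallyOpen_of_comp_surjective (pullback.fst q i) q

theorem main (A : Type u) [CommRing A] [IsArtinianRing A] [IsLocalRing A]
    (X X' Y Y' : Over (Spec (CommRingCat.of A)))
    (f : X' ⟶ X) (g : Y' ⟶ Y) [QuasiCompact f.left] [QuasiCompact g.left]
    (hf : DenseRange f.left.base) (hg : DenseRange g.left.base) :
    DenseRange (f ⊗ₘ g).left.base ∧ QuasiCompact (f ⊗ₘ g).left := by
  haveI hX : UniversallyOpen X.hom := universallyOpen_of_artinian A X.hom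
  haveI hY' : UniversallyOpen Y'.hom := universallyOpen_of_artinian A Y'.hom
  constructor
  · rw [tensorHom_def]
    have h1 : DenseRange (f ▷ Y').left.base := by
      have hr : Set.range (f ▷ Y').left.base =
          (pullback.fst X.hom Y'.hom).base ⁻¹' Set.range f.left.base := by
        rw [Over.whiskerRight_left]
        have := Scheme.Pullback.range_map (f := X'.hom) (g := Y'.hom) X.hom Y'.hom f.left
          (𝟙 _) (𝟙 _) (by simp) (by simp)
        exact this.trans (by simp)
      show Dense (Set.range (f ▷ Y').left.base)
      rw [hr]
      exact hf.preimage (pullback.fst X.hom Y'.hom).isOpenMap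
    have h2 : DenseRange (X ◁ g).left.base := by
      have hr : Set.range (X ◁ g).left.base =
          (pullback.snd X.hom Y.hom).base ⁻¹' Set.range g.left.base := by
        rw [Over.whiskerLeft_left]
        have := Scheme.Pullback.range_map (f := X.hom) (g := Y'.hom) X.hom Y.hom (𝟙 _)
          g.left (𝟙 _) (by simp) (by simp)
        exact this.trans (by simp)
      show Dense (Set.range (X ◁ g).left.base)
      rw [hr]
      exact hg.preimage (pullback.snd X.hom Y.hom).isOpenMap
    have hc : ((f ▷ Y') ≫ (X ◁ g)).left.base = (X ◁ g).left.base ∘ (f ▷ Y').left.base := by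
      ext x
      simp
    show DenseRange (((f ▷ Y') ≫ (X ◁ g)).left.base)
    rw [hc]
    exact h2.comp h1 (X ◁ g).left.continuous
  · rw [Over.tensorHom_left]
    exact MorphismProperty.pullbackMap (P := @QuasiCompact) ‹QuasiCompact f.left›
      ‹QuasiCompact g.left› (by simp) (by simp)

end Groth.Agent.Lib.ArtinOpen
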