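import Mathlib.RingTheory.Filtration
import Mathlib.Algebra.Exact.Basic

/-!
# Artin–Rees for congruent complexes (Stacks 07VD, 07VE)

Setting: `A` Noetherian, `I ≤ rad A`, `L --f--> M --g--> N` exact, finite modules, `c` works in
Artin–Rees for `f` and `g`, and `f' ≡ f`, `g' ≡ g` modulo `I^(c+1)`, `g' ∘ f' = 0`.

* `mem_pow_smul_of_congr`: if `d x ∈ I^k • ⊤` for all `x` then `d (I^r • ⊤) ⊆ I^(r+k) • ⊤`.
* `comap_le_range_sup`: `g'⁻¹(I^n N) ⊆ f'(L) + I^r M` for `r + c ≤ n`.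
* `artinRees_congr`: `c` works for `g'`.
* `exact_congr`: `(f', g')` is exact.
* `sup_range_inf_congr`: `I^(n+1)N + g(M) ∩ I^n N = I^(n+1)N + g'(M) ∩ I^n N`.
-/

set_option autoImplicit false
universe u

namespace Groth.Agent.Lib.ArtinReesCongr_helper5

variable {A : Type*} [CommRing A] (I : Ideal A)
  {L M N : Type*} [AddCommGroup L] [Module A L] [AddCommGroup M] [Module A M]
  [AddCommGroup N] [Module A N]

theorem mem_pow_smul_of_congr (d : M →ₗ[A] N) (k : ℕ)
    (hd : ∀ x : M, d x ∈ I ^ k • (⊤ : Submodule A N)) (r : ℕ) (a : M)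
    (ha : a ∈ I ^ r • (⊤ : Submodule A M)) : d a ∈ I ^ (r + k) • (⊤ : Submodule A N) := by
  have h1 : d a ∈ Submodule.map d (I ^ r • (⊤ : Submodule A M)) := Submodule.mem_map_of_mem ha
  rw [Submodule.map_smul''] at h1
  have h2 : Submodule.map d ⊤ ≤ I ^ k • (⊤ : Submodule A N) := by
    rintro _ ⟨x, -, rfl⟩
    exact hd x
  have h3 := Submodule.smul_mono (le_refl (I ^ r)) h2 h1
  rwa [← Submodule.mul_smul, ← pow_add] at h3

section

variable (f f' : L →ₗ[A] M) (g g' : M →ₗ[A] N) (c : ℕ)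
  (hgf' : g'.comp f' = 0)
  (hf : ∀ n : ℕ, c ≤ n → LinearMap.range f ⊓ (I ^ n • (⊤ : Submodule A M)) ≤
    Submodule.map f (I ^ (n - c) • (⊤ : Submodule A L)))
  (hg : ∀ n : ℕ, c ≤ n → LinearMap.range g ⊓ (I ^ n • (⊤ : Submodule A N)) ≤
    Submodule.map g (I ^ (n - c) • (⊤ : Submodule A M)))
  (hex : Function.Exact f g)
  (hff' : ∀ x : L, f x - f' x ∈ I ^ (c + 1) • (⊤ : Submodule A M))
  (hgg' : ∀ y : M, g y - g' y ∈ I ^ (c + 1) • (⊤ : Submodule A N))

include hf hg hex hff' hgg' in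
/-- one step: improve `a ∈ I^r M` with `g' a ∈ I^n N`, `r + c + 1 ≤ n`, modulo `f'(L)`. -/
theorem step (r n : ℕ) (hrn : r + c + 1 ≤ n) (a : M) (ha : a ∈ I ^ r • (⊤ : Submodule A M))
    (hga : g' a ∈ I ^ n • (⊤ : Submodule A N)) :
    ∃ b : L, a - f' b ∈ I ^ (r + 1) • (⊤ : Submodule A M) := by
  -- `g a ∈ I^(r+c+1) N`
  have h1 : (g - g') a ∈ I ^ (r + (c + 1)) • (⊤ : Submodule A N) :=
    mem_pow_smul_of_congr I (g - g') (c + 1) (fun y => by simpa using hgg' y) r a ha
  have h2 : g a ∈ I ^ (r + c + 1) • (⊤ : Submodule A N) := by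
    have : g a = (g - g') a + g' a := by simp
    rw [this]
    refine Submodule.add_mem _ (by rwa [add_assoc]) ?_
    exact Submodule.smul_mono_left (Ideal.pow_le_pow_right hrn) hga
  obtain ⟨a₁, ha₁, hga₁⟩ := hg (r + c + 1) (by omega) ⟨LinearMap.mem_range_self g a, h2⟩
  have hrc : r + c + 1 - c = r + 1 := by omega
  rw [hrc] at ha₁
  -- `a - a₁ ∈ range f`
  obtain ⟨b, hb⟩ : a - a₁ ∈ LinearMap.range f := by
    rw [← hex.linearMap_ker_eq]
    simp [LinearMap.mem_ker, hga₁]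
  have hle : I ^ (r + 1) • (⊤ : Submodule A M) ≤ I ^ r • (⊤ : Submodule A M) :=
    Submodule.smul_mono_left (Ideal.pow_le_pow_right (Nat.le_succ r))
  have hfb : f b ∈ I ^ r • (⊤ : Submodule A M) := by
    rw [hb]
    exact Submodule.sub_mem _ ha (hle ha₁)
  -- choose `b'` with `f b' = f b` and `(f - f') b' ∈ I^(r+1) M`
  obtain ⟨b', hb', hfb'⟩ : ∃ b' : L, f b' = f b ∧
      (f - f') b' ∈ I ^ (r + 1) • (⊤ : Submodule A M) := by
    rcases le_or_gt c r with hcr | hcr
    · obtain ⟨b', hb'mem, hb'⟩ := hf r hcr ⟨LinearMap.mem_range_self f b, hfb⟩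
      refine ⟨b', hb', ?_⟩
      have := mem_pow_smul_of_congr I (f - f') (c + 1) (fun y => by simpa using hff' y)
        (r - c) b' hb'mem
      have e : r - c + (c + 1) = r + 1 := by omega
      rwa [e] at this
    · refine ⟨b, rfl, ?_⟩
      have : (f - f') b ∈ I ^ (c + 1) • (⊤ : Submodule A M) := by simpa using hff' b
      exact Submodule.smul_mono_left (Ideal.pow_le_pow_right (by omega)) this
  refine ⟨b', ?_⟩
  have : a - f' b' = (f - f') b' + a₁ := by
    simp only [LinearMap.sub_apply]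
    rw [hb', hb]
    abel
  rw [this]
  exact Submodule.add_mem _ hfb' ha₁

include hgf' hf hg hex hff' hgg' in
theorem comap_le_range_sup (r n : ℕ) (hrn : r + c ≤ n) (a : M)
    (hga : g' a ∈ I ^ n • (⊤ : Submodule A N)) :
    ∃ b : L, a - f' b ∈ I ^ r • (⊤ : Submodule A M) := by
  induction r with
  | zero => exact ⟨0, by simp⟩
  | succ r ih =>
    obtain ⟨b₀, hb₀⟩ := ih (by omega)
    have hg0 : g' (a - f' b₀) ∈ I ^ n • (⊤ : Submodule A N) := by
      have : g' (f' b₀) = 0 := LinearMap.congr_fun hgf' b₀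
      rw [map_sub, this, sub_zero]
      exact hga
    obtain ⟨b₁, hb₁⟩ := step I f f' g g' c hf hg hex hff' hgg' r n (by omega) (a - f' b₀) hb₀ hg0
    refine ⟨b₀ + b₁, ?_⟩
    rw [map_add, ← sub_sub]
    exact hb₁

include hgf' hf hg hex hff' hgg' in
theorem artinRees_congr (n : ℕ) (hn : c ≤ n) :
    LinearMap.range g' ⊓ (I ^ n • (⊤ : Submodule A N)) ≤
      Submodule.map g' (I ^ (n - c) • (⊤ : Submodule A M)) := by
  rintro _ ⟨⟨a, rfl⟩, ha⟩
  obtain ⟨b, hb⟩ := comap_le_range_sup I f f' g g' c hgf' hf hg hex hff' hgg' (n - c) n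
    (by omega) a ha
  refine ⟨a - f' b, hb, ?_⟩
  have : g' (f' b) = 0 := LinearMap.congr_fun hgf' b
  rw [map_sub, this, sub_zero]

include hgf' hf hg hex hff' hgg' in
theorem exact_congr [IsNoetherianRing A] [Module.Finite A M] (hI : I ≤ Ideal.jacobson (⊥ : Ideal A)) :
    Function.Exact f' g' := by
  intro a
  constructor
  · intro ha
    -- the class of `a` in `M ⧸ range f'` lies in all `I^k • ⊤`
    have hk : ∀ k : ℕ, (LinearMap.range f').mkQ a ∈
        I ^ k • (⊤ : Submodule A (M ⧸ LinearMap.range f')) := by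
      intro k
      obtain ⟨b, hb⟩ := comap_le_range_sup I f f' g g' c hgf' hf hg hex hff' hgg' k (k + c)
        le_rfl a (by rw [ha]; exact Submodule.zero_mem _)
      have h1 : (LinearMap.range f').mkQ a = (LinearMap.range f').mkQ (a - f' b) := by
        rw [map_sub]
        have : (LinearMap.range f').mkQ (f' b) = 0 := by
          simp
        rw [this, sub_zero]
      rw [h1]
      have h2 := Submodule.mem_map_of_mem (f := (LinearMap.range f').mkQ) hb
      rw [Submodule.map_smul''] at h2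
      exact Submodule.smul_mono le_rfl le_top h2
    have h0 : (LinearMap.range f').mkQ a ∈
        (⨅ k : ℕ, I ^ k • ⊤ : Submodule A (M ⧸ LinearMap.range f')) :=
      (Submodule.mem_iInf _).mpr hk
    rw [Ideal.iInf_pow_smul_eq_bot_of_le_jacobson I hI, Submodule.mem_bot] at h0
    simpa using h0
  · rintro ⟨b, rfl⟩
    exact LinearMap.congr_fun hgf' b

end

/-- one inclusion of `sup_range_inf_congr`, symmetric in `g`, `g'`. -/
theorem sup_range_inf_le (g g' : M →ₗ[A] N) (c : ℕ)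
    (hg : ∀ n : ℕ, c ≤ n → LinearMap.range g ⊓ (I ^ n • (⊤ : Submodule A N)) ≤
      Submodule.map g (I ^ (n - c) • (⊤ : Submodule A M)))
    (hgg' : ∀ y : M, g y - g' y ∈ I ^ (c + 1) • (⊤ : Submodule A N)) (n : ℕ) :
    I ^ (n + 1) • (⊤ : Submodule A N) ⊔ (LinearMap.range g ⊓ I ^ n • (⊤ : Submodule A N)) ≤
      I ^ (n + 1) • (⊤ : Submodule A N) ⊔ (LinearMap.range g' ⊓ I ^ n • (⊤ : Submodule A N)) := by
  refine sup_le le_sup_left ?_
  rintro y ⟨hy1, hy2⟩
  -- find `a` with `g a = y` and `(g - g') a ∈ I^(n+1) N`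
  obtain ⟨a, rfl, hda⟩ : ∃ a : M, g a = y ∧ (g - g') a ∈ I ^ (n + 1) • (⊤ : Submodule A N) := by
    rcases le_or_gt c n with hcn | hcn
    · obtain ⟨a, ha, rfl⟩ := hg n hcn ⟨hy1, hy2⟩
      refine ⟨a, rfl, ?_⟩
      have := mem_pow_smul_of_congr I (g - g') (c + 1) (fun y => by simpa using hgg' y) (n - c) a ha
      have e : n - c + (c + 1) = n + 1 := by omega
      rwa [e] at this
    · obtain ⟨a, rfl⟩ := hy1
      refine ⟨a, rfl, ?_⟩
      have : (g - g') a ∈ I ^ (c + 1) • (⊤ : Submodule A N) := by simpa using hgg' a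
      exact Submodule.smul_mono_left (Ideal.pow_le_pow_right (by omega)) this
  have hle : I ^ (n + 1) • (⊤ : Submodule A N) ≤ I ^ n • (⊤ : Submodule A N) :=
    Submodule.smul_mono_left (Ideal.pow_le_pow_right (Nat.le_succ n))
  have e : g a = (g - g') a + g' a := by simp
  rw [e]
  refine Submodule.add_mem_sup hda ⟨LinearMap.mem_range_self g' a, ?_⟩
  have : g' a = g a - (g - g') a := by simp
  rw [this]
  exact Submodule.sub_mem _ hy2 (hle hda)

end Groth.Agent.Lib.ArtinReesCongr_helper5
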