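import Mathlib
import Groth.Prelude.Def_FlatCA

set_option autoImplicit false
universe u

namespace Groth.Agent.Lib.AssFiberTensor

open TensorProduct

attribute [local instance] Algebra.TensorProduct.rightAlgebra

variable {R : Type u} [CommRing R] (p : Ideal R) [p.IsPrime] (S : Type u) [CommRing S]
  [Algebra R S] (N : Type u) [AddCommGroup N] [Module S N] [Module R N] [IsScalarTower R S N]

lemma one_notMem : (1 : R) ∉ p := fun h =>
  (Ideal.IsPrime.ne_top ‹p.IsPrime›) ((Ideal.eq_top_iff_one p).mpr h)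

lemma rsmul (s' : S) (k : p.ResidueField) (s : S) :
    s' • (k ⊗ₜ[R] s : p.ResidueField ⊗[R] S) = k ⊗ₜ[R] (s' * s) := by
  rw [Algebra.smul_def, Algebra.TensorProduct.right_algebraMap_apply,
    Algebra.TensorProduct.tmul_mul_tmul, one_mul]

lemma L1 (s : S) (x : (p.ResidueField ⊗[R] S) ⊗[S] N) :
    ((1 : p.ResidueField) ⊗ₜ[R] s : p.ResidueField ⊗[R] S) • x = s • x := by
  induction x using TensorProduct.induction_on with
  | zero => simp
  | tmul f n =>
    rw [TensorProduct.smul_tmul', TensorProduct.smul_tmul', smul_eq_mul, Algebra.smul_def,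
      Algebra.TensorProduct.right_algebraMap_apply]
  | add x y hx hy => rw [smul_add, smul_add, hx, hy]

lemma L2 (b : R) (hb : b ∉ p) (x : (p.ResidueField ⊗[R] S) ⊗[S] N)
    (h : (algebraMap R S b) • x = 0) : x = 0 := by
  have hb0 : algebraMap R p.ResidueField b ≠ 0 := fun h0 =>
    hb (Ideal.algebraMap_residueField_eq_zero.mp h0)
  have hc : (((algebraMap R p.ResidueField b)⁻¹ ⊗ₜ[R] (1 : S) : p.ResidueField ⊗[R] S) *
      ((1 : p.ResidueField) ⊗ₜ[R] algebraMap R S b)) = 1 := by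
    rw [Algebra.TensorProduct.tmul_mul_tmul, mul_one, one_mul, Algebra.TensorProduct.one_def,
      show algebraMap R S b = b • (1 : S) from Algebra.algebraMap_eq_smul_one b,
      ← TensorProduct.smul_tmul, Algebra.smul_def, mul_inv_cancel₀ hb0]
  have h' := (L1 p S N (algebraMap R S b) x).trans h
  calc x = (1 : p.ResidueField ⊗[R] S) • x := (one_smul _ _).symm
    _ = 0 := by rw [← hc, mul_smul, h', smul_zero]

lemma exists_frac (k : p.ResidueField) : ∃ a b : R, b ∉ p ∧
    algebraMap R p.ResidueField b * k = algebraMap R p.ResidueField a := by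
  obtain ⟨x, y, hy, rfl⟩ := IsFractionRing.div_surjective (A := R ⧸ p) k
  obtain ⟨a, rfl⟩ := Ideal.Quotient.mk_surjective x
  obtain ⟨b, rfl⟩ := Ideal.Quotient.mk_surjective y
  have hb : b ∉ p := fun hb =>
    nonZeroDivisors.ne_zero hy (Ideal.Quotient.eq_zero_iff_mem.mpr hb)
  refine ⟨a, b, hb, ?_⟩
  have h0 : algebraMap (R ⧸ p) p.ResidueField (Ideal.Quotient.mk p b) ≠ 0 :=
    (map_ne_zero_iff _ (IsFractionRing.injective (R ⧸ p) p.ResidueField)).mpr
      (nonZeroDivisors.ne_zero hy)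
  rw [IsScalarTower.algebraMap_apply R (R ⧸ p) p.ResidueField b,
    IsScalarTower.algebraMap_apply R (R ⧸ p) p.ResidueField a, Ideal.Quotient.algebraMap_eq]
  field_simp

lemma add_case (y₁ y₂ : (p.ResidueField ⊗[R] S) ⊗[S] N)
    (h₁ : ∃ b : R, b ∉ p ∧ ∃ n₀ : N,
      (algebraMap R S b) • y₁ = (1 : p.ResidueField ⊗[R] S) ⊗ₜ[S] n₀)
    (h₂ : ∃ b : R, b ∉ p ∧ ∃ n₀ : N,
      (algebraMap R S b) • y₂ = (1 : p.ResidueField ⊗[R] S) ⊗ₜ[S] n₀) :
    ∃ b : R, b ∉ p ∧ ∃ n₀ : N,
      (algebraMap R S b) • (y₁ + y₂) = (1 : p.ResidueField ⊗[R] S) ⊗ₜ[S] n₀ := by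
  obtain ⟨b₁, hb₁, n₁, e₁⟩ := h₁
  obtain ⟨b₂, hb₂, n₂, e₂⟩ := h₂
  refine ⟨b₁ * b₂, fun h => (Ideal.IsPrime.mem_or_mem ‹p.IsPrime› h).elim hb₁ hb₂,
    algebraMap R S b₂ • n₁ + algebraMap R S b₁ • n₂, ?_⟩
  rw [smul_add, map_mul, mul_smul (algebraMap R S b₁) (algebraMap R S b₂) y₂, e₂,
    mul_comm (algebraMap R S b₁) (algebraMap R S b₂),
    mul_smul (algebraMap R S b₂) (algebraMap R S b₁) y₁, e₁, TensorProduct.tmul_add,
    TensorProduct.tmul_smul, TensorProduct.tmul_smul]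

lemma decomp (y : (p.ResidueField ⊗[R] S) ⊗[S] N) :
    ∃ b : R, b ∉ p ∧ ∃ n₀ : N,
      (algebraMap R S b) • y = (1 : p.ResidueField ⊗[R] S) ⊗ₜ[S] n₀ := by
  induction y using TensorProduct.induction_on with
  | zero => exact ⟨1, one_notMem p, 0, by simp⟩
  | tmul x n =>
    induction x using TensorProduct.induction_on with
    | zero => exact ⟨1, one_notMem p, 0, by simp⟩
    | tmul k s =>
      obtain ⟨a, b, hb, hab⟩ := exists_frac p k
      refine ⟨b, hb, (algebraMap R S a * s) • n, ?_⟩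
      have hA : (algebraMap R S b) • (k ⊗ₜ[R] s : p.ResidueField ⊗[R] S) = k ⊗ₜ[R] (b • s) := by
        rw [rsmul, Algebra.smul_def]
      have hB : (k ⊗ₜ[R] (b • s) : p.ResidueField ⊗[R] S) = (b • k) ⊗ₜ[R] s :=
        (TensorProduct.smul_tmul b k s).symm
      have hC : b • k = algebraMap R p.ResidueField a := by rw [Algebra.smul_def, hab]
      have hD : (algebraMap R p.ResidueField a ⊗ₜ[R] s : p.ResidueField ⊗[R] S) =
          (1 : p.ResidueField) ⊗ₜ[R] (a • s) := by
        rw [← TensorProduct.smul_tmul, Algebra.smul_def, mul_one]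
      have hE : (algebraMap R S a * s) • (1 : p.ResidueField ⊗[R] S) =
          (1 : p.ResidueField) ⊗ₜ[R] (a • s) := by
        rw [Algebra.TensorProduct.one_def, rsmul, mul_one, Algebra.smul_def]
      rw [TensorProduct.smul_tmul', hA, hB, hC, hD, ← hE, TensorProduct.smul_tmul]
    | add x₁ x₂ h₁ h₂ =>
      rw [TensorProduct.add_tmul]
      exact add_case p S N _ _ h₁ h₂
  | add y₁ y₂ h₁ h₂ => exact add_case p S N _ _ h₁ h₂

/-- The identification of the fibre module with `N ⊗[R] κ(p)`. -/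
noncomputable def e : (p.ResidueField ⊗[R] S) ⊗[S] N ≃ₗ[S] N ⊗[R] p.ResidueField :=
  (TensorProduct.comm S (p.ResidueField ⊗[R] S) N).trans
    ((TensorProduct.congr (LinearEquiv.refl S N)
        (Algebra.TensorProduct.commRight R S p.ResidueField).symm.toLinearEquiv).trans
      (TensorProduct.AlgebraTensorModule.cancelBaseChange R S S N p.ResidueField))

lemma e_one_tmul (n : N) :
    e p S N ((1 : p.ResidueField ⊗[R] S) ⊗ₜ[S] n) = n ⊗ₜ[R] (1 : p.ResidueField) := by
  simp only [e, LinearEquiv.trans_apply, TensorProduct.comm_tmul, TensorProduct.congr_tmul,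
    LinearEquiv.refl_apply, AlgEquiv.toLinearEquiv_apply, map_one]
  rw [Algebra.TensorProduct.one_def, TensorProduct.AlgebraTensorModule.cancelBaseChange_tmul,
    one_smul]

variable (M : Type u) [AddCommGroup M] [Module R M] [Module.Flat R N]

lemma L4 (m : M) (hm : p = (Submodule.span R {m}).annihilator) (n : N) :
    ((1 : p.ResidueField ⊗[R] S) ⊗ₜ[S] n = 0) ↔ (n ⊗ₜ[R] m = 0) := by
  have hmem : ∀ r, r ∈ p ↔ r • m = 0 := fun r => by
    rw [← Submodule.mem_annihilator_span_singleton, ← hm]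
  have hker : (p : Submodule R R) = LinearMap.ker (LinearMap.toSpanSingleton R M m) := by
    ext r
    rw [LinearMap.mem_ker, LinearMap.toSpanSingleton_apply]
    exact hmem r
  let f : (R ⧸ p) →ₗ[R] M := Submodule.liftQ p (LinearMap.toSpanSingleton R M m) hker.le
  have hf : Function.Injective f :=
    LinearMap.ker_eq_bot.mp (Submodule.ker_liftQ_eq_bot' p _ hker)
  have hf1 : f (1 : R ⧸ p) = m := by
    show Submodule.liftQ p _ _ (Submodule.Quotient.mk (1 : R)) = m
    rw [Submodule.liftQ_apply, LinearMap.toSpanSingleton_apply, one_smul]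
  let g : (R ⧸ p) →ₗ[R] p.ResidueField :=
    (Algebra.linearMap (R ⧸ p) p.ResidueField).restrictScalars R
  have hg : Function.Injective g := fun x y h =>
    IsFractionRing.injective (R ⧸ p) p.ResidueField h
  have hg1 : g (1 : R ⧸ p) = 1 := by
    show algebraMap (R ⧸ p) p.ResidueField 1 = 1
    exact map_one _
  have h1 : Function.Injective (f.lTensor N) :=
    Module.Flat.lTensor_preserves_injective_linearMap f hf
  have h2 : Function.Injective (g.lTensor N) :=
    Module.Flat.lTensor_preserves_injective_linearMap g hg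
  have e1 : f.lTensor N (n ⊗ₜ[R] (1 : R ⧸ p)) = n ⊗ₜ[R] m := by
    rw [LinearMap.lTensor_tmul, hf1]
  have e2 : g.lTensor N (n ⊗ₜ[R] (1 : R ⧸ p)) = n ⊗ₜ[R] (1 : p.ResidueField) := by
    rw [LinearMap.lTensor_tmul, hg1]
  have a1 : ((1 : p.ResidueField ⊗[R] S) ⊗ₜ[S] n = 0) ↔
      (n ⊗ₜ[R] (1 : p.ResidueField) = 0) := by
    rw [← LinearEquiv.map_eq_zero_iff (e p S N), e_one_tmul]
  have a2 : (n ⊗ₜ[R] (1 : p.ResidueField) = 0) ↔ (n ⊗ₜ[R] (1 : R ⧸ p) = 0) := by
    rw [← e2]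
    exact map_eq_zero_iff _ h2
  have a3 : (n ⊗ₜ[R] m = 0) ↔ (n ⊗ₜ[R] (1 : R ⧸ p) = 0) := by
    rw [← e1]
    exact map_eq_zero_iff _ h1
  exact a1.trans (a2.trans a3.symm)

lemma comap_ann_eq (m : M) (hm : p = (Submodule.span R {m}).annihilator)
    (y : (p.ResidueField ⊗[R] S) ⊗[S] N) :
    ∃ n₀ : N, ((Submodule.span (p.ResidueField ⊗[R] S) {y}).annihilator).comap
        (Algebra.TensorProduct.includeRight (R := R) (A := p.ResidueField) (B := S)).toRingHom =
      (Submodule.span S {n₀ ⊗ₜ[R] m}).annihilator := by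
  obtain ⟨b, hb, n₀, hbn⟩ := decomp p S N y
  refine ⟨n₀, ?_⟩
  ext s
  rw [Ideal.mem_comap, Submodule.mem_annihilator_span_singleton,
    Submodule.mem_annihilator_span_singleton, TensorProduct.smul_tmul',
    ← L4 p S N M m hm (s • n₀)]
  have h1 : (Algebra.TensorProduct.includeRight (R := R) (A := p.ResidueField)
      (B := S)).toRingHom s • y = s • y := L1 p S N s y
  rw [h1]
  have h2 : (algebraMap R S b) • (s • y) = (1 : p.ResidueField ⊗[R] S) ⊗ₜ[S] (s • n₀) := by
    rw [smul_comm, hbn, TensorProduct.tmul_smul]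
  constructor
  · intro h
    rw [← h2, h, smul_zero]
  · intro h
    apply L2 p S N b hb
    rw [h2, h]

theorem main (hp : p ∈ FlatCA.ass R M) (Q : Ideal (p.Fiber S))
    (hQ : Q ∈ FlatCA.ass (p.Fiber S) (FlatCA.fiberMod p S N)) :
    Q.comap (Algebra.TensorProduct.includeRight (R := R) (A := p.ResidueField)
      (B := S)).toRingHom ∈ FlatCA.ass S (N ⊗[R] M) := by
  obtain ⟨-, m, hm⟩ := hp
  obtain ⟨hQp, y, hy⟩ := hQ
  obtain ⟨n₀, hn₀⟩ := comap_ann_eq p S N M m hm y
  haveI := hQp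
  refine ⟨Ideal.comap_isPrime _ _, n₀ ⊗ₜ[R] m, ?_⟩
  rw [hy]
  exact hn₀

end Groth.Agent.Lib.AssFiberTensor
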