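import Mathlib
import Groth.Prelude.Def_FlatCA
import Groth.Agent.Lib.AssFiberTensor_lead

/-!
# Associated primes of fibre modules (lead) — S9664, S9669
-/

set_option autoImplicit false
universe u

namespace Groth.Agent.Lib.AssFiber2

open TensorProduct Groth.Agent.Lib.AssFiberTensor

attribute [local instance] Algebra.TensorProduct.rightAlgebra

variable {R : Type u} [CommRing R] (p : Ideal R) [p.IsPrime] (S : Type u) [CommRing S]
  [Algebra R S] (N : Type u) [AddCommGroup N] [Module S N] [Module R N] [IsScalarTower R S N]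

/-- every element of `κ(p) ⊗ S` becomes of the form `1 ⊗ s` after multiplying by some `b ∉ p`. -/
lemma decompRing (z : p.ResidueField ⊗[R] S) : ∃ b : R, b ∉ p ∧ ∃ s₀ : S,
    ((1 : p.ResidueField) ⊗ₜ[R] algebraMap R S b) * z = (1 : p.ResidueField) ⊗ₜ[R] s₀ := by
  induction z using TensorProduct.induction_on with
  | zero => exact ⟨1, one_notMem p, 0, by rw [mul_zero, TensorProduct.tmul_zero]⟩
  | tmul k s =>
    obtain ⟨a, b, hb, hab⟩ := exists_frac p k
    refine ⟨b, hb, algebraMap R S a * s, ?_⟩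
    rw [Algebra.TensorProduct.tmul_mul_tmul, one_mul]
    calc k ⊗ₜ[R] (algebraMap R S b * s) = k ⊗ₜ[R] (b • s) := by rw [Algebra.smul_def]
      _ = (b • k) ⊗ₜ[R] s := (TensorProduct.smul_tmul b k s).symm
      _ = (algebraMap R p.ResidueField a) ⊗ₜ[R] s := by rw [Algebra.smul_def, hab]
      _ = (a • (1 : p.ResidueField)) ⊗ₜ[R] s := by rw [Algebra.smul_def, mul_one]
      _ = (1 : p.ResidueField) ⊗ₜ[R] (a • s) := TensorProduct.smul_tmul a 1 s
      _ = (1 : p.ResidueField) ⊗ₜ[R] (algebraMap R S a * s) := by rw [Algebra.smul_def]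
  | add z₁ z₂ h₁ h₂ =>
    obtain ⟨b₁, hb₁, s₁, e₁⟩ := h₁
    obtain ⟨b₂, hb₂, s₂, e₂⟩ := h₂
    refine ⟨b₁ * b₂, fun h => (Ideal.IsPrime.mem_or_mem ‹p.IsPrime› h).elim hb₁ hb₂,
      algebraMap R S b₂ * s₁ + algebraMap R S b₁ * s₂, ?_⟩
    have hm : ((1 : p.ResidueField) ⊗ₜ[R] algebraMap R S (b₁ * b₂) : p.ResidueField ⊗[R] S) =
        ((1 : p.ResidueField) ⊗ₜ[R] algebraMap R S b₁) *
          ((1 : p.ResidueField) ⊗ₜ[R] algebraMap R S b₂) := by
      rw [Algebra.TensorProduct.tmul_mul_tmul, one_mul, map_mul]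
    have t1 : ((1 : p.ResidueField) ⊗ₜ[R] algebraMap R S b₁ : p.ResidueField ⊗[R] S) *
        ((1 : p.ResidueField) ⊗ₜ[R] algebraMap R S b₂) * z₁ =
        (1 : p.ResidueField) ⊗ₜ[R] (algebraMap R S b₂ * s₁) := by
      rw [mul_comm ((1 : p.ResidueField) ⊗ₜ[R] algebraMap R S b₁ : p.ResidueField ⊗[R] S)
        ((1 : p.ResidueField) ⊗ₜ[R] algebraMap R S b₂), mul_assoc, e₁,
        Algebra.TensorProduct.tmul_mul_tmul, one_mul]
    have t2 : ((1 : p.ResidueField) ⊗ₜ[R] algebraMap R S b₁ : p.ResidueField ⊗[R] S) *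
        ((1 : p.ResidueField) ⊗ₜ[R] algebraMap R S b₂) * z₂ =
        (1 : p.ResidueField) ⊗ₜ[R] (algebraMap R S b₁ * s₂) := by
      rw [mul_assoc, e₂, Algebra.TensorProduct.tmul_mul_tmul, one_mul]
    rw [hm, mul_add, t1, t2, ← TensorProduct.tmul_add]

/-- contraction of the annihilator over the fibre ring is the annihilator over `S` -/
lemma comap_ann (y : (p.ResidueField ⊗[R] S) ⊗[S] N) :
    ((Submodule.span (p.ResidueField ⊗[R] S) {y}).annihilator).comap
        (Algebra.TensorProduct.includeRight (R := R) (A := p.ResidueField) (B := S)).toRingHom =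
      (Submodule.span S {y}).annihilator := by
  ext s
  rw [Ideal.mem_comap, Submodule.mem_annihilator_span_singleton,
    Submodule.mem_annihilator_span_singleton]
  have h1 : (Algebra.TensorProduct.includeRight (R := R) (A := p.ResidueField)
      (B := S)).toRingHom s • y = s • y := L1 p S N s y
  rw [h1]

lemma ann_aux (y : (p.ResidueField ⊗[R] S) ⊗[S] N) (c : R) (hc : c ∉ p)
    (w : p.ResidueField ⊗[R] S) (t : S)
    (hw : ((1 : p.ResidueField) ⊗ₜ[R] algebraMap R S c) * w = (1 : p.ResidueField) ⊗ₜ[R] t)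
    (ht : t • y = 0) : w • y = 0 := by
  apply L2 p S N c hc
  rw [← L1 p S N (algebraMap R S c) (w • y), ← mul_smul, hw, L1 p S N t y, ht]

lemma isPrime_ann (y : (p.ResidueField ⊗[R] S) ⊗[S] N)
    (hq : ((Submodule.span S {y}).annihilator).IsPrime) :
    ((Submodule.span (p.ResidueField ⊗[R] S) {y}).annihilator).IsPrime := by
  rw [Ideal.isPrime_iff]
  refine ⟨?_, ?_⟩
  · intro htop
    have h1 : (1 : p.ResidueField ⊗[R] S) ∈
        (Submodule.span (p.ResidueField ⊗[R] S) {y}).annihilator := by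
      rw [htop]; exact Submodule.mem_top
    rw [Submodule.mem_annihilator_span_singleton, one_smul] at h1
    apply hq.ne_top
    rw [Ideal.eq_top_iff_one, Submodule.mem_annihilator_span_singleton, h1, smul_zero]
  · intro z z' hzz'
    rw [Submodule.mem_annihilator_span_singleton] at hzz'
    obtain ⟨b, hb, s₀, e₀⟩ := decompRing p S z
    obtain ⟨b', hb', s₀', e₀'⟩ := decompRing p S z'
    have hprod : (s₀ * s₀') • y = 0 := by
      rw [← L1 p S N (s₀ * s₀') y]
      have h2 : ((1 : p.ResidueField) ⊗ₜ[R] (s₀ * s₀') : p.ResidueField ⊗[R] S) =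
          (((1 : p.ResidueField) ⊗ₜ[R] algebraMap R S b) * z) *
            (((1 : p.ResidueField) ⊗ₜ[R] algebraMap R S b') * z') := by
        rw [e₀, e₀', Algebra.TensorProduct.tmul_mul_tmul, one_mul]
      rw [h2, mul_mul_mul_comm, mul_smul, hzz', smul_zero]
    have hmem : s₀ * s₀' ∈ (Submodule.span S {y}).annihilator := by
      rw [Submodule.mem_annihilator_span_singleton]; exact hprod
    rcases hq.mem_or_mem hmem with h | h
    · left
      rw [Submodule.mem_annihilator_span_singleton] at h ⊢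
      exact ann_aux p S N y b hb z s₀ e₀ h
    · right
      rw [Submodule.mem_annihilator_span_singleton] at h ⊢
      exact ann_aux p S N y b' hb' z' s₀' e₀' h

lemma ann_decomp (y : (p.ResidueField ⊗[R] S) ⊗[S] N) (b : R) (hb : b ∉ p) (n₀ : N)
    (hbn : (algebraMap R S b) • y = (1 : p.ResidueField ⊗[R] S) ⊗ₜ[S] n₀) :
    (Submodule.span S {y}).annihilator =
      (Submodule.span S {((1 : p.ResidueField ⊗[R] S) ⊗ₜ[S] n₀ :
        (p.ResidueField ⊗[R] S) ⊗[S] N)}).annihilator := by
  ext s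
  rw [Submodule.mem_annihilator_span_singleton, Submodule.mem_annihilator_span_singleton]
  have h2 : (algebraMap R S b) • (s • y) =
      s • ((1 : p.ResidueField ⊗[R] S) ⊗ₜ[S] n₀) := by
    rw [smul_comm, hbn]
  constructor
  · intro h
    rw [← h2, h, smul_zero]
  · intro h
    exact L2 p S N b hb _ (by rw [h2, h])

/-- S9664 -/
theorem main9664 (q : Ideal S) [q.IsPrime] :
    q ∈ FlatCA.ass S (FlatCA.fiberMod p S N) ↔
      ∃ Q ∈ FlatCA.ass (p.Fiber S) (FlatCA.fiberMod p S N),
        Q.comap (Algebra.TensorProduct.includeRight (R := R) (A := p.ResidueField)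
          (B := S)).toRingHom = q := by
  constructor
  · rintro ⟨hq, y, hy⟩
    refine ⟨(Submodule.span (p.ResidueField ⊗[R] S) {y}).annihilator, ⟨?_, y, rfl⟩,
      (comap_ann p S N y).trans hy.symm⟩
    have h3 : ((Submodule.span S {y}).annihilator).IsPrime := by
      rw [← hy]
      exact hq
    exact isPrime_ann p S N y h3
  · rintro ⟨Q, ⟨hQ, y, hy⟩, rfl⟩
    haveI := hQ
    refine ⟨Ideal.comap_isPrime _ _, y, ?_⟩
    rw [hy]
    exact comap_ann p S N y

/-- `(pS)N` as an `S`-submodule has the same elements as `pN`. -/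
lemma mem_map_smul_iff (n : N) :
    n ∈ (p.map (algebraMap R S)) • (⊤ : Submodule S N) ↔ n ∈ p • (⊤ : Submodule R N) := by
  constructor
  · intro h
    refine Submodule.smul_induction_on h ?_ (fun x y hx hy => add_mem hx hy)
    intro s hs n' _
    have key : ∀ n' : N, s • n' ∈ p • (⊤ : Submodule R N) := by
      refine Submodule.span_induction (p := fun s _ => ∀ n' : N, s • n' ∈ p • (⊤ : Submodule R N))
        ?_ ?_ ?_ ?_ hs
      · rintro _ ⟨a, ha, rfl⟩ n'
        rw [algebraMap_smul]
        exact Submodule.smul_mem_smul ha Submodule.mem_top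
      · intro n'
        rw [zero_smul]
        exact zero_mem _
      · intro x y _ _ hx hy n'
        rw [add_smul]
        exact add_mem (hx n') (hy n')
      · intro c x _ hx n'
        rw [smul_eq_mul, mul_comm, mul_smul]
        exact hx (c • n')
    exact key n'
  · intro h
    refine Submodule.smul_induction_on h ?_ (fun x y hx hy => add_mem hx hy)
    intro a ha n' _
    rw [← algebraMap_smul S a n']
    exact Submodule.smul_mem_smul (Ideal.mem_map_of_mem _ ha) Submodule.mem_top

section Flat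

variable [Module.Flat R N]

lemma one_tmul_eq_zero_iff (n : N) :
    ((1 : p.ResidueField ⊗[R] S) ⊗ₜ[S] n = 0) ↔
      n ∈ (p.map (algebraMap R S)) • (⊤ : Submodule S N) := by
  have hm : p = (Submodule.span R {(1 : R ⧸ p)}).annihilator := by
    ext r
    rw [Submodule.mem_annihilator_span_singleton, Algebra.smul_def, mul_one,
      Ideal.Quotient.algebraMap_eq, Ideal.Quotient.eq_zero_iff_mem]
  rw [L4 p S N (R ⧸ p) 1 hm n, mem_map_smul_iff,
    ← LinearEquiv.map_eq_zero_iff (TensorProduct.tensorQuotEquivQuotSMul N p)]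
  have h1 : TensorProduct.tensorQuotEquivQuotSMul N p (n ⊗ₜ[R] (1 : R ⧸ p)) =
      Submodule.Quotient.mk n := by
    have := TensorProduct.tensorQuotEquivQuotSMul_tmul_mk (M := N) p n 1
    simpa using this
  rw [h1, Submodule.Quotient.mk_eq_zero]

lemma ann_mk_eq (x : N) :
    (Submodule.span S {(Submodule.Quotient.mk x :
        N ⧸ (p.map (algebraMap R S)) • (⊤ : Submodule S N))}).annihilator =
      (Submodule.span S {((1 : p.ResidueField ⊗[R] S) ⊗ₜ[S] x :
        (p.ResidueField ⊗[R] S) ⊗[S] N)}).annihilator := by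
  ext s
  rw [Submodule.mem_annihilator_span_singleton, Submodule.mem_annihilator_span_singleton,
    ← Submodule.Quotient.mk_smul, Submodule.Quotient.mk_eq_zero,
    ← one_tmul_eq_zero_iff p S N (s • x), TensorProduct.tmul_smul]

/-- S9669 -/
theorem main9669 :
    FlatCA.ass S (N ⧸ (p.map (algebraMap R S)) • (⊤ : Submodule S N)) =
        FlatCA.ass S (FlatCA.fiberMod p S N) ∧
      ∀ q ∈ FlatCA.ass S (N ⧸ (p.map (algebraMap R S)) • (⊤ : Submodule S N)),
        q.comap (algebraMap R S) = p := by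
  refine ⟨Set.Subset.antisymm ?_ ?_, ?_⟩
  · rintro q ⟨hq, xbar, hx⟩
    obtain ⟨x, rfl⟩ := Submodule.Quotient.mk_surjective _ xbar
    exact ⟨hq, ((1 : p.ResidueField ⊗[R] S) ⊗ₜ[S] x : (p.ResidueField ⊗[R] S) ⊗[S] N),
      hx.trans (ann_mk_eq p S N x)⟩
  · rintro q ⟨hq, y, hy⟩
    obtain ⟨b, hb, n₀, hbn⟩ := decomp p S N y
    refine ⟨hq, Submodule.Quotient.mk n₀, ?_⟩
    rw [ann_mk_eq p S N n₀]
    exact hy.trans (ann_decomp p S N y b hb n₀ hbn)
  · rintro q ⟨hq, xbar, hx⟩
    obtain ⟨x, rfl⟩ := Submodule.Quotient.mk_surjective _ xbar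
    ext a
    rw [Ideal.mem_comap, hx, Submodule.mem_annihilator_span_singleton,
      ← Submodule.Quotient.mk_smul, Submodule.Quotient.mk_eq_zero]
    constructor
    · intro h
      by_contra ha
      have h1 : ((1 : p.ResidueField ⊗[R] S) ⊗ₜ[S] x : (p.ResidueField ⊗[R] S) ⊗[S] N) = 0 := by
        apply L2 p S N a ha
        rw [← TensorProduct.tmul_smul]
        exact (one_tmul_eq_zero_iff p S N _).mpr h
      have h2 := (one_tmul_eq_zero_iff p S N x).mp h1
      apply hq.ne_top
      rw [hx, Ideal.eq_top_iff_one, Submodule.mem_annihilator_span_singleton, one_smul,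
        Submodule.Quotient.mk_eq_zero]
      exact h2
    · intro ha
      exact Submodule.smul_mem_smul (Ideal.mem_map_of_mem _ ha) Submodule.mem_top

end Flat

end Groth.Agent.Lib.AssFiber2
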