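import Mathlib
import Groth.Prelude.Def_FlatCA
import Groth.Agent.Lib.AssFiber2_lead

/-!
# Associated primes of fibre modules II (lead) — S9665, S9666 (no flatness)
-/

set_option autoImplicit false
universe u

namespace Groth.Agent.Lib.AssFiber3

open TensorProduct Groth.Agent.Lib.AssFiberTensor Groth.Agent.Lib.AssFiber2

attribute [local instance] Algebra.TensorProduct.rightAlgebra

variable {R : Type u} [CommRing R] (p : Ideal R) [p.IsPrime] (S : Type u) [CommRing S]
  [Algebra R S] (N : Type u) [AddCommGroup N] [Module S N] [Module R N] [IsScalarTower R S N]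

/-- the additive map `N ⊗[R] κ(p) → κ(p) ⊗[R/p] (N/pN)` -/
noncomputable def psi : N ⊗[R] p.ResidueField →+
    p.ResidueField ⊗[R ⧸ p] (N ⧸ (p • (⊤ : Submodule R N))) :=
  TensorProduct.liftAddHom
    { toFun := fun n => ((TensorProduct.mk (R ⧸ p) p.ResidueField
        (N ⧸ (p • (⊤ : Submodule R N)))).flip (Submodule.Quotient.mk n)).toAddMonoidHom
      map_zero' := by
        ext k
        simp
      map_add' := fun n n' => by
        ext k
        simp [TensorProduct.tmul_add] }
    (fun r n k => by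
      show k ⊗ₜ[R ⧸ p] (Submodule.Quotient.mk (r • n) : N ⧸ (p • (⊤ : Submodule R N))) =
        (r • k) ⊗ₜ[R ⧸ p] (Submodule.Quotient.mk n : N ⧸ (p • (⊤ : Submodule R N)))
      rw [← algebraMap_smul (R ⧸ p) r k, TensorProduct.smul_tmul]
      rfl)

lemma psi_tmul (n : N) (k : p.ResidueField) :
    psi p N (n ⊗ₜ[R] k) = k ⊗ₜ[R ⧸ p] (Submodule.Quotient.mk n : N ⧸ (p • (⊤ : Submodule R N))) :=
  rfl

lemma exists_of_one_tmul_eq_zero (n : N)
    (h : ((1 : p.ResidueField ⊗[R] S) ⊗ₜ[S] n : (p.ResidueField ⊗[R] S) ⊗[S] N) = 0) :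
    ∃ b : R, b ∉ p ∧
      (algebraMap R S b) • n ∈ (p.map (algebraMap R S)) • (⊤ : Submodule S N) := by
  have h1 : n ⊗ₜ[R] (1 : p.ResidueField) = 0 := by
    rw [← e_one_tmul p S N n, h, map_zero]
  have h2 : (TensorProduct.mk (R ⧸ p) p.ResidueField (N ⧸ (p • (⊤ : Submodule R N))) 1)
      (Submodule.Quotient.mk n) = 0 := by
    have := congrArg (psi p N) h1
    rw [map_zero, psi_tmul] at this
    exact this
  obtain ⟨⟨c, hc⟩, hcn⟩ := (IsLocalizedModule.eq_zero_iff (nonZeroDivisors (R ⧸ p))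
    (TensorProduct.mk (R ⧸ p) p.ResidueField (N ⧸ (p • (⊤ : Submodule R N))) 1)).mp h2
  obtain ⟨b, rfl⟩ := Ideal.Quotient.mk_surjective c
  refine ⟨b, fun hb => nonZeroDivisors.ne_zero hc (Ideal.Quotient.eq_zero_iff_mem.mpr hb), ?_⟩
  rw [algebraMap_smul, mem_map_smul_iff]
  have h3 : (Submodule.Quotient.mk (b • n) : N ⧸ (p • (⊤ : Submodule R N))) = 0 := hcn
  exact (Submodule.Quotient.mk_eq_zero _).mp h3

lemma one_tmul_eq_zero_of_mem (m : N)
    (hm : m ∈ (p.map (algebraMap R S)) • (⊤ : Submodule S N)) :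
    ((1 : p.ResidueField ⊗[R] S) ⊗ₜ[S] m : (p.ResidueField ⊗[R] S) ⊗[S] N) = 0 := by
  rw [mem_map_smul_iff] at hm
  refine Submodule.smul_induction_on hm ?_ ?_
  · intro a ha n' _
    rw [← algebraMap_smul S a n', TensorProduct.tmul_smul,
      ← L1 p S N (algebraMap R S a) _]
    have h0 : ((1 : p.ResidueField) ⊗ₜ[R] algebraMap R S a : p.ResidueField ⊗[R] S) = 0 := by
      rw [Algebra.algebraMap_eq_smul_one, ← TensorProduct.smul_tmul, Algebra.smul_def, mul_one,
        Ideal.algebraMap_residueField_eq_zero.mpr ha, TensorProduct.zero_tmul]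
    rw [h0, zero_smul]
  · intro x y hx hy
    rw [TensorProduct.tmul_add, hx, hy, add_zero]

lemma ann_mk_eq' (q : Ideal S) [q.IsPrime] (hq : q.comap (algebraMap R S) = p) (x : N)
    (hx : q = (Submodule.span S {(Submodule.Quotient.mk x :
        N ⧸ (p.map (algebraMap R S)) • (⊤ : Submodule S N))}).annihilator) :
    (Submodule.span S {(Submodule.Quotient.mk x :
        N ⧸ (p.map (algebraMap R S)) • (⊤ : Submodule S N))}).annihilator =
      (Submodule.span S {((1 : p.ResidueField ⊗[R] S) ⊗ₜ[S] x :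
        (p.ResidueField ⊗[R] S) ⊗[S] N)}).annihilator := by
  ext s
  rw [Submodule.mem_annihilator_span_singleton, Submodule.mem_annihilator_span_singleton,
    ← Submodule.Quotient.mk_smul, Submodule.Quotient.mk_eq_zero, ← TensorProduct.tmul_smul]
  constructor
  · exact one_tmul_eq_zero_of_mem p S N _
  · intro h0
    obtain ⟨b, hb, hbm⟩ := exists_of_one_tmul_eq_zero p S N (s • x) h0
    have h1 : algebraMap R S b * s ∈ q := by
      rw [hx, Submodule.mem_annihilator_span_singleton, ← Submodule.Quotient.mk_smul,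
        Submodule.Quotient.mk_eq_zero, mul_smul]
      exact hbm
    rcases Ideal.IsPrime.mem_or_mem ‹q.IsPrime› h1 with h2 | h2
    · have h3 : b ∈ q.comap (algebraMap R S) := Ideal.mem_comap.mpr h2
      rw [hq] at h3
      exact absurd h3 hb
    · rw [hx, Submodule.mem_annihilator_span_singleton, ← Submodule.Quotient.mk_smul,
        Submodule.Quotient.mk_eq_zero] at h2
      exact h2

/-- S9665 -/
theorem main9665 (q : Ideal S) [q.IsPrime] (hq : q.comap (algebraMap R S) = p)
    (h : q ∈ FlatCA.ass S (N ⧸ (p.map (algebraMap R S)) • (⊤ : Submodule S N))) :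
    q ∈ FlatCA.ass S (FlatCA.fiberMod p S N) := by
  obtain ⟨hqp, xbar, hx⟩ := h
  obtain ⟨x, rfl⟩ := Submodule.Quotient.mk_surjective _ xbar
  exact ⟨hqp, ((1 : p.ResidueField ⊗[R] S) ⊗ₜ[S] x : (p.ResidueField ⊗[R] S) ⊗[S] N),
    hx.trans (ann_mk_eq' p S N q hq x hx)⟩

/-- S9666 -/
theorem main9666 [IsNoetherianRing S] (q : Ideal S) [q.IsPrime]
    (hq : q.comap (algebraMap R S) = p)
    (h : q ∈ FlatCA.ass S (FlatCA.fiberMod p S N)) :
    q ∈ FlatCA.ass S (N ⧸ (p.map (algebraMap R S)) • (⊤ : Submodule S N)) := by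
  obtain ⟨hqp, y, hy⟩ := h
  obtain ⟨b, hb, n₀, hbn⟩ := decomp p S N y
  have hy' : q = (Submodule.span S {((1 : p.ResidueField ⊗[R] S) ⊗ₜ[S] n₀ :
      (p.ResidueField ⊗[R] S) ⊗[S] N)}).annihilator :=
    hy.trans (ann_decomp p S N y b hb n₀ hbn)
  have hs : ∀ s ∈ q, ∃ c : R, c ∉ p ∧
      (algebraMap R S c * s) • n₀ ∈ (p.map (algebraMap R S)) • (⊤ : Submodule S N) := by
    intro s hs
    rw [hy', Submodule.mem_annihilator_span_singleton, ← TensorProduct.tmul_smul] at hs
    obtain ⟨c, hc, hcm⟩ := exists_of_one_tmul_eq_zero p S N (s • n₀) hs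
    exact ⟨c, hc, by rw [mul_smul]; exact hcm⟩
  have claim : ∀ T : Finset S, (∀ s ∈ T, s ∈ q) → ∃ c : R, c ∉ p ∧ ∀ s ∈ T,
      (algebraMap R S c * s) • n₀ ∈ (p.map (algebraMap R S)) • (⊤ : Submodule S N) := by
    classical
    intro T
    induction T using Finset.induction_on with
    | empty => intro _; exact ⟨1, one_notMem p, fun s hs => absurd hs (Finset.notMem_empty s)⟩
    | insert a T' ha ih =>
      intro hall
      obtain ⟨c₁, hc₁, h₁⟩ := ih (fun s hs => hall s (Finset.mem_insert_of_mem hs))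
      obtain ⟨c₂, hc₂, h₂⟩ := hs a (hall a (Finset.mem_insert_self a T'))
      refine ⟨c₁ * c₂, fun h => (Ideal.IsPrime.mem_or_mem ‹p.IsPrime› h).elim hc₁ hc₂, ?_⟩
      intro s hs'
      rcases Finset.mem_insert.mp hs' with rfl | hs''
      · rw [map_mul, mul_assoc, mul_smul]
        exact Submodule.smul_mem _ _ h₂
      · rw [map_mul, mul_comm (algebraMap R S c₁) (algebraMap R S c₂), mul_assoc, mul_smul]
        exact Submodule.smul_mem _ _ (h₁ s hs'')
  obtain ⟨T, hT⟩ := (IsNoetherian.noetherian q : q.FG)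
  obtain ⟨c, hc, hcT⟩ := claim T (fun s hs => by rw [← hT]; exact Submodule.subset_span hs)
  have hall : ∀ s ∈ q,
      (algebraMap R S c * s) • n₀ ∈ (p.map (algebraMap R S)) • (⊤ : Submodule S N) := by
    intro s hs'
    rw [← hT] at hs'
    refine Submodule.span_induction ?_ ?_ ?_ ?_ hs'
    · intro t ht
      exact hcT t ht
    · rw [mul_zero, zero_smul]
      exact zero_mem _
    · intro u v _ _ hu hv
      rw [mul_add, add_smul]
      exact add_mem hu hv
    · intro a u _ hu
      rw [smul_eq_mul, mul_left_comm, mul_smul]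
      exact Submodule.smul_mem _ _ hu
  refine ⟨hqp, Submodule.Quotient.mk ((algebraMap R S c) • n₀), ?_⟩
  ext s
  rw [Submodule.mem_annihilator_span_singleton, ← Submodule.Quotient.mk_smul,
    Submodule.Quotient.mk_eq_zero, ← mul_smul]
  constructor
  · intro hs'
    rw [mul_comm]
    exact hall s hs'
  · intro hs'
    have h1 : s * algebraMap R S c ∈ q := by
      rw [hy', Submodule.mem_annihilator_span_singleton, ← TensorProduct.tmul_smul]
      exact one_tmul_eq_zero_of_mem p S N _ hs'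
    rcases Ideal.IsPrime.mem_or_mem ‹q.IsPrime› h1 with h2 | h2
    · exact h2
    · have h3 : c ∈ q.comap (algebraMap R S) := Ideal.mem_comap.mpr h2
      rw [hq] at h3
      exact absurd h3 hc

end Groth.Agent.Lib.AssFiber3
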