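import Mathlib
import Groth.Prelude.Def_FlatCA
import Groth.Agent.Lib.AssFiber2_lead

/-!
# Associated primes of `N ⊗ M` for flat `N` (lead) — S9670
-/

set_option autoImplicit false
universe u

namespace Groth.Agent.Lib.AssFiber4

open TensorProduct Groth.Agent.Lib.AssFiberTensor Groth.Agent.Lib.AssFiber2

attribute [local instance] Algebra.TensorProduct.rightAlgebra

section General

variable {S : Type u} [CommRing S] {A B C : Type u} [AddCommGroup A] [Module S A]
  [AddCommGroup B] [Module S B] [AddCommGroup C] [Module S C]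

lemma ass_of_equiv (φ : A ≃ₗ[S] B) {q : Ideal S} (h : q ∈ FlatCA.ass S A) :
    q ∈ FlatCA.ass S B := by
  obtain ⟨hq, a, ha⟩ := h
  refine ⟨hq, φ a, ?_⟩
  rw [ha]
  ext s
  rw [Submodule.mem_annihilator_span_singleton, Submodule.mem_annihilator_span_singleton,
    ← map_smul, LinearEquiv.map_eq_zero_iff]

lemma ass_subset_union (i : A →ₗ[S] B) (π : B →ₗ[S] C) (hi : Function.Injective i)
    (hex : Function.Exact i π) {q : Ideal S} (h : q ∈ FlatCA.ass S B) :
    q ∈ FlatCA.ass S A ∨ q ∈ FlatCA.ass S C := by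
  obtain ⟨hq, β, hβ⟩ := h
  have hmem : ∀ t : S, t ∈ q ↔ t • β = 0 := fun t => by
    rw [hβ, Submodule.mem_annihilator_span_singleton]
  by_cases hc : ∃ s : S, s ∉ q ∧ s • β ∈ Set.range i
  · obtain ⟨s, hs, α, hα⟩ := hc
    left
    refine ⟨hq, α, ?_⟩
    ext t
    rw [Submodule.mem_annihilator_span_singleton, ← map_eq_zero_iff i hi, map_smul, hα]
    constructor
    · intro ht
      rw [smul_comm, (hmem t).mp ht, smul_zero]
    · intro ht
      rw [← mul_smul] at ht
      rcases hq.mem_or_mem ((hmem _).mpr ht) with h1 | h1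
      · exact h1
      · exact absurd h1 hs
  · right
    push_neg at hc
    refine ⟨hq, π β, ?_⟩
    ext t
    rw [Submodule.mem_annihilator_span_singleton, ← map_smul]
    constructor
    · intro ht
      rw [(hmem t).mp ht, map_zero]
    · intro ht
      by_contra htq
      exact hc t htq ((hex _).mp ht)

end General

variable {R : Type u} [CommRing R] (S : Type u) [CommRing S]
  [Algebra R S] (N : Type u) [AddCommGroup N] [Module S N] [Module R N] [IsScalarTower R S N]

lemma tmul_one_eq_zero_iff (p₀ : Ideal R) [p₀.IsPrime] (n : N) :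
    (n ⊗ₜ[R] (1 : R ⧸ p₀) = 0) ↔ n ∈ (p₀.map (algebraMap R S)) • (⊤ : Submodule S N) := by
  rw [mem_map_smul_iff,
    ← LinearEquiv.map_eq_zero_iff (TensorProduct.tensorQuotEquivQuotSMul N p₀)]
  have h1 : TensorProduct.tensorQuotEquivQuotSMul N p₀ (n ⊗ₜ[R] (1 : R ⧸ p₀)) =
      Submodule.Quotient.mk n := by
    have := TensorProduct.tensorQuotEquivQuotSMul_tmul_mk (M := N) p₀ n 1
    simpa using this
  rw [h1, Submodule.Quotient.mk_eq_zero]

lemma exists_tmul_one (p₀ : Ideal R) (ξ : N ⊗[R] (R ⧸ p₀)) :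
    ∃ n : N, ξ = n ⊗ₜ[R] (1 : R ⧸ p₀) := by
  induction ξ using TensorProduct.induction_on with
  | zero => exact ⟨0, (TensorProduct.zero_tmul _ _).symm⟩
  | tmul n r =>
    obtain ⟨r, rfl⟩ := Ideal.Quotient.mk_surjective r
    refine ⟨r • n, ?_⟩
    rw [TensorProduct.smul_tmul, Algebra.smul_def, mul_one, Ideal.Quotient.algebraMap_eq]
  | add x y hx hy =>
    obtain ⟨n₁, rfl⟩ := hx
    obtain ⟨n₂, rfl⟩ := hy
    exact ⟨n₁ + n₂, (TensorProduct.add_tmul _ _ _).symm⟩

lemma ass_tensor_quot (p₀ : Ideal R) [p₀.IsPrime] {q : Ideal S} (h : q ∈ FlatCA.ass S (N ⊗[R] (R ⧸ p₀))) :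
    q ∈ FlatCA.ass S (N ⧸ (p₀.map (algebraMap R S)) • (⊤ : Submodule S N)) := by
  obtain ⟨hq, ξ, hξ⟩ := h
  obtain ⟨n, rfl⟩ := exists_tmul_one N p₀ ξ
  refine ⟨hq, Submodule.Quotient.mk n, ?_⟩
  rw [hξ]
  ext s
  rw [Submodule.mem_annihilator_span_singleton, Submodule.mem_annihilator_span_singleton,
    TensorProduct.smul_tmul', tmul_one_eq_zero_iff S N p₀, ← Submodule.Quotient.mk_smul,
    Submodule.Quotient.mk_eq_zero]

variable [IsNoetherianRing R] [Module.Flat R N]

lemma key (M : Type u) [AddCommGroup M] [Module R M] [Module.Finite R M] :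
    ∀ q : Ideal S, q ∈ FlatCA.ass S (N ⊗[R] M) →
      q ∈ FlatCA.ass S
        (N ⧸ ((q.comap (algebraMap R S)).map (algebraMap R S)) • (⊤ : Submodule S N)) := by
  refine IsNoetherianRing.induction_on_isQuotientEquivQuotientPrime R
    (inferInstance : Module.Finite R M)
    (motive := fun M _ _ _ => ∀ q : Ideal S, q ∈ FlatCA.ass S (N ⊗[R] M) →
      q ∈ FlatCA.ass S
        (N ⧸ ((q.comap (algebraMap R S)).map (algebraMap R S)) • (⊤ : Submodule S N)))
    ?_ ?_ ?_
  · intro M _ _ _ _ q hq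
    exfalso
    have hall : ∀ ξ : N ⊗[R] M, ξ = 0 := by
      intro ξ
      induction ξ using TensorProduct.induction_on with
      | zero => rfl
      | tmul n m => rw [Subsingleton.elim m 0, TensorProduct.tmul_zero]
      | add x y hx hy => rw [hx, hy, add_zero]
    obtain ⟨hqp, ξ, hξ⟩ := hq
    have h0 : ξ = 0 := hall ξ
    apply hqp.ne_top
    rw [hξ, Ideal.eq_top_iff_one, Submodule.mem_annihilator_span_singleton, h0, smul_zero]
  · intro M _ _ _ p₀ e q hq
    haveI := p₀.2
    have h1 : q ∈ FlatCA.ass S (N ⊗[R] (R ⧸ p₀.1)) :=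
      ass_of_equiv (TensorProduct.AlgebraTensorModule.congr (LinearEquiv.refl S N) e) hq
    have h2 := ass_tensor_quot S N p₀.1 h1
    have h3 : q.comap (algebraMap R S) = p₀.1 := (main9669 p₀.1 S N).2 q h2
    rw [h3]
    exact h2
  · intro M₁ _ _ _ M₂ _ _ _ M₃ _ _ _ f g hf hg hfg h1 h3 q hq
    have hinj : Function.Injective (TensorProduct.AlgebraTensorModule.lTensor S N f) := by
      rw [TensorProduct.AlgebraTensorModule.coe_lTensor]
      exact Module.Flat.lTensor_preserves_injective_linearMap f hf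
    have hex : Function.Exact (TensorProduct.AlgebraTensorModule.lTensor S N f)
        (TensorProduct.AlgebraTensorModule.lTensor S N g) := by
      rw [TensorProduct.AlgebraTensorModule.coe_lTensor,
        TensorProduct.AlgebraTensorModule.coe_lTensor]
      exact lTensor_exact N hfg hg
    rcases ass_subset_union _ _ hinj hex hq with h | h
    · exact h1 q h
    · exact h3 q h

/-- S9670 -/
theorem main (M : Type u) [AddCommGroup M] [Module R M] [Module.Finite R M]
    (p : Ideal R) [p.IsPrime] (q : Ideal S) [q.IsPrime] (hq : q.comap (algebraMap R S) = p)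
    (h : q ∈ FlatCA.ass S (N ⊗[R] M)) :
    q ∈ FlatCA.ass S (N ⧸ (p.map (algebraMap R S)) • (⊤ : Submodule S N)) := by
  have := key S N M q h
  rw [hq] at this
  exact this

end Groth.Agent.Lib.AssFiber4
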