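import Mathlib

/-!
# Helpers for associated primes of tensor products / fibre modules (helper9)
-/

set_option autoImplicit false
universe u

namespace Groth.Agent.Lib.AssFibre

open TensorProduct

section
variable {R S : Type u} [CommRing R] [CommRing S] [Algebra R S] (N : Type u) [AddCommGroup N]
  [Module S N] [Module R N] [IsScalarTower R S N]

theorem lTensor_smul' {A B : Type*} [AddCommGroup A] [Module R A] [AddCommGroup B] [Module R B]
    (f : A →ₗ[R] B) (s : S) (y : N ⊗[R] A) : (f.lTensor N) (s • y) = s • (f.lTensor N) y := by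
  induction y with
  | zero => simp
  | tmul a b => simp [TensorProduct.smul_tmul']
  | add a b ha hb => simp only [smul_add, map_add, ha, hb]

theorem lTensor_eq_zero_of_fg {M : Type u} [AddCommGroup M] [Module R M] {P : Submodule R M} (hP : P.FG)
    (t : N ⊗[R] P) (h : (P.subtype.lTensor N) t = 0) :
    ∃ (Q : Submodule R M) (hPQ : P ≤ Q), Q.FG ∧ ((Submodule.inclusion hPQ).lTensor N) t = 0 := by
  have hc : ∀ {A B : Type u} [AddCommGroup A] [Module R A] [AddCommGroup B] [Module R B]
      (f : A →ₗ[R] B) (y : N ⊗[R] A),
      (TensorProduct.comm R N B) ((f.lTensor N) y) = (f.rTensor N) ((TensorProduct.comm R N A) y) := by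
    intro A B _ _ _ _ f y
    induction y with
    | zero => simp
    | tmul a b => simp
    | add a b ha hb => simp only [map_add, ha, hb]
  have h' : (P.subtype.rTensor N) ((TensorProduct.comm R N P) t) = 0 := by
    rw [← hc, h, map_zero]
  obtain ⟨Q, hPQ, hQ, h2⟩ := TensorProduct.eq_zero_of_fg_of_subtype_eq_zero hP h'
  refine ⟨Q, hPQ, hQ, ?_⟩
  apply (TensorProduct.comm R N Q).injective
  rw [hc, h2, map_zero]

end

end Groth.Agent.Lib.AssFibre
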