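import Mathlib
import Groth.Prelude.Def_FlatCA

set_option autoImplicit false
universe u

namespace Groth.Agent.Lib.AssFlatDomain

variable {R S : Type u} [CommRing R] [IsDomain R] [CommRing S] [Algebra R S]
  (N : Type u) [AddCommGroup N] [Module S N] [Module R N] [IsScalarTower R S N]
  [Module.Flat R N]

local notation "T" => Algebra.algebraMapSubmonoid S (nonZeroDivisors R)

include R in
lemma tf (t : T) (n : N) (h : (t : S) • n = 0) : n = 0 := by
  obtain ⟨r, hr, hrt⟩ := t.2
  rw [← hrt, algebraMap_smul] at h
  have hreg := Module.Flat.isSMulRegular_of_nonZeroDivisors (M := N) hr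
  have h' : r • n = r • (0 : N) := by rw [h, smul_zero]
  exact hreg h'

lemma mk_eq_zero_iff' (n : N) (t : T) :
    LocalizedModule.mk n t = 0 ↔ ∃ u : T, u • n = 0 := by
  rw [← LocalizedModule.zero_mk (1 : T), LocalizedModule.mk_eq]
  simp only [one_smul, smul_zero]

lemma ann_mk (n : N) (t : T) :
    (Submodule.span S {LocalizedModule.mk n t}).annihilator =
      (Submodule.span S {n}).annihilator := by
  ext s
  rw [Submodule.mem_annihilator_span_singleton, Submodule.mem_annihilator_span_singleton,
    LocalizedModule.smul'_mk, mk_eq_zero_iff']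
  constructor
  · rintro ⟨u, hu⟩
    exact tf N u _ hu
  · intro h
    exact ⟨1, by rw [h, smul_zero]⟩

lemma comap_ann (y : LocalizedModule T N) :
    ((Submodule.span (Localization T) {y}).annihilator).comap
        (algebraMap S (Localization T)) =
      (Submodule.span S {y}).annihilator := by
  ext s
  rw [Ideal.mem_comap, Submodule.mem_annihilator_span_singleton,
    Submodule.mem_annihilator_span_singleton, algebraMap_smul]

lemma exists_mk (y : LocalizedModule T N) : ∃ (n : N) (t : T), y = LocalizedModule.mk n t := by
  induction y using LocalizedModule.induction_on with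
  | _ n t => exact ⟨n, t, rfl⟩

theorem main :
    FlatCA.ass S N = FlatCA.ass S (LocalizedModule T N) ∧
      FlatCA.ass S N = Ideal.comap (algebraMap S (Localization T)) ''
        FlatCA.ass (Localization T) (LocalizedModule T N) := by
  constructor
  · ext p
    constructor
    · rintro ⟨hp, n, rfl⟩
      exact ⟨hp, LocalizedModule.mk n 1, (ann_mk N n 1).symm⟩
    · rintro ⟨hp, y, rfl⟩
      obtain ⟨n, t, rfl⟩ := exists_mk N y
      exact ⟨hp, n, ann_mk N n t⟩
  · ext p
    constructor
    · rintro ⟨hp, n, rfl⟩
      have hcomap : ((Submodule.span (Localization T)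
          {LocalizedModule.mk n (1 : T)}).annihilator).comap (algebraMap S (Localization T)) =
          (Submodule.span S {n}).annihilator := by
        rw [comap_ann, ann_mk]
      refine ⟨(Submodule.span (Localization T) {LocalizedModule.mk n (1 : T)}).annihilator,
        ⟨?_, _, rfl⟩, hcomap⟩
      have hdisj : Disjoint ((T : Submonoid S) : Set S)
          ((Submodule.span S {n}).annihilator : Set S) := by
        rw [Set.disjoint_left]
        intro t ht htn
        rw [SetLike.mem_coe, Submodule.mem_annihilator_span_singleton] at htn
        have hn0 : n = 0 := tf N ⟨t, ht⟩ n htn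
        apply hp.ne_top
        rw [Ideal.eq_top_iff_one, Submodule.mem_annihilator_span_singleton, hn0, smul_zero]
      have := IsLocalization.isPrime_of_isPrime_disjoint T (Localization T) _ hp hdisj
      rwa [← hcomap, IsLocalization.map_comap T (Localization T)] at this
    · rintro ⟨q, ⟨hq, y, rfl⟩, rfl⟩
      obtain ⟨n, t, rfl⟩ := exists_mk N y
      haveI := hq
      refine ⟨Ideal.comap_isPrime _ _, n, ?_⟩
      rw [comap_ann, ann_mk]

end Groth.Agent.Lib.AssFlatDomain
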