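import Mathlib

/-!
# Non-torsion elements of finite modules over a domain are detected by functionals (helper3)
-/

set_option autoImplicit false
set_option maxSynthPendingDepth 3

namespace Groth.Agent.Lib.Torsionless

universe u v

lemma exists_dual_ne_zero_of_not_torsion {A : Type u} [CommRing A] [IsDomain A] {Q : Type v}
    [AddCommGroup Q] [Module A Q] [Module.Finite A Q] (q : Q)
    (hq : q ∉ Submodule.torsion A Q) : ∃ φ : Q →ₗ[A] A, φ q ≠ 0 := by
  classical
  let K := FractionRing A
  let V := LocalizedModule (nonZeroDivisors A) Q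
  let ι : Q →ₗ[A] V := LocalizedModule.mkLinearMap (nonZeroDivisors A) Q
  have hv : ι q ≠ 0 := by
    intro h0
    rw [IsLocalizedModule.eq_zero_iff (nonZeroDivisors A)] at h0
    obtain ⟨c, hc⟩ := h0
    exact hq ((Submodule.mem_torsion_iff q).2 ⟨c, hc⟩)
  obtain ⟨l, hl⟩ : ∃ l : Module.Dual K V, l (ι q) ≠ 0 := by
    by_contra hcon
    push_neg at hcon
    exact hv ((Module.forall_dual_apply_eq_zero_iff K (ι q)).1 hcon)
  let μ : Q →ₗ[A] K := (l.restrictScalars A) ∘ₗ ι
  obtain ⟨t, ht⟩ := Module.Finite.fg_top (R := A) (M := Q)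
  obtain ⟨b, hb⟩ := IsLocalization.exist_integer_multiples_of_finset (nonZeroDivisors A)
    (t.image μ)
  have hall : ∀ x : Q, ((b : A) • μ) x ∈ LinearMap.range (Algebra.linearMap A K) := by
    intro x
    have hx : x ∈ Submodule.span A (t : Set Q) := by rw [ht]; trivial
    induction hx using Submodule.span_induction with
    | mem y hy =>
      obtain ⟨z, hz⟩ := hb (μ y) (Finset.mem_image_of_mem μ hy)
      exact ⟨z, hz⟩
    | zero => simp
    | add y z _ _ hy hz => rw [map_add]; exact add_mem hy hz
    | smul c y _ hy => rw [map_smul]; exact Submodule.smul_mem _ _ hy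
  let e := LinearEquiv.ofInjective (Algebra.linearMap A K) (IsFractionRing.injective A K)
  let φ : Q →ₗ[A] A := e.symm.toLinearMap ∘ₗ (((b : A) • μ).codRestrict _ hall)
  refine ⟨φ, ?_⟩
  intro h0
  have h1 : ((b : A) • μ) q = 0 := by
    have h2 := congrArg (fun z => (e z : K)) h0
    simpa [φ] using h2
  rw [LinearMap.smul_apply, Algebra.smul_def, mul_eq_zero] at h1
  rcases h1 with h1 | h1
  · have hb0 : (b : A) = 0 := (IsFractionRing.injective A K) (by rw [h1, map_zero])
    exact nonZeroDivisors.coe_ne_zero b hb0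
  · exact hl h1

end Groth.Agent.Lib.Torsionless
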