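import Mathlib
import Groth.Prelude
import Groth.Agent.Lib.Torsionless_helper3

set_option autoImplicit false
set_option linter.style.haveILetI false

universe u v

open Submodule

namespace Groth.Agent.Lib.AssOmegaH4

variable (A : Type u) (B : Type v) [CommRing A] [CommRing B] [Algebra A B]

theorem sub [IsNoetherianRing A] [IsNoetherianRing B] [Module.Finite A B] (q : Ideal B)
    (hq : IsAssociatedPrime q (Disc.Omega A B)) :
    q.IsPrime ∧ IsAssociatedPrime (q.comap (algebraMap A B)) A := by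
  classical
  obtain ⟨hqp, φ, hφ⟩ := (isAssociatedPrime_iff).mp hq
  haveI := hqp
  refine ⟨hqp, (isAssociatedPrime_iff).mpr ⟨inferInstance, ?_⟩⟩
  have hmem : ∀ r : A, r ∈ q.comap (algebraMap A B) ↔ ∀ x : B, r * φ.toLinearMap x = 0 := by
    intro r
    rw [Ideal.mem_comap]
    conv_lhs => rw [hφ]
    rw [Submodule.mem_colon_singleton, Submodule.mem_bot]
    constructor
    · intro h x
      have h2 : (algebraMap A B r • φ).toLinearMap x = 0 := by rw [h]; rfl
      rw [Disc.Omega.smul_toLinearMap_apply, ← Algebra.smul_def, map_smul, smul_eq_mul] at h2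
      exact h2
    · intro h
      apply Disc.Omega.ext
      apply LinearMap.ext
      intro x
      show φ.toLinearMap (algebraMap A B r * x) = 0
      rw [← Algebra.smul_def, map_smul, smul_eq_mul]
      exact h x
  obtain ⟨s, hs⟩ := (Module.Finite.fg_top : (⊤ : Submodule A B).FG)
  let I : B → Ideal A := fun b => (⊥ : Submodule A A).colon {φ.toLinearMap b}
  have hI : ∀ b r, r ∈ I b ↔ r * φ.toLinearMap b = 0 := fun b r => by
    show r ∈ (⊥ : Submodule A A).colon {φ.toLinearMap b} ↔ _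
    rw [Submodule.mem_colon_singleton, Submodule.mem_bot, smul_eq_mul]
  have hle : s.inf I ≤ q.comap (algebraMap A B) := by
    intro r hr
    rw [Submodule.mem_finsetInf] at hr
    rw [hmem]
    intro x
    have hker : (⊤ : Submodule A B) ≤ LinearMap.ker (r • φ.toLinearMap) := by
      rw [← hs, Submodule.span_le]
      intro y hy
      rw [SetLike.mem_coe, LinearMap.mem_ker, LinearMap.smul_apply, smul_eq_mul]
      exact (hI y r).mp (hr y hy)
    have h3 := hker (Submodule.mem_top : x ∈ ⊤)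
    rw [LinearMap.mem_ker, LinearMap.smul_apply, smul_eq_mul] at h3
    exact h3
  obtain ⟨b, hbs, hb⟩ := (Ideal.IsPrime.inf_le' inferInstance).mp hle
  refine ⟨φ.toLinearMap b, le_antisymm ?_ hb⟩
  intro r hr
  exact (hI b r).mpr ((hmem r).mp hr b)

theorem sup [IsNoetherianRing A] [IsNoetherianRing B] [Module.Finite A B] (q : Ideal B)
    [hq : q.IsPrime] (hp : IsAssociatedPrime (q.comap (algebraMap A B)) A) :
    IsAssociatedPrime q (Disc.Omega A B) := by
  classical
  obtain ⟨hpp, a, ha⟩ := (isAssociatedPrime_iff).mp hp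
  have hmem : ∀ r : A, r ∈ q.comap (algebraMap A B) ↔ r * a = 0 := fun r => by
    conv_lhs => rw [ha]
    rw [Submodule.mem_colon_singleton, Submodule.mem_bot, smul_eq_mul]
  haveI : IsDomain (A ⧸ q.comap (algebraMap A B)) := Ideal.Quotient.isDomain _
  haveI : IsDomain (B ⧸ q) := Ideal.Quotient.isDomain q
  haveI : IsScalarTower A (A ⧸ q.comap (algebraMap A B)) (B ⧸ q) :=
    IsScalarTower.of_algebraMap_eq (fun x => rfl)
  haveI : Module.Finite (A ⧸ q.comap (algebraMap A B)) (B ⧸ q) :=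
    Module.Finite.of_restrictScalars_finite A (A ⧸ q.comap (algebraMap A B)) (B ⧸ q)
  haveI : Algebra.IsIntegral (A ⧸ q.comap (algebraMap A B)) (B ⧸ q) :=
    Algebra.IsIntegral.of_finite _ _
  have hinj : Function.Injective (algebraMap (A ⧸ q.comap (algebraMap A B)) (B ⧸ q)) :=
    Ideal.algebraMap_quotient_injective
  have h1 : (1 : B ⧸ q) ∉ Submodule.torsion (A ⧸ q.comap (algebraMap A B)) (B ⧸ q) := by
    intro h
    rw [Submodule.mem_torsion_iff] at h
    obtain ⟨⟨c, hc⟩, hc1⟩ := h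
    have h2 : algebraMap (A ⧸ q.comap (algebraMap A B)) (B ⧸ q) c = 0 := by
      rw [Algebra.algebraMap_eq_smul_one]; exact hc1
    have h3 : c = 0 := hinj (h2.trans (map_zero _).symm)
    exact (nonZeroDivisors.ne_zero hc) h3
  obtain ⟨ψ₀, hψ₀⟩ := Groth.Agent.Lib.Torsionless.exists_dual_ne_zero_of_not_torsion
    (A := A ⧸ q.comap (algebraMap A B)) (Q := B ⧸ q) 1 h1
  let μ : (A ⧸ q.comap (algebraMap A B)) →ₗ[A] A :=
    Submodule.liftQ (q.comap (algebraMap A B)) (LinearMap.toSpanSingleton A A a) (by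
      intro r hr
      rw [LinearMap.mem_ker]
      show r • a = 0
      rw [smul_eq_mul]
      exact (hmem r).mp hr)
  have hμ : ∀ r : A, μ (Ideal.Quotient.mk _ r) = r * a := fun r => rfl
  have hμinj : ∀ z, μ z = 0 → z = 0 := by
    intro z hz
    obtain ⟨r, rfl⟩ := Ideal.Quotient.mk_surjective z
    rw [hμ] at hz
    exact Ideal.Quotient.eq_zero_iff_mem.mpr ((hmem r).mpr hz)
  let φ : B →ₗ[A] A := μ ∘ₗ (ψ₀.restrictScalars A) ∘ₗ (Ideal.Quotient.mkₐ A q).toLinearMap
  have hφ : ∀ x : B, φ x = μ (ψ₀ (Ideal.Quotient.mk q x)) := fun x => rfl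
  refine (isAssociatedPrime_iff).mpr ⟨hq, (⟨φ⟩ : Disc.Omega A B), ?_⟩
  ext b
  rw [Submodule.mem_colon_singleton, Submodule.mem_bot]
  constructor
  · intro hb
    apply Disc.Omega.ext
    apply LinearMap.ext
    intro x
    show φ (b * x) = 0
    have h0 : Ideal.Quotient.mk q (b * x) = 0 :=
      Ideal.Quotient.eq_zero_iff_mem.mpr (q.mul_mem_right x hb)
    rw [hφ, h0, map_zero, map_zero]
  · intro h
    by_contra hb
    have hb0 : Ideal.Quotient.mk q b ≠ 0 := fun h0 => hb (Ideal.Quotient.eq_zero_iff_mem.mp h0)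
    obtain ⟨r, hr, cbar, hc⟩ :=
      (Algebra.IsAlgebraic.isAlgebraic (R := A ⧸ q.comap (algebraMap A B))
        (Ideal.Quotient.mk q b)).exists_nonzero_dvd (mem_nonZeroDivisors_of_ne_zero hb0)
    obtain ⟨c, rfl⟩ := Ideal.Quotient.mk_surjective cbar
    have h2 : (b • (⟨φ⟩ : Disc.Omega A B)).toLinearMap c = 0 := by rw [h]; rfl
    have h3 : φ (b * c) = 0 := h2
    have e : ψ₀ (Ideal.Quotient.mk q (b * c)) = r * ψ₀ 1 := by
      rw [map_mul, ← hc, Algebra.algebraMap_eq_smul_one, map_smul, smul_eq_mul]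
    rw [hφ, e] at h3
    have h4 : r * ψ₀ 1 = 0 := hμinj _ h3
    rcases mul_eq_zero.mp h4 with h5 | h5
    · exact hr h5
    · exact hψ₀ h5

theorem main [IsNoetherianRing A] [IsNoetherianRing B] [Module.Finite A B] :
    associatedPrimes B (Disc.Omega A B) =
      {q : Ideal B | q.IsPrime ∧ q.comap (algebraMap A B) ∈ associatedPrimes A A} := by
  ext q
  constructor
  · intro h
    exact sub A B q h
  · rintro ⟨h1, h2⟩
    haveI := h1
    exact sup A B q h2

end Groth.Agent.Lib.AssOmegaH4
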