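import Mathlib
import Groth.Prelude

set_option autoImplicit false
set_option linter.style.haveILetI false

universe u

open AlgebraicGeometry CategoryTheory CategoryTheory.Limits TensorProduct

namespace Groth.Agent.Lib.FinSubOIH4

/-- open immersion of affine schemes ⇒ flat ring map -/
theorem flat_of_oi (R S : Type u) [CommRing R] [CommRing S] [Algebra R S]
    (h : IsOpenImmersion (Spec.map (CommRingCat.ofHom (algebraMap R S)))) :
    Module.Flat R S := by
  haveI := h
  have hfl : AlgebraicGeometry.Flat (Spec.map (CommRingCat.ofHom (algebraMap R S))) := inferInstance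
  have h2 : (algebraMap R S).Flat := AlgebraicGeometry.Flat.SpecMap_iff.mp hfl
  exact RingHom.flat_algebraMap_iff.mp h2

/-- open immersion of affine schemes ⇒ epimorphism of rings -/
theorem isEpi_of_oi (R S : Type u) [CommRing R] [CommRing S] [Algebra R S]
    (h : IsOpenImmersion (Spec.map (CommRingCat.ofHom (algebraMap R S)))) :
    Algebra.IsEpi R S := by
  haveI := h
  have : Epi (CommRingCat.ofHom (algebraMap R S)) := ⟨fun {T} f g e => by
    apply Spec.map_injective
    rw [← cancel_mono (Spec.map (CommRingCat.ofHom (algebraMap R S))), ← Spec.map_comp,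
      ← Spec.map_comp, e]⟩
  exact CommRingCat.epi_iff_epi.mp this

/-- Key algebraic lemma: `R → T → S` with `T → S` injective, `R → S` flat epi.  Then the
multiplication `S ⊗[R] T → S` is bijective. -/
theorem mul_bij (R S T : Type u) [CommRing R] [CommRing S] [CommRing T] [Algebra R S]
    [Algebra R T] [Algebra T S] [IsScalarTower R T S] [Module.Flat R S] [Algebra.IsEpi R S]
    (hinj : Function.Injective (algebraMap T S)) :
    Function.Bijective
      (Algebra.TensorProduct.productMap (AlgHom.id R S) (IsScalarTower.toAlgHom R T S)) := by
  set m := Algebra.TensorProduct.productMap (AlgHom.id R S) (IsScalarTower.toAlgHom R T S) with hm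
  let ι : T →ₗ[R] S := (IsScalarTower.toAlgHom R T S).toLinearMap
  have hι : Function.Injective ι := hinj
  have h1 : Function.Injective (LinearMap.lTensor S ι) :=
    Module.Flat.lTensor_preserves_injective_linearMap (M := S) ι hι
  have h2 : Function.Injective (TensorProduct.lift (LinearMap.mul R S)) :=
    Algebra.IsEpi.injective_lift_mul
  have hcomp : ∀ x : S ⊗[R] T,
      m x = (TensorProduct.lift (LinearMap.mul R S)) (LinearMap.lTensor S ι x) := by
    intro x
    induction x using TensorProduct.induction_on with
    | zero => simp
    | tmul s t =>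
      rw [LinearMap.lTensor_tmul, TensorProduct.lift.tmul, hm,
        Algebra.TensorProduct.productMap_apply_tmul]
      rfl
    | add x y hx hy => rw [map_add, map_add, map_add, hx, hy]
  refine ⟨fun x y hxy => ?_, fun s => ⟨s ⊗ₜ[R] (1 : T), ?_⟩⟩
  · apply h1
    apply h2
    rw [← hcomp, ← hcomp, hxy]
  · rw [hm, Algebra.TensorProduct.productMap_apply_tmul, map_one, mul_one]
    rfl

/-- base change of an open immersion of affine schemes -/
theorem oi_includeRight (R S T : Type u) [CommRing R] [CommRing S] [CommRing T] [Algebra R S]
    [Algebra R T]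
    (h : IsOpenImmersion (Spec.map (CommRingCat.ofHom (algebraMap R S)))) :
    IsOpenImmersion (Spec.map (CommRingCat.ofHom
      (Algebra.TensorProduct.includeRight (R := R) (A := S) (B := T)).toRingHom)) := by
  haveI := h
  have e := pullbackSpecIso_inv_snd R S T
  have : IsOpenImmersion ((pullbackSpecIso R S T).inv ≫
      pullback.snd (Spec.map (CommRingCat.ofHom (algebraMap R S)))
        (Spec.map (CommRingCat.ofHom (algebraMap R T)))) := inferInstance
  rw [e] at this
  exact this

/-- `R → T → S`, `T → S` injective, `Spec S → Spec R` an open immersion ⇒ `Spec S → Spec T` is an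
open immersion. -/
theorem oi_mid (R S T : Type u) [CommRing R] [CommRing S] [CommRing T] [Algebra R S]
    [Algebra R T] [Algebra T S] [IsScalarTower R T S]
    (h : IsOpenImmersion (Spec.map (CommRingCat.ofHom (algebraMap R S))))
    (hinj : Function.Injective (algebraMap T S)) :
    IsOpenImmersion (Spec.map (CommRingCat.ofHom (algebraMap T S))) := by
  haveI := flat_of_oi R S h
  haveI := isEpi_of_oi R S h
  have hb := mul_bij R S T hinj
  let e : (S ⊗[R] T) ≃+* S := RingEquiv.ofBijective
    (Algebra.TensorProduct.productMap (AlgHom.id R S) (IsScalarTower.toAlgHom R T S)) hb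
  have key : CommRingCat.ofHom (algebraMap T S) =
      CommRingCat.ofHom (Algebra.TensorProduct.includeRight (R := R) (A := S) (B := T)).toRingHom ≫
        e.toCommRingCatIso.hom := by
    refine CommRingCat.hom_ext (RingHom.ext fun c => ?_)
    show algebraMap T S c = (Algebra.TensorProduct.productMap (AlgHom.id R S)
      (IsScalarTower.toAlgHom R T S)) ((1 : S) ⊗ₜ[R] c)
    rw [Algebra.TensorProduct.productMap_apply_tmul, map_one, one_mul]
    rfl
  rw [key, Spec.map_comp]
  haveI := oi_includeRight R S T h
  infer_instance

end Groth.Agent.Lib.FinSubOIH4
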