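import Mathlib
import Groth.Prelude
import Groth.Agent.Lib.AssOmega_helper4
import Groth.Agent.Lib.FinSubOI_helper4

set_option autoImplicit false
set_option linter.style.haveILetI false

universe u v w

open TensorProduct Submodule

namespace Groth.Agent.Lib.AssFlatEpiH4

/-- For a flat `R`-module `Q` over a Noetherian ring, `Ass_R (Q ⊗ M) ⊆ Ass_R M`. -/
theorem ass_flat_tensor (R : Type u) [CommRing R] [IsNoetherianRing R] (Q : Type v)
    [AddCommGroup Q] [Module R Q] [Module.Flat R Q] (M : Type w) [AddCommGroup M] [Module R M]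
    (x : Q ⊗[R] M) (p : Ideal R) [hp : p.IsPrime]
    (hx : ∀ r : R, r ∈ p ↔ r • x = 0) : ∃ m : M, p = colon (⊥ : Submodule R M) {m} := by
  classical
  by_contra hcon
  push_neg at hcon
  obtain ⟨k, g, hg⟩ := Submodule.fg_iff_exists_fin_generating_family.mp
    ((isNoetherianRing_iff_ideal_fg R).mp inferInstance p)
  let F : M →ₗ[R] (Fin k → M) := LinearMap.pi (fun i => LinearMap.lsmul R M (g i))
  have hF : ∀ m i, F m i = g i • m := fun m i => rfl
  have hgp : ∀ i, g i ∈ p := fun i => by
    rw [← hg]; exact Submodule.subset_span ⟨i, rfl⟩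
  have hK : ∀ m ∈ LinearMap.ker F, ∃ r : R, r ∉ p ∧ r • m = 0 := by
    intro m hm
    have hle : p ≤ colon (⊥ : Submodule R M) {m} := by
      rw [← hg, Submodule.span_le]
      rintro _ ⟨i, rfl⟩
      rw [SetLike.mem_coe, mem_colon_singleton, mem_bot]
      exact congrFun (LinearMap.mem_ker.mp hm) i
    have hlt : p < colon (⊥ : Submodule R M) {m} := lt_of_le_of_ne hle (hcon m)
    obtain ⟨r, hr1, hr2⟩ := SetLike.exists_of_lt hlt
    refine ⟨r, hr2, ?_⟩
    rwa [mem_colon_singleton, mem_bot] at hr1
  have hW : ∀ w : Q ⊗[R] (LinearMap.ker F), ∃ r : R, r ∉ p ∧ r • w = 0 := by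
    intro w
    induction w using TensorProduct.induction_on with
    | zero => exact ⟨1, (Ideal.ne_top_iff_one p).mp hp.ne_top, smul_zero 1⟩
    | tmul q m =>
      obtain ⟨r, hr, hrm⟩ := hK m.1 m.2
      refine ⟨r, hr, ?_⟩
      have h0 : r • m = 0 := Subtype.ext hrm
      rw [← TensorProduct.tmul_smul, h0, tmul_zero]
    | add a b ha hb =>
      obtain ⟨r, hr, hra⟩ := ha
      obtain ⟨s, hs, hsb⟩ := hb
      refine ⟨r * s, fun h => (hp.mem_or_mem h).elim hr hs, ?_⟩
      rw [smul_add, mul_smul r s b, hsb, smul_zero, add_zero, mul_comm, mul_smul, hra, smul_zero]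
  have hpi : ∀ (y : Q ⊗[R] M) (i : Fin k),
      TensorProduct.piRight R R Q (fun _ : Fin k => M)
        (AlgebraTensorModule.lTensor R Q F y) i = g i • y := by
    intro y i
    induction y using TensorProduct.induction_on with
    | zero => simp
    | tmul q m =>
      rw [AlgebraTensorModule.lTensor_tmul, TensorProduct.piRight_apply,
        TensorProduct.piRightHom_tmul]
      show q ⊗ₜ[R] (F m i) = g i • (q ⊗ₜ[R] m)
      rw [hF, TensorProduct.tmul_smul]
    | add a b ha hb => rw [map_add, map_add, Pi.add_apply, ha, hb, smul_add]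
  have hxker : x ∈ LinearMap.ker (AlgebraTensorModule.lTensor R Q F) := by
    rw [LinearMap.mem_ker]
    apply (TensorProduct.piRight R R Q (fun _ : Fin k => M)).injective
    rw [map_zero]
    funext i
    rw [hpi x i]
    exact (hx (g i)).mp (hgp i)
  rw [Module.Flat.ker_lTensor_eq R Q F] at hxker
  obtain ⟨w, rfl⟩ := hxker
  obtain ⟨r, hr, hrw⟩ := hW w
  apply hr
  rw [hx, ← map_smul, hrw, map_zero]

theorem mem_of_lTensor_eq_zero (R : Type u) (S : Type v) [CommRing R] [CommRing S] [Algebra R S]
    [Module.Flat R S] (P : Type w) [AddCommGroup P] [Module R P] (g : R →ₗ[R] P) (K : Ideal S)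
    (hK : ∀ r ∈ LinearMap.ker g, algebraMap R S r ∈ K) (s : S)
    (hs : s ⊗ₜ[R] (g 1) = (0 : S ⊗[R] P)) : s ∈ K := by
  have hmem : (s ⊗ₜ[R] (1 : R)) ∈ LinearMap.ker (AlgebraTensorModule.lTensor R S g) := by
    rw [LinearMap.mem_ker, AlgebraTensorModule.lTensor_tmul]; exact hs
  rw [Module.Flat.ker_lTensor_eq R S g] at hmem
  obtain ⟨w, hw⟩ := hmem
  have key : ∀ w : S ⊗[R] (LinearMap.ker g),
      TensorProduct.rid R S (AlgebraTensorModule.lTensor R S (LinearMap.ker g).subtype w) ∈ K := by
    intro w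
    induction w using TensorProduct.induction_on with
    | zero => simp
    | tmul t r =>
      rw [AlgebraTensorModule.lTensor_tmul, Submodule.subtype_apply, TensorProduct.rid_tmul,
        Algebra.smul_def]
      exact K.mul_mem_right t (hK r.1 r.2)
    | add a b ha hb => rw [map_add, map_add]; exact K.add_mem ha hb
  have h := key w
  rw [hw, TensorProduct.rid_tmul, one_smul] at h
  exact h

/-- For a flat epimorphism every ideal of the target is extended from its contraction. -/
theorem ideal_le_map_comap (R : Type u) (S : Type v) [CommRing R] [CommRing S] [Algebra R S]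
    [Module.Flat R S] [Algebra.IsEpi R S] (J : Ideal S) :
    J ≤ (J.comap (algebraMap R S)).map (algebraMap R S) := by
  intro s hs
  apply mem_of_lTensor_eq_zero R S (S ⧸ J) (Algebra.linearMap R (S ⧸ J)) _ ?_ s ?_
  · intro r hr
    rw [LinearMap.mem_ker, Algebra.linearMap_apply] at hr
    have h1 : Ideal.Quotient.mk J (algebraMap R S r) = 0 := hr
    exact Ideal.mem_map_of_mem _ (Ideal.mem_comap.mpr (Ideal.Quotient.eq_zero_iff_mem.mp h1))
  · rw [Algebra.linearMap_apply, map_one]
    have e : s ⊗ₜ[R] (1 : S) = (1 : S) ⊗ₜ[R] s :=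
      ((Algebra.isEpi_iff_forall_one_tmul_eq R S).mp inferInstance s).symm
    have h2 := congrArg (AlgebraTensorModule.lTensor R S (Ideal.Quotient.mkₐ R J).toLinearMap) e
    rw [AlgebraTensorModule.lTensor_tmul, AlgebraTensorModule.lTensor_tmul] at h2
    have h3 : (Ideal.Quotient.mkₐ R J).toLinearMap s = 0 := Ideal.Quotient.eq_zero_iff_mem.mpr hs
    have h4 : (Ideal.Quotient.mkₐ R J).toLinearMap (1 : S) = (1 : S ⧸ J) := by
      rw [AlgHom.toLinearMap_apply, map_one]
    rw [h3, tmul_zero, h4] at h2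
    exact h2

theorem main (R : Type u) (S : Type v) [CommRing R] [CommRing S] [Algebra R S]
    [Module.Flat R S] [Algebra.IsEpi R S] [IsNoetherianRing R] [IsNoetherianRing S]
    (M : Type w) [AddCommGroup M] [Module R M] :
    associatedPrimes S (S ⊗[R] M) =
      {q : Ideal S | q.IsPrime ∧ q.comap (algebraMap R S) ∈ associatedPrimes R M} := by
  ext q
  constructor
  · intro hq
    obtain ⟨hqp, n, hn⟩ := (isAssociatedPrime_iff).mp hq
    haveI := hqp
    refine ⟨hqp, (isAssociatedPrime_iff).mpr ⟨inferInstance, ?_⟩⟩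
    apply ass_flat_tensor R S M n (q.comap (algebraMap R S))
    intro r
    rw [Ideal.mem_comap]
    conv_lhs => rw [hn]
    rw [mem_colon_singleton, mem_bot, algebraMap_smul]
  · rintro ⟨hqp, hq'⟩
    haveI := hqp
    obtain ⟨hpp, m, hm⟩ := (isAssociatedPrime_iff).mp hq'
    have hmem : ∀ r : R, r ∈ q.comap (algebraMap R S) ↔ r • m = 0 := fun r => by
      conv_lhs => rw [hm]
      rw [mem_colon_singleton, mem_bot]
    refine (isAssociatedPrime_iff).mpr ⟨hqp, (1 : S) ⊗ₜ[R] m, ?_⟩
    ext s
    rw [mem_colon_singleton, mem_bot]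
    constructor
    · intro hs
      have h1 : (q.comap (algebraMap R S)).map (algebraMap R S) ≤
          colon (⊥ : Submodule S (S ⊗[R] M)) {(1 : S) ⊗ₜ[R] m} := by
        rw [Ideal.map_le_iff_le_comap]
        intro r hr
        rw [Ideal.mem_comap, mem_colon_singleton, mem_bot, algebraMap_smul,
          ← TensorProduct.tmul_smul, (hmem r).mp hr, tmul_zero]
      have h2 := h1 (ideal_le_map_comap R S q hs)
      rwa [mem_colon_singleton, mem_bot] at h2
    · intro hs
      apply mem_of_lTensor_eq_zero R S M (LinearMap.toSpanSingleton R M m) q ?_ s ?_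
      · intro r hr
        rw [LinearMap.mem_ker] at hr
        have h0 : r • m = 0 := hr
        exact Ideal.mem_comap.mp ((hmem r).mpr h0)
      · have h0 : LinearMap.toSpanSingleton R M m 1 = m := one_smul R m
        rw [h0]
        rw [TensorProduct.smul_tmul', smul_eq_mul, mul_one] at hs
        exact hs

theorem s8971 (A B' B : Type u) [CommRing A] [CommRing B'] [CommRing B] [IsNoetherianRing A]
    [IsNoetherianRing B] [Algebra A B'] [Algebra B' B] [Algebra A B] [IsScalarTower A B' B]
    (hf : QFDual.IsQFFactor A B' B) :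
    associatedPrimes B (QFDual.omega A B' B) =
      {q : Ideal B | q.IsPrime ∧ q.comap (algebraMap A B) ∈ associatedPrimes A A} := by
  haveI := hf.finite
  haveI : IsNoetherianRing B' := IsNoetherianRing.of_finite A B'
  haveI := Groth.Agent.Lib.FinSubOIH4.flat_of_oi B' B hf.isOpenImmersion
  haveI := Groth.Agent.Lib.FinSubOIH4.isEpi_of_oi B' B hf.isOpenImmersion
  show associatedPrimes B (B ⊗[B'] Disc.Omega A B') = _
  rw [main B' B (Disc.Omega A B'), Groth.Agent.Lib.AssOmegaH4.main A B']
  ext q
  simp only [Set.mem_setOf_eq]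
  constructor
  · rintro ⟨h1, h2, h3⟩
    refine ⟨h1, ?_⟩
    rw [Ideal.comap_comap, ← IsScalarTower.algebraMap_eq] at h3
    exact h3
  · rintro ⟨h1, h3⟩
    haveI := h1
    refine ⟨h1, inferInstance, ?_⟩
    rw [Ideal.comap_comap, ← IsScalarTower.algebraMap_eq]
    exact h3

end Groth.Agent.Lib.AssFlatEpiH4
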