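import Mathlib
import Groth.Prelude
import Groth.Agent.Lib.CohDev14_helper8

/-!
# Deligne's formula: extending morphisms from the complement of `V(I)` to `I^n G` (helper8)
APPEND-ONLY once landed.
-/

set_option autoImplicit false

namespace DeligneH8

open AlgebraicGeometry CategoryTheory CategoryTheory.Limits TopologicalSpace Opposite
open QcqsLoc QCohExtn IsLocalRing CohDevH8

universe u

variable {X : Scheme.{u}}

/-- If the restriction of `p` to `U` is an isomorphism, `p` is bijective on sections over every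
open contained in `U`. -/
theorem app_bijective_of_isIso_restrict_le {H T : X.Modules} (p : H ⟶ T) (U : X.Opens)
    [IsIso ((Scheme.Modules.restrictFunctor U.ι).map p)] {V : X.Opens} (hVU : V ≤ U) :
    Function.Bijective (ap p V) := by
  have hW : U.ι ''ᵁ (U.ι ⁻¹ᵁ V) = V := by
    rw [Scheme.Hom.image_preimage_eq_opensRange_inf, Scheme.Opens.opensRange_ι]
    exact inf_eq_right.mpr hVU
  have hle : U.ι ''ᵁ (U.ι ⁻¹ᵁ V) ≤ V := hW.le
  have h1 : Function.Bijective (ap p (U.ι ''ᵁ (U.ι ⁻¹ᵁ V))) :=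
    ConcreteCategory.bijective_of_isIso
      (((Scheme.Modules.restrictFunctor U.ι).map p).app (U.ι ⁻¹ᵁ V))
  have hH := SubExt.rF_bijective_of_eq H hle hW
  have hT := SubExt.rF_bijective_of_eq T hle hW
  constructor
  · intro a b hab
    apply hH.1
    apply h1.1
    rw [ap_rF, ap_rF, hab]
  · intro t
    obtain ⟨w, hw⟩ := h1.2 (rF T hle t)
    obtain ⟨m, rfl⟩ := hH.2 w
    refine ⟨m, hT.1 ?_⟩
    rw [← ap_rF, hw]


section Supp

variable [IsNoetherian X]

/-- If `p` restricts to an isomorphism over the open `U`, its kernel is supported off `U`. -/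
theorem support_kernel_subset_compl' {H T : X.Modules} (hH : Coh.IsCoh H) (hT : Coh.IsCoh T)
    (p : H ⟶ T) (U : X.Opens) [IsIso ((Scheme.Modules.restrictFunctor U.ι).map p)] :
    CohB1.support (kernel p) ⊆ (U : Set X)ᶜ := by
  intro x hx hxU
  obtain ⟨V, hV, hxV, hVU⟩ := Opens.isBasis_iff_nbhd.mp X.isBasis_affineOpens hxU
  exact support_kernel_subset_compl hH hT p hV
    (app_bijective_of_isIso_restrict_le p U hVU).1 hx hxV

/-- If `p` restricts to an isomorphism over the open `U`, its cokernel is supported off `U`. -/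
theorem support_cokernel_subset_compl' {H T : X.Modules} (hH : Coh.IsCoh H) (hT : Coh.IsCoh T)
    (p : H ⟶ T) (U : X.Opens) [IsIso ((Scheme.Modules.restrictFunctor U.ι).map p)] :
    CohB1.support (cokernel p) ⊆ (U : Set X)ᶜ := by
  intro x hx hxU
  obtain ⟨V, hV, hxV, hVU⟩ := Opens.isBasis_iff_nbhd.mp X.isBasis_affineOpens hxU
  exact support_cokernel_subset_compl hH hT p hV
    (app_bijective_of_isIso_restrict_le p U hVU).2 hx hxV

end Supp

section Main

variable [IsNoetherian X]

/-- **Deligne's formula, surjectivity** (Stacks 01YB): a morphism `G|_U → F|_U` (with `G` coherent,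
`F` quasi-coherent, `U = X ∖ V(I)`) extends to `I^n G → F` for some `n`. -/
theorem exists_extension_pow (F G : X.Modules) (hF : F.IsQuasicoherent) (hG : Coh.IsCoh G)
    (I : X.IdealSheafData) (U : X.Opens) (hU : (U : Set X) = (I.support : Set X)ᶜ)
    (φ : (Scheme.Modules.restrictFunctor U.ι).obj G ⟶
      (Scheme.Modules.restrictFunctor U.ι).obj F) :
    ∃ (n : ℕ) (ψ : (Dual3.idealMul (I ^ n)).obj G ⟶ F),
      (Scheme.Modules.restrictFunctor U.ι).map ψ =
        (Scheme.Modules.restrictFunctor U.ι).map (Dual3.idealMulι (I ^ n) G) ≫ φ := by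
  haveI := hF
  haveI := hG.1
  haveI := hG.2
  have hX : ∀ x : X, ∃ V : X.Opens, x ∈ V ∧ NoetherianSpace (V : Set X) :=
    fun x => ⟨⊤, trivial, inferInstance⟩
  haveI := CohOpenH8.isQuasicoherent_biprod G F
  let Rf := Scheme.Modules.restrictFunctor U.ι
  let i : G.restrict U.ι ⟶ (G ⊞ F).restrict U.ι :=
    Rf.map biprod.inl + φ ≫ Rf.map biprod.inr
  have hi1 : i ≫ Rf.map biprod.fst = 𝟙 _ := by
    simp only [i, Preadditive.add_comp, Category.assoc, ← Functor.map_comp, biprod.inl_fst,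
      biprod.inr_fst, Functor.map_zero, comp_zero, add_zero]
    exact Rf.map_id _
  have hi2 : i ≫ Rf.map biprod.snd = φ := by
    simp only [i, Preadditive.add_comp, Category.assoc, ← Functor.map_comp, biprod.inl_snd,
      biprod.inr_snd, Functor.map_zero, zero_add]
    rw [Rf.map_id]
    exact Category.comp_id _
  haveI : Mono i := mono_of_mono_fac hi1
  obtain ⟨H, i', ε, hmono, hq, hft, hcomm⟩ := SubExt.extend_ft_locNoeth hX U (G ⊞ F)
    (G.restrict U.ι) i (CohOpenH8.isFiniteType_restrict U.ι G hG.2)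
  haveI := hmono
  have hH : Coh.IsCoh H := ⟨hq, hft⟩
  set p₁ : H ⟶ G := i' ≫ biprod.fst with hp₁
  set p₂ : H ⟶ F := i' ≫ biprod.snd with hp₂
  have e1 : Rf.map p₁ = ε.hom := by
    rw [hp₁, Functor.map_comp, ← hcomm, Category.assoc, hi1, Category.comp_id]
  have e2 : Rf.map p₂ = ε.hom ≫ φ := by
    rw [hp₂, Functor.map_comp, ← hcomm, Category.assoc, hi2]
  haveI h1 : IsIso (Rf.map p₁) := by rw [e1]; infer_instance
  have hIs : (I.support : Set X) = (U : Set X)ᶜ := by rw [hU, compl_compl]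
  obtain ⟨n, hn⟩ := exists_mono_idealMul_pow hH hG p₁ I
    (hIs ▸ support_kernel_subset_compl' hH hG p₁ U)
  obtain ⟨m, hm⟩ := exists_lift_idealMul_pow hH hG p₁ I
    (hIs ▸ support_cokernel_subset_compl' hH hG p₁ U)
  haveI hmono₁ : Mono (Dual3.idealMulι (I ^ n) H ≫ p₁) := hn n le_rfl
  obtain ⟨ψ, hψ⟩ := hm n ((Dual3.idealMul (I ^ (n + m))).obj G) (Dual3.idealMulι (I ^ (n + m)) G)
    (fun V hV s => by
      have h1 := idealMulι_app_mem (I ^ (n + m)) G hV s
      exact h1) hmono₁
  refine ⟨n + m, ψ ≫ Dual3.idealMulι (I ^ n) H ≫ p₂, ?_⟩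
  rw [← hψ]
  simp only [Functor.map_comp, Category.assoc]
  show Rf.map ψ ≫ Rf.map (Dual3.idealMulι (I ^ n) H) ≫ Rf.map p₂ =
    Rf.map ψ ≫ Rf.map (Dual3.idealMulι (I ^ n) H) ≫ Rf.map p₁ ≫ φ
  rw [e1, e2]

end Main

end DeligneH8
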