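import Mathlib
import Groth.Prelude
import Groth.Agent.Lib.Deligne1_helper8

/-!
# Deligne's formula, injectivity (helper8)
APPEND-ONLY once landed.
-/

set_option autoImplicit false

namespace DeligneH8

open AlgebraicGeometry CategoryTheory CategoryTheory.Limits TopologicalSpace Opposite
open QcqsLoc QCohExtn IsLocalRing CohDevH8

universe u

variable {X : Scheme.{u}}

/-- If the restriction of `ψ` to `U` is zero, `ψ` vanishes on sections over opens inside `U`. -/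
theorem app_eq_zero_of_restrict_eq_zero_le {A F : X.Modules} (ψ : A ⟶ F) (U : X.Opens)
    (h0 : (Scheme.Modules.restrictFunctor U.ι).map ψ = 0) {V : X.Opens} (hVU : V ≤ U)
    (s : Γ(A, V)) : ap ψ V s = 0 := by
  have hW : U.ι ''ᵁ (U.ι ⁻¹ᵁ V) = V := by
    rw [Scheme.Hom.image_preimage_eq_opensRange_inf, Scheme.Opens.opensRange_ι]
    exact inf_eq_right.mpr hVU
  have hle : U.ι ''ᵁ (U.ι ⁻¹ᵁ V) ≤ V := hW.le
  have h1 : ∀ t : Γ(A, U.ι ''ᵁ (U.ι ⁻¹ᵁ V)), ap ψ (U.ι ''ᵁ (U.ι ⁻¹ᵁ V)) t = 0 := by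
    intro t
    have h2 := congrArg (fun χ => (Scheme.Modules.Hom.app χ (U.ι ⁻¹ᵁ V)).hom t) h0
    exact h2
  have hT := SubExt.rF_bijective_of_eq F hle hW
  apply hT.1
  rw [← ap_rF, h1, map_zero]


section Main

variable [IsNoetherian X]

/-- **Deligne's formula, injectivity** (Stacks 01YB): a morphism `I^n G → F` vanishing on
`U = X ∖ V(I)` vanishes on `I^N G` for some `N`. -/
theorem exists_pow_comp_eq_zero (F G : X.Modules) (hF : F.IsQuasicoherent) (hG : Coh.IsCoh G)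
    (I : X.IdealSheafData) (U : X.Opens) (hU : (U : Set X) = (I.support : Set X)ᶜ) (n : ℕ)
    (ψ : (Dual3.idealMul (I ^ n)).obj G ⟶ F)
    (hψ : (Scheme.Modules.restrictFunctor U.ι).map ψ = 0) :
    ∃ (N : ℕ) (ι : (Dual3.idealMul (I ^ N)).obj G ⟶ (Dual3.idealMul (I ^ n)).obj G),
      ι ≫ Dual3.idealMulι (I ^ n) G = Dual3.idealMulι (I ^ N) G ∧ ι ≫ ψ = 0 := by
  haveI := hF
  haveI := hG.1
  haveI := hG.2
  have hA : Coh.IsCoh ((Dual3.idealMul (I ^ n)).obj G) := isCoh_idealMul (I ^ n) G hG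
  haveI := hA.1
  haveI := hA.2
  have hKq : (kernel ψ).IsQuasicoherent := SubExt.isQuasicoherent_kernel ψ
  have hK : Coh.IsCoh (kernel ψ) := isCoh_of_mono (kernel.ι ψ) hKq hA
  have hQ : Coh.IsCoh (cokernel (kernel.ι ψ)) := CohKerH8.isCoh_cokernel hK hA (kernel.ι ψ)
  haveI := hQ.1
  haveI := hQ.2
  have hsuppQ : CohB1.support (cokernel (kernel.ι ψ)) ⊆ (I.support : Set X) := by
    intro x hx
    by_contra hxI
    have hxU : x ∈ U := by
      show x ∈ (U : Set X)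
      rw [hU]
      exact hxI
    obtain ⟨V, hV, hxV, hVU⟩ := Opens.isBasis_iff_nbhd.mp X.isBasis_affineOpens hxU
    have hsurj : Function.Surjective (ap (kernel.ι ψ) V) := by
      intro t
      have ht : ap ψ V t = 0 := app_eq_zero_of_restrict_eq_zero_le ψ U hψ hVU t
      let S : ShortComplex X.Modules :=
        ShortComplex.mk (kernel.ι ψ) ψ (kernel.condition ψ)
      haveI : Mono S.f := inferInstanceAs (Mono (kernel.ι ψ))
      exact QCohExact.app_exact S (ShortComplex.exact_kernel ψ) V t ht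
    exact support_cokernel_subset_compl hK hA (kernel.ι ψ) hV hsurj hx hxV
  obtain ⟨k, hk⟩ := exists_pow_le_annIdeal (cokernel (kernel.ι ψ)) I hsuppQ
  have hkill : ClSub.KilledByIdeal (I ^ k) (cokernel (kernel.ι ψ)) :=
    (killedByIdeal_iff_le_annIdeal (I ^ k) _).mpr hk
  obtain ⟨ι, hι⟩ := exists_lift_of_affine (Dual3.idealMulι (I ^ n) G)
    (Dual3.idealMulι (I ^ (n + k)) G) (fun V hV s => by
      have h1 := idealMulι_app_mem (I ^ (n + k)) G hV s
      have h2 : ((I ^ (n + k)).ideal ⟨V, hV⟩ • (⊤ : Submodule Γ(X, V) Γ(G, V))) ≤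
          ((I ^ n).ideal ⟨V, hV⟩ • (⊤ : Submodule Γ(X, V) Γ(G, V))) :=
        Submodule.smul_mono (Ideal.pow_le_pow_right (Nat.le_add_right n k)) le_rfl
      exact exists_idealMulι_app_eq (I ^ n) G hV _ (h2 h1))
  refine ⟨n + k, ι, hι, ?_⟩
  apply eq_zero_of_affine
  intro V hV s
  show ap ψ V (ap ι V s) = 0
  have hmem := idealMulι_app_mem (I ^ (n + k)) G hV s
  have hsplit : ((I ^ (n + k)).ideal ⟨V, hV⟩ • (⊤ : Submodule Γ(X, V) Γ(G, V))) =
      (I.ideal ⟨V, hV⟩ ^ k) • ((I.ideal ⟨V, hV⟩ ^ n) • (⊤ : Submodule Γ(X, V) Γ(G, V))) := by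
    show (I.ideal ⟨V, hV⟩ ^ (n + k)) • (⊤ : Submodule Γ(X, V) Γ(G, V)) = _
    rw [add_comm, pow_add, Submodule.mul_smul]
  rw [hsplit] at hmem
  have key : ∀ t ∈ (I.ideal ⟨V, hV⟩ ^ k) •
      ((I.ideal ⟨V, hV⟩ ^ n) • (⊤ : Submodule Γ(X, V) Γ(G, V))),
      ∃ y : Γ((Dual3.idealMul (I ^ n)).obj G, V),
        ap (Dual3.idealMulι (I ^ n) G) V y = t ∧ ap (cokernel.π (kernel.ι ψ)) V y = 0 := by
    intro t ht
    refine Submodule.smul_induction_on ht ?_ ?_
    · intro a ha x hx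
      obtain ⟨y₀, hy₀⟩ := exists_idealMulι_app_eq (I ^ n) G hV x hx
      refine ⟨a • y₀, ?_, ?_⟩
      · rw [ap_smul, hy₀]
      · rw [ap_smul]
        exact hkill ⟨V, hV⟩ a ha _
    · rintro x y ⟨y₁, h₁, h₁'⟩ ⟨y₂, h₂, h₂'⟩
      exact ⟨y₁ + y₂, by rw [map_add, h₁, h₂], by rw [map_add, h₁', h₂', add_zero]⟩
  obtain ⟨y, hy1, hy2⟩ := key _ hmem
  have hιs : ap (Dual3.idealMulι (I ^ n) G) V (ap ι V s) =
      ap (Dual3.idealMulι (I ^ (n + k)) G) V s := by
    have := congrArg (fun χ => ap χ V s) hι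
    exact this
  have hyeq : y = ap ι V s := by
    apply QCohExact.app_injective_of_mono (Dual3.idealMulι (I ^ n) G) V
    rw [hy1, hιs]
  rw [← hyeq]
  let S' : ShortComplex X.Modules :=
    ShortComplex.mk (kernel.ι ψ) (cokernel.π (kernel.ι ψ)) (cokernel.condition _)
  haveI : Mono S'.f := inferInstanceAs (Mono (kernel.ι ψ))
  obtain ⟨w, hw⟩ := QCohExact.app_exact S' (ShortComplex.exact_cokernel _) V y hy2
  have hw' : ap (kernel.ι ψ) V w = y := hw
  rw [← hw']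
  have := congrArg (fun χ => ap χ V w) (kernel.condition ψ)
  exact this

end Main

end DeligneH8
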