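import Mathlib

/-!
# Rank two algebras: the product of two trace-zero elements is a scalar (helper8)
APPEND-ONLY once landed.
-/

set_option autoImplicit false

namespace Rank2H8

open Polynomial

variable {R S : Type*} [CommRing R] [CommRing S] [Algebra R S]

/-- Cayley–Hamilton in a free algebra of rank two. -/
theorem cayley_hamilton (b : Module.Basis (Fin 2) R S) (z : S) :
    z * z - Algebra.trace R S z • z +
      algebraMap R S (Algebra.leftMulMatrix b z).det = 0 := by
  rcases subsingleton_or_nontrivial R with hR | hR
  · haveI : Subsingleton S := Module.subsingleton R S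
    exact Subsingleton.elim _ _
  apply Algebra.leftMulMatrix_injective b
  have h1 := Matrix.aeval_self_charpoly (Algebra.leftMulMatrix b z)
  rw [Matrix.charpoly_fin_two] at h1
  simp only [map_add, map_sub, map_mul, map_pow, aeval_X, aeval_C] at h1
  rw [map_zero, map_add, map_sub, map_mul, map_smul, AlgHom.commutes,
    Algebra.trace_eq_matrix_trace b z]
  rw [← h1, pow_two, Algebra.smul_def]

theorem mul_mem_range_of_trace_zero (b : Module.Basis (Fin 2) R S) (c : R) (hc : 2 * c = 1)
    (x y : S) (hx : Algebra.trace R S x = 0) (hy : Algebra.trace R S y = 0) :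
    ∃ r : R, x * y = algebraMap R S r := by
  have hxy : Algebra.trace R S (x + y) = 0 := by rw [map_add, hx, hy, add_zero]
  have h1 := cayley_hamilton b x
  have h2 := cayley_hamilton b y
  have h3 := cayley_hamilton b (x + y)
  rw [hx, zero_smul, sub_zero] at h1
  rw [hy, zero_smul, sub_zero] at h2
  rw [hxy, zero_smul, sub_zero] at h3
  set nx := (Algebra.leftMulMatrix b x).det
  set ny := (Algebra.leftMulMatrix b y).det
  set nxy := (Algebra.leftMulMatrix b (x + y)).det
  refine ⟨c * (nx + ny - nxy), ?_⟩
  have h4 : 2 * (x * y) = algebraMap R S (nx + ny - nxy) := by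
    rw [map_sub, map_add]
    linear_combination h3 - h1 - h2
  have h5 : algebraMap R S c * 2 = 1 := by
    have := congrArg (algebraMap R S) hc
    rw [map_mul, map_one, map_ofNat] at this
    rw [mul_comm]
    exact this
  calc x * y = (algebraMap R S c * 2) * (x * y) := by rw [h5, one_mul]
    _ = algebraMap R S c * (2 * (x * y)) := by ring
    _ = algebraMap R S (c * (nx + ny - nxy)) := by rw [h4, ← map_mul]

end Rank2H8
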