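import Mathlib
import Groth.Prelude
import Groth.Agent.Lib.Bilin_helper8
import Groth.Agent.Lib.Rank2_helper8

/-!
# A rank two algebra with 2 invertible is the double algebra on the kernel of its trace (helper8)
APPEND-ONLY once landed.
-/

set_option autoImplicit false

namespace FLFH8

open AlgebraicGeometry CategoryTheory CategoryTheory.Limits TopologicalSpace Opposite TensorProduct
open SDivGenH8 SDivFreeH8 QcqsLoc QCohExtn QCAlgMod

universe u

variable {X : Scheme.{u}}

/-- Sections killed by a morphism come from its kernel. -/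
theorem exists_kernel_section {M N : X.Modules} (τ : M ⟶ N) (U : X.Opens) (a : Γ(M, U))
    (ha : ap τ U a = 0) : ∃ l : Γ(kernel τ, U), ap (kernel.ι τ) U l = a := by
  let E : ShortComplex X.Modules := ShortComplex.mk (kernel.ι τ) τ (kernel.condition τ)
  have hE : E.Exact := E.exact_of_f_is_kernel (kernelIsKernel τ)
  haveI : Mono E.f := inferInstanceAs (Mono (kernel.ι τ))
  exact QCohExact.app_exact E hE U a ha

/-- Two sections agreeing locally are equal. -/
theorem section_ext_cover (F : X.Modules) {U : X.Opens} (s t : Γ(F, U))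
    (h : ∀ x ∈ U, ∃ (W : X.Opens) (hW : W ≤ U), x ∈ W ∧ rF F hW s = rF F hW t) : s = t := by
  choose W hWU hxW hst using h
  refine TopCat.Sheaf.eq_of_locally_eq' ⟨F.presheaf, F.isSheaf⟩ (fun x : U => W x.1 x.2) U
    (fun x => homOfLE (hWU x.1 x.2)) ?_ _ _ ?_
  · intro x hx
    exact Opens.mem_iSup.mpr ⟨⟨x, hx⟩, hxW x hx⟩
  · intro x
    exact hst x.1 x.2

section Dbl

variable (A : RelSpec.QCAlg X)

/-- The product of sections of the module underlying an algebra. -/
def mulA {U : X.Opens} (a b : Γ(A.toModule, U)) : Γ(A.toModule, U) :=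
  ofB A (toB A a * toB A b)

theorem mulA_add_left {U : X.Opens} (a a' b : Γ(A.toModule, U)) :
    mulA A (a + a') b = mulA A a b + mulA A a' b := add_mul (toB A a) (toB A a') (toB A b)

theorem mulA_comm {U : X.Opens} (a b : Γ(A.toModule, U)) : mulA A a b = mulA A b a :=
  mul_comm (toB A a) (toB A b)

theorem mulA_smul_left {U : X.Opens} (r : Γ(X, U)) (a b : Γ(A.toModule, U)) :
    mulA A (r • a) b = r • mulA A a b :=
  mul_assoc ((A.str.app (op U)).hom r) (toB A a) (toB A b)

theorem rF_mulA {U V : X.Opens} (h : V ≤ U) (a b : Γ(A.toModule, U)) :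
    rF A.toModule h (mulA A a b) = mulA A (rF A.toModule h a) (rF A.toModule h b) :=
  map_mul (A.presheaf.map (homOfLE h).op).hom (toB A a) (toB A b)

variable (τ : A.toModule ⟶ Coh.structureModule X) (c : Γ(X, ⊤))

/-- `a ↦ c · τ(a)`. -/
noncomputable def halfTr (U : X.Opens) (a : Γ(A.toModule, U)) : Γ(Coh.structureModule X, U) :=
  toM (rX (le_top : U ≤ ⊤) c * ofM (ap τ U a))

theorem halfTr_add (U : X.Opens) (a a' : Γ(A.toModule, U)) :
    halfTr A τ c U (a + a') = halfTr A τ c U a + halfTr A τ c U a' := by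
  unfold halfTr
  rw [map_add]
  exact mul_add (rX (le_top : U ≤ ⊤) c) (ofM (ap τ U a)) (ofM (ap τ U a'))

theorem halfTr_smul (U : X.Opens) (r : Γ(X, U)) (a : Γ(A.toModule, U)) :
    halfTr A τ c U (r • a) = r • halfTr A τ c U a := by
  unfold halfTr
  rw [ap_smul]
  exact mul_left_comm (rX (le_top : U ≤ ⊤) c) r (ofM (ap τ U a))

theorem rF_halfTr {U V : X.Opens} (h : V ≤ U) (a : Γ(A.toModule, U)) :
    rF (Coh.structureModule X) h (halfTr A τ c U a) = halfTr A τ c V (rF A.toModule h a) := by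
  unfold halfTr
  rw [ap_rF]
  have h1 : rX h (rX (le_top : U ≤ ⊤) c) = rX (le_top : V ≤ ⊤) c := rX_rX h le_top c
  rw [← h1]
  exact map_mul (rX h) (rX (le_top : U ≤ ⊤) c) (ofM (ap τ U a))

/-- The pairing `(l, l') ↦ c · τ(l · l')` on the kernel of `τ`. -/
noncomputable def pairing : BilinData (kernel τ) (kernel τ) (Coh.structureModule X) where
  β U l l' := halfTr A τ c U (mulA A (ap (kernel.ι τ) U l) (ap (kernel.ι τ) U l'))
  add_left U m m' n := by
    rw [map_add, mulA_add_left, halfTr_add]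
  smul_left U r m n := by
    rw [ap_smul, mulA_smul_left, halfTr_smul]
  add_right U m n n' := by
    rw [map_add, mulA_comm, mulA_add_left, halfTr_add, mulA_comm A (ap (kernel.ι τ) U n),
      mulA_comm A (ap (kernel.ι τ) U n')]
  smul_right U r m n := by
    rw [ap_smul, mulA_comm, mulA_smul_left, halfTr_smul, mulA_comm]
  natural {U V} h m n := by
    rw [rF_halfTr, rF_mulA, ← ap_rF, ← ap_rF]

end Dbl

section Key

variable (A : RelSpec.QCAlg X) (τ : A.toModule ⟶ Coh.structureModule X) (c : Γ(X, ⊤))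
  (hc : (2 : Γ(X, ⊤)) * c = 1) (hst : FinCov.strMod A ≫ τ = 2 • 𝟙 (Coh.structureModule X))

include hst in
theorem tr_str (U : X.Opens) (r : Γ(X, U)) :
    ofM (ap τ U (ofB A ((A.str.app (op U)).hom r))) = 2 * r := by
  have h1 : ap τ U (ofB A ((A.str.app (op U)).hom r)) =
      ap (FinCov.strMod A ≫ τ) U (toM r) := rfl
  rw [h1, hst, ap_nsmul_id]
  change ((2 : ℕ) • r) = _
  rw [nsmul_eq_mul, Nat.cast_ofNat]

include hc in
theorem cU_two (U : X.Opens) : (2 : Γ(X, U)) * rX (le_top : U ≤ ⊤) c = 1 := by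
  have h1 := congrArg (rX (le_top : U ≤ ⊤)) hc
  rw [map_mul, map_one, map_ofNat] at h1
  exact h1

include hc hst in
theorem halfTr_str (U : X.Opens) (r : Γ(X, U)) :
    ofM (halfTr A τ c U (ofB A ((A.str.app (op U)).hom r))) = r := by
  unfold halfTr
  change rX (le_top : U ≤ ⊤) c * ofM (ap τ U (ofB A ((A.str.app (op U)).hom r))) = r
  rw [tr_str A τ hst, ← mul_assoc, mul_comm _ (2 : Γ(X, U)), cU_two c hc, one_mul]

theorem halfTr_ι (U : X.Opens) (l : Γ(kernel τ, U)) :
    halfTr A τ c U (ap (kernel.ι τ) U l) = 0 := by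
  unfold halfTr
  have h1 : ap τ U (ap (kernel.ι τ) U l) = ap (kernel.ι τ ≫ τ) U l := rfl
  rw [h1, kernel.condition]
  change toM (rX (le_top : U ≤ ⊤) c * 0) = 0
  rw [mul_zero]
  rfl

include hc hst in
theorem key_affine (hτ : FinCov.IsTrace A τ) {O : X.Opens} (hO : IsAffineOpen O)
    (b : Module.Basis (Fin 2) Γ(X, O) Γ(A.toModule, O)) (l l' : Γ(kernel τ, O)) :
    mulA A (ap (kernel.ι τ) O l) (ap (kernel.ι τ) O l') =
      ofB A ((A.str.app (op O)).hom (ofM ((pairing A τ c).β O l l'))) := by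
  letI : Algebra Γ(X, O) (A.presheaf.obj (op O)) := (A.str.app (op O)).hom.toAlgebra
  let b' : Module.Basis (Fin 2) Γ(X, O) (A.presheaf.obj (op O)) := b
  have hfree : Module.Free Γ(X, O) (A.presheaf.obj (op O)) := Module.Free.of_basis b'
  have hfin : Module.Finite Γ(X, O) (A.presheaf.obj (op O)) := Module.Finite.of_basis b'
  have htr : ∀ k : Γ(kernel τ, O), Algebra.trace Γ(X, O) (A.presheaf.obj (op O))
      (toB A (ap (kernel.ι τ) O k)) = 0 := by
    intro k
    rw [← hτ O hO hfree hfin]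
    have h1 : ap τ O (ap (kernel.ι τ) O k) = ap (kernel.ι τ ≫ τ) O k := rfl
    refine Eq.trans h1 ?_
    rw [kernel.condition]
    rfl
  obtain ⟨r, hr⟩ := Rank2H8.mul_mem_range_of_trace_zero b' (rX (le_top : O ≤ ⊤) c)
    (cU_two c hc O) _ _ (htr l) (htr l')
  have hx : mulA A (ap (kernel.ι τ) O l) (ap (kernel.ι τ) O l') =
      ofB A ((A.str.app (op O)).hom r) := hr
  change _ = ofB A ((A.str.app (op O)).hom (ofM (halfTr A τ c O
    (mulA A (ap (kernel.ι τ) O l) (ap (kernel.ι τ) O l')))))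
  rw [hx, halfTr_str A τ c hc hst]

include hc hst in
theorem key (hA : FlatMod.IsFinLocFreeOfRank 2 A.toModule) (hτ : FinCov.IsTrace A τ)
    (U : X.Opens) (l l' : Γ(kernel τ, U)) :
    mulA A (ap (kernel.ι τ) U l) (ap (kernel.ι τ) U l') =
      ofB A ((A.str.app (op U)).hom (ofM ((pairing A τ c).β U l l'))) := by
  apply section_ext_cover A.toModule
  intro x hx
  obtain ⟨V, hxV, ⟨α⟩⟩ := hA x
  obtain ⟨W, hW, hxW, -, t, ht⟩ := exists_affine_bases A.toModule hxV α
  obtain ⟨_, ⟨O, hO : IsAffineOpen O, rfl⟩, hxO, hOWU⟩ :=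
    (X.isBasis_affineOpens).exists_subset_of_mem_open (show x ∈ W ⊓ U from ⟨hxW, hx⟩)
      (W ⊓ U).isOpen
  have hOW : O ≤ W := fun y hy => (hOWU hy).1
  have hOU : O ≤ U := fun y hy => (hOWU hy).2
  obtain ⟨hsp, hli⟩ := ht O hOW
  let b : Module.Basis (Fin 2) Γ(X, O) Γ(A.toModule, O) := Module.Basis.mk hli hsp.ge
  refine ⟨O, hOU, hxO, ?_⟩
  rw [rF_mulA, ← ap_rF, ← ap_rF, key_affine A τ c hc hst hτ hO b]
  have h1 : rF A.toModule hOU (ofB A ((A.str.app (op U)).hom (ofM ((pairing A τ c).β U l l')))) =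
      ofB A ((A.str.app (op O)).hom (rX hOU (ofM ((pairing A τ c).β U l l')))) :=
    str_res A hOU _
  rw [h1]
  have h2 : rX hOU (ofM ((pairing A τ c).β U l l')) =
      ofM ((pairing A τ c).β O (rF (kernel τ) hOU l) (rF (kernel τ) hOU l')) :=
    (pairing A τ c).natural hOU l l'
  rw [h2]

end Key

section Final

variable (A : RelSpec.QCAlg X) (τ : A.toModule ⟶ Coh.structureModule X)

theorem exists_isDblAlg (hA : FlatMod.IsFinLocFreeOfRank 2 A.toModule)
    (hτ : FinCov.IsTrace A τ) (h2 : IsUnit (2 : Γ(X, ⊤))) :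
    ∃ m : CohB1.tensorMod (kernel τ) (kernel τ) ⟶ Coh.structureModule X,
      FinCov.IsDblAlg (kernel τ) m A (kernel.ι τ) := by
  obtain ⟨c, hc⟩ := h2.exists_right_inv
  have hst : FinCov.strMod A ≫ τ = 2 • 𝟙 (Coh.structureModule X) :=
    strMod_comp_trace A 2 hA τ hτ
  refine ⟨(pairing A τ c).toHom, ?_, ?_⟩
  · intro U
    constructor
    · rintro ⟨s, l⟩ ⟨s', l'⟩ h
      have h' : ofB A ((A.str.app (op U)).hom s) + ap (kernel.ι τ) U l =
          ofB A ((A.str.app (op U)).hom s') + ap (kernel.ι τ) U l' := h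
      have h1 := congrArg (fun a => ofM (halfTr A τ c U a)) h'
      simp only [halfTr_add, halfTr_ι] at h1
      have h3 : s = s' := by
        have e1 := halfTr_str A τ c hc hst U s
        have e2 := halfTr_str A τ c hc hst U s'
        have h4 : ofM (halfTr A τ c U (ofB A ((A.str.app (op U)).hom s)) + 0) =
            ofM (halfTr A τ c U (ofB A ((A.str.app (op U)).hom s')) + 0) := h1
        rw [add_zero, add_zero, e1, e2] at h4
        exact h4
      subst h3
      have h5 : ap (kernel.ι τ) U l = ap (kernel.ι τ) U l' := add_left_cancel h'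
      have h6 : l = l' := QCohExact.app_injective_of_mono (kernel.ι τ) U h5
      rw [h6]
    · intro a
      let a' : Γ(A.toModule, U) := a
      let s : Γ(X, U) := ofM (halfTr A τ c U a')
      have h1 : ap τ U (a' - ofB A ((A.str.app (op U)).hom s)) = 0 := by
        rw [map_sub]
        have e1 := tr_str A τ hst U s
        have e2 : (2 : Γ(X, U)) * s = ofM (ap τ U a') := by
          change (2 : Γ(X, U)) * (rX (le_top : U ≤ ⊤) c * ofM (ap τ U a')) = _
          rw [← mul_assoc, cU_two c hc, one_mul]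
        have e3 : ap τ U (ofB A ((A.str.app (op U)).hom s)) = ap τ U a' := by
          have := e1.trans e2
          exact this
        rw [e3, sub_self]
      obtain ⟨l, hl⟩ := exists_kernel_section τ U _ h1
      refine ⟨(s, l), ?_⟩
      change ofB A ((A.str.app (op U)).hom s) + ap (kernel.ι τ) U l = a'
      rw [hl]
      abel
  · intro U l l'
    rw [BilinData.toHom_tmul]
    exact key A τ c hc hst hA hτ U l l'

end Final

end FLFH8
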