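import Mathlib
import Groth.Prelude
import Groth.Agent.Lib.ZClosPt3_helper8
import Groth.Agent.Lib.MeroDepth_helper5

set_option autoImplicit false
universe u

open CategoryTheory CategoryTheory.Limits AlgebraicGeometry TopologicalSpace Opposite
open ZClosH8 ZClosPtH8 HomLinH8 SecOrdH8 RefBasisH8

/-! Torsion-free modules (`Mero.toMer` a monomorphism) and associated points (helper8).
APPEND-ONLY once landed. -/

namespace TorFreeH8

variable {X : Scheme.{u}} (F : X.Modules)

/-- stalkwise torsion-freeness. -/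
def StalkTF : Prop :=
  ∀ (x : X) (s : X.presheaf.stalk x), s ∈ Mero.regStalk X x → ∀ m : F.presheaf.stalk x,
    s • m = 0 → m = 0

theorem mk_one_eq_zero_iff {R : Type u} [CommRing R] {S : Submonoid R} {M : Type u}
    [AddCommGroup M] [Module R M] (m : M) :
    LocalizedModule.mk m (1 : S) = 0 ↔ ∃ u : S, u • m = 0 := by
  rw [← LocalizedModule.zero_mk (1 : S), LocalizedModule.mk_eq]
  simp only [one_smul, smul_zero]

theorem toMerFun_eq_zero_iff {U : X.Opens} (m : Γ(F, U)) :
    Mero.toMerFun F U m = 0 ↔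
      ∀ x : U, ∃ s : Mero.regStalk X x.1, s • F.presheaf.germ U x.1 x.2 m = 0 := by
  constructor
  · intro h x
    have h1 : (Mero.toMerFun F U m).1 x = 0 := by rw [h]; rfl
    rw [Mero.toMerFun_apply, mk_one_eq_zero_iff] at h1
    exact h1
  · intro h
    refine Subtype.ext (funext fun x => ?_)
    rw [Mero.toMerFun_apply]
    exact (mk_one_eq_zero_iff _).2 (h x)

theorem toMer_app (U : X.Opens) (m : Γ(F, U)) : (Mero.toMer F).app U m = Mero.toMerFun F U m := rfl

theorem stalkTF_of_mono [Mono (Mero.toMer F)] : StalkTF F := by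
  intro x s hs m hsm
  obtain ⟨U, hxU, f, hf, rfl⟩ := hs
  obtain ⟨V, hV, hxV, μ, rfl⟩ := exists_germ_affine F x m
  have hxW : x ∈ U ⊓ V := ⟨hxU, hxV⟩
  have h1 : F.presheaf.germ (U ⊓ V) x hxW
      (X.presheaf.map (homOfLE (inf_le_left : U ⊓ V ≤ U)).op f •
        res F (inf_le_right : U ⊓ V ≤ V) μ) = 0 := by
    rw [Mero.germ_smul, germ_res, TopCat.Presheaf.germ_res_apply]
    exact hsm
  obtain ⟨W, hW, hWUV, hxW', h0⟩ := exists_affine_res_eq_zero F x hxW _ h1
  have h2 : res F (hWUV.trans inf_le_right) μ = 0 := by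
    apply app_injective_of_mono (Mero.toMer F) W
    rw [map_zero, toMer_app, toMerFun_eq_zero_iff]
    intro y
    refine ⟨⟨X.presheaf.germ U y.1 (hWUV y.2).1 f, Mero.germ_mem_regStalk ⟨y.1, (hWUV y.2).1⟩ hf⟩, ?_⟩
    have h3 := congrArg (F.presheaf.germ W y.1 y.2) h0
    rw [map_zero, germ_res, Mero.germ_smul, germ_res, TopCat.Presheaf.germ_res_apply] at h3
    rw [germ_res]
    exact h3
  rw [← germ_res F (hWUV.trans inf_le_right) x hxW' μ, h2, map_zero]

theorem mono_of_stalkTF (h : StalkTF F) : Mono (Mero.toMer F) := by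
  refine mono_of_injective (Mero.toMer F) (fun V _ => ?_)
  refine (injective_iff_map_eq_zero ((Mero.toMer F).app V).hom).mpr ?_
  intro m hm
  have hm' : Mero.toMerFun F V m = 0 := hm
  rw [toMerFun_eq_zero_iff] at hm'
  refine eq_zero_of_locally F V m (fun y hy => ?_)
  obtain ⟨s, hs⟩ := hm' ⟨y, hy⟩
  have h0 := h y s.1 s.2 _ hs
  obtain ⟨O', hO', hO'V, hyO', h1⟩ := exists_affine_res_eq_zero F y hy m h0
  exact ⟨O', hO'V, hyO', h1⟩

section Main

variable [F.IsQuasicoherent] [IsLocallyNoetherian X]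

/-- an associated prime of the stalk at `x` gives an associated point generizing `x`. -/
theorem isAssPoint_of_isAssociatedPrime {x y : X} (hspec : y ⤳ x)
    (h : IsAssociatedPrime (Groth.Agent.StalkGen.genPrime hspec) (F.presheaf.stalk x)) :
    Curv2.IsAssPoint F y := by
  obtain ⟨hPprime, b, hb⟩ := isAssociatedPrime_iff.1 h
  have hmem : ∀ c, c ∈ Groth.Agent.StalkGen.genPrime hspec ↔ c • b = 0 := by
    intro c
    rw [hb, Submodule.mem_colon_singleton, Submodule.mem_bot]
  have hb'ne : F.presheaf.stalkSpecializes hspec b ≠ 0 := by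
    intro h0
    obtain ⟨s, hs, hsb⟩ := exists_smul_eq_zero_of_stalkSpecializes F hspec b h0
    have hsP : s ∈ Groth.Agent.StalkGen.genPrime hspec := (hmem s).2 hsb
    exact (IsLocalRing.mem_maximalIdeal _).1 hsP hs
  have hkill : ∀ r' ∈ IsLocalRing.maximalIdeal (X.presheaf.stalk y),
      r' • F.presheaf.stalkSpecializes hspec b = 0 := by
    intro r' hr'
    have := maximalIdeal_smul_spec_eq_zero hspec F ⊥ b (fun r hr => by
      rw [← stalkSpecializes_smul, (hmem r).1 hr, map_zero]
      exact Submodule.zero_mem _) r' hr'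
    exact (Submodule.mem_bot _).1 this
  refine isAssociatedPrime_iff.2 ⟨inferInstance, F.presheaf.stalkSpecializes hspec b, ?_⟩
  ext r
  rw [Submodule.mem_colon_singleton, Submodule.mem_bot]
  constructor
  · exact hkill r
  · intro hr
    by_contra hrm
    have hu : IsUnit r := by
      by_contra hnu
      exact hrm ((IsLocalRing.mem_maximalIdeal r).2 hnu)
    apply hb'ne
    have h1 := congrArg (fun w => (↑hu.unit⁻¹ : X.presheaf.stalk y) • w) hr
    simpa [smul_smul] using h1

theorem stalkTF_of_ass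
    (hass : ∀ x : X, Curv2.IsAssPoint F x →
      IsAssociatedPrime (IsLocalRing.maximalIdeal (X.presheaf.stalk x)) (X.presheaf.stalk x)) :
    StalkTF F := by
  intro x s hs m hsm
  by_contra hm
  obtain ⟨P, hP, hle⟩ :=
    exists_le_isAssociatedPrime_of_isNoetherianRing (X.presheaf.stalk x) m hm
  have hsP : s ∈ P := hle (Submodule.mem_colon_singleton.2 (by
    rw [hsm]
    exact Submodule.zero_mem _))
  haveI := hP.isPrime
  obtain ⟨y, hspec, hPy⟩ := Groth.Agent.StalkGen.exists_genPrime_eq x P
  have hy : Curv2.IsAssPoint F y := isAssPoint_of_isAssociatedPrime F hspec (hPy ▸ hP)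
  have hOy := hass y hy
  obtain ⟨_, c, hc⟩ := isAssociatedPrime_iff.1 hOy
  have hs' : X.presheaf.stalkSpecializes hspec s ∈
      IsLocalRing.maximalIdeal (X.presheaf.stalk y) := by
    have h1 : s ∈ Groth.Agent.StalkGen.genPrime hspec := hPy ▸ hsP
    exact h1
  obtain ⟨U, hxU, f, hf, rfl⟩ := hs
  have hyU : y ∈ U := hspec.mem_open U.isOpen hxU
  rw [stalkSpecializes_germX] at hs'
  have hnzd := hf ⟨y, hyU⟩
  have h1 : X.presheaf.germ U y hyU f * c = 0 := by
    have h2 := hs'
    rw [hc, Submodule.mem_colon_singleton, Submodule.mem_bot] at h2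
    exact h2
  have hc0 : c = 0 := (mem_nonZeroDivisors_iff_left.mp hnzd) _ h1
  have h1m : (1 : X.presheaf.stalk y) ∈ IsLocalRing.maximalIdeal (X.presheaf.stalk y) := by
    rw [hc, Submodule.mem_colon_singleton, hc0, smul_zero]
    exact Submodule.zero_mem _
  exact (Ideal.ne_top_iff_one _).1 (IsLocalRing.maximalIdeal.isMaximal _).ne_top h1m

theorem ass_of_stalkTF (h : StalkTF F) (x : X) (hx : Curv2.IsAssPoint F x) :
    IsAssociatedPrime (IsLocalRing.maximalIdeal (X.presheaf.stalk x)) (X.presheaf.stalk x) := by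
  by_contra hn
  obtain ⟨_, b, hb⟩ := isAssociatedPrime_iff.1 hx
  have hb0 : b ≠ 0 := by
    intro hb0
    have h1m : (1 : X.presheaf.stalk x) ∈ IsLocalRing.maximalIdeal (X.presheaf.stalk x) := by
      rw [hb, Submodule.mem_colon_singleton, hb0, smul_zero]
      exact Submodule.zero_mem _
    exact (Ideal.ne_top_iff_one _).1 (IsLocalRing.maximalIdeal.isMaximal _).ne_top h1m
  have hd : (1 : ℕ∞) ≤ LocCoh.idealDepth (IsLocalRing.maximalIdeal (X.presheaf.stalk x))
      (X.presheaf.stalk x) := by
    by_contra hcon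
    obtain ⟨q, hq, hle⟩ := Groth.Agent.DepthLib.exists_associatedPrime_of_not_one_le _ _ hcon
    have hq' : IsAssociatedPrime q (X.presheaf.stalk x) := hq
    have hqp := hq'.isPrime
    have hqm : q = IsLocalRing.maximalIdeal (X.presheaf.stalk x) :=
      le_antisymm (IsLocalRing.le_maximalIdeal hqp.ne_top) hle
    exact hn (hqm ▸ hq')
  rcases (Groth.Agent.DepthLib.one_le_idealDepth_iff _ _).1 hd with htop | ⟨r, hr, hreg⟩
  · have h1 : (1 : X.presheaf.stalk x) ∈
        IsLocalRing.maximalIdeal (X.presheaf.stalk x) • (⊤ : Submodule (X.presheaf.stalk x) (X.presheaf.stalk x)) := by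
      rw [htop]
      trivial
    have h2 : IsLocalRing.maximalIdeal (X.presheaf.stalk x) •
        (⊤ : Submodule (X.presheaf.stalk x) (X.presheaf.stalk x)) ≤ IsLocalRing.maximalIdeal (X.presheaf.stalk x) := by
      rw [Submodule.smul_le]
      intro a ha n _
      exact Ideal.mul_mem_right _ _ ha
    exact (Ideal.ne_top_iff_one _).1 (IsLocalRing.maximalIdeal.isMaximal _).ne_top (h2 h1)
  · have hnzd : r ∈ nonZeroDivisors (X.presheaf.stalk x) := by
      rw [mem_nonZeroDivisors_iff_left]
      intro z hz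
      exact hreg (show r • z = r • 0 by rw [smul_zero]; exact hz)
    have hreg' := Groth.Agent.MeroDepth.mem_regStalk_of_nzd x r hnzd
    have hrb : r • b = 0 := by
      have h2 := hr
      rw [hb, Submodule.mem_colon_singleton, Submodule.mem_bot] at h2
      exact h2
    exact hb0 (h x r hreg' b hrb)

theorem mono_toMer_iff :
    Mono (Mero.toMer F) ↔
      ∀ x : X, Curv2.IsAssPoint F x →
        IsAssociatedPrime (IsLocalRing.maximalIdeal (X.presheaf.stalk x)) (X.presheaf.stalk x) := by
  constructor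
  · intro h x hx
    exact ass_of_stalkTF F (stalkTF_of_mono F) x hx
  · intro h
    exact mono_of_stalkTF F (stalkTF_of_ass F h)

end Main

end TorFreeH8
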