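import Mathlib
import Groth.Prelude
import Groth.Agent.Lib.PureCurve2_helper8
import Groth.Agent.Lib.TorFree1_helper8
import Groth.Agent.Lib.FinCov5_helper8

set_option autoImplicit false
universe u

open CategoryTheory CategoryTheory.Limits AlgebraicGeometry TopologicalSpace Opposite
open ZClosH8 ZClosPtH8 HomLinH8 SecOrdH8 RefBasisH8 HartConvH8

/-! Associated points of subobjects, supports, and uniqueness of reduced irredundant
decompositions (helper8). APPEND-ONLY once landed. -/

namespace IrrDecH8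

variable {X : Scheme.{u}}

/-- associated points of a subobject are associated points. -/
theorem ass_of_mono [IsLocallyNoetherian X] {A B : X.Modules} (φ : A ⟶ B) [Mono φ] {y : X}
    (hy : Curv2.IsAssPoint A y) : Curv2.IsAssPoint B y :=
  IsAssociatedPrime.map_of_injective (f := RefHull.stalkMapₗ φ y) hy
    (PureCurveH8.stalkMap_injective_of_mono φ y)

/-- below a nonzero element of a stalk there is an associated point at which it stays nonzero. -/
theorem exists_assPoint_specializes [IsLocallyNoetherian X] (F : X.Modules) [F.IsQuasicoherent]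
    (y : X) (c : F.presheaf.stalk y) (hc : c ≠ 0) :
    ∃ (y' : X) (h : y' ⤳ y), Curv2.IsAssPoint F y' ∧ F.presheaf.stalkSpecializes h c ≠ 0 := by
  obtain ⟨P, hP, hle⟩ := exists_le_isAssociatedPrime_of_isNoetherianRing (X.presheaf.stalk y) c hc
  haveI := hP.isPrime
  obtain ⟨y', hspec, hPy⟩ := Groth.Agent.StalkGen.exists_genPrime_eq y P
  refine ⟨y', hspec, TorFreeH8.isAssPoint_of_isAssociatedPrime F hspec (hPy ▸ hP), ?_⟩
  intro h0
  obtain ⟨s, hs, hsc⟩ := exists_smul_eq_zero_of_stalkSpecializes F hspec c h0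
  have hsP : s ∈ P := hle (Submodule.mem_colon_singleton.2 (by
    rw [hsc]
    exact Submodule.zero_mem _))
  rw [hPy] at hsP
  exact (IsLocalRing.mem_maximalIdeal _).1 hsP hs

/-- a nonzero morphism has a nonzero value on some stalk. -/
theorem exists_stalk_ne_zero_of_ne_zero {A G : X.Modules} (φ : A ⟶ G) (hφ : φ ≠ 0) :
    ∃ (y : X) (a : A.presheaf.stalk y), RefHull.stalkMapₗ φ y a ≠ 0 := by
  by_contra hcon
  push Not at hcon
  apply hφ
  refine Scheme.Modules.hom_ext _ _ (fun V => ?_)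
  ext s
  have h0 : (0 : A ⟶ G).app V s = 0 := rfl
  rw [h0]
  refine eq_zero_of_locally G V _ (fun y hy => ?_)
  have h1 := hcon y (A.presheaf.germ V y hy s)
  rw [RefHull.stalkMapₗ_germ] at h1
  obtain ⟨O', hO', hO'V, hyO', h2⟩ := exists_affine_res_eq_zero G y hy _ h1
  exact ⟨O', hO'V, hyO', h2⟩

/-- a nonzero morphism into a module whose only associated point is `x` is nonzero on the stalk
at `x`. -/
theorem exists_stalk_ne_zero [IsLocallyNoetherian X] {A G : X.Modules} [A.IsQuasicoherent]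
    [G.IsQuasicoherent] (φ : A ⟶ G) (hφ : φ ≠ 0) (x : X) (hG : AssSch.Ass G = {x}) :
    ∃ a : A.presheaf.stalk x, RefHull.stalkMapₗ φ x a ≠ 0 := by
  obtain ⟨y, a, ha⟩ := exists_stalk_ne_zero_of_ne_zero φ hφ
  obtain ⟨y', hspec, hy', hne⟩ := exists_assPoint_specializes G y _ ha
  have hy'x : y' = x := by
    have : y' ∈ AssSch.Ass G := hy'
    rw [hG] at this
    exact this
  subst hy'x
  refine ⟨A.presheaf.stalkSpecializes hspec a, ?_⟩
  rw [← stalkSpecializes_stalkMap]
  exact hne

section Main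

variable [IsLocallyNoetherian X] (M : X.Modules) (hM : Coh.IsCoh M) (hne : AssSch.NoEmbedded M)
  (G : ↥(AssSch.Ass M) → X.Modules) (q : ∀ x, M ⟶ G x) (hG : ∀ x, Coh.IsCoh (G x))
  (hA : ∀ x, AssSch.Ass (G x) = {x.1})
  (hm : ∀ (T : X.Modules) (a b : T ⟶ M), (∀ x, a ≫ q x = b ≫ q x) → a = b)

include hM hne hG hA hm

/-- the kernel of `q_x` has zero stalk at `x`. -/
theorem stalk_kernel_eq_zero (x : ↥(AssSch.Ass M)) (b : (kernel (q x)).presheaf.stalk x.1) :
    b = 0 := by
  haveI : M.IsQuasicoherent := hM.1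
  haveI : ∀ x, (G x).IsQuasicoherent := fun x => (hG x).1
  haveI : (kernel (q x)).IsQuasicoherent := SubExt.isQuasicoherent_kernel (q x)
  by_contra hb
  obtain ⟨y, hspec, hyK, -⟩ := exists_assPoint_specializes (kernel (q x)) x.1 b hb
  have hyM : y ∈ AssSch.Ass M := ass_of_mono (kernel.ι (q x)) hyK
  have hxy : x.1 = y := hne x.1 x.2 y hyM hspec
  subst hxy
  obtain ⟨_, c, hc⟩ := isAssociatedPrime_iff.1 hyK
  have hc0 : c ≠ 0 := by
    intro hc0
    have h1m : (1 : X.presheaf.stalk x.1) ∈ IsLocalRing.maximalIdeal (X.presheaf.stalk x.1) := by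
      rw [hc, Submodule.mem_colon_singleton, hc0, smul_zero]
      exact Submodule.zero_mem _
    exact (Ideal.ne_top_iff_one _).1 (IsLocalRing.maximalIdeal.isMaximal _).ne_top h1m
  have hZ : StableUnderSpecialization (closure ({x.1} : Set X)) :=
    isClosed_closure.stableUnderSpecialization
  have hxZ : x.1 ∈ closure ({x.1} : Set X) := subset_closure rfl
  haveI := isQuasicoherent_H0 (closure ({x.1} : Set X)) (kernel (q x))
  have hρc : ZClos.rhoStalk (closure ({x.1} : Set X)) (kernel (q x)) x.1 c = 0 :=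
    rhoStalk_eq_zero_of_smul (kernel (q x)) hZ x.1 hxZ c (fun r hr => by
      have h2 := hr
      rw [hc, Submodule.mem_colon_singleton, Submodule.mem_bot] at h2
      exact h2)
  obtain ⟨V, hV, hxV, s, hsc⟩ := exists_germ_affine (kernel (q x)) x.1 c
  rw [← hsc, rhoStalk_germ] at hρc
  obtain ⟨V', hV', hV'V, hxV', h0⟩ :=
    exists_affine_res_eq_zero ((ZClos.H0 (closure ({x.1} : Set X))).obj (kernel (q x))) x.1 hxV _ hρc
  rw [← app_res] at h0
  obtain ⟨t, ht⟩ := FLFH8.exists_kernel_section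
    (ZClos.rhoApp (closure ({x.1} : Set X)) (kernel (q x))) V' (res (kernel (q x)) hV'V s) h0
  have ha0 : kernel.ι (ZClos.rhoApp (closure ({x.1} : Set X)) (kernel (q x))) ≫ kernel.ι (q x) =
      0 := by
    refine hm _ _ 0 (fun x'' => ?_)
    rw [zero_comp]
    by_cases hx'' : x'' = x
    · subst hx''
      rw [Category.assoc, kernel.condition, comp_zero]
    · by_contra hψ
      haveI : (kernel (ZClos.rhoApp (closure ({x.1} : Set X)) (kernel (q x)))).IsQuasicoherent :=
        SubExt.isQuasicoherent_kernel _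
      obtain ⟨τ, hτ⟩ := exists_stalk_ne_zero _ hψ x''.1 (hA x'')
      have hx''Z : x''.1 ∈ closure ({x.1} : Set X) := by
        by_contra hnot
        haveI := PureCurveH8.subsingleton_stalk_kernel_rho (closure ({x.1} : Set X))
          (kernel (q x)) x''.1 hnot
        apply hτ
        rw [Subsingleton.elim τ 0, map_zero]
      have hsp : x.1 ⤳ x''.1 := specializes_iff_mem_closure.2 hx''Z
      exact hx'' (Subtype.ext (hne x''.1 x''.2 x.1 x.2 hsp))
  have h1 : (kernel.ι (ZClos.rhoApp (closure ({x.1} : Set X)) (kernel (q x))) ≫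
      kernel.ι (q x)).app V' t = (kernel.ι (q x)).app V' (res (kernel (q x)) hV'V s) := by
    show (kernel.ι (q x)).app V'
      ((kernel.ι (ZClos.rhoApp (closure ({x.1} : Set X)) (kernel (q x)))).app V' t) = _
    exact congrArg _ ht
  rw [ha0] at h1
  have h2 : (kernel.ι (q x)).app V' (res (kernel (q x)) hV'V s) = 0 := h1.symm
  have h3 : res (kernel (q x)) hV'V s = 0 :=
    app_injective_of_mono (kernel.ι (q x)) V' (h2.trans (map_zero _).symm)
  apply hc0
  rw [← hsc, ← germ_res (kernel (q x)) hV'V x.1 hxV' s, h3, map_zero]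

end Main

/-- S4683: uniqueness of the reduced irredundant decomposition. -/
theorem exists_iso_of_decompositions [IsLocallyNoetherian X] (M : X.Modules)
    (hM : Coh.IsCoh M) (hne : AssSch.NoEmbedded M)
    (G G' : ↥(AssSch.Ass M) → X.Modules) (q : ∀ x, M ⟶ G x) (q' : ∀ x, M ⟶ G' x)
    (hq : ∀ x, Epi (q x)) (hq' : ∀ x, Epi (q' x)) (hG : ∀ x, Coh.IsCoh (G x))
    (hG' : ∀ x, Coh.IsCoh (G' x))
    (hA : ∀ x, AssSch.Ass (G x) = {x.1}) (hA' : ∀ x, AssSch.Ass (G' x) = {x.1})
    (hm : ∀ (T : X.Modules) (a b : T ⟶ M), (∀ x, a ≫ q x = b ≫ q x) → a = b)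
    (hm' : ∀ (T : X.Modules) (a b : T ⟶ M), (∀ x, a ≫ q' x = b ≫ q' x) → a = b)
    (x : ↥(AssSch.Ass M)) :
    ∃ e : G x ≅ G' x, q x ≫ e.hom = q' x := by
  haveI : M.IsQuasicoherent := hM.1
  haveI : ∀ x, (G x).IsQuasicoherent := fun x => (hG x).1
  haveI : ∀ x, (G' x).IsQuasicoherent := fun x => (hG' x).1
  haveI : (kernel (q x)).IsQuasicoherent := SubExt.isQuasicoherent_kernel (q x)
  haveI : (kernel (q' x)).IsQuasicoherent := SubExt.isQuasicoherent_kernel (q' x)
  haveI := hq x
  haveI := hq' x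
  have h1 : kernel.ι (q x) ≫ q' x = 0 := by
    by_contra hφ
    obtain ⟨a, ha⟩ := exists_stalk_ne_zero (kernel.ι (q x) ≫ q' x) hφ x.1 (hA' x)
    apply ha
    rw [stalk_kernel_eq_zero M hM hne G q hG hA hm x a, map_zero]
  have h2 : kernel.ι (q' x) ≫ q x = 0 := by
    by_contra hφ
    obtain ⟨a, ha⟩ := exists_stalk_ne_zero (kernel.ι (q' x) ≫ q x) hφ x.1 (hA x)
    apply ha
    rw [stalk_kernel_eq_zero M hM hne G' q' hG' hA' hm' x a, map_zero]
  have hc1 := Abelian.epiIsCokernelOfKernel _ (kernelIsKernel (q x))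
  have hc2 := Abelian.epiIsCokernelOfKernel _ (kernelIsKernel (q' x))
  let eh : G x ⟶ G' x := hc1.desc (CokernelCofork.ofπ (q' x) h1)
  let ei : G' x ⟶ G x := hc2.desc (CokernelCofork.ofπ (q x) h2)
  have heh : q x ≫ eh = q' x := hc1.fac (CokernelCofork.ofπ (q' x) h1) WalkingParallelPair.one
  have hei : q' x ≫ ei = q x := hc2.fac (CokernelCofork.ofπ (q x) h2) WalkingParallelPair.one
  refine ⟨⟨eh, ei, ?_, ?_⟩, heh⟩
  · rw [← cancel_epi (q x), ← Category.assoc, heh, hei, Category.comp_id]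
  · rw [← cancel_epi (q' x), ← Category.assoc, hei, heh, Category.comp_id]

end IrrDecH8
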