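import Mathlib

/-!
# Quasi-regular homogeneous elements over an infinite field
-/

namespace Groth.Agent.Lib.QuasiRegLead

open MvPolynomial

/-- A finitely generated module over a Noetherian ring all of whose associated primes are maximal
has finite length. -/
theorem isFiniteLength_of_associatedPrimes_isMaximal {R : Type*} [CommRing R] [IsNoetherianRing R]
    {N : Type*} [AddCommGroup N] [Module R N] [Module.Finite R N]
    (h : ∀ P ∈ associatedPrimes R N, P.IsMaximal) : IsFiniteLength R N := by
  rw [isFiniteLength_iff_isNoetherian_isArtinian]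
  refine ⟨inferInstance, ?_⟩
  letI : Module (R ⧸ Module.annihilator R N) N := Module.quotientAnnihilator
  haveI : IsScalarTower R (R ⧸ Module.annihilator R N) N := ⟨fun r q x => by
    obtain ⟨q, rfl⟩ := Ideal.Quotient.mk_surjective q
    exact mul_smul r q x⟩
  have hdim : Ring.KrullDimLE 0 (R ⧸ Module.annihilator R N) := by
    rw [Ring.krullDimLE_zero_iff]
    intro Q hQ
    haveI := hQ
    have hQ' : (Q.comap (Ideal.Quotient.mk (Module.annihilator R N))).IsPrime :=
      Ideal.comap_isPrime _ _
    have hle : Module.annihilator R N ≤ Q.comap (Ideal.Quotient.mk (Module.annihilator R N)) :=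
      fun x hx => by
        rw [Ideal.mem_comap, Ideal.Quotient.eq_zero_iff_mem.2 hx]; exact Q.zero_mem
    obtain ⟨P, hP, hPQ⟩ := Ideal.exists_minimalPrimes_le hle
    have hPmax : P.IsMaximal := h P
      (Module.associatedPrimes.minimalPrimes_annihilator_subset_associatedPrimes R N hP)
    have heq : P = Q.comap (Ideal.Quotient.mk (Module.annihilator R N)) :=
      hPmax.eq_of_le hQ'.ne_top hPQ
    have hmax : (Q.comap (Ideal.Quotient.mk (Module.annihilator R N))).IsMaximal := heq ▸ hPmax
    have hmap := Ideal.map_eq_top_or_isMaximal_of_surjective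
      (Ideal.Quotient.mk (Module.annihilator R N)) Ideal.Quotient.mk_surjective hmax
    rw [Ideal.map_comap_of_surjective _ Ideal.Quotient.mk_surjective] at hmap
    exact hmap.resolve_left hQ.ne_top
  haveI : IsArtinianRing (R ⧸ Module.annihilator R N) := isArtinianRing_iff_krullDimLE_zero.2 hdim
  haveI : Module.Finite (R ⧸ Module.annihilator R N) N :=
    Module.Finite.of_restrictScalars_finite R _ N
  haveI : IsArtinian (R ⧸ Module.annihilator R N) N := inferInstance
  exact isArtinian_of_surjective_algebraMap (R := R ⧸ Module.annihilator R N) (S := R) (M := N)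
    Ideal.Quotient.mk_surjective

universe u

theorem exists_quasiRegular (k : Type u) [Field k] [Infinite k] (r d : ℕ)
    (M : Type u) [AddCommGroup M] [Module (MvPolynomial (Fin (r + 1)) k) M]
    [Module.Finite (MvPolynomial (Fin (r + 1)) k) M] :
    ∃ f : MvPolynomial (Fin (r + 1)) k, f.IsHomogeneous d ∧ f ≠ 0 ∧
      IsFiniteLength (MvPolynomial (Fin (r + 1)) k)
        ↥(Submodule.torsionBy (MvPolynomial (Fin (r + 1)) k) M f) := by
  classical
  have hfin : (associatedPrimes (MvPolynomial (Fin (r + 1)) k) M).Finite :=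
    associatedPrimes.finite _ M
  let Pset : Set (Ideal (MvPolynomial (Fin (r + 1)) k)) :=
    {P | P ∈ associatedPrimes (MvPolynomial (Fin (r + 1)) k) M ∧ ¬ P.IsMaximal}
  have hPsfin : Pset.Finite := hfin.subset (fun P hP => hP.1)
  haveI : Finite Pset := hPsfin.to_subtype
  let hc : MvPolynomial (Fin (r + 1)) k →ₗ[k] MvPolynomial (Fin (r + 1)) k :=
    homogeneousComponent d
  let W : Option Pset → Subspace k (MvPolynomial (Fin (r + 1)) k) := fun o =>
    o.elim (LinearMap.ker hc) (fun P => (P.1.restrictScalars k).comap hc)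
  have hne : ∀ o, W o ≠ ⊤ := by
    intro o
    cases o with
    | none =>
      intro htop
      have h1 : (X 0 ^ d : MvPolynomial (Fin (r + 1)) k) ∈ LinearMap.ker hc := by
        have : (X 0 ^ d : MvPolynomial (Fin (r + 1)) k) ∈ W none := by rw [htop]; trivial
        exact this
      rw [LinearMap.mem_ker] at h1
      have h2 : hc (X 0 ^ d) = X 0 ^ d := homogeneousComponent_eq_self (isHomogeneous_X_pow 0 d)
      rw [h2] at h1
      exact pow_ne_zero d (X_ne_zero 0) h1
    | some P =>
      intro htop
      have hPprime : P.1.IsPrime := P.2.1.isPrime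
      have hX : ∀ j, (X j : MvPolynomial (Fin (r + 1)) k) ∈ P.1 := by
        intro j
        have h1 : (X j ^ d : MvPolynomial (Fin (r + 1)) k) ∈ W (some P) := by rw [htop]; trivial
        have h2 : hc (X j ^ d) ∈ P.1 := h1
        have h3 : hc (X j ^ d) = X j ^ d := homogeneousComponent_eq_self (isHomogeneous_X_pow j d)
        rw [h3] at h2
        exact hPprime.mem_of_pow_mem d h2
      have hker : RingHom.ker (constantCoeff : MvPolynomial (Fin (r + 1)) k →+* k) ≤ P.1 := by
        intro f hf
        have hmem : f ∈ idealOfVars (Fin (r + 1)) k ^ 1 := by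
          rw [mem_pow_idealOfVars_iff']
          intro x hx
          have hx0 : x = 0 := by
            have : x.degree = 0 := by omega
            exact (Finsupp.degree_eq_zero_iff x).1 this
          rw [hx0]; exact hf
        rw [pow_one] at hmem
        exact (Ideal.span_le.2 (by rintro _ ⟨j, rfl⟩; exact hX j)) hmem
      have hmaxker : (RingHom.ker (constantCoeff : MvPolynomial (Fin (r + 1)) k →+* k)).IsMaximal :=
        RingHom.ker_isMaximal_of_surjective _ (fun c => ⟨C c, constantCoeff_C _ c⟩)
      have heq : RingHom.ker (constantCoeff : MvPolynomial (Fin (r + 1)) k →+* k) = P.1 :=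
        hmaxker.eq_of_le hPprime.ne_top hker
      exact P.2.2 (heq ▸ hmaxker)
  have hcov : ⋃ o, (W o : Set (MvPolynomial (Fin (r + 1)) k)) ≠ Set.univ := fun hcov => by
    obtain ⟨o, ho⟩ := Subspace.exists_eq_top_of_iUnion_eq_univ hcov
    exact hne o ho
  obtain ⟨g, hg⟩ : ∃ g, g ∉ ⋃ o, (W o : Set (MvPolynomial (Fin (r + 1)) k)) := by
    by_contra hcon
    push_neg at hcon
    exact hcov (Set.eq_univ_of_forall hcon)
  simp only [Set.mem_iUnion, not_exists] at hg
  refine ⟨hc g, homogeneousComponent_isHomogeneous d g, ?_, ?_⟩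
  · intro h0
    exact hg none (LinearMap.mem_ker.2 h0)
  · apply isFiniteLength_of_associatedPrimes_isMaximal
    intro P hP
    by_contra hmax
    have hPM : P ∈ associatedPrimes (MvPolynomial (Fin (r + 1)) k) M :=
      associatedPrimes.subset_of_injective
        (f := (Submodule.torsionBy (MvPolynomial (Fin (r + 1)) k) M (hc g)).subtype)
        Subtype.val_injective hP
    apply hg (some ⟨P, hPM, hmax⟩)
    show hc g ∈ P
    obtain ⟨-, n, hn⟩ := (isAssociatedPrime_iff).1 hP
    rw [hn, Submodule.mem_colon_singleton, Submodule.mem_bot]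
    exact Submodule.smul_torsionBy _ n

end Groth.Agent.Lib.QuasiRegLead
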