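import Mathlib
import Groth.Agent.Lib.QuasiReg_lead

/-!
# Dimension theory for semi-local Noetherian rings (helper5)

`dim M` is the least number `n` of elements of the Jacobson radical such that
`M / (x₁, …, xₙ) M` has finite length.
-/

namespace Groth.Agent.DimLib

open PrimeSpectrum Module

universe u v

variable {A : Type u} [CommRing A]

/-- Finite length modules have support consisting of maximal ideals. -/
theorem isMaximal_of_mem_support_of_isFiniteLength {M : Type v} [AddCommGroup M] [Module A M]
    (h : IsFiniteLength A M) : ∀ p ∈ Module.support A M, p.asIdeal.IsMaximal := by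
  induction h with
  | of_subsingleton =>
    intro p hp
    rw [Module.support_eq_empty] at hp
    exact absurd hp (Set.notMem_empty _)
  | @of_simple_quotient M _ _ N _ hN ih =>
    intro p hp
    rw [Module.support_of_exact (LinearMap.exact_subtype_mkQ N) N.injective_subtype
      N.mkQ_surjective] at hp
    rcases hp with hp | hp
    · exact ih p hp
    · have hmax : (Module.annihilator A (M ⧸ N)).IsMaximal :=
        IsSimpleModule.annihilator_isMaximal
      have hle := Module.annihilator_le_of_mem_support hp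
      rw [← hmax.eq_of_le p.2.ne_top hle]
      exact hmax

/-- A finite module over a Noetherian ring whose support consists of maximal ideals has finite
length. -/
theorem isFiniteLength_of_support_isMaximal [IsNoetherianRing A] {M : Type v} [AddCommGroup M]
    [Module A M] [Module.Finite A M]
    (h : ∀ p ∈ Module.support A M, p.asIdeal.IsMaximal) : IsFiniteLength A M := by
  apply Groth.Agent.Lib.QuasiRegLead.isFiniteLength_of_associatedPrimes_isMaximal
  intro P hP
  have hPprime : P.IsPrime := hP.isPrime
  have : (⟨P, hPprime⟩ : PrimeSpectrum A) ∈ Module.support A M := by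
    rw [Module.mem_support_iff_of_finite, ← Submodule.annihilator_top]
    exact hP.annihilator_le
  exact h _ this

/-- Cutting by an element avoiding the non-maximal minimal primes drops the dimension. -/
theorem krullDim_zeroLocus_sup_span_le (J : Ideal A) (x : A) (d : ℕ)
    (hdim : Order.krullDim (zeroLocus (J : Set A)) ≤ ((d + 1 : ℕ) : WithBot ℕ∞))
    (hx : ∀ p ∈ J.minimalPrimes, ¬ p.IsMaximal → x ∉ p) :
    Order.krullDim (zeroLocus ((J ⊔ Ideal.span {x} : Ideal A) : Set A)) ≤
      ((d : ℕ) : WithBot ℕ∞) := by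
  rw [Order.krullDim]
  refine iSup_le fun p => ?_
  by_cases hp0 : p.length = 0
  · rw [hp0]; exact_mod_cast Nat.zero_le d
  have hle : zeroLocus ((J ⊔ Ideal.span {x} : Ideal A) : Set A) ⊆ zeroLocus (J : Set A) :=
    zeroLocus_anti_mono (by exact_mod_cast (le_sup_left : J ≤ J ⊔ Ideal.span {x}))
  let q : LTSeries (zeroLocus (J : Set A)) :=
    p.map (Set.MapsTo.restrict id _ _ hle) (fun _ _ h => h)
  have hJhead : J ≤ p.head.1.asIdeal := by
    have := hle p.head.2
    rw [mem_zeroLocus] at this
    exact_mod_cast this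
  have hxhead : x ∈ p.head.1.asIdeal := by
    have := p.head.2
    rw [mem_zeroLocus] at this
    exact this (by
      show x ∈ (J ⊔ Ideal.span {x} : Ideal A)
      exact Ideal.mem_sup_right (Ideal.mem_span_singleton_self x))
  obtain ⟨r, hrm, hr⟩ := Ideal.exists_minimalPrimes_le hJhead
  have hrprime : r.IsPrime := hrm.1.1
  have hheadlast : p.head < p.last := by
    apply p.strictMono
    rw [Fin.lt_def]
    simp only [Fin.val_zero, Fin.val_last]
    omega
  have hnotmax : ¬ p.head.1.asIdeal.IsMaximal := by
    intro hmax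
    have h1 : p.head.1.asIdeal ≤ p.last.1.asIdeal := hheadlast.le
    have h2 := hmax.eq_of_le p.last.1.2.ne_top h1
    have h3 : p.head = p.last := Subtype.ext (PrimeSpectrum.ext h2)
    exact (ne_of_lt hheadlast) h3
  have hrne : r ≠ p.head.1.asIdeal := by
    intro h
    exact hx r hrm (h ▸ hnotmax) (h ▸ hxhead)
  let r' : zeroLocus (J : Set A) := ⟨⟨r, hrprime⟩, by
    rw [mem_zeroLocus]; exact_mod_cast hrm.1.2⟩
  have hr' : r' < q.head := by
    have : q.head = ⟨p.head.1, hle p.head.2⟩ := by simp [q]; rfl
    rw [this]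
    exact lt_of_le_of_ne hr (fun h => hrne (by
      have := congrArg (fun z : zeroLocus (J : Set A) => z.1.asIdeal) h
      exact this))
  have hlen := Order.LTSeries.length_le_krullDim (q.cons r' hr')
  have h2 : (((q.cons r' hr').length : ℕ) : WithBot ℕ∞) ≤ ((d + 1 : ℕ) : WithBot ℕ∞) :=
    hlen.trans hdim
  have h3 : (q.cons r' hr').length ≤ d + 1 := by exact_mod_cast h2
  have h4 : (q.cons r' hr').length = p.length + 1 := by simp [q]
  have : p.length ≤ d := by omega
  exact_mod_cast this

/-- In a ring with finitely many maximal ideals, the Jacobson radical is not contained in a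
non-maximal prime. -/
theorem jacobson_not_le_of_not_isMaximal [Finite (MaximalSpectrum A)] (p : Ideal A)
    (hpp : p.IsPrime) (hp : ¬ p.IsMaximal) : ¬ Ring.jacobson A ≤ p := by
  intro hle
  have : Fintype (MaximalSpectrum A) := Fintype.ofFinite _
  have hj : Ring.jacobson A =
      (Finset.univ : Finset (MaximalSpectrum A)).inf (fun m => m.asIdeal) := by
    rw [Ring.jacobson_eq_sInf_isMaximal]
    apply le_antisymm
    · exact Finset.le_inf fun m _ => sInf_le m.isMaximal
    · refine le_sInf fun I hI => ?_
      exact Finset.inf_le (f := fun m : MaximalSpectrum A => m.asIdeal)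
        (Finset.mem_univ (⟨I, hI⟩ : MaximalSpectrum A))
  rw [hj] at hle
  obtain ⟨m, -, hm⟩ := (Ideal.IsPrime.inf_le' hpp).1 hle
  exact hp (by rw [← m.isMaximal.eq_of_le hpp.ne_top hm]; exact m.isMaximal)

/-- Existence of a "system of parameters" in the Jacobson radical of a semi-local Noetherian
ring, relative to a closed subset `V(J)` of dimension `≤ d`. -/
theorem exists_fin_of_krullDim_le [IsNoetherianRing A] [Finite (MaximalSpectrum A)] (d : ℕ) :
    ∀ J : Ideal A, Order.krullDim (zeroLocus (J : Set A)) ≤ ((d : ℕ) : WithBot ℕ∞) →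
      ∃ x : Fin d → A, (∀ i, x i ∈ Ring.jacobson A) ∧
        ∀ p : Ideal A, p.IsPrime → J ⊔ Ideal.span (Set.range x) ≤ p → p.IsMaximal := by
  induction d with
  | zero =>
    intro J hJ
    refine ⟨Fin.elim0, fun i => i.elim0, fun p hp hle => ?_⟩
    rw [Nat.cast_zero, Order.krullDim_nonpos_iff_forall_isMax] at hJ
    obtain ⟨m, hm, hpm⟩ := p.exists_le_maximal hp.ne_top
    have hJp : J ≤ p := le_trans le_sup_left hle
    let p' : zeroLocus (J : Set A) := ⟨⟨p, hp⟩, by rw [mem_zeroLocus]; exact_mod_cast hJp⟩
    let m' : zeroLocus (J : Set A) :=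
      ⟨⟨m, hm.isPrime⟩, by rw [mem_zeroLocus]; exact_mod_cast hJp.trans hpm⟩
    have hmp : m' ≤ p' := hJ p' (show p' ≤ m' from hpm)
    have hmp' : m ≤ p := hmp
    rw [le_antisymm hpm hmp']
    exact hm
  | succ d ih =>
    intro J hJ
    have hfin : J.minimalPrimes.Finite := J.finite_minimalPrimes_of_isNoetherianRing
    obtain ⟨x₀, hx₀r, hx₀⟩ : ∃ x₀ ∈ Ring.jacobson A,
        ∀ p ∈ J.minimalPrimes, ¬ p.IsMaximal → x₀ ∉ p := by
      by_contra hcon
      push_neg at hcon
      classical
      let s : Finset (Ideal A) := hfin.toFinset.filter (fun p => ¬ p.IsMaximal)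
      have hsub : (Ring.jacobson A : Set A) ⊆ ⋃ p ∈ (s : Set (Ideal A)), (p : Set A) := by
        intro y hy
        obtain ⟨p, hp, hpmax, hyp⟩ := hcon y hy
        simp only [Set.mem_iUnion]
        refine ⟨p, ?_, hyp⟩
        simp only [s, Finset.coe_filter, Set.Finite.mem_toFinset, Set.mem_setOf_eq]
        exact ⟨hp, hpmax⟩
      rw [Ideal.subset_union_prime (f := fun p : Ideal A => p) ⊤ ⊤ (fun p hp _ _ => by
        simp only [s, Finset.mem_filter, Set.Finite.mem_toFinset] at hp
        exact hp.1.1.1)] at hsub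
      obtain ⟨p, hps, hle⟩ := hsub
      simp only [s, Finset.mem_filter, Set.Finite.mem_toFinset] at hps
      exact jacobson_not_le_of_not_isMaximal p hps.1.1.1 hps.2 hle
    obtain ⟨x', hx'r, hx'⟩ := ih (J ⊔ Ideal.span {x₀})
      (krullDim_zeroLocus_sup_span_le J x₀ d hJ hx₀)
    refine ⟨Fin.cons x₀ x', ?_, ?_⟩
    · intro i
      refine Fin.cases ?_ ?_ i
      · simpa using hx₀r
      · intro j; simpa using hx'r j
    · intro p hp hle
      apply hx' p hp
      rw [Fin.range_cons, Ideal.span_insert, ← sup_assoc] at hle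
      exact hle

/-- A semi-local Noetherian ring has finite Krull dimension. -/
theorem exists_nat_ringKrullDim_le [IsNoetherianRing A] [Finite (MaximalSpectrum A)] :
    ∃ d : ℕ, ringKrullDim A ≤ d := by
  have : Fintype (MaximalSpectrum A) := Fintype.ofFinite _
  let S : ℕ∞ := (Finset.univ : Finset (MaximalSpectrum A)).sup (fun m => m.asIdeal.height)
  have hS : S < ⊤ := by
    rw [Finset.sup_lt_iff (by simp)]
    intro m _
    exact lt_top_iff_ne_top.2 (Ideal.height_ne_top m.isMaximal.ne_top)
  refine ⟨S.toNat, ?_⟩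
  rw [ringKrullDim_le_iff_isMaximal_height_le]
  intro m hm
  have h1 : m.height ≤ S :=
    Finset.le_sup (f := fun m : MaximalSpectrum A => m.asIdeal.height)
      (Finset.mem_univ (⟨m, hm⟩ : MaximalSpectrum A))
  have h2 : ((S.toNat : ℕ) : ℕ∞) = S := ENat.coe_toNat hS.ne
  calc (m.height : WithBot ℕ∞) ≤ (S : WithBot ℕ∞) := by exact_mod_cast h1
    _ = (((S.toNat : ℕ) : ℕ∞) : WithBot ℕ∞) := by rw [h2]
    _ = ((S.toNat : ℕ) : WithBot ℕ∞) := rfl

/-- Upper bound: if `M/(x₁,…,xₙ)M` has finite length with the `xᵢ` in the Jacobson radical then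
`dim M ≤ n`. -/
theorem supportDim_le_of_isFiniteLength_quotient [IsNoetherianRing A] {M : Type v}
    [AddCommGroup M] [Module A M] [Module.Finite A M] {n : ℕ} (x : Fin n → A)
    (hxr : ∀ i, x i ∈ Ring.jacobson A)
    (hfl : IsFiniteLength A (M ⧸ (Ideal.span (Set.range x) • (⊤ : Submodule A M)))) :
    Module.supportDim A M ≤ (n : WithBot ℕ∞) := by
  rw [Module.supportDim_eq_ringKrullDim_quotient_annihilator,
    ringKrullDim_le_iff_isMaximal_height_le]
  intro m hm
  let π := Ideal.Quotient.mk (Module.annihilator A M)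
  have hπ : Function.Surjective π := Ideal.Quotient.mk_surjective
  classical
  let s : Finset (A ⧸ Module.annihilator A M) := Finset.univ.image (fun i => π (x i))
  have hscard : s.card ≤ n := by
    refine (Finset.card_image_le).trans ?_
    simp
  have hcm : (m.comap π).IsMaximal := Ideal.comap_isMaximal_of_surjective π hπ
  have hmin : m ∈ (Ideal.span (s : Set (A ⧸ Module.annihilator A M))).minimalPrimes := by
    refine ⟨⟨hm.isPrime, ?_⟩, ?_⟩
    · rw [Ideal.span_le]
      intro y hy
      simp only [s, Finset.coe_image, Finset.coe_univ, Set.image_univ, Set.mem_range] at hy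
      obtain ⟨i, rfl⟩ := hy
      have : x i ∈ m.comap π := Ring.jacobson_le_of_isMaximal (m.comap π) (hxr i)
      exact this
    · rintro q ⟨hq, hsq⟩ hqm
      have hqc : (q.comap π).IsPrime := Ideal.comap_isPrime π q
      let P : PrimeSpectrum A := ⟨q.comap π, hqc⟩
      have hP : P ∈ Module.support A
          (M ⧸ (Ideal.span (Set.range x) • (⊤ : Submodule A M))) := by
        rw [Module.support_quotient, Module.support_eq_zeroLocus]
        refine ⟨?_, ?_⟩
        · rw [mem_zeroLocus]
          intro y hy
          show π y ∈ q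
          rw [Ideal.Quotient.eq_zero_iff_mem.2 hy]; exact q.zero_mem
        · rw [mem_zeroLocus, SetLike.coe_subset_coe, Ideal.span_le]
          rintro y ⟨i, rfl⟩
          show π (x i) ∈ q
          exact hsq (Ideal.subset_span (by simp [s]))
      have hPmax := isMaximal_of_mem_support_of_isFiniteLength hfl P hP
      have hle : q.comap π ≤ m.comap π := Ideal.comap_mono hqm
      have heq : q.comap π = m.comap π := hPmax.eq_of_le hcm.ne_top hle
      intro y hy
      obtain ⟨z, rfl⟩ := hπ y
      have : z ∈ m.comap π := hy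
      rw [← heq] at this
      exact this
  have := Ideal.height_le_card_of_mem_minimalPrimes_span_finset hmin
  calc (m.height : WithBot ℕ∞) ≤ ((s.card : ℕ∞) : WithBot ℕ∞) := by exact_mod_cast this
    _ ≤ (n : WithBot ℕ∞) := by exact_mod_cast hscard

/-- **Dimension theorem** (`s(M) = dim M`) for a finite module over a semi-local Noetherian
ring. -/
theorem supportDim_eq_sInf (A : Type u) [CommRing A] [IsNoetherianRing A]
    [Finite (MaximalSpectrum A)] (M : Type v) [AddCommGroup M] [Module A M] [Module.Finite A M]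
    [Nontrivial M] :
    Module.supportDim A M =
      sInf {k : WithBot ℕ∞ | ∃ (n : ℕ) (x : Fin n → A), k = n ∧
        (∀ i, x i ∈ Ring.jacobson A) ∧
        IsFiniteLength A (M ⧸ (Ideal.span (Set.range x) • (⊤ : Submodule A M)))} := by
  apply le_antisymm
  · refine le_sInf ?_
    rintro k ⟨n, x, rfl, hxr, hfl⟩
    exact supportDim_le_of_isFiniteLength_quotient x hxr hfl
  · apply sInf_le
    obtain ⟨d₀, hd₀⟩ := exists_nat_ringKrullDim_le (A := A)
    have hle : Module.supportDim A M ≤ (d₀ : WithBot ℕ∞) :=
      (Module.supportDim_le_ringKrullDim A M).trans hd₀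
    have hne : Module.supportDim A M ≠ ⊥ := Module.supportDim_ne_bot_of_nontrivial A M
    obtain ⟨a, ha⟩ := WithBot.ne_bot_iff_exists.1 hne
    have ha' : a ≤ (d₀ : ℕ∞) := by
      rw [← ha] at hle
      exact_mod_cast hle
    have hatop : a ≠ ⊤ := ne_top_of_le_ne_top (ENat.coe_ne_top d₀) ha'
    obtain ⟨d, rfl⟩ := ENat.ne_top_iff_exists.1 hatop
    have hd : Module.supportDim A M = ((d : ℕ) : WithBot ℕ∞) := ha.symm
    have hd' : Order.krullDim (zeroLocus ((Module.annihilator A M : Ideal A) : Set A)) ≤
        ((d : ℕ) : WithBot ℕ∞) := by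
      rw [← Module.support_eq_zeroLocus]
      exact hd.le
    obtain ⟨x, hxr, hx⟩ := exists_fin_of_krullDim_le d (Module.annihilator A M) hd'
    refine ⟨d, x, hd, hxr, ?_⟩
    apply isFiniteLength_of_support_isMaximal
    intro p hp
    rw [Module.support_quotient, Module.support_eq_zeroLocus] at hp
    obtain ⟨hp1, hp2⟩ := hp
    apply hx p.asIdeal p.2
    rw [mem_zeroLocus] at hp1 hp2
    exact sup_le (by exact_mod_cast hp1) (by exact_mod_cast hp2)

end Groth.Agent.DimLib
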