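import Mathlib
import Groth.Prelude
import Groth.Agent.Lib.EmbS1_helper5
import Groth.Agent.Lib.DimTheory_helper5

/-!
# Associated points, generic points of the support, regular sections (helper5)
-/

universe u

open CategoryTheory IsLocalRing AlgebraicGeometry TopologicalSpace

namespace Groth.Agent.AssPts

/-- the support of a localized module -/
theorem mem_support_iff_comap {A : Type u} [CommRing A] (p : Ideal A) [p.IsPrime]
    (R : Type u) [CommRing R] [Algebra A R] [IsLocalization.AtPrime R p]
    (M : Type u) [AddCommGroup M] [Module A M]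
    (N : Type u) [AddCommGroup N] [Module A N] [Module R N] [IsScalarTower A R N]
    (f : M →ₗ[A] N) [IsLocalizedModule p.primeCompl f] (q : PrimeSpectrum R) :
    q ∈ Module.support R N ↔ PrimeSpectrum.comap (algebraMap A R) q ∈ Module.support A M := by
  rw [Module.mem_support_iff', Module.mem_support_iff']
  constructor
  · rintro ⟨n, hn⟩
    obtain ⟨⟨m, u⟩, hmu⟩ := IsLocalizedModule.surj p.primeCompl f n
    -- hmu : u • n = f m
    refine ⟨m, fun r hr hrm => ?_⟩
    have h1 : (algebraMap A R r * algebraMap A R u) • n = 0 := by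
      rw [mul_smul, algebraMap_smul, algebraMap_smul]
      have : (u : A) • n = f m := hmu
      rw [this, ← map_smul, hrm, map_zero]
    refine hn _ ?_ h1
    intro hmem
    rcases q.isPrime.mem_or_mem hmem with h2 | h2
    · exact hr h2
    · exact q.isPrime.ne_top (Ideal.eq_top_of_isUnit_mem _ h2 (IsLocalization.map_units R u))
  · rintro ⟨m, hm⟩
    refine ⟨f m, fun s hs hsn => ?_⟩
    obtain ⟨⟨a, u⟩, hau⟩ := IsLocalization.surj p.primeCompl s
    -- hau : s * algebraMap u = algebraMap a
    have ha : a ∉ (PrimeSpectrum.comap (algebraMap A R) q).asIdeal := by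
      intro hmem
      have h2 : s * algebraMap A R u ∈ q.asIdeal := by rw [hau]; exact hmem
      rcases q.isPrime.mem_or_mem h2 with h3 | h3
      · exact hs h3
      · exact q.isPrime.ne_top (Ideal.eq_top_of_isUnit_mem _ h3 (IsLocalization.map_units R u))
    have h0 : f (a • m) = 0 := by
      rw [map_smul, ← algebraMap_smul R a (f m), ← hau, mul_comm, mul_smul, hsn, smul_zero]
    rw [IsLocalizedModule.eq_zero_iff p.primeCompl] at h0
    obtain ⟨v, hv⟩ := h0
    have hv' : ((v : A) * a) • m = 0 := by rw [mul_smul]; exact hv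
    refine hm _ ?_ hv'
    intro hmem
    rcases (PrimeSpectrum.comap (algebraMap A R) q).isPrime.mem_or_mem hmem with h2 | h2
    · exact q.isPrime.ne_top (Ideal.eq_top_of_isUnit_mem _ h2 (IsLocalization.map_units R v))
    · exact ha h2

section alg

variable (R : Type u) [CommRing R] [IsLocalRing R] [IsNoetherianRing R] (N : Type u)
  [AddCommGroup N] [Module R N] [Module.Finite R N]

/-- maximal associated prime `m` ⟺ the support is `{m}` -/
theorem ass_iff_support :
    (maximalIdeal R ∈ associatedPrimes R N ∧ ∀ q ∈ associatedPrimes R N, q = maximalIdeal R) ↔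
      (Nontrivial N ∧ ∀ q ∈ Module.support R N, q = closedPoint R) := by
  constructor
  · rintro ⟨hm, hall⟩
    have hnt : Nontrivial N := by
      by_contra hne
      haveI : Subsingleton N := not_nontrivial_iff_subsingleton.mp hne
      rw [associatedPrimes.eq_empty_of_subsingleton] at hm
      exact hm
    refine ⟨hnt, fun P hP => ?_⟩
    rw [Module.mem_support_iff_of_finite] at hP
    obtain ⟨q0, hq0, hq0P⟩ := Ideal.exists_minimalPrimes_le hP
    have hq0ass :=
      Module.associatedPrimes.minimalPrimes_annihilator_subset_associatedPrimes R N hq0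
    have hq0m := hall q0 hq0ass
    apply PrimeSpectrum.ext
    refine le_antisymm (IsLocalRing.le_maximalIdeal P.isPrime.ne_top) ?_
    show maximalIdeal R ≤ P.asIdeal
    rw [← hq0m]
    exact hq0P
  · rintro ⟨hnt, hall⟩
    have key : ∀ q ∈ associatedPrimes R N, q = maximalIdeal R := by
      intro q hq
      have hqs : (⟨q, hq.isPrime⟩ : PrimeSpectrum R) ∈ Module.support R N := by
        rw [Module.mem_support_iff_of_finite, ← Submodule.annihilator_top]
        exact hq.annihilator_le
      exact congrArg PrimeSpectrum.asIdeal (hall _ hqs)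
    obtain ⟨q, hq⟩ := associatedPrimes.nonempty R N
    exact ⟨key q hq ▸ hq, key⟩

/-- the support is `{m}` ⟺ finite length -/
theorem support_iff_finiteLength :
    (∀ q ∈ Module.support R N, q = closedPoint R) ↔ IsFiniteLength R N := by
  constructor
  · intro h
    apply Groth.Agent.DimLib.isFiniteLength_of_support_isMaximal
    intro q hq
    rw [h q hq]
    exact maximalIdeal.isMaximal R
  · intro h q hq
    have hmax := Groth.Agent.DimLib.isMaximal_of_mem_support_of_isFiniteLength h q hq
    apply PrimeSpectrum.ext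
    exact IsLocalRing.eq_maximalIdeal hmax

end alg

section scheme

variable {X : Scheme.{u}} [IsLocallyNoetherian X] (F : X.Modules) [F.IsQuasicoherent]

/-- pointwise translation of "no point of the support properly generizes `x`" to the stalk -/
theorem pointwise_support (x : X) :
    (∀ y : X, Nontrivial (F.presheaf.stalk y) → y ⤳ x → y = x) ↔
      (∀ q ∈ Module.support (X.presheaf.stalk x) (F.presheaf.stalk x),
          q = closedPoint (X.presheaf.stalk x)) := by
  obtain ⟨_, ⟨U, hU : IsAffineOpen U, rfl⟩, hxU, -⟩ :=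
    (X.isBasis_affineOpens).exists_subset_of_mem_open (Set.mem_univ x) isOpen_univ
  have hx : x ∈ U := hxU
  set p := (hU.primeIdealOf ⟨x, hx⟩).asIdeal with hp
  letI := TopCat.Presheaf.algebra_section_stalk X.presheaf (⟨x, hx⟩ : U)
  haveI : IsLocalization.AtPrime (X.presheaf.stalk x) p := hU.isLocalization_stalk ⟨x, hx⟩
  letI modA : Module Γ(X, U) (F.presheaf.stalk x) := StalkLocH8.modSec F hx
  haveI : IsScalarTower Γ(X, U) (X.presheaf.stalk x) (F.presheaf.stalk x) :=
    IsScalarTower.of_algebraMap_smul (fun _ _ => rfl)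
  haveI := StalkLocH8.isLocalizedModule_germLin F hU hx
  have hS := mem_support_iff_comap p (X.presheaf.stalk x) Γ(F, U) (F.presheaf.stalk x)
    (StalkLocH8.germLin F hx)
  have hcomap : (maximalIdeal (X.presheaf.stalk x)).comap
      (algebraMap Γ(X, U) (X.presheaf.stalk x)) = p := by
    rw [hp, hU.primeIdealOf_eq_map_closedPoint]
    rfl
  have hnt : ∀ (y : X) (hy : y ∈ U), Nontrivial (F.presheaf.stalk y) ↔
      hU.primeIdealOf ⟨y, hy⟩ ∈ Module.support Γ(X, U) Γ(F, U) := by
    intro y hy
    rw [AnnSh2H8.mem_support_iff F hU hy]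
    change _ ↔ ¬ Subsingleton (F.presheaf.stalk y)
    rw [not_subsingleton_iff_nontrivial]
  constructor
  · intro H q hq
    have hP := (hS q).mp hq
    set P : PrimeSpectrum Γ(X, U) := PrimeSpectrum.comap (algebraMap Γ(X, U) (X.presheaf.stalk x)) q
      with hPdef
    have hyU : hU.fromSpec P ∈ U := by
      have h' : hU.fromSpec P ∈ hU.fromSpec.opensRange := ⟨P, rfl⟩
      rwa [hU.opensRange_fromSpec] at h'
    have hPy : hU.primeIdealOf ⟨hU.fromSpec P, hyU⟩ = P :=
      hU.fromSpec.isOpenEmbedding.injective (hU.fromSpec_primeIdealOf ⟨_, hyU⟩)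
    have hy_nt : Nontrivial (F.presheaf.stalk (hU.fromSpec P)) :=
      (hnt _ hyU).mpr (by rw [hPy]; exact hP)
    have hle : P ≤ hU.primeIdealOf ⟨x, hx⟩ := by
      change q.asIdeal.comap _ ≤ p
      rw [← hcomap]
      exact Ideal.comap_mono (IsLocalRing.le_maximalIdeal q.isPrime.ne_top)
    have hspec : hU.fromSpec P ⤳ x := by
      have h1 : P ⤳ hU.primeIdealOf ⟨x, hx⟩ := (PrimeSpectrum.le_iff_specializes _ _).mp hle
      have h2 := h1.map hU.fromSpec.continuous
      rwa [hU.fromSpec_primeIdealOf] at h2
    have hyx := H _ hy_nt hspec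
    have hPp : q.asIdeal.comap (algebraMap Γ(X, U) (X.presheaf.stalk x)) = p := by
      have h3 : P = hU.primeIdealOf ⟨x, hx⟩ := by
        rw [← hPy]
        congr 1
        exact Subtype.ext hyx
      exact congrArg PrimeSpectrum.asIdeal h3
    have e1 : Ideal.map (algebraMap Γ(X, U) (X.presheaf.stalk x))
        (q.asIdeal.comap (algebraMap Γ(X, U) (X.presheaf.stalk x))) = q.asIdeal :=
      IsLocalization.map_under p.primeCompl (X.presheaf.stalk x) q.asIdeal
    have e2 : Ideal.map (algebraMap Γ(X, U) (X.presheaf.stalk x))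
        ((maximalIdeal (X.presheaf.stalk x)).comap
          (algebraMap Γ(X, U) (X.presheaf.stalk x))) = maximalIdeal (X.presheaf.stalk x) :=
      IsLocalization.map_under p.primeCompl (X.presheaf.stalk x) _
    apply PrimeSpectrum.ext
    show q.asIdeal = maximalIdeal (X.presheaf.stalk x)
    rw [← e1, hPp, ← hcomap, e2]
  · intro H y hynt hyx
    have hyU : y ∈ U := hyx.mem_open U.isOpen hx
    have hPy := (hnt y hyU).mp hynt
    have hle : hU.primeIdealOf ⟨y, hyU⟩ ≤ hU.primeIdealOf ⟨x, hx⟩ := by
      rw [PrimeSpectrum.le_iff_specializes]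
      have h1 : (⟨y, hyU⟩ : U) ⤳ ⟨x, hx⟩ := (subtype_specializes_iff _ _).mpr hyx
      exact h1.map hU.isoSpec.hom.continuous
    set py := (hU.primeIdealOf ⟨y, hyU⟩).asIdeal with hpy
    have hdisj : Disjoint (p.primeCompl : Set Γ(X, U)) (py : Set Γ(X, U)) := by
      rw [Set.disjoint_left]
      intro a ha hay
      exact ha (hle hay)
    have hcm : (py.map (algebraMap Γ(X, U) (X.presheaf.stalk x))).comap
        (algebraMap Γ(X, U) (X.presheaf.stalk x)) = py :=
      IsLocalization.comap_map_of_isPrime_disjoint p.primeCompl (X.presheaf.stalk x)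
        inferInstance hdisj
    have hqprime : (py.map (algebraMap Γ(X, U) (X.presheaf.stalk x))).IsPrime :=
      IsLocalization.isPrime_of_isPrime_disjoint p.primeCompl (X.presheaf.stalk x) py
        inferInstance hdisj
    set q : PrimeSpectrum (X.presheaf.stalk x) :=
      ⟨py.map (algebraMap Γ(X, U) (X.presheaf.stalk x)), hqprime⟩ with hqdef
    have hq : q ∈ Module.support (X.presheaf.stalk x) (F.presheaf.stalk x) := by
      rw [hS q]
      have : PrimeSpectrum.comap (algebraMap Γ(X, U) (X.presheaf.stalk x)) q =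
          hU.primeIdealOf ⟨y, hyU⟩ := PrimeSpectrum.ext hcm
      rw [this]
      exact hPy
    have hqm := H q hq
    have hqm' : py.map (algebraMap Γ(X, U) (X.presheaf.stalk x)) =
        maximalIdeal (X.presheaf.stalk x) := congrArg PrimeSpectrum.asIdeal hqm
    have hpp : py = p := by rw [← hcm, hqm', hcomap]
    have e1 := hU.fromSpec_primeIdealOf ⟨y, hyU⟩
    have e2 := hU.fromSpec_primeIdealOf ⟨x, hx⟩
    have e3 : hU.primeIdealOf ⟨y, hyU⟩ = hU.primeIdealOf ⟨x, hx⟩ := PrimeSpectrum.ext hpp
    rw [e3] at e1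
    exact e1.symm.trans e2

/-- a global function is `F`-regular iff all associated points lie in its non-vanishing locus -/
theorem regular_iff (f : Γ(X, ⊤)) :
    (∀ x : X, IsSMulRegular (F.presheaf.stalk x) (X.presheaf.germ ⊤ x trivial f)) ↔
      AssSch.Ass F ⊆ (X.basicOpen f : Set X) := by
  constructor
  · intro H x hx
    obtain ⟨hprime, ξ, hξ⟩ := isAssociatedPrime_iff.1 (show IsAssociatedPrime
      (maximalIdeal (X.presheaf.stalk x)) (F.presheaf.stalk x) from hx)
    have hξne : ξ ≠ 0 := by
      rintro rfl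
      apply hprime.ne_top
      rw [hξ]
      ext r
      simp [Submodule.mem_colon_singleton]
    show x ∈ X.basicOpen f
    rw [Scheme.mem_basicOpen_top X f x]
    by_contra hnu
    have hmem : (X.presheaf.germ ⊤ x trivial f) ∈ maximalIdeal (X.presheaf.stalk x) := by
      rw [mem_maximalIdeal, mem_nonunits_iff]
      exact hnu
    rw [hξ, Submodule.mem_colon_singleton, Submodule.mem_bot] at hmem
    refine hξne (H x ?_)
    show (X.presheaf.germ ⊤ x trivial f) • ξ = (X.presheaf.germ ⊤ x trivial f) • (0 : F.presheaf.stalk x)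
    rw [hmem, smul_zero]
  · intro H x
    rw [isSMulRegular_iff_right_eq_zero_of_smul]
    intro ξ hξ
    by_contra hξne
    haveI : IsNoetherianRing (X.presheaf.stalk x) := inferInstance
    obtain ⟨q, hqass, hqle⟩ := exists_le_isAssociatedPrime_of_isNoetherianRing
      (X.presheaf.stalk x) ξ hξne
    have hfq : (X.presheaf.germ ⊤ x trivial f) ∈ q := hqle (by
      rw [Submodule.mem_colon_singleton, Submodule.mem_bot]
      exact hξ)
    -- pass to an affine neighbourhood
    obtain ⟨_, ⟨U, hU : IsAffineOpen U, rfl⟩, hxU, -⟩ :=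
      (X.isBasis_affineOpens).exists_subset_of_mem_open (Set.mem_univ x) isOpen_univ
    have hx : x ∈ U := hxU
    set p := (hU.primeIdealOf ⟨x, hx⟩).asIdeal with hp
    letI := TopCat.Presheaf.algebra_section_stalk X.presheaf (⟨x, hx⟩ : U)
    haveI : IsLocalization.AtPrime (X.presheaf.stalk x) p := hU.isLocalization_stalk ⟨x, hx⟩
    letI modA : Module Γ(X, U) (F.presheaf.stalk x) := StalkLocH8.modSec F hx
    haveI : IsScalarTower Γ(X, U) (X.presheaf.stalk x) (F.presheaf.stalk x) :=
      IsScalarTower.of_algebraMap_smul (fun _ _ => rfl)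
    haveI := StalkLocH8.isLocalizedModule_germLin F hU hx
    haveI : IsNoetherianRing Γ(X, U) := IsLocallyNoetherian.component_noetherian ⟨U, hU⟩
    have h := Module.associatedPrimes.preimage_comap_associatedPrimes_eq_associatedPrimes_of_isLocalizedModule
      (S := p.primeCompl) (R' := X.presheaf.stalk x) (f := StalkLocH8.germLin F hx)
    have hP : q.comap (algebraMap Γ(X, U) (X.presheaf.stalk x)) ∈
        associatedPrimes Γ(X, U) Γ(F, U) := by
      have hq' : q ∈ associatedPrimes (X.presheaf.stalk x) (F.presheaf.stalk x) := hqass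
      rw [← h] at hq'
      exact hq'
    set P : PrimeSpectrum Γ(X, U) :=
      ⟨q.comap (algebraMap Γ(X, U) (X.presheaf.stalk x)), hP.isPrime⟩ with hPdef
    have hyU : hU.fromSpec P ∈ U := by
      have h' : hU.fromSpec P ∈ hU.fromSpec.opensRange := ⟨P, rfl⟩
      rwa [hU.opensRange_fromSpec] at h'
    have hPy : hU.primeIdealOf ⟨hU.fromSpec P, hyU⟩ = P :=
      hU.fromSpec.isOpenEmbedding.injective (hU.fromSpec_primeIdealOf ⟨_, hyU⟩)
    have hy_ass : Curv2.IsAssPoint F (hU.fromSpec P) :=
      (Groth.Agent.EmbS1.isAssPoint_iff F hU hyU).mpr (by rw [hPy]; exact hP)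
    have hyf : hU.fromSpec P ∈ X.basicOpen f := H hy_ass
    -- the restriction of f to U lies in P
    set a := X.presheaf.map (homOfLE (le_top : U ≤ ⊤)).op f with ha
    have hga : ∀ (z : X) (hz : z ∈ U), X.presheaf.germ U z hz a = X.presheaf.germ ⊤ z trivial f :=
      fun z hz => TopCat.Presheaf.germ_res_apply X.presheaf (homOfLE (le_top : U ≤ ⊤)) z hz f
    have haP : a ∈ P.asIdeal := by
      show algebraMap Γ(X, U) (X.presheaf.stalk x) a ∈ q
      have : algebraMap Γ(X, U) (X.presheaf.stalk x) a = X.presheaf.germ U x hx a := rfl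
      rw [this, hga x hx]
      exact hfq
    -- but the germ of f at y is a unit
    rw [Scheme.mem_basicOpen_top X f (hU.fromSpec P), ← hga _ hyU] at hyf
    have hnot : a ∉ (hU.primeIdealOf ⟨hU.fromSpec P, hyU⟩).asIdeal := by
      intro hmem
      have h1 : (X.presheaf.germ U (hU.fromSpec P) hyU).hom a ∈
          maximalIdeal (X.presheaf.stalk (hU.fromSpec P)) := by
        rw [hU.primeIdealOf_eq_map_closedPoint] at hmem
        exact hmem
      exact ((mem_maximalIdeal _).mp h1) hyf
    rw [hPy] at hnot
    exact hnot haP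

end scheme

end Groth.Agent.AssPts
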