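import Mathlib
import Groth.Agent.Lib.AssFlat_helper5

/-!
# Associated primes and lengths of `N ⊗_R M` for `N` flat over a local ring (helper8).
APPEND-ONLY once landed.
-/

set_option autoImplicit false
set_option linter.all false
set_option maxHeartbeats 1600000

namespace Groth.Agent.Lib.AssTensH8

open TensorProduct IsLocalRing Groth.Agent.AssFlat

universe u

variable {R S : Type u} [CommRing R] [CommRing S] [Algebra R S]
variable {N : Type u} [AddCommGroup N] [Module S N] [Module R N] [IsScalarTower R S N]

section equiv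

variable {M : Type u} [AddCommGroup M] [Module R M]
variable {A : Type u} [AddCommGroup A] [Module S A] [Module R A] [IsScalarTower R S A]

/-- `A ⊗_S N ≃ N ⊗_R M` when `A = S ⊗_R M`. -/
noncomputable def tensEquiv (j : M →ₗ[R] A) (hj : IsBaseChange S j) :
    A ⊗[S] N ≃ₗ[S] N ⊗[R] M :=
  (TensorProduct.comm S A N).trans
    ((LinearEquiv.lTensor N hj.equiv.symm).trans
      (AlgebraTensorModule.cancelBaseChange R S S N M))

end equiv

section loc

variable [IsLocalRing R] [IsLocalRing S] [IsLocalHom (algebraMap R S)] [IsNoetherianRing R]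
  [Module.Flat R N]
variable (M : Type u) [AddCommGroup M] [Module R M]

theorem max_mem_iff :
    maximalIdeal S ∈ associatedPrimes S (N ⊗[R] M) ↔
      maximalIdeal R ∈ associatedPrimes R M ∧
        maximalIdeal S ∈ associatedPrimes S
          (N ⧸ (maximalIdeal R).map (algebraMap R S) • (⊤ : Submodule S N)) := by
  constructor
  · intro h
    have h1 := mem_of_mem_associatedPrimes_tensor (S := S) (N := N) M _ h
    rw [maximalIdeal_comap] at h1
    rw [associatedPrimes_tensorQuot]
    exact h1
  · rintro ⟨h1, h2⟩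
    rw [associatedPrimes_tensor]
    simp only [Set.mem_iUnion]
    exact ⟨_, h1, h2⟩

theorem nontrivial_quot [Module.Finite S N] [Nontrivial N] :
    Nontrivial (N ⧸ (maximalIdeal R).map (algebraMap R S) • (⊤ : Submodule S N)) := by
  rw [Submodule.Quotient.nontrivial_iff]
  intro h
  have h1 : (⊤ : Submodule S N) = ⊥ := by
    apply Submodule.eq_bot_of_le_smul_of_le_jacobson_bot
      ((maximalIdeal R).map (algebraMap R S)) ⊤ Module.Finite.fg_top
    · rw [h]
    · rw [IsLocalRing.jacobson_eq_maximalIdeal ⊥ bot_ne_top]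
      exact map_maximalIdeal_le (algebraMap R S)
  exact top_ne_bot h1

theorem exists_chain [IsNoetherianRing S] [Module.Finite S N] [Nontrivial N]
    (p : Ideal R) (hp : p ∈ associatedPrimes R M)
    (hm : maximalIdeal R ∈ associatedPrimes R M) :
    ∃ q q' : Ideal S, q ∈ associatedPrimes S (N ⊗[R] M) ∧ q' ∈ associatedPrimes S (N ⊗[R] M) ∧
      q' ≤ q ∧ q.comap (algebraMap R S) = maximalIdeal R ∧ q'.comap (algebraMap R S) = p := by
  haveI := nontrivial_quot (R := R) (S := S) (N := N)
  haveI hpp : p.IsPrime := hp.isPrime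
  obtain ⟨q, hq⟩ := associatedPrimes.nonempty S
    (N ⧸ (maximalIdeal R).map (algebraMap R S) • (⊤ : Submodule S N))
  haveI hqp : q.IsPrime := hq.isPrime
  have hann : Module.annihilator S (N ⧸ p.map (algebraMap R S) • (⊤ : Submodule S N)) ≤ q := by
    refine le_trans ?_ (IsAssociatedPrime.annihilator_le hq)
    intro s hs
    rw [Submodule.mem_annihilator]
    rw [Module.mem_annihilator] at hs
    intro z _
    obtain ⟨n, rfl⟩ := Submodule.Quotient.mk_surjective _ z
    have h1 := hs (Submodule.Quotient.mk n)
    rw [← Submodule.Quotient.mk_smul, Submodule.Quotient.mk_eq_zero] at h1 ⊢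
    exact Submodule.smul_mono_left (Ideal.map_mono (le_maximalIdeal hpp.ne_top)) h1
  obtain ⟨q', hq'min, hq'le⟩ := Ideal.exists_minimalPrimes_le hann
  have hq' : q' ∈ associatedPrimes S (N ⧸ p.map (algebraMap R S) • (⊤ : Submodule S N)) :=
    Module.associatedPrimes.minimalPrimes_annihilator_subset_associatedPrimes S _ hq'min
  refine ⟨q, q', ?_, ?_, hq'le, ?_, ?_⟩
  · rw [associatedPrimes_tensor]
    simp only [Set.mem_iUnion]
    exact ⟨_, hm, hq⟩
  · rw [associatedPrimes_tensor]
    simp only [Set.mem_iUnion]
    exact ⟨_, hp, hq'⟩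
  · rw [associatedPrimes_tensorQuot] at hq
    exact comap_eq_of_mem_associatedPrimes_quot (maximalIdeal R) q hq
  · rw [associatedPrimes_tensorQuot] at hq'
    exact comap_eq_of_mem_associatedPrimes_quot p q' hq'

end loc

end Groth.Agent.Lib.AssTensH8
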