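import Mathlib
import Groth.Prelude
import Groth.Agent.Lib.StalkSky2_lead
import Groth.Agent.Lib.PCohFT2_lead
import Groth.Agent.Lib.BMod5_helper6
import Groth.Agent.Lib.StalkInj_helper6
import Groth.Agent.Lib.FLF8_helper8
import Groth.Agent.Lib.DCohLoc1_lead
import Groth.Agent.Lib.RefHull2_helper8

/-!
# Fibrewise monomorphisms into finite locally free modules (helper8)

APPEND-ONLY once landed.
-/

set_option autoImplicit false
set_option linter.all false
set_option maxHeartbeats 1600000
set_option backward.isDefEq.respectTransparency false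
set_option backward.isDefEq.respectTransparency.types false
set_option backward.defeqAttrib.useBackward true

universe u
open CategoryTheory CategoryTheory.Limits AlgebraicGeometry Opposite TopologicalSpace TensorProduct

namespace Groth.Agent.Lib.FibMonoH8

open Groth.Agent.Lib.StalkSkyL Groth.Agent.Lib.TorAmpPushL

noncomputable section

/-! ### algebra -/

/-- fibrewise injectivity over a nonzero ring killing the maximal ideal gives split injectivity -/
theorem exists_retraction_of_injective_baseChange {R K M N : Type u} [CommRing R] [IsLocalRing R]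
    [CommRing K] [Nontrivial K] [Algebra R K]
    (hK : ∀ r ∈ IsLocalRing.maximalIdeal R, algebraMap R K r = 0)
    [AddCommGroup M] [Module R M] [Module.Finite R M]
    [AddCommGroup N] [Module R N] [Module.Finite R N] [Module.Free R N]
    (l : M →ₗ[R] N) (h : Function.Injective (l.baseChange K)) :
    ∃ l' : N →ₗ[R] M, l' ∘ₗ l = LinearMap.id := by
  rw [IsLocalRing.split_injective_iff_lTensor_residueField_injective]
  let κ := IsLocalRing.ResidueField R
  let ψ : κ →+* K := Ideal.Quotient.lift (IsLocalRing.maximalIdeal R) (algebraMap R K) hK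
  letI : Algebra κ K := ψ.toAlgebra
  haveI : IsScalarTower R κ K := IsScalarTower.of_algebraMap_eq (fun r => by
    exact (Ideal.Quotient.lift_mk (IsLocalRing.maximalIdeal R) (algebraMap R K) hK).symm)
  let eM := TensorProduct.AlgebraTensorModule.cancelBaseChange R κ κ K M
  let eN := TensorProduct.AlgebraTensorModule.cancelBaseChange R κ κ K N
  have hsq : ∀ z : K ⊗[κ] (κ ⊗[R] M),
      eN ((l.baseChange κ).lTensor K z) = l.baseChange K (eM z) := by
    intro z
    induction z using TensorProduct.induction_on with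
    | zero => simp
    | add a b ha hb => simp only [map_add, ha, hb]
    | tmul a b =>
      induction b using TensorProduct.induction_on with
      | zero => simp
      | add b c hb hc => simp only [TensorProduct.tmul_add, map_add, hb, hc]
      | tmul c m =>
        simp [eM, eN, TensorProduct.AlgebraTensorModule.cancelBaseChange_tmul]
  have h1 : Function.Injective ((l.baseChange κ).lTensor K) := by
    intro a b hab
    apply eM.injective
    apply h
    rw [← hsq, ← hsq, hab]
  have h2 : Function.Injective (l.baseChange κ) :=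
    (Module.FaithfullyFlat.lTensor_injective_iff_injective κ K _).mp h1
  intro a b hab
  exact h2 hab

theorem exists_retraction_of_mono_extendScalars {R K : Type u} [CommRing R] [IsLocalRing R]
    [CommRing K] [Nontrivial K] (φ : R →+* K)
    (hφ : ∀ r ∈ IsLocalRing.maximalIdeal R, φ r = 0) {M N : ModuleCat.{u} R}
    [Module.Finite R M] [Module.Finite R N] [Module.Free R N] (g : M ⟶ N)
    (h : Mono ((ModuleCat.extendScalars.{u, u, u} φ).map g)) :
    ∃ r : N ⟶ M, g ≫ r = 𝟙 M := by
  letI : Algebra R K := φ.toAlgebra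
  have hinj : Function.Injective (g.hom.baseChange K) := by
    have := (ModuleCat.mono_iff_injective _).mp h
    exact this
  obtain ⟨l', hl'⟩ := exists_retraction_of_injective_baseChange (K := K) hφ g.hom hinj
  refine ⟨ModuleCat.ofHom l', ?_⟩
  ext x
  exact LinearMap.congr_fun hl' x

/-! ### stalk criterion for monomorphisms of pullbacks -/

variable {X Y : Scheme.{u}}

theorem extStalk_map_eq (f : X ⟶ Y) (x : X) {A B : Y.Modules} (m : A ⟶ B) :
    (DerSch.stalkFunctor Y (f.base x) ⋙ ModuleCat.extendScalars.{u, u, u} (stk f x)).map m =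
      (pullbackStalkIso f x).inv.app A ≫
        (Scheme.Modules.pullback f ⋙ DerSch.stalkFunctor X x).map m ≫
          (pullbackStalkIso f x).hom.app B := by
  rw [(pullbackStalkIso f x).hom.naturality m, Iso.inv_hom_id_app_assoc]

theorem mono_extStalk_of_mono_pullback (f : X ⟶ Y) {A B : Y.Modules} (m : A ⟶ B)
    (hm : Mono ((Scheme.Modules.pullback f).map m)) (x : X) :
    Mono ((ModuleCat.extendScalars.{u, u, u} (stk f x)).map
      ((DerSch.stalkFunctor Y (f.base x)).map m)) := by
  have h := extStalk_map_eq f x m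
  dsimp only [Functor.comp_map] at h
  rw [h]
  have h0 : Mono ((DerSch.stalkFunctor X x).map ((Scheme.Modules.pullback f).map m)) :=
    inferInstance
  have hA : Mono ((pullbackStalkIso f x).inv.app A) :=
    @IsIso.mono_of_iso _ _ _ _ ((pullbackStalkIso f x).inv.app A)
      (Iso.isIso_inv ((pullbackStalkIso f x).app A))
  have hB : Mono ((pullbackStalkIso f x).hom.app B) :=
    @IsIso.mono_of_iso _ _ _ _ ((pullbackStalkIso f x).hom.app B)
      (Iso.isIso_hom ((pullbackStalkIso f x).app B))
  exact mono_comp' hA (mono_comp' h0 hB)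

theorem mono_pullback_of_mono_extStalk (f : X ⟶ Y) {A B : Y.Modules} (m : A ⟶ B)
    (h : ∀ x : X, Mono ((ModuleCat.extendScalars.{u, u, u} (stk f x)).map
      ((DerSch.stalkFunctor Y (f.base x)).map m))) :
    Mono ((Scheme.Modules.pullback f).map m) := by
  apply mono_of_forall_stalk_mono
  intro x
  have hnat := (pullbackStalkIso f x).hom.naturality m
  haveI h1 : Mono ((DerSch.stalkFunctor Y (f.base x) ⋙
      ModuleCat.extendScalars.{u, u, u} (stk f x)).map m) := by
    dsimp only [Functor.comp_map]
    exact h x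
  have hA : Mono ((pullbackStalkIso f x).hom.app A) :=
    @IsIso.mono_of_iso _ _ _ _ ((pullbackStalkIso f x).hom.app A)
      (Iso.isIso_hom ((pullbackStalkIso f x).app A))
  haveI h2 : Mono ((Scheme.Modules.pullback f ⋙ DerSch.stalkFunctor X x).map m ≫
      (pullbackStalkIso f x).hom.app B) := by
    rw [hnat]
    exact mono_comp' hA h1
  exact mono_of_mono ((Scheme.Modules.pullback f ⋙ DerSch.stalkFunctor X x).map m)
    ((pullbackStalkIso f x).hom.app B)

/-! ### split injectivity on stalks -/

variable {S : Scheme.{u}}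

/-- the stalk map at `y` admits a retraction -/
def SplitAt {U E : S.Modules} (ι : U ⟶ E) (y : S) : Prop :=
  ∃ r : (DerSch.stalkFunctor S y).obj E ⟶ (DerSch.stalkFunctor S y).obj U,
    (DerSch.stalkFunctor S y).map ι ≫ r = 𝟙 _

theorem SplitAt.mono {U E : S.Modules} {ι : U ⟶ E} {y : S} (h : SplitAt ι y) :
    Mono ((DerSch.stalkFunctor S y).map ι) := by
  obtain ⟨r, hr⟩ := h
  exact mono_of_mono_fac hr

theorem SplitAt.mono_map {U E : S.Modules} {ι : U ⟶ E} {y : S} (h : SplitAt ι y)
    {D : Type*} [Category D] (G : ModuleCat.{u} (S.presheaf.stalk y) ⥤ D) :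
    Mono (G.map ((DerSch.stalkFunctor S y).map ι)) := by
  obtain ⟨r, hr⟩ := h
  have : G.map ((DerSch.stalkFunctor S y).map ι) ≫ G.map r = 𝟙 _ := by
    rw [← G.map_comp, hr, G.map_id]
  exact mono_of_mono_fac this

theorem splitAt_of_finLocFree_cokernel {U E : S.Modules} (ι : U ⟶ E) [Mono ι]
    (hC : FlatMod.IsFinLocFree (cokernel ι)) (y : S) : SplitAt ι y := by
  let Sc : ShortComplex S.Modules := ShortComplex.mk ι (cokernel.π ι) (cokernel.condition ι)
  have hSc : Sc.ShortExact :=
    { exact := ShortComplex.exact_cokernel ι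
      mono_f := inferInstanceAs (Mono ι)
      epi_g := inferInstanceAs (Epi (cokernel.π ι)) }
  have hT := stalkFunctor_map_shortExact y Sc hSc
  haveI := FLFH8.isQuasicoherent_of_finLocFree _ hC
  haveI hfree : Module.Free (S.presheaf.stalk y) ((cokernel ι).presheaf.stalk y) :=
    FLFH8.free_stalk_of_finLocFree _ hC y
  haveI : Projective ((Sc.map (DerSch.stalkFunctor S y)).X₃) := by
    show Projective (ModuleCat.of (S.presheaf.stalk y) ((cokernel ι).presheaf.stalk y))
    exact (IsProjective.iff_projective _).mp inferInstance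
  haveI := hT.epi_g
  haveI := hT.mono_f
  let s := Projective.factorThru (𝟙 _) (Sc.map (DerSch.stalkFunctor S y)).g
  have hs : s ≫ (Sc.map (DerSch.stalkFunctor S y)).g = 𝟙 _ := Projective.factorThru_comp _ _
  let sp := ShortComplex.Splitting.ofExactOfSection _ hT.exact s hs inferInstance
  exact ⟨sp.r, sp.f_r⟩

/-! ### from fibres to stalks -/

theorem finite_stalk_of_isFT (F : S.Modules) (hF : CohB1.IsFT F) (y : S) :
    Module.Finite (S.presheaf.stalk y) (F.presheaf.stalk y) := by
  obtain ⟨V, hyV, n, m, hm⟩ := RefHullH8.exists_spansOn F hF y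
  have h := hm y hyV
  exact ⟨Submodule.fg_def.2 ⟨_, Set.finite_range _, h⟩⟩

theorem maximalIdeal_stalk_spec_field (κ : CommRingCat.{u}) (hκ : IsField κ) (x : Spec κ) :
    IsLocalRing.maximalIdeal ((Spec κ).presheaf.stalk x) = ⊥ := by
  haveI : IsLocalRing ((Spec.structureSheaf κ).presheaf.stalk x) :=
    inferInstanceAs (IsLocalRing ((Spec κ).presheaf.stalk x))
  have h := IsLocalization.AtPrime.map_eq_maximalIdeal x.asIdeal
    ((Spec.structureSheaf κ).presheaf.stalk x)
  have h2 : x.asIdeal = ⊥ := by
    rw [eq_bot_iff]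
    intro a ha
    by_contra hne
    obtain ⟨b, hb⟩ := hκ.mul_inv_cancel hne
    exact x.isPrime.ne_top (Ideal.eq_top_of_isUnit_mem _ ha (IsUnit.of_mul_eq_one b hb))
  rw [h2, Ideal.map_bot] at h
  exact h.symm

theorem splitAt_of_mono_fibre {U E : S.Modules} (hU : CohB1.IsFT U)
    (hE : FlatMod.IsFinLocFree E) (ι : U ⟶ E) (s : S)
    (h : Mono ((Scheme.Modules.pullback (S.fromSpecResidueField s)).map ι)) : SplitAt ι s := by
  let x : Spec (S.residueField s) := IsLocalRing.closedPoint (S.residueField s)
  have hx : (S.fromSpecResidueField s).base x = s := Scheme.fromSpecResidueField_apply s x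
  have h1 := mono_extStalk_of_mono_pullback (S.fromSpecResidueField s) ι h x
  suffices hs : SplitAt ι ((S.fromSpecResidueField s).base x) by
    rw [hx] at hs
    exact hs
  set y := (S.fromSpecResidueField s).base x with hy
  haveI : Module.Finite (S.presheaf.stalk y) ((DerSch.stalkFunctor S y).obj U) :=
    finite_stalk_of_isFT U hU y
  haveI := FLFH8.isQuasicoherent_of_finLocFree E hE
  haveI := FLFH8.isFinitePresentation_of_finLocFree E hE
  haveI : Module.Finite (S.presheaf.stalk y) ((DerSch.stalkFunctor S y).obj E) :=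
    FLFH8.finite_stalk E y
  haveI : Module.Free (S.presheaf.stalk y) ((DerSch.stalkFunctor S y).obj E) :=
    FLFH8.free_stalk_of_finLocFree E hE y
  have hmax := maximalIdeal_stalk_spec_field (S.residueField s) (Field.toIsField _) x
  have hφ : ∀ r ∈ IsLocalRing.maximalIdeal (S.presheaf.stalk y),
      stk (S.fromSpecResidueField s) x r = 0 := by
    intro r hr
    have h3 := map_nonunit (stk (S.fromSpecResidueField s) x) r hr
    rw [hmax] at h3
    exact h3
  exact exists_retraction_of_mono_extendScalars (stk (S.fromSpecResidueField s) x) hφ _ h1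

/-! ### the cokernel of a stalkwise split monomorphism -/

open Groth.Agent.Lib.DCohLocLead in
theorem isFT_of_epi' {M N : S.Modules} (p : M ⟶ N) [Epi p] (h : CohB1.IsFT M) : CohB1.IsFT N := by
  choose W hxW hW using exists_local_genSec_of_isFT M h
  refine isFT_of_local_genSec N W ?_ (fun x => ?_)
  · rw [eq_top_iff]
    intro x _
    exact Opens.mem_iSup.mpr ⟨x, hxW x⟩
  · obtain ⟨G, hG⟩ := hW x
    haveI : PreservesColimitsOfSize.{u, u} (Scheme.Modules.restrictFunctor (W x).ι) :=
      (Scheme.Modules.restrictAdjunction (W x).ι).leftAdjoint_preservesColimits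
    haveI : Epi ((Scheme.Modules.restrictFunctor (W x).ι).map p) := inferInstance
    exact ⟨G.ofEpi ((Scheme.Modules.restrictFunctor (W x).ι).map p), hG⟩

open Groth.Agent.Lib.DCohLocLead in
theorem isQuasicoherent_cokernel_of_isFT {U E : S.Modules} (hU : CohB1.IsFT U)
    [E.IsQuasicoherent] (ι : U ⟶ E) : (cokernel ι).IsQuasicoherent := by
  choose W hxW hW using exists_local_genSec_of_isFT U hU
  refine Groth.Agent.Lib.BModH6.isQuasicoherent_of_restrict_ι (cokernel ι) W ?_ (fun x => ?_)
  · rw [eq_top_iff]
    intro x _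
    exact Opens.mem_iSup.mpr ⟨x, hxW x⟩
  · obtain ⟨G, hG⟩ := hW x
    haveI : PreservesColimitsOfSize.{u, u} (Scheme.Modules.restrictFunctor (W x).ι) :=
      (Scheme.Modules.restrictAdjunction (W x).ι).leftAdjoint_preservesColimits
    haveI : Epi G.π := G.epi
    haveI : (E.restrict (W x).ι).IsQuasicoherent := inferInstance
    haveI : (SheafOfModules.free (R := ((W x : S.Opens) : Scheme.{u}).ringCatSheaf)
      G.I).IsQuasicoherent := inferInstance
    let v : U.restrict (W x).ι ⟶ E.restrict (W x).ι :=
      (Scheme.Modules.restrictFunctor (W x).ι).map ι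
    haveI hq : (cokernel (G.π ≫ v)).IsQuasicoherent :=
      FComplH8.isQuasicoherent_cokernel (G.π ≫ v)
    let e1 : (Scheme.Modules.restrictFunctor (W x).ι).obj (cokernel ι) ≅ cokernel v :=
      PreservesCokernel.iso (Scheme.Modules.restrictFunctor (W x).ι) ι
    let e2 : cokernel (G.π ≫ v) ≅ cokernel v := cokernelEpiComp G.π v
    exact (SheafOfModules.isQuasicoherent ((W x : S.Opens) : Scheme.{u}).ringCatSheaf).prop_of_iso
      (e2 ≪≫ e1.symm) hq

theorem isFinitePresentation_cokernel_of_isFT {U E : S.Modules} (hU : CohB1.IsFT U)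
    [E.IsQuasicoherent] [SheafOfModules.IsFinitePresentation (R := S.ringCatSheaf) E]
    (ι : U ⟶ E) :
    SheafOfModules.IsFinitePresentation (R := S.ringCatSheaf) (cokernel ι) := by
  haveI hqc : (cokernel ι).IsQuasicoherent := isQuasicoherent_cokernel_of_isFT hU ι
  haveI hK : (kernel (cokernel.π ι)).IsQuasicoherent := SubExt.isQuasicoherent_kernel _
  have hKft : CohB1.IsFT (kernel (cokernel.π ι)) :=
    isFT_of_epi' (Abelian.factorThruImage ι) hU
  haveI : SheafOfModules.IsFiniteType (R := S.ringCatSheaf) (kernel (cokernel.π ι)) := hKft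
  refine QCohFP2.isFinitePresentation_of_sections_cover (cokernel ι)
    (fun i : S.affineOpens => (i : S.Opens)) (fun i => i.2) (iSup_affineOpens_eq_top S) ?_
  intro i
  haveI : Module.FinitePresentation Γ(S, (i : S.Opens)) Γ(E, (i : S.Opens)) :=
    QCohFP2.finitePresentation_of_isFinitePresentation E i.2
  haveI : Module.Finite Γ(S, (i : S.Opens)) Γ(kernel (cokernel.π ι), (i : S.Opens)) :=
    QCohFT.finite_of_isFiniteType _ i.2
  have hs : Function.Surjective
      (Groth.Agent.Lib.StalkInjH6.apLin (cokernel.π ι) (i : S.Opens)) :=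
    QCohExact.app_surjective_of_epi (cokernel.π ι) i.2
  refine Module.finitePresentation_of_surjective _ hs ?_
  have hk : LinearMap.ker (Groth.Agent.Lib.StalkInjH6.apLin (cokernel.π ι) (i : S.Opens)) =
      LinearMap.range
        (Groth.Agent.Lib.StalkInjH6.apLin (kernel.ι (cokernel.π ι)) (i : S.Opens)) := by
    ext z
    constructor
    · intro hz
      let Ex : ShortComplex S.Modules :=
        ShortComplex.mk (kernel.ι (cokernel.π ι)) (cokernel.π ι) (kernel.condition _)
      have hEx : Ex.Exact := ShortComplex.exact_kernel (cokernel.π ι)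
      haveI : Mono Ex.f := inferInstanceAs (Mono (kernel.ι (cokernel.π ι)))
      obtain ⟨w, hw⟩ := QCohExact.app_exact Ex hEx (i : S.Opens) z hz
      exact ⟨w, hw⟩
    · rintro ⟨w, rfl⟩
      have h : (kernel.ι (cokernel.π ι) ≫ cokernel.π ι).app (i : S.Opens) w =
          (0 : kernel (cokernel.π ι) ⟶ cokernel ι).app (i : S.Opens) w := by
        rw [kernel.condition]
      rw [Scheme.Modules.Hom.comp_app] at h
      exact h
  rw [hk, LinearMap.range_eq_map]
  exact Submodule.FG.map _ Module.Finite.fg_top

theorem free_stalk_cokernel {U E : S.Modules} (hE : FlatMod.IsFinLocFree E) (ι : U ⟶ E)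
    [Mono ι] (y : S) (h : SplitAt ι y) :
    Module.Free (S.presheaf.stalk y) ((cokernel ι).presheaf.stalk y) := by
  obtain ⟨r, hr⟩ := h
  let Sc : ShortComplex S.Modules := ShortComplex.mk ι (cokernel.π ι) (cokernel.condition ι)
  have hSc : Sc.ShortExact :=
    { exact := ShortComplex.exact_cokernel ι
      mono_f := inferInstanceAs (Mono ι)
      epi_g := inferInstanceAs (Epi (cokernel.π ι)) }
  have hT := stalkFunctor_map_shortExact y Sc hSc
  let sp := ShortComplex.Splitting.ofExactOfRetraction _ hT.exact r hr hT.epi_g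
  haveI := FLFH8.isQuasicoherent_of_finLocFree E hE
  haveI := FLFH8.isFinitePresentation_of_finLocFree E hE
  haveI hfin : Module.Finite (S.presheaf.stalk y) (E.presheaf.stalk y) := FLFH8.finite_stalk E y
  haveI hfree : Module.Free (S.presheaf.stalk y) (E.presheaf.stalk y) :=
    FLFH8.free_stalk_of_finLocFree E hE y
  let g : E.presheaf.stalk y →ₗ[S.presheaf.stalk y] (cokernel ι).presheaf.stalk y :=
    ((DerSch.stalkFunctor S y).map (cokernel.π ι)).hom
  let s : (cokernel ι).presheaf.stalk y →ₗ[S.presheaf.stalk y] E.presheaf.stalk y := sp.s.hom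
  have hsg : g.comp s = LinearMap.id := by
    have := sp.s_g
    apply LinearMap.ext
    intro z
    exact congrArg (fun φ => φ.hom z) this
  haveI : Module.Projective (S.presheaf.stalk y) ((cokernel ι).presheaf.stalk y) :=
    Module.Projective.of_split s g hsg
  haveI : Module.Finite (S.presheaf.stalk y) ((cokernel ι).presheaf.stalk y) :=
    Module.Finite.of_surjective g (fun z => ⟨s z, LinearMap.congr_fun hsg z⟩)
  exact Module.free_of_flat_of_isLocalRing

/-- the main local criterion -/
theorem mono_and_finLocFree_cokernel {U E : S.Modules} (hU : CohB1.IsFT U)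
    (hE : FlatMod.IsFinLocFree E) (ι : U ⟶ E) (h : ∀ y : S, SplitAt ι y) :
    Mono ι ∧ FlatMod.IsFinLocFree (cokernel ι) := by
  haveI hm : Mono ι := mono_of_forall_stalk_mono ι (fun y => (h y).mono)
  refine ⟨hm, ?_⟩
  haveI := FLFH8.isQuasicoherent_of_finLocFree E hE
  haveI := FLFH8.isFinitePresentation_of_finLocFree E hE
  haveI := isQuasicoherent_cokernel_of_isFT hU ι
  haveI := isFinitePresentation_cokernel_of_isFT hU ι
  intro y
  exact FLFH8.exists_free_nhd (cokernel ι) y (free_stalk_cokernel hE ι y (h y))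

/-- S10858 -/
theorem main10858 {U E : S.Modules} (hU : CohB1.IsFT U) (hE : FlatMod.IsFinLocFree E)
    (ι : U ⟶ E) :
    ((Mono ι ∧ FlatMod.IsFinLocFree (cokernel ι)) ↔
        ∀ (T : Scheme.{u}) (f : T ⟶ S), Mono ((Scheme.Modules.pullback f).map ι)) ∧
      ((∀ (T : Scheme.{u}) (f : T ⟶ S), Mono ((Scheme.Modules.pullback f).map ι)) ↔
        ∀ s : S, Mono ((Scheme.Modules.pullback (S.fromSpecResidueField s)).map ι)) := by
  have hA : (Mono ι ∧ FlatMod.IsFinLocFree (cokernel ι)) →
      ∀ (T : Scheme.{u}) (f : T ⟶ S), Mono ((Scheme.Modules.pullback f).map ι) := by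
    rintro ⟨hm, hC⟩ T f
    haveI := hm
    apply mono_pullback_of_mono_extStalk
    intro x
    exact (splitAt_of_finLocFree_cokernel ι hC (f.base x)).mono_map _
  have hB : (∀ (T : Scheme.{u}) (f : T ⟶ S), Mono ((Scheme.Modules.pullback f).map ι)) →
      ∀ s : S, Mono ((Scheme.Modules.pullback (S.fromSpecResidueField s)).map ι) :=
    fun h s => h _ _
  have hC : (∀ s : S, Mono ((Scheme.Modules.pullback (S.fromSpecResidueField s)).map ι)) →
      Mono ι ∧ FlatMod.IsFinLocFree (cokernel ι) :=
    fun h => mono_and_finLocFree_cokernel hU hE ι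
      (fun y => splitAt_of_mono_fibre hU hE ι y (h y))
  exact ⟨⟨hA, fun h => hC (hB h)⟩, ⟨hB, fun h => hA (hC h)⟩⟩

end

end Groth.Agent.Lib.FibMonoH8
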