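import Mathlib
import Groth.Agent.Lib.StalkGen_helper5

/-!
# Codimension of a closed subscheme cut out by a regular sequence (helper5)
-/

set_option linter.style.haveILetI false

universe u

open CategoryTheory IsLocalRing AlgebraicGeometry TopologicalSpace Opposite

namespace Groth.Agent.RegCodim

open Groth.Agent.StalkGen

section Algebra

/-- a minimal prime over the ideal generated by a (weakly) regular sequence of length `n` has
height `n` -/
theorem height_eq_length_of_mem_minimalPrimes {A : Type*} [CommRing A] [IsNoetherianRing A]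
    (rs : List A) (hreg : RingTheory.Sequence.IsWeaklyRegular A rs) (p : Ideal A)
    (hp : p ∈ (Ideal.ofList rs).minimalPrimes) : p.height = rs.length := by
  haveI : p.IsPrime := hp.1.1
  apply le_antisymm
  · classical
    have h1 : Ideal.ofList rs = Ideal.span ((rs.toFinset : Finset A) : Set A) := by
      rw [List.coe_toFinset]
    rw [h1] at hp
    exact (Ideal.height_le_card_of_mem_minimalPrimes_span_finset hp).trans
      (by exact_mod_cast List.toFinset_card_le rs)
  · have mem : ∀ r ∈ rs, r ∈ p := fun r hr => hp.1.2 (Ideal.subset_span hr)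
    have hS := hreg.isRegular_of_isLocalization_of_mem (Localization.AtPrime p) p mem
    have hdim := ringKrullDim_add_length_eq_ringKrullDim_of_isRegular _ hS
    rw [IsLocalization.AtPrime.ringKrullDim_eq_height p (Localization.AtPrime p),
      List.length_map] at hdim
    haveI : Nontrivial (Localization.AtPrime p ⧸
        Ideal.ofList (rs.map (algebraMap A (Localization.AtPrime p)))) := by
      apply Ideal.Quotient.nontrivial_iff.mpr
      intro htop
      apply hS.2
      rw [htop]
      simp
    have h0 : (0 : WithBot ℕ∞) ≤ ringKrullDim (Localization.AtPrime p ⧸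
        Ideal.ofList (rs.map (algebraMap A (Localization.AtPrime p)))) :=
      ringKrullDim_nonneg_of_nontrivial
    have h2 : ((rs.length : ℕ∞) : WithBot ℕ∞) ≤ (p.height : WithBot ℕ∞) := by
      rw [← hdim]
      exact_mod_cast le_add_of_nonneg_left h0
    exact WithBot.coe_le_coe.mp h2

end Algebra

section Scheme

/-- inclusion of generic primes means specialization of the corresponding points -/
theorem specializes_of_genPrime_le {X : Scheme.{u}} {x x₁ x₂ : X} (h₁ : x₁ ⤳ x) (h₂ : x₂ ⤳ x)
    (hle : genPrime h₁ ≤ genPrime h₂) : x₁ ⤳ x₂ := by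
  obtain ⟨_, ⟨W, hW : IsAffineOpen W, rfl⟩, hxW, -⟩ :=
    (X.isBasis_affineOpens).exists_subset_of_mem_open (Set.mem_univ x) isOpen_univ
  have hx : x ∈ W := hxW
  have h3 : (hW.primeIdealOf ⟨x₁, h₁.mem_open W.isOpen hx⟩).asIdeal ≤
      (hW.primeIdealOf ⟨x₂, h₂.mem_open W.isOpen hx⟩).asIdeal := by
    rw [← comap_genPrime hW hx h₁, ← comap_genPrime hW hx h₂]
    exact Ideal.comap_mono hle
  have h4 := ((PrimeSpectrum.le_iff_specializes _ _).mp h3).map hW.fromSpec.continuous
  rw [hW.fromSpec_primeIdealOf, hW.fromSpec_primeIdealOf] at h4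
  exact h4

/-- the generic prime of a maximal point is a minimal prime -/
theorem genPrime_mem_minimalPrimes {Y : Scheme.{u}} {z y : Y} (hzy : z ⤳ y)
    (hmax : ∀ z' : Y, z' ⤳ z → z' = z) :
    genPrime hzy ∈ minimalPrimes (Y.presheaf.stalk y) := by
  refine ⟨⟨inferInstance, bot_le⟩, ?_⟩
  rintro q' ⟨hq', -⟩ hle
  haveI := hq'
  obtain ⟨z', h', rfl⟩ := exists_genPrime_eq y q'
  have hsp : z' ⤳ z := specializes_of_genPrime_le h' hzy hle
  obtain rfl := hmax z' hsp
  exact le_refl _

/-- compatibility of generic primes with a morphism -/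
theorem comap_stalkMap_genPrime {X Y : Scheme.{u}} (i : Y ⟶ X) {z y : Y} (hzy : z ⤳ y)
    (h : i z ⤳ i y) :
    (genPrime hzy).comap (i.stalkMap y).hom = genPrime h := by
  unfold genPrime
  rw [Ideal.comap_comap, ← CommRingCat.hom_comp,
    ← Scheme.Hom.stalkSpecializes_stalkMap i z y hzy, CommRingCat.hom_comp, ← Ideal.comap_comap,
    IsLocalRing.maximalIdeal_comap]

theorem main {X Y : Scheme.{u}} [IsLocallyNoetherian X] (i : Y ⟶ X) [IsClosedImmersion i]
    (y : Y) (rs : List (X.presheaf.stalk (i y)))
    (hreg : RingTheory.Sequence.IsRegular (X.presheaf.stalk (i y)) rs)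
    (hker : RingHom.ker (i.stalkMap y).hom = Ideal.ofList rs) (z : Y) (hzy : z ⤳ y)
    (hmax : ∀ z' : Y, z' ⤳ z → z' = z) :
    ringKrullDim (X.presheaf.stalk (i z)) = rs.length := by
  have h : i z ⤳ i y := hzy.map i.continuous
  rw [ringKrullDim_stalk_eq_height h]
  have hmin : genPrime h ∈ (Ideal.ofList rs).minimalPrimes := by
    rw [← hker, RingHom.ker_eq_comap_bot, ← comap_stalkMap_genPrime i hzy h]
    exact Ideal.minimalPrimes_comap_of_surjective (i.stalkMap_surjective y)
      (genPrime_mem_minimalPrimes hzy hmax)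
  have halg := height_eq_length_of_mem_minimalPrimes rs hreg.1 _ hmin
  rw [halg]
  rfl

end Scheme

end Groth.Agent.RegCodim
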