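import Mathlib
import Groth.Agent.Lib.FibStalkIso_helper5

/-!
# `O_{X,x} → O_{X_s,y}` is surjective with kernel `m_s O_{X,x}` (helper5): S9501
APPEND-ONLY once landed.
-/

set_option autoImplicit false
universe u

namespace Groth.Agent.FibStalkKer

open AlgebraicGeometry CategoryTheory IsLocalRing
open Groth.Agent.FibStalkDimH8 FibRedH8 Groth.Agent.FibStalkIso

theorem stalkSpecializes_surjective (Z : Scheme.{u}) {a b : Z} (h : a ⤳ b) (h' : b ⤳ a) :
    Function.Surjective (Z.presheaf.stalkSpecializes h).hom := by
  intro c
  have hcomp : Z.presheaf.stalkSpecializes h' ≫ Z.presheaf.stalkSpecializes h = 𝟙 _ := by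
    rw [TopCat.Presheaf.stalkSpecializes_comp, TopCat.Presheaf.stalkSpecializes_refl]
  refine ⟨(Z.presheaf.stalkSpecializes h').hom c, ?_⟩
  have := congrArg (fun φ => φ.hom c) hcomp
  simpa using this

variable {X S : Scheme.{u}} (f : X ⟶ S)

theorem main_aux (x : X) :
    RingHom.ker ((f.fiberι (f x)).stalkMap (f.asFiber x)).hom =
      Ideal.map (f.stalkMap ((f.fiberι (f x)).base (f.asFiber x))).hom
        (maximalIdeal (S.presheaf.stalk (f.base ((f.fiberι (f x)).base (f.asFiber x))))) := by
  have hx : (f.fiberι (f.base x)).base (f.asFiber x) = x := f.fiberι_asFiber x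
  have h : (f.fiberι (f.base x)).base (f.asFiber x) ⤳ x := spec_ι f x
  have h' : x ⤳ (f.fiberι (f.base x)).base (f.asFiber x) := by rw [hx]
  have hsX := stalkSpecializes_surjective X h h'
  have hker := ker_toFib f x
  have h1 : RingHom.ker ((f.fiberι (f x)).stalkMap (f.asFiber x)).hom =
      (RingHom.ker (toFib f x).hom).map (X.presheaf.stalkSpecializes h).hom := by
    have h2 : RingHom.ker (toFib f x).hom =
        (RingHom.ker ((f.fiberι (f x)).stalkMap (f.asFiber x)).hom).comap
          (X.presheaf.stalkSpecializes h).hom := by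
      rw [RingHom.comap_ker]
      rfl
    rw [h2, Ideal.map_comap_of_surjective _ hsX]
  rw [h1, hker]
  show ((maximalIdeal (S.presheaf.stalk (f x))).map (f.stalkMap x).hom).map
    (X.presheaf.stalkSpecializes h).hom = _
  rw [Ideal.map_map]
  have hcomm := Scheme.Hom.stalkSpecializes_stalkMap f _ _ h
  have hcomm' : (X.presheaf.stalkSpecializes h).hom.comp (f.stalkMap x).hom =
      (f.stalkMap ((f.fiberι (f.base x)).base (f.asFiber x))).hom.comp
        (S.presheaf.stalkSpecializes (f.base.hom.map_specializes h)).hom := by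
    have := congrArg (fun φ => φ.hom) hcomm
    exact this.symm
  rw [hcomm', ← Ideal.map_map]
  congr 1
  exact IsLocalRing.map_maximalIdeal_of_surjective _
    (stalkSpecializes_surjective S (f.base.hom.map_specializes h)
      (f.base.hom.map_specializes h'))

theorem main9501 (s : S) (y : ↥(f.fiber s)) :
    Function.Surjective ((f.fiberι s).stalkMap y).hom ∧
      RingHom.ker ((f.fiberι s).stalkMap y).hom =
        Ideal.map (f.stalkMap ((f.fiberι s).base y)).hom
          (IsLocalRing.maximalIdeal (S.presheaf.stalk (f.base ((f.fiberι s).base y)))) := by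
  refine ⟨(f.fiberι s).stalkMap_surjective y, ?_⟩
  have key : ∀ (s : S) (y : ↥(f.fiber s)) (x : X), (f.fiberι s) y = x →
      RingHom.ker ((f.fiberι s).stalkMap y).hom =
        Ideal.map (f.stalkMap ((f.fiberι s).base y)).hom
          (IsLocalRing.maximalIdeal (S.presheaf.stalk (f.base ((f.fiberι s).base y)))) := by
    intro s y x hy
    have hs : f x = s := by
      rw [← hy]
      have := (f.fiberHomeo s y).2
      rw [Set.mem_preimage, Set.mem_singleton_iff, Scheme.Hom.fiberHomeo_apply] at this
      exact this
    subst hs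
    have hy' : y = f.asFiber x := by
      apply (f.fiberι (f x)).isEmbedding.injective
      rw [hy, Scheme.Hom.fiberι_asFiber]
    subst hy'
    exact main_aux f x
  exact key s y _ rfl

end Groth.Agent.FibStalkKer
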