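import Mathlib

/-!
# No embedded primes in a noetherian tensor product of fields (S2512)
-/

set_option autoImplicit false
open TensorProduct
universe u

namespace Groth.Agent.Lib.AssTensorFields

/-- Generic criterion: `D` a domain, `A` a noetherian `D`-algebra such that nonzero elements of `D`
are regular on `A` and every residue domain of `A` is algebraic over `D`.  Then `A` has no
embedded primes. -/
theorem assoc_subset_minimal {D A : Type*} [CommRing D] [IsDomain D] [CommRing A] [Algebra D A]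
    [IsNoetherianRing A]
    (h1 : ∀ d : D, d ≠ 0 → ∀ a : A, algebraMap D A d * a = 0 → a = 0)
    (h2 : ∀ (Q₀ : Ideal A), Q₀.IsPrime → ∀ a : A, IsAlgebraic D (Ideal.Quotient.mk Q₀ a)) :
    associatedPrimes A A ⊆ minimalPrimes A := by
  intro Q hQ
  obtain ⟨hQp, a, hQa⟩ := isAssociatedPrime_iff.mp hQ
  have ha : a ≠ 0 := by
    intro ha0
    apply hQp.ne_top
    rw [hQa, ha0]
    ext r
    simp [Submodule.mem_colon_singleton]
  have hQD : ∀ d : D, algebraMap D A d ∈ Q → d = 0 := by
    intro d hd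
    by_contra hd0
    apply ha
    apply h1 d hd0
    rw [hQa, Submodule.mem_colon_singleton, Submodule.mem_bot, smul_eq_mul] at hd
    exact hd
  obtain ⟨Q₀, hQ₀, hle⟩ := Ideal.exists_minimalPrimes_le (I := (⊥ : Ideal A)) (J := Q) bot_le
  have hQ₀p : Q₀.IsPrime := Ideal.minimalPrimes_isPrime hQ₀
  suffices h : Q ≤ Q₀ by
    have hQQ : Q = Q₀ := le_antisymm h hle
    rw [hQQ]; exact hQ₀
  intro q hq
  by_contra hq0
  have hx0 : (Ideal.Quotient.mk Q₀ q) ≠ 0 := by
    rwa [Ne, Ideal.Quotient.eq_zero_iff_mem]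
  have hxmem : Ideal.Quotient.mk Q₀ q ∈ Q.map (Ideal.Quotient.mk Q₀) :=
    Ideal.mem_map_of_mem _ hq
  have hne := Ideal.comap_ne_bot_of_algebraic_mem (R := D) hx0 hxmem (h2 Q₀ hQ₀p q)
  obtain ⟨d, hd, hd0⟩ := Submodule.exists_mem_ne_zero_of_ne_bot hne
  apply hd0
  apply hQD
  rw [Ideal.mem_comap] at hd
  have hrfl : algebraMap D (A ⧸ Q₀) d = Ideal.Quotient.mk Q₀ (algebraMap D A d) := rfl
  rw [hrfl, Ideal.mem_quotient_iff_mem hle] at hd
  exact hd

section tensor

variable {k K L : Type u} [Field k] [Field K] [Field L] [Algebra k K] [Algebra k L]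

section generic

variable (P : Type u) [CommRing P] [Algebra k P] [Algebra P K] [IsScalarTower k P K]

/-- The map `P ⊗ L → K ⊗ L`. -/
noncomputable def psi : (P ⊗[k] L) →ₐ[k] (K ⊗[k] L) :=
  Algebra.TensorProduct.map (IsScalarTower.toAlgHom k P K) (AlgHom.id k L)

@[simp] theorem psi_tmul (p : P) (l : L) :
    psi (k := k) (K := K) (L := L) P (p ⊗ₜ[k] l) = (algebraMap P K p) ⊗ₜ[k] l := by
  simp [psi]

theorem main_of_subalgebra [IsDomain P] [FaithfulSMul P K] [Algebra.IsAlgebraic P K]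
    [IsDomain (P ⊗[k] L)] [IsNoetherianRing (K ⊗[k] L)] :
    associatedPrimes (K ⊗[k] L) (K ⊗[k] L) ⊆ minimalPrimes (K ⊗[k] L) := by
  letI algDA : Algebra (P ⊗[k] L) (K ⊗[k] L) :=
    (psi (k := k) (K := K) (L := L) P).toRingHom.toAlgebra
  have halg : ∀ d : P ⊗[k] L, algebraMap (P ⊗[k] L) (K ⊗[k] L) d =
      psi (k := k) (K := K) (L := L) P d :=
    fun _ => rfl
  haveI tower : IsScalarTower P (P ⊗[k] L) (K ⊗[k] L) := by
    refine IsScalarTower.of_algebraMap_eq (R := P) (S := P ⊗[k] L) (A := K ⊗[k] L) ?_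
    intro p
    rw [halg, Algebra.TensorProduct.algebraMap_apply, Algebra.TensorProduct.algebraMap_apply,
        psi_tmul]
    rfl
  -- injectivity of `P → P ⊗ L`
  have hinj : Function.Injective (algebraMap P (P ⊗[k] L)) := by
    have h := Algebra.TensorProduct.includeLeft_injective (R := k) (S := P) (A := P) (B := L)
      (algebraMap k L).injective
    intro p q hpq
    apply h
    simpa [Algebra.TensorProduct.algebraMap_apply] using hpq
  -- flatness of `K` over `P`
  letI : Algebra (FractionRing P) K := FractionRing.liftAlgebra P K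
  haveI : IsScalarTower P (FractionRing P) K := FractionRing.isScalarTower_liftAlgebra P K
  haveI : Module.Flat P (FractionRing P) := IsLocalization.flat (FractionRing P) (nonZeroDivisors P)
  haveI : Module.Flat P K := Module.Flat.trans P (FractionRing P) K
  -- pushout
  have H : (algebraMap (P ⊗[k] L) (K ⊗[k] L)).comp
      (Algebra.TensorProduct.includeRight : L →ₐ[k] P ⊗[k] L).toRingHom =
      (Algebra.TensorProduct.includeRight : L →ₐ[k] K ⊗[k] L).toRingHom := by
    ext l
    change algebraMap (P ⊗[k] L) (K ⊗[k] L) ((1 : P) ⊗ₜ[k] l) = (1 : K) ⊗ₜ[k] l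
    rw [halg, psi_tmul, map_one]
  have hpo : Algebra.IsPushout P K (P ⊗[k] L) (K ⊗[k] L) :=
    Algebra.IsPushout.tensorProduct_tensorProduct k L P K H
  have hbc := hpo.symm.out
  haveI : Module.Flat (P ⊗[k] L) (K ⊗[k] L) :=
    Module.Flat.isBaseChange P (P ⊗[k] L) K (K ⊗[k] L) hbc
  refine assoc_subset_minimal (D := P ⊗[k] L) ?_ ?_
  · intro d hd a hda
    have hreg : IsSMulRegular (K ⊗[k] L) d :=
      Module.Flat.isSMulRegular_of_nonZeroDivisors (mem_nonZeroDivisors_of_ne_zero hd)
    apply hreg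
    change d • a = d • 0
    rw [smul_zero, Algebra.smul_def]
    exact hda
  · intro Q₀ hQ₀ a
    induction a using TensorProduct.induction_on with
    | zero => rw [map_zero]; exact isAlgebraic_zero
    | tmul κ l =>
      have e1 : (κ ⊗ₜ[k] l : K ⊗[k] L) =
          (κ ⊗ₜ[k] (1 : L)) * algebraMap (P ⊗[k] L) (K ⊗[k] L) ((1 : P) ⊗ₜ[k] l) := by
        rw [halg, psi_tmul, Algebra.TensorProduct.tmul_mul_tmul]
        simp
      rw [e1, map_mul]
      refine IsAlgebraic.mul ?_ ?_
      · have hκ : IsAlgebraic P κ := Algebra.IsAlgebraic.isAlgebraic κ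
        have h3 : IsAlgebraic P
            ((Algebra.TensorProduct.includeLeft : K →ₐ[P] K ⊗[k] L) κ) := hκ.algHom _
        have h4 : IsAlgebraic (P ⊗[k] L)
            ((Algebra.TensorProduct.includeLeft : K →ₐ[P] K ⊗[k] L) κ) :=
          h3.extendScalars hinj
        exact h4.algHom (Ideal.Quotient.mkₐ (P ⊗[k] L) Q₀)
      · exact isAlgebraic_algebraMap (R := P ⊗[k] L) (A := (K ⊗[k] L) ⧸ Q₀) ((1 : P) ⊗ₜ[k] l)
    | add x y hx hy => rw [map_add]; exact hx.add hy

end generic

theorem main [IsNoetherianRing (K ⊗[k] L)] :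
    associatedPrimes (K ⊗[k] L) (K ⊗[k] L) ⊆ minimalPrimes (K ⊗[k] L) := by
  haveI : FaithfulSMul k K :=
    (faithfulSMul_iff_algebraMap_injective k K).mpr (algebraMap k K).injective
  obtain ⟨ι, x, hx⟩ := exists_isTranscendenceBasis' k K
  haveI : Algebra.IsAlgebraic (Algebra.adjoin k (Set.range x)) K := hx.isAlgebraic
  let e1 : (Algebra.adjoin k (Set.range x)) ⊗[k] L ≃ₐ[k] MvPolynomial ι k ⊗[k] L :=
    Algebra.TensorProduct.congr hx.1.aevalEquiv.symm AlgEquiv.refl
  let e2 := Algebra.TensorProduct.comm k (MvPolynomial ι k) L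
  let e3 := MvPolynomial.algebraTensorAlgEquiv (σ := ι) k L
  let e : (Algebra.adjoin k (Set.range x)) ⊗[k] L ≃+* MvPolynomial ι L :=
    (e1.toRingEquiv.trans e2.toRingEquiv).trans e3.toRingEquiv
  haveI : IsDomain ((Algebra.adjoin k (Set.range x)) ⊗[k] L) :=
    MulEquiv.isDomain (MvPolynomial ι L) e.toMulEquiv
  exact main_of_subalgebra (k := k) (K := K) (L := L) (Algebra.adjoin k (Set.range x))

end tensor

end Groth.Agent.Lib.AssTensorFields
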