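import Mathlib

/-!
# Relative associated primes in elementary terms, part 1 (helper2)

For a ring map `A → B`, a `B`-module `M` and a prime `q` of `B` over `p`, the condition
"`𝔪_q ∈ Ass(M_q / p M_q)`" (`MoreMor.relAss` in chart form) is expressed without localizations
(`RelAssElem`), together with the kernel of `M → κ(p) ⊗ M` (`fibKer`) and regularity of an element
of `B` on `κ(p) ⊗ M` (`FibReg`).
APPEND-ONLY once landed.
-/

set_option autoImplicit false
set_option maxHeartbeats 800000
universe u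

namespace Groth.Agent.Lib.RelAssAlg

section LocMem

variable {R : Type*} [CommRing R] (S : Submonoid R) {R' : Type*} [CommRing R'] [Algebra R R']
  [IsLocalization S R'] {M : Type*} [AddCommGroup M] [Module R M] {N : Type*} [AddCommGroup N]
  [Module R N] [Module R' N] [IsScalarTower R R' N] (g : M →ₗ[R] N) [IsLocalizedModule S g]
  (I : Ideal R)

include S in
theorem exists_of_mem_map_smul_top (y : N)
    (hy : y ∈ (I.map (algebraMap R R')) • (⊤ : Submodule R' N)) :
    ∃ s ∈ S, ∃ m ∈ I • (⊤ : Submodule R M), s • y = g m := by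
  refine Submodule.smul_induction_on
    (p := fun y => ∃ s ∈ S, ∃ m ∈ I • (⊤ : Submodule R M), s • y = g m) hy ?_ ?_
  · intro r hr n _
    obtain ⟨⟨i, s₁⟩, h1⟩ := (IsLocalization.mem_map_algebraMap_iff S R').mp hr
    obtain ⟨⟨m₁, s₂⟩, h2⟩ := IsLocalizedModule.surj S g n
    refine ⟨(s₁ : R) * (s₂ : R), S.mul_mem s₁.2 s₂.2, (i : R) • m₁,
      Submodule.smul_mem_smul i.2 trivial, ?_⟩
    have h2' : (s₂ : R) • n = g m₁ := h2
    have h1' : r * algebraMap R R' (s₁ : R) = algebraMap R R' (i : R) := h1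
    calc ((s₁ : R) * (s₂ : R)) • (r • n)
        = (r * algebraMap R R' (s₁ : R)) • ((s₂ : R) • n) := by
          rw [← algebraMap_smul R' ((s₁ : R) * (s₂ : R)) (r • n), ← algebraMap_smul R' (s₂ : R) n,
            smul_smul, smul_smul, map_mul]
          congr 1
          ring
      _ = algebraMap R R' (i : R) • g m₁ := by rw [h1', h2']
      _ = g ((i : R) • m₁) := by rw [algebraMap_smul, map_smul]
  · intro x y ihx ihy
    obtain ⟨s₁, hs₁, m₁, hm₁, e₁⟩ := ihx
    obtain ⟨s₂, hs₂, m₂, hm₂, e₂⟩ := ihy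
    refine ⟨s₁ * s₂, S.mul_mem hs₁ hs₂, s₂ • m₁ + s₁ • m₂,
      Submodule.add_mem _ (Submodule.smul_mem _ _ hm₁) (Submodule.smul_mem _ _ hm₂), ?_⟩
    rw [smul_add, map_add, map_smul, map_smul, ← e₁, ← e₂, smul_smul, smul_smul, mul_comm s₂ s₁]

theorem map_mem_of_mem_smul_top (x : M) (hx : x ∈ I • (⊤ : Submodule R M)) :
    g x ∈ (I.map (algebraMap R R')) • (⊤ : Submodule R' N) := by
  refine Submodule.smul_induction_on
    (p := fun x => g x ∈ (I.map (algebraMap R R')) • (⊤ : Submodule R' N)) hx ?_ ?_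
  · intro i hi m _
    rw [map_smul, ← algebraMap_smul R' i (g m)]
    exact Submodule.smul_mem_smul (Ideal.mem_map_of_mem _ hi) trivial
  · intro x y ihx ihy
    rw [map_add]
    exact Submodule.add_mem _ ihx ihy

include S in
theorem mem_of_unit_smul_mem (P : Submodule R' N) (s : R) (hs : s ∈ S) (y : N)
    (h : s • y ∈ P) : y ∈ P := by
  obtain ⟨u, hu⟩ := IsLocalization.map_units R' (⟨s, hs⟩ : S)
  have h' : (u : R') • y ∈ P := by
    rw [hu, algebraMap_smul]
    exact h
  have := P.smul_mem (↑u⁻¹ : R') h'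
  rwa [smul_smul, Units.inv_mul, one_smul] at this

/-- `g m ∈ (I R') N ↔ ∃ s ∈ S, s m ∈ I M` for a localization `g : M → N`. -/
theorem map_mem_map_smul_top_iff (m : M) :
    g m ∈ (I.map (algebraMap R R')) • (⊤ : Submodule R' N) ↔
      ∃ s ∈ S, s • m ∈ I • (⊤ : Submodule R M) := by
  constructor
  · intro h
    obtain ⟨s, hs, m', hm', e⟩ := exists_of_mem_map_smul_top S g I _ h
    have h0 : g (s • m - m') = 0 := by rw [map_sub, map_smul, e, sub_self]
    obtain ⟨c, hc⟩ := (IsLocalizedModule.eq_zero_iff S g).mp h0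
    refine ⟨(c : R) * s, S.mul_mem c.2 hs, ?_⟩
    have hc' : (c : R) • (s • m - m') = 0 := hc
    rw [smul_sub, sub_eq_zero] at hc'
    rw [mul_smul, hc']
    exact Submodule.smul_mem _ _ hm'
  · rintro ⟨s, hs, h⟩
    have h1 := map_mem_of_mem_smul_top (R' := R') g I _ h
    rw [map_smul] at h1
    exact mem_of_unit_smul_mem S _ s hs _ h1

end LocMem

variable (A : Type u) {B M : Type u} [CommRing A] [CommRing B] [Algebra A B] [AddCommGroup M]
  [Module B M] [Module A M] [IsScalarTower A B M]

/-- `p M` is stable under the action of `B`. -/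
theorem smul_mem_pM (p : Ideal A) (b : B) {m : M} (hm : m ∈ p • (⊤ : Submodule A M)) :
    b • m ∈ p • (⊤ : Submodule A M) := by
  refine Submodule.smul_induction_on
    (p := fun m => b • m ∈ p • (⊤ : Submodule A M)) hm ?_ ?_
  · intro a ha m₁ _
    rw [smul_comm]
    exact Submodule.smul_mem_smul ha trivial
  · intro x y ihx ihy
    rw [smul_add]
    exact Submodule.add_mem _ ihx ihy

/-- `(p B) M = p M` as sets. -/
theorem mem_map_smul_top_iff (p : Ideal A) (m : M) :
    m ∈ (p.map (algebraMap A B)) • (⊤ : Submodule B M) ↔ m ∈ p • (⊤ : Submodule A M) := by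
  constructor
  · intro h
    refine Submodule.smul_induction_on
      (p := fun m => m ∈ p • (⊤ : Submodule A M)) h ?_ ?_
    · intro b hb m₁ _
      have key : ∀ b ∈ Ideal.span ((algebraMap A B) '' (p : Set A)), ∀ m₁ : M,
          b • m₁ ∈ p • (⊤ : Submodule A M) := by
        intro b hb'
        induction hb' using Submodule.span_induction with
        | mem x hx =>
          obtain ⟨a, ha, rfl⟩ := hx
          intro m₁
          rw [algebraMap_smul]
          exact Submodule.smul_mem_smul ha trivial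
        | zero => intro m₁; rw [zero_smul]; exact Submodule.zero_mem _
        | add x y _ _ ihx ihy =>
          intro m₁
          rw [add_smul]
          exact Submodule.add_mem _ (ihx m₁) (ihy m₁)
        | smul c x _ ihx =>
          intro m₁
          rw [smul_eq_mul, mul_smul]
          exact smul_mem_pM A p c (ihx m₁)
      exact key b hb m₁
    · intro x y ihx ihy
      exact Submodule.add_mem _ ihx ihy
  · intro h
    refine Submodule.smul_induction_on
      (p := fun m => m ∈ (p.map (algebraMap A B)) • (⊤ : Submodule B M)) h ?_ ?_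
    · intro a ha m₁ _
      rw [← algebraMap_smul B a m₁]
      exact Submodule.smul_mem_smul (Ideal.mem_map_of_mem _ ha) trivial
    · intro x y ihx ihy
      exact Submodule.add_mem _ ihx ihy

variable (M) in
/-- The kernel of `M → κ(p) ⊗_A M`, in elementary terms. -/
def fibKer (p : Ideal A) : Set M :=
  {m | ∃ α : A, α ∉ p ∧ α • m ∈ p • (⊤ : Submodule A M)}

theorem smul_mem_fibKer (p : Ideal A) (b : B) {m : M} (hm : m ∈ fibKer A M p) :
    b • m ∈ fibKer A M p := by
  obtain ⟨α, hα, h⟩ := hm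
  refine ⟨α, hα, ?_⟩
  rw [smul_comm]
  exact smul_mem_pM A p b h

theorem mem_fibKer_of_mem_pM (p : Ideal A) [p.IsPrime] {m : M}
    (hm : m ∈ p • (⊤ : Submodule A M)) : m ∈ fibKer A M p :=
  ⟨1, fun h => (Ideal.IsPrime.ne_top ‹_›) ((Ideal.eq_top_iff_one p).mpr h), by rwa [one_smul]⟩

variable (M) in
/-- `h ∈ B` acts injectively on `κ(p) ⊗_A M`, in elementary terms. -/
def FibReg (p : Ideal A) (h : B) : Prop :=
  ∀ m : M, h • m ∈ fibKer A M p → m ∈ fibKer A M p

theorem FibReg.pow {p : Ideal A} {h : B} (hreg : FibReg A M p h) (k : ℕ) (m : M)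
    (hm : h ^ k • m ∈ fibKer A M p) : m ∈ fibKer A M p := by
  induction k with
  | zero => simpa using hm
  | succ k ih =>
    apply ih
    apply hreg
    rwa [smul_smul, ← pow_succ']

variable (M) in
/-- `𝔪_q ∈ Ass (M_q / p M_q)` (`p = q ∩ A`), in elementary terms. -/
def RelAssElem (q : Ideal B) : Prop :=
  ∃ m₀ : M, (∀ t : B, t ∉ q → t • m₀ ∉ (q.comap (algebraMap A B)) • (⊤ : Submodule A M)) ∧
    ∀ b ∈ q, ∃ (k : ℕ) (t : B), t ∉ q ∧
      t • b ^ k • m₀ ∈ (q.comap (algebraMap A B)) • (⊤ : Submodule A M)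

/-- An element acting injectively on the fibre avoids the relative associated primes. -/
theorem not_mem_of_relAssElem (q : Ideal B) [q.IsPrime] (h : B)
    (hreg : FibReg A M (q.comap (algebraMap A B)) h) (hq : RelAssElem A M q) : h ∉ q := by
  intro hh
  obtain ⟨m₀, h1, h2⟩ := hq
  obtain ⟨k, t, ht, hk⟩ := h2 h hh
  have h3 : h ^ k • (t • m₀) ∈ fibKer A M (q.comap (algebraMap A B)) := by
    apply mem_fibKer_of_mem_pM
    rwa [smul_comm]
  obtain ⟨α, hα, h4⟩ := hreg.pow A k _ h3
  refine h1 (algebraMap A B α * t) ?_ ?_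
  · intro hmem
    rcases Ideal.IsPrime.mem_or_mem ‹q.IsPrime› hmem with h5 | h5
    · exact hα h5
    · exact ht h5
  · rw [mul_smul, algebraMap_smul]
    exact h4

section Translate

variable (q : Ideal B) [q.IsPrime] (Rq : Type*) [CommRing Rq] [Algebra B Rq]
  [IsLocalization.AtPrime Rq q] [IsLocalRing Rq] (N : Type*) [AddCommGroup N] [Module Rq N]
  [Module B N] [IsScalarTower B Rq N] (g : M →ₗ[B] N) [IsLocalizedModule q.primeCompl g]
  (I : Ideal Rq)

include g in
/-- Translation between the localized form of the relative assassin condition and the elementary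
one. -/
theorem isAssociatedPrime_iff_relAssElem
    (hI : I = ((q.comap (algebraMap A B)).map (algebraMap A B)).map (algebraMap B Rq)) :
    IsAssociatedPrime (IsLocalRing.maximalIdeal Rq) (N ⧸ I • (⊤ : Submodule Rq N)) ↔
      RelAssElem A M q := by
  subst hI
  set p : Ideal A := q.comap (algebraMap A B) with hp
  set IB : Ideal B := p.map (algebraMap A B) with hIB
  have hloc : ∀ m : M, g m ∈ (IB.map (algebraMap B Rq)) • (⊤ : Submodule Rq N) ↔
      ∃ s ∈ q.primeCompl, s • m ∈ p • (⊤ : Submodule A M) := by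
    intro m
    rw [map_mem_map_smul_top_iff q.primeCompl g IB m]
    constructor
    · rintro ⟨s, hs, h⟩
      exact ⟨s, hs, (mem_map_smul_top_iff A p _).mp h⟩
    · rintro ⟨s, hs, h⟩
      exact ⟨s, hs, (mem_map_smul_top_iff A p _).mpr h⟩
  constructor
  · rintro ⟨_, ξ, hξ⟩
    obtain ⟨μ, rfl⟩ := Submodule.Quotient.mk_surjective _ ξ
    obtain ⟨⟨m₀, s⟩, hs⟩ := IsLocalizedModule.surj q.primeCompl g μ
    have hs' : (s : B) • μ = g m₀ := hs
    have factE : ∀ r : Rq, r • (Submodule.Quotient.mk μ :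
        N ⧸ (IB.map (algebraMap B Rq)) • (⊤ : Submodule Rq N)) = 0 ↔
        r • g m₀ ∈ (IB.map (algebraMap B Rq)) • (⊤ : Submodule Rq N) := by
      intro r
      rw [← Submodule.Quotient.mk_smul, Submodule.Quotient.mk_eq_zero, ← hs', smul_comm]
      constructor
      · intro h
        exact Submodule.smul_of_tower_mem _ _ h
      · intro h
        exact mem_of_unit_smul_mem q.primeCompl _ (s : B) s.2 _ h
    refine ⟨m₀, ?_, ?_⟩
    · intro t ht hmem
      have h1 : g m₀ ∈ (IB.map (algebraMap B Rq)) • (⊤ : Submodule Rq N) :=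
        (hloc m₀).mpr ⟨t, ht, hmem⟩
      have h2 : (1 : Rq) ∈ (⊥ : Submodule Rq
          (N ⧸ (IB.map (algebraMap B Rq)) • (⊤ : Submodule Rq N))).colon
            {Submodule.Quotient.mk μ} := by
        rw [Submodule.mem_colon_singleton, Submodule.mem_bot, factE, one_smul]
        exact h1
      have h3 : (1 : Rq) ∈ IsLocalRing.maximalIdeal Rq := by
        rw [hξ]
        exact Ideal.le_radical h2
      exact (Ideal.ne_top_iff_one _).mp (IsLocalRing.maximalIdeal.isMaximal Rq).ne_top h3
    · intro b hb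
      have h1 : algebraMap B Rq b ∈ IsLocalRing.maximalIdeal Rq :=
        (IsLocalization.AtPrime.to_map_mem_maximal_iff Rq q b).mpr hb
      rw [hξ] at h1
      obtain ⟨k, hk⟩ := h1
      rw [Submodule.mem_colon_singleton, Submodule.mem_bot, factE, ← map_pow,
        algebraMap_smul, ← map_smul] at hk
      obtain ⟨t, ht, h2⟩ := (hloc _).mp hk
      exact ⟨k, t, ht, h2⟩
  · rintro ⟨m₀, h1, h2⟩
    refine ⟨(IsLocalRing.maximalIdeal.isMaximal Rq).isPrime, Submodule.Quotient.mk (g m₀), ?_⟩
    have factE : ∀ r : Rq, r • (Submodule.Quotient.mk (g m₀) :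
        N ⧸ (IB.map (algebraMap B Rq)) • (⊤ : Submodule Rq N)) = 0 ↔
        r • g m₀ ∈ (IB.map (algebraMap B Rq)) • (⊤ : Submodule Rq N) := by
      intro r
      rw [← Submodule.Quotient.mk_smul, Submodule.Quotient.mk_eq_zero]
    apply le_antisymm
    · intro r hr
      obtain ⟨⟨b, s⟩, hbs⟩ := IsLocalization.surj q.primeCompl r
      have hbs' : r * algebraMap B Rq (s : B) = algebraMap B Rq b := hbs
      have hb : b ∈ q := by
        rw [← IsLocalization.AtPrime.to_map_mem_maximal_iff Rq q b, ← hbs']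
        exact Ideal.mul_mem_right _ _ hr
      obtain ⟨k, t, ht, hk⟩ := h2 b hb
      have h3 : g (b ^ k • m₀) ∈ (IB.map (algebraMap B Rq)) • (⊤ : Submodule Rq N) :=
        (hloc _).mpr ⟨t, ht, hk⟩
      refine ⟨k, ?_⟩
      rw [Submodule.mem_colon_singleton, Submodule.mem_bot, factE]
      -- `r ^ k • g m₀` is a unit multiple of `g (b ^ k • m₀)`
      have h4 : ((s : B) ^ k) • (r ^ k • g m₀) = g (b ^ k • m₀) := by
        rw [← algebraMap_smul Rq ((s : B) ^ k) (r ^ k • g m₀), smul_smul, map_pow, ← mul_pow,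
          mul_comm, hbs', ← map_pow, algebraMap_smul, map_smul]
      refine mem_of_unit_smul_mem q.primeCompl _ ((s : B) ^ k) (pow_mem s.2 k) _ ?_
      rw [h4]
      exact h3
    · have hne : (⊥ : Submodule Rq (N ⧸ (IB.map (algebraMap B Rq)) •
          (⊤ : Submodule Rq N))).colon {Submodule.Quotient.mk (g m₀)} ≠ ⊤ := by
        intro htop
        have h3 : (1 : Rq) ∈ (⊥ : Submodule Rq (N ⧸ (IB.map (algebraMap B Rq)) •
            (⊤ : Submodule Rq N))).colon {Submodule.Quotient.mk (g m₀)} := by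
          rw [htop]; trivial
        rw [Submodule.mem_colon_singleton, Submodule.mem_bot, factE, one_smul] at h3
        obtain ⟨t, ht, h4⟩ := (hloc _).mp h3
        exact h1 t ht h4
      calc ((⊥ : Submodule Rq (N ⧸ (IB.map (algebraMap B Rq)) •
            (⊤ : Submodule Rq N))).colon {Submodule.Quotient.mk (g m₀)}).radical
          ≤ (IsLocalRing.maximalIdeal Rq).radical :=
            Ideal.radical_mono (IsLocalRing.le_maximalIdeal hne)
        _ = IsLocalRing.maximalIdeal Rq :=
            (IsLocalRing.maximalIdeal.isMaximal Rq).isPrime.radical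

end Translate

end Groth.Agent.Lib.RelAssAlg
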