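import Mathlib
import Groth.Agent.Lib.LocalCrit9_helper9

/-!
# Schematic density from the fibres, module version: algebra (helper2)

* `exists_smulRegular_mem`: over a Noetherian ring, an ideal with zero annihilator on a finite
  module contains an element regular on the module.
* `mem_smul_top_of_isBaseChange_eq_zero`: kernel of a base change along a surjection.
* `exists_smul_eq_zero_of_isPushout`: the key chart computation for EGA IV 11.10.10 (modules).
APPEND-ONLY once landed.
-/

set_option autoImplicit false
set_option maxHeartbeats 1000000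
open TensorProduct
universe u

namespace Groth.Agent.Lib.SchDenseFib

section AlgMod

/-- over a Noetherian ring, an ideal with zero annihilator on a finite module contains an element
regular on the module -/
theorem exists_smulRegular_mem {R N : Type u} [CommRing R] [IsNoetherianRing R] [AddCommGroup N]
    [Module R N] [Module.Finite R N] (I : Ideal R)
    (h : ∀ c : N, (∀ j ∈ I, j • c = 0) → c = 0) : ∃ a ∈ I, IsSMulRegular N a := by
  have key : ∀ φ : (R ⧸ I) →ₗ[R] N, φ = 0 := by
    intro φ
    have h1 : φ (Submodule.Quotient.mk 1) = 0 := by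
      apply h
      intro j hj
      rw [← map_smul, ← Submodule.Quotient.mk_smul, smul_eq_mul, mul_one,
        (Submodule.Quotient.mk_eq_zero I).mpr hj, map_zero]
    apply LinearMap.ext
    intro z
    obtain ⟨r, rfl⟩ := Submodule.Quotient.mk_surjective I z
    have h2 : (Submodule.Quotient.mk r : R ⧸ I) = r • Submodule.Quotient.mk 1 := by
      rw [← Submodule.Quotient.mk_smul, smul_eq_mul, mul_one]
    rw [h2, map_smul, h1, smul_zero, LinearMap.zero_apply]
  have hsub : Subsingleton ((R ⧸ I) →ₗ[R] N) := ⟨fun φ ψ => by rw [key φ, key ψ]⟩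
  obtain ⟨r, hr, hreg⟩ :=
    (IsSMulRegular.subsingleton_linearMap_iff (R := R) (M := N) (N := R ⧸ I)).mp hsub
  refine ⟨r, ?_, hreg⟩
  rw [Ideal.annihilator_quotient] at hr
  exact hr

/-- the kernel of a base change along a surjective ring map is `ker • ⊤` -/
theorem mem_smul_top_of_isBaseChange_eq_zero {R R' M M' : Type u} [CommRing R] [CommRing R']
    [Algebra R R'] [AddCommGroup M] [Module R M] [AddCommGroup M'] [Module R M'] [Module R' M']
    [IsScalarTower R R' M'] (c : M →ₗ[R] M') (hc : IsBaseChange R' c)
    (hsurj : Function.Surjective (algebraMap R R')) (m : M) (hm : c m = 0) :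
    m ∈ (RingHom.ker (algebraMap R R')) • (⊤ : Submodule R M) := by
  obtain ⟨J, hJ⟩ : ∃ J : Ideal R, J = RingHom.ker (algebraMap R R') := ⟨_, rfl⟩
  rw [← hJ]
  let E : R ⧸ RingHom.ker (algebraMap R R') ≃+* R' := RingHom.quotientKerEquivOfSurjective hsurj
  have hE : ∀ r : R, E.symm (algebraMap R R' r) = Ideal.Quotient.mk _ r := by
    intro r
    rw [RingEquiv.symm_apply_eq]
    rfl
  subst hJ
  letI modQ : Module R' (M ⧸ (RingHom.ker (algebraMap R R')) • (⊤ : Submodule R M)) :=
    Module.compHom _ (E.symm : R' →+* R ⧸ RingHom.ker (algebraMap R R'))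
  haveI : IsScalarTower R R' (M ⧸ (RingHom.ker (algebraMap R R')) • (⊤ : Submodule R M)) := by
    refine IsScalarTower.of_algebraMap_smul fun r z => ?_
    show E.symm (algebraMap R R' r) • z = r • z
    rw [hE]
    obtain ⟨m, rfl⟩ := Submodule.Quotient.mk_surjective _ z
    rfl
  have h2 := hc.lift_eq ((RingHom.ker (algebraMap R R')) • (⊤ : Submodule R M)).mkQ m
  rw [hm, map_zero] at h2
  exact (Submodule.Quotient.mk_eq_zero _).mp h2.symm

theorem rTensor_injective_of_flat_coker {A : Type u} [CommRing A] {L : Type u} [AddCommGroup L]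
    [Module A L] (u : L →ₗ[A] L) (hu : Function.Injective u)
    [Module.Flat A (L ⧸ LinearMap.range u)] (A' : Type u) [AddCommGroup A'] [Module A A'] :
    Function.Injective (u.rTensor A') :=
  (LinearMap.lTensor_inj_iff_rTensor_inj _ _).mp
    (Groth.Agent.Lib.LocalCrit9.lTensor_injective_of_flat_coker u hu A')

/-- flatness of the quotient by the range of a homothety does not depend on the ring over which
the range is taken -/
theorem flat_quot_range_restrictScalars {A O L : Type u} [CommRing A] [CommRing O] [Algebra A O]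
    [AddCommGroup L] [Module O L] [Module A L] [IsScalarTower A O L] (h : O)
    (hfl : Module.Flat A (L ⧸ LinearMap.range (LinearMap.lsmul O L h))) :
    Module.Flat A (L ⧸ LinearMap.range ((LinearMap.lsmul O L h).restrictScalars A)) := by
  have hrange : LinearMap.range ((LinearMap.lsmul O L h).restrictScalars A) =
      (LinearMap.range (LinearMap.lsmul O L h)).restrictScalars A := by
    ext y
    exact Iff.rfl
  have key : ∀ T : Submodule A L,
      T = (LinearMap.range (LinearMap.lsmul O L h)).restrictScalars A →
      Module.Flat A (L ⧸ T) := by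
    rintro _ rfl
    exact Module.Flat.of_linearEquiv
      (Submodule.Quotient.restrictScalarsEquiv A (LinearMap.range (LinearMap.lsmul O L h)))
  exact key _ hrange

/-- **The chart computation.** `B' = A' ⊗_A B`, `M' = B' ⊗_B M`, `L` a localization of `M` at a
multiplicative set `p` of `B`. If multiplication by `a ∈ B` is injective on `L ⊗_A A'`, then
every element of `M'` killed by `a` is killed by an element of `p`. -/
theorem exists_smul_eq_zero_of_isPushout
    {A B A' B' : Type u} [CommRing A] [CommRing B] [CommRing A'] [CommRing B']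
    [Algebra A B] [Algebra A A'] [Algebra A B'] [Algebra B B'] [Algebra A' B']
    [IsScalarTower A B B'] [IsScalarTower A A' B'] [Algebra.IsPushout A A' B B']
    {M L M' : Type u} [AddCommGroup M] [Module B M] [Module A M] [IsScalarTower A B M]
    [AddCommGroup L] [Module B L] [Module A L] [IsScalarTower A B L]
    [AddCommGroup M'] [Module B' M'] [Module B M'] [IsScalarTower B B' M']
    (c : M →ₗ[B] M') (hc : IsBaseChange B' c)
    (p : Submonoid B) (ℓ : M →ₗ[B] L) [IsLocalizedModule p ℓ]
    (a : B)
    (hinj : Function.Injective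
      (LinearMap.rTensor A' ((LinearMap.lsmul B L a).restrictScalars A)))
    (n' : M') (hn' : algebraMap B B' a • n' = 0) : ∃ b ∈ p, algebraMap B B' b • n' = 0 := by
  classical
  -- the comparison map
  let e1 := TensorProduct.comm A M A'
  let e2 := (Algebra.IsPushout.cancelBaseChange A A' B B' M).symm
  let e3 := hc.equiv
  let Φ : M ⊗[A] A' → M' := fun ξ => e3 (e2 (e1 ξ))
  have hΦadd : ∀ ξ η, Φ (ξ + η) = Φ ξ + Φ η := by
    intro ξ η
    show e3 (e2 (e1 (ξ + η))) = e3 (e2 (e1 ξ)) + e3 (e2 (e1 η))
    rw [map_add, map_add, map_add]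
  have hΦzero : Φ 0 = 0 := by
    show e3 (e2 (e1 0)) = 0
    rw [map_zero, map_zero, map_zero]
  have hΦtmul : ∀ (m : M) (s : A'), Φ (m ⊗ₜ s) = algebraMap A' B' s • c m := by
    intro m s
    show e3 (e2 (e1 (m ⊗ₜ s))) = _
    rw [TensorProduct.comm_tmul, Algebra.IsPushout.cancelBaseChange_symm_tmul,
      IsBaseChange.equiv_tmul]
  have hΦinj : Function.Injective Φ :=
    e3.injective.comp (e2.injective.comp e1.injective)
  have hΦsurj : Function.Surjective Φ :=
    e3.surjective.comp (e2.surjective.comp e1.surjective)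
  have hΦsmul : ∀ (b : B) (ξ : M ⊗[A] A'), Φ (b • ξ) = algebraMap B B' b • Φ ξ := by
    intro b ξ
    induction ξ using TensorProduct.induction_on with
    | zero => rw [smul_zero, hΦzero, smul_zero]
    | tmul m s =>
      rw [TensorProduct.smul_tmul', hΦtmul, hΦtmul, map_smul, ← algebraMap_smul B' b (c m),
        smul_smul, smul_smul, mul_comm]
    | add ξ η hξ hη => rw [smul_add, hΦadd, hΦadd, hξ, hη, smul_add]
  obtain ⟨ξ, rfl⟩ := hΦsurj n'
  have h1 : a • ξ = 0 := hΦinj (by rw [hΦsmul, hn', hΦzero])
  -- push to `L ⊗ A'`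
  have h2 : a • (TensorProduct.AlgebraTensorModule.rTensor A A' ℓ) ξ = 0 := by
    rw [← map_smul, h1, map_zero]
  have h3 : ∀ ζ : L ⊗[A] A',
      LinearMap.rTensor A' ((LinearMap.lsmul B L a).restrictScalars A) ζ = a • ζ := by
    intro ζ
    induction ζ using TensorProduct.induction_on with
    | zero => rw [map_zero, smul_zero]
    | tmul l s =>
      rw [LinearMap.rTensor_tmul, TensorProduct.smul_tmul']
      rfl
    | add ζ η hζ hη => rw [map_add, hζ, hη, smul_add]
  have h4 : (TensorProduct.AlgebraTensorModule.rTensor A A' ℓ) ξ = 0 :=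
    hinj (by rw [h3, h2, map_zero])
  obtain ⟨b, hb⟩ := (IsLocalizedModule.eq_zero_iff p
    (TensorProduct.AlgebraTensorModule.rTensor A A' ℓ)).mp h4
  refine ⟨b.1, b.2, ?_⟩
  rw [← hΦsmul]
  have hb' : (b : B) • ξ = 0 := hb
  rw [hb', hΦzero]

end AlgMod

end Groth.Agent.Lib.SchDenseFib
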