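import Mathlib
import Groth.Agent.Lib.RelAssAlg1_helper2
import Groth.Agent.Lib.SchDenseFib3_helper2

/-!
# Relative associated primes in elementary terms, part 3: the fibre over a prime (helper2)

For a prime `p` of `A`: the fibre ring `B ⊗_A κ(p)` and the fibre module `(B ⊗_A κ(p)) ⊗_B M`.
Associated primes of the fibre module give relative associated primes (`RelAssElem`), and if an
ideal `J` of `B` is contained in no relative associated prime over `n` then `J` contains an
element acting injectively on the fibre over `n`.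
APPEND-ONLY once landed.
-/

set_option autoImplicit false
set_option maxHeartbeats 800000
universe u

open TensorProduct

namespace Groth.Agent.Lib.RelAssAlg

variable (A : Type u) {B M : Type u} [CommRing A] [CommRing B] [Algebra A B] [AddCommGroup M]
  [Module B M] [Module A M] [IsScalarTower A B M] (p : Ideal A) [p.IsPrime]

/-- every element of the residue field is a fraction of elements of `A`. -/
theorem exists_residueField_eq (c : p.ResidueField) :
    ∃ s : A, s ∉ p ∧ ∃ a : A, algebraMap A p.ResidueField s * c = algebraMap A p.ResidueField a := by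
  obtain ⟨x, rfl⟩ := IsLocalRing.residue_surjective c
  obtain ⟨⟨a, s⟩, hs⟩ := IsLocalization.surj p.primeCompl x
  refine ⟨s, s.2, a, ?_⟩
  rw [IsScalarTower.algebraMap_apply A (Localization.AtPrime p) p.ResidueField,
    IsScalarTower.algebraMap_apply A (Localization.AtPrime p) p.ResidueField,
    IsLocalRing.ResidueField.algebraMap_eq, ← map_mul, mul_comm]
  exact congrArg _ hs

/-- **Kernel of `M → κ(p) ⊗ M`.** -/
theorem mem_fibKer_of_tmul_eq_zero (m : M) (h : (1 : p.ResidueField) ⊗ₜ[A] m = 0) :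
    m ∈ fibKer A M p := by
  set Ap := Localization.AtPrime p with hAp
  -- step 1: cancel the base change
  have h1 : (1 : p.ResidueField) ⊗ₜ[Ap] ((1 : Ap) ⊗ₜ[A] m) = 0 := by
    apply (TensorProduct.AlgebraTensorModule.cancelBaseChange A Ap Ap p.ResidueField M).injective
    rw [TensorProduct.AlgebraTensorModule.cancelBaseChange_tmul, one_smul, map_zero]
    exact h
  -- step 2: quotient
  have h2 : ((1 : Ap) ⊗ₜ[A] m) ∈
      (IsLocalRing.maximalIdeal Ap) • (⊤ : Submodule Ap (Ap ⊗[A] M)) := by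
    have h1' : (Ideal.Quotient.mk (IsLocalRing.maximalIdeal Ap) (1 : Ap)) ⊗ₜ[Ap]
        ((1 : Ap) ⊗ₜ[A] m) = 0 := h1
    have := congrArg (TensorProduct.quotTensorEquivQuotSMul (Ap ⊗[A] M)
      (IsLocalRing.maximalIdeal Ap)) h1'
    rw [TensorProduct.quotTensorEquivQuotSMul_mk_tmul, map_zero, one_smul,
      Submodule.Quotient.mk_eq_zero] at this
    exact this
  -- step 3: localization
  haveI : IsLocalizedModule p.primeCompl (TensorProduct.mk A Ap M 1) :=
    (isLocalizedModule_iff_isBaseChange p.primeCompl Ap _).mpr (TensorProduct.isBaseChange A M Ap)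
  rw [← Localization.AtPrime.map_eq_maximalIdeal] at h2
  obtain ⟨s, hs, h4⟩ := (map_mem_map_smul_top_iff p.primeCompl (TensorProduct.mk A Ap M 1) p m).mp h2
  exact ⟨s, hs, h4⟩

section Fibre

/-- `algebraMap A (B ⊗ κ(p))` through `κ(p)`. -/
theorem algebraMap_fibre_eq (a : A) :
    algebraMap A (B ⊗[A] p.ResidueField) a =
      (1 : B) ⊗ₜ[A] (algebraMap A p.ResidueField a) := by
  rw [Algebra.TensorProduct.algebraMap_apply, Algebra.algebraMap_eq_smul_one,
    Algebra.algebraMap_eq_smul_one, TensorProduct.smul_tmul]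

theorem algebraMap_fibre_eq_zero (a : A) (ha : a ∈ p) :
    algebraMap A (B ⊗[A] p.ResidueField) a = 0 := by
  rw [algebraMap_fibre_eq, Ideal.algebraMap_residueField_eq_zero.mpr ha, TensorProduct.tmul_zero]

theorem isUnit_algebraMap_fibre (s : A) (hs : s ∉ p) :
    IsUnit (algebraMap A (B ⊗[A] p.ResidueField) s) := by
  rw [algebraMap_fibre_eq]
  have hu : IsUnit (algebraMap A p.ResidueField s) := by
    rw [isUnit_iff_ne_zero]
    intro h0
    exact hs (Ideal.algebraMap_residueField_eq_zero.mp h0)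
  exact hu.map (Algebra.TensorProduct.includeRight : p.ResidueField →ₐ[A] B ⊗[A] p.ResidueField)

/-- every element of the fibre ring is, up to a unit from `A`, in the image of `B`. -/
theorem exists_fibre_eq (β : B ⊗[A] p.ResidueField) :
    ∃ s : A, s ∉ p ∧ ∃ b : B, algebraMap A (B ⊗[A] p.ResidueField) s * β =
      algebraMap B (B ⊗[A] p.ResidueField) b := by
  induction β using TensorProduct.induction_on with
  | zero => exact ⟨1, fun h => (Ideal.IsPrime.ne_top ‹_›) ((Ideal.eq_top_iff_one p).mpr h), 0, by simp⟩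
  | tmul b₀ c =>
    obtain ⟨s, hs, a, ha⟩ := exists_residueField_eq A p c
    refine ⟨s, hs, a • b₀, ?_⟩
    rw [algebraMap_fibre_eq, Algebra.TensorProduct.tmul_mul_tmul, one_mul, ha,
      Algebra.TensorProduct.algebraMap_apply, Algebra.algebraMap_eq_smul_one (A := p.ResidueField),
      ← TensorProduct.smul_tmul]
    rfl
  | add β₁ β₂ ih₁ ih₂ =>
    obtain ⟨s₁, hs₁, b₁, e₁⟩ := ih₁
    obtain ⟨s₂, hs₂, b₂, e₂⟩ := ih₂
    refine ⟨s₁ * s₂, fun h => (Ideal.IsPrime.mem_or_mem ‹_› h).elim hs₁ hs₂,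
      s₂ • b₁ + s₁ • b₂, ?_⟩
    rw [map_mul, mul_add, map_add, Algebra.smul_def, Algebra.smul_def, map_mul, map_mul,
      ← e₁, ← e₂, ← IsScalarTower.algebraMap_apply, ← IsScalarTower.algebraMap_apply]
    ring

/-- `B`-scalars through the fibre module. -/
theorem algebraMap_smul_one_tmul (b : B) (m : M) :
    algebraMap B (B ⊗[A] p.ResidueField) b • ((1 : B ⊗[A] p.ResidueField) ⊗ₜ[B] m) =
      (1 : B ⊗[A] p.ResidueField) ⊗ₜ[B] (b • m) := by
  rw [TensorProduct.smul_tmul', smul_eq_mul, mul_one, Algebra.algebraMap_eq_smul_one,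
    TensorProduct.smul_tmul]

theorem algebraMapA_smul_one_tmul (a : A) (m : M) :
    algebraMap A (B ⊗[A] p.ResidueField) a • ((1 : B ⊗[A] p.ResidueField) ⊗ₜ[B] m) =
      (1 : B ⊗[A] p.ResidueField) ⊗ₜ[B] (a • m) := by
  rw [IsScalarTower.algebraMap_apply A B (B ⊗[A] p.ResidueField), algebraMap_smul_one_tmul,
    algebraMap_smul]

/-- every element of the fibre module is, up to a unit from `A`, in the image of `M`. -/
theorem exists_fibreModule_eq (z : (B ⊗[A] p.ResidueField) ⊗[B] M) :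
    ∃ s : A, s ∉ p ∧ ∃ m : M, algebraMap A (B ⊗[A] p.ResidueField) s • z =
      (1 : B ⊗[A] p.ResidueField) ⊗ₜ[B] m := by
  induction z using TensorProduct.induction_on with
  | zero => exact ⟨1, fun h => (Ideal.IsPrime.ne_top ‹_›) ((Ideal.eq_top_iff_one p).mpr h), 0, by simp⟩
  | tmul β m₁ =>
    obtain ⟨s, hs, b, e⟩ := exists_fibre_eq A p β
    refine ⟨s, hs, b • m₁, ?_⟩
    rw [TensorProduct.smul_tmul', smul_eq_mul, e, Algebra.algebraMap_eq_smul_one,
      TensorProduct.smul_tmul]
  | add z₁ z₂ ih₁ ih₂ =>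
    obtain ⟨s₁, hs₁, m₁, e₁⟩ := ih₁
    obtain ⟨s₂, hs₂, m₂, e₂⟩ := ih₂
    refine ⟨s₁ * s₂, fun h => (Ideal.IsPrime.mem_or_mem ‹_› h).elim hs₁ hs₂,
      s₂ • m₁ + s₁ • m₂, ?_⟩
    rw [map_mul, smul_add, mul_comm, mul_smul, e₁, mul_comm, mul_smul, e₂,
      algebraMapA_smul_one_tmul, algebraMapA_smul_one_tmul, TensorProduct.tmul_add]

theorem one_tmul_eq_zero_of_mem_pM (x : M) (hx : x ∈ p • (⊤ : Submodule A M)) :
    (1 : B ⊗[A] p.ResidueField) ⊗ₜ[B] x = 0 := by
  refine Submodule.smul_induction_on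
    (p := fun x => (1 : B ⊗[A] p.ResidueField) ⊗ₜ[B] x = 0) hx ?_ ?_
  · intro a ha m₁ _
    rw [← algebraMap_smul B a m₁, ← algebraMap_smul_one_tmul, ← IsScalarTower.algebraMap_apply,
      algebraMap_fibre_eq_zero A p a ha, zero_smul]
  · intro x y ihx ihy
    rw [TensorProduct.tmul_add, ihx, ihy, add_zero]

/-- **The kernel of `M → (B ⊗ κ(p)) ⊗_B M`.** -/
theorem one_tmul_eq_zero_iff (m : M) :
    (1 : B ⊗[A] p.ResidueField) ⊗ₜ[B] m = 0 ↔ m ∈ fibKer A M p := by
  constructor
  · intro h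
    apply mem_fibKer_of_tmul_eq_zero
    let e' : (B ⊗[A] p.ResidueField) ⊗[B] M ≃ₗ[B] M ⊗[A] p.ResidueField :=
      (TensorProduct.comm B (B ⊗[A] p.ResidueField) M) ≪≫ₗ
        TensorProduct.AlgebraTensorModule.cancelBaseChange A B B M p.ResidueField
    have h1 : e' ((1 : B ⊗[A] p.ResidueField) ⊗ₜ[B] m) = m ⊗ₜ[A] (1 : p.ResidueField) := by
      change TensorProduct.AlgebraTensorModule.cancelBaseChange A B B M p.ResidueField
        (TensorProduct.comm B (B ⊗[A] p.ResidueField) M
          ((1 : B ⊗[A] p.ResidueField) ⊗ₜ[B] m)) = _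
      rw [TensorProduct.comm_tmul, Algebra.TensorProduct.one_def,
        TensorProduct.AlgebraTensorModule.cancelBaseChange_tmul, one_smul]
    rw [h, map_zero] at h1
    have h2 := congrArg (TensorProduct.comm A M p.ResidueField) h1.symm
    rw [TensorProduct.comm_tmul, map_zero] at h2
    exact h2
  · rintro ⟨α, hα, h⟩
    have h1 := one_tmul_eq_zero_of_mem_pM (B := B) A p _ h
    rw [← algebraMap_smul B α m, ← algebraMap_smul_one_tmul, ← IsScalarTower.algebraMap_apply] at h1
    obtain ⟨u, hu⟩ := isUnit_algebraMap_fibre (B := B) A p α hα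
    rw [← hu] at h1
    have := congrArg (fun z => (↑u⁻¹ : B ⊗[A] p.ResidueField) • z) h1
    simpa [smul_smul] using this

/-- **Associated primes of the fibre module are relative associated primes.** -/
theorem relAssElem_of_isAssociatedPrime (Q : Ideal (B ⊗[A] p.ResidueField))
    (hQ : IsAssociatedPrime Q ((B ⊗[A] p.ResidueField) ⊗[B] M)) :
    (Q.comap (algebraMap B (B ⊗[A] p.ResidueField))).comap (algebraMap A B) = p ∧
      RelAssElem A M (Q.comap (algebraMap B (B ⊗[A] p.ResidueField))) := by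
  obtain ⟨hQprime, z, hz⟩ := hQ
  obtain ⟨s, hs, m₀, hm₀⟩ := exists_fibreModule_eq A p z
  obtain ⟨u, hu⟩ := isUnit_algebraMap_fibre (B := B) A p s hs
  -- the colon ideal of `1 ⊗ m₀`
  have hcolon : ∀ r : B ⊗[A] p.ResidueField,
      r • ((1 : B ⊗[A] p.ResidueField) ⊗ₜ[B] m₀) = 0 ↔ r • z = 0 := by
    intro r
    rw [← hm₀, ← hu, smul_comm]
    constructor
    · intro h
      have := congrArg (fun y => (↑u⁻¹ : B ⊗[A] p.ResidueField) • y) h
      simpa [smul_smul] using this
    · intro h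
      rw [h, smul_zero]
  have hmemQ : ∀ r : B ⊗[A] p.ResidueField, r ∈ Q ↔
      ∃ k : ℕ, r ^ k • ((1 : B ⊗[A] p.ResidueField) ⊗ₜ[B] m₀) = 0 := by
    intro r
    rw [hz]
    constructor
    · rintro ⟨k, hk⟩
      rw [Submodule.mem_colon_singleton, Submodule.mem_bot] at hk
      exact ⟨k, (hcolon _).mpr hk⟩
    · rintro ⟨k, hk⟩
      refine ⟨k, ?_⟩
      rw [Submodule.mem_colon_singleton, Submodule.mem_bot]
      exact (hcolon _).mp hk
  set q : Ideal B := Q.comap (algebraMap B (B ⊗[A] p.ResidueField)) with hq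
  have hqp : q.comap (algebraMap A B) = p := by
    ext a
    rw [Ideal.mem_comap, hq, Ideal.mem_comap, ← IsScalarTower.algebraMap_apply]
    constructor
    · intro h
      by_contra ha
      exact hQprime.ne_top (Ideal.eq_top_of_isUnit_mem _ h (isUnit_algebraMap_fibre A p a ha))
    · intro ha
      rw [algebraMap_fibre_eq_zero A p a ha]
      exact Ideal.zero_mem _
  refine ⟨hqp, m₀, ?_, ?_⟩
  · intro t ht hmem
    rw [hqp] at hmem
    apply ht
    rw [hq, Ideal.mem_comap, hmemQ]
    refine ⟨1, ?_⟩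
    rw [pow_one, algebraMap_smul_one_tmul]
    exact one_tmul_eq_zero_of_mem_pM A p _ hmem
  · intro b hb
    rw [hq, Ideal.mem_comap, hmemQ] at hb
    obtain ⟨k, hk⟩ := hb
    rw [← map_pow, algebraMap_smul_one_tmul, one_tmul_eq_zero_iff] at hk
    obtain ⟨α, hα, h1⟩ := hk
    refine ⟨k, algebraMap A B α, ?_, ?_⟩
    · intro hmem
      apply hα
      rw [← hqp]
      exact hmem
    · rw [hqp, algebraMap_smul]
      exact h1

/-- **Regular elements on the fibre**: if an ideal `J` of `B` is contained in no relative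
associated prime over `p`, it contains an element acting injectively on `κ(p) ⊗ M`. -/
theorem exists_fibReg_mem [Algebra.FiniteType A B] [Module.Finite B M] (J : Ideal B)
    (H : ∀ q : Ideal B, q.IsPrime → q.comap (algebraMap A B) = p → RelAssElem A M q → ¬ J ≤ q) :
    ∃ h ∈ J, FibReg A M p h := by
  haveI : IsNoetherianRing (p.ResidueField ⊗[A] B) :=
    Algebra.FiniteType.isNoetherianRing p.ResidueField (p.ResidueField ⊗[A] B)
  haveI : IsNoetherianRing (B ⊗[A] p.ResidueField) :=
    isNoetherianRing_of_ringEquiv (p.ResidueField ⊗[A] B)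
      (Algebra.TensorProduct.comm A p.ResidueField B).toRingEquiv
  set BK := B ⊗[A] p.ResidueField with hBK
  set NK := BK ⊗[B] M with hNK
  set JK : Ideal BK := J.map (algebraMap B BK) with hJK
  have hyp : ∀ c : NK, (∀ j ∈ JK, j • c = 0) → c = 0 := by
    intro c hc
    by_contra hc0
    obtain ⟨Q, hQ, hle⟩ := exists_le_isAssociatedPrime_of_isNoetherianRing BK c hc0
    have hJQ : JK ≤ Q := by
      intro j hj
      apply hle
      rw [Submodule.mem_colon_singleton, Submodule.mem_bot]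
      exact hc j hj
    obtain ⟨hqp, hrel⟩ := relAssElem_of_isAssociatedPrime A p Q hQ
    haveI := hQ.isPrime
    refine H (Q.comap (algebraMap B BK)) (Ideal.comap_isPrime _ _) hqp hrel ?_
    exact Ideal.map_le_iff_le_comap.mp hJQ
  obtain ⟨a, haJ, hareg⟩ := Groth.Agent.Lib.SchDenseFib.exists_smulRegular_mem (R := BK) (N := NK)
    JK hyp
  -- `a` is a unit multiple of the image of an element of `J`
  have hshape : ∀ a ∈ Ideal.span ((algebraMap B BK) '' (J : Set B)),
      ∃ s : A, s ∉ p ∧ ∃ h ∈ J, algebraMap A BK s * a = algebraMap B BK h := by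
    intro a ha'
    induction ha' using Submodule.span_induction with
    | mem x hx =>
      obtain ⟨j, hj, rfl⟩ := hx
      exact ⟨1, fun h => (Ideal.IsPrime.ne_top ‹_›) ((Ideal.eq_top_iff_one p).mpr h), j, hj,
        by rw [map_one, one_mul]⟩
    | zero =>
      exact ⟨1, fun h => (Ideal.IsPrime.ne_top ‹_›) ((Ideal.eq_top_iff_one p).mpr h), 0,
        J.zero_mem, by simp⟩
    | add x y _ _ ihx ihy =>
      obtain ⟨s₁, hs₁, h₁, hh₁, e₁⟩ := ihx
      obtain ⟨s₂, hs₂, h₂, hh₂, e₂⟩ := ihy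
      refine ⟨s₁ * s₂, fun h => (Ideal.IsPrime.mem_or_mem ‹_› h).elim hs₁ hs₂,
        s₂ • h₁ + s₁ • h₂, J.add_mem (Submodule.smul_of_tower_mem _ _ hh₁)
          (Submodule.smul_of_tower_mem _ _ hh₂), ?_⟩
      rw [map_mul, mul_add, map_add, Algebra.smul_def, Algebra.smul_def, map_mul, map_mul,
        ← e₁, ← e₂, ← IsScalarTower.algebraMap_apply, ← IsScalarTower.algebraMap_apply]
      ring
    | smul β x _ ihx =>
      obtain ⟨s₁, hs₁, h₁, hh₁, e₁⟩ := ihx
      obtain ⟨s₂, hs₂, b₂, e₂⟩ := exists_fibre_eq A p β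
      refine ⟨s₂ * s₁, fun h => (Ideal.IsPrime.mem_or_mem ‹_› h).elim hs₂ hs₁, b₂ * h₁,
        J.mul_mem_left _ hh₁, ?_⟩
      rw [map_mul, map_mul, ← e₁, ← e₂, smul_eq_mul]
      ring
  obtain ⟨s, hs, h, hhJ, e⟩ := hshape a haJ
  refine ⟨h, hhJ, ?_⟩
  have hreg' : IsSMulRegular NK (algebraMap B BK h) := by
    rw [← e]
    exact ((isUnit_algebraMap_fibre A p s hs).isSMulRegular NK).mul hareg
  intro m hm
  have hm := (one_tmul_eq_zero_iff (B := B) A p (h • m)).mpr hm
  refine (one_tmul_eq_zero_iff (B := B) A p m).mp ?_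
  rw [← algebraMap_smul_one_tmul] at hm
  have h0 : algebraMap B BK h • ((1 : BK) ⊗ₜ[B] m) = algebraMap B BK h • (0 : NK) := by
    rw [smul_zero]; exact hm
  exact hreg' h0

end Fibre

end Groth.Agent.Lib.RelAssAlg
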