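import Mathlib
import Groth.Agent.Lib.RelAssAlg1_helper2
import Groth.Agent.Lib.GenFreeE_helper8

/-!
# Relative associated primes in elementary terms, part 2: spreading regularity (helper2)

If `h ∈ B` acts injectively on the generic fibre `κ(n) ⊗ M` (`n` the prime nilradical of `A`), it acts
injectively on `κ(p) ⊗ M` for all `p` in a nonempty basic open of `Spec A` (via generic freeness).
APPEND-ONLY once landed.
-/

set_option autoImplicit false
set_option maxHeartbeats 800000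
universe u

namespace Groth.Agent.Lib.RelAssAlg

open GenFreeH8

section Dom

variable {R : Type u} [CommRing R] [IsDomain R] {S : Type u} [CommRing S] [Algebra R S]
  {N : Type u} [AddCommGroup N] [Module S N] [Module R N] [IsScalarTower R S N]

omit [IsScalarTower R S N] [Module S N] [Algebra R S] in
/-- torsion elements are killed by a power of `f₁` when `N` is free after inverting `f₁`. -/
theorem torsion_of_gfw {f₁ : R} (hg : GFW R N f₁) (x : N) (α : R) (hα : α ≠ 0)
    (hx : α • x = 0) : ∃ j : ℕ, f₁ ^ j • x = 0 := by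
  obtain ⟨s, hs, hsp⟩ := hg
  obtain ⟨j, hj⟩ := hsp x
  refine ⟨j, ?_⟩
  have hy0 : α • (f₁ ^ j • x) = 0 := by rw [smul_comm, hx, smul_zero]
  have hj' : f₁ ^ j • x ∈ Submodule.span R (Set.range ((↑) : s → N)) := by
    rwa [Subtype.range_coe]
  obtain ⟨l, hl⟩ := (Finsupp.mem_span_range_iff_exists_finsupp).mp hj'
  have h1 : Finsupp.linearCombination R ((↑) : s → N) (α • l) = 0 := by
    rw [map_smul, Finsupp.linearCombination_apply, hl, hy0]
  have h2 : α • l = 0 := linearIndependent_iff.mp hs _ h1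
  have hl0 : l = 0 := (smul_eq_zero.mp h2).resolve_left hα
  rw [← hl, hl0]
  simp

/-- The flatness of the cokernel of `h̄` after inverting `f₂`, in elementary terms. -/
theorem stepF (hbar : S) (f₂ : R)
    (hg₂ : GFW R (N ⧸ LinearMap.range (LinearMap.lsmul S N hbar)) f₂) (p' : Ideal R) (x : N)
    (hx : x ∈ p' • (⊤ : Submodule R N)) (hx' : x ∈ LinearMap.range (LinearMap.lsmul S N hbar)) :
    ∃ (k : ℕ) (w : N), w ∈ p' • (⊤ : Submodule R N) ∧ f₂ ^ k • x = hbar • w := by
  classical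
  set P : Submodule S N := LinearMap.range (LinearMap.lsmul S N hbar) with hP
  set C := N ⧸ P with hC
  obtain ⟨s, hs, hsp⟩ := hg₂
  set T : Submodule R C := Submodule.span R (Set.range ((↑) : s → C)) with hT
  let b : Module.Basis s R T := Module.Basis.span hs
  have hlift : ∀ c : s, ∃ n : N, (Submodule.Quotient.mk n : C) = (c : C) := fun c =>
    Submodule.Quotient.mk_surjective P (c : C)
  choose lift hliftc using hlift
  let σ : T →ₗ[R] N := b.constr R lift
  have hσ : ∀ c : T, (Submodule.Quotient.mk (σ c) : C) = (c : C) := by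
    have : (P.mkQ.restrictScalars R) ∘ₗ σ = T.subtype := by
      apply b.ext
      intro i
      rw [LinearMap.comp_apply, Module.Basis.constr_basis]
      change (Submodule.Quotient.mk (lift i) : C) = ((b i : T) : C)
      rw [hliftc i, Module.Basis.span_apply]
    intro c
    exact LinearMap.congr_fun this c
  have hmemP : ∀ y : N, (Submodule.Quotient.mk y : C) = 0 → ∃ w : N, hbar • w = y := by
    intro y hy
    rw [Submodule.Quotient.mk_eq_zero] at hy
    obtain ⟨w, hw⟩ := hy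
    exact ⟨w, hw⟩
  -- the general claim
  have claim : ∃ (k : ℕ) (c : T), (c : C) = f₂ ^ k • (Submodule.Quotient.mk x : C) ∧
      ∃ w : N, w ∈ p' • (⊤ : Submodule R N) ∧ f₂ ^ k • x = σ c + hbar • w := by
    refine Submodule.smul_induction_on
      (p := fun x => ∃ (k : ℕ) (c : T), (c : C) = f₂ ^ k • (Submodule.Quotient.mk x : C) ∧
        ∃ w : N, w ∈ p' • (⊤ : Submodule R N) ∧ f₂ ^ k • x = σ c + hbar • w) hx ?_ ?_
    · intro π hπ n _
      obtain ⟨k, hk⟩ := hsp (Submodule.Quotient.mk n : C)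
      have hk' : f₂ ^ k • (Submodule.Quotient.mk n : C) ∈ T := by
        rw [hT, Subtype.range_coe]; exact hk
      set c₀ : T := ⟨_, hk'⟩ with hc₀
      have h0 : (Submodule.Quotient.mk (f₂ ^ k • n - σ c₀) : C) = 0 := by
        rw [Submodule.Quotient.mk_sub, hσ c₀, Submodule.Quotient.mk_smul, sub_self]
      obtain ⟨w₀, hw₀⟩ := hmemP _ h0
      refine ⟨k, π • c₀, ?_, π • w₀, Submodule.smul_mem_smul hπ trivial, ?_⟩
      · rw [Submodule.coe_smul, Submodule.Quotient.mk_smul, smul_comm]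
      · rw [map_smul, smul_comm hbar π w₀, hw₀, smul_sub, smul_comm π (f₂ ^ k) n]
        abel
    · rintro x y ⟨k₁, c₁, hc₁, w₁, hw₁, e₁⟩ ⟨k₂, c₂, hc₂, w₂, hw₂, e₂⟩
      refine ⟨k₁ + k₂, f₂ ^ k₂ • c₁ + f₂ ^ k₁ • c₂, ?_, f₂ ^ k₂ • w₁ + f₂ ^ k₁ • w₂,
        Submodule.add_mem _ (Submodule.smul_mem _ _ hw₁) (Submodule.smul_mem _ _ hw₂), ?_⟩
      · rw [Submodule.coe_add, Submodule.coe_smul, Submodule.coe_smul, hc₁, hc₂,
          Submodule.Quotient.mk_add, smul_add, smul_smul, smul_smul, ← pow_add, ← pow_add,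
          add_comm k₂ k₁]
      · have hx1 : f₂ ^ (k₁ + k₂) • x = f₂ ^ k₂ • (f₂ ^ k₁ • x) := by
          rw [smul_smul, ← pow_add, add_comm]
        have hy1 : f₂ ^ (k₁ + k₂) • y = f₂ ^ k₁ • (f₂ ^ k₂ • y) := by
          rw [smul_smul, ← pow_add]
        rw [smul_add, hx1, hy1, e₁, e₂, map_add, map_smul, map_smul, smul_add, smul_add, smul_add,
          smul_comm hbar (f₂ ^ k₂) w₁, smul_comm hbar (f₂ ^ k₁) w₂]
        abel
  obtain ⟨k, c, hc, w, hw, e⟩ := claim
  have hx0 : (Submodule.Quotient.mk x : C) = 0 := by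
    rw [Submodule.Quotient.mk_eq_zero]; exact hx'
  have hc0 : c = 0 := by
    apply Subtype.ext
    rw [hc, hx0, smul_zero]; rfl
  refine ⟨k, w, hw, ?_⟩
  rw [e, hc0, map_zero, zero_add]

variable [Algebra.FiniteType R S] [Module.Finite S N]

/-- Spreading injectivity over a domain: if `h̄` is injective on `N` modulo torsion, it is
injective on `κ(p') ⊗ N` for all primes `p'` not containing some `f ≠ 0`. -/
theorem fibReg_dom (hbar : S)
    (Hgen : ∀ m : N, (∃ α : R, α ≠ 0 ∧ α • hbar • m = 0) → ∃ α : R, α ≠ 0 ∧ α • m = 0) :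
    ∃ f : R, f ≠ 0 ∧ ∀ p' : Ideal R, p'.IsPrime → f ∉ p' → ∀ m : N,
      (∃ α : R, α ∉ p' ∧ α • hbar • m ∈ p' • (⊤ : Submodule R N)) →
        ∃ α : R, α ∉ p' ∧ α • m ∈ p' • (⊤ : Submodule R N) := by
  obtain ⟨f₁, hf₁, hg₁, -⟩ := GenFreeH8.main (R := R) (S := S) N
  obtain ⟨f₂, hf₂, hg₂, -⟩ := GenFreeH8.main (R := R) (S := S)
    (N ⧸ LinearMap.range (LinearMap.lsmul S N hbar))
  refine ⟨f₁ * f₂, mul_ne_zero hf₁ hf₂, ?_⟩
  intro p' hp' hf m ⟨α, hα, hm⟩
  have hf₁p : f₁ ∉ p' := fun h => hf (Ideal.mul_mem_right _ _ h)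
  have hf₂p : f₂ ∉ p' := fun h => hf (Ideal.mul_mem_left _ _ h)
  have hm' : hbar • (α • m) ∈ p' • (⊤ : Submodule R N) := by rwa [smul_comm]
  obtain ⟨k, w, hw, e⟩ := stepF hbar f₂ hg₂ p' (hbar • (α • m)) hm' ⟨α • m, rfl⟩
  have h0 : hbar • (f₂ ^ k • (α • m) - w) = 0 := by
    rw [smul_sub, smul_comm hbar (f₂ ^ k) (α • m), e, sub_self]
  obtain ⟨α₂, hα₂, h2⟩ := Hgen (f₂ ^ k • (α • m) - w) ⟨1, one_ne_zero, by rw [one_smul]; exact h0⟩
  obtain ⟨j, hj⟩ := torsion_of_gfw hg₁ _ α₂ hα₂ h2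
  refine ⟨f₁ ^ j * (f₂ ^ k * α), ?_, ?_⟩
  · intro hmem
    rcases hp'.mem_or_mem hmem with h3 | h3
    · exact hf₁p (hp'.mem_of_pow_mem _ h3)
    · rcases hp'.mem_or_mem h3 with h4 | h4
      · exact hf₂p (hp'.mem_of_pow_mem _ h4)
      · exact hα h4
  · rw [smul_sub, sub_eq_zero] at hj
    rw [mul_smul, mul_smul, hj]
    exact Submodule.smul_mem _ _ hw

end Dom

section Spread

variable (A : Type u) {B M : Type u} [CommRing A] [CommRing B] [Algebra A B] [AddCommGroup M]
  [Module B M] [Module A M] [IsScalarTower A B M]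

/-- **Spreading regularity on fibres**: if `h` acts injectively on `κ(n) ⊗ M`, where `n` is a
prime ideal contained in all primes of `A`, then there is `a ∉ n` such that `h` acts injectively
on `κ(p) ⊗ M` for all primes `p` not containing `a`. -/
theorem fibReg_spread (n : Ideal A) [n.IsPrime] (hn : ∀ p : Ideal A, p.IsPrime → n ≤ p)
    [Algebra.FiniteType A B] [Module.Finite B M] (h : B) (hreg : FibReg A M n h) :
    ∃ a : A, a ∉ n ∧ ∀ p : Ideal A, p.IsPrime → a ∉ p → FibReg A M p h := by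
  set IB : Ideal B := n.map (algebraMap A B) with hIB
  set R := A ⧸ n with hR
  set S := B ⧸ IB with hS
  set N := M ⧸ IB • (⊤ : Submodule B M) with hN
  letI modRN : Module R N := Module.compHom N (algebraMap R S)
  haveI : IsScalarTower R S N := IsScalarTower.of_algebraMap_smul (fun _ _ => rfl)
  haveI : Algebra.FiniteType A S :=
    Algebra.FiniteType.of_surjective (Ideal.Quotient.mkₐ A IB) Ideal.Quotient.mk_surjective
  haveI : Algebra.FiniteType R S := Algebra.FiniteType.of_restrictScalars_finiteType A R S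
  haveI : Module.Finite B N := inferInstance
  haveI : Module.Finite S N := Module.Finite.of_restrictScalars_finite B S N
  have c1 : ∀ (a : A) (m : M), (Ideal.Quotient.mk n a : R) • (Submodule.Quotient.mk m : N) =
      Submodule.Quotient.mk (a • m) := by
    intro a m
    rw [← algebraMap_smul B a m]
    rfl
  have c2 : ∀ m : M, (Ideal.Quotient.mk IB h : S) • (Submodule.Quotient.mk m : N) =
      Submodule.Quotient.mk (h • m) := fun m => rfl
  have c3 : ∀ m : M, (Submodule.Quotient.mk m : N) = 0 ↔ m ∈ n • (⊤ : Submodule A M) := by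
    intro m
    rw [Submodule.Quotient.mk_eq_zero]
    exact mem_map_smul_top_iff A n m
  have Hgen : ∀ m : N, (∃ α : R, α ≠ 0 ∧ α • (Ideal.Quotient.mk IB h : S) • m = 0) →
      ∃ α : R, α ≠ 0 ∧ α • m = 0 := by
    rintro m' ⟨α', hα', h0⟩
    obtain ⟨m, rfl⟩ := Submodule.Quotient.mk_surjective _ m'
    obtain ⟨α, rfl⟩ := Ideal.Quotient.mk_surjective α'
    have hα : α ∉ n := fun hmem => hα' (Ideal.Quotient.eq_zero_iff_mem.mpr hmem)
    rw [c2, c1, c3] at h0
    obtain ⟨α₂, hα₂, h2⟩ := hreg m ⟨α, hα, h0⟩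
    refine ⟨Ideal.Quotient.mk n α₂, fun h3 => hα₂ (Ideal.Quotient.eq_zero_iff_mem.mp h3), ?_⟩
    rw [c1, c3]
    exact h2
  obtain ⟨f', hf', H⟩ := fibReg_dom (R := R) (S := S) (N := N) (Ideal.Quotient.mk IB h) Hgen
  obtain ⟨a, rfl⟩ := Ideal.Quotient.mk_surjective f'
  have ha : a ∉ n := fun hmem => hf' (Ideal.Quotient.eq_zero_iff_mem.mpr hmem)
  refine ⟨a, ha, ?_⟩
  intro p hp hap
  have hnp : n ≤ p := hn p hp
  set p' : Ideal R := p.map (Ideal.Quotient.mk n) with hp'
  have hp'prime : p'.IsPrime := Ideal.map_isPrime_of_surjective Ideal.Quotient.mk_surjective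
    (by rw [Ideal.mk_ker]; exact hnp)
  have hmem : ∀ x : A, Ideal.Quotient.mk n x ∈ p' ↔ x ∈ p := fun x =>
    Ideal.mem_quotient_iff_mem hnp
  have Q1 : ∀ x : M, x ∈ p • (⊤ : Submodule A M) →
      (Submodule.Quotient.mk x : N) ∈ p' • (⊤ : Submodule R N) := by
    intro x hx
    refine Submodule.smul_induction_on
      (p := fun x => (Submodule.Quotient.mk x : N) ∈ p' • (⊤ : Submodule R N)) hx ?_ ?_
    · intro a₁ ha₁ m₁ _
      rw [← c1]
      exact Submodule.smul_mem_smul ((hmem a₁).mpr ha₁) trivial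
    · intro x y ihx ihy
      rw [Submodule.Quotient.mk_add]
      exact Submodule.add_mem _ ihx ihy
  have Q2 : ∀ y : N, y ∈ p' • (⊤ : Submodule R N) →
      ∃ x : M, x ∈ p • (⊤ : Submodule A M) ∧ (Submodule.Quotient.mk x : N) = y := by
    intro y hy
    refine Submodule.smul_induction_on
      (p := fun y => ∃ x : M, x ∈ p • (⊤ : Submodule A M) ∧ (Submodule.Quotient.mk x : N) = y)
      hy ?_ ?_
    · intro r hr n₁ _
      obtain ⟨a₁, rfl⟩ := Ideal.Quotient.mk_surjective r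
      obtain ⟨m₁, rfl⟩ := Submodule.Quotient.mk_surjective _ n₁
      exact ⟨a₁ • m₁, Submodule.smul_mem_smul ((hmem a₁).mp hr) trivial, (c1 a₁ m₁).symm⟩
    · rintro y₁ y₂ ⟨x₁, hx₁, rfl⟩ ⟨x₂, hx₂, rfl⟩
      exact ⟨x₁ + x₂, Submodule.add_mem _ hx₁ hx₂, Submodule.Quotient.mk_add _⟩
  have Q2' : ∀ x : M, (Submodule.Quotient.mk x : N) ∈ p' • (⊤ : Submodule R N) →
      x ∈ p • (⊤ : Submodule A M) := by
    intro x hx
    obtain ⟨x₂, hx₂, e⟩ := Q2 _ hx
    have h0 : (Submodule.Quotient.mk (x - x₂) : N) = 0 := by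
      rw [Submodule.Quotient.mk_sub, e, sub_self]
    rw [c3] at h0
    have h1 : x - x₂ ∈ p • (⊤ : Submodule A M) := Submodule.smul_mono_left hnp h0
    have := Submodule.add_mem _ h1 hx₂
    rwa [sub_add_cancel] at this
  intro m ⟨α, hα, hm⟩
  obtain ⟨α'', hα'', h3⟩ := H p' hp'prime (fun h4 => hap ((hmem a).mp h4))
    (Submodule.Quotient.mk m) ⟨Ideal.Quotient.mk n α, fun h4 => hα ((hmem α).mp h4), by
      rw [c2, c1]; exact Q1 _ hm⟩
  obtain ⟨α₃, rfl⟩ := Ideal.Quotient.mk_surjective α''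
  refine ⟨α₃, fun h4 => hα'' ((hmem α₃).mpr h4), ?_⟩
  rw [c1] at h3
  exact Q2' _ h3

end Spread

end Groth.Agent.Lib.RelAssAlg
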