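import Mathlib
import Groth.Agent.Lib.RelAssAlg2_helper2

/-!
# Relative associated primes in elementary terms, part 4: spreading (non-)membership in `fibKer`
(helper2)

Over a ring `A` whose nilradical `n` is prime: membership in the kernel of `M → κ(n) ⊗ M` spreads to
`κ(p) ⊗ M` for `p` in a nonempty basic open, and so does non-membership of a given element.
APPEND-ONLY once landed.
-/

set_option autoImplicit false
set_option maxHeartbeats 800000
universe u

namespace Groth.Agent.Lib.RelAssAlg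

open GenFreeH8

section Dom

variable {R : Type u} [CommRing R] [IsDomain R] {N : Type u} [AddCommGroup N] [Module R N]

/-- coefficients of elements of `p' N` with respect to a generically spanning independent
family. -/
theorem coeff_mem_of_mem_smul_top {s : Set N} (f₁ : R)
    (hsp : ∀ x : N, ∃ k : ℕ, f₁ ^ k • x ∈ Submodule.span R s) (p' : Ideal R) (x : N)
    (hx : x ∈ p' • (⊤ : Submodule R N)) :
    ∃ (L : ℕ) (l : s →₀ R), (∀ i, l i ∈ p') ∧
      f₁ ^ L • x = Finsupp.linearCombination R ((↑) : s → N) l := by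
  refine Submodule.smul_induction_on
    (p := fun x => ∃ (L : ℕ) (l : s →₀ R), (∀ i, l i ∈ p') ∧
      f₁ ^ L • x = Finsupp.linearCombination R ((↑) : s → N) l) hx ?_ ?_
  · intro π hπ n _
    obtain ⟨k, hk⟩ := hsp n
    have hk' : f₁ ^ k • n ∈ Submodule.span R (Set.range ((↑) : s → N)) := by
      rwa [Subtype.range_coe]
    obtain ⟨l₀, hl₀⟩ := (Finsupp.mem_span_range_iff_exists_finsupp).mp hk'
    refine ⟨k, π • l₀, fun i => ?_, ?_⟩
    · rw [Finsupp.smul_apply, smul_eq_mul]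
      exact Ideal.mul_mem_right _ _ hπ
    · rw [map_smul, Finsupp.linearCombination_apply, hl₀, smul_comm]
  · rintro x y ⟨L₁, l₁, hl₁, e₁⟩ ⟨L₂, l₂, hl₂, e₂⟩
    refine ⟨L₁ + L₂, f₁ ^ L₂ • l₁ + f₁ ^ L₁ • l₂, fun i => ?_, ?_⟩
    · rw [Finsupp.add_apply, Finsupp.smul_apply, Finsupp.smul_apply, smul_eq_mul, smul_eq_mul]
      exact Ideal.add_mem _ (Ideal.mul_mem_left _ _ (hl₁ i)) (Ideal.mul_mem_left _ _ (hl₂ i))
    · have hx1 : f₁ ^ (L₁ + L₂) • x = f₁ ^ L₂ • (f₁ ^ L₁ • x) := by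
        rw [smul_smul, ← pow_add, add_comm]
      have hy1 : f₁ ^ (L₁ + L₂) • y = f₁ ^ L₁ • (f₁ ^ L₂ • y) := by
        rw [smul_smul, ← pow_add]
      rw [smul_add, hx1, hy1, e₁, e₂, map_add, map_smul, map_smul]

/-- A non-torsion element stays nonzero in the fibres over a nonempty basic open. -/
theorem nonTorsion_spread {f₁ : R} (hg : GFW R N f₁) (hf₁ : f₁ ≠ 0) (x : N)
    (hx : ∀ α : R, α ≠ 0 → α • x ≠ 0) :
    ∃ f : R, f ≠ 0 ∧ ∀ p' : Ideal R, p'.IsPrime → f ∉ p' → ∀ α : R, α ∉ p' →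
      α • x ∉ p' • (⊤ : Submodule R N) := by
  obtain ⟨s, hs, hsp⟩ := hg
  obtain ⟨k, hk⟩ := hsp x
  have hk' : f₁ ^ k • x ∈ Submodule.span R (Set.range ((↑) : s → N)) := by
    rwa [Subtype.range_coe]
  obtain ⟨l, hl⟩ := (Finsupp.mem_span_range_iff_exists_finsupp).mp hk'
  have hl0 : l ≠ 0 := by
    intro h0
    rw [h0] at hl
    exact hx (f₁ ^ k) (pow_ne_zero _ hf₁) (by rw [← hl]; simp)
  obtain ⟨i₀, hi₀⟩ : ∃ i₀, l i₀ ≠ 0 := by
    by_contra hcon
    push_neg at hcon
    exact hl0 (Finsupp.ext hcon)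
  refine ⟨f₁ * l i₀, mul_ne_zero hf₁ hi₀, ?_⟩
  intro p' hp' hf α hα hmem
  obtain ⟨L, l', hl', e'⟩ := coeff_mem_of_mem_smul_top f₁ hsp p' _ hmem
  have h1 : Finsupp.linearCombination R ((↑) : s → N) ((f₁ ^ L * α) • l) =
      Finsupp.linearCombination R ((↑) : s → N) (f₁ ^ k • l') := by
    rw [map_smul, map_smul, ← e', Finsupp.linearCombination_apply, hl, smul_smul, smul_smul,
      smul_smul]
    congr 1
    ring
  have h2 : (f₁ ^ L * α) • l = f₁ ^ k • l' := hs h1
  have h3 : f₁ ^ L * α * l i₀ = f₁ ^ k * l' i₀ := by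
    have := congrArg (fun g : s →₀ R => g i₀) h2
    simpa [Finsupp.smul_apply, smul_eq_mul] using this
  have h4 : f₁ ^ L * α * l i₀ ∈ p' := by
    rw [h3]
    exact Ideal.mul_mem_left _ _ (hl' i₀)
  rcases hp'.mem_or_mem h4 with h5 | h5
  · rcases hp'.mem_or_mem h5 with h6 | h6
    · exact hf (Ideal.mul_mem_right _ _ (hp'.mem_of_pow_mem _ h6))
    · exact hα h6
  · exact hf (Ideal.mul_mem_left _ _ h5)

end Dom

section Spread

variable (A : Type u) {B M : Type u} [CommRing A] [CommRing B] [Algebra A B] [AddCommGroup M]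
  [Module B M] [Module A M] [IsScalarTower A B M]

/-- **Spreading (non-)membership in the kernel of `M → κ(p) ⊗ M`** from the prime nilradical. -/
theorem fibKer_spread (n : Ideal A) [n.IsPrime] (hn : ∀ p : Ideal A, p.IsPrime → n ≤ p)
    [Algebra.FiniteType A B] [Module.Finite B M] :
    (∃ a : A, a ∉ n ∧ ∀ x ∈ fibKer A M n, ∀ p : Ideal A, p.IsPrime → a ∉ p → x ∈ fibKer A M p) ∧
    (∀ m₁ : M, m₁ ∉ fibKer A M n →
      ∃ a : A, a ∉ n ∧ ∀ p : Ideal A, p.IsPrime → a ∉ p → m₁ ∉ fibKer A M p) := by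
  set IB : Ideal B := n.map (algebraMap A B) with hIB
  set R := A ⧸ n with hR
  set S := B ⧸ IB with hS
  set N := M ⧸ IB • (⊤ : Submodule B M) with hN
  letI modRN : Module R N := Module.compHom N (algebraMap R S)
  haveI : IsScalarTower R S N := IsScalarTower.of_algebraMap_smul (fun _ _ => rfl)
  haveI : Algebra.FiniteType A S :=
    Algebra.FiniteType.of_surjective (Ideal.Quotient.mkₐ A IB) Ideal.Quotient.mk_surjective
  haveI : Algebra.FiniteType R S := Algebra.FiniteType.of_restrictScalars_finiteType A R S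
  haveI : Module.Finite B N := inferInstance
  haveI : Module.Finite S N := Module.Finite.of_restrictScalars_finite B S N
  have c1 : ∀ (a : A) (m : M), (Ideal.Quotient.mk n a : R) • (Submodule.Quotient.mk m : N) =
      Submodule.Quotient.mk (a • m) := by
    intro a m
    rw [← algebraMap_smul B a m]
    rfl
  have c3 : ∀ m : M, (Submodule.Quotient.mk m : N) = 0 ↔ m ∈ n • (⊤ : Submodule A M) := by
    intro m
    rw [Submodule.Quotient.mk_eq_zero]
    exact mem_map_smul_top_iff A n m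
  obtain ⟨f₁, hf₁, hg₁, -⟩ := GenFreeH8.main (R := R) (S := S) N
  have hmemp : ∀ (p : Ideal A), n ≤ p → ∀ x : A,
      Ideal.Quotient.mk n x ∈ p.map (Ideal.Quotient.mk n) ↔ x ∈ p := fun p hnp x =>
    Ideal.mem_quotient_iff_mem hnp
  have Q1 : ∀ (p : Ideal A), n ≤ p → ∀ x : M, x ∈ p • (⊤ : Submodule A M) →
      (Submodule.Quotient.mk x : N) ∈ (p.map (Ideal.Quotient.mk n)) • (⊤ : Submodule R N) := by
    intro p hnp x hx
    refine Submodule.smul_induction_on
      (p := fun x => (Submodule.Quotient.mk x : N) ∈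
        (p.map (Ideal.Quotient.mk n)) • (⊤ : Submodule R N)) hx ?_ ?_
    · intro a₁ ha₁ m₁ _
      rw [← c1]
      exact Submodule.smul_mem_smul ((hmemp p hnp a₁).mpr ha₁) trivial
    · intro x y ihx ihy
      rw [Submodule.Quotient.mk_add]
      exact Submodule.add_mem _ ihx ihy
  constructor
  · obtain ⟨a, rfl⟩ := Ideal.Quotient.mk_surjective f₁
    have ha : a ∉ n := fun hmem => hf₁ (Ideal.Quotient.eq_zero_iff_mem.mpr hmem)
    refine ⟨a, ha, ?_⟩
    rintro x ⟨α, hα, hx⟩ p hp hap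
    have h0 : (Ideal.Quotient.mk n α : R) • (Submodule.Quotient.mk x : N) = 0 := by
      rw [c1, c3]; exact hx
    obtain ⟨j, hj⟩ := torsion_of_gfw hg₁ _ (Ideal.Quotient.mk n α)
      (fun h3 => hα (Ideal.Quotient.eq_zero_iff_mem.mp h3)) h0
    rw [← map_pow, c1, c3] at hj
    exact ⟨a ^ j, fun h4 => hap (hp.mem_of_pow_mem _ h4), Submodule.smul_mono_left (hn p hp) hj⟩
  · intro m₁ hm₁
    have hnt : ∀ α : R, α ≠ 0 → α • (Submodule.Quotient.mk m₁ : N) ≠ 0 := by
      intro α' hα' h0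
      obtain ⟨α, rfl⟩ := Ideal.Quotient.mk_surjective α'
      rw [c1, c3] at h0
      exact hm₁ ⟨α, fun hmem => hα' (Ideal.Quotient.eq_zero_iff_mem.mpr hmem), h0⟩
    obtain ⟨f', hf', H⟩ := nonTorsion_spread hg₁ hf₁ _ hnt
    obtain ⟨a, rfl⟩ := Ideal.Quotient.mk_surjective f'
    have ha : a ∉ n := fun hmem => hf' (Ideal.Quotient.eq_zero_iff_mem.mpr hmem)
    refine ⟨a, ha, ?_⟩
    rintro p hp hap ⟨α, hα, hx⟩
    have hnp : n ≤ p := hn p hp
    have hp'prime : (p.map (Ideal.Quotient.mk n)).IsPrime :=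
      Ideal.map_isPrime_of_surjective Ideal.Quotient.mk_surjective
        (by rw [Ideal.mk_ker]; exact hnp)
    refine H _ hp'prime (fun h4 => hap ((hmemp p hnp a).mp h4)) (Ideal.Quotient.mk n α)
      (fun h4 => hα ((hmemp p hnp α).mp h4)) ?_
    rw [c1]
    exact Q1 p hnp _ hx

end Spread

end Groth.Agent.Lib.RelAssAlg
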