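import Mathlib
import Groth.Agent.Lib.RelAssAlg3_helper2
import Groth.Agent.Lib.RelAssAlg4_helper2

/-!
# Relative associated primes in elementary terms, part 5: existence over nearby fibres (helper2)

A relative associated prime `q₀` over the prime nilradical `n` of `A` gives, over every prime `p` in
a nonempty basic open of `Spec A`, a relative associated prime `q ⊇ q₀` (algebraic core of S1369).
APPEND-ONLY once landed.
-/

set_option autoImplicit false
set_option maxHeartbeats 1000000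
universe u

open TensorProduct

namespace Groth.Agent.Lib.RelAssAlg

variable (A : Type u) {B M : Type u} [CommRing A] [CommRing B] [Algebra A B] [AddCommGroup M]
  [Module B M] [Module A M] [IsScalarTower A B M] (p : Ideal A) [p.IsPrime]

/-- elements of an extended ideal of the fibre ring, up to units from `A`. -/
theorem exists_shape_of_mem_map (J : Ideal B) :
    ∀ a ∈ J.map (algebraMap B (B ⊗[A] p.ResidueField)),
      ∃ s : A, s ∉ p ∧ ∃ h ∈ J, algebraMap A (B ⊗[A] p.ResidueField) s * a =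
        algebraMap B (B ⊗[A] p.ResidueField) h := by
  have key : ∀ a ∈ Ideal.span ((algebraMap B (B ⊗[A] p.ResidueField)) '' (J : Set B)),
      ∃ s : A, s ∉ p ∧ ∃ h ∈ J, algebraMap A (B ⊗[A] p.ResidueField) s * a =
        algebraMap B (B ⊗[A] p.ResidueField) h := by
    intro a ha'
    induction ha' using Submodule.span_induction with
    | mem x hx =>
      obtain ⟨j, hj, rfl⟩ := hx
      exact ⟨1, fun h => (Ideal.IsPrime.ne_top ‹_›) ((Ideal.eq_top_iff_one p).mpr h), j, hj,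
        by rw [map_one, one_mul]⟩
    | zero =>
      exact ⟨1, fun h => (Ideal.IsPrime.ne_top ‹_›) ((Ideal.eq_top_iff_one p).mpr h), 0,
        J.zero_mem, by simp⟩
    | add x y _ _ ihx ihy =>
      obtain ⟨s₁, hs₁, h₁, hh₁, e₁⟩ := ihx
      obtain ⟨s₂, hs₂, h₂, hh₂, e₂⟩ := ihy
      refine ⟨s₁ * s₂, fun h => (Ideal.IsPrime.mem_or_mem ‹_› h).elim hs₁ hs₂,
        s₂ • h₁ + s₁ • h₂, J.add_mem (Submodule.smul_of_tower_mem _ _ hh₁)
          (Submodule.smul_of_tower_mem _ _ hh₂), ?_⟩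
      rw [map_mul, mul_add, map_add, Algebra.smul_def, Algebra.smul_def, map_mul, map_mul,
        ← e₁, ← e₂, ← IsScalarTower.algebraMap_apply, ← IsScalarTower.algebraMap_apply]
      ring
    | smul β x _ ihx =>
      obtain ⟨s₁, hs₁, h₁, hh₁, e₁⟩ := ihx
      obtain ⟨s₂, hs₂, b₂, e₂⟩ := exists_fibre_eq A p β
      refine ⟨s₂ * s₁, fun h => (Ideal.IsPrime.mem_or_mem ‹_› h).elim hs₂ hs₁, b₂ * h₁,
        J.mul_mem_left _ hh₁, ?_⟩
      rw [map_mul, map_mul, ← e₁, ← e₂, smul_eq_mul]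
      ring
  exact fun a ha => key a ha

/-- the kernel of `B → B ⊗ κ(p)`. -/
theorem mem_fibKer_of_algebraMap_eq_zero (x : B)
    (hx : algebraMap B (B ⊗[A] p.ResidueField) x = 0) : x ∈ fibKer A B p := by
  apply (one_tmul_eq_zero_iff (B := B) (M := B) A p x).mp
  have h1 : (1 : B ⊗[A] p.ResidueField) ⊗ₜ[B] x =
      (algebraMap B (B ⊗[A] p.ResidueField) x) ⊗ₜ[B] (1 : B) := by
    rw [Algebra.algebraMap_eq_smul_one, TensorProduct.smul_tmul, smul_eq_mul, mul_one]
  rw [h1, hx, TensorProduct.zero_tmul]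

/-- **An element whose annihilator on the fibre is exactly a given relative associated prime.** -/
theorem exists_exact_annihilator [Algebra.FiniteType A B] [Module.Finite B M] (q₀ : Ideal B)
    [q₀.IsPrime] (hq₀ : q₀.comap (algebraMap A B) = p) (hrel : RelAssElem A M q₀) :
    ∃ m₁ : M, ∀ b : B, b • m₁ ∈ fibKer A M p ↔ b ∈ q₀ := by
  haveI : IsNoetherianRing (p.ResidueField ⊗[A] B) :=
    Algebra.FiniteType.isNoetherianRing p.ResidueField (p.ResidueField ⊗[A] B)
  haveI : IsNoetherianRing (B ⊗[A] p.ResidueField) :=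
    isNoetherianRing_of_ringEquiv (p.ResidueField ⊗[A] B)
      (Algebra.TensorProduct.comm A p.ResidueField B).toRingEquiv
  set BK := B ⊗[A] p.ResidueField with hBK
  set NK := BK ⊗[B] M with hNK
  obtain ⟨m₀, h1, h2⟩ := hrel
  rw [hq₀] at h1 h2
  have halg : ∀ α : A, α ∉ p → algebraMap A B α ∉ q₀ := by
    intro α hα hmem
    apply hα
    rw [← hq₀]
    exact hmem
  have hnq : ∀ x : B, x ∈ p • (⊤ : Submodule A B) → x ∈ q₀ := by
    intro x hx
    refine Submodule.smul_induction_on (p := fun x => x ∈ q₀) hx ?_ ?_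
    · intro a ha b _
      rw [Algebra.smul_def]
      refine Ideal.mul_mem_right _ _ ?_
      have : a ∈ q₀.comap (algebraMap A B) := by rw [hq₀]; exact ha
      exact this
    · intro x y hx hy
      exact Ideal.add_mem _ hx hy
  set z₀ : NK := (1 : BK) ⊗ₜ[B] m₀ with hz₀
  have hz₀b : ∀ b : B, algebraMap B BK b • z₀ = 0 ↔ b • m₀ ∈ fibKer A M p := by
    intro b
    rw [hz₀, algebraMap_smul_one_tmul, one_tmul_eq_zero_iff]
  have h1' : ∀ t : B, t ∉ q₀ → t • m₀ ∉ fibKer A M p := by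
    rintro t ht ⟨α, hα, hmem⟩
    refine h1 (algebraMap A B α * t) ?_ ?_
    · intro h3
      rcases Ideal.IsPrime.mem_or_mem ‹q₀.IsPrime› h3 with h4 | h4
      · exact halg α hα h4
      · exact ht h4
    · rw [mul_smul, algebraMap_smul]; exact hmem
  -- the extension of `q₀` is disjoint from the image of the complement of `q₀`
  set E : Ideal BK := q₀.map (algebraMap B BK) with hE
  have hEq : ∀ t : B, algebraMap B BK t ∈ E → t ∈ q₀ := by
    intro t ht
    obtain ⟨s, hs, h, hh, e⟩ := exists_shape_of_mem_map A p q₀ _ ht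
    have h0 : algebraMap B BK (s • t - h) = 0 := by
      rw [map_sub, Algebra.smul_def, map_mul, ← IsScalarTower.algebraMap_apply, e, sub_self]
    obtain ⟨α, hα, h3⟩ := mem_fibKer_of_algebraMap_eq_zero A p _ h0
    have h4 : α • (s • t - h) ∈ q₀ := hnq _ h3
    rw [smul_sub, Algebra.smul_def, Algebra.smul_def, Algebra.smul_def, ← mul_assoc] at h4
    have h5 : algebraMap A B α * algebraMap A B s * t ∈ q₀ := by
      have := Ideal.add_mem _ h4 (Ideal.mul_mem_left q₀ (algebraMap A B α) hh)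
      rwa [sub_add_cancel] at this
    rcases Ideal.IsPrime.mem_or_mem ‹q₀.IsPrime› h5 with h6 | h6
    · rcases Ideal.IsPrime.mem_or_mem ‹q₀.IsPrime› h6 with h7 | h7
      · exact absurd h7 (halg α hα)
      · exact absurd h7 (halg s hs)
    · exact h6
  have hdisj : Disjoint (E : Set BK)
      ((q₀.primeCompl.map (algebraMap B BK : B →* BK) : Submonoid BK) : Set BK) := by
    rw [Set.disjoint_left]
    rintro β hβ ⟨t, ht, rfl⟩
    exact ht (hEq t hβ)
  obtain ⟨Q₀, hQ₀prime, hEQ₀, hQ₀disj⟩ := Ideal.exists_le_prime_disjoint E _ hdisj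
  have hQ₀comap : ∀ b : B, algebraMap B BK b ∈ Q₀ ↔ b ∈ q₀ := by
    intro b
    constructor
    · intro hb
      by_contra hbq
      exact Set.disjoint_left.mp hQ₀disj hb ⟨b, hbq, rfl⟩
    · intro hb
      exact hEQ₀ (Ideal.mem_map_of_mem _ hb)
  -- the annihilator of `z₀`
  set I₀ : Ideal BK := (⊥ : Submodule BK NK).colon {z₀} with hI₀
  have hI₀mem : ∀ β : BK, β ∈ I₀ ↔ β • z₀ = 0 := by
    intro β
    rw [hI₀, Submodule.mem_colon_singleton, Submodule.mem_bot]
  have hI₀Q₀ : I₀ ≤ Q₀ := by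
    intro β hβ
    obtain ⟨s, hs, b, e⟩ := exists_fibre_eq A p β
    have h3 : algebraMap B BK b ∈ I₀ := by
      rw [← e]; exact Ideal.mul_mem_left _ _ hβ
    have hb : b ∈ q₀ := by
      by_contra hbq
      exact h1' b hbq ((hz₀b b).mp ((hI₀mem _).mp h3))
    have h4 : algebraMap A BK s * β ∈ Q₀ := by rw [e]; exact (hQ₀comap b).mpr hb
    rcases hQ₀prime.mem_or_mem h4 with h5 | h5
    · exact absurd (Ideal.eq_top_of_isUnit_mem _ h5 (isUnit_algebraMap_fibre A p s hs))
        hQ₀prime.ne_top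
    · exact h5
  obtain ⟨Q, hQmin, hQQ₀⟩ := Ideal.exists_minimalPrimes_le hI₀Q₀
  haveI hQprime : Q.IsPrime := hQmin.1.1
  have hI₀Q : I₀ ≤ Q := hQmin.1.2
  -- `Q` is an associated prime of the fibre module
  have hQass : IsAssociatedPrime Q NK := by
    set Z : Submodule BK NK := Submodule.span BK {z₀} with hZ
    have hann : Module.annihilator BK Z = I₀ := by
      ext β
      rw [hI₀mem]
      exact Submodule.mem_annihilator_span_singleton z₀ β
    have h3 : Q ∈ associatedPrimes BK Z := by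
      apply Module.associatedPrimes.minimalPrimes_annihilator_subset_associatedPrimes BK Z
      rw [hann]
      exact hQmin
    exact IsAssociatedPrime.map_of_injective (f := Z.subtype) h3 Z.injective_subtype
  -- the contraction of `Q` is `q₀`
  have hQcomap : ∀ b : B, algebraMap B BK b ∈ Q ↔ b ∈ q₀ := by
    intro b
    constructor
    · intro hb
      exact (hQ₀comap b).mp (hQQ₀ hb)
    · intro hb
      obtain ⟨k, t, ht, hk⟩ := h2 b hb
      have h3 : algebraMap B BK (t * b ^ k) ∈ I₀ := by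
        rw [hI₀mem, hz₀b, mul_smul]
        exact mem_fibKer_of_mem_pM A p hk
      have h4 : algebraMap B BK t * algebraMap B BK b ^ k ∈ Q := by
        rw [← map_pow, ← map_mul]; exact hI₀Q h3
      rcases hQprime.mem_or_mem h4 with h5 | h5
      · exact absurd ((hQ₀comap t).mp (hQQ₀ h5)) ht
      · exact hQprime.mem_of_pow_mem _ h5
  -- exact annihilator
  obtain ⟨-, z, hz⟩ := (isAssociatedPrime_iff).mp hQass
  obtain ⟨s, hs, m₁, hm₁⟩ := exists_fibreModule_eq A p z
  obtain ⟨u, hu⟩ := isUnit_algebraMap_fibre (B := B) A p s hs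
  refine ⟨m₁, fun b => ?_⟩
  have hcol : ∀ β : BK, β • ((1 : BK) ⊗ₜ[B] m₁) = 0 ↔ β • z = 0 := by
    intro β
    rw [← hm₁, ← hu, smul_comm]
    constructor
    · intro h
      have := congrArg (fun y => (↑u⁻¹ : BK) • y) h
      simpa [smul_smul] using this
    · intro h
      rw [h, smul_zero]
  rw [← hQcomap, hz, Submodule.mem_colon_singleton, Submodule.mem_bot, ← hcol,
    algebraMap_smul_one_tmul, one_tmul_eq_zero_iff]

/-- **Algebraic core of S1369.** -/
theorem core1369 (n : Ideal A) [n.IsPrime] (hn : ∀ p : Ideal A, p.IsPrime → n ≤ p)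
    [Algebra.FiniteType A B] [Module.Finite B M] (J : Ideal B) (q₀ : Ideal B) [q₀.IsPrime]
    (hq₀ : q₀.comap (algebraMap A B) = n) (hrel : RelAssElem A M q₀) (hJ : J ≤ q₀) :
    ∃ a : A, a ∉ n ∧ ∀ p : Ideal A, p.IsPrime → a ∉ p →
      ∃ q : Ideal B, q.IsPrime ∧ q.comap (algebraMap A B) = p ∧ RelAssElem A M q ∧ J ≤ q := by
  obtain ⟨m₁, hm₁⟩ := exists_exact_annihilator A n q₀ hq₀ hrel
  have hm₁n : m₁ ∉ fibKer A M n := by
    intro h
    have : (1 : B) ∈ q₀ := (hm₁ 1).mp (by rwa [one_smul])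
    exact (Ideal.IsPrime.ne_top ‹q₀.IsPrime›) ((Ideal.eq_top_iff_one q₀).mpr this)
  obtain ⟨⟨a₂, ha₂, H₂⟩, H₁⟩ := fibKer_spread (B := B) (M := M) A n hn
  obtain ⟨a₁, ha₁, H₁⟩ := H₁ m₁ hm₁n
  refine ⟨a₁ * a₂, fun h => (Ideal.IsPrime.mem_or_mem ‹n.IsPrime› h).elim ha₁ ha₂, ?_⟩
  intro p hp hap
  haveI := hp
  have ha₁p : a₁ ∉ p := fun h => hap (Ideal.mul_mem_right _ _ h)
  have ha₂p : a₂ ∉ p := fun h => hap (Ideal.mul_mem_left _ _ h)
  haveI : IsNoetherianRing (p.ResidueField ⊗[A] B) :=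
    Algebra.FiniteType.isNoetherianRing p.ResidueField (p.ResidueField ⊗[A] B)
  haveI : IsNoetherianRing (B ⊗[A] p.ResidueField) :=
    isNoetherianRing_of_ringEquiv (p.ResidueField ⊗[A] B)
      (Algebra.TensorProduct.comm A p.ResidueField B).toRingEquiv
  have hz : ((1 : B ⊗[A] p.ResidueField) ⊗ₜ[B] m₁ : (B ⊗[A] p.ResidueField) ⊗[B] M) ≠ 0 := by
    intro h0
    exact H₁ p hp ha₁p ((one_tmul_eq_zero_iff (B := B) A p m₁).mp h0)
  obtain ⟨Q', hQ', hle⟩ := exists_le_isAssociatedPrime_of_isNoetherianRing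
    (B ⊗[A] p.ResidueField) _ hz
  obtain ⟨hqp, hrel'⟩ := relAssElem_of_isAssociatedPrime A p Q' hQ'
  haveI := hQ'.isPrime
  refine ⟨Q'.comap (algebraMap B (B ⊗[A] p.ResidueField)), Ideal.comap_isPrime _ _, hqp, hrel', ?_⟩
  intro b hb
  rw [Ideal.mem_comap]
  apply hle
  rw [Submodule.mem_colon_singleton, Submodule.mem_bot, algebraMap_smul_one_tmul,
    one_tmul_eq_zero_iff]
  exact H₂ _ ((hm₁ b).mpr (hJ hb)) p hp ha₂p

end Groth.Agent.Lib.RelAssAlg
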