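import Mathlib
import Groth.Agent.Lib.RelAssAlg5_helper2
import Groth.Agent.Lib.AssFlat_helper5

/-!
# Relative associated primes and base change, algebra (helper2)

* `exists_isAssociatedPrime_of_relAssElem`: converse of `relAssElem_of_isAssociatedPrime`.
* `comap_mem_associatedPrimes`, `exists_mem_associatedPrimes_comap_eq`: associated primes under a
  (faithfully) flat base change of Noetherian rings.
* `ass_fibre_baseChange`: comparison of the associated primes of the fibre modules of `M` over `p`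
  and of a base change `M'` over `p'`.
APPEND-ONLY once landed.
-/

set_option autoImplicit false
set_option maxHeartbeats 1000000
universe u

open TensorProduct

namespace Groth.Agent.Lib.RelAssBC

open Groth.Agent.Lib.RelAssAlg

section Converse

variable (A : Type u) {B M : Type u} [CommRing A] [CommRing B] [Algebra A B] [AddCommGroup M]
  [Module B M] [Module A M] [IsScalarTower A B M] (p : Ideal A) [p.IsPrime]

/-- A relative associated prime comes from an associated prime of the fibre module. -/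
theorem exists_isAssociatedPrime_of_relAssElem [Algebra.FiniteType A B] [Module.Finite B M]
    (q₀ : Ideal B) [q₀.IsPrime] (hq₀ : q₀.comap (algebraMap A B) = p) (hrel : RelAssElem A M q₀) :
    ∃ Q : Ideal (B ⊗[A] p.ResidueField),
      IsAssociatedPrime Q ((B ⊗[A] p.ResidueField) ⊗[B] M) ∧
        Q.comap (algebraMap B (B ⊗[A] p.ResidueField)) = q₀ := by
  obtain ⟨m₁, hm₁⟩ := exists_exact_annihilator A p q₀ hq₀ hrel
  set BK := B ⊗[A] p.ResidueField with hBK
  set NK := BK ⊗[B] M with hNK
  set z : NK := (1 : BK) ⊗ₜ[B] m₁ with hz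
  set Q : Ideal BK := (⊥ : Submodule BK NK).colon {z} with hQ
  have hQmem : ∀ β : BK, β ∈ Q ↔ β • z = 0 := by
    intro β
    rw [hQ, Submodule.mem_colon_singleton, Submodule.mem_bot]
  have hQb : ∀ b : B, algebraMap B BK b ∈ Q ↔ b ∈ q₀ := by
    intro b
    rw [hQmem, hz, algebraMap_smul_one_tmul, one_tmul_eq_zero_iff, hm₁]
  have hunit : ∀ (s : A) (hs : s ∉ p) (β : BK), algebraMap A BK s * β ∈ Q → β ∈ Q := by
    intro s hs β h
    obtain ⟨u, hu⟩ := isUnit_algebraMap_fibre (B := B) A p s hs
    have h2 := Q.mul_mem_left (↑u⁻¹ : BK) h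
    rwa [← hu, ← mul_assoc, Units.inv_mul, one_mul] at h2
  have hQprime : Q.IsPrime := by
    refine ⟨?_, ?_⟩
    · intro htop
      have h1 : algebraMap B BK 1 ∈ Q := by rw [htop]; trivial
      have h2 : (1 : B) ∈ q₀ := (hQb 1).mp h1
      exact (Ideal.IsPrime.ne_top ‹q₀.IsPrime›) ((Ideal.eq_top_iff_one q₀).mpr h2)
    · intro β₁ β₂ h
      obtain ⟨s₁, hs₁, b₁, e₁⟩ := exists_fibre_eq A p β₁
      obtain ⟨s₂, hs₂, b₂, e₂⟩ := exists_fibre_eq A p β₂
      have h1 : algebraMap B BK (b₁ * b₂) ∈ Q := by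
        rw [map_mul, ← e₁, ← e₂]
        have : algebraMap A BK s₁ * β₁ * (algebraMap A BK s₂ * β₂) =
            (algebraMap A BK s₁ * algebraMap A BK s₂) * (β₁ * β₂) := by ring
        rw [this]
        exact Q.mul_mem_left _ h
      rcases Ideal.IsPrime.mem_or_mem ‹q₀.IsPrime› ((hQb _).mp h1) with h2 | h2
      · left
        apply hunit s₁ hs₁
        rw [e₁]
        exact (hQb _).mpr h2
      · right
        apply hunit s₂ hs₂
        rw [e₂]
        exact (hQb _).mpr h2
  refine ⟨Q, ⟨hQprime, z, ?_⟩, ?_⟩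
  · rw [← hQ, hQprime.radical]
  · ext b
    rw [Ideal.mem_comap, hQb]

end Converse

section AssBC

variable {C C' : Type u} [CommRing C] [CommRing C'] [Algebra C C'] [IsNoetherianRing C]
  [Module.Flat C C'] {G G' : Type u} [AddCommGroup G] [Module C G] [AddCommGroup G']
  [Module C' G'] [Module C G'] [IsScalarTower C C' G'] {j : G →ₗ[C] G'}

theorem comap_mem_associatedPrimes (hj : IsBaseChange C' j) (Q' : Ideal C')
    (hQ' : Q' ∈ associatedPrimes C' G') :
    Q'.comap (algebraMap C C') ∈ associatedPrimes C G := by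
  have h1 : Q' ∈ associatedPrimes C' (C' ⊗[C] G) := by
    rw [LinearEquiv.AssociatedPrimes.eq hj.equiv]
    exact hQ'
  exact (Groth.Agent.AssFlat.mem_of_mem_associatedPrimes_tensor (S := C') (N := C') G Q' h1).1

theorem exists_mem_associatedPrimes_comap_eq [IsNoetherianRing C'] [Module.FaithfullyFlat C C']
    (hj : IsBaseChange C' j) (Q : Ideal C) (hQ : Q ∈ associatedPrimes C G) :
    ∃ Q' ∈ associatedPrimes C' G', Q'.comap (algebraMap C C') = Q := by
  haveI : Q.IsPrime := hQ.isPrime
  set P : Submodule C' C' := Q.map (algebraMap C C') • (⊤ : Submodule C' C') with hP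
  have hne : P ≠ ⊤ := by
    intro htop
    have h1 : Q.map (algebraMap C C') = ⊤ := by
      have : (Q.map (algebraMap C C') : Ideal C') * (⊤ : Ideal C') = ⊤ := htop
      rwa [Ideal.mul_top] at this
    have h2 := Ideal.comap_map_eq_self_of_faithfullyFlat (B := C') Q
    rw [h1, Ideal.comap_top] at h2
    exact (Ideal.IsPrime.ne_top ‹_›) h2.symm
  haveI : Nontrivial (C' ⧸ P) := Submodule.Quotient.nontrivial_iff.mpr hne
  obtain ⟨Q', hQ'⟩ := associatedPrimes.nonempty C' (C' ⧸ P)
  have h3 : Q' ∈ associatedPrimes C' (C' ⊗[C] (C ⧸ Q)) := by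
    rw [← Groth.Agent.AssFlat.associatedPrimes_tensorQuot]
    exact hQ'
  have h4 : Q'.comap (algebraMap C C') = Q :=
    Groth.Agent.AssFlat.comap_eq_of_mem_associatedPrimes_quot (S := C') (N := C') Q Q' h3
  have h5 : Q' ∈ associatedPrimes C' (C' ⊗[C] G) := by
    rw [Groth.Agent.AssFlat.associatedPrimes_tensor]
    simp only [Set.mem_iUnion]
    exact ⟨Q, hQ, hQ'⟩
  refine ⟨Q', ?_, h4⟩
  rw [← LinearEquiv.AssociatedPrimes.eq hj.equiv]
  exact h5

end AssBC

end Groth.Agent.Lib.RelAssBC
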