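import Mathlib
import Groth.Agent.Lib.RelAssBC1_helper2

/-!
# Relative associated primes and base change, algebra, part 2 (helper2)
APPEND-ONLY once landed.
-/

set_option autoImplicit false
set_option maxHeartbeats 1000000
universe u

open TensorProduct

namespace Groth.Agent.Lib.RelAssBC

open Groth.Agent.Lib.RelAssAlg

attribute [local instance] Algebra.TensorProduct.rightAlgebra

section Fib

variable {A B A' B' : Type u} [CommRing A] [CommRing B] [CommRing A'] [CommRing B'] [Algebra A B]
  [Algebra A A'] [Algebra A' B'] [Algebra B B'] [Algebra A B'] [IsScalarTower A B B']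
  [IsScalarTower A A' B']
  {M M' : Type u} [AddCommGroup M] [Module B M] [AddCommGroup M'] [Module B' M'] [Module B M']
  [IsScalarTower B B' M']

/-- Comparison of the associated primes of the fibre modules under base change. -/
theorem ass_fibre_baseChange [Algebra.FiniteType A B] [Algebra.FiniteType A' B']
    [hpo : Algebra.IsPushout A B A' B'] (ι : M →ₗ[B] M') (hι : IsBaseChange B' ι)
    (p' : Ideal A') [p'.IsPrime] (p : Ideal A) [p.IsPrime]
    (hpp' : p = p'.comap (algebraMap A A')) :
    (∀ Q' ∈ associatedPrimes (B' ⊗[A'] p'.ResidueField) ((B' ⊗[A'] p'.ResidueField) ⊗[B'] M'),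
      ∃ Q ∈ associatedPrimes (B ⊗[A] p.ResidueField) ((B ⊗[A] p.ResidueField) ⊗[B] M),
        Q.comap (algebraMap B (B ⊗[A] p.ResidueField)) =
          (Q'.comap (algebraMap B' (B' ⊗[A'] p'.ResidueField))).comap (algebraMap B B')) ∧
    (∀ Q ∈ associatedPrimes (B ⊗[A] p.ResidueField) ((B ⊗[A] p.ResidueField) ⊗[B] M),
      ∃ Q' ∈ associatedPrimes (B' ⊗[A'] p'.ResidueField) ((B' ⊗[A'] p'.ResidueField) ⊗[B'] M'),
        (Q'.comap (algebraMap B' (B' ⊗[A'] p'.ResidueField))).comap (algebraMap B B') =
          Q.comap (algebraMap B (B ⊗[A] p.ResidueField))) := by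
  set k := p.ResidueField with hk
  set k' := p'.ResidueField with hk'
  set C := B ⊗[A] k with hC
  set C' := B' ⊗[A'] k' with hC'
  letI algkk' : Algebra k k' := (Ideal.ResidueField.map p p' (algebraMap A A') hpp').toAlgebra
  haveI towAkk' : IsScalarTower A k k' := .of_algebraMap_eq (fun a => by
    rw [RingHom.algebraMap_toAlgebra, Ideal.ResidueField.map_algebraMap]
    exact IsScalarTower.algebraMap_apply A A' k' a)
  haveI towAk'C' : IsScalarTower A k' C' := .of_algebraMap_eq (fun a => by
    rw [IsScalarTower.algebraMap_apply A A' C', IsScalarTower.algebraMap_apply A A' k',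
      ← IsScalarTower.algebraMap_apply A' k' C'])
  let f : B →ₐ[A] C' := IsScalarTower.toAlgHom A B C'
  let g : k →ₐ[A] C' := (IsScalarTower.toAlgHom A k' C').comp (IsScalarTower.toAlgHom A k k')
  let ψ : C →ₐ[A] C' := Algebra.TensorProduct.lift f g (fun _ _ => Commute.all _ _)
  have hψ : ∀ (b : B) (x : k), ψ (b ⊗ₜ[A] x) = f b * g x := fun b x =>
    Algebra.TensorProduct.lift_tmul f g _ b x
  letI algCC' : Algebra C C' := ψ.toRingHom.toAlgebra
  letI algkC' : Algebra k C' := ((algebraMap k' C').comp (algebraMap k k')).toAlgebra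
  haveI tow1 : IsScalarTower k k' C' := .of_algebraMap_eq (fun _ => rfl)
  haveI tow2 : IsScalarTower A C C' := .of_algebraMap_eq (fun a => (ψ.commutes a).symm)
  haveI tow3 : IsScalarTower B C C' := .of_algebraMap_eq (fun b => by
    have e1 : algebraMap B C b = b ⊗ₜ[A] (1 : k) := rfl
    show algebraMap B C' b = ψ (algebraMap B C b)
    rw [e1, hψ, map_one, mul_one]
    rfl)
  haveI tow4 : IsScalarTower k C C' := .of_algebraMap_eq (fun x => by
    have e1 : algebraMap k C x = (1 : B) ⊗ₜ[A] x :=
      Algebra.TensorProduct.right_algebraMap_apply x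
    show algebraMap k' C' (algebraMap k k' x) = ψ (algebraMap k C x)
    rw [e1, hψ, map_one, one_mul]
    rfl)
  -- the pushout squares
  haveI hY0 : Algebra.IsPushout A A' B B' := hpo.symm
  have hY : Algebra.IsPushout A k' B C' :=
    (Algebra.IsPushout.comp_iff A A' (T := k') B B' (T' := C')).mpr inferInstance
  have hX : Algebra.IsPushout k k' C C' :=
    (Algebra.IsPushout.comp_iff A k (T := k') B C (T' := C')).mp hY
  haveI hX' : Algebra.IsPushout k C k' C' := hX.symm
  haveI ffl : Module.FaithfullyFlat C C' :=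
    Module.FaithfullyFlat.of_linearEquiv C (C ⊗[k] k')
      (Algebra.IsPushout.equiv k C k' C').symm.toLinearEquiv
  haveI : Module.Flat C C' := inferInstance
  -- Noetherianity
  haveI : IsNoetherianRing (k ⊗[A] B) := Algebra.FiniteType.isNoetherianRing k (k ⊗[A] B)
  haveI : IsNoetherianRing C :=
    isNoetherianRing_of_ringEquiv (k ⊗[A] B) (Algebra.TensorProduct.comm A k B).toRingEquiv
  haveI : IsNoetherianRing (k' ⊗[A'] B') := Algebra.FiniteType.isNoetherianRing k' (k' ⊗[A'] B')
  haveI : IsNoetherianRing C' :=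
    isNoetherianRing_of_ringEquiv (k' ⊗[A'] B') (Algebra.TensorProduct.comm A' k' B').toRingEquiv
  -- the base change map of fibre modules
  set G := C ⊗[B] M with hG
  set G' := C' ⊗[B'] M' with hG'
  have hbG : IsBaseChange C (TensorProduct.mk B C M 1) := TensorProduct.isBaseChange B M C
  have hbG' : IsBaseChange C' (TensorProduct.mk B' C' M' 1) := TensorProduct.isBaseChange B' M' C'
  have hcomp : IsBaseChange C' (((TensorProduct.mk B' C' M' 1).restrictScalars B) ∘ₗ ι) :=
    hι.comp hbG'
  set j : G →ₗ[C] G' := hbG.lift (((TensorProduct.mk B' C' M' 1).restrictScalars B) ∘ₗ ι) with hj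
  have hjb : IsBaseChange C' j := by
    refine IsBaseChange.of_comp hbG ?_
    rw [hj, IsBaseChange.lift_comp]
    exact hcomp
  have hcomap : ∀ Q' : Ideal C', (Q'.comap (algebraMap C C')).comap (algebraMap B C) =
      (Q'.comap (algebraMap B' C')).comap (algebraMap B B') := by
    intro Q'
    rw [Ideal.comap_comap, Ideal.comap_comap, ← IsScalarTower.algebraMap_eq,
      ← IsScalarTower.algebraMap_eq]
  constructor
  · intro Q' hQ'
    exact ⟨_, comap_mem_associatedPrimes hjb Q' hQ', hcomap Q'⟩
  · intro Q hQ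
    obtain ⟨Q', hQ', e⟩ := exists_mem_associatedPrimes_comap_eq hjb Q hQ
    exact ⟨Q', hQ', by rw [← hcomap, e]⟩

end Fib

section Main

variable {A B A' B' : Type u} [CommRing A] [CommRing B] [CommRing A'] [CommRing B'] [Algebra A B]
  [Algebra A A'] [Algebra A' B'] [Algebra B B'] [Algebra A B'] [IsScalarTower A B B']
  [IsScalarTower A A' B']
  {M M' : Type u} [AddCommGroup M] [Module B M] [Module A M] [IsScalarTower A B M]
  [AddCommGroup M'] [Module B' M'] [Module A' M'] [IsScalarTower A' B' M'] [Module B M']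
  [IsScalarTower B B' M']

omit [Module A M] [IsScalarTower A B M] [Module A' M'] [IsScalarTower A' B' M'] in
theorem finite_of_pushout [Algebra.FiniteType A B] [Module.Finite B M]
    [hpo : Algebra.IsPushout A B A' B'] (ι : M →ₗ[B] M') (hι : IsBaseChange B' ι) :
    Algebra.FiniteType A' B' ∧ Module.Finite B' M' := by
  haveI hY0 : Algebra.IsPushout A A' B B' := hpo.symm
  constructor
  · exact Algebra.FiniteType.equiv (inferInstance : Algebra.FiniteType A' (A' ⊗[A] B))
      (Algebra.IsPushout.equiv A A' B B')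
  · exact Module.Finite.equiv hι.equiv

/-- **Relative associated primes descend along base change.** -/
theorem relAssElem_of_baseChange [Algebra.FiniteType A B] [Module.Finite B M]
    [hpo : Algebra.IsPushout A B A' B'] (ι : M →ₗ[B] M') (hι : IsBaseChange B' ι)
    (q' : Ideal B') [q'.IsPrime] (hrel : RelAssElem A' M' q') :
    RelAssElem A M (q'.comap (algebraMap B B')) := by
  obtain ⟨hft, hfin⟩ := finite_of_pushout (A := A) (A' := A') ι hι
  haveI := hft
  haveI := hfin
  set p' := q'.comap (algebraMap A' B') with hp'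
  haveI : p'.IsPrime := Ideal.comap_isPrime _ _
  set p := p'.comap (algebraMap A A') with hp
  haveI : p.IsPrime := Ideal.comap_isPrime _ _
  obtain ⟨Q', hQ', hQ'q⟩ := exists_isAssociatedPrime_of_relAssElem A' p' q' rfl hrel
  obtain ⟨Q, hQ, e⟩ := (ass_fibre_baseChange ι hι p' p rfl).1 Q' hQ'
  obtain ⟨-, hrelQ⟩ := relAssElem_of_isAssociatedPrime A p Q hQ
  rw [e, hQ'q] at hrelQ
  exact hrelQ

/-- **Relative associated primes lift along base change.** -/
theorem exists_relAssElem_baseChange [Algebra.FiniteType A B] [Module.Finite B M]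
    [hpo : Algebra.IsPushout A B A' B'] (ι : M →ₗ[B] M') (hι : IsBaseChange B' ι)
    (q : Ideal B) [q.IsPrime] (hrel : RelAssElem A M q) (p' : Ideal A') [p'.IsPrime]
    (hpp' : p'.comap (algebraMap A A') = q.comap (algebraMap A B)) :
    ∃ q' : Ideal B', q'.IsPrime ∧ q'.comap (algebraMap B B') = q ∧
      q'.comap (algebraMap A' B') = p' ∧ RelAssElem A' M' q' := by
  obtain ⟨hft, hfin⟩ := finite_of_pushout (A := A) (A' := A') ι hι
  haveI := hft
  haveI := hfin
  set p := q.comap (algebraMap A B) with hp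
  haveI : p.IsPrime := Ideal.comap_isPrime _ _
  obtain ⟨Q, hQ, hQq⟩ := exists_isAssociatedPrime_of_relAssElem A p q rfl hrel
  obtain ⟨Q', hQ', e⟩ := (ass_fibre_baseChange ι hι p' p hpp'.symm).2 Q hQ
  obtain ⟨h1, h2⟩ := relAssElem_of_isAssociatedPrime A' p' Q' hQ'
  haveI : Q'.IsPrime := IsAssociatedPrime.isPrime hQ'
  exact ⟨Q'.comap (algebraMap B' _), Ideal.comap_isPrime _ _, by rw [e, hQq], h1, h2⟩

end Main

end Groth.Agent.Lib.RelAssBC
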