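import Mathlib
import Groth.Agent.Lib.RelAssBC2_helper2
import Groth.Agent.Lib.AssTensorFields_lead

/-!
# Relative associated primes and base change, algebra, part 3 (helper2, S8885)

* `assoc_subset_minimal_of_bijective`, `exists_comap_eq_of_mem_associatedPrimes`: general facts on
  associated primes.
* `le_of_comap_le`, `comap_comap_eq`, `exists_prime_comap_eq`: ideals of the fibre ring
  `B ⊗[A] κ(p)`.
* `exists_isAssociatedPrime_of_relAssElem'`: no finiteness hypothesis on the module.
* `mem_minimalPrimes_of_mem_associatedPrimes_tensorQuot`: for a field extension `k'/k`, the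
  associated primes of `C'/QC'` (`C' = C ⊗_k k'`) are minimal over `QC'`.
* `relAssElem_baseChange_iff`: the precise behaviour of relative associated primes under base change.
APPEND-ONLY once landed.
-/

set_option autoImplicit false
set_option maxHeartbeats 1000000
universe u

open TensorProduct

namespace Groth.Agent.Lib.RelAssBC

open Groth.Agent.Lib.RelAssAlg

attribute [local instance] Algebra.TensorProduct.rightAlgebra

section General

/-- Transport of "no embedded primes" along a bijective ring homomorphism. -/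
theorem assoc_subset_minimal_of_bijective {R₁ R₂ : Type*} [CommRing R₁] [CommRing R₂]
    (f : R₁ →+* R₂) (hf : Function.Bijective f)
    (h : associatedPrimes R₁ R₁ ⊆ minimalPrimes R₁) :
    associatedPrimes R₂ R₂ ⊆ minimalPrimes R₂ := by
  intro P hP
  obtain ⟨hPp, x, hx⟩ := hP
  haveI := hPp
  obtain ⟨x₁, rfl⟩ := hf.2 x
  have h1 : P.comap f ∈ associatedPrimes R₁ R₁ := by
    show IsAssociatedPrime (P.comap f) R₁
    refine ⟨Ideal.comap_isPrime _ _, x₁, ?_⟩
    ext r
    rw [Ideal.mem_comap, hx, Ideal.mem_radical_iff, Ideal.mem_radical_iff]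
    refine exists_congr fun n => ?_
    rw [Submodule.mem_colon_singleton, Submodule.mem_colon_singleton, Submodule.mem_bot,
      Submodule.mem_bot, smul_eq_mul, smul_eq_mul, ← map_pow, ← map_mul, map_eq_zero_iff f hf.1]
  have h2 : P.comap f ∈ (⊥ : Ideal R₁).minimalPrimes := h h1
  have h3 := Ideal.comap_minimalPrimes_eq_of_surjective (f := f) hf.2 ⊥
  rw [Ideal.comap_bot_of_injective f hf.1] at h3
  rw [h3] at h2
  obtain ⟨P₂, hP₂, e2⟩ := h2
  have : P₂ = P := Ideal.comap_injective_of_surjective f hf.2 e2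
  rw [← this]
  exact hP₂

/-- Over a Noetherian `R`-algebra `S`, every associated prime of an `S`-module over `R` is the
contraction of an associated prime over `S`. -/
theorem exists_comap_eq_of_mem_associatedPrimes {R S : Type*} [CommRing R] [CommRing S]
    [Algebra R S] [IsNoetherianRing S] {M : Type*} [AddCommGroup M] [Module R M] [Module S M]
    [IsScalarTower R S M] (p : Ideal R) (hp : p ∈ associatedPrimes R M) :
    ∃ q ∈ associatedPrimes S M, q.comap (algebraMap R S) = p := by
  obtain ⟨hpp, m, hm⟩ := hp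
  haveI := hpp
  set I : Ideal S := (⊥ : Submodule S M).colon {m} with hI
  have hImem : ∀ s : S, s ∈ I ↔ s • m = 0 := by
    intro s
    rw [hI, Submodule.mem_colon_singleton, Submodule.mem_bot]
  have hIcomap : I.comap (algebraMap R S) = (⊥ : Submodule R M).colon {m} := by
    ext r
    rw [Ideal.mem_comap, hImem, Submodule.mem_colon_singleton, Submodule.mem_bot, algebraMap_smul]
  have hp' : p = (I.radical).comap (algebraMap R S) := by
    rw [Ideal.comap_radical, hIcomap]
    exact hm
  have hfin : I.minimalPrimes.Finite := Ideal.finite_minimalPrimes_of_isNoetherianRing S I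
  have hinf : (hfin.toFinset.inf fun q => q.comap (algebraMap R S)) ≤ p := by
    rw [hp', ← Ideal.sInf_minimalPrimes, Ideal.comap_sInf]
    refine le_iInf₂ fun q hq => ?_
    exact Finset.inf_le (hfin.mem_toFinset.mpr hq)
  obtain ⟨q, hq, hqp⟩ := (Ideal.IsPrime.inf_le' hpp).mp hinf
  rw [Set.Finite.mem_toFinset] at hq
  have hpq : p ≤ q.comap (algebraMap R S) := by
    rw [hp']
    apply Ideal.comap_mono
    rw [← Ideal.sInf_minimalPrimes]
    exact sInf_le hq
  refine ⟨q, ?_, le_antisymm hqp hpq⟩
  set Z : Submodule S M := Submodule.span S {m} with hZ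
  have hann : Module.annihilator S Z = I := by
    ext s
    rw [hImem]
    exact Submodule.mem_annihilator_span_singleton m s
  have h3 : q ∈ associatedPrimes S Z := by
    apply Module.associatedPrimes.minimalPrimes_annihilator_subset_associatedPrimes S Z
    rw [hann]
    exact hq
  exact IsAssociatedPrime.map_of_injective (f := Z.subtype) h3 Z.injective_subtype

end General

section FibreRing

variable (A : Type u) {B M : Type u} [CommRing A] [CommRing B] [Algebra A B] [AddCommGroup M]
  [Module B M] [Module A M] [IsScalarTower A B M] (p : Ideal A) [p.IsPrime]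

/-- Ideals of the fibre ring are determined by their contractions. -/
theorem le_of_comap_le (I₁ I₂ : Ideal (B ⊗[A] p.ResidueField))
    (h : I₁.comap (algebraMap B (B ⊗[A] p.ResidueField)) ≤
      I₂.comap (algebraMap B (B ⊗[A] p.ResidueField))) : I₁ ≤ I₂ := by
  intro β hβ
  obtain ⟨s, hs, b, e⟩ := exists_fibre_eq A p β
  obtain ⟨u, hu⟩ := isUnit_algebraMap_fibre (B := B) A p s hs
  have h1 : algebraMap B (B ⊗[A] p.ResidueField) b ∈ I₁ := by
    rw [← e]
    exact I₁.mul_mem_left _ hβ
  have h2 : algebraMap A (B ⊗[A] p.ResidueField) s * β ∈ I₂ := by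
    rw [e]
    exact h h1
  have h3 := I₂.mul_mem_left (↑u⁻¹ : B ⊗[A] p.ResidueField) h2
  rwa [← hu, ← mul_assoc, Units.inv_mul, one_mul] at h3

/-- Every prime of the fibre ring lies over `p`. -/
theorem comap_comap_eq (P : Ideal (B ⊗[A] p.ResidueField)) [P.IsPrime] :
    (P.comap (algebraMap B (B ⊗[A] p.ResidueField))).comap (algebraMap A B) = p := by
  ext a
  rw [Ideal.mem_comap, Ideal.mem_comap, ← IsScalarTower.algebraMap_apply]
  constructor
  · intro h
    by_contra ha
    exact (Ideal.IsPrime.ne_top ‹P.IsPrime›)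
      (Ideal.eq_top_of_isUnit_mem _ h (isUnit_algebraMap_fibre A p a ha))
  · intro ha
    rw [algebraMap_fibre_eq_zero A p a ha]
    exact P.zero_mem

/-- Every prime of `B` over `p` comes from a prime of the fibre ring. -/
theorem exists_prime_comap_eq (q₀ : Ideal B) [q₀.IsPrime]
    (hq₀ : q₀.comap (algebraMap A B) = p) :
    ∃ Q₀ : Ideal (B ⊗[A] p.ResidueField), Q₀.IsPrime ∧
      Q₀.comap (algebraMap B (B ⊗[A] p.ResidueField)) = q₀ := by
  set BK := B ⊗[A] p.ResidueField with hBK
  have halg : ∀ α : A, α ∉ p → algebraMap A B α ∉ q₀ := by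
    intro α hα hmem
    apply hα
    rw [← hq₀]
    exact hmem
  have hnq : ∀ x : B, x ∈ p • (⊤ : Submodule A B) → x ∈ q₀ := by
    intro x hx
    refine Submodule.smul_induction_on (p := fun x => x ∈ q₀) hx ?_ ?_
    · intro a ha b _
      rw [Algebra.smul_def]
      refine Ideal.mul_mem_right _ _ ?_
      have : a ∈ q₀.comap (algebraMap A B) := by rw [hq₀]; exact ha
      exact this
    · intro x y hx hy
      exact Ideal.add_mem _ hx hy
  set E : Ideal BK := q₀.map (algebraMap B BK) with hE
  have hEq : ∀ t : B, algebraMap B BK t ∈ E → t ∈ q₀ := by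
    intro t ht
    obtain ⟨s, hs, h, hh, e⟩ := exists_shape_of_mem_map A p q₀ _ ht
    have h0 : algebraMap B BK (s • t - h) = 0 := by
      rw [map_sub, Algebra.smul_def, map_mul, ← IsScalarTower.algebraMap_apply, e, sub_self]
    obtain ⟨α, hα, h3⟩ := mem_fibKer_of_algebraMap_eq_zero A p _ h0
    have h4 : α • (s • t - h) ∈ q₀ := hnq _ h3
    rw [smul_sub, Algebra.smul_def, Algebra.smul_def, Algebra.smul_def, ← mul_assoc] at h4
    have h5 : algebraMap A B α * algebraMap A B s * t ∈ q₀ := by
      have := Ideal.add_mem _ h4 (Ideal.mul_mem_left q₀ (algebraMap A B α) hh)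
      rwa [sub_add_cancel] at this
    rcases Ideal.IsPrime.mem_or_mem ‹q₀.IsPrime› h5 with h6 | h6
    · rcases Ideal.IsPrime.mem_or_mem ‹q₀.IsPrime› h6 with h7 | h7
      · exact absurd h7 (halg α hα)
      · exact absurd h7 (halg s hs)
    · exact h6
  have hdisj : Disjoint (E : Set BK)
      ((q₀.primeCompl.map (algebraMap B BK : B →* BK) : Submonoid BK) : Set BK) := by
    rw [Set.disjoint_left]
    rintro β hβ ⟨t, ht, rfl⟩
    exact ht (hEq t hβ)
  obtain ⟨Q₀, hQ₀prime, hEQ₀, hQ₀disj⟩ := Ideal.exists_le_prime_disjoint E _ hdisj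
  refine ⟨Q₀, hQ₀prime, ?_⟩
  ext b
  rw [Ideal.mem_comap]
  constructor
  · intro hb
    by_contra hbq
    exact Set.disjoint_left.mp hQ₀disj hb ⟨b, hbq, rfl⟩
  · intro hb
    exact hEQ₀ (Ideal.mem_map_of_mem _ hb)

/-- A relative associated prime comes from an associated prime of the fibre module (no finiteness
hypothesis on the module). -/
theorem exists_isAssociatedPrime_of_relAssElem' [Algebra.FiniteType A B]
    (q₀ : Ideal B) [q₀.IsPrime] (hq₀ : q₀.comap (algebraMap A B) = p) (hrel : RelAssElem A M q₀) :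
    ∃ Q : Ideal (B ⊗[A] p.ResidueField),
      IsAssociatedPrime Q ((B ⊗[A] p.ResidueField) ⊗[B] M) ∧
        Q.comap (algebraMap B (B ⊗[A] p.ResidueField)) = q₀ := by
  haveI : IsNoetherianRing (p.ResidueField ⊗[A] B) :=
    Algebra.FiniteType.isNoetherianRing p.ResidueField (p.ResidueField ⊗[A] B)
  haveI : IsNoetherianRing (B ⊗[A] p.ResidueField) :=
    isNoetherianRing_of_ringEquiv (p.ResidueField ⊗[A] B)
      (Algebra.TensorProduct.comm A p.ResidueField B).toRingEquiv
  set BK := B ⊗[A] p.ResidueField with hBK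
  set NK := BK ⊗[B] M with hNK
  obtain ⟨Q₀, hQ₀prime, hQ₀q₀⟩ := exists_prime_comap_eq A p q₀ hq₀
  have hQ₀comap : ∀ b : B, algebraMap B BK b ∈ Q₀ ↔ b ∈ q₀ := by
    intro b
    rw [← hQ₀q₀, Ideal.mem_comap]
  obtain ⟨m₀, h1, h2⟩ := hrel
  rw [hq₀] at h1 h2
  have halg : ∀ α : A, α ∉ p → algebraMap A B α ∉ q₀ := by
    intro α hα hmem
    apply hα
    rw [← hq₀]
    exact hmem
  set z₀ : NK := (1 : BK) ⊗ₜ[B] m₀ with hz₀
  have hz₀b : ∀ b : B, algebraMap B BK b • z₀ = 0 ↔ b • m₀ ∈ fibKer A M p := by
    intro b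
    rw [hz₀, algebraMap_smul_one_tmul, one_tmul_eq_zero_iff]
  have h1' : ∀ t : B, t ∉ q₀ → t • m₀ ∉ fibKer A M p := by
    rintro t ht ⟨α, hα, hmem⟩
    refine h1 (algebraMap A B α * t) ?_ ?_
    · intro h3
      rcases Ideal.IsPrime.mem_or_mem ‹q₀.IsPrime› h3 with h4 | h4
      · exact halg α hα h4
      · exact ht h4
    · rw [mul_smul, algebraMap_smul]; exact hmem
  set I₀ : Ideal BK := (⊥ : Submodule BK NK).colon {z₀} with hI₀
  have hI₀mem : ∀ β : BK, β ∈ I₀ ↔ β • z₀ = 0 := by
    intro β
    rw [hI₀, Submodule.mem_colon_singleton, Submodule.mem_bot]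
  have hI₀Q₀ : I₀ ≤ Q₀ := by
    intro β hβ
    obtain ⟨s, hs, b, e⟩ := exists_fibre_eq A p β
    have h3 : algebraMap B BK b ∈ I₀ := by
      rw [← e]; exact Ideal.mul_mem_left _ _ hβ
    have hb : b ∈ q₀ := by
      by_contra hbq
      exact h1' b hbq ((hz₀b b).mp ((hI₀mem _).mp h3))
    have h4 : algebraMap A BK s * β ∈ Q₀ := by rw [e]; exact (hQ₀comap b).mpr hb
    rcases hQ₀prime.mem_or_mem h4 with h5 | h5
    · exact absurd (Ideal.eq_top_of_isUnit_mem _ h5 (isUnit_algebraMap_fibre A p s hs))
        hQ₀prime.ne_top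
    · exact h5
  haveI := hQ₀prime
  obtain ⟨Q, hQmin, hQQ₀⟩ := Ideal.exists_minimalPrimes_le hI₀Q₀
  haveI hQprime : Q.IsPrime := hQmin.1.1
  have hI₀Q : I₀ ≤ Q := hQmin.1.2
  have hQass : IsAssociatedPrime Q NK := by
    set Z : Submodule BK NK := Submodule.span BK {z₀} with hZ
    have hann : Module.annihilator BK Z = I₀ := by
      ext β
      rw [hI₀mem]
      exact Submodule.mem_annihilator_span_singleton z₀ β
    have h3 : Q ∈ associatedPrimes BK Z := by
      apply Module.associatedPrimes.minimalPrimes_annihilator_subset_associatedPrimes BK Z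
      rw [hann]
      exact hQmin
    exact IsAssociatedPrime.map_of_injective (f := Z.subtype) h3 Z.injective_subtype
  refine ⟨Q, hQass, ?_⟩
  ext b
  rw [Ideal.mem_comap]
  constructor
  · intro hb
    exact (hQ₀comap b).mp (hQQ₀ hb)
  · intro hb
    obtain ⟨k, t, ht, hk⟩ := h2 b hb
    have h3 : algebraMap B BK (t * b ^ k) ∈ I₀ := by
      rw [hI₀mem, hz₀b, mul_smul]
      exact mem_fibKer_of_mem_pM A p hk
    have h4 : algebraMap B BK t * algebraMap B BK b ^ k ∈ Q := by
      rw [← map_pow, ← map_mul]; exact hI₀Q h3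
    rcases hQprime.mem_or_mem h4 with h5 | h5
    · exact absurd ((hQ₀comap t).mp (hQQ₀ h5)) ht
    · exact hQprime.mem_of_pow_mem _ h5

end FibreRing

section LemmaM

variable {k k' C C' : Type u} [Field k] [Field k'] [Algebra k k'] [CommRing C] [CommRing C']
  [Algebra k C] [Algebra k' C'] [Algebra C C'] [Algebra k C'] [IsScalarTower k C C']
  [IsScalarTower k k' C']

omit [Algebra k C] [Algebra k' C'] [Algebra k C'] [IsScalarTower k C C']
  [IsScalarTower k k' C'] [Algebra k k'] in
/-- The fibre ring `C' ⊗_C κ(Q)` of a Noetherian ring is Noetherian. -/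
theorem isNoetherianRing_fibre [IsNoetherianRing C'] (Q : Ideal C) [Q.IsPrime] :
    IsNoetherianRing (C' ⊗[C] Q.ResidueField) := by
  haveI : IsNoetherianRing (C' ⊗[C] Localization.AtPrime Q) :=
    IsLocalization.isNoetherianRing (Algebra.algebraMapSubmonoid C' Q.primeCompl) _ inferInstance
  let φ : C' ⊗[C] Localization.AtPrime Q →ₐ[C] C' ⊗[C] Q.ResidueField :=
    Algebra.TensorProduct.map (AlgHom.id C C')
      (IsScalarTower.toAlgHom C (Localization.AtPrime Q) Q.ResidueField)
  refine isNoetherianRing_of_surjective _ _ φ.toRingHom ?_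
  intro z
  induction z using TensorProduct.induction_on with
  | zero => exact ⟨0, map_zero _⟩
  | tmul c κ =>
    obtain ⟨y, rfl⟩ := IsLocalRing.residue_surjective κ
    refine ⟨c ⊗ₜ y, ?_⟩
    show φ (c ⊗ₜ y) = _
    rw [Algebra.TensorProduct.map_tmul]
    rfl
  | add x y hx hy =>
    obtain ⟨a, rfl⟩ := hx
    obtain ⟨b, rfl⟩ := hy
    exact ⟨a + b, map_add _ _ _⟩

/-- The fibre ring `C' ⊗_C κ(Q)` of `C → C' = C ⊗_k k'` has no embedded primes. -/
theorem fibre_assoc_subset_minimal [IsNoetherianRing C'] [hpo : Algebra.IsPushout k C k' C']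
    (Q : Ideal C) [Q.IsPrime] :
    associatedPrimes (C' ⊗[C] Q.ResidueField) (C' ⊗[C] Q.ResidueField) ⊆
      minimalPrimes (C' ⊗[C] Q.ResidueField) := by
  set K := Q.ResidueField with hK
  set E := C' ⊗[C] K with hE
  haveI hnoeth : IsNoetherianRing E := isNoetherianRing_fibre Q
  haveI towkKE : IsScalarTower k K E := IsScalarTower.of_algebraMap_eq (fun a => by
    rw [IsScalarTower.algebraMap_apply k C K, IsScalarTower.algebraMap_apply k C' E, IsScalarTower.algebraMap_apply k C C',
      ← IsScalarTower.algebraMap_apply C C' E, ← IsScalarTower.algebraMap_apply C K E])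
  have hP : Algebra.IsPushout k K k' E :=
    (Algebra.IsPushout.comp_iff k C (T := K) k' C' (T' := E)).mpr inferInstance
  haveI := hP
  let e : K ⊗[k] k' ≃ₐ[K] E := Algebra.IsPushout.equiv k K k' E
  haveI : IsNoetherianRing (K ⊗[k] k') := isNoetherianRing_of_ringEquiv E e.symm.toRingEquiv
  exact assoc_subset_minimal_of_bijective (e : K ⊗[k] k' →+* E) e.bijective
    (Groth.Agent.Lib.AssTensorFields.main (k := k) (K := K) (L := k'))

/-- **No embedded primes after a field extension**: for `C' = C ⊗_k k'`, the associated primes of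
`C'/QC'` are minimal over `QC'`. -/
theorem mem_minimalPrimes_of_mem_associatedPrimes_tensorQuot [IsNoetherianRing C]
    [IsNoetherianRing C'] [Module.Flat C C'] [hpo : Algebra.IsPushout k C k' C']
    (Q : Ideal C) [Q.IsPrime] (Q' : Ideal C')
    (hQ' : Q' ∈ associatedPrimes C' (C' ⊗[C] (C ⧸ Q))) :
    Q' ∈ (Q.map (algebraMap C C')).minimalPrimes := by
  set K := Q.ResidueField with hK
  set E := C' ⊗[C] K with hE
  have hEmin : associatedPrimes E E ⊆ minimalPrimes E :=
    fibre_assoc_subset_minimal (k := k) (k' := k') Q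
  haveI hnoeth : IsNoetherianRing E := isNoetherianRing_fibre Q
  have key : ∀ P' : Ideal C', P' ∈ associatedPrimes C' (C' ⊗[C] (C ⧸ Q)) →
      ∃ P ∈ minimalPrimes E, P.comap (algebraMap C' E) = P' := by
    intro P' hP'
    let ι₀ : (C ⧸ Q) →ₗ[C] K := (IsScalarTower.toAlgHom C (C ⧸ Q) K).toLinearMap
    have hι₀ : Function.Injective ι₀ := Ideal.injective_algebraMap_quotient_residueField Q
    have h1 : P' ∈ associatedPrimes C' E :=
      IsAssociatedPrime.map_of_injective (f := Groth.Agent.AssFlat.lT C' C' ι₀) hP'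
        (Groth.Agent.AssFlat.lT_injective (S := C') (N := C') ι₀ hι₀)
    obtain ⟨P, hP, hPP'⟩ := exists_comap_eq_of_mem_associatedPrimes (R := C') (S := E) (M := E) P' h1
    exact ⟨P, hEmin hP, hPP'⟩
  have hQ'Q : Q'.comap (algebraMap C C') = Q :=
    Groth.Agent.AssFlat.comap_eq_of_mem_associatedPrimes_quot (S := C') (N := C') Q Q' hQ'
  have hle : Q.map (algebraMap C C') ≤ Q' := by
    rw [Ideal.map_le_iff_le_comap, hQ'Q]
  haveI hQ'prime : Q'.IsPrime := IsAssociatedPrime.isPrime hQ'
  obtain ⟨P₀, hP₀min, hP₀le⟩ := Ideal.exists_minimalPrimes_le hle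
  have hP₀ass : P₀ ∈ associatedPrimes C' (C' ⊗[C] (C ⧸ Q)) := by
    rw [← Groth.Agent.AssFlat.associatedPrimes_tensorQuot (S := C') (N := C') Q]
    have hJ : (Q.map (algebraMap C C') • (⊤ : Submodule C' C')) = Q.map (algebraMap C C') := by
      show (Q.map (algebraMap C C') : Ideal C') * (⊤ : Ideal C') = _
      exact Ideal.mul_top _
    have h2 : P₀ ∈ associatedPrimes C' (C' ⧸ Q.map (algebraMap C C')) := by
      apply Module.associatedPrimes.minimalPrimes_annihilator_subset_associatedPrimes C' _
      rw [Ideal.annihilator_quotient]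
      exact hP₀min
    rw [LinearEquiv.AssociatedPrimes.eq (Submodule.quotEquivOfEq _ _ hJ)]
    exact h2
  obtain ⟨P, hPmin, hPQ'⟩ := key Q' hQ'
  obtain ⟨P₁, hP₁min, hP₁P₀⟩ := key P₀ hP₀ass
  have hP₁P : P₁ ≤ P := le_of_comap_le C Q P₁ P (by rw [hP₁P₀, hPQ']; exact hP₀le)
  have hPP₁ : P ≤ P₁ := hPmin.2 ⟨hP₁min.1.1, bot_le⟩ hP₁P
  have : P₀ = Q' := by rw [← hP₁P₀, ← hPQ', le_antisymm hP₁P hPP₁]
  rw [← this]
  exact hP₀min

end LemmaM

section Main3

variable {A B A' B' : Type u} [CommRing A] [CommRing B] [CommRing A'] [CommRing B'] [Algebra A B]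
  [Algebra A A'] [Algebra A' B'] [Algebra B B'] [Algebra A B'] [IsScalarTower A B B']
  [IsScalarTower A A' B']
  {M M' : Type u} [AddCommGroup M] [Module B M] [Module A M] [IsScalarTower A B M]
  [AddCommGroup M'] [Module B' M'] [Module A' M'] [IsScalarTower A' B' M'] [Module B M']
  [IsScalarTower B B' M']

/-- **Relative associated primes under base change**: `q'` is a relative associated prime of the
base change `M'` iff its contraction `q` is a relative associated prime of `M` and `q'` is maximal
under generization among the primes over `q` and over `q' ∩ A'`. -/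
theorem relAssElem_baseChange_iff [Algebra.FiniteType A B]
    [hpo : Algebra.IsPushout A B A' B'] (ι : M →ₗ[B] M') (hι : IsBaseChange B' ι)
    (q' : Ideal B') [q'.IsPrime] :
    RelAssElem A' M' q' ↔
      RelAssElem A M (q'.comap (algebraMap B B')) ∧
        ∀ q'' : Ideal B', q''.IsPrime → q'' ≤ q' →
          q''.comap (algebraMap B B') = q'.comap (algebraMap B B') →
          q''.comap (algebraMap A' B') = q'.comap (algebraMap A' B') → q'' = q' := by
  haveI hY0 : Algebra.IsPushout A A' B B' := hpo.symm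
  haveI hft' : Algebra.FiniteType A' B' :=
    Algebra.FiniteType.equiv (inferInstance : Algebra.FiniteType A' (A' ⊗[A] B))
      (Algebra.IsPushout.equiv A A' B B')
  set p' := q'.comap (algebraMap A' B') with hp'
  haveI : p'.IsPrime := Ideal.comap_isPrime _ _
  set p := p'.comap (algebraMap A A') with hp
  haveI : p.IsPrime := Ideal.comap_isPrime _ _
  set q := q'.comap (algebraMap B B') with hq
  haveI : q.IsPrime := Ideal.comap_isPrime _ _
  have hqp : q.comap (algebraMap A B) = p := by
    rw [hq, hp, hp', Ideal.comap_comap, Ideal.comap_comap, ← IsScalarTower.algebraMap_eq,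
      ← IsScalarTower.algebraMap_eq]
  have hpp' : p = p'.comap (algebraMap A A') := rfl
  set k := p.ResidueField with hk
  set k' := p'.ResidueField with hk'
  set C := B ⊗[A] k with hC
  set C' := B' ⊗[A'] k' with hC'
  letI algkk' : Algebra k k' := (Ideal.ResidueField.map p p' (algebraMap A A') hpp').toAlgebra
  haveI towAkk' : IsScalarTower A k k' := .of_algebraMap_eq (fun a => by
    rw [RingHom.algebraMap_toAlgebra, Ideal.ResidueField.map_algebraMap]
    exact IsScalarTower.algebraMap_apply A A' k' a)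
  haveI towAk'C' : IsScalarTower A k' C' := .of_algebraMap_eq (fun a => by
    rw [IsScalarTower.algebraMap_apply A A' C', IsScalarTower.algebraMap_apply A A' k',
      ← IsScalarTower.algebraMap_apply A' k' C'])
  let f : B →ₐ[A] C' := IsScalarTower.toAlgHom A B C'
  let g : k →ₐ[A] C' := (IsScalarTower.toAlgHom A k' C').comp (IsScalarTower.toAlgHom A k k')
  let ψ : C →ₐ[A] C' := Algebra.TensorProduct.lift f g (fun _ _ => Commute.all _ _)
  have hψ : ∀ (b : B) (x : k), ψ (b ⊗ₜ[A] x) = f b * g x := fun b x =>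
    Algebra.TensorProduct.lift_tmul f g _ b x
  letI algCC' : Algebra C C' := ψ.toRingHom.toAlgebra
  letI algkC' : Algebra k C' := ((algebraMap k' C').comp (algebraMap k k')).toAlgebra
  haveI tow1 : IsScalarTower k k' C' := .of_algebraMap_eq (fun _ => rfl)
  haveI tow2 : IsScalarTower A C C' := .of_algebraMap_eq (fun a => (ψ.commutes a).symm)
  haveI tow3 : IsScalarTower B C C' := .of_algebraMap_eq (fun b => by
    have e1 : algebraMap B C b = b ⊗ₜ[A] (1 : k) := rfl
    show algebraMap B C' b = ψ (algebraMap B C b)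
    rw [e1, hψ, map_one, mul_one]
    rfl)
  haveI tow4 : IsScalarTower k C C' := .of_algebraMap_eq (fun x => by
    have e1 : algebraMap k C x = (1 : B) ⊗ₜ[A] x :=
      Algebra.TensorProduct.right_algebraMap_apply x
    show algebraMap k' C' (algebraMap k k' x) = ψ (algebraMap k C x)
    rw [e1, hψ, map_one, one_mul]
    rfl)
  -- the pushout squares
  have hY : Algebra.IsPushout A k' B C' :=
    (Algebra.IsPushout.comp_iff A A' (T := k') B B' (T' := C')).mpr inferInstance
  have hX : Algebra.IsPushout k k' C C' :=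
    (Algebra.IsPushout.comp_iff A k (T := k') B C (T' := C')).mp hY
  haveI hX' : Algebra.IsPushout k C k' C' := hX.symm
  haveI ffl : Module.FaithfullyFlat C C' :=
    Module.FaithfullyFlat.of_linearEquiv C (C ⊗[k] k')
      (Algebra.IsPushout.equiv k C k' C').symm.toLinearEquiv
  haveI : Module.Flat C C' := inferInstance
  -- Noetherianity
  haveI : IsNoetherianRing (k ⊗[A] B) := Algebra.FiniteType.isNoetherianRing k (k ⊗[A] B)
  haveI : IsNoetherianRing C :=
    isNoetherianRing_of_ringEquiv (k ⊗[A] B) (Algebra.TensorProduct.comm A k B).toRingEquiv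
  haveI : IsNoetherianRing (k' ⊗[A'] B') := Algebra.FiniteType.isNoetherianRing k' (k' ⊗[A'] B')
  haveI : IsNoetherianRing C' :=
    isNoetherianRing_of_ringEquiv (k' ⊗[A'] B') (Algebra.TensorProduct.comm A' k' B').toRingEquiv
  -- the base change map of fibre modules
  set G := C ⊗[B] M with hG
  set G' := C' ⊗[B'] M' with hG'
  have hbG : IsBaseChange C (TensorProduct.mk B C M 1) := TensorProduct.isBaseChange B M C
  have hbG' : IsBaseChange C' (TensorProduct.mk B' C' M' 1) := TensorProduct.isBaseChange B' M' C'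
  have hcomp : IsBaseChange C' (((TensorProduct.mk B' C' M' 1).restrictScalars B) ∘ₗ ι) :=
    hι.comp hbG'
  set j : G →ₗ[C] G' := hbG.lift (((TensorProduct.mk B' C' M' 1).restrictScalars B) ∘ₗ ι) with hj
  have hjb : IsBaseChange C' j := by
    refine IsBaseChange.of_comp hbG ?_
    rw [hj, IsBaseChange.lift_comp]
    exact hcomp
  have hcomap : ∀ Q' : Ideal C', (Q'.comap (algebraMap C C')).comap (algebraMap B C) =
      (Q'.comap (algebraMap B' C')).comap (algebraMap B B') := by
    intro Q'
    rw [Ideal.comap_comap, Ideal.comap_comap, ← IsScalarTower.algebraMap_eq,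
      ← IsScalarTower.algebraMap_eq]
  constructor
  · intro hrel'
    obtain ⟨Q', hQ'ass, hQ'q'⟩ := exists_isAssociatedPrime_of_relAssElem' A' p' q' rfl hrel'
    haveI hQ'prime : Q'.IsPrime := IsAssociatedPrime.isPrime hQ'ass
    have h1 : Q' ∈ associatedPrimes C' (C' ⊗[C] G) := by
      rw [LinearEquiv.AssociatedPrimes.eq hjb.equiv]
      exact hQ'ass
    obtain ⟨hQass, hQ'quot⟩ :=
      Groth.Agent.AssFlat.mem_of_mem_associatedPrimes_tensor (S := C') (N := C') G Q' h1
    set Q := Q'.comap (algebraMap C C') with hQ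
    haveI : Q.IsPrime := Ideal.comap_isPrime _ _
    have hQq : Q.comap (algebraMap B C) = q := by
      rw [hQ, hcomap Q', hQ'q']
    refine ⟨?_, ?_⟩
    · obtain ⟨-, hrelQ⟩ := relAssElem_of_isAssociatedPrime A p Q hQass
      rwa [hQq] at hrelQ
    · have hmin : Q' ∈ (Q.map (algebraMap C C')).minimalPrimes :=
        mem_minimalPrimes_of_mem_associatedPrimes_tensorQuot (k := k) (k' := k') Q Q' hQ'quot
      intro q'' hq''prime hle hqB hqA'
      haveI := hq''prime
      obtain ⟨P', hP'prime, hP'q''⟩ := exists_prime_comap_eq A' p' q'' hqA'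
      have hP'le : P' ≤ Q' := le_of_comap_le A' p' P' Q' (by rw [hP'q'', hQ'q']; exact hle)
      have hQP' : Q.map (algebraMap C C') ≤ P' := by
        rw [Ideal.map_le_iff_le_comap]
        apply le_of_comap_le A p
        rw [hcomap P', hP'q'', hqB, hQq]
      have hQ'P' : Q' ≤ P' := hmin.2 ⟨hP'prime, hQP'⟩ hP'le
      rw [← hP'q'', ← hQ'q', le_antisymm hP'le hQ'P']
  · rintro ⟨hrel, hmax⟩
    obtain ⟨Q, hQass, hQq⟩ := exists_isAssociatedPrime_of_relAssElem' A p q hqp hrel
    haveI hQprime : Q.IsPrime := IsAssociatedPrime.isPrime hQass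
    obtain ⟨Q', hQ'prime, hQ'q'⟩ := exists_prime_comap_eq A' p' q' rfl
    haveI := hQ'prime
    have hQ'Q : Q'.comap (algebraMap C C') = Q := by
      apply le_antisymm
      · apply le_of_comap_le A p
        rw [hcomap Q', hQ'q', hQq]
      · apply le_of_comap_le A p
        rw [hcomap Q', hQ'q', hQq]
    obtain ⟨P', hP'min, hP'le⟩ := Ideal.exists_minimalPrimes_le
      (I := Q.map (algebraMap C C')) (J := Q') (by rw [Ideal.map_le_iff_le_comap, hQ'Q])
    haveI hP'prime : P'.IsPrime := hP'min.1.1
    have hP'Q : P'.comap (algebraMap C C') = Q := by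
      apply le_antisymm
      · rw [← hQ'Q]
        exact Ideal.comap_mono hP'le
      · exact Ideal.map_le_iff_le_comap.mp hP'min.1.2
    have e1 : (P'.comap (algebraMap B' C')).comap (algebraMap B B') = q := by
      rw [← hcomap P', hP'Q, hQq]
    have e2 : (P'.comap (algebraMap B' C')).comap (algebraMap A' B') = p' :=
      comap_comap_eq A' p' P'
    have e3 : P'.comap (algebraMap B' C') ≤ q' := by
      rw [← hQ'q']
      exact Ideal.comap_mono hP'le
    have e4 := hmax _ (Ideal.comap_isPrime _ _) e3 e1 e2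
    have hP'Q' : P' = Q' :=
      le_antisymm hP'le (le_of_comap_le A' p' _ _ (by rw [e4, hQ'q']))
    have hQ'min : Q' ∈ (Q.map (algebraMap C C')).minimalPrimes := by
      rw [← hP'Q']
      exact hP'min
    have hJ : (Q.map (algebraMap C C') • (⊤ : Submodule C' C')) = Q.map (algebraMap C C') := by
      show (Q.map (algebraMap C C') : Ideal C') * (⊤ : Ideal C') = _
      exact Ideal.mul_top _
    have h2 : Q' ∈ associatedPrimes C' (C' ⧸ Q.map (algebraMap C C')) := by
      apply Module.associatedPrimes.minimalPrimes_annihilator_subset_associatedPrimes C' _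
      rw [Ideal.annihilator_quotient]
      exact hQ'min
    have h2' : Q' ∈ associatedPrimes C'
        (C' ⧸ (Q.map (algebraMap C C') • (⊤ : Submodule C' C'))) := by
      rw [LinearEquiv.AssociatedPrimes.eq (Submodule.quotEquivOfEq _ _ hJ)]
      exact h2
    have h3 : Q' ∈ associatedPrimes C' (C' ⊗[C] G) := by
      rw [Groth.Agent.AssFlat.associatedPrimes_tensor]
      simp only [Set.mem_iUnion]
      exact ⟨Q, hQass, h2'⟩
    have h4 : IsAssociatedPrime Q' G' := by
      have : Q' ∈ associatedPrimes C' G' := by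
        rw [← LinearEquiv.AssociatedPrimes.eq hjb.equiv]
        exact h3
      exact this
    obtain ⟨-, hrelQ'⟩ := relAssElem_of_isAssociatedPrime A' p' Q' h4
    rwa [hQ'q'] at hrelQ'

end Main3

end Groth.Agent.Lib.RelAssBC
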