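import Mathlib
import Groth.Prelude
import Groth.Agent.Lib.RelAssAlg2_helper2
import Groth.Agent.Lib.RelAssAlg3_helper2
import Groth.Agent.Lib.StalkLoc_helper8
import Groth.Agent.Lib.GenFlatSch_helper8
import Groth.Agent.Lib.QCohFT_helper9

/-!
# Relative associated points: spreading out from the generic fibre (helper2)

`f : X ⟶ Y` of finite type, `Y` irreducible, `F` quasi-coherent of finite type on `X`, `U ⊆ X` open.
If the relative associated points of `F` over the generic point lie in `U`, the same holds over a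
nonempty open of `Y` (S1368).
APPEND-ONLY once landed.
-/

set_option autoImplicit false
set_option maxHeartbeats 1000000
universe u

open CategoryTheory AlgebraicGeometry TopologicalSpace Opposite

namespace Groth.Agent.Lib.RelAssSpread

open Groth.Agent.Lib.RelAssAlg

section Alg

variable (A : Type u) {B M : Type u} [CommRing A] [CommRing B] [Algebra A B] [AddCommGroup M]
  [Module B M] [Module A M] [IsScalarTower A B M]

/-- **Algebraic core of S1368.** -/
theorem core (n : Ideal A) [n.IsPrime] (hn : ∀ p : Ideal A, p.IsPrime → n ≤ p)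
    [Algebra.FiniteType A B] [Module.Finite B M] (J : Ideal B)
    (H : ∀ q : Ideal B, q.IsPrime → q.comap (algebraMap A B) = n → RelAssElem A M q → ¬ J ≤ q) :
    ∃ a : A, a ∉ n ∧ ∀ q : Ideal B, q.IsPrime → a ∉ q.comap (algebraMap A B) →
      RelAssElem A M q → ¬ J ≤ q := by
  obtain ⟨h, hJ, hreg⟩ := exists_fibReg_mem A n J H
  obtain ⟨a, ha, hspread⟩ := fibReg_spread A n hn h hreg
  refine ⟨a, ha, fun q hq haq hrel hle => ?_⟩
  haveI := hq
  exact not_mem_of_relAssElem A q h (hspread _ (Ideal.comap_isPrime _ _) haq) hrel (hle hJ)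

end Alg

variable {X Y : Scheme.{u}}

theorem mem_prime_iff {U : X.Opens} (hU : IsAffineOpen U) {x : X} (hx : x ∈ U) (g : Γ(X, U)) :
    g ∈ (hU.primeIdealOf ⟨x, hx⟩).asIdeal ↔
      (X.presheaf.germ U x hx).hom g ∈ IsLocalRing.maximalIdeal (X.presheaf.stalk x) := by
  rw [hU.primeIdealOf_eq_map_closedPoint]
  exact Iff.rfl

theorem mem_basicOpen_iff_notMem_prime {U : X.Opens} (hU : IsAffineOpen U) {x : X} (hx : x ∈ U)
    (g : Γ(X, U)) : x ∈ X.basicOpen g ↔ g ∉ (hU.primeIdealOf ⟨x, hx⟩).asIdeal := by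
  rw [mem_prime_iff hU hx, IsLocalRing.mem_maximalIdeal, mem_nonunits_iff, not_not]
  exact Scheme.mem_basicOpen _ _ _ hx

/-- The point of an affine open attached to a prime ideal of its ring of sections. -/
theorem exists_point_of_prime {U : X.Opens} (hU : IsAffineOpen U) (q : Ideal Γ(X, U))
    (hq : q.IsPrime) : ∃ (x : X) (hx : x ∈ U), (hU.primeIdealOf ⟨x, hx⟩).asIdeal = q := by
  set 𝔭 : PrimeSpectrum Γ(X, U) := ⟨q, hq⟩ with h𝔭
  set x : X := hU.fromSpec 𝔭 with hxdef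
  have hxU : x ∈ U := by
    have : x ∈ hU.fromSpec.opensRange := ⟨𝔭, rfl⟩
    rwa [hU.opensRange_fromSpec] at this
  have hprime : hU.primeIdealOf ⟨x, hxU⟩ = 𝔭 := by
    apply hU.fromSpec.isOpenEmbedding.injective
    rw [hU.fromSpec_primeIdealOf]
  exact ⟨x, hxU, by rw [hprime]⟩

theorem eq_of_prime_eq {U : X.Opens} (hU : IsAffineOpen U) {x y : X} (hx : x ∈ U) (hy : y ∈ U)
    (h : (hU.primeIdealOf ⟨x, hx⟩).asIdeal = (hU.primeIdealOf ⟨y, hy⟩).asIdeal) : x = y := by
  have h1 : hU.primeIdealOf ⟨x, hx⟩ = hU.primeIdealOf ⟨y, hy⟩ := PrimeSpectrum.ext h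
  have h2 := congrArg hU.fromSpec h1
  rwa [hU.fromSpec_primeIdealOf, hU.fromSpec_primeIdealOf] at h2

section Chart

variable (f : X ⟶ Y) (F : X.Modules) [F.IsQuasicoherent]

/-- The relative assassin on an affine chart, in elementary terms. -/
theorem mem_relAss_iff {V : Y.Opens} (hV : IsAffineOpen V) {W : X.Opens} (hW : IsAffineOpen W)
    (e : W ≤ f ⁻¹ᵁ V) {x : X} (hxW : x ∈ W) :
    letI : Algebra Γ(Y, V) Γ(X, W) := (f.appLE V W e).hom.toAlgebra
    letI : Module Γ(Y, V) Γ(F, W) := Module.compHom Γ(F, W) (f.appLE V W e).hom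
    x ∈ MoreMor.relAss f F ↔
      RelAssElem Γ(Y, V) Γ(F, W) (hW.primeIdealOf ⟨x, hxW⟩).asIdeal := by
  letI algAB : Algebra Γ(Y, V) Γ(X, W) := (f.appLE V W e).hom.toAlgebra
  letI modAM : Module Γ(Y, V) Γ(F, W) := Module.compHom Γ(F, W) (f.appLE V W e).hom
  haveI : IsScalarTower Γ(Y, V) Γ(X, W) Γ(F, W) :=
    IsScalarTower.of_algebraMap_smul (fun _ _ => rfl)
  have hyV : f x ∈ V := e hxW
  set q := (hW.primeIdealOf ⟨x, hxW⟩).asIdeal with hq
  letI algX := TopCat.Presheaf.algebra_section_stalk X.presheaf (⟨x, hxW⟩ : W)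
  haveI locX : IsLocalization.AtPrime (X.presheaf.stalk x) q := hW.isLocalization_stalk ⟨x, hxW⟩
  letI algY := TopCat.Presheaf.algebra_section_stalk Y.presheaf (⟨f x, hyV⟩ : V)
  haveI locY : IsLocalization.AtPrime (Y.presheaf.stalk (f x))
      (hV.primeIdealOf ⟨f x, hyV⟩).asIdeal := hV.isLocalization_stalk ⟨f x, hyV⟩
  letI modB : Module Γ(X, W) (F.presheaf.stalk x) := StalkLocH8.modSec F hxW
  haveI : IsScalarTower Γ(X, W) (X.presheaf.stalk x) (F.presheaf.stalk x) :=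
    IsScalarTower.of_algebraMap_smul (fun _ _ => rfl)
  haveI := StalkLocH8.isLocalizedModule_germLin F hW hxW
  have hcomap : q.comap (algebraMap Γ(Y, V) Γ(X, W)) = (hV.primeIdealOf ⟨f x, hyV⟩).asIdeal := by
    have := IsAffineOpen.comap_primeIdealOf_appLE (f := f) V hV W hW e hxW
    exact congrArg PrimeSpectrum.asIdeal this
  have hI : Ideal.map (f.stalkMap x).hom (IsLocalRing.maximalIdeal (Y.presheaf.stalk (f x))) =
      ((q.comap (algebraMap Γ(Y, V) Γ(X, W))).map (algebraMap Γ(Y, V) Γ(X, W))).map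
        (algebraMap Γ(X, W) (X.presheaf.stalk x)) := by
    rw [hcomap, ← IsLocalization.AtPrime.map_eq_maximalIdeal
      (hV.primeIdealOf ⟨f x, hyV⟩).asIdeal (Y.presheaf.stalk (f x)), Ideal.map_map, Ideal.map_map]
    congr 1
    ext r
    exact GenFlatSchH8.stalkMap_germ_appLE f e hxW r
  exact isAssociatedPrime_iff_relAssElem Γ(Y, V) q (X.presheaf.stalk x) (F.presheaf.stalk x)
    (StalkLocH8.germLin F hxW) _ hI

variable [IrreducibleSpace Y] [LocallyOfFiniteType f]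
  [hFT : SheafOfModules.IsFiniteType (R := X.ringCatSheaf) F]

/-- The chart form of S1368. -/
theorem chart (U : X.Opens)
    (h : ∀ x ∈ MoreMor.relAss f F, f x = genericPoint Y → x ∈ U)
    {V : Y.Opens} (hV : IsAffineOpen V) (hηV : genericPoint Y ∈ V) {W : X.Opens}
    (hW : IsAffineOpen W) (e : W ≤ f ⁻¹ᵁ V) :
    ∃ a : Γ(Y, V), a ∉ (hV.primeIdealOf ⟨genericPoint Y, hηV⟩).asIdeal ∧
      ∀ x ∈ MoreMor.relAss f F, ∀ hxW : x ∈ W,
        a ∉ (hV.primeIdealOf ⟨f x, e hxW⟩).asIdeal → x ∈ U := by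
  letI algAB : Algebra Γ(Y, V) Γ(X, W) := (f.appLE V W e).hom.toAlgebra
  letI modAM : Module Γ(Y, V) Γ(F, W) := Module.compHom Γ(F, W) (f.appLE V W e).hom
  haveI : IsScalarTower Γ(Y, V) Γ(X, W) Γ(F, W) :=
    IsScalarTower.of_algebraMap_smul (fun _ _ => rfl)
  have hft : (f.appLE V W e).hom.FiniteType :=
    HasRingHomProperty.appLE @LocallyOfFiniteType f inferInstance ⟨V, hV⟩ ⟨W, hW⟩ _
  haveI : Algebra.FiniteType Γ(Y, V) Γ(X, W) := hft
  haveI : Module.Finite Γ(X, W) Γ(F, W) := QCohFT.finite_of_isFiniteType F hW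
  set n := (hV.primeIdealOf ⟨genericPoint Y, hηV⟩).asIdeal with hn
  set J : Ideal Γ(X, W) := Ideal.span {g : Γ(X, W) | X.basicOpen g ≤ U} with hJ
  -- the generic prime is contained in all primes
  have hnle : ∀ p : Ideal Γ(Y, V), p.IsPrime → n ≤ p := by
    intro p hp a ha
    by_contra hap
    obtain ⟨y, hyV, hyp⟩ := exists_point_of_prime hV p hp
    have hy : y ∈ Y.basicOpen a := by
      rw [mem_basicOpen_iff_notMem_prime hV hyV, hyp]; exact hap
    have hη : genericPoint Y ∈ Y.basicOpen a :=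
      ((genericPoint_spec Y).mem_open_set_iff (Y.basicOpen a).2).mpr ⟨y, trivial, hy⟩
    rw [mem_basicOpen_iff_notMem_prime hV hηV] at hη
    exact hη ha
  have comapEq : ∀ (x : X) (hxW : x ∈ W),
      ((hW.primeIdealOf ⟨x, hxW⟩).asIdeal).comap (algebraMap Γ(Y, V) Γ(X, W)) =
        (hV.primeIdealOf ⟨f x, e hxW⟩).asIdeal := by
    intro x hxW
    have := IsAffineOpen.comap_primeIdealOf_appLE (f := f) V hV W hW e hxW
    exact congrArg PrimeSpectrum.asIdeal this
  obtain ⟨a, han, hcore⟩ := core Γ(Y, V) (M := Γ(F, W)) n hnle J (by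
    intro q hq hqn hrel hle
    obtain ⟨x, hxW, hxq⟩ := exists_point_of_prime hW q hq
    have hrel' : x ∈ MoreMor.relAss f F := by
      rw [mem_relAss_iff f F hV hW e hxW, hxq]; exact hrel
    have hfx : f x = genericPoint Y := by
      apply eq_of_prime_eq hV (e hxW) hηV
      rw [← comapEq x hxW, hxq, hqn]
    have hxU : x ∈ U := h x hrel' hfx
    obtain ⟨g, hgU, hxg⟩ := hW.exists_basicOpen_le (V := U) ⟨x, hxU⟩ hxW
    have hgq : g ∉ q := by
      rw [← hxq, ← mem_basicOpen_iff_notMem_prime hW hxW]; exact hxg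
    exact hgq (hle (Ideal.subset_span hgU)))
  refine ⟨a, han, ?_⟩
  intro x hx hxW hax
  have hq : ((hW.primeIdealOf ⟨x, hxW⟩).asIdeal).IsPrime := inferInstance
  have hnot := hcore _ hq (by rw [comapEq x hxW]; exact hax)
    ((mem_relAss_iff f F hV hW e hxW).mp hx)
  -- some generator of `J` is not in the prime
  have : ∃ g : Γ(X, W), X.basicOpen g ≤ U ∧ g ∉ (hW.primeIdealOf ⟨x, hxW⟩).asIdeal := by
    by_contra hcon
    push_neg at hcon
    apply hnot
    rw [hJ, Ideal.span_le]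
    intro g hg
    exact hcon g hg
  obtain ⟨g, hgU, hgq⟩ := this
  exact hgU ((mem_basicOpen_iff_notMem_prime hW hxW g).mpr hgq)

end Chart

/-- **S1368.** -/
theorem main1368 (f : X ⟶ Y) [IrreducibleSpace Y] [LocallyOfFiniteType f] [QuasiCompact f]
    (F : X.Modules) (hF : Coh.IsCoh F) (U : X.Opens)
    (h : ∀ x ∈ MoreMor.relAss f F, f x = genericPoint Y → x ∈ U) :
    ∃ V : Y.Opens, (V : Set Y).Nonempty ∧ ∀ x ∈ MoreMor.relAss f F, f x ∈ V → x ∈ U := by
  classical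
  haveI : F.IsQuasicoherent := hF.1
  haveI : SheafOfModules.IsFiniteType (R := X.ringCatSheaf) F := hF.2
  obtain ⟨_, ⟨V, hV, rfl⟩, hηV, -⟩ := Y.isBasis_affineOpens.exists_subset_of_mem_open
    (Set.mem_univ (genericPoint Y)) isOpen_univ
  have hV : IsAffineOpen V := hV
  have hηV : genericPoint Y ∈ V := hηV
  have hcpt : IsCompact (f.base ⁻¹' (V : Set Y)) :=
    QuasiCompact.isCompact_preimage (f := f) _ V.2 hV.isCompact
  have hcov : ∀ x ∈ f.base ⁻¹' (V : Set Y), ∃ W : X.Opens, IsAffineOpen W ∧ x ∈ W ∧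
      W ≤ f ⁻¹ᵁ V := by
    intro x hx
    obtain ⟨_, ⟨W, hW, rfl⟩, hxW, hWV⟩ := X.isBasis_affineOpens.exists_subset_of_mem_open
      (show x ∈ ((f ⁻¹ᵁ V : X.Opens) : Set X) from hx) (f ⁻¹ᵁ V).2
    exact ⟨W, hW, hxW, hWV⟩
  choose! Wf hWf hxWf hWfV using hcov
  obtain ⟨t, htcov⟩ := hcpt.elim_nhds_subcover' (fun x hx => (Wf x : Set X))
    (fun x hx => (Wf x).2.mem_nhds (hxWf x hx))
  have hch : ∀ z : (f.base ⁻¹' (V : Set Y)), ∃ a : Γ(Y, V),
      a ∉ (hV.primeIdealOf ⟨genericPoint Y, hηV⟩).asIdeal ∧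
      ∀ x ∈ MoreMor.relAss f F, ∀ hxW : x ∈ Wf z,
        a ∉ (hV.primeIdealOf ⟨f x, hWfV z z.2 hxW⟩).asIdeal → x ∈ U := fun z =>
    chart f F U h hV hηV (hWf z z.2) (hWfV z z.2)
  choose af hafη haf using hch
  set a : Γ(Y, V) := ∏ z ∈ t, af z with ha
  refine ⟨Y.basicOpen a, ⟨genericPoint Y, ?_⟩, ?_⟩
  · change genericPoint Y ∈ Y.basicOpen a
    rw [mem_basicOpen_iff_notMem_prime hV hηV, ha, Ideal.IsPrime.prod_mem_iff]
    rintro ⟨z, -, hz⟩
    exact hafη z hz
  · intro x hx hxa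
    have hxV : f.base x ∈ V := Y.basicOpen_le a hxa
    obtain ⟨z, hzt, hxz⟩ : ∃ z ∈ t, x ∈ Wf z := by
      have := htcov hxV
      simpa using this
    refine haf z x hx hxz ?_
    rw [mem_basicOpen_iff_notMem_prime hV hxV] at hxa
    intro hmem
    apply hxa
    rw [ha, ← Finset.mul_prod_erase t af hzt]
    exact Ideal.mul_mem_right _ _ hmem

end Groth.Agent.Lib.RelAssSpread
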