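import Mathlib
import Groth.Prelude
import Groth.Agent.Lib.RelAssBC2_helper2
import Groth.Agent.Lib.RelAssSpread_helper2
import Groth.Agent.Lib.FibKoszulSch_helper2
import Groth.Agent.Lib.PB7_helper8

/-!
# Relative associated points and base change (helper2, S9780)
APPEND-ONLY once landed.
-/

set_option autoImplicit false
set_option maxHeartbeats 1000000
universe u

open CategoryTheory CategoryTheory.Limits AlgebraicGeometry TopologicalSpace Opposite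

namespace Groth.Agent.Lib.RelAssBCSch

open Groth.Agent.Lib.RelAssAlg Groth.Agent.Lib.RelAssSpread Groth.Agent.Lib.RelAssBC

variable {X S X' S' : Scheme.{u}}

theorem primeIdealOf_congr {Y : Scheme.{u}} {V : Y.Opens} (hV : IsAffineOpen V) {y z : Y}
    (h : y = z) (hy : y ∈ V) (hz : z ∈ V) :
    hV.primeIdealOf ⟨y, hy⟩ = hV.primeIdealOf ⟨z, hz⟩ := by
  subst h
  rfl

/-- The chart form of the comparison of relative associated points under base change. -/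
theorem chartBC (f : X ⟶ S) [LocallyOfFiniteType f] (F : X.Modules) [F.IsQuasicoherent]
    [SheafOfModules.IsFiniteType (R := X.ringCatSheaf) F]
    (g : S' ⟶ S) (f' : X' ⟶ S') (g' : X' ⟶ X) (hc : IsPullback g' f' f g)
    {V : S.Opens} (hV : IsAffineOpen V) {V' : S'.Opens} (hV' : IsAffineOpen V')
    (hV'V : V' ≤ g ⁻¹ᵁ V) {W : X.Opens} (hW : IsAffineOpen W) (hWV : W ≤ f ⁻¹ᵁ V) :
    (∀ x' : X', x' ∈ g' ⁻¹ᵁ W ⊓ f' ⁻¹ᵁ V' →
      x' ∈ MoreMor.relAss f' ((Scheme.Modules.pullback g').obj F) → g' x' ∈ MoreMor.relAss f F) ∧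
    (∀ x : X, x ∈ W → x ∈ MoreMor.relAss f F → ∀ s' : S', s' ∈ V' → g s' = f x →
      ∃ x' : X', g' x' = x ∧ f' x' = s' ∧
        x' ∈ MoreMor.relAss f' ((Scheme.Modules.pullback g').obj F)) := by
  classical
  set W' : X'.Opens := g' ⁻¹ᵁ W ⊓ f' ⁻¹ᵁ V' with hW'def
  have hW' : IsAffineOpen W' :=
    Groth.Agent.Lib.FibKoszulSch.chart_affine hc hV hV' hW hV'V hWV
  have hpush := Groth.Agent.Lib.FibKoszulSch.chart_pushout hc hV hV' hW hV'V hWV
  set F' : X'.Modules := (Scheme.Modules.pullback g').obj F with hF'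
  haveI : F'.IsQuasicoherent := PBH8.isQuasicoherent_pullback g' F
  have eW'W : W' ≤ g' ⁻¹ᵁ W := inf_le_left
  have eW'V' : W' ≤ f' ⁻¹ᵁ V' := inf_le_right
  -- rings of the charts
  letI algAB : Algebra Γ(S, V) Γ(X, W) := (f.appLE V W hWV).hom.toAlgebra
  letI algAA' : Algebra Γ(S, V) Γ(S', V') := (g.appLE V V' hV'V).hom.toAlgebra
  letI algBB' : Algebra Γ(X, W) Γ(X', W') := (g'.appLE W W' eW'W).hom.toAlgebra
  letI algA'B' : Algebra Γ(S', V') Γ(X', W') := (f'.appLE V' W' eW'V').hom.toAlgebra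
  letI algAB' : Algebra Γ(S, V) Γ(X', W') :=
    ((algebraMap Γ(X, W) Γ(X', W')).comp (algebraMap Γ(S, V) Γ(X, W))).toAlgebra
  haveI : IsScalarTower Γ(S, V) Γ(X, W) Γ(X', W') := IsScalarTower.of_algebraMap_eq' rfl
  haveI : IsScalarTower Γ(S, V) Γ(S', V') Γ(X', W') := by
    refine IsScalarTower.of_algebraMap_eq' ?_
    show (g'.appLE W W' eW'W).hom.comp (f.appLE V W hWV).hom =
      (f'.appLE V' W' eW'V').hom.comp (g.appLE V V' hV'V).hom
    rw [← CommRingCat.hom_comp, ← CommRingCat.hom_comp, hpush.w]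
  haveI hpo : Algebra.IsPushout Γ(S, V) Γ(X, W) Γ(S', V') Γ(X', W') :=
    CommRingCat.isPushout_iff_isPushout.mp hpush
  have hft : (f.appLE V W hWV).hom.FiniteType :=
    HasRingHomProperty.appLE @LocallyOfFiniteType f inferInstance ⟨V, hV⟩ ⟨W, hW⟩ _
  haveI : Algebra.FiniteType Γ(S, V) Γ(X, W) := hft
  -- modules
  letI modAM : Module Γ(S, V) Γ(F, W) := Module.compHom Γ(F, W) (f.appLE V W hWV).hom
  haveI : IsScalarTower Γ(S, V) Γ(X, W) Γ(F, W) :=
    IsScalarTower.of_algebraMap_smul (fun _ _ => rfl)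
  haveI : Module.Finite Γ(X, W) Γ(F, W) := QCohFT.finite_of_isFiniteType F hW
  letI modA'M' : Module Γ(S', V') Γ(F', W') := Module.compHom Γ(F', W') (f'.appLE V' W' eW'V').hom
  haveI : IsScalarTower Γ(S', V') Γ(X', W') Γ(F', W') :=
    IsScalarTower.of_algebraMap_smul (fun _ _ => rfl)
  letI modBM' : Module Γ(X, W) Γ(F', W') := Module.compHom Γ(F', W') (g'.appLE W W' eW'W).hom
  haveI : IsScalarTower Γ(X, W) Γ(X', W') Γ(F', W') :=
    IsScalarTower.of_algebraMap_smul (fun _ _ => rfl)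
  have hι : IsBaseChange Γ(X', W') (PBH8.cUVLin g' F eW'W) := PBH8.isBaseChange_cUV g' F eW'W hW' hW
  -- contraction of primes
  have comapB : ∀ (x' : X') (hx' : x' ∈ W'),
      ((hW'.primeIdealOf ⟨x', hx'⟩).asIdeal).comap (algebraMap Γ(X, W) Γ(X', W')) =
        (hW.primeIdealOf ⟨g' x', eW'W hx'⟩).asIdeal := by
    intro x' hx'
    have := IsAffineOpen.comap_primeIdealOf_appLE (f := g') W hW W' hW' eW'W hx'
    exact congrArg PrimeSpectrum.asIdeal this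
  have comapA' : ∀ (x' : X') (hx' : x' ∈ W'),
      ((hW'.primeIdealOf ⟨x', hx'⟩).asIdeal).comap (algebraMap Γ(S', V') Γ(X', W')) =
        (hV'.primeIdealOf ⟨f' x', eW'V' hx'⟩).asIdeal := by
    intro x' hx'
    have := IsAffineOpen.comap_primeIdealOf_appLE (f := f') V' hV' W' hW' eW'V' hx'
    exact congrArg PrimeSpectrum.asIdeal this
  have comapA : ∀ (x : X) (hx : x ∈ W),
      ((hW.primeIdealOf ⟨x, hx⟩).asIdeal).comap (algebraMap Γ(S, V) Γ(X, W)) =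
        (hV.primeIdealOf ⟨f x, hWV hx⟩).asIdeal := by
    intro x hx
    have := IsAffineOpen.comap_primeIdealOf_appLE (f := f) V hV W hW hWV hx
    exact congrArg PrimeSpectrum.asIdeal this
  have comapAA' : ∀ (s' : S') (hs' : s' ∈ V'),
      ((hV'.primeIdealOf ⟨s', hs'⟩).asIdeal).comap (algebraMap Γ(S, V) Γ(S', V')) =
        (hV.primeIdealOf ⟨g s', hV'V hs'⟩).asIdeal := by
    intro s' hs'
    have := IsAffineOpen.comap_primeIdealOf_appLE (f := g) V hV V' hV' hV'V hs'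
    exact congrArg PrimeSpectrum.asIdeal this
  constructor
  · intro x' hx' hrel'
    have h1 : RelAssElem Γ(S', V') Γ(F', W') (hW'.primeIdealOf ⟨x', hx'⟩).asIdeal :=
      (mem_relAss_iff f' F' hV' hW' eW'V' hx').mp hrel'
    have h2 := relAssElem_of_baseChange (A := Γ(S, V)) (A' := Γ(S', V'))
      (PBH8.cUVLin g' F eW'W) hι (hW'.primeIdealOf ⟨x', hx'⟩).asIdeal h1
    rw [comapB x' hx'] at h2
    exact (mem_relAss_iff f F hV hW hWV (eW'W hx')).mpr h2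
  · intro x hx hrel s' hs' hgs
    have h1 : RelAssElem Γ(S, V) Γ(F, W) (hW.primeIdealOf ⟨x, hx⟩).asIdeal :=
      (mem_relAss_iff f F hV hW hWV hx).mp hrel
    have hpp' : ((hV'.primeIdealOf ⟨s', hs'⟩).asIdeal).comap (algebraMap Γ(S, V) Γ(S', V')) =
        ((hW.primeIdealOf ⟨x, hx⟩).asIdeal).comap (algebraMap Γ(S, V) Γ(X, W)) := by
      rw [comapAA' s' hs', comapA x hx, primeIdealOf_congr hV hgs (hV'V hs') (hWV hx)]
    obtain ⟨q', hq', e1, e2, hrel'⟩ := exists_relAssElem_baseChange (A := Γ(S, V))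
      (A' := Γ(S', V')) (PBH8.cUVLin g' F eW'W) hι (hW.primeIdealOf ⟨x, hx⟩).asIdeal h1
      (hV'.primeIdealOf ⟨s', hs'⟩).asIdeal hpp'
    obtain ⟨x', hx'W', hx'q⟩ := exists_point_of_prime hW' q' hq'
    refine ⟨x', ?_, ?_, ?_⟩
    · apply eq_of_prime_eq hW (eW'W hx'W') hx
      rw [← comapB x' hx'W', hx'q, e1]
    · apply eq_of_prime_eq hV' (eW'V' hx'W') hs'
      rw [← comapA' x' hx'W', hx'q, e2]
    · rw [mem_relAss_iff f' F' hV' hW' eW'V' hx'W', hx'q]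
      exact hrel'

/-- **S9780.** -/
theorem main9780 (f : X ⟶ S) [LocallyOfFiniteType f] (F : X.Modules) [Coh.IsQCoh F]
    (hF : CohB1.IsFT F) (U : X.Opens) (g : S' ⟶ S) (f' : X' ⟶ S') (g' : X' ⟶ X)
    (hc : IsPullback g' f' f g) (s' : S') :
    {x : ↑X | x ∈ MoreMor.relAss f F ∧ f x = g s'} ⊆ (U : Set ↑X) ↔
      {x' : ↑X' | x' ∈ MoreMor.relAss f' ((Scheme.Modules.pullback g').obj F) ∧ f' x' = s'} ⊆
        (g' ⁻¹ᵁ U : Set ↑X') := by
  haveI : F.IsQuasicoherent := ‹Coh.IsQCoh F›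
  haveI : SheafOfModules.IsFiniteType (R := X.ringCatSheaf) F := hF
  have hcharts : ∀ (x : X), f x = g s' → ∃ (V : S.Opens) (V' : S'.Opens) (W : X.Opens),
      IsAffineOpen V ∧ IsAffineOpen V' ∧ V' ≤ g ⁻¹ᵁ V ∧ IsAffineOpen W ∧ W ≤ f ⁻¹ᵁ V ∧
        x ∈ W ∧ s' ∈ V' := by
    intro x hx
    obtain ⟨_, ⟨V, hV, rfl⟩, hsV, -⟩ := S.isBasis_affineOpens.exists_subset_of_mem_open
      (Set.mem_univ (g s')) isOpen_univ
    obtain ⟨_, ⟨V', hV', rfl⟩, hs'V', hV'V⟩ := S'.isBasis_affineOpens.exists_subset_of_mem_open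
      (show s' ∈ ((g ⁻¹ᵁ V : S'.Opens) : Set S') from hsV) (g ⁻¹ᵁ V).2
    obtain ⟨_, ⟨W, hW, rfl⟩, hxW, hWV⟩ := X.isBasis_affineOpens.exists_subset_of_mem_open
      (show x ∈ ((f ⁻¹ᵁ V : X.Opens) : Set X) from by
        show f x ∈ V
        rw [hx]; exact hsV) (f ⁻¹ᵁ V).2
    exact ⟨V, V', W, hV, hV', hV'V, hW, hWV, hxW, hs'V'⟩
  have hw : ∀ x' : X', f (g' x') = g (f' x') := by
    intro x'
    have := congrArg (fun φ => φ.base x') hc.w
    exact this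
  constructor
  · rintro h x' ⟨hx'rel, hx's'⟩
    have hfx : f (g' x') = g s' := by rw [hw, hx's']
    obtain ⟨V, V', W, hV, hV', hV'V, hW, hWV, hxW, hs'V'⟩ := hcharts (g' x') hfx
    have hx'W' : x' ∈ g' ⁻¹ᵁ W ⊓ f' ⁻¹ᵁ V' := ⟨hxW, by show f' x' ∈ V'; rw [hx's']; exact hs'V'⟩
    have := (chartBC f F g f' g' hc hV hV' hV'V hW hWV).1 x' hx'W' hx'rel
    exact h ⟨this, hfx⟩
  · rintro h x ⟨hxrel, hxs⟩
    obtain ⟨V, V', W, hV, hV', hV'V, hW, hWV, hxW, hs'V'⟩ := hcharts x hxs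
    obtain ⟨x', e1, e2, hrel'⟩ :=
      (chartBC f F g f' g' hc hV hV' hV'V hW hWV).2 x hxW hxrel s' hs'V' hxs.symm
    have : x' ∈ g' ⁻¹ᵁ U := h ⟨hrel', e2⟩
    rw [← e1]
    exact this

end Groth.Agent.Lib.RelAssBCSch
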