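import Mathlib
import Groth.Agent.Lib.RelAssAlg5_helper2

/-!
# Relative associated primes in elementary terms, part 6 (helper2)

Algebraic core of S1446: if `q₀` is a relative associated prime of `M` (over `A → B` of finite type),
then after inverting some `a ∈ A` outside `q₀`, every prime `q ⊇ q₀` which is minimal among the
primes containing `q₀` with the same contraction to `A` is again a relative associated prime.
APPEND-ONLY once landed.
-/

set_option autoImplicit false
set_option maxHeartbeats 800000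
universe u

namespace Groth.Agent.Lib.RelAssAlg

open GenFreeH8

section Quot

variable {A : Type*} [CommRing A] (n p : Ideal A) {M N : Type*} [AddCommGroup M] [Module A M]
  [AddCommGroup N] [Module A N] [Module (A ⧸ n) N] (π : M →ₗ[A] N)
  (hc : ∀ (a : A) (y : N), (Ideal.Quotient.mk n a) • y = a • y)

include hc in
theorem quot_map_mem (x : M) (hx : x ∈ p • (⊤ : Submodule A M)) :
    π x ∈ (p.map (Ideal.Quotient.mk n)) • (⊤ : Submodule (A ⧸ n) N) := by
  refine Submodule.smul_induction_on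
    (p := fun x => π x ∈ (p.map (Ideal.Quotient.mk n)) • (⊤ : Submodule (A ⧸ n) N)) hx ?_ ?_
  · intro a ha m _
    rw [map_smul, ← hc]
    exact Submodule.smul_mem_smul (Ideal.mem_map_of_mem _ ha) trivial
  · intro x y ihx ihy
    rw [map_add]
    exact Submodule.add_mem _ ihx ihy

include hc in
theorem quot_exists_of_mem (hnp : n ≤ p) (hπ : Function.Surjective π) (y : N)
    (hy : y ∈ (p.map (Ideal.Quotient.mk n)) • (⊤ : Submodule (A ⧸ n) N)) :
    ∃ x : M, x ∈ p • (⊤ : Submodule A M) ∧ π x = y := by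
  refine Submodule.smul_induction_on
    (p := fun y => ∃ x : M, x ∈ p • (⊤ : Submodule A M) ∧ π x = y) hy ?_ ?_
  · intro r hr n₁ _
    obtain ⟨a, rfl⟩ := Ideal.Quotient.mk_surjective r
    obtain ⟨m, rfl⟩ := hπ n₁
    refine ⟨a • m, Submodule.smul_mem_smul ((Ideal.mem_quotient_iff_mem hnp).mp hr) trivial, ?_⟩
    rw [map_smul, hc]
  · rintro y₁ y₂ ⟨x₁, hx₁, rfl⟩ ⟨x₂, hx₂, rfl⟩
    exact ⟨x₁ + x₂, Submodule.add_mem _ hx₁ hx₂, map_add _ _ _⟩

end Quot

/-- Elements of a minimal prime over `I` are nilpotent modulo `I` locally at the prime. -/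
theorem exists_mul_pow_mem_of_mem_minimalPrimes {R : Type*} [CommRing R] {I Q : Ideal R}
    (hQ : Q ∈ I.minimalPrimes) {b : R} (hb : b ∈ Q) :
    ∃ (k : ℕ) (t : R), t ∉ Q ∧ t * b ^ k ∈ I := by
  haveI : Q.IsPrime := hQ.1.1
  have h1 := IsLocalization.AtPrime.radical_map_of_mem_minimalPrimes
    (A := Localization.AtPrime Q) Q I hQ
  have h2 : algebraMap R (Localization.AtPrime Q) b ∈
      (I.map (algebraMap R (Localization.AtPrime Q))).radical := by
    rw [h1]
    exact Ideal.mem_map_of_mem _ hb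
  obtain ⟨k, hk⟩ := h2
  rw [← map_pow, IsLocalization.mem_map_algebraMap_iff Q.primeCompl] at hk
  obtain ⟨⟨a, s⟩, hn⟩ := hk
  rw [← map_mul, IsLocalization.eq_iff_exists Q.primeCompl] at hn
  obtain ⟨t, ht⟩ := hn
  have ht' : (t : R) * (b ^ k * (s : R)) = (t : R) * (a : R) := ht
  refine ⟨k, (t : R) * (s : R), (t * s).2, ?_⟩
  have : (t : R) * (s : R) * b ^ k = (t : R) * (a : R) := by
    rw [← ht']
    ring
  rw [this]
  exact I.mul_mem_left _ a.2

section Dom6

variable {R : Type u} [CommRing R] [IsDomain R] {S : Type u} [CommRing S] [Algebra R S]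
  {N : Type u} [AddCommGroup N] [Module S N] [Module R N] [IsScalarTower R S N]

/-- Flatness of a generically free cokernel, in elementary terms (general linear map). -/
theorem stepG {N' : Type u} [AddCommGroup N'] [Module R N'] (P : Submodule S N)
    (φ : N' →ₗ[R] N) (hφ : ∀ y ∈ P, ∃ w, φ w = y) (f₂ : R) (hg₂ : GFW R (N ⧸ P) f₂)
    (p' : Ideal R) (x : N) (hx : x ∈ p' • (⊤ : Submodule R N)) (hx' : x ∈ P) :
    ∃ (k : ℕ) (w : N'), w ∈ p' • (⊤ : Submodule R N') ∧ f₂ ^ k • x = φ w := by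
  classical
  set C := N ⧸ P with hC
  obtain ⟨s, hs, hsp⟩ := hg₂
  set T : Submodule R C := Submodule.span R (Set.range ((↑) : s → C)) with hT
  let b : Module.Basis s R T := Module.Basis.span hs
  have hlift : ∀ c : s, ∃ n : N, (Submodule.Quotient.mk n : C) = (c : C) := fun c =>
    Submodule.Quotient.mk_surjective P (c : C)
  choose lift hliftc using hlift
  let σ : T →ₗ[R] N := b.constr R lift
  have hσ : ∀ c : T, (Submodule.Quotient.mk (σ c) : C) = (c : C) := by
    have : (P.mkQ.restrictScalars R) ∘ₗ σ = T.subtype := by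
      apply b.ext
      intro i
      rw [LinearMap.comp_apply, Module.Basis.constr_basis]
      change (Submodule.Quotient.mk (lift i) : C) = ((b i : T) : C)
      rw [hliftc i, Module.Basis.span_apply]
    intro c
    exact LinearMap.congr_fun this c
  have hmemP : ∀ y : N, (Submodule.Quotient.mk y : C) = 0 → ∃ w : N', φ w = y := by
    intro y hy
    rw [Submodule.Quotient.mk_eq_zero] at hy
    exact hφ y hy
  have claim : ∃ (k : ℕ) (c : T), (c : C) = f₂ ^ k • (Submodule.Quotient.mk x : C) ∧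
      ∃ w : N', w ∈ p' • (⊤ : Submodule R N') ∧ f₂ ^ k • x = σ c + φ w := by
    refine Submodule.smul_induction_on
      (p := fun x => ∃ (k : ℕ) (c : T), (c : C) = f₂ ^ k • (Submodule.Quotient.mk x : C) ∧
        ∃ w : N', w ∈ p' • (⊤ : Submodule R N') ∧ f₂ ^ k • x = σ c + φ w) hx ?_ ?_
    · intro π hπ n _
      obtain ⟨k, hk⟩ := hsp (Submodule.Quotient.mk n : C)
      have hk' : f₂ ^ k • (Submodule.Quotient.mk n : C) ∈ T := by
        rw [hT, Subtype.range_coe]; exact hk
      set c₀ : T := ⟨_, hk'⟩ with hc₀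
      have h0 : (Submodule.Quotient.mk (f₂ ^ k • n - σ c₀) : C) = 0 := by
        rw [Submodule.Quotient.mk_sub, hσ c₀, Submodule.Quotient.mk_smul, sub_self]
      obtain ⟨w₀, hw₀⟩ := hmemP _ h0
      refine ⟨k, π • c₀, ?_, π • w₀, Submodule.smul_mem_smul hπ trivial, ?_⟩
      · rw [Submodule.coe_smul, Submodule.Quotient.mk_smul, smul_comm]
      · rw [map_smul, map_smul, hw₀, smul_sub, smul_comm π (f₂ ^ k) n]
        abel
    · rintro x y ⟨k₁, c₁, hc₁, w₁, hw₁, e₁⟩ ⟨k₂, c₂, hc₂, w₂, hw₂, e₂⟩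
      refine ⟨k₁ + k₂, f₂ ^ k₂ • c₁ + f₂ ^ k₁ • c₂, ?_, f₂ ^ k₂ • w₁ + f₂ ^ k₁ • w₂,
        Submodule.add_mem _ (Submodule.smul_mem _ _ hw₁) (Submodule.smul_mem _ _ hw₂), ?_⟩
      · rw [Submodule.coe_add, Submodule.coe_smul, Submodule.coe_smul, hc₁, hc₂,
          Submodule.Quotient.mk_add, smul_add, smul_smul, smul_smul, ← pow_add, ← pow_add,
          add_comm k₂ k₁]
      · have hx1 : f₂ ^ (k₁ + k₂) • x = f₂ ^ k₂ • (f₂ ^ k₁ • x) := by
          rw [smul_smul, ← pow_add, add_comm]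
        have hy1 : f₂ ^ (k₁ + k₂) • y = f₂ ^ k₁ • (f₂ ^ k₂ • y) := by
          rw [smul_smul, ← pow_add]
        rw [smul_add, hx1, hy1, e₁, e₂]
        simp only [map_add, map_smul, smul_add]
        abel
  obtain ⟨k, c, hc, w, hw, e⟩ := claim
  have hx0 : (Submodule.Quotient.mk x : C) = 0 := by
    rw [Submodule.Quotient.mk_eq_zero]; exact hx'
  have hc0 : c = 0 := by
    apply Subtype.ext
    rw [hc, hx0, smul_zero]; rfl
  refine ⟨k, w, hw, ?_⟩
  rw [e, hc0, map_zero, zero_add]

variable [Algebra.FiniteType R S] [Module.Finite S N]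

/-- Generic freeness consequences for the map `S → N`, `1 ↦ x₁`. -/
theorem minGen_dom (x₁ : N) :
    ∃ f : R, f ≠ 0 ∧ (∀ y : N, (∃ α : R, α ≠ 0 ∧ α • y = 0) → ∃ j : ℕ, f ^ j • y = 0) ∧
      ∀ (p' : Ideal R) (t : S), t • x₁ ∈ p' • (⊤ : Submodule R N) →
        ∃ (k : ℕ) (w : S), w ∈ p' • (⊤ : Submodule R S) ∧ f ^ k • t • x₁ = w • x₁ := by
  obtain ⟨f₁, hf₁, hg₁, -⟩ := GenFreeH8.main (R := R) (S := S) N
  obtain ⟨f₂, hf₂, hg₂, -⟩ := GenFreeH8.main (R := R) (S := S) (N ⧸ Submodule.span S {x₁})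
  refine ⟨f₁ * f₂, mul_ne_zero hf₁ hf₂, ?_, ?_⟩
  · rintro y ⟨α, hα, hy⟩
    exact torsion_of_gfw (hg₁.mono f₂) y α hα hy
  · intro p' t ht
    have hg₂' : GFW R (N ⧸ Submodule.span S {x₁}) (f₁ * f₂) := by
      rw [mul_comm]; exact hg₂.mono f₁
    obtain ⟨k, w, hw, e⟩ := stepG (Submodule.span S {x₁})
      ((LinearMap.toSpanSingleton S N x₁).restrictScalars R)
      (fun y hy => by
        obtain ⟨w, rfl⟩ := Submodule.mem_span_singleton.mp hy
        exact ⟨w, rfl⟩) (f₁ * f₂) hg₂' p' (t • x₁) ht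
      (Submodule.smul_mem _ _ (Submodule.mem_span_singleton_self x₁))
    exact ⟨k, w, hw, e⟩

end Dom6

section Core1446

variable (A : Type u) {B M : Type u} [CommRing A] [CommRing B] [Algebra A B] [AddCommGroup M]
  [Module B M] [Module A M] [IsScalarTower A B M]

/-- **Algebraic core of S1446.** -/
theorem core1446 [Algebra.FiniteType A B] [Module.Finite B M] (q₀ : Ideal B) [q₀.IsPrime]
    (hrel : RelAssElem A M q₀) :
    ∃ a : A, algebraMap A B a ∉ q₀ ∧ ∀ q : Ideal B, q.IsPrime → q₀ ≤ q →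
      algebraMap A B a ∉ q →
      (∀ q' : Ideal B, q'.IsPrime → q₀ ≤ q' → q' ≤ q →
        q'.comap (algebraMap A B) = q.comap (algebraMap A B) → q' = q) → RelAssElem A M q := by
  set n : Ideal A := q₀.comap (algebraMap A B) with hn
  haveI : n.IsPrime := Ideal.comap_isPrime _ _
  obtain ⟨m₁, hm₁⟩ := exists_exact_annihilator A n q₀ rfl hrel
  set IB : Ideal B := n.map (algebraMap A B) with hIB
  set R := A ⧸ n with hR
  set S := B ⧸ IB with hS
  set N := M ⧸ IB • (⊤ : Submodule B M) with hN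
  letI modRN : Module R N := Module.compHom N (algebraMap R S)
  haveI : IsScalarTower R S N := IsScalarTower.of_algebraMap_smul (fun _ _ => rfl)
  haveI : Algebra.FiniteType A S :=
    Algebra.FiniteType.of_surjective (Ideal.Quotient.mkₐ A IB) Ideal.Quotient.mk_surjective
  haveI : Algebra.FiniteType R S := Algebra.FiniteType.of_restrictScalars_finiteType A R S
  haveI : Module.Finite B N := inferInstance
  haveI : Module.Finite S N := Module.Finite.of_restrictScalars_finite B S N
  have c1 : ∀ (a : A) (m : M), (Ideal.Quotient.mk n a : R) • (Submodule.Quotient.mk m : N) =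
      Submodule.Quotient.mk (a • m) := by
    intro a m
    rw [← algebraMap_smul B a m]
    rfl
  have c3 : ∀ m : M, (Submodule.Quotient.mk m : N) = 0 ↔ m ∈ n • (⊤ : Submodule A M) := by
    intro m
    rw [Submodule.Quotient.mk_eq_zero]
    exact mem_map_smul_top_iff A n m
  -- the quotient maps as `A`-linear maps
  set πM : M →ₗ[A] N := ((IB • (⊤ : Submodule B M)).mkQ).restrictScalars A with hπM
  have hπMsurj : Function.Surjective πM := Submodule.Quotient.mk_surjective _
  have hcN : ∀ (a : A) (y : N), (Ideal.Quotient.mk n a : R) • y = a • y := by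
    intro a y
    obtain ⟨m, rfl⟩ := Submodule.Quotient.mk_surjective _ y
    rw [c1]
    rfl
  set πB : B →ₗ[A] S := (Ideal.Quotient.mkₐ A IB).toLinearMap with hπB
  have hπBsurj : Function.Surjective πB := Ideal.Quotient.mk_surjective
  have hcS : ∀ (a : A) (y : S), (Ideal.Quotient.mk n a : R) • y = a • y := by
    intro a y
    rw [← Ideal.Quotient.algebraMap_eq, algebraMap_smul]
  obtain ⟨f, hf, HA, HB⟩ := minGen_dom (R := R) (S := S) (N := N) (Submodule.Quotient.mk m₁)
  obtain ⟨a, rfl⟩ := Ideal.Quotient.mk_surjective f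
  have ha : a ∉ n := fun hmem => hf (Ideal.Quotient.eq_zero_iff_mem.mpr hmem)
  refine ⟨a, ha, ?_⟩
  intro q hq hq₀q haq hmin
  haveI := hq
  set p : Ideal A := q.comap (algebraMap A B) with hp
  have hnp : n ≤ p := Ideal.comap_mono hq₀q
  have hpq : ∀ x : B, x ∈ p • (⊤ : Submodule A B) → x ∈ q := by
    intro x hx
    refine Submodule.smul_induction_on (p := fun x => x ∈ q) hx ?_ ?_
    · intro α hα b _
      rw [Algebra.smul_def]
      exact Ideal.mul_mem_right _ _ hα
    · intro x y hx hy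
      exact Ideal.add_mem _ hx hy
  refine ⟨m₁, ?_, ?_⟩
  · intro t ht hmem
    have h1 : (Ideal.Quotient.mk IB t : S) • (Submodule.Quotient.mk m₁ : N) ∈
        (p.map (Ideal.Quotient.mk n)) • (⊤ : Submodule R N) :=
      quot_map_mem n p πM hcN (t • m₁) hmem
    obtain ⟨k, w, hw, e⟩ := HB (p.map (Ideal.Quotient.mk n)) (Ideal.Quotient.mk IB t) h1
    obtain ⟨w₀, hw₀, rfl⟩ := quot_exists_of_mem n p πB hcS hnp hπBsurj w hw
    have e' : (Submodule.Quotient.mk (a ^ k • t • m₁) : N) = Submodule.Quotient.mk (w₀ • m₁) := by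
      rw [← c1, map_pow]
      exact e
    have h2 : (a ^ k • t - w₀) • m₁ ∈ n • (⊤ : Submodule A M) := by
      rw [← c3, sub_smul, Submodule.Quotient.mk_sub, smul_assoc, e', sub_self]
    have h3 : a ^ k • t - w₀ ∈ q₀ := (hm₁ _).mp (mem_fibKer_of_mem_pM A n h2)
    have h4 : a ^ k • t ∈ q := by
      have := Ideal.add_mem _ (hq₀q h3) (hpq w₀ hw₀)
      rwa [sub_add_cancel] at this
    rw [Algebra.smul_def, map_pow] at h4
    rcases hq.mem_or_mem h4 with h5 | h5
    · exact haq (hq.mem_of_pow_mem _ h5)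
    · exact ht h5
  · intro b hb
    set I : Ideal B := q₀ ⊔ p.map (algebraMap A B) with hI
    have hqmin : q ∈ I.minimalPrimes := by
      refine ⟨⟨hq, sup_le hq₀q (Ideal.map_le_iff_le_comap.mpr le_rfl)⟩, ?_⟩
      rintro q' ⟨hq', hIq'⟩ hq'q
      have : q' = q := hmin q' hq' (le_sup_left.trans hIq') hq'q
        (le_antisymm (Ideal.comap_mono hq'q)
          (Ideal.map_le_iff_le_comap.mp (le_sup_right.trans hIq')))
      exact this.ge
    obtain ⟨k, t₁, ht₁, hk⟩ := exists_mul_pow_mem_of_mem_minimalPrimes hqmin hb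
    obtain ⟨y, hy, z, hz, e⟩ := Submodule.mem_sup.mp hk
    obtain ⟨α₀, hα₀, hy2⟩ := (hm₁ y).mpr hy
    obtain ⟨j, hj⟩ := HA (Submodule.Quotient.mk (y • m₁))
      ⟨Ideal.Quotient.mk n α₀, fun h => hα₀ (Ideal.Quotient.eq_zero_iff_mem.mp h), by
        rw [c1, c3]; exact hy2⟩
    rw [← map_pow, c1, c3] at hj
    have hz1 : z • m₁ ∈ p • (⊤ : Submodule A M) :=
      (mem_map_smul_top_iff A p _).mp (Submodule.smul_mem_smul hz trivial)
    refine ⟨k, algebraMap A B (a ^ j) * t₁, ?_, ?_⟩
    · intro hmem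
      rcases hq.mem_or_mem hmem with h5 | h5
      · rw [map_pow] at h5
        exact haq (hq.mem_of_pow_mem _ h5)
      · exact ht₁ h5
    · have : (algebraMap A B (a ^ j) * t₁) • b ^ k • m₁ = a ^ j • y • m₁ + a ^ j • z • m₁ := by
        rw [← smul_add, ← add_smul, e, mul_smul, algebraMap_smul, mul_smul]
      rw [this]
      exact Submodule.add_mem _ (Submodule.smul_mono_left hnp hj) (Submodule.smul_mem _ _ hz1)

end Core1446

end Groth.Agent.Lib.RelAssAlg
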