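import Mathlib
import Groth.Prelude
import Groth.Agent.Lib.RelAssAlg6_helper2
import Groth.Agent.Lib.RelAssSpread_helper2

/-!
# Generic points of the fibres of the closure of a relative associated point (helper2, S1446)
APPEND-ONLY once landed.
-/

set_option autoImplicit false
set_option maxHeartbeats 1000000
universe u

open CategoryTheory AlgebraicGeometry TopologicalSpace Opposite

namespace Groth.Agent.Lib.RelAssGen

open Groth.Agent.Lib.RelAssAlg Groth.Agent.Lib.RelAssSpread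

variable {X S : Scheme.{u}}

/-- Specialization inside an affine open in terms of prime ideals. -/
theorem mem_closure_iff_prime_le {W : X.Opens} (hW : IsAffineOpen W) {x y : X} (hx : x ∈ W)
    (hy : y ∈ W) :
    y ∈ closure ({x} : Set X) ↔
      (hW.primeIdealOf ⟨x, hx⟩).asIdeal ≤ (hW.primeIdealOf ⟨y, hy⟩).asIdeal := by
  constructor
  · intro h g hg
    by_contra hgy
    have hyD : y ∈ X.basicOpen g := (mem_basicOpen_iff_notMem_prime hW hy g).mpr hgy
    have hxD : x ∈ X.basicOpen g := by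
      obtain ⟨z, hz1, hz2⟩ := mem_closure_iff.mp h _ (X.basicOpen g).2 hyD
      rw [Set.mem_singleton_iff] at hz2
      subst hz2
      exact hz1
    exact (mem_basicOpen_iff_notMem_prime hW hx g).mp hxD hg
  · intro h
    rw [mem_closure_iff]
    intro o ho hyo
    obtain ⟨g, hgo, hyg⟩ := hW.exists_basicOpen_le (V := ⟨o, ho⟩) ⟨y, hyo⟩ hy
    have hgy := (mem_basicOpen_iff_notMem_prime hW hy g).mp hyg
    have hgx : g ∉ (hW.primeIdealOf ⟨x, hx⟩).asIdeal := fun hmem => hgy (h hmem)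
    exact ⟨x, hgo ((mem_basicOpen_iff_notMem_prime hW hx g).mpr hgx), rfl⟩

/-- **S1446.** -/
theorem main1446 (f : X ⟶ S) [LocallyOfFiniteType f]
    (F : X.Modules) (hF : Coh.IsCoh F) (ξ : X) (hξ : ξ ∈ MoreMor.relAss f F) :
    ∃ V : Set ↑X, V ⊆ closure {ξ} ∧
      IsOpen (Subtype.val ⁻¹' V : Set ↑(closure ({ξ} : Set ↑X))) ∧ V.Nonempty ∧
      ∀ (x : X) (hx : x ∈ V), (∃ C ∈ irreducibleComponents ↑(V ∩ f ⁻¹' {f x}),
        IsGenericPoint (⟨x, hx, rfl⟩ : ↑(V ∩ f ⁻¹' {f x})) C) →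
        x ∈ MoreMor.relAss f F := by
  classical
  haveI : F.IsQuasicoherent := hF.1
  haveI : SheafOfModules.IsFiniteType (R := X.ringCatSheaf) F := hF.2
  obtain ⟨_, ⟨V₀, hV₀, rfl⟩, hξV, -⟩ := S.isBasis_affineOpens.exists_subset_of_mem_open
    (Set.mem_univ (f ξ)) isOpen_univ
  have hV₀ : IsAffineOpen V₀ := hV₀
  obtain ⟨_, ⟨W, hW, rfl⟩, hξW, hWV⟩ := X.isBasis_affineOpens.exists_subset_of_mem_open
    (show ξ ∈ ((f ⁻¹ᵁ V₀ : X.Opens) : Set X) from hξV) (f ⁻¹ᵁ V₀).2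
  have hW : IsAffineOpen W := hW
  have hξW : ξ ∈ W := hξW
  have e : W ≤ f ⁻¹ᵁ V₀ := hWV
  letI algAB : Algebra Γ(S, V₀) Γ(X, W) := (f.appLE V₀ W e).hom.toAlgebra
  letI modAM : Module Γ(S, V₀) Γ(F, W) := Module.compHom Γ(F, W) (f.appLE V₀ W e).hom
  haveI : IsScalarTower Γ(S, V₀) Γ(X, W) Γ(F, W) :=
    IsScalarTower.of_algebraMap_smul (fun _ _ => rfl)
  have hft : (f.appLE V₀ W e).hom.FiniteType :=
    HasRingHomProperty.appLE @LocallyOfFiniteType f inferInstance ⟨V₀, hV₀⟩ ⟨W, hW⟩ _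
  haveI : Algebra.FiniteType Γ(S, V₀) Γ(X, W) := hft
  haveI : Module.Finite Γ(X, W) Γ(F, W) := QCohFT.finite_of_isFiniteType F hW
  set q₀ := (hW.primeIdealOf ⟨ξ, hξW⟩).asIdeal with hq₀
  have hrel₀ : RelAssElem Γ(S, V₀) Γ(F, W) q₀ := (mem_relAss_iff f F hV₀ hW e hξW).mp hξ
  obtain ⟨a, haq₀, hcore⟩ := core1446 Γ(S, V₀) (M := Γ(F, W)) q₀ hrel₀
  have comapEq : ∀ (x : X) (hxW : x ∈ W),
      ((hW.primeIdealOf ⟨x, hxW⟩).asIdeal).comap (algebraMap Γ(S, V₀) Γ(X, W)) =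
        (hV₀.primeIdealOf ⟨f x, e hxW⟩).asIdeal := by
    intro x hxW
    have := IsAffineOpen.comap_primeIdealOf_appLE (f := f) V₀ hV₀ W hW e hxW
    exact congrArg PrimeSpectrum.asIdeal this
  set O : X.Opens := W ⊓ f ⁻¹ᵁ (S.basicOpen a) with hO
  have hmemO : ∀ (x : X) (hxW : x ∈ W), x ∈ O ↔
      algebraMap Γ(S, V₀) Γ(X, W) a ∉ (hW.primeIdealOf ⟨x, hxW⟩).asIdeal := by
    intro x hxW
    have h1 : x ∈ O ↔ f x ∈ S.basicOpen a := by
      constructor
      · intro h; exact h.2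
      · intro h; exact ⟨hxW, h⟩
    rw [h1, mem_basicOpen_iff_notMem_prime hV₀ (e hxW), ← comapEq x hxW, Ideal.mem_comap]
  refine ⟨closure {ξ} ∩ (O : Set X), Set.inter_subset_left, ?_,
    ⟨ξ, subset_closure rfl, (hmemO ξ hξW).mpr haq₀⟩, ?_⟩
  · have : (Subtype.val ⁻¹' (closure {ξ} ∩ (O : Set X)) : Set ↑(closure ({ξ} : Set ↑X))) =
        Subtype.val ⁻¹' (O : Set X) := by
      ext z
      simp [z.2]
    rw [this]
    exact O.2.preimage continuous_subtype_val
  · intro x hx hgen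
    have hxW : x ∈ W := hx.2.1
    have hxcl : x ∈ closure {ξ} := hx.1
    set q := (hW.primeIdealOf ⟨x, hxW⟩).asIdeal with hq
    have hq₀q : q₀ ≤ q := (mem_closure_iff_prime_le hW hξW hxW).mp hxcl
    have haq : algebraMap Γ(S, V₀) Γ(X, W) a ∉ q := (hmemO x hxW).mp hx.2
    rw [mem_relAss_iff f F hV₀ hW e hxW]
    refine hcore q inferInstance hq₀q haq ?_
    intro q' hq' hq₀q' hq'q hcomap
    obtain ⟨x', hx'W, hx'q⟩ := exists_point_of_prime hW q' hq'
    have hx'cl : x' ∈ closure {ξ} :=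
      (mem_closure_iff_prime_le hW hξW hx'W).mpr (by rw [hx'q]; exact hq₀q')
    have hfx' : f x' = f x := by
      apply eq_of_prime_eq hV₀ (e hx'W) (e hxW)
      rw [← comapEq x' hx'W, ← comapEq x hxW, hx'q]
      exact hcomap
    have hx'O : x' ∈ O := (hmemO x' hx'W).mpr (by rw [hx'q]; exact fun h => haq (hq'q h))
    have hxx' : x ∈ closure {x'} :=
      (mem_closure_iff_prime_le hW hx'W hxW).mpr (by rw [hx'q]; exact hq'q)
    set T : Set X := (closure {ξ} ∩ (O : Set X)) ∩ f ⁻¹' {f x} with hT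
    set xt : T := ⟨x, hx, rfl⟩ with hxt
    set xt' : T := ⟨x', ⟨hx'cl, hx'O⟩, hfx'⟩ with hxt'
    obtain ⟨C, hC, hxC⟩ := hgen
    have h1 : xt ∈ closure ({xt'} : Set T) := by
      rw [closure_subtype]
      simpa using hxx'
    have h2 : closure ({xt} : Set T) ⊆ closure ({xt'} : Set T) :=
      closure_minimal (Set.singleton_subset_iff.mpr h1) isClosed_closure
    have h3 : IsIrreducible (closure ({xt'} : Set T)) := isIrreducible_singleton.closure
    have h4 : closure ({xt'} : Set T) ⊆ C := hC.2 h3 (by rw [← hxC.def]; exact h2)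
    have h5 : xt' ∈ closure ({xt} : Set T) := by
      rw [hxC.def]
      exact h4 (subset_closure rfl)
    have h6 : x' ∈ closure ({x} : Set X) := by
      have := closure_subtype.mp h5
      simpa using this
    have h7 : q ≤ q' := by
      have := (mem_closure_iff_prime_le hW hxW hx'W).mp h6
      rwa [hx'q] at this
    exact le_antisymm hq'q h7

end Groth.Agent.Lib.RelAssGen
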