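import Mathlib
import Groth.Prelude
import Groth.Agent.Lib.RelAssBC3_helper2
import Groth.Agent.Lib.RelAssBCSch_helper2
import Groth.Agent.Lib.RelAssGen_helper2
import Groth.Agent.Lib.PB10_helper8
import Groth.Agent.Lib.FibStalkKer_helper5

/-!
# Relative associated points under base change: the precise statement (helper2, S8885)
APPEND-ONLY once landed.
-/

set_option autoImplicit false
set_option maxHeartbeats 1000000
universe u

open CategoryTheory CategoryTheory.Limits AlgebraicGeometry TopologicalSpace Opposite TensorProduct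

namespace Groth.Agent.Lib.RelAssBCSch

open Groth.Agent.Lib.RelAssAlg Groth.Agent.Lib.RelAssSpread Groth.Agent.Lib.RelAssBC
  Groth.Agent.Lib.RelAssGen

section Alg

/-- Associated-ness of the maximal ideal for a base change along a surjection of local rings. -/
theorem isAssociatedPrime_baseChange_iff {R R' : Type*} [CommRing R] [CommRing R'] [IsLocalRing R]
    [IsLocalRing R'] [Algebra R R'] (hπ : Function.Surjective (algebraMap R R')) (I : Ideal R)
    (hI : RingHom.ker (algebraMap R R') = I) {N N' : Type*} [AddCommGroup N] [Module R N]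
    [AddCommGroup N'] [Module R' N'] [Module R N'] [IsScalarTower R R' N'] (j : N →ₗ[R] N')
    (hj : IsBaseChange R' j) :
    IsAssociatedPrime (IsLocalRing.maximalIdeal R') N' ↔
      IsAssociatedPrime (IsLocalRing.maximalIdeal R) (N ⧸ I • (⊤ : Submodule R N)) := by
  have hmax : (IsLocalRing.maximalIdeal R').comap (algebraMap R R') =
      IsLocalRing.maximalIdeal R := by
    haveI : ((IsLocalRing.maximalIdeal R').comap (algebraMap R R')).IsMaximal :=
      Ideal.comap_isMaximal_of_surjective _ hπ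
    exact IsLocalRing.eq_maximalIdeal inferInstance
  have hjsurj : Function.Surjective j := by
    intro y
    refine hj.inductionOn y (fun y => ∃ n, j n = y) ⟨0, map_zero _⟩ (fun m => ⟨m, rfl⟩) ?_ ?_
    · rintro s n ⟨n₀, rfl⟩
      obtain ⟨r, rfl⟩ := hπ s
      exact ⟨r • n₀, by rw [map_smul, algebraMap_smul]⟩
    · rintro n₁ n₂ ⟨a, rfl⟩ ⟨b, rfl⟩
      exact ⟨a + b, map_add _ _ _⟩
  have hk : RingHom.ker (Algebra.ofId R R') = I := by
    rw [← hI]
    ext r
    rw [RingHom.mem_ker, RingHom.mem_ker]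
    rfl
  have hker : ∀ n : N, j n = 0 ↔ n ∈ I • (⊤ : Submodule R N) := by
    intro n
    constructor
    · intro h0
      have h1 : (1 : R') ⊗ₜ[R] n = 0 := by
        apply hj.equiv.injective
        rw [hj.equiv_tmul, one_smul, h0, map_zero]
      let e₁ : (R ⧸ RingHom.ker (Algebra.ofId R R')) ≃ₐ[R] R' :=
        Ideal.quotientKerAlgEquivOfSurjective (f := Algebra.ofId R R') hπ
      have h2 : (Ideal.Quotient.mk (RingHom.ker (Algebra.ofId R R')) 1) ⊗ₜ[R] n =
          (0 : (R ⧸ RingHom.ker (Algebra.ofId R R')) ⊗[R] N) := by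
        apply (LinearEquiv.rTensor N e₁.toLinearEquiv).injective
        rw [LinearEquiv.rTensor_tmul, map_zero]
        have : e₁.toLinearEquiv (Ideal.Quotient.mk _ 1) = 1 := by
          show e₁ (Ideal.Quotient.mk _ 1) = 1
          rw [map_one, map_one]
        rw [this]
        exact h1
      have h3 := congrArg
        (TensorProduct.quotTensorEquivQuotSMul N (RingHom.ker (Algebra.ofId R R'))) h2
      rw [TensorProduct.quotTensorEquivQuotSMul_mk_tmul, map_zero, one_smul,
        Submodule.Quotient.mk_eq_zero, hk] at h3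
      exact h3
    · intro hn
      refine Submodule.smul_induction_on (p := fun n => j n = 0) hn ?_ ?_
      · intro r hr n₀ _
        rw [map_smul, ← algebraMap_smul R' r (j n₀)]
        have : algebraMap R R' r = 0 := by
          rw [← RingHom.mem_ker, hI]
          exact hr
        rw [this, zero_smul]
      · intro x y hx hy
        rw [map_add, hx, hy, add_zero]
  have hcolon : ∀ n : N, ((⊥ : Submodule R' N').colon {j n}).comap (algebraMap R R') =
      (⊥ : Submodule R (N ⧸ I • (⊤ : Submodule R N))).colon {Submodule.Quotient.mk n} := by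
    intro n
    ext r
    rw [Ideal.mem_comap, Submodule.mem_colon_singleton, Submodule.mem_colon_singleton,
      Submodule.mem_bot, Submodule.mem_bot, ← Submodule.Quotient.mk_smul,
      Submodule.Quotient.mk_eq_zero, algebraMap_smul, ← map_smul, hker]
  constructor
  · rintro ⟨_, y, h⟩
    obtain ⟨n, rfl⟩ := hjsurj y
    refine ⟨(IsLocalRing.maximalIdeal.isMaximal R).isPrime, Submodule.Quotient.mk n, ?_⟩
    rw [← hcolon, ← Ideal.comap_radical, ← h, hmax]
  · rintro ⟨_, ζ, h⟩
    obtain ⟨n, rfl⟩ := Submodule.Quotient.mk_surjective _ ζ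
    refine ⟨(IsLocalRing.maximalIdeal.isMaximal R').isPrime, j n, ?_⟩
    apply Ideal.comap_injective_of_surjective (algebraMap R R') hπ
    rw [Ideal.comap_radical, hcolon, ← h, hmax]

end Alg

variable {X S X' S' : Scheme.{u}}

/-- The associated points of the restriction of `F` to a fibre are the relative associated points
of `F` on that fibre. -/
theorem isAssPoint_fiber_iff (f : X ⟶ S) (F : X.Modules) [F.IsQuasicoherent] (s : S)
    (z : ↥(f.fiber s)) :
    Curv2.IsAssPoint ((Scheme.Modules.pullback (f.fiberι s)).obj F) z ↔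
      (f.fiberι s) z ∈ MoreMor.relAss f F := by
  obtain ⟨hsurj, hker⟩ := Groth.Agent.FibStalkKer.main9501 f s z
  letI alg := ((f.fiberι s).stalkMap z).hom.toAlgebra
  letI : Module (X.presheaf.stalk ((f.fiberι s) z))
      (((Scheme.Modules.pullback (f.fiberι s)).obj F).presheaf.stalk z) :=
    Module.compHom _ ((f.fiberι s).stalkMap z).hom
  haveI : IsScalarTower (X.presheaf.stalk ((f.fiberι s) z)) ((f.fiber s).presheaf.stalk z)
      (((Scheme.Modules.pullback (f.fiberι s)).obj F).presheaf.stalk z) :=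
    IsScalarTower.of_algebraMap_smul fun _ _ => rfl
  have hb := PBH8.isBaseChange_cStalk (f.fiberι s) F z
  exact isAssociatedPrime_baseChange_iff hsurj _ hker (PBH8.cStalkLin (f.fiberι s) F z) hb

/-- The chart form of S8885. -/
theorem chartIff (f : X ⟶ S) [LocallyOfFiniteType f] (F : X.Modules) [F.IsQuasicoherent]
    (g : S' ⟶ S) (f' : X' ⟶ S') (g' : X' ⟶ X) (hc : IsPullback g' f' f g)
    {V : S.Opens} (hV : IsAffineOpen V) {V' : S'.Opens} (hV' : IsAffineOpen V')
    (hV'V : V' ≤ g ⁻¹ᵁ V) {W : X.Opens} (hW : IsAffineOpen W) (hWV : W ≤ f ⁻¹ᵁ V)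
    (x' : X') (hx' : x' ∈ g' ⁻¹ᵁ W ⊓ f' ⁻¹ᵁ V') :
    x' ∈ MoreMor.relAss f' ((Scheme.Modules.pullback g').obj F) ↔
      g' x' ∈ MoreMor.relAss f F ∧
        ∀ x'' : X', f' x'' = f' x' → g' x'' = g' x' → x'' ⤳ x' → x'' = x' := by
  classical
  set W' : X'.Opens := g' ⁻¹ᵁ W ⊓ f' ⁻¹ᵁ V' with hW'def
  have hW' : IsAffineOpen W' :=
    Groth.Agent.Lib.FibKoszulSch.chart_affine hc hV hV' hW hV'V hWV
  have hpush := Groth.Agent.Lib.FibKoszulSch.chart_pushout hc hV hV' hW hV'V hWV
  set F' : X'.Modules := (Scheme.Modules.pullback g').obj F with hF'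
  haveI : F'.IsQuasicoherent := PBH8.isQuasicoherent_pullback g' F
  have eW'W : W' ≤ g' ⁻¹ᵁ W := inf_le_left
  have eW'V' : W' ≤ f' ⁻¹ᵁ V' := inf_le_right
  -- rings of the charts
  letI algAB : Algebra Γ(S, V) Γ(X, W) := (f.appLE V W hWV).hom.toAlgebra
  letI algAA' : Algebra Γ(S, V) Γ(S', V') := (g.appLE V V' hV'V).hom.toAlgebra
  letI algBB' : Algebra Γ(X, W) Γ(X', W') := (g'.appLE W W' eW'W).hom.toAlgebra
  letI algA'B' : Algebra Γ(S', V') Γ(X', W') := (f'.appLE V' W' eW'V').hom.toAlgebra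
  letI algAB' : Algebra Γ(S, V) Γ(X', W') :=
    ((algebraMap Γ(X, W) Γ(X', W')).comp (algebraMap Γ(S, V) Γ(X, W))).toAlgebra
  haveI : IsScalarTower Γ(S, V) Γ(X, W) Γ(X', W') := IsScalarTower.of_algebraMap_eq' rfl
  haveI : IsScalarTower Γ(S, V) Γ(S', V') Γ(X', W') := by
    refine IsScalarTower.of_algebraMap_eq' ?_
    show (g'.appLE W W' eW'W).hom.comp (f.appLE V W hWV).hom =
      (f'.appLE V' W' eW'V').hom.comp (g.appLE V V' hV'V).hom
    rw [← CommRingCat.hom_comp, ← CommRingCat.hom_comp, hpush.w]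
  haveI hpo : Algebra.IsPushout Γ(S, V) Γ(X, W) Γ(S', V') Γ(X', W') :=
    CommRingCat.isPushout_iff_isPushout.mp hpush
  have hft : (f.appLE V W hWV).hom.FiniteType :=
    HasRingHomProperty.appLE @LocallyOfFiniteType f inferInstance ⟨V, hV⟩ ⟨W, hW⟩ _
  haveI : Algebra.FiniteType Γ(S, V) Γ(X, W) := hft
  -- modules
  letI modAM : Module Γ(S, V) Γ(F, W) := Module.compHom Γ(F, W) (f.appLE V W hWV).hom
  haveI : IsScalarTower Γ(S, V) Γ(X, W) Γ(F, W) :=
    IsScalarTower.of_algebraMap_smul (fun _ _ => rfl)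
  letI modA'M' : Module Γ(S', V') Γ(F', W') := Module.compHom Γ(F', W') (f'.appLE V' W' eW'V').hom
  haveI : IsScalarTower Γ(S', V') Γ(X', W') Γ(F', W') :=
    IsScalarTower.of_algebraMap_smul (fun _ _ => rfl)
  letI modBM' : Module Γ(X, W) Γ(F', W') := Module.compHom Γ(F', W') (g'.appLE W W' eW'W).hom
  haveI : IsScalarTower Γ(X, W) Γ(X', W') Γ(F', W') :=
    IsScalarTower.of_algebraMap_smul (fun _ _ => rfl)
  have hι : IsBaseChange Γ(X', W') (PBH8.cUVLin g' F eW'W) := PBH8.isBaseChange_cUV g' F eW'W hW' hW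
  -- contraction of primes
  have comapB : ∀ (y' : X') (hy' : y' ∈ W'),
      ((hW'.primeIdealOf ⟨y', hy'⟩).asIdeal).comap (algebraMap Γ(X, W) Γ(X', W')) =
        (hW.primeIdealOf ⟨g' y', eW'W hy'⟩).asIdeal := by
    intro y' hy'
    have := IsAffineOpen.comap_primeIdealOf_appLE (f := g') W hW W' hW' eW'W hy'
    exact congrArg PrimeSpectrum.asIdeal this
  have comapA' : ∀ (y' : X') (hy' : y' ∈ W'),
      ((hW'.primeIdealOf ⟨y', hy'⟩).asIdeal).comap (algebraMap Γ(S', V') Γ(X', W')) =
        (hV'.primeIdealOf ⟨f' y', eW'V' hy'⟩).asIdeal := by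
    intro y' hy'
    have := IsAffineOpen.comap_primeIdealOf_appLE (f := f') V' hV' W' hW' eW'V' hy'
    exact congrArg PrimeSpectrum.asIdeal this
  refine (mem_relAss_iff f' F' hV' hW' eW'V' hx').trans ?_
  refine Iff.trans ?_ (and_congr_left' (mem_relAss_iff f F hV hW hWV (eW'W hx'))).symm
  rw [← comapB x' hx']
  refine (relAssElem_baseChange_iff (A := Γ(S, V)) (A' := Γ(S', V'))
    (PBH8.cUVLin g' F eW'W) hι (hW'.primeIdealOf ⟨x', hx'⟩).asIdeal).trans ?_
  refine and_congr_right fun _ => ?_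
  constructor
  · intro H x'' h1 h2 h3
    have hx''W' : x'' ∈ W' := h3.mem_open W'.2 hx'
    apply eq_of_prime_eq hW' hx''W' hx'
    apply H _ (hW'.primeIdealOf ⟨x'', hx''W'⟩).isPrime
    · exact (mem_closure_iff_prime_le hW' hx''W' hx').mp (specializes_iff_mem_closure.mp h3)
    · rw [comapB x'' hx''W', comapB x' hx']
      exact congrArg PrimeSpectrum.asIdeal (primeIdealOf_congr hW h2 _ _)
    · rw [comapA' x'' hx''W', comapA' x' hx']
      exact congrArg PrimeSpectrum.asIdeal (primeIdealOf_congr hV' h1 _ _)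
  · intro H q'' hq'' hle hB hA'
    obtain ⟨x'', hx''W', hx''q⟩ := exists_point_of_prime hW' q'' hq''
    have e1 : f' x'' = f' x' := by
      apply eq_of_prime_eq hV' (eW'V' hx''W') (eW'V' hx')
      rw [← comapA' x'' hx''W', ← comapA' x' hx', hx''q, hA']
    have e2 : g' x'' = g' x' := by
      apply eq_of_prime_eq hW (eW'W hx''W') (eW'W hx')
      rw [← comapB x'' hx''W', ← comapB x' hx', hx''q, hB]
    have e3 : x'' ⤳ x' := by
      rw [specializes_iff_mem_closure, mem_closure_iff_prime_le hW' hx''W' hx', hx''q]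
      exact hle
    have e4 := H x'' e1 e2 e3
    rw [← hx''q]
    exact congrArg PrimeSpectrum.asIdeal (primeIdealOf_congr hW' e4 hx''W' hx')

/-- **S8885.** -/
theorem main8885 (f : X ⟶ S) [LocallyOfFiniteType f] (g : S' ⟶ S)
    (F : X.Modules) (hF : Coh.IsQCoh F) (x' : ↥(pullback f g)) :
    Curv2.IsAssPoint
        ((Scheme.Modules.pullback ((pullback.snd f g).fiberι ((pullback.snd f g) x'))).obj
          ((Scheme.Modules.pullback (pullback.fst f g)).obj F))
        ((pullback.snd f g).asFiber x') ↔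
      Curv2.IsAssPoint ((Scheme.Modules.pullback (f.fiberι (f ((pullback.fst f g) x')))).obj F)
          (f.asFiber ((pullback.fst f g) x')) ∧
        ∀ x'' : ↥(pullback f g), (pullback.snd f g) x'' = (pullback.snd f g) x' →
          (pullback.fst f g) x'' = (pullback.fst f g) x' → x'' ⤳ x' → x'' = x' := by
  haveI : F.IsQuasicoherent := hF
  have hc : IsPullback (pullback.fst f g) (pullback.snd f g) f g := IsPullback.of_hasPullback f g
  haveI : ((Scheme.Modules.pullback (pullback.fst f g)).obj F).IsQuasicoherent :=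
    PBH8.isQuasicoherent_pullback (pullback.fst f g) F
  have hL := isAssPoint_fiber_iff (pullback.snd f g)
    ((Scheme.Modules.pullback (pullback.fst f g)).obj F) ((pullback.snd f g) x')
    ((pullback.snd f g).asFiber x')
  rw [Scheme.Hom.fiberι_asFiber] at hL
  have hR := isAssPoint_fiber_iff f F (f ((pullback.fst f g) x')) (f.asFiber ((pullback.fst f g) x'))
  rw [Scheme.Hom.fiberι_asFiber] at hR
  refine hL.trans ?_
  refine Iff.trans ?_ (and_congr_left' hR).symm
  -- charts
  have hw : f ((pullback.fst f g) x') = g ((pullback.snd f g) x') := by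
    have := congrArg (fun φ => φ.base x') hc.w
    exact this
  obtain ⟨_, ⟨V, hV, rfl⟩, hsV, -⟩ := S.isBasis_affineOpens.exists_subset_of_mem_open
    (Set.mem_univ (g ((pullback.snd f g) x'))) isOpen_univ
  obtain ⟨_, ⟨V', hV', rfl⟩, hs'V', hV'V⟩ := S'.isBasis_affineOpens.exists_subset_of_mem_open
    (show (pullback.snd f g) x' ∈ ((g ⁻¹ᵁ V : S'.Opens) : Set S') from hsV) (g ⁻¹ᵁ V).2
  obtain ⟨_, ⟨W, hW, rfl⟩, hxW, hWV⟩ := X.isBasis_affineOpens.exists_subset_of_mem_open
    (show (pullback.fst f g) x' ∈ ((f ⁻¹ᵁ V : X.Opens) : Set X) from by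
      show f ((pullback.fst f g) x') ∈ V
      rw [hw]; exact hsV) (f ⁻¹ᵁ V).2
  exact chartIff f F g (pullback.snd f g) (pullback.fst f g) hc hV hV' hV'V hW hWV x'
    ⟨hxW, hs'V'⟩

end Groth.Agent.Lib.RelAssBCSch
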