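import Mathlib
import Groth.Prelude
import Groth.Agent.Lib.AssTens1_helper8
import Groth.Agent.Lib.StalkTens2_helper3
import Groth.Agent.Lib.PB10_helper8
import Groth.Agent.Lib.TorFree1_helper8
import Groth.Agent.Lib.RegCodim_helper5
import Groth.Agent.Lib.RelAssBCSch2_helper2
import Groth.Agent.Lib.FibMono1_helper8
import Groth.Agent.Lib.TensQC2_helper8
import Groth.Agent.Lib.AssPt1_helper8

/-!
# Associated points of `f^*E ⊗ F` for `F` flat over the base (helper8).  APPEND-ONLY once landed.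
-/

set_option autoImplicit false
set_option linter.all false
set_option maxHeartbeats 1600000
set_option backward.isDefEq.respectTransparency false
set_option backward.isDefEq.respectTransparency.types false
set_option backward.defeqAttrib.useBackward true

universe u

open CategoryTheory AlgebraicGeometry TopologicalSpace Opposite TensorProduct IsLocalRing

namespace Groth.Agent.Lib.AssTensH8

open Groth.Agent.StalkGen

section G

variable {Y : Scheme.{u}} [IsLocallyNoetherian Y] (E : Y.Modules) [E.IsQuasicoherent]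

/-- associated generizations and associated primes of the stalk. -/
theorem isAssPoint_iff_genPrime {y' y : Y} (h : y' ⤳ y) :
    Curv2.IsAssPoint E y' ↔ IsAssociatedPrime (genPrime h) (E.presheaf.stalk y) := by
  refine ⟨fun hy' => ?_, fun hh => TorFreeH8.isAssPoint_of_isAssociatedPrime E h hh⟩
  obtain ⟨_, ⟨U, hU : IsAffineOpen U, rfl⟩, hyU, -⟩ :=
    (Y.isBasis_affineOpens).exists_subset_of_mem_open (Set.mem_univ y) isOpen_univ
  have hy : y ∈ U := hyU
  have hy'U : y' ∈ U := h.mem_open U.isOpen hy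
  haveI : IsNoetherianRing Γ(Y, U) := IsLocallyNoetherian.component_noetherian ⟨U, hU⟩
  have h1 := (AssPtH8.isAssPoint_iff E hU hy'U).1 hy'
  letI := StalkLocH8.modSec E hy
  haveI := StalkLocH8.isLocalizedModule_germLin E hU hy
  letI := TopCat.Presheaf.algebra_section_stalk Y.presheaf (⟨y, hy⟩ : U)
  haveI : IsLocalization.AtPrime (Y.presheaf.stalk y) (hU.primeIdealOf ⟨y, hy⟩).asIdeal :=
    hU.isLocalization_stalk ⟨y, hy⟩
  haveI : IsScalarTower Γ(Y, U) (Y.presheaf.stalk y) (E.presheaf.stalk y) :=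
    IsScalarTower.of_algebraMap_smul fun _ _ => rfl
  have h2 := Module.associatedPrimes.preimage_comap_associatedPrimes_eq_associatedPrimes_of_isLocalizedModule
    (hU.primeIdealOf ⟨y, hy⟩).asIdeal.primeCompl (Y.presheaf.stalk y) (StalkLocH8.germLin E hy)
  show genPrime h ∈ associatedPrimes (Y.presheaf.stalk y) (E.presheaf.stalk y)
  rw [← h2, Set.mem_preimage]
  have h3 : Ideal.comap (algebraMap Γ(Y, U) (Y.presheaf.stalk y)) (genPrime h) =
      (hU.primeIdealOf ⟨y', hy'U⟩).asIdeal := comap_genPrime hU hy h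
  rw [h3]
  exact h1

end G

section A

variable {X Y : Scheme.{u}} (f : X ⟶ Y) (E : Y.Modules) [E.IsQuasicoherent] (F : X.Modules) (x : X)

/-- the ring-level description of the stalk of `f^*E ⊗ F`. -/
theorem exists_stalkEquiv :
    letI := (f.stalkMap x).hom.toAlgebra
    letI := FlatMod.moduleStalkOver f F x
    haveI : IsScalarTower (Y.presheaf.stalk (f x)) (X.presheaf.stalk x) (F.presheaf.stalk x) :=
      IsScalarTower.of_algebraMap_smul fun _ _ => rfl
    Nonempty ((CohB1.tensorMod ((Scheme.Modules.pullback f).obj E) F).presheaf.stalk x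
      ≃ₗ[X.presheaf.stalk x]
      (F.presheaf.stalk x) ⊗[Y.presheaf.stalk (f x)] (E.presheaf.stalk (f x))) := by
  letI := (f.stalkMap x).hom.toAlgebra
  letI := FlatMod.moduleStalkOver f F x
  haveI : IsScalarTower (Y.presheaf.stalk (f x)) (X.presheaf.stalk x) (F.presheaf.stalk x) :=
    IsScalarTower.of_algebraMap_smul fun _ _ => rfl
  letI : Module (Y.presheaf.stalk (f x))
      (((Scheme.Modules.pullback f).obj E).presheaf.stalk x) :=
    Module.compHom _ (f.stalkMap x).hom
  haveI : IsScalarTower (Y.presheaf.stalk (f x)) (X.presheaf.stalk x)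
      (((Scheme.Modules.pullback f).obj E).presheaf.stalk x) :=
    IsScalarTower.of_algebraMap_smul fun _ _ => rfl
  have hb := PBH8.isBaseChange_cStalk f E x
  let e1 : (CohB1.tensorMod ((Scheme.Modules.pullback f).obj E) F).presheaf.stalk x
      ≃ₗ[X.presheaf.stalk x]
      (((Scheme.Modules.pullback f).obj E).presheaf.stalk x) ⊗[X.presheaf.stalk x]
        (F.presheaf.stalk x) :=
    (Groth.Agent.Lib.StalkTensH3.stalkTensorIso x
      ((Scheme.Modules.pullback f).obj E) F).toLinearEquiv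
  exact ⟨e1.trans (tensEquiv (PBH8.cStalkLin f E x) hb)⟩

theorem isAssPoint_tensor_iff [IsLocallyNoetherian Y] (hflat : FlatMod.IsFlatOverAt f F x) :
    Curv2.IsAssPoint (CohB1.tensorMod ((Scheme.Modules.pullback f).obj E) F) x ↔
      Curv2.IsAssPoint E (f x) ∧ x ∈ MoreMor.relAss f F := by
  letI := (f.stalkMap x).hom.toAlgebra
  letI := FlatMod.moduleStalkOver f F x
  haveI : IsScalarTower (Y.presheaf.stalk (f x)) (X.presheaf.stalk x) (F.presheaf.stalk x) :=
    IsScalarTower.of_algebraMap_smul fun _ _ => rfl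
  obtain ⟨e⟩ := exists_stalkEquiv f E F x
  haveI : Module.Flat (Y.presheaf.stalk (f x)) (F.presheaf.stalk x) := hflat
  haveI : IsLocalHom (algebraMap (Y.presheaf.stalk (f x)) (X.presheaf.stalk x)) :=
    (inferInstance : IsLocalHom (f.stalkMap x).hom)
  unfold Curv2.IsAssPoint
  rw [LinearEquiv.isAssociatedPrime_iff e]
  exact max_mem_iff (E.presheaf.stalk (f x))

instance isQuasicoherent_G [F.IsQuasicoherent] :
    (CohB1.tensorMod ((Scheme.Modules.pullback f).obj E) F).IsQuasicoherent :=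
  TensQCH8.isQuasicoherent_tensorMod _ _

theorem exists_chain_points [IsLocallyNoetherian X] [IsLocallyNoetherian Y] [F.IsQuasicoherent]
    (hFT : CohB1.IsFT F) (x₀ : X) (hflat : FlatMod.IsFlatOverAt f F x₀)
    (hnt : Nontrivial (F.presheaf.stalk x₀)) {y' : Y} (h : y' ⤳ f x₀)
    (hy' : Curv2.IsAssPoint E y') (hy : Curv2.IsAssPoint E (f x₀)) :
    ∃ x x' : X, Curv2.IsAssPoint (CohB1.tensorMod ((Scheme.Modules.pullback f).obj E) F) x ∧
      Curv2.IsAssPoint (CohB1.tensorMod ((Scheme.Modules.pullback f).obj E) F) x' ∧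
      x' ⤳ x ∧ f x = f x₀ ∧ (x = x' → y' = f x₀) := by
  letI := (f.stalkMap x₀).hom.toAlgebra
  letI := FlatMod.moduleStalkOver f F x₀
  haveI : IsScalarTower (Y.presheaf.stalk (f x₀)) (X.presheaf.stalk x₀) (F.presheaf.stalk x₀) :=
    IsScalarTower.of_algebraMap_smul fun _ _ => rfl
  obtain ⟨e⟩ := exists_stalkEquiv f E F x₀
  haveI : Module.Flat (Y.presheaf.stalk (f x₀)) (F.presheaf.stalk x₀) := hflat
  haveI : IsLocalHom (algebraMap (Y.presheaf.stalk (f x₀)) (X.presheaf.stalk x₀)) :=
    (inferInstance : IsLocalHom (f.stalkMap x₀).hom)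
  haveI : Module.Finite (X.presheaf.stalk x₀) (F.presheaf.stalk x₀) :=
    Groth.Agent.Lib.FibMonoH8.finite_stalk_of_isFT F hFT x₀
  have hp : genPrime h ∈ associatedPrimes (Y.presheaf.stalk (f x₀)) (E.presheaf.stalk (f x₀)) :=
    (isAssPoint_iff_genPrime E h).1 hy'
  obtain ⟨q, q', hq, hq', hle, hqc, hq'c⟩ :=
    exists_chain (S := X.presheaf.stalk x₀) (N := F.presheaf.stalk x₀)
      (E.presheaf.stalk (f x₀)) (genPrime h) hp hy
  have hq2 : IsAssociatedPrime q
      ((CohB1.tensorMod ((Scheme.Modules.pullback f).obj E) F).presheaf.stalk x₀) :=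
    (LinearEquiv.isAssociatedPrime_iff e).2 hq
  have hq'2 : IsAssociatedPrime q'
      ((CohB1.tensorMod ((Scheme.Modules.pullback f).obj E) F).presheaf.stalk x₀) :=
    (LinearEquiv.isAssociatedPrime_iff e).2 hq'
  haveI := hq2.isPrime
  haveI := hq'2.isPrime
  obtain ⟨x, hx, rfl⟩ := exists_genPrime_eq x₀ q
  obtain ⟨x', hx', rfl⟩ := exists_genPrime_eq x₀ q'
  refine ⟨x, x', TorFreeH8.isAssPoint_of_isAssociatedPrime _ hx hq2,
    TorFreeH8.isAssPoint_of_isAssociatedPrime _ hx' hq'2,
    Groth.Agent.RegCodim.specializes_of_genPrime_le hx' hx hle, ?_, ?_⟩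
  · have h1 := Groth.Agent.RegCodim.comap_stalkMap_genPrime f hx (hx.map f.continuous)
    have h2 : genPrime (hx.map f.continuous) = maximalIdeal (Y.presheaf.stalk (f x₀)) := by
      rw [← h1]; exact hqc
    exact eq_of_genPrime_eq_maximalIdeal _ h2
  · intro hxx
    subst hxx
    have h2 : genPrime h = maximalIdeal (Y.presheaf.stalk (f x₀)) := by
      rw [← hq'c]; exact hqc
    exact eq_of_genPrime_eq_maximalIdeal _ h2

theorem nontrivial_of_mem_relAss (hx : x ∈ MoreMor.relAss f F) :
    Nontrivial (F.presheaf.stalk x) := by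
  by_contra hn
  rw [not_nontrivial_iff_subsingleton] at hn
  exact not_isAssociatedPrime_of_subsingleton (show IsAssociatedPrime _ _ from hx)

theorem fiberι_mem (y : Y) (z : ↥(f.fiber y)) : f ((f.fiberι y) z) = y := by
  have h := (f.range_fiberι y).le ⟨z, rfl⟩
  exact h

theorem exists_fiberι_eq (x : X) : ∃ z : ↥(f.fiber (f x)), (f.fiberι (f x)) z = x := by
  have h : x ∈ Set.range (f.fiberι (f x)) := by
    rw [f.range_fiberι]
    rfl
  exact h

theorem isAssPoint_congr {y₁ y₂ : Y} (h : y₁ = y₂) (hy : Curv2.IsAssPoint E y₁) :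
    Curv2.IsAssPoint E y₂ := h ▸ hy

end A

theorem main2545 {X Y : Scheme.{u}} [IsLocallyNoetherian X] [IsLocallyNoetherian Y]
    (f : X ⟶ Y) (E : Y.Modules) (hE : Coh.IsCoh E) (F : X.Modules) (hF : Coh.IsCoh F)
    (hflat : FlatMod.IsFlatOver f F) :
    AssSch.NoEmbedded (CohB1.tensorMod ((Scheme.Modules.pullback f).obj E) F) ↔
      ∀ y ∈ AssSch.Ass E ∩ f.base '' CohB1.support F,
        (∀ y' ∈ AssSch.Ass E, y' ⤳ y → y' = y) ∧
          AssSch.NoEmbedded ((Scheme.Modules.pullback (f.fiberι y)).obj F) := by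
  haveI := hE.1
  haveI := hF.1
  constructor
  · rintro hG y ⟨hyE, x₀, hx₀, rfl⟩
    have hnt : Nontrivial (F.presheaf.stalk x₀) := not_subsingleton_iff_nontrivial.1 hx₀
    refine ⟨?_, ?_⟩
    · intro y' hy' hspec
      obtain ⟨x, x', hx, hx', hsp, -, himp⟩ :=
        exists_chain_points f E F hF.2 x₀ (hflat x₀) hnt hspec hy' hyE
      exact himp (hG x hx x' hx' hsp)
    · intro z hz z' hz' hsp
      have h1 : ∀ w : ↥(f.fiber (f x₀)),
          Curv2.IsAssPoint ((Scheme.Modules.pullback (f.fiberι (f x₀))).obj F) w →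
          Curv2.IsAssPoint (CohB1.tensorMod ((Scheme.Modules.pullback f).obj E) F)
            ((f.fiberι (f x₀)) w) := by
        intro w hw
        rw [isAssPoint_tensor_iff f E F _ (hflat _)]
        exact ⟨isAssPoint_congr E (fiberι_mem f _ w).symm hyE,
          (Groth.Agent.Lib.RelAssBCSch.isAssPoint_fiber_iff f F (f x₀) w).1 hw⟩
      have h2 := hG _ (h1 z hz) _ (h1 z' hz') (hsp.map (f.fiberι (f x₀)).continuous)
      exact (f.fiberι (f x₀)).isEmbedding.injective h2
  · intro H x hx x' hx' hsp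
    obtain ⟨hyE, hrel⟩ := (isAssPoint_tensor_iff f E F x (hflat x)).1 hx
    obtain ⟨hy'E, hrel'⟩ := (isAssPoint_tensor_iff f E F x' (hflat x')).1 hx'
    have hnt := nontrivial_of_mem_relAss f F x hrel
    obtain ⟨hmax, hne⟩ := H (f x) ⟨hyE, x, not_subsingleton_iff_nontrivial.2 hnt, rfl⟩
    have hff : f x' = f x := hmax (f x') hy'E (hsp.map f.continuous)
    obtain ⟨z, hz⟩ := exists_fiberι_eq f x
    obtain ⟨z', hz'⟩ : ∃ z' : ↥(f.fiber (f x)), (f.fiberι (f x)) z' = x' := by
      have h : x' ∈ Set.range (f.fiberι (f x)) := by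
        rw [f.range_fiberι]
        exact hff
      exact h
    have hzA : Curv2.IsAssPoint ((Scheme.Modules.pullback (f.fiberι (f x))).obj F) z :=
      (Groth.Agent.Lib.RelAssBCSch.isAssPoint_fiber_iff f F (f x) z).2 (hz.symm ▸ hrel)
    have hz'A : Curv2.IsAssPoint ((Scheme.Modules.pullback (f.fiberι (f x))).obj F) z' :=
      (Groth.Agent.Lib.RelAssBCSch.isAssPoint_fiber_iff f F (f x) z').2 (hz'.symm ▸ hrel')
    have hsp' : z' ⤳ z := by
      rw [← (f.fiberι (f x)).isEmbedding.isInducing.specializes_iff, hz, hz']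
      exact hsp
    have := hne z hzA z' hz'A hsp'
    rw [← hz, ← hz', this]

end Groth.Agent.Lib.AssTensH8
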