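import Mathlib
import Groth.Agent.Lib.AssTens1_helper8

/-!
# Lengths of `N ⊗_R M` for `N` flat over a local ring (helper8).  APPEND-ONLY once landed.
-/

set_option autoImplicit false
set_option linter.all false
set_option maxHeartbeats 1600000

namespace Groth.Agent.Lib.AssTensH8

open TensorProduct IsLocalRing Groth.Agent.AssFlat

universe u

section len

variable {R S : Type u} [CommRing R] [CommRing S] [Algebra R S]
variable {N : Type u} [AddCommGroup N] [Module S N] [Module R N] [IsScalarTower R S N]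
variable [IsLocalRing R]

theorem faithfullyFlat_of_nontrivial_quot [Module.Flat R N]
    (hnt : Nontrivial (N ⧸ (maximalIdeal R).map (algebraMap R S) • (⊤ : Submodule S N))) :
    Module.FaithfullyFlat R N := by
  refine ⟨?_⟩
  intro m hm htop
  obtain rfl := IsLocalRing.eq_maximalIdeal hm
  rw [Submodule.Quotient.nontrivial_iff] at hnt
  apply hnt
  rw [eq_top_iff]
  intro n _
  have hn : n ∈ (maximalIdeal R • ⊤ : Submodule R N) := by rw [htop]; trivial
  refine Submodule.smul_induction_on hn ?_ ?_
  · intro r hr n' _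
    rw [← algebraMap_smul S r n']
    exact Submodule.smul_mem_smul (Ideal.mem_map_of_mem _ hr) Submodule.mem_top
  · intro a b ha hb
    exact Submodule.add_mem _ ha hb

variable (M : Type u) [AddCommGroup M] [Module R M]

/-- if `ℓ_R(M) = 1` then `N ⊗_R M ≅ N / m_R N`. -/
theorem length_tensor_of_length_eq_one (hM : Module.length R M = 1) :
    Module.length S (N ⊗[R] M) =
      Module.length S (N ⧸ (maximalIdeal R).map (algebraMap R S) • (⊤ : Submodule S N)) := by
  haveI : IsSimpleModule R M := Module.length_eq_one_iff.1 hM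
  obtain ⟨I, hI, ⟨e⟩⟩ := isSimpleModule_iff_quot_maximal.1 (inferInstance : IsSimpleModule R M)
  obtain rfl := IsLocalRing.eq_maximalIdeal hI
  have e1 : N ⊗[R] M ≃ₗ[S] N ⊗[R] (R ⧸ maximalIdeal R) :=
    TensorProduct.AlgebraTensorModule.congr (LinearEquiv.refl S N) e
  rw [e1.length_eq, (tensorQuotEquiv (S := S) N (maximalIdeal R)).length_eq]

theorem length_one_of_tensor [IsNoetherianRing R] [Module.Flat R N]
    (hm : maximalIdeal R ∈ associatedPrimes R M)
    (hnt : Nontrivial (N ⧸ (maximalIdeal R).map (algebraMap R S) • (⊤ : Submodule S N)))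
    (hlen : Module.length S (N ⊗[R] M) = 1) :
    Module.length R M = 1 ∧
      Module.length S (N ⧸ (maximalIdeal R).map (algebraMap R S) • (⊤ : Submodule S N)) = 1 := by
  obtain ⟨-, g, hg⟩ := (isAssociatedPrime_iff_exists_injective_linearMap (maximalIdeal R) M).1 hm
  haveI hsimple : IsSimpleModule S (N ⊗[R] M) := Module.length_eq_one_iff.1 hlen
  haveI : Nontrivial (N ⊗[R] (R ⧸ maximalIdeal R)) :=
    (tensorQuotEquiv (S := S) N (maximalIdeal R)).symm.toEquiv.nontrivial
  have hTinj : Function.Injective (lT S N g) := lT_injective g hg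
  have hrange : LinearMap.range (lT S N g) = ⊤ := by
    rcases eq_bot_or_eq_top (LinearMap.range (lT S N g)) with h | h
    · exfalso
      obtain ⟨a, b, hab⟩ := exists_pair_ne (N ⊗[R] (R ⧸ maximalIdeal R))
      apply hab
      apply hTinj
      have ha : lT S N g a ∈ LinearMap.range (lT S N g) := ⟨a, rfl⟩
      have hb : lT S N g b ∈ LinearMap.range (lT S N g) := ⟨b, rfl⟩
      rw [h, Submodule.mem_bot] at ha hb
      rw [ha, hb]
    · exact h
  have hTsurj : Function.Surjective (lT S N g) := LinearMap.range_eq_top.1 hrange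
  have e2 : N ⊗[R] (R ⧸ maximalIdeal R) ≃ₗ[S] N ⊗[R] M :=
    LinearEquiv.ofBijective (lT S N g) ⟨hTinj, hTsurj⟩
  have hlen2 : Module.length S
      (N ⧸ (maximalIdeal R).map (algebraMap R S) • (⊤ : Submodule S N)) = 1 := by
    rw [(tensorQuotEquiv (S := S) N (maximalIdeal R)).length_eq, e2.length_eq, hlen]
  refine ⟨?_, hlen2⟩
  -- `g` is surjective
  haveI := faithfullyFlat_of_nontrivial_quot (R := R) (S := S) (N := N) hnt
  have hex : Function.Exact g (LinearMap.range g).mkQ := LinearMap.exact_map_mkQ_range g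
  have hex2 := lT_exact (S := S) (N := N) g (LinearMap.range g).mkQ hex
  have hsurj2 : Function.Surjective (lT S N (LinearMap.range g).mkQ) :=
    LinearMap.lTensor_surjective N (Submodule.mkQ_surjective _)
  haveI : Subsingleton (N ⊗[R] (M ⧸ LinearMap.range g)) := by
    refine ⟨fun a b => ?_⟩
    have h0 : ∀ c : N ⊗[R] (M ⧸ LinearMap.range g), c = 0 := by
      intro c
      obtain ⟨d, rfl⟩ := hsurj2 c
      obtain ⟨d', rfl⟩ := hTsurj d
      exact (hex2 _).2 ⟨d', rfl⟩
    rw [h0 a, h0 b]
  haveI : Subsingleton (M ⧸ LinearMap.range g) :=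
    Module.FaithfullyFlat.lTensor_reflects_triviality R N _
  have hgs : LinearMap.range g = ⊤ := Submodule.Quotient.subsingleton_iff.1 inferInstance
  have e3 : (R ⧸ maximalIdeal R) ≃ₗ[R] M :=
    LinearEquiv.ofBijective g ⟨hg, LinearMap.range_eq_top.1 hgs⟩
  rw [← e3.length_eq]
  haveI : IsSimpleModule R (R ⧸ maximalIdeal R) :=
    isSimpleModule_iff_quot_maximal.2 ⟨_, inferInstance, ⟨LinearEquiv.refl _ _⟩⟩
  exact Module.length_eq_one R _

end len

section surj

variable {S S' : Type u} [CommRing S] [CommRing S'] [Algebra S S']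
variable {N N' : Type u} [AddCommGroup N] [Module S N] [AddCommGroup N'] [Module S' N']
  [Module S N'] [IsScalarTower S S' N']

/-- lengths after base change along a surjection. -/
theorem length_baseChange_of_surjective (hπ : Function.Surjective (algebraMap S S'))
    (I : Ideal S) (hI : RingHom.ker (algebraMap S S') = I) (j : N →ₗ[S] N')
    (hj : IsBaseChange S' j) :
    Module.length S' N' = Module.length S (N ⧸ I • (⊤ : Submodule S N)) := by
  rw [← Module.length_eq_of_surjective (M := N') hπ]
  have e1 : N' ≃ₗ[S] S' ⊗[S] N := (hj.equiv.restrictScalars S).symm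
  have hk : RingHom.ker (Algebra.ofId S S') = I := by
    rw [← hI]
    ext r
    rw [RingHom.mem_ker, RingHom.mem_ker]
    rfl
  let e₁ : (S ⧸ RingHom.ker (Algebra.ofId S S')) ≃ₐ[S] S' :=
    Ideal.quotientKerAlgEquivOfSurjective (f := Algebra.ofId S S') hπ
  have e2 : S' ⊗[S] N ≃ₗ[S] (S ⧸ RingHom.ker (Algebra.ofId S S')) ⊗[S] N :=
    (LinearEquiv.rTensor N e₁.toLinearEquiv).symm
  have e3 := TensorProduct.quotTensorEquivQuotSMul N (RingHom.ker (Algebra.ofId S S'))
  rw [e1.length_eq, e2.length_eq, e3.length_eq, hk]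

end surj

end Groth.Agent.Lib.AssTensH8
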