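import Mathlib
import Groth.Prelude
import Groth.Agent.Lib.AssTens2_helper8
import Groth.Agent.Lib.AssTens3_helper8

/-!
# Reducedness of `f^*E ⊗ F` for `F` flat over the base (helper8).  APPEND-ONLY once landed.
-/

set_option autoImplicit false
set_option linter.all false
set_option maxHeartbeats 1600000
set_option backward.isDefEq.respectTransparency false
set_option backward.isDefEq.respectTransparency.types false
set_option backward.defeqAttrib.useBackward true

universe u

open CategoryTheory AlgebraicGeometry TopologicalSpace Opposite TensorProduct IsLocalRing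

namespace Groth.Agent.Lib.AssTensH8

open Groth.Agent.StalkGen

section L

variable {X Y : Scheme.{u}} (f : X ⟶ Y) (E : Y.Modules) (F : X.Modules) (x : X)

/-- the length of the stalk of the fibre module `F_x / m_{f x} F_x`. -/
noncomputable def fibLen (x : X) : ℕ∞ :=
  Module.length (X.presheaf.stalk x)
    (F.presheaf.stalk x ⧸ (Ideal.map (f.stalkMap x).hom (maximalIdeal (Y.presheaf.stalk (f x))) •
      (⊤ : Submodule (X.presheaf.stalk x) (F.presheaf.stalk x))))

theorem length_stalk_congr {y₁ y₂ : Y} (h : y₁ = y₂) :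
    Module.length (Y.presheaf.stalk y₁) (E.presheaf.stalk y₁) =
      Module.length (Y.presheaf.stalk y₂) (E.presheaf.stalk y₂) := by
  subst h; rfl

variable [E.IsQuasicoherent]

theorem length_G_of_one
    (hE : Module.length (Y.presheaf.stalk (f x)) (E.presheaf.stalk (f x)) = 1) :
    Module.length (X.presheaf.stalk x)
      ((CohB1.tensorMod ((Scheme.Modules.pullback f).obj E) F).presheaf.stalk x) =
      fibLen f F x := by
  letI := (f.stalkMap x).hom.toAlgebra
  letI := FlatMod.moduleStalkOver f F x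
  haveI : IsScalarTower (Y.presheaf.stalk (f x)) (X.presheaf.stalk x) (F.presheaf.stalk x) :=
    IsScalarTower.of_algebraMap_smul fun _ _ => rfl
  obtain ⟨e⟩ := exists_stalkEquiv f E F x
  rw [e.length_eq]
  exact length_tensor_of_length_eq_one (S := X.presheaf.stalk x) (N := F.presheaf.stalk x)
    (E.presheaf.stalk (f x)) hE

theorem length_one_of_G [IsLocallyNoetherian Y] (hflat : FlatMod.IsFlatOverAt f F x)
    (hy : Curv2.IsAssPoint E (f x)) (hrel : x ∈ MoreMor.relAss f F)
    (hlen : Module.length (X.presheaf.stalk x)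
      ((CohB1.tensorMod ((Scheme.Modules.pullback f).obj E) F).presheaf.stalk x) = 1) :
    Module.length (Y.presheaf.stalk (f x)) (E.presheaf.stalk (f x)) = 1 ∧ fibLen f F x = 1 := by
  letI := (f.stalkMap x).hom.toAlgebra
  letI := FlatMod.moduleStalkOver f F x
  haveI : IsScalarTower (Y.presheaf.stalk (f x)) (X.presheaf.stalk x) (F.presheaf.stalk x) :=
    IsScalarTower.of_algebraMap_smul fun _ _ => rfl
  obtain ⟨e⟩ := exists_stalkEquiv f E F x
  haveI : Module.Flat (Y.presheaf.stalk (f x)) (F.presheaf.stalk x) := hflat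
  rw [e.length_eq] at hlen
  have hnt : Nontrivial (F.presheaf.stalk x ⧸
      (maximalIdeal (Y.presheaf.stalk (f x))).map
        (algebraMap (Y.presheaf.stalk (f x)) (X.presheaf.stalk x)) •
      (⊤ : Submodule (X.presheaf.stalk x) (F.presheaf.stalk x))) := by
    by_contra hn
    rw [not_nontrivial_iff_subsingleton] at hn
    exact not_isAssociatedPrime_of_subsingleton (show IsAssociatedPrime _ _ from hrel)
  exact length_one_of_tensor (S := X.presheaf.stalk x) (N := F.presheaf.stalk x)
    (E.presheaf.stalk (f x)) hy hnt hlen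

end L

section Fib

variable {X Y : Scheme.{u}} (f : X ⟶ Y) (F : X.Modules) [F.IsQuasicoherent]

theorem length_fiber (y : Y) (z : ↥(f.fiber y)) :
    Module.length ((f.fiber y).presheaf.stalk z)
      (((Scheme.Modules.pullback (f.fiberι y)).obj F).presheaf.stalk z) =
      fibLen f F ((f.fiberι y) z) := by
  obtain ⟨hsurj, hker⟩ := Groth.Agent.FibStalkKer.main9501 f y z
  letI alg := ((f.fiberι y).stalkMap z).hom.toAlgebra
  letI : Module (X.presheaf.stalk ((f.fiberι y) z))
      (((Scheme.Modules.pullback (f.fiberι y)).obj F).presheaf.stalk z) :=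
    Module.compHom _ ((f.fiberι y).stalkMap z).hom
  haveI : IsScalarTower (X.presheaf.stalk ((f.fiberι y) z)) ((f.fiber y).presheaf.stalk z)
      (((Scheme.Modules.pullback (f.fiberι y)).obj F).presheaf.stalk z) :=
    IsScalarTower.of_algebraMap_smul fun _ _ => rfl
  have hb := PBH8.isBaseChange_cStalk (f.fiberι y) F z
  exact length_baseChange_of_surjective hsurj _ hker (PBH8.cStalkLin (f.fiberι y) F z) hb

end Fib

theorem main2546 {X Y : Scheme.{u}} [IsLocallyNoetherian X] [IsLocallyNoetherian Y]
    (f : X ⟶ Y) (E : Y.Modules) (hE : Coh.IsCoh E) (F : X.Modules) (hF : Coh.IsCoh F)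
    (hflat : FlatMod.IsFlatOver f F) :
    AssSch.IsReducedMod (CohB1.tensorMod ((Scheme.Modules.pullback f).obj E) F) ↔
      ∀ y ∈ AssSch.Ass E ∩ f.base '' CohB1.support F,
        (∀ y' ∈ AssSch.Ass E, y' ⤳ y → y' = y) ∧
          Module.length (Y.presheaf.stalk y) (E.presheaf.stalk y) = 1 ∧
          AssSch.IsReducedMod ((Scheme.Modules.pullback (f.fiberι y)).obj F) := by
  haveI := hE.1
  haveI := hF.1
  constructor
  · rintro ⟨hNE, hlen⟩ y hy
    obtain ⟨hmax, hNEfib⟩ := (main2545 f E hE F hF hflat).1 hNE y hy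
    obtain ⟨hyE, x₀, hx₀, rfl⟩ := hy
    have hnt : Nontrivial (F.presheaf.stalk x₀) := not_subsingleton_iff_nontrivial.1 hx₀
    refine ⟨hmax, ?_, hNEfib, ?_⟩
    · obtain ⟨x, -, hx, -, -, hfx, -⟩ :=
        exists_chain_points f E F hF.2 x₀ (hflat x₀) hnt specializes_rfl hyE hyE
      obtain ⟨hyE', hrel⟩ := (isAssPoint_tensor_iff f E F x (hflat x)).1 hx
      rw [← length_stalk_congr E hfx]
      exact (length_one_of_G f E F x (hflat x) hyE' hrel (hlen x hx)).1
    · intro z hz
      rw [length_fiber]
      have hrel := (Groth.Agent.Lib.RelAssBCSch.isAssPoint_fiber_iff f F (f x₀) z).1 hz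
      have hyE' := isAssPoint_congr E (fiberι_mem f _ z).symm hyE
      have hx : Curv2.IsAssPoint (CohB1.tensorMod ((Scheme.Modules.pullback f).obj E) F)
          ((f.fiberι (f x₀)) z) :=
        (isAssPoint_tensor_iff f E F _ (hflat _)).2 ⟨hyE', hrel⟩
      exact (length_one_of_G f E F _ (hflat _) hyE' hrel (hlen _ hx)).2
  · intro H
    refine ⟨(main2545 f E hE F hF hflat).2 (fun y hy => ⟨(H y hy).1, (H y hy).2.2.1⟩), ?_⟩
    intro x hx
    obtain ⟨hyE, hrel⟩ := (isAssPoint_tensor_iff f E F x (hflat x)).1 hx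
    have hnt := nontrivial_of_mem_relAss f F x hrel
    obtain ⟨-, hlenE, -, hlenF⟩ := H (f x) ⟨hyE, x, not_subsingleton_iff_nontrivial.2 hnt, rfl⟩
    rw [length_G_of_one f E F x hlenE]
    obtain ⟨z, hz⟩ := exists_fiberι_eq f x
    have hzA : Curv2.IsAssPoint ((Scheme.Modules.pullback (f.fiberι (f x))).obj F) z :=
      (Groth.Agent.Lib.RelAssBCSch.isAssPoint_fiber_iff f F (f x) z).2 (hz.symm ▸ hrel)
    have h1 := hlenF z hzA
    rw [length_fiber, hz] at h1
    exact h1

end Groth.Agent.Lib.AssTensH8
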